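import Mathlib
import Cfsg.Prelude.Def_Characters
import Cfsg.Prelude.Def_Blocks
import Cfsg.Agent.Lib.Helper62_A7Defs
import Cfsg.Agent.Lib.Helper80_CharBasic
import Cfsg.Agent.Lib.Helper17_Sylow
import Cfsg.Agent.Lib.Helper77_BlockBasics
import Cfsg.Agent.Lib.Helper75_SM_Base
import Cfsg.Agent.Lib.Helper60_A7_L7_ASM

/-!
# S0984 package L5-ASM (architect helper62): local analysis at the prime 5 in a simple group of order 2520
-/

set_option autoImplicit false
open Cfsg Cfsg.Agent.Lib.Helper80_CharBasic Cfsg.Agent.Lib.Helper62_A7Defs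

namespace Cfsg.Agent.Lib.Helper60_A7_L5_ASM

open Cfsg.Agent.Lib.Helper17_Sylow Cfsg.Agent.Lib.Helper75_SM_Base Subgroup
  Cfsg.Agent.Lib.Helper60_A7_L7_ASM

theorem loc5 {G : Type*} [Group G] [Finite G] [IsSimpleGroup G] [Fact (Nat.Prime 5)]
    (hG : Nat.card G = 2520)
    (h7 : ∀ x : G, orderOf x = 7 → Nat.card (Subgroup.centralizer ({x} : Set G)) = 7)
    (hodd : ∀ P : Sylow 5 G, ¬ 2 ∣ Nat.card (Subgroup.centralizer ((P : Subgroup G) : Set G))) :
    (∀ P : Sylow 5 G, Nat.card P = 5 ∧
      Nat.card (Subgroup.normalizer ((P : Subgroup G) : Set G)) = 20 ∧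
      Subgroup.centralizer ((P : Subgroup G) : Set G) = (P : Subgroup G)) ∧
    ∀ y : G, orderOf y = 5 → Nat.card (Subgroup.centralizer ({y} : Set G)) = 5 := by
  have hc : Nat.card G = 5 ^ 1 * 504 := by rw [hG]; norm_num
  have hm : ¬ 5 ∣ 504 := by norm_num
  have hna : ¬ IsMulCommutative G :=
    not_isMulCommutative_of_not_prime (by rw [hG]; norm_num)
  have hcand := card_sylow_mem_candidates hc hm
  have hlist : sylowCandidates 5 504 = [1, 6, 21, 36, 56, 126] := by decide
  rw [hlist] at hcand
  have h1 : 1 < Nat.card (Sylow 5 G) := one_lt_card_sylow_of_card hc hm (by norm_num) (by norm_num)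
  have hP5 : ∀ P : Sylow 5 G, Nat.card (P : Subgroup G) = 5 := by
    intro P
    have := card_sylow_eq_pow hc hm P
    rwa [pow_one] at this
  -- generalities on `C(P) ≤ N(P)`
  have hrel : ∀ P : Sylow 5 G,
      (centralizer ((P : Subgroup G) : Set G)).relIndex (normalizer ((P : Subgroup G) : Set G)) ∣ 4 :=
    fun P => relIndex_centralizer_normalizer_dvd_pred (p := 5) (P : Subgroup G) (hP5 P)
  have hmul : ∀ P : Sylow 5 G, Nat.card (centralizer ((P : Subgroup G) : Set G)) *
      (centralizer ((P : Subgroup G) : Set G)).relIndex (normalizer ((P : Subgroup G) : Set G)) =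
      Nat.card (normalizer ((P : Subgroup G) : Set G)) :=
    fun P => card_mul_relIndex_of_le (centralizer_le_normalizer _)
  have hPC : ∀ P : Sylow 5 G, (P : Subgroup G) ≤ centralizer ((P : Subgroup G) : Set G) := by
    intro P
    have hcyc : IsCyclic (P : Subgroup G) := isCyclic_of_prime_card (hP5 P)
    exact le_centralizer_of_isCyclic _
  have hdiv4 : ∀ k : ℕ, k ∣ 4 → k = 1 ∨ k = 2 ∨ k = 4 := by
    intro k hk
    have hle : k ≤ 4 := Nat.le_of_dvd (by norm_num) hk
    interval_cases k
    · simp at hk
    · left; rfl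
    · right; left; rfl
    · norm_num at hk
    · right; right; rfl
  have h6 : Nat.card (Sylow 5 G) ≠ 6 := by
    intro h
    exact fact_kill hna (p := 5) 6 h (by norm_num) (by rw [hG]; decide)
  have h56 : Nat.card (Sylow 5 G) ≠ 56 := by
    intro h
    exact burn_kill (p := 5) (m := 504) hc hm (by norm_num) 56 h (by decide)
  have h36 : Nat.card (Sylow 5 G) ≠ 36 := by
    intro h
    obtain ⟨P⟩ : Nonempty (Sylow 5 G) := inferInstance
    have hN : Nat.card (normalizer ((P : Subgroup G) : Set G)) = 70 := by
      have := card_normalizer_mul_card_sylow P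
      rw [h, hG] at this
      omega
    have h70 := hmul P
    rw [hN] at h70
    have h7C : 7 ∣ Nat.card (centralizer ((P : Subgroup G) : Set G)) := by
      rcases hdiv4 _ (hrel P) with hk | hk | hk
      · rw [hk, mul_one] at h70; rw [h70]; norm_num
      · rw [hk] at h70
        have : Nat.card (centralizer ((P : Subgroup G) : Set G)) = 35 := by omega
        rw [this]; norm_num
      · rw [hk] at h70; omega
    have : Fact (Nat.Prime 7) := ⟨by norm_num⟩
    obtain ⟨x, hx⟩ := exists_prime_orderOf_dvd_card' (G := centralizer ((P : Subgroup G) : Set G)) 7 h7C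
    have hx7 : orderOf (x : G) = 7 := by rw [Subgroup.orderOf_coe]; exact hx
    have hCx := h7 (x : G) hx7
    -- a generator of `P`
    have hnt : Nontrivial (P : Subgroup G) := by
      rw [← Finite.one_lt_card_iff_nontrivial, hP5 P]; norm_num
    obtain ⟨y, hy⟩ := exists_ne (1 : (P : Subgroup G))
    have hy5 : orderOf (y : G) = 5 := by
      rw [Subgroup.orderOf_coe]
      have hd : orderOf y ∣ 5 := by
        have := orderOf_dvd_natCard y
        rwa [hP5 P] at this
      rcases (Nat.dvd_prime (by norm_num : Nat.Prime 5)).1 hd with h1 | h1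
      · exact absurd (orderOf_eq_one_iff.1 h1) hy
      · exact h1
    have hyC : (y : G) ∈ centralizer ({(x : G)} : Set G) := by
      rw [Subgroup.mem_centralizer_iff]
      intro z hz
      rw [Set.mem_singleton_iff] at hz
      subst hz
      exact ((Subgroup.mem_centralizer_iff.1 x.2) (y : G) y.2).symm
    have hd : orderOf (y : G) ∣ 7 := by
      have := orderOf_dvd_natCard (⟨(y : G), hyC⟩ : centralizer ({(x : G)} : Set G))
      rwa [Subgroup.orderOf_mk, hCx] at this
    rw [hy5] at hd
    norm_num at hd
  have h21 : Nat.card (Sylow 5 G) ≠ 21 := by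
    intro h
    obtain ⟨P⟩ : Nonempty (Sylow 5 G) := inferInstance
    have hN : Nat.card (normalizer ((P : Subgroup G) : Set G)) = 120 := by
      have := card_normalizer_mul_card_sylow P
      rw [h, hG] at this
      omega
    have h120 := hmul P
    rw [hN] at h120
    apply hodd P
    rcases hdiv4 _ (hrel P) with hk | hk | hk
    · rw [hk, mul_one] at h120; rw [h120]; norm_num
    · rw [hk] at h120; omega
    · rw [hk] at h120; omega
  have h126 : Nat.card (Sylow 5 G) = 126 := by
    simp only [List.mem_cons, List.mem_nil_iff, or_false] at hcand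
    rcases hcand with h | h | h | h | h | h
    · omega
    · exact absurd h h6
    · exact absurd h h21
    · exact absurd h h36
    · exact absurd h h56
    · exact h
  have hall : ∀ P : Sylow 5 G, Nat.card P = 5 ∧
      Nat.card (Subgroup.normalizer ((P : Subgroup G) : Set G)) = 20 ∧
      Subgroup.centralizer ((P : Subgroup G) : Set G) = (P : Subgroup G) := by
    intro P
    have hN : Nat.card (normalizer ((P : Subgroup G) : Set G)) = 20 := by
      have := card_normalizer_mul_card_sylow P
      rw [h126, hG] at this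
      omega
    refine ⟨hP5 P, hN, ?_⟩
    have h20 := hmul P
    rw [hN] at h20
    have ho := hodd P
    symm
    apply Subgroup.eq_of_le_of_card_ge (hPC P)
    rw [hP5 P]
    rcases hdiv4 _ (hrel P) with hk | hk | hk
    · rw [hk, mul_one] at h20; rw [h20] at ho; exact absurd (by norm_num) ho
    · rw [hk] at h20
      have : Nat.card (centralizer ((P : Subgroup G) : Set G)) = 10 := by omega
      rw [this] at ho; exact absurd (by norm_num) ho
    · rw [hk] at h20; omega
  refine ⟨hall, ?_⟩
  intro y hy
  obtain ⟨P, hPy⟩ := exists_sylow_eq_zpowers (p := 5) hP5 y hy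
  have h3 := (hall P).2.2
  rw [← centralizer_zpowers, ← hPy, h3]
  exact (hall P).1

end Cfsg.Agent.Lib.Helper60_A7_L5_ASM
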