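/-
S4613, abstract part III.  Variant of `RootDat` (Helper68_AutU2) in which the subgroups `V i` (the unipotent radicals
of the minimal parabolic subgroups) are given directly instead of being derived from root subgroups:
`VDat.autUTrivial`, `VDat.autUTrivial_of_center_eq_bot`.
-/
import Mathlib
import Cfsg.Agent.Lib.Helper68_AutU2
import Cfsg.Agent.Lib.Helper68_AutUIso

set_option autoImplicit false
set_option linter.unusedSectionVars false

namespace Cfsg.Agent.Lib.Helper68_AutU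

open Cfsg Cfsg.Agent.Lib.Helper6_BNPair
open scoped Pointwise

/-- A `(B, N)`-pair `P` with: the unipotent radical `U` of `B` (normal `p`-subgroup of `B` of index prime to `p` in
`G`, `B = U (B ∩ N)`, `B ∩ N` a `p'`-group), an indexing `s : ι → G` of the distinguished generators, and for every
`i` a subgroup `V i ≤ U` normalised by `B` and by `s i` containing an element `v` with `s_j v s_j⁻¹ ∉ B` for every
`j ≠ i`; the elements of `B ∩ N` centralising `U` are central and `Z(G) ∩ U = 1`. -/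
structure VDat {G : Type*} [Group G] (p : ℕ) (P : BNPair G) (ι : Type*) where
  s : ι → G
  range_s : Set.range s = P.S
  U : Subgroup G
  V : ι → Subgroup G
  U_le : U ≤ P.B
  U_normal : ∀ b ∈ P.B, ∀ u ∈ U, b * u * b⁻¹ ∈ U
  U_pgroup : IsPGroup p U
  U_index : ¬ p ∣ U.index
  BUT : ∀ b ∈ P.B, ∃ u ∈ U, ∃ t ∈ P.B ⊓ P.N, b = u * t
  T_p' : ¬ p ∣ Nat.card ↥(P.B ⊓ P.N)
  V_le : ∀ i, V i ≤ U
  V_normB : ∀ i, ∀ b ∈ P.B, ∀ v ∈ V i, b * v * b⁻¹ ∈ V i
  V_norms : ∀ i, ∀ v ∈ V i, s i * v * (s i)⁻¹ ∈ V i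
  V_ne : ∀ i j, j ≠ i → ∃ v ∈ V i, s j * v * (s j)⁻¹ ∉ P.B
  torus_cent : ∀ t ∈ P.B ⊓ P.N, (∀ u ∈ U, t * u = u * t) → t ∈ Subgroup.center G
  center_U : ∀ z ∈ Subgroup.center G, z ∈ U → z = 1

section vdat

variable {G : Type*} [Group G] {p : ℕ} [Fact p.Prime] {ι : Type*} {P : BNPair G} (R : VDat p P ι)

theorem VDat.s_mem (i : ι) : R.s i ∈ P.S := by
  rw [← R.range_s]; exact ⟨i, rfl⟩

theorem VDat.par_eq (i : ι) : P.parabolic {R.s i} = P.B ⊔ Subgroup.closure {R.s i} := rfl

theorem VDat.s_mem_par (i : ι) : R.s i ∈ P.parabolic {R.s i} :=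
  closure_le_parabolic P _ (Subgroup.subset_closure rfl)

/-- `B s_i ⊆ U s_i B` -/
theorem VDat.cell (i : ι) {b : G} (hb : b ∈ P.B) : ∃ u ∈ R.U, ∃ b' ∈ P.B, b * R.s i = u * R.s i * b' := by
  obtain ⟨u, hu, t, ht, rfl⟩ := R.BUT b hb
  have hsN : (R.s i)⁻¹ ∈ P.N := P.N.inv_mem (P.subset (R.s_mem i))
  have h1 := P.conj_mem _ hsN t ht
  rw [inv_inv] at h1
  exact ⟨u, hu, _, h1, by group⟩

/-- elements of `P_i` outside `B` lie in `U s_i B` -/
theorem VDat.rank1 (i : ι) {g : G} (hg : g ∈ P.parabolic {R.s i}) :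
    g ∈ P.B ∨ ∃ u ∈ R.U, ∃ b ∈ P.B, g = u * R.s i * b := by
  rcases (mem_parabolic_singleton_iff P (R.s_mem i) g).1 hg with h | h
  · exact Or.inl h
  · right
    obtain ⟨x, hx, y, hy, rfl⟩ := (mem_C P).1 h
    obtain ⟨u, hu, b', hb', e⟩ := R.cell i hx
    exact ⟨u, hu, b' * y, P.B.mul_mem hb' hy, by rw [e]; group⟩

/-- `N_G(U) ≤ B` -/
theorem VDat.normalizer_le [Finite G] : Subgroup.normalizer (R.U : Set G) ≤ P.B := by
  have hB : P.B ≤ Subgroup.normalizer (R.U : Set G) := by
    intro b hb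
    rw [Subgroup.mem_normalizer_iff]
    intro h
    refine ⟨R.U_normal b hb h, fun hh => ?_⟩
    have := R.U_normal b⁻¹ (P.B.inv_mem hb) _ hh
    have e : b⁻¹ * (b * h * b⁻¹) * b⁻¹⁻¹ = h := by group
    rwa [e] at this
  have h1 := subgroup_eq_parabolic P hB
  have h2 : P.S ∩ ((Subgroup.normalizer (R.U : Set G) : Subgroup G) : Set G) = ∅ := by
    rw [Set.eq_empty_iff_forall_notMem]
    rintro s ⟨hsS, hsn⟩
    obtain ⟨b, hb, hnot⟩ := exists_not_mem_B P hsS
    apply hnot
    obtain ⟨u, hu, t, ht, rfl⟩ := R.BUT b hb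
    have h3 : s * u * s⁻¹ ∈ R.U := (Subgroup.mem_normalizer_iff.1 hsn u).1 hu
    have h4 : s * t * s⁻¹ ∈ P.B := P.conj_mem s (P.subset hsS) t ht
    have e : s * (u * t) * s = (s * u * s⁻¹) * (s * t * s⁻¹) * (s * s) := by group
    rw [e]
    exact P.B.mul_mem (P.B.mul_mem (R.U_le h3) h4) (P.sq_mem s hsS)
  rw [h2] at h1
  rw [h1]
  unfold BNPair.parabolic
  rw [Subgroup.closure_empty, sup_bot_eq]

include R in
theorem VDat.center_le_B [Finite G] : Subgroup.center G ≤ P.B := by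
  intro z hz
  apply R.normalizer_le
  rw [Subgroup.mem_normalizer_iff]
  intro h
  have e : z * h * z⁻¹ = h := by
    rw [(Subgroup.mem_center_iff.1 hz h).symm]; group
  rw [e]

/-- `C_G(U) ≤ U Z(G)` -/
theorem VDat.cent [Finite G] (g : G) (hg : ∀ u ∈ R.U, g * u = u * g) :
    ∃ u ∈ R.U, ∃ z ∈ Subgroup.center G, g = u * z := by
  have hp : p.Prime := Fact.out
  have hgB : g ∈ P.B := by
    apply R.normalizer_le
    rw [Subgroup.mem_normalizer_iff]
    intro h
    constructor
    · intro hh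
      have e : g * h * g⁻¹ = h := by rw [hg h hh]; group
      rw [e]; exact hh
    · intro hh
      have h2 := hg _ hh
      -- `g * (g h g⁻¹) = (g h g⁻¹) * g` gives `g h = h g`, so `g h g⁻¹ = h`
      have h3 : g * h = h * g := by
        have : g * (g * h * g⁻¹) * g = g * h * g⁻¹ * g * g := by rw [h2]
        have e1 : g * (g * h * g⁻¹) * g = g * (g * h) := by group
        have e2 : g * h * g⁻¹ * g * g = g * (h * g) := by group
        rw [e1, e2] at this
        exact mul_left_cancel this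
      have e : g * h * g⁻¹ = h := by rw [h3]; group
      rwa [e] at hh
  obtain ⟨u, hu, t, ht, rfl⟩ := R.BUT g hgB
  refine ⟨u, hu, t, ?_, rfl⟩
  apply R.torus_cent t ht
  -- `t` commutes with `u`
  have htu : Commute u t := by
    have h1 := hg u hu
    -- u * t * u = u * (u * t)
    show u * t = t * u
    have : u * (t * u) = u * (u * t) := by
      calc u * (t * u) = u * t * u := by group
        _ = u * (u * t) := h1
    exact (mul_left_cancel this).symm
  obtain ⟨k, hk⟩ := R.U_pgroup ⟨u, hu⟩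
  have hk' : u ^ p ^ k = 1 := by simpa using congrArg Subtype.val hk
  have hpow : (u * t) ^ p ^ k = t ^ p ^ k := by
    rw [htu.mul_pow, hk', one_mul]
  have hcop : Nat.Coprime (p ^ k) (orderOf t) := by
    apply Nat.Coprime.pow_left
    rw [Nat.Prime.coprime_iff_not_dvd hp]
    intro hdvd
    exact R.T_p' (dvd_trans hdvd (Subgroup.orderOf_dvd_natCard _ ht))
  obtain ⟨m, hm⟩ := exists_pow_eq_self_of_coprime hcop
  intro v hv
  have hcomm : Commute (u * t) v := hg v hv
  have : Commute (((u * t) ^ p ^ k) ^ m) v := (hcomm.pow_left _).pow_left _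
  rw [hpow, hm] at this
  exact this


/-- the data of `Helper68_AutU` -/
def VDat.toBDat [Finite G] : BDat p G ι where
  B := P.B
  U := R.U
  s := R.s
  V := R.V
  overgroup := by
    intro M hM
    have h1 := subgroup_eq_parabolic P hM
    have h2 : P.S ∩ (M : Set G) ⊆ R.s '' {i | R.s i ∈ M} := by
      rintro x ⟨hxS, hxM⟩
      rw [← R.range_s] at hxS
      obtain ⟨i, rfl⟩ := hxS
      exact ⟨i, hxM, rfl⟩
    calc M = P.parabolic (P.S ∩ (M : Set G)) := h1
      _ ≤ P.B ⊔ Subgroup.closure (R.s '' {i | R.s i ∈ M}) :=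
        sup_le_sup_left (Subgroup.closure_mono h2) _
  rank1 := fun i g hg => R.rank1 i hg
  s_not_mem := fun i => not_mem_B_of_mem_S P (R.s_mem i)
  U_le := R.U_le
  U_normal := R.U_normal
  U_pgroup := R.U_pgroup
  U_index := R.U_index
  V_le := R.V_le
  V_normB := R.V_normB
  V_norms := R.V_norms
  V_ne := R.V_ne

include R in
theorem VDat.autUTrivial [Finite G] : AutUTrivial p (G ⧸ Subgroup.center G) := by
  intro α hα Q hfix
  exact R.toBDat.aut_eq_one_of_surjective R.center_le_B R.center_U R.cent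
    (QuotientGroup.mk' (Subgroup.center G)) (QuotientGroup.mk'_surjective _)
    (QuotientGroup.ker_mk' _) α hα Q hfix

include R in
theorem VDat.autUTrivial_of_center_eq_bot [Finite G] (hZ : Subgroup.center G = ⊥) :
    AutUTrivial p G := by
  intro α hα Q hfix
  exact R.toBDat.aut_eq_one_of_surjective R.center_le_B R.center_U R.cent
    (MonoidHom.id G) (fun x => ⟨x, rfl⟩) (by rw [MonoidHom.ker_id, hZ]) α hα Q hfix

end vdat

end Cfsg.Agent.Lib.Helper68_AutU
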