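/-
A combinatorial certificate on the root systems of type G₂, B₂, D₄, F₄, E₆, E₇, E₈ (helper81): for two distinct
fundamental roots `p_k`, `p_i` there are positive roots `β`, `β' = β + p_k` which both involve `p_i`.  (Hence the
positive roots outside a proper subsystem `Φ_J` span the root lattice.)
-/
import Cfsg.Agent.Lib.Helper18_ChevAdd
import Cfsg.Prelude.Def_ChevG2
import Cfsg.Prelude.Def_ChevB2
import Cfsg.Prelude.Def_ChevD4
import Cfsg.Prelude.Def_ChevF4
import Cfsg.Prelude.Def_ChevE6
import Cfsg.Prelude.Def_ChevE7
import Cfsg.Prelude.Def_ChevE8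

set_option autoImplicit false

namespace Cfsg.Agent.Lib.Helper81_ChevParComb

open Cfsg Cfsg.Lie Cfsg.Agent.Lib.Helper18_ChevFacts

/-- The index of the root `β + p_k` (if it is a root; `0` otherwise). -/
def partner (D : ChevalleyDatum) (k β : ℕ) : ℕ := (D.chainRoot (D.simple k) β 1).getD 0

/-- `β` and `β + p_k` are positive roots involving `p_i`. -/
def CombAt (D : ChevalleyDatum) (k i β : ℕ) : Prop :=
  D.IsPosRoot β ∧ cor D β i ≠ 0 ∧
    partner D k β < D.nroots ∧ D.IsPosRoot (partner D k β) ∧ cor D (partner D k β) i ≠ 0 ∧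
      ∀ j < D.rank, D.cartan j (partner D k β) = D.cartan j β + D.cartan j (D.simple k)

instance (D : ChevalleyDatum) (k i β : ℕ) : Decidable (CombAt D k i β) := by
  unfold CombAt
  infer_instance

/-- For distinct `k`, `i` there is a positive root `β` involving `p_i` such that `β + p_k` is a positive root
involving `p_i` as well. -/
def CombOK (D : ChevalleyDatum) : Prop :=
  ∀ k < D.rank, ∀ i < D.rank, k ≠ i → ∃ β < D.nroots, CombAt D k i β

instance (D : ChevalleyDatum) : Decidable (CombOK D) := by
  unfold CombOK
  infer_instance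

set_option maxHeartbeats 0 in
theorem combOK_all (D : ChevalleyDatum)
    (hD : D ∈ [chevG2, chevB2, chevD4, chevF4, chevE6, chevE7, chevE8]) : CombOK D := by
  simp only [List.mem_cons, List.not_mem_nil, or_false] at hD
  rcases hD with rfl | rfl | rfl | rfl | rfl | rfl | rfl
  · decide +kernel
  · decide +kernel
  · decide +kernel
  · decide +kernel
  · decide +kernel
  · decide +kernel
  · decide +kernel

end Cfsg.Agent.Lib.Helper81_ChevParComb
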