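/-
Chevalley groups of type G₂, B₂, D₄, F₄, E₆, E₇, E₈ (helper81): the centralizer in a proper standard parabolic
subgroup `P_J` of its unipotent radical `U_J` lies in `U`; hence `F*(P_J) = O_p(P_J)`.
-/
import Mathlib
import Cfsg.Agent.Lib.Helper18_ChevRootHom
import Cfsg.Agent.Lib.Helper18_ChevData5
import Cfsg.Agent.Lib.Helper81_ChevParComb
import Cfsg.Agent.Lib.Helper49_CharP4

set_option autoImplicit false
set_option linter.unusedSectionVars false
set_option linter.unusedVariables false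

namespace Cfsg.Agent.Lib.Helper81_ChevParCent

open Cfsg Cfsg.Lie Cfsg.Agent.Lib.Helper18_ChevFast Cfsg.Agent.Lib.Helper18_ChevEngine
  Cfsg.Agent.Lib.Helper18_ChevR1 Cfsg.Agent.Lib.Helper18_ChevN Cfsg.Agent.Lib.Helper18_ChevR4
  Cfsg.Agent.Lib.Helper18_ChevSimple Cfsg.Agent.Lib.Helper18_ChevSimple2 Cfsg.Agent.Lib.Helper18_ChevFacts
  Cfsg.Agent.Lib.Helper18_ChevWeyl Cfsg.Agent.Lib.Helper18_ChevDiag Cfsg.Agent.Lib.Helper18_ChevCar
  Cfsg.Agent.Lib.Helper18_ChevTorus Cfsg.Agent.Lib.Helper18_ChevGL Cfsg.Agent.Lib.Helper18_ChevComm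
  Cfsg.Agent.Lib.Helper18_ChevComm2 Cfsg.Agent.Lib.Helper18_MatTri Cfsg.Agent.Lib.Helper18_ChevTri
  Cfsg.Agent.Lib.Helper18_ChevBorel Cfsg.Agent.Lib.Helper18_ChevAdd Cfsg.Agent.Lib.Helper18_ChevUni
  Cfsg.Agent.Lib.Helper18_ChevBN Cfsg.Agent.Lib.Helper18_ChevMono Cfsg.Agent.Lib.Helper18_ChevBNPair
  Cfsg.Agent.Lib.Helper18_ChevSimp Cfsg.Agent.Lib.Helper18_ChevJCerts Cfsg.Agent.Lib.Helper18_ChevLevi
  Cfsg.Agent.Lib.Helper18_ChevBruhat Cfsg.Agent.Lib.Helper18_ChevPar Cfsg.Agent.Lib.Helper18_ChevRootHom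
  Cfsg.Agent.Lib.Helper81_ChevParComb

variable {D : ChevalleyDatum} {Ns : List NData} {F : Type*} [Field F]
variable {wl : List ℤ} {ws : List (List ℤ)} {sc : ℤ} {w : List ℤ} {d : ℕ}

/-! ### Multiplicative functions on the roots -/

/-- The multiplicative function on the roots with values `a j` on the fundamental weights. -/
def mulF (D : ChevalleyDatum) {A : Type*} [CommGroup A] (a : ℕ → A) (r : ℕ) : A :=
  ∏ j ∈ Finset.range D.rank, a j ^ D.cartan j r

section MulF

variable {A : Type*} [CommGroup A]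

theorem mulF_add (a : ℕ → A) {β β' γ : ℕ}
    (h : ∀ j < D.rank, D.cartan j β' = D.cartan j β + D.cartan j γ) :
    mulF D a β' = mulF D a β * mulF D a γ := by
  unfold mulF
  rw [← Finset.prod_mul_distrib]
  apply Finset.prod_congr rfl
  intro j hj
  rw [h j (Finset.mem_range.mp hj), zpow_add]

theorem mulF_neg (c : DCert D Ns) (tc : TCert D) (a : ℕ → A) (r : ℕ) (hr : r < D.nroots) :
    mulF D a (D.neg r) = (mulF D a r)⁻¹ := by
  unfold mulF
  rw [← Finset.prod_inv_distrib]
  apply Finset.prod_congr rfl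
  intro j hj
  rw [(tc.carCompat c).neg r hr j (Finset.mem_range.mp hj), zpow_neg]

theorem cartan_reflect (c : DCert D Ns) (i : ℕ) (hi : i < D.rank) (s : ℕ) (hs : s < D.nroots) (j : ℕ)
    (hj : j < D.rank) :
    D.cartan j (D.reflectRoot i s) = D.cartan j s - D.cartan j (D.simple i) * D.cartan i s := by
  have fs := facts c.rows (c.ncert i hi) _ (c.reflect_lt i hi s hs)
  have := fs.car j hj
  rw [c.reflect_reflect i hi s hs] at this
  exact this

theorem mulF_reflect (c : DCert D Ns) (i : ℕ) (hi : i < D.rank) (a : ℕ → A) (s : ℕ) (hs : s < D.nroots) :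
    mulF D a (D.reflectRoot i s) = mulF D a s * (mulF D a (D.simple i)) ^ (- D.cartan i s) := by
  unfold mulF
  rw [← Finset.prod_zpow, ← Finset.prod_mul_distrib]
  apply Finset.prod_congr rfl
  intro j hj
  rw [cartan_reflect c i hi s hs j (Finset.mem_range.mp hj), ← zpow_mul, ← zpow_add]
  congr 1
  ring

/-- A fundamental reflection with positive Cartan integer lowers the index of the root. -/
theorem reflect_lt_of_cartan_pos (c : DCert D Ns) (tc : TCert D) (ac : ACert D wl ws sc) (j : ℕ) (hj : j < D.rank)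
    (r : ℕ) (hr : r < D.nroots) (hcar : 0 < D.cartan j r) : D.reflectRoot j r < r := by
  have egl := grF_reflect c j hj (fun k => wl.getD k 0) r hr
  apply ac.lt_of_gl_lt _ _ (c.reflect_lt j hj r hr)
  have hp := ac.gl_pos _ (tc.simple_pos j hj)
  unfold gl at hp ⊢
  rw [grRoot_eq_grF, grRoot_eq_grF, egl]
  rw [grRoot_eq_grF] at hp
  nlinarith

/-- A multiplicative function that is trivial on the positive roots outside a proper subsystem `Φ_J` is trivial. -/
theorem mulF_eq_one (c : DCert D Ns) (tc : TCert D) (ac : ACert D wl ws sc) (hdesc : Descent D)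
    (hcomb : CombOK D) (J : Set ℕ) (hJ : ∃ i, i < D.rank ∧ i ∉ J) (a : ℕ → A)
    (h : ∀ β, D.IsPosRoot β → ¬ D.InRootSub J β → mulF D a β = 1) : ∀ r < D.nroots, mulF D a r = 1 := by
  obtain ⟨i, hi, hiJ⟩ := hJ
  have hnot : ∀ β, cor D β i ≠ 0 → ¬ D.InRootSub J β := fun β hne hin => hne (hin.2 i hi hiJ)
  have hsimple : ∀ k < D.rank, mulF D a (D.simple k) = 1 := by
    intro k hk
    by_cases hki : k = i
    · subst hki
      apply h _ (tc.simple_pos k hk)
      apply hnot
      rw [tc.simple_cor k hk k hk, if_pos rfl]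
      exact one_ne_zero
    · obtain ⟨β, hβ, hpos, hcor, hβ', hpos', hcor', hadd⟩ := hcomb k hk i hi hki
      have e := mulF_add a hadd
      rw [h _ hpos' (hnot _ hcor'), h _ hpos (hnot _ hcor), one_mul] at e
      exact e.symm
  have hpos : ∀ r, D.IsPosRoot r → mulF D a r = 1 := by
    intro r
    induction r using Nat.strong_induction_on with
    | _ r ih =>
      intro hr
      rcases hdesc r hr.1 hr with ⟨k, hk, rfl⟩ | ⟨j, hj, hcar, hpos'⟩
      · exact hsimple k hk
      · have hlt := reflect_lt_of_cartan_pos c tc ac j hj r hr.1 hcar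
        have e := mulF_reflect c j hj a r hr.1
        rw [hsimple j hj, one_zpow, mul_one] at e
        rw [← e]
        exact ih _ hlt hpos'
  intro r hr
  rcases ac.posOrNeg r hr with hp | hn
  · exact hpos r hp
  · have := hpos _ (neg_isPos c tc ac r hn)
    rw [mulF_neg c tc a r hr] at this
    exact inv_eq_one.mp this

end MulF

/-! ### Additive functions -/

theorem mulF_ofAdd (v : ℕ → ℤ) (s : ℕ) :
    mulF D (fun j => Multiplicative.ofAdd (v j)) s = Multiplicative.ofAdd (grF D v s) := by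
  unfold mulF grF
  rw [ofAdd_sum]
  apply Finset.prod_congr rfl
  intro j _
  rw [← ofAdd_zsmul, smul_eq_mul, mul_comm]

theorem grF_sub (v v' : ℕ → ℤ) (s : ℕ) : grF D (fun j => v j - v' j) s = grF D v s - grF D v' s := by
  unfold grF
  rw [← Finset.sum_sub_distrib]
  apply Finset.sum_congr rfl
  intro j _
  ring

/-- A linear map of the roots that fixes the positive roots outside a proper subsystem `Φ_J` is the identity. -/
theorem linMap_eq_id (c : DCert D Ns) (tc : TCert D) (ac : ACert D wl ws sc) (hdesc : Descent D)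
    (hcomb : CombOK D) (J : Set ℕ) (hJ : ∃ i, i < D.rank ∧ i ∉ J) {π : ℕ → ℕ} (hπ : LinMap D π)
    (hfix : ∀ β, D.IsPosRoot β → ¬ D.InRootSub J β → π β = β) : ∀ r < D.nroots, π r = r := by
  intro r hr
  obtain ⟨w', hw'⟩ := hπ.2.2 (fun k => wl.getD k 0)
  have key := mulF_eq_one c tc ac hdesc hcomb J hJ
    (fun j => Multiplicative.ofAdd ((fun k => wl.getD k 0) j - w' j)) (by
      intro β hβ hβJ
      rw [mulF_ofAdd, grF_sub, ← hw' β hβ.1, hfix β hβ hβJ, sub_self]
      rfl) r hr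
  rw [mulF_ofAdd, grF_sub, ← hw' r hr] at key
  have h0 : grF D (fun k => wl.getD k 0) r - grF D (fun k => wl.getD k 0) (π r) = 0 := by
    have := congrArg Multiplicative.toAdd key
    simpa using this
  apply gl_inj ac _ _ (hπ.1 r hr) hr
  unfold gl
  rw [grRoot_eq_grF, grRoot_eq_grF]
  omega

/-! ### Characters of the torus -/

theorem mulF_units (τ : ℕ → F) (hτ : ∀ i, τ i ≠ 0) (s : ℕ) :
    ((mulF D (fun j => Units.mk0 (τ j) (hτ j)) s : Fˣ) : F) = torusChar D τ s := by
  unfold mulF torusChar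
  rw [Units.coe_prod]
  apply Finset.prod_congr rfl
  intro j _
  rw [Units.val_zpow_eq_zpow_val, Units.val_mk0]

/-- A torus element whose characters at the positive roots outside a proper subsystem `Φ_J` are trivial is
trivial. -/
theorem torusMat_eq_one (c : DCert D Ns) (tc : TCert D) (ac : ACert D wl ws sc) (hdesc : Descent D)
    (hcomb : CombOK D) (J : Set ℕ) (hJ : ∃ i, i < D.rank ∧ i ∉ J) (τ : ℕ → F) (hτ : ∀ i, τ i ≠ 0)
    (h : ∀ β, D.IsPosRoot β → ¬ D.InRootSub J β → torusChar D τ β = 1) : torusMat D τ = 1 := by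
  have key := mulF_eq_one c tc ac hdesc hcomb J hJ (fun j => Units.mk0 (τ j) (hτ j)) (by
    intro β hβ hβJ
    apply Units.ext
    rw [mulF_units, h β hβ hβJ]
    rfl)
  rw [← torusMat_one]
  unfold torusMat
  apply diagMat_congr
  intro s hs
  rw [torusChar_one, ← mulF_units τ hτ s, key s hs]
  rfl

/-! ### Conjugates of root elements under `B` -/

/-- The entry of `u x_β(t) u⁻¹`, `u ∈ U`, in the row of `h_i` and the column of `e_{-β}`. -/
theorem entry_conj_pos (c : DCert D Ns) (tc : TCert D) (ac : ACert D wl ws sc) (gc : GCert D w d)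
    (u : GL D.Idx F) (hu : u ∈ D.posUnipotent F) (β : ℕ) (hβ : D.IsPosRoot β) (hnβ : D.neg β < D.nroots)
    (i : Fin D.rank) (t : F) :
    ((u * xGL c β t * u⁻¹ : GL D.Idx F) : Matrix D.Idx D.Idx F) (Sum.inl i) (Sum.inr ⟨D.neg β, hnβ⟩) =
      ((cor D β i : ℤ) : F) * t := by
  have hd : (1 : ℤ) ≤ d := by exact_mod_cast gc.d_pos
  have hm : (d : ℤ) ≤ grRoot D w β := by
    have := gc.pos β hβ.1 hβ
    rwa [grL_eq] at this
  have hU := posUnipotent_le_tri c tc gc hu
  have hU' := posUnipotent_le_tri c tc gc (Subgroup.inv_mem _ hu)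
  have hU0 : Raises (gradU D w) 0 ((u⁻¹ : GL D.Idx F) : Matrix D.Idx D.Idx F) := raises_zero_of_mem hU'
  rw [mem_triSubgroup] at hU hU'
  have hX : Raises (gradU D w) (grRoot D w β) (D.x F β t - 1) :=
    x_sub_one_raises (isGrading_w c tc w) β hβ.1 _ (by omega) (le_refl _) t
  have hMM' : (u : Matrix D.Idx D.Idx F) * ((u⁻¹ : GL D.Idx F) : Matrix D.Idx D.Idx F) = 1 := by
    rw [← Units.val_mul, mul_inv_cancel, Units.val_one]
  rw [Units.val_mul, Units.val_mul, xGL_coe]
  generalize (u : Matrix D.Idx D.Idx F) = M at hU hMM' ⊢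
  generalize ((u⁻¹ : GL D.Idx F) : Matrix D.Idx D.Idx F) = M' at hU' hU0 hMM' ⊢
  have e : M * D.x F β t * M' - D.x F β t =
      (M - 1) * (D.x F β t - 1) * M' + (D.x F β t - 1) * (M' - 1) := by
    have : (M - 1) * (D.x F β t - 1) * M' + (D.x F β t - 1) * (M' - 1) =
        M * D.x F β t * M' - M * M' - D.x F β t + 1 := by noncomm_ring
    rw [this, hMM']
    abel
  have hR : Raises (gradU D w) ((d : ℤ) + grRoot D w β) (M * D.x F β t * M' - D.x F β t) := by
    rw [e]
    have h1 := (hU.mul hX).mul hU0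
    have h2 := hX.mul hU'
    exact (h1.mono (by omega)).add (h2.mono (by omega))
  have hz := hR (Sum.inl i) (Sum.inr ⟨D.neg β, hnβ⟩) (by
    show (0 : ℤ) < grRoot D w (D.neg β) + ((d : ℤ) + grRoot D w β)
    rw [grRoot_neg c tc w β hβ.1]
    omega)
  rw [Matrix.sub_apply, sub_eq_zero] at hz
  rw [x_entry_inl_neg c tc ac β β hβ.1 hβ.1 hnβ, if_pos rfl] at hz
  exact hz

/-- The same entry for the conjugate under `u h`, where `h` acts on `X_β` by the scalar `a`. -/
theorem entry_conj_borel (c : DCert D Ns) (tc : TCert D) (ac : ACert D wl ws sc) (gc : GCert D w d)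
    (u : GL D.Idx F) (hu : u ∈ D.posUnipotent F) (h : GL D.Idx F) (β : ℕ) (hβ : D.IsPosRoot β)
    (hnβ : D.neg β < D.nroots) (a : F) (ha : ∀ t : F, h * xGL c β t * h⁻¹ = xGL c β (a * t))
    (i : Fin D.rank) (t : F) :
    (((u * h) * xGL c β t * (u * h)⁻¹ : GL D.Idx F) : Matrix D.Idx D.Idx F) (Sum.inl i)
      (Sum.inr ⟨D.neg β, hnβ⟩) = ((cor D β i : ℤ) : F) * (a * t) := by
  have e : (u * h) * xGL c β t * (u * h)⁻¹ = u * (h * xGL c β t * h⁻¹) * u⁻¹ := by group
  rw [e, ha t]
  exact entry_conj_pos c tc ac gc u hu β hβ hnβ i (a * t)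

/-- A conjugate under `B` of a non-trivial element of `X_β`, `β` positive, lies in no other root subgroup. -/
theorem root_eq_of_borel_conj (c : DCert D Ns) (tc : TCert D) (ac : ACert D wl ws sc) (gc : GCert D w d)
    (b₀ : GL D.Idx F) (hb₀ : b₀ ∈ D.borelSubgroup F) (β : ℕ) (hβ : D.IsPosRoot β) (γ : ℕ) (hγ : γ < D.nroots)
    (s t : F) (ht : t ≠ 0) (e : b₀ * xGL c β t * b₀⁻¹ = xGL c γ s) : γ = β := by
  obtain ⟨u, hu, h, hh, rfl⟩ := exists_mul_of_mem_sup _ _ (diagonal_le_normalizer_pos c tc) hb₀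
  obtain ⟨-, a, ha, ea⟩ := actsAs_diagonal c tc h hh β hβ.1
  by_contra hne
  have hnβ := DCert.neg_lt c β hβ.1
  apply mul_ne_zero ha ht
  apply eq_zero_of_cor_mul ac β hβ.1
  intro i hi
  have h1 := entry_conj_borel c tc ac gc u hu h β hβ hnβ a ea ⟨i, hi⟩ t
  rw [e, xGL_coe, x_entry_inl_neg c tc ac β γ hβ.1 hγ hnβ, if_neg hne] at h1
  exact h1.symm

/-! ### The centralizer of `U_J` in `P_J` -/

/-- An element of a proper parabolic subgroup `P_J` that centralizes the root subgroups of `U_J` lies in `U`. -/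
theorem mem_pos_of_centralizes (c : DCert D Ns) (tc : TCert D) (ac : ACert D wl ws sc) (gc : GCert D w d)
    (hdesc : Descent D) (hR2 : R2All D F) (hcomb : CombOK D) (J : Set ℕ) (hJ : ∃ i, i < D.rank ∧ i ∉ J)
    (g : GL D.Idx F) (hg : g ∈ D.parabolicSubgroup F J)
    (hcomm : ∀ β, D.IsPosRoot β → ¬ D.InRootSub J β → ∀ t : F, g * xGL c β t = xGL c β t * g) :
    g ∈ D.posUnipotent F := by
  have hgG := parabolic_le_group c J hg
  obtain ⟨b, hb, n, hn, u, hu, e⟩ := canonical_exists c tc ac gc hdesc hR2 g hgG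
  have huU : u ∈ D.posUnipotent F := flipGens_le_pos n hu
  have huB : u ∈ D.borelSubgroup F := Subgroup.mem_sup_left huU
  obtain ⟨π, hact, hlin⟩ := nAct_of_mem_monomial c tc n hn
  -- `g` commutes with `U_J`
  have hUJ : ∀ x ∈ D.unipotentRadical F J, g * x = x * g := by
    intro x hx
    have hle : D.unipotentRadical F J ≤ Subgroup.centralizer {g} := by
      rw [unipotentRadical_eq, Subgroup.closure_le]
      rintro y ⟨r, t, hr, hrJ, hy⟩
      rw [SetLike.mem_coe, Subgroup.mem_centralizer_iff]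
      intro z hz
      rw [Set.mem_singleton_iff] at hz
      subst hz
      rw [eq_xGL c hy]
      exact hcomm r hr hrJ t
    exact Subgroup.mem_centralizer_iff.mp (hle hx) g rfl
  -- `B` normalizes `U_J`
  have hnorm : ∀ v ∈ D.borelSubgroup F, ∀ x ∈ D.unipotentRadical F J,
      v⁻¹ * x * v ∈ D.unipotentRadical F J := by
    intro v hv x hx
    have hvN := parabolic_le_normalizer J c tc ac hR2 (borel_le_parabolic J hv)
    have := (Subgroup.mem_normalizer_iff.mp (Subgroup.inv_mem _ hvN) x).mp hx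
    rwa [inv_inv] at this
  -- on `U_J`, `n` acts as an element of `B`
  have hconj : ∀ β, D.IsPosRoot β → ¬ D.InRootSub J β → ∀ t : F,
      n * xGL c β t * n⁻¹ = (u * b)⁻¹ * xGL c β t * ((u * b)⁻¹)⁻¹ := by
    intro β hβ hβJ t
    have hx : xGL c β t ∈ D.unipotentRadical F J :=
      Subgroup.subset_closure ⟨β, t, hβ, hβJ, xGL_coe c β t⟩
    have hy := hnorm u huB _ hx
    have hgy := hUJ _ hy
    have hn' : n = b⁻¹ * g * u⁻¹ := by rw [e]; group
    rw [hn']
    calc b⁻¹ * g * u⁻¹ * xGL c β t * (b⁻¹ * g * u⁻¹)⁻¹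
        = b⁻¹ * (g * (u⁻¹ * xGL c β t * u)) * g⁻¹ * b := by group
      _ = b⁻¹ * ((u⁻¹ * xGL c β t * u) * g) * g⁻¹ * b := by rw [hgy]
      _ = (u * b)⁻¹ * xGL c β t * ((u * b)⁻¹)⁻¹ := by group
  -- the map of the roots by which `n` acts fixes the roots of `U_J`
  have hfix : ∀ β, D.IsPosRoot β → ¬ D.InRootSub J β → π β = β := by
    intro β hβ hβJ
    obtain ⟨hπβ, a, ha, ea⟩ := hact β hβ.1
    have e1 := hconj β hβ hβJ 1
    rw [ea 1] at e1
    exact root_eq_of_borel_conj c tc ac gc ((u * b)⁻¹)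
      (Subgroup.inv_mem _ (Subgroup.mul_mem _ huB hb)) β hβ (π β) hπβ (a * 1) 1 one_ne_zero e1.symm
  have hid := linMap_eq_id c tc ac hdesc hcomb J hJ hlin hfix
  -- `n ∈ H`
  have hnH : n ∈ D.diagonalSubgroup F := by
    have h1 : rootHom c tc ac (⟨n, hn⟩ : ↥(D.monomialSubgroup F)) = 1 :=
      rootHom_eq_of_actsAs c tc ac ⟨n, hn⟩ hact 1 (fun r => (hid r r.2).symm)
    exact mem_diagonal_of_rootHom_eq_one c tc ac gc hR2 ⟨n, hn⟩ h1
  -- `g ∈ B`
  have hgB : g ∈ D.borelSubgroup F := by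
    rw [e]
    exact Subgroup.mul_mem _ (Subgroup.mul_mem _ hb (Subgroup.mem_sup_right hnH)) huB
  obtain ⟨u₁, hu₁, h₁, hh₁, e₁⟩ := exists_mul_of_mem_sup _ _ (diagonal_le_normalizer_pos c tc) hgB
  obtain ⟨τ, hτ, hk⟩ := exists_torus_of_mem c tc h₁ hh₁
  have hconjτ : ∀ r < D.nroots, ∀ t : F, h₁ * xGL c r t * h₁⁻¹ = xGL c r (torusChar D τ r * t) := by
    intro r hr t
    rw [mul_inv_eq_iff_eq_mul]
    apply Units.ext
    rw [Units.val_mul, Units.val_mul, xGL_coe, hk, xGL_coe]
    exact torus_conj c tc τ hτ r hr t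
  have hχ : ∀ β, D.IsPosRoot β → ¬ D.InRootSub J β → torusChar D τ β = 1 := by
    intro β hβ hβJ
    have hnβ := DCert.neg_lt c β hβ.1
    have hfixg : g * xGL c β 1 * g⁻¹ = xGL c β 1 := by
      rw [hcomm β hβ hβJ 1]
      group
    have h0 : torusChar D τ β - 1 = 0 := by
      apply eq_zero_of_cor_mul ac β hβ.1
      intro i hi
      have h1 := entry_conj_borel c tc ac gc u₁ hu₁ h₁ β hβ hnβ _ (hconjτ β hβ.1) ⟨i, hi⟩ 1
      rw [← e₁, hfixg, xGL_coe, x_entry_inl_neg c tc ac β β hβ.1 hβ.1 hnβ, if_pos rfl] at h1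
      have h2 : ((cor D β i : ℤ) : F) * 1 = ((cor D β i : ℤ) : F) * (torusChar D τ β * 1) := h1
      linear_combination -h2
    exact sub_eq_zero.mp h0
  have hT := torusMat_eq_one c tc ac hdesc hcomb J hJ τ hτ hχ
  have hh1 : h₁ = 1 := Units.ext (by rw [hk, hT]; rfl)
  rw [e₁, hh1, mul_one]
  exact hu₁

/-! ### `F*(P_J)` is a `p`-group -/

theorem isPGroup_posUnipotent [Fintype F] (p : ℕ) [Fact p.Prime] [CharP F p] (c : DCert D Ns) (tc : TCert D)
    (ac : ACert D wl ws sc) (hR2 : R2All D F) : IsPGroup p ↥(D.posUnipotent F) := by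
  obtain ⟨n, -, hcard⟩ := FiniteField.card F p
  apply IsPGroup.of_card (n := (n : ℕ) * (D.nroots / 2))
  rw [card_posUnipotent c tc ac hR2, hcard, pow_mul]

theorem unipotentRadical_le_pos (J : Set ℕ) : D.unipotentRadical F J ≤ D.posUnipotent F := by
  rw [unipotentRadical_eq, Subgroup.closure_le]
  rintro g ⟨r, t, hr, -, hg⟩
  exact Subgroup.subset_closure ⟨r, t, hr, hg⟩

/-- A proper standard parabolic subgroup of a Chevalley group over a finite field of characteristic `p` has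
characteristic `p`. -/
theorem parabolic_isCharP [Fintype F] (p : ℕ) [Fact p.Prime] [CharP F p] (D : ChevalleyDatum)
    (hD : D ∈ [chevG2, chevB2, chevD4, chevF4, chevE6, chevE7, chevE8]) (J : Set ℕ)
    (hJ : ∃ i, i < D.rank ∧ i ∉ J) :
    Cfsg.Agent.Lib.Helper49_CharP.IsCharP p ↥(D.parabolicSubgroup F J) := by
  obtain ⟨Ns, w, d, Ts, hT, K, base, stepT, wl, ws, sc, c, tc, gc, pc, ac⟩ :=
    Cfsg.Agent.Lib.Helper18_ChevData5.exists_cert5 D hD
  have hR2 : R2All D F := r2_all c pc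
  have hdesc := descent_all D hD
  have hcomb := combOK_all D hD
  have hUp : IsPGroup p ↥(D.posUnipotent F) := isPGroup_posUnipotent p c tc ac hR2
  have hUP : IsPGroup p ↥((D.posUnipotent F).subgroupOf (D.parabolicSubgroup F J)) := hUp.comap_subtype
  have hNle : D.unipotentRadical F J ≤ D.parabolicSubgroup F J := unipotentRadical_le_parabolic J
  have hNnormal : ((D.unipotentRadical F J).subgroupOf (D.parabolicSubgroup F J)).Normal :=
    (Subgroup.normal_subgroupOf_iff_le_normalizer hNle).mpr (parabolic_le_normalizer J c tc ac hR2)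
  have hNU : (D.unipotentRadical F J).subgroupOf (D.parabolicSubgroup F J) ≤
      (D.posUnipotent F).subgroupOf (D.parabolicSubgroup F J) := by
    intro x hx
    rw [Subgroup.mem_subgroupOf] at hx ⊢
    exact unipotentRadical_le_pos J hx
  have hNp : IsPGroup p ↥((D.unipotentRadical F J).subgroupOf (D.parabolicSubgroup F J)) := hUP.to_le hNU
  have hN_le_core := Cfsg.Agent.Lib.Helper49_CharP.le_pCore hNnormal hNp
  have hCnormal : (Subgroup.centralizer
      (((D.unipotentRadical F J).subgroupOf (D.parabolicSubgroup F J) :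
        Subgroup ↥(D.parabolicSubgroup F J)) : Set ↥(D.parabolicSubgroup F J))).Normal :=
    Subgroup.normal_centralizer
  have hCU : Subgroup.centralizer
      (((D.unipotentRadical F J).subgroupOf (D.parabolicSubgroup F J) :
        Subgroup ↥(D.parabolicSubgroup F J)) : Set ↥(D.parabolicSubgroup F J)) ≤
      (D.posUnipotent F).subgroupOf (D.parabolicSubgroup F J) := by
    intro x hx
    rw [Subgroup.mem_subgroupOf]
    apply mem_pos_of_centralizes c tc ac gc hdesc hR2 hcomb J hJ (x : GL D.Idx F) x.2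
    intro β hβ hβJ t
    have hmem : xGL c β t ∈ D.unipotentRadical F J :=
      Subgroup.subset_closure ⟨β, t, hβ, hβJ, xGL_coe c β t⟩
    have h1 := Subgroup.mem_centralizer_iff.mp hx ⟨xGL c β t, hNle hmem⟩ (by
      rw [SetLike.mem_coe, Subgroup.mem_subgroupOf]
      exact hmem)
    have h2 := congrArg Subtype.val h1
    exact h2.symm
  have hCp := hUP.to_le hCU
  have hC_le_core := Cfsg.Agent.Lib.Helper49_CharP.le_pCore hCnormal hCp
  intro x hx
  apply hC_le_core
  exact Subgroup.centralizer_le hN_le_core hx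

/-- The generalized Fitting subgroup of a proper standard parabolic subgroup is a `p`-group. -/
theorem parabolic_fstar_isPGroup [Fintype F] (p : ℕ) [Fact p.Prime] [CharP F p] (D : ChevalleyDatum)
    (hD : D ∈ [chevG2, chevB2, chevD4, chevF4, chevE6, chevE7, chevE8]) (J : Set ℕ)
    (hJ : ∃ i, i < D.rank ∧ i ∉ J) :
    IsPGroup p ↥(Cfsg.generalizedFittingSubgroup ↥(D.parabolicSubgroup F J)) := by
  have hchar := parabolic_isCharP (F := F) p D hD J hJ
  rw [Cfsg.Agent.Lib.Helper49_CharP.IsCharP.generalizedFitting_eq hchar]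
  exact Cfsg.Agent.Lib.Helper49_CharP.pCore_isPGroup p _

end Cfsg.Agent.Lib.Helper81_ChevParCent
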