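/-
S4613 package CHEV (architect helper68), generic part (helper60): for a Chevalley group of one of the seven
tabulated types over a finite field of characteristic `p`, the data `VDat` of `Helper68_AutU3` on the `(B, N)`-pair
of `Helper18_ChevBNPair.exists_bnPair`, hence `AutUTrivial p` once the normal core of `B` is trivial.
-/
import Mathlib
import Cfsg.Agent.Lib.Helper68_AutU3
import Cfsg.Agent.Lib.Helper81_DZChevB
import Cfsg.Agent.Lib.Helper81_ChevParCent
import Cfsg.Agent.Lib.Helper81_ChevParComb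

set_option autoImplicit false
set_option linter.unusedSectionVars false
set_option linter.unusedVariables false

namespace Cfsg.Agent.Lib.Helper60_AutU_CHEVaux

open Cfsg Cfsg.Lie Cfsg.Agent.Lib.Helper18_ChevFast Cfsg.Agent.Lib.Helper18_ChevEngine
  Cfsg.Agent.Lib.Helper18_ChevR1 Cfsg.Agent.Lib.Helper18_ChevN Cfsg.Agent.Lib.Helper18_ChevR4
  Cfsg.Agent.Lib.Helper18_ChevSimple Cfsg.Agent.Lib.Helper18_ChevSimple2 Cfsg.Agent.Lib.Helper18_ChevFacts
  Cfsg.Agent.Lib.Helper18_ChevWeyl Cfsg.Agent.Lib.Helper18_ChevDiag Cfsg.Agent.Lib.Helper18_ChevCar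
  Cfsg.Agent.Lib.Helper18_ChevTorus Cfsg.Agent.Lib.Helper18_ChevGL Cfsg.Agent.Lib.Helper18_ChevComm
  Cfsg.Agent.Lib.Helper18_ChevComm2 Cfsg.Agent.Lib.Helper18_MatTri Cfsg.Agent.Lib.Helper18_ChevTri
  Cfsg.Agent.Lib.Helper18_ChevBorel Cfsg.Agent.Lib.Helper18_ChevAdd Cfsg.Agent.Lib.Helper18_ChevUni
  Cfsg.Agent.Lib.Helper18_ChevBN Cfsg.Agent.Lib.Helper18_ChevMono Cfsg.Agent.Lib.Helper18_ChevBNPair
  Cfsg.Agent.Lib.Helper18_ChevSimp Cfsg.Agent.Lib.Helper18_ChevJCerts Cfsg.Agent.Lib.Helper18_ChevLevi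
  Cfsg.Agent.Lib.Helper18_ChevBruhat Cfsg.Agent.Lib.Helper18_ChevPar Cfsg.Agent.Lib.Helper18_ChevRootHom
  Cfsg.Agent.Lib.Helper18_ChevOrder Cfsg.Agent.Lib.Helper18_ChevSylow
  Cfsg.Agent.Lib.Helper6_Word Cfsg.Agent.Lib.Helper6_BNPair
  Cfsg.Agent.Lib.Helper81_ChevLenBN Cfsg.Agent.Lib.Helper81_DZChevA Cfsg.Agent.Lib.Helper81_ChevSt
  Cfsg.Agent.Lib.Helper81_ChevParComb Cfsg.Agent.Lib.Helper81_ChevParCent
  Cfsg.Agent.Lib.Helper68_AutU

variable {D : ChevalleyDatum} {Ns : List NData} {F : Type*} [Field F]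
variable {wl : List ℤ} {ws : List (List ℤ)} {sc : ℤ} {w : List ℤ} {d : ℕ}

/-- distinct fundamental indices have distinct fundamental roots -/
theorem simple_inj' (tc : TCert D) {i k : ℕ} (hi : i < D.rank) (hk : k < D.rank)
    (h : D.simple i = D.simple k) : i = k := by
  have h1 := tc.simple_cor i hi i hi
  rw [h, tc.simple_cor k hk i hi, if_pos rfl] at h1
  by_contra hne
  rw [if_neg hne] at h1
  exact zero_ne_one h1

/-- A diagonal element centralising `U` is trivial. -/
theorem diagonal_cent_eq_one (c : DCert D Ns) (tc : TCert D) (ac : ACert D wl ws sc) (gc : GCert D w d)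
    (hdesc : Descent D) (hR2 : R2All D F) (hcomb : CombOK D) (hrank : 0 < D.rank)
    (t : GL D.Idx F) (ht : t ∈ D.diagonalSubgroup F)
    (hcent : ∀ u ∈ D.posUnipotent F, t * u = u * t) : t = 1 := by
  have htB : t ∈ D.borelSubgroup F := Subgroup.mem_sup_right ht
  have h1 : t ∈ D.posUnipotent F := by
    apply mem_pos_of_centralizes c tc ac gc hdesc hR2 hcomb ∅ ⟨0, hrank, fun h => h⟩ t
      (borel_le_parabolic ∅ htB)
    intro β hβ _ a
    exact hcent _ (Subgroup.subset_closure ⟨β, a, hβ, xGL_coe c β a⟩)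
  have h2 : t ∈ D.posUnipotent F ⊓ D.diagonalSubgroup F := Subgroup.mem_inf.mpr ⟨h1, ht⟩
  rw [pos_inf_diagonal c tc gc] at h2
  exact Subgroup.mem_bot.mp h2


section bn

variable (P : Cfsg.BNPair ↥(D.group F))
  (hB : P.B = (D.borelSubgroup F).subgroupOf (D.group F))
  (hN : P.N = (D.monomialSubgroup F).subgroupOf (D.group F))
  (hS : P.S = {n : ↥(D.group F) | ∃ i < D.rank,
        ((n : GL D.Idx F) : Matrix D.Idx D.Idx F) = D.nMat F (D.simple i) 1})

include hB hN in
theorem mem_BN_iff (c : DCert D Ns) (tc : TCert D) (gc : GCert D w d) (g : ↥(D.group F)) :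
    g ∈ P.B ⊓ P.N ↔ (g : GL D.Idx F) ∈ D.diagonalSubgroup F := by
  rw [Subgroup.mem_inf, hB, hN, Subgroup.mem_subgroupOf, Subgroup.mem_subgroupOf,
    ← borel_inf_monomial c tc gc, Subgroup.mem_inf]

include hB hN hS in
/-- The data `VDat` on a Chevalley group. -/
theorem exists_vdat [Fintype F] (p : ℕ) [Fact p.Prime] [CharP F p] (c : DCert D Ns) (tc : TCert D)
    (ac : ACert D wl ws sc) (gc : GCert D w d) (hdesc : Descent D) (hR2 : R2All D F) (hcomb : CombOK D)
    (hrank : 0 < D.rank)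
    (hcore : ((D.borelSubgroup F).subgroupOf (D.group F)).normalCore = ⊥) :
    Nonempty (VDat p P (Fin D.rank)) := by
  classical
  have hfin : Finite ↥(D.group F) := Finite.of_injective _ Subtype.val_injective
  have hUG := posUnipotent_le_group (F := F) c
  have hBG := borel_le_group (F := F) c
  have hHG := diagonal_le_group (F := F) c
  obtain ⟨S, hSyl⟩ := exists_sylow p c tc ac gc hdesc hR2
  refine ⟨{
    s := fun i => sG c i
    range_s := ?_
    U := (D.posUnipotent F).subgroupOf (D.group F)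
    V := fun i => (Subgroup.closure (upGens D F i)).subgroupOf (D.group F)
    U_le := ?_
    U_normal := ?_
    U_pgroup := ?_
    U_index := ?_
    BUT := ?_
    T_p' := ?_
    V_le := ?_
    V_normB := ?_
    V_norms := ?_
    V_ne := ?_
    torus_cent := ?_
    center_U := ?_ }⟩
  · -- range_s
    rw [← sG_image c P hS]
    ext n
    constructor
    · rintro ⟨i, rfl⟩
      exact ⟨i, by exact_mod_cast Finset.mem_range.2 i.2, rfl⟩
    · rintro ⟨j, hj, rfl⟩
      have hj' : j < D.rank := Finset.mem_range.1 (by exact_mod_cast hj)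
      exact ⟨⟨j, hj'⟩, rfl⟩
  · -- U_le
    intro g hg
    rw [hB]
    rw [Subgroup.mem_subgroupOf] at hg ⊢
    exact Subgroup.mem_sup_left hg
  · -- U_normal
    intro b hb u hu
    rw [hB] at hb
    rw [Subgroup.mem_subgroupOf] at hb hu ⊢
    exact borel_conj_pos c tc hb hu
  · -- U_pgroup
    rw [← hSyl]
    exact S.isPGroup'
  · -- U_index
    rw [← hSyl]
    exact S.not_dvd_index
  · -- BUT
    intro b hb
    rw [hB, Subgroup.mem_subgroupOf] at hb
    unfold ChevalleyDatum.borelSubgroup at hb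
    obtain ⟨u, hu, h, hh, e⟩ := exists_mul_of_mem_sup _ _ (diagonal_le_normalizer_pos c tc) hb
    refine ⟨⟨u, hUG hu⟩, ?_, ⟨h, hHG hh⟩, ?_, ?_⟩
    · rw [Subgroup.mem_subgroupOf]
      exact hu
    · rw [mem_BN_iff P hB hN c tc gc]
      exact hh
    · apply Subtype.ext
      exact e
  · -- T_p'
    have hcard : Nat.card ↥(P.B ⊓ P.N) = Nat.card ↥(D.diagonalSubgroup F) := by
      apply Nat.card_congr
      refine ⟨fun g => ⟨(g : ↥(D.group F)), (mem_BN_iff P hB hN c tc gc _).1 g.2⟩,
        fun h => ⟨⟨(h : GL D.Idx F), hHG h.2⟩, (mem_BN_iff P hB hN c tc gc _).2 h.2⟩, ?_, ?_⟩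
      · intro g
        rfl
      · intro h
        rfl
    rw [hcard]
    exact not_dvd_card_diagonal p c tc
  · -- V_le
    intro i g hg
    rw [Subgroup.mem_subgroupOf] at hg ⊢
    exact up_le_pos i hg
  · -- V_normB
    intro i b hb v hv
    rw [hB] at hb
    rw [Subgroup.mem_subgroupOf] at hb hv ⊢
    exact (Subgroup.mem_normalizer_iff.mp
      (parabolic_single_le_normalizer_up c tc ac hR2 i i.2 (borel_le_parabolic _ hb)) _).mp hv
  · -- V_norms
    intro i v hv
    rw [Subgroup.mem_subgroupOf] at hv ⊢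
    exact (Subgroup.mem_normalizer_iff.mp
      (parabolic_single_le_normalizer_up c tc ac hR2 i i.2
        (nGL_mem_parabolic {(i : ℕ)} c i i.2 rfl)) _).mp hv
  · -- V_ne
    intro i j hji
    have hjpos := (ac.simple j j.2).2.1
    have hne : D.simple j ≠ D.simple i := by
      intro h
      apply hji
      exact Fin.ext (simple_inj' tc j.2 i.2 h)
    refine ⟨⟨xGL c (D.simple j) (1 : F), xGL_mem_group c _ _⟩, ?_, ?_⟩
    · rw [Subgroup.mem_subgroupOf]
      exact Subgroup.subset_closure ⟨D.simple j, 1, hjpos, hne, xGL_coe c _ _⟩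
    · intro hmem
      rw [hB, Subgroup.mem_subgroupOf] at hmem
      apply nGL_conj_not_mem (F := F) c tc ac gc j j.2
      have hsq : (nGL c j * nGL c j : GL D.Idx F) ∈ D.borelSubgroup F :=
        Subgroup.mem_sup_right (nGL_sq_mem (F := F) c j j.2)
      have e : nGL c j * xGL c (D.simple j) (1 : F) * nGL c j =
          (nGL c j * xGL c (D.simple j) (1 : F) * (nGL c j)⁻¹) * (nGL c j * nGL c j) := by group
      rw [e]
      exact Subgroup.mul_mem _ hmem hsq
  · -- torus_cent
    intro t ht hcent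
    have htH := (mem_BN_iff P hB hN c tc gc t).1 ht
    have h1 : (t : GL D.Idx F) = 1 := by
      apply diagonal_cent_eq_one c tc ac gc hdesc hR2 hcomb hrank _ htH
      intro u hu
      have := hcent ⟨u, hUG hu⟩ (by rw [Subgroup.mem_subgroupOf]; exact hu)
      exact congrArg Subtype.val this
    have h2 : t = 1 := Subtype.ext h1
    rw [h2]
    exact Subgroup.one_mem _
  · -- center_U
    intro z hz hzU
    have hzcore : z ∈ ((D.borelSubgroup F).subgroupOf (D.group F)).normalCore := by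
      intro b
      have e : b * z * b⁻¹ = z := by
        rw [(Subgroup.mem_center_iff.1 hz b)]
        group
      rw [e, Subgroup.mem_subgroupOf]
      rw [Subgroup.mem_subgroupOf] at hzU
      exact Subgroup.mem_sup_left hzU
    rw [hcore] at hzcore
    exact Subgroup.mem_bot.mp hzcore

include hB hN hS in
/-- `AutUTrivial` for a Chevalley group of a tabulated type. -/
theorem autUTrivial_of_core [Fintype F] (p : ℕ) [Fact p.Prime] [CharP F p] (c : DCert D Ns) (tc : TCert D)
    (ac : ACert D wl ws sc) (gc : GCert D w d) (hdesc : Descent D) (hR2 : R2All D F) (hcomb : CombOK D)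
    (hrank : 0 < D.rank)
    (hcore : ((D.borelSubgroup F).subgroupOf (D.group F)).normalCore = ⊥) :
    AutUTrivial p ↥(D.group F) := by
  have hfin : Finite ↥(D.group F) := Finite.of_injective _ Subtype.val_injective
  obtain ⟨R⟩ := exists_vdat P hB hN hS p c tc ac gc hdesc hR2 hcomb hrank hcore
  apply R.autUTrivial_of_center_eq_bot
  rw [eq_bot_iff]
  intro z hz
  have hzB : z ∈ P.B := R.center_le_B hz
  have hzcore : z ∈ ((D.borelSubgroup F).subgroupOf (D.group F)).normalCore := by
    intro b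
    have e : b * z * b⁻¹ = z := by
      rw [(Subgroup.mem_center_iff.1 hz b)]
      group
    rw [e, ← hB]
    exact hzB
  rw [hcore] at hzcore
  exact hzcore

end bn

end Cfsg.Agent.Lib.Helper60_AutU_CHEVaux
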