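/-
S4613 package CHEV (architect helper68), assembly over the certificates (helper60): `AutUTrivial p` for the
Chevalley groups of the seven tabulated types, given that the normal core of `B` is trivial.
-/
import Mathlib
import Cfsg.Agent.Lib.Helper60_AutU_CHEVaux
import Cfsg.Agent.Lib.Helper18_ChevData5
import Cfsg.Agent.Lib.Helper18_ChevJCerts

set_option autoImplicit false

namespace Cfsg.Agent.Lib.Helper60_AutU_CHEVgen

open Cfsg Cfsg.Lie Cfsg.Agent.Lib.Helper68_AutU

/-- `AutUTrivial` for the seven tabulated types, from the triviality of the normal core of `B`. -/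
theorem autU_of_mem_of_core {F : Type*} [Field F] [Fintype F] {p : ℕ} [Fact p.Prime] [CharP F p]
    (D : ChevalleyDatum) (hD : D ∈ [chevG2, chevB2, chevD4, chevF4, chevE6, chevE7, chevE8])
    (hrank : 0 < D.rank)
    (hcore : ((D.borelSubgroup F).subgroupOf (D.group F)).normalCore = ⊥) :
    AutUTrivial p ↥(D.group F) := by
  obtain ⟨Ns, w, d, Ts, hT, K, base, stepT, wl, ws, sc, c, tc, gc, pc, ac⟩ :=
    Cfsg.Agent.Lib.Helper18_ChevData5.exists_cert5 D hD
  have hR2 : Cfsg.Agent.Lib.Helper18_ChevUni.R2All D F := Cfsg.Agent.Lib.Helper18_ChevComm2.r2_all c pc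
  have hdesc := Cfsg.Agent.Lib.Helper18_ChevJCerts.descent_all D hD
  have hcomb := Cfsg.Agent.Lib.Helper81_ChevParComb.combOK_all D hD
  obtain ⟨P, hB, hN, hS⟩ := Cfsg.Agent.Lib.Helper18_ChevBNPair.exists_bnPair c tc ac gc hR2
  exact Cfsg.Agent.Lib.Helper60_AutU_CHEVaux.autUTrivial_of_core P hB hN hS p c tc ac gc hdesc hR2 hcomb
    hrank hcore

end Cfsg.Agent.Lib.Helper60_AutU_CHEVgen
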