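import Mathlib
import Cfsg.Agent.Lib.Helper75_BRDefs
import Cfsg.Agent.Lib.Helper78_CentralNilp
import Cfsg.Agent.Lib.Helper78_CharFacts
import Cfsg.Agent.Lib.Helper77_BlockBasics
import Cfsg.Agent.S4491

/-!
# S4607 (Brandt) package C3 (EQDEG) — architect helper75, formalised by helper60.

A block consisting of two characters of the same degree has defect `v_p(2)`:
by S4491, `v_p(2 f^2) = 2 a - d` where `d = a - v_p(f)`.
-/

set_option autoImplicit false

namespace Cfsg.Agent.Lib.Helper60_BR_C3EQDEG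

open Cfsg Cfsg.Agent.Lib.Helper78_LocalRing Cfsg.Agent.Lib.Helper78_GroupRing
  Cfsg.Agent.Lib.Helper79_Residue Cfsg.Agent.Lib.Helper75_BRDefs

universe u v w

section C

variable {G : Type u} [Group G] [Finite G]

/-- **C3 (EQDEG)**. Two characters of equal degree: the defect is `v_p(2)`. -/
theorem defect_of_equal_degrees (p : ℕ) [Fact p.Prime] (M : Ideal AlgInt) (hM : IsPModular p M)
    (B : Set (IrrCharacter G)) (hB : IsPBlock M B) (χ₁ χ₂ : IrrCharacter G) (h12 : χ₁ ≠ χ₂)
    (hBeq : B = {χ₁, χ₂}) (hf : charDegree (χ₁ : G → ℂ) = charDegree (χ₂ : G → ℂ)) :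
    blockDefect p B = (2 : ℕ).factorization p := by
  have h91 := Cfsg.Agent.S4491.result p M hM B hB
  have hfpos : 0 < charDegree (χ₁ : G → ℂ) :=
    Cfsg.Agent.Lib.Helper77_BlockBasics.charDegree_pos χ₁
  have hle : (charDegree (χ₁ : G → ℂ)).factorization p ≤ (Nat.card G).factorization p :=
    Cfsg.Agent.Lib.Helper77_BlockBasics.factorization_charDegree_le p χ₁
  -- the image set is a singleton
  have himg : ((fun χ : IrrCharacter G => (charDegree (χ : G → ℂ)).factorization p) '' B)
      = {(charDegree (χ₁ : G → ℂ)).factorization p} := by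
    rw [hBeq, Set.image_pair, ← hf]
    simp
  have hdef : blockDefect p B =
      (Nat.card G).factorization p - (charDegree (χ₁ : G → ℂ)).factorization p := by
    unfold blockDefect
    rw [himg, csInf_singleton]
  -- the sum of squares
  have hsum : (∑ᶠ χ ∈ B, charDegree (χ : G → ℂ) ^ 2) = 2 * charDegree (χ₁ : G → ℂ) ^ 2 := by
    rw [hBeq, finsum_mem_pair h12, ← hf]
    ring
  rw [hsum] at h91
  have hsq : (charDegree (χ₁ : G → ℂ)) ^ 2 ≠ 0 := pow_ne_zero _ hfpos.ne'
  rw [Nat.factorization_mul (by norm_num) hsq, Nat.factorization_pow] at h91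
  simp only [Finsupp.coe_add, Pi.add_apply, Finsupp.coe_smul, Pi.smul_apply, smul_eq_mul] at h91
  rw [hdef] at h91 ⊢
  omega

end C

end Cfsg.Agent.Lib.Helper60_BR_C3EQDEG
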