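import Mathlib
import Cfsg.Agent.Lib.Helper77_BRDefs

/-!
S0999 (Brauer-Reynolds, helper77's market), sub-package HGRP: `H = N_G(Q)`, `Q` cyclic of order at
least three, every element of `H` conjugate into `Q`, every element of `H` outside `Q` centralizing
at most two elements of `Q`: then `|H : Q| ≤ 2` (helper60).

Route: orbit counting on the elements of `Q` whose square is not one (all stabilisers equal `Q`)
gives `y ^ 2 ∈ Q` for `y ∈ H`; then `y ∉ Q` inverts the squares of `Q`, and two such elements differ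
by an element of `Q`.
-/

set_option autoImplicit false
set_option linter.unusedSectionVars false
set_option linter.style.haveILetI false

namespace Cfsg.Agent.Lib.Helper60_BR_HGRP

universe u

/-- orbit counting: if all stabilisers equal `S` then the index of `S` divides the number of points -/
lemma index_dvd_card_of_stabilizer_eq {Γ : Type*} {X : Type*} [Group Γ] [MulAction Γ X] [Finite X]
    (S : Subgroup Γ) (h : ∀ x : X, MulAction.stabilizer Γ x = S) : S.index ∣ Nat.card X := by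
  classical
  haveI : Fintype (MulAction.orbitRel.Quotient Γ X) := Fintype.ofFinite _
  rw [Nat.card_congr (MulAction.selfEquivSigmaOrbits' Γ X), Nat.card_sigma]
  apply Finset.dvd_sum
  intro ω _
  induction ω using Quotient.inductionOn' with
  | h x =>
    rw [MulAction.orbitRel.Quotient.orbit_mk,
      Nat.card_congr (MulAction.orbitEquivQuotientStabilizer Γ x), h x, Subgroup.index_eq_card]

/-- a subgroup in which any two elements outside `Q` differ by an element of `Q` -/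
lemma card_le_two_mul {G : Type*} [Group G] [Finite G] (N Q : Subgroup G)
    (h : ∀ y₁ ∈ N, ∀ y₂ ∈ N, y₁ ∉ Q → y₂ ∉ Q → y₁⁻¹ * y₂ ∈ Q) :
    Nat.card N ≤ 2 * Nat.card Q := by
  classical
  by_cases hall : ∀ y ∈ N, y ∈ Q
  · calc Nat.card N ≤ Nat.card Q := Subgroup.card_le_of_le (fun y hy => hall y hy)
      _ ≤ 2 * Nat.card Q := by omega
  · push Not at hall
    obtain ⟨y₀, hy₀, hy₀Q⟩ := hall
    let f : N → Q ⊕ Q := fun y =>
      if hy : (y : G) ∈ Q then Sum.inl ⟨y, hy⟩ else Sum.inr ⟨y₀⁻¹ * y, h y₀ hy₀ y y.2 hy₀Q hy⟩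
    have hf : Function.Injective f := by
      intro a b hab
      by_cases ha : (a : G) ∈ Q <;> by_cases hb : (b : G) ∈ Q
      · simp only [f, dif_pos ha, dif_pos hb, Sum.inl.injEq, Subtype.mk.injEq] at hab
        exact Subtype.ext hab
      · simp only [f, dif_pos ha, dif_neg hb] at hab
        exact absurd hab (by simp)
      · simp only [f, dif_neg ha, dif_pos hb] at hab
        exact absurd hab (by simp)
      · simp only [f, dif_neg ha, dif_neg hb, Sum.inr.injEq, Subtype.mk.injEq] at hab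
        exact Subtype.ext (mul_left_cancel hab)
    calc Nat.card N ≤ Nat.card (Q ⊕ Q) := Nat.card_le_card_of_injective f hf
      _ = 2 * Nat.card Q := by rw [Nat.card_sum]; ring

variable {G : Type u} [Group G] [Fintype G]

/-- the points: the elements of `Q` whose square is not one -/
abbrev Pts (Q : Subgroup G) : Type u := {σ : Q // σ ^ 2 ≠ 1}

/-- the conjugation action of a subgroup of the normaliser on the points -/
@[reducible] def conjAct (Q Γ₀ : Subgroup G) (hΓ : Γ₀ ≤ Subgroup.normalizer (Q : Set G)) :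
    MulAction Γ₀ (Pts Q) where
  smul γ σ := ⟨⟨(γ : G) * (σ.1 : G) * (γ : G)⁻¹, ((hΓ γ.2) σ.1.1).mp σ.1.2⟩, by
    intro h1
    apply σ.2
    have h2 : ((γ : G) * (σ.1 : G) * (γ : G)⁻¹) ^ 2 = 1 := congrArg Subtype.val h1
    rw [conj_pow] at h2
    have h3 : (σ.1 : G) ^ 2 = 1 := by
      have := congrArg (fun z => (γ : G)⁻¹ * z * (γ : G)) h2
      simpa [mul_assoc] using this
    exact Subtype.ext h3⟩
  one_smul σ := by
    apply Subtype.ext
    apply Subtype.ext
    show ((1 : Γ₀) : G) * (σ.1 : G) * ((1 : Γ₀) : G)⁻¹ = σ.1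
    simp
  mul_smul a b σ := by
    apply Subtype.ext
    apply Subtype.ext
    show ((a * b : Γ₀) : G) * (σ.1 : G) * ((a * b : Γ₀) : G)⁻¹ =
      (a : G) * ((b : G) * (σ.1 : G) * (b : G)⁻¹) * (a : G)⁻¹
    simp [mul_assoc]

lemma index_dvd_pts (Q : Subgroup G) (hQc : ∀ a ∈ Q, ∀ b ∈ Q, a * b = b * a)
    (hL1 : ∀ y ∈ Subgroup.normalizer (Q : Set G), y ∉ Q → ∀ a ∈ Q, y * a * y⁻¹ = a → a ^ 2 = 1)
    (Γ₀ : Subgroup G) (hΓ : Γ₀ ≤ Subgroup.normalizer (Q : Set G)) :
    (Q.subgroupOf Γ₀).index ∣ Nat.card (Pts Q) := by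
  letI := conjAct Q Γ₀ hΓ
  apply index_dvd_card_of_stabilizer_eq
  intro x
  ext γ
  rw [MulAction.mem_stabilizer_iff, Subgroup.mem_subgroupOf]
  constructor
  · intro h
    by_contra hγ
    have h1 : (γ : G) * (x.1 : G) * (γ : G)⁻¹ = x.1 :=
      congrArg (fun z : Pts Q => ((z.1 : Q) : G)) h
    apply x.2
    exact Subtype.ext (hL1 γ (hΓ γ.2) hγ x.1 x.1.2 h1)
  · intro hγ
    apply Subtype.ext
    apply Subtype.ext
    show (γ : G) * (x.1 : G) * (γ : G)⁻¹ = x.1
    rw [hQc _ hγ _ x.1.2, mul_inv_cancel_right]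

lemma card_pts (Q : Subgroup G) (hQcyc : IsCyclic Q) :
    ∃ c, 1 ≤ c ∧ c ≤ 2 ∧ Nat.card (Pts Q) + c = Nat.card Q ∧ (2 ∣ Nat.card Q → c = 2) := by
  classical
  refine ⟨Fintype.card {σ : Q // σ ^ 2 = 1}, ?_, ?_, ?_, ?_⟩
  · exact Fintype.card_pos_iff.mpr ⟨⟨1, one_pow 2⟩⟩
  · rw [Fintype.card_subtype]
    exact IsCyclic.card_pow_eq_one_le (by norm_num)
  · rw [Nat.card_eq_fintype_card, Nat.card_eq_fintype_card]
    have h1 := Fintype.card_subtype_compl (fun σ : Q => σ ^ 2 = 1)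
    have h2 := Fintype.card_subtype_le (fun σ : Q => σ ^ 2 = 1)
    have h3 : Fintype.card (Pts Q) = Fintype.card {σ : Q // ¬ σ ^ 2 = 1} :=
      Fintype.card_congr (Equiv.refl _)
    omega
  · intro h2
    haveI : Fact (Nat.Prime 2) := ⟨Nat.prime_two⟩
    obtain ⟨x, hx⟩ := exists_prime_orderOf_dvd_card' (G := Q) 2 h2
    have hx2 : x ^ 2 = 1 := by rw [← hx]; exact pow_orderOf_eq_one x
    have hx1 : x ≠ 1 := by
      rintro rfl
      rw [orderOf_one] at hx
      omega
    have hle : Fintype.card {σ : Q // σ ^ 2 = 1} ≤ 2 := by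
      rw [Fintype.card_subtype]
      exact IsCyclic.card_pow_eq_one_le (by norm_num)
    have hgt : 1 < Fintype.card {σ : Q // σ ^ 2 = 1} := by
      rw [Fintype.one_lt_card_iff]
      exact ⟨⟨1, one_pow 2⟩, ⟨x, hx2⟩, fun h => hx1 (congrArg Subtype.val h).symm⟩
    omega

/-- an element of the normaliser outside `Q` centralises only elements of square one -/
lemma sq_eq_one_of_comm (Q : Subgroup G)
    (hfew : ∀ h ∈ Subgroup.normalizer (Q : Set G), h ∉ Q →
      Nat.card {σ : ↥Q // h * (σ : G) * h⁻¹ = (σ : G)} ≤ 2)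
    {y : G} (hy : y ∈ Subgroup.normalizer (Q : Set G)) (hyQ : y ∉ Q) {a : G} (ha : a ∈ Q)
    (hcomm : y * a * y⁻¹ = a) : a ^ 2 = 1 := by
  classical
  set C : Subgroup Q := (Subgroup.centralizer {y}).subgroupOf Q with hC
  have hmem : ∀ σ : Q, σ ∈ C ↔ y * (σ : G) * y⁻¹ = (σ : G) := by
    intro σ
    rw [hC, Subgroup.mem_subgroupOf, Subgroup.mem_centralizer_iff]
    constructor
    · intro h
      have := h y (Set.mem_singleton y)
      rw [mul_inv_eq_iff_eq_mul]
      exact this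
    · intro h z hz
      rw [Set.mem_singleton_iff] at hz
      subst hz
      rw [mul_inv_eq_iff_eq_mul] at h
      exact h
  have hcard : Nat.card C ≤ 2 := by
    have h1 := hfew y hy hyQ
    have h2 : Nat.card C = Nat.card {σ : ↥Q // y * (σ : G) * y⁻¹ = (σ : G)} :=
      Nat.card_congr (Equiv.subtypeEquivRight hmem)
    omega
  have hpos : 0 < Nat.card C := Nat.card_pos
  have hdvd : Nat.card C ∣ 2 := by
    interval_cases (Nat.card C) <;> norm_num
  have hx : (⟨⟨a, ha⟩, (hmem ⟨a, ha⟩).mpr hcomm⟩ : C) ^ 2 = 1 :=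
    orderOf_dvd_iff_pow_eq_one.mp ((orderOf_dvd_natCard _).trans hdvd)
  have := congrArg (fun z : C => ((z : Q) : G)) hx
  simpa using this

theorem HGRP (Q : Subgroup G) (hQcyc : IsCyclic Q) (t : ℕ)
    (hq3 : 3 ≤ Nat.card Q)
    (hH : Nat.card (Subgroup.normalizer (Q : Set G)) = t * Nat.card Q)
    (hconj : ∀ y ∈ Subgroup.normalizer (Q : Set G), ∃ g : G, g * y * g⁻¹ ∈ Q)
    (hfew : ∀ h ∈ Subgroup.normalizer (Q : Set G), h ∉ Q →
      Nat.card {σ : ↥Q // h * (σ : G) * h⁻¹ = (σ : G)} ≤ 2) :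
    t ≤ 2 := by
  classical
  have hQN : Q ≤ Subgroup.normalizer (Q : Set G) := Subgroup.le_normalizer
  have hQc : ∀ a ∈ Q, ∀ b ∈ Q, a * b = b * a := by
    intro a ha b hb
    haveI := IsCyclic.isMulCommutative (α := Q)
    have := mul_comm' (⟨a, ha⟩ : Q) ⟨b, hb⟩
    exact congrArg Subtype.val this
  have hL1 : ∀ y ∈ Subgroup.normalizer (Q : Set G), y ∉ Q → ∀ a ∈ Q, y * a * y⁻¹ = a →
      a ^ 2 = 1 := fun y hy hyQ a ha hc => sq_eq_one_of_comm Q hfew hy hyQ ha hc
  obtain ⟨c, hc1, hc2, hcard, hceven⟩ := card_pts Q hQcyc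
  have hnorm : ∀ y ∈ Subgroup.normalizer (Q : Set G), ∀ a ∈ Q, y * a * y⁻¹ ∈ Q :=
    fun y hy a ha => (hy a).mp ha
  -- the index of `Q` in its normaliser
  have hidx : (Q.subgroupOf (Subgroup.normalizer (Q : Set G))).index = t := by
    have h1 := Subgroup.card_mul_index (Q.subgroupOf (Subgroup.normalizer (Q : Set G)))
    rw [Nat.card_congr (Subgroup.subgroupOfEquivOfLe hQN).toEquiv, hH, mul_comm] at h1
    exact Nat.eq_of_mul_eq_mul_right (by omega) h1
  by_cases hm4 : Nat.card Q = 4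
  · have h1 := index_dvd_pts Q hQc hL1 _ (le_refl (Subgroup.normalizer (Q : Set G)))
    rw [hidx] at h1
    have hc : c = 2 := hceven (by rw [hm4]; norm_num)
    have h2 : Nat.card (Pts Q) = 2 := by omega
    rw [h2] at h1
    exact Nat.le_of_dvd (by norm_num) h1
  -- orders divide `|Q|`
  have hord : ∀ y ∈ Subgroup.normalizer (Q : Set G), orderOf y ∣ Nat.card Q := by
    intro y hy
    obtain ⟨g₀, hg₀⟩ := hconj y hy
    have h1 := orderOf_dvd_natCard (⟨g₀ * y * g₀⁻¹, hg₀⟩ : Q)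
    rw [Subgroup.orderOf_mk] at h1
    have h2 : orderOf (g₀ * y * g₀⁻¹) = orderOf y := by
      have := (MulAut.conj g₀).orderOf_eq y
      rwa [MulAut.conj_apply] at this
    rwa [h2] at h1
  -- exponent two modulo `Q`
  have hsq : ∀ y ∈ Subgroup.normalizer (Q : Set G), y ∉ Q → y ^ 2 ∈ Q := by
    intro y hy hyQ
    have hZN : Subgroup.zpowers y ≤ Subgroup.normalizer (Q : Set G) :=
      (Subgroup.zpowers_le).mpr hy
    have hd1 := index_dvd_pts Q hQc hL1 _ hZN
    have hd2 : (Q.subgroupOf (Subgroup.zpowers y)).index ∣ Nat.card Q :=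
      (Subgroup.index_dvd_card _).trans (by rw [Nat.card_zpowers]; exact hord y hy)
    have hdc : (Q.subgroupOf (Subgroup.zpowers y)).index ∣ c := by
      have : (Q.subgroupOf (Subgroup.zpowers y)).index ∣ Nat.card (Pts Q) + c := by
        rw [hcard]; exact hd2
      exact (Nat.dvd_add_right hd1).mp this
    have hd_le : (Q.subgroupOf (Subgroup.zpowers y)).index ≤ 2 :=
      le_trans (Nat.le_of_dvd (by omega) hdc) hc2
    have hd_pos : 0 < (Q.subgroupOf (Subgroup.zpowers y)).index :=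
      Nat.pos_of_dvd_of_pos hdc (by omega)
    haveI : (Q.subgroupOf (Subgroup.zpowers y)).Normal := by
      constructor
      intro n hn z
      have hcomm : z * n = n * z := by
        obtain ⟨i, hi⟩ := Subgroup.mem_zpowers_iff.mp z.2
        obtain ⟨j, hj⟩ := Subgroup.mem_zpowers_iff.mp n.2
        apply Subtype.ext
        show (z : G) * (n : G) = (n : G) * (z : G)
        rw [← hi, ← hj, ← zpow_add, ← zpow_add, add_comm]
      rw [hcomm, mul_inv_cancel_right]
      exact hn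
    have hpow := Subgroup.pow_index_mem (Q.subgroupOf (Subgroup.zpowers y))
      (⟨y, Subgroup.mem_zpowers y⟩ : Subgroup.zpowers y)
    rw [Subgroup.mem_subgroupOf] at hpow
    have hpow' : y ^ (Q.subgroupOf (Subgroup.zpowers y)).index ∈ Q := by
      simpa using hpow
    generalize (Q.subgroupOf (Subgroup.zpowers y)).index = d at hpow' hd_le hd_pos
    interval_cases d
    · rw [pow_one] at hpow'
      exact absurd hpow' hyQ
    · exact hpow'
  -- inversion of squares
  have hinv : ∀ y ∈ Subgroup.normalizer (Q : Set G), y ∉ Q → ∀ a ∈ Q,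
      y * a ^ 2 * y⁻¹ = (a ^ 2)⁻¹ := by
    intro y hy hyQ a ha
    have hb : y * a * y⁻¹ ∈ Q := hnorm y hy a ha
    have hy2 := hsq y hy hyQ
    have hyb : y * (y * a * y⁻¹) * y⁻¹ = a := by
      have h1 : y * (y * a * y⁻¹) * y⁻¹ = y ^ 2 * a * (y ^ 2)⁻¹ := by
        rw [sq]; group
      rw [h1, hQc _ hy2 _ ha, mul_inv_cancel_right]
    have hfix : y * (a * (y * a * y⁻¹)) * y⁻¹ = a * (y * a * y⁻¹) := by
      calc y * (a * (y * a * y⁻¹)) * y⁻¹ = (y * a * y⁻¹) * (y * (y * a * y⁻¹) * y⁻¹) := by group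
        _ = (y * a * y⁻¹) * a := by rw [hyb]
        _ = a * (y * a * y⁻¹) := hQc _ hb _ ha
    have h1 := hL1 y hy hyQ _ (Q.mul_mem ha hb) hfix
    have h2 : a ^ 2 * (y * a * y⁻¹) ^ 2 = 1 := by
      rw [← (show Commute a (y * a * y⁻¹) from hQc _ ha _ hb).mul_pow]
      exact h1
    rw [← conj_pow]
    exact eq_inv_of_mul_eq_one_right h2
  -- two elements outside `Q` differ by an element of `Q`
  have hpair : ∀ y₁ ∈ Subgroup.normalizer (Q : Set G), ∀ y₂ ∈ Subgroup.normalizer (Q : Set G),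
      y₁ ∉ Q → y₂ ∉ Q → y₁⁻¹ * y₂ ∈ Q := by
    intro y₁ hy₁ y₂ hy₂ h1 h2
    by_contra hw
    have hwN : y₁⁻¹ * y₂ ∈ Subgroup.normalizer (Q : Set G) :=
      Subgroup.mul_mem _ (Subgroup.inv_mem _ hy₁) hy₂
    obtain ⟨g, hg⟩ := IsCyclic.exists_ofOrder_eq_natCard (α := Q)
    have e1 := hinv y₁ hy₁ h1 g g.2
    have e2 := hinv y₂ hy₂ h2 g g.2
    have e3 := hinv _ hwN hw g g.2
    -- `y₁⁻¹` also inverts
    have e1' : y₁⁻¹ * ((g : G) ^ 2)⁻¹ * y₁ = (g : G) ^ 2 := by
      rw [← e1]; group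
    have e4 : (y₁⁻¹ * y₂) * (g : G) ^ 2 * (y₁⁻¹ * y₂)⁻¹ = (g : G) ^ 2 := by
      calc (y₁⁻¹ * y₂) * (g : G) ^ 2 * (y₁⁻¹ * y₂)⁻¹
          = y₁⁻¹ * (y₂ * (g : G) ^ 2 * y₂⁻¹) * y₁ := by group
        _ = y₁⁻¹ * ((g : G) ^ 2)⁻¹ * y₁ := by rw [e2]
        _ = (g : G) ^ 2 := e1'
    have e5 : ((g : G) ^ 2)⁻¹ = (g : G) ^ 2 := by rw [← e3, e4]
    have e6 : (g : G) ^ 4 = 1 := by
      have : (g : G) ^ 2 * (g : G) ^ 2 = 1 := by
        nth_rewrite 1 [← e5]
        exact inv_mul_cancel _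
      rw [← this, ← pow_add]
    have e7 : g ^ 4 = 1 := Subtype.ext (by simpa using e6)
    have e8 : Nat.card Q ∣ 4 := by
      rw [← hg]
      exact orderOf_dvd_of_pow_eq_one e7
    have e9 : Nat.card Q ≤ 4 := Nat.le_of_dvd (by norm_num) e8
    interval_cases (Nat.card Q)
    · norm_num at e8
    · exact hm4 rfl
  have hfinal := card_le_two_mul (Subgroup.normalizer (Q : Set G)) Q hpair
  rw [hH] at hfinal
  exact Nat.le_of_mul_le_mul_right hfinal (by omega)

end Cfsg.Agent.Lib.Helper60_BR_HGRP
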