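import Mathlib
import Cfsg.Agent.Lib.Helper1_D8Defs

/-!
S3716 market (architect helper1), package SIGNS4: the six sign patterns of shape 4.  The rows of `R4` are distinct
up to sign, so all indicators are one; then the four Frobenius-Schur equations leave six of the 256 sign vectors.
-/

set_option autoImplicit false
set_option linter.unusedVariables false

namespace Cfsg.Agent.Lib.Helper60_D8_SIGNS4
open Cfsg Cfsg.Agent.Lib.Helper1_D8Defs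

theorem R4_distinct_aux : ∀ a b : Fin 2, ∀ k k' : Fin 8, k' ≠ k →
    ¬ ∀ j : Fin 4, (![1, -1] : Fin 2 → ℤ) a * R4 k' j = (![1, -1] : Fin 2 → ℤ) b * R4 k j := by
  decide +kernel

theorem R4_distinct (k k' : Fin 8) (hk : k' ≠ k) (s s' : ℤ) (hs : s = 1 ∨ s = -1)
    (hs' : s' = 1 ∨ s' = -1) : ¬ ∀ j : Fin 4, s * R4 k' j = s' * R4 k j := by
  rcases hs with rfl | rfl <;> rcases hs' with rfl | rfl
  · exact R4_distinct_aux 0 0 k k' hk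
  · exact R4_distinct_aux 0 1 k k' hk
  · exact R4_distinct_aux 1 0 k k' hk
  · exact R4_distinct_aux 1 1 k k' hk

/-- the six solutions of the sign equations -/
theorem signs4_int (x0 x1 x2 x3 x4 x5 x6 x7 : ℤ) (a0 : x0 = 1 ∨ x0 = -1) (a1 : x1 = 1 ∨ x1 = -1)
    (a2 : x2 = 1 ∨ x2 = -1) (a3 : x3 = 1 ∨ x3 = -1) (a4 : x4 = 1 ∨ x4 = -1) (a5 : x5 = 1 ∨ x5 = -1)
    (a6 : x6 = 1 ∨ x6 = -1) (a7 : x7 = 1 ∨ x7 = -1)
    (f0 : 1 + (x5 + x6 + x7) = 2) (f1 : x2 + x3 + x4 + x7 = 2)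
    (f2 : 1 + (x1 + x4 + x7) = 2) (f3 : x0 + x3 + x6 + x7 = 2) :
    (x0 = 1 ∧ x1 = 1 ∧ x2 = 1 ∧ x3 = 1 ∧ x4 = 1 ∧ x5 = 1 ∧ x6 = 1 ∧ x7 = -1) ∨
    (x0 = 1 ∧ x1 = 1 ∧ x2 = 1 ∧ x3 = 1 ∧ x4 = -1 ∧ x5 = 1 ∧ x6 = -1 ∧ x7 = 1) ∨
    (x0 = 1 ∧ x1 = -1 ∧ x2 = 1 ∧ x3 = -1 ∧ x4 = 1 ∧ x5 = -1 ∧ x6 = 1 ∧ x7 = 1) ∨
    (x0 = 1 ∧ x1 = -1 ∧ x2 = -1 ∧ x3 = 1 ∧ x4 = 1 ∧ x5 = 1 ∧ x6 = -1 ∧ x7 = 1) ∨
    (x0 = -1 ∧ x1 = 1 ∧ x2 = 1 ∧ x3 = 1 ∧ x4 = -1 ∧ x5 = -1 ∧ x6 = 1 ∧ x7 = 1) ∨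
    (x0 = -1 ∧ x1 = -1 ∧ x2 = -1 ∧ x3 = 1 ∧ x4 = 1 ∧ x5 = -1 ∧ x6 = 1 ∧ x7 = 1) := by
  rcases a7 with rfl | rfl <;> rcases a6 with rfl | rfl <;> rcases a5 with rfl | rfl <;>
    rcases a4 with rfl | rfl <;> rcases a3 with rfl | rfl <;> rcases a2 with rfl | rfl <;>
    rcases a1 with rfl | rfl <;> rcases a0 with rfl | rfl <;> omega

/-- SIGNS4. -/
theorem signs4 (ε ν' : Fin 8 → ℤ) (hε : ∀ k, ε k = 1 ∨ ε k = -1) (hν : ∀ k, ν' k = 0 ∨ ν' k = 1)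
    (hν0 : ∀ k, ν' k = 0 → ∃ k', k' ≠ k ∧ (∀ j, ε k' * R4 k' j = ε k * R4 k j) ∧ ν' k' = 0)
    (hfs : ∀ j, (![1, 0, 1, 0] : Fin 4 → ℤ) j + ∑ k, ν' k * ε k * R4 k j = 2) :
    ε = ![1, 1, 1, 1, 1, 1, 1, -1] ∨ ε = ![1, 1, 1, 1, -1, 1, -1, 1] ∨ ε = ![1, -1, 1, -1, 1, -1, 1, 1] ∨
    ε = ![1, -1, -1, 1, 1, 1, -1, 1] ∨ ε = ![-1, 1, 1, 1, -1, -1, 1, 1] ∨
    ε = ![-1, -1, -1, 1, 1, -1, 1, 1] := by
  have hν1 : ∀ k, ν' k = 1 := by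
    intro k
    rcases hν k with h0 | h1
    · exfalso
      obtain ⟨k', hk', hrow, -⟩ := hν0 k h0
      exact R4_distinct k k' hk' (ε k') (ε k) (hε k') (hε k) hrow
    · exact h1
  have f0 := hfs 0
  have f1 := hfs 1
  have f2 := hfs 2
  have f3 := hfs 3
  simp only [Fin.sum_univ_eight, hν1] at f0 f1 f2 f3
  simp [R4] at f0 f1 f2 f3
  have key := signs4_int (ε 0) (ε 1) (ε 2) (ε 3) (ε 4) (ε 5) (ε 6) (ε 7) (hε 0) (hε 1) (hε 2) (hε 3)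
    (hε 4) (hε 5) (hε 6) (hε 7) f0 f1 f2 f3
  have hext : ∀ v : Fin 8 → ℤ, (∀ k, ε k = v k) → ε = v := fun v hv => funext hv
  rcases key with ⟨e0, e1, e2, e3, e4, e5, e6, e7⟩ | ⟨e0, e1, e2, e3, e4, e5, e6, e7⟩ |
    ⟨e0, e1, e2, e3, e4, e5, e6, e7⟩ | ⟨e0, e1, e2, e3, e4, e5, e6, e7⟩ |
    ⟨e0, e1, e2, e3, e4, e5, e6, e7⟩ | ⟨e0, e1, e2, e3, e4, e5, e6, e7⟩
  · left
    apply hext
    intro k
    fin_cases k <;> assumption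
  · right; left
    apply hext
    intro k
    fin_cases k <;> assumption
  · right; right; left
    apply hext
    intro k
    fin_cases k <;> assumption
  · right; right; right; left
    apply hext
    intro k
    fin_cases k <;> assumption
  · right; right; right; right; left
    apply hext
    intro k
    fin_cases k <;> assumption
  · right; right; right; right; right
    apply hext
    intro k
    fin_cases k <;> assumption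

end Cfsg.Agent.Lib.Helper60_D8_SIGNS4
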