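import Cfsg.Agent.Lib.Helper4_E8Defs
import Cfsg.Agent.Lib.Helper6_BNPairC
import Cfsg.Agent.Lib.Helper78_E8C_WORD

set_option autoImplicit false

/-!
S5751 package QTRI (architect helper4): the subgroup `Q j` generated by the root subgroups of the positive roots
of level at least `j` consists of matrices `g` such that `g - 1` raises the level by at least `j`.
The grading property of the level function is taken from the landed package WORD (`isGrading_lv'`).
-/

namespace Cfsg.Agent.Lib.Helper60_E8C_QTRI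

open Cfsg Cfsg.Lie Cfsg.Agent.Lib.Helper18_MatTri Cfsg.Agent.Lib.Helper18_ChevTri
  Cfsg.Agent.Lib.Helper4_E8Defs

/-- QTRI from the grading property of the level function. -/
theorem Q_le_T_of (hgr : IsGrading D8 lv) (j : ℕ) (hj : 1 ≤ j) : Q j ≤ T j := by
  unfold Q
  rw [Subgroup.closure_le]
  rintro g ⟨r, t, hr, hlv, hg⟩
  show Raises (grIdx D8 lv) (j : ℤ) ((g : Matrix D8.Idx D8.Idx F2) - 1)
  rw [hg]
  exact x_sub_one_raises hgr r hr.1 (j : ℤ) (by exact_mod_cast hj) hlv t

/-- QTRI. -/
theorem Q_le_T (j : ℕ) (hj : 1 ≤ j) : Q j ≤ T j :=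
  Q_le_T_of Cfsg.Agent.Lib.Helper78_E8C_WORD.isGrading_lv' j hj

end Cfsg.Agent.Lib.Helper60_E8C_QTRI
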