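import Mathlib
import Cfsg.Prelude.Def_FusionSystem
import Cfsg.Agent.Lib.Helper87_F2L3Defs

/-!
# S5318 package F2L3-ARITH1 (architect helper87): the 2-part of `|GL₂(F)|` when `|F| ≡ 1 mod 4`
-/

set_option autoImplicit false

open Matrix Cfsg.Agent.Lib.Helper87_F2L3

namespace Cfsg.Agent.Lib.Helper60_F2L3_ARITH1

variable {F : Type*} [Field F]

/-- the arithmetic: `(q² - 1)(q² - q) = 2^(2k+1) * odd` for `q - 1 = 2^k u`, `u` odd, `k ≥ 2` -/
theorem arith_core {q k u : ℕ} (hk : 2 ≤ k) (hu : Odd u) (hq : q - 1 = 2 ^ k * u) :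
    ∃ w : ℕ, Odd w ∧ (q ^ 2 - q ^ 0) * (q ^ 2 - q ^ 1) = 2 ^ (2 * k + 1) * w := by
  obtain ⟨j, rfl⟩ : ∃ j, k = j + 2 := ⟨k - 2, by omega⟩
  have hpos : 0 < 2 ^ (j + 2) * u := by
    have := hu.pos
    positivity
  have hq' : q = 2 ^ (j + 2) * u + 1 := by omega
  subst hq'
  refine ⟨u * u * (2 ^ (j + 2) * u + 1) * (2 ^ (j + 1) * u + 1), ?_, ?_⟩
  · have h1 : Odd (2 ^ (j + 2) * u + 1) := by
      rw [pow_succ, mul_assoc, mul_comm (2 ^ (j + 1)) , mul_assoc]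
      exact odd_two_mul_add_one _
    have h2 : Odd (2 ^ (j + 1) * u + 1) := by
      rw [pow_succ, mul_assoc, mul_comm (2 ^ j), mul_assoc]
      exact odd_two_mul_add_one _
    exact ((hu.mul hu).mul h1).mul h2
  · have e1 : (2 ^ (j + 2) * u + 1) ^ 2 - (2 ^ (j + 2) * u + 1) ^ 0 =
        2 ^ (j + 2) * u * (2 ^ (j + 2) * u + 2) := by
      rw [pow_zero]
      have : (2 ^ (j + 2) * u + 1) ^ 2 = 2 ^ (j + 2) * u * (2 ^ (j + 2) * u + 2) + 1 := by ring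
      omega
    have e2 : (2 ^ (j + 2) * u + 1) ^ 2 - (2 ^ (j + 2) * u + 1) ^ 1 =
        2 ^ (j + 2) * u * (2 ^ (j + 2) * u + 1) := by
      rw [pow_one]
      have : (2 ^ (j + 2) * u + 1) ^ 2 =
          2 ^ (j + 2) * u * (2 ^ (j + 2) * u + 1) + (2 ^ (j + 2) * u + 1) := by ring
      omega
    rw [e1, e2]
    have e3 : 2 ^ (j + 2) * u + 2 = 2 * (2 ^ (j + 1) * u + 1) := by ring
    rw [e3]
    have e4 : (2 : ℕ) ^ (2 * (j + 2) + 1) = 2 ^ (j + 2) * (2 * 2 ^ (j + 2)) := by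
      rw [show 2 * (j + 2) + 1 = ((j + 2) + (j + 2)) + 1 by ring, pow_succ, pow_add]
      ring
    have e5 : (2 : ℕ) ^ (j + 2) = 2 * 2 ^ (j + 1) := by rw [pow_succ]; ring
    rw [e4]
    ring

theorem arith1 [Fintype F] {k u : ℕ} (hk : 2 ≤ k) (hu : Odd u) (hq : Fintype.card F - 1 = 2 ^ k * u) :
    (Nat.card (GL (Fin 2) F)).factorization 2 = 2 * k + 1 := by
  obtain ⟨w, hw, he⟩ := arith_core hk hu hq
  rw [Matrix.card_GL_field, Fin.prod_univ_two]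
  show ((Fintype.card F ^ 2 - Fintype.card F ^ ((0 : Fin 2) : ℕ)) *
    (Fintype.card F ^ 2 - Fintype.card F ^ ((1 : Fin 2) : ℕ))).factorization 2 = 2 * k + 1
  have e0 : ((0 : Fin 2) : ℕ) = 0 := rfl
  have e1 : ((1 : Fin 2) : ℕ) = 1 := rfl
  rw [e0, e1, he]
  have hw0 : w ≠ 0 := (hw.pos).ne'
  rw [Nat.factorization_mul (by positivity) hw0, Nat.Prime.factorization_pow Nat.prime_two]
  have hw2 : w.factorization 2 = 0 := by
    apply Nat.factorization_eq_zero_of_not_dvd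
    intro h
    exact (Nat.not_even_iff_odd.2 hw) (even_iff_two_dvd.2 h)
  simp [hw2]

end Cfsg.Agent.Lib.Helper60_F2L3_ARITH1
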