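import Mathlib
import Cfsg.Prelude.Def_FusionSystem
import Cfsg.Agent.Lib.Helper87_F2L3Defs
import Cfsg.Agent.Lib.Helper5_SLCard

/-!
# S5318 package F2L3-CARD3 (architect helper87): `|SL₃(F)|` and `|GL₂(F)|` have the same 2-part for
odd `|F|`
-/

set_option autoImplicit false

open Matrix Cfsg.Agent.Lib.Helper87_F2L3

namespace Cfsg.Agent.Lib.Helper60_F2L3_CARD3

variable {F : Type*} [Field F]

/-- `|SL₃(F)| = |GL₂(F)| * (q² (q² + q + 1))` -/
theorem card_SL3_eq [Fintype F] :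
    Nat.card (SpecialLinearGroup (Fin 3) F) =
      Nat.card (GL (Fin 2) F) * (Fintype.card F ^ 2 * (Fintype.card F ^ 2 + Fintype.card F + 1)) := by
  have hq1 : 2 ≤ Fintype.card F := Fintype.one_lt_card
  obtain ⟨r, hr⟩ : ∃ r, Fintype.card F = r + 2 := ⟨Fintype.card F - 2, by omega⟩
  have h3 := Cfsg.Agent.Lib.Helper5_SLCard.card_GL_eq_card_SL_mul (F := F) 3 (by norm_num)
  have hg3 : Nat.card (GL (Fin 3) F) = (Fintype.card F ^ 3 - Fintype.card F ^ 0) *
      ((Fintype.card F ^ 3 - Fintype.card F ^ 1) * (Fintype.card F ^ 3 - Fintype.card F ^ 2)) := by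
    rw [Matrix.card_GL_field, Fin.prod_univ_three]
    rw [mul_assoc]
    rfl
  have hg2 : Nat.card (GL (Fin 2) F) = (Fintype.card F ^ 2 - Fintype.card F ^ 0) *
      (Fintype.card F ^ 2 - Fintype.card F ^ 1) := by
    rw [Matrix.card_GL_field, Fin.prod_univ_two]
    rfl
  rw [hg3] at h3
  rw [hg2]
  rw [hr] at h3 ⊢
  have e0 : (r + 2) ^ 3 - (r + 2) ^ 0 = (r + 1) * ((r + 2) ^ 2 + (r + 2) + 1) := by
    have : (r + 2) ^ 3 = (r + 1) * ((r + 2) ^ 2 + (r + 2) + 1) + 1 := by ring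
    rw [pow_zero]; omega
  have e1 : (r + 2) ^ 3 - (r + 2) ^ 1 = (r + 2) * ((r + 1) * (r + 3)) := by
    have : (r + 2) ^ 3 = (r + 2) * ((r + 1) * (r + 3)) + (r + 2) := by ring
    rw [pow_one]; omega
  have e2 : (r + 2) ^ 3 - (r + 2) ^ 2 = (r + 2) ^ 2 * (r + 1) := by
    have : (r + 2) ^ 3 = (r + 2) ^ 2 * (r + 1) + (r + 2) ^ 2 := by ring
    omega
  have e3 : (r + 2) ^ 2 - (r + 2) ^ 0 = (r + 1) * (r + 3) := by
    have : (r + 2) ^ 2 = (r + 1) * (r + 3) + 1 := by ring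
    rw [pow_zero]; omega
  have e4 : (r + 2) ^ 2 - (r + 2) ^ 1 = (r + 2) * (r + 1) := by
    have : (r + 2) ^ 2 = (r + 2) * (r + 1) + (r + 2) := by ring
    rw [pow_one]; omega
  have e5 : r + 2 - 1 = r + 1 := by omega
  rw [e0, e1, e2, e5] at h3
  rw [e3, e4]
  have hpos : 0 < r + 1 := by omega
  apply Nat.eq_of_mul_eq_mul_right hpos
  rw [← h3]
  ring

theorem card3 [Fintype F] (hodd : Fintype.card F % 2 = 1) :
    (Nat.card (SpecialLinearGroup (Fin 3) F)).factorization 2 =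
      (Nat.card (GL (Fin 2) F)).factorization 2 := by
  rw [card_SL3_eq]
  have hqodd : Odd (Fintype.card F) := Nat.odd_iff.2 hodd
  have hw : Odd (Fintype.card F ^ 2 * (Fintype.card F ^ 2 + Fintype.card F + 1)) := by
    apply Odd.mul hqodd.pow
    have h1 : Even (Fintype.card F ^ 2 + Fintype.card F) := (hqodd.pow).add_odd hqodd
    exact h1.add_one
  have hw0 : Fintype.card F ^ 2 * (Fintype.card F ^ 2 + Fintype.card F + 1) ≠ 0 := hw.pos.ne'
  have hg0 : Nat.card (GL (Fin 2) F) ≠ 0 := Nat.card_pos.ne'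
  rw [Nat.factorization_mul hg0 hw0]
  have hw2 : (Fintype.card F ^ 2 * (Fintype.card F ^ 2 + Fintype.card F + 1)).factorization 2
      = 0 := by
    apply Nat.factorization_eq_zero_of_not_dvd
    intro h
    exact (Nat.not_even_iff_odd.2 hw) (even_iff_two_dvd.2 h)
  rw [Finsupp.add_apply, hw2, add_zero]

end Cfsg.Agent.Lib.Helper60_F2L3_CARD3
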