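import Mathlib
import Cfsg.Prelude.Def_FusionSystem
import Cfsg.Agent.Lib.Helper87_F2L3Defs

/-!
# S5318 package F2L3-QUOT (architect helper87): the condition `SCB` for a Sylow `p`-subgroup passes
to the quotient by the centre when `p` does not divide the order of the centre
-/

set_option autoImplicit false

open Matrix Cfsg.Agent.Lib.Helper87_F2L3

namespace Cfsg.Agent.Lib.Helper60_F2L3_QUOT

variable {F : Type*} [Field F]

/-- a central element whose `m`-th power is trivial, `m` prime to the order of the centre, is trivial -/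
theorem central_eq_one {G : Type*} [Group G] [Finite G] {m : ℕ}
    (hm : m.Coprime (Nat.card (Subgroup.center G))) {z : G} (hz : z ∈ Subgroup.center G)
    (hzm : z ^ m = 1) : z = 1 := by
  have h1 : orderOf z ∣ m := orderOf_dvd_of_pow_eq_one hzm
  have h2 : orderOf z ∣ Nat.card (Subgroup.center G) := Subgroup.orderOf_dvd_natCard _ hz
  have h3 : orderOf z ∣ 1 := by
    rw [← Nat.Coprime.gcd_eq_one hm]
    exact Nat.dvd_gcd h1 h2
  exact orderOf_eq_one_iff.1 (Nat.dvd_one.1 h3)

/-- the key fact: an element killed by `|P|` whose image lies in the image of `P` lies in `P` -/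
theorem mem_of_map_mem {G : Type*} [Group G] [Finite G] {p : ℕ} [Fact p.Prime]
    (hZ : ¬ p ∣ Nat.card (Subgroup.center G)) (P : Sylow p G) {x : G}
    (hx : x ^ Nat.card (P : Subgroup G) = 1)
    (hπ : QuotientGroup.mk' (Subgroup.center G) x ∈
      (P : Subgroup G).map (QuotientGroup.mk' (Subgroup.center G))) : x ∈ (P : Subgroup G) := by
  obtain ⟨k, hk⟩ := IsPGroup.iff_card.1 P.isPGroup'
  have hcop : (Nat.card (P : Subgroup G)).Coprime (Nat.card (Subgroup.center G)) := by
    rw [hk]
    exact Nat.Coprime.pow_left k ((Nat.Prime.coprime_iff_not_dvd Fact.out).2 hZ)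
  obtain ⟨s, hs, hsx⟩ := hπ
  have hz : s⁻¹ * x ∈ Subgroup.center G := by
    have := (QuotientGroup.eq (s := Subgroup.center G) (a := s) (b := x)).1 hsx
    exact this
  have hsm : s ^ Nat.card (P : Subgroup G) = 1 := by
    have := pow_card_eq_one' (G := (P : Subgroup G)) (x := ⟨s, hs⟩)
    exact congrArg Subtype.val this
  have hcomm : Commute s (s⁻¹ * x) := Subgroup.mem_center_iff.1 hz s
  have hzm : (s⁻¹ * x) ^ Nat.card (P : Subgroup G) = 1 := by
    have h1 : x = s * (s⁻¹ * x) := by group
    have h2 := hx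
    rw [h1, hcomm.mul_pow, hsm, one_mul] at h2
    exact h2
  have h1 := central_eq_one hcop hz hzm
  have : x = s := by
    have := congrArg (s * ·) h1
    simpa using this
  rw [this]
  exact hs

theorem quot {G : Type*} [Group G] [Finite G] {p : ℕ} [Fact p.Prime]
    (hZ : ¬ p ∣ Nat.card (Subgroup.center G)) (P : Sylow p G) (h : SCB (P : Subgroup G))
    (hne : (P : Subgroup G) ≠ ⊥) :
    SCB ((P : Subgroup G).map (QuotientGroup.mk' (Subgroup.center G))) ∧
      (P : Subgroup G).map (QuotientGroup.mk' (Subgroup.center G)) ≠ ⊥ := by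
  obtain ⟨hA, hB⟩ := h
  have hconjpow : ∀ (n s : G), s ∈ (P : Subgroup G) →
      (n * s * n⁻¹) ^ Nat.card (P : Subgroup G) = 1 := by
    intro n s hs
    have hsm : s ^ Nat.card (P : Subgroup G) = 1 := by
      have := pow_card_eq_one' (G := (P : Subgroup G)) (x := ⟨s, hs⟩)
      exact congrArg Subtype.val this
    rw [conj_pow, hsm, mul_one, mul_inv_cancel]
  refine ⟨⟨?_, ?_⟩, ?_⟩
  · -- (A)
    intro Tb hTb hTb1 hsc
    have hT : (P : Subgroup G) ⊓ Tb.comap (QuotientGroup.mk' (Subgroup.center G)) =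
        (P : Subgroup G) := by
      apply hA
      · exact inf_le_left
      · obtain ⟨⟨tb, htbT⟩, htb1⟩ := (Subgroup.ne_bot_iff_exists_ne_one).1 hTb1
        have htb1' : tb ≠ 1 := fun h => htb1 (Subtype.ext h)
        obtain ⟨s, hs, hst⟩ := hTb htbT
        intro hbot
        have hsmem : s ∈ (P : Subgroup G) ⊓ Tb.comap (QuotientGroup.mk' (Subgroup.center G)) :=
          ⟨hs, by
            show QuotientGroup.mk' (Subgroup.center G) s ∈ Tb
            rw [hst]; exact htbT⟩
        rw [hbot, Subgroup.mem_bot] at hsmem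
        apply htb1'
        rw [← hst, hsmem, map_one]
      · intro t ht g hg
        refine ⟨hg, ?_⟩
        show QuotientGroup.mk' (Subgroup.center G) (g * t * g⁻¹) ∈ Tb
        rw [map_mul, map_mul, map_inv]
        apply hsc _ ht.2
        rw [← map_inv, ← map_mul, ← map_mul]
        exact ⟨_, hg, rfl⟩
    apply le_antisymm hTb
    rintro _ ⟨s, hs, rfl⟩
    have : s ∈ (P : Subgroup G) ⊓ Tb.comap (QuotientGroup.mk' (Subgroup.center G)) := by
      rw [hT]; exact hs
    exact this.2
  · -- (B)
    intro nb hnb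
    obtain ⟨n, rfl⟩ := QuotientGroup.mk'_surjective (Subgroup.center G) nb
    have hnorm : ∀ s ∈ (P : Subgroup G), n * s * n⁻¹ ∈ (P : Subgroup G) := by
      intro s hs
      apply mem_of_map_mem hZ P (hconjpow n s hs)
      have := hnb _ ⟨s, hs, rfl⟩
      rwa [← map_inv, ← map_mul, ← map_mul] at this
    obtain ⟨s₀, hs₀, hs₀x⟩ := hB n hnorm
    refine ⟨QuotientGroup.mk' (Subgroup.center G) s₀, ⟨s₀, hs₀, rfl⟩, ?_⟩
    rintro _ ⟨x, hx, rfl⟩
    rw [← map_inv, ← map_mul, ← map_mul, hs₀x x hx, map_mul, map_mul, map_inv]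
  · -- nontriviality
    intro hbot
    apply hne
    rw [eq_bot_iff]
    intro s hs
    rw [Subgroup.mem_bot]
    have h1 : QuotientGroup.mk' (Subgroup.center G) s ∈
        (P : Subgroup G).map (QuotientGroup.mk' (Subgroup.center G)) := ⟨s, hs, rfl⟩
    rw [hbot, Subgroup.mem_bot] at h1
    have hz : s ∈ Subgroup.center G := by
      have := (QuotientGroup.eq_one_iff (N := Subgroup.center G) s).1 h1
      exact this
    obtain ⟨k, hk⟩ := IsPGroup.iff_card.1 P.isPGroup'
    have hcop : (Nat.card (P : Subgroup G)).Coprime (Nat.card (Subgroup.center G)) := by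
      rw [hk]
      exact Nat.Coprime.pow_left k ((Nat.Prime.coprime_iff_not_dvd Fact.out).2 hZ)
    have hsm : s ^ Nat.card (P : Subgroup G) = 1 := by
      have := pow_card_eq_one' (G := (P : Subgroup G)) (x := ⟨s, hs⟩)
      exact congrArg Subtype.val this
    exact central_eq_one hcop hz hsm

end Cfsg.Agent.Lib.Helper60_F2L3_QUOT
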