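import Mathlib
import Cfsg.Agent.Lib.Helper83_FrCDefs

set_option autoImplicit false
set_option linter.unusedSectionVars false
set_option linter.unusedVariables false

/-!
# Unitary frames `GU_1 wr S_n` in `SU_n(q)` for `9 ≤ n ≤ 12` (project FR10, helper67):
the sharp rank lemma.  Everything else is `Helper83_FrCDefs` (helper83's case (C) of S5655).
-/

namespace Cfsg.Agent.Lib.Helper67_Fr10Defs

open Module Cfsg.Agent.Lib.Helper83_FrCDefs

/-- the sharp rank lemma (R'): a monomial map `m` such that `m - l` has range in a subspace of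
dimension `≤ r` satisfies `m e_i = l e_i` for all but at most `2 r` indices -/
def RankLemma2 (F : Type*) [Field F] {V ι : Type*} [AddCommGroup V] [Module F V]
    (e : ι → V) : Prop :=
  ∀ m : V ≃ₗ[F] V, IsMonoMap e m → ∀ l : F, l ≠ 0 → ∀ U : Submodule F V,
    (∀ x, m x - l • x ∈ U) → ∀ r : ℕ, finrank F U ≤ r →
    Set.ncard {i | m (e i) ≠ l • e i} ≤ 2 * r

end Cfsg.Agent.Lib.Helper67_Fr10Defs
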