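import Mathlib

set_option autoImplicit false

namespace Cfsg.Agent.Lib.Helper60_Frobenius

open Subgroup

/-! ### The group of affine maps `x ↦ u * x + b`, `u ∈ C ≤ Fˣ` -/

/-- The group of affine maps `x ↦ u * x + b` of a field `F` with `u` in a subgroup `C` of `Fˣ`. -/
@[ext]
structure AffGroup (F : Type*) [Field F] (C : Subgroup Fˣ) where
  /-- translation part -/
  b : F
  /-- linear part -/
  u : C

namespace AffGroup

variable {F : Type*} [Field F] {C : Subgroup Fˣ}

/-- the linear part as an element of the field -/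
def uF (x : AffGroup F C) : F := ((x.u : Fˣ) : F)

instance : Mul (AffGroup F C) := ⟨fun x y => ⟨x.b + x.uF * y.b, x.u * y.u⟩⟩
instance : One (AffGroup F C) := ⟨⟨0, 1⟩⟩
instance : Inv (AffGroup F C) := ⟨fun x => ⟨-(((x.u⁻¹ : C) : Fˣ) : F) * x.b, x.u⁻¹⟩⟩

@[simp] theorem mul_b (x y : AffGroup F C) : (x * y).b = x.b + x.uF * y.b := rfl
@[simp] theorem mul_u (x y : AffGroup F C) : (x * y).u = x.u * y.u := rfl
@[simp] theorem one_b : (1 : AffGroup F C).b = 0 := rfl
@[simp] theorem one_u : (1 : AffGroup F C).u = 1 := rfl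
@[simp] theorem inv_b (x : AffGroup F C) : (x⁻¹).b = -(((x.u⁻¹ : C) : Fˣ) : F) * x.b := rfl
@[simp] theorem inv_u (x : AffGroup F C) : (x⁻¹).u = x.u⁻¹ := rfl
@[simp] theorem mul_uF (x y : AffGroup F C) : (x * y).uF = x.uF * y.uF := by
  simp [uF]
@[simp] theorem one_uF : (1 : AffGroup F C).uF = 1 := by simp [uF]
@[simp] theorem mk_uF (b : F) (u : C) : (AffGroup.mk b u : AffGroup F C).uF = ((u : Fˣ) : F) := rfl

instance : Group (AffGroup F C) :=
  Group.ofLeftAxioms
    (by intro x y z; ext <;> simp [mul_assoc, mul_add, add_assoc])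
    (by intro x; ext <;> simp)
    (by
      intro x
      ext
      · simp [uF]
      · simp)

/-- The projection onto the linear part. -/
def proj : AffGroup F C →* C where
  toFun x := x.u
  map_one' := rfl
  map_mul' _ _ := rfl

/-- The embedding of the linear part. -/
def lin : C →* AffGroup F C where
  toFun u := ⟨0, u⟩
  map_one' := rfl
  map_mul' u v := by ext <;> simp

theorem lin_injective : Function.Injective (lin : C →* AffGroup F C) := by
  intro u v h
  exact congrArg AffGroup.u h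

/-- The translation subgroup. -/
def trans : Subgroup (AffGroup F C) := (proj : AffGroup F C →* C).ker

theorem mem_trans {x : AffGroup F C} : x ∈ (trans : Subgroup (AffGroup F C)) ↔ x.u = 1 :=
  MonoidHom.mem_ker

instance : (trans : Subgroup (AffGroup F C)).Normal := by
  unfold trans; infer_instance

theorem pow_trans_b (b : F) (n : ℕ) : ((⟨b, 1⟩ : AffGroup F C) ^ n) = ⟨n • b, 1⟩ := by
  induction n with
  | zero => ext <;> simp
  | succ n ih =>
    rw [pow_succ, ih]
    ext
    · simp [add_smul]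
    · simp

/-- Conjugating an element with non-trivial linear part to a purely linear element. -/
theorem conj_lin (x : AffGroup F C) (hx : x.u ≠ 1) :
    x = (⟨x.b / (1 - x.uF), 1⟩ : AffGroup F C) * lin x.u * (⟨x.b / (1 - x.uF), 1⟩ : AffGroup F C)⁻¹ := by
  have h1 : (1 : F) - x.uF ≠ 0 := by
    intro h
    apply hx
    have : x.uF = 1 := by linear_combination -h
    ext
    simpa [uF] using this
  ext
  · simp [lin, uF] at *
    field_simp
    ring
  · simp [lin]

end AffGroup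



namespace AffGroup

variable {F : Type*} [Field F] {C : Subgroup Fˣ}

/-- Translations by non-zero elements have order `P` in characteristic `P`. -/
theorem orderOf_trans (P : ℕ) [hP : Fact P.Prime] [CharP F P] (x : AffGroup F C)
    (hx : x.u = 1) (hx1 : x ≠ 1) : orderOf x = P := by
  have hx' : x = ⟨x.b, 1⟩ := by ext <;> simp [hx]
  apply orderOf_eq_prime _ hx1
  rw [hx', pow_trans_b]
  ext
  · simp
  · simp

/-- Elements with non-trivial linear part have the order of their linear part. -/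
theorem orderOf_of_u_ne_one (x : AffGroup F C) (hx : x.u ≠ 1) : orderOf x = orderOf x.u := by
  have h := conj_lin x hx
  have h2 : orderOf x = orderOf (lin x.u : AffGroup F C) := by
    conv_lhs => rw [h]
    exact ((SemiconjBy.conj_mk _ _).orderOf_eq _).symm
  rw [h2]
  exact orderOf_injective lin lin_injective x.u

end AffGroup




/-- Field generation: let `F` be a field with `P ^ k` elements where `k` is minimal with
`Q ∣ P ^ k - 1`, and let `u ∈ Fˣ` have order `Q`. Then a non-zero additive subgroup of `F` that is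
closed under multiplication by `u` is everything. -/
theorem addSubgroup_eq_top {F : Type*} [Field F] [Finite F] {P Q k : ℕ} (hP : P.Prime)
    (hQ : Q.Prime) (hcard : Nat.card F = P ^ k) (hk : ∀ d, 0 < d → Q ∣ P ^ d - 1 → k ≤ d)
    (u : Fˣ) (hu : orderOf u = Q) (W : AddSubgroup F) (hW : ∀ w ∈ W, (u : F) * w ∈ W)
    (hW0 : W ≠ ⊥) : W = ⊤ := by
  classical
  have : Fintype F := Fintype.ofFinite F
  have : Fintype W := Fintype.ofFinite W
  have : Fact Q.Prime := ⟨hQ⟩
  -- the order of `W` is a power of `P`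
  have hdvd : Nat.card W ∣ P ^ k := hcard ▸ AddSubgroup.card_addSubgroup_dvd_card W
  obtain ⟨d, hdk, hd⟩ := (Nat.dvd_prime_pow hP).mp hdvd
  have hd0 : 0 < d := by
    rcases Nat.eq_zero_or_pos d with h | h
    · exfalso
      rw [h, pow_zero] at hd
      exact hW0 (AddSubgroup.card_eq_one.mp hd)
    · exact h
  -- multiplication by `u` as a self-map of `W`
  let f : Function.End W := fun w => ⟨(u : F) * w, hW w w.2⟩
  have hfpow : ∀ (n : ℕ) (w : W), (((f ^ n : Function.End W) w : W) : F) = (u : F) ^ n * w := by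
    intro n
    induction n with
    | zero =>
      intro w
      rw [pow_zero, pow_zero, one_mul]
      rfl
    | succ n ih =>
      intro w
      rw [pow_succ, Function.End.mul_def]
      change (((f ^ n : Function.End W) (f w) : W) : F) = _
      rw [ih]
      change (u : F) ^ n * ((u : F) * w) = _
      ring
  have hfQ : f ^ Q ^ 1 = 1 := by
    rw [pow_one]
    funext w
    apply Subtype.ext
    rw [hfpow]
    have : (u : F) ^ Q = 1 := by
      rw [← hu, ← Units.val_pow_eq_pow_val, pow_orderOf_eq_one, Units.val_one]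
    rw [this, one_mul]
    rfl
  have hu1 : (u : F) ≠ 1 := by
    intro h
    have : u = 1 := Units.ext h
    rw [this, orderOf_one] at hu
    exact hQ.one_lt.ne hu
  have hfix : Fintype.card (Function.fixedPoints f) = 1 := by
    rw [Fintype.card_eq_one_iff]
    refine ⟨⟨0, ?_⟩, ?_⟩
    · change f 0 = 0
      apply Subtype.ext
      change (u : F) * ((0 : W) : F) = ((0 : W) : F)
      simp
    · rintro ⟨w, hw⟩
      apply Subtype.ext
      apply Subtype.ext
      have h1 : (u : F) * (w : F) = w := congrArg Subtype.val hw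
      have h2 : ((u : F) - 1) * (w : F) = 0 := by rw [sub_mul, h1, one_mul, sub_self]
      rcases mul_eq_zero.mp h2 with h | h
      · exact absurd (sub_eq_zero.mp h) hu1
      · simpa using h
  have hmod := Equiv.Perm.card_fixedPoints_modEq (f := f) hfQ
  rw [hfix, ← Nat.card_eq_fintype_card, hd] at hmod
  have hQdvd : Q ∣ P ^ d - 1 := (Nat.modEq_iff_dvd' (Nat.one_le_pow _ _ hP.pos)).mp hmod.symm
  have hkd : k ≤ d := hk d hd0 hQdvd
  have hdk' : d = k := le_antisymm hdk hkd
  apply AddSubgroup.eq_top_of_card_eq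
  rw [hd, hdk', hcard]




namespace AffGroup

variable {F : Type*} [Field F] {C : Subgroup Fˣ}

/-- conjugating a translation -/
theorem conj_trans (h : AffGroup F C) (x : F) :
    h * (⟨x, 1⟩ : AffGroup F C) * h⁻¹ = ⟨h.uF * x, 1⟩ := by
  ext
  · simp [uF]
  · simp

/-- commutator of a translation with an arbitrary element -/
theorem comm_trans (g : AffGroup F C) (t : F) :
    (⟨t, 1⟩ : AffGroup F C) * g * (⟨t, 1⟩ : AffGroup F C)⁻¹ * g⁻¹ = ⟨(1 - g.uF) * t, 1⟩ := by
  ext
  · simp [uF]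
    ring_nf
  · simp

theorem uF_ne_one {x : AffGroup F C} (hx : x.u ≠ 1) : x.uF ≠ 1 := by
  intro h
  apply hx
  ext
  simpa [uF] using h

end AffGroup




namespace AffGroup

variable {F : Type*} [Field F] {C : Subgroup Fˣ}

section Frobenius

variable [Finite F] {P Q k : ℕ} [hP : Fact P.Prime] [CharP F P] (hQ : Q.Prime)
  (hcard : Nat.card F = P ^ k) (hk : ∀ d, 0 < d → Q ∣ P ^ d - 1 → k ≤ d) (hC : Nat.card C = Q)

omit [Finite F] in
include hQ hC in
theorem orderOf_u_eq (u : C) (hu : u ≠ 1) : orderOf u = Q := by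
  have h1 : orderOf u ∣ Q := hC ▸ orderOf_dvd_natCard u
  rcases (Nat.dvd_prime hQ).mp h1 with h | h
  · exact absurd (orderOf_eq_one_iff.mp h) hu
  · exact h

omit [Finite F] in
include hQ hC in
/-- Elements outside the translation subgroup have order `Q`. -/
theorem orderOf_eq_of_not_mem_trans (x : AffGroup F C) (hx : x ∉ (trans : Subgroup (AffGroup F C))) :
    orderOf x = Q := by
  rw [mem_trans] at hx
  rw [orderOf_of_u_ne_one x hx]
  exact orderOf_u_eq hQ hC x.u hx

omit [Finite F] in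
include hQ hC in
/-- The spectrum of the Frobenius group is contained in `{1, P, Q}`. -/
theorem orderOf_mem (x : AffGroup F C) : orderOf x = 1 ∨ orderOf x = P ∨ orderOf x = Q := by
  by_cases hx : x ∈ (trans : Subgroup (AffGroup F C))
  · by_cases hx1 : x = 1
    · left; rw [hx1, orderOf_one]
    · right; left
      exact orderOf_trans P x (mem_trans.mp hx) hx1
  · right; right
    exact orderOf_eq_of_not_mem_trans hQ hC x hx

omit [CharP F P] in
include hQ hcard hk hC in
/-- If a subgroup contains a non-trivial translation and is stable under multiplication of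
translations by some `u₀ ≠ 1` of `C`, then it contains all translations. -/
theorem trans_le_of_closed (H : Subgroup (AffGroup F C)) (u₀ : C) (hu₀ : u₀ ≠ 1)
    (hclosed : ∀ x : F, (⟨x, 1⟩ : AffGroup F C) ∈ H → (⟨((u₀ : Fˣ) : F) * x, 1⟩ : AffGroup F C) ∈ H)
    (hne : ∃ x : F, x ≠ 0 ∧ (⟨x, 1⟩ : AffGroup F C) ∈ H) :
    (trans : Subgroup (AffGroup F C)) ≤ H := by
  -- the additive subgroup of translations in `H`
  let W : AddSubgroup F :=
    { carrier := {x | (⟨x, 1⟩ : AffGroup F C) ∈ H}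
      add_mem' := by
        intro x y hx hy
        have : (⟨x + y, 1⟩ : AffGroup F C) = ⟨x, 1⟩ * ⟨y, 1⟩ := by ext <;> simp
        change (⟨x + y, 1⟩ : AffGroup F C) ∈ H
        rw [this]; exact H.mul_mem hx hy
      zero_mem' := H.one_mem
      neg_mem' := by
        intro x hx
        have : (⟨-x, 1⟩ : AffGroup F C) = (⟨x, 1⟩ : AffGroup F C)⁻¹ := by ext <;> simp
        change (⟨-x, 1⟩ : AffGroup F C) ∈ H
        rw [this]; exact H.inv_mem hx }
  have hWmem : ∀ x, x ∈ W ↔ (⟨x, 1⟩ : AffGroup F C) ∈ H := fun x => Iff.rfl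
  have hW0 : W ≠ ⊥ := by
    obtain ⟨x, hx0, hx⟩ := hne
    intro h
    have : x ∈ W := (hWmem x).mpr hx
    rw [h, AddSubgroup.mem_bot] at this
    exact hx0 this
  have hu₀ord : orderOf (u₀ : Fˣ) = Q := by
    rw [Subgroup.orderOf_coe]; exact orderOf_u_eq hQ hC u₀ hu₀
  have htop : W = ⊤ := addSubgroup_eq_top hP.out hQ hcard hk (u₀ : Fˣ) hu₀ord W
    (fun w hw => (hWmem _).mpr (hclosed w ((hWmem w).mp hw))) hW0
  intro x hx
  rw [mem_trans] at hx
  have hx' : x = ⟨x.b, 1⟩ := by ext <;> simp [hx]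
  rw [hx']
  exact (hWmem x.b).mp (htop ▸ AddSubgroup.mem_top _)

omit [CharP F P] in
include hQ hcard hk hC in
/-- Every non-trivial normal subgroup contains the translation subgroup. -/
theorem trans_le_of_normal (N : Subgroup (AffGroup F C)) [hN : N.Normal] (hN1 : N ≠ ⊥) (hCnt : ∃ u₀ : C, u₀ ≠ 1) :
    (trans : Subgroup (AffGroup F C)) ≤ N := by
  obtain ⟨g, hg, hg1⟩ : ∃ g ∈ N, g ≠ 1 := by
    obtain ⟨g, hg⟩ := (Subgroup.ne_bot_iff_exists_ne_one).mp hN1
    exact ⟨g, g.2, fun h => hg (Subtype.ext h)⟩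
  by_cases hgu : g.u = 1
  · -- `g` is a translation
    obtain ⟨u₀, hu₀⟩ := hCnt
    apply trans_le_of_closed hQ hcard hk hC N u₀ hu₀
    · intro x hx
      have := hN.conj_mem _ hx (lin u₀)
      rw [conj_trans] at this
      simpa [lin] using this
    · refine ⟨g.b, ?_, ?_⟩
      · intro hb
        apply hg1
        ext
        · simpa using hb
        · simpa using hgu
      · have hg' : g = ⟨g.b, 1⟩ := by ext <;> simp [hgu]
        rw [← hg']; exact hg
  · -- commutators with translations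
    intro x hx
    rw [mem_trans] at hx
    have hx' : x = ⟨x.b, 1⟩ := by ext <;> simp [hx]
    have h1 : (1 : F) - g.uF ≠ 0 := sub_ne_zero.mpr (uF_ne_one hgu).symm
    have key := comm_trans g (x.b / (1 - g.uF))
    have hmem : (⟨x.b / (1 - g.uF), 1⟩ : AffGroup F C) * g * (⟨x.b / (1 - g.uF), 1⟩ : AffGroup F C)⁻¹ * g⁻¹ ∈ N :=
      N.mul_mem (hN.conj_mem g hg _) (N.inv_mem hg)
    rw [key, mul_div_cancel₀ _ h1] at hmem
    rw [hx']; exact hmem

include hQ hcard hk hC in
/-- A subgroup whose order is divisible by `P` and by `Q` is everything. -/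
theorem eq_top_of_dvd_card (hPQ : P ≠ Q) (H : Subgroup (AffGroup F C)) [Finite (AffGroup F C)]
    (hPH : P ∣ Nat.card H) (hQH : Q ∣ Nat.card H) : H = ⊤ := by
  have : Fact Q.Prime := ⟨hQ⟩
  obtain ⟨x, hx⟩ := exists_prime_orderOf_dvd_card' Q hQH
  obtain ⟨y, hy⟩ := exists_prime_orderOf_dvd_card' P hPH
  have hxo : orderOf (x : AffGroup F C) = Q := by rw [Subgroup.orderOf_coe, hx]
  have hyo : orderOf (y : AffGroup F C) = P := by rw [Subgroup.orderOf_coe, hy]
  -- `x` has non-trivial linear part, `y` is a translation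
  have hxu : (x : AffGroup F C).u ≠ 1 := by
    intro h
    by_cases hx1 : (x : AffGroup F C) = 1
    · rw [hx1, orderOf_one] at hxo; exact hQ.one_lt.ne hxo
    · have := orderOf_trans P (x : AffGroup F C) h hx1
      exact hPQ (this.symm.trans hxo)
  have hyu : (y : AffGroup F C).u = 1 := by
    by_contra h
    have := orderOf_eq_of_not_mem_trans hQ hC (y : AffGroup F C) (fun hm => h (mem_trans.mp hm))
    exact hPQ (hyo.symm.trans this)
  have hy1 : (y : AffGroup F C) ≠ 1 := by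
    intro h
    rw [h, orderOf_one] at hyo
    exact hP.out.one_lt.ne hyo
  have htr : (trans : Subgroup (AffGroup F C)) ≤ H := by
    apply trans_le_of_closed hQ hcard hk hC H (x : AffGroup F C).u hxu
    · intro t ht
      have := H.mul_mem (H.mul_mem x.2 ht) (H.inv_mem x.2)
      rwa [conj_trans] at this
    · refine ⟨(y : AffGroup F C).b, ?_, ?_⟩
      · intro hb
        apply hy1
        ext
        · simpa using hb
        · simpa using hyu
      · have hy' : (y : AffGroup F C) = ⟨(y : AffGroup F C).b, 1⟩ := by ext <;> simp [hyu]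
        rw [← hy']; exact y.2
  -- every element is a power of `x` times a translation
  rw [eq_top_iff]
  intro g _
  have hgen : (g.u : C) ∈ Subgroup.zpowers ((x : AffGroup F C).u) := by
    have : Fact Q.Prime := ⟨hQ⟩
    rw [zpowers_eq_top_of_prime_card hC hxu]; trivial
  obtain ⟨n, hn⟩ := Subgroup.mem_zpowers_iff.mp hgen
  have h1 : g * ((x : AffGroup F C) ^ n)⁻¹ ∈ (trans : Subgroup (AffGroup F C)) := by
    rw [mem_trans]
    have : ((x : AffGroup F C) ^ n).u = (x : AffGroup F C).u ^ n := map_zpow (proj : AffGroup F C →* C) _ n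
    simp [this, hn]
  have h2 : g = g * ((x : AffGroup F C) ^ n)⁻¹ * (x : AffGroup F C) ^ n := by group
  rw [h2]
  exact H.mul_mem (htr h1) (H.zpow_mem x.2 n)

end Frobenius

end AffGroup




/-! ### The Frobenius group `F_{P^k} ⋊ Z_Q` -/

/-- The multiplicative order of `P` modulo `Q` (the least `d > 0` with `Q ∣ P ^ d - 1`). -/
noncomputable def ordMod (P Q : ℕ) : ℕ := sInf {d | 0 < d ∧ Q ∣ P ^ d - 1}

theorem ordMod_spec {P Q : ℕ} (hP : P.Prime) (hQ : Q.Prime) (hPQ : P ≠ Q) :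
    0 < ordMod P Q ∧ Q ∣ P ^ ordMod P Q - 1 := by
  have hne : {d | 0 < d ∧ Q ∣ P ^ d - 1}.Nonempty := by
    refine ⟨Nat.totient Q, Nat.totient_pos.mpr hQ.pos, ?_⟩
    have hcop : Nat.Coprime P Q := (Nat.coprime_primes hP hQ).mpr hPQ
    have := Nat.ModEq.pow_totient hcop
    exact (Nat.modEq_iff_dvd' (Nat.one_le_pow _ _ hP.pos)).mp this.symm
  exact Nat.sInf_mem hne

theorem ordMod_le {P Q d : ℕ} (hd : 0 < d) (h : Q ∣ P ^ d - 1) : ordMod P Q ≤ d :=
  Nat.sInf_le ⟨hd, h⟩

/-- The field with `P ^ ordMod P Q` elements. -/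
abbrev FrobField (P Q : ℕ) [Fact P.Prime] : Type := GaloisField P (ordMod P Q)

theorem card_frobField {P Q : ℕ} [hP : Fact P.Prime] (hQ : Q.Prime) (hPQ : P ≠ Q) :
    Nat.card (FrobField P Q) = P ^ ordMod P Q :=
  GaloisField.card P _ (ordMod_spec hP.out hQ hPQ).1.ne'

theorem exists_unit_orderOf {P Q : ℕ} [hP : Fact P.Prime] (hQ : Q.Prime) (hPQ : P ≠ Q) :
    ∃ c : (FrobField P Q)ˣ, orderOf c = Q := by
  have : Fact Q.Prime := ⟨hQ⟩
  apply exists_prime_orderOf_dvd_card' Q
  rw [Nat.card_units, card_frobField hQ hPQ]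
  exact (ordMod_spec hP.out hQ hPQ).2

/-- The subgroup of order `Q` of the multiplicative group of `FrobField P Q`. -/
noncomputable def frobC (P Q : ℕ) [Fact P.Prime] : Subgroup (FrobField P Q)ˣ :=
  if h : Q.Prime ∧ P ≠ Q then Subgroup.zpowers (Classical.choose (exists_unit_orderOf h.1 h.2)) else ⊥

theorem card_frobC {P Q : ℕ} [hP : Fact P.Prime] (hQ : Q.Prime) (hPQ : P ≠ Q) :
    Nat.card (frobC P Q) = Q := by
  have h : Q.Prime ∧ P ≠ Q := ⟨hQ, hPQ⟩
  rw [frobC, dif_pos h, Nat.card_zpowers]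
  exact Classical.choose_spec (exists_unit_orderOf h.1 h.2)

/-- The Frobenius group of order `P ^ k * Q`, `k` the multiplicative order of `P` mod `Q`. -/
abbrev Frob (P Q : ℕ) [Fact P.Prime] : Type := AffGroup (FrobField P Q) (frobC P Q)

namespace AffGroup

variable {F : Type*} [Field F] {C : Subgroup Fˣ}

/-- The underlying set of the affine group. -/
def equivProd : AffGroup F C ≃ F × C where
  toFun x := (x.b, x.u)
  invFun y := ⟨y.1, y.2⟩
  left_inv _ := rfl
  right_inv _ := rfl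

instance [Finite F] : Finite (AffGroup F C) := Finite.of_equiv _ equivProd.symm

theorem card_eq [Finite F] : Nat.card (AffGroup F C) = Nat.card F * Nat.card C := by
  rw [Nat.card_congr equivProd, Nat.card_prod]

end AffGroup

section FrobFacts

variable {P Q : ℕ} [hP : Fact P.Prime] (hQ : Q.Prime) (hPQ : P ≠ Q)

include hQ hPQ in
theorem card_frob : Nat.card (Frob P Q) = P ^ ordMod P Q * Q := by
  rw [AffGroup.card_eq, card_frobField hQ hPQ, card_frobC hQ hPQ]

include hQ hPQ in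
theorem frob_orderOf_mem (x : Frob P Q) : orderOf x = 1 ∨ orderOf x = P ∨ orderOf x = Q :=
  AffGroup.orderOf_mem hQ (card_frobC hQ hPQ) x

include hQ hPQ in
theorem frob_exists_orderOf_P : ∃ x : Frob P Q, orderOf x = P := by
  have hdvd : P ∣ Nat.card (Frob P Q) := by
    rw [card_frob hQ hPQ]
    exact Dvd.dvd.mul_right (dvd_pow_self P (ordMod_spec hP.out hQ hPQ).1.ne') Q
  exact exists_prime_orderOf_dvd_card' P hdvd

include hQ hPQ in
theorem frob_exists_orderOf_Q : ∃ x : Frob P Q, orderOf x = Q := by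
  have : Fact Q.Prime := ⟨hQ⟩
  have hdvd : Q ∣ Nat.card (Frob P Q) := by
    rw [card_frob hQ hPQ]
    exact Dvd.intro_left _ rfl
  exact exists_prime_orderOf_dvd_card' Q hdvd

include hQ hPQ in
theorem frob_eq_top_of_dvd_card (H : Subgroup (Frob P Q)) (hPH : P ∣ Nat.card H)
    (hQH : Q ∣ Nat.card H) : H = ⊤ :=
  AffGroup.eq_top_of_dvd_card hQ (card_frobField hQ hPQ)
    (fun _ hd h => ordMod_le hd h) (card_frobC hQ hPQ) hPQ H hPH hQH

include hQ hPQ in
theorem frob_trans_le_of_normal (N : Subgroup (Frob P Q)) [N.Normal] (hN1 : N ≠ ⊥) :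
    (AffGroup.trans : Subgroup (Frob P Q)) ≤ N := by
  apply AffGroup.trans_le_of_normal hQ (card_frobField hQ hPQ)
    (fun _ hd h => ordMod_le hd h) (card_frobC hQ hPQ) N hN1
  -- `C` is non-trivial
  have hcard := card_frobC (P := P) hQ hPQ
  have : 1 < Nat.card (frobC P Q) := by rw [hcard]; exact hQ.one_lt
  have hfin : Finite (frobC P Q) := Nat.finite_of_card_ne_zero (by omega)
  have hnt : Nontrivial (frobC P Q) := Finite.one_lt_card_iff_nontrivial.mp this
  obtain ⟨u, hu⟩ := exists_ne (1 : frobC P Q)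
  exact ⟨u, hu⟩

include hQ hPQ in
/-- Elements whose order is a power of `P` are translations. -/
theorem frob_mem_trans_of_pow_eq_one (x : Frob P Q) (n : ℕ) (hx : x ^ P ^ n = 1) :
    x ∈ (AffGroup.trans : Subgroup (Frob P Q)) := by
  by_contra h
  have ho := AffGroup.orderOf_eq_of_not_mem_trans hQ (card_frobC hQ hPQ) x h
  have hdvd : orderOf x ∣ P ^ n := orderOf_dvd_of_pow_eq_one hx
  rw [ho] at hdvd
  exact hPQ ((Nat.prime_dvd_prime_iff_eq hQ hP.out).mp (hQ.dvd_of_dvd_pow hdvd)).symm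

end FrobFacts


/-! ### Products of groups of pairwise coprime orders -/

section PiCoprime

variable {ι : Type*} [Fintype ι] [DecidableEq ι] {K : ι → Type*} [∀ j, Group (K j)]
  [∀ j, Finite (K j)]

omit [DecidableEq ι] [∀ j, Finite (K j)] in
/-- In a product of groups of pairwise coprime orders, orders of elements multiply. -/
theorem pi_orderOf_eq_prod
    (hcop : Pairwise (fun i j => Nat.Coprime (Nat.card (K i)) (Nat.card (K j))))
    (g : ∀ j, K j) : orderOf g = ∏ j, orderOf (g j) := by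
  rw [Pi.orderOf]
  apply Finset.lcm_eq_prod
  intro i _ j _ hij
  show Nat.Coprime (orderOf (g i)) (orderOf (g j))
  exact Nat.Coprime.of_dvd (orderOf_dvd_natCard (g i)) (orderOf_dvd_natCard (g j)) (hcop hij)

omit [Fintype ι] [∀ j, Finite (K j)] in
/-- An `ℓ`-element of a product in which only the factor `j₀` has order divisible by `ℓ` lies in
that factor. -/
theorem pi_eq_mulSingle {ℓ : ℕ} (hℓ : ℓ.Prime) (j₀ : ι)
    (hℓj : ∀ i, i ≠ j₀ → ¬ ℓ ∣ Nat.card (K i)) (x : ∀ j, K j) (n : ℕ) (hx : x ^ ℓ ^ n = 1) :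
    x = Pi.mulSingle j₀ (x j₀) := by
  funext i
  by_cases hi : i = j₀
  · subst hi; simp
  · rw [Pi.mulSingle_eq_of_ne hi]
    have h1 : (x i) ^ ℓ ^ n = 1 := by
      have := congrFun hx i
      simpa using this
    have h2 : orderOf (x i) ∣ ℓ ^ n := orderOf_dvd_of_pow_eq_one h1
    have h3 : orderOf (x i) ∣ Nat.card (K i) := orderOf_dvd_natCard (x i)
    have hcop : Nat.Coprime (ℓ ^ n) (Nat.card (K i)) :=
      Nat.Coprime.pow_left n ((Nat.Prime.coprime_iff_not_dvd hℓ).mpr (hℓj i hi))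
    have h4 : orderOf (x i) = 1 := Nat.eq_one_of_dvd_coprimes hcop h2 h3
    exact orderOf_eq_one_iff.mp h4

omit [DecidableEq ι] in
/-- A subgroup of a product of groups of pairwise coprime orders which projects onto every factor is
everything. -/
theorem pi_eq_top_of_map_eq_top
    (hcop : Pairwise (fun i j => Nat.Coprime (Nat.card (K i)) (Nat.card (K j))))
    (H : Subgroup (∀ j, K j)) (hH : ∀ j, H.map (Pi.evalMonoidHom K j) = ⊤) : H = ⊤ := by
  have : ∀ j, Fintype (K j) := fun j => Fintype.ofFinite _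
  apply Subgroup.eq_top_of_le_card
  have h1 : ∀ j, Nat.card (K j) ∣ Nat.card H := by
    intro j
    have : Nat.card (H.map (Pi.evalMonoidHom K j)) ∣ Nat.card H := Subgroup.card_map_dvd _ _
    rwa [hH j, Subgroup.card_top] at this
  have h2 : (∏ j, Nat.card (K j)) ∣ Nat.card H := by
    apply Fintype.prod_dvd_of_isRelPrime
    · intro i j hij
      show IsRelPrime (Nat.card (K i)) (Nat.card (K j))
      exact Nat.coprime_iff_isRelPrime.mp (hcop hij)
    · exact h1
  rw [Nat.card_pi]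
  exact Nat.le_of_dvd Nat.card_pos h2

end PiCoprime

/-! ### Products of Frobenius groups for pairwise distinct primes -/

theorem prime_dvd_card_frob {P Q ℓ : ℕ} [hP : Fact P.Prime] (hQ : Q.Prime) (hPQ : P ≠ Q)
    (hℓ : ℓ.Prime) (h : ℓ ∣ Nat.card (Frob P Q)) : ℓ = P ∨ ℓ = Q := by
  rw [card_frob hQ hPQ] at h
  rcases (Nat.Prime.dvd_mul hℓ).mp h with h | h
  · left; exact (Nat.prime_dvd_prime_iff_eq hℓ hP.out).mp (hℓ.dvd_of_dvd_pow h)
  · right; exact (Nat.prime_dvd_prime_iff_eq hℓ hQ).mp h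

section PiFrob

variable {ι : Type} [Fintype ι] [DecidableEq ι] (P Q : ι → ℕ) [hP : ∀ j, Fact (P j).Prime]
  (hQ : ∀ j, (Q j).Prime) (hPQ : ∀ j, P j ≠ Q j)
  (hdis : ∀ i j, i ≠ j → P i ≠ P j ∧ P i ≠ Q j ∧ Q i ≠ P j ∧ Q i ≠ Q j)

omit [Fintype ι] [DecidableEq ι] in
include hQ hPQ hdis in
theorem piFrob_not_dvd (j : ι) (ℓ : ℕ) (hℓ : ℓ = P j ∨ ℓ = Q j) (i : ι) (hij : i ≠ j) :
    ¬ ℓ ∣ Nat.card (Frob (P i) (Q i)) := by
  intro hdvd
  have hℓp : ℓ.Prime := by
    rcases hℓ with rfl | rfl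
    · exact (hP j).out
    · exact hQ j
  have h2 := prime_dvd_card_frob (hQ i) (hPQ i) hℓp hdvd
  obtain ⟨d1, d2, d3, d4⟩ := hdis i j hij
  rcases hℓ with h1 | h1 <;> rcases h2 with h2 | h2
  · exact d1 (h2.symm.trans h1)
  · exact d3 (h2.symm.trans h1)
  · exact d2 (h2.symm.trans h1)
  · exact d4 (h2.symm.trans h1)

omit [Fintype ι] [DecidableEq ι] in
include hQ hPQ hdis in
theorem piFrob_coprime :
    Pairwise (fun i j => Nat.Coprime (Nat.card (Frob (P i) (Q i))) (Nat.card (Frob (P j) (Q j)))) := by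
  intro i j hij
  apply Nat.Coprime.symm
  apply Nat.coprime_of_dvd
  intro ℓ hℓ h1 h2
  have h3 := prime_dvd_card_frob (hQ j) (hPQ j) hℓ h1
  exact piFrob_not_dvd P Q hQ hPQ hdis j ℓ h3 i hij h2

omit [DecidableEq ι] in
include hQ hPQ hdis in
theorem piFrob_spectrum :
    Set.range (orderOf : (∀ j, Frob (P j) (Q j)) → ℕ) =
      {m : ℕ | ∃ c : ι → ℕ, (∀ j, c j = 1 ∨ c j = P j ∨ c j = Q j) ∧ m = ∏ j, c j} := by
  ext m
  constructor
  · rintro ⟨g, rfl⟩
    refine ⟨fun j => orderOf (g j), fun j => frob_orderOf_mem (hQ j) (hPQ j) (g j), ?_⟩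
    exact pi_orderOf_eq_prod (piFrob_coprime P Q hQ hPQ hdis) g
  · rintro ⟨c, hc, rfl⟩
    have : ∀ j, ∃ x : Frob (P j) (Q j), orderOf x = c j := by
      intro j
      rcases hc j with h | h | h
      · exact ⟨1, by rw [h, orderOf_one]⟩
      · rw [h]; exact frob_exists_orderOf_P (hQ j) (hPQ j)
      · rw [h]; exact frob_exists_orderOf_Q (hQ j) (hPQ j)
    choose g hg using this
    refine ⟨g, ?_⟩
    show orderOf g = _
    rw [pi_orderOf_eq_prod (piFrob_coprime P Q hQ hPQ hdis) g]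
    exact Finset.prod_congr rfl (fun j _ => hg j)

omit [DecidableEq ι] in
include hQ hPQ in
theorem card_piFrob :
    Nat.card (∀ j, Frob (P j) (Q j)) = ∏ j, (P j ^ ordMod (P j) (Q j) * Q j) := by
  rw [Nat.card_pi]
  exact Finset.prod_congr rfl (fun j _ => card_frob (hQ j) (hPQ j))

include hQ hPQ hdis in
/-- A section of the product whose spectrum contains all the primes is the whole group. -/
theorem piFrob_critical (H : Subgroup (∀ j, Frob (P j) (Q j))) (N : Subgroup H) [hN : N.Normal]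
    (hspec : ∀ j, P j ∈ Set.range (orderOf : (H ⧸ N) → ℕ) ∧
      Q j ∈ Set.range (orderOf : (H ⧸ N) → ℕ)) :
    H = ⊤ ∧ N = ⊥ := by
  have hcop := piFrob_coprime P Q hQ hPQ hdis
  have hndvd := piFrob_not_dvd P Q hQ hPQ hdis
  have key : ∀ j ℓ, (ℓ = P j ∨ ℓ = Q j) → ℓ ∈ Set.range (orderOf : (H ⧸ N) → ℕ) →
      ℓ ∣ Nat.card (H.map (Pi.evalMonoidHom _ j)) := by
    rintro j ℓ hℓ ⟨y, hy⟩
    have hℓp : ℓ.Prime := by
      rcases hℓ with rfl | rfl
      · exact (hP j).out
      · exact hQ j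
    have : Fact ℓ.Prime := ⟨hℓp⟩
    have h1 : ℓ ∣ Nat.card H := by
      calc ℓ = orderOf y := hy.symm
        _ ∣ Nat.card (H ⧸ N) := orderOf_dvd_natCard y
        _ ∣ Nat.card H := Subgroup.card_quotient_dvd_card N
    obtain ⟨x, hx⟩ := exists_prime_orderOf_dvd_card' ℓ h1
    have hx1 : (x : ∀ j, Frob (P j) (Q j)) ^ ℓ ^ 1 = 1 := by
      rw [pow_one, ← hx, ← Subgroup.coe_pow, pow_orderOf_eq_one]; rfl
    have hx2 := pi_eq_mulSingle hℓp j (hndvd j ℓ hℓ) (x : ∀ j, Frob (P j) (Q j)) 1 hx1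
    have hx3 : orderOf ((x : ∀ j, Frob (P j) (Q j)) j) = ℓ := by
      calc orderOf ((x : ∀ j, Frob (P j) (Q j)) j)
          = orderOf (Pi.mulSingle (M := fun j => Frob (P j) (Q j)) j
              ((x : ∀ j, Frob (P j) (Q j)) j)) :=
            (orderOf_piMulSingle (M := fun j => Frob (P j) (Q j)) j _).symm
        _ = orderOf (x : ∀ j, Frob (P j) (Q j)) := by
            rw [← hx2]
        _ = orderOf x := Subgroup.orderOf_coe x
        _ = ℓ := hx
    rw [← hx3]
    exact Subgroup.orderOf_dvd_natCard _ ⟨x, x.2, rfl⟩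
  have hHtop : H = ⊤ := by
    apply pi_eq_top_of_map_eq_top hcop
    intro j
    exact frob_eq_top_of_dvd_card (hQ j) (hPQ j) _ (key j (P j) (Or.inl rfl) (hspec j).1)
      (key j (Q j) (Or.inr rfl) (hspec j).2)
  refine ⟨hHtop, ?_⟩
  subst hHtop
  by_contra hNb
  have hNcard : Nat.card N ≠ 1 := fun h => hNb (Subgroup.card_eq_one.mp h)
  obtain ⟨ℓ, hℓp, hℓN⟩ := Nat.exists_prime_and_dvd hNcard
  have : Fact ℓ.Prime := ⟨hℓp⟩
  obtain ⟨x, hx⟩ := exists_prime_orderOf_dvd_card' ℓ hℓN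
  set xg : ∀ j, Frob (P j) (Q j) := (x.1).1 with hxg
  have hxgo : orderOf xg = ℓ := by
    rw [hxg, Subgroup.orderOf_coe, Subgroup.orderOf_coe, hx]
  have hℓG : ℓ ∣ Nat.card (∀ j, Frob (P j) (Q j)) := by
    rw [← hxgo]; exact orderOf_dvd_natCard _
  rw [Nat.card_pi] at hℓG
  obtain ⟨j, -, hj⟩ := (Prime.dvd_finsetProd_iff hℓp.prime _).mp hℓG
  have hℓj := prime_dvd_card_frob (hQ j) (hPQ j) hℓp hj
  have hxg1 : xg ^ ℓ ^ 1 = 1 := by rw [pow_one, ← hxgo, pow_orderOf_eq_one]
  have hxg2 := pi_eq_mulSingle hℓp j (hndvd j ℓ hℓj) xg 1 hxg1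
  have hxgj : xg j ≠ 1 := by
    intro h
    rw [h, Pi.mulSingle_one] at hxg2
    rw [hxg2, orderOf_one] at hxgo
    exact hℓp.one_lt.ne hxgo
  -- the normal subgroup of the `j`-th factor
  have hN' : (N.map (Subgroup.subtype ⊤)).Normal :=
    Subgroup.Normal.map hN _ (fun g => ⟨⟨g, Subgroup.mem_top g⟩, rfl⟩)
  set Nj : Subgroup (Frob (P j) (Q j)) :=
    (N.map (Subgroup.subtype ⊤)).comap (MonoidHom.mulSingle (fun j => Frob (P j) (Q j)) j) with hNj
  have hNjn : Nj.Normal := Subgroup.Normal.comap hN' _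
  have hxNj : xg j ∈ Nj := by
    rw [hNj, Subgroup.mem_comap, MonoidHom.mulSingle_apply, ← hxg2]
    exact ⟨x, x.2, rfl⟩
  have hNj1 : Nj ≠ ⊥ := by
    intro h
    rw [h, Subgroup.mem_bot] at hxNj
    exact hxgj hxNj
  have htr := frob_trans_le_of_normal (hQ j) (hPQ j) Nj hNj1
  -- an element of order `P j` of the quotient
  obtain ⟨y, hy⟩ := (hspec j).1
  obtain ⟨h, rfl⟩ := QuotientGroup.mk_surjective y
  set m : ℕ := Q j * ∏ i ∈ Finset.univ.erase j, Nat.card (Frob (P i) (Q i)) with hm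
  have hpow : ((h : ∀ j, Frob (P j) (Q j)) ^ m) =
      Pi.mulSingle j (((h : ∀ j, Frob (P j) (Q j)) j) ^ m) := by
    funext i
    by_cases hi : i = j
    · subst hi; simp
    · rw [Pi.mulSingle_eq_of_ne hi, Pi.pow_apply]
      have hdvd : Nat.card (Frob (P i) (Q i)) ∣ m :=
        Dvd.dvd.mul_left (Finset.dvd_prod_of_mem _ (Finset.mem_erase.mpr ⟨hi, Finset.mem_univ i⟩)) _
      obtain ⟨r, hr⟩ := hdvd
      rw [hr, pow_mul, pow_card_eq_one', one_pow]
  have htrans : ((h : ∀ j, Frob (P j) (Q j)) j) ^ m ∈ (AffGroup.trans : Subgroup (Frob (P j) (Q j))) := by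
    rw [AffGroup.mem_trans]
    have h1 : (((h : ∀ j, Frob (P j) (Q j)) j) ^ m).u = (((h : ∀ j, Frob (P j) (Q j)) j).u) ^ m :=
      map_pow (AffGroup.proj : Frob (P j) (Q j) →* _) _ m
    rw [h1, hm, pow_mul]
    have h2 : (((h : ∀ j, Frob (P j) (Q j)) j).u) ^ Q j = 1 := by
      have := pow_card_eq_one' (x := ((h : ∀ j, Frob (P j) (Q j)) j).u)
      rwa [card_frobC (hQ j) (hPQ j)] at this
    rw [h2, one_pow]
  have hmemN : h ^ m ∈ N := by
    have h3 := htr htrans
    rw [hNj, Subgroup.mem_comap, MonoidHom.mulSingle_apply, ← hpow] at h3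
    obtain ⟨n, hn, hn'⟩ := h3
    have : n = h ^ m := Subtype.ext (by simpa using hn')
    rwa [← this]
  have hym : ((h : (⊤ : Subgroup (∀ j, Frob (P j) (Q j))) ⧸ N)) ^ m = 1 := by
    rw [← QuotientGroup.mk_pow]
    exact (QuotientGroup.eq_one_iff _).mpr hmemN
  have hdvd : P j ∣ m := by
    rw [← hy]; exact orderOf_dvd_of_pow_eq_one hym
  rcases (Nat.Prime.dvd_mul (hP j).out).mp hdvd with h4 | h4
  · exact hPQ j ((Nat.prime_dvd_prime_iff_eq (hP j).out (hQ j)).mp h4)
  · obtain ⟨i, hi, hi'⟩ := (Prime.dvd_finsetProd_iff (hP j).out.prime _).mp h4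
    exact hndvd j (P j) (Or.inl rfl) i (Finset.mem_erase.mp hi).1 hi'

end PiFrob

section PiFrobVal

variable {ι : Type} [Fintype ι] (P Q : ι → ℕ) [hP : ∀ j, Fact (P j).Prime]
  (hQ : ∀ j, (Q j).Prime) (hPQ : ∀ j, P j ≠ Q j)
  (hdis : ∀ i j, i ≠ j → P i ≠ P j ∧ P i ≠ Q j ∧ Q i ≠ P j ∧ Q i ≠ Q j)

include hQ hPQ hdis in
theorem factorization_card_piFrob (j₀ : ι) (ℓ : ℕ) (hℓ : ℓ = P j₀ ∨ ℓ = Q j₀) :
    (Nat.card (∀ j, Frob (P j) (Q j))).factorization ℓ =
      (P j₀ ^ ordMod (P j₀) (Q j₀) * Q j₀).factorization ℓ := by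
  have hne : ∀ j, P j ^ ordMod (P j) (Q j) * Q j ≠ 0 := fun j =>
    mul_ne_zero (pow_ne_zero _ (hP j).out.ne_zero) (hQ j).ne_zero
  rw [card_piFrob P Q hQ hPQ, Nat.factorization_prod (fun j _ => hne j), Finsupp.finsetSum_apply,
    Finset.sum_eq_single j₀]
  · intro i _ hi
    apply Nat.factorization_eq_zero_of_not_dvd
    rw [← card_frob (hQ i) (hPQ i)]
    exact piFrob_not_dvd P Q hQ hPQ hdis j₀ ℓ hℓ i hi
  · intro h; exact absurd (Finset.mem_univ _) h

include hQ hPQ hdis in
theorem factorization_card_piFrob_P (j₀ : ι) :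
    (Nat.card (∀ j, Frob (P j) (Q j))).factorization (P j₀) = ordMod (P j₀) (Q j₀) := by
  rw [factorization_card_piFrob P Q hQ hPQ hdis j₀ (P j₀) (Or.inl rfl),
    Nat.factorization_mul (pow_ne_zero _ (hP j₀).out.ne_zero) (hQ j₀).ne_zero, Finsupp.add_apply,
    Nat.factorization_pow_self (hP j₀).out, Nat.factorization_eq_zero_of_not_dvd, add_zero]
  intro h
  exact hPQ j₀ ((Nat.prime_dvd_prime_iff_eq (hP j₀).out (hQ j₀)).mp h)

include hQ hPQ hdis in
theorem factorization_card_piFrob_Q (j₀ : ι) :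
    (Nat.card (∀ j, Frob (P j) (Q j))).factorization (Q j₀) = 1 := by
  rw [factorization_card_piFrob P Q hQ hPQ hdis j₀ (Q j₀) (Or.inr rfl),
    Nat.factorization_mul (pow_ne_zero _ (hP j₀).out.ne_zero) (hQ j₀).ne_zero, Finsupp.add_apply,
    Nat.Prime.factorization_self (hQ j₀), Nat.factorization_eq_zero_of_not_dvd, zero_add]
  intro h
  exact hPQ j₀ ((Nat.prime_dvd_prime_iff_eq (hQ j₀) (hP j₀).out).mp
    ((hQ j₀).dvd_of_dvd_pow h)).symm

end PiFrobVal

end Cfsg.Agent.Lib.Helper60_Frobenius
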