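import Mathlib
import Cfsg.Agent.Lib.Helper32_OFDefs
import Cfsg.Agent.Lib.Helper32_OFRoot
import Cfsg.Agent.Lib.Helper31_OF_API
import Cfsg.Agent.Lib.Helper94_OrthVec
import Cfsg.Agent.Lib.Helper94_OrthNondeg
import Cfsg.Agent.Lib.Helper80_GrowDefs

set_option autoImplicit false
set_option linter.unusedSimpArgs false
set_option linter.unusedVariables false
set_option linter.unusedSectionVars false

/-!
GROW market (architect helper80), package GROW-MON3: over the field with three elements an isometry preserving a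
coordinate 3-space and fixing the other frame vectors is monomial.
-/

namespace Cfsg.Agent.Lib.Helper60_GROW_MON3

open Module Cfsg.Agent.Lib.Helper94_Symp Cfsg.Agent.Lib.Helper94_OrthSmall
  Cfsg.Agent.Lib.Helper94_OrthSiegel Cfsg.Agent.Lib.Helper94_OrthSiegel2
  Cfsg.Agent.Lib.Helper94_OrthNondeg Cfsg.Agent.Lib.Helper94_OrthVec
  Cfsg.Agent.Lib.Helper32_OFDefs Cfsg.Agent.Lib.Helper32_OFRoot
  Cfsg.Agent.Lib.Helper80_GrowDefs

variable {F V : Type*} [Field F] [AddCommGroup V] [Module F V]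
variable {Q : V → F} {B : LinearMap.BilinForm F V}
variable {ι : Type*} [Fintype ι] [DecidableEq ι] {c : F} {e : ι → V}
variable {L : Subgroup (V ≃ₗ[F] V)}

/-- the elements of a field with three elements -/
theorem eq_zero_or_one_or_neg_one (h3 : Nat.card F = 3) (a : F) : a = 0 ∨ a = 1 ∨ a = -1 := by
  have : Finite F := Nat.finite_of_card_ne_zero (by rw [h3]; norm_num)
  have := Fintype.ofFinite F
  have hc3 : Fintype.card F = 3 := by
    rw [← Nat.card_eq_fintype_card]
    exact h3
  have h := FiniteField.pow_card a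
  rw [hc3] at h
  have h' : a * (a - 1) * (a + 1) = 0 := by linear_combination h
  rcases mul_eq_zero.mp h' with h'' | h''
  · rcases mul_eq_zero.mp h'' with h''' | h'''
    · exact Or.inl h'''
    · exact Or.inr (Or.inl (sub_eq_zero.mp h'''))
  · exact Or.inr (Or.inr (eq_neg_of_add_eq_zero_left h''))

/-- three elements of the field with three elements whose squares add up to one: exactly one is non-zero -/
theorem three_sq (h3 : Nat.card F = 3) (h2 : (2 : F) ≠ 0) (x1 x2 x3 : F)
    (h : x1 * x1 + (x2 * x2 + x3 * x3) = 1) :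
    (x1 ≠ 0 ∧ x2 = 0 ∧ x3 = 0) ∨ (x1 = 0 ∧ x2 ≠ 0 ∧ x3 = 0) ∨ (x1 = 0 ∧ x2 = 0 ∧ x3 ≠ 0) := by
  rcases eq_zero_or_one_or_neg_one h3 x1 with rfl | rfl | rfl <;>
  rcases eq_zero_or_one_or_neg_one h3 x2 with rfl | rfl | rfl <;>
  rcases eq_zero_or_one_or_neg_one h3 x3 with rfl | rfl | rfl
  all_goals first
    | (left; exact ⟨one_ne_zero, rfl, rfl⟩)
    | (left; exact ⟨neg_ne_zero.mpr one_ne_zero, rfl, rfl⟩)
    | (right; left; exact ⟨rfl, one_ne_zero, rfl⟩)
    | (right; left; exact ⟨rfl, neg_ne_zero.mpr one_ne_zero, rfl⟩)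
    | (right; right; exact ⟨rfl, rfl, one_ne_zero⟩)
    | (right; right; exact ⟨rfl, rfl, neg_ne_zero.mpr one_ne_zero⟩)
    | (exfalso; exact one_ne_zero (α := F) (by linear_combination -h))
    | (exfalso; exact one_ne_zero (α := F) (by linear_combination h))
    | (exfalso; exact h2 (by linear_combination h))

/-- GROW-MON3. -/
theorem mon3 (hfr : OFr Q B c e) (h3 : Nat.card F = 3) {g : V ≃ₗ[F] V} (hg : g ∈ oG Q)
    (S : Finset ι) (hS : S.card = 3) (h1 : ∀ i ∈ S, g (e i) ∈ VS B e S)
    (h2 : ∀ i, i ∉ S → g (e i) = e i) : IsMon e g := by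
  classical
  intro i
  by_cases hi : i ∈ S
  · obtain ⟨x, hx⟩ : ∃ x, x = g (e i) := ⟨_, rfl⟩
    rw [← hx]
    have hxS : x ∈ VS B e S := hx ▸ h1 i hi
    have hQx : Q x = c := by
      rw [hx, mem_oG.mp hg (e i), hfr.Qe]
    have hsum : ∑ j, co B c e x j * co B c e x j = 1 := by
      have h := hfr.Q_eq x
      rw [hQx] at h
      have h' : c * ∑ j, co B c e x j * co B c e x j = c * 1 := by
        rw [mul_one]
        exact h.symm
      exact mul_left_cancel₀ hfr.c0 h'
    have hco0 : ∀ j, j ∉ S → co B c e x j = 0 := by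
      intro j hj
      unfold co
      rw [hxS j hj, mul_zero]
    have hsumS : ∑ j ∈ S, co B c e x j * co B c e x j = 1 := by
      rw [← hsum]
      exact Finset.sum_subset (Finset.subset_univ S) (fun j _ hj => by rw [hco0 j hj, mul_zero])
    have hexp : x = ∑ j ∈ S, co B c e x j • e j := by
      conv_lhs => rw [hfr.exp' x]
      symm
      exact Finset.sum_subset (Finset.subset_univ S) (fun j _ hj => by rw [hco0 j hj, zero_smul])
    obtain ⟨j1, j2, j3, h12, h13, h23, rfl⟩ := Finset.card_eq_three.mp hS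
    have hn1 : j1 ∉ ({j2, j3} : Finset ι) := by
      simp [h12, h13]
    have hn2 : j2 ∉ ({j3} : Finset ι) := by
      simp [h23]
    rw [Finset.sum_insert hn1, Finset.sum_insert hn2, Finset.sum_singleton] at hsumS hexp
    have key : ∀ a : F, a ≠ 0 → ∀ j : ι, x = a • e j → ∃ j, x = e j ∨ x = -e j := by
      intro a ha j hxa
      rcases eq_zero_or_one_or_neg_one h3 a with h | h | h
      · exact absurd h ha
      · exact ⟨j, Or.inl (by rw [hxa, h, one_smul])⟩
      · exact ⟨j, Or.inr (by rw [hxa, h, neg_one_smul])⟩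
    rcases three_sq h3 hfr.h2 _ _ _ hsumS with ⟨a1, a2, a3⟩ | ⟨a1, a2, a3⟩ | ⟨a1, a2, a3⟩
    · refine key _ a1 j1 ?_
      rw [a2, a3, zero_smul, zero_smul, add_zero, add_zero] at hexp
      exact hexp
    · refine key _ a2 j2 ?_
      rw [a1, a3, zero_smul, zero_smul, add_zero, zero_add] at hexp
      exact hexp
    · refine key _ a3 j3 ?_
      rw [a1, a2, zero_smul, zero_smul, zero_add, zero_add] at hexp
      exact hexp
  · exact ⟨i, Or.inl (h2 i hi)⟩

end Cfsg.Agent.Lib.Helper60_GROW_MON3
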