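import Mathlib
import Cfsg.Prelude.Def_Characters
import Cfsg.Agent.Lib.Helper80_CharBasic
import Cfsg.Agent.Lib.Helper3_CharBridge
import Cfsg.Agent.Lib.Helper17_H27Defs
import Cfsg.Agent.Lib.Helper76_H648Defs
import Cfsg.Agent.Lib.Helper16_H648_TAB
import Cfsg.Agent.Lib.Helper46_H648_MULT12

/-!
# S3702 market `h648_packages` (architect helper76), package MULT9 (second seat)

For `y = a σ` (or `a⁻¹ σ`) of order nine with `y^k ∼ y` (`3 ∤ k`), `y^3 ∼ y^6 ∼ a b c`: the multiplicities of the linear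
characters `1`, `ζ₉³`, `ζ₉` of `⟨y⟩` in `χ` give `X0 + 6 Y + 2 D = 9 m0`, `X0 - 3 Y + 2 D = 9 m3`, `X0 - D = 9 m1`,
so `χ(y) = m0 - m3` and `(χ(a b c) - χ(y)) / 3 = m3 - m1`.
-/

set_option autoImplicit false
open scoped ComplexConjugate

namespace Cfsg.Agent.Lib.Helper60_H648_MULT9

open Cfsg Cfsg.Agent.Lib.Helper80_CharBasic
  Cfsg.Agent.Lib.Helper76_H648Defs
open Cfsg.Agent.Lib.Helper17_H27Defs (elt)
open Cfsg.Agent.Lib.Helper46_H648_MULT12 (cyc_mult)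

section grp
variable {G : Type*} [Group G] {a b c y : G}

/-- the restriction of `χ` to `⟨y⟩`: the nine values, through the table -/
theorem sum_formula9
    (htab : ∀ k : Fin 9, IsConj (y ^ (k : ℕ)) (t9 a b c y k))
    (χ : IrrCharacter G) (w : ℂ) :
    ∑ k : ZMod 9, (χ : G → ℂ) (y ^ k.val) * w ^ k.val =
      (χ : G → ℂ) 1 + (χ : G → ℂ) y * w + (χ : G → ℂ) y * w ^ 2 +
      (χ : G → ℂ) (a * b * c) * w ^ 3 + (χ : G → ℂ) y * w ^ 4 + (χ : G → ℂ) y * w ^ 5 +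
      (χ : G → ℂ) (a * b * c) * w ^ 6 + (χ : G → ℂ) y * w ^ 7 + (χ : G → ℂ) y * w ^ 8 := by
  have hv : ∀ k : Fin 9, (χ : G → ℂ) (y ^ (k : ℕ)) = (χ : G → ℂ) (t9 a b c y k) :=
    fun k => irr_isConj χ (htab k)
  have h1 : ∑ k : ZMod 9, (χ : G → ℂ) (y ^ k.val) * w ^ k.val =
      ∑ k : Fin 9, (χ : G → ℂ) (t9 a b c y k) * w ^ (k : ℕ) := by
    refine Finset.sum_congr rfl fun k _ => ?_
    rw [← hv k]
    rfl
  rw [h1]
  simp only [Fin.sum_univ_succ, Fin.sum_univ_zero, t9]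
  simp
  ring

/-- a ninth root of unity with `ζ^6 + ζ^3 + 1 = 0` -/
theorem exists_zeta9 : ∃ ζ : ℂ, ζ ^ 9 = 1 ∧ ζ ^ 6 + ζ ^ 3 + 1 = 0 := by
  have hp := Complex.isPrimitiveRoot_exp 9 (by norm_num)
  refine ⟨Complex.exp (2 * Real.pi * Complex.I / (9 : ℕ)), hp.pow_eq_one, ?_⟩
  set ζ := Complex.exp (2 * Real.pi * Complex.I / (9 : ℕ)) with hζ
  have h9 := hp.pow_eq_one
  have h3 : ζ ^ 3 ≠ 1 := hp.pow_ne_one_of_pos_of_lt (by norm_num) (by norm_num)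
  have : (ζ ^ 3 - 1) * (ζ ^ 6 + ζ ^ 3 + 1) = 0 := by linear_combination h9
  rcases mul_eq_zero.mp this with h0 | h0
  · exact absurd (sub_eq_zero.mp h0) h3
  · exact h0

/-- the two integers attached to an element of order nine -/
theorem mult9_one (hy : y ^ 9 = 1)
    (htab : ∀ k : Fin 9, IsConj (y ^ (k : ℕ)) (t9 a b c y k)) (χ : IrrCharacter G) :
    ∃ n1 n2 : ℤ, (χ : G → ℂ) y = n1 ∧ ((χ : G → ℂ) (a * b * c) - (χ : G → ℂ) y) / 3 = n2 := by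
  have hχ : IsCharacter G (χ : G → ℂ) :=
    Cfsg.Agent.Lib.Helper3_CharBridge.isCharacter_of_isIrrCharacter χ.2
  obtain ⟨ζ, hζ9, hζ⟩ := exists_zeta9
  obtain ⟨t, ht3, ht⟩ : ∃ t : ℂ, t ^ 3 = 1 ∧ t ^ 2 + t + 1 = 0 :=
    ⟨ζ ^ 3, by linear_combination hζ9, by linear_combination hζ⟩
  obtain ⟨m0, E0⟩ := cyc_mult (n := 9) y hy 1 (one_pow 9) hχ
  obtain ⟨m3, E3⟩ := cyc_mult (n := 9) y hy t (by linear_combination (t ^ 6 + t ^ 3 + 1) * ht3) hχ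
  obtain ⟨m1, E1⟩ := cyc_mult (n := 9) y hy ζ hζ9 hχ
  rw [sum_formula9 htab] at E0 E3 E1
  set X0 : ℂ := (χ : G → ℂ) 1
  set Y : ℂ := (χ : G → ℂ) y
  set D : ℂ := (χ : G → ℂ) (a * b * c)
  have F0 : X0 + 6 * Y + 2 * D = 9 * (m0 : ℂ) := by
    have : ((9 : ℕ) : ℂ) = 9 := by norm_num
    rw [this] at E0
    linear_combination E0
  have F3 : X0 - 3 * Y + 2 * D = 9 * (m3 : ℂ) := by
    have : ((9 : ℕ) : ℂ) = 9 := by norm_num
    rw [this] at E3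
    linear_combination E3 - (3 * Y) * ht -
      (Y * (t + t ^ 2) * (t ^ 3 + 2) + D * (t ^ 3 + 2)) * ht3
  have F1 : X0 - D = 9 * (m1 : ℂ) := by
    have : ((9 : ℕ) : ℂ) = 9 := by norm_num
    rw [this] at E1
    linear_combination E1 - (Y * ζ + Y * ζ ^ 2 + D) * hζ
  refine ⟨(m0 : ℤ) - (m3 : ℤ), (m3 : ℤ) - (m1 : ℤ), ?_, ?_⟩
  · push_cast
    linear_combination (1 / 9 : ℂ) * F0 - (1 / 9 : ℂ) * F3
  · push_cast
    linear_combination (1 / 9 : ℂ) * F3 - (1 / 9 : ℂ) * F1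

end grp

section main
variable {G : Type*} [Group G] [Finite G]
variable {H J : Subgroup G} {a b c σ u v s : G}

/-- **MULT9** -/
theorem mult9 (h : Hyp G H J a b c σ u v s) (χ : IrrCharacter G) :
    ∃ n1 n2 n3 n4 : ℤ,
      (χ : G → ℂ) (a * σ) = n1 ∧ ((χ : G → ℂ) (a * b * c) - (χ : G → ℂ) (a * σ)) / 3 = n2 ∧
      (χ : G → ℂ) (a⁻¹ * σ) = n3 ∧ ((χ : G → ℂ) (a * b * c) - (χ : G → ℂ) (a⁻¹ * σ)) / 3 = n4 := by
  obtain ⟨⟨ho, ht⟩, ⟨ho', ht'⟩⟩ := Cfsg.Agent.Lib.Helper16_H648_TAB.tab9 h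
  have hy : (a * σ) ^ 9 = 1 := by rw [← ho]; exact pow_orderOf_eq_one _
  have hy' : (a⁻¹ * σ) ^ 9 = 1 := by rw [← ho']; exact pow_orderOf_eq_one _
  obtain ⟨n1, n2, h1, h2⟩ := mult9_one hy ht χ
  obtain ⟨n3, n4, h3, h4⟩ := mult9_one hy' ht' χ
  exact ⟨n1, n2, n3, n4, h1, h2, h3, h4⟩

end main

end Cfsg.Agent.Lib.Helper60_H648_MULT9
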