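import Cfsg.Agent.Lib.Helper47_IsoBar
import Cfsg.Agent.Lib.Helper47_IsoMain
import Cfsg.Agent.Lib.Helper21_Components
import Cfsg.Agent.Lib.Helper21_FStar
import Cfsg.Agent.Lib.Helper22_Layer
import Cfsg.Agent.Lib.Helper22_Quasisimple
import Cfsg.Agent.Lib.Helper29_Local
import Cfsg.Agent.Lib.Helper48_Trans2
import Cfsg.Agent.Lib.Helper24_CoprimeAction
import Cfsg.Agent.Lib.Helper1_Cores

/-!
# S3044 package BAR (architect helper47): the configuration `BarHyp` in `G / O_p(G)`.
-/

set_option autoImplicit false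

open Cfsg
open Cfsg.Agent.Lib.Helper47_IsoBase Cfsg.Agent.Lib.Helper47_IsoBar Cfsg.Agent.Lib.Helper47_SubAPI
  Cfsg.Agent.Lib.Helper48_Op
open scoped commutatorElement Pointwise

namespace Cfsg.Agent.Lib.Helper60_Iso_BAR

universe u

variable {H : Type u} [Group H] [Finite H] {p : ℕ} [Fact p.Prime] {Y C S W : Subgroup H}

/-- the image of a commutator under the quotient map, when one side is killed -/
theorem map_le_commutator_of_le_sup {G : Type u} [Group G] (Q : Subgroup G) [Q.Normal]
    {A B D : Subgroup G} (h : A ≤ ⁅B, D⁆ ⊔ Q) :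
    A.map (QuotientGroup.mk' Q) ≤ ⁅B.map (QuotientGroup.mk' Q), D.map (QuotientGroup.mk' Q)⁆ := by
  have h1 := Subgroup.map_mono (f := QuotientGroup.mk' Q) h
  rw [Subgroup.map_sup, QuotientGroup.map_mk'_self, sup_bot_eq, Subgroup.map_commutator] at h1
  exact h1

theorem map_le_normalizer_map {G : Type u} [Group G] (Q : Subgroup G) [Q.Normal]
    {A D : Subgroup G} (h : A ≤ Subgroup.normalizer (D : Set G)) :
    A.map (QuotientGroup.mk' Q) ≤
      Subgroup.normalizer ((D.map (QuotientGroup.mk' Q) : Subgroup (G ⧸ Q)) : Set (G ⧸ Q)) :=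
  (Subgroup.map_mono h).trans (Subgroup.le_normalizer_map _)

theorem barHyp {G : Type u} [Group G] [Finite G] {p : ℕ} [Fact p.Prime] {S : Sylow p G} {P L : Subgroup G}
    (h : IsoHyp p S P L)
    (hperf : Subgroup.normalClosure ((Op p P : Subgroup G) : Set G) ≤
      ⁅Subgroup.normalClosure ((Op p P : Subgroup G) : Set G),
        Subgroup.normalClosure ((Op p P : Subgroup G) : Set G)⁆ ⊔ Cfsg.pCore p G) :
    BarHyp p ((Subgroup.normalClosure ((Op p P : Subgroup G) : Set G)).map (QuotientGroup.mk' (Cfsg.pCore p G)))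
      ((Cfsg.pCoreOf p L).map (QuotientGroup.mk' (Cfsg.pCore p G)))
      ((S : Subgroup G).map (QuotientGroup.mk' (Cfsg.pCore p G)))
      ((Op p P).map (QuotientGroup.mk' (Cfsg.pCore p G))) := by
  have hsurj : Function.Surjective (QuotientGroup.mk' (Cfsg.pCore p G)) :=
    QuotientGroup.mk'_surjective _
  have hmc : ∀ N : Subgroup (G ⧸ Cfsg.pCore p G),
      (N.comap (QuotientGroup.mk' (Cfsg.pCore p G))).map (QuotientGroup.mk' (Cfsg.pCore p G)) = N :=
    fun N => Subgroup.map_comap_eq_self_of_surjective hsurj N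
  have hLN : L.map (QuotientGroup.mk' (Cfsg.pCore p G)) ≤ Subgroup.normalizer
      (((Cfsg.pCoreOf p L).map (QuotientGroup.mk' (Cfsg.pCore p G)) :
        Subgroup (G ⧸ Cfsg.pCore p G)) : Set (G ⧸ Cfsg.pCore p G)) :=
    map_le_normalizer_map _ h.L_le_normalizer_C
  refine
    { hYn := Subgroup.Normal.map Subgroup.normalClosure_normal _ hsurj
      hY := ?_
      hW := ?_
      hS := S.isPGroup'.map _
      hCS := Subgroup.map_mono h.C_le_S
      hcore := Cfsg.Agent.Lib.Helper48_Trans2.pCore_quotient_pCore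
      hYC := map_le_commutator_of_le_sup _ h.Y_le
      hperf := map_le_commutator_of_le_sup _ hperf
      hgen := ?_
      hSC := (Subgroup.map_mono h.S_le_L).trans hLN
      normal_dich := ?_
      sub_dich := ?_ }
  · rw [Subgroup.map_normalClosure _ _ hsurj]
    rfl
  · intro hbot
    rw [Subgroup.map_eq_bot_iff, QuotientGroup.ker_mk'] at hbot
    exact h.not_Op_le_Q hbot
  · rw [eq_top_iff]
    have h1 := Subgroup.map_mono (f := QuotientGroup.mk' (Cfsg.pCore p G)) (le_of_eq h.Y_sup_L.symm)
    rw [Subgroup.map_top_of_surjective _ hsurj, Subgroup.map_sup] at h1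
    exact h1.trans (sup_le_sup le_rfl hLN)
  · intro N hN
    have hN' : (N.comap (QuotientGroup.mk' (Cfsg.pCore p G))).Normal := hN.comap _
    rcases h.normal_dich hN' with h1 | ⟨-, -, h3, h4⟩
    · left
      exact Subgroup.map_le_iff_le_comap.mpr h1
    · right
      constructor
      · have := Subgroup.map_mono (f := QuotientGroup.mk' (Cfsg.pCore p G)) h3
        rw [Subgroup.map_commutator, hmc, QuotientGroup.map_mk'_self] at this
        exact eq_bot_iff.mpr this
      · have := Subgroup.map_mono (f := QuotientGroup.mk' (Cfsg.pCore p G)) h4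
        rw [Subgroup.map_commutator, hmc, QuotientGroup.map_mk'_self] at this
        exact eq_bot_iff.mpr this
  · intro N hSN
    have hSN' : (S : Subgroup G) ≤ Subgroup.normalizer
        ((N.comap (QuotientGroup.mk' (Cfsg.pCore p G)) : Subgroup G) : Set G) := by
      refine le_trans ?_ (Subgroup.le_normalizer_comap (QuotientGroup.mk' (Cfsg.pCore p G)))
      exact Subgroup.map_le_iff_le_comap.mp hSN
    rcases h.sub_dich hSN' with h1 | ⟨h2, h3⟩
    · left
      exact Subgroup.map_le_iff_le_comap.mpr h1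
    · right
      constructor
      · have := Subgroup.map_mono (f := QuotientGroup.mk' (Cfsg.pCore p G)) h2
        rw [hmc] at this
        exact this.trans hLN
      · have := Subgroup.map_mono (f := QuotientGroup.mk' (Cfsg.pCore p G)) h3
        rw [Subgroup.map_commutator, hmc] at this
        refine this.trans ((Subgroup.map_inf_le _ _ _).trans ?_)
        rw [hmc]

end Cfsg.Agent.Lib.Helper60_Iso_BAR
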