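import Cfsg.Agent.Lib.Helper47_IsoBar
import Cfsg.Agent.Lib.Helper47_IsoMain
import Cfsg.Agent.Lib.Helper21_Components
import Cfsg.Agent.Lib.Helper21_FStar
import Cfsg.Agent.Lib.Helper22_Layer
import Cfsg.Agent.Lib.Helper22_Quasisimple
import Cfsg.Agent.Lib.Helper29_Local
import Cfsg.Agent.Lib.Helper48_Trans2
import Cfsg.Agent.Lib.Helper24_CoprimeAction
import Cfsg.Agent.Lib.Helper1_Cores

/-!
# S3044 package NOCENT (architect helper47): `C` centralizes no component of `H` inside `Y`.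
-/

set_option autoImplicit false

open Cfsg
open Cfsg.Agent.Lib.Helper47_IsoBase Cfsg.Agent.Lib.Helper47_IsoBar Cfsg.Agent.Lib.Helper47_SubAPI
  Cfsg.Agent.Lib.Helper48_Op
open scoped commutatorElement Pointwise

namespace Cfsg.Agent.Lib.Helper60_Iso_NOCENT

universe u

variable {H : Type u} [Group H] [Finite H] {p : ℕ} [Fact p.Prime] {Y C S W : Subgroup H}

theorem not_cent (hb : BarHyp p Y C S W) (hl : Y ≤ Cfsg.layer H) {K : Subgroup H}
    (hK : Cfsg.IsComponent K) (hKY : K ≤ Y) : ⁅K, C⁆ ≠ ⊥ := by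
  intro hKC
  have hKM : K ≤ sSup {K' : Subgroup H | Cfsg.IsComponent K' ∧ K' ≤ Y ∧ ⁅K', C⁆ = ⊥} :=
    le_sSup ⟨hK, hKY, hKC⟩
  -- the join centralizes `C`
  have hMC : ⁅sSup {K' : Subgroup H | Cfsg.IsComponent K' ∧ K' ≤ Y ∧ ⁅K', C⁆ = ⊥}, C⁆ = ⊥ := by
    rw [Subgroup.commutator_eq_bot_iff_le_centralizer]
    apply sSup_le
    intro K' hK'
    rw [← Subgroup.commutator_eq_bot_iff_le_centralizer]
    exact hK'.2.2
  -- `Y` normalizes the join
  have hYM : Y ≤ Subgroup.normalizer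
      ((sSup {K' : Subgroup H | Cfsg.IsComponent K' ∧ K' ≤ Y ∧ ⁅K', C⁆ = ⊥} : Subgroup H) :
        Set H) := by
    apply Cfsg.Agent.Lib.Helper47_PClosed.le_normalizer_of_forall_map_conj_le
    intro y hy
    rw [Subgroup.map_le_iff_le_comap]
    apply sSup_le
    intro K' hK'
    rw [← Subgroup.map_le_iff_le_comap]
    have hyN : y ∈ Subgroup.normalizer (K' : Set H) :=
      Cfsg.Agent.Lib.Helper22_Layer.IsComponent.le_normalizer_layer hK'.1 (hl hy)
    exact (le_of_eq (Subgroup.mem_normalizer_iff_map_conj_eq.mp hyN)).trans (le_sSup hK')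
  -- `N(C)` normalizes the join
  have hNM : Subgroup.normalizer (C : Set H) ≤ Subgroup.normalizer
      ((sSup {K' : Subgroup H | Cfsg.IsComponent K' ∧ K' ≤ Y ∧ ⁅K', C⁆ = ⊥} : Subgroup H) :
        Set H) := by
    apply Cfsg.Agent.Lib.Helper47_PClosed.le_normalizer_of_forall_map_conj_le
    intro g hg
    rw [Subgroup.map_le_iff_le_comap]
    apply sSup_le
    intro K' hK'
    rw [← Subgroup.map_le_iff_le_comap]
    apply le_sSup
    refine ⟨Cfsg.Agent.Lib.Helper29_Local.isComponent_map_mulEquiv (MulAut.conj g) hK'.1, ?_, ?_⟩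
    · rintro _ ⟨x, hx, rfl⟩
      exact hb.hYn.conj_mem x (hK'.2.1 hx) g
    · have hC : C.map (MulAut.conj g).toMonoidHom = C :=
        Subgroup.mem_normalizer_iff_map_conj_eq.mp hg
      have e : ⁅K'.map (MulAut.conj g).toMonoidHom, C⁆ =
          (⁅K', C⁆).map (MulAut.conj g).toMonoidHom := by
        rw [Subgroup.map_commutator, hC]
      rw [e, hK'.2.2, Subgroup.map_bot]
  have hMn : (sSup {K' : Subgroup H | Cfsg.IsComponent K' ∧ K' ≤ Y ∧ ⁅K', C⁆ = ⊥}).Normal := by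
    rw [← Subgroup.normalizer_eq_top_iff, eq_top_iff, ← hb.hgen]
    exact sup_le hYM hNM
  rcases hb.normal_dich _ hMn with h1 | ⟨-, h2⟩
  · apply hb.commutator_C_ne_bot
    rw [eq_bot_iff, ← hMC]
    exact Subgroup.commutator_mono (hb.Y_le_of_W_le hMn h1) le_rfl
  · have hKbot : K = ⊥ := by
      have e := Cfsg.Agent.Lib.Helper21_Components.IsComponent.commutator_self hK
      have h3 : ⁅K, K⁆ ≤
          ⁅sSup {K' : Subgroup H | Cfsg.IsComponent K' ∧ K' ≤ Y ∧ ⁅K', C⁆ = ⊥}, Y⁆ :=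
        Subgroup.commutator_mono hKM hKY
      rw [e, h2] at h3
      exact eq_bot_iff.mpr h3
    have hnt : Nontrivial ↥K := Cfsg.Agent.Lib.Helper29_Local.IsQuasisimple.nontrivial hK.2
    exact (Subgroup.nontrivial_iff_ne_bot K).mp hnt hKbot

end Cfsg.Agent.Lib.Helper60_Iso_NOCENT
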