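import Cfsg.Agent.Lib.Helper49_KnDefs
import Cfsg.Agent.Lib.Helper65_S3693
import Cfsg.Agent.Lib.Helper99_Kn_ALTCOMM
import Cfsg.Agent.Lib.Helper82_Kn_ALTPART
import Cfsg.Agent.Lib.Helper60_Kn_ALTcore

set_option autoImplicit false

/-!
S3687 market (architect helper49), package ALTPP: the intersection of finitely many subgroups `Z i ≤ U`, normalized by
`U` and not contained in the core, still covers the alternating part.  The proof is `Helper60_Kn_ALTcore.as_pp_of`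
with the landed packages ALTCOMM (helper99) and ALTPART (helper82).
-/

namespace Cfsg.Agent.Lib.Helper60_Kn_ALTPP

open Cfsg Cfsg.Agent.Lib.Helper47_TW Cfsg.Agent.Lib.Helper49_KnDefs

universe u v

variable {G : Type u} [Group G] [Finite G]

/-- PACKAGE ALTPP. -/
theorem as_pp {d : ℕ} {M T U : Subgroup G} (h : AS d M T) (hd : 5 ≤ d)
    (hUM : U ≤ M) (hAU : altPart M T ≤ U ⊔ relCore M T)
    {ι : Type v} [Finite ι] [Nonempty ι] (Z : ι → Subgroup G)
    (hZ : ∀ i, Z i ≤ U ∧ U ≤ Subgroup.normalizer (Z i : Set G) ∧ ¬ Z i ≤ relCore M T) :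
    altPart M T ≤ (⨅ i, Z i) ⊔ relCore M T :=
  Cfsg.Agent.Lib.Helper60_Kn_ALTcore.as_pp_of hd
    (fun _ _ h1 h1n h1K h2 h2n h2K =>
      Cfsg.Agent.Lib.Helper99_Kn_ALTCOMM.as_comm h hd hUM hAU h1 h1n h1K h2 h2n h2K)
    ⟨(Cfsg.Agent.Lib.Helper82_Kn_ALTPART.altPart_facts h hd).1,
      (Cfsg.Agent.Lib.Helper82_Kn_ALTPART.altPart_facts h hd).2.2.2⟩ Z hZ

end Cfsg.Agent.Lib.Helper60_Kn_ALTPP
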