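import Cfsg.Agent.Lib.Helper49_KnDefs
import Cfsg.Agent.Lib.Helper65_S3693
import Cfsg.Agent.Lib.Helper99_Kn_ALTCOMM
import Cfsg.Agent.Lib.Helper82_Kn_ALTPART
import Cfsg.Agent.Lib.Helper60_Kn_ALTcore

set_option autoImplicit false

/-!
S3687 market (architect helper49), package ALTSOLV: a solvable subgroup `Z ≤ U` normalized by `U` lies in the core.
The proof is `Helper60_Kn_ALTcore.as_solv_of` with the landed packages ALTCOMM (helper99) and ALTPART (helper82).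
-/

namespace Cfsg.Agent.Lib.Helper60_Kn_ALTSOLV

open Cfsg Cfsg.Agent.Lib.Helper47_TW Cfsg.Agent.Lib.Helper49_KnDefs

universe u v

variable {G : Type u} [Group G] [Finite G]

/-- PACKAGE ALTSOLV. -/
theorem as_solv {d : ℕ} {M T U Z : Subgroup G} (h : AS d M T) (hd : 5 ≤ d)
    (hUM : U ≤ M) (hAU : altPart M T ≤ U ⊔ relCore M T)
    (hZU : Z ≤ U) (hZn : U ≤ Subgroup.normalizer (Z : Set G)) (hsolv : Group.IsSolvable ↥Z) :
    Z ≤ relCore M T :=
  Cfsg.Agent.Lib.Helper60_Kn_ALTcore.as_solv_of hd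
    (fun _ _ h1 h1n h1K h2 h2n h2K =>
      Cfsg.Agent.Lib.Helper99_Kn_ALTCOMM.as_comm h hd hUM hAU h1 h1n h1K h2 h2n h2K)
    ⟨(Cfsg.Agent.Lib.Helper82_Kn_ALTPART.altPart_facts h hd).1,
      (Cfsg.Agent.Lib.Helper82_Kn_ALTPART.altPart_facts h hd).2.2.2⟩ hZU hZn hsolv

end Cfsg.Agent.Lib.Helper60_Kn_ALTSOLV
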