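import Mathlib
import Cfsg.Agent.Lib.Helper27_OutM11

/-!
Counting the elements of each order in the Mathieu group of degree eleven (the stabiliser in the
group of the code of the dodecad of squares and of its point 0), through the chain of stabilisers
of `Helper27_OutM11`: the numbers are 1, 165, 440, 990, 1584, 1320, 1980, 1440 for the orders
1, 2, 3, 4, 5, 6, 8, 11, and no other order occurs.
-/

set_option autoImplicit false
open scoped Pointwise
open Cfsg
open Cfsg.Agent.Lib.Helper26_Golay
open Cfsg.Agent.Lib.Helper27_EnumGroup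
open Cfsg.Agent.Lib.Helper27_OutM11

namespace Cfsg.Agent.Lib.Helper60_M11Count

/-! ### Counting through a chain -/

open Classical in
/-- the number of products, one factor from each level, with the property `p` -/
noncomputable def countP : List Level → (Equiv.Perm GolayPt → Prop) → ℕ
  | [], p => if p 1 then 1 else 0
  | l :: rest, p => ∑ i ∈ Finset.range l.n, countP rest (fun k => p (l.elt i * k))

theorem card_filter_prodSet (L : List Level) (hV : Valid L) :
    ∀ (p : Equiv.Perm GolayPt → Prop) [DecidablePred p],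
      ((prodSet L).filter p).card = countP L p := by
  induction L with
  | nil =>
    intro p _
    rw [prodSet, countP, Finset.filter_singleton]
    by_cases h : p 1
    · rw [if_pos h, if_pos h, Finset.card_singleton]
    · rw [if_neg h, if_neg h, Finset.card_empty]
  | cons l rest ih =>
    intro p _
    have hVr : Valid rest := hV.2.2
    have hinj : Set.InjOn (fun q : ℕ × Equiv.Perm GolayPt => l.elt q.1 * q.2)
        ((Finset.range l.n ×ˢ prodSet rest : Finset (ℕ × Equiv.Perm GolayPt)) :
          Set (ℕ × Equiv.Perm GolayPt)) := by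
      rw [← Finset.card_image_iff]
      have h1 := card_prodSet (l :: rest) hV
      rw [prodSet] at h1
      rw [h1, Finset.card_product, Finset.card_range, card_prodSet rest hVr, List.map_cons,
        List.prod_cons]
    rw [prodSet, Finset.filter_image, Finset.card_image_of_injOn
      (hinj.mono (by
        intro q hq
        exact Finset.mem_of_mem_filter _ hq)), countP, Finset.card_filter, Finset.sum_product]
    apply Finset.sum_congr rfl
    intro i _
    rw [← ih hVr (fun k => p (l.elt i * k)), Finset.card_filter]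

open Classical in
theorem countP4 (l0 l1 l2 l3 : Level) (p : Equiv.Perm GolayPt → Prop) :
    countP [l0, l1, l2, l3] p =
      ∑ i0 ∈ Finset.range l0.n, ∑ i1 ∈ Finset.range l1.n, ∑ i2 ∈ Finset.range l2.n,
        ∑ i3 ∈ Finset.range l3.n,
          if p (l0.elt i0 * (l1.elt i1 * (l2.elt i2 * (l3.elt i3 * 1)))) then 1 else 0 := rfl

/-! ### Raw operations for the kernel -/

/-- the sum of `f 0, …, f (n-1)`, by the recursor -/
def sumF (f : ℕ → ℕ) (n : ℕ) : ℕ :=
  Nat.rec (motive := fun _ => ℕ) 0 (fun k acc => Nat.add (f k) acc) n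

theorem sumF_eq (f : ℕ → ℕ) (n : ℕ) : sumF f n = ∑ i ∈ Finset.range n, f i := by
  induction n with
  | zero => rfl
  | succ n ih =>
    rw [Finset.sum_range_succ, ← ih]
    exact Nat.add_comm (f n) (sumF f n)

/-- evaluate the argument before passing it on (for the kernel) -/
def forceNN (n : ℕ) (f : ℕ → ℕ) : ℕ :=
  Nat.rec (motive := fun _ => ℕ) (f 0) (fun k _ => f (Nat.succ k)) n

theorem forceNN_eq (n : ℕ) (f : ℕ → ℕ) : forceNN n f = f n := by
  cases n <;> rfl

/-- a truth value as a number -/
def b2n (b : Bool) : ℕ := Bool.rec (motive := fun _ => ℕ) 0 1 b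

theorem b2n_eq (b : Bool) : b2n b = if b = true then 1 else 0 := by
  cases b <;> rfl

/-- the number of products of four levels passing the check `chk` -/
def cnt4 (n0 U0 n1 U1 n2 U2 n3 U3 : ℕ) (chk : (ℕ → ℕ) → Bool) : ℕ :=
  sumF (fun i0 => forceNN (tblAt U0 i0) fun T0 =>
    sumF (fun i1 => forceNN (tblAt U1 i1) fun T1 =>
      sumF (fun i2 => forceNN (tblAt U2 i2) fun T2 =>
        sumF (fun i3 => forceNN (tblAt U3 i3) fun T3 =>
          b2n (chk (fun x => imgF T0 (imgF T1 (imgF T2 (imgF T3 x)))))) n3) n2) n1) n0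

theorem cnt4_eq (n0 U0 n1 U1 n2 U2 n3 U3 : ℕ) (chk : (ℕ → ℕ) → Bool) :
    cnt4 n0 U0 n1 U1 n2 U2 n3 U3 chk =
      ∑ i0 ∈ Finset.range n0, ∑ i1 ∈ Finset.range n1, ∑ i2 ∈ Finset.range n2,
        ∑ i3 ∈ Finset.range n3,
          if chk (fun x => imgF (tblAt U0 i0) (imgF (tblAt U1 i1) (imgF (tblAt U2 i2)
            (imgF (tblAt U3 i3) x)))) = true then 1 else 0 := by
  simp only [cnt4, sumF_eq, forceNN_eq, b2n_eq]

/-! ### The order of a permutation given by a point map -/

/-- the `n`-th power of the point map is the identity -/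
def powIsOne (F : ℕ → ℕ) (n : ℕ) : Bool := all24 (fun x => Nat.beq (iterN F n x) x)

theorem powIsOne_iff {σ : Equiv.Perm GolayPt} {F : ℕ → ℕ} (h : RepF σ F) (n : ℕ) :
    powIsOne F n = true ↔ σ ^ n = 1 := by
  unfold powIsOne
  rw [all24_eq_true]
  have hp := repF_pow h n
  constructor
  · intro hx
    apply eq_of_repF hp repF_one
    intro x hx'
    exact Nat.eq_of_beq_eq_true (hx x hx')
  · intro e x hx
    have := repF_apply_eq hp repF_one e x hx
    rw [this]
    exact Nat.beq_refl _

/-- the point map has order `n`; `ds` lists the quotients of `n` by its prime divisors -/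
def ordIs (n : ℕ) (ds : List ℕ) (F : ℕ → ℕ) : Bool :=
  powIsOne F n && ds.all (fun d => !(powIsOne F d))

theorem ordIs_iff {σ : Equiv.Perm GolayPt} {F : ℕ → ℕ} (h : RepF σ F) {n : ℕ} (hn : 0 < n)
    {ds : List ℕ} (h1 : ∀ p : ℕ, p.Prime → p ∣ n → n / p ∈ ds) (h2 : ∀ d ∈ ds, 0 < d ∧ d < n) :
    ordIs n ds F = true ↔ orderOf σ = n := by
  unfold ordIs
  rw [Bool.and_eq_true, List.all_eq_true, powIsOne_iff h]
  constructor
  · rintro ⟨e1, e2⟩
    apply orderOf_eq_of_pow_and_pow_div_prime hn e1
    intro p hp hpn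
    have := e2 _ (h1 p hp hpn)
    rw [Bool.not_eq_true', ← Bool.not_eq_true, powIsOne_iff h] at this
    exact this
  · intro ho
    refine ⟨by rw [← ho]; exact pow_orderOf_eq_one σ, ?_⟩
    intro d hd
    rw [Bool.not_eq_true', ← Bool.not_eq_true, powIsOne_iff h]
    obtain ⟨hd0, hdn⟩ := h2 d hd
    exact pow_ne_one_of_lt_orderOf hd0.ne' (by rw [ho]; exact hdn)

/-! ### Counting the elements of a given order in an enumerated group -/

theorem card_orderOf_eq_cnt4 {G : Subgroup (Equiv.Perm GolayPt)} {a b : Equiv.Perm GolayPt}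
    {TA TB : ℕ} (hA : Represents a TA) (hB : Represents b TB) (ha : a ∈ G) (hb : b ∈ G)
    (d0 d1 d2 d3 : LevelData) (hok : chainOK TA TB d0 d1 d2 d3 = true)
    (hcard : Nat.card ↥G = d0.n * d1.n * d2.n * d3.n) {n : ℕ} (hn : 0 < n) {ds : List ℕ}
    (h1 : ∀ p : ℕ, p.Prime → p ∣ n → n / p ∈ ds) (h2 : ∀ d ∈ ds, 0 < d ∧ d < n) :
    Nat.card {g : ↥G // orderOf g = n} =
      cnt4 d0.n d0.U d1.n d1.U d2.n d2.U d3.n d3.U (ordIs n ds) := by
  classical
  unfold chainOK at hok
  simp only [Bool.and_eq_true] at hok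
  obtain ⟨⟨⟨⟨⟨⟨⟨⟨⟨⟨⟨⟨⟨w0, w1⟩, w2⟩, w3⟩, k0⟩, k1⟩, k2⟩, k3⟩, f10⟩, f20⟩, f30⟩, f21⟩, f31⟩, f32⟩ := hok
  have r0 := represents_level hA hB w0
  have r1 := represents_level hA hB w1
  have r2 := represents_level hA hB w2
  have r3 := represents_level hA hB w3
  let L : List Level := [d0.level a b, d1.level a b, d2.level a b, d3.level a b]
  have hV : Valid L := by
    refine ⟨keys_inj r0 k0, ?_, keys_inj r1 k1, ?_, keys_inj r2 k2, ?_, keys_inj r3 k3, ?_,
      trivial⟩
    · intro l' hl'
      simp only [List.mem_cons, List.not_mem_nil, or_false] at hl'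
      rcases hl' with rfl | rfl | rfl
      · exact fixes_of_ok r1 f10
      · exact fixes_of_ok r2 f20
      · exact fixes_of_ok r3 f30
    · intro l' hl'
      simp only [List.mem_cons, List.not_mem_nil, or_false] at hl'
      rcases hl' with rfl | rfl
      · exact fixes_of_ok r2 f21
      · exact fixes_of_ok r3 f31
    · intro l' hl'
      simp only [List.mem_cons, List.not_mem_nil, or_false] at hl'
      rcases hl' with rfl
      exact fixes_of_ok r3 f32
    · intro l' hl'
      simp at hl'
  have hG : ∀ l ∈ L, ∀ i < l.n, l.elt i ∈ G := by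
    intro l hl i _
    simp only [L, List.mem_cons, List.not_mem_nil, or_false] at hl
    rcases hl with rfl | rfl | rfl | rfl <;> exact wordProd_mem G ha hb _
  have hcard' : Nat.card ↥G = (L.map (·.n)).prod := by
    rw [hcard]
    simp only [L, List.map_cons, List.map_nil, List.prod_cons, List.prod_nil, mul_one]
    show d0.n * d1.n * d2.n * d3.n = d0.n * (d1.n * (d2.n * d3.n))
    ring
  have hmem := mem_prodSet_of_card G L hV hG hcard'
  have hsub : ∀ g ∈ prodSet L, g ∈ G := by
    intro g hg
    simp only [L, prodSet, Finset.mem_image, Finset.mem_product, Finset.mem_range,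
      Finset.mem_singleton, Prod.exists] at hg
    obtain ⟨i0, g1, ⟨_, i1, g2, ⟨_, i2, g3, ⟨_, i3, g4, ⟨_, rfl⟩, rfl⟩, rfl⟩, rfl⟩, rfl⟩ := hg
    exact G.mul_mem (wordProd_mem G ha hb _) (G.mul_mem (wordProd_mem G ha hb _)
      (G.mul_mem (wordProd_mem G ha hb _) (G.mul_mem (wordProd_mem G ha hb _) G.one_mem)))
  -- the count as a filter of the set of products
  have e : {g : ↥G // orderOf g = n} ≃
      ↥((prodSet L).filter (fun g : Equiv.Perm GolayPt => orderOf g = n)) :=
    { toFun := fun g => ⟨g.1.1, Finset.mem_filter.2 ⟨hmem g.1.1 g.1.2, by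
        rw [Subgroup.orderOf_coe]; exact g.2⟩⟩
      invFun := fun g => ⟨⟨g.1, hsub g.1 (Finset.mem_filter.1 g.2).1⟩, by
        rw [← Subgroup.orderOf_coe]; exact (Finset.mem_filter.1 g.2).2⟩
      left_inv := fun g => rfl
      right_inv := fun g => rfl }
  rw [Nat.card_congr e, Nat.card_eq_fintype_card, Fintype.card_coe, card_filter_prodSet L hV,
    cnt4_eq, countP4]
  apply Finset.sum_congr rfl
  intro i0 hi0
  apply Finset.sum_congr rfl
  intro i1 hi1
  apply Finset.sum_congr rfl
  intro i2 hi2
  apply Finset.sum_congr rfl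
  intro i3 hi3
  have hi0' : i0 < d0.n := Finset.mem_range.1 hi0
  have hi1' : i1 < d1.n := Finset.mem_range.1 hi1
  have hi2' : i2 < d2.n := Finset.mem_range.1 hi2
  have hi3' : i3 < d3.n := Finset.mem_range.1 hi3
  have hr : RepF ((d0.level a b).elt i0 * ((d1.level a b).elt i1 *
      ((d2.level a b).elt i2 * ((d3.level a b).elt i3 * 1))))
      (fun x => imgF (tblAt d0.U i0) (imgF (tblAt d1.U i1) (imgF (tblAt d2.U i2)
        (imgF (tblAt d3.U i3) x)))) := by
    rw [mul_one]
    exact repF_mul (repF_of_represents (r0 i0 hi0')) (repF_mul (repF_of_represents (r1 i1 hi1'))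
      (repF_mul (repF_of_represents (r2 i2 hi2')) (repF_of_represents (r3 i3 hi3'))))
  have hiff := ordIs_iff hr hn h1 h2
  by_cases hc : orderOf ((d0.level a b).elt i0 * ((d1.level a b).elt i1 *
      ((d2.level a b).elt i2 * ((d3.level a b).elt i3 * 1)))) = n
  · rw [if_pos hc, if_pos (hiff.2 hc)]
  · rw [if_neg hc, if_neg (fun h => hc (hiff.1 h))]

end Cfsg.Agent.Lib.Helper60_M11Count
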