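import Mathlib
import Cfsg.Agent.Lib.Helper60_M11Count

/-!
The numbers of elements of each order of the Mathieu group of degree eleven, counted through the
chain of stabilisers: 1, 165, 440, 990, 1584, 1320, 1980, 1440 elements of the orders
1, 2, 3, 4, 5, 6, 8, 11.
-/

set_option autoImplicit false
open scoped Pointwise
open Cfsg
open Cfsg.Agent.Lib.Helper26_Golay
open Cfsg.Agent.Lib.Helper27_EnumGroup
open Cfsg.Agent.Lib.Helper27_OutM11
open Cfsg.Agent.Lib.Helper60_M11Count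

namespace Cfsg.Agent.Lib.Helper60_M11Nse

/-! ### The counts -/

set_option maxRecDepth 100000 in
theorem cnt_1 : cnt4 d0.n d0.U d1.n d1.U d2.n d2.U d3.n d3.U (ordIs 1 []) = 1 := by
  decide +kernel

set_option maxRecDepth 100000 in
theorem cnt_2 : cnt4 d0.n d0.U d1.n d1.U d2.n d2.U d3.n d3.U (ordIs 2 [1]) = 165 := by
  decide +kernel

set_option maxRecDepth 100000 in
theorem cnt_3 : cnt4 d0.n d0.U d1.n d1.U d2.n d2.U d3.n d3.U (ordIs 3 [1]) = 440 := by
  decide +kernel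

set_option maxRecDepth 100000 in
theorem cnt_4 : cnt4 d0.n d0.U d1.n d1.U d2.n d2.U d3.n d3.U (ordIs 4 [2]) = 990 := by
  decide +kernel

set_option maxRecDepth 100000 in
theorem cnt_5 : cnt4 d0.n d0.U d1.n d1.U d2.n d2.U d3.n d3.U (ordIs 5 [1]) = 1584 := by
  decide +kernel

set_option maxRecDepth 100000 in
theorem cnt_6 : cnt4 d0.n d0.U d1.n d1.U d2.n d2.U d3.n d3.U (ordIs 6 [3, 2]) = 1320 := by
  decide +kernel

set_option maxRecDepth 100000 in
theorem cnt_8 : cnt4 d0.n d0.U d1.n d1.U d2.n d2.U d3.n d3.U (ordIs 8 [4]) = 1980 := by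
  decide +kernel

set_option maxRecDepth 100000 in
theorem cnt_11 : cnt4 d0.n d0.U d1.n d1.U d2.n d2.U d3.n d3.U (ordIs 11 [1]) = 1440 := by
  decide +kernel

theorem card_orderOf_eq_cnt {n : ℕ} (hn : 0 < n) {ds : List ℕ}
    (h1 : ∀ p : ℕ, p.Prime → p ∣ n → n / p ∈ ds) (h2 : ∀ d ∈ ds, 0 < d ∧ d < n) :
    Nat.card {g : ↥Spor.M11 // orderOf g = n} =
      cnt4 d0.n d0.U d1.n d1.U d2.n d2.U d3.n d3.U (ordIs n ds) := by
  obtain ⟨a, ha, hA⟩ := exists_of_inG gens_in.1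
  obtain ⟨b, hb, hB⟩ := exists_of_inG gens_in.2.1
  have hcard4 : Nat.card ↥Spor.M11 = d0.n * d1.n * d2.n * d3.n := by
    rw [card_M11]; rfl
  exact card_orderOf_eq_cnt4 hA hB ha hb d0 d1 d2 d3 chain_ok hcard4 hn h1 h2

theorem quot_mem {n : ℕ} {ds : List ℕ} (hn : 0 < n) (hle : n ≤ 11)
    (h : ∀ p < 12, p.Prime → p ∣ n → n / p ∈ ds) : ∀ p : ℕ, p.Prime → p ∣ n → n / p ∈ ds := by
  intro p hp hpn
  exact h p (by have := Nat.le_of_dvd hn hpn; omega) hp hpn

theorem card_order_1 : Nat.card {g : ↥Spor.M11 // orderOf g = 1} = 1 := by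
  rw [card_orderOf_eq_cnt (n := 1) (ds := []) (by norm_num) ?_ (by simp), cnt_1]
  intro p hp hp1
  exact absurd (Nat.dvd_one.1 hp1) hp.one_lt.ne'

theorem card_order_2 : Nat.card {g : ↥Spor.M11 // orderOf g = 2} = 165 := by
  rw [card_orderOf_eq_cnt (n := 2) (ds := [1]) (by norm_num) ?_ (by simp), cnt_2]
  intro p hp hpn
  rw [(Nat.prime_dvd_prime_iff_eq hp (by norm_num)).1 hpn]
  simp

theorem card_order_3 : Nat.card {g : ↥Spor.M11 // orderOf g = 3} = 440 := by
  rw [card_orderOf_eq_cnt (n := 3) (ds := [1]) (by norm_num) ?_ (by simp), cnt_3]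
  intro p hp hpn
  rw [(Nat.prime_dvd_prime_iff_eq hp (by norm_num)).1 hpn]
  simp

theorem card_order_5 : Nat.card {g : ↥Spor.M11 // orderOf g = 5} = 1584 := by
  rw [card_orderOf_eq_cnt (n := 5) (ds := [1]) (by norm_num) ?_ (by simp), cnt_5]
  intro p hp hpn
  rw [(Nat.prime_dvd_prime_iff_eq hp (by norm_num)).1 hpn]
  simp

theorem card_order_11 : Nat.card {g : ↥Spor.M11 // orderOf g = 11} = 1440 := by
  rw [card_orderOf_eq_cnt (n := 11) (ds := [1]) (by norm_num) ?_ (by simp), cnt_11]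
  intro p hp hpn
  rw [(Nat.prime_dvd_prime_iff_eq hp (by norm_num)).1 hpn]
  simp

theorem card_order_4 : Nat.card {g : ↥Spor.M11 // orderOf g = 4} = 990 := by
  rw [card_orderOf_eq_cnt (n := 4) (ds := [2]) (by norm_num) ?_ (by simp), cnt_4]
  intro p hp hpn
  have h2 : p = 2 := (Nat.prime_dvd_prime_iff_eq hp (by norm_num)).1
    (hp.dvd_of_dvd_pow (n := 2) (by norm_num at hpn ⊢; exact hpn))
  rw [h2]
  simp

theorem card_order_8 : Nat.card {g : ↥Spor.M11 // orderOf g = 8} = 1980 := by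
  rw [card_orderOf_eq_cnt (n := 8) (ds := [4]) (by norm_num) ?_ (by simp), cnt_8]
  intro p hp hpn
  have h2 : p = 2 := (Nat.prime_dvd_prime_iff_eq hp (by norm_num)).1
    (hp.dvd_of_dvd_pow (n := 3) (by norm_num at hpn ⊢; exact hpn))
  rw [h2]
  simp

theorem card_order_6 : Nat.card {g : ↥Spor.M11 // orderOf g = 6} = 1320 := by
  rw [card_orderOf_eq_cnt (n := 6) (ds := [3, 2]) (by norm_num) ?_ (by simp), cnt_6]
  apply quot_mem (by norm_num) (by norm_num)
  intro p hp12 hp hpn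
  interval_cases p <;> simp_all (config := { decide := true })

end Cfsg.Agent.Lib.Helper60_M11Nse
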