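import Mathlib
import Cfsg.Agent.Lib.Helper17_Sylow

/-!
Groups of order 7920 whose set of numbers of elements of equal order is that of the Mathieu group
of degree eleven: the Sylow subgroups for 11 and 5 have normalisers of orders 55 and 20, hence the
prime 11 is isolated in the prime graph.
-/

set_option autoImplicit false

namespace Cfsg.Agent.Lib.Helper60_NseAbs

open Cfsg.Agent.Lib.Helper17_Sylow

/-- if `p` divides the order of `x` and the Sylow `p`-subgroups have order `p`, then the order of
`x` times the number of Sylow `p`-subgroups divides the order of the group -/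
theorem orderOf_mul_card_sylow_dvd {G : Type*} [Group G] [Finite G] {p : ℕ} [hp : Fact p.Prime]
    (hP : ∀ P : Sylow p G, Nat.card (P : Subgroup G) = p) (x : G) (hx : p ∣ orderOf x) :
    orderOf x * Nat.card (Sylow p G) ∣ Nat.card G := by
  have ho : orderOf x ≠ 0 := (orderOf_pos x).ne'
  have hy : orderOf (x ^ (orderOf x / p)) = p := orderOf_pow_orderOf_div ho hx
  obtain ⟨Q, hQ⟩ := exists_sylow_eq_zpowers hP _ hy
  have hxN : x ∈ Subgroup.normalizer ((Q : Subgroup G) : Set G) := by
    rw [Subgroup.mem_normalizer_iff]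
    have key : ∀ z : G, z ∈ (Q : Subgroup G) → x * z * x⁻¹ = z := by
      intro z hz
      rw [hQ] at hz
      obtain ⟨k, rfl⟩ := Subgroup.mem_zpowers_iff.1 hz
      have hc : Commute x ((x ^ (orderOf x / p)) ^ k) :=
        ((Commute.refl x).pow_right _).zpow_right k
      rw [hc.eq, mul_inv_cancel_right]
    intro z
    constructor
    · intro hz
      rw [key z hz]; exact hz
    · intro hz
      have h2 := key _ hz
      have h3 : x * z * x⁻¹ = z := by
        have : x⁻¹ * (x * (x * z * x⁻¹) * x⁻¹) * x = x⁻¹ * (x * z * x⁻¹) * x := by rw [h2]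
        have e1 : x⁻¹ * (x * (x * z * x⁻¹) * x⁻¹) * x = x * z * x⁻¹ := by group
        have e2 : x⁻¹ * (x * z * x⁻¹) * x = z := by group
        rw [e1, e2] at this
        exact this
      rw [← h3]; exact hz
  have h1 := Subgroup.orderOf_dvd_natCard _ hxN
  have h2 := card_normalizer_mul_card_sylow Q
  rw [← h2]
  exact Nat.mul_dvd_mul_right h1 _

/-- the set of numbers of elements of equal order of the Mathieu group of degree eleven -/
def nseM11 : Set ℕ := {1, 165, 440, 990, 1320, 1440, 1584, 1980}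

/-- a group of order 7920 with the numbers of elements of equal order of the Mathieu group of
degree eleven has no element of order `11 * b` for a prime `b` other than 11 -/
theorem no_elt_eleven_mul {G : Type*} [Group G] [Finite G] (hord : Nat.card G = 7920)
    (hnse : {c : ℕ | 0 < c ∧ ∃ n : ℕ, c = Nat.card {g : G // orderOf g = n}} = nseM11)
    (b : ℕ) (hb : b.Prime) (hb11 : b ≠ 11) : ¬ ∃ g : G, orderOf g = 11 * b := by
  have h11 : Fact (Nat.Prime 11) := ⟨by norm_num⟩
  have h5 : Fact (Nat.Prime 5) := ⟨by norm_num⟩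
  have hP11 : ∀ P : Sylow 11 G, Nat.card (P : Subgroup G) = 11 := by
    intro P
    have := card_sylow_eq_pow (p := 11) (k := 1) (m := 720) (by rw [hord]; norm_num) (by norm_num) P
    simpa using this
  have hP5 : ∀ P : Sylow 5 G, Nat.card (P : Subgroup G) = 5 := by
    intro P
    have := card_sylow_eq_pow (p := 5) (k := 1) (m := 1584) (by rw [hord]; norm_num) (by norm_num) P
    simpa using this
  have hc11 := card_orderOf_eq_prime hP11
  have hc5 := card_orderOf_eq_prime hP5
  have hm11 : Nat.card (Sylow 11 G) % 11 = 1 := by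
    have h : Nat.card (Sylow 11 G) % 11 = 1 % 11 := card_sylow_modEq_one 11 G
    rw [h]
  have hm5 : Nat.card (Sylow 5 G) % 5 = 1 := by
    have h : Nat.card (Sylow 5 G) % 5 = 1 % 5 := card_sylow_modEq_one 5 G
    rw [h]
  have hpos11 : 0 < Nat.card (Sylow 11 G) := Nat.card_pos
  have hpos5 : 0 < Nat.card (Sylow 5 G) := Nat.card_pos
  have hin11 : Nat.card (Sylow 11 G) * (11 - 1) ∈ nseM11 := by
    rw [← hnse]
    exact ⟨by positivity, 11, hc11.symm⟩
  have hin5 : Nat.card (Sylow 5 G) * (5 - 1) ∈ nseM11 := by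
    rw [← hnse]
    exact ⟨by positivity, 5, hc5.symm⟩
  have hn11 : Nat.card (Sylow 11 G) = 144 := by
    unfold nseM11 at hin11
    simp only [Set.mem_insert_iff, Set.mem_singleton_iff] at hin11
    omega
  have hn5 : Nat.card (Sylow 5 G) = 396 := by
    unfold nseM11 at hin5
    simp only [Set.mem_insert_iff, Set.mem_singleton_iff] at hin5
    omega
  rintro ⟨g, hg⟩
  have hd11 := orderOf_mul_card_sylow_dvd hP11 g (by rw [hg]; exact Dvd.intro _ rfl)
  rw [hn11, hord, hg] at hd11
  -- 11 * b * 144 ∣ 7920, so b ∣ 5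
  have hb5 : b ∣ 5 := by
    obtain ⟨k, hk⟩ := hd11
    refine ⟨k, ?_⟩
    have : 1584 * 5 = 1584 * (b * k) := by
      have e : 11 * b * 144 * k = 1584 * (b * k) := by ring
      rw [← e, ← hk]
    exact Nat.eq_of_mul_eq_mul_left (by norm_num) this
  have hb5' : b = 5 := by
    rcases (Nat.dvd_prime (by norm_num : Nat.Prime 5)).1 hb5 with h | h
    · exact absurd h hb.one_lt.ne'
    · exact h
  subst hb5'
  have hd5 := orderOf_mul_card_sylow_dvd hP5 g (by rw [hg]; exact Dvd.intro_left _ rfl)
  rw [hn5, hord, hg] at hd5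
  obtain ⟨k, hk⟩ := hd5
  omega

/-- the prime graph of such a group is disconnected -/
theorem disconnected {G : Type*} [Group G] [Finite G] (hord : Nat.card G = 7920)
    (hnse : {c : ℕ | 0 < c ∧ ∃ n : ℕ, c = Nat.card {g : G // orderOf g = n}} = nseM11) :
    ∃ A : Set ℕ, (∃ a ∈ A, a.Prime ∧ a ∣ Nat.card G) ∧ (∃ b ∉ A, b.Prime ∧ b ∣ Nat.card G) ∧
      ∀ a ∈ A, ∀ b ∉ A, a.Prime → b.Prime → a ∣ Nat.card G → b ∣ Nat.card G →
        ¬ ∃ g : G, orderOf g = a * b := by
  refine ⟨{11}, ⟨11, rfl, by norm_num, by rw [hord]; norm_num⟩,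
    ⟨2, by simp, by norm_num, by rw [hord]; norm_num⟩, ?_⟩
  intro a ha b hb _ hbp _ _
  rw [Set.mem_singleton_iff] at ha hb
  subst ha
  exact no_elt_eleven_mul hord hnse b hbp hb

end Cfsg.Agent.Lib.Helper60_NseAbs
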