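import Mathlib
import Cfsg.Prelude.Def_Sporadic
import Cfsg.Agent.Lib.Helper60_M11Nse
import Cfsg.Agent.Lib.Helper60_NseAbs

/-!
The orders of the elements of the Mathieu group of degree eleven, the set of the numbers of its
elements of equal order, and its characterisation by the order and that set (given the simplicity of
the groups of order 7920 with a disconnected prime graph and the uniqueness of the simple group of
that order).
-/

set_option autoImplicit false
open scoped Pointwise
open Cfsg
open Cfsg.Agent.Lib.Helper27_OutM11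
open Cfsg.Agent.Lib.Helper60_NseAbs

namespace Cfsg.Agent.Lib.Helper60_M11Nse

/-- the orders of the elements of the Mathieu group of degree eleven -/
theorem orderOf_mem (g : ↥Spor.M11) : orderOf g ∈ ({1, 2, 3, 4, 5, 6, 8, 11} : Finset ℕ) := by
  by_contra hm
  have hle := Cfsg.Agent.Lib.Helper17_Sylow.sum_card_orderOf_le (G := ↥Spor.M11)
    (insert (orderOf g) ({1, 2, 3, 4, 5, 6, 8, 11} : Finset ℕ))
  rw [Finset.sum_insert hm, card_M11] at hle
  have hpos : 0 < Nat.card {x : ↥Spor.M11 // orderOf x = orderOf g} :=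
    Nat.card_pos_iff.2 ⟨⟨⟨g, rfl⟩⟩, inferInstance⟩
  have hsum : ∑ a ∈ ({1, 2, 3, 4, 5, 6, 8, 11} : Finset ℕ),
      Nat.card {x : ↥Spor.M11 // orderOf x = a} = 7920 := by
    have e : (1 + (165 + (440 + (990 + (1584 + (1320 + (1980 + 1440)))))) : ℕ) = 7920 := by norm_num
    rw [Finset.sum_insert (by decide), Finset.sum_insert (by decide),
      Finset.sum_insert (by decide), Finset.sum_insert (by decide), Finset.sum_insert (by decide),
      Finset.sum_insert (by decide), Finset.sum_insert (by decide), Finset.sum_singleton,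
      card_order_1, card_order_2, card_order_3, card_order_4, card_order_5, card_order_6,
      card_order_8, card_order_11, e]
  rw [hsum] at hle
  omega

/-- the set of the numbers of elements of equal order of the Mathieu group of degree eleven -/
theorem nse_eq : {c : ℕ | 0 < c ∧ ∃ n : ℕ, c = Nat.card {g : ↥Spor.M11 // orderOf g = n}} =
    nseM11 := by
  ext c
  unfold nseM11
  simp only [Set.mem_ofPred_eq, Set.mem_insert_iff, Set.mem_singleton_iff]
  constructor
  · rintro ⟨hc, n, rfl⟩
    obtain ⟨⟨g, hg⟩⟩ := (Nat.card_pos_iff.1 hc).1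
    have hn := orderOf_mem g
    rw [hg] at hn
    simp only [Finset.mem_insert, Finset.mem_singleton] at hn
    rcases hn with rfl | rfl | rfl | rfl | rfl | rfl | rfl | rfl
    · rw [card_order_1]; simp
    · rw [card_order_2]; simp
    · rw [card_order_3]; simp
    · rw [card_order_4]; simp
    · rw [card_order_5]; simp
    · rw [card_order_6]; simp
    · rw [card_order_8]; simp
    · rw [card_order_11]; simp
  · rintro (rfl | rfl | rfl | rfl | rfl | rfl | rfl | rfl)
    · exact ⟨by norm_num, 1, card_order_1.symm⟩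
    · exact ⟨by norm_num, 2, card_order_2.symm⟩
    · exact ⟨by norm_num, 3, card_order_3.symm⟩
    · exact ⟨by norm_num, 4, card_order_4.symm⟩
    · exact ⟨by norm_num, 6, card_order_6.symm⟩
    · exact ⟨by norm_num, 11, card_order_11.symm⟩
    · exact ⟨by norm_num, 5, card_order_5.symm⟩
    · exact ⟨by norm_num, 8, card_order_8.symm⟩

/-- the stabiliser of the dodecad of squares and of its point 0 in the group of the code is the
Mathieu group of degree eleven -/
def stabEquiv : ↥(MulAction.stabilizer Cfsg.M24 Spor.squareDodecad ⊓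
    MulAction.stabilizer Cfsg.M24 (some 0 : GolayPt)) ≃* ↥Spor.M11 where
  toFun k := ⟨k.1.1, mem_M11.2 ⟨k.1.2,
    MulAction.mem_stabilizer_iff.1 (Subgroup.mem_inf.1 k.2).1,
    MulAction.mem_stabilizer_iff.1 (Subgroup.mem_inf.1 k.2).2⟩⟩
  invFun k := ⟨⟨k.1, (mem_M11.1 k.2).1⟩, Subgroup.mem_inf.2
    ⟨MulAction.mem_stabilizer_iff.2 (mem_M11.1 k.2).2.1,
     MulAction.mem_stabilizer_iff.2 (mem_M11.1 k.2).2.2⟩⟩
  left_inv _ := rfl
  right_inv _ := rfl
  map_mul' _ _ := rfl

/-- a group with the order and the numbers of elements of equal order of the Mathieu group of degree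
eleven is isomorphic to it, given the two theorems on the groups of order 7920 -/
theorem iso_of_nse {G : Type*} [Group G] [Finite G]
    (hsimple : Nat.card G = 7920 →
      (∃ A : Set ℕ, (∃ a ∈ A, a.Prime ∧ a ∣ Nat.card G) ∧ (∃ b ∉ A, b.Prime ∧ b ∣ Nat.card G) ∧
        ∀ a ∈ A, ∀ b ∉ A, a.Prime → b.Prime → a ∣ Nat.card G → b ∣ Nat.card G →
          ¬ ∃ g : G, orderOf g = a * b) → IsSimpleGroup G)
    (huniq : Cfsg.IsM11 G → Nonempty (G ≃* ↥(MulAction.stabilizer Cfsg.M24 Spor.squareDodecad ⊓
      MulAction.stabilizer Cfsg.M24 (some 0 : GolayPt))))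
    (hcard : Nat.card G = Nat.card ↥Cfsg.Spor.M11)
    (hnse : {c : ℕ | 0 < c ∧ ∃ n : ℕ, c = Nat.card {g : G // orderOf g = n}} =
      {c : ℕ | 0 < c ∧ ∃ n : ℕ, c = Nat.card {g : ↥Cfsg.Spor.M11 // orderOf g = n}}) :
    Nonempty (G ≃* ↥Cfsg.Spor.M11) := by
  rw [card_M11] at hcard
  rw [nse_eq] at hnse
  have hs := hsimple hcard (disconnected hcard hnse)
  obtain ⟨e⟩ := huniq ⟨hs, hcard⟩
  exact ⟨e.trans stabEquiv⟩

end Cfsg.Agent.Lib.Helper60_M11Nse
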