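import Mathlib
import Cfsg.Agent.Lib.helper19_M23Defs

/-!
# S2054 market `s2054_packages` (architect helper19), package UNIT (second seat)

`dStAB_of_unit`: from the unit-scalar relations `UnitRel R` to the `DStAB` family `X a c t := R a c ^ t.val` over `ZMod 3`.
-/

set_option autoImplicit false

namespace Cfsg.Agent.Lib.Helper60_M23_UNIT

open Cfsg Cfsg.Spor Cfsg.Agent.Lib.Helper66_S96 Cfsg.Agent.Lib.Helper66_S92 Cfsg.Agent.Lib.Helper81_UceA
  Cfsg.Agent.Lib.helper19_M23

section general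

variable {G : Type*} [Group G]

theorem pow_mul_aux {X Y Z : G} (hXY : X * Y = Z * Y * X) (hZX : Commute Z X) (m : ℕ) :
    X ^ m * Y = Z ^ m * Y * X ^ m := by
  induction m with
  | zero => simp
  | succ m ih =>
    have hc : X * Z ^ m = Z ^ m * X := ((hZX.pow_left m).eq).symm
    calc X ^ (m + 1) * Y = X * (X ^ m * Y) := by rw [pow_succ', mul_assoc]
      _ = X * (Z ^ m * Y * X ^ m) := by rw [ih]
      _ = (X * Z ^ m) * Y * X ^ m := by simp only [mul_assoc]
      _ = Z ^ m * (X * Y) * X ^ m := by rw [hc]; simp only [mul_assoc]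
      _ = Z ^ m * (Z * Y * X) * X ^ m := by rw [hXY]
      _ = Z ^ (m + 1) * Y * X ^ (m + 1) := by rw [pow_succ, pow_succ']; simp only [mul_assoc]

theorem mul_pow_aux {X Y Z : G} (hXY : X * Y = Z * Y * X) (hZY : Commute Z Y) (n : ℕ) :
    X * Y ^ n = Z ^ n * Y ^ n * X := by
  induction n with
  | zero => simp
  | succ n ih =>
    have hc : Y ^ n * Z = Z * Y ^ n := ((hZY.pow_right n).eq).symm
    calc X * Y ^ (n + 1) = (X * Y ^ n) * Y := by rw [pow_succ, mul_assoc]
      _ = Z ^ n * Y ^ n * X * Y := by rw [ih]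
      _ = Z ^ n * Y ^ n * (X * Y) := by simp only [mul_assoc]
      _ = Z ^ n * Y ^ n * (Z * Y * X) := by rw [hXY]
      _ = Z ^ n * (Y ^ n * Z) * Y * X := by simp only [mul_assoc]
      _ = Z ^ n * (Z * Y ^ n) * Y * X := by rw [hc]
      _ = Z ^ (n + 1) * Y ^ (n + 1) * X := by rw [pow_succ, pow_succ]; simp only [mul_assoc]

/-- `[X ^ m, Y ^ n] = [X, Y] ^ (m * n)` when `[X, Y]` commutes with `X` and `Y` -/
theorem comm_pow_pow {X Y Z : G} (hZ : X * Y * X⁻¹ * Y⁻¹ = Z) (hZX : Commute Z X) (hZY : Commute Z Y)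
    (m n : ℕ) : X ^ m * Y ^ n * (X ^ m)⁻¹ * (Y ^ n)⁻¹ = Z ^ (m * n) := by
  have hXY : X * Y = Z * Y * X := by rw [← hZ]; group
  have h1 : X * Y ^ n = Z ^ n * Y ^ n * X := mul_pow_aux hXY hZY n
  have h2 : X ^ m * Y ^ n = (Z ^ n) ^ m * Y ^ n * X ^ m := pow_mul_aux h1 (hZX.pow_left n) m
  rw [h2, ← pow_mul, mul_comm n m]
  group

end general

theorem dStAB_of_unit {G : Type*} [Group G] (R : I8 → I8 → G) (h : UnitRel R) :
    DStAB (fun a c (t : ZMod 3) => R a c ^ t.val) := by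
  have hadd : ∀ a c (t u : ZMod 3), R a c ^ t.val * R a c ^ u.val = R a c ^ (t + u).val := by
    intro a c t u
    rw [← pow_add, ZMod.val_add, ← pow_eq_pow_mod _ (h.cube a c)]
  refine ⟨?_, ?_, ?_, hadd, ?_, ?_, ?_⟩
  · intro a c t
    show R c a ^ t.val = R a c ^ (-t).val
    have h1 := hadd a c t (-t)
    rw [add_neg_cancel, ZMod.val_zero, pow_zero] at h1
    rw [h.anti a c, inv_pow]
    exact (eq_inv_of_mul_eq_one_right h1).symm ▸ rfl
  · intro a t
    show R a (ng a) ^ t.val = 1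
    rw [h.opp, one_pow]
  · intro a t
    show R a a ^ t.val = 1
    rw [h.diag, one_pow]
  · intro a c d e t u h1 h2 h3 h4
    have hc : Commute (R a c) (R d e) := h.comm a c d e h1 h2 h3 h4
    exact (hc.pow_pow t.val u.val).eq
  · intro a c t u
    have hc : Commute (R a c) (R (ng a) c) := h.comm2 a c
    exact (hc.pow_pow t.val u.val).eq
  · intro a c e t u h1 h2 h3 h4 h5 h6
    show R a c ^ t.val * R (ng c) e ^ u.val * (R a c ^ t.val)⁻¹ * (R (ng c) e ^ u.val)⁻¹ =
      R a e ^ (t * u).val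
    have hZX : Commute (R a e) (R a c) := by
      refine h.comm a e a c (ne_ng a) ?_ ?_ ?_
      · exact h4
      · intro hh; exact h2 (by rw [hh, ng_ng])
      · intro hh; exact h6 hh
    have hZY : Commute (R a e) (R (ng c) e) := by
      refine h.comm a e (ng c) e ?_ ?_ ?_ (ne_ng e)
      · intro hh; exact h1 (ng_injective hh).symm
      · intro hh; exact h5 (ng_injective hh)
      · intro hh; exact h4 (by rw [hh, ng_ng])
    rw [comm_pow_pow (h.a2 a c e h1 h2 h3 h4 h5 h6) hZX hZY, ZMod.val_mul,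
      ← pow_eq_pow_mod _ (h.cube a e)]

end Cfsg.Agent.Lib.Helper60_M23_UNIT
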