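import Cfsg.Agent.Lib.Helper6_MXDefs

set_option autoImplicit false
open Cfsg.Agent.Lib.Helper6_MXDefs

/-!
S4017 market (architect helper6), package MX-A7: `N(Q) = ⟨x⟩ C(Q)`.
-/

namespace Cfsg.Agent.Lib.Helper60_MX_A7

variable {G : Type*} [Group G] [Finite G] {p a : ℕ} {Q : Subgroup G} {x : G}

/-- MX-A7. -/
theorem nq_dec (h : Ctx0 G p a Q x) (hT : PTrans Q x) (hS : PStab Q) : PDec Q x := by
  intro n hn
  -- a non-trivial element of `Q`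
  have hcard : 1 < Nat.card Q := by
    rw [h.cardQ]
    exact Nat.one_lt_two_pow (by have := h.ha; omega)
  obtain ⟨t, htQ, ht1⟩ : ∃ t ∈ Q, t ≠ 1 := by
    have hne : Q ≠ ⊥ := Q.one_lt_card_iff_ne_bot.mp hcard
    exact (Subgroup.ne_bot_iff_exists_ne_one.mp hne).elim fun t ht => ⟨t.1, t.2, fun hc => ht (Subtype.ext hc)⟩
  have hntQ : n * t * n⁻¹ ∈ Q := (Subgroup.mem_normalizer_iff.mp hn t).mp htQ
  have hnt1 : n * t * n⁻¹ ≠ 1 := by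
    intro hc
    apply ht1
    have : t = n⁻¹ * (n * t * n⁻¹) * n := by group
    rw [this, hc]
    group
  obtain ⟨j, hj⟩ := hT t htQ ht1 (n * t * n⁻¹) hntQ hnt1
  have hxj : x ^ j ∈ NQ Q := (NQ Q).pow_mem h.xN j
  refine ⟨j, (x ^ j)⁻¹ * n, ?_, by group⟩
  have hcN : (x ^ j)⁻¹ * n ∈ NQ Q := (NQ Q).mul_mem ((NQ Q).inv_mem hxj) hn
  apply hS _ hcN t htQ ht1
  calc (x ^ j)⁻¹ * n * t * ((x ^ j)⁻¹ * n)⁻¹ = (x ^ j)⁻¹ * (n * t * n⁻¹) * x ^ j := by group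
    _ = (x ^ j)⁻¹ * (x ^ j * t * (x ^ j)⁻¹) * x ^ j := by rw [hj]
    _ = t := by group

end Cfsg.Agent.Lib.Helper60_MX_A7
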