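import Cfsg.Agent.Lib.Helper6_MXDefs

set_option autoImplicit false
open Cfsg.Agent.Lib.Helper6_MXDefs

/-!
S4017 market (architect helper6), package MX-A8: the context is stable under replacing `x` by another `p`-element of
`N(Q)` that does not centralise `Q`.
-/

namespace Cfsg.Agent.Lib.Helper60_MX_A8

variable {G : Type*} [Group G] [Finite G] {p a : ℕ} {Q : Subgroup G} {x : G}

/-- MX-A8. -/
theorem ctx_swap (h : Ctx G p a Q x) (hS : PStab Q) :
    ∀ z ∈ NQ Q, IsPEl p z → ¬ CentQ Q z → Ctx G p a Q z := by
  intro z hz hzp hzc
  exact
    { hp := h.hp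
      hp2 := h.hp2
      ha := h.ha
      hpa := h.hpa
      cardQ := h.cardQ
      sylQ := h.sylQ
      xN := hz
      xp := hzp
      xfree := by
        intro v hv hfix
        by_contra hv1
        exact hzc (hS z hz v hv hv1 hfix)
      simple := h.simple
      even := h.even
      abel := h.abel
      big := h.big }

end Cfsg.Agent.Lib.Helper60_MX_A8
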