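import Mathlib
import Cfsg.Agent.Lib.Helper50_NatDefs
import Cfsg.Prelude.Def_BaumannBlocks

/-!
# S3009 package NAT-A (architect helper50): the decomposition `M = V0 ⊕ V0'` in the quadratic case
-/

set_option autoImplicit false

open Matrix Cfsg.Agent.Lib.Helper50_SL2Mat Cfsg.Agent.Lib.Helper50_NatDefs
open scoped MatrixGroups

namespace Cfsg.Agent.Lib.Helper60_Nat_NATA

universe u

section Abstract

variable {F : Type*} [Field F] {M : Type*} [AddCommGroup M] {ρ : SL(2, F) →* AddMonoid.End M}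

/-- the additive subgroup of the vectors fixed by the whole group -/
def fixAll (ρ : SL(2, F) →* AddMonoid.End M) : AddSubgroup M where
  carrier := {m | ∀ g : SL(2, F), ρ g m = m}
  zero_mem' := fun g => map_zero _
  add_mem' := fun {a b} ha hb g => by rw [map_add, ha g, hb g]
  neg_mem' := fun {a} ha g => by rw [map_neg, ha g]

theorem fixAll_eq_bot (hirr : Irr ρ) (hnt : NonTriv ρ) : fixAll ρ = ⊥ := by
  rcases hirr (fixAll ρ) (fun g m hm => by rw [hm g]; exact hm) with h | h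
  · exact h
  · exfalso
    obtain ⟨g, m, hgm⟩ := hnt
    have hm : m ∈ fixAll ρ := by rw [h]; exact AddSubgroup.mem_top m
    exact hgm (hm g)

theorem inf_eq_zero (hirr : Irr ρ) (hnt : NonTriv ρ) {m : M} (h : m ∈ V0 ρ) (h' : m ∈ V0' ρ) :
    m = 0 := by
  have hm : m ∈ fixAll ρ := fun g => fixed_of_generators ρ h h' g
  rw [fixAll_eq_bot hirr hnt] at hm
  exact (AddSubgroup.mem_bot).1 hm

theorem exists_decomp (hirr : Irr ρ) (hnt : NonTriv ρ) (hq : Quad ρ) (m : M) :
    ∃ v ∈ V0 ρ, ∃ v' ∈ V0' ρ, m = v + v' := by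
  have hinv : ∀ g : SL(2, F), ∀ x ∈ V0 ρ ⊔ V0' ρ, ρ g x ∈ V0 ρ ⊔ V0' ρ := by
    apply invariant_of_generators
    · intro s x hx
      obtain ⟨v, hv, v', hv', rfl⟩ := AddSubgroup.mem_sup.1 hx
      rw [map_add, hv s, tU_apply]
      have e : v + (v' + A ρ s v') = (v + A ρ s v') + v' := by abel
      rw [e]
      exact AddSubgroup.mem_sup.2 ⟨_, (V0 ρ).add_mem hv (A_mem_V0 hq s v'), _, hv', rfl⟩
    · intro s x hx
      obtain ⟨v, hv, v', hv', rfl⟩ := AddSubgroup.mem_sup.1 hx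
      rw [map_add, hv' s, tL_apply]
      have e : v + C ρ s v + v' = v + (C ρ s v + v') := by abel
      rw [e]
      exact AddSubgroup.mem_sup.2 ⟨_, hv, _, (V0' ρ).add_mem (C_mem_V0' hq s v) hv', rfl⟩
  rcases hirr _ hinv with h | h
  · exfalso
    have hV0 : ∀ x ∈ V0 ρ, x = 0 := by
      intro x hx
      have : x ∈ V0 ρ ⊔ V0' ρ := AddSubgroup.mem_sup_left hx
      rw [h] at this
      exact AddSubgroup.mem_bot.1 this
    have hall : ∀ x : M, x ∈ V0 ρ := by
      intro x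
      rw [mem_V0_iff_A]
      intro s
      exact hV0 _ (A_mem_V0 hq s x)
    obtain ⟨g, x, hgx⟩ := hnt
    apply hgx
    rw [hV0 x (hall x), map_zero]
  · have hm : m ∈ V0 ρ ⊔ V0' ρ := by rw [h]; exact AddSubgroup.mem_top m
    obtain ⟨v, hv, v', hv', e⟩ := AddSubgroup.mem_sup.1 hm
    exact ⟨v, hv, v', hv', e.symm⟩

end Abstract

end Cfsg.Agent.Lib.Helper60_Nat_NATA
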