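import Mathlib
import Cfsg.Agent.Lib.Helper95_OPDefs
import Cfsg.Agent.Lib.Helper95_OPBasic
import Cfsg.Agent.Lib.Helper48_OODefs
import Cfsg.Agent.Lib.Helper87_OO2Defs
import Cfsg.Agent.Lib.Helper87_OO2Defs2
import Cfsg.Agent.Lib.Helper85_OO2_RankOne
import Cfsg.Agent.Lib.Helper85_OO2_LemK

set_option autoImplicit false
set_option linter.unusedSectionVars false
set_option linter.unusedVariables false
set_option linter.style.haveILetI false

/-!
S2344 package OO2-PSIA (cutter helper87): `F_2 = Y_2 ⊕ Ψ_2`, by averaging over the finite group `L''`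
generated by the long root elements of `W_1`.
-/

namespace Cfsg.Agent.Lib.Helper60_OO2_PSIA

open Module Cfsg.Agent.Lib.Helper94_OrthSmall Cfsg.Agent.Lib.Helper44_QuadClass
  Cfsg.Agent.Lib.Helper14_OmegaSimple Cfsg.Agent.Lib.Helper38_MIODefs
  Cfsg.Agent.Lib.Helper95_OPDefs Cfsg.Agent.Lib.Helper95_OPBasic Cfsg.Agent.Lib.Helper48_OODefs
  Cfsg.Agent.Lib.Helper87_OO2Defs

/-! ### averaging over a finite group -/

section generic

variable {G : Type*} [Group G] [Fintype G] {X : Type*} [AddCommGroup X] [Module ℂ X]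
  (σ : Representation ℂ G X)

/-- the averaging operator -/
noncomputable def avg : X →ₗ[ℂ] X := (Fintype.card G : ℂ)⁻¹ • ∑ g : G, σ g

theorem avg_apply (x : X) : avg σ x = (Fintype.card G : ℂ)⁻¹ • ∑ g : G, σ g x := by
  unfold avg
  rw [LinearMap.smul_apply, LinearMap.sum_apply]

theorem card_ne_zero' : (Fintype.card G : ℂ) ≠ 0 :=
  Nat.cast_ne_zero.mpr Fintype.card_ne_zero

theorem avg_of_fixed (x : X) (hx : ∀ g, σ g x = x) : avg σ x = x := by
  rw [avg_apply]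
  simp only [hx]
  rw [Finset.sum_const, Finset.card_univ, ← Nat.cast_smul_eq_nsmul ℂ, smul_smul,
    inv_mul_cancel₀ (card_ne_zero' (G := G)), one_smul]

theorem avg_smul (g : G) (x : X) : avg σ (σ g x) = avg σ x := by
  rw [avg_apply, avg_apply]
  congr 1
  have e : ∀ h : G, σ h (σ g x) = σ (h * g) x := fun h => by
    rw [map_mul, Module.End.mul_apply]
  simp only [e]
  exact Fintype.sum_bijective (fun h => h * g) (Group.mulRight_bijective g) _ _ (fun _ => rfl)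

theorem smul_avg (g : G) (x : X) : σ g (avg σ x) = avg σ x := by
  rw [avg_apply, map_smul, map_sum]
  congr 1
  have e : ∀ h : G, σ g (σ h x) = σ (g * h) x := fun h => by
    rw [map_mul, Module.End.mul_apply]
  simp only [e]
  exact Fintype.sum_bijective (fun h => g * h) (Group.mulLeft_bijective g) _ _ (fun _ => rfl)

theorem avg_mem (N : Submodule ℂ X) (hN : ∀ g, ∀ m ∈ N, σ g m ∈ N) {m : X} (hm : m ∈ N) :
    avg σ m ∈ N := by
  rw [avg_apply]
  exact N.smul_mem _ (N.sum_mem fun g _ => hN g m hm)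

theorem avg_sub_mem (A : Submodule ℂ X) {m : X} (hA : ∀ g, σ g m - m ∈ A) : avg σ m - m ∈ A := by
  have e : avg σ m - m = (Fintype.card G : ℂ)⁻¹ • ∑ g : G, (σ g m - m) := by
    rw [avg_apply, Finset.sum_sub_distrib, Finset.sum_const, Finset.card_univ, smul_sub,
      ← Nat.cast_smul_eq_nsmul ℂ, smul_smul, inv_mul_cancel₀ (card_ne_zero' (G := G)), one_smul]
  rw [e]
  exact A.smul_mem _ (A.sum_mem fun g _ => hA g)

end generic

/-! ### the group `L''` -/

section frame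

variable {F V : Type*} [Field F] [AddCommGroup V] [Module F V] (Q : QuadraticForm F V)

/-- a long root element fixes the vectors orthogonal to both of its parameters -/
theorem E_fix {a b : V} (ha : Q a = 0) (hab : QuadraticMap.polar (⇑Q) a b = 0) {x : V}
    (hxa : QuadraticMap.polar (⇑Q) x a = 0) (hxb : QuadraticMap.polar (⇑Q) x b = 0) :
    E Q a b x = x := by
  rw [E_apply Q ha hab, hxa, hxb]
  simp

/-- the generators of `L''`, as elements of `T Q` -/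
def gensL (v v' w0 w0' : V) : Set ↥(T Q) :=
  {g | ∃ a ∈ W1 Q v v' w0 w0', ∃ b ∈ W1 Q v v' w0 w0', Q a = 0 ∧ Q b = 0 ∧
    QuadraticMap.polar (⇑Q) a b = 0 ∧ (g : V ≃ₗ[F] V) = E Q a b}

/-- the group `L''` generated by the long root elements of `W_1` -/
def LL (v v' w0 w0' : V) : Subgroup ↥(T Q) := Subgroup.closure (gensL Q v v' w0 w0')

theorem mem_W1 {v v' w0 w0' a : V} :
    a ∈ W1 Q v v' w0 w0' ↔ (QuadraticMap.polar (⇑Q) v a = 0 ∧ QuadraticMap.polar (⇑Q) v' a = 0) ∧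
      (QuadraticMap.polar (⇑Q) w0 a = 0 ∧ QuadraticMap.polar (⇑Q) w0' a = 0) := by
  unfold W1
  rw [Submodule.mem_inf, mem_perp, mem_perp]

/-- the elements of `L''` fix the four frame vectors -/
theorem LL_fix {v v' w0 w0' : V} {g : ↥(T Q)} (hg : g ∈ LL Q v v' w0 w0') :
    (g : V ≃ₗ[F] V) v = v ∧ (g : V ≃ₗ[F] V) v' = v' ∧ (g : V ≃ₗ[F] V) w0 = w0 ∧
      (g : V ≃ₗ[F] V) w0' = w0' := by
  unfold LL at hg
  induction hg using Subgroup.closure_induction with
  | mem g hg =>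
    obtain ⟨a, ha, b, hb, hqa, hqb, hab, hg⟩ := hg
    rw [hg]
    obtain ⟨⟨a1, a2⟩, a3, a4⟩ := (mem_W1 Q).1 ha
    obtain ⟨⟨b1, b2⟩, b3, b4⟩ := (mem_W1 Q).1 hb
    exact ⟨E_fix Q hqa hab a1 b1, E_fix Q hqa hab a2 b2, E_fix Q hqa hab a3 b3,
      E_fix Q hqa hab a4 b4⟩
  | one => exact ⟨rfl, rfl, rfl, rfl⟩
  | mul g h _ _ ihg ihh =>
    obtain ⟨g1, g2, g3, g4⟩ := ihg
    obtain ⟨h1, h2, h3, h4⟩ := ihh
    refine ⟨?_, ?_, ?_, ?_⟩
    · show (g : V ≃ₗ[F] V) ((h : V ≃ₗ[F] V) v) = v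
      rw [h1, g1]
    · show (g : V ≃ₗ[F] V) ((h : V ≃ₗ[F] V) v') = v'
      rw [h2, g2]
    · show (g : V ≃ₗ[F] V) ((h : V ≃ₗ[F] V) w0) = w0
      rw [h3, g3]
    · show (g : V ≃ₗ[F] V) ((h : V ≃ₗ[F] V) w0') = w0'
      rw [h4, g4]
  | inv g _ ih =>
    obtain ⟨g1, g2, g3, g4⟩ := ih
    refine ⟨?_, ?_, ?_, ?_⟩
    · show ((g : V ≃ₗ[F] V)⁻¹) v = v
      conv_lhs => rw [← g1]
      exact LinearEquiv.symm_apply_apply _ _
    · show ((g : V ≃ₗ[F] V)⁻¹) v' = v'
      conv_lhs => rw [← g2]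
      exact LinearEquiv.symm_apply_apply _ _
    · show ((g : V ≃ₗ[F] V)⁻¹) w0 = w0
      conv_lhs => rw [← g3]
      exact LinearEquiv.symm_apply_apply _ _
    · show ((g : V ≃ₗ[F] V)⁻¹) w0' = w0'
      conv_lhs => rw [← g4]
      exact LinearEquiv.symm_apply_apply _ _

/-- an isometry fixing `e`, `f` maps `perp Q e f` into itself -/
theorem map_perp {g : V ≃ₗ[F] V} (hg : g ∈ oG (⇑Q)) {e f : V} (he : g e = e) (hf : g f = f)
    {w : V} (hw : w ∈ perp Q e f) : g w ∈ perp Q e f := by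
  rw [mem_perp] at hw ⊢
  constructor
  · conv_lhs => rw [← he]
    rw [oG_polar Q hg]
    exact hw.1
  · conv_lhs => rw [← hf]
    rw [oG_polar Q hg]
    exact hw.2

end frame

section rep

variable {F V : Type*} [Field F] [Fintype F] [AddCommGroup V] [Module F V] [FiniteDimensional F V]
  {X : Type*} [AddCommGroup X] [Module ℂ X]

/-- an element of `T Q` fixing `u` whose inverse maps `S` into itself preserves `fixE Q ρ u S` -/
theorem fixE_stable (Q : QuadraticForm F V) (hQ : (QuadraticMap.polarBilin Q).Nondegenerate)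
    (hdim : 5 ≤ finrank F V) (ρ : Representation ℂ ↥(T Q) X) {u : V} (hu : Q u = 0)
    (S : Submodule F V) (hS : ∀ w ∈ S, QuadraticMap.polar (⇑Q) u w = 0) (g : ↥(T Q))
    (hgu : (g : V ≃ₗ[F] V) u = u) (hgS : ∀ w ∈ S, ((g : V ≃ₗ[F] V)⁻¹) w ∈ S) {x : X}
    (hx : x ∈ fixE Q ρ u S) : ρ g x ∈ fixE Q ρ u S := by
  intro w hw
  have hgo : (g : V ≃ₗ[F] V)⁻¹ ∈ oG (⇑Q) := Subgroup.inv_mem _ (T_le_oG Q g.2)
  have hgu' : ((g : V ≃ₗ[F] V)⁻¹) u = u := by
    conv_lhs => rw [← hgu]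
    exact LinearEquiv.symm_apply_apply _ _
  have hE : E Q u w ∈ T Q := E_mem_T Q hQ hdim hu (hS w hw)
  have hE' : E Q u (((g : V ≃ₗ[F] V)⁻¹) w) ∈ T Q :=
    E_mem_T Q hQ hdim hu (hS _ (hgS w hw))
  have hc := conj_E Q hgo hu (hS w hw)
  rw [hgu', inv_inv] at hc
  -- `E u w * g = g * E u (g⁻¹ w)`
  have hc2 : E Q u w * (g : V ≃ₗ[F] V) =
      (g : V ≃ₗ[F] V) * E Q u (((g : V ≃ₗ[F] V)⁻¹) w) := by
    rw [← hc]
    group
  have e1 : repE Q ρ (E Q u w) (ρ g x) = repE Q ρ (E Q u w * (g : V ≃ₗ[F] V)) x := by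
    rw [repE_mul Q ρ hE g.2, Module.End.mul_apply, repE_coe]
  rw [e1, hc2, repE_mul Q ρ g.2 hE', Module.End.mul_apply, repE_coe, hx _ (hgS w hw)]

variable (Q : QuadraticForm F V) (hQ : (QuadraticMap.polarBilin Q).Nondegenerate)
  (hdim : 5 ≤ finrank F V) {v v' w0 w0' : V} (h : HQuad Q v v' w0 w0')
  (ρ : Representation ℂ ↥(T Q) X)

include hQ hdim h

/-- `F_2` is stable under `L''` -/
theorem F2_stable {g : ↥(T Q)} (hg : g ∈ LL Q v v' w0 w0') {x : X}
    (hx : x ∈ F2sp Q ρ v v' w0 w0') : ρ g x ∈ F2sp Q ρ v v' w0 w0' := by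
  obtain ⟨g1, g2, g3, g4⟩ := LL_fix Q hg
  have hgo : (g : V ≃ₗ[F] V)⁻¹ ∈ oG (⇑Q) := Subgroup.inv_mem _ (T_le_oG Q g.2)
  have inv_fix : ∀ {y : V}, (g : V ≃ₗ[F] V) y = y → ((g : V ≃ₗ[F] V)⁻¹) y = y := by
    intro y hy
    conv_lhs => rw [← hy]
    exact LinearEquiv.symm_apply_apply _ _
  refine ⟨?_, ?_⟩
  · apply fixE_stable Q hQ hdim ρ h.pa.qa (perp Q v v') (fun w hw => ((mem_perp Q v v').1 hw).1)
      g g1 (fun w hw => map_perp Q hgo (inv_fix g1) (inv_fix g2) hw) hx.1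
  · apply fixE_stable Q hQ hdim ρ h.pb.qa (W1 Q v v' w0 w0')
      (fun w hw => ((mem_W1 Q).1 hw).2.1) g g3 ?_ hx.2
    intro w hw
    exact ⟨map_perp Q hgo (inv_fix g1) (inv_fix g2) hw.1,
      map_perp Q hgo (inv_fix g3) (inv_fix g4) hw.2⟩

/-- `(g - 1) F_2 ⊆ [L'', F_2]` (generated over the root elements) for all `g ∈ L''` -/
theorem sub_mem_augL {g : ↥(T Q)} (hg : g ∈ LL Q v v' w0 w0') :
    ∀ m ∈ F2sp Q ρ v v' w0 w0', ρ g m - m ∈
      augL Q ρ (W1 Q v v' w0 w0') (F2sp Q ρ v v' w0 w0') := by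
  have hg' := hg
  unfold LL at hg'
  induction hg' using Subgroup.closure_induction with
  | mem g hgen =>
    intro m hm
    obtain ⟨a, ha, b, hb, hqa, hqb, hab, hgE⟩ := hgen
    apply Submodule.subset_span
    refine ⟨a, ha, b, hb, hqa, hqb, hab, m, hm, ?_⟩
    rw [← hgE, repE_coe]
  | one =>
    intro m _
    rw [map_one, Module.End.one_apply, sub_self]
    exact Submodule.zero_mem _
  | mul a b ha hb iha ihb =>
    intro m hm
    have ha' : a ∈ LL Q v v' w0 w0' := ha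
    have hb' : b ∈ LL Q v v' w0 w0' := hb
    have e : ρ (a * b) m - m = (ρ a (ρ b m) - ρ b m) + (ρ b m - m) := by
      rw [map_mul, Module.End.mul_apply]
      abel
    rw [e]
    exact Submodule.add_mem _ (iha ha' _ (F2_stable Q hQ hdim h ρ hb' hm)) (ihb hb' m hm)
  | inv a ha iha =>
    intro m hm
    have ha' : a ∈ LL Q v v' w0 w0' := ha
    have hinv : a⁻¹ ∈ LL Q v v' w0 w0' := Subgroup.inv_mem _ ha'
    have e : ρ a⁻¹ m - m = -(ρ a (ρ a⁻¹ m) - ρ a⁻¹ m) := by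
      rw [← Module.End.mul_apply, ← map_mul, mul_inv_cancel, map_one, Module.End.one_apply]
      abel
    rw [e]
    exact Submodule.neg_mem _ (iha ha' _ (F2_stable Q hQ hdim h ρ hinv hm))

omit hQ hdim h in
/-- the vectors of `fixL W_1` are fixed by `L''` -/
theorem fixL_fixed {g : ↥(T Q)} (hg : g ∈ LL Q v v' w0 w0') {x : X}
    (hx : x ∈ fixL Q ρ (W1 Q v v' w0 w0')) : ρ g x = x := by
  unfold LL at hg
  induction hg using Subgroup.closure_induction with
  | mem g hgen =>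
    obtain ⟨a, ha, b, hb, hqa, hqb, hab, hgE⟩ := hgen
    have := hx a ha b hb hqa hqb hab
    rwa [← hgE, repE_coe] at this
  | one => rw [map_one, Module.End.one_apply]
  | mul a b _ _ iha ihb => rw [map_mul, Module.End.mul_apply, ihb, iha]
  | inv a _ iha =>
    conv_lhs => rw [← iha]
    rw [← Module.End.mul_apply, ← map_mul, inv_mul_cancel, map_one, Module.End.one_apply]

omit hQ hdim h in
/-- the vectors fixed by `L''` lie in `fixL W_1` -/
theorem mem_fixL_of_fixed {x : X} (hx : ∀ g ∈ LL Q v v' w0 w0', ρ g x = x) :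
    x ∈ fixL Q ρ (W1 Q v v' w0 w0') := by
  intro a ha b hb hqa hqb hab
  have hT : E Q a b ∈ T Q := root_mem_T Q hqa hqb hab
  have hmem : (⟨E Q a b, hT⟩ : ↥(T Q)) ∈ LL Q v v' w0 w0' :=
    Subgroup.subset_closure ⟨a, ha, b, hb, hqa, hqb, hab, rfl⟩
  have := hx _ hmem
  rwa [← repE_of_mem Q ρ hT] at this

end rep

section main

variable {F V : Type*} [Field F] [Fintype F] [AddCommGroup V] [Module F V] [FiniteDimensional F V]
  {X : Type*} [AddCommGroup X] [Module ℂ X] [FiniteDimensional ℂ X]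

omit [FiniteDimensional ℂ X] in
/-- the group of linear automorphisms of a finite space is finite -/
theorem finite_T (Q : QuadraticForm F V) : Finite ↥(T Q) := by
  have : Finite V := Module.finite_of_finite F
  have : Finite (V ≃ₗ[F] V) :=
    Finite.of_injective (fun e : V ≃ₗ[F] V => (e : V → V)) DFunLike.coe_injective
  infer_instance

/-! ## OO2-PSIA (L): `F_2 = Y_2 ⊕ Ψ_2` -/
theorem F2_le_sup (Q : QuadraticForm F V) (hQ : (QuadraticMap.polarBilin Q).Nondegenerate)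
    (hdim : 5 ≤ finrank F V) {v v' w0 w0' : V} (h : HQuad Q v v' w0 w0')
    (ρ : Representation ℂ ↥(T Q) X) :
    F2sp Q ρ v v' w0 w0' ≤ Y2sp Q ρ v v' w0 w0' ⊔ Psisp Q ρ v v' w0 w0' := by
  have hfin : Finite ↥(T Q) := finite_T Q
  letI : Fintype ↥(LL Q v v' w0 w0') := Fintype.ofFinite _
  intro m hm
  -- the restriction of `ρ` to `L''`
  have hstab : ∀ g : ↥(LL Q v v' w0 w0'), ∀ x ∈ F2sp Q ρ v v' w0 w0',
      (ρ.comp (LL Q v v' w0 w0').subtype) g x ∈ F2sp Q ρ v v' w0 w0' :=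
    fun g x hx => F2_stable Q hQ hdim h ρ g.2 hx
  have h1 : avg (ρ.comp (LL Q v v' w0 w0').subtype) m ∈ F2sp Q ρ v v' w0 w0' :=
    avg_mem _ _ hstab hm
  have h2 : avg (ρ.comp (LL Q v v' w0 w0').subtype) m ∈ fixL Q ρ (W1 Q v v' w0 w0') := by
    apply mem_fixL_of_fixed
    intro g hg
    exact smul_avg (ρ.comp (LL Q v v' w0 w0').subtype) ⟨g, hg⟩ m
  have h3 : avg (ρ.comp (LL Q v v' w0 w0').subtype) m - m ∈
      augL Q ρ (W1 Q v v' w0 w0') (F2sp Q ρ v v' w0 w0') :=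
    avg_sub_mem _ _ (fun g => sub_mem_augL Q hQ hdim h ρ g.2 m hm)
  have e : m = avg (ρ.comp (LL Q v v' w0 w0').subtype) m +
      -(avg (ρ.comp (LL Q v v' w0 w0').subtype) m - m) := by abel
  rw [e]
  apply Submodule.add_mem_sup
  · exact ⟨h1, h2⟩
  · exact Submodule.neg_mem _ ⟨Submodule.sub_mem _ h1 hm, h3⟩

theorem Y2_inf_Psi (Q : QuadraticForm F V) (hQ : (QuadraticMap.polarBilin Q).Nondegenerate)
    (hdim : 5 ≤ finrank F V) {v v' w0 w0' : V} (h : HQuad Q v v' w0 w0')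
    (ρ : Representation ℂ ↥(T Q) X) :
    Y2sp Q ρ v v' w0 w0' ⊓ Psisp Q ρ v v' w0 w0' = ⊥ := by
  have hfin : Finite ↥(T Q) := finite_T Q
  letI : Fintype ↥(LL Q v v' w0 w0') := Fintype.ofFinite _
  rw [eq_bot_iff]
  rintro x ⟨⟨-, hxL⟩, -, hxA⟩
  rw [Submodule.mem_bot]
  -- the average of `x` is `x`
  have h1 : avg (ρ.comp (LL Q v v' w0 w0').subtype) x = x :=
    avg_of_fixed _ x (fun g => fixL_fixed Q ρ g.2 hxL)
  -- the average kills the augmentation
  have h2 : ∀ y ∈ augL Q ρ (W1 Q v v' w0 w0') (F2sp Q ρ v v' w0 w0'),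
      avg (ρ.comp (LL Q v v' w0 w0').subtype) y = 0 := by
    intro y hy
    unfold augL at hy
    induction hy using Submodule.span_induction with
    | mem y hy =>
      obtain ⟨a, ha, b, hb, hqa, hqb, hab, m, -, rfl⟩ := hy
      have hT : E Q a b ∈ T Q := root_mem_T Q hqa hqb hab
      have hmem : (⟨E Q a b, hT⟩ : ↥(T Q)) ∈ LL Q v v' w0 w0' :=
        Subgroup.subset_closure ⟨a, ha, b, hb, hqa, hqb, hab, rfl⟩
      have e : repE Q ρ (E Q a b) m =
          (ρ.comp (LL Q v v' w0 w0').subtype) ⟨⟨E Q a b, hT⟩, hmem⟩ m := by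
        rw [repE_of_mem Q ρ hT]
        rfl
      rw [map_sub, e, avg_smul, sub_self]
    | zero => exact map_zero _
    | add y z _ _ ihy ihz => rw [map_add, ihy, ihz, add_zero]
    | smul c y _ ihy => rw [map_smul, ihy, smul_zero]
  rw [← h1, h2 x hxA]

end main

end Cfsg.Agent.Lib.Helper60_OO2_PSIA
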