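import Mathlib
import Cfsg.Prelude.Def_GeometricClasses
import Cfsg.Prelude.Def_Classical
import Cfsg.Agent.Lib.Helper13_OrthR2Defs
import Cfsg.Agent.Lib.Helper44_StdForms
import Cfsg.Agent.Lib.Helper60_OrthC2_Coord

/-!
ORTHC2 package MAP (helper13): the model `a_s = fromBlocks 1 S 0 1` of the a-type involutions of rank `s`
on the standard plus-type quadratic space `qfPlus d F` in characteristic two, and its invariant
nondegenerate plus-type coordinate subspaces (helper60).

General layer: for every involution `σ` of `Fin d` the linear map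
`aLin σ v = (a + S b, b)` with `(S b) i = b (σ i)` if `σ i ≠ i` and `0` otherwise.
-/

set_option autoImplicit false

namespace Cfsg.Agent.Lib.Helper60_OrthC2_MAP

open Matrix Module Cfsg.Agent.Lib.Helper13_OrthR2Defs Cfsg.Agent.Lib.Helper44_StdForms
  Cfsg.Agent.Lib.Helper60_OrthC2_Coord

variable {d : ℕ} {F : Type*} [Field F]

/-- the a-type model attached to the involution `σ` of the index set -/
def aLin (σ : Fin d → Fin d) : (Fin d ⊕ Fin d → F) →ₗ[F] (Fin d ⊕ Fin d → F) where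
  toFun v := Sum.elim (fun i => v (Sum.inl i) + if σ i ≠ i then v (Sum.inr (σ i)) else 0)
    (fun i => v (Sum.inr i))
  map_add' := by
    intro v w
    ext k
    rcases k with i | i
    · simp only [Sum.elim_inl, Pi.add_apply]
      split_ifs <;> ring
    · simp
  map_smul' := by
    intro c v
    ext k
    rcases k with i | i
    · simp only [Sum.elim_inl, Pi.smul_apply, smul_eq_mul, RingHom.id_apply]
      split_ifs <;> ring
    · simp

theorem aLin_inl (σ : Fin d → Fin d) (v : Fin d ⊕ Fin d → F) (i : Fin d) :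
    aLin σ v (Sum.inl i) = v (Sum.inl i) + if σ i ≠ i then v (Sum.inr (σ i)) else 0 := rfl

theorem aLin_inr (σ : Fin d → Fin d) (v : Fin d ⊕ Fin d → F) (i : Fin d) :
    aLin σ v (Sum.inr i) = v (Sum.inr i) := rfl

/-- the moved points of `σ` -/
def moved (σ : Fin d → Fin d) : Finset (Fin d) := Finset.univ.filter (fun i => σ i ≠ i)

theorem mem_moved (σ : Fin d → Fin d) (i : Fin d) : i ∈ moved σ ↔ σ i ≠ i := by
  simp [moved]

/-- `a_σ` is an isometry of `qfPlus` in characteristic two -/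
theorem qf_aLin (h2 : (2 : F) = 0) (σ : Fin d → Fin d) (hσ : ∀ i, σ (σ i) = i)
    (v : Fin d ⊕ Fin d → F) : qfPlus d F (aLin σ v) = qfPlus d F v := by
  rw [qfPlus_apply, qfPlus_apply]
  have h1 : ∀ i : Fin d, aLin σ v (Sum.inl i) * aLin σ v (Sum.inr i)
      = v (Sum.inl i) * v (Sum.inr i)
        + (if σ i ≠ i then v (Sum.inr (σ i)) * v (Sum.inr i) else 0) := by
    intro i
    rw [aLin_inl, aLin_inr]
    split_ifs <;> ring
  rw [Finset.sum_congr rfl (fun i _ => h1 i), Finset.sum_add_distrib]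
  have h3 : ∑ i : Fin d, (if σ i ≠ i then v (Sum.inr (σ i)) * v (Sum.inr i) else 0) = 0 := by
    apply Finset.sum_involution (fun i _ => σ i)
    · intro i _
      have hs : σ (σ i) ≠ σ i ↔ σ i ≠ i := by
        rw [hσ]
        exact ne_comm
      by_cases hi : σ i = i
      · rw [if_neg (by simpa using hi), if_neg (by rw [hs]; simpa using hi), add_zero]
      · rw [if_pos hi, if_pos (hs.2 hi), hσ]
        have : v (Sum.inr (σ i)) * v (Sum.inr i) + v (Sum.inr i) * v (Sum.inr (σ i))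
            = 2 * (v (Sum.inr (σ i)) * v (Sum.inr i)) := by ring
        rw [this, h2, zero_mul]
    · intro i _ hne
      by_contra hi
      apply hne
      rw [if_neg (by simpa using hi)]
    · intro i _
      exact Finset.mem_univ _
    · intro i _
      exact hσ i
  rw [h3, add_zero]

/-- `a_σ` is an involution in characteristic two -/
theorem aLin_aLin (h2 : (2 : F) = 0) (σ : Fin d → Fin d)
    (v : Fin d ⊕ Fin d → F) : aLin σ (aLin σ v) = v := by
  ext k
  rcases k with i | i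
  · rw [aLin_inl, aLin_inl, aLin_inr]
    split_ifs
    · have : v (Sum.inl i) + v (Sum.inr (σ i)) + v (Sum.inr (σ i))
          = v (Sum.inl i) + 2 * v (Sum.inr (σ i)) := by ring
      rw [this, h2, zero_mul, add_zero]
    · rw [add_zero, add_zero]
  · rfl

/-- the range of `a_σ - 1` -/
theorem range_aLin_sub (σ : Fin d → Fin d) (hσ : ∀ i, σ (σ i) = i) :
    LinearMap.range (aLin (F := F) σ - 1)
      = coordS ((moved σ).map ⟨Sum.inl, Sum.inl_injective⟩) := by
  apply le_antisymm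
  · rintro _ ⟨v, rfl⟩
    intro k hk
    rw [LinearMap.sub_apply, Module.End.one_apply, Pi.sub_apply]
    rcases k with i | i
    · rw [aLin_inl]
      have hi : ¬ σ i ≠ i := by
        intro hi
        apply hk
        rw [Finset.mem_map]
        exact ⟨i, (mem_moved σ i).2 hi, rfl⟩
      rw [if_neg hi, add_zero, sub_self]
    · rw [aLin_inr, sub_self]
  · intro w hw
    refine ⟨Sum.elim (fun _ => 0) (fun j => w (Sum.inl (σ j))), ?_⟩
    ext k
    rw [LinearMap.sub_apply, Module.End.one_apply, Pi.sub_apply]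
    rcases k with i | i
    · rw [aLin_inl]
      simp only [Sum.elim_inl, Sum.elim_inr, zero_add, sub_zero]
      by_cases hi : σ i = i
      · rw [if_neg (by simpa using hi)]
        symm
        apply hw
        rw [Finset.mem_map]
        rintro ⟨j, hj, hji⟩
        have : j = i := Sum.inl_injective hji
        subst this
        exact (mem_moved σ j).1 hj hi
      · rw [if_pos hi, hσ]
    · rw [aLin_inr]
      simp only [Sum.elim_inr, sub_self]
      symm
      apply hw
      rw [Finset.mem_map]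
      rintro ⟨j, _, hj⟩
      exact Sum.inl_ne_inr hj

theorem finrank_range_aLin_sub (σ : Fin d → Fin d) (hσ : ∀ i, σ (σ i) = i) :
    finrank F (LinearMap.range (aLin (F := F) σ - 1)) = (moved σ).card := by
  rw [range_aLin_sub σ hσ, finrank_coordS, Finset.card_map]

/-- `(a_σ - 1) v` is singular -/
theorem qf_aLin_sub (σ : Fin d → Fin d) (v : Fin d ⊕ Fin d → F) :
    qfPlus d F (aLin σ v - v) = 0 := by
  rw [qfPlus_apply]
  apply Finset.sum_eq_zero
  intro i _
  rw [Pi.sub_apply, Pi.sub_apply, aLin_inr, sub_self, mul_zero]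

/-- `σ`-stable coordinate subspaces are invariant -/
theorem aLin_mem_coordS (σ : Fin d → Fin d) (hσ : ∀ i, σ (σ i) = i) (I : Finset (Fin d))
    (hI : ∀ i ∈ I, σ i ∈ I) (v : Fin d ⊕ Fin d → F) (hv : v ∈ coordS (F := F) (dbl I)) :
    aLin σ v ∈ coordS (F := F) (dbl I) := by
  rw [mem_coordS_dbl] at hv ⊢
  intro i hi
  refine ⟨?_, ?_⟩
  · rw [aLin_inl, (hv i hi).1, zero_add]
    split_ifs with h
    · apply (hv (σ i) _).2
      intro hcon
      apply hi
      have := hI _ hcon
      rwa [hσ] at this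
    · rfl
  · rw [aLin_inr]
    exact (hv i hi).2

/-- the matrix of the model -/
noncomputable def aMat (σ : Fin d → Fin d) : Matrix (Fin d ⊕ Fin d) (Fin d ⊕ Fin d) F :=
  LinearMap.toMatrix' (aLin σ)

theorem aMat_mulVec (σ : Fin d → Fin d) (v : Fin d ⊕ Fin d → F) :
    aMat (F := F) σ *ᵥ v = aLin σ v := by
  rw [aMat, ← Matrix.toLin'_apply, Matrix.toLin'_toMatrix']

theorem aMat_sub_mulVec (σ : Fin d → Fin d) (v : Fin d ⊕ Fin d → F) :
    (aMat (F := F) σ - 1) *ᵥ v = aLin σ v - v := by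
  rw [Matrix.sub_mulVec, Matrix.one_mulVec, aMat_mulVec]

/-- the general model theorem -/
theorem model (h2 : (2 : F) = 0) (σ : Fin d → Fin d) (hσ : ∀ i, σ (σ i) = i) :
    (∀ v, qfPlus d F (aMat (F := F) σ *ᵥ v) = qfPlus d F v) ∧
    aMat (F := F) σ * aMat σ = 1 ∧
    (aMat (F := F) σ - 1).rank = (moved σ).card ∧
    (∀ v, qfPlus d F ((aMat (F := F) σ - 1) *ᵥ v) = 0) ∧
    ∀ I : Finset (Fin d), (∀ i ∈ I, σ i ∈ I) →
      (finrank F (coordS (F := F) (dbl I)) = 2 * I.card ∧
        ND (qfPlus d F) (coordS (F := F) (dbl I)) ∧ Plus (qfPlus d F) (coordS (F := F) (dbl I))) ∧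
      Inv (aMat (F := F) σ) (coordS (F := F) (dbl I)) := by
  refine ⟨?_, ?_, ?_, ?_, ?_⟩
  · intro v
    rw [aMat_mulVec, qf_aLin h2 σ hσ]
  · rw [aMat, ← LinearMap.toMatrix'_comp, ← LinearMap.toMatrix'_id]
    congr 1
    refine LinearMap.ext (fun v => ?_)
    rw [LinearMap.comp_apply, aLin_aLin h2, LinearMap.id_apply]
  · have hlin : (aMat (F := F) σ - 1).mulVecLin = aLin σ - 1 := by
      refine LinearMap.ext (fun v => ?_)
      rw [Matrix.mulVecLin_apply, aMat_sub_mulVec, LinearMap.sub_apply, Module.End.one_apply]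
    rw [Matrix.rank, hlin, finrank_range_aLin_sub σ hσ]
  · intro v
    rw [aMat_sub_mulVec, qf_aLin_sub]
  · intro I hI
    refine ⟨⟨finrank_coordS_dbl I, nd_coordS_dbl I, plus_coordS_dbl I⟩, ?_⟩
    rw [inv_iff]
    intro w hw
    rw [aMat_mulVec]
    exact aLin_mem_coordS σ hσ I hI w hw

/-! ### the concrete pairing `2 j ↔ 2 j + 1` on the first `t + t` indices -/

/-- the pairing on natural numbers -/
def pv (t n : ℕ) : ℕ := if n < t + t then (if n % 2 = 0 then n + 1 else n - 1) else n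

theorem pv_lt {d t n : ℕ} (htd : t + t ≤ d) (hn : n < d) : pv t n < d := by
  unfold pv
  split_ifs <;> omega

theorem pv_pv (t n : ℕ) : pv t (pv t n) = n := by
  unfold pv
  split_ifs <;> omega

theorem pv_ne_iff (t n : ℕ) : pv t n ≠ n ↔ n < t + t := by
  unfold pv
  split_ifs <;> omega

/-- the pairing involution of `Fin d` -/
def pairσ (d t : ℕ) (htd : t + t ≤ d) : Fin d → Fin d := fun i => ⟨pv t i.val, pv_lt htd i.isLt⟩

theorem pairσ_val (d t : ℕ) (htd : t + t ≤ d) (i : Fin d) : (pairσ d t htd i).val = pv t i.val := rfl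

theorem pairσ_invol (d t : ℕ) (htd : t + t ≤ d) (i : Fin d) :
    pairσ d t htd (pairσ d t htd i) = i := by
  apply Fin.ext
  rw [pairσ_val, pairσ_val, pv_pv]

theorem card_moved_pairσ (d t : ℕ) (htd : t + t ≤ d) : (moved (pairσ d t htd)).card = t + t := by
  have h : moved (pairσ d t htd)
      = (Finset.range (t + t)).attachFin (fun n hn => by
          rw [Finset.mem_range] at hn
          omega) := by
    ext i
    rw [mem_moved, Finset.mem_attachFin, Finset.mem_range, ← pv_ne_iff, Ne, Fin.ext_iff, pairσ_val]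
  rw [h, Finset.card_attachFin, Finset.card_range]

/-- the stable index sets: the first `2 j₁` paired indices and `j₂` unpaired ones -/
def stab (d t j₁ j₂ : ℕ) (h : t + t + j₂ ≤ d) (h1 : j₁ ≤ t) : Finset (Fin d) :=
  (Finset.range (2 * j₁) ∪ Finset.Ico (t + t) (t + t + j₂)).attachFin (fun n hn => by
    rw [Finset.mem_union, Finset.mem_range, Finset.mem_Ico] at hn
    omega)

theorem mem_stab (d t j₁ j₂ : ℕ) (h : t + t + j₂ ≤ d) (h1 : j₁ ≤ t) (i : Fin d) :
    i ∈ stab d t j₁ j₂ h h1 ↔ (i.val < 2 * j₁ ∨ (t + t ≤ i.val ∧ i.val < t + t + j₂)) := by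
  rw [stab, Finset.mem_attachFin, Finset.mem_union, Finset.mem_range, Finset.mem_Ico]

theorem card_stab (d t j₁ j₂ : ℕ) (h : t + t + j₂ ≤ d) (h1 : j₁ ≤ t) :
    (stab d t j₁ j₂ h h1).card = 2 * j₁ + j₂ := by
  rw [stab, Finset.card_attachFin, Finset.card_union_of_disjoint, Finset.card_range, Nat.card_Ico]
  · omega
  · rw [Finset.disjoint_left]
    intro n hn hn'
    rw [Finset.mem_range] at hn
    rw [Finset.mem_Ico] at hn'
    omega

theorem stab_stable (d t j₁ j₂ : ℕ) (h : t + t + j₂ ≤ d) (h1 : j₁ ≤ t) (i : Fin d)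
    (hi : i ∈ stab d t j₁ j₂ h h1) : pairσ d t (by omega) i ∈ stab d t j₁ j₂ h h1 := by
  rw [mem_stab] at hi ⊢
  rw [pairσ_val]
  unfold pv
  split_ifs <;> omega

/-- MAP -/
theorem MAP (h2 : (2 : F) = 0) (d s : ℕ) (hs : Even s) (hs0 : 0 < s) (hsd : s ≤ d) :
    ∃ T : Matrix (Fin d ⊕ Fin d) (Fin d ⊕ Fin d) F,
      (∀ v, qfPlus d F (T *ᵥ v) = qfPlus d F v) ∧ T * T = 1 ∧ (T - 1).rank = s ∧
      (∀ v, qfPlus d F ((T - 1) *ᵥ v) = 0) ∧
      ∀ m : ℕ, Even m → m ≤ 2 * d → (4 ∣ m ∨ s < d) →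
        ∃ W : Submodule F (Fin d ⊕ Fin d → F),
          (finrank F W = m ∧ ND (qfPlus d F) W ∧ Plus (qfPlus d F) W) ∧ Inv T W := by
  obtain ⟨t, rfl⟩ := hs
  obtain ⟨g1, g2, g3, g4, g5⟩ := model h2 (pairσ d t hsd) (pairσ_invol d t hsd)
  refine ⟨aMat (pairσ d t hsd), g1, g2, ?_, g4, ?_⟩
  · rw [g3, card_moved_pairσ]
  · intro m hm hmd hcond
    obtain ⟨k, rfl⟩ := hm
    obtain ⟨j₁, j₂, hj1, hj2, hj⟩ : ∃ j₁ j₂ : ℕ, j₁ ≤ t ∧ t + t + j₂ ≤ d ∧ 2 * j₁ + j₂ = k := by
      by_cases hk : k / 2 ≤ t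
      · refine ⟨k / 2, k % 2, hk, ?_, ?_⟩
        · rcases hcond with hc | hc
          · omega
          · omega
        · omega
      · refine ⟨t, k - (t + t), le_refl _, ?_, ?_⟩
        · omega
        · omega
    obtain ⟨hA, hB⟩ := g5 (stab d t j₁ j₂ hj2 hj1) (stab_stable d t j₁ j₂ hj2 hj1)
    refine ⟨coordS (dbl (stab d t j₁ j₂ hj2 hj1)), ⟨?_, hA.2.1, hA.2.2⟩, hB⟩
    rw [hA.1, card_stab]
    omega

end Cfsg.Agent.Lib.Helper60_OrthC2_MAP
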