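import Mathlib
import Cfsg.Prelude.Def_ParabolicCharacters
import Cfsg.Agent.Lib.Helper81_BNSub
import Cfsg.Agent.Lib.Helper81_BNBorel
import Cfsg.Agent.Lib.Helper81_ChevBorel
import Cfsg.Agent.Lib.Helper81_ChevStDeg
import Cfsg.Agent.Lib.Helper81_ChevParCent
import Cfsg.Agent.Lib.Helper18_ChevLevi

/-!
# S2314 market `pc_packages` (architect helper81), package CK-DEC

`ljGens` (the generators of `U ∩ L_J`) and `exists_mul_of_mem_pos`: `U = (U ∩ L_J) U_J`.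
-/

set_option autoImplicit false
set_option linter.unusedSectionVars false
set_option linter.unusedVariables false

namespace Cfsg.Agent.Lib.Helper81_PCountChev

open Cfsg Cfsg.Lie Cfsg.Agent.Lib.Helper18_ChevFast Cfsg.Agent.Lib.Helper18_ChevEngine
  Cfsg.Agent.Lib.Helper18_ChevR1 Cfsg.Agent.Lib.Helper18_ChevN Cfsg.Agent.Lib.Helper18_ChevR4
  Cfsg.Agent.Lib.Helper18_ChevSimple Cfsg.Agent.Lib.Helper18_ChevSimple2 Cfsg.Agent.Lib.Helper18_ChevFacts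
  Cfsg.Agent.Lib.Helper18_ChevWeyl Cfsg.Agent.Lib.Helper18_ChevDiag Cfsg.Agent.Lib.Helper18_ChevCar
  Cfsg.Agent.Lib.Helper18_ChevTorus Cfsg.Agent.Lib.Helper18_ChevGL Cfsg.Agent.Lib.Helper18_ChevComm
  Cfsg.Agent.Lib.Helper18_ChevComm2 Cfsg.Agent.Lib.Helper18_MatTri Cfsg.Agent.Lib.Helper18_ChevTri
  Cfsg.Agent.Lib.Helper18_ChevBorel Cfsg.Agent.Lib.Helper18_ChevAdd Cfsg.Agent.Lib.Helper18_ChevUni
  Cfsg.Agent.Lib.Helper18_ChevBN Cfsg.Agent.Lib.Helper18_ChevMono Cfsg.Agent.Lib.Helper18_ChevBNPair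
  Cfsg.Agent.Lib.Helper18_ChevSimp Cfsg.Agent.Lib.Helper18_ChevJCerts Cfsg.Agent.Lib.Helper18_ChevLevi
  Cfsg.Agent.Lib.Helper18_ChevBruhat Cfsg.Agent.Lib.Helper18_ChevPar Cfsg.Agent.Lib.Helper18_ChevRootHom
  Cfsg.Agent.Lib.Helper18_ChevOrder Cfsg.Agent.Lib.Helper18_ChevSylow
  Cfsg.Agent.Lib.Helper6_Word Cfsg.Agent.Lib.Helper6_BNPair Cfsg.Agent.Lib.Helper81_CoxComb
  Cfsg.Agent.Lib.Helper81_ChevLen Cfsg.Agent.Lib.Helper81_ChevLenBN Cfsg.Agent.Lib.Helper81_BNSteinberg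
  Cfsg.Agent.Lib.Helper81_BNIndex Cfsg.Agent.Lib.Helper81_BNBorel Cfsg.Agent.Lib.Helper81_ChevSt

variable {D : ChevalleyDatum} {Ns : List NData} {F : Type*} [Field F]
variable {wl : List ℤ} {ws : List (List ℤ)} {sc : ℤ} {w : List ℤ} {d : ℕ}

/-! ## CK-DEC -/

/-- the generators of `U ∩ L_J` -/
def ljGens (D : ChevalleyDatum) (F : Type*) [Field F] (J : Set ℕ) : Set (GL D.Idx F) :=
  {g | ∃ (r : ℕ) (t : F), D.IsPosRoot r ∧ D.InRootSub J r ∧ (g : Matrix D.Idx D.Idx F) = D.x F r t}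

/-- `U = (U ∩ L_J) U_J` -/
theorem exists_mul_of_mem_pos (c : DCert D Ns) (tc : TCert D) (ac : ACert D wl ws sc) (hR2 : R2All D F)
    (J : Set ℕ) (u : GL D.Idx F) (hu : u ∈ D.posUnipotent F) :
    ∃ l ∈ Subgroup.closure (ljGens D F J), ∃ v ∈ D.unipotentRadical F J, u = l * v := by
  classical
  -- `L` normalizes `U_J`
  have hLN : Subgroup.closure (ljGens D F J) ≤
      Subgroup.normalizer (D.unipotentRadical F J : Set (GL D.Idx F)) := by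
    rw [Subgroup.closure_le]
    rintro g ⟨r, t, hr, -, hg⟩
    rw [eq_xGL c hg]
    exact xGL_pos_mem_normalizer_uj (J := J) c tc ac hR2 r hr t
  -- `U ≤ U_J ⊔ L`
  have hU : D.posUnipotent F ≤ D.unipotentRadical F J ⊔ Subgroup.closure (ljGens D F J) := by
    unfold ChevalleyDatum.posUnipotent
    rw [Subgroup.closure_le]
    rintro g ⟨r, t, hr, hg⟩
    by_cases hJ : D.InRootSub J r
    · exact Subgroup.mem_sup_right (Subgroup.subset_closure ⟨r, t, hr, hJ, hg⟩)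
    · exact Subgroup.mem_sup_left (Subgroup.subset_closure ⟨r, t, hr, hJ, hg⟩)
  have hinv : u⁻¹ ∈ D.unipotentRadical F J ⊔ Subgroup.closure (ljGens D F J) :=
    hU (Subgroup.inv_mem _ hu)
  obtain ⟨y, hy, a, ha, hya⟩ := exists_mul_of_mem_sup _ _ hLN hinv
  refine ⟨a⁻¹, Subgroup.inv_mem _ ha, y⁻¹, Subgroup.inv_mem _ hy, ?_⟩
  rw [← mul_inv_rev, ← hya, inv_inv]

end Cfsg.Agent.Lib.Helper81_PCountChev
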