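import Mathlib
import Cfsg.Prelude.Def_ParabolicCharacters
import Cfsg.Agent.Lib.Helper81_BNSub
import Cfsg.Agent.Lib.Helper81_BNBorel
import Cfsg.Agent.Lib.Helper81_ChevBorel
import Cfsg.Agent.Lib.Helper81_ChevStDeg
import Cfsg.Agent.Lib.Helper81_ChevParCent
import Cfsg.Agent.Lib.Helper18_ChevLevi

/-!
# S2314 market `pc_packages` (architect helper81), package CK-NEGJ

`grF_nonneg_J`, `neg_of_simple_J`: the relative versions (for the root subsystem `Φ_J`) of
`Helper18_ChevBruhat.grF_nonneg` and `Helper81_ChevLen.LinMap.neg_of_simple`.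
-/

set_option autoImplicit false
set_option linter.unusedSectionVars false
set_option linter.unusedVariables false

namespace Cfsg.Agent.Lib.Helper81_PCountChev

open Cfsg Cfsg.Lie Cfsg.Agent.Lib.Helper18_ChevFast Cfsg.Agent.Lib.Helper18_ChevEngine
  Cfsg.Agent.Lib.Helper18_ChevR1 Cfsg.Agent.Lib.Helper18_ChevN Cfsg.Agent.Lib.Helper18_ChevR4
  Cfsg.Agent.Lib.Helper18_ChevSimple Cfsg.Agent.Lib.Helper18_ChevSimple2 Cfsg.Agent.Lib.Helper18_ChevFacts
  Cfsg.Agent.Lib.Helper18_ChevWeyl Cfsg.Agent.Lib.Helper18_ChevDiag Cfsg.Agent.Lib.Helper18_ChevCar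
  Cfsg.Agent.Lib.Helper18_ChevTorus Cfsg.Agent.Lib.Helper18_ChevGL Cfsg.Agent.Lib.Helper18_ChevComm
  Cfsg.Agent.Lib.Helper18_ChevComm2 Cfsg.Agent.Lib.Helper18_MatTri Cfsg.Agent.Lib.Helper18_ChevTri
  Cfsg.Agent.Lib.Helper18_ChevBorel Cfsg.Agent.Lib.Helper18_ChevAdd Cfsg.Agent.Lib.Helper18_ChevUni
  Cfsg.Agent.Lib.Helper18_ChevBN Cfsg.Agent.Lib.Helper18_ChevMono Cfsg.Agent.Lib.Helper18_ChevBNPair
  Cfsg.Agent.Lib.Helper18_ChevSimp Cfsg.Agent.Lib.Helper18_ChevJCerts Cfsg.Agent.Lib.Helper18_ChevLevi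
  Cfsg.Agent.Lib.Helper18_ChevBruhat Cfsg.Agent.Lib.Helper18_ChevPar Cfsg.Agent.Lib.Helper18_ChevRootHom
  Cfsg.Agent.Lib.Helper18_ChevOrder Cfsg.Agent.Lib.Helper18_ChevSylow
  Cfsg.Agent.Lib.Helper6_Word Cfsg.Agent.Lib.Helper6_BNPair Cfsg.Agent.Lib.Helper81_CoxComb
  Cfsg.Agent.Lib.Helper81_ChevLen Cfsg.Agent.Lib.Helper81_ChevLenBN Cfsg.Agent.Lib.Helper81_BNSteinberg
  Cfsg.Agent.Lib.Helper81_BNIndex Cfsg.Agent.Lib.Helper81_BNBorel Cfsg.Agent.Lib.Helper81_ChevSt

variable {D : ChevalleyDatum} {Ns : List NData} {F : Type*} [Field F]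
variable {wl : List ℤ} {ws : List (List ℤ)} {sc : ℤ} {w : List ℤ} {d : ℕ}

/-! ## CK-NEGJ -/

/-- a linear function that is `≥ 0` on the fundamental roots in `J` is `≥ 0` on the positive roots of `Φ_J` -/
theorem grF_nonneg_J (c : DCert D Ns) (tc : TCert D) (ac : ACert D wl ws sc) (hdesc : Descent D) (J : Set ℕ)
    (w' : ℕ → ℤ) (h : ∀ j < D.rank, j ∈ J → 0 ≤ grF D w' (D.simple j)) :
    ∀ r, D.IsPosRoot r → D.InRootSub J r → 0 ≤ grF D w' r := by
  intro r
  induction r using Nat.strong_induction_on with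
  | _ r ih =>
    intro hr hrJ
    rcases hdesc r hr.1 hr with ⟨i, hi, rfl⟩ | ⟨j, hj, hcar, hpos⟩
    · -- `r = p_i`: then `i ∈ J`
      have hiJ : i ∈ J := by
        by_contra hiJ
        have h0 : cor D (D.simple i) i = 0 := hrJ.2 i hi hiJ
        have h1 := (ac.cor_zero_iff _ hr.1 i hi).mp h0
        rw [ac.cf_simple i hi i hi, if_pos rfl] at h1
        exact absurd h1 (ne_of_gt ac.sc_pos)
      exact h i hi hiJ
    · -- descent index `j`: it lies in `J`
      have hjJ : j ∈ J := by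
        by_contra hjJ
        have h0 : cor D r j = 0 := hrJ.2 j hj hjJ
        have h1 : cf D ws j r = 0 := (ac.cor_zero_iff _ hr.1 j hj).mp h0
        have h2 := (ac.pos_iff _ hpos.1).mp hpos j hj
        have e := grF_reflect c j hj (fun k => (ws.getD j []).getD k 0) r hr.1
        have hs : cf D ws j (D.simple j) = sc := by rw [ac.cf_simple j hj j hj, if_pos rfl]
        unfold cf at h1 h2 hs
        rw [grRoot_eq_grF] at h1 h2 hs
        rw [e, h1, hs] at h2
        have := ac.sc_pos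
        nlinarith
      have e := grF_reflect c j hj w' r hr.1
      have egl := grF_reflect c j hj (fun k => wl.getD k 0) r hr.1
      have hlt : D.reflectRoot j r < r := by
        apply ac.lt_of_gl_lt _ _ (c.reflect_lt j hj r hr.1)
        have hp := ac.gl_pos _ (tc.simple_pos j hj)
        unfold gl at hp ⊢
        rw [grRoot_eq_grF, grRoot_eq_grF, egl]
        rw [grRoot_eq_grF] at hp
        nlinarith
      have hsub : D.InRootSub J (D.reflectRoot j r) := by
        refine ⟨c.reflect_lt j hj r hr.1, ?_⟩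
        intro k hk hkJ
        have hkj : k ≠ j := fun hkj => hkJ (hkj ▸ hjJ)
        have h0 : cor D r k = 0 := hrJ.2 k hk hkJ
        have h1 : cf D ws k r = 0 := (ac.cor_zero_iff _ hr.1 k hk).mp h0
        have h2 : cf D ws k (D.reflectRoot j r) = 0 := by
          rw [cf_reflect c ac j hj k hk hkj r hr.1, h1]
        exact (ac.cor_zero_iff _ (c.reflect_lt j hj r hr.1) k hk).mpr h2
      have h1 := ih _ hlt hpos hsub
      have h2 := h j hj hjJ
      nlinarith

/-- a linear map of the roots that makes the fundamental roots in `J` negative makes all positive roots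
of `Φ_J` negative -/
theorem neg_of_simple_J (c : DCert D Ns) (tc : TCert D) (ac : ACert D wl ws sc) (hdesc : Descent D)
    (J : Set ℕ) {π : ℕ → ℕ} (hπ : LinMap D π)
    (h : ∀ i < D.rank, i ∈ J → D.IsNegRoot (π (D.simple i))) :
    ∀ r, D.IsPosRoot r → D.InRootSub J r → D.IsNegRoot (π r) := by
  intro r hr hrJ
  rw [ac.neg_iff _ (hπ.1 r hr.1)]
  intro m hm
  obtain ⟨w', hw'⟩ := hπ.2.2 (fun j => (ws.getD m []).getD j 0)
  show grF D (fun j => (ws.getD m []).getD j 0) (π r) ≤ 0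
  rw [hw' r hr.1]
  have hnegF : ∀ s, grF D (fun j => - w' j) s = - grF D w' s := by
    intro s
    unfold grF
    rw [← Finset.sum_neg_distrib]
    apply Finset.sum_congr rfl
    intro j _
    ring
  have h1 := grF_nonneg_J c tc ac hdesc J (fun j => - w' j) (by
    intro j hj hjJ
    rw [hnegF]
    have hpj := (tc.simple_pos j hj).1
    rw [← hw' _ hpj]
    have h2 : grF D (fun j => (ws.getD m []).getD j 0) (π (D.simple j)) ≤ 0 :=
      (ac.neg_iff _ (hπ.1 _ hpj)).mp (h j hj hjJ) m hm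
    linarith) r hr hrJ
  rw [hnegF] at h1
  linarith

end Cfsg.Agent.Lib.Helper81_PCountChev
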