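import Mathlib
import Cfsg.Agent.Lib.Helper3_CharBurnside

/-!
Helper library (helper60): quadratic maps without nontrivial zeros between elementary abelian
`2`-groups (multiplicative notation), a Chevalley-Warning bound for them, and the solvability of
their isometry groups when the target has order at most four.  Used for S3117.
-/

set_option autoImplicit false
set_option linter.unusedSectionVars false
set_option linter.style.haveILetI false

namespace Cfsg.Agent.Lib.Helper60_QuadTwo

section AdditivePart

open MvPolynomial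

variable {M N : Type*} [AddCommGroup M] [AddCommGroup N]

/-- expansion of a quadratic map along a finite family -/
theorem quad_sum (s : M → N) (hs0 : s 0 = 0) (B : M → M → N)
    (hB : ∀ x y, s (x + y) = s x + s y + B x y)
    (hBadd : ∀ x y z, B x (y + z) = B x y + B x z) :
    ∀ (n : ℕ) (y : Fin n → M), s (∑ j, y j) =
      ∑ j, s (y j) + ∑ j, ∑ k, (if j < k then B (y j) (y k) else 0) := by
  intro n
  induction n with
  | zero => intro y; simp [hs0]
  | succ n ih =>
    intro y
    have hBsum : ∀ (x : M) (t : Finset (Fin n)) (g : Fin n → M),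
        B x (∑ j ∈ t, g j) = ∑ j ∈ t, B x (g j) := by
      intro x t g
      exact map_sum (AddMonoidHom.mk' (B x) (hBadd x)) g t
    rw [Fin.sum_univ_succ, hB, ih (fun j => y j.succ), hBsum]
    rw [Fin.sum_univ_succ (fun j => s (y j))]
    rw [Fin.sum_univ_succ (fun j => ∑ k, (if j < k then B (y j) (y k) else 0))]
    simp only [Fin.sum_univ_succ (fun k => (if (0 : Fin (n+1)) < k then B (y 0) (y k) else 0)),
      Fin.succ_pos, if_true, lt_self_iff_false, if_false, zero_add]
    have : ∀ j : Fin n, (∑ k : Fin (n+1), (if j.succ < k then B (y j.succ) (y k) else 0)) =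
        ∑ k : Fin n, (if j < k then B (y j.succ) (y k.succ) else 0) := by
      intro j
      rw [Fin.sum_univ_succ]
      simp [Fin.succ_lt_succ_iff]
    simp only [this]
    abel

variable [Module (ZMod 2) M] [Module (ZMod 2) N]

theorem zmod2_cases (a : ZMod 2) : a = 0 ∨ a = 1 := by
  revert a; decide

/-- **Chevalley–Warning for a quadratic map over `𝔽₂`**: more than `2 dim N` variables force a
nontrivial zero. -/
theorem exists_zero_of_finrank_lt [Finite M] [Finite N] (s : M → N) (hs0 : s 0 = 0)
    (hBadd : ∀ x y z, s (x + (y + z)) - s x - s (y + z) =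
      (s (x + y) - s x - s y) + (s (x + z) - s x - s z))
    (hlt : 2 * Module.finrank (ZMod 2) N < Module.finrank (ZMod 2) M) :
    ∃ x, x ≠ 0 ∧ s x = 0 := by
  classical
  set B : M → M → N := fun x y => s (x + y) - s x - s y with hBdef
  have hB : ∀ x y, s (x + y) = s x + s y + B x y := by
    intro x y; simp only [hBdef]; abel
  have hBadd' : ∀ x y z, B x (y + z) = B x y + B x z := hBadd
  have hB0r : ∀ x, B x 0 = 0 := by
    intro x
    have := hBadd' x 0 0
    rw [add_zero] at this
    exact left_eq_add.mp this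
  have hBsymm : ∀ x y, B x y = B y x := by
    intro x y; simp only [hBdef]; rw [add_comm x y]; abel
  have hB0l : ∀ y, B 0 y = 0 := fun y => by rw [hBsymm, hB0r]
  have hsmul : ∀ (a : ZMod 2) (v : M), s (a • v) = a • s v := by
    intro a v
    rcases zmod2_cases a with rfl | rfl
    · simp [hs0]
    · simp
  have hBsmul : ∀ (a a' : ZMod 2) (u v : M), B (a • u) (a' • v) = (a * a') • B u v := by
    intro a a' u v
    rcases zmod2_cases a with rfl | rfl <;> rcases zmod2_cases a' with rfl | rfl <;>
      simp [hB0l, hB0r]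
  let b := Module.finBasis (ZMod 2) M
  let c := Module.finBasis (ZMod 2) N
  set n := Module.finrank (ZMod 2) M with hn
  set m := Module.finrank (ZMod 2) N with hm
  let f : Fin m → MvPolynomial (Fin n) (ZMod 2) := fun i =>
    ∑ j, C (c.repr (s (b j)) i) * X j +
      ∑ j, ∑ k, (if j < k then C (c.repr (B (b j) (b k)) i) * (X j * X k) else 0)
  have hdeg : ∀ i, (f i).totalDegree ≤ 2 := by
    intro i
    refine (totalDegree_add _ _).trans (max_le ?_ ?_)
    · refine totalDegree_finsetSum_le (fun j _ => ?_)
      refine (totalDegree_mul _ _).trans ?_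
      rw [totalDegree_C, totalDegree_X]
      norm_num
    · refine totalDegree_finsetSum_le (fun j _ => ?_)
      refine totalDegree_finsetSum_le (fun k _ => ?_)
      split_ifs
      · refine (totalDegree_mul _ _).trans ?_
        rw [totalDegree_C, zero_add]
        refine (totalDegree_mul _ _).trans ?_
        rw [totalDegree_X, totalDegree_X]
      · rw [totalDegree_zero]; norm_num
  have heval : ∀ (x : Fin n → ZMod 2) (i : Fin m),
      eval x (f i) = c.repr (s (∑ j, x j • b j)) i := by
    intro x i
    rw [quad_sum s hs0 B hB hBadd' n (fun j => x j • b j)]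
    simp only [f, map_add, map_sum, Finsupp.add_apply, Finsupp.finsetSum_apply]
    congr 1
    · refine Finset.sum_congr rfl (fun j _ => ?_)
      rw [hsmul, map_smul, Finsupp.smul_apply, smul_eq_mul, map_mul, eval_C, eval_X, mul_comm]
    · refine Finset.sum_congr rfl (fun j _ => ?_)
      refine Finset.sum_congr rfl (fun k _ => ?_)
      split_ifs
      · rw [hBsmul, map_smul, Finsupp.smul_apply, smul_eq_mul, map_mul, map_mul, eval_C, eval_X,
          eval_X, mul_comm]
      · simp
  have hsumdeg : ∑ i ∈ (Finset.univ : Finset (Fin m)), (f i).totalDegree <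
      Fintype.card (Fin n) := by
    rw [Fintype.card_fin]
    calc ∑ i ∈ (Finset.univ : Finset (Fin m)), (f i).totalDegree
        ≤ ∑ _i ∈ (Finset.univ : Finset (Fin m)), 2 := Finset.sum_le_sum (fun i _ => hdeg i)
      _ = 2 * m := by rw [Finset.sum_const, Finset.card_univ, Fintype.card_fin, smul_eq_mul, mul_comm]
      _ < n := hlt
  have hCW := char_dvd_card_solutions_of_sum_lt (p := 2) (s := (Finset.univ : Finset (Fin m)))
    (f := f) hsumdeg
  by_contra hno
  push Not at hno
  rw [Fintype.card_eq_nat_card] at hCW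
  have hcard : Nat.card { x : Fin n → ZMod 2 // ∀ i ∈ (Finset.univ : Finset (Fin m)),
      eval x (f i) = 0 } = 1 := by
    rw [Nat.card_eq_one_iff_exists]
    refine ⟨⟨0, ?_⟩, ?_⟩
    · intro i _
      rw [heval]
      simp [hs0]
    · rintro ⟨y, hy⟩
      apply Subtype.ext
      show y = 0
      by_contra hy0
      have hw : (∑ j, y j • b j) ≠ 0 := by
        rw [← b.equivFun_symm_apply]
        intro h0
        apply hy0
        have := b.equivFun.symm.injective (h0.trans (map_zero _).symm)
        exact this
      apply hno _ hw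
      apply c.repr.injective
      rw [map_zero]
      ext i
      rw [← heval]
      exact hy i (Finset.mem_univ i)
  rw [hcard] at hCW
  exact absurd hCW (by norm_num)

end AdditivePart

theorem comm_of_sq {W : Type*} [Group W] (hW : ∀ w : W, w * w = 1) (a b : W) : a * b = b * a := by
  have h1 : ∀ w : W, w⁻¹ = w := fun w => inv_eq_of_mul_eq_one_left (hW w)
  calc a * b = (a * b)⁻¹ := (h1 _).symm
    _ = b⁻¹ * a⁻¹ := mul_inv_rev a b
    _ = b * a := by rw [h1, h1]

/-- multiplicative form of the Chevalley–Warning bound -/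
theorem card_le_sq {W V : Type*} [Group W] [Finite W] [Group V] [Finite V]
    (hW : ∀ w : W, w * w = 1) (hV : ∀ v : V, v * v = 1) (s : W → V)
    (hs : ∀ w, s w = 1 ↔ w = 1)
    (hβ : ∀ x y z, s (x * (y * z)) * s x * s (y * z) =
      (s (x * y) * s x * s y) * (s (x * z) * s x * s z)) :
    Nat.card W ≤ Nat.card V ^ 2 := by
  classical
  letI cW : CommGroup W := { (inferInstance : Group W) with mul_comm := comm_of_sq hW }
  letI cV : CommGroup V := { (inferInstance : Group V) with mul_comm := comm_of_sq hV }
  letI mW : Module (ZMod 2) (Additive W) := AddCommGroup.zmodModule (n := 2) (by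
    intro x
    rw [two_nsmul]
    exact hW x.toMul)
  letI mV : Module (ZMod 2) (Additive V) := AddCommGroup.zmodModule (n := 2) (by
    intro x
    rw [two_nsmul]
    exact hV x.toMul)
  haveI : Finite (Additive W) := ‹Finite W›
  haveI : Finite (Additive V) := ‹Finite V›
  by_contra hlt
  push Not at hlt
  have hcW : Nat.card (Additive W) = 2 ^ Module.finrank (ZMod 2) (Additive W) := by
    rw [Module.natCard_eq_pow_finrank (K := ZMod 2)]
    simp
  have hcV : Nat.card (Additive V) = 2 ^ Module.finrank (ZMod 2) (Additive V) := by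
    rw [Module.natCard_eq_pow_finrank (K := ZMod 2)]
    simp
  have hlt' : 2 * Module.finrank (ZMod 2) (Additive V) < Module.finrank (ZMod 2) (Additive W) := by
    have h1 : Nat.card V ^ 2 < Nat.card W := hlt
    change Nat.card (Additive V) ^ 2 < Nat.card (Additive W) at h1
    rw [hcW, hcV, ← pow_mul] at h1
    have := (Nat.pow_lt_pow_iff_right (by norm_num : 1 < 2)).mp h1
    omega
  have hneg : ∀ v : Additive V, -v = v := by
    intro v
    exact neg_eq_of_add_eq_zero_left (hV v.toMul)
  obtain ⟨x, hx0, hx⟩ := exists_zero_of_finrank_lt (M := Additive W) (N := Additive V)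
    (fun x => Additive.ofMul (s x.toMul)) ((hs 1).mpr rfl) (by
      intro x y z
      simp only [sub_eq_add_neg, hneg]
      exact hβ x.toMul y.toMul z.toMul) hlt'
  exact hx0 ((hs x.toMul).mp hx)

section Count

variable {W : Type*} [Fintype W] [DecidableEq W]

/-- orbit counting on an invariant subset for a permutation of prime order -/
theorem card_filter_modEq (g : Equiv.Perm W) {r : ℕ} [Fact r.Prime] (hgr : g ^ r = 1)
    (P : W → Prop) [DecidablePred P] (hP : ∀ w, P w → P (g w)) :
    (Finset.univ.filter P).card ≡ (Finset.univ.filter (fun w => P w ∧ g w = w)).card [MOD r] := by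
  classical
  let f : Function.End {w // P w} := fun w => ⟨g w.1, hP w.1 w.2⟩
  have hpow : ∀ (k : ℕ) (w : {w // P w}), ((f ^ k) w).1 = (g ^ k) w.1 := by
    intro k
    induction k with
    | zero => intro w; rfl
    | succ k ih =>
      intro w
      rw [pow_succ', pow_succ']
      exact congrArg g (ih w)
  have hf : f ^ r ^ 1 = 1 := by
    rw [pow_one]
    funext w
    apply Subtype.ext
    rw [hpow, hgr]
    rfl
  have h1 := Equiv.Perm.card_fixedPoints_modEq (p := r) (n := 1) hf
  rw [Fintype.card_subtype] at h1
  have h2 : Fintype.card (Function.fixedPoints f) =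
      (Finset.univ.filter (fun w => P w ∧ g w = w)).card := by
    rw [← Fintype.card_subtype]
    refine Fintype.card_congr ⟨fun w => ⟨w.1.1, w.1.2, congrArg Subtype.val w.2⟩,
      fun w => ⟨⟨w.1, w.2.1⟩, Subtype.ext w.2.2⟩, fun w => rfl, fun w => rfl⟩
  rw [h2] at h1
  exact h1

end Count

theorem exists_notMem_of_card_lt {U : Type*} [Finite U] (S : Finset U) (h : S.card < Nat.card U) :
    ∃ u, u ∉ S := by
  classical
  by_contra hno
  push Not at hno
  have := Fintype.ofFinite U
  have : S = Finset.univ := Finset.eq_univ_iff_forall.mpr hno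
  rw [this, Nat.card_eq_fintype_card, Finset.card_univ] at h
  exact lt_irrefl _ h

/-- a quadratic map on an elementary abelian `2`-group whose nonzero values lie in a set `T` closed
under triple products and containing no product of two of its elements has a domain of order at
most `4`. -/
theorem card_le_four_of_values {U A : Type*} [Group U] [Finite U] [Group A]
    (hU : ∀ u : U, u * u = 1) (t : U → A)
    (hβ : ∀ x y z, t (x * (y * z)) * t x * t (y * z) =
      (t (x * y) * t x * t y) * (t (x * z) * t x * t z))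
    (T : Set A) (hT3 : ∀ a ∈ T, ∀ b ∈ T, ∀ c ∈ T, a * b * c ∈ T)
    (hT2 : ∀ a ∈ T, ∀ b ∈ T, a * b ∉ T)
    (ht : ∀ u, u ≠ 1 → t u ∈ T) : Nat.card U ≤ 4 := by
  classical
  by_contra hlt
  push Not at hlt
  have hinv : ∀ u : U, u⁻¹ = u := fun u => inv_eq_of_mul_eq_one_left (hU u)
  have hne : ∀ a b : U, a ≠ b → a * b ≠ 1 := by
    intro a b hab h
    apply hab
    rw [← hinv b]
    exact eq_inv_of_mul_eq_one_left h
  obtain ⟨x, hx⟩ := exists_notMem_of_card_lt ({1} : Finset U) (by simp; omega)
  obtain ⟨y, hy⟩ := exists_notMem_of_card_lt ({1, x} : Finset U)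
    (lt_of_le_of_lt (Finset.card_le_two) (by omega))
  obtain ⟨w, hw⟩ := exists_notMem_of_card_lt ({1, x, y, x * y} : Finset U)
    (lt_of_le_of_lt (Finset.card_le_four) hlt)
  simp only [Finset.mem_insert, Finset.mem_singleton, not_or] at hx hy hw
  obtain ⟨hy1, hyx⟩ := hy
  obtain ⟨hw1, hwx, hwy, hwxy⟩ := hw
  have hB : ∀ a b : U, a ≠ 1 → b ≠ 1 → a ≠ b → t (a * b) * t a * t b ∈ T := by
    intro a b ha hb hab
    exact hT3 _ (ht _ (hne a b hab)) _ (ht a ha) _ (ht b hb)
  have h1 := hB x y hx hy1 (Ne.symm hyx)
  have h2 := hB x w hx hw1 (Ne.symm hwx)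
  have h3 := hB x (y * w) hx (hne y w (Ne.symm hwy)) (by
    intro h
    apply hwxy
    rw [h, comm_of_sq hU y w, mul_assoc, hU, mul_one])
  rw [hβ] at h3
  exact hT2 _ h1 _ h2 h3

/-- a quadratic map without nontrivial zeros between groups of exponent two -/
structure QData (W V : Type*) [Group W] [Group V] where
  s : W → V
  hW : ∀ w : W, w * w = 1
  hV : ∀ v : V, v * v = 1
  hs : ∀ w, s w = 1 ↔ w = 1
  hβ : ∀ x y z, s (x * (y * z)) * s x * s (y * z) =
    (s (x * y) * s x * s y) * (s (x * z) * s x * s z)

variable {W V : Type*} [Group W] [Group V]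

/-- the fixed points of an automorphism -/
def fixS (g : MulAut W) : Subgroup W where
  carrier := {x | g x = x}
  mul_mem' := by
    intro x y hx hy
    show g (x * y) = x * y
    rw [map_mul, hx, hy]
  one_mem' := map_one g
  inv_mem' := by
    intro x hx
    show g x⁻¹ = x⁻¹
    rw [map_inv, hx]

theorem mem_fixS (g : MulAut W) (x : W) : x ∈ fixS g ↔ g x = x := Iff.rfl

theorem pow_apply_eq (g : MulAut W) (k : ℕ) (w : W) :
    ((MulAut.toPerm W g) ^ k) w = (g ^ k) w := by
  rw [← map_pow]
  rfl

theorem card_modEq_fixS [Finite W] (g : MulAut W) {r : ℕ} [Fact r.Prime] (hgr : g ^ r = 1) :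
    Nat.card W ≡ Nat.card (fixS g) [MOD r] := by
  classical
  have := Fintype.ofFinite W
  have h := card_filter_modEq (MulAut.toPerm W g) (r := r) (by rw [← map_pow, hgr, map_one])
    (fun _ => True) (fun _ _ => trivial)
  have h1 : (Finset.univ.filter (fun _ : W => True)).card = Nat.card W := by
    rw [Finset.filter_true_of_mem (fun _ _ => trivial), Finset.card_univ, Nat.card_eq_fintype_card]
  have h2 : (Finset.univ.filter (fun w : W => True ∧ (MulAut.toPerm W g) w = w)).card =
      Nat.card (fixS g) := by
    rw [Nat.card_eq_fintype_card, ← Fintype.card_subtype]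
    refine Fintype.card_congr ⟨fun w => ⟨w.1, w.2.2⟩, fun w => ⟨w.1, trivial, w.2⟩,
      fun w => rfl, fun w => rfl⟩
  rw [h1, h2] at h
  exact h

theorem card_pow_two [Finite W] (hW : ∀ w : W, w * w = 1) : ∃ n, Nat.card W = 2 ^ n := by
  have : IsPGroup 2 W := by
    intro w
    exact ⟨1, by rw [pow_one, pow_two, hW]⟩
  exact this.exists_card_eq

/-- the possible odd prime orders of an automorphism of an elementary abelian group of order at most
`16`, with the size of the fixed subgroup -/
theorem prime_cases [Finite W] (hW : ∀ w : W, w * w = 1) (hc : Nat.card W ≤ 16) (g : MulAut W)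
    (r : ℕ) (hr : r.Prime) (hr2 : r ≠ 2) (hgr : g ^ r = 1) (hg1 : g ≠ 1) :
    r = 3 ∨ (r = 5 ∧ Nat.card W = 16 ∧ Nat.card (fixS g) = 1) ∨
      (r = 7 ∧ Nat.card W = 8 * Nat.card (fixS g)) := by
  have : Fact r.Prime := ⟨hr⟩
  obtain ⟨n, hn⟩ := card_pow_two hW
  have hdvd : Nat.card (fixS g) ∣ Nat.card W := Subgroup.card_subgroup_dvd_card _
  rw [hn] at hdvd
  obtain ⟨k, hkn, hk⟩ := (Nat.dvd_prime_pow Nat.prime_two).mp hdvd
  have hmod := card_modEq_fixS g hgr
  rw [hn, hk] at hmod
  have hkn' : k < n := by
    rcases lt_or_eq_of_le hkn with h | h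
    · exact h
    · exfalso
      apply hg1
      have htop : fixS g = ⊤ := by
        apply Subgroup.eq_top_of_card_eq
        rw [hk, hn, h]
      ext w
      have : w ∈ fixS g := by rw [htop]; exact Subgroup.mem_top w
      exact this
  have hn4 : n ≤ 4 := by
    rw [hn] at hc
    by_contra h
    push Not at h
    have : 2 ^ 5 ≤ 2 ^ n := Nat.pow_le_pow_right (by norm_num) h
    omega
  have hdvd2 : r ∣ 2 ^ n - 2 ^ k :=
    (Nat.modEq_iff_dvd' (Nat.pow_le_pow_right (by norm_num) hkn)).mp hmod.symm
  rw [hn, hk]
  obtain ⟨d, rfl⟩ : ∃ d, n = k + d := ⟨n - k, by omega⟩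
  have hd1 : 1 ≤ d := by omega
  have hd4 : d ≤ 4 := by omega
  have hfac : 2 ^ (k + d) - 2 ^ k = 2 ^ k * (2 ^ d - 1) := by
    rw [pow_add, Nat.mul_sub, mul_one]
  rw [hfac] at hdvd2
  have hcop : Nat.Coprime r (2 ^ k) := by
    apply Nat.Coprime.pow_right
    rw [Nat.coprime_primes hr Nat.prime_two]
    exact hr2
  have hdvd3 : r ∣ 2 ^ d - 1 := hcop.dvd_of_dvd_mul_left hdvd2
  interval_cases d
  · exfalso
    norm_num at hdvd3
    exact hr.one_lt.ne' hdvd3
  · left
    exact (Nat.prime_dvd_prime_iff_eq hr Nat.prime_three).mp (by norm_num at hdvd3 ⊢; exact hdvd3)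
  · right; right
    have h7 : r = 7 :=
      (Nat.prime_dvd_prime_iff_eq hr (by norm_num : Nat.Prime 7)).mp (by norm_num at hdvd3 ⊢; exact hdvd3)
    refine ⟨h7, ?_⟩
    rw [pow_add]
    ring
  · have h15 : r ∣ 15 := by norm_num at hdvd3 ⊢; exact hdvd3
    have hr15 : r ≤ 15 := Nat.le_of_dvd (by norm_num) h15
    have hk0 : k = 0 := by omega
    subst hk0
    interval_cases r <;> first | (exfalso; revert hr; decide) | (exfalso; revert h15; decide) | skip
    · left; rfl
    · right; left
      exact ⟨rfl, by norm_num, by norm_num⟩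


/-- no automorphism of order `7` preserves the quadratic map -/
theorem no_order_seven (q : QData W V) [Finite W] (g : MulAut W)
    (hg : ∀ w, q.s (g w) = q.s w) (hg7 : g ^ 7 = 1)
    (hcard : Nat.card W = 8 * Nat.card (fixS g)) : False := by
  classical
  have := Fintype.ofFinite W
  have : Fact (Nat.Prime 7) := ⟨by norm_num⟩
  have hcomm := comm_of_sq q.hW
  have hinv : ∀ w : W, w⁻¹ = w := fun w => inv_eq_of_mul_eq_one_left (q.hW w)
  let φ : W →* W := MonoidHom.mk' (fun w => w * g w) (by
    intro a b
    rw [map_mul]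
    calc a * b * (g a * g b) = a * (b * g a) * g b := by group
      _ = a * (g a * b) * g b := by rw [hcomm b (g a)]
      _ = a * g a * (b * g b) := by group)
  have hφ : ∀ w, φ w = w * g w := fun w => rfl
  have hker : φ.ker = fixS g := by
    ext w
    rw [MonoidHom.mem_ker, hφ, mem_fixS]
    constructor
    · intro h
      have h' := eq_inv_of_mul_eq_one_right h
      rw [hinv] at h'
      exact h'
    · intro h
      rw [h, q.hW]
  have hUcard : Nat.card φ.range = 8 := by
    have h1 := Subgroup.card_mul_index φ.ker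
    rw [Subgroup.index_ker, hker, hcard] at h1
    have hpos : 0 < Nat.card (fixS g) := Nat.card_pos
    have : Nat.card (fixS g) * Nat.card φ.range = Nat.card (fixS g) * 8 := by rw [h1, mul_comm]
    exact Nat.eq_of_mul_eq_mul_left hpos this
  have hUg : ∀ u ∈ φ.range, g u ∈ φ.range := by
    rintro _ ⟨w, rfl⟩
    exact ⟨g w, by rw [hφ, hφ, map_mul]⟩
  have hg8 : g ^ 8 = g := by rw [pow_succ, hg7, one_mul]
  have hfix : ∀ u ∈ φ.range, g u = u → u = 1 := by
    rintro _ ⟨w, rfl⟩ h
    rw [hφ] at h ⊢
    rw [map_mul, hcomm w (g w)] at h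
    have h2 : g (g w) = w := mul_left_cancel h
    have h2' : (g ^ 2) w = w := by rw [pow_two]; exact h2
    have h8 : (g ^ 8) w = w := by
      have : g ^ 8 = (g ^ 2) ^ 4 := by rw [← pow_mul]
      rw [this]
      have h4 : ∀ k : ℕ, ((g ^ 2) ^ k) w = w := by
        intro k
        induction k with
        | zero => rfl
        | succ k ih => rw [pow_succ, MulAut.mul_apply, h2', ih]
      exact h4 4
    rw [hg8] at h8
    rw [h8, q.hW]
  -- pick a nonidentity element of the range
  have hUne : ∃ u ∈ φ.range, u ≠ 1 := by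
    by_contra hno
    push Not at hno
    have : φ.range = ⊥ := by
      rw [eq_bot_iff]
      intro u hu
      rw [Subgroup.mem_bot]
      exact hno u hu
    rw [this, Subgroup.card_bot] at hUcard
    norm_num at hUcard
  obtain ⟨u0, hu0U, hu01⟩ := hUne
  have hconst : ∀ u ∈ φ.range, u ≠ 1 → q.s u = q.s u0 := by
    have hmod := card_filter_modEq (MulAut.toPerm W g) (r := 7)
      (by rw [← map_pow, hg7, map_one])
      (fun u => u ∈ φ.range ∧ u ≠ 1 ∧ q.s u ≠ q.s u0) (by
        rintro u ⟨h1, h2, h3⟩
        refine ⟨hUg u h1, ?_, ?_⟩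
        · intro h
          apply h2
          have : g u = g 1 := by rw [map_one]; exact h
          exact g.injective this
        · show q.s (g u) ≠ q.s u0
          rw [hg]
          exact h3)
    have hfixempty : (Finset.univ.filter (fun u : W => (u ∈ φ.range ∧ u ≠ 1 ∧ q.s u ≠ q.s u0) ∧
        (MulAut.toPerm W g) u = u)) = ∅ := by
      rw [Finset.filter_eq_empty_iff]
      rintro u _ ⟨⟨h1, h2, _⟩, h4⟩
      exact h2 (hfix u h1 h4)
    rw [hfixempty, Finset.card_empty] at hmod
    have hsub : (Finset.univ.filter (fun u : W => u ∈ φ.range ∧ u ≠ 1 ∧ q.s u ≠ q.s u0)) ⊆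
        ((Finset.univ.filter (fun u : W => u ∈ φ.range)).erase 1).erase u0 := by
      intro u hu
      rw [Finset.mem_filter] at hu
      obtain ⟨_, h1, h2, h3⟩ := hu
      rw [Finset.mem_erase, Finset.mem_erase, Finset.mem_filter]
      refine ⟨?_, h2, Finset.mem_univ _, h1⟩
      rintro rfl
      exact h3 rfl
    have hcardU : (Finset.univ.filter (fun u : W => u ∈ φ.range)).card = 8 := by
      rw [← hUcard, Nat.card_eq_fintype_card, Fintype.card_subtype]
    have hle := Finset.card_le_card hsub
    rw [Finset.card_erase_of_mem, Finset.card_erase_of_mem, hcardU] at hle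
    · have h0 : (Finset.univ.filter (fun u : W => u ∈ φ.range ∧ u ≠ 1 ∧ q.s u ≠ q.s u0)).card = 0 := by
        have h7 := (Nat.modEq_zero_iff_dvd.mp hmod)
        rcases h7 with ⟨k, hk⟩
        omega
      intro u hu hu1
      by_contra hne
      have : u ∈ (Finset.univ.filter (fun u : W => u ∈ φ.range ∧ u ≠ 1 ∧ q.s u ≠ q.s u0)) := by
        rw [Finset.mem_filter]
        exact ⟨Finset.mem_univ _, hu, hu1, hne⟩
      rw [Finset.card_eq_zero] at h0
      rw [h0] at this
      exact absurd this (Finset.notMem_empty _)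
    · rw [Finset.mem_filter]; exact ⟨Finset.mem_univ _, Subgroup.one_mem _⟩
    · rw [Finset.mem_erase, Finset.mem_filter]; exact ⟨hu01, Finset.mem_univ _, hu0U⟩
  -- apply the size bound to the range
  have hle4 := card_le_four_of_values (U := ↥φ.range) (A := V)
    (fun u => Subtype.ext (q.hW u.1)) (fun u => q.s u.1)
    (fun x y z => q.hβ x.1 y.1 z.1) {q.s u0}
    (by
      intro a ha b hb c hc
      rw [Set.mem_singleton_iff] at ha hb hc ⊢
      rw [ha, hb, hc, q.hV, one_mul])
    (by
      intro a ha b hb
      rw [Set.mem_singleton_iff] at ha hb ⊢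
      rw [ha, hb, q.hV]
      intro h
      exact hu01 ((q.hs u0).mp h.symm))
    (by
      intro u hu
      rw [Set.mem_singleton_iff]
      exact hconst u.1 u.2 (fun h => hu (Subtype.ext h)))
  rw [hUcard] at hle4
  omega


theorem card_filter_eq_sum [Fintype W] [DecidableEq W] [Fintype V] [DecidableEq V]
    (P : W → Prop) [DecidablePred P] (s : W → V) :
    (Finset.univ.filter P).card = ∑ v, (Finset.univ.filter (fun w => P w ∧ s w = v)).card := by
  rw [Finset.card_eq_sum_card_fiberwise (f := s) (s := Finset.univ.filter P) (t := Finset.univ)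
    (fun _ _ => Finset.mem_univ _)]
  refine Finset.sum_congr rfl (fun v _ => ?_)
  rw [Finset.filter_filter]

theorem mem_zpowers_of_sq {v : V} (hv : v * v = 1) {a : V} (ha : a ∈ Subgroup.zpowers v) :
    a = 1 ∨ a = v := by
  obtain ⟨k, rfl⟩ := Subgroup.mem_zpowers_iff.mp ha
  rcases Int.even_or_odd' k with ⟨m, hm | hm⟩
  · left
    rw [hm, zpow_mul, zpow_two, hv, one_zpow]
  · right
    rw [hm, zpow_add, zpow_mul, zpow_two, hv, one_zpow, one_mul, zpow_one]

/-- every nonidentity value is attained when the domain has more than four elements -/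
theorem exists_value (q : QData W V) [Finite W] [Finite V] (hV4 : Nat.card V = 4)
    (hW : 4 < Nat.card W) (v : V) (hv : v ≠ 1) : ∃ w, q.s w = v := by
  by_contra hno
  push Not at hno
  have hord : orderOf v = 2 := orderOf_eq_prime (by rw [pow_two]; exact q.hV v) hv
  have hidx : (Subgroup.zpowers v).index = 2 := by
    have h1 := Subgroup.card_mul_index (Subgroup.zpowers v)
    rw [Nat.card_zpowers, hord, hV4] at h1
    omega
  have hle := card_le_four_of_values (U := W) (A := V) q.hW q.s q.hβ
    {a | a ∉ Subgroup.zpowers v}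
    (by
      intro a ha b hb c hc
      rw [Set.mem_ofPred_eq] at ha hb hc ⊢
      have hab : a * b ∈ Subgroup.zpowers v :=
        (Subgroup.mul_mem_iff_of_index_two hidx).mpr ⟨fun h => absurd h ha, fun h => absurd h hb⟩
      intro h
      exact hc (((Subgroup.mul_mem_iff_of_index_two hidx).mp h).mp hab))
    (by
      intro a ha b hb
      rw [Set.mem_ofPred_eq] at ha hb ⊢
      rw [not_not]
      exact (Subgroup.mul_mem_iff_of_index_two hidx).mpr ⟨fun h => absurd h ha, fun h => absurd h hb⟩)
    (by
      intro w hw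
      rw [Set.mem_ofPred_eq]
      intro h
      rcases mem_zpowers_of_sq (q.hV v) h with h1 | h1
      · exact hw ((q.hs w).mp h1)
      · exact hno w h1)
  omega


/-- an automorphism of order `5` forces all three nonidentity fibres to have five elements -/
theorem fibre_card_five (q : QData W V) [Fintype W] [DecidableEq W] [Fintype V] [DecidableEq V]
    (hV4 : Nat.card V = 4)
    (g : MulAut W) (hg : ∀ w, q.s (g w) = q.s w) (hg5 : g ^ 5 = 1) (hW16 : Nat.card W = 16)
    (hF : Nat.card (fixS g) = 1) (v : V) (hv : v ≠ 1) :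
    (Finset.univ.filter (fun w => q.s w = v)).card = 5 := by
  have : Fact (Nat.Prime 5) := ⟨by norm_num⟩
  have hFbot : ∀ w, g w = w → w = 1 := by
    intro w hw
    have h1 : fixS g = ⊥ := Subgroup.card_eq_one.mp hF
    have h2 : w ∈ fixS g := hw
    rw [h1, Subgroup.mem_bot] at h2
    exact h2
  -- divisibility by five
  have hdvd : ∀ v : V, v ≠ 1 → 5 ∣ (Finset.univ.filter (fun w => q.s w = v)).card := by
    intro v hv
    have hmod := card_filter_modEq (MulAut.toPerm W g) (r := 5)
      (by rw [← map_pow, hg5, map_one]) (fun w => q.s w = v) (by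
        intro w hw
        show q.s (g w) = v
        rw [hg]; exact hw)
    have hempty : (Finset.univ.filter (fun w : W => q.s w = v ∧ (MulAut.toPerm W g) w = w)) = ∅ := by
      rw [Finset.filter_eq_empty_iff]
      rintro w _ ⟨h1, h2⟩
      have hw1 := hFbot w h2
      rw [hw1, (q.hs 1).mpr rfl] at h1
      exact hv h1.symm
    rw [hempty, Finset.card_empty] at hmod
    exact Nat.modEq_zero_iff_dvd.mp hmod
  have hge : ∀ v : V, v ≠ 1 → 5 ≤ (Finset.univ.filter (fun w => q.s w = v)).card := by
    intro v hv
    obtain ⟨w, hw⟩ := exists_value q hV4 (by omega) v hv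
    have hpos : 0 < (Finset.univ.filter (fun w => q.s w = v)).card :=
      Finset.card_pos.mpr ⟨w, by rw [Finset.mem_filter]; exact ⟨Finset.mem_univ _, hw⟩⟩
    exact Nat.le_of_dvd hpos (hdvd v hv)
  -- total count
  have hsum := card_filter_eq_sum (fun _ : W => True) q.s
  simp only [true_and] at hsum
  rw [Finset.filter_true_of_mem (fun _ _ => trivial), Finset.card_univ,
    ← Nat.card_eq_fintype_card, hW16] at hsum
  have hone : (Finset.univ.filter (fun w => q.s w = 1)).card = 1 := by
    rw [Finset.card_eq_one]
    refine ⟨1, ?_⟩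
    ext w
    rw [Finset.mem_filter, Finset.mem_singleton]
    exact ⟨fun h => (q.hs w).mp h.2, fun h => ⟨Finset.mem_univ _, (q.hs w).mpr h⟩⟩
  rw [← Finset.add_sum_erase Finset.univ _ (Finset.mem_univ (1 : V)), hone] at hsum
  have hv' : v ∈ (Finset.univ : Finset V).erase 1 := Finset.mem_erase.mpr ⟨hv, Finset.mem_univ _⟩
  rw [← Finset.add_sum_erase _ _ hv'] at hsum
  have hcardE : (((Finset.univ : Finset V).erase 1).erase v).card = 2 := by
    rw [Finset.card_erase_of_mem hv', Finset.card_erase_of_mem (Finset.mem_univ _),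
      Finset.card_univ, ← Nat.card_eq_fintype_card, hV4]
  have hrest : 5 * 2 ≤ ∑ x ∈ ((Finset.univ : Finset V).erase 1).erase v,
      (Finset.univ.filter (fun w => q.s w = x)).card := by
    rw [← hcardE, mul_comm, ← smul_eq_mul, ← Finset.sum_const]
    refine Finset.sum_le_sum (fun x hx => hge x ?_)
    exact (Finset.mem_erase.mp (Finset.mem_erase.mp hx).2).1
  have h5 := hge v hv
  omega


/-- if all nonidentity fibres have five elements, no automorphism of order `3` preserves the map -/
theorem no_three_of_fibres (q : QData W V) [Fintype W] [DecidableEq W] [Fintype V] [DecidableEq V]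
    (hV4 : Nat.card V = 4) (hW16 : Nat.card W = 16)
    (hfib : ∀ v : V, v ≠ 1 → (Finset.univ.filter (fun w => q.s w = v)).card = 5)
    (h : MulAut W) (hh : ∀ w, q.s (h w) = q.s w) (hh3 : h ^ 3 = 1) : h = 1 := by
  have : Fact (Nat.Prime 3) := ⟨by norm_num⟩
  -- at least two fixed points in each fibre
  have hge : ∀ v : V, v ≠ 1 →
      2 ≤ (Finset.univ.filter (fun w => h w = w ∧ q.s w = v)).card := by
    intro v hv
    have hmod := card_filter_modEq (MulAut.toPerm W h) (r := 3)
      (by rw [← map_pow, hh3, map_one]) (fun w => q.s w = v) (by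
        intro w hw
        show q.s (h w) = v
        rw [hh]; exact hw)
    rw [hfib v hv] at hmod
    have heq : (Finset.univ.filter (fun w : W => q.s w = v ∧ (MulAut.toPerm W h) w = w)) =
        (Finset.univ.filter (fun w => h w = w ∧ q.s w = v)) := by
      ext w
      simp only [Finset.mem_filter, Finset.mem_univ, true_and]
      exact ⟨fun ⟨a, b⟩ => ⟨b, a⟩, fun ⟨a, b⟩ => ⟨b, a⟩⟩
    rw [heq] at hmod
    have := hmod
    unfold Nat.ModEq at this
    omega
  have hsum := card_filter_eq_sum (fun w : W => h w = w) q.s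
  have hone : (Finset.univ.filter (fun w => h w = w ∧ q.s w = 1)).card = 1 := by
    rw [Finset.card_eq_one]
    refine ⟨1, ?_⟩
    ext w
    rw [Finset.mem_filter, Finset.mem_singleton]
    exact ⟨fun hw => (q.hs w).mp hw.2.2, fun hw => ⟨Finset.mem_univ _, by rw [hw, map_one],
      (q.hs w).mpr hw⟩⟩
  rw [← Finset.add_sum_erase Finset.univ _ (Finset.mem_univ (1 : V)), hone] at hsum
  have hcardE : ((Finset.univ : Finset V).erase 1).card = 3 := by
    rw [Finset.card_erase_of_mem (Finset.mem_univ _), Finset.card_univ,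
      ← Nat.card_eq_fintype_card, hV4]
  have hrest : 2 * 3 ≤ ∑ x ∈ (Finset.univ : Finset V).erase 1,
      (Finset.univ.filter (fun w => h w = w ∧ q.s w = x)).card := by
    rw [← hcardE, mul_comm, ← smul_eq_mul, ← Finset.sum_const]
    exact Finset.sum_le_sum (fun x hx => hge x (Finset.mem_erase.mp hx).1)
  have hFcard : Nat.card (fixS h) = (Finset.univ.filter (fun w : W => h w = w)).card := by
    have : DecidablePred (· ∈ fixS h) := fun w => inferInstanceAs (Decidable (h w = w))
    rw [Nat.card_eq_fintype_card, ← Fintype.card_subtype]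
    exact Fintype.card_congr ⟨fun w => ⟨w.1, w.2⟩, fun w => ⟨w.1, w.2⟩, fun _ => rfl, fun _ => rfl⟩
  have h7 : 7 ≤ Nat.card (fixS h) := by rw [hFcard]; omega
  have hmod := card_modEq_fixS h hh3
  rw [hW16] at hmod
  have hdvd : Nat.card (fixS h) ∣ 16 := by
    rw [← hW16]; exact Subgroup.card_subgroup_dvd_card _
  have h16 : Nat.card (fixS h) = 16 := by
    have hle : Nat.card (fixS h) ≤ 16 := Nat.le_of_dvd (by norm_num) hdvd
    unfold Nat.ModEq at hmod
    generalize Nat.card (fixS h) = n at *
    interval_cases n <;> omega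
  have htop : fixS h = ⊤ := by
    apply Subgroup.eq_top_of_card_eq
    rw [h16, hW16]
  ext w
  have : w ∈ fixS h := by rw [htop]; exact Subgroup.mem_top w
  exact this


theorem prime_le_of_dvd_card_subgroup [Finite W] (H : Subgroup (MulAut W)) (r : ℕ) (hr : r.Prime)
    (hdvd : r ∣ Nat.card H) : r ≤ Nat.card W := by
  have h1 : Nat.card H ∣ Nat.card (Equiv.Perm W) :=
    Subgroup.card_dvd_of_injective ((MulAut.toPerm W).comp H.subtype) (by
      intro a b hab
      apply Subtype.ext
      apply MulEquiv.ext
      intro w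
      exact congrArg (fun e : Equiv.Perm W => e w) hab)
  rw [Nat.card_perm] at h1
  exact (Nat.Prime.dvd_factorial hr).mp (hdvd.trans h1)

/-- **Solvability of the isometry group** of a quadratic map without nontrivial zeros from an
elementary abelian `2`-group to one of order at most four. -/
theorem isSolvable_of_preserving (q : QData W V) [Finite W] [Finite V] (hV4 : Nat.card V ≤ 4)
    (H : Subgroup (MulAut W)) (hH : ∀ h ∈ H, ∀ w, q.s (h w) = q.s w) : Group.IsSolvable H := by
  classical
  have := Fintype.ofFinite W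
  have := Fintype.ofFinite V
  have : Finite (MulAut W) := Finite.of_injective (fun e : MulAut W => (e : W → W))
    (fun a b h => MulEquiv.ext (fun w => congrFun h w))
  by_cases hW4 : Nat.card W ≤ 4
  · refine Cfsg.Agent.Lib.Helper3_CharBurnside.isSolvable_of_two_primes 2 3 Nat.prime_two
      Nat.prime_three _ H rfl ?_
    intro r hr hdvd
    have hle := (prime_le_of_dvd_card_subgroup H r hr hdvd).trans hW4
    have h2 := hr.two_le
    interval_cases r
    · left; rfl
    · right; rfl
    · exfalso; revert hr; decide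
  · push Not at hW4
    have hle := card_le_sq q.hW q.hV q.s q.hs q.hβ
    obtain ⟨m, hm⟩ := card_pow_two q.hV
    have hV4' : Nat.card V = 4 := by
      rw [hm] at hV4 hle ⊢
      have hm2 : m ≤ 2 := by
        by_contra h
        push Not at h
        have : 2 ^ 3 ≤ 2 ^ m := Nat.pow_le_pow_right (by norm_num) h
        omega
      interval_cases m <;> omega
    have hW16 : Nat.card W ≤ 16 := by rw [hV4'] at hle; exact hle
    -- analysis of odd primes
    have key : ∀ r : ℕ, r.Prime → r ∣ Nat.card H → r ≠ 2 →
        r = 3 ∨ (r = 5 ∧ ∃ g ∈ H, g ^ 5 = 1 ∧ Nat.card W = 16 ∧ Nat.card (fixS g) = 1) := by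
      intro r hr hdvd hr2
      have : Fact r.Prime := ⟨hr⟩
      obtain ⟨x, hx⟩ := exists_prime_orderOf_dvd_card' r hdvd
      have hxr : (x : MulAut W) ^ r = 1 := by
        rw [← hx, ← Subgroup.coe_pow, pow_orderOf_eq_one]
        rfl
      have hx1 : (x : MulAut W) ≠ 1 := by
        intro h
        have : x = 1 := Subtype.ext h
        rw [this, orderOf_one] at hx
        exact hr.one_lt.ne hx
      rcases prime_cases q.hW hW16 (x : MulAut W) r hr hr2 hxr hx1 with h3 | ⟨h5, hc, hf⟩ | ⟨h7, hc⟩
      · left; exact h3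
      · right
        subst h5
        exact ⟨rfl, x, x.2, hxr, hc, hf⟩
      · exfalso
        subst h7
        exact no_order_seven q (x : MulAut W) (hH x x.2) hxr hc
    by_cases h5 : 5 ∣ Nat.card H
    · rcases key 5 (by norm_num) h5 (by norm_num) with h | ⟨_, g, hgH, hg5, hc, hf⟩
      · norm_num at h
      · have hfib := fibre_card_five q hV4' g (hH g hgH) hg5 hc hf
        refine Cfsg.Agent.Lib.Helper3_CharBurnside.isSolvable_of_two_primes 2 5 Nat.prime_two
          (by norm_num) _ H rfl ?_
        intro r hr hdvd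
        by_cases hr2 : r = 2
        · left; exact hr2
        · right
          rcases key r hr hdvd hr2 with h3 | ⟨h5', _⟩
          · exfalso
            subst h3
            have : Fact (Nat.Prime 3) := ⟨hr⟩
            obtain ⟨x, hx⟩ := exists_prime_orderOf_dvd_card' 3 hdvd
            have hx3 : (x : MulAut W) ^ 3 = 1 := by
              rw [← hx, ← Subgroup.coe_pow, pow_orderOf_eq_one]
              rfl
            have h1 := no_three_of_fibres q hV4' hc hfib (x : MulAut W) (hH x x.2) hx3
            have : x = 1 := Subtype.ext h1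
            rw [this, orderOf_one] at hx
            norm_num at hx
          · exact h5'
    · refine Cfsg.Agent.Lib.Helper3_CharBurnside.isSolvable_of_two_primes 2 3 Nat.prime_two
        Nat.prime_three _ H rfl ?_
      intro r hr hdvd
      by_cases hr2 : r = 2
      · left; exact hr2
      · right
        rcases key r hr hdvd hr2 with h3 | ⟨h5', _⟩
        · exact h3
        · exfalso
          subst h5'
          exact h5 hdvd

end Cfsg.Agent.Lib.Helper60_QuadTwo
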