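import Cfsg.Agent.Lib.Helper15_ROMainD
import Cfsg.Agent.Lib.Helper75_ROSupp

/-!
# S4581-P7 (helper15): transfer between `G` and `↥(⊤ : Subgroup G)` (helper60)

The real odd-degree irreducible characters of `G` (or of a subgroup `N`, as a group of its own)
are counted by `RO ⊤ ⊥` (or `RO N ⊥`), and the "all odd-degree characters are real" condition on
`G` is `AllReal ⊤ ⊥`.
-/

set_option autoImplicit false
set_option linter.unusedSectionVars false
set_option linter.unusedVariables false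

namespace Cfsg.Agent.Lib.Helper60_ROTop

open Cfsg
open Cfsg.Agent.Lib.Helper15_ROBasic Cfsg.Agent.Lib.Helper15_ROMainD
  Cfsg.Agent.Lib.Helper75_ROSupp

universe u

variable {G : Type u} [Group G] [Finite G]

theorem card_sub (N : Subgroup G) :
    Nat.card {ψ : IrrCharacter ↥N // (∀ g, ((ψ : ↥N → ℂ) g).im = 0) ∧
      Odd (charDegree (ψ : ↥N → ℂ))} = Nat.card (RO N ⊥) := by
  symm
  refine card_RO_eq_of_surj (A := N) (L := ⊥) (MonoidHom.id ↥N) Function.surjective_id ?_
  intro a
  rw [MonoidHom.id_apply, Subgroup.mem_bot]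
  exact ⟨fun h => by rw [h]; rfl, fun h => Subtype.ext h⟩

theorem card_top :
    Nat.card {χ : IrrCharacter G // (∀ g : G, ((χ : G → ℂ) g).im = 0) ∧
      Odd (charDegree (χ : G → ℂ))} = Nat.card (RO (⊤ : Subgroup G) ⊥) := by
  symm
  refine card_RO_eq_of_surj (A := (⊤ : Subgroup G)) (L := ⊥)
    (Subgroup.topEquiv (G := G)).toMonoidHom (Subgroup.topEquiv (G := G)).surjective ?_
  intro a
  rw [Subgroup.mem_bot]
  exact ⟨fun h => h, fun h => h⟩

theorem allReal_top_iff :
    (∀ χ : IrrCharacter G, Odd (charDegree (χ : G → ℂ)) → ∀ g : G, ((χ : G → ℂ) g).im = 0) ↔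
      AllReal (⊤ : Subgroup G) ⊥ := by
  constructor
  · intro h χ hd _ y
    have hirr : IsIrrCharacter G (fun g : G => (χ : ↥(⊤ : Subgroup G) → ℂ)
        ((Subgroup.topEquiv (G := G)).symm g)) :=
      Cfsg.Agent.Lib.Helper75_Clifford.isIrrCharacter_comp_equiv
        (Subgroup.topEquiv (G := G)).symm χ.2
    have h1 := h ⟨_, hirr⟩ hd (y : G)
    exact h1
  · intro h χ hd g
    have hirr : IsIrrCharacter ↥(⊤ : Subgroup G) (fun a : ↥(⊤ : Subgroup G) => (χ : G → ℂ)
        ((Subgroup.topEquiv (G := G)) a)) :=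
      Cfsg.Agent.Lib.Helper75_Clifford.isIrrCharacter_comp_equiv
        (Subgroup.topEquiv (G := G)) χ.2
    have ht : TrivOn (⊥ : Subgroup G) (fun a : ↥(⊤ : Subgroup G) => (χ : G → ℂ)
        ((Subgroup.topEquiv (G := G)) a)) := by
      intro a ha
      have : a = 1 := Subtype.ext (Subgroup.mem_bot.mp ha)
      rw [this]
    have h1 := h ⟨_, hirr⟩ hd ht ⟨g, Subgroup.mem_top g⟩
    exact h1

end Cfsg.Agent.Lib.Helper60_ROTop
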