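import Mathlib
import Cfsg.Agent.Lib.Helper56_RuDefs
import Cfsg.Agent.Lib.Helper56_RuBasic
import Cfsg.Agent.Lib.Helper60_RU_EXEaux
import Cfsg.Agent.Lib.Helper61_RU_COUNT
import Cfsg.Agent.Lib.Helper91_RU_STEPCOR
import Cfsg.Agent.Lib.Helper8_RU_NHATa
import Cfsg.Agent.Lib.Helper42_RU_EXP

/-!
# S3174 package EXE (architect helper56; helper60): verbatim statement, from `exists_e_of` and the
delivered COUNT (`count`), STEPCOR (`step_surj`), NHAT core (`Nc_sq_aux`), EXP (`exp_Z3`).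
-/

set_option autoImplicit false

open scoped commutatorElement
open Cfsg.Agent.Lib.Helper56_RuDefs Cfsg.Agent.Lib.Helper56_RuBasic

namespace Cfsg.Agent.Lib.Helper60_RU_EXE

variable {T : Type*} [Group T]

/-- EXE. -/
theorem exists_e (h : Str T) (n' n : T) (hn' : n' ∈ Nc T) (hn'W : n' ∉ Wc T) (hn : n ∈ Nc T)
    (hnS : n ∉ Wc T ⊔ Subgroup.zpowers n') (x : T)
    (hx : x ∈ fixSub (Subgroup.upperCentralSeries T 3) (Wc T) ⊤) :
    ∃ v ∈ Wc T, ∃ z ∈ Subgroup.upperCentralSeries T 3, ⁅⁅v, n'⁆, n⁆ = x * z := by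
  have hfin := h.fin
  exact Cfsg.Agent.Lib.Helper60_RU_EXEaux.exists_e_of h n' n hn' hn'W hn hnS x hx
    (Cfsg.Agent.Lib.Helper61_RU_COUNT.count h n' n hn' hn'W hn hnS)
    (fun S hWS s hsN hs2 heq => Cfsg.Agent.Lib.Helper91_RU_STEPCOR.step_surj
      (Subgroup.upperCentralSeries T 3) (Wc T) S (Z3_le_W h) hWS (sq_mem h) (comm_mem h)
      s hsN hs2 heq)
    (Cfsg.Agent.Lib.Helper8_RU_NHATa.Nc_sq_aux (Cfsg.Agent.Lib.Helper42_RU_EXP.exp_Z3 h))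

end Cfsg.Agent.Lib.Helper60_RU_EXE
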