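import Mathlib
import Cfsg.Prelude.Def_Transfer
import Cfsg.Agent.Lib.Helper56_RuDefs
import Cfsg.Agent.Lib.Helper56_RuBasic
import Cfsg.Agent.Lib.Helper42_RU_EXPaux
import Cfsg.Agent.Lib.Helper86_RU_COMM

/-!
# S3174 market `ru_packages` (architect helper56), package EXP (verbatim wrapper, second seat):
`Z_3` has exponent 2.  `Helper42_RU_EXPaux.exp_Z3_of` + `Helper86_RU_COMM.comm_eq`.
-/

set_option autoImplicit false

open scoped commutatorElement
open Cfsg.Agent.Lib.Helper56_RuDefs Cfsg.Agent.Lib.Helper56_RuBasic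

namespace Cfsg.Agent.Lib.Helper60_RU_EXP

variable {T : Type*} [Group T]

/-- EXP. `Z_3` has exponent 2. -/
theorem exp_Z3 (h : Str T) : ∀ z ∈ Subgroup.upperCentralSeries T 3, z ^ 2 = 1 :=
  Cfsg.Agent.Lib.Helper42_RU_EXPaux.exp_Z3_of h (Cfsg.Agent.Lib.Helper86_RU_COMM.comm_eq h)

end Cfsg.Agent.Lib.Helper60_RU_EXP
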