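import Mathlib
import Cfsg.Prelude.Def_Transfer
import Cfsg.Agent.Lib.Helper56_RuDefs
import Cfsg.Agent.Lib.Helper56_RuBasic

/-!
# S3174/S3175 market `ru_packages` (architect helper56), package WCLCORE, `_of` form

`wcl_core_of`: the statement `wcl_core` with the statement of HYPER (`exists_hyperplane`) as an explicit hypothesis.
-/

set_option autoImplicit false

open scoped commutatorElement
open Cfsg.Agent.Lib.Helper56_RuDefs Cfsg.Agent.Lib.Helper56_RuBasic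

namespace Cfsg.Agent.Lib.Helper60_RU_WCLCOREaux

variable {T : Type*} [Group T]

/-- the statement of HYPER -/
def HyperStmt (T : Type*) [Group T] : Prop :=
  ∀ (E H Z : Subgroup T), H ≤ Z → Z ≤ E → H.relIndex Z = 2 → (∀ x ∈ E, x ^ 2 ∈ H) →
    (∀ x ∈ E, ∀ y ∈ E, ⁅x, y⁆ ∈ H) → ∃ U : Subgroup T, H ≤ U ∧ U ≤ E ∧ ¬ Z ≤ U ∧ U.relIndex E = 2

/-- a proper subgroup of a group of order 8 lies in a subgroup of index 2 -/
theorem exists_index_two [Finite T] {Z D : Subgroup T} (hZ : Nat.card Z = 8) (hDZ : D ≤ Z)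
    (hne : D ≠ Z) : ∃ H : Subgroup T, D ≤ H ∧ H ≤ Z ∧ H.relIndex Z = 2 := by
  have hp : Fact (Nat.Prime 2) := ⟨Nat.prime_two⟩
  have hcardD' : Nat.card (D.subgroupOf Z) = Nat.card D :=
    Nat.card_congr (Subgroup.subgroupOfEquivOfLe hDZ).toEquiv
  have hdvd : Nat.card (D.subgroupOf Z) ∣ 2 ^ 3 := by
    have := Subgroup.card_subgroup_dvd_card (D.subgroupOf Z)
    rwa [hZ] at this
  obtain ⟨j, hj3, hj⟩ := (Nat.dvd_prime_pow Nat.prime_two).mp hdvd
  have hj2 : j ≤ 2 := by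
    by_contra hcon
    have hj3' : j = 3 := by omega
    apply hne
    apply Subgroup.eq_of_le_of_card_ge hDZ
    rw [hZ, ← hcardD', hj, hj3']
    norm_num
  obtain ⟨K, hK, hDK⟩ := Sylow.exists_subgroup_card_pow_prime_le 2
    (by rw [hZ]; norm_num : 2 ^ 2 ∣ Nat.card Z) (D.subgroupOf Z) hj hj2
  refine ⟨K.map Z.subtype, ?_, Subgroup.map_subtype_le K, ?_⟩
  · intro d hd
    exact ⟨⟨d, hDZ hd⟩, hDK (Subgroup.mem_subgroupOf.mpr hd), rfl⟩
  · have h1 := card_mul_relIndex (Subgroup.map_subtype_le K)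
    rw [Subgroup.card_map_of_injective (Subgroup.subtype_injective Z), hK, hZ] at h1
    omega

theorem wcl_core_of (h : Str T) (hH : HyperStmt T) (W1 Z' : Subgroup T) (hZW : Z' ≤ W1)
    (hcardZ : Nat.card ↥Z' = 8)
    (hcardW : Nat.card ↥W1 = 2 ^ 11) (hsq : ∀ u ∈ W1, u ^ 2 ∈ Z') (hab : ∀ u ∈ W1, ∀ v ∈ W1, ⁅u, v⁆ ∈ Z')
    (hcen : ∀ u ∈ W1, ∀ z ∈ Z', u * z = z * u) : W1 = Wc T := by
  have hfin := h.fin
  have hcardZ3 : Nat.card ↥(Subgroup.upperCentralSeries T 3) = 8 := by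
    rw [h.cardZ 3 (by norm_num)]; norm_num
  -- `I = W ⊓ W1` has index `≤ 8` in `W`
  have hIW : (Wc T ⊓ W1).relIndex (Wc T) ≤ 8 := by
    have h1 := card_mul_relIndex (inf_le_left : Wc T ⊓ W1 ≤ Wc T)
    have h2 := card_mul_relIndex (inf_le_right : Wc T ⊓ W1 ≤ W1)
    rw [card_W h] at h1
    rw [hcardW] at h2
    have h3 : (Wc T ⊓ W1).relIndex W1 = (Wc T).relIndex W1 := Subgroup.inf_relIndex_right _ _
    have h4 : (Wc T).relIndex W1 ∣ (Wc T).index := Subgroup.relIndex_dvd_index_of_normal (Wc T) W1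
    rw [h.idxW] at h4
    have h5 : (Wc T).relIndex W1 ≤ 8 := Nat.le_of_dvd (by norm_num) h4
    have hpos : 0 < Nat.card ↥(Wc T ⊓ W1) := Nat.card_pos
    have h6 : (Wc T ⊓ W1).relIndex (Wc T) = (Wc T ⊓ W1).relIndex W1 := by
      have : Nat.card ↥(Wc T ⊓ W1) * (Wc T ⊓ W1).relIndex (Wc T) =
          Nat.card ↥(Wc T ⊓ W1) * (Wc T ⊓ W1).relIndex W1 := by rw [h1, h2]
      exact Nat.eq_of_mul_eq_mul_left hpos this
    rw [h6, h3]
    exact h5
  have hZI : Subgroup.upperCentralSeries T 3 ≤ Wc T ⊓ W1 :=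
    h.hd _ inf_le_left (hIW.trans (by norm_num))
  -- `Z_3 ≤ Z'`
  have hZZ : Subgroup.upperCentralSeries T 3 ≤ Z' := by
    by_contra hnot
    have hne : Subgroup.upperCentralSeries T 3 ⊓ Z' ≠ Subgroup.upperCentralSeries T 3 := by
      intro he
      exact hnot (he ▸ inf_le_right)
    obtain ⟨H, hDH, hHZ, hidx⟩ := exists_index_two hcardZ3 inf_le_left hne
    obtain ⟨U, hHU, hUI, hZU, hUidx⟩ := hH (Wc T ⊓ W1) H (Subgroup.upperCentralSeries T 3) hHZ hZI hidx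
      (fun x hx => hDH ⟨sq_mem h x hx.1, hsq x hx.2⟩)
      (fun x hx y hy => hDH ⟨comm_mem h x hx.1 y hy.1, hab x hx.2 y hy.2⟩)
    apply hZU
    apply h.hd U (hUI.trans inf_le_left)
    rw [← Subgroup.relIndex_mul_relIndex U (Wc T ⊓ W1) (Wc T) hUI inf_le_left, hUidx]
    omega
  have hZeq : Subgroup.upperCentralSeries T 3 = Z' :=
    Subgroup.eq_of_le_of_card_ge hZZ (by rw [hcardZ, hcardZ3])
  have hW1W : W1 ≤ Wc T := by
    intro u hu
    rw [Subgroup.mem_centralizer_iff]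
    intro z hz
    rw [SetLike.mem_coe, hZeq] at hz
    exact (hcen u hu z hz).symm
  exact Subgroup.eq_of_le_of_card_ge hW1W (by rw [card_W h, hcardW])

end Cfsg.Agent.Lib.Helper60_RU_WCLCOREaux
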