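import Mathlib
import Cfsg.Prelude.Def_Transfer
import Cfsg.Agent.Lib.Helper56_RuDefs
import Cfsg.Agent.Lib.Helper56_RuBasic
import Cfsg.Agent.Lib.Helper60_RU_WCLCOREaux
import Cfsg.Agent.Lib.Helper79_RU_HYPER

/-!
# S3174/S3175 market `ru_packages` (architect helper56), package WCLCORE (verbatim).
Wrapper of `Helper60_RU_WCLCOREaux.wcl_core_of` with HYPER = `Helper79_RU_HYPER.exists_hyperplane`.
-/

set_option autoImplicit false

open scoped commutatorElement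
open Cfsg.Agent.Lib.Helper56_RuDefs Cfsg.Agent.Lib.Helper56_RuBasic

namespace Cfsg.Agent.Lib.Helper60_RU_WCLCORE

variable {T : Type*} [Group T]

/-- WCLCORE. -/
theorem wcl_core (h : Str T) (W1 Z' : Subgroup T) (hZW : Z' ≤ W1) (hcardZ : Nat.card ↥Z' = 8)
    (hcardW : Nat.card ↥W1 = 2 ^ 11) (hsq : ∀ u ∈ W1, u ^ 2 ∈ Z') (hab : ∀ u ∈ W1, ∀ v ∈ W1, ⁅u, v⁆ ∈ Z')
    (hcen : ∀ u ∈ W1, ∀ z ∈ Z', u * z = z * u) : W1 = Wc T :=
  have := h.fin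
  Cfsg.Agent.Lib.Helper60_RU_WCLCOREaux.wcl_core_of h
    (fun E H Z hHZ hZE hidx hsq hab =>
      Cfsg.Agent.Lib.Helper79_RU_HYPER.exists_hyperplane E H Z hHZ hZE hidx hsq hab)
    W1 Z' hZW hcardZ hcardW hsq hab hcen

end Cfsg.Agent.Lib.Helper60_RU_WCLCORE
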