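import Mathlib
import Cfsg.Prelude.Def_KGroupFacts
import Cfsg.Agent.Lib.Helper72_SLnUceDefs
import Cfsg.Agent.Lib.Helper66_StMain
import Cfsg.Agent.Lib.Helper66_SL3PresA
import Cfsg.Agent.Lib.Helper5_PSLCard

/-!
# S2086 package CENTER (architect helper72): the centre of SL_n(q) is cyclic of order gcd(n, q-1)
-/

set_option autoImplicit false

namespace Cfsg.Agent.Lib.Helper60_S2086_CENTER

open Matrix Cfsg.Agent.Lib.Helper81_UceA Cfsg.Agent.Lib.Helper66_StCalc Cfsg.Agent.Lib.Helper72_SLnUce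
  Cfsg.Agent.Lib.Helper66_SL3Pres

universe u v

/-- CENTER (S): the centre of SL_n(q) is cyclic of order gcd(n, q-1). -/
theorem CENTER {F : Type*} [Field F] [Fintype F] (n : ℕ) (hn : 1 ≤ n) :
    Nonempty (Subgroup.center (Matrix.SpecialLinearGroup (Fin n) F) ≃*
      Multiplicative (ZMod (Nat.gcd n (Fintype.card F - 1)))) := by
  have : NeZero n := ⟨by omega⟩
  have e1 := Matrix.SpecialLinearGroup.center_equiv_rootsOfUnity' (R := F) (0 : Fin n)
  have hcyc : IsCyclic (Subgroup.center (Matrix.SpecialLinearGroup (Fin n) F)) :=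
    isCyclic_of_surjective e1.symm.toMonoidHom e1.symm.surjective
  have hcard : Nat.card (Subgroup.center (Matrix.SpecialLinearGroup (Fin n) F)) =
      Nat.gcd n (Fintype.card F - 1) := by
    rw [Cfsg.Agent.Lib.Helper5_PSLCard.card_center_SL n hn, Nat.gcd_comm]
  have e2 := zmodCyclicMulEquiv hcyc
  rw [hcard] at e2
  exact ⟨e2.symm⟩

end Cfsg.Agent.Lib.Helper60_S2086_CENTER
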