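import Mathlib
import Cfsg.Prelude.Def_KGroupFacts
import Cfsg.Agent.Lib.Helper72_SLnUceDefs
import Cfsg.Agent.Lib.Helper66_StMain
import Cfsg.Agent.Lib.Helper66_SL3PresA
import Cfsg.Agent.Lib.Helper5_PSLCard

/-!
# S2086 package CUBES2 (architect helper72): in a finite field of characteristic two with more than
four elements every element is a sum of cubes
-/

set_option autoImplicit false

namespace Cfsg.Agent.Lib.Helper60_S2086_CUBES2

open Matrix Cfsg.Agent.Lib.Helper81_UceA Cfsg.Agent.Lib.Helper66_StCalc Cfsg.Agent.Lib.Helper72_SLnUce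
  Cfsg.Agent.Lib.Helper66_SL3Pres

universe u v

section

variable {F : Type*} [Field F]

theorem cubes_mul {x y : F} (hx : x ∈ Cubes F) (hy : y ∈ Cubes F) : x * y ∈ Cubes F := by
  induction hx using AddSubmonoid.closure_induction with
  | mem x hx =>
    obtain ⟨g, rfl⟩ := hx
    induction hy using AddSubmonoid.closure_induction with
    | mem y hy =>
      obtain ⟨h, rfl⟩ := hy
      have : g ^ 3 * h ^ 3 = (g * h) ^ 3 := by ring
      simp only
      rw [this]
      exact cube_mem _
    | zero => simp only [mul_zero]; exact zero_mem _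
    | add y₁ y₂ _ _ h₁ h₂ => rw [mul_add]; exact add_mem h₁ h₂
  | zero => rw [zero_mul]; exact zero_mem _
  | add x₁ x₂ _ _ h₁ h₂ => rw [add_mul]; exact add_mem h₁ h₂

theorem cubes_one : (1 : F) ∈ Cubes F := by
  have := cube_mem (1 : F)
  rwa [one_pow] at this

theorem cubes_pow {x : F} (hx : x ∈ Cubes F) (n : ℕ) : x ^ n ∈ Cubes F := by
  induction n with
  | zero => rw [pow_zero]; exact cubes_one
  | succ n ih => rw [pow_succ]; exact cubes_mul ih hx

theorem cubes_inv [Finite F] {x : F} (hx : x ∈ Cubes F) : x⁻¹ ∈ Cubes F := by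
  classical
  have := Fintype.ofFinite F
  by_cases h0 : x = 0
  · rw [h0, _root_.inv_zero]; exact zero_mem _
  · have h1 : x ^ (Fintype.card F - 1) = 1 := FiniteField.pow_card_sub_one_eq_one x h0
    have hq : 2 ≤ Fintype.card F := Fintype.one_lt_card
    have h2 : x⁻¹ = x ^ (Fintype.card F - 2) := by
      apply inv_eq_of_mul_eq_one_right
      rw [← pow_succ', show Fintype.card F - 2 + 1 = Fintype.card F - 1 by omega, h1]
    rw [h2]
    exact cubes_pow hx _

end

/-- CUBES2 (M): in characteristic two every element is a sum of cubes, unless q = 2, 4. -/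
theorem CUBES2 {F : Type*} [Field F] [Finite F] (h2 : ringChar F = 2) (hq2 : Nat.card F ≠ 2)
    (hq4 : Nat.card F ≠ 4) (a : F) : a ∈ Cubes F := by
  classical
  have := Fintype.ofFinite F
  have hch : CharP F 2 := h2 ▸ ringChar.charP F
  -- the subfield generated by the cubes consists of sums of cubes
  set L : Subfield F := Subfield.closure (Set.range fun g : F => g ^ 3) with hL
  have hLS : ∀ x ∈ L, x ∈ Cubes F := by
    intro x hx
    induction hx using Subfield.closure_induction with
    | mem x hx => exact AddSubmonoid.subset_closure hx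
    | one => exact cubes_one
    | add x y _ _ h₁ h₂ => exact add_mem h₁ h₂
    | neg x _ h => rw [CharTwo.neg_eq]; exact h
    | inv x _ h => exact cubes_inv h
    | mul x y _ _ h₁ h₂ => exact cubes_mul h₁ h₂
  apply hLS
  -- counting
  have hcard : Fintype.card F = Fintype.card L ^ Module.finrank L F := Module.card_eq_pow_finrank
  have hs2 : 2 ≤ Fintype.card L := Fintype.one_lt_card
  have hq : 2 ≤ Fintype.card F := Fintype.one_lt_card
  -- a generator of the unit group
  obtain ⟨γ, hγ⟩ := IsCyclic.exists_generator (α := Fˣ)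
  have hoγ : orderOf γ = Fintype.card F - 1 := by
    rw [orderOf_eq_card_of_forall_mem_zpowers hγ, Nat.card_units, Nat.card_eq_fintype_card]
  have hmem : ((γ : F) ^ 3) ∈ L := Subfield.subset_closure ⟨_, rfl⟩
  have hne : (⟨(γ : F) ^ 3, hmem⟩ : L) ≠ 0 := by
    intro h
    have := congrArg (fun l : L => (l : F)) h
    simp only [ZeroMemClass.coe_zero] at this
    exact pow_ne_zero 3 γ.ne_zero this
  have hpow := FiniteField.pow_card_sub_one_eq_one (⟨(γ : F) ^ 3, hmem⟩ : L) hne
  have hpow' : γ ^ (3 * (Fintype.card L - 1)) = 1 := by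
    apply Units.ext
    have := congrArg (fun l : L => (l : F)) hpow
    simp only [SubmonoidClass.mk_pow, OneMemClass.coe_one] at this
    rw [Units.val_pow_eq_pow_val, Units.val_one, pow_mul]
    exact this
  have hdvd : Fintype.card F - 1 ∣ 3 * (Fintype.card L - 1) := by
    rw [← hoγ]; exact orderOf_dvd_of_pow_eq_one hpow'
  have hle : Fintype.card F - 1 ≤ 3 * (Fintype.card L - 1) :=
    Nat.le_of_dvd (by omega) hdvd
  have hq4' : Fintype.card F ≠ 4 := by rwa [Nat.card_eq_fintype_card] at hq4
  -- the degree is one
  have he : Module.finrank L F = 1 := by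
    set e := Module.finrank L F with he
    set s := Fintype.card L with hs
    rcases Nat.lt_or_ge e 2 with h | h
    · interval_cases e
      · rw [pow_zero] at hcard; omega
      · rfl
    · exfalso
      have h1 : s ^ 2 ≤ s ^ e := Nat.pow_le_pow_right (by omega) h
      have h3 : s ^ 2 ≤ 3 * s - 2 := by omega
      have h4 : s = 2 := by
        by_contra hne2
        have h8 : 3 ≤ s := by omega
        have h9 : 3 * s ≤ s ^ 2 := by rw [sq]; exact Nat.mul_le_mul_right s h8
        omega
      rw [h4] at hcard hle
      have h5 : 2 ^ e ≤ 2 ^ 2 := by omega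
      have h6 : e ≤ 2 := (Nat.pow_le_pow_iff_right (by norm_num)).1 h5
      have h7 : e = 2 := by omega
      rw [h7] at hcard
      omega
  have hcard' : Fintype.card L = Fintype.card F := by rw [hcard, he, pow_one]
  have hbij : Function.Bijective (L.subtype : L → F) := by
    rw [Fintype.bijective_iff_injective_and_card]
    exact ⟨Subtype.val_injective, hcard'⟩
  obtain ⟨l, rfl⟩ := hbij.2 a
  exact l.2

end Cfsg.Agent.Lib.Helper60_S2086_CUBES2
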