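import Mathlib
import Cfsg.Prelude.Def_KGroupFacts
import Cfsg.Agent.Lib.Helper72_SLnUceDefs
import Cfsg.Agent.Lib.Helper66_StMain
import Cfsg.Agent.Lib.Helper66_SL3PresA
import Cfsg.Agent.Lib.Helper5_PSLCard

/-!
# S2086 package MIL (architect helper72): Milnor's trick in a central extension
-/

set_option autoImplicit false

namespace Cfsg.Agent.Lib.Helper60_S2086_MIL

open Matrix Cfsg.Agent.Lib.Helper81_UceA Cfsg.Agent.Lib.Helper66_StCalc Cfsg.Agent.Lib.Helper72_SLnUce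
  Cfsg.Agent.Lib.Helper66_SL3Pres

universe u v

/-- MIL (S): Milnor's trick. -/
theorem MIL {E G : Type*} [Group E] [Group G] {π : E →* G} (hc : CExt π) {a b y : G}
    (hya : y * a = a * y) (hyb : y * b = b * y) {e e' : E}
    (he : π e = a * b * a⁻¹ * b⁻¹) (he' : π e' = y) : e * e' = e' * e := by
  obtain ⟨a', ha'⟩ := hc.surj a
  obtain ⟨b', hb'⟩ := hc.surj b
  have h1 : e' * (a' * b' * a'⁻¹ * b'⁻¹) * e'⁻¹ = a' * b' * a'⁻¹ * b'⁻¹ := by
    have h := hc.commutator_eq (a := e' * a' * e'⁻¹) (a' := a') (b := e' * b' * e'⁻¹) (b' := b')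
      (by rw [map_mul, map_mul, map_inv, he', ha', hya, mul_inv_cancel_right])
      (by rw [map_mul, map_mul, map_inv, he', hb', hyb, mul_inv_cancel_right])
    refine Eq.trans ?_ h
    group
  obtain ⟨z, hz, rfl⟩ := hc.exists_mul_of_eq (a := a' * b' * a'⁻¹ * b'⁻¹) (a' := e)
    (by rw [he]; simp only [map_mul, map_inv, ha', hb'])
  have hz' := hc.comm_of_ker hz e'
  have h2 : e' * (a' * b' * a'⁻¹ * b'⁻¹) = a' * b' * a'⁻¹ * b'⁻¹ * e' := by
    calc e' * (a' * b' * a'⁻¹ * b'⁻¹) = e' * (a' * b' * a'⁻¹ * b'⁻¹) * e'⁻¹ * e' := by group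
      _ = a' * b' * a'⁻¹ * b'⁻¹ * e' := by rw [h1]
  rw [mul_assoc, hz', ← mul_assoc, ← h2, mul_assoc]

end Cfsg.Agent.Lib.Helper60_S2086_MIL
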