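import Mathlib
import Cfsg.Prelude.Def_KGroupFacts
import Cfsg.Agent.Lib.Helper72_SLnUceDefs
import Cfsg.Agent.Lib.Helper66_StMain
import Cfsg.Agent.Lib.Helper66_SL3PresA
import Cfsg.Agent.Lib.Helper5_PSLCard

/-!
# S2086 package UNITS (architect helper72): units of a finite field with small powers different from one
-/

set_option autoImplicit false

namespace Cfsg.Agent.Lib.Helper60_S2086_UNITS

open Matrix Cfsg.Agent.Lib.Helper81_UceA Cfsg.Agent.Lib.Helper66_StCalc Cfsg.Agent.Lib.Helper72_SLnUce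
  Cfsg.Agent.Lib.Helper66_SL3Pres

universe u v

/-- a unit whose `k`-th power is not one, when `q - 1` does not divide `k` -/
theorem exists_pow_ne_one {K : Type*} [Field K] [Fintype K] (k : ℕ) (h : ¬ (Fintype.card K - 1) ∣ k) :
    ∃ s : Kˣ, s ^ k ≠ 1 := by
  obtain ⟨g, hg⟩ := IsCyclic.exists_generator (α := Kˣ)
  have ho : orderOf g = Fintype.card K - 1 := by
    rw [orderOf_eq_card_of_forall_mem_zpowers hg, Nat.card_units, Nat.card_eq_fintype_card]
  refine ⟨g, fun h1 => h ?_⟩
  rw [← ho]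
  exact orderOf_dvd_of_pow_eq_one h1

/-- UNITS (S): units with small powers different from one (Kˣ is cyclic of order q - 1). -/
theorem UNITS {K : Type*} [Field K] [Fintype K] :
    (3 ≤ Fintype.card K → ∃ s : Kˣ, s ≠ 1) ∧
    (4 ≤ Fintype.card K → ∃ s : Kˣ, s ^ 2 ≠ 1) ∧
    (Fintype.card K ≠ 2 → Fintype.card K ≠ 4 → ∃ s : Kˣ, s ^ 3 ≠ 1) := by
  refine ⟨fun h => ?_, fun h => ?_, fun h2 h4 => ?_⟩
  · obtain ⟨s, hs⟩ := exists_pow_ne_one (K := K) 1 (by
      intro hd
      have := Nat.le_of_dvd one_pos hd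
      omega)
    exact ⟨s, by simpa using hs⟩
  · exact exists_pow_ne_one (K := K) 2 (by
      intro hd
      have := Nat.le_of_dvd two_pos hd
      omega)
  · have hq : 1 < Fintype.card K := Fintype.one_lt_card
    exact exists_pow_ne_one (K := K) 3 (by
      intro hd
      have h3 := Nat.le_of_dvd three_pos hd
      have : Fintype.card K - 1 = 1 ∨ Fintype.card K - 1 = 3 := (Nat.dvd_prime Nat.prime_three).1 hd
      omega)

end Cfsg.Agent.Lib.Helper60_S2086_UNITS
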