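import Mathlib
import Cfsg.Prelude.Def_KGroupFacts
import Cfsg.Agent.Lib.Helper72_SLnUceDefs
import Cfsg.Agent.Lib.Helper66_StMain
import Cfsg.Agent.Lib.Helper66_SL3PresA
import Cfsg.Agent.Lib.Helper5_PSLCard
import Cfsg.Agent.Lib.Helper60_S2086_UNITS

/-!
# S2086 package SL2PERF (architect helper72): SL_2(q) is perfect for q ≥ 4
-/

set_option autoImplicit false

namespace Cfsg.Agent.Lib.Helper60_S2086_SL2PERF

open Matrix Cfsg.Agent.Lib.Helper81_UceA Cfsg.Agent.Lib.Helper66_StCalc Cfsg.Agent.Lib.Helper72_SLnUce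
  Cfsg.Agent.Lib.Helper66_SL3Pres

universe u v

/-- SL2PERF (S): SL_2(q) is perfect for q ≥ 4. -/
theorem SL2PERF {F : Type*} [Field F] [Fintype F] (h : 4 ≤ Fintype.card F) :
    commutator (Matrix.SpecialLinearGroup (Fin 2) F) = ⊤ := by
  obtain ⟨s, hs⟩ := (Cfsg.Agent.Lib.Helper60_S2086_UNITS.UNITS (K := F)).2.1 h
  refine Matrix.SL2.commutator_eq_top (a := (s : F)) s.ne_zero ?_
  intro h1
  apply hs
  apply Units.ext
  rw [Units.val_pow_eq_pow_val, Units.val_one]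
  exact h1

end Cfsg.Agent.Lib.Helper60_S2086_SL2PERF
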