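import Mathlib
import Cfsg.Agent.Lib.Helper77_SLnDefs
import Cfsg.Prelude.Def_Characters


/-!
# S2332 package NORMALIZE (architect helper77)
-/

set_option autoImplicit false
open Matrix Cfsg.Agent.Lib.Helper5_Transv Cfsg.Agent.Lib.Helper77_SLnDefs

namespace Cfsg.Agent.Lib.Helper60_S2332_NORMALIZE

variable {F : Type*} [Field F] [Fintype F] [DecidableEq F] {κ : Type} [Fintype κ] [DecidableEq κ]
  {V : Type} [AddCommGroup V] [Module ℂ V] [FiniteDimensional ℂ V]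

theorem pline_normalizes (p s : Matrix.SpecialLinearGroup (Unit ⊕ κ) F) (hp : p ∈ Pline)
    (hs : s ∈ MulAction.stabilizer (Matrix.SpecialLinearGroup (Unit ⊕ κ) F)
      (x0 : NZv (Unit ⊕ κ) F)) :
    p⁻¹ * s * p ∈ MulAction.stabilizer (Matrix.SpecialLinearGroup (Unit ⊕ κ) F)
      (x0 : NZv (Unit ⊕ κ) F) := by
  obtain ⟨c, hc⟩ := hp
  rw [MulAction.mem_stabilizer_iff] at hs ⊢
  have hs' : s.1 *ᵥ (e0 : Unit ⊕ κ → F) = e0 := by
    have := congrArg Subtype.val hs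
    rwa [smul_NZv_val] at this
  have hc0 : c ≠ 0 := by
    intro h0
    rw [h0, zero_smul] at hc
    exact mulVec_ne_zero p e0 e0_ne_zero hc
  have hpi : (p⁻¹).1 *ᵥ (e0 : Unit ⊕ κ → F) = c⁻¹ • e0 := by
    have h1 : (p⁻¹).1 *ᵥ (p.1 *ᵥ (e0 : Unit ⊕ κ → F)) = e0 := by
      rw [Matrix.mulVec_mulVec]
      have : (p⁻¹).1 * p.1 = 1 := congrArg Subtype.val (inv_mul_cancel p)
      rw [this, Matrix.one_mulVec]
    rw [hc, Matrix.mulVec_smul] at h1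
    have h2 : c⁻¹ • (c • ((p⁻¹).1 *ᵥ (e0 : Unit ⊕ κ → F))) = c⁻¹ • e0 := by rw [h1]
    rwa [smul_smul, inv_mul_cancel₀ hc0, one_smul] at h2
  apply Subtype.ext
  rw [smul_NZv_val]
  show (p⁻¹ * s * p).1 *ᵥ (e0 : Unit ⊕ κ → F) = e0
  rw [Matrix.SpecialLinearGroup.coe_mul, Matrix.SpecialLinearGroup.coe_mul, ← Matrix.mulVec_mulVec,
    ← Matrix.mulVec_mulVec, hc, Matrix.mulVec_smul, hs', Matrix.mulVec_smul, hpi, smul_smul,
    mul_inv_cancel₀ hc0, one_smul]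

end Cfsg.Agent.Lib.Helper60_S2332_NORMALIZE
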