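import Mathlib
import Cfsg.Agent.Lib.Helper77_SLnDefs
import Cfsg.Prelude.Def_Characters
import Cfsg.Agent.Lib.Helper5_SLGen
import Cfsg.Agent.Lib.Helper5_SpPerfect

/-!
# S2332 package PERFECT (architect helper77)
-/

set_option autoImplicit false
open Matrix Cfsg.Agent.Lib.Helper5_Transv Cfsg.Agent.Lib.Helper77_SLnDefs

namespace Cfsg.Agent.Lib.Helper60_S2332_PERFECT

variable {F : Type*} [Field F] [Fintype F] [DecidableEq F] {κ : Type} [Fintype κ] [DecidableEq κ]
  {V : Type} [AddCommGroup V] [Module ℂ V] [FiniteDimensional ℂ V]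

/-- perfectness is transported along an isomorphism -/
theorem commutator_eq_top_of_equiv {G H : Type*} [Group G] [Group H] (f : G ≃* H)
    (h : commutator H = ⊤) : commutator G = ⊤ := by
  have h1 : (commutator H).map f.symm.toMonoidHom = commutator G := by
    rw [commutator_def, commutator_def, Subgroup.map_commutator]
    have : (⊤ : Subgroup H).map f.symm.toMonoidHom = ⊤ := by
      rw [← MonoidHom.range_eq_map]
      exact MonoidHom.range_eq_top.mpr f.symm.surjective
    rw [this]
  rw [← h1, h]
  rw [← MonoidHom.range_eq_map]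
  exact MonoidHom.range_eq_top.mpr f.symm.surjective

theorem sl_perfect (ι : Type*) [Fintype ι] [DecidableEq ι]
    (h : 3 ≤ Fintype.card ι ∨ (Fintype.card ι = 2 ∧ 4 ≤ Fintype.card F)) :
    commutator (Matrix.SpecialLinearGroup ι F) = ⊤ := by
  rcases h with h | ⟨h2, h4⟩
  · exact Cfsg.Agent.Lib.Helper5_SLGen.commutator_eq_top_of_three_le_card h
  · obtain ⟨a, ha, ha2⟩ := Cfsg.Agent.Lib.Helper5_SpPerfect.exists_sq_ne_one (F := F) h4
    have hperf : commutator (Matrix.SpecialLinearGroup (Fin 2) F) = ⊤ :=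
      Matrix.SL2.commutator_eq_top ha ha2
    exact commutator_eq_top_of_equiv (slReindex (F := F) (Fintype.equivFinOfCardEq h2)) hperf

end Cfsg.Agent.Lib.Helper60_S2332_PERFECT
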