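import Mathlib
import Cfsg.Agent.Lib.Helper77_SLnDefs
import Cfsg.Prelude.Def_Characters


/-!
# S2332 package TRANS (architect helper77)
-/

set_option autoImplicit false
open Matrix Cfsg.Agent.Lib.Helper5_Transv Cfsg.Agent.Lib.Helper77_SLnDefs

namespace Cfsg.Agent.Lib.Helper60_S2332_TRANS

variable {F : Type*} [Field F] [Fintype F] [DecidableEq F] {κ : Type} [Fintype κ] [DecidableEq κ]
  {V : Type} [AddCommGroup V] [Module ℂ V] [FiniteDimensional ℂ V]

theorem isPretransitive_NZv (ι : Type*) [Fintype ι] [DecidableEq ι] (h : 2 ≤ Fintype.card ι) :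
    MulAction.IsPretransitive (Matrix.SpecialLinearGroup ι F) (NZv ι F) := by
  obtain ⟨i0, i1, h01⟩ := Fintype.exists_pair_of_one_lt_card (α := ι) (by omega)
  constructor
  intro x y
  obtain ⟨gx, hgx⟩ := exists_mulVec_eq (k := F) h01 x.1 x.2
  obtain ⟨gy, hgy⟩ := exists_mulVec_eq (k := F) h01 y.1 y.2
  refine ⟨gy * gx⁻¹, ?_⟩
  apply Subtype.ext
  rw [smul_NZv_val, Matrix.SpecialLinearGroup.coe_mul, ← Matrix.mulVec_mulVec]
  have h1 : (gx⁻¹).1 *ᵥ x.1 = e i0 := by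
    rw [← hgx, Matrix.mulVec_mulVec]
    have : (gx⁻¹).1 * gx.1 = 1 := congrArg Subtype.val (inv_mul_cancel gx)
    rw [this, Matrix.one_mulVec]
  rw [h1, hgy]

end Cfsg.Agent.Lib.Helper60_S2332_TRANS
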