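import Mathlib
import Cfsg.Agent.Lib.Helper76_S2647Defs

/-!
# S2647 package CARD (architect helper76): `|Ed| = 64`, `|Sy| = 512`
-/

set_option autoImplicit false

open Matrix Cfsg.Agent.Lib.Helper76_S2647Defs

namespace Cfsg.Agent.Lib.Helper60_S2647_CARD

/-- the product homomorphism on sign vectors -/
def prodHom : (Fin 7 → ℤˣ) →* ℤˣ where
  toFun ε := ∏ j, ε j
  map_one' := by simp
  map_mul' ε δ := by
    simp only [Pi.mul_apply]
    exact Finset.prod_mul_distrib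

theorem prodHom_apply (ε : Fin 7 → ℤˣ) : prodHom ε = ∏ j, ε j := rfl

theorem prodHom_surjective : Function.Surjective prodHom := by
  intro u
  refine ⟨Function.update 1 0 u, ?_⟩
  rw [prodHom_apply]
  rw [Finset.prod_eq_single (0 : Fin 7)]
  · simp
  · intro j _ hj
    simp [Function.update_of_ne hj]
  · intro h
    exact absurd (Finset.mem_univ _) h

theorem card_signs : Nat.card (Fin 7 → ℤˣ) = 128 := by
  rw [Nat.card_eq_fintype_card, Fintype.card_fun, Fintype.card_units_int, Fintype.card_fin]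
  norm_num

theorem card_ker : Nat.card prodHom.ker = 64 := by
  have h1 : prodHom.ker.index = 2 := by
    rw [Subgroup.index_ker, MonoidHom.range_eq_top.mpr prodHom_surjective]
    rw [Nat.card_congr (Subgroup.topEquiv (G := ℤˣ)).toEquiv, Nat.card_eq_fintype_card,
      Fintype.card_units_int]
  have h2 := Subgroup.card_mul_index prodHom.ker
  rw [h1, card_signs] at h2
  omega

theorem card_even : Nat.card {ε : Fin 7 → ℤˣ // ∏ j, ε j = 1} = 64 := by
  rw [← card_ker]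
  apply Nat.card_congr
  refine Equiv.subtypeEquivRight ?_
  intro ε
  rw [MonoidHom.mem_ker, prodHom_apply]

variable {F : Type*} [Field F]

theorem card_Ed
    (heq : ∀ (ε ε' : Fin 7 → ℤˣ) (π π' : Equiv.Perm (Fin 7)),
      monO F ε π = monO F ε' π' ↔ ε = ε' ∧ π = π') :
    Nat.card (Ed F) = 64 := by
  rw [← card_even]
  symm
  apply Nat.card_congr
  refine Equiv.ofBijective
    (fun ε => (⟨monO F ε.1 1, (mem_Ed_iff F _).mpr ⟨ε.1, ε.2, rfl⟩⟩ : ↥(Ed F))) ⟨?_, ?_⟩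
  · intro ε ε' h
    have h' : monO F ε.1 1 = monO F ε'.1 1 := congrArg Subtype.val h
    exact Subtype.ext ((heq _ _ _ _).mp h').1
  · rintro ⟨k, hk⟩
    obtain ⟨ε, hε, rfl⟩ := (mem_Ed_iff F k).mp hk
    exact ⟨⟨ε, hε⟩, rfl⟩

theorem card_Sy
    (heq : ∀ (ε ε' : Fin 7 → ℤˣ) (π π' : Equiv.Perm (Fin 7)),
      monO F ε π = monO F ε' π' ↔ ε = ε' ∧ π = π')
    (hD : Nat.card D8 = 8) :
    Nat.card (Sy F) = 512 := by
  have hprod : Nat.card ({ε : Fin 7 → ℤˣ // ∏ j, ε j = 1} × ↥D8) = 512 := by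
    rw [Nat.card_prod, card_even, hD]
  rw [← hprod]
  symm
  apply Nat.card_congr
  refine Equiv.ofBijective
    (fun p => (⟨monO F p.1.1 p.2.1,
      (mem_Sy_iff F _).mpr ⟨p.1.1, p.2.1, p.1.2, p.2.2, rfl⟩⟩ : ↥(Sy F))) ⟨?_, ?_⟩
  · rintro ⟨ε, π⟩ ⟨ε', π'⟩ h
    have h' : monO F ε.1 π.1 = monO F ε'.1 π'.1 := congrArg Subtype.val h
    have h'' := (heq _ _ _ _).mp h'
    exact Prod.ext (Subtype.ext h''.1) (Subtype.ext h''.2)
  · rintro ⟨k, hk⟩
    obtain ⟨ε, π, hε, hπ, rfl⟩ := (mem_Sy_iff F k).mp hk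
    exact ⟨⟨⟨ε, hε⟩, ⟨π, hπ⟩⟩, rfl⟩

end Cfsg.Agent.Lib.Helper60_S2647_CARD
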