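import Mathlib
import Cfsg.Agent.Lib.Helper76_S2647Defs

/-!
# S2647 package D8 (architect helper76): the eight elements of `D8 = closure {r4, s2} ≤ A₇`
-/

set_option autoImplicit false

open Matrix Cfsg.Agent.Lib.Helper76_S2647Defs

namespace Cfsg.Agent.Lib.Helper60_S2647_D8

/-- the list of the eight elements -/
def L8 : List (Equiv.Perm (Fin 7)) :=
  [1, r4, r4 * r4, r4 * r4 * r4, s2, r4 * s2, r4 * r4 * s2, r4 * r4 * r4 * s2]

theorem mem_L8_iff (π : Equiv.Perm (Fin 7)) :
    π ∈ L8 ↔ π = 1 ∨ π = r4 ∨ π = r4 * r4 ∨ π = r4 * r4 * r4 ∨ π = s2 ∨ π = r4 * s2 ∨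
      π = r4 * r4 * s2 ∨ π = r4 * r4 * r4 * s2 := by
  unfold L8
  simp only [List.mem_cons, List.mem_nil_iff, or_false]

theorem L8_mul_r4 : ∀ a ∈ L8, a * r4 ∈ L8 := by
  intro a ha
  rw [mem_L8_iff] at ha ⊢
  rcases ha with rfl | rfl | rfl | rfl | rfl | rfl | rfl | rfl
  · right; left
    exact Equiv.ext (by decide)
  · right; right; left
    exact Equiv.ext (by decide)
  · right; right; right; left
    exact Equiv.ext (by decide)
  · left
    exact Equiv.ext (by decide)
  · right; right; right; right; right; right; right
    exact Equiv.ext (by decide)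
  · right; right; right; right; left
    exact Equiv.ext (by decide)
  · right; right; right; right; right; left
    exact Equiv.ext (by decide)
  · right; right; right; right; right; right; left
    exact Equiv.ext (by decide)
theorem L8_mul_s2 : ∀ a ∈ L8, a * s2 ∈ L8 := by
  intro a ha
  rw [mem_L8_iff] at ha ⊢
  rcases ha with rfl | rfl | rfl | rfl | rfl | rfl | rfl | rfl
  · right; right; right; right; left
    exact Equiv.ext (by decide)
  · right; right; right; right; right; left
    exact Equiv.ext (by decide)
  · right; right; right; right; right; right; left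
    exact Equiv.ext (by decide)
  · right; right; right; right; right; right; right
    exact Equiv.ext (by decide)
  · left
    exact Equiv.ext (by decide)
  · right; left
    exact Equiv.ext (by decide)
  · right; right; left
    exact Equiv.ext (by decide)
  · right; right; right; left
    exact Equiv.ext (by decide)
theorem L8_mul_r4_inv : ∀ a ∈ L8, a * r4⁻¹ ∈ L8 := by
  intro a ha
  rw [mem_L8_iff] at ha ⊢
  rcases ha with rfl | rfl | rfl | rfl | rfl | rfl | rfl | rfl
  · right; right; right; left
    exact Equiv.ext (by decide)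
  · left
    exact Equiv.ext (by decide)
  · right; left
    exact Equiv.ext (by decide)
  · right; right; left
    exact Equiv.ext (by decide)
  · right; right; right; right; right; left
    exact Equiv.ext (by decide)
  · right; right; right; right; right; right; left
    exact Equiv.ext (by decide)
  · right; right; right; right; right; right; right
    exact Equiv.ext (by decide)
  · right; right; right; right; left
    exact Equiv.ext (by decide)
theorem L8_mul_s2_inv : ∀ a ∈ L8, a * s2⁻¹ ∈ L8 := by
  intro a ha
  rw [mem_L8_iff] at ha ⊢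
  rcases ha with rfl | rfl | rfl | rfl | rfl | rfl | rfl | rfl
  · right; right; right; right; left
    exact Equiv.ext (by decide)
  · right; right; right; right; right; left
    exact Equiv.ext (by decide)
  · right; right; right; right; right; right; left
    exact Equiv.ext (by decide)
  · right; right; right; right; right; right; right
    exact Equiv.ext (by decide)
  · left
    exact Equiv.ext (by decide)
  · right; left
    exact Equiv.ext (by decide)
  · right; right; left
    exact Equiv.ext (by decide)
  · right; right; right; left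
    exact Equiv.ext (by decide)

theorem one_mem_L8 : (1 : Equiv.Perm (Fin 7)) ∈ L8 := by
  rw [mem_L8_iff]; left; rfl

theorem mem_D8_iff' (π : Equiv.Perm (Fin 7)) : π ∈ D8 ↔ π ∈ L8 := by
  constructor
  · intro h
    unfold D8 at h
    induction h using Subgroup.closure_induction_right with
    | one => exact one_mem_L8
    | mul_right x _ y hy hx =>
      rcases hy with rfl | hy
      · exact L8_mul_r4 x hx
      · rw [Set.mem_singleton_iff] at hy
        subst hy
        exact L8_mul_s2 x hx
    | mul_inv_cancel x _ y hy hx =>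
      rcases hy with rfl | hy
      · exact L8_mul_r4_inv x hx
      · rw [Set.mem_singleton_iff] at hy
        subst hy
        exact L8_mul_s2_inv x hx
  · intro h
    have hr : r4 ∈ D8 := Subgroup.subset_closure (by simp)
    have hs : s2 ∈ D8 := Subgroup.subset_closure (by simp)
    rw [mem_L8_iff] at h
    rcases h with rfl | rfl | rfl | rfl | rfl | rfl | rfl | rfl
    · exact D8.one_mem
    · exact hr
    · exact D8.mul_mem hr hr
    · exact D8.mul_mem (D8.mul_mem hr hr) hr
    · exact hs
    · exact D8.mul_mem hr hs
    · exact D8.mul_mem (D8.mul_mem hr hr) hs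
    · exact D8.mul_mem (D8.mul_mem (D8.mul_mem hr hr) hr) hs

theorem mem_D8_iff (π : Equiv.Perm (Fin 7)) :
    π ∈ D8 ↔ π = 1 ∨ π = r4 ∨ π = r4 * r4 ∨ π = r4 * r4 * r4 ∨ π = s2 ∨ π = r4 * s2 ∨
      π = r4 * r4 * s2 ∨ π = r4 * r4 * r4 * s2 := by
  rw [mem_D8_iff', mem_L8_iff]

/-- the value at `0` and at `1` separates the eight elements -/
def key (π : Equiv.Perm (Fin 7)) : Fin 7 × Fin 7 := (π 0, π 1)

theorem L8_key_nodup : (L8.map key).Nodup := by decide

theorem L8_nodup : L8.Nodup := List.Nodup.of_map key L8_key_nodup

theorem card_D8 : Nat.card D8 = 8 := by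
  have hset : (D8 : Set (Equiv.Perm (Fin 7))) = ↑(L8.toFinset) := by
    ext π
    rw [SetLike.mem_coe, mem_D8_iff', Finset.mem_coe, List.mem_toFinset]
  have h1 : Nat.card D8 = Set.ncard (D8 : Set (Equiv.Perm (Fin 7))) :=
    (Nat.card_coe_set_eq _)
  rw [h1, hset, Set.ncard_coe_finset, List.toFinset_card_of_nodup L8_nodup]
  rfl

theorem D8_even : ∀ π ∈ D8, Equiv.Perm.sign π = 1 := by
  intro π hπ
  have hr : r4 = Equiv.swap (0 : Fin 7) 1 * Equiv.swap 1 2 * Equiv.swap 2 3 * Equiv.swap 4 5 :=
    Equiv.ext (by decide)
  have hs : s2 = Equiv.swap (0 : Fin 7) 2 * Equiv.swap 4 5 := Equiv.ext (by decide)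
  have hr1 : Equiv.Perm.sign r4 = 1 := by
    rw [hr]
    simp only [map_mul]
    rw [Equiv.Perm.sign_swap (by decide), Equiv.Perm.sign_swap (by decide),
      Equiv.Perm.sign_swap (by decide), Equiv.Perm.sign_swap (by decide)]
    decide
  have hs1 : Equiv.Perm.sign s2 = 1 := by
    rw [hs]
    simp only [map_mul]
    rw [Equiv.Perm.sign_swap (by decide), Equiv.Perm.sign_swap (by decide)]
    decide
  unfold D8 at hπ
  induction hπ using Subgroup.closure_induction with
  | mem x hx =>
    rcases hx with rfl | hx
    · exact hr1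
    · rw [Set.mem_singleton_iff] at hx
      subst hx
      exact hs1
  | one => exact map_one _
  | mul x y _ _ hx hy => rw [map_mul, hx, hy, one_mul]
  | inv x _ hx => rw [map_inv, hx, inv_one]

/-- `(0 1)(2 3) = r4³ s2` -/
theorem t0123_mem : (Equiv.swap (0 : Fin 7) 1 * Equiv.swap 2 3) ∈ D8 := by
  have h : Equiv.swap (0 : Fin 7) 1 * Equiv.swap 2 3 = r4 * r4 * r4 * s2 := Equiv.ext (by decide)
  rw [h, mem_D8_iff]
  right; right; right; right; right; right; right
  rfl

theorem D8_nonabelian : r4 * s2 ≠ s2 * r4 := by
  intro h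
  have h0 := congrArg (fun π : Equiv.Perm (Fin 7) => π 0) h
  revert h0
  decide

end Cfsg.Agent.Lib.Helper60_S2647_D8
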