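import Mathlib
import Cfsg.Agent.Lib.Helper80_S4756Defs

/-!
# S4756 package DER (architect helper80): under the centraliser condition the commutator subgroup is
a `p`-group
-/

set_option autoImplicit false

namespace Cfsg.Agent.Lib.Helper60_S4756_DER

open Cfsg.Agent.Lib.Helper80_S4756Defs

/-- under the centraliser condition a prime other than `p` does not divide the order of the
commutator subgroup -/
theorem not_dvd_card_commutator {G : Type*} [Group G] [Finite G] (p : ℕ) (hc : CentCond G p)
    (q : ℕ) (hq : q.Prime) (hqp : q ≠ p) : ¬ q ∣ Nat.card (commutator G) := by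
  intro hdvd
  have : Fact q.Prime := ⟨hq⟩
  obtain ⟨Q⟩ : Nonempty (Sylow q G) := inferInstance
  have hG0 : Nat.card G ≠ 0 := Nat.card_pos.ne'
  have hqG : q ∣ Nat.card G := hdvd.trans (Subgroup.card_subgroup_dvd_card _)
  have hQcard : Nat.card (Q : Subgroup G) = q ^ (Nat.card G).factorization q :=
    Sylow.card_eq_multiplicity Q
  have hv : 0 < (Nat.card G).factorization q := hq.factorization_pos_of_dvd hG0 hqG
  have hQnt : Nontrivial (Q : Subgroup G) := by
    rw [← Finite.one_lt_card_iff_nontrivial, hQcard]
    exact Nat.one_lt_pow hv.ne' hq.one_lt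
  have hcnt : Nontrivial (Subgroup.center (Q : Subgroup G)) := Q.isPGroup'.center_nontrivial
  obtain ⟨z, hz⟩ := exists_ne (1 : Subgroup.center (Q : Subgroup G))
  have hx1 : ((z : (Q : Subgroup G)) : G) ≠ 1 := by
    intro h
    apply hz
    apply Subtype.ext
    apply Subtype.ext
    exact h
  obtain ⟨k, hk⟩ := Q.isPGroup' (z : (Q : Subgroup G))
  obtain ⟨a, -, ha⟩ := (Nat.dvd_prime_pow hq).1 (orderOf_dvd_of_pow_eq_one hk)
  have hxo : orderOf ((z : (Q : Subgroup G)) : G) = q ^ a := by
    rw [Subgroup.orderOf_coe]; exact ha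
  have hcx := hc _ q a hx1 hq hqp hxo
  have hle : (Q : Subgroup G) ≤ Subgroup.centralizer ({((z : (Q : Subgroup G)) : G)} : Set G) := by
    intro y hy
    rw [Subgroup.mem_centralizer_iff]
    intro w hw
    rw [Set.mem_singleton_iff] at hw
    subst hw
    have h1 : (⟨y, hy⟩ : (Q : Subgroup G)) * (z : (Q : Subgroup G)) =
        (z : (Q : Subgroup G)) * ⟨y, hy⟩ := Subgroup.mem_center_iff.1 z.2 ⟨y, hy⟩
    have h2 : y * ((z : (Q : Subgroup G)) : G) = ((z : (Q : Subgroup G)) : G) * y :=
      congrArg (fun t : (Q : Subgroup G) => (t : G)) h1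
    exact h2.symm
  have hd1 : q ^ (Nat.card G).factorization q ∣ (commutator G).index := by
    rw [← hQcard, ← hcx]
    exact Subgroup.card_dvd_of_le hle
  have hd2 : q ^ ((Nat.card G).factorization q + 1) ∣ Nat.card G := by
    have e : Nat.card G = (commutator G).index * Nat.card (commutator G) := by
      rw [mul_comm]; exact (Subgroup.card_mul_index (commutator G)).symm
    rw [pow_succ]
    calc q ^ (Nat.card G).factorization q * q ∣ (commutator G).index * Nat.card (commutator G) :=
          Nat.mul_dvd_mul hd1 hdvd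
      _ = Nat.card G := e.symm
  have := (hq.pow_dvd_iff_le_factorization hG0).1 hd2
  omega

/-- **DER** -/
theorem der {G : Type*} [Group G] [Finite G] (p : ℕ) [Fact p.Prime] (hc : CentCond G p) :
    IsPGroup p (commutator G) := by
  have hn : Nat.card (commutator G) ≠ 0 := Nat.card_pos.ne'
  have h := Nat.eq_prime_pow_of_unique_prime_dvd (p := p) hn (by
    intro d hd hdvd
    by_contra hne
    exact not_dvd_card_commutator p hc d hd hne hdvd)
  exact IsPGroup.of_card h

end Cfsg.Agent.Lib.Helper60_S4756_DER
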