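import Mathlib
import Cfsg.Agent.S0246

/-!
Package CENTER_SP of the S2092 market (architect helper66): the centre of `Sp_{2m}(q)` is cyclic of
order `gcd(2, q - 1)`.
-/

set_option autoImplicit false

namespace Cfsg.Agent.Lib.Helper66_S92

/-- CENTER_SP: the centre of `Sp_{2m}(q)` is cyclic of order `gcd(2, q - 1)`. -/
theorem center_sp {F : Type*} [Field F] [Fintype F] (m : ℕ) (hm : 1 ≤ m) :
    Nonempty (Subgroup.center (Matrix.symplecticGroup (Fin m) F) ≃*
      Multiplicative (ZMod (Nat.gcd 2 (Fintype.card F - 1)))) := by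
  have hcard : Nat.card (Subgroup.center (Matrix.symplecticGroup (Fin m) F)) =
      Nat.gcd 2 (Fintype.card F - 1) := Cfsg.Agent.S0246.result rfl m hm
  have hle : Nat.gcd 2 (Fintype.card F - 1) ∣ 2 := Nat.gcd_dvd_left 2 _
  have h12 : Nat.gcd 2 (Fintype.card F - 1) = 1 ∨ Nat.gcd 2 (Fintype.card F - 1) = 2 :=
    (Nat.dvd_prime Nat.prime_two).mp hle
  have hcyc : IsCyclic (Subgroup.center (Matrix.symplecticGroup (Fin m) F)) := by
    rcases h12 with h1 | h2
    · have : Subsingleton (Subgroup.center (Matrix.symplecticGroup (Fin m) F)) := by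
        exact (Nat.card_eq_one_iff_unique.mp (by rw [hcard, h1])).1
      exact isCyclic_of_subsingleton
    · have : Fact (Nat.Prime 2) := ⟨Nat.prime_two⟩
      exact isCyclic_of_prime_card (p := 2) (by rw [hcard, h2])
  have e2 := zmodCyclicMulEquiv hcyc
  rw [hcard] at e2
  exact ⟨e2.symm⟩

end Cfsg.Agent.Lib.Helper66_S92
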