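import Mathlib
import Cfsg.Agent.Lib.Helper66_S92Rank
import Cfsg.Agent.Lib.Helper66_StCol

/-!
# S2092 package WCJ_C (architect helper66, market `s92_packages`): the short reflection `WC X a c s`
acting on the four long root subgroups `X a a`, `X c c`, `X (ng a) (ng a)`, `X (ng c) (ng c)`.
-/

set_option autoImplicit false
set_option linter.unusedVariables false
set_option linter.unusedSectionVars false

namespace Cfsg.Agent.Lib.Helper66_S92

open Cfsg.Agent.Lib.Helper5_SteinbergA Cfsg.Agent.Lib.Helper66_StCalc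

namespace H60C

/-- collapse in an abelian three-term string -/
theorem abel_collapse {G : Type*} [Group G] {K : Type*} [Field K] (A B C : K → G)
    (hA : ∀ t u, A t * A u = A (t + u)) (hA0 : A 0 = 1)
    (hB : ∀ t u, B t * B u = B (t + u)) (hB0 : B 0 = 1)
    (hAC : ∀ t u, A t * C u = C u * A t)
    (a1 a2 a3 b1 b2 c1 : K) (ha : a1 + a2 + a3 = 0) (hb : b1 + b2 = 0) :
    (A a1 * B b1) * (B b2 * A a2 * C c1) * A a3 = C c1 := by
  calc (A a1 * B b1) * (B b2 * A a2 * C c1) * A a3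
      = A a1 * (B b1 * B b2) * A a2 * C c1 * A a3 := by simp only [mul_assoc]
    _ = A (a1 + a2) * C c1 * A a3 := by rw [hB, hb, hB0, mul_one, hA]
    _ = C c1 * (A (a1 + a2) * A a3) := by rw [hAC, mul_assoc]
    _ = C c1 := by rw [hA, ha, hA0, mul_one]

theorem sq_one_cases {K : Type*} [Field K] {w : K} (hw : w * w = 1) : w = 1 ∨ w = -1 := by
  have h0 : (w - 1) * (w + 1) = 0 := by linear_combination hw
  rcases mul_eq_zero.mp h0 with h1 | h1
  · left; linear_combination h1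
  · right; linear_combination h1

end H60C

variable {ι : Type*} [DecidableEq ι] {K : Type*} [Field K] {G : Type*} [Group G]
  {X : ι ⊕ ι → ι ⊕ ι → K → G}

namespace H60C

/-- `wc_symm` from the relations without rank one -/
theorem wc_symm' (h : CStAB X) (a c : ι ⊕ ι) (s : K) :
    WC X c a s = WC X a c (om K a * om K c * s) := by
  rw [WC_eq, WC_eq, h.symm c a, h.symm (ng c) (ng a)]
  obtain ⟨w, hw⟩ : ∃ w : K, w = om K a := ⟨_, rfl⟩
  obtain ⟨z, hz⟩ : ∃ z : K, z = om K c := ⟨_, rfl⟩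
  have hw1 := sq_one_cases (w := w) (by rw [hw]; exact om_mul_self a)
  have hz1 := sq_one_cases (w := z) (by rw [hz]; exact om_mul_self c)
  have e1 : -(om K c * s) = -(om K a * (om K a * om K c * s)) := by
    rw [← hw, ← hz]
    rcases hw1 with h1 | h1 <;> rw [h1] <;> ring
  have e2 : om K a * -s⁻¹ = om K c * -(om K a * om K c * s)⁻¹ := by
    rw [← hw, ← hz]
    rcases hw1 with h1 | h1 <;> rcases hz1 with h2 | h2 <;> rw [h1, h2] <;> simp
  rw [e1, e2]

end H60C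

/-! ## WCJ_C : short reflection, the long roots -/

theorem wcj_C1 (h : CStAB X) (a c : ι ⊕ ι) (s u : K) (hs : s ≠ 0) (hac : a ≠ c) (hac' : a ≠ ng c) :
    WC X a c s * X a a u * (WC X a c s)⁻¹ = X (ng c) (ng c) (s⁻¹ ^ 2 * u) := by
  have hc'a : ng c ≠ a := fun h' => hac' h'.symm
  have hc'a' : ng c ≠ ng a := fun h' => hac (ng_injective h').symm
  obtain ⟨p, hp⟩ : ∃ p : K, p = -(om K a * s) := ⟨_, rfl⟩
  obtain ⟨r, hr⟩ : ∃ r : K, r = om K c * -s⁻¹ := ⟨_, rfl⟩
  rw [← MulAut.conj_apply, WC_eq, ← hp, ← hr, map_mul, map_mul, MulAut.mul_apply,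
    MulAut.mul_apply]
  -- `x1` fixes `X a a`
  have t1 : ∀ v : K, MulAut.conj (X a c p) (X a a v) = X a a v := by
    intro v
    rw [MulAut.conj_apply]
    exact h.cj_comm a c a a p v (ne_ng a) hac' (ne_ng a) hac'
  -- `x2` on `X a a`
  have t2 : ∀ v : K, MulAut.conj (X (ng a) (ng c) r) (X a a v) =
      X a (ng c) (om K a * v * r) * X (ng c) (ng c) (v * r ^ 2) * X a a v := by
    intro v
    rw [MulAut.conj_apply]
    exact h.cj_ls' a (ng c) v r hc'a hc'a'
  -- `x1` on `X a (ng c)`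
  have t3 : ∀ v : K, MulAut.conj (X a c p) (X a (ng c) v) =
      X a a (-(2 * om K c * p * v)) * X (ng c) a v := by
    intro v
    rw [MulAut.conj_apply, h.symm a (ng c) v]
    exact h.cj_ssl a c p v hac hac'
  -- `x1` on `X (ng c) (ng c)`
  have t4 : ∀ v : K, MulAut.conj (X a c p) (X (ng c) (ng c) v) =
      X (ng c) a (om K (ng c) * v * p) * X a a (v * p ^ 2) * X (ng c) (ng c) v := by
    intro v
    rw [MulAut.conj_apply]
    have := h.cj_ls' (ng c) a v p hc'a.symm (by rw [ng_ng]; exact hac)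
    rw [ng_ng, h.symm c a p] at this
    exact this
  rw [t1, t2, map_mul, map_mul, t3, t4, t1]
  -- collapse
  have hAC : ∀ t v : K, X a a t * X (ng c) (ng c) v = X (ng c) (ng c) v * X a a t := fun t v =>
    h.comm a a (ng c) (ng c) t v hc'a' hc'a' hc'a' hc'a'
  obtain ⟨w, hw⟩ : ∃ w : K, w = om K a := ⟨_, rfl⟩
  obtain ⟨z, hz⟩ : ∃ z : K, z = om K c := ⟨_, rfl⟩
  have hw1 := H60C.sq_one_cases (w := w) (by rw [hw]; exact om_mul_self a)
  have hz1 := H60C.sq_one_cases (w := z) (by rw [hz]; exact om_mul_self c)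
  rw [H60C.abel_collapse (X a a) (X (ng c) a) (X (ng c) (ng c)) (h.add a a) (h.X_zero a a)
    (h.add (ng c) a) (h.X_zero (ng c) a) hAC _ _ _ _ _ _ ?_ ?_]
  · congr 1
    rw [hr, ← hz]
    rcases hz1 with h2 | h2 <;> rw [h2] <;> ring
  · rw [hp, hr, ← hw, ← hz]
    rcases hw1 with h1 | h1 <;> rcases hz1 with h2 | h2 <;> rw [h1, h2] <;> field_simp <;> ring
  · rw [om_ng, hp, hr, ← hw, ← hz]
    rcases hw1 with h1 | h1 <;> rcases hz1 with h2 | h2 <;> rw [h1, h2] <;> field_simp <;> ring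

theorem wcj_C3 (h : CStAB X) (a c : ι ⊕ ι) (s u : K) (hs : s ≠ 0) (hac : a ≠ c) (hac' : a ≠ ng c) :
    WC X a c s * X (ng a) (ng a) u * (WC X a c s)⁻¹ = X c c (s ^ 2 * u) := by
  have hca : c ≠ a := hac.symm
  have hca' : c ≠ ng a := fun h' => hac' (by rw [h', ng_ng])
  have ha'c' : ng a ≠ ng c := fun h' => hac (ng_injective h')
  have ha'c : ng a ≠ c := fun h' => hca' h'.symm
  obtain ⟨p, hp⟩ : ∃ p : K, p = -(om K a * s) := ⟨_, rfl⟩
  obtain ⟨r, hr⟩ : ∃ r : K, r = om K c * -s⁻¹ := ⟨_, rfl⟩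
  rw [← MulAut.conj_apply, WC_eq, ← hp, ← hr, map_mul, map_mul, MulAut.mul_apply,
    MulAut.mul_apply]
  -- inner `x1` on `X (ng a) (ng a)`
  have t1 : ∀ v : K, MulAut.conj (X a c p) (X (ng a) (ng a) v) =
      X (ng a) c (om K (ng a) * v * p) * X c c (v * p ^ 2) * X (ng a) (ng a) v := by
    intro v
    rw [MulAut.conj_apply]
    have := h.cj_ls' (ng a) c v p hca' (by rw [ng_ng]; exact hca)
    rw [ng_ng] at this
    exact this
  -- `x2` on `X (ng a) c`
  have t2 : ∀ v : K, MulAut.conj (X (ng a) (ng c) r) (X (ng a) c v) =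
      X (ng a) (ng a) (-(2 * om K (ng c) * r * v)) * X c (ng a) v := by
    intro v
    rw [MulAut.conj_apply, h.symm (ng a) c v]
    have := h.cj_ssl (ng a) (ng c) r v ha'c' (by rw [ng_ng]; exact ha'c)
    rw [ng_ng] at this
    exact this
  -- `x2` on `X c c`
  have t3 : ∀ v : K, MulAut.conj (X (ng a) (ng c) r) (X c c v) =
      X c (ng a) (om K c * v * r) * X (ng a) (ng a) (v * r ^ 2) * X c c v := by
    intro v
    rw [MulAut.conj_apply, h.symm (ng a) (ng c) r]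
    exact h.cj_ls' c (ng a) v r ha'c ha'c'
  -- `x2` fixes `X (ng a) (ng a)`
  have t4 : ∀ v : K, MulAut.conj (X (ng a) (ng c) r) (X (ng a) (ng a) v) = X (ng a) (ng a) v := by
    intro v
    rw [MulAut.conj_apply]
    exact h.cj_comm (ng a) (ng c) (ng a) (ng a) r v (ne_ng (ng a)) (by rw [ng_ng]; exact ha'c)
      (ne_ng (ng a)) (by rw [ng_ng]; exact ha'c)
  -- outer `x1` fixes `X c c`
  have t5 : ∀ v : K, MulAut.conj (X a c p) (X c c v) = X c c v := by
    intro v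
    rw [MulAut.conj_apply]
    exact h.cj_comm a c c c p v hca' (ne_ng c) hca' (ne_ng c)
  have hAC : ∀ t v : K, X (ng a) (ng a) t * X c c v = X c c v * X (ng a) (ng a) t := fun t v =>
    h.comm (ng a) (ng a) c c t v (by rw [ng_ng]; exact hca) (by rw [ng_ng]; exact hca)
      (by rw [ng_ng]; exact hca) (by rw [ng_ng]; exact hca)
  obtain ⟨w, hw⟩ : ∃ w : K, w = om K a := ⟨_, rfl⟩
  obtain ⟨z, hz⟩ : ∃ z : K, z = om K c := ⟨_, rfl⟩
  have hw1 := H60C.sq_one_cases (w := w) (by rw [hw]; exact om_mul_self a)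
  have hz1 := H60C.sq_one_cases (w := z) (by rw [hz]; exact om_mul_self c)
  have inner : MulAut.conj (X (ng a) (ng c) r)
      (X (ng a) c (om K (ng a) * u * p) * X c c (u * p ^ 2) * X (ng a) (ng a) u) =
      X c c (u * p ^ 2) := by
    rw [map_mul, map_mul, t2, t3, t4]
    refine H60C.abel_collapse (X (ng a) (ng a)) (X c (ng a)) (X c c) (h.add (ng a) (ng a))
      (h.X_zero (ng a) (ng a)) (h.add c (ng a)) (h.X_zero c (ng a)) hAC _ _ _ _ _ _ ?_ ?_
    · rw [om_ng, om_ng, hp, hr, ← hw, ← hz]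
      rcases hw1 with h1 | h1 <;> rcases hz1 with h2 | h2 <;> rw [h1, h2] <;> field_simp <;> ring
    · rw [om_ng, hp, hr, ← hw, ← hz]
      rcases hw1 with h1 | h1 <;> rcases hz1 with h2 | h2 <;> rw [h1, h2] <;> field_simp <;> ring
  rw [t1, inner, t5]
  congr 1
  rw [hp, ← hw]
  rcases hw1 with h1 | h1 <;> rw [h1] <;> ring

theorem wcj_C2 (h : CStAB X) (a c : ι ⊕ ι) (s u : K) (hs : s ≠ 0) (hac : a ≠ c) (hac' : a ≠ ng c) :
    WC X a c s * X c c u * (WC X a c s)⁻¹ = X (ng a) (ng a) (s⁻¹ ^ 2 * u) := by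
  have hca' : c ≠ ng a := fun h' => hac' (by rw [h', ng_ng])
  obtain ⟨w, hw⟩ : ∃ w : K, w = om K a := ⟨_, rfl⟩
  obtain ⟨z, hz⟩ : ∃ z : K, z = om K c := ⟨_, rfl⟩
  have hw1 := H60C.sq_one_cases (w := w) (by rw [hw]; exact om_mul_self a)
  have hz1 := H60C.sq_one_cases (w := z) (by rw [hz]; exact om_mul_self c)
  have hs' : om K a * om K c * s ≠ 0 :=
    mul_ne_zero (mul_ne_zero (om_ne_zero a) (om_ne_zero c)) hs
  have e : WC X a c s = WC X c a (om K a * om K c * s) := by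
    rw [H60C.wc_symm' h a c (om K a * om K c * s)]
    congr 1
    rw [← hw, ← hz]
    rcases hw1 with h1 | h1 <;> rcases hz1 with h2 | h2 <;> rw [h1, h2] <;> ring
  rw [e, wcj_C1 h c a (om K a * om K c * s) u hs' hac.symm hca']
  congr 1
  rw [← hw, ← hz]
  rcases hw1 with h1 | h1 <;> rcases hz1 with h2 | h2 <;> rw [h1, h2] <;> simp

theorem wcj_C4 (h : CStAB X) (a c : ι ⊕ ι) (s u : K) (hs : s ≠ 0) (hac : a ≠ c) (hac' : a ≠ ng c) :
    WC X a c s * X (ng c) (ng c) u * (WC X a c s)⁻¹ = X a a (s ^ 2 * u) := by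
  have hca' : c ≠ ng a := fun h' => hac' (by rw [h', ng_ng])
  obtain ⟨w, hw⟩ : ∃ w : K, w = om K a := ⟨_, rfl⟩
  obtain ⟨z, hz⟩ : ∃ z : K, z = om K c := ⟨_, rfl⟩
  have hw1 := H60C.sq_one_cases (w := w) (by rw [hw]; exact om_mul_self a)
  have hz1 := H60C.sq_one_cases (w := z) (by rw [hz]; exact om_mul_self c)
  have hs' : om K a * om K c * s ≠ 0 :=
    mul_ne_zero (mul_ne_zero (om_ne_zero a) (om_ne_zero c)) hs
  have e : WC X a c s = WC X c a (om K a * om K c * s) := by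
    rw [H60C.wc_symm' h a c (om K a * om K c * s)]
    congr 1
    rw [← hw, ← hz]
    rcases hw1 with h1 | h1 <;> rcases hz1 with h2 | h2 <;> rw [h1, h2] <;> ring
  rw [e, wcj_C3 h c a (om K a * om K c * s) u hs' hac.symm hca']
  congr 1
  rw [← hw, ← hz]
  rcases hw1 with h1 | h1 <;> rcases hz1 with h2 | h2 <;> rw [h1, h2] <;> ring

end Cfsg.Agent.Lib.Helper66_S92
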