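import Mathlib
import Cfsg.Agent.Lib.Helper66_S92Rank
import Cfsg.Agent.Lib.Helper66_StCol

/-!
# S2092 package WCJ_D (architect helper66, market `s92_packages`): the long reflection `WC X a a s`
acting on `X a e`, `X (ng a) e`, `e ∉ {a, ng a}`.
-/

set_option autoImplicit false
set_option linter.unusedVariables false
set_option linter.unusedSectionVars false

namespace Cfsg.Agent.Lib.Helper66_S92

open Cfsg.Agent.Lib.Helper5_SteinbergA Cfsg.Agent.Lib.Helper66_StCalc

namespace H60D

/-- collapse in a Heisenberg string: `P (-u) C k Q v C k' P u = Q v` when the central part vanishes -/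
theorem heis_collapse {G : Type*} [Group G] {K : Type*} [Field K] (P Q C : K → G) (κ : K)
    (hP : ∀ t u, P t * P u = P (t + u)) (hP0 : P 0 = 1)
    (hC : ∀ t u, C t * C u = C (t + u)) (hC0 : C 0 = 1)
    (hCP : ∀ t u, C t * P u = P u * C t) (hCQ : ∀ t u, C t * Q u = Q u * C t)
    (hPQ : ∀ t v, P t * Q v * (P t)⁻¹ = C (κ * t * v) * Q v)
    (u v k k' : K) (hk : k + k' + κ * (-u) * v = 0) :
    P (-u) * C k * Q v * C k' * P u = Q v := by
  have hPinv : P u = (P (-u))⁻¹ := by
    rw [eq_inv_iff_mul_eq_one, hP, add_neg_cancel, hP0]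
  have c2 : C k' * (P (-u) * Q v) = (P (-u) * Q v) * C k' := by
    rw [← mul_assoc, hCP, mul_assoc, hCQ, ← mul_assoc]
  calc P (-u) * C k * Q v * C k' * P u
      = C k * (P (-u) * Q v * C k') * P u := by
        rw [← hCP k (-u)]; simp only [mul_assoc]
    _ = C k * (C k' * (P (-u) * Q v)) * P u := by rw [c2]
    _ = C k * C k' * (P (-u) * Q v * (P (-u))⁻¹) := by rw [hPinv]; simp only [mul_assoc]
    _ = C k * C k' * (C (κ * (-u) * v) * Q v) := by rw [hPQ]
    _ = C (k + k' + κ * (-u) * v) * Q v := by rw [hC, ← mul_assoc, hC]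
    _ = Q v := by rw [hk, hC0, one_mul]

end H60D

variable {ι : Type*} [DecidableEq ι] {K : Type*} [Field K] {G : Type*} [Group G]
  {X : ι ⊕ ι → ι ⊕ ι → K → G}

/-! ## WCJ_D : long reflection -/

theorem wcj_D1 (h : CStAB X) (a e : ι ⊕ ι) (s u : K) (hs : s ≠ 0) (he1 : e ≠ a) (he2 : e ≠ ng a) :
    WC X a a s * X a e u * (WC X a a s)⁻¹ = X (ng a) e (-(s⁻¹ * u)) := by
  have hea' : e ≠ ng (ng a) := by rw [ng_ng]; exact he1
  have hω : om K a * om K a = 1 := om_mul_self a
  -- abbreviations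
  obtain ⟨p, hp⟩ : ∃ p : K, p = -(om K a * s) := ⟨_, rfl⟩
  obtain ⟨r, hr⟩ : ∃ r : K, r = om K a * -s⁻¹ := ⟨_, rfl⟩
  rw [← MulAut.conj_apply, WC_eq, ← hp, ← hr, map_mul, map_mul, MulAut.mul_apply,
    MulAut.mul_apply]
  -- inner `x1` fixes `X a e u`
  have s1 : MulAut.conj (X a a p) (X a e u) = X a e u := by
    rw [MulAut.conj_apply]
    exact h.cj_comm a a a e p u (ne_ng a) (ne_ng a) he2 he2
  -- `x2` on `X a e u`
  have s2 : ∀ v : K, MulAut.conj (X (ng a) (ng a) r) (X a e v) =
      X (ng a) e (om K a * r * v) * X e e (-(r * v ^ 2)) * X a e v := by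
    intro v
    rw [MulAut.conj_apply]
    have := h.cj_ls (ng a) e r v he2 hea'
    rw [ng_ng, om_ng] at this
    rw [this]
    congr 2
    ring_nf
  -- outer `x1` on the three kinds of factors
  have s3 : ∀ v : K, MulAut.conj (X a a p) (X (ng a) e v) =
      X a e (-(om K a * p * v)) * X e e (-(p * v ^ 2)) * X (ng a) e v := by
    intro v
    rw [MulAut.conj_apply]
    exact h.cj_ls a e p v he1 he2
  have s4 : ∀ v : K, MulAut.conj (X a a p) (X e e v) = X e e v := by
    intro v
    rw [MulAut.conj_apply]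
    exact h.cj_comm a a e e p v he2 he2 he2 he2
  have s5 : ∀ v : K, MulAut.conj (X a a p) (X a e v) = X a e v := by
    intro v
    rw [MulAut.conj_apply]
    exact h.cj_comm a a a e p v (ne_ng a) (ne_ng a) he2 he2
  rw [s1, s2, map_mul, map_mul, s3, s4, s5]
  -- the Heisenberg string
  have hae : a ≠ ng e := fun h' => he2 (by rw [h', ng_ng])
  have ha'e : ng a ≠ ng e := fun h' => he1 (ng_injective h').symm
  have hCP : ∀ t v : K, X e e t * X a e v = X a e v * X e e t := fun t v =>
    h.comm e e a e t v hae hae (ne_ng e) (ne_ng e)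
  have hCQ : ∀ t v : K, X e e t * X (ng a) e v = X (ng a) e v * X e e t := fun t v =>
    h.comm e e (ng a) e t v ha'e ha'e (ne_ng e) (ne_ng e)
  have hPQ : ∀ t v : K, X a e t * X (ng a) e v * (X a e t)⁻¹ =
      X e e ((-2 * om K a) * t * v) * X (ng a) e v := by
    intro t v
    rw [h.symm a e t, h.cj_ssl e a t v he1 he2]
    congr 2
    ring
  obtain ⟨w, hw⟩ : ∃ w : K, w = om K a := ⟨_, rfl⟩
  have hw2 : w * w = 1 := by rw [hw]; exact hω
  have hw1 : w = 1 ∨ w = -1 := by
    have h0 : (w - 1) * (w + 1) = 0 := by linear_combination hw2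
    rcases mul_eq_zero.mp h0 with h1 | h1
    · left; linear_combination h1
    · right; linear_combination h1
  have e1 : -(om K a * p * (om K a * r * u)) = -u := by
    rw [hp, hr, ← hw]
    rcases hw1 with h1 | h1 <;> rw [h1] <;> field_simp
  have e2 : om K a * r * u = -(s⁻¹ * u) := by
    rw [hr, ← hw]
    rcases hw1 with h1 | h1 <;> rw [h1] <;> ring
  rw [e1, e2]
  refine H60D.heis_collapse (X a e) (X (ng a) e) (X e e) (-2 * om K a) (h.add a e) (h.X_zero a e)
    (h.add e e) (h.X_zero e e) hCP hCQ hPQ u (-(s⁻¹ * u)) _ _ ?_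
  rw [hp, hr, ← hw]
  rcases hw1 with h1 | h1 <;> rw [h1] <;> field_simp <;> ring

theorem wcj_D2 (h : CStAB X) (a e : ι ⊕ ι) (s u : K) (hs : s ≠ 0) (he1 : e ≠ a) (he2 : e ≠ ng a) :
    WC X a a s * X (ng a) e u * (WC X a a s)⁻¹ = X a e (s * u) := by
  have hea' : e ≠ ng (ng a) := by rw [ng_ng]; exact he1
  have hω : om K a * om K a = 1 := om_mul_self a
  obtain ⟨p, hp⟩ : ∃ p : K, p = -(om K a * s) := ⟨_, rfl⟩
  obtain ⟨r, hr⟩ : ∃ r : K, r = om K a * -s⁻¹ := ⟨_, rfl⟩
  rw [← MulAut.conj_apply, WC_eq, ← hp, ← hr, map_mul, map_mul, MulAut.mul_apply,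
    MulAut.mul_apply]
  have s2 : ∀ v : K, MulAut.conj (X (ng a) (ng a) r) (X a e v) =
      X (ng a) e (om K a * r * v) * X e e (-(r * v ^ 2)) * X a e v := by
    intro v
    rw [MulAut.conj_apply]
    have := h.cj_ls (ng a) e r v he2 hea'
    rw [ng_ng, om_ng] at this
    rw [this]
    congr 2
    ring_nf
  have s3 : ∀ v : K, MulAut.conj (X a a p) (X (ng a) e v) =
      X a e (-(om K a * p * v)) * X e e (-(p * v ^ 2)) * X (ng a) e v := by
    intro v
    rw [MulAut.conj_apply]
    exact h.cj_ls a e p v he1 he2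
  have s5 : ∀ v : K, MulAut.conj (X a a p) (X a e v) = X a e v := by
    intro v
    rw [MulAut.conj_apply]
    exact h.cj_comm a a a e p v (ne_ng a) (ne_ng a) he2 he2
  have s6 : ∀ v : K, MulAut.conj (X (ng a) (ng a) r) (X e e v) = X e e v := by
    intro v
    rw [MulAut.conj_apply]
    exact h.cj_comm (ng a) (ng a) e e r v hea' hea' hea' hea'
  have s7 : ∀ v : K, MulAut.conj (X (ng a) (ng a) r) (X (ng a) e v) = X (ng a) e v := by
    intro v
    rw [MulAut.conj_apply]
    exact h.cj_comm (ng a) (ng a) (ng a) e r v (ne_ng (ng a)) (ne_ng (ng a)) hea' hea'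
  have inner : MulAut.conj (X (ng a) (ng a) r)
      (X a e (-(om K a * p * u)) * X e e (-(p * u ^ 2)) * X (ng a) e u) =
      X (ng a) e (om K a * r * -(om K a * p * u)) *
      X e e (-(r * (-(om K a * p * u)) ^ 2)) * X a e (-(om K a * p * u)) *
      X e e (-(p * u ^ 2)) * X (ng a) e u := by
    rw [map_mul, map_mul, s2, s6, s7]
  rw [s3, inner]
  -- the Heisenberg string
  have hae : a ≠ ng e := fun h' => he2 (by rw [h', ng_ng])
  have ha'e : ng a ≠ ng e := fun h' => he1 (ng_injective h').symm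
  have hCQ : ∀ t v : K, X e e t * X a e v = X a e v * X e e t := fun t v =>
    h.comm e e a e t v hae hae (ne_ng e) (ne_ng e)
  have hCP : ∀ t v : K, X e e t * X (ng a) e v = X (ng a) e v * X e e t := fun t v =>
    h.comm e e (ng a) e t v ha'e ha'e (ne_ng e) (ne_ng e)
  have hPQ : ∀ t v : K, X (ng a) e t * X a e v * (X (ng a) e t)⁻¹ =
      X e e ((2 * om K a) * t * v) * X a e v := by
    intro t v
    have := h.cj_ssl e (ng a) t v he2 hea'
    rw [ng_ng, om_ng] at this
    rw [h.symm (ng a) e t, this]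
    congr 2
    ring
  obtain ⟨w, hw⟩ : ∃ w : K, w = om K a := ⟨_, rfl⟩
  have hw2 : w * w = 1 := by rw [hw]; exact hω
  have hw1 : w = 1 ∨ w = -1 := by
    have h0 : (w - 1) * (w + 1) = 0 := by linear_combination hw2
    rcases mul_eq_zero.mp h0 with h1 | h1
    · left; linear_combination h1
    · right; linear_combination h1
  have e1 : om K a * r * -(om K a * p * u) = -u := by
    rw [hp, hr, ← hw]
    rcases hw1 with h1 | h1 <;> rw [h1] <;> field_simp
  have e2 : -(om K a * p * u) = s * u := by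
    rw [hp, ← hw]
    rcases hw1 with h1 | h1 <;> rw [h1] <;> ring
  have key : X (ng a) e (om K a * r * -(om K a * p * u)) *
      X e e (-(r * (-(om K a * p * u)) ^ 2)) * X a e (-(om K a * p * u)) *
      X e e (-(p * u ^ 2)) * X (ng a) e u = X a e (s * u) := by
    rw [e1, e2]
    refine H60D.heis_collapse (X (ng a) e) (X a e) (X e e) (2 * om K a) (h.add (ng a) e)
      (h.X_zero (ng a) e) (h.add e e) (h.X_zero e e) hCP hCQ hPQ u (s * u) _ _ ?_
    rw [hp, hr, ← hw]
    rcases hw1 with h1 | h1 <;> rw [h1] <;> field_simp <;> ring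
  rw [key, s5]

end Cfsg.Agent.Lib.Helper66_S92
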