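import Mathlib
import Cfsg.Prelude.Def_GeometricClasses
import Cfsg.Prelude.Def_LieClassical
import Cfsg.Agent.Lib.Helper39_SUAschMax
import Cfsg.Agent.Lib.Helper39_SUExcl
import Cfsg.Agent.Lib.Helper13_Herm
import Cfsg.Agent.Lib.Helper13_GU
import Cfsg.Agent.Lib.Helper13_HermBridge
import Cfsg.Agent.Lib.Helper13_HermFrames
import Cfsg.Agent.Lib.Helper98_SubfBase
import Cfsg.Agent.Lib.Helper98_Decomp
import Cfsg.Agent.Lib.Helper54_OrthOdd_F3
import Cfsg.Agent.Lib.Helper60_OMX_B4

/-!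
SU36-E3b (helper27's package for S5778): in `SU_3(3)` the subfield group over `F_3` carrying the
hermitian form (`SO_3(3) ≅ S_4`) is not maximal: it lies in the stabiliser `4^2 : S_3` of an
orthogonal frame (helper60).
-/

set_option autoImplicit false
set_option linter.unusedSectionVars false
set_option linter.style.haveILetI false

namespace Cfsg.Agent.Lib.Helper60_SU36_E3b

open Matrix Cfsg.Geo Cfsg.Agent.Lib.Helper13_Herm Cfsg.Agent.Lib.Helper13_GU
  Cfsg.Agent.Lib.Helper13_HermBridge Cfsg.Agent.Lib.Helper98_SubfBase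

variable {F : Type*} [Field F] [Fintype F]

/-- the shape of the proof -/
lemma not_max' {G : Type*} [Group G] {S H X : Subgroup G} (h1 : H ≤ X) (h2 : X ≤ S) (h3 : X ≠ S)
    (h4 : X ≠ H) : ¬ IsMaximalIn S H := by
  intro hm
  rcases hm.2 X h1 h2 with h | h
  · exact h4 h
  · exact h3 h

/-! ### the field with nine elements -/

lemma three0 (hF : Fintype.card F = 3 ^ 2) : (3 : F) = 0 := by
  have h := FiniteField.cast_card_eq_zero F
  rw [hF] at h
  have h9 : (3 : F) * 3 = 0 := by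
    have e : ((3 ^ 2 : ℕ) : F) = 3 * 3 := by norm_num
    rw [← e]
    exact h
  rcases mul_eq_zero.1 h9 with h | h <;> exact h

lemma pow8 (hF : Fintype.card F = 3 ^ 2) {a : F} (ha : a ≠ 0) : a ^ 8 = 1 := by
  have := FiniteField.pow_card_sub_one_eq_one a ha
  rwa [hF] at this

lemma card_F0 (hF : Fintype.card F = 3 ^ 2) (F₀ : Subfield F)
    (hcard : Fintype.card F = Nat.card F₀ ^ 2) : Nat.card F₀ = 3 := by
  rw [hF] at hcard
  exact (Nat.pow_left_injective (by norm_num : (2 : ℕ) ≠ 0) hcard).symm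

lemma mem_cases {F₀ : Subfield F} (h3 : Nat.card F₀ = 3) {a : F} (ha : a ∈ F₀) :
    a = 0 ∨ a = 1 ∨ a = -1 := by
  haveI : Fintype F₀ := Fintype.ofFinite F₀
  have hK : Fintype.card F₀ = 3 := by rw [← Nat.card_eq_fintype_card]; exact h3
  rcases Cfsg.Agent.Lib.Helper54_OrthOdd_F3.elt_cases hK (⟨a, ha⟩ : F₀) with h | h | h
  · left; exact congrArg Subtype.val h
  · right; left; exact congrArg Subtype.val h
  · right; right; exact congrArg Subtype.val h

lemma cube_of_mem {F₀ : Subfield F} (h3 : Nat.card F₀ = 3) {a : F} (ha : a ∈ F₀) : a ^ 3 = a := by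
  rcases mem_cases h3 ha with rfl | rfl | rfl
  · simp
  · simp
  · norm_num

/-! ### similitudes of the hermitian form -/

/-- `W` multiplies the hermitian form by `c` -/
def Sim (c : F) (W : Matrix (Fin 3) (Fin 3) F) : Prop :=
  ∀ a b : Fin 3 → F, Cfsg.hermForm 3 F 3 (W *ᵥ a) (W *ᵥ b) = c * Cfsg.hermForm 3 F 3 a b

lemma sim_of_gram (hF : Fintype.card F = 3 ^ 2) {W : Matrix (Fin 3) (Fin 3) F} {c : F}
    (h : Wᵀ * W.map (fun t => t ^ 3) = c • (1 : Matrix (Fin 3) (Fin 3) F)) : Sim c W := by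
  intro u v
  rw [hermForm_eq_dot, hermForm_eq_dot, mulVec_pow_q hF, ← Matrix.vecMul_transpose,
    ← Matrix.dotProduct_mulVec, Matrix.mulVec_mulVec, h, Matrix.smul_mulVec, Matrix.one_mulVec,
    dotProduct_smul, smul_eq_mul]

lemma val_inv_mulVec (W : GL (Fin 3) F) (u : Fin 3 → F) :
    W.1 *ᵥ ((W⁻¹ : GL (Fin 3) F).1 *ᵥ u) = u := by
  rw [Matrix.mulVec_mulVec, ← Units.val_mul, mul_inv_cancel, Units.val_one, Matrix.one_mulVec]

lemma conj_mem_GU {W : GL (Fin 3) F} {c : F} (hW : Sim c W.1) {g : GL (Fin 3) F}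
    (hg : g ∈ Cfsg.GU 3 F 3) : W * g * W⁻¹ ∈ Cfsg.GU 3 F 3 := by
  rw [mem_GU_iff] at hg ⊢
  intro u v
  rw [Units.val_mul, Units.val_mul, ← Matrix.mulVec_mulVec, ← Matrix.mulVec_mulVec,
    ← Matrix.mulVec_mulVec, ← Matrix.mulVec_mulVec, hW, hg, ← hW, val_inv_mulVec, val_inv_mulVec]

lemma conj_inv_mem_GU {W : GL (Fin 3) F} {c : F} (hc : c ≠ 0) (hW : Sim c W.1) {h : GL (Fin 3) F}
    (hh : h ∈ Cfsg.GU 3 F 3) : W⁻¹ * h * W ∈ Cfsg.GU 3 F 3 := by
  rw [mem_GU_iff] at hh ⊢
  intro u v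
  have key : c * Cfsg.hermForm 3 F 3 ((W⁻¹ * h * W : GL (Fin 3) F).1 *ᵥ u)
      ((W⁻¹ * h * W : GL (Fin 3) F).1 *ᵥ v) = c * Cfsg.hermForm 3 F 3 u v := by
    rw [← hW, Units.val_mul, Units.val_mul, ← Matrix.mulVec_mulVec, ← Matrix.mulVec_mulVec,
      ← Matrix.mulVec_mulVec, ← Matrix.mulVec_mulVec, val_inv_mulVec, val_inv_mulVec, hh, hW]
  exact mul_left_cancel₀ hc key

/-! ### diagonalising the rational form -/

section diag

variable (F₀ : Subfield F)

/-- a vector over the subfield as a vector over `F` -/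
def cv (u : Fin 3 → F₀) : Fin 3 → F := fun i => (u i : F)

lemma cv_rat (u : Fin 3 → F₀) : ∀ i, cv F₀ u i ∈ F₀ := fun i => (u i).2

lemma cv_add (u v : Fin 3 → F₀) : cv F₀ (u + v) = cv F₀ u + cv F₀ v := rfl

lemma cv_smul (a : F₀) (u : Fin 3 → F₀) : cv F₀ (a • u) = (a : F) • cv F₀ u := rfl

/-- the value of the transported form on rational vectors -/
def bv (P : GL (Fin 3) F) (u v : Fin 3 → F₀) : F :=
  Cfsg.hermForm 3 F 3 (P.1 *ᵥ cv F₀ u) (P.1 *ᵥ cv F₀ v)

/-- the transported form as a bilinear form over the subfield -/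
noncomputable def bil (hF : Fintype.card F = 3 ^ 2) (h3 : ∀ a ∈ F₀, a ^ 3 = a) (P : GL (Fin 3) F)
    (hfrs : IsFormRationalStructure (Cfsg.hermForm 3 F 3) F₀ 1 P) :
    LinearMap.BilinForm F₀ (Fin 3 → F₀) :=
  LinearMap.mk₂ F₀
    (fun u v => (⟨bv F₀ P u v, by
      have := hfrs (cv F₀ u) (cv F₀ v) (cv_rat F₀ u) (cv_rat F₀ v)
      rwa [one_mul] at this⟩ : F₀))
    (fun u u' v => Subtype.ext (by
      simp only [bv, cv_add, Matrix.mulVec_add, hermForm_add_left, Subfield.coe_add]))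
    (fun a u v => Subtype.ext (by
      simp only [bv, cv_smul, Matrix.mulVec_smul, hermForm_smul_left, smul_eq_mul,
        Subfield.coe_mul]))
    (fun u v v' => Subtype.ext (by
      simp only [bv, cv_add, Matrix.mulVec_add, hermForm_add_right 3 hF, Subfield.coe_add]))
    (fun a u v => Subtype.ext (by
      simp only [bv, cv_smul, Matrix.mulVec_smul, hermForm_smul_right, smul_eq_mul,
        Subfield.coe_mul, h3 a a.2]))

theorem diag (hF : Fintype.card F = 3 ^ 2) (P : GL (Fin 3) F)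
    (hcard : Fintype.card F = Nat.card F₀ ^ 2)
    (hfrs : IsFormRationalStructure (Cfsg.hermForm 3 F 3) F₀ 1 P) :
    ∃ (Mg : GL (Fin 3) F) (c : F), RatM F₀ Mg.1 ∧ c ≠ 0 ∧ Sim c (P.1 * Mg.1) := by
  have h3 := card_F0 hF F₀ hcard
  haveI : Fintype F₀ := Fintype.ofFinite F₀
  have hK : Fintype.card F₀ = 3 := by rw [← Nat.card_eq_fintype_card]; exact h3
  have hcube : ∀ a ∈ F₀, a ^ 3 = a := fun a ha => cube_of_mem h3 ha
  set B := bil F₀ hF hcube P hfrs with hBdef
  have hB : ∀ u v, ((B u v : F₀) : F) = bv F₀ P u v := fun u v => rfl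
  have hsymm : ∀ u v, B u v = B v u := by
    intro u v
    apply Subtype.ext
    rw [hB, hB]
    have h1 : bv F₀ P v u ^ 3 = bv F₀ P u v := hermForm_pow_q 3 hF _ _
    rw [← h1, ← hB]
    exact hcube _ (B v u).2
  set Q : QuadraticForm F₀ (Fin 3 → F₀) := LinearMap.BilinMap.toQuadraticMap B with hQdef
  have hQ : ∀ u, Q u = B u u := fun u => LinearMap.BilinMap.toQuadraticMap_apply B u
  have hpol : ∀ u v, QuadraticMap.polar Q u v = 2 * B u v := by
    intro u v
    rw [hQdef, LinearMap.BilinMap.polar_toQuadraticMap, hsymm v u]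
    ring
  have h2 : (2 : F₀) ≠ 0 := Cfsg.Agent.Lib.Helper54_OrthOdd_F3.two_ne_zero hK
  have hPdet : P.1.det ≠ 0 := (Matrix.isUnits_det_units P).ne_zero
  have hnd : ∀ w ∈ (⊤ : Submodule F₀ (Fin 3 → F₀)), w ≠ 0 →
      ∃ x ∈ (⊤ : Submodule F₀ (Fin 3 → F₀)), QuadraticMap.polar Q w x ≠ 0 := by
    intro w _ hw
    by_contra hcon
    push Not at hcon
    apply hw
    have hz : ∀ x, bv F₀ P x w = 0 := by
      intro x
      have h1 := hcon x Submodule.mem_top
      rw [hpol] at h1
      have h4 : B w x = 0 := by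
        rcases mul_eq_zero.1 h1 with h | h
        · exact absurd h h2
        · exact h
      rw [← hB, ← hsymm, h4]
      rfl
    set v : Fin 3 → F := P.1 *ᵥ cv F₀ w with hv
    have hvec : P.1ᵀ *ᵥ (fun k => v k ^ 3) = 0 := by
      funext j
      have h1 := hz (Pi.single j 1)
      have h5 : cv F₀ (Pi.single j 1) = Pi.single j 1 := by
        funext i
        unfold cv
        by_cases hij : i = j
        · subst hij; simp
        · simp [Pi.single_eq_of_ne hij]
      unfold bv at h1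
      rw [h5, Matrix.mulVec_single_one] at h1
      rw [Pi.zero_apply, ← h1, ← hv]
      simp only [Matrix.mulVec, dotProduct, Matrix.transpose_apply, Cfsg.hermForm, Matrix.col_apply]
    have h6 := Matrix.eq_zero_of_mulVec_eq_zero (by rw [Matrix.det_transpose]; exact hPdet) hvec
    have h7 : v = 0 := by
      funext k
      have := congrFun h6 k
      exact pow_eq_zero_iff (by norm_num) |>.1 this
    have h8 : cv F₀ w = 0 := Matrix.eq_zero_of_mulVec_eq_zero hPdet h7
    funext i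
    have := congrFun h8 i
    exact Subtype.ext this
  obtain ⟨c, x, y, z, hfr⟩ := Cfsg.Agent.Lib.Helper60_OMX_B4.exists_fr hK Q ⊤
    (by rw [finrank_top, Module.finrank_fin_fun]) hnd
  -- the values of the form on the frame
  have hzero : ∀ u v, QuadraticMap.polar Q u v = 0 → bv F₀ P u v = 0 := by
    intro u v h
    rw [hpol] at h
    rcases mul_eq_zero.1 h with h | h
    · exact absurd h h2
    · rw [← hB, h]; rfl
  have hzero' : ∀ u v, QuadraticMap.polar Q u v = 0 → bv F₀ P v u = 0 := by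
    intro u v h
    rw [QuadraticMap.polar_comm] at h
    exact hzero v u h
  have hnorm : ∀ u, Q u = c → bv F₀ P u u = (c : F) := by
    intro u h
    rw [← hB, ← hQ, h]
  have hc : (c : F) ≠ 0 := fun h => hfr.hc (Subtype.ext h)
  set X : Fin 3 → Fin 3 → F₀ := ![x, y, z] with hX
  have hgramX : ∀ i j, bv F₀ P (X i) (X j) = if i = j then (c : F) else 0 := by
    intro i j
    fin_cases i <;> fin_cases j
    · simpa [hX] using hnorm x hfr.qx
    · simpa [hX] using hzero x y hfr.xy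
    · simpa [hX] using hzero x z hfr.xz
    · simpa [hX] using hzero' x y hfr.xy
    · simpa [hX] using hnorm y hfr.qy
    · simpa [hX] using hzero y z hfr.yz
    · simpa [hX] using hzero' x z hfr.xz
    · simpa [hX] using hzero' y z hfr.yz
    · simpa [hX] using hnorm z hfr.qz
  set M : Matrix (Fin 3) (Fin 3) F := Matrix.of (fun i j => ((X j i : F₀) : F)) with hM
  have hMrat : RatM F₀ M := fun i j => (X j i).2
  have hgram : (P.1 * M)ᵀ * (P.1 * M).map (fun t => t ^ 3) =
      (c : F) • (1 : Matrix (Fin 3) (Fin 3) F) := by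
    ext i j
    have h1 : ((P.1 * M)ᵀ * (P.1 * M).map (fun t => t ^ 3)) i j = bv F₀ P (X i) (X j) := by
      rw [Matrix.mul_apply]
      unfold bv Cfsg.hermForm
      rfl
    rw [h1, hgramX, Matrix.smul_apply, Matrix.one_apply, smul_eq_mul]
    by_cases hij : i = j
    · rw [if_pos hij, if_pos hij, mul_one]
    · rw [if_neg hij, if_neg hij, mul_zero]
  have hdet : M.det ≠ 0 := by
    intro h0
    have h1 := congrArg Matrix.det hgram
    rw [Matrix.det_mul, Matrix.det_transpose, Matrix.det_mul, h0, mul_zero, zero_mul,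
      Matrix.det_smul, Matrix.det_one, mul_one, Fintype.card_fin] at h1
    exact pow_ne_zero 3 hc h1.symm
  exact ⟨Matrix.GeneralLinearGroup.mkOfDetNeZero M hdet, (c : F), hMrat, hc, sim_of_gram hF hgram⟩

end diag

/-! ### frames -/

/-- the frame of the columns of `W` -/
def frame (W : GL (Fin 3) F) : Fin 3 → Submodule F (Fin 3 → F) :=
  fun i => Submodule.span F {W.1 *ᵥ Pi.single i 1}

lemma inv_val_mulVec (W : GL (Fin 3) F) (u : Fin 3 → F) :
    (W⁻¹ : GL (Fin 3) F).1 *ᵥ (W.1 *ᵥ u) = u := by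
  rw [Matrix.mulVec_mulVec, ← Units.val_mul, inv_mul_cancel, Units.val_one, Matrix.one_mulVec]

lemma frame_dec (W : GL (Fin 3) F) : IsMDecomposition 1 (frame W) := by
  have h1 : (W⁻¹ : GL (Fin 3) F).1 * W.1 = 1 := by
    rw [← Units.val_mul, inv_mul_cancel, Units.val_one]
  have h2 : W.1 * (W⁻¹ : GL (Fin 3) F).1 = 1 := by
    rw [← Units.val_mul, mul_inv_cancel, Units.val_one]
  set e : (Fin 3 → F) ≃ₗ[F] (Fin 3 → F) := Matrix.toLin'OfInv h1 h2 with he
  set b : Module.Basis (Fin 3) F (Fin 3 → F) := (Pi.basisFun F (Fin 3)).map e with hb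
  have hbi : ∀ i, b i = W.1 *ᵥ Pi.single i 1 := by
    intro i
    rw [hb, Module.Basis.map_apply, Pi.basisFun_apply, he]
    rfl
  have hfr : frame W = fun i => Submodule.span F {b i} := by
    funext i
    rw [hbi]
    rfl
  refine ⟨by norm_num, one_pos, fun i => ?_, ?_, ?_⟩
  · rw [hfr]
    exact finrank_span_singleton (b.ne_zero i)
  · rw [hfr]
    exact b.linearIndependent.iSupIndep_span_singleton
  · rw [hfr, ← Submodule.span_range_eq_iSup]
    exact b.span_eq

lemma frame_stab (W g : GL (Fin 3) F) (σ : Fin 3 → Fin 3) (ε : Fin 3 → F)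
    (hg : ∀ j, g.1 *ᵥ Pi.single j 1 = ε j • Pi.single (σ j) 1) :
    W * g * W⁻¹ ∈ decompositionStabilizer (frame W) := by
  have hdet : g.1.det ≠ 0 := (Matrix.isUnits_det_units g).ne_zero
  have hentry : ∀ k j, g.1 k j = ε j * (if k = σ j then 1 else 0) := by
    intro k j
    have := congrFun (hg j) k
    rw [Matrix.mulVec_single_one] at this
    simpa [Matrix.col_apply, Pi.single_apply] using this
  have hε : ∀ j, ε j ≠ 0 := by
    intro j h0
    apply hdet
    apply Matrix.det_eq_zero_of_column_eq_zero j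
    intro i
    rw [hentry, h0, zero_mul]
  have hsurj : Function.Surjective σ := by
    by_contra hns
    unfold Function.Surjective at hns
    push Not at hns
    obtain ⟨k, hk⟩ := hns
    apply hdet
    apply Matrix.det_eq_zero_of_row_eq_zero k
    intro j
    rw [hentry, if_neg (fun h => hk j h.symm), mul_zero]
  have hbij : Function.Bijective σ := ⟨Finite.injective_iff_surjective.mpr hsurj, hsurj⟩
  refine ⟨Equiv.ofBijective σ hbij, fun i => ?_⟩
  unfold frame
  rw [Submodule.map_span, Set.image_singleton, Matrix.toLin'_apply]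
  have h1 : (W * g * W⁻¹ : GL (Fin 3) F).1 *ᵥ (W.1 *ᵥ Pi.single i 1) =
      ε i • (W.1 *ᵥ Pi.single (σ i) 1) := by
    rw [Units.val_mul, Units.val_mul, ← Matrix.mulVec_mulVec, ← Matrix.mulVec_mulVec,
      inv_val_mulVec, hg, Matrix.mulVec_smul]
  rw [h1, Equiv.ofBijective_apply]
  exact Submodule.span_singleton_smul_eq (IsUnit.mk0 _ (hε i)) _

/-! ### the subfield group in the frame coordinates -/

lemma det_conj (W h : GL (Fin 3) F) : (W⁻¹ * h * W : GL (Fin 3) F).1.det = h.1.det := by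
  have h1 : (W⁻¹ : GL (Fin 3) F).1.det * W.1.det = 1 := by
    rw [← Matrix.det_mul, ← Units.val_mul, inv_mul_cancel, Units.val_one, Matrix.det_one]
  rw [Units.val_mul, Units.val_mul, Matrix.det_mul, Matrix.det_mul]
  linear_combination h.1.det * h1

lemma det_conj' (W h : GL (Fin 3) F) : (W * h * W⁻¹ : GL (Fin 3) F).1.det = h.1.det := by
  have h1 : (W⁻¹ : GL (Fin 3) F).1.det * W.1.det = 1 := by
    rw [← Matrix.det_mul, ← Units.val_mul, inv_mul_cancel, Units.val_one, Matrix.det_one]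
  rw [Units.val_mul, Units.val_mul, Matrix.det_mul, Matrix.det_mul]
  linear_combination h.1.det * h1

lemma prat_conj {F₀ : Subfield F} {P Mg h : GL (Fin 3) F} (hM : RatM F₀ Mg.1)
    (hh : h ∈ subfieldSubgroup F₀ P) :
    PRat F₀ ((P * Mg)⁻¹ * h * (P * Mg) : GL (Fin 3) F).1 := by
  rw [subfieldSubgroup_eq] at hh
  obtain ⟨g₀, hg₀, rfl⟩ := hh
  have h1 : (P * Mg)⁻¹ * (MulAut.conj P).toMonoidHom g₀ * (P * Mg) = Mg⁻¹ * g₀ * Mg := by
    simp only [MulEquiv.toMonoidHom_eq_coe, MonoidHom.coe_coe, MulAut.conj_apply]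
    group
  rw [h1, Units.val_mul, Units.val_mul]
  exact ((RatM.inv hM).prat.mul ((mem_PR g₀).mp hg₀)).mul hM.prat

/-- a unitary matrix of determinant one which is rational up to a scalar is monomial -/
lemma mono_of_rat (hF : Fintype.card F = 3 ^ 2) {F₀ : Subfield F} (h3 : Nat.card F₀ = 3)
    {g : GL (Fin 3) F} (hgU : g ∈ Cfsg.GU 3 F 3) (hdet : g.1.det = 1) (hpr : PRat F₀ g.1) :
    ∃ (σ : Fin 3 → Fin 3) (ε : Fin 3 → F),
      ∀ j, g.1 *ᵥ Pi.single j 1 = ε j • Pi.single (σ j) 1 := by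
  obtain ⟨ν, hν, hrat⟩ := hpr
  have hdν : ν ^ 3 ∈ F₀ := by
    have := hrat.det_mem
    rwa [Matrix.det_smul, hdet, mul_one, Fintype.card_fin] at this
  have h6 : ν ^ 6 = 1 := by
    rcases mem_cases h3 hdν with h | h | h
    · exact absurd h (pow_ne_zero 3 hν)
    · calc ν ^ 6 = (ν ^ 3) ^ 2 := by ring
        _ = 1 := by rw [h]; ring
    · calc ν ^ 6 = (ν ^ 3) ^ 2 := by ring
        _ = 1 := by rw [h]; ring
  have h8 := pow8 hF hν
  have hν2 : ν ^ 2 = 1 := by
    have : ν ^ 8 = ν ^ 6 * ν ^ 2 := by ring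
    rw [h8, h6, one_mul] at this
    exact this.symm
  have hνmem : ν ∈ F₀ := by
    have : (ν - 1) * (ν + 1) = 0 := by linear_combination hν2
    rcases mul_eq_zero.1 this with h | h
    · have : ν = 1 := by linear_combination h
      rw [this]; exact F₀.one_mem
    · have : ν = -1 := by linear_combination h
      rw [this]; exact F₀.neg_mem F₀.one_mem
  have hgrat : RatM F₀ g.1 := by
    have := hrat.smul hνmem
    rwa [smul_smul, ← sq, hν2, one_smul] at this
  haveI : Fintype F₀ := Fintype.ofFinite F₀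
  have hK : Fintype.card F₀ = 3 := by rw [← Nat.card_eq_fintype_card]; exact h3
  have hcol : ∀ j, ∃ k, ∀ i, i ≠ k → g.1 i j = 0 := by
    intro j
    have hn : Cfsg.hermForm 3 F 3 (g.1 *ᵥ Pi.single j 1) (g.1 *ᵥ Pi.single j 1) = 1 := by
      rw [(mem_GU_iff g).mp hgU, hermForm_single_left]
      simp
    rw [Matrix.mulVec_single_one] at hn
    unfold Cfsg.hermForm at hn
    rw [Fin.sum_univ_three] at hn
    simp only [Matrix.col_apply] at hn
    rw [cube_of_mem h3 (hgrat 0 j), cube_of_mem h3 (hgrat 1 j), cube_of_mem h3 (hgrat 2 j)] at hn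
    have hn' : (⟨g.1 0 j, hgrat 0 j⟩ : F₀) * ⟨g.1 0 j, hgrat 0 j⟩ +
        ⟨g.1 1 j, hgrat 1 j⟩ * ⟨g.1 1 j, hgrat 1 j⟩ +
        ⟨g.1 2 j, hgrat 2 j⟩ * ⟨g.1 2 j, hgrat 2 j⟩ = 1 := Subtype.ext hn
    rcases Cfsg.Agent.Lib.Helper54_OrthOdd_F3.unique_nonzero hK _ _ _ hn' with
      ⟨-, hb, hc⟩ | ⟨ha, -, hc⟩ | ⟨ha, hb, -⟩
    · refine ⟨0, fun i hi => ?_⟩
      fin_cases i
      · exact absurd rfl hi
      · exact congrArg Subtype.val hb
      · exact congrArg Subtype.val hc
    · refine ⟨1, fun i hi => ?_⟩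
      fin_cases i
      · exact congrArg Subtype.val ha
      · exact absurd rfl hi
      · exact congrArg Subtype.val hc
    · refine ⟨2, fun i hi => ?_⟩
      fin_cases i
      · exact congrArg Subtype.val ha
      · exact congrArg Subtype.val hb
      · exact absurd rfl hi
  choose σ hσ using hcol
  refine ⟨σ, fun j => g.1 (σ j) j, fun j => ?_⟩
  funext i
  rw [Matrix.mulVec_single_one, Matrix.col_apply, Pi.smul_apply, Pi.single_apply, smul_eq_mul]
  by_cases hi : i = σ j
  · rw [if_pos hi, mul_one, hi]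
  · rw [if_neg hi, mul_zero]
    exact hσ j i hi

lemma exists_i (hF : Fintype.card F = 3 ^ 2) : ∃ i : F, i * i = -1 := by
  obtain ⟨a, ha⟩ := Cfsg.Agent.Lib.Helper13_HermFrames.exists_norm_neg_one hF
  exact ⟨a * a, by linear_combination ha⟩

/-! ### the package -/

theorem E3b (hF : Fintype.card F = 3 ^ 2) (F₀ : Subfield F) (P : GL (Fin 3) F)
    (hcard : Fintype.card F = Nat.card F₀ ^ 2)
    (hfrs : IsFormRationalStructure (Cfsg.hermForm 3 F 3) F₀ 1 P) :
    ¬ IsMaximalIn (Cfsg.GU 3 F 3 ⊓ specialLinear (Fin 3) F)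
      (subfieldSubgroup F₀ P ⊓ (Cfsg.GU 3 F 3 ⊓ specialLinear (Fin 3) F)) := by
  obtain ⟨Mg, c, hM, hc, hsim⟩ := diag F₀ hF P hcard hfrs
  have h3 := card_F0 hF F₀ hcard
  have h30 := three0 hF
  set W : GL (Fin 3) F := P * Mg with hW
  have hsimW : Sim c W.1 := by rw [hW, Units.val_mul]; exact hsim
  have hdec := frame_dec W
  have hexcl : ¬ Cfsg.Agent.Lib.Helper39_SUAschMax.SUg 3 F 3 ≤ decompositionStabilizer (frame W) :=
    (Cfsg.Agent.Lib.Helper39_SUExcl.excl (n := 3) (q := 3) hF (le_refl 3) (by omega)).dec hdec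
  refine not_max' (X := decompositionStabilizer (frame W) ⊓
    (Cfsg.GU 3 F 3 ⊓ specialLinear (Fin 3) F)) ?_ inf_le_right ?_ ?_
  · rintro h ⟨hsub, hGU, hSL⟩
    refine ⟨?_, hGU, hSL⟩
    set g : GL (Fin 3) F := W⁻¹ * h * W with hg
    have hgU : g ∈ Cfsg.GU 3 F 3 := conj_inv_mem_GU hc hsimW hGU
    have hgdet : g.1.det = 1 := by
      rw [hg, det_conj]
      exact (Cfsg.Agent.Lib.Helper98_Decomp.mem_specialLinear_iff h).mp hSL
    have hpr : PRat F₀ g.1 := prat_conj hM hsub
    obtain ⟨σ, ε, hσ⟩ := mono_of_rat hF h3 hgU hgdet hpr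
    have h1 := frame_stab W g σ ε hσ
    have e : W * g * W⁻¹ = h := by rw [hg]; group
    rwa [e] at h1
  · intro heq
    apply hexcl
    intro s hs
    have h1 : s ∈ decompositionStabilizer (frame W) ⊓
        (Cfsg.GU 3 F 3 ⊓ specialLinear (Fin 3) F) := by rw [heq]; exact hs
    exact h1.1
  · intro heq
    obtain ⟨i, hi⟩ := exists_i hF
    have hi0 : i ≠ 0 := by
      rintro rfl
      rw [mul_zero] at hi
      exact one_ne_zero (neg_eq_zero.mp hi.symm)
    set u : Fˣ := Units.mk0 i hi0 with hu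
    have hu4 : u ^ 4 = 1 := by
      apply Units.ext
      rw [Units.val_pow_eq_pow_val, Units.val_one, hu, Units.val_mk0]
      calc i ^ 4 = (i * i) ^ 2 := by ring
        _ = 1 := by rw [hi]; ring
    set dv : Fin 3 → Fˣ := ![u, u⁻¹, 1] with hdv
    set d : GL (Fin 3) F := diagGL dv with hd
    have hdU : d ∈ Cfsg.GU 3 F 3 := by
      apply diagGL_mem
      intro k
      fin_cases k
      · exact hu4
      · show (u⁻¹) ^ 4 = 1
        rw [inv_pow, hu4, inv_one]
      · show (1 : Fˣ) ^ 4 = 1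
        exact one_pow 4
    have hddet : d.1.det = 1 := by
      rw [hd, diagGL_val, Matrix.det_diagonal, Fin.prod_univ_three]
      simp [hdv]
    set x : GL (Fin 3) F := W * d * W⁻¹ with hx
    have hx1 : x ∈ decompositionStabilizer (frame W) := by
      apply frame_stab W d id (fun k => ((dv k : Fˣ) : F))
      intro j
      rw [hd, diagGL_val, Matrix.diagonal_mulVec_single, mul_one, id]
      funext k
      rw [Pi.smul_apply, Pi.single_apply, Pi.single_apply, smul_eq_mul]
      by_cases hk : k = j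
      · rw [if_pos hk, if_pos hk, mul_one]
      · rw [if_neg hk, if_neg hk, mul_zero]
    have hx2 : x ∈ Cfsg.GU 3 F 3 := conj_mem_GU hsimW hdU
    have hx3 : x ∈ specialLinear (Fin 3) F := by
      rw [Cfsg.Agent.Lib.Helper98_Decomp.mem_specialLinear_iff, hx, det_conj']
      exact hddet
    have hxH : x ∈ subfieldSubgroup F₀ P ⊓ (Cfsg.GU 3 F 3 ⊓ specialLinear (Fin 3) F) := by
      rw [← heq]
      exact ⟨hx1, hx2, hx3⟩
    have hpr := prat_conj hM hxH.1
    have e : (P * Mg)⁻¹ * x * (P * Mg) = d := by rw [hx, hW]; group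
    rw [e] at hpr
    obtain ⟨ν, hν, hrat⟩ := hpr
    have h22 : ν ∈ F₀ := by
      have := hrat 2 2
      rw [hd, diagGL_val, Matrix.smul_apply, Matrix.diagonal_apply_eq] at this
      simpa [hdv] using this
    have h00 : ν * i ∈ F₀ := by
      have := hrat 0 0
      rw [hd, diagGL_val, Matrix.smul_apply, Matrix.diagonal_apply_eq] at this
      simpa [hdv, hu] using this
    have hi_mem : i ∈ F₀ := by
      have := F₀.mul_mem (F₀.inv_mem h22) h00
      rwa [← mul_assoc, inv_mul_cancel₀ hν, one_mul] at this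
    have h12 : (1 : F) ≠ -1 := by
      intro h
      have : (1 : F) = 0 := by linear_combination h30 - h
      exact one_ne_zero this
    rcases mem_cases h3 hi_mem with h | h | h
    · exact hi0 h
    · rw [h, mul_one] at hi
      exact h12 hi
    · rw [h, neg_mul_neg, mul_one] at hi
      exact h12 hi

end Cfsg.Agent.Lib.Helper60_SU36_E3b
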