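import Mathlib
import Cfsg.Agent.Lib.Helper85_Sp2Defs
import Cfsg.Agent.Lib.Helper85_Sp2Basic
import Cfsg.Prelude.Def_Classical

/-!
# S2142 package IND2 (architect helper85): the induced action on `W = ⟨v, vs⟩^⊥` has all
transvections, and `|U| = 4 |W|`.
-/

set_option autoImplicit false

namespace Cfsg.Agent.Lib.Helper60_Sp2_IND2

open Cfsg.Agent.Lib.Helper85_Sp2Defs Cfsg.Agent.Lib.Helper85_Sp2Basic

variable {𝒢 : Type*} {F : Type*} {U : Type*} [Group 𝒢] [Field F] [Fintype F]
  [AddCommGroup U] [Module F U] [Fintype U]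

theorem induced_hasTransv (hF : Fintype.card F = 2) (D : SpAct 𝒢 F U) (htr : D.HasTransv)
    (v vs : U) (hvs : D.β v vs = 1) (DW : SpAct ↥(D.Pstab v) F ↥(D.WSub v vs))
    (hDW : D.IsInduced v vs DW) : DW.HasTransv := by
  intro w
  obtain ⟨t, ht⟩ := htr (w : U)
  have hw := (D.mem_WSub v vs w).1 w.2
  have htv : D.ρ t v = v := by
    rw [ht v, beta_symm hF D v w, hw.1, zero_smul, add_zero]
  refine ⟨⟨t, htv⟩, ?_⟩
  intro x
  have hx := (D.mem_WSub v vs x).1 x.2
  apply Subtype.ext
  rw [hDW.2]
  show D.ρ t (x : U) + D.β (D.ρ t (x : U)) vs • v =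
    ((x + DW.β x w • w : ↥(D.WSub v vs)) : U)
  rw [Submodule.coe_add, Submodule.coe_smul, hDW.1, ht (x : U)]
  have e : D.β ((x : U) + D.β (x : U) (w : U) • (w : U)) vs = 0 := by
    rw [map_add, LinearMap.add_apply, map_smul, LinearMap.smul_apply, hx.2, hw.2, smul_zero,
      add_zero]
  rw [e, zero_smul, add_zero]

theorem card_WSub (hF : Fintype.card F = 2) (D : SpAct 𝒢 F U) (v vs : U)
    (hvs : D.β v vs = 1) : Fintype.card U = 4 * Nat.card ↥(D.WSub v vs) := by
  have hsv : D.β vs v = 1 := by rw [beta_symm hF D vs v, hvs]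
  have h2 : ∀ (a : F) (y : U), a • y + a • y = 0 := fun a y => D.two (a • y)
  have hmemW : ∀ x : U, x + D.β x vs • v + D.β x v • vs ∈ D.WSub v vs := by
    intro x
    rw [D.mem_WSub]
    constructor
    · simp only [map_add, LinearMap.add_apply, map_smul, LinearMap.smul_apply, D.alt, hsv,
        smul_eq_mul, mul_zero, mul_one, add_zero]
      exact F2_add_self hF _
    · simp only [map_add, LinearMap.add_apply, map_smul, LinearMap.smul_apply, D.alt, hvs,
        smul_eq_mul, mul_zero, mul_one, add_zero]
      exact F2_add_self hF _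
  let e : U ≃ F × F × ↥(D.WSub v vs) :=
    { toFun := fun x => (D.β x vs, D.β x v, ⟨x + D.β x vs • v + D.β x v • vs, hmemW x⟩)
      invFun := fun q => (q.2.2 : U) + q.1 • v + q.2.1 • vs
      left_inv := by
        intro x
        show x + D.β x vs • v + D.β x v • vs + D.β x vs • v + D.β x v • vs = x
        have e1 : x + D.β x vs • v + D.β x v • vs + D.β x vs • v + D.β x v • vs =
            x + (D.β x vs • v + D.β x vs • v) + (D.β x v • vs + D.β x v • vs) := by abel
        rw [e1, h2, h2, add_zero, add_zero]
      right_inv := by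
        rintro ⟨a, b, w⟩
        have hw := (D.mem_WSub v vs w).1 w.2
        have ea : D.β ((w : U) + a • v + b • vs) vs = a := by
          simp only [map_add, LinearMap.add_apply, map_smul, LinearMap.smul_apply, D.alt, hvs,
            hw.2, smul_eq_mul, mul_zero, mul_one, add_zero, zero_add]
        have eb : D.β ((w : U) + a • v + b • vs) v = b := by
          simp only [map_add, LinearMap.add_apply, map_smul, LinearMap.smul_apply, D.alt, hsv,
            hw.1, smul_eq_mul, mul_zero, mul_one, add_zero, zero_add]
        apply Prod.ext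
        · exact ea
        · apply Prod.ext
          · exact eb
          · apply Subtype.ext
            show (w : U) + a • v + b • vs + D.β ((w : U) + a • v + b • vs) vs • v +
              D.β ((w : U) + a • v + b • vs) v • vs = (w : U)
            rw [ea, eb]
            have e1 : (w : U) + a • v + b • vs + a • v + b • vs =
                (w : U) + (a • v + a • v) + (b • vs + b • vs) := by abel
            rw [e1, h2, h2, add_zero, add_zero] }
  rw [← Nat.card_eq_fintype_card, Nat.card_congr e, Nat.card_prod, Nat.card_prod,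
    Nat.card_eq_fintype_card (α := F), hF]
  ring

end Cfsg.Agent.Lib.Helper60_Sp2_IND2
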