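import Mathlib
import Cfsg.Agent.Lib.Helper85_Sp2Defs
import Cfsg.Agent.Lib.Helper85_Sp2Basic
import Cfsg.Prelude.Def_Classical
import Cfsg.Agent.Lib.Helper44_PSpTv

/-!
# S2142 package PSP (architect helper85): transfer of the minimal index from `Sp` to `PSp` over the
field with two elements (the centre is trivial).
-/

set_option autoImplicit false

namespace Cfsg.Agent.Lib.Helper60_Sp2_PSP

open Cfsg.Agent.Lib.Helper85_Sp2Defs Cfsg.Agent.Lib.Helper85_Sp2Basic

variable {𝒢 : Type*} {F : Type*} {U : Type*} [Group 𝒢] [Field F] [Fintype F]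
  [AddCommGroup U] [Module F U] [Fintype U]

/-- the centre of the symplectic group over the field with two elements is trivial -/
theorem center_eq_bot (hF : Fintype.card F = 2) (m : ℕ) (hm : 1 ≤ m) :
    Subgroup.center (Matrix.symplecticGroup (Fin m) F) = ⊥ := by
  have h2 : (2 : F) = 0 := by
    have h := Nat.cast_card_eq_zero F
    rw [hF] at h
    exact_mod_cast h
  rw [eq_bot_iff]
  intro z hz
  rw [Subgroup.mem_bot]
  exact Cfsg.Agent.Lib.Helper44_PSpTv.center_eq_bot_of_two hm h2 hz

theorem psp_transfer (hF : Fintype.card F = 2) (m N : ℕ) (hm : 1 ≤ m)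
    (h1 : ∀ H : Subgroup (Matrix.symplecticGroup (Fin m) F), H ≠ ⊤ → N ≤ H.index)
    (h2 : ∃ H : Subgroup (Matrix.symplecticGroup (Fin m) F), H.index = N) :
    (∀ H : Subgroup (Cfsg.PSp m F), H ≠ ⊤ → N ≤ H.index) ∧
    (∃ H : Subgroup (Cfsg.PSp m F), H.index = N) := by
  have hsurj : Function.Surjective
      (QuotientGroup.mk' (Subgroup.center (Matrix.symplecticGroup (Fin m) F))) :=
    QuotientGroup.mk'_surjective _
  constructor
  · intro H hH
    have hne : H.comap (QuotientGroup.mk' (Subgroup.center (Matrix.symplecticGroup (Fin m) F)))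
        ≠ ⊤ := by
      intro h
      apply hH
      apply Subgroup.comap_injective hsurj
      rw [h, Subgroup.comap_top]
    have := h1 _ hne
    rwa [Subgroup.index_comap_of_surjective _ hsurj] at this
  · obtain ⟨H0, hH0⟩ := h2
    refine ⟨H0.map (QuotientGroup.mk' (Subgroup.center (Matrix.symplecticGroup (Fin m) F))), ?_⟩
    have hsup : H0 ⊔ Subgroup.center (Matrix.symplecticGroup (Fin m) F) = H0 := by
      apply sup_eq_left.2
      rw [center_eq_bot hF m hm]
      exact bot_le
    rw [Subgroup.index_map, QuotientGroup.ker_mk', hsup,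
      MonoidHom.range_eq_top.2 hsurj, Subgroup.index_top, mul_one, hH0]

end Cfsg.Agent.Lib.Helper60_Sp2_PSP
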