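import Mathlib
import Cfsg.Agent.Lib.Helper67_T2ODefs
import Cfsg.Agent.Lib.Helper94_OrthNondeg
import Cfsg.Agent.Lib.Helper82_T2_KR
import Cfsg.Agent.Lib.Helper9_T2_BR
import Cfsg.Agent.Lib.Helper78_UT2_NEXA
import Cfsg.Agent.Lib.Helper26_T2O_KAP1O

set_option autoImplicit false
set_option linter.unusedSectionVars false
set_option linter.unusedVariables false

/-!
# TENS2O package EIGO (architect helper67), second seat: a linear map having every vector of the subspace `D` as an
eigenvector is scalar on `D`.  Wrapper of `Helper26_T2O_KAP1O.h26_eig_all`.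
-/

open Module
open Cfsg.Agent.Lib.Helper94_Symp Cfsg.Agent.Lib.Helper94_OrthSmall
  Cfsg.Agent.Lib.Helper94_OrthSiegel Cfsg.Agent.Lib.Helper94_OrthNondeg
  Cfsg.Agent.Lib.Helper67_Tens2Defs Cfsg.Agent.Lib.Helper67_T2ODefs

namespace Cfsg.Agent.Lib.Helper60_T2O_EIGO

variable {F W : Type*} [Field F] [Finite F] [AddCommGroup W] [Module F W] [FiniteDimensional F W]
variable {ω : LinearMap.BilinForm F W}

/-- EIGO : a linear map having every vector of the subspace `D` as an eigenvector is scalar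
on `D` -/
theorem eig_all (D : Submodule F W) (T : W →ₗ[F] W)
    (hT : ∀ y ∈ D, ∃ l : F, T y = l • y) : ∃ c : F, ∀ u ∈ D, T u = c • u :=
  Cfsg.Agent.Lib.Helper26_T2O_KAP1O.h26_eig_all D T hT

end Cfsg.Agent.Lib.Helper60_T2O_EIGO
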