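import Mathlib
import Cfsg.Agent.Lib.Helper67_T2ODefs
import Cfsg.Agent.Lib.Helper94_OrthNondeg
import Cfsg.Agent.Lib.Helper82_T2_KR
import Cfsg.Agent.Lib.Helper9_T2_BR
import Cfsg.Agent.Lib.Helper78_UT2_NEXA

set_option autoImplicit false
set_option linter.unusedSectionVars false
set_option linter.unusedVariables false

/-!
# TENS2O package GENO5 (architect helper67): the full Siegel group at `(0, f)`, from the Siegel groups at `(e, 0)` by
conjugation with `jE`.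
-/

open Module
open Cfsg.Agent.Lib.Helper94_Symp Cfsg.Agent.Lib.Helper94_OrthSmall
  Cfsg.Agent.Lib.Helper94_OrthSiegel Cfsg.Agent.Lib.Helper94_OrthNondeg
  Cfsg.Agent.Lib.Helper67_Tens2Defs Cfsg.Agent.Lib.Helper67_T2ODefs

namespace Cfsg.Agent.Lib.Helper60_T2O_GENO5

variable {F W : Type*} [Field F] [Finite F] [AddCommGroup W] [Module F W] [FiniteDimensional F W]
variable {ω : LinearMap.BilinForm F W}

/-- GENO5 : the full Siegel group at `(0, f)` -/
theorem sieg_right (halt : ω.IsAlt)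
    (M : Subgroup ((W × W) ≃ₗ[F] (W × W))) (hM : HypO ω M)
    (hl : ∀ (e : W) (z : W × W), tf ω (e, (0 : W)) z = 0 →
      sieg (qf ω) (tf ω) (e, (0 : W)) z ∈ M) :
    ∀ (f : W) (z : W × W), tf ω ((0 : W), f) z = 0 →
      sieg (qf ω) (tf ω) ((0 : W), f) z ∈ M := by
  intro f z hz
  have hjO : (jE : (W × W) ≃ₗ[F] (W × W)) ∈ oG (qf ω) := jE_mem_oG ω halt
  have hjf : (jE : (W × W) ≃ₗ[F] (W × W)) (-f, (0 : W)) = ((0 : W), f) := by
    simp [jE_apply]
  have hjz : (jE : (W × W) ≃ₗ[F] (W × W)) ((jE : (W × W) ≃ₗ[F] (W × W))⁻¹ z) = z := by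
    rw [← LinearEquiv.mul_apply, mul_inv_cancel]
    rfl
  have hq0 : qf ω (-f, (0 : W)) = 0 := by simp
  have ht0 : tf ω (-f, (0 : W)) ((jE : (W × W) ≃ₗ[F] (W × W))⁻¹ z) = 0 := by
    rw [← oG_B (qf ω) (tf ω) (qf_add ω halt) hjO, hjf, hjz]
    exact hz
  have h1 := conj_sieg (qf ω) (tf ω) (qf_smul ω) (qf_add ω halt) hjO hq0 ht0
  rw [hjf, hjz] at h1
  rw [← h1]
  exact M.mul_mem (M.mul_mem hM.jE_mem (hl _ _ ht0)) (M.inv_mem hM.jE_mem)

end Cfsg.Agent.Lib.Helper60_T2O_GENO5
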