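import Mathlib
import Cfsg.Agent.Lib.Helper67_T2ODefs
import Cfsg.Agent.Lib.Helper94_OrthNondeg
import Cfsg.Agent.Lib.Helper82_T2_KR
import Cfsg.Agent.Lib.Helper9_T2_BR
import Cfsg.Agent.Lib.Helper78_UT2_NEXA

set_option autoImplicit false
set_option linter.unusedSectionVars false
set_option linter.unusedVariables false

/-!
# TENS2O package LAGO (architect helper67, formaliser helper63): `lag_fibre`, verbatim

A `b`-dimensional subspace `L` of `W × W` stabilised by all `1 ⊗ (symplectic transvection)` is some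
fibre `x ⊗ W = {(a • u, c • u)}`.

Proof (twin of `Helper41_UT2_LAGU`): `L1 = {u | (u,0) ∈ L}` and `L2 = {u' | (0,u') ∈ L}` are invariant
under all symplectic transvections, hence `⊥` or `⊤` (`inv_bot_or_top`, = IRRO proved inline).  If one
of them is `⊤`, `L` is `W × 0` or `0 × W` (dimension).  Otherwise `L` is the graph of a linear map `φ`,
invariance gives `ω (φ u) y • y = ω u y • φ y`, so every vector is an eigenvector of `φ`, and `φ` is
scalar (`eig_top`, = EIGO for `D = ⊤`, proved inline).  The three lemmas on subspaces of `W × W`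
are copied from `Helper41_UT2_LAGUaux` (to keep the import closure of the spec header).
-/

open Module
open Cfsg.Agent.Lib.Helper94_Symp Cfsg.Agent.Lib.Helper94_OrthSmall
  Cfsg.Agent.Lib.Helper94_OrthSiegel Cfsg.Agent.Lib.Helper94_OrthNondeg
  Cfsg.Agent.Lib.Helper67_Tens2Defs Cfsg.Agent.Lib.Helper67_T2ODefs

namespace Cfsg.Agent.Lib.Helper63_T2O_LAGO

variable {F W : Type*} [Field F] [Finite F] [AddCommGroup W] [Module F W] [FiniteDimensional F W]
variable {ω : LinearMap.BilinForm F W}

/-- a linear map having every vector as an eigenvector is scalar -/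
theorem eig_top (T : W →ₗ[F] W) (hT : ∀ y : W, ∃ l : F, T y = l • y) :
    ∃ c : F, ∀ u : W, T u = c • u := by
  by_cases hW : ∀ u : W, u = 0
  · refine ⟨0, fun u => ?_⟩
    rw [hW u, map_zero, smul_zero]
  push Not at hW
  obtain ⟨u0, hu0⟩ := hW
  obtain ⟨c, hc⟩ := hT u0
  refine ⟨c, fun u => ?_⟩
  by_cases hdep : ∃ a : F, u = a • u0
  · obtain ⟨a, rfl⟩ := hdep
    rw [map_smul, hc, smul_smul, smul_smul, mul_comm]
  · obtain ⟨l, hl⟩ := hT u
    obtain ⟨m, hm⟩ := hT (u + u0)
    rw [map_add, hl, hc, smul_add] at hm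
    have key : (m - l) • u + (m - c) • u0 = 0 := by
      rw [sub_smul, sub_smul]
      have : m • u + m • u0 - (l • u + c • u0) = 0 := by rw [hm, sub_self]
      rw [← this]
      abel
    have hml : m - l = 0 := by
      by_contra hne
      apply hdep
      refine ⟨-((m - l)⁻¹ * (m - c)), ?_⟩
      have h1 : (m - l) • u = -((m - c) • u0) := eq_neg_of_add_eq_zero_left key
      have h2 : u = (m - l)⁻¹ • ((m - l) • u) := by
        rw [smul_smul, inv_mul_cancel₀ hne, one_smul]
      rw [h2, h1, smul_neg, smul_smul, neg_smul]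
    rw [hml, zero_smul, zero_add] at key
    have hmc : m - c = 0 := by
      rcases smul_eq_zero.mp key with h | h
      · exact h
      · exact absurd h hu0
    have : l = c := by
      have h1 : m = l := sub_eq_zero.mp hml
      have h2 : m = c := sub_eq_zero.mp hmc
      rw [← h1, h2]
    rw [hl, this]

/-- a subspace of `W` invariant under all symplectic transvections is `⊥` or `⊤` -/
theorem inv_bot_or_top (halt : ω.IsAlt) (hN : ω.Nondegenerate) (K : Submodule F W)
    (hK : ∀ (y : W) (s : F), ∀ x ∈ K, stv ω halt y s x ∈ K) : K = ⊥ ∨ K = ⊤ := by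
  by_cases hb : K = ⊥
  · exact Or.inl hb
  right
  obtain ⟨u, hu, hu0⟩ := Submodule.exists_mem_ne_zero_of_ne_bot hb
  have h1 : ∀ y : W, ω u y ≠ 0 → y ∈ K := by
    intro y hy
    have h2 := hK y 1 u hu
    rw [stv_apply, one_mul] at h2
    have h3 : (ω u y) • y ∈ K := by
      have := K.sub_mem h2 hu
      rwa [add_sub_cancel_left] at this
    have h4 := K.smul_mem (ω u y)⁻¹ h3
    rwa [smul_smul, inv_mul_cancel₀ hy, one_smul] at h4
  obtain ⟨z, hz⟩ : ∃ z : W, ω u z ≠ 0 := by
    by_contra hcon
    push Not at hcon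
    exact hu0 (hN.1 u hcon)
  rw [eq_top_iff]
  intro y _
  by_cases hy : ω u y = 0
  · have h5 : y + z ∈ K := by
      apply h1
      rw [map_add, hy, zero_add]
      exact hz
    have h6 : z ∈ K := h1 z hz
    have := K.sub_mem h5 h6
    rwa [add_sub_cancel_right] at this
  · exact h1 y hy

/-- a subspace of `W × W` of dimension `dim W` containing `W × 0` is `W × 0`
(copy of `Helper41_UT2_LAGUaux.eq_of_inl_le`) -/
theorem eq_of_inl_le (L : Submodule F (W × W)) (hL : finrank F L = finrank F W)
    (h : ∀ u : W, (u, (0 : W)) ∈ L) : ∀ x : W × W, x ∈ L ↔ x.2 = 0 := by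
  have hle : LinearMap.range (LinearMap.inl F W W) ≤ L := by
    rintro _ ⟨u, rfl⟩
    exact h u
  have hfr : finrank F (LinearMap.range (LinearMap.inl F W W)) = finrank F W :=
    LinearMap.finrank_range_of_inj LinearMap.inl_injective
  have heq : LinearMap.range (LinearMap.inl F W W) = L :=
    Submodule.eq_of_le_of_finrank_eq hle (by rw [hfr, hL])
  intro x
  rw [← heq]
  constructor
  · rintro ⟨u, rfl⟩
    rfl
  · intro hx
    exact ⟨x.1, by ext <;> simp [hx]⟩

/-- a subspace of `W × W` of dimension `dim W` containing `0 × W` is `0 × W`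
(copy of `Helper41_UT2_LAGUaux.eq_of_inr_le`) -/
theorem eq_of_inr_le (L : Submodule F (W × W)) (hL : finrank F L = finrank F W)
    (h : ∀ u : W, ((0 : W), u) ∈ L) : ∀ x : W × W, x ∈ L ↔ x.1 = 0 := by
  have hle : LinearMap.range (LinearMap.inr F W W) ≤ L := by
    rintro _ ⟨u, rfl⟩
    exact h u
  have hfr : finrank F (LinearMap.range (LinearMap.inr F W W)) = finrank F W :=
    LinearMap.finrank_range_of_inj LinearMap.inr_injective
  have heq : LinearMap.range (LinearMap.inr F W W) = L :=
    Submodule.eq_of_le_of_finrank_eq hle (by rw [hfr, hL])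
  intro x
  rw [← heq]
  constructor
  · rintro ⟨u, rfl⟩
    rfl
  · intro hx
    exact ⟨x.2, by ext <;> simp [hx]⟩

/-- a subspace of `W × W` of dimension `dim W` meeting `0 × W` trivially is a graph
(copy of `Helper41_UT2_LAGUaux.exists_graph`) -/
theorem exists_graph (L : Submodule F (W × W)) (hL : finrank F L = finrank F W)
    (h2 : ∀ u : W, ((0 : W), u) ∈ L → u = 0) :
    ∃ φ : W →ₗ[F] W, ∀ x : W × W, x ∈ L ↔ x.2 = φ x.1 := by
  set p1 : L →ₗ[F] W := (LinearMap.fst F W W).comp L.subtype with hp1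
  set p2 : L →ₗ[F] W := (LinearMap.snd F W W).comp L.subtype with hp2
  have hinj1 : Function.Injective p1 := by
    rw [← LinearMap.ker_eq_bot, LinearMap.ker_eq_bot']
    intro z hz
    have hz1 : (z : W × W).1 = 0 := hz
    have hmem : ((0 : W), (z : W × W).2) ∈ L := by
      have := z.2
      rwa [← hz1]
    have hz2 : (z : W × W).2 = 0 := h2 _ hmem
    apply Subtype.ext
    exact Prod.ext hz1 hz2
  set e1 : L ≃ₗ[F] W := LinearMap.linearEquivOfInjective p1 hinj1 hL with he1
  have he1a : ∀ z : L, e1 z = (z : W × W).1 := fun z => rfl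
  refine ⟨p2.comp e1.symm.toLinearMap, ?_⟩
  have hgr : ∀ u : W, (u, (p2.comp e1.symm.toLinearMap) u) ∈ L := by
    intro u
    have h1 : ((e1.symm u : L) : W × W).1 = u := by
      rw [← he1a, LinearEquiv.apply_symm_apply]
    have h3 : ((e1.symm u : L) : W × W) = (u, (p2.comp e1.symm.toLinearMap) u) := by
      apply Prod.ext
      · exact h1
      · rfl
    rw [← h3]
    exact (e1.symm u).2
  intro x
  constructor
  · intro hx
    have hd : ((0 : W), x.2 - (p2.comp e1.symm.toLinearMap) x.1) ∈ L := by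
      have := L.sub_mem hx (hgr x.1)
      have h4 : x - (x.1, (p2.comp e1.symm.toLinearMap) x.1)
          = ((0 : W), x.2 - (p2.comp e1.symm.toLinearMap) x.1) := by
        apply Prod.ext <;> simp
      rwa [h4] at this
    exact sub_eq_zero.mp (h2 _ hd)
  · intro hx
    have := hgr x.1
    rw [← hx] at this
    exact this

/-- LAGO : a `b`-dimensional subspace of `W × W` stabilised by all
`1 ⊗ (symplectic transvection)` is some fibre `x ⊗ W` -/
theorem lag_fibre (halt : ω.IsAlt) (hN : ω.Nondegenerate)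
    (L : Submodule F (W × W)) (hL : finrank F L = finrank F W)
    (hinv : ∀ (y : W) (s : F), ∀ x ∈ L, oE (stv ω halt y s) x ∈ L) :
    ∃ a c : F, (a ≠ 0 ∨ c ≠ 0) ∧ ∀ x : W × W, x ∈ L ↔ ∃ u : W, x = (a • u, c • u) := by
  have d1 := inv_bot_or_top halt hN (L.comap (LinearMap.inl F W W)) (by
    intro y s x hx
    have := hinv y s (x, 0) hx
    simpa using this)
  have d2 := inv_bot_or_top halt hN (L.comap (LinearMap.inr F W W)) (by
    intro y s x hx
    have := hinv y s (0, x) hx
    simpa using this)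
  rcases d1 with d1 | d1
  swap
  · -- `L = W × 0`
    have h := eq_of_inl_le L hL (fun u => by
      have : u ∈ L.comap (LinearMap.inl F W W) := by rw [d1]; trivial
      simpa using this)
    refine ⟨1, 0, Or.inl one_ne_zero, fun x => ?_⟩
    rw [h]
    constructor
    · intro hx
      exact ⟨x.1, by ext <;> simp [hx]⟩
    · rintro ⟨u, rfl⟩
      simp
  rcases d2 with d2 | d2
  swap
  · -- `L = 0 × W`
    have h := eq_of_inr_le L hL (fun u => by
      have : u ∈ L.comap (LinearMap.inr F W W) := by rw [d2]; trivial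
      simpa using this)
    refine ⟨0, 1, Or.inr one_ne_zero, fun x => ?_⟩
    rw [h]
    constructor
    · intro hx
      exact ⟨x.2, by ext <;> simp [hx]⟩
    · rintro ⟨u, rfl⟩
      simp
  -- graph case
  have h2 : ∀ u : W, ((0 : W), u) ∈ L → u = 0 := by
    intro u hu
    have : u ∈ L.comap (LinearMap.inr F W W) := by simpa using hu
    rw [d2] at this
    simpa using this
  obtain ⟨φ, hφ⟩ := exists_graph L hL h2
  have hcomm : ∀ y u : W, (ω (φ u) y) • y = (ω u y) • φ y := by
    intro y u
    have h1 : (u, φ u) ∈ L := (hφ _).mpr rfl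
    have h4 := (hφ _).mp (hinv y 1 _ h1)
    simp only [oE_apply, stv_apply, one_mul] at h4
    rw [map_add, map_smul] at h4
    exact add_left_cancel h4
  obtain ⟨c, hc⟩ := eig_top φ (by
    intro y
    by_cases hy0 : y = 0
    · exact ⟨0, by rw [hy0, map_zero, smul_zero]⟩
    · obtain ⟨z, hz⟩ : ∃ z : W, ω y z ≠ 0 := by
        by_contra hcon
        push Not at hcon
        exact hy0 (hN.1 y hcon)
      have hzy : ω z y ≠ 0 := alt_ne_zero_comm ω halt hz
      have h5 := hcomm y z
      refine ⟨(ω z y)⁻¹ * ω (φ z) y, ?_⟩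
      rw [mul_smul, h5, smul_smul, inv_mul_cancel₀ hzy, one_smul])
  refine ⟨1, c, Or.inl one_ne_zero, fun x => ?_⟩
  rw [hφ]
  constructor
  · intro hx
    exact ⟨x.1, by ext <;> simp [hx, hc]⟩
  · rintro ⟨u, rfl⟩
    simp [hc]

end Cfsg.Agent.Lib.Helper63_T2O_LAGO
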