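import Mathlib
import Cfsg.Agent.Lib.Helper67_T2ODefs
import Cfsg.Agent.Lib.Helper94_OrthNondeg
import Cfsg.Agent.Lib.Helper82_T2_KR
import Cfsg.Agent.Lib.Helper9_T2_BR
import Cfsg.Agent.Lib.Helper78_UT2_NEXA
import Cfsg.Agent.Lib.Helper63_T2O_LAGO

set_option autoImplicit false
set_option linter.unusedSectionVars false
set_option linter.unusedVariables false

/-!
# TENS2O package IRRO (architect helper67), second seat: a nonzero subspace stable under all symplectic transvections is
everything.  Wrapper of `Helper63_T2O_LAGO.inv_bot_or_top`.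
-/

open Module
open Cfsg.Agent.Lib.Helper94_Symp Cfsg.Agent.Lib.Helper94_OrthSmall
  Cfsg.Agent.Lib.Helper94_OrthSiegel Cfsg.Agent.Lib.Helper94_OrthNondeg
  Cfsg.Agent.Lib.Helper67_Tens2Defs Cfsg.Agent.Lib.Helper67_T2ODefs

namespace Cfsg.Agent.Lib.Helper60_T2O_IRRO

variable {F W : Type*} [Field F] [Finite F] [AddCommGroup W] [Module F W] [FiniteDimensional F W]
variable {ω : LinearMap.BilinForm F W}

/-- IRRO : a nonzero subspace stable under all symplectic transvections is everything -/
theorem irr_stv (halt : ω.IsAlt) (hN : ω.Nondegenerate) (U : Submodule F W) (hU : U ≠ ⊥)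
    (hinv : ∀ (y : W) (s : F), ∀ u ∈ U, stv ω halt y s u ∈ U) : U = ⊤ :=
  (Cfsg.Agent.Lib.Helper63_T2O_LAGO.inv_bot_or_top halt hN U hinv).resolve_left hU

end Cfsg.Agent.Lib.Helper60_T2O_IRRO
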