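import Mathlib
import Cfsg.Agent.Lib.Helper60_QuadTwo
import Cfsg.Agent.Lib.Helper33_Critical

/-!
Helper library (helper60): a finite `2`-group with exactly three involutions has a solvable
automorphism group (S3117).  Route: Thompson's critical subgroup of exponent four (helper33),
whose involutions are central; the squaring map on the quotient is a quadratic map without
nontrivial zeros, and `Helper60_QuadTwo` bounds the quotient and shows its isometry group solvable.
-/

set_option autoImplicit false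
set_option linter.unusedSectionVars false
set_option linter.style.haveILetI false

namespace Cfsg.Agent.Lib.Helper60_ThreeInv

open scoped commutatorElement

section ClassTwo

variable {P : Type*} [Group P]

/-- conjugation multiplies by a commutator -/
theorem conj_eq_mul_comm (x y : P) : y * x * y⁻¹ = x * ⁅x⁻¹, y⁆ := by
  rw [commutatorElement_def]; group

theorem conj_sq_eq (hc : ∀ x y z : P, ⁅x, y⁆ * z = z * ⁅x, y⁆) (x y : P) :
    y * (x * x) * y⁻¹ = (x * x) * (⁅x⁻¹, y⁆ * ⁅x⁻¹, y⁆) := by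
  calc y * (x * x) * y⁻¹ = (y * x * y⁻¹) * (y * x * y⁻¹) := by group
    _ = x * (⁅x⁻¹, y⁆ * x) * ⁅x⁻¹, y⁆ := by rw [conj_eq_mul_comm]; group
    _ = x * (x * ⁅x⁻¹, y⁆) * ⁅x⁻¹, y⁆ := by rw [hc]
    _ = (x * x) * (⁅x⁻¹, y⁆ * ⁅x⁻¹, y⁆) := by group

theorem sq_mul_eq (hc : ∀ x y z : P, ⁅x, y⁆ * z = z * ⁅x, y⁆) (x y : P) :
    (x * y) * (x * y) = (x * x) * (y * y) * ⁅x⁻¹, y⁆ := by
  calc (x * y) * (x * y) = x * (y * x * y⁻¹) * (y * y) := by group
    _ = x * (x * ⁅x⁻¹, y⁆) * (y * y) := by rw [conj_eq_mul_comm]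
    _ = x * x * (⁅x⁻¹, y⁆ * (y * y)) := by group
    _ = x * x * ((y * y) * ⁅x⁻¹, y⁆) := by rw [hc]
    _ = (x * x) * (y * y) * ⁅x⁻¹, y⁆ := by group

/-- in a group of exponent dividing four with central commutators, commutators are involutions -/
theorem comm_sq_eq_one (h4 : ∀ d : P, (d * d) * (d * d) = 1)
    (hc : ∀ x y z : P, ⁅x, y⁆ * z = z * ⁅x, y⁆) (x y : P) : ⁅x⁻¹, y⁆ * ⁅x⁻¹, y⁆ = 1 := by
  set c := ⁅x⁻¹, y⁆ with hcdef
  have hcc : ∀ z, c * z = z * c := fun z => hc _ _ z
  have h1 : y * (x * x) * y⁻¹ = (x * x) * (c * c) := conj_sq_eq hc x y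
  have h2 : (y * y) * (x * x) * (y * y)⁻¹ = x * x := by
    calc (y * y) * (x * x) * (y * y)⁻¹ = y * (y * (x * x) * y⁻¹) * y⁻¹ := by group
      _ = y * ((x * x) * (c * c)) * y⁻¹ := by rw [h1]
      _ = y * (x * x) * (c * (c * y⁻¹)) := by group
      _ = y * (x * x) * (c * (y⁻¹ * c)) := by rw [hcc y⁻¹]
      _ = y * (x * x) * ((c * y⁻¹) * c) := by group
      _ = y * (x * x) * ((y⁻¹ * c) * c) := by rw [hcc y⁻¹]
      _ = (y * (x * x) * y⁻¹) * (c * c) := by group
      _ = (x * x) * (c * c) * (c * c) := by rw [h1]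
      _ = (x * x) * ((c * c) * (c * c)) := by group
      _ = x * x := by rw [h4, mul_one]
  have h3 : ((x * x) * (y * y)) * ((x * x) * (y * y)) = 1 := by
    calc ((x * x) * (y * y)) * ((x * x) * (y * y))
        = (x * x) * ((y * y) * (x * x) * (y * y)⁻¹) * ((y * y) * (y * y)) := by
          generalize x * x = a
          generalize y * y = b
          group
      _ = (x * x) * (x * x) * ((y * y) * (y * y)) := by rw [h2]
      _ = 1 := by rw [h4, h4, mul_one]
  have h5 : ((x * y) * (x * y)) * ((x * y) * (x * y)) = c * c := by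
    rw [sq_mul_eq hc x y]
    calc (x * x) * (y * y) * c * ((x * x) * (y * y) * c)
        = (x * x) * (y * y) * (c * ((x * x) * (y * y))) * c := by group
      _ = (x * x) * (y * y) * (((x * x) * (y * y)) * c) * c := by rw [hcc]
      _ = (((x * x) * (y * y)) * ((x * x) * (y * y))) * (c * c) := by group
      _ = c * c := by rw [h3, one_mul]
  rw [← h5, h4]

theorem comm_sq_eq_one' (h4 : ∀ d : P, (d * d) * (d * d) = 1)
    (hc : ∀ x y z : P, ⁅x, y⁆ * z = z * ⁅x, y⁆) (x y : P) : ⁅x, y⁆ * ⁅x, y⁆ = 1 := by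
  have := comm_sq_eq_one h4 hc x⁻¹ y
  rwa [inv_inv] at this

/-- squares are central -/
theorem sq_central (h4 : ∀ d : P, (d * d) * (d * d) = 1)
    (hc : ∀ x y z : P, ⁅x, y⁆ * z = z * ⁅x, y⁆) (x y : P) : y * (x * x) = (x * x) * y := by
  have h1 := conj_sq_eq hc x y
  rw [comm_sq_eq_one h4 hc, mul_one] at h1
  calc y * (x * x) = (y * (x * x) * y⁻¹) * y := by group
    _ = (x * x) * y := by rw [h1]

/-- the polar form of the squaring map is the commutator -/
theorem beta_eq (h4 : ∀ d : P, (d * d) * (d * d) = 1)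
    (hc : ∀ x y z : P, ⁅x, y⁆ * z = z * ⁅x, y⁆) (x y : P) :
    ((x * y) * (x * y)) * (x * x) * (y * y) = ⁅x⁻¹, y⁆ := by
  rw [sq_mul_eq hc x y]
  calc (x * x) * (y * y) * ⁅x⁻¹, y⁆ * (x * x) * (y * y)
      = (x * x) * (y * y) * (⁅x⁻¹, y⁆ * (x * x)) * (y * y) := by group
    _ = (x * x) * (y * y) * ((x * x) * ⁅x⁻¹, y⁆) * (y * y) := by rw [hc]
    _ = (x * x) * ((y * y) * (x * x)) * (⁅x⁻¹, y⁆ * (y * y)) := by group
    _ = (x * x) * ((x * x) * (y * y)) * ((y * y) * ⁅x⁻¹, y⁆) := by
      rw [hc, sq_central h4 hc x (y * y)]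
    _ = ((x * x) * (x * x)) * ((y * y) * (y * y)) * ⁅x⁻¹, y⁆ := by group
    _ = ⁅x⁻¹, y⁆ := by rw [h4, h4, one_mul, one_mul]

/-- multiplicativity of the commutator in the second variable -/
theorem comm_mul_right (hc : ∀ x y z : P, ⁅x, y⁆ * z = z * ⁅x, y⁆) (x y z : P) :
    ⁅x⁻¹, y * z⁆ = ⁅x⁻¹, y⁆ * ⁅x⁻¹, z⁆ := by
  calc ⁅x⁻¹, y * z⁆ = x⁻¹ * (y * (z * x * z⁻¹) * y⁻¹) := by
        rw [commutatorElement_def]; group
    _ = x⁻¹ * (y * (x * ⁅x⁻¹, z⁆) * y⁻¹) := by rw [conj_eq_mul_comm x z]
    _ = x⁻¹ * (y * x * (⁅x⁻¹, z⁆ * y⁻¹)) := by group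
    _ = x⁻¹ * (y * x * (y⁻¹ * ⁅x⁻¹, z⁆)) := by rw [hc]
    _ = x⁻¹ * (y * x * y⁻¹) * ⁅x⁻¹, z⁆ := by group
    _ = x⁻¹ * (x * ⁅x⁻¹, y⁆) * ⁅x⁻¹, z⁆ := by rw [conj_eq_mul_comm x y]
    _ = ⁅x⁻¹, y⁆ * ⁅x⁻¹, z⁆ := by group

end ClassTwo

open Cfsg.Agent.Lib.Helper60_QuadTwo

section Omega

variable {P : Type*} [Group P]

theorem omega_comm (Ω : Subgroup P) (hΩ : ∀ d, d ∈ Ω ↔ d * d = 1) :
    ∀ a ∈ Ω, ∀ b ∈ Ω, a * b = b * a := by
  intro a ha b hb
  have hab := (hΩ _).mp (Ω.mul_mem ha hb)
  have ha' := (hΩ _).mp ha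
  have hb' := (hΩ _).mp hb
  calc a * b = a * ((a * b) * (a * b)) * b := by rw [hab, mul_one]
    _ = (a * a) * (b * a) * (b * b) := by group
    _ = b * a := by rw [ha', hb', one_mul, mul_one]

variable [Finite P]

theorem omega_central (h4 : ∀ d : P, (d * d) * (d * d) = 1)
    (hc : ∀ x y z : P, ⁅x, y⁆ * z = z * ⁅x, y⁆)
    (Ω : Subgroup P) (hΩ : ∀ d, d ∈ Ω ↔ d * d = 1) (hΩcard : Nat.card Ω ≤ 4) :
    ∀ a ∈ Ω, ∀ b : P, a * b = b * a := by
  intro a ha b
  by_contra hab
  set z := ⁅a⁻¹, b⁆ with hz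
  have haa : a * a = 1 := (hΩ a).mp ha
  have hconj : b * a * b⁻¹ = a * z := conj_eq_mul_comm a b
  have hz1 : z ≠ 1 := by
    intro h
    rw [h, mul_one] at hconj
    apply hab
    calc a * b = (b * a * b⁻¹) * b := by rw [hconj]
      _ = b * a := by group
  have hzz : z * z = 1 := comm_sq_eq_one h4 hc a b
  have hzΩ : z ∈ Ω := (hΩ z).mpr hzz
  have hzc : z ∈ Subgroup.center P := by
    rw [Subgroup.mem_center_iff]
    intro g
    exact (hc _ _ g).symm
  have hbbΩ : b * b ∈ Ω := (hΩ _).mpr (h4 b)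
  have hbbc : b * b ∈ Subgroup.center P := by
    rw [Subgroup.mem_center_iff]
    intro g
    exact sq_central h4 hc b g
  have hsq : (a * b) * (a * b) = (b * b) * z := by
    rw [sq_mul_eq hc a b, haa, one_mul]
  have haZ : a ∉ Ω ⊓ Subgroup.center P := by
    intro h
    apply hab
    exact ((Subgroup.mem_center_iff.mp h.2) b).symm
  have hfin : Finite Ω := inferInstance
  have hcardZ : Nat.card (Ω ⊓ Subgroup.center P : Subgroup P) ≤ 2 := by
    have hdvd : Nat.card (Ω ⊓ Subgroup.center P : Subgroup P) ∣ Nat.card Ω :=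
      Subgroup.card_dvd_of_le inf_le_left
    have hne : Nat.card (Ω ⊓ Subgroup.center P : Subgroup P) ≠ Nat.card Ω := by
      intro h
      have := Subgroup.eq_of_le_of_card_ge (inf_le_left : Ω ⊓ Subgroup.center P ≤ Ω) h.ge
      apply haZ
      rw [this]
      exact ha
    obtain ⟨k, hk⟩ := hdvd
    have hpos : 0 < Nat.card (Ω ⊓ Subgroup.center P : Subgroup P) := Nat.card_pos
    have hk2 : 2 ≤ k := by
      by_contra hk2
      have hk01 : k = 0 ∨ k = 1 := by omega
      rcases hk01 with rfl | rfl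
      · rw [mul_zero] at hk
        have : 0 < Nat.card Ω := Nat.card_pos
        omega
      · rw [mul_one] at hk; exact absurd hk.symm hne
    nlinarith
  have hord : orderOf z = 2 := orderOf_eq_prime (by rw [pow_two]; exact hzz) hz1
  have hzp : Subgroup.zpowers z = Ω ⊓ Subgroup.center P := by
    apply Subgroup.eq_of_le_of_card_ge
    · rw [Subgroup.zpowers_le]
      exact ⟨hzΩ, hzc⟩
    · rw [Nat.card_zpowers, hord]
      exact hcardZ
  have hbb : b * b = 1 ∨ b * b = z := by
    apply mem_zpowers_of_sq hzz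
    rw [hzp]
    exact ⟨hbbΩ, hbbc⟩
  rcases hbb with h1 | h1
  · exact hab (omega_comm Ω hΩ a ha b ((hΩ b).mpr h1))
  · rw [h1, hzz] at hsq
    have habΩ : a * b ∈ Ω := (hΩ _).mpr hsq
    have hbΩ : b ∈ Ω := by
      have := Ω.mul_mem (Ω.inv_mem ha) habΩ
      rwa [inv_mul_cancel_left] at this
    exact hab (omega_comm Ω hΩ a ha b hbΩ)

omit [Finite P] in
theorem omega_characteristic (Ω : Subgroup P) (hΩ : ∀ d, d ∈ Ω ↔ d * d = 1) : Ω.Characteristic := by
  rw [Subgroup.characteristic_iff_map_le]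
  intro φ d hd
  obtain ⟨e, he, rfl⟩ := hd
  rw [hΩ]
  show φ e * φ e = 1
  rw [← map_mul, (hΩ e).mp he, map_one]

end Omega


section Quot

variable {P : Type*} [Group P]

/-- the action of automorphisms on the quotient by a characteristic subgroup -/
noncomputable def quotAut (N : Subgroup P) [N.Characteristic] : MulAut P →* MulAut (P ⧸ N) where
  toFun φ := QuotientGroup.congr N N φ (Subgroup.characteristic_iff_map_eq.mp inferInstance φ)
  map_one' := by
    ext x
    induction x using QuotientGroup.induction_on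
    rfl
  map_mul' φ ψ := by
    ext x
    induction x using QuotientGroup.induction_on
    rfl

theorem quotAut_mk (N : Subgroup P) [N.Characteristic] (φ : MulAut P) (x : P) :
    quotAut N φ (x : P ⧸ N) = ((φ x : P) : P ⧸ N) := rfl

theorem card_mulAut_dvd (A : Type*) [Group A] [Finite A] :
    Nat.card (MulAut A) ∣ (Nat.card A).factorial := by
  rw [← Nat.card_perm]
  exact Subgroup.card_dvd_of_injective (MulAut.toPerm A) (by
    intro _ _ hab
    apply MulEquiv.ext
    intro w
    exact congrArg (fun e : Equiv.Perm A => e w) hab)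

theorem isSolvable_mulAut_of_card_le_four (A : Type*) [Group A] [Finite A]
    (h : Nat.card A ≤ 4) : Group.IsSolvable (MulAut A) := by
  refine Cfsg.Agent.Lib.Helper3_CharBurnside.isSolvable_of_two_primes 2 3 Nat.prime_two
    Nat.prime_three _ (MulAut A) rfl ?_
  intro r hr hdvd
  have hle : r ≤ 4 :=
    ((Nat.Prime.dvd_factorial hr).mp (hdvd.trans (card_mulAut_dvd A))).trans h
  have h2 := hr.two_le
  interval_cases r
  · left; rfl
  · right; rfl
  · exfalso; revert hr; decide

end Quot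


section Main

variable {P : Type*} [Group P] [Finite P]

/-- the squaring map on the quotient by the (central) subgroup of involutions -/
theorem exists_sqMap (h4 : ∀ d : P, (d * d) * (d * d) = 1)
    (Ω : Subgroup P) [Ω.Normal] (hΩ : ∀ d, d ∈ Ω ↔ d * d = 1)
    (hcen : ∀ a ∈ Ω, ∀ b : P, a * b = b * a) :
    ∃ s : P ⧸ Ω → Ω, ∀ x : P, (s (x : P ⧸ Ω) : P) = x * x := by
  refine ⟨Quotient.lift (s := QuotientGroup.leftRel Ω)
    (fun x : P => (⟨x * x, (hΩ _).mpr (h4 x)⟩ : Ω)) ?_, fun x => rfl⟩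
  intro a b hab
  have hab' : a⁻¹ * b ∈ Ω := QuotientGroup.leftRel_apply.mp hab
  apply Subtype.ext
  show a * a = b * b
  set v := a⁻¹ * b with hv
  have hb : b = a * v := by rw [hv]; group
  have hvv : v * v = 1 := (hΩ v).mp hab'
  rw [hb]
  calc a * a = a * a * (v * v) := by rw [hvv, mul_one]
    _ = a * (a * v) * v := by group
    _ = a * (v * a) * v := by rw [hcen v hab' a]
    _ = a * v * (a * v) := by group

/-- the quadratic data attached to a group of exponent four with central commutators and at most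
three involutions -/
theorem exists_qdata (h4 : ∀ d : P, (d * d) * (d * d) = 1)
    (hc : ∀ x y z : P, ⁅x, y⁆ * z = z * ⁅x, y⁆)
    (Ω : Subgroup P) [Ω.Normal] (hΩ : ∀ d, d ∈ Ω ↔ d * d = 1)
    (hcen : ∀ a ∈ Ω, ∀ b : P, a * b = b * a) :
    ∃ q : QData (P ⧸ Ω) Ω, ∀ x : P, (q.s (x : P ⧸ Ω) : P) = x * x := by
  obtain ⟨s, hs⟩ := exists_sqMap h4 Ω hΩ hcen
  refine ⟨⟨s, ?_, ?_, ?_, ?_⟩, hs⟩
  · intro w
    induction w using QuotientGroup.induction_on with
    | H x =>
      rw [← QuotientGroup.mk_mul, QuotientGroup.eq_one_iff, hΩ]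
      exact h4 x
  · intro v
    apply Subtype.ext
    exact (hΩ v.1).mp v.2
  · intro w
    induction w using QuotientGroup.induction_on with
    | H x =>
      rw [QuotientGroup.eq_one_iff, hΩ, ← hs x]
      constructor
      · intro h; rw [h]; rfl
      · intro h; exact Subtype.ext h
  · intro x y z
    induction x using QuotientGroup.induction_on with
    | H x =>
    induction y using QuotientGroup.induction_on with
    | H y =>
    induction z using QuotientGroup.induction_on with
    | H z =>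
      apply Subtype.ext
      simp only [← QuotientGroup.mk_mul, Subgroup.coe_mul, hs]
      rw [beta_eq h4 hc, beta_eq h4 hc, beta_eq h4 hc, comm_mul_right hc]

end Main


section Main

variable {P : Type*} [Group P] [Finite P]

/-- **Automorphisms of a small-exponent class-two `2`-group with at most three involutions.** -/
theorem isSolvable_mulAut_of_class_two (h4 : ∀ d : P, (d * d) * (d * d) = 1)
    (hc : ∀ x y z : P, ⁅x, y⁆ * z = z * ⁅x, y⁆)
    (Ω : Subgroup P) (hΩ : ∀ d, d ∈ Ω ↔ d * d = 1) (hΩcard : Nat.card Ω ≤ 4) :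
    Group.IsSolvable (MulAut P) := by
  have hcen := omega_central h4 hc Ω hΩ hΩcard
  have hchar : Ω.Characteristic := omega_characteristic Ω hΩ
  obtain ⟨q, hq⟩ := exists_qdata h4 hc Ω hΩ hcen
  let ψ : MulAut P →* MulAut Ω := MulAut.characteristic Ω
  let θ₀ : ψ.ker →* MulAut (P ⧸ Ω) := (quotAut Ω).comp ψ.ker.subtype
  have hfixΩ : ∀ α ∈ ψ.ker, ∀ v ∈ Ω, α v = v := by
    intro α hα v hv
    have h1 : ψ α = 1 := hα
    have h2 := congrArg (fun e : MulAut Ω => ((e ⟨v, hv⟩ : Ω) : P)) h1
    exact h2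
  have hH : ∀ h ∈ θ₀.range, ∀ w, q.s (h w) = q.s w := by
    rintro _ ⟨α, rfl⟩ w
    induction w using QuotientGroup.induction_on with
    | H x =>
      apply Subtype.ext
      show (q.s ((quotAut Ω α.1) (x : P ⧸ Ω)) : P) = _
      rw [quotAut_mk, hq, hq, ← map_mul]
      exact hfixΩ α.1 α.2 (x * x) ((hΩ _).mpr (h4 x))
  have hsolvH : Group.IsSolvable θ₀.range :=
    isSolvable_of_preserving q hΩcard θ₀.range hH
  have hker : Group.IsSolvable θ₀.ker := by
    apply Group.isSolvable_of_comm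
    apply comm_of_sq
    intro α
    apply Subtype.ext
    apply Subtype.ext
    ext x
    show α.1.1 (α.1.1 x) = x
    have h1 : quotAut Ω α.1.1 = 1 := α.2
    have h2 : (x : P ⧸ Ω) = ((α.1.1 x : P) : P ⧸ Ω) := by
      have := congrArg (fun e : MulAut (P ⧸ Ω) => e (x : P ⧸ Ω)) h1
      exact this.symm
    have hv : x⁻¹ * α.1.1 x ∈ Ω := QuotientGroup.eq.mp h2
    have hvv : (x⁻¹ * α.1.1 x) * (x⁻¹ * α.1.1 x) = 1 := (hΩ _).mp hv
    have hαv : α.1.1 (x⁻¹ * α.1.1 x) = x⁻¹ * α.1.1 x := hfixΩ _ α.1.2 _ hv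
    calc α.1.1 (α.1.1 x) = α.1.1 (x * (x⁻¹ * α.1.1 x)) := by rw [mul_inv_cancel_left]
      _ = α.1.1 x * (x⁻¹ * α.1.1 x) := by rw [map_mul, hαv]
      _ = x * ((x⁻¹ * α.1.1 x) * (x⁻¹ * α.1.1 x)) := by group
      _ = x := by rw [hvv, mul_one]
  have hΓ₀ : Group.IsSolvable ψ.ker :=
    Group.isSolvable_of_ker_le_range θ₀.ker.subtype θ₀.rangeRestrict (by
      rw [MonoidHom.ker_rangeRestrict, Subgroup.range_subtype])
  have hAutΩ : Group.IsSolvable (MulAut Ω) := isSolvable_mulAut_of_card_le_four Ω hΩcard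
  exact Group.isSolvable_of_ker_le_range ψ.ker.subtype ψ (by rw [Subgroup.range_subtype])

end Main


section Inv

variable {X : Type*} [Group X]

theorem sq_eq_one_iff (x : X) : x * x = 1 ↔ x = 1 ∨ orderOf x = 2 := by
  constructor
  · intro h
    by_cases hx : x = 1
    · left; exact hx
    · right; exact orderOf_eq_prime (by rw [pow_two]; exact h) hx
  · rintro (h | h)
    · rw [h, one_mul]
    · rw [← pow_two, ← h, pow_orderOf_eq_one]

variable [Finite X]

/-- the elements of order at most two of a `2`-group with exactly three involutions form a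
subgroup of order at most four -/
theorem exists_omega (h2 : IsPGroup 2 X) (h3 : Nat.card {x : X // orderOf x = 2} = 3) :
    ∃ Ω : Subgroup X, (∀ d, d ∈ Ω ↔ d * d = 1) ∧ Nat.card Ω ≤ 4 := by
  classical
  have hpos : 0 < Nat.card {x : X // orderOf x = 2} := by omega
  obtain ⟨⟨t, ht⟩⟩ := (Nat.card_pos_iff.mp hpos).1
  have hnt : Nontrivial X := ⟨⟨t, 1, by
    rintro rfl
    rw [orderOf_one] at ht
    norm_num at ht⟩⟩
  have hZnt := h2.center_nontrivial
  have hZp : IsPGroup 2 (Subgroup.center X) := h2.to_subgroup _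
  have h2Z : 2 ∣ Nat.card (Subgroup.center X) := by
    rcases hZp.card_eq_or_dvd with h | h
    · exfalso
      have := Finite.one_lt_card (α := Subgroup.center X)
      omega
    · exact h
  obtain ⟨z', hz'⟩ := exists_prime_orderOf_dvd_card' 2 h2Z
  obtain ⟨z, hzmem⟩ := z'
  have hz : orderOf z = 2 := by
    rw [← hz']
    exact (Subgroup.orderOf_mk z hzmem).symm
  have hzc : ∀ g, g * z = z * g := Subgroup.mem_center_iff.mp hzmem
  obtain ⟨a, ha, haz⟩ : ∃ a : X, orderOf a = 2 ∧ a ≠ z := by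
    by_contra hno
    push Not at hno
    have hsub : Subsingleton {x : X // orderOf x = 2} :=
      ⟨fun x y => Subtype.ext ((hno x.1 x.2).trans (hno y.1 y.2).symm)⟩
    have := Finite.card_le_one_iff_subsingleton.mpr hsub
    omega
  have hzz : z * z = 1 := (sq_eq_one_iff z).mpr (Or.inr hz)
  have haa : a * a = 1 := (sq_eq_one_iff a).mpr (Or.inr ha)
  have hz1 : z ≠ 1 := by
    rintro h
    rw [h, orderOf_one] at hz
    norm_num at hz
  have ha1 : a ≠ 1 := by
    rintro h
    rw [h, orderOf_one] at ha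
    norm_num at ha
  have hazsq : (a * z) * (a * z) = 1 := by
    calc (a * z) * (a * z) = a * (z * a) * z := by group
      _ = a * (a * z) * z := by rw [hzc a]
      _ = (a * a) * (z * z) := by group
      _ = 1 := by rw [haa, hzz, one_mul]
  have haz2 : orderOf (a * z) = 2 := by
    apply orderOf_eq_prime
    · rw [pow_two]; exact hazsq
    · intro h
      apply haz
      have : a = z⁻¹ := eq_inv_of_mul_eq_one_left h
      rw [this]
      exact inv_eq_of_mul_eq_one_left hzz
  have h_z_az : z ≠ a * z := by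
    intro h
    apply ha1
    have : 1 * z = a * z := by rw [one_mul]; exact h
    exact (mul_right_cancel this).symm
  have h_a_az : a ≠ a * z := by
    intro h
    apply hz1
    have : a * 1 = a * z := by rw [mul_one]; exact h
    exact (mul_left_cancel this).symm
  have hall : ∀ x : X, orderOf x = 2 → x = z ∨ x = a ∨ x = a * z := by
    intro x hx
    by_contra hno
    push Not at hno
    obtain ⟨hxz, hxa, hxaz⟩ := hno
    have := Fintype.ofFinite {x : X // orderOf x = 2}
    let S : Finset {x : X // orderOf x = 2} := {⟨z, hz⟩, ⟨a, ha⟩, ⟨a * z, haz2⟩, ⟨x, hx⟩}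
    have hS : S.card = 4 := by
      rw [Finset.card_insert_of_notMem, Finset.card_insert_of_notMem,
        Finset.card_insert_of_notMem, Finset.card_singleton]
      · simp only [Finset.mem_singleton, Subtype.mk.injEq]
        exact fun h => hxaz h.symm
      · simp only [Finset.mem_insert, Finset.mem_singleton, Subtype.mk.injEq, not_or]
        exact ⟨h_a_az, fun h => hxa h.symm⟩
      · simp only [Finset.mem_insert, Finset.mem_singleton, Subtype.mk.injEq, not_or]
        exact ⟨fun h => haz h.symm, h_z_az, fun h => hxz h.symm⟩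
    have hle := Finset.card_le_univ S
    rw [hS, ← Nat.card_eq_fintype_card, h3] at hle
    omega
  have hall' : ∀ x : X, x * x = 1 → x = 1 ∨ x = z ∨ x = a ∨ x = a * z := by
    intro x hx
    rcases (sq_eq_one_iff x).mp hx with h | h
    · left; exact h
    · right; exact hall x h
  -- everything of order at most two commutes with `a`
  have hcomma : ∀ x : X, x * x = 1 → x * a = a * x := by
    intro x hx
    rcases hall' x hx with h | h | h | h
    · rw [h, one_mul, mul_one]
    · rw [h]; exact (hzc a).symm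
    · rw [h]
    · rw [h]
      calc a * z * a = a * (z * a) := by group
        _ = a * (a * z) := by rw [hzc a]
  have hcomm : ∀ x y : X, x * x = 1 → y * y = 1 → x * y = y * x := by
    intro x y hx hy
    rcases hall' y hy with h | h | h | h
    · rw [h, one_mul, mul_one]
    · rw [h]; exact hzc x
    · rw [h]; exact hcomma x hx
    · rw [h]
      calc x * (a * z) = (x * a) * z := by group
        _ = (a * x) * z := by rw [hcomma x hx]
        _ = a * (x * z) := by group
        _ = a * (z * x) := by rw [hzc x]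
        _ = a * z * x := by group
  refine ⟨{ carrier := {x | x * x = 1}
            mul_mem' := ?_
            one_mem' := ?_
            inv_mem' := ?_ }, ?_, ?_⟩
  · intro x y hx hy
    show (x * y) * (x * y) = 1
    have hx' : x * x = 1 := hx
    have hy' : y * y = 1 := hy
    calc (x * y) * (x * y) = x * (y * x) * y := by group
      _ = x * (x * y) * y := by rw [hcomm y x hy' hx']
      _ = (x * x) * (y * y) := by group
      _ = 1 := by rw [hx', hy', one_mul]
  · show (1 : X) * 1 = 1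
    rw [one_mul]
  · intro x hx
    show x⁻¹ * x⁻¹ = 1
    have hx' : x * x = 1 := hx
    rw [← mul_inv_rev, hx', inv_one]
  · intro d
    rfl
  · have hsub : ({x : X | x * x = 1} : Set X) ⊆ (({1, z, a, a * z} : Finset X) : Set X) := by
      intro x hx
      rcases hall' x hx with h | h | h | h <;> simp [h]
    show Nat.card ({x : X | x * x = 1} : Set X) ≤ 4
    rw [Nat.card_coe_set_eq]
    refine (Set.ncard_le_ncard hsub (Finset.finite_toSet _)).trans ?_
    rw [Set.ncard_coe_finset]
    exact Finset.card_le_four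

end Inv


section Final

variable {X : Type*} [Group X] [Finite X]

/-- **A finite `2`-group with exactly three involutions has a solvable automorphism group.** -/
theorem isSolvable_mulAut_of_three_involutions (h2 : IsPGroup 2 X)
    (h3 : Nat.card {x : X // orderOf x = 2} = 3) : Group.IsSolvable (MulAut X) := by
  classical
  obtain ⟨Ω, hΩ, hΩcard⟩ := exists_omega h2 h3
  have : Fact (Nat.Prime 2) := ⟨Nat.prime_two⟩
  obtain ⟨D, hDinv, -, hD4, hDcomm, hDfaith⟩ :=
    Cfsg.Agent.Lib.Helper33_Critical.exists_omega_critical (p := 2) (e := 4) h2 (by norm_num)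
      (by decide) (⊤ : Subgroup (MulAut X)) le_top (⊤ : Subgroup X)
      (fun _ _ d _ => Subgroup.mem_top _)
  have hDchar : D.Characteristic := by
    rw [Subgroup.characteristic_iff_map_le]
    rintro φ _ ⟨d, hd, rfl⟩
    exact hDinv φ (Subgroup.mem_top _) d hd
  have hAutD : Group.IsSolvable (MulAut D) := by
    apply isSolvable_mulAut_of_class_two (P := D) (Ω := Ω.subgroupOf D)
    · intro d
      apply Subtype.ext
      have := hD4 d.1 d.2
      show (d.1 * d.1) * (d.1 * d.1) = 1
      rw [← this, pow_succ, pow_succ, pow_succ, pow_one]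
      group
    · intro x y z
      apply Subtype.ext
      show ⁅x.1, y.1⁆ * z.1 = z.1 * ⁅x.1, y.1⁆
      have h1 : ⁅x.1, y.1⁆ ∈ ⁅D, (⊤ : Subgroup X)⁆ :=
        Subgroup.commutator_mem_commutator x.2 (Subgroup.mem_top _)
      have h2 := (hDcomm h1).2
      exact (Subgroup.mem_centralizer_iff.mp h2 z.1 z.2).symm
    · intro d
      rw [Subgroup.mem_subgroupOf, hΩ]
      constructor
      · intro h; exact Subtype.ext h
      · intro h; exact congrArg Subtype.val h
    · refine le_trans ?_ hΩcard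
      exact Nat.card_le_card_of_injective
        (fun x : Ω.subgroupOf D => (⟨x.1.1, x.2⟩ : Ω))
        (fun a b h => Subtype.ext (Subtype.ext (congrArg (fun w : Ω => (w : X)) h)))
  let ρ : MulAut X →* MulAut D := MulAut.characteristic D
  have hfixD : ∀ α ∈ ρ.ker, ∀ d ∈ D, α d = d := by
    intro α hα d hd
    have h1 : ρ α = 1 := hα
    exact congrArg (fun e : MulAut D => ((e ⟨d, hd⟩ : D) : X)) h1
  have hker2 : IsPGroup 2 ρ.ker := by
    rw [IsPGroup.iff_orderOf]
    intro α
    obtain ⟨k, m, hm, hkm⟩ := Nat.exists_eq_two_pow_mul_odd (orderOf_pos α).ne'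
    have hord : orderOf (α : MulAut X) = 2 ^ k * m := by rw [Subgroup.orderOf_coe, hkm]
    have hβord : orderOf ((α : MulAut X) ^ 2 ^ k) = m := by
      rw [orderOf_pow' _ (pow_ne_zero k two_ne_zero), hord,
        Nat.gcd_eq_right (Dvd.intro _ rfl), Nat.mul_div_cancel_left _ (pow_pos two_pos k)]
    have hβ1 : (α : MulAut X) ^ 2 ^ k = 1 := by
      have hfix := hDfaith ((α : MulAut X) ^ 2 ^ k) (Subgroup.mem_top _)
        (by rw [hβord]; exact (Nat.coprime_two_right.mpr hm))
        (fun d hd => Cfsg.Agent.Lib.Helper33_Critical.pow_apply_of_fixed' _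
          (hfixD α.1 α.2 d hd) _)
      ext q
      exact hfix q (Subgroup.mem_top _)
    rw [hβ1, orderOf_one] at hβord
    refine ⟨k, ?_⟩
    rw [hkm, ← hβord, mul_one]
  have hkersolv : Group.IsSolvable ρ.ker := by
    have := hker2.isNilpotent
    exact inferInstance
  exact Group.isSolvable_of_ker_le_range ρ.ker.subtype ρ (by rw [Subgroup.range_subtype])

end Final

end Cfsg.Agent.Lib.Helper60_ThreeInv
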