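import Mathlib

set_option autoImplicit false

namespace Cfsg.Agent.Lib.Helper60_ThreePrimes

open Subgroup
open scoped commutatorElement
open scoped Pointwise

universe u

/-! ### Elements of mixed order -/

/-- Two commuting elements whose (finite) orders are divisible by distinct primes `p` and `r`
give an element of order `p * r`. -/
theorem exists_orderOf_eq_mul_of_commute {G : Type*} [Group G] {x y : G} (hxy : Commute x y)
    {p r : ℕ} (hp : p.Prime) (hr : r.Prime) (hpr : p ≠ r)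
    (hx : orderOf x ≠ 0) (hy : orderOf y ≠ 0) (hpx : p ∣ orderOf x) (hry : r ∣ orderOf y) :
    ∃ z : G, orderOf z = p * r := by
  refine ⟨x ^ (orderOf x / p) * y ^ (orderOf y / r), ?_⟩
  have h1 : orderOf (x ^ (orderOf x / p)) = p := orderOf_pow_orderOf_div hx hpx
  have h2 : orderOf (y ^ (orderOf y / r)) = r := orderOf_pow_orderOf_div hy hry
  have hc : Commute (x ^ (orderOf x / p)) (y ^ (orderOf y / r)) := hxy.pow_pow _ _
  rw [hc.orderOf_mul_eq_mul_orderOf_of_coprime (by rw [h1, h2]; exact (Nat.coprime_primes hp hr).mpr hpr),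
    h1, h2]

/-- Lifting element orders along a surjective homomorphism from a finite group. -/
theorem exists_orderOf_eq_of_surjective {G H : Type*} [Group G] [Finite G] [Group H]
    (f : G →* H) (hf : Function.Surjective f) {k : ℕ} (h : ∃ y : H, orderOf y = k) :
    ∃ x : G, orderOf x = k := by
  obtain ⟨y, hy⟩ := h
  obtain ⟨x, rfl⟩ := hf y
  have hx : orderOf x ≠ 0 := (orderOf_pos x).ne'
  have hdvd : k ∣ orderOf x := hy ▸ orderOf_map_dvd f x
  exact ⟨x ^ (orderOf x / k), orderOf_pow_orderOf_div hx hdvd⟩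

/-- A non-trivial element of a `p`-group has order divisible by `p`. -/
theorem dvd_orderOf_of_isPGroup {G : Type*} [Group G] {p : ℕ} (hp : p.Prime) {A : Subgroup G}
    (hA : IsPGroup p A) {v : G} (hv : v ∈ A) (hv1 : v ≠ 1) : p ∣ orderOf v ∧ orderOf v ≠ 0 := by
  obtain ⟨k, hk⟩ := hA ⟨v, hv⟩
  have hk' : v ^ p ^ k = 1 := by
    have := congrArg Subtype.val hk
    simpa using this
  have hdvd : orderOf v ∣ p ^ k := orderOf_dvd_of_pow_eq_one hk'
  obtain ⟨j, _, hj⟩ := (Nat.dvd_prime_pow hp).mp hdvd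
  have hj0 : j ≠ 0 := by
    rintro rfl
    rw [pow_zero, orderOf_eq_one_iff] at hj
    exact hv1 hj
  constructor
  · rw [hj]; exact dvd_pow_self p hj0
  · rw [hj]; exact (pow_pos hp.pos j).ne'

/-! ### A Frobenius-type group acting on an abelian group -/

theorem conj_fixed_aux {X : Type*} [Group X] (y b b' : X)
    (h : b * (y * b⁻¹ * y⁻¹) = b' * (y * b'⁻¹ * y⁻¹)) :
    y * (b'⁻¹ * b) * y⁻¹ = b'⁻¹ * b := by
  calc y * (b'⁻¹ * b) * y⁻¹
      = b'⁻¹ * (b' * (y * b'⁻¹ * y⁻¹)) * (y * b⁻¹ * y⁻¹)⁻¹ := by group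
    _ = b'⁻¹ * (b * (y * b⁻¹ * y⁻¹)) * (y * b⁻¹ * y⁻¹)⁻¹ := by rw [h]
    _ = b'⁻¹ * b := by group

/-- Let `B ⋊ Y` be a "Frobenius-like" configuration inside a group `X` (`Y` normalizes `B` and every
non-trivial element of `Y` acts fixed-point-freely on `B`), acting on a commutative group `V`
through `f : X →* MulAut V`. If neither `B` nor `Y` has a non-trivial fixed point on `V`, then
`V` has exponent dividing `|B|`. -/
theorem frobenius_action {X V : Type*} [Group X] [CommGroup V] (f : X →* MulAut V)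
    (B Y : Subgroup X) [Finite B] [Finite Y]
    (hYB : ∀ y ∈ Y, ∀ b ∈ B, y * b * y⁻¹ ∈ B)
    (hfpf : ∀ y ∈ Y, y ≠ 1 → ∀ b ∈ B, y * b * y⁻¹ = b → b = 1)
    (hCB : ∀ v : V, (∀ b ∈ B, f b v = v) → v = 1)
    (hCY : ∀ v : V, (∀ y ∈ Y, f y v = v) → v = 1) :
    ∀ v : V, v ^ Nat.card B = 1 := by
  classical
  have : Fintype B := Fintype.ofFinite B
  have : Fintype Y := Fintype.ofFinite Y
  -- the norm maps are trivial
  have hNB : ∀ w : V, ∏ b : B, f (b : X) w = 1 := by
    intro w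
    apply hCB
    intro b₀ hb₀
    rw [map_prod]
    refine Fintype.prod_equiv (Equiv.mulLeft (⟨b₀, hb₀⟩ : B)) _ _ ?_
    intro b
    simp [map_mul]
  have hNY : ∀ w : V, ∏ y : Y, f (y : X) w = 1 := by
    intro w
    apply hCY
    intro y₀ hy₀
    rw [map_prod]
    refine Fintype.prod_equiv (Equiv.mulLeft (⟨y₀, hy₀⟩ : Y)) _ _ ?_
    intro y
    simp [map_mul]
  intro v
  have h1 : ∏ b : B, ∏ y : Y, f ((b : X) * y * (b : X)⁻¹) v = 1 := by
    refine Finset.prod_eq_one (fun b _ => ?_)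
    have h2 := congrArg (f (b : X)) (hNY (f ((b : X)⁻¹) v))
    rw [map_prod, map_one] at h2
    rw [← h2]
    refine Finset.prod_congr rfl ?_
    intro y _
    simp [map_mul]
  rw [Finset.prod_comm] at h1
  rw [Finset.prod_eq_single (1 : Y)] at h1
  · simpa [Finset.prod_const, Finset.card_univ, Nat.card_eq_fintype_card] using h1
  · intro y _ hy
    -- reindex by the bijection `b ↦ b * (y * b⁻¹ * y⁻¹)` of `B`
    have hy1 : (y : X) ≠ 1 := fun h => hy (Subtype.ext h)
    let φ : B → B := fun b => ⟨(b : X) * ((y : X) * (b : X)⁻¹ * (y : X)⁻¹),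
      B.mul_mem b.2 (hYB y y.2 _ (B.inv_mem b.2))⟩
    have hφinj : Function.Injective φ := by
      intro b b' hbb'
      have h : (b : X) * ((y : X) * (b : X)⁻¹ * (y : X)⁻¹) =
          (b' : X) * ((y : X) * (b' : X)⁻¹ * (y : X)⁻¹) := congrArg Subtype.val hbb'
      have hfix := conj_fixed_aux (y : X) b b' h
      have h3 : (b' : X)⁻¹ * b = 1 :=
        hfpf y y.2 hy1 _ (B.mul_mem (B.inv_mem b'.2) b.2) hfix
      exact Subtype.ext (by
        calc (b : X) = b' * ((b' : X)⁻¹ * b) := by group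
          _ = b' := by rw [h3, mul_one])
    have hφbij : Function.Bijective φ := Finite.injective_iff_bijective.mp hφinj
    rw [← hNB (f (y : X) v)]
    refine Fintype.prod_equiv (Equiv.ofBijective φ hφbij) _ _ ?_
    intro b
    change f ((b : X) * y * (b : X)⁻¹) v = f ((b : X) * ((y : X) * (b : X)⁻¹ * (y : X)⁻¹)) (f (y : X) v)
    rw [← MulAut.mul_apply, ← map_mul]
    congr 2
    group
  · intro h
    exact absurd (Finset.mem_univ _) h


/-! ### A non-trivial normal abelian `ℓ`-subgroup of a solvable group -/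

/-- A non-trivial finite solvable group has a non-trivial normal abelian subgroup of prime
exponent. -/
theorem exists_normal_abelian_pgroup {G : Type*} [Group G] [Finite G] [Group.IsSolvable G]
    [Nontrivial G] :
    ∃ (ℓ : ℕ) (A : Subgroup G), ℓ.Prime ∧ A.Normal ∧ A ≠ ⊥ ∧ IsPGroup ℓ A ∧
      (∀ a ∈ A, ∀ b ∈ A, a * b = b * a) := by
  classical
  -- last non-trivial term of the derived series
  obtain ⟨n, hn⟩ := (Group.isSolvable_def G).mp inferInstance
  have hex : ∃ n, derivedSeries G n = ⊥ := ⟨n, hn⟩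
  set m := Nat.find hex with hm
  have hm_spec : derivedSeries G m = ⊥ := Nat.find_spec hex
  have hm0 : m ≠ 0 := by
    intro h0
    rw [h0, derivedSeries_zero] at hm_spec
    exact top_ne_bot hm_spec
  obtain ⟨k, hk⟩ : ∃ k, m = k + 1 := Nat.exists_eq_succ_of_ne_zero hm0
  set A₀ := derivedSeries G k with hA₀
  have hA₀ne : A₀ ≠ ⊥ := by
    intro h
    have := Nat.find_min' hex h
    omega
  have hA₀n : A₀.Normal := derivedSeries_normal G k
  have hA₀comm : ∀ a ∈ A₀, ∀ b ∈ A₀, a * b = b * a := by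
    intro a ha b hb
    have h1 : ⁅a, b⁆ ∈ ⁅A₀, A₀⁆ := Subgroup.commutator_mem_commutator ha hb
    have h2 : ⁅A₀, A₀⁆ = ⊥ := by
      rw [hA₀, ← derivedSeries_succ, ← hk]; exact hm_spec
    rw [h2, Subgroup.mem_bot, commutatorElement_eq_one_iff_mul_comm] at h1
    exact h1
  -- a prime dividing the order of `A₀`
  have hcard : Nat.card A₀ ≠ 1 := by
    intro h
    exact hA₀ne (Subgroup.card_eq_one.mp h)
  obtain ⟨ℓ, hℓ, hℓdvd⟩ := Nat.exists_prime_and_dvd hcard
  have : Fact ℓ.Prime := ⟨hℓ⟩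
  obtain ⟨x, hx⟩ := exists_prime_orderOf_dvd_card' ℓ hℓdvd
  -- the `ℓ`-torsion of `A₀`
  let A : Subgroup G :=
    { carrier := {a | a ∈ A₀ ∧ a ^ ℓ = 1}
      mul_mem' := by
        rintro a b ⟨ha, ha'⟩ ⟨hb, hb'⟩
        refine ⟨A₀.mul_mem ha hb, ?_⟩
        have hc : Commute a b := hA₀comm a ha b hb
        rw [hc.mul_pow, ha', hb', one_mul]
      one_mem' := ⟨A₀.one_mem, one_pow _⟩
      inv_mem' := by
        rintro a ⟨ha, ha'⟩
        exact ⟨A₀.inv_mem ha, by rw [inv_pow, ha', inv_one]⟩ }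
  have hAmem : ∀ a, a ∈ A ↔ a ∈ A₀ ∧ a ^ ℓ = 1 := fun a => Iff.rfl
  refine ⟨ℓ, A, hℓ, ?_, ?_, ?_, ?_⟩
  · constructor
    intro a ha g
    rw [hAmem] at ha ⊢
    refine ⟨hA₀n.conj_mem a ha.1 g, ?_⟩
    rw [conj_pow, ha.2]
    group
  · intro h
    have hxA : (x : G) ∈ A := by
      rw [hAmem]
      refine ⟨x.2, ?_⟩
      have : x ^ ℓ = 1 := by rw [← hx]; exact pow_orderOf_eq_one x
      have := congrArg Subtype.val this
      simpa using this
    rw [h, Subgroup.mem_bot] at hxA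
    have hx1 : x = 1 := Subtype.ext hxA
    rw [hx1, orderOf_one] at hx
    exact hℓ.one_lt.ne hx
  · intro a
    refine ⟨1, ?_⟩
    rw [pow_one]
    exact Subtype.ext (by simpa using ((hAmem a).mp a.2).2)
  · intro a ha b hb
    exact hA₀comm a ((hAmem a).mp ha).1 b ((hAmem b).mp hb).1


/-! ### A weak form of Hall's theorem -/

/-- prime divisors of a prime power -/
theorem eq_of_prime_dvd_pow {ℓ' ℓ k : ℕ} (hℓ' : ℓ'.Prime) (hℓ : ℓ.Prime) (h : ℓ' ∣ ℓ ^ k) : ℓ' = ℓ :=
  (Nat.prime_dvd_prime_iff_eq hℓ' hℓ).mp (hℓ'.dvd_of_dvd_pow h)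

/-- The order of a non-trivial `ℓ`-subgroup is a positive power of `ℓ`. -/
theorem card_eq_pow_of_isPGroup {G : Type*} [Group G] [Finite G] {ℓ : ℕ} (hℓ : ℓ.Prime)
    {B : Subgroup G} (hB : IsPGroup ℓ B) (hB1 : B ≠ ⊥) : ∃ k, k ≠ 0 ∧ Nat.card B = ℓ ^ k := by
  have : Fact ℓ.Prime := ⟨hℓ⟩
  obtain ⟨k, hk⟩ := IsPGroup.iff_card.mp hB
  refine ⟨k, ?_, hk⟩
  rintro rfl
  rw [pow_zero] at hk
  exact hB1 (Subgroup.card_eq_one.mp hk)

/-- Asymmetric step for the weak Hall lemma: a non-trivial normal `r`-subgroup together with an element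
of order `q` generates a `{q, r}`-group. -/
theorem exists_qr_subgroup_aux {H : Type*} [Group H] [Finite H] (q r : ℕ)
    (hq : q.Prime) (hr : r.Prime) (hqH : q ∣ Nat.card H)
    (B : Subgroup H) [B.Normal] (hB1 : B ≠ ⊥) (hB : IsPGroup r B) :
    ∃ D : Subgroup H, q ∣ Nat.card D ∧ r ∣ Nat.card D ∧
      ∀ ℓ : ℕ, ℓ.Prime → ℓ ∣ Nat.card D → ℓ = q ∨ ℓ = r := by
  have : Fact q.Prime := ⟨hq⟩
  obtain ⟨y, hy⟩ := exists_prime_orderOf_dvd_card' q hqH
  obtain ⟨k, hk0, hk⟩ := card_eq_pow_of_isPGroup hr hB hB1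
  refine ⟨B ⊔ zpowers y, ?_, ?_, ?_⟩
  · have h1 : Nat.card (zpowers y) ∣ Nat.card ↥(B ⊔ zpowers y) :=
      Subgroup.card_dvd_of_le le_sup_right
    rwa [Nat.card_zpowers, hy] at h1
  · have h1 : Nat.card B ∣ Nat.card ↥(B ⊔ zpowers y) := Subgroup.card_dvd_of_le le_sup_left
    rw [hk] at h1
    exact (dvd_pow_self r hk0).trans h1
  · intro ℓ hℓ hdvd
    have h1 : Nat.card ↥(B ⊔ zpowers y) = Nat.card B * B.relIndex (B ⊔ zpowers y) := by
      rw [Subgroup.relIndex, ← Subgroup.card_mul_index (B.subgroupOf (B ⊔ zpowers y))]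
      congr 1
      exact Nat.card_congr (Subgroup.subgroupOfEquivOfLe le_sup_left).toEquiv
    rw [h1, Subgroup.relIndex_sup_left, hk] at hdvd
    rcases (Nat.Prime.dvd_mul hℓ).mp hdvd with h | h
    · right; exact eq_of_prime_dvd_pow hℓ hr h
    · left
      have h2 : B.relIndex (zpowers y) ∣ Nat.card (zpowers y) := Subgroup.relIndex_dvd_card _ _
      rw [Nat.card_zpowers, hy] at h2
      exact (Nat.prime_dvd_prime_iff_eq hℓ hq).mp (h.trans h2)

/-- Weak form of Hall's theorem: a finite solvable group whose order is divisible by the distinct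
primes `q` and `r` has a `{q, r}`-subgroup whose order is divisible by `q * r`. -/
theorem exists_qr_subgroup {H : Type u} [Group H] [Finite H] [Group.IsSolvable H] (q r : ℕ)
    (hq : q.Prime) (hr : r.Prime) (hqr : q ≠ r) (hqH : q ∣ Nat.card H) (hrH : r ∣ Nat.card H) :
    ∃ D : Subgroup H, q ∣ Nat.card D ∧ r ∣ Nat.card D ∧
      ∀ ℓ : ℕ, ℓ.Prime → ℓ ∣ Nat.card D → ℓ = q ∨ ℓ = r := by
  induction' hn : Nat.card H using Nat.strong_induction_on with n ih generalizing H
  have hnt : Nontrivial H := by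
    rw [← Finite.one_lt_card_iff_nontrivial]
    have := Nat.le_of_dvd Nat.card_pos hqH
    have := hq.two_le
    omega
  obtain ⟨ℓ, B, hℓ, hBn, hB1, hB, -⟩ := exists_normal_abelian_pgroup (G := H)
  by_cases hℓr : ℓ = r
  · subst hℓr
    exact exists_qr_subgroup_aux q ℓ hq hℓ hqH B hB1 hB
  by_cases hℓq : ℓ = q
  · subst hℓq
    obtain ⟨D, h1, h2, h3⟩ := exists_qr_subgroup_aux r ℓ hr hℓ hrH B hB1 hB
    exact ⟨D, h2, h1, fun ℓ' hℓ' hd => (h3 ℓ' hℓ' hd).symm⟩
  -- `ℓ` is a third prime: pass to the quotient and use Schur-Zassenhaus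
  obtain ⟨k, hk0, hk⟩ := card_eq_pow_of_isPGroup hℓ hB hB1
  have hcard : Nat.card H = Nat.card (H ⧸ B) * Nat.card B :=
    Subgroup.card_eq_card_quotient_mul_card_subgroup B
  have hqQ : q ∣ Nat.card (H ⧸ B) := by
    rw [hcard, hk] at hqH
    rcases (Nat.Prime.dvd_mul hq).mp hqH with h | h
    · exact h
    · exact absurd (eq_of_prime_dvd_pow hq hℓ h).symm hℓq
  have hrQ : r ∣ Nat.card (H ⧸ B) := by
    rw [hcard, hk] at hrH
    rcases (Nat.Prime.dvd_mul hr).mp hrH with h | h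
    · exact h
    · exact absurd (eq_of_prime_dvd_pow hr hℓ h).symm hℓr
  have hlt : Nat.card (H ⧸ B) < n := by
    rw [← hn, hcard, hk]
    have h1 : 0 < Nat.card (H ⧸ B) := Nat.card_pos
    have h2 : 2 ≤ ℓ ^ k := by
      calc 2 ≤ ℓ := hℓ.two_le
        _ = ℓ ^ 1 := (pow_one ℓ).symm
        _ ≤ ℓ ^ k := Nat.pow_le_pow_right hℓ.pos (Nat.one_le_iff_ne_zero.mpr hk0)
    nlinarith
  obtain ⟨Dbar, hD1, hD2, hD3⟩ := ih _ hlt hqQ hrQ rfl
  -- the preimage of `Dbar`
  set L : Subgroup H := Dbar.comap (QuotientGroup.mk' B) with hL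
  have hBL : B ≤ L := by
    intro b hb
    rw [hL, Subgroup.mem_comap]
    have : (QuotientGroup.mk' B) b = 1 := by
      rw [QuotientGroup.mk'_apply, QuotientGroup.eq_one_iff]; exact hb
    rw [this]; exact Dbar.one_mem
  have hLcard : Nat.card L = Nat.card Dbar * Nat.card B := by
    have h1 : L.index = Dbar.index :=
      Subgroup.index_comap_of_surjective Dbar (QuotientGroup.mk'_surjective B)
    have h2 : Nat.card L * L.index = Nat.card H := Subgroup.card_mul_index L
    have h3 : Nat.card Dbar * Dbar.index = Nat.card (H ⧸ B) := Subgroup.card_mul_index Dbar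
    have h4 : 0 < Dbar.index := Nat.pos_of_ne_zero Subgroup.index_ne_zero_of_finite
    rw [h1, hcard, ← h3] at h2
    have : Nat.card ↥L * Dbar.index = (Nat.card ↥Dbar * Nat.card ↥B) * Dbar.index := by
      rw [h2]; ring
    exact Nat.eq_of_mul_eq_mul_right h4 this
  -- `B` as a normal Hall subgroup of `L`
  have hB'card : Nat.card (B.subgroupOf L) = Nat.card B :=
    Nat.card_congr (Subgroup.subgroupOfEquivOfLe hBL).toEquiv
  have hB'index : (B.subgroupOf L).index = Nat.card Dbar := by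
    have h2 : Nat.card (B.subgroupOf L) * (B.subgroupOf L).index = Nat.card L :=
      Subgroup.card_mul_index _
    rw [hB'card, hLcard, mul_comm] at h2
    have h4 : 0 < Nat.card B := Nat.card_pos
    exact Nat.eq_of_mul_eq_mul_right h4 h2
  have hcop : (Nat.card (B.subgroupOf L)).Coprime (B.subgroupOf L).index := by
    rw [hB'card, hB'index, hk]
    apply Nat.Coprime.pow_left
    rw [Nat.Prime.coprime_iff_not_dvd hℓ]
    intro hd
    rcases hD3 ℓ hℓ hd with h | h
    · exact hℓq h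
    · exact hℓr h
  obtain ⟨K, hK⟩ := Subgroup.exists_right_complement'_of_coprime hcop
  have hKcard : Nat.card K = Nat.card Dbar := by
    have h1 := hK.card_mul_card
    rw [hB'card, hLcard, mul_comm] at h1
    have h4 : 0 < Nat.card B := Nat.card_pos
    exact Nat.eq_of_mul_eq_mul_right h4 h1
  refine ⟨K.map L.subtype, ?_, ?_, ?_⟩
  · rw [Subgroup.card_subtype, hKcard]; exact hD1
  · rw [Subgroup.card_subtype, hKcard]; exact hD2
  · intro ℓ' hℓ' hd
    rw [Subgroup.card_subtype, hKcard] at hd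
    exact hD3 ℓ' hℓ' hd


/-! ### The three primes lemma -/

/-- Asymmetric core: an abelian normal `p`-subgroup `A`, an `r`-subgroup `B` and an element `y` of
order `q` normalizing `B`. -/
theorem exists_mixed_order_aux {G : Type*} [Group G] [Finite G] {p q r : ℕ}
    (hp : p.Prime) (hq : q.Prime) (hr : r.Prime) (hpq : p ≠ q) (hpr : p ≠ r) (hqr : q ≠ r)
    (A : Subgroup G) [A.Normal] (hA1 : A ≠ ⊥) (hA : IsPGroup p A)
    (hAc : ∀ a ∈ A, ∀ b ∈ A, a * b = b * a)
    (B : Subgroup G) (hB1 : B ≠ ⊥) (hB : IsPGroup r B)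
    (y : G) (hy : orderOf y = q) (hyB : ∀ b ∈ B, y * b * y⁻¹ ∈ B) :
    (∃ z : G, orderOf z = p * q) ∨ (∃ z : G, orderOf z = p * r) ∨ (∃ z : G, orderOf z = q * r) := by
  by_contra hcon
  push Not at hcon
  obtain ⟨hpq', hpr', hqr'⟩ := hcon
  have hfin : ∀ g : G, orderOf g ≠ 0 := fun g => (orderOf_pos g).ne'
  let _ : CommGroup A :=
    { (inferInstance : Group A) with mul_comm := fun a b => Subtype.ext (hAc a a.2 b b.2) }
  let f : G →* MulAut A := MulAut.conjNormal
  have hf : ∀ (g : G) (v : A), ((f g v : A) : G) = g * v * g⁻¹ := fun g v => rfl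
  -- conjugation by powers of `y` preserves `B`
  have hpow : ∀ n : ℕ, ∀ b ∈ B, y ^ n * b * (y ^ n)⁻¹ ∈ B := by
    intro n
    induction n with
    | zero => intro b hb; simpa using hb
    | succ n ih =>
      intro b hb
      have := hyB _ (ih b hb)
      have e : y ^ (n + 1) * b * (y ^ (n + 1))⁻¹ = y * (y ^ n * b * (y ^ n)⁻¹) * y⁻¹ := by
        rw [pow_succ']; group
      rw [e]; exact this
  have hY : ∀ y' ∈ zpowers y, ∃ n : ℕ, y ^ n = y' := by
    intro y' hy'
    have := (isOfFinOrder_of_finite y).mem_powers_iff_mem_zpowers.mpr hy'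
    exact (Submonoid.mem_powers_iff _ _).mp this
  have hcardY : Nat.card (zpowers y) = q := by rw [Nat.card_zpowers, hy]
  have key := frobenius_action f B (zpowers y) ?_ ?_ ?_ ?_
  · -- `A` has exponent dividing `|B|`, a power of `r`: contradiction
    obtain ⟨k, -, hk⟩ := card_eq_pow_of_isPGroup hr hB hB1
    obtain ⟨a, ha, ha1⟩ : ∃ a ∈ A, a ≠ 1 := by
      obtain ⟨a, ha⟩ := (Subgroup.ne_bot_iff_exists_ne_one).mp hA1
      exact ⟨a, a.2, fun h => ha (Subtype.ext h)⟩
    have h1 := key ⟨a, ha⟩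
    rw [hk] at h1
    have h2 : a ^ r ^ k = 1 := by
      have := congrArg Subtype.val h1
      simpa using this
    have h3 : orderOf a ∣ r ^ k := orderOf_dvd_of_pow_eq_one h2
    have h4 := (dvd_orderOf_of_isPGroup hp hA ha ha1).1
    exact hpr (eq_of_prime_dvd_pow hp hr (h4.trans h3))
  · -- `Y` normalizes `B`
    intro y' hy' b hb
    obtain ⟨n, rfl⟩ := hY y' hy'
    exact hpow n b hb
  · -- `Y` acts fixed-point-freely on `B`
    intro y' hy' hy'1 b hb hfix
    by_contra hb1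
    have hcomm' : Commute y' b := by
      have : y' * b = b * y' := by
        have := congrArg (· * y') hfix
        simpa [mul_assoc] using this
      exact this
    -- `y` is a power of `y'`
    have : Fact q.Prime := ⟨hq⟩
    have htop : zpowers (⟨y', hy'⟩ : zpowers y) = ⊤ :=
      zpowers_eq_top_of_prime_card hcardY (fun h => hy'1 (congrArg Subtype.val h))
    have hymem : (⟨y, mem_zpowers y⟩ : zpowers y) ∈ zpowers (⟨y', hy'⟩ : zpowers y) := by
      rw [htop]; trivial
    obtain ⟨m, hm⟩ := Subgroup.mem_zpowers_iff.mp hymem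
    have hm' : y' ^ m = y := by
      have := congrArg Subtype.val hm
      simpa using this
    have hcomm : Commute y b := by
      rw [← hm']; exact hcomm'.zpow_left m
    obtain ⟨z, hz⟩ := exists_orderOf_eq_mul_of_commute hcomm hq hr hqr (hfin y) (hfin b)
      (by rw [hy]) (dvd_orderOf_of_isPGroup hr hB hb hb1).1
    exact hqr' z hz
  · -- `B` has no fixed points on `A`
    intro v hv
    by_contra hv1
    have hv1' : (v : G) ≠ 1 := fun h => hv1 (Subtype.ext h)
    obtain ⟨b, hb, hb1⟩ : ∃ b ∈ B, b ≠ 1 := by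
      obtain ⟨b, hb⟩ := (Subgroup.ne_bot_iff_exists_ne_one).mp hB1
      exact ⟨b, b.2, fun h => hb (Subtype.ext h)⟩
    have h1 : b * v * b⁻¹ = v := by
      have := congrArg Subtype.val (hv b hb)
      rwa [hf] at this
    have hcomm : Commute (v : G) b := by
      have : b * v = v * b := by
        have := congrArg (· * b) h1
        simpa [mul_assoc] using this
      exact this.symm
    obtain ⟨z, hz⟩ := exists_orderOf_eq_mul_of_commute hcomm hp hr hpr (hfin _) (hfin b)
      (dvd_orderOf_of_isPGroup hp hA v.2 hv1').1 (dvd_orderOf_of_isPGroup hr hB hb hb1).1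
    exact hpr' z hz
  · -- `Y` has no fixed points on `A`
    intro v hv
    by_contra hv1
    have hv1' : (v : G) ≠ 1 := fun h => hv1 (Subtype.ext h)
    have h1 : y * v * y⁻¹ = v := by
      have := congrArg Subtype.val (hv y (mem_zpowers y))
      rwa [hf] at this
    have hcomm : Commute (v : G) y := by
      have : y * v = v * y := by
        have := congrArg (· * y) h1
        simpa [mul_assoc] using this
      exact this.symm
    obtain ⟨z, hz⟩ := exists_orderOf_eq_mul_of_commute hcomm hp hq hpq (hfin _) (hfin y)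
      (dvd_orderOf_of_isPGroup hp hA v.2 hv1').1 (by rw [hy])
    exact hpq' z hz


/-- An abelian normal `p`-subgroup `A` together with a solvable `{q, r}`-subgroup `D` whose order is
divisible by `q * r` force an element of mixed order. -/
theorem exists_mixed_order {G : Type*} [Group G] [Finite G] {p q r : ℕ}
    (hp : p.Prime) (hq : q.Prime) (hr : r.Prime) (hpq : p ≠ q) (hpr : p ≠ r) (hqr : q ≠ r)
    (A : Subgroup G) [A.Normal] (hA1 : A ≠ ⊥) (hA : IsPGroup p A)
    (hAc : ∀ a ∈ A, ∀ b ∈ A, a * b = b * a)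
    (D : Subgroup G) [Group.IsSolvable D] (hqD : q ∣ Nat.card D) (hrD : r ∣ Nat.card D)
    (hD : ∀ ℓ : ℕ, ℓ.Prime → ℓ ∣ Nat.card D → ℓ = q ∨ ℓ = r) :
    (∃ z : G, orderOf z = p * q) ∨ (∃ z : G, orderOf z = p * r) ∨ (∃ z : G, orderOf z = q * r) := by
  have hnt : Nontrivial D := by
    rw [← Finite.one_lt_card_iff_nontrivial]
    have := Nat.le_of_dvd Nat.card_pos hqD
    have := hq.two_le
    omega
  obtain ⟨ℓ, B', hℓ, hB'n, hB'1, hB', -⟩ := exists_normal_abelian_pgroup (G := D)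
  obtain ⟨k, hk0, hk⟩ := card_eq_pow_of_isPGroup hℓ hB' hB'1
  have hℓD : ℓ ∣ Nat.card D := by
    have h1 : Nat.card B' ∣ Nat.card D := Subgroup.card_subgroup_dvd_card B'
    rw [hk] at h1
    exact (dvd_pow_self ℓ hk0).trans h1
  -- transport `B'` to `G`
  have hB : IsPGroup ℓ (B'.map D.subtype) := hB'.map D.subtype
  have hB1 : B'.map D.subtype ≠ ⊥ := by
    intro h
    apply hB'1
    rw [eq_bot_iff]
    intro b hb
    have : D.subtype b ∈ B'.map D.subtype := Subgroup.mem_map_of_mem _ hb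
    rw [h, Subgroup.mem_bot] at this
    rw [Subgroup.mem_bot]
    exact Subtype.ext this
  have hnorm : ∀ y' : D, ∀ b ∈ B'.map D.subtype, (y' : G) * b * (y' : G)⁻¹ ∈ B'.map D.subtype := by
    rintro y' _ ⟨b', hb', rfl⟩
    exact ⟨y' * b' * y'⁻¹, hB'n.conj_mem b' hb' y', by simp⟩
  rcases hD ℓ hℓ hℓD with rfl | rfl
  · -- `ℓ = q`: use an element of order `r`
    have : Fact r.Prime := ⟨hr⟩
    obtain ⟨y', hy'⟩ := exists_prime_orderOf_dvd_card' r hrD
    have hy : orderOf (y' : G) = r := by rw [Subgroup.orderOf_coe, hy']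
    rcases exists_mixed_order_aux hp hr hq hpr hpq hqr.symm A hA1 hA hAc _ hB1 hB (y' : G) hy
      (hnorm y') with h | h | h
    · exact Or.inr (Or.inl h)
    · exact Or.inl h
    · obtain ⟨z, hz⟩ := h
      exact Or.inr (Or.inr ⟨z, by rw [hz, mul_comm]⟩)
  · -- `ℓ = r`: use an element of order `q`
    have : Fact q.Prime := ⟨hq⟩
    obtain ⟨y', hy'⟩ := exists_prime_orderOf_dvd_card' q hqD
    have hy : orderOf (y' : G) = q := by rw [Subgroup.orderOf_coe, hy']
    exact exists_mixed_order_aux hp hq hr hpq hpr hqr A hA1 hA hAc _ hB1 hB (y' : G) hy (hnorm y')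

/-- **Three primes lemma.** In a finite solvable group whose order is divisible by three distinct
primes `p`, `q`, `r`, two of them are adjacent in the prime graph: there is an element of order
`p * q`, `p * r` or `q * r`. -/
theorem exists_mixed_order_of_solvable {G : Type u} [Group G] [Finite G] [Group.IsSolvable G]
    {p q r : ℕ} (hp : p.Prime) (hq : q.Prime) (hr : r.Prime)
    (hpq : p ≠ q) (hpr : p ≠ r) (hqr : q ≠ r)
    (hpG : p ∣ Nat.card G) (hqG : q ∣ Nat.card G) (hrG : r ∣ Nat.card G) :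
    (∃ z : G, orderOf z = p * q) ∨ (∃ z : G, orderOf z = p * r) ∨ (∃ z : G, orderOf z = q * r) := by
  induction' hn : Nat.card G using Nat.strong_induction_on with n ih generalizing G
  have hnt : Nontrivial G := by
    rw [← Finite.one_lt_card_iff_nontrivial]
    have := Nat.le_of_dvd Nat.card_pos hpG
    have := hp.two_le
    omega
  obtain ⟨ℓ, A, hℓ, hAn, hA1, hA, hAc⟩ := exists_normal_abelian_pgroup (G := G)
  by_cases hℓp : ℓ = p
  · subst hℓp
    obtain ⟨D, h1, h2, h3⟩ := exists_qr_subgroup q r hq hr hqr hqG hrG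
    exact exists_mixed_order hℓ hq hr hpq hpr hqr A hA1 hA hAc D h1 h2 h3
  by_cases hℓq : ℓ = q
  · subst hℓq
    obtain ⟨D, h1, h2, h3⟩ := exists_qr_subgroup p r hp hr hpr hpG hrG
    rcases exists_mixed_order hℓ hp hr hpq.symm hqr hpr A hA1 hA hAc D h1 h2 h3 with h | h | h
    · obtain ⟨z, hz⟩ := h
      exact Or.inl ⟨z, by rw [hz, mul_comm]⟩
    · exact Or.inr (Or.inr h)
    · exact Or.inr (Or.inl h)
  by_cases hℓr : ℓ = r
  · subst hℓr
    obtain ⟨D, h1, h2, h3⟩ := exists_qr_subgroup p q hp hq hpq hpG hqG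
    rcases exists_mixed_order hℓ hp hq hpr.symm hqr.symm hpq A hA1 hA hAc D h1 h2 h3 with h | h | h
    · obtain ⟨z, hz⟩ := h
      exact Or.inr (Or.inl ⟨z, by rw [hz, mul_comm]⟩)
    · obtain ⟨z, hz⟩ := h
      exact Or.inr (Or.inr ⟨z, by rw [hz, mul_comm]⟩)
    · exact Or.inl h
  -- `ℓ` is a fourth prime: pass to the quotient
  obtain ⟨k, hk0, hk⟩ := card_eq_pow_of_isPGroup hℓ hA hA1
  have hcard : Nat.card G = Nat.card (G ⧸ A) * Nat.card A :=
    Subgroup.card_eq_card_quotient_mul_card_subgroup A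
  have hdvd : ∀ {s : ℕ}, s.Prime → ℓ ≠ s → s ∣ Nat.card G → s ∣ Nat.card (G ⧸ A) := by
    intro s hs hℓs hsG
    rw [hcard, hk] at hsG
    rcases (Nat.Prime.dvd_mul hs).mp hsG with h | h
    · exact h
    · exact absurd (eq_of_prime_dvd_pow hs hℓ h).symm hℓs
  have hlt : Nat.card (G ⧸ A) < n := by
    rw [← hn, hcard, hk]
    have h1 : 0 < Nat.card (G ⧸ A) := Nat.card_pos
    have h2 : 2 ≤ ℓ ^ k := by
      calc 2 ≤ ℓ := hℓ.two_le
        _ = ℓ ^ 1 := (pow_one ℓ).symm
        _ ≤ ℓ ^ k := Nat.pow_le_pow_right hℓ.pos (Nat.one_le_iff_ne_zero.mpr hk0)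
    nlinarith
  have hlift : ∀ {m : ℕ}, (∃ z : G ⧸ A, orderOf z = m) → ∃ z : G, orderOf z = m :=
    fun h => exists_orderOf_eq_of_surjective (QuotientGroup.mk' A) (QuotientGroup.mk'_surjective A) h
  rcases ih _ hlt (hdvd hp hℓp hpG) (hdvd hq hℓq hqG) (hdvd hr hℓr hrG) rfl with h | h | h
  · exact Or.inl (hlift h)
  · exact Or.inr (Or.inl (hlift h))
  · exact Or.inr (Or.inr (hlift h))


/-! ### Solvability of products -/

/-- If `Y` normalizes `X` and both are solvable, then `X ⊔ Y` is solvable. -/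
theorem isSolvable_sup {G : Type*} [Group G] (X Y : Subgroup G) (hn : Y ≤ normalizer X)
    [hX : Group.IsSolvable X] [hY : Group.IsSolvable Y] : Group.IsSolvable ↥(X ⊔ Y) := by
  have hS : X ⊔ Y ≤ normalizer X := sup_le le_normalizer hn
  have hXn : (X.subgroupOf (X ⊔ Y)).Normal :=
    (Subgroup.normal_subgroupOf_iff_le_normalizer le_sup_left).mpr hS
  have hq : Group.IsSolvable (↥(X ⊔ Y) ⧸ X.subgroupOf (X ⊔ Y)) := by
    let φ : Y →* ↥(X ⊔ Y) ⧸ X.subgroupOf (X ⊔ Y) :=
      (QuotientGroup.mk' _).comp (Subgroup.inclusion le_sup_right)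
    refine Group.isSolvable_of_surjective (f := φ) ?_
    intro z
    obtain ⟨s, rfl⟩ := QuotientGroup.mk'_surjective _ z
    have hs : (s : G) ∈ (X : Set G) * (Y : Set G) := by
      rw [← coe_mul_of_right_le_normalizer_left X Y hn]; exact s.2
    obtain ⟨x, hx, y, hy, hxy⟩ := hs
    refine ⟨⟨y, hy⟩, ?_⟩
    change (QuotientGroup.mk' _) (Subgroup.inclusion le_sup_right ⟨y, hy⟩) = QuotientGroup.mk' _ s
    rw [QuotientGroup.mk'_apply, QuotientGroup.mk'_apply, QuotientGroup.eq, Subgroup.mem_subgroupOf]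
    -- `(incl y)⁻¹ * s = y⁻¹ * x * y ∈ X`
    have e : (((Subgroup.inclusion le_sup_right ⟨y, hy⟩ : ↥(X ⊔ Y))⁻¹ * s : ↥(X ⊔ Y)) : G)
        = y⁻¹ * x * y := by
      change (y : G)⁻¹ * (s : G) = y⁻¹ * x * y
      rw [← hxy]; group
    rw [e]
    have := (Subgroup.mem_normalizer_iff.mp (hn (Y.inv_mem hy)) x).mp hx
    simpa using this
  exact Group.isSolvable_of_ker_le_range (Subgroup.inclusion le_sup_left)
    (QuotientGroup.mk' (X.subgroupOf (X ⊔ Y))) (by
      intro s hs
      rw [QuotientGroup.ker_mk', Subgroup.mem_subgroupOf] at hs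
      exact ⟨⟨s, hs⟩, rfl⟩)


/-! ### A Frattini step -/

/-- A finite `q`-group is solvable. -/
theorem isSolvable_of_isPGroup {G : Type*} [Group G] [Finite G] {q : ℕ} (hq : q.Prime)
    (h : IsPGroup q G) : Group.IsSolvable G := by
  have : Fact q.Prime := ⟨hq⟩
  have := h.isNilpotent
  infer_instance

/-- Frattini step: if `N ⊴ G`, `q ∣ |N|` and `r ∣ |G : N|`, then some element of order `r`
normalizes a `q`-subgroup of `G` of order divisible by `q`. -/
theorem exists_pgroup_normalized {G : Type*} [Group G] [Finite G] (N : Subgroup G) [N.Normal]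
    {q r : ℕ} (hq : q.Prime) (hr : r.Prime) (hqN : q ∣ Nat.card N) (hrN : r ∣ N.index) :
    ∃ (Q : Subgroup G) (x : G), IsPGroup q Q ∧ q ∣ Nat.card Q ∧ orderOf x = r ∧
      x ∈ normalizer (Q : Set G) := by
  have : Fact q.Prime := ⟨hq⟩
  have : Fact r.Prime := ⟨hr⟩
  obtain ⟨Q'⟩ : Nonempty (Sylow q N) := inferInstance
  have hfr : normalizer ((Q' : Subgroup N).map N.subtype) ⊔ N = ⊤ := Sylow.normalizer_sup_eq_top Q'
  set Q : Subgroup G := (Q' : Subgroup N).map N.subtype with hQ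
  have hrn : r ∣ Nat.card (normalizer (Q : Set G)) := by
    have h1 : N.relIndex (normalizer (Q : Set G) ⊔ N) = N.relIndex (normalizer (Q : Set G)) := Subgroup.relIndex_sup_right _ _
    rw [hfr, Subgroup.relIndex_top_right] at h1
    rw [h1] at hrN
    exact hrN.trans (Subgroup.relIndex_dvd_card _ _)
  obtain ⟨x', hx'⟩ := exists_prime_orderOf_dvd_card' r hrn
  refine ⟨Q, (x' : G), Q'.isPGroup'.map N.subtype, ?_, ?_, x'.2⟩
  · rw [hQ, Subgroup.card_subtype]
    exact Q'.dvd_card_of_dvd_card hqN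
  · rw [Subgroup.orderOf_coe, hx']


end Cfsg.Agent.Lib.Helper60_ThreePrimes
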