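import Mathlib
import Cfsg.Prelude.Def_Perm
import Cfsg.Agent.Lib.Helper12_PrimeDeg
import Cfsg.Agent.Lib.Helper12_PrimeDeg2
import Cfsg.Agent.Lib.Helper12_PrimeDeg3
import Cfsg.Agent.Lib.Helper12_PrimeDeg4
import Cfsg.Agent.Lib.Helper12_PrimeDeg5

/-!
Two-primitivity of the non-affine groups of permutations of `ZMod p` containing the translations
and half of the affine group, `p ≡ 3 mod 4`, `p > 7`.

A nontrivial block of a point stabiliser on the remaining points yields a linear space on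
`ZMod p` preserved by the group (`BlockData.geom`).  Counting the affine maps preserving a line
shows that the lines have three points (`third_unique`), so that the space is a Netto triple
system (`exists_eps`); explicit configurations in it are incompatible with the transitivity of a
two point stabiliser off the line through the two points (`netto_false`).
-/

set_option autoImplicit false

namespace Cfsg.Agent.Lib.Helper60_TwoPrim

open Cfsg.Agent.Lib.Helper12_PrimeDeg


section Abstract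

variable {X : Type*}

/-- the axioms of a collinearity relation on triples of distinct points -/
structure Collin (C : X → X → X → Prop) : Prop where
  ne12 : ∀ x y z, C x y z → x ≠ y
  ne13 : ∀ x y z, C x y z → x ≠ z
  ne23 : ∀ x y z, C x y z → y ≠ z
  sym12 : ∀ x y z, C x y z → C y x z
  sym23 : ∀ x y z, C x y z → C x z y
  trans : ∀ x y z z', C x y z → C x y z' → z ≠ z' → C x z z'

/-- the line through two points -/
def line (C : X → X → X → Prop) (x y : X) : Set X := {z | z = x ∨ z = y ∨ C x y z}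

theorem mem_line {C : X → X → X → Prop} {x y z : X} :
    z ∈ line C x y ↔ z = x ∨ z = y ∨ C x y z := Iff.rfl

theorem line_comm {C : X → X → X → Prop} (hC : Collin C) (x y : X) :
    line C x y = line C y x := by
  ext z
  simp only [mem_line]
  constructor
  · rintro (h | h | h)
    · exact Or.inr (Or.inl h)
    · exact Or.inl h
    · exact Or.inr (Or.inr (hC.sym12 _ _ _ h))
  · rintro (h | h | h)
    · exact Or.inr (Or.inl h)
    · exact Or.inl h
    · exact Or.inr (Or.inr (hC.sym12 _ _ _ h))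

theorem line_eq_left {C : X → X → X → Prop} (hC : Collin C) {x y v : X}
    (hv : v ∈ line C x y) (hvx : v ≠ x) : line C x v = line C x y := by
  rcases hv with h | h | h
  · exact absurd h hvx
  · rw [h]
  · ext z
    simp only [mem_line]
    constructor
    · rintro (hz | hz | hz)
      · exact Or.inl hz
      · rw [hz]; exact Or.inr (Or.inr h)
      · by_cases hzy : z = y
        · exact Or.inr (Or.inl hzy)
        · refine Or.inr (Or.inr ?_)
          have h1 : C x v y := hC.sym23 _ _ _ h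
          exact hC.trans x v y z h1 hz (fun e => hzy e.symm)
    · rintro (hz | hz | hz)
      · exact Or.inl hz
      · rw [hz]; exact Or.inr (Or.inr (hC.sym23 _ _ _ h))
      · by_cases hzv : z = v
        · exact Or.inr (Or.inl hzv)
        · exact Or.inr (Or.inr (hC.trans x y v z h hz (fun e => hzv e.symm)))

theorem line_eq {C : X → X → X → Prop} (hC : Collin C) {x y u v : X}
    (hu : u ∈ line C x y) (hv : v ∈ line C x y) (huv : u ≠ v) : line C u v = line C x y := by
  by_cases hux : u = x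
  · rw [hux] at huv ⊢
    exact line_eq_left hC hv (fun e => huv e.symm)
  · have h1 : line C x u = line C x y := line_eq_left hC hu hux
    by_cases hvx : v = x
    · rw [hvx, line_comm hC u x, h1]
    · have hv' : v ∈ line C u x := by rw [line_comm hC u x, h1]; exact hv
      have h2 := line_eq_left hC hv' (fun e => huv e.symm)
      rw [h2, line_comm hC u x, h1]

end Abstract



section Block

variable {X : Type*}

/-- the orbit of a triple -/
def Coll (G : Subgroup (Equiv.Perm X)) (a₀ y₀ w₀ : X) (x y z : X) : Prop :=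
  ∃ g ∈ G, g a₀ = x ∧ g y₀ = y ∧ g w₀ = z

/-- the data of a nontrivial block of a point stabiliser in a doubly transitive group whose two
point stabilisers have at most two orbits on the remaining points -/
structure BlockData (G : Subgroup (Equiv.Perm X)) (a₀ y₀ w₀ v₀ : X) (B : Set X) : Prop where
  two : ∀ a b c d : X, a ≠ b → c ≠ d → ∃ g ∈ G, g a = c ∧ g b = d
  orb : ∀ a b : X, a ≠ b → ∀ c : Fin 3 → X, (∀ i, c i ≠ a) → (∀ i, c i ≠ b) →
    ∃ i j, i ≠ j ∧ ∃ g ∈ G, g a = a ∧ g b = b ∧ g (c i) = c j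
  block : ∀ g ∈ G, g a₀ = a₀ → ∀ x ∈ B, g x ∈ B → ∀ y ∈ B, g y ∈ B
  ha : a₀ ∉ B
  hy : y₀ ∈ B
  hw : w₀ ∈ B
  hyw : y₀ ≠ w₀
  hv : v₀ ∉ B
  hva : v₀ ≠ a₀

/-- the geometry preserved by the group -/
structure Geom (G : Subgroup (Equiv.Perm X)) (C : X → X → X → Prop) : Prop where
  coll : Collin C
  inv : ∀ g ∈ G, ∀ x y z, C x y z → C (g x) (g y) (g z)
  two : ∀ a b c d : X, a ≠ b → c ≠ d → ∃ g ∈ G, g a = c ∧ g b = d
  off : ∀ x y z z', x ≠ y → z ∉ line C x y → z' ∉ line C x y →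
    ∃ g ∈ G, g x = x ∧ g y = y ∧ g z = z'
  ex : ∀ x y, x ≠ y → ∃ z, C x y z
  proper : ∀ x y, x ≠ y → ∃ z, z ∉ line C x y

variable {G : Subgroup (Equiv.Perm X)} {a₀ y₀ w₀ v₀ : X} {B : Set X}

theorem perm_inv_apply (g : Equiv.Perm X) (x : X) : g⁻¹ (g x) = x := by simp

theorem perm_apply_inv (g : Equiv.Perm X) (x : X) : g (g⁻¹ x) = x := by simp

theorem perm_inv_fix {g : Equiv.Perm X} {x : X} (h : g x = x) : g⁻¹ x = x := by
  rw [← h, perm_inv_apply, h]

theorem Coll.inv' {x y z : X} (h : Coll G a₀ y₀ w₀ x y z) (g : Equiv.Perm X) (hg : g ∈ G) :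
    Coll G a₀ y₀ w₀ (g x) (g y) (g z) := by
  obtain ⟨g₁, hg₁, h1, h2, h3⟩ := h
  refine ⟨g * g₁, G.mul_mem hg hg₁, ?_, ?_, ?_⟩
  · show g (g₁ a₀) = g x; rw [h1]
  · show g (g₁ y₀) = g y; rw [h2]
  · show g (g₁ w₀) = g z; rw [h3]

namespace BlockData

variable (D : BlockData G a₀ y₀ w₀ v₀ B)
include D

theorem a_ne_y : a₀ ≠ y₀ := fun h => D.ha (h ▸ D.hy)

theorem a_ne_w : a₀ ≠ w₀ := fun h => D.ha (h ▸ D.hw)

theorem stab_mem {g : Equiv.Perm X} (hg : g ∈ G) (ga : g a₀ = a₀) (gy : g y₀ = y₀) (z : X) :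
    g z ∈ B ↔ z ∈ B := by
  constructor
  · intro h
    have h1 : g⁻¹ a₀ = a₀ := by rw [← ga, perm_inv_apply, ga]
    have h2 : g⁻¹ y₀ = y₀ := by rw [← gy, perm_inv_apply, gy]
    have := D.block g⁻¹ (G.inv_mem hg) h1 y₀ D.hy (by rw [h2]; exact D.hy) (g z) h
    rwa [perm_inv_apply] at this
  · intro h
    exact D.block g hg ga y₀ D.hy (by rw [gy]; exact D.hy) z h

theorem orbit_w {z : X} (hz : z ∈ B) (hzy : z ≠ y₀) :
    ∃ g ∈ G, g a₀ = a₀ ∧ g y₀ = y₀ ∧ g w₀ = z := by
  have hza : z ≠ a₀ := fun h => D.ha (h ▸ hz)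
  obtain ⟨i, j, hij, g, hg, ga, gy, gc⟩ := D.orb a₀ y₀ D.a_ne_y ![w₀, v₀, z]
    (by
      intro i
      fin_cases i
      · exact fun h => D.a_ne_w h.symm
      · exact D.hva
      · exact hza)
    (by
      intro i
      fin_cases i
      · exact fun h => D.hyw h.symm
      · exact fun h => D.hv (by rw [show v₀ = y₀ from h]; exact D.hy)
      · exact hzy)
  have hsm := D.stab_mem hg ga gy
  fin_cases i <;> fin_cases j
  · exact absurd rfl hij
  · exfalso
    have h1 : g w₀ = v₀ := gc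
    exact D.hv (h1 ▸ (hsm w₀).mpr D.hw)
  · exact ⟨g, hg, ga, gy, gc⟩
  · exfalso
    have h1 : g v₀ = w₀ := gc
    exact D.hv ((hsm v₀).mp (h1 ▸ D.hw))
  · exact absurd rfl hij
  · exfalso
    have h1 : g v₀ = z := gc
    exact D.hv ((hsm v₀).mp (h1 ▸ hz))
  · have h1 : g z = w₀ := gc
    refine ⟨g⁻¹, G.inv_mem hg, ?_, ?_, ?_⟩
    · rw [← ga, perm_inv_apply, ga]
    · rw [← gy, perm_inv_apply, gy]
    · rw [← h1, perm_inv_apply]
  · exfalso
    have h1 : g z = v₀ := gc
    exact D.hv (h1 ▸ (hsm z).mpr hz)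
  · exact absurd rfl hij

theorem orbit_v {z : X} (hz : z ∉ B) (hza : z ≠ a₀) :
    ∃ g ∈ G, g a₀ = a₀ ∧ g y₀ = y₀ ∧ g v₀ = z := by
  have hzy : z ≠ y₀ := fun h => hz (h ▸ D.hy)
  obtain ⟨i, j, hij, g, hg, ga, gy, gc⟩ := D.orb a₀ y₀ D.a_ne_y ![w₀, v₀, z]
    (by
      intro i
      fin_cases i
      · exact fun h => D.a_ne_w h.symm
      · exact D.hva
      · exact hza)
    (by
      intro i
      fin_cases i
      · exact fun h => D.hyw h.symm
      · exact fun h => D.hv (by rw [show v₀ = y₀ from h]; exact D.hy)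
      · exact hzy)
  have hsm := D.stab_mem hg ga gy
  fin_cases i <;> fin_cases j
  · exact absurd rfl hij
  · exfalso
    have h1 : g w₀ = v₀ := gc
    exact D.hv (h1 ▸ (hsm w₀).mpr D.hw)
  · exfalso
    have h1 : g w₀ = z := gc
    exact hz (h1 ▸ (hsm w₀).mpr D.hw)
  · exfalso
    have h1 : g v₀ = w₀ := gc
    exact D.hv ((hsm v₀).mp (h1 ▸ D.hw))
  · exact absurd rfl hij
  · exact ⟨g, hg, ga, gy, gc⟩
  · exfalso
    have h1 : g z = w₀ := gc
    exact hz ((hsm z).mp (h1 ▸ D.hw))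
  · have h1 : g z = v₀ := gc
    refine ⟨g⁻¹, G.inv_mem hg, ?_, ?_, ?_⟩
    · rw [← ga, perm_inv_apply, ga]
    · rw [← gy, perm_inv_apply, gy]
    · rw [← h1, perm_inv_apply]
  · exact absurd rfl hij

theorem coll_base_iff (z : X) : Coll G a₀ y₀ w₀ a₀ y₀ z ↔ z ∈ B ∧ z ≠ y₀ := by
  constructor
  · rintro ⟨g, hg, ga, gy, gw⟩
    refine ⟨gw ▸ (D.stab_mem hg ga gy w₀).mpr D.hw, ?_⟩
    rw [← gw]
    intro h
    rw [← gy] at h
    exact D.hyw (g.injective h).symm
  · rintro ⟨hz, hzy⟩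
    exact D.orbit_w hz hzy

theorem coll_of_mem {w t : X} (hw : w ∈ B) (ht : t ∈ B) (htw : t ≠ w) :
    Coll G a₀ y₀ w₀ a₀ w t := by
  have haw : a₀ ≠ w := fun h => D.ha (h ▸ hw)
  obtain ⟨g₁, hg₁, g₁a, g₁y⟩ := D.two a₀ y₀ a₀ w D.a_ne_y haw
  have h1 : g₁⁻¹ a₀ = a₀ := by rw [← g₁a, perm_inv_apply, g₁a]
  have h2 : g₁⁻¹ w = y₀ := by rw [← g₁y, perm_inv_apply]
  have h3 : g₁⁻¹ t ∈ B := D.block g₁⁻¹ (G.inv_mem hg₁) h1 w hw (by rw [h2]; exact D.hy) t ht
  have h4 : g₁⁻¹ t ≠ y₀ := by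
    intro h
    apply htw
    rw [← h2] at h
    exact g₁⁻¹.injective h
  obtain ⟨h, hh, ha', hy', hw'⟩ := D.orbit_w h3 h4
  refine ⟨g₁ * h, G.mul_mem hg₁ hh, ?_, ?_, ?_⟩
  · show g₁ (h a₀) = a₀; rw [ha', g₁a]
  · show g₁ (h y₀) = w; rw [hy', g₁y]
  · show g₁ (h w₀) = t; rw [hw', perm_apply_inv]

theorem coll_ne12 {x y z : X} (h : Coll G a₀ y₀ w₀ x y z) : x ≠ y := by
  obtain ⟨g, _, ga, gy, _⟩ := h
  rw [← ga, ← gy]
  exact fun e => D.a_ne_y (g.injective e)

theorem coll_ne13 {x y z : X} (h : Coll G a₀ y₀ w₀ x y z) : x ≠ z := by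
  obtain ⟨g, _, ga, _, gw⟩ := h
  rw [← ga, ← gw]
  exact fun e => D.a_ne_w (g.injective e)

theorem coll_ne23 {x y z : X} (h : Coll G a₀ y₀ w₀ x y z) : y ≠ z := by
  obtain ⟨g, _, _, gy, gw⟩ := h
  rw [← gy, ← gw]
  exact fun e => D.hyw (g.injective e)

theorem coll_sym23 {x y z : X} (h : Coll G a₀ y₀ w₀ x y z) : Coll G a₀ y₀ w₀ x z y := by
  obtain ⟨g, hg, ga, gy, gw⟩ := h
  have h1 : Coll G a₀ y₀ w₀ a₀ w₀ y₀ := D.coll_of_mem D.hw D.hy D.hyw
  have h2 := h1.inv' g hg
  rwa [ga, gy, gw] at h2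

theorem coll_trans {x y z z' : X} (h : Coll G a₀ y₀ w₀ x y z) (h' : Coll G a₀ y₀ w₀ x y z')
    (hzz : z ≠ z') : Coll G a₀ y₀ w₀ x z z' := by
  obtain ⟨g, hg, ga, gy, gw⟩ := h
  have h1 := h'.inv' g⁻¹ (G.inv_mem hg)
  rw [← ga, ← gy, perm_inv_apply, perm_inv_apply] at h1
  have h2 := (D.coll_base_iff _).mp h1
  have h3 : g⁻¹ z' ≠ w₀ := by
    intro e
    apply hzz
    rw [← gw, ← e, perm_apply_inv]
  have h4 : Coll G a₀ y₀ w₀ a₀ w₀ (g⁻¹ z') := D.coll_of_mem D.hw h2.1 h3
  have h5 := h4.inv' g hg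
  rwa [ga, gw, perm_apply_inv] at h5

/-- the triples of distinct points outside the orbit form a single orbit -/
theorem other_orbit {x y z x' y' z' : X} (hxy : x ≠ y) (hxz : x ≠ z) (hyz : y ≠ z)
    (hn : ¬ Coll G a₀ y₀ w₀ x y z) (hxy' : x' ≠ y') (hxz' : x' ≠ z') (hyz' : y' ≠ z')
    (hn' : ¬ Coll G a₀ y₀ w₀ x' y' z') : ∃ g ∈ G, g x = x' ∧ g y = y' ∧ g z = z' := by
  obtain ⟨g₁, hg₁, g₁a, g₁y⟩ := D.two a₀ y₀ x y D.a_ne_y hxy
  obtain ⟨g₂, hg₂, g₂a, g₂y⟩ := D.two a₀ y₀ x' y' D.a_ne_y hxy'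
  have key : ∀ (g : Equiv.Perm X), g ∈ G → ∀ u v t : X, g a₀ = u → g y₀ = v → u ≠ t → v ≠ t →
      ¬ Coll G a₀ y₀ w₀ u v t → ∃ h ∈ G, h a₀ = a₀ ∧ h y₀ = y₀ ∧ h v₀ = g⁻¹ t := by
    intro g hg u v t gu gv hut hvt hnc
    have h1 : g⁻¹ t ∉ B := by
      intro hB
      have h2 : g⁻¹ t ≠ y₀ := by
        intro e
        apply hvt
        rw [← gv, ← e, perm_apply_inv]
      have h3 := (D.coll_base_iff _).mpr ⟨hB, h2⟩
      have h4 := h3.inv' g hg
      rw [gu, gv, perm_apply_inv] at h4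
      exact hnc h4
    have h2 : g⁻¹ t ≠ a₀ := by
      intro e
      apply hut
      rw [← gu, ← e, perm_apply_inv]
    exact D.orbit_v h1 h2
  obtain ⟨h₁, hh₁, h₁a, h₁y, h₁v⟩ := key g₁ hg₁ x y z g₁a g₁y hxz hyz hn
  obtain ⟨h₂, hh₂, h₂a, h₂y, h₂v⟩ := key g₂ hg₂ x' y' z' g₂a g₂y hxz' hyz' hn'
  refine ⟨g₂ * h₂ * h₁⁻¹ * g₁⁻¹, G.mul_mem (G.mul_mem (G.mul_mem hg₂ hh₂) (G.inv_mem hh₁))
    (G.inv_mem hg₁), ?_, ?_, ?_⟩
  · show g₂ (h₂ (h₁⁻¹ (g₁⁻¹ x))) = x'
    rw [← g₁a, perm_inv_apply, perm_inv_fix h₁a, h₂a, g₂a]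
  · show g₂ (h₂ (h₁⁻¹ (g₁⁻¹ y))) = y'
    rw [← g₁y, perm_inv_apply, perm_inv_fix h₁y, h₂y, g₂y]
  · show g₂ (h₂ (h₁⁻¹ (g₁⁻¹ z))) = z'
    rw [← h₁v, perm_inv_apply, h₂v, perm_apply_inv]

theorem coll_sym12 {x y z : X} (h : Coll G a₀ y₀ w₀ x y z) : Coll G a₀ y₀ w₀ y x z := by
  by_contra hn
  have hxy := D.coll_ne12 h
  have hxz := D.coll_ne13 h
  have hyz := D.coll_ne23 h
  -- every triple outside the orbit is mapped into it by the swap
  have hB : ∀ x' y' z' : X, x' ≠ y' → x' ≠ z' → y' ≠ z' → ¬ Coll G a₀ y₀ w₀ x' y' z' →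
      Coll G a₀ y₀ w₀ y' x' z' := by
    intro x' y' z' h1 h2 h3 h4
    obtain ⟨g, hg, gy, gx, gz⟩ := D.other_orbit hxy.symm hyz hxz hn h1 h2 h3 h4
    have := h.inv' g hg
    rwa [gx, gy, gz] at this
  -- every triple in the orbit is mapped out of it by the swap
  have hA : ∀ x' y' z' : X, Coll G a₀ y₀ w₀ x' y' z' → ¬ Coll G a₀ y₀ w₀ y' x' z' := by
    intro x' y' z' h1 h2
    obtain ⟨g, hg, ga, gy, gw⟩ := h
    obtain ⟨g', hg', ga', gy', gw'⟩ := h1
    apply hn
    have h3 := h2.inv' (g * g'⁻¹) (G.mul_mem hg (G.inv_mem hg'))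
    have e1 : (g * g'⁻¹) y' = y := by
      show g (g'⁻¹ y') = y
      rw [← gy', perm_inv_apply, gy]
    have e2 : (g * g'⁻¹) x' = x := by
      show g (g'⁻¹ x') = x
      rw [← ga', perm_inv_apply, ga]
    have e3 : (g * g'⁻¹) z' = z := by
      show g (g'⁻¹ z') = z
      rw [← gw', perm_inv_apply, gw]
    rwa [e1, e2, e3] at h3
  have h1 : ¬ Coll G a₀ y₀ w₀ y z x := fun e => hn (D.coll_sym23 e)
  have h2 : Coll G a₀ y₀ w₀ z y x := hB y z x hyz hxy.symm hxz.symm h1
  have h3 : Coll G a₀ y₀ w₀ z x y := D.coll_sym23 h2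
  exact hA z x y h3 (D.coll_sym23 h)

theorem collin : Collin (Coll G a₀ y₀ w₀) where
  ne12 := fun _ _ _ h => D.coll_ne12 h
  ne13 := fun _ _ _ h => D.coll_ne13 h
  ne23 := fun _ _ _ h => D.coll_ne23 h
  sym12 := fun _ _ _ h => D.coll_sym12 h
  sym23 := fun _ _ _ h => D.coll_sym23 h
  trans := fun _ _ _ _ h h' hz => D.coll_trans h h' hz

theorem geom : Geom G (Coll G a₀ y₀ w₀) where
  coll := D.collin
  inv := fun g hg _ _ _ h => h.inv' g hg
  two := D.two
  off := by
    intro x y z z' hxy hz hz'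
    simp only [mem_line, not_or] at hz hz'
    exact D.other_orbit hxy (fun e => hz.1 e.symm) (fun e => hz.2.1 e.symm) hz.2.2 hxy
      (fun e => hz'.1 e.symm) (fun e => hz'.2.1 e.symm) hz'.2.2
  ex := by
    intro x y hxy
    obtain ⟨g, hg, ga, gy⟩ := D.two a₀ y₀ x y D.a_ne_y hxy
    exact ⟨g w₀, g, hg, ga, gy, rfl⟩
  proper := by
    intro x y hxy
    obtain ⟨g, hg, ga, gy⟩ := D.two a₀ y₀ x y D.a_ne_y hxy
    refine ⟨g v₀, ?_⟩
    simp only [mem_line, not_or]
    refine ⟨?_, ?_, ?_⟩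
    · rw [← ga]; exact fun e => D.hva (g.injective e)
    · rw [← gy]; exact fun e => D.hv ((g.injective e) ▸ D.hy)
    · intro h
      have h1 := h.inv' g⁻¹ (G.inv_mem hg)
      rw [← ga, ← gy, perm_inv_apply, perm_inv_apply, perm_inv_apply] at h1
      exact D.hv ((D.coll_base_iff _).mp h1).1

end BlockData

end Block




section Netto

variable {p : ℕ} [hp : Fact p.Prime]

/-- the group contains all the affine maps with square multiplier -/
def HasSqAff (G : Subgroup (Equiv.Perm (ZMod p))) : Prop :=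
  ∀ s : ZMod p, s ≠ 0 → ∀ c : ZMod p, ∃ g ∈ G, ∀ x, g x = s * s * x + c

theorem exists_sq_diff (hp34 : p % 4 = 3) {u v δ : ZMod p} (huv : u ≠ v) (hδ : δ ≠ 0) :
    ∃ s : ZMod p, s ≠ 0 ∧ (v - u = s * s * δ ∨ u - v = s * s * δ) := by
  have hd : (v - u) / δ ≠ 0 := div_ne_zero (sub_ne_zero.mpr huv.symm) hδ
  obtain ⟨y, hy, h | h⟩ := eq_sq_or_neg_sq hp34 hd
  · refine ⟨y, hy, Or.inl ?_⟩
    rw [← h, div_mul_cancel₀ _ hδ]
  · refine ⟨y, hy, Or.inr ?_⟩
    have h1 : (v - u) = y * y * (-1) * δ := by rw [← h, div_mul_cancel₀ _ hδ]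
    linear_combination -h1

variable {G : Subgroup (Equiv.Perm (ZMod p))} {C : ZMod p → ZMod p → ZMod p → Prop}

theorem affine_mem_line (hG : Geom G C) (hA : HasSqAff G) {a₀ y₀ u v s : ZMod p}
    (hu : u ∈ line C a₀ y₀) (hv : v ∈ line C a₀ y₀) (huv : u ≠ v) (hs : s ≠ 0)
    (hd : v - u = s * s * (y₀ - a₀)) {z : ZMod p} (hz : z ∈ line C a₀ y₀) :
    s * s * z + (u - s * s * a₀) ∈ line C a₀ y₀ := by
  obtain ⟨n, hn, hnx⟩ := hA s hs (u - s * s * a₀)
  have na : n a₀ = u := by rw [hnx]; ring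
  have ny : n y₀ = v := by rw [hnx]; linear_combination -hd
  rw [← hnx]
  rcases hz with h | h | h
  · rw [h, na]; exact hu
  · rw [h, ny]; exact hv
  · have h1 := hG.inv n hn _ _ _ h
    rw [na, ny] at h1
    rw [← line_eq hG.coll hu hv huv]
    exact Or.inr (Or.inr h1)

theorem third_unique (hp34 : p % 4 = 3) (hG : Geom G C) (hA : HasSqAff G) {a₀ y₀ z z' : ZMod p}
    (h : C a₀ y₀ z) (h' : C a₀ y₀ z') : z = z' := by
  classical
  by_contra hzz
  have hpp := hp.out
  have ha : a₀ ≠ y₀ := hG.coll.ne12 _ _ _ h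
  set δ : ZMod p := y₀ - a₀ with hδdef
  have hδ : δ ≠ 0 := sub_ne_zero.mpr ha.symm
  set L : Finset (ZMod p) := Finset.univ.filter (fun x => x ∈ line C a₀ y₀) with hL
  have memL : ∀ x, x ∈ L ↔ x ∈ line C a₀ y₀ := by
    intro x
    simp [hL]
  have haL : a₀ ∈ L := (memL _).mpr (Or.inl rfl)
  have hyL : y₀ ∈ L := (memL _).mpr (Or.inr (Or.inl rfl))
  have hzL : z ∈ L := (memL _).mpr (Or.inr (Or.inr h))
  have hzL' : z' ∈ L := (memL _).mpr (Or.inr (Or.inr h'))
  set k := L.card with hk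
  -- at least four points
  have hk4 : 4 ≤ k := by
    have hsub : ({a₀, y₀, z, z'} : Finset (ZMod p)) ⊆ L := by
      intro x hx
      simp only [Finset.mem_insert, Finset.mem_singleton] at hx
      rcases hx with rfl | rfl | rfl | rfl <;> assumption
    have hc : ({a₀, y₀, z, z'} : Finset (ZMod p)).card = 4 := by
      rw [Finset.card_insert_of_notMem, Finset.card_insert_of_notMem,
        Finset.card_insert_of_notMem, Finset.card_singleton]
      · simpa using hzz
      · simp only [Finset.mem_insert, Finset.mem_singleton, not_or]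
        exact ⟨hG.coll.ne23 _ _ _ h, hG.coll.ne23 _ _ _ h'⟩
      · simp only [Finset.mem_insert, Finset.mem_singleton, not_or]
        exact ⟨ha, hG.coll.ne13 _ _ _ h, hG.coll.ne13 _ _ _ h'⟩
    calc 4 = ({a₀, y₀, z, z'} : Finset (ZMod p)).card := hc.symm
      _ ≤ k := Finset.card_le_card hsub
  -- fewer than `p` points
  have hkp : k < p := by
    obtain ⟨v₀, hv₀⟩ := hG.proper a₀ y₀ ha
    have hsub : L ⊆ Finset.univ.erase v₀ := by
      intro x hx
      rw [Finset.mem_erase]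
      refine ⟨?_, Finset.mem_univ _⟩
      rintro rfl
      exact hv₀ ((memL _).mp hx)
    have := Finset.card_le_card hsub
    rw [Finset.card_erase_of_mem (Finset.mem_univ _), Finset.card_univ, ZMod.card] at this
    have := hpp.two_le
    omega
  have hk0 : (k : ZMod p) ≠ 0 := by
    intro h0
    rw [ZMod.natCast_eq_zero_iff] at h0
    have := Nat.le_of_dvd (by omega) h0
    omega
  -- the affine maps preserving the line
  set N : Finset (ZMod p × ZMod p) :=
    Finset.univ.filter (fun mc => mc.1 ≠ 0 ∧ ∀ x ∈ L, mc.1 * x + mc.2 ∈ L) with hN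
  have memN : ∀ mc : ZMod p × ZMod p, mc ∈ N ↔ mc.1 ≠ 0 ∧ ∀ x ∈ L, mc.1 * x + mc.2 ∈ L := by
    intro mc
    simp [hN]
  -- they fix the centroid
  set zc : ZMod p := (∑ x ∈ L, x) / k with hzc
  have hfix : ∀ mc ∈ N, mc.1 * zc + mc.2 = zc := by
    intro mc hmc
    obtain ⟨hm, hpres⟩ := (memN mc).mp hmc
    have hinj : Function.Injective (fun x : ZMod p => mc.1 * x + mc.2) := by
      intro x y hxy
      have h1 : mc.1 * x = mc.1 * y := add_right_cancel hxy
      exact mul_left_cancel₀ hm h1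
    have himg : L.image (fun x : ZMod p => mc.1 * x + mc.2) = L := by
      apply Finset.eq_of_subset_of_card_le
      · intro y hy
        obtain ⟨x, hx, rfl⟩ := Finset.mem_image.mp hy
        exact hpres x hx
      · rw [Finset.card_image_of_injective _ hinj]
    have hsum : ∑ x ∈ L, x = mc.1 * ∑ x ∈ L, x + k * mc.2 := by
      conv_lhs => rw [← himg]
      rw [Finset.sum_image (fun x _ y _ hxy => hinj hxy), Finset.sum_add_distrib,
        ← Finset.mul_sum, Finset.sum_const, nsmul_eq_mul]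
    rw [hzc]
    field_simp
    linear_combination -hsum
  -- at most `k` of them
  have hNle : N.card ≤ k := by
    obtain ⟨y₁, hy₁L, hy₁⟩ : ∃ y₁ ∈ L, y₁ ≠ zc := by
      by_cases h1 : a₀ = zc
      · exact ⟨y₀, hyL, fun e => ha (h1.trans e.symm)⟩
      · exact ⟨a₀, haL, h1⟩
    apply Finset.card_le_card_of_injOn (fun mc => mc.1 * y₁ + mc.2)
    · intro mc hmc
      exact ((memN mc).mp hmc).2 y₁ hy₁L
    · intro mc hmc mc' hmc' he
      have e1 := hfix mc hmc
      have e2 := hfix mc' hmc'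
      have he' : mc.1 * y₁ + mc.2 = mc'.1 * y₁ + mc'.2 := he
      have h1 : (mc.1 - mc'.1) * (y₁ - zc) = 0 := by linear_combination he' - e1 + e2
      have h2 : mc.1 = mc'.1 := by
        rcases mul_eq_zero.mp h1 with h | h
        · exact sub_eq_zero.mp h
        · exact absurd (sub_eq_zero.mp h) hy₁
      have h3 : mc.2 = mc'.2 := by
        rw [h2] at he'
        exact add_left_cancel he'
      exact Prod.ext h2 h3
  -- at least `k (k - 1) / 2` of them
  have hNge : k * k - k ≤ N.card * 2 := by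
    let φ : ZMod p × ZMod p → (ZMod p × ZMod p) × Bool := fun uv =>
      if ∃ s : ZMod p, s ≠ 0 ∧ uv.2 - uv.1 = s * s * δ then
        (((uv.2 - uv.1) / δ, uv.1 - (uv.2 - uv.1) / δ * a₀), true)
      else (((uv.1 - uv.2) / δ, uv.2 - (uv.1 - uv.2) / δ * a₀), false)
    let ψ : (ZMod p × ZMod p) × Bool → ZMod p × ZMod p := fun mcb =>
      if mcb.2 then (mcb.1.1 * a₀ + mcb.1.2, mcb.1.1 * y₀ + mcb.1.2)
      else (mcb.1.1 * y₀ + mcb.1.2, mcb.1.1 * a₀ + mcb.1.2)
    have hψφ : ∀ uv, ψ (φ uv) = uv := by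
      intro uv
      by_cases hc : ∃ s : ZMod p, s ≠ 0 ∧ uv.2 - uv.1 = s * s * δ
      · simp only [φ, ψ, if_pos hc, if_true]
        apply Prod.ext
        · show (uv.2 - uv.1) / δ * a₀ + (uv.1 - (uv.2 - uv.1) / δ * a₀) = uv.1
          ring
        · show (uv.2 - uv.1) / δ * y₀ + (uv.1 - (uv.2 - uv.1) / δ * a₀) = uv.2
          have : (uv.2 - uv.1) / δ * δ = uv.2 - uv.1 := div_mul_cancel₀ _ hδ
          rw [hδdef] at this
          linear_combination this
      · simp only [φ, ψ, if_neg hc, Bool.false_eq_true, if_false]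
        apply Prod.ext
        · show (uv.1 - uv.2) / δ * y₀ + (uv.2 - (uv.1 - uv.2) / δ * a₀) = uv.1
          have : (uv.1 - uv.2) / δ * δ = uv.1 - uv.2 := div_mul_cancel₀ _ hδ
          rw [hδdef] at this
          linear_combination this
        · show (uv.1 - uv.2) / δ * a₀ + (uv.2 - (uv.1 - uv.2) / δ * a₀) = uv.2
          ring
    have hφinj : Function.Injective φ := Function.LeftInverse.injective hψφ
    have hmaps : ∀ uv ∈ L.offDiag, φ uv ∈ N ×ˢ (Finset.univ : Finset Bool) := by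
      intro uv huv
      rw [Finset.mem_offDiag] at huv
      obtain ⟨hu, hv, hne⟩ := huv
      rw [Finset.mem_product]
      refine ⟨?_, Finset.mem_univ _⟩
      by_cases hc : ∃ s : ZMod p, s ≠ 0 ∧ uv.2 - uv.1 = s * s * δ
      · simp only [φ, if_pos hc]
        obtain ⟨s, hs, hd⟩ := hc
        rw [memN]
        have hm : (uv.2 - uv.1) / δ = s * s := by rw [hd, mul_div_cancel_right₀ _ hδ]
        refine ⟨?_, ?_⟩
        · show (uv.2 - uv.1) / δ ≠ 0
          rw [hm]; exact mul_ne_zero hs hs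
        · intro x hx
          show (uv.2 - uv.1) / δ * x + (uv.1 - (uv.2 - uv.1) / δ * a₀) ∈ L
          rw [hm, memL]
          exact affine_mem_line hG hA ((memL _).mp hu) ((memL _).mp hv) hne hs hd
            ((memL _).mp hx)
      · simp only [φ, if_neg hc]
        obtain ⟨s, hs, hd | hd⟩ := exists_sq_diff hp34 hne hδ
        · exact absurd ⟨s, hs, hd⟩ hc
        rw [memN]
        have hm : (uv.1 - uv.2) / δ = s * s := by rw [hd, mul_div_cancel_right₀ _ hδ]
        refine ⟨?_, ?_⟩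
        · show (uv.1 - uv.2) / δ ≠ 0
          rw [hm]; exact mul_ne_zero hs hs
        · intro x hx
          show (uv.1 - uv.2) / δ * x + (uv.2 - (uv.1 - uv.2) / δ * a₀) ∈ L
          rw [hm, memL]
          exact affine_mem_line hG hA ((memL _).mp hv) ((memL _).mp hu) (Ne.symm hne) hs hd
            ((memL _).mp hx)
    have h1 := Finset.card_le_card_of_injOn φ hmaps (fun x _ y _ hxy => hφinj hxy)
    rw [Finset.offDiag_card, Finset.card_product, Finset.card_univ, Fintype.card_bool] at h1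
    exact h1
  have h5 : 4 * k ≤ k * k := Nat.mul_le_mul_right k hk4
  omega

end Netto




section Netto2

variable {p : ℕ} [hp : Fact p.Prime]
variable {G : Subgroup (Equiv.Perm (ZMod p))} {C : ZMod p → ZMod p → ZMod p → Prop}

theorem natCast_ne_zero_of_lt {n : ℕ} (hn : 0 < n) (hnp : n < p) : ((n : ℕ) : ZMod p) ≠ 0 := by
  intro h0
  rw [ZMod.natCast_eq_zero_iff] at h0
  have := Nat.le_of_dvd hn h0
  omega

/-- the shape of the triple system: it is a Netto system -/
theorem exists_eps (hp34 : p % 4 = 3) (hG : Geom G C) (hA : HasSqAff G) {a₀ y₀ : ZMod p}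
    (ha : a₀ ≠ y₀) :
    ∃ ε y₁ : ZMod p, ε * ε - ε + 1 = 0 ∧ y₁ ≠ 0 ∧ -ε = y₁ * y₁ ∧
      ∀ x s : ZMod p, s ≠ 0 → C x (x + s * s * (y₀ - a₀)) (x + s * s * ε * (y₀ - a₀)) := by
  have hC := hG.coll
  obtain ⟨w, hw⟩ := hG.ex a₀ y₀ ha
  set δ : ZMod p := y₀ - a₀ with hδdef
  have hδ : δ ≠ 0 := sub_ne_zero.mpr ha.symm
  have hwa : a₀ ≠ w := hC.ne13 _ _ _ hw
  have hwy : y₀ ≠ w := hC.ne23 _ _ _ hw
  obtain ⟨s, hs, hd | hd⟩ := exists_sq_diff hp34 hwa hδ
  · exfalso
    obtain ⟨n, hn, hnx⟩ := hA s hs (a₀ - s * s * a₀)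
    have na : n a₀ = a₀ := by rw [hnx]; ring
    have ny : n y₀ = w := by rw [hnx]; linear_combination -hd
    have h1 := hG.inv n hn _ _ _ hw
    rw [na, ny] at h1
    have h2 : C a₀ w y₀ := hC.sym23 _ _ _ hw
    have h3 : n w = y₀ := third_unique hp34 hG hA h1 h2
    rw [hnx] at h3
    have h4 : (s * s - 1) * (s * s + 1) = 0 := by
      have : (s * s * (s * s) - 1) * δ = 0 := by
        rw [hδdef] at hd ⊢
        linear_combination h3 - (s * s) * hd
      rcases mul_eq_zero.mp this with h | h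
      · linear_combination h
      · exact absurd h hδ
    rcases mul_eq_zero.mp h4 with h | h
    · apply hwy
      have : s * s = 1 := by linear_combination h
      rw [this, one_mul, hδdef] at hd
      linear_combination -hd
    · have hsq : IsSquare (-1 : ZMod p) := ⟨s, by linear_combination -h⟩
      exact (ZMod.exists_sq_eq_neg_one_iff.mp hsq) hp34
  · obtain ⟨n, hn, hnx⟩ := hA s hs (w - s * s * a₀)
    have na : n a₀ = w := by rw [hnx]; ring
    have ny : n y₀ = a₀ := by rw [hnx]; rw [hδdef] at hd; linear_combination -hd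
    have h1 := hG.inv n hn _ _ _ hw
    rw [na, ny] at h1
    have h2 : C w a₀ y₀ := hC.sym12 _ _ _ (hC.sym23 _ _ _ hw)
    have h3 : n w = y₀ := third_unique hp34 hG hA h1 h2
    rw [hnx] at h3
    have hwε : w - a₀ = -(s * s) * δ := by linear_combination -hd
    refine ⟨-(s * s), s, ?_, hs, by ring, ?_⟩
    · have : (s * s * (s * s) + s * s + 1) * δ = 0 := by
        rw [hδdef] at hd ⊢
        linear_combination -h3 - (s * s + 1) * hd
      rcases mul_eq_zero.mp this with h | h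
      · linear_combination h
      · exact absurd h hδ
    · intro x t ht
      obtain ⟨n', hn', hnx'⟩ := hA t ht (x - t * t * a₀)
      have h5 := hG.inv n' hn' _ _ _ hw
      have e1 : n' a₀ = x := by rw [hnx']; ring
      have e2 : n' y₀ = x + t * t * δ := by rw [hnx', hδdef]; ring
      have e3 : n' w = x + t * t * -(s * s) * δ := by
        rw [hnx']
        linear_combination (t * t) * hwε
      rwa [e1, e2, e3] at h5

/-- the final contradiction: no Netto system on more than seven points has a group of this kind -/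
theorem netto_false (hp34 : p % 4 = 3) (hp7 : 7 < p) (hG : Geom G C) (hA : HasSqAff G) : False := by
  classical
  have hpp := hp.out
  have hC := hG.coll
  have uniq : ∀ x y z z' : ZMod p, C x y z → C x y z' → z = z' :=
    fun x y z z' h h' => third_unique hp34 hG hA h h'
  obtain ⟨ε, y₁, he, hy₁, hy, star⟩ := exists_eps hp34 hG hA (zero_ne_one (α := ZMod p))
  simp only [sub_zero, mul_one] at star
  have star' : ∀ x y z s : ZMod p, s ≠ 0 → y = x + s * s → z = x + s * s * ε → C x y z := by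
    intro x y z s hs hy hz
    rw [hy, hz]
    exact star x s hs
  have h2ne : (2 : ZMod p) ≠ 0 := by
    have := natCast_ne_zero_of_lt (p := p) (n := 2) (by norm_num) (by omega)
    exact_mod_cast this
  have h3ne : (3 : ZMod p) ≠ 0 := by
    have := natCast_ne_zero_of_lt (p := p) (n := 3) (by norm_num) (by omega)
    exact_mod_cast this
  have h7ne : (7 : ZMod p) ≠ 0 := by
    have := natCast_ne_zero_of_lt (p := p) (n := 7) (by norm_num) (by omega)
    exact_mod_cast this
  have hε0 : ε ≠ 0 := by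
    rintro rfl
    simp at he
  have hε1 : ε ≠ 1 := by
    rintro rfl
    simp at he
  have hε2 : ε ≠ 2 := by
    rintro rfl
    apply h3ne
    linear_combination he
  have hεm1 : ε ≠ -1 := by
    rintro rfl
    apply h3ne
    linear_combination he
  -- the line through `0` and `1`
  have h01 : C 0 1 ε := star' 0 1 ε 1 one_ne_zero (by ring) (by ring)
  have hline : ∀ z : ZMod p, z ∈ line C 0 1 ↔ z = 0 ∨ z = 1 ∨ z = ε := by
    intro z
    rw [mem_line]
    constructor
    · rintro (h | h | h)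
      · exact Or.inl h
      · exact Or.inr (Or.inl h)
      · exact Or.inr (Or.inr (uniq _ _ _ _ h h01))
    · rintro (h | h | h)
      · exact Or.inl h
      · exact Or.inr (Or.inl h)
      · exact Or.inr (Or.inr (h ▸ h01))
  have fixthird : ∀ g ∈ G, g 0 = 0 → g 1 = 1 → g ε = ε := by
    intro g hg g0 g1
    have := hG.inv g hg _ _ _ h01
    rw [g0, g1] at this
    exact uniq _ _ _ _ this h01
  by_cases h2sq : IsSquare (2 : ZMod p)
  · -- Pasch configurations
    obtain ⟨r, hr⟩ := h2sq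
    have hr0 : r ≠ 0 := by
      rintro rfl
      apply h2ne
      rw [hr]; ring
    have h9ne : (9 : ZMod p) ≠ 0 := by
      intro h
      apply h3ne
      have : (3 : ZMod p) * 3 = 0 := by linear_combination h
      rcases mul_eq_zero.mp this with h | h <;> exact h
    have h8ne : (8 : ZMod p) ≠ 0 := by
      intro h
      have : (2 : ZMod p) * 2 * 2 = 0 := by linear_combination h
      rcases mul_eq_zero.mp this with h | h
      · rcases mul_eq_zero.mp h with h | h <;> exact h2ne h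
      · exact h2ne h
    have hε9 : ε ≠ 9 := by
      rintro rfl
      have h73 : ((73 : ℕ) : ZMod p) = 0 := by
        push_cast
        linear_combination he
      rw [ZMod.natCast_eq_zero_iff] at h73
      have := (Nat.prime_dvd_prime_iff_eq hpp (by norm_num : Nat.Prime 73)).mp h73
      omega
    have hA2 : (2 : ZMod p) ∉ line C 0 1 := by
      rw [hline]
      rintro (h | h | h)
      · exact h2ne h
      · apply one_ne_zero (α := ZMod p)
        linear_combination h
      · exact hε2 h.symm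
    have hA9 : (9 : ZMod p) ∉ line C 0 1 := by
      rw [hline]
      rintro (h | h | h)
      · exact h9ne h
      · apply h8ne
        linear_combination h
      · exact hε9 h.symm
    obtain ⟨g, hg, g0, g1, g2⟩ := hG.off 0 1 2 9 zero_ne_one hA2 hA9
    have gε := fixthird g hg g0 g1
    have t1 : C 0 2 (2 * ε) := star' 0 2 (2 * ε) r hr0 (by grind) (by grind)
    have t1' : C 0 9 (9 * ε) := star' 0 9 (9 * ε) 3 h3ne (by ring) (by ring)
    have t2 : C 1 2 (1 + ε) := star' 1 2 (1 + ε) 1 one_ne_zero (by ring) (by ring)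
    have t2' : C 1 9 (1 + 8 * ε) :=
      star' 1 9 (1 + 8 * ε) (r * r * r) (mul_ne_zero (mul_ne_zero hr0 hr0) hr0) (by grind)
        (by grind)
    have t3 : C (2 * ε) ε (1 + ε) := star' (2 * ε) ε (1 + ε) y₁ hy₁ (by grind) (by grind)
    have t3' : C (9 * ε) ε (8 + ε) :=
      star' (9 * ε) ε (8 + ε) (r * r * r * y₁)
        (mul_ne_zero (mul_ne_zero (mul_ne_zero hr0 hr0) hr0) hy₁) (by grind) (by grind)
    have e1 : g (2 * ε) = 9 * ε := by
      have := hG.inv g hg _ _ _ t1
      rw [g0, g2] at this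
      exact uniq _ _ _ _ this t1'
    have e2 : g (1 + ε) = 1 + 8 * ε := by
      have := hG.inv g hg _ _ _ t2
      rw [g1, g2] at this
      exact uniq _ _ _ _ this t2'
    have e3 := hG.inv g hg _ _ _ t3
    rw [e1, gε, e2] at e3
    have e4 := uniq _ _ _ _ e3 t3'
    have : (7 : ZMod p) * (ε - 1) = 0 := by linear_combination e4
    rcases mul_eq_zero.mp this with h | h
    · exact h7ne h
    · exact hε1 (sub_eq_zero.mp h)
  · -- cycles of length three
    obtain ⟨r, hr0, hr⟩ : ∃ r : ZMod p, r ≠ 0 ∧ r * r = -2 := by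
      obtain ⟨y, hy0, h | h⟩ := eq_sq_or_neg_sq hp34 h2ne
      · exact absurd ⟨y, h⟩ h2sq
      · exact ⟨y, hy0, by linear_combination h⟩
    have hε2' : (2 : ZMod p) - ε ≠ 0 := fun h => hε2 (by linear_combination -h)
    -- the two involutions
    have hex0 : ∀ t : ZMod p, ∃ s, t ≠ 0 → C 0 t s := by
      intro t
      by_cases ht : t = 0
      · exact ⟨0, fun h => absurd ht h⟩
      · obtain ⟨s, hs⟩ := hG.ex 0 t (Ne.symm ht)
        exact ⟨s, fun _ => hs⟩
    have hex1 : ∀ t : ZMod p, ∃ s, t ≠ 1 → C 1 t s := by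
      intro t
      by_cases ht : t = 1
      · exact ⟨0, fun h => absurd ht h⟩
      · obtain ⟨s, hs⟩ := hG.ex 1 t (Ne.symm ht)
        exact ⟨s, fun _ => hs⟩
    choose a ha using hex0
    choose b hb using hex1
    have a_eq : ∀ t s : ZMod p, C 0 t s → a t = s := by
      intro t s h
      exact uniq _ _ _ _ (ha t (hC.ne12 _ _ _ h).symm) h
    have b_eq : ∀ t s : ZMod p, C 1 t s → b t = s := by
      intro t s h
      exact uniq _ _ _ _ (hb t (hC.ne12 _ _ _ h).symm) h
    have a_off : ∀ t : ZMod p, t ∉ line C 0 1 → a t ∉ line C 0 1 := by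
      intro t ht hat
      have ht0 : t ≠ 0 := fun h => ht (Or.inl h)
      have h1 : C 0 t (a t) := ha t ht0
      have h2 : a t ≠ 0 := (hC.ne13 _ _ _ h1).symm
      have h3 := line_eq_left hC hat h2
      apply ht
      rw [← h3]
      exact Or.inr (Or.inr (hC.sym23 _ _ _ h1))
    have b_off : ∀ t : ZMod p, t ∉ line C 0 1 → b t ∉ line C 0 1 := by
      intro t ht hbt
      have ht1 : t ≠ 1 := fun h => ht (Or.inr (Or.inl h))
      have h1 : C 1 t (b t) := hb t ht1
      have h2 : b t ≠ 1 := (hC.ne13 _ _ _ h1).symm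
      rw [line_comm hC 0 1] at hbt ht
      have h3 := line_eq_left hC hbt h2
      apply ht
      rw [← h3]
      exact Or.inr (Or.inr (hC.sym23 _ _ _ h1))
    have a_inv : ∀ t : ZMod p, t ∉ line C 0 1 → a (a t) = t := by
      intro t ht
      have ht0 : t ≠ 0 := fun h => ht (Or.inl h)
      exact a_eq _ _ (hC.sym23 _ _ _ (ha t ht0))
    have b_inv : ∀ t : ZMod p, t ∉ line C 0 1 → b (b t) = t := by
      intro t ht
      have ht1 : t ≠ 1 := fun h => ht (Or.inr (Or.inl h))
      exact b_eq _ _ (hC.sym23 _ _ _ (hb t ht1))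
    -- the cycle through `-ε`
    have hcyc : b (a (b (a (b (a (-ε)))))) = -ε := by
      have T1 : C 0 (-ε) (-(ε * ε)) := star' _ _ _ y₁ hy₁ (by grind) (by grind)
      have T2 : C 1 (-(ε * ε)) (2 - ε) := star' _ _ _ y₁ hy₁ (by grind) (by grind)
      rw [a_eq _ _ T1, b_eq _ _ T2]
      obtain ⟨t, ht0, ht | ht⟩ := eq_sq_or_neg_sq hp34 hε2'
      · have T3 : C 0 (2 - ε) (ε + 1) := star' _ _ _ t ht0 (by grind) (by grind)
        have T4 : C 1 (ε + 1) 2 :=
          hC.sym12 _ _ _ (star' (ε + 1) 1 2 y₁ hy₁ (by grind) (by grind))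
        have T5 : C 0 2 (2 - 2 * ε) :=
          hC.sym12 _ _ _ (star' 2 0 (2 - 2 * ε) r hr0 (by grind) (by grind))
        have T6 : C 1 (2 - 2 * ε) (-ε) :=
          hC.sym12 _ _ _ (star' (2 - 2 * ε) 1 (-ε) (t * y₁ * y₁)
            (mul_ne_zero (mul_ne_zero ht0 hy₁) hy₁) (by grind) (by grind))
        rw [a_eq _ _ T3, b_eq _ _ T4, a_eq _ _ T5, b_eq _ _ T6]
      · have T3 : C 0 (2 - ε) (1 - 2 * ε) :=
          hC.sym12 _ _ _ (star' (2 - ε) 0 (1 - 2 * ε) t ht0 (by grind) (by grind))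
        have T4 : C 1 (1 - 2 * ε) (-1) :=
          hC.sym12 _ _ _ (star' (1 - 2 * ε) 1 (-1) (r * y₁) (mul_ne_zero hr0 hy₁) (by grind)
            (by grind))
        have T5 : C 0 (-1) (ε - 1) :=
          hC.sym12 _ _ _ (star' (-1) 0 (ε - 1) 1 one_ne_zero (by grind) (by grind))
        have T6 : C 1 (ε - 1) (-ε) := star' 1 (ε - 1) (-ε) t ht0 (by grind) (by grind)
        rw [a_eq _ _ T3, b_eq _ _ T4, a_eq _ _ T5, b_eq _ _ T6]
    have hx₀ : (-ε) ∉ line C 0 1 := by
      rw [hline]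
      rintro (h | h | h)
      · exact hε0 (neg_eq_zero.mp h)
      · exact hεm1 (by linear_combination -h)
      · apply hε0
        have : (2 : ZMod p) * ε = 0 := by linear_combination -h
        rcases mul_eq_zero.mp this with h | h
        · exact absurd h h2ne
        · exact h
    -- the composite map
    let S := {x : ZMod p // x ∉ line C 0 1}
    let σ : Function.End S := fun t => ⟨b (a t.1), b_off _ (a_off t.1 t.2)⟩
    have hσ : ∀ t : S, ((σ t : S) : ZMod p) = b (a t.1) := fun t => rfl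
    -- commutation with the stabiliser of `0` and `1`
    have a_comm : ∀ g ∈ G, g 0 = 0 → ∀ t : ZMod p, t ≠ 0 → a (g t) = g (a t) := by
      intro g hg g0 t ht
      have := hG.inv g hg _ _ _ (ha t ht)
      rw [g0] at this
      exact a_eq _ _ this
    have b_comm : ∀ g ∈ G, g 1 = 1 → ∀ t : ZMod p, t ≠ 1 → b (g t) = g (b t) := by
      intro g hg g1 t ht
      have := hG.inv g hg _ _ _ (hb t ht)
      rw [g1] at this
      exact b_eq _ _ this
    have ba_comm : ∀ g ∈ G, g 0 = 0 → g 1 = 1 → ∀ t : ZMod p, t ∉ line C 0 1 →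
        b (a (g t)) = g (b (a t)) := by
      intro g hg g0 g1 t ht
      have ht0 : t ≠ 0 := fun h => ht (Or.inl h)
      have hat := a_off t ht
      have hat1 : a t ≠ 1 := fun h => hat (Or.inr (Or.inl h))
      rw [a_comm g hg g0 t ht0, b_comm g hg g1 _ hat1]
    have hσ3 : σ ^ 3 ^ 1 = 1 := by
      funext t
      obtain ⟨g, hg, g0, g1, gx⟩ := hG.off 0 1 (-ε) t.1 zero_ne_one hx₀ t.2
      show σ (σ (σ t)) = t
      apply Subtype.ext
      rw [hσ, hσ, hσ]
      have o1 := a_off _ hx₀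
      have o2 := b_off _ o1
      have o3 := a_off _ o2
      have o4 := b_off _ o3
      rw [← gx, ba_comm g hg g0 g1 _ hx₀, ba_comm g hg g0 g1 _ o2, ba_comm g hg g0 g1 _ o4, hcyc]
    have hfix : ∀ t : S, σ t ≠ t := by
      intro t h
      have h1 : b (a t.1) = t.1 := by
        have := congrArg Subtype.val h
        rwa [hσ] at this
      have ht0 : t.1 ≠ 0 := fun h => t.2 (Or.inl h)
      have ht1 : t.1 ≠ 1 := fun h => t.2 (Or.inr (Or.inl h))
      have h2 : a t.1 = b t.1 := by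
        have := b_inv _ (a_off _ t.2)
        rw [h1] at this
        exact this.symm
      have c0 : C 0 t.1 (a t.1) := ha _ ht0
      have c1 : C 1 t.1 (a t.1) := by rw [h2]; exact hb _ ht1
      have d0 : C t.1 (a t.1) 0 := hC.sym23 _ _ _ (hC.sym12 _ _ _ c0)
      have d1 : C t.1 (a t.1) 1 := hC.sym23 _ _ _ (hC.sym12 _ _ _ c1)
      exact zero_ne_one (uniq _ _ _ _ d0 d1)
    have hmod := Equiv.Perm.card_fixedPoints_modEq (p := 3) (n := 1) (f := σ) hσ3
    have hfp : ∀ [inst : Fintype (Function.fixedPoints σ)],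
        @Fintype.card (Function.fixedPoints σ) inst = 0 := by
      intro inst
      rw [Fintype.card_eq_zero_iff]
      exact ⟨fun t => hfix t.1 t.2⟩
    rw [hfp] at hmod
    have hcardS : Fintype.card S = p - 3 := by
      have h1 : Fintype.card S = Fintype.card (ZMod p) -
          Fintype.card {x : ZMod p // x ∈ line C 0 1} := Fintype.card_subtype_compl _
      have h2 : Fintype.card {x : ZMod p // x ∈ line C 0 1} = 3 := by
        rw [Fintype.card_subtype]
        have : (Finset.univ.filter (fun x : ZMod p => x ∈ line C 0 1)) = {0, 1, ε} := by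
          ext z
          simp only [Finset.mem_filter, Finset.mem_univ, true_and, Finset.mem_insert,
            Finset.mem_singleton]
          exact hline z
        rw [this, Finset.card_insert_of_notMem, Finset.card_insert_of_notMem,
          Finset.card_singleton]
        · simpa using hε1.symm
        · simp only [Finset.mem_insert, Finset.mem_singleton, not_or]
          exact ⟨zero_ne_one, hε0.symm⟩
      rw [h1, h2, ZMod.card]
    rw [hcardS] at hmod
    have h3 : 3 ∣ p - 3 := (Nat.modEq_zero_iff_dvd).mp hmod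
    have h4 : 3 ∣ p := by
      have : p = (p - 3) + 3 := by omega
      rw [this]
      exact Dvd.dvd.add h3 (dvd_refl 3)
    have := (Nat.prime_dvd_prime_iff_eq (by norm_num : Nat.Prime 3) hpp).mp h4
    omega

end Netto2


section Final

variable {p : ℕ} [hp : Fact p.Prime]

theorem hasSqAff_of_card (G : Subgroup (Equiv.Perm (ZMod p)))
    (hτ : Equiv.addRight (1 : ZMod p) ∈ G)
    (hA : p * (p - 1) ≤
      2 * Nat.card (G ⊓ Cfsg.affineGroup (ZMod p) : Subgroup (Equiv.Perm (ZMod p)))) :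
    HasSqAff G := by
  intro s hs c
  obtain ⟨g, hg, b, hgb⟩ := sq_multiplier_of_card G hA s hs
  refine ⟨Equiv.addRight (c - b) * g, G.mul_mem (translation_mem G hτ _) hg, fun x => ?_⟩
  show g x + (c - b) = s * s * x + c
  rw [hgb]
  ring

/-- a point stabiliser has no nontrivial block on the remaining points -/
theorem block_false (G : Subgroup (Equiv.Perm (ZMod p)))
    (hτ : Equiv.addRight (1 : ZMod p) ∈ G) (hnaff : ¬ G ≤ Cfsg.affineGroup (ZMod p))
    (hA : p * (p - 1) ≤
      2 * Nat.card (G ⊓ Cfsg.affineGroup (ZMod p) : Subgroup (Equiv.Perm (ZMod p))))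
    (hp34 : p % 4 = 3) (hp7 : 7 < p) {a₀ y₀ w₀ v₀ : ZMod p} {B : Set (ZMod p)}
    (block : ∀ g ∈ G, g a₀ = a₀ → ∀ x ∈ B, g x ∈ B → ∀ y ∈ B, g y ∈ B)
    (ha : a₀ ∉ B) (hy : y₀ ∈ B) (hw : w₀ ∈ B) (hyw : y₀ ≠ w₀) (hv : v₀ ∉ B) (hva : v₀ ≠ a₀) :
    False := by
  have h2 : ∀ a b c d : ZMod p, a ≠ b → c ≠ d → ∃ g ∈ G, g a = c ∧ g b = d := by
    by_contra h
    exact hnaff (affine_of_not_two_transitive G hτ h)
  have D : BlockData G a₀ y₀ w₀ v₀ B :=
    { two := h2
      orb := fun a b hab c hca hcb => two_orbit_bound_of_card G hτ hnaff hA hp34 hab c hca hcb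
      block := block
      ha := ha
      hy := hy
      hw := hw
      hyw := hyw
      hv := hv
      hva := hva }
  exact netto_false hp34 hp7 D.geom (hasSqAff_of_card G hτ hA)

end Final

end Cfsg.Agent.Lib.Helper60_TwoPrim
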