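import Mathlib
import Cfsg.Prelude.Def_Characters
import Cfsg.Prelude.Def_Blocks
import Cfsg.Agent.Lib.Helper62_A7Defs
import Cfsg.Agent.Lib.Helper80_CharBasic
import Cfsg.Agent.Lib.Helper17_Sylow
import Cfsg.Agent.Lib.Helper77_BlockBasics
import Cfsg.Agent.Lib.Helper55_Ord360
import Cfsg.Agent.Lib.Helper75_SM_Base

/-!
A7-L3N (helper62's S0984 market): in a simple group of order 2520 in which elements of order 5 and 7 are
self-centralising, the normaliser of a Sylow 3-subgroup has order 36.
-/

set_option autoImplicit false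
open Cfsg Cfsg.Agent.Lib.Helper80_CharBasic Cfsg.Agent.Lib.Helper62_A7Defs

namespace Cfsg.Agent.Lib.Helper61_A7_L3N

open Subgroup

/-- an element of prime order `p ∈ {5, 7}` normalizing a subgroup of order 9 centralizes it -/
theorem centralizes_of_card_nine {G : Type*} [Group G] (A : Subgroup G) (hA : Nat.card A = 9) (q : G)
    (hq : q ∈ normalizer (A : Set G)) (p : ℕ) [Fact p.Prime] (hp : p = 5 ∨ p = 7) (hqp : q ^ p = 1) :
    A ≤ centralizer ({q} : Set G) := by
  classical
  have : Finite A := Nat.finite_of_card_ne_zero (by rw [hA]; norm_num)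
  have : Fintype A := Fintype.ofFinite A
  have h1 := Cfsg.Agent.Lib.Helper55_Ord360.card_fixed_modEq A q hq p hqp
  rw [← Nat.card_eq_fintype_card, hA] at h1
  set F := Finset.univ.filter (fun a : A => q * (a : G) * q⁻¹ = a) with hF
  -- the fixed set is a subgroup of `A`
  set C : Subgroup A := (centralizer ({q} : Set G)).subgroupOf A with hC
  have hFC : ∀ a : A, a ∈ F ↔ a ∈ C := by
    intro a
    rw [hF, Finset.mem_filter, hC, Subgroup.mem_subgroupOf, mem_centralizer_singleton_iff]
    constructor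
    · rintro ⟨-, h⟩
      calc (a : G) * q = q * a * q⁻¹ * q := by rw [h]
        _ = q * a := by group
    · intro h
      refine ⟨Finset.mem_univ _, ?_⟩
      calc q * (a : G) * q⁻¹ = (a : G) * q * q⁻¹ := by rw [h]
        _ = a := by group
  have hcard : Nat.card C = F.card := by
    rw [Nat.card_eq_fintype_card]
    exact Fintype.card_of_subtype F hFC
  have hdvd : F.card ∣ 9 := by
    rw [← hcard, ← hA]
    exact Subgroup.card_subgroup_dvd_card C
  have h9 : F.card = 9 := by
    have hle : F.card ≤ 9 := Nat.le_of_dvd (by norm_num) hdvd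
    unfold Nat.ModEq at h1
    rcases hp with rfl | rfl <;> interval_cases F.card <;> omega
  have hFu : F = Finset.univ := by
    apply Finset.eq_univ_of_card
    rw [h9, ← Nat.card_eq_fintype_card, hA]
  intro a ha
  have : (⟨a, ha⟩ : A) ∈ F := by rw [hFu]; exact Finset.mem_univ _
  have h2 := (hFC _).mp this
  rw [hC, Subgroup.mem_subgroupOf] at h2
  exact h2

theorem loc3 {G : Type*} [Group G] [Finite G] [IsSimpleGroup G] [Fact (Nat.Prime 3)]
    (hG : Nat.card G = 2520)
    (h5 : ∀ y : G, orderOf y = 5 → Nat.card (Subgroup.centralizer ({y} : Set G)) = 5)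
    (h7 : ∀ x : G, orderOf x = 7 → Nat.card (Subgroup.centralizer ({x} : Set G)) = 7)
    (P : Sylow 3 G) : Nat.card (Subgroup.normalizer ((P : Subgroup G) : Set G)) = 36 := by
  classical
  have hG' : Nat.card G = 3 ^ 2 * 280 := by rw [hG]; norm_num
  have hP : Nat.card (P : Subgroup G) = 9 := by
    have := Cfsg.Agent.Lib.Helper17_Sylow.card_sylow_eq_pow hG' (by norm_num) P
    rw [this]; norm_num
  set N := Subgroup.normalizer ((P : Subgroup G) : Set G) with hN
  have hNn := Cfsg.Agent.Lib.Helper17_Sylow.card_normalizer_mul_card_sylow P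
  rw [hG] at hNn
  -- no element of order 5 or 7 in `N`
  have hkill : ∀ p : ℕ, p.Prime → (p = 5 ∨ p = 7) →
      (∀ y : G, orderOf y = p → Nat.card (Subgroup.centralizer ({y} : Set G)) = p) →
      ¬ p ∣ Nat.card N := by
    intro p hpp hp hc hdvd
    have : Fact p.Prime := ⟨hpp⟩
    obtain ⟨g, hg⟩ := exists_prime_orderOf_dvd_card' (G := ↥N) p hdvd
    have hg' : orderOf (g : G) = p := by rw [Subgroup.orderOf_coe]; exact hg
    have hgp : (g : G) ^ p = 1 := by rw [← hg']; exact pow_orderOf_eq_one _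
    have hle := centralizes_of_card_nine (P : Subgroup G) hP (g : G) g.2 p hp hgp
    have h1 := Subgroup.card_dvd_of_le hle
    rw [hP, hc (g : G) hg'] at h1
    rcases hp with rfl | rfl <;> omega
  have hn5 : ¬ 5 ∣ Nat.card N := hkill 5 (by norm_num) (Or.inl rfl) h5
  have hn7 : ¬ 7 ∣ Nat.card N := hkill 7 (by norm_num) (Or.inr rfl) h7
  have h9 : 9 ∣ Nat.card N := by
    rw [← hP]
    exact Subgroup.card_dvd_of_le le_normalizer
  have hmod : Nat.card (Sylow 3 G) % 3 = 1 := card_sylow_modEq_one 3 G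
  obtain ⟨k, hk⟩ := h9
  rw [hk] at hNn hn5 hn7
  have hk280 : k * Nat.card (Sylow 3 G) = 280 := by
    have : 9 * (k * Nat.card (Sylow 3 G)) = 9 * 280 := by rw [← mul_assoc, hNn]
    exact Nat.eq_of_mul_eq_mul_left (by norm_num) this
  have hk8 : k ∣ 8 := by
    have h1 : k ∣ 8 * 35 := ⟨Nat.card (Sylow 3 G), by rw [hk280]⟩
    have hc5 : Nat.Coprime k 5 := by
      rw [Nat.coprime_comm, Nat.Prime.coprime_iff_not_dvd (by norm_num)]
      intro h; exact hn5 (Dvd.dvd.mul_left h 9)
    have hc7 : Nat.Coprime k 7 := by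
      rw [Nat.coprime_comm, Nat.Prime.coprime_iff_not_dvd (by norm_num)]
      intro h; exact hn7 (Dvd.dvd.mul_left h 9)
    have hc35 : Nat.Coprime k 35 := by
      have := Nat.Coprime.mul_right hc5 hc7
      simpa using this
    exact hc35.dvd_of_dvd_mul_right h1
  have hk_le : k ≤ 8 := Nat.le_of_dvd (by norm_num) hk8
  have hk_pos : 0 < k := Nat.pos_of_dvd_of_pos hk8 (by norm_num)
  rw [hk]
  interval_cases k
  · -- k = 1: n_3 = 280, Burnside
    exfalso
    exact Cfsg.Agent.Lib.Helper75_SM_Base.burn2_kill (G := G) (p := 3) (m := 280) hG' (by norm_num)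
      (by norm_num) (by omega)
  all_goals omega

end Cfsg.Agent.Lib.Helper61_A7_L3N
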