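import Mathlib
import Cfsg.Prelude.Def_Characters
import Cfsg.Prelude.Def_Blocks
import Cfsg.Agent.Lib.Helper62_A7Defs
import Cfsg.Agent.Lib.Helper80_CharBasic
import Cfsg.Agent.Lib.Helper17_Sylow
import Cfsg.Agent.Lib.Helper77_BlockBasics
import Cfsg.Agent.S0111

/-!
A7-T2B (helper62's S0984 market): in a simple group of order 2520 with dihedral Sylow 2-subgroup `T = ⟨c, a⟩`, all
involutions are conjugate and all elements of order 4 are conjugate (Thompson transfer S0111).
-/

set_option autoImplicit false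
set_option linter.unusedVariables false
open Cfsg Cfsg.Agent.Lib.Helper80_CharBasic Cfsg.Agent.Lib.Helper62_A7Defs

namespace Cfsg.Agent.Lib.Helper61_A7_T2B

open Subgroup
open scoped Pointwise

theorem mem_smul_sylow {G : Type*} [Group G] {p : ℕ} (g y : G) (Q : Sylow p G) :
    y ∈ g • Q ↔ g⁻¹ * y * g ∈ Q := by
  have h1 : y ∈ g • Q ↔ y ∈ MulAut.conj g • (Q : Subgroup G) := Iff.rfl
  rw [h1, Subgroup.mem_pointwise_smul_iff_inv_smul_mem, MulAut.smul_def, MulAut.conj_inv_apply]
  rfl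

/-- a `p`-element is conjugate into any given Sylow `p`-subgroup -/
theorem exists_conj_mem_sylow {G : Type*} [Group G] [Finite G] {p : ℕ} [Fact p.Prime] (T : Sylow p G)
    (x : G) (hx : IsPGroup p (zpowers x)) : ∃ g : G, g * x * g⁻¹ ∈ (T : Subgroup G) := by
  obtain ⟨T', hT'⟩ := hx.exists_le_sylow
  obtain ⟨h, rfl⟩ := MulAction.exists_smul_eq G T T'
  have h1 : x ∈ h • T := hT' (mem_zpowers x)
  rw [mem_smul_sylow] at h1
  exact ⟨h⁻¹, by rw [inv_inv]; exact h1⟩

/-- the elements of a cyclic group of order 4 -/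
theorem mem_zpowers_four {G : Type*} [Group G] (c : G) (hc4 : orderOf c = 4) (x : G)
    (hx : x ∈ zpowers c) : x = 1 ∨ x = c ∨ x = c ^ 2 ∨ x = c ^ 3 := by
  classical
  have hfin : IsOfFinOrder c := by
    rw [← orderOf_pos_iff, hc4]; norm_num
  rw [hfin.mem_zpowers_iff_mem_range_orderOf, hc4] at hx
  simp only [Finset.mem_image, Finset.mem_range] at hx
  obtain ⟨k, hk, rfl⟩ := hx
  interval_cases k
  · left; simp
  · right; left; simp
  · right; right; left; rfl
  · right; right; right; rfl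

theorem fusion2 {G : Type*} [Group G] [Finite G] [IsSimpleGroup G] [Fact (Nat.Prime 2)]
    (hG : Nat.card G = 2520) (T : Sylow 2 G) (c a : G) (hc : c ∈ (T : Subgroup G))
    (ha : a ∈ (T : Subgroup G)) (hc4 : orderOf c = 4) (ha2 : orderOf a = 2)
    (hac : a ∉ Subgroup.zpowers c) (hrel : a * c * a⁻¹ = c⁻¹)
    (hout : ∀ x ∈ (T : Subgroup G), x ∉ Subgroup.zpowers c → x * x = 1) :
    (∀ s t : G, orderOf s = 2 → orderOf t = 2 → IsConj s t) ∧
    (∀ v w : G, orderOf v = 4 → orderOf w = 4 → IsConj v w) := by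
  classical
  have hG' : Nat.card G = 2 ^ 3 * 315 := by rw [hG]; norm_num
  have hT : Nat.card (T : Subgroup G) = 8 := by
    have := Cfsg.Agent.Lib.Helper17_Sylow.card_sylow_eq_pow hG' (by norm_num) T
    rw [this]; norm_num
  have hQT : zpowers c ≤ (T : Subgroup G) := by rw [zpowers_le]; exact hc
  have hQcard : Nat.card (zpowers c) = 4 := by rw [Nat.card_zpowers, hc4]
  have hrelI : (zpowers c).relIndex (T : Subgroup G) = 2 := by
    have := Cfsg.Agent.Lib.Helper17_Sylow.card_mul_relIndex_of_le hQT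
    rw [hQcard, hT] at this
    omega
  have hc4' : c ^ 4 = 1 := by rw [← hc4]; exact pow_orderOf_eq_one c
  have hc2ne : c ^ 2 ≠ 1 := by
    intro h
    have := orderOf_dvd_of_pow_eq_one h
    rw [hc4] at this
    omega
  have hc2ord : orderOf (c ^ 2) = 2 := by
    have : orderOf (c ^ 2) = orderOf c / 2 := orderOf_pow_of_dvd (by norm_num) (by rw [hc4]; norm_num)
    rw [this, hc4]
  have hc3 : c ^ 3 = c⁻¹ := by
    rw [eq_inv_iff_mul_eq_one, ← pow_succ, hc4']
  have hc3ord : orderOf (c ^ 3) = 4 := by rw [hc3, orderOf_inv, hc4]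
  -- no normal subgroup of index 2
  have hnoM : ¬ ∃ M : Subgroup G, M.Normal ∧ M.index = 2 ∧ True := by
    rintro ⟨M, hMn, hMi, -⟩
    rcases hMn.eq_bot_or_eq_top with h | h
    · rw [h, Subgroup.index_bot, hG] at hMi
      omega
    · rw [h, Subgroup.index_top] at hMi
      omega
  -- involutions of `⟨c⟩`
  have hinvQ : ∀ u : G, u ∈ zpowers c → orderOf u = 2 → u = c ^ 2 := by
    intro u hu hu2
    rcases mem_zpowers_four c hc4 u hu with rfl | rfl | rfl | rfl
    · rw [orderOf_one] at hu2; omega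
    · rw [hc4] at hu2; omega
    · rfl
    · rw [hc3ord] at hu2; omega
  have hP2 : ∀ x : G, orderOf x = 2 → IsPGroup 2 (zpowers x) := fun x hx =>
    IsPGroup.of_card (n := 1) (by rw [Nat.card_zpowers, hx, pow_one])
  have hP4 : ∀ x : G, orderOf x = 4 → IsPGroup 2 (zpowers x) := fun x hx =>
    IsPGroup.of_card (n := 2) (by rw [Nat.card_zpowers, hx]; norm_num)
  have hordconj : ∀ g x : G, orderOf (g * x * g⁻¹) = orderOf x := fun g x =>
    (MulAut.conj g).orderOf_eq x
  -- every involution is conjugate to `c ^ 2`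
  have hinv : ∀ s : G, orderOf s = 2 → IsConj s (c ^ 2) := by
    intro s hs
    obtain ⟨g, hg⟩ := exists_conj_mem_sylow T s (hP2 s hs)
    have hu2 : orderOf (g * s * g⁻¹) = 2 := by rw [hordconj, hs]
    have h1 : IsConj s (g * s * g⁻¹) := isConj_iff.mpr ⟨g, rfl⟩
    by_cases huQ : g * s * g⁻¹ ∈ zpowers c
    · rw [← hinvQ _ huQ hu2]
      exact h1
    · rcases Cfsg.Agent.S0111.result T (zpowers c) hQT hrelI (g * s * g⁻¹) hu2 hg huQ with
        ⟨M, hMn, hMi, -⟩ | ⟨g', hg'⟩
      · exact absurd ⟨M, hMn, hMi, trivial⟩ hnoM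
      · have hu2' : orderOf (g' * (g * s * g⁻¹) * g'⁻¹) = 2 := by rw [hordconj, hu2]
        have h2 : IsConj (g * s * g⁻¹) (g' * (g * s * g⁻¹) * g'⁻¹) := isConj_iff.mpr ⟨g', rfl⟩
        rw [← hinvQ _ hg' hu2']
        exact h1.trans h2
  -- every element of order 4 is conjugate to `c`
  have h4 : ∀ v : G, orderOf v = 4 → IsConj v c := by
    intro v hv
    obtain ⟨g, hg⟩ := exists_conj_mem_sylow T v (hP4 v hv)
    have hu4 : orderOf (g * v * g⁻¹) = 4 := by rw [hordconj, hv]
    have h1 : IsConj v (g * v * g⁻¹) := isConj_iff.mpr ⟨g, rfl⟩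
    have huQ : g * v * g⁻¹ ∈ zpowers c := by
      by_contra hcon
      have h2 := hout _ hg hcon
      have h3 : (g * v * g⁻¹) ^ 2 = 1 := by rw [pow_two]; exact h2
      have := orderOf_dvd_of_pow_eq_one h3
      rw [hu4] at this
      omega
    rcases mem_zpowers_four c hc4 _ huQ with h | h | h | h
    · rw [h, orderOf_one] at hu4; omega
    · rw [← h]; exact h1
    · rw [h, hc2ord] at hu4; omega
    · -- conjugate to `c⁻¹ = a c a⁻¹`
      have h5 : IsConj c (g * v * g⁻¹) := by
        rw [h, hc3, ← hrel]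
        exact isConj_iff.mpr ⟨a, rfl⟩
      exact h1.trans h5.symm
  exact ⟨fun s t hs ht => (hinv s hs).trans (hinv t ht).symm,
    fun v w hv hw => (h4 v hv).trans (h4 w hw).symm⟩

end Cfsg.Agent.Lib.Helper61_A7_T2B
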