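import Cfsg.Agent.Lib.Helper13_AmAPI
import Cfsg.Agent.Lib.Helper61_Am_N4aux
import Cfsg.Agent.Lib.Helper39_Am_N1
import Cfsg.Agent.Lib.Helper87_Am_N2

/-!
# S2858 package N-4 (architect helper13; helper61): verbatim statement, from `N4_of` and the delivered N-1, N-2.
-/

set_option autoImplicit false
set_option linter.unusedVariables false

namespace Cfsg.Agent.Lib.Helper61_Am_N4

open MulAction Cfsg.Agent.Lib.Helper13_SimsDefs Cfsg.Agent.Lib.Helper13_AmDefs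

section PartN
variable {G Ω : Type*} [Group G] [MulAction G Ω] {a b : Ω}

/-- N-4. -/
theorem N4 (S : S3Am G a b) (L : LocAPI G a b) (C : CritAPI G a b) (D : DichAPI G a b) {bb : ℕ} (hb : IsCrit G a b bb) (h2 : 2 ≤ bb) {α β : Ω}
    (h : Adj G a b α β) (hN : HasN G a b α) :
    Lst G a b α ⊔ Kst G a b α = stabilizer G α ∧ Lst G a b α ⊓ Kst G a b α = Dst G a b α ∧
    Nat.card (Lst G a b α) = 6 * Nat.card (Dst G a b α) ∧
    Nat.card (Kst G a b β) = 2 * Nat.card (Dst G a b α) ∧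
    (∀ g ∈ stabilizer G α, Nrm g (Lst G a b α)) ∧
    (¬ ∀ l ∈ Lst G a b α, Nrm l (Kst G a b β)) ∧
    (∀ β', Adj G a b α β' → β' ≠ β → Kst G a b β ⊔ Kst G a b β' = Lst G a b α) :=
  Cfsg.Agent.Lib.Helper61_Am_N4aux.N4_of S L C D
    (Cfsg.Agent.Lib.Helper39_Am_N1.N1 S L C D) (Cfsg.Agent.Lib.Helper87_Am_N2.N2 S L C D) hb h2 h hN

end PartN

end Cfsg.Agent.Lib.Helper61_Am_N4
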