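import Mathlib
import Cfsg.Prelude.Def_Solvable
import Cfsg.Prelude.Def_Transfer
import Cfsg.Agent.Lib.Helper51_CMDefs
import Cfsg.Agent.Lib.Helper61_CM_D1core
import Cfsg.Agent.Lib.Helper79_CM_C5

/-!
# S3905 market (architect helper51), package CM-D1B: `centP_of_sylow`

Thin wrapper: the argument is `Helper61_CM_D1core.centP_core`; the dichotomy is CM-C5 (helper79).
-/

set_option autoImplicit false
open Cfsg Cfsg.Agent.Lib.Helper51_CMDefs

namespace Cfsg.Agent.Lib.Helper61_CM_D1B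

variable {G Γ : Type*} [Group G] [Group Γ] {ρ : G →* MulAut Γ}

/-- CM-D1B. -/
theorem centP_of_sylow (h : Hyp ρ) [Finite Γ] {p : ℕ} (hp : p.Prime) (P : Sylow p Γ) {z : Γ}
    (hz : z ≠ 1) (hP : (P : Subgroup Γ) = Cn z) (hexp : ∀ c ∈ Cn z, c ^ p = 1) : CentP Γ p :=
  Cfsg.Agent.Lib.Helper61_CM_D1core.centP_core hp P hP hexp
    (fun _ hx hna => Cfsg.Agent.Lib.Helper79_CM_C5.exponent_of_nonabelian h hx hna)

end Cfsg.Agent.Lib.Helper61_CM_D1B
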