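import Mathlib
import Cfsg.Prelude.Def_Chevalley

/-!
# Helper61_ChevTransfer

Functoriality of the Chevalley groups `ChevalleyDatum.group` under ring isomorphisms of the field:
the root matrices `xMat` commute with ring homomorphisms, and `D.group R ≃* D.group S` for
`e : R ≃+* S`.
-/

set_option autoImplicit false

namespace Cfsg.Agent.Lib.Helper61_ChevTransfer

open Cfsg.Lie Matrix

variable (D : ChevalleyDatum) {R S : Type*} [Field R] [Field S]

theorem xMat_map (e : R →+* S) (r : Fin D.nroots) (t : R) :
    (D.xMat R r t).map e = D.xMat S r (e t) := by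
  ext row col
  simp only [ChevalleyDatum.xMat, Matrix.map_apply, Matrix.of_apply]
  rcases col with i | s0
  · rcases row with i' | u
    · simp only []
      split_ifs <;> simp
    · simp only []
      split_ifs <;> simp
  · simp only []
    split_ifs with h1 h2
    · rcases row with i' | u
      · simp
      · simp only []
        split_ifs <;> simp
    · rcases row with i' | u
      · simp
      · simp only []
        split_ifs <;> simp
    · rcases row with i' | u
      · simp
      · simp only [map_add, map_list_sum, List.map_map]
        congr 1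
        · split_ifs <;> simp
        · congr 1
          apply List.map_congr_left
          intro km _
          simp

/-- `GL_n` of isomorphic rings. -/
def glEquiv {n : Type*} [DecidableEq n] [Fintype n] (e : R ≃+* S) : GL n R ≃* GL n S :=
  Units.mapEquiv (RingEquiv.mapMatrix e).toMulEquiv

theorem glEquiv_val {n : Type*} [DecidableEq n] [Fintype n] (e : R ≃+* S) (g : GL n R) :
    ((glEquiv e g : GL n S) : Matrix n n S) = (g : Matrix n n R).map e := rfl

theorem map_group (e : R ≃+* S) :
    (D.group R).map (glEquiv (n := D.Idx) e).toMonoidHom = D.group S := by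
  unfold ChevalleyDatum.group
  rw [MonoidHom.map_closure]
  congr 1
  ext g'
  constructor
  · rintro ⟨g, ⟨r, t, hg⟩, rfl⟩
    refine ⟨r, e t, ?_⟩
    show ((glEquiv e g : GL D.Idx S) : Matrix D.Idx D.Idx S) = _
    rw [glEquiv_val, hg]
    exact xMat_map D (e : R →+* S) r t
  · rintro ⟨r, t', hg'⟩
    refine ⟨(glEquiv (n := D.Idx) e).symm g', ⟨r, e.symm t', ?_⟩, ?_⟩
    · show (((glEquiv (n := D.Idx) e.symm) g' : GL D.Idx R) : Matrix D.Idx D.Idx R) = _
      rw [glEquiv_val, hg']
      exact xMat_map D (e.symm : S →+* R) r t'
    · exact (glEquiv (n := D.Idx) e).apply_symm_apply g'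

/-- The Chevalley groups over isomorphic fields. -/
noncomputable def groupEquiv (e : R ≃+* S) : ↥(D.group R) ≃* ↥(D.group S) :=
  ((glEquiv (n := D.Idx) e).subgroupMap (D.group R)).trans
    (MulEquiv.subgroupCongr (map_group D e))

end Cfsg.Agent.Lib.Helper61_ChevTransfer
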