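import Mathlib
import Cfsg.Prelude.Def_Blocks
import Cfsg.Agent.Lib.Helper78_LocalRing
import Cfsg.Agent.Lib.Helper78_CentralChar
import Cfsg.Agent.Lib.Helper78_Osima
import Cfsg.Agent.Lib.Helper3_CharComplete

/-!
# The character formula for Robinson's pair count (helper79)

For a subgroup `S` and elements `x, y` of a finite group `G`, `pairCount S x y` is the number of
pairs `(u, v)` with `u` conjugate to `x`, `v` conjugate to `y` and `v u⁻¹ ∈ S`.  We prove

`pairCount S x y = ∑_χ (χ(1)/|G|) ω_χ(y) ω_χ(x⁻¹) conj(∑_{s ∈ S} χ(s))`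

(`pairCount_eq_sum_irr`), from Fourier inversion for class functions (`class_inversion`) and the
multiplicativity of central characters.
-/

set_option autoImplicit false
set_option linter.unusedSectionVars false

namespace Cfsg.Agent.Lib.Helper79_RobinsonFormula

open Cfsg Cfsg.Agent.Lib.Helper78_LocalRing Cfsg.Agent.Lib.Helper78_CentralChar
  Cfsg.Agent.Lib.Helper78_Osima

open scoped ComplexConjugate

universe u

variable {G : Type u} [Group G] [Fintype G]

/-- Fourier inversion for class functions, written with central characters. -/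
theorem class_inversion [inst : Fintype (IrrCharacter G)] {f : G → ℂ} (hf : IsClassFunction G f)
    (g : G) :
    f g = ∑ χ : IrrCharacter G,
      ((χ : G → ℂ) 1 * omega (χ : G → ℂ) f / (Nat.card G : ℂ)) * conj ((χ : G → ℂ) g) := by
  classical
  have hinst : inst = Cfsg.Agent.Lib.Helper3_CharComplete.fintypeIrr := Subsingleton.elim _ _
  subst hinst
  set ψ : G → ℂ := fun h => conj (f h) with hψdef
  have hψ : IsClassFunction G ψ := by
    intro h c
    show conj (f (c * h * c⁻¹)) = conj (f h)
    rw [hf h c]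
  have h1 := congrFun (Cfsg.Agent.Lib.Helper3_CharComplete.classFunction_eq_sum ψ hψ) g
  rw [Finset.sum_apply] at h1
  have h2 := congrArg conj h1
  have h3 : conj (ψ g) = f g := by
    show conj (conj (f g)) = f g
    exact Complex.conj_conj _
  rw [h3, map_sum] at h2
  rw [h2]
  refine Finset.sum_congr rfl fun χ _ => ?_
  rw [Pi.smul_apply, smul_eq_mul, map_mul]
  congr 1
  unfold classInner omega
  have hχ1 := isIrrCharacter_one_ne_zero χ.2
  rw [map_mul, map_inv₀, Complex.conj_natCast, map_sum]
  have h4 : ∑ x : G, conj (ψ x * conj ((χ : G → ℂ) x)) = ∑ x : G, f x * (χ : G → ℂ) x := by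
    refine Finset.sum_congr rfl fun x _ => ?_
    show conj (conj (f x) * conj ((χ : G → ℂ) x)) = _
    rw [map_mul, Complex.conj_conj, Complex.conj_conj]
  rw [h4]
  field_simp

/-- The number of pairs `(u, v)` with `u ~ x`, `v ~ y` and `v u⁻¹ ∈ S`. -/
noncomputable def pairCount (S : Subgroup G) (x y : G) : ℕ :=
  Nat.card {uv : G × G // IsConj x uv.1 ∧ IsConj y uv.2 ∧ uv.2 * uv.1⁻¹ ∈ S}

theorem isConj_inv_inv_iff (a b : G) : IsConj a⁻¹ b⁻¹ ↔ IsConj a b := by
  constructor
  · intro h
    obtain ⟨c, hc⟩ := isConj_iff.mp h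
    refine isConj_iff.mpr ⟨c, ?_⟩
    have : (c * a * c⁻¹)⁻¹ = b⁻¹ := by
      rw [← hc]; group
    exact inv_injective this
  · intro h
    obtain ⟨c, hc⟩ := isConj_iff.mp h
    refine isConj_iff.mpr ⟨c, ?_⟩
    rw [← hc]; group

theorem classIndicator_apply [DecidableEq G] (g k : G) [Decidable (IsConj g k)] :
    classIndicator g k = if IsConj g k then 1 else 0 := by
  classical
  unfold classIndicator
  rw [Set.indicator_apply]
  simp only [Set.mem_ofPred_eq]

open Classical in
theorem pairCount_eq_sum (S : Subgroup G) (x y : G) :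
    (pairCount S x y : ℂ) =
      ∑ s : G, if s ∈ S then conv (classIndicator y) (classIndicator x⁻¹) s else 0 := by
  have h1 : pairCount S x y = ∑ v : G, ∑ u : G,
      if (IsConj x u ∧ IsConj y v ∧ v * u⁻¹ ∈ S) then 1 else 0 := by
    unfold pairCount
    rw [Nat.card_eq_fintype_card, Fintype.card_subtype, Finset.card_filter,
      Fintype.sum_prod_type_right]
  have h2 : ∀ v : G, (∑ u : G, if (IsConj x u ∧ IsConj y v ∧ v * u⁻¹ ∈ S) then 1 else 0) =
      ∑ s : G, if (IsConj x (s⁻¹ * v) ∧ IsConj y v ∧ s ∈ S) then 1 else 0 := by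
    intro v
    let e : G ≃ G := ⟨fun s => s⁻¹ * v, fun u => v * u⁻¹, fun s => by group, fun u => by group⟩
    rw [← Equiv.sum_comp e]
    refine Finset.sum_congr rfl fun s _ => ?_
    have : v * (e s)⁻¹ = s := by
      show v * (s⁻¹ * v)⁻¹ = s
      group
    rw [this]
    rfl
  rw [h1]
  simp_rw [h2]
  rw [Finset.sum_comm]
  push_cast
  refine Finset.sum_congr rfl fun s _ => ?_
  by_cases hs : s ∈ S
  · rw [if_pos hs]
    unfold conv
    refine Finset.sum_congr rfl fun v _ => ?_
    rw [classIndicator_apply, classIndicator_apply]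
    have hiff : IsConj x⁻¹ (v⁻¹ * s) ↔ IsConj x (s⁻¹ * v) := by
      have : v⁻¹ * s = (s⁻¹ * v)⁻¹ := by group
      rw [this, isConj_inv_inv_iff]
    by_cases hy : IsConj y v
    · by_cases hx : IsConj x (s⁻¹ * v)
      · rw [if_pos ⟨hx, hy, hs⟩, if_pos hy, if_pos (hiff.mpr hx)]
        simp
      · rw [if_neg (fun h => hx h.1), if_pos hy, if_neg (fun h => hx (hiff.mp h))]
        simp
    · rw [if_neg (fun h => hy h.2.1), if_neg hy]
      simp
  · rw [if_neg hs]
    refine Finset.sum_eq_zero fun v _ => ?_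
    rw [if_neg (fun h => hs h.2.2)]

open Classical in
/-- **The character formula for the pair count.** -/
theorem pairCount_eq_sum_irr [Fintype (IrrCharacter G)] (S : Subgroup G) (x y : G) :
    (pairCount S x y : ℂ) = ∑ χ : IrrCharacter G,
      ((χ : G → ℂ) 1 / (Nat.card G : ℂ)) * centralChar (χ : G → ℂ) y *
        centralChar (χ : G → ℂ) x⁻¹ * conj (∑ s : G, if s ∈ S then (χ : G → ℂ) s else 0) := by
  rw [pairCount_eq_sum]
  have hcl : IsClassFunction G (conv (classIndicator y) (classIndicator x⁻¹)) :=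
    conv_isClassFunction (classIndicator_isClassFunction y) (classIndicator_isClassFunction x⁻¹)
  have h1 : ∀ s : G, (if s ∈ S then conv (classIndicator y) (classIndicator x⁻¹) s else 0) =
      ∑ χ : IrrCharacter G, ((χ : G → ℂ) 1 / (Nat.card G : ℂ)) * centralChar (χ : G → ℂ) y *
        centralChar (χ : G → ℂ) x⁻¹ * (if s ∈ S then conj ((χ : G → ℂ) s) else 0) := by
    intro s
    by_cases hs : s ∈ S
    · simp only [if_pos hs]
      rw [class_inversion hcl s]
      refine Finset.sum_congr rfl fun χ _ => ?_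
      rw [omega_conv χ.2 _ (classIndicator_isClassFunction x⁻¹),
        omega_classIndicator (isIrrCharacter_isClassFunction χ.2),
        omega_classIndicator (isIrrCharacter_isClassFunction χ.2)]
      ring
    · simp only [if_neg hs, mul_zero, Finset.sum_const_zero]
  simp_rw [h1]
  rw [Finset.sum_comm]
  refine Finset.sum_congr rfl fun χ _ => ?_
  rw [← Finset.mul_sum, map_sum]
  congr 1
  refine Finset.sum_congr rfl fun s _ => ?_
  split_ifs
  · rfl
  · simp

end Cfsg.Agent.Lib.Helper79_RobinsonFormula
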