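import Mathlib
import Cfsg.Agent.Lib.Helper79_RobinsonFormula

/-!
# Robinson's pair count through double cosets (helper61)

For a subgroup `S` of a finite group `G` and elements `x`, `y` whose conjugates commute with no
nontrivial element of `S`, the pair count `pairCount S x y` (pairs `(u, v)`, `u ~ x`, `v ~ y`,
`v u⁻¹ ∈ S`) satisfies `|S| * pairCount S x y = ∑ g, cnt S x g * cnt S y g` where
`cnt S x g = #{s ∈ S | x ~ s g}`; the summand is constant on the double cosets `S g S`, the double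
coset of `g` has `|S|² / |S ∩ g S g⁻¹|` elements and `|S ∩ g S g⁻¹|` divides `cnt S x g`.  Hence, for
a `p`-group `S`: if `p ∣ cnt S x g * cnt S y g` for every `g` with `S ∩ g S g⁻¹ = 1`, then
`p * |S| ∣ pairCount S x y` (`dvd_pairCount`).
-/

set_option autoImplicit false

namespace Cfsg.Agent.Lib.Helper61_DCoset

open Cfsg.Agent.Lib.Helper79_RobinsonFormula

variable {G : Type*} [Group G] [Fintype G]

/-- the number of `s ∈ S` with `s * g` conjugate to `x` -/
noncomputable def cnt (S : Subgroup G) (x g : G) : ℕ :=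
  Nat.card {s : S // IsConj x ((s : G) * g)}

/-- the double counting identity -/
theorem card_mul_pairCount (S : Subgroup G) (x y : G) :
    Nat.card S * pairCount S x y = ∑ g : G, cnt S x g * cnt S y g := by
  classical
  have e : (S × {uv : G × G // IsConj x uv.1 ∧ IsConj y uv.2 ∧ uv.2 * uv.1⁻¹ ∈ S}) ≃
      (Σ g : G, {s : S // IsConj x ((s : G) * g)} × {s : S // IsConj y ((s : G) * g)}) :=
    { toFun := fun q => ⟨(q.1 : G)⁻¹ * q.2.1.1,
        ⟨q.1, by
          have := q.2.2.1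
          rwa [mul_inv_cancel_left]⟩,
        ⟨⟨q.2.1.2 * q.2.1.1⁻¹ * q.1, S.mul_mem q.2.2.2.2 q.1.2⟩, by
          have := q.2.2.2.1
          show IsConj y (q.2.1.2 * q.2.1.1⁻¹ * (q.1 : G) * ((q.1 : G)⁻¹ * q.2.1.1))
          have h : q.2.1.2 * q.2.1.1⁻¹ * (q.1 : G) * ((q.1 : G)⁻¹ * q.2.1.1) = q.2.1.2 := by group
          rwa [h]⟩⟩
      invFun := fun r => (r.2.1.1, ⟨((r.2.1.1 : G) * r.1, (r.2.2.1 : G) * r.1),
        r.2.1.2, r.2.2.2, by
          have h : (r.2.2.1 : G) * r.1 * ((r.2.1.1 : G) * r.1)⁻¹ =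
              (r.2.2.1 : G) * (r.2.1.1 : G)⁻¹ := by group
          show (r.2.2.1 : G) * r.1 * ((r.2.1.1 : G) * r.1)⁻¹ ∈ S
          rw [h]
          exact S.mul_mem r.2.2.1.2 (S.inv_mem r.2.1.1.2)⟩)
      left_inv := by
        rintro ⟨s, ⟨⟨u, v⟩, hu, hv, hm⟩⟩
        apply Prod.ext
        · rfl
        · apply Subtype.ext
          apply Prod.ext
          · show (s : G) * ((s : G)⁻¹ * u) = u
            group
          · show v * u⁻¹ * (s : G) * ((s : G)⁻¹ * u) = v
            group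
      right_inv := by
        rintro ⟨g, ⟨s, hs⟩, ⟨s', hs'⟩⟩
        have h1 : (s : G)⁻¹ * ((s : G) * g) = g := by group
        have h2 : (s' : G) * g * ((s : G) * g)⁻¹ * (s : G) = (s' : G) := by group
        refine Sigma.ext h1 ?_
        have h3 : ∀ (g₁ g₂ : G) (hg : g₁ = g₂)
            (a : {s : S // IsConj x ((s : G) * g₁)} × {s : S // IsConj y ((s : G) * g₁)})
            (b : {s : S // IsConj x ((s : G) * g₂)} × {s : S // IsConj y ((s : G) * g₂)}),
            (a.1.1 : G) = b.1.1 → (a.2.1 : G) = b.2.1 → HEq a b := by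
          intro g₁ g₂ hg a b hab1 hab2
          subst hg
          apply heq_of_eq
          apply Prod.ext
          · exact Subtype.ext (Subtype.ext hab1)
          · exact Subtype.ext (Subtype.ext hab2)
        exact h3 _ _ h1 _ _ rfl h2 }
  have h1 := Nat.card_congr e
  rw [Nat.card_prod, Nat.card_sigma] at h1
  unfold pairCount
  rw [h1]
  refine Finset.sum_congr rfl fun g _ => ?_
  rw [Nat.card_prod]
  rfl

theorem cnt_mul_left (S : Subgroup G) (x g : G) {a : G} (ha : a ∈ S) :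
    cnt S x (a * g) = cnt S x g := by
  unfold cnt
  refine Nat.card_congr
    { toFun := fun s => ⟨⟨(s.1 : G) * a, S.mul_mem s.1.2 ha⟩, by
        have := s.2
        rwa [← mul_assoc] at this⟩
      invFun := fun s => ⟨⟨(s.1 : G) * a⁻¹, S.mul_mem s.1.2 (S.inv_mem ha)⟩, by
        have := s.2
        show IsConj x ((s.1 : G) * a⁻¹ * (a * g))
        have h : (s.1 : G) * a⁻¹ * (a * g) = (s.1 : G) * g := by group
        rwa [h]⟩
      left_inv := by
        intro s
        apply Subtype.ext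
        apply Subtype.ext
        show (s.1 : G) * a * a⁻¹ = s.1
        group
      right_inv := by
        intro s
        apply Subtype.ext
        apply Subtype.ext
        show (s.1 : G) * a⁻¹ * a = s.1
        group }

theorem isConj_conj_iff (x u b : G) : IsConj x (b * u * b⁻¹) ↔ IsConj x u := by
  constructor
  · intro h
    refine h.trans ?_
    exact (isConj_iff.mpr ⟨b, rfl⟩).symm
  · intro h
    exact h.trans (isConj_iff.mpr ⟨b, rfl⟩)

theorem cnt_mul_right (S : Subgroup G) (x g : G) {b : G} (hb : b ∈ S) :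
    cnt S x (g * b) = cnt S x g := by
  unfold cnt
  refine Nat.card_congr
    { toFun := fun s => ⟨⟨b * (s.1 : G), S.mul_mem hb s.1.2⟩, by
        have := s.2
        show IsConj x (b * (s.1 : G) * g)
        have h : b * ((s.1 : G) * (g * b)) * b⁻¹ = b * (s.1 : G) * g := by group
        rw [← h, isConj_conj_iff]
        exact this⟩
      invFun := fun s => ⟨⟨b⁻¹ * (s.1 : G), S.mul_mem (S.inv_mem hb) s.1.2⟩, by
        have := s.2
        show IsConj x (b⁻¹ * (s.1 : G) * (g * b))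
        have h : b⁻¹ * ((s.1 : G) * g) * b⁻¹⁻¹ = b⁻¹ * (s.1 : G) * (g * b) := by group
        rw [← h, isConj_conj_iff]
        exact this⟩
      left_inv := by
        intro s
        apply Subtype.ext
        apply Subtype.ext
        show b⁻¹ * (b * (s.1 : G)) = s.1
        group
      right_inv := by
        intro s
        apply Subtype.ext
        apply Subtype.ext
        show b * (b⁻¹ * (s.1 : G)) = s.1
        group }

/-- `S ∩ g S g⁻¹`, as the set of `t ∈ S` with `g⁻¹ t g ∈ S` -/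
def tw (S : Subgroup G) (g : G) : Subgroup G where
  carrier := {t | t ∈ S ∧ g⁻¹ * t * g ∈ S}
  one_mem' := ⟨S.one_mem, by simp [S.one_mem]⟩
  mul_mem' := by
    rintro a b ⟨ha, ha'⟩ ⟨hb, hb'⟩
    refine ⟨S.mul_mem ha hb, ?_⟩
    have h : g⁻¹ * (a * b) * g = g⁻¹ * a * g * (g⁻¹ * b * g) := by group
    rw [h]
    exact S.mul_mem ha' hb'
  inv_mem' := by
    rintro a ⟨ha, ha'⟩
    refine ⟨S.inv_mem ha, ?_⟩
    have h : g⁻¹ * a⁻¹ * g = (g⁻¹ * a * g)⁻¹ := by group
    rw [h]
    exact S.inv_mem ha'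

theorem mem_tw {S : Subgroup G} {g t : G} : t ∈ tw S g ↔ t ∈ S ∧ g⁻¹ * t * g ∈ S := Iff.rfl

/-- `|S ∩ g S g⁻¹|` divides the count, when no conjugate of `x` commutes with a nontrivial element
of `S`. -/
theorem card_tw_dvd_cnt (S : Subgroup G) (x g : G)
    (hfree : ∀ u, IsConj x u → ∀ s ∈ S, s * u = u * s → s = 1) :
    Nat.card (tw S g) ∣ cnt S x g := by
  classical
  let X := {s : S // IsConj x ((s : G) * g)}
  let _ : MulAction (tw S g) X :=
    { smul := fun t s => ⟨⟨g⁻¹ * (t : G) * g * (s.1 : G) * (t : G)⁻¹,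
          S.mul_mem (S.mul_mem t.2.2 s.1.2) (S.inv_mem t.2.1)⟩, by
        have := s.2
        show IsConj x (g⁻¹ * (t : G) * g * (s.1 : G) * (t : G)⁻¹ * g)
        have h : (g⁻¹ * (t : G) * g) * ((s.1 : G) * g) * (g⁻¹ * (t : G) * g)⁻¹ =
            g⁻¹ * (t : G) * g * (s.1 : G) * (t : G)⁻¹ * g := by group
        rw [← h, isConj_conj_iff]
        exact this⟩
      one_smul := by
        intro s
        apply Subtype.ext
        apply Subtype.ext
        show g⁻¹ * ((1 : tw S g) : G) * g * (s.1 : G) * ((1 : tw S g) : G)⁻¹ = s.1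
        rw [Subgroup.coe_one]
        group
      mul_smul := by
        intro t₁ t₂ s
        apply Subtype.ext
        apply Subtype.ext
        show g⁻¹ * ((t₁ * t₂ : tw S g) : G) * g * (s.1 : G) * ((t₁ * t₂ : tw S g) : G)⁻¹ =
          g⁻¹ * (t₁ : G) * g * (g⁻¹ * (t₂ : G) * g * (s.1 : G) * (t₂ : G)⁻¹) * (t₁ : G)⁻¹
        rw [Subgroup.coe_mul]
        group }
  have hstab : ∀ s : X, MulAction.stabilizer (tw S g) s = ⊥ := by
    intro s
    rw [eq_bot_iff]
    intro t ht
    rw [MulAction.mem_stabilizer_iff] at ht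
    have h1 : g⁻¹ * (t : G) * g * (s.1 : G) * (t : G)⁻¹ = (s.1 : G) :=
      congrArg (fun z : X => ((z.1 : S) : G)) ht
    have h2 : (g⁻¹ * (t : G) * g) * ((s.1 : G) * g) = ((s.1 : G) * g) * (g⁻¹ * (t : G) * g) := by
      have : g⁻¹ * (t : G) * g * (s.1 : G) = (s.1 : G) * (t : G) := by
        calc g⁻¹ * (t : G) * g * (s.1 : G)
            = (g⁻¹ * (t : G) * g * (s.1 : G) * (t : G)⁻¹) * (t : G) := by group
          _ = (s.1 : G) * (t : G) := by rw [h1]
      calc (g⁻¹ * (t : G) * g) * ((s.1 : G) * g) = (g⁻¹ * (t : G) * g * (s.1 : G)) * g := by group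
        _ = (s.1 : G) * (t : G) * g := by rw [this]
        _ = ((s.1 : G) * g) * (g⁻¹ * (t : G) * g) := by group
    have h3 := hfree _ s.2 _ t.2.2 h2
    have h4 : (t : G) = 1 := by
      have : (t : G) = g * (g⁻¹ * (t : G) * g) * g⁻¹ := by group
      rw [this, h3]
      group
    rw [Subgroup.mem_bot]
    exact Subtype.ext h4
  have e := MulAction.selfEquivOrbitsQuotientProd hstab
  have h1 := Nat.card_congr e
  rw [Nat.card_prod] at h1
  show Nat.card (tw S g) ∣ Nat.card X
  rw [h1]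
  exact dvd_mul_left _ _

/-- the fibre of `(a, b) ↦ a g b` over a point of the double coset is a copy of `S ∩ g S g⁻¹` -/
theorem card_fiber (S : Subgroup G) (g g' : G) (h : ∃ a ∈ S, ∃ b ∈ S, g' = a * g * b) :
    Nat.card {ab : S × S // (ab.1 : G) * g * (ab.2 : G) = g'} = Nat.card (tw S g) := by
  obtain ⟨a₀, ha₀, b₀, hb₀, rfl⟩ := h
  refine (Nat.card_congr ?_).symm
  exact
    { toFun := fun t => ⟨(⟨a₀ * (t : G), S.mul_mem ha₀ t.2.1⟩,
          ⟨(g⁻¹ * (t : G) * g)⁻¹ * b₀, S.mul_mem (S.inv_mem t.2.2) hb₀⟩), by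
        show a₀ * (t : G) * g * ((g⁻¹ * (t : G) * g)⁻¹ * b₀) = a₀ * g * b₀
        group⟩
      invFun := fun ab => ⟨a₀⁻¹ * (ab.1.1 : G), by
        have hab : (ab.1.1 : G) * g * (ab.1.2 : G) = a₀ * g * b₀ := ab.2
        refine ⟨S.mul_mem (S.inv_mem ha₀) ab.1.1.2, ?_⟩
        have h1 : g⁻¹ * (a₀⁻¹ * (ab.1.1 : G)) * g = b₀ * (ab.1.2 : G)⁻¹ := by
          calc g⁻¹ * (a₀⁻¹ * (ab.1.1 : G)) * g
              = g⁻¹ * a₀⁻¹ * ((ab.1.1 : G) * g * (ab.1.2 : G)) * (ab.1.2 : G)⁻¹ := by group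
            _ = g⁻¹ * a₀⁻¹ * (a₀ * g * b₀) * (ab.1.2 : G)⁻¹ := by rw [hab]
            _ = b₀ * (ab.1.2 : G)⁻¹ := by group
        rw [h1]
        exact S.mul_mem hb₀ (S.inv_mem ab.1.2.2)⟩
      left_inv := by
        intro t
        apply Subtype.ext
        show a₀⁻¹ * (a₀ * (t : G)) = t
        group
      right_inv := by
        intro ab
        have hab : (ab.1.1 : G) * g * (ab.1.2 : G) = a₀ * g * b₀ := ab.2
        apply Subtype.ext
        apply Prod.ext
        · apply Subtype.ext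
          show a₀ * (a₀⁻¹ * (ab.1.1 : G)) = ab.1.1
          group
        · apply Subtype.ext
          show (g⁻¹ * (a₀⁻¹ * (ab.1.1 : G)) * g)⁻¹ * b₀ = ab.1.2
          have h1 : g⁻¹ * (a₀⁻¹ * (ab.1.1 : G)) * g = b₀ * (ab.1.2 : G)⁻¹ := by
            calc g⁻¹ * (a₀⁻¹ * (ab.1.1 : G)) * g
                = g⁻¹ * a₀⁻¹ * ((ab.1.1 : G) * g * (ab.1.2 : G)) * (ab.1.2 : G)⁻¹ := by group
              _ = g⁻¹ * a₀⁻¹ * (a₀ * g * b₀) * (ab.1.2 : G)⁻¹ := by rw [hab]
              _ = b₀ * (ab.1.2 : G)⁻¹ := by group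
          rw [h1]
          group }

open Classical in
/-- the size of the double coset `S g S` -/
theorem card_dcoset_mul (S : Subgroup G) (g : G) :
    (Finset.univ.filter fun g' : G => ∃ a ∈ S, ∃ b ∈ S, g' = a * g * b).card * Nat.card (tw S g) =
      Nat.card S * Nat.card S := by
  have e := Equiv.sigmaFiberEquiv (fun ab : S × S => (ab.1 : G) * g * (ab.2 : G))
  have h1 := Nat.card_congr e
  rw [Nat.card_sigma, Nat.card_prod] at h1
  rw [← h1, ← Finset.sum_filter_add_sum_filter_not Finset.univ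
    (fun g' : G => ∃ a ∈ S, ∃ b ∈ S, g' = a * g * b)]
  have h2 : ∑ g' ∈ Finset.univ.filter (fun g' : G => ¬ ∃ a ∈ S, ∃ b ∈ S, g' = a * g * b),
      Nat.card {ab : S × S // (ab.1 : G) * g * (ab.2 : G) = g'} = 0 := by
    refine Finset.sum_eq_zero fun g' hg' => ?_
    rw [Finset.mem_filter] at hg'
    have : IsEmpty {ab : S × S // (ab.1 : G) * g * (ab.2 : G) = g'} := by
      constructor
      rintro ⟨ab, hab⟩
      exact hg'.2 ⟨ab.1, ab.1.2, ab.2, ab.2.2, hab.symm⟩
    exact Nat.card_of_isEmpty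
  rw [h2, add_zero]
  rw [Finset.sum_congr rfl (fun g' hg' => card_fiber S g g' (Finset.mem_filter.mp hg').2),
    Finset.sum_const, smul_eq_mul]

/-- **The double coset criterion.**  Let `S` be a `p`-subgroup and `x`, `y` elements no conjugate of
which commutes with a nontrivial element of `S`.  If `p` divides `cnt S x g * cnt S y g` for every
`g` with `S ∩ g S g⁻¹ = 1`, then `p * |S|` divides the pair count. -/
theorem dvd_pairCount (p : ℕ) [hp : Fact p.Prime] (S : Subgroup G) (hS : IsPGroup p S) (x y : G)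
    (hx : ∀ u, IsConj x u → ∀ s ∈ S, s * u = u * s → s = 1)
    (hy : ∀ u, IsConj y u → ∀ s ∈ S, s * u = u * s → s = 1)
    (h : ∀ g : G, tw S g = ⊥ → p ∣ cnt S x g * cnt S y g) :
    p * Nat.card S ∣ pairCount S x y := by
  classical
  have hn : 0 < Nat.card S := Nat.card_pos
  apply Nat.dvd_of_mul_dvd_mul_left hn
  rw [card_mul_pairCount]
  let R : Setoid G := DoubleCoset.setoid (S : Set G) (S : Set G)
  rw [Finset.sum_partition R]
  refine Finset.dvd_sum fun q _ => ?_
  induction q using Quotient.inductionOn with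
  | h g =>
  have hrel : ∀ g' : G, (⟦g'⟧ : Quotient R) = ⟦g⟧ ↔ ∃ a ∈ S, ∃ b ∈ S, g' = a * g * b := by
    intro g'
    rw [Quotient.eq]
    constructor
    · intro hr
      have := DoubleCoset.rel_iff.mp (Setoid.symm hr)
      exact this
    · intro hr
      exact Setoid.symm (DoubleCoset.rel_iff.mpr hr)
  have hconst : ∀ g' ∈ Finset.univ.filter (fun g' : G => (⟦g'⟧ : Quotient R) = ⟦g⟧),
      cnt S x g' * cnt S y g' = cnt S x g * cnt S y g := by
    intro g' hg'
    obtain ⟨a, ha, b, hb, rfl⟩ := (hrel g').mp (Finset.mem_filter.mp hg').2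
    rw [cnt_mul_right S x _ hb, cnt_mul_left S x _ ha, cnt_mul_right S y _ hb,
      cnt_mul_left S y _ ha]
  rw [Finset.sum_congr rfl hconst, Finset.sum_const, smul_eq_mul]
  have hfilt : (Finset.univ.filter (fun g' : G => (⟦g'⟧ : Quotient R) = ⟦g⟧)) =
      Finset.univ.filter fun g' : G => ∃ a ∈ S, ∃ b ∈ S, g' = a * g * b := by
    ext g'
    simp only [Finset.mem_filter, Finset.mem_univ, true_and]
    exact hrel g'
  rw [hfilt]
  have hcard := card_dcoset_mul S g
  obtain ⟨cx, hcx⟩ := card_tw_dvd_cnt S x g hx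
  obtain ⟨cy, hcy⟩ := card_tw_dvd_cnt S y g hy
  set d := (Finset.univ.filter fun g' : G => ∃ a ∈ S, ∃ b ∈ S, g' = a * g * b).card with hd
  set t := Nat.card (tw S g) with ht
  set n := Nat.card S with hnn
  by_cases htb : tw S g = ⊥
  · have ht1 : t = 1 := by
      rw [ht, htb]
      exact Subgroup.card_bot
    rw [ht1, mul_one] at hcard
    rw [hcard]
    obtain ⟨c, hc⟩ := h g htb
    rw [hc]
    exact ⟨c, by ring⟩
  · have hpt : p ∣ t := by
      have hT : IsPGroup p (tw S g) := hS.to_le (fun z hz => hz.1)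
      obtain ⟨k, hk⟩ := hT.exists_card_eq
      have hk0 : k ≠ 0 := by
        rintro rfl
        rw [pow_zero] at hk
        exact htb (Subgroup.card_eq_one.mp hk)
      rw [ht, hk]
      exact dvd_pow_self p hk0
    obtain ⟨c, hc⟩ := hpt
    rw [hcx, hcy]
    refine ⟨cx * cy * c, ?_⟩
    calc d * (t * cx * (t * cy)) = (d * t) * (cx * cy) * t := by ring
      _ = n * n * (cx * cy) * (p * c) := by rw [hcard, ← hc]
      _ = n * (p * n) * (cx * cy * c) := by ring

end Cfsg.Agent.Lib.Helper61_DCoset
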