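import Mathlib
import Cfsg.Agent.Lib.Helper61_DCoset

/-!
# Robinson's pair count through double cosets: the regular double cosets taken together (helper61)

The criterion `dvd_pairCount` of `Helper61_DCoset` asks `p ∣ cnt S x g * cnt S y g` for each `g` with
`S ∩ g S g⁻¹ = 1`.  Here only the sum of these products over a set of representatives of the regular
double cosets has to be divisible by `p` (`dvd_pairCount_sum`).
-/

set_option autoImplicit false

namespace Cfsg.Agent.Lib.Helper61_DCoset

open Cfsg.Agent.Lib.Helper79_RobinsonFormula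

variable {G : Type*} [Group G] [Fintype G]

omit [Fintype G] in
/-- the relation of lying in the same double coset -/
theorem dcoset_rel_iff (S : Subgroup G) (g g' : G) :
    (Quotient.mk (DoubleCoset.setoid (S : Set G) (S : Set G)) g' =
      Quotient.mk (DoubleCoset.setoid (S : Set G) (S : Set G)) g) ↔
      ∃ a ∈ S, ∃ b ∈ S, g' = a * g * b := by
  rw [Quotient.eq]
  constructor
  · intro hr
    exact DoubleCoset.rel_iff.mp (Setoid.symm' _ hr)
  · intro hr
    exact Setoid.symm' _ (DoubleCoset.rel_iff.mpr hr)

open Classical in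
/-- the sum of the products of the counts over a double coset -/
theorem class_sum (S : Subgroup G) (x y g : G) :
    ∑ g' ∈ Finset.univ.filter (fun g' : G =>
        Quotient.mk (DoubleCoset.setoid (S : Set G) (S : Set G)) g' =
          Quotient.mk (DoubleCoset.setoid (S : Set G) (S : Set G)) g),
      cnt S x g' * cnt S y g' =
    (Finset.univ.filter fun g' : G => ∃ a ∈ S, ∃ b ∈ S, g' = a * g * b).card *
      (cnt S x g * cnt S y g) := by
  have hconst : ∀ g' ∈ Finset.univ.filter (fun g' : G =>
      Quotient.mk (DoubleCoset.setoid (S : Set G) (S : Set G)) g' =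
        Quotient.mk (DoubleCoset.setoid (S : Set G) (S : Set G)) g),
      cnt S x g' * cnt S y g' = cnt S x g * cnt S y g := by
    intro g' hg'
    obtain ⟨a, ha, b, hb, rfl⟩ := (dcoset_rel_iff S g g').mp (Finset.mem_filter.mp hg').2
    rw [cnt_mul_right S x _ hb, cnt_mul_left S x _ ha, cnt_mul_right S y _ hb,
      cnt_mul_left S y _ ha]
  rw [Finset.sum_congr rfl hconst, Finset.sum_const, smul_eq_mul]
  have hfilt : (Finset.univ.filter (fun g' : G =>
      Quotient.mk (DoubleCoset.setoid (S : Set G) (S : Set G)) g' =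
        Quotient.mk (DoubleCoset.setoid (S : Set G) (S : Set G)) g)) =
      Finset.univ.filter fun g' : G => ∃ a ∈ S, ∃ b ∈ S, g' = a * g * b := by
    ext g'
    simp only [Finset.mem_filter, Finset.mem_univ, true_and]
    exact dcoset_rel_iff S g g'
  rw [hfilt]

open Classical in
/-- a regular double coset has `|S|²` elements -/
theorem card_dcoset_of_bot (S : Subgroup G) (g : G) (h : tw S g = ⊥) :
    (Finset.univ.filter fun g' : G => ∃ a ∈ S, ∃ b ∈ S, g' = a * g * b).card =
      Nat.card S * Nat.card S := by
  have hcard := card_dcoset_mul S g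
  rw [h, Subgroup.card_bot, mul_one] at hcard
  exact hcard

open Classical in
/-- a double coset has at most `|S|²` elements -/
theorem card_dcoset_le (S : Subgroup G) (g : G) :
    (Finset.univ.filter fun g' : G => ∃ a ∈ S, ∃ b ∈ S, g' = a * g * b).card ≤
      Nat.card S * Nat.card S := by
  have hcard := card_dcoset_mul S g
  have hpos : 0 < Nat.card (tw S g) := Nat.card_pos
  calc (Finset.univ.filter fun g' : G => ∃ a ∈ S, ∃ b ∈ S, g' = a * g * b).card
      ≤ (Finset.univ.filter fun g' : G => ∃ a ∈ S, ∃ b ∈ S, g' = a * g * b).card *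
        Nat.card (tw S g) := Nat.le_mul_of_pos_right _ hpos
    _ = _ := hcard

open Classical in
/-- the double coset `S g S`, as a finite set -/
noncomputable def dcosetFinset (S : Subgroup G) (g : G) : Finset G :=
  Finset.univ.filter fun g' : G => ∃ a ∈ S, ∃ b ∈ S, g' = a * g * b

open Classical in
theorem mem_dcosetFinset {S : Subgroup G} {g g' : G} :
    g' ∈ dcosetFinset S g ↔ ∃ a ∈ S, ∃ b ∈ S, g' = a * g * b := by
  unfold dcosetFinset
  exact ⟨fun h => (Finset.mem_filter.1 h).2, fun h => Finset.mem_filter.2 ⟨Finset.mem_univ _, h⟩⟩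

open Classical in
theorem card_dcosetFinset_le (S : Subgroup G) (g : G) :
    (dcosetFinset S g).card ≤ Nat.card S * Nat.card S :=
  card_dcoset_le S g

/-- **The double coset criterion, with the regular double cosets taken together.**  Let `S` be a
`p`-subgroup and `x`, `y` elements no conjugate of which commutes with a nontrivial element of `S`.
Let `gk 0, …, gk (K-1)` be representatives of the double cosets `S g S` with `S ∩ g S g⁻¹ = 1`.  If
`p` divides the sum of the `cnt S x (gk k) * cnt S y (gk k)`, then `p * |S|` divides the pair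
count. -/
theorem dvd_pairCount_sum (p : ℕ) [hp : Fact p.Prime] (S : Subgroup G) (hS : IsPGroup p S)
    (x y : G)
    (hx : ∀ u, IsConj x u → ∀ s ∈ S, s * u = u * s → s = 1)
    (hy : ∀ u, IsConj y u → ∀ s ∈ S, s * u = u * s → s = 1)
    (K : ℕ) (gk : ℕ → G)
    (hcov : ∀ g : G, tw S g = ⊥ → ∃ k < K, ∃ a ∈ S, ∃ b ∈ S, g = a * gk k * b)
    (hdisj : ∀ k < K, ∀ k' < K, (∃ a ∈ S, ∃ b ∈ S, gk k' = a * gk k * b) → k = k')
    (hreg : ∀ k < K, tw S (gk k) = ⊥)
    (hsum : p ∣ ∑ k ∈ Finset.range K, cnt S x (gk k) * cnt S y (gk k)) :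
    p * Nat.card S ∣ pairCount S x y := by
  classical
  have hn : 0 < Nat.card S := Nat.card_pos
  apply Nat.dvd_of_mul_dvd_mul_left hn
  rw [card_mul_pairCount]
  let R : Setoid G := DoubleCoset.setoid (S : Set G) (S : Set G)
  rw [Finset.sum_partition R]
  have himg : Finset.image (Quotient.mk R) Finset.univ = Finset.univ :=
    Finset.image_univ_of_surjective Quotient.mk_surjective
  rw [himg]
  set I : Finset (Quotient R) := (Finset.range K).image (fun k => (⟦gk k⟧ : Quotient R)) with hI
  rw [← Finset.sum_filter_add_sum_filter_not Finset.univ (fun q => q ∈ I)]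
  apply dvd_add
  · have hfI : Finset.univ.filter (fun q => q ∈ I) = I := by
      ext q
      simp
    rw [hfI, hI, Finset.sum_image]
    · have hterm : ∀ k ∈ Finset.range K,
          ∑ g' ∈ Finset.univ.filter (fun g' : G => (⟦g'⟧ : Quotient R) = ⟦gk k⟧),
            cnt S x g' * cnt S y g' =
          Nat.card S * Nat.card S * (cnt S x (gk k) * cnt S y (gk k)) := by
        intro k hk
        rw [class_sum S x y (gk k), card_dcoset_of_bot S (gk k) (hreg k (Finset.mem_range.1 hk))]
      rw [Finset.sum_congr rfl hterm, ← Finset.mul_sum]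
      obtain ⟨c, hc⟩ := hsum
      rw [hc]
      exact ⟨c, by ring⟩
    · intro k hk k' hk' e
      have hk1 := Finset.mem_coe.1 hk
      have hk1' := Finset.mem_coe.1 hk'
      rw [Finset.mem_range] at hk1 hk1'
      have e' : (⟦gk k'⟧ : Quotient R) = ⟦gk k⟧ := e.symm
      exact hdisj k hk1 k' hk1' ((dcoset_rel_iff S (gk k) (gk k')).mp e')
  · refine Finset.dvd_sum fun q hq => ?_
    rw [Finset.mem_filter] at hq
    have hqI := hq.2
    clear hq
    induction q using Quotient.inductionOn with
    | h g =>
    have htb : tw S g ≠ ⊥ := by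
      intro hb
      obtain ⟨k, hk, a, ha, b, hb', e⟩ := hcov g hb
      apply hqI
      rw [hI, Finset.mem_image]
      exact ⟨k, Finset.mem_range.2 hk, ((dcoset_rel_iff S (gk k) g).mpr ⟨a, ha, b, hb', e⟩).symm⟩
    rw [class_sum S x y g]
    have hcard := card_dcoset_mul S g
    obtain ⟨cx, hcx⟩ := card_tw_dvd_cnt S x g hx
    obtain ⟨cy, hcy⟩ := card_tw_dvd_cnt S y g hy
    set d := (Finset.univ.filter fun g' : G => ∃ a ∈ S, ∃ b ∈ S, g' = a * g * b).card with hd
    set t := Nat.card (tw S g) with ht
    set n := Nat.card S with hnn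
    have hpt : p ∣ t := by
      have hT : IsPGroup p (tw S g) := hS.to_le (fun z hz => hz.1)
      obtain ⟨k, hk⟩ := hT.exists_card_eq
      have hk0 : k ≠ 0 := by
        rintro rfl
        rw [pow_zero] at hk
        exact htb (Subgroup.card_eq_one.mp hk)
      rw [ht, hk]
      exact dvd_pow_self p hk0
    obtain ⟨c, hc⟩ := hpt
    rw [hcx, hcy]
    refine ⟨cx * cy * c, ?_⟩
    calc d * (t * cx * (t * cy)) = (d * t) * (cx * cy) * t := by ring
      _ = n * n * (cx * cy) * (p * c) := by rw [hcard, ← hc]
      _ = n * (p * n) * (cx * cy * c) := by ring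

end Cfsg.Agent.Lib.Helper61_DCoset
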