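import Mathlib
import Cfsg.Prelude.Def_FusionSystem
import Cfsg.Agent.Lib.Helper87_F2L3Defs

/-!
# S5318 package F2L3-WCARD (helper61, for architect helper87): `|Wr μ| = 2 |μ|²`.

Reusable: `dg_val`, `dg_wsw_val` (the matrices of `dg a b` and `dg a b * wsw`), `dg_inj`,
`dg_ne_dg_wsw`, `dg_wsw_inj`.
-/

set_option autoImplicit false

open Matrix Cfsg.Agent.Lib.Helper87_F2L3

namespace Cfsg.Agent.Lib.Helper61_F2L3_WCARD

variable {F : Type*} [Field F]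

theorem dg_val (a b : Fˣ) :
    ((dg a b : GL (Fin 2) F) : Matrix (Fin 2) (Fin 2) F) = !![(a : F), 0; 0, (b : F)] := rfl

theorem dg_wsw_val (a b : Fˣ) :
    ((dg a b * wsw : GL (Fin 2) F) : Matrix (Fin 2) (Fin 2) F) = !![0, (a : F); (b : F), 0] := by
  show !![(a : F), 0; 0, (b : F)] * !![(0 : F), 1; 1, 0] = _
  ext i j
  fin_cases i <;> fin_cases j <;> simp [Matrix.mul_apply, Fin.sum_univ_two]

theorem dg_inj {a b c d : Fˣ} (h : (dg a b : GL (Fin 2) F) = dg c d) : a = c ∧ b = d := by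
  have h1 := congrArg (fun g : GL (Fin 2) F => (g : Matrix (Fin 2) (Fin 2) F)) h
  simp only [dg_val] at h1
  have e0 := congrFun (congrFun h1 0) 0
  have e1 := congrFun (congrFun h1 1) 1
  simp at e0 e1
  exact ⟨Units.ext e0, Units.ext e1⟩

theorem dg_wsw_inj {a b c d : Fˣ} (h : (dg a b * wsw : GL (Fin 2) F) = dg c d * wsw) :
    a = c ∧ b = d :=
  dg_inj (mul_right_cancel h)

theorem dg_ne_dg_wsw (a b c d : Fˣ) : (dg a b : GL (Fin 2) F) ≠ dg c d * wsw := by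
  intro h
  have h1 := congrArg (fun g : GL (Fin 2) F => (g : Matrix (Fin 2) (Fin 2) F)) h
  simp only [dg_val, dg_wsw_val] at h1
  have e0 := congrFun (congrFun h1 0) 0
  simp at e0

/-- **F2L3-WCARD** [M].  `|Wr μ| = 2 |μ|²`. -/
theorem card_Wr (μ : Subgroup Fˣ) [Finite μ] : Nat.card (Wr μ) = 2 * Nat.card μ * Nat.card μ := by
  let f : (↥μ × ↥μ) × Bool → ↥(Wr μ) := fun x =>
    if x.2 then ⟨dg (x.1.1 : Fˣ) (x.1.2 : Fˣ) * wsw,
        mem_Wr.mpr ⟨x.1.1, x.1.1.2, x.1.2, x.1.2.2, Or.inr rfl⟩⟩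
    else ⟨dg (x.1.1 : Fˣ) (x.1.2 : Fˣ),
        mem_Wr.mpr ⟨x.1.1, x.1.1.2, x.1.2, x.1.2.2, Or.inl rfl⟩⟩
  have hf : Function.Bijective f := by
    constructor
    · rintro ⟨⟨a, b⟩, ε⟩ ⟨⟨c, d⟩, ε'⟩ h
      have h' : (f ((a, b), ε)).1 = (f ((c, d), ε')).1 := congrArg Subtype.val h
      cases ε <;> cases ε'
      · obtain ⟨e1, e2⟩ := dg_inj (show (dg (a : Fˣ) (b : Fˣ) : GL (Fin 2) F) = dg c d from h')
        rw [Subtype.ext e1, Subtype.ext e2]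
      · exact absurd (show (dg (a : Fˣ) (b : Fˣ) : GL (Fin 2) F) = dg c d * wsw from h')
          (dg_ne_dg_wsw _ _ _ _)
      · exact absurd (show (dg (c : Fˣ) (d : Fˣ) : GL (Fin 2) F) = dg a b * wsw from h'.symm)
          (dg_ne_dg_wsw _ _ _ _)
      · obtain ⟨e1, e2⟩ := dg_wsw_inj
          (show (dg (a : Fˣ) (b : Fˣ) * wsw : GL (Fin 2) F) = dg c d * wsw from h')
        rw [Subtype.ext e1, Subtype.ext e2]
    · rintro ⟨g, hg⟩
      obtain ⟨a, ha, b, hb, h | h⟩ := mem_Wr.mp hg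
      · exact ⟨((⟨a, ha⟩, ⟨b, hb⟩), false), Subtype.ext h.symm⟩
      · exact ⟨((⟨a, ha⟩, ⟨b, hb⟩), true), Subtype.ext h.symm⟩
  rw [← Nat.card_congr (Equiv.ofBijective f hf), Nat.card_prod, Nat.card_prod,
    Nat.card_eq_fintype_card (α := Bool), Fintype.card_bool]
  ring

end Cfsg.Agent.Lib.Helper61_F2L3_WCARD
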