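import Mathlib
import Cfsg.Prelude.Def_Characters
import Cfsg.Agent.Lib.Helper80_CharBasic
import Cfsg.Agent.Lib.Helper1_FT3Defs
import Cfsg.Agent.Lib.Helper61_FT3_S2
import Cfsg.Agent.Lib.Helper61_FT3_Fact

/-!
# S3331-B5a (helper61, for helper1's S3331-B market)

`USet x` is the union of the `x`-invariant `3'`-subgroups.
-/

set_option autoImplicit false
set_option linter.unusedSectionVars false

namespace Cfsg.Agent.Lib.Helper61_FT3_B5a

open Cfsg Cfsg.Agent.Lib.Helper80_CharBasic Cfsg.Agent.Lib.Helper1_FT3Defs
  Cfsg.Agent.Lib.Helper61_FT3_Fact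

variable {G : Type*} [Group G] [Finite G] {x t : G}

/-- PKG B5a (group theory) = (C4), first half. -/
theorem mem_USet_iff (h : Hyp G x t) (v : G) :
    v ∈ USet x ↔ ∃ B : Subgroup G, IsSig x B ∧ v ∈ B := by
  constructor
  · rintro ⟨h1, h2⟩
    have hx3 : x ^ 3 = 1 := by rw [← h.ox]; exact pow_orderOf_eq_one x
    have hxx : x * x = x⁻¹ := by
      have : x * x * x = 1 := by rw [← hx3, pow_three']
      exact eq_inv_of_mul_eq_one_left this
    have hxi : x⁻¹ * x⁻¹ = x := by
      have : x⁻¹ * x⁻¹ = (x * x)⁻¹ := by group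
      rw [this, hxx, inv_inv]
    set p := x * v * x⁻¹ with hp
    set q := x⁻¹ * v * x with hq
    -- `v p q = 1` and `v q p = 1`
    have e1 : v * p * q = 1 := by
      have h3 : (v * x) ^ 3 = 1 := by rw [← h1]; exact pow_orderOf_eq_one _
      calc v * p * q = v * (x * v * x⁻¹) * (x⁻¹ * v * x) := rfl
        _ = v * x * v * (x⁻¹ * x⁻¹) * v * x := by group
        _ = v * x * v * x * v * x := by rw [hxi]
        _ = (v * x) ^ 3 := by rw [pow_three']; simp only [mul_assoc]
        _ = 1 := h3
    have e2 : v * q * p = 1 := by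
      have h3 : (v * x⁻¹) ^ 3 = 1 := by rw [← h2]; exact pow_orderOf_eq_one _
      calc v * q * p = v * (x⁻¹ * v * x) * (x * v * x⁻¹) := rfl
        _ = v * x⁻¹ * v * (x * x) * v * x⁻¹ := by group
        _ = v * x⁻¹ * v * x⁻¹ * v * x⁻¹ := by rw [hxx]
        _ = (v * x⁻¹) ^ 3 := by rw [pow_three']; simp only [mul_assoc]
        _ = 1 := h3
    have hpq : p * q = q * p := by
      have a1 : p * q = v⁻¹ := by
        calc p * q = v⁻¹ * (v * p * q) := by group
          _ = v⁻¹ := by rw [e1, mul_one]
      have a2 : q * p = v⁻¹ := by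
        calc q * p = v⁻¹ * (v * q * p) := by group
          _ = v⁻¹ := by rw [e2, mul_one]
      rw [a1, a2]
    have hv : v = q⁻¹ * p⁻¹ := by
      calc v = (v * p * q) * q⁻¹ * p⁻¹ := by group
        _ = q⁻¹ * p⁻¹ := by rw [e1]; group
    have cpq : Commute p q := hpq
    have hvp : v * p = p * v := by
      have c1 : Commute p (q⁻¹ * p⁻¹) := cpq.inv_right.mul_right (Commute.refl p).inv_right
      rw [← hv] at c1
      exact c1.symm.eq
    have hvq : v * q = q * v := by
      have c1 : Commute q (q⁻¹ * p⁻¹) := (Commute.refl q).inv_right.mul_right cpq.symm.inv_right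
      rw [← hv] at c1
      exact c1.symm.eq
    -- the subgroup
    let S : Set G := {v, p, q}
    have hScomm : ∀ a ∈ S, ∀ b ∈ S, a * b = b * a := by
      intro a ha b hb
      simp only [S, Set.mem_insert_iff, Set.mem_singleton_iff] at ha hb
      rcases ha with rfl | rfl | rfl <;> rcases hb with rfl | rfl | rfl
      · rfl
      · exact hvp
      · exact hvq
      · exact hvp.symm
      · rfl
      · exact hpq
      · exact hvq.symm
      · exact hpq.symm
      · rfl
    let B : Subgroup G := Subgroup.closure S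
    have hBcomm : ∀ a ∈ B, ∀ b ∈ B, a * b = b * a := by
      intro a ha b hb
      have hc := Subgroup.isMulCommutative_closure hScomm
      have := hc.is_comm.comm (⟨a, ha⟩ : Subgroup.closure S) ⟨b, hb⟩
      exact congrArg Subtype.val this
    have hvB : v ∈ B := Subgroup.subset_closure (by simp [S])
    -- `x` normalizes `B`
    have hconjS : ∀ s ∈ S, x * s * x⁻¹ ∈ S := by
      intro s hs
      simp only [S, Set.mem_insert_iff, Set.mem_singleton_iff] at hs ⊢
      rcases hs with rfl | rfl | rfl
      · right; left; rfl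
      · right; right
        calc x * (x * v * x⁻¹) * x⁻¹ = (x * x) * v * (x⁻¹ * x⁻¹) := by group
          _ = x⁻¹ * v * x := by rw [hxx, hxi]
      · left
        show x * (x⁻¹ * v * x) * x⁻¹ = v
        group
    have hnorm : x ∈ Subgroup.normalizer (B : Set G) := by
      apply Subgroup.mem_normalizer_fintype
      intro n hn
      have hle : B ≤ B.comap (MulAut.conj x).toMonoidHom := by
        show Subgroup.closure S ≤ _
        rw [Subgroup.closure_le]
        intro s hs
        show (MulAut.conj x) s ∈ B
        rw [MulAut.conj_apply]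
        exact Subgroup.subset_closure (hconjS s hs)
      have := hle hn
      rw [Subgroup.mem_comap] at this
      simpa [MulAut.conj_apply] using this
    refine ⟨B, ⟨?_, hnorm⟩, hvB⟩
    -- `3 ∤ |B|`
    intro h3
    have : Fact (Nat.Prime 3) := ⟨Nat.prime_three⟩
    obtain ⟨y, hy⟩ := exists_prime_orderOf_dvd_card' (G := B) 3 h3
    have hy' : orderOf (y : G) = 3 := by rw [Subgroup.orderOf_coe]; exact hy
    -- every element of `B` is `1`, `y` or `y⁻¹`
    have hall : ∀ b ∈ B, b = 1 ∨ b = (y : G) ∨ b = (y : G)⁻¹ := fun b hb =>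
      cent_three h hy' (hBcomm b hb y y.2)
    -- `x` commutes with `y`
    have hyx : (y : G) * x = x * (y : G) := by
      have hmem : x * (y : G) * x⁻¹ ∈ B := (Subgroup.mem_normalizer_iff.mp hnorm _).mp y.2
      have hy1 : (y : G) ≠ 1 := by
        intro h1
        rw [h1, orderOf_one] at hy'
        omega
      rcases hall _ hmem with h4 | h4 | h4
      · exfalso
        apply hy1
        calc (y : G) = x⁻¹ * (x * (y : G) * x⁻¹) * x := by group
          _ = 1 := by rw [h4]; group
      · calc (y : G) * x = (x * (y : G) * x⁻¹) * x := by rw [h4]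
          _ = x * (y : G) := by group
      · exfalso
        -- `x y x⁻¹ = y⁻¹` forces `y = y⁻¹`
        have a1 : x * (y : G)⁻¹ * x⁻¹ = (y : G) := by
          calc x * (y : G)⁻¹ * x⁻¹ = (x * (y : G) * x⁻¹)⁻¹ := by group
            _ = (y : G) := by rw [h4, inv_inv]
        have a2 : x * (x * (x * (y : G) * x⁻¹) * x⁻¹) * x⁻¹ = (y : G)⁻¹ := by rw [h4, a1, h4]
        have a3 : x * (x * (x * (y : G) * x⁻¹) * x⁻¹) * x⁻¹ = (y : G) := by
          calc x * (x * (x * (y : G) * x⁻¹) * x⁻¹) * x⁻¹
              = (x * x * x) * (y : G) * (x * x * x)⁻¹ := by group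
            _ = (y : G) := by rw [← pow_three', hx3]; group
        have a4 : (y : G) = (y : G)⁻¹ := a3.symm.trans a2
        have a5 : (y : G) ^ 2 = 1 := by
          rw [pow_two]
          nth_rewrite 1 [a4]
          exact inv_mul_cancel _
        have a6 : orderOf (y : G) ∣ 2 := orderOf_dvd_of_pow_eq_one a5
        rw [hy'] at a6
        omega
    -- so `y ∈ ⟨x⟩`
    have hy1 : (y : G) ≠ 1 := by
      intro h1
      rw [h1, orderOf_one] at hy'
      omega
    have hyx' : (y : G) = x ∨ (y : G) = x⁻¹ := by
      rcases cent_three h h.ox hyx with h4 | h4 | h4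
      · exact absurd h4 hy1
      · exact Or.inl h4
      · exact Or.inr h4
    have hvx : v = 1 ∨ v = x ∨ v = x⁻¹ := by
      rcases hall v hvB with h4 | h4 | h4
      · exact Or.inl h4
      · rcases hyx' with h5 | h5
        · right; left; rw [h4, h5]
        · right; right; rw [h4, h5]
      · rcases hyx' with h5 | h5
        · right; right; rw [h4, h5]
        · right; left; rw [h4, h5, inv_inv]
    rcases hvx with h4 | h4 | h4
    · -- `v = 1`: then `B = ⊥`
      apply hy1
      have hle : B ≤ ⊥ := by
        show Subgroup.closure S ≤ ⊥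
        rw [Subgroup.closure_le]
        intro s hs
        simp only [S, Set.mem_insert_iff, Set.mem_singleton_iff] at hs
        have hp1 : p = 1 := by rw [hp, h4]; group
        have hq1 : q = 1 := by rw [hq, h4]; group
        rcases hs with rfl | rfl | rfl
        · rw [h4]; exact Subgroup.one_mem _
        · rw [hp1]; exact Subgroup.one_mem _
        · rw [hq1]; exact Subgroup.one_mem _
      exact (Subgroup.mem_bot.mp (hle y.2))
    · rw [h4, mul_inv_cancel, orderOf_one] at h2
      omega
    · rw [h4, inv_mul_cancel, orderOf_one] at h1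
      omega
  · rintro ⟨B, hB, hv⟩
    exact Cfsg.Agent.Lib.Helper61_FT3_S2.order_mul_of_sig h B hB v hv

end Cfsg.Agent.Lib.Helper61_FT3_B5a
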