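import Mathlib
import Cfsg.Prelude.Def_Solvable
import Cfsg.Agent.Lib.Helper71_FrobCount
import Cfsg.Agent.S4116

/-!
Subgroups of a Frobenius group (given by a complement `H`, no Frobenius theorem used) that are
conjugate into the complement.
-/

set_option autoImplicit false

namespace Cfsg.Agent.Lib.Helper61_FrobConj

open scoped Pointwise
open Cfsg.Agent.Lib.Helper71_Frobenius Cfsg.Agent.Lib.Helper71_FrobCount MulAction

variable {G : Type*} [Group G] [Finite G]

/-- If every non-identity element of the subgroup `L` fixes some coset of the Frobenius complement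
`H` (i.e. lies in some conjugate of `H`), then `L` lies in a conjugate of `H`. -/
theorem le_conj_of_forall_fixed (H : Subgroup G) (hH : Cfsg.IsFrobeniusComplement H)
    (L : Subgroup G) (hL : ∀ u ∈ L, u ≠ 1 → ∃ a : G ⧸ H, u • a = a) :
    ∃ x : G, L ≤ MulAut.conj x • H := by
  by_cases hLbot : L = ⊥
  · exact ⟨1, by rw [hLbot]; exact bot_le⟩
  · have : Nontrivial L := (Subgroup.nontrivial_iff_ne_bot L).2 hLbot
    have h : ∀ k : L, k ≠ 1 → ∃! b : G ⧸ H, k • b = b := by
      intro k hk
      have hk' : (k : G) ≠ 1 := fun h => hk (Subtype.ext h)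
      obtain ⟨a, ha⟩ := hL k k.2 hk'
      exact ⟨a, ha, fun b hb => fixed_unique H hH (k : G) hk' b a hb ha⟩
    obtain ⟨b, hb⟩ := Cfsg.Agent.S4116.exists_global_fixed_point h
    obtain ⟨g, rfl⟩ := QuotientGroup.mk_surjective b
    refine ⟨g, fun u hu => ?_⟩
    rw [← smul_mk_eq_iff]
    exact hb ⟨u, hu⟩

/-- the same with membership in conjugates instead of fixed cosets. -/
theorem le_conj_of_forall_mem_conj (H : Subgroup G) (hH : Cfsg.IsFrobeniusComplement H)
    (L : Subgroup G) (hL : ∀ u ∈ L, u ≠ 1 → ∃ g : G, u ∈ MulAut.conj g • H) :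
    ∃ x : G, L ≤ MulAut.conj x • H := by
  apply le_conj_of_forall_fixed H hH L
  intro u hu hu1
  obtain ⟨g, hg⟩ := hL u hu hu1
  exact ⟨(g : G ⧸ H), (smul_mk_eq_iff H u g).2 hg⟩

/-- A prime dividing the order of a Frobenius complement does not divide its index. -/
theorem not_dvd_index (H : Subgroup G) (hH : Cfsg.IsFrobeniusComplement H) {p : ℕ}
    (hp : p.Prime) (hpH : p ∣ Nat.card H) : ¬ p ∣ H.index := by
  intro hpi
  have h1 := index_mod_card H hH
  have h2 : H.index % p = 1 % p := by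
    have := congrArg (· % p) h1
    simp only [Nat.mod_mod_of_dvd _ hpH] at this
    exact this
  rw [Nat.mod_eq_zero_of_dvd hpi, Nat.mod_eq_of_lt hp.one_lt] at h2
  exact absurd h2 (by norm_num)

/-- An element whose order divides the order of a Frobenius complement (and is not `1`)
fixes a coset of the complement. -/
theorem exists_fixed_of_orderOf_dvd (H : Subgroup G) (hH : Cfsg.IsFrobeniusComplement H)
    (u : G) (hu1 : u ≠ 1) (hu : orderOf u ∣ Nat.card H) : ∃ a : G ⧸ H, u • a = a := by
  have hd1 : orderOf u ≠ 1 := fun h => hu1 (orderOf_eq_one_iff.1 h)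
  obtain ⟨p, hp, hpd⟩ := Nat.exists_prime_and_dvd hd1
  have : Fact p.Prime := ⟨hp⟩
  obtain ⟨m, hm⟩ := hpd
  have hd0 : 0 < orderOf u := orderOf_pos u
  have hm0 : 0 < m := by
    rcases Nat.eq_zero_or_pos m with h | h
    · rw [h, mul_zero] at hm; omega
    · exact h
  obtain ⟨v, hv⟩ : ∃ v : G, v = u ^ m := ⟨_, rfl⟩
  have hvord : orderOf v = p := by
    rw [hv, orderOf_pow' u (Nat.pos_iff_ne_zero.1 hm0), hm, Nat.gcd_eq_right (Dvd.intro_left p rfl)]
    exact Nat.mul_div_cancel _ hm0
  have hv1 : v ≠ 1 := by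
    intro h
    rw [h, orderOf_one] at hvord
    exact hp.one_lt.ne hvord
  have hPG : IsPGroup p (Subgroup.zpowers v) := by
    apply IsPGroup.of_card (n := 1)
    rw [Nat.card_zpowers, hvord, pow_one]
  have hnd : ¬ p ∣ Nat.card (G ⧸ H) := by
    rw [← Subgroup.index_eq_card]
    exact not_dvd_index H hH hp (Dvd.dvd.trans ⟨m, hm⟩ hu)
  obtain ⟨a, ha⟩ := hPG.nonempty_fixed_point_of_prime_not_dvd_card (G ⧸ H) hnd
  have hva : v • a = a := ha ⟨v, Subgroup.mem_zpowers v⟩
  refine ⟨a, ?_⟩
  have hcomm : v * u = u * v := by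
    rw [hv, ← pow_succ, ← pow_succ']
  have : v • (u • a) = u • a := by
    rw [smul_smul, hcomm, mul_smul, hva]
  exact fixed_unique H hH v hv1 _ _ this hva

end Cfsg.Agent.Lib.Helper61_FrobConj
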