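import Mathlib
import Cfsg.Agent.Lib.Helper61_F9
import Cfsg.Agent.Lib.Helper61_SU33Spec
import Cfsg.Agent.Lib.Helper61_G22Data
import Cfsg.Agent.Lib.Helper61_G22Bridge

/-!
# Helper61_U33Bridge

The verification (`decide +kernel`) of the Cayley table `Helper61_G22Data` for the two generators
of `SU₃(3)` as `3 × 3` matrices over `F9`: a matrix is coded by its three rows (`10` bits each), a
row by its three entries in base `9`.
-/

set_option autoImplicit false

namespace Cfsg.Agent.Lib.Helper61_U33Bridge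

open Matrix Cfsg.Agent.Lib.Helper61_F9 Cfsg.Agent.Lib.Helper61_G22Data
  Cfsg.Agent.Lib.Helper61_G22Bridge Cfsg.Agent.Lib.Helper61_SU33Spec

/-- The element of `F9` with index `k`. -/
def ofIdx (k : ℕ) : F9 := F9.mk ((k / 3 : ℕ) : ZMod 3) ((k % 3 : ℕ) : ZMod 3)

/-- Row `p` of a coded matrix. -/
def row2 (c p : ℕ) : ℕ := Nat.land (Nat.shiftRight c (Nat.mul 10 p)) 1023

theorem row2_lt (c p : ℕ) : row2 c p < 1024 := by
  show (c >>> (10 * p)) &&& 1023 < 1024
  exact lt_of_le_of_lt Nat.and_le_right (by norm_num)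

/-- Digit `q` (base `9`) of a coded row. -/
def dig (v q : ℕ) : ℕ := Nat.mod (Nat.div v (Nat.pow 9 q)) 9

/-- Decode a row. -/
def decRow2 (v : ℕ) : Fin 3 → F9 := fun q => ofIdx (dig v q.val)

/-- Decode a matrix. -/
def decM2 (c : ℕ) : Matrix (Fin 3) (Fin 3) F9 := fun p q => decRow2 (row2 c p.val) q

/-- The code of the `i`-th matrix. -/
def look2 (i : ℕ) : ℕ := Nat.land (Nat.shiftRight E2 (Nat.mul 32 i)) 4294967295

def rop2A (v : ℕ) : ℕ := Nat.land (Nat.shiftRight R2A (Nat.mul 10 v)) 1023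
def rop2B (v : ℕ) : ℕ := Nat.land (Nat.shiftRight R2B (Nat.mul 10 v)) 1023

/-- The two generators. -/
def MA : Matrix (Fin 3) (Fin 3) F9 := decM2 g2A
def MB : Matrix (Fin 3) (Fin 3) F9 := decM2 g2B

set_option maxRecDepth 100000 in
theorem rop2A_check : ∀ v : Fin 1024, ∀ q : Fin 3, decRow2 (rop2A v.val) q =
    decRow2 v.val 0 * MA 0 q + decRow2 v.val 1 * MA 1 q + decRow2 v.val 2 * MA 2 q := by
  decide +kernel

set_option maxRecDepth 100000 in
theorem rop2B_check : ∀ v : Fin 1024, ∀ q : Fin 3, decRow2 (rop2B v.val) q =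
    decRow2 v.val 0 * MB 0 q + decRow2 v.val 1 * MB 1 q + decRow2 v.val 2 * MB 2 q := by
  decide +kernel

/-- The check of the products `y i * A`, `y i * B`. -/
def chk5 (i : ℕ) : Bool :=
  frc (look2 i) fun c => frc (look2 (mtb i 0)) fun c0 => frc (look2 (mtb i 1)) fun c1 =>
    allLt 3 fun p => Nat.beq (row2 c0 p) (rop2A (row2 c p)) && Nat.beq (row2 c1 p) (rop2B (row2 c p))

set_option maxRecDepth 100000 in
theorem chk5_all : allLt 6048 chk5 = true := by decide +kernel

/-- The kernel check. -/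
def chk6 (i : ℕ) : Bool := Nat.beq i 0 || !(decide (decM2 (look2 i) = 1))

set_option maxRecDepth 100000 in
theorem chk6_all : allLt 6048 chk6 = true := by decide +kernel

set_option maxRecDepth 100000 in
theorem decM2_zero : decM2 (look2 0) = 1 := by decide +kernel

set_option maxRecDepth 100000 in
theorem gens_unitary : det3 MA = 1 ∧ Cols MA ∧ det3 MB = 1 ∧ Cols MB := by decide +kernel

theorem mul2_A {i : ℕ} (hi : i < 6048) : decM2 (look2 i) * MA = decM2 (look2 (mtb i 0)) := by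
  have h := allLt_spec _ _ chk5_all i hi
  simp only [chk5, frc_eq] at h
  ext p q
  rw [Matrix.mul_apply, Fin.sum_univ_three]
  have hp := allLt_spec _ _ h p.val p.isLt
  rw [Bool.and_eq_true] at hp
  show decRow2 (row2 (look2 i) p.val) 0 * MA 0 q + decRow2 (row2 (look2 i) p.val) 1 * MA 1 q +
    decRow2 (row2 (look2 i) p.val) 2 * MA 2 q = decRow2 (row2 (look2 (mtb i 0)) p.val) q
  rw [Nat.eq_of_beq_eq_true hp.1]
  exact (rop2A_check ⟨row2 (look2 i) p.val, row2_lt _ _⟩ q).symm

theorem mul2_B {i : ℕ} (hi : i < 6048) : decM2 (look2 i) * MB = decM2 (look2 (mtb i 1)) := by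
  have h := allLt_spec _ _ chk5_all i hi
  simp only [chk5, frc_eq] at h
  ext p q
  rw [Matrix.mul_apply, Fin.sum_univ_three]
  have hp := allLt_spec _ _ h p.val p.isLt
  rw [Bool.and_eq_true] at hp
  show decRow2 (row2 (look2 i) p.val) 0 * MB 0 q + decRow2 (row2 (look2 i) p.val) 1 * MB 1 q +
    decRow2 (row2 (look2 i) p.val) 2 * MB 2 q = decRow2 (row2 (look2 (mtb i 1)) p.val) q
  rw [Nat.eq_of_beq_eq_true hp.2]
  exact (rop2B_check ⟨row2 (look2 i) p.val, row2_lt _ _⟩ q).symm

theorem ker2 {i : ℕ} (hi : i < 6048) (h : decM2 (look2 i) = 1) : i = 0 := by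
  have h6 := allLt_spec _ _ chk6_all i hi
  simp only [chk6, Bool.or_eq_true, Bool.not_eq_true', decide_eq_false_iff_not] at h6
  rcases h6 with h6 | h6
  · exact Nat.eq_of_beq_eq_true h6
  · exact absurd h h6

end Cfsg.Agent.Lib.Helper61_U33Bridge
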