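import Mathlib
import Cfsg.Prelude.Def_ChevG2
import Cfsg.Agent.Lib.Helper61_G22Bridge
import Cfsg.Agent.Lib.Helper61_U33Bridge
import Cfsg.Agent.Lib.Helper61_FamilyIso3
import Cfsg.Agent.Lib.Helper5_SUOrder

/-!
# Helper61_G22Group

The commutator subgroup of `G₂(2)` (adjoint Chevalley group over `ZMod 2`) is generated by two
explicit elements `gA`, `gB`, has order `6048`, and is isomorphic to `SU₃(3)` over the model `F9`.
-/

set_option autoImplicit false

namespace Cfsg.Agent.Lib.Helper61_G22Group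

open Matrix Cfsg.Lie Cfsg.Agent.Lib.Helper61_F9 Cfsg.Agent.Lib.Helper61_G22Data
  Cfsg.Agent.Lib.Helper61_G22Bridge Cfsg.Agent.Lib.Helper61_U33Bridge
  Cfsg.Agent.Lib.Helper61_FamilyIso3 Cfsg.Agent.Lib.Helper61_SU33Spec

open scoped commutatorElement

/-- If every generator lies in `H` or in `H s⁻¹`, with `s` normalising `H`, then the commutator
subgroup of the generated group lies in `H`. -/
theorem commutator_closure_le {Γ : Type*} [Group Γ] (H : Subgroup Γ) (S : Set Γ) (s : Γ)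
    (hs : s ∈ Subgroup.normalizer (H : Set Γ)) (hS : ∀ x ∈ S, x ∈ H ∨ x * s ∈ H) :
    ⁅Subgroup.closure S, Subgroup.closure S⁆ ≤ H := by
  have hSN : ∀ x ∈ S, x ∈ Subgroup.normalizer (H : Set Γ) := by
    intro x hx
    rcases hS x hx with h | h
    · exact Subgroup.le_normalizer h
    · have : x = (x * s) * s⁻¹ := by group
      rw [this]
      exact mul_mem (Subgroup.le_normalizer h) (inv_mem hs)
  let N : Subgroup Γ := Subgroup.normalizer (H : Set Γ)
  have : (H.subgroupOf N).Normal := Subgroup.normal_in_normalizer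
  let π : ↥N →* ↥N ⧸ H.subgroupOf N := QuotientGroup.mk' (H.subgroupOf N)
  let sN : ↥N := ⟨s, hs⟩
  let K : Subgroup Γ := ((Subgroup.zpowers (π sN)).comap π).map N.subtype
  have hSK : Subgroup.closure S ≤ K := by
    rw [Subgroup.closure_le]
    intro x hx
    refine ⟨⟨x, hSN x hx⟩, ?_, rfl⟩
    show π ⟨x, hSN x hx⟩ ∈ Subgroup.zpowers (π sN)
    rcases hS x hx with h | h
    · have : π ⟨x, hSN x hx⟩ = 1 := by
        rw [QuotientGroup.mk'_apply, QuotientGroup.eq_one_iff]
        exact h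
      rw [this]
      exact one_mem _
    · have h1 : π (⟨x, hSN x hx⟩ * sN) = 1 := by
        rw [QuotientGroup.mk'_apply, QuotientGroup.eq_one_iff]
        exact h
      rw [map_mul] at h1
      rw [eq_inv_of_mul_eq_one_left h1]
      exact inv_mem (Subgroup.mem_zpowers _)
  rw [Subgroup.commutator_le]
  intro g₁ hg₁ g₂ hg₂
  obtain ⟨n₁, hn₁, rfl⟩ := hSK hg₁
  obtain ⟨n₂, hn₂, rfl⟩ := hSK hg₂
  have hn₁' : π n₁ ∈ Subgroup.zpowers (π sN) := hn₁
  have hn₂' : π n₂ ∈ Subgroup.zpowers (π sN) := hn₂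
  obtain ⟨a, ha⟩ := Subgroup.mem_zpowers_iff.1 hn₁'
  obtain ⟨b, hb⟩ := Subgroup.mem_zpowers_iff.1 hn₂'
  have hcomm : π ⁅n₁, n₂⁆ = 1 := by
    rw [map_commutatorElement, ← ha, ← hb, commutatorElement_eq_one_iff_commute]
    exact (Commute.refl _).zpow_zpow a b
  rw [QuotientGroup.mk'_apply, QuotientGroup.eq_one_iff] at hcomm
  exact hcomm

/-- The ambient group. -/
abbrev GLZ : Type := GL I14 (ZMod 2)

theorem xc_sq {r : ℕ} (hr : r < 12) : decM (xc r) * decM (xc r) = 1 := by
  rw [decM_mul (allLt_spec _ _ prod_checks.1 r hr), decM_one]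

/-- The root elements `x_r(1)`. -/
def Xr (r : Fin 12) : GLZ :=
  ⟨decM (xc r.val), decM (xc r.val), xc_sq r.isLt, xc_sq r.isLt⟩

theorem Xr_val (r : Fin 12) : ((Xr r : GLZ) : Matrix I14 I14 (ZMod 2)) = decM (xc r.val) := rfl

theorem Xr_inv (r : Fin 12) : (Xr r)⁻¹ = Xr r := Units.ext rfl

theorem Xr_mul_self (r : Fin 12) : Xr r * Xr r = 1 := by
  rw [← Xr_inv r]; exact inv_mul_cancel _

/-- The generators. -/
def gA : GLZ := Xr 0
def gB : GLZ := Xr 2 * Xr 9 * Xr 11 * Xr 2 * Xr 11 * Xr 9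

theorem gA_val : ((gA : GLZ) : Matrix I14 I14 (ZMod 2)) = decM gcA := by
  rw [prod_checks.2.2.2.2.2.2.2.2.2.2.2.2.2.2.2.2.2.2.2.2.2.2.2.2]
  rfl

theorem gB_val : ((gB : GLZ) : Matrix I14 I14 (ZMod 2)) = decM gcB := by
  obtain ⟨_, h1, h2, h3, h4, h5, _⟩ := prod_checks
  simp only [gB, Units.val_mul, Xr_val]
  change decM (xc 2) * decM (xc 9) * decM (xc 11) * decM (xc 2) * decM (xc 11) * decM (xc 9) = _
  rw [decM_mul h1, decM_mul h2, decM_mul h3, decM_mul h4, decM_mul h5]

/-- The generators as a sequence. -/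
def gen₁ (j : ℕ) : GLZ := if j = 0 then gA else gB

/-- Units to matrices. -/
abbrev ι₁ : GLZ →* Matrix I14 I14 (ZMod 2) := Units.coeHom _

theorem ι₁_inj : Function.Injective ι₁ := fun _ _ h => Units.ext h

theorem fam₁ : Fam ι₁ 6048 2 (fun i => decM (look i)) gen₁ mtb par pj dep where
  one := by
    show decM (look 0) = 1
    rw [look_zero, decM_one]
  mul := by
    intro i hi j hj
    have hj' : j = 0 ∨ j = 1 := by omega
    rcases hj' with rfl | rfl
    · show decM (look i) * ((gA : GLZ) : Matrix I14 I14 (ZMod 2)) = _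
      rw [gA_val]; exact mul_A hi
    · show decM (look i) * ((gB : GLZ) : Matrix I14 I14 (ZMod 2)) = _
      rw [gB_val]; exact mul_B hi
  mlt := fun i hi j hj => mtb_lt hi hj
  tree := fun i hi h0 => tree hi h0

/-- The subgroup generated by `gA`, `gB`. -/
abbrev H : Subgroup GLZ := gens 2 gen₁

theorem mem_H {a : GLZ} {i : ℕ} (hi : i < 6048)
    (h : (a : Matrix I14 I14 (ZMod 2)) = decM (look i)) : a ∈ H :=
  (mem_gens_iff ι₁_inj fam₁ (by norm_num) a).2 ⟨i, hi, h⟩

theorem card_H : Nat.card ↥H = 6048 :=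
  card_gens ι₁_inj fam₁ (by norm_num) (fun _ hi _ hi' h => decM_look_inj hi hi' h)

theorem gA_mem : gA ∈ H := gen_mem (r := 2) (gen := gen₁) (j := 0) (by norm_num)
theorem gB_mem : gB ∈ H := gen_mem (r := 2) (gen := gen₁) (j := 1) (by norm_num)

/-- The short root element used as a coset representative. -/
abbrev s : GLZ := Xr 2

theorem s_inv : s⁻¹ = s := Xr_inv 2

theorem s_conj_gen : s * gA * s⁻¹ ∈ H ∧ s * gB * s⁻¹ ∈ H := by
  obtain ⟨_, _, _, _, _, _, _, _, _, hA1, hA2, hB1, hB2, _⟩ := prod_checks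
  rw [s_inv]
  constructor
  · apply mem_H (i := 1) (by norm_num)
    simp only [Units.val_mul, Xr_val, gA_val]
    change decM (xc 2) * decM gcA * decM (xc 2) = _
    rw [decM_mul hA1, decM_mul hA2]
  · apply mem_H (i := 1252) (by norm_num)
    simp only [Units.val_mul, Xr_val, gB_val]
    change decM (xc 2) * decM gcB * decM (xc 2) = _
    rw [decM_mul hB1, decM_mul hB2]

theorem s_conj_mem {h : GLZ} (hh : h ∈ H) : s * h * s⁻¹ ∈ H := by
  induction hh using Subgroup.closure_induction with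
  | mem x hx =>
    obtain ⟨j, hj, rfl⟩ := hx
    have hj' : j = 0 ∨ j = 1 := by
      have : j < 2 := hj
      omega
    rcases hj' with rfl | rfl
    · exact s_conj_gen.1
    · exact s_conj_gen.2
  | one => rw [mul_one, mul_inv_cancel]; exact one_mem _
  | mul x y _ _ hx hy =>
    have : s * (x * y) * s⁻¹ = (s * x * s⁻¹) * (s * y * s⁻¹) := by group
    rw [this]; exact mul_mem hx hy
  | inv x _ hx =>
    have : s * x⁻¹ * s⁻¹ = (s * x * s⁻¹)⁻¹ := by group
    rw [this]; exact inv_mem hx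

theorem s_mem_normalizer : s ∈ Subgroup.normalizer (H : Set GLZ) := by
  rw [Subgroup.mem_normalizer_iff]
  intro h
  constructor
  · exact s_conj_mem
  · intro hh
    have h2 := s_conj_mem hh
    have : s * (s * h * s⁻¹) * s⁻¹ = h := by
      rw [s_inv]
      have e : s * (s * h * s) * s = (s * s) * h * (s * s) := by group
      rw [e, Xr_mul_self, one_mul, mul_one]
    rwa [this] at h2

/-- The Chevalley group, with the index type written out. -/
def G2 : Subgroup GLZ := chevG2.group (ZMod 2)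

theorem G2_eq : G2 = Subgroup.closure {g : GLZ | ∃ (r : Fin 12) (t : ZMod 2),
    (g : Matrix I14 I14 (ZMod 2)) = (chevG2.xMat (ZMod 2) r t : Matrix I14 I14 (ZMod 2))} := rfl

/-- The root matrices `x_r(t)`. -/
def XM (r : Fin 12) (t : ZMod 2) : Matrix I14 I14 (ZMod 2) := chevG2.xMat (ZMod 2) r t

set_option maxRecDepth 100000 in
theorem xroot' : ∀ r : Fin 12, XM r 1 = decM (xc r.val) := by
  decide +kernel

set_option maxRecDepth 100000 in
theorem xzero' : ∀ r : Fin 12, XM r 0 = 1 := by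
  decide +kernel

theorem xroot (r : Fin 12) :
    (chevG2.xMat (ZMod 2) r 1 : Matrix I14 I14 (ZMod 2)) = decM (xc r.val) := xroot' r

theorem xzero (r : Fin 12) : (chevG2.xMat (ZMod 2) r 0 : Matrix I14 I14 (ZMod 2)) = 1 := xzero' r

theorem Xr_mem_G2 (r : Fin 12) : Xr r ∈ G2 := by
  rw [G2_eq]
  exact Subgroup.subset_closure ⟨r, 1, by rw [Xr_val, xroot]⟩

theorem Xr_cases (r : Fin 12) : Xr r ∈ H ∨ Xr r * s ∈ H := by
  obtain ⟨_, _, _, _, _, _, _, _, _, _, _, _, _, h3, h4, h7, h8, h9, e0, e1, e5, e6, e10, e11, _⟩ :=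
    prod_checks
  fin_cases r
  · left; exact mem_H (i := 1) (by norm_num) (by rw [Xr_val]; exact congrArg decM e0)
  · left; exact mem_H (i := 2) (by norm_num) (by rw [Xr_val]; exact congrArg decM e1)
  · right; show Xr 2 * Xr 2 ∈ H; rw [Xr_mul_self]; exact one_mem _
  · right; exact mem_H (i := 9) (by norm_num) (by rw [Units.val_mul, Xr_val, Xr_val]; exact decM_mul h3)
  · right; exact mem_H (i := 6) (by norm_num) (by rw [Units.val_mul, Xr_val, Xr_val]; exact decM_mul h4)
  · left; exact mem_H (i := 48) (by norm_num) (by rw [Xr_val]; exact congrArg decM e5)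
  · left; exact mem_H (i := 1536) (by norm_num) (by rw [Xr_val]; exact congrArg decM e6)
  · right; exact mem_H (i := 65) (by norm_num) (by rw [Units.val_mul, Xr_val, Xr_val]; exact decM_mul h7)
  · right; exact mem_H (i := 2402) (by norm_num) (by rw [Units.val_mul, Xr_val, Xr_val]; exact decM_mul h8)
  · right; exact mem_H (i := 3168) (by norm_num) (by rw [Units.val_mul, Xr_val, Xr_val]; exact decM_mul h9)
  · left; exact mem_H (i := 192) (by norm_num) (by rw [Xr_val]; exact congrArg decM e10)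
  · left; exact mem_H (i := 96) (by norm_num) (by rw [Xr_val]; exact congrArg decM e11)

theorem commutator_G2_le : ⁅G2, G2⁆ ≤ H := by
  rw [G2_eq]
  apply commutator_closure_le H _ s s_mem_normalizer
  rintro x ⟨r, t, hx⟩
  have ht : t = 0 ∨ t = 1 := by
    fin_cases t
    · left; rfl
    · right; rfl
  rcases ht with rfl | rfl
  · have : x = 1 := Units.ext (by rw [hx, xzero]; rfl)
    rw [this]
    left; exact one_mem _
  · have : x = Xr r := Units.ext (by rw [hx, xroot, Xr_val])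
    rw [this]
    exact Xr_cases r

theorem gA_eq_commutator : gA = ⁅Xr 1, Xr 5⁆ := by
  obtain ⟨_, _, _, _, _, _, a1, a2, a3, _⟩ := prod_checks
  rw [commutatorElement_def, Xr_inv, Xr_inv]
  apply Units.ext
  rw [gA_val]
  simp only [Units.val_mul, Xr_val]
  change decM gcA = decM (xc 1) * decM (xc 5) * decM (xc 1) * decM (xc 5)
  rw [decM_mul a1, decM_mul a2, decM_mul a3]

theorem gB_eq_commutator : gB = ⁅Xr 2, Xr 9 * Xr 11⁆ := by
  rw [commutatorElement_def, _root_.mul_inv_rev, Xr_inv, Xr_inv, Xr_inv]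
  simp only [gB, mul_assoc]

theorem H_le_commutator : H ≤ ⁅G2, G2⁆ := by
  show Subgroup.closure _ ≤ _
  rw [Subgroup.closure_le]
  rintro x ⟨j, -, rfl⟩
  unfold gen₁
  split_ifs
  · rw [gA_eq_commutator]
    exact Subgroup.commutator_mem_commutator (Xr_mem_G2 1) (Xr_mem_G2 5)
  · rw [gB_eq_commutator]
    exact Subgroup.commutator_mem_commutator (Xr_mem_G2 2) (mul_mem (Xr_mem_G2 9) (Xr_mem_G2 11))

theorem commutator_G2_eq : ⁅G2, G2⁆ = H := le_antisymm commutator_G2_le H_le_commutator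

/-- The commutator subgroup of `G₂(2)` as a subgroup of `GL`. -/
noncomputable def commEquiv : ↥(commutator ↥G2) ≃* ↥H :=
  ((commutator ↥G2).equivMapOfInjective G2.subtype Subtype.coe_injective).trans
    (MulEquiv.subgroupCongr (G2.map_subtype_commutator.trans commutator_G2_eq))

/-! ### The other side -/

/-- The generators of `SU₃(3)`. -/
def uA : ↥(Cfsg.SU 3 F9 3) := mkSU MA gens_unitary.1 gens_unitary.2.1
def uB : ↥(Cfsg.SU 3 F9 3) := mkSU MB gens_unitary.2.2.1 gens_unitary.2.2.2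

def gen₂ (j : ℕ) : ↥(Cfsg.SU 3 F9 3) := if j = 0 then uA else uB

/-- `SU₃(3)` to matrices. -/
def ι₂ : ↥(Cfsg.SU 3 F9 3) →* Matrix (Fin 3) (Fin 3) F9 where
  toFun g := g.1.1
  map_one' := rfl
  map_mul' _ _ := rfl

theorem ι₂_inj : Function.Injective ι₂ := fun _ _ h => Subtype.ext (Subtype.ext h)

theorem fam₂ : Fam ι₂ 6048 2 (fun i => decM2 (look2 i)) gen₂ mtb par pj dep where
  one := decM2_zero
  mul := by
    intro i hi j hj
    have hj' : j = 0 ∨ j = 1 := by omega
    rcases hj' with rfl | rfl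
    · exact mul2_A hi
    · exact mul2_B hi
  mlt := fun i hi j hj => mtb_lt hi hj
  tree := fun i hi h0 => tree hi h0

theorem card_SU33 : Nat.card ↥(Cfsg.SU 3 F9 3) = 6048 := by
  have h := Cfsg.Agent.Lib.Helper5_SUOrder.card_SU (F := F9) (q := 3)
    (by rw [F9.card]; norm_num) 3 (by norm_num)
  have h2 : (∏ i ∈ Finset.range 3, (if Even i then 3 ^ (i + 1) + 1 else 3 ^ (i + 1) - 1)) =
      4 * 8 * 28 := by decide
  rw [h2] at h
  omega

theorem exists_main : Nonempty (↥H ≃* ↥(Cfsg.SU 3 F9 3)) := by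
  obtain ⟨e⟩ := exists_mulEquiv ι₁_inj ι₂_inj fam₁ fam₂ (by norm_num)
    (fun _ hi _ hi' h => decM_look_inj hi hi' h) (fun _ hi h => ker2 hi h)
  have hcard : Nat.card ↥(gens 2 gen₂) = Nat.card ↥(Cfsg.SU 3 F9 3) := by
    rw [← Nat.card_congr e.toEquiv, card_H, card_SU33]
  have htop : gens 2 gen₂ = ⊤ := Subgroup.eq_top_of_card_eq _ hcard
  exact ⟨e.trans ((MulEquiv.subgroupCongr htop).trans Subgroup.topEquiv)⟩

end Cfsg.Agent.Lib.Helper61_G22Group
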