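import Mathlib
import Cfsg.Agent.Lib.Helper4_HTDefs

/-!
# S3371 package NT (helper61, for architect helper4)

The two number-theoretic lemmas: `q^d = Q^2`, `Q + 1 = 2^k` (`k ≥ 2`) forces `Q = q`;
`q^d = Q^2`, `Q - 1 = 2^x` forces `Q = q` or `(q, Q) = (3, 9)`.

Reusable: `pow_add_one_eq_two_pow` (`q`, `e` odd, `q^e + 1 = 2^k` ⇒ `q^e = q`),
`pow_eq_two_pow_add_one` (`q`, `e` odd, `q^e = 2^x + 1` ⇒ `q^e = q`).
-/

set_option autoImplicit false
set_option linter.unusedSectionVars false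

namespace Cfsg.Agent.Lib.Helper61_HT_NT

open Cfsg.Agent.Lib.Helper4_HTDefs

variable {q : ℕ} [Fact q.Prime] {V : Type*} [AddCommGroup V] [Module (ZMod q) V] [Finite V]
  {G : Type*} [Group G] [Finite G]

theorem pow_odd_modEq (N a : ℕ) (h : a * a ≡ 1 [MOD N]) (f : ℕ) :
    a ^ (2 * f + 1) ≡ a [MOD N] := by
  have h1 : a ^ (2 * f + 1) = (a * a) ^ f * a := by
    rw [pow_succ, pow_mul, pow_two]
  rw [h1]
  have h2 : (a * a) ^ f ≡ 1 ^ f [MOD N] := h.pow f
  rw [one_pow] at h2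
  have h3 := h2.mul_right a
  rwa [one_mul] at h3

theorem modEq_one_of_eq (N r a : ℕ) (h : a = r * N + 1) : a ≡ 1 [MOD N] := by
  rw [h]
  unfold Nat.ModEq
  rw [Nat.add_mod, Nat.mul_mod_left, zero_add, Nat.mod_mod]

theorem not_two_pow_succ_dvd (j : ℕ) : ¬ 2 ^ (j + 1) ∣ 2 ^ j := by
  intro h
  have h1 := Nat.le_of_dvd (by positivity) h
  rw [pow_succ] at h1
  have : 0 < 2 ^ j := by positivity
  omega

/-- `a`, `e` odd and `a^e + 1` a power of `2`: then `a^e = a`. -/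
theorem pow_add_one_eq_two_pow (a e k : ℕ) (ha : Odd a) (he : Odd e) (h : a ^ e + 1 = 2 ^ k) :
    a ^ e = a := by
  obtain ⟨r, rfl⟩ := ha
  obtain ⟨f, rfl⟩ := he
  have hdvd : 2 * r + 1 + 1 ∣ (2 * r + 1) ^ (2 * f + 1) + 1 := by
    have := Odd.nat_add_dvd_pow_add_pow (2 * r + 1) 1 (⟨f, rfl⟩ : Odd (2 * f + 1))
    rwa [one_pow] at this
  rw [h] at hdvd
  obtain ⟨j, hjk, hj⟩ := (Nat.dvd_prime_pow Nat.prime_two).mp hdvd
  have hsq : (2 * r + 1) * (2 * r + 1) ≡ 1 [MOD 2 ^ (j + 1)] := by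
    apply modEq_one_of_eq _ r
    rw [pow_succ, ← hj]
    ring
  rcases Nat.lt_or_ge j k with hlt | hge
  · exfalso
    have h1 : 2 ^ (j + 1) ∣ (2 * r + 1) ^ (2 * f + 1) + 1 := by
      rw [h]
      exact pow_dvd_pow 2 hlt
    have h2 : (2 * r + 1) ^ (2 * f + 1) + 1 ≡ 2 * r + 1 + 1 [MOD 2 ^ (j + 1)] :=
      (pow_odd_modEq _ _ hsq f).add_right 1
    have h3 : 2 ^ (j + 1) ∣ 2 * r + 1 + 1 := (h2.dvd_iff (dvd_refl _)).mp h1
    rw [hj] at h3
    exact not_two_pow_succ_dvd j h3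
  · have hjk' : j = k := le_antisymm hjk hge
    rw [hjk'] at hj
    omega

/-- `a`, `e` odd and `a^e - 1` a power of `2`: then `a^e = a`. -/
theorem pow_eq_two_pow_add_one (a e x : ℕ) (ha : Odd a) (he : Odd e) (h : a ^ e = 2 ^ x + 1) :
    a ^ e = a := by
  obtain ⟨r, rfl⟩ := ha
  obtain ⟨f, rfl⟩ := he
  have hdvd : 2 * r + 1 - 1 ∣ (2 * r + 1) ^ (2 * f + 1) - 1 := by
    exact Nat.sub_one_dvd_pow_sub_one (2 * r + 1) (2 * f + 1)
  rw [h, Nat.add_sub_cancel, Nat.add_sub_cancel] at hdvd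
  obtain ⟨j, hjx, hj⟩ := (Nat.dvd_prime_pow Nat.prime_two).mp hdvd
  have hsq : (2 * r + 1) * (2 * r + 1) ≡ 1 [MOD 2 ^ (j + 1)] := by
    apply modEq_one_of_eq _ (r + 1)
    rw [pow_succ, ← hj]
    ring
  rcases Nat.lt_or_ge j x with hlt | hge
  · exfalso
    have h1 : 2 ^ (j + 1) ∣ 2 ^ x := pow_dvd_pow 2 hlt
    have h2 : (2 * r + 1) ^ (2 * f + 1) ≡ 2 * r + 1 [MOD 2 ^ (j + 1)] :=
      pow_odd_modEq _ _ hsq f
    rw [h, hj] at h2
    have h3 : 2 ^ x ≡ 2 ^ j [MOD 2 ^ (j + 1)] := Nat.ModEq.add_right_cancel' 1 h2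
    have h4 : 2 ^ (j + 1) ∣ 2 ^ j := (h3.dvd_iff (dvd_refl _)).mp h1
    exact not_two_pow_succ_dvd j h4
  · have hjx' : j = x := le_antisymm hjx hge
    rw [hjx'] at hj
    omega

theorem sq_mod_four_ne_three (n : ℕ) : (n * n) % 4 ≠ 3 := by
  have h : n % 4 = 0 ∨ n % 4 = 1 ∨ n % 4 = 2 ∨ n % 4 = 3 := by omega
  rw [Nat.mul_mod]
  rcases h with h | h | h | h <;> rw [h] <;> norm_num

/-- `Q ∣ Q^2 = q^d` -/
theorem exists_pow_eq (hq : q.Prime) (d Q : ℕ) (hV : q ^ d = Q ^ 2) : ∃ e, Q = q ^ e := by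
  have h1 : Q ∣ q ^ d := by
    rw [hV, pow_two]
    exact dvd_mul_right Q Q
  obtain ⟨e, -, he⟩ := (Nat.dvd_prime_pow hq).mp h1
  exact ⟨e, he⟩

theorem nt1 (hq : q.Prime) (d Q k : ℕ) (hV : q ^ d = Q ^ 2) (hk : 2 ≤ k) (h : Q + 1 = 2 ^ k) : Q = q := by
  obtain ⟨e, rfl⟩ := exists_pow_eq hq d Q hV
  have h4 : 4 ∣ 2 ^ k := by
    have : (4 : ℕ) = 2 ^ 2 := by norm_num
    rw [this]
    exact pow_dvd_pow 2 hk
  rw [← h] at h4
  have hQ4 : q ^ e % 4 = 3 := by omega
  have hqodd : Odd q := by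
    by_contra hne
    have heven : Even q := Nat.not_odd_iff_even.mp hne
    have h2 : q = 2 := ((Nat.prime_dvd_prime_iff_eq Nat.prime_two hq).mp heven.two_dvd).symm
    subst h2
    rcases Nat.eq_zero_or_pos e with h0 | hpos
    · rw [h0, pow_zero] at hQ4
      omega
    · have : 2 ∣ 2 ^ e := dvd_pow_self 2 hpos.ne'
      omega
  have heodd : Odd e := by
    by_contra hne
    obtain ⟨f, hf⟩ := Nat.not_odd_iff_even.mp hne
    rw [hf, pow_add] at hQ4
    exact sq_mod_four_ne_three _ hQ4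
  exact pow_add_one_eq_two_pow q e k hqodd heodd h

theorem nt2 (hq : q.Prime) (d Q x : ℕ) (hV : q ^ d = Q ^ 2) (hQ : 2 ≤ Q) (h : Q - 1 = 2 ^ x) :
    Q = q ∨ (q = 3 ∧ Q = 9) := by
  obtain ⟨e, rfl⟩ := exists_pow_eq hq d Q hV
  have h' : q ^ e = 2 ^ x + 1 := by omega
  have he0 : e ≠ 0 := by
    rintro rfl
    rw [pow_zero] at hQ
    omega
  rcases Nat.even_or_odd q with heven | hqodd
  · -- `q = 2`
    have h2 : q = 2 := ((Nat.prime_dvd_prime_iff_eq Nat.prime_two hq).mp heven.two_dvd).symm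
    subst h2
    left
    have h3 : 2 ∣ 2 ^ e := dvd_pow_self 2 he0
    rcases Nat.eq_zero_or_pos x with h0 | hpos
    · rw [h0, pow_zero] at h'
      omega
    · have : 2 ∣ 2 ^ x := dvd_pow_self 2 hpos.ne'
      omega
  · rcases Nat.even_or_odd e with ⟨f, hf⟩ | heodd
    · -- `e = 2 f`
      right
      have hf0 : f ≠ 0 := by
        rintro rfl
        exact he0 hf
      set n := q ^ f with hn
      have hnn : n * n = 2 ^ x + 1 := by rw [← h', hf, pow_add]
      have hq3 : 3 ≤ q := by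
        have := hq.two_le
        obtain ⟨r, hr⟩ := hqodd
        omega
      have hn3 : 3 ≤ n := by
        calc 3 ≤ q := hq3
          _ = q ^ 1 := (pow_one q).symm
          _ ≤ q ^ f := Nat.pow_le_pow_right (by omega) (Nat.one_le_iff_ne_zero.mpr hf0)
      have hprod : (n - 1) * (n + 1) = 2 ^ x := by
        have h1 : (n - 1) * (n + 1) = n * n - 1 := by
          obtain ⟨m, hm⟩ : ∃ m, n = m + 1 := ⟨n - 1, by omega⟩
          rw [hm, Nat.add_sub_cancel]
          ring_nf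
          omega
        rw [h1, hnn, Nat.add_sub_cancel]
      obtain ⟨a, -, ha⟩ := (Nat.dvd_prime_pow Nat.prime_two).mp (Dvd.intro _ hprod)
      obtain ⟨b, -, hb⟩ := (Nat.dvd_prime_pow Nat.prime_two).mp (Dvd.intro_left _ hprod)
      -- `2^b = 2^a + 2`
      have hab : 2 ^ b = 2 ^ a + 2 := by omega
      have ha1 : a = 1 := by
        rcases Nat.lt_or_ge a 2 with hlt | hge
        · interval_cases a
          · rw [pow_zero] at ha
            omega
          · rfl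
        · exfalso
          have h4a : 4 ∣ 2 ^ a := by
            have : (4 : ℕ) = 2 ^ 2 := by norm_num
            rw [this]
            exact pow_dvd_pow 2 hge
          rcases Nat.lt_or_ge b 2 with hlt | hge'
          · have : 2 ^ b ≤ 2 ^ 1 := Nat.pow_le_pow_right (by norm_num) (by omega)
            have : 0 < 2 ^ a := by positivity
            omega
          · have h4b : 4 ∣ 2 ^ b := by
              have : (4 : ℕ) = 2 ^ 2 := by norm_num
              rw [this]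
              exact pow_dvd_pow 2 hge'
            omega
      rw [ha1, pow_one] at ha
      have hn3' : n = 3 := by omega
      have hq3' : q = 3 := by
        have h1 : q ∣ 3 := by
          rw [← hn3', hn]
          exact dvd_pow_self q hf0
        exact (Nat.prime_dvd_prime_iff_eq hq Nat.prime_three).mp h1
      refine ⟨hq3', ?_⟩
      rw [hf, pow_add, ← hn, hn3']
      norm_num
    · left
      exact pow_eq_two_pow_add_one q e x hqodd heodd h'

end Cfsg.Agent.Lib.Helper61_HT_NT
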