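import Mathlib
import Cfsg.Agent.Lib.Helper4_HTDefs

/-!
# S3371 package ORB2 (helper61, for architect helper4)

A group acting additively on an abelian group of odd order with all orbits of size at most `2`
has a kernel of index at most `2`.

Reusable: `eq_top_of_cover_three` (an additive group of odd order is not the union of three proper
subgroups).
-/

set_option autoImplicit false

namespace Cfsg.Agent.Lib.Helper61_HT_ORB2

open Cfsg.Agent.Lib.Helper4_HTDefs

variable {q : ℕ} [Fact q.Prime] {V : Type*} [AddCommGroup V] [Module (ZMod q) V] [Finite V]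
  {G : Type*} [Group G] [Finite G]

/-- a proper subgroup of a group of odd order has index at least `3` -/
theorem three_mul_card_le {M : Type*} [AddCommGroup M] [Finite M] (hodd : Odd (Nat.card M))
    (X : AddSubgroup M) (hX : X ≠ ⊤) : 3 * Nat.card ↥X ≤ Nat.card M := by
  have h1 := AddSubgroup.card_mul_index X
  have h2 : X.index ≠ 1 := fun h => hX (AddSubgroup.index_eq_one.mp h)
  have h3 : Odd X.index := by
    rw [← h1] at hodd
    exact (Nat.odd_mul.mp hodd).2
  obtain ⟨r, hr⟩ := h3
  have h4 : 3 ≤ X.index := by omega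
  calc 3 * Nat.card ↥X = Nat.card ↥X * 3 := mul_comm _ _
    _ ≤ Nat.card ↥X * X.index := Nat.mul_le_mul_left _ h4
    _ = Nat.card M := h1

/-- an additive group of odd order is not the union of three proper subgroups -/
theorem eq_top_of_cover_three {M : Type*} [AddCommGroup M] [Finite M] (hodd : Odd (Nat.card M))
    (X Y Z : AddSubgroup M) (hcov : ∀ m : M, m ∈ X ∨ m ∈ Y ∨ m ∈ Z) :
    X = ⊤ ∨ Y = ⊤ ∨ Z = ⊤ := by
  by_contra hcon
  push Not at hcon
  obtain ⟨hX, hY, hZ⟩ := hcon
  have h1 := three_mul_card_le hodd X hX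
  have h2 := three_mul_card_le hodd Y hY
  have h3 := three_mul_card_le hodd Z hZ
  have hsub : (Set.univ : Set M) ⊆ (X : Set M) ∪ ((Y : Set M) \ {0}) ∪ ((Z : Set M) \ {0}) := by
    intro m _
    by_cases hm : m = 0
    · left; left
      rw [hm]
      exact X.zero_mem
    · rcases hcov m with h | h | h
      · left; left; exact h
      · left; right; exact ⟨h, hm⟩
      · right; exact ⟨h, hm⟩
  have h4 := Set.ncard_le_ncard hsub (Set.toFinite _)
  rw [Set.ncard_univ] at h4
  have h5 : ((X : Set M) ∪ ((Y : Set M) \ {0}) ∪ ((Z : Set M) \ {0})).ncard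
      ≤ (X : Set M).ncard + ((Y : Set M) \ {0}).ncard + ((Z : Set M) \ {0}).ncard :=
    (Set.ncard_union_le _ _).trans (Nat.add_le_add_right (Set.ncard_union_le _ _) _)
  have eX : (X : Set M).ncard = Nat.card ↥X := (_root_.Nat.card_coe_set_eq _).symm
  have eY : (Y : Set M).ncard = Nat.card ↥Y := (_root_.Nat.card_coe_set_eq _).symm
  have eZ : (Z : Set M).ncard = Nat.card ↥Z := (_root_.Nat.card_coe_set_eq _).symm
  rw [Set.ncard_sdiff_singleton_of_mem (show (0 : M) ∈ (Y : Set M) from Y.zero_mem),
    Set.ncard_sdiff_singleton_of_mem (show (0 : M) ∈ (Z : Set M) from Z.zero_mem),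
    eX, eY, eZ] at h5
  have hY1 : 0 < Nat.card ↥Y := Nat.card_pos
  have hZ1 : 0 < Nat.card ↥Z := Nat.card_pos
  have hX1 : 0 < Nat.card ↥X := Nat.card_pos
  omega

/-- the fixed points of an additive endomorphism -/
def fixSub {M : Type*} [AddCommGroup M] (f : AddMonoid.End M) : AddSubgroup M where
  carrier := {m | f m = m}
  zero_mem' := map_zero f
  add_mem' := by
    intro x y hx hy
    show f (x + y) = x + y
    rw [map_add, hx, hy]
  neg_mem' := by
    intro x hx
    show f (-x) = -x
    rw [map_neg, hx]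

theorem mem_fixSub {M : Type*} [AddCommGroup M] (f : AddMonoid.End M) (m : M) :
    m ∈ fixSub f ↔ f m = m := Iff.rfl

/-- **ORB2** -/
theorem index_le_two {A : Type*} [Group A] [Finite A] {M : Type*} [AddCommGroup M] [Finite M]
    (hodd : Odd (Nat.card M)) (φ : A →* AddMonoid.End M)
    (horb : ∀ m : M, ∀ a b : A, φ a m = m ∨ φ b m = m ∨ φ a m = φ b m) : φ.ker.index ≤ 2 := by
  have hker : ∀ a : A, fixSub (φ a) = ⊤ → a ∈ φ.ker := by
    intro a ha
    rw [MonoidHom.mem_ker]
    apply DFunLike.ext
    intro m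
    have : m ∈ fixSub (φ a) := by rw [ha]; trivial
    exact this
  have hinv : ∀ (a : A) (m : M), φ a⁻¹ (φ a m) = m := by
    intro a m
    have h1 : φ a⁻¹ (φ a m) = (φ a⁻¹ * φ a) m := rfl
    rw [h1, ← map_mul, inv_mul_cancel, map_one]
    rfl
  have key : ∀ a b : A, a ∉ φ.ker → b ∉ φ.ker → a⁻¹ * b ∈ φ.ker := by
    intro a b ha hb
    have hcov : ∀ m : M, m ∈ fixSub (φ a) ∨ m ∈ fixSub (φ b) ∨ m ∈ fixSub (φ (a⁻¹ * b)) := by
      intro m
      rcases horb m a b with h | h | h
      · left; exact h
      · right; left; exact h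
      · right; right
        show φ (a⁻¹ * b) m = m
        rw [map_mul]
        show φ a⁻¹ (φ b m) = m
        rw [← h, hinv]
    rcases eq_top_of_cover_three hodd _ _ _ hcov with h | h | h
    · exact absurd (hker a h) ha
    · exact absurd (hker b h) hb
    · exact hker _ h
  by_cases htop : ∀ a : A, a ∈ φ.ker
  · have : φ.ker = ⊤ := (Subgroup.eq_top_iff' _).mpr htop
    rw [this, Subgroup.index_top]
    norm_num
  · push Not at htop
    obtain ⟨a, ha⟩ := htop
    let f : Bool → A ⧸ φ.ker := fun b => if b then (QuotientGroup.mk a) else (QuotientGroup.mk 1)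
    have hf : Function.Surjective f := by
      intro y
      obtain ⟨x, rfl⟩ := QuotientGroup.mk_surjective y
      by_cases hx : x ∈ φ.ker
      · refine ⟨false, ?_⟩
        show (QuotientGroup.mk 1 : A ⧸ φ.ker) = QuotientGroup.mk x
        rw [QuotientGroup.eq, inv_one, one_mul]
        exact hx
      · refine ⟨true, ?_⟩
        show (QuotientGroup.mk a : A ⧸ φ.ker) = QuotientGroup.mk x
        rw [QuotientGroup.eq]
        exact key a x ha hx
    have := Nat.card_le_card_of_surjective f hf
    rw [Nat.card_eq_fintype_card (α := Bool), Fintype.card_bool] at this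
    exact this

end Cfsg.Agent.Lib.Helper61_HT_ORB2
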