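import Mathlib
import Cfsg.Agent.Lib.Helper61_F9

/-!
# Helper61_L27U33Table

An explicit table of a homomorphism `SL₂(ℤ/7) → SU₃(3)` (matrices over the model `F9`, preserving
`Σ uᵢ vᵢ³`) with kernel `{±1}`, with the finite verifications (`decide +kernel`) used by `S1897`.
-/

set_option autoImplicit false

namespace Cfsg.Agent.Lib.Helper61_L27U33Table

open Cfsg.Agent.Lib.Helper61_F9 Matrix

/-- Table (`3 × 3` matrices over `F9` coded in base 9; `0` off `SL₂`). -/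
def tbl : List (List (List (List ℕ))) := [[[[0,0,0,0,0,0,0],[0,0,0,0,0,0,0],[0,0,0,0,0,0,0],[0,0,0,0,0,0,0],[0,0,0,0,0,0,0],[0,0,0,0,0,0,0],[0,0,0,0,0,0,0]],[[0,0,0,0,0,0,0],[0,0,0,0,0,0,0],[0,0,0,0,0,0,0],[0,0,0,0,0,0,0],[0,0,0,0,0,0,0],[0,0,0,0,0,0,0],[136721403,357463735,68247177,290081587,347044508,374724811,106192276]],[[0,0,0,0,0,0,0],[0,0,0,0,0,0,0],[0,0,0,0,0,0,0],[23169009,50089986,311733592,196203569,204456247,219783348,161785856],[0,0,0,0,0,0,0],[0,0,0,0,0,0,0],[0,0,0,0,0,0,0]],[[0,0,0,0,0,0,0],[0,0,0,0,0,0,0],[37698024,350803491,28938308,270943313,210849944,182893906,95024549],[0,0,0,0,0,0,0],[0,0,0,0,0,0,0],[0,0,0,0,0,0,0],[0,0,0,0,0,0,0]],[[0,0,0,0,0,0,0],[0,0,0,0,0,0,0],[0,0,0,0,0,0,0],[0,0,0,0,0,0,0],[0,0,0,0,0,0,0],[37698024,95024549,182893906,210849944,270943313,28938308,350803491],[0,0,0,0,0,0,0]],[[0,0,0,0,0,0,0],[0,0,0,0,0,0,0],[0,0,0,0,0,0,0],[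0,0,0,0,0,0,0],[23169009,161785856,219783348,204456247,196203569,311733592,50089986],[0,0,0,0,0,0,0],[0,0,0,0,0,0,0]],[[0,0,0,0,0,0,0],[136721403,106192276,374724811,347044508,290081587,68247177,357463735],[0,0,0,0,0,0,0],[0,0,0,0,0,0,0],[0,0,0,0,0,0,0],[0,0,0,0,0,0,0],[0,0,0,0,0,0,0]]],[[[0,129159849,0,0,0,0,0],[0,56961092,0,0,0,0,0],[0,120408305,0,0,0,0,0],[0,202668842,0,0,0,0,0],[0,231548203,0,0,0,0,0],[0,63727906,0,0,0,0,0],[0,99467569,0,0,0,0,0]],[[0,1030437,0,0,0,0,0],[0,0,362066738,0,0,0,0],[0,0,0,178600245,0,0,0],[0,0,0,0,348324499,0,0],[0,0,0,0,0,40640626,0],[0,0,0,0,0,0,151760100],[83224295,0,0,0,0,0,0]],[[0,334883752,0,0,0,0,0],[0,0,0,174997311,0,0,0],[0,0,0,0,0,271914343,0],[146554489,0,0,0,0,0,0],[0,0,43097803,0,0,0,0],[0,0,0,0,292689560,0,0],[0,0,0,0,0,0,156483300]],[[0,277134612,0,0,0,0,0],[0,0,0,0,291120531,0,0],[82501588,0,0,0,0,0,0],[0,0,0,220956449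,0,0,0],[0,0,0,0,0,0,3228498],[0,0,178257406,0,0,0,0],[0,0,0,0,0,110676629,0]],[[0,283447491,0,0,0,0,0],[0,0,0,0,0,312329325,0],[0,0,190002236,0,0,0,0],[0,0,0,0,0,0,26298363],[0,0,0,382926206,0,0,0],[305218761,0,0,0,0,0,0],[0,0,0,0,63887219,0,0]],[[0,355482314,0,0,0,0,0],[0,0,0,0,0,0,38226423],[0,0,0,0,176384493,0,0],[0,0,253601383,0,0,0,0],[93663828,0,0,0,0,0,0],[0,0,0,0,0,148149991,0],[0,0,0,232985582,0,0,0]],[[0,36174600,0,0,0,0,0],[320561495,0,0,0,0,0,0],[0,0,0,0,0,0,147410316],[0,0,0,0,0,93433538,0],[0,0,0,0,107301082,0,0],[0,0,0,282938431,0,0,0],[0,0,174464601,0,0,0,0]]],[[[0,0,0,0,360163495,0,0],[0,0,0,0,149762311,0,0],[0,0,0,0,98188176,0,0],[0,0,0,0,1653390,0,0],[0,0,0,0,55504551,0,0],[0,0,0,0,163396016,0,0],[0,0,0,0,330759254,0,0]],[[0,0,0,0,112097014,0,0],[0,221642673,0,0,0,0,0],[0,0,0,0,0,166288368,0],[0,0,333360229,0,0,0,0],[0,0,0,0,0,0,26993828],[0,0,0,1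391400,0,0,0],[305979833,0,0,0,0,0,0]],[[0,0,0,0,74705563,0,0],[0,0,0,0,0,149104785,0],[0,0,0,0,0,0,279113615],[191323746,0,0,0,0,0,0],[0,185394983,0,0,0,0,0],[0,0,177539667,0,0,0,0],[0,0,0,105082372,0,0,0]],[[0,0,0,0,307761063,0,0],[0,0,270241285,0,0,0,0],[225400385,0,0,0,0,0,0],[0,0,0,0,0,23701116,0],[0,0,0,14768653,0,0,0],[0,239368396,0,0,0,0,0],[0,0,0,0,0,0,52325668]],[[0,0,0,0,70567031,0,0],[0,0,0,0,0,0,373671696],[0,230820449,0,0,0,0,0],[0,0,0,56857931,0,0,0],[0,0,0,0,0,137787543,0],[27989266,0,0,0,0,0,0],[0,0,283876655,0,0,0,0]],[[0,0,0,0,272616371,0,0],[0,0,0,278697079,0,0,0],[0,0,217508325,0,0,0,0],[0,86148926,0,0,0,0,0],[363577274,0,0,0,0,0,0],[0,0,0,0,0,0,160188140],[0,0,0,0,0,171011568,0]],[[0,0,0,0,113334338,0,0],[103379640,0,0,0,0,0,0],[0,0,0,74325399,0,0,0],[0,0,0,0,0,0,84627883],[0,0,350077982,0,0,0,0],[0,0,0,0,0,258281793,0],[0,307381207,0,0,0,0,0]]]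,[[[0,0,0,0,0,331821236,0],[0,0,0,0,0,168239456,0],[0,0,0,0,0,76112409,0],[0,0,0,0,0,9566910,0],[0,0,0,0,0,104269980,0],[0,0,0,0,0,154607965,0],[0,0,0,0,0,360694117,0]],[[0,0,0,0,0,77850917,0],[0,0,0,314594189,0,0,0],[0,275017613,0,0,0,0,0],[0,0,0,0,0,0,317320517],[0,0,0,0,136192257,0,0],[0,0,125286378,0,0,0,0],[303459703,0,0,0,0,0,0]],[[0,0,0,0,0,108786818,0],[0,187804069,0,0,0,0,0],[0,0,0,0,4901073,0,0],[244851938,0,0,0,0,0,0],[0,0,0,79903189,0,0,0],[0,0,0,0,0,0,289618057],[0,0,275625578,0,0,0,0]],[[0,0,0,0,0,348790335,0],[0,0,0,0,0,0,297446532],[247577224,0,0,0,0,0,0],[0,325701163,0,0,0,0,0],[0,0,121278553,0,0,0,0],[0,0,0,354658656,0,0,0],[0,0,0,0,41355777,0,0]],[[0,0,0,0,0,127787671,0],[0,0,0,0,138316689,0,0],[0,0,0,316816311,0,0,0],[0,0,42692495,0,0,0,0],[0,201582526,0,0,0,0,0],[298232041,0,0,0,0,0,0],[0,0,0,0,0,0,100252357]],[[0,0,0,0,0,293469001,0],[0,0,756693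29,0,0,0,0],[0,0,0,0,0,0,248717295],[0,0,0,103055618,0,0,0],[228264529,0,0,0,0,0,0],[0,0,0,0,164159985,0,0],[0,221108973,0,0,0,0,0]],[[0,0,0,0,0,50732389,0],[297989285,0,0,0,0,0,0],[0,0,21289797,0,0,0,0],[0,0,0,0,162469944,0,0],[0,0,0,0,0,0,78434843],[0,218036175,0,0,0,0,0],[0,0,0,377959309,0,0,0]]],[[[0,0,331821236,0,0,0,0],[0,0,360694117,0,0,0,0],[0,0,154607965,0,0,0,0],[0,0,104269980,0,0,0,0],[0,0,9566910,0,0,0,0],[0,0,76112409,0,0,0,0],[0,0,168239456,0,0,0,0]],[[0,0,50732389,0,0,0,0],[0,0,0,0,377959309,0,0],[0,0,0,0,0,0,218036175],[0,78434843,0,0,0,0,0],[0,0,0,162469944,0,0,0],[0,0,0,0,0,21289797,0],[297989285,0,0,0,0,0,0]],[[0,0,293469001,0,0,0,0],[0,0,0,0,0,0,221108973],[0,0,0,164159985,0,0,0],[228264529,0,0,0,0,0,0],[0,0,0,0,103055618,0,0],[0,248717295,0,0,0,0,0],[0,0,0,0,0,75669329,0]],[[0,0,127787671,0,0,0,0],[0,100252357,0,0,0,0,0],[298232041,0,0,0,0,0,0],[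0,0,0,0,0,0,201582526],[0,0,0,0,0,42692495,0],[0,0,0,0,316816311,0,0],[0,0,0,138316689,0,0,0]],[[0,0,348790335,0,0,0,0],[0,0,0,41355777,0,0,0],[0,0,0,0,354658656,0,0],[0,0,0,0,0,121278553,0],[0,0,0,0,0,0,325701163],[247577224,0,0,0,0,0,0],[0,297446532,0,0,0,0,0]],[[0,0,108786818,0,0,0,0],[0,0,0,0,0,275625578,0],[0,289618057,0,0,0,0,0],[0,0,0,0,79903189,0,0],[244851938,0,0,0,0,0,0],[0,0,0,4901073,0,0,0],[0,0,0,0,0,0,187804069]],[[0,0,77850917,0,0,0,0],[303459703,0,0,0,0,0,0],[0,0,0,0,0,125286378,0],[0,0,0,136192257,0,0,0],[0,317320517,0,0,0,0,0],[0,0,0,0,0,0,275017613],[0,0,0,0,314594189,0,0]]],[[[0,0,0,360163495,0,0,0],[0,0,0,330759254,0,0,0],[0,0,0,163396016,0,0,0],[0,0,0,55504551,0,0,0],[0,0,0,1653390,0,0,0],[0,0,0,98188176,0,0,0],[0,0,0,149762311,0,0,0]],[[0,0,0,113334338,0,0,0],[0,0,0,0,0,0,307381207],[0,0,258281793,0,0,0,0],[0,0,0,0,0,350077982,0],[0,84627883,0,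0,0,0,0],[0,0,0,0,74325399,0,0],[103379640,0,0,0,0,0,0]],[[0,0,0,272616371,0,0,0],[0,0,171011568,0,0,0,0],[0,160188140,0,0,0,0,0],[363577274,0,0,0,0,0,0],[0,0,0,0,0,0,86148926],[0,0,0,0,0,217508325,0],[0,0,0,0,278697079,0,0]],[[0,0,0,70567031,0,0,0],[0,0,0,0,0,283876655,0],[27989266,0,0,0,0,0,0],[0,0,137787543,0,0,0,0],[0,0,0,0,56857931,0,0],[0,0,0,0,0,0,230820449],[0,373671696,0,0,0,0,0]],[[0,0,0,307761063,0,0,0],[0,52325668,0,0,0,0,0],[0,0,0,0,0,0,239368396],[0,0,0,0,14768653,0,0],[0,0,23701116,0,0,0,0],[225400385,0,0,0,0,0,0],[0,0,0,0,0,270241285,0]],[[0,0,0,74705563,0,0,0],[0,0,0,0,105082372,0,0],[0,0,0,0,0,177539667,0],[0,0,0,0,0,0,185394983],[191323746,0,0,0,0,0,0],[0,279113615,0,0,0,0,0],[0,0,149104785,0,0,0,0]],[[0,0,0,112097014,0,0,0],[305979833,0,0,0,0,0,0],[0,0,0,0,1391400,0,0],[0,26993828,0,0,0,0,0],[0,0,0,0,0,333360229,0],[0,0,166288368,0,0,0,0],[0,0,0,0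,0,0,221642673]]],[[[0,0,0,0,0,0,129159849],[0,0,0,0,0,0,99467569],[0,0,0,0,0,0,63727906],[0,0,0,0,0,0,231548203],[0,0,0,0,0,0,202668842],[0,0,0,0,0,0,120408305],[0,0,0,0,0,0,56961092]],[[0,0,0,0,0,0,36174600],[0,0,0,0,0,174464601,0],[0,0,0,0,282938431,0,0],[0,0,0,107301082,0,0,0],[0,0,93433538,0,0,0,0],[0,147410316,0,0,0,0,0],[320561495,0,0,0,0,0,0]],[[0,0,0,0,0,0,355482314],[0,0,0,0,232985582,0,0],[0,0,148149991,0,0,0,0],[93663828,0,0,0,0,0,0],[0,0,0,0,0,253601383,0],[0,0,0,176384493,0,0,0],[0,38226423,0,0,0,0,0]],[[0,0,0,0,0,0,283447491],[0,0,0,63887219,0,0,0],[305218761,0,0,0,0,0,0],[0,0,0,0,382926206,0,0],[0,26298363,0,0,0,0,0],[0,0,0,0,0,190002236,0],[0,0,312329325,0,0,0,0]],[[0,0,0,0,0,0,277134612],[0,0,110676629,0,0,0,0],[0,0,0,0,0,178257406,0],[0,3228498,0,0,0,0,0],[0,0,0,0,220956449,0,0],[82501588,0,0,0,0,0,0],[0,0,0,291120531,0,0,0]],[[0,0,0,0,0,0,334883752],[0,156483300,0,0,0,0,0],[0,0,0,292689560,0,0,0],[0,0,0,0,0,43097803,0],[146554489,0,0,0,0,0,0],[0,0,271914343,0,0,0,0],[0,0,0,0,174997311,0,0]],[[0,0,0,0,0,0,1030437],[83224295,0,0,0,0,0,0],[0,151760100,0,0,0,0,0],[0,0,40640626,0,0,0,0],[0,0,0,348324499,0,0,0],[0,0,0,0,178600245,0,0],[0,0,0,0,0,362066738,0]]]]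

def look (a b c d : ZMod 7) : ℕ :=
  (((tbl.getD a.val []).getD b.val []).getD c.val []).getD d.val 0

/-- Element of `F9` with a given index `3 re + im`. -/
def ofIdx : ℕ → F9
  | 0 => F9.mk 0 0
  | 1 => F9.mk 0 1
  | 2 => F9.mk 0 2
  | 3 => F9.mk 1 0
  | 4 => F9.mk 1 1
  | 5 => F9.mk 1 2
  | 6 => F9.mk 2 0
  | 7 => F9.mk 2 1
  | _ => F9.mk 2 2

def dec (n : ℕ) : Matrix (Fin 3) (Fin 3) F9 :=
  fun i j => ofIdx ((n / 9 ^ (3 * i.val + j.val)) % 9)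

/-- The determinant of a `3 × 3` matrix, written out. -/
def det3 (M : Matrix (Fin 3) (Fin 3) F9) : F9 :=
  M 0 0 * M 1 1 * M 2 2 - M 0 0 * M 1 2 * M 2 1 - M 0 1 * M 1 0 * M 2 2 + M 0 1 * M 1 2 * M 2 0 +
    M 0 2 * M 1 0 * M 2 1 - M 0 2 * M 1 1 * M 2 0

theorem det3_eq (M : Matrix (Fin 3) (Fin 3) F9) : M.det = det3 M := Matrix.det_fin_three M

/-- Explicit product of `3 × 3` matrices. -/
def mul3 (A B : Matrix (Fin 3) (Fin 3) F9) : Matrix (Fin 3) (Fin 3) F9 :=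
  fun i j => A i 0 * B 0 j + A i 1 * B 1 j + A i 2 * B 2 j

theorem mul3_eq (A B : Matrix (Fin 3) (Fin 3) F9) : mul3 A B = A * B := by
  ext i j
  rw [Matrix.mul_apply, Fin.sum_univ_three]; rfl

theorem look_one : look 1 0 0 1 = 129159849 := by decide +kernel

theorem look_neg_one : look 6 0 0 6 = 129159849 := by decide +kernel

theorem dec_one : dec 129159849 = 1 := by decide +kernel

set_option maxRecDepth 100000 in
theorem unitary_check : ∀ a b c d : ZMod 7, a * d - b * c = 1 →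
    (∀ i j : Fin 3, dec (look a b c d) 0 i * dec (look a b c d) 0 j ^ 3 +
      dec (look a b c d) 1 i * dec (look a b c d) 1 j ^ 3 +
      dec (look a b c d) 2 i * dec (look a b c d) 2 j ^ 3 = if i = j then 1 else 0) ∧
    det3 (dec (look a b c d)) = 1 := by
  decide +kernel

set_option maxRecDepth 100000 in
theorem ker_check : ∀ a b c d : ZMod 7, a * d - b * c = 1 → dec (look a b c d) = 1 →
    (a = 1 ∧ b = 0 ∧ c = 0 ∧ d = 1) ∨ (a = 6 ∧ b = 0 ∧ c = 0 ∧ d = 6) := by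
  decide +kernel

/-- Multiplicativity of the table against the elementary generators. -/
def GenProp (a b c d : ZMod 7) : Prop :=
  a * d - b * c = 1 → ∀ x : ZMod 7,
    mul3 (dec (look a b c d)) (dec (look 1 x 0 1)) = dec (look a (a * x + b) c (c * x + d)) ∧
    mul3 (dec (look a b c d)) (dec (look 1 0 x 1)) = dec (look (a + b * x) b (c + d * x) d)

instance (a b c d : ZMod 7) : Decidable (GenProp a b c d) := by
  unfold GenProp; infer_instance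

set_option maxRecDepth 100000 in
theorem gen_check_0 : ∀ b c d : ZMod 7, GenProp 0 b c d := by decide +kernel

set_option maxRecDepth 100000 in
theorem gen_check_1 : ∀ b c d : ZMod 7, GenProp 1 b c d := by decide +kernel

set_option maxRecDepth 100000 in
theorem gen_check_2 : ∀ b c d : ZMod 7, GenProp 2 b c d := by decide +kernel

set_option maxRecDepth 100000 in
theorem gen_check_3 : ∀ b c d : ZMod 7, GenProp 3 b c d := by decide +kernel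

set_option maxRecDepth 100000 in
theorem gen_check_4 : ∀ b c d : ZMod 7, GenProp 4 b c d := by decide +kernel

set_option maxRecDepth 100000 in
theorem gen_check_5 : ∀ b c d : ZMod 7, GenProp 5 b c d := by decide +kernel

set_option maxRecDepth 100000 in
theorem gen_check_6 : ∀ b c d : ZMod 7, GenProp 6 b c d := by decide +kernel

theorem gen_check (a b c d : ZMod 7) : GenProp a b c d := by
  revert b c d
  fin_cases a
  · exact gen_check_0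
  · exact gen_check_1
  · exact gen_check_2
  · exact gen_check_3
  · exact gen_check_4
  · exact gen_check_5
  · exact gen_check_6

end Cfsg.Agent.Lib.Helper61_L27U33Table
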