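import Mathlib

/-!
# Helper61_Lattice

Abstract lemmas for certified subgroup lattices:

* `conjS c K = c K c⁻¹` and its calculus;
* `classify`: a family of subgroups closed (up to conjugacy) under adjoining one element contains
  a conjugate of every subgroup of a finite group;
* the property `NormMax G`: every non-normal subgroup has a maximal normaliser; transport along
  isomorphisms, surjective homomorphisms, and coprime products with abelian groups.
-/

set_option autoImplicit false

namespace Cfsg.Agent.Lib.Helper61_Lattice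

open Subgroup

variable {G : Type*} [Group G]

/-- The conjugate subgroup `c K c⁻¹`. -/
def conjS (c : G) (K : Subgroup G) : Subgroup G := K.map (MulAut.conj c).toMonoidHom

theorem mem_conjS {c x : G} {K : Subgroup G} : x ∈ conjS c K ↔ c⁻¹ * x * c ∈ K := by
  unfold conjS
  rw [Subgroup.mem_map_equiv]
  simp only [MulAut.conj_symm_apply]

theorem conjS_one (K : Subgroup G) : conjS 1 K = K := by
  ext x
  rw [mem_conjS]
  simp

theorem conjS_mul (c d : G) (K : Subgroup G) : conjS c (conjS d K) = conjS (c * d) K := by
  ext x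
  rw [mem_conjS, mem_conjS, mem_conjS]
  simp only [mul_inv_rev, mul_assoc]

theorem conjS_top (c : G) : conjS c (⊤ : Subgroup G) = ⊤ := by
  ext x
  rw [mem_conjS]
  simp

theorem conjS_mono {c : G} {K L : Subgroup G} (h : K ≤ L) : conjS c K ≤ conjS c L :=
  Subgroup.map_mono h

theorem conjS_closure (c : G) (S : Set G) :
    conjS c (closure S) = closure ((fun x => c * x * c⁻¹) '' S) := by
  unfold conjS
  rw [MonoidHom.map_closure]
  rfl

theorem conjS_sup (c : G) (K L : Subgroup G) : conjS c (K ⊔ L) = conjS c K ⊔ conjS c L :=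
  Subgroup.map_sup _ _ _

theorem conjS_le_iff {c : G} {K L : Subgroup G} : conjS c K ≤ L ↔ ∀ x ∈ K, c * x * c⁻¹ ∈ L := by
  unfold conjS
  rw [Subgroup.map_le_iff_le_comap]
  rfl

theorem isCoatom_conjS {c : G} {M : Subgroup G} (h : IsCoatom M) : IsCoatom (conjS c M) :=
  (OrderIso.isCoatom_iff (MulAut.conj c).mapSubgroup M).2 h

theorem normalizer_conjS (c : G) (K : Subgroup G) :
    normalizer ((conjS c K : Subgroup G) : Set G) = conjS c (normalizer (K : Set G)) :=
  (map_equiv_normalizer_eq K (MulAut.conj c)).symm

theorem normal_conjS {c : G} {K : Subgroup G} (h : K.Normal) : (conjS c K).Normal := by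
  have : conjS c K = K := by
    ext x
    rw [mem_conjS]
    constructor
    · intro hx
      have := h.conj_mem _ hx c
      simpa [mul_assoc] using this
    · intro hx
      have := h.conj_mem _ hx c⁻¹
      simpa [mul_assoc] using this
  rw [this]
  exact h

/-- Adjoining an element to a conjugate. -/
theorem closure_insert_conjS (c g : G) (K : Subgroup G) :
    closure (insert g ((conjS c K : Subgroup G) : Set G)) =
      conjS c (closure (insert (c⁻¹ * g * c) (K : Set G))) := by
  rw [Set.insert_eq, Set.insert_eq, Subgroup.closure_union, Subgroup.closure_union, conjS_sup, closure_eq,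
    closure_eq, conjS_closure, Set.image_singleton]
  congr 3
  group

/-- The classification principle. -/
theorem classify [Finite G] {ι : Type*} (R : ι → Subgroup G) (i0 : ι) (h0 : R i0 = ⊥)
    (hstep : ∀ i (g : G), ∃ j c, closure (insert g (R i : Set G)) = conjS c (R j))
    (H : Subgroup G) : ∃ j c, H = conjS c (R j) := by
  classical
  have key : ∀ S : Finset G, ∃ j c, closure (S : Set G) = conjS c (R j) := by
    intro S
    induction S using Finset.induction_on with
    | empty =>
      refine ⟨i0, 1, ?_⟩
      rw [Finset.coe_empty, Subgroup.closure_empty, h0, conjS_one]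
    | insert g S _ ih =>
      obtain ⟨i, c, hi⟩ := ih
      obtain ⟨j, c', hj⟩ := hstep i (c⁻¹ * g * c)
      refine ⟨j, c * c', ?_⟩
      rw [← conjS_mul, ← hj, ← closure_insert_conjS, ← hi, Finset.coe_insert]
      rw [Set.insert_eq, Set.insert_eq, Subgroup.closure_union, Subgroup.closure_union, closure_eq]
  have hfin : (H : Set G).Finite := Set.toFinite _
  obtain ⟨j, c, h⟩ := key hfin.toFinset
  refine ⟨j, c, ?_⟩
  rw [← h, Set.Finite.coe_toFinset, closure_eq]

/-- Closure under conjugation by `y`, from the generators. -/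
theorem conj_mem_closure {S : Set G} {y : G} (h : ∀ g ∈ S, y * g * y⁻¹ ∈ closure S) :
    ∀ x ∈ closure S, y * x * y⁻¹ ∈ closure S := by
  intro x hx
  induction hx using closure_induction with
  | mem g hg => exact h g hg
  | one => simp
  | mul a b _ _ iha ihb =>
    have : y * (a * b) * y⁻¹ = (y * a * y⁻¹) * (y * b * y⁻¹) := by group
    rw [this]
    exact mul_mem iha ihb
  | inv a _ iha =>
    have : y * a⁻¹ * y⁻¹ = (y * a * y⁻¹)⁻¹ := by group
    rw [this]
    exact inv_mem iha

/-- Membership in the normaliser, from the generators. -/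
theorem mem_normalizer_closure {S : Set G} {y : G} (h1 : ∀ g ∈ S, y * g * y⁻¹ ∈ closure S)
    (h2 : ∀ g ∈ S, y⁻¹ * g * y ∈ closure S) : y ∈ normalizer ((closure S : Subgroup G) : Set G) := by
  rw [mem_normalizer_iff]
  intro x
  constructor
  · exact conj_mem_closure h1 x
  · intro hx
    have h2' : ∀ g ∈ S, y⁻¹ * g * y⁻¹⁻¹ ∈ closure S := by
      intro g hg
      rw [inv_inv]
      exact h2 g hg
    have := conj_mem_closure h2' _ hx
    have e : y⁻¹ * (y * x * y⁻¹) * y⁻¹⁻¹ = x := by group
    rwa [e] at this

/-- Every non-normal subgroup has a maximal normaliser. -/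
def NormMax (G : Type*) [Group G] : Prop :=
  ∀ H : Subgroup G, ¬ H.Normal → IsCoatom (normalizer (H : Set G))

theorem NormMax.of_equiv {G' : Type*} [Group G'] (e : G ≃* G') (h : NormMax G') : NormMax G := by
  intro H hH
  have h1 : ¬ (H.map e.toMonoidHom).Normal := by
    intro hn
    apply hH
    have := hn.comap e.toMonoidHom
    rwa [Subgroup.comap_map_eq_self_of_injective e.injective] at this
  have h2 := h _ h1
  rw [← map_equiv_normalizer_eq] at h2
  exact (OrderIso.isCoatom_iff e.mapSubgroup _).1 h2

theorem isCoatom_of_comap {G' : Type*} [Group G'] {f : G →* G'} (hf : Function.Surjective f)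
    {M : Subgroup G'} (h : IsCoatom (M.comap f)) : IsCoatom M := by
  constructor
  · intro hM
    apply h.1
    rw [hM, comap_top]
  · intro L hL
    have h1 := h.2 (L.comap f) ((comap_lt_comap_of_surjective hf).2 hL)
    apply comap_injective hf
    rw [h1, comap_top]

theorem NormMax.of_surjective {G' : Type*} [Group G'] (f : G →* G') (hf : Function.Surjective f)
    (h : NormMax G) : NormMax G' := by
  intro H hH
  have h1 : ¬ (H.comap f).Normal := by
    intro hn
    apply hH
    have := hn.map f hf
    rwa [Subgroup.map_comap_eq_self_of_surjective hf] at this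
  have h2 := h _ h1
  rw [← comap_normalizer_eq_of_surjective _ hf] at h2
  exact isCoatom_of_comap hf h2

section Prod

variable {K S : Type*} [Group K] [Group S]

/-- In a product of finite groups of coprime orders, the components of an element of a subgroup
lie in the subgroup. -/
theorem fst_mem_of_coprime [Finite K] [Finite S] (h : (Nat.card K).Coprime (Nat.card S))
    (H : Subgroup (K × S)) {k : K} {s : S} (hks : (k, s) ∈ H) : (k, (1 : S)) ∈ H := by
  have hb := Nat.gcd_eq_gcd_ab (Nat.card K) (Nat.card S)
  rw [h] at hb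
  set a := Nat.gcdA (Nat.card K) (Nat.card S)
  set b := Nat.gcdB (Nat.card K) (Nat.card S)
  have h1 : (k, s) ^ ((Nat.card S : ℤ) * b) ∈ H := zpow_mem hks _
  have h2 : (k, s) ^ ((Nat.card S : ℤ) * b) = (k, 1) := by
    apply Prod.ext
    · show k ^ ((Nat.card S : ℤ) * b) = k
      have e : (Nat.card S : ℤ) * b = 1 - (Nat.card K : ℤ) * a := by
        have : ((1 : ℕ) : ℤ) = 1 := rfl
        rw [this] at hb
        linarith
      rw [e, zpow_sub, zpow_one, zpow_mul, zpow_natCast, pow_card_eq_one']
      simp
    · show s ^ ((Nat.card S : ℤ) * b) = 1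
      rw [zpow_mul, zpow_natCast, pow_card_eq_one']
      simp
  rwa [h2] at h1

theorem snd_mem_of_coprime [Finite K] [Finite S] (h : (Nat.card K).Coprime (Nat.card S))
    (H : Subgroup (K × S)) {k : K} {s : S} (hks : (k, s) ∈ H) : ((1 : K), s) ∈ H := by
  have h1 := fst_mem_of_coprime h H hks
  have h2 := mul_mem (inv_mem h1) hks
  simpa using h2

theorem eq_prod_of_coprime [Finite K] [Finite S] (h : (Nat.card K).Coprime (Nat.card S))
    (H : Subgroup (K × S)) :
    H = (H.comap (MonoidHom.inl K S)).prod (H.comap (MonoidHom.inr K S)) := by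
  ext ⟨k, s⟩
  rw [Subgroup.mem_prod, Subgroup.mem_comap, Subgroup.mem_comap]
  constructor
  · intro hks
    exact ⟨fst_mem_of_coprime h H hks, snd_mem_of_coprime h H hks⟩
  · rintro ⟨h1, h2⟩
    have := mul_mem h1 h2
    simpa using this

end Prod

theorem NormMax.prod {K S : Type*} [Group K] [CommGroup S] [Finite K] [Finite S]
    (h : (Nat.card K).Coprime (Nat.card S)) (hK : NormMax K) : NormMax (K × S) := by
  intro H hH
  set H1 := H.comap (MonoidHom.inl K S) with hH1
  set H2 := H.comap (MonoidHom.inr K S) with hH2
  have e : H = H1.prod H2 := eq_prod_of_coprime h H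
  have hn1 : ¬ H1.Normal := by
    intro hn
    apply hH
    rw [e]
    have := hn
    have : H2.Normal := inferInstance
    infer_instance
  have hN : normalizer (H : Set (K × S)) = (normalizer (H1 : Set K)).comap (MonoidHom.fst K S) := by
    ext ⟨k, s⟩
    rw [Subgroup.mem_comap, mem_normalizer_iff, mem_normalizer_iff]
    show (∀ x : K × S, x ∈ H ↔ (k, s) * x * (k, s)⁻¹ ∈ H) ↔ ∀ x : K, x ∈ H1 ↔ k * x * k⁻¹ ∈ H1
    rw [e]
    constructor
    · intro hx x
      have := hx (x, 1)
      simp only [Subgroup.mem_prod, Prod.mk_mul_mk, Prod.inv_mk, mul_one, mul_inv_cancel,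
        one_mem, and_true] at this
      exact this
    · intro hx ⟨x, y⟩
      simp only [Subgroup.mem_prod, Prod.mk_mul_mk, Prod.inv_mk, mul_inv_cancel_comm]
      rw [hx x]
  rw [hN]
  exact isCoatom_comap_of_surjective (fun k => ⟨(k, 1), rfl⟩) (hK H1 hn1)

end Cfsg.Agent.Lib.Helper61_Lattice
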