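import Mathlib
import Cfsg.Agent.Lib.Helper27_FusM22
import Cfsg.Agent.Lib.Helper61_M22BlkData

/-!
The checks on the data for the 2-blocks of `M22` (helper61), by the kernel.
-/

set_option autoImplicit false
open Cfsg
open Cfsg.Agent.Lib.Helper26_Golay
open Cfsg.Agent.Lib.Helper27_EnumGroup
open Cfsg.Agent.Lib.Helper27_FusionSimple
open Cfsg.Agent.Lib.Helper27_OutM22
open Cfsg.Agent.Lib.Helper27_FusM22
open Cfsg.Agent.Lib.Helper61_M22BlkData

namespace Cfsg.Agent.Lib.Helper61_M22BlkChk

/-- the key of a point map: the images of the hexad, of the duad, and of the pair of duads -/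
def keyF (f : ℕ → ℕ) : ℕ :=
  Nat.add (Nat.add
    (Nat.add (Nat.add (Nat.add (Nat.add (Nat.add (Nat.pow 2 (f 2)) (Nat.pow 2 (f 3)))
      (Nat.pow 2 (f 4))) (Nat.pow 2 (f 8))) (Nat.pow 2 (f 9))) (Nat.pow 2 (f 21)))
    (Nat.mul 16777216 (Nat.add (Nat.pow 2 (f 3)) (Nat.pow 2 (f 4)))))
    (Nat.mul 281474976710656 (Nat.mul (Nat.add (Nat.pow 2 (f 2)) (Nat.pow 2 (f 21)))
      (Nat.add (Nat.pow 2 (f 8)) (Nat.pow 2 (f 9)))))

/-- the check that a table stabilises the flag -/
def flagChk (T : ℕ) : Bool :=
  ((Nat.beq (imgF T 3) 3 && Nat.beq (imgF T 4) 4) ||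
    (Nat.beq (imgF T 3) 4 && Nat.beq (imgF T 4) 3)) &&
  ((((Nat.beq (imgF T 2) 2 && Nat.beq (imgF T 21) 21) ||
      (Nat.beq (imgF T 2) 21 && Nat.beq (imgF T 21) 2)) &&
    ((Nat.beq (imgF T 8) 8 && Nat.beq (imgF T 9) 9) ||
      (Nat.beq (imgF T 8) 9 && Nat.beq (imgF T 9) 8))) ||
   (((Nat.beq (imgF T 2) 8 && Nat.beq (imgF T 21) 9) ||
      (Nat.beq (imgF T 2) 9 && Nat.beq (imgF T 21) 8)) &&
    ((Nat.beq (imgF T 8) 2 && Nat.beq (imgF T 9) 21) ||
      (Nat.beq (imgF T 8) 21 && Nat.beq (imgF T 9) 2))))

/-- the elements of the Sylow subgroup stabilise the flag -/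
def flagOK : Bool := allF (fun a => flagChk (sd.tb a)) 128

/-- the `i`-th table of the transversal -/
def tr (i : ℕ) : ℕ := tblAt TRV i

/-- the certificate of a coset -/
def cAt (i : ℕ) : ℕ := Nat.land (Nat.shiftRight CERT (Nat.mul 48 i)) 281474976710655

/-- the generator of the step from the parent -/
def genOf (c : ℕ) : ℕ := Nat.land c 1

/-- the parent -/
def parOf (c : ℕ) : ℕ := Nat.land (Nat.shiftRight c 1) 4095

/-- the depth -/
def depOf (c : ℕ) : ℕ := Nat.land (Nat.shiftRight c 13) 63

/-- the kind of the certificate -/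
def kindOf (c : ℕ) : ℕ := Nat.land (Nat.shiftRight c 19) 1

/-- the first index -/
def f1Of (c : ℕ) : ℕ := Nat.land (Nat.shiftRight c 20) 127

/-- the second index -/
def f2Of (c : ℕ) : ℕ := Nat.land (Nat.shiftRight c 27) 127

/-- the third index -/
def f3Of (c : ℕ) : ℕ := Nat.land (Nat.shiftRight c 34) 127

/-- the index of the representative of a regular double coset -/
def gkI (k : ℕ) : ℕ := Nat.land (Nat.shiftRight GKI (Nat.mul 12 k)) 4095

/-- the index of a class representative -/
def xjI (j : ℕ) : ℕ := Nat.land (Nat.shiftRight XJI (Nat.mul 12 j)) 4095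

/-- the check of the tree: the root is the identity, the other tables are a generator times the
table of the parent, of smaller depth -/
def treeChk (i : ℕ) : Bool :=
  forceN (cAt i) fun c => forceN (tr i) fun T =>
  cond (Nat.beq (depOf c) 0)
    (all24 (fun x => Nat.beq (imgF T x) x))
    (forceN (parOf c) fun p => Nat.blt p 3465 && (Nat.blt (depOf (cAt p)) (depOf c) &&
      forceN (tr p) fun P => forceN (cond (Nat.beq (genOf c) 0) TA TB) fun A =>
        all24 (fun x => Nat.beq (imgF T x) (imgF A (imgF P x)))))

/-- the tree -/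
def treeOK : Bool := allF treeChk 3465

/-- the keys of the transversal increase -/
def keysIncOK : Bool :=
  allF (fun i => Nat.blt (keyF (imgF (tr i))) (keyF (imgF (tr (Nat.succ i))))) 3464

/-- the indices of the representatives are in range -/
def idxOK : Bool := allF (fun k => Nat.blt (gkI k) 3465) 17 && allF (fun j => Nat.blt (xjI j) 3465) 5

/-- the check of the certificate of a coset: a nontrivial element of the intersection, or the
double coset -/
def certChk (i : ℕ) : Bool :=
  forceN (cAt i) fun c => forceN (tr i) fun T =>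
  forceN (f1Of c) fun u => forceN (f2Of c) fun v => forceN (f3Of c) fun b =>
  cond (Nat.beq (kindOf c) 0)
    (!(Nat.beq u 127) &&
      all24 (fun x => Nat.beq (imgF (sd.tb u) (imgF T x)) (imgF T (imgF (sd.tb v) x))))
    (Nat.blt u 17 && forceN (tr (gkI u)) fun K =>
      all24 (fun x => Nat.beq (imgF T x) (imgF (sd.tb v) (imgF K (imgF (sd.tb b) x)))))

/-- the certificates of all cosets -/
def certOK : Bool := allF certChk 3465

/-- the entry of an element of a regular double coset -/
def labE (k a : ℕ) : ℕ :=
  Nat.land (Nat.shiftRight LAB (Nat.mul 24 (Nat.add (Nat.mul 128 k) a))) 16777215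

/-- the label of an element of a regular double coset -/
def labAt (k a : ℕ) : ℕ := Nat.land (labE k a) 15

/-- the check of a label: a conjugator to the class representative, or a commuting involution -/
def labChk (k a : ℕ) : Bool :=
  forceN (labE k a) fun e => forceN (Nat.land e 15) fun l =>
  forceN (Nat.land (Nat.shiftRight e 4) 4095) fun i =>
  forceN (Nat.land (Nat.shiftRight e 16) 127) fun b =>
  forceN (tr i) fun W => forceN (tr (gkI k)) fun K =>
  Nat.blt i 3465 && cond (Nat.blt l 5)
    (forceN (tr (xjI l)) fun X =>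
      all24 (fun x => Nat.beq (imgF W (imgF (sd.tb b) (imgF (sd.tb a) (imgF K x))))
        (imgF X (imgF W (imgF (sd.tb b) x)))))
    (all24 (fun x => Nat.beq (imgF W (imgF (sd.tb b) (imgF W (imgF (sd.tb b) x)))) x) &&
      (!(all24 (fun x => Nat.beq (imgF W (imgF (sd.tb b) x)) x)) &&
      all24 (fun x => Nat.beq (imgF W (imgF (sd.tb b) (imgF (sd.tb a) (imgF K x))))
        (imgF (sd.tb a) (imgF K (imgF W (imgF (sd.tb b) x)))))))

/-- all labels -/
def labsOK : Bool := allF (fun k => allF (fun a => labChk k a) 128) 17

/-- the number of `a < n` with `f a`, by the recursor -/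
def countF (f : ℕ → Bool) (n : ℕ) : ℕ :=
  Nat.rec (motive := fun _ => ℕ) 0 (fun k acc => cond (f k) (Nat.succ acc) acc) n

/-- the numbers of elements with a given class label are even -/
def parOK : Bool :=
  allF (fun k => allF (fun j =>
    Nat.beq (Nat.mod (countF (fun a => Nat.beq (labAt k a) j) 128) 2) 0) 5) 17

/-- the entry of an involution of the Sylow subgroup -/
def invE (a : ℕ) : ℕ := Nat.land (Nat.shiftRight INVC (Nat.mul 20 a)) 1048575

/-- the check of an element of the Sylow subgroup: not an involution, or conjugate to the central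
involution -/
def invChk (a : ℕ) : Bool :=
  Nat.beq a 127 ||
  (!(all24 (fun x => Nat.beq (imgF (sd.tb a) (imgF (sd.tb a) x)) x)) ||
  forceN (invE a) fun e => forceN (Nat.land e 4095) fun i =>
  forceN (Nat.land (Nat.shiftRight e 12) 127) fun b =>
  Nat.blt i 3465 && forceN (tr i) fun W =>
    all24 (fun x => Nat.beq (imgF W (imgF (sd.tb b) (imgF (sd.tb a) x)))
      (imgF (sd.tb 70) (imgF W (imgF (sd.tb b) x)))))

/-- all involutions of the Sylow subgroup -/
def invOK : Bool := allF invChk 128

/-- membership of an index in the normal subgroup of order 16 -/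
def inE (e : ℕ) : Bool := Nat.beq (Nat.land (Nat.shiftRight EMASK e) 1) 1

/-- the subgroup of order 16 is a subgroup, normalised by the Sylow subgroup -/
def eOK : Bool :=
  inE 127 && (inE 70 &&
  (allF (fun i => allF (fun j => !(inE i) || (!(inE j) || inE (sd.mulI i j))) 128) 128 &&
  (allF (fun i => !(inE i) || inE (sd.invI i)) 128 &&
  allF (fun b => allF (fun e => !(inE e) || inE (sd.mulI (sd.mulI b e) (sd.invI b))) 128) 128)))

/-- the check on a coset: it does not commute with the central involution, or it normalises the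
subgroup of order 16 and its elements centralising that subgroup lie in it -/
def cChk (i : ℕ) : Bool :=
  forceN (tr i) fun T =>
    !(all24 (fun x => Nat.beq (imgF T (imgF (sd.tb 70) x)) (imgF (sd.tb 70) (imgF T x)))) ||
    (allF (fun e => !(inE e) || anyF (fun e' => inE e' &&
        all24 (fun x => Nat.beq (imgF T (imgF (sd.tb e) x)) (imgF (sd.tb e') (imgF T x)))) 128) 128 &&
     allF (fun b =>
        anyF (fun e => inE e && !(all24 (fun x =>
          Nat.beq (imgF T (imgF (sd.tb b) (imgF (sd.tb e) x)))
            (imgF (sd.tb e) (imgF T (imgF (sd.tb b) x)))))) 128 ||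
        anyF (fun e' => inE e' &&
          all24 (fun x => Nat.beq (imgF T (imgF (sd.tb b) x)) (imgF (sd.tb e') x))) 128) 128)

/-- all cosets -/
def cOK : Bool := allF cChk 3465

set_option maxRecDepth 100000 in
theorem flag_ok : flagOK = true := by decide +kernel

set_option maxRecDepth 100000 in
theorem tree_ok : treeOK = true := by decide +kernel

set_option maxRecDepth 100000 in
theorem keysInc_ok : keysIncOK = true := by decide +kernel

set_option maxRecDepth 100000 in
theorem idx_ok : idxOK = true := by decide +kernel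

set_option maxRecDepth 100000 in
theorem cert_ok : certOK = true := by decide +kernel

set_option maxRecDepth 100000 in
theorem labs_ok : labsOK = true := by decide +kernel

set_option maxRecDepth 100000 in
theorem par_ok : parOK = true := by decide +kernel

set_option maxRecDepth 100000 in
theorem inv_ok : invOK = true := by decide +kernel

set_option maxRecDepth 100000 in
theorem e_ok : eOK = true := by decide +kernel

set_option maxRecDepth 100000 in
theorem c_ok : cOK = true := by decide +kernel

end Cfsg.Agent.Lib.Helper61_M22BlkChk
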