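import Mathlib
import Cfsg.Agent.Lib.Helper27_FusM22
import Cfsg.Agent.Lib.Helper61_M22BlkChk
import Cfsg.Agent.Lib.Helper61_DCoset

/-!
Group-theoretic facts about `M22` from the checked data (helper61): a Sylow 2-subgroup with a
transversal, the regular double cosets and the parity of the class counts on them, the conjugacy of
the involutions, and the normal subgroup of order 16 of the centraliser of an involution.
-/

set_option autoImplicit false
open Cfsg
open Cfsg.Agent.Lib.Helper26_Golay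
open Cfsg.Agent.Lib.Helper27_K0Affine
open Cfsg.Agent.Lib.Helper27_EnumGroup
open Cfsg.Agent.Lib.Helper27_FusionSimple
open Cfsg.Agent.Lib.Helper27_OutM22
open Cfsg.Agent.Lib.Helper27_FusM22
open Cfsg.Agent.Lib.Helper61_M22BlkData
open Cfsg.Agent.Lib.Helper61_M22BlkChk
open Cfsg.Agent.Lib.Helper61_DCoset

namespace Cfsg.Agent.Lib.Helper61_M22Blk

/-- the group -/
abbrev Gm : Type := ↥Spor.M22

noncomputable instance instFintypeGm : Fintype Gm := Fintype.ofFinite Gm

/-! ### Elements given by tables -/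

/-- the table describes an element of the group -/
def InM (T : ℕ) : Prop := ∃ σ ∈ Spor.M22, Represents σ T

open Classical in
/-- the element of the group with the given table -/
noncomputable def el (T : ℕ) : Gm :=
  if h : InM T then ⟨h.choose, h.choose_spec.1⟩ else 1

/-- the point map describes the element -/
def R (g : Gm) (f : ℕ → ℕ) : Prop := RepF (g : Equiv.Perm GolayPt) f

theorem el_rep {T : ℕ} (h : InM T) : R (el T) (imgF T) := by
  unfold el
  rw [dif_pos h]
  exact h.choose_spec.2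

theorem R_one : R 1 (fun x => x) := repF_one

theorem R_mul {g h : Gm} {f k : ℕ → ℕ} (hg : R g f) (hh : R h k) :
    R (g * h) (fun x => f (k x)) := repF_mul hg hh

theorem R_congr {g : Gm} {f k : ℕ → ℕ} (hg : R g f) (e : ∀ x < 24, f x = k x) : R g k :=
  repF_congr hg e

theorem R_ext {g h : Gm} {f k : ℕ → ℕ} (hg : R g f) (hh : R h k) (e : ∀ x < 24, f x = k x) :
    g = h := Subtype.ext (eq_of_repF hg hh e)

theorem R_apply {g h : Gm} {f k : ℕ → ℕ} (hg : R g f) (hh : R h k) (e : g = h) :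
    ∀ x < 24, f x = k x := repF_apply_eq hg hh (congrArg Subtype.val e)

theorem R_lt {g : Gm} {f : ℕ → ℕ} (hg : R g f) : ∀ x < 24, f x < 24 := repF_lt hg

theorem inM_of_R {g : Gm} {T : ℕ} (h : R g (imgF T)) : InM T := ⟨g.1, g.2, h⟩

theorem el_eq {g : Gm} {T : ℕ} (h : R g (imgF T)) : el T = g :=
  R_ext (el_rep (inM_of_R h)) h (fun _ _ => rfl)

theorem beq_all {f k : ℕ → ℕ} (h : all24 (fun x => Nat.beq (f x) (k x)) = true) :
    ∀ x < 24, f x = k x := by
  rw [all24_eq_true] at h
  exact fun x hx => Nat.eq_of_beq_eq_true (h x hx)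

theorem all_beq {f k : ℕ → ℕ} (h : ∀ x < 24, f x = k x) :
    all24 (fun x => Nat.beq (f x) (k x)) = true := by
  rw [all24_eq_true]
  intro x hx
  rw [h x hx]
  exact Nat.beq_refl _

/-! ### The Sylow subgroup -/

theorem inM_tb {a : ℕ} (ha : a < 128) : InM (sd.tb a) :=
  exists_of_inG ((base_facts base_ok).2.2.2.2.2.1 a ha)

/-- the elements of the Sylow subgroup -/
noncomputable def sA (a : ℕ) : Gm := el (sd.tb a)

theorem sA_rep {a : ℕ} (ha : a < 128) : R (sA a) (imgF (sd.tb a)) := el_rep (inM_tb ha)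

theorem mulI_lt {a b : ℕ} (ha : a < 128) (hb : b < 128) : sd.mulI a b < 128 :=
  ((base_facts base_ok).2.2.2.2.2.2.1 a ha b hb).1

theorem invI_lt {a : ℕ} (ha : a < 128) : sd.invI a < 128 :=
  ((base_facts base_ok).2.2.2.2.2.2.2 a ha).1

theorem sA_mul {a b : ℕ} (ha : a < 128) (hb : b < 128) : sA a * sA b = sA (sd.mulI a b) :=
  R_ext (R_mul (sA_rep ha) (sA_rep hb)) (sA_rep (mulI_lt ha hb))
    (fun x hx => (((base_facts base_ok).2.2.2.2.2.2.1 a ha b hb).2 x hx).symm)

theorem sA_one : sA 127 = 1 :=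
  R_ext (sA_rep (by norm_num)) R_one ((base_facts base_ok).2.2.2.2.1)

theorem sA_inv {a : ℕ} (ha : a < 128) : (sA a)⁻¹ = sA (sd.invI a) := by
  symm
  apply eq_inv_of_mul_eq_one_right
  exact R_ext (R_mul (sA_rep ha) (sA_rep (invI_lt ha))) R_one
    (((base_facts base_ok).2.2.2.2.2.2.2 a ha).2)

theorem sA_inj {a b : ℕ} (ha : a < 128) (hb : b < 128) (h : sA a = sA b) : a = b :=
  tb_inj base_ok ha hb (R_apply (sA_rep ha) (sA_rep hb) h)

/-- the Sylow subgroup -/
noncomputable def S : Subgroup Gm where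
  carrier := {g | ∃ a < 128, g = sA a}
  one_mem' := ⟨127, by norm_num, sA_one.symm⟩
  mul_mem' := by
    rintro _ _ ⟨a, ha, rfl⟩ ⟨b, hb, rfl⟩
    exact ⟨_, mulI_lt ha hb, sA_mul ha hb⟩
  inv_mem' := by
    rintro _ ⟨a, ha, rfl⟩
    exact ⟨_, invI_lt ha, sA_inv ha⟩

theorem mem_S {g : Gm} : g ∈ S ↔ ∃ a < 128, g = sA a := Iff.rfl

theorem sA_mem {a : ℕ} (ha : a < 128) : sA a ∈ S := ⟨a, ha, rfl⟩

theorem card_S : Nat.card S = 128 := by
  have hbij : Function.Bijective (fun a : Fin 128 => (⟨sA a, sA_mem a.2⟩ : S)) := by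
    constructor
    · intro a b h
      exact Fin.ext (sA_inj a.2 b.2 (congrArg Subtype.val h))
    · rintro ⟨g, a, ha, rfl⟩
      exact ⟨⟨a, ha⟩, rfl⟩
  rw [← Nat.card_congr (Equiv.ofBijective _ hbij), Nat.card_eq_fintype_card, Fintype.card_fin]

theorem card_Gm : Nat.card Gm = 443520 := card_M22

theorem fact_two : (Nat.card Gm).factorization 2 = 7 := by
  have h : (443520 : ℕ) = 2 ^ 7 * 3465 := by norm_num
  rw [card_Gm, h, Nat.factorization_mul (by norm_num) (by norm_num),
    Nat.Prime.factorization_pow Nat.prime_two]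
  simp [Nat.factorization_eq_zero_of_not_dvd (show ¬ 2 ∣ 3465 by norm_num)]

instance : Fact (Nat.Prime 2) := ⟨Nat.prime_two⟩

/-- the Sylow subgroup, as a Sylow subgroup -/
noncomputable def Syl : Sylow 2 Gm := Sylow.ofCard S (by rw [card_S, fact_two]; norm_num)

theorem coe_Syl : (Syl : Subgroup Gm) = S := rfl

/-! ### The transversal -/

theorem inM_gen : InM TA ∧ InM TB := ⟨exists_of_inG gens_in.1, exists_of_inG gens_in.2.1⟩

theorem inM_tr : ∀ i < 3465, InM (tr i) := by
  have h := tree_ok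
  unfold treeOK at h
  rw [allF_eq_true] at h
  have key : ∀ d, ∀ i < 3465, depOf (cAt i) = d → InM (tr i) := by
    intro d
    induction d using Nat.strong_induction_on with
    | _ d ih =>
      intro i hi hd
      have h1 := h i hi
      unfold treeChk at h1
      simp only [forceN_eq] at h1
      by_cases h0 : Nat.beq (depOf (cAt i)) 0 = true
      · rw [h0, cond_true] at h1
        exact inM_of_R (g := 1) (R_congr R_one (fun x hx => (beq_all h1 x hx).symm))
      · rw [Bool.not_eq_true] at h0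
        rw [h0, cond_false, Bool.and_eq_true, Bool.and_eq_true, blt_iff, blt_iff] at h1
        obtain ⟨hp, hdep, hall⟩ := h1
        have hP := ih _ (hd ▸ hdep) _ hp rfl
        have hA : InM (cond (Nat.beq (genOf (cAt i)) 0) TA TB) := by
          cases Nat.beq (genOf (cAt i)) 0
          · exact inM_gen.2
          · exact inM_gen.1
        exact inM_of_R (g := el _ * el _) (R_congr (R_mul (el_rep hA) (el_rep hP))
          (fun x hx => (beq_all hall x hx).symm))
  exact fun i hi => key _ i hi rfl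

/-- the elements of the transversal -/
noncomputable def tI (i : ℕ) : Gm := el (tr i)

theorem tI_rep {i : ℕ} (hi : i < 3465) : R (tI i) (imgF (tr i)) := el_rep (inM_tr i hi)

/-- the key of an element of the group -/
noncomputable def keyG (g : Gm) : ℕ := keyF (fun x => idx ((g : Equiv.Perm GolayPt) (pt x)))

theorem keyF_congr {f k : ℕ → ℕ} (h : ∀ x < 24, f x = k x) : keyF f = keyF k := by
  unfold keyF
  rw [h 2 (by norm_num), h 3 (by norm_num), h 4 (by norm_num), h 8 (by norm_num),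
    h 9 (by norm_num), h 21 (by norm_num)]

theorem R_canon (g : Gm) : R g (fun x => idx ((g : Equiv.Perm GolayPt) (pt x))) := by
  intro p
  show idx _ = idx ((g : Equiv.Perm GolayPt) (pt (idx p)))
  rw [pt_idx]

theorem keyG_eq {g : Gm} {f : ℕ → ℕ} (h : R g f) : keyG g = keyF f :=
  keyF_congr (R_apply (R_canon g) h rfl)

theorem keyF_flag {f : ℕ → ℕ} {T : ℕ} (h : flagChk T = true) :
    keyF (fun x => f (imgF T x)) = keyF f := by
  unfold flagChk at h
  simp only [Bool.and_eq_true, Bool.or_eq_true] at h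
  unfold keyF
  simp only [Nat.add_eq, Nat.mul_eq, Nat.pow_eq]
  obtain ⟨h34, h2⟩ := h
  rcases h34 with ⟨e3, e4⟩ | ⟨e3, e4⟩ <;>
  rcases h2 with ⟨⟨e2, e21⟩ | ⟨e2, e21⟩, ⟨e8, e9⟩ | ⟨e8, e9⟩⟩ |
    ⟨⟨e2, e21⟩ | ⟨e2, e21⟩, ⟨e8, e9⟩ | ⟨e8, e9⟩⟩ <;>
  (rw [Nat.eq_of_beq_eq_true e3, Nat.eq_of_beq_eq_true e4, Nat.eq_of_beq_eq_true e2,
    Nat.eq_of_beq_eq_true e21, Nat.eq_of_beq_eq_true e8, Nat.eq_of_beq_eq_true e9]; try ring)

theorem flag_tb {a : ℕ} (ha : a < 128) : flagChk (sd.tb a) = true := by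
  have h := flag_ok
  unfold flagOK at h
  rw [allF_eq_true] at h
  exact h a ha

theorem keyG_mul_sA (g : Gm) {a : ℕ} (ha : a < 128) : keyG (g * sA a) = keyG g := by
  rw [keyG_eq (R_mul (R_canon g) (sA_rep ha)), keyG]
  exact keyF_flag (f := fun x => idx ((g : Equiv.Perm GolayPt) (pt x))) (flag_tb ha)

theorem key_lt {i j : ℕ} (hij : i < j) (hj : j < 3465) :
    keyF (imgF (tr i)) < keyF (imgF (tr j)) := by
  have h := keysInc_ok
  unfold keysIncOK at h
  rw [allF_eq_true] at h
  induction j with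
  | zero => omega
  | succ j ih =>
    have hstep : keyF (imgF (tr j)) < keyF (imgF (tr (j + 1))) := (blt_iff _ _).1 (h j (by omega))
    rcases Nat.lt_succ_iff_lt_or_eq.1 hij with h' | h'
    · exact (ih h' (by omega)).trans hstep
    · rw [h']; exact hstep

theorem key_inj {i j : ℕ} (hi : i < 3465) (hj : j < 3465)
    (h : keyF (imgF (tr i)) = keyF (imgF (tr j))) : i = j := by
  by_contra hne
  rcases Nat.lt_or_gt_of_ne hne with h' | h'
  · exact absurd h (ne_of_lt (key_lt h' hj))
  · exact absurd h.symm (ne_of_lt (key_lt h' hi))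

theorem exists_decomp (g : Gm) : ∃ i < 3465, ∃ a < 128, g = tI i * sA a := by
  classical
  let Φ : Fin 3465 × Fin 128 → Gm := fun q => tI q.1 * sA q.2
  have hinj : Function.Injective Φ := by
    rintro ⟨i, a⟩ ⟨j, b⟩ h
    have h' : tI i * sA a = tI j * sA b := h
    have hk : keyG (tI i) = keyG (tI j) := by
      rw [← keyG_mul_sA (tI i) a.2, ← keyG_mul_sA (tI j) b.2, h']
    rw [keyG_eq (tI_rep i.2), keyG_eq (tI_rep j.2)] at hk
    have hij : (i : ℕ) = j := key_inj i.2 j.2 hk
    have hij' : i = j := Fin.ext hij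
    subst hij'
    have hab : sA a = sA b := mul_left_cancel h'
    have : a = b := Fin.ext (sA_inj a.2 b.2 hab)
    rw [this]
  have hcard : Fintype.card (Fin 3465 × Fin 128) = Fintype.card Gm := by
    rw [← Nat.card_eq_fintype_card (α := Gm), card_Gm]
    simp
  have hsurj := ((Fintype.bijective_iff_injective_and_card Φ).2 ⟨hinj, hcard⟩).2
  obtain ⟨⟨i, a⟩, h⟩ := hsurj g
  exact ⟨i, i.2, a, a.2, h.symm⟩

/-! ### The regular double cosets -/

theorem gkI_lt {k : ℕ} (hk : k < 17) : gkI k < 3465 := by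
  have h := idx_ok
  unfold idxOK at h
  rw [Bool.and_eq_true, allF_eq_true, allF_eq_true] at h
  exact (blt_iff _ _).1 (h.1 k hk)

theorem xjI_lt {j : ℕ} (hj : j < 5) : xjI j < 3465 := by
  have h := idx_ok
  unfold idxOK at h
  rw [Bool.and_eq_true, allF_eq_true, allF_eq_true] at h
  exact (blt_iff _ _).1 (h.2 j hj)

/-- the representatives of the regular double cosets -/
noncomputable def gK (k : ℕ) : Gm := tI (gkI k)

/-- the class representatives -/
noncomputable def xJ (j : ℕ) : Gm := tI (xjI j)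

theorem f_lt (n : ℕ) : Nat.land n 127 < 128 := Nat.lt_succ_of_le Nat.and_le_right

theorem cert_sound {i : ℕ} (hi : i < 3465) :
    (∃ u < 128, ∃ v < 128, u ≠ 127 ∧ sA u * tI i = tI i * sA v) ∨
    (∃ k < 17, ∃ a < 128, ∃ b < 128, tI i = sA a * gK k * sA b) := by
  have h := cert_ok
  unfold certOK at h
  rw [allF_eq_true] at h
  have h1 := h i hi
  unfold certChk at h1
  simp only [forceN_eq] at h1
  have hu : f1Of (cAt i) < 128 := f_lt _
  have hv : f2Of (cAt i) < 128 := f_lt _
  have hb : f3Of (cAt i) < 128 := f_lt _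
  cases hk : Nat.beq (kindOf (cAt i)) 0
  · rw [hk, cond_false, Bool.and_eq_true, blt_iff] at h1
    right
    refine ⟨_, h1.1, _, hv, _, hb, ?_⟩
    exact R_ext (tI_rep hi) (R_mul (R_mul (sA_rep hv) (tI_rep (gkI_lt h1.1))) (sA_rep hb))
      (beq_all h1.2)
  · rw [hk, cond_true, Bool.and_eq_true] at h1
    left
    refine ⟨_, hu, _, hv, ?_, ?_⟩
    · intro e
      rw [e] at h1
      simp at h1
    · exact R_ext (R_mul (sA_rep hu) (tI_rep hi)) (R_mul (tI_rep hi) (sA_rep hv)) (beq_all h1.2)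

theorem reg (g : Gm) (hg : tw S g = ⊥) : ∃ k < 17, ∃ a ∈ S, ∃ b ∈ S, g = a * gK k * b := by
  obtain ⟨i, hi, c, hc, rfl⟩ := exists_decomp g
  rcases cert_sound hi with ⟨u, hu, v, hv, hne, e⟩ | ⟨k, hk, a, ha, b, hb, e⟩
  · exfalso
    have hmem : sA u ∈ tw S (tI i * sA c) := by
      rw [mem_tw]
      refine ⟨sA_mem hu, ?_⟩
      have : (tI i * sA c)⁻¹ * sA u * (tI i * sA c) = (sA c)⁻¹ * sA v * sA c := by
        calc (tI i * sA c)⁻¹ * sA u * (tI i * sA c)
            = (sA c)⁻¹ * (tI i)⁻¹ * (sA u * tI i) * sA c := by group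
          _ = (sA c)⁻¹ * (tI i)⁻¹ * (tI i * sA v) * sA c := by rw [e]
          _ = _ := by group
      rw [this]
      exact S.mul_mem (S.mul_mem (S.inv_mem (sA_mem hc)) (sA_mem hv)) (sA_mem hc)
    rw [hg, Subgroup.mem_bot] at hmem
    exact hne (sA_inj hu (by norm_num) (hmem.trans sA_one.symm))
  · refine ⟨k, hk, sA a, sA_mem ha, sA b * sA c, S.mul_mem (sA_mem hb) (sA_mem hc), ?_⟩
    rw [e]
    group

/-! ### The labels -/

theorem lab_sound {k a : ℕ} (hk : k < 17) (ha : a < 128) :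
    (labAt k a < 5 ∧ IsConj (sA a * gK k) (xJ (labAt k a))) ∨
    (¬ labAt k a < 5 ∧ ∃ c : Gm, c ≠ 1 ∧ c * c = 1 ∧ c * (sA a * gK k) = sA a * gK k * c) := by
  have h := labs_ok
  unfold labsOK at h
  rw [allF_eq_true] at h
  have h1 := h k hk
  rw [allF_eq_true] at h1
  have h2 := h1 a ha
  unfold labChk at h2
  simp only [forceN_eq] at h2
  rw [Bool.and_eq_true, blt_iff] at h2
  obtain ⟨hi, h3⟩ := h2
  have hb : Nat.land (Nat.shiftRight (labE k a) 16) 127 < 128 := f_lt _
  set i := Nat.land (Nat.shiftRight (labE k a) 4) 4095 with hidef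
  set b := Nat.land (Nat.shiftRight (labE k a) 16) 127 with hbdef
  have hl : Nat.land (labE k a) 15 = labAt k a := rfl
  rw [hl] at h3
  have hW : R (tI i * sA b) (fun x => imgF (tr i) (imgF (sd.tb b) x)) :=
    R_mul (tI_rep hi) (sA_rep hb)
  have hy : R (sA a * gK k) (fun x => imgF (sd.tb a) (imgF (tr (gkI k)) x)) :=
    R_mul (sA_rep ha) (tI_rep (gkI_lt hk))
  cases hlt : Nat.blt (labAt k a) 5
  · rw [hlt, cond_false, Bool.and_eq_true, Bool.and_eq_true] at h3
    obtain ⟨e1, e2, e3⟩ := h3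
    right
    refine ⟨fun hh => ?_, tI i * sA b, ?_, ?_, ?_⟩
    · rw [← blt_iff, hlt] at hh
      exact Bool.false_ne_true hh
    · intro e
      have := R_apply hW R_one e
      rw [all_beq this] at e2
      exact Bool.false_ne_true e2
    · exact R_ext (R_mul hW hW) R_one (beq_all e1)
    · exact R_ext (R_mul hW hy) (R_mul hy hW) (beq_all e3)
  · rw [hlt, cond_true] at h3
    have hl5 : labAt k a < 5 := (blt_iff _ _).1 hlt
    left
    refine ⟨hl5, ?_⟩
    have e : (tI i * sA b) * (sA a * gK k) = xJ (labAt k a) * (tI i * sA b) :=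
      R_ext (R_mul hW hy) (R_mul (tI_rep (xjI_lt hl5)) hW) (beq_all h3)
    rw [isConj_iff]
    refine ⟨tI i * sA b, ?_⟩
    rw [e]
    group

theorem countF_eq (f : ℕ → Bool) (n : ℕ) :
    countF f n = ((Finset.range n).filter (fun a => f a = true)).card := by
  induction n with
  | zero => rfl
  | succ n ih =>
    have : countF f (n + 1) = cond (f n) (Nat.succ (countF f n)) (countF f n) := rfl
    rw [this, Finset.range_add_one, Finset.filter_insert, ih]
    cases hf : f n
    · simp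
    · simp

theorem two_dvd_card_centralizer_of_conj {G : Type*} [Group G] [Finite G] {x y c : G}
    (h : IsConj x y) (hc1 : c ≠ 1) (hc2 : c * c = 1) (hc3 : c * y = y * c) :
    2 ∣ Nat.card (Subgroup.centralizer ({x} : Set G)) := by
  obtain ⟨d, hd⟩ := isConj_iff.1 h
  have hmem : d⁻¹ * c * d ∈ Subgroup.centralizer ({x} : Set G) := by
    rw [Subgroup.mem_centralizer_iff]
    intro z hz
    rw [Set.mem_singleton_iff] at hz
    subst hz
    have hx : z = d⁻¹ * y * d := by rw [← hd]; group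
    rw [hx]
    calc d⁻¹ * y * d * (d⁻¹ * c * d) = d⁻¹ * (y * c) * d := by group
      _ = d⁻¹ * (c * y) * d := by rw [hc3]
      _ = _ := by group
  have ho : orderOf (⟨d⁻¹ * c * d, hmem⟩ : Subgroup.centralizer ({x} : Set G)) = 2 := by
    apply orderOf_eq_prime
    · apply Subtype.ext
      show (d⁻¹ * c * d) ^ 2 = 1
      rw [pow_two]
      calc d⁻¹ * c * d * (d⁻¹ * c * d) = d⁻¹ * (c * c) * d := by group
        _ = 1 := by rw [hc2]; group
    · intro e
      apply hc1
      have e' : d⁻¹ * c * d = 1 := congrArg Subtype.val e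
      calc c = d * (d⁻¹ * c * d) * d⁻¹ := by group
        _ = 1 := by rw [e']; group
  rw [← ho]
  exact orderOf_dvd_natCard _

open Classical in
theorem cnt_eq (x g : Gm) :
    cnt S x g = ((Finset.range 128).filter (fun a => IsConj x (sA a * g))).card := by
  have hbij : Function.Bijective
      (fun a : {a // a ∈ (Finset.range 128).filter (fun a => IsConj x (sA a * g))} =>
        (⟨⟨sA a.1, sA_mem (Finset.mem_range.1 (Finset.mem_filter.1 a.2).1)⟩,
          (Finset.mem_filter.1 a.2).2⟩ : {s : S // IsConj x ((s : Gm) * g)})) := by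
    constructor
    · rintro ⟨a, ha⟩ ⟨b, hb⟩ h
      apply Subtype.ext
      have h' : sA a = sA b := congrArg (fun q => ((q.1 : S) : Gm)) h
      exact sA_inj (Finset.mem_range.1 (Finset.mem_filter.1 ha).1)
        (Finset.mem_range.1 (Finset.mem_filter.1 hb).1) h'
    · rintro ⟨⟨s, a, ha, rfl⟩, hs⟩
      exact ⟨⟨a, Finset.mem_filter.2 ⟨Finset.mem_range.2 ha, hs⟩⟩, rfl⟩
  unfold cnt
  rw [← Nat.card_congr (Equiv.ofBijective _ hbij), Nat.card_eq_fintype_card, Fintype.card_coe]

theorem cnt_even {k : ℕ} (hk : k < 17) (x : Gm)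
    (hx : ¬ 2 ∣ Nat.card (Subgroup.centralizer ({x} : Set Gm))) : 2 ∣ cnt S x (gK k) := by
  classical
  rw [cnt_eq]
  set J := (Finset.range 5).filter (fun j => IsConj x (xJ j)) with hJ
  have hiff : ∀ a ∈ Finset.range 128, (IsConj x (sA a * gK k) ↔ labAt k a ∈ J) := by
    intro a ha
    rw [Finset.mem_range] at ha
    rcases lab_sound hk ha with ⟨hl, hconj⟩ | ⟨hl, c, hc1, hc2, hc3⟩
    · rw [hJ, Finset.mem_filter, Finset.mem_range]
      constructor
      · intro h
        exact ⟨hl, h.trans hconj⟩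
      · intro h
        exact h.2.trans hconj.symm
    · constructor
      · intro h
        exact absurd (two_dvd_card_centralizer_of_conj h hc1 hc2 hc3) hx
      · intro h
        rw [hJ, Finset.mem_filter, Finset.mem_range] at h
        exact absurd h.1 hl
  rw [Finset.filter_congr hiff]
  have hfib := Finset.card_eq_sum_card_fiberwise (f := fun a => labAt k a)
    (s := (Finset.range 128).filter (fun a => labAt k a ∈ J)) (t := J)
    (fun a ha => (Finset.mem_filter.1 ha).2)
  rw [hfib]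
  apply Finset.dvd_sum
  intro j hj
  have hj5 : j < 5 := Finset.mem_range.1 (Finset.mem_filter.1 hj).1
  have hp := par_ok
  unfold parOK at hp
  rw [allF_eq_true] at hp
  have hp1 := hp k hk
  rw [allF_eq_true] at hp1
  have hp2 := Nat.eq_of_beq_eq_true (hp1 j hj5)
  rw [countF_eq] at hp2
  have hset : ((Finset.range 128).filter (fun a => labAt k a ∈ J)).filter
      (fun a => labAt k a = j) =
      (Finset.range 128).filter (fun a => Nat.beq (labAt k a) j = true) := by
    ext a
    simp only [Finset.mem_filter, Finset.mem_range]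
    constructor
    · rintro ⟨⟨h1, -⟩, h3⟩
      exact ⟨h1, by rw [h3]; exact Nat.beq_refl _⟩
    · rintro ⟨h1, h2⟩
      have := Nat.eq_of_beq_eq_true h2
      exact ⟨⟨h1, by rw [this]; exact hj⟩, this⟩
  rw [hset]
  exact Nat.dvd_of_mod_eq_zero hp2

/-! ### The involutions -/

theorem inv_sound {a : ℕ} (ha : a < 128) (hne : a ≠ 127) (hsq : sA a * sA a = 1) :
    IsConj (sA a) (sA 70) := by
  have h := inv_ok
  unfold invOK at h
  rw [allF_eq_true] at h
  have h1 := h a ha
  unfold invChk at h1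
  simp only [forceN_eq] at h1
  rw [Bool.or_eq_true, Bool.or_eq_true] at h1
  rcases h1 with h1 | h1 | h1
  · exact absurd (Nat.eq_of_beq_eq_true h1) hne
  · exfalso
    have := R_apply (R_mul (sA_rep ha) (sA_rep ha)) R_one hsq
    rw [all_beq this] at h1
    exact Bool.false_ne_true h1
  · rw [Bool.and_eq_true, blt_iff] at h1
    obtain ⟨hi, h2⟩ := h1
    have hb : Nat.land (Nat.shiftRight (invE a) 12) 127 < 128 := f_lt _
    set i := Nat.land (invE a) 4095
    set b := Nat.land (Nat.shiftRight (invE a) 12) 127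
    have hW : R (tI i * sA b) (fun x => imgF (tr i) (imgF (sd.tb b) x)) :=
      R_mul (tI_rep hi) (sA_rep hb)
    have e : (tI i * sA b) * sA a = sA 70 * (tI i * sA b) :=
      R_ext (R_mul hW (sA_rep ha)) (R_mul (sA_rep (by norm_num)) hW) (beq_all h2)
    rw [isConj_iff]
    refine ⟨tI i * sA b, ?_⟩
    rw [e]
    group

theorem exists_conj_mem_sylow {G : Type*} [Group G] [Finite G] (p : ℕ) [Fact p.Prime]
    (P : Sylow p G) (t : G) (ht : orderOf t = p) : ∃ c : G, c * t * c⁻¹ ∈ (P : Subgroup G) := by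
  have hpg : IsPGroup p (Subgroup.zpowers t) := by
    apply IsPGroup.of_card (n := 1)
    rw [Nat.card_zpowers, ht, pow_one]
  obtain ⟨Q, hQ⟩ := hpg.exists_le_sylow
  obtain ⟨g, hg⟩ := MulAction.exists_smul_eq G Q P
  refine ⟨g, ?_⟩
  rw [← hg, Sylow.coe_subgroup_smul]
  have : g * t * g⁻¹ = MulAut.conj g • t := by
    rw [MulAut.smul_def, MulAut.conj_apply]
  rw [this]
  exact Subgroup.smul_mem_pointwise_smul _ _ _ (hQ (Subgroup.mem_zpowers t))

theorem invol_conj (t : Gm) (ht : orderOf t = 2) : IsConj t (sA 70) := by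
  obtain ⟨c, hc⟩ := exists_conj_mem_sylow 2 Syl t ht
  rw [coe_Syl] at hc
  obtain ⟨a, ha, e⟩ := hc
  have ht2 : t * t = 1 := by
    rw [← pow_two, ← ht]
    exact pow_orderOf_eq_one t
  have ht1 : t ≠ 1 := by
    intro h
    rw [h, orderOf_one] at ht
    norm_num at ht
  have hsq : sA a * sA a = 1 := by
    rw [← e]
    calc c * t * c⁻¹ * (c * t * c⁻¹) = c * (t * t) * c⁻¹ := by group
      _ = 1 := by rw [ht2]; group
  have hne : a ≠ 127 := by
    intro h
    apply ht1
    rw [h, sA_one] at e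
    calc t = c⁻¹ * (c * t * c⁻¹) * c := by group
      _ = 1 := by rw [e]; group
  have h1 : IsConj t (sA a) := isConj_iff.2 ⟨c, e⟩
  exact h1.trans (inv_sound ha hne hsq)

/-! ### The normal subgroup of order 16 of the centraliser of the central involution -/

theorem inE_facts : inE 127 = true ∧ inE 70 = true ∧
    (∀ i < 128, ∀ j < 128, inE i = true → inE j = true → inE (sd.mulI i j) = true) ∧
    (∀ i < 128, inE i = true → inE (sd.invI i) = true) ∧
    (∀ b < 128, ∀ e < 128, inE e = true →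
      inE (sd.mulI (sd.mulI b e) (sd.invI b)) = true) := by
  have h := e_ok
  unfold eOK at h
  simp only [Bool.and_eq_true, allF_eq_true, Bool.or_eq_true, Bool.not_eq_true'] at h
  obtain ⟨h1, h2, h3, h4, h5⟩ := h
  refine ⟨h1, h2, ?_, ?_, ?_⟩
  · intro i hi j hj ei ej
    rcases h3 i hi j hj with e | e | e
    · rw [ei] at e; exact absurd e (by simp)
    · rw [ej] at e; exact absurd e (by simp)
    · exact e
  · intro i hi ei
    rcases h4 i hi with e | e
    · rw [ei] at e; exact absurd e (by simp)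
    · exact e
  · intro b hb e he ee
    rcases h5 b hb e he with e' | e'
    · rw [ee] at e'; exact absurd e' (by simp)
    · exact e'

/-- the normal subgroup of order 16 -/
noncomputable def E : Subgroup Gm where
  carrier := {g | ∃ e < 128, inE e = true ∧ g = sA e}
  one_mem' := ⟨127, by norm_num, inE_facts.1, sA_one.symm⟩
  mul_mem' := by
    rintro _ _ ⟨a, ha, ea, rfl⟩ ⟨b, hb, eb, rfl⟩
    exact ⟨_, mulI_lt ha hb, inE_facts.2.2.1 a ha b hb ea eb, sA_mul ha hb⟩
  inv_mem' := by
    rintro _ ⟨a, ha, ea, rfl⟩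
    exact ⟨_, invI_lt ha, inE_facts.2.2.2.1 a ha ea, sA_inv ha⟩

theorem mem_E {g : Gm} : g ∈ E ↔ ∃ e < 128, inE e = true ∧ g = sA e := Iff.rfl

theorem E_le_S : E ≤ S := by
  rintro _ ⟨e, he, -, rfl⟩
  exact sA_mem he

theorem t0_mem_E : sA 70 ∈ E := ⟨70, by norm_num, inE_facts.2.1, rfl⟩

theorem central70 {a : ℕ} (ha : a < 128) : sA a * sA 70 = sA 70 * sA a := by
  have h := center_ok
  unfold centerOK at h
  rw [Bool.and_eq_true, Bool.and_eq_true, allF_eq_true] at h
  have h1 : sd.mulI 70 a = sd.mulI a 70 := Nat.eq_of_beq_eq_true (h.2.1 a ha)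
  rw [sA_mul ha (by norm_num), sA_mul (by norm_num) ha, h1]

theorem E_conj_S {b e : ℕ} (hb : b < 128) (he : e < 128) (hE : inE e = true) :
    sA b * sA e * (sA b)⁻¹ ∈ E := by
  rw [sA_inv hb, sA_mul hb he, sA_mul (mulI_lt hb he) (invI_lt hb)]
  exact ⟨_, mulI_lt (mulI_lt hb he) (invI_lt hb), inE_facts.2.2.2.2 b hb e he hE, rfl⟩

theorem c_sound {i : ℕ} (hi : i < 3465) (hcomm : tI i * sA 70 = sA 70 * tI i) :
    (∀ e < 128, inE e = true → ∃ e' < 128, inE e' = true ∧ tI i * sA e = sA e' * tI i) ∧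
    (∀ b < 128, (∀ e < 128, inE e = true → (tI i * sA b) * sA e = sA e * (tI i * sA b)) →
      ∃ e' < 128, inE e' = true ∧ tI i * sA b = sA e') := by
  have h := c_ok
  unfold cOK at h
  rw [allF_eq_true] at h
  have h1 := h i hi
  unfold cChk at h1
  simp only [forceN_eq] at h1
  rw [Bool.or_eq_true] at h1
  rcases h1 with h1 | h1
  · exfalso
    have := R_apply (R_mul (tI_rep hi) (sA_rep (by norm_num : 70 < 128)))
      (R_mul (sA_rep (by norm_num : 70 < 128)) (tI_rep hi)) hcomm
    rw [all_beq this] at h1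
    exact Bool.false_ne_true h1
  · rw [Bool.and_eq_true, allF_eq_true, allF_eq_true] at h1
    obtain ⟨h2, h3⟩ := h1
    constructor
    · intro e he hE
      have h4 := h2 e he
      rw [hE] at h4
      simp only [Bool.not_true, Bool.false_or, anyF_eq_true, Bool.and_eq_true] at h4
      obtain ⟨e', he', hE', h5⟩ := h4
      exact ⟨e', he', hE', R_ext (R_mul (tI_rep hi) (sA_rep he)) (R_mul (sA_rep he') (tI_rep hi))
        (beq_all h5)⟩
    · intro b hb hcen
      have h4 := h3 b hb
      rw [Bool.or_eq_true, anyF_eq_true, anyF_eq_true] at h4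
      rcases h4 with ⟨e, he, h5⟩ | ⟨e', he', h5⟩
      · exfalso
        rw [Bool.and_eq_true] at h5
        obtain ⟨hE, h6⟩ := h5
        have := R_apply (R_mul (R_mul (tI_rep hi) (sA_rep hb)) (sA_rep he))
          (R_mul (sA_rep he) (R_mul (tI_rep hi) (sA_rep hb))) (hcen e he hE)
        rw [all_beq this] at h6
        exact Bool.false_ne_true h6
      · rw [Bool.and_eq_true] at h5
        exact ⟨e', he', h5.1, R_ext (R_mul (tI_rep hi) (sA_rep hb)) (sA_rep he') (beq_all h5.2)⟩

theorem tI_comm_of {i c : ℕ} (hc : c < 128) (hg : (tI i * sA c) * sA 70 = sA 70 * (tI i * sA c)) :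
    tI i * sA 70 = sA 70 * tI i := by
  have h1 : tI i * sA 70 * sA c = sA 70 * tI i * sA c := by
    calc tI i * sA 70 * sA c = tI i * (sA 70 * sA c) := by group
      _ = tI i * (sA c * sA 70) := by rw [central70 hc]
      _ = (tI i * sA c) * sA 70 := by group
      _ = sA 70 * (tI i * sA c) := hg
      _ = _ := by group
  exact mul_right_cancel h1

theorem E_normal (g : Gm) (hg : g * sA 70 = sA 70 * g) (n : Gm) (hn : n ∈ E) :
    g * n * g⁻¹ ∈ E := by
  obtain ⟨i, hi, c, hc, rfl⟩ := exists_decomp g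
  obtain ⟨e, he, hE, rfl⟩ := hn
  have hcomm := tI_comm_of hc hg
  obtain ⟨e2, he2, hE2, h2⟩ := E_conj_S hc he hE
  obtain ⟨e', he', hE', h3⟩ := (c_sound hi hcomm).1 e2 he2 hE2
  refine ⟨e', he', hE', ?_⟩
  calc tI i * sA c * sA e * (tI i * sA c)⁻¹ = tI i * (sA c * sA e * (sA c)⁻¹) * (tI i)⁻¹ := by group
    _ = tI i * sA e2 * (tI i)⁻¹ := by rw [h2]
    _ = sA e' * tI i * (tI i)⁻¹ := by rw [h3]
    _ = sA e' := by group

theorem E_selfcent (g : Gm) (hg : g * sA 70 = sA 70 * g) (hcen : ∀ n ∈ E, g * n = n * g) :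
    g ∈ E := by
  obtain ⟨i, hi, c, hc, rfl⟩ := exists_decomp g
  have hcomm := tI_comm_of hc hg
  obtain ⟨e', he', hE', h⟩ := (c_sound hi hcomm).2 c hc
    (fun e he hE => hcen _ ⟨e, he, hE, rfl⟩)
  exact ⟨e', he', hE', h⟩

end Cfsg.Agent.Lib.Helper61_M22Blk
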