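import Mathlib
import Cfsg.Agent.Lib.Helper61_M24BlkData2a
import Cfsg.Agent.Lib.Helper61_M24BlkData2b
import Cfsg.Agent.Lib.Helper61_M24BlkData2c
import Cfsg.Agent.Lib.Helper61_M24BlkData2d
import Cfsg.Agent.Lib.Helper61_M24BlkData3a
import Cfsg.Agent.Lib.Helper61_M24BlkData3b

/-!
Data for the 2-blocks of `M24` (helper61): the lists of the blocks.
-/

namespace Cfsg.Agent.Lib.Helper61_M24BlkData

/-- the blocks of certificates -/
def certL : List ℕ := [cb0, cb1, cb2, cb3, cb4, cb5, cb6, cb7, cb8, cb9, cb10, cb11, cb12, cb13, cb14, cb15, cb16, cb17, cb18, cb19, cb20, cb21, cb22, cb23, cb24, cb25, cb26, cb27, cb28, cb29, cb30, cb31, cb32, cb33, cb34, cb35, cb36, cb37, cb38, cb39, cb40, cb41, cb42, cb43, cb44, cb45, cb46, cb47, cb48, cb49, cb50, cb51, cb52, cb53, cb54, cb55, cb56, cb57, cb58, cb59, cb60, cb61, cb62, cb63, cb64, cb65, cb66, cb67, cb68, cb69, cb70, cb71, cb72, cb73, cb74, cb75, cb76, cb77, cb78, cb79, cb80, cb81, cb82, cb83, cb84, cb85, cb86, cb87, cb88, cb89, cb90, cb91, cb92, cb93, cb94,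 cb95, cb96, cb97, cb98, cb99, cb100, cb101, cb102, cb103, cb104, cb105, cb106, cb107, cb108, cb109, cb110, cb111, cb112, cb113, cb114, cb115, cb116, cb117, cb118, cb119, cb120, cb121, cb122, cb123, cb124, cb125, cb126, cb127, cb128, cb129, cb130, cb131, cb132, cb133, cb134, cb135, cb136, cb137, cb138, cb139, cb140, cb141, cb142, cb143, cb144, cb145, cb146, cb147, cb148, cb149, cb150, cb151, cb152, cb153, cb154, cb155, cb156, cb157, cb158, cb159, cb160, cb161, cb162, cb163, cb164, cb165, cb166, cb167, cb168, cb169, cb170, cb171, cb172, cb173, cb174, cb175, cb176, cb177, cb178, cb179, cb180, cb181, cb182, cb183, cb184, cb185, cb186, cb187, cb188, cb189, cb190, cb191, cb192, cb193, cb194, cb195, cb196, cb197, cb198, cb199, cb200, cb201, cb202, cb203, cb204, cb205, cb206, cb207, cb208, cb209, cb210, cb211, cb212, cb213, cb214, cb215, cb216, cb217, cb218, cb219, cb220, cb221, cb222, cb223, cb224, cb225, cb226, cb227, cb228, cb229, cb230, cb231, cb232, cb233, cb234, cb235, cb236, cb237, cb238, cb239, cb240,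 cb241, cb242, cb243, cb244, cb245, cb246, cb247, cb248, cb249, cb250, cb251, cb252, cb253, cb254, cb255, cb256, cb257, cb258, cb259, cb260, cb261, cb262, cb263, cb264, cb265, cb266, cb267, cb268, cb269, cb270, cb271, cb272, cb273, cb274, cb275, cb276, cb277, cb278, cb279, cb280, cb281, cb282, cb283, cb284, cb285, cb286, cb287, cb288, cb289, cb290, cb291, cb292, cb293, cb294, cb295, cb296, cb297, cb298, cb299, cb300, cb301, cb302, cb303, cb304, cb305, cb306, cb307, cb308, cb309, cb310, cb311, cb312, cb313, cb314, cb315, cb316, cb317, cb318, cb319, cb320, cb321, cb322, cb323, cb324, cb325, cb326, cb327, cb328, cb329, cb330, cb331, cb332, cb333, cb334, cb335, cb336, cb337, cb338, cb339, cb340, cb341, cb342, cb343, cb344, cb345, cb346, cb347, cb348, cb349, cb350, cb351, cb352, cb353, cb354, cb355, cb356, cb357, cb358, cb359, cb360, cb361, cb362, cb363, cb364, cb365, cb366, cb367, cb368, cb369, cb370, cb371, cb372, cb373, cb374, cb375, cb376, cb377, cb378, cb379, cb380, cb381, cb382, cb383, cb384, cb385,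 cb386, cb387, cb388, cb389, cb390, cb391, cb392, cb393, cb394, cb395, cb396, cb397, cb398, cb399, cb400, cb401, cb402, cb403, cb404, cb405, cb406, cb407, cb408, cb409, cb410, cb411, cb412, cb413, cb414, cb415, cb416, cb417, cb418, cb419, cb420, cb421, cb422, cb423, cb424, cb425, cb426, cb427, cb428, cb429, cb430, cb431, cb432, cb433, cb434, cb435, cb436, cb437, cb438, cb439, cb440, cb441, cb442, cb443, cb444, cb445, cb446, cb447, cb448, cb449, cb450, cb451, cb452, cb453, cb454, cb455, cb456, cb457, cb458, cb459, cb460, cb461, cb462, cb463, cb464, cb465, cb466, cb467, cb468, cb469, cb470, cb471, cb472, cb473, cb474, cb475, cb476, cb477, cb478, cb479, cb480, cb481, cb482, cb483, cb484, cb485, cb486, cb487, cb488, cb489, cb490, cb491, cb492, cb493, cb494, cb495, cb496, cb497, cb498, cb499, cb500, cb501, cb502, cb503, cb504, cb505, cb506, cb507, cb508, cb509, cb510, cb511, cb512, cb513, cb514, cb515, cb516, cb517, cb518, cb519, cb520, cb521, cb522, cb523, cb524, cb525, cb526, cb527, cb528, cb529, cb530,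 cb531, cb532, cb533, cb534, cb535, cb536, cb537, cb538, cb539, cb540, cb541, cb542, cb543, cb544, cb545, cb546, cb547, cb548, cb549, cb550, cb551, cb552, cb553, cb554, cb555, cb556, cb557, cb558, cb559, cb560, cb561, cb562, cb563, cb564, cb565, cb566, cb567, cb568, cb569, cb570, cb571, cb572, cb573, cb574, cb575, cb576, cb577, cb578, cb579, cb580, cb581, cb582, cb583, cb584, cb585, cb586, cb587, cb588, cb589, cb590, cb591, cb592, cb593, cb594, cb595, cb596, cb597, cb598, cb599, cb600, cb601, cb602, cb603, cb604, cb605, cb606, cb607, cb608, cb609, cb610, cb611, cb612, cb613, cb614, cb615, cb616, cb617, cb618, cb619, cb620, cb621, cb622, cb623, cb624, cb625, cb626, cb627, cb628, cb629, cb630, cb631, cb632, cb633, cb634, cb635, cb636, cb637, cb638, cb639, cb640, cb641, cb642, cb643, cb644, cb645, cb646, cb647, cb648, cb649, cb650, cb651, cb652, cb653, cb654, cb655, cb656, cb657, cb658, cb659, cb660, cb661, cb662, cb663, cb664, cb665, cb666, cb667, cb668, cb669, cb670, cb671, cb672, cb673, cb674, cb675,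 cb676, cb677, cb678, cb679, cb680, cb681, cb682, cb683, cb684, cb685, cb686, cb687, cb688, cb689, cb690, cb691, cb692, cb693, cb694, cb695, cb696, cb697, cb698, cb699, cb700, cb701, cb702, cb703, cb704, cb705, cb706, cb707, cb708, cb709, cb710, cb711, cb712, cb713, cb714, cb715, cb716, cb717, cb718, cb719, cb720, cb721, cb722, cb723, cb724, cb725, cb726, cb727, cb728, cb729, cb730, cb731, cb732, cb733, cb734, cb735, cb736, cb737, cb738, cb739, cb740, cb741, cb742, cb743, cb744, cb745, cb746, cb747, cb748, cb749, cb750, cb751, cb752, cb753, cb754, cb755, cb756, cb757, cb758]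

/-- the blocks of labels -/
def labL : List ℕ := [lb0, lb1, lb2, lb3, lb4, lb5, lb6, lb7, lb8, lb9, lb10, lb11, lb12, lb13, lb14, lb15, lb16, lb17, lb18, lb19, lb20, lb21, lb22, lb23, lb24, lb25, lb26, lb27, lb28, lb29, lb30, lb31, lb32, lb33, lb34, lb35, lb36, lb37, lb38, lb39, lb40, lb41, lb42, lb43, lb44, lb45, lb46, lb47, lb48, lb49, lb50, lb51, lb52, lb53, lb54, lb55, lb56, lb57, lb58, lb59, lb60, lb61, lb62, lb63, lb64, lb65, lb66, lb67, lb68, lb69, lb70, lb71, lb72, lb73, lb74, lb75, lb76, lb77, lb78, lb79, lb80, lb81, lb82, lb83, lb84, lb85, lb86, lb87, lb88, lb89, lb90, lb91, lb92, lb93, lb94, lb95, lb96, lb97, lb98, lb99, lb100, lb101, lb102, lb103, lb104, lb105, lb106, lb107, lb108, lb109, lb110, lb111, lb112, lb113, lb114, lb115, lb116, lb117, lb118, lb119, lb120, lb121, lb122, lb123, lb124, lb125, lb126, lb127, lb128, lb129, lb130, lb131, lb132, lb133, lb134, lb135, lb136, lb137, lb138, lb139, lb140, lb141, lb142, lb143, lb144, lb145, lb146, lb147, lb148, lb149, lb150, lb151, lb152, lb153,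 lb154, lb155, lb156, lb157, lb158, lb159, lb160, lb161, lb162]

end Cfsg.Agent.Lib.Helper61_M24BlkData
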