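import Mathlib
import Cfsg.Agent.Lib.Helper26_M24Trans
import Cfsg.Agent.Lib.Helper27_EnumGroup
import Cfsg.Agent.Lib.Helper61_M24BlkData1
import Cfsg.Agent.Lib.Helper61_M24BlkData4

/-!
The checks on the data for the 2-blocks of `M24` (helper61), by the kernel.
-/

set_option autoImplicit false
open Cfsg
open Cfsg.Agent.Lib.Helper26_Golay
open Cfsg.Agent.Lib.Helper27_EnumGroup
open Cfsg.Agent.Lib.Helper61_M24BlkData

namespace Cfsg.Agent.Lib.Helper61_M24BlkChk

/-- the `i`-th entry of a list, `0` beyond its end -/
def nth : List ℕ → ℕ → ℕ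
  | [], _ => 0
  | a :: _, 0 => a
  | _ :: l, n + 1 => nth l n

/-- disjunction of `f 0, …, f (n-1)`, by the recursors -/
def anyG (f : ℕ → Bool) (n : ℕ) : Bool :=
  Nat.rec (motive := fun _ => Bool) false
    (fun k acc => Bool.rec (motive := fun _ => Bool) acc true (f k)) n

/-- the number of `a < n` with `f a`, by the recursor -/
def countF (f : ℕ → Bool) (n : ℕ) : ℕ :=
  Nat.rec (motive := fun _ => ℕ) 0 (fun k acc => cond (f k) (Nat.succ acc) acc) n

/-- the sum of `f 0, …, f (n-1)`, by the recursor -/
def sumF (f : ℕ → ℕ) (n : ℕ) : ℕ :=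
  Nat.rec (motive := fun _ => ℕ) 0 (fun k acc => Nat.add acc (f k)) n

/-- conjunction over the seven base points -/
def all7 (c : ℕ → Bool) : Bool :=
  c 23 && (c 0 && (c 1 && (c 2 && (c 3 && (c 5 && c 4)))))

/-- the points of the octad, as pairs -/
def R1 : List (ℕ × ℕ) := [(0, 0), (1, 1), (2, 2), (3, 3), (4, 4), (7, 7), (10, 10), (12, 12)]

/-- the pairs of distinct points in the same tetrad -/
def R2 : List (ℕ × ℕ) := [(0, 1), (0, 2), (0, 3), (1, 0), (1, 2), (1, 3), (2, 0), (2, 1), (2, 3), (3, 0), (3, 1), (3, 2), (4, 7), (4, 10), (4, 12), (7, 4), (7, 10), (7, 12), (10, 4), (10, 7), (10, 12), (12, 4), (12, 7), (12, 10)]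

/-- the pairs of distinct points in the same duad -/
def R3 : List (ℕ × ℕ) := [(0, 1), (1, 0), (2, 3), (3, 2), (4, 7), (7, 4), (10, 12), (12, 10)]

/-- the key of a point map with respect to a relation: the image of the relation, as a mask -/
def kapF (R : List (ℕ × ℕ)) (f : ℕ → ℕ) : ℕ :=
  R.foldr (fun p acc => Nat.add (Nat.pow 2 (Nat.add (Nat.mul 24 (f p.1)) (f p.2))) acc) 0

/-- membership of a pair in a relation -/
def memR (R : List (ℕ × ℕ)) (a b : ℕ) : Bool := R.any (fun q => Nat.beq q.1 a && Nat.beq q.2 b)

/-- the table maps the relation into itself -/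
def presB (R : List (ℕ × ℕ)) (T : ℕ) : Bool := R.all (fun p => memR R (imgF T p.1) (imgF T p.2))

/-- the identity table -/
def IDT : ℕ := 0xbdab49ca307b9ac5a928398a418820

/-- the tables of the first level -/
def l0T (i : ℕ) : ℕ := tblAt L0T i

/-- the tables of the second level -/
def l1T (i : ℕ) : ℕ := tblAt L1T i

/-- the tables of the third level -/
def l2T (i : ℕ) : ℕ := tblAt L2T i

/-- the tables of the Sylow subgroup -/
def sT (a : ℕ) : ℕ := tblAt ST a

/-- the generators of the group -/
def gen4 (j : ℕ) : ℕ := tblAt m24Gens j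

/-- the generators of the Sylow subgroup -/
def sgT (j : ℕ) : ℕ := tblAt SG j

/-- the tables of the representatives of the regular double cosets -/
def gkT (k : ℕ) : ℕ := tblAt GKT k

/-- the tables of the class representatives -/
def xjT (j : ℕ) : ℕ := tblAt XJT j

/-- the cosets of the representatives of the regular double cosets -/
def gkI (k : ℕ) : ℕ := Nat.land (Nat.shiftRight GKI (Nat.mul 18 k)) 262143

/-- the cosets of the class representatives -/
def xjI (j : ℕ) : ℕ := Nat.land (Nat.shiftRight XJI (Nat.mul 18 j)) 262143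

/-- the point map of a coset representative -/
def cosF (i : ℕ) (x : ℕ) : ℕ :=
  imgF (l0T (Nat.div i 315)) (imgF (l1T (Nat.mod (Nat.div i 9) 35)) (imgF (l2T (Nat.mod i 9)) x))

/-- the tables checked directly -/
def baseInOK : Bool :=
  allF (fun i => tblInM24 (l1T i)) 35 && (allF (fun i => tblInM24 (l2T i)) 9 &&
  allF (fun j => tblInM24 (sgT j)) 5)

/-- the entry of the tree of the first level -/
def l0E (i : ℕ) : ℕ := Nat.land (Nat.shiftRight L0C (Nat.mul 20 i)) 1048575

/-- the check of the tree of the first level -/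
def treeChk0 (i : ℕ) : Bool :=
  forceN (l0E i) fun c => forceN (l0T i) fun T => forceN (Nat.shiftRight c 12) fun d =>
  cond (Nat.beq d 0) (all24 (fun x => Nat.beq (imgF T x) x))
    (forceN (Nat.land (Nat.shiftRight c 2) 1023) fun p => Nat.blt p 759 &&
      (Nat.blt (Nat.shiftRight (l0E p) 12) d &&
      forceN (l0T p) fun P => forceN (gen4 (Nat.land c 3)) fun A =>
        all24 (fun x => Nat.beq (imgF T x) (imgF A (imgF P x)))))

/-- the tree of the first level -/
def tree0OK : Bool := allF treeChk0 759

/-- the entry of the tree of the Sylow subgroup -/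
def sE (a : ℕ) : ℕ := Nat.land (Nat.shiftRight SC (Nat.mul 20 a)) 1048575

/-- the check of the tree of the Sylow subgroup -/
def treeChkS (a : ℕ) : Bool :=
  forceN (sE a) fun c => forceN (sT a) fun T => forceN (Nat.shiftRight c 13) fun d =>
  cond (Nat.beq d 0) (all24 (fun x => Nat.beq (imgF T x) x))
    (forceN (Nat.land (Nat.shiftRight c 3) 1023) fun p => Nat.blt (Nat.land c 7) 5 &&
      (Nat.blt (Nat.shiftRight (sE p) 13) d &&
      forceN (sT p) fun P => forceN (sgT (Nat.land c 7)) fun A =>
        all24 (fun x => Nat.beq (imgF T x) (imgF P (imgF A x)))))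

/-- the tree of the Sylow subgroup -/
def treeSOK : Bool := allF treeChkS 1024

/-- the tables of the Sylow subgroup increase, the last is the identity -/
def sIncOK : Bool :=
  allF (fun a => Nat.blt (sT a) (sT (Nat.succ a))) 1023 && Nat.beq (sT 1023) IDT

/-- the tables of the Sylow subgroup preserve the three relations -/
def sPresOK : Bool :=
  allF (fun a => forceN (sT a) fun T => presB R1 T && (presB R2 T && presB R3 T)) 1024

/-- the tables of the later levels preserve the earlier relations, and contain the identity -/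
def lPresOK : Bool :=
  allF (fun i => presB R1 (l1T i)) 35 &&
  (allF (fun i => forceN (l2T i) fun T => presB R1 T && presB R2 T) 9 &&
  (Nat.beq (l0T 0) IDT && (Nat.beq (l1T 34) IDT && Nat.beq (l2T 8) IDT)))

/-- the keys of the levels increase -/
def keysOK : Bool :=
  allF (fun i => Nat.blt (kapF R1 (imgF (l0T i))) (kapF R1 (imgF (l0T (Nat.succ i))))) 758 &&
  (allF (fun i => Nat.blt (kapF R2 (imgF (l1T i))) (kapF R2 (imgF (l1T (Nat.succ i))))) 34 &&
  allF (fun i => Nat.blt (kapF R3 (imgF (l2T i))) (kapF R3 (imgF (l2T (Nat.succ i))))) 8)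

/-- the tables of the representatives are the tables of their cosets -/
def repsOK : Bool :=
  allF (fun k => forceN (gkI k) fun i => forceN (gkT k) fun K => Nat.blt i 239085 &&
    all24 (fun x => Nat.beq (imgF K x) (cosF i x))) 163 &&
  allF (fun j => forceN (xjI j) fun i => forceN (xjT j) fun X => Nat.blt i 239085 &&
    all24 (fun x => Nat.beq (imgF X x) (cosF i x))) 7

/-- the certificate of a coset -/
def certE (i0 c : ℕ) : ℕ := Nat.land (Nat.shiftRight (nth certL i0) (Nat.mul 32 c)) 4294967295

/-- the check on the nine cosets with given first and second index: `chk` gets the three tables of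
the representative and its certificate -/
def cosetCell (chk : ℕ → ℕ → ℕ → ℕ → Bool) (P0 CB i1 : ℕ) : Bool :=
  forceN (l1T i1) fun P1 =>
    allF (fun i2 => forceN (l2T i2) fun P2 =>
      chk P0 P1 P2 (Nat.land (Nat.shiftRight CB (Nat.mul 32 (Nat.add (Nat.mul 9 i1) i2)))
        4294967295)) 9

/-- the check on the cosets with given first index -/
def cosetRow (chk : ℕ → ℕ → ℕ → ℕ → Bool) (i0 : ℕ) : Bool :=
  forceN (l0T i0) fun P0 => forceN (nth certL i0) fun CB =>
    allF (fun i1 => cosetCell chk P0 CB i1) 35

/-- the check of the certificate of a coset: a nontrivial element of the intersection, or the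
double coset -/
def certChk (P0 P1 P2 c : ℕ) : Bool :=
  forceN (Nat.land (Nat.shiftRight c 1) 1023) fun f1 =>
  forceN (Nat.land (Nat.shiftRight c 11) 1023) fun f2 =>
  cond (Nat.beq (Nat.land c 1) 0)
    (!(Nat.beq f1 1023) && forceN (sT f1) fun U => forceN (sT f2) fun V =>
      all7 (fun x => Nat.beq (imgF U (imgF P0 (imgF P1 (imgF P2 x))))
        (imgF P0 (imgF P1 (imgF P2 (imgF V x))))))
    (forceN (Nat.shiftRight c 21) fun k => Nat.blt k 163 &&
      forceN (sT f1) fun A => forceN (gkT k) fun K => forceN (sT f2) fun B =>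
      all7 (fun x => Nat.beq (imgF P0 (imgF P1 (imgF P2 x))) (imgF A (imgF K (imgF B x)))))

/-- the `j`-th index of a packed list of indices -/
def qAt (Q j : ℕ) : ℕ := Nat.land (Nat.shiftRight Q (Nat.mul 10 j)) 1023

/-- the check on an element `g` of a centraliser, given by four tables: it maps the generators of
the normal subgroup into it, and if it commutes with them it lies in it -/
def centElt (P0 P1 P2 A Q ng nQ : ℕ) : Bool :=
  allF (fun j => forceN (sT (qAt Q j)) fun qj => anyG (fun j' => forceN (sT (qAt Q j')) fun qj' =>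
    all7 (fun x => Nat.beq (imgF P0 (imgF P1 (imgF P2 (imgF A (imgF qj x)))))
      (imgF qj' (imgF P0 (imgF P1 (imgF P2 (imgF A x))))))) nQ) ng &&
  (anyG (fun j => forceN (sT (qAt Q j)) fun qj =>
      !(all7 (fun x => Nat.beq (imgF P0 (imgF P1 (imgF P2 (imgF A (imgF qj x)))))
        (imgF qj (imgF P0 (imgF P1 (imgF P2 (imgF A x)))))))) ng ||
    anyG (fun j' => forceN (sT (qAt Q j')) fun qj' =>
      all7 (fun x => Nat.beq (imgF P0 (imgF P1 (imgF P2 (imgF A x)))) (imgF qj' x))) nQ)

/-- the check on a coset for the centraliser of the involution with index `c0`, whose conjugates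
under the Sylow subgroup have the indices `U` -/
def centChk (c0 : ℕ) (U : List ℕ) (Q ng nQ : ℕ) (P0 P1 P2 : ℕ) : Bool :=
  U.all (fun u => forceN (sT u) fun Ut => forceN (sT c0) fun Ct =>
    !(all7 (fun x => Nat.beq (imgF P0 (imgF P1 (imgF P2 (imgF Ut x))))
      (imgF Ct (imgF P0 (imgF P1 (imgF P2 x)))))) ||
    allF (fun a => forceN (sT a) fun A =>
      !(all7 (fun x => Nat.beq (imgF A (imgF Ct x)) (imgF Ut (imgF A x)))) ||
      centElt P0 P1 P2 A Q ng nQ) 1024)

/-- the check on a coset -/
def cosetChk (P0 P1 P2 c : ℕ) : Bool :=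
  certChk P0 P1 P2 c && (centChk 12 [12] EAI 4 16 P0 P1 P2 &&
    centChk 401 [401, 578] QBI 6 64 P0 P1 P2)

/-- the check on the cosets with first index `11 q, …, 11 q + 10`, except the first index `0` -/
def rowsOK (q : ℕ) : Bool :=
  allF (fun j => forceN (Nat.add (Nat.mul 11 q) j) fun i0 =>
    Nat.beq i0 0 || cosetRow cosetChk i0) 11

/-- the check on the nine cosets with first index `0` and given second index -/
def cell0OK (i1 : ℕ) : Bool :=
  forceN (l0T 0) fun P0 => forceN (nth certL 0) fun CB => cosetCell cosetChk P0 CB i1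

/-- the conjugates of the two involutions under the Sylow subgroup -/
def conjOK : Bool :=
  allF (fun a => forceN (sT a) fun A => forceN (sT 12) fun Z =>
    all7 (fun x => Nat.beq (imgF A (imgF Z x)) (imgF Z (imgF A x)))) 1024 &&
  allF (fun a => forceN (sT a) fun A => forceN (sT 401) fun Z => forceN (sT 578) fun Z' =>
    all7 (fun x => Nat.beq (imgF A (imgF Z x)) (imgF Z (imgF A x))) ||
    all7 (fun x => Nat.beq (imgF A (imgF Z x)) (imgF Z' (imgF A x)))) 1024

/-- the check of a normal subgroup: the generators commute with the involution, the other elements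
are products of earlier ones -/
def qChk (c0 Q QS ng nQ : ℕ) : Bool :=
  allF (fun j => forceN (sT (qAt Q j)) fun qj => forceN (sT c0) fun Ct =>
    all7 (fun x => Nat.beq (imgF qj (imgF Ct x)) (imgF Ct (imgF qj x)))) ng &&
  allF (fun j => Nat.blt j ng ||
    forceN (Nat.land (Nat.shiftRight QS (Nat.mul 12 j)) 4095) fun e =>
    forceN (Nat.land e 63) fun p => forceN (Nat.shiftRight e 6) fun p' =>
    Nat.blt p j && (Nat.blt p' j &&
    forceN (sT (qAt Q j)) fun qj => forceN (sT (qAt Q p)) fun qp => forceN (sT (qAt Q p')) fun qp' =>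
    all7 (fun x => Nat.beq (imgF qj x) (imgF qp (imgF qp' x))))) nQ

/-- the two normal subgroups -/
def qOK : Bool := qChk 12 EAI EAS 4 16 && qChk 401 QBI QBS 6 64

/-- the label of an element of a regular double coset -/
def labOf (LB a : ℕ) : ℕ := Nat.land (Nat.shiftRight LB (Nat.mul 32 a)) 7

/-- the check of a label: a conjugator to the class representative, or a commuting involution -/
def labChk (LB K a : ℕ) : Bool :=
  forceN (Nat.land (Nat.shiftRight LB (Nat.mul 32 a)) 4294967295) fun e =>
  forceN (Nat.land e 7) fun l => forceN (Nat.land (Nat.shiftRight e 3) 262143) fun i =>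
  forceN (Nat.land (Nat.shiftRight e 21) 1023) fun b =>
  Nat.blt i 239085 &&
  forceN (l0T (Nat.div i 315)) fun P0 => forceN (l1T (Nat.mod (Nat.div i 9) 35)) fun P1 =>
  forceN (l2T (Nat.mod i 9)) fun P2 => forceN (sT b) fun B => forceN (sT a) fun A =>
  cond (Nat.blt l 7)
    (forceN (xjT l) fun X => all7 (fun x =>
      Nat.beq (imgF P0 (imgF P1 (imgF P2 (imgF B (imgF A (imgF K x))))))
        (imgF X (imgF P0 (imgF P1 (imgF P2 (imgF B x)))))))
    (all7 (fun x => Nat.beq (imgF P0 (imgF P1 (imgF P2 (imgF B
        (imgF P0 (imgF P1 (imgF P2 (imgF B x)))))))) x) &&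
      (!(all7 (fun x => Nat.beq (imgF P0 (imgF P1 (imgF P2 (imgF B x)))) x)) &&
      all7 (fun x => Nat.beq (imgF P0 (imgF P1 (imgF P2 (imgF B (imgF A (imgF K x))))))
        (imgF A (imgF K (imgF P0 (imgF P1 (imgF P2 (imgF B x)))))))))

/-- the labels of a double coset -/
def labRow (k : ℕ) : Bool :=
  forceN (nth labL k) fun LB => forceN (gkT k) fun K => allF (fun a => labChk LB K a) 1024

/-- the labels of the double cosets `10 q, …, 10 q + 9` -/
def labsOK (q : ℕ) : Bool :=
  allF (fun j => forceN (Nat.add (Nat.mul 10 q) j) fun k => Nat.ble 163 k || labRow k) 10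

/-- evaluate the argument first -/
def forceV (n : ℕ) (f : ℕ → ℕ) : ℕ :=
  Nat.rec (motive := fun _ => ℕ) (f 0) (fun k _ => f (Nat.succ k)) n

/-- the number of elements with class label `j` in the `k`-th regular double coset -/
def cntL (k j : ℕ) : ℕ :=
  forceV (nth labL k) fun LB => countF (fun a => Nat.beq (labOf LB a) j) 1024

/-- the parities of the numbers of elements with each label in the regular double cosets, eight
bits each -/
def PVT : ℕ := 0x7e007e7e7e00997e99e77ee700e7e77e7e007e7ee799997ee7997e9999e77e9900e799997e7e007e007e000000007e7e007ee799009900990099e7990099e7000000007e007e7e99997e997e9900e7e7007e7e7ee7997e997e007e00e700997e99e7e7e77e7e999999997ee700e799e700e77e997ee7e7000000007e7e7e7e7e7e00007e7e7e000000007e7e7e007e7e007e7e7e7e007e7e007e7e007e7e00007e7e7e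

/-- the parities for the `k`-th regular double coset -/
def pvAt (k : ℕ) : ℕ := Nat.land (Nat.shiftRight PVT (Nat.mul 8 k)) 255

/-- the sum modulo two of `f 0, …, f (n-1)` bit by bit, by the recursor -/
def xorF (f : ℕ → ℕ) (n : ℕ) : ℕ :=
  Nat.rec (motive := fun _ => ℕ) 0 (fun k acc => Nat.xor acc (f k)) n

/-- the check of the parities for a double coset -/
def pvChk (k : ℕ) : Bool :=
  forceN (nth labL k) fun LB =>
    Nat.beq (xorF (fun a => Nat.pow 2 (labOf LB a)) 1024) (pvAt k)

/-- the check of the parities -/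
def pvOK : Bool := allF pvChk 163

/-- the `j`-th bit -/
def bitB (x j : ℕ) : Bool := Nat.beq (Nat.land (Nat.shiftRight x j) 1) 1

/-- the matrix of the class counts vanishes modulo `2` -/
def matOK : Bool :=
  allF (fun j => allF (fun j' =>
    Nat.beq (Nat.mod (countF (fun k => bitB (pvAt k) j && bitB (pvAt k) j') 163) 2) 0) 7) 7

/-- the check that a representative of a double coset is regular: no involution of the Sylow
subgroup fixes its coset -/
def regChk (k : ℕ) : Bool :=
  forceN (gkT k) fun K => forceN (kapF R3 (imgF K)) fun k3 =>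
  forceN (kapF R2 (imgF K)) fun k2 => forceN (kapF R1 (imgF K)) fun k1 =>
  allF (fun u => forceN (sT u) fun U =>
    !(all7 (fun x => Nat.beq (imgF U (imgF U x)) x)) ||
    (all7 (fun x => Nat.beq (imgF U x) x) ||
    (!(Nat.beq (kapF R3 (fun x => imgF U (imgF K x))) k3) ||
    (!(Nat.beq (kapF R2 (fun x => imgF U (imgF K x))) k2) ||
    !(Nat.beq (kapF R1 (fun x => imgF U (imgF K x))) k1))))) 1024

/-- the representatives `10 q, …, 10 q + 9` are regular -/
def regsOK (q : ℕ) : Bool :=
  allF (fun j => forceN (Nat.add (Nat.mul 10 q) j) fun k => Nat.ble 163 k || regChk k) 10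

/-- the check of an element of the Sylow subgroup: not an involution, or conjugate to one of the
two involutions -/
def invChk (a : ℕ) : Bool :=
  forceN (sT a) fun A =>
  all7 (fun x => Nat.beq (imgF A x) x) || (!(all7 (fun x => Nat.beq (imgF A (imgF A x)) x)) ||
  forceN (Nat.land (Nat.shiftRight INVC (Nat.mul 32 a)) 4294967295) fun e =>
  forceN (Nat.land (Nat.shiftRight e 1) 262143) fun i =>
  forceN (Nat.land (Nat.shiftRight e 19) 1023) fun b =>
  Nat.blt i 239085 &&
  forceN (l0T (Nat.div i 315)) fun P0 => forceN (l1T (Nat.mod (Nat.div i 9) 35)) fun P1 =>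
  forceN (l2T (Nat.mod i 9)) fun P2 => forceN (sT b) fun B =>
  forceN (sT (cond (Nat.beq (Nat.land e 1) 0) 12 401)) fun Z =>
    all7 (fun x => Nat.beq (imgF P0 (imgF P1 (imgF P2 (imgF B (imgF A x)))))
      (imgF Z (imgF P0 (imgF P1 (imgF P2 (imgF B x)))))))

/-- all involutions of the Sylow subgroup -/
def invOK : Bool := allF invChk 1024

set_option maxRecDepth 100000 in
theorem baseIn_ok : baseInOK = true := by decide +kernel

set_option maxRecDepth 100000 in
theorem tree0_ok : tree0OK = true := by decide +kernel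

set_option maxRecDepth 100000 in
theorem treeS_ok : treeSOK = true := by decide +kernel

set_option maxRecDepth 100000 in
theorem sInc_ok : sIncOK = true := by decide +kernel

set_option maxRecDepth 100000 in
theorem sPres_ok : sPresOK = true := by decide +kernel

set_option maxRecDepth 100000 in
theorem lPres_ok : lPresOK = true := by decide +kernel

set_option maxRecDepth 100000 in
theorem keys_ok : keysOK = true := by decide +kernel

set_option maxRecDepth 100000 in
theorem reps_ok : repsOK = true := by decide +kernel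

set_option maxRecDepth 100000 in
theorem conj_ok : conjOK = true := by decide +kernel

set_option maxRecDepth 100000 in
theorem q_ok : qOK = true := by decide +kernel

set_option maxRecDepth 100000 in
theorem inv_ok : invOK = true := by decide +kernel

end Cfsg.Agent.Lib.Helper61_M24BlkChk
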