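import Mathlib
import Cfsg.Agent.S0364
import Cfsg.Agent.Lib.Helper61_M24BlkChk
import Cfsg.Agent.Lib.Helper61_DCoset2

/-!
Group-theoretic facts about `M24` from the checked data (helper61), first part: elements given by
tables, the relations of the flag and their keys, the Sylow 2-subgroup as the stabiliser of the flag,
the transversal in three levels and the unique decomposition of the elements.
-/

set_option autoImplicit false
open Cfsg
open Cfsg.Agent.Lib.Helper26_Golay
open Cfsg.Agent.Lib.Helper27_K0Affine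
open Cfsg.Agent.Lib.Helper27_EnumGroup
open Cfsg.Agent.Lib.Helper61_M24BlkData
open Cfsg.Agent.Lib.Helper61_M24BlkChk
open Cfsg.Agent.Lib.Helper61_DCoset

namespace Cfsg.Agent.Lib.Helper61_M24Blk

/-- the group -/
abbrev Gm : Type := ↥Cfsg.M24

noncomputable instance instFintypeGm : Fintype Gm := Fintype.ofFinite Gm

/-! ### Elements given by tables -/

/-- the table describes an element of the group -/
def InM (T : ℕ) : Prop := ∃ σ ∈ Cfsg.M24, Represents σ T

open Classical in
/-- the element of the group with the given table -/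
noncomputable def el (T : ℕ) : Gm :=
  if h : InM T then ⟨h.choose, h.choose_spec.1⟩ else 1

/-- the point map describes the element -/
def R (g : Gm) (f : ℕ → ℕ) : Prop := RepF (g : Equiv.Perm GolayPt) f

theorem el_rep {T : ℕ} (h : InM T) : R (el T) (imgF T) := by
  unfold el
  rw [dif_pos h]
  exact h.choose_spec.2

theorem R_one : R 1 (fun x => x) := repF_one

theorem R_mul {g h : Gm} {f k : ℕ → ℕ} (hg : R g f) (hh : R h k) :
    R (g * h) (fun x => f (k x)) := repF_mul hg hh

theorem R_congr {g : Gm} {f k : ℕ → ℕ} (hg : R g f) (e : ∀ x < 24, f x = k x) : R g k :=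
  repF_congr hg e

theorem R_ext {g h : Gm} {f k : ℕ → ℕ} (hg : R g f) (hh : R h k) (e : ∀ x < 24, f x = k x) :
    g = h := Subtype.ext (eq_of_repF hg hh e)

theorem R_apply {g h : Gm} {f k : ℕ → ℕ} (hg : R g f) (hh : R h k) (e : g = h) :
    ∀ x < 24, f x = k x := repF_apply_eq hg hh (congrArg Subtype.val e)

theorem R_lt {g : Gm} {f : ℕ → ℕ} (hg : R g f) : ∀ x < 24, f x < 24 := repF_lt hg

theorem inM_of_R {g : Gm} {T : ℕ} (h : R g (imgF T)) : InM T := ⟨g.1, g.2, h⟩

theorem el_eq {g : Gm} {T : ℕ} (h : R g (imgF T)) : el T = g :=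
  R_ext (el_rep (inM_of_R h)) h (fun _ _ => rfl)

theorem beq_all {f k : ℕ → ℕ} (h : all24 (fun x => Nat.beq (f x) (k x)) = true) :
    ∀ x < 24, f x = k x := by
  rw [all24_eq_true] at h
  exact fun x hx => Nat.eq_of_beq_eq_true (h x hx)

/-- the canonical point map of an element -/
noncomputable def cf (g : Gm) (x : ℕ) : ℕ := idx ((g : Equiv.Perm GolayPt) (pt x))

theorem R_canon (g : Gm) : R g (cf g) := by
  intro p
  show idx _ = idx ((g : Equiv.Perm GolayPt) (pt (idx p)))
  rw [pt_idx]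

theorem R_inj {g : Gm} {f : ℕ → ℕ} (hg : R g f) : ∀ x < 24, ∀ y < 24, f x = f y → x = y := by
  intro x hx y hy e
  have e1 := hg (pt x)
  have e2 := hg (pt y)
  rw [idx_pt x hx] at e1
  rw [idx_pt y hy] at e2
  rw [← e1, ← e2] at e
  have := (g : Equiv.Perm GolayPt).injective (idx_injective e)
  rw [← idx_pt x hx, ← idx_pt y hy, this]

/-! ### The seven base points -/

theorem base_cases : ∀ p : GolayPt,
    Cfsg.Agent.S0364.baseMask7.testBit (Cfsg.Agent.Lib.Helper7_Bits.enc p) = true →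
    (idx p = 23 ∨ idx p = 0 ∨ idx p = 1 ∨ idx p = 2 ∨ idx p = 3 ∨ idx p = 5 ∨ idx p = 4) := by
  decide

theorem all7_eq_true (c : ℕ → Bool) :
    all7 c = true ↔ ∀ x, (x = 23 ∨ x = 0 ∨ x = 1 ∨ x = 2 ∨ x = 3 ∨ x = 5 ∨ x = 4) → c x = true := by
  unfold all7
  simp only [Bool.and_eq_true]
  constructor
  · rintro ⟨h23, h0, h1, h2, h3, h5, h4⟩ x (rfl | rfl | rfl | rfl | rfl | rfl | rfl) <;> assumption
  · intro h
    exact ⟨h 23 (by simp), h 0 (by simp), h 1 (by simp), h 2 (by simp), h 3 (by simp),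
      h 5 (by simp), h 4 (by simp)⟩

/-- two elements agreeing on the seven base points are equal -/
theorem R_ext7 {g h : Gm} {f k : ℕ → ℕ} (hg : R g f) (hh : R h k)
    (e : all7 (fun x => Nat.beq (f x) (k x)) = true) : g = h := by
  rw [all7_eq_true] at e
  have h1 : (g⁻¹ * h : Gm) = 1 := by
    apply Subtype.ext
    apply Cfsg.Agent.S0364.base7 _ (g⁻¹ * h).2
    intro p hp
    rw [Cfsg.Agent.Lib.Helper7_Base.mem_maskSet] at hp
    have hc := base_cases p hp
    have e2 : (h : Equiv.Perm GolayPt) p = (g : Equiv.Perm GolayPt) p := by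
      apply idx_injective
      rw [hh p, hg p]
      exact (Nat.eq_of_beq_eq_true (e _ hc)).symm
    show ((g⁻¹ * h : Gm) : Equiv.Perm GolayPt) p = p
    rw [Subgroup.coe_mul, Subgroup.coe_inv, Equiv.Perm.mul_apply, e2, Equiv.Perm.inv_def,
      Equiv.symm_apply_apply]
  exact inv_mul_eq_one.1 h1

theorem all7_beq {f k : ℕ → ℕ} (h : ∀ x < 24, f x = k x) :
    all7 (fun x => Nat.beq (f x) (k x)) = true := by
  rw [all7_eq_true]
  rintro x (rfl | rfl | rfl | rfl | rfl | rfl | rfl) <;>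
  · rw [h _ (by norm_num)]
    exact Nat.beq_refl _

/-! ### Relations and their keys -/

/-- the point map maps the relation into itself -/
def PresF (Rl : List (ℕ × ℕ)) (f : ℕ → ℕ) : Prop := ∀ p ∈ Rl, (f p.1, f p.2) ∈ Rl

/-- the entries of the relation are points -/
def Small (Rl : List (ℕ × ℕ)) : Prop := ∀ p ∈ Rl, p.1 < 24 ∧ p.2 < 24

theorem memR_iff (Rl : List (ℕ × ℕ)) (a b : ℕ) : memR Rl a b = true ↔ (a, b) ∈ Rl := by
  unfold memR
  rw [List.any_eq_true]
  constructor
  · rintro ⟨q, hq, h⟩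
    rw [Bool.and_eq_true] at h
    have h1 := Nat.eq_of_beq_eq_true h.1
    have h2 := Nat.eq_of_beq_eq_true h.2
    rw [← h1, ← h2]
    exact hq
  · intro h
    refine ⟨(a, b), h, ?_⟩
    rw [Bool.and_eq_true]
    exact ⟨Nat.beq_refl _, Nat.beq_refl _⟩

theorem presB_iff (Rl : List (ℕ × ℕ)) (T : ℕ) : presB Rl T = true ↔ PresF Rl (imgF T) := by
  unfold presB PresF
  rw [List.all_eq_true]
  constructor
  · intro h p hp
    exact (memR_iff _ _ _).1 (h p hp)
  · intro h p hp
    exact (memR_iff _ _ _).2 (h p hp)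

theorem presF_congr {Rl : List (ℕ × ℕ)} (hs : Small Rl) {f k : ℕ → ℕ} (h : ∀ x < 24, f x = k x)
    (hf : PresF Rl f) : PresF Rl k := by
  intro p hp
  rw [← h _ (hs p hp).1, ← h _ (hs p hp).2]
  exact hf p hp

theorem presF_id (Rl : List (ℕ × ℕ)) : PresF Rl (fun x => x) := fun _ hp => hp

theorem presF_comp {Rl : List (ℕ × ℕ)} {f k : ℕ → ℕ} (hf : PresF Rl f) (hk : PresF Rl k) :
    PresF Rl (fun x => f (k x)) := fun p hp => hf _ (hk p hp)

theorem kapF_eq (Rl : List (ℕ × ℕ)) (f : ℕ → ℕ) :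
    kapF Rl f = (Rl.map (fun p => 2 ^ (24 * f p.1 + f p.2))).sum := by
  unfold kapF
  induction Rl with
  | nil => rfl
  | cons p l ih =>
    rw [List.foldr_cons, List.map_cons, List.sum_cons, ih]
    rfl

theorem kapF_congr {Rl : List (ℕ × ℕ)} (hs : Small Rl) {f k : ℕ → ℕ} (h : ∀ x < 24, f x = k x) :
    kapF Rl f = kapF Rl k := by
  rw [kapF_eq, kapF_eq]
  congr 1
  apply List.map_congr_left
  intro p hp
  rw [h _ (hs p hp).1, h _ (hs p hp).2]

/-- the key does not change under a point map permuting the relation -/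
theorem kapF_comp {Rl : List (ℕ × ℕ)} (hnd : Rl.Nodup) (hs : Small Rl) {f s : ℕ → ℕ}
    (hp : PresF Rl s) (hinj : ∀ x < 24, ∀ y < 24, s x = s y → x = y) :
    kapF Rl (fun x => f (s x)) = kapF Rl f := by
  rw [kapF_eq, kapF_eq]
  have hperm : (Rl.map (fun p => (s p.1, s p.2))).Perm Rl := by
    apply List.Subperm.perm_of_length_le
    · apply List.subperm_of_subset
      · rw [List.nodup_map_iff_inj_on hnd]
        intro p hp' q hq' e
        have e1 : s p.1 = s q.1 := congrArg Prod.fst e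
        have e2 : s p.2 = s q.2 := congrArg Prod.snd e
        exact Prod.ext (hinj _ (hs p hp').1 _ (hs q hq').1 e1) (hinj _ (hs p hp').2 _ (hs q hq').2 e2)
      · intro q hq
        rw [List.mem_map] at hq
        obtain ⟨p, hp', rfl⟩ := hq
        exact hp p hp'
    · rw [List.length_map]
  have h2 := (hperm.map (fun p : ℕ × ℕ => 2 ^ (24 * f p.1 + f p.2))).sum_eq
  rw [List.map_map] at h2
  exact h2

theorem nodup_R1 : R1.Nodup := by decide
theorem nodup_R2 : R2.Nodup := by decide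
theorem nodup_R3 : R3.Nodup := by decide
theorem small_R1 : Small R1 := by unfold Small R1; decide
theorem small_R2 : Small R2 := by unfold Small R2; decide
theorem small_R3 : Small R3 := by unfold Small R3; decide

/-- the element maps the relation into itself -/
def PresG (Rl : List (ℕ × ℕ)) (g : Gm) : Prop := PresF Rl (cf g)

/-- the key of an element -/
noncomputable def kapG (Rl : List (ℕ × ℕ)) (g : Gm) : ℕ := kapF Rl (cf g)

theorem presG_of_R {Rl : List (ℕ × ℕ)} (hs : Small Rl) {g : Gm} {f : ℕ → ℕ} (h : R g f)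
    (hf : PresF Rl f) : PresG Rl g :=
  presF_congr hs (R_apply h (R_canon g) rfl) hf

theorem presF_of_R {Rl : List (ℕ × ℕ)} (hs : Small Rl) {g : Gm} {f : ℕ → ℕ} (h : R g f)
    (hg : PresG Rl g) : PresF Rl f :=
  presF_congr hs (R_apply (R_canon g) h rfl) hg

theorem kapG_eq {Rl : List (ℕ × ℕ)} (hs : Small Rl) {g : Gm} {f : ℕ → ℕ} (h : R g f) :
    kapG Rl g = kapF Rl f := kapF_congr hs (R_apply (R_canon g) h rfl)

theorem presG_one {Rl : List (ℕ × ℕ)} (hs : Small Rl) : PresG Rl 1 :=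
  presG_of_R hs R_one (presF_id Rl)

theorem presG_mul {Rl : List (ℕ × ℕ)} (hs : Small Rl) {g h : Gm} (hg : PresG Rl g)
    (hh : PresG Rl h) : PresG Rl (g * h) :=
  presG_of_R hs (R_mul (R_canon g) (R_canon h)) (presF_comp hg hh)

theorem presG_pow {Rl : List (ℕ × ℕ)} (hs : Small Rl) {g : Gm} (hg : PresG Rl g) (n : ℕ) :
    PresG Rl (g ^ n) := by
  induction n with
  | zero => rw [pow_zero]; exact presG_one hs
  | succ n ih => rw [pow_succ]; exact presG_mul hs ih hg

theorem presG_inv {Rl : List (ℕ × ℕ)} (hs : Small Rl) {g : Gm} (hg : PresG Rl g) :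
    PresG Rl g⁻¹ := by
  have h1 : g⁻¹ = g ^ (orderOf g - 1) := by
    apply inv_eq_of_mul_eq_one_right
    rw [← pow_succ', Nat.sub_add_cancel (orderOf_pos g)]
    exact pow_orderOf_eq_one g
  rw [h1]
  exact presG_pow hs hg _

/-- the key does not change under multiplication on the right by an element permuting the
relation -/
theorem kapG_mul {Rl : List (ℕ × ℕ)} (hnd : Rl.Nodup) (hs : Small Rl) (g : Gm) {s : Gm}
    (h : PresG Rl s) : kapG Rl (g * s) = kapG Rl g := by
  rw [kapG_eq hs (R_mul (R_canon g) (R_canon s))]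
  exact kapF_comp hnd hs h (R_inj (R_canon s))

/-! ### Booleans -/

theorem blt_iff (a b : ℕ) : Nat.blt a b = true ↔ a < b := by
  simp [Nat.blt]

theorem anyG_succ (f : ℕ → Bool) (n : ℕ) : anyG f (n + 1) = (f n || anyG f n) := by
  have : anyG f (n + 1) = Bool.rec (motive := fun _ => Bool) (anyG f n) true (f n) := rfl
  rw [this]
  cases f n <;> rfl

theorem anyG_eq_true (f : ℕ → Bool) (n : ℕ) : anyG f n = true ↔ ∃ k < n, f k = true := by
  induction n with
  | zero => simp [anyG]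
  | succ n ih =>
    rw [anyG_succ, Bool.or_eq_true, ih]
    constructor
    · rintro (h | ⟨k, hk, h⟩)
      · exact ⟨n, by omega, h⟩
      · exact ⟨k, by omega, h⟩
    · rintro ⟨k, hk, h⟩
      by_cases hkn : k = n
      · subst hkn; exact Or.inl h
      · exact Or.inr ⟨k, by omega, h⟩

theorem f_lt (n : ℕ) : Nat.land n 1023 < 1024 := Nat.lt_succ_of_le Nat.and_le_right

/-! ### The tables of the data lie in the group -/

theorem idt_img : ∀ x < 24, imgF IDT x = x := by
  have h : all24 (fun x => Nat.beq (imgF IDT x) x) = true := by decide +kernel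
  exact beq_all h

theorem inM_gen {j : ℕ} (hj : j < 4) : InM (gen4 j) := by
  obtain ⟨σ, hσ, h⟩ := m24Gens_in j hj
  exact ⟨σ, hσ, h⟩

theorem inM_base : (∀ i < 35, InM (l1T i)) ∧ (∀ i < 9, InM (l2T i)) ∧ (∀ j < 5, InM (sgT j)) := by
  have h := baseIn_ok
  unfold baseInOK at h
  rw [Bool.and_eq_true, Bool.and_eq_true, allF_eq_true, allF_eq_true, allF_eq_true] at h
  exact ⟨fun i hi => exists_of_tblInM24 (h.1 i hi), fun i hi => exists_of_tblInM24 (h.2.1 i hi),
    fun j hj => exists_of_tblInM24 (h.2.2 j hj)⟩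

theorem inM_l0 : ∀ i < 759, InM (l0T i) := by
  have h := tree0_ok
  unfold tree0OK at h
  rw [allF_eq_true] at h
  have key : ∀ d, ∀ i < 759, Nat.shiftRight (l0E i) 12 = d → InM (l0T i) := by
    intro d
    induction d using Nat.strong_induction_on with
    | _ d ih =>
      intro i hi hd
      have h1 := h i hi
      unfold treeChk0 at h1
      simp only [forceN_eq] at h1
      by_cases h0 : Nat.beq (Nat.shiftRight (l0E i) 12) 0 = true
      · rw [h0, cond_true] at h1
        exact inM_of_R (g := 1) (R_congr R_one (fun x hx => (beq_all h1 x hx).symm))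
      · rw [Bool.not_eq_true] at h0
        rw [h0, cond_false, Bool.and_eq_true, Bool.and_eq_true, blt_iff, blt_iff] at h1
        obtain ⟨hp, hdep, hall⟩ := h1
        have hP := ih _ (hd ▸ hdep) _ hp rfl
        have hA : InM (gen4 (Nat.land (l0E i) 3)) :=
          inM_gen (Nat.lt_succ_of_le Nat.and_le_right)
        exact inM_of_R (g := el _ * el _) (R_congr (R_mul (el_rep hA) (el_rep hP))
          (fun x hx => (beq_all hall x hx).symm))
  exact fun i hi => key _ i hi rfl

theorem inM_s : ∀ a < 1024, InM (sT a) := by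
  have h := treeS_ok
  unfold treeSOK at h
  rw [allF_eq_true] at h
  have key : ∀ d, ∀ a < 1024, Nat.shiftRight (sE a) 13 = d → InM (sT a) := by
    intro d
    induction d using Nat.strong_induction_on with
    | _ d ih =>
      intro a ha hd
      have h1 := h a ha
      unfold treeChkS at h1
      simp only [forceN_eq] at h1
      by_cases h0 : Nat.beq (Nat.shiftRight (sE a) 13) 0 = true
      · rw [h0, cond_true] at h1
        exact inM_of_R (g := 1) (R_congr R_one (fun x hx => (beq_all h1 x hx).symm))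
      · rw [Bool.not_eq_true] at h0
        rw [h0, cond_false, Bool.and_eq_true, Bool.and_eq_true, blt_iff, blt_iff] at h1
        obtain ⟨hg, hdep, hall⟩ := h1
        have hP := ih _ (hd ▸ hdep) _ (f_lt _) rfl
        have hA : InM (sgT (Nat.land (sE a) 7)) := inM_base.2.2 _ hg
        exact inM_of_R (g := el _ * el _) (R_congr (R_mul (el_rep hP) (el_rep hA))
          (fun x hx => (beq_all hall x hx).symm))
  exact fun a ha => key _ a ha rfl

/-! ### The Sylow subgroup -/

/-- the elements of the Sylow subgroup -/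
noncomputable def sA (a : ℕ) : Gm := el (sT a)

theorem sA_rep {a : ℕ} (ha : a < 1024) : R (sA a) (imgF (sT a)) := el_rep (inM_s a ha)

theorem sT_lt {a b : ℕ} (hab : a < b) (hb : b < 1024) : sT a < sT b := by
  have h := sInc_ok
  unfold sIncOK at h
  rw [Bool.and_eq_true, allF_eq_true] at h
  induction b with
  | zero => omega
  | succ b ih =>
    have hstep : sT b < sT (b + 1) := (blt_iff _ _).1 (h.1 b (by omega))
    rcases Nat.lt_succ_iff_lt_or_eq.1 hab with h' | h'
    · exact (ih h' (by omega)).trans hstep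
    · rw [h']; exact hstep

theorem sA_inj {a b : ℕ} (ha : a < 1024) (hb : b < 1024) (h : sA a = sA b) : a = b := by
  have e : sT a = sT b :=
    table_ext (tblAt_lt _ _) (tblAt_lt _ _) (R_apply (sA_rep ha) (sA_rep hb) h)
  by_contra hne
  rcases Nat.lt_or_gt_of_ne hne with h' | h'
  · exact absurd e (ne_of_lt (sT_lt h' hb))
  · exact absurd e.symm (ne_of_lt (sT_lt h' ha))

theorem sA_one : sA 1023 = 1 := by
  have h := sInc_ok
  unfold sIncOK at h
  rw [Bool.and_eq_true] at h
  have e : sT 1023 = IDT := Nat.eq_of_beq_eq_true h.2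
  apply R_ext (sA_rep (by norm_num)) R_one
  intro x hx
  rw [e]
  exact idt_img x hx

/-- membership in the stabiliser of the flag -/
def InS (g : Gm) : Prop := PresG R1 g ∧ PresG R2 g ∧ PresG R3 g

/-- the Sylow subgroup: the stabiliser of the flag -/
noncomputable def S : Subgroup Gm where
  carrier := {g | InS g}
  one_mem' := ⟨presG_one small_R1, presG_one small_R2, presG_one small_R3⟩
  mul_mem' := by
    rintro g h ⟨g1, g2, g3⟩ ⟨h1, h2, h3⟩
    exact ⟨presG_mul small_R1 g1 h1, presG_mul small_R2 g2 h2, presG_mul small_R3 g3 h3⟩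
  inv_mem' := by
    rintro g ⟨g1, g2, g3⟩
    exact ⟨presG_inv small_R1 g1, presG_inv small_R2 g2, presG_inv small_R3 g3⟩

theorem mem_S {g : Gm} : g ∈ S ↔ InS g := Iff.rfl

theorem sA_mem {a : ℕ} (ha : a < 1024) : sA a ∈ S := by
  have h := sPres_ok
  unfold sPresOK at h
  rw [allF_eq_true] at h
  have h1 := h a ha
  simp only [forceN_eq] at h1
  rw [Bool.and_eq_true, Bool.and_eq_true, presB_iff, presB_iff, presB_iff] at h1
  exact ⟨presG_of_R small_R1 (sA_rep ha) h1.1, presG_of_R small_R2 (sA_rep ha) h1.2.1,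
    presG_of_R small_R3 (sA_rep ha) h1.2.2⟩

/-! ### The three levels of the transversal -/

/-- the elements of the first level -/
noncomputable def l0A (i : ℕ) : Gm := el (l0T i)

/-- the elements of the second level -/
noncomputable def l1A (i : ℕ) : Gm := el (l1T i)

/-- the elements of the third level -/
noncomputable def l2A (i : ℕ) : Gm := el (l2T i)

theorem l0A_rep {i : ℕ} (hi : i < 759) : R (l0A i) (imgF (l0T i)) := el_rep (inM_l0 i hi)

theorem l1A_rep {i : ℕ} (hi : i < 35) : R (l1A i) (imgF (l1T i)) := el_rep (inM_base.1 i hi)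

theorem l2A_rep {i : ℕ} (hi : i < 9) : R (l2A i) (imgF (l2T i)) := el_rep (inM_base.2.1 i hi)

theorem lPres_facts : (∀ i < 35, PresF R1 (imgF (l1T i))) ∧
    (∀ i < 9, PresF R1 (imgF (l2T i)) ∧ PresF R2 (imgF (l2T i))) ∧
    l0T 0 = IDT ∧ l1T 34 = IDT ∧ l2T 8 = IDT := by
  have h := lPres_ok
  unfold lPresOK at h
  simp only [forceN_eq] at h
  rw [Bool.and_eq_true, Bool.and_eq_true, Bool.and_eq_true, Bool.and_eq_true, allF_eq_true,
    allF_eq_true] at h
  refine ⟨fun i hi => (presB_iff _ _).1 (h.1 i hi), fun i hi => ?_,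
    Nat.eq_of_beq_eq_true h.2.2.1, Nat.eq_of_beq_eq_true h.2.2.2.1,
    Nat.eq_of_beq_eq_true h.2.2.2.2⟩
  have h1 := h.2.1 i hi
  rw [Bool.and_eq_true, presB_iff, presB_iff] at h1
  exact h1

theorem l0A_zero : l0A 0 = 1 := by
  apply R_ext (l0A_rep (by norm_num)) R_one
  intro x hx
  rw [lPres_facts.2.2.1]
  exact idt_img x hx

theorem l1A_last : l1A 34 = 1 := by
  apply R_ext (l1A_rep (by norm_num)) R_one
  intro x hx
  rw [lPres_facts.2.2.2.1]
  exact idt_img x hx

theorem l2A_last : l2A 8 = 1 := by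
  apply R_ext (l2A_rep (by norm_num)) R_one
  intro x hx
  rw [lPres_facts.2.2.2.2]
  exact idt_img x hx

theorem l1A_pres {i : ℕ} (hi : i < 35) : PresG R1 (l1A i) :=
  presG_of_R small_R1 (l1A_rep hi) (lPres_facts.1 i hi)

theorem l2A_pres {i : ℕ} (hi : i < 9) : PresG R1 (l2A i) ∧ PresG R2 (l2A i) :=
  ⟨presG_of_R small_R1 (l2A_rep hi) (lPres_facts.2.1 i hi).1,
    presG_of_R small_R2 (l2A_rep hi) (lPres_facts.2.1 i hi).2⟩

theorem strictMono_of_step {k : ℕ → ℕ} {n : ℕ} (h : ∀ i < n, k i < k (i + 1)) {i j : ℕ}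
    (hij : i < j) (hj : j ≤ n) : k i < k j := by
  induction j with
  | zero => omega
  | succ j ih =>
    have hstep : k j < k (j + 1) := h j (by omega)
    rcases Nat.lt_succ_iff_lt_or_eq.1 hij with h' | h'
    · exact (ih h' (by omega)).trans hstep
    · rw [h']; exact hstep

theorem inj_of_step {k : ℕ → ℕ} {n : ℕ} (h : ∀ i < n, k i < k (i + 1)) {i j : ℕ}
    (hi : i ≤ n) (hj : j ≤ n) (e : k i = k j) : i = j := by
  by_contra hne
  rcases Nat.lt_or_gt_of_ne hne with h' | h'
  · exact absurd e (ne_of_lt (strictMono_of_step h h' hj))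
  · exact absurd e.symm (ne_of_lt (strictMono_of_step h h' hi))

theorem keys_facts :
    (∀ i < 758, kapF R1 (imgF (l0T i)) < kapF R1 (imgF (l0T (i + 1)))) ∧
    (∀ i < 34, kapF R2 (imgF (l1T i)) < kapF R2 (imgF (l1T (i + 1)))) ∧
    (∀ i < 8, kapF R3 (imgF (l2T i)) < kapF R3 (imgF (l2T (i + 1)))) := by
  have h := keys_ok
  unfold Cfsg.Agent.Lib.Helper61_M24BlkChk.keysOK at h
  rw [Bool.and_eq_true, Bool.and_eq_true, allF_eq_true, allF_eq_true, allF_eq_true] at h
  exact ⟨fun i hi => (blt_iff _ _).1 (h.1 i hi), fun i hi => (blt_iff _ _).1 (h.2.1 i hi),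
    fun i hi => (blt_iff _ _).1 (h.2.2 i hi)⟩

theorem l0_key_inj {i j : ℕ} (hi : i < 759) (hj : j < 759) (e : kapG R1 (l0A i) = kapG R1 (l0A j)) :
    i = j := by
  rw [kapG_eq small_R1 (l0A_rep hi), kapG_eq small_R1 (l0A_rep hj)] at e
  exact inj_of_step keys_facts.1 (by omega) (by omega) e

theorem l1_key_inj {i j : ℕ} (hi : i < 35) (hj : j < 35) (e : kapG R2 (l1A i) = kapG R2 (l1A j)) :
    i = j := by
  rw [kapG_eq small_R2 (l1A_rep hi), kapG_eq small_R2 (l1A_rep hj)] at e
  exact inj_of_step keys_facts.2.1 (by omega) (by omega) e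

theorem l2_key_inj {i j : ℕ} (hi : i < 9) (hj : j < 9) (e : kapG R3 (l2A i) = kapG R3 (l2A j)) :
    i = j := by
  rw [kapG_eq small_R3 (l2A_rep hi), kapG_eq small_R3 (l2A_rep hj)] at e
  exact inj_of_step keys_facts.2.2 (by omega) (by omega) e

/-- the decomposition of an element is unique -/
theorem decomp_inj4 {i0 i1 i2 a j0 j1 j2 b : ℕ} (hi0 : i0 < 759) (hi1 : i1 < 35) (hi2 : i2 < 9)
    (ha : a < 1024) (hj0 : j0 < 759) (hj1 : j1 < 35) (hj2 : j2 < 9) (hb : b < 1024)
    (e : l0A i0 * (l1A i1 * (l2A i2 * sA a)) = l0A j0 * (l1A j1 * (l2A j2 * sA b))) :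
    i0 = j0 ∧ i1 = j1 ∧ i2 = j2 ∧ a = b := by
  have sa := sA_mem ha
  have sb := sA_mem hb
  have p1 : ∀ {i1 i2 a : ℕ}, i1 < 35 → i2 < 9 → a < 1024 → PresG R1 (l1A i1 * (l2A i2 * sA a)) :=
    fun h1 h2 h3 => presG_mul small_R1 (l1A_pres h1)
      (presG_mul small_R1 (l2A_pres h2).1 (sA_mem h3).1)
  have p2 : ∀ {i2 a : ℕ}, i2 < 9 → a < 1024 → PresG R2 (l2A i2 * sA a) :=
    fun h2 h3 => presG_mul small_R2 (l2A_pres h2).2 (sA_mem h3).2.1
  have e0 : i0 = j0 := by
    apply l0_key_inj hi0 hj0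
    rw [← kapG_mul nodup_R1 small_R1 (l0A i0) (p1 hi1 hi2 ha), e,
      kapG_mul nodup_R1 small_R1 (l0A j0) (p1 hj1 hj2 hb)]
  subst e0
  have e' := mul_left_cancel e
  have e1 : i1 = j1 := by
    apply l1_key_inj hi1 hj1
    rw [← kapG_mul nodup_R2 small_R2 (l1A i1) (p2 hi2 ha), e',
      kapG_mul nodup_R2 small_R2 (l1A j1) (p2 hj2 hb)]
  subst e1
  have e'' := mul_left_cancel e'
  have e2 : i2 = j2 := by
    apply l2_key_inj hi2 hj2
    rw [← kapG_mul nodup_R3 small_R3 (l2A i2) sa.2.2, e'',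
      kapG_mul nodup_R3 small_R3 (l2A j2) sb.2.2]
  subst e2
  exact ⟨rfl, rfl, rfl, sA_inj ha hb (mul_left_cancel e'')⟩

theorem card_Gm : Nat.card Gm = 244823040 := Cfsg.Agent.S0364.result

theorem exists_decomp4 (g : Gm) : ∃ i0 < 759, ∃ i1 < 35, ∃ i2 < 9, ∃ a < 1024,
    g = l0A i0 * (l1A i1 * (l2A i2 * sA a)) := by
  classical
  let Φ : Fin 759 × Fin 35 × Fin 9 × Fin 1024 → Gm :=
    fun q => l0A q.1 * (l1A q.2.1 * (l2A q.2.2.1 * sA q.2.2.2))
  have hinj : Function.Injective Φ := by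
    rintro ⟨i0, i1, i2, a⟩ ⟨j0, j1, j2, b⟩ h
    obtain ⟨e0, e1, e2, e3⟩ := decomp_inj4 i0.2 i1.2 i2.2 a.2 j0.2 j1.2 j2.2 b.2 h
    rw [Fin.ext e0, Fin.ext e1, Fin.ext e2, Fin.ext e3]
  have hcard : Fintype.card (Fin 759 × Fin 35 × Fin 9 × Fin 1024) = Fintype.card Gm := by
    rw [← Nat.card_eq_fintype_card (α := Gm), card_Gm]
    simp
  have hsurj := ((Fintype.bijective_iff_injective_and_card Φ).2 ⟨hinj, hcard⟩).2
  obtain ⟨⟨i0, i1, i2, a⟩, h⟩ := hsurj g
  exact ⟨i0, i0.2, i1, i1.2, i2, i2.2, a, a.2, h.symm⟩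

end Cfsg.Agent.Lib.Helper61_M24Blk
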