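import Mathlib
import Cfsg.Agent.Lib.Helper61_M24BlkChk

/-!
The checks on the data for the 2-blocks of `M24` (helper61), by the kernel: the labels of the double cosets from 0 to 59.
-/

set_option autoImplicit false
open Cfsg.Agent.Lib.Helper61_M24BlkChk

namespace Cfsg.Agent.Lib.Helper61_M24BlkChk

set_option maxRecDepth 1000000 in
set_option maxHeartbeats 0 in
theorem labs_ok0 : labsOK 0 = true := by decide +kernel

set_option maxRecDepth 1000000 in
set_option maxHeartbeats 0 in
theorem labs_ok1 : labsOK 1 = true := by decide +kernel

set_option maxRecDepth 1000000 in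
set_option maxHeartbeats 0 in
theorem labs_ok2 : labsOK 2 = true := by decide +kernel

set_option maxRecDepth 1000000 in
set_option maxHeartbeats 0 in
theorem labs_ok3 : labsOK 3 = true := by decide +kernel

set_option maxRecDepth 1000000 in
set_option maxHeartbeats 0 in
theorem labs_ok4 : labsOK 4 = true := by decide +kernel

set_option maxRecDepth 1000000 in
set_option maxHeartbeats 0 in
theorem labs_ok5 : labsOK 5 = true := by decide +kernel

end Cfsg.Agent.Lib.Helper61_M24BlkChk
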