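import Mathlib
import Cfsg.Agent.Lib.Helper61_M24BlkChk
import Cfsg.Agent.Lib.Helper61_M24BlkChkL0

/-!
The checks on the data for the 2-blocks of `M24` (helper61), by the kernel: the labels of the double cosets from 60 to 119.
(The import of the previous part only serves to have these files compiled one after another,
for the sake of memory.)
-/

set_option autoImplicit false
open Cfsg.Agent.Lib.Helper61_M24BlkChk

namespace Cfsg.Agent.Lib.Helper61_M24BlkChk

set_option maxRecDepth 1000000 in
set_option maxHeartbeats 0 in
theorem labs_ok6 : labsOK 6 = true := by decide +kernel

set_option maxRecDepth 1000000 in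
set_option maxHeartbeats 0 in
theorem labs_ok7 : labsOK 7 = true := by decide +kernel

set_option maxRecDepth 1000000 in
set_option maxHeartbeats 0 in
theorem labs_ok8 : labsOK 8 = true := by decide +kernel

set_option maxRecDepth 1000000 in
set_option maxHeartbeats 0 in
theorem labs_ok9 : labsOK 9 = true := by decide +kernel

set_option maxRecDepth 1000000 in
set_option maxHeartbeats 0 in
theorem labs_ok10 : labsOK 10 = true := by decide +kernel

set_option maxRecDepth 1000000 in
set_option maxHeartbeats 0 in
theorem labs_ok11 : labsOK 11 = true := by decide +kernel

end Cfsg.Agent.Lib.Helper61_M24BlkChk
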