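import Mathlib
import Cfsg.Agent.Lib.Helper61_M24BlkChk
import Cfsg.Agent.Lib.Helper61_M24BlkChkL1

/-!
The checks on the data for the 2-blocks of `M24` (helper61), by the kernel: the labels of the double cosets from 120 to 169.
(The import of the previous part only serves to have these files compiled one after another,
for the sake of memory.)
-/

set_option autoImplicit false
open Cfsg.Agent.Lib.Helper61_M24BlkChk

namespace Cfsg.Agent.Lib.Helper61_M24BlkChk

set_option maxRecDepth 1000000 in
set_option maxHeartbeats 0 in
theorem labs_ok12 : labsOK 12 = true := by decide +kernel

set_option maxRecDepth 1000000 in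
set_option maxHeartbeats 0 in
theorem labs_ok13 : labsOK 13 = true := by decide +kernel

set_option maxRecDepth 1000000 in
set_option maxHeartbeats 0 in
theorem labs_ok14 : labsOK 14 = true := by decide +kernel

set_option maxRecDepth 1000000 in
set_option maxHeartbeats 0 in
theorem labs_ok15 : labsOK 15 = true := by decide +kernel

set_option maxRecDepth 1000000 in
set_option maxHeartbeats 0 in
theorem labs_ok16 : labsOK 16 = true := by decide +kernel

end Cfsg.Agent.Lib.Helper61_M24BlkChk
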