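import Mathlib
import Cfsg.Agent.Lib.Helper61_M24BlkChk
import Cfsg.Agent.Lib.Helper61_M24BlkChkL2

/-!
The checks on the data for the 2-blocks of `M24` (helper61), by the kernel: the regularity of the representatives.
(The import of the previous part only serves to have these files compiled one after another,
for the sake of memory.)
-/

set_option autoImplicit false
open Cfsg.Agent.Lib.Helper61_M24BlkChk

namespace Cfsg.Agent.Lib.Helper61_M24BlkChk

set_option maxRecDepth 1000000 in
set_option maxHeartbeats 0 in
theorem regs_ok0 : regsOK 0 = true := by decide +kernel

set_option maxRecDepth 1000000 in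
set_option maxHeartbeats 0 in
theorem regs_ok1 : regsOK 1 = true := by decide +kernel

set_option maxRecDepth 1000000 in
set_option maxHeartbeats 0 in
theorem regs_ok2 : regsOK 2 = true := by decide +kernel

set_option maxRecDepth 1000000 in
set_option maxHeartbeats 0 in
theorem regs_ok3 : regsOK 3 = true := by decide +kernel

set_option maxRecDepth 1000000 in
set_option maxHeartbeats 0 in
theorem regs_ok4 : regsOK 4 = true := by decide +kernel

set_option maxRecDepth 1000000 in
set_option maxHeartbeats 0 in
theorem regs_ok5 : regsOK 5 = true := by decide +kernel

set_option maxRecDepth 1000000 in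
set_option maxHeartbeats 0 in
theorem regs_ok6 : regsOK 6 = true := by decide +kernel

set_option maxRecDepth 1000000 in
set_option maxHeartbeats 0 in
theorem regs_ok7 : regsOK 7 = true := by decide +kernel

set_option maxRecDepth 1000000 in
set_option maxHeartbeats 0 in
theorem regs_ok8 : regsOK 8 = true := by decide +kernel

set_option maxRecDepth 1000000 in
set_option maxHeartbeats 0 in
theorem regs_ok9 : regsOK 9 = true := by decide +kernel

set_option maxRecDepth 1000000 in
set_option maxHeartbeats 0 in
theorem regs_ok10 : regsOK 10 = true := by decide +kernel

set_option maxRecDepth 1000000 in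
set_option maxHeartbeats 0 in
theorem regs_ok11 : regsOK 11 = true := by decide +kernel

set_option maxRecDepth 1000000 in
set_option maxHeartbeats 0 in
theorem regs_ok12 : regsOK 12 = true := by decide +kernel

set_option maxRecDepth 1000000 in
set_option maxHeartbeats 0 in
theorem regs_ok13 : regsOK 13 = true := by decide +kernel

set_option maxRecDepth 1000000 in
set_option maxHeartbeats 0 in
theorem regs_ok14 : regsOK 14 = true := by decide +kernel

set_option maxRecDepth 1000000 in
set_option maxHeartbeats 0 in
theorem regs_ok15 : regsOK 15 = true := by decide +kernel

set_option maxRecDepth 1000000 in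
set_option maxHeartbeats 0 in
theorem regs_ok16 : regsOK 16 = true := by decide +kernel

end Cfsg.Agent.Lib.Helper61_M24BlkChk
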