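import Mathlib
import Cfsg.Agent.Lib.Helper61_M24BlkChk
import Cfsg.Agent.Lib.Helper61_M24BlkChkG

/-!
The checks on the data for the 2-blocks of `M24` (helper61), by the kernel: the parities of the class
counts, and the number of cosets in regular double cosets.
(The import of the previous part only serves to have these files compiled one after another,
for the sake of memory.)
-/

set_option autoImplicit false
open Cfsg.Agent.Lib.Helper61_M24BlkData
open Cfsg.Agent.Lib.Helper61_M24BlkChk

namespace Cfsg.Agent.Lib.Helper61_M24BlkChk

set_option maxRecDepth 1000000 in
set_option maxHeartbeats 0 in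
theorem pv_ok : pvOK = true := by decide +kernel

set_option maxRecDepth 1000000 in
set_option maxHeartbeats 0 in
theorem mat_ok : matOK = true := by decide +kernel

/-- the number of cosets in regular double cosets -/
def regCnt : ℕ :=
  sumF (fun i0 => forceV (nth certL i0) fun CB =>
    countF (fun c => Nat.beq (Nat.land (Nat.shiftRight CB (Nat.mul 32 c)) 1) 1) 315) 759

set_option maxRecDepth 1000000 in
set_option maxHeartbeats 0 in
theorem regCnt_ok : regCnt = 166912 := by decide +kernel

end Cfsg.Agent.Lib.Helper61_M24BlkChk
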