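import Mathlib
import Cfsg.Agent.Lib.Helper61_M24BlkChk

/-!
The checks on the data for the 2-blocks of `M24` (helper61), by the kernel: the cosets with first index from 0 to 131.
-/

set_option autoImplicit false
open Cfsg.Agent.Lib.Helper61_M24BlkChk

namespace Cfsg.Agent.Lib.Helper61_M24BlkChk

set_option maxRecDepth 1000000 in
set_option maxHeartbeats 0 in
theorem rows_ok0 : rowsOK 0 = true := by decide +kernel

set_option maxRecDepth 1000000 in
set_option maxHeartbeats 0 in
theorem rows_ok1 : rowsOK 1 = true := by decide +kernel

set_option maxRecDepth 1000000 in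
set_option maxHeartbeats 0 in
theorem rows_ok2 : rowsOK 2 = true := by decide +kernel

set_option maxRecDepth 1000000 in
set_option maxHeartbeats 0 in
theorem rows_ok3 : rowsOK 3 = true := by decide +kernel

set_option maxRecDepth 1000000 in
set_option maxHeartbeats 0 in
theorem rows_ok4 : rowsOK 4 = true := by decide +kernel

set_option maxRecDepth 1000000 in
set_option maxHeartbeats 0 in
theorem rows_ok5 : rowsOK 5 = true := by decide +kernel

set_option maxRecDepth 1000000 in
set_option maxHeartbeats 0 in
theorem rows_ok6 : rowsOK 6 = true := by decide +kernel

set_option maxRecDepth 1000000 in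
set_option maxHeartbeats 0 in
theorem rows_ok7 : rowsOK 7 = true := by decide +kernel

set_option maxRecDepth 1000000 in
set_option maxHeartbeats 0 in
theorem rows_ok8 : rowsOK 8 = true := by decide +kernel

set_option maxRecDepth 1000000 in
set_option maxHeartbeats 0 in
theorem rows_ok9 : rowsOK 9 = true := by decide +kernel

set_option maxRecDepth 1000000 in
set_option maxHeartbeats 0 in
theorem rows_ok10 : rowsOK 10 = true := by decide +kernel

set_option maxRecDepth 1000000 in
set_option maxHeartbeats 0 in
theorem rows_ok11 : rowsOK 11 = true := by decide +kernel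

end Cfsg.Agent.Lib.Helper61_M24BlkChk
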