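import Mathlib
import Cfsg.Agent.Lib.Helper61_M24BlkChk
import Cfsg.Agent.Lib.Helper61_M24BlkChkR0

/-!
The checks on the data for the 2-blocks of `M24` (helper61), by the kernel: the cosets with first index from 132 to 263.
(The import of the previous part only serves to have these files compiled one after another,
for the sake of memory.)
-/

set_option autoImplicit false
open Cfsg.Agent.Lib.Helper61_M24BlkChk

namespace Cfsg.Agent.Lib.Helper61_M24BlkChk

set_option maxRecDepth 1000000 in
set_option maxHeartbeats 0 in
theorem rows_ok12 : rowsOK 12 = true := by decide +kernel

set_option maxRecDepth 1000000 in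
set_option maxHeartbeats 0 in
theorem rows_ok13 : rowsOK 13 = true := by decide +kernel

set_option maxRecDepth 1000000 in
set_option maxHeartbeats 0 in
theorem rows_ok14 : rowsOK 14 = true := by decide +kernel

set_option maxRecDepth 1000000 in
set_option maxHeartbeats 0 in
theorem rows_ok15 : rowsOK 15 = true := by decide +kernel

set_option maxRecDepth 1000000 in
set_option maxHeartbeats 0 in
theorem rows_ok16 : rowsOK 16 = true := by decide +kernel

set_option maxRecDepth 1000000 in
set_option maxHeartbeats 0 in
theorem rows_ok17 : rowsOK 17 = true := by decide +kernel

set_option maxRecDepth 1000000 in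
set_option maxHeartbeats 0 in
theorem rows_ok18 : rowsOK 18 = true := by decide +kernel

set_option maxRecDepth 1000000 in
set_option maxHeartbeats 0 in
theorem rows_ok19 : rowsOK 19 = true := by decide +kernel

set_option maxRecDepth 1000000 in
set_option maxHeartbeats 0 in
theorem rows_ok20 : rowsOK 20 = true := by decide +kernel

set_option maxRecDepth 1000000 in
set_option maxHeartbeats 0 in
theorem rows_ok21 : rowsOK 21 = true := by decide +kernel

set_option maxRecDepth 1000000 in
set_option maxHeartbeats 0 in
theorem rows_ok22 : rowsOK 22 = true := by decide +kernel

set_option maxRecDepth 1000000 in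
set_option maxHeartbeats 0 in
theorem rows_ok23 : rowsOK 23 = true := by decide +kernel

end Cfsg.Agent.Lib.Helper61_M24BlkChk
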