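import Mathlib
import Cfsg.Agent.Lib.Helper61_M24BlkChk

/-!
The checks on the data for the 2-blocks of `M24` (helper61), by the kernel: the cosets with first index from 517 to 637.
-/

set_option autoImplicit false
open Cfsg.Agent.Lib.Helper61_M24BlkChk

namespace Cfsg.Agent.Lib.Helper61_M24BlkChk

set_option maxRecDepth 1000000 in
set_option maxHeartbeats 0 in
theorem rows_ok47 : rowsOK 47 = true := by decide +kernel

set_option maxRecDepth 1000000 in
set_option maxHeartbeats 0 in
theorem rows_ok48 : rowsOK 48 = true := by decide +kernel

set_option maxRecDepth 1000000 in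
set_option maxHeartbeats 0 in
theorem rows_ok49 : rowsOK 49 = true := by decide +kernel

set_option maxRecDepth 1000000 in
set_option maxHeartbeats 0 in
theorem rows_ok50 : rowsOK 50 = true := by decide +kernel

set_option maxRecDepth 1000000 in
set_option maxHeartbeats 0 in
theorem rows_ok51 : rowsOK 51 = true := by decide +kernel

set_option maxRecDepth 1000000 in
set_option maxHeartbeats 0 in
theorem rows_ok52 : rowsOK 52 = true := by decide +kernel

set_option maxRecDepth 1000000 in
set_option maxHeartbeats 0 in
theorem rows_ok53 : rowsOK 53 = true := by decide +kernel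

set_option maxRecDepth 1000000 in
set_option maxHeartbeats 0 in
theorem rows_ok54 : rowsOK 54 = true := by decide +kernel

set_option maxRecDepth 1000000 in
set_option maxHeartbeats 0 in
theorem rows_ok55 : rowsOK 55 = true := by decide +kernel

set_option maxRecDepth 1000000 in
set_option maxHeartbeats 0 in
theorem rows_ok56 : rowsOK 56 = true := by decide +kernel

set_option maxRecDepth 1000000 in
set_option maxHeartbeats 0 in
theorem rows_ok57 : rowsOK 57 = true := by decide +kernel

end Cfsg.Agent.Lib.Helper61_M24BlkChk
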