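import Mathlib
import Cfsg.Agent.Lib.Helper61_M24Blk
import Cfsg.Agent.Lib.Helper61_M24BlkChkR3
import Cfsg.Agent.Lib.Helper61_M24BlkChkZ2
import Cfsg.Agent.Lib.Helper61_M24BlkChkM

/-!
Group-theoretic facts about `M24` from the checked data (helper61), second part: the order of the
Sylow 2-subgroup, the cosets and their certificates, the regular double cosets and the class counts
on them, the conjugacy of the involutions, and the normal 2-subgroups of the centralisers of the
involutions.
-/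

set_option autoImplicit false
open Cfsg
open Cfsg.Agent.Lib.Helper26_Golay
open Cfsg.Agent.Lib.Helper27_K0Affine
open Cfsg.Agent.Lib.Helper27_EnumGroup
open Cfsg.Agent.Lib.Helper61_M24BlkData
open Cfsg.Agent.Lib.Helper61_M24BlkChk
open Cfsg.Agent.Lib.Helper61_DCoset

namespace Cfsg.Agent.Lib.Helper61_M24Blk

/-! ### The order of the Sylow subgroup -/

theorem exists_of_mem_S {g : Gm} (hg : g ∈ S) : ∃ a < 1024, g = sA a := by
  obtain ⟨i0, hi0, i1, hi1, i2, hi2, a, ha, e⟩ := exists_decomp4 g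
  have sa := sA_mem ha
  have k1 : kapG R1 g = kapG R1 (l0A 0) := by
    rw [l0A_zero, ← kapG_mul nodup_R1 small_R1 1 hg.1, one_mul]
  have k1' : kapG R1 g = kapG R1 (l0A i0) := by
    rw [e]
    exact kapG_mul nodup_R1 small_R1 (l0A i0) (presG_mul small_R1 (l1A_pres hi1)
      (presG_mul small_R1 (l2A_pres hi2).1 sa.1))
  have e0 : i0 = 0 := l0_key_inj hi0 (by norm_num) (k1'.symm.trans k1)
  subst e0
  rw [l0A_zero, one_mul] at e
  have k2 : kapG R2 g = kapG R2 (l1A 34) := by
    rw [l1A_last, ← kapG_mul nodup_R2 small_R2 1 hg.2.1, one_mul]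
  have k2' : kapG R2 g = kapG R2 (l1A i1) := by
    rw [e]
    exact kapG_mul nodup_R2 small_R2 (l1A i1) (presG_mul small_R2 (l2A_pres hi2).2 sa.2.1)
  have e1 : i1 = 34 := l1_key_inj hi1 (by norm_num) (k2'.symm.trans k2)
  subst e1
  rw [l1A_last, one_mul] at e
  have k3 : kapG R3 g = kapG R3 (l2A 8) := by
    rw [l2A_last, ← kapG_mul nodup_R3 small_R3 1 hg.2.2, one_mul]
  have k3' : kapG R3 g = kapG R3 (l2A i2) := by
    rw [e]
    exact kapG_mul nodup_R3 small_R3 (l2A i2) sa.2.2
  have e2 : i2 = 8 := l2_key_inj hi2 (by norm_num) (k3'.symm.trans k3)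
  subst e2
  rw [l2A_last, one_mul] at e
  exact ⟨a, ha, e⟩

theorem mem_S_iff {g : Gm} : g ∈ S ↔ ∃ a < 1024, g = sA a :=
  ⟨exists_of_mem_S, by rintro ⟨a, ha, rfl⟩; exact sA_mem ha⟩

theorem card_S : Nat.card S = 1024 := by
  have hbij : Function.Bijective (fun a : Fin 1024 => (⟨sA a, sA_mem a.2⟩ : S)) := by
    constructor
    · intro a b h
      exact Fin.ext (sA_inj a.2 b.2 (congrArg Subtype.val h))
    · rintro ⟨g, hg⟩
      obtain ⟨a, ha, rfl⟩ := exists_of_mem_S hg
      exact ⟨⟨a, ha⟩, rfl⟩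
  rw [← Nat.card_congr (Equiv.ofBijective _ hbij), Nat.card_eq_fintype_card, Fintype.card_fin]

theorem fact_two : (Nat.card Gm).factorization 2 = 10 := by
  have h : (244823040 : ℕ) = 2 ^ 10 * 239085 := by norm_num
  rw [card_Gm, h, Nat.factorization_mul (by norm_num) (by norm_num),
    Nat.Prime.factorization_pow Nat.prime_two]
  simp [Nat.factorization_eq_zero_of_not_dvd (show ¬ 2 ∣ 239085 by norm_num)]

instance : Fact (Nat.Prime 2) := ⟨Nat.prime_two⟩

/-- the Sylow subgroup, as a Sylow subgroup -/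
noncomputable def Syl : Sylow 2 Gm := Sylow.ofCard S (by rw [card_S, fact_two]; norm_num)

theorem coe_Syl : (Syl : Subgroup Gm) = S := rfl

/-! ### The cosets -/

/-- the representatives of the cosets -/
noncomputable def cosI (i : ℕ) : Gm := l0A (i / 315) * (l1A (i / 9 % 35) * l2A (i % 9))

theorem cosI_rep {i : ℕ} (hi : i < 239085) : R (cosI i) (cosF i) := by
  have h0 : i / 315 < 759 := by omega
  have h1 : i / 9 % 35 < 35 := Nat.mod_lt _ (by norm_num)
  have h2 : i % 9 < 9 := Nat.mod_lt _ (by norm_num)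
  have h : R (l0A (i / 315) * (l1A (i / 9 % 35) * l2A (i % 9)))
      (fun x => imgF (l0T (i / 315)) ((fun y => imgF (l1T (i / 9 % 35)) (imgF (l2T (i % 9)) y)) x)) :=
    R_mul (l0A_rep h0) (R_mul (l1A_rep h1) (l2A_rep h2))
  exact h

theorem exists_decomp (g : Gm) : ∃ i < 239085, ∃ a < 1024, g = cosI i * sA a := by
  obtain ⟨i0, hi0, i1, hi1, i2, hi2, a, ha, e⟩ := exists_decomp4 g
  refine ⟨315 * i0 + 9 * i1 + i2, by omega, a, ha, ?_⟩
  have e0 : (315 * i0 + 9 * i1 + i2) / 315 = i0 := by omega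
  have e1 : (315 * i0 + 9 * i1 + i2) / 9 % 35 = i1 := by omega
  have e2 : (315 * i0 + 9 * i1 + i2) % 9 = i2 := by omega
  unfold cosI
  rw [e0, e1, e2, e]
  group

theorem decomp_inj {i j a b : ℕ} (hi : i < 239085) (hj : j < 239085) (ha : a < 1024)
    (hb : b < 1024) (e : cosI i * sA a = cosI j * sA b) : i = j ∧ a = b := by
  unfold cosI at e
  rw [mul_assoc, mul_assoc, mul_assoc, mul_assoc] at e
  obtain ⟨e0, e1, e2, e3⟩ := decomp_inj4 (by omega) (Nat.mod_lt _ (by norm_num))
    (Nat.mod_lt _ (by norm_num)) ha (by omega) (Nat.mod_lt _ (by norm_num))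
    (Nat.mod_lt _ (by norm_num)) hb e
  exact ⟨by omega, e3⟩

/-! ### The checks on the cosets -/

theorem rows_all : ∀ q < 69, rowsOK q = true := by
  intro q hq
  interval_cases q
  · exact rows_ok0
  · exact rows_ok1
  · exact rows_ok2
  · exact rows_ok3
  · exact rows_ok4
  · exact rows_ok5
  · exact rows_ok6
  · exact rows_ok7
  · exact rows_ok8
  · exact rows_ok9
  · exact rows_ok10
  · exact rows_ok11
  · exact rows_ok12
  · exact rows_ok13
  · exact rows_ok14
  · exact rows_ok15
  · exact rows_ok16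
  · exact rows_ok17
  · exact rows_ok18
  · exact rows_ok19
  · exact rows_ok20
  · exact rows_ok21
  · exact rows_ok22
  · exact rows_ok23
  · exact rows_ok24
  · exact rows_ok25
  · exact rows_ok26
  · exact rows_ok27
  · exact rows_ok28
  · exact rows_ok29
  · exact rows_ok30
  · exact rows_ok31
  · exact rows_ok32
  · exact rows_ok33
  · exact rows_ok34
  · exact rows_ok35
  · exact rows_ok36
  · exact rows_ok37
  · exact rows_ok38
  · exact rows_ok39
  · exact rows_ok40
  · exact rows_ok41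
  · exact rows_ok42
  · exact rows_ok43
  · exact rows_ok44
  · exact rows_ok45
  · exact rows_ok46
  · exact rows_ok47
  · exact rows_ok48
  · exact rows_ok49
  · exact rows_ok50
  · exact rows_ok51
  · exact rows_ok52
  · exact rows_ok53
  · exact rows_ok54
  · exact rows_ok55
  · exact rows_ok56
  · exact rows_ok57
  · exact rows_ok58
  · exact rows_ok59
  · exact rows_ok60
  · exact rows_ok61
  · exact rows_ok62
  · exact rows_ok63
  · exact rows_ok64
  · exact rows_ok65
  · exact rows_ok66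
  · exact rows_ok67
  · exact rows_ok68

theorem cell0_all : ∀ i1 < 35, cell0OK i1 = true := by
  intro q hq
  interval_cases q
  · exact cell0_ok0
  · exact cell0_ok1
  · exact cell0_ok2
  · exact cell0_ok3
  · exact cell0_ok4
  · exact cell0_ok5
  · exact cell0_ok6
  · exact cell0_ok7
  · exact cell0_ok8
  · exact cell0_ok9
  · exact cell0_ok10
  · exact cell0_ok11
  · exact cell0_ok12
  · exact cell0_ok13
  · exact cell0_ok14
  · exact cell0_ok15
  · exact cell0_ok16
  · exact cell0_ok17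
  · exact cell0_ok18
  · exact cell0_ok19
  · exact cell0_ok20
  · exact cell0_ok21
  · exact cell0_ok22
  · exact cell0_ok23
  · exact cell0_ok24
  · exact cell0_ok25
  · exact cell0_ok26
  · exact cell0_ok27
  · exact cell0_ok28
  · exact cell0_ok29
  · exact cell0_ok30
  · exact cell0_ok31
  · exact cell0_ok32
  · exact cell0_ok33
  · exact cell0_ok34

theorem row_chk {i0 i1 i2 : ℕ} (h0 : i0 < 759) (h1 : i1 < 35) (h2 : i2 < 9) :
    cosetChk (l0T i0) (l1T i1) (l2T i2) (certE i0 (9 * i1 + i2)) = true := by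
  by_cases hz : i0 = 0
  · subst hz
    have h := cell0_all i1 h1
    unfold cell0OK cosetCell at h
    simp only [forceN_eq] at h
    rw [allF_eq_true] at h
    exact h i2 h2
  · have h := rows_all (i0 / 11) (by omega)
    unfold rowsOK at h
    rw [allF_eq_true] at h
    have h' := h (i0 % 11) (Nat.mod_lt _ (by norm_num))
    simp only [forceN_eq] at h'
    have e : Nat.add (Nat.mul 11 (i0 / 11)) (i0 % 11) = i0 := Nat.div_add_mod i0 11
    rw [e, Bool.or_eq_true] at h'
    rcases h' with h' | h'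
    · exact absurd (Nat.eq_of_beq_eq_true h') hz
    · unfold cosetRow cosetCell at h'
      simp only [forceN_eq] at h'
      rw [allF_eq_true] at h'
      have h'' := h' i1 h1
      rw [allF_eq_true] at h''
      exact h'' i2 h2

/-- the certificate of the coset with index `i` -/
def certI (i : ℕ) : ℕ := certE (i / 315) (i % 315)

theorem coset_chk {i : ℕ} (hi : i < 239085) :
    cosetChk (l0T (i / 315)) (l1T (i / 9 % 35)) (l2T (i % 9)) (certI i) = true := by
  have h := row_chk (i0 := i / 315) (i1 := i / 9 % 35) (i2 := i % 9) (by omega)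
    (Nat.mod_lt _ (by norm_num)) (Nat.mod_lt _ (by norm_num))
  have e : 9 * (i / 9 % 35) + i % 9 = i % 315 := by omega
  rw [e] at h
  exact h

/-! ### The representatives -/

theorem reps_facts : (∀ k < 163, gkI k < 239085 ∧ ∀ x < 24, imgF (gkT k) x = cosF (gkI k) x) ∧
    (∀ j < 7, xjI j < 239085 ∧ ∀ x < 24, imgF (xjT j) x = cosF (xjI j) x) := by
  have h := reps_ok
  unfold repsOK at h
  simp only [forceN_eq] at h
  rw [Bool.and_eq_true, allF_eq_true, allF_eq_true] at h
  constructor
  · intro k hk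
    have h1 := h.1 k hk
    rw [Bool.and_eq_true, blt_iff] at h1
    exact ⟨h1.1, beq_all h1.2⟩
  · intro j hj
    have h1 := h.2 j hj
    rw [Bool.and_eq_true, blt_iff] at h1
    exact ⟨h1.1, beq_all h1.2⟩

/-- the representatives of the regular double cosets -/
noncomputable def gK (k : ℕ) : Gm := cosI (gkI k)

/-- the class representatives -/
noncomputable def xJ (j : ℕ) : Gm := cosI (xjI j)

theorem gK_rep {k : ℕ} (hk : k < 163) : R (gK k) (imgF (gkT k)) :=
  R_congr (cosI_rep (reps_facts.1 k hk).1) (fun x hx => ((reps_facts.1 k hk).2 x hx).symm)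

theorem xJ_rep {j : ℕ} (hj : j < 7) : R (xJ j) (imgF (xjT j)) :=
  R_congr (cosI_rep (reps_facts.2 j hj).1) (fun x hx => ((reps_facts.2 j hj).2 x hx).symm)

theorem cosI_rep' {i : ℕ} (hi : i < 239085) : R (cosI i)
    (fun x => imgF (l0T (i / 315)) (imgF (l1T (i / 9 % 35)) (imgF (l2T (i % 9)) x))) :=
  cosI_rep hi

/-! ### The certificates -/

/-- the kind of the certificate: `1` for the cosets in regular double cosets -/
def kindI (i : ℕ) : ℕ := Nat.land (certI i) 1

theorem cert_sound {i : ℕ} (hi : i < 239085) :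
    (kindI i = 0 ∧ ∃ u < 1024, ∃ v < 1024, u ≠ 1023 ∧ sA u * cosI i = cosI i * sA v) ∨
    (kindI i ≠ 0 ∧ ∃ k < 163, ∃ a < 1024, ∃ b < 1024, cosI i = sA a * gK k * sA b) := by
  have h := coset_chk hi
  unfold cosetChk at h
  rw [Bool.and_eq_true] at h
  have h1 := h.1
  unfold certChk at h1
  simp only [forceN_eq] at h1
  have hu : Nat.land (Nat.shiftRight (certI i) 1) 1023 < 1024 := f_lt _
  have hv : Nat.land (Nat.shiftRight (certI i) 11) 1023 < 1024 := f_lt _
  have hP := cosI_rep' hi
  cases hk : Nat.beq (Nat.land (certI i) 1) 0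
  · rw [hk, cond_false, Bool.and_eq_true, blt_iff] at h1
    right
    refine ⟨?_, _, h1.1, _, hu, _, hv, ?_⟩
    · intro e
      unfold kindI at e
      rw [e] at hk
      exact Bool.noConfusion hk
    · exact R_ext7 hP (R_mul (R_mul (sA_rep hu) (gK_rep h1.1)) (sA_rep hv)) h1.2
  · rw [hk, cond_true, Bool.and_eq_true] at h1
    left
    refine ⟨Nat.eq_of_beq_eq_true hk, _, hu, _, hv, ?_, ?_⟩
    · intro e
      rw [e] at h1
      exact absurd h1.1 (by decide)
    · exact R_ext7 (R_mul (sA_rep hu) hP) (R_mul hP (sA_rep hv)) h1.2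

theorem isPGroup_S : IsPGroup 2 S := Syl.isPGroup'

theorem reg (g : Gm) (hg : tw S g = ⊥) : ∃ k < 163, ∃ a ∈ S, ∃ b ∈ S, g = a * gK k * b := by
  obtain ⟨i, hi, c, hc, rfl⟩ := exists_decomp g
  rcases cert_sound hi with ⟨-, u, hu, v, hv, hne, e⟩ | ⟨-, k, hk, a, ha, b, hb, e⟩
  · exfalso
    have hmem : sA u ∈ tw S (cosI i * sA c) := by
      rw [mem_tw]
      refine ⟨sA_mem hu, ?_⟩
      have : (cosI i * sA c)⁻¹ * sA u * (cosI i * sA c) = (sA c)⁻¹ * sA v * sA c := by
        calc (cosI i * sA c)⁻¹ * sA u * (cosI i * sA c)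
            = (sA c)⁻¹ * (cosI i)⁻¹ * (sA u * cosI i) * sA c := by group
          _ = (sA c)⁻¹ * (cosI i)⁻¹ * (cosI i * sA v) * sA c := by rw [e]
          _ = _ := by group
      rw [this]
      exact S.mul_mem (S.mul_mem (S.inv_mem (sA_mem hc)) (sA_mem hv)) (sA_mem hc)
    rw [hg, Subgroup.mem_bot] at hmem
    exact hne (sA_inj hu (by norm_num) (hmem.trans sA_one.symm))
  · refine ⟨k, hk, sA a, sA_mem ha, sA b * sA c, S.mul_mem (sA_mem hb) (sA_mem hc), ?_⟩
    rw [e]
    group

theorem regs_all : ∀ q < 17, regsOK q = true := by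
  intro q hq
  interval_cases q
  · exact regs_ok0
  · exact regs_ok1
  · exact regs_ok2
  · exact regs_ok3
  · exact regs_ok4
  · exact regs_ok5
  · exact regs_ok6
  · exact regs_ok7
  · exact regs_ok8
  · exact regs_ok9
  · exact regs_ok10
  · exact regs_ok11
  · exact regs_ok12
  · exact regs_ok13
  · exact regs_ok14
  · exact regs_ok15
  · exact regs_ok16

theorem reg_chk {k : ℕ} (hk : k < 163) : regChk k = true := by
  have h := regs_all (k / 10) (by omega)
  unfold regsOK at h
  rw [allF_eq_true] at h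
  have h' := h (k % 10) (Nat.mod_lt _ (by norm_num))
  simp only [forceN_eq] at h'
  have e : Nat.add (Nat.mul 10 (k / 10)) (k % 10) = k := Nat.div_add_mod k 10
  rw [e, Bool.or_eq_true] at h'
  rcases h' with h' | h'
  · exact absurd (Nat.le_of_ble_eq_true h') (by omega)
  · exact h'

/-- the representatives are regular -/
theorem gK_reg {k : ℕ} (hk : k < 163) : tw S (gK k) = ⊥ := by
  by_contra hne
  have hT : IsPGroup 2 (tw S (gK k)) := isPGroup_S.to_le (fun z hz => hz.1)
  obtain ⟨n, hn⟩ := hT.exists_card_eq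
  have hn0 : n ≠ 0 := by
    rintro rfl
    rw [pow_zero] at hn
    exact hne (Subgroup.card_eq_one.mp hn)
  have h2 : 2 ∣ Nat.card (tw S (gK k)) := by
    rw [hn]
    exact dvd_pow_self 2 hn0
  obtain ⟨u, hu⟩ := exists_prime_orderOf_dvd_card' 2 h2
  have hu2 : orderOf (u : Gm) = 2 := by rw [Subgroup.orderOf_coe]; exact hu
  obtain ⟨a, ha, ea⟩ := exists_of_mem_S u.2.1
  obtain ⟨b, hb, eb⟩ := exists_of_mem_S u.2.2
  rw [ea] at eb hu2
  have hsq : sA a * sA a = 1 := by
    rw [← pow_two, ← hu2]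
    exact pow_orderOf_eq_one _
  have hne1 : sA a ≠ 1 := by
    intro h
    rw [h, orderOf_one] at hu2
    norm_num at hu2
  have hcomm : sA a * gK k = gK k * sA b := by
    rw [← eb]
    group
  have hkey : ∀ Rl : List (ℕ × ℕ), Rl.Nodup → Small Rl → PresG Rl (sA b) →
      kapF Rl (fun x => imgF (sT a) (imgF (gkT k) x)) = kapF Rl (imgF (gkT k)) := by
    intro Rl hnd hs hp
    rw [← kapG_eq hs (R_mul (sA_rep ha) (gK_rep hk)), ← kapG_eq hs (gK_rep hk), hcomm]
    exact kapG_mul hnd hs (gK k) hp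
  have sb := sA_mem hb
  have h := reg_chk hk
  unfold regChk at h
  simp only [forceN_eq] at h
  rw [allF_eq_true] at h
  have h1 := h a ha
  rw [Bool.or_eq_true, Bool.or_eq_true, Bool.or_eq_true, Bool.or_eq_true] at h1
  rcases h1 with h1 | h1 | h1 | h1 | h1
  · rw [all7_beq (R_apply (R_mul (sA_rep ha) (sA_rep ha)) R_one hsq)] at h1
    exact Bool.noConfusion h1
  · exact hne1 (R_ext7 (sA_rep ha) R_one h1)
  · rw [hkey R3 nodup_R3 small_R3 sb.2.2, Nat.beq_refl] at h1
    exact Bool.noConfusion h1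
  · rw [hkey R2 nodup_R2 small_R2 sb.2.1, Nat.beq_refl] at h1
    exact Bool.noConfusion h1
  · rw [hkey R1 nodup_R1 small_R1 sb.1, Nat.beq_refl] at h1
    exact Bool.noConfusion h1

end Cfsg.Agent.Lib.Helper61_M24Blk
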