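import Mathlib
import Cfsg.Agent.Lib.Helper61_M24Blk2

/-!
Group-theoretic facts about `M24` from the checked data (helper61), third part: the labels of the
elements of the regular double cosets, the class counts and their parities, and the representatives
of the regular double cosets lie in different double cosets.
-/

set_option autoImplicit false
open Cfsg
open Cfsg.Agent.Lib.Helper26_Golay
open Cfsg.Agent.Lib.Helper27_K0Affine
open Cfsg.Agent.Lib.Helper27_EnumGroup
open Cfsg.Agent.Lib.Helper61_M24BlkData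
open Cfsg.Agent.Lib.Helper61_M24BlkChk
open Cfsg.Agent.Lib.Helper61_DCoset

namespace Cfsg.Agent.Lib.Helper61_M24Blk

/-! ### The labels -/

theorem labs_all : ∀ q < 17, labsOK q = true := by
  intro q hq
  interval_cases q
  · exact labs_ok0
  · exact labs_ok1
  · exact labs_ok2
  · exact labs_ok3
  · exact labs_ok4
  · exact labs_ok5
  · exact labs_ok6
  · exact labs_ok7
  · exact labs_ok8
  · exact labs_ok9
  · exact labs_ok10
  · exact labs_ok11
  · exact labs_ok12
  · exact labs_ok13
  · exact labs_ok14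
  · exact labs_ok15
  · exact labs_ok16

theorem lab_row {k : ℕ} (hk : k < 163) : labRow k = true := by
  have h := labs_all (k / 10) (by omega)
  unfold labsOK at h
  rw [allF_eq_true] at h
  have h' := h (k % 10) (Nat.mod_lt _ (by norm_num))
  simp only [forceN_eq] at h'
  have e : Nat.add (Nat.mul 10 (k / 10)) (k % 10) = k := Nat.div_add_mod k 10
  rw [e, Bool.or_eq_true] at h'
  rcases h' with h' | h'
  · exact absurd (Nat.le_of_ble_eq_true h') (by omega)
  · exact h'

/-- the entry of an element of a regular double coset -/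
def labE (k a : ℕ) : ℕ := Nat.land (Nat.shiftRight (nth labL k) (Nat.mul 32 a)) 4294967295

/-- the label of an element of a regular double coset -/
def labAt (k a : ℕ) : ℕ := labOf (nth labL k) a

theorem land_land_mask (x m : ℕ) (hm : Nat.land 4294967295 m = m) :
    Nat.land (Nat.land x 4294967295) m = Nat.land x m := by
  show (x &&& 4294967295) &&& m = x &&& m
  rw [Nat.and_assoc]
  congr 1

theorem labE_land (k a : ℕ) : Nat.land (labE k a) 7 = labAt k a :=
  land_land_mask _ 7 (by decide)

theorem conj_of_mul_eq {G : Type*} [Group G] {w y x : G} (e : w * y = x * w) : IsConj y x := by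
  rw [isConj_iff]
  refine ⟨w, ?_⟩
  rw [e]
  group

theorem lab_sound {k a : ℕ} (hk : k < 163) (ha : a < 1024) :
    (labAt k a < 7 ∧ IsConj (sA a * gK k) (xJ (labAt k a))) ∨
    (¬ labAt k a < 7 ∧ ∃ c : Gm, c ≠ 1 ∧ c * c = 1 ∧ c * (sA a * gK k) = sA a * gK k * c) := by
  have h := lab_row hk
  unfold labRow at h
  simp only [forceN_eq] at h
  rw [allF_eq_true] at h
  have h2 := h a ha
  unfold labChk at h2
  simp only [forceN_eq] at h2
  rw [Bool.and_eq_true, blt_iff] at h2
  obtain ⟨hi, h3⟩ := h2
  have hl : Nat.land (Nat.land (Nat.shiftRight (nth labL k) (Nat.mul 32 a)) 4294967295) 7 =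
      labAt k a := labE_land k a
  rw [hl] at h3
  have hb : Nat.land (Nat.shiftRight (Nat.land (Nat.shiftRight (nth labL k) (Nat.mul 32 a))
      4294967295) 21) 1023 < 1024 := f_lt _
  have hW := R_mul (cosI_rep' hi) (sA_rep hb)
  have hy := R_mul (sA_rep ha) (gK_rep hk)
  cases hlt : Nat.blt (labAt k a) 7
  · rw [hlt, cond_false, Bool.and_eq_true, Bool.and_eq_true] at h3
    obtain ⟨e1, e2, e3⟩ := h3
    right
    have hne : ¬ labAt k a < 7 := by
      intro hh
      rw [← blt_iff, hlt] at hh
      exact Bool.false_ne_true hh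
    have h1 := R_ext7 (R_mul hW hW) R_one e1
    have h2 := R_ext7 (R_mul hW hy) (R_mul hy hW) e3
    refine ⟨hne, _, ?_, h1, h2⟩
    intro e
    have h7 := all7_beq (R_apply hW R_one e)
    rw [Bool.not_eq_true'] at e2
    exact Bool.false_ne_true (e2.symm.trans h7)
  · rw [hlt, cond_true] at h3
    have hl7 : labAt k a < 7 := (blt_iff _ _).1 hlt
    left
    refine ⟨hl7, ?_⟩
    exact conj_of_mul_eq (R_ext7 (R_mul hW hy) (R_mul (xJ_rep hl7) hW) h3)

/-! ### The class counts -/

theorem countF_eq (f : ℕ → Bool) (n : ℕ) :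
    countF f n = ((Finset.range n).filter (fun a => f a = true)).card := by
  induction n with
  | zero => rfl
  | succ n ih =>
    have : countF f (n + 1) = cond (f n) (Nat.succ (countF f n)) (countF f n) := rfl
    rw [this, Finset.range_add_one, Finset.filter_insert, ih]
    cases hf : f n
    · simp
    · simp

theorem sumF_eq (f : ℕ → ℕ) (n : ℕ) : sumF f n = ∑ k ∈ Finset.range n, f k := by
  induction n with
  | zero => rfl
  | succ n ih =>
    have : sumF f (n + 1) = Nat.add (sumF f n) (f n) := rfl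
    rw [this, Finset.sum_range_succ, ih]
    rfl

theorem forceV_eq (n : ℕ) (f : ℕ → ℕ) : forceV n f = f n := by
  cases n <;> rfl

theorem cntL_eq (k j : ℕ) :
    cntL k j = ((Finset.range 1024).filter (fun a => Nat.beq (labAt k a) j = true)).card := by
  unfold cntL
  rw [forceV_eq, countF_eq]
  rfl

theorem two_dvd_card_centralizer_of_conj {G : Type*} [Group G] [Finite G] {x y c : G}
    (h : IsConj x y) (hc1 : c ≠ 1) (hc2 : c * c = 1) (hc3 : c * y = y * c) :
    2 ∣ Nat.card (Subgroup.centralizer ({x} : Set G)) := by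
  obtain ⟨d, hd⟩ := isConj_iff.1 h
  have hmem : d⁻¹ * c * d ∈ Subgroup.centralizer ({x} : Set G) := by
    rw [Subgroup.mem_centralizer_iff]
    intro z hz
    rw [Set.mem_singleton_iff] at hz
    subst hz
    have hx : z = d⁻¹ * y * d := by rw [← hd]; group
    rw [hx]
    calc d⁻¹ * y * d * (d⁻¹ * c * d) = d⁻¹ * (y * c) * d := by group
      _ = d⁻¹ * (c * y) * d := by rw [hc3]
      _ = _ := by group
  have ho : orderOf (⟨d⁻¹ * c * d, hmem⟩ : Subgroup.centralizer ({x} : Set G)) = 2 := by
    apply orderOf_eq_prime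
    · apply Subtype.ext
      show (d⁻¹ * c * d) ^ 2 = 1
      rw [pow_two]
      calc d⁻¹ * c * d * (d⁻¹ * c * d) = d⁻¹ * (c * c) * d := by group
        _ = 1 := by rw [hc2]; group
    · intro e
      apply hc1
      have e' : d⁻¹ * c * d = 1 := congrArg Subtype.val e
      calc c = d * (d⁻¹ * c * d) * d⁻¹ := by group
        _ = 1 := by rw [e']; group
  rw [← ho]
  exact orderOf_dvd_natCard _

open Classical in
theorem cnt_eq (x g : Gm) :
    cnt S x g = ((Finset.range 1024).filter (fun a => IsConj x (sA a * g))).card := by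
  have hbij : Function.Bijective
      (fun a : {a // a ∈ (Finset.range 1024).filter (fun a => IsConj x (sA a * g))} =>
        (⟨⟨sA a.1, sA_mem (Finset.mem_range.1 (Finset.mem_filter.1 a.2).1)⟩,
          (Finset.mem_filter.1 a.2).2⟩ : {s : S // IsConj x ((s : Gm) * g)})) := by
    constructor
    · rintro ⟨a, ha⟩ ⟨b, hb⟩ h
      apply Subtype.ext
      have h' : sA a = sA b := congrArg (fun q => ((q.1 : S) : Gm)) h
      exact sA_inj (Finset.mem_range.1 (Finset.mem_filter.1 ha).1)
        (Finset.mem_range.1 (Finset.mem_filter.1 hb).1) h'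
    · rintro ⟨⟨s, hs'⟩, hs⟩
      obtain ⟨a, ha, rfl⟩ := exists_of_mem_S hs'
      exact ⟨⟨a, Finset.mem_filter.2 ⟨Finset.mem_range.2 ha, hs⟩⟩, rfl⟩
  unfold cnt
  rw [← Nat.card_congr (Equiv.ofBijective _ hbij), Nat.card_eq_fintype_card, Fintype.card_coe]

open Classical in
/-- the classes of elements with centraliser of odd order meeting the class of `x` -/
noncomputable def Jx (x : Gm) : Finset ℕ := (Finset.range 7).filter (fun j => IsConj x (xJ j))

/-- the count on a regular double coset, through the labels -/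
theorem cnt_formula {k : ℕ} (hk : k < 163) (x : Gm)
    (hx : ¬ 2 ∣ Nat.card (Subgroup.centralizer ({x} : Set Gm))) :
    cnt S x (gK k) = ∑ j ∈ Jx x, cntL k j := by
  classical
  rw [cnt_eq]
  have hiff : ∀ a ∈ Finset.range 1024, (IsConj x (sA a * gK k) ↔ labAt k a ∈ Jx x) := by
    intro a ha
    rw [Finset.mem_range] at ha
    rcases lab_sound hk ha with ⟨hl, hconj⟩ | ⟨hl, c, hc1, hc2, hc3⟩
    · unfold Jx
      rw [Finset.mem_filter, Finset.mem_range]
      constructor
      · intro h
        exact ⟨hl, h.trans hconj⟩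
      · intro h
        exact h.2.trans hconj.symm
    · constructor
      · intro h
        exact absurd (two_dvd_card_centralizer_of_conj h hc1 hc2 hc3) hx
      · intro h
        unfold Jx at h
        rw [Finset.mem_filter, Finset.mem_range] at h
        exact absurd h.1 hl
  rw [Finset.filter_congr hiff]
  have hfib := Finset.card_eq_sum_card_fiberwise (f := fun a => labAt k a)
    (s := (Finset.range 1024).filter (fun a => labAt k a ∈ Jx x)) (t := Jx x)
    (fun a ha => (Finset.mem_filter.1 ha).2)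
  rw [hfib]
  refine Finset.sum_congr rfl fun j hj => ?_
  rw [cntL_eq]
  have hset : ((Finset.range 1024).filter (fun a => labAt k a ∈ Jx x)).filter
      (fun a => labAt k a = j) =
      (Finset.range 1024).filter (fun a => Nat.beq (labAt k a) j = true) := by
    ext a
    simp only [Finset.mem_filter, Finset.mem_range]
    constructor
    · rintro ⟨⟨h1, -⟩, h3⟩
      exact ⟨h1, by rw [h3]; exact Nat.beq_refl _⟩
    · rintro ⟨h1, h2⟩
      have := Nat.eq_of_beq_eq_true h2
      exact ⟨⟨h1, by rw [this]; exact hj⟩, this⟩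
  rw [hset]

/-! ### The parities of the class counts -/

theorem xorF_testBit (g : ℕ → ℕ) (n j : ℕ) :
    (xorF (fun a => Nat.pow 2 (g a)) n).testBit j =
      decide (countF (fun a => Nat.beq (g a) j) n % 2 = 1) := by
  induction n with
  | zero => simp [xorF, countF]
  | succ n ih =>
    have e1 : xorF (fun a => Nat.pow 2 (g a)) (n + 1) =
        xorF (fun a => Nat.pow 2 (g a)) n ^^^ 2 ^ (g n) := rfl
    have e2 : countF (fun a => Nat.beq (g a) j) (n + 1) =
        cond (Nat.beq (g n) j) (Nat.succ (countF (fun a => Nat.beq (g a) j) n))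
          (countF (fun a => Nat.beq (g a) j) n) := rfl
    rw [e1, e2, Nat.testBit_xor, ih, Nat.testBit_two_pow]
    by_cases hj : g n = j
    · have hb : Nat.beq (g n) j = true := by rw [hj]; exact Nat.beq_refl _
      rw [hb, cond_true]
      rcases Nat.mod_two_eq_zero_or_one (countF (fun a => Nat.beq (g a) j) n) with h | h
      · have h' : Nat.succ (countF (fun a => Nat.beq (g a) j) n) % 2 = 1 := by omega
        simp [h, h', hj]
      · have h' : Nat.succ (countF (fun a => Nat.beq (g a) j) n) % 2 = 0 := by omega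
        simp [h, h', hj]
    · have hb : Nat.beq (g n) j = false := by
        cases hb' : Nat.beq (g n) j
        · rfl
        · exact absurd (Nat.eq_of_beq_eq_true hb') hj
      rw [hb, cond_false]
      simp [hj]

theorem bitB_eq (x j : ℕ) : bitB x j = x.testBit j := by
  unfold bitB
  have h1 : Nat.land (Nat.shiftRight x j) 1 = x / 2 ^ j % 2 := by
    show (x >>> j) &&& 1 = x / 2 ^ j % 2
    rw [Nat.and_one_is_mod, Nat.shiftRight_eq_div_pow]
  rw [h1, Nat.testBit_eq_decide_div_mod_eq]
  rcases Nat.mod_two_eq_zero_or_one (x / 2 ^ j) with h | h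
  · rw [h]; rfl
  · rw [h]; rfl

theorem pv_facts {k : ℕ} (hk : k < 163) (j : ℕ) :
    bitB (pvAt k) j = decide (cntL k j % 2 = 1) := by
  have h := pv_ok
  unfold pvOK at h
  rw [allF_eq_true] at h
  have h1 := h k hk
  unfold pvChk at h1
  simp only [forceN_eq] at h1
  have h2 := Nat.eq_of_beq_eq_true h1
  rw [bitB_eq, ← h2, xorF_testBit]
  unfold cntL
  rw [forceV_eq]

theorem mat_even {j j' : ℕ} (hj : j < 7) (hj' : j' < 7) :
    2 ∣ ∑ k ∈ Finset.range 163, cntL k j * cntL k j' := by
  have h := mat_ok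
  unfold matOK at h
  rw [allF_eq_true] at h
  have h1 := h j hj
  rw [allF_eq_true] at h1
  have h2 := Nat.eq_of_beq_eq_true (h1 j' hj')
  rw [countF_eq] at h2
  have hset : (Finset.range 163).filter (fun k => (bitB (pvAt k) j && bitB (pvAt k) j') = true) =
      (Finset.range 163).filter (fun k => cntL k j % 2 = 1 ∧ cntL k j' % 2 = 1) := by
    apply Finset.filter_congr
    intro k hk
    rw [Finset.mem_range] at hk
    rw [pv_facts hk, pv_facts hk, Bool.and_eq_true, decide_eq_true_eq, decide_eq_true_eq]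
  rw [hset] at h2
  apply Nat.dvd_of_mod_eq_zero
  rw [Finset.sum_nat_mod]
  have hterm : ∀ k ∈ Finset.range 163, cntL k j * cntL k j' % 2 =
      if cntL k j % 2 = 1 ∧ cntL k j' % 2 = 1 then 1 else 0 := by
    intro k _
    rw [Nat.mul_mod]
    rcases Nat.mod_two_eq_zero_or_one (cntL k j) with h | h <;>
    rcases Nat.mod_two_eq_zero_or_one (cntL k j') with h' | h' <;>
    simp [h, h']
  rw [Finset.sum_congr rfl hterm, Finset.sum_boole]
  exact h2

/-- the sum over the regular double cosets of the products of the counts is even -/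
theorem hsum (x y : Gm) (hx : ¬ 2 ∣ Nat.card (Subgroup.centralizer ({x} : Set Gm)))
    (hy : ¬ 2 ∣ Nat.card (Subgroup.centralizer ({y} : Set Gm))) :
    2 ∣ ∑ k ∈ Finset.range 163, cnt S x (gK k) * cnt S y (gK k) := by
  have e : ∀ k ∈ Finset.range 163, cnt S x (gK k) * cnt S y (gK k) =
      ∑ j ∈ Jx x, ∑ j' ∈ Jx y, cntL k j * cntL k j' := by
    intro k hk
    rw [Finset.mem_range] at hk
    rw [cnt_formula hk x hx, cnt_formula hk y hy, Finset.sum_mul_sum]
  rw [Finset.sum_congr rfl e, Finset.sum_comm]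
  apply Finset.dvd_sum
  intro j hj
  rw [Finset.sum_comm]
  apply Finset.dvd_sum
  intro j' hj'
  have hj7 : j < 7 := by
    unfold Jx at hj
    exact Finset.mem_range.1 (Finset.mem_filter.1 hj).1
  have hj7' : j' < 7 := by
    unfold Jx at hj'
    exact Finset.mem_range.1 (Finset.mem_filter.1 hj').1
  exact mat_even hj7 hj7'

/-! ### The representatives lie in different double cosets -/

set_option linter.constructorNameAsVariable false

/-- the kind of the certificate of the coset with indices `i0` and `c` -/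
def kb (i0 c : ℕ) : Bool :=
  Nat.beq (Nat.land (Nat.shiftRight (nth certL i0) (Nat.mul 32 c)) 1) 1

theorem kindI_eq {i0 c : ℕ} (hc : c < 315) :
    kindI (315 * i0 + c) = Nat.land (Nat.shiftRight (nth certL i0) (Nat.mul 32 c)) 1 := by
  unfold kindI certI certE
  have e0 : (315 * i0 + c) / 315 = i0 := by omega
  have e1 : (315 * i0 + c) % 315 = c := by omega
  rw [e0, e1]
  exact land_land_mask _ 1 (by decide)

/-- the cosets in regular double cosets -/
def regSet : Finset (Σ _ : ℕ, ℕ) :=
  (Finset.range 759).sigma (fun i0 => (Finset.range 315).filter (fun c => kb i0 c = true))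

theorem card_regSet : regSet.card = 166912 := by
  unfold regSet
  rw [Finset.card_sigma]
  have h2 := regCnt_ok
  unfold regCnt at h2
  rw [sumF_eq] at h2
  rw [← h2]
  refine Finset.sum_congr rfl fun i0 _ => ?_
  rw [forceV_eq, countF_eq]
  rfl

/-- the double coset of a representative -/
noncomputable def dcK (j : ℕ) : Finset Gm := dcosetFinset S (gK j)

theorem mem_dcK {j : ℕ} {g : Gm} : g ∈ dcK j ↔ ∃ a ∈ S, ∃ b ∈ S, g = a * gK j * b :=
  mem_dcosetFinset

theorem card_dcK_le (j : ℕ) : (dcK j).card ≤ 1048576 := by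
  have h := card_dcosetFinset_le S (gK j)
  rw [card_S] at h
  exact h

/-- the element of a coset in a regular double coset and an index -/
noncomputable def psi (q : (Σ _ : ℕ, ℕ) × ℕ) : Gm := cosI (315 * q.1.1 + q.1.2) * sA q.2

/-- the cosets in regular double cosets, with an index -/
def regProd : Finset ((Σ _ : ℕ, ℕ) × ℕ) := regSet ×ˢ Finset.range 1024

theorem mem_regProd {i0 c a : ℕ} : ((⟨i0, c⟩, a) : (Σ _ : ℕ, ℕ) × ℕ) ∈ regProd ↔
    i0 < 759 ∧ c < 315 ∧ kb i0 c = true ∧ a < 1024 := by
  unfold regProd regSet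
  rw [Finset.mem_product, Finset.mem_sigma, Finset.mem_range, Finset.mem_filter, Finset.mem_range,
    Finset.mem_range]
  tauto

theorem card_regProd : regProd.card = 170917888 := by
  unfold regProd
  rw [Finset.card_product, card_regSet, Finset.card_range]

attribute [irreducible] regProd regSet

theorem psi_injOn : Set.InjOn psi (regProd : Set ((Σ _ : ℕ, ℕ) × ℕ)) := by
  rintro ⟨⟨i0, c⟩, a⟩ hq ⟨⟨j0, d⟩, b⟩ hq' e
  rw [Finset.mem_coe, mem_regProd] at hq hq'
  obtain ⟨h1, h2, -, h4⟩ := hq
  obtain ⟨h1', h2', -, h4'⟩ := hq'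
  have e' : cosI (315 * i0 + c) * sA a = cosI (315 * j0 + d) * sA b := e
  obtain ⟨e1, e2⟩ := decomp_inj (by omega) (by omega) h4 h4' e'
  have e3 : i0 = j0 := by omega
  have e4 : c = d := by omega
  rw [e3, e4, e2]

theorem psi_mem {i0 c a : ℕ} (hq : ((⟨i0, c⟩, a) : (Σ _ : ℕ, ℕ) × ℕ) ∈ regProd) :
    ∃ k0 < 163, psi (⟨i0, c⟩, a) ∈ dcK k0 := by
  rw [mem_regProd] at hq
  obtain ⟨h1, h2, h3, h4⟩ := hq
  have hi : 315 * i0 + c < 239085 := by omega
  have hkind : kindI (315 * i0 + c) ≠ 0 := by
    rw [kindI_eq h2]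
    unfold kb at h3
    rw [Nat.eq_of_beq_eq_true h3]
    norm_num
  rcases cert_sound hi with ⟨hz, -⟩ | ⟨-, k0, hk0, a', ha', b', hb', e⟩
  · exact absurd hz hkind
  · refine ⟨k0, hk0, ?_⟩
    rw [mem_dcK]
    refine ⟨sA a', sA_mem ha', sA b' * sA a, S.mul_mem (sA_mem hb') (sA_mem h4), ?_⟩
    show cosI (315 * i0 + c) * sA a = sA a' * gK k0 * (sA b' * sA a)
    rw [e]
    group

theorem dcK_subset {k k' : ℕ} (h : ∃ a ∈ S, ∃ b ∈ S, gK k' = a * gK k * b) : dcK k' ⊆ dcK k := by
  obtain ⟨a0, ha0, b0, hb0, e0⟩ := h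
  intro g hg
  rw [mem_dcK] at hg ⊢
  obtain ⟨a, ha, b, hb, rfl⟩ := hg
  refine ⟨a * a0, S.mul_mem ha ha0, b0 * b, S.mul_mem hb0 hb, ?_⟩
  rw [e0]
  group

theorem gK_disj {k k' : ℕ} (hk : k < 163) (hk' : k' < 163)
    (h : ∃ a ∈ S, ∃ b ∈ S, gK k' = a * gK k * b) : k = k' := by
  classical
  by_contra hne
  have hsub := dcK_subset h
  have himg : regProd.image psi ⊆ ((Finset.range 163).erase k').biUnion dcK := by
    intro g hg
    rw [Finset.mem_image] at hg
    obtain ⟨⟨⟨i0, c⟩, a⟩, hq, rfl⟩ := hg
    obtain ⟨k0, hk0, hm⟩ := psi_mem hq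
    rw [Finset.mem_biUnion]
    by_cases hkk : k0 = k'
    · refine ⟨k, Finset.mem_erase.2 ⟨hne, Finset.mem_range.2 hk⟩, hsub ?_⟩
      rw [← hkk]
      exact hm
    · exact ⟨k0, Finset.mem_erase.2 ⟨hkk, Finset.mem_range.2 hk0⟩, hm⟩
  have hc1 : (regProd.image psi).card = 170917888 := by
    rw [Finset.card_image_of_injOn psi_injOn, card_regProd]
  have hc2 : (((Finset.range 163).erase k').biUnion dcK).card ≤ 162 * 1048576 := by
    refine (Finset.card_biUnion_le).trans ?_
    refine (Finset.sum_le_sum (fun j _ => card_dcK_le j)).trans ?_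
    rw [Finset.sum_const, Finset.card_erase_of_mem (Finset.mem_range.2 hk'), Finset.card_range,
      smul_eq_mul]
  have hc3 := Finset.card_le_card himg
  rw [hc1] at hc3
  omega

end Cfsg.Agent.Lib.Helper61_M24Blk
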