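import Mathlib
import Cfsg.Agent.Lib.Helper61_M24Blk3

/-!
Group-theoretic facts about `M24` from the checked data (helper61), fourth part: the two classes of
involutions, and the normal self-centralising 2-subgroups of the centralisers of their
representatives.
-/

set_option autoImplicit false
open Cfsg
open Cfsg.Agent.Lib.Helper26_Golay
open Cfsg.Agent.Lib.Helper27_K0Affine
open Cfsg.Agent.Lib.Helper27_EnumGroup
open Cfsg.Agent.Lib.Helper61_M24BlkData
open Cfsg.Agent.Lib.Helper61_M24BlkChk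
open Cfsg.Agent.Lib.Helper61_DCoset

namespace Cfsg.Agent.Lib.Helper61_M24Blk

/-! ### The involutions -/

theorem inv_sound {a : ℕ} (ha : a < 1024) (hne : sA a ≠ 1) (hsq : sA a * sA a = 1) :
    IsConj (sA a) (sA 12) ∨ IsConj (sA a) (sA 401) := by
  have h := inv_ok
  unfold invOK at h
  rw [allF_eq_true] at h
  have h1 := h a ha
  unfold invChk at h1
  simp only [forceN_eq] at h1
  rw [Bool.or_eq_true, Bool.or_eq_true] at h1
  rcases h1 with h1 | h1 | h1
  · exact absurd (R_ext7 (sA_rep ha) R_one h1) hne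
  · exfalso
    have h7 := all7_beq (R_apply (R_mul (sA_rep ha) (sA_rep ha)) R_one hsq)
    rw [Bool.not_eq_true'] at h1
    exact Bool.false_ne_true (h1.symm.trans h7)
  · rw [Bool.and_eq_true, blt_iff] at h1
    obtain ⟨hi, h2⟩ := h1
    have hb : Nat.land (Nat.shiftRight (Nat.land (Nat.shiftRight INVC (Nat.mul 32 a))
        4294967295) 19) 1023 < 1024 := f_lt _
    have hW := R_mul (cosI_rep' hi) (sA_rep hb)
    cases hc : Nat.beq (Nat.land (Nat.land (Nat.shiftRight INVC (Nat.mul 32 a)) 4294967295) 1) 0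
    · rw [hc, cond_false] at h2
      right
      exact conj_of_mul_eq (R_ext7 (R_mul hW (sA_rep ha))
        (R_mul (sA_rep (by norm_num : 401 < 1024)) hW) h2)
    · rw [hc, cond_true] at h2
      left
      exact conj_of_mul_eq (R_ext7 (R_mul hW (sA_rep ha))
        (R_mul (sA_rep (by norm_num : 12 < 1024)) hW) h2)

theorem exists_conj_mem_sylow {G : Type*} [Group G] [Finite G] (p : ℕ) [Fact p.Prime]
    (P : Sylow p G) (t : G) (ht : orderOf t = p) : ∃ c : G, c * t * c⁻¹ ∈ (P : Subgroup G) := by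
  have hpg : IsPGroup p (Subgroup.zpowers t) := by
    apply IsPGroup.of_card (n := 1)
    rw [Nat.card_zpowers, ht, pow_one]
  obtain ⟨Q, hQ⟩ := hpg.exists_le_sylow
  obtain ⟨g, hg⟩ := MulAction.exists_smul_eq G Q P
  refine ⟨g, ?_⟩
  rw [← hg, Sylow.coe_subgroup_smul]
  have : g * t * g⁻¹ = MulAut.conj g • t := by
    rw [MulAut.smul_def, MulAut.conj_apply]
  rw [this]
  exact Subgroup.smul_mem_pointwise_smul _ _ _ (hQ (Subgroup.mem_zpowers t))

/-- there are two classes of involutions -/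
theorem invol_conj (t : Gm) (ht : orderOf t = 2) : IsConj t (sA 12) ∨ IsConj t (sA 401) := by
  obtain ⟨c, hc⟩ := exists_conj_mem_sylow 2 Syl t ht
  rw [coe_Syl] at hc
  obtain ⟨a, ha, e⟩ := exists_of_mem_S hc
  have ht2 : t * t = 1 := by
    rw [← pow_two, ← ht]
    exact pow_orderOf_eq_one t
  have ht1 : t ≠ 1 := by
    intro h
    rw [h, orderOf_one] at ht
    norm_num at ht
  have hsq : sA a * sA a = 1 := by
    rw [← e]
    calc c * t * c⁻¹ * (c * t * c⁻¹) = c * (t * t) * c⁻¹ := by group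
      _ = 1 := by rw [ht2]; group
  have hne : sA a ≠ 1 := by
    intro h
    apply ht1
    rw [h] at e
    calc t = c⁻¹ * (c * t * c⁻¹) * c := by group
      _ = 1 := by rw [e]; group
  have h1 : IsConj t (sA a) := isConj_iff.2 ⟨c, e⟩
  rcases inv_sound ha hne hsq with h2 | h2
  · exact Or.inl (h1.trans h2)
  · exact Or.inr (h1.trans h2)

/-! ### The normal subgroups of the centralisers -/

/-- the listed elements of a normal subgroup -/
noncomputable def qE (Q j : ℕ) : Gm := sA (qAt Q j)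

theorem qAt_lt (Q j : ℕ) : qAt Q j < 1024 := f_lt _

theorem qE_rep (Q j : ℕ) : R (qE Q j) (imgF (sT (qAt Q j))) := sA_rep (qAt_lt Q j)

/-- the subgroup generated by the first `ng` listed elements -/
noncomputable def QG (Q ng : ℕ) : Subgroup Gm := Subgroup.closure {g | ∃ j < ng, g = qE Q j}

theorem QG_le_S (Q ng : ℕ) : QG Q ng ≤ S := by
  unfold QG
  rw [Subgroup.closure_le]
  rintro _ ⟨j, -, rfl⟩
  exact sA_mem (qAt_lt Q j)

section Cent

variable {c0 : ℕ} {U : List ℕ} {Q QS ng nQ : ℕ}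

theorem q_facts (hq : qChk c0 Q QS ng nQ = true) (hc0 : c0 < 1024) :
    (∀ j < ng, qE Q j * sA c0 = sA c0 * qE Q j) ∧
    (∀ j < nQ, j < ng ∨ ∃ p < j, ∃ p' < j, qE Q j = qE Q p * qE Q p') := by
  unfold qChk at hq
  simp only [forceN_eq] at hq
  rw [Bool.and_eq_true, allF_eq_true, allF_eq_true] at hq
  constructor
  · intro j hj
    exact R_ext7 (R_mul (qE_rep Q j) (sA_rep hc0)) (R_mul (sA_rep hc0) (qE_rep Q j)) (hq.1 j hj)
  · intro j hj
    have h1 := hq.2 j hj
    rw [Bool.or_eq_true] at h1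
    rcases h1 with h1 | h1
    · exact Or.inl ((blt_iff _ _).1 h1)
    · rw [Bool.and_eq_true, Bool.and_eq_true, blt_iff, blt_iff] at h1
      exact Or.inr ⟨_, h1.1, _, h1.2.1, R_ext7 (qE_rep Q j) (R_mul (qE_rep Q _) (qE_rep Q _)) h1.2.2⟩

theorem qE_mem (hq : qChk c0 Q QS ng nQ = true) (hc0 : c0 < 1024) :
    ∀ j < nQ, qE Q j ∈ QG Q ng := by
  intro j
  induction j using Nat.strong_induction_on with
  | _ j ih =>
    intro hj
    rcases (q_facts hq hc0).2 j hj with h | ⟨p, hp, p', hp', e⟩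
    · exact Subgroup.subset_closure ⟨j, h, rfl⟩
    · rw [e]
      exact (QG Q ng).mul_mem (ih p hp (by omega)) (ih p' hp' (by omega))

theorem QG_comm (hq : qChk c0 Q QS ng nQ = true) (hc0 : c0 < 1024) :
    ∀ n ∈ QG Q ng, n * sA c0 = sA c0 * n := by
  intro n hn
  unfold QG at hn
  induction hn using Subgroup.closure_induction with
  | mem x hx =>
    obtain ⟨j, hj, rfl⟩ := hx
    exact (q_facts hq hc0).1 j hj
  | one => rw [one_mul, mul_one]
  | mul x y _ _ hx hy =>
    calc x * y * sA c0 = x * (y * sA c0) := by group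
      _ = x * (sA c0 * y) := by rw [hy]
      _ = (x * sA c0) * y := by group
      _ = sA c0 * x * y := by rw [hx]
      _ = _ := by group
  | inv x _ hx =>
    calc x⁻¹ * sA c0 = x⁻¹ * (sA c0 * x) * x⁻¹ := by group
      _ = x⁻¹ * (x * sA c0) * x⁻¹ := by rw [hx]
      _ = _ := by group

/-- the soundness of the check on the centraliser -/
theorem cent_sound (hc0 : c0 < 1024) (hU : ∀ u ∈ U, u < 1024)
    (hconj : ∀ a < 1024, ∃ u ∈ U, sA a * sA c0 = sA u * sA a)
    (hchk : ∀ i < 239085,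
      centChk c0 U Q ng nQ (l0T (i / 315)) (l1T (i / 9 % 35)) (l2T (i % 9)) = true)
    (g : Gm) (hg : g * sA c0 = sA c0 * g) :
    (∀ j < ng, ∃ j' < nQ, g * qE Q j = qE Q j' * g) ∧
    ((∀ j < ng, g * qE Q j = qE Q j * g) → ∃ j' < nQ, g = qE Q j') := by
  obtain ⟨i, hi, a, ha, rfl⟩ := exists_decomp g
  obtain ⟨u, huU, hu⟩ := hconj a ha
  have hu' := hU u huU
  have hP := cosI_rep' hi
  have hcomm : cosI i * sA u = sA c0 * cosI i := by
    have h1 : cosI i * sA u * sA a = sA c0 * cosI i * sA a := by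
      calc cosI i * sA u * sA a = cosI i * (sA u * sA a) := by group
        _ = cosI i * (sA a * sA c0) := by rw [hu]
        _ = cosI i * sA a * sA c0 := by group
        _ = sA c0 * (cosI i * sA a) := hg
        _ = _ := by group
    exact mul_right_cancel h1
  have h := hchk i hi
  unfold centChk at h
  rw [List.all_eq_true] at h
  have h1 := h u huU
  simp only [forceN_eq] at h1
  rw [Bool.or_eq_true] at h1
  rcases h1 with h1 | h1
  · exfalso
    have h7 := all7_beq (R_apply (R_mul hP (sA_rep hu')) (R_mul (sA_rep hc0) hP) hcomm)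
    rw [Bool.not_eq_true'] at h1
    exact Bool.false_ne_true (h1.symm.trans h7)
  · rw [allF_eq_true] at h1
    have h2 := h1 a ha
    rw [Bool.or_eq_true] at h2
    rcases h2 with h2 | h2
    · exfalso
      have h7 := all7_beq (R_apply (R_mul (sA_rep ha) (sA_rep hc0)) (R_mul (sA_rep hu') (sA_rep ha)) hu)
      rw [Bool.not_eq_true'] at h2
      exact Bool.false_ne_true (h2.symm.trans h7)
    · unfold centElt at h2
      simp only [forceN_eq] at h2
      rw [Bool.and_eq_true, allF_eq_true] at h2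
      have hG := R_mul hP (sA_rep ha)
      constructor
      · intro j hj
        have h3 := h2.1 j hj
        rw [anyG_eq_true] at h3
        obtain ⟨j', hj', h4⟩ := h3
        exact ⟨j', hj', R_ext7 (R_mul hG (qE_rep Q j)) (R_mul (qE_rep Q j') hG) h4⟩
      · intro hcen
        have h3 := h2.2
        rw [Bool.or_eq_true, anyG_eq_true, anyG_eq_true] at h3
        rcases h3 with ⟨j, hj, h4⟩ | ⟨j', hj', h4⟩
        · exfalso
          have h7 := all7_beq (R_apply (R_mul hG (qE_rep Q j)) (R_mul (qE_rep Q j) hG) (hcen j hj))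
          rw [Bool.not_eq_true'] at h4
          exact Bool.false_ne_true (h4.symm.trans h7)
        · exact ⟨j', hj', R_ext7 hG (qE_rep Q j') h4⟩

theorem QG_normal (hq : qChk c0 Q QS ng nQ = true) (hc0 : c0 < 1024) (hU : ∀ u ∈ U, u < 1024)
    (hconj : ∀ a < 1024, ∃ u ∈ U, sA a * sA c0 = sA u * sA a)
    (hchk : ∀ i < 239085,
      centChk c0 U Q ng nQ (l0T (i / 315)) (l1T (i / 9 % 35)) (l2T (i % 9)) = true)
    (g : Gm) (hg : g * sA c0 = sA c0 * g) (n : Gm) (hn : n ∈ QG Q ng) :
    g * n * g⁻¹ ∈ QG Q ng := by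
  have hs := (cent_sound hc0 hU hconj hchk g hg).1
  have hn' := hn
  unfold QG at hn'
  induction hn' using Subgroup.closure_induction with
  | mem x hx =>
    obtain ⟨j, hj, rfl⟩ := hx
    obtain ⟨j', hj', e⟩ := hs j hj
    rw [e]
    have : qE Q j' * g * g⁻¹ = qE Q j' := by group
    rw [this]
    exact qE_mem hq hc0 j' hj'
  | one =>
    have : g * 1 * g⁻¹ = 1 := by group
    rw [this]
    exact (QG Q ng).one_mem
  | mul x y hx' hy' hx hy =>
    have : g * (x * y) * g⁻¹ = (g * x * g⁻¹) * (g * y * g⁻¹) := by group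
    rw [this]
    exact (QG Q ng).mul_mem (hx hx') (hy hy')
  | inv x hx' hx =>
    have : g * x⁻¹ * g⁻¹ = (g * x * g⁻¹)⁻¹ := by group
    rw [this]
    exact (QG Q ng).inv_mem (hx hx')

theorem QG_selfcent (hq : qChk c0 Q QS ng nQ = true) (hc0 : c0 < 1024) (hU : ∀ u ∈ U, u < 1024)
    (hconj : ∀ a < 1024, ∃ u ∈ U, sA a * sA c0 = sA u * sA a)
    (hchk : ∀ i < 239085,
      centChk c0 U Q ng nQ (l0T (i / 315)) (l1T (i / 9 % 35)) (l2T (i % 9)) = true)
    (g : Gm) (hg : g * sA c0 = sA c0 * g) (hcen : ∀ n ∈ QG Q ng, g * n = n * g) :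
    g ∈ QG Q ng := by
  obtain ⟨j', hj', e⟩ := (cent_sound hc0 hU hconj hchk g hg).2
    (fun j hj => hcen _ (Subgroup.subset_closure ⟨j, hj, rfl⟩))
  rw [e]
  exact qE_mem hq hc0 j' hj'

end Cent

/-! ### The two cases -/

theorem conj_facts : (∀ a < 1024, sA a * sA 12 = sA 12 * sA a) ∧
    (∀ a < 1024, sA a * sA 401 = sA 401 * sA a ∨ sA a * sA 401 = sA 578 * sA a) := by
  have h := conj_ok
  unfold conjOK at h
  simp only [forceN_eq] at h
  rw [Bool.and_eq_true, allF_eq_true, allF_eq_true] at h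
  constructor
  · intro a ha
    exact R_ext7 (R_mul (sA_rep ha) (sA_rep (by norm_num))) (R_mul (sA_rep (by norm_num)) (sA_rep ha))
      (h.1 a ha)
  · intro a ha
    have h1 := h.2 a ha
    rw [Bool.or_eq_true] at h1
    rcases h1 with h1 | h1
    · exact Or.inl (R_ext7 (R_mul (sA_rep ha) (sA_rep (by norm_num)))
        (R_mul (sA_rep (by norm_num)) (sA_rep ha)) h1)
    · exact Or.inr (R_ext7 (R_mul (sA_rep ha) (sA_rep (by norm_num)))
        (R_mul (sA_rep (by norm_num)) (sA_rep ha)) h1)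

theorem qA_ok : qChk 12 EAI EAS 4 16 = true := by
  have h := q_ok
  unfold qOK at h
  rw [Bool.and_eq_true] at h
  exact h.1

theorem qB_ok : qChk 401 QBI QBS 6 64 = true := by
  have h := q_ok
  unfold qOK at h
  rw [Bool.and_eq_true] at h
  exact h.2

theorem centA_chk {i : ℕ} (hi : i < 239085) :
    centChk 12 [12] EAI 4 16 (l0T (i / 315)) (l1T (i / 9 % 35)) (l2T (i % 9)) = true := by
  have h := coset_chk hi
  unfold cosetChk at h
  rw [Bool.and_eq_true, Bool.and_eq_true] at h
  exact h.2.1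

theorem centB_chk {i : ℕ} (hi : i < 239085) :
    centChk 401 [401, 578] QBI 6 64 (l0T (i / 315)) (l1T (i / 9 % 35)) (l2T (i % 9)) = true := by
  have h := coset_chk hi
  unfold cosetChk at h
  rw [Bool.and_eq_true, Bool.and_eq_true] at h
  exact h.2.2

theorem hUA : ∀ u ∈ [12], u < 1024 := by decide

theorem hUB : ∀ u ∈ [401, 578], u < 1024 := by decide

theorem hconjA : ∀ a < 1024, ∃ u ∈ [12], sA a * sA 12 = sA u * sA a :=
  fun a ha => ⟨12, by simp, conj_facts.1 a ha⟩

theorem hconjB : ∀ a < 1024, ∃ u ∈ [401, 578], sA a * sA 401 = sA u * sA a := by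
  intro a ha
  rcases conj_facts.2 a ha with h | h
  · exact ⟨401, by simp, h⟩
  · exact ⟨578, by simp, h⟩

/-- the normal subgroup of order 16 of the centraliser of the central involution -/
noncomputable def QA : Subgroup Gm := QG EAI 4

/-- the normal subgroup of order 64 of the centraliser of the other involution -/
noncomputable def QB : Subgroup Gm := QG QBI 6

theorem QA_le_S : QA ≤ S := QG_le_S _ _

theorem QB_le_S : QB ≤ S := QG_le_S _ _

theorem QA_comm : ∀ n ∈ QA, n * sA 12 = sA 12 * n := QG_comm qA_ok (by norm_num)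

theorem QB_comm : ∀ n ∈ QB, n * sA 401 = sA 401 * n := QG_comm qB_ok (by norm_num)

theorem QA_normal (g : Gm) (hg : g * sA 12 = sA 12 * g) (n : Gm) (hn : n ∈ QA) :
    g * n * g⁻¹ ∈ QA :=
  QG_normal qA_ok (by norm_num) hUA hconjA (fun _ hi => centA_chk hi) g hg n hn

theorem QB_normal (g : Gm) (hg : g * sA 401 = sA 401 * g) (n : Gm) (hn : n ∈ QB) :
    g * n * g⁻¹ ∈ QB :=
  QG_normal qB_ok (by norm_num) hUB hconjB (fun _ hi => centB_chk hi) g hg n hn

theorem QA_selfcent (g : Gm) (hg : g * sA 12 = sA 12 * g) (hcen : ∀ n ∈ QA, g * n = n * g) :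
    g ∈ QA :=
  QG_selfcent qA_ok (by norm_num) hUA hconjA (fun _ hi => centA_chk hi) g hg hcen

theorem QB_selfcent (g : Gm) (hg : g * sA 401 = sA 401 * g) (hcen : ∀ n ∈ QB, g * n = n * g) :
    g ∈ QB :=
  QG_selfcent qB_ok (by norm_num) hUB hconjB (fun _ hi => centB_chk hi) g hg hcen

end Cfsg.Agent.Lib.Helper61_M24Blk
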