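import Cfsg.Agent.Lib.Helper6_MXDefs

/-!
# S4017 market (architect helper6), package MX-F6B: `simple_odd`

A normal subgroup of odd order is a `p`-group: for a prime `s ≠ p` dividing `|N|`, a Sylow `s`-subgroup `S` of `N` has a
normalizer of even order (Frattini), so an involution normalizes `S`, which `hrs` forbids.
-/

set_option autoImplicit false
open Cfsg.Agent.Lib.Helper6_MXDefs

namespace Cfsg.Agent.Lib.Helper61_MX_F6B

/-- Frattini: the index of a normal subgroup divides the order of the normalizer of any of its Sylow subgroups. -/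
theorem index_dvd_card_normalizer {G : Type*} [Group G] [Finite G] {s : ℕ} [Fact s.Prime]
    (N : Subgroup G) [N.Normal] (S : Sylow s ↥N) :
    N.index ∣ Nat.card (Subgroup.normalizer ((S.map N.subtype : Subgroup G) : Set G)) := by
  have h1 := Sylow.normalizer_sup_eq_top S
  have h2 : N.relIndex (Subgroup.normalizer ((S.map N.subtype : Subgroup G) : Set G) ⊔ N) =
      N.relIndex (Subgroup.normalizer ((S.map N.subtype : Subgroup G) : Set G)) :=
    Subgroup.relIndex_sup_right _ _
  rw [h1, Subgroup.relIndex_top_right] at h2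
  rw [h2]
  exact Subgroup.relIndex_dvd_card _ _

/-- a cyclic group of prime order `r` is an `r`-group -/
theorem isPGroup_zpowers_of_orderOf {G : Type*} [Group G] {r : ℕ} {g : G} (hg : orderOf g = r) :
    IsPGroup r (Subgroup.zpowers g) := by
  apply IsPGroup.of_card (n := 1)
  rw [Nat.card_zpowers, hg, pow_one]

theorem zpowers_ne_bot_of_orderOf {G : Type*} [Group G] {r : ℕ} (hr : r.Prime) {g : G}
    (hg : orderOf g = r) : Subgroup.zpowers g ≠ ⊥ := by
  intro h
  rw [Subgroup.zpowers_eq_bot] at h
  rw [h, orderOf_one] at hg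
  exact hr.ne_one hg.symm

/-- MX-F6B. -/
theorem simple_odd {G : Type*} [Group G] [Finite G] {p a : ℕ} {Q : Subgroup G} {x : G}
    (h0 : Ctx0 G p a Q x)
    (hrs : ∀ (U R : Subgroup G) (r : ℕ), r.Prime → r ≠ p → r ≠ 2 → IsPGroup 2 U → U ≠ ⊥ →
      IsPGroup r R → R ≠ ⊥ →
      (U ≤ Subgroup.normalizer (R : Set G) ∨ R ≤ Subgroup.normalizer (U : Set G)) → False)
    (N : Subgroup G) (hN : N.Normal) (hN2 : ¬ 2 ∣ Nat.card N) : IsPGroup p N := by
  have hcardN : Nat.card N ≠ 0 := Nat.card_pos.ne'
  have hall : ∀ {s : ℕ}, s.Prime → s ∣ Nat.card N → s = p := by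
    intro s hs hsN
    by_contra hsp
    have hs2 : s ≠ 2 := by
      intro h
      rw [h] at hsN
      exact hN2 hsN
    have : Fact s.Prime := ⟨hs⟩
    have : Fact (Nat.Prime 2) := ⟨Nat.prime_two⟩
    obtain ⟨S⟩ : Nonempty (Sylow s ↥N) := inferInstance
    set R : Subgroup G := S.map N.subtype with hR
    -- `R` is a nontrivial `s`-group
    have hRp : IsPGroup s R := by
      rw [hR]
      exact S.2.map N.subtype
    have hRne : R ≠ ⊥ := by
      intro h
      have h1 : (S : Subgroup ↥N) = ⊥ := by
        rw [hR, Subgroup.map_eq_bot_iff_of_injective _ (Subgroup.subtype_injective N)] at h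
        exact h
      have h2 := S.card_eq_multiplicity
      rw [h1, Subgroup.card_bot] at h2
      have h3 : 0 < (Nat.card ↥N).factorization s :=
        hs.factorization_pos_of_dvd hcardN hsN
      have h4 : 1 < s ^ (Nat.card ↥N).factorization s := Nat.one_lt_pow h3.ne' hs.one_lt
      omega
    -- the normalizer of `R` has even order
    have hidx := index_dvd_card_normalizer N S
    have h2G : 2 ∣ Nat.card G := by
      have h1 : 0 < (Nat.card G).factorization 2 := by rw [h0.sylQ]; have := h0.ha; omega
      exact Nat.dvd_of_factorization_pos h1.ne'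
    have h2idx : 2 ∣ N.index := by
      have h1 := N.card_mul_index
      rw [← h1] at h2G
      rcases (Nat.Prime.dvd_mul Nat.prime_two).1 h2G with h | h
      · exact absurd h hN2
      · exact h
    have h2H : 2 ∣ Nat.card (Subgroup.normalizer (R : Set G)) := dvd_trans h2idx hidx
    obtain ⟨u, hu⟩ := exists_prime_orderOf_dvd_card' 2 h2H
    have hu' : orderOf (u : G) = 2 := by rw [Subgroup.orderOf_coe]; exact hu
    refine hrs (Subgroup.zpowers (u : G)) R s hs hsp hs2 (isPGroup_zpowers_of_orderOf hu')
      (zpowers_ne_bot_of_orderOf Nat.prime_two hu') hRp hRne (Or.inl ?_)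
    rw [Subgroup.zpowers_le]
    exact u.2
  have hcard := Nat.eq_prime_pow_of_unique_prime_dvd hcardN hall
  exact IsPGroup.of_card hcard

end Cfsg.Agent.Lib.Helper61_MX_F6B
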