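import Cfsg.Agent.Lib.Helper6_MXDefs
import Cfsg.Agent.Lib.Helper61_MX_F6B

/-!
# S4017 market (architect helper6), package MX-F6A: `simple_even`

A normal subgroup `N` of even order is the whole group: an involution of `N` is conjugate into `Q ⊓ N`, so `Q ≤ N` by the
transitivity of `x` on `Q \ {1}`; if `N ≠ ⊤` then `|N|` is a `{2,p}`-number, `G = N · N_G(Q)` (Frattini), and `N_G(Q)` is a
`{2,p}`-group (`hrs`), so `|G|` is a `{2,p}`-number.
-/

set_option autoImplicit false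
open Cfsg.Agent.Lib.Helper6_MXDefs

namespace Cfsg.Agent.Lib.Helper61_MX_F6A

open Cfsg.Agent.Lib.Helper61_MX_F6B

/-- MX-F6A. -/
theorem simple_even {G : Type*} [Group G] [Finite G] {p a : ℕ} {Q : Subgroup G} {x : G}
    (h0 : Ctx0 G p a Q x) (hT : PTrans Q x) (hSy : PSyl Q)
    (heven : ∀ H : Subgroup G, H ≠ ⊤ → 2 ∣ Nat.card H → TwoP p (Nat.card H))
    (hbig : ¬ TwoP p (Nat.card G))
    (hrs : ∀ (U R : Subgroup G) (r : ℕ), r.Prime → r ≠ p → r ≠ 2 → IsPGroup 2 U → U ≠ ⊥ →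
      IsPGroup r R → R ≠ ⊥ →
      (U ≤ Subgroup.normalizer (R : Set G) ∨ R ≤ Subgroup.normalizer (U : Set G)) → False)
    (N : Subgroup G) (hN : N.Normal) (hN2 : 2 ∣ Nat.card N) : N = ⊤ := by
  have : Fact (Nat.Prime 2) := ⟨Nat.prime_two⟩
  -- an involution of `N`
  obtain ⟨v, hv⟩ := exists_prime_orderOf_dvd_card' 2 hN2
  have hv2 : orderOf (v : G) = 2 := by rw [Subgroup.orderOf_coe]; exact hv
  have hv1 : (v : G) ≠ 1 := by
    intro h
    rw [h, orderOf_one] at hv2
    omega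
  have hvel : ∃ k : ℕ, (v : G) ^ 2 ^ k = 1 := ⟨1, by rw [pow_one, ← hv2, pow_orderOf_eq_one]⟩
  obtain ⟨c, hc⟩ := hSy (v : G) hvel
  have hcN : c * (v : G) * c⁻¹ ∈ N := hN.conj_mem _ v.2 c
  have hc1 : c * (v : G) * c⁻¹ ≠ 1 := by
    intro h
    apply hv1
    have := congrArg (fun y => c⁻¹ * y * c) h
    simpa [mul_assoc] using this
  -- `Q ≤ N`
  have hQN : Q ≤ N := by
    intro w hw
    by_cases hw1 : w = 1
    · rw [hw1]; exact N.one_mem
    · obtain ⟨j, hj⟩ := hT _ hc hc1 w hw hw1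
      rw [← hj]
      exact hN.conj_mem _ hcN _
  by_contra hNtop
  have hNtp : TwoP p (Nat.card N) := heven N hNtop hN2
  -- `Q` is a nontrivial 2-group
  have hQ2 : IsPGroup 2 Q := IsPGroup.of_card h0.cardQ
  have hQne : Q ≠ ⊥ := by
    intro h
    have h1 := h0.cardQ
    rw [h, Subgroup.card_bot] at h1
    have h2 : 2 ^ 2 ≤ 2 ^ a := Nat.pow_le_pow_right (by norm_num) h0.ha
    omega
  -- `Q` as a Sylow 2-subgroup of `N`
  have hcardG : Nat.card G ≠ 0 := Nat.card_pos.ne'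
  have hcardN : Nat.card N ≠ 0 := Nat.card_pos.ne'
  have hfac : (Nat.card ↥N).factorization 2 = a := by
    apply le_antisymm
    · rw [← h0.sylQ]
      exact (Nat.factorization_le_iff_dvd hcardN hcardG).2 (Subgroup.card_subgroup_dvd_card N) 2
    · have h1 : 2 ^ a ∣ Nat.card ↥N := by
        rw [← h0.cardQ]
        exact Subgroup.card_dvd_of_le hQN
      exact (Nat.Prime.pow_dvd_iff_le_factorization Nat.prime_two hcardN).1 h1
  have hcardS : Nat.card ↥(Q.subgroupOf N) = 2 ^ (Nat.card ↥N).factorization 2 := by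
    rw [hfac, ← h0.cardQ]
    exact Nat.card_congr (Subgroup.subgroupOfEquivOfLe hQN).toEquiv
  set S : Sylow 2 ↥N := Sylow.ofCard (Q.subgroupOf N) hcardS with hS
  have hSQ : ((S : Subgroup ↥N).map N.subtype : Subgroup G) = Q := by
    rw [hS, Sylow.coe_ofCard, Subgroup.subgroupOf_map_subtype, inf_of_le_left hQN]
  have hidx := index_dvd_card_normalizer N S
  rw [hSQ] at hidx
  -- `N_G(Q)` is a `{2,p}`-group
  have hNQ : TwoP p (Nat.card (Subgroup.normalizer (Q : Set G))) := by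
    intro r hr hrd
    by_contra hne
    push Not at hne
    have : Fact r.Prime := ⟨hr⟩
    obtain ⟨g, hg⟩ := exists_prime_orderOf_dvd_card' r hrd
    have hg' : orderOf (g : G) = r := by rw [Subgroup.orderOf_coe]; exact hg
    refine hrs Q (Subgroup.zpowers (g : G)) r hr hne.2 hne.1 hQ2 hQne
      (isPGroup_zpowers_of_orderOf hg') (zpowers_ne_bot_of_orderOf hr hg') (Or.inr ?_)
    rw [Subgroup.zpowers_le]
    exact g.2
  -- so `|G|` is a `{2,p}`-number
  apply hbig
  intro r hr hrd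
  rw [← N.card_mul_index] at hrd
  rcases (Nat.Prime.dvd_mul hr).1 hrd with h | h
  · exact hNtp r hr h
  · exact hNQ r hr (dvd_trans h hidx)

end Cfsg.Agent.Lib.Helper61_MX_F6A
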