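import Mathlib
import Cfsg.Agent.Lib.Helper95_OPDefs
import Cfsg.Agent.Lib.Helper95_OPBasic
import Cfsg.Agent.Lib.Helper48_OODefs
import Cfsg.Agent.Lib.Helper87_OO2Defs
import Cfsg.Agent.Lib.Helper87_OO2Defs2
import Cfsg.Agent.Lib.Helper87_OO2Defs3
import Cfsg.Agent.Lib.Helper85_OO2_RankOne
import Cfsg.Agent.Lib.Helper85_OO2_LemK
import Cfsg.Agent.Lib.Helper85_OO2_INVOL

set_option autoImplicit false

namespace Cfsg.Agent.Lib.Helper61_OO2_THETA

open Module Cfsg.Agent.Lib.Helper94_OrthSmall Cfsg.Agent.Lib.Helper44_QuadClass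
  Cfsg.Agent.Lib.Helper14_OmegaSimple Cfsg.Agent.Lib.Helper38_MIODefs
  Cfsg.Agent.Lib.Helper95_OPDefs Cfsg.Agent.Lib.Helper95_OPBasic Cfsg.Agent.Lib.Helper48_OODefs
  Cfsg.Agent.Lib.Helper87_OO2Defs Cfsg.Agent.Lib.Helper85_OO2_RankOne


/-!
S2344, market OO2 wave 3 (cutter helper87), package OO2-THETA: the quadratic character `thetaC`.
-/

section partH

variable {F V : Type*} [Field F] [Fintype F] [AddCommGroup V] [Module F V] [FiniteDimensional F V]
  {X : Type*} [AddCommGroup X] [Module ℂ X] [FiniteDimensional ℂ X]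

omit [Fintype F] in
theorem thetaC_of_isSquare {a : F} (h : IsSquare a) : thetaC a = 1 := by
  unfold thetaC
  rw [if_pos h]

omit [Fintype F] in
theorem thetaC_of_not_isSquare {a : F} (h : ¬ IsSquare a) : thetaC a = -1 := by
  unfold thetaC
  rw [if_neg h]

omit [Fintype F] in
theorem not_isSquare_of_thetaC {a : F} (h : thetaC a = -1) : ¬ IsSquare a := by
  intro hs
  rw [thetaC_of_isSquare hs] at h
  norm_num at h

theorem ringChar_ne_two (hodd : Odd (Fintype.card F)) : ringChar F ≠ 2 := by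
  intro h
  have h1 := FiniteField.even_card_iff_char_two.mp h
  rcases hodd with ⟨k, hk⟩
  omega

/-! ## OO2-THETA (S/M): the quadratic character -/
theorem exists_thetaC_neg (hodd : Odd (Fintype.card F)) :
    ∃ a0 : F, a0 ≠ 0 ∧ thetaC a0 = -1 := by
  obtain ⟨a, ha⟩ := FiniteField.exists_nonsquare (ringChar_ne_two hodd)
  refine ⟨a, ?_, thetaC_of_not_isSquare ha⟩
  rintro rfl
  exact ha (IsSquare.zero)

theorem thetaC_inv (a : F) (ha : a ≠ 0) : thetaC a⁻¹ = thetaC a := by
  by_cases hs : IsSquare a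
  · rw [thetaC_of_isSquare hs, thetaC_of_isSquare (isSquare_inv.mpr hs)]
  · rw [thetaC_of_not_isSquare hs, thetaC_of_not_isSquare (fun h => hs (isSquare_inv.mp h))]

theorem sq_or_nonsq (hodd : Odd (Fintype.card F)) (a0 : F) (ha0 : a0 ≠ 0) (h0 : thetaC a0 = -1)
    (a : F) (ha : a ≠ 0) :
    (∃ t : F, t ≠ 0 ∧ a = t ^ 2 ∧ thetaC a = 1) ∨
      (∃ t : F, t ≠ 0 ∧ a = a0 * t ^ 2 ∧ thetaC a = -1) := by
  have hF := ringChar_ne_two hodd
  by_cases hs : IsSquare a
  · left
    obtain ⟨t, ht⟩ := hs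
    refine ⟨t, ?_, by rw [ht, sq], thetaC_of_isSquare ⟨t, ht⟩⟩
    rintro rfl
    rw [mul_zero] at ht
    exact ha ht
  · right
    have hs0 := not_isSquare_of_thetaC h0
    have h1 : a ^ (Fintype.card F / 2) = -1 := by
      rcases FiniteField.pow_dichotomy hF ha with h | h
      · exact absurd ((FiniteField.isSquare_iff hF ha).mpr h) hs
      · exact h
    have h2 : a0 ^ (Fintype.card F / 2) = -1 := by
      rcases FiniteField.pow_dichotomy hF ha0 with h | h
      · exact absurd ((FiniteField.isSquare_iff hF ha0).mpr h) hs0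
      · exact h
    have hq0 : a / a0 ≠ 0 := div_ne_zero ha ha0
    have h3 : IsSquare (a / a0) := by
      rw [FiniteField.isSquare_iff hF hq0, div_pow, h1, h2]
      norm_num
    obtain ⟨t, ht⟩ := h3
    refine ⟨t, ?_, ?_, thetaC_of_not_isSquare hs⟩
    · rintro rfl
      rw [mul_zero] at ht
      exact hq0 ht
    · rw [sq, ← ht]
      field_simp

end partH

end Cfsg.Agent.Lib.Helper61_OO2_THETA
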