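import Mathlib
import Cfsg.Agent.Lib.Helper38_OTDefs
import Cfsg.Agent.Lib.Helper61_OT_ODDTRaux
import Cfsg.Agent.Lib.Helper43_OT_ODDALG

set_option autoImplicit false
set_option linter.unusedSectionVars false
set_option linter.unusedVariables false

/-!
OTENS4 package OT-ODDTR (architect helper38; helper61), final form: `odd_transferO` with the two extra
hypotheses `IsRootOpO f ℓ N`, `IsRootOpO f ℓ' N'` (the stub of `OTENS4_packages3` is false without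
`N² = 0`: `GamO N N'` may be trivial), from `Helper61_OT_ODDTRaux.odd_transfer_ofO` and
`Helper43_OT_ODDALG.odd_algO`.  `odd_transfer_sqO` is the same with `N² = 0 = N'²` as hypotheses.
-/

namespace Cfsg.Agent.Lib.Helper61_OT_ODDTR

open Module
open Cfsg.Agent.Lib.Helper94_Herm
open Cfsg.Agent.Lib.Helper37_UTPairDefs Cfsg.Agent.Lib.Helper38_OTDefs

variable {F : Type*} [Field F] {V : Type*} [AddCommGroup V] [Module F V]
variable {f : LinearMap.BilinForm F V} {ℓ ℓ' : Submodule F V} {N N' : V →ₗ[F] V}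

/-- ODDTR with `N² = 0 = N'²` -/
theorem odd_transfer_sqO [Finite F] [FiniteDimensional F V] (h2 : (2 : F) ≠ 0)
    (hsq : ∀ v, N (N v) = 0) (hsq' : ∀ v, N' (N' v) = 0)
    (hG : PairGeo f ℓ ℓ' N N') (hJ : ℓ'.map N ≠ ⊥) :
    ∃ γ ∈ GamO N N', (∀ u ∈ ℓ'.map N, γ u ∈ ℓ'.map N) ∧
      ¬ ∃ s : F, ∀ w ∈ ℓ'.map N ⊔ ℓ.map N', γ w = w + s • N w := by
  have : Nontrivial ↥(ℓ'.map N) := Submodule.nontrivial_iff_ne_bot.mpr hJ
  exact Cfsg.Agent.Lib.Helper61_OT_ODDTRaux.odd_transfer_ofO hsq hsq' hG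
    (fun T => Cfsg.Agent.Lib.Helper43_OT_ODDALG.odd_algO h2 T)

/-- ODDTR (L): transfer to the pair (with the root operator hypotheses) -/
theorem odd_transferO [Finite F] [FiniteDimensional F V] (h2 : (2 : F) ≠ 0)
    (hℓ : IsRootOpO f ℓ N) (hℓ' : IsRootOpO f ℓ' N')
    (hG : PairGeo f ℓ ℓ' N N') (hJ : ℓ'.map N ≠ ⊥) :
    ∃ γ ∈ GamO N N', (∀ u ∈ ℓ'.map N, γ u ∈ ℓ'.map N) ∧
      ¬ ∃ s : F, ∀ w ∈ ℓ'.map N ⊔ ℓ.map N', γ w = w + s • N w :=
  odd_transfer_sqO h2 (Cfsg.Agent.Lib.Helper61_OT_ODDTRaux.h61_sq_of_rootOpO hℓ)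
    (Cfsg.Agent.Lib.Helper61_OT_ODDTRaux.h61_sq_of_rootOpO hℓ') hG hJ

end Cfsg.Agent.Lib.Helper61_OT_ODDTR
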