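import Mathlib
import Cfsg.Agent.Lib.Helper97_OX3Defs
import Cfsg.Agent.Lib.Helper94_OrthVec

set_option autoImplicit false
set_option linter.unusedSectionVars false
set_option linter.unusedVariables false

/-!
# OEXT3 package D2b (architect helper97; helper61), core form: `finrank_meet_of_cover_of` takes the three
facts of NMAP3 (`nmap_props3`) it needs as hypotheses.
-/

namespace Cfsg.Agent.Lib.Helper61_OX3_D2baux

open Module Cfsg.Agent.Lib.Helper94_OrthSmall Cfsg.Agent.Lib.Helper94_OrthSiegel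
  Cfsg.Agent.Lib.Helper98_ExtDefs Cfsg.Agent.Lib.Helper97_OX2Defs
  Cfsg.Agent.Lib.Helper97_OX3Defs
open scoped commutatorElement

variable {F K V : Type*} [Field F] [Field K] [Algebra F K] [AddCommGroup V] [Module F V]
  [Module K V] [IsScalarTower F K V]
variable {τ : K →ₗ[F] F} {QK : V → K} {BK : LinearMap.BilinForm K V}
variable [Finite F] [Finite K] [Module.Finite F V] [Module.Finite K V]

/-- rank–nullity for the restriction of a linear map to a subspace -/
theorem finrank_map_add_inf_ker' {M' : Type*} [AddCommGroup M'] [Module F M'] (T : V →ₗ[F] M')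
    (W : Submodule F V) :
    finrank F (W.map T) + finrank F (W ⊓ LinearMap.ker T : Submodule F V) = finrank F W := by
  have h := LinearMap.finrank_range_add_finrank_ker (T.domRestrict W)
  rw [LinearMap.range_domRestrict, LinearMap.ker_domRestrict] at h
  rw [← h, ← Submodule.finrank_map_subtype_eq W (Submodule.comap W.subtype (LinearMap.ker T)),
    Submodule.map_comap_subtype]

/-- D2b from the facts `N V ⊆ L`, `N L = 0`, `ker N ⊆ L` on `N = nmap F BK κ u w`. -/
theorem finrank_meet_of_cover_of (C : Ctx3 τ QK BK) (t : Submodule F V)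
    {u w : V} (h : TSPair QK BK u w) (hd : finrank F ↥(t ⊓ kln F (K := K) u w) = 2) {κ : K}
    (hN1 : ∀ x, nmap F BK κ u w x ∈ kln F (K := K) u w)
    (hN2 : ∀ x ∈ kln F (K := K) u w, nmap F BK κ u w x = 0)
    (hN3 : ∀ x, nmap F BK κ u w x = 0 → x ∈ kln F (K := K) u w)
    (hcov : ∀ d ∈ t ⊓ kln F (K := K) u w, ∃ x ∈ t, nmap F BK κ u w x = d) :
    finrank F ↥(t ⊓ t.map (ksieg F QK BK (κ • u) w).toLinearMap) = 4 := by
  have hs : ∀ x, ksieg F QK BK (κ • u) w x = x + nmap F BK κ u w x :=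
    C.ksieg_eq_nmap h.1 h.2.1 h.2.2.1 κ
  -- `A = {x ∈ t | N x ∈ t}`
  have hA : t ⊓ t.map (ksieg F QK BK (κ • u) w).toLinearMap =
      (t ⊓ t.comap (nmap F BK κ u w)).map (ksieg F QK BK (κ • u) w).toLinearMap := by
    ext y
    simp only [Submodule.mem_inf, Submodule.mem_map, Submodule.mem_comap, LinearEquiv.coe_coe]
    constructor
    · rintro ⟨hyt, x, hxt, rfl⟩
      refine ⟨x, ⟨hxt, ?_⟩, rfl⟩
      have e : nmap F BK κ u w x = ksieg F QK BK (κ • u) w x - x := by rw [hs]; abel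
      rw [e]
      exact t.sub_mem hyt hxt
    · rintro ⟨x, ⟨hxt, hNx⟩, rfl⟩
      refine ⟨?_, x, hxt, rfl⟩
      rw [hs]
      exact t.add_mem hxt hNx
  have hmap : (t ⊓ t.comap (nmap F BK κ u w)).map (nmap F BK κ u w) = t ⊓ kln F (K := K) u w := by
    ext d
    simp only [Submodule.mem_inf, Submodule.mem_map, Submodule.mem_comap]
    constructor
    · rintro ⟨x, ⟨hxt, hNx⟩, rfl⟩
      exact ⟨hNx, hN1 x⟩
    · rintro ⟨hdt, hdl⟩
      obtain ⟨x, hxt, hx⟩ := hcov d (Submodule.mem_inf.mpr ⟨hdt, hdl⟩)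
      refine ⟨x, ⟨hxt, ?_⟩, hx⟩
      rw [hx]; exact hdt
  have hker : (t ⊓ t.comap (nmap F BK κ u w)) ⊓ LinearMap.ker (nmap F BK κ u w) =
      t ⊓ kln F (K := K) u w := by
    ext x
    simp only [Submodule.mem_inf, Submodule.mem_comap, LinearMap.mem_ker]
    constructor
    · rintro ⟨⟨hxt, _⟩, hx0⟩
      exact ⟨hxt, hN3 x hx0⟩
    · rintro ⟨hxt, hxl⟩
      have h0 := hN2 x hxl
      refine ⟨⟨hxt, ?_⟩, h0⟩
      rw [h0]; exact t.zero_mem
  have key := finrank_map_add_inf_ker' (nmap F BK κ u w) (t ⊓ t.comap (nmap F BK κ u w))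
  rw [hmap, hker, hd] at key
  rw [hA, LinearEquiv.finrank_map_eq]
  omega

end Cfsg.Agent.Lib.Helper61_OX3_D2baux
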