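import Mathlib
import Cfsg.Agent.Lib.Helper97_OX3Defs
import Cfsg.Agent.Lib.Helper94_OrthVec
import Cfsg.Agent.Lib.Helper61_OX3_D2baux

set_option autoImplicit false
set_option linter.unusedSectionVars false
set_option linter.unusedVariables false

/-!
# OEXT3 package D2b (architect helper97; helper61): verbatim statement.  The three facts on
`N = nmap F BK κ u w` needed by the core (`N V ⊆ L`, `N L = 0`, `ker N ⊆ L`) are proved here directly.
-/

namespace Cfsg.Agent.Lib.Helper61_OX3_D2b

open Module Cfsg.Agent.Lib.Helper94_OrthSmall Cfsg.Agent.Lib.Helper94_OrthSiegel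
  Cfsg.Agent.Lib.Helper98_ExtDefs Cfsg.Agent.Lib.Helper97_OX2Defs
  Cfsg.Agent.Lib.Helper97_OX3Defs
open scoped commutatorElement

variable {F K V : Type*} [Field F] [Field K] [Algebra F K] [AddCommGroup V] [Module F V]
  [Module K V] [IsScalarTower F K V]
variable {τ : K →ₗ[F] F} {QK : V → K} {BK : LinearMap.BilinForm K V}
variable [Finite F] [Finite K] [Module.Finite F V] [Module.Finite K V]

/-- `N V ⊆ L` -/
theorem nmap_mem_kln (κ : K) (u w x : V) : nmap F BK κ u w x ∈ kln F (K := K) u w := by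
  rw [nmap_apply]
  exact mem_kln.mpr ⟨-(κ * BK x w), κ * BK x u, by
    rw [smul_sub, smul_smul, smul_smul, neg_smul]; abel⟩

/-- `N L = 0` for a totally singular pair -/
theorem nmap_eq_zero_of_mem (C : Ctx3 τ QK BK) {u w : V} (h : TSPair QK BK u w) (κ : K)
    {x : V} (hx : x ∈ kln F (K := K) u w) : nmap F BK κ u w x = 0 := by
  obtain ⟨α, β, rfl⟩ := mem_kln.mp hx
  have huu : BK u u = 0 := by rw [C.BK_self, h.1, mul_zero]
  have hww : BK w w = 0 := by rw [C.BK_self, h.2.1, mul_zero]
  have huw : BK u w = 0 := h.2.2.1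
  have hwu : BK w u = 0 := by rw [C.BK_symm, huw]
  have e1 : BK (α • u + β • w) u = 0 := by
    rw [map_add, LinearMap.add_apply, map_smul, map_smul, LinearMap.smul_apply,
      LinearMap.smul_apply, huu, hwu, smul_zero, smul_zero, add_zero]
  have e2 : BK (α • u + β • w) w = 0 := by
    rw [map_add, LinearMap.add_apply, map_smul, map_smul, LinearMap.smul_apply,
      LinearMap.smul_apply, huw, hww, smul_zero, smul_zero, add_zero]
  rw [nmap_apply, e1, e2, zero_smul, zero_smul, sub_zero, smul_zero]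

/-- a totally singular `K`-line of a nondegenerate four-dimensional space is its own orthogonal -/
theorem mem_span_of_perp (C : Ctx3 τ QK BK) {u w : V} (h : TSPair QK BK u w) {x : V}
    (hxu : BK x u = 0) (hxw : BK x w = 0) : x ∈ Submodule.span K ({u, w} : Set V) := by
  have huu : BK u u = 0 := by rw [C.BK_self, h.1, mul_zero]
  have hww : BK w w = 0 := by rw [C.BK_self, h.2.1, mul_zero]
  have huw : BK u w = 0 := h.2.2.1
  have hwu : BK w u = 0 := by rw [C.BK_symm, huw]
  have hli : LinearIndependent K ![u, w] := LinearIndependent.pair_iff.mpr h.2.2.2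
  have hr : Set.range ![u, w] = ({u, w} : Set V) := by
    ext y
    simp only [Set.mem_range, Set.mem_insert_iff, Set.mem_singleton_iff]
    constructor
    · rintro ⟨i, rfl⟩
      fin_cases i
      · left; rfl
      · right; rfl
    · rintro (rfl | rfl)
      · exact ⟨0, rfl⟩
      · exact ⟨1, rfl⟩
  have hW : finrank K (Submodule.span K ({u, w} : Set V)) = 2 := by
    rw [← hr, finrank_span_eq_card hli]
    simp
  have hle : Submodule.span K ({u, w} : Set V) ≤
      LinearMap.BilinForm.orthogonal BK (Submodule.span K ({u, w} : Set V)) := by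
    intro y hy
    rw [LinearMap.BilinForm.mem_orthogonal_iff]
    intro n hn
    obtain ⟨a, b, rfl⟩ := Submodule.mem_span_pair.mp hy
    obtain ⟨c, d, rfl⟩ := Submodule.mem_span_pair.mp hn
    simp only [map_add, map_smul, LinearMap.add_apply, LinearMap.smul_apply, huu, hww, huw, hwu,
      smul_zero, add_zero]
  have hfo := LinearMap.BilinForm.finrank_orthogonal C.hN (Submodule.span K ({u, w} : Set V))
  rw [C.hm, hW] at hfo
  have heq : Submodule.span K ({u, w} : Set V) =
      LinearMap.BilinForm.orthogonal BK (Submodule.span K ({u, w} : Set V)) :=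
    Submodule.eq_of_le_of_finrank_eq hle (by rw [hW, hfo])
  rw [heq, LinearMap.BilinForm.mem_orthogonal_iff]
  intro n hn
  obtain ⟨c, d, rfl⟩ := Submodule.mem_span_pair.mp hn
  have hux : BK u x = 0 := by rw [C.BK_symm, hxu]
  have hwx : BK w x = 0 := by rw [C.BK_symm, hxw]
  simp only [map_add, map_smul, LinearMap.add_apply, LinearMap.smul_apply, hux, hwx,
    smul_zero, add_zero]

/-- `ker N ⊆ L` for `κ ≠ 0` -/
theorem mem_kln_of_nmap_eq_zero (C : Ctx3 τ QK BK) {u w : V} (h : TSPair QK BK u w) {κ : K}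
    (hκ : κ ≠ 0) {x : V} (hx : nmap F BK κ u w x = 0) : x ∈ kln F (K := K) u w := by
  rw [nmap_apply] at hx
  have h1 : BK x u • w - BK x w • u = 0 := by
    rcases smul_eq_zero.mp hx with h0 | h0
    · exact absurd h0 hκ
    · exact h0
  have h2 : (-(BK x w)) • u + BK x u • w = 0 := by
    rw [neg_smul, ← h1]; abel
  obtain ⟨ha, hb⟩ := h.2.2.2 _ _ h2
  have hxw : BK x w = 0 := neg_eq_zero.mp ha
  have := mem_span_of_perp C h hb hxw
  unfold kln
  rw [Submodule.restrictScalars_mem]
  exact this

/-- D2b -/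
theorem finrank_meet_of_cover (C : Ctx3 τ QK BK) (t : Submodule F V) (ht6 : finrank F t = 6)
    {u w : V} (h : TSPair QK BK u w) (hd : finrank F ↥(t ⊓ kln F (K := K) u w) = 2) {κ : K}
    (hκ : κ ≠ 0)
    (hcov : ∀ d ∈ t ⊓ kln F (K := K) u w, ∃ x ∈ t, nmap F BK κ u w x = d) :
    finrank F ↥(t ⊓ t.map (ksieg F QK BK (κ • u) w).toLinearMap) = 4 :=
  Cfsg.Agent.Lib.Helper61_OX3_D2baux.finrank_meet_of_cover_of C t h hd
    (fun x => nmap_mem_kln κ u w x)
    (fun x hx => nmap_eq_zero_of_mem C h κ hx)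
    (fun x hx => mem_kln_of_nmap_eq_zero C h hκ hx) hcov

end Cfsg.Agent.Lib.Helper61_OX3_D2b
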