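import Mathlib
import Cfsg.Agent.Lib.Helper97_OX3Defs
import Cfsg.Agent.Lib.Helper94_OrthVec

set_option autoImplicit false
set_option linter.unusedSectionVars false
set_option linter.unusedVariables false

/-!
# OEXT3 package PAR_D (architect helper97; helper61):
`dim (t ∩ (K p + K a)) = dim (t ∩ K p) + dim (T' ∩ K a)`.
-/

namespace Cfsg.Agent.Lib.Helper61_OX3_PAR_D

open Module Cfsg.Agent.Lib.Helper94_OrthSmall Cfsg.Agent.Lib.Helper94_OrthSiegel
  Cfsg.Agent.Lib.Helper98_ExtDefs Cfsg.Agent.Lib.Helper97_OX2Defs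
  Cfsg.Agent.Lib.Helper97_OX3Defs
open scoped commutatorElement

variable {F K V : Type*} [Field F] [Field K] [Algebra F K] [AddCommGroup V] [Module F V]
  [Module K V] [IsScalarTower F K V]
variable {τ : K →ₗ[F] F} {QK : V → K} {BK : LinearMap.BilinForm K V}
variable [Finite F] [Finite K] [Module.Finite F V] [Module.Finite K V]

/-- rank–nullity for the restriction of a linear map to a subspace -/
theorem finrank_map_add_inf_ker' {M' : Type*} [AddCommGroup M'] [Module F M'] (T : V →ₗ[F] M')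
    (W : Submodule F V) :
    finrank F (W.map T) + finrank F (W ⊓ LinearMap.ker T : Submodule F V) = finrank F W := by
  have h := LinearMap.finrank_range_add_finrank_ker (T.domRestrict W)
  rw [LinearMap.range_domRestrict, LinearMap.ker_domRestrict] at h
  rw [← h, ← Submodule.finrank_map_subtype_eq W (Submodule.comap W.subtype (LinearMap.ker T)),
    Submodule.map_comap_subtype]

/-- the map `x ↦ x - BK x p' • p` -/
def phi (F : Type*) {K V : Type*} [Field F] [Field K] [Algebra F K] [AddCommGroup V]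
    [Module F V] [Module K V] [IsScalarTower F K V] (BK : LinearMap.BilinForm K V) (p p' : V) :
    V →ₗ[F] V :=
  (LinearMap.id - (BK.flip p').smulRight p).restrictScalars F

theorem phi_apply {p p' x : V} : phi F BK p p' x = x - BK x p' • p := by
  simp [phi]

/-- PAR_D: `dim (t ∩ (K p + K a)) = dim (t ∩ K p) + dim (T' ∩ K a)` -/
theorem finrank_inf_line (C : Ctx3 τ QK BK) (t : Submodule F V) {p p' a : V}
    (hp : QK p = 0) (hp' : QK p' = 0) (hpp' : BK p p' = 1) (ha0 : a ≠ 0) (hpa : BK p a = 0)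
    (hp'a : BK p' a = 0) (T' : Submodule F V)
    (hT1 : ∀ y ∈ T', BK y p = 0 ∧ BK y p' = 0)
    (hT2 : ∀ y ∈ T', ∃ k : K, y + k • p ∈ t)
    (hT3 : ∀ x ∈ t, BK x p = 0 → x - BK x p' • p ∈ T') :
    finrank F ↥(t ⊓ kln F (K := K) p a) =
      finrank F ↥(t ⊓ kpt F (K := K) p) + finrank F ↥(T' ⊓ kpt F (K := K) a) := by
  have hpp : BK p p = 0 := by rw [C.BK_self, hp, mul_zero]
  have hap : BK a p = 0 := by rw [C.BK_symm, hpa]
  have hap' : BK a p' = 0 := by rw [C.BK_symm, hp'a]
  -- values on `K p + K a`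
  have hval : ∀ α β : K, BK (α • p + β • a) p = 0 ∧ BK (α • p + β • a) p' = α := by
    intro α β
    constructor
    · rw [map_add, LinearMap.add_apply, map_smul, map_smul, LinearMap.smul_apply,
        LinearMap.smul_apply, hpp, hap, smul_zero, smul_zero, add_zero]
    · rw [map_add, LinearMap.add_apply, map_smul, map_smul, LinearMap.smul_apply,
        LinearMap.smul_apply, hpp', hap', smul_zero, add_zero, smul_eq_mul, mul_one]
  have hmap : (t ⊓ kln F (K := K) p a).map (phi F BK p p') = T' ⊓ kpt F (K := K) a := by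
    ext y
    simp only [Submodule.mem_map, Submodule.mem_inf]
    constructor
    · rintro ⟨x, ⟨hxt, hxl⟩, rfl⟩
      obtain ⟨α, β, rfl⟩ := mem_kln.mp hxl
      obtain ⟨h1, h2⟩ := hval α β
      rw [phi_apply]
      refine ⟨hT3 _ hxt h1, ?_⟩
      rw [h2]
      exact mem_kpt.mpr ⟨β, by abel⟩
    · rintro ⟨hyT, hya⟩
      obtain ⟨β, rfl⟩ := mem_kpt.mp hya
      obtain ⟨k, hk⟩ := hT2 _ hyT
      refine ⟨β • a + k • p, ⟨hk, mem_kln.mpr ⟨k, β, by abel⟩⟩, ?_⟩
      rw [phi_apply]
      have e : β • a + k • p = k • p + β • a := by abel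
      rw [e, (hval k β).2]
      abel
  have hker : (t ⊓ kln F (K := K) p a) ⊓ LinearMap.ker (phi F BK p p') = t ⊓ kpt F (K := K) p := by
    ext x
    simp only [Submodule.mem_inf, LinearMap.mem_ker]
    constructor
    · rintro ⟨⟨hxt, hxl⟩, hx0⟩
      refine ⟨hxt, ?_⟩
      rw [phi_apply, sub_eq_zero] at hx0
      exact mem_kpt.mpr ⟨_, hx0⟩
    · rintro ⟨hxt, hxp⟩
      obtain ⟨α, rfl⟩ := mem_kpt.mp hxp
      refine ⟨⟨hxt, mem_kln.mpr ⟨α, 0, by rw [zero_smul, add_zero]⟩⟩, ?_⟩
      rw [phi_apply, map_smul, LinearMap.smul_apply, hpp', smul_eq_mul,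
        mul_one, sub_self]
  have key := finrank_map_add_inf_ker' (phi F BK p p') (t ⊓ kln F (K := K) p a)
  rw [hmap, hker] at key
  omega

end Cfsg.Agent.Lib.Helper61_OX3_PAR_D
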