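import Mathlib
import Cfsg.Prelude.Def_Blocks
import Cfsg.Agent.S0923
import Cfsg.Agent.S0936
import Cfsg.Agent.S0928
import Cfsg.Agent.S0914
import Cfsg.Agent.Lib.Helper78_LocalRing
import Cfsg.Agent.Lib.Helper78_PrincipalFusion
import Cfsg.Agent.Lib.Helper80_CharBasic
import Cfsg.Agent.Lib.Helper77_BlockBasics
import Cfsg.Agent.Lib.Helper16_InducedFusion
import Cfsg.Agent.Lib.Helper3_CharComplete

/-!
# A criterion for a single block (helper61)

If the centralizer of every element of order `p` has a single `p`-block and no block of `G` has the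
trivial group as a defect group, then `G` has a single `p`-block.  An irreducible character that does
not vanish at some element `t` of order `p` lies in the principal block by the second and third main
theorems (the principal block of `C_G(t)` is everything); one that vanishes at all of them is alone in
its block, whose defect group is then trivial.
-/

set_option autoImplicit false

namespace Cfsg.Agent.Lib.Helper61_OneBlock

open Cfsg Cfsg.Agent.Lib.Helper78_LocalRing Cfsg.Agent.Lib.Helper80_CharBasic

open scoped ComplexConjugate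

universe u

variable {G : Type u} [Group G] [Finite G] {p : ℕ} [Fact p.Prime] {M : Ideal AlgInt}

/-- the expansion of a class function at a point, as a `finsum` over all irreducible characters -/
theorem blockPart_univ (ϑ : G → ℂ) (hϑ : IsClassFunction G ϑ) (g : G) :
    blockPart (Set.univ : Set (IrrCharacter G)) ϑ g = ϑ g := by
  classical
  unfold blockPart
  let _ := Fintype.ofFinite G
  have h1 := congrFun (Cfsg.Agent.Lib.Helper3_CharComplete.classFunction_eq_sum ϑ hϑ) g
  rw [Finset.sum_apply] at h1
  rw [finsum_mem_univ, finsum_eq_sum_of_fintype]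
  conv_rhs => rw [h1]
  refine Finset.sum_congr rfl fun χ _ => ?_
  rw [Pi.smul_apply, smul_eq_mul]

theorem principal_of_ne_zero (hM : IsPModular p M) (χ : IrrCharacter G) (t : G)
    (ht : orderOf t = p) (hχt : (χ : G → ℂ) t ≠ 0)
    (hC : ∀ ψ : IrrCharacter (Subgroup.centralizer ({t} : Set G)),
      SameBlock M (fun _ : Subgroup.centralizer ({t} : Set G) => (1 : ℂ))
        (ψ : Subgroup.centralizer ({t} : Set G) → ℂ)) :
    SameBlock M (fun _ : G => (1 : ℂ)) (χ : G → ℂ) := by
  classical
  have hMp := isPrime_of_isPModular hM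
  set C := Subgroup.centralizer ({t} : Set G) with hCdef
  set B := blockOf M (χ : G → ℂ) with hBdef
  have hB : IsPBlock M B := ⟨χ, rfl⟩
  have hχB : χ ∈ B := mem_blockOf_self hMp χ
  set b := principalBlock M C with hbdef
  have hb : IsPBlock M b := Cfsg.Agent.Lib.Helper78_PrincipalFusion.isPBlock_principal C
  have hbuniv : b = Set.univ := by
    ext ψ
    simp only [Set.mem_univ, iff_true]
    exact hC ψ
  have hind : IsInducedBlock M C b B := by
    by_contra hnot
    have h1 := Cfsg.Agent.S0923.result p M hM t ⟨1, by rw [ht, pow_one]⟩ B hB χ hχB b hb hnot 1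
      (by
        rw [orderOf_one]
        exact (Fact.out : p.Prime).one_lt.ne' ∘ Nat.dvd_one.mp)
    rw [hbuniv, blockPart_univ] at h1
    · apply hχt
      have : (χ : G → ℂ) (t * ((1 : C) : G)) = (χ : G → ℂ) t := by
        rw [Subgroup.coe_one, mul_one]
      rw [← this]
      exact h1
    · intro g h
      show (χ : G → ℂ) (t * ((h * g * h⁻¹ : C) : G)) = (χ : G → ℂ) (t * (g : G))
      have hcomm : (h : G) * t = t * (h : G) := by
        have := h.2
        rw [Subgroup.mem_centralizer_iff] at this
        exact (this t (Set.mem_singleton t)).symm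
      have hcf := Cfsg.Agent.Lib.Helper3_CharBridge.isClassFunction_of_isIrrCharacter χ.2
      have : t * ((h * g * h⁻¹ : C) : G) = (h : G) * (t * (g : G)) * (h : G)⁻¹ := by
        rw [Subgroup.coe_mul, Subgroup.coe_mul, Subgroup.coe_inv]
        calc t * ((h : G) * (g : G) * (h : G)⁻¹) = (t * (h : G)) * (g : G) * (h : G)⁻¹ := by group
          _ = ((h : G) * t) * (g : G) * (h : G)⁻¹ := by rw [hcomm]
          _ = (h : G) * (t * (g : G)) * (h : G)⁻¹ := by group
      rw [this]
      exact hcf _ _
  have h3 := (Cfsg.Agent.S0936.result p M hM C b ⟨B, hind⟩).mpr rfl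
  have h1C : oneIrr C ∈ b := sameBlock_refl hMp _
  have h1G : oneIrr G ∈ principalBlock M G := sameBlock_refl hMp _
  intro g
  have e1 := hind.2.2 (oneIrr C) h1C χ hχB g
  have e2 := h3.2.2 (oneIrr C) h1C (oneIrr G) h1G g
  have := memLocalIdeal_sub hMp e1 e2
  rw [sub_sub_sub_cancel_left] at this
  exact this

theorem defect_bot_of_vanish (hM : IsPModular p M) (χ : IrrCharacter G)
    (hvan : ∀ g : G, orderOf g = p → (χ : G → ℂ) g = 0) :
    IsPBlock M ({χ} : Set (IrrCharacter G)) ∧ IsDefectGroup p M ({χ} : Set (IrrCharacter G)) ⊥ := by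
  classical
  have hp : p.Prime := Fact.out
  have h1 := Cfsg.Agent.S0928.result p χ hvan
  have hdvd := Cfsg.Agent.Lib.Helper77_BlockBasics.charDegree_dvd_card χ
  have hGpos : 0 < Nat.card G := Nat.card_pos
  have hdpos : 0 < charDegree (χ : G → ℂ) := Nat.pos_of_dvd_of_pos hdvd hGpos
  have h2 : ¬ p ∣ Nat.card G / charDegree (χ : G → ℂ) := by
    intro hd
    obtain ⟨c, hc⟩ := hdvd
    have hc0 : c ≠ 0 := by
      rintro rfl
      rw [mul_zero] at hc
      omega
    rw [hc, Nat.mul_div_cancel_left _ hdpos] at hd
    have h3 : (Nat.card G).factorization p =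
        (charDegree (χ : G → ℂ)).factorization p + c.factorization p := by
      rw [hc, Nat.factorization_mul hdpos.ne' hc0]
      rfl
    have h4 : 0 < c.factorization p := hp.factorization_pos_of_dvd hc0 hd
    omega
  have h5 := (Cfsg.Agent.S0914.result p M hM χ).mp h2
  have hblock : IsPBlock M ({χ} : Set (IrrCharacter G)) := ⟨χ, h5.symm⟩
  refine ⟨hblock, ?_⟩
  obtain ⟨P, hP⟩ := Cfsg.Agent.Lib.Helper16_InducedFusion.exists_isDefectGroup hM hblock
  have h6 : blockDefect p ({χ} : Set (IrrCharacter G)) = 0 := by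
    unfold blockDefect
    rw [Set.image_singleton, csInf_singleton, h1, Nat.sub_self]
  have h7 := (Cfsg.Agent.Lib.Helper16_InducedFusion.blockDefect_eq_zero_iff_card hM hblock hP).mp h6
  rw [h7] at hP
  exact hP

/-- **Single block criterion.** -/
theorem single_block (hM : IsPModular p M)
    (hC : ∀ t : G, orderOf t = p → ∀ ψ : IrrCharacter (Subgroup.centralizer ({t} : Set G)),
      SameBlock M (fun _ : Subgroup.centralizer ({t} : Set G) => (1 : ℂ))
        (ψ : Subgroup.centralizer ({t} : Set G) → ℂ))
    (hZ : ∀ B : Set (IrrCharacter G), IsPBlock M B → ¬ IsDefectGroup p M B ⊥)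
    (χ ψ : IrrCharacter G) : SameBlock M (χ : G → ℂ) (ψ : G → ℂ) := by
  have hMp := isPrime_of_isPModular hM
  have key : ∀ θ : IrrCharacter G, SameBlock M (fun _ : G => (1 : ℂ)) (θ : G → ℂ) := by
    intro θ
    by_cases h : ∃ t : G, orderOf t = p ∧ (θ : G → ℂ) t ≠ 0
    · obtain ⟨t, ht, hθt⟩ := h
      exact principal_of_ne_zero hM θ t ht hθt (hC t ht)
    · push Not at h
      obtain ⟨h1, h2⟩ := defect_bot_of_vanish hM θ h
      exact absurd h2 (hZ _ h1)
  exact sameBlock_trans hMp (sameBlock_symm (key χ)) (key ψ)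

end Cfsg.Agent.Lib.Helper61_OneBlock
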