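import Mathlib
import Cfsg.Agent.Lib.Helper18_ChevLevi
import Cfsg.Agent.Lib.Helper18_ChevRootHom

set_option autoImplicit false
set_option linter.unusedSectionVars false
set_option linter.unusedVariables false

/-!
helper61: S2314 market `pc_packages` (architect helper81), package CK-KJ in aux form:
`U ∩ n B n⁻¹ = U_J` when `n ∈ N ∩ P_J` and `n⁻¹` makes the positive roots of `Φ_J` negative.
`mem_unipotentRadical_iff_of` has the conclusion of CK-NEGJ (`hnegJ`: all positive roots of `Φ_J` become negative) and the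
statement of CK-DEC (`hdec`: `U = (U ∩ L_J) U_J`, with a verbatim copy `ljGens'` of `ljGens`) as hypotheses.
-/

namespace Cfsg.Agent.Lib.Helper61_PC_CK_KJaux

open Cfsg Cfsg.Lie Cfsg.Agent.Lib.Helper18_ChevFast Cfsg.Agent.Lib.Helper18_ChevEngine
  Cfsg.Agent.Lib.Helper18_ChevR1 Cfsg.Agent.Lib.Helper18_ChevN Cfsg.Agent.Lib.Helper18_ChevR4
  Cfsg.Agent.Lib.Helper18_ChevSimple Cfsg.Agent.Lib.Helper18_ChevSimple2 Cfsg.Agent.Lib.Helper18_ChevFacts
  Cfsg.Agent.Lib.Helper18_ChevWeyl Cfsg.Agent.Lib.Helper18_ChevDiag Cfsg.Agent.Lib.Helper18_ChevCar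
  Cfsg.Agent.Lib.Helper18_ChevTorus Cfsg.Agent.Lib.Helper18_ChevGL Cfsg.Agent.Lib.Helper18_ChevComm
  Cfsg.Agent.Lib.Helper18_ChevComm2 Cfsg.Agent.Lib.Helper18_MatTri Cfsg.Agent.Lib.Helper18_ChevTri
  Cfsg.Agent.Lib.Helper18_ChevBorel Cfsg.Agent.Lib.Helper18_ChevAdd Cfsg.Agent.Lib.Helper18_ChevUni
  Cfsg.Agent.Lib.Helper18_ChevBN Cfsg.Agent.Lib.Helper18_ChevMono Cfsg.Agent.Lib.Helper18_ChevBNPair
  Cfsg.Agent.Lib.Helper18_ChevSimp Cfsg.Agent.Lib.Helper18_ChevJCerts Cfsg.Agent.Lib.Helper18_ChevLevi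
  Cfsg.Agent.Lib.Helper18_ChevBruhat Cfsg.Agent.Lib.Helper18_ChevPar Cfsg.Agent.Lib.Helper18_ChevRootHom

variable {D : ChevalleyDatum} {Ns : List NData} {F : Type*} [Field F]
variable {wl : List ℤ} {ws : List (List ℤ)} {sc : ℤ} {w : List ℤ} {d : ℕ}

/-- the generators of `U ∩ L_J` (verbatim copy of `Helper81_PCountChev.ljGens`) -/
def ljGens' (D : ChevalleyDatum) (F : Type*) [Field F] (J : Set ℕ) : Set (GL D.Idx F) :=
  {g | ∃ (r : ℕ) (t : F), D.IsPosRoot r ∧ D.InRootSub J r ∧ (g : Matrix D.Idx D.Idx F) = D.x F r t}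

/-- `U_J ≤ U` -/
theorem unipotentRadical_le_pos' (J : Set ℕ) : D.unipotentRadical F J ≤ D.posUnipotent F := by
  rw [unipotentRadical_eq J, Subgroup.closure_le]
  rintro g ⟨r, t, hr, -, hg⟩
  exact Subgroup.subset_closure ⟨r, t, hr, hg⟩

/-- An element acting on the root subgroups by a map that makes the positive roots of `Φ_J` negative conjugates
`U ∩ L_J` into `V`. -/
theorem conj_neg_of_actsAs_J (c : DCert D Ns) (J : Set ℕ) {g : GL D.Idx F} {π : ℕ → ℕ}
    (h : ActsAs c g π)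
    (hneg : ∀ r, D.IsPosRoot r → D.InRootSub J r → D.IsNegRoot (π r)) (l : GL D.Idx F)
    (hl : l ∈ Subgroup.closure (ljGens' D F J)) :
    g * l * g⁻¹ ∈ D.negUnipotent F := by
  apply conj_closure_le g _ (D.negUnipotent F) _ l hl
  rintro s ⟨r, t, hr, hrJ, hs⟩
  rw [eq_xGL c hs]
  obtain ⟨-, a, -, ha⟩ := h r hr.1
  rw [ha t]
  exact Subgroup.subset_closure ⟨_, _, hneg r hr hrJ, rfl⟩

/-- CK-KJ with the conclusion of CK-NEGJ and the statement of CK-DEC as hypotheses -/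
theorem mem_unipotentRadical_iff_of (c : DCert D Ns) (tc : TCert D) (ac : ACert D wl ws sc)
    (gc : GCert D w d) (hR2 : R2All D F) (J : Set ℕ) (n : ↥(D.monomialSubgroup F))
    (hnJ : (n : GL D.Idx F) ∈ D.parabolicSubgroup F J)
    (hnegJ : ∀ r, D.IsPosRoot r → D.InRootSub J r → D.IsNegRoot (piOf c tc n⁻¹ r))
    (hdec : ∀ u ∈ D.posUnipotent F,
      ∃ l ∈ Subgroup.closure (ljGens' D F J), ∃ v ∈ D.unipotentRadical F J, u = l * v)
    (u : GL D.Idx F) (hu : u ∈ D.posUnipotent F) :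
    u ∈ D.unipotentRadical F J ↔ (n : GL D.Idx F)⁻¹ * u * (n : GL D.Idx F) ∈ D.borelSubgroup F := by
  have hnorm : ∀ v ∈ D.unipotentRadical F J,
      (n : GL D.Idx F)⁻¹ * v * (n : GL D.Idx F) ∈ D.unipotentRadical F J := by
    intro v hv
    have hn' : (n : GL D.Idx F)⁻¹ ∈ D.parabolicSubgroup F J := Subgroup.inv_mem _ hnJ
    have := (Subgroup.mem_normalizer_iff.mp (parabolic_le_normalizer J c tc ac hR2 hn') v).mp hv
    rwa [inv_inv] at this
  have hUB : D.posUnipotent F ≤ D.borelSubgroup F := by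
    unfold ChevalleyDatum.borelSubgroup
    exact le_sup_left
  constructor
  · intro huJ
    exact hUB (unipotentRadical_le_pos' J (hnorm u huJ))
  · intro hconj
    obtain ⟨l, hl, v, hv, rfl⟩ := hdec u hu
    have hact := piOf_actsAs c tc n⁻¹
    have e0 : ((n⁻¹ : ↥(D.monomialSubgroup F)) : GL D.Idx F) = (n : GL D.Idx F)⁻¹ := rfl
    rw [e0] at hact
    have hV := conj_neg_of_actsAs_J c J hact hnegJ l hl
    rw [inv_inv] at hV
    have hBl : (n : GL D.Idx F)⁻¹ * l * (n : GL D.Idx F) ∈ D.borelSubgroup F := by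
      have e : (n : GL D.Idx F)⁻¹ * l * (n : GL D.Idx F) =
          ((n : GL D.Idx F)⁻¹ * (l * v) * (n : GL D.Idx F)) *
          ((n : GL D.Idx F)⁻¹ * v * (n : GL D.Idx F))⁻¹ := by
        group
      rw [e]
      exact Subgroup.mul_mem _ hconj
        (Subgroup.inv_mem _ (hUB (unipotentRadical_le_pos' J (hnorm v hv))))
    have h1 : (n : GL D.Idx F)⁻¹ * l * (n : GL D.Idx F) ∈
        D.borelSubgroup F ⊓ D.negUnipotent F := Subgroup.mem_inf.mpr ⟨hBl, hV⟩
    rw [borel_inf_neg c tc gc, Subgroup.mem_bot] at h1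
    have hl1 : l = 1 := by
      have : l = (n : GL D.Idx F) * ((n : GL D.Idx F)⁻¹ * l * (n : GL D.Idx F)) *
          (n : GL D.Idx F)⁻¹ := by group
      rw [this, h1]
      group
    rw [hl1, one_mul]
    exact hv

end Cfsg.Agent.Lib.Helper61_PC_CK_KJaux
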