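import Mathlib
import Cfsg.Agent.Lib.Helper61_PC_CK_KJaux
import Cfsg.Agent.Lib.Helper60_PC_NEGJ
import Cfsg.Agent.Lib.Helper60_PC_DEC

set_option autoImplicit false
set_option linter.unusedSectionVars false
set_option linter.unusedVariables false

/-!
helper61: S2314 market `pc_packages` (architect helper81), package CK-KJ (verbatim wrapper of
`Helper61_PC_CK_KJaux.mem_unipotentRadical_iff_of` with CK-NEGJ and CK-DEC).
-/

namespace Cfsg.Agent.Lib.Helper81_PCountChev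

open Cfsg Cfsg.Lie Cfsg.Agent.Lib.Helper18_ChevFast Cfsg.Agent.Lib.Helper18_ChevEngine
  Cfsg.Agent.Lib.Helper18_ChevR1 Cfsg.Agent.Lib.Helper18_ChevN Cfsg.Agent.Lib.Helper18_ChevR4
  Cfsg.Agent.Lib.Helper18_ChevSimple Cfsg.Agent.Lib.Helper18_ChevSimple2 Cfsg.Agent.Lib.Helper18_ChevFacts
  Cfsg.Agent.Lib.Helper18_ChevWeyl Cfsg.Agent.Lib.Helper18_ChevDiag Cfsg.Agent.Lib.Helper18_ChevCar
  Cfsg.Agent.Lib.Helper18_ChevTorus Cfsg.Agent.Lib.Helper18_ChevGL Cfsg.Agent.Lib.Helper18_ChevComm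
  Cfsg.Agent.Lib.Helper18_ChevComm2 Cfsg.Agent.Lib.Helper18_MatTri Cfsg.Agent.Lib.Helper18_ChevTri
  Cfsg.Agent.Lib.Helper18_ChevBorel Cfsg.Agent.Lib.Helper18_ChevAdd Cfsg.Agent.Lib.Helper18_ChevUni
  Cfsg.Agent.Lib.Helper18_ChevBN Cfsg.Agent.Lib.Helper18_ChevMono Cfsg.Agent.Lib.Helper18_ChevBNPair
  Cfsg.Agent.Lib.Helper18_ChevSimp Cfsg.Agent.Lib.Helper18_ChevJCerts Cfsg.Agent.Lib.Helper18_ChevLevi
  Cfsg.Agent.Lib.Helper18_ChevBruhat Cfsg.Agent.Lib.Helper18_ChevPar Cfsg.Agent.Lib.Helper18_ChevRootHom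

variable {D : ChevalleyDatum} {Ns : List NData} {F : Type*} [Field F]
variable {wl : List ℤ} {ws : List (List ℤ)} {sc : ℤ} {w : List ℤ} {d : ℕ}

/-- `U ∩ n B n⁻¹ = U_J` when `n ∈ N ∩ P_J` and `n⁻¹` makes the fundamental roots in `J` negative -/
theorem mem_unipotentRadical_iff (c : DCert D Ns) (tc : TCert D) (ac : ACert D wl ws sc) (gc : GCert D w d)
    (hdesc : Descent D) (hR2 : R2All D F) (J : Set ℕ) (n : ↥(D.monomialSubgroup F))
    (hnJ : (n : GL D.Idx F) ∈ D.parabolicSubgroup F J)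
    (hneg : ∀ j < D.rank, j ∈ J → D.IsNegRoot (piOf c tc n⁻¹ (D.simple j)))
    (u : GL D.Idx F) (hu : u ∈ D.posUnipotent F) :
    u ∈ D.unipotentRadical F J ↔ (n : GL D.Idx F)⁻¹ * u * (n : GL D.Idx F) ∈ D.borelSubgroup F :=
  Cfsg.Agent.Lib.Helper61_PC_CK_KJaux.mem_unipotentRadical_iff_of c tc ac gc hR2 J n hnJ
    (neg_of_simple_J c tc ac hdesc J (piOf_linMap c tc n⁻¹) hneg)
    (fun u hu => exists_mul_of_mem_pos c tc ac hR2 J u hu) u hu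

end Cfsg.Agent.Lib.Helper81_PCountChev
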