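import Mathlib
import Cfsg.Agent.Lib.Helper61_SL2
import Cfsg.Agent.Lib.Helper5_SLCard

set_option autoImplicit false

/-!
# Helper61: element orders and prime divisors of `PSL(2,7)` and `SL(2,8)`

* `lin_mul`: multiplication in `F[A]` for `A ∈ SL(2,F)` via Cayley–Hamilton.
* `sl2_card8_pow`: in `SL(2,E)`, `|E| = 8`: `g^2 = 1 ∨ g^7 = 1 ∨ g^9 = 1`.
* `psl2_card7_pow`: in `PSL(2,F)`, `|F| = 7`: `x^2 = 1 ∨ x^3 = 1 ∨ x^4 = 1 ∨ x^7 = 1`.
* prime divisors of both orders are `{2,3,7}`; `samePrimeGraph_psl27_sl28`.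
-/

namespace Cfsg.Agent.Lib.Helper61_PSL27

open Matrix Cfsg.Agent.Lib.Helper61_SL2

universe u v

section Lin

variable {F : Type u} [Field F]

/-- `u • A + v • 1` -/
def lin (A : Matrix (Fin 2) (Fin 2) F) (u v : F) : Matrix (Fin 2) (Fin 2) F :=
  u • A + v • (1 : Matrix (Fin 2) (Fin 2) F)

theorem lin_mul (A : Matrix (Fin 2) (Fin 2) F) (t : F) (hA : A * A = t • A - 1)
    (u v u' v' : F) :
    lin A u v * lin A u' v' = lin A (u * u' * t + u * v' + v * u') (v * v' - u * u') := by
  unfold lin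
  simp only [add_mul, mul_add, smul_mul_assoc, mul_smul_comm, mul_one, one_mul, smul_smul, hA,
    smul_sub]
  module

theorem lin_one_zero (A : Matrix (Fin 2) (Fin 2) F) : lin A 1 0 = A := by
  unfold lin; simp

theorem lin_zero (A : Matrix (Fin 2) (Fin 2) F) (v : F) :
    lin A 0 v = v • (1 : Matrix (Fin 2) (Fin 2) F) := by
  unfold lin; simp

/-- the coefficient sequence of `A ^ n` -/
def cseq {R : Type*} [CommRing R] (t : R) : ℕ → R × R
  | 0 => (0, 1)
  | n + 1 => ((cseq t n).1 * t + (cseq t n).2, -(cseq t n).1)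

theorem pow_eq_lin (A : Matrix (Fin 2) (Fin 2) F) (t : F) (hA : A * A = t • A - 1) (n : ℕ) :
    A ^ n = lin A (cseq t n).1 (cseq t n).2 := by
  induction n with
  | zero => simp [cseq, lin]
  | succ n ih =>
    rw [pow_succ, ih]
    have hA1 : lin A (cseq t n).1 (cseq t n).2 * A =
        lin A (cseq t n).1 (cseq t n).2 * lin A 1 0 := by rw [lin_one_zero]
    rw [hA1, lin_mul A t hA]
    simp only [cseq]
    congr 1 <;> ring

theorem cseq_map {R S : Type*} [CommRing R] [CommRing S] (f : R →+* S) (t : R) (n : ℕ) :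
    cseq (f t) n = (f (cseq t n).1, f (cseq t n).2) := by
  induction n with
  | zero => simp [cseq]
  | succ n ih => simp [cseq, ih]

end Lin

/-! ### arithmetic helpers -/

theorem not_pq_dvd_prime_pow {p q r k : ℕ} (hp : p.Prime) (hq : q.Prime) (hr : r.Prime)
    (hpq : p ≠ q) (h : p * q ∣ r ^ k) : False := by
  have h1 : p ∣ r ^ k := Dvd.dvd.trans (Dvd.intro _ rfl) h
  have h2 : q ∣ r ^ k := Dvd.dvd.trans (Dvd.intro_left _ rfl) h
  have e1 := (Nat.prime_dvd_prime_iff_eq hp hr).mp (hp.dvd_of_dvd_pow h1)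
  have e2 := (Nat.prime_dvd_prime_iff_eq hq hr).mp (hq.dvd_of_dvd_pow h2)
  exact hpq (e1.trans e2.symm)

theorem prime_dvd_237 {p a b c : ℕ} (hp : p.Prime) (h : p ∣ 2 ^ a * 3 ^ b * 7 ^ c) :
    p = 2 ∨ p = 3 ∨ p = 7 := by
  rcases (Nat.Prime.dvd_mul hp).mp h with h | h
  · rcases (Nat.Prime.dvd_mul hp).mp h with h | h
    · exact Or.inl ((Nat.prime_dvd_prime_iff_eq hp Nat.prime_two).mp (hp.dvd_of_dvd_pow h))
    · exact Or.inr (Or.inl ((Nat.prime_dvd_prime_iff_eq hp Nat.prime_three).mp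
        (hp.dvd_of_dvd_pow h)))
  · exact Or.inr (Or.inr ((Nat.prime_dvd_prime_iff_eq hp (by norm_num)).mp
      (hp.dvd_of_dvd_pow h)))

/-! ### `SL(2,E)` with `|E| = 8` -/

section SL28

variable {E : Type u} [Field E] [Fintype E] [CharP E 2]

theorem sl2_card8_pow (hE : Fintype.card E = 8) (g : SpecialLinearGroup (Fin 2) E) :
    g ^ 2 = 1 ∨ g ^ 7 = 1 ∨ g ^ 9 = 1 := by
  set A : Matrix (Fin 2) (Fin 2) E := (g : Matrix (Fin 2) (Fin 2) E) with hAdef
  set t : E := A.trace with ht
  by_cases ht0 : t = 0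
  · left
    exact sl2_sq_eq_one_of_trace_eq_zero g ht0
  right
  have h2 : (2 : E) = 0 := two_eq_zero'
  have hA : A * A = t • A - 1 := sl2_sq g
  have ht7 : t ^ 7 = 1 := by
    have := FiniteField.pow_card_sub_one_eq_one t ht0
    rwa [hE] at this
  -- squaring in characteristic 2
  have hsq : ∀ u v : E, lin A u v * lin A u v = lin A (u * u * t) (u * u + v * v) := by
    intro u v
    rw [lin_mul A t hA]
    congr 1
    · linear_combination (u * v) * h2
    · linear_combination (-(u * u)) * h2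
  have hA2 : A ^ 2 = lin A t 1 := by
    have hA1 : A ^ 2 = lin A 1 0 * lin A 1 0 := by rw [lin_one_zero, pow_two]
    rw [hA1, hsq]
    congr 1 <;> ring
  have hA4 : A ^ 4 = lin A (t * t * t) (t * t + 1 * 1) := by
    rw [show 4 = 2 * 2 by norm_num, pow_mul, hA2, pow_two, hsq]
  set c : E := (t * t * t) * (t * t * t) + (t * t + 1 * 1) * (t * t + 1 * 1) with hc
  have hA8 : A ^ 8 = lin A 1 c := by
    rw [show 8 = 4 * 2 by norm_num, pow_mul, hA4, pow_two, hsq]
    congr 1
    linear_combination ht7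
  have hcc : c * (c + t) = 0 := by
    rw [hc]
    linear_combination (1 + 5 * t + 2 * t ^ 3 + t ^ 5) * ht7 +
      (1 + 3 * t + 2 * t ^ 2 + 2 * t ^ 3 + 3 * t ^ 4 + t ^ 5 + 3 * t ^ 6) * h2
  rcases mul_eq_zero.mp hcc with h0 | h0
  · -- A ^ 8 = A, so g ^ 7 = 1
    left
    have h8 : g ^ 8 = g := by
      apply Subtype.ext
      have : ((g ^ 8 : SpecialLinearGroup (Fin 2) E) : Matrix (Fin 2) (Fin 2) E) = A ^ 8 := rfl
      rw [this, hA8, h0]
      unfold lin
      simp [hAdef]
    have : g ^ 7 * g = 1 * g := by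
      rw [← pow_succ, one_mul]; exact h8
    exact mul_right_cancel this
  · -- A ^ 8 = A + t, so g ^ 9 = 1
    right
    apply Subtype.ext
    have e9 : ((g ^ 9 : SpecialLinearGroup (Fin 2) E) : Matrix (Fin 2) (Fin 2) E) = A ^ 9 := rfl
    rw [e9, show 9 = 8 + 1 by norm_num, pow_succ, hA8]
    have hA1 : lin A 1 c * A = lin A 1 c * lin A 1 0 := by rw [lin_one_zero]
    rw [hA1, lin_mul A t hA]
    have hct : c = -t := by linear_combination h0
    have e1 : (1 * 1 * t + 1 * 0 + c * 1 : E) = 0 := by rw [hct]; ring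
    have e2 : (c * 0 - 1 * 1 : E) = 1 := by linear_combination (-1 : E) * h2
    rw [e1, e2, lin_zero, one_smul]
    rfl

omit [CharP E 2] in
theorem card_sl2_card8 (hE : Fintype.card E = 8) :
    Nat.card (SpecialLinearGroup (Fin 2) E) = 504 := by
  have h1 := Matrix.card_GL_field (𝔽 := E) 2
  have h2 := Cfsg.Agent.Lib.Helper5_SLCard.card_GL_eq_card_SL_mul (F := E) 2 (by norm_num)
  rw [h1, hE] at h2
  simp [Fin.prod_univ_two] at h2
  omega

end SL28

/-! ### `PSL(2,F)` with `|F| = 7` -/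

section PSL27

variable {F : Type u} [Field F] [Fintype F]

omit [Fintype F] in
/-- if a power of `g` is a scalar matrix then that power is trivial in `PSL` -/
theorem psl_pow_eq_one_of_scalar (g : SpecialLinearGroup (Fin 2) F) (n : ℕ) (r : F)
    (h : (g : Matrix (Fin 2) (Fin 2) F) ^ n = r • (1 : Matrix (Fin 2) (Fin 2) F)) :
    ((QuotientGroup.mk g : ProjectiveSpecialLinearGroup (Fin 2) F)) ^ n = 1 := by
  rw [← QuotientGroup.mk_pow, QuotientGroup.eq_one_iff, Matrix.SpecialLinearGroup.mem_center_iff]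
  have hcoe : ((g ^ n : SpecialLinearGroup (Fin 2) F) : Matrix (Fin 2) (Fin 2) F) =
      (g : Matrix (Fin 2) (Fin 2) F) ^ n := rfl
  refine ⟨r, ?_, ?_⟩
  · have hdet := (g ^ n).2
    rw [hcoe, h, Matrix.det_smul, Matrix.det_one, mul_one] at hdet
    exact hdet
  · rw [hcoe, h]
    ext i j
    simp [Matrix.smul_apply, Matrix.one_apply, Matrix.scalar_apply, Matrix.diagonal_apply]

theorem zmod7_cseq : ∀ s : ZMod 7, (cseq s 2).1 = 0 ∨ (cseq s 3).1 = 0 ∨ (cseq s 4).1 = 0 ∨
    (cseq s 7).1 = 0 := by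
  decide

theorem psl2_card7_pow (hF : Fintype.card F = 7)
    (x : ProjectiveSpecialLinearGroup (Fin 2) F) :
    x ^ 2 = 1 ∨ x ^ 3 = 1 ∨ x ^ 4 = 1 ∨ x ^ 7 = 1 := by
  obtain ⟨g, rfl⟩ := QuotientGroup.mk_surjective x
  set A : Matrix (Fin 2) (Fin 2) F := (g : Matrix (Fin 2) (Fin 2) F) with hAdef
  have hA : A * A = A.trace • A - 1 := sl2_sq g
  let e : ZMod 7 ≃+* F := ZMod.ringEquivOfPrime F (by norm_num) hF
  obtain ⟨s, hs⟩ := e.surjective A.trace
  have key : ∀ n : ℕ, (cseq s n).1 = 0 →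
      ((QuotientGroup.mk g : ProjectiveSpecialLinearGroup (Fin 2) F)) ^ n = 1 := by
    intro n hn
    apply psl_pow_eq_one_of_scalar g n (e (cseq s n).2)
    have := pow_eq_lin A A.trace hA n
    rw [← hs] at this
    have hmap := cseq_map (e : ZMod 7 →+* F) s n
    simp only [RingEquiv.coe_toRingHom] at hmap
    rw [hmap, hn, map_zero] at this
    simp only at this
    rw [lin_zero] at this
    exact this
  rcases zmod7_cseq s with h | h | h | h
  · exact Or.inl (key 2 h)
  · exact Or.inr (Or.inl (key 3 h))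
  · exact Or.inr (Or.inr (Or.inl (key 4 h)))
  · exact Or.inr (Or.inr (Or.inr (key 7 h)))

theorem card_sl2_card7 (hF : Fintype.card F = 7) :
    Nat.card (SpecialLinearGroup (Fin 2) F) = 336 := by
  have h1 := Matrix.card_GL_field (𝔽 := F) 2
  have h2 := Cfsg.Agent.Lib.Helper5_SLCard.card_GL_eq_card_SL_mul (F := F) 2 (by norm_num)
  rw [h1, hF] at h2
  simp [Fin.prod_univ_two] at h2
  omega

theorem card_psl2_card7 (hF : Fintype.card F = 7) :
    Nat.card (ProjectiveSpecialLinearGroup (Fin 2) F) = 336 ∨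
      Nat.card (ProjectiveSpecialLinearGroup (Fin 2) F) = 168 := by
  classical
  have h1 : Nat.card (SpecialLinearGroup (Fin 2) F) =
      Nat.card (ProjectiveSpecialLinearGroup (Fin 2) F) *
        Nat.card (Subgroup.center (SpecialLinearGroup (Fin 2) F)) :=
    Subgroup.card_eq_card_quotient_mul_card_subgroup
      (Subgroup.center (SpecialLinearGroup (Fin 2) F))
  rw [card_sl2_card7 hF] at h1
  have h2 : Nat.card (Subgroup.center (SpecialLinearGroup (Fin 2) F)) ≤ 2 := by
    rw [Nat.card_congr (Matrix.SpecialLinearGroup.center_equiv_rootsOfUnity'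
      (n := Fin 2) (R := F) 0).toEquiv]
    simp only [Fintype.card_fin]
    exact card_rootsOfUnity F 2
  have h3 : 0 < Nat.card (Subgroup.center (SpecialLinearGroup (Fin 2) F)) := Nat.card_pos
  have h4 : Nat.card (Subgroup.center (SpecialLinearGroup (Fin 2) F)) = 1 ∨
      Nat.card (Subgroup.center (SpecialLinearGroup (Fin 2) F)) = 2 := by omega
  rcases h4 with h | h
  · left; rw [h] at h1; omega
  · right; rw [h] at h1; omega

end PSL27

/-- `PSL(2,7)` and `SL(2,8)` have the same prime graph: vertices `2, 3, 7` and no edges. -/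
theorem samePrimeGraph_psl27_sl28 {F : Type u} [Field F] [Fintype F] (hF : Fintype.card F = 7)
    {E : Type v} [Field E] [Fintype E] [CharP E 2] (hE : Fintype.card E = 8) :
    SamePrimeGraph (ProjectiveSpecialLinearGroup (Fin 2) F) (SpecialLinearGroup (Fin 2) E) := by
  have hV1 : ∀ p : ℕ, p.Prime →
      (p ∣ Nat.card (ProjectiveSpecialLinearGroup (Fin 2) F) ↔ (p = 2 ∨ p = 3 ∨ p = 7)) := by
    intro p hp
    rcases card_psl2_card7 hF with h | h <;> rw [h]
    · constructor
      · intro hd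
        exact prime_dvd_237 (a := 4) (b := 1) (c := 1) hp (by norm_num; exact hd)
      · rintro (rfl | rfl | rfl) <;> norm_num
    · constructor
      · intro hd
        exact prime_dvd_237 (a := 3) (b := 1) (c := 1) hp (by norm_num; exact hd)
      · rintro (rfl | rfl | rfl) <;> norm_num
  have hV2 : ∀ p : ℕ, p.Prime →
      (p ∣ Nat.card (SpecialLinearGroup (Fin 2) E) ↔ (p = 2 ∨ p = 3 ∨ p = 7)) := by
    intro p hp
    rw [card_sl2_card8 hE]
    constructor
    · intro hd
      exact prime_dvd_237 (a := 3) (b := 2) (c := 1) hp (by norm_num; exact hd)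
    · rintro (rfl | rfl | rfl) <;> norm_num
  refine ⟨fun p hp => (hV1 p hp).trans (hV2 p hp).symm, fun p q hp hq hpq => ?_⟩
  constructor
  · rintro ⟨x, hx⟩
    exfalso
    rcases psl2_card7_pow hF x with h | h | h | h
    · have := orderOf_dvd_of_pow_eq_one h
      rw [hx] at this
      exact not_pq_dvd_prime_pow (r := 2) (k := 1) hp hq Nat.prime_two hpq (by simpa using this)
    · have := orderOf_dvd_of_pow_eq_one h
      rw [hx] at this
      exact not_pq_dvd_prime_pow (r := 3) (k := 1) hp hq Nat.prime_three hpq (by simpa using this)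
    · have := orderOf_dvd_of_pow_eq_one h
      rw [hx] at this
      exact not_pq_dvd_prime_pow (r := 2) (k := 2) hp hq Nat.prime_two hpq (by simpa using this)
    · have := orderOf_dvd_of_pow_eq_one h
      rw [hx] at this
      exact not_pq_dvd_prime_pow (r := 7) (k := 1) hp hq (by norm_num) hpq (by simpa using this)
  · rintro ⟨x, hx⟩
    exfalso
    rcases sl2_card8_pow hE x with h | h | h
    · have := orderOf_dvd_of_pow_eq_one h
      rw [hx] at this
      exact not_pq_dvd_prime_pow (r := 2) (k := 1) hp hq Nat.prime_two hpq (by simpa using this)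
    · have := orderOf_dvd_of_pow_eq_one h
      rw [hx] at this
      exact not_pq_dvd_prime_pow (r := 7) (k := 1) hp hq (by norm_num) hpq (by simpa using this)
    · have := orderOf_dvd_of_pow_eq_one h
      rw [hx] at this
      exact not_pq_dvd_prime_pow (r := 3) (k := 2) hp hq Nat.prime_three hpq (by simpa using this)

end Cfsg.Agent.Lib.Helper61_PSL27
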