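import Mathlib

/-!
# Helper61_PSL27Table

An explicit table of a surjective homomorphism `SL₂(ℤ/7) → SL₃(ℤ/2)` with kernel `{±1}`, with the
finite verifications (`decide +kernel`) used by `S0255`.
-/

set_option autoImplicit false

namespace Cfsg.Agent.Lib.Helper61_PSL27Table

open Matrix

/-- Table of an explicit homomorphism `SL₂(ℤ/7) → GL₃(ℤ/2)` (9-bit codes, `0` off `SL₂`). -/
def tbl : List (List (List (List ℕ))) := [[[[0,0,0,0,0,0,0],[0,0,0,0,0,0,0],[0,0,0,0,0,0,0],[0,0,0,0,0,0,0],[0,0,0,0,0,0,0],[0,0,0,0,0,0,0],[0,0,0,0,0,0,0]],[[0,0,0,0,0,0,0],[0,0,0,0,0,0,0],[0,0,0,0,0,0,0],[0,0,0,0,0,0,0],[0,0,0,0,0,0,0],[0,0,0,0,0,0,0],[337,461,431,254,307,156,98]],[[0,0,0,0,0,0,0],[0,0,0,0,0,0,0],[0,0,0,0,0,0,0],[167,331,442,285,86,492,241],[0,0,0,0,0,0,0],[0,0,0,0,0,0,0],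[0,0,0,0,0,0,0]],[[0,0,0,0,0,0,0],[0,0,0,0,0,0,0],[302,346,207,116,405,187,481],[0,0,0,0,0,0,0],[0,0,0,0,0,0,0],[0,0,0,0,0,0,0],[0,0,0,0,0,0,0]],[[0,0,0,0,0,0,0],[0,0,0,0,0,0,0],[0,0,0,0,0,0,0],[0,0,0,0,0,0,0],[0,0,0,0,0,0,0],[302,481,187,405,116,207,346],[0,0,0,0,0,0,0]],[[0,0,0,0,0,0,0],[0,0,0,0,0,0,0],[0,0,0,0,0,0,0],[0,0,0,0,0,0,0],[167,241,492,86,285,442,331],[0,0,0,0,0,0,0],[0,0,0,0,0,0,0]],[[0,0,0,0,0,0,0],[337,98,156,307,254,431,461],[0,0,0,0,0,0,0],[0,0,0,0,0,0,0],[0,0,0,0,0,0,0],[0,0,0,0,0,0,0],[0,0,0,0,0,0,0]]],[[[0,273,0,0,0,0,0],[0,396,0,0,0,0,0],[0,486,0,0,0,0,0],[0,247,0,0,0,0,0],[0,379,0,0,0,0,0],[0,157,0,0,0,0,0],[0,106,0,0,0,0,0]],[[0,226,0,0,0,0,0],[0,0,467,0,0,0,0],[0,0,0,351,0,0,0],[0,0,0,0,445,0,0],[0,0,0,0,0,110,0],[0,0,0,0,0,0,305],[140,0,0,0,0,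0,0]],[[0,412,0,0,0,0,0],[0,0,0,358,0,0,0],[0,0,0,0,0,117,0],[489,0,0,0,0,0,0],[0,0,143,0,0,0,0],[0,0,0,0,250,0,0],[0,0,0,0,0,0,275]],[[0,499,0,0,0,0,0],[0,0,0,0,95,0,0],[185,0,0,0,0,0,0],[0,0,0,330,0,0,0],[0,0,0,0,0,0,277],[0,0,428,0,0,0,0],[0,0,0,0,0,230,0]],[[0,382,0,0,0,0,0],[0,0,0,0,0,181,0],[0,0,298,0,0,0,0],[0,0,0,0,0,0,84],[0,0,0,225,0,0,0],[459,0,0,0,0,0,0],[0,0,0,0,415,0,0]],[[0,111,0,0,0,0,0],[0,0,0,0,0,0,313],[0,0,0,0,204,0,0],[0,0,163,0,0,0,0],[410,0,0,0,0,0,0],[0,0,0,0,0,342,0],[0,0,0,501,0,0,0]],[[0,141,0,0,0,0,0],[234,0,0,0,0,0,0],[0,0,0,0,0,0,403],[0,0,0,0,0,286,0],[0,0,0,0,500,0,0],[0,0,0,103,0,0,0],[0,0,377,0,0,0,0]]],[[[0,0,0,0,174,0,0],[0,0,0,0,267,0,0],[0,0,0,0,498,0,0],[0,0,0,0,348,0,0],[0,0,0,0,87,0,0],[0,0,0,0,421,0,0],[0,0,0,0,249,0,0]],[[0,0,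0,0,474,0,0],[0,369,0,0,0,0,0],[0,0,0,0,0,279,0],[0,0,205,0,0,0,0],[0,0,0,0,0,0,444],[0,0,0,171,0,0,0],[102,0,0,0,0,0,0]],[[0,0,0,0,271,0,0],[0,0,0,0,0,214,0],[0,0,0,0,0,0,380],[115,0,0,0,0,0,0],[0,165,0,0,0,0,0],[0,0,473,0,0,0,0],[0,0,0,426,0,0,0]],[[0,0,0,0,372,0,0],[0,0,122,0,0,0,0],[229,0,0,0,0,0,0],[0,0,0,0,0,401,0],[0,0,0,491,0,0,0],[0,270,0,0,0,0,0],[0,0,0,0,0,0,159]],[[0,0,0,0,213,0,0],[0,0,0,0,0,0,423],[0,107,0,0,0,0,0],[0,0,0,190,0,0,0],[0,0,0,0,0,281,0],[370,0,0,0,0,0,0],[0,0,460,0,0,0,0]],[[0,0,0,0,123,0,0],[0,0,0,172,0,0,0],[0,0,409,0,0,0,0],[0,482,0,0,0,0,0],[334,0,0,0,0,0,0],[0,0,0,0,0,0,215],[0,0,0,0,0,309,0]],[[0,0,0,0,417,0,0],[477,0,0,0,0,0,0],[0,0,0,142,0,0,0],[0,0,0,0,0,0,303],[0,0,242,0,0,0,0],[0,0,0,0,0,124,0],[0,339,0,0,0,0,0]]],[[[0,0,0,0,0,359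,0],[0,0,0,0,0,282,0],[0,0,0,0,0,206,0],[0,0,0,0,0,125,0],[0,0,0,0,0,468,0],[0,0,0,0,0,179,0],[0,0,0,0,0,425,0]],[[0,0,0,0,0,395,0],[0,0,0,85,0,0,0],[0,188,0,0,0,0,0],[0,0,0,0,0,0,478],[0,0,0,0,233,0,0],[0,0,354,0,0,0,0],[311,0,0,0,0,0,0]],[[0,0,0,0,0,314,0],[0,494,0,0,0,0,0],[0,0,0,0,345,0,0],[212,0,0,0,0,0,0],[0,0,0,183,0,0,0],[0,0,0,0,0,0,397],[0,0,99,0,0,0,0]],[[0,0,0,0,0,93,0],[0,0,0,0,0,0,244],[407,0,0,0,0,0,0],[0,169,0,0,0,0,0],[0,0,355,0,0,0,0],[0,0,0,318,0,0,0],[0,0,0,0,458,0,0]],[[0,0,0,0,0,470,0],[0,0,0,0,161,0,0],[0,0,0,299,0,0,0],[0,0,375,0,0,0,0],[0,394,0,0,0,0,0],[92,0,0,0,0,0,0],[0,0,0,0,0,0,253]],[[0,0,0,0,0,236,0],[0,0,335,0,0,0,0],[0,0,0,0,0,0,114],[0,0,0,419,0,0,0],[317,0,0,0,0,0,0],[0,0,0,0,465,0,0],[0,158,0,0,0,0,0]],[[0,0,0,0,0,177,0],[443,0,0,0,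0,0,0],[0,0,485,0,0,0,0],[0,0,0,0,266,0,0],[0,0,0,0,0,0,94],[0,239,0,0,0,0,0],[0,0,0,340,0,0,0]]],[[[0,0,359,0,0,0,0],[0,0,425,0,0,0,0],[0,0,179,0,0,0,0],[0,0,468,0,0,0,0],[0,0,125,0,0,0,0],[0,0,206,0,0,0,0],[0,0,282,0,0,0,0]],[[0,0,177,0,0,0,0],[0,0,0,0,340,0,0],[0,0,0,0,0,0,239],[0,94,0,0,0,0,0],[0,0,0,266,0,0,0],[0,0,0,0,0,485,0],[443,0,0,0,0,0,0]],[[0,0,236,0,0,0,0],[0,0,0,0,0,0,158],[0,0,0,465,0,0,0],[317,0,0,0,0,0,0],[0,0,0,0,419,0,0],[0,114,0,0,0,0,0],[0,0,0,0,0,335,0]],[[0,0,470,0,0,0,0],[0,253,0,0,0,0,0],[92,0,0,0,0,0,0],[0,0,0,0,0,0,394],[0,0,0,0,0,375,0],[0,0,0,0,299,0,0],[0,0,0,161,0,0,0]],[[0,0,93,0,0,0,0],[0,0,0,458,0,0,0],[0,0,0,0,318,0,0],[0,0,0,0,0,355,0],[0,0,0,0,0,0,169],[407,0,0,0,0,0,0],[0,244,0,0,0,0,0]],[[0,0,314,0,0,0,0],[0,0,0,0,0,99,0],[0,397,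0,0,0,0,0],[0,0,0,0,183,0,0],[212,0,0,0,0,0,0],[0,0,0,345,0,0,0],[0,0,0,0,0,0,494]],[[0,0,395,0,0,0,0],[311,0,0,0,0,0,0],[0,0,0,0,0,354,0],[0,0,0,233,0,0,0],[0,478,0,0,0,0,0],[0,0,0,0,0,0,188],[0,0,0,0,85,0,0]]],[[[0,0,0,174,0,0,0],[0,0,0,249,0,0,0],[0,0,0,421,0,0,0],[0,0,0,87,0,0,0],[0,0,0,348,0,0,0],[0,0,0,498,0,0,0],[0,0,0,267,0,0,0]],[[0,0,0,417,0,0,0],[0,0,0,0,0,0,339],[0,0,124,0,0,0,0],[0,0,0,0,0,242,0],[0,303,0,0,0,0,0],[0,0,0,0,142,0,0],[477,0,0,0,0,0,0]],[[0,0,0,123,0,0,0],[0,0,309,0,0,0,0],[0,215,0,0,0,0,0],[334,0,0,0,0,0,0],[0,0,0,0,0,0,482],[0,0,0,0,0,409,0],[0,0,0,0,172,0,0]],[[0,0,0,213,0,0,0],[0,0,0,0,0,460,0],[370,0,0,0,0,0,0],[0,0,281,0,0,0,0],[0,0,0,0,190,0,0],[0,0,0,0,0,0,107],[0,423,0,0,0,0,0]],[[0,0,0,372,0,0,0],[0,159,0,0,0,0,0],[0,0,0,0,0,0,270],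[0,0,0,0,491,0,0],[0,0,401,0,0,0,0],[229,0,0,0,0,0,0],[0,0,0,0,0,122,0]],[[0,0,0,271,0,0,0],[0,0,0,0,426,0,0],[0,0,0,0,0,473,0],[0,0,0,0,0,0,165],[115,0,0,0,0,0,0],[0,380,0,0,0,0,0],[0,0,214,0,0,0,0]],[[0,0,0,474,0,0,0],[102,0,0,0,0,0,0],[0,0,0,0,171,0,0],[0,444,0,0,0,0,0],[0,0,0,0,0,205,0],[0,0,279,0,0,0,0],[0,0,0,0,0,0,369]]],[[[0,0,0,0,0,0,273],[0,0,0,0,0,0,106],[0,0,0,0,0,0,157],[0,0,0,0,0,0,379],[0,0,0,0,0,0,247],[0,0,0,0,0,0,486],[0,0,0,0,0,0,396]],[[0,0,0,0,0,0,141],[0,0,0,0,0,377,0],[0,0,0,0,103,0,0],[0,0,0,500,0,0,0],[0,0,286,0,0,0,0],[0,403,0,0,0,0,0],[234,0,0,0,0,0,0]],[[0,0,0,0,0,0,111],[0,0,0,0,501,0,0],[0,0,342,0,0,0,0],[410,0,0,0,0,0,0],[0,0,0,0,0,163,0],[0,0,0,204,0,0,0],[0,313,0,0,0,0,0]],[[0,0,0,0,0,0,382],[0,0,0,415,0,0,0],[459,0,0,0,0,0,0],[0,0,0,0,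225,0,0],[0,84,0,0,0,0,0],[0,0,0,0,0,298,0],[0,0,181,0,0,0,0]],[[0,0,0,0,0,0,499],[0,0,230,0,0,0,0],[0,0,0,0,0,428,0],[0,277,0,0,0,0,0],[0,0,0,0,330,0,0],[185,0,0,0,0,0,0],[0,0,0,95,0,0,0]],[[0,0,0,0,0,0,412],[0,275,0,0,0,0,0],[0,0,0,250,0,0,0],[0,0,0,0,0,143,0],[489,0,0,0,0,0,0],[0,0,117,0,0,0,0],[0,0,0,0,358,0,0]],[[0,0,0,0,0,0,226],[140,0,0,0,0,0,0],[0,305,0,0,0,0,0],[0,0,110,0,0,0,0],[0,0,0,445,0,0,0],[0,0,0,0,351,0,0],[0,0,0,0,0,467,0]]]]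

def look (a b c d : ZMod 7) : ℕ :=
  (((tbl.getD a.val []).getD b.val []).getD c.val []).getD d.val 0

def dec (n : ℕ) : Matrix (Fin 3) (Fin 3) (ZMod 2) :=
  fun i j => if n.testBit (3 * i.val + j.val) then 1 else 0

/-- The determinant of a `3 × 3` matrix, written out. -/
def det3 (M : Matrix (Fin 3) (Fin 3) (ZMod 2)) : ZMod 2 :=
  M 0 0 * M 1 1 * M 2 2 - M 0 0 * M 1 2 * M 2 1 - M 0 1 * M 1 0 * M 2 2 + M 0 1 * M 1 2 * M 2 0 +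
    M 0 2 * M 1 0 * M 2 1 - M 0 2 * M 1 1 * M 2 0

theorem det3_eq (M : Matrix (Fin 3) (Fin 3) (ZMod 2)) : M.det = det3 M := Matrix.det_fin_three M

set_option maxRecDepth 100000 in
theorem det_look : ∀ a b c d : ZMod 7, a * d - b * c = 1 → det3 (dec (look a b c d)) = 1 := by
  decide +kernel

theorem look_one : look 1 0 0 1 = 273 := by decide +kernel

theorem look_neg_one : look 6 0 0 6 = 273 := by decide +kernel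

theorem dec_one : dec 273 = 1 := by decide +kernel

set_option maxRecDepth 100000 in
theorem gen_check : ∀ a b c d : ZMod 7, a * d - b * c = 1 → ∀ x : ZMod 7,
    dec (look a b c d) * dec (look 1 x 0 1) = dec (look a (a * x + b) c (c * x + d)) ∧
    dec (look a b c d) * dec (look 1 0 x 1) = dec (look (a + b * x) b (c + d * x) d) := by
  decide +kernel

set_option maxRecDepth 100000 in
theorem ker_check : ∀ a b c d : ZMod 7, a * d - b * c = 1 → look a b c d = 273 →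
    (a = 1 ∧ b = 0 ∧ c = 0 ∧ d = 1) ∨ (a = 6 ∧ b = 0 ∧ c = 0 ∧ d = 6) := by
  decide +kernel

def code (m00 m01 m02 m10 m11 m12 m20 m21 m22 : ZMod 2) : ℕ :=
  m00.val + 2 * m01.val + 4 * m02.val + 8 * m10.val + 16 * m11.val + 32 * m12.val +
    64 * m20.val + 128 * m21.val + 256 * m22.val

set_option maxRecDepth 100000 in
theorem dec_code : ∀ m00 m01 m02 m10 m11 m12 m20 m21 m22 : ZMod 2,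
    dec (code m00 m01 m02 m10 m11 m12 m20 m21 m22) = !![m00, m01, m02; m10, m11, m12; m20, m21, m22] := by
  decide +kernel

set_option maxRecDepth 100000 in
theorem surj_check : ∀ m00 m01 m02 m10 m11 m12 m20 m21 m22 : ZMod 2,
    det3 !![m00, m01, m02; m10, m11, m12; m20, m21, m22] = 1 →
    ∃ a b c d : ZMod 7, a * d - b * c = 1 ∧ look a b c d = code m00 m01 m02 m10 m11 m12 m20 m21 m22 := by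
  decide +kernel

set_option maxRecDepth 100000 in
theorem decomp : ∀ a b c d : ZMod 7, a * d - b * c = 1 → c ≠ 0 →
    ∃ x y : ZMod 7, 1 + x * c = a ∧ (1 + x * c) * y + x = b ∧ c * y + 1 = d := by
  decide +kernel

end Cfsg.Agent.Lib.Helper61_PSL27Table
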