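import Mathlib
import Cfsg.Prelude.Def_ChevG2
import Cfsg.Prelude.Def_LieTwisted
import Cfsg.Agent.Lib.Helper61_R3Bridge
import Cfsg.Agent.Lib.Helper61_SL28Bridge
import Cfsg.Agent.Lib.Helper61_FamilyIso3
import Cfsg.Agent.Lib.Helper61_PSL27

/-!
# Helper61_R3Group

The commutator subgroup of `²G₂(3)` (`twistedG2 (ZMod 3) 1`) is generated by two explicit elements
`gA`, `gB`, has order `504`, and is isomorphic to `SL₂(8)` over the model `F8`.
-/

set_option autoImplicit false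

namespace Cfsg.Agent.Lib.Helper61_R3Group

open Matrix Cfsg.Lie Cfsg.Agent.Lib.Helper61_F8 Cfsg.Agent.Lib.Helper61_R3Data
  Cfsg.Agent.Lib.Helper61_Mat3Code Cfsg.Agent.Lib.Helper61_R3Bridge
  Cfsg.Agent.Lib.Helper61_SL28Bridge Cfsg.Agent.Lib.Helper61_FamilyIso3
open Cfsg.Agent.Lib.Helper61_G22Bridge (I14 pos pos_lt)

open scoped commutatorElement

/-- If every generator lies in some `H s⁻ᵏ`, with `s` normalising `H`, then the commutator
subgroup of the generated group lies in `H`. -/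
theorem commutator_closure_le_pow {Γ : Type*} [Group Γ] (H : Subgroup Γ) (S : Set Γ) (s : Γ)
    (hs : s ∈ Subgroup.normalizer (H : Set Γ)) (hS : ∀ x ∈ S, ∃ k : ℕ, x * s ^ k ∈ H) :
    ⁅Subgroup.closure S, Subgroup.closure S⁆ ≤ H := by
  have hSN : ∀ x ∈ S, x ∈ Subgroup.normalizer (H : Set Γ) := by
    intro x hx
    obtain ⟨k, h⟩ := hS x hx
    have : x = (x * s ^ k) * (s ^ k)⁻¹ := by group
    rw [this]
    exact mul_mem (Subgroup.le_normalizer h) (inv_mem (pow_mem hs k))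
  let N : Subgroup Γ := Subgroup.normalizer (H : Set Γ)
  have : (H.subgroupOf N).Normal := Subgroup.normal_in_normalizer
  let π : ↥N →* ↥N ⧸ H.subgroupOf N := QuotientGroup.mk' (H.subgroupOf N)
  let sN : ↥N := ⟨s, hs⟩
  let K : Subgroup Γ := ((Subgroup.zpowers (π sN)).comap π).map N.subtype
  have hSK : Subgroup.closure S ≤ K := by
    rw [Subgroup.closure_le]
    intro x hx
    refine ⟨⟨x, hSN x hx⟩, ?_, rfl⟩
    show π ⟨x, hSN x hx⟩ ∈ Subgroup.zpowers (π sN)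
    obtain ⟨k, h⟩ := hS x hx
    have h1 : π (⟨x, hSN x hx⟩ * sN ^ k) = 1 := by
      rw [QuotientGroup.mk'_apply, QuotientGroup.eq_one_iff]
      exact h
    rw [map_mul, map_pow] at h1
    rw [eq_inv_of_mul_eq_one_left h1]
    exact inv_mem (pow_mem (Subgroup.mem_zpowers _) k)
  rw [Subgroup.commutator_le]
  intro g₁ hg₁ g₂ hg₂
  obtain ⟨n₁, hn₁, rfl⟩ := hSK hg₁
  obtain ⟨n₂, hn₂, rfl⟩ := hSK hg₂
  have hn₁' : π n₁ ∈ Subgroup.zpowers (π sN) := hn₁
  have hn₂' : π n₂ ∈ Subgroup.zpowers (π sN) := hn₂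
  obtain ⟨a, ha⟩ := Subgroup.mem_zpowers_iff.1 hn₁'
  obtain ⟨b, hb⟩ := Subgroup.mem_zpowers_iff.1 hn₂'
  have hcomm : π ⁅n₁, n₂⁆ = 1 := by
    rw [map_commutatorElement, ← ha, ← hb, commutatorElement_eq_one_iff_commute]
    exact (Commute.refl _).zpow_zpow a b
  rw [QuotientGroup.mk'_apply, QuotientGroup.eq_one_iff] at hcomm
  exact hcomm

/-- The ambient group. -/
abbrev GL3 : Type := GL I14 (ZMod 3)

/-- A unit from the codes of a matrix and of its inverse. -/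
def mkU (c ci : ℕ) (h1 : mulC c ci = one3) (h2 : mulC ci c = one3) : GL3 :=
  ⟨decM3 c, decM3 ci, by rw [← decM3_mulC, h1, decM3_one], by rw [← decM3_mulC, h2, decM3_one]⟩

theorem mkU_val (c ci : ℕ) (h1 : mulC c ci = one3) (h2 : mulC ci c = one3) :
    ((mkU c ci h1 h2 : GL3) : Matrix I14 I14 (ZMod 3)) = decM3 c := rfl

theorem mkU_inv_val (c ci : ℕ) (h1 : mulC c ci = one3) (h2 : mulC ci c = one3) :
    (((mkU c ci h1 h2)⁻¹ : GL3) : Matrix I14 I14 (ZMod 3)) = decM3 ci := rfl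

def gA : GL3 := mkU gcA gcA misc_checks.1 misc_checks.1
def gB : GL3 := mkU gcB gcBi misc_checks.2.1 misc_checks.2.2.1
def s : GL3 := mkU sc sci misc_checks.2.2.2.1 misc_checks.2.2.2.2.1
def w30 : GL3 := mkU (wcodeV 0 1 0) wi30 misc_checks.2.2.2.2.2.2.1 misc_checks.2.2.2.2.2.2.2.1
def w9 : GL3 := mkU (wcodeU 1 0 0) wi9 misc_checks.2.2.2.2.2.2.2.2.1 misc_checks.2.2.2.2.2.2.2.2.2.1

/-- The generators as a sequence. -/
def gen₃ (j : ℕ) : GL3 := if j = 0 then gA else gB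

abbrev ι₃ : GL3 →* Matrix I14 I14 (ZMod 3) := Units.coeHom _

theorem ι₃_inj : Function.Injective ι₃ := fun _ _ h => Units.ext h

theorem fam₃ : Fam ι₃ 504 2 (fun i => decM3 (look3 i)) gen₃ mtb par pj dep where
  one := by
    show decM3 (look3 0) = 1
    rw [look3_zero, decM3_one]
  mul := by
    intro i hi j hj
    have hj' : j = 0 ∨ j = 1 := by omega
    rcases hj' with rfl | rfl
    · exact mul3_A hi
    · exact mul3_B hi
  mlt := fun i hi j hj => mtb_lt hi hj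
  tree := fun i hi h0 => tree hi h0

/-- The subgroup generated by `gA`, `gB`. -/
abbrev H3 : Subgroup GL3 := gens 2 gen₃

theorem mem_H3 {a : GL3} {i : ℕ} (hi : i < 504)
    (h : (a : Matrix I14 I14 (ZMod 3)) = decM3 (look3 i)) : a ∈ H3 :=
  (mem_gens_iff ι₃_inj fam₃ (by norm_num) a).2 ⟨i, hi, h⟩

/-! ### The side of `SL₂(8)` -/

def uA : SpecialLinearGroup (Fin 2) F8 := ⟨MA, gens_det.1⟩
def uB : SpecialLinearGroup (Fin 2) F8 := ⟨MB, gens_det.2⟩

def gen₈ (j : ℕ) : SpecialLinearGroup (Fin 2) F8 := if j = 0 then uA else uB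

def ι₈ : SpecialLinearGroup (Fin 2) F8 →* Matrix (Fin 2) (Fin 2) F8 where
  toFun g := g.1
  map_one' := rfl
  map_mul' _ _ := rfl

theorem ι₈_inj : Function.Injective ι₈ := fun _ _ h => Subtype.ext h

theorem fam₈ : Fam ι₈ 504 2 (fun i => decM8 (look8 i)) gen₈ mtb par pj dep where
  one := decM8_zero
  mul := by
    intro i hi j hj
    have hj' : j = 0 ∨ j = 1 := by omega
    rcases hj' with rfl | rfl
    · exact mul8_A hi
    · exact mul8_B hi
  mlt := fun i hi j hj => mtb_lt hi hj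
  tree := fun i hi h0 => tree hi h0

theorem card_gens₈ : Nat.card ↥(gens 2 gen₈) = 504 :=
  card_gens ι₈_inj fam₈ (by norm_num) (fun _ hi _ hi' h => decM8_look_inj hi hi' h)

theorem gens₈_top : gens 2 gen₈ = ⊤ := by
  apply Subgroup.eq_top_of_card_eq
  rw [card_gens₈, Cfsg.Agent.Lib.Helper61_PSL27.card_sl2_card8 F8.card]

theorem exists_main : Nonempty (SpecialLinearGroup (Fin 2) F8 ≃* ↥H3) := by
  obtain ⟨e⟩ := exists_mulEquiv ι₈_inj ι₃_inj fam₈ fam₃ (by norm_num)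
    (fun _ hi _ hi' h => decM8_look_inj hi hi' h) (fun _ hi h => ker3 hi h)
  exact ⟨(Subgroup.topEquiv.symm.trans (MulEquiv.subgroupCongr gens₈_top.symm)).trans e⟩

theorem card_H3 : Nat.card ↥H3 = 504 := by
  obtain ⟨e⟩ := exists_main
  rw [← Nat.card_congr e.toEquiv, Cfsg.Agent.Lib.Helper61_PSL27.card_sl2_card8 F8.card]

set_option maxRecDepth 100000 in
theorem sq_eq_one_F8 : ∀ r : F8, r ^ 2 = 1 → r = 1 := by decide +kernel

theorem center_SL28 : Subgroup.center (SpecialLinearGroup (Fin 2) F8) = ⊥ := by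
  rw [eq_bot_iff]
  intro A hA
  rw [Matrix.SpecialLinearGroup.mem_center_iff] at hA
  obtain ⟨r, hr, hA⟩ := hA
  rw [Fintype.card_fin] at hr
  rw [sq_eq_one_F8 r hr, map_one] at hA
  rw [Subgroup.mem_bot]
  exact Subtype.ext hA.symm

/-! ### The twisted group -/

/-- The root matrices, indexed by natural numbers. -/
def Xx (r : ℕ) (c : ZMod 3) : Matrix I14 I14 (ZMod 3) := chevG2.x (ZMod 3) r c

/-- The matrix of a word. -/
def XW (w : List (ℕ × ZMod 3)) : Matrix I14 I14 (ZMod 3) := chevG2.wordMat (ZMod 3) w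

theorem XW_nil : XW [] = 1 := rfl

theorem XW_cons (p : ℕ × ZMod 3) (w : List (ℕ × ZMod 3)) : XW (p :: w) = Xx p.1 p.2 * XW w := by
  unfold XW ChevalleyDatum.wordMat
  rw [List.map_cons, List.prod_cons]
  rfl

theorem x_eq (r : ℕ) (hr : r < 12) (c : ZMod 3) : Xx r c = decM3 (rootc r c.val) := by
  unfold Xx ChevalleyDatum.x
  rw [dif_pos (show r < chevG2.nroots from hr)]
  exact root3 ⟨r, hr⟩ c

theorem wordMat_U (t u v : ZMod 3) :
    XW (reeWordU 1 t u v) = decM3 (wcodeU t.val u.val v.val) := by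
  have e1 : ∀ t : ZMod 3, (t ^ 1).val = t.val := by decide
  have e2 : ∀ t u : ZMod 3, (t ^ (1 + 1) + u ^ 1).val = (t.val * t.val + u.val) % 3 := by decide
  have e3 : ∀ t v : ZMod 3, (t ^ (2 * 1 + 1) + v ^ 1).val = (t.val * t.val * t.val + v.val) % 3 := by
    decide
  unfold reeWordU
  simp only [XW_cons, XW_nil, mul_one, g2a, g2b, g2ab, g2aab, g2aaab, g2aaabb]
  rw [x_eq 7 (by norm_num), x_eq 6 (by norm_num), x_eq 8 (by norm_num), x_eq 9 (by norm_num),
    x_eq 10 (by norm_num), x_eq 11 (by norm_num), e1, e2, e3]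
  unfold wcodeU
  simp only [decM3_mulC]

theorem wordMat_V (t u v : ZMod 3) :
    XW (reeWordV 1 t u v) = decM3 (wcodeV t.val u.val v.val) := by
  have e0 : ∀ t : ZMod 3, (-t).val = (3 - t.val) % 3 := by decide
  have e1 : ∀ t : ZMod 3, (t ^ 1).val = t.val := by decide
  have e2 : ∀ t u : ZMod 3, (t ^ (1 + 1) + u ^ 1).val = (t.val * t.val + u.val) % 3 := by decide
  have e3 : ∀ t v : ZMod 3, (t ^ (2 * 1 + 1) + v ^ 1).val = (t.val * t.val * t.val + v.val) % 3 := by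
    decide
  have n7 : chevG2.negIdx.getD 7 0 = 4 := by decide
  have n6 : chevG2.negIdx.getD 6 0 = 5 := by decide
  have n8 : chevG2.negIdx.getD 8 0 = 3 := by decide
  have n9 : chevG2.negIdx.getD 9 0 = 2 := by decide
  have n10 : chevG2.negIdx.getD 10 0 = 1 := by decide
  have n11 : chevG2.negIdx.getD 11 0 = 0 := by decide
  unfold reeWordV ChevalleyDatum.negWord reeWordU
  simp only [List.map_cons, List.map_nil, XW_cons, XW_nil, mul_one, g2a, g2b, g2ab,
    g2aab, g2aaab, g2aaabb, n7, n6, n8, n9, n10, n11]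
  rw [x_eq 4 (by norm_num), x_eq 5 (by norm_num), x_eq 3 (by norm_num), x_eq 2 (by norm_num),
    x_eq 1 (by norm_num), x_eq 0 (by norm_num)]
  simp only [e0]
  rw [e1, e2, e3]
  unfold wcodeV
  simp only [decM3_mulC]

/-- The twisted group, with the index type written out. -/
def T : Subgroup GL3 := twistedG2 (ZMod 3) 1

theorem T_eq : T = Subgroup.closure {g : GL3 | ∃ w ∈ g2Words (ZMod 3) 1,
    (g : Matrix I14 I14 (ZMod 3)) = XW w} := rfl

theorem s_val : ((s : GL3) : Matrix I14 I14 (ZMod 3)) = decM3 sc := rfl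

theorem s_mem_T : s ∈ T := by
  rw [T_eq]
  refine Subgroup.subset_closure ⟨reeWordU 1 0 1 0, ⟨0, 1, 0, Or.inl rfl⟩, ?_⟩
  rw [wordMat_U, s_val, misc_checks.2.2.2.2.2.1]
  rfl

theorem w30_mem_T : w30 ∈ T := by
  rw [T_eq]
  refine Subgroup.subset_closure ⟨reeWordV 1 0 1 0, ⟨0, 1, 0, Or.inr rfl⟩, ?_⟩
  rw [wordMat_V]
  rfl

theorem w9_mem_T : w9 ∈ T := by
  rw [T_eq]
  refine Subgroup.subset_closure ⟨reeWordU 1 1 0 0, ⟨1, 0, 0, Or.inl rfl⟩, ?_⟩
  rw [wordMat_U]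
  rfl

theorem gA_eq_commutator : gA = ⁅s, w30⁆ := by
  apply Units.ext
  rw [commutatorElement_def]
  simp only [Units.val_mul]
  show decM3 gcA = decM3 sc * decM3 (wcodeV 0 1 0) * decM3 sci * decM3 wi30
  rw [← decM3_mulC, ← decM3_mulC, ← decM3_mulC, misc_checks.2.2.2.2.2.2.2.2.2.2.1]

theorem gB_eq_commutator : gB = ⁅s, w9⁆ := by
  apply Units.ext
  rw [commutatorElement_def]
  simp only [Units.val_mul]
  show decM3 gcB = decM3 sc * decM3 (wcodeU 1 0 0) * decM3 sci * decM3 wi9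
  rw [← decM3_mulC, ← decM3_mulC, ← decM3_mulC, misc_checks.2.2.2.2.2.2.2.2.2.2.2.1]

theorem H3_le_commutator : H3 ≤ ⁅T, T⁆ := by
  show Subgroup.closure _ ≤ _
  rw [Subgroup.closure_le]
  rintro x ⟨j, -, rfl⟩
  unfold gen₃
  split_ifs
  · rw [gA_eq_commutator]
    exact Subgroup.commutator_mem_commutator s_mem_T w30_mem_T
  · rw [gB_eq_commutator]
    exact Subgroup.commutator_mem_commutator s_mem_T w9_mem_T

theorem conj_gen : s * gA * s⁻¹ ∈ H3 ∧ s * gB * s⁻¹ ∈ H3 ∧ s⁻¹ * gA * s ∈ H3 ∧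
    s⁻¹ * gB * s ∈ H3 := by
  obtain ⟨_, _, _, _, _, _, _, _, _, _, _, _, c1, c2, c3, c4, _⟩ := misc_checks
  refine ⟨?_, ?_, ?_, ?_⟩
  · apply mem_H3 (i := 503) (by norm_num)
    show decM3 sc * decM3 gcA * decM3 sci = _
    rw [← decM3_mulC, ← decM3_mulC, c1]
  · apply mem_H3 (i := 42) (by norm_num)
    show decM3 sc * decM3 gcB * decM3 sci = _
    rw [← decM3_mulC, ← decM3_mulC, c2]
  · apply mem_H3 (i := 430) (by norm_num)
    show decM3 sci * decM3 gcA * decM3 sc = _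
    rw [← decM3_mulC, ← decM3_mulC, c3]
  · apply mem_H3 (i := 42) (by norm_num)
    show decM3 sci * decM3 gcB * decM3 sc = _
    rw [← decM3_mulC, ← decM3_mulC, c4]

theorem conj_mem (c : GL3) (hA : c * gA * c⁻¹ ∈ H3) (hB : c * gB * c⁻¹ ∈ H3) {h : GL3}
    (hh : h ∈ H3) : c * h * c⁻¹ ∈ H3 := by
  induction hh using Subgroup.closure_induction with
  | mem x hx =>
    obtain ⟨j, hj, rfl⟩ := hx
    have hj' : j = 0 ∨ j = 1 := by
      have : j < 2 := hj
      omega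
    rcases hj' with rfl | rfl
    · exact hA
    · exact hB
  | one => rw [mul_one, mul_inv_cancel]; exact one_mem _
  | mul x y _ _ hx hy =>
    have : c * (x * y) * c⁻¹ = (c * x * c⁻¹) * (c * y * c⁻¹) := by group
    rw [this]; exact mul_mem hx hy
  | inv x _ hx =>
    have : c * x⁻¹ * c⁻¹ = (c * x * c⁻¹)⁻¹ := by group
    rw [this]; exact inv_mem hx

theorem s_mem_normalizer : s ∈ Subgroup.normalizer (H3 : Set GL3) := by
  rw [Subgroup.mem_normalizer_iff]
  intro h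
  constructor
  · exact conj_mem s conj_gen.1 conj_gen.2.1
  · intro hh
    have h2 := conj_mem s⁻¹ (by rw [inv_inv]; exact conj_gen.2.2.1)
      (by rw [inv_inv]; exact conj_gen.2.2.2) hh
    have : s⁻¹ * (s * h * s⁻¹) * s⁻¹⁻¹ = h := by group
    rwa [this] at h2

theorem s_pow_val {k : ℕ} (hk : k < 3) :
    ((s ^ k : GL3) : Matrix I14 I14 (ZMod 3)) = decM3 (spow k) := by
  have hk' : k = 0 ∨ k = 1 ∨ k = 2 := by omega
  rcases hk' with rfl | rfl | rfl
  · rw [pow_zero]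
    exact decM3_one.symm
  · rw [pow_one]
    rfl
  · rw [pow_two, Units.val_mul, s_val, ← decM3_mulC]
    rfl

theorem commutator_T_le : ⁅T, T⁆ ≤ H3 := by
  rw [T_eq]
  apply commutator_closure_le_pow H3 _ s s_mem_normalizer
  rintro x ⟨w, ⟨t, u, v, hw⟩, hx⟩
  rcases hw with rfl | rfl
  · obtain ⟨h1, h2, h3⟩ := witU t u v
    refine ⟨wk (9 * t.val + 3 * u.val + v.val), mem_H3 h2 ?_⟩
    rw [Units.val_mul, hx, wordMat_U, s_pow_val h3, ← decM3_mulC, h1]
  · obtain ⟨h1, h2, h3⟩ := witV t u v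
    refine ⟨wk (27 + 9 * t.val + 3 * u.val + v.val), mem_H3 h2 ?_⟩
    rw [Units.val_mul, hx, wordMat_V, s_pow_val h3, ← decM3_mulC, h1]

theorem commutator_T_eq : ⁅T, T⁆ = H3 := le_antisymm commutator_T_le H3_le_commutator

/-- The commutator subgroup of `²G₂(3)` as a subgroup of `GL`. -/
noncomputable def commEquiv : ↥(commutator ↥T) ≃* ↥H3 :=
  ((commutator ↥T).equivMapOfInjective T.subtype Subtype.coe_injective).trans
    (MulEquiv.subgroupCongr (T.map_subtype_commutator.trans commutator_T_eq))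

end Cfsg.Agent.Lib.Helper61_R3Group
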