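import Mathlib

/-!
# Two rank lemmas (helper79)

* `rank_map_field`: the rank of a square matrix over a field does not change under a field
  extension;
* `rank_transpose_mul_diag_mul`: if `Ω, Ω'` have right inverses and `U` is an invertible diagonal
  matrix then `Ω'ᵀ U Ω` has rank the number of rows of `Ω`.
-/

set_option autoImplicit false

namespace Cfsg.Agent.Lib.Helper79_RankTools

open Matrix

theorem rank_normal_form {K : Type*} [Field K] {m : Type*} [Fintype m] [DecidableEq m]
    (r s : ℕ) (e : m ≃ Fin r ⊕ Fin s) :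
    (((fromBlocks (1 : Matrix (Fin r) (Fin r) K) 0 0 (0 : Matrix (Fin s) (Fin s) K))).submatrix
      e e).rank = r := by
  classical
  rw [rank_submatrix]
  have h1 : (fromBlocks (1 : Matrix (Fin r) (Fin r) K) 0 0 (0 : Matrix (Fin s) (Fin s) K)) =
      diagonal (Sum.elim (fun _ => (1 : K)) (fun _ => (0 : K))) := by
    rw [← diagonal_one, ← diagonal_zero, fromBlocks_diagonal]
  rw [h1, rank_diagonal]
  have h2 : Fintype.card {i : Fin r ⊕ Fin s //
      Sum.elim (fun _ => (1 : K)) (fun _ => (0 : K)) i ≠ 0} = Fintype.card (Fin r) := by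
    refine Fintype.card_congr ?_
    refine ⟨fun i => match i with
      | ⟨Sum.inl a, _⟩ => a
      | ⟨Sum.inr b, h⟩ => absurd rfl h, fun a => ⟨Sum.inl a, by simp⟩, ?_, ?_⟩
    · rintro ⟨a | b, h⟩
      · rfl
      · exact absurd rfl h
    · intro a
      rfl
  rw [h2, Fintype.card_fin]

/-- The rank of a square matrix over a field is invariant under a field extension. -/
theorem rank_map_field {F K : Type*} [Field F] [Field K] (f : F →+* K) {m : Type*} [Fintype m]
    [DecidableEq m] (A : Matrix m m F) : (A.map f).rank = A.rank := by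
  classical
  obtain ⟨V, U, e, hV, hU, h⟩ := exists_rank_normal_form A
  have hV' : IsUnit (V.map f) := by
    have := hV.map f.mapMatrix
    simpa using this
  have hU' : IsUnit (U.map f) := by
    have := hU.map f.mapMatrix
    simpa using this
  have h' : V.map f * A.map f * U.map f =
      ((fromBlocks (1 : Matrix (Fin A.rank) (Fin A.rank) K) 0 0
        (0 : Matrix (Fin (Fintype.card m - A.rank)) (Fin (Fintype.card m - A.rank)) K))).submatrix
          e e := by
    have := congrArg (fun X : Matrix m m F => X.map f) h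
    simp only [Matrix.map_mul] at this
    rw [this]
    ext i j
    simp only [map_apply, submatrix_apply]
    rcases e i with a | b <;> rcases e j with c | d <;>
      simp [fromBlocks, Matrix.one_apply]
  have h1 : (V.map f * A.map f * U.map f).rank = (A.map f).rank := by
    rw [rank_mul_eq_left_of_isUnit_det _ _ ((isUnit_iff_isUnit_det _).mp hU'),
      rank_mul_eq_right_of_isUnit_det _ _ ((isUnit_iff_isUnit_det _).mp hV')]
  rw [← h1, h', rank_normal_form]

theorem transpose_mul_diag_mul_apply {K : Type*} [Field K] {b ι : Type*} [Fintype b]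
    [DecidableEq b] (Ω Ω' : Matrix b ι K) (u : b → K) (i j : ι) :
    (Ω'ᵀ * diagonal u * Ω) i j = ∑ B, Ω' B i * u B * Ω B j := by
  rw [Matrix.mul_apply]
  refine Finset.sum_congr rfl fun B _ => ?_
  rw [Matrix.mul_diagonal, Matrix.transpose_apply]

/-- A product `Ω'ᵀ U Ω` with `Ω, Ω'` right invertible and `U` invertible diagonal has full rank. -/
theorem rank_transpose_mul_diag_mul {K : Type*} [Field K] {b ι : Type*} [Fintype b] [Fintype ι]
    [DecidableEq b] [DecidableEq ι] (Ω Ω' : Matrix b ι K) (u : b → K) (hu : ∀ i, u i ≠ 0)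
    (C C' : Matrix ι b K) (hC : Ω * C = 1) (hC' : Ω' * C' = 1) :
    (Ω'ᵀ * diagonal u * Ω).rank = Fintype.card b := by
  classical
  apply le_antisymm
  · calc (Ω'ᵀ * diagonal u * Ω).rank ≤ (Ω'ᵀ * diagonal u).rank := rank_mul_le_left _ _
      _ ≤ Fintype.card b := rank_le_card_width _
  · have h1 : C'ᵀ * (Ω'ᵀ * diagonal u * Ω) * C = diagonal u := by
      have e1 : C'ᵀ * (Ω'ᵀ * diagonal u * Ω) * C = (Ω' * C')ᵀ * diagonal u * (Ω * C) := by
        rw [transpose_mul]
        simp only [Matrix.mul_assoc]
      rw [e1, hC, hC', transpose_one, Matrix.one_mul, Matrix.mul_one]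
    have h2 : (diagonal u).rank = Fintype.card b := by
      have hdet : IsUnit (diagonal u).det := by
        rw [det_diagonal]
        exact IsUnit.mk0 _ (Finset.prod_ne_zero_iff.mpr fun i _ => hu i)
      exact rank_of_isUnit _ ((isUnit_iff_isUnit_det _).mpr hdet)
    calc Fintype.card b = (C'ᵀ * (Ω'ᵀ * diagonal u * Ω) * C).rank := by rw [h1, h2]
      _ ≤ (C'ᵀ * (Ω'ᵀ * diagonal u * Ω)).rank := rank_mul_le_left _ _
      _ ≤ (Ω'ᵀ * diagonal u * Ω).rank := rank_mul_le_right _ _

end Cfsg.Agent.Lib.Helper79_RankTools
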