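import Mathlib
import Cfsg.Prelude.Def_Blocks
import Cfsg.Agent.Lib.Helper78_LocalRing
import Cfsg.Agent.Lib.Helper78_CentralChar
import Cfsg.Agent.Lib.Helper78_Osima
import Cfsg.Agent.Lib.Helper78_CharFacts
import Cfsg.Agent.Lib.Helper78_MinMax
import Cfsg.Agent.Lib.Helper78_Defect
import Cfsg.Agent.Lib.Helper78_Deficiency
import Cfsg.Agent.Lib.Helper77_BlockBasics
import Cfsg.Agent.Lib.Helper77_QuotDefect2
import Cfsg.Agent.Lib.Helper75_CharArith
import Cfsg.Agent.Lib.Helper80_CharBasic
import Cfsg.Agent.Lib.Helper3_CharEigen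
import Cfsg.Agent.Lib.Helper57_BrauerFeit
import Cfsg.Agent.Lib.Helper57_BlockDim
import Cfsg.Agent.Lib.Helper57_HeightZero
import Cfsg.Agent.Lib.Helper77_WeakOrth
import Cfsg.Agent.S0874
import Cfsg.Agent.Lib.Helper79_RobinsonFormula

/-!
# The terms of Robinson's character formula, block by block (helper79)

With `k = a - d` (`p ^ a` the `p`-part of `|G|`, `p ^ d = |D|`), the pair count divided by `p ^ k`
is `∑_χ weight χ * ω_χ(y) * ω_χ(x⁻¹)`.  If `x, y` have `D` as a Sylow `p`-subgroup of their
centralizers, then the term of `χ` lies in the local ideal unless `D` is a defect group of the block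
of `χ` (`term_mem_of_bad`), and in that case the weight is a local integer (`weight_mem_of_good`).
-/

set_option autoImplicit false
set_option linter.unusedSectionVars false

namespace Cfsg.Agent.Lib.Helper79_RobinsonTerm

open Cfsg Cfsg.Agent.Lib.Helper78_LocalRing Cfsg.Agent.Lib.Helper78_CentralChar
  Cfsg.Agent.Lib.Helper78_Osima Cfsg.Agent.Lib.Helper78_MinMax
  Cfsg.Agent.Lib.Helper77_BlockBasics Cfsg.Agent.Lib.Helper79_RobinsonFormula

open scoped ComplexConjugate

universe u

variable {G : Type u} [Group G] [Fintype G] {p : ℕ} [Fact p.Prime] {M : Ideal AlgInt}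

/-! ### Elements whose centralizer has `D` as a Sylow subgroup -/

/-- `D` is a Sylow `p`-subgroup of the centralizer of `g`. -/
def HasSylow (p : ℕ) (D : Subgroup G) (g : G) : Prop :=
  D ≤ Subgroup.centralizer ({g} : Set G) ∧
    Nat.card D = p ^ (Nat.card (Subgroup.centralizer ({g} : Set G))).factorization p

theorem hasSylow_of_exists {D : Subgroup G} {g : G}
    (h : ∃ Q : Sylow p (Subgroup.centralizer ({g} : Set G)),
      (Q : Subgroup (Subgroup.centralizer ({g} : Set G))).map
        (Subgroup.centralizer ({g} : Set G)).subtype = D) : HasSylow p D g := by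
  obtain ⟨Q, rfl⟩ := h
  refine ⟨map_sylow_le _ Q, ?_⟩
  rw [Subgroup.card_map_of_injective (Subgroup.subtype_injective _)]
  exact Q.card_eq_multiplicity

theorem exists_of_hasSylow {D : Subgroup G} {g : G} (h : HasSylow p D g) :
    ∃ Q : Sylow p (Subgroup.centralizer ({g} : Set G)),
      (Q : Subgroup (Subgroup.centralizer ({g} : Set G))).map
        (Subgroup.centralizer ({g} : Set G)).subtype = D := by
  have hcard : Nat.card (D.subgroupOf (Subgroup.centralizer ({g} : Set G))) =
      p ^ (Nat.card (Subgroup.centralizer ({g} : Set G))).factorization p := by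
    rw [← h.2]
    exact Nat.card_congr (Subgroup.subgroupOfEquivOfLe h.1).toEquiv
  refine ⟨Sylow.ofCard _ hcard, ?_⟩
  rw [Sylow.coe_ofCard]
  exact Subgroup.map_subgroupOf_eq_of_le h.1

theorem centralizer_inv (g : G) :
    Subgroup.centralizer ({g⁻¹} : Set G) = Subgroup.centralizer ({g} : Set G) := by
  ext c
  simp only [Subgroup.mem_centralizer_iff, Set.mem_singleton_iff, forall_eq]
  constructor
  · intro h
    calc g * c = g * (c * g⁻¹) * g := by group
      _ = g * (g⁻¹ * c) * g := by rw [h]
      _ = c * g := by group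
  · intro h
    calc g⁻¹ * c = g⁻¹ * (c * g) * g⁻¹ := by group
      _ = g⁻¹ * (g * c) * g⁻¹ := by rw [h]
      _ = c * g⁻¹ := by group

theorem HasSylow.inv {D : Subgroup G} {g : G} (h : HasSylow p D g) : HasSylow p D g⁻¹ := by
  unfold HasSylow
  rw [centralizer_inv]
  exact h

theorem HasSylow.isPGroup {D : Subgroup G} {g : G} (h : HasSylow p D g) : IsPGroup p D :=
  IsPGroup.of_card h.2

theorem HasSylow.factorization_eq {D : Subgroup G} {g : G} (h : HasSylow p D g) :
    (Nat.card D).factorization p =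
      (Nat.card (Subgroup.centralizer ({g} : Set G))).factorization p := by
  have hp : p.Prime := Fact.out
  rw [h.2, Nat.factorization_pow]
  simp [Nat.Prime.factorization_self hp]

theorem HasSylow.factorization_le {D : Subgroup G} {g : G} (h : HasSylow p D g) :
    (Nat.card D).factorization p ≤ (Nat.card G).factorization p := by
  have hdvd : Nat.card D ∣ Nat.card G := Subgroup.card_subgroup_dvd_card D
  exact (Nat.factorization_le_iff_dvd Nat.card_pos.ne' Nat.card_pos.ne').mpr hdvd p

/-- The index of the centralizer of an element with Sylow subgroup `D` has `p`-part `p ^ (a - d)`. -/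
theorem HasSylow.exists_index_eq {D : Subgroup G} {g : G} (h : HasSylow p D g) :
    ∃ j : ℕ, ¬ p ∣ j ∧ (Subgroup.centralizer ({g} : Set G)).index =
      p ^ ((Nat.card G).factorization p - (Nat.card D).factorization p) * j := by
  have hp : p.Prime := Fact.out
  set C := Subgroup.centralizer ({g} : Set G) with hC
  have hmul : Nat.card C * C.index = Nat.card G := C.card_mul_index
  have hI0 : C.index ≠ 0 := Subgroup.index_ne_zero_of_finite
  have hC0 : Nat.card C ≠ 0 := Nat.card_pos.ne'
  have hfac : (Nat.card G).factorization p =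
      (Nat.card C).factorization p + C.index.factorization p := by
    rw [← hmul, Nat.factorization_mul hC0 hI0]
    rfl
  have hk : C.index.factorization p =
      (Nat.card G).factorization p - (Nat.card D).factorization p := by
    rw [h.factorization_eq, hfac, ← hC]
    omega
  refine ⟨C.index / p ^ C.index.factorization p, Nat.not_dvd_ordCompl hp hI0, ?_⟩
  rw [← hk]
  exact (Nat.ordProj_mul_ordCompl_eq_self _ p).symm

/-! ### The sum of a character over a subgroup -/

open Classical in
/-- The sum of the values of `χ` over the subgroup `S`. -/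
noncomputable def sylSum (S : Subgroup G) (χ : G → ℂ) : ℂ := ∑ s : G, if s ∈ S then χ s else 0

open Classical in
theorem sylSum_eq_sum_subtype (S : Subgroup G) [Fintype S] (χ : G → ℂ) :
    sylSum S χ = ∑ s : S, χ s := by
  unfold sylSum
  rw [← Finset.sum_filter]
  symm
  exact (Finset.sum_subtype (Finset.univ.filter (· ∈ S)) (fun s => by simp) χ).symm

/-- The sum of a character over a subgroup is the order of the subgroup times a natural number. -/
theorem exists_sylSum_eq (S : Subgroup G) {χ : G → ℂ} (hχ : IsCharacter G χ) :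
    ∃ m : ℕ, sylSum S χ = (Nat.card S : ℂ) * m := by
  classical
  haveI : Fintype S := Fintype.ofFinite S
  have h1 : IsCharacter S (fun h : S => χ h) :=
    Cfsg.Agent.Lib.Helper75_CharArith.isCharacter_restrict S hχ
  have h2 : IsCharacter S (fun _ : S => (1 : ℂ)) :=
    isIrrCharacter_isCharacter (Cfsg.Agent.Lib.Helper80_CharBasic.oneIrr S).2
  obtain ⟨m, hm⟩ := Cfsg.Agent.Lib.Helper75_CharArith.classInner_isCharacter_nat h1 h2
  refine ⟨m, ?_⟩
  rw [sylSum_eq_sum_subtype, ← hm]
  unfold classInner
  have hS : (Nat.card S : ℂ) ≠ 0 := by exact_mod_cast (Nat.card_pos (α := S)).ne'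
  rw [← mul_assoc, mul_inv_cancel₀ hS, one_mul]
  refine Finset.sum_congr rfl fun s _ => ?_
  simp

/-! ### The weights -/

/-- The weight of `χ` in the formula for the pair count divided by `p ^ k`. -/
noncomputable def weight (p : ℕ) (S : Subgroup G) (k : ℕ) (χ : G → ℂ) : ℂ :=
  (χ 1 / (Nat.card G : ℂ)) * conj (sylSum S χ) / (p : ℂ) ^ k

theorem pairCount_div_eq [Fintype (IrrCharacter G)] (S : Subgroup G) (k : ℕ) (x y : G) :
    (pairCount S x y : ℂ) / (p : ℂ) ^ k = ∑ χ : IrrCharacter G,
      weight p S k (χ : G → ℂ) * centralChar (χ : G → ℂ) y * centralChar (χ : G → ℂ) x⁻¹ := by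
  classical
  rw [pairCount_eq_sum_irr, Finset.sum_div]
  refine Finset.sum_congr rfl fun χ _ => ?_
  unfold weight sylSum
  ring

/-! ### Normal forms -/

theorem exists_card_eq (p : ℕ) [Fact p.Prime] (G : Type u) [Group G] [Fintype G] :
    ∃ g' : ℕ, ¬ p ∣ g' ∧ Nat.card G = p ^ (Nat.card G).factorization p * g' := by
  have hp : p.Prime := Fact.out
  exact ⟨Nat.card G / p ^ (Nat.card G).factorization p,
    Nat.not_dvd_ordCompl hp Nat.card_pos.ne', (Nat.ordProj_mul_ordCompl_eq_self _ p).symm⟩

theorem exists_degree_eq (p : ℕ) [Fact p.Prime] (χ : IrrCharacter G) :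
    ∃ n₁ : ℕ, ¬ p ∣ n₁ ∧ charDegree (χ : G → ℂ) =
      p ^ (charDegree (χ : G → ℂ)).factorization p * n₁ := by
  have hp : p.Prime := Fact.out
  exact ⟨charDegree (χ : G → ℂ) / p ^ (charDegree (χ : G → ℂ)).factorization p,
    Nat.not_dvd_ordCompl hp (charDegree_pos χ).ne', (Nat.ordProj_mul_ordCompl_eq_self _ p).symm⟩

theorem pC_ne_zero : (p : ℂ) ≠ 0 := by
  have hp : p.Prime := Fact.out
  exact_mod_cast hp.ne_zero

theorem natCast_ne_zero_of_not_dvd {n : ℕ} (hn : ¬ p ∣ n) : (n : ℂ) ≠ 0 := by
  intro h
  have : n = 0 := by exact_mod_cast h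
  exact hn (this ▸ dvd_zero p)

theorem weight_eq (S : Sylow p G) (k : ℕ) (χ : IrrCharacter G) {m g' : ℕ}
    (hm : sylSum (S : Subgroup G) (χ : G → ℂ) = (Nat.card S : ℂ) * m) (hg' : ¬ p ∣ g')
    (hg : Nat.card G = p ^ (Nat.card G).factorization p * g') :
    weight p (S : Subgroup G) k (χ : G → ℂ) =
      (charDegree (χ : G → ℂ) : ℂ) * m / ((g' : ℂ) * (p : ℂ) ^ k) := by
  unfold weight
  rw [apply_one_eq_charDegree χ, hm, map_mul, Complex.conj_natCast, Complex.conj_natCast]
  have hS : (Nat.card S : ℂ) = (p : ℂ) ^ (Nat.card G).factorization p := by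
    rw [S.card_eq_multiplicity]
    push_cast
    rfl
  have hG : (Nat.card G : ℂ) = (p : ℂ) ^ (Nat.card G).factorization p * g' := by
    have := congrArg (Nat.cast : ℕ → ℂ) hg
    push_cast at this
    exact this
  have hp0 := pC_ne_zero (p := p)
  have hg0 := natCast_ne_zero_of_not_dvd hg'
  rw [hS, hG]
  field_simp

/-- If `p ^ k` divides the degree, the weight is a local integer; it lies in the local ideal if
`p ^ (k + 1)` divides the degree. -/
theorem weight_mem_of_le (hM : IsPModular p M) (S : Sylow p G) (k : ℕ) (χ : IrrCharacter G)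
    (hk : k ≤ (charDegree (χ : G → ℂ)).factorization p) :
    MemLocalRing M (weight p (S : Subgroup G) k (χ : G → ℂ)) ∧
      (k < (charDegree (χ : G → ℂ)).factorization p →
        MemLocalIdeal M (weight p (S : Subgroup G) k (χ : G → ℂ))) := by
  have hp : p.Prime := Fact.out
  have hMp := isPrime_of_isPModular hM
  obtain ⟨g', hg', hg⟩ := exists_card_eq p G
  obtain ⟨n₁, hn₁, hn⟩ := exists_degree_eq p χ
  obtain ⟨m, hm⟩ := exists_sylSum_eq (S : Subgroup G) (isIrrCharacter_isCharacter χ.2)
  obtain ⟨t, ht⟩ := Nat.exists_eq_add_of_le hk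
  have hw : weight p (S : Subgroup G) k (χ : G → ℂ) =
      ((p ^ t * n₁ * m : ℕ) : ℂ) * ((g' : ℂ))⁻¹ := by
    rw [weight_eq S k χ hm hg' hg, hn, ht]
    have hp0 := pC_ne_zero (p := p)
    have hg0 := natCast_ne_zero_of_not_dvd hg'
    push_cast
    field_simp
    ring
  rw [hw]
  refine ⟨memLocalRing_mul hMp (memLocalRing_natCast hMp _) (memLocalRing_inv_natCast hM hg'), ?_⟩
  intro hlt
  have ht0 : t ≠ 0 := by omega
  refine memLocalIdeal_mul_right hMp ?_ (memLocalRing_inv_natCast hM hg')
  rw [memLocalIdeal_natCast_iff hM]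
  exact Dvd.dvd.mul_right (Dvd.dvd.mul_right (dvd_pow_self p ht0) _) _

theorem memLocalRing_irr_apply (hMp : M.IsPrime) (χ : IrrCharacter G) (g : G) :
    MemLocalRing M ((χ : G → ℂ) g) := by
  obtain ⟨n, ρ, hirr, hρ⟩ := χ.2
  rw [← hρ]
  exact memLocalRing_algInt hMp ⟨_, Cfsg.Agent.Lib.Helper3_CharEigen.isIntegral_char ρ g⟩

theorem memLocalRing_centralChar (hMp : M.IsPrime) (χ : IrrCharacter G) (g : G) :
    MemLocalRing M (centralChar (χ : G → ℂ) g) := by
  have := memLocalRing_algInt hMp (centralCharAlgInt χ g)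
  simpa using this

/-- If the `p`-part of the degree is smaller than `p ^ k`, the term of `χ` lies in the local
ideal. -/
theorem term_mem_of_lt (hM : IsPModular p M) (S : Sylow p G) (k : ℕ) (χ : IrrCharacter G)
    {x y : G} {jx jy : ℕ} (hIx : (Subgroup.centralizer ({x} : Set G)).index = p ^ k * jx)
    (hIy : (Subgroup.centralizer ({y} : Set G)).index = p ^ k * jy)
    (hlt : (charDegree (χ : G → ℂ)).factorization p < k) :
    MemLocalIdeal M (weight p (S : Subgroup G) k (χ : G → ℂ) * centralChar (χ : G → ℂ) y *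
      centralChar (χ : G → ℂ) x) := by
  have hp : p.Prime := Fact.out
  have hMp := isPrime_of_isPModular hM
  obtain ⟨g', hg', hg⟩ := exists_card_eq p G
  obtain ⟨n₁, hn₁, hn⟩ := exists_degree_eq p χ
  obtain ⟨m, hm⟩ := exists_sylSum_eq (S : Subgroup G) (isIrrCharacter_isCharacter χ.2)
  obtain ⟨t, ht⟩ := Nat.exists_eq_add_of_lt hlt
  have hp0 := pC_ne_zero (p := p)
  have hg0 := natCast_ne_zero_of_not_dvd hg'
  have hn0 := natCast_ne_zero_of_not_dvd hn₁
  have hT : weight p (S : Subgroup G) k (χ : G → ℂ) * centralChar (χ : G → ℂ) y *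
      centralChar (χ : G → ℂ) x =
      ((m * jy * jx * p ^ t * p : ℕ) : ℂ) * (((g' * n₁ : ℕ) : ℂ))⁻¹ *
        ((χ : G → ℂ) y * (χ : G → ℂ) x) := by
    rw [weight_eq S k χ hm hg' hg]
    unfold centralChar
    rw [hIx, hIy, apply_one_eq_charDegree χ, hn, ht]
    push_cast
    field_simp
    ring
  rw [hT]
  have hden : ¬ p ∣ g' * n₁ := by
    intro h
    rcases (Nat.Prime.dvd_mul hp).mp h with h | h
    · exact hg' h
    · exact hn₁ h
  refine memLocalIdeal_mul_right hMp (memLocalIdeal_mul_right hMp ?_
    (memLocalRing_inv_natCast hM hden))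
    (memLocalRing_mul hMp (memLocalRing_irr_apply hMp χ y) (memLocalRing_irr_apply hMp χ x))
  rw [memLocalIdeal_natCast_iff hM]
  exact Dvd.intro_left _ rfl

/-! ### Conjugates of subgroups -/

theorem map_conj_map_conj (H : Subgroup G) (a b : G) :
    (H.map (MulAut.conj a).toMonoidHom).map (MulAut.conj b).toMonoidHom =
      H.map (MulAut.conj (b * a)).toMonoidHom := by
  ext z
  simp only [Subgroup.mem_map, MulEquiv.coe_toMonoidHom, MulAut.conj_apply]
  constructor
  · rintro ⟨_, ⟨w, hw, rfl⟩, rfl⟩
    exact ⟨w, hw, by group⟩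
  · rintro ⟨w, hw, rfl⟩
    exact ⟨a * w * a⁻¹, ⟨w, hw, rfl⟩, by group⟩

theorem map_conj_one (H : Subgroup G) : H.map (MulAut.conj (1 : G)).toMonoidHom = H := by
  ext z
  simp [Subgroup.mem_map]

theorem card_map_conj' (H : Subgroup G) (a : G) :
    Nat.card (H.map (MulAut.conj a).toMonoidHom) = Nat.card H :=
  Subgroup.card_map_of_injective (MulAut.conj a).injective

/-! ### Goodness from a unit value of the central character -/

/-- If the `p`-part of the degree of `χ` is at most `p ^ (a - d)` and the central character of `χ`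
is a unit at an element `y` whose centralizer has `D` as a Sylow `p`-subgroup, then `D` is a defect
group of the block of `χ`. -/
theorem isDefectGroup_of_unit (hM : IsPModular p M) (D : Subgroup G) {y : G}
    (hy : HasSylow p D y) (χ : IrrCharacter G)
    (he : (charDegree (χ : G → ℂ)).factorization p ≤
      (Nat.card G).factorization p - (Nat.card D).factorization p)
    (hcc : ¬ MemLocalIdeal M (centralChar (χ : G → ℂ) y)) :
    IsDefectGroup p M (blockOf M (χ : G → ℂ)) D := by
  have hp : p.Prime := Fact.out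
  have hMp := isPrime_of_isPModular hM
  set B := blockOf M (χ : G → ℂ) with hBdef
  have hB : IsPBlock M B := isPBlock_blockOf χ
  have hχB : χ ∈ B := mem_blockOf_self hMp χ
  obtain ⟨D', hD'⟩ := Cfsg.Agent.Lib.Helper78_Deficiency.exists_isDefectGroup hM hB
  have hcard' : Nat.card D' = p ^ blockDefect p B :=
    Cfsg.Agent.Lib.Helper78_Deficiency.card_isDefectGroup hM hB hD'
  have hda := hy.factorization_le
  have hdef : (Nat.card D).factorization p ≤ blockDefect p B := by
    have h1 : blockDefect p B = (Nat.card G).factorization p -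
        Cfsg.Agent.Lib.Helper57_BrauerFeit.h0 p B :=
      Cfsg.Agent.Lib.Helper57_BrauerFeit.blockDefect_eq
    have h2 := Cfsg.Agent.Lib.Helper57_BrauerFeit.h0_le (p := p) hχB
    rw [h1]
    omega
  have hD'' := hD'
  obtain ⟨g₀, hg₀, P, hDP⟩ := hD'
  obtain ⟨t, ht⟩ := conj_le_centralizer_of_centralChar_not_mem hM hB hg₀ P y ⟨χ, hχB, hcc⟩
  rw [← hDP] at ht
  obtain ⟨Q, hQ⟩ := exists_of_hasSylow hy
  set T : Subgroup G := D'.map (MulAut.conj t).toMonoidHom with hT
  have hTp : IsPGroup p T := by
    rw [hT, hDP]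
    exact (isPGroup_map_sylow _ P).map _
  obtain ⟨c, -, hc⟩ := exists_conj_sylow_ge (Subgroup.centralizer ({y} : Set G)) Q T hTp ht
  rw [hQ] at hc
  have hcardD : Nat.card D = p ^ (Nat.card D).factorization p := by
    rw [hy.factorization_eq]
    exact hy.2
  have hcardT : Nat.card T = p ^ blockDefect p B := by rw [hT, card_map_conj', hcard']
  have hle : p ^ blockDefect p B ≤ p ^ (Nat.card D).factorization p := by
    calc p ^ blockDefect p B = Nat.card T := hcardT.symm
      _ ≤ Nat.card (D.map (MulAut.conj c).toMonoidHom) := Subgroup.card_le_of_le hc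
      _ = Nat.card D := card_map_conj' _ _
      _ = p ^ (Nat.card D).factorization p := hcardD
  have hle' : blockDefect p B ≤ (Nat.card D).factorization p :=
    (Nat.pow_le_pow_iff_right hp.one_lt).mp hle
  have heq : blockDefect p B = (Nat.card D).factorization p := le_antisymm hle' hdef
  have hTeq : T = D.map (MulAut.conj c).toMonoidHom := by
    apply Subgroup.eq_of_le_of_card_ge hc
    calc Nat.card (D.map (MulAut.conj c).toMonoidHom) = Nat.card D := card_map_conj' _ _
      _ = p ^ (Nat.card D).factorization p := hcardD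
      _ = p ^ blockDefect p B := by rw [heq]
      _ = Nat.card T := hcardT.symm
      _ ≤ Nat.card T := le_refl _
  have hDeq : D = D'.map (MulAut.conj (c⁻¹ * t)).toMonoidHom := by
    rw [← map_conj_map_conj, ← hT, hTeq, map_conj_map_conj, inv_mul_cancel, map_conj_one]
  rw [hDeq]
  exact Cfsg.Agent.Lib.Helper77_QuotDefect2.isDefectGroup_map_conj hM hB hD'' (c⁻¹ * t)

/-- **Bad terms vanish**: if `x, y` have `D` as a Sylow `p`-subgroup of their centralizers and `D` is
not a defect group of the block of `χ`, then the term of `χ` in the formula for the pair count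
divided by `p ^ (a - d)` lies in the local ideal. -/
theorem term_mem_of_bad (hM : IsPModular p M) (S : Sylow p G) (D : Subgroup G) {x y : G}
    (hx : HasSylow p D x) (hy : HasSylow p D y) (χ : IrrCharacter G)
    (hbad : ¬ IsDefectGroup p M (blockOf M (χ : G → ℂ)) D) :
    MemLocalIdeal M (weight p (S : Subgroup G)
      ((Nat.card G).factorization p - (Nat.card D).factorization p) (χ : G → ℂ) *
        centralChar (χ : G → ℂ) y * centralChar (χ : G → ℂ) x⁻¹) := by
  have hMp := isPrime_of_isPModular hM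
  set k := (Nat.card G).factorization p - (Nat.card D).factorization p with hk
  obtain ⟨jx, -, hIx⟩ := hx.inv.exists_index_eq
  obtain ⟨jy, -, hIy⟩ := hy.exists_index_eq
  rcases lt_or_ge ((charDegree (χ : G → ℂ)).factorization p) k with hlt | hge
  · exact term_mem_of_lt hM S k χ hIx hIy hlt
  · obtain ⟨hwR, hwI⟩ := weight_mem_of_le hM S k χ hge
    rcases lt_or_eq_of_le hge with hlt | heq
    · exact memLocalIdeal_mul_right hMp (memLocalIdeal_mul_right hMp (hwI hlt)
        (memLocalRing_centralChar hMp χ y)) (memLocalRing_centralChar hMp χ x⁻¹)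
    · by_cases hcc : MemLocalIdeal M (centralChar (χ : G → ℂ) y)
      · exact memLocalIdeal_mul_right hMp (memLocalIdeal_mul_left hMp hwR hcc)
          (memLocalRing_centralChar hMp χ x⁻¹)
      · exact absurd (isDefectGroup_of_unit hM D hy χ (le_of_eq heq.symm) hcc) hbad

/-- For a character in a block with defect group `D`, `p ^ (a - d)` divides the degree. -/
theorem le_factorization_of_good (hM : IsPModular p M) {D : Subgroup G} {B : Set (IrrCharacter G)}
    (hB : IsPBlock M B) (hD : IsDefectGroup p M B D) {χ : IrrCharacter G} (hχ : χ ∈ B) :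
    (Nat.card G).factorization p - (Nat.card D).factorization p =
      Cfsg.Agent.Lib.Helper57_BrauerFeit.h0 p B ∧
    Cfsg.Agent.Lib.Helper57_BrauerFeit.h0 p B ≤ (charDegree (χ : G → ℂ)).factorization p := by
  have hp : p.Prime := Fact.out
  have hcard : Nat.card D = p ^ blockDefect p B :=
    Cfsg.Agent.Lib.Helper78_Deficiency.card_isDefectGroup hM hB hD
  have h1 : blockDefect p B = (Nat.card G).factorization p -
      Cfsg.Agent.Lib.Helper57_BrauerFeit.h0 p B :=
    Cfsg.Agent.Lib.Helper57_BrauerFeit.blockDefect_eq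
  have h2 := Cfsg.Agent.Lib.Helper57_BrauerFeit.h0_le (p := p) hχ
  have h3 := factorization_charDegree_le p χ
  have h4 : (Nat.card D).factorization p = blockDefect p B := by
    rw [hcard, Nat.factorization_pow]
    simp [Nat.Prime.factorization_self hp]
  refine ⟨?_, h2⟩
  rw [h4, h1]
  omega

theorem weight_mem_of_good (hM : IsPModular p M) (S : Sylow p G) {D : Subgroup G}
    {B : Set (IrrCharacter G)} (hB : IsPBlock M B) (hD : IsDefectGroup p M B D)
    {χ : IrrCharacter G} (hχ : χ ∈ B) :
    MemLocalRing M (weight p (S : Subgroup G)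
      ((Nat.card G).factorization p - (Nat.card D).factorization p) (χ : G → ℂ)) := by
  obtain ⟨h1, h2⟩ := le_factorization_of_good hM hB hD hχ
  exact (weight_mem_of_le hM S _ χ (h1 ▸ h2)).1

/-! ### The sum of the weights over a block -/

theorem dvd_orderOf_of_mem_sylow (S : Sylow p G) {s : G} (hs : s ∈ (S : Subgroup G))
    (h1 : s ≠ 1) : p ∣ orderOf s := by
  obtain ⟨j, hj⟩ := (IsPGroup.iff_orderOf.mp S.isPGroup') ⟨s, hs⟩
  have hj' : orderOf s = p ^ j := by
    rw [← hj]
    exact (Subgroup.orderOf_mk s hs).symm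
  have hj0 : j ≠ 0 := by
    intro h0
    rw [h0, pow_zero, orderOf_eq_one_iff] at hj'
    exact h1 hj'
  rw [hj']
  exact dvd_pow_self p hj0

open Classical in
theorem sum_weight_block (hM : IsPModular p M) (S : Sylow p G) (k : ℕ)
    {B : Set (IrrCharacter G)} (hB : IsPBlock M B) :
    ∑ χ : IrrCharacter G, (if χ ∈ B then weight p (S : Subgroup G) k (χ : G → ℂ) else 0) =
      blockCoeff B 1 / (p : ℂ) ^ k := by
  have h1 : ∀ χ : IrrCharacter G, (if χ ∈ B then weight p (S : Subgroup G) k (χ : G → ℂ) else 0) =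
      (∑ s : G, if s ∈ (S : Subgroup G) then (Nat.card G : ℂ)⁻¹ *
        B.indicator (fun χ : IrrCharacter G => (χ : G → ℂ) 1 * conj ((χ : G → ℂ) s)) χ else 0) /
          (p : ℂ) ^ k := by
    intro χ
    by_cases hχ : χ ∈ B
    · rw [if_pos hχ]
      unfold weight sylSum
      congr 1
      rw [map_sum, Finset.mul_sum]
      refine Finset.sum_congr rfl fun s _ => ?_
      by_cases hs : s ∈ (S : Subgroup G)
      · rw [if_pos hs, if_pos hs, Set.indicator_of_mem hχ]
        ring
      · rw [if_neg hs, if_neg hs, map_zero, mul_zero]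
    · rw [if_neg hχ]
      symm
      rw [div_eq_zero_iff]
      left
      refine Finset.sum_eq_zero fun s _ => ?_
      rw [Set.indicator_of_notMem hχ]
      simp
  simp_rw [h1]
  rw [← Finset.sum_div]
  congr 1
  rw [Finset.sum_comm]
  have h2 : ∀ s : G, (∑ χ : IrrCharacter G, if s ∈ (S : Subgroup G) then (Nat.card G : ℂ)⁻¹ *
      B.indicator (fun χ : IrrCharacter G => (χ : G → ℂ) 1 * conj ((χ : G → ℂ) s)) χ else 0) =
      if s ∈ (S : Subgroup G) then blockCoeff B s else 0 := by
    intro s
    by_cases hs : s ∈ (S : Subgroup G)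
    · simp only [if_pos hs]
      rw [blockCoeff_eq_sum, Finset.mul_sum]
    · simp only [if_neg hs, Finset.sum_const_zero]
  simp_rw [h2]
  rw [Finset.sum_eq_single (1 : G)]
  · rw [if_pos (S : Subgroup G).one_mem]
  · intro s _ hs1
    by_cases hs : s ∈ (S : Subgroup G)
    · rw [if_pos hs]
      exact Cfsg.Agent.Lib.Helper77_WeakOrth.blockCoeff_block_eq_zero_of_sing hM hB s
        (dvd_orderOf_of_mem_sylow S hs hs1)
    · rw [if_neg hs]
  · intro h
    exact absurd (Finset.mem_univ _) h

/-- For a block with defect group `D`, the coefficient of `1` in the block idempotent divided by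
`p ^ (a - d)` is a unit of the local ring. -/
theorem blockCoeff_one_div (hM : IsPModular p M) {D : Subgroup G} {B : Set (IrrCharacter G)}
    (hB : IsPBlock M B) (hD : IsDefectGroup p M B D) :
    MemLocalRing M (blockCoeff B 1 /
      (p : ℂ) ^ ((Nat.card G).factorization p - (Nat.card D).factorization p)) ∧
    ¬ MemLocalIdeal M (blockCoeff B 1 /
      (p : ℂ) ^ ((Nat.card G).factorization p - (Nat.card D).factorization p)) := by
  classical
  have hp : p.Prime := Fact.out
  have hMp := isPrime_of_isPModular hM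
  obtain ⟨χ₀, hχ₀⟩ := isPBlock_nonempty hMp hB
  obtain ⟨hk, -⟩ := le_factorization_of_good hM hB hD hχ₀
  set k := (Nat.card G).factorization p - (Nat.card D).factorization p with hkdef
  have hI : Cfsg.Agent.Lib.Helper57_HeightZero.RegInt G p :=
    Cfsg.Agent.Lib.Helper57_HeightZero.regInt_of_brauerLocal hp
      (fun q hq _ => Cfsg.Agent.S0874.result q hq)
  have hdim := Cfsg.Agent.Lib.Helper57_BlockDim.factorization_block_dim hp hM hB hI
  set dim : ℕ := ∑ ψ ∈ Cfsg.Agent.Lib.Helper57_BrauerFeit.bset B, charDegree (ψ : G → ℂ) ^ 2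
    with hdimdef
  have hdim0 : dim ≠ 0 := by
    have hpos : 0 < dim := by
      refine Finset.sum_pos' (fun ψ _ => Nat.zero_le _) ⟨χ₀, ?_, ?_⟩
      · exact Cfsg.Agent.Lib.Helper57_BrauerFeit.mem_bset.mpr hχ₀
      · exact pow_pos (charDegree_pos χ₀) 2
    exact hpos.ne'
  obtain ⟨g', hg', hg⟩ := exists_card_eq p G
  have hdimeq : dim = p ^ ((Nat.card G).factorization p + k) * (dim / p ^ dim.factorization p) := by
    rw [hk, ← hdim]
    exact (Nat.ordProj_mul_ordCompl_eq_self _ p).symm
  have hc : ¬ p ∣ dim / p ^ dim.factorization p := Nat.not_dvd_ordCompl hp hdim0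
  set c := dim / p ^ dim.factorization p with hcdef
  have hbc : blockCoeff B 1 = (Nat.card G : ℂ)⁻¹ * (dim : ℂ) := by
    rw [blockCoeff_eq_sum]
    congr 1
    rw [hdimdef, Cfsg.Agent.Lib.Helper57_BrauerFeit.bset, Finset.sum_filter]
    push_cast
    refine Finset.sum_congr rfl fun ψ _ => ?_
    by_cases hψ : ψ ∈ B
    · rw [Set.indicator_of_mem hψ, if_pos hψ, apply_one_eq_charDegree ψ, Complex.conj_natCast]
      ring
    · rw [Set.indicator_of_notMem hψ, if_neg hψ]
  have hp0 := pC_ne_zero (p := p)
  have hg0 := natCast_ne_zero_of_not_dvd hg'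
  have hval : blockCoeff B 1 / (p : ℂ) ^ k = (c : ℂ) / (g' : ℂ) := by
    have hG : (Nat.card G : ℂ) = (p : ℂ) ^ (Nat.card G).factorization p * g' := by
      have := congrArg (Nat.cast : ℕ → ℂ) hg
      push_cast at this
      exact this
    have hdimC : (dim : ℂ) = (p : ℂ) ^ ((Nat.card G).factorization p + k) * (c : ℂ) := by
      have := congrArg (Nat.cast : ℕ → ℂ) hdimeq
      push_cast at this
      exact this
    rw [hbc, hdimC, hG, pow_add]
    field_simp
  rw [hval]
  refine ⟨memLocalRing_natCast_div hM c hg', ?_⟩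
  intro hI'
  have h1 : MemLocalIdeal M (((c : ℂ) / (g' : ℂ)) * (g' : ℂ)) :=
    memLocalIdeal_mul_right hMp hI' (memLocalRing_natCast hMp g')
  rw [div_mul_cancel₀ _ hg0, memLocalIdeal_natCast_iff hM] at h1
  exact hc h1

end Cfsg.Agent.Lib.Helper79_RobinsonTerm
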