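import Mathlib
import Cfsg.Prelude.Def_Blocks
import Cfsg.Agent.Lib.Helper78_LocalRing
import Cfsg.Agent.Lib.Helper78_CentralChar
import Cfsg.Agent.Lib.Helper78_Osima
import Cfsg.Agent.Lib.Helper78_CharFacts
import Cfsg.Agent.Lib.Helper78_MinMax
import Cfsg.Agent.Lib.Helper78_Defect
import Cfsg.Agent.Lib.Helper77_WeakOrth
import Cfsg.Agent.Lib.Helper79_RobinsonFormula
import Cfsg.Agent.Lib.Helper79_RobinsonTerm

/-!
# Robinson's congruence (helper79)

Let `D` be a `p`-subgroup of `G` with `|D| = p ^ d`, `p ^ a` the `p`-part of `|G|`, `S` a Sylow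
`p`-subgroup and `x, y` elements whose centralizers have `D` as a Sylow `p`-subgroup.  Then modulo
the local ideal

`pairCount S x y / p ^ (a - d) ≡ ∑_B u_B ω_B(y) ω_B(x⁻¹)`,

the sum over the blocks `B` with defect group `D`, where `u_B = e_B(1) / p ^ (a - d)` is a unit
(`main_congruence`).  Moreover the matrix `(ω_B(y_i))` has a right inverse modulo the local ideal
when `y_i` runs over representatives of the `p`-regular classes with defect group `D`
(`sum_blockCoeff_mul_centralChar`).
-/

set_option autoImplicit false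
set_option linter.unusedSectionVars false

namespace Cfsg.Agent.Lib.Helper79_RobinsonMain

open Cfsg Cfsg.Agent.Lib.Helper78_LocalRing Cfsg.Agent.Lib.Helper78_CentralChar
  Cfsg.Agent.Lib.Helper78_Osima Cfsg.Agent.Lib.Helper78_MinMax
  Cfsg.Agent.Lib.Helper78_CharFacts
  Cfsg.Agent.Lib.Helper79_RobinsonFormula Cfsg.Agent.Lib.Helper79_RobinsonTerm

open scoped ComplexConjugate

universe u

variable {G : Type u} [Group G] [Fintype G] {p : ℕ} [Fact p.Prime] {M : Ideal AlgInt}

/-- The blocks with defect group `D`. -/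
abbrev GoodBlock (p : ℕ) (M : Ideal AlgInt) (D : Subgroup G) : Type u :=
  {B : Set (IrrCharacter G) // IsPBlock M B ∧ IsDefectGroup p M B D}

open Classical in
/-- Summing over the good blocks containing `χ` picks out whether the block of `χ` is good. -/
theorem sum_goodBlock_ite (hMp : M.IsPrime) (D : Subgroup G) [Fintype (GoodBlock p M D)]
    (χ : IrrCharacter G) (c : ℂ) :
    ∑ B : GoodBlock p M D, (if χ ∈ B.1 then c else 0) =
      if IsDefectGroup p M (blockOf M (χ : G → ℂ)) D then c else 0 := by
  by_cases hgood : IsDefectGroup p M (blockOf M (χ : G → ℂ)) D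
  · rw [if_pos hgood]
    rw [Finset.sum_eq_single (⟨blockOf M (χ : G → ℂ), isPBlock_blockOf χ, hgood⟩ :
      GoodBlock p M D)]
    · rw [if_pos (mem_blockOf_self hMp χ)]
    · intro B _ hne
      rw [if_neg]
      intro hχ
      apply hne
      apply Subtype.ext
      exact isPBlock_eq_blockOf hMp B.2.1 hχ
    · intro h
      exact absurd (Finset.mem_univ _) h
  · rw [if_neg hgood]
    refine Finset.sum_eq_zero fun B _ => ?_
    rw [if_neg]
    intro hχ
    apply hgood
    rw [← isPBlock_eq_blockOf hMp B.2.1 hχ]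
    exact B.2.2

open Classical in
/-- **Robinson's congruence.** -/
theorem main_congruence (hM : IsPModular p M) (S : Sylow p G) (D : Subgroup G) {x y : G}
    (hx : HasSylow p D x) (hy : HasSylow p D y) [Fintype (GoodBlock p M D)]
    (rep : GoodBlock p M D → IrrCharacter G) (hrep : ∀ B, rep B ∈ B.1) :
    MemLocalIdeal M ((pairCount (S : Subgroup G) x y : ℂ) /
        (p : ℂ) ^ ((Nat.card G).factorization p - (Nat.card D).factorization p) -
      ∑ B : GoodBlock p M D, blockCoeff B.1 1 /
        (p : ℂ) ^ ((Nat.card G).factorization p - (Nat.card D).factorization p) *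
          centralChar (rep B : G → ℂ) y * centralChar (rep B : G → ℂ) x⁻¹) := by
  have hMp := isPrime_of_isPModular hM
  set k := (Nat.card G).factorization p - (Nat.card D).factorization p with hk
  set T : IrrCharacter G → ℂ := fun χ => weight p (S : Subgroup G) k (χ : G → ℂ) *
    centralChar (χ : G → ℂ) y * centralChar (χ : G → ℂ) x⁻¹ with hT
  have h1 : (pairCount (S : Subgroup G) x y : ℂ) / (p : ℂ) ^ k = ∑ χ : IrrCharacter G, T χ :=
    pairCount_div_eq (S : Subgroup G) k x y
  have h2 : ∑ χ : IrrCharacter G, T χ =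
      ∑ χ : IrrCharacter G, (if IsDefectGroup p M (blockOf M (χ : G → ℂ)) D then T χ else 0) +
      ∑ χ : IrrCharacter G, (if IsDefectGroup p M (blockOf M (χ : G → ℂ)) D then 0 else T χ) := by
    rw [← Finset.sum_add_distrib]
    refine Finset.sum_congr rfl fun χ _ => ?_
    split_ifs <;> simp
  have h3 : ∑ χ : IrrCharacter G,
      (if IsDefectGroup p M (blockOf M (χ : G → ℂ)) D then T χ else 0) =
      ∑ B : GoodBlock p M D, ∑ χ : IrrCharacter G, (if χ ∈ B.1 then T χ else 0) := by
    rw [Finset.sum_comm]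
    refine Finset.sum_congr rfl fun χ _ => ?_
    rw [sum_goodBlock_ite hMp D χ (T χ)]
  have hbad : MemLocalIdeal M (∑ χ : IrrCharacter G,
      (if IsDefectGroup p M (blockOf M (χ : G → ℂ)) D then 0 else T χ)) := by
    refine memLocalIdeal_sum hMp _ _ fun χ _ => ?_
    split_ifs with hg
    · exact memLocalIdeal_zero hMp
    · exact term_mem_of_bad hM S D hx hy χ hg
  have hgood : ∀ B : GoodBlock p M D, MemLocalIdeal M
      (∑ χ : IrrCharacter G, (if χ ∈ B.1 then T χ else 0) -
        blockCoeff B.1 1 / (p : ℂ) ^ k * centralChar (rep B : G → ℂ) y *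
          centralChar (rep B : G → ℂ) x⁻¹) := by
    intro B
    rw [← sum_weight_block hM S k B.2.1, Finset.sum_mul, Finset.sum_mul, ← Finset.sum_sub_distrib]
    refine memLocalIdeal_sum hMp _ _ fun χ _ => ?_
    by_cases hχ : χ ∈ B.1
    · rw [if_pos hχ, if_pos hχ]
      have hsb := isPBlock_sameBlock hMp B.2.1 hχ (hrep B)
      have hw := weight_mem_of_good hM S B.2.1 B.2.2 hχ
      have e1 : T χ - weight p (S : Subgroup G) k (χ : G → ℂ) * centralChar (rep B : G → ℂ) y *
          centralChar (rep B : G → ℂ) x⁻¹ =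
          weight p (S : Subgroup G) k (χ : G → ℂ) *
            ((centralChar (χ : G → ℂ) y - centralChar (rep B : G → ℂ) y) *
                centralChar (χ : G → ℂ) x⁻¹ +
              centralChar (rep B : G → ℂ) y *
                (centralChar (χ : G → ℂ) x⁻¹ - centralChar (rep B : G → ℂ) x⁻¹)) := by
        rw [hT]
        ring
      rw [e1]
      refine memLocalIdeal_mul_left hMp hw (memLocalIdeal_add hMp ?_ ?_)
      · exact memLocalIdeal_mul_right hMp (hsb y) (memLocalRing_centralChar hMp χ x⁻¹)
      · exact memLocalIdeal_mul_left hMp (memLocalRing_centralChar hMp (rep B) y) (hsb x⁻¹)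
    · rw [if_neg hχ, if_neg hχ]
      simp only [zero_mul, sub_zero]
      exact memLocalIdeal_zero hMp
  rw [h1, h2, h3]
  have e2 : ∑ B : GoodBlock p M D, ∑ χ : IrrCharacter G, (if χ ∈ B.1 then T χ else 0) +
      ∑ χ : IrrCharacter G, (if IsDefectGroup p M (blockOf M (χ : G → ℂ)) D then 0 else T χ) -
      ∑ B : GoodBlock p M D, blockCoeff B.1 1 / (p : ℂ) ^ k * centralChar (rep B : G → ℂ) y *
        centralChar (rep B : G → ℂ) x⁻¹ =
      ∑ B : GoodBlock p M D, (∑ χ : IrrCharacter G, (if χ ∈ B.1 then T χ else 0) -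
        blockCoeff B.1 1 / (p : ℂ) ^ k * centralChar (rep B : G → ℂ) y *
          centralChar (rep B : G → ℂ) x⁻¹) +
      ∑ χ : IrrCharacter G, (if IsDefectGroup p M (blockOf M (χ : G → ℂ)) D then 0 else T χ) := by
    rw [Finset.sum_sub_distrib]
    ring
  rw [e2]
  exact memLocalIdeal_add hMp (memLocalIdeal_sum hMp _ _ fun B _ => hgood B) hbad

/-- The pair count divided by `p ^ (a - d)` is a local integer. -/
theorem memLocalRing_pairCount_div (hM : IsPModular p M) (S : Sylow p G) (D : Subgroup G)
    {x y : G} (hx : HasSylow p D x) (hy : HasSylow p D y) :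
    MemLocalRing M ((pairCount (S : Subgroup G) x y : ℂ) /
        (p : ℂ) ^ ((Nat.card G).factorization p - (Nat.card D).factorization p)) := by
  classical
  have hMp := isPrime_of_isPModular hM
  haveI : Fintype (GoodBlock p M D) := Fintype.ofFinite _
  have hne : ∀ B : GoodBlock p M D, ∃ χ, χ ∈ B.1 := fun B => isPBlock_nonempty hMp B.2.1
  choose rep hrep using hne
  have h := main_congruence hM S D hx hy rep hrep
  have h2 : MemLocalRing M (∑ B : GoodBlock p M D, blockCoeff B.1 1 /
        (p : ℂ) ^ ((Nat.card G).factorization p - (Nat.card D).factorization p) *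
          centralChar (rep B : G → ℂ) y * centralChar (rep B : G → ℂ) x⁻¹) := by
    refine memLocalRing_sum hMp _ _ fun B _ => ?_
    exact memLocalRing_mul hMp (memLocalRing_mul hMp (blockCoeff_one_div hM B.2.1 B.2.2).1
      (memLocalRing_centralChar hMp _ _)) (memLocalRing_centralChar hMp _ _)
  have := memLocalRing_add hMp (memLocalRing_of_memLocalIdeal h) h2
  rwa [sub_add_cancel] at this

/-! ### The right inverse -/

/-- If both the idempotent coefficient of a block `B` with defect group `D` and the central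
character of a block `B'` with defect group `D` are units at `g`, then `g` is `p`-regular and a
conjugate of `g` has `D` as a Sylow `p`-subgroup of its centralizer. -/
theorem exists_conj_hasSylow (hM : IsPModular p M) (D : Subgroup G) (B B' : GoodBlock p M D)
    {χ' : IrrCharacter G} (hχ' : χ' ∈ B'.1) (g : G)
    (hbc : ¬ MemLocalIdeal M (blockCoeff B.1 g))
    (hcc : ¬ MemLocalIdeal M (centralChar (χ' : G → ℂ) g)) :
    ¬ p ∣ orderOf g ∧ ∃ t : G, HasSylow p D (t * g * t⁻¹) := by
  have hp : p.Prime := Fact.out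
  have hMp := isPrime_of_isPModular hM
  have hreg : ¬ p ∣ orderOf g := by
    intro hdvd
    apply hbc
    rw [Cfsg.Agent.Lib.Helper77_WeakOrth.blockCoeff_block_eq_zero_of_sing hM B.2.1 g hdvd]
    exact memLocalIdeal_zero hMp
  refine ⟨hreg, ?_⟩
  have hcardD : Nat.card D = p ^ blockDefect p B.1 :=
    Cfsg.Agent.Lib.Helper78_Deficiency.card_isDefectGroup hM B.2.1 B.2.2
  obtain ⟨g₀, hg₀, P, hDP⟩ := B.2.2
  obtain ⟨g₀', hg₀', P', hDP'⟩ := B'.2.2
  set C := Subgroup.centralizer ({g} : Set G) with hC
  obtain ⟨Q⟩ : Nonempty (Sylow p C) := inferInstance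
  obtain ⟨t, ht⟩ := le_conj_of_blockCoeff_not_mem hM B.2.1 hg₀ P g hbc _
    (isPGroup_map_sylow C Q) (map_sylow_le C Q)
  rw [← hDP] at ht
  obtain ⟨t', ht'⟩ := conj_le_centralizer_of_centralChar_not_mem hM B'.2.1 hg₀' P' g
    ⟨χ', hχ', hcc⟩
  rw [← hDP'] at ht'
  have hcardQ : Nat.card ((Q : Subgroup C).map C.subtype) = p ^ (Nat.card C).factorization p := by
    rw [Subgroup.card_map_of_injective (Subgroup.subtype_injective _)]
    exact Q.card_eq_multiplicity
  have hle1 : p ^ (Nat.card C).factorization p ≤ p ^ blockDefect p B.1 := by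
    calc p ^ (Nat.card C).factorization p = Nat.card ((Q : Subgroup C).map C.subtype) :=
          hcardQ.symm
      _ ≤ Nat.card (D.map (MulAut.conj t).toMonoidHom) := Subgroup.card_le_of_le ht
      _ = Nat.card D := card_map_conj' _ _
      _ = p ^ blockDefect p B.1 := hcardD
  have hle1' : (Nat.card C).factorization p ≤ blockDefect p B.1 :=
    (Nat.pow_le_pow_iff_right hp.one_lt).mp hle1
  have hdvd : p ^ blockDefect p B.1 ∣ Nat.card C := by
    rw [← hcardD, ← card_map_conj' D t']
    exact Subgroup.card_dvd_of_le ht'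
  have hle2 : blockDefect p B.1 ≤ (Nat.card C).factorization p :=
    (hp.pow_dvd_iff_le_factorization Nat.card_pos.ne').mp hdvd
  have heq : blockDefect p B.1 = (Nat.card C).factorization p := le_antisymm hle2 hle1'
  refine ⟨t'⁻¹, ?_, ?_⟩
  · rw [Cfsg.Agent.Lib.Helper78_Defect.centralizer_conj]
    have h1 : D = (D.map (MulAut.conj t').toMonoidHom).map (MulAut.conj t'⁻¹).toMonoidHom := by
      rw [map_conj_map_conj, inv_mul_cancel, map_conj_one]
    rw [h1]
    exact Subgroup.map_mono ht'
  · rw [Cfsg.Agent.Lib.Helper78_Defect.centralizer_conj, card_map_conj', hcardD, heq]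

open Classical in
/-- **The right inverse**: for blocks `B, B'` with defect group `D`, a member `χ'` of `B'`, and a
family `y` of representatives of the `p`-regular classes whose defect group is `D`,
`∑_i e_B(y_i) ω_{χ'}(y_i) ≡ δ_{B B'}`. -/
theorem sum_blockCoeff_mul_centralChar (hM : IsPModular p M) (D : Subgroup G)
    (B B' : GoodBlock p M D) {χ' : IrrCharacter G} (hχ' : χ' ∈ B'.1)
    {ι : Type*} [Fintype ι] (y : ι → G) (hinj : ∀ i j, IsConj (y i) (y j) → i = j)
    (hall : ∀ g : G, ¬ p ∣ orderOf g → HasSylow p D g → ∃ i, IsConj (y i) g) :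
    MemLocalIdeal M (∑ i, blockCoeff B.1 (y i) * centralChar (χ' : G → ℂ) (y i) -
      if B = B' then 1 else 0) := by
  have hMp := isPrime_of_isPModular hM
  haveI : Fintype (ConjClasses G) := Fintype.ofFinite _
  have h1 : omega (χ' : G → ℂ) (blockCoeff B.1) = if B = B' then 1 else 0 := by
    rw [omega_blockCoeff charFacts B.1 χ']
    by_cases hBB : B = B'
    · rw [if_pos hBB, Set.indicator_of_mem (hBB ▸ hχ')]
    · rw [if_neg hBB, Set.indicator_of_notMem]
      intro hmem
      exact hBB (Subtype.ext (isPBlock_eq_of_mem_of_mem hMp B.2.1 B'.2.1 hmem hχ'))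
  have h2 := omega_eq_sum_conjClasses (isIrrCharacter_isClassFunction χ'.2)
    (blockCoeff_isClassFunction B.1)
  set F : ConjClasses G → ℂ := fun c => blockCoeff B.1 c.out * centralChar (χ' : G → ℂ) c.out
    with hF
  set φ : ι → ConjClasses G := fun i => ConjClasses.mk (y i) with hφ
  have hφinj : Function.Injective φ := by
    intro i j hij
    exact hinj i j (ConjClasses.mk_eq_mk_iff_isConj.mp hij)
  have hval : ∀ (c : ConjClasses G) (g : G), ConjClasses.mk g = c →
      F c = blockCoeff B.1 g * centralChar (χ' : G → ℂ) g := by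
    intro c g hg
    have hconj : IsConj g c.out := by
      rw [← ConjClasses.mk_eq_mk_iff_isConj, hg]
      exact (Quotient.out_eq c).symm
    obtain ⟨a, ha⟩ := isConj_iff.mp hconj
    rw [hF]
    simp only
    rw [← ha, Cfsg.Agent.Lib.Helper78_Defect.blockCoeff_conj,
      Cfsg.Agent.Lib.Helper78_Defect.centralChar_conj (isIrrCharacter_isClassFunction χ'.2)]
  set s : Finset (ConjClasses G) := Finset.univ.image φ with hs
  have h3 : ∑ c : ConjClasses G, F c = ∑ i, blockCoeff B.1 (y i) * centralChar (χ' : G → ℂ) (y i) +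
      ∑ c ∈ sᶜ, F c := by
    rw [← Finset.sum_add_sum_compl s F, hs, Finset.sum_image (fun i _ j _ h => hφinj h)]
    congr 1
    refine Finset.sum_congr rfl fun i _ => ?_
    exact hval (φ i) (y i) rfl
  have h4 : MemLocalIdeal M (∑ c ∈ sᶜ, F c) := by
    refine memLocalIdeal_sum hMp _ _ fun c hc => ?_
    by_contra hcon
    have hR1 : MemLocalRing M (blockCoeff B.1 c.out) := osima_block' hMp B.2.1 c.out
    have hR2 := memLocalRing_centralChar hMp χ' c.out
    rw [hF] at hcon
    simp only at hcon
    rw [memLocalIdeal_mul_iff hMp hR1 hR2] at hcon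
    push Not at hcon
    obtain ⟨hreg, t, ht⟩ := exists_conj_hasSylow hM D B B' hχ' c.out hcon.1 hcon.2
    have hreg' : ¬ p ∣ orderOf (t * c.out * t⁻¹) := by
      have : orderOf (t * c.out * t⁻¹) = orderOf c.out := by
        have := orderOf_injective (MulAut.conj t).toMonoidHom (MulAut.conj t).injective c.out
        simpa using this
      rw [this]
      exact hreg
    obtain ⟨i, hi⟩ := hall _ hreg' ht
    have hic : φ i = c := by
      rw [hφ]
      simp only
      rw [ConjClasses.mk_eq_mk_iff_isConj.mpr hi]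
      have : ConjClasses.mk (t * c.out * t⁻¹) = ConjClasses.mk c.out :=
        ConjClasses.mk_eq_mk_iff_isConj.mpr (isConj_iff.mpr ⟨t⁻¹, by group⟩)
      rw [this]
      exact Quotient.out_eq c
    rw [Finset.mem_compl, hs] at hc
    exact hc (Finset.mem_image.mpr ⟨i, Finset.mem_univ _, hic⟩)
  rw [← h1, h2]
  have h5 : ∑ c : ConjClasses G, blockCoeff B.1 c.out * centralChar (χ' : G → ℂ) c.out =
      ∑ c : ConjClasses G, F c := rfl
  rw [h5, h3]
  have e : ∑ i, blockCoeff B.1 (y i) * centralChar (χ' : G → ℂ) (y i) -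
      (∑ i, blockCoeff B.1 (y i) * centralChar (χ' : G → ℂ) (y i) + ∑ c ∈ sᶜ, F c) =
      -(∑ c ∈ sᶜ, F c) := by ring
  rw [e]
  exact memLocalIdeal_neg h4

end Cfsg.Agent.Lib.Helper79_RobinsonMain
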