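import Mathlib
import Cfsg.Prelude.Def_Blocks
import Cfsg.Agent.S4443
import Cfsg.Agent.S4487
import Cfsg.Agent.Lib.Helper1_Cores
import Cfsg.Agent.Lib.Helper78_Transport
import Cfsg.Agent.Lib.Helper61_DCoset

/-!
# No blocks of defect zero from divisibility of the pair counts; single blocks of constrained groups
(helper61)

* `no_defect_zero`: if `p |S|` divides every pair count `ω(x, y)` of classes with centralisers of
  order prime to `p`, no `p`-block has the trivial group as a defect group (Robinson's rank formula,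
  the matrix vanishes).
* `free_of_not_dvd`: the freeness hypothesis of `Helper61_DCoset.dvd_pairCount`.
* `single_block_of_selfcent`: a group with a normal self-centralising `p`-subgroup has one `p`-block.
* `sameBlock_one_of_conj`: transport along conjugate centralisers.
-/

set_option autoImplicit false

namespace Cfsg.Agent.Lib.Helper61_RobinsonZero

open Cfsg Cfsg.Agent.Lib.Helper79_Residue Cfsg.Agent.Lib.Helper79_RobinsonFormula
  Cfsg.Agent.Lib.Helper79_RobinsonTerm Cfsg.Agent.Lib.Helper79_RobinsonMain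

universe u

section Robinson

variable {G : Type u} [Group G] [Fintype G] {p : ℕ} [Fact p.Prime] {M : Ideal AlgInt}

theorem not_dvd_of_hasSylow_bot {g : G} (h : HasSylow p (⊥ : Subgroup G) g) :
    ¬ p ∣ Nat.card (Subgroup.centralizer ({g} : Set G)) := by
  have hp : p.Prime := Fact.out
  have h2 := h.2
  rw [Subgroup.card_bot] at h2
  have hk : (Nat.card (Subgroup.centralizer ({g} : Set G))).factorization p = 0 := by
    by_contra hne
    have : 1 < p ^ (Nat.card (Subgroup.centralizer ({g} : Set G))).factorization p :=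
      Nat.one_lt_pow hne hp.one_lt
    omega
  rw [Nat.factorization_eq_zero_iff] at hk
  rcases hk with hk | hk | hk
  · exact absurd hp hk
  · exact hk
  · exact absurd hk Nat.card_pos.ne'

theorem no_defect_zero (hM : IsPModular p M) (S : Sylow p G)
    (hdiv : ∀ x y : G, HasSylow p (⊥ : Subgroup G) x → HasSylow p (⊥ : Subgroup G) y →
      p * Nat.card (S : Subgroup G) ∣ pairCount (S : Subgroup G) x y)
    (B : Set (IrrCharacter G)) (hB : IsPBlock M B) : ¬ IsDefectGroup p M B ⊥ := by
  classical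
  intro hdef
  have hmax : M.IsMaximal := hM.2.1
  have : Fintype (GoodBlock p M (⊥ : Subgroup G)) := Fintype.ofFinite _
  have : CharP (ResField M) p := charP_resField hM
  let ι := {c : ConjClasses G // ∃ g, ConjClasses.mk g = c ∧ HasSylow p (⊥ : Subgroup G) g}
  have : Fintype ι := Fintype.ofFinite ι
  let x : ι → G := fun i => i.2.choose
  have hx1 : ∀ i, ConjClasses.mk (x i) = i.1 := fun i => i.2.choose_spec.1
  have hxS : ∀ i, HasSylow p (⊥ : Subgroup G) (x i) := fun i => i.2.choose_spec.2
  have hinj : ∀ i j, IsConj (x i) (x j) → i = j := by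
    intro i j h
    apply Subtype.ext
    rw [← hx1 i, ← hx1 j]
    exact ConjClasses.mk_eq_mk_iff_isConj.mpr h
  have hall : ∀ g : G, ¬ p ∣ orderOf g → HasSylow p (⊥ : Subgroup G) g → ∃ i, IsConj (x i) g := by
    intro g _ hg
    refine ⟨⟨ConjClasses.mk g, g, rfl, hg⟩, ?_⟩
    rw [← ConjClasses.mk_eq_mk_iff_isConj]
    exact hx1 _
  have hrank := Cfsg.Agent.S4443.rank_eq_card hM (⊥ : Subgroup G) S x hxS hinj hall
  have hp0 : (p : ℂ) ≠ 0 := by
    have hp : p.Prime := Fact.out
    exact_mod_cast hp.ne_zero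
  have hzero : (Matrix.of fun i j : ι => redFun M ((pairCount (S : Subgroup G) (x i) (x j) : ℂ) /
      (p : ℂ) ^ ((Nat.card G).factorization p -
        (Nat.card (⊥ : Subgroup G)).factorization p))) = 0 := by
    ext i j
    simp only [Matrix.of_apply, Matrix.zero_apply]
    obtain ⟨m, hm⟩ := hdiv (x i) (x j) (hxS i) (hxS j)
    have hS : Nat.card (S : Subgroup G) = p ^ (Nat.card G).factorization p :=
      S.card_eq_multiplicity
    have hbot : (Nat.card (⊥ : Subgroup G)).factorization p = 0 := by simp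
    rw [hbot, Nat.sub_zero, hm, hS]
    have e : (((p * p ^ (Nat.card G).factorization p * m : ℕ) : ℂ)) /
        (p : ℂ) ^ (Nat.card G).factorization p = ((p * m : ℕ) : ℂ) := by
      push_cast
      field_simp
    rw [e, redFun_natCast]
    push_cast
    rw [CharP.cast_eq_zero, zero_mul]
  rw [hzero, Matrix.rank_zero] at hrank
  have : IsEmpty (GoodBlock p M (⊥ : Subgroup G)) := Fintype.card_eq_zero_iff.mp hrank.symm
  exact this.false ⟨B, hB, hdef⟩

end Robinson

section Free

variable {G : Type*} [Group G] {p : ℕ} [Fact p.Prime]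

theorem free_of_not_dvd (S : Subgroup G) (hS : IsPGroup p S) {x : G}
    (hx : ¬ p ∣ Nat.card (Subgroup.centralizer ({x} : Set G))) :
    ∀ u, IsConj x u → ∀ s ∈ S, s * u = u * s → s = 1 := by
  intro u hu s hs hcomm
  obtain ⟨d, hd⟩ := isConj_iff.1 hu
  have hmem : d⁻¹ * s * d ∈ Subgroup.centralizer ({x} : Set G) := by
    rw [Subgroup.mem_centralizer_iff]
    intro z hz
    rw [Set.mem_singleton_iff] at hz
    subst hz
    have hx' : z = d⁻¹ * u * d := by rw [← hd]; group
    rw [hx']
    calc d⁻¹ * u * d * (d⁻¹ * s * d) = d⁻¹ * (u * s) * d := by group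
      _ = d⁻¹ * (s * u) * d := by rw [hcomm]
      _ = _ := by group
  obtain ⟨k, hk⟩ := hS ⟨s, hs⟩
  have hk' : s ^ p ^ k = 1 := congrArg Subtype.val hk
  have hpow : (⟨d⁻¹ * s * d, hmem⟩ : Subgroup.centralizer ({x} : Set G)) ^ p ^ k = 1 := by
    apply Subtype.ext
    show (d⁻¹ * s * d) ^ p ^ k = 1
    have : d⁻¹ * s * d = d⁻¹ * s * d⁻¹⁻¹ := by rw [inv_inv]
    rw [this, conj_pow, hk']
    group
  have hdvd := orderOf_dvd_of_pow_eq_one hpow
  have hdvd2 : orderOf (⟨d⁻¹ * s * d, hmem⟩ : Subgroup.centralizer ({x} : Set G)) ∣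
      Nat.card (Subgroup.centralizer ({x} : Set G)) := orderOf_dvd_natCard _
  have hp : p.Prime := Fact.out
  obtain ⟨j, -, hj⟩ := (Nat.dvd_prime_pow hp).1 hdvd
  have hj0 : j = 0 := by
    by_contra hne
    apply hx
    have : p ∣ p ^ j := dvd_pow_self p hne
    rw [← hj] at this
    exact this.trans hdvd2
  rw [hj0, pow_zero, orderOf_eq_one_iff] at hj
  have e : d⁻¹ * s * d = 1 := congrArg Subtype.val hj
  calc s = d * (d⁻¹ * s * d) * d⁻¹ := by group
    _ = 1 := by rw [e]; group

end Free

section Constrained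

variable {C : Type*} [Group C] [Finite C] (p : ℕ) [Fact p.Prime]

open Cfsg.Agent.Lib.Helper1_Cores in
theorem single_block_of_selfcent (M : Ideal AlgInt) (hM : IsPModular p M) (Q : Subgroup C)
    (hQn : Q.Normal) (hQ : IsPGroup p Q) (hcen : Subgroup.centralizer (Q : Set C) ≤ Q)
    (χ ψ : IrrCharacter C) : SameBlock M (χ : C → ℂ) (ψ : C → ℂ) := by
  have hle : Q ≤ pCore p C := le_pCore hQn hQ
  have hconstr : Subgroup.centralizer ((pCore p C) : Set C) ≤ pCore p C :=
    (Subgroup.centralizer_le hle).trans (hcen.trans hle)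
  have hcore : pPrimeCore p C = ⊥ := by
    rw [eq_bot_iff]
    intro k hk
    rw [Subgroup.mem_bot]
    have hKn : (pPrimeCore p C).Normal := pPrimeCore_normal p
    have hcop : (Nat.card (pPrimeCore p C)).Coprime p := pPrimeCore_card_coprime p
    -- an element of `K ∩ Q` is trivial
    have hinter : ∀ z : C, z ∈ pPrimeCore p C → z ∈ Q → z = 1 := by
      intro z hzK hzQ
      obtain ⟨n, hn⟩ := hQ ⟨z, hzQ⟩
      have hn' : z ^ p ^ n = 1 := congrArg Subtype.val hn
      have h1 : orderOf z ∣ p ^ n := orderOf_dvd_of_pow_eq_one hn'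
      have h2 : orderOf z ∣ Nat.card (pPrimeCore p C) := by
        have := orderOf_dvd_natCard (⟨z, hzK⟩ : pPrimeCore p C)
        rwa [Subgroup.orderOf_mk] at this
      have h3 : (orderOf z).Coprime (orderOf z) :=
        Nat.Coprime.coprime_dvd_left h2 (Nat.Coprime.coprime_dvd_right h1
          (Nat.Coprime.pow_right n hcop))
      rw [Nat.coprime_self] at h3
      exact orderOf_eq_one_iff.1 h3
    -- `k` centralises `Q`
    have hkc : k ∈ Subgroup.centralizer (Q : Set C) := by
      rw [Subgroup.mem_centralizer_iff]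
      intro q hq
      have hcomm : k * q * k⁻¹ * q⁻¹ = 1 := by
        apply hinter
        · have : k * q * k⁻¹ * q⁻¹ = k * (q * k⁻¹ * q⁻¹) := by group
          rw [this]
          exact Subgroup.mul_mem _ hk (hKn.conj_mem _ (Subgroup.inv_mem _ hk) q)
        · exact Subgroup.mul_mem _ (hQn.conj_mem _ hq k) (Subgroup.inv_mem _ hq)
      calc q * k = (k * q * k⁻¹ * q⁻¹)⁻¹ * (k * q) := by group
        _ = k * q := by rw [hcomm]; group
    exact hinter k hk (hcen hkc)
  exact Cfsg.Agent.S4487.result p M hM hcore hconstr χ ψ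

end Constrained

section Conj

variable {G : Type u} [Group G] {M : Ideal AlgInt}

/-- conjugation between the centralisers of conjugate elements -/
def centConj (t0 t c : G) (hc : c * t0 * c⁻¹ = t) :
    Subgroup.centralizer ({t} : Set G) ≃* Subgroup.centralizer ({t0} : Set G) where
  toFun x := ⟨c⁻¹ * x * c, by
    have hx := x.2
    rw [Subgroup.mem_centralizer_iff] at hx ⊢
    intro z hz
    rw [Set.mem_singleton_iff] at hz
    subst hz
    have h1 := hx t (Set.mem_singleton t)
    have ht : z = c⁻¹ * t * c := by rw [← hc]; group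
    rw [ht]
    calc c⁻¹ * t * c * (c⁻¹ * ↑x * c) = c⁻¹ * (t * ↑x) * c := by group
      _ = c⁻¹ * (↑x * t) * c := by rw [h1]
      _ = _ := by group⟩
  invFun y := ⟨c * y * c⁻¹, by
    have hy := y.2
    rw [Subgroup.mem_centralizer_iff] at hy ⊢
    intro z hz
    rw [Set.mem_singleton_iff] at hz
    subst hz
    have h1 := hy t0 (Set.mem_singleton t0)
    rw [← hc]
    calc c * t0 * c⁻¹ * (c * ↑y * c⁻¹) = c * (t0 * ↑y) * c⁻¹ := by group
      _ = c * (↑y * t0) * c⁻¹ := by rw [h1]
      _ = _ := by group⟩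
  left_inv x := by
    apply Subtype.ext
    show c * (c⁻¹ * ↑x * c) * c⁻¹ = ↑x
    group
  right_inv y := by
    apply Subtype.ext
    show c⁻¹ * (c * ↑y * c⁻¹) * c = ↑y
    group
  map_mul' x y := by
    apply Subtype.ext
    show c⁻¹ * (↑x * ↑y) * c = c⁻¹ * ↑x * c * (c⁻¹ * ↑y * c)
    group

open Cfsg.Agent.Lib.Helper78_Transport in
theorem sameBlock_one_of_conj [Finite G] (t0 t c : G) (hc : c * t0 * c⁻¹ = t)
    (h0 : ∀ ψ : IrrCharacter (Subgroup.centralizer ({t0} : Set G)),
      SameBlock M (fun _ : Subgroup.centralizer ({t0} : Set G) => (1 : ℂ))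
        (ψ : Subgroup.centralizer ({t0} : Set G) → ℂ))
    (ψ : IrrCharacter (Subgroup.centralizer ({t} : Set G))) :
    SameBlock M (fun _ : Subgroup.centralizer ({t} : Set G) => (1 : ℂ))
      (ψ : Subgroup.centralizer ({t} : Set G) → ℂ) := by
  set φ := centConj t0 t c hc with hφ
  have h1 := h0 (irrComp φ.symm ψ)
  have h2 := sameBlock_comp_mulEquiv (M := M) φ h1
  have e : ((irrComp φ.symm ψ : Subgroup.centralizer ({t0} : Set G) → ℂ) ∘ φ) =
      (ψ : Subgroup.centralizer ({t} : Set G) → ℂ) := by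
    funext x
    show (irrComp φ.symm ψ : _ → ℂ) (φ x) = _
    rw [irrComp_apply, MulEquiv.symm_apply_apply]
  rw [e] at h2
  exact h2

end Conj

end Cfsg.Agent.Lib.Helper61_RobinsonZero
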