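import Mathlib
import Cfsg.Agent.Lib.Helper77_SLnDefs
import Cfsg.Prelude.Def_Characters

/-!
S2332-FIXVEC (helper77's market): the stabiliser of `e₁` in `SL (Unit ⊕ κ) F` is `{xu u * emb A}`, and its fixed
vectors in a representation are the `psiRep`-invariants of the zero weight space.
-/

set_option autoImplicit false
set_option linter.unusedSectionVars false
open Matrix Cfsg.Agent.Lib.Helper5_Transv Cfsg.Agent.Lib.Helper77_SLnDefs

namespace Cfsg.Agent.Lib.Helper61_S2332_FIXVEC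

variable {F : Type*} [Field F] [Fintype F] [DecidableEq F] {κ : Type} [Fintype κ] [DecidableEq κ]
  {V : Type} [AddCommGroup V] [Module ℂ V] [FiniteDimensional ℂ V]

/-- `M *ᵥ e0` is the first column of `M` -/
theorem mulVec_e0 (M : Matrix (Unit ⊕ κ) (Unit ⊕ κ) F) (i : Unit ⊕ κ) :
    (M *ᵥ (e0 : Unit ⊕ κ → F)) i = M i (Sum.inl ()) := by
  simp [Matrix.mulVec, dotProduct, e0, Fintype.sum_sum_type]

/-- the matrix of `xu u * emb A` -/
theorem xu_mul_emb_coe (u : κ → F) (A : Matrix.SpecialLinearGroup κ F) :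
    (xu u * emb A).1 = (emb A).1 + vecMulVec (e0 : Unit ⊕ κ → F) (ext0 (u ᵥ* A.1)) := by
  rw [Matrix.SpecialLinearGroup.coe_mul]
  unfold xu
  rw [tvS_coe]
  unfold tv
  rw [one_smul, add_mul, one_mul, Matrix.vecMulVec_mul, ext0_vecMul_emb]

theorem xu_mul_emb_mulVec_e0 (u : κ → F) (A : Matrix.SpecialLinearGroup κ F) :
    (xu u * emb A).1 *ᵥ (e0 : Unit ⊕ κ → F) = e0 := by
  rw [Matrix.SpecialLinearGroup.coe_mul, ← Matrix.mulVec_mulVec, emb_mulVec_e0]
  unfold xu
  rw [tvS_coe, tv_mulVec, ext0_dot_e0, mul_zero, zero_smul, add_zero]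

theorem mem_stabilizer_x0 (g : Matrix.SpecialLinearGroup (Unit ⊕ κ) F) :
    g ∈ MulAction.stabilizer (Matrix.SpecialLinearGroup (Unit ⊕ κ) F) (x0 : NZv (Unit ⊕ κ) F) ↔
      ∃ (u : κ → F) (A : Matrix.SpecialLinearGroup κ F), g = xu u * emb A := by
  rw [MulAction.mem_stabilizer_iff]
  constructor
  · intro hg
    have hg' : g.1 *ᵥ (e0 : Unit ⊕ κ → F) = e0 := congrArg Subtype.val hg
    have hcol : ∀ i, g.1 i (Sum.inl ()) = (e0 : Unit ⊕ κ → F) i := by
      intro i
      have h1 := mulVec_e0 g.1 i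
      rw [hg'] at h1
      exact h1.symm
    have h21 : g.1.toBlocks₂₁ = 0 := by
      ext k j
      have := hcol (Sum.inr k)
      simpa [Matrix.toBlocks₂₁, e0] using this
    have h11 : g.1.toBlocks₁₁ = 1 := by
      ext i j
      have := hcol (Sum.inl ())
      simpa [Matrix.toBlocks₁₁, e0] using this
    have hdet : g.1.toBlocks₂₂.det = 1 := by
      have h1 := g.2
      rw [← Matrix.fromBlocks_toBlocks g.1, h21, Matrix.det_fromBlocks_zero₂₁, h11, Matrix.det_one,
        one_mul] at h1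
      exact h1
    set A : Matrix.SpecialLinearGroup κ F := ⟨g.1.toBlocks₂₂, hdet⟩ with hA
    set r : κ → F := fun k => g.1 (Sum.inl ()) (Sum.inr k) with hr
    refine ⟨r ᵥ* (A⁻¹).1, A, ?_⟩
    apply Subtype.ext
    rw [xu_mul_emb_coe, Matrix.vecMul_vecMul]
    have hAA : (A⁻¹).1 * A.1 = 1 := congrArg Subtype.val (inv_mul_cancel A)
    rw [hAA, Matrix.vecMul_one, emb_coe]
    ext i j
    rw [Matrix.add_apply, Matrix.vecMulVec_apply]
    rcases i with ⟨⟩ | k <;> rcases j with ⟨⟩ | k'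
    · have := hcol (Sum.inl ())
      simp [ext0, e0] at this ⊢
      exact this
    · simp [ext0, e0, hr]
    · have := hcol (Sum.inr k)
      simp [ext0, e0] at this ⊢
      exact this
    · simp [ext0, e0, hA, Matrix.toBlocks₂₂]
  · rintro ⟨u, A, rfl⟩
    apply Subtype.ext
    rw [smul_NZv_val]
    exact xu_mul_emb_mulVec_e0 u A

theorem mem_invariants_stabilizer_iff
    (ρ : Representation ℂ (Matrix.SpecialLinearGroup (Unit ⊕ κ) F) V) (ψ : AddChar F ℂ) (w : V) :
    w ∈ stabFix ρ (MulAction.stabilizer (Matrix.SpecialLinearGroup (Unit ⊕ κ) F)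
        (x0 : NZv (Unit ⊕ κ) F)) ↔
      ∃ hw : w ∈ wsp ρ ψ (0 : κ → F), (⟨w, hw⟩ : wsp ρ ψ (0 : κ → F)) ∈ (psiRep ρ ψ).invariants := by
  rw [mem_stabFix]
  constructor
  · intro h
    have hxu : ∀ u : κ → F, ρ (xu u) w = w := by
      intro u
      apply h
      rw [mem_stabilizer_x0]
      exact ⟨u, 1, by rw [map_one, mul_one]⟩
    have hemb : ∀ A : Matrix.SpecialLinearGroup κ F, ρ (emb A) w = w := by
      intro A
      apply h
      rw [mem_stabilizer_x0]
      exact ⟨0, A, by rw [xu_zero, one_mul]⟩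
    have hw : w ∈ wsp ρ ψ (0 : κ → F) := by
      rw [mem_wsp]
      intro u
      rw [hxu u, dotProduct_zero, AddChar.map_zero_eq_one, one_smul]
    refine ⟨hw, ?_⟩
    rw [Representation.mem_invariants]
    intro A
    apply Subtype.ext
    rw [psiRep_apply]
    exact hemb A
  · rintro ⟨hw, hinv⟩ g hg
    rw [mem_stabilizer_x0] at hg
    obtain ⟨u, A, rfl⟩ := hg
    rw [Representation.mem_invariants] at hinv
    have h1 : ρ (emb A) w = w := by
      have := congrArg Subtype.val (hinv A)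
      rwa [psiRep_apply] at this
    have h2 : ρ (xu u) w = w := by
      have := (mem_wsp ρ ψ 0 w).mp hw u
      rwa [dotProduct_zero, AddChar.map_zero_eq_one, one_smul] at this
    rw [map_mul, Module.End.mul_apply, h1, h2]

end Cfsg.Agent.Lib.Helper61_S2332_FIXVEC
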