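import Mathlib
import Cfsg.Agent.Lib.Helper77_SLnDefs
import Cfsg.Prelude.Def_Characters

/-!
S2332-INDEX (helper77's market): the stabiliser `Pline` of the line `F e₁` in `SL (Unit ⊕ κ) F` has index
`N_(m+1) = 1 + q + ... + q^m` (`m = |κ| ≥ 1`).
-/

set_option autoImplicit false
set_option linter.unusedSectionVars false
open Matrix Cfsg.Agent.Lib.Helper5_Transv Cfsg.Agent.Lib.Helper77_SLnDefs

namespace Cfsg.Agent.Lib.Helper61_S2332_INDEX

variable {F : Type*} [Field F] [Fintype F] [DecidableEq F] {κ : Type} [Fintype κ] [DecidableEq κ]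
  {V : Type} [AddCommGroup V] [Module ℂ V] [FiniteDimensional ℂ V]

theorem e0_eq_e : (e0 : Unit ⊕ κ → F) = e (Sum.inl ()) := by
  funext i
  rcases i with ⟨⟩ | k <;> simp [e0, e]

/-- `M *ᵥ e0` is the first column of `M` -/
theorem mulVec_e0 (M : Matrix (Unit ⊕ κ) (Unit ⊕ κ) F) (i : Unit ⊕ κ) :
    (M *ᵥ (e0 : Unit ⊕ κ → F)) i = M i (Sum.inl ()) := by
  simp [Matrix.mulVec, dotProduct, e0, Fintype.sum_sum_type]

theorem isPretransitive_NZv' (k0 : κ) :
    MulAction.IsPretransitive (Matrix.SpecialLinearGroup (Unit ⊕ κ) F) (NZv (Unit ⊕ κ) F) := by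
  constructor
  intro x y
  have h01 : (Sum.inl () : Unit ⊕ κ) ≠ Sum.inr k0 := by simp
  obtain ⟨g1, hg1⟩ := exists_mulVec_eq (k := F) h01 x.1 x.2
  obtain ⟨g2, hg2⟩ := exists_mulVec_eq (k := F) h01 y.1 y.2
  refine ⟨g2 * g1⁻¹, ?_⟩
  apply Subtype.ext
  rw [smul_NZv_val, Matrix.SpecialLinearGroup.coe_mul, ← Matrix.mulVec_mulVec]
  have h1 : (g1⁻¹).1 *ᵥ x.1 = e (Sum.inl ()) := by
    rw [← hg1, Matrix.mulVec_mulVec]
    have : (g1⁻¹).1 * g1.1 = 1 := congrArg Subtype.val (inv_mul_cancel g1)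
    rw [this, Matrix.one_mulVec]
  rw [h1, hg2]

theorem card_NZv : Nat.card (NZv (Unit ⊕ κ) F) = Fintype.card F ^ (Fintype.card κ + 1) - 1 := by
  classical
  unfold NZv
  rw [Nat.card_eq_fintype_card]
  have h1 := Set.card_ne_eq (0 : Unit ⊕ κ → F)
  have h2 : Fintype.card {x : Unit ⊕ κ → F // x ≠ 0} = Fintype.card {x : Unit ⊕ κ → F | x ≠ 0} :=
    Fintype.card_congr (Equiv.refl _)
  rw [h2, h1, Fintype.card_fun, Fintype.card_sum, Fintype.card_unit, add_comm]

/-- the scalar by which an element of `Pline` acts on `e0` -/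
theorem pline_coeff (g : Matrix.SpecialLinearGroup (Unit ⊕ κ) F) (hg : g ∈ Pline) :
    g.1 *ᵥ (e0 : Unit ⊕ κ → F) = g.1 (Sum.inl ()) (Sum.inl ()) • e0 ∧
      g.1 (Sum.inl ()) (Sum.inl ()) ≠ 0 := by
  obtain ⟨c, hc⟩ := hg
  have h1 : g.1 (Sum.inl ()) (Sum.inl ()) = c := by
    have h2 := mulVec_e0 g.1 (Sum.inl ())
    rw [hc] at h2
    rw [← h2]
    simp [e0]
  rw [h1]
  refine ⟨hc, ?_⟩
  intro h0
  rw [h0, zero_smul] at hc
  exact mulVec_ne_zero g e0 e0_ne_zero hc

/-- the character `Pline → Fˣ` -/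
noncomputable def chi : ↥(Pline : Subgroup (Matrix.SpecialLinearGroup (Unit ⊕ κ) F)) →* Fˣ where
  toFun g := Units.mk0 (g.1.1 (Sum.inl ()) (Sum.inl ())) (pline_coeff g.1 g.2).2
  map_one' := by
    apply Units.ext
    simp
  map_mul' g h := by
    apply Units.ext
    rw [Units.val_mul, Units.val_mk0, Units.val_mk0, Units.val_mk0]
    have h1 := (pline_coeff g.1 g.2).1
    have h2 := (pline_coeff h.1 h.2).1
    have h3 : (g * h).1.1 *ᵥ (e0 : Unit ⊕ κ → F) =
        (g.1.1 (Sum.inl ()) (Sum.inl ()) * h.1.1 (Sum.inl ()) (Sum.inl ())) • e0 := by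
      rw [Subgroup.coe_mul, Matrix.SpecialLinearGroup.coe_mul, ← Matrix.mulVec_mulVec, h2,
        Matrix.mulVec_smul, h1, smul_smul, mul_comm]
    have h4 := congrFun h3 (Sum.inl ())
    rw [mulVec_e0] at h4
    rw [h4]
    simp [e0]

theorem chi_val (g : ↥(Pline : Subgroup (Matrix.SpecialLinearGroup (Unit ⊕ κ) F))) :
    ((chi g : Fˣ) : F) = g.1.1 (Sum.inl ()) (Sum.inl ()) := rfl

theorem chi_ker : (chi (F := F) (κ := κ)).ker =
    (MulAction.stabilizer (Matrix.SpecialLinearGroup (Unit ⊕ κ) F)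
      (x0 : NZv (Unit ⊕ κ) F)).subgroupOf Pline := by
  ext g
  rw [MonoidHom.mem_ker, Subgroup.mem_subgroupOf, MulAction.mem_stabilizer_iff]
  have h1 := (pline_coeff g.1 g.2).1
  constructor
  · intro h
    have h2 : g.1.1 (Sum.inl ()) (Sum.inl ()) = 1 := by
      rw [← chi_val, h, Units.val_one]
    apply Subtype.ext
    rw [smul_NZv_val]
    show g.1.1 *ᵥ (e0 : Unit ⊕ κ → F) = e0
    rw [h1, h2, one_smul]
  · intro h
    have h2 : g.1.1 *ᵥ (e0 : Unit ⊕ κ → F) = e0 := congrArg Subtype.val h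
    apply Units.ext
    rw [chi_val, Units.val_one]
    have h3 := congrFun h2 (Sum.inl ())
    rw [mulVec_e0] at h3
    rw [h3]
    simp [e0]

theorem chi_surjective (k0 : κ) : Function.Surjective (chi (F := F) (κ := κ)) := by
  intro c
  set d : Unit ⊕ κ → F := Sum.elim (fun _ => (c : F)) (fun k => if k = k0 then ((c⁻¹ : Fˣ) : F) else 1)
    with hd
  have hprod : ∏ i, d i = 1 := by
    rw [Fintype.prod_sum_type]
    simp only [hd, Sum.elim_inl, Sum.elim_inr, Finset.univ_unique, Finset.prod_singleton]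
    rw [Finset.prod_ite_eq' Finset.univ k0 (fun _ => ((c⁻¹ : Fˣ) : F))]
    simp
  have hmem : diagS d hprod ∈ (Pline : Subgroup (Matrix.SpecialLinearGroup (Unit ⊕ κ) F)) := by
    refine ⟨(c : F), ?_⟩
    funext i
    show (Matrix.diagonal d *ᵥ (e0 : Unit ⊕ κ → F)) i = ((c : F) • (e0 : Unit ⊕ κ → F)) i
    rw [Matrix.mulVec_diagonal]
    rcases i with ⟨⟩ | k <;> simp [hd, e0]
  refine ⟨⟨diagS d hprod, hmem⟩, ?_⟩
  apply Units.ext
  rw [chi_val]
  show Matrix.diagonal d (Sum.inl ()) (Sum.inl ()) = (c : F)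
  simp [hd]

theorem geom (q n : ℕ) (hq : 1 ≤ q) : NN q n * (q - 1) = q ^ n - 1 := by
  have h := geom_sum_mul_add (q - 1) n
  rw [Nat.sub_add_cancel hq] at h
  unfold NN
  omega

theorem index_Pline (hκ : 1 ≤ Fintype.card κ) :
    (Pline : Subgroup (Matrix.SpecialLinearGroup (Unit ⊕ κ) F)).index =
      NN (Fintype.card F) (Fintype.card κ + 1) := by
  classical
  obtain ⟨k0⟩ : Nonempty κ := Fintype.card_pos_iff.mp (by omega)
  have := isPretransitive_NZv' (F := F) k0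
  set P' := MulAction.stabilizer (Matrix.SpecialLinearGroup (Unit ⊕ κ) F)
    (x0 : NZv (Unit ⊕ κ) F) with hP'
  have hle : P' ≤ Pline := by
    intro g hg
    rw [hP', MulAction.mem_stabilizer_iff] at hg
    refine ⟨1, ?_⟩
    rw [one_smul]
    exact congrArg Subtype.val hg
  have h1 : P'.index = Fintype.card F ^ (Fintype.card κ + 1) - 1 := by
    rw [hP', MulAction.index_stabilizer_of_transitive, card_NZv]
  have h2 : P'.relIndex Pline = Fintype.card F - 1 := by
    unfold Subgroup.relIndex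
    rw [← chi_ker, Subgroup.index_ker, MonoidHom.range_eq_top.mpr (chi_surjective k0),
      Nat.card_congr Subgroup.topEquiv.toEquiv, Nat.card_units, Nat.card_eq_fintype_card]
  have h3 := Subgroup.relIndex_mul_index hle
  rw [h1, h2] at h3
  have hq : 2 ≤ Fintype.card F := Fintype.one_lt_card
  have h4 := geom (Fintype.card F) (Fintype.card κ + 1) (by omega)
  rw [← h3, mul_comm] at h4
  exact (Nat.eq_of_mul_eq_mul_left (by omega : 0 < Fintype.card F - 1) h4).symm

end Cfsg.Agent.Lib.Helper61_S2332_INDEX
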