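import Mathlib
import Cfsg.Agent.Lib.Helper62_S2490_Defs

/-!
# S2490-D2 (helper61, package for helper62's S2490)

A group of order `7920` in which every nontrivial normal subgroup has order divisible by `11`
does not have exactly twelve Sylow `11`-subgroups.
-/

set_option autoImplicit false

namespace Cfsg.Agent.Lib.Helper61_S2490_D2

open Cfsg Cfsg.Agent.Lib.Helper62_S2490_Defs

section

variable {G : Type*} [Group G] [Finite G]

/-- The Sylow `11`-subgroups of a group of order `7920` have order `11`. -/
theorem card_sylow11 [Fact (Nat.Prime 11)] (hord : Nat.card G = 7920) (P : Sylow 11 G) :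
    Nat.card P = 11 := by
  obtain ⟨k, hk⟩ := P.2.exists_card_eq
  have hdvd : Nat.card (P : Subgroup G) ∣ 7920 := by
    rw [← hord]; exact Subgroup.card_subgroup_dvd_card _
  have hnd : ¬ 11 ∣ (P : Subgroup G).index := P.not_dvd_index
  have hmul := (P : Subgroup G).card_mul_index
  rw [hord] at hmul
  have hk' : Nat.card (P : Subgroup G) = 11 ^ k := hk
  have hk1 : k = 1 := by
    rcases Nat.lt_or_ge k 1 with h | h
    · exfalso
      have h0 : k = 0 := by omega
      rw [hk', h0, pow_zero, one_mul] at hmul
      apply hnd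
      rw [hmul]
      norm_num
    · rcases Nat.lt_or_ge 1 k with h2 | h2
      · exfalso
        have : 11 ^ 2 ∣ 7920 := by
          refine dvd_trans (pow_dvd_pow 11 h2) ?_
          rw [← hk']
          exact hdvd
        norm_num at this
      · omega
  show Nat.card (P : Subgroup G) = 11
  rw [hk', hk1, pow_one]

/-- `|N(P) : C(P)|` divides `10`. -/
theorem relIndex_dvd_ten [Fact (Nat.Prime 11)] (P : Sylow 11 G) (hP : Nat.card P = 11) :
    (Subgroup.centralizer ((P : Subgroup G) : Set G)).relIndex
      (Subgroup.normalizer ((P : Subgroup G) : Set G)) ∣ 10 := by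
  have key := Subgroup.card_dvd_of_injective _
    (QuotientGroup.kerLift_injective (P : Subgroup G).normalizerMonoidHom)
  rw [Subgroup.normalizerMonoidHom_ker, ← Subgroup.index, ← Subgroup.relIndex] at key
  have hc : IsCyclic ↥(P : Subgroup G) := isCyclic_of_prime_card hP
  rwa [hc.card_mulAut, hP, Nat.totient_prime (by norm_num)] at key

/-- A Sylow subgroup of prime order is generated by each of its nontrivial elements. -/
theorem eq_zpowers {p : ℕ} [hp : Fact p.Prime] (Q : Sylow p G) (hQ : Nat.card Q = p) {x : G}
    (hx : x ∈ (Q : Subgroup G)) (hx1 : x ≠ 1) : (Q : Subgroup G) = Subgroup.zpowers x := by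
  have ho : orderOf x = p := by
    have h1 : orderOf x ∣ p := by
      have := Subgroup.orderOf_dvd_natCard (Q : Subgroup G) hx
      rwa [hQ] at this
    rcases (Nat.dvd_prime hp.out).mp h1 with h | h
    · exact absurd (orderOf_eq_one_iff.mp h) hx1
    · exact h
  symm
  apply Subgroup.eq_of_le_of_card_ge
  · rwa [Subgroup.zpowers_le]
  · rw [Nat.card_zpowers, ho, hQ]

end

/-- S2490-D2. Twelve Sylow 11-subgroups is impossible. -/
theorem n12_false {G : Type*} [Group G] [Finite G] (hord : Nat.card G = 7920)
    (hN : ∀ M : Subgroup G, M.Normal → M ≠ ⊥ → 11 ∣ Nat.card M)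
    (hn : Nat.card (Sylow 11 G) = 12) : False := by
  classical
  have : Fact (Nat.Prime 11) := ⟨by norm_num⟩
  obtain ⟨P⟩ : Nonempty (Sylow 11 G) := inferInstance
  have hcardS : ∀ R : Sylow 11 G, Nat.card R = 11 := fun R => card_sylow11 hord R
  have hP : Nat.card P = 11 := hcardS P
  have hidx : (Subgroup.normalizer ((P : Subgroup G) : Set G)).index = 12 := by
    rw [← hn]; exact (Sylow.card_eq_index_normalizer P).symm
  have hNcard : Nat.card (Subgroup.normalizer ((P : Subgroup G) : Set G)) = 660 := by
    have := (Subgroup.normalizer ((P : Subgroup G) : Set G)).card_mul_index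
    rw [hidx, hord] at this
    omega
  have hCN : Subgroup.centralizer ((P : Subgroup G) : Set G) ≤
      Subgroup.normalizer ((P : Subgroup G) : Set G) := Subgroup.centralizer_le_normalizer _
  have hrel := relIndex_dvd_ten P hP
  have hCcard : (Subgroup.centralizer ((P : Subgroup G) : Set G)).relIndex
      (Subgroup.normalizer ((P : Subgroup G) : Set G)) *
      Nat.card (Subgroup.centralizer ((P : Subgroup G) : Set G)) = 660 := by
    have h := Subgroup.relIndex_mul_relIndex _ _ _
      (bot_le : (⊥ : Subgroup G) ≤ Subgroup.centralizer ((P : Subgroup G) : Set G)) hCN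
    rw [Subgroup.relIndex_bot_left, Subgroup.relIndex_bot_left, hNcard] at h
    rw [mul_comm]
    exact h
  have h2C : 2 ∣ Nat.card (Subgroup.centralizer ((P : Subgroup G) : Set G)) := by
    have hle : (Subgroup.centralizer ((P : Subgroup G) : Set G)).relIndex
      (Subgroup.normalizer ((P : Subgroup G) : Set G)) ≤ 10 := Nat.le_of_dvd (by norm_num) hrel
    generalize (Subgroup.centralizer ((P : Subgroup G) : Set G)).relIndex
      (Subgroup.normalizer ((P : Subgroup G) : Set G)) = r at hrel hCcard hle
    generalize Nat.card (Subgroup.centralizer ((P : Subgroup G) : Set G)) = m at hCcard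
    interval_cases r <;> omega
  -- an involution of `C(P)`
  obtain ⟨c', hc'⟩ := exists_prime_orderOf_dvd_card' 2 h2C
  set c : G := (c' : G) with hcdef
  have hco : orderOf c = 2 := by rw [hcdef, Subgroup.orderOf_coe]; exact hc'
  have hcC : c ∈ Subgroup.centralizer ((P : Subgroup G) : Set G) := c'.2
  have hc1 : c ≠ 1 := by
    intro h
    rw [h, orderOf_one] at hco
    norm_num at hco
  have hcomm : ∀ x ∈ (P : Subgroup G), x * c = c * x := fun x hx =>
    (Subgroup.mem_centralizer_iff.mp hcC) x hx
  -- fixed points of `c` on the Sylow subgroups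
  have hZ : IsPGroup 2 (Subgroup.zpowers c) :=
    IsPGroup.of_card (n := 1) (by rw [Nat.card_zpowers, hco, pow_one])
  have hmod := hZ.card_modEq_card_fixedPoints (Sylow 11 G)
  have hPfix : P ∈ MulAction.fixedPoints (Subgroup.zpowers c) (Sylow 11 G) := by
    rw [Subgroup.sylow_mem_fixedPoints_iff, Subgroup.zpowers_le]
    exact hCN hcC
  obtain ⟨Q, hQfix, hQP⟩ : ∃ Q ∈ MulAction.fixedPoints (Subgroup.zpowers c) (Sylow 11 G),
      Q ≠ P := by
    by_contra hcon
    push Not at hcon
    have hset : MulAction.fixedPoints (Subgroup.zpowers c) (Sylow 11 G) = {P} := by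
      ext R
      constructor
      · intro hR; exact hcon R hR
      · intro hR
        rw [Set.mem_singleton_iff] at hR
        rw [hR]; exact hPfix
    have h1 : Nat.card (MulAction.fixedPoints (Subgroup.zpowers c) (Sylow 11 G)) = 1 := by
      simp [hset]
    rw [h1, hn] at hmod
    exact absurd hmod (by decide)
  have hcQ : c ∈ Subgroup.normalizer ((Q : Subgroup G) : Set G) := by
    rw [Subgroup.sylow_mem_fixedPoints_iff, Subgroup.zpowers_le] at hQfix
    exact hQfix
  -- `P` is transitive on the other eleven points
  have htrans : ∀ R : Sylow 11 G, R ≠ P → ∃ x : (P : Subgroup G), (x : G) • Q = R := by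
    let _ : Fintype (Sylow 11 G) := Fintype.ofFinite _
    let _ : Fintype ↥(P : Subgroup G) := Fintype.ofFinite _
    let f : ↥(P : Subgroup G) → Sylow 11 G := fun x => (x : G) • Q
    have hfinj : Function.Injective f := by
      intro x y hxy
      have h1 : ((y : G)⁻¹ * (x : G)) • Q = Q := by
        rw [mul_smul]
        show (y : G)⁻¹ • f x = Q
        rw [hxy]
        show (y : G)⁻¹ • ((y : G) • Q) = Q
        rw [inv_smul_smul]
      rw [Sylow.smul_eq_iff_mem_normalizer] at h1
      have hwP : (y : G)⁻¹ * (x : G) ∈ (P : Subgroup G) :=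
        Subgroup.mul_mem _ (Subgroup.inv_mem _ y.2) x.2
      have hwQ : (y : G)⁻¹ * (x : G) ∈ (Q : Subgroup G) := by
        have h2 := (P.2.inf_normalizer_sylow Q).le ⟨hwP, h1⟩
        exact h2.2
      by_contra hne
      have hw1 : (y : G)⁻¹ * (x : G) ≠ 1 := by
        intro h
        apply hne
        apply Subtype.ext
        have := inv_mul_eq_one.mp h
        exact this.symm
      apply hQP
      apply Sylow.ext
      exact (eq_zpowers Q (hcardS Q) hwQ hw1).trans (eq_zpowers P hP hwP hw1).symm
    have hsub : Finset.univ.image f ⊆ Finset.univ.erase P := by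
      intro R hR
      rw [Finset.mem_image] at hR
      obtain ⟨x, -, rfl⟩ := hR
      rw [Finset.mem_erase]
      refine ⟨?_, Finset.mem_univ _⟩
      intro h
      apply hQP
      have h2 : Q = (x : G)⁻¹ • P := by
        have h' : (x : G) • Q = P := h
        exact eq_inv_smul_iff.mpr h'
      rw [h2, Sylow.smul_eq_iff_mem_normalizer]
      exact Subgroup.le_normalizer (Subgroup.inv_mem _ x.2)
    have hcards : (Finset.univ.erase P).card ≤ (Finset.univ.image f).card := by
      rw [Finset.card_image_of_injective _ hfinj, Finset.card_erase_of_mem (Finset.mem_univ _),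
        Finset.card_univ, Finset.card_univ, ← Nat.card_eq_fintype_card, ← Nat.card_eq_fintype_card,
        hn]
      have : Nat.card (P : Subgroup G) = 11 := hP
      rw [this]
    have himg := Finset.eq_of_subset_of_card_le hsub hcards
    intro R hR
    have : R ∈ Finset.univ.image f := by
      rw [himg, Finset.mem_erase]
      exact ⟨hR, Finset.mem_univ _⟩
    rw [Finset.mem_image] at this
    obtain ⟨x, -, hx⟩ := this
    exact ⟨x, hx⟩
  -- hence `c` acts trivially
  have hcall : ∀ R : Sylow 11 G, c • R = R := by
    intro R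
    by_cases hR : R = P
    · rw [hR, Sylow.smul_eq_iff_mem_normalizer]
      exact hCN hcC
    · obtain ⟨x, rfl⟩ := htrans R hR
      rw [← mul_smul, ← hcomm x x.2, mul_smul]
      congr 1
      rw [Sylow.smul_eq_iff_mem_normalizer]
      exact hcQ
  -- the kernel of the action
  have hcK : c ∈ (MulAction.toPermHom G (Sylow 11 G)).ker := by
    rw [MonoidHom.mem_ker]
    apply Equiv.Perm.ext
    intro R
    exact hcall R
  have hKne : (MulAction.toPermHom G (Sylow 11 G)).ker ≠ ⊥ := by
    intro h
    rw [h, Subgroup.mem_bot] at hcK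
    exact hc1 hcK
  have h11K := hN _ (MonoidHom.normal_ker _) hKne
  obtain ⟨z, hz⟩ := exists_prime_orderOf_dvd_card' 11 h11K
  have hzo : orderOf (z : G) = 11 := by rw [Subgroup.orderOf_coe]; exact hz
  have hz1 : (z : G) ≠ 1 := by
    intro h
    rw [h, orderOf_one] at hzo
    norm_num at hzo
  have hpz : IsPGroup 11 (Subgroup.zpowers (z : G)) :=
    IsPGroup.of_card (n := 1) (by rw [Nat.card_zpowers, hzo, pow_one])
  have hzall : ∀ R : Sylow 11 G, (R : Subgroup G) = Subgroup.zpowers (z : G) := by
    intro R
    have h1 : (z : G) • R = R := by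
      have := z.2
      rw [MonoidHom.mem_ker] at this
      have h2 := congrArg (fun σ : Equiv.Perm (Sylow 11 G) => σ R) this
      exact h2
    rw [Sylow.smul_eq_iff_mem_normalizer] at h1
    have h2 := (hpz.inf_normalizer_sylow R).le ⟨Subgroup.mem_zpowers _, h1⟩
    exact eq_zpowers R (hcardS R) h2.2 hz1
  have hsub : Subsingleton (Sylow 11 G) := by
    refine ⟨fun R S => ?_⟩
    apply Sylow.ext
    rw [hzall R, hzall S]
  have : Nat.card (Sylow 11 G) ≤ 1 := Finite.card_le_one_iff_subsingleton.mpr hsub
  omega

end Cfsg.Agent.Lib.Helper61_S2490_D2
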