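import Mathlib

/-!
S4472-CRT (helper74's market): a simultaneous solution of `k ≡ m (mod p^e)`, `k ≡ 1 (mod q)` prime to `q p^e`.
-/

set_option autoImplicit false

namespace Cfsg.Agent.Lib.Helper61_S4472_CRT

theorem crt (p : ℕ) (hp : p.Prime) (q e m : ℕ) (hq : q.Coprime p) (hm : m.Coprime p) :
    ∃ k : ℕ, k ≡ m [MOD p ^ e] ∧ k ≡ 1 [MOD q] ∧ k.Coprime (q * p ^ e) := by
  have hcop : (p ^ e).Coprime q := (hq.symm).pow_left e
  obtain ⟨k, hk1, hk2⟩ := Nat.chineseRemainder hcop m 1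
  refine ⟨k, hk1, hk2, ?_⟩
  apply Nat.Coprime.mul_right
  · have h := hk2.gcd_eq
    rw [Nat.gcd_one_left] at h
    exact h
  · rcases Nat.eq_zero_or_pos e with he | he
    · rw [he, pow_zero]
      exact Nat.coprime_one_right k
    · apply Nat.Coprime.pow_right
      have h1 : k ≡ m [MOD p] := Nat.ModEq.of_dvd (dvd_pow_self p (by omega)) hk1
      have h := h1.gcd_eq
      rw [show Nat.gcd m p = 1 from hm] at h
      exact h

end Cfsg.Agent.Lib.Helper61_S4472_CRT
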