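import Mathlib

/-!
S4472-TGRP (helper74's market): `T = Q ⊔ P` with `P ≤ N(Q)`, `P` a `p`-group, `|Q|` prime to `p`: `Q` is a normal
Hall subgroup of `T`, `T ⧸ Q` is a `p`-group and `|T| = |Q| p^e`.
-/

set_option autoImplicit false

namespace Cfsg.Agent.Lib.Helper61_S4472_TGRP

theorem tgrp_normal {G : Type*} [Group G] (Q P : Subgroup G)
    (hPQ : P ≤ Subgroup.normalizer (Q : Set G)) : (Q.subgroupOf (Q ⊔ P)).Normal := by
  rw [Subgroup.normal_subgroupOf_iff_le_normalizer le_sup_left]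
  exact sup_le Subgroup.le_normalizer hPQ

theorem tgrp {G : Type*} [Group G] [Finite G] (p : ℕ) [Fact p.Prime] (Q P : Subgroup G)
    (hQ : (Nat.card Q).Coprime p) (hP : IsPGroup p P)
    [hn : (Q.subgroupOf (Q ⊔ P)).Normal] :
    Group.IsSolvable (↥(Q ⊔ P) ⧸ Q.subgroupOf (Q ⊔ P)) ∧
    (Nat.card (Q.subgroupOf (Q ⊔ P))).Coprime (Q.subgroupOf (Q ⊔ P)).index ∧
    ∃ e : ℕ, Nat.card ↥(Q ⊔ P) = Nat.card Q * p ^ e := by
  set T : Subgroup G := Q ⊔ P with hT
  set Q' : Subgroup ↥T := Q.subgroupOf T with hQ'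
  set P' : Subgroup ↥T := P.subgroupOf T with hP'
  have hPp : IsPGroup p ↥P' := hP.comap_subtype (K := T)
  have h1 : Q' ⊔ P' = ⊤ := by
    rw [hQ', hP', ← Subgroup.subgroupOf_sup (le_sup_left : Q ≤ T) (le_sup_right : P ≤ T)]
    exact Subgroup.subgroupOf_self T
  have h2 : P'.map (QuotientGroup.mk' Q') = ⊤ := by
    have h3 : (Q' ⊔ P').map (QuotientGroup.mk' Q') = ⊤ := by
      rw [h1, ← MonoidHom.range_eq_map, MonoidHom.range_eq_top]
      exact QuotientGroup.mk'_surjective _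
    rwa [Subgroup.map_sup, QuotientGroup.map_mk'_self, bot_sup_eq] at h3
  have hquot : IsPGroup p (↥T ⧸ Q') := by
    have h4 : IsPGroup p ↥(P'.map (QuotientGroup.mk' Q')) := hPp.map _
    rw [h2] at h4
    exact h4.of_equiv Subgroup.topEquiv
  obtain ⟨e, he⟩ := IsPGroup.iff_card.mp hquot
  have hidx : Q'.index = p ^ e := by rw [Subgroup.index_eq_card]; exact he
  have hcardQ : Nat.card Q' = Nat.card Q :=
    Nat.card_congr (Subgroup.subgroupOfEquivOfLe (le_sup_left : Q ≤ T)).toEquiv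
  refine ⟨?_, ?_, e, ?_⟩
  · have : Group.IsNilpotent (↥T ⧸ Q') := hquot.isNilpotent
    infer_instance
  · rw [hidx, hcardQ]
    exact Nat.Coprime.pow_right e hQ
  · rw [← Subgroup.card_mul_index Q', hidx, hcardQ]

end Cfsg.Agent.Lib.Helper61_S4472_TGRP
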