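import Mathlib
import Cfsg.Agent.Lib.Helper5_Transv
import Cfsg.Agent.Lib.Helper44_PSLnUT
import Cfsg.Agent.Lib.Helper44_PSLnTv
import Cfsg.Agent.Lib.Helper88_PSLnFusDefs

/-!
# S5163 package CQ_1 (helper61, for architect helper88)

`C_{PSL}(Pt (e 0)) ≤ UTbar`: an element of `PSL_{m+3}(F)` centralising all images of
transvections with centre `e 0` lies in the image of the unitriangular group.

Reusable:
* `proj_mem_UTbar_of_scalar_diag`: `g ∈ SL_n` upper triangular with constant diagonal has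
  `proj g ∈ UTbar`;
* `conj_tvP`: `proj g * tvP v φ * (proj g)⁻¹ = tvP (g v) (φ g⁻¹)`.
-/

set_option autoImplicit false

namespace Cfsg.Agent.Lib.Helper61_S5163_CQ_1

open Matrix Cfsg.Agent.Lib.Helper5_Transv Cfsg.Agent.Lib.Helper44_PSLnUT
  Cfsg.Agent.Lib.Helper44_PSLnTv Cfsg.Agent.Lib.Helper88_PSLnFus

variable {F : Type*} [Field F]

/-- an upper triangular element of `SL_n` with constant diagonal maps into `UTbar` -/
theorem proj_mem_UTbar_of_scalar_diag {n : ℕ} (g : SpecialLinearGroup (Fin n) F) (a : F)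
    (hlow : ∀ i j : Fin n, j < i → g.1 i j = 0) (hdiag : ∀ i, g.1 i i = a) :
    proj g ∈ UTbar n F := by
  have hdet : a ^ n = 1 := by
    have h1 : g.1.det = 1 := g.2
    rw [Matrix.det_of_isUpperTriangular (M := g.1) (fun i j hij => hlow i j hij)] at h1
    simpa [hdiag] using h1
  by_cases hn : n = 0
  · subst hn
    have hg1 : g = 1 := by
      apply Subtype.ext
      ext i
      exact i.elim0
    rw [hg1, map_one]
    exact (UTbar 0 F).one_mem
  have ha : a ≠ 0 := by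
    rintro rfl
    rw [zero_pow hn] at hdet
    exact zero_ne_one hdet
  have hUT : IsUT (a⁻¹ • g.1) := by
    refine ⟨fun i j hij => ?_, fun i => ?_⟩
    · rw [Matrix.smul_apply, hlow i j hij, smul_zero]
    · rw [Matrix.smul_apply, hdiag i, smul_eq_mul, inv_mul_cancel₀ ha]
  let u : SpecialLinearGroup (Fin n) F := ⟨a⁻¹ • g.1, hUT.det⟩
  have hu : u ∈ UT n F := hUT
  refine ⟨u, hu, ?_⟩
  show proj u = proj g
  apply QuotientGroup.eq.mpr
  rw [Matrix.SpecialLinearGroup.mem_center_iff]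
  refine ⟨a, by rw [Fintype.card_fin]; exact hdet, ?_⟩
  have h2 : g.1 = u.1 * Matrix.scalar (Fin n) a := by
    show g.1 = (a⁻¹ • g.1) * Matrix.scalar (Fin n) a
    rw [Matrix.smul_mul, ← Matrix.mul_smul]
    ext i j
    simp [Matrix.mul_apply, Matrix.diagonal_apply, ha]
  have h3 : (u⁻¹ * g).1 = (u⁻¹).1 * g.1 := rfl
  have h4 : (u⁻¹).1 * u.1 = 1 := congrArg Subtype.val (inv_mul_cancel u)
  rw [h3, h2, ← Matrix.mul_assoc, h4, Matrix.one_mul]

/-- conjugating a transvection image -/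
theorem conj_tvP {n : ℕ} (g : SpecialLinearGroup (Fin n) F) (v φ : Fin n → F) (h : φ ⬝ᵥ v = 0) :
    proj g * tvP v φ h * (proj g)⁻¹
      = tvP (g.1 *ᵥ v) (φ ᵥ* (g⁻¹).1) ((conj_dot g v φ).trans h) := by
  unfold tvP
  rw [← map_inv, ← map_mul, ← map_mul, conj_tvS]

theorem e_dot_e_ne {n : ℕ} {i j : Fin n} (hij : i ≠ j) :
    (e i : Fin n → F) ⬝ᵥ (e j : Fin n → F) = 0 := by
  rw [e_dot]
  simp [e, hij]

/-- **CQ-1**  `C_{PSL}(Pt (e 0)) ≤ UTbar`. -/
theorem CQ_1 (m : ℕ) (g : SpecialLinearGroup (Fin (m + 3)) F)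
    (h : ∀ q ∈ Pt (e (0 : Fin (m + 3)) : Fin (m + 3) → F), proj g * q = q * proj g) :
    proj g ∈ UTbar (m + 3) F := by
  have hn : 3 ≤ m + 3 := by omega
  -- the basic matrix identity for every `j ≠ 0`
  have key : ∀ j : Fin (m + 3), j ≠ 0 → ∀ i l : Fin (m + 3),
      g.1 i 0 * (g⁻¹).1 j l = (if i = 0 then 1 else 0) * (if l = j then 1 else 0) := by
    intro j hj i l
    have hj0 : (e j : Fin (m + 3) → F) ⬝ᵥ (e (0 : Fin (m + 3)) : Fin (m + 3) → F) = 0 :=
      e_dot_e_ne hj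
    have h1 := h _ (tvP_mem_Pt (e (0 : Fin (m + 3)) : Fin (m + 3) → F) (e j) hj0)
    have h2 : proj g * tvP (e (0 : Fin (m + 3)) : Fin (m + 3) → F) (e j) hj0 * (proj g)⁻¹
        = tvP (e (0 : Fin (m + 3)) : Fin (m + 3) → F) (e j) hj0 := by
      rw [h1, mul_inv_cancel_right]
    rw [conj_tvP, tvP_eq_iff hn] at h2
    have h3 := congrFun (congrFun h2 i) l
    simp only [vecMulVec_apply] at h3
    have e1 : (g.1 *ᵥ (e (0 : Fin (m + 3)) : Fin (m + 3) → F)) i = g.1 i 0 := by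
      simp [e]
    have e2 : ((e j : Fin (m + 3) → F) ᵥ* (g⁻¹).1) l = (g⁻¹).1 j l := by
      simp [e]
    rw [e1, e2] at h3
    rw [h3]
    simp [e, Pi.single_apply]
  set a : F := g.1 0 0 with ha
  have h10 : (1 : Fin (m + 3)) ≠ 0 := by
    intro h
    have := congrArg Fin.val h
    simp at this
  -- `a * g⁻¹ j j = 1`
  have hinv : ∀ j : Fin (m + 3), j ≠ 0 → a * (g⁻¹).1 j j = 1 := by
    intro j hj
    have := key j hj 0 j
    simpa using this
  have ha0 : a ≠ 0 := by
    intro h0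
    have := hinv 1 h10
    rw [h0, zero_mul] at this
    exact zero_ne_one this
  -- column `0` of `g`
  have hcol : ∀ i : Fin (m + 3), i ≠ 0 → g.1 i 0 = 0 := by
    intro i hi
    have h1 := key 1 h10 i 1
    rw [if_neg hi, zero_mul] at h1
    have h2 : (g⁻¹).1 1 1 ≠ 0 := by
      intro h0
      have := hinv 1 h10
      rw [h0, mul_zero] at this
      exact zero_ne_one this
    exact (mul_eq_zero.mp h1).resolve_right h2
  -- rows `j ≠ 0` of `g⁻¹`
  have hrowinv : ∀ j l : Fin (m + 3), j ≠ 0 → l ≠ j → (g⁻¹).1 j l = 0 := by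
    intro j l hj hl
    have h1 := key j hj 0 l
    rw [if_neg hl, mul_zero] at h1
    exact (mul_eq_zero.mp h1).resolve_left ha0
  -- rows `j ≠ 0` of `g`
  have hrow : ∀ j l : Fin (m + 3), j ≠ 0 → g.1 j l = if j = l then a else 0 := by
    intro j l hj
    have h1 : ((g⁻¹).1 * g.1) j l = (1 : Matrix (Fin (m + 3)) (Fin (m + 3)) F) j l := by
      have : (g⁻¹).1 * g.1 = 1 := congrArg Subtype.val (inv_mul_cancel g)
      rw [this]
    rw [Matrix.mul_apply, Finset.sum_eq_single j] at h1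
    · have h2 := hinv j hj
      have h3 : g.1 j l = a * ((g⁻¹).1 j j * g.1 j l) := by
        rw [← mul_assoc, h2, one_mul]
      rw [h3, h1, Matrix.one_apply]
      split_ifs <;> simp
    · intro k _ hk
      rw [hrowinv j k hj hk, zero_mul]
    · intro hh
      exact absurd (Finset.mem_univ j) hh
  apply proj_mem_UTbar_of_scalar_diag g a
  · intro i j hij
    have hi : i ≠ 0 := by
      rintro rfl
      exact absurd hij (Fin.not_lt_zero j)
    rw [hrow i j hi, if_neg (ne_of_gt hij)]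
  · intro i
    by_cases hi : i = 0
    · rw [hi]
    · rw [hrow i i hi, if_pos rfl]

end Cfsg.Agent.Lib.Helper61_S5163_CQ_1
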