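import Mathlib
import Cfsg.Agent.Lib.Helper61_SL213Data
import Cfsg.Agent.Lib.Helper61_G22Bridge

/-!
# Helper61_SL213

Coded arithmetic in `SL₂(13)`: an element `!![a, b; c, d]` is coded by the natural number
`a + 13 b + 169 c + 2197 d`; product and inverse on codes, and their correctness.
-/

set_option autoImplicit false

namespace Cfsg.Agent.Lib.Helper61_SL213

open Matrix Cfsg.Agent.Lib.Helper61_SL213Data
open Cfsg.Agent.Lib.Helper61_G22Bridge (frc frc_eq allLt allLt_spec)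

/-- The group `SL₂(13)`. -/
abbrev SL := SpecialLinearGroup (Fin 2) (ZMod 13)

def ca (k : ℕ) : ℕ := Nat.mod k 13
def cb (k : ℕ) : ℕ := Nat.mod (Nat.div k 13) 13
def cc (k : ℕ) : ℕ := Nat.mod (Nat.div k 169) 13
def cd (k : ℕ) : ℕ := Nat.mod (Nat.div k 2197) 13

/-- The code of `!![a, b; c, d]`. -/
def mk4 (a b c d : ℕ) : ℕ :=
  Nat.add (Nat.add (Nat.add a (Nat.mul 13 b)) (Nat.mul 169 c)) (Nat.mul 2197 d)

theorem ca_lt (k : ℕ) : ca k < 13 := Nat.mod_lt _ (by norm_num)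
theorem cb_lt (k : ℕ) : cb k < 13 := Nat.mod_lt _ (by norm_num)
theorem cc_lt (k : ℕ) : cc k < 13 := Nat.mod_lt _ (by norm_num)
theorem cd_lt (k : ℕ) : cd k < 13 := Nat.mod_lt _ (by norm_num)

theorem mk4_eq (a b c d : ℕ) : mk4 a b c d = a + 13 * b + 169 * c + 2197 * d := rfl

theorem ca_mk4 {a b c d : ℕ} (ha : a < 13) : ca (mk4 a b c d) = a := by
  show (mk4 a b c d) % 13 = a
  rw [mk4_eq]; omega

theorem cb_mk4 {a b c d : ℕ} (ha : a < 13) (hb : b < 13) : cb (mk4 a b c d) = b := by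
  show (mk4 a b c d) / 13 % 13 = b
  rw [mk4_eq]; omega

theorem cc_mk4 {a b c d : ℕ} (ha : a < 13) (hb : b < 13) (hc : c < 13) :
    cc (mk4 a b c d) = c := by
  show (mk4 a b c d) / 169 % 13 = c
  rw [mk4_eq]; omega

theorem cd_mk4 {a b c d : ℕ} (ha : a < 13) (hb : b < 13) (hc : c < 13) (hd : d < 13) :
    cd (mk4 a b c d) = d := by
  show (mk4 a b c d) / 2197 % 13 = d
  rw [mk4_eq]; omega

/-- The decoded matrix. -/
def decM (k : ℕ) : Matrix (Fin 2) (Fin 2) (ZMod 13) :=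
  !![(ca k : ZMod 13), (cb k : ZMod 13); (cc k : ZMod 13), (cd k : ZMod 13)]

/-- The product on codes. -/
def mulC (x y : ℕ) : ℕ :=
  frc x fun x => frc y fun y =>
    mk4 (Nat.mod (Nat.add (Nat.mul (ca x) (ca y)) (Nat.mul (cb x) (cc y))) 13)
      (Nat.mod (Nat.add (Nat.mul (ca x) (cb y)) (Nat.mul (cb x) (cd y))) 13)
      (Nat.mod (Nat.add (Nat.mul (cc x) (ca y)) (Nat.mul (cd x) (cc y))) 13)
      (Nat.mod (Nat.add (Nat.mul (cc x) (cb y)) (Nat.mul (cd x) (cd y))) 13)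

theorem mulC_eq (x y : ℕ) : mulC x y =
    mk4 ((ca x * ca y + cb x * cc y) % 13) ((ca x * cb y + cb x * cd y) % 13)
      ((cc x * ca y + cd x * cc y) % 13) ((cc x * cb y + cd x * cd y) % 13) := rfl

/-- The inverse on codes (the adjugate). -/
def invC (x : ℕ) : ℕ :=
  frc x fun x => mk4 (cd x) (Nat.mod (Nat.sub 13 (cb x)) 13) (Nat.mod (Nat.sub 13 (cc x)) 13) (ca x)

theorem invC_eq (x : ℕ) : invC x = mk4 (cd x) ((13 - cb x) % 13) ((13 - cc x) % 13) (ca x) := rfl

/-- The code of the identity. -/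
def one : ℕ := 2198

theorem decM_mk4 {a b c d : ℕ} (ha : a < 13) (hb : b < 13) (hc : c < 13) (hd : d < 13) :
    decM (mk4 a b c d) = !![(a : ZMod 13), (b : ZMod 13); (c : ZMod 13), (d : ZMod 13)] := by
  unfold decM
  rw [ca_mk4 ha, cb_mk4 ha hb, cc_mk4 ha hb hc, cd_mk4 ha hb hc hd]

theorem decM_mulC (x y : ℕ) : decM (mulC x y) = decM x * decM y := by
  rw [mulC_eq, decM_mk4 (Nat.mod_lt _ (by norm_num)) (Nat.mod_lt _ (by norm_num))
    (Nat.mod_lt _ (by norm_num)) (Nat.mod_lt _ (by norm_num))]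
  unfold decM
  rw [Matrix.mul_fin_two]
  simp only [ZMod.natCast_mod, Nat.cast_add, Nat.cast_mul]

theorem decM_one : decM one = 1 := by
  have h : one = mk4 1 0 0 1 := rfl
  rw [h, decM_mk4 (by norm_num) (by norm_num) (by norm_num) (by norm_num)]
  simp [Matrix.one_fin_two]

theorem decM_invC (x : ℕ) : decM (invC x) = adjugate (decM x) := by
  rw [invC_eq, decM_mk4 (cd_lt x) (Nat.mod_lt _ (by norm_num)) (Nat.mod_lt _ (by norm_num))
    (ca_lt x)]
  unfold decM
  rw [Matrix.adjugate_fin_two_of]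
  have h1 : ∀ n : ℕ, n < 13 → (((13 - n) % 13 : ℕ) : ZMod 13) = -(n : ZMod 13) := by
    intro n hn
    rw [ZMod.natCast_mod, Nat.cast_sub (le_of_lt hn)]
    have : ((13 : ℕ) : ZMod 13) = 0 := by decide
    rw [this, zero_sub]
  rw [h1 _ (cb_lt x), h1 _ (cc_lt x)]

/-- Valid codes. -/
@[reducible] def Ok (k : ℕ) : Prop := (decM k).det = 1

/-- The decoded group element. -/
noncomputable def decS (k : ℕ) : SL := by
  classical exact if h : (decM k).det = 1 then (⟨decM k, h⟩ : SL) else 1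

theorem coe_decS {k : ℕ} (h : Ok k) : (decS k).1 = decM k := by
  have h1 : decS k = (⟨decM k, h⟩ : SL) := dif_pos h
  rw [h1]

theorem ok_one : Ok one := by
  unfold Ok
  rw [decM_one, det_one]

theorem decS_one : decS one = 1 := by
  have h : (decS one).1 = 1 := by
    rw [coe_decS ok_one, decM_one]
  exact Subtype.ext h

theorem ok_mul {x y : ℕ} (hx : Ok x) (hy : Ok y) : Ok (mulC x y) := by
  unfold Ok at *
  rw [decM_mulC, det_mul, hx, hy, one_mul]

theorem decS_mul {x y : ℕ} (hx : Ok x) (hy : Ok y) : decS (mulC x y) = decS x * decS y := by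
  have h : (decS (mulC x y)).1 = (decS x).1 * (decS y).1 := by
    rw [coe_decS (ok_mul hx hy), coe_decS hx, coe_decS hy, decM_mulC]
  exact Subtype.ext h

theorem ok_inv {x : ℕ} (hx : Ok x) : Ok (invC x) := by
  unfold Ok at *
  rw [decM_invC, det_adjugate, hx]
  simp

theorem decS_inv {x : ℕ} (hx : Ok x) : decS (invC x) = (decS x)⁻¹ := by
  have h : (decS (invC x)).1 = adjugate (decS x).1 := by
    rw [coe_decS (ok_inv hx), coe_decS hx, decM_invC]
  exact Subtype.ext h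

/-- Validity check. -/
def isSL (x : ℕ) : Bool :=
  Nat.beq (Nat.mod (Nat.mul (ca x) (cd x)) 13) (Nat.mod (Nat.add (Nat.mul (cb x) (cc x)) 1) 13)

theorem ok_iff_mod (x : ℕ) : Ok x ↔ (ca x * cd x) % 13 = (cb x * cc x + 1) % 13 := by
  unfold Ok decM
  rw [Matrix.det_fin_two_of]
  have h : (ca x * cd x) % 13 = (cb x * cc x + 1) % 13 ↔
      ((ca x * cd x : ℕ) : ZMod 13) = ((cb x * cc x + 1 : ℕ) : ZMod 13) :=
    (ZMod.natCast_eq_natCast_iff' _ _ 13).symm
  rw [h]
  push_cast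
  constructor
  · intro h1; linear_combination h1
  · intro h1; linear_combination h1

theorem ok_of_isSL {x : ℕ} (h : isSL x = true) : Ok x :=
  (ok_iff_mod x).2 (Nat.eq_of_beq_eq_true h)

theorem isSL_of_ok {x : ℕ} (h : Ok x) : isSL x = true := by
  have := (ok_iff_mod x).1 h
  unfold isSL
  show Nat.beq ((ca x * cd x) % 13) ((cb x * cc x + 1) % 13) = true
  rw [this]
  exact Nat.beq_refl _

/-- The code of an element. -/
def enc (g : SL) : ℕ :=
  mk4 (g.1 0 0).val (g.1 0 1).val (g.1 1 0).val (g.1 1 1).val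

theorem enc_lt (g : SL) : enc g < 28561 := by
  have h1 := ZMod.val_lt (g.1 0 0)
  have h2 := ZMod.val_lt (g.1 0 1)
  have h3 := ZMod.val_lt (g.1 1 0)
  have h4 := ZMod.val_lt (g.1 1 1)
  unfold enc
  rw [mk4_eq]
  omega

theorem decM_enc (g : SL) : decM (enc g) = g.1 := by
  unfold enc
  rw [decM_mk4 (ZMod.val_lt _) (ZMod.val_lt _) (ZMod.val_lt _) (ZMod.val_lt _)]
  simp only [ZMod.natCast_zmod_val]
  exact (Matrix.eta_fin_two g.1).symm

theorem ok_enc (g : SL) : Ok (enc g) := by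
  unfold Ok
  rw [decM_enc]
  exact g.2

theorem decS_enc (g : SL) : decS (enc g) = g := by
  have h : (decS (enc g)).1 = g.1 := by
    rw [coe_decS (ok_enc g), decM_enc]
  exact Subtype.ext h

end Cfsg.Agent.Lib.Helper61_SL213
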