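import Mathlib
import Cfsg.Agent.Lib.Helper61_SL213

/-!
# Helper61_SL213Chk

Access to the packed certificate data `Helper61_SL213Data` of the subgroup lattice of `SL₂(13)`,
the boolean checks, and their verification by `decide +kernel`.
-/

set_option autoImplicit false

namespace Cfsg.Agent.Lib.Helper61_SL213Chk

open Cfsg.Agent.Lib.Helper61_SL213Data Cfsg.Agent.Lib.Helper61_SL213
open Cfsg.Agent.Lib.Helper61_G22Bridge (frc frc_eq allLt allLt_spec)

/-- Bit test. -/
def tb (m k : ℕ) : Bool := Nat.beq (Nat.land (Nat.shiftRight m k) 1) 1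

/-- Generator `s` of class `i`. -/
def gen (i s : ℕ) : ℕ :=
  Nat.land (Nat.shiftRight GENS (Nat.mul 15 (Nat.add (Nat.mul 2 i) s))) 32767

def MASKB : ℕ := Nat.sub (Nat.shiftLeft 1 28561) 1

/-- The bitmap of class `i`. -/
def bm (i : ℕ) : ℕ := Nat.land (Nat.shiftRight BITS (Nat.mul 28561 i)) MASKB

def toff (i : ℕ) : ℕ := Nat.land (Nat.shiftRight TOFF (Nat.mul 16 i)) 65535
def tsz (i : ℕ) : ℕ := Nat.sub (toff (Nat.add i 1)) (toff i)
def tent (i m : ℕ) : ℕ :=
  Nat.land (Nat.shiftRight TREE (Nat.mul 32 (Nat.add (toff i) m))) 4294967295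
def tx (e : ℕ) : ℕ := Nat.land e 32767
def tp (e : ℕ) : ℕ := Nat.land (Nat.shiftRight e 15) 32767
def ts (e : ℕ) : ℕ := Nat.shiftRight e 30

def coff (i : ℕ) : ℕ := Nat.land (Nat.shiftRight COFF (Nat.mul 16 i)) 65535
def nreps (i : ℕ) : ℕ := Nat.sub (coff (Nat.add i 1)) (coff i)
def MASKC : ℕ := Nat.sub (Nat.shiftLeft 1 168) 1
def cert (i n : ℕ) : ℕ :=
  Nat.land (Nat.shiftRight CERTS (Nat.mul 168 (Nat.add (coff i) n))) MASKC
def ct (e : ℕ) : ℕ := Nat.land e 32767
def ccj (e : ℕ) : ℕ := Nat.land (Nat.shiftRight e 15) 32767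
def cj (e : ℕ) : ℕ := Nat.land (Nat.shiftRight e 30) 31
def cw0 (e : ℕ) : ℕ := Nat.land (Nat.shiftRight e 40) 18446744073709551615
def cw1 (e : ℕ) : ℕ := Nat.land (Nat.shiftRight e 104) 18446744073709551615

def nj (i : ℕ) : ℕ := Nat.land (Nat.shiftRight NORM (Nat.mul 32 i)) 31
def nd (i : ℕ) : ℕ := Nat.land (Nat.shiftRight NORM (Nat.add (Nat.mul 32 i) 5)) 32767

/-- One of two. -/
def pick (g0 g1 s : ℕ) : ℕ := Nat.rec (motive := fun _ => ℕ) g0 (fun _ _ => g1) s

/-- The spanning tree check: entries `n - 1, …, 0`. -/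
def treeLoop (i B g0 g1 : ℕ) (n acc : ℕ) : Bool :=
  Nat.rec (motive := fun _ => ℕ → Bool) (fun acc => Nat.beq acc B)
    (fun k ih acc => frc (tent i k) fun e => frc (tx e) fun x => frc (tp e) fun p =>
      tb acc p && Nat.beq (mulC (pick g0 g1 (ts e)) p) x &&
        frc (Nat.lor acc (Nat.shiftLeft 1 x)) ih) n acc

def treeOK (i : ℕ) : Bool :=
  treeLoop i (bm i) (gen i 0) (gen i 1) (tsz i) (Nat.shiftLeft 1 one)

def gensOK (i : ℕ) : Bool := isSL (gen i 0) && isSL (gen i 1)

/-- Accumulated disjunction. -/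
def orAcc (n : ℕ) (f : ℕ → ℕ) (acc : ℕ) : ℕ :=
  Nat.rec (motive := fun _ => ℕ → ℕ) (fun acc => acc)
    (fun k ih acc => frc (Nat.lor acc (f k)) ih) n acc

/-- `2 ^ x` if bit `r` of `B` is set, else `0`. -/
def bitIf (B r x : ℕ) : ℕ :=
  Nat.rec (motive := fun _ => ℕ) 0 (fun _ _ => Nat.shiftLeft 1 x) (Nat.land (Nat.shiftRight B r) 1)

/-- The products `r t` with `r` in the tree of class `i` and `t` a coset representative. -/
def cover (i : ℕ) : ℕ :=
  frc (bm i) fun B =>
    orAcc (nreps i) (fun n => frc (ct (cert i n)) fun t =>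
      orAcc (tsz i) (fun m => frc (tx (tent i m)) fun r => bitIf B r (mulC r t))
        (Nat.shiftLeft 1 (mulC one t))) 0

def coverOK (i : ℕ) : Bool := Nat.beq (cover i) KBITS

def kbitsOK (k : ℕ) : Bool := !isSL k || tb KBITS k

/-- The letters of the words. -/
def letter (g0 g1 t ti l : ℕ) : ℕ :=
  Nat.rec (motive := fun _ => ℕ) g0 (fun l1 _ => Nat.rec (motive := fun _ => ℕ) g1
    (fun l2 _ => Nat.rec (motive := fun _ => ℕ) t (fun _ _ => ti) l2) l1) l

/-- Evaluation of a packed word. -/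
def evalW (g0 g1 t ti : ℕ) (fuel w : ℕ) : ℕ :=
  Nat.rec (motive := fun _ => ℕ → ℕ) (fun _ => one)
    (fun _ ih w => Nat.rec (motive := fun _ => ℕ) one
      (fun _ _ => mulC (letter g0 g1 t ti (Nat.land w 3)) (frc (Nat.shiftRight w 2) ih))
      (Nat.sub w 1)) fuel w

/-- The certificate `closure (R_i ∪ {t}) = c R_j c⁻¹`. -/
def certOK (i n : ℕ) : Bool :=
  frc (cert i n) fun e => frc (ct e) fun t => frc (ccj e) fun c => frc (cj e) fun j =>
  frc (invC c) fun ci => frc (invC t) fun ti => frc (gen i 0) fun g0 => frc (gen i 1) fun g1 =>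
  frc (bm j) fun B =>
    isSL t && isSL c && Nat.ble (Nat.add j 1) 21 &&
    tb B (mulC (mulC ci g0) c) && tb B (mulC (mulC ci g1) c) && tb B (mulC (mulC ci t) c) &&
    Nat.beq (evalW g0 g1 t ti 32 (cw0 e)) (mulC (mulC c (gen j 0)) ci) &&
    Nat.beq (evalW g0 g1 t ti 32 (cw1 e)) (mulC (mulC c (gen j 1)) ci)

def certsOK (i : ℕ) : Bool := allLt (nreps i) (certOK i)

/-- Class `j` is maximal or everything. -/
def maxOK (j : ℕ) : Bool :=
  allLt (nreps j) fun n => frc (cert j n) fun e => Nat.beq (ct e) one || Nat.beq (cj e) 20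

/-- The normaliser data. -/
def normOK (i : ℕ) : Bool :=
  frc (nj i) fun j => frc (nd i) fun d => frc (invC d) fun di => frc (bm i) fun B =>
  frc (gen i 0) fun g0 => frc (gen i 1) fun g1 =>
    isSL d && Nat.ble (Nat.add j 1) 21 &&
    (allLt 2 fun s => frc (mulC (mulC d (gen j s)) di) fun y => frc (invC y) fun yi =>
      tb B (mulC (mulC y g0) yi) && tb B (mulC (mulC y g1) yi) &&
      tb B (mulC (mulC yi g0) y) && tb B (mulC (mulC yi g1) y)) &&
    maxOK j

set_option maxRecDepth 100000 in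
theorem gens_ok : allLt 21 gensOK = true := by decide +kernel

set_option maxRecDepth 100000 in
theorem tree_ok : allLt 21 treeOK = true := by decide +kernel

set_option maxRecDepth 100000 in
theorem kbits_ok : allLt 28561 kbitsOK = true := by decide +kernel

set_option maxRecDepth 100000 in
theorem norm_ok : allLt 21 normOK = true := by decide +kernel

set_option maxRecDepth 100000 in
set_option maxHeartbeats 4000000 in
theorem cover_ok : allLt 21 coverOK = true := by decide +kernel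

set_option maxRecDepth 100000 in
set_option maxHeartbeats 4000000 in
theorem certs_ok : allLt 21 certsOK = true := by decide +kernel

end Cfsg.Agent.Lib.Helper61_SL213Chk
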