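import Mathlib
import Cfsg.Agent.Lib.Helper61_SL213Chk
import Cfsg.Agent.Lib.Helper61_Lattice

/-!
# Helper61_SL213Main

Soundness of the certificate checks of `Helper61_SL213Chk`: the `21` subgroups `R i` of `SL₂(13)`
represent all conjugacy classes of subgroups, and every non-normal subgroup has a maximal
normaliser.
-/

set_option autoImplicit false

namespace Cfsg.Agent.Lib.Helper61_SL213Main

open Subgroup Cfsg.Agent.Lib.Helper61_SL213 Cfsg.Agent.Lib.Helper61_SL213Chk
  Cfsg.Agent.Lib.Helper61_Lattice Cfsg.Agent.Lib.Helper61_SL213Data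
open Cfsg.Agent.Lib.Helper61_G22Bridge (frc frc_eq allLt allLt_spec)

/-! ### Bits -/

theorem tb_eq (m k : ℕ) : tb m k = Nat.testBit m k := by
  have h1 : Nat.land (Nat.shiftRight m k) 1 = m / 2 ^ k % 2 := by
    show (m >>> k) &&& 1 = _
    rw [Nat.and_one_is_mod, Nat.shiftRight_eq_div_pow]
  unfold tb
  rw [h1, Nat.testBit_eq_decide_div_mod_eq]
  rcases Nat.mod_two_eq_zero_or_one (m / 2 ^ k) with h | h <;> rw [h] <;> rfl

theorem tb_lor {a b k : ℕ} (h : tb (Nat.lor a b) k = true) : tb a k = true ∨ tb b k = true := by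
  rw [tb_eq] at h ⊢
  rw [tb_eq]
  have h' : (a ||| b).testBit k = true := h
  rw [Nat.testBit_or, Bool.or_eq_true] at h'
  exact h'

theorem tb_shift {x k : ℕ} (h : tb (Nat.shiftLeft 1 x) k = true) : k = x := by
  rw [tb_eq] at h
  have h' : (1 <<< x).testBit k = true := h
  rw [Nat.one_shiftLeft, Nat.testBit_two_pow] at h'
  exact (of_decide_eq_true h').symm

theorem tb_zero (k : ℕ) : tb 0 k = false := by
  rw [tb_eq]
  exact Nat.zero_testBit k

/-! ### The membership predicate -/

/-- `k` is a valid code of an element of `L`. -/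
def P (L : Subgroup SL) (k : ℕ) : Prop := Ok k ∧ decS k ∈ L

theorem P_one (L : Subgroup SL) : P L one := ⟨ok_one, by rw [decS_one]; exact one_mem L⟩

theorem P_mul {L : Subgroup SL} {x y : ℕ} (hx : P L x) (hy : P L y) : P L (mulC x y) :=
  ⟨ok_mul hx.1 hy.1, by rw [decS_mul hx.1 hy.1]; exact mul_mem hx.2 hy.2⟩

theorem P_inv {L : Subgroup SL} {x : ℕ} (hx : P L x) : P L (invC x) :=
  ⟨ok_inv hx.1, by rw [decS_inv hx.1]; exact inv_mem hx.2⟩

theorem P_mono {L L' : Subgroup SL} (h : L ≤ L') {x : ℕ} (hx : P L x) : P L' x :=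
  ⟨hx.1, h hx.2⟩

theorem P_pick {L : Subgroup SL} {g0 g1 : ℕ} (h0 : P L g0) (h1 : P L g1) (s : ℕ) :
    P L (pick g0 g1 s) := by
  cases s with
  | zero => exact h0
  | succ s => exact h1

/-! ### The representatives -/

/-- The representative of class `i`. -/
noncomputable def R (i : ℕ) : Subgroup SL := closure {decS (gen i 0), decS (gen i 1)}

theorem ok_gen {i : ℕ} (hi : i < 21) : Ok (gen i 0) ∧ Ok (gen i 1) := by
  have h := allLt_spec _ _ gens_ok i hi
  simp only [gensOK, Bool.and_eq_true] at h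
  exact ⟨ok_of_isSL h.1, ok_of_isSL h.2⟩

theorem P_gen {i : ℕ} (hi : i < 21) : P (R i) (gen i 0) ∧ P (R i) (gen i 1) :=
  ⟨⟨(ok_gen hi).1, subset_closure (by simp)⟩, ⟨(ok_gen hi).2, subset_closure (by simp)⟩⟩

theorem treeLoop_sound (L : Subgroup SL) (i B g0 g1 : ℕ) (h0 : P L g0) (h1 : P L g1) :
    ∀ n acc, (∀ k, tb acc k = true → P L k) → treeLoop i B g0 g1 n acc = true →
      ∀ k, tb B k = true → P L k := by
  intro n
  induction n with
  | zero =>
    intro acc hacc h
    have h' : acc = B := Nat.eq_of_beq_eq_true h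
    rw [← h']
    exact hacc
  | succ n ih =>
    intro acc hacc h
    have h' : (tb acc (tp (tent i n)) &&
        Nat.beq (mulC (pick g0 g1 (ts (tent i n))) (tp (tent i n))) (tx (tent i n)) &&
        treeLoop i B g0 g1 n (Nat.lor acc (Nat.shiftLeft 1 (tx (tent i n))))) = true := h
    rw [Bool.and_eq_true, Bool.and_eq_true] at h'
    obtain ⟨⟨ha, hb⟩, hc⟩ := h'
    apply ih _ _ hc
    intro k hk
    rcases tb_lor hk with hk | hk
    · exact hacc k hk
    · rw [tb_shift hk, ← Nat.eq_of_beq_eq_true hb]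
      exact P_mul (P_pick h0 h1 _) (hacc _ ha)

theorem bm_sound {i : ℕ} (hi : i < 21) : ∀ k, tb (bm i) k = true → P (R i) k := by
  have h := allLt_spec _ _ tree_ok i hi
  apply treeLoop_sound (R i) i (bm i) (gen i 0) (gen i 1) (P_gen hi).1 (P_gen hi).2 _ _ _ h
  intro k hk
  rw [tb_shift hk]
  exact P_one _

/-! ### Coverage -/

theorem tb_orAcc (f : ℕ → ℕ) (k : ℕ) : ∀ n acc, tb (orAcc n f acc) k = true →
    tb acc k = true ∨ ∃ m < n, tb (f m) k = true := by
  intro n
  induction n with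
  | zero =>
    intro acc h
    exact Or.inl h
  | succ n ih =>
    intro acc h
    have h' : tb (orAcc n f (Nat.lor acc (f n))) k = true := h
    rcases ih _ h' with h1 | ⟨m, hm, h1⟩
    · rcases tb_lor h1 with h2 | h2
      · exact Or.inl h2
      · exact Or.inr ⟨n, Nat.lt_succ_self n, h2⟩
    · exact Or.inr ⟨m, Nat.lt_succ_of_lt hm, h1⟩

theorem tb_bitIf {B r x k : ℕ} (h : tb (bitIf B r x) k = true) : tb B r = true ∧ k = x := by
  unfold bitIf at h
  have h1 : Nat.land (Nat.shiftRight B r) 1 = 0 ∨ Nat.land (Nat.shiftRight B r) 1 = 1 := by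
    show (B >>> r) &&& 1 = 0 ∨ (B >>> r) &&& 1 = 1
    rw [Nat.and_one_is_mod]
    exact Nat.mod_two_eq_zero_or_one _
  rcases h1 with h1 | h1
  · rw [h1] at h
    rw [show (Nat.rec (motive := fun _ => ℕ) 0 (fun _ _ => Nat.shiftLeft 1 x) 0 : ℕ) = 0 from rfl,
      tb_zero] at h
    exact absurd h (by simp)
  · rw [h1] at h
    have h2 : tb (Nat.shiftLeft 1 x) k = true := h
    refine ⟨?_, tb_shift h2⟩
    unfold tb
    rw [h1]
    rfl

theorem cover_sound {i : ℕ} (hi : i < 21) (g : SL) :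
    ∃ r n, n < nreps i ∧ P (R i) r ∧ enc g = mulC r (ct (cert i n)) := by
  have hk := allLt_spec _ _ kbits_ok (enc g) (enc_lt g)
  simp only [kbitsOK, isSL_of_ok (ok_enc g), Bool.not_true, Bool.false_or] at hk
  have hc : cover i = KBITS := Nat.eq_of_beq_eq_true (allLt_spec _ _ cover_ok i hi)
  rw [← hc] at hk
  have hk' : tb (orAcc (nreps i) (fun n =>
      orAcc (tsz i) (fun m => bitIf (bm i) (tx (tent i m)) (mulC (tx (tent i m)) (ct (cert i n))))
        (Nat.shiftLeft 1 (mulC one (ct (cert i n))))) 0) (enc g) = true := hk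
  rcases tb_orAcc _ _ _ _ hk' with h1 | ⟨n, hn, h1⟩
  · rw [tb_zero] at h1
    exact absurd h1 (by simp)
  · rcases tb_orAcc _ _ _ _ h1 with h2 | ⟨m, _, h2⟩
    · exact ⟨one, n, hn, P_one _, tb_shift h2⟩
    · obtain ⟨h3, h4⟩ := tb_bitIf h2
      exact ⟨_, n, hn, bm_sound hi _ h3, h4⟩

/-! ### Certificates -/

theorem P_letter {L : Subgroup SL} {g0 g1 t ti : ℕ} (h0 : P L g0) (h1 : P L g1) (h2 : P L t)
    (h3 : P L ti) (l : ℕ) : P L (letter g0 g1 t ti l) := by
  cases l with
  | zero => exact h0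
  | succ l =>
    cases l with
    | zero => exact h1
    | succ l =>
      cases l with
      | zero => exact h2
      | succ l => exact h3

theorem P_evalW {L : Subgroup SL} {g0 g1 t ti : ℕ} (h0 : P L g0) (h1 : P L g1) (h2 : P L t)
    (h3 : P L ti) : ∀ fuel w, P L (evalW g0 g1 t ti fuel w) := by
  intro fuel
  induction fuel with
  | zero => intro w; exact P_one L
  | succ n ih =>
    intro w
    have e : evalW g0 g1 t ti (n + 1) w = Nat.rec (motive := fun _ => ℕ) one
      (fun _ _ => mulC (letter g0 g1 t ti (Nat.land w 3)) (evalW g0 g1 t ti n (Nat.shiftRight w 2)))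
      (Nat.sub w 1) := rfl
    rw [e]
    cases (Nat.sub w 1) with
    | zero => exact P_one L
    | succ u => exact P_mul (P_letter h0 h1 h2 h3 _) (ih _)

theorem mem_conjS_of_P {L : Subgroup SL} {c x : ℕ} (hc : Ok c) (hx : Ok x)
    (h : P L (mulC (mulC (invC c) x) c)) : decS x ∈ conjS (decS c) L := by
  rw [mem_conjS]
  have := h.2
  rwa [decS_mul (ok_mul (ok_inv hc) hx) hc, decS_mul (ok_inv hc) hx, decS_inv hc] at this

theorem cert_sound {i n : ℕ} (hi : i < 21) (hn : n < nreps i) :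
    Ok (ct (cert i n)) ∧ cj (cert i n) < 21 ∧
      Subgroup.closure (insert (decS (ct (cert i n))) (R i : Set SL)) =
        conjS (decS (ccj (cert i n))) (R (cj (cert i n))) := by
  have h := allLt_spec _ _ (allLt_spec _ _ certs_ok i hi) n hn
  simp only [certOK, frc_eq, Bool.and_eq_true] at h
  obtain ⟨⟨⟨⟨⟨⟨⟨ht, hc⟩, hj⟩, hb0⟩, hb1⟩, hb2⟩, hw0⟩, hw1⟩ := h
  set e := cert i n
  have ht := ok_of_isSL ht
  have hc := ok_of_isSL hc
  have hj : cj e < 21 := Nat.le_of_ble_eq_true hj
  obtain ⟨hg0, hg1⟩ := ok_gen hi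
  obtain ⟨hh0, hh1⟩ := ok_gen hj
  refine ⟨ht, hj, ?_⟩
  have m0 := mem_conjS_of_P hc hg0 (bm_sound hj _ hb0)
  have m1 := mem_conjS_of_P hc hg1 (bm_sound hj _ hb1)
  have m2 := mem_conjS_of_P hc ht (bm_sound hj _ hb2)
  apply le_antisymm
  · rw [closure_le, Set.insert_subset_iff]
    refine ⟨m2, ?_⟩
    show R i ≤ _
    unfold R
    rw [closure_le, Set.insert_subset_iff, Set.singleton_subset_iff]
    exact ⟨m0, m1⟩
  · set L := Subgroup.closure (insert (decS (ct e)) (R i : Set SL)) with hL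
    have hRL : R i ≤ L := by
      intro x hx
      exact subset_closure (Set.mem_insert_of_mem _ hx)
    have p0 : P L (gen i 0) := P_mono hRL (P_gen hi).1
    have p1 : P L (gen i 1) := P_mono hRL (P_gen hi).2
    have p2 : P L (ct e) := ⟨ht, subset_closure (Set.mem_insert _ _)⟩
    have p3 : P L (invC (ct e)) := P_inv p2
    have q0 := P_evalW p0 p1 p2 p3 32 (cw0 e)
    have q1 := P_evalW p0 p1 p2 p3 32 (cw1 e)
    rw [Nat.eq_of_beq_eq_true hw0] at q0
    rw [Nat.eq_of_beq_eq_true hw1] at q1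
    have r0 := q0.2
    have r1 := q1.2
    rw [decS_mul (ok_mul hc hh0) (ok_inv hc), decS_mul hc hh0, decS_inv hc] at r0
    rw [decS_mul (ok_mul hc hh1) (ok_inv hc), decS_mul hc hh1, decS_inv hc] at r1
    rw [conjS_le_iff]
    intro x hx
    have hx' : x ∈ Subgroup.closure {decS (gen (cj e) 0), decS (gen (cj e) 1)} := hx
    induction hx' using closure_induction with
    | mem g hg =>
      rcases hg with rfl | rfl
      · exact r0
      · exact r1
    | one => simp
    | mul a b _ _ iha ihb =>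
      have : decS (ccj e) * (a * b) * (decS (ccj e))⁻¹ =
          (decS (ccj e) * a * (decS (ccj e))⁻¹) * (decS (ccj e) * b * (decS (ccj e))⁻¹) := by group
      rw [this]
      exact mul_mem (iha (by assumption)) (ihb (by assumption))
    | inv a _ iha =>
      have : decS (ccj e) * a⁻¹ * (decS (ccj e))⁻¹ = (decS (ccj e) * a * (decS (ccj e))⁻¹)⁻¹ := by
        group
      rw [this]
      exact inv_mem (iha (by assumption))

/-! ### The step of the classification -/

theorem step {i : ℕ} (hi : i < 21) (g : SL) :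
    ∃ r n, n < nreps i ∧ decS r ∈ R i ∧ Ok (ct (cert i n)) ∧ g = decS r * decS (ct (cert i n)) ∧
      Subgroup.closure (insert g (R i : Set SL)) =
        Subgroup.closure (insert (decS (ct (cert i n))) (R i : Set SL)) := by
  obtain ⟨r, n, hn, hr, he⟩ := cover_sound hi g
  obtain ⟨ht, _, _⟩ := cert_sound hi hn
  have hg : g = decS r * decS (ct (cert i n)) := by
    rw [← decS_mul hr.1 ht, ← he, decS_enc]
  refine ⟨r, n, hn, hr.2, ht, hg, ?_⟩
  apply le_antisymm
  · rw [closure_le, Set.insert_subset_iff]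
    refine ⟨?_, fun x hx => subset_closure (Set.mem_insert_of_mem _ hx)⟩
    rw [hg]
    exact mul_mem (subset_closure (Set.mem_insert_of_mem _ hr.2))
      (subset_closure (Set.mem_insert _ _))
  · rw [closure_le, Set.insert_subset_iff]
    refine ⟨?_, fun x hx => subset_closure (Set.mem_insert_of_mem _ hx)⟩
    have e : decS (ct (cert i n)) = (decS r)⁻¹ * g := by rw [hg]; group
    rw [e]
    exact mul_mem (inv_mem (subset_closure (Set.mem_insert_of_mem _ hr.2)))
      (subset_closure (Set.mem_insert _ _))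

set_option maxRecDepth 100000 in
theorem misc_checks : gen 0 0 = one ∧ gen 0 1 = one ∧ nreps 20 = 1 ∧ ct (cert 20 0) = one := by
  decide +kernel

theorem R_zero : R 0 = ⊥ := by
  unfold R
  rw [misc_checks.1, misc_checks.2.1, decS_one]
  simp

theorem R_top : R 20 = ⊤ := by
  rw [eq_top_iff]
  intro g _
  obtain ⟨r, n, hn, hr, _, hg, _⟩ := step (by norm_num : 20 < 21) g
  rw [misc_checks.2.2.1] at hn
  have hn0 : n = 0 := by omega
  rw [hn0, misc_checks.2.2.2, decS_one, mul_one] at hg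
  rw [hg]
  exact hr

theorem hstep (i : Fin 21) (g : SL) :
    ∃ (j : Fin 21) (c : SL), Subgroup.closure (insert g (R i.val : Set SL)) = conjS c (R j.val) := by
  obtain ⟨r, n, hn, _, _, _, he⟩ := step i.2 g
  obtain ⟨_, hj, hc⟩ := cert_sound i.2 hn
  exact ⟨⟨_, hj⟩, _, he.trans hc⟩

/-- Every subgroup of `SL₂(13)` is conjugate to a representative. -/
theorem classify_SL (H : Subgroup SL) : ∃ (j : Fin 21) (c : SL), H = conjS c (R j.val) :=
  classify (fun i : Fin 21 => R i.val) ⟨0, by norm_num⟩ R_zero hstep H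

/-! ### Maximal classes and normalisers -/

theorem max_sound {j : ℕ} (hj : j < 21) (h : maxOK j = true) :
    ∀ K : Subgroup SL, R j < K → K = ⊤ := by
  intro K hK
  obtain ⟨g, hgK, hgR⟩ := SetLike.exists_of_lt hK
  obtain ⟨r, n, hn, hr, _, hg, he⟩ := step hj g
  obtain ⟨_, _, hc⟩ := cert_sound hj hn
  have h1 := allLt_spec _ _ h n hn
  simp only [frc_eq, Bool.or_eq_true] at h1
  rcases h1 with h1 | h1
  · exfalso
    apply hgR
    rw [hg, Nat.eq_of_beq_eq_true h1, decS_one, mul_one]
    exact hr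
  · rw [Nat.eq_of_beq_eq_true h1, R_top, conjS_top] at hc
    rw [eq_top_iff, ← hc, ← he, closure_le, Set.insert_subset_iff]
    exact ⟨hgK, hK.le⟩

theorem norm_sound {i : ℕ} (hi : i < 21) :
    ∃ j, ∃ d : SL, conjS d (R j) ≤ normalizer ((R i : Subgroup SL) : Set SL) ∧
      ∀ K : Subgroup SL, R j < K → K = ⊤ := by
  have h := allLt_spec _ _ norm_ok i hi
  simp only [normOK, frc_eq, Bool.and_eq_true] at h
  obtain ⟨⟨⟨hd, hj⟩, hs⟩, hm⟩ := h
  have hd := ok_of_isSL hd
  have hj : nj i < 21 := Nat.le_of_ble_eq_true hj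
  refine ⟨nj i, decS (nd i), ?_, max_sound hj hm⟩
  obtain ⟨hg0, hg1⟩ := ok_gen hi
  have key : ∀ s < 2, decS (nd i) * decS (gen (nj i) s) * (decS (nd i))⁻¹ ∈
      normalizer ((R i : Subgroup SL) : Set SL) := by
    intro s hs2
    have hgs : Ok (gen (nj i) s) := by
      have hs' : s = 0 ∨ s = 1 := by omega
      rcases hs' with rfl | rfl
      · exact (ok_gen hj).1
      · exact (ok_gen hj).2
    have h1 := allLt_spec _ _ hs s hs2
    simp only [Bool.and_eq_true] at h1
    obtain ⟨⟨⟨a0, a1⟩, a2⟩, a3⟩ := h1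
    set y := mulC (mulC (nd i) (gen (nj i) s)) (invC (nd i)) with hy
    have hyok : Ok y := ok_mul (ok_mul hd hgs) (ok_inv hd)
    have hyd : decS y = decS (nd i) * decS (gen (nj i) s) * (decS (nd i))⁻¹ := by
      rw [hy, decS_mul (ok_mul hd hgs) (ok_inv hd), decS_mul hd hgs, decS_inv hd]
    rw [← hyd]
    have b0 := (bm_sound hi _ a0).2
    have b1 := (bm_sound hi _ a1).2
    have b2 := (bm_sound hi _ a2).2
    have b3 := (bm_sound hi _ a3).2
    rw [decS_mul (ok_mul hyok hg0) (ok_inv hyok), decS_mul hyok hg0, decS_inv hyok] at b0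
    rw [decS_mul (ok_mul hyok hg1) (ok_inv hyok), decS_mul hyok hg1, decS_inv hyok] at b1
    rw [decS_mul (ok_mul (ok_inv hyok) hg0) hyok, decS_mul (ok_inv hyok) hg0, decS_inv hyok] at b2
    rw [decS_mul (ok_mul (ok_inv hyok) hg1) hyok, decS_mul (ok_inv hyok) hg1, decS_inv hyok] at b3
    unfold R
    apply mem_normalizer_closure
    · intro g hg
      rcases hg with rfl | rfl
      · exact b0
      · exact b1
    · intro g hg
      rcases hg with rfl | rfl
      · exact b2
      · exact b3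
  show conjS (decS (nd i)) (Subgroup.closure {decS (gen (nj i) 0), decS (gen (nj i) 1)}) ≤ _
  rw [conjS_closure, closure_le]
  rintro x ⟨g, hg, rfl⟩
  rcases hg with rfl | rfl
  · exact key 0 (by norm_num)
  · exact key 1 (by norm_num)

/-- Every non-normal subgroup of `SL₂(13)` has a maximal normaliser. -/
theorem normMax_SL : NormMax SL := by
  intro H hH
  obtain ⟨i, c, hc⟩ := classify_SL H
  obtain ⟨j, d, hle, hmax⟩ := norm_sound i.2
  rw [hc, normalizer_conjS]
  apply isCoatom_conjS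
  have hne : normalizer ((R i.val : Subgroup SL) : Set SL) ≠ ⊤ := by
    intro h
    apply hH
    rw [hc]
    exact normal_conjS (normalizer_eq_top_iff.1 h)
  by_cases hjt : R j = ⊤
  · exfalso
    apply hne
    rw [hjt, conjS_top] at hle
    exact top_le_iff.1 hle
  · have hco : IsCoatom (conjS d (R j)) := isCoatom_conjS ⟨hjt, hmax⟩
    have e : conjS d (R j) = normalizer ((R i.val : Subgroup SL) : Set SL) := by
      by_contra hne2
      exact hne (hco.2 _ (lt_of_le_of_ne hle hne2))
    rw [← e]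
    exact hco

end Cfsg.Agent.Lib.Helper61_SL213Main
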