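import Mathlib
import Cfsg.Agent.Lib.Helper41_SLRDefs
import Cfsg.Agent.Lib.Helper68_MatGrpU
import Cfsg.Agent.Lib.Helper41_SLR_SSVAL

/-!
# SLR package R1 (sub-architect helper41; helper61): for `b` upper triangular there is `t` with
`ss j * (b * (xs j t)⁻¹) * (ss j)⁻¹` upper triangular.
-/

set_option autoImplicit false
set_option linter.unusedSectionVars false
set_option linter.unusedVariables false

namespace Cfsg.Agent.Lib.Helper61_SLR_R1

open Matrix Cfsg.Agent.Lib.Helper68_MatGrp Cfsg.Agent.Lib.Helper41_SLRDefs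

variable {n : ℕ} {F : Type*} [Field F]

/-- `xs j t` is upper triangular -/
theorem xs_mem_Bsl' (j : Fin (n - 1)) (t : F) :
    (xs j t : Matrix.SpecialLinearGroup (Fin n) F) ∈ Bsl n F := by
  rw [mem_Bsl]
  intro a b hba
  have hab : a ≠ b := by
    intro e; rw [e] at hba; exact lt_irrefl _ hba
  rw [xs_val, Matrix.add_apply, Matrix.one_apply_ne hab, zero_add, Matrix.single_apply, if_neg]
  rintro ⟨h1, h2⟩
  rw [← h1, ← h2] at hba
  simp at hba

/-- `ss j` is monomial with permutation `swap (lo j) (hi j)` -/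
theorem ss_isMono' (j : Fin (n - 1)) :
    IsMono (φ n F) (ss j : Matrix.SpecialLinearGroup (Fin n) F) (Equiv.swap (lo j) (hi j)) := by
  intro a b hab
  show (ss j : Matrix.SpecialLinearGroup (Fin n) F).1 a b = 0
  rw [Cfsg.Agent.Lib.Helper41_SLR_SSVAL.ss_apply]
  by_cases h1 : b = lo j
  · subst h1
    rw [Equiv.swap_apply_left] at hab
    rw [if_pos rfl, if_neg hab]
  · by_cases h2 : b = hi j
    · subst h2
      rw [Equiv.swap_apply_right] at hab
      rw [if_neg h1, if_pos rfl, if_neg hab]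
    · rw [Equiv.swap_apply_of_ne_of_ne h1 h2] at hab
      rw [if_neg h1, if_neg h2, if_neg hab]

/-- the value of the adjacent transposition -/
theorem swap_val (j : Fin (n - 1)) (x : Fin n) :
    (Equiv.swap (lo j) (hi j) x).val =
      if x.val = j.val then j.val + 1 else if x.val = j.val + 1 then j.val else x.val := by
  by_cases h1 : x = lo j
  · subst h1
    rw [Equiv.swap_apply_left]
    simp
  · by_cases h2 : x = hi j
    · subst h2
      rw [Equiv.swap_apply_right]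
      simp
    · rw [Equiv.swap_apply_of_ne_of_ne h1 h2]
      have e1 : x.val ≠ j.val := fun e => h1 (Fin.ext e)
      have e2 : x.val ≠ j.val + 1 := fun e => h2 (Fin.ext e)
      rw [if_neg e1, if_neg e2]

/-- **SLR-R1** -/
theorem r1 (j : Fin (n - 1)) (b : Matrix.SpecialLinearGroup (Fin n) F) (hb : b ∈ Bsl n F) :
    ∃ t : F, ss j * (b * (xs j t)⁻¹) * (ss j)⁻¹ ∈ Bsl n F := by
  have hne : b.1 (lo j) (lo j) ≠ 0 :=
    UT_diag_ne_zero (φ n F) (ht n) (ht_injective n) hb (lo j)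
  refine ⟨b.1 (lo j) (hi j) / b.1 (lo j) (lo j), ?_⟩
  obtain ⟨t, ht⟩ : ∃ t, t = b.1 (lo j) (hi j) / b.1 (lo j) (lo j) := ⟨_, rfl⟩
  rw [← ht]
  obtain ⟨b', hb'⟩ : ∃ b', b' = b * (xs j t)⁻¹ := ⟨_, rfl⟩
  rw [← hb']
  have hb'B : b' ∈ Bsl n F := by
    rw [hb']
    exact (Bsl n F).mul_mem hb ((Bsl n F).inv_mem (xs_mem_Bsl' j t))
  have hb'0 : b'.1 (lo j) (hi j) = 0 := by
    rw [hb', xs_inv]
    show (b.1 * (xs j (-t) : Matrix.SpecialLinearGroup (Fin n) F).1) (lo j) (hi j) = 0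
    rw [xs_val, Matrix.mul_add, Matrix.mul_one, Matrix.add_apply, Matrix.mul_single_apply_same, ht]
    field_simp
    ring
  have hmono := (ss_isMono' (F := F) j).inv
  rw [Equiv.swap_inv] at hmono
  rw [mem_Bsl]
  intro a c hca
  have e : ss j * b' * (ss j)⁻¹ = ((ss j)⁻¹)⁻¹ * b' * (ss j)⁻¹ := by rw [inv_inv]
  show φ n F (ss j * b' * (ss j)⁻¹) a c = 0
  rw [e, hmono.conj_apply]
  have h0 : φ n F b' (Equiv.swap (lo j) (hi j) a) (Equiv.swap (lo j) (hi j) c) = 0 := by
    show b'.1 (Equiv.swap (lo j) (hi j) a) (Equiv.swap (lo j) (hi j) c) = 0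
    by_cases hcase : a = hi j ∧ c = lo j
    · obtain ⟨rfl, rfl⟩ := hcase
      rw [Equiv.swap_apply_right, Equiv.swap_apply_left]
      exact hb'0
    · apply mem_Bsl.1 hb'B
      rw [swap_val, swap_val]
      have hcase' : ¬ (a.val = j.val + 1 ∧ c.val = j.val) := by
        rintro ⟨h1, h2⟩
        exact hcase ⟨Fin.ext h1, Fin.ext h2⟩
      split_ifs <;> omega
  rw [h0, mul_zero, zero_mul]

end Cfsg.Agent.Lib.Helper61_SLR_R1
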