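import Mathlib
import Cfsg.Agent.Lib.Helper41_SLRDefs

/-!
# SLR package R2 (sub-architect helper41; helper61): a monomial element conjugates `xs j ·` or `ys j ·`
into the upper triangular subgroup.
-/

set_option autoImplicit false
set_option linter.unusedSectionVars false
set_option linter.unusedVariables false

namespace Cfsg.Agent.Lib.Helper61_SLR_R2

open Matrix Cfsg.Agent.Lib.Helper68_MatGrp Cfsg.Agent.Lib.Helper41_SLRDefs

variable {n : ℕ} {F : Type*} [Field F]

/-- off-diagonal entries of `xs j t` -/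
theorem xs_apply_ne (j : Fin (n - 1)) (t : F) {a b : Fin n} (hab : a ≠ b)
    (h : ¬ (a = lo j ∧ b = hi j)) :
    (xs j t : Matrix.SpecialLinearGroup (Fin n) F).1 a b = 0 := by
  rw [xs_val, Matrix.add_apply, Matrix.one_apply_ne hab, zero_add, Matrix.single_apply, if_neg]
  rintro ⟨h1, h2⟩
  exact h ⟨h1.symm, h2.symm⟩

/-- off-diagonal entries of `ys j t` -/
theorem ys_apply_ne (j : Fin (n - 1)) (t : F) {a b : Fin n} (hab : a ≠ b)
    (h : ¬ (a = hi j ∧ b = lo j)) :
    (ys j t : Matrix.SpecialLinearGroup (Fin n) F).1 a b = 0 := by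
  rw [ys_val, Matrix.add_apply, Matrix.one_apply_ne hab, zero_add, Matrix.single_apply, if_neg]
  rintro ⟨h1, h2⟩
  exact h ⟨h1.symm, h2.symm⟩

/-- **SLR-R2** -/
theorem r2 (j : Fin (n - 1)) (m : Matrix.SpecialLinearGroup (Fin n) F) (σ : Equiv.Perm (Fin n))
    (hm : IsMono (φ n F) m σ) :
    (∀ t : F, m⁻¹ * xs j t * m ∈ Bsl n F) ∨ (∀ t : F, m⁻¹ * ys j t * m ∈ Bsl n F) := by
  by_cases hlt : (σ⁻¹ (lo j)).val < (σ⁻¹ (hi j)).val
  · left
    intro t
    rw [mem_Bsl]
    intro a b hba
    show φ n F (m⁻¹ * xs j t * m) a b = 0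
    rw [hm.conj_apply]
    have hab : σ a ≠ σ b := by
      intro e
      have := σ.injective e
      rw [this] at hba
      exact lt_irrefl _ hba
    have h0 : φ n F (xs j t) (σ a) (σ b) = 0 := by
      show (xs j t : Matrix.SpecialLinearGroup (Fin n) F).1 (σ a) (σ b) = 0
      apply xs_apply_ne j t hab
      rintro ⟨h1, h2⟩
      have ea : a = σ⁻¹ (lo j) := by rw [← h1]; simp
      have eb : b = σ⁻¹ (hi j) := by rw [← h2]; simp
      rw [ea, eb] at hba
      omega
    rw [h0, mul_zero, zero_mul]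
  · right
    intro t
    rw [mem_Bsl]
    intro a b hba
    show φ n F (m⁻¹ * ys j t * m) a b = 0
    rw [hm.conj_apply]
    have hab : σ a ≠ σ b := by
      intro e
      have := σ.injective e
      rw [this] at hba
      exact lt_irrefl _ hba
    have h0 : φ n F (ys j t) (σ a) (σ b) = 0 := by
      show (ys j t : Matrix.SpecialLinearGroup (Fin n) F).1 (σ a) (σ b) = 0
      apply ys_apply_ne j t hab
      rintro ⟨h1, h2⟩
      have ea : a = σ⁻¹ (hi j) := by rw [← h1]; simp
      have eb : b = σ⁻¹ (lo j) := by rw [← h2]; simp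
      rw [ea, eb] at hba
      omega
    rw [h0, mul_zero, zero_mul]

end Cfsg.Agent.Lib.Helper61_SLR_R2
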