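import Mathlib
import Cfsg.Agent.Lib.Helper61_F9
import Cfsg.Agent.Lib.Helper61_L27U33Table

/-!
# Helper61_SU36_E3aChk

Finite verifications (over the model `F9`) for the package SU36-E3a: the element `z₁` of order `7`
of the explicit copy of `PSL₂(7)` in `SU₃(3)` (`Helper61_L27U33Table`), the traces of its powers,
its normaliser in `SU₃(3)` (which lies in the copy), an element of the copy which does not
normalise `⟨z₁⟩`, and an element of `SU₃(3)` outside the copy.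
-/

set_option autoImplicit false

namespace Cfsg.Agent.Lib.Helper61_SU36_E3aChk

open Matrix Cfsg.Agent.Lib.Helper61_F9 Cfsg.Agent.Lib.Helper61_L27U33Table

/-- Column orthonormality for `Σ uᵢ vᵢ³`. -/
def U9 (M : Matrix (Fin 3) (Fin 3) F9) : Prop :=
  ∀ i j : Fin 3, M 0 i * M 0 j ^ 3 + M 1 i * M 1 j ^ 3 + M 2 i * M 2 j ^ 3 = if i = j then 1 else 0

instance (M : Matrix (Fin 3) (Fin 3) F9) : Decidable (U9 M) := by
  unfold U9; infer_instance

/-- The element of order `7`: the image of the upper unitriangular matrix. -/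
def z₁ : Matrix (Fin 3) (Fin 3) F9 := dec (look 1 1 0 1)

/-- Powers of `z₁`, computed with `mul3`. -/
def Pw : ℕ → Matrix (Fin 3) (Fin 3) F9
  | 0 => 1
  | k + 1 => mul3 (Pw k) z₁

theorem Pw_eq (k : ℕ) : Pw k = z₁ ^ k := by
  induction k with
  | zero => rfl
  | succ k ih => rw [Pw, mul3_eq, ih, pow_succ]

/-- The trace, written out. -/
def tr3 (M : Matrix (Fin 3) (Fin 3) F9) : F9 := M 0 0 + M 1 1 + M 2 2

theorem tr3_eq (M : Matrix (Fin 3) (Fin 3) F9) : M.trace = tr3 M := Matrix.trace_fin_three M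

theorem Pw_seven : Pw 7 = 1 := by decide +kernel

theorem z₁_ne_one : z₁ ≠ 1 := by decide +kernel

theorem z₁_pow_seven : z₁ ^ 7 = 1 := by rw [← Pw_eq]; exact Pw_seven

theorem tr_chk : ∀ j : Fin 7, tr3 (Pw j.val) = tr3 (Pw 1) ^ 3 → (j.val * j.val) % 7 = 1 → j.val = 6 := by
  decide +kernel

/-- the matrix with `v` in column `c` and zeros elsewhere -/
def Vc (c : Fin 3) (v0 v1 v2 : F9) : Matrix (Fin 3) (Fin 3) F9 :=
  fun r c' => if c' = c then (if r = 0 then v0 else if r = 1 then v1 else v2) else 0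

/-- the unit matrix `E_{0 c}` -/
def Sc (c : Fin 3) : Matrix (Fin 3) (Fin 3) F9 :=
  fun r c' => if r = 0 ∧ c' = c then 1 else 0

/-- `B = [e₀ | z₁ e₀ | z₁² e₀]`. -/
def Bm : Matrix (Fin 3) (Fin 3) F9 := fun r c => Pw c.val r 0

def Binv : Matrix (Fin 3) (Fin 3) F9 :=
  !![F9.mk 1 0, F9.mk 1 0, F9.mk 0 0; F9.mk 0 0, F9.mk 0 0, F9.mk 0 2; F9.mk 0 0, F9.mk 2 2, F9.mk 0 0]

def add3 (A B : Matrix (Fin 3) (Fin 3) F9) : Matrix (Fin 3) (Fin 3) F9 := fun i j => A i j + B i j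

theorem add3_eq (A B : Matrix (Fin 3) (Fin 3) F9) : add3 A B = A + B := rfl

theorem Bm_eq : Bm = add3 (add3 (Sc 0) (mul3 z₁ (Sc 1))) (mul3 (mul3 z₁ z₁) (Sc 2)) := by decide +kernel

theorem Bm_mul_Binv : mul3 Bm Binv = 1 := by decide +kernel

/-- The candidate with first column `v` for an element conjugating `z₁` to `z₁ ^ m`. -/
def cand (m : ℕ) (v0 v1 v2 : F9) : Matrix (Fin 3) (Fin 3) F9 :=
  mul3 (add3 (add3 (Vc 0 v0 v1 v2) (mul3 (Pw m) (Vc 1 v0 v1 v2)))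
    (mul3 (mul3 (Pw m) (Pw m)) (Vc 2 v0 v1 v2))) Binv

theorem mul_Sc (n : Matrix (Fin 3) (Fin 3) F9) (c : Fin 3) :
    n * Sc c = Vc c (n 0 0) (n 1 0) (n 2 0) := by
  ext r c'
  rw [Matrix.mul_apply, Fin.sum_univ_three]
  unfold Sc Vc
  fin_cases r <;> fin_cases c' <;> fin_cases c <;> simp

theorem eq_cand (m : ℕ) (n : Matrix (Fin 3) (Fin 3) F9) (h : n * z₁ = Pw m * n) :
    n = cand m (n 0 0) (n 1 0) (n 2 0) := by
  have h2 : n * (z₁ * z₁) = Pw m * Pw m * n := by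
    rw [← mul_assoc, h, mul_assoc, h, mul_assoc]
  have hB : Bm * Binv = 1 := by rw [← mul3_eq]; exact Bm_mul_Binv
  calc n = n * (Bm * Binv) := by rw [hB, mul_one]
    _ = (n * Bm) * Binv := by rw [mul_assoc]
    _ = cand m (n 0 0) (n 1 0) (n 2 0) := by
        unfold cand
        rw [mul3_eq, mul3_eq, mul3_eq, mul3_eq, add3_eq, add3_eq, Bm_eq, mul3_eq, mul3_eq, mul3_eq,
          add3_eq, add3_eq, mul_add, mul_add, ← mul_assoc n z₁, ← mul_assoc n (z₁ * z₁), h, h2,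
          mul_assoc (Pw m) n, mul_assoc (Pw m * Pw m) n, mul_Sc, mul_Sc, mul_Sc]

/-- Membership in the table, restricted to the upper triangular matrices. -/
def InB (n : Matrix (Fin 3) (Fin 3) F9) : Prop :=
  ∃ a b d : ZMod 7, a * d - b * 0 = 1 ∧ n = dec (look a b 0 d)

instance (n : Matrix (Fin 3) (Fin 3) F9) : Decidable (InB n) := by
  unfold InB; infer_instance

set_option maxRecDepth 100000 in
set_option maxHeartbeats 0 in
theorem norm_chk : ∀ m : Fin 7, ∀ v0 v1 v2 : F9,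
    v0 * v0 ^ 3 + v1 * v1 ^ 3 + v2 * v2 ^ 3 = 1 →
    U9 (cand m.val v0 v1 v2) → det3 (cand m.val v0 v1 v2) = 1 →
    mul3 (cand m.val v0 v1 v2) z₁ = mul3 (Pw m.val) (cand m.val v0 v1 v2) →
    InB (cand m.val v0 v1 v2) := by
  decide +kernel

/-- The normaliser of `⟨z₁⟩` in `SU₃(3)` lies in the table. -/
theorem normalizer_in_table (m : ℕ) (hm : m < 7) (n : Matrix (Fin 3) (Fin 3) F9) (hU : U9 n)
    (hdet : n.det = 1) (h : n * z₁ = z₁ ^ m * n) :
    ∃ a b c d : ZMod 7, a * d - b * c = 1 ∧ n = dec (look a b c d) := by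
  rw [← Pw_eq] at h
  have hc := eq_cand m n h
  have h00 := hU 0 0
  rw [if_pos rfl] at h00
  have key := norm_chk ⟨m, hm⟩ (n 0 0) (n 1 0) (n 2 0) h00
  simp only [] at key
  rw [← hc] at key
  obtain ⟨a, b, d, h1, h2⟩ := key hU (by rw [← det3_eq]; exact hdet)
    (by rw [mul3_eq, mul3_eq]; exact h)
  exact ⟨a, b, 0, d, h1, h2⟩

/-- An element of the table not normalising `⟨z₁⟩`. -/
def x₀ : Matrix (Fin 3) (Fin 3) F9 := dec (look 1 0 1 1)

theorem x₀_chk : ∀ m : Fin 7, mul3 x₀ z₁ ≠ mul3 (Pw m.val) x₀ := by decide +kernel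

theorem x₀_not_norm (m : ℕ) (hm : m < 7) : x₀ * z₁ ≠ z₁ ^ m * x₀ := by
  have := x₀_chk ⟨m, hm⟩
  rwa [mul3_eq, mul3_eq, Pw_eq] at this

/-- An element of `SU₃(3)` outside the table. -/
def M₀ : Matrix (Fin 3) (Fin 3) F9 :=
  !![F9.mk 0 1, F9.mk 0 0, F9.mk 0 0; F9.mk 0 0, F9.mk 0 2, F9.mk 0 0; F9.mk 0 0, F9.mk 0 0, F9.mk 1 0]

theorem M₀_facts : U9 M₀ ∧ det3 M₀ = 1 := by decide +kernel

set_option maxRecDepth 100000 in
theorem M₀_not_in_table : ∀ a b c d : ZMod 7, a * d - b * c = 1 → dec (look a b c d) ≠ M₀ := by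
  decide +kernel

/-- Frobenius facts on `F9`. -/
theorem frob_add : ∀ x y : F9, (x + y) ^ 3 = x ^ 3 + y ^ 3 := by decide +kernel

theorem frob_frob : ∀ x : F9, (x ^ 3) ^ 3 = x := by decide +kernel

end Cfsg.Agent.Lib.Helper61_SU36_E3aChk
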