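import Mathlib
import Cfsg.Prelude.Def_GeometricClasses
import Cfsg.Prelude.Def_LieClassical
import Cfsg.Agent.S1897
import Cfsg.Agent.Lib.Helper13_HermBridge
import Cfsg.Agent.Lib.Helper61_SU36_E3aChk

/-!
# Helper61_SU36_E3a (package SU36-E3a of helper27, for S5778)

`7:3 < PSL₂(7) < SU₃(3)`: the normaliser in `SU₃(3)` of an adjoint-closed cubic field
`K ≅ F_729` of `M₃(F_9)` is not maximal.

Route: `K` contains an element `y` of order `7`; it is `GL₃(9)`-conjugate (Sylow) to a power of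
the explicit element `z₁` of the copy `X₃ ≅ PSL₂(7)` of `Helper61_L27U33Table`, which gives the
traces of its powers; the adjoint of `y` is a power `y ^ j` with `j² ≡ 1` and the trace condition
forces `j = 6`, so `y ∈ SU₃(3)`; a second application of Sylow (in `SU₃(3)`) gives `s ∈ SU₃(3)`
with `s ⟨z₁⟩ s⁻¹ = ⟨y⟩`; the normaliser of `K` normalises `⟨y⟩`, and the normaliser of `⟨z₁⟩`
in `SU₃(3)` lies in `X₃` (finite check), so `N(K) ∩ SU ≤ s X₃ s⁻¹ < SU`.
-/

set_option autoImplicit false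

namespace Cfsg.Agent.Lib.Helper61_SU36_E3a

open Matrix Cfsg.Geo Cfsg.Agent.Lib.Helper13_Herm Cfsg.Agent.Lib.Helper13_HermBridge
  Cfsg.Agent.Lib.Helper61_F9 Cfsg.Agent.Lib.Helper61_L27U33Table Cfsg.Agent.Lib.Helper61_SU36_E3aChk

local notation "G7" => SpecialLinearGroup (Fin 2) (ZMod 7)



/-! ### Sylow conjugacy for elements of prime order -/

theorem sylow_conj {G : Type*} [Group G] [Finite G] {p : ℕ} [Fact p.Prime]
    (hp2 : ¬ p ^ 2 ∣ Nat.card G) (x y : G) (hx : orderOf x = p) (hy : orderOf y = p) :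
    ∃ g : G, ∃ a : ℕ, g * x * g⁻¹ = y ^ a := by
  have hcard : ∀ z : G, orderOf z = p → ¬ p ∣ (Subgroup.zpowers z).index := by
    intro z hz hdiv
    apply hp2
    rw [← Subgroup.card_mul_index (Subgroup.zpowers z), Nat.card_zpowers, hz, pow_two]
    exact Nat.mul_dvd_mul_left p hdiv
  have hP : ∀ z : G, orderOf z = p → IsPGroup p (Subgroup.zpowers z) := fun z hz =>
    IsPGroup.of_card (n := 1) (by rw [Nat.card_zpowers, hz, pow_one])
  let P : Sylow p G := (hP x hx).toSylow (hcard x hx)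
  let Q : Sylow p G := (hP y hy).toSylow (hcard y hy)
  obtain ⟨g, hg⟩ := MulAction.exists_smul_eq G P Q
  have hmem : g * x * g⁻¹ ∈ (Q : Subgroup G) := by
    rw [← hg, Sylow.coe_subgroup_smul]
    have : x ∈ (P : Subgroup G) := Subgroup.mem_zpowers x
    have h2 := Subgroup.smul_mem_pointwise_smul x (MulAut.conj g) _ this
    simpa [MulAut.smul_def] using h2
  have hmem2 : g * x * g⁻¹ ∈ Subgroup.zpowers y := hmem
  rw [← mem_powers_iff_mem_zpowers, Submonoid.mem_powers_iff] at hmem2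
  obtain ⟨a, ha⟩ := hmem2
  exact ⟨g, a, ha.symm⟩


variable {F : Type*} [Field F] [Fintype F]




/-! ### The conjugate transpose over a field with nine elements -/

/-- conjugate transpose -/
def ct (M : Matrix (Fin 3) (Fin 3) F) : Matrix (Fin 3) (Fin 3) F := fun i j => M j i ^ 3

omit [Fintype F] in
theorem ct_eq (M : Matrix (Fin 3) (Fin 3) F) : ct M = (M.map (fun x => x ^ 3))ᵀ := rfl

theorem ct_mul (hF : Fintype.card F = 3 ^ 2) (A B : Matrix (Fin 3) (Fin 3) F) :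
    ct (A * B) = ct B * ct A := by
  ext i j
  simp only [ct, Matrix.mul_apply]
  rw [sum_pow_q hF]
  apply Finset.sum_congr rfl
  intro k _
  rw [mul_pow, mul_comm]

omit [Fintype F] in
theorem ct_one : ct (1 : Matrix (Fin 3) (Fin 3) F) = 1 := by
  ext i j
  simp only [ct, Matrix.one_apply]
  by_cases h : i = j
  · subst h; simp
  · rw [if_neg h, if_neg (Ne.symm h)]; simp

theorem ct_pow (hF : Fintype.card F = 3 ^ 2) (A : Matrix (Fin 3) (Fin 3) F) (k : ℕ) :
    ct (A ^ k) = ct A ^ k := by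
  induction k with
  | zero => rw [pow_zero, pow_zero, ct_one]
  | succ k ih => rw [pow_succ, ct_mul hF, ih, pow_succ']

theorem ct_ct (hF : Fintype.card F = 3 ^ 2) (A : Matrix (Fin 3) (Fin 3) F) : ct (ct A) = A := by
  ext i j
  simp only [ct]
  exact pow_q_pow_q hF _

theorem trace_ct (hF : Fintype.card F = 3 ^ 2) (A : Matrix (Fin 3) (Fin 3) F) :
    (ct A).trace = A.trace ^ 3 := by
  simp only [Matrix.trace, Matrix.diag, ct]
  rw [sum_pow_q hF]

theorem adjoint_ct (hF : Fintype.card F = 3 ^ 2) (A : Matrix (Fin 3) (Fin 3) F) (u v : Fin 3 → F) :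
    Cfsg.hermForm 3 F 3 (A *ᵥ u) v = Cfsg.hermForm 3 F 3 u (ct A *ᵥ v) := by
  rw [hermForm_eq_dot, hermForm_eq_dot, mulVec_pow_q hF]
  have h1 : (ct A).map (fun x => x ^ 3) = Aᵀ := by
    ext i j
    simp only [Matrix.map_apply, ct, Matrix.transpose_apply]
    exact pow_q_pow_q hF _
  rw [h1, Matrix.dotProduct_mulVec, Matrix.vecMul_transpose]

theorem eq_ct_of_adjoint (hF : Fintype.card F = 3 ^ 2) (A A' : Matrix (Fin 3) (Fin 3) F)
    (h : ∀ u v : Fin 3 → F, Cfsg.hermForm 3 F 3 (A *ᵥ u) v = Cfsg.hermForm 3 F 3 u (A' *ᵥ v)) :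
    A' = ct A := by
  have key : ∀ v : Fin 3 → F, A' *ᵥ v = ct A *ᵥ v := by
    intro v
    funext i
    have h1 := h (Pi.single i 1) v
    rw [adjoint_ct hF, hermForm_single_left, hermForm_single_left] at h1
    have h2 := congrArg (fun x => x ^ 3) h1
    beta_reduce at h2
    rw [pow_q_pow_q hF, pow_q_pow_q hF] at h2
    exact h2.symm
  ext i j
  have := congrFun (key (Pi.single j 1)) i
  rwa [Matrix.mulVec_single_one, Matrix.mulVec_single_one] at this

theorem mem_GU_of_ct (hF : Fintype.card F = 3 ^ 2) (g : GL (Fin 3) F)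
    (h : ct g.1 * g.1 = 1) : g ∈ Cfsg.GU 3 F 3 := by
  rw [Cfsg.Agent.Lib.Helper13_GU.mem_GU_iff]
  intro u v
  rw [adjoint_ct hF, Matrix.mulVec_mulVec, h, Matrix.one_mulVec]





/-! ### The field `K` -/

omit [Fintype F] in
theorem isFieldK (K : Subalgebra F (Matrix (Fin 3) (Fin 3) F)) {r : ℕ}
    (hK : IsFieldSubalgebra r K) : IsField K := by
  refine ⟨⟨0, 1, ?_⟩, ?_, ?_⟩
  · intro h
    have := congrArg Subtype.val h
    simp at this
  · intro x y
    exact Subtype.ext (hK.comm x.1 x.2 y.1 y.2)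
  · intro a ha
    have ha' : (a : Matrix (Fin 3) (Fin 3) F) ≠ 0 := fun h => ha (Subtype.ext h)
    obtain ⟨y, hy, hxy⟩ := hK.inv a.1 a.2 ha'
    exact ⟨⟨y, hy⟩, Subtype.ext hxy⟩

theorem card_K (hF : Fintype.card F = 3 ^ 2) (K : Subalgebra F (Matrix (Fin 3) (Fin 3) F))
    (hK : IsFieldSubalgebra 3 K) : Nat.card K = 729 := by
  have : Module.Finite F K := Module.finite_of_finrank_pos (by rw [hK.finrank_eq]; norm_num)
  rw [Module.natCard_eq_pow_finrank (K := F) (V := K), hK.finrank_eq, Nat.card_eq_fintype_card, hF]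
  norm_num

/-- an element of order seven -/
theorem exists_seven (hF : Fintype.card F = 3 ^ 2) (K : Subalgebra F (Matrix (Fin 3) (Fin 3) F))
    (hK : IsFieldSubalgebra 3 K) : ∃ y ∈ K, y ^ 7 = 1 ∧ y ≠ 1 := by
  let _ : Field K := (isFieldK K hK).toField
  have hcard : Nat.card Kˣ = 728 := by rw [Nat.card_units, card_K hF K hK]
  have : Fact (Nat.Prime 7) := ⟨by norm_num⟩
  obtain ⟨u, hu⟩ := exists_prime_orderOf_dvd_card' (G := Kˣ) 7 (by rw [hcard]; norm_num)
  refine ⟨(u : K).1, (u : K).2, ?_, ?_⟩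
  · have h1 : u ^ 7 = 1 := by rw [← hu]; exact pow_orderOf_eq_one u
    have h2 : ((u ^ 7 : Kˣ) : K) = 1 := by rw [h1]; rfl
    have h3 := congrArg Subtype.val h2
    simpa using h3
  · intro h
    have h1 : u = 1 := by
      apply Units.ext
      apply Subtype.ext
      simpa using h
    rw [h1, orderOf_one] at hu
    norm_num at hu

omit [Fintype F] in
/-- the seventh roots of unity in `K` are the powers of any nontrivial one -/
theorem roots_seven (K : Subalgebra F (Matrix (Fin 3) (Fin 3) F)) {r : ℕ}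
    (hK : IsFieldSubalgebra r K) (y : Matrix (Fin 3) (Fin 3) F) (hy : y ∈ K) (hy7 : y ^ 7 = 1)
    (hy1 : y ≠ 1) (w : Matrix (Fin 3) (Fin 3) F) (hw : w ∈ K) (hw7 : w ^ 7 = 1) :
    ∃ i < 7, w = y ^ i := by
  let _ : Field K := (isFieldK K hK).toField
  have : Fact (Nat.Prime 7) := ⟨by norm_num⟩
  have hy7' : (⟨y, hy⟩ : K) ^ 7 = 1 := Subtype.ext (by simpa using hy7)
  have hy1' : (⟨y, hy⟩ : K) ≠ 1 := fun h => hy1 (by simpa using congrArg Subtype.val h)
  have hord : orderOf (⟨y, hy⟩ : K) = 7 := orderOf_eq_prime hy7' hy1'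
  have hprim : IsPrimitiveRoot (⟨y, hy⟩ : K) 7 := IsPrimitiveRoot.iff_orderOf.mpr hord
  have hw7' : (⟨w, hw⟩ : K) ^ 7 = 1 := Subtype.ext (by simpa using hw7)
  obtain ⟨i, hi, hiw⟩ := hprim.eq_pow_of_pow_eq_one hw7'
  refine ⟨i, hi, ?_⟩
  have := congrArg Subtype.val hiw
  simpa using this.symm






/-! ### Transport from the model `F9` -/

section transport
variable (e : F9 ≃+* F)

omit [Fintype F] in
theorem gram_mE (M : Matrix (Fin 3) (Fin 3) F9) (h : U9 M) :
    (e.mapMatrix M)ᵀ * (e.mapMatrix M).map (fun x => x ^ 3) = 1 := by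
  ext i j
  rw [Matrix.mul_apply, Fin.sum_univ_three]
  simp only [RingEquiv.mapMatrix_apply, Matrix.map_apply, Matrix.transpose_apply]
  have := congrArg e (h i j)
  simp only [map_add, map_mul, map_pow] at this
  rw [this, Matrix.one_apply]
  split_ifs <;> simp

theorem U9_of_mem_GU (hF : Fintype.card F = 3 ^ 2) (g : GL (Fin 3) F) (hg : g ∈ Cfsg.GU 3 F 3) :
    U9 (e.symm.mapMatrix g.1) := by
  have h := (mem_GU_iff_gram hF g).mp hg
  intro i j
  have hij := congrFun (congrFun h i) j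
  rw [Matrix.mul_apply, Fin.sum_univ_three] at hij
  simp only [Matrix.transpose_apply, Matrix.map_apply] at hij
  have := congrArg e.symm hij
  simp only [map_add, map_mul, map_pow] at this
  simp only [RingEquiv.mapMatrix_apply, Matrix.map_apply]
  rw [this, Matrix.one_apply]
  split_ifs <;> simp

/-- The homomorphism `SL₂(7) → GL₃(F)`. -/
noncomputable def Ψ : G7 →* GL (Fin 3) F :=
  (Matrix.GeneralLinearGroup.map (e : F9 →+* F)).comp
    (Matrix.SpecialLinearGroup.toGL.comp (MonoidHom.mk' Cfsg.Agent.S1897.φ Cfsg.Agent.S1897.φ_mul))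

omit [Fintype F] in
theorem Ψ_val (g : G7) : ((Ψ e g : GL (Fin 3) F) : Matrix (Fin 3) (Fin 3) F) =
    e.mapMatrix (dec (look (g.1 0 0) (g.1 0 1) (g.1 1 0) (g.1 1 1))) := by
  ext i j
  rfl

omit [Fintype F] in
theorem mem_specialLinear_iff (g : GL (Fin 3) F) :
    g ∈ specialLinear (Fin 3) F ↔ g.1.det = 1 := by
  unfold specialLinear
  rw [MonoidHom.mem_ker]
  constructor
  · intro h
    have := congrArg Units.val h
    simpa using this
  · intro h
    apply Units.ext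
    simpa using h

theorem Ψ_mem (hF : Fintype.card F = 3 ^ 2) (g : G7) :
    Ψ e g ∈ Cfsg.GU 3 F 3 ⊓ specialLinear (Fin 3) F := by
  have hc := unitary_check _ _ _ _ (Cfsg.Agent.S0255.det_entries g)
  refine Subgroup.mem_inf.mpr ⟨?_, ?_⟩
  · rw [mem_GU_iff_gram hF, Ψ_val]
    exact gram_mE e _ hc.1
  · rw [mem_specialLinear_iff, Ψ_val, ← RingEquiv.map_det, det3_eq, hc.2, map_one]

/-- the element with given entries -/
def mkG (a b c d : ZMod 7) (h : a * d - b * c = 1) : G7 :=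
  ⟨!![a, b; c, d], by rw [Matrix.det_fin_two_of]; exact h⟩

omit [Fintype F] in
theorem mem_range_of_table (n : GL (Fin 3) F) (a b c d : ZMod 7) (h : a * d - b * c = 1)
    (hn : e.symm.mapMatrix n.1 = dec (look a b c d)) : n ∈ (Ψ e).range := by
  refine ⟨mkG a b c d h, ?_⟩
  apply Units.ext
  rw [Ψ_val]
  have : (mkG a b c d h).1 = !![a, b; c, d] := rfl
  rw [this]
  simp only [Matrix.of_apply, Matrix.cons_val', Matrix.cons_val_zero, Matrix.cons_val_one,
    Matrix.cons_val_fin_one]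
  rw [← hn]
  ext i j
  simp

/-- the element of order seven -/
noncomputable def zF : GL (Fin 3) F := Ψ e (Cfsg.Agent.S0255.U 1)

omit [Fintype F] in
theorem zF_val : ((zF e : GL (Fin 3) F) : Matrix (Fin 3) (Fin 3) F) = e.mapMatrix z₁ := by
  unfold zF
  rw [Ψ_val, Cfsg.Agent.S0255.U_val]
  rfl

omit [Fintype F] in
theorem zF_pow_val (m : ℕ) :
    (((zF e) ^ m : GL (Fin 3) F) : Matrix (Fin 3) (Fin 3) F) = e.mapMatrix (z₁ ^ m) := by
  rw [Units.val_pow_eq_pow_val, zF_val, map_pow]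

omit [Fintype F] in
theorem zF_pow_seven : (zF e) ^ 7 = 1 := by
  apply Units.ext
  rw [zF_pow_val, z₁_pow_seven, map_one]
  rfl

omit [Fintype F] in
theorem zF_ne_one : zF e ≠ 1 := by
  intro h
  have h1 := congrArg Units.val h
  rw [zF_val] at h1
  have h2 : e.mapMatrix z₁ = e.mapMatrix 1 := by rw [h1, map_one]; rfl
  exact z₁_ne_one (e.mapMatrix.injective h2)

/-- the normaliser of `⟨zF⟩` in `SU₃(3)` lies in the copy of `PSL₂(7)` -/
theorem norm_le (hF : Fintype.card F = 3 ^ 2) (n : GL (Fin 3) F)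
    (hn : n ∈ Cfsg.GU 3 F 3 ⊓ specialLinear (Fin 3) F) (m : ℕ)
    (h : n * zF e = (zF e) ^ m * n) : n ∈ (Ψ e).range := by
  rw [pow_eq_pow_mod m (zF_pow_seven e)] at h
  have hm : m % 7 < 7 := Nat.mod_lt _ (by norm_num)
  have h1 := congrArg Units.val h
  rw [Units.val_mul, Units.val_mul, zF_pow_val, zF_val] at h1
  have h2 := congrArg e.symm.mapMatrix h1
  rw [map_mul, map_mul] at h2
  have hz : ∀ M : Matrix (Fin 3) (Fin 3) F9, e.symm.mapMatrix (e.mapMatrix M) = M := by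
    intro M; ext i j; simp
  rw [hz, hz] at h2
  have hU := U9_of_mem_GU e hF n hn.1
  have hdet : (e.symm.mapMatrix n.1).det = 1 := by
    rw [← RingEquiv.map_det, (mem_specialLinear_iff n).mp hn.2, map_one]
  obtain ⟨a, b, c, d, hd, hnn⟩ := normalizer_in_table (m % 7) hm _ hU hdet h2
  exact mem_range_of_table e n a b c d hd hnn

/-- an element of the copy not normalising `⟨zF⟩` -/
noncomputable def x₀F : GL (Fin 3) F := Ψ e (Cfsg.Agent.S0255.L 1)

omit [Fintype F] in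
theorem x₀F_val : ((x₀F e : GL (Fin 3) F) : Matrix (Fin 3) (Fin 3) F) = e.mapMatrix x₀ := by
  unfold x₀F
  rw [Ψ_val, Cfsg.Agent.S0255.L_val]
  rfl

omit [Fintype F] in
theorem x₀F_not_norm (m : ℕ) : x₀F e * zF e ≠ (zF e) ^ m * x₀F e := by
  intro h
  rw [pow_eq_pow_mod m (zF_pow_seven e)] at h
  have hm : m % 7 < 7 := Nat.mod_lt _ (by norm_num)
  have h1 := congrArg Units.val h
  rw [Units.val_mul, Units.val_mul, zF_pow_val, zF_val, x₀F_val, ← map_mul, ← map_mul] at h1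
  exact x₀_not_norm (m % 7) hm (e.mapMatrix.injective h1)

/-- an element of `SU₃(3)` outside the copy -/
noncomputable def M₀F : GL (Fin 3) F := gramGL (e.mapMatrix M₀) (gram_mE e M₀ M₀_facts.1)

theorem M₀F_mem (hF : Fintype.card F = 3 ^ 2) :
    M₀F e ∈ Cfsg.GU 3 F 3 ⊓ specialLinear (Fin 3) F := by
  refine Subgroup.mem_inf.mpr ⟨gramGL_mem hF _ _, ?_⟩
  rw [mem_specialLinear_iff]
  show (e.mapMatrix M₀).det = 1
  rw [← RingEquiv.map_det, det3_eq, M₀_facts.2, map_one]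

theorem M₀F_not_mem : M₀F e ∉ (Ψ e).range := by
  rintro ⟨g, hg⟩
  have h1 := congrArg Units.val hg
  rw [Ψ_val] at h1
  have h2 : e.mapMatrix (dec (look (g.1 0 0) (g.1 0 1) (g.1 1 0) (g.1 1 1))) = e.mapMatrix M₀ := h1
  exact M₀_not_in_table _ _ _ _ (Cfsg.Agent.S0255.det_entries g) (e.mapMatrix.injective h2)

end transport


/-! ### The main argument -/

theorem not_sq_dvd_card_GL (hF : Fintype.card F = 3 ^ 2) :
    ¬ 7 ^ 2 ∣ Nat.card (GL (Fin 3) F) := by
  rw [Matrix.card_GL_field, Fin.prod_univ_three, hF]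
  norm_num

/-- **SU36-E3a**: `7:3 < PSL₂(7) < SU₃(3)`. -/
theorem E3a (hF : Fintype.card F = 3 ^ 2) (K : Subalgebra F (Matrix (Fin 3) (Fin 3) F))
    (hK : IsFieldSubalgebra 3 K) (hadj : IsAdjointClosedFor (Cfsg.hermForm 3 F 3) K) :
    ¬ IsMaximalIn (Cfsg.GU 3 F 3 ⊓ specialLinear (Fin 3) F)
      (subalgebraNormalizer K ⊓ (Cfsg.GU 3 F 3 ⊓ specialLinear (Fin 3) F)) := by
  classical
  have : Fact (Nat.Prime 7) := ⟨by norm_num⟩
  have hF9 : Fintype.card F = 9 := by rw [hF]; norm_num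
  let e : F9 ≃+* F := (ringEquivF9 hF9).symm
  set S : Subgroup (GL (Fin 3) F) := Cfsg.GU 3 F 3 ⊓ specialLinear (Fin 3) F with hS
  -- an element of order seven in `K`
  obtain ⟨y₀, hy₀K, hy₀7, hy₀1⟩ := exists_seven hF K hK
  let Y₀ : GL (Fin 3) F := ⟨y₀, y₀ ^ 6, by rw [← pow_succ', hy₀7], by rw [← pow_succ, hy₀7]⟩
  have hY₀ : orderOf Y₀ = 7 := orderOf_eq_prime (Units.ext (by simpa using hy₀7))
    (fun h => hy₀1 (congrArg Units.val h))
  have hz : orderOf (zF e) = 7 := orderOf_eq_prime (zF_pow_seven e) (zF_ne_one e)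
  -- conjugate in `GL`
  obtain ⟨g, a, hga⟩ := sylow_conj (not_sq_dvd_card_GL hF) (zF e) Y₀ hz hY₀
  have hy₁K : (Y₀ ^ a).1 ∈ K := by
    rw [Units.val_pow_eq_pow_val]; exact K.pow_mem hy₀K a
  generalize Y₀ ^ a = y₁ at hga hy₁K
  have hy₁7 : y₁ ^ 7 = 1 := by
    rw [← hga, conj_pow, zF_pow_seven]; group
  have hy₁1 : y₁ ≠ 1 := by
    intro h
    rw [h] at hga
    apply zF_ne_one e
    have := congrArg (fun t => g⁻¹ * t * g) hga
    simpa [mul_assoc] using this
  have hm7 : y₁.1 ^ 7 = 1 := by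
    rw [← Units.val_pow_eq_pow_val, hy₁7]; rfl
  have hm1 : y₁.1 ≠ 1 := fun h => hy₁1 (Units.ext h)
  have hy₁ord : orderOf y₁ = 7 := orderOf_eq_prime hy₁7 hy₁1
  -- traces and determinant
  have htr : ∀ j : ℕ, (y₁.1 ^ j).trace = e ((z₁ ^ j).trace) := by
    intro j
    have h1 : y₁ ^ j = g * (zF e) ^ j * g⁻¹ := by rw [← hga, conj_pow]
    have h2 := congrArg Units.val h1
    rw [Units.val_pow_eq_pow_val, Units.val_mul, Units.val_mul, zF_pow_val] at h2
    rw [h2, Matrix.trace_units_conj, RingEquiv.mapMatrix_apply]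
    exact (AddMonoidHom.map_trace e (z₁ ^ j)).symm
  have hdet : y₁.1.det = 1 := by
    have h2 := congrArg Units.val hga
    rw [Units.val_mul, Units.val_mul] at h2
    rw [← h2, Matrix.det_units_conj]
    exact (mem_specialLinear_iff _).mp (Ψ_mem e hF _).2
  -- the adjoint
  obtain ⟨y', hy'K, hy'⟩ := hadj y₁.1 hy₁K
  have hct : y' = ct y₁.1 := eq_ct_of_adjoint hF _ _ hy'
  rw [hct] at hy'K
  have hct7 : ct y₁.1 ^ 7 = 1 := by rw [← ct_pow hF, hm7, ct_one]
  obtain ⟨j, hj, hjeq⟩ := roots_seven K hK y₁.1 hy₁K hm7 hm1 (ct y₁.1) hy'K hct7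
  have hj6 : j = 6 := by
    apply tr_chk ⟨j, hj⟩
    · have h1 := trace_ct hF y₁.1
      rw [hjeq, htr j] at h1
      have h2 := htr 1
      rw [pow_one] at h2
      rw [h2, ← map_pow] at h1
      have h3 := e.injective h1
      rw [tr3_eq, tr3_eq, ← Pw_eq, ← Pw_eq] at h3
      exact h3
    · have h1 : y₁.1 ^ (j * j) = y₁.1 ^ 1 := by
        rw [pow_mul, ← hjeq, ← ct_pow hF, ← hjeq, ct_ct hF, pow_one]
      have h1' : y₁ ^ (j * j) = y₁ ^ 1 := Units.ext (by
        rw [Units.val_pow_eq_pow_val, Units.val_pow_eq_pow_val]; exact h1)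
      have := pow_eq_pow_iff_modEq.mp h1'
      rw [hy₁ord] at this
      exact this
  subst hj6
  have hctmul : ct y₁.1 * y₁.1 = 1 := by rw [hjeq, ← pow_succ, hm7]
  have hy₁S : y₁ ∈ S := ⟨mem_GU_of_ct hF y₁ hctmul, (mem_specialLinear_iff y₁).mpr hdet⟩
  have hzS : zF e ∈ S := Ψ_mem e hF _
  -- conjugate in `SU`
  have hcardS : ¬ 7 ^ 2 ∣ Nat.card S := fun h =>
    not_sq_dvd_card_GL hF (h.trans (Subgroup.card_subgroup_dvd_card S))
  obtain ⟨⟨s, hsS⟩, b, hsb⟩ := sylow_conj hcardS (⟨zF e, hzS⟩ : S) ⟨y₁, hy₁S⟩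
    (by rw [Subgroup.orderOf_mk]; exact hz) (by rw [Subgroup.orderOf_mk]; exact hy₁ord)
  have hsb' : s * zF e * s⁻¹ = y₁ ^ b := by
    simpa using congrArg Subtype.val hsb
  have hy₂K : (y₁ ^ b).1 ∈ K := by
    rw [Units.val_pow_eq_pow_val]; exact K.pow_mem hy₁K b
  generalize y₁ ^ b = y₂ at hsb' hy₂K
  have hy₂7 : y₂ ^ 7 = 1 := by
    rw [← hsb', conj_pow, zF_pow_seven]; group
  have hy₂1 : y₂ ≠ 1 := by
    intro h
    rw [h] at hsb'
    apply zF_ne_one e
    have := congrArg (fun t => s⁻¹ * t * s) hsb'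
    simpa [mul_assoc] using this
  have hn7 : y₂.1 ^ 7 = 1 := by
    rw [← Units.val_pow_eq_pow_val, hy₂7]; rfl
  have hn1 : y₂.1 ≠ 1 := fun h => hy₂1 (Units.ext h)
  -- elements of the normaliser of `K` normalise `⟨y₂⟩`
  have hnorm : ∀ h : GL (Fin 3) F, h ∈ subalgebraNormalizer K → ∃ m : ℕ, h * y₂ * h⁻¹ = y₂ ^ m := by
    intro h hh
    have h1 : (h : Matrix (Fin 3) (Fin 3) F) * y₂.1 * ((h⁻¹ : GL (Fin 3) F) : Matrix (Fin 3) (Fin 3) F) ∈ K :=
      (hh y₂.1).mp hy₂K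
    have h2 : ((h : Matrix (Fin 3) (Fin 3) F) * y₂.1 *
        ((h⁻¹ : GL (Fin 3) F) : Matrix (Fin 3) (Fin 3) F)) ^ 7 = 1 := by
      have : (h * y₂ * h⁻¹) ^ 7 = 1 := by rw [conj_pow, hy₂7]; group
      have := congrArg Units.val this
      rw [Units.val_pow_eq_pow_val, Units.val_mul, Units.val_mul] at this
      exact this
    obtain ⟨m, -, hm⟩ := roots_seven K hK y₂.1 hy₂K hn7 hn1 _ h1 h2
    refine ⟨m, Units.ext ?_⟩
    rw [Units.val_pow_eq_pow_val, ← hm]
    rfl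
  have htrans : ∀ (h : GL (Fin 3) F) (m : ℕ), h * y₂ * h⁻¹ = y₂ ^ m →
      (s⁻¹ * h * s) * zF e = (zF e) ^ m * (s⁻¹ * h * s) := by
    intro h m hh
    rw [← hsb', conj_pow] at hh
    calc (s⁻¹ * h * s) * zF e
        = s⁻¹ * (h * (s * zF e * s⁻¹) * h⁻¹) * h * s := by
          group
      _ = (zF e) ^ m * (s⁻¹ * h * s) := by rw [hh]; group
  -- the overgroup
  let X : Subgroup (GL (Fin 3) F) := (Ψ e).range.map (MulAut.conj s).toMonoidHom
  have hX : ∀ x : GL (Fin 3) F, x ∈ X ↔ s⁻¹ * x * s ∈ (Ψ e).range := by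
    intro x
    constructor
    · rintro ⟨r, hr, rfl⟩
      have : s⁻¹ * ((MulAut.conj s).toMonoidHom r) * s = r := by
        simp [MulAut.conj_apply, mul_assoc]
      rw [this]; exact hr
    · intro hx
      refine ⟨_, hx, ?_⟩
      simp [MulAut.conj_apply, mul_assoc]
  intro hmax
  have h1 : subalgebraNormalizer K ⊓ S ≤ X := by
    intro h hh
    rw [hX]
    obtain ⟨m, hm⟩ := hnorm h hh.1
    refine norm_le e hF _ ?_ m (htrans h m hm)
    exact S.mul_mem (S.mul_mem (S.inv_mem hsS) hh.2) hsS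
  have h2 : X ≤ S := by
    intro x hx
    rw [hX] at hx
    obtain ⟨r, hr⟩ := hx
    have hrS : Ψ e r ∈ S := Ψ_mem e hF r
    rw [hr] at hrS
    have := S.mul_mem (S.mul_mem hsS hrS) (S.inv_mem hsS)
    convert this using 1
    group
  rcases hmax.2 X h1 h2 with h | h
  · -- `X = H` is impossible
    have hx : s * x₀F e * s⁻¹ ∈ X := by
      rw [hX]
      refine ⟨Cfsg.Agent.S0255.L 1, ?_⟩
      show x₀F e = _
      group
    rw [h] at hx
    obtain ⟨m, hm⟩ := hnorm _ hx.1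
    have := htrans _ m hm
    apply x₀F_not_norm e m
    convert this using 2 <;> group
  · -- `X = S` is impossible
    have hx : s * M₀F e * s⁻¹ ∈ S :=
      S.mul_mem (S.mul_mem hsS (M₀F_mem e hF)) (S.inv_mem hsS)
    rw [← h, hX] at hx
    apply M₀F_not_mem e
    convert hx using 1
    group

end Cfsg.Agent.Lib.Helper61_SU36_E3a
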