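import Mathlib
import Cfsg.Prelude.Def_Classical
import Cfsg.Agent.Lib.Helper61_SUTransfer
import Cfsg.Agent.Lib.Helper61_U42Table

/-!
# Helper61_U42Bridge

Bridging lemmas between the numeric table of `Helper61_U42Table` and matrices: the coded row
operations agree with right multiplication by the generators, on the unitary side (over `F4`) and
on the symplectic side (over `ZMod 3`), giving the step lemma `step` for the table map `T`.
-/

set_option autoImplicit false

namespace Cfsg.Agent.Lib.Helper61_U42Bridge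

open Cfsg.Agent.Lib.Helper61_F4 Cfsg.Agent.Lib.Helper61_U42Table Matrix

abbrev I := Fin 2 ⊕ Fin 2

/-! ### The unitary side -/

/-- Code of a row over `F4`. -/
def encRow4 (v : Fin 4 → F4) : ℕ :=
  F4.idx (v 0) + 4 * F4.idx (v 1) + 16 * F4.idx (v 2) + 64 * F4.idx (v 3)

theorem encRow4_lt (v : Fin 4 → F4) : encRow4 v < 256 := by
  have h0 := F4.idx_lt (v 0)
  have h1 := F4.idx_lt (v 1)
  have h2 := F4.idx_lt (v 2)
  have h3 := F4.idx_lt (v 3)
  unfold encRow4
  omega

/-- Explicit row-times-matrix. -/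
def vm4 (v : Fin 4 → F4) (M : Matrix (Fin 4) (Fin 4) F4) : Fin 4 → F4 :=
  fun j => v 0 * M 0 j + v 1 * M 1 j + v 2 * M 2 j + v 3 * M 3 j

theorem vecMul_eq_vm4 (v : Fin 4 → F4) (M : Matrix (Fin 4) (Fin 4) F4) : v ᵥ* M = vm4 v M := by
  funext j
  simp only [Matrix.vecMul, dotProduct, Fin.sum_univ_four, vm4]

set_option maxRecDepth 100000 in
theorem rop_check : ∀ x0 x1 x2 x3 : F4, ∀ s : Fin 3,
    encRow4 (vm4 ![x0, x1, x2, x3] (genA s)) = rop s (encRow4 ![x0, x1, x2, x3]) := by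
  decide +kernel

theorem encRow4_vecMul (v : Fin 4 → F4) (s : Fin 3) :
    encRow4 (v ᵥ* genA s) = rop s (encRow4 v) := by
  have hv : ![v 0, v 1, v 2, v 3] = v := by
    funext i; fin_cases i <;> rfl
  have h := rop_check (v 0) (v 1) (v 2) (v 3) s
  rw [hv] at h
  rw [vecMul_eq_vm4]; exact h

/-- Column orthonormality. -/
def Cols4 (M : Matrix (Fin 4) (Fin 4) F4) : Prop :=
  ∀ i j : Fin 4, M 0 i * M 0 j ^ 2 + M 1 i * M 1 j ^ 2 + M 2 i * M 2 j ^ 2 + M 3 i * M 3 j ^ 2 =
    if i = j then 1 else 0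

instance (M : Matrix (Fin 4) (Fin 4) F4) : Decidable (Cols4 M) := by
  unfold Cols4; infer_instance

theorem mem_SU_of_cols4 (g : SpecialLinearGroup (Fin 4) F4) (H : Cols4 g.1) :
    g ∈ Cfsg.SU 4 F4 2 := by
  rw [Cfsg.Agent.Lib.Helper61_SUTransfer.mem_SU_iff]
  intro u v
  generalize g.1 = M at H
  have h00 := H 0 0
  have h01 := H 0 1
  have h02 := H 0 2
  have h03 := H 0 3
  have h10 := H 1 0
  have h11 := H 1 1
  have h12 := H 1 2
  have h13 := H 1 3
  have h20 := H 2 0
  have h21 := H 2 1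
  have h22 := H 2 2
  have h23 := H 2 3
  have h30 := H 3 0
  have h31 := H 3 1
  have h32 := H 3 2
  have h33 := H 3 3
  simp only [Fin.isValue, if_true, Fin.reduceEq, if_false] at h00 h01 h02 h03 h10 h11 h12 h13 h20 h21 h22 h23 h30 h31 h32 h33
  unfold Cfsg.hermForm
  simp only [Matrix.mulVec, dotProduct, Fin.sum_univ_four, F4.frob_add, mul_pow]
  linear_combination (u 0 * v 0 ^ 2) * h00 + (u 0 * v 1 ^ 2) * h01 + (u 0 * v 2 ^ 2) * h02 + (u 0 * v 3 ^ 2) * h03 +
    (u 1 * v 0 ^ 2) * h10 + (u 1 * v 1 ^ 2) * h11 + (u 1 * v 2 ^ 2) * h12 + (u 1 * v 3 ^ 2) * h13 +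
    (u 2 * v 0 ^ 2) * h20 + (u 2 * v 1 ^ 2) * h21 + (u 2 * v 2 ^ 2) * h22 + (u 2 * v 3 ^ 2) * h23 +
    (u 3 * v 0 ^ 2) * h30 + (u 3 * v 1 ^ 2) * h31 + (u 3 * v 2 ^ 2) * h32 + (u 3 * v 3 ^ 2) * h33

set_option maxRecDepth 100000 in
theorem genA_cols : ∀ s : Fin 3, Cols4 (genA s) := by decide +kernel

set_option maxRecDepth 100000 in
theorem genA_det : ∀ s : Fin 3, (genA s).det = 1 := by
  simp only [Matrix.det_apply]
  decide +kernel

set_option maxRecDepth 100000 in
theorem genA_inv : genA 0 * genA 0 = 1 ∧ genA 1 * genA 2 = 1 ∧ genA 2 * genA 1 = 1 := by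
  decide +kernel

/-! ### The symplectic side -/

def posI : I → Fin 4
  | .inl i => ⟨i.val, by omega⟩
  | .inr i => ⟨2 + i.val, by omega⟩

def ofD : ℕ → ZMod 3
  | 0 => 0
  | 1 => 1
  | _ => 2

/-- Decode a row code. -/
def dec3 (v : ℕ) : I → ZMod 3 := fun q => ofD (v / 3 ^ (posI q).val % 3)

/-- Decode a matrix code. -/
def decM (c : ℕ) : Matrix I I (ZMod 3) := fun p q => dec3 (row c (posI p).val) q

/-- The three generators on the symplectic side. -/
def genS (s : Fin 3) : Matrix I I (ZMod 3) := decM (codeS s)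

/-- Explicit row-times-matrix. -/
def vmI (u : I → ZMod 3) (M : Matrix I I (ZMod 3)) : I → ZMod 3 :=
  fun q => u (.inl 0) * M (.inl 0) q + u (.inl 1) * M (.inl 1) q + u (.inr 0) * M (.inr 0) q +
    u (.inr 1) * M (.inr 1) q

theorem vecMul_eq_vmI (u : I → ZMod 3) (M : Matrix I I (ZMod 3)) : u ᵥ* M = vmI u M := by
  funext q
  simp only [Matrix.vecMul, dotProduct, Fintype.sum_sum_type, Fin.sum_univ_two, vmI]
  ring

set_option maxRecDepth 100000 in
theorem tab_check : ∀ s : Fin 3, ∀ v : Fin 81, ∀ q : I,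
    dec3 (tabP s v.val) q = vmI (dec3 v.val) (genS s) q ∧
    dec3 (tabN s v.val) q = -(vmI (dec3 v.val) (genS s) q) := by
  decide +kernel

theorem decM_of_rel (s : Fin 3) (c c' : ℕ) (h : Rel s c c') :
    decM c' = decM c * genS s ∨ decM c' = -(decM c * genS s) := by
  have key : ∀ p q, (decM c * genS s) p q = vmI (dec3 (row c (posI p).val)) (genS s) q := by
    intro p q
    rw [Matrix.mul_apply_eq_vecMul, vecMul_eq_vmI]
    rfl
  rcases h with h | h
  · left
    apply Matrix.ext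
    intro p q
    rw [key]
    show dec3 (row c' (posI p).val) q = _
    rw [h (posI p)]
    exact (tab_check s ⟨row c (posI p).val, row_lt _ _⟩ q).1
  · right
    apply Matrix.ext
    intro p q
    rw [Matrix.neg_apply, key]
    show dec3 (row c' (posI p).val) q = _
    rw [h (posI p)]
    exact (tab_check s ⟨row c (posI p).val, row_lt _ _⟩ q).2

set_option maxRecDepth 100000 in
theorem genS_mem : ∀ s : Fin 3, genS s ∈ Matrix.symplecticGroup (Fin 2) (ZMod 3) := by
  simp only [SymplecticGroup.mem_iff]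
  decide +kernel

/-! ### The table map -/

/-- The table entry of a matrix. -/
def entry (M : Matrix (Fin 4) (Fin 4) F4) : ℕ :=
  look (encRow4 (M 0)) (encRow4 (M 1)) (encRow4 (M 2))

/-- The table map. -/
def T (M : Matrix (Fin 4) (Fin 4) F4) : Matrix I I (ZMod 3) := decM (entry M / 256)

set_option maxRecDepth 100000 in
theorem entry_one : entry 1 ≠ 0 ∧ T 1 = 1 := by
  decide +kernel

theorem step (M : Matrix (Fin 4) (Fin 4) F4) (s : Fin 3) (h : entry M ≠ 0) :
    entry (M * genA s) ≠ 0 ∧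
      (T (M * genA s) = T M * genS s ∨ T (M * genA s) = -(T M * genS s)) := by
  obtain ⟨k, hk, hsub, hmod⟩ := look_spec _ _ _ h
  have hne : sub (encRow4 (M 0)) (encRow4 (M 1)) k ≠ 0 := by rw [hsub]; exact h
  have key := gen_check _ _ k (encRow4_lt (M 0)) (encRow4_lt (M 1)) hk hne s
  rw [hmod, hsub] at key
  have e : entry (M * genA s) =
      look (rop s (encRow4 (M 0))) (rop s (encRow4 (M 1))) (rop s (encRow4 (M 2))) := by
    unfold entry
    rw [Matrix.mul_apply_eq_vecMul, Matrix.mul_apply_eq_vecMul, Matrix.mul_apply_eq_vecMul,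
      encRow4_vecMul, encRow4_vecMul, encRow4_vecMul]
  refine ⟨by rw [e]; exact key.1, ?_⟩
  unfold T
  rw [e]
  exact decM_of_rel s _ _ key.2

end Cfsg.Agent.Lib.Helper61_U42Bridge
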