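import Mathlib
import Cfsg.Prelude.Def_ClassicalGeometry
import Cfsg.Agent.S0765
import Cfsg.Agent.Lib.Helper13_SympTrans
import Cfsg.Agent.Lib.Helper61_U42Bridge

/-!
# Helper61_Sp43Gen

The three matrices `genS s` generate `Sp₄(3)`: a word in them is a symplectic transvection, explicit
words move its centre to every nonzero vector, and transvections generate (`S0765`).
-/

set_option autoImplicit false

namespace Cfsg.Agent.Lib.Helper61_Sp43Gen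

open Matrix Cfsg.Agent.Lib.Helper61_U42Table Cfsg.Agent.Lib.Helper61_U42Bridge
  Cfsg.Agent.Lib.Helper13_Symp Cfsg.Agent.Lib.Helper13_SympTrans

abbrev Sp := Matrix.symplecticGroup (Fin 2) (ZMod 3)

/-- The generators as elements of `Sp₄(3)`. -/
def genSp (s : Fin 3) : Sp := ⟨genS s, genS_mem s⟩

def wordMat (l : List (Fin 3)) : Matrix I I (ZMod 3) := (l.map genS).prod
def wordSp (l : List (Fin 3)) : Sp := (l.map genSp).prod

theorem wordSp_val (l : List (Fin 3)) : (wordSp l).1 = wordMat l := by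
  induction l with
  | nil => rfl
  | cons s l ih =>
    show ((genSp s :: l.map genSp).prod : Sp).1 = (genS s :: l.map genS).prod
    rw [List.prod_cons, List.prod_cons]
    show (genSp s).1 * (wordSp l).1 = _
    rw [ih]
    rfl

theorem wordSp_mem (l : List (Fin 3)) : wordSp l ∈ Subgroup.closure (Set.range genSp) := by
  apply Subgroup.list_prod_mem
  intro x hx
  rw [List.mem_map] at hx
  obtain ⟨s, _, rfl⟩ := hx
  exact Subgroup.subset_closure ⟨s, rfl⟩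

def wordVec (l : List (Fin 3)) (v : I → ZMod 3) : I → ZMod 3 :=
  l.foldr (fun s v => genS s *ᵥ v) v

theorem wordMat_mulVec (l : List (Fin 3)) (v : I → ZMod 3) : wordMat l *ᵥ v = wordVec l v := by
  induction l with
  | nil => simp [wordMat, wordVec]
  | cons s l ih =>
    show (genS s :: l.map genS).prod *ᵥ v = genS s *ᵥ wordVec l v
    rw [List.prod_cons, ← Matrix.mulVec_mulVec, ← ih]
    rfl

def mkVec (a b c d : ZMod 3) : I → ZMod 3 := Sum.elim ![a, b] ![c, d]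

/-- The centre of the base transvection. -/
def w0 : I → ZMod 3 := mkVec 0 1 2 2

/-- Words moving `w0` to each nonzero vector. -/
def wordTbl : List (List (Fin 3)) := [[], [2, 0, 1, 1, 0, 1, 0, 1, 0, 2, 2], [2, 0, 1, 1, 0, 1, 0, 2], [2, 2, 0, 1, 0, 1, 1, 0, 1, 0, 2], [2, 0, 2, 2, 0, 1, 1, 0, 1, 0, 2], [1, 0, 2, 2, 0, 1, 1, 0, 1, 0, 2], [0, 2, 0, 1, 1, 0, 1, 0, 2], [2, 0, 1, 1, 0, 1, 1, 0, 1, 0, 2], [1, 1, 0, 1, 1, 0, 1, 1, 0, 1, 0, 2], [2, 2, 0, 1, 1, 0, 1, 1, 0, 1, 0, 2], [1, 1, 0, 1, 0, 1, 0, 2, 2], [0, 1, 0, 2], [2, 2, 0, 1, 0, 1, 0, 2], [2, 0, 2, 0, 2, 2], [0, 1, 0], [1, 1, 0, 1, 0, 1, 0, 1, 0, 2], [2, 2, 0, 2, 0, 2, 0, 1, 0], [1, 1, 0, 2, 0, 2, 0, 1, 0], [0, 2, 2, 0, 1, 1, 0, 1, 0, 2], [0, 1, 0, 1, 0, 2, 2], [1, 1, 0, 1, 0, 2], [1, 0, 2, 0, 2, 0, 2, 0, 1, 0], [0, 1, 0, 1, 0, 2], [1, 0, 1, 0, 1, 0, 2], [0, 2, 0, 2, 0, 1, 0], [0, 2, 0, 2, 2], [2,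 0, 1, 0], [2, 2, 0, 1, 1, 0, 1, 0, 1, 0, 2, 2], [2, 0, 2, 0, 2, 0, 2, 2], [2, 0, 1, 0, 1, 0, 1, 0, 2], [0, 1, 1, 0, 1, 0, 1, 0, 2, 2], [0, 2, 0, 2, 0, 2, 2], [2, 0, 2, 0, 2, 0, 2, 0, 1, 0], [1, 0, 2], [1, 0], [1, 0, 1, 0, 1, 0, 2, 2], [1, 0, 1, 1, 0, 1, 1, 0, 1, 0, 2], [2, 2, 0, 1, 0, 1, 0, 1, 0, 2], [2, 2, 0, 2, 2], [1, 0, 2, 0, 1, 1, 0, 1, 0, 2], [1, 1, 0, 2], [1, 0, 1, 1, 0, 1, 0, 2], [1, 1, 0, 2, 2], [0, 1, 0, 1, 1, 0, 1, 0, 2], [1, 0, 2, 0, 2, 0, 1, 0], [1, 1, 0, 1, 0, 1, 1, 0, 1, 0, 2], [0, 2], [1, 1, 0, 1, 1, 0, 1, 0, 2], [1, 1, 0, 2, 2, 0, 1, 1, 0, 1, 0, 2], [0, 2, 0, 2, 0, 2, 0, 1, 0], [0, 2, 2], [1, 0, 2, 2], [0, 1, 0, 1, 0, 1, 1, 0, 1, 0, 2], [1, 1, 0, 1, 0, 1, 0, 2], [2, 2, 0, 1, 1, 0, 1, 0, 2], [0, 1, 0, 2, 0, 2, 0, 2, 0, 1, 0], [2, 0, 2, 0, 1, 0], [1, 0, 1, 0, 2, 2], [1, 0, 1, 0, 2], [2, 0, 2, 2], [0, 1, 1, 0, 1, 0, 2], [0, 1, 0, 1, 0, 1,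 0, 2], [0, 2, 0, 1, 0], [2, 0, 2, 0, 1, 1, 0, 1, 0, 2], [1, 1, 0, 1, 1, 0, 1, 0, 1, 0, 2, 2], [0, 1, 0, 2, 2], [2], [2, 0, 2, 0, 2, 0, 1, 0], [1, 0, 1, 0, 1, 1, 0, 1, 0, 2], [0, 1, 1, 0, 1, 1, 0, 1, 0, 2], [2, 2], [1, 0, 1, 0, 1, 0, 1, 0, 2], [2, 2, 0, 2, 2, 0, 1, 1, 0, 1, 0, 2], [0], [1, 1, 0, 2, 0, 2, 0, 2, 0, 1, 0], [], [2, 0, 1, 0, 1, 0, 2], [1, 1, 0, 2, 0, 1, 1, 0, 1, 0, 2], [2, 0, 1, 0, 1, 1, 0, 1, 0, 2], [1, 0, 1, 1, 0, 1, 0, 1, 0, 2, 2], [1, 1, 0, 1, 0, 2, 2]]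

def encI (y0 y1 y2 y3 : ZMod 3) : ℕ := y0.val + 3 * y1.val + 9 * y2.val + 27 * y3.val

set_option maxRecDepth 100000 in
theorem trans_check : ∀ y0 y1 y2 y3 : ZMod 3, (y0 ≠ 0 ∨ y1 ≠ 0 ∨ y2 ≠ 0 ∨ y3 ≠ 0) →
    wordVec (wordTbl.getD (encI y0 y1 y2 y3) []) w0 = mkVec y0 y1 y2 y3 := by
  decide +kernel

/-- Words for the transvections with centre `w0`. -/
def wordC (c : ZMod 3) : List (Fin 3) :=
  if c = 0 then [] else if c = 1 then [0, 1, 0, 1, 0, 1] else [2, 0, 2, 0, 2, 0]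

set_option maxRecDepth 100000 in
theorem base_check : ∀ c : ZMod 3, wordMat (wordC c) = Cfsg.sympTransvection 2 w0 c := by
  decide +kernel

theorem conj_transv (A : Sp) (w : I → ZMod 3) (c : ZMod 3) :
    A * transv 2 w c * A⁻¹ = transv 2 (A.1 *ᵥ w) c := by
  apply Subtype.ext
  apply Matrix.toLin'.injective
  apply LinearMap.ext
  intro x
  rw [Matrix.toLin'_apply, Matrix.toLin'_apply]
  show (A.1 * (transv 2 w c).1 * (A⁻¹).1) *ᵥ x = _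
  have hinv : A.1 *ᵥ ((A⁻¹).1 *ᵥ x) = x := by
    rw [Matrix.mulVec_mulVec]
    have : A.1 * (A⁻¹).1 = 1 := by
      have := congrArg Subtype.val (mul_inv_cancel A)
      exact this
    rw [this, Matrix.one_mulVec]
  rw [← Matrix.mulVec_mulVec, ← Matrix.mulVec_mulVec, transv_mulVec, transv_mulVec,
    Matrix.mulVec_add, Matrix.mulVec_smul, hinv]
  congr 2
  congr 1
  conv_rhs => rw [← hinv]
  rw [sympForm_mulVec_mulVec_of_mem 2 A.2]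

theorem transv_mem_closure (w : I → ZMod 3) (c : ZMod 3) :
    transv 2 w c ∈ Subgroup.closure (Set.range genSp) := by
  by_cases hw : w = 0
  · subst hw
    have : transv 2 (0 : I → ZMod 3) c = 1 := by
      apply Subtype.ext
      show Cfsg.sympTransvection 2 (0 : I → ZMod 3) c = 1
      simp [Cfsg.sympTransvection]
    rw [this]
    exact one_mem _
  · have hw' : w = mkVec (w (.inl 0)) (w (.inl 1)) (w (.inr 0)) (w (.inr 1)) := by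
      funext i
      rcases i with i | i <;> fin_cases i <;> rfl
    have hne : w (.inl 0) ≠ 0 ∨ w (.inl 1) ≠ 0 ∨ w (.inr 0) ≠ 0 ∨ w (.inr 1) ≠ 0 := by
      by_contra hcon
      push Not at hcon
      apply hw
      rw [hw']
      funext i
      rcases i with i | i <;> fin_cases i <;> simp [mkVec, hcon]
    have ht := trans_check _ _ _ _ hne
    rw [← hw'] at ht
    generalize wordTbl.getD _ [] = l at ht
    have h1 : (wordSp l).1 *ᵥ w0 = w := by rw [wordSp_val, wordMat_mulVec, ht]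
    have h2 : wordSp (wordC c) = transv 2 w0 c :=
      Subtype.ext (by rw [wordSp_val]; exact base_check c)
    have h3 := conj_transv (wordSp l) w0 c
    rw [h1, ← h2] at h3
    rw [← h3]
    exact mul_mem (mul_mem (wordSp_mem _) (wordSp_mem _)) (inv_mem (wordSp_mem _))

theorem closure_genSp : Subgroup.closure (Set.range genSp) = ⊤ := by
  rw [eq_top_iff, ← Cfsg.Agent.S0765.result (F := ZMod 3) 2, Subgroup.closure_le]
  rintro A ⟨w, c, hA⟩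
  have : A = transv 2 w c := Subtype.ext hA
  rw [this]
  exact transv_mem_closure w c

end Cfsg.Agent.Lib.Helper61_Sp43Gen
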