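import Mathlib
import Cfsg.Agent.Lib.Helper67_Sp4Defs

set_option autoImplicit false
set_option linter.unusedSectionVars false
set_option linter.unusedVariables false

/-!
# S5789 package EC0 (architect helper67): `K`-transvections are semilinear isometries
when `dim_K V = 2`, `B (k u) v = B u (k v)` and `B (k v) v = 0` (characteristic 2).
-/

open Cfsg.Agent.Lib.Helper94_Symp Cfsg.Agent.Lib.Helper38_SpSub1 Cfsg.Agent.Lib.Helper38_SpSub2
  Cfsg.Agent.Lib.Helper98_ExtDefs Cfsg.Agent.Lib.Helper67_Sp4Defs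

namespace Cfsg.Agent.Lib.Helper61_Sp4E_EC0

section Ext

variable {F K V : Type*} [Field F] [Field K] [Algebra F K] [AddCommGroup V] [Module F V]
  [Module K V] [IsScalarTower F K V] [Finite F] [Finite K] [Module.Finite K V] [CharP F 2]
variable {B : LinearMap.BilinForm F V} (hB : B.IsAlt) (hN : B.Nondegenerate)
  (hFK : Module.finrank F K = 2) (hKV : Module.finrank K V = 2)
  (hsa : ∀ (k : K) (u v : V), B (k • u) v = B u (k • v))
  (halt : ∀ (k : K) (v : V), B (k • v) v = 0)

/-- the `K`-transvection `x ↦ x + χ x • w` as an `F`-linear automorphism -/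
def ktv (χ : V →ₗ[K] K) (w : V) (hχ : χ w = 0) : V ≃ₗ[F] V where
  toFun x := x + χ x • w
  map_add' x y := by
    simp only [map_add, add_smul]; abel
  map_smul' c x := by
    simp only [RingHom.id_apply, smul_add]
    rw [LinearMap.map_smul_of_tower, smul_assoc]
  invFun x := x - χ x • w
  left_inv x := by
    simp only [map_add, map_smul, hχ, smul_eq_mul, mul_zero, add_zero, add_sub_cancel_right]
  right_inv x := by
    simp only [map_sub, map_smul, hχ, smul_eq_mul, mul_zero, sub_zero, sub_add_cancel]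

omit [Finite F] [Finite K] [Module.Finite K V] [CharP F 2] in
theorem ktv_apply (χ : V →ₗ[K] K) (w : V) (hχ : χ w = 0) (x : V) :
    ktv (F := F) χ w hχ x = x + χ x • w := rfl

include hKV in
omit [Finite F] [Finite K] [CharP F 2] [Algebra F K] [Module F V] [IsScalarTower F K V] in
/-- in dimension two, the kernel of a nonzero functional killing `w ≠ 0` is `K w` -/
theorem ker_eq_span {χ : V →ₗ[K] K} {w : V} (hχ : χ w = 0) (hχ0 : χ ≠ 0) (hw : w ≠ 0)
    {z : V} (hz : χ z = 0) : ∃ k : K, z = k • w := by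
  obtain ⟨v₀, hv₀⟩ : ∃ v₀, χ v₀ ≠ 0 := by
    by_contra h
    exact hχ0 (LinearMap.ext fun v => by
      by_contra hv
      exact h ⟨v, hv⟩)
  have hsurj : Function.Surjective χ := by
    intro k
    exact ⟨(k * (χ v₀)⁻¹) • v₀, by rw [map_smul, smul_eq_mul, mul_assoc, inv_mul_cancel₀ hv₀, mul_one]⟩
  have hrange : LinearMap.range χ = ⊤ := LinearMap.range_eq_top.mpr hsurj
  have hrn := χ.finrank_range_add_finrank_ker
  rw [hrange, finrank_top, Module.finrank_self, hKV] at hrn
  have hker : Module.finrank K (LinearMap.ker χ) = 1 := by omega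
  have hwk : w ∈ LinearMap.ker χ := hχ
  have hne : (⟨w, hwk⟩ : LinearMap.ker χ) ≠ 0 := by
    intro h
    exact hw (congrArg Subtype.val h)
  obtain ⟨c, hc⟩ := (finrank_eq_one_iff_of_nonzero' (⟨w, hwk⟩ : LinearMap.ker χ) hne).mp hker
    ⟨z, hz⟩
  exact ⟨c, (congrArg Subtype.val hc).symm⟩

include hB hN hFK hKV hsa halt

/-! ### EC0 : `K`-transvections are semilinear isometries -/
theorem ktv_semiIso : KtvHyp F K V (semiIso F K V B) := by
  intro χ w hχ
  refine ⟨ktv (F := F) χ w hχ, ⟨?_, RingEquiv.refl K, ?_⟩, fun x => rfl⟩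
  · -- isometry
    have : CharP K 2 := charP_of_injective_algebraMap (algebraMap F K).injective 2
    have hsym : ∀ a b : V, B a b = B b a := by
      intro a b
      rw [alt_swap B hB a b, CharTwo.neg_eq]
    intro x y
    rw [ktv_apply, ktv_apply]
    simp only [map_add, LinearMap.add_apply]
    have e1 : B x (χ y • w) = B (χ y • x) w := (hsa _ _ _).symm
    have e2 : B (χ x • w) y = B (χ x • y) w := by
      rw [hsa, hsym]
    have e3 : B (χ x • w) (χ y • w) = 0 := by
      rw [← hsa, smul_smul]; exact halt _ _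
    rw [e1, e2, e3, add_zero, add_assoc, ← LinearMap.add_apply, ← map_add]
    suffices h : B (χ y • x + χ x • y) w = 0 by rw [add_comm (χ x • y), h, add_zero]
    by_cases hχ0 : χ = 0
    · simp [hχ0]
    by_cases hw : w = 0
    · simp [hw]
    have hz : χ (χ y • x + χ x • y) = 0 := by
      simp only [map_add, map_smul, smul_eq_mul]
      rw [mul_comm (χ x) (χ y)]
      exact CharTwo.add_self_eq_zero _
    obtain ⟨k, hk⟩ := ker_eq_span hKV hχ hχ0 hw hz
    rw [hk]
    exact halt k w
  · intro k v
    rw [ktv_apply, ktv_apply]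
    simp only [map_smul, smul_eq_mul, RingEquiv.refl_apply, smul_add, smul_smul]

end Ext

end Cfsg.Agent.Lib.Helper61_Sp4E_EC0
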