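import Mathlib
import Cfsg.Agent.Lib.Helper67_Sp4Defs
import Cfsg.Agent.Lib.Helper2_Ext_TA
import Cfsg.Agent.Lib.Helper61_Sp4E_EC0

set_option autoImplicit false
set_option linter.unusedSectionVars false
set_option linter.unusedVariables false

/-!
# S5789 package EC5 (architect helper67): a subgroup between the semilinear isometries and the
isometry group that contains one nontrivial transvection is the whole isometry group.
-/

open Cfsg.Agent.Lib.Helper94_Symp Cfsg.Agent.Lib.Helper38_SpSub1 Cfsg.Agent.Lib.Helper38_SpSub2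
  Cfsg.Agent.Lib.Helper98_ExtDefs Cfsg.Agent.Lib.Helper67_Sp4Defs

namespace Cfsg.Agent.Lib.Helper61_Sp4E_EC5

section Ext

variable {F K V : Type*} [Field F] [Field K] [Algebra F K] [AddCommGroup V] [Module F V]
  [Module K V] [IsScalarTower F K V] [Finite F] [Finite K] [Module.Finite K V] [CharP F 2]
variable {B : LinearMap.BilinForm F V} (hB : B.IsAlt) (hN : B.Nondegenerate)
  (hFK : Module.finrank F K = 2) (hKV : Module.finrank K V = 2)
  (hsa : ∀ (k : K) (u v : V), B (k • u) v = B u (k • v))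
  (halt : ∀ (k : K) (v : V), B (k • v) v = 0)

include hB hN hFK hKV hsa halt

variable {X : Subgroup (V ≃ₗ[F] V)} (hNX : semiIso F K V B ≤ X) (hXI : X ≤ isoGroup B)

include hNX hXI

/-! ### EC5 : one transvection gives everything -/
theorem iso_le_of_tv {w : V} (hw : w ≠ 0) {c : F} (hc : c ≠ 0) (h : stv B hB w c ∈ X) :
    isoGroup B ≤ X := by
  have hktv : KtvHyp F K V (semiIso F K V B) :=
    Cfsg.Agent.Lib.Helper61_Sp4E_EC0.ktv_semiIso hB hN hFK hKV hsa halt
  -- `stv v c ∈ X` for every `v`
  have h1 : ∀ v : V, stv B hB v c ∈ X := by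
    intro v
    by_cases hv : v = 0
    · rw [hv, stv_zero]; exact X.one_mem
    obtain ⟨g, hg, hgw⟩ := Cfsg.Agent.Lib.Helper2_Ext_TA.exists_move (F := F) (K := K)
      (by omega : 2 ≤ Module.finrank K V) hktv w v hw hv
    have hgX : g ∈ X := hNX hg
    rw [← hgw, ← conj_stv B hB hg.1]
    exact X.mul_mem (X.mul_mem hgX h) (X.inv_mem hgX)
  have : Finite V := Module.finite_of_finite K
  have : Module.Finite F V := Module.Finite.of_finite
  apply isoGroup_le_of_stv_mem B hB hN X
  intro v d
  obtain ⟨μ, hμ⟩ := FiniteField.isSquare_of_char_two (ringChar.eq F 2) (d * c⁻¹)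
  have h2 := h1 (μ • v)
  rw [stv_smul, ← hμ, mul_assoc, inv_mul_cancel₀ hc, mul_one] at h2
  exact h2

end Ext

end Cfsg.Agent.Lib.Helper61_Sp4E_EC5
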