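import Mathlib
import Cfsg.Agent.Lib.Helper67_Sp4Defs

set_option autoImplicit false
set_option linter.unusedSectionVars false
set_option linter.unusedVariables false

/-!
# S5789 package EC6 (architect helper67): the semilinear isometries form a PROPER subgroup
of the isometry group.
-/

open Cfsg.Agent.Lib.Helper94_Symp Cfsg.Agent.Lib.Helper38_SpSub1 Cfsg.Agent.Lib.Helper38_SpSub2
  Cfsg.Agent.Lib.Helper98_ExtDefs Cfsg.Agent.Lib.Helper67_Sp4Defs

namespace Cfsg.Agent.Lib.Helper61_Sp4E_EC6

section Ext

variable {F K V : Type*} [Field F] [Field K] [Algebra F K] [AddCommGroup V] [Module F V]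
  [Module K V] [IsScalarTower F K V] [Finite F] [Finite K] [Module.Finite K V] [CharP F 2]
variable {B : LinearMap.BilinForm F V} (hB : B.IsAlt) (hN : B.Nondegenerate)
  (hFK : Module.finrank F K = 2) (hKV : Module.finrank K V = 2)
  (hsa : ∀ (k : K) (u v : V), B (k • u) v = B u (k • v))
  (halt : ∀ (k : K) (v : V), B (k • v) v = 0)

include hB hN hFK hKV hsa halt

/-! ### EC6 : properness -/
theorem semiIso_lt : semiIso F K V B < isoGroup B := by
  refine lt_of_le_of_ne (fun g hg => hg.1) ?_
  intro heq
  -- a nonzero vector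
  have hnt : Nontrivial V := by
    apply Module.nontrivial_of_finrank_pos (R := K)
    omega
  obtain ⟨w, hw⟩ := exists_ne (0 : V)
  have hmem : stv B hB w 1 ∈ semiIso F K V B := by
    rw [heq]; exact stv_mem_isoGroup B hB w 1
  obtain ⟨-, σ, hσ⟩ := hmem
  have hww : stv B hB w 1 w = w := by
    rw [stv_apply, hB w, mul_zero, zero_smul, add_zero]
  -- σ = id
  have hσid : ∀ k : K, σ k = k := by
    intro k
    have h1 := hσ k w
    rw [hww, stv_apply, halt k w, mul_zero, zero_smul, add_zero] at h1
    exact (smul_left_injective K hw h1).symm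
  -- a vector `v` with `B v w = 1`
  obtain ⟨v₀, hv₀⟩ : ∃ v₀, B v₀ w ≠ 0 := by
    by_contra h
    apply hw
    apply hN.2 w
    intro y
    by_contra hy
    exact h ⟨y, hy⟩
  set v := (B v₀ w)⁻¹ • v₀ with hv
  have hvw : B v w = 1 := by
    rw [hv, map_smul, LinearMap.smul_apply, smul_eq_mul, inv_mul_cancel₀ hv₀]
  -- every `k` is in the image of `F`
  have hsurj : Function.Surjective (algebraMap F K) := by
    intro k
    have h1 := hσ k v
    rw [hσid, stv_apply, stv_apply, hvw, one_mul, mul_one, one_smul, smul_add, add_right_inj] at h1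
    refine ⟨B (k • v) w, ?_⟩
    rw [← algebraMap_smul K (B (k • v) w) w] at h1
    exact smul_left_injective K hw h1
  have h1 : Module.finrank F K ≤ Module.finrank F F :=
    LinearMap.finrank_le_finrank_of_surjective (f := Algebra.linearMap F K) hsurj
  rw [Module.finrank_self, hFK] at h1
  omega

end Ext

end Cfsg.Agent.Lib.Helper61_Sp4E_EC6
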