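import Mathlib
import Cfsg.Agent.Lib.Helper61_AffineSpec

/-!
# Helper61_Spec2O

The binary octahedral group `2O` (order `48`) as an explicit list of `2 × 2` matrices over
`(ℤ/13)[√2]`, acting fixed-point-freely on `((ℤ/13)[√2])²`; the resulting Frobenius group
`13⁴ : 2O` is solvable with spectrum `{1,2,3,4,6,8,13}` (that of `PSL₃(3)`).
-/

set_option autoImplicit false

namespace Cfsg.Agent.Lib.Helper61_Spec2O

open Matrix

/-- `(ℤ/13)[√2]`. -/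
abbrev R13 : Type := QuadraticAlgebra (ZMod 13) 2 0

instance : Finite R13 := Finite.of_equiv _ (QuadraticAlgebra.equivProd (2 : ZMod 13) 0).symm

instance : Nontrivial R13 := ⟨⟨0, 1, by decide +kernel⟩⟩

/-- The matrix with entries `a + b√2`, `c + d√2`, `e + f√2`, `g + h√2`. -/
def mk8 (a b c d e f g h : ZMod 13) : Matrix (Fin 2) (Fin 2) R13 :=
  !![⟨a, b⟩, ⟨c, d⟩; ⟨e, f⟩, ⟨g, h⟩]

/-- The 48 elements of `2O`. -/
def L : List (Matrix (Fin 2) (Fin 2) R13) :=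
  [mk8 1 0 0 0 0 0 1 0,
    mk8 0 0 0 2 0 3 0 0,
    mk8 0 0 0 3 0 2 0 0,
    mk8 0 0 0 10 0 11 0 0,
    mk8 0 0 0 11 0 10 0 0,
    mk8 0 0 1 0 12 0 0 0,
    mk8 0 0 5 0 5 0 0 0,
    mk8 0 0 8 0 8 0 0 0,
    mk8 0 0 12 0 1 0 0 0,
    mk8 0 2 0 0 0 0 0 10,
    mk8 0 3 0 0 0 0 0 11,
    mk8 0 4 0 4 0 4 0 9,
    mk8 0 4 0 6 0 7 0 9,
    mk8 0 4 0 7 0 6 0 9,
    mk8 0 4 0 9 0 9 0 9,
    mk8 0 6 0 4 0 4 0 6,
    mk8 0 6 0 6 0 7 0 6,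
    mk8 0 6 0 7 0 6 0 6,
    mk8 0 6 0 9 0 9 0 6,
    mk8 0 7 0 4 0 4 0 7,
    mk8 0 7 0 6 0 7 0 7,
    mk8 0 7 0 7 0 6 0 7,
    mk8 0 7 0 9 0 9 0 7,
    mk8 0 9 0 4 0 4 0 4,
    mk8 0 9 0 6 0 7 0 4,
    mk8 0 9 0 7 0 6 0 4,
    mk8 0 9 0 9 0 9 0 4,
    mk8 0 10 0 0 0 0 0 2,
    mk8 0 11 0 0 0 0 0 3,
    mk8 2 0 2 0 3 0 10 0,
    mk8 2 0 3 0 2 0 10 0,
    mk8 2 0 10 0 11 0 10 0,
    mk8 2 0 11 0 10 0 10 0,
    mk8 3 0 2 0 3 0 11 0,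
    mk8 3 0 3 0 2 0 11 0,
    mk8 3 0 10 0 11 0 11 0,
    mk8 3 0 11 0 10 0 11 0,
    mk8 5 0 0 0 0 0 8 0,
    mk8 8 0 0 0 0 0 5 0,
    mk8 10 0 2 0 3 0 2 0,
    mk8 10 0 3 0 2 0 2 0,
    mk8 10 0 10 0 11 0 2 0,
    mk8 10 0 11 0 10 0 2 0,
    mk8 11 0 2 0 3 0 3 0,
    mk8 11 0 3 0 2 0 3 0,
    mk8 11 0 10 0 11 0 3 0,
    mk8 11 0 11 0 10 0 3 0,
    mk8 12 0 0 0 0 0 12 0]

/-- Explicit product of `2 × 2` matrices. -/
def mul2 (A B : Matrix (Fin 2) (Fin 2) R13) : Matrix (Fin 2) (Fin 2) R13 :=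
  fun i j => A i 0 * B 0 j + A i 1 * B 1 j

theorem mul2_eq (A B : Matrix (Fin 2) (Fin 2) R13) : mul2 A B = A * B := by
  apply Matrix.ext
  intro i j
  rw [Matrix.mul_apply, Fin.sum_univ_two]; rfl

def sq2 (A : Matrix (Fin 2) (Fin 2) R13) : Matrix (Fin 2) (Fin 2) R13 := mul2 A A

theorem sq2_eq (A : Matrix (Fin 2) (Fin 2) R13) : sq2 A = A ^ 2 := by
  rw [sq2, mul2_eq, pow_two]

/-- `det (A - 1)`, written out. -/
def dm (A : Matrix (Fin 2) (Fin 2) R13) : R13 := (A 0 0 - 1) * (A 1 1 - 1) - A 0 1 * A 1 0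

theorem dm_eq (A : Matrix (Fin 2) (Fin 2) R13) : (A - 1).det = dm A := by
  rw [Matrix.det_fin_two]
  simp [dm]

/-- Inverse in `(ℤ/13)[√2]` (conjugate over norm). -/
def inv13 (x : R13) : R13 :=
  ⟨x.re * (x.re * x.re - 2 * x.im * x.im) ^ 11, -x.im * (x.re * x.re - 2 * x.im * x.im) ^ 11⟩

theorem one_mem : (1 : Matrix (Fin 2) (Fin 2) R13) ∈ L := by decide +kernel

set_option maxRecDepth 100000 in
theorem mul_mem' : ∀ A ∈ L, ∀ B ∈ L, mul2 A B ∈ L := by decide +kernel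

theorem mul_mem : ∀ A ∈ L, ∀ B ∈ L, A * B ∈ L := by
  intro A hA B hB
  rw [← mul2_eq]
  exact mul_mem' A hA B hB

set_option maxRecDepth 100000 in
theorem pow_mem' : ∀ A ∈ L, sq2 (sq2 (sq2 A)) = 1 ∨ mul2 (sq2 (sq2 A)) (sq2 A) = 1 := by
  decide +kernel

theorem pow_mem : ∀ A ∈ L, A ^ 8 = 1 ∨ A ^ 6 = 1 := by
  intro A hA
  rcases pow_mem' A hA with h | h
  · left
    simp only [sq2_eq] at h
    rw [← h, ← pow_mul, ← pow_mul]
  · right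
    simp only [sq2_eq, mul2_eq] at h
    rw [← h, ← pow_mul, ← pow_add]

set_option maxRecDepth 100000 in
theorem fpf' : ∀ A ∈ L, A ≠ 1 → inv13 (dm A) * dm A = 1 := by decide +kernel

theorem fpf : ∀ A ∈ L, A ≠ 1 → IsUnit (A - 1).det := by
  intro A hA h1
  rw [dm_eq]
  exact IsUnit.of_mul_eq_one (inv13 (dm A)) (by rw [mul_comm]; exact fpf' A hA h1)

/-- An element of order `8`. -/
def s8 : Matrix (Fin 2) (Fin 2) R13 := mk8 0 3 0 0 0 0 0 11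
/-- An element of order `6`. -/
def t6 : Matrix (Fin 2) (Fin 2) R13 := mk8 3 0 3 0 2 0 11 0

theorem s8_facts : s8 ∈ L ∧ sq2 (sq2 (sq2 s8)) = 1 ∧ sq2 (sq2 s8) ≠ 1 := by decide +kernel

theorem t6_facts : t6 ∈ L ∧ mul2 (sq2 (sq2 t6)) (sq2 t6) = 1 ∧ sq2 t6 ≠ 1 ∧
    mul2 (sq2 t6) t6 ≠ 1 := by decide +kernel

theorem orderOf_s8 : orderOf s8 = 8 := by
  obtain ⟨_, h2, h3⟩ := s8_facts
  simp only [sq2_eq] at h2 h3
  rw [← pow_mul, ← pow_mul] at h2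
  rw [← pow_mul] at h3
  exact orderOf_eq_prime_pow (p := 2) (n := 2) h3 h2

theorem orderOf_t6 : orderOf t6 = 6 := by
  obtain ⟨_, h2, h3, h4⟩ := t6_facts
  simp only [sq2_eq, mul2_eq] at h2 h3 h4
  rw [← pow_mul, ← pow_add] at h2
  rw [← pow_succ] at h4
  apply orderOf_eq_of_pow_and_pow_div_prime (by norm_num) h2
  intro p hp hpd
  have hle : p ≤ 6 := Nat.le_of_dvd (by norm_num) hpd
  interval_cases p
  · exact absurd hp (by norm_num)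
  · exact absurd hp (by norm_num)
  · exact h4
  · exact h3
  · exact absurd hpd (by norm_num)
  · exact absurd hpd (by norm_num)
  · exact absurd hp (by norm_num)

theorem char13 (r : R13) : 13 • r = 0 := by
  have h13 : (13 : R13) = 0 := by decide +kernel
  rw [nsmul_eq_mul, Nat.cast_ofNat, h13, zero_mul]

/-- A solvable group with the spectrum `{1,2,3,4,6,8,13}`. -/
theorem exists_twin : ∃ (H : Type) (_ : Group H) (_ : Fintype H), Group.IsSolvable H ∧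
    Set.range (orderOf : H → ℕ) = {d | d ∣ 8 ∨ d ∣ 6 ∨ d ∣ 13} :=
  Cfsg.Agent.Lib.Helper61_AffineSpec.exists_solvable_twin 13 8 6 (by norm_num) (by norm_num)
    (by norm_num) (Cfsg.Agent.Lib.Helper61_AffineSpec.primeFactors_subset 4 1) char13 L one_mem mul_mem pow_mem fpf s8 t6 s8_facts.1
    t6_facts.1 orderOf_s8 orderOf_t6

end Cfsg.Agent.Lib.Helper61_Spec2O
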