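import Mathlib
import Cfsg.Agent.Lib.Helper61_AffineSpec

/-!
# Helper61_SpecC3C8

The group `C₃ ⋊ C₈` (order `24`, `C₈` acting by inversion) as an explicit list of `2 × 2` matrices
over `(ℤ/7)[i]`, acting fixed-point-freely on `((ℤ/7)[i])²`; the resulting Frobenius group
`7⁴ : (C₃ ⋊ C₈)` is solvable with spectrum `{1,2,3,4,6,7,8,12}` (that of `PSU₃(3)`).
-/

set_option autoImplicit false

namespace Cfsg.Agent.Lib.Helper61_SpecC3C8

open Matrix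

/-- `(ℤ/7)[i]`. -/
abbrev R7 : Type := QuadraticAlgebra (ZMod 7) 6 0

instance : Finite R7 := Finite.of_equiv _ (QuadraticAlgebra.equivProd (6 : ZMod 7) 0).symm

instance : Nontrivial R7 := ⟨⟨0, 1, by decide +kernel⟩⟩

/-- The matrix with entries `a + b i`, `c + d i`, `e + f i`, `g + h i`. -/
def mk8 (a b c d e f g h : ZMod 7) : Matrix (Fin 2) (Fin 2) R7 :=
  !![⟨a, b⟩, ⟨c, d⟩; ⟨e, f⟩, ⟨g, h⟩]

/-- The 24 elements of `C₃ ⋊ C₈`. -/
def L : List (Matrix (Fin 2) (Fin 2) R7) :=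
  [mk8 1 0 0 0 0 0 1 0,
    mk8 0 0 0 1 6 0 0 0,
    mk8 0 0 0 2 3 0 0 0,
    mk8 0 0 0 3 2 0 0 0,
    mk8 0 0 0 4 5 0 0 0,
    mk8 0 0 0 5 4 0 0 0,
    mk8 0 0 0 6 1 0 0 0,
    mk8 0 0 1 0 0 1 0 0,
    mk8 0 0 2 0 0 4 0 0,
    mk8 0 0 3 0 0 5 0 0,
    mk8 0 0 4 0 0 2 0 0,
    mk8 0 0 5 0 0 3 0 0,
    mk8 0 0 6 0 0 6 0 0,
    mk8 0 1 0 0 0 0 0 1,
    mk8 0 2 0 0 0 0 0 4,
    mk8 0 3 0 0 0 0 0 5,
    mk8 0 4 0 0 0 0 0 2,
    mk8 0 5 0 0 0 0 0 3,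
    mk8 0 6 0 0 0 0 0 6,
    mk8 2 0 0 0 0 0 4 0,
    mk8 3 0 0 0 0 0 5 0,
    mk8 4 0 0 0 0 0 2 0,
    mk8 5 0 0 0 0 0 3 0,
    mk8 6 0 0 0 0 0 6 0]

/-- Explicit product of `2 × 2` matrices. -/
def mul2 (A B : Matrix (Fin 2) (Fin 2) R7) : Matrix (Fin 2) (Fin 2) R7 :=
  fun i j => A i 0 * B 0 j + A i 1 * B 1 j

theorem mul2_eq (A B : Matrix (Fin 2) (Fin 2) R7) : mul2 A B = A * B := by
  apply Matrix.ext
  intro i j
  rw [Matrix.mul_apply, Fin.sum_univ_two]; rfl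

def sq2 (A : Matrix (Fin 2) (Fin 2) R7) : Matrix (Fin 2) (Fin 2) R7 := mul2 A A

theorem sq2_eq (A : Matrix (Fin 2) (Fin 2) R7) : sq2 A = A ^ 2 := by
  rw [sq2, mul2_eq, pow_two]

/-- `det (A - 1)`, written out. -/
def dm (A : Matrix (Fin 2) (Fin 2) R7) : R7 := (A 0 0 - 1) * (A 1 1 - 1) - A 0 1 * A 1 0

theorem dm_eq (A : Matrix (Fin 2) (Fin 2) R7) : (A - 1).det = dm A := by
  rw [Matrix.det_fin_two]
  simp [dm]

/-- Inverse in `(ℤ/7)[i]` (conjugate over norm). -/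
def inv7 (x : R7) : R7 :=
  ⟨x.re * (x.re * x.re + x.im * x.im) ^ 5, -x.im * (x.re * x.re + x.im * x.im) ^ 5⟩

theorem one_mem : (1 : Matrix (Fin 2) (Fin 2) R7) ∈ L := by decide +kernel

set_option maxRecDepth 100000 in
theorem mul_mem' : ∀ A ∈ L, ∀ B ∈ L, mul2 A B ∈ L := by decide +kernel

theorem mul_mem : ∀ A ∈ L, ∀ B ∈ L, A * B ∈ L := by
  intro A hA B hB
  rw [← mul2_eq]
  exact mul_mem' A hA B hB

set_option maxRecDepth 100000 in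
theorem pow_mem' : ∀ A ∈ L, sq2 (sq2 (sq2 A)) = 1 ∨
    mul2 (sq2 (sq2 (sq2 A))) (sq2 (sq2 A)) = 1 := by
  decide +kernel

theorem pow_mem : ∀ A ∈ L, A ^ 8 = 1 ∨ A ^ 12 = 1 := by
  intro A hA
  rcases pow_mem' A hA with h | h
  · left
    simp only [sq2_eq] at h
    rw [← h, ← pow_mul, ← pow_mul]
  · right
    simp only [sq2_eq, mul2_eq] at h
    rw [← h, ← pow_mul, ← pow_mul, ← pow_mul, ← pow_add]

set_option maxRecDepth 100000 in
theorem fpf' : ∀ A ∈ L, A ≠ 1 → inv7 (dm A) * dm A = 1 := by decide +kernel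

theorem fpf : ∀ A ∈ L, A ≠ 1 → IsUnit (A - 1).det := by
  intro A hA h1
  rw [dm_eq]
  exact IsUnit.of_mul_eq_one (inv7 (dm A)) (by rw [mul_comm]; exact fpf' A hA h1)

/-- An element of order `8`. -/
def s8 : Matrix (Fin 2) (Fin 2) R7 := mk8 0 0 0 1 6 0 0 0
/-- An element of order `12`. -/
def t12 : Matrix (Fin 2) (Fin 2) R7 := mk8 0 2 0 0 0 0 0 4

theorem s8_facts : s8 ∈ L ∧ sq2 (sq2 (sq2 s8)) = 1 ∧ sq2 (sq2 s8) ≠ 1 := by decide +kernel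

theorem t12_facts : t12 ∈ L ∧ mul2 (sq2 (sq2 (sq2 t12))) (sq2 (sq2 t12)) = 1 ∧
    mul2 (sq2 (sq2 t12)) (sq2 t12) ≠ 1 ∧ sq2 (sq2 t12) ≠ 1 := by decide +kernel

theorem orderOf_s8 : orderOf s8 = 8 := by
  obtain ⟨_, h2, h3⟩ := s8_facts
  simp only [sq2_eq] at h2 h3
  rw [← pow_mul, ← pow_mul] at h2
  rw [← pow_mul] at h3
  exact orderOf_eq_prime_pow (p := 2) (n := 2) h3 h2

theorem orderOf_t12 : orderOf t12 = 12 := by
  obtain ⟨_, h2, h3, h4⟩ := t12_facts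
  simp only [sq2_eq, mul2_eq] at h2 h3 h4
  rw [← pow_mul, ← pow_mul, ← pow_mul, ← pow_add] at h2
  rw [← pow_mul, ← pow_add] at h3
  rw [← pow_mul] at h4
  apply orderOf_eq_of_pow_and_pow_div_prime (by norm_num) h2
  intro p hp hpd
  have hle : p ≤ 12 := Nat.le_of_dvd (by norm_num) hpd
  interval_cases p
  · exact absurd hp (by norm_num)
  · exact absurd hp (by norm_num)
  · exact h3
  · exact h4
  · exact absurd hp (by norm_num)
  · exact absurd hpd (by norm_num)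
  · exact absurd hp (by norm_num)
  · exact absurd hpd (by norm_num)
  · exact absurd hp (by norm_num)
  · exact absurd hp (by norm_num)
  · exact absurd hp (by norm_num)
  · exact absurd hpd (by norm_num)
  · exact absurd hp (by norm_num)

theorem char7 (r : R7) : 7 • r = 0 := by
  have h7 : (7 : R7) = 0 := by decide +kernel
  rw [nsmul_eq_mul, Nat.cast_ofNat, h7, zero_mul]

/-- A solvable group with the spectrum `{1,2,3,4,6,7,8,12}`. -/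
theorem exists_twin : ∃ (H : Type) (_ : Group H) (_ : Fintype H), Group.IsSolvable H ∧
    Set.range (orderOf : H → ℕ) = {d | d ∣ 8 ∨ d ∣ 12 ∨ d ∣ 7} :=
  Cfsg.Agent.Lib.Helper61_AffineSpec.exists_solvable_twin 7 8 12 (by norm_num) (by norm_num)
    (by norm_num) (Cfsg.Agent.Lib.Helper61_AffineSpec.primeFactors_subset 5 1) char7 L one_mem
    mul_mem pow_mem fpf s8 t12 s8_facts.1 t12_facts.1 orderOf_s8 orderOf_t12

end Cfsg.Agent.Lib.Helper61_SpecC3C8
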