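import Mathlib
import Cfsg.Agent.Lib.Helper68_StOoDefs
import Cfsg.Agent.Lib.Helper68_StAbs
import Cfsg.Agent.Lib.Helper75_Clifford
import Cfsg.Agent.S0298
import Cfsg.Agent.S0301
import Cfsg.Agent.S2544
import Cfsg.Agent.S2545

set_option autoImplicit false
set_option linter.unusedSectionVars false

/-!
S2547 (Steinberg character of `PΩ_{2m+1}(q)`), market StOo (architect helper68), package LOW: the cases `m = 1, 2` by the
exceptional isomorphisms, and the general transport lemma for the Steinberg conclusion along a group isomorphism.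
-/

namespace Cfsg.Agent.Lib.Helper61_StOo_LOW

open Matrix Cfsg.Agent.Lib.Helper68_MatGrp Cfsg.Agent.Lib.Helper68_StOoDefs

/-- Transport of the conclusion "there is an irreducible character of degree `|P|` vanishing on `P \ 1` for all Sylow
`p`-subgroups `P`" along an isomorphism `K ≃* L`. -/
theorem transport_steinberg_equiv {K L : Type*} [Group K] [Group L] [Finite L] (e : K ≃* L) (p : ℕ)
    [Fact p.Prime]
    (h : ∃ χ : L → ℂ, Cfsg.IsIrrCharacter L χ ∧ ∀ P : Sylow p L, χ 1 = Nat.card P ∧
      ∀ x : L, x ∈ P → x ≠ 1 → χ x = 0) :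
    ∃ χ : K → ℂ, Cfsg.IsIrrCharacter K χ ∧ ∀ P : Sylow p K, χ 1 = Nat.card P ∧
      ∀ x : K, x ∈ P → x ≠ 1 → χ x = 0 := by
  obtain ⟨χ, hχ, hP⟩ := h
  refine ⟨fun k => χ (e k), Cfsg.Agent.Lib.Helper75_Clifford.isIrrCharacter_comp_equiv e hχ, fun P => ?_⟩
  have hrange : (P : Subgroup K) ≤ e.symm.toMonoidHom.range := by
    rw [MonoidHom.range_eq_top.mpr e.symm.surjective]
    exact le_top
  set P' : Sylow p L := P.comapOfInjective e.symm.toMonoidHom e.symm.injective hrange with hP'
  obtain ⟨h1, h2⟩ := hP P'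
  have hmem : ∀ y : L, y ∈ P' ↔ e.symm y ∈ P := fun y => Iff.rfl
  have hmap : (P' : Subgroup L) = (P : Subgroup K).map e.toMonoidHom := by
    ext y
    rw [Subgroup.mem_map_equiv]
    exact hmem y
  constructor
  · show χ (e 1) = _
    rw [map_one, h1]
    congr 1
    show Nat.card (P' : Subgroup L) = Nat.card (P : Subgroup K)
    rw [hmap]
    exact Subgroup.card_map_of_injective e.injective
  · intro x hx hx1
    apply h2 (e x)
    · rw [hmem, e.symm_apply_apply]
      exact hx
    · intro h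
      apply hx1
      have h3 := congrArg e.symm h
      rwa [e.symm_apply_apply, map_one] at h3

variable {m : ℕ} {F : Type*} [Field F] [Fintype F] [NeZero (2 : F)]

/-- LOW. -/
theorem steinberg_low (p : ℕ) [Fact p.Prime] [CharP F p] (hodd : Odd (Fintype.card F))
    (hm : m = 1 ∨ m = 2) :
    ∃ χ : Cfsg.POmega F (Cfsg.quadFormOdd m F) → ℂ,
      Cfsg.IsIrrCharacter (Cfsg.POmega F (Cfsg.quadFormOdd m F)) χ ∧
      ∀ P : Sylow p (Cfsg.POmega F (Cfsg.quadFormOdd m F)), χ 1 = Nat.card P ∧
        ∀ x : Cfsg.POmega F (Cfsg.quadFormOdd m F), x ∈ P → x ≠ 1 → χ x = 0 := by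
  classical
  rcases hm with rfl | rfl
  · obtain ⟨e⟩ := Cfsg.Agent.S0298.result (F := F) hodd
    have : Finite (Matrix.SpecialLinearGroup (Fin 2) F) := Subtype.finite
    have : Finite (Matrix.ProjectiveSpecialLinearGroup (Fin 2) F) := inferInstance
    exact transport_steinberg_equiv e p (Cfsg.Agent.S2544.result (F := F) p 2 le_rfl)
  · obtain ⟨e⟩ := Cfsg.Agent.S0301.result (F := F) hodd
    have : Finite (Matrix.symplecticGroup (Fin 2) F) := Subtype.finite
    have : Finite (Cfsg.PSp 2 F) := inferInstance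
    exact transport_steinberg_equiv e p (Cfsg.Agent.S2545.result (F := F) p 2 (by norm_num))

end Cfsg.Agent.Lib.Helper61_StOo_LOW
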