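import Mathlib
import Cfsg.Agent.Lib.Helper68_StOoDefs

set_option autoImplicit false

/-!
S2547, market StOo (architect helper68), core of the package UMEM: unitriangular isometries lie in `Ω` (`q` odd), with
the statement of PGRP (`UO` is a `p`-group) as a hypothesis.
-/

namespace Cfsg.Agent.Lib.Helper61_StOo_UMEMcore

open Matrix Cfsg.Agent.Lib.Helper68_MatGrp Cfsg.Agent.Lib.Helper68_StOoDefs

variable {m : ℕ} {F : Type*} [Field F] [Fintype F] [NeZero (2 : F)]

theorem UO_le_core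
    (hPGRP : ∀ (p : ℕ) [Fact p.Prime] [CharP F p], IsPGroup p (UO m F)) :
    UO m F ≤ Cfsg.Omega F (Cfsg.quadFormOdd m F) := by
  set p := ringChar F with hp
  have : CharP F p := ringChar.charP F
  have : Fact p.Prime := ⟨CharP.char_is_prime F p⟩
  have hp2 : p ≠ 2 := by
    intro h2
    have h3 : ((p : ℕ) : F) = 0 := CharP.cast_eq_zero F p
    rw [h2] at h3
    have h4 : (2 : F) = 0 := by exact_mod_cast h3
    exact two_ne_zero h4
  have hodd : Odd p := (Fact.out : p.Prime).odd_of_ne_two hp2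
  intro g hg
  obtain ⟨k, hk⟩ := hPGRP p ⟨g, hg⟩
  have hk' : g ^ p ^ k = 1 := by
    have h3 := congrArg Subtype.val hk
    rwa [Subgroup.coe_pow] at h3
  obtain ⟨j, hj⟩ := hodd.pow (n := k)
  rw [hj, pow_succ, pow_mul] at hk'
  have h4 : g = ((g ^ 2) ^ j)⁻¹ := eq_inv_of_mul_eq_one_right hk'
  rw [h4]
  apply Subgroup.inv_mem
  apply Subgroup.pow_mem
  rw [sq]
  exact sq_mem g

end Cfsg.Agent.Lib.Helper61_StOo_UMEMcore
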