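import Mathlib
import Cfsg.Agent.Lib.Helper68_StOoDefs
import Cfsg.Agent.Lib.Helper68_StAbs
import Cfsg.Agent.Lib.Helper61_StOo_UMEMcore
import Cfsg.Agent.Lib.Helper77_StOo_PGRP

set_option autoImplicit false

/-!
S2547, market StOo (architect helper68), package UMEM: unitriangular isometries lie in `Ω` (`q` odd).
-/

namespace Cfsg.Agent.Lib.Helper61_StOo_UMEM

open Matrix Cfsg.Agent.Lib.Helper68_MatGrp Cfsg.Agent.Lib.Helper68_StOoDefs

variable {m : ℕ} {F : Type*} [Field F] [Fintype F] [NeZero (2 : F)]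

/-- UMEM. -/
theorem UO_le : UO m F ≤ Cfsg.Omega F (Cfsg.quadFormOdd m F) :=
  Cfsg.Agent.Lib.Helper61_StOo_UMEMcore.UO_le_core
    (fun p _ _ => Cfsg.Agent.Lib.Helper77_StOo_PGRP.isPGroup_UO p)

end Cfsg.Agent.Lib.Helper61_StOo_UMEM
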