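import Mathlib
import Cfsg.Agent.Lib.Helper61_FamilyIso

/-!
# Helper61_SylData1

Explicit tables for a Sylow `2`-subgroup of `Alt(8)` (order `64`) and a family of `64` matrices in
`Sp₄(3)` whose images in `PSp₄(3)` have the same multiplication tables (with respect to three
involutions generating the group).  The finite checks are done by `decide +kernel`.

The matrices are coded as numbers: the entry `(p, q)` is the base-`3` digit of weight
`3 ^ (4 * pos p + pos q)`.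
-/

set_option autoImplicit false

namespace Cfsg.Agent.Lib.Helper61_SylData1

open Matrix Cfsg.Agent.Lib.Helper61_FamilyIso

/-- Three involutions generating a Sylow `2`-subgroup of `Alt(8)`. -/
def s : Fin 3 → Equiv.Perm (Fin 8)
  | 0 => Equiv.swap 4 6 * Equiv.swap 5 7
  | 1 => Equiv.swap 2 3 * Equiv.swap 6 7
  | 2 => Equiv.swap 0 4 * Equiv.swap 1 5 * Equiv.swap 2 6 * Equiv.swap 3 7

/-- Words in the generators, in breadth-first order. -/
def words : List (List (Fin 3)) :=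
  [[], [0], [1], [2], [0, 1], [0, 2], [1, 0], [1, 2], [2, 0], [0, 1, 0], [0, 1, 2], [0, 2, 0], [1, 0, 1], [1, 0, 2], [1, 2, 0], [2, 0, 1], [2, 0, 2], [0, 1, 0, 1], [0, 1, 0, 2], [0, 1, 2, 0], [0, 2, 0, 1], [0, 2, 0, 2], [1, 0, 1, 2], [1, 0, 2, 0], [1, 2, 0, 1], [1, 2, 0, 2], [2, 0, 1, 0], [2, 0, 1, 2], [0, 1, 0, 1, 2], [0, 1, 0, 2, 0], [0, 1, 2, 0, 1], [0, 1, 2, 0, 2], [0, 2, 0, 1, 0], [0, 2, 0, 1, 2], [1, 0, 1, 2, 0], [1, 0, 2, 0, 1], [1, 0, 2, 0, 2], [1, 2, 0, 1, 0], [1, 2, 0, 1, 2], [2, 0, 1, 0, 2], [2, 0, 1, 2, 0], [0, 1, 0, 1, 2, 0], [0, 1, 0, 2, 0, 1], [0, 1, 0, 2, 0, 2], [0, 1, 2, 0, 1, 0], [0, 1, 2, 0, 1, 2], [0, 2, 0, 1, 0, 2], [0, 2, 0, 1, 2, 0], [1, 0, 1, 2, 0, 1], [1, 0, 1, 2, 0, 2], [1, 0, 2, 0, 1, 0], [1, 0, 2, 0, 1, 2], [1, 2, 0, 1, 0, 2], [2, 0, 1, 0, 2, 0], [0, 1, 0, 1, 2, 0, 1], [0, 1, 0, 1, 2, 0, 2], [0, 1, 0, 2, 0, 1, 0], [0, 1, 0, 2, 0, 1, 2], [0, 1, 2, 0, 1, 0, 2], [0, 2, 0, 1,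 0, 2, 0], [1, 0, 1, 2, 0, 1, 0], [1, 0, 2, 0, 1, 0, 2], [0, 1, 0, 1, 2, 0, 1, 0], [0, 1, 0, 2, 0, 1, 0, 2]]

/-- The multiplication table, flattened. -/
def mFlat : List ℕ :=
  [1, 2, 3, 0, 4, 5, 6, 0, 7, 8, 7, 0, 9, 1, 10, 11, 10, 1, 2, 12, 13, 14, 3, 2, 3, 15, 16, 4, 17, 18, 19, 5, 4, 5, 20, 21, 17, 6, 22, 23, 22, 6, 7, 24, 25, 26, 8, 27, 21, 27, 8, 12, 9, 28, 29, 28, 9, 10, 30, 31, 32, 11, 33, 16, 33, 11, 34, 13, 12, 13, 35, 36, 37, 14, 38, 36, 38, 14, 15, 37, 39, 40, 16, 15, 41, 18, 17, 18, 42, 43, 44, 19, 45, 43, 45, 19, 20, 44, 46, 47, 21, 20, 22, 48, 49, 50, 23, 51, 25, 51, 23, 24, 26, 52, 45, 25, 24, 53, 52, 26, 27, 49, 48, 28, 54, 55, 56, 29, 57, 31, 57, 29, 30, 32, 58, 38, 31, 30, 59, 58, 32, 33, 55, 54, 60, 34, 40, 55, 40, 34, 35, 60, 61, 57, 36, 35, 58, 39, 37, 39, 61, 60, 62, 41, 47, 49, 47, 41, 42, 62, 63, 51, 43, 42, 52, 46, 44, 46, 63, 62, 48, 50, 53, 63, 53, 50, 54, 56, 59, 61, 59,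 56]

/-- The parents in the breadth-first tree. -/
def parL : List ℕ :=
  [0, 0, 0, 0, 1, 1, 2, 2, 3, 4, 4, 5, 6, 6, 7, 8, 8, 9, 9, 10, 11, 11, 12, 13, 14, 14, 15, 15, 17, 18, 19, 19, 20, 20, 22, 23, 23, 24, 24, 26, 27, 28, 29, 29, 30, 30, 32, 33, 34, 34, 35, 35, 37, 39, 41, 41, 42, 42, 44, 46, 48, 50, 54, 56]

/-- The labels of the edges to the parents. -/
def pjL : List ℕ :=
  [0, 0, 1, 2, 1, 2, 0, 2, 0, 0, 2, 0, 1, 2, 0, 1, 2, 1, 2, 0, 1, 2, 2, 0, 1, 2, 0, 2, 2, 0, 1, 2, 0, 2, 0, 1, 2, 0, 2, 2, 0, 0, 1, 2, 0, 2, 2, 0, 1, 2, 0, 2, 2, 0, 1, 2, 0, 2, 2, 0, 0, 2, 0, 2]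

/-- The codes of the matrices. -/
def codes : List ℕ :=
  [14408200, 19429972, 41333952, 11159680, 24606574, 26968915, 20690977, 29554093, 31516014, 3182932, 12500766, 19985461, 42183282, 1678582, 32616322, 19016029, 13782577, 10421239, 11223748, 1474875, 9563608, 25389471, 40685092, 19127662, 35567590, 4547892, 3250636, 41847715, 7118409, 9335599, 30355117, 35934040, 8133694, 36733837, 27168904, 18394849, 20787997, 23793951, 36297214, 20725342, 2452102, 17816260, 19826085, 25710082, 7327576, 30287413, 2937460, 35905413, 32622462, 36667582, 10831282, 13489581, 42307249, 22933702, 931528, 29839915, 27097501, 34289140, 6042765, 24651849, 29508651, 29112589, 8825488, 38324077]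


/-- The family of permutations. -/
def x (i : Fin 64) : Equiv.Perm (Fin 8) := ((words.getD i.val []).map s).prod

/-- The indices of the generators. -/
def g (j : Fin 3) : Fin 64 := ⟨j.val + 1, by omega⟩

/-- The multiplication table. -/
def m (i : Fin 64) (j : Fin 3) : Fin 64 :=
  ⟨mFlat.getD (3 * i.val + j.val) 0 % 64, Nat.mod_lt _ (by norm_num)⟩

/-- The parent. -/
def par (i : Fin 64) : Fin 64 := ⟨parL.getD i.val 0 % 64, Nat.mod_lt _ (by norm_num)⟩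

/-- The label of the edge to the parent. -/
def pj (i : Fin 64) : Fin 3 := ⟨pjL.getD i.val 0 % 3, Nat.mod_lt _ (by norm_num)⟩

set_option maxRecDepth 100000 in
theorem tree : ∀ i : Fin 64, i ≠ 0 → m (par i) (pj i) = i ∧ (par i).val < i.val := by
  decide +kernel

set_option maxRecDepth 100000 in
theorem m_g : ∀ j : Fin 3, m (g j) j = 0 := by decide +kernel

set_option maxRecDepth 100000 in
theorem x_zero : x 0 = 1 := by decide +kernel

set_option maxRecDepth 100000 in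
theorem x_g : ∀ j : Fin 3, x (g j) = s j := by decide +kernel

set_option maxRecDepth 100000 in
theorem x_mul : ∀ i : Fin 64, ∀ j : Fin 3, x i * x (g j) = x (m i j) := by decide +kernel

set_option maxRecDepth 100000 in
theorem x_inj : ∀ i i' : Fin 64, x i = x i' → i = i' := by decide +kernel

theorem x_inv (j : Fin 3) : x (g j) * x (g j) = 1 := by
  rw [x_mul, m_g, x_zero]

theorem closed_x : Closed (n := 63) x g m par pj :=
  ⟨x_zero, x_mul, x_inv, fun i i' h => x_inj i i' h, tree⟩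

theorem sign_s (j : Fin 3) : Equiv.Perm.sign (s j) = 1 := by
  fin_cases j <;> simp [s, Equiv.Perm.sign_mul]

/-! ### The symplectic side -/

/-- The index type of `4 × 4` symplectic matrices. -/
abbrev I4 := Fin 2 ⊕ Fin 2

/-- Positions. -/
def pos : I4 → ℕ
  | .inl i => i.val
  | .inr i => 2 + i.val

/-- Digits. -/
def ofD : ℕ → ZMod 3
  | 0 => 0
  | 1 => 1
  | _ => 2

/-- Decode a matrix. -/
def decM (c : ℕ) : Matrix I4 I4 (ZMod 3) := fun p q => ofD ((c / 3 ^ (4 * pos p + pos q)) % 3)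

/-- The family of matrices. -/
def M (i : Fin 64) : Matrix I4 I4 (ZMod 3) := decM (codes.getD i.val 0)

set_option maxRecDepth 100000 in
theorem M_zero : M 0 = 1 := by decide +kernel

set_option maxRecDepth 100000 in
theorem M_mul : ∀ i : Fin 64, ∀ j : Fin 3,
    M i * M (g j) = M (m i j) ∨ M i * M (g j) = -M (m i j) := by decide +kernel

set_option maxRecDepth 100000 in
theorem M_symp : ∀ i : Fin 64, M i * Matrix.J (Fin 2) (ZMod 3) * (M i)ᵀ = Matrix.J (Fin 2) (ZMod 3) := by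
  decide +kernel

set_option maxRecDepth 100000 in
theorem M_inj : ∀ i i' : Fin 64, (M i' = M i ∨ M i' = -M i) → i = i' := by decide +kernel

end Cfsg.Agent.Lib.Helper61_SylData1
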