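import Mathlib
import Cfsg.Prelude.Def_Classical
import Cfsg.Agent.Lib.Helper61_FamilyIso

/-!
# Helper61_SylData2

Explicit tables for a Sylow `2`-subgroup of `Sym(8)` (order `128`) and a family of `128` matrices in
the isometry group of the minus-type quadratic form in dimension `6` over the field with two elements
with the same multiplication tables (with respect to three involutions generating the group).
The finite checks are done by `decide +kernel`.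

The matrices are coded as numbers: the entry `(p, q)` is the bit of weight `2 ^ (6 * pos p + pos q)`.
-/

set_option autoImplicit false

namespace Cfsg.Agent.Lib.Helper61_SylData2

open Matrix Cfsg.Agent.Lib.Helper61_FamilyIso

/-- Three involutions generating a Sylow `2`-subgroup of `Sym(8)`. -/
def s : Fin 3 → Equiv.Perm (Fin 8)
  | 0 => Equiv.swap 0 1
  | 1 => Equiv.swap 0 2 * Equiv.swap 1 3
  | 2 => Equiv.swap 0 4 * Equiv.swap 1 5 * Equiv.swap 2 6 * Equiv.swap 3 7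

/-- Words in the generators, in breadth-first order. -/
def words : List (List (Fin 3)) :=
  [[], [0], [1], [2], [0, 1], [0, 2], [1, 0], [1, 2], [2, 0], [2, 1], [0, 1, 0], [0, 1, 2], [0, 2, 0], [0, 2, 1], [1, 0, 1], [1, 0, 2], [1, 2, 0], [1, 2, 1], [2, 0, 1], [2, 0, 2], [2, 1, 0], [2, 1, 2], [0, 1, 0, 1], [0, 1, 0, 2], [0, 1, 2, 0], [0, 1, 2, 1], [0, 2, 0, 1], [0, 2, 0, 2], [0, 2, 1, 0], [0, 2, 1, 2], [1, 0, 1, 2], [1, 0, 2, 0], [1, 0, 2, 1], [1, 2, 0, 1], [1, 2, 0, 2], [1, 2, 1, 0], [1, 2, 1, 2], [2, 0, 1, 0], [2, 0, 1, 2], [2, 1, 0, 1], [2, 1, 0, 2], [0, 1, 0, 1, 2], [0, 1, 0, 2, 0], [0, 1, 0, 2, 1], [0, 1, 2, 0, 1], [0, 1, 2, 0, 2], [0, 1, 2, 1, 0], [0, 1, 2, 1, 2], [0, 2, 0, 1, 0], [0, 2, 0, 1, 2], [0, 2, 1, 0, 1], [0, 2, 1, 0, 2], [1, 0, 1, 2, 0], [1, 0, 1, 2, 1], [1, 0, 2, 0, 1], [1, 0, 2, 0, 2], [1, 0, 2, 1, 0], [1, 0, 2, 1, 2], [1, 2, 0, 1, 0], [1, 2, 0, 1, 2], [1, 2, 1, 0,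 1], [1, 2, 1, 0, 2], [2, 0, 1, 0, 1], [2, 0, 1, 0, 2], [2, 1, 0, 1, 2], [0, 1, 0, 1, 2, 0], [0, 1, 0, 1, 2, 1], [0, 1, 0, 2, 0, 1], [0, 1, 0, 2, 0, 2], [0, 1, 0, 2, 1, 0], [0, 1, 0, 2, 1, 2], [0, 1, 2, 0, 1, 0], [0, 1, 2, 0, 1, 2], [0, 1, 2, 1, 0, 1], [0, 1, 2, 1, 0, 2], [0, 2, 0, 1, 0, 1], [0, 2, 0, 1, 0, 2], [0, 2, 1, 0, 1, 2], [1, 0, 1, 2, 0, 1], [1, 0, 1, 2, 0, 2], [1, 0, 1, 2, 1, 0], [1, 0, 1, 2, 1, 2], [1, 0, 2, 0, 1, 0], [1, 0, 2, 0, 1, 2], [1, 0, 2, 1, 0, 1], [1, 0, 2, 1, 0, 2], [1, 2, 0, 1, 0, 1], [1, 2, 0, 1, 0, 2], [1, 2, 1, 0, 1, 2], [2, 0, 1, 0, 1, 2], [0, 1, 0, 1, 2, 0, 1], [0, 1, 0, 1, 2, 0, 2], [0, 1, 0, 1, 2, 1, 0], [0, 1, 0, 1, 2, 1, 2], [0, 1, 0, 2, 0, 1, 0], [0, 1, 0, 2, 0, 1, 2], [0, 1, 0, 2, 1, 0, 1], [0, 1, 0, 2, 1, 0, 2], [0, 1, 2, 0, 1, 0, 1], [0, 1, 2, 0, 1, 0, 2], [0, 1, 2, 1, 0, 1, 2], [0, 2, 0, 1, 0, 1, 2], [1, 0, 1, 2, 0, 1, 0], [1, 0, 1, 2, 0, 1, 2], [1,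 0, 1, 2, 1, 0, 1], [1, 0, 1, 2, 1, 0, 2], [1, 0, 2, 0, 1, 0, 1], [1, 0, 2, 0, 1, 0, 2], [1, 0, 2, 1, 0, 1, 2], [1, 2, 0, 1, 0, 1, 2], [0, 1, 0, 1, 2, 0, 1, 0], [0, 1, 0, 1, 2, 0, 1, 2], [0, 1, 0, 1, 2, 1, 0, 1], [0, 1, 0, 1, 2, 1, 0, 2], [0, 1, 0, 2, 0, 1, 0, 1], [0, 1, 0, 2, 0, 1, 0, 2], [0, 1, 0, 2, 1, 0, 1, 2], [0, 1, 2, 0, 1, 0, 1, 2], [1, 0, 1, 2, 0, 1, 0, 1], [1, 0, 1, 2, 0, 1, 0, 2], [1, 0, 1, 2, 1, 0, 1, 2], [1, 0, 2, 0, 1, 0, 1, 2], [0, 1, 0, 1, 2, 0, 1, 0, 1], [0, 1, 0, 1, 2, 0, 1, 0, 2], [0, 1, 0, 1, 2, 1, 0, 1, 2], [0, 1, 0, 2, 0, 1, 0, 1, 2], [1, 0, 1, 2, 0, 1, 0, 1, 2], [0, 1, 0, 1, 2, 0, 1, 0, 1, 2]]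

/-- The multiplication table, flattened. -/
def mFlat : List ℕ :=
  [1, 2, 3, 0, 4, 5, 6, 0, 7, 8, 9, 0, 10, 1, 11, 12, 13, 1, 2, 14, 15, 16, 17, 2, 3, 18, 19, 20, 3, 21, 4, 22, 23, 24, 25, 4, 5, 26, 27, 28, 5, 29, 22, 6, 30, 31, 32, 6, 7, 33, 34, 35, 7, 36, 37, 8, 38, 27, 34, 8, 9, 39, 40, 29, 36, 9, 14, 10, 41, 42, 43, 10, 11, 44, 45, 46, 11, 47, 48, 12, 49, 19, 45, 12, 13, 50, 51, 21, 47, 13, 52, 53, 14, 15, 54, 55, 56, 15, 57, 58, 16, 59, 55, 19, 16, 17, 60, 61, 57, 21, 17, 18, 62, 63, 49, 59, 18, 62, 20, 64, 51, 61, 20, 65, 66, 22, 23, 67, 68, 69, 23, 70, 71, 24, 72, 68, 27, 24, 25, 73, 74, 70, 29, 25, 26, 75, 76, 38, 72, 26, 75, 28, 77, 40, 74, 28, 30, 78, 79, 80, 30, 81, 82, 31, 83, 34, 79, 31, 32, 84, 85, 36, 81, 32, 33, 86, 87, 83, 38, 33, 86, 35, 88, 85, 40, 35, 39, 37, 89, 76, 87, 37, 77, 88, 39, 41, 90, 91, 92, 41, 93, 94, 42, 95, 45, 91, 42, 43, 96, 97, 47, 93, 43, 44,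 98, 99, 95, 49, 44, 98, 46, 100, 97, 51, 46, 50, 48, 101, 63, 99, 48, 64, 100, 50, 102, 52, 103, 91, 55, 52, 53, 104, 105, 93, 57, 53, 54, 106, 107, 59, 103, 54, 106, 56, 108, 61, 105, 56, 60, 58, 109, 107, 63, 58, 108, 64, 60, 101, 109, 62, 110, 65, 111, 79, 68, 65, 66, 112, 113, 81, 70, 66, 67, 114, 115, 72, 111, 67, 114, 69, 116, 74, 113, 69, 73, 71, 117, 115, 76, 71, 116, 77, 73, 89, 117, 75, 78, 118, 119, 111, 83, 78, 118, 80, 120, 113, 85, 80, 84, 82, 121, 87, 119, 82, 88, 120, 84, 121, 89, 86, 90, 122, 123, 103, 95, 90, 122, 92, 124, 105, 97, 92, 96, 94, 125, 99, 123, 94, 100, 124, 96, 125, 101, 98, 104, 102, 126, 123, 107, 102, 124, 108, 104, 109, 126, 106, 112, 110, 127, 119, 115, 110, 120, 116, 112, 117, 127, 114, 127, 121, 118, 126, 125, 122]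

/-- The parents in the breadth-first tree. -/
def parL : List ℕ :=
  [0, 0, 0, 0, 1, 1, 2, 2, 3, 3, 4, 4, 5, 5, 6, 6, 7, 7, 8, 8, 9, 9, 10, 10, 11, 11, 12, 12, 13, 13, 14, 15, 15, 16, 16, 17, 17, 18, 18, 20, 20, 22, 23, 23, 24, 24, 25, 25, 26, 26, 28, 28, 30, 30, 31, 31, 32, 32, 33, 33, 35, 35, 37, 37, 39, 41, 41, 42, 42, 43, 43, 44, 44, 46, 46, 48, 48, 50, 52, 52, 53, 53, 54, 54, 56, 56, 58, 58, 60, 62, 65, 65, 66, 66, 67, 67, 69, 69, 71, 71, 73, 75, 78, 78, 80, 80, 82, 82, 84, 86, 90, 90, 92, 92, 94, 94, 96, 98, 102, 102, 104, 106, 110, 110, 112, 114, 118, 122]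

/-- The labels of the edges to the parents. -/
def pjL : List ℕ :=
  [0, 0, 1, 2, 1, 2, 0, 2, 0, 1, 0, 2, 0, 1, 1, 2, 0, 1, 1, 2, 0, 2, 1, 2, 0, 1, 1, 2, 0, 2, 2, 0, 1, 1, 2, 0, 2, 0, 2, 1, 2, 2, 0, 1, 1, 2, 0, 2, 0, 2, 1, 2, 0, 1, 1, 2, 0, 2, 0, 2, 1, 2, 1, 2, 2, 0, 1, 1, 2, 0, 2, 0, 2, 1, 2, 1, 2, 2, 1, 2, 0, 2, 0, 2, 1, 2, 1, 2, 2, 2, 1, 2, 0, 2, 0, 2, 1, 2, 1, 2, 2, 2, 0, 2, 1, 2, 1, 2, 2, 2, 0, 2, 1, 2, 1, 2, 2, 2, 1, 2, 2, 2, 1, 2, 2, 2, 2, 2]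

/-- The indices of the inverses. -/
def invL : List ℕ :=
  [0, 1, 2, 3, 6, 8, 4, 9, 5, 7, 10, 20, 12, 16, 14, 18, 13, 17, 15, 19, 11, 21, 22, 37, 28, 35, 31, 27, 24, 29, 39, 26, 33, 32, 34, 25, 36, 23, 40, 30, 38, 62, 48, 58, 56, 55, 46, 57, 42, 51, 52, 49, 50, 60, 54, 45, 44, 47, 43, 61, 53, 59, 41, 63, 64, 75, 86, 82, 68, 71, 70, 69, 85, 80, 83, 65, 76, 77, 84, 79, 73, 81, 67, 74, 78, 72, 66, 87, 88, 89, 106, 91, 98, 93, 94, 97, 102, 95, 92, 107, 108, 101, 96, 105, 104, 103, 90, 99, 100, 109, 114, 113, 118, 111, 110, 115, 116, 121, 112, 119, 120, 117, 122, 123, 124, 125, 126, 127]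

/-- The codes of the matrices. -/
def codes : List ℕ :=
  [34630287489, 36825227395, 34628715009, 25965788801, 43366793737, 37337292475, 36809764675, 25969720001, 51480515523, 19523362433, 34089189246, 55301688042, 35226821580, 43779718843, 43354475977, 37344630715, 51476584323, 19527293633, 51379852233, 51002207739, 18194473923, 52883968129, 34090761726, 65216984997, 53199222685, 61744114410, 35327484870, 26443029964, 34152993740, 55078908035, 55309026282, 35219483340, 43787057083, 51375921033, 51000635259, 18190542723, 52882395649, 26653654718, 50716995050, 18093810633, 12347354619, 65220916197, 12229024487, 58774558629, 53299885975, 19898318662, 15618033565, 61620474377, 36750089860, 26728242653, 34253657030, 65097883084, 53191884445, 61751452650, 35320146630, 26455347724, 34145655500, 55063445315, 26657585918, 50715422570, 18089879433, 12345782139, 20211228350, 35234267301, 12062141930,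 12225093287, 58778489829, 12128361197, 17717268996, 56252689127, 15835508606, 55284910805, 20183531351, 15718696855, 58553171782, 43192516228, 37429207207, 65383095773, 53292547735, 19913781382, 15610695325, 61608156617, 36757428100, 26740560413, 34246318790, 65110200844, 20215159550, 35232694821, 12060569450, 53487947941, 12124429997, 17718841476, 56248757927, 15837081086, 64696891290, 18002481685, 56152025837, 56372122116, 61727337173, 43970773549, 58838384471, 55682887847, 55292249045, 20198994071, 15711358615, 58568634502, 43199854468, 37413744487, 65395413533, 53486375461, 64700822490, 18004054165, 56148094637, 56373694596, 58254464922, 33485209434, 56657334805, 62224454189, 61734675413, 43958455789, 58853847191, 55667425127, 58258396122, 33486781914, 56658907285, 15231528794, 62212136429, 15233101274]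


/-- The family of permutations. -/
def x (i : Fin 128) : Equiv.Perm (Fin 8) := ((words.getD i.val []).map s).prod

/-- The indices of the generators. -/
def g (j : Fin 3) : Fin 128 := ⟨j.val + 1, by omega⟩

/-- The multiplication table. -/
def m (i : Fin 128) (j : Fin 3) : Fin 128 :=
  ⟨mFlat.getD (3 * i.val + j.val) 0 % 128, Nat.mod_lt _ (by norm_num)⟩

/-- The parent. -/
def par (i : Fin 128) : Fin 128 := ⟨parL.getD i.val 0 % 128, Nat.mod_lt _ (by norm_num)⟩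

/-- The label of the edge to the parent. -/
def pj (i : Fin 128) : Fin 3 := ⟨pjL.getD i.val 0 % 3, Nat.mod_lt _ (by norm_num)⟩

/-- The index of the inverse. -/
def invI (i : Fin 128) : Fin 128 := ⟨invL.getD i.val 0 % 128, Nat.mod_lt _ (by norm_num)⟩

set_option maxRecDepth 100000 in
theorem tree : ∀ i : Fin 128, i ≠ 0 → m (par i) (pj i) = i ∧ (par i).val < i.val := by
  decide +kernel

set_option maxRecDepth 100000 in
theorem m_g : ∀ j : Fin 3, m (g j) j = 0 := by decide +kernel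

set_option maxRecDepth 100000 in
theorem x_zero : x 0 = 1 := by decide +kernel

set_option maxRecDepth 100000 in
theorem x_mul : ∀ i : Fin 128, ∀ j : Fin 3, x i * x (g j) = x (m i j) := by decide +kernel

set_option maxRecDepth 100000 in
theorem x_inj : ∀ i i' : Fin 128, x i = x i' → i = i' := by decide +kernel

theorem x_inv (j : Fin 3) : x (g j) * x (g j) = 1 := by
  rw [x_mul, m_g, x_zero]

theorem closed_x : Closed (n := 127) x g m par pj :=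
  ⟨x_zero, x_mul, x_inv, fun i i' h => x_inj i i' h, tree⟩

/-! ### The orthogonal side -/

/-- The index type. -/
abbrev I6 := (Fin 2 ⊕ Fin 2) ⊕ Fin 2

/-- Positions. -/
def pos : I6 → ℕ
  | .inl (.inl i) => i.val
  | .inl (.inr i) => 2 + i.val
  | .inr i => 4 + i.val

/-- Digits. -/
def ofD : ℕ → ZMod 2
  | 0 => 0
  | _ => 1

/-- Decode a matrix. -/
def decM (c : ℕ) : Matrix I6 I6 (ZMod 2) := fun p q => ofD ((c >>> (6 * pos p + pos q)) % 2)

/-- The family of matrices. -/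
def M (i : Fin 128) : Matrix I6 I6 (ZMod 2) := decM (codes.getD i.val 0)

set_option maxRecDepth 100000 in
theorem M_zero : M 0 = 1 := by decide +kernel

set_option maxRecDepth 100000 in
theorem M_mul : ∀ i : Fin 128, ∀ j : Fin 3, M i * M (g j) = M (m i j) := by decide +kernel

set_option maxRecDepth 100000 in
theorem M_inv : ∀ i : Fin 128, M i * M (invI i) = 1 ∧ M (invI i) * M i = 1 := by decide +kernel

set_option maxRecDepth 100000 in
theorem M_inj : ∀ i i' : Fin 128, M i = M i' → i = i' := by decide +kernel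

/-- The vector with given coordinates. -/
def vec (a b c d e f : ZMod 2) : I6 → ZMod 2 := Sum.elim (Sum.elim ![a, b] ![c, d]) ![e, f]

theorem eq_vec (v : I6 → ZMod 2) : v = vec (v (.inl (.inl 0))) (v (.inl (.inl 1)))
    (v (.inl (.inr 0))) (v (.inl (.inr 1))) (v (.inr 0)) (v (.inr 1)) := by
  funext p
  rcases p with (p | p) | p <;> fin_cases p <;> rfl

set_option maxRecDepth 100000 in
theorem M_isom : ∀ j : Fin 3, ∀ a b c d e f : ZMod 2,
    Cfsg.quadFormMinus 2 (ZMod 2) 1 1 (M (g j) *ᵥ vec a b c d e f) =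
      Cfsg.quadFormMinus 2 (ZMod 2) 1 1 (vec a b c d e f) := by decide +kernel

end Cfsg.Agent.Lib.Helper61_SylData2
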