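import Mathlib
import Cfsg.Agent.Lib.Helper67_T2ODefs
import Cfsg.Agent.Lib.Helper94_OrthNondeg
import Cfsg.Agent.Lib.Helper82_T2_KR
import Cfsg.Agent.Lib.Helper9_T2_BR
import Cfsg.Agent.Lib.Helper78_UT2_NEXA

set_option autoImplicit false
set_option linter.unusedSectionVars false
set_option linter.unusedVariables false

/-!
helper61: TENS2O market (architect helper67), package BRGEN in aux form: the generators of `SL_2 ⊗ 1` and `1 ⊗ Sp(ω)` are in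
`Ω = ⁅oG (qf ω), oG (qf ω)⁆` (`q ≥ 3`).  `ux_aw_mem_Om`, `lx_aw_mem_Om`, `oE_mem_Om` are complete; `ux_mem_Om_of`,
`lx_mem_Om_of`, `jE_mem_Om_of`, `hE_mem_Om_of` take the statement of SUMAW (`exists_sum_aw`) as hypothesis `hsum`.
-/

open Module
open Cfsg.Agent.Lib.Helper94_Symp Cfsg.Agent.Lib.Helper94_OrthSmall
  Cfsg.Agent.Lib.Helper94_OrthSiegel Cfsg.Agent.Lib.Helper94_OrthNondeg
  Cfsg.Agent.Lib.Helper67_Tens2Defs Cfsg.Agent.Lib.Helper67_T2ODefs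

namespace Cfsg.Agent.Lib.Helper61_T2O_BRGENaux

variable {F W : Type*} [Field F] [Finite F] [AddCommGroup W] [Module F W] [FiniteDimensional F W]
variable {ω : LinearMap.BilinForm F W}

theorem lx_mul (S S' : W →ₗ[F] W) : lx S * lx S' = lx (S + S') := by
  apply LinearEquiv.ext
  rintro ⟨u, u'⟩
  rw [LinearEquiv.mul_apply, lx_apply, lx_apply, lx_apply]
  ext
  · rfl
  · simp only [LinearMap.add_apply]
    abel

theorem lx_zero : lx (0 : W →ₗ[F] W) = 1 := by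
  apply LinearEquiv.ext
  rintro ⟨u, u'⟩
  rw [lx_apply]
  ext
  · rfl
  · simp

theorem ux_sum_mem (H : Subgroup ((W × W) ≃ₗ[F] (W × W))) {ι : Type*} (s : Finset ι)
    (S : ι → W →ₗ[F] W) (h : ∀ i ∈ s, ux (S i) ∈ H) : ux (∑ i ∈ s, S i) ∈ H := by
  classical
  induction s using Finset.induction_on with
  | empty =>
    rw [Finset.sum_empty, ux_zero]
    exact H.one_mem
  | insert a s ha ih =>
    rw [Finset.sum_insert ha, ← ux_mul]
    exact H.mul_mem (h a (Finset.mem_insert_self a s))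
      (ih (fun i hi => h i (Finset.mem_insert_of_mem hi)))

theorem lx_sum_mem (H : Subgroup ((W × W) ≃ₗ[F] (W × W))) {ι : Type*} (s : Finset ι)
    (S : ι → W →ₗ[F] W) (h : ∀ i ∈ s, lx (S i) ∈ H) : lx (∑ i ∈ s, S i) ∈ H := by
  classical
  induction s using Finset.induction_on with
  | empty =>
    rw [Finset.sum_empty, lx_zero]
    exact H.one_mem
  | insert a s ha ih =>
    rw [Finset.sum_insert ha, ← lx_mul]
    exact H.mul_mem (h a (Finset.mem_insert_self a s))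
      (ih (fun i hi => h i (Finset.mem_insert_of_mem hi)))

/-- `lx (aw ω y w)` is the Siegel element at `(0, w)` with parameter `(0, y)` -/
theorem lx_aw (ω : LinearMap.BilinForm F W) (halt : ω.IsAlt) (y w : W) :
    lx (aw ω y w) = sieg (qf ω) (tf ω) (0, w) (0, y) := by
  apply LinearEquiv.ext
  intro x
  rw [sieg_apply (qf ω) (tf ω) (qf_smul ω) (qf_add ω halt) (by simp) (by simp)]
  simp only [lx_apply, aw_apply, tf_apply, qf_apply, map_zero, LinearMap.zero_apply, sub_zero,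
    zero_mul, zero_smul, Prod.smul_mk, smul_zero]
  ext
  · simp
  · simp only [Prod.snd_add, Prod.snd_sub]
    abel

/-- BRGEN : the root elements `ux (aw ω y w)` are in `Ω` (`q ≥ 3`) -/
theorem ux_aw_mem_Om (halt : ω.IsAlt) (hN : ω.Nondegenerate) (hq : ∃ a : F, a ≠ 0 ∧ a ≠ 1)
    (y w : W) : ux (aw ω y w) ∈ Om ω := by
  obtain ⟨a, ha0, ha1⟩ := hq
  rw [ux_aw ω halt]
  exact sieg_mem_commutator (qf ω) (tf ω) (qf_smul ω) (qf_add ω halt) (tf_nondegenerate ω hN)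
    ha0 ha1 (by simp) (by simp)

/-- the root elements `lx (aw ω y w)` are in `Ω` (`q ≥ 3`) -/
theorem lx_aw_mem_Om (halt : ω.IsAlt) (hN : ω.Nondegenerate) (hq : ∃ a : F, a ≠ 0 ∧ a ≠ 1)
    (y w : W) : lx (aw ω y w) ∈ Om ω := by
  obtain ⟨a, ha0, ha1⟩ := hq
  rw [lx_aw ω halt]
  exact sieg_mem_commutator (qf ω) (tf ω) (qf_smul ω) (qf_add ω halt) (tf_nondegenerate ω hN)
    ha0 ha1 (by simp) (by simp)

/-- `c • 1` as a sum of maps `aw` -/
theorem smul_id_eq_sum {k : ℕ} {e f : Fin k → W} (hsum : ∀ v : W, v = ∑ i, aw ω (e i) (f i) v)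
    (c : F) : c • (LinearMap.id : W →ₗ[F] W) = ∑ i, aw ω (c • e i) (f i) := by
  apply LinearMap.ext
  intro v
  rw [LinearMap.smul_apply, LinearMap.id_apply, LinearMap.sum_apply]
  conv_lhs => rw [hsum v, Finset.smul_sum]
  apply Finset.sum_congr rfl
  intro i _
  rw [aw_smul_left, LinearMap.smul_apply]

/-- BRGEN : `ux (c • 1) ∈ Ω`, from SUMAW -/
theorem ux_mem_Om_of (halt : ω.IsAlt) (hN : ω.Nondegenerate) (hq : ∃ a : F, a ≠ 0 ∧ a ≠ 1)
    (hsum : ∃ (k : ℕ) (e f : Fin k → W), ∀ v : W, v = ∑ i, aw ω (e i) (f i) v)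
    (c : F) : ux (c • (LinearMap.id : W →ₗ[F] W)) ∈ Om ω := by
  obtain ⟨k, e, f, hs⟩ := hsum
  rw [smul_id_eq_sum hs c]
  exact ux_sum_mem _ _ _ (fun i _ => ux_aw_mem_Om halt hN hq _ _)

/-- BRGEN : `lx (c • 1) ∈ Ω`, from SUMAW -/
theorem lx_mem_Om_of (halt : ω.IsAlt) (hN : ω.Nondegenerate) (hq : ∃ a : F, a ≠ 0 ∧ a ≠ 1)
    (hsum : ∃ (k : ℕ) (e f : Fin k → W), ∀ v : W, v = ∑ i, aw ω (e i) (f i) v)
    (c : F) : lx (c • (LinearMap.id : W →ₗ[F] W)) ∈ Om ω := by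
  obtain ⟨k, e, f, hs⟩ := hsum
  rw [smul_id_eq_sum hs c]
  exact lx_sum_mem _ _ _ (fun i _ => lx_aw_mem_Om halt hN hq _ _)

/-- `jE = ux 1 * lx (-1) * ux 1` -/
theorem jE_eq : (jE : (W × W) ≃ₗ[F] (W × W)) =
    ux ((1 : F) • (LinearMap.id : W →ₗ[F] W)) * lx ((-1 : F) • (LinearMap.id : W →ₗ[F] W)) *
      ux ((1 : F) • (LinearMap.id : W →ₗ[F] W)) := by
  apply LinearEquiv.ext
  rintro ⟨u, u'⟩
  simp only [LinearEquiv.mul_apply, ux_apply, lx_apply, jE_apply, LinearMap.smul_apply,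
    LinearMap.id_apply]
  ext
  · simp only []
    module
  · simp only []
    module

theorem hE_eq_aux (a b : F) (h1 : a * b = 1) (u u' : W) :
    -u' + a • u + a • (u + (-b) • (-u' + a • u)) = a • u ∧
      u + (-b) • (-u' + a • u) = b • u' := by
  have h2 : b * a = 1 := by rw [mul_comm, h1]
  have hb : u + (-b) • (-u' + a • u) = b • u' := by
    rw [smul_add, smul_neg, neg_smul, neg_neg, neg_smul, smul_smul, h2, one_smul]
    abel
  refine ⟨?_, hb⟩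
  rw [hb, smul_smul, h1, one_smul]
  abel

/-- `hE a = ux a * lx (-a⁻¹) * ux a * jE⁻¹` -/
theorem hE_eq (a : Fˣ) : (hE a : (W × W) ≃ₗ[F] (W × W)) =
    ux ((a : F) • (LinearMap.id : W →ₗ[F] W)) *
      lx ((-((a⁻¹ : Fˣ) : F)) • (LinearMap.id : W →ₗ[F] W)) *
      ux ((a : F) • (LinearMap.id : W →ₗ[F] W)) * (jE : (W × W) ≃ₗ[F] (W × W))⁻¹ := by
  have h1 : (a : F) * ((a⁻¹ : Fˣ) : F) = 1 := by
    rw [← Units.val_mul, mul_inv_cancel, Units.val_one]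
  have hj : ∀ x : W × W, (jE : (W × W) ≃ₗ[F] (W × W))⁻¹ x = (-x.2, x.1) := fun x => rfl
  apply LinearEquiv.ext
  rintro ⟨u, u'⟩
  obtain ⟨e1, e2⟩ := hE_eq_aux (a : F) ((a⁻¹ : Fˣ) : F) h1 u u'
  simp only [LinearEquiv.mul_apply, hj, ux_apply, lx_apply, hE_apply, LinearMap.smul_apply,
    LinearMap.id_apply]
  ext
  · exact e1.symm
  · exact e2.symm

/-- BRGEN : `jE ∈ Ω`, from SUMAW -/
theorem jE_mem_Om_of (halt : ω.IsAlt) (hN : ω.Nondegenerate) (hq : ∃ a : F, a ≠ 0 ∧ a ≠ 1)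
    (hsum : ∃ (k : ℕ) (e f : Fin k → W), ∀ v : W, v = ∑ i, aw ω (e i) (f i) v) :
    (jE : (W × W) ≃ₗ[F] (W × W)) ∈ Om ω := by
  rw [jE_eq]
  exact Subgroup.mul_mem _ (Subgroup.mul_mem _ (ux_mem_Om_of halt hN hq hsum 1)
    (lx_mem_Om_of halt hN hq hsum (-1))) (ux_mem_Om_of halt hN hq hsum 1)

/-- BRGEN : `hE a ∈ Ω`, from SUMAW -/
theorem hE_mem_Om_of (halt : ω.IsAlt) (hN : ω.Nondegenerate) (hq : ∃ a : F, a ≠ 0 ∧ a ≠ 1)
    (hsum : ∃ (k : ℕ) (e f : Fin k → W), ∀ v : W, v = ∑ i, aw ω (e i) (f i) v)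
    (a : Fˣ) : (hE a : (W × W) ≃ₗ[F] (W × W)) ∈ Om ω := by
  rw [hE_eq a]
  exact Subgroup.mul_mem _ (Subgroup.mul_mem _ (Subgroup.mul_mem _
    (ux_mem_Om_of halt hN hq hsum _) (lx_mem_Om_of halt hN hq hsum _))
    (ux_mem_Om_of halt hN hq hsum _)) (Subgroup.inv_mem _ (jE_mem_Om_of halt hN hq hsum))

/-- `oE` as a monoid homomorphism -/
def oEHom : (W ≃ₗ[F] W) →* ((W × W) ≃ₗ[F] (W × W)) where
  toFun := oE
  map_one' := by
    apply LinearEquiv.ext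
    rintro ⟨u, u'⟩
    rfl
  map_mul' T T' := by
    apply LinearEquiv.ext
    rintro ⟨u, u'⟩
    rfl

/-- BRGEN : `1 ⊗ Sp(ω) ≤ Ω` -/
theorem oE_mem_Om (halt : ω.IsAlt) (hN : ω.Nondegenerate) (hq : ∃ a : F, a ≠ 0 ∧ a ≠ 1)
    (T : W ≃ₗ[F] W) (hT : T ∈ isoGroup ω) : oE T ∈ Om ω := by
  obtain ⟨a, ha0, ha1⟩ := hq
  have hK : isoGroup ω ≤ (Om ω).comap (oEHom : (W ≃ₗ[F] W) →* ((W × W) ≃ₗ[F] (W × W))) := by
    apply isoGroup_le_of_stv_mem ω halt hN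
    intro y s
    rw [Subgroup.mem_comap]
    show oE (stv ω halt y s) ∈ Om ω
    rw [oE_stv ω halt]
    exact sieg_mem_commutator (qf ω) (tf ω) (qf_smul ω) (qf_add ω halt) (tf_nondegenerate ω hN)
      ha0 ha1 (by simp) (by simp [halt y])
  exact hK hT

end Cfsg.Agent.Lib.Helper61_T2O_BRGENaux
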