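import Mathlib
import Cfsg.Agent.Lib.Helper67_T2ODefs
import Cfsg.Agent.Lib.Helper94_OrthNondeg
import Cfsg.Agent.Lib.Helper82_T2_KR
import Cfsg.Agent.Lib.Helper9_T2_BR
import Cfsg.Agent.Lib.Helper78_UT2_NEXA
import Cfsg.Agent.Lib.Helper61_T2O_BRGENaux
import Cfsg.Agent.Lib.Helper25_T2O_SUMAW

/-!
# TENS2O package BRGEN (architect helper67; helper61): verbatim statements, from the `_of` forms and helper25's SUMAW.
-/

set_option autoImplicit false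
set_option linter.unusedSectionVars false
set_option linter.unusedVariables false

open Module
open Cfsg.Agent.Lib.Helper94_Symp Cfsg.Agent.Lib.Helper94_OrthSmall
  Cfsg.Agent.Lib.Helper94_OrthSiegel Cfsg.Agent.Lib.Helper94_OrthNondeg
  Cfsg.Agent.Lib.Helper67_Tens2Defs Cfsg.Agent.Lib.Helper67_T2ODefs

namespace Cfsg.Agent.Lib.Helper61_T2O_BRGEN

variable {F W : Type*} [Field F] [Finite F] [AddCommGroup W] [Module F W] [FiniteDimensional F W]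
variable {ω : LinearMap.BilinForm F W}

theorem ux_aw_mem_Om (halt : ω.IsAlt) (hN : ω.Nondegenerate) (hq : ∃ a : F, a ≠ 0 ∧ a ≠ 1)
    (y w : W) : ux (aw ω y w) ∈ Om ω :=
  Cfsg.Agent.Lib.Helper61_T2O_BRGENaux.ux_aw_mem_Om halt hN hq y w

theorem ux_mem_Om (halt : ω.IsAlt) (hN : ω.Nondegenerate) (hq : ∃ a : F, a ≠ 0 ∧ a ≠ 1)
    (c : F) : ux (c • (LinearMap.id : W →ₗ[F] W)) ∈ Om ω :=
  Cfsg.Agent.Lib.Helper61_T2O_BRGENaux.ux_mem_Om_of halt hN hq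
    (Cfsg.Agent.Lib.Helper25_T2O_SUMAW.exists_sum_aw halt hN) c

theorem lx_mem_Om (halt : ω.IsAlt) (hN : ω.Nondegenerate) (hq : ∃ a : F, a ≠ 0 ∧ a ≠ 1)
    (c : F) : lx (c • (LinearMap.id : W →ₗ[F] W)) ∈ Om ω :=
  Cfsg.Agent.Lib.Helper61_T2O_BRGENaux.lx_mem_Om_of halt hN hq
    (Cfsg.Agent.Lib.Helper25_T2O_SUMAW.exists_sum_aw halt hN) c

theorem jE_mem_Om (halt : ω.IsAlt) (hN : ω.Nondegenerate) (hq : ∃ a : F, a ≠ 0 ∧ a ≠ 1) :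
    (jE : (W × W) ≃ₗ[F] (W × W)) ∈ Om ω :=
  Cfsg.Agent.Lib.Helper61_T2O_BRGENaux.jE_mem_Om_of halt hN hq
    (Cfsg.Agent.Lib.Helper25_T2O_SUMAW.exists_sum_aw halt hN)

theorem hE_mem_Om (halt : ω.IsAlt) (hN : ω.Nondegenerate) (hq : ∃ a : F, a ≠ 0 ∧ a ≠ 1)
    (a : Fˣ) : (hE a : (W × W) ≃ₗ[F] (W × W)) ∈ Om ω :=
  Cfsg.Agent.Lib.Helper61_T2O_BRGENaux.hE_mem_Om_of halt hN hq
    (Cfsg.Agent.Lib.Helper25_T2O_SUMAW.exists_sum_aw halt hN) a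

theorem oE_mem_Om (halt : ω.IsAlt) (hN : ω.Nondegenerate) (hq : ∃ a : F, a ≠ 0 ∧ a ≠ 1)
    (T : W ≃ₗ[F] W) (hT : T ∈ isoGroup ω) : oE T ∈ Om ω :=
  Cfsg.Agent.Lib.Helper61_T2O_BRGENaux.oE_mem_Om halt hN hq T hT

end Cfsg.Agent.Lib.Helper61_T2O_BRGEN
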