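import Mathlib
import Cfsg.Agent.Lib.Helper67_T2ODefs
import Cfsg.Agent.Lib.Helper94_OrthNondeg
import Cfsg.Agent.Lib.Helper82_T2_KR
import Cfsg.Agent.Lib.Helper9_T2_BR
import Cfsg.Agent.Lib.Helper78_UT2_NEXA

set_option autoImplicit false
set_option linter.unusedSectionVars false
set_option linter.unusedVariables false

/-!
helper61: TENS2O market (architect helper67), package END3 in aux form: `end3_of` is the statement of `end3` with the four
statements of XSO (`inX_add`, `inX_neg`, `inX_scalar`, `inX_conj`, specialised to `ω M e d`) as hypotheses.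

`𝒳 := {X | ∀ l, InX (l X)}` is a subspace of `M₂(F)` containing the scalars and stable under `X ↦ X + Δ_t(X)`,
`Δ_t(X) = !![t x21, t (x22 - x11) - t² x21; 0, -t x21]`; a non-scalar `X ∈ 𝒳` gives `E12 ∈ 𝒳`, whose witness is `ux (aw ω e d)`.
-/

open Module
open Cfsg.Agent.Lib.Helper94_Symp Cfsg.Agent.Lib.Helper94_OrthSmall
  Cfsg.Agent.Lib.Helper94_OrthSiegel Cfsg.Agent.Lib.Helper94_OrthNondeg
  Cfsg.Agent.Lib.Helper67_Tens2Defs Cfsg.Agent.Lib.Helper67_T2ODefs

namespace Cfsg.Agent.Lib.Helper61_T2O_END3aux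

variable {F W : Type*} [Field F] [Finite F] [AddCommGroup W] [Module F W] [FiniteDimensional F W]
variable {ω : LinearMap.BilinForm F W}

theorem inX_congr {M : Subgroup ((W × W) ≃ₗ[F] (W × W))} {e d : W}
    {x11 x12 x21 x22 y11 y12 y21 y22 : F} (h : InX ω M e d x11 x12 x21 x22)
    (h11 : x11 = y11) (h12 : x12 = y12) (h21 : x21 = y21) (h22 : x22 = y22) :
    InX ω M e d y11 y12 y21 y22 := by
  subst h11 h12 h21 h22
  exact h

/-- `X` is in `𝒳`: all scalar multiples of `X` are in `InX` -/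
def Scal (ω : LinearMap.BilinForm F W) (M : Subgroup ((W × W) ≃ₗ[F] (W × W))) (e d : W)
    (x11 x12 x21 x22 : F) : Prop :=
  ∀ l : F, InX ω M e d (l * x11) (l * x12) (l * x21) (l * x22)

section

variable {M : Subgroup ((W × W) ≃ₗ[F] (W × W))} {e d : W}
  (hadd : ∀ (x11 x12 x21 x22 y11 y12 y21 y22 : F), InX ω M e d x11 x12 x21 x22 →
    InX ω M e d y11 y12 y21 y22 → InX ω M e d (x11 + y11) (x12 + y12) (x21 + y21) (x22 + y22))
  (hneg : ∀ (x11 x12 x21 x22 : F), InX ω M e d x11 x12 x21 x22 →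
    InX ω M e d (-x11) (-x12) (-x21) (-x22))
  (hscal : ∀ s : F, InX ω M e d s 0 0 s)
  (hconj : ∀ (x11 x12 x21 x22 : F), InX ω M e d x11 x12 x21 x22 → ∀ t : F,
    InX ω M e d (x11 + t * x21) (x12 + t * (x22 - x11) - t * t * x21) x21 (x22 - t * x21))

include hadd hneg in
theorem Scal.sub {x11 x12 x21 x22 y11 y12 y21 y22 : F} (hx : Scal ω M e d x11 x12 x21 x22)
    (hy : Scal ω M e d y11 y12 y21 y22) :
    Scal ω M e d (x11 - y11) (x12 - y12) (x21 - y21) (x22 - y22) := by
  intro l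
  exact inX_congr (hadd _ _ _ _ _ _ _ _ (hx l) (hneg _ _ _ _ (hy l)))
    (by ring) (by ring) (by ring) (by ring)

theorem Scal.smul {x11 x12 x21 x22 : F} (hx : Scal ω M e d x11 x12 x21 x22) (c : F) :
    Scal ω M e d (c * x11) (c * x12) (c * x21) (c * x22) := by
  intro l
  exact inX_congr (hx (l * c)) (by ring) (by ring) (by ring) (by ring)

include hscal in
theorem Scal.scalar (s : F) : Scal ω M e d s 0 0 s := by
  intro l
  exact inX_congr (hscal (l * s)) rfl (by ring) (by ring) rfl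

include hconj in
theorem Scal.conj {x11 x12 x21 x22 : F} (hx : Scal ω M e d x11 x12 x21 x22) (t : F) :
    Scal ω M e d (x11 + t * x21) (x12 + t * (x22 - x11) - t * t * x21) x21 (x22 - t * x21) := by
  intro l
  exact inX_congr (hconj _ _ _ _ (hx l) t) (by ring) (by ring) (by ring) (by ring)

include hadd hneg hconj in
/-- `Δ_t(X) ∈ 𝒳` -/
theorem Scal.delta {x11 x12 x21 x22 : F} (hx : Scal ω M e d x11 x12 x21 x22) (t : F) :
    Scal ω M e d (t * x21) (t * (x22 - x11) - t * t * x21) 0 (-(t * x21)) := by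
  intro l
  exact inX_congr (Scal.sub hadd hneg (Scal.conj hconj hx t) hx l)
    (by ring) (by ring) (by ring) (by ring)

include hadd hneg hscal hconj in
/-- a non-scalar element of `𝒳` gives `E12 ∈ 𝒳` -/
theorem Scal.e12 (hq : ∃ a : F, a ≠ 0 ∧ a ≠ 1) {x11 x12 x21 x22 : F}
    (hns : ¬ (x12 = 0 ∧ x21 = 0 ∧ x11 = x22)) (hx : Scal ω M e d x11 x12 x21 x22) :
    Scal ω M e d 0 1 0 0 := by
  -- it is enough to have `c • E12 ∈ 𝒳` for some `c ≠ 0`
  have key : ∀ c : F, c ≠ 0 → Scal ω M e d 0 c 0 0 → Scal ω M e d 0 1 0 0 := by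
    intro c hc h l
    exact inX_congr (Scal.smul h c⁻¹ l) (by ring) (by rw [inv_mul_cancel₀ hc]) (by ring) (by ring)
  by_cases h21 : x21 = 0
  · by_cases h12 : x22 = x11
    · -- `X - x11 = x12 E12`
      have hx12 : x12 ≠ 0 := fun h => hns ⟨h, h21, h12.symm⟩
      apply key x12 hx12
      intro l
      exact inX_congr (Scal.sub hadd hneg hx (Scal.scalar hscal x11) l)
        (by ring) (by ring) (by rw [h21]; ring) (by rw [h12]; ring)
    · -- `Δ_1(X) = (x22 - x11) E12`
      apply key (x22 - x11) (sub_ne_zero.2 h12)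
      intro l
      exact inX_congr (Scal.delta hadd hneg hconj hx 1 l)
        (by rw [h21]; ring) (by rw [h21]; ring) rfl (by rw [h21]; ring)
  · -- `Δ_a(X) - a Δ_1(X) = (a - a²) x21 E12`
    obtain ⟨a, ha0, ha1⟩ := hq
    have hc : (a - a * a) * x21 ≠ 0 := by
      apply mul_ne_zero _ h21
      have : a - a * a = a * (1 - a) := by ring
      rw [this]
      exact mul_ne_zero ha0 (sub_ne_zero.2 (Ne.symm ha1))
    apply key _ hc
    intro l
    exact inX_congr
      (Scal.sub hadd hneg (Scal.delta hadd hneg hconj hx a)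
        (Scal.smul (Scal.delta hadd hneg hconj hx 1) a) l)
      (by ring) (by ring) (by ring) (by ring)

end

/-- END3 with the statements of XSO as hypotheses -/
theorem end3_of (hq : ∃ a : F, a ≠ 0 ∧ a ≠ 1)
    (M : Subgroup ((W × W) ≃ₗ[F] (W × W)))
    (e d : W) (x11 x12 x21 x22 : F)
    (hns : ¬ (x12 = 0 ∧ x21 = 0 ∧ x11 = x22))
    (h : ∀ l : F, InX ω M e d (l * x11) (l * x12) (l * x21) (l * x22))
    (hadd : ∀ (x11 x12 x21 x22 y11 y12 y21 y22 : F), InX ω M e d x11 x12 x21 x22 →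
      InX ω M e d y11 y12 y21 y22 → InX ω M e d (x11 + y11) (x12 + y12) (x21 + y21) (x22 + y22))
    (hneg : ∀ (x11 x12 x21 x22 : F), InX ω M e d x11 x12 x21 x22 →
      InX ω M e d (-x11) (-x12) (-x21) (-x22))
    (hscal : ∀ s : F, InX ω M e d s 0 0 s)
    (hconj : ∀ (x11 x12 x21 x22 : F), InX ω M e d x11 x12 x21 x22 → ∀ t : F,
      InX ω M e d (x11 + t * x21) (x12 + t * (x22 - x11) - t * t * x21) x21 (x22 - t * x21)) :
    ux (aw ω e d) ∈ M := by
  have h1 := Scal.e12 hadd hneg hscal hconj hq hns h 1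
  obtain ⟨m, hm, hmf⟩ := h1
  have hmeq : m = ux (aw ω e d) := by
    apply LinearEquiv.ext
    rintro ⟨u, u'⟩
    rw [hmf u u', ux_apply, aw_apply]
    ext
    · simp only []
      module
    · simp only []
      module
  rw [← hmeq]
  exact hm

end Cfsg.Agent.Lib.Helper61_T2O_END3aux
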