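import Mathlib
import Cfsg.Agent.Lib.Helper67_T2ODefs
import Cfsg.Agent.Lib.Helper94_OrthNondeg
import Cfsg.Agent.Lib.Helper82_T2_KR
import Cfsg.Agent.Lib.Helper9_T2_BR
import Cfsg.Agent.Lib.Helper78_UT2_NEXA
import Cfsg.Agent.Lib.Helper61_T2O_END3aux
import Cfsg.Agent.Lib.Helper25_T2O_XSO

/-!
# TENS2O package END3 (architect helper67; helper61): verbatim statement, from `end3_of` and helper25's XSO.
-/

set_option autoImplicit false
set_option linter.unusedSectionVars false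
set_option linter.unusedVariables false

open Module
open Cfsg.Agent.Lib.Helper94_Symp Cfsg.Agent.Lib.Helper94_OrthSmall
  Cfsg.Agent.Lib.Helper94_OrthSiegel Cfsg.Agent.Lib.Helper94_OrthNondeg
  Cfsg.Agent.Lib.Helper67_Tens2Defs Cfsg.Agent.Lib.Helper67_T2ODefs

namespace Cfsg.Agent.Lib.Helper61_T2O_END3

variable {F W : Type*} [Field F] [Finite F] [AddCommGroup W] [Module F W] [FiniteDimensional F W]
variable {ω : LinearMap.BilinForm F W}

theorem end3 (halt : ω.IsAlt) (hq : ∃ a : F, a ≠ 0 ∧ a ≠ 1)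
    (M : Subgroup ((W × W) ≃ₗ[F] (W × W))) (hM : HypO ω M)
    (e d : W) (hed : ω e d = 0) (x11 x12 x21 x22 : F)
    (hns : ¬ (x12 = 0 ∧ x21 = 0 ∧ x11 = x22))
    (h : ∀ l : F, InX ω M e d (l * x11) (l * x12) (l * x21) (l * x22)) :
    ux (aw ω e d) ∈ M :=
  Cfsg.Agent.Lib.Helper61_T2O_END3aux.end3_of hq M e d x11 x12 x21 x22 hns h
    (fun x11 x12 x21 x22 y11 y12 y21 y22 hx hy =>
      Cfsg.Agent.Lib.Helper25_T2O_XSO.inX_add halt M e d hed x11 x12 x21 x22 y11 y12 y21 y22 hx hy)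
    (fun x11 x12 x21 x22 hx => Cfsg.Agent.Lib.Helper25_T2O_XSO.inX_neg halt M e d hed x11 x12 x21 x22 hx)
    (fun s => Cfsg.Agent.Lib.Helper25_T2O_XSO.inX_scalar halt M hM e d hed s)
    (fun x11 x12 x21 x22 hx t => Cfsg.Agent.Lib.Helper25_T2O_XSO.inX_conj M hM e d x11 x12 x21 x22 hx t)

end Cfsg.Agent.Lib.Helper61_T2O_END3
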