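import Mathlib
import Cfsg.Agent.Lib.Helper75_TZDefs
import Cfsg.Agent.Lib.Helper2_TZ_W2
import Cfsg.Agent.Lib.Helper10_TZ_SISO

set_option autoImplicit false
set_option linter.unusedSectionVars false

/-!
S2524 market TZ (architect helper75), package S9b (core): the parity of a constituent of `M^Z` is a function of `a` and of
the central sign.  `-1_V = d(-1) · ι(-1)` (GRP-EMB, hypothesis `hneg`); `ι(-1)` acts on `D ≅ Fun^p(ω_a)` by `± κ_a`
(W5, hypothesis `hW5`), `d(-1)` acts on the weight vector `u` by `c_a(diag(..,-1,..))` (S9a, hypothesis `hS9a`), and `-1_V`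
acts by `σ`.  The three statements not yet landed are hypotheses here; `Helper61_TZ_S9b` is the verbatim wrapper.
-/

namespace Cfsg.Agent.Lib.Helper75_TZ

open Matrix Module
open Cfsg.Agent.Lib.Helper5_SpPerfect Cfsg.Agent.Lib.Helper81_SpWeights
  Cfsg.Agent.Lib.Helper81_JointEigen Cfsg.Agent.Lib.Helper81_Heis Cfsg.Agent.Lib.Helper81_WeilLin
  Cfsg.Agent.Lib.Helper81_Schrodinger

section S2

variable {F : Type*} [Field F] [Fintype F] [DecidableEq F] {m : ℕ} {K : Type*} [Field K]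
  [IsAlgClosed K] [CharZero K] {M : Type*} [AddCommGroup M] [Module K M] [FiniteDimensional K M]

namespace S9baux

/-- PACKAGE S9b with the statements of GRP-EMB (`negOne_eq`), W5 (`weilP_centralSign`) and S9a (`ds_neg_Tai`),
instantiated, as hypotheses -/
theorem parity_core (ψ₀ : AddChar F K) (hψ₀ : ψ₀ ≠ 1) (h2 : (2 : F) ≠ 0)
    (R : SpG (m + 1) F →* Module.End K M) (σ : K) (hσ : CentralSign R σ)
    {a : F} (ha : a ≠ 0) (i : Fin m) (D : Submodule K M)
    (hD : ∀ g : SpG m F, ∀ v ∈ D, (R.comp emb) g v ∈ D) (p : Bool)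
    (hiso : IsoRep (weilP ψ₀ hψ₀ h2 a ha m p) (subRep (R.comp emb) D hD)) (u : M) (hu : u ∈ D)
    (hu0 : u ≠ 0)
    (hneg : (negOne : SpG (m + 1) F) = ds (-1) * emb negOne)
    (hW5 : CentralSign (weilP ψ₀ hψ₀ h2 a ha m p) (if p then -kap ψ₀ a m else kap ψ₀ a m))
    (hS9a : R (ds (-1)) u = cA ψ₀ a m (dnegGL i) • u) :
    (if p then -kap ψ₀ a m else kap ψ₀ a m) = σ * (cA ψ₀ a m (dnegGL i))⁻¹ := by
  set sg : K := if p then -kap ψ₀ a m else kap ψ₀ a m with hsg
  have hcs : CentralSign (subRep (R.comp emb) D hD) sg :=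
    isoRep_centralSign hiso sg hW5
  -- `ι(-1)` acts on `u` by `sg`
  have h1 : R (emb negOne) u = sg • u := by
    have h := congrArg Subtype.val (hcs ⟨u, hu⟩)
    rw [subRep_apply] at h
    exact h
  -- `-1_V = d(-1) ι(-1)`
  have h3 : R negOne u = R (ds (-1)) (R (emb negOne) u) := by
    rw [hneg, map_mul]
    rfl
  rw [hσ u, h1, map_smul, hS9a, smul_smul] at h3
  have h4 : σ = sg * cA ψ₀ a m (dnegGL i) := by
    have h5 : (σ - sg * cA ψ₀ a m (dnegGL i)) • u = 0 := by rw [sub_smul, h3, sub_self]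
    rcases smul_eq_zero.1 h5 with h | h
    · exact sub_eq_zero.1 h
    · exact absurd h hu0
  have hc := cA_ne_zero ψ₀ hψ₀ h2 ha (dnegGL (F := F) i)
  rw [h4, mul_assoc, mul_inv_cancel₀ hc, mul_one]

end S9baux

end S2

end Cfsg.Agent.Lib.Helper75_TZ
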