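import Mathlib
import Cfsg.Agent.Lib.Helper75_TZDefs
import Cfsg.Agent.Lib.Helper82_TZ_S_WDEC
import Cfsg.Agent.Lib.Helper63_TZ_SRES

/-!
helper91: S2524 package S9a (architect helper75), aux part: `ds_neg_Tai_of`, with the statements
of `ds_eq_lgH` (GRP-DS) and `ext0GL_Ta` (S6) as hypotheses.
-/

set_option autoImplicit false
set_option linter.unusedSectionVars false
set_option linter.unusedVariables false

namespace Cfsg.Agent.Lib.Helper75_TZ

open Matrix Module
open Cfsg.Agent.Lib.Helper5_SpPerfect Cfsg.Agent.Lib.Helper81_SpWeights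
  Cfsg.Agent.Lib.Helper81_JointEigen Cfsg.Agent.Lib.Helper81_Heis Cfsg.Agent.Lib.Helper81_WeilLin
  Cfsg.Agent.Lib.Helper81_Schrodinger

section S2

variable {F : Type*} [Field F] [Fintype F] [DecidableEq F] {m : ℕ} {K : Type*} [Field K]
  [IsAlgClosed K] [CharZero K] {M : Type*} [AddCommGroup M] [Module K M] [FiniteDimensional K M]

namespace S9aaux

/-- `ext0 c (diagonal d) = diagonal (c ; d)` -/
theorem ext0_diagonal (c : F) (d : Fin m → F) :
    ext0 c (Matrix.diagonal d) = Matrix.diagonal (Fin.cons c d : Fin (m + 1) → F) := by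
  ext j k
  refine Fin.cases ?_ (fun j' => ?_) j <;> refine Fin.cases ?_ (fun k' => ?_) k <;>
    simp [Matrix.diagonal_apply, Fin.succ_ne_zero, (Fin.succ_ne_zero _).symm]

/-- a diagonal matrix times a permutation matrix -/
theorem diagonal_mul_perm {n : ℕ} (d e : Fin n → F) (τ : Equiv.Perm (Fin n))
    (h : ∀ j, d j = e (τ j)) :
    Matrix.diagonal d * τ.permMatrix F = τ.permMatrix F * Matrix.diagonal e := by
  ext j k
  have hP : τ.permMatrix F j k = if τ j = k then 1 else 0 := by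
    simp [Equiv.Perm.permMatrix, PEquiv.toMatrix_apply, Equiv.toPEquiv_apply, eq_comm]
  rw [Matrix.diagonal_mul, PEquiv.toMatrix_toPEquiv_mul, Matrix.submatrix_apply, id,
    hP, Matrix.diagonal_apply]
  by_cases hjk : τ j = k
  · rw [if_pos hjk, if_pos hjk, mul_one, h j]
  · rw [if_neg hjk, if_neg hjk, mul_zero]

/-- the permutation matrix of the transposition `(0, i.succ)` -/
def Pm (i : Fin m) : Matrix (Fin (m + 1)) (Fin (m + 1)) F :=
  (Equiv.swap (0 : Fin (m + 1)) i.succ).permMatrix F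

theorem Pm_mul_Pm (i : Fin m) : (Pm i : Matrix (Fin (m + 1)) (Fin (m + 1)) F) * Pm i = 1 := by
  unfold Pm
  rw [← Matrix.permMatrix_mul, Equiv.swap_mul_self, Matrix.permMatrix_one]

theorem Pm_transpose (i : Fin m) : (Pm i : Matrix (Fin (m + 1)) (Fin (m + 1)) F)ᵀ = Pm i := by
  unfold Pm
  rw [Matrix.transpose_permMatrix, Equiv.swap_inv]

/-- the permutation matrix as an element of `GL` -/
def PG (i : Fin m) : GL (Fin (m + 1)) F := ⟨Pm i, Pm i, Pm_mul_Pm i, Pm_mul_Pm i⟩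

theorem PG_mul_PG (i : Fin m) : (PG i : GL (Fin (m + 1)) F) * PG i = 1 :=
  Units.ext (Pm_mul_Pm i)

theorem PG_inv (i : Fin m) : (PG i : GL (Fin (m + 1)) F)⁻¹ = PG i := rfl

/-- `P (0 ; e_i) = e_0` -/
theorem Pm_mulVec (i : Fin m) :
    (Pm i : Matrix (Fin (m + 1)) (Fin (m + 1)) F) *ᵥ c0 (Pi.single i 1) = Pi.single 0 1 := by
  unfold Pm
  rw [Matrix.permMatrix_mulVec]
  funext j
  rw [Function.comp_apply]
  by_cases hj0 : j = 0
  · subst hj0
    rw [Equiv.swap_apply_left, c0_succ, Pi.single_eq_same, Pi.single_eq_same]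
  · by_cases hjs : j = i.succ
    · subst hjs
      rw [Equiv.swap_apply_right, c0_zero, Pi.single_eq_of_ne (Fin.succ_ne_zero i)]
    · rw [Equiv.swap_apply_of_ne_of_ne hj0 hjs, Pi.single_eq_of_ne hj0]
      obtain ⟨j', rfl⟩ := Fin.exists_succ_eq.mpr hj0
      rw [c0_succ, Pi.single_eq_of_ne]
      intro e
      exact hjs (by rw [e])

/-- the weight `0 ⊕ a E_ii` is moved to `T_a` -/
theorem cong_Pm (a : F) (i : Fin m) :
    cong ((PG i : GL (Fin (m + 1)) F)⁻¹.1)ᵀ (emS (rk1S a (Pi.single i 1))) = Ta a := by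
  rw [PG_inv]
  show cong (Pm i)ᵀ (emS (rk1S a (Pi.single i 1))) = Ta a
  rw [Pm_transpose, emS_rk1S, cong_rk1S, Pm_mulVec, Ta_eq_rk1S]

/-- `diag(-1,1,..,1) P = P (1 ⊕ diag(1,..,-1,..,1))` -/
theorem dA_mul_Pm (i : Fin m) :
    (dA (-1 : F) : Matrix (Fin (m + 1)) (Fin (m + 1)) F) * Pm i =
      Pm i * ext0 1 (Matrix.diagonal (Function.update 1 i (-1))) := by
  unfold dA Pm
  rw [← Matrix.diagonal_one, ext0_diagonal, ext0_diagonal]
  apply diagonal_mul_perm
  intro j
  by_cases hj0 : j = 0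
  · subst hj0
    rw [Equiv.swap_apply_left, Fin.cons_zero, Fin.cons_succ, Function.update_self]
  · by_cases hjs : j = i.succ
    · subst hjs
      rw [Equiv.swap_apply_right, Fin.cons_zero, Fin.cons_succ]
    · rw [Equiv.swap_apply_of_ne_of_ne hj0 hjs]
      obtain ⟨j', rfl⟩ := Fin.exists_succ_eq.mpr hj0
      have hji : j' ≠ i := fun e => hjs (by rw [e])
      rw [Fin.cons_succ, Fin.cons_succ, Function.update_of_ne hji]
      rfl

/-- S9a with the statements of `ds_eq_lgH` (for `s = -1`) and `ext0GL_Ta` as hypotheses -/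
theorem ds_neg_Tai_of (ψ₀ : AddChar F K)
    (R : SpG (m + 1) F →* Module.End K M) {a : F} (i : Fin m)
    (hDS : (ds (-1) : SpG (m + 1) F) = lgH ⟨dA (((-1 : Fˣ)) : F), dA ((((-1 : Fˣ))⁻¹ : Fˣ) : F),
      by rw [dA_mul, ← Units.val_mul, mul_inv_cancel, Units.val_one]; exact ext0_one,
      by rw [dA_mul, ← Units.val_mul, inv_mul_cancel, Units.val_one]; exact ext0_one⟩)
    (hS6 : ∀ v : M, v ∈ wsp R ψ₀ (Ta a) → ∀ A₂ : GL (Fin m) F,
      R (lgH (ext0GL A₂)) v = cA ψ₀ a m A₂ • v)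
    (u : M) (hu : u ∈ wsp R ψ₀ (emS (rk1S a (Pi.single i 1)))) :
    R (ds (-1)) u = cA ψ₀ a m (dnegGL i) • u := by
  -- move `u` to the weight space of `T_a`
  have hv : R (lgH (PG i)) u ∈ wsp R ψ₀ (Ta a) := by
    have := lgH_wsp ψ₀ R (PG i) _ u hu
    rwa [cong_Pm] at this
  have hS6' := hS6 _ hv (dnegGL i)
  -- `u = lg P (lg P u)`
  have huu : R (lgH (PG i)) (R (lgH (PG i)) u) = u := by
    rw [← Module.End.mul_apply, ← map_mul, ← map_mul, PG_mul_PG, map_one, map_one,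
      Module.End.one_apply]
  -- the group identity
  have hgrp : (ds (-1) : SpG (m + 1) F) * lgH (PG i) =
      lgH (PG i) * lgH (ext0GL (dnegGL i)) := by
    rw [hDS, ← map_mul, ← map_mul]
    congr 1
    apply Units.ext
    show dA (((-1 : Fˣ) : F)) * Pm i =
      Pm i * ext0 1 (Matrix.diagonal (Function.update 1 i (-1)))
    rw [Units.val_neg, Units.val_one]
    exact dA_mul_Pm i
  calc R (ds (-1)) u = R (ds (-1)) (R (lgH (PG i)) (R (lgH (PG i)) u)) := by
        rw [huu]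
    _ = R (ds (-1) * lgH (PG i)) (R (lgH (PG i)) u) := by
        rw [map_mul, Module.End.mul_apply]
    _ = R (lgH (PG i)) (R (lgH (ext0GL (dnegGL i))) (R (lgH (PG i)) u)) := by
        rw [hgrp, map_mul, Module.End.mul_apply]
    _ = R (lgH (PG i)) (cA ψ₀ a m (dnegGL i) • R (lgH (PG i)) u) := by rw [hS6']
    _ = cA ψ₀ a m (dnegGL i) • u := by rw [map_smul, huu]

end S9aaux

end S2

end Cfsg.Agent.Lib.Helper75_TZ
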