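import Mathlib
import Cfsg.Agent.Lib.Helper75_TZDefs
import Cfsg.Agent.Lib.Helper82_TZ_S_WDEC
import Cfsg.Agent.Lib.Helper63_TZ_SRES
import Cfsg.Agent.Lib.Helper91_TZ_S9aaux
import Cfsg.Agent.Lib.Helper10_TZ_S6

/-!
helper91: S2524 package S9a (architect helper75): `d(-1)` on the weight space of `0 ⊕ a E_ii`.
-/

set_option autoImplicit false
set_option linter.unusedSectionVars false
set_option linter.unusedVariables false

namespace Cfsg.Agent.Lib.Helper75_TZ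

open Matrix Module
open Cfsg.Agent.Lib.Helper5_SpPerfect Cfsg.Agent.Lib.Helper81_SpWeights
  Cfsg.Agent.Lib.Helper81_JointEigen Cfsg.Agent.Lib.Helper81_Heis Cfsg.Agent.Lib.Helper81_WeilLin
  Cfsg.Agent.Lib.Helper81_Schrodinger

section S2

variable {F : Type*} [Field F] [Fintype F] [DecidableEq F] {m : ℕ} {K : Type*} [Field K]
  [IsAlgClosed K] [CharZero K] {M : Type*} [AddCommGroup M] [Module K M] [FiniteDimensional K M]

/-- PACKAGE S9a: `d(-1)` acts on the weight space of `0 ⊕ a E_ii` by the scalar `c_a (diag (1,..,-1,..,1))`.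
(Conjugate `ext0GL_Ta` by the permutation matrix of the transposition `(0, i.succ)`, `lgH_wsp`.) -/
theorem ds_neg_Tai (ψ₀ : AddChar F K) (hψ₀ : ψ₀ ≠ 1) (hodd : Odd (Fintype.card F))
    (R : SpG (m + 1) F →* Module.End K M) (hrk : RankLeOne R ψ₀) {a : F} (ha : a ≠ 0) (i : Fin m)
    (u : M) (hu : u ∈ wsp R ψ₀ (emS (rk1S a (Pi.single i 1)))) :
    R (ds (-1)) u = cA ψ₀ a m (dnegGL i) • u :=
  S9aaux.ds_neg_Tai_of ψ₀ R i rfl
    (fun v hv A₂ => ext0GL_Ta ψ₀ hψ₀ hodd R hrk (Nat.succ_le_of_lt (Fin.pos i)) ha v hv A₂) u hu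

end S2

end Cfsg.Agent.Lib.Helper75_TZ
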