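import Mathlib
import Cfsg.Agent.Lib.Helper75_TZDefs
import Cfsg.Agent.Lib.Helper61_TZ_S9baux
import Cfsg.Agent.Lib.Helper54_TZ_GRP_EMB
import Cfsg.Agent.Lib.Helper81_TZ_W3
import Cfsg.Agent.Lib.Helper91_TZ_S9a

set_option autoImplicit false
set_option linter.unusedSectionVars false

/-!
S2524 market TZ (architect helper75), package S9b: the parity of a constituent of `M^Z` is a function of `a` and of the
central sign (wrapper of `S9baux.parity_core` with GRP-EMB `negOne_eq`, S9a `ds_neg_Tai`, and the central sign of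
`Fun^p(ω_a)`, proved here from W3 `weilA_negOne` as `S9baux.centralSign_weilP`, so that W5 is not needed).
-/

namespace Cfsg.Agent.Lib.Helper75_TZ

open Matrix Module
open Cfsg.Agent.Lib.Helper5_SpPerfect Cfsg.Agent.Lib.Helper81_SpWeights
  Cfsg.Agent.Lib.Helper81_JointEigen Cfsg.Agent.Lib.Helper81_Heis Cfsg.Agent.Lib.Helper81_WeilLin
  Cfsg.Agent.Lib.Helper81_Schrodinger

section S2

variable {F : Type*} [Field F] [Fintype F] [DecidableEq F] {m : ℕ} {K : Type*} [Field K]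
  [IsAlgClosed K] [CharZero K] {M : Type*} [AddCommGroup M] [Module K M] [FiniteDimensional K M]

namespace S9baux

/-- the central sign of `Fun^p(ω_a)` (the statement `weilP_centralSign` of W5, from W3) -/
theorem centralSign_weilP {k : ℕ} (ψ₀ : AddChar F K) (hψ₀ : ψ₀ ≠ 1) (h2 : (2 : F) ≠ 0) {a : F}
    (ha : a ≠ 0) (p : Bool) :
    CentralSign (weilP ψ₀ hψ₀ h2 a ha k p) (if p then -kap ψ₀ a k else kap ψ₀ a k) := by
  intro f
  apply Subtype.ext
  have h1 : ((weilP ψ₀ hψ₀ h2 a ha k p negOne f : funP k F K p) : (Fin k → F) → K) =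
      weilA ψ₀ a k negOne f.1 := rfl
  rw [h1, weilA_negOne ψ₀ hψ₀ h2 ha, LinearMap.smul_apply, Submodule.coe_smul]
  cases p with
  | true =>
    have hf : f.1 ∈ Wm (par k F K) := f.2
    rw [if_pos rfl, (mem_Wm _).1 hf, smul_neg, neg_smul]
  | false =>
    have hf : f.1 ∈ Wp (par k F K) := f.2
    rw [if_neg (by simp), (mem_Wp _).1 hf]

end S9baux

/-- PACKAGE S9b: the parity of a constituent of `M^Z` is a function of `a` and of the central sign -/
theorem parity (ψ₀ : AddChar F K) (hψ₀ : ψ₀ ≠ 1) (h2 : (2 : F) ≠ 0) (hodd : Odd (Fintype.card F))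
    (R : SpG (m + 1) F →* Module.End K M) (hrk : RankLeOne R ψ₀) (σ : K) (hσ : CentralSign R σ)
    {a : F} (ha : a ≠ 0) (i : Fin m) (D : Submodule K M)
    (hD : ∀ g : SpG m F, ∀ v ∈ D, (R.comp emb) g v ∈ D) (p : Bool)
    (hiso : IsoRep (weilP ψ₀ hψ₀ h2 a ha m p) (subRep (R.comp emb) D hD)) (u : M) (hu : u ∈ D)
    (hu0 : u ≠ 0) (huw : u ∈ wsp R ψ₀ (emS (rk1S a (Pi.single i 1)))) :
    (if p then -kap ψ₀ a m else kap ψ₀ a m) = σ * (cA ψ₀ a m (dnegGL i))⁻¹ :=
  S9baux.parity_core ψ₀ hψ₀ h2 R σ hσ ha i D hD p hiso u hu hu0 negOne_eq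
    (S9baux.centralSign_weilP ψ₀ hψ₀ h2 ha p) (ds_neg_Tai ψ₀ hψ₀ hodd R hrk ha i u huw)

end S2

end Cfsg.Agent.Lib.Helper75_TZ
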