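import Mathlib
import Cfsg.Agent.Lib.Helper97_TensDefs
import Cfsg.Agent.Lib.Helper97_TensBasic

/-!
# S5637-TP5a (helper61, for helper97's S5637 market)

Structure of a non-fibre member `t` of a pairwise disjoint orbit `FibOrb M`: every nonzero element
of `t` has a right inverse, and `t = (t Y₀) X₀` for a fixed `X₀ ∈ t` with right inverse `Y₀`.
-/

set_option autoImplicit false
set_option linter.unusedSectionVars false
set_option linter.unusedVariables false

namespace Cfsg.Agent.Lib.Helper61_Tens_TP5a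

open Matrix
open Cfsg.Agent.Lib.Helper98_ExtDefs Cfsg.Agent.Lib.Helper97_TensDefs
  Cfsg.Agent.Lib.Helper97_TensBasic

variable {F : Type*} [Field F] {ι κ : Type*} [Fintype ι] [Fintype κ] [DecidableEq ι] [DecidableEq κ]

/-- in dimension at least two every functional `β ⬝ᵥ ·` kills a nonzero vector -/
theorem exists_ne_zero_dotProduct_eq_zero {n : Type*} [Fintype n] [DecidableEq n]
    (hn : 2 ≤ Fintype.card n) (β : n → F) : ∃ y : n → F, y ≠ 0 ∧ β ⬝ᵥ y = 0 := by
  obtain ⟨i, j, hij⟩ := Fintype.exists_pair_of_one_lt_card (show 1 < Fintype.card n by omega)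
  by_cases hi : β i = 0
  · refine ⟨Pi.single i 1, ?_, ?_⟩
    · intro h
      have := congrFun h i
      simp at this
    · rw [dotProduct_single, mul_one, hi]
  · refine ⟨Pi.single j (β i) - Pi.single i (β j), ?_, ?_⟩
    · intro h
      have := congrFun h j
      simp [Pi.single_eq_of_ne hij.symm, hi] at this
    · rw [dotProduct_sub, dotProduct_single, dotProduct_single, mul_comm, sub_self]

/-- a matrix with injective `vecMul` has a right inverse -/
theorem exists_right_inverse_of_vecMul_injective (X : Matrix ι κ F)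
    (h : ∀ α : ι → F, α ᵥ* X = 0 → α = 0) : ∃ Y : Matrix κ ι F, X * Y = 1 := by
  have hker : LinearMap.ker (Matrix.toLin' Xᵀ) = ⊥ := by
    rw [LinearMap.ker_eq_bot']
    intro α hα
    rw [Matrix.toLin'_apply, mulVec_transpose] at hα
    exact h α hα
  obtain ⟨g, hg⟩ := LinearMap.exists_leftInverse_of_injective _ hker
  refine ⟨(LinearMap.toMatrix' g)ᵀ, ?_⟩
  have h1 : LinearMap.toMatrix' g * Xᵀ = 1 := by
    rw [← LinearMap.toMatrix'_toLin' Xᵀ, ← LinearMap.toMatrix'_comp, hg, LinearMap.toMatrix'_id]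
  have h2 := congrArg transpose h1
  rwa [transpose_mul, transpose_transpose, transpose_one] at h2

theorem vecMulVec_zero_right (x : ι → F) : vecMulVec x (0 : κ → F) = 0 := by
  ext i k
  simp [vecMulVec_apply]

theorem eq_zero_of_vecMulVec_eq_zero {x : ι → F} (hx : x ≠ 0) {z : κ → F}
    (h : vecMulVec x z = 0) : z = 0 := by
  obtain ⟨i, hi⟩ : ∃ i, x i ≠ 0 := by
    by_contra hcon
    push Not at hcon
    exact hx (funext hcon)
  ext k
  have := congrFun (congrFun h i) k
  rw [vecMulVec_apply, Matrix.zero_apply] at this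
  rcases mul_eq_zero.mp this with h1 | h1
  · exact absurd h1 hi
  · exact h1

/-- `X ↦ X *ᵥ β` as a linear map -/
def mulVecR (β : κ → F) : Matrix ι κ F →ₗ[F] (ι → F) where
  toFun X := X *ᵥ β
  map_add' X Y := add_mulVec X Y β
  map_smul' c X := by rw [smul_mulVec, RingHom.id_apply]

theorem mulVecR_apply (β : κ → F) (X : Matrix ι κ F) : mulVecR (ι := ι) β X = X *ᵥ β := rfl

/-- **TP5a**.  Structure of a non-fibre member of a pairwise disjoint orbit. -/
theorem spread_struct (ha : 2 ≤ Fintype.card ι) (hb : 2 ≤ Fintype.card κ)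
    (M : Subgroup (Matrix ι κ F ≃ₗ[F] Matrix ι κ F)) (hK : KronHyp M)
    (t : Submodule F (Matrix ι κ F)) (ht : t ∈ FibOrb M) (hnf : ¬ IsFiber t)
    (hdisj : ∀ t₁ ∈ FibOrb M, ∀ t₂ ∈ FibOrb M, t₁ ≠ t₂ → t₁ ⊓ t₂ = ⊥) :
    ∃ X₀ ∈ t, ∃ Y₀ : Matrix κ ι F, X₀ * Y₀ = 1 ∧
      ∀ X ∈ t, X = X * Y₀ * X₀ ∧ (X ≠ 0 → ∃ Y : Matrix κ ι F, X * Y = 1) := by
  classical
  -- (a) `t` contains no nonzero pure tensor
  have hpure : ∀ (x : ι → F) (y' : κ → F), vecMulVec x y' ∈ t → vecMulVec x y' = 0 := by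
    intro x y' hmem
    by_cases hy' : y' = 0
    · rw [hy', vecMulVec_zero_right]
    have hne : t ≠ fiber (ι := ι) y' := fun h => hnf ⟨y', hy', h⟩
    have hbot := hdisj t ht _ (fiber_mem_fibOrb M y' hy') hne
    have : vecMulVec x y' ∈ t ⊓ fiber (ι := ι) y' := ⟨hmem, vecMulVec_mem_fiber x y'⟩
    rw [hbot] at this
    exact (Submodule.mem_bot F).mp this
  -- the key dichotomy for elements `1 + N` of `M` with `N` pure-tensor valued
  have key : ∀ (N : Matrix ι κ F → Matrix ι κ F), (∀ X, ∃ x y', N X = vecMulVec x y') →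
      HasMap M (fun X => X + N X) →
      (∀ X ∈ t, N X = 0) ∨ (∀ X ∈ t, N X = 0 → X = 0) := by
    intro N hN ⟨u, hu, hux'⟩
    have hux : ∀ X, u X = X + N X := hux'
    by_cases heq : t.map u.toLinearMap = t
    · left
      intro X hX
      have h1 : u X ∈ t := by
        rw [← heq]
        exact Submodule.mem_map_of_mem hX
      have h2 : N X ∈ t := by
        have : N X = u X - X := by rw [hux]; abel
        rw [this]
        exact t.sub_mem h1 hX
      obtain ⟨x, y', hxy⟩ := hN X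
      rw [hxy] at h2 ⊢
      exact hpure x y' h2
    · right
      intro X hX hNX
      have hbot := hdisj _ (map_mem_fibOrb ht hu) t ht heq
      have h1 : u X = X := by rw [hux, hNX, add_zero]
      have : X ∈ t.map u.toLinearMap ⊓ t := by
        refine ⟨?_, hX⟩
        rw [← h1]
        exact Submodule.mem_map_of_mem hX
      rw [hbot] at this
      exact (Submodule.mem_bot F).mp this
  -- (b) the dichotomy for `X ↦ X *ᵥ β`
  have hB : ∀ β : κ → F, (∀ X ∈ t, X *ᵥ β = 0) ∨ (∀ X ∈ t, X *ᵥ β = 0 → X = 0) := by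
    intro β
    obtain ⟨y', hy', hβy⟩ := exists_ne_zero_dotProduct_eq_zero hb β
    rcases key (fun X => nB y' β X) (fun X => ⟨X *ᵥ β, y', rfl⟩) (hasMap_rootB hK y' β hβy)
      with h | h
    · left
      intro X hX
      exact (vecMulVec_eq_zero_iff hy').mp (h X hX)
    · right
      intro X hX hXβ
      apply h X hX
      show vecMulVec (X *ᵥ β) y' = 0
      rw [hXβ, zero_vecMulVec]
  have hfr : Module.finrank F t = Fintype.card ι := finrank_of_mem_fibOrb ht
  -- a nonzero element of `t`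
  have hnt : Nontrivial t := by
    apply Module.nontrivial_of_finrank_pos (R := F)
    omega
  obtain ⟨⟨X₁, hX₁⟩, hX₁0'⟩ := exists_ne (0 : t)
  have hX₁0 : X₁ ≠ 0 := fun h => hX₁0' (Subtype.ext h)
  -- (c) nonzero elements of `t` have injective `vecMul`
  have hC : ∀ α : ι → F, α ≠ 0 → ∀ X ∈ t, α ᵥ* X = 0 → X = 0 := by
    intro α hα
    obtain ⟨x, hx, hαx⟩ := exists_ne_zero_dotProduct_eq_zero ha α
    rcases key (fun X => vecMulVec x (α ᵥ* X)) (fun X => ⟨x, α ᵥ* X, rfl⟩)
      (hasMap_rootA hK x α hαx) with h | h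
    · exfalso
      -- some `X₂ ∈ t` has `α ᵥ* X₂ ≠ 0`
      obtain ⟨j, hj⟩ : ∃ j, X₁ *ᵥ Pi.single j 1 ≠ 0 := by
        by_contra hcon
        push Not at hcon
        apply hX₁0
        rw [ext_iff_mulVec]
        intro v
        have hv : v = ∑ j, v j • (Pi.single j (1 : F) : κ → F) := by
          ext k
          simp [Finset.sum_apply, Pi.single_apply]
        rw [hv, mulVec_sum]
        simp only [mulVec_smul, hcon, smul_zero, Finset.sum_const_zero, zero_mulVec]
      set β : κ → F := Pi.single j 1 with hβ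
      have hinj : ∀ X ∈ t, X *ᵥ β = 0 → X = 0 := by
        rcases hB β with h' | h'
        · exact absurd (h' X₁ hX₁) hj
        · exact h'
      -- the restriction of `X ↦ X *ᵥ β` to `t` is injective, hence surjective
      let φ : t →ₗ[F] (ι → F) := (mulVecR (ι := ι) β).comp t.subtype
      have hφinj : Function.Injective φ := by
        rw [← LinearMap.ker_eq_bot, LinearMap.ker_eq_bot']
        intro X hX
        exact Subtype.ext (hinj X.1 X.2 hX)
      have hφsurj : Function.Surjective φ := by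
        refine (LinearMap.injective_iff_surjective_of_finrank_eq_finrank ?_).mp hφinj
        rw [hfr, Module.finrank_fintype_fun_eq_card]
      obtain ⟨i, hi⟩ : ∃ i, α i ≠ 0 := by
        by_contra hcon
        push Not at hcon
        exact hα (funext hcon)
      obtain ⟨X₂, hX₂⟩ := hφsurj (Pi.single i 1)
      have h3 : X₂.1 *ᵥ β = Pi.single i 1 := hX₂
      have h4 : vecMulVec x (α ᵥ* X₂.1) = 0 := h X₂.1 X₂.2
      have h5 : α ᵥ* X₂.1 = 0 := eq_zero_of_vecMulVec_eq_zero hx h4
      have h6 : α ⬝ᵥ (X₂.1 *ᵥ β) = 0 := by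
        rw [dotProduct_mulVec, h5, zero_dotProduct]
      rw [h3, dotProduct_single, mul_one] at h6
      exact hi h6
    · intro X hX hαX
      apply h X hX
      show vecMulVec x (α ᵥ* X) = 0
      rw [hαX, vecMulVec_zero_right]
  -- right inverses
  have hR : ∀ X ∈ t, X ≠ 0 → ∃ Y : Matrix κ ι F, X * Y = 1 := by
    intro X hX hX0
    apply exists_right_inverse_of_vecMul_injective
    intro α hα
    by_contra hα0
    exact hX0 (hC α hα0 X hX hα)
  obtain ⟨Y₀, hY₀⟩ := hR X₁ hX₁ hX₁0
  refine ⟨X₁, hX₁, Y₀, hY₀, fun X hX => ⟨?_, hR X hX⟩⟩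
  -- (d)
  rw [ext_iff_mulVec]
  intro e
  have h1 : X₁ *ᵥ (e - (Y₀ * X₁) *ᵥ e) = 0 := by
    rw [mulVec_sub, mulVec_mulVec, ← Matrix.mul_assoc, hY₀, Matrix.one_mul, sub_self]
  have h2 : X *ᵥ (e - (Y₀ * X₁) *ᵥ e) = 0 := by
    rcases hB (e - (Y₀ * X₁) *ᵥ e) with h | h
    · exact h X hX
    · exact absurd (h X₁ hX₁ h1) hX₁0
  rw [mulVec_sub, mulVec_mulVec, sub_eq_zero, ← Matrix.mul_assoc] at h2
  exact h2

end Cfsg.Agent.Lib.Helper61_Tens_TP5a
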