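import Mathlib
import Cfsg.Agent.Lib.Helper97_TensDefs

/-!
# S5637-TP5b (for helper97): `spread_conj`

In a pairwise disjoint orbit of fibres, the space `{T | T * X₀ ∈ t}` is normalised by `SL(A)`.
-/

set_option autoImplicit false
set_option linter.unusedSectionVars false
set_option linter.unusedVariables false

namespace Cfsg.Agent.Lib.Helper69_Tens_TP5b

open Matrix
open Cfsg.Agent.Lib.Helper98_ExtDefs Cfsg.Agent.Lib.Helper97_TensDefs

variable {F : Type*} [Field F] {ι κ : Type*} [Fintype ι] [Fintype κ] [DecidableEq ι] [DecidableEq κ]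

/-- **TP5b** (M).  The space `{T | T * X₀ ∈ t}` is normalised by `SL(A)`. -/
theorem spread_conj (M : Subgroup (Matrix ι κ F ≃ₗ[F] Matrix ι κ F)) (hK : KronHyp M)
    (t : Submodule F (Matrix ι κ F)) (ht : t ∈ FibOrb M)
    (hdisj : ∀ t₁ ∈ FibOrb M, ∀ t₂ ∈ FibOrb M, t₁ ≠ t₂ → t₁ ⊓ t₂ = ⊥)
    (X₀ : Matrix ι κ F) (hX₀ : X₀ ∈ t) (Y₀ : Matrix κ ι F) (hXY : X₀ * Y₀ = 1)
    (P : Matrix ι ι F) (hP : P.det = 1) (T : Matrix ι ι F) (hT : T * X₀ ∈ t) :
    P * T * P⁻¹ * X₀ ∈ t := by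
  rcases isEmpty_or_nonempty ι with hι | hι
  · have : P * T * P⁻¹ * X₀ = X₀ := Subsingleton.elim _ _
    rw [this]
    exact hX₀
  have hPu : IsUnit P.det := by rw [hP]; exact isUnit_one
  have hPinv : P * P⁻¹ = 1 := Matrix.mul_nonsing_inv P hPu
  have hPinvdet : (P⁻¹).det = 1 := by
    have := congrArg Matrix.det hPinv
    rw [Matrix.det_mul, hP, one_mul, Matrix.det_one] at this
    exact this
  set W : Matrix κ κ F := 1 + Y₀ * (P⁻¹ - 1) * X₀ with hW
  have hXW : X₀ * W = P⁻¹ * X₀ := by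
    rw [hW, Matrix.mul_add, Matrix.mul_one, ← Matrix.mul_assoc, ← Matrix.mul_assoc, hXY,
      Matrix.one_mul, Matrix.sub_mul, Matrix.one_mul]
    abel
  have hWdet : W.det = 1 := by
    rw [hW, Matrix.mul_assoc, Matrix.det_one_add_mul_comm]
    have : (P⁻¹ - 1) * X₀ * Y₀ = P⁻¹ - 1 := by
      rw [Matrix.mul_assoc, hXY, Matrix.mul_one]
    rw [this, add_sub_cancel, hPinvdet]
  obtain ⟨g, hgM, hg⟩ := hK P Wᵀ (by rw [hP, Matrix.det_transpose, hWdet, one_pow, one_pow, one_mul])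
  have hg' : ∀ X, g X = P * X * W := by
    intro X
    rw [hg, Matrix.transpose_transpose]
  have hgX₀ : g X₀ = X₀ := by
    rw [hg', Matrix.mul_assoc, hXW, ← Matrix.mul_assoc, hPinv, Matrix.one_mul]
  -- `t.map g` is in the orbit
  obtain ⟨g₀, hg₀M, y, hy, hty⟩ := ht
  have htg : t.map g.toLinearMap ∈ FibOrb M := by
    refine ⟨g * g₀, M.mul_mem hgM hg₀M, y, hy, ?_⟩
    rw [hty, ← Submodule.map_comp]
    rfl
  have hX₀ne : X₀ ≠ 0 := by
    intro h
    rw [h, Matrix.zero_mul] at hXY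
    exact zero_ne_one hXY
  have hteq : t.map g.toLinearMap = t := by
    by_contra hne
    have := hdisj _ htg t ⟨g₀, hg₀M, y, hy, hty⟩ hne
    have hmem : X₀ ∈ t.map g.toLinearMap ⊓ t := by
      refine ⟨⟨X₀, hX₀, ?_⟩, hX₀⟩
      exact hgX₀
    rw [this] at hmem
    exact hX₀ne ((Submodule.mem_bot F).mp hmem)
  have : g (T * X₀) ∈ t.map g.toLinearMap := ⟨T * X₀, hT, rfl⟩
  rw [hteq, hg'] at this
  have e : P * (T * X₀) * W = P * T * P⁻¹ * X₀ := by
    rw [Matrix.mul_assoc, Matrix.mul_assoc, hXW]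
    simp only [Matrix.mul_assoc]
  rw [e] at this
  exact this

end Cfsg.Agent.Lib.Helper69_Tens_TP5b
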