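import Mathlib
import Cfsg.Agent.Lib.Helper97_TensDefs
import Cfsg.Agent.Lib.Helper97_TensBasic
import Cfsg.Agent.Lib.Helper61_Tens_TP5a
import Cfsg.Agent.Lib.Helper69_Tens_TP5b
import Cfsg.Agent.Lib.Helper82_Tens_TP5c

/-!
# S5637-TP5 (helper61, for helper97's S5637 market): assembly of TP5a, TP5b, TP5c

A pairwise disjoint orbit `FibOrb M` containing a non-fibre forces `a = |F| = 2`.
`spread_contra_of` takes the statement of TP5b (`spread_conj`) as a hypothesis; `spread_contra` is the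
package statement.
-/

set_option autoImplicit false
set_option linter.unusedSectionVars false
set_option linter.unusedVariables false

namespace Cfsg.Agent.Lib.Helper61_Tens_TP5

open Matrix
open Cfsg.Agent.Lib.Helper98_ExtDefs Cfsg.Agent.Lib.Helper97_TensDefs
  Cfsg.Agent.Lib.Helper97_TensBasic

variable {F : Type*} [Field F] {ι κ : Type*} [Fintype ι] [Fintype κ] [DecidableEq ι] [DecidableEq κ]

/-- `T ↦ T * X₀` as a linear map -/
def mulR (X₀ : Matrix ι κ F) : Matrix ι ι F →ₗ[F] Matrix ι κ F where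
  toFun T := T * X₀
  map_add' T T' := Matrix.add_mul T T' X₀
  map_smul' c T := by rw [Matrix.smul_mul, RingHom.id_apply]

theorem mulR_apply (X₀ : Matrix ι κ F) (T : Matrix ι ι F) : mulR X₀ T = T * X₀ := rfl

/-- **TP5**, with the statement of TP5b as a hypothesis. -/
theorem spread_contra_of
    (h5b : ∀ (M : Subgroup (Matrix ι κ F ≃ₗ[F] Matrix ι κ F)) (hK : KronHyp M)
      (t : Submodule F (Matrix ι κ F)) (ht : t ∈ FibOrb M)
      (hdisj : ∀ t₁ ∈ FibOrb M, ∀ t₂ ∈ FibOrb M, t₁ ≠ t₂ → t₁ ⊓ t₂ = ⊥)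
      (X₀ : Matrix ι κ F) (hX₀ : X₀ ∈ t) (Y₀ : Matrix κ ι F) (hXY : X₀ * Y₀ = 1)
      (P : Matrix ι ι F) (hP : P.det = 1) (T : Matrix ι ι F) (hT : T * X₀ ∈ t),
      P * T * P⁻¹ * X₀ ∈ t)
    (ha : 2 ≤ Fintype.card ι) (hab : Fintype.card ι < Fintype.card κ)
    (M : Subgroup (Matrix ι κ F ≃ₗ[F] Matrix ι κ F)) (hK : KronHyp M)
    (t : Submodule F (Matrix ι κ F)) (ht : t ∈ FibOrb M) (hnf : ¬ IsFiber t)
    (hdisj : ∀ t₁ ∈ FibOrb M, ∀ t₂ ∈ FibOrb M, t₁ ≠ t₂ → t₁ ⊓ t₂ = ⊥) :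
    Fintype.card ι = 2 ∧ Nat.card F = 2 := by
  classical
  obtain ⟨X₀, hX₀, Y₀, hXY, hstr⟩ :=
    Cfsg.Agent.Lib.Helper61_Tens_TP5a.spread_struct ha (by omega) M hK t ht hnf hdisj
  -- the space `K = {T | T * X₀ ∈ t}`
  let K : Submodule F (Matrix ι ι F) := t.comap (mulR X₀)
  have hKmem : ∀ T, T ∈ K ↔ T * X₀ ∈ t := fun T => Iff.rfl
  -- `T ↦ T * X₀` is injective
  have hinj0 : ∀ T : Matrix ι ι F, T * X₀ = 0 → T = 0 := by
    intro T hT
    have : T * X₀ * Y₀ = 0 := by rw [hT, Matrix.zero_mul]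
    rwa [Matrix.mul_assoc, hXY, Matrix.mul_one] at this
  -- the linear bijection `K → t`
  let ψ : K →ₗ[F] t :=
    { toFun := fun T => ⟨T.1 * X₀, T.2⟩
      map_add' := fun T T' => Subtype.ext (Matrix.add_mul T.1 T'.1 X₀)
      map_smul' := fun c T => Subtype.ext (Matrix.smul_mul c T.1 X₀) }
  have hψinj : Function.Injective ψ := by
    rw [← LinearMap.ker_eq_bot, LinearMap.ker_eq_bot']
    intro T hT
    exact Subtype.ext (hinj0 T.1 (congrArg Subtype.val hT))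
  have hψsurj : Function.Surjective ψ := by
    rintro ⟨X, hX⟩
    have h1 := (hstr X hX).1
    refine ⟨⟨X * Y₀, ?_⟩, Subtype.ext h1.symm⟩
    rw [hKmem, ← h1]
    exact hX
  have hdim : Module.finrank F K = Fintype.card ι := by
    rw [LinearEquiv.finrank_eq (LinearEquiv.ofBijective ψ ⟨hψinj, hψsurj⟩)]
    exact finrank_of_mem_fibOrb ht
  have hinv : ∀ T ∈ K, T ≠ 0 → IsUnit T := by
    intro T hT hT0
    have h0 : T * X₀ ≠ 0 := fun h => hT0 (hinj0 T h)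
    obtain ⟨Y, hY⟩ := (hstr (T * X₀) hT).2 h0
    rw [Matrix.mul_assoc] at hY
    exact (Matrix.isUnit_iff_isUnit_det T).mpr (Matrix.isUnit_det_of_right_inverse hY)
  have hconj : ∀ P : Matrix ι ι F, P.det = 1 → ∀ T ∈ K, P * T * P⁻¹ ∈ K := by
    intro P hP T hT
    exact h5b M hK t ht hdisj X₀ hX₀ Y₀ hXY P hP T hT
  exact Cfsg.Agent.Lib.Helper82_Tens_TP5c.no_division_space ha K hdim hinv hconj

/-- **TP5** [asm of TP5a, TP5b, TP5c] (M). -/
theorem spread_contra (ha : 2 ≤ Fintype.card ι) (hab : Fintype.card ι < Fintype.card κ)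
    (M : Subgroup (Matrix ι κ F ≃ₗ[F] Matrix ι κ F)) (hK : KronHyp M)
    (t : Submodule F (Matrix ι κ F)) (ht : t ∈ FibOrb M) (hnf : ¬ IsFiber t)
    (hdisj : ∀ t₁ ∈ FibOrb M, ∀ t₂ ∈ FibOrb M, t₁ ≠ t₂ → t₁ ⊓ t₂ = ⊥) :
    Fintype.card ι = 2 ∧ Nat.card F = 2 :=
  spread_contra_of (fun M hK t ht hdisj X₀ hX₀ Y₀ hXY P hP T hT =>
    Cfsg.Agent.Lib.Helper69_Tens_TP5b.spread_conj M hK t ht hdisj X₀ hX₀ Y₀ hXY P hP T hT)
    ha hab M hK t ht hnf hdisj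

end Cfsg.Agent.Lib.Helper61_Tens_TP5
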