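import Mathlib
import Cfsg.Agent.Lib.Helper65_U3Defs
import Cfsg.Agent.Lib.Helper17_Sylow

/-!
# S2148 abstract half, package S6Q3 (helper61, second seat; architect helper65)

`q = 3`, `H ⊓ Q = ⊥`, `T ≤ H`: `|H| = 224 = 2^5 * 7`, a Sylow `7`-subgroup `⟨s⟩` of `H` is centralised by an
involution `τ ∈ H`; `τ` has a fixed point, so is conjugate into `H ⊓ B = T`, hence into `T1`, whose
nonidentity elements fix exactly the block (4 points); `s` permutes these, so `7 ∣ |B| = 216`.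

`step6_q3_aux` takes the facts of the packages BAS4 (`card_T`), S2E (`good_card_H`, `good_mem_inf_B`),
BAS6 (`T1_fix`) and GEN (`prime_dvd_of_stab_blk`) as hypotheses.
-/

set_option autoImplicit false
set_option linter.unusedSectionVars false
set_option linter.unusedVariables false

namespace Cfsg.Agent.Lib.Helper61_U3A_S6Q3

open Subgroup Cfsg.Agent.Lib.Helper65_U3Defs

/-- a group of order `224 = 2^5 * 7` has commuting elements of orders `7` and `2` -/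
theorem exists_comm_of_card_224 {K : Type*} [Group K] [Finite K] (hK : Nat.card K = 224) :
    ∃ s τ : K, orderOf s = 7 ∧ orderOf τ = 2 ∧ τ * s = s * τ := by
  have hp7 : Fact (Nat.Prime 7) := ⟨by norm_num⟩
  have hp2 : Fact (Nat.Prime 2) := ⟨Nat.prime_two⟩
  have hK' : Nat.card K = 7 ^ 1 * 32 := by rw [hK]; norm_num
  have h7 : ¬ 7 ∣ 32 := by decide
  obtain ⟨P⟩ : Nonempty (Sylow 7 K) := inferInstance
  have hP : Nat.card (P : Subgroup K) = 7 := by
    have := Cfsg.Agent.Lib.Helper17_Sylow.card_sylow_eq_pow hK' h7 P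
    rwa [pow_one] at this
  have hn := Cfsg.Agent.Lib.Helper17_Sylow.card_sylow_mem_candidates hK' h7
  have hn' : Nat.card (Sylow 7 K) = 1 ∨ Nat.card (Sylow 7 K) = 8 := by
    have hl : Cfsg.Agent.Lib.Helper17_Sylow.sylowCandidates 7 32 = [1, 8] := by decide
    rw [hl] at hn
    simpa using hn
  have hN := Cfsg.Agent.Lib.Helper17_Sylow.card_normalizer_mul_card_sylow P
  rw [hK] at hN
  have hk := Cfsg.Agent.Lib.Helper17_Sylow.relIndex_centralizer_normalizer_dvd_pred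
    (P : Subgroup K) hP
  have hC := Cfsg.Agent.Lib.Helper17_Sylow.card_mul_relIndex_of_le
    (centralizer_le_normalizer (((P : Subgroup K) : Set K)))
  set k := (centralizer ((P : Subgroup K) : Set K)).relIndex (normalizer ((P : Subgroup K) : Set K))
  set cC := Nat.card (centralizer ((P : Subgroup K) : Set K))
  set cN := Nat.card (normalizer ((P : Subgroup K) : Set K))
  set n := Nat.card (Sylow 7 K)
  have h2C : 2 ∣ cC := by
    have hk6 : k ≤ 6 := Nat.le_of_dvd (by norm_num) hk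
    have hk0 : 0 < k := Nat.pos_of_dvd_of_pos hk (by norm_num)
    rcases hn' with h1 | h8
    · rw [h1] at hN
      interval_cases k <;> omega
    · rw [h8] at hN
      interval_cases k <;> omega
  obtain ⟨τ, hτ⟩ :=
    exists_prime_orderOf_dvd_card' (G := centralizer ((P : Subgroup K) : Set K)) 2 h2C
  obtain ⟨s, hs⟩ := exists_prime_orderOf_dvd_card' (G := (P : Subgroup K)) 7 (by rw [hP])
  refine ⟨s.1, τ.1, ?_, ?_, ?_⟩
  · rw [Subgroup.orderOf_coe]; exact hs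
  · rw [Subgroup.orderOf_coe]; exact hτ
  · exact (Subgroup.mem_centralizer_iff.mp τ.2 s.1 s.2).symm

variable {p q : ℕ} {F G U : Type*} [Field F] [Group G] [MulAction G U]
variable {D : U3Data p q F G U} {H : Subgroup G}

/-- **S6Q3**, with the facts of BAS4, S2E, BAS6, GEN as hypotheses. -/
theorem step6_q3_aux (hG : Good D H) (hq : q = 3) (hr : H ⊓ D.Q = ⊥) (hT : D.T ≤ H)
    (cT : Nat.card ↥D.T * Nat.gcd 3 (q + 1) = q ^ 2 - 1)
    (cardH : Nat.card ↥H = (q ^ 3 + 1) * (Nat.card ↥(H ⊓ D.Q) * Nat.card ↥(H ⊓ D.T)))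
    (memB : ∀ g ∈ H ⊓ D.B, ∃ z ∈ H ⊓ D.Q, ∃ s ∈ H ⊓ D.T, g = z * s)
    (T1fix : ∀ s ∈ D.T1, s ≠ 1 → ∀ w : U, s • w = w ↔ w ∈ D.Blk)
    (pdvd : ∀ (s g : G) (l : ℕ), l.Prime → orderOf s = l → q + 1 < l →
      (∀ v ∈ D.Blk, (g⁻¹ * s * g) • v ∈ D.Blk) → l ∣ q ^ 3 * Nat.card ↥D.T) : False := by
  subst hq
  have hfin := D.finG
  -- `p = 3`
  have hp3 : p = 3 := by
    have h1 : p ∣ 3 := by
      have h2 : p ∣ p ^ D.k := dvd_pow_self p D.hk.ne'
      rwa [← D.hq] at h2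
    exact (Nat.prime_dvd_prime_iff_eq D.hp Nat.prime_three).mp h1
  have hp2 : p ≠ 2 := by omega
  have hcT : Nat.card ↥D.T = 8 := by
    have h1 : Nat.gcd 3 (3 + 1) = 1 := by decide
    rw [h1, mul_one] at cT
    rw [cT]
    norm_num
  have hHT : H ⊓ D.T = D.T := inf_eq_right.mpr hT
  have hcardH : Nat.card ↥H = 224 := by
    rw [cardH, hr, hHT, hcT, Subgroup.card_bot]
    norm_num
  obtain ⟨s0, τ0, hs0, hτ0, hcomm0⟩ := exists_comm_of_card_224 hcardH
  have hs : orderOf (s0 : G) = 7 := by rw [Subgroup.orderOf_coe]; exact hs0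
  have hτ : orderOf (τ0 : G) = 2 := by rw [Subgroup.orderOf_coe]; exact hτ0
  have hcomm : (τ0 : G) * (s0 : G) = (s0 : G) * (τ0 : G) := congrArg Subtype.val hcomm0
  obtain ⟨w, hw⟩ := D.inv_fix hp2 (τ0 : G) hτ
  obtain ⟨h, hhH, hhw⟩ := hG.trans D.u w
  have hτ'H : h⁻¹ * (τ0 : G) * h ∈ H := H.mul_mem (H.mul_mem (H.inv_mem hhH) τ0.2) hhH
  have hτ'u : (h⁻¹ * (τ0 : G) * h) • D.u = D.u := by
    rw [mul_smul, mul_smul, hhw, hw, ← hhw, inv_smul_smul]
  obtain ⟨z, hz, s1, hs1, e⟩ := memB _ ⟨hτ'H, D.mem_B.mpr hτ'u⟩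
  rw [hr, Subgroup.mem_bot] at hz
  subst hz
  rw [one_mul] at e
  have hτ'T : h⁻¹ * (τ0 : G) * h ∈ D.T := e ▸ hs1.2
  obtain ⟨l, hl⟩ := D.mem_T.mp hτ'T
  have hτ'sq : (h⁻¹ * (τ0 : G) * h) * (h⁻¹ * (τ0 : G) * h) = 1 := by
    have h1 : (τ0 : G) * (τ0 : G) = 1 := by
      have := pow_orderOf_eq_one (τ0 : G)
      rwa [hτ, pow_two] at this
    have h2 : (h⁻¹ * (τ0 : G) * h) * (h⁻¹ * (τ0 : G) * h) = h⁻¹ * ((τ0 : G) * (τ0 : G)) * h := by
      group
    rw [h2, h1]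
    group
  have hτ'ne : h⁻¹ * (τ0 : G) * h ≠ 1 := by
    intro h1
    have h2 : (τ0 : G) = 1 := by
      have : (τ0 : G) = h * (h⁻¹ * (τ0 : G) * h) * h⁻¹ := by group
      rw [this, h1]
      group
    rw [h2, orderOf_one] at hτ
    omega
  have hl2 : D.t (l * l) = 1 := by rw [map_mul, hl]; exact hτ'sq
  obtain ⟨h8, h6⟩ := (D.t_ker (l * l)).mp hl2
  have hll : l * l = 1 := by
    have h1 : (l * l) ^ (3 + 1) = (l * l) ^ 3 * (l * l) := pow_succ _ 3
    rw [h8, h6, one_mul] at h1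
    exact h1.symm
  have hl4 : l ^ (3 + 1) = 1 := by
    have h1 : l ^ (3 + 1) = (l * l) * (l * l) := by
      rw [pow_succ, pow_succ, pow_succ, pow_one, mul_assoc]
    rw [h1, hll, one_mul]
  have hτ'T1 : h⁻¹ * (τ0 : G) * h ∈ D.T1 := D.mem_T1.mpr ⟨l, hl4, hl⟩
  have hstab : ∀ v ∈ D.Blk, (h⁻¹ * (s0 : G) * h) • v ∈ D.Blk := by
    intro v hv
    have hfix := (T1fix _ hτ'T1 hτ'ne v).mpr hv
    apply (T1fix _ hτ'T1 hτ'ne _).mp
    have hc : (h⁻¹ * (τ0 : G) * h) * (h⁻¹ * (s0 : G) * h)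
        = (h⁻¹ * (s0 : G) * h) * (h⁻¹ * (τ0 : G) * h) := by
      have h1 : (h⁻¹ * (τ0 : G) * h) * (h⁻¹ * (s0 : G) * h) = h⁻¹ * ((τ0 : G) * (s0 : G)) * h := by
        group
      rw [h1, hcomm]
      group
    rw [← mul_smul, hc, mul_smul, hfix]
  have hdvd := pdvd (s0 : G) h 7 (by norm_num) hs (by norm_num) hstab
  rw [hcT] at hdvd
  norm_num at hdvd

end Cfsg.Agent.Lib.Helper61_U3A_S6Q3
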