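import Mathlib
import Cfsg.Agent.Lib.Helper83_U3PJ
import Cfsg.Agent.Lib.Helper65_U3Defs
import Cfsg.Agent.Lib.Helper58_U3A_FLDA

/-!
# S2148 concrete half, package CENTER (helper61, for architect helper83)

The centre of `SUJ σ` consists of the scalar matrices `t_l`, `l σ l = 1`, `l^3 = 1`; it lies in the Borel
subgroup and has `gcd 3 (q+1)` elements.

Also (used here, reusable): `exists_not_fixed` (`σ ≠ id`), `exists_trace_zero'`, `exists_par_one`.
-/

set_option autoImplicit false
set_option linter.unusedSectionVars false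
set_option linter.unusedVariables false

namespace Cfsg.Agent.Lib.Helper61_U3C_CENTER

open Matrix Cfsg.Agent.Lib.Helper83_SU3J Cfsg.Agent.Lib.Helper83_U3Model
  Cfsg.Agent.Lib.Helper83_U3Bruhat Cfsg.Agent.Lib.Helper83_U3Group Cfsg.Agent.Lib.Helper83_U3PJ
  Cfsg.Agent.Lib.Helper65_U3Defs

variable {F : Type*} [Field F] [Fintype F] {σ : F →+* F} {q : ℕ}

theorem two_le_q (hF : Fintype.card F = q ^ 2) : 2 ≤ q := by
  have h1 : 1 < Fintype.card F := Fintype.one_lt_card
  rw [hF] at h1
  by_contra h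
  have : q = 0 ∨ q = 1 := by omega
  rcases this with rfl | rfl <;> simp at h1

/-- `σ` is not the identity -/
theorem exists_not_fixed (hF : Fintype.card F = q ^ 2) (hσq : ∀ x, σ x = x ^ q) :
    ∃ d : F, σ d ≠ d := by
  classical
  have hq := two_le_q hF
  obtain ⟨g, hg⟩ := IsCyclic.exists_generator (α := Fˣ)
  have hord : orderOf g = q ^ 2 - 1 := by
    rw [orderOf_eq_card_of_forall_mem_zpowers hg, Nat.card_eq_fintype_card, Fintype.card_units, hF]
  refine ⟨(g : F), ?_⟩
  intro h
  rw [hσq] at h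
  have h1 : g ^ (q - 1) = 1 := by
    apply Units.ext
    rw [Units.val_pow_eq_pow_val, Units.val_one]
    have h2 : (g : F) ^ (q - 1) * (g : F) = (g : F) := by
      rw [← pow_succ, Nat.sub_add_cancel (by omega)]
      exact h
    have h3 : (g : F) ≠ 0 := g.ne_zero
    exact mul_right_cancel₀ h3 (h2.trans (one_mul _).symm)
  have h4 := orderOf_dvd_of_pow_eq_one h1
  rw [hord] at h4
  have h5 := Nat.le_of_dvd (by omega) h4
  have h6 : q ^ 2 = q * q := sq q
  have h7 : 2 * q ≤ q ^ 2 := by rw [h6]; exact Nat.mul_le_mul_right q hq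
  generalize q ^ 2 = N at h5 h7
  omega

theorem exists_trace_zero' (hF : Fintype.card F = q ^ 2) (hσq : ∀ x, σ x = x ^ q)
    (hσ : ∀ x, σ (σ x) = x) : ∃ e : F, e ≠ 0 ∧ e + σ e = 0 := by
  obtain ⟨d, hd⟩ := exists_not_fixed hF hσq
  refine ⟨d - σ d, ?_, ?_⟩
  · intro h
    exact hd (sub_eq_zero.mp h).symm
  · rw [map_sub, hσ]
    ring

theorem exists_par_one (hF : Fintype.card F = q ^ 2) (hσq : ∀ x, σ x = x ^ q)
    (hσ : ∀ x, σ (σ x) = x) : ∃ b : F, Par σ 1 b := by
  obtain ⟨d, hd⟩ := exists_not_fixed hF hσq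
  unfold Par
  by_cases ht : d + σ d = 0
  · -- then `2 ≠ 0`
    have h2 : (2 : F) ≠ 0 := by
      intro h2
      apply hd
      have : σ d = -d := by linear_combination ht
      rw [this]
      linear_combination (-d) * h2
    refine ⟨-(2 : F)⁻¹, ?_⟩
    rw [map_neg, map_inv₀, map_ofNat, map_one]
    field_simp
    ring
  · refine ⟨-d / (d + σ d), ?_⟩
    rw [map_div₀, map_neg, map_add, hσ, map_one]
    have ht' : σ d + d ≠ 0 := by rwa [add_comm] at ht
    field_simp
    ring

/-- for `l σ l = 1`, `l^3 = 1` the torus element `t_l` is the scalar `l` -/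
theorem tS_scalar (l : Fˣ) (h1 : (l : F) * σ (l : F) = 1) (h3 : (l : F) ^ 3 = 1) :
    (tS σ l).1 = (l : F) • (1 : Matrix (Fin 3) (Fin 3) F) := by
  have hl : (l : F) ≠ 0 := l.ne_zero
  have hs : σ (l : F) = (l : F)⁻¹ := by
    field_simp
    linear_combination h1
  rw [tS_val, hs]
  ext i j
  fin_cases i <;> fin_cases j <;> simp
  field_simp
  linear_combination -h3

/-- **CENTER**. -/
theorem center_iff (hF : Fintype.card F = q ^ 2) (hσq : ∀ x, σ x = x ^ q)
    (hσ : ∀ x, σ (σ x) = x) (g : ↥(SUJ σ)) :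
    g ∈ Subgroup.center ↥(SUJ σ) ↔
      ∃ l : Fˣ, (l : F) * σ (l : F) = 1 ∧ (l : F) ^ 3 = 1 ∧ g = tJ hσ l := by
  constructor
  · intro hg
    rw [Subgroup.mem_center_iff] at hg
    obtain ⟨e, he0, he⟩ := exists_trace_zero' hF hσq hσ
    obtain ⟨b, hb⟩ := exists_par_one hF hσq hσ
    have hpar0 : Par σ 0 e := by
      unfold Par
      rw [map_zero, mul_zero, add_zero]
      exact he
    -- commutation with `x(0,e)`
    have c1 : mat (xJ hσ 0 e hpar0) * mat g = mat g * mat (xJ hσ 0 e hpar0) := by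
      rw [← mat_mul, ← mat_mul, hg]
    have m1 : mat (xJ hσ 0 e hpar0) = !![1, 0, e; 0, 1, 0; 0, 0, 1] := by
      show (xS σ 0 e).1 = _
      rw [xS_val hσ, map_zero, neg_zero]
    rw [m1] at c1
    have a20 : mat g 2 0 = 0 := by
      have := congrFun (congrFun c1 0) 0
      simp [Matrix.mul_apply, Fin.sum_univ_three] at this
      rcases this with h | h <;> first | exact h | exact absurd h he0
    have a21 : mat g 2 1 = 0 := by
      have := congrFun (congrFun c1 0) 1
      simp [Matrix.mul_apply, Fin.sum_univ_three] at this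
      rcases this with h | h <;> first | exact h | exact absurd h he0
    have a10 : mat g 1 0 = 0 := by
      have := congrFun (congrFun c1 1) 2
      simp [Matrix.mul_apply, Fin.sum_univ_three] at this
      rcases this with h | h <;> first | exact h | exact absurd h he0
    have a22 : mat g 2 2 = mat g 0 0 := by
      have := congrFun (congrFun c1 0) 2
      simp [Matrix.mul_apply, Fin.sum_univ_three] at this
      have h2 : e * mat g 2 2 = e * mat g 0 0 := by linear_combination this
      exact mul_left_cancel₀ he0 h2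
    -- commutation with `w`
    have c2 : mat (wJ : ↥(SUJ σ)) * mat g = mat g * mat (wJ : ↥(SUJ σ)) := by
      rw [← mat_mul, ← mat_mul, hg]
    have m2 : mat (wJ : ↥(SUJ σ)) = !![0, 0, 1; 0, -1, 0; 1, 0, 0] := wS_val
    rw [m2] at c2
    have a02 : mat g 0 2 = 0 := by
      have := congrFun (congrFun c2 0) 0
      simp [Matrix.mul_apply, Fin.sum_univ_three] at this
      rw [← this, a20]
    have a01 : mat g 0 1 = 0 := by
      have := congrFun (congrFun c2 0) 1
      simp [Matrix.mul_apply, Fin.sum_univ_three] at this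
      rw [a21] at this
      linear_combination this
    have a12 : mat g 1 2 = 0 := by
      have := congrFun (congrFun c2 1) 0
      simp [Matrix.mul_apply, Fin.sum_univ_three] at this
      rw [a10] at this
      linear_combination -this
    -- commutation with `x(1,b)`
    have c3 : mat (xJ hσ 1 b hb) * mat g = mat g * mat (xJ hσ 1 b hb) := by
      rw [← mat_mul, ← mat_mul, hg]
    have m3 : mat (xJ hσ 1 b hb) = !![1, 1, b; 0, 1, -1; 0, 0, 1] := by
      show (xS σ 1 b).1 = _
      rw [xS_val hσ, map_one]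
    rw [m3] at c3
    have a11 : mat g 1 1 = mat g 0 0 := by
      have := congrFun (congrFun c3 0) 1
      simp [Matrix.mul_apply, Fin.sum_univ_three] at this
      rw [a01, a21] at this
      linear_combination this
    -- unitarity and determinant
    have r02 := rel g.2 0 2
    have j02 : (J3 : Matrix (Fin 3) (Fin 3) F) 0 2 = 1 := by simp [J3]
    rw [j02] at r02
    have r02' : mat g 0 0 * σ (mat g 0 0) = 1 := by
      have h1 : g.1.1 1 0 = 0 := a10
      have h2 : g.1.1 2 0 = 0 := a20
      have h3 : g.1.1 2 2 = mat g 0 0 := a22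
      rw [h1, h2, h3, zero_mul, zero_mul, add_zero, add_zero] at r02
      exact r02
    have hx0 : mat g 0 0 ≠ 0 := by
      intro h
      rw [h, zero_mul] at r02'
      exact zero_ne_one r02'
    have hdet : mat g 0 0 ^ 3 = 1 := by
      have h := g.1.2
      rw [Matrix.det_fin_three] at h
      have h10 : g.1.1 1 0 = 0 := a10
      have h20 : g.1.1 2 0 = 0 := a20
      have h21 : g.1.1 2 1 = 0 := a21
      have h01 : g.1.1 0 1 = 0 := a01
      have h02 : g.1.1 0 2 = 0 := a02
      have h12 : g.1.1 1 2 = 0 := a12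
      have h11 : g.1.1 1 1 = mat g 0 0 := a11
      have h22 : g.1.1 2 2 = mat g 0 0 := a22
      rw [h10, h20, h21, h01, h02, h12, h11, h22] at h
      linear_combination h
    refine ⟨Units.mk0 (mat g 0 0) hx0, r02', hdet, ?_⟩
    apply mat_ext
    show mat g = (tS σ (Units.mk0 (mat g 0 0) hx0)).1
    rw [tS_scalar _ r02' hdet]
    ext i j
    fin_cases i <;> fin_cases j <;> simp [a10, a20, a21, a01, a02, a12, a11, a22]
  · rintro ⟨l, h1, h3, rfl⟩
    rw [Subgroup.mem_center_iff]
    intro h
    apply mat_ext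
    rw [mat_mul, mat_mul]
    show mat h * (tS σ l).1 = (tS σ l).1 * mat h
    rw [tS_scalar l h1 h3]
    simp

/-- **CENTER**. -/
theorem center_le_BJ (hF : Fintype.card F = q ^ 2) (hσq : ∀ x, σ x = x ^ q)
    (hσ : ∀ x, σ (σ x) = x) : Subgroup.center ↥(SUJ σ) ≤ BJ σ := by
  intro g hg
  obtain ⟨l, h1, h3, rfl⟩ := (center_iff hF hσq hσ g).mp hg
  rw [mem_BJ]
  have hm : mat (tJ hσ l) = (l : F) • (1 : Matrix (Fin 3) (Fin 3) F) := tS_scalar l h1 h3
  rw [hm]
  constructor <;> simp

/-- **CENTER**. -/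
theorem card_center (hF : Fintype.card F = q ^ 2) (hσq : ∀ x, σ x = x ^ q)
    (hσ : ∀ x, σ (σ x) = x) : Nat.card (Subgroup.center ↥(SUJ σ)) = Nat.gcd 3 (q + 1) := by
  classical
  have hq2 := two_le_q hF
  -- `q = p ^ k`
  obtain ⟨p, hp⟩ := CharP.exists F
  have hpp : Fact p.Prime := ⟨CharP.char_is_prime F p⟩
  obtain ⟨n, hn, hcard⟩ := FiniteField.card F p
  have hqdvd : q ∣ p ^ (n : ℕ) := by
    rw [← hcard, hF, sq]
    exact dvd_mul_right q q
  obtain ⟨k, -, hk⟩ := (Nat.dvd_prime_pow hpp.out).mp hqdvd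
  have hk0 : 0 < k := by
    rcases Nat.eq_zero_or_pos k with h | h
    · rw [h, pow_zero] at hk
      omega
    · exact h
  have hF' : Nat.card F = q ^ 2 := by rw [Nat.card_eq_fintype_card, hF]
  have hcn := (Cfsg.Agent.Lib.Helper58_U3A_FLDA.card_norm_one (F := F) (p := p) hk0 hk hF').2
  rw [← hcn]
  -- the bijection
  refine Nat.card_congr (Equiv.ofBijective
    (fun g : Subgroup.center ↥(SUJ σ) =>
      (⟨Classical.choose ((center_iff hF hσq hσ g.1).mp g.2), ?_⟩ :
        {l : Fˣ // l ^ (q + 1) = 1 ∧ l ^ 3 = 1})) ⟨?_, ?_⟩)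
  · obtain ⟨h1, h3, -⟩ := Classical.choose_spec ((center_iff hF hσq hσ g.1).mp g.2)
    constructor
    · apply Units.ext
      rw [Units.val_pow_eq_pow_val, Units.val_one, pow_succ, ← hσq]
      rw [mul_comm]
      exact h1
    · apply Units.ext
      rw [Units.val_pow_eq_pow_val, Units.val_one]
      exact h3
  · intro g g' hgg
    have e1 := (Classical.choose_spec ((center_iff hF hσq hσ g.1).mp g.2)).2.2
    have e2 := (Classical.choose_spec ((center_iff hF hσq hσ g'.1).mp g'.2)).2.2
    have e3 : Classical.choose ((center_iff hF hσq hσ g.1).mp g.2)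
        = Classical.choose ((center_iff hF hσq hσ g'.1).mp g'.2) := congrArg Subtype.val hgg
    apply Subtype.ext
    rw [e1, e2, e3]
  · rintro ⟨l, hl1, hl3⟩
    have h1 : (l : F) * σ (l : F) = 1 := by
      rw [hσq, ← pow_succ']
      have := congrArg Units.val hl1
      rwa [Units.val_pow_eq_pow_val, Units.val_one] at this
    have h3 : (l : F) ^ 3 = 1 := by
      have := congrArg Units.val hl3
      rwa [Units.val_pow_eq_pow_val, Units.val_one] at this
    have hmem : tJ hσ l ∈ Subgroup.center ↥(SUJ σ) :=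
      (center_iff hF hσq hσ _).mpr ⟨l, h1, h3, rfl⟩
    refine ⟨⟨tJ hσ l, hmem⟩, ?_⟩
    apply Subtype.ext
    have e1 := (Classical.choose_spec ((center_iff hF hσq hσ (tJ hσ l)).mp hmem)).2.2
    exact (tJ_inj hσ e1).symm

end Cfsg.Agent.Lib.Helper61_U3C_CENTER
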