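import Mathlib
import Cfsg.Agent.Lib.Helper83_U3PJ
import Cfsg.Agent.Lib.Helper65_U3Defs

/-!
# S2148 concrete half, package QFIX (helper61, for architect helper83)

* `QJ_fix`: a nonidentity element of the unipotent radical `QJ` fixes only the base point;
* `TJ_of_fix`: the stabiliser of the two points `⟨e₀⟩`, `⟨e₂⟩` is the torus.
-/

set_option autoImplicit false
set_option linter.unusedSectionVars false
set_option linter.unusedVariables false

namespace Cfsg.Agent.Lib.Helper61_U3C_QFIX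

open Matrix Cfsg.Agent.Lib.Helper83_SU3J Cfsg.Agent.Lib.Helper83_U3Model
  Cfsg.Agent.Lib.Helper83_U3Bruhat Cfsg.Agent.Lib.Helper83_U3Group Cfsg.Agent.Lib.Helper83_U3PJ
  Cfsg.Agent.Lib.Helper65_U3Defs

variable {F : Type*} [Field F] [Fintype F] {σ : F →+* F} {q : ℕ}

omit [Fintype F] in
/-- **QFIX**.  A nonidentity element of `QJ` fixes only the base point. -/
theorem QJ_fix (hσ : ∀ x, σ (σ x) = x) {z : ↥(SUJ σ)} (hz : z ∈ QJ hσ) (h1 : z ≠ 1) {h : ↥(SUJ σ)}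
    (hfix : h⁻¹ * z * h ∈ BJ σ) : h ∈ BJ σ := by
  obtain ⟨a, b, hpar, rfl⟩ := hz
  rw [mem_BJ_iff hσ]
  by_contra h20
  apply h1
  obtain ⟨m10, m20⟩ := mem_BJ.mp hfix
  have e : mat h * mat (h⁻¹ * xJ hσ a b hpar * h) = mat (xJ hσ a b hpar) * mat h := by
    rw [← mat_mul, ← mat_mul]
    congr 1
    group
  have mz : mat (xJ hσ a b hpar) = !![1, σ a, b; 0, 1, -a; 0, 0, 1] := by
    show (xS σ a b).1 = _
    rw [xS_val hσ]
  rw [mz] at e
  have e2 := congrFun (congrFun e 2) 0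
  have e1 := congrFun (congrFun e 1) 0
  have e0 := congrFun (congrFun e 0) 0
  simp [Matrix.mul_apply, Fin.sum_univ_three, m10, m20] at e0 e1 e2
  -- `e2 : h₂₀ = 0 ∨ M₀₀ = 1` (in some form)
  have hM : mat (h⁻¹ * xJ hσ a b hpar * h) 0 0 = 1 :=
    mul_left_cancel₀ h20 (e2.trans (mul_one _).symm)
  rw [hM, mul_one] at e0 e1
  have ha : a = 0 := by
    have : a * mat h 2 0 = 0 := by linear_combination e1
    rcases mul_eq_zero.mp this with h' | h'
    · exact h'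
    · exact absurd h' h20
  have hb : b = 0 := by
    rw [ha, map_zero, zero_mul, add_zero] at e0
    have : b * mat h 2 0 = 0 := by linear_combination -e0
    rcases mul_eq_zero.mp this with h' | h'
    · exact h'
    · exact absurd h' h20
  subst ha
  subst hb
  exact xJ_zero hσ

omit [Fintype F] in
/-- **QFIX**.  The stabiliser of `⟨e₀⟩` and `⟨e₂⟩` is the torus. -/
theorem TJ_of_fix (hσ : ∀ x, σ (σ x) = x) {g : ↥(SUJ σ)} (h1 : g ∈ BJ σ)
    (h2 : (wJ : ↥(SUJ σ))⁻¹ * g * wJ ∈ BJ σ) : g ∈ TJ hσ := by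
  obtain ⟨a, b, l, hpar, hA⟩ := borel_decomp hσ g.2 (mem_BJ.mp h1).2
  have hl : (l : F) ≠ 0 := l.ne_zero
  have hsl : σ (l : F) ≠ 0 := sigma_ne_zero hl
  rw [wJ_inv] at h2
  obtain ⟨m10, m20⟩ := mem_BJ.mp h2
  have mw : mat (wJ : ↥(SUJ σ)) = !![0, 0, 1; 0, -1, 0; 1, 0, 0] := wS_val
  have mg : mat g = !![1, σ a, b; 0, 1, -a; 0, 0, 1] *
      !![(l : F), 0, 0; 0, σ (l : F) * (l : F)⁻¹, 0; 0, 0, (σ (l : F))⁻¹] := by
    show g.1.1 = _
    rw [hA, Cfsg.Agent.Lib.Helper83_TvCalc.val_mul, xS_val hσ, tS_val]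
  rw [mat_mul, mat_mul, mw, mg] at m10 m20
  simp [Matrix.mul_apply, Fin.sum_univ_three] at m10 m20
  have ha : a = 0 := m10
  have hb : b = 0 := m20
  subst ha
  subst hb
  refine ⟨l, ?_⟩
  apply su_ext
  rw [hA, xS_zero, one_mul]
  rfl

end Cfsg.Agent.Lib.Helper61_U3C_QFIX
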