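import Mathlib
import Cfsg.Agent.Lib.Helper61_UD_Q1core
import Cfsg.Agent.Lib.Helper8_UD_BLK
import Cfsg.Agent.Lib.Helper73_UD_MOVE

set_option autoImplicit false
set_option linter.unusedSectionVars false

/-!
S5655, market UD (architect helper94): package UD-Q1.
-/

namespace Cfsg.Agent.Lib.Helper61_UD_Q1

open Module Cfsg.Agent.Lib.Helper94_Symp Cfsg.Agent.Lib.Helper94_Herm
  Cfsg.Agent.Lib.Helper13_PSUSimple Cfsg.Agent.Lib.Helper27_UQDefs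
  Cfsg.Agent.Lib.Helper94_FrmDefs Cfsg.Agent.Lib.Helper94_UDDefs

variable {F V : Type*} [Field F] [AddCommGroup V] [Module F V] [Finite F] [FiniteDimensional F V]
variable {σ : F →+* F} {B : V →ₗ[F] V →ₛₗ[σ] F}
variable {t k : ℕ} {D : Fin t → Submodule F V} {S M : Subgroup (V ≃ₗ[F] V)}

/-- UD-Q1.  `α0 + β0 ∈ UU B M` with anisotropic components: every `α ∈ D p` of the same norm as
`α0` has `α + β0 ∈ UU B M`. -/
theorem Q1 (hC : Ctx B k D S M) {p q : Fin t} (hpq : p ≠ q) {α0 β0 : V} (hα0 : α0 ∈ D p)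
    (hβ0 : β0 ∈ D q) (hNα : B α0 α0 ≠ 0) (hNβ : B β0 β0 ≠ 0) (hw : α0 + β0 ∈ UU B M) :
    ∀ α ∈ D p, B α α = B α0 α0 → α + β0 ∈ UU B M :=
  Cfsg.Agent.Lib.Helper61_UD_Q1core.Q1_core hC (Cfsg.Agent.Lib.Helper8_UD_BLK.BLK hC).1
    (Cfsg.Agent.Lib.Helper8_UD_BLK.BLK hC).2.1
    (fun _ _ h1 h2 h3 => Cfsg.Agent.Lib.Helper73_UD_MOVE.MOVE hC.hσ hC.hB h1 h2 h3) hpq hα0 hβ0 hNα hNβ hw

end Cfsg.Agent.Lib.Helper61_UD_Q1
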