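import Mathlib
import Cfsg.Agent.Lib.Helper62_A7Defs

/-!
# S0984 / A7-FIXDIM (architect helper62): `∑_{g ∈ K} χ(g) = |K| · dim V^K`.
-/

set_option autoImplicit false

namespace Cfsg.Agent.Lib.Helper84_A7_FIXDIM

open Cfsg.Agent.Lib.Helper62_A7Defs

open scoped Classical in
/-- **FIXDIM**. -/
theorem sum_character_subgroup {G V : Type*} [Group G] [Fintype G] [AddCommGroup V] [Module ℂ V]
    [FiniteDimensional ℂ V] (ρ : Representation ℂ G V) (K : Subgroup G) :
    ∑ g ∈ Finset.univ.filter (fun g : G => g ∈ K), ρ.character g =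
      (Nat.card K : ℂ) * (Module.finrank ℂ (fixedSub ρ K) : ℂ) := by
  obtain ⟨S, hS⟩ : ∃ S : Finset G, S = Finset.univ.filter (fun g : G => g ∈ K) := ⟨_, rfl⟩
  have hmemS : ∀ g, g ∈ S ↔ g ∈ K := by
    intro g; rw [hS]; simp
  have hcard : Nat.card K = S.card := Nat.subtype_card S hmemS
  have hK0 : (Nat.card K : ℂ) ≠ 0 := by
    have : 0 < Nat.card K := Nat.card_pos
    exact_mod_cast this.ne'
  obtain ⟨P, hP⟩ : ∃ P : V →ₗ[ℂ] V, P = (Nat.card K : ℂ)⁻¹ • ∑ g ∈ S, ρ g := ⟨_, rfl⟩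
  have hPv : ∀ v, P v = (Nat.card K : ℂ)⁻¹ • ∑ g ∈ S, ρ g v := by
    intro v
    rw [hP, LinearMap.smul_apply, LinearMap.sum_apply]
  have hproj : LinearMap.IsProj (fixedSub ρ K) P := by
    refine ⟨?_, ?_⟩
    · intro v k hk
      rw [hPv, map_smul, map_sum]
      congr 1
      refine Finset.sum_nbij' (fun g => k * g) (fun g => k⁻¹ * g) ?_ ?_ ?_ ?_ ?_
      · intro g hg
        rw [hmemS] at hg ⊢
        exact K.mul_mem hk hg
      · intro g hg
        rw [hmemS] at hg ⊢
        exact K.mul_mem (K.inv_mem hk) hg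
      · intro g _
        simp
      · intro g _
        simp
      · intro g _
        rw [map_mul]
        rfl
    · intro v hv
      rw [hPv]
      have : ∑ g ∈ S, ρ g v = ∑ _g ∈ S, v := by
        apply Finset.sum_congr rfl
        intro g hg
        exact hv g ((hmemS g).mp hg)
      rw [this, Finset.sum_const, ← hcard, ← Nat.cast_smul_eq_nsmul ℂ, smul_smul,
        inv_mul_cancel₀ hK0, one_smul]
  have htr := hproj.trace
  have htr2 : LinearMap.trace ℂ V P = (Nat.card K : ℂ)⁻¹ * ∑ g ∈ S, ρ.character g := by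
    rw [hP, map_smul, map_sum, smul_eq_mul]
    rfl
  rw [← hS]
  rw [htr2] at htr
  rw [← htr, ← mul_assoc, mul_inv_cancel₀ hK0, one_mul]

end Cfsg.Agent.Lib.Helper84_A7_FIXDIM
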