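import Mathlib

/-!
# S0984 / A7-TSUM (architect helper62): summing a class-function-like `f` over a group `T` of order 8 with an element
`c` of order 4 such that every element outside `⟨c⟩` is an involution.
-/

set_option autoImplicit false

namespace Cfsg.Agent.Lib.Helper84_A7_TSUM

open scoped Classical in
/-- **TSUM**. -/
theorem tsum {G : Type*} [Group G] [Fintype G] (T : Subgroup G) (hT : Nat.card T = 8) (c : G)
    (hc : c ∈ T) (hc4 : orderOf c = 4)
    (hout : ∀ x ∈ T, x ∉ Subgroup.zpowers c → x * x = 1)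
    (f : G → ℂ) (τ ξ : ℂ) (hτ : ∀ t : G, orderOf t = 2 → f t = τ)
    (hξ : ∀ v : G, orderOf v = 4 → f v = ξ) :
    ∑ g ∈ Finset.univ.filter (fun g : G => g ∈ T), f g = f 1 + 2 * ξ + 5 * τ := by
  obtain ⟨S, hS⟩ : ∃ S : Finset G, S = Finset.univ.filter (fun g : G => g ∈ T) := ⟨_, rfl⟩
  obtain ⟨Z, hZ⟩ : ∃ Z : Finset G, Z = Finset.univ.filter (fun g : G => g ∈ Subgroup.zpowers c) :=
    ⟨_, rfl⟩
  have hmemS : ∀ g, g ∈ S ↔ g ∈ T := by intro g; rw [hS]; simp
  have hmemZ : ∀ g, g ∈ Z ↔ g ∈ Subgroup.zpowers c := by intro g; rw [hZ]; simp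
  have hZS : Z ⊆ S := by
    intro g hg
    rw [hmemS]
    rw [hmemZ] at hg
    exact (Subgroup.zpowers_le.mpr hc) hg
  have hcardS : S.card = 8 := by rw [← hT]; exact (Nat.subtype_card S hmemS).symm
  have hcardZ : Z.card = 4 := by
    rw [← hc4, ← Nat.card_zpowers]; exact (Nat.subtype_card Z hmemZ).symm
  have hfin : IsOfFinOrder c := isOfFinOrder_of_finite c
  -- the cyclic part
  have hZimg : Z = (Finset.range (orderOf c)).image (fun i => c ^ i) := by
    ext g
    rw [hmemZ]
    exact hfin.mem_zpowers_iff_mem_range_orderOf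
  have hsumZ : ∑ g ∈ Z, f g = f 1 + 2 * ξ + τ := by
    rw [hZimg, Finset.sum_image]
    · rw [hc4, Finset.sum_range_succ, Finset.sum_range_succ, Finset.sum_range_succ,
        Finset.sum_range_one, pow_zero, pow_one]
      have h2 : orderOf (c ^ 2) = 2 := by
        rw [orderOf_pow' c (by norm_num), hc4]; rfl
      have h3 : orderOf (c ^ 3) = 4 := by
        rw [orderOf_pow' c (by norm_num), hc4]; rfl
      rw [hτ _ h2, hξ _ h3, hξ _ hc4]
      ring
    · intro i hi j hj hij
      have hi' : i ∈ Set.Iio (orderOf c) := by simpa using hi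
      have hj' : j ∈ Set.Iio (orderOf c) := by simpa using hj
      exact pow_injOn_Iio_orderOf hi' hj' hij
  -- the outside part
  have hsumO : ∑ g ∈ S \ Z, f g = 4 * τ := by
    have hconst : ∑ g ∈ S \ Z, f g = ∑ _g ∈ S \ Z, τ := by
      apply Finset.sum_congr rfl
      intro x hx
      rw [Finset.mem_sdiff, hmemS, hmemZ] at hx
      have hxx := hout x hx.1 hx.2
      have hx1 : x ≠ 1 := by
        rintro rfl
        exact hx.2 (Subgroup.one_mem _)
      have : Fact (Nat.Prime 2) := ⟨Nat.prime_two⟩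
      apply hτ
      apply orderOf_eq_prime
      · rw [pow_two]; exact hxx
      · exact hx1
    rw [hconst, Finset.sum_const, Finset.card_sdiff_of_subset hZS, hcardS, hcardZ]
    norm_num
  rw [← hS, ← Finset.sum_sdiff hZS, hsumZ, hsumO]
  ring

end Cfsg.Agent.Lib.Helper84_A7_TSUM
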