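import Mathlib
import Cfsg.Agent.Lib.Helper62_A7Defs
import Cfsg.Agent.Lib.Helper84_A7_FIXDIM
import Cfsg.Agent.Lib.Helper84_A7_TSUM

/-!
# S0984 package ENDFIX (helper62)

A nonzero vector fixed by `N(P₃)` and by a Sylow 2-subgroup containing `u`.
-/

set_option autoImplicit false
open Cfsg.Agent.Lib.Helper62_A7Defs Cfsg.Agent.Lib.Helper84_A7_FIXDIM Cfsg.Agent.Lib.Helper84_A7_TSUM

namespace Cfsg.Agent.Lib.Helper62_A7_ENDFIX

open scoped Classical in
/-- sum over a cyclic group of order 4 -/
theorem sum_zpowers_four {G : Type*} [Group G] [Fintype G] (u : G) (hu4 : orderOf u = 4)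
    (f : G → ℂ) :
    ∑ g ∈ Finset.univ.filter (fun g : G => g ∈ Subgroup.zpowers u), f g =
      f 1 + f u + f (u ^ 2) + f (u ^ 3) := by
  have hfin : IsOfFinOrder u := by
    rw [← orderOf_pos_iff, hu4]; norm_num
  have hset : Finset.univ.filter (fun g : G => g ∈ Subgroup.zpowers u) =
      (Finset.range (orderOf u)).image (fun k => u ^ k) := by
    ext g
    simp only [Finset.mem_filter, Finset.mem_univ, true_and]
    exact hfin.mem_zpowers_iff_mem_range_orderOf
  rw [hset, Finset.sum_image]
  · rw [hu4]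
    simp [Finset.sum_range_succ]
  · intro a ha b hb hab
    simp only [Finset.coe_range, Set.mem_Iio] at ha hb
    exact pow_injOn_Iio_orderOf ha hb hab

theorem exists_fixed {G V : Type*} [Group G] [Finite G] [AddCommGroup V] [Module ℂ V]
    [FiniteDimensional ℂ V] [Fact (Nat.Prime 3)] [Fact (Nat.Prime 2)]
    (ρ : Representation ℂ G V) (h1 : ρ.character 1 = 6)
    (h2 : ∀ t : G, orderOf t = 2 → ρ.character t = 2)
    (h4 : ∀ v : G, orderOf v = 4 → ρ.character v = 0)
    (P : Sylow 3 G) (hP : Nat.card P = 9)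
    (hN : Nat.card (Subgroup.normalizer ((P : Subgroup G) : Set G)) = 36)
    (u : G) (hu : u ∈ Subgroup.normalizer ((P : Subgroup G) : Set G)) (hu4 : orderOf u = 4)
    (hout : ∀ b ∈ Subgroup.normalizer ((P : Subgroup G) : Set G), b ∉ (P : Subgroup G) →
      orderOf b = 2 ∨ orderOf b = 4)
    (T : Sylow 2 G) (hT : Nat.card T = 8) (huT : u ∈ (T : Subgroup G)) (c : G)
    (hc : c ∈ (T : Subgroup G)) (hc4 : orderOf c = 4)
    (hTout : ∀ x ∈ (T : Subgroup G), x ∉ Subgroup.zpowers c → x * x = 1) :
    ∃ v : V, v ≠ 0 ∧ (∀ b ∈ Subgroup.normalizer ((P : Subgroup G) : Set G), ρ b v = v) ∧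
      ∀ t ∈ (T : Subgroup G), ρ t v = v := by
  classical
  let _ : Fintype G := Fintype.ofFinite G
  set B : Subgroup G := Subgroup.normalizer ((P : Subgroup G) : Set G) with hB
  set U : Subgroup G := Subgroup.zpowers u with hU
  have hUT : U ≤ (T : Subgroup G) := by
    rw [hU, Subgroup.zpowers_le]; exact huT
  have hUB : U ≤ B := by
    rw [hU, Subgroup.zpowers_le]; exact hu
  have hPB : (P : Subgroup G) ≤ B := Subgroup.le_normalizer
  -- orders of powers of `u`
  have hu2 : orderOf (u ^ 2) = 2 := by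
    rw [orderOf_pow' u (by norm_num), hu4]; norm_num
  have hu3 : orderOf (u ^ 3) = 4 := by
    rw [orderOf_pow' u (by norm_num), hu4]; norm_num
  -- dim V^U = 2
  have hdU : Module.finrank ℂ (fixedSub ρ U) = 2 := by
    have hs := sum_character_subgroup ρ U
    rw [hU, sum_zpowers_four u hu4, h1, h4 u hu4, h2 _ hu2, h4 _ hu3, Nat.card_zpowers, hu4] at hs
    have : (Module.finrank ℂ (fixedSub ρ (Subgroup.zpowers u)) : ℂ) = 2 := by
      have h8 : ((4 : ℕ) : ℂ) * (Module.finrank ℂ (fixedSub ρ (Subgroup.zpowers u)) : ℂ) = 8 := by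
        rw [← hs]; norm_num
      have h4' : ((4 : ℕ) : ℂ) ≠ 0 := by norm_num
      have : (Module.finrank ℂ (fixedSub ρ (Subgroup.zpowers u)) : ℂ) = 8 / ((4 : ℕ) : ℂ) := by
        rw [← h8]; field_simp
      rw [this]; norm_num
    exact_mod_cast this
  -- dim V^T = 2
  have hdT : Module.finrank ℂ (fixedSub ρ (T : Subgroup G)) = 2 := by
    have hs := sum_character_subgroup ρ (T : Subgroup G)
    rw [tsum (T : Subgroup G) hT c hc hc4 hTout ρ.character 2 0 h2 h4, h1, hT] at hs
    have h8 : ((8 : ℕ) : ℂ) * (Module.finrank ℂ (fixedSub ρ (T : Subgroup G)) : ℂ) = 16 := by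
      rw [← hs]; norm_num
    have : (Module.finrank ℂ (fixedSub ρ (T : Subgroup G)) : ℂ) = 16 / ((8 : ℕ) : ℂ) := by
      rw [← h8]; field_simp
    have h2' : (Module.finrank ℂ (fixedSub ρ (T : Subgroup G)) : ℂ) = 2 := by
      rw [this]; norm_num
    exact_mod_cast h2'
  -- V^T = V^U
  have hTU : fixedSub ρ (T : Subgroup G) = fixedSub ρ U :=
    Submodule.eq_of_le_of_finrank_eq (fixedSub_anti ρ hUT) (by rw [hdT, hdU])
  -- dim V^B ≥ 1
  have hdB : 0 < Module.finrank ℂ (fixedSub ρ B) := by
    have hsB := sum_character_subgroup ρ B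
    have hsP := sum_character_subgroup ρ (P : Subgroup G)
    -- split
    have hsplit : ∑ g ∈ Finset.univ.filter (fun g : G => g ∈ B), ρ.character g =
        ∑ g ∈ Finset.univ.filter (fun g : G => g ∈ (P : Subgroup G)), ρ.character g +
        ∑ g ∈ Finset.univ.filter (fun g : G => g ∈ B ∧ g ∉ (P : Subgroup G)), ρ.character g := by
      rw [← Finset.sum_union]
      · apply Finset.sum_congr _ (fun _ _ => rfl)
        ext g
        simp only [Finset.mem_filter, Finset.mem_univ, true_and, Finset.mem_union]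
        constructor
        · intro h
          by_cases hg : g ∈ (P : Subgroup G)
          · exact Or.inl hg
          · exact Or.inr ⟨h, hg⟩
        · rintro (h | h)
          · exact hPB h
          · exact h.1
      · rw [Finset.disjoint_left]
        intro g h1 h2
        simp only [Finset.mem_filter, Finset.mem_univ, true_and] at h1 h2
        exact h2.2 h1
    rw [hsplit, hsP, hN, hP] at hsB
    -- real parts
    have hre : ∀ g ∈ Finset.univ.filter (fun g : G => g ∈ B ∧ g ∉ (P : Subgroup G)),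
        0 ≤ (ρ.character g).re := by
      intro g hg
      simp only [Finset.mem_filter, Finset.mem_univ, true_and] at hg
      rcases hout g hg.1 hg.2 with h | h
      · rw [h2 g h]; norm_num
      · rw [h4 g h]; norm_num
    have hu2mem : u ^ 2 ∈ Finset.univ.filter (fun g : G => g ∈ B ∧ g ∉ (P : Subgroup G)) := by
      simp only [Finset.mem_filter, Finset.mem_univ, true_and]
      refine ⟨Subgroup.pow_mem _ hu 2, ?_⟩
      intro hmem
      have hd : orderOf (u ^ 2) ∣ Nat.card (P : Subgroup G) := by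
        have := orderOf_dvd_natCard (⟨u ^ 2, hmem⟩ : (P : Subgroup G))
        rwa [← Subgroup.orderOf_coe] at this
      rw [hu2, hP] at hd
      omega
    have hS : (2 : ℝ) ≤ (∑ g ∈ Finset.univ.filter (fun g : G => g ∈ B ∧ g ∉ (P : Subgroup G)),
        ρ.character g).re := by
      rw [Complex.re_sum]
      have := Finset.single_le_sum hre hu2mem
      rw [h2 _ hu2] at this
      simpa using this
    by_contra h0
    have h0' : Module.finrank ℂ (fixedSub ρ B) = 0 := by omega
    rw [h0'] at hsB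
    have hre2 := congrArg Complex.re hsB
    simp only [Complex.add_re, Nat.cast_zero, mul_zero, Complex.zero_re] at hre2
    have hpos : (0 : ℝ) ≤ (((9 : ℕ) : ℂ) * (Module.finrank ℂ (fixedSub ρ (P : Subgroup G)) : ℂ)).re := by
      have : (((9 : ℕ) : ℂ) * (Module.finrank ℂ (fixedSub ρ (P : Subgroup G)) : ℂ)) =
          ((9 * Module.finrank ℂ (fixedSub ρ (P : Subgroup G)) : ℕ) : ℂ) := by push_cast; ring
      rw [this, Complex.natCast_re]
      positivity
    linarith
  -- pick the vector
  have hne : fixedSub ρ B ≠ ⊥ := by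
    intro h
    rw [h, finrank_bot] at hdB
    exact lt_irrefl _ hdB
  obtain ⟨v, hvB, hv0⟩ := Submodule.exists_mem_ne_zero_of_ne_bot hne
  refine ⟨v, hv0, hvB, ?_⟩
  have hvU : v ∈ fixedSub ρ U := fixedSub_anti ρ hUB hvB
  rw [← hTU] at hvU
  exact hvU

end Cfsg.Agent.Lib.Helper62_A7_ENDFIX
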