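import Mathlib
import Cfsg.Prelude.Def_OddOrderLocal
import Cfsg.Agent.S3769
import Cfsg.Agent.Lib.Helper52_PrimeAct
import Cfsg.Agent.Lib.Helper1_MinNormal
import Cfsg.Agent.Lib.Helper22_Coprime
import Cfsg.Agent.Lib.Helper1_Transport

/-!
# Fixed-point-free action of an element of prime order (helper62)

`commutator_mem_centralizer_of_fpf`: `Y` finite solvable of odd order, `V ⊴ Y`, `x ∈ Y` of prime order
`r ∤ |V|` with `C_V(x) = 1`, `H ≤ Y` an `x`-invariant subgroup of order prime to `r |V|`.  Then `[H, x]`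
centralizes `V`.  (Bender–Glauberman 3.6 = S3769 is the case `V` elementary abelian; the general case
follows by induction along a chief series of `Y` below `V`.)
-/

set_option autoImplicit false

namespace Cfsg.Agent.Lib.Helper62_BG117a

open Subgroup
open scoped commutatorElement

universe u

/-- BG 3.6 holds in every finite ambient group (S3769) -/
theorem bg36 (X : Type u) [Group X] [Finite X] : Cfsg.Agent.Lib.Helper52_PrimeAct.BG36 X := by
  intro G hs ho V ℓ hℓ hV hℓG hGV K R hKG hKn hHall hRG hR hKR hKRG hCV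
  exact Cfsg.Agent.S3769.result G hs ho V hℓ hV hℓG hGV K R hKG hKn hHall hRG hR hKR hKRG hCV

/-- power trick: `y` centralizes `z`, `y v y⁻¹ = z v`; then `y ^ j v y ^ (-j) = z ^ j v` -/
theorem conj_pow_eq {Y : Type*} [Group Y] {y v z : Y} (hyz : y * z = z * y) (h : y * v * y⁻¹ = z * v)
    (j : ℕ) : y ^ j * v * (y ^ j)⁻¹ = z ^ j * v := by
  induction j with
  | zero => simp
  | succ j ih =>
    have hyzj : y * z ^ j = z ^ j * y := by
      have : Commute y z := hyz
      exact (this.pow_right j).eq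
    calc y ^ (j + 1) * v * (y ^ (j + 1))⁻¹ = y * (y ^ j * v * (y ^ j)⁻¹) * y⁻¹ := by
          rw [pow_succ']; group
      _ = y * (z ^ j * v) * y⁻¹ := by rw [ih]
      _ = (y * z ^ j) * v * y⁻¹ := by group
      _ = z ^ j * (y * v * y⁻¹) := by rw [hyzj]; group
      _ = z ^ j * (z * v) := by rw [h]
      _ = z ^ (j + 1) * v := by rw [pow_succ]; group

theorem fpf_aux : ∀ (n : ℕ) (Y : Type u) [Group Y] [Finite Y] [Group.IsSolvable Y],
    Odd (Nat.card Y) → ∀ (V : Subgroup Y) [V.Normal], Nat.card V = n → ∀ {r : ℕ}, r.Prime →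
    ¬ r ∣ Nat.card V → ∀ x : Y, orderOf x = r → (∀ v ∈ V, x * v = v * x → v = 1) →
    ∀ H : Subgroup Y, zpowers x ≤ normalizer (H : Set Y) → (Nat.card H).Coprime (Nat.card V) →
    ¬ r ∣ Nat.card H → ∀ h ∈ H, ⁅h, x⁆ ∈ centralizer (V : Set Y) := by
  intro n
  induction n using Nat.strong_induction_on with
  | _ n ih =>
  intro Y _ _ _ hodd V hVn hn r hr hrV x hx hfix H hxH hcop hrH h hh
  by_cases hV1 : V = ⊥
  · rw [hV1]
    rw [mem_centralizer_iff]
    intro v hv
    rw [Subgroup.coe_bot, Set.mem_singleton_iff] at hv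
    rw [hv, one_mul, mul_one]
  have hVsolv : Group.IsSolvable ↥V := inferInstance
  obtain ⟨Z, hZn, hZV, hZ1, hZc, ℓ, hℓ, hZℓ⟩ :=
    Cfsg.Agent.Lib.Helper1_MinNormal.exists_elementary_abelian_normal_le V hVsolv hV1
  have hZea : Cfsg.IsElementaryAbelian ℓ Z := ⟨hZc, hZℓ⟩
  have : Fact ℓ.Prime := ⟨hℓ⟩
  have hZp : IsPGroup ℓ ↥Z := by
    intro z
    refine ⟨1, ?_⟩
    apply Subtype.ext
    rw [pow_one]
    exact hZℓ z z.2
  have hℓZ : ℓ ∣ Nat.card ↥Z := by
    obtain ⟨k, hk⟩ := IsPGroup.iff_card.mp hZp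
    have hk0 : k ≠ 0 := by
      rintro rfl
      rw [pow_zero] at hk
      exact hZ1 ((Subgroup.card_eq_one).mp hk)
    rw [hk]
    exact dvd_pow_self ℓ hk0
  have hℓV : ℓ ∣ Nat.card ↥V := hℓZ.trans (Subgroup.card_dvd_of_le hZV)
  have hℓr : ℓ ≠ r := by
    rintro rfl
    exact hrV hℓV
  have hℓH : ¬ ℓ ∣ Nat.card ↥H := by
    intro hd
    have h1 : ℓ ∣ Nat.gcd (Nat.card ↥H) (Nat.card ↥V) := Nat.dvd_gcd hd hℓV
    rw [hcop] at h1
    exact hℓ.one_lt.ne' (Nat.dvd_one.mp h1)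
  -- Step A: `[h, x]` centralizes `Z`
  have hfixZ : ∀ v ∈ Z, x * v = v * x → v = 1 := fun v hv => hfix v (hZV hv)
  have hA : ∀ h ∈ H, ⁅h, x⁆ ∈ centralizer (Z : Set Y) :=
    Cfsg.Agent.Lib.Helper52_PrimeAct.commutator_mem_centralizer_of_invariant hodd (bg36 Y) hℓ hr hℓr Z
      hZea x hx hfixZ H hxH hℓH hrH
  -- Step B: the quotient
  set π : Y →* Y ⧸ Z := QuotientGroup.mk' Z with hπ
  have hπs : Function.Surjective π := QuotientGroup.mk'_surjective Z
  have hker : π.ker = Z := QuotientGroup.ker_mk' Z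
  have hVbn : (V.map π).Normal := Subgroup.Normal.map hVn π hπs
  have hoddq : Odd (Nat.card (Y ⧸ Z)) :=
    Odd.of_dvd_nat hodd (Subgroup.card_quotient_dvd_card Z)
  have hcardVb : Nat.card ↥(V.map π) * Nat.card ↥Z = Nat.card ↥V :=
    Cfsg.Agent.Lib.Helper1_Transport.card_map_mk'_of_le Z V hZV
  have hZcard : 1 < Nat.card ↥Z := by
    rcases Nat.lt_or_ge 1 (Nat.card ↥Z) with h1 | h1
    · exact h1
    · exfalso
      have : Nat.card ↥Z = 1 := le_antisymm h1 Nat.card_pos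
      exact hZ1 ((Subgroup.card_eq_one).mp this)
  have hlt : Nat.card ↥(V.map π) < n := by
    rw [← hn, ← hcardVb]
    have : 0 < Nat.card ↥(V.map π) := Nat.card_pos
    nlinarith
  have hVbdvd : Nat.card ↥(V.map π) ∣ Nat.card ↥V := Dvd.intro _ hcardVb
  have hrVb : ¬ r ∣ Nat.card ↥(V.map π) := fun hd => hrV (hd.trans hVbdvd)
  have hxZ : x ∉ Z := by
    intro hxZ
    have h1 : orderOf x ∣ Nat.card ↥Z := by
      have := orderOf_dvd_natCard (⟨x, hxZ⟩ : ↥Z)
      rwa [Subgroup.orderOf_mk] at this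
    rw [hx] at h1
    exact hrV (h1.trans (Subgroup.card_dvd_of_le hZV))
  have hxb : orderOf (π x) = r := by
    have h1 : orderOf (π x) ∣ r := by
      rw [← hx]
      exact orderOf_map_dvd π x
    rcases (Nat.dvd_prime hr).mp h1 with h2 | h2
    · exfalso
      rw [orderOf_eq_one_iff] at h2
      apply hxZ
      rw [← hker]
      exact MonoidHom.mem_ker.mpr h2
    · exact h2
  have hxp : IsPGroup r ↥(zpowers x) := by
    apply IsPGroup.of_card (n := 1)
    rw [Nat.card_zpowers, hx, pow_one]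
  have : Fact r.Prime := ⟨hr⟩
  have hfixb : ∀ v ∈ V.map π, π x * v = v * π x → v = 1 := by
    rintro _ ⟨v, hv, rfl⟩ hcomm
    have hcz : ∀ g ∈ zpowers x, v⁻¹ * g * v * g⁻¹ ∈ Z := by
      intro g hg
      obtain ⟨k, rfl⟩ := mem_zpowers_iff.mp hg
      rw [← hker, MonoidHom.mem_ker]
      have hc : Commute (π x) (π v) := hcomm
      have hc' : Commute (π x ^ k) (π v) := hc.zpow_left k
      simp only [map_mul, map_inv, map_zpow]
      rw [mul_assoc (π v)⁻¹, hc'.eq]
      group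
    have hZr : ¬ r ∣ Nat.card ↥Z := fun hd => hrV (hd.trans (Subgroup.card_dvd_of_le hZV))
    have hxnZ : zpowers x ≤ normalizer (Z : Set Y) := by
      rw [Subgroup.normalizer_eq_top_iff.mpr hZn]; exact le_top
    obtain ⟨m, hm, hfm⟩ := Cfsg.Agent.Lib.Helper22_Coprime.exists_fixed_in_coset (zpowers x) Z hxp hZr
      hxnZ v hcz
    have h1 := hfm x (mem_zpowers x)
    have h2 : v * m = 1 := by
      apply hfix (v * m) (V.mul_mem hv (hZV hm))
      calc x * (v * m) = (x * (v * m) * x⁻¹) * x := by group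
        _ = v * m * x := by rw [h1]
    have h3 : v = m⁻¹ := eq_inv_of_mul_eq_one_left h2
    rw [h3, map_inv, inv_eq_one, ← MonoidHom.mem_ker, hker]
    exact hm
  have hHbdvd : Nat.card ↥(H.map π) ∣ Nat.card ↥H := Subgroup.card_map_dvd H π
  have hcopb : (Nat.card ↥(H.map π)).Coprime (Nat.card ↥(V.map π)) :=
    Nat.Coprime.coprime_dvd_left hHbdvd (Nat.Coprime.coprime_dvd_right hVbdvd hcop)
  have hrHb : ¬ r ∣ Nat.card ↥(H.map π) := fun hd => hrH (hd.trans hHbdvd)
  have hxHb : zpowers (π x) ≤ normalizer ((H.map π : Subgroup (Y ⧸ Z)) : Set (Y ⧸ Z)) := by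
    rw [← MonoidHom.map_zpowers]
    exact (Subgroup.map_mono hxH).trans (Subgroup.le_normalizer_map π)
  have hB := @ih (Nat.card ↥(V.map π)) hlt (Y ⧸ Z) _ _ _ hoddq (V.map π) hVbn rfl r hr hrVb (π x) hxb
    hfixb (H.map π) hxHb hcopb hrHb
  -- Step C
  set y : Y := ⁅h, x⁆ with hy
  have hyH : y ∈ H := by
    have h1 : x * h⁻¹ * x⁻¹ ∈ H :=
      (Subgroup.mem_normalizer_iff.mp (hxH (mem_zpowers x)) h⁻¹).mp (H.inv_mem hh)
    have : y = h * (x * h⁻¹ * x⁻¹) := by rw [hy, commutatorElement_def]; group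
    rw [this]
    exact H.mul_mem hh h1
  have hyZ : y ∈ centralizer (Z : Set Y) := hA h hh
  have hyb : π y ∈ centralizer ((V.map π : Subgroup (Y ⧸ Z)) : Set (Y ⧸ Z)) := by
    have := hB (π h) (Subgroup.mem_map_of_mem π hh)
    rwa [← map_commutatorElement] at this
  rw [mem_centralizer_iff]
  intro v hv
  set z : Y := y * v * y⁻¹ * v⁻¹ with hz
  have hzZ : z ∈ Z := by
    rw [← hker, MonoidHom.mem_ker, hz]
    have h1 := mem_centralizer_iff.mp hyb (π v) (Subgroup.mem_map_of_mem π hv)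
    simp only [map_mul, map_inv]
    rw [← h1]
    group
  have hyz : y * z = z * y := (mem_centralizer_iff.mp hyZ z hzZ).symm
  have hconj : y * v * y⁻¹ = z * v := by rw [hz]; group
  have hpow := conj_pow_eq hyz hconj (orderOf y)
  rw [pow_orderOf_eq_one, one_mul, inv_one, mul_one] at hpow
  have hzk : z ^ orderOf y = 1 := by
    have : z ^ orderOf y * v = 1 * v := by rw [one_mul]; exact hpow.symm
    exact mul_right_cancel this
  have hzℓ : z ^ ℓ = 1 := hZℓ z hzZ
  have hcop2 : (orderOf y).Coprime ℓ := by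
    have h1 : orderOf y ∣ Nat.card ↥H := by
      have := orderOf_dvd_natCard (⟨y, hyH⟩ : ↥H)
      rwa [Subgroup.orderOf_mk] at this
    rw [Nat.coprime_comm, Nat.Prime.coprime_iff_not_dvd hℓ]
    intro hd
    exact hℓH (hd.trans h1)
  have hz1 : z = 1 := by
    have h1 : orderOf z ∣ orderOf y := orderOf_dvd_of_pow_eq_one hzk
    have h2 : orderOf z ∣ ℓ := orderOf_dvd_of_pow_eq_one hzℓ
    have h3 : orderOf z ∣ Nat.gcd (orderOf y) ℓ := Nat.dvd_gcd h1 h2
    rw [hcop2] at h3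
    exact orderOf_eq_one_iff.mp (Nat.dvd_one.mp h3)
  rw [hz1, one_mul] at hconj
  calc v * y = (y * v * y⁻¹) * y := by rw [hconj]
    _ = y * v := by group

/-- **fixed-point-free action**: `Y` finite solvable of odd order, `V ⊴ Y`, `x` of prime order `r ∤ |V|` with
`C_V(x) = 1`, `H` an `x`-invariant subgroup with `(|H|, r |V|) = 1`: then `[H, x]` centralizes `V`. -/
theorem commutator_mem_centralizer_of_fpf {Y : Type u} [Group Y] [Finite Y] [Group.IsSolvable Y]
    (hodd : Odd (Nat.card Y)) (V : Subgroup Y) [V.Normal] {r : ℕ} (hr : r.Prime)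
    (hrV : ¬ r ∣ Nat.card V) (x : Y) (hx : orderOf x = r) (hfix : ∀ v ∈ V, x * v = v * x → v = 1)
    (H : Subgroup Y) (hxH : zpowers x ≤ normalizer (H : Set Y))
    (hcop : (Nat.card H).Coprime (Nat.card V)) (hrH : ¬ r ∣ Nat.card H) :
    ∀ h ∈ H, ⁅h, x⁆ ∈ centralizer (V : Set Y) :=
  fpf_aux (Nat.card V) Y hodd V rfl hr hrV x hx hfix H hxH hcop hrH

end Cfsg.Agent.Lib.Helper62_BG117a
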