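import Cfsg.Agent.Lib.Helper76_BG13e
import Cfsg.Agent.Lib.Helper39_BG134c

/-!
# The closed cases of Bender–Glauberman, Theorem 13.4 (helper76)

`hClosed` discharges the hypothesis `HClosed G` of helper39's assembly `Helper39_BG134c.statement_S1428`:
in a counterexample to Theorem 13.4, every maximal subgroup `H ≥ N_G(P)` has `p ∈ σ(H)`, `r ∈ τ₁(H)` and is
not conjugate to `M`.  The cases `r ∈ σ(H)`, `r ∈ τ₂(H)`, `r ∈ τ₃(H)` and (`r ∈ τ₁(H)`, `p ∈ τ₂(H)`) are
`Cfg.caseP1` … `Cfg.caseP4` of `Helper76_BG13e`; the case `r = p` is `le_of_card_eq_of_pRankLE_one`.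
-/

set_option autoImplicit false
set_option linter.unusedSectionVars false

namespace Cfsg.Agent.Lib.Helper76_BG13f

open Subgroup Cfsg Cfsg.Agent.Lib.Helper22_Radical
  Cfsg.Agent.Lib.Helper76_BG13d Cfsg.Agent.Lib.Helper76_BG13e

universe u

variable {G : Type u} [Group G] [Finite G]

/-- a commutative subgroup of exponent `p` of `M` has order at most `p ^ k` when `M` has `p`-rank at
most `k` -/
theorem card_le_of_pRankLE_of_le {p k : ℕ} {M A : Subgroup G} (hAM : A ≤ M)
    (hcomm : ∀ a ∈ A, ∀ b ∈ A, a * b = b * a) (hexp : ∀ a ∈ A, a ^ p = 1)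
    (h : PRankLE p k ↥M) : Nat.card A ≤ p ^ k := by
  have h1 := h (A.subgroupOf M) ?_ ?_
  · rwa [Cfsg.Agent.Lib.Helper24_CoprimeAction.card_subgroupOf_of_le hAM] at h1
  · refine ⟨⟨?_⟩⟩
    rintro ⟨a, ha⟩ ⟨b, hb⟩
    rw [mem_subgroupOf] at ha hb
    apply Subtype.ext
    apply Subtype.ext
    exact hcomm _ ha _ hb
  · intro a ha
    rw [mem_subgroupOf] at ha
    apply Subtype.ext
    rw [Subgroup.coe_pow, Subgroup.coe_one]
    exact hexp _ ha

/-- two commuting subgroups of order `p` of a group of `p`-rank one coincide -/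
theorem le_of_card_eq_of_pRankLE_one {p : ℕ} (hp : p.Prime) {M P R : Subgroup G} (hPM : P ≤ M)
    (hRM : R ≤ M) (hP : Nat.card P = p) (hR : Nat.card R = p)
    (hRP : R ≤ centralizer (P : Set G)) (h : PRankLE p 1 ↥M) : R ≤ P := by
  have := Fact.mk hp
  have hPc : ∀ a ∈ P, ∀ b ∈ P, a * b = b * a := by
    intro a ha b hb
    have : IsCyclic ↥P := isCyclic_of_prime_card hP
    have hc := (IsCyclic.commGroup (α := ↥P)).mul_comm ⟨a, ha⟩ ⟨b, hb⟩
    exact congrArg Subtype.val hc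
  have hRc : ∀ a ∈ R, ∀ b ∈ R, a * b = b * a := by
    intro a ha b hb
    have : IsCyclic ↥R := isCyclic_of_prime_card hR
    have hc := (IsCyclic.commGroup (α := ↥R)).mul_comm ⟨a, ha⟩ ⟨b, hb⟩
    exact congrArg Subtype.val hc
  have hPe : ∀ a ∈ P, a ^ p = 1 := by
    intro a ha
    have := pow_card_eq_one' (G := ↥P) (x := ⟨a, ha⟩)
    rw [hP] at this
    exact congrArg Subtype.val this
  have hRe : ∀ a ∈ R, a ^ p = 1 := by
    intro a ha
    have := pow_card_eq_one' (G := ↥R) (x := ⟨a, ha⟩)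
    rw [hR] at this
    exact congrArg Subtype.val this
  have hPR : ∀ a ∈ P, ∀ b ∈ R, a * b = b * a := by
    intro a ha b hb
    exact (mem_centralizer_iff.mp (hRP hb) a ha)
  have hRnP : R ≤ normalizer (P : Set G) := hRP.trans (centralizer_le_normalizer _)
  have hdec : ∀ t ∈ P ⊔ R, ∃ a ∈ P, ∃ b ∈ R, t = a * b := fun t ht =>
    Cfsg.Agent.Lib.Helper24_CoprimeAction.exists_mul_of_mem_sup R P hRnP ht
  have hcard : Nat.card ↥(P ⊔ R) ≤ p ^ 1 := by
    apply card_le_of_pRankLE_of_le (sup_le hPM hRM) _ _ h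
    · intro s hs t ht
      obtain ⟨a, ha, b, hb, rfl⟩ := hdec s hs
      obtain ⟨a', ha', b', hb', rfl⟩ := hdec t ht
      have h1 := hPc a ha a' ha'
      have h2 := hRc b hb b' hb'
      have h3 := hPR a ha b' hb'
      have h4 := hPR a' ha' b hb
      calc a * b * (a' * b') = a * (b * a') * b' := by group
        _ = a * (a' * b) * b' := by rw [h4]
        _ = (a * a') * (b * b') := by group
        _ = (a' * a) * (b' * b) := by rw [h1, h2]
        _ = a' * (a * b') * b := by group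
        _ = a' * (b' * a) * b := by rw [h3]
        _ = a' * b' * (a * b) := by group
    · intro t ht
      obtain ⟨a, ha, b, hb, rfl⟩ := hdec t ht
      have hc : Commute a b := hPR a ha b hb
      rw [hc.mul_pow, hPe a ha, hRe b hb, one_mul]
  rw [pow_one] at hcard
  have hle : P ≤ P ⊔ R := le_sup_left
  have heq : P = P ⊔ R := by
    apply Subgroup.eq_of_le_of_card_ge hle
    rw [hP]; exact hcard
  rw [heq]
  exact le_sup_right

/-- **The closed cases of Theorem 13.4**: helper39's `HClosed G`. -/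
theorem hClosed (hG : IsMinSimpleOddOrder G) : Cfsg.Agent.Lib.Helper39_BG134c.HClosed G := by
  intro M E P R p r hA hNC H hH hNP
  by_cases hrp : r = p
  · exfalso
    apply hNC
    have hRP : R ≤ P :=
      le_of_card_eq_of_pRankLE_one hA.pp hA.hPM hA.hRM hA.hP (hA.hR.trans hrp) hA.hRP
        hA.hp.2.2.2.2
    exact inf_le_right.trans (Subgroup.centralizer_le hRP)
  have h : Cfg M E P R H p r :=
    ⟨hA.hM, hA.hE, hA.hp, hA.hPE, hA.hP, hA.hRE, hA.hRP, hA.hR, hA.hr, hrp, hNC, hH, hNP⟩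
  have hrd : r ∣ Nat.card ↥H := by
    have := Subgroup.card_dvd_of_le h.hRH
    rwa [hA.hR] at this
  have hrH : r ∈ tau1 H := by
    by_contra hr1
    by_cases hσ : r ∈ sigma H
    · exact h.caseP1 hG hσ
    by_cases h2 : PRankLE r 1 ↥H
    · by_cases h3 : r ∣ Nat.card ↥⁅H, H⁆
      · exact h.caseP2 hG ⟨hA.hr, hσ, h3, h2⟩
      · exact hr1 ⟨hA.hr, hσ, hrd, h3, h2⟩
    · have h4 : PRankLE r 2 ↥H := by
        by_contra h5
        exact hσ (Cfsg.Agent.Lib.Helper49_Alpha.mem_sigma_of_mem_alpha hG (hU hG) hH ⟨hA.hr, h5⟩)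
      exact h.caseP3 hG ⟨hA.hr, hσ, h4, h2⟩
  refine ⟨?_, hrH, h.hnc hG⟩
  rcases h.hστ hG with h1 | h2
  · exact h1
  · exact (h.caseP4 hG hrH h2).elim

end Cfsg.Agent.Lib.Helper76_BG13f
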