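import Mathlib
import Cfsg.Agent.Lib.Helper52_FrobFormula
import Cfsg.Agent.Lib.Helper76_BG13f
import Cfsg.Prelude.Def_OddOrderLocal

/-!
# Pure group theory for B-G Corollary 15.9 (S1376)

* `nilpotent_of_fixed_central`: a group `C` with a central subgroup `K`, normalized by an element `y`
  of prime order `r` coprime to `|K|` which centralizes `K` and has `C_C(y) ≤ K`, is nilpotent
  (Thompson's theorem on `C / K`).
* `le_centralizer_of_rank_one`: a `q`-group `Q` containing a subgroup `K` of order `q` such that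
  `C_Q(K)` lies in a group of `q`-rank one centralizes `K`.
* `inf_map_conj_eq_bot`: a complement acting semiregularly on a normal subgroup is malnormal.
-/

set_option autoImplicit false

namespace Cfsg.Agent.Lib.Helper62_BG159

open Subgroup Cfsg Cfsg.Agent.Lib.Helper52_FrobAct

universe u

section pure

variable {X : Type u} [Group X] [Finite X]

/-- Thompson's theorem on `C / K`. -/
theorem nilpotent_of_fixed_central (C K : Subgroup X) (y : X) {r : ℕ} (hr : r.Prime)
    (hy : orderOf y = r) (hKZ : ∀ k ∈ K, ∀ c ∈ C, k * c = c * k)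
    (hyC : ∀ c ∈ C, y * c * y⁻¹ ∈ C) (hyK : ∀ k ∈ K, y * k = k * y)
    (hfix : ∀ c ∈ C, y * c = c * y → c ∈ K) (hcop : (Nat.card K).Coprime r) :
    Group.IsNilpotent C := by
  have hyN : y ∈ normalizer (C : Set X) := by
    apply Subgroup.mem_normalizer_fintype
    intro c hc
    exact hyC c hc
  have hGM : zpowers y ≤ normalizer (C : Set X) := (Subgroup.zpowers_le).2 hyN
  have hyNK : y ∈ normalizer (K : Set X) := by
    apply Subgroup.mem_normalizer_fintype
    intro k hk
    have : y * k * y⁻¹ = k := by rw [hyK k hk]; group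
    rw [this]; exact hk
  have hGN : zpowers y ≤ normalizer (K : Set X) := (Subgroup.zpowers_le).2 hyNK
  have hn : (K.subgroupOf C).Normal := by
    constructor
    intro k hk c
    rw [mem_subgroupOf] at hk ⊢
    have h1 : ((c * k * c⁻¹ : ↥C) : X) = (c : X) * (k : X) * (c : X)⁻¹ := rfl
    rw [h1]
    have h2 : (k : X) * (c : X) = (c : X) * (k : X) := hKZ _ hk _ c.2
    have h3 : (c : X) * (k : X) * (c : X)⁻¹ = k := by rw [← h2]; group
    rw [h3]; exact hk
  set Φ := secAct (zpowers y) C K hGM hGN with hΦ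
  set φ : (↥C ⧸ K.subgroupOf C) ≃* (↥C ⧸ K.subgroupOf C) := Φ ⟨y, mem_zpowers y⟩ with hφ
  -- iterated conjugation
  have hiter : ∀ (m k : X), k ∈ K → y * m * y⁻¹ = m * k → ∀ i : ℕ, y ^ i * m * (y ^ i)⁻¹ = m * k ^ i := by
    intro m k hk hmk i
    induction i with
    | zero => simp
    | succ i ih =>
      have hki : k ^ i ∈ K := pow_mem hk i
      have h1 : y * k ^ i * y⁻¹ = k ^ i := by rw [hyK _ hki]; group
      calc y ^ (i + 1) * m * (y ^ (i + 1))⁻¹ = y * (y ^ i * m * (y ^ i)⁻¹) * y⁻¹ := by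
            rw [pow_succ']; group
        _ = y * (m * k ^ i) * y⁻¹ := by rw [ih]
        _ = (y * m * y⁻¹) * (y * k ^ i * y⁻¹) := by group
        _ = m * k * k ^ i := by rw [hmk, h1]
        _ = m * k ^ (i + 1) := by rw [pow_succ', mul_assoc]
  have hfpf : MonoidHom.FixedPointFree
      (φ : (↥C ⧸ K.subgroupOf C) →* (↥C ⧸ K.subgroupOf C)) := by
    intro q hq
    induction q using QuotientGroup.induction_on with
    | H m =>
      have h0 : φ (QuotientGroup.mk m) = QuotientGroup.mk m := hq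
      rw [hφ, hΦ, secAct_mk] at h0
      have h1 := QuotientGroup.eq.1 h0.symm
      rw [mem_subgroupOf] at h1
      have h2 : (m : X)⁻¹ * (y * m * y⁻¹) ∈ K := h1
      set k := (m : X)⁻¹ * (y * m * y⁻¹) with hk
      have hmk : y * (m : X) * y⁻¹ = m * k := by rw [hk]; group
      have h3 := hiter m k h2 hmk r
      rw [← hy, pow_orderOf_eq_one] at h3
      have h4 : k ^ orderOf y = 1 := by
        have : (m : X) = m * k ^ orderOf y := by simpa using h3
        exact (mul_eq_left.mp this.symm)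
      have h5 : orderOf k ∣ orderOf y := orderOf_dvd_of_pow_eq_one h4
      have h6 : orderOf k ∣ Nat.card K := by
        have := orderOf_dvd_natCard (⟨k, h2⟩ : K)
        rwa [Subgroup.orderOf_mk] at this
      have h7 : orderOf k = 1 := by
        rw [hy] at h5
        exact Nat.eq_one_of_dvd_coprimes hcop h6 h5
      have h8 : k = 1 := orderOf_eq_one_iff.mp h7
      have h9 : y * (m : X) = m * y := by
        have : y * (m : X) * y⁻¹ = m := by rw [hmk, h8, mul_one]
        calc y * (m : X) = (y * m * y⁻¹) * y := by group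
          _ = m * y := by rw [this]
      have h10 : (m : X) ∈ K := hfix _ m.2 h9
      rw [QuotientGroup.eq_one_iff, mem_subgroupOf]
      exact h10
  have hquot : Group.IsNilpotent (↥C ⧸ K.subgroupOf C) := by
    have hpow : φ ^ r = 1 := by
      rw [hφ, ← map_pow]
      have : (⟨y, mem_zpowers y⟩ : zpowers y) ^ r = 1 := by
        apply Subtype.ext
        rw [Subgroup.coe_pow, Subgroup.coe_one]
        show y ^ r = 1
        rw [← hy]; exact pow_orderOf_eq_one y
      rw [this, map_one]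
    have hord : orderOf φ ∣ r := orderOf_dvd_of_pow_eq_one hpow
    rcases (Nat.dvd_prime hr).mp hord with h | h
    · rw [orderOf_eq_one_iff] at h
      have : Subsingleton (↥C ⧸ K.subgroupOf C) := by
        constructor
        intro a b
        have ha : a = 1 := hfpf a (by rw [h]; rfl)
        have hb : b = 1 := hfpf b (by rw [h]; rfl)
        rw [ha, hb]
      infer_instance
    · exact Cfsg.Agent.S0033.result φ hfpf r hr h
  have := hquot
  apply Subgroup.isNilpotent_of_ker_le_center (QuotientGroup.mk' (K.subgroupOf C))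
  rw [QuotientGroup.ker_mk']
  intro k hk
  rw [mem_subgroupOf] at hk
  rw [Subgroup.mem_center_iff]
  intro c
  apply Subtype.ext
  show (c : X) * (k : X) = (k : X) * (c : X)
  exact (hKZ _ hk _ c.2).symm

/-- A `q`-group `Q` containing a subgroup `K` of order `q` such that `C_Q(K)` lies in a group `H`
of `q`-rank one centralizes `K`. -/
theorem le_centralizer_of_rank_one {q : ℕ} (hq : q.Prime) {H Q K : Subgroup X}
    (hQ : IsPGroup q Q) (hKQ : K ≤ Q) (hK : Nat.card K = q)
    (hQH : Q ⊓ centralizer (K : Set X) ≤ H) (hr : PRankLE q 1 ↥H) :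
    Q ≤ centralizer (K : Set X) := by
  have := Fact.mk hq
  have hK1 : K ≠ ⊥ := by
    intro h
    rw [h, Subgroup.card_bot] at hK
    exact hq.one_lt.ne hK
  have hQnt : Nontrivial ↥Q := by
    rw [Subgroup.nontrivial_iff_ne_bot]
    intro h
    apply hK1
    rw [eq_bot_iff, ← h]
    exact hKQ
  have hZnt : Nontrivial ↥(center ↥Q) := hQ.center_nontrivial
  have hZq : IsPGroup q ↥(center ↥Q) := hQ.to_subgroup _
  have hdvd : q ∣ Nat.card ↥(center ↥Q) := by
    obtain ⟨n, hn⟩ := hZq.exists_card_eq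
    rw [hn]
    have hn0 : n ≠ 0 := by
      rintro rfl
      rw [pow_zero] at hn
      have : Subsingleton ↥(center ↥Q) := (Nat.card_eq_one_iff_unique.mp hn).1
      exact not_subsingleton _ this
    exact dvd_pow_self q hn0
  obtain ⟨z, hz⟩ := exists_prime_orderOf_dvd_card' q hdvd
  have hzo : orderOf ((z : ↥Q) : X) = q := by
    rw [Subgroup.orderOf_coe, Subgroup.orderOf_coe]; exact hz
  have hKc : ∀ a ∈ K, ∀ b ∈ K, a * b = b * a := by
    intro a ha b hb
    have : IsCyclic ↥K := isCyclic_of_prime_card hK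
    have hc := (IsCyclic.commGroup (α := ↥K)).mul_comm ⟨a, ha⟩ ⟨b, hb⟩
    exact congrArg Subtype.val hc
  have hzQ : ((z : ↥Q) : X) ∈ Q := (z : ↥Q).2
  have hzcent : ∀ x ∈ Q, x * ((z : ↥Q) : X) = ((z : ↥Q) : X) * x := by
    intro x hx
    have h1 := (Subgroup.mem_center_iff.mp z.2) ⟨x, hx⟩
    exact congrArg Subtype.val h1
  have hZ0K : zpowers ((z : ↥Q) : X) ≤ centralizer (K : Set X) := by
    rw [Subgroup.zpowers_le]
    rw [Subgroup.mem_centralizer_iff]
    intro k hk
    exact hzcent k (hKQ hk)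
  have hZ0H : zpowers ((z : ↥Q) : X) ≤ H := by
    refine le_trans (le_inf ?_ hZ0K) hQH
    rw [Subgroup.zpowers_le]; exact hzQ
  have hKH : K ≤ H := by
    refine le_trans (le_inf hKQ ?_) hQH
    intro k hk
    rw [Subgroup.mem_centralizer_iff]
    intro k' hk'
    exact hKc k' hk' k hk
  have hle : zpowers ((z : ↥Q) : X) ≤ K :=
    Cfsg.Agent.Lib.Helper76_BG13f.le_of_card_eq_of_pRankLE_one hq hKH hZ0H hK
      (by rw [Nat.card_zpowers, hzo]) hZ0K hr
  have heq : zpowers ((z : ↥Q) : X) = K := by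
    apply Subgroup.eq_of_le_of_card_ge hle
    rw [Nat.card_zpowers, hzo, hK]
  intro x hx
  rw [Subgroup.mem_centralizer_iff]
  intro k hk
  rw [← heq] at hk
  obtain ⟨i, rfl⟩ := Subgroup.mem_zpowers_iff.mp hk
  have h1 : Commute x ((z : ↥Q) : X) := hzcent x hx
  exact ((h1.zpow_right i).eq).symm

omit [Finite X] in
/-- A complement acting semiregularly on a normal subgroup is malnormal. -/
theorem inf_map_conj_eq_bot {H S E : Subgroup X} (hE : IsComplIn E S H)
    (hS : H ≤ normalizer (S : Set X))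
    (hsemi : ∀ e ∈ E, e ≠ 1 → ∀ w ∈ S, e * w = w * e → w = 1) {h : X} (hh : h ∈ H)
    (hhE : h ∉ E) : E ⊓ E.map (MulAut.conj h).toMonoidHom = ⊥ := by
  obtain ⟨hEH, hSH, hES, hprod⟩ := hE
  obtain ⟨e₀, he₀, s, hs, rfl⟩ := hprod h hh
  have hs1 : s ≠ 1 := by
    rintro rfl
    apply hhE
    rw [mul_one]; exact he₀
  rw [eq_bot_iff]
  rintro z ⟨hzE, z', hz'E, hz'⟩
  rw [Subgroup.mem_bot]
  have hz'' : z = e₀ * s * z' * (e₀ * s)⁻¹ := by
    rw [← hz']; rfl
  -- `s z' s⁻¹ ∈ E`
  have h1 : s * z' * s⁻¹ ∈ E := by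
    have : s * z' * s⁻¹ = e₀⁻¹ * z * e₀ := by rw [hz'']; group
    rw [this]
    exact E.mul_mem (E.mul_mem (E.inv_mem he₀) hzE) he₀
  have h2 : s * z' * s⁻¹ * z'⁻¹ ∈ S := by
    have h3 : z' * s⁻¹ * z'⁻¹ ∈ S :=
      ((Subgroup.mem_normalizer_iff.mp (hS (hEH hz'E))) s⁻¹).mp (S.inv_mem hs)
    have : s * z' * s⁻¹ * z'⁻¹ = s * (z' * s⁻¹ * z'⁻¹) := by group
    rw [this]
    exact S.mul_mem hs h3
  have h4 : s * z' * s⁻¹ * z'⁻¹ ∈ E := E.mul_mem h1 (E.inv_mem hz'E)
  have h5 : s * z' * s⁻¹ * z'⁻¹ = 1 := by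
    have : s * z' * s⁻¹ * z'⁻¹ ∈ E ⊓ S := ⟨h4, h2⟩
    rw [hES, Subgroup.mem_bot] at this
    exact this
  have h6 : z' * s = s * z' := by
    have : s * z' * s⁻¹ = z' := by
      calc s * z' * s⁻¹ = (s * z' * s⁻¹ * z'⁻¹) * z' := by group
        _ = z' := by rw [h5, one_mul]
    calc z' * s = (s * z' * s⁻¹) * s := by rw [this]
      _ = s * z' := by group
  have h7 : z' = 1 := by
    by_contra hne
    exact hs1 (hsemi z' hz'E hne s hs h6)
  rw [hz'', h7]
  group

end pure

end Cfsg.Agent.Lib.Helper62_BG159
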