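import Mathlib
import Cfsg.Agent.Lib.Helper62_BG159a
import Cfsg.Agent.Lib.Helper62_BG137
import Cfsg.Agent.Lib.Helper62_BG117
import Cfsg.Agent.Lib.Helper78_NarrowCent
import Cfsg.Agent.Lib.Helper29_HallFusion
import Cfsg.Agent.Lib.Helper11_BGTypes
import Cfsg.Agent.Lib.Helper76_BG13b
import Cfsg.Agent.S1358
import Cfsg.Agent.S1423
import Cfsg.Prelude.Def_OddOrderLocal

/-!
# B-G Corollary 15.9 (S1376): the core configuration, part 1

`Setup M Ms H K U Ks x` records the configuration reached in the proof of B-G Corollary 15.9: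
`M = K U M_σ` is of type `P₂` (`|K|` prime), `Ms = M*` its partner, `Ks = K* = C_{M_σ}(K)`,
`H` a maximal subgroup with `κ(H) = ∅`, `U ≤ H_σ`, `M ∩ H = U K`, `H ∩ M*` a complement of `H_σ`
in `H`, and `x ∈ U` of prime order with `C_G(x) ≤ M` uniquely.

This file proves: `H_σ` is nilpotent, `C_{H_σ}(x) ≤ U`, `E' ≤ C(H_σ)`, `C_E(H_σ) = 1`, and hence
`E = H ∩ M*` is abelian.
-/

set_option autoImplicit false
set_option linter.unusedSectionVars false

namespace Cfsg.Agent.Lib.Helper62_BG159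

open scoped commutatorElement
open Subgroup Cfsg Cfsg.Agent.Lib.Helper76_BG13a Cfsg.Agent.Lib.Helper76_BG13b
  Cfsg.Agent.Lib.Helper84_RelSylow Cfsg.Agent.Lib.Helper11_BGTypes

universe u

variable {G : Type u} [Group G] [Finite G]

/-- The configuration of the proof of B-G Corollary 15.9. -/
structure Setup (M Ms H K U Ks : Subgroup G) (x : G) : Prop where
  hM : IsCoatom M
  hMs : IsCoatom Ms
  hH : IsCoatom H
  hKU : IsSigmaDecomposition M K U
  hKp : (Nat.card K).Prime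
  hUab : ∀ a ∈ U, ∀ b ∈ U, a * b = b * a
  hUK : ∀ k ∈ K, k ≠ 1 → U ⊓ centralizer ({k} : Set G) = ⊥
  hKs1 : Ks ≠ ⊥
  hKsH : IsPiHallOf (kappa Ms) Ks Ms
  hKeq : K = sigmaCore Ms ⊓ centralizer (Ks : Set G)
  hprime : ∀ y ∈ Ks, y ≠ 1 → sigmaCore Ms ⊓ centralizer ({y} : Set G) = K
  hCK : centralizer (K : Set G) ≤ Ms
  hsyl : ∀ S : Sylow (Nat.card K) ↥(sigmaCore Ms),
    InUniqueMaximal ((S : Subgroup ↥(sigmaCore Ms)).map (sigmaCore Ms).subtype)
  hκ : kappa H = ∅
  hUH : U ≤ sigmaCore H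
  hMH : M ⊓ H = U ⊔ K
  hE : IsComplIn (H ⊓ Ms) (sigmaCore H) H
  hxU : x ∈ U
  hxr : (orderOf x).Prime
  hCx : centralizer ({x} : Set G) ≤ M
  huniq : ∀ L : Subgroup G, IsCoatom L → centralizer ({x} : Set G) ≤ L → L = M

namespace Setup

variable {M Ms H K U Ks : Subgroup G} {x : G}

theorem K_le_sigmaCore (S : Setup M Ms H K U Ks x) : K ≤ sigmaCore Ms :=
  le_of_eq_of_le S.hKeq inf_le_left

theorem K_le_Ms (S : Setup M Ms H K U Ks x) : K ≤ Ms :=
  S.K_le_sigmaCore.trans (sigmaCore_le Ms)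

theorem K_le_H (S : Setup M Ms H K U Ks x) : K ≤ H :=
  (le_sup_right.trans S.hMH.ge).trans inf_le_right

theorem U_le_H (S : Setup M Ms H K U Ks x) : U ≤ H :=
  (le_sup_left.trans S.hMH.ge).trans inf_le_right

theorem K_le_E (S : Setup M Ms H K U Ks x) : K ≤ H ⊓ Ms := le_inf S.K_le_H S.K_le_Ms

theorem K_ne_bot (S : Setup M Ms H K U Ks x) : K ≠ ⊥ := by
  intro h
  have := S.hKp
  rw [h, Subgroup.card_bot] at this
  exact Nat.not_prime_one this

theorem x_ne_one (S : Setup M Ms H K U Ks x) : x ≠ 1 := by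
  intro h
  have := S.hxr
  rw [h, orderOf_one] at this
  exact Nat.not_prime_one this

theorem H_ne_M (S : Setup M Ms H K U Ks x) : H ≠ M := by
  intro h
  obtain ⟨p, hp⟩ := sd_kappa_nonempty S.hKU S.K_ne_bot
  rw [← h, S.hκ] at hp
  exact hp

theorem H_ne_Ms (S : Setup M Ms H K U Ks x) : H ≠ Ms := by
  intro h
  have hc : Nat.card Ks ≠ 1 := fun hc => S.hKs1 (Subgroup.card_eq_one.mp hc)
  obtain ⟨p, hp, hpd⟩ := Nat.exists_prime_and_dvd hc
  have := S.hKsH.2.1 p hp hpd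
  rw [← h, S.hκ] at this
  exact this

theorem E_inf (S : Setup M Ms H K U Ks x) : (H ⊓ Ms) ⊓ sigmaCore H = ⊥ := S.hE.2.2.1

/-- an element commuting with a non-identity element of `K` centralizes `K` -/
theorem mem_centralizer_K (S : Setup M Ms H K U Ks x) {k w : G} (hk : k ∈ K) (hk1 : k ≠ 1)
    (hkw : k * w = w * k) : w ∈ centralizer (K : Set G) := by
  have : Fact (Nat.card K).Prime := ⟨S.hKp⟩
  have hk' : (⟨k, hk⟩ : ↥K) ≠ 1 := fun h => hk1 (congrArg Subtype.val h)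
  have htop := zpowers_eq_top_of_prime_card (G := ↥K) (p := Nat.card K) rfl hk'
  rw [Subgroup.mem_centralizer_iff]
  intro y hy
  have hy' : (⟨y, hy⟩ : ↥K) ∈ zpowers (⟨k, hk⟩ : ↥K) := by rw [htop]; trivial
  obtain ⟨i, hi⟩ := Subgroup.mem_zpowers_iff.mp hy'
  have hyk : y = k ^ i := by
    have := congrArg Subtype.val hi
    simpa using this.symm
  rw [hyk]
  have hc : Commute k w := hkw
  exact (hc.zpow_left i).eq

/-- `C_{H_σ}(k) = 1` for `k ∈ K^#` -/
theorem fpf_K (S : Setup M Ms H K U Ks x) : ∀ k ∈ K, k ≠ 1 → ∀ w ∈ sigmaCore H, k * w = w * k → w = 1 := by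
  intro k hk hk1 w hw hkw
  have h1 : w ∈ Ms := S.hCK (S.mem_centralizer_K hk hk1 hkw)
  have h2 : w ∈ (H ⊓ Ms) ⊓ sigmaCore H := ⟨⟨sigmaCore_le H hw, h1⟩, hw⟩
  rw [S.E_inf] at h2
  exact h2

/-- `H_σ` is nilpotent -/
theorem nilpotent (S : Setup M Ms H K U Ks x) : Group.IsNilpotent ↥(sigmaCore H) := by
  apply Cfsg.Agent.Lib.Helper52_FrobFormula.nilpotent_of_fpf (sigmaCore H) K S.K_ne_bot
  · intro e he u hu
    exact conj_mem_of_mem_normalizer (le_normalizer_sigmaCore' H (S.K_le_H he)) hu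
  · exact S.fpf_K

/-- `C_{H_σ}(x) ≤ U` -/
theorem cent_x_le (S : Setup M Ms H K U Ks x) {w : G} (hw : w ∈ sigmaCore H) (hxw : x * w = w * x) :
    w ∈ U := by
  have hwM : w ∈ M := by
    apply S.hCx
    rw [Subgroup.mem_centralizer_iff]
    intro y hy
    rw [Set.mem_singleton_iff] at hy
    rw [hy]; exact hxw
  have hwMH : w ∈ U ⊔ K := by
    rw [← S.hMH]; exact ⟨hwM, sigmaCore_le H hw⟩
  obtain ⟨u, hu, k, hk, rfl⟩ := (mem_sup_of_le_normalizer' S.hKU.normal).mp hwMH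
  have hk' : k ∈ sigmaCore H := by
    have : k = u⁻¹ * (u * k) := by group
    rw [this]
    exact mul_mem (inv_mem (S.hUH hu)) hw
  have h2 : k ∈ (H ⊓ Ms) ⊓ sigmaCore H := ⟨S.K_le_E hk, hk'⟩
  rw [S.E_inf, mem_bot] at h2
  rw [h2, mul_one]; exact hu

/-- `C_G(⟨x⟩) = C_G(x)` -/
theorem centralizer_zpowers_eq (y : G) :
    centralizer ((zpowers y : Subgroup G) : Set G) = centralizer ({y} : Set G) := by
  apply le_antisymm
  · apply Subgroup.centralizer_le
    intro z hz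
    rw [Set.mem_singleton_iff] at hz
    rw [hz]; exact mem_zpowers y
  · intro g hg
    rw [Subgroup.mem_centralizer_iff] at hg ⊢
    intro z hz
    obtain ⟨i, rfl⟩ := Subgroup.mem_zpowers_iff.mp hz
    have hc : Commute y g := hg y rfl
    exact (hc.zpow_left i).eq

/-- `x ∈ H_σ` -/
theorem x_mem (S : Setup M Ms H K U Ks x) : x ∈ sigmaCore H := S.hUH S.hxU

/-- the order `r` of `x` is not in `β(H)` -/
theorem not_beta (hG : IsMinSimpleOddOrder G) (S : Setup M Ms H K U Ks x) :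
    orderOf x ∉ beta H := by
  intro hβ
  have : Fact (orderOf x).Prime := ⟨S.hxr⟩
  have hσ : orderOf x ∈ sigma H := by
    apply Cfsg.Agent.Lib.Helper49_SigmaDisjoint.mem_sigma_of_dvd_card_sigmaCore H S.hxr
    have h1 : orderOf (⟨x, S.x_mem⟩ : ↥(sigmaCore H)) = orderOf x := Subgroup.orderOf_mk x S.x_mem
    rw [← h1]
    exact orderOf_dvd_natCard _
  have hX : zpowers x ≤ H := (Subgroup.zpowers_le).2 (S.U_le_H S.hxU)
  obtain ⟨⟨h1, -⟩, -⟩ := Cfsg.Agent.S1423.result hG H S.hH (orderOf x) hσ (zpowers x) hX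
    (Nat.card_zpowers x) default (Or.inl hβ)
  rw [centralizer_zpowers_eq] at h1
  exact S.H_ne_M (S.huniq H S.hH h1)

/-- for each prime `s` some Sylow `s`-subgroup of `H_σ` is centralized by `E'` -/
theorem exists_sylow_le_centralizer (hG : IsMinSimpleOddOrder G) (S : Setup M Ms H K U Ks x)
    (s : ℕ) (hs : s.Prime) :
    ∃ T : Subgroup G, T ≤ centralizer ((⁅H ⊓ Ms, H ⊓ Ms⁆ : Subgroup G) : Set G) ∧ T ≤ sigmaCore H ∧
      ¬ s ∣ T.relIndex (sigmaCore H) := by
  have : Fact s.Prime := ⟨hs⟩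
  by_cases hsd : s ∣ Nat.card ↥(sigmaCore H)
  swap
  · exact ⟨⊥, bot_le, bot_le, by rw [Subgroup.relIndex_bot_left]; exact hsd⟩
  have hsσ : s ∈ sigma H :=
    Cfsg.Agent.Lib.Helper49_SigmaDisjoint.mem_sigma_of_dvd_card_sigmaCore H hs hsd
  obtain ⟨Q, R, hQ, hR, hQp, hRcop, hcard, hcomm⟩ :=
    Cfsg.Agent.Lib.Helper29_HallFusion.exists_sylow_compl (sigmaCore H) S.nilpotent s
  have hQle : Q ≤ sigmaCore H := fun a ha => ((hQ a).mp ha).1
  have hrel : ¬ s ∣ Q.relIndex (sigmaCore H) := by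
    have h1 := relIndex_mul_card' hQle
    have h2 : Q.relIndex (sigmaCore H) = Nat.card R := by
      have : Q.relIndex (sigmaCore H) * Nat.card Q = Nat.card R * Nat.card Q := by
        rw [h1, ← hcard, mul_comm]
      exact Nat.eq_of_mul_eq_mul_right Nat.card_pos this
    rw [h2]
    exact fun hd => hs.one_lt.ne' (Nat.Coprime.eq_one_of_dvd hRcop.symm hd)
  have hEQ : H ⊓ Ms ≤ normalizer (Q : Set G) := by
    intro e he
    apply Subgroup.mem_normalizer_fintype
    intro a ha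
    obtain ⟨haK, k, hk⟩ := (hQ a).mp ha
    apply (hQ _).mpr
    refine ⟨conj_mem_of_mem_normalizer (le_normalizer_sigmaCore' H he.1) haK, k, ?_⟩
    rw [conj_pow, hk]; group
  refine ⟨Q, ?_, hQle, hrel⟩
  rw [Subgroup.le_centralizer_iff]
  by_cases hsr : s = orderOf x
  · subst hsr
    exact Cfsg.Agent.Lib.Helper62_BG137.commutator_le_centralizer hG S.hH hsσ (S.not_beta hG) S.hE hQp
      (hQle.trans (sigmaCore_le H)) hEQ
  · -- `x` is an `s'`-element of `H_σ`, so `Q ≤ C_{H_σ}(x) ≤ U`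
    have hxR : x ∈ R := by
      apply (hR x).mpr
      refine ⟨S.x_mem, ?_⟩
      exact (Nat.coprime_primes S.hxr hs).mpr (fun h => hsr h.symm)
    have hQU : Q ≤ U := fun a ha => S.cent_x_le (hQle ha) (hcomm a ha x hxR).symm
    have hodd : Odd (Nat.card ↥(H ⊓ Ms)) := Odd.of_dvd_nat hG.1 (Subgroup.card_subgroup_dvd_card _)
    have hs2 : s ≠ 2 := by
      rintro rfl
      have : Odd (Nat.card ↥(sigmaCore H)) := Odd.of_dvd_nat hG.1 (Subgroup.card_subgroup_dvd_card _)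
      exact (Nat.not_even_iff_odd.mpr this) (even_iff_two_dvd.mpr hsd)
    have hcop : (Nat.card ↥(H ⊓ Ms)).Coprime s :=
      ((Nat.Prime.coprime_iff_not_dvd hs).mpr
        (Cfsg.Agent.Lib.Helper62_BG137.not_dvd_card_compl hG S.hH S.hE hs hsσ)).symm
    -- rank
    have hrank : PRankLE s 2 ↥Q := by
      have hQ' : IsPGroup s ↥(Q.subgroupOf U) :=
        hQp.comap_of_injective U.subtype U.subtype_injective
      obtain ⟨P, hP⟩ := hQ'.exists_le_sylow
      have hPr := (Cfsg.Agent.S1358.result hG M S.hM K U S.hKU s hs P).2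
      let f : ↥Q →* ↥(P : Subgroup ↥U) :=
        { toFun := fun a => ⟨⟨a.1, hQU a.2⟩, hP (by rw [mem_subgroupOf]; exact a.2)⟩
          map_one' := rfl
          map_mul' := fun a b => rfl }
      have hf : Function.Injective f := by
        intro a b hab
        have h1 := congrArg (fun t : ↥(P : Subgroup ↥U) => ((t : ↥U) : G)) hab
        exact Subtype.ext h1
      exact Cfsg.Agent.Lib.Helper2_PRank.pRankLE_of_injective' s 2 f hf hPr
    exact Cfsg.Agent.Lib.Helper78_NarrowCent.commutator_le_centralizer s hs2 Q (H ⊓ Ms) hQp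
      (Or.inl hrank) hEQ hodd hcop

/-- `E' ≤ C_G(H_σ)` -/
theorem comm_le_centralizer (hG : IsMinSimpleOddOrder G) (S : Setup M Ms H K U Ks x) :
    ⁅H ⊓ Ms, H ⊓ Ms⁆ ≤ centralizer ((sigmaCore H : Subgroup G) : Set G) := by
  rw [Subgroup.le_centralizer_iff]
  exact Cfsg.Agent.Lib.Helper62_BG117.le_of_forall_sylow_le
    (fun s hs => S.exists_sylow_le_centralizer hG s hs)

/-- `C_E(H_σ) = 1` -/
theorem cent_E_eq_one (S : Setup M Ms H K U Ks x) {e : G} (he : e ∈ H ⊓ Ms)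
    (hc : e ∈ centralizer ((sigmaCore H : Subgroup G) : Set G)) : e = 1 := by
  rw [Subgroup.mem_centralizer_iff] at hc
  have hxe : x * e = e * x := hc x S.x_mem
  have heM : e ∈ M := by
    apply S.hCx
    rw [Subgroup.mem_centralizer_iff]
    intro y hy
    rw [Set.mem_singleton_iff] at hy
    rw [hy]; exact hxe
  have heMH : e ∈ U ⊔ K := by
    rw [← S.hMH]; exact ⟨heM, he.1⟩
  obtain ⟨u, hu, k, hk, rfl⟩ := (mem_sup_of_le_normalizer' S.hKU.normal).mp heMH
  have hk1 : k = 1 := by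
    by_contra hk1
    have hUle : U ≤ U ⊓ centralizer ({k} : Set G) := by
      intro v hv
      refine ⟨hv, ?_⟩
      show v ∈ centralizer ({k} : Set G)
      rw [Subgroup.mem_centralizer_iff]
      intro y hy
      rw [Set.mem_singleton_iff] at hy
      rw [hy]
      have h1 : v * (u * k) = u * k * v := hc v (S.hUH hv)
      have h2 : v * u = u * v := S.hUab v hv u hu
      have h3 : u * (v * k) = u * (k * v) := by
        rw [← mul_assoc, ← h2, mul_assoc, h1, mul_assoc]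
      exact (mul_left_cancel h3).symm
    rw [S.hUK k hk hk1] at hUle
    have := hUle S.hxU
    rw [mem_bot] at this
    exact S.x_ne_one this
  rw [hk1, mul_one] at he ⊢
  have h2 : u ∈ (H ⊓ Ms) ⊓ sigmaCore H := ⟨he, S.hUH hu⟩
  rw [S.E_inf, mem_bot] at h2
  exact h2

/-- `E = H ∩ M*` is abelian -/
theorem E_comm (hG : IsMinSimpleOddOrder G) (S : Setup M Ms H K U Ks x) :
    ∀ a ∈ H ⊓ Ms, ∀ b ∈ H ⊓ Ms, a * b = b * a := by
  intro a ha b hb
  have h1 : ⁅a, b⁆ ∈ ⁅H ⊓ Ms, H ⊓ Ms⁆ := Subgroup.commutator_mem_commutator ha hb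
  have h2 : ⁅a, b⁆ ∈ H ⊓ Ms := Subgroup.commutator_le_self _ h1
  have h3 := S.cent_E_eq_one h2 (S.comm_le_centralizer hG h1)
  exact (commutatorElement_eq_one_iff_mul_comm).mp h3

end Setup

end Cfsg.Agent.Lib.Helper62_BG159
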