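import Mathlib
import Cfsg.Agent.Lib.Helper62_BG159b
import Cfsg.Agent.Lib.Helper76_BG13c
import Cfsg.Agent.Lib.Helper23_SigmaHall
import Cfsg.Agent.Lib.Helper47_BG1211d
import Cfsg.Agent.Lib.Helper97_BG1211f
import Cfsg.Agent.Lib.Helper53_BG16b
import Cfsg.Agent.Lib.Helper25_CNSolv
import Cfsg.Agent.Lib.Helper29_BG12a
import Cfsg.Agent.S0058
import Cfsg.Agent.S1417
import Cfsg.Agent.S1418
import Cfsg.Agent.S1419
import Cfsg.Prelude.Def_OddOrderLocal

/-!
# B-G Corollary 15.9 (S1376): the core configuration, part 2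

In the configuration `Setup` of `Helper62_BG159b`: `τ₂(H) = ∅`, the complement `E = H ∩ M*` acts
semiregularly on `H_σ` and is cyclic.
-/

set_option autoImplicit false
set_option linter.unusedSectionVars false

namespace Cfsg.Agent.Lib.Helper62_BG159

open scoped commutatorElement
open Subgroup Cfsg Cfsg.Agent.Lib.Helper76_BG13a Cfsg.Agent.Lib.Helper76_BG13b
  Cfsg.Agent.Lib.Helper76_BG13c Cfsg.Agent.Lib.Helper84_RelSylow Cfsg.Agent.Lib.Helper11_BGTypes

universe u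

variable {G : Type u} [Group G] [Finite G]

namespace Setup

variable {M Ms H K U Ks : Subgroup G} {x : G}

theorem sigmaCore_ne_bot (S : Setup M Ms H K U Ks x) : sigmaCore H ≠ ⊥ := by
  intro h
  have := S.x_mem
  rw [h, mem_bot] at this
  exact S.x_ne_one this

/-- for `p ∈ τ₂(H)`: an elementary abelian `A ≤ E` of order `p²` inside `M*_σ` and `a ∈ A^#` with
`C_G(a) ≤ H` -/
theorem tau2_data (hG : IsMinSimpleOddOrder G) (S : Setup M Ms H K U Ks x) {p : ℕ} [Fact p.Prime]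
    (hp : p ∈ tau2 H) :
    ∃ A : Subgroup G, A ≤ H ⊓ Ms ∧ IsElementaryAbelian p A ∧ Nat.card A = p ^ 2 ∧
      A ≤ sigmaCore Ms ∧ ∃ a ∈ A, a ≠ 1 ∧ centralizer ({a} : Set G) ≤ H := by
  have hpp : p.Prime := Fact.out
  obtain ⟨A, hAE, hAe, hA2⟩ := exists_elemAb_le_compl hG S.hH S.hE hp
  refine ⟨A, hAE, hAe, hA2, ?_, ?_⟩
  · -- `p ∈ σ(M*)`
    have hAMs : A ≤ Ms := hAE.trans inf_le_right
    have hpσ : p ∈ sigma Ms := by
      by_contra hnσ
      have hU := Cfsg.Agent.Lib.Helper49_SigmaDisjoint.uniqHyp hG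
      have hτ : p ∈ tau2 Ms :=
        ⟨hpp, hnσ, Cfsg.Agent.Lib.Helper23_SigmaHall.pRankLE_of_not_mem_sigma hG hU S.hMs hpp hnσ,
          not_pRankLE_one_of_elemAb hpp hAMs hAe hA2⟩
      have hd := (Cfsg.Agent.S1417.result hG Ms S.hMs p hτ A ⟨hAMs, hAe, hA2⟩).2.2.2.1
      have hK : K ≤ sigmaCore Ms ⊓ centralizer (A : Set G) := by
        refine le_inf S.K_le_sigmaCore ?_
        intro k hk
        rw [Subgroup.mem_centralizer_iff]
        intro a ha
        exact S.E_comm hG a (hAE ha) k (S.K_le_E hk)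
      rw [hd] at hK
      exact S.K_ne_bot (le_bot_iff.mp hK)
    exact le_sigmaCore_of_isPGroup' hG S.hMs hpσ (isPGroup_of_elemAb hAe) hAMs
  · -- coprime generation
    have hAc : IsMulCommutative A := hAe.1
    have hAn : A ≤ normalizer ((sigmaCore H : Subgroup G) : Set G) :=
      (hAE.trans inf_le_left).trans (le_normalizer_sigmaCore' H)
    have hcop : (Nat.card A).Coprime (Nat.card ↥(sigmaCore H)) := by
      rw [hA2]
      apply Nat.Coprime.pow_left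
      rw [Nat.Prime.coprime_iff_not_dvd hpp]
      intro hd
      exact hp.2.1 (Cfsg.Agent.Lib.Helper49_SigmaDisjoint.mem_sigma_of_dvd_card_sigmaCore H hpp hd)
    have hgen := Cfsg.Agent.S0058.result A (sigmaCore H) (not_isCyclic_of_elemAb hpp hAe hA2) hAn hcop
    have hex : ∃ a ∈ A, a ≠ 1 ∧ sigmaCore H ⊓ centralizer ({a} : Set G) ≠ ⊥ := by
      by_contra hne
      push Not at hne
      apply S.sigmaCore_ne_bot
      rw [← hgen, eq_bot_iff]
      apply iSup₂_le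
      intro a ha
      rw [hne a ha.1 ha.2]
    obtain ⟨a, haA, ha1, hfix⟩ := hex
    refine ⟨a, haA, ha1, ?_⟩
    have hcard : Nat.card ↥(zpowers a) = p := by
      rw [Nat.card_zpowers]
      exact orderOf_eq_prime (hAe.2 a haA) ha1
    have h3 := (Cfsg.Agent.S1418.result hG H S.hH (H ⊓ Ms) S.hE p hp A ⟨hAE, hAe, hA2⟩).2.2
      (zpowers a) ((Subgroup.zpowers_le).2 haA) hcard (by rw [centralizer_zpowers_eq]; exact hfix)
    rw [centralizer_zpowers_eq] at h3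
    exact h3.1

/-- a Sylow `q`-subgroup of `M*_σ` (`q = |K|`) is not contained in `H` -/
theorem sylow_not_le (S : Setup M Ms H K U Ks x) (Q : Sylow (Nat.card K) ↥(sigmaCore Ms)) :
    ¬ (Q : Subgroup ↥(sigmaCore Ms)).map (sigmaCore Ms).subtype ≤ H := by
  intro hle
  obtain ⟨L, -, hL⟩ := S.hsyl Q
  have h1 := hL H ⟨S.hH, hle⟩
  have h2 := hL Ms ⟨S.hMs, (Subgroup.map_subtype_le _).trans (sigmaCore_le Ms)⟩
  exact S.H_ne_Ms (h1.trans h2.symm)

/-- every `q`-subgroup of `M*_σ` lies in a Sylow `q`-subgroup of `M*_σ` -/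
theorem exists_sylow_ge (S : Setup M Ms H K U Ks x) {T : Subgroup G} (hT : IsPGroup (Nat.card K) T)
    (hTle : T ≤ sigmaCore Ms) :
    ∃ Q : Sylow (Nat.card K) ↥(sigmaCore Ms),
      T ≤ (Q : Subgroup ↥(sigmaCore Ms)).map (sigmaCore Ms).subtype := by
  have : Fact (Nat.card K).Prime := ⟨S.hKp⟩
  have hT' : IsPGroup (Nat.card K) ↥(T.subgroupOf (sigmaCore Ms)) :=
    hT.comap_of_injective _ (Subgroup.subtype_injective _)
  obtain ⟨Q, hQ⟩ := hT'.exists_le_sylow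
  refine ⟨Q, ?_⟩
  intro t ht
  exact ⟨⟨t, hTle ht⟩, hQ (by rw [mem_subgroupOf]; exact ht), rfl⟩

/-- `q = |K| ∉ τ₂(H)` -/
theorem q_not_tau2 (hG : IsMinSimpleOddOrder G) (S : Setup M Ms H K U Ks x) :
    Nat.card K ∉ tau2 H := by
  intro hτ
  have : Fact (Nat.card K).Prime := ⟨S.hKp⟩
  obtain ⟨A, hAE, hAe, hA2, hAσ, a, haA, ha1, hCa⟩ := S.tau2_data hG hτ
  by_cases hab : ∀ P : Sylow (Nat.card K) G, ¬ IsMulCommutative (P : Subgroup G)
  · obtain ⟨-, ⟨hc, -⟩, -⟩ := Cfsg.Agent.S1419.result hG H S.hH (H ⊓ Ms) S.hE (Nat.card K) hτ hab A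
      ⟨hAE, hAe, hA2⟩
    have hne : A ⊓ centralizer ((sigmaCore H : Subgroup G) : Set G) ≠ ⊥ := by
      intro h
      rw [h, Subgroup.card_bot] at hc
      exact S.hKp.one_lt.ne hc
    obtain ⟨e, he1⟩ := (Subgroup.ne_bot_iff_exists_ne_one).mp hne
    apply he1
    apply Subtype.ext
    exact S.cent_E_eq_one (hAE e.2.1) e.2.2
  · push Not at hab
    obtain ⟨P₀, hP₀⟩ := hab
    obtain ⟨Q, hQ⟩ := S.exists_sylow_ge (isPGroup_of_elemAb hAe) hAσ
    apply S.sylow_not_le Q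
    have hQp : IsPGroup (Nat.card K) ↥((Q : Subgroup ↥(sigmaCore Ms)).map (sigmaCore Ms).subtype) :=
      Q.isPGroup'.map _
    obtain ⟨P₁, hP₁⟩ := hQp.exists_le_sylow
    have hP₁c := Cfsg.Agent.Lib.Helper47_BG1211d.sylow_comm_all P₀ hP₀ P₁
    intro t ht
    apply hCa
    rw [Subgroup.mem_centralizer_iff]
    intro y hy
    rw [Set.mem_singleton_iff] at hy
    rw [hy]
    have h1 := hP₁c.is_comm.comm ⟨a, hP₁ (hQ haA)⟩ ⟨t, hP₁ ht⟩
    exact congrArg Subtype.val h1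

/-- `H` has `q`-rank one, `q = |K|` -/
theorem rank_q (hG : IsMinSimpleOddOrder G) (S : Setup M Ms H K U Ks x) :
    PRankLE (Nat.card K) 1 ↥H := by
  have hU := Cfsg.Agent.Lib.Helper49_SigmaDisjoint.uniqHyp hG
  have hqσ : Nat.card K ∉ sigma H := by
    intro h
    exact Cfsg.Agent.Lib.Helper62_BG137.not_dvd_card_compl hG S.hH S.hE S.hKp h
      (Subgroup.card_dvd_of_le S.K_le_E)
  by_contra h1
  exact S.q_not_tau2 hG
    ⟨S.hKp, hqσ, Cfsg.Agent.Lib.Helper23_SigmaHall.pRankLE_of_not_mem_sigma hG hU S.hH S.hKp hqσ, h1⟩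

/-- `C₁ = C_{M*_σ}(K)` is nilpotent -/
theorem nilpotent_C1 (S : Setup M Ms H K U Ks x) :
    Group.IsNilpotent ↥(sigmaCore Ms ⊓ centralizer (K : Set G)) := by
  obtain ⟨z, hz1⟩ := (Subgroup.ne_bot_iff_exists_ne_one).mp S.hKs1
  have hz1' : (z : G) ≠ 1 := fun h => hz1 (Subtype.ext h)
  obtain ⟨r, hr, y, hyz, hyr⟩ := exists_prime_order_mem_zpowers hz1'
  have hyKs : y ∈ Ks := (Subgroup.zpowers_le.mpr z.2) hyz
  have hy1 : y ≠ 1 := by
    intro h
    rw [h, orderOf_one] at hyr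
    exact hr.one_lt.ne hyr
  have hyK : ∀ k ∈ K, y * k = k * y := by
    intro k hk
    have hk' : k ∈ centralizer (Ks : Set G) := (le_of_eq_of_le S.hKeq inf_le_right) hk
    exact Subgroup.mem_centralizer_iff.mp hk' y hyKs
  apply nilpotent_of_fixed_central (sigmaCore Ms ⊓ centralizer (K : Set G)) K y hr hyr
  · intro k hk c hc
    exact Subgroup.mem_centralizer_iff.mp hc.2 k hk
  · intro c hc
    refine ⟨conj_mem_of_mem_normalizer (le_normalizer_sigmaCore' Ms (S.hKsH.1 hyKs)) hc.1,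
      Subgroup.mem_centralizer_iff.mpr ?_⟩
    intro k hk
    have h1 : k * c = c * k := Subgroup.mem_centralizer_iff.mp hc.2 k hk
    have h2 := hyK k hk
    have h3 : k * y⁻¹ = y⁻¹ * k := by
      have : Commute y k := h2
      exact (this.inv_left.eq).symm
    calc k * (y * c * y⁻¹) = (k * y) * c * y⁻¹ := by group
      _ = (y * k) * c * y⁻¹ := by rw [h2]
      _ = y * (k * c) * y⁻¹ := by group
      _ = y * (c * k) * y⁻¹ := by rw [h1]
      _ = y * c * (k * y⁻¹) := by group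
      _ = y * c * (y⁻¹ * k) := by rw [h3]
      _ = y * c * y⁻¹ * k := by group
  · exact hyK
  · intro c hc hyc
    have : c ∈ sigmaCore Ms ⊓ centralizer ({y} : Set G) := by
      refine ⟨hc.1, Subgroup.mem_centralizer_iff.mpr ?_⟩
      intro t ht
      rw [Set.mem_singleton_iff] at ht
      rw [ht]; exact hyc
    rw [S.hprime y hyKs hy1] at this
    exact this
  · -- `q ∈ σ(M*)`, `r ∈ κ(M*)`
    rw [Nat.coprime_primes S.hKp hr]
    intro hqr
    have hqσ : Nat.card K ∈ sigma Ms :=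
      mem_sigma_of_dvd_card_le_sigmaCore S.K_le_sigmaCore S.hKp dvd_rfl
    have hrκ : r ∈ kappa Ms := by
      apply S.hKsH.2.1 r hr
      have h1 : orderOf (⟨y, hyKs⟩ : ↥Ks) = orderOf y := Subgroup.orderOf_mk y hyKs
      rw [← hyr, ← h1]
      exact orderOf_dvd_natCard _
    rw [← hqr] at hrκ
    exact hrκ.2.2.1 hqσ

/-- `τ₂(H) = ∅` -/
theorem tau2_empty (hG : IsMinSimpleOddOrder G) (S : Setup M Ms H K U Ks x) (p : ℕ) :
    p ∉ tau2 H := by
  intro hτ
  have hpp : p.Prime := hτ.1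
  have : Fact p.Prime := ⟨hpp⟩
  have : Fact (Nat.card K).Prime := ⟨S.hKp⟩
  by_cases hpq : p = Nat.card K
  · rw [hpq] at hτ
    exact S.q_not_tau2 hG hτ
  obtain ⟨A, hAE, hAe, hA2, hAσ, a, haA, ha1, hCa⟩ := S.tau2_data hG hτ
  have hC₁ := S.nilpotent_C1
  have haC₁ : a ∈ sigmaCore Ms ⊓ centralizer (K : Set G) := by
    refine ⟨hAσ haA, Subgroup.mem_centralizer_iff.mpr ?_⟩
    intro k hk
    exact S.E_comm hG k (S.K_le_E hk) a (hAE haA)
  have hKq : IsPGroup (Nat.card K) ↥K := IsPGroup.of_card (n := 1) (by rw [pow_one])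
  obtain ⟨Q, hQ⟩ := S.exists_sylow_ge hKq S.K_le_sigmaCore
  apply S.sylow_not_le Q
  set Qm := (Q : Subgroup ↥(sigmaCore Ms)).map (sigmaCore Ms).subtype with hQm
  have hQmp : IsPGroup (Nat.card K) ↥Qm := Q.isPGroup'.map _
  have hQmle : Qm ≤ sigmaCore Ms := Subgroup.map_subtype_le _
  have hQH : Qm ⊓ centralizer (K : Set G) ≤ H := by
    intro t ht
    apply hCa
    rw [Subgroup.mem_centralizer_iff]
    intro y hy
    rw [Set.mem_singleton_iff] at hy
    rw [hy]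
    obtain ⟨k, hk⟩ := hQmp ⟨t, ht.1⟩
    have hk' : t ^ (Nat.card K) ^ k = 1 := by
      have := congrArg Subtype.val hk
      simpa using this
    have hcop : p.Coprime ((Nat.card K) ^ k) :=
      Nat.Coprime.pow_right _ ((Nat.coprime_primes hpp S.hKp).mpr hpq)
    exact Cfsg.Agent.Lib.Helper25_CNSolv.commute_in_nilpotent _ hC₁ a t haC₁ ⟨hQmle ht.1, ht.2⟩
      p ((Nat.card K) ^ k) (hAe.2 a haA) hk' hcop
  have hle := le_centralizer_of_rank_one S.hKp hQmp hQ rfl hQH (S.rank_q hG)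
  exact (le_inf le_rfl hle).trans hQH

/-- the primes dividing `|E|` are not in `σ(H)` and have rank one in `H` -/
theorem rank_one_of_dvd (hG : IsMinSimpleOddOrder G) (S : Setup M Ms H K U Ks x) {p : ℕ}
    (hp : p.Prime) (hd : p ∣ Nat.card ↥(H ⊓ Ms)) : p ∉ sigma H ∧ PRankLE p 1 ↥H := by
  have hU := Cfsg.Agent.Lib.Helper49_SigmaDisjoint.uniqHyp hG
  rcases Cfsg.Agent.Lib.Helper97_BG1211f.mem_tau_of_dvd_card hG hU S.hH S.hE hp hd with (h | h) | h
  · exact ⟨h.2.1, h.2.2.2.2⟩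
  · exact ⟨h.2.1, h.2.2.2⟩
  · exact absurd h (S.tau2_empty hG p)

/-- `E` acts semiregularly on `H_σ` -/
theorem semiregular (hG : IsMinSimpleOddOrder G) (S : Setup M Ms H K U Ks x) :
    ∀ e ∈ H ⊓ Ms, e ≠ 1 → ∀ w ∈ sigmaCore H, e * w = w * e → w = 1 := by
  intro e he he1 w hw hew
  by_contra hw1
  have ho1 : orderOf e ≠ 1 := fun h => he1 (orderOf_eq_one_iff.mp h)
  obtain ⟨p, hp, hpe⟩ := Nat.exists_prime_and_dvd ho1
  have : Fact p.Prime := ⟨hp⟩
  have hd : p ∣ Nat.card ↥(H ⊓ Ms) := by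
    have h1 : orderOf (⟨e, he⟩ : ↥(H ⊓ Ms)) = orderOf e := Subgroup.orderOf_mk e he
    exact hpe.trans (h1 ▸ orderOf_dvd_natCard _)
  obtain ⟨hps, hr1⟩ := S.rank_one_of_dvd hG hp hd
  have := Cfsg.Agent.Lib.Helper53_BG16b.mem_kappa_of_centralizing hG hps hr1 he.1 hpe hw hw1 hew
  rw [S.hκ] at this
  exact this

/-- `E` is cyclic -/
theorem isCyclic_E (hG : IsMinSimpleOddOrder G) (S : Setup M Ms H K U Ks x) :
    IsCyclic ↥(H ⊓ Ms) := by
  have hc : IsMulCommutative ↥(H ⊓ Ms) :=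
    ⟨⟨fun a b => Subtype.ext (S.E_comm hG a.1 a.2 b.1 b.2)⟩⟩
  have hnil : Group.IsNilpotent ↥(H ⊓ Ms) :=
    ⟨1, Subgroup.upperCentralSeries_one_eq_top_iff.mpr hc⟩
  have hZ : IsZGroup ↥(H ⊓ Ms) := by
    refine ⟨fun p hp P => ?_⟩
    have : Fact p.Prime := ⟨hp⟩
    by_cases hd : p ∣ Nat.card ↥(H ⊓ Ms)
    · obtain ⟨-, hr1⟩ := S.rank_one_of_dvd hG hp hd
      have hp2 : p ≠ 2 := by
        rintro rfl
        have : Odd (Nat.card ↥(H ⊓ Ms)) := Odd.of_dvd_nat hG.1 (Subgroup.card_subgroup_dvd_card _)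
        exact (Nat.not_even_iff_odd.mpr this) (even_iff_two_dvd.mpr hd)
      have hr : PRankLE p 1 ↥(P : Subgroup ↥(H ⊓ Ms)) := by
        apply Cfsg.Agent.Lib.Helper2_PRank.pRankLE_of_injective' p 1
          ((Subgroup.inclusion (inf_le_left : H ⊓ Ms ≤ H)).comp (P : Subgroup ↥(H ⊓ Ms)).subtype) ?_ hr1
        exact (Subgroup.inclusion_injective (inf_le_left : H ⊓ Ms ≤ H)).comp
          (Subgroup.subtype_injective _)
      exact Cfsg.Agent.Lib.Helper29_BG12a.isCyclic_of_pRankLE_one hp2 P.isPGroup' hr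
    · have h1 : Nat.card ↥(P : Subgroup ↥(H ⊓ Ms)) = 1 := by
        rcases P.isPGroup'.card_eq_or_dvd with h | h
        · exact h
        · exact absurd (h.trans (Subgroup.card_subgroup_dvd_card _)) hd
      have : Subsingleton ↥(P : Subgroup ↥(H ⊓ Ms)) := (Nat.card_eq_one_iff_unique.mp h1).1
      exact isCyclic_of_subsingleton
  infer_instance

end Setup

end Cfsg.Agent.Lib.Helper62_BG159
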