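import Mathlib
import Cfsg.Agent.Lib.Helper62_BG159c
import Cfsg.Agent.Lib.Helper4_BGConj
import Cfsg.Agent.Lib.Helper22_Uniq5
import Cfsg.Agent.Lib.Helper29_BG144c
import Cfsg.Prelude.Def_OddOrderLocal
import Cfsg.Prelude.Def_Solvable

/-!
# B-G Corollary 15.9 (S1376): reduction to the core configuration

`main` proves the statement of S1376 from the statements of S1351, S1352, S1353, S1354, S1363,
S1366, S1367, S1372, S1375, S1378, S1430, S1431, S1435 (bundled in `Hyps G`).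
-/

set_option autoImplicit false
set_option linter.unusedSectionVars false
set_option linter.unusedVariables false

namespace Cfsg.Agent.Lib.Helper62_BG159

open scoped commutatorElement Pointwise
open Subgroup Cfsg Cfsg.Agent.Lib.Helper76_BG13a Cfsg.Agent.Lib.Helper76_BG13b
  Cfsg.Agent.Lib.Helper76_BG13c Cfsg.Agent.Lib.Helper84_RelSylow Cfsg.Agent.Lib.Helper11_BGTypes

universe u

variable {G : Type u} [Group G] [Finite G]

/-- transport of a malnormal cyclic subgroup of `H` to a Frobenius complement of a conjugate of `H` -/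
theorem exists_frobeniusComplement {H E M : Subgroup G} (g : G)
    (hM : M = H.map (MulAut.conj g).toMonoidHom) (hEH : E ≤ H) (hE1 : E ≠ ⊥) (hHE : ¬ H ≤ E)
    (hcyc : IsCyclic ↥E)
    (hmal : ∀ h ∈ H, h ∉ E → E ⊓ E.map (MulAut.conj h).toMonoidHom = ⊥) :
    ∃ E' : Subgroup ↥M, IsFrobeniusComplement E' ∧ IsCyclic ↥E' := by
  subst hM
  set φ : G →* G := (MulAut.conj g).toMonoidHom with hφ
  have hinj : Function.Injective φ := (MulAut.conj g).injective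
  have hE₂ : E.map φ ≤ H.map φ := Subgroup.map_mono hEH
  refine ⟨(E.map φ).subgroupOf (H.map φ), ⟨?_, ?_, ?_⟩, ?_⟩
  · intro h
    rw [Subgroup.subgroupOf_eq_bot, disjoint_iff, inf_eq_left.mpr hE₂] at h
    exact hE1 ((Subgroup.map_eq_bot_iff_of_injective E hinj).mp h)
  · intro h
    rw [Subgroup.subgroupOf_eq_top] at h
    exact hHE ((Subgroup.map_le_map_iff_of_injective hinj).mp h)
  · intro m hm
    rw [eq_bot_iff]
    intro z hz
    rw [mem_bot]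
    obtain ⟨hz1, hz2⟩ := hz
    have hz2 : z ∈ MulAut.conj m • (E.map φ).subgroupOf (H.map φ) := hz2
    have hz1 : z ∈ (E.map φ).subgroupOf (H.map φ) := hz1
    rw [Subgroup.mem_pointwise_smul_iff_inv_smul_mem] at hz2
    rw [mem_subgroupOf] at hz1 hz2 hm
    obtain ⟨e₁, he₁, he₁z⟩ := hz1
    obtain ⟨e₂, he₂, he₂z⟩ := hz2
    obtain ⟨h, hh, hhm⟩ := m.2
    have hhE : h ∉ E := by
      intro hhE
      apply hm
      rw [← hhm]
      exact Subgroup.mem_map_of_mem φ hhE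
    have h1 : (((MulAut.conj m)⁻¹ • z : ↥(H.map φ)) : G) = (m : G)⁻¹ * (z : G) * (m : G) := by
      simp [MulAut.smul_def]
    rw [h1, ← hhm, ← he₁z, ← map_inv, ← map_mul, ← map_mul] at he₂z
    have h2 : e₂ = h⁻¹ * e₁ * h := hinj he₂z
    have h3 : e₁ ∈ E ⊓ E.map (MulAut.conj h).toMonoidHom := by
      refine ⟨he₁, e₂, he₂, ?_⟩
      show h * e₂ * h⁻¹ = e₁
      rw [h2]; group
    rw [hmal h hh hhE, mem_bot] at h3
    apply Subtype.ext
    rw [← he₁z, h3, map_one]; rfl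
  · have e1 : ↥((E.map φ).subgroupOf (H.map φ)) ≃* ↥(E.map φ) := Subgroup.subgroupOfEquivOfLe hE₂
    have e2 : ↥E ≃* ↥(E.map φ) := E.equivMapOfInjective φ hinj
    have := hcyc
    exact isCyclic_of_surjective (e2.trans e1.symm) (e2.trans e1.symm).surjective

/-- a `σ(N)'`-element of `U₀ N_σ` lies in `U` for a suitable standard factorisation `N = K U N_σ` -/
theorem exists_decomposition_mem (hG : IsMinSimpleOddOrder G) {N K₀ U₀ : Subgroup G} (hN : IsCoatom N)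
    (hKU : IsSigmaDecomposition N K₀ U₀) (hK₀ : K₀ ≠ ⊥) {x : G} (hx : x ∈ U₀ ⊔ sigmaCore N)
    (hxσ : ∀ q : ℕ, q.Prime → q ∣ Nat.card ↥(zpowers x) → q ∉ sigma N) :
    ∃ K U : Subgroup G, IsSigmaDecomposition N K U ∧ K ≠ ⊥ ∧ x ∈ U := by
  have hUN : U₀ ⊔ sigmaCore N ≤ N := sup_le (sd_U_le hKU) (sigmaCore_le N)
  have hsolv : Group.IsSolvable ↥(U₀ ⊔ sigmaCore N) := isSolvable_of_le hG hN hUN
  have hσH := sigma_hall hG hN
  have hHall : IsPiHallOf (sigma N) (sigmaCore N) (U₀ ⊔ sigmaCore N) := by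
    refine ⟨le_sup_right, hσH.2.1, ?_⟩
    intro p hp hpσ hd
    apply hσH.2.2 p hp hpσ
    rw [← Subgroup.relIndex_mul_relIndex (sigmaCore N) (U₀ ⊔ sigmaCore N) N le_sup_right hUN]
    exact hd.mul_right _
  have hcompl : IsComplIn U₀ (sigmaCore N) (U₀ ⊔ sigmaCore N) := by
    refine ⟨le_sup_left, le_sup_right, ?_, ?_⟩
    · rw [eq_bot_iff, ← hKU.compl.2.2.1]
      exact inf_le_inf_left _ le_sup_right
    · intro m hm
      exact (mem_sup_of_le_normalizer (sd_U_normalizes hKU)).mp hm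
  obtain ⟨g, hg, hgU⟩ := exists_cj_le_compl hsolv hHall hcompl ((Subgroup.zpowers_le).2 hx) hxσ
  have hgN : g⁻¹ ∈ normalizer (N : Set G) := Subgroup.le_normalizer (N.inv_mem (hUN hg))
  have hdec := Cfsg.Agent.Lib.Helper4_BGConj.isSigmaDecomposition_mp (e := MulAut.conj g⁻¹) hKU
  have hNN : Cfsg.Agent.Lib.Helper4_BGConj.mp (MulAut.conj g⁻¹) N = N :=
    Cfsg.Agent.Lib.Helper22_Radical.cj_eq_of_mem_normalizer hgN
  rw [hNN] at hdec
  refine ⟨_, _, hdec, Cfsg.Agent.Lib.Helper22_BGTrans.cj_ne_bot hK₀, ?_⟩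
  rw [Cfsg.Agent.Lib.Helper4_BGConj.mem_conj, inv_inv]
  apply hgU
  exact ⟨x, mem_zpowers x, rfl⟩

/-- `M_F` is not a TI-subset as soon as some element outside `M` centralizes a non-identity element
of `M_F` -/
theorem not_isTISubset (hG : IsMinSimpleOddOrder G) {M : Subgroup G} (hM : IsCoatom M) {x y : G}
    (hx : x ∈ fittingHallOf M) (hx1 : x ≠ 1) (hy : y ∉ M) (hxy : y * x = x * y) :
    ¬ IsTISubset (fittingHallOf M : Set G) := by
  intro hTI
  have hF1 : fittingHallOf M ≠ ⊥ := by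
    intro h
    rw [h, mem_bot] at hx
    exact hx1 hx
  have hFtop : fittingHallOf M ≠ ⊤ := by
    intro h
    have : M = ⊤ := top_le_iff.mp (h ▸ fittingHallOf_le M)
    exact hM.1 this
  have hN : normalizer (fittingHallOf M : Set G) = M := by
    rcases hM.le_iff.mp (le_normalizer_fittingHallOf M) with h | h
    · exact absurd h (Cfsg.Agent.Lib.Helper22_BGTrans.normalizer_ne_top hG hF1 hFtop)
    · exact h
  apply hx1
  apply hTI y (by rw [hN]; exact hy) x hx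
  have : y * x * y⁻¹ = x := by rw [hxy]; group
  rw [this]; exact hx

/-- The frozen statements used in the proof of S1376 (each field is the statement of the row
of the same number, for the fixed group `G`). -/
structure Hyps (G : Type u) [Group G] [Finite G] : Prop where
  h1351 : ∀ (M : Subgroup G) (hM : IsCoatom M),
    (∃ K : Subgroup G, Cfsg.IsPiHallOf (Cfsg.kappa M) K M) ∧
      ∀ K : Subgroup G, Cfsg.IsPiHallOf (Cfsg.kappa M) K M → IsCyclic K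
  h1352 : ∀ (M : Subgroup G) (hM : IsCoatom M) (K : Subgroup G)
    (hKc : IsCyclic K) (hK : Cfsg.IsPiHallOf (Cfsg.kappa M) K M),
    (∃ U : Subgroup G, Cfsg.IsSigmaDecomposition M K U) ∧
      ∀ U : Subgroup G, Cfsg.IsSigmaDecomposition M K U → M ≤ Subgroup.normalizer ((U ⊔ Cfsg.sigmaCore M : Subgroup G) : Set G)
  h1353 : ∀ (M : Subgroup G) (hM : IsCoatom M) (K U : Subgroup G) (hKU : Cfsg.IsSigmaDecomposition M K U),
    ∀ k ∈ K, k ≠ 1 → U ⊓ Subgroup.centralizer ({k} : Set G) = ⊥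
  h1354 : ∀ (M : Subgroup G) (hM : IsCoatom M) (K : Subgroup G)
    (hKc : IsCyclic K) (hK : Cfsg.IsPiHallOf (Cfsg.kappa M) K M),
    Cfsg.sigmaCore M ⊓ Subgroup.centralizer (K : Set G) ≠ ⊥ ∧
      (K ≠ ⊥ → ∀ k ∈ K, k ≠ 1 →
        M ⊓ Subgroup.centralizer ({k} : Set G) = K ⊔ (Cfsg.sigmaCore M ⊓ Subgroup.centralizer (K : Set G)))
  h1363 : ∀ (M : Subgroup G) (hM : IsCoatom M) (K U : Subgroup G) (hKU : Cfsg.IsSigmaDecomposition M K U) (hK1 : K ≠ ⊥),
    IsMulCommutative U ∧ ¬ Subgroup.normalizer (U : Set G) ≤ M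
  h1366 : ∀ (M : Subgroup G) (hM : IsCoatom M) (K U : Subgroup G) (hKU : Cfsg.IsSigmaDecomposition M K U) (hK1 : K ≠ ⊥),
    ∃! Mstar : Subgroup G, IsCoatom Mstar ∧ K = Cfsg.sigmaCore Mstar ⊓ Subgroup.centralizer ((Cfsg.sigmaCore M ⊓ Subgroup.centralizer (K : Set G)) : Set G) ∧
        Cfsg.IsPiHallOf (Cfsg.kappa Mstar) (Cfsg.sigmaCore M ⊓ Subgroup.centralizer (K : Set G)) Mstar
  h1367 : ∀ (M : Subgroup G) (hM : IsCoatom M) (K U : Subgroup G) (hKU : Cfsg.IsSigmaDecomposition M K U) (hK1 : K ≠ ⊥) (Mstar : Subgroup G) (hMstar : IsCoatom Mstar)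
    (hKst : K = Cfsg.sigmaCore Mstar ⊓ Subgroup.centralizer ((Cfsg.sigmaCore M ⊓ Subgroup.centralizer (K : Set G)) : Set G))
    (hKstH : Cfsg.IsPiHallOf (Cfsg.kappa Mstar) (Cfsg.sigmaCore M ⊓ Subgroup.centralizer (K : Set G)) Mstar),
    (∀ X : Subgroup G, X ≤ (Cfsg.sigmaCore M ⊓ Subgroup.centralizer (K : Set G)) → (Nat.card X).Prime →
        Subgroup.centralizer (X : Set G) ≤ M ∧ ∀ L : Subgroup G, IsCoatom L → Subgroup.centralizer (X : Set G) ≤ L → L = M) ∧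
      (∀ Y : Subgroup G, Y ≤ K → (Nat.card Y).Prime →
        Subgroup.centralizer (Y : Set G) ≤ Mstar ∧ ∀ L : Subgroup G, IsCoatom L → Subgroup.centralizer (Y : Set G) ≤ L → L = Mstar)
  h1372 : ∀ (M : Subgroup G) (hM : IsCoatom M) (K U : Subgroup G) (hKU : Cfsg.IsSigmaDecomposition M K U) (hK1 : K ≠ ⊥) (hU1 : U ≠ ⊥),
    (Nat.card K).Prime ∧ Cfsg.IsTISubset (Cfsg.fittingOf M : Set G) ∧ Cfsg.sigmaCore M ≤ Cfsg.fittingOf M
  h1375 : ∀ (M : Subgroup G) (hM : IsCoatom M) (x : G) (hx : x ∈ Cfsg.sigmaCore M) (hx1 : x ≠ 1) (hxM : ¬ Subgroup.centralizer ({x} : Set G) ≤ M),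
    ∃ N : Subgroup G, (IsCoatom N ∧ Subgroup.centralizer ({x} : Set G) ≤ N) ∧ (∀ L : Subgroup G, IsCoatom L → Subgroup.centralizer ({x} : Set G) ≤ L → L = N) ∧
        Cfsg.sigmaCore N = Cfsg.fittingHallOf N ∧
        Subgroup.centralizer ({x} : Set G) ≤ Subgroup.normalizer ((Cfsg.sigmaCore N ⊓ Subgroup.centralizer ({x} : Set G) : Subgroup G) : Set G) ∧
        Cfsg.IsComplIn (M ⊓ Subgroup.centralizer ({x} : Set G)) (Cfsg.sigmaCore N ⊓ Subgroup.centralizer ({x} : Set G)) (Subgroup.centralizer ({x} : Set G)) ∧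
        Cfsg.IsComplIn (M ⊓ N) (Cfsg.sigmaCore N) N ∧
        ∀ K' U' : Subgroup G, Cfsg.IsSigmaDecomposition N K' U' → U' ≠ ⊥ ∧ x ∈ Cfsg.sigmaA N U' ∧ x ∉ Cfsg.sigmaCore N
  h1378 : (∀ p : ℕ, p.Prime → p ∣ Nat.card G → ∃ M : Subgroup G, IsCoatom M ∧ p ∈ Cfsg.sigma M) ∧
      ∀ M N : Subgroup G, IsCoatom M → IsCoatom N → (Cfsg.sigma M ∩ Cfsg.sigma N).Nonempty → ∃ g : G, N = M.map (MulAut.conj g).toMonoidHom
  h1430 : ∀ (M : Subgroup G) (hM : IsCoatom M) (K : Subgroup G) (hK : Cfsg.IsPiHallOf (Cfsg.kappa M) K M) (hK1 : K ≠ ⊥),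
    (∀ k ∈ K, k ≠ 1 → Cfsg.sigmaCore M ⊓ Subgroup.centralizer ({k} : Set G) = (Cfsg.sigmaCore M ⊓ Subgroup.centralizer (K : Set G))) ∧
      (∃ U : Subgroup G, IsMulCommutative U ∧ Cfsg.IsPiHallOf {q | q.Prime ∧ q ∉ Cfsg.kappa M ∧ q ∉ Cfsg.sigma M} U M ∧
        K ≤ Subgroup.normalizer (U : Set G) ∧ ∀ k ∈ K, k ≠ 1 → U ⊓ Subgroup.centralizer ({k} : Set G) = ⊥) ∧
      ∀ X : Subgroup G, X ≤ K → (Nat.card X).Prime →
        M ⊓ Subgroup.normalizer (X : Set G) = K ⊔ (Cfsg.sigmaCore M ⊓ Subgroup.centralizer (K : Set G)) ∧ M ⊓ Subgroup.normalizer (K : Set G) = K ⊔ (Cfsg.sigmaCore M ⊓ Subgroup.centralizer (K : Set G)) ∧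
        ∀ Mstar : Subgroup G, IsCoatom Mstar → Subgroup.normalizer (X : Set G) ≤ Mstar → X ≤ Cfsg.sigmaCore Mstar
  h1431 : ∀ (M : Subgroup G) (hM : IsCoatom M) (K : Subgroup G) (hK : Cfsg.IsPiHallOf (Cfsg.kappa M) K M) (hK1 : K ≠ ⊥),
    (∀ g : G, g ∉ M → (Cfsg.sigmaCore M ⊓ Subgroup.centralizer (K : Set G)) ⊓ M.map (MulAut.conj g).toMonoidHom = ⊥) ∧
      (∀ g ∈ M, g ∉ K ⊔ (Cfsg.sigmaCore M ⊓ Subgroup.centralizer (K : Set G)) → K ⊓ K.map (MulAut.conj g).toMonoidHom = ⊥) ∧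
      (∀ (p : ℕ), p.Prime → p ∣ Nat.card ↥(Cfsg.sigmaCore M ⊓ Subgroup.centralizer (K : Set G)) → ∀ S : Sylow p ↥(Cfsg.sigmaCore M),
        Cfsg.InUniqueMaximal ((S : Subgroup ↥(Cfsg.sigmaCore M)).map (Cfsg.sigmaCore M).subtype) ∧
        (S : Subgroup ↥(Cfsg.sigmaCore M)).map (Cfsg.sigmaCore M).subtype ≤ M ∧
        ¬ (S : Subgroup ↥(Cfsg.sigmaCore M)).map (Cfsg.sigmaCore M).subtype ≤ (Cfsg.sigmaCore M ⊓ Subgroup.centralizer (K : Set G))) ∧
      ∀ Y : Subgroup G, (∀ p : ℕ, p.Prime → p ∣ Nat.card Y → p ∈ Cfsg.sigma M) → Y ⊓ (Cfsg.sigmaCore M ⊓ Subgroup.centralizer (K : Set G)) ≠ ⊥ → Y ≤ Cfsg.sigmaCore M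
  h1435 : ∀ (M : Subgroup G) (hM : IsCoatom M) (K U : Subgroup G) (hKU : Cfsg.IsSigmaDecomposition M K U) (hK1 : K ≠ ⊥) (hU1 : U ≠ ⊥) (Mstar : Subgroup G) (hMstar : IsCoatom Mstar)
    (hKst : K = Cfsg.sigmaCore Mstar ⊓ Subgroup.centralizer ((Cfsg.sigmaCore M ⊓ Subgroup.centralizer (K : Set G)) : Set G))
    (hKstH : Cfsg.IsPiHallOf (Cfsg.kappa Mstar) (Cfsg.sigmaCore M ⊓ Subgroup.centralizer (K : Set G)) Mstar)
    (r : ℕ) [Fact r.Prime] (hr : r ∣ Nat.card U) (R : Sylow r U) (H : Subgroup G) (hH : IsCoatom H)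
    (hNR : Subgroup.normalizer (((R : Subgroup U).map U.subtype : Subgroup G) : Set G) ≤ H),
    Cfsg.kappa H = ∅ ∧ U ≤ Cfsg.sigmaCore H ∧ M ⊓ H = U ⊔ K ∧ ¬ H ⊓ Subgroup.normalizer (U : Set G) ≤ M ∧
      K ≤ Cfsg.fittingOf (H ⊓ Mstar) ∧ Cfsg.IsComplIn (H ⊓ Mstar) (Cfsg.sigmaCore H) H

/-- **B-G Corollary 15.9** (statement S1376) from the frozen statements in `Hyps G`. -/
theorem main (hG : IsMinSimpleOddOrder G) (hyp : Hyps G)
    (M : Subgroup G) (hM : IsCoatom M) (x : G) (hx : x ∈ sigmaCore M) (hx1 : x ≠ 1)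
    (hxM : ¬ centralizer ({x} : Set G) ≤ M)
    (N : Subgroup G) (hN : IsCoatom N) (hxN : centralizer ({x} : Set G) ≤ N)
    (hkN : (kappa N).Nonempty) :
    kappa M = ∅ ∧ (∃ E : Subgroup ↥M, IsFrobeniusComplement E ∧ IsCyclic E) ∧
      ¬ IsTISubset (fittingHallOf M : Set G) := by
  obtain ⟨N', ⟨-, -⟩, huniq, -, -, hcompl1, hcompl2, hdec⟩ := hyp.h1375 M hM x hx hx1 hxM
  have hNN' : N = N' := huniq N hN hxN
  subst hNN'
  -- a standard factorisation of `N`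
  obtain ⟨⟨K₀, hK₀⟩, hcyc₀⟩ := hyp.h1351 N hN
  obtain ⟨⟨U₀, hKU₀⟩, -⟩ := hyp.h1352 N hN K₀ (hcyc₀ K₀ hK₀) hK₀
  have hK₀1 : K₀ ≠ ⊥ := by
    intro h
    obtain ⟨p, hp⟩ := hkN
    apply hK₀.2.2 p hp.1 hp
    rw [h, Subgroup.relIndex_bot_left]
    exact hp.2.1
  obtain ⟨-, hxA, -⟩ := hdec K₀ U₀ hKU₀
  have hxUσ : x ∈ U₀ ⊔ sigmaCore N := hxA.2
  have hxMN : x ∈ M ⊓ N :=
    ⟨sigmaCore_le M hx, hxN (Subgroup.mem_centralizer_iff.mpr (fun y hy => by
      rw [Set.mem_singleton_iff] at hy; rw [hy]))⟩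
  have hπ := piHall_of_isComplIn (sigma_hall hG hN) hcompl2
  have hxσ : ∀ q : ℕ, q.Prime → q ∣ Nat.card ↥(zpowers x) → q ∉ sigma N := fun q hq hd =>
    hπ.2.1 q hq (hd.trans (Subgroup.card_dvd_of_le ((Subgroup.zpowers_le).2 hxMN)))
  obtain ⟨K, U, hKU, hK1, hxU⟩ := exists_decomposition_mem hG hN hKU₀ hK₀1 hxUσ hxσ
  have hU1 : U ≠ ⊥ := by
    intro h
    rw [h, mem_bot] at hxU
    exact hx1 hxU
  obtain ⟨hKp, -, -⟩ := hyp.h1372 N hN K U hKU hK1 hU1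
  obtain ⟨hUab, -⟩ := hyp.h1363 N hN K U hKU hK1
  have hUK := hyp.h1353 N hN K U hKU
  obtain ⟨Ms, ⟨hMs, hKst, hKstH⟩, -⟩ := hyp.h1366 N hN K U hKU hK1
  obtain ⟨hKs1, -⟩ := hyp.h1354 N hN K hKU.cyclic hKU.hall
  obtain ⟨-, h67⟩ := hyp.h1367 N hN K U hKU hK1 Ms hMs hKst hKstH
  have hCK : centralizer (K : Set G) ≤ Ms := (h67 K le_rfl hKp).1
  obtain ⟨h30, -, -⟩ := hyp.h1430 Ms hMs _ hKstH hKs1
  obtain ⟨-, -, h31, -⟩ := hyp.h1431 Ms hMs _ hKstH hKs1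
  have hKst' : K = sigmaCore Ms ⊓
      centralizer ((sigmaCore N ⊓ centralizer (K : Set G) : Subgroup G) : Set G) := hKst
  -- reduction to an element of prime order
  have ho1 : orderOf x ≠ 1 := fun h => hx1 (orderOf_eq_one_iff.mp h)
  obtain ⟨r, hr, hrx⟩ := Nat.exists_prime_and_dvd ho1
  have : Fact r.Prime := ⟨hr⟩
  set x' := x ^ (orderOf x / r) with hx'
  have hox' : orderOf x' = r := orderOf_pow_orderOf_div (orderOf_pos x).ne' hrx
  have hx'U : x' ∈ U := U.pow_mem hxU _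
  have hCC : centralizer ({x} : Set G) ≤ centralizer ({x'} : Set G) := by
    intro c hc
    rw [Subgroup.mem_centralizer_iff] at hc ⊢
    intro y hy
    rw [Set.mem_singleton_iff] at hy
    rw [hy]
    have h1 : Commute x c := hc x rfl
    exact (h1.pow_left _).eq
  have hZp : IsPGroup r ↥(zpowers x') :=
    IsPGroup.of_card (n := 1) (by rw [Nat.card_zpowers, hox', pow_one])
  have hZ1 : zpowers x' ≠ ⊥ := by
    intro h
    have h1 : Nat.card ↥(zpowers x') = r := by rw [Nat.card_zpowers, hox']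
    rw [h, Subgroup.card_bot] at h1
    exact hr.one_lt.ne h1
  have hCx'top : centralizer ({x'} : Set G) ≠ ⊤ := by
    intro h
    apply Cfsg.Agent.Lib.Helper22_BGTrans.normalizer_ne_top hG hZ1
      (Cfsg.Agent.Lib.Helper22_BGTrans.ne_top_of_isPGroup hG hr hZp)
    rw [eq_top_iff, ← h, ← Setup.centralizer_zpowers_eq]
    exact Subgroup.centralizer_le_normalizer (s := ((zpowers x' : Subgroup G) : Set G))
  obtain ⟨L, hL, hCL⟩ := Cfsg.Agent.Lib.Helper22_Uniq.exists_isCoatom_ge hCx'top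
  have hLN : L = N := huniq L hL (hCC.trans hCL)
  have hCx' : centralizer ({x'} : Set G) ≤ N := hLN ▸ hCL
  have huniq' : ∀ L : Subgroup G, IsCoatom L → centralizer ({x'} : Set G) ≤ L → L = N :=
    fun L hL h => huniq L hL (hCC.trans h)
  -- the maximal subgroup `H`
  have hrU : r ∣ Nat.card ↥U := by
    have h1 : orderOf (⟨x', hx'U⟩ : ↥U) = orderOf x' := Subgroup.orderOf_mk x' hx'U
    rw [← hox', ← h1]
    exact orderOf_dvd_natCard _
  let R : Sylow r ↥U := default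
  have hRm1 : (R : Subgroup ↥U).map U.subtype ≠ ⊥ := by
    intro h
    have h1 := (Subgroup.map_eq_bot_iff_of_injective _ U.subtype_injective).mp h
    exact R.ne_bot_of_dvd_card hrU h1
  have hRmtop : (R : Subgroup ↥U).map U.subtype ≠ ⊤ :=
    Cfsg.Agent.Lib.Helper22_BGTrans.ne_top_of_isPGroup hG hr (R.isPGroup'.map _)
  obtain ⟨H, hH, hNR⟩ := Cfsg.Agent.Lib.Helper22_Uniq.exists_isCoatom_ge
    (Cfsg.Agent.Lib.Helper22_BGTrans.normalizer_ne_top hG hRm1 hRmtop)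
  obtain ⟨hκ, hUH, hMH, -, -, hE⟩ :=
    hyp.h1435 N hN K U hKU hK1 hU1 Ms hMs hKst hKstH r hrU R H hH hNR
  have S : Setup N Ms H K U (sigmaCore N ⊓ centralizer (K : Set G)) x' :=
    { hM := hN
      hMs := hMs
      hH := hH
      hKU := hKU
      hKp := hKp
      hUab := fun a ha b hb => congrArg Subtype.val (hUab.is_comm.comm ⟨a, ha⟩ ⟨b, hb⟩)
      hUK := hUK
      hKs1 := hKs1
      hKsH := hKstH
      hKeq := hKst'
      hprime := fun y hy hy1 => (h30 y hy hy1).trans hKst'.symm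
      hCK := hCK
      hsyl := fun Q => (h31 (Nat.card K) hKp
        (by rw [← hKst']) Q).1
      hκ := hκ
      hUH := hUH
      hMH := hMH
      hE := hE
      hxU := hx'U
      hxr := by rw [hox']; exact hr
      hCx := hCx'
      huniq := huniq' }
  have hsemi := S.semiregular hG
  have hcycE := S.isCyclic_E hG
  -- `H` is conjugate to `M`
  have hx'σ : x' ∈ sigmaCore M := (sigmaCore M).pow_mem hx _
  have hrH : r ∈ sigma H := by
    apply Cfsg.Agent.Lib.Helper49_SigmaDisjoint.mem_sigma_of_dvd_card_sigmaCore H hr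
    have h1 : orderOf (⟨x', S.x_mem⟩ : ↥(sigmaCore H)) = orderOf x' := Subgroup.orderOf_mk x' S.x_mem
    rw [← hox', ← h1]
    exact orderOf_dvd_natCard _
  have hrM : r ∈ sigma M := by
    apply Cfsg.Agent.Lib.Helper49_SigmaDisjoint.mem_sigma_of_dvd_card_sigmaCore M hr
    have h1 : orderOf (⟨x', hx'σ⟩ : ↥(sigmaCore M)) = orderOf x' := Subgroup.orderOf_mk x' hx'σ
    rw [← hox', ← h1]
    exact orderOf_dvd_natCard _
  obtain ⟨g, hg⟩ := hyp.h1378.2 H M hH hM ⟨r, hrH, hrM⟩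
  refine ⟨?_, ?_, ?_⟩
  · rw [hg, Cfsg.Agent.Lib.Helper4_BGConj.kappa_conj]
    exact hκ
  · refine exists_frobeniusComplement g hg inf_le_left ?_ ?_ hcycE ?_
    · intro h
      exact S.K_ne_bot (le_bot_iff.mp (h ▸ S.K_le_E))
    · intro h
      apply S.sigmaCore_ne_bot
      rw [eq_bot_iff, ← S.E_inf]
      exact le_inf ((sigmaCore_le H).trans h) le_rfl
    · intro h hh hhE
      exact inf_map_conj_eq_bot S.hE (le_normalizer_sigmaCore' H) hsemi hh hhE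
  · have hnilM : Group.IsNilpotent ↥(sigmaCore M) := by
      rw [hg, Cfsg.Agent.Lib.Helper4_BGConj.sigmaCore_conj]
      have := S.nilpotent
      exact Group.nilpotent_of_mulEquiv
        ((sigmaCore H).equivMapOfInjective _ (MulAut.conj g).injective)
    have hxF : x ∈ fittingHallOf M :=
      Cfsg.Agent.Lib.Helper29_BG144c.sigmaCore_le_fittingHallOf hnilM (sigma_hall hG hM) hx
    have hne : sigmaCore N ⊓ centralizer ({x} : Set G) ≠ ⊥ := by
      intro h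
      apply hxM
      intro c hc
      obtain ⟨a, ha, b, hb, rfl⟩ := hcompl1.2.2.2 c hc
      rw [h, mem_bot] at hb
      rw [hb, mul_one]
      exact ha.1
    obtain ⟨y, hy1⟩ := (Subgroup.ne_bot_iff_exists_ne_one).mp hne
    have hyM : (y : G) ∉ M := by
      intro hyM
      apply hy1
      apply Subtype.ext
      have h1 : (y : G) ∈ (M ⊓ N) ⊓ sigmaCore N := ⟨⟨hyM, sigmaCore_le N y.2.1⟩, y.2.1⟩
      rw [hcompl2.2.2.1, mem_bot] at h1
      exact h1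
    exact not_isTISubset hG hM hxF hx1 hyM (Subgroup.mem_centralizer_iff.mp y.2.2 x rfl).symm

end Cfsg.Agent.Lib.Helper62_BG159
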