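import Mathlib
import Cfsg.Agent.Lib.Helper10_ConjAction

set_option autoImplicit false
set_option linter.unusedSectionVars false
set_option linter.unusedVariables false

/-!
# Blocks `(W, E)` (a plane with a faithful `SL₂(p)`) under a coprime abelian operator group (helper62)

`cp x g n = ∏_{k<n} x^k g x^{-k}`.  If the conjugates of a block under `⟨x⟩` commute pairwise, then
`g ↦ cp x g q` (`x^q = 1`) is a homomorphism on the block whose image is centralized by `x`.
-/

namespace Cfsg.Agent.Lib.Helper62_Blocks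

variable {G : Type*} [Group G]

/-- cyclic partial products -/
def cp (x g : G) : ℕ → G
  | 0 => 1
  | n + 1 => cp x g n * (x ^ n * g * (x ^ n)⁻¹)

@[simp] theorem cp_zero (x g : G) : cp x g 0 = 1 := rfl

theorem cp_succ (x g : G) (n : ℕ) : cp x g (n + 1) = cp x g n * (x ^ n * g * (x ^ n)⁻¹) := rfl

theorem cp_succ' (x g : G) (n : ℕ) : cp x g (n + 1) = g * (x * cp x g n * x⁻¹) := by
  induction n with
  | zero => simp [cp_succ]
  | succ n ih =>
    have e : x ^ (n + 1) * g * (x ^ (n + 1))⁻¹ = x * (x ^ n * g * (x ^ n)⁻¹) * x⁻¹ := by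
      rw [pow_succ']
      group
    calc cp x g (n + 1 + 1) = cp x g (n + 1) * (x ^ (n + 1) * g * (x ^ (n + 1))⁻¹) := rfl
      _ = g * (x * cp x g n * x⁻¹) * (x * (x ^ n * g * (x ^ n)⁻¹) * x⁻¹) := by rw [ih, e]
      _ = g * (x * (cp x g n * (x ^ n * g * (x ^ n)⁻¹)) * x⁻¹) := by group
      _ = g * (x * cp x g (n + 1) * x⁻¹) := rfl

theorem commute_cp {x g h : G} (n : ℕ) (hc : ∀ k < n, Commute h (x ^ k * g * (x ^ k)⁻¹)) :
    Commute h (cp x g n) := by
  induction n with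
  | zero => exact Commute.one_right h
  | succ n ih =>
    rw [cp_succ]
    exact (ih fun k hk => hc k (Nat.lt_succ_of_lt hk)).mul_right (hc n (Nat.lt_succ_self n))

theorem cp_mul {x g g' : G} (n : ℕ)
    (hc : ∀ j < n, ∀ k < n, j ≠ k →
      Commute (x ^ j * g * (x ^ j)⁻¹) (x ^ k * g' * (x ^ k)⁻¹)) :
    cp x (g * g') n = cp x g n * cp x g' n := by
  induction n with
  | zero => simp
  | succ n ih =>
    rw [cp_succ, cp_succ, cp_succ, ih (fun j hj k hk hjk =>
      hc j (Nat.lt_succ_of_lt hj) k (Nat.lt_succ_of_lt hk) hjk)]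
    have h1 : Commute (x ^ n * g * (x ^ n)⁻¹) (cp x g' n) :=
      commute_cp n fun k hk => hc n (Nat.lt_succ_self n) k (Nat.lt_succ_of_lt hk) (Nat.ne_of_gt hk)
    have e : x ^ n * (g * g') * (x ^ n)⁻¹ =
        (x ^ n * g * (x ^ n)⁻¹) * (x ^ n * g' * (x ^ n)⁻¹) := by group
    rw [e]
    calc cp x g n * cp x g' n * ((x ^ n * g * (x ^ n)⁻¹) * (x ^ n * g' * (x ^ n)⁻¹))
        = cp x g n * (cp x g' n * (x ^ n * g * (x ^ n)⁻¹)) * (x ^ n * g' * (x ^ n)⁻¹) := by
          group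
      _ = cp x g n * ((x ^ n * g * (x ^ n)⁻¹) * cp x g' n) * (x ^ n * g' * (x ^ n)⁻¹) := by
          rw [h1.eq]
      _ = _ := by group

theorem cp_conj {x y g : G} (hxy : Commute y x) (n : ℕ) :
    y * cp x g n * y⁻¹ = cp x (y * g * y⁻¹) n := by
  induction n with
  | zero => simp
  | succ n ih =>
    rw [cp_succ, cp_succ, ← ih]
    have h : y * x ^ n = x ^ n * y := (hxy.pow_right n).eq
    have e : x ^ n * (y * g * y⁻¹) * (x ^ n)⁻¹ = y * (x ^ n * g * (x ^ n)⁻¹) * y⁻¹ := by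
      calc x ^ n * (y * g * y⁻¹) * (x ^ n)⁻¹ = (x ^ n * y) * g * (x ^ n * y)⁻¹ := by group
        _ = (y * x ^ n) * g * (y * x ^ n)⁻¹ := by rw [h]
        _ = _ := by group
    rw [e]
    group

theorem cp_fixed {x g : G} {q : ℕ} (hx : x ^ q = 1) (hc : Commute g (cp x g q)) :
    x * cp x g q * x⁻¹ = cp x g q := by
  have h1 := cp_succ x g q
  have h2 := cp_succ' x g q
  rw [hx, one_mul, inv_one, mul_one] at h1
  rw [h1, ← hc.eq] at h2
  exact (mul_left_cancel h2).symm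

theorem cp_mem {x g : G} (S : Subgroup G) (n : ℕ)
    (hS : ∀ k < n, x ^ k * g * (x ^ k)⁻¹ ∈ S) : cp x g n ∈ S := by
  induction n with
  | zero => exact S.one_mem
  | succ n ih =>
    rw [cp_succ]
    exact S.mul_mem (ih fun k hk => hS k (Nat.lt_succ_of_lt hk)) (hS n (Nat.lt_succ_self n))

theorem cp_one (x : G) (n : ℕ) : cp x 1 n = 1 := by
  induction n with
  | zero => rfl
  | succ n ih => rw [cp_succ, ih]; group


section finite

variable [Finite G] {p : ℕ} [Fact p.Prime]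

/-- a block: a plane `W ≤ V` with a faithful fixed-point-free `E ≅ SL₂(p)`, `E ≤ H` -/
structure IsBlock (p : ℕ) (V H W E : Subgroup G) : Prop where
  hWV : W ≤ V
  card : Nat.card W = p ^ 2
  hEH : E ≤ H
  iso : Nonempty (E ≃* Matrix.SpecialLinearGroup (Fin 2) (ZMod p))
  norm : E ≤ Subgroup.normalizer (W : Set G)
  faith : E ⊓ Subgroup.centralizer (W : Set G) = ⊥
  nofix : W ⊓ Subgroup.centralizer (E : Set G) = ⊥

/-- `y` stabilizes the block -/
def Fix (W E : Subgroup G) (y : G) : Prop :=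
  (∀ w ∈ W, y * w * y⁻¹ ∈ W) ∧ (∀ e ∈ E, y * e * y⁻¹ ∈ E)

/-- the `y`-conjugate of the block commutes with the block -/
def Perp (W E : Subgroup G) (y : G) : Prop :=
  (∀ e ∈ E, ∀ g ∈ E, Commute (y * e * y⁻¹) g) ∧ (∀ e ∈ E, ∀ w ∈ W, Commute (y * e * y⁻¹) w)

/-- `y` centralizes the block -/
def Cent (W E : Subgroup G) (y : G) : Prop :=
  (∀ w ∈ W, y * w * y⁻¹ = w) ∧ (∀ e ∈ E, y * e * y⁻¹ = e)

theorem mem_normalizer_of_conj_mem {S : Subgroup G} {y : G} (h : ∀ s ∈ S, y * s * y⁻¹ ∈ S) :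
    y ∈ Subgroup.normalizer (S : Set G) := by
  have hle : S.map (MulAut.conj y).toMonoidHom ≤ S := by
    rintro _ ⟨s, hs, rfl⟩
    exact h s hs
  have heq : S.map (MulAut.conj y).toMonoidHom = S := by
    apply Subgroup.eq_of_le_of_card_ge hle
    rw [Subgroup.card_map_of_injective (MulAut.conj y).injective]
  rw [Subgroup.mem_normalizer_iff]
  intro s
  refine ⟨h s, fun hs => ?_⟩
  rw [← heq] at hs
  obtain ⟨s', hs', hss⟩ := hs
  have : s' = s := by
    have h1 : y * s' * y⁻¹ = y * s * y⁻¹ := hss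
    have h2 := mul_right_cancel h1
    exact mul_left_cancel h2
  rwa [← this]

theorem Fix.pow {W E : Subgroup G} {y : G} (h : Fix W E y) (n : ℕ) : Fix W E (y ^ n) := by
  induction n with
  | zero =>
    refine ⟨fun w hw => ?_, fun e he => ?_⟩ <;> simpa
  | succ n ih =>
    refine ⟨fun w hw => ?_, fun e he => ?_⟩
    · have := h.1 _ (ih.1 w hw)
      have e1 : y ^ (n + 1) * w * (y ^ (n + 1))⁻¹ = y * (y ^ n * w * (y ^ n)⁻¹) * y⁻¹ := by
        rw [pow_succ']; group
      rwa [e1]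
    · have := h.2 _ (ih.2 e he)
      have e1 : y ^ (n + 1) * e * (y ^ (n + 1))⁻¹ = y * (y ^ n * e * (y ^ n)⁻¹) * y⁻¹ := by
        rw [pow_succ']; group
      rwa [e1]

theorem isPGroup_zpowers {q : ℕ} {x : G} (hx : x ^ q = 1) :
    IsPGroup q (Subgroup.zpowers x) := by
  rintro ⟨g, hg⟩
  obtain ⟨n, rfl⟩ := Subgroup.mem_zpowers_iff.mp hg
  refine ⟨1, ?_⟩
  apply Subtype.ext
  simp only [pow_one, Subgroup.coe_pow, Subgroup.coe_one]
  rw [← zpow_natCast, ← zpow_mul, mul_comm, zpow_mul, zpow_natCast, hx, one_zpow]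

/-- a stabilizing element of order prime to `p (p²-1)` centralizes the block -/
theorem cent_of_fix {V H W E : Subgroup G} {q : ℕ} (hq : q.Prime) (hqp : q ≠ p)
    (hq1 : ¬ q ∣ p ^ 2 - 1) (blk : IsBlock p V H W E) {x : G} (hxq : x ^ q = 1)
    (hfix : Fix W E x) : Cent W E x := by
  have hp := (Fact.out : p.Prime)
  have := Fact.mk hq
  have hxW : x ∈ Subgroup.normalizer (W : Set G) := mem_normalizer_of_conj_mem hfix.1
  have hQ : Subgroup.zpowers x ≤ Subgroup.normalizer (W : Set G) := Subgroup.zpowers_le.mpr hxW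
  have hmod := Cfsg.Agent.Lib.Helper10_ConjAction.card_modEq_card_centralizer
    (Subgroup.zpowers x) W (isPGroup_zpowers hxq) hQ
  rw [blk.card] at hmod
  have hdvd : Nat.card (W ⊓ Subgroup.centralizer ((Subgroup.zpowers x : Subgroup G) : Set G) :
      Subgroup G) ∣ p ^ 2 := by
    rw [← blk.card]
    exact Subgroup.card_dvd_of_le inf_le_left
  obtain ⟨k, hk, hcard⟩ := (Nat.dvd_prime_pow hp).mp hdvd
  have hp1 : 1 < p := hp.one_lt
  have hpp : p ≤ p ^ 2 := by nlinarith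
  have hk2 : k = 2 := by
    interval_cases k
    · exfalso
      rw [hcard, pow_zero] at hmod
      exact hq1 ((Nat.modEq_iff_dvd' (by nlinarith)).mp hmod.symm)
    · exfalso
      rw [hcard, pow_one] at hmod
      have h1 : q ∣ p ^ 2 - p := (Nat.modEq_iff_dvd' hpp).mp hmod.symm
      have h2 : p ^ 2 - p = p * (p - 1) := by
        rw [Nat.mul_sub, mul_one, sq]
      rw [h2] at h1
      rcases (Nat.Prime.dvd_mul hq).mp h1 with h | h
      · exact hqp ((Nat.prime_dvd_prime_iff_eq hq hp).mp h)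
      · apply hq1
        have h3 : p ^ 2 - 1 = (p - 1) * (p + 1) := by
          have : 1 ≤ p := hp1.le
          zify [this, Nat.one_le_pow 2 p this]
          ring
        rw [h3]
        exact Dvd.dvd.mul_right h _
    · rfl
  rw [hk2] at hcard
  have hWle : W ≤ Subgroup.centralizer ((Subgroup.zpowers x : Subgroup G) : Set G) := by
    have : W ⊓ Subgroup.centralizer ((Subgroup.zpowers x : Subgroup G) : Set G) = W := by
      apply Subgroup.eq_of_le_of_card_ge inf_le_left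
      rw [hcard, blk.card]
    rw [← this]
    exact inf_le_right
  have hW : ∀ w ∈ W, x * w * x⁻¹ = w := by
    intro w hw
    have := (Subgroup.mem_centralizer_iff.mp (hWle hw)) x (Subgroup.mem_zpowers x)
    rw [this]
    group
  refine ⟨hW, fun e he => ?_⟩
  have he' : x * e * x⁻¹ ∈ E := hfix.2 e he
  have hmem : e⁻¹ * (x * e * x⁻¹) ∈ E ⊓ Subgroup.centralizer (W : Set G) := by
    refine Subgroup.mem_inf.mpr ⟨E.mul_mem (E.inv_mem he) he', ?_⟩
    rw [Subgroup.mem_centralizer_iff]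
    intro w hw
    have hew : e * w * e⁻¹ ∈ W := (Subgroup.mem_normalizer_iff.mp (blk.norm he) w).mp hw
    have h1 : x⁻¹ * w * x = w := by
      have := hW w hw
      calc x⁻¹ * w * x = x⁻¹ * (x * w * x⁻¹) * x := by rw [this]
        _ = w := by group
    have h2 : (x * e * x⁻¹) * w * (x * e * x⁻¹)⁻¹ = e * w * e⁻¹ := by
      calc (x * e * x⁻¹) * w * (x * e * x⁻¹)⁻¹ = x * (e * (x⁻¹ * w * x) * e⁻¹) * x⁻¹ := by group
        _ = x * (e * w * e⁻¹) * x⁻¹ := by rw [h1]
        _ = e * w * e⁻¹ := hW _ hew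
    calc w * (e⁻¹ * (x * e * x⁻¹)) = e⁻¹ * (e * w * e⁻¹) * (x * e * x⁻¹) := by group
      _ = e⁻¹ * ((x * e * x⁻¹) * w * (x * e * x⁻¹)⁻¹) * (x * e * x⁻¹) := by rw [h2]
      _ = e⁻¹ * (x * e * x⁻¹) * w := by group
  rw [blk.faith, Subgroup.mem_bot] at hmem
  calc x * e * x⁻¹ = e * (e⁻¹ * (x * e * x⁻¹)) := by group
    _ = e := by rw [hmem, mul_one]


/-- pairwise commutation of the `⟨x⟩`-conjugates of `M = E ⊔ W` -/
theorem comm_conj {V W E X : Subgroup G} (hVc : ∀ a ∈ V, ∀ b ∈ V, a * b = b * a)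
    (hXV : X ≤ Subgroup.normalizer (V : Set G)) (hWV : W ≤ V) {q : ℕ} {x : G} (hx : x ∈ X)
    (hxq : x ^ q = 1) (hperp : ∀ m, 0 < m → m < q → Perp W E (x ^ m)) :
    ∀ j < q, ∀ k < q, j ≠ k → ∀ g ∈ E ⊔ W, ∀ g' ∈ E ⊔ W,
      Commute (x ^ j * g * (x ^ j)⁻¹) (x ^ k * g' * (x ^ k)⁻¹) := by
  have hcomm : ∀ m, 0 < m → m < q → ∀ g ∈ E ⊔ W, ∀ g' ∈ E ⊔ W,
      Commute (x ^ m * g * (x ^ m)⁻¹) g' := by
    intro m hm0 hmq
    have hP := hperp m hm0 hmq
    have hP' := hperp (q - m) (by omega) (by omega)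
    have hb : x ^ (q - m) = (x ^ m)⁻¹ := by
      apply eq_inv_of_mul_eq_one_left
      rw [← pow_add, Nat.sub_add_cancel hmq.le, hxq]
    rw [hb] at hP'
    have hxm : x ^ m ∈ Subgroup.normalizer (V : Set G) := Subgroup.pow_mem _ (hXV hx) m
    have key1 : ∀ g ∈ E, ∀ g' ∈ E ⊔ W, Commute (x ^ m * g * (x ^ m)⁻¹) g' := by
      intro g hg g' hg'
      have : E ⊔ W ≤ Subgroup.centralizer {x ^ m * g * (x ^ m)⁻¹} := by
        refine sup_le (fun e he => ?_) (fun w hw => ?_)
        · rw [Subgroup.mem_centralizer_iff]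
          rintro _ rfl
          exact (hP.1 g hg e he).eq
        · rw [Subgroup.mem_centralizer_iff]
          rintro _ rfl
          exact (hP.2 g hg w hw).eq
      exact (Subgroup.mem_centralizer_iff.mp (this hg')) _ rfl
    have key2 : ∀ w ∈ W, ∀ g' ∈ E ⊔ W, Commute (x ^ m * w * (x ^ m)⁻¹) g' := by
      intro w hw g' hg'
      have hwV : x ^ m * w * (x ^ m)⁻¹ ∈ V :=
        (Subgroup.mem_normalizer_iff.mp hxm w).mp (hWV hw)
      have : E ⊔ W ≤ Subgroup.centralizer {x ^ m * w * (x ^ m)⁻¹} := by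
        refine sup_le (fun e he => ?_) (fun w' hw' => ?_)
        · rw [Subgroup.mem_centralizer_iff]
          rintro _ rfl
          have h := (hP'.2 e he w hw).eq
          rw [inv_inv] at h
          calc x ^ m * w * (x ^ m)⁻¹ * e
              = x ^ m * (w * ((x ^ m)⁻¹ * e * x ^ m)) * (x ^ m)⁻¹ := by group
            _ = x ^ m * (((x ^ m)⁻¹ * e * x ^ m) * w) * (x ^ m)⁻¹ := by rw [h]
            _ = e * (x ^ m * w * (x ^ m)⁻¹) := by group
        · rw [Subgroup.mem_centralizer_iff]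
          rintro _ rfl
          exact hVc _ hwV _ (hWV hw')
      exact (Subgroup.mem_centralizer_iff.mp (this hg')) _ rfl
    intro g hg g' hg'
    have hle : E ⊔ W ≤ (Subgroup.centralizer ((E ⊔ W : Subgroup G) : Set G)).comap
        (MulAut.conj (x ^ m)).toMonoidHom := by
      refine sup_le (fun e he => ?_) (fun w hw => ?_)
      · rw [Subgroup.mem_comap, Subgroup.mem_centralizer_iff]
        intro g'' hg''
        exact (key1 e he g'' hg'').eq.symm
      · rw [Subgroup.mem_comap, Subgroup.mem_centralizer_iff]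
        intro g'' hg''
        exact (key2 w hw g'' hg'').eq.symm
    have := hle hg
    rw [Subgroup.mem_comap, Subgroup.mem_centralizer_iff] at this
    exact (this g' hg').symm
  have haux : ∀ j k, k < j → j < q → ∀ g ∈ E ⊔ W, ∀ g' ∈ E ⊔ W,
      Commute (x ^ j * g * (x ^ j)⁻¹) (x ^ k * g' * (x ^ k)⁻¹) := by
    intro j k hkj hjq g hg g' hg'
    have h := (hcomm (j - k) (by omega) (by omega) g hg g' hg').map (MulAut.conj (x ^ k))
    simp only [MulAut.conj_apply] at h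
    have e : x ^ j * g * (x ^ j)⁻¹ = x ^ k * (x ^ (j - k) * g * (x ^ (j - k))⁻¹) * (x ^ k)⁻¹ := by
      have : x ^ j = x ^ k * x ^ (j - k) := by rw [← pow_add, Nat.add_sub_cancel' hkj.le]
      rw [this]
      group
    rw [e]
    exact h
  intro j hj k hk hjk g hg g' hg'
  rcases Nat.lt_or_gt_of_ne hjk with h | h
  · exact (haux k j h hk g' hg' g hg).symm
  · exact haux j k h hj g hg g' hg'


theorem Cent.pow {W E : Subgroup G} {y : G} (h : Cent W E y) (n : ℕ) : Cent W E (y ^ n) := by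
  induction n with
  | zero =>
    refine ⟨fun w hw => ?_, fun e he => ?_⟩ <;> simp
  | succ n ih =>
    refine ⟨fun w hw => ?_, fun e he => ?_⟩
    · have e1 : y ^ (n + 1) * w * (y ^ (n + 1))⁻¹ = y * (y ^ n * w * (y ^ n)⁻¹) * y⁻¹ := by
        rw [pow_succ']; group
      rw [e1, ih.1 w hw, h.1 w hw]
    · have e1 : y ^ (n + 1) * e * (y ^ (n + 1))⁻¹ = y * (y ^ n * e * (y ^ n)⁻¹) * y⁻¹ := by
        rw [pow_succ']; group
      rw [e1, ih.2 e he, h.2 e he]

/-- the step for a block moved by `x` -/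
theorem step_moved {V H W E X : Subgroup G} (hVc : ∀ a ∈ V, ∀ b ∈ V, a * b = b * a)
    (hXV : X ≤ Subgroup.normalizer (V : Set G)) (hXH : X ≤ Subgroup.normalizer (H : Set G))
    (hXc : ∀ a ∈ X, ∀ b ∈ X, a * b = b * a) {q : ℕ} (hq : q.Prime)
    (blk : IsBlock p V H W E) (orth : ∀ y ∈ X, Fix W E y ∨ Perp W E y) {x : G} (hx : x ∈ X)
    (hxq : x ^ q = 1) (hperp : ∀ m, 0 < m → m < q → Perp W E (x ^ m)) :
    ∃ W' E' : Subgroup G, IsBlock p V H W' E' ∧ (∀ y ∈ X, Fix W' E' y ∨ Perp W' E' y) ∧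
      Cent W' E' x ∧ ∀ y ∈ X, Cent W E y → Cent W' E' y := by
  have hEM : E ≤ E ⊔ W := le_sup_left
  have hWM : W ≤ E ⊔ W := le_sup_right
  have hc2 := comm_conj hVc hXV blk.hWV hx hxq hperp
  have hmul : ∀ g ∈ E ⊔ W, ∀ g' ∈ E ⊔ W, cp x (g * g') q = cp x g q * cp x g' q :=
    fun g hg g' hg' => cp_mul q (fun j hj k hk hjk => hc2 j hj k hk hjk g hg g' hg')
  obtain ⟨n, rfl⟩ : ∃ n, q = n + 1 := ⟨q - 1, by have := hq.pos; omega⟩
  -- the tail of the product centralizes `M`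
  have htail : ∀ g ∈ E ⊔ W, ∃ c ∈ Subgroup.centralizer ((E ⊔ W : Subgroup G) : Set G),
      cp x g (n + 1) = g * c := by
    intro g hg
    refine ⟨x * cp x g n * x⁻¹, ?_, cp_succ' x g n⟩
    rw [cp_conj (Commute.refl x)]
    apply cp_mem
    intro k hk
    have e : x ^ k * (x * g * x⁻¹) * (x ^ k)⁻¹ = x ^ (k + 1) * g * (x ^ (k + 1))⁻¹ := by
      rw [pow_succ]; group
    rw [e, Subgroup.mem_centralizer_iff]
    intro g' hg'
    have := hc2 (k + 1) (by omega) 0 (by omega) (by omega) g hg g' hg'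
    simp only [pow_zero, one_mul, inv_one, mul_one] at this
    exact this.eq.symm
  have hself : ∀ g ∈ E ⊔ W, Commute g (cp x g (n + 1)) := by
    intro g hg
    apply commute_cp
    intro k hk
    rcases Nat.eq_zero_or_pos k with rfl | hk0
    · simp
    · have := hc2 0 (by omega) k hk (by omega) g hg g hg
      simpa using this
  let φE : E →* G := MonoidHom.mk' (fun e => cp x (e : G) (n + 1))
    (fun a b => hmul a (hEM a.2) b (hEM b.2))
  let φW : W →* G := MonoidHom.mk' (fun w => cp x (w : G) (n + 1))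
    (fun a b => hmul a (hWM a.2) b (hWM b.2))
  have hφE : ∀ e : E, φE e = cp x (e : G) (n + 1) := fun _ => rfl
  have hφW : ∀ w : W, φW w = cp x (w : G) (n + 1) := fun _ => rfl
  have injE : Function.Injective φE := by
    rw [injective_iff_map_eq_one]
    intro e he
    obtain ⟨c, hc, hec⟩ := htail e (hEM e.2)
    have h1 : (e : G) = c⁻¹ := eq_inv_of_mul_eq_one_left (hec.symm.trans he)
    have h2 : (e : G) ∈ E ⊓ Subgroup.centralizer (W : Set G) := by
      refine Subgroup.mem_inf.mpr ⟨e.2, ?_⟩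
      rw [h1]
      exact Subgroup.inv_mem _ (Subgroup.centralizer_le hWM hc)
    rw [blk.faith, Subgroup.mem_bot] at h2
    exact Subtype.ext h2
  have injW : Function.Injective φW := by
    rw [injective_iff_map_eq_one]
    intro w hw
    obtain ⟨c, hc, hwc⟩ := htail w (hWM w.2)
    have h1 : (w : G) = c⁻¹ := eq_inv_of_mul_eq_one_left (hwc.symm.trans hw)
    have h2 : (w : G) ∈ W ⊓ Subgroup.centralizer (E : Set G) := by
      refine Subgroup.mem_inf.mpr ⟨w.2, ?_⟩
      rw [h1]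
      exact Subgroup.inv_mem _ (Subgroup.centralizer_le hEM hc)
    rw [blk.nofix, Subgroup.mem_bot] at h2
    exact Subtype.ext h2
  have hcompat : ∀ (e : E) (w : W) (hw' : (e : G) * w * (e : G)⁻¹ ∈ W),
      φE e * φW w * (φE e)⁻¹ = φW ⟨(e : G) * w * (e : G)⁻¹, hw'⟩ := by
    intro e w hw'
    rw [← map_inv, hφE, hφE, hφW, hφW]
    show _ = cp x ((e : G) * w * (e : G)⁻¹) (n + 1)
    rw [hmul _ ((E ⊔ W).mul_mem (hEM e.2) (hWM w.2)) _ ((E ⊔ W).inv_mem (hEM e.2)),
      hmul _ (hEM e.2) _ (hWM w.2)]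
    rfl
  have hnormW : ∀ (e : E) (w : W), (e : G) * w * (e : G)⁻¹ ∈ W := fun e w =>
    (Subgroup.mem_normalizer_iff.mp (blk.norm e.2) w).mp w.2
  have hxk : ∀ k : ℕ, x ^ k ∈ X := fun k => X.pow_mem hx k
  have hCx : Cent φW.range φE.range x := by
    refine ⟨?_, ?_⟩
    · rintro _ ⟨w, rfl⟩
      exact cp_fixed hxq (hself w (hWM w.2))
    · rintro _ ⟨e, rfl⟩
      exact cp_fixed hxq (hself e (hEM e.2))
  refine ⟨φW.range, φE.range, ⟨?_, ?_, ?_, ?_, ?_, ?_, ?_⟩, ?_, hCx, ?_⟩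
  · rintro _ ⟨w, rfl⟩
    rw [hφW]
    apply cp_mem
    intro k _
    exact (Subgroup.mem_normalizer_iff.mp (hXV (hxk k)) _).mp (blk.hWV w.2)
  · rw [← blk.card]
    exact Nat.card_congr (MonoidHom.ofInjective injW).toEquiv.symm
  · rintro _ ⟨e, rfl⟩
    rw [hφE]
    apply cp_mem
    intro k _
    exact (Subgroup.mem_normalizer_iff.mp (hXH (hxk k)) _).mp (blk.hEH e.2)
  · exact ⟨(MonoidHom.ofInjective injE).symm.trans blk.iso.some⟩
  · rintro _ ⟨e, rfl⟩
    apply mem_normalizer_of_conj_mem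
    rintro _ ⟨w, rfl⟩
    exact ⟨⟨_, hnormW e w⟩, (hcompat e w (hnormW e w)).symm⟩
  · rw [eq_bot_iff]
    rintro _ ⟨⟨e, rfl⟩, hd⟩
    rw [Subgroup.mem_bot]
    have he : (e : G) ∈ E ⊓ Subgroup.centralizer (W : Set G) := by
      refine Subgroup.mem_inf.mpr ⟨e.2, ?_⟩
      rw [Subgroup.mem_centralizer_iff]
      intro w hw
      have h1 := (Subgroup.mem_centralizer_iff.mp hd) (φW ⟨w, hw⟩) ⟨⟨w, hw⟩, rfl⟩
      have h2 := hcompat e ⟨w, hw⟩ (hnormW e ⟨w, hw⟩)
      rw [← h1, mul_inv_cancel_right] at h2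
      have h3 := congrArg Subtype.val (injW h2)
      simp only at h3
      calc w * (e : G) = (e : G) * w * (e : G)⁻¹ * e := by rw [← h3]
        _ = e * w := by group
    rw [blk.faith, Subgroup.mem_bot] at he
    have : e = 1 := Subtype.ext he
    rw [this, map_one]
  · rw [eq_bot_iff]
    rintro _ ⟨⟨w, rfl⟩, hd⟩
    rw [Subgroup.mem_bot]
    have hw : (w : G) ∈ W ⊓ Subgroup.centralizer (E : Set G) := by
      refine Subgroup.mem_inf.mpr ⟨w.2, ?_⟩
      rw [Subgroup.mem_centralizer_iff]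
      intro e he
      have h1 := (Subgroup.mem_centralizer_iff.mp hd) (φE ⟨e, he⟩) ⟨⟨e, he⟩, rfl⟩
      have h2 := hcompat ⟨e, he⟩ w (hnormW ⟨e, he⟩ w)
      rw [h1, mul_inv_cancel_right] at h2
      have h3 := congrArg Subtype.val (injW h2)
      simp only at h3
      calc e * (w : G) = e * w * e⁻¹ * e := by group
        _ = w * e := by rw [← h3]
    rw [blk.nofix, Subgroup.mem_bot] at hw
    have : w = 1 := Subtype.ext hw
    rw [this, map_one]
  · -- orthogonality
    intro y hy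
    have hyx : Commute y x := hXc y hy x hx
    by_cases hex : ∃ k < n + 1, Fix W E (y * x ^ k)
    · left
      obtain ⟨k, hk, hfix⟩ := hex
      have hykx : Commute (y * x ^ k) x := hyx.mul_left ((Commute.refl x).pow_left k)
      have hCxk := hCx.pow k
      refine ⟨?_, ?_⟩
      · rintro _ ⟨w, rfl⟩
        have h1 : y * φW w * y⁻¹ = (y * x ^ k) * φW w * (y * x ^ k)⁻¹ := by
          have := hCxk.1 (φW w) ⟨w, rfl⟩
          calc y * φW w * y⁻¹ = y * (x ^ k * φW w * (x ^ k)⁻¹) * y⁻¹ := by rw [this]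
            _ = _ := by group
        rw [h1, hφW, cp_conj hykx]
        exact ⟨⟨_, hfix.1 w w.2⟩, rfl⟩
      · rintro _ ⟨e, rfl⟩
        have h1 : y * φE e * y⁻¹ = (y * x ^ k) * φE e * (y * x ^ k)⁻¹ := by
          have := hCxk.2 (φE e) ⟨e, rfl⟩
          calc y * φE e * y⁻¹ = y * (x ^ k * φE e * (x ^ k)⁻¹) * y⁻¹ := by rw [this]
            _ = _ := by group
        rw [h1, hφE, cp_conj hykx]
        exact ⟨⟨_, hfix.2 e e.2⟩, rfl⟩
    · right
      push Not at hex
      have hP : ∀ k : ℕ, Perp W E (y * x ^ k) := by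
        intro k
        have hk : x ^ k = x ^ (k % (n + 1)) := pow_eq_pow_mod k hxq
        rw [hk]
        exact (orth _ (X.mul_mem hy (hxk _))).resolve_left
          (hex _ (Nat.mod_lt _ (Nat.succ_pos n)))
      have hPM : ∀ k : ℕ, ∀ e ∈ E, ∀ g₀ ∈ E ⊔ W,
          Commute ((y * x ^ k) * e * (y * x ^ k)⁻¹) g₀ := by
        intro k e he g₀ hg₀
        have : E ⊔ W ≤ Subgroup.centralizer {(y * x ^ k) * e * (y * x ^ k)⁻¹} := by
          refine sup_le (fun e' he' => ?_) (fun w hw => ?_)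
          · rw [Subgroup.mem_centralizer_iff]
            rintro _ rfl
            exact ((hP k).1 e he e' he').eq
          · rw [Subgroup.mem_centralizer_iff]
            rintro _ rfl
            exact ((hP k).2 e he w hw).eq
        exact (Subgroup.mem_centralizer_iff.mp (this hg₀)) _ rfl
      have hmain : ∀ (j k : ℕ), ∀ e ∈ E, ∀ g₀ ∈ E ⊔ W,
          Commute (x ^ j * g₀ * (x ^ j)⁻¹) (x ^ k * (y * e * y⁻¹) * (x ^ k)⁻¹) := by
        intro j k e he g₀ hg₀
        have h := (hPM (k + j * n) e he g₀ hg₀).map (MulAut.conj (x ^ j))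
        simp only [MulAut.conj_apply] at h
        have hxy : ∀ i : ℕ, x ^ i * y = y * x ^ i := fun i => ((hyx.pow_right i).eq).symm
        have e1 : x ^ j * (y * x ^ (k + j * n)) = x ^ k * y := by
          rw [← mul_assoc, hxy j, mul_assoc, ← pow_add, hxy k]
          congr 1
          have : j + (k + j * n) = k + (n + 1) * j := by ring
          rw [this, pow_add, pow_mul, hxq, one_pow, mul_one]
        have e2 : x ^ j * ((y * x ^ (k + j * n)) * e * (y * x ^ (k + j * n))⁻¹) * (x ^ j)⁻¹ =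
            x ^ k * (y * e * y⁻¹) * (x ^ k)⁻¹ := by
          calc _ = (x ^ j * (y * x ^ (k + j * n))) * e * (x ^ j * (y * x ^ (k + j * n)))⁻¹ := by
                group
            _ = (x ^ k * y) * e * (x ^ k * y)⁻¹ := by rw [e1]
            _ = _ := by group
        rw [e2] at h
        exact h.symm
      have hfin : ∀ e ∈ E, ∀ g₀ ∈ E ⊔ W,
          Commute (y * cp x e (n + 1) * y⁻¹) (cp x g₀ (n + 1)) := by
        intro e he g₀ hg₀
        rw [cp_conj hyx]
        apply commute_cp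
        intro j hj
        apply Commute.symm
        apply commute_cp
        intro k hk
        exact hmain j k e he g₀ hg₀
      refine ⟨?_, ?_⟩
      · rintro _ ⟨e, rfl⟩ _ ⟨e', rfl⟩
        exact hfin e e.2 e' (hEM e'.2)
      · rintro _ ⟨e, rfl⟩ _ ⟨w, rfl⟩
        exact hfin e e.2 w (hWM w.2)
  · intro y hy hcent
    have hyx : Commute y x := hXc y hy x hx
    refine ⟨?_, ?_⟩
    · rintro _ ⟨w, rfl⟩
      rw [hφW, cp_conj hyx, hcent.1 w w.2]
    · rintro _ ⟨e, rfl⟩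
      rw [hφE, cp_conj hyx, hcent.2 e e.2]


/-- one step of the induction -/
theorem step {V H W E X : Subgroup G} (hVc : ∀ a ∈ V, ∀ b ∈ V, a * b = b * a)
    (hXV : X ≤ Subgroup.normalizer (V : Set G)) (hXH : X ≤ Subgroup.normalizer (H : Set G))
    (hXc : ∀ a ∈ X, ∀ b ∈ X, a * b = b * a) {q : ℕ} (hq : q.Prime) (hqp : q ≠ p)
    (hq1 : ¬ q ∣ p ^ 2 - 1)
    (blk : IsBlock p V H W E) (orth : ∀ y ∈ X, Fix W E y ∨ Perp W E y) {x : G} (hx : x ∈ X)
    (hxq : x ^ q = 1) :
    ∃ W' E' : Subgroup G, IsBlock p V H W' E' ∧ (∀ y ∈ X, Fix W' E' y ∨ Perp W' E' y) ∧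
      Cent W' E' x ∧ ∀ y ∈ X, Cent W E y → Cent W' E' y := by
  by_cases hfix : Fix W E x
  · exact ⟨W, E, blk, orth, cent_of_fix hq hqp hq1 blk hxq hfix, fun y _ h => h⟩
  · apply step_moved hVc hXV hXH hXc hq blk orth hx hxq
    intro m hm0 hmq
    refine (orth _ (X.pow_mem hx m)).resolve_left ?_
    intro hfm
    apply hfix
    have hcop : Nat.Coprime m q := (Nat.coprime_of_lt_prime (by omega) hmq hq).symm
    obtain ⟨t, -, ht⟩ := Nat.exists_mul_mod_eq_one_of_coprime hcop hq.one_lt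
    have h1 : (x ^ m) ^ t = x := by
      rw [← pow_mul, pow_eq_pow_mod (m * t) hxq, ht, pow_one]
    rw [← h1]
    exact hfm.pow t

/-- some block is centralized by all of `X` -/
theorem exists_cent {V H W E X : Subgroup G} (hVc : ∀ a ∈ V, ∀ b ∈ V, a * b = b * a)
    (hXV : X ≤ Subgroup.normalizer (V : Set G)) (hXH : X ≤ Subgroup.normalizer (H : Set G))
    (hXc : ∀ a ∈ X, ∀ b ∈ X, a * b = b * a) {q : ℕ} (hq : q.Prime) (hqp : q ≠ p)
    (hq1 : ¬ q ∣ p ^ 2 - 1) (hXq : ∀ x ∈ X, x ^ q = 1)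
    (blk : IsBlock p V H W E) (orth : ∀ y ∈ X, Fix W E y ∨ Perp W E y) :
    ∃ W' E' : Subgroup G, IsBlock p V H W' E' ∧ ∀ y ∈ X, Cent W' E' y := by
  classical
  have key : ∀ s : Finset G, (∀ y ∈ s, y ∈ X) →
      ∃ W' E' : Subgroup G, IsBlock p V H W' E' ∧ (∀ y ∈ X, Fix W' E' y ∨ Perp W' E' y) ∧
        ∀ y ∈ s, Cent W' E' y := by
    intro s
    induction s using Finset.induction_on with
    | empty =>
      intro _
      exact ⟨W, E, blk, orth, fun y hy => absurd hy (Finset.notMem_empty y)⟩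
    | insert x s hxs ih =>
      intro hs
      obtain ⟨W₁, E₁, b₁, o₁, c₁⟩ := ih (fun y hy => hs y (Finset.mem_insert_of_mem hy))
      have hxX := hs x (Finset.mem_insert_self x s)
      obtain ⟨W₂, E₂, b₂, o₂, cx, cy⟩ :=
        step hVc hXV hXH hXc hq hqp hq1 b₁ o₁ hxX (hXq x hxX)
      refine ⟨W₂, E₂, b₂, o₂, fun y hy => ?_⟩
      rcases Finset.mem_insert.mp hy with rfl | hy
      · exact cx
      · exact cy y (hs y (Finset.mem_insert_of_mem hy)) (c₁ y hy)
  have := Fintype.ofFinite G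
  obtain ⟨W', E', b, -, c⟩ := key (Finset.univ.filter (· ∈ X)) (by simp)
  exact ⟨W', E', b, fun y hy => c y (by simp [hy])⟩

end finite

end Cfsg.Agent.Lib.Helper62_Blocks
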