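import Mathlib

/-!
# Counting lemmas (helper62)

* `card_dvd_card_sq_eq` : in a finite group `G` the number of pairs `(x, y)` with `x² = y²`
  is divisible by `|G|` (it is `|G|` times the number of real classes).
* `nine_dvd_card` : if `d` is a `3`-element and `S` is a finite set stable under conjugation by
  `d` on which `d³` has no fixed point, then `9 ∣ |S|`.
* `card_dvd_sixtyfour` : a finite group in which a four-group `E = {1, e, δe, δ²e}` (for an
  automorphism `δ`) contains all squares and all involutions has order dividing `64`.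
-/

set_option autoImplicit false
set_option linter.style.haveILetI false
set_option linter.unusedSectionVars false

namespace Cfsg.Agent.Lib.Helper62_Count

section ConjInv

variable (G : Type*) [Group G]

/-- the action of `G × ℤˣ` on `G` by conjugation and inversion -/
@[reducible] def conjInvAction : MulAction (G × ℤˣ) G where
  smul a w := a.1 * w ^ ((a.2 : ℤˣ) : ℤ) * a.1⁻¹
  one_smul w := by
    change (1 : G) * w ^ (((1 : ℤˣ) : ℤˣ) : ℤ) * (1 : G)⁻¹ = w
    simp
  mul_smul a b w := by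
    change (a.1 * b.1) * w ^ (((a.2 * b.2 : ℤˣ)) : ℤ) * (a.1 * b.1)⁻¹ =
      a.1 * (b.1 * w ^ ((b.2 : ℤˣ) : ℤ) * b.1⁻¹) ^ ((a.2 : ℤˣ) : ℤ) * a.1⁻¹
    rw [conj_zpow, ← zpow_mul, Units.val_mul, mul_comm ((a.2 : ℤˣ) : ℤ)]
    group

theorem card_pairs [Fintype G] (r : G → G → Prop) :
    Nat.card {p : G × G // r p.1 p.2} = ∑ g, Nat.card {w // r g w} := by
  rw [Nat.card_congr (Equiv.subtypeProdEquivSigmaSubtype r), Nat.card_sigma]

/-- the number of pairs with equal squares is a multiple of the group order -/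
theorem card_dvd_card_sq_eq [Finite G] :
    Nat.card G ∣ Nat.card {p : G × G // p.1 ^ 2 = p.2 ^ 2} := by
  classical
  haveI := Fintype.ofFinite G
  letI := conjInvAction G
  have hB := MulAction.sum_card_fixedBy_eq_card_orbits_mul_card_group (G × ℤˣ) G
  have hsum : ∀ f : ℤˣ → ℕ, ∑ y, f y = f 1 + f (-1) := fun f => by
    rw [UnitsInt.univ, Finset.sum_pair (by decide)]
  rw [Fintype.sum_prod_type] at hB
  simp only [hsum, Finset.sum_add_distrib] at hB
  have h1 : ∀ g : G, Fintype.card (MulAction.fixedBy G ((g, 1) : G × ℤˣ)) =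
      Nat.card {w : G // Commute g w} := by
    intro g
    rw [← Nat.card_eq_fintype_card]
    apply Nat.card_congr
    apply Equiv.subtypeEquivRight
    intro w
    rw [MulAction.mem_fixedBy]
    change g * w ^ (((1 : ℤˣ) : ℤˣ) : ℤ) * g⁻¹ = w ↔ Commute g w
    rw [Units.val_one, zpow_one, mul_inv_eq_iff_eq_mul]
    exact Iff.rfl
  have h2 : ∀ g : G, Fintype.card (MulAction.fixedBy G ((g, -1) : G × ℤˣ)) =
      Nat.card {w : G // g * w⁻¹ * g⁻¹ = w} := by
    intro g
    rw [← Nat.card_eq_fintype_card]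
    apply Nat.card_congr
    apply Equiv.subtypeEquivRight
    intro w
    rw [MulAction.mem_fixedBy]
    change g * w ^ (((-1 : ℤˣ) : ℤˣ) : ℤ) * g⁻¹ = w ↔ _
    rw [Units.val_neg, Units.val_one, zpow_neg, zpow_one]
  simp only [h1, h2] at hB
  rw [← card_pairs G (fun g w => Commute g w), ← card_pairs G (fun g w => g * w⁻¹ * g⁻¹ = w),
    card_comm_eq_card_conjClasses_mul_card] at hB
  have e : Nat.card {p : G × G // p.1 ^ 2 = p.2 ^ 2} =
      Nat.card {p : G × G // p.1 * p.2⁻¹ * p.1⁻¹ = p.2} := by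
    apply Nat.card_congr
    refine Equiv.subtypeEquiv
      { toFun := fun p => (p.1, p.1⁻¹ * p.2)
        invFun := fun p => (p.1, p.1 * p.2)
        left_inv := fun p => by simp
        right_inv := fun p => by simp } ?_
    rintro ⟨x, y⟩
    change x ^ 2 = y ^ 2 ↔ x * (x⁻¹ * y)⁻¹ * x⁻¹ = x⁻¹ * y
    constructor
    · intro h
      have : x * x = y * y := by rw [← pow_two, ← pow_two, h]
      calc x * (x⁻¹ * y)⁻¹ * x⁻¹ = x⁻¹ * (x * x) * y⁻¹ * (x * x⁻¹) := by group
        _ = x⁻¹ * (y * y) * y⁻¹ * (x * x⁻¹) := by rw [this]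
        _ = x⁻¹ * y := by group
    · intro h
      have h' : x * y⁻¹ = x⁻¹ * y := by
        rw [← h]; group
      rw [pow_two, pow_two]
      calc x * x = x * (x * y⁻¹) * y := by group
        _ = x * (x⁻¹ * y) * y := by rw [h']
        _ = y * y := by group
  rw [e]
  have h3 : Nat.card G ∣ Nat.card (ConjClasses G) * Nat.card G := dvd_mul_left _ _
  have h4 : Nat.card G ∣ Fintype.card (Quotient (MulAction.orbitRel (G × ℤˣ) G)) *
      Fintype.card (G × ℤˣ) := by
    rw [Fintype.card_prod, ← Nat.card_eq_fintype_card (α := G)]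
    exact Dvd.dvd.mul_left (dvd_mul_right _ _) _
  rw [← hB] at h4
  exact (Nat.dvd_add_right h3).mp h4

end ConjInv

section Nine

variable {X : Type*} [Group X]

/-- conjugation action of a subgroup on an invariant subset -/
@[reducible] def conjSetAction (P : Subgroup X) (U : Set X)
    (hU : ∀ x ∈ P, ∀ g ∈ U, x * g * x⁻¹ ∈ U) : MulAction ↥P ↥U where
  smul x g := ⟨x.1 * g.1 * x.1⁻¹, hU x.1 x.2 g.1 g.2⟩
  one_smul g := Subtype.ext (by
    change (1 : X) * g.1 * (1 : X)⁻¹ = g.1
    simp)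
  mul_smul x y g := Subtype.ext (by
    change (x.1 * y.1) * g.1 * (x.1 * y.1)⁻¹ = x.1 * (y.1 * g.1 * y.1⁻¹) * x.1⁻¹
    group)

/-- if `d` is a `3`-element, `S` is stable under conjugation by `d` and `d³` fixes no element
of `S`, then `9 ∣ |S|` -/
theorem nine_dvd_card (d : X) (n : ℕ) (hd : orderOf d = 3 ^ n) (S : Set X) [Finite S]
    (hS : ∀ x ∈ S, d * x * d⁻¹ ∈ S) (hfix : ∀ x ∈ S, d ^ 3 * x * (d ^ 3)⁻¹ ≠ x) :
    9 ∣ Nat.card S := by
  classical
  have hfin : IsOfFinOrder d := by
    rw [← orderOf_pos_iff, hd]; positivity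
  have hU : ∀ y ∈ Subgroup.zpowers d, ∀ x ∈ S, y * x * y⁻¹ ∈ S := by
    intro y hy x hx
    rw [← hfin.mem_powers_iff_mem_zpowers] at hy
    obtain ⟨k, rfl⟩ := hy
    induction k with
    | zero => simpa using hx
    | succ k ih =>
      have : d ^ (k + 1) * x * (d ^ (k + 1))⁻¹ = d * (d ^ k * x * (d ^ k)⁻¹) * d⁻¹ := by
        rw [pow_succ']; group
      rw [this]
      exact hS _ ih
  haveI : Finite ↥(Subgroup.zpowers d) := by
    apply Nat.finite_of_card_ne_zero
    rw [Nat.card_zpowers, hd]; positivity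
  have hP : IsPGroup 3 ↥(Subgroup.zpowers d) := by
    haveI : Fact (Nat.Prime 3) := ⟨Nat.prime_three⟩
    exact IsPGroup.of_card (n := n) (by rw [Nat.card_zpowers, hd])
  letI := conjSetAction (Subgroup.zpowers d) S hU
  haveI := Fintype.ofFinite ↥(Subgroup.zpowers d)
  haveI := Fintype.ofFinite ↥S
  rw [Nat.card_eq_fintype_card,
    MulAction.card_eq_sum_card_group_div_card_stabilizer ↥(Subgroup.zpowers d) ↥S]
  apply Finset.dvd_sum
  intro ω _
  set s : ↥S := ω.out with hs
  set H := MulAction.stabilizer ↥(Subgroup.zpowers d) s with hH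
  have hidx : Fintype.card ↥(Subgroup.zpowers d) / Fintype.card ↥H = H.index := by
    rw [← Nat.card_eq_fintype_card, ← Nat.card_eq_fintype_card, ← H.index_mul_card,
      Nat.mul_div_cancel _ Nat.card_pos]
  rw [hidx]
  haveI : H.Normal := ⟨fun a ha g => by
    have : g * a * g⁻¹ = a := by rw [mul_comm' g a, mul_inv_cancel_right]
    rwa [this]⟩
  obtain ⟨k, hk⟩ := hP.index H
  have hk2 : 2 ≤ k := by
    by_contra hlt
    have hdvd : H.index ∣ 3 := by
      rw [hk]
      have : k ≤ 1 := by omega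
      exact pow_dvd_pow 3 this
    obtain ⟨m, hm⟩ := hdvd
    have h3 : (⟨d, Subgroup.mem_zpowers d⟩ : ↥(Subgroup.zpowers d)) ^ 3 ∈ H := by
      rw [hm, pow_mul]
      exact H.pow_mem (Subgroup.pow_index_mem H _) m
    rw [MulAction.mem_stabilizer_iff] at h3
    have := congrArg Subtype.val h3
    exact hfix s.1 s.2 this
  rw [hk]
  exact pow_dvd_pow 3 hk2

end Nine

section Sixtyfour

variable {R : Type*} [Group R] [Finite R]

/-- a finite group in which a four-group `{1, e, δe, δ²e}` contains all squares and all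
involutions has order dividing `64` -/
theorem card_dvd_sixtyfour (δ : R ≃* R) (E : Subgroup R) (e0 : R)
    (hsq : ∀ x : R, x ^ 2 ∈ E) (hinv : ∀ x : R, x ^ 2 = 1 → x ∈ E) (hE2 : ∀ e ∈ E, e ^ 2 = 1)
    (hE : ∀ e, e ∈ E ↔ e = 1 ∨ e = e0 ∨ e = δ e0 ∨ e = δ (δ e0))
    (h0 : e0 ≠ 1) (h1 : e0 ≠ δ e0) (h2 : e0 ≠ δ (δ e0)) :
    Nat.card R ∣ 64 := by
  classical
  haveI := Fintype.ofFinite R
  have hinj := δ.injective
  have d1 : δ e0 ≠ 1 := fun h => h0 (hinj (by rw [h, map_one]))
  have d2 : δ (δ e0) ≠ 1 := fun h => d1 (hinj (by rw [h, map_one]))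
  have d12 : δ e0 ≠ δ (δ e0) := fun h => h1 (hinj h)
  set t : Finset R := {1, e0, δ e0, δ (δ e0)} with ht
  have htE : ∀ e, e ∈ t ↔ e ∈ E := by
    intro e
    rw [hE, ht]
    simp
  let f : R → ℕ := fun e => (Finset.univ.filter (fun x : R => x ^ 2 = e)).card
  have hf1 : f 1 = 4 := by
    have : Finset.univ.filter (fun x : R => x ^ 2 = 1) = t := by
      ext x
      rw [Finset.mem_filter, htE]
      exact ⟨fun h => hinv x h.2, fun h => ⟨Finset.mem_univ _, hE2 x h⟩⟩
    change (Finset.univ.filter (fun x : R => x ^ 2 = 1)).card = 4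
    rw [this, ht]
    rw [Finset.card_insert_of_notMem, Finset.card_insert_of_notMem, Finset.card_pair d12]
    · simp [h1, h2]
    · simp [h0.symm, d1.symm, d2.symm]
  have hfδ : ∀ e, f (δ e) = f e := by
    intro e
    symm
    apply Finset.card_equiv δ.toEquiv
    intro x
    simp only [Finset.mem_filter, Finset.mem_univ, true_and, MulEquiv.toEquiv_eq_coe,
      MulEquiv.coe_toEquiv]
    rw [← map_pow]
    exact ⟨fun h => by rw [h], fun h => hinj h⟩
  have hN : Fintype.card R = f 1 + f e0 + f (δ e0) + f (δ (δ e0)) := by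
    have := Finset.card_eq_sum_card_fiberwise (f := fun x : R => x ^ 2) (s := Finset.univ)
      (t := t) (fun x _ => (htE _).mpr (hsq x))
    rw [Finset.card_univ] at this
    rw [this, ht, Finset.sum_insert, Finset.sum_insert, Finset.sum_pair d12]
    · ring
    · simp [h1, h2]
    · simp [h0.symm, d1.symm, d2.symm]
  have hP : Nat.card {p : R × R // p.1 ^ 2 = p.2 ^ 2} =
      f 1 ^ 2 + f e0 ^ 2 + f (δ e0) ^ 2 + f (δ (δ e0)) ^ 2 := by
    rw [Nat.card_eq_fintype_card, Fintype.card_subtype]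
    have := Finset.card_eq_sum_card_fiberwise (f := fun p : R × R => p.1 ^ 2)
      (s := Finset.univ.filter (fun p : R × R => p.1 ^ 2 = p.2 ^ 2))
      (t := t) (fun p _ => (htE _).mpr (hsq p.1))
    rw [this]
    have hfib : ∀ e, ((Finset.univ.filter (fun p : R × R => p.1 ^ 2 = p.2 ^ 2)).filter
        (fun p => p.1 ^ 2 = e)).card = f e ^ 2 := by
      intro e
      have : (Finset.univ.filter (fun p : R × R => p.1 ^ 2 = p.2 ^ 2)).filter
          (fun p => p.1 ^ 2 = e) =
          (Finset.univ.filter (fun x : R => x ^ 2 = e)) ×ˢ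
            (Finset.univ.filter (fun x : R => x ^ 2 = e)) := by
        ext ⟨x, y⟩
        simp only [Finset.mem_filter, Finset.mem_univ, true_and, Finset.mem_product]
        constructor
        · rintro ⟨h, h'⟩
          exact ⟨h', h ▸ h'⟩
        · rintro ⟨h, h'⟩
          exact ⟨h.trans h'.symm, h⟩
      rw [this, Finset.card_product, pow_two]
    simp only [hfib]
    rw [ht, Finset.sum_insert, Finset.sum_insert, Finset.sum_pair d12]
    · ring
    · simp [h1, h2]
    · simp [h0.symm, d1.symm, d2.symm]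
  have hdvd := card_dvd_card_sq_eq R
  rw [hP, Nat.card_eq_fintype_card, hN, hfδ (δ e0), hfδ e0, hf1] at hdvd
  rw [Nat.card_eq_fintype_card, hN, hfδ (δ e0), hfδ e0, hf1]
  generalize f e0 = m at hdvd ⊢
  -- `N = 4 + 3m`, `N ∣ 16 + 3m²`
  have hNN : (4 + m + m + m) ∣ (4 + m + m + m) * (4 + m + m + m) := dvd_mul_right _ _
  have h8 : (4 + m + m + m) ∣ 3 * (4 ^ 2 + m ^ 2 + m ^ 2 + m ^ 2) + 8 * (4 + m + m + m) :=
    dvd_add (Dvd.dvd.mul_left hdvd 3) (dvd_mul_left _ _)
  have hid : 3 * (4 ^ 2 + m ^ 2 + m ^ 2 + m ^ 2) + 8 * (4 + m + m + m) =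
      (4 + m + m + m) * (4 + m + m + m) + 64 := by ring
  rw [hid] at h8
  exact (Nat.dvd_add_right hNN).mp h8

end Sixtyfour

end Cfsg.Agent.Lib.Helper62_Count
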