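import Mathlib
import Cfsg.Prelude.Def_Transfer
import Cfsg.Prelude.Def_Solvable
import Cfsg.Agent.Lib.Lead_Subnormal

/-!
Two subnormal subgroups acting irreducibly on incomparable commutator modules (KS 9.3, helper62).
-/

set_option autoImplicit false

namespace Cfsg.Agent.Lib.Helper62_SubnPair

open Cfsg Cfsg.Agent.Lib.Lead_Subnormal
open scoped commutatorElement Pointwise

variable {G : Type*} [Group G]

/-! ### Conjugates and normalizers -/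

theorem conj_smul_eq_of_mem_normalizer {H : Subgroup G} {g : G}
    (hg : g ∈ Subgroup.normalizer (H : Set G)) : MulAut.conj g • H = H := by
  ext x
  rw [mem_conj_smul]
  have hg' := Subgroup.inv_mem _ hg
  rw [Subgroup.mem_normalizer_iff] at hg'
  have := hg' x
  simp only [inv_inv] at this
  exact this.symm

theorem mem_normalizer_of_conj_smul_eq {H : Subgroup G} {g : G}
    (h : MulAut.conj g • H = H) : g ∈ Subgroup.normalizer (H : Set G) := by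
  have key : g⁻¹ ∈ Subgroup.normalizer (H : Set G) := by
    rw [Subgroup.mem_normalizer_iff]
    intro x
    have := mem_conj_smul g x H
    rw [h] at this
    simpa using this
  simpa using Subgroup.inv_mem _ key

theorem conj_smul_commutator (g : G) (A B : Subgroup G) :
    MulAut.conj g • ⁅A, B⁆ = ⁅MulAut.conj g • A, MulAut.conj g • B⁆ := by
  simp only [Subgroup.pointwise_smul_def]
  exact Subgroup.map_commutator _ _ _

theorem mem_normalizer_commutator {A B : Subgroup G} {g : G}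
    (hA : g ∈ Subgroup.normalizer (A : Set G)) (hB : g ∈ Subgroup.normalizer (B : Set G)) :
    g ∈ Subgroup.normalizer ((⁅A, B⁆ : Subgroup G) : Set G) := by
  apply mem_normalizer_of_conj_smul_eq
  rw [conj_smul_commutator, conj_smul_eq_of_mem_normalizer hA, conj_smul_eq_of_mem_normalizer hB]

theorem mem_normalizer_sup {A B : Subgroup G} {g : G}
    (hA : g ∈ Subgroup.normalizer (A : Set G)) (hB : g ∈ Subgroup.normalizer (B : Set G)) :
    g ∈ Subgroup.normalizer ((A ⊔ B : Subgroup G) : Set G) := by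
  apply mem_normalizer_of_conj_smul_eq
  rw [conj_smul_sup, conj_smul_eq_of_mem_normalizer hA, conj_smul_eq_of_mem_normalizer hB]

theorem mem_normalizer_inf {A B : Subgroup G} {g : G}
    (hA : g ∈ Subgroup.normalizer (A : Set G)) (hB : g ∈ Subgroup.normalizer (B : Set G)) :
    g ∈ Subgroup.normalizer ((A ⊓ B : Subgroup G) : Set G) := by
  rw [Subgroup.mem_normalizer_iff] at hA hB ⊢
  intro x
  rw [Subgroup.mem_inf, Subgroup.mem_inf, hA x, hB x]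

theorem le_normalizer_of_conj_mem [Finite G] {E K : Subgroup G}
    (h : ∀ e ∈ E, ∀ k ∈ K, e * k * e⁻¹ ∈ K) : E ≤ Subgroup.normalizer (K : Set G) := by
  intro e he
  rw [Subgroup.mem_normalizer_iff]
  intro k
  refine ⟨h e he k, fun hk => ?_⟩
  have := h e⁻¹ (E.inv_mem he) _ hk
  simpa [mul_assoc] using this

theorem conj_mem_of_mem_normalizer {H : Subgroup G} {g x : G}
    (hg : g ∈ Subgroup.normalizer (H : Set G)) (hx : x ∈ H) : g * x * g⁻¹ ∈ H :=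
  (Subgroup.mem_normalizer_iff.mp hg x).mp hx

theorem conj_inv_mem_of_mem_normalizer {H : Subgroup G} {g x : G}
    (hg : g ∈ Subgroup.normalizer (H : Set G)) (hx : x ∈ H) : g⁻¹ * x * g ∈ H := by
  have := conj_mem_of_mem_normalizer (Subgroup.inv_mem _ hg) hx
  simpa using this

theorem comm_mem_of_mem_normalizer {H : Subgroup G} {g x : G}
    (hg : g ∈ Subgroup.normalizer (H : Set G)) (hx : x ∈ H) : ⁅x, g⁆ ∈ H := by
  have h1 : ⁅x, g⁆ = x * (g * x⁻¹ * g⁻¹) := by simp only [commutatorElement_def]; group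
  rw [h1]
  exact H.mul_mem hx (conj_mem_of_mem_normalizer hg (H.inv_mem hx))

theorem commutator_le_of_le_normalizer {V E : Subgroup G}
    (h : E ≤ Subgroup.normalizer (V : Set G)) : ⁅V, E⁆ ≤ V := by
  rw [Subgroup.commutator_le]
  intro v hv e he
  exact comm_mem_of_mem_normalizer (h he) hv

/-! ### The kernel subgroups -/

/-- Elements `g` normalizing `W` with `[V, g] ⊆ W`. -/
def commS (V W : Subgroup G) : Subgroup G where
  carrier := {g | g ∈ Subgroup.normalizer (W : Set G) ∧ ∀ v ∈ V, ⁅v, g⁆ ∈ W}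
  one_mem' := ⟨Subgroup.one_mem _, fun k _ => by simp [commutatorElement_def]⟩
  mul_mem' := by
    rintro a b ⟨ha1, ha2⟩ ⟨hb1, hb2⟩
    refine ⟨Subgroup.mul_mem _ ha1 hb1, fun k hk => ?_⟩
    have h1 : ⁅k, a * b⁆ = ⁅k, a⁆ * (a * ⁅k, b⁆ * a⁻¹) := by
      simp only [commutatorElement_def]; group
    rw [h1]
    exact W.mul_mem (ha2 k hk) (conj_mem_of_mem_normalizer ha1 (hb2 k hk))
  inv_mem' := by
    rintro a ⟨ha1, ha2⟩
    refine ⟨Subgroup.inv_mem _ ha1, fun k hk => ?_⟩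
    have h1 : ⁅k, a⁻¹⁆ = a⁻¹ * (⁅k, a⁆)⁻¹ * a := by
      simp only [commutatorElement_def]; group
    rw [h1]
    exact conj_inv_mem_of_mem_normalizer ha1 (W.inv_mem (ha2 k hk))

theorem mem_commS {V W : Subgroup G} {g : G} :
    g ∈ commS V W ↔ g ∈ Subgroup.normalizer (W : Set G) ∧ ∀ v ∈ V, ⁅v, g⁆ ∈ W := Iff.rfl

theorem commutator_le_of_le_commS {V W X : Subgroup G} (h : X ≤ commS V W) : ⁅V, X⁆ ≤ W := by
  rw [Subgroup.commutator_le]
  intro k hk x hx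
  exact (h hx).2 k hk

theorem conj_mem_commS {V W : Subgroup G} {e g : G}
    (heV : e ∈ Subgroup.normalizer (V : Set G)) (heW : e ∈ Subgroup.normalizer (W : Set G))
    (hg : g ∈ commS V W) : e * g * e⁻¹ ∈ commS V W := by
  refine ⟨?_, fun v hv => ?_⟩
  · exact Subgroup.mul_mem _ (Subgroup.mul_mem _ heW hg.1) (Subgroup.inv_mem _ heW)
  · have h1 : ⁅v, e * g * e⁻¹⁆ = e * ⁅e⁻¹ * v * e, g⁆ * e⁻¹ := by
      simp only [commutatorElement_def]; group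
    rw [h1]
    exact conj_mem_of_mem_normalizer heW (hg.2 _ (conj_inv_mem_of_mem_normalizer heV hv))

theorem conj_mem_centralizer {W : Subgroup G} {e c : G}
    (heW : e ∈ Subgroup.normalizer (W : Set G)) (hc : c ∈ Subgroup.centralizer (W : Set G)) :
    e * c * e⁻¹ ∈ Subgroup.centralizer (W : Set G) := by
  rw [Subgroup.mem_centralizer_iff] at hc ⊢
  intro w hw
  have h1 := hc _ (conj_inv_mem_of_mem_normalizer heW hw)
  calc w * (e * c * e⁻¹) = e * ((e⁻¹ * w * e) * c) * e⁻¹ := by group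
    _ = e * (c * (e⁻¹ * w * e)) * e⁻¹ := by rw [h1]
    _ = e * c * e⁻¹ * w := by group

/-- the quadratic kernel -/
def commK (V W : Subgroup G) : Subgroup G := Subgroup.centralizer (W : Set G) ⊓ commS V W

theorem conj_pow_of_mem_commK {V W : Subgroup G} {g v : G} (hg : g ∈ commK V W) (hv : v ∈ V)
    (k : ℕ) : v * g ^ k * v⁻¹ = ⁅v, g⁆ ^ k * g ^ k := by
  have hw : ⁅v, g⁆ ∈ W := hg.2.2 v hv
  have hc : Commute ⁅v, g⁆ g := by
    have := (Subgroup.mem_centralizer_iff.mp hg.1) _ hw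
    exact this
  have h1 : v * g ^ k * v⁻¹ = (v * g * v⁻¹) ^ k := by
    rw [conj_pow]
  have h2 : v * g * v⁻¹ = ⁅v, g⁆ * g := by
    simp only [commutatorElement_def]; group
  rw [h1, h2, hc.mul_pow]

theorem isPGroup_inf_commK {p : ℕ} {V W E : Subgroup G}
    (hW : ∀ w ∈ W, w ^ p = 1) (hf : E ⊓ Subgroup.centralizer (V : Set G) = ⊥) :
    IsPGroup p ↥(E ⊓ commK V W) := by
  intro g
  refine ⟨1, ?_⟩
  have hgE : (g : G) ∈ E := g.2.1
  have hgK : (g : G) ∈ commK V W := g.2.2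
  have h1 : (g : G) ^ p ∈ E ⊓ Subgroup.centralizer (V : Set G) := by
    refine ⟨E.pow_mem hgE p, Subgroup.mem_centralizer_iff.mpr ?_⟩
    intro v hv
    have h2 := conj_pow_of_mem_commK hgK hv p
    rw [hW _ (hgK.2.2 v hv), one_mul] at h2
    calc v * (g : G) ^ p = (v * (g : G) ^ p * v⁻¹) * v := by group
      _ = (g : G) ^ p * v := by rw [h2]
  rw [hf, Subgroup.mem_bot] at h1
  apply Subtype.ext
  simpa using h1

theorem le_normalizer_inf_commK [Finite G] {V W E : Subgroup G}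
    (hEV : E ≤ Subgroup.normalizer (V : Set G)) (hEW : E ≤ Subgroup.normalizer (W : Set G)) :
    E ≤ Subgroup.normalizer ((E ⊓ commK V W : Subgroup G) : Set G) := by
  apply le_normalizer_of_conj_mem
  rintro e he k ⟨hkE, hkC, hkS⟩
  exact ⟨E.mul_mem (E.mul_mem he hkE) (E.inv_mem he), conj_mem_centralizer (hEW he) hkC,
    conj_mem_commS (hEV he) (hEW he) hkS⟩

/-! ### The configuration -/

/-- The hypotheses on a pair of subnormal subgroups. -/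
structure Pair (p : ℕ) (V E₁ E₂ : Subgroup G) : Prop where
  hEV : E₁ ⊔ E₂ ≤ Subgroup.normalizer (V : Set G)
  hf : (E₁ ⊔ E₂) ⊓ Subgroup.centralizer (V : Set G) = ⊥
  hs₁ : SubnIn E₁ (E₁ ⊔ E₂)
  hs₂ : SubnIn E₂ (E₁ ⊔ E₂)
  hOp : ∀ R : Subgroup G, SubnIn R (E₁ ⊔ E₂) → IsPGroup p R → R = ⊥
  hirr₁ : ∀ U : Subgroup G, U ≤ ⁅V, E₁⁆ → E₁ ≤ Subgroup.normalizer (U : Set G) →
    U = ⊥ ∨ U = ⁅V, E₁⁆
  hirr₂ : ∀ U : Subgroup G, U ≤ ⁅V, E₂⁆ → E₂ ≤ Subgroup.normalizer (U : Set G) →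
    U = ⊥ ∨ U = ⁅V, E₂⁆
  h12 : ¬ ⁅V, E₁⁆ ≤ ⁅V, E₂⁆
  h21 : ¬ ⁅V, E₂⁆ ≤ ⁅V, E₁⁆
  hc₁ : 2 < Nat.card E₁
  hc₂ : 2 < Nat.card E₂

/-- The conclusion. -/
def Concl (V E₁ E₂ : Subgroup G) : Prop :=
  ⁅E₁, E₂⁆ = ⊥ ∧ E₁ ⊓ E₂ = ⊥ ∧ ⁅V, E₁⁆ ⊓ ⁅V, E₂⁆ = ⊥ ∧ ⁅V, E₁ ⊔ E₂⁆ = ⁅V, E₁⁆ ⊔ ⁅V, E₂⁆

variable {p : ℕ} {V E₁ E₂ : Subgroup G}

theorem Pair.symm (h : Pair p V E₁ E₂) : Pair p V E₂ E₁ := by
  have hc : E₂ ⊔ E₁ = E₁ ⊔ E₂ := sup_comm _ _
  exact ⟨hc ▸ h.hEV, hc ▸ h.hf, hc ▸ h.hs₂, hc ▸ h.hs₁, hc ▸ h.hOp, h.hirr₂, h.hirr₁, h.h21, h.h12,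
    h.hc₂, h.hc₁⟩

theorem Concl.symm (h : Concl V E₁ E₂) : Concl V E₂ E₁ := by
  obtain ⟨h1, h2, h3, h4⟩ := h
  refine ⟨?_, ?_, ?_, ?_⟩
  · rw [Subgroup.commutator_comm]; exact h1
  · rw [inf_comm]; exact h2
  · rw [inf_comm]; exact h3
  · rw [sup_comm, h4, sup_comm]

theorem Pair.le₁ (h : Pair p V E₁ E₂) : E₁ ≤ Subgroup.normalizer (V : Set G) :=
  le_sup_left.trans h.hEV

theorem Pair.le₂ (h : Pair p V E₁ E₂) : E₂ ≤ Subgroup.normalizer (V : Set G) :=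
  le_sup_right.trans h.hEV

theorem Pair.W_le (h : Pair p V E₁ E₂) : ⁅V, E₁⁆ ≤ V := commutator_le_of_le_normalizer h.le₁

theorem Pair.le_normalizer_W (h : Pair p V E₁ E₂) :
    E₁ ≤ Subgroup.normalizer ((⁅V, E₁⁆ : Subgroup G) : Set G) :=
  fun _ he => mem_normalizer_commutator (h.le₁ he) (Subgroup.le_normalizer he)

theorem Pair.faith₁ (h : Pair p V E₁ E₂) : E₁ ⊓ Subgroup.centralizer (V : Set G) = ⊥ := by
  rw [eq_bot_iff, ← h.hf]
  exact inf_le_inf_right _ le_sup_left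

theorem Pair.W_ne_bot (h : Pair p V E₁ E₂) : ⁅V, E₁⁆ ≠ ⊥ := by
  intro h0
  exact h.h12 (h0 ▸ bot_le)

variable [Finite G]

/-- `E₁` acts faithfully on `[V, E₁]`. -/
theorem Pair.cent_W (hV : IsElementaryAbelian p V) (h : Pair p V E₁ E₂) :
    E₁ ⊓ Subgroup.centralizer ((⁅V, E₁⁆ : Subgroup G) : Set G) = ⊥ := by
  have hK : E₁ ⊓ commK V ⁅V, E₁⁆ = ⊥ := by
    apply h.hOp
    · exact (SubnIn.of_normal inf_le_left
        (le_normalizer_inf_commK h.le₁ h.le_normalizer_W)).trans h.hs₁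
    · exact isPGroup_inf_commK (fun w hw => hV.2 w (h.W_le hw)) h.faith₁
  rw [eq_bot_iff, ← hK]
  rintro g ⟨hgE, hgC⟩
  exact ⟨hgE, hgC, h.le_normalizer_W hgE, fun v hv => Subgroup.commutator_mem_commutator hv hgE⟩

/-- `E₁` has no fixed points on `[V, E₁]`. -/
theorem Pair.fix_W (hV : IsElementaryAbelian p V) (h : Pair p V E₁ E₂) :
    ⁅V, E₁⁆ ⊓ Subgroup.centralizer (E₁ : Set G) = ⊥ := by
  have hU : E₁ ≤ Subgroup.normalizer
      ((⁅V, E₁⁆ ⊓ Subgroup.centralizer (E₁ : Set G) : Subgroup G) : Set G) := by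
    apply le_normalizer_of_conj_mem
    rintro e he u ⟨huW, huC⟩
    have h1 : e * u * e⁻¹ = u := by
      have := (Subgroup.mem_centralizer_iff.mp huC) e he
      rw [this]; group
    rw [h1]; exact ⟨huW, huC⟩
  rcases h.hirr₁ _ inf_le_left hU with h0 | h0
  · exact h0
  · exfalso
    have h1 : ⁅V, E₁⁆ ≤ Subgroup.centralizer (E₁ : Set G) := inf_eq_left.mp h0
    have h2 : E₁ ≤ E₁ ⊓ Subgroup.centralizer ((⁅V, E₁⁆ : Subgroup G) : Set G) := fun e he =>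
      ⟨he, Subgroup.mem_centralizer_iff.mpr
        (fun w hw => ((Subgroup.mem_centralizer_iff.mp (h1 hw)) e he).symm)⟩
    rw [h.cent_W hV, le_bot_iff] at h2
    have := h.hc₁
    rw [h2, Subgroup.card_bot] at this
    omega

/-- The case where `E₂` normalizes `[V, E₁]`. -/
theorem Pair.of_invariant (hV : IsElementaryAbelian p V) (h : Pair p V E₁ E₂)
    (hinv : E₂ ≤ Subgroup.normalizer ((⁅V, E₁⁆ : Subgroup G) : Set G)) : Concl V E₁ E₂ := by
  have hW1V : ⁅V, E₁⁆ ≤ V := h.W_le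
  have hW2V : ⁅V, E₂⁆ ≤ V := h.symm.W_le
  -- (a)
  have ha : ⁅V, E₁⁆ ⊓ ⁅V, E₂⁆ = ⊥ := by
    have hU : E₂ ≤ Subgroup.normalizer ((⁅V, E₁⁆ ⊓ ⁅V, E₂⁆ : Subgroup G) : Set G) :=
      fun e he => mem_normalizer_inf (hinv he) (h.symm.le_normalizer_W he)
    rcases h.hirr₂ _ inf_le_right hU with h0 | h0
    · exact h0
    · exact absurd (inf_eq_right.mp h0) h.h21
  -- (b)
  have hb : E₂ ≤ Subgroup.centralizer ((⁅V, E₁⁆ : Subgroup G) : Set G) := by
    intro e he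
    rw [Subgroup.mem_centralizer_iff]
    intro w hw
    have h1 : ⁅w, e⁆ ∈ ⁅V, E₁⁆ ⊓ ⁅V, E₂⁆ :=
      ⟨comm_mem_of_mem_normalizer (hinv he) hw, Subgroup.commutator_mem_commutator (hW1V hw) he⟩
    rw [ha, Subgroup.mem_bot] at h1
    exact commutatorElement_eq_one_iff_mul_comm.mp h1
  -- (c)
  have hEW : E₁ ⊔ E₂ ≤ Subgroup.normalizer ((⁅V, E₁⁆ : Subgroup G) : Set G) :=
    sup_le h.le_normalizer_W hinv
  have hK : (E₁ ⊔ E₂) ⊓ commK V ⁅V, E₁⁆ = ⊥ := by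
    apply h.hOp
    · exact SubnIn.of_normal inf_le_left (le_normalizer_inf_commK h.hEV hEW)
    · exact isPGroup_inf_commK (fun w hw => hV.2 w (hW1V hw)) h.hf
  have hE1S : E₁ ≤ commS V ⁅V, E₁⁆ := fun e he =>
    ⟨h.le_normalizer_W he, fun v hv => Subgroup.commutator_mem_commutator hv he⟩
  have hc : ∀ e₁ ∈ E₁, ∀ e₂ ∈ E₂, ⁅e₁, e₂⁆ = 1 := by
    intro e₁ h1 e₂ h2
    have hmem : ⁅e₁, e₂⁆ ∈ (E₁ ⊔ E₂) ⊓ commK V ⁅V, E₁⁆ := by
      have h1' : e₁ ∈ E₁ ⊔ E₂ := le_sup_left (a := E₁) h1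
      have h2' : e₂ ∈ E₁ ⊔ E₂ := le_sup_right (b := E₂) h2
      refine ⟨?_, ?_, ?_⟩
      · simp only [commutatorElement_def]
        exact Subgroup.mul_mem _ (Subgroup.mul_mem _ (Subgroup.mul_mem _ h1' h2')
          (Subgroup.inv_mem _ h1')) (Subgroup.inv_mem _ h2')
      · have e1 : ⁅e₁, e₂⁆ = (e₁ * e₂ * e₁⁻¹) * e₂⁻¹ := by simp only [commutatorElement_def]
        rw [e1]
        exact Subgroup.mul_mem _ (conj_mem_centralizer (h.le_normalizer_W h1) (hb h2))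
          (Subgroup.inv_mem _ (hb h2))
      · have e1 : ⁅e₁, e₂⁆ = e₁ * (e₂ * e₁⁻¹ * e₂⁻¹) := by
          simp only [commutatorElement_def]; group
        rw [e1]
        exact Subgroup.mul_mem _ (hE1S h1)
          (conj_mem_commS (h.le₂ h2) (hinv h2) (Subgroup.inv_mem _ (hE1S h1)))
    rw [hK, Subgroup.mem_bot] at hmem
    exact hmem
  have hd : ⁅E₁, E₂⁆ = ⊥ := by
    rw [eq_bot_iff, Subgroup.commutator_le]
    intro e₁ h1 e₂ h2
    rw [Subgroup.mem_bot]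
    exact hc e₁ h1 e₂ h2
  -- E₁ normalizes [V, E₂]
  have hE1W2 : E₁ ≤ Subgroup.normalizer ((⁅V, E₂⁆ : Subgroup G) : Set G) := by
    intro e he
    apply mem_normalizer_commutator (h.le₁ he)
    apply Subgroup.centralizer_le_normalizer
    rw [Subgroup.mem_centralizer_iff]
    intro e₂ h2
    exact (commutatorElement_eq_one_iff_mul_comm.mp (hc e he e₂ h2)).symm
  refine ⟨hd, ?_, ha, ?_⟩
  · -- (e)
    rw [eq_bot_iff, ← h.hf]
    rintro g ⟨hg1, hg2⟩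
    refine ⟨le_sup_left (a := E₁) hg1, Subgroup.mem_centralizer_iff.mpr ?_⟩
    intro v hv
    have h1 : ⁅v, g⁆ ∈ ⁅V, E₁⁆ ⊓ ⁅V, E₂⁆ :=
      ⟨Subgroup.commutator_mem_commutator hv hg1, Subgroup.commutator_mem_commutator hv hg2⟩
    rw [ha, Subgroup.mem_bot] at h1
    exact commutatorElement_eq_one_iff_mul_comm.mp h1
  · -- (f)
    apply le_antisymm
    · apply commutator_le_of_le_commS
      apply sup_le
      · intro e he
        exact ⟨mem_normalizer_sup (h.le_normalizer_W he) (hE1W2 he),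
          fun v hv => le_sup_left (a := ⁅V, E₁⁆) (Subgroup.commutator_mem_commutator hv he)⟩
      · intro e he
        exact ⟨mem_normalizer_sup (hinv he) (h.symm.le_normalizer_W he),
          fun v hv => le_sup_right (b := ⁅V, E₂⁆) (Subgroup.commutator_mem_commutator hv he)⟩
    · exact sup_le (Subgroup.commutator_mono le_rfl le_sup_left)
        (Subgroup.commutator_mono le_rfl le_sup_right)

/-! ### Conjugate pairs -/

omit [Finite G] in
theorem exists_proper_normal_of_subnIn {H K : Subgroup G} (h : SubnIn H K) (hne : H ≠ K) :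
    ∃ N : Subgroup G, H ≤ N ∧ N ≤ K ∧ N ≠ K ∧ K ≤ Subgroup.normalizer (N : Set G) := by
  induction h with
  | refl K => exact absurd rfl hne
  | step H K' L hHK hn hKL ih =>
    by_cases hK : K' = L
    · subst hK; exact ⟨H, le_rfl, hHK, hne, hn⟩
    · obtain ⟨N, h1, h2, h3, h4⟩ := ih hK
      exact ⟨N, hHK.trans h1, h2, h3, h4⟩

omit [Finite G] in
theorem Pair.comm_conj (h : Pair p V E₁ E₂) {g : G} (hg : g ∈ E₁ ⊔ E₂) :
    ⁅V, MulAut.conj g • E₁⁆ = MulAut.conj g • ⁅V, E₁⁆ := by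
  rw [conj_smul_commutator, conj_smul_eq_of_mem_normalizer (h.hEV hg)]

theorem Pair.conjPair (h : Pair p V E₁ E₂) {g : G} (hg : g ∈ E₁ ⊔ E₂)
    (hmove : g ∉ Subgroup.normalizer ((⁅V, E₁⁆ : Subgroup G) : Set G)) :
    Pair p V E₁ (MulAut.conj g • E₁) ∧
      Nat.card ↥(E₁ ⊔ MulAut.conj g • E₁) < Nat.card ↥(E₁ ⊔ E₂) := by
  have hgE : MulAut.conj g • (E₁ ⊔ E₂) = E₁ ⊔ E₂ :=
    conj_smul_eq_of_mem_normalizer (Subgroup.le_normalizer hg)
  have hsg : SubnIn (MulAut.conj g • E₁) (E₁ ⊔ E₂) := by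
    have := h.hs₁.conj g
    rwa [hgE] at this
  have hE1ne : E₁ ≠ E₁ ⊔ E₂ := by
    intro he
    apply h.h21
    apply Subgroup.commutator_mono le_rfl
    rw [he]; exact le_sup_right
  obtain ⟨N, hN1, hN2, hN3, hN4⟩ := exists_proper_normal_of_subnIn h.hs₁ hE1ne
  have hgN : MulAut.conj g • E₁ ≤ N := by
    have h1 : MulAut.conj g • E₁ ≤ MulAut.conj g • N :=
      Subgroup.pointwise_smul_le_pointwise_smul_iff.mpr hN1
    rwa [conj_smul_eq_of_mem_normalizer (hN4 hg)] at h1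
  have hE'E : E₁ ⊔ MulAut.conj g • E₁ ≤ E₁ ⊔ E₂ := sup_le le_sup_left hsg.le
  have hlt : E₁ ⊔ MulAut.conj g • E₁ < E₁ ⊔ E₂ := by
    refine lt_of_le_of_ne hE'E ?_
    intro he
    apply hN3
    apply le_antisymm hN2
    rw [← he]
    exact sup_le hN1 hgN
  have hWg : ⁅V, MulAut.conj g • E₁⁆ = MulAut.conj g • ⁅V, E₁⁆ := h.comm_conj hg
  have hcardW : Nat.card ↥(MulAut.conj g • ⁅V, E₁⁆ : Subgroup G) = Nat.card ↥⁅V, E₁⁆ :=
    card_conj_smul g _
  have hneW : MulAut.conj g • ⁅V, E₁⁆ ≠ ⁅V, E₁⁆ :=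
    fun he => hmove (mem_normalizer_of_conj_smul_eq he)
  refine ⟨⟨hE'E.trans h.hEV, ?_, h.hs₁.of_le_le le_sup_left hE'E, hsg.of_le_le le_sup_right hE'E,
    ?_, h.hirr₁, ?_, ?_, ?_, h.hc₁, ?_⟩, card_lt_of_lt' hlt⟩
  · rw [eq_bot_iff, ← h.hf]
    exact inf_le_inf_right _ hE'E
  · intro R hR hRp
    exact h.hOp R (hR.trans (h.hs₁.sup hsg)) hRp
  · intro U hU hUn
    rw [hWg] at hU ⊢
    have hU' : MulAut.conj g⁻¹ • U ≤ ⁅V, E₁⁆ := by
      have := Subgroup.pointwise_smul_le_pointwise_smul_iff (a := MulAut.conj g⁻¹) |>.mpr hU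
      rw [map_inv, inv_smul_smul] at this
      rw [map_inv]; exact this
    have hn' : E₁ ≤ Subgroup.normalizer ((MulAut.conj g⁻¹ • U : Subgroup G) : Set G) := by
      apply le_normalizer_of_conj_mem
      intro e he k hk
      rw [mem_conj_smul] at hk ⊢
      simp only [inv_inv] at hk ⊢
      have hge : g * e * g⁻¹ ∈ MulAut.conj g • E₁ := by
        rw [mem_conj_smul]
        have : g⁻¹ * (g * e * g⁻¹) * g = e := by group
        rw [this]; exact he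
      have := conj_mem_of_mem_normalizer (hUn hge) hk
      have e2 : g * (e * k * e⁻¹) * g⁻¹ = g * e * g⁻¹ * (g * k * g⁻¹) * (g * e * g⁻¹)⁻¹ := by group
      rw [e2]; exact this
    rcases h.hirr₁ _ hU' hn' with h0 | h0
    · left
      have : U = MulAut.conj g • (MulAut.conj g⁻¹ • U) := by rw [map_inv, smul_inv_smul]
      rw [this, h0, Subgroup.smul_bot]
    · right
      have : U = MulAut.conj g • (MulAut.conj g⁻¹ • U) := by rw [map_inv, smul_inv_smul]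
      rw [this, h0]
  · rw [hWg]
    intro hle
    exact hneW (Subgroup.eq_of_le_of_card_ge hle hcardW.le).symm
  · rw [hWg]
    intro hle
    exact hneW (Subgroup.eq_of_le_of_card_ge hle hcardW.ge)
  · rw [card_conj_smul]; exact h.hc₁

/-- Facts about a conjugate of `[V, E₁]` that is moved. -/
theorem Pair.moved_facts (h : Pair p V E₁ E₂)
    (IH : ∀ F₁ F₂ : Subgroup G, Nat.card ↥(F₁ ⊔ F₂) < Nat.card ↥(E₁ ⊔ E₂) → Pair p V F₁ F₂ →
      Concl V F₁ F₂)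
    {g : G} (hg : g ∈ E₁ ⊔ E₂)
    (hmove : g ∉ Subgroup.normalizer ((⁅V, E₁⁆ : Subgroup G) : Set G)) :
    ⁅V, E₁⁆ ⊓ MulAut.conj g • ⁅V, E₁⁆ = ⊥ ∧
      ∀ e ∈ E₁, ∀ z ∈ MulAut.conj g • ⁅V, E₁⁆, e * z = z * e := by
  obtain ⟨hP, hlt⟩ := h.conjPair hg hmove
  obtain ⟨c1, -, d1, -⟩ := IH _ _ hlt hP
  have hWg : ⁅V, MulAut.conj g • E₁⁆ = MulAut.conj g • ⁅V, E₁⁆ := h.comm_conj hg
  rw [hWg] at d1
  refine ⟨d1, fun e he z hz => ?_⟩
  have hcen : E₁ ≤ Subgroup.centralizer ((MulAut.conj g • E₁ : Subgroup G) : Set G) :=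
    Subgroup.commutator_eq_bot_iff_le_centralizer.mp c1
  have heN : e ∈ Subgroup.normalizer ((MulAut.conj g • ⁅V, E₁⁆ : Subgroup G) : Set G) := by
    rw [← hWg]
    exact mem_normalizer_commutator (h.le₁ he) (Subgroup.centralizer_le_normalizer _ (hcen he))
  have hzV : z ∈ V := by
    have : MulAut.conj g • ⁅V, E₁⁆ ≤ V := by rw [← hWg]; exact hP.symm.W_le
    exact this hz
  have h1 : ⁅z, e⁆ ∈ ⁅V, E₁⁆ ⊓ MulAut.conj g • ⁅V, E₁⁆ :=
    ⟨Subgroup.commutator_mem_commutator hzV he, comm_mem_of_mem_normalizer heN hz⟩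
  rw [d1, Subgroup.mem_bot] at h1
  exact (commutatorElement_eq_one_iff_mul_comm.mp h1).symm

/-- Every element of `E₁` moving `[V, E₂]` inverts `[V, E₁]` (given some `x ∈ E₂` moving
`[V, E₁]`). -/
theorem Pair.inverts (hV : IsElementaryAbelian p V) (h : Pair p V E₁ E₂)
    (IH : ∀ F₁ F₂ : Subgroup G, Nat.card ↥(F₁ ⊔ F₂) < Nat.card ↥(E₁ ⊔ E₂) → Pair p V F₁ F₂ →
      Concl V F₁ F₂)
    {x y : G} (hx : x ∈ E₂)
    (hxm : x ∉ Subgroup.normalizer ((⁅V, E₁⁆ : Subgroup G) : Set G)) (hy : y ∈ E₁)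
    (hym : y ∉ Subgroup.normalizer ((⁅V, E₂⁆ : Subgroup G) : Set G)) :
    ∀ u ∈ ⁅V, E₁⁆, y * u * y⁻¹ = u⁻¹ := by
  have IH' : ∀ F₁ F₂ : Subgroup G, Nat.card ↥(F₁ ⊔ F₂) < Nat.card ↥(E₂ ⊔ E₁) → Pair p V F₁ F₂ →
      Concl V F₁ F₂ := by
    rw [sup_comm]; exact IH
  have hxE : x ∈ E₁ ⊔ E₂ := le_sup_right (b := E₂) hx
  have hyE : y ∈ E₂ ⊔ E₁ := le_sup_right (b := E₁) hy
  obtain ⟨d1, cen1⟩ := h.moved_facts IH hxE hxm
  obtain ⟨-, cen2⟩ := h.symm.moved_facts IH' hyE hym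
  have hVc : ∀ s ∈ V, ∀ t ∈ V, s * t = t * s := fun s hs t ht => by
    have := hV.1.is_comm.comm ⟨s, hs⟩ ⟨t, ht⟩
    exact congrArg Subtype.val this
  intro u hu
  have ha : y * u * y⁻¹ ∈ ⁅V, E₁⁆ := conj_mem_of_mem_normalizer (h.le_normalizer_W hy) hu
  have hb : x * u⁻¹ * x⁻¹ ∈ MulAut.conj x • ⁅V, E₁⁆ := by
    rw [mem_conj_smul]
    have : x⁻¹ * (x * u⁻¹ * x⁻¹) * x = u⁻¹ := by group
    rw [this]; exact Subgroup.inv_mem _ hu
  have hw : u * (x * u⁻¹ * x⁻¹) ∈ ⁅V, E₂⁆ := by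
    have : u * (x * u⁻¹ * x⁻¹) = ⁅u, x⁆ := by simp only [commutatorElement_def]; group
    rw [this]
    exact Subgroup.commutator_mem_commutator (h.W_le hu) hx
  have hyb : y * (x * u⁻¹ * x⁻¹) = (x * u⁻¹ * x⁻¹) * y := cen1 y hy _ hb
  have hyw : y * (u * (x * u⁻¹ * x⁻¹)) * y⁻¹ = (y * u * y⁻¹) * (x * u⁻¹ * x⁻¹) := by
    calc y * (u * (x * u⁻¹ * x⁻¹)) * y⁻¹ = (y * u * y⁻¹) * (y * (x * u⁻¹ * x⁻¹)) * y⁻¹ := by group
      _ = (y * u * y⁻¹) * ((x * u⁻¹ * x⁻¹) * y) * y⁻¹ := by rw [hyb]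
      _ = (y * u * y⁻¹) * (x * u⁻¹ * x⁻¹) := by group
  have hmem : (y * u * y⁻¹) * (x * u⁻¹ * x⁻¹) ∈ MulAut.conj y • ⁅V, E₂⁆ := by
    rw [← hyw, mem_conj_smul]
    have : y⁻¹ * (y * (u * (x * u⁻¹ * x⁻¹)) * y⁻¹) * y = u * (x * u⁻¹ * x⁻¹) := by group
    rw [this]; exact hw
  have hxab := cen2 x hx _ hmem
  -- P * Q = a * b
  have hPQ : (x * (y * u * y⁻¹) * x⁻¹) * (x * (x * u⁻¹ * x⁻¹) * x⁻¹) =
      (y * u * y⁻¹) * (x * u⁻¹ * x⁻¹) := by
    calc (x * (y * u * y⁻¹) * x⁻¹) * (x * (x * u⁻¹ * x⁻¹) * x⁻¹)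
        = (x * ((y * u * y⁻¹) * (x * u⁻¹ * x⁻¹))) * x⁻¹ := by group
      _ = (((y * u * y⁻¹) * (x * u⁻¹ * x⁻¹)) * x) * x⁻¹ := by rw [hxab]
      _ = (y * u * y⁻¹) * (x * u⁻¹ * x⁻¹) := by group
  have hP : x * (y * u * y⁻¹) * x⁻¹ ∈ MulAut.conj x • ⁅V, E₁⁆ := by
    rw [mem_conj_smul]
    have : x⁻¹ * (x * (y * u * y⁻¹) * x⁻¹) * x = y * u * y⁻¹ := by group
    rw [this]; exact ha
  have hxV : MulAut.conj x • ⁅V, E₁⁆ ≤ V := by
    rw [← h.comm_conj hxE]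
    apply commutator_le_of_le_normalizer
    intro e he
    have : e ∈ E₁ ⊔ E₂ := by
      have h1 : MulAut.conj x • E₁ ≤ MulAut.conj x • (E₁ ⊔ E₂) :=
        Subgroup.pointwise_smul_le_pointwise_smul_iff.mpr le_sup_left
      rw [conj_smul_eq_of_mem_normalizer (Subgroup.le_normalizer hxE)] at h1
      exact h1 he
    exact h.hEV this
  by_cases hx2 : x * x ∈ Subgroup.normalizer ((⁅V, E₁⁆ : Subgroup G) : Set G)
  · -- Case B
    have hQ : x * (x * u⁻¹ * x⁻¹) * x⁻¹ ∈ ⁅V, E₁⁆ := by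
      have := conj_mem_of_mem_normalizer hx2 (Subgroup.inv_mem _ hu)
      have e1 : x * (x * u⁻¹ * x⁻¹) * x⁻¹ = x * x * u⁻¹ * (x * x)⁻¹ := by group
      rw [e1]; exact this
    have hcomm : (x * u⁻¹ * x⁻¹) * (x * (x * u⁻¹ * x⁻¹) * x⁻¹)⁻¹ =
        (x * (x * u⁻¹ * x⁻¹) * x⁻¹)⁻¹ * (x * u⁻¹ * x⁻¹) :=
      hVc _ (hxV hb) _ (V.inv_mem (h.W_le hQ))
    have key : (x * (y * u * y⁻¹) * x⁻¹) * (x * u⁻¹ * x⁻¹)⁻¹ =
        (y * u * y⁻¹) * (x * (x * u⁻¹ * x⁻¹) * x⁻¹)⁻¹ := by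
      have e1 : x * (y * u * y⁻¹) * x⁻¹ =
          (y * u * y⁻¹) * (x * u⁻¹ * x⁻¹) * (x * (x * u⁻¹ * x⁻¹) * x⁻¹)⁻¹ := by
        rw [← hPQ]; group
      rw [e1, mul_assoc ((y * u * y⁻¹)), hcomm]
      group
    have hmem2 : (x * (y * u * y⁻¹) * x⁻¹) * (x * u⁻¹ * x⁻¹)⁻¹ ∈
        ⁅V, E₁⁆ ⊓ MulAut.conj x • ⁅V, E₁⁆ := by
      refine ⟨?_, Subgroup.mul_mem _ hP (Subgroup.inv_mem _ hb)⟩
      rw [key]
      exact Subgroup.mul_mem _ ha (Subgroup.inv_mem _ hQ)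
    rw [d1, Subgroup.mem_bot] at hmem2
    have h3 : x * (y * u * y⁻¹) * x⁻¹ = x * u⁻¹ * x⁻¹ := mul_inv_eq_one.mp hmem2
    have h4 : y * u * y⁻¹ = x⁻¹ * (x * (y * u * y⁻¹) * x⁻¹) * x := by group
    rw [h4, h3]; group
  · -- Case A
    have hx2E : x * x ∈ E₁ ⊔ E₂ := Subgroup.mul_mem _ hxE hxE
    obtain ⟨-, cen3⟩ := h.moved_facts IH hx2E hx2
    have hQ : x * (x * u⁻¹ * x⁻¹) * x⁻¹ ∈ MulAut.conj (x * x) • ⁅V, E₁⁆ := by
      rw [mem_conj_smul]
      have : (x * x)⁻¹ * (x * (x * u⁻¹ * x⁻¹) * x⁻¹) * (x * x) = u⁻¹ := by group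
      rw [this]; exact Subgroup.inv_mem _ hu
    have e1 : y * u * y⁻¹ =
        (x * (y * u * y⁻¹) * x⁻¹) * (x * (x * u⁻¹ * x⁻¹) * x⁻¹) * (x * u⁻¹ * x⁻¹)⁻¹ := by
      rw [hPQ]; group
    have hfix : y * u * y⁻¹ ∈ ⁅V, E₁⁆ ⊓ Subgroup.centralizer (E₁ : Set G) := by
      refine ⟨ha, Subgroup.mem_centralizer_iff.mpr ?_⟩
      intro e he
      have c1 : Commute e (x * (y * u * y⁻¹) * x⁻¹) := cen1 e he _ hP
      have c2 : Commute e (x * (x * u⁻¹ * x⁻¹) * x⁻¹) := cen3 e he _ hQ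
      have c3 : Commute e (x * u⁻¹ * x⁻¹) := cen1 e he _ hb
      have c4 := (c1.mul_right c2).mul_right c3.inv_right
      rw [← e1] at c4
      exact c4
    rw [h.fix_W hV, Subgroup.mem_bot] at hfix
    have hu1 : u = 1 := by
      have : u = y⁻¹ * (y * u * y⁻¹) * y := by group
      rw [this, hfix]; group
    rw [hu1]; group

/-- The case where both commutator modules are moved is impossible. -/
theorem Pair.moved_false (hV : IsElementaryAbelian p V) (h : Pair p V E₁ E₂)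
    (IH : ∀ F₁ F₂ : Subgroup G, Nat.card ↥(F₁ ⊔ F₂) < Nat.card ↥(E₁ ⊔ E₂) → Pair p V F₁ F₂ →
      Concl V F₁ F₂)
    {x y : G} (hx : x ∈ E₂)
    (hxm : x ∉ Subgroup.normalizer ((⁅V, E₁⁆ : Subgroup G) : Set G)) (hy : y ∈ E₁)
    (hym : y ∉ Subgroup.normalizer ((⁅V, E₂⁆ : Subgroup G) : Set G)) : False := by
  have hinv := fun (y' : G) (hy' : y' ∈ E₁)
      (hym' : y' ∉ Subgroup.normalizer ((⁅V, E₂⁆ : Subgroup G) : Set G)) =>
    h.inverts hV IH hx hxm hy' hym'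
  -- uniqueness
  have huniq : ∀ y' ∈ E₁, y' ∉ Subgroup.normalizer ((⁅V, E₂⁆ : Subgroup G) : Set G) → y' = y := by
    intro y' hy' hym'
    have hc : y⁻¹ * y' ∈ E₁ ⊓ Subgroup.centralizer ((⁅V, E₁⁆ : Subgroup G) : Set G) := by
      refine ⟨E₁.mul_mem (E₁.inv_mem hy) hy', Subgroup.mem_centralizer_iff.mpr ?_⟩
      intro u hu
      have h1 : y' * u * y'⁻¹ = u⁻¹ := hinv y' hy' hym' u hu
      have h2 : y * u⁻¹ * y⁻¹ = (u⁻¹)⁻¹ := hinv y hy hym _ (Subgroup.inv_mem _ hu)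
      have h3 : y' * u = u⁻¹ * y' := by
        calc y' * u = (y' * u * y'⁻¹) * y' := by group
          _ = u⁻¹ * y' := by rw [h1]
      have h4 : y⁻¹ * u = u⁻¹ * y⁻¹ := by
        have : u⁻¹ = y⁻¹ * (y * u⁻¹ * y⁻¹) * y := by group
        rw [this, h2]; group
      calc u * (y⁻¹ * y') = u * y⁻¹ * y' := by group
        _ = (y⁻¹ * u⁻¹) * y' := by
            have : u * y⁻¹ = y⁻¹ * u⁻¹ := by
              have := congrArg (fun t => u * t * u⁻¹) h4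
              have e1 : u * (y⁻¹ * u) * u⁻¹ = u * y⁻¹ := by group
              have e2 : u * (u⁻¹ * y⁻¹) * u⁻¹ = y⁻¹ * u⁻¹ := by group
              rw [e1, e2] at this
              exact this
            rw [this]
        _ = y⁻¹ * (u⁻¹ * y') := by group
        _ = y⁻¹ * (y' * u) := by rw [h3]
        _ = y⁻¹ * y' * u := by group
    rw [h.cent_W hV, Subgroup.mem_bot] at hc
    have : y' = y * (y⁻¹ * y') := by group
    rw [this, hc, mul_one]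
  have hall : ∀ e ∈ E₁, e = 1 ∨ e = y := by
    intro e he
    by_cases hen : e ∈ Subgroup.normalizer ((⁅V, E₂⁆ : Subgroup G) : Set G)
    · left
      have h1 : e * y ∉ Subgroup.normalizer ((⁅V, E₂⁆ : Subgroup G) : Set G) := by
        intro h2
        apply hym
        have : y = e⁻¹ * (e * y) := by group
        rw [this]
        exact Subgroup.mul_mem _ (Subgroup.inv_mem _ hen) h2
      have h2 := huniq (e * y) (E₁.mul_mem he hy) h1
      exact mul_eq_right.mp h2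
    · right; exact huniq e he hen
  have hcard : Nat.card ↥E₁ ≤ 2 := by
    classical
    let f : ↥E₁ → Bool := fun e => decide ((e : G) = 1)
    have hf : Function.Injective f := by
      intro e₁ e₂ he
      apply Subtype.ext
      rcases hall e₁ e₁.2 with h1 | h1 <;> rcases hall e₂ e₂.2 with h2 | h2
      · rw [h1, h2]
      · exfalso
        have hy1 : y ≠ 1 := fun hy1 => hym (hy1 ▸ Subgroup.one_mem _)
        simp only [f, h1, h2, decide_true] at he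
        exact hy1 (of_decide_eq_true he.symm)
      · exfalso
        have hy1 : y ≠ 1 := fun hy1 => hym (hy1 ▸ Subgroup.one_mem _)
        simp only [f, h1, h2, decide_true] at he
        exact hy1 (of_decide_eq_true he)
      · rw [h1, h2]
    have := Nat.card_le_card_of_injective f hf
    simpa using this
  have := h.hc₁
  omega

/-- The main theorem, by induction on the order of `E₁ ⊔ E₂`. -/
theorem main_aux (hV : IsElementaryAbelian p V) (n : ℕ) :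
    ∀ E₁ E₂ : Subgroup G, Nat.card ↥(E₁ ⊔ E₂) = n → Pair p V E₁ E₂ → Concl V E₁ E₂ := by
  induction n using Nat.strong_induction_on with
  | _ n ih =>
    intro E₁ E₂ hn h
    have IH : ∀ F₁ F₂ : Subgroup G, Nat.card ↥(F₁ ⊔ F₂) < Nat.card ↥(E₁ ⊔ E₂) → Pair p V F₁ F₂ →
        Concl V F₁ F₂ := fun F₁ F₂ hlt hP => ih _ (hn ▸ hlt) F₁ F₂ rfl hP
    by_cases h1 : E₂ ≤ Subgroup.normalizer ((⁅V, E₁⁆ : Subgroup G) : Set G)
    · exact h.of_invariant hV h1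
    by_cases h2 : E₁ ≤ Subgroup.normalizer ((⁅V, E₂⁆ : Subgroup G) : Set G)
    · exact (h.symm.of_invariant hV h2).symm
    exfalso
    obtain ⟨x, hx, hxm⟩ := SetLike.not_le_iff_exists.mp h1
    obtain ⟨y, hy, hym⟩ := SetLike.not_le_iff_exists.mp h2
    exact h.moved_false hV IH hx hxm hy hym

theorem main (hV : IsElementaryAbelian p V) (h : Pair p V E₁ E₂) : Concl V E₁ E₂ :=
  main_aux hV _ E₁ E₂ rfl h

end Cfsg.Agent.Lib.Helper62_SubnPair
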