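import Cfsg.Agent.Lib.Helper22_QConstraint
import Cfsg.Agent.Lib.Helper24_Coprime
import Cfsg.Agent.Lib.Helper22_Basic
import Cfsg.Agent.Lib.Helper62_SubnPair

set_option autoImplicit false
set_option linter.unusedSectionVars false
set_option linter.unusedVariables false

/-!
# Flavell-type control of `O_{q'}` of centralizers (helper62)

`L ⊴ G` solvable, `M = O_{q'}(L)`, `Q = O_{q',q}(L)` (images in `G`), `z` a `q`-element, `K` a `q'`-subgroup
centralized by `z` and normalized by `C_L(z)`.  Then `[L, K] ≤ M` and `K ∩ L ≤ M`.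
-/

namespace Cfsg.Agent.Lib.Helper62_Flavell

open Cfsg Subgroup
open scoped commutatorElement

variable {G : Type*} [Group G] [Finite G]

/-- image of `O_{q'}(L)` in `G` -/
def coreM (q : ℕ) (L : Subgroup G) : Subgroup G := (pPrimeCore q ↥L).map L.subtype

/-- image of `O_{q',q}(L)` in `G` -/
def coreQ (q : ℕ) (L : Subgroup G) : Subgroup G := (pPrimePCore q ↥L).map L.subtype

theorem coreM_le (q : ℕ) (L : Subgroup G) : coreM q L ≤ L := Subgroup.map_subtype_le _

theorem coreQ_le (q : ℕ) (L : Subgroup G) : coreQ q L ≤ L := Subgroup.map_subtype_le _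

theorem coreM_le_coreQ (q : ℕ) (L : Subgroup G) : coreM q L ≤ coreQ q L := by
  apply Subgroup.map_mono
  intro x hx
  rw [Cfsg.Agent.Lib.Helper23_PConstrained.mem_pPrimePCore_iff]
  have : QuotientGroup.mk' (pPrimeCore q ↥L) x = 1 := (QuotientGroup.eq_one_iff x).mpr hx
  rw [this]
  exact Subgroup.one_mem _

instance coreM_normal (q : ℕ) (L : Subgroup G) [L.Normal] : (coreM q L).Normal := by
  unfold coreM
  infer_instance

instance coreQ_normal (q : ℕ) [Fact q.Prime] (L : Subgroup G) [L.Normal] : (coreQ q L).Normal := by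
  unfold coreQ
  have : (pPrimePCore q ↥L).Characteristic := Cfsg.Agent.Lib.Helper22_QConstraint.pPrimePCore_char q
  infer_instance

theorem coreM_coprime (q : ℕ) (L : Subgroup G) : (Nat.card (coreM q L)).Coprime q := by
  rw [coreM, Subgroup.card_map_of_injective L.subtype_injective]
  exact Cfsg.Agent.Lib.Helper1_Cores.pPrimeCore_card_coprime q

/-- `Q / M` is a `q`-group -/
theorem exists_pow_mem_coreM (q : ℕ) [Fact q.Prime] (L : Subgroup G) {x : G} (hx : x ∈ coreQ q L) :
    ∃ k : ℕ, x ^ (q ^ k) ∈ coreM q L := by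
  obtain ⟨x', hx', rfl⟩ := hx
  have h1 : QuotientGroup.mk' (pPrimeCore q ↥L) x' ∈ pCore q (↥L ⧸ pPrimeCore q ↥L) :=
    (Cfsg.Agent.Lib.Helper23_PConstrained.mem_pPrimePCore_iff q x').mp hx'
  obtain ⟨k, hk⟩ := (Cfsg.Agent.Lib.Helper1_Cores.pCore_isPGroup (G := ↥L ⧸ pPrimeCore q ↥L) q) ⟨_, h1⟩
  have hk' : (QuotientGroup.mk' (pPrimeCore q ↥L) x') ^ (q ^ k) = 1 := by
    have := congrArg Subtype.val hk
    simpa using this
  rw [← map_pow] at hk'
  have h2 : x' ^ (q ^ k) ∈ pPrimeCore q ↥L := (QuotientGroup.eq_one_iff _).mp hk'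
  exact ⟨k, ⟨x' ^ (q ^ k), h2, by simp⟩⟩

/-- a `q'`-element of `Q` lies in `M` -/
theorem mem_coreM_of_coprime (q : ℕ) [Fact q.Prime] (L : Subgroup G) {x : G} (hx : x ∈ coreQ q L)
    (hcop : (orderOf x).Coprime q) : x ∈ coreM q L := by
  obtain ⟨k, hk⟩ := exists_pow_mem_coreM q L hx
  have h1 : (q ^ k).Coprime (orderOf x) := (Nat.Coprime.pow_right k hcop).symm
  obtain ⟨m, hm⟩ := exists_pow_eq_self_of_coprime h1
  rw [← hm]
  exact Subgroup.pow_mem _ hk m

/-- `q`-constraint -/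
theorem mem_coreQ_of_commute (q : ℕ) [Fact q.Prime] (L : Subgroup G) (hsol : Group.IsSolvable ↥L)
    {u : G} (hu : u ∈ L) (h : ∀ x ∈ coreQ q L, (u * x)⁻¹ * (x * u) ∈ coreM q L) : u ∈ coreQ q L := by
  refine ⟨⟨u, hu⟩, ?_, rfl⟩
  apply Cfsg.Agent.Lib.Helper22_QConstraint.mem_pPrimePCore_of_commute q
  intro x hx
  rw [← map_mul, ← map_mul]
  change ((⟨u, hu⟩ * x : ↥L) : ↥L ⧸ pPrimeCore q ↥L) = ((x * ⟨u, hu⟩ : ↥L) : ↥L ⧸ pPrimeCore q ↥L)
  rw [QuotientGroup.eq]
  obtain ⟨n, hn, hne⟩ := h (x : G) ⟨x, hx, rfl⟩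
  have : n = (⟨u, hu⟩ * x)⁻¹ * (x * ⟨u, hu⟩) := by
    apply Subtype.ext
    rw [← Subgroup.subtype_apply, hne]
    simp
  rw [← this]
  exact hn

theorem map_swap_eq_one {H : Type*} [Group H] (f : G →* H) {u x : G} (h : f u * f x = f x * f u) :
    f ((u * x)⁻¹ * (x * u)) = 1 := by
  rw [map_mul, map_inv, map_mul, map_mul, h, inv_mul_cancel]

theorem map_comm4 {H : Type*} [Group H] (f : G →* H) (k x : G) :
    f (k * x * k⁻¹ * x⁻¹) = f k * f x * (f k)⁻¹ * (f x)⁻¹ := by
  rw [map_mul, map_mul, map_mul, map_inv, map_inv]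

section main

variable (q : ℕ) [Fact q.Prime] (L : Subgroup G) [L.Normal]
  (z : G) (hz : ∃ k : ℕ, orderOf z = q ^ k)
  (K : Subgroup G) (hKq : (Nat.card K).Coprime q) (hKz : ∀ k ∈ K, k * z = z * k)
  (hKn : ∀ u ∈ L, u * z = z * u → u ∈ normalizer (K : Set G))

include hz hKq hKz hKn in
/-- Thompson `A × B` modulo `M`: `K` centralizes `Q / M`. -/
theorem stepA {k : G} (hk : k ∈ K) {u : G} (hu : u ∈ coreQ q L) :
    QuotientGroup.mk' (coreM q L) k * QuotientGroup.mk' (coreM q L) u =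
      QuotientGroup.mk' (coreM q L) u * QuotientGroup.mk' (coreM q L) k := by
  have hqp : q.Prime := Fact.out
  set M := coreM q L with hM
  set Q := coreQ q L with hQ
  set π := QuotientGroup.mk' M with hπ
  have hπs : Function.Surjective π := QuotientGroup.mk'_surjective M
  set a := π k with ha
  have hQn : (Q.map π).Normal := Subgroup.Normal.map inferInstance π hπs
  have hQp : IsPGroup q ↥(Q.map π) := by
    rintro ⟨_, x, hx, rfl⟩
    obtain ⟨n, hn⟩ := exists_pow_mem_coreM q L hx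
    refine ⟨n, ?_⟩
    apply Subtype.ext
    rw [Subgroup.coe_pow, Subgroup.coe_one, ← map_pow]
    exact (QuotientGroup.eq_one_iff _).mpr hn
  have hzp : IsPGroup q ↥(zpowers (π z)) := by
    obtain ⟨n, hn⟩ := hz
    have h1 : orderOf (π z) ∣ q ^ n := hn ▸ orderOf_map_dvd π z
    rw [IsPGroup.iff_card, Nat.card_zpowers]
    obtain ⟨j, _, hj⟩ := (Nat.dvd_prime_pow hqp).mp h1
    exact ⟨j, hj⟩
  set Hq : Subgroup (G ⧸ M) := Q.map π ⊔ zpowers (π z) with hHq
  have hHqp : IsPGroup q ↥Hq := IsPGroup.to_sup_of_normal_left hQp hzp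
  have hHqnil : Group.IsNilpotent ↥Hq := hHqp.isNilpotent
  have haz : a * π z = π z * a := by rw [ha, ← map_mul, ← map_mul, hKz k hk]
  have hazp : ∀ w ∈ zpowers (π z), a * w = w * a := by
    intro w hw
    obtain ⟨i, rfl⟩ := mem_zpowers_iff.mp hw
    exact (Commute.zpow_right (show Commute a (π z) from haz) i)
  have haq : (orderOf a).Coprime q := by
    have h1 : orderOf a ∣ Nat.card K := (orderOf_map_dvd π k).trans (Subgroup.orderOf_dvd_natCard K hk)
    exact Nat.Coprime.coprime_dvd_left h1 hKq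
  have hanorm : ∀ x ∈ Hq, a * x * a⁻¹ ∈ Hq := by
    intro x hx
    obtain ⟨y, hy, w, hw, rfl⟩ := mem_sup_of_normal_left.mp hx
    have e : a * (y * w) * a⁻¹ = a * y * a⁻¹ * w := by
      calc a * (y * w) * a⁻¹ = a * y * a⁻¹ * (a * w * a⁻¹) := by group
        _ = a * y * a⁻¹ * w := by rw [hazp w hw, mul_inv_cancel_right]
    rw [e]
    exact mul_mem (mem_sup_left (hQn.conj_mem y hy a)) (mem_sup_right hw)
  have hcop : (orderOf a).Coprime (Nat.card ↥Hq) := by
    obtain ⟨n, hn⟩ := IsPGroup.iff_card.mp hHqp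
    rw [hn]
    exact Nat.Coprime.pow_right n haq
  have hMQ : M ≤ Q := coreM_le_coreQ q L
  have hQL : Q ≤ L := coreQ_le q L
  have hzsolv : Group.IsSolvable ↥(zpowers z) := by
    apply Group.isSolvable_of_comm
    rintro ⟨x, hx⟩ ⟨y, hy⟩
    apply Subtype.ext
    obtain ⟨i, rfl⟩ := mem_zpowers_iff.mp hx
    obtain ⟨j, rfl⟩ := mem_zpowers_iff.mp hy
    exact (Commute.zpow_zpow_self z i j)
  have hzM : (Nat.card ↥(zpowers z)).Coprime (Nat.card ↥M) := by
    obtain ⟨n, hn⟩ := hz
    rw [Nat.card_zpowers, hn]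
    exact Nat.Coprime.pow_left n (coreM_coprime q L).symm
  have key := Cfsg.Agent.Lib.Helper24_Coprime.centralizes_of_nilpotent Hq hHqnil a hanorm hcop
    ({π z} : Set (G ⧸ M))
    (by
      intro b hb
      rw [Set.mem_singleton_iff] at hb
      rw [hb]
      exact mem_sup_right (mem_zpowers _))
    (by
      intro b hb
      rw [Set.mem_singleton_iff] at hb
      rw [hb]
      exact haz)
    (by
      intro x hx hxB
      obtain ⟨y, hy, w, hw, rfl⟩ := mem_sup_of_normal_left.mp hx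
      have hxz : y * w * π z = π z * (y * w) := hxB (π z) rfl
      have hwz : w * π z = π z * w := by
        obtain ⟨i, rfl⟩ := mem_zpowers_iff.mp hw
        exact (Commute.zpow_left (Commute.refl (π z)) i)
      have hyz : y * π z = π z * y := by
        have : y * π z * w = π z * y * w := by
          rw [mul_assoc, ← hwz, ← mul_assoc, hxz, mul_assoc]
        exact mul_right_cancel this
      obtain ⟨u₀, hu₀, rfl⟩ := hy
      -- lift to an element centralized by `z`
      have hfix : ∀ a' ∈ zpowers z, u₀⁻¹ * (a' * u₀ * a'⁻¹) ∈ M := by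
        intro a' ha'
        obtain ⟨i, rfl⟩ := mem_zpowers_iff.mp ha'
        apply (QuotientGroup.eq_one_iff _).mp
        have hc : Commute (π u₀) ((π z) ^ i) := Commute.zpow_right (show Commute (π u₀) (π z) from hyz) i
        change π (u₀⁻¹ * (z ^ i * u₀ * (z ^ i)⁻¹)) = 1
        rw [map_mul, map_mul, map_mul, map_inv, map_inv, map_zpow, ← hc.eq, mul_inv_cancel_right,
          inv_mul_cancel]
      obtain ⟨d, hd, hfixed⟩ := Cfsg.Agent.Lib.Helper24_CoprimeAction.exists_fixed_in_coset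
        (zpowers z) M (by rw [Subgroup.normalizer_eq_top]; exact le_top) hzM (Or.inl hzsolv) u₀ hfix
      have hu'z : (u₀ * d) * z = z * (u₀ * d) := (hfixed z (mem_zpowers z)).symm
      have hu'Q : u₀ * d ∈ Q := mul_mem hu₀ (hMQ hd)
      have hu'n : u₀ * d ∈ normalizer (K : Set G) := hKn _ (hQL hu'Q) hu'z
      have hcK : k * (u₀ * d) * k⁻¹ * (u₀ * d)⁻¹ ∈ K := by
        have h1 : (u₀ * d) * k⁻¹ * (u₀ * d)⁻¹ ∈ K :=
          (mem_normalizer_iff.mp hu'n k⁻¹).mp (K.inv_mem hk)
        have e : k * (u₀ * d) * k⁻¹ * (u₀ * d)⁻¹ = k * ((u₀ * d) * k⁻¹ * (u₀ * d)⁻¹) := by group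
        rw [e]
        exact K.mul_mem hk h1
      have hcQ : k * (u₀ * d) * k⁻¹ * (u₀ * d)⁻¹ ∈ Q := by
        have hQnorm : Q.Normal := by rw [hQ]; infer_instance
        exact Q.mul_mem (hQnorm.conj_mem _ hu'Q k) (Q.inv_mem hu'Q)
      have hcM : k * (u₀ * d) * k⁻¹ * (u₀ * d)⁻¹ ∈ M := by
        apply mem_coreM_of_coprime q L hcQ
        exact Nat.Coprime.coprime_dvd_left (Subgroup.orderOf_dvd_natCard K hcK) hKq
      have hπd : π d = 1 := (QuotientGroup.eq_one_iff _).mpr hd
      have hay : a * π u₀ = π u₀ * a := by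
        have h1 : π (k * (u₀ * d) * k⁻¹ * (u₀ * d)⁻¹) = 1 := (QuotientGroup.eq_one_iff _).mpr hcM
        rw [map_mul, map_mul, map_mul, map_inv, map_inv, map_mul, hπd, mul_one] at h1
        have h2 : a * π u₀ * a⁻¹ = π u₀ := by
          have := mul_inv_eq_one.mp h1
          exact this
        calc a * π u₀ = a * π u₀ * a⁻¹ * a := by group
          _ = π u₀ * a := by rw [h2]
      calc a * (π u₀ * w) = (a * π u₀) * w := by rw [mul_assoc]
        _ = π u₀ * (a * w) := by rw [hay, mul_assoc]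
        _ = π u₀ * w * a := by rw [hazp w hw, mul_assoc])
  exact key (π u) (mem_sup_left ⟨u, hu, rfl⟩)

include hz hKq hKz hKn in
/-- stability: `K` centralizes `L / M`. -/
theorem stepB (hsol : Group.IsSolvable ↥L) {k : G} (hk : k ∈ K) {x : G} (hx : x ∈ L) :
    QuotientGroup.mk' (coreM q L) k * QuotientGroup.mk' (coreM q L) x =
      QuotientGroup.mk' (coreM q L) x * QuotientGroup.mk' (coreM q L) k := by
  have hqp : q.Prime := Fact.out
  have hA := fun {k : G} (hk : k ∈ K) {u : G} (hu : u ∈ coreQ q L) =>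
    stepA q L z hz K hKq hKz hKn hk hu
  set M := coreM q L with hM
  set Q := coreQ q L with hQ
  set π := QuotientGroup.mk' M with hπ
  set a := π k with ha
  set xb := π x with hxb
  have hQnorm : Q.Normal := by rw [hQ]; infer_instance
  have hLn : L.Normal := inferInstance
  have haq : (orderOf a).Coprime q := by
    have h1 : orderOf a ∣ Nat.card K := (orderOf_map_dvd π k).trans (Subgroup.orderOf_dvd_natCard K hk)
    exact Nat.Coprime.coprime_dvd_left h1 hKq
  have hc0L : k * x * k⁻¹ * x⁻¹ ∈ L := L.mul_mem (hLn.conj_mem x hx k) (L.inv_mem hx)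
  -- the commutator centralizes `Q / M`
  have hcomm : ∀ y ∈ Q, Commute (π (k * x * k⁻¹ * x⁻¹)) (π y) := by
    intro y hy
    have hy1 : x⁻¹ * y * x ∈ Q := by
      have := hQnorm.conj_mem y hy x⁻¹
      rwa [inv_inv] at this
    have h1 : Commute a (π (x⁻¹ * y * x)) := hA hk hy1
    have h2 : Commute a (π y) := hA hk hy
    have h3 : π y = xb * π (x⁻¹ * y * x) * xb⁻¹ := by
      rw [hxb, ← map_inv, ← map_mul, ← map_mul]
      congr 1
      group
    have h4 : Commute (xb * a⁻¹ * xb⁻¹) (π y) := by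
      rw [h3]
      exact (Commute.conj_iff xb).mpr h1.inv_left
    have h5 : π (k * x * k⁻¹ * x⁻¹) = a * (xb * a⁻¹ * xb⁻¹) := by
      rw [map_comm4]
      change a * xb * a⁻¹ * xb⁻¹ = a * (xb * a⁻¹ * xb⁻¹)
      group
    rw [h5]
    exact h2.mul_left h4
  have hc0Q : k * x * k⁻¹ * x⁻¹ ∈ Q := by
    apply mem_coreQ_of_commute q L hsol hc0L
    intro y hy
    apply (QuotientGroup.eq_one_iff _).mp
    exact map_swap_eq_one π (hcomm y hy).eq
  have hac : a * π (k * x * k⁻¹ * x⁻¹) = π (k * x * k⁻¹ * x⁻¹) * a := hA hk hc0Q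
  obtain ⟨n, hn⟩ := exists_pow_mem_coreM q L hc0Q
  have hcn : (π (k * x * k⁻¹ * x⁻¹)) ^ (q ^ n) = 1 := by
    rw [← map_pow]
    exact (QuotientGroup.eq_one_iff _).mpr hn
  have hax : a * xb * a⁻¹ = π (k * x * k⁻¹ * x⁻¹) * xb := by
    rw [map_comm4]
    change a * xb * a⁻¹ = a * xb * a⁻¹ * xb⁻¹ * xb
    group
  exact Cfsg.Agent.Lib.Helper24_Coprime.commute_of_coprime_step a xb _ hac hax (q ^ n) hcn
    (Nat.Coprime.pow_right n haq)

include hz hKq hKz hKn in
/-- **`[L, K] ≤ O_{q'}(L)`**, elementwise. -/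
theorem comm_mem_coreM (hsol : Group.IsSolvable ↥L) {k : G} (hk : k ∈ K) {x : G} (hx : x ∈ L) :
    k * x * k⁻¹ * x⁻¹ ∈ coreM q L := by
  have h := stepB q L z hz K hKq hKz hKn hsol hk hx
  apply (QuotientGroup.eq_one_iff _).mp
  change QuotientGroup.mk' (coreM q L) (k * x * k⁻¹ * x⁻¹) = 1
  rw [map_comm4, h, mul_inv_cancel_right, mul_inv_cancel]

include hz hKq hKz hKn in
/-- **`K ∩ L ≤ O_{q'}(L)`**. -/
theorem inf_le_coreM (hsol : Group.IsSolvable ↥L) : K ⊓ L ≤ coreM q L := by
  rintro k ⟨hkK, hkL⟩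
  have hkQ : k ∈ coreQ q L := by
    apply mem_coreQ_of_commute q L hsol hkL
    intro y hy
    have h := stepA q L z hz K hKq hKz hKn hkK hy
    apply (QuotientGroup.eq_one_iff _).mp
    exact map_swap_eq_one (QuotientGroup.mk' (coreM q L)) h
  apply mem_coreM_of_coprime q L hkQ
  exact Nat.Coprime.coprime_dvd_left (Subgroup.orderOf_dvd_natCard K hkK) hKq

end main

/-! ### Normalizers of `coreM` -/

theorem le_normalizer_coreM (q : ℕ) (X : Subgroup G) :
    X ≤ normalizer ((coreM q X : Subgroup G) : Set G) := by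
  have : (pPrimeCore q ↥X).Normal := Cfsg.Agent.Lib.Helper1_Cores.pPrimeCore_normal q
  exact Cfsg.Agent.Lib.Helper22_CoreCentralizer.le_normalizer_map_subtype (pPrimeCore q ↥X)

/-- a `q'`-subgroup `N ≤ X` normalized by `X` lies in `O_{q'}(X)` -/
theorem le_coreM_of_normal (q : ℕ) {X N : Subgroup G} (hNX : N ≤ X)
    (hn : X ≤ normalizer (N : Set G)) (hcop : (Nat.card N).Coprime q) : N ≤ coreM q X := by
  have hnorm : (N.subgroupOf X).Normal := Subgroup.normal_subgroupOf_of_le_normalizer hn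
  have hc : (Nat.card (N.subgroupOf X)).Coprime q := by
    rw [Cfsg.Agent.Lib.Helper24_CoprimeAction.card_subgroupOf_of_le hNX]
    exact hcop
  have hle : N.subgroupOf X ≤ pPrimeCore q ↥X := le_sSup ⟨hnorm, hc⟩
  intro n hn'
  exact ⟨⟨n, hNX hn'⟩, hle (show (⟨n, hNX hn'⟩ : ↥X) ∈ N.subgroupOf X from hn'), rfl⟩

/-- the normalizer of `X` normalizes `O_{q'}(X)` -/
theorem normalizer_le_normalizer_coreM (q : ℕ) (X : Subgroup G) :
    normalizer (X : Set G) ≤ normalizer ((coreM q X : Subgroup G) : Set G) := by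
  apply Cfsg.Agent.Lib.Helper62_SubnPair.le_normalizer_of_conj_mem
  intro y hy n hn
  set N' : Subgroup G := (coreM q X).map (MulAut.conj y).toMonoidHom with hN'
  have hN'X : N' ≤ X := by
    rintro _ ⟨m, hm, rfl⟩
    exact (Subgroup.mem_normalizer_iff.mp hy m).mp (coreM_le q X hm)
  have hnorm : X ≤ normalizer (N' : Set G) := by
    apply Cfsg.Agent.Lib.Helper62_SubnPair.le_normalizer_of_conj_mem
    rintro h hh _ ⟨m, hm, rfl⟩
    have h1 : y⁻¹ * h * y ∈ X :=
      Cfsg.Agent.Lib.Helper62_SubnPair.conj_inv_mem_of_mem_normalizer hy hh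
    have h2 : (y⁻¹ * h * y) * m * (y⁻¹ * h * y)⁻¹ ∈ coreM q X :=
      (Subgroup.mem_normalizer_iff.mp (le_normalizer_coreM q X h1) m).mp hm
    refine ⟨_, h2, ?_⟩
    simp only [MulEquiv.coe_toMonoidHom, MulAut.conj_apply]
    group
  have hcop : (Nat.card N').Coprime q := by
    rw [hN', Subgroup.card_map_of_injective (MulAut.conj y).injective]
    exact coreM_coprime q X
  exact le_coreM_of_normal q hN'X hnorm hcop ⟨n, hn, by simp⟩

/-! ### The theorem -/

theorem mem_centralizer_singleton_iff' (x z : G) :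
    x ∈ centralizer ({z} : Set G) ↔ z * x = x * z := by
  constructor
  · intro hx
    exact Subgroup.mem_centralizer_iff.mp hx z rfl
  · intro hx
    refine Subgroup.mem_centralizer_iff.mpr ?_
    intro w hw
    rw [Set.mem_singleton_iff.mp hw]
    exact hx

theorem mem_normalizer_centralizer_singleton {g z : G} (h : g * z = z * g) :
    g ∈ normalizer ((centralizer ({z} : Set G) : Subgroup G) : Set G) := by
  have hz' : g * z * g⁻¹ = z := by rw [h, mul_inv_cancel_right]
  rw [Subgroup.mem_normalizer_iff]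
  intro x
  rw [mem_centralizer_singleton_iff', mem_centralizer_singleton_iff']
  have h1 : Commute (g * z * g⁻¹) (g * x * g⁻¹) ↔ Commute z x := Commute.conj_iff g
  rw [hz'] at h1
  exact h1.symm

theorem flavell {p : ℕ} [Fact p.Prime] (P : Sylow p G)
    (hPH : pPrimeCore p G ⊔ (P : Subgroup G) = ⊤)
    (hsol : Group.IsSolvable ↥⁅pPrimeCore p G, (P : Subgroup G)⁆)
    {q : ℕ} [Fact q.Prime] (z : G) (hzH : z ∈ pPrimeCore p G)
    (hzP : z ∈ centralizer ((P : Subgroup G) : Set G)) (hz : ∃ k : ℕ, orderOf z = q ^ k) :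
    (coreM q (pPrimeCore p G ⊓ centralizer ({z} : Set G)) ⊓
        coreM q (pPrimeCore p G ⊓ centralizer ((P : Subgroup G) : Set G))) ⊔
      ⁅coreM q (pPrimeCore p G ⊓ centralizer ({z} : Set G)), (P : Subgroup G)⁆ ≤
      coreM q (pPrimeCore p G) := by
  have hpp : p.Prime := Fact.out
  have hqp : q.Prime := Fact.out
  set H := pPrimeCore p G with hH
  set Pg : Subgroup G := (P : Subgroup G) with hPg
  have hHn : H.Normal := Cfsg.Agent.Lib.Helper1_Cores.pPrimeCore_normal p
  set L : Subgroup G := ⁅H, Pg⁆ with hL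
  have hLH : L ≤ H := Subgroup.commutator_le_left H Pg
  have hLn : L.Normal := by
    rw [← Subgroup.normalizer_eq_top_iff, eq_top_iff, ← hPH]
    exact sup_le (Cfsg.Agent.Lib.Helper22_Basic.le_normalizer_commutator_left H Pg)
      (Cfsg.Agent.Lib.Helper22_Basic.le_normalizer_commutator_right H Pg)
  set CHz : Subgroup G := H ⊓ centralizer ({z} : Set G) with hCHz
  set CHP : Subgroup G := H ⊓ centralizer (Pg : Set G) with hCHP
  set K := coreM q CHz with hK
  set E := coreM q CHP with hE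
  set M := coreM q L with hM
  set T := coreM q H with hT
  have hKq : (Nat.card K).Coprime q := coreM_coprime q CHz
  have hKCHz : K ≤ CHz := coreM_le q CHz
  have hKz : ∀ k ∈ K, k * z = z * k := by
    intro k hk
    exact (Subgroup.mem_centralizer_iff.mp (hKCHz hk).2 z rfl).symm
  have hKn : ∀ u ∈ L, u * z = z * u → u ∈ normalizer (K : Set G) := by
    intro u hu huz
    apply le_normalizer_coreM q CHz
    exact ⟨hLH hu, (mem_centralizer_singleton_iff' u z).mpr huz.symm⟩
  have hinf : K ⊓ L ≤ M := inf_le_coreM q L z hz K hKq hKz hKn hsol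
  have hB := fun {k : G} (hk : k ∈ K) {x : G} (hx : x ∈ L) =>
    stepB q L z hz K hKq hKz hKn hsol hk hx
  -- `M ≤ T`
  have hMn : M.Normal := by rw [hM]; infer_instance
  have hMT : M ≤ T := by
    apply le_coreM_of_normal q ((coreM_le q L).trans hLH)
    · rw [Subgroup.normalizer_eq_top]; exact le_top
    · exact coreM_coprime q L
  -- `P` normalizes `K`
  have hPK : Pg ≤ normalizer (K : Set G) := by
    intro g hg
    apply normalizer_le_normalizer_coreM q CHz
    apply Cfsg.Agent.Lib.Helper62_SubnPair.mem_normalizer_inf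
    · rw [Subgroup.normalizer_eq_top]; exact Subgroup.mem_top g
    · exact mem_normalizer_centralizer_singleton (Subgroup.mem_centralizer_iff.mp hzP g hg)
  -- part 1
  have part1 : ⁅K, Pg⁆ ≤ T := by
    have h1 : ⁅K, Pg⁆ ≤ K := Cfsg.Agent.Lib.Helper62_SubnPair.commutator_le_of_le_normalizer hPK
    have h2 : ⁅K, Pg⁆ ≤ L := Subgroup.commutator_mono (hKCHz.trans inf_le_left) le_rfl
    exact (le_inf h1 h2).trans (hinf.trans hMT)
  -- part 2
  set π := QuotientGroup.mk' M with hπ
  set Cmod : Subgroup G :=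
    (centralizer ((L.map π : Subgroup (G ⧸ M)) : Set (G ⧸ M))).comap π with hCmod
  have hCmodn : Cmod.Normal := by
    have h1 : (L.map π).Normal := Subgroup.Normal.map hLn π (QuotientGroup.mk'_surjective M)
    have h2 : (centralizer ((L.map π : Subgroup (G ⧸ M)) : Set (G ⧸ M))).Normal := inferInstance
    exact Subgroup.Normal.comap h2 π
  have hmemC : ∀ g, g ∈ Cmod ↔ ∀ x ∈ L, π g * π x = π x * π g := by
    intro g
    rw [hCmod, Subgroup.mem_comap]
    constructor
    · intro hg x hx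
      exact (Subgroup.mem_centralizer_iff.mp hg (π x) ⟨x, hx, rfl⟩).symm
    · intro hg
      refine Subgroup.mem_centralizer_iff.mpr ?_
      rintro _ ⟨x, hx, rfl⟩
      exact (hg x hx).symm
  have hKC : K ≤ Cmod := fun k hk => (hmemC k).mpr (fun x hx => hB hk hx)
  set E₀ : Subgroup G := E ⊓ Cmod with hE₀
  set N : Subgroup G := M ⊔ E₀ with hN
  have hNq : (Nat.card N).Coprime q := by
    have h1 : Nat.card N ∣ Nat.card E₀ * Nat.card M := by
      rw [hN, sup_comm]
      exact Cfsg.Agent.Lib.Helper1_Cores.card_sup_dvd E₀ M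
    have h2 : (Nat.card E₀).Coprime q :=
      Nat.Coprime.coprime_dvd_left (Subgroup.card_dvd_of_le inf_le_left) (coreM_coprime q CHP)
    exact Nat.Coprime.coprime_dvd_left h1 (Nat.Coprime.mul_left h2 (coreM_coprime q L))
  have hNH : N ≤ H :=
    sup_le ((coreM_le q L).trans hLH) (inf_le_left.trans ((coreM_le q CHP).trans inf_le_left))
  have hcomm_mem : ∀ e ∈ Cmod, ∀ x ∈ L, x * e * x⁻¹ * e⁻¹ ∈ M := by
    intro e he x hx
    apply (QuotientGroup.eq_one_iff _).mp
    change π (x * e * x⁻¹ * e⁻¹) = 1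
    rw [map_comm4, ← (hmemC e).mp he x hx, mul_inv_cancel_right, mul_inv_cancel]
  have hLN : L ≤ normalizer (N : Set G) := by
    apply Cfsg.Agent.Lib.Helper62_SubnPair.le_normalizer_of_conj_mem
    intro d hd n hn
    obtain ⟨m, hm, e, he, rfl⟩ := mem_sup_of_normal_left.mp hn
    have e1 : d * (m * e) * d⁻¹ = (d * m * d⁻¹) * (d * e * d⁻¹ * e⁻¹) * e := by group
    rw [e1]
    exact mul_mem (mul_mem (mem_sup_left (hMn.conj_mem m hm d))
      (mem_sup_left (hcomm_mem e he.2 d hd))) (mem_sup_right he)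
  have hCN : CHP ≤ normalizer (N : Set G) := by
    intro c hc
    apply Cfsg.Agent.Lib.Helper62_SubnPair.mem_normalizer_sup
    · rw [Subgroup.normalizer_eq_top]; exact mem_top c
    · apply Cfsg.Agent.Lib.Helper62_SubnPair.mem_normalizer_inf
      · exact le_normalizer_coreM q CHP hc
      · rw [Subgroup.normalizer_eq_top]; exact mem_top c
  have hPsolv : Group.IsSolvable ↥Pg := by
    have : Group.IsNilpotent ↥Pg := P.2.isNilpotent
    infer_instance
  have hPHcop : (Nat.card ↥Pg).Coprime (Nat.card ↥H) := by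
    obtain ⟨n, hn⟩ := IsPGroup.iff_card.mp P.2
    rw [hPg, hn]
    exact Nat.Coprime.pow_left n (Cfsg.Agent.Lib.Helper1_Cores.pPrimeCore_card_coprime p).symm
  have hHN : H ≤ normalizer (N : Set G) := by
    intro h hh
    obtain ⟨d, hd, c, hc, rfl⟩ := Cfsg.Agent.Lib.Helper24_CoprimeAction.coprime_decomp Pg H
      (by rw [Subgroup.normalizer_eq_top]; exact le_top) hPHcop (Or.inl hPsolv) hh
    exact mul_mem (hLN hd) (hCN hc)
  have hNT : N ≤ T := le_coreM_of_normal q hNH hHN hNq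
  have part2 : K ⊓ E ≤ T := fun g hg => hNT (mem_sup_right ⟨hg.2, hKC hg.1⟩)
  exact sup_le part2 part1

end Cfsg.Agent.Lib.Helper62_Flavell
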