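import Mathlib
import Cfsg.Agent.Lib.Helper62_S2490_Defs

/-!
# S2490: numerical lemmas about groups of order dividing `7920 = 2^4 · 3^2 · 5 · 11`
-/

set_option autoImplicit false
open Cfsg.Agent.Lib.Helper62_S2490_Defs

namespace Cfsg.Agent.Lib.Helper62_S2490_Num

theorem fact11 : Fact (Nat.Prime 11) := ⟨by norm_num⟩

theorem fact2 : Fact (Nat.Prime 2) := ⟨by norm_num⟩

theorem fac_eq {p k c : ℕ} (hp : p.Prime) (hc : ¬ p ∣ c) : (p ^ k * c).factorization p = k := by
  have : Fact p.Prime := ⟨hp⟩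
  have hc0 : c ≠ 0 := fun h => hc (h ▸ dvd_zero p)
  rw [Nat.factorization_def _ hp, padicValNat.mul (pow_ne_zero _ hp.ne_zero) hc0,
    padicValNat.prime_pow, padicValNat.eq_zero_of_not_dvd hc, add_zero]

/-- Orders of the Sylow subgroups of a group of order 7920. -/
theorem sylow_card {G : Type*} [Group G] [Finite G] (hord : Nat.card G = 7920) {q : ℕ}
    [Fact q.Prime] (Q : Sylow q G) :
    (q = 2 → Nat.card Q = 16) ∧ (q = 3 → Nat.card Q = 9) ∧ (q = 5 → Nat.card Q = 5) ∧
      (q = 11 → Nat.card Q = 11) := by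
  have h := Q.card_eq_multiplicity
  rw [hord] at h
  have f2 : (7920 : ℕ).factorization 2 = 4 := by
    have := fac_eq (p := 2) (k := 4) (c := 495) (by norm_num) (by norm_num)
    norm_num at this
    exact this
  have f3 : (7920 : ℕ).factorization 3 = 2 := by
    have := fac_eq (p := 3) (k := 2) (c := 880) (by norm_num) (by norm_num)
    norm_num at this
    exact this
  have f5 : (7920 : ℕ).factorization 5 = 1 := by
    have := fac_eq (p := 5) (k := 1) (c := 1584) (by norm_num) (by norm_num)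
    norm_num at this
    exact this
  have f11 : (7920 : ℕ).factorization 11 = 1 := by
    have := fac_eq (p := 11) (k := 1) (c := 720) (by norm_num) (by norm_num)
    norm_num at this
    exact this
  refine ⟨?_, ?_, ?_, ?_⟩ <;> intro hq' <;> subst hq'
  · rw [h, f2]; norm_num
  · rw [h, f3]; norm_num
  · rw [h, f5]; norm_num
  · rw [h, f11]; norm_num

/-- A prime dividing 7920. -/
theorem prime_cases {q : ℕ} (hq : q.Prime) (hd : q ∣ 7920) : q = 2 ∨ q = 3 ∨ q = 5 ∨ q = 11 := by
  have e : (7920 : ℕ) = 2 ^ 4 * 3 ^ 2 * 5 * 11 := by norm_num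
  rw [e] at hd
  rcases (Nat.Prime.dvd_mul hq).1 hd with h | h
  · rcases (Nat.Prime.dvd_mul hq).1 h with h | h
    · rcases (Nat.Prime.dvd_mul hq).1 h with h | h
      · left; exact (Nat.prime_dvd_prime_iff_eq hq (by norm_num)).1 (hq.dvd_of_dvd_pow h)
      · right; left; exact (Nat.prime_dvd_prime_iff_eq hq (by norm_num)).1 (hq.dvd_of_dvd_pow h)
    · right; right; left; exact (Nat.prime_dvd_prime_iff_eq hq (by norm_num)).1 h
  · right; right; right; exact (Nat.prime_dvd_prime_iff_eq hq (by norm_num)).1 h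

/-- The possible orders of a nontrivial `r`-subgroup of a group of order 7920. -/
theorem pgroup_card_cases {G : Type*} [Group G] [Finite G] (hord : Nat.card G = 7920) {r : ℕ}
    (hr : r.Prime) (Y : Subgroup G) (hY : IsPGroup r Y) (hne : Y ≠ ⊥) :
    (r = 2 ∧ (Nat.card Y = 2 ∨ Nat.card Y = 4 ∨ Nat.card Y = 8 ∨ Nat.card Y = 16)) ∨
    (r = 3 ∧ (Nat.card Y = 3 ∨ Nat.card Y = 9)) ∨ (r = 5 ∧ Nat.card Y = 5) ∨
    (r = 11 ∧ Nat.card Y = 11) := by
  have : Fact r.Prime := ⟨hr⟩
  obtain ⟨k, hk⟩ := IsPGroup.iff_card.1 hY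
  have hd : Nat.card Y ∣ 7920 := hord ▸ Subgroup.card_subgroup_dvd_card Y
  have hk0 : k ≠ 0 := by
    rintro rfl
    rw [pow_zero] at hk
    exact hne (Subgroup.card_eq_one.1 hk)
  rw [hk] at hd ⊢
  have hrd : r ∣ 7920 := dvd_trans (dvd_pow_self r hk0) hd
  rcases prime_cases hr hrd with rfl | rfl | rfl | rfl
  · left
    refine ⟨rfl, ?_⟩
    have hk4 : k ≤ 4 := by
      by_contra hcon
      push Not at hcon
      have : 2 ^ 5 ∣ 7920 := dvd_trans (pow_dvd_pow 2 hcon) hd
      norm_num at this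
    interval_cases k <;> simp_all
  · right; left
    refine ⟨rfl, ?_⟩
    have hk4 : k ≤ 2 := by
      by_contra hcon
      push Not at hcon
      have : 3 ^ 3 ∣ 7920 := dvd_trans (pow_dvd_pow 3 hcon) hd
      norm_num at this
    interval_cases k <;> simp_all
  · right; right; left
    refine ⟨rfl, ?_⟩
    have hk4 : k ≤ 1 := by
      by_contra hcon
      push Not at hcon
      have : 5 ^ 2 ∣ 7920 := dvd_trans (pow_dvd_pow 5 hcon) hd
      norm_num at this
    interval_cases k <;> simp_all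
  · right; right; right
    refine ⟨rfl, ?_⟩
    have hk4 : k ≤ 1 := by
      by_contra hcon
      push Not at hcon
      have : 11 ^ 2 ∣ 7920 := dvd_trans (pow_dvd_pow 11 hcon) hd
      norm_num at this
    interval_cases k <;> simp_all

/-- The Frobenius-type divisibility for a Sylow `q`-subgroup, `q` opposite `r`. -/
theorem sylow_dvd_pred {G : Type*} [Group G] [Finite G] (hord : Nat.card G = 7920) {A : Set ℕ}
    (hA : NoMix G A) {r q : ℕ} (hr : r.Prime) (hq : q.Prime) (hopp : Opp A r q)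
    (Y : Subgroup G) (hYn : Y.Normal) (hY : IsPGroup r Y) :
    (q = 2 → 16 ∣ Nat.card Y - 1) ∧ (q = 3 → 9 ∣ Nat.card Y - 1) ∧ (q = 5 → 5 ∣ Nat.card Y - 1) ∧
      (q = 11 → 11 ∣ Nat.card Y - 1) := by
  have : Fact r.Prime := ⟨hr⟩
  have : Fact q.Prime := ⟨hq⟩
  obtain ⟨Q⟩ : Nonempty (Sylow q G) := inferInstance
  have h := card_dvd_pred_of_opp hA hopp Y (Q : Subgroup G) hY Q.isPGroup'
  obtain ⟨c2, c3, c5, c11⟩ := sylow_card hord Q
  refine ⟨fun e => ?_, fun e => ?_, fun e => ?_, fun e => ?_⟩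
  · rw [← c2 e]; exact h
  · rw [← c3 e]; exact h
  · rw [← c5 e]; exact h
  · rw [← c11 e]; exact h

theorem cases_of_dvd_720 {n : ℕ} (hd : n ∣ 720) (hm : n ≡ 1 [MOD 11]) :
    n = 1 ∨ n = 12 ∨ n = 45 ∨ n = 144 := by
  have h : n ∈ Nat.divisors 720 := Nat.mem_divisors.2 ⟨hd, by norm_num⟩
  simp only [Nat.divisors_ofNat, Finset.mem_insert, Finset.mem_singleton] at h
  unfold Nat.ModEq at hm
  rcases h with rfl | rfl | rfl | rfl | rfl | rfl | rfl | rfl | rfl | rfl | rfl | rfl | rfl |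
    rfl | rfl | rfl | rfl | rfl | rfl | rfl | rfl | rfl | rfl | rfl | rfl | rfl | rfl | rfl |
    rfl | rfl <;> omega

/-- `H` of order dividing 7920 and divisible by 11: a Sylow 11-subgroup has order 11. -/
theorem sylow11_card {H : Type*} [Group H] [Finite H] (hcard : Nat.card H ∣ 7920)
    (h11 : 11 ∣ Nat.card H) (P : Sylow 11 H) : Nat.card P = 11 := by
  have := fact11
  obtain ⟨c, hc⟩ := h11
  have hc11 : ¬ 11 ∣ c := by
    intro h
    have : 11 * 11 ∣ 7920 := dvd_trans (by rw [hc]; exact Nat.mul_dvd_mul_left 11 h) hcard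
    norm_num at this
  have h := P.card_eq_multiplicity
  have := fac_eq (p := 11) (k := 1) (c := c) (by norm_num) hc11
  rw [pow_one, ← hc] at this
  rw [h, this, pow_one]

/-- The number of Sylow 11-subgroups. -/
theorem card_sylow11_cases {H : Type*} [Group H] [Finite H] (hcard : Nat.card H ∣ 7920)
    (h11 : 11 ∣ Nat.card H) :
    Nat.card (Sylow 11 H) = 1 ∨ Nat.card (Sylow 11 H) = 12 ∨ Nat.card (Sylow 11 H) = 45 ∨
      Nat.card (Sylow 11 H) = 144 := by
  have := fact11
  obtain ⟨P⟩ : Nonempty (Sylow 11 H) := inferInstance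
  have h1 : Nat.card (Sylow 11 H) ∣ (P : Subgroup H).index := Sylow.card_dvd_index P
  have h2 : Nat.card P * (P : Subgroup H).index = Nat.card H := (P : Subgroup H).card_mul_index
  rw [sylow11_card hcard h11 P] at h2
  have h3 : 11 * (P : Subgroup H).index ∣ 11 * 720 := by rw [h2]; exact hcard
  have h4 : (P : Subgroup H).index ∣ 720 := Nat.dvd_of_mul_dvd_mul_left (by norm_num) h3
  exact cases_of_dvd_720 (dvd_trans h1 h4) (card_sylow_modEq_one 11 H)

end Cfsg.Agent.Lib.Helper62_S2490_Num
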