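import Mathlib
import Cfsg.Agent.Lib.Helper62_S2490_Defs

/-!
# S2490-B2 (helper84; package of helper62's S2490 architecture)
A group of order 7920 with `NoMix`, `11` opposite `5`, and no normal subgroup of order `11` has no
normal subgroup of order `16`.
-/

set_option autoImplicit false
open Cfsg.Agent.Lib.Helper62_S2490_Defs

namespace Cfsg.Agent.Lib.Helper84_S2490_B2

/-- a subgroup of prime power order `p ^ k` dividing `n` with `p ∣ card` and `p ^ 2 ∤ n` has order `p` -/
theorem card_eq_prime_of_pgroup {G : Type*} [Group G] [Finite G] {p : ℕ} [hp : Fact p.Prime]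
    (P : Sylow p G) (hdvd : p ∣ Nat.card G) (hsq : ¬ p ^ 2 ∣ Nat.card G) : Nat.card P = p := by
  obtain ⟨k, hk⟩ := P.2.exists_card_eq
  have h1 : p ∣ Nat.card P := P.dvd_card_of_dvd_card hdvd
  have h2 : Nat.card P ∣ Nat.card G := Subgroup.card_subgroup_dvd_card _
  rw [hk] at h1 h2 ⊢
  have hk1 : k ≠ 0 := by
    rintro rfl
    rw [pow_zero, Nat.dvd_one] at h1
    exact hp.out.one_lt.ne' h1
  have hk2 : k < 2 := by
    by_contra hge
    exact hsq (dvd_trans (pow_dvd_pow p (not_lt.mp hge)) h2)
  have : k = 1 := by omega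
  rw [this, pow_one]

/-- in a subgroup of prime order, a nonidentity element has that order and generates -/
theorem orderOf_eq_of_card_prime {G : Type*} [Group G] {p : ℕ} (hp : p.Prime) (P : Subgroup G)
    (hP : Nat.card P = p) {z : G} (hz : z ∈ P) (hz1 : z ≠ 1) :
    orderOf z = p ∧ Subgroup.zpowers z = P := by
  have hfin : Finite P := Nat.finite_of_card_ne_zero (by rw [hP]; exact hp.pos.ne')
  have h1 : orderOf z ∣ p := by
    have := orderOf_dvd_natCard (⟨z, hz⟩ : P)
    rw [hP, Subgroup.orderOf_mk] at this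
    exact this
  have ho : orderOf z = p := by
    rcases (Nat.dvd_prime hp).1 h1 with h | h
    · exact absurd (orderOf_eq_one_iff.1 h) hz1
    · exact h
  refine ⟨ho, ?_⟩
  apply Subgroup.eq_of_le_of_card_ge (Subgroup.zpowers_le.2 hz)
  rw [hP, Nat.card_zpowers, ho]

theorem exists_ne_one_of_card {G : Type*} [Group G] (P : Subgroup G) (hP : 1 < Nat.card P) :
    ∃ z ∈ P, z ≠ 1 := by
  have hfin : Finite P := Nat.finite_of_card_ne_zero (by omega)
  by_contra hcon
  push Not at hcon
  have : P = ⊥ := by
    rw [Subgroup.eq_bot_iff_forall]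
    exact hcon
  rw [this, Subgroup.card_bot] at hP
  omega

/-- S2490-B2. A normal subgroup of order 16 is impossible (given that there is no
normal subgroup of order 11). -/
theorem no_normal_16 {G : Type*} [Group G] [Finite G] (hord : Nat.card G = 7920) (A : Set ℕ)
    (hA : NoMix G A) (hopp : Opp A 11 5)
    (h11 : ∀ Z : Subgroup G, Z.Normal → Nat.card Z ≠ 11)
    (Y : Subgroup G) (hYn : Y.Normal) (hY : Nat.card Y = 16) : False := by
  classical
  have hp11 : Fact (Nat.Prime 11) := ⟨by norm_num⟩
  have hp5 : Fact (Nat.Prime 5) := ⟨by norm_num⟩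
  obtain ⟨P⟩ : Nonempty (Sylow 11 G) := inferInstance
  have hPcard : Nat.card P = 11 :=
    card_eq_prime_of_pgroup P (by rw [hord]; norm_num) (by rw [hord]; norm_num)
  obtain ⟨z, hzP, hz1⟩ := exists_ne_one_of_card (P : Subgroup G) (by rw [hPcard]; norm_num)
  obtain ⟨hzo, hzP'⟩ := orderOf_eq_of_card_prime (by norm_num) (P : Subgroup G) hPcard hzP hz1
  -- `z` centralizes `Y`
  have hzY : ∀ w ∈ Y, z * w = w * z :=
    commute_of_small z hzo Y (by right; right; right; right; right; right; exact hY)
      (fun w hw => hYn.conj_mem w hw z)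
  have hYC : Y ≤ Subgroup.centralizer ((P : Subgroup G) : Set G) := by
    intro y hy
    rw [Subgroup.mem_centralizer_iff]
    intro x hx
    rw [SetLike.mem_coe, ← hzP'] at hx
    obtain ⟨i, rfl⟩ := Subgroup.mem_zpowers_iff.1 hx
    exact ((show Commute z y from hzY y hy).zpow_left i).eq
  have hPC : (P : Subgroup G) ≤ Subgroup.centralizer ((P : Subgroup G) : Set G) := by
    intro x hx
    rw [Subgroup.mem_centralizer_iff]
    intro w hw
    rw [SetLike.mem_coe, ← hzP'] at hw
    rw [← hzP'] at hx
    obtain ⟨i, rfl⟩ := Subgroup.mem_zpowers_iff.1 hx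
    obtain ⟨j, rfl⟩ := Subgroup.mem_zpowers_iff.1 hw
    exact (((Commute.refl z).zpow_left j).zpow_right i).eq
  obtain ⟨C, hC⟩ : ∃ C, C = Subgroup.centralizer ((P : Subgroup G) : Set G) := ⟨_, rfl⟩
  obtain ⟨N, hN⟩ : ∃ N, N = Subgroup.normalizer ((P : Subgroup G) : Set G) := ⟨_, rfl⟩
  have hCN : C ≤ N := by rw [hC, hN]; exact Subgroup.centralizer_le_normalizer _
  have h176C : 176 ∣ Nat.card C := by
    have h16 : 16 ∣ Nat.card C := by rw [← hY, hC]; exact Subgroup.card_dvd_of_le hYC
    have h11' : 11 ∣ Nat.card C := by rw [← hPcard, hC]; exact Subgroup.card_dvd_of_le hPC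
    exact (Nat.Coprime.mul_dvd_of_dvd_of_dvd (by norm_num : Nat.Coprime 16 11) h16 h11')
  have h176N : 176 ∣ Nat.card N := dvd_trans h176C (Subgroup.card_dvd_of_le hCN)
  have hn : Nat.card (Sylow 11 G) = N.index := by rw [hN]; exact Sylow.card_eq_index_normalizer P
  have hidx : N.index * Nat.card N = 7920 := by rw [← hord]; exact Subgroup.index_mul_card N
  have hmod : Nat.card (Sylow 11 G) ≡ 1 [MOD 11] := card_sylow_modEq_one 11 G
  obtain ⟨m, hm⟩ := h176N
  have hn45 : N.index * m = 45 := by
    rw [hm] at hidx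
    have : 176 * (N.index * m) = 176 * 45 := by
      have e : 176 * (N.index * m) = N.index * (176 * m) := by ring
      rw [e, hidx]
    exact Nat.eq_of_mul_eq_mul_left (by norm_num) this
  have hcases : N.index = 1 ∨ N.index = 45 := by
    have hdvd : N.index ∣ 45 := ⟨m, hn45.symm⟩
    have hle : N.index ≤ 45 := Nat.le_of_dvd (by norm_num) hdvd
    rw [hn] at hmod
    have hpos : 0 < N.index := Nat.pos_of_dvd_of_pos hdvd (by norm_num)
    unfold Nat.ModEq at hmod
    generalize N.index = k at *
    interval_cases k <;> omega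
  rcases hcases with h1 | h45
  · -- `P` is normal
    have hNtop : N = ⊤ := Subgroup.index_eq_one.mp h1
    have hPn : (P : Subgroup G).Normal := by
      rw [hN] at hNtop
      exact Subgroup.normalizer_eq_top_iff.mp hNtop
    exact h11 _ hPn hPcard
  · -- `N_G(P) = C_G(P)` and Burnside transfer
    have hNcard : Nat.card N = 176 := by
      rw [h45] at hidx
      omega
    have hCcard : Nat.card C = 176 := by
      have h1 : Nat.card C ∣ 176 := hNcard ▸ Subgroup.card_dvd_of_le hCN
      exact Nat.dvd_antisymm h1 h176C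
    have hCeqN : C = N := Subgroup.eq_of_le_of_card_ge hCN (by rw [hCcard, hNcard])
    have hNC : Subgroup.normalizer (P : Set G) ≤ Subgroup.centralizer (P : Set G) := by
      have : N ≤ C := hCeqN.ge
      rw [hN, hC] at this
      exact this
    have hcompl := MonoidHom.ker_transferSylow_isComplement' P hNC
    obtain ⟨K, hK⟩ : ∃ K, K = (MonoidHom.transferSylow P hNC).ker := ⟨_, rfl⟩
    rw [← hK] at hcompl
    have hKn : K.Normal := by rw [hK]; infer_instance
    have hKcard : Nat.card K = 720 := by
      have := hcompl.card_mul_card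
      rw [hord] at this
      have hP' : Nat.card (P : Subgroup G) = 11 := hPcard
      rw [hP'] at this
      omega
    obtain ⟨W5, hW5⟩ := exists_normalized_sylow K (by norm_num : Nat.Prime 11) z hzo
      (by rw [hKcard]; norm_num) 5
    have hW5card : Nat.card W5 = 5 :=
      card_eq_prime_of_pgroup W5 (by rw [hKcard]; norm_num) (by rw [hKcard]; norm_num)
    obtain ⟨W, hW⟩ : ∃ W, W = (W5 : Subgroup K).map K.subtype := ⟨_, rfl⟩
    have hWcard : Nat.card W = 5 := by
      rw [hW, Subgroup.card_map_of_injective K.subtype_injective]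
      exact hW5card
    have hWn : ∀ w ∈ W, z * w * z⁻¹ ∈ W := by
      intro w hw
      rw [hW] at hw ⊢
      obtain ⟨k, hk, rfl⟩ := Subgroup.mem_map.1 hw
      exact Subgroup.mem_map.2 ⟨_, hW5 k hk, rfl⟩
    have hWfin : Finite W := Nat.finite_of_card_ne_zero (by rw [hWcard]; norm_num)
    have hzW : ∀ w ∈ W, z * w = w * z :=
      commute_of_small z hzo W (by right; right; right; left; exact hWcard) hWn
    obtain ⟨x, hxW, hx1⟩ := exists_ne_one_of_card W (by rw [hWcard]; norm_num)
    obtain ⟨hxo, -⟩ := orderOf_eq_of_card_prime (by norm_num) W hWcard hxW hx1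
    exact hA.not_commute (by norm_num) (by norm_num) hopp hzo hxo (hzW x hxW)

end Cfsg.Agent.Lib.Helper84_S2490_B2
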