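import Mathlib
import Cfsg.Agent.Lib.Helper62_S2490_Defs

set_option autoImplicit false

/-!
A group of order 7920 in which no element has order a product of two primes from opposite sides of a set of
primes, with 5 opposite to 11 and 2, 3 not opposite to 11, has no normal subgroup of order 11.
-/

namespace Cfsg.Agent.Lib.Helper88_S2490_B11

open Cfsg.Agent.Lib.Helper62_S2490_Defs

/-- a prime divisor of `1584 = 2 ^ 4 * 3 ^ 2 * 11` is `2`, `3` or `11` -/
theorem prime_dvd_1584 {b : ℕ} (hb : b.Prime) (h : b ∣ 1584) : b = 2 ∨ b = 3 ∨ b = 11 := by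
  have h1 : (1584 : ℕ) = 2 ^ 4 * 3 ^ 2 * 11 := by norm_num
  rw [h1] at h
  rcases (hb.dvd_mul).1 h with h | h
  · rcases (hb.dvd_mul).1 h with h | h
    · left
      exact (Nat.prime_dvd_prime_iff_eq hb Nat.prime_two).1 (hb.dvd_of_dvd_pow h)
    · right; left
      exact (Nat.prime_dvd_prime_iff_eq hb Nat.prime_three).1 (hb.dvd_of_dvd_pow h)
  · right; right
    exact (Nat.prime_dvd_prime_iff_eq hb (by norm_num)).1 h

/-- S2490-B11. A normal subgroup of order 11 is impossible. -/
theorem no_normal_11 {G : Type*} [Group G] [Finite G] (hord : Nat.card G = 7920) (A : Set ℕ)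
    (hA : NoMix G A) (hopp : Opp A 11 5) (h2 : ¬ Opp A 11 2) (h3 : ¬ Opp A 11 3)
    (Y : Subgroup G) (hYn : Y.Normal) (hY : Nat.card Y = 11) : False := by
  classical
  have hp11 : Nat.Prime 11 := by norm_num
  have hp5 : Nat.Prime 5 := by norm_num
  have : Fact (Nat.Prime 11) := ⟨hp11⟩
  have : Fact (Nat.Prime 5) := ⟨hp5⟩
  obtain ⟨C, hC⟩ : ∃ C : Subgroup G, C = Subgroup.centralizer (Y : Set G) := ⟨_, rfl⟩
  have hCn : C.Normal := by
    rw [hC]
    infer_instance
  -- the index of the centralizer divides 10
  have hidx : C.index ∣ 10 := by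
    have key := Subgroup.card_dvd_of_injective _
      (QuotientGroup.kerLift_injective Y.normalizerMonoidHom)
    rw [Subgroup.normalizerMonoidHom_ker, ← Subgroup.index, ← Subgroup.relIndex] at key
    have hcyc : IsCyclic ↥Y := isCyclic_of_prime_card hY
    rw [hcyc.card_mulAut, hY, Nat.totient_prime hp11, Subgroup.normalizer_eq_top,
      Subgroup.relIndex_top_right, ← hC] at key
    exact key
  -- an element of order 11 in `Y`
  obtain ⟨y, hy⟩ := exists_prime_orderOf_dvd_card' (G := ↥Y) 11 (by rw [hY])
  have hyo : orderOf (y : G) = 11 := by rw [Subgroup.orderOf_coe]; exact hy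
  -- 5 does not divide the order of the centralizer
  have h5C : ¬ 5 ∣ Nat.card C := by
    intro h5
    obtain ⟨c, hc⟩ := exists_prime_orderOf_dvd_card' (G := ↥C) 5 h5
    have hco : orderOf (c : G) = 5 := by rw [Subgroup.orderOf_coe]; exact hc
    have hcomm : Commute (y : G) (c : G) := by
      have hcC : (c : G) ∈ Subgroup.centralizer (Y : Set G) := by
        rw [← hC]
        exact c.2
      exact Subgroup.mem_centralizer_iff.mp hcC (y : G) y.2
    exact hA.not_commute hp11 hp5 hopp hyo hco hcomm
  have hmul : Nat.card C * C.index = 7920 := by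
    rw [Subgroup.card_mul_index, hord]
  have hCcard : Nat.card C = 1584 ∨ Nat.card C = 792 := by
    have hpos : 0 < C.index := Nat.pos_of_ne_zero (fun h => by rw [h, mul_zero] at hmul; omega)
    have hle : C.index ≤ 10 := Nat.le_of_dvd (by norm_num) hidx
    generalize C.index = i at *
    generalize Nat.card C = c at *
    interval_cases i <;> omega
  have hC1584 : Nat.card C ∣ 1584 := by
    rcases hCcard with h | h <;> rw [h]
    exact ⟨2, by norm_num⟩
  -- an element of order 5 acting without fixed points on the centralizer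
  obtain ⟨x, hx⟩ := exists_prime_orderOf_dvd_card' (G := G) 5 (by rw [hord]; norm_num)
  have hn : ∀ w ∈ C, x * w * x⁻¹ ∈ C := fun w hw => hCn.conj_mem w hw x
  have hfpf : ∀ w ∈ C, x * w = w * x → w = 1 := by
    intro w hw hcomm
    by_contra hw1
    refine hA.false_of_commute (isOfFinOrder_of_finite x) (isOfFinOrder_of_finite w) ?_ hw1 hcomm ?_
    · intro h
      rw [h, orderOf_one] at hx
      omega
    · intro a b ha hb had hbd
      rw [hx] at had
      have ha5 : a = 5 := (Nat.prime_dvd_prime_iff_eq ha hp5).1 had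
      have hbC : b ∣ 1584 := by
        refine dvd_trans hbd (dvd_trans ?_ hC1584)
        have := orderOf_dvd_natCard (⟨w, hw⟩ : ↥C)
        rwa [Subgroup.orderOf_mk] at this
      rw [ha5]
      rcases prime_dvd_1584 hb hbC with h | h | h <;> rw [h]
      · exact hopp.symm.trans_not h2
      · exact hopp.symm.trans_not h3
      · exact hopp.symm
  have hmod := card_modEq_one_of_fpf hp5 x hx C hn hfpf
  rcases hCcard with h | h <;> rw [h] at hmod <;> exact absurd hmod (by decide)

end Cfsg.Agent.Lib.Helper88_S2490_B11
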