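import Mathlib
import Cfsg.Agent.Lib.Helper62_S2490_Defs
import Cfsg.Agent.Lib.Helper62_S2490_Num
import Cfsg.Agent.Lib.Helper88_S2490_B11
import Cfsg.Agent.Lib.Helper84_S2490_B2

/-!
# S2490-B: a group of order 7920 with `NoMix` has no nontrivial normal `r`-subgroup
-/

set_option autoImplicit false
open Cfsg.Agent.Lib.Helper62_S2490_Defs Cfsg.Agent.Lib.Helper62_S2490_Num

namespace Cfsg.Agent.Lib.Helper62_S2490_B

/-- PK-B. A group of order 7920 with `NoMix` (both sides nonempty) has no nontrivial normal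
`r`-subgroup. -/
theorem no_normal_pgroup {G : Type*} [Group G] [Finite G] (hord : Nat.card G = 7920) (A : Set ℕ)
    (hA : NoMix G A) (ha : ∃ a ∈ A, a.Prime ∧ a ∣ 7920) (hb : ∃ b ∉ A, b.Prime ∧ b ∣ 7920)
    (r : ℕ) (hr : r.Prime) (Y : Subgroup G) (hYn : Y.Normal) (hY : IsPGroup r Y) : Y = ⊥ := by
  obtain ⟨a, haA, hap, had⟩ := ha
  obtain ⟨b, hbA, hbp, hbd⟩ := hb
  -- every prime has an opposite prime dividing 7920
  have hex : ∀ r' : ℕ, ∃ q : ℕ, q.Prime ∧ q ∣ 7920 ∧ Opp A r' q := by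
    intro r'
    by_cases h : r' ∈ A
    · exact ⟨b, hbp, hbd, by unfold Opp; tauto⟩
    · exact ⟨a, hap, had, by unfold Opp; tauto⟩
  -- the key numerical fact, for any nontrivial normal `r'`-subgroup and any opposite prime
  have key : ∀ (r' q : ℕ), r'.Prime → q.Prime → q ∣ 7920 → Opp A r' q → ∀ Y' : Subgroup G,
      Y'.Normal → IsPGroup r' Y' → Y' ≠ ⊥ →
      q = 5 ∧ ((r' = 2 ∧ Nat.card Y' = 16) ∨ (r' = 11 ∧ Nat.card Y' = 11)) := by
    intro r' q hr' hq hqd hopp Y' hYn' hY' hne'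
    obtain ⟨d2, d3, d5, d11⟩ := sylow_dvd_pred hord hA hr' hq hopp Y' hYn' hY'
    have hne : r' ≠ q := hopp.ne
    rcases pgroup_card_cases hord hr' Y' hY' hne' with ⟨rfl, h | h | h | h⟩ | ⟨rfl, h | h⟩ |
        ⟨rfl, h⟩ | ⟨rfl, h⟩ <;>
      rcases prime_cases hq hqd with rfl | rfl | rfl | rfl <;>
      first
        | exact absurd rfl hne
        | exact ⟨rfl, Or.inl ⟨rfl, h⟩⟩
        | exact ⟨rfl, Or.inr ⟨rfl, h⟩⟩
        | (exfalso; have := d2 rfl; rw [h] at this; norm_num at this)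
        | (exfalso; have := d3 rfl; rw [h] at this; norm_num at this)
        | (exfalso; have := d5 rfl; rw [h] at this; norm_num at this)
        | (exfalso; have := d11 rfl; rw [h] at this; norm_num at this)
  -- no normal subgroup of order 11
  have no11 : ∀ Z : Subgroup G, Z.Normal → Nat.card Z ≠ 11 := by
    intro Z hZn hZ
    have p11 : Nat.Prime 11 := by norm_num
    have : Fact (Nat.Prime 11) := ⟨p11⟩
    have hZp : IsPGroup 11 Z := IsPGroup.of_card (n := 1) (by rw [hZ, pow_one])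
    have hZne : Z ≠ ⊥ := by
      rintro rfl
      rw [Subgroup.card_bot] at hZ
      norm_num at hZ
    obtain ⟨q, hq, hqd, hopp⟩ := hex 11
    obtain ⟨rfl, -⟩ := key 11 q p11 hq hqd hopp Z hZn hZp hZne
    have h2 : ¬ Opp A 11 2 := fun h =>
      absurd (key 11 2 p11 (by norm_num) (by norm_num) h Z hZn hZp hZne).1 (by norm_num)
    have h3 : ¬ Opp A 11 3 := fun h =>
      absurd (key 11 3 p11 (by norm_num) (by norm_num) h Z hZn hZp hZne).1 (by norm_num)
    exact Cfsg.Agent.Lib.Helper88_S2490_B11.no_normal_11 hord A hA hopp h2 h3 Z hZn hZ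
  by_contra hne
  obtain ⟨q, hq, hqd, hopp⟩ := hex r
  obtain ⟨rfl, ⟨rfl, h16⟩ | ⟨rfl, h11⟩⟩ := key r q hr hq hqd hopp Y hYn hY hne
  · have h11 : ¬ Opp A 2 11 := fun h =>
      absurd (key 2 11 hr (by norm_num) (by norm_num) h Y hYn hY hne).1 (by norm_num)
    have hopp' : Opp A 11 5 := by
      unfold Opp at *; tauto
    exact Cfsg.Agent.Lib.Helper84_S2490_B2.no_normal_16 hord A hA hopp' no11 Y hYn h16
  · exact no11 Y hYn h11

end Cfsg.Agent.Lib.Helper62_S2490_B
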