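import Mathlib
import Cfsg.Agent.Lib.Helper62_S2490_Defs
import Cfsg.Agent.Lib.Helper62_S2490_Num
import Cfsg.Agent.Lib.Helper49_S2490_T1

/-!
# S2490-CORE144: a perfect group of order dividing 7920 with 144 Sylow 11-subgroups has order 7920;
a group of order 990 is not perfect.
-/

set_option autoImplicit false
open Cfsg.Agent.Lib.Helper62_S2490_Defs Cfsg.Agent.Lib.Helper62_S2490_Num
open Cfsg.Agent.Lib.Helper49_S2490_T1

namespace Cfsg.Agent.Lib.Helper62_S2490_Core144

/-- A subgroup of order 11 is contained in its centralizer. -/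
theorem le_centralizer_of_card_eleven {H : Type*} [Group H] (P : Subgroup H)
    (hP : Nat.card P = 11) : P ≤ Subgroup.centralizer (P : Set H) := by
  have := fact11
  have hcyc : IsCyclic P := isCyclic_of_prime_card hP
  intro x hx
  rw [Subgroup.mem_centralizer_iff]
  intro y hy
  have := (IsCyclic.commGroup (α := P)).mul_comm ⟨y, hy⟩ ⟨x, hx⟩
  exact congrArg Subtype.val this

theorem core144 {H : Type*} [Group H] [Finite H] (hcard : Nat.card H ∣ 7920)
    (h11 : 11 ∣ Nat.card H) (hperf : commutator H = ⊤) (hn : Nat.card (Sylow 11 H) = 144) :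
    Nat.card H = 7920 := by
  have := fact11
  obtain ⟨P⟩ : Nonempty (Sylow 11 H) := inferInstance
  have hP : Nat.card P = 11 := sylow11_card hcard h11 P
  set N := Subgroup.normalizer ((P : Subgroup H) : Set H) with hN
  have h1 : Nat.card (Sylow 11 H) = N.index := Sylow.card_eq_index_normalizer P
  have h2 : Nat.card N * N.index = Nat.card H := N.card_mul_index
  rw [← h1, hn] at h2
  have hPN : (P : Subgroup H) ≤ N := Subgroup.le_normalizer
  have h3 : 11 ∣ Nat.card N := by
    rw [← hP]; exact Subgroup.card_dvd_of_le hPN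
  have h4 : Nat.card N ∣ 55 := by
    have : Nat.card N * 144 ∣ 55 * 144 := by rw [h2]; exact hcard
    exact Nat.dvd_of_mul_dvd_mul_right (by norm_num) this
  have h5 : Nat.card N = 11 ∨ Nat.card N = 55 := by
    have h : Nat.card N ∈ Nat.divisors 55 := Nat.mem_divisors.2 ⟨h4, by norm_num⟩
    simp only [Nat.divisors_ofNat, Finset.mem_insert, Finset.mem_singleton] at h
    rcases h with h | h | h | h
    · rw [h] at h3; norm_num at h3
    · rw [h] at h3; norm_num at h3
    · exact Or.inl h
    · exact Or.inr h
  rcases h5 with h5 | h5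
  · exfalso
    have hPeq : (P : Subgroup H) = N := by
      apply Subgroup.eq_of_le_of_card_ge hPN
      rw [h5]; exact hP.ge
    have hNC : N ≤ Subgroup.centralizer ((P : Subgroup H) : Set H) := by
      rw [← hPeq]
      exact le_centralizer_of_card_eleven (P : Subgroup H) hP
    have hPne : (P : Subgroup H) ≠ ⊥ := by
      intro h
      rw [h, Subgroup.card_bot] at hP
      norm_num at hP
    exact not_perfect_of_normalizer_le_centralizer P hPne hNC hperf
  · rw [← h2, h5]

/-- A group of order `990` is not perfect (Sylow 2-subgroup of order 2 + Burnside). -/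
theorem not_perfect_990 {H : Type*} [Group H] [Finite H] (hcard : Nat.card H = 990) :
    commutator H ≠ ⊤ := by
  have := fact2
  obtain ⟨S⟩ : Nonempty (Sylow 2 H) := inferInstance
  have hS : Nat.card S = 2 := by
    have h := S.card_eq_multiplicity
    have := fac_eq (p := 2) (k := 1) (c := 495) (by norm_num) (by norm_num)
    norm_num at this
    rw [h, hcard, this, pow_one]
  have hSne : (S : Subgroup H) ≠ ⊥ := by
    intro h
    rw [h, Subgroup.card_bot] at hS
    norm_num at hS
  apply not_perfect_of_normalizer_le_centralizer S hSne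
  intro g hg
  rw [Subgroup.mem_centralizer_iff]
  intro u hu
  by_cases hu1 : u = 1
  · subst hu1; simp
  · have hgu : g * u * g⁻¹ ∈ (S : Subgroup H) := (Subgroup.mem_normalizer_iff.1 hg u).1 hu
    have hgu1 : g * u * g⁻¹ ≠ 1 := by
      intro h
      apply hu1
      have : u = g⁻¹ * (g * u * g⁻¹) * g := by group
      rw [this, h]; group
    -- two non-identity elements of a group of order 2 coincide
    have key : ∀ a b : (S : Subgroup H), a ≠ 1 → b ≠ 1 → a = b := by
      intro a b ha hb
      obtain ⟨y, -, hy⟩ := (Nat.card_eq_two_iff' (1 : (S : Subgroup H))).1 hS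
      rw [hy a ha, hy b hb]
    have := key ⟨g * u * g⁻¹, hgu⟩ ⟨u, hu⟩ (fun h => hgu1 (congrArg Subtype.val h))
      (fun h => hu1 (congrArg Subtype.val h))
    have h2 : g * u * g⁻¹ = u := congrArg Subtype.val this
    calc u * g = (g * u * g⁻¹) * g := by rw [h2]
      _ = g * u := by group

end Cfsg.Agent.Lib.Helper62_S2490_Core144
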