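import Mathlib
import Cfsg.Agent.Lib.Helper62_S2490_Defs

set_option autoImplicit false

/-!
In a group of order dividing 7920 and divisible by 11, in which no element has order a product of two primes from
opposite sides of a set of primes, with some prime divisor of the order opposite to 11 and without nontrivial
normal subgroups of prime power order, every nontrivial normal subgroup has order divisible by 11.
-/

namespace Cfsg.Agent.Lib.Helper88_S2490_N11

open Cfsg.Agent.Lib.Helper62_S2490_Defs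

/-- a prime divisor of `720 = 2 ^ 4 * 3 ^ 2 * 5` is `2`, `3` or `5` -/
theorem prime_dvd_720 {b : ℕ} (hb : b.Prime) (h : b ∣ 720) : b = 2 ∨ b = 3 ∨ b = 5 := by
  have h1 : (720 : ℕ) = 2 ^ 4 * 3 ^ 2 * 5 := by norm_num
  rw [h1] at h
  rcases (hb.dvd_mul).1 h with h | h
  · rcases (hb.dvd_mul).1 h with h | h
    · left
      exact (Nat.prime_dvd_prime_iff_eq hb Nat.prime_two).1 (hb.dvd_of_dvd_pow h)
    · right; left
      exact (Nat.prime_dvd_prime_iff_eq hb Nat.prime_three).1 (hb.dvd_of_dvd_pow h)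
  · right; right
    exact (Nat.prime_dvd_prime_iff_eq hb (by norm_num)).1 h

theorem two_pow_dvd_720 {k : ℕ} (h : 2 ^ k ∣ 720) : k ≤ 4 := by
  by_contra hk
  push Not at hk
  have h5 : 2 ^ 5 ∣ 720 := dvd_trans (pow_dvd_pow 2 hk) h
  revert h5
  decide

theorem three_pow_dvd_720 {k : ℕ} (h : 3 ^ k ∣ 720) : k ≤ 2 := by
  by_contra hk
  push Not at hk
  have h5 : 3 ^ 3 ∣ 720 := dvd_trans (pow_dvd_pow 3 hk) h
  revert h5
  decide

theorem five_pow_dvd_720 {k : ℕ} (h : 5 ^ k ∣ 720) : k ≤ 1 := by
  by_contra hk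
  push Not at hk
  have h5 : 5 ^ 2 ∣ 720 := dvd_trans (pow_dvd_pow 5 hk) h
  revert h5
  decide

/-- An element of prime order not dividing the order of the normal subgroup `M` normalizes a subgroup of `M` of
order a positive power of `r`, for every prime divisor `r` of the order of `M`. -/
theorem exists_normalized {H : Type*} [Group H] [Finite H] (M : Subgroup H) [hMn : M.Normal] {ℓ : ℕ}
    (hℓ : ℓ.Prime) (x : H) (hx : orderOf x = ℓ) (hcop : ¬ ℓ ∣ Nat.card M) (r : ℕ) [hr : Fact r.Prime]
    (hrM : r ∣ Nat.card M) :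
    ∃ W : Subgroup H, W ≤ M ∧ IsPGroup r W ∧ (∃ k, 1 ≤ k ∧ Nat.card W = r ^ k) ∧
      ∀ w ∈ W, x * w * x⁻¹ ∈ W := by
  obtain ⟨P, hP⟩ := exists_normalized_sylow M hℓ x hx hcop r
  refine ⟨(P : Subgroup M).map M.subtype, Subgroup.map_subtype_le _, P.isPGroup'.map _, ?_, ?_⟩
  · refine ⟨(Nat.card M).factorization r, ?_, ?_⟩
    · exact hr.out.factorization_pos_of_dvd Nat.card_pos.ne' hrM
    · rw [Subgroup.card_map_of_injective M.subtype_injective]
      exact P.card_eq_multiplicity
  · rintro _ ⟨w, hw, rfl⟩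
    exact ⟨_, hP w hw, rfl⟩

/-- S2490-N11. Every nontrivial normal subgroup has order divisible by `11`. -/
theorem N11 {H : Type*} [Group H] [Finite H] (hcard : Nat.card H ∣ 7920) (h11 : 11 ∣ Nat.card H)
    (A : Set ℕ) (hA : NoMix H A) (s : ℕ) (hs : s.Prime) (hsd : s ∣ Nat.card H) (hopp : Opp A 11 s)
    (hF : ∀ r : ℕ, r.Prime → ∀ Y : Subgroup H, Y.Normal → IsPGroup r Y → Y = ⊥)
    (M : Subgroup H) (hMn : M.Normal) (hM : M ≠ ⊥) : 11 ∣ Nat.card M := by
  classical
  by_contra h11M
  have hp11 : Nat.Prime 11 := by norm_num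
  have : Fact (Nat.Prime 11) := ⟨hp11⟩
  have : Fact s.Prime := ⟨hs⟩
  obtain ⟨m, hm⟩ : ∃ m, m = Nat.card M := ⟨_, rfl⟩
  have hm7920 : m ∣ 7920 := by
    rw [hm]
    exact dvd_trans (Subgroup.card_subgroup_dvd_card M) hcard
  have hm720 : m ∣ 720 := by
    have h1 : (7920 : ℕ) = 11 * 720 := by norm_num
    rw [h1] at hm7920
    refine (Nat.Coprime.dvd_mul_left ?_).mp hm7920
    rw [hm]
    exact (Nat.Coprime.symm ((Nat.Prime.coprime_iff_not_dvd hp11).mpr h11M))
  have hm1 : m ≠ 1 := by
    intro h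
    apply hM
    rw [hm] at h
    exact Subgroup.card_eq_one.mp h
  obtain ⟨z, hz⟩ := exists_prime_orderOf_dvd_card' (G := H) 11 h11
  obtain ⟨x, hx⟩ := exists_prime_orderOf_dvd_card' (G := H) s hsd
  -- (a) prime divisors of `m` are not opposite to `11`
  have ha : ∀ r : ℕ, r.Prime → r ∣ m → ¬ Opp A 11 r := by
    intro r hr hrm hoppr
    have : Fact r.Prime := ⟨hr⟩
    obtain ⟨W, hWleM, hWp, ⟨k, hk1, hWk⟩, hWn⟩ := exists_normalized M hp11 z hz h11M r (hm ▸ hrm)
    have hWM : Nat.card W ∣ 720 := by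
      refine dvd_trans ?_ hm720
      rw [hm]
      exact Subgroup.card_dvd_of_le hWleM
    have hsmall : Nat.card W = 2 ∨ Nat.card W = 3 ∨ Nat.card W = 4 ∨ Nat.card W = 5 ∨
        Nat.card W = 8 ∨ Nat.card W = 9 ∨ Nat.card W = 16 := by
      rw [hWk] at hWM ⊢
      rcases prime_dvd_720 hr (dvd_trans hrm hm720) with h | h | h <;> subst h
      · have := two_pow_dvd_720 hWM
        interval_cases k <;> simp
      · have := three_pow_dvd_720 hWM
        interval_cases k <;> simp
      · have := five_pow_dvd_720 hWM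
        interval_cases k <;> simp
    have hcomm := commute_of_small z hz W hsmall hWn
    have hrW : r ∣ Nat.card W := by
      rw [hWk]
      exact dvd_pow_self r (by omega)
    obtain ⟨w, hw⟩ := exists_prime_orderOf_dvd_card' (G := ↥W) r hrW
    have hwo : orderOf (w : H) = r := by rw [Subgroup.orderOf_coe]; exact hw
    exact hA.not_commute hp11 hr hoppr hz hwo (hcomm w w.2)
  -- `s` does not divide `m`
  have hsm : ¬ s ∣ m := fun h => ha s hs h hopp
  have hsM : ¬ s ∣ Nat.card M := hm ▸ hsm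
  -- (b) the Sylow orders of `M` are `1` modulo `s`
  have hb : ∀ r : ℕ, r.Prime → r ∣ m → ∃ k, 1 ≤ k ∧ r ^ k ∣ m ∧ r ^ k ≡ 1 [MOD s] := by
    intro r hr hrm
    have : Fact r.Prime := ⟨hr⟩
    have hsr : Opp A s r := hopp.symm.trans_not (ha r hr hrm)
    obtain ⟨W, hWM, hWp, ⟨k, hk1, hWk⟩, hWn⟩ := exists_normalized M hs x hx hsM r (hm ▸ hrm)
    refine ⟨k, hk1, ?_, ?_⟩
    · rw [← hWk, hm]
      exact Subgroup.card_dvd_of_le hWM
    · rw [← hWk]
      apply card_modEq_one_of_fpf hs x hx W hWn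
      intro w hw hcomm
      by_contra hw1
      refine hA.false_of_commute (isOfFinOrder_of_finite x) (isOfFinOrder_of_finite w) ?_ hw1 hcomm ?_
      · intro h
        rw [h, orderOf_one] at hx
        exact hs.ne_one hx.symm
      · intro a b hap hbp had hbd
        rw [hx] at had
        rw [(Nat.prime_dvd_prime_iff_eq hap hs).1 had,
          prime_eq_of_dvd_orderOf_of_isPGroup hWp hw hbp hbd]
        exact hsr
  -- a normal `p`-subgroup is impossible
  have hpgrp : ∀ r : ℕ, r.Prime → ∀ n : ℕ, m = r ^ n → False := by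
    intro r hr n hn
    have : Fact r.Prime := ⟨hr⟩
    exact hM (hF r hr M hMn (IsPGroup.of_card (n := n) (by rw [← hm, hn])))
  -- `s` is `2`, `3` or `5`
  have hs720 : s ∣ 720 := by
    have h1 : s ∣ 7920 := dvd_trans hsd hcard
    have h2 : (7920 : ℕ) = 11 * 720 := by norm_num
    rw [h2] at h1
    rcases (hs.dvd_mul).1 h1 with h | h
    · exfalso
      exact hopp.ne ((Nat.prime_dvd_prime_iff_eq hs hp11).1 h).symm
    · exact h
  have hmpos : 0 < m := by
    rw [hm]
    exact Nat.card_pos
  -- divisors of 16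
  have h16 : m ∣ 16 → False := by
    intro h
    have h' : m ∣ 2 ^ 4 := by
      have e : (2 : ℕ) ^ 4 = 16 := by norm_num
      rw [e]
      exact h
    obtain ⟨k, -, hk⟩ := (Nat.dvd_prime_pow Nat.prime_two).1 h'
    exact hpgrp 2 Nat.prime_two k hk
  rcases prime_dvd_720 hs hs720 with h | h | h
  · -- `s = 2`: the order of `M` divides `45`
    subst h
    have hm45 : m ∣ 45 := by
      have h1 : (720 : ℕ) = 16 * 45 := by norm_num
      rw [h1] at hm720
      refine (Nat.Coprime.dvd_mul_left ?_).mp hm720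
      have h2 : Nat.Coprime m 2 := (Nat.Coprime.symm ((Nat.Prime.coprime_iff_not_dvd Nat.prime_two).mpr hsm))
      exact Nat.Coprime.pow_right 4 h2
    by_cases h5 : 5 ∣ m
    · -- the Sylow 5-subgroup of `M` is normal in `H`
      have hp5 : Nat.Prime 5 := by norm_num
      have : Fact (Nat.Prime 5) := ⟨hp5⟩
      obtain ⟨P⟩ : Nonempty (Sylow 5 ↥M) := inferInstance
      have hPcard : Nat.card P = 5 ^ (Nat.card M).factorization 5 := P.card_eq_multiplicity
      have hkpos : 0 < (Nat.card M).factorization 5 :=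
        hp5.factorization_pos_of_dvd Nat.card_pos.ne' (hm ▸ h5)
      have h5P : 5 ∣ Nat.card P := by
        rw [hPcard]
        exact dvd_pow_self 5 hkpos.ne'
      have hidx9 : (P : Subgroup ↥M).index ∣ 9 := by
        have h1 : Nat.card P * (P : Subgroup ↥M).index = m := by
          rw [hm]
          exact Subgroup.card_mul_index _
        obtain ⟨t, ht⟩ := h5P
        rw [ht] at h1
        have h2 : 5 * (t * (P : Subgroup ↥M).index) ∣ 5 * 9 := by
          rw [← mul_assoc, h1]
          exact hm45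
        have h3 := Nat.dvd_of_mul_dvd_mul_left (by norm_num) h2
        exact dvd_trans (dvd_mul_left _ _) h3
      have hn5 : Nat.card (Sylow 5 ↥M) = 1 := by
        have h1 : Nat.card (Sylow 5 ↥M) ∣ 9 := dvd_trans (Sylow.card_dvd_index P) hidx9
        have h2 : Nat.card (Sylow 5 ↥M) ≡ 1 [MOD 5] := card_sylow_modEq_one 5 ↥M
        have hle : Nat.card (Sylow 5 ↥M) ≤ 9 := Nat.le_of_dvd (by norm_num) h1
        generalize Nat.card (Sylow 5 ↥M) = n at *
        interval_cases n <;> first | rfl | (exfalso; revert h1; decide) | (exfalso; revert h2; decide)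
      have hsub : Subsingleton (Sylow 5 ↥M) := (Nat.card_eq_one_iff_unique.mp hn5).1
      have hchar : (P : Subgroup ↥M).Characteristic := Sylow.characteristic_of_subsingleton P
      have hnorm : ((P : Subgroup ↥M).map M.subtype).Normal := ConjAct.normal_of_characteristic_of_normal
      have hbot := hF 5 hp5 _ hnorm (P.isPGroup'.map _)
      have hc1 : Nat.card ((P : Subgroup ↥M).map M.subtype) = 1 := by
        rw [hbot]
        exact Subgroup.card_bot
      rw [Subgroup.card_map_of_injective M.subtype_injective] at hc1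
      rw [hc1] at h5P
      revert h5P
      decide
    · -- `M` is a `3`-group
      have hm9 : m ∣ 9 := by
        have h1 : (45 : ℕ) = 5 * 9 := by norm_num
        rw [h1] at hm45
        refine (Nat.Coprime.dvd_mul_left ?_).mp hm45
        exact (Nat.Coprime.symm ((Nat.Prime.coprime_iff_not_dvd (by norm_num)).mpr h5))
      have h' : m ∣ 3 ^ 2 := by
        have e : (3 : ℕ) ^ 2 = 9 := by norm_num
        rw [e]
        exact hm9
      obtain ⟨k, -, hk⟩ := (Nat.dvd_prime_pow Nat.prime_three).1 h'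
      exact hpgrp 3 Nat.prime_three k hk
  · -- `s = 3`
    subst h
    have h5 : ¬ 5 ∣ m := by
      intro h5
      obtain ⟨k, hk1, hkm, hmod⟩ := hb 5 (by norm_num) h5
      have := five_pow_dvd_720 (dvd_trans hkm hm720)
      have hk : k = 1 := by omega
      subst hk
      revert hmod
      decide
    apply h16
    have h1 : (720 : ℕ) = 45 * 16 := by norm_num
    rw [h1] at hm720
    refine (Nat.Coprime.dvd_mul_left ?_).mp hm720
    have c3 : Nat.Coprime m 3 := (Nat.Coprime.symm ((Nat.Prime.coprime_iff_not_dvd Nat.prime_three).mpr hsm))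
    have c5 : Nat.Coprime m 5 := (Nat.Coprime.symm ((Nat.Prime.coprime_iff_not_dvd (by norm_num)).mpr h5))
    have h45 : (45 : ℕ) = 3 ^ 2 * 5 := by norm_num
    rw [h45]
    exact Nat.Coprime.mul_right (Nat.Coprime.pow_right 2 c3) c5
  · -- `s = 5`
    subst h
    have h3 : ¬ 3 ∣ m := by
      intro h3
      obtain ⟨k, hk1, hkm, hmod⟩ := hb 3 Nat.prime_three h3
      have := three_pow_dvd_720 (dvd_trans hkm hm720)
      interval_cases k <;> (revert hmod; decide)
    apply h16
    have h1 : (720 : ℕ) = 45 * 16 := by norm_num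
    rw [h1] at hm720
    refine (Nat.Coprime.dvd_mul_left ?_).mp hm720
    have c3 : Nat.Coprime m 3 := (Nat.Coprime.symm ((Nat.Prime.coprime_iff_not_dvd Nat.prime_three).mpr h3))
    have c5 : Nat.Coprime m 5 := (Nat.Coprime.symm ((Nat.Prime.coprime_iff_not_dvd (by norm_num)).mpr hsm))
    have h45 : (45 : ℕ) = 3 ^ 2 * 5 := by norm_num
    rw [h45]
    exact Nat.Coprime.mul_right (Nat.Coprime.pow_right 2 c3) c5

end Cfsg.Agent.Lib.Helper88_S2490_N11
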