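import Mathlib
import Cfsg.Agent.Lib.Helper62_S2490_Defs
import Cfsg.Agent.Lib.Helper62_S2490_Num
import Cfsg.Agent.Lib.Helper62_S2490_Core144
import Cfsg.Agent.Lib.Helper49_S2490_T1
import Cfsg.Agent.Lib.Helper88_S2490_N11
import Cfsg.Agent.Lib.Helper61_S2490_CHAR

/-!
# S2490-CORE45: a perfect group of order dividing 7920 with `NoMix`, no normal `r`-subgroups and
45 Sylow 11-subgroups does not exist.
-/

set_option autoImplicit false
open Cfsg.Agent.Lib.Helper62_S2490_Defs Cfsg.Agent.Lib.Helper62_S2490_Num
open Cfsg.Agent.Lib.Helper62_S2490_Core144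
open Cfsg.Agent.Lib.Helper49_S2490_T1 Cfsg.Agent.Lib.Helper88_S2490_N11
open Cfsg.Agent.Lib.Helper61_S2490_CHAR

namespace Cfsg.Agent.Lib.Helper62_S2490_Core45

/-- S2490-CORE45. -/
theorem core45 {H : Type*} [Group H] [Finite H] (hcard : Nat.card H ∣ 7920) (h11 : 11 ∣ Nat.card H)
    (hperf : commutator H = ⊤) (A : Set ℕ) (hA : NoMix H A) (s : ℕ) (hs : s.Prime)
    (hsd : s ∣ 7920) (hopp : Opp A 11 s)
    (hF : ∀ r : ℕ, r.Prime → ∀ Y : Subgroup H, Y.Normal → IsPGroup r Y → Y = ⊥)
    (hn : Nat.card (Sylow 11 H) = 45) : False := by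
  have := fact11
  have := fact2
  obtain ⟨P⟩ : Nonempty (Sylow 11 H) := inferInstance
  have hP : Nat.card P = 11 := sylow11_card hcard h11 P
  set N := Subgroup.normalizer ((P : Subgroup H) : Set H) with hN
  set C := Subgroup.centralizer ((P : Subgroup H) : Set H) with hC
  have h1 : Nat.card (Sylow 11 H) = N.index := Sylow.card_eq_index_normalizer P
  have h2 : Nat.card N * N.index = Nat.card H := N.card_mul_index
  rw [← h1, hn] at h2
  have hPN : (P : Subgroup H) ≤ N := Subgroup.le_normalizer
  have hCN : C ≤ N := Subgroup.centralizer_le_normalizer _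
  have hcyc : IsCyclic (P : Subgroup H) := isCyclic_of_prime_card hP
  have hPC : (P : Subgroup H) ≤ C := le_centralizer_of_card_eleven (P : Subgroup H) hP
  have hPne : (P : Subgroup H) ≠ ⊥ := by
    intro h
    rw [h, Subgroup.card_bot] at hP
    norm_num at hP
  have h4 : Nat.card N ∣ 176 := by
    have : Nat.card N * 45 ∣ 176 * 45 := by rw [h2]; exact hcard
    exact Nat.dvd_of_mul_dvd_mul_right (by norm_num) this
  -- e
  have he10 : C.relIndex N ∣ 10 := by
    have h1 : Nat.card (MulAut ↥(P : Subgroup H)) = 10 := by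
      rw [hcyc.card_mulAut, hP, Nat.totient_prime (by norm_num)]
    have h2 : Nat.card ((P : Subgroup H).normalizerMonoidHom.range) = C.relIndex N := by
      rw [← Subgroup.index_ker, Subgroup.normalizerMonoidHom_ker]
      rfl
    rw [← h2, ← h1]
    exact Subgroup.card_subgroup_dvd_card _
  have hCcard : C.relIndex N * Nat.card C = Nat.card N := by
    have := Subgroup.card_mul_index (C.subgroupOf N)
    rw [Nat.card_congr (Subgroup.subgroupOfEquivOfLe hCN).toEquiv] at this
    rw [mul_comm]; exact this
  have h11C : 11 ∣ Nat.card C := by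
    rw [← hP]; exact Subgroup.card_dvd_of_le hPC
  obtain ⟨c, hc⟩ := h11C
  have he16 : C.relIndex N ∣ 16 := by
    have : C.relIndex N * c * 11 ∣ 16 * 11 := by
      have : C.relIndex N * c * 11 = Nat.card N := by rw [← hCcard, hc]; ring
      rw [this]; exact h4
    exact dvd_trans (dvd_mul_right _ c) (Nat.dvd_of_mul_dvd_mul_right (by norm_num) this)
  have he2 : C.relIndex N ∣ 2 := by
    have := Nat.dvd_gcd he10 he16
    norm_num at this
    exact this
  have he : C.relIndex N = 1 ∨ C.relIndex N = 2 := by
    have h : C.relIndex N ∈ Nat.divisors 2 := Nat.mem_divisors.2 ⟨he2, by norm_num⟩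
    simp only [Nat.divisors_ofNat, Finset.mem_insert, Finset.mem_singleton] at h
    exact h
  rcases he with he | he
  · -- `N ≤ C`: Burnside
    have hNC : N ≤ C := Subgroup.relIndex_eq_one.1 he
    exact not_perfect_of_normalizer_le_centralizer P hPne hNC hperf
  · -- `e = 2`
    have hc16 : c ∣ 8 := by
      have : 2 * c * 11 ∣ 8 * 2 * 11 := by
        have h : 2 * c * 11 = Nat.card N := by rw [← hCcard, hc, he]; ring
        rw [h]; exact h4
      have h2' : 2 * c ∣ 8 * 2 := Nat.dvd_of_mul_dvd_mul_right (by norm_num) this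
      rw [mul_comm 8 2] at h2'
      exact Nat.dvd_of_mul_dvd_mul_left (by norm_num) h2'
    by_cases hc1 : c = 1
    · -- `|H| = 990`
      have hH : Nat.card H = 990 := by
        rw [← h2, ← hCcard, hc, he, hc1]
      exact not_perfect_990 hH hperf
    · -- an involution in `C`
      have h2c : 2 ∣ c := by
        have h : c ∈ Nat.divisors 8 := Nat.mem_divisors.2 ⟨hc16, by norm_num⟩
        simp only [Nat.divisors_ofNat, Finset.mem_insert, Finset.mem_singleton] at h
        rcases h with h | h | h | h
        · exact absurd h hc1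
        all_goals (rw [h]; try norm_num)
      have h2C : 2 ∣ Nat.card C := by rw [hc]; exact dvd_mul_of_dvd_right h2c 11
      obtain ⟨t', ht'⟩ := exists_prime_orderOf_dvd_card' (G := C) 2 h2C
      have ht : orderOf (t' : H) = 2 := by rw [Subgroup.orderOf_coe]; exact ht'
      obtain ⟨z', hz'⟩ := exists_prime_orderOf_dvd_card' (G := (P : Subgroup H)) 11 (by rw [hP])
      have hz : orderOf (z' : H) = 11 := by rw [Subgroup.orderOf_coe]; exact hz'
      have hcomm : Commute (z' : H) (t' : H) := by
        have := (Subgroup.mem_centralizer_iff.1 t'.2) (z' : H) z'.2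
        exact this
      have hno2 : ¬ Opp A 11 2 := fun h =>
        hA.not_commute (by norm_num) (by norm_num) h hz ht hcomm
      have hs35 : s = 3 ∨ s = 5 := by
        rcases prime_cases hs hsd with rfl | rfl | rfl | rfl
        · exact absurd hopp hno2
        · exact Or.inl rfl
        · exact Or.inr rfl
        · exact absurd hopp (not_opp_self A 11)
      have hsH : s ∣ Nat.card H := by
        rw [← h2]
        rcases hs35 with rfl | rfl
        · exact dvd_mul_of_dvd_right (by norm_num) _
        · exact dvd_mul_of_dvd_right (by norm_num) _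
      have hNN : ∀ M : Subgroup H, M.Normal → M ≠ ⊥ → 11 ∣ Nat.card M := fun M hMn hM =>
        N11 hcard h11 A hA s hs hsH hopp hF M hMn hM
      exact char_contra hcard P hP he hperf (t' : H) ht t'.2 hNN

end Cfsg.Agent.Lib.Helper62_S2490_Core45
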