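import Mathlib
import Cfsg.Agent.Lib.Helper62_Offender
import Cfsg.Agent.Lib.Helper25_CyclicDual
import Cfsg.Agent.Lib.Helper2_Coprime
import Cfsg.Agent.S5185

set_option autoImplicit false
set_option linter.unusedSectionVars false
set_option linter.unusedVariables false

/-!
# Two conjugate transvection groups generate `SL₂(p)` (helper62)

Tools for KS 9.3: a best offender `⟨a⟩` of order `p` with `|[V,a]| = p` and a conjugate `⟨a^x⟩`
under a `p'`-element `x` of `O_{p'}(H)` not commuting with `a` generate `SL₂(p)` acting naturally on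
`[V, ⟨a, a^x⟩]` of order `p²`; moreover `p ≤ 3`.
-/

namespace Cfsg.Agent.Lib.Helper62_SL2

open Cfsg.Agent.Lib.Helper62_Offender
open scoped commutatorElement

section general

variable {G : Type*} [Group G] [Finite G]

theorem commutator_le_of_normalizer (V A : Subgroup G)
    (hA : A ≤ Subgroup.normalizer (V : Set G)) : ⁅V, A⁆ ≤ V := by
  rw [Subgroup.commutator_le]
  intro v hv a ha
  exact comm_mem_of_normalizer V a (hA ha) hv

/-- `[V, A ⊔ B] ≤ [V, A][V, B]` for an abelian `V` normalized by `A` and `B`. -/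
theorem commutator_sup_le (V A B : Subgroup G)
    (hA : A ≤ Subgroup.normalizer (V : Set G)) (hB : B ≤ Subgroup.normalizer (V : Set G)) :
    ⁅V, A ⊔ B⁆ ≤ ⁅V, A⁆ ⊔ ⁅V, B⁆ := by
  set W₀ := ⁅V, A⁆ ⊔ ⁅V, B⁆ with hW₀
  have hW₀V : W₀ ≤ V :=
    sup_le (commutator_le_of_normalizer V A hA) (commutator_le_of_normalizer V B hB)
  let T : Subgroup G :=
    { carrier := {g | ∀ v ∈ V, ⁅v, g⁆ ∈ W₀ ∧ ⁅v, g⁻¹⁆ ∈ W₀}
      one_mem' := by
        intro v _
        simp
      mul_mem' := by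
        intro g₁ g₂ h₁ h₂ v hv
        constructor
        · have hw := (h₂ v hv).1
          have hwV := hW₀V hw
          have e : ⁅v, g₁ * g₂⁆ = ⁅v, g₁⁆ * (⁅⁅v, g₂⁆, g₁⁆⁻¹ * ⁅v, g₂⁆) := by
            simp only [commutatorElement_def]; group
          rw [e]
          exact W₀.mul_mem (h₁ v hv).1 (W₀.mul_mem (W₀.inv_mem (h₁ _ hwV).1) hw)
        · have hw := (h₁ v hv).2
          have hwV := hW₀V hw
          have e : ⁅v, (g₁ * g₂)⁻¹⁆ = ⁅v, g₂⁻¹⁆ * (⁅⁅v, g₁⁻¹⁆, g₂⁻¹⁆⁻¹ * ⁅v, g₁⁻¹⁆) := by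
            simp only [commutatorElement_def]; group
          rw [e]
          exact W₀.mul_mem (h₂ v hv).2 (W₀.mul_mem (W₀.inv_mem (h₂ _ hwV).2) hw)
      inv_mem' := by
        intro g h v hv
        refine ⟨(h v hv).2, ?_⟩
        rw [inv_inv]
        exact (h v hv).1 }
  have hAT : A ≤ T := fun a ha v hv =>
    ⟨(le_sup_left : ⁅V, A⁆ ≤ W₀) (Subgroup.commutator_mem_commutator hv ha),
      (le_sup_left : ⁅V, A⁆ ≤ W₀) (Subgroup.commutator_mem_commutator hv (A.inv_mem ha))⟩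
  have hBT : B ≤ T := fun a ha v hv =>
    ⟨(le_sup_right : ⁅V, B⁆ ≤ W₀) (Subgroup.commutator_mem_commutator hv ha),
      (le_sup_right : ⁅V, B⁆ ≤ W₀) (Subgroup.commutator_mem_commutator hv (B.inv_mem ha))⟩
  rw [Subgroup.commutator_le]
  intro v hv g hg
  exact ((sup_le hAT hBT) hg v hv).1

/-- An element of order dividing `p` normalizing a group `⟨u⟩` of order `p` centralizes it. -/
theorem conj_eq_self_of_prime {p : ℕ} [Fact p.Prime] {u a : G} (hu : orderOf u = p)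
    (ha : a ^ p = 1) (h : a * u * a⁻¹ ∈ Subgroup.zpowers u) : a * u * a⁻¹ = u := by
  obtain ⟨k, hk⟩ := Subgroup.mem_zpowers_iff.mp h
  have hpow : ∀ n : ℕ, (MulAut.conj a ^ n) u = u ^ (k ^ n) := by
    intro n
    induction n with
    | zero => simp
    | succ n ih =>
      rw [pow_succ', MulAut.mul_apply, ih, map_zpow, MulAut.conj_apply, ← hk, ← zpow_mul,
        pow_succ']
  have h1 := hpow p
  rw [← map_pow, ha, map_one, MulAut.one_apply] at h1
  have h2 : u ^ (1 : ℤ) = u ^ (k ^ p) := by rw [zpow_one]; exact h1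
  rw [zpow_eq_zpow_iff_modEq, hu] at h2
  have h3 : ((1 : ℤ) : ZMod p) = ((k ^ p : ℤ) : ZMod p) :=
    (ZMod.intCast_eq_intCast_iff _ _ _).mpr h2
  rw [Int.cast_pow, ZMod.pow_card, Int.cast_one] at h3
  have h4 : k ≡ 1 [ZMOD (p : ℤ)] := by
    rw [← ZMod.intCast_eq_intCast_iff, ← h3, Int.cast_one]
  rw [← hk]
  have : u ^ k = u ^ (1 : ℤ) := by
    rw [zpow_eq_zpow_iff_modEq, hu]
    exact h4
  rw [this, zpow_one]

/-- an element all of whose commutators (and those of its inverse) with `V` fall in `W ≤ V`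
normalizes `W` -/
theorem mem_normalizer_of_comm_mem (V W : Subgroup G) (hWV : W ≤ V) (g : G)
    (h : ∀ v ∈ V, ⁅v, g⁆ ∈ W ∧ ⁅v, g⁻¹⁆ ∈ W) : g ∈ Subgroup.normalizer (W : Set G) := by
  have h1 : ∀ v ∈ W, g * v * g⁻¹ ∈ W := by
    intro v hv
    have e : g * v * g⁻¹ = ⁅v, g⁆⁻¹ * v := by simp only [commutatorElement_def]; group
    rw [e]
    exact W.mul_mem (W.inv_mem (h v (hWV hv)).1) hv
  have h2 : ∀ v ∈ W, g⁻¹ * v * g ∈ W := by
    intro v hv
    have e : g⁻¹ * v * g = ⁅v, g⁻¹⁆⁻¹ * v := by simp only [commutatorElement_def]; group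
    rw [e]
    exact W.mul_mem (W.inv_mem (h v (hWV hv)).2) hv
  rw [Subgroup.mem_normalizer_iff]
  intro v
  refine ⟨h1 v, fun hv => ?_⟩
  have := h2 _ hv
  have e : g⁻¹ * (g * v * g⁻¹) * g = v := by group
  rwa [e] at this

/-- coprime action: `[v, d] ∈ [[V, d], d]` elementwise -/
theorem exists_comm_comm (V : Subgroup G) (hVc : ∀ x ∈ V, ∀ y ∈ V, x * y = y * x) (d : G)
    (hd : d ∈ Subgroup.normalizer (V : Set G)) (hcop : (orderOf d).Coprime (Nat.card V))
    {v : G} (hv : v ∈ V) : ∃ v' ∈ V, ⁅v, d⁆ = ⁅⁅v', d⁆, d⁆ := by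
  have : IsMulCommutative V := ⟨⟨fun x y => Subtype.ext (hVc x x.2 y y.2)⟩⟩
  have hK : Subgroup.zpowers d ≤ Subgroup.normalizer (V : Set G) := Subgroup.zpowers_le.mpr hd
  have hcop' : Nat.Coprime (Nat.card (Subgroup.zpowers d)) (Nat.card V) := by
    rwa [Nat.card_zpowers]
  obtain ⟨c, hc, z, hz, rfl⟩ :=
    Cfsg.Agent.Lib.Helper2_Coprime.exists_mul_of_coprime_subgroup V (Subgroup.zpowers d) hK hcop'
      v hv
  have hcV : c ∈ V := commutator_le_of_normalizer V _ hK hc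
  have hzd : ⁅z, d⁆ = 1 := by
    rw [commutatorElement_eq_one_iff_mul_comm]
    exact ((Subgroup.mem_centralizer_iff.mp hz.2) d (Subgroup.mem_zpowers d)).symm
  obtain ⟨_, ⟨w, rfl⟩, hw⟩ := commutator_zpowers_le V hVc d hd hc
  refine ⟨w, w.2, ?_⟩
  rw [comm_mul_of_abelian V hVc d hd hcV hz.1, hzd, mul_one, ← hw]
  rfl

/-- Two elements `a`, `b` acting quadratically with `a` centralizing `[V, b]`: if `a⁻¹ b` has order
prime to `|V|`, it centralizes `V`. -/
theorem centralizes_of_chain (V : Subgroup G) (hVc : ∀ x ∈ V, ∀ y ∈ V, x * y = y * x) (a b : G)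
    (ha : a ∈ Subgroup.normalizer (V : Set G)) (hb : b ∈ Subgroup.normalizer (V : Set G))
    (hcop : (orderOf (a⁻¹ * b)).Coprime (Nat.card V))
    (haa : ⁅V, Subgroup.zpowers a⁆ ≤ Subgroup.centralizer {a})
    (hbb : ⁅V, Subgroup.zpowers b⁆ ≤ Subgroup.centralizer {b})
    (hba : ⁅V, Subgroup.zpowers b⁆ ≤ Subgroup.centralizer {a}) :
    ∀ v ∈ V, ⁅v, a⁻¹ * b⁆ = 1 := by
  have hd : a⁻¹ * b ∈ Subgroup.normalizer (V : Set G) :=
    Subgroup.mul_mem _ (Subgroup.inv_mem _ ha) hb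
  have hUbV : ⁅V, Subgroup.zpowers b⁆ ≤ V :=
    commutator_le_of_normalizer V _ (Subgroup.zpowers_le.mpr hb)
  have hUaV : ⁅V, Subgroup.zpowers a⁆ ≤ V :=
    commutator_le_of_normalizer V _ (Subgroup.zpowers_le.mpr ha)
  have key : ∀ v : G, ⁅v, a⁻¹ * b⁆ = ⁅v, a⁻¹⁆ * (a⁻¹ * ⁅v, b⁆ * a) := by
    intro v
    simp only [commutatorElement_def]; group
  have hconj : ∀ y ∈ ⁅V, Subgroup.zpowers b⁆, a⁻¹ * y * a = y := by
    intro y hy
    have := Subgroup.mem_centralizer_singleton_iff.mp (hba hy)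
    rw [mul_assoc, this, ← mul_assoc, inv_mul_cancel, one_mul]
  have h1 : ∀ v ∈ V, ⁅v, a⁻¹ * b⁆ = ⁅v, a⁻¹⁆ * ⁅v, b⁆ := by
    intro v hv
    rw [key, hconj _ (Subgroup.commutator_mem_commutator hv (Subgroup.mem_zpowers b))]
  have h2 : ∀ v ∈ V, v * a = a * v → ⁅v, a⁻¹ * b⁆ = ⁅v, b⁆ := by
    intro v hv hva
    rw [h1 v hv]
    have : ⁅v, a⁻¹⁆ = 1 := by
      rw [commutatorElement_eq_one_iff_mul_comm]
      calc v * a⁻¹ = a⁻¹ * (a * v) * a⁻¹ := by group
        _ = a⁻¹ * (v * a) * a⁻¹ := by rw [hva]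
        _ = a⁻¹ * v := by group
    rw [this, one_mul]
  have h3 : ∀ v ∈ ⁅V, Subgroup.zpowers b⁆, ⁅v, a⁻¹ * b⁆ = 1 := by
    intro v hv
    have hva := Subgroup.mem_centralizer_singleton_iff.mp (hba hv)
    have hvb := Subgroup.mem_centralizer_singleton_iff.mp (hbb hv)
    rw [h2 v (hUbV hv) hva, commutatorElement_eq_one_iff_mul_comm]
    exact hvb
  intro v hv
  obtain ⟨v', hv', e1⟩ := exists_comm_comm V hVc (a⁻¹ * b) hd hcop hv
  obtain ⟨v'', hv'', e2⟩ := exists_comm_comm V hVc (a⁻¹ * b) hd hcop hv'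
  have hy1 : ⁅v'', a⁻¹⁆ ∈ ⁅V, Subgroup.zpowers a⁆ :=
    Subgroup.commutator_mem_commutator hv'' (Subgroup.inv_mem _ (Subgroup.mem_zpowers a))
  have hy2 : ⁅v'', b⁆ ∈ ⁅V, Subgroup.zpowers b⁆ :=
    Subgroup.commutator_mem_commutator hv'' (Subgroup.mem_zpowers b)
  have hyV : ⁅v'', a⁻¹ * b⁆ ∈ V := by
    rw [h1 v'' hv'']
    exact V.mul_mem (hUaV hy1) (hUbV hy2)
  have hya : ⁅v'', a⁻¹ * b⁆ * a = a * ⁅v'', a⁻¹ * b⁆ := by
    rw [h1 v'' hv'']
    exact Subgroup.mem_centralizer_singleton_iff.mp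
      (Subgroup.mul_mem _ (haa hy1) (hba hy2))
  have hyb : ⁅v', a⁻¹ * b⁆ ∈ ⁅V, Subgroup.zpowers b⁆ := by
    rw [e2, h2 _ hyV hya]
    exact Subgroup.commutator_mem_commutator hyV (Subgroup.mem_zpowers b)
  rw [e1]
  exact h3 _ hyb

end general

section matrices

open Cfsg.Agent.S5185

variable {p : ℕ} [Fact p.Prime]

theorem upp_nsmul (n : ℕ) (s : ZMod p) : upp ((n : ZMod p) * s) = upp s ^ n := by
  induction n with
  | zero => simp [upp_zero]
  | succ n ih => rw [Nat.cast_succ, add_mul, one_mul, upp_add, ih, pow_succ]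

theorem low_nsmul (n : ℕ) (s : ZMod p) : low ((n : ZMod p) * s) = low s ^ n := by
  induction n with
  | zero => simp [low_zero]
  | succ n ih => rw [Nat.cast_succ, add_mul, one_mul, low_add, ih, pow_succ]

theorem upp_one_eq_pow {s : ZMod p} (hs : s ≠ 0) : upp (1 : ZMod p) = upp s ^ (s⁻¹).val := by
  rw [← upp_nsmul, ZMod.natCast_zmod_val, inv_mul_cancel₀ hs]

theorem low_one_eq_pow {s : ZMod p} (hs : s ≠ 0) : low (1 : ZMod p) = low s ^ (s⁻¹).val := by
  rw [← low_nsmul, ZMod.natCast_zmod_val, inv_mul_cancel₀ hs]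

/-- diagonal matrices in `SL₂` -/
def dg (l m : ZMod p) (h : l * m = 1) : Matrix.SpecialLinearGroup (Fin 2) (ZMod p) :=
  ⟨!![l, 0; 0, m], by simp [Matrix.det_fin_two, h]⟩

theorem dg_mul_upp (l m : ZMod p) (h : l * m = 1) (s : ZMod p) :
    dg l m h * upp s = upp (l * l * s) * dg l m h := by
  apply Matrix.SpecialLinearGroup.ext
  intro i j
  rw [Matrix.SpecialLinearGroup.coe_mul, Matrix.SpecialLinearGroup.coe_mul]
  fin_cases i <;> fin_cases j <;>
    simp [dg, Matrix.mul_apply, Fin.sum_univ_two]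
  rw [mul_assoc, mul_assoc, mul_comm s m, ← mul_assoc l m, h, one_mul]

/-- the matrix with columns `(i, j)` and `(k, l)` -/
def colMat (i j k l : ZMod p) (h : i * l - k * j = 1) :
    Matrix.SpecialLinearGroup (Fin 2) (ZMod p) :=
  ⟨!![i, k; j, l], by simp [Matrix.det_fin_two, h]⟩

theorem colMat_zero_zero (i j k l : ZMod p) (h : i * l - k * j = 1) :
    (colMat i j k l h) 0 0 = i := rfl

theorem colMat_one_zero (i j k l : ZMod p) (h : i * l - k * j = 1) :
    (colMat i j k l h) 1 0 = j := rfl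

end matrices

section recognition

open Cfsg.Agent.S5185

variable {p : ℕ} [Fact p.Prime]

/-- A group acting faithfully on a group of order `p²`, generated by two elements acting as an
upper and a lower nontrivial transvection, is `SL₂(p)`; and (for odd `p`) it conjugates the first
generator to its fourth power. -/
theorem sl2_of_two_transvections {V' : Type*} [CommGroup V'] {E : Type*} [Group E]
    (hcard : Nat.card V' = p ^ 2) (e1 e2 : V') (h1 : e1 ^ p = 1) (h2 : e2 ^ p = 1) (hne : e1 ≠ 1)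
    (hnot : e2 ∉ Subgroup.zpowers e1) (φ : E →* MulAut V') (hφ : Function.Injective φ) (a b : E)
    (hgen : ∀ S : Subgroup E, a ∈ S → b ∈ S → S = ⊤) (s t : ZMod p) (hs : s ≠ 0) (ht : t ≠ 0)
    (ha1 : φ a e1 = e1) (ha2 : φ a e2 = e1 ^ s.val * e2) (hb1 : φ b e1 = e1 * e2 ^ t.val)
    (hb2 : φ b e2 = e2) :
    Nonempty (E ≃* Matrix.SpecialLinearGroup (Fin 2) (ZMod p)) ∧
      (p ≠ 2 → ∃ g : E, g * a * g⁻¹ = a ^ 4) ∧ (∀ v : V', v ≠ 1 → ∃ g : E, φ g e1 = v) := by
  have hp := (Fact.out : p.Prime)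
  set c := coordEquiv hcard e1 e2 h1 h2 hne hnot with hc
  have hA : φ a = rho c (upp s) := by
    apply aut_ext hcard e1 e2 h1 h2 hne hnot
    · rw [ha1, hc, rho_e1]
      simp [ZMod.val_one]
    · rw [ha2, hc, rho_e2]
      simp [ZMod.val_one]
  have hB : φ b = rho c (low t) := by
    apply aut_ext hcard e1 e2 h1 h2 hne hnot
    · rw [hb1, hc, rho_e1]
      simp [ZMod.val_one]
    · rw [hb2, hc, rho_e2]
      simp [ZMod.val_one]
  have hrange1 : ∀ g : E, φ g ∈ (rho c).range := by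
    have h := hgen ((rho c).range.comap φ) (by rw [Subgroup.mem_comap, hA]; exact ⟨_, rfl⟩)
      (by rw [Subgroup.mem_comap, hB]; exact ⟨_, rfl⟩)
    intro g
    have : g ∈ (rho c).range.comap φ := by rw [h]; exact Subgroup.mem_top g
    exact this
  have hrange2 : ∀ M : Matrix.SpecialLinearGroup (Fin 2) (ZMod p), rho c M ∈ φ.range := by
    intro M
    have h1 : Subgroup.closure ({upp 1, low 1} : Set (Matrix.SpecialLinearGroup (Fin 2) (ZMod p))) ≤
        φ.range.comap (rho c) := by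
      rw [Subgroup.closure_le]
      intro x hx
      rcases hx with rfl | hx
      · show rho c (upp 1) ∈ φ.range
        rw [upp_one_eq_pow hs, map_pow, ← hA, ← map_pow]
        exact ⟨_, rfl⟩
      · rw [Set.mem_singleton_iff] at hx
        subst hx
        show rho c (low 1) ∈ φ.range
        rw [low_one_eq_pow ht, map_pow, ← hB, ← map_pow]
        exact ⟨_, rfl⟩
    exact h1 (mem_closure M)
  have hr : φ.range = (rho c).range := by
    apply le_antisymm
    · rintro _ ⟨g, rfl⟩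
      exact hrange1 g
    · rintro _ ⟨M, rfl⟩
      exact hrange2 M
  refine ⟨⟨((MonoidHom.ofInjective hφ).trans (MulEquiv.subgroupCongr hr)).trans
    (MonoidHom.ofInjective (rho_injective c)).symm⟩, ?_, ?_⟩
  swap
  · intro v hv
    obtain ⟨i, j, rfl⟩ := exists_coord hcard e1 e2 h1 h2 hne hnot v
    have hi' : e1 ^ ((i : ℕ) : ZMod p).val = e1 ^ i :=
      pow_eq_of_natCast_eq h1 (by rw [ZMod.natCast_zmod_val])
    have hj' : e2 ^ ((j : ℕ) : ZMod p).val = e2 ^ j :=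
      pow_eq_of_natCast_eq h2 (by rw [ZMod.natCast_zmod_val])
    by_cases hi : ((i : ℕ) : ZMod p) = 0
    · have hj : ((j : ℕ) : ZMod p) ≠ 0 := by
        intro hj
        apply hv
        rw [← hi', ← hj', hi, hj]
        simp
      obtain ⟨g, hg⟩ := hrange2 (colMat 0 ((j : ℕ) : ZMod p) (-((j : ℕ) : ZMod p)⁻¹) 0 (by
        simp [hj]))
      refine ⟨g, ?_⟩
      rw [hg, hc, rho_e1, colMat_zero_zero, colMat_one_zero, ← hi', ← hj', hi]
    · obtain ⟨g, hg⟩ := hrange2 (colMat ((i : ℕ) : ZMod p) ((j : ℕ) : ZMod p) 0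
        (((i : ℕ) : ZMod p))⁻¹ (by simp [hi]))
      refine ⟨g, ?_⟩
      rw [hg, hc, rho_e1, colMat_zero_zero, colMat_one_zero, ← hi', ← hj']
  intro hp2
  have h20 : (2 : ZMod p) ≠ 0 := by
    intro h
    have h' : ((2 : ℕ) : ZMod p) = 0 := by exact_mod_cast h
    rw [ZMod.natCast_eq_zero_iff] at h'
    exact hp2 ((Nat.prime_dvd_prime_iff_eq hp Nat.prime_two).mp h')
  obtain ⟨g, hg⟩ := hrange2 (dg 2 2⁻¹ (mul_inv_cancel₀ h20))
  refine ⟨g, hφ ?_⟩
  rw [map_mul, map_mul, map_inv, map_pow, hg, hA, ← map_inv, ← map_mul, ← map_mul, ← map_pow,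
    dg_mul_upp, mul_inv_cancel_right]
  congr 1
  rw [← upp_nsmul]
  congr 1
  push_cast
  ring

end recognition

section core

variable {G : Type*} [Group G] [Finite G] {p : ℕ} [Fact p.Prime]

theorem card_eq_pow_of_elementary (V : Subgroup G) (hV : Cfsg.IsElementaryAbelian p V) :
    ∃ n : ℕ, Nat.card V = p ^ n := by
  have hP : IsPGroup p V := by
    intro v
    refine ⟨1, ?_⟩
    apply Subtype.ext
    simpa using hV.2 v v.2
  exact hP.exists_card_eq

theorem commutator_zpowers_conj (V : Subgroup G) (g a : G)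
    (hg : g ∈ Subgroup.normalizer (V : Set G)) :
    ⁅V, Subgroup.zpowers (g * a * g⁻¹)⁆ =
      (⁅V, Subgroup.zpowers a⁆).map (MulAut.conj g).toMonoidHom := by
  have h1 := Subgroup.map_commutator V (Subgroup.zpowers a) (MulAut.conj g).toMonoidHom
  have hVx : V.map (MulAut.conj g).toMonoidHom = V :=
    Subgroup.mem_normalizer_iff_map_conj_eq.mp hg
  rw [hVx, MonoidHom.map_zpowers] at h1
  rw [h1]
  simp

/-- the structure of the two commutators -/
theorem structure_lemma (V H : Subgroup G) (hV : Cfsg.IsElementaryAbelian p V)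
    (hHV : H ≤ Subgroup.normalizer (V : Set G))
    (hf : H ⊓ Subgroup.centralizer (V : Set G) = ⊥)
    (a x : G) (haH : a ∈ H) (hx : x ∈ coreK p H) (hap : a ^ p = 1)
    (hcard : Nat.card ↥(⁅V, Subgroup.zpowers a⁆) = p) (hxa : x * a ≠ a * x) :
    ∃ u ∈ V, orderOf u = p ∧ orderOf (x * u * x⁻¹) = p ∧
      ⁅V, Subgroup.zpowers a⁆ = Subgroup.zpowers u ∧
      ⁅V, Subgroup.zpowers (x * a * x⁻¹)⁆ = Subgroup.zpowers (x * u * x⁻¹) ∧
      a * u = u * a ∧ (x * a * x⁻¹) * (x * u * x⁻¹) = (x * u * x⁻¹) * (x * a * x⁻¹) ∧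
      a * (x * u * x⁻¹) ≠ (x * u * x⁻¹) * a ∧ (x * a * x⁻¹) * u ≠ u * (x * a * x⁻¹) := by
  have hp := (Fact.out : p.Prime)
  have hVc : ∀ x ∈ V, ∀ y ∈ V, x * y = y * x := fun x hx y hy => by
    have := hV.1
    exact congrArg Subtype.val (mul_comm' (⟨x, hx⟩ : V) ⟨y, hy⟩)
  have hxH : x ∈ H := coreK_le H hx
  have hbH : x * a * x⁻¹ ∈ H := H.mul_mem (H.mul_mem hxH haH) (H.inv_mem hxH)
  have haN := hHV haH
  have hbN := hHV hbH
  have hxN := hHV hxH
  -- the `p'`-element `d = a⁻¹ b`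
  have hdK : a⁻¹ * (x * a * x⁻¹) ∈ coreK p H := by
    have h1 : a⁻¹ * x * a⁻¹⁻¹ ∈ coreK p H :=
      (Subgroup.mem_normalizer_iff.mp (le_normalizer_coreK H (H.inv_mem haH)) x).mp hx
    have e : a⁻¹ * (x * a * x⁻¹) = (a⁻¹ * x * a⁻¹⁻¹) * x⁻¹ := by group
    rw [e]
    exact (coreK p H).mul_mem h1 ((coreK p H).inv_mem hx)
  have hd1 : a⁻¹ * (x * a * x⁻¹) ≠ 1 := by
    intro h
    apply hxa
    have h2 : x * a * x⁻¹ = a := by
      have := congrArg (a * ·) h
      simpa using this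
    calc x * a = (x * a * x⁻¹) * x := by group
      _ = a * x := by rw [h2]
  have hfaith : ∀ g ∈ H, g ≠ 1 → ¬ ∀ v ∈ V, ⁅v, g⁆ = 1 := by
    intro g hgH hg1 hall
    apply hg1
    have : g ∈ H ⊓ Subgroup.centralizer (V : Set G) := by
      refine Subgroup.mem_inf.mpr ⟨hgH, ?_⟩
      rw [Subgroup.mem_centralizer_iff]
      intro v hv
      exact commutatorElement_eq_one_iff_mul_comm.mp (hall v hv)
    rw [hf, Subgroup.mem_bot] at this
    exact this
  obtain ⟨n, hn⟩ := card_eq_pow_of_elementary V hV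
  have hcop : (orderOf (a⁻¹ * (x * a * x⁻¹))).Coprime (Nat.card V) := by
    rw [hn]
    apply Nat.Coprime.pow_right
    exact Nat.Coprime.coprime_dvd_left (Subgroup.orderOf_dvd_natCard _ hdK) (coreK_coprime H)
  have hcop' : (orderOf ((x * a * x⁻¹)⁻¹ * a)).Coprime (Nat.card V) := by
    have e : (x * a * x⁻¹)⁻¹ * a = (a⁻¹ * (x * a * x⁻¹))⁻¹ := by group
    rw [e, orderOf_inv]
    exact hcop
  -- the generator `u`
  have hUaV : ⁅V, Subgroup.zpowers a⁆ ≤ V :=
    commutator_le_of_normalizer V _ (Subgroup.zpowers_le.mpr haN)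
  obtain ⟨u, huU, hu1⟩ : ∃ u ∈ ⁅V, Subgroup.zpowers a⁆, u ≠ 1 := by
    by_contra hcon
    push Not at hcon
    have : ⁅V, Subgroup.zpowers a⁆ = ⊥ :=
      eq_bot_iff.mpr fun x hx => Subgroup.mem_bot.mpr (hcon x hx)
    rw [this, Subgroup.card_bot] at hcard
    exact hp.one_lt.ne hcard
  have huV := hUaV huU
  have hup : u ^ p = 1 := hV.2 u huV
  have hou : orderOf u = p := orderOf_eq_prime hup hu1
  have hUa : ⁅V, Subgroup.zpowers a⁆ = Subgroup.zpowers u := by
    symm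
    apply Subgroup.eq_of_le_of_card_ge (Subgroup.zpowers_le.mpr huU)
    rw [Nat.card_zpowers, hou, hcard]
  have hwV : x * u * x⁻¹ ∈ V := (Subgroup.mem_normalizer_iff.mp hxN u).mp huV
  have how : orderOf (x * u * x⁻¹) = p := by
    have : x * u * x⁻¹ = MulAut.conj x u := by simp
    rw [this, MulEquiv.orderOf_eq, hou]
  have hUb : ⁅V, Subgroup.zpowers (x * a * x⁻¹)⁆ = Subgroup.zpowers (x * u * x⁻¹) := by
    have h1 := Subgroup.map_commutator V (Subgroup.zpowers a) (MulAut.conj x).toMonoidHom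
    have hVx : V.map (MulAut.conj x).toMonoidHom = V :=
      Subgroup.mem_normalizer_iff_map_conj_eq.mp hxN
    rw [hVx, MonoidHom.map_zpowers, hUa,
      MonoidHom.map_zpowers] at h1
    simpa using h1.symm
  have hau : a * u = u * a := by
    have h1 : a * u * a⁻¹ ∈ Subgroup.zpowers u := by
      have e : a * u * a⁻¹ = ⁅u, a⁆⁻¹ * u := by simp only [commutatorElement_def]; group
      rw [e, ← hUa]
      exact Subgroup.mul_mem _ (Subgroup.inv_mem _
        (Subgroup.commutator_mem_commutator huV (Subgroup.mem_zpowers a))) huU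
    have h2 := conj_eq_self_of_prime hou hap h1
    calc a * u = (a * u * a⁻¹) * a := by group
      _ = u * a := by rw [h2]
  have hbw : (x * a * x⁻¹) * (x * u * x⁻¹) = (x * u * x⁻¹) * (x * a * x⁻¹) := by
    calc (x * a * x⁻¹) * (x * u * x⁻¹) = x * (a * u) * x⁻¹ := by group
      _ = x * (u * a) * x⁻¹ := by rw [hau]
      _ = _ := by group
  have haa : ⁅V, Subgroup.zpowers a⁆ ≤ Subgroup.centralizer {a} := by
    rw [hUa, Subgroup.zpowers_le, Subgroup.mem_centralizer_singleton_iff]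
    exact hau.symm
  have hbb : ⁅V, Subgroup.zpowers (x * a * x⁻¹)⁆ ≤ Subgroup.centralizer {x * a * x⁻¹} := by
    rw [hUb, Subgroup.zpowers_le, Subgroup.mem_centralizer_singleton_iff]
    exact hbw.symm
  refine ⟨u, huV, hou, how, hUa, hUb, hau, hbw, ?_, ?_⟩
  · intro h
    have hba : ⁅V, Subgroup.zpowers (x * a * x⁻¹)⁆ ≤ Subgroup.centralizer {a} := by
      rw [hUb, Subgroup.zpowers_le, Subgroup.mem_centralizer_singleton_iff]
      exact h.symm
    exact hfaith _ (coreK_le H hdK) hd1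
      (centralizes_of_chain V hVc a (x * a * x⁻¹) haN hbN hcop haa hbb hba)
  · intro h
    have hab : ⁅V, Subgroup.zpowers a⁆ ≤ Subgroup.centralizer {x * a * x⁻¹} := by
      rw [hUa, Subgroup.zpowers_le, Subgroup.mem_centralizer_singleton_iff]
      exact h.symm
    have hd1' : (x * a * x⁻¹)⁻¹ * a ≠ 1 := by
      intro h'
      apply hd1
      have e : a⁻¹ * (x * a * x⁻¹) = ((x * a * x⁻¹)⁻¹ * a)⁻¹ := by group
      rw [e, h', inv_one]
    exact hfaith _ (H.mul_mem (H.inv_mem hbH) haH) hd1'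
      (centralizes_of_chain V hVc (x * a * x⁻¹) a hbN haN hcop' hbb haa hab)

theorem inf_eq_of_card_sq (W U C : Subgroup G) (hcardW : Nat.card W = p ^ 2)
    (hcardU : Nat.card U = p) (hUW : U ≤ W) (hUC : U ≤ C) (hWC : ¬ W ≤ C) : W ⊓ C = U := by
  have hp := (Fact.out : p.Prime)
  have h1 : U ≤ W ⊓ C := le_inf hUW hUC
  have h2 : Nat.card U ∣ Nat.card ↥(W ⊓ C) := Subgroup.card_dvd_of_le h1
  have h3 : Nat.card ↥(W ⊓ C) ∣ Nat.card W := Subgroup.card_dvd_of_le inf_le_left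
  rw [hcardW] at h3
  rw [hcardU] at h2
  obtain ⟨k, hk, hk'⟩ := (Nat.dvd_prime_pow hp).mp h3
  interval_cases k
  · rw [hk', pow_zero] at h2
    exact absurd (Nat.le_of_dvd one_pos h2) (not_le.mpr hp.one_lt)
  · symm
    apply Subgroup.eq_of_le_of_card_ge h1
    rw [hk', hcardU, pow_one]
  · exfalso
    apply hWC
    have : W ⊓ C = W := Subgroup.eq_of_le_of_card_ge inf_le_left (by rw [hk', hcardW])
    rw [← this]
    exact inf_le_right

theorem zpowers_eq_of_mem_of_prime {u g : G} (hou : orderOf u = p) (hg : g ∈ Subgroup.zpowers u)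
    (hg1 : g ≠ 1) : Subgroup.zpowers g = Subgroup.zpowers u := by
  have hp := (Fact.out : p.Prime)
  have h1 : orderOf g ∣ p := by
    have := Subgroup.orderOf_dvd_natCard _ hg
    rwa [Nat.card_zpowers, hou] at this
  have h2 : orderOf g = p := by
    rcases (Nat.dvd_prime hp).mp h1 with h | h
    · exact absurd (orderOf_eq_one_iff.mp h) hg1
    · exact h
  apply Subgroup.eq_of_le_of_card_ge (Subgroup.zpowers_le.mpr hg)
  rw [Nat.card_zpowers, Nat.card_zpowers, h2, hou]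

/-- the plane `W = ⟨u⟩ × ⟨w⟩` -/
theorem plane_lemma (V H : Subgroup G) (hV : Cfsg.IsElementaryAbelian p V)
    (hHV : H ≤ Subgroup.normalizer (V : Set G))
    (hf : H ⊓ Subgroup.centralizer (V : Set G) = ⊥)
    (a b u w : G) (haH : a ∈ H) (hbH : b ∈ H) (huV : u ∈ V) (hwV : w ∈ V)
    (hou : orderOf u = p) (how : orderOf w = p)
    (hUa : ⁅V, Subgroup.zpowers a⁆ = Subgroup.zpowers u)
    (hUb : ⁅V, Subgroup.zpowers b⁆ = Subgroup.zpowers w)
    (hau : a * u = u * a) (hbw : b * w = w * b) (haw : a * w ≠ w * a) (hbu : b * u ≠ u * b) :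
    Subgroup.zpowers u ⊓ Subgroup.zpowers w = ⊥ ∧
    Nat.card ↥(Subgroup.zpowers u ⊔ Subgroup.zpowers w) = p ^ 2 ∧
    ⁅V, Subgroup.zpowers a ⊔ Subgroup.zpowers b⁆ = Subgroup.zpowers u ⊔ Subgroup.zpowers w ∧
    (Subgroup.zpowers a ⊔ Subgroup.zpowers b) ⊓
      Subgroup.centralizer ((Subgroup.zpowers u ⊔ Subgroup.zpowers w : Subgroup G) : Set G) = ⊥ ∧
    (Subgroup.zpowers u ⊔ Subgroup.zpowers w) ⊓
      Subgroup.centralizer ((Subgroup.zpowers a ⊔ Subgroup.zpowers b : Subgroup G) : Set G) = ⊥ ∧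
    (Subgroup.zpowers u ⊔ Subgroup.zpowers w) ⊔ (V ⊓
      Subgroup.centralizer ((Subgroup.zpowers a ⊔ Subgroup.zpowers b : Subgroup G) : Set G)) = V := by
  have hp := (Fact.out : p.Prime)
  have hVc : ∀ x ∈ V, ∀ y ∈ V, x * y = y * x := fun x hx y hy => by
    have := hV.1
    exact congrArg Subtype.val (mul_comm' (⟨x, hx⟩ : V) ⟨y, hy⟩)
  have haN := hHV haH
  have hbN := hHV hbH
  have huV' : Subgroup.zpowers u ≤ V := Subgroup.zpowers_le.mpr huV
  have hwV' : Subgroup.zpowers w ≤ V := Subgroup.zpowers_le.mpr hwV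
  have huCa : Subgroup.zpowers u ≤ Subgroup.centralizer {a} := by
    rw [Subgroup.zpowers_le, Subgroup.mem_centralizer_singleton_iff]
    exact hau.symm
  have hwCb : Subgroup.zpowers w ≤ Subgroup.centralizer {b} := by
    rw [Subgroup.zpowers_le, Subgroup.mem_centralizer_singleton_iff]
    exact hbw.symm
  have hdisj : Subgroup.zpowers u ⊓ Subgroup.zpowers w = ⊥ := by
    by_contra h
    obtain ⟨g, hg, hg1⟩ : ∃ g ∈ Subgroup.zpowers u ⊓ Subgroup.zpowers w, g ≠ 1 := by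
      by_contra hcon
      push Not at hcon
      exact h (eq_bot_iff.mpr fun x hx => Subgroup.mem_bot.mpr (hcon x hx))
    have h1 := zpowers_eq_of_mem_of_prime hou hg.1 hg1
    have h2 := zpowers_eq_of_mem_of_prime how hg.2 hg1
    have h3 : w ∈ Subgroup.zpowers u := by
      rw [← h1, h2]
      exact Subgroup.mem_zpowers w
    exact haw (Subgroup.mem_centralizer_singleton_iff.mp (huCa h3)).symm
  have hcardW : Nat.card ↥(Subgroup.zpowers u ⊔ Subgroup.zpowers w) = p ^ 2 := by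
    rw [Cfsg.Agent.Lib.Helper25_CyclicDual.card_sup_of_commute _ _ hdisj
      (fun x hx y hy => hVc x (huV' hx) y (hwV' hy)), Nat.card_zpowers, Nat.card_zpowers, hou,
      how, sq]
  have hVE : ⁅V, Subgroup.zpowers a ⊔ Subgroup.zpowers b⁆ =
      Subgroup.zpowers u ⊔ Subgroup.zpowers w := by
    apply le_antisymm
    · refine (commutator_sup_le V _ _ (Subgroup.zpowers_le.mpr haN)
        (Subgroup.zpowers_le.mpr hbN)).trans (le_of_eq ?_)
      rw [hUa, hUb]
    · refine sup_le ?_ ?_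
      · rw [← hUa]
        exact Subgroup.commutator_mono le_rfl le_sup_left
      · rw [← hUb]
        exact Subgroup.commutator_mono le_rfl le_sup_right
  refine ⟨hdisj, hcardW, hVE, ?_⟩
  rw [and_comm (a := _ = ⊥), and_assoc]
  set W := Subgroup.zpowers u ⊔ Subgroup.zpowers w with hW
  set E := Subgroup.zpowers a ⊔ Subgroup.zpowers b with hE
  have hWV : W ≤ V := sup_le huV' hwV'
  have haE : a ∈ E := (le_sup_left : Subgroup.zpowers a ≤ E) (Subgroup.mem_zpowers a)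
  have hbE : b ∈ E := (le_sup_right : Subgroup.zpowers b ≤ E) (Subgroup.mem_zpowers b)
  have hEH : E ≤ H := sup_le (Subgroup.zpowers_le.mpr haH) (Subgroup.zpowers_le.mpr hbH)
  have hWa : W ⊓ Subgroup.centralizer {a} = Subgroup.zpowers u := by
    apply inf_eq_of_card_sq W _ _ hcardW (by rw [Nat.card_zpowers, hou]) le_sup_left huCa
    intro h
    exact haw (Subgroup.mem_centralizer_singleton_iff.mp
      (h ((le_sup_right : Subgroup.zpowers w ≤ W) (Subgroup.mem_zpowers w)))).symm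
  have hWb : W ⊓ Subgroup.centralizer {b} = Subgroup.zpowers w := by
    apply inf_eq_of_card_sq W _ _ hcardW (by rw [Nat.card_zpowers, how]) le_sup_right hwCb
    intro h
    exact hbu (Subgroup.mem_centralizer_singleton_iff.mp
      (h ((le_sup_left : Subgroup.zpowers u ≤ W) (Subgroup.mem_zpowers u)))).symm
  have hCE : Subgroup.centralizer (E : Set G) =
      Subgroup.centralizer {a} ⊓ Subgroup.centralizer {b} := by
    rw [hE, centralizer_sup_zpowers_eq, Cfsg.Agent.S3755.centralizer_zpowers_eq]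
  have hWE : W ⊓ Subgroup.centralizer (E : Set G) = ⊥ := by
    rw [eq_bot_iff, ← hdisj, hCE]
    intro g hg
    exact ⟨hWa ▸ (⟨hg.1, hg.2.1⟩ : g ∈ W ⊓ Subgroup.centralizer {a}),
      hWb ▸ (⟨hg.1, hg.2.2⟩ : g ∈ W ⊓ Subgroup.centralizer {b})⟩
  -- `V = W × C_V(E)`
  set CV := V ⊓ Subgroup.centralizer (E : Set G) with hCV
  have hCVeq : CV = (V ⊓ Subgroup.centralizer {a}) ⊓ (V ⊓ Subgroup.centralizer {b}) := by
    rw [hCV, hCE, inf_inf_distrib_left]
  have hrel : CV.relIndex V ≤ p * p := by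
    rw [hCVeq]
    refine le_trans Subgroup.relIndex_inf_le ?_
    rw [← card_commutator_zpowers V hVc a haN, ← card_commutator_zpowers V hVc b hbN, hUa, hUb,
      Nat.card_zpowers, Nat.card_zpowers, hou, how]
  have hcardV : Nat.card CV * CV.relIndex V = Nat.card V := by
    have h1 := Subgroup.relIndex_mul_relIndex (⊥ : Subgroup G) CV V bot_le inf_le_left
    rwa [Subgroup.relIndex_bot_left, Subgroup.relIndex_bot_left] at h1
  have hcardWC : Nat.card ↥(W ⊔ CV) = Nat.card W * Nat.card CV := by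
    apply Cfsg.Agent.Lib.Helper25_CyclicDual.card_sup_of_commute
    · rw [eq_bot_iff, ← hWE]
      exact inf_le_inf_left W inf_le_right
    · intro x hx y hy
      exact hVc x (hWV hx) y hy.1
  have hVeq : W ⊔ CV = V := by
    apply Subgroup.eq_of_le_of_card_ge (sup_le hWV inf_le_left)
    rw [hcardWC, ← hcardV, hcardW, sq]
    exact Nat.mul_le_mul_right _ hrel |>.trans (le_of_eq (by ring)) |> le_trans (le_of_eq (by ring))
  refine ⟨hWE, hVeq, ?_⟩
  rw [eq_bot_iff, ← hf]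
  intro g hg
  refine Subgroup.mem_inf.mpr ⟨hEH hg.1, ?_⟩
  have h1 : V ≤ Subgroup.centralizer {g} := by
    rw [← hVeq]
    refine sup_le ?_ ?_
    · intro v hv
      rw [Subgroup.mem_centralizer_singleton_iff]
      exact Subgroup.mem_centralizer_iff.mp hg.2 v hv
    · intro v hv
      rw [Subgroup.mem_centralizer_singleton_iff]
      exact (Subgroup.mem_centralizer_iff.mp hv.2 g hg.1).symm
  rw [Subgroup.mem_centralizer_iff]
  intro v hv
  exact Subgroup.mem_centralizer_singleton_iff.mp (h1 hv)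

/-- modulo `O_{p'}(H)` the group `⟨a, a^x⟩` is generated by `a`, so commutators with `a` fall into
`O_{p'}(H)` -/
theorem comm_mem_coreK (H : Subgroup G) (a x : G) (haH : a ∈ H) (hx : x ∈ coreK p H) :
    ∀ g ∈ Subgroup.zpowers a ⊔ Subgroup.zpowers (x * a * x⁻¹), ⁅g, a⁆ ∈ coreK p H := by
  obtain ⟨y, hy, rfl⟩ := hx
  set π := QuotientGroup.mk' (Cfsg.pPrimeCore p ↥H) with hπ
  have hπy : π y = 1 := (QuotientGroup.eq_one_iff y).mpr hy
  let T : Subgroup G := ((Subgroup.centralizer {π ⟨a, haH⟩}).comap π).map H.subtype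
  have haT : a ∈ T := by
    refine ⟨⟨a, haH⟩, ?_, rfl⟩
    rw [SetLike.mem_coe, Subgroup.mem_comap, Subgroup.mem_centralizer_singleton_iff]
  have hbT : H.subtype y * a * (H.subtype y)⁻¹ ∈ T := by
    refine ⟨y * ⟨a, haH⟩ * y⁻¹, ?_, rfl⟩
    rw [SetLike.mem_coe, Subgroup.mem_comap, Subgroup.mem_centralizer_singleton_iff, map_mul,
      map_mul, map_inv, hπy]
    simp
  intro g hg
  have hgT : g ∈ T :=
    (sup_le (Subgroup.zpowers_le.mpr haT) (Subgroup.zpowers_le.mpr hbT)) hg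
  obtain ⟨gH, hgH, rfl⟩ := hgT
  rw [SetLike.mem_coe, Subgroup.mem_comap, Subgroup.mem_centralizer_singleton_iff] at hgH
  refine ⟨⁅gH, ⟨a, haH⟩⁆, ?_, rfl⟩
  rw [SetLike.mem_coe, ← QuotientGroup.eq_one_iff]
  show π ⁅gH, ⟨a, haH⟩⁆ = 1
  rw [map_commutatorElement, commutatorElement_eq_one_iff_mul_comm]
  exact hgH

open scoped IsMulCommutative in
/-- the main theorem: `⟨a, a^x⟩ ≅ SL₂(p)` acting on the plane `[V, ⟨a, a^x⟩]`, and `p ≤ 3` -/
theorem core_ext (V H : Subgroup G) (hV : Cfsg.IsElementaryAbelian p V)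
    (hHV : H ≤ Subgroup.normalizer (V : Set G))
    (hf : H ⊓ Subgroup.centralizer (V : Set G) = ⊥)
    (a x : G) (haH : a ∈ H) (hx : x ∈ coreK p H) (hap : a ^ p = 1)
    (hcard : Nat.card ↥(⁅V, Subgroup.zpowers a⁆) = p) (hxa : x * a ≠ a * x) :
    (p = 2 ∨ p = 3) ∧
    Nat.card ↥(⁅V, Subgroup.zpowers a ⊔ Subgroup.zpowers (x * a * x⁻¹)⁆) = p ^ 2 ∧
    (Subgroup.zpowers a ⊔ Subgroup.zpowers (x * a * x⁻¹)) ⊓
      Subgroup.centralizer
        ((⁅V, Subgroup.zpowers a ⊔ Subgroup.zpowers (x * a * x⁻¹)⁆ : Subgroup G) : Set G) = ⊥ ∧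
    Nonempty (↥(Subgroup.zpowers a ⊔ Subgroup.zpowers (x * a * x⁻¹)) ≃*
      Matrix.SpecialLinearGroup (Fin 2) (ZMod p)) ∧
    (∀ v ∈ ⁅V, Subgroup.zpowers a ⊔ Subgroup.zpowers (x * a * x⁻¹)⁆, v ≠ 1 →
      ∃ g ∈ Subgroup.zpowers a ⊔ Subgroup.zpowers (x * a * x⁻¹),
        v ∈ ⁅V, Subgroup.zpowers (g * a * g⁻¹)⁆) ∧
    ⁅V, Subgroup.zpowers a ⊔ Subgroup.zpowers (x * a * x⁻¹)⁆ ⊓
      Subgroup.centralizer
        ((Subgroup.zpowers a ⊔ Subgroup.zpowers (x * a * x⁻¹) : Subgroup G) : Set G) = ⊥ ∧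
    ⁅V, Subgroup.zpowers a ⊔ Subgroup.zpowers (x * a * x⁻¹)⁆ ⊔ (V ⊓
      Subgroup.centralizer
        ((Subgroup.zpowers a ⊔ Subgroup.zpowers (x * a * x⁻¹) : Subgroup G) : Set G)) = V := by
  have hp := (Fact.out : p.Prime)
  have hVc : ∀ x ∈ V, ∀ y ∈ V, x * y = y * x := fun x hx y hy => by
    have := hV.1
    exact congrArg Subtype.val (mul_comm' (⟨x, hx⟩ : V) ⟨y, hy⟩)
  have hxH : x ∈ H := coreK_le H hx
  have hbH : x * a * x⁻¹ ∈ H := H.mul_mem (H.mul_mem hxH haH) (H.inv_mem hxH)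
  obtain ⟨u, huV, hou, how, hUa, hUb, hau, hbw, haw, hbu⟩ :=
    structure_lemma V H hV hHV hf a x haH hx hap hcard hxa
  have hwV : x * u * x⁻¹ ∈ V := (Subgroup.mem_normalizer_iff.mp (hHV hxH) u).mp huV
  obtain ⟨hdisj, hcardW, hVE, hEW, hWE', hVeq'⟩ :=
    plane_lemma V H hV hHV hf a (x * a * x⁻¹) u (x * u * x⁻¹)
      haH hbH huV hwV hou how hUa hUb hau hbw haw hbu
  have hK := comm_mem_coreK H a x haH hx
  rw [hVE]
  set b := x * a * x⁻¹ with hb
  set w := x * u * x⁻¹ with hw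
  set W := Subgroup.zpowers u ⊔ Subgroup.zpowers w with hW
  set E := Subgroup.zpowers a ⊔ Subgroup.zpowers b with hE
  have hWV : W ≤ V := sup_le (Subgroup.zpowers_le.mpr huV) (Subgroup.zpowers_le.mpr hwV)
  have haE : a ∈ E := (le_sup_left : Subgroup.zpowers a ≤ E) (Subgroup.mem_zpowers a)
  have hbE : b ∈ E := (le_sup_right : Subgroup.zpowers b ≤ E) (Subgroup.mem_zpowers b)
  have huW : u ∈ W := (le_sup_left : Subgroup.zpowers u ≤ W) (Subgroup.mem_zpowers u)
  have hwW : w ∈ W := (le_sup_right : Subgroup.zpowers w ≤ W) (Subgroup.mem_zpowers w)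
  have hEN : E ≤ Subgroup.normalizer (W : Set G) := by
    refine sup_le (Subgroup.zpowers_le.mpr ?_) (Subgroup.zpowers_le.mpr ?_)
    · apply mem_normalizer_of_comm_mem V W hWV a
      intro v hv
      have h1 : ⁅V, Subgroup.zpowers a⁆ ≤ W := by rw [hUa]; exact le_sup_left
      exact ⟨h1 (Subgroup.commutator_mem_commutator hv (Subgroup.mem_zpowers a)),
        h1 (Subgroup.commutator_mem_commutator hv (Subgroup.inv_mem _ (Subgroup.mem_zpowers a)))⟩
    · apply mem_normalizer_of_comm_mem V W hWV b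
      intro v hv
      have h1 : ⁅V, Subgroup.zpowers b⁆ ≤ W := by rw [hUb]; exact le_sup_right
      exact ⟨h1 (Subgroup.commutator_mem_commutator hv (Subgroup.mem_zpowers b)),
        h1 (Subgroup.commutator_mem_commutator hv (Subgroup.inv_mem _ (Subgroup.mem_zpowers b)))⟩
  have hWcomm : IsMulCommutative W :=
    ⟨⟨fun x y => Subtype.ext (hVc x (hWV x.2) y (hWV y.2))⟩⟩
  let φ := Cfsg.Agent.Lib.Helper2_Coprime.conjAut W E hEN
  have hφ : Function.Injective φ := by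
    rw [injective_iff_map_eq_one]
    intro g hg
    have : (g : G) ∈ E ⊓ Subgroup.centralizer (W : Set G) := by
      refine Subgroup.mem_inf.mpr ⟨g.2, ?_⟩
      rw [Subgroup.mem_centralizer_iff]
      intro h hh
      have h1 : ((φ g ⟨h, hh⟩ : ↥W) : G) = h := by rw [hg]; rfl
      rw [Cfsg.Agent.Lib.Helper2_Coprime.conjAut_apply_coe] at h1
      calc h * (g : G) = ((g : G) * h * (g : G)⁻¹) * g := by rw [h1]
        _ = g * h := by group
    rw [hEW, Subgroup.mem_bot] at this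
    exact Subtype.ext this
  -- the transvection parameters
  obtain ⟨s, hs⟩ : ∃ s : ℕ, u ^ s = a * w * a⁻¹ * w⁻¹ := by
    have h1 : a * w * a⁻¹ * w⁻¹ ∈ Subgroup.zpowers u := by
      have e : a * w * a⁻¹ * w⁻¹ = ⁅w, a⁆⁻¹ := by simp only [commutatorElement_def]; group
      rw [e, ← hUa]
      exact Subgroup.inv_mem _ (Subgroup.commutator_mem_commutator hwV (Subgroup.mem_zpowers a))
    rw [← mem_powers_iff_mem_zpowers] at h1
    exact h1
  obtain ⟨t, ht⟩ : ∃ t : ℕ, w ^ t = b * u * b⁻¹ * u⁻¹ := by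
    have h1 : b * u * b⁻¹ * u⁻¹ ∈ Subgroup.zpowers w := by
      have e : b * u * b⁻¹ * u⁻¹ = ⁅u, b⁆⁻¹ := by simp only [commutatorElement_def]; group
      rw [e, ← hUb]
      exact Subgroup.inv_mem _ (Subgroup.commutator_mem_commutator huV (Subgroup.mem_zpowers b))
    rw [← mem_powers_iff_mem_zpowers] at h1
    exact h1
  have hσ : ((s : ℕ) : ZMod p) ≠ 0 := by
    intro h0
    rw [ZMod.natCast_eq_zero_iff, ← hou] at h0
    rw [orderOf_dvd_iff_pow_eq_one.mp h0] at hs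
    apply haw
    calc a * w = (a * w * a⁻¹ * w⁻¹) * w * a := by group
      _ = w * a := by rw [← hs, one_mul]
  have hτ : ((t : ℕ) : ZMod p) ≠ 0 := by
    intro h0
    rw [ZMod.natCast_eq_zero_iff, ← how] at h0
    rw [orderOf_dvd_iff_pow_eq_one.mp h0] at ht
    apply hbu
    calc b * u = (b * u * b⁻¹ * u⁻¹) * u * b := by group
      _ = u * b := by rw [← ht, one_mul]
  have hσv : u ^ ((s : ℕ) : ZMod p).val = u ^ s := by
    rw [ZMod.val_natCast]
    conv_lhs => rw [← hou]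
    exact pow_mod_orderOf u s
  have hτv : w ^ ((t : ℕ) : ZMod p).val = w ^ t := by
    rw [ZMod.val_natCast]
    conv_lhs => rw [← how]
    exact pow_mod_orderOf w t
  have hup : u ^ p = 1 := by rw [← hou]; exact pow_orderOf_eq_one u
  have hwp : w ^ p = 1 := by rw [← how]; exact pow_orderOf_eq_one w
  have hu1 : u ≠ 1 := by
    rintro rfl
    rw [orderOf_one] at hou
    exact hp.one_lt.ne hou
  have hw1 : w ≠ 1 := by
    intro h
    rw [h, orderOf_one] at how
    exact hp.one_lt.ne how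
  obtain ⟨hiso, hconj, htrans⟩ :=
    sl2_of_two_transvections (V' := ↥W) (E := ↥E) hcardW ⟨u, huW⟩ ⟨w, hwW⟩
    (Subtype.ext (by simpa using hup)) (Subtype.ext (by simpa using hwp))
    (fun h => hu1 (congrArg Subtype.val h))
    (by
      intro h
      obtain ⟨k, hk⟩ := Subgroup.mem_zpowers_iff.mp h
      have h1 : u ^ k = w := by simpa using congrArg Subtype.val hk
      have h2 : w ∈ Subgroup.zpowers u ⊓ Subgroup.zpowers w :=
        ⟨h1 ▸ Subgroup.zpow_mem _ (Subgroup.mem_zpowers u) k, Subgroup.mem_zpowers w⟩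
      rw [hdisj, Subgroup.mem_bot] at h2
      exact hw1 h2)
    φ hφ ⟨a, haE⟩ ⟨b, hbE⟩
    (by
      intro S haS hbS
      rw [eq_top_iff]
      intro g _
      have h1 : E ≤ S.map E.subtype :=
        sup_le (Subgroup.zpowers_le.mpr ⟨_, haS, rfl⟩) (Subgroup.zpowers_le.mpr ⟨_, hbS, rfl⟩)
      obtain ⟨g', hg', hgg⟩ := h1 g.2
      have : g' = g := Subtype.ext hgg
      rwa [← this])
    ((s : ℕ) : ZMod p) ((t : ℕ) : ZMod p) hσ hτ
    (by
      apply Subtype.ext
      show a * u * a⁻¹ = u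
      rw [hau]; group)
    (by
      apply Subtype.ext
      show a * w * a⁻¹ = u ^ ((s : ℕ) : ZMod p).val * w
      rw [hσv, hs]; group)
    (by
      apply Subtype.ext
      show b * u * b⁻¹ = u * w ^ ((t : ℕ) : ZMod p).val
      rw [hτv, hVc u huV (w ^ t) (V.pow_mem hwV t), ht]; group)
    (by
      apply Subtype.ext
      show b * w * b⁻¹ = w
      rw [hbw]; group)
  refine ⟨?_, hcardW, hEW, hiso, ?_, hWE', hVeq'⟩
  swap
  · intro v hvW hv1
    obtain ⟨g, hg⟩ := htrans ⟨v, hvW⟩ (fun h => hv1 (congrArg Subtype.val h))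
    refine ⟨g, g.2, ?_⟩
    have hgN : (g : G) ∈ Subgroup.normalizer (V : Set G) :=
      hHV ((sup_le (Subgroup.zpowers_le.mpr haH) (Subgroup.zpowers_le.mpr hbH) : E ≤ H) g.2)
    rw [commutator_zpowers_conj V g a hgN, hUa, MonoidHom.map_zpowers]
    have h1 : (MulAut.conj (g : G)).toMonoidHom u = v := by
      have h2 : ((φ g ⟨u, huW⟩ : ↥W) : G) = v := congrArg Subtype.val hg
      rw [Cfsg.Agent.Lib.Helper2_Coprime.conjAut_apply_coe] at h2
      simpa using h2
    rw [h1]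
    exact Subgroup.mem_zpowers v
  by_cases hp2 : p = 2
  · left; exact hp2
  right
  obtain ⟨g, hg⟩ := hconj hp2
  have hg' : (g : G) * a * (g : G)⁻¹ = a ^ 4 := by simpa using congrArg Subtype.val hg
  have h3 : a ^ 3 ∈ coreK p H := by
    have := hK g g.2
    have e : ⁅(g : G), a⁆ = a ^ 3 := by
      rw [commutatorElement_def, hg']; group
    rwa [e] at this
  have h31 : a ^ 3 = 1 := by
    have h4 : orderOf (a ^ 3) ∣ p :=
      orderOf_dvd_of_pow_eq_one (by rw [← pow_mul, mul_comm, pow_mul, hap, one_pow])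
    have h5 : orderOf (a ^ 3) ∣ Nat.card (coreK p H) := Subgroup.orderOf_dvd_natCard _ h3
    exact orderOf_eq_one_iff.mp (Nat.eq_one_of_dvd_coprimes (coreK_coprime H) h5 h4)
  have ha1 : a ≠ 1 := by
    rintro rfl
    exact hxa (by simp)
  have hoa : orderOf a = p := orderOf_eq_prime hap ha1
  have : p ∣ 3 := by rw [← hoa]; exact orderOf_dvd_of_pow_eq_one h31
  exact (Nat.prime_dvd_prime_iff_eq hp Nat.prime_three).mp this

/-- the main theorem: `⟨a, a^x⟩ ≅ SL₂(p)` acting on the plane `[V, ⟨a, a^x⟩]`, and `p ≤ 3` -/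
theorem core (V H : Subgroup G) (hV : Cfsg.IsElementaryAbelian p V)
    (hHV : H ≤ Subgroup.normalizer (V : Set G))
    (hf : H ⊓ Subgroup.centralizer (V : Set G) = ⊥)
    (a x : G) (haH : a ∈ H) (hx : x ∈ coreK p H) (hap : a ^ p = 1)
    (hcard : Nat.card ↥(⁅V, Subgroup.zpowers a⁆) = p) (hxa : x * a ≠ a * x) :
    (p = 2 ∨ p = 3) ∧
    Nat.card ↥(⁅V, Subgroup.zpowers a ⊔ Subgroup.zpowers (x * a * x⁻¹)⁆) = p ^ 2 ∧
    (Subgroup.zpowers a ⊔ Subgroup.zpowers (x * a * x⁻¹)) ⊓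
      Subgroup.centralizer
        ((⁅V, Subgroup.zpowers a ⊔ Subgroup.zpowers (x * a * x⁻¹)⁆ : Subgroup G) : Set G) = ⊥ ∧
    Nonempty (↥(Subgroup.zpowers a ⊔ Subgroup.zpowers (x * a * x⁻¹)) ≃*
      Matrix.SpecialLinearGroup (Fin 2) (ZMod p)) := by
  obtain ⟨h1, h2, h3, h4, -, -, -⟩ := core_ext V H hV hHV hf a x haH hx hap hcard hxa
  exact ⟨h1, h2, h3, h4⟩

end core

end Cfsg.Agent.Lib.Helper62_SL2
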