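import Cfsg.Agent.Lib.Helper62_SL2
import Cfsg.Agent.Lib.Helper24_CoprimeAction
import Cfsg.Agent.Lib.Helper10_ConjAction
import Cfsg.Agent.S2301
import Cfsg.Agent.S0055

set_option autoImplicit false
set_option linter.unusedSectionVars false
set_option linter.unusedVariables false

/-!
# `[K, A] A = ⟨A, A^x⟩` (helper62)

KS 9.3: for a minimal best offender `A = ⟨a⟩` and `K = O_{p'}(H)`, every `K`-conjugate of `a` lies in
`L = ⟨a, a^x⟩ ≅ SL₂(p)` (`x ∈ K` not centralizing `a`), so `[K, A] A = L` and `|[K, A]| = p² - 1`.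
-/

namespace Cfsg.Agent.Lib.Helper62_SL2Closure

open Cfsg.Agent.Lib.Helper62_Offender Cfsg.Agent.Lib.Helper62_SL2
open Cfsg.Agent.Lib.Helper24_CoprimeAction
open scoped commutatorElement

variable {G : Type*} [Group G] [Finite G] {p : ℕ} [Fact p.Prime]

/-- every `K`-conjugate of `a` lies in `⟨a, a^x⟩` -/
theorem conj_mem (V H : Subgroup G) (hV : Cfsg.IsElementaryAbelian p V)
    (hHV : H ≤ Subgroup.normalizer (V : Set G))
    (hf : H ⊓ Subgroup.centralizer (V : Set G) = ⊥)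
    (a x : G) (haH : a ∈ H) (hx : x ∈ coreK p H) (hap : a ^ p = 1)
    (hcard : Nat.card ↥(⁅V, Subgroup.zpowers a⁆) = p) (hxa : x * a ≠ a * x)
    (y : G) (hy : y ∈ coreK p H) :
    y * a * y⁻¹ ∈ Subgroup.zpowers a ⊔ Subgroup.zpowers (x * a * x⁻¹) := by
  have hp := (Fact.out : p.Prime)
  have hVc : ∀ x ∈ V, ∀ y ∈ V, x * y = y * x := fun x hx y hy => by
    have := hV.1
    exact congrArg Subtype.val (mul_comm' (⟨x, hx⟩ : V) ⟨y, hy⟩)
  have hxH : x ∈ H := coreK_le H hx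
  have hbH : x * a * x⁻¹ ∈ H := H.mul_mem (H.mul_mem hxH haH) (H.inv_mem hxH)
  obtain ⟨-, hcardW, -, -, htrans, -, -⟩ := core_ext V H hV hHV hf a x haH hx hap hcard hxa
  set L := Subgroup.zpowers a ⊔ Subgroup.zpowers (x * a * x⁻¹) with hL
  have hLH : L ≤ H := sup_le (Subgroup.zpowers_le.mpr haH) (Subgroup.zpowers_le.mpr hbH)
  have haL : a ∈ L := (le_sup_left : Subgroup.zpowers a ≤ L) (Subgroup.mem_zpowers a)
  have hWV : ⁅V, L⁆ ≤ V := commutator_le_of_normalizer V L (hLH.trans hHV)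
  have hyH : y ∈ H := coreK_le H hy
  have hb'H : y * a * y⁻¹ ∈ H := H.mul_mem (H.mul_mem hyH haH) (H.inv_mem hyH)
  have hb'N := hHV hb'H
  have hcardconj : ∀ k ∈ H, Nat.card ↥(⁅V, Subgroup.zpowers (k * a * k⁻¹)⁆) = p := by
    intro k hk
    rw [commutator_zpowers_conj V k a (hHV hk),
      Subgroup.card_map_of_injective (MulAut.conj k).injective, hcard]
  have hrel : (V ⊓ Subgroup.centralizer {y * a * y⁻¹}).relIndex V = p := by
    rw [← card_commutator_zpowers V hVc _ hb'N, hcardconj y hyH]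
  -- `W ∩ C(b') ≠ 1`
  have hne : ⁅V, L⁆ ⊓ Subgroup.centralizer {y * a * y⁻¹} ≠ ⊥ := by
    intro h
    have h1 : Nat.card ↥(⁅V, L⁆ ⊔ (V ⊓ Subgroup.centralizer {y * a * y⁻¹})) =
        Nat.card ↥(⁅V, L⁆) * Nat.card ↥(V ⊓ Subgroup.centralizer {y * a * y⁻¹}) :=
      Cfsg.Agent.Lib.Helper25_CyclicDual.card_sup_of_commute _ _
        (by rw [eq_bot_iff, ← h]; exact inf_le_inf_left _ inf_le_right)
        (fun x hx y hy => hVc x (hWV hx) y hy.1)
    have h2 : Nat.card ↥(⁅V, L⁆ ⊔ (V ⊓ Subgroup.centralizer {y * a * y⁻¹})) ≤ Nat.card V :=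
      Nat.le_of_dvd Nat.card_pos (Subgroup.card_dvd_of_le (sup_le hWV inf_le_left))
    have h3 : Nat.card ↥(V ⊓ Subgroup.centralizer {y * a * y⁻¹}) * p = Nat.card V := by
      have := Subgroup.relIndex_mul_relIndex (⊥ : Subgroup G)
        (V ⊓ Subgroup.centralizer {y * a * y⁻¹}) V bot_le inf_le_left
      rwa [Subgroup.relIndex_bot_left, Subgroup.relIndex_bot_left, hrel] at this
    rw [h1, hcardW, ← h3] at h2
    have hc : 0 < Nat.card ↥(V ⊓ Subgroup.centralizer {y * a * y⁻¹}) := Nat.card_pos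
    nlinarith [hp.two_le]
  obtain ⟨v, hv, hv1⟩ : ∃ v ∈ ⁅V, L⁆ ⊓ Subgroup.centralizer {y * a * y⁻¹}, v ≠ 1 := by
    by_contra hcon
    push Not at hcon
    exact hne (eq_bot_iff.mpr fun x hx => Subgroup.mem_bot.mpr (hcon x hx))
  obtain ⟨g, hgL, hvg⟩ := htrans v hv.1 hv1
  -- `g = k a'`
  have haK : Subgroup.zpowers a ≤ Subgroup.normalizer ((coreK p H : Subgroup G) : Set G) :=
    Subgroup.zpowers_le.mpr (le_normalizer_coreK H haH)
  have hLKA : L ≤ coreK p H ⊔ Subgroup.zpowers a := by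
    refine sup_le le_sup_right (Subgroup.zpowers_le.mpr ?_)
    have e : x * a * x⁻¹ = (x * (a * x⁻¹ * a⁻¹)) * a := by group
    rw [e]
    exact Subgroup.mul_mem _ ((le_sup_left : coreK p H ≤ _) (Subgroup.mul_mem _ hx
      ((Subgroup.mem_normalizer_iff.mp (le_normalizer_coreK H haH) x⁻¹).mp
        (Subgroup.inv_mem _ hx))))
      ((le_sup_right : Subgroup.zpowers a ≤ _) (Subgroup.mem_zpowers a))
  obtain ⟨k, hk, a', ha', hgk⟩ :=
    exists_mul_of_mem_sup (Subgroup.zpowers a) (coreK p H) haK (hLKA hgL)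
  have hcomm : a' * a = a * a' := by
    obtain ⟨n, rfl⟩ := Subgroup.mem_zpowers_iff.mp ha'
    exact ((Commute.refl a).zpow_left n).eq
  have hconj : g * a * g⁻¹ = k * a * k⁻¹ := by
    rw [hgk]
    calc k * a' * a * (k * a')⁻¹ = k * (a' * a) * a'⁻¹ * k⁻¹ := by group
      _ = k * (a * a') * a'⁻¹ * k⁻¹ := by rw [hcomm]
      _ = _ := by group
  rw [hconj] at hvg
  have ha''L : k * a * k⁻¹ ∈ L := by
    rw [← hconj]
    exact L.mul_mem (L.mul_mem hgL haL) (L.inv_mem hgL)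
  have hzK : y * k⁻¹ ∈ coreK p H := Subgroup.mul_mem _ hy (Subgroup.inv_mem _ hk)
  have hz : (y * k⁻¹) * (k * a * k⁻¹) * (y * k⁻¹)⁻¹ = y * a * y⁻¹ := by group
  by_cases hza : (y * k⁻¹) * (k * a * k⁻¹) = (k * a * k⁻¹) * (y * k⁻¹)
  · have : y * a * y⁻¹ = k * a * k⁻¹ := by
      rw [← hz, hza]; group
    rw [this]
    exact ha''L
  · exfalso
    have hkH := coreK_le H hk
    have ha''H : k * a * k⁻¹ ∈ H := H.mul_mem (H.mul_mem hkH haH) (H.inv_mem hkH)
    have ha''p : (k * a * k⁻¹) ^ p = 1 := by rw [conj_pow, hap]; group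
    obtain ⟨u'', hu''V, hou'', -, hU'', -, -, -, -, hbu''⟩ :=
      structure_lemma V H hV hHV hf (k * a * k⁻¹) (y * k⁻¹) ha''H hzK ha''p (hcardconj k hkH) hza
    rw [hz] at hbu''
    apply hbu''
    have h1 : Subgroup.zpowers v = Subgroup.zpowers u'' :=
      zpowers_eq_of_mem_of_prime hou'' (hU'' ▸ hvg) hv1
    have h2 : u'' ∈ Subgroup.centralizer {y * a * y⁻¹} := by
      have h3 : Subgroup.zpowers v ≤ Subgroup.centralizer {y * a * y⁻¹} :=
        Subgroup.zpowers_le.mpr hv.2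
      exact h3 (h1 ▸ Subgroup.mem_zpowers u'')
    exact (Subgroup.mem_centralizer_singleton_iff.mp h2).symm

/-- `[K, A] A = ⟨a, a^x⟩` -/
theorem commutator_sup_eq (V H : Subgroup G) (hV : Cfsg.IsElementaryAbelian p V)
    (hHV : H ≤ Subgroup.normalizer (V : Set G))
    (hf : H ⊓ Subgroup.centralizer (V : Set G) = ⊥)
    (a x : G) (haH : a ∈ H) (hx : x ∈ coreK p H) (hap : a ^ p = 1)
    (hcard : Nat.card ↥(⁅V, Subgroup.zpowers a⁆) = p) (hxa : x * a ≠ a * x) :
    ⁅coreK p H, Subgroup.zpowers a⁆ ⊔ Subgroup.zpowers a =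
      Subgroup.zpowers a ⊔ Subgroup.zpowers (x * a * x⁻¹) := by
  apply le_antisymm
  · refine sup_le ?_ le_sup_left
    rw [Subgroup.commutator_le]
    intro k hk a' ha'
    obtain ⟨n, rfl⟩ := Subgroup.mem_zpowers_iff.mp ha'
    have e : ⁅k, a ^ n⁆ = (k * a * k⁻¹) ^ n * (a ^ n)⁻¹ := by
      rw [commutatorElement_def, conj_zpow]
    rw [e]
    exact Subgroup.mul_mem _
      (Subgroup.zpow_mem _ (conj_mem V H hV hHV hf a x haH hx hap hcard hxa k hk) n)
      (Subgroup.inv_mem _ ((le_sup_left : Subgroup.zpowers a ≤ _)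
        (Subgroup.zpow_mem _ (Subgroup.mem_zpowers a) n)))
  · refine sup_le le_sup_right (Subgroup.zpowers_le.mpr ?_)
    have e : x * a * x⁻¹ = ⁅x, a⁆ * a := by rw [commutatorElement_def]; group
    rw [e]
    exact Subgroup.mul_mem _
      ((le_sup_left : ⁅coreK p H, Subgroup.zpowers a⁆ ≤ _)
        (Subgroup.commutator_mem_commutator hx (Subgroup.mem_zpowers a)))
      ((le_sup_right : Subgroup.zpowers a ≤ _) (Subgroup.mem_zpowers a))

/-- `|[K, A]| = p² - 1` -/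
theorem card_commutator (V H : Subgroup G) (hV : Cfsg.IsElementaryAbelian p V)
    (hHV : H ≤ Subgroup.normalizer (V : Set G))
    (hf : H ⊓ Subgroup.centralizer (V : Set G) = ⊥)
    (a x : G) (haH : a ∈ H) (hx : x ∈ coreK p H) (hap : a ^ p = 1)
    (hcard : Nat.card ↥(⁅V, Subgroup.zpowers a⁆) = p) (hxa : x * a ≠ a * x) :
    Nat.card ↥(⁅coreK p H, Subgroup.zpowers a⁆) = p ^ 2 - 1 := by
  have hp := (Fact.out : p.Prime)
  have ha1 : a ≠ 1 := by
    rintro rfl
    exact hxa (by simp)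
  have hoa : orderOf a = p := orderOf_eq_prime hap ha1
  have hcardA : Nat.card (Subgroup.zpowers a) = p := by rw [Nat.card_zpowers, hoa]
  have haK : Subgroup.zpowers a ≤ Subgroup.normalizer ((coreK p H : Subgroup G) : Set G) :=
    Subgroup.zpowers_le.mpr (le_normalizer_coreK H haH)
  have hQK : ⁅coreK p H, Subgroup.zpowers a⁆ ≤ coreK p H :=
    commutator_le_of_le_normalizer _ _ haK
  have hAQ : Subgroup.zpowers a ≤
      Subgroup.normalizer ((⁅coreK p H, Subgroup.zpowers a⁆ : Subgroup G) : Set G) :=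
    fun g hg => mem_normalizer_commutator _ _ (haK hg) (Subgroup.le_normalizer hg)
  have hcopQ : (Nat.card ↥(⁅coreK p H, Subgroup.zpowers a⁆)).Coprime
      (Nat.card (Subgroup.zpowers a)) := by
    rw [hcardA]
    exact Nat.Coprime.coprime_dvd_left (Subgroup.card_dvd_of_le hQK) (coreK_coprime H)
  have hdisj : ⁅coreK p H, Subgroup.zpowers a⁆ ⊓ Subgroup.zpowers a = ⊥ :=
    (Subgroup.disjoint_of_coprime_natCard hcopQ).eq_bot
  have hcompl := (isComplement'_subgroupOf_sup (Subgroup.zpowers a)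
    ⁅coreK p H, Subgroup.zpowers a⁆ hAQ hdisj).2.card_mul_card
  rw [card_subgroupOf_of_le le_sup_left, card_subgroupOf_of_le le_sup_right, hcardA,
    commutator_sup_eq V H hV hHV hf a x haH hx hap hcard hxa] at hcompl
  obtain ⟨-, -, -, ⟨e⟩, -⟩ := core_ext V H hV hHV hf a x haH hx hap hcard hxa
  rw [Nat.card_congr e.toEquiv, Cfsg.Agent.S2301.card_SL2, ZMod.card] at hcompl
  have hpos : 0 < p := hp.pos
  have : Nat.card ↥(⁅coreK p H, Subgroup.zpowers a⁆) * p = (p ^ 2 - 1) * p := by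
    rw [hcompl, mul_comm]
  exact Nat.eq_of_mul_eq_mul_right hpos this

/-- for `p = 3` the group `[K, A]` (of order 8) is not abelian -/
theorem not_commutative (V H : Subgroup G) (hV : Cfsg.IsElementaryAbelian p V)
    (hHV : H ≤ Subgroup.normalizer (V : Set G))
    (hf : H ⊓ Subgroup.centralizer (V : Set G) = ⊥)
    (a x : G) (haH : a ∈ H) (hx : x ∈ coreK p H) (hap : a ^ p = 1)
    (hcard : Nat.card ↥(⁅V, Subgroup.zpowers a⁆) = p) (hxa : x * a ≠ a * x) (hp3 : p = 3) :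
    ¬ IsMulCommutative ↥(⁅coreK p H, Subgroup.zpowers a⁆) := by
  intro hc
  have hcardQ := card_commutator V H hV hHV hf a x haH hx hap hcard hxa
  have ha1 : a ≠ 1 := by
    rintro rfl
    exact hxa (by simp)
  have hoa : orderOf a = p := orderOf_eq_prime hap ha1
  have hcardA : Nat.card (Subgroup.zpowers a) = p := by rw [Nat.card_zpowers, hoa]
  have haK : Subgroup.zpowers a ≤ Subgroup.normalizer ((coreK p H : Subgroup G) : Set G) :=
    Subgroup.zpowers_le.mpr (le_normalizer_coreK H haH)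
  have hQK : ⁅coreK p H, Subgroup.zpowers a⁆ ≤ coreK p H :=
    commutator_le_of_le_normalizer _ _ haK
  have hAQ : Subgroup.zpowers a ≤
      Subgroup.normalizer ((⁅coreK p H, Subgroup.zpowers a⁆ : Subgroup G) : Set G) :=
    fun g hg => mem_normalizer_commutator _ _ (haK hg) (Subgroup.le_normalizer hg)
  have hcopK : (Nat.card (Subgroup.zpowers a)).Coprime (Nat.card (coreK p H)) := by
    rw [hcardA]
    exact (coreK_coprime H).symm
  have hcopQ : (Nat.card (Subgroup.zpowers a)).Coprime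
      (Nat.card ↥(⁅coreK p H, Subgroup.zpowers a⁆)) :=
    Nat.Coprime.coprime_dvd_right (Subgroup.card_dvd_of_le hQK) hcopK
  obtain ⟨h1, -⟩ := Cfsg.Agent.S0055.result (Subgroup.zpowers a)
    ⁅coreK p H, Subgroup.zpowers a⁆ hAQ hcopQ
  have hsolv : Group.IsSolvable ↥(Subgroup.zpowers a) :=
    Group.isSolvable_of_comm (fun x y => mul_comm' x y)
  have hQQ : ⁅coreK p H, Subgroup.zpowers a⁆ ≤
      ⁅⁅coreK p H, Subgroup.zpowers a⁆, Subgroup.zpowers a⁆ := by
    rw [Subgroup.commutator_le]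
    intro k hk a' ha'
    obtain ⟨d, hd, c, hc', rfl⟩ :=
      coprime_decomp (Subgroup.zpowers a) (coreK p H) haK hcopK (Or.inl hsolv) hk
    have hca : ⁅c, a'⁆ = 1 :=
      commutatorElement_eq_one_iff_mul_comm.mpr
        ((Subgroup.mem_centralizer_iff.mp hc'.2 a' ha').symm)
    have e : ⁅d * c, a'⁆ = d * ⁅c, a'⁆ * d⁻¹ * ⁅d, a'⁆ := by
      simp only [commutatorElement_def]; group
    rw [e, hca, mul_one, mul_inv_cancel, one_mul]
    exact Subgroup.commutator_mem_commutator hd ha'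
  have hCQ : ⁅coreK p H, Subgroup.zpowers a⁆ ⊓
      Subgroup.centralizer ((Subgroup.zpowers a : Subgroup G) : Set G) = ⊥ := by
    rw [eq_bot_iff, ← h1]
    exact le_inf le_rfl (inf_le_left.trans hQQ)
  subst hp3
  have hPA : IsPGroup 3 (Subgroup.zpowers a) := IsPGroup.of_card (n := 1) (by rw [hcardA, pow_one])
  have hmod := Cfsg.Agent.Lib.Helper10_ConjAction.card_modEq_card_centralizer (q := 3)
    (Subgroup.zpowers a) ⁅coreK 3 H, Subgroup.zpowers a⁆ hPA hAQ
  rw [hCQ, Subgroup.card_bot, hcardQ] at hmod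
  exact absurd hmod (by decide)

end Cfsg.Agent.Lib.Helper62_SL2Closure
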