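import Mathlib
import Cfsg.Agent.Lib.Helper41_SLRDefs

/-!
SLR market (sub-market of S4613 package PSL; sub-architect helper41), package TP (helper62):
the diagonal subgroup of `SL_n(F)`, `F` finite of characteristic `p`, has order prime to `p`
(every element has exponent dividing `|F| - 1`).
-/

set_option autoImplicit false
set_option linter.unusedSectionVars false
set_option linter.unusedVariables false

namespace Cfsg.Agent.Lib.Helper62_SLR_TP

open Matrix Cfsg.Agent.Lib.Helper68_MatGrp Cfsg.Agent.Lib.Helper41_SLRDefs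

variable {n : ℕ} {F : Type*} [Field F]

/-- a diagonal element of `SL_n(F)` has exponent dividing `|F| - 1` -/
theorem pow_card_sub_one_of_mem_Tsl [Fintype F] {g : Matrix.SpecialLinearGroup (Fin n) F}
    (hg : g ∈ Tsl n F) : g ^ (Fintype.card F - 1) = 1 := by
  classical
  have hdiag : g.1 = Matrix.diagonal (fun a => g.1 a a) := by
    ext a b
    by_cases hab : a = b
    · subst hab
      rw [Matrix.diagonal_apply_eq]
    · rw [Matrix.diagonal_apply_ne _ hab]
      exact (mem_Tsl.mp hg) a b hab
  have hdet : ∏ a, g.1 a a = 1 := by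
    have h1 := g.2
    rw [hdiag, Matrix.det_diagonal] at h1
    exact h1
  have hne : ∀ a, g.1 a a ≠ 0 := by
    intro a h0
    have : ∏ a, g.1 a a = 0 := Finset.prod_eq_zero (Finset.mem_univ a) h0
    rw [hdet] at this
    exact one_ne_zero this
  apply Subtype.ext
  rw [Matrix.SpecialLinearGroup.coe_pow, hdiag, Matrix.diagonal_pow]
  rw [Matrix.SpecialLinearGroup.coe_one, ← Matrix.diagonal_one]
  congr 1
  funext a
  exact FiniteField.pow_card_sub_one_eq_one (g.1 a a) (hne a)

/-- **SLR-TP** -/
theorem card_Tsl_not_dvd [Fintype F] (p : ℕ) [Fact p.Prime] [CharP F p] :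
    ¬ p ∣ Nat.card ↥(Tsl n F) := by
  classical
  intro hdvd
  have hp : p.Prime := Fact.out
  obtain ⟨t, ht⟩ := exists_prime_orderOf_dvd_card' p hdvd
  have hpow : t ^ (Fintype.card F - 1) = 1 := by
    apply Subtype.ext
    rw [Subgroup.coe_pow, Subgroup.coe_one]
    exact pow_card_sub_one_of_mem_Tsl t.2
  have h1 : p ∣ Fintype.card F - 1 := by
    rw [← ht]
    exact orderOf_dvd_of_pow_eq_one hpow
  have h2 : p ∣ Fintype.card F := by
    have h3 : ((Fintype.card F : ℕ) : F) = 0 := Nat.cast_card_eq_zero F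
    exact (CharP.cast_eq_zero_iff F p _).mp h3
  have hpos : 0 < Fintype.card F := Fintype.card_pos
  have h4 : p ∣ Fintype.card F - (Fintype.card F - 1) := Nat.dvd_sub h2 h1
  have h5 : Fintype.card F - (Fintype.card F - 1) = 1 := by omega
  rw [h5] at h4
  exact hp.one_lt.ne' (Nat.dvd_one.mp h4)

end Cfsg.Agent.Lib.Helper62_SLR_TP
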