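import Cfsg.Agent.Lib.Helper62_SL2Closure
import Cfsg.Agent.Lib.Helper48_Generation
import Cfsg.Agent.S0611
import Cfsg.Agent.S0612

set_option autoImplicit false
set_option linter.unusedSectionVars false
set_option linter.unusedVariables false

/-!
# The structure theorem for failure of factorization (KS 9.3), helper62

`V` elementary abelian, `H ≤ N(V)` faithful with `K = O_{p'}(H)`, `C_H(K) ≤ K`.  A *transvection
element* is `a ∈ H` with `a^p = 1` and `|[V, ⟨a⟩]| = p`.  For such `a`, `E a = [K, ⟨a⟩]⟨a⟩ ≅ SL₂(p)`.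
Key dichotomy: another transvection element `b` lies in `E a` or centralizes `E a` and `[V, E a]`.
-/

namespace Cfsg.Agent.Lib.Helper62_Structure

open Cfsg.Agent.Lib.Helper62_Offender Cfsg.Agent.Lib.Helper62_SL2
open Cfsg.Agent.Lib.Helper62_SL2Closure
open Cfsg.Agent.Lib.Helper24_CoprimeAction
open scoped commutatorElement

variable {G : Type*} [Group G] [Finite G] {p : ℕ} [Fact p.Prime]

/-- ambient hypotheses -/
structure Amb (p : ℕ) (V H : Subgroup G) : Prop where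
  hV : Cfsg.IsElementaryAbelian p V
  hHV : H ≤ Subgroup.normalizer (V : Set G)
  hf : H ⊓ Subgroup.centralizer (V : Set G) = ⊥
  hS1 : Subgroup.centralizer (Cfsg.pPrimeCore p ↥H : Set ↥H) ≤ Cfsg.pPrimeCore p ↥H

/-- transvection elements -/
structure IsTv (p : ℕ) (V H : Subgroup G) (a : G) : Prop where
  mem : a ∈ H
  pow : a ^ p = 1
  card : Nat.card ↥(⁅V, Subgroup.zpowers a⁆) = p

variable {V H : Subgroup G}

theorem Amb.comm (amb : Amb p V H) : ∀ x ∈ V, ∀ y ∈ V, x * y = y * x := fun x hx y hy => by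
  have := amb.hV.1
  exact congrArg Subtype.val (mul_comm' (⟨x, hx⟩ : V) ⟨y, hy⟩)

theorem IsTv.ne_one {a : G} (ha : IsTv p V H a) : a ≠ 1 := by
  rintro rfl
  have h := ha.card
  have hp := (Fact.out : p.Prime)
  have : ⁅V, Subgroup.zpowers (1 : G)⁆ = ⊥ := by
    rw [Subgroup.zpowers_one_eq_bot]
    exact Subgroup.commutator_bot_right V
  rw [this, Subgroup.card_bot] at h
  exact hp.one_lt.ne h

theorem IsTv.orderOf {a : G} (ha : IsTv p V H a) : orderOf a = p :=
  orderOf_eq_prime ha.pow ha.ne_one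

theorem IsTv.conj (amb : Amb p V H) {a : G} (ha : IsTv p V H a) {g : G} (hg : g ∈ H) :
    IsTv p V H (g * a * g⁻¹) where
  mem := H.mul_mem (H.mul_mem hg ha.mem) (H.inv_mem hg)
  pow := by rw [conj_pow, ha.pow]; group
  card := by
    rw [commutator_zpowers_conj V g a (amb.hHV hg),
      Subgroup.card_map_of_injective (MulAut.conj g).injective, ha.card]

theorem exists_noncomm (amb : Amb p V H) {a : G} (ha : IsTv p V H a) :
    ∃ x ∈ coreK p H, x * a ≠ a * x := by
  by_contra hcon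
  push Not at hcon
  have h1 : a ∈ H ⊓ Subgroup.centralizer ((coreK p H : Subgroup G) : Set G) :=
    Subgroup.mem_inf.mpr ⟨ha.mem, Subgroup.mem_centralizer_iff.mpr fun x hx => hcon x hx⟩
  have haK := coreK_con H amb.hS1 h1
  have h4 : _root_.orderOf a ∣ p := orderOf_dvd_of_pow_eq_one ha.pow
  have h5 : _root_.orderOf a ∣ Nat.card (coreK p H) := Subgroup.orderOf_dvd_natCard _ haK
  exact ha.ne_one (orderOf_eq_one_iff.mp (Nat.eq_one_of_dvd_coprimes (coreK_coprime H) h5 h4))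

/-- `a` centralizes `[V, ⟨a⟩]` -/
theorem IsTv.centralizes (amb : Amb p V H) {a : G} (ha : IsTv p V H a) :
    ∀ w ∈ ⁅V, Subgroup.zpowers a⁆, a * w = w * a := by
  obtain ⟨x, hx, hxa⟩ := exists_noncomm amb ha
  obtain ⟨u, -, -, -, hUa, -, hau, -⟩ :=
    structure_lemma V H amb.hV amb.hHV amb.hf a x ha.mem hx ha.pow ha.card hxa
  intro w hw
  rw [hUa] at hw
  have : Subgroup.zpowers u ≤ Subgroup.centralizer {a} := by
    rw [Subgroup.zpowers_le, Subgroup.mem_centralizer_singleton_iff]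
    exact hau.symm
  exact (Subgroup.mem_centralizer_singleton_iff.mp (this hw)).symm

/-- the subgroup `E a = [K, ⟨a⟩]⟨a⟩` -/
def E (p : ℕ) (H : Subgroup G) (a : G) : Subgroup G :=
  ⁅coreK p H, Subgroup.zpowers a⁆ ⊔ Subgroup.zpowers a

theorem self_mem_E (a : G) : a ∈ E p H a :=
  (le_sup_right : Subgroup.zpowers a ≤ E p H a) (Subgroup.mem_zpowers a)

theorem E_le {a : G} (ha : a ∈ H) : E p H a ≤ H := by
  have haK : Subgroup.zpowers a ≤ Subgroup.normalizer ((coreK p H : Subgroup G) : Set G) :=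
    Subgroup.zpowers_le.mpr (le_normalizer_coreK H ha)
  exact sup_le ((commutator_le_of_le_normalizer _ _ haK).trans (coreK_le H))
    (Subgroup.zpowers_le.mpr ha)

/-- the main facts about `E a` -/
theorem E_facts (amb : Amb p V H) {a : G} (ha : IsTv p V H a) :
    (p = 2 ∨ p = 3) ∧ Nat.card ↥(⁅V, E p H a⁆) = p ^ 2 ∧
    E p H a ⊓ Subgroup.centralizer ((⁅V, E p H a⁆ : Subgroup G) : Set G) = ⊥ ∧
    Nonempty (↥(E p H a) ≃* Matrix.SpecialLinearGroup (Fin 2) (ZMod p)) ∧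
    (∀ v ∈ ⁅V, E p H a⁆, v ≠ 1 → ∃ g ∈ E p H a, v ∈ ⁅V, Subgroup.zpowers (g * a * g⁻¹)⁆) ∧
    ⁅V, E p H a⁆ ⊓ Subgroup.centralizer ((E p H a : Subgroup G) : Set G) = ⊥ ∧
    ⁅V, E p H a⁆ ⊔ (V ⊓ Subgroup.centralizer ((E p H a : Subgroup G) : Set G)) = V := by
  obtain ⟨x, hx, hxa⟩ := exists_noncomm amb ha
  have h := core_ext V H amb.hV amb.hHV amb.hf a x ha.mem hx ha.pow ha.card hxa
  rw [← commutator_sup_eq V H amb.hV amb.hHV amb.hf a x ha.mem hx ha.pow ha.card hxa] at h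
  exact h

theorem conj_mem_E (amb : Amb p V H) {a : G} (ha : IsTv p V H a) {y : G}
    (hy : y ∈ coreK p H) : y * a * y⁻¹ ∈ E p H a := by
  obtain ⟨x, hx, hxa⟩ := exists_noncomm amb ha
  have h := conj_mem V H amb.hV amb.hHV amb.hf a x ha.mem hx ha.pow ha.card hxa y hy
  rw [← commutator_sup_eq V H amb.hV amb.hHV amb.hf a x ha.mem hx ha.pow ha.card hxa] at h
  exact h

theorem exists_core_conj {a : G} (ha : a ∈ H) {g : G} (hg : g ∈ E p H a) :
    ∃ k ∈ coreK p H, g * a * g⁻¹ = k * a * k⁻¹ := by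
  have haK : Subgroup.zpowers a ≤ Subgroup.normalizer ((coreK p H : Subgroup G) : Set G) :=
    Subgroup.zpowers_le.mpr (le_normalizer_coreK H ha)
  have hle : E p H a ≤ coreK p H ⊔ Subgroup.zpowers a :=
    sup_le ((commutator_le_of_le_normalizer _ _ haK).trans le_sup_left) le_sup_right
  obtain ⟨k, hk, a', ha', hgk⟩ :=
    exists_mul_of_mem_sup (Subgroup.zpowers a) (coreK p H) haK (hle hg)
  have hcomm : a' * a = a * a' := by
    obtain ⟨n, rfl⟩ := Subgroup.mem_zpowers_iff.mp ha'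
    exact ((Commute.refl a).zpow_left n).eq
  refine ⟨k, hk, ?_⟩
  rw [hgk]
  calc k * a' * a * (k * a')⁻¹ = k * (a' * a) * a'⁻¹ * k⁻¹ := by group
    _ = k * (a * a') * a'⁻¹ * k⁻¹ := by rw [hcomm]
    _ = _ := by group

theorem E_conj_le (amb : Amb p V H) {a : G} (ha : IsTv p V H a) {k : G}
    (hk : k ∈ coreK p H) : E p H (k * a * k⁻¹) ≤ E p H a := by
  have h1 : k * a * k⁻¹ ∈ E p H a := conj_mem_E amb ha hk
  refine sup_le ?_ (Subgroup.zpowers_le.mpr h1)
  rw [Subgroup.commutator_le]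
  intro k' hk' a' ha'
  obtain ⟨n, rfl⟩ := Subgroup.mem_zpowers_iff.mp ha'
  have e : ∀ c : G, ⁅k', c ^ n⁆ = (k' * c * k'⁻¹) ^ n * (c ^ n)⁻¹ := by
    intro c
    rw [commutatorElement_def, conj_zpow]
  rw [e]
  have h2 : k' * (k * a * k⁻¹) * k'⁻¹ ∈ E p H a := by
    have e2 : k' * (k * a * k⁻¹) * k'⁻¹ = (k' * k) * a * (k' * k)⁻¹ := by group
    rw [e2]
    exact conj_mem_E amb ha (Subgroup.mul_mem _ hk' hk)
  exact Subgroup.mul_mem _ (Subgroup.zpow_mem _ h2 n)
    (Subgroup.inv_mem _ (Subgroup.zpow_mem _ h1 n))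

theorem E_conj_eq (amb : Amb p V H) {a : G} (ha : IsTv p V H a) {k : G}
    (hk : k ∈ coreK p H) : E p H (k * a * k⁻¹) = E p H a := by
  apply le_antisymm (E_conj_le amb ha hk)
  have h := E_conj_le amb (ha.conj amb (coreK_le H hk)) (Subgroup.inv_mem _ hk)
  have e : k⁻¹ * (k * a * k⁻¹) * k⁻¹⁻¹ = a := by group
  rwa [e] at h

theorem mem_normalizer_zpowers_of_comm {x d : G} (h : x * d = d * x) :
    x ∈ Subgroup.normalizer ((Subgroup.zpowers d : Subgroup G) : Set G) := by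
  rw [mem_normalizer_iff_map_conj, MonoidHom.map_zpowers]
  congr 1
  show x * d * x⁻¹ = d
  rw [h]; group

/-- two transvection elements with the same centre generate the same group -/
theorem same_center (amb : Amb p V H) {a a' : G} (ha : IsTv p V H a) (ha' : IsTv p V H a')
    (h : ⁅V, Subgroup.zpowers a⁆ = ⁅V, Subgroup.zpowers a'⁆) : a' ∈ Subgroup.zpowers a := by
  have hp := (Fact.out : p.Prime)
  have hVc := amb.comm
  have hPV : ⁅V, Subgroup.zpowers a⁆ ≤ V :=
    commutator_le_of_normalizer V _ (Subgroup.zpowers_le.mpr (amb.hHV ha.mem))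
  -- `a` and `a'` commute
  have hcomm : a * a' = a' * a := by
    have key : ∀ v ∈ V, a' * (a * v * a⁻¹) * a'⁻¹ = a * (a' * v * a'⁻¹) * a⁻¹ := by
      intro v hv
      have hc : a * v * a⁻¹ * v⁻¹ ∈ ⁅V, Subgroup.zpowers a⁆ := by
        have e : a * v * a⁻¹ * v⁻¹ = ⁅v, a⁆⁻¹ := by simp only [commutatorElement_def]; group
        rw [e]
        exact Subgroup.inv_mem _ (Subgroup.commutator_mem_commutator hv (Subgroup.mem_zpowers a))
      have hc' : a' * v * a'⁻¹ * v⁻¹ ∈ ⁅V, Subgroup.zpowers a'⁆ := by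
        have e : a' * v * a'⁻¹ * v⁻¹ = ⁅v, a'⁆⁻¹ := by simp only [commutatorElement_def]; group
        rw [e]
        exact Subgroup.inv_mem _ (Subgroup.commutator_mem_commutator hv (Subgroup.mem_zpowers a'))
      have h1 : a' * (a * v * a⁻¹ * v⁻¹) = (a * v * a⁻¹ * v⁻¹) * a' :=
        ha'.centralizes amb _ (h ▸ hc)
      have h2 : a * (a' * v * a'⁻¹ * v⁻¹) = (a' * v * a'⁻¹ * v⁻¹) * a :=
        ha.centralizes amb _ (h ▸ hc')
      have h3 : (a * v * a⁻¹ * v⁻¹) * (a' * v * a'⁻¹ * v⁻¹) =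
          (a' * v * a'⁻¹ * v⁻¹) * (a * v * a⁻¹ * v⁻¹) :=
        hVc _ (hPV hc) _ (hPV (h ▸ hc'))
      calc a' * (a * v * a⁻¹) * a'⁻¹ = (a' * (a * v * a⁻¹ * v⁻¹)) * v * a'⁻¹ := by group
        _ = ((a * v * a⁻¹ * v⁻¹) * a') * v * a'⁻¹ := by rw [h1]
        _ = (a * v * a⁻¹ * v⁻¹) * (a' * v * a'⁻¹ * v⁻¹) * v := by group
        _ = (a' * v * a'⁻¹ * v⁻¹) * (a * v * a⁻¹ * v⁻¹) * v := by rw [h3]
        _ = ((a' * v * a'⁻¹ * v⁻¹) * a) * v * a⁻¹ := by group
        _ = (a * (a' * v * a'⁻¹ * v⁻¹)) * v * a⁻¹ := by rw [h2]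
        _ = a * (a' * v * a'⁻¹) * a⁻¹ := by group
    have hmem : (a * a')⁻¹ * (a' * a) ∈ H ⊓ Subgroup.centralizer (V : Set G) := by
      refine Subgroup.mem_inf.mpr ⟨H.mul_mem (H.inv_mem (H.mul_mem ha.mem ha'.mem))
        (H.mul_mem ha'.mem ha.mem), ?_⟩
      rw [Subgroup.mem_centralizer_iff]
      intro v hv
      symm
      calc (a * a')⁻¹ * (a' * a) * v
          = (a * a')⁻¹ * (a' * (a * v * a⁻¹) * a'⁻¹) * (a' * a) := by group
        _ = (a * a')⁻¹ * (a * (a' * v * a'⁻¹) * a⁻¹) * (a' * a) := by rw [key v hv]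
        _ = v * ((a * a')⁻¹ * (a' * a)) := by group
    rw [amb.hf, Subgroup.mem_bot] at hmem
    calc a * a' = (a * a') * ((a * a')⁻¹ * (a' * a)) := by rw [hmem, mul_one]
      _ = a' * a := by group
  by_contra hna
  have hzne : ∀ i : ℕ, a * a' ^ i ≠ 1 := by
    intro i hi
    have h1 : a ∈ Subgroup.zpowers a' := by
      have : a = (a' ^ i)⁻¹ := eq_inv_of_mul_eq_one_left hi
      rw [this]
      exact Subgroup.inv_mem _ (Subgroup.pow_mem _ (Subgroup.mem_zpowers a') i)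
    have h2 : Subgroup.zpowers a = Subgroup.zpowers a' :=
      Subgroup.eq_of_le_of_card_ge (Subgroup.zpowers_le.mpr h1)
        (by rw [Nat.card_zpowers, Nat.card_zpowers, ha.orderOf, ha'.orderOf])
    exact hna (h2 ▸ Subgroup.mem_zpowers a')
  -- `K` normalizes `P`
  have hKP : coreK p H ≤ Subgroup.normalizer ((⁅V, Subgroup.zpowers a⁆ : Subgroup G) : Set G) := by
    have hcop : ¬ p ∣ Nat.card (coreK p H) :=
      (Nat.Prime.coprime_iff_not_dvd hp).mp (coreK_coprime H).symm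
    apply Cfsg.Agent.Lib.Helper48_Generation.le_of_centralizers_le (coreK p H) hcop a a'
      (le_normalizer_coreK H ha.mem) (le_normalizer_coreK H ha'.mem) ha.pow ha'.pow hcomm
    · intro x hx
      rw [h]
      exact mem_normalizer_commutator V _ (amb.hHV (coreK_le H hx.1))
        (mem_normalizer_zpowers_of_comm (Subgroup.mem_centralizer_singleton_iff.mp hx.2))
    · intro i x hx
      have hdH : a * a' ^ i ∈ H := H.mul_mem ha.mem (H.pow_mem ha'.mem i)
      have hle : ⁅V, Subgroup.zpowers (a * a' ^ i)⁆ ≤ ⁅V, Subgroup.zpowers a⁆ := by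
        have h1 : Subgroup.zpowers (a * a' ^ i) ≤ Subgroup.zpowers a ⊔ Subgroup.zpowers a' :=
          Subgroup.zpowers_le.mpr (Subgroup.mul_mem _
            ((le_sup_left : Subgroup.zpowers a ≤ _) (Subgroup.mem_zpowers a))
            ((le_sup_right : Subgroup.zpowers a' ≤ _)
              (Subgroup.pow_mem _ (Subgroup.mem_zpowers a') i)))
        calc ⁅V, Subgroup.zpowers (a * a' ^ i)⁆
            ≤ ⁅V, Subgroup.zpowers a ⊔ Subgroup.zpowers a'⁆ := Subgroup.commutator_mono le_rfl h1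
          _ ≤ ⁅V, Subgroup.zpowers a⁆ ⊔ ⁅V, Subgroup.zpowers a'⁆ :=
            commutator_sup_le V _ _ (Subgroup.zpowers_le.mpr (amb.hHV ha.mem))
              (Subgroup.zpowers_le.mpr (amb.hHV ha'.mem))
          _ = ⁅V, Subgroup.zpowers a⁆ := by rw [← h, sup_idem]
      have hne : ⁅V, Subgroup.zpowers (a * a' ^ i)⁆ ≠ ⊥ := by
        intro hbot
        rw [Subgroup.commutator_eq_bot_iff_le_centralizer] at hbot
        have : a * a' ^ i ∈ H ⊓ Subgroup.centralizer (V : Set G) := by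
          refine Subgroup.mem_inf.mpr ⟨hdH, Subgroup.mem_centralizer_iff.mpr fun v hv => ?_⟩
          exact (Subgroup.mem_centralizer_iff.mp (hbot hv) _ (Subgroup.mem_zpowers _)).symm
        rw [amb.hf, Subgroup.mem_bot] at this
        exact hzne i this
      have hcard : Nat.card ↥(⁅V, Subgroup.zpowers (a * a' ^ i)⁆) = p := by
        have hdvd := Subgroup.card_dvd_of_le hle
        rw [ha.card] at hdvd
        rcases (Nat.dvd_prime hp).mp hdvd with h1 | h1
        · exact absurd (Subgroup.card_eq_one.mp h1) hne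
        · exact h1
      have hd : ⁅V, Subgroup.zpowers (a * a' ^ i)⁆ = ⁅V, Subgroup.zpowers a⁆ :=
        Subgroup.eq_of_le_of_card_ge hle (by rw [hcard, ha.card])
      rw [← hd]
      exact mem_normalizer_commutator V _ (amb.hHV (coreK_le H hx.1))
        (mem_normalizer_zpowers_of_comm (Subgroup.mem_centralizer_singleton_iff.mp hx.2))
  -- contradiction
  obtain ⟨x, hx, hxa⟩ := exists_noncomm amb ha
  obtain ⟨u, huV, hou, how, hUa, hUb, hau, hbw, haw, hbu⟩ :=
    structure_lemma V H amb.hV amb.hHV amb.hf a x ha.mem hx ha.pow ha.card hxa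
  apply hbu
  have h1 : x * u * x⁻¹ ∈ Subgroup.zpowers u := by
    rw [← hUa]
    exact (Subgroup.mem_normalizer_iff.mp (hKP hx) u).mp (hUa ▸ Subgroup.mem_zpowers u)
  have hne1 : x * u * x⁻¹ ≠ 1 := by
    intro h0
    rw [h0, orderOf_one] at how
    exact hp.one_lt.ne how
  have h2 : Subgroup.zpowers (x * u * x⁻¹) = Subgroup.zpowers u :=
    zpowers_eq_of_mem_of_prime hou h1 hne1
  have h3 : Subgroup.zpowers (x * u * x⁻¹) ≤ Subgroup.centralizer {x * a * x⁻¹} := by
    rw [Subgroup.zpowers_le, Subgroup.mem_centralizer_singleton_iff]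
    exact hbw.symm
  have h4 : u ∈ Subgroup.centralizer {x * a * x⁻¹} := h3 (h2 ▸ Subgroup.mem_zpowers u)
  exact (Subgroup.mem_centralizer_singleton_iff.mp h4).symm

theorem zpowers_eq_of_card_prime {P : Subgroup G} (hP : Nat.card P = p) {v : G} (hv : v ∈ P)
    (hv1 : v ≠ 1) : Subgroup.zpowers v = P := by
  have hp := (Fact.out : p.Prime)
  have h1 : _root_.orderOf v ∣ p := by
    have := Subgroup.orderOf_dvd_natCard _ hv
    rwa [hP] at this
  have h2 : _root_.orderOf v = p := by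
    rcases (Nat.dvd_prime hp).mp h1 with h | h
    · exact absurd (orderOf_eq_one_iff.mp h) hv1
    · exact h
  apply Subgroup.eq_of_le_of_card_ge (Subgroup.zpowers_le.mpr hv)
  rw [Nat.card_zpowers, h2, hP]

theorem exists_ne_one_of_card_prime {P : Subgroup G} (hP : Nat.card P = p) :
    ∃ v ∈ P, v ≠ 1 := by
  have hp := (Fact.out : p.Prime)
  by_contra hcon
  push Not at hcon
  have : P = ⊥ := eq_bot_iff.mpr fun x hx => Subgroup.mem_bot.mpr (hcon x hx)
  rw [this, Subgroup.card_bot] at hP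
  exact hp.one_lt.ne hP

/-- a transvection element whose centre lies in the plane of `E a` lies in `E a` -/
theorem mem_E_of_center_le (amb : Amb p V H) {a b : G} (ha : IsTv p V H a) (hb : IsTv p V H b)
    (h : ⁅V, Subgroup.zpowers b⁆ ≤ ⁅V, E p H a⁆) : b ∈ E p H a := by
  obtain ⟨-, -, -, -, htrans, -, -⟩ := E_facts amb ha
  obtain ⟨v, hv, hv1⟩ := exists_ne_one_of_card_prime hb.card
  obtain ⟨g, hg, hvg⟩ := htrans v (h hv) hv1
  have hgH : g ∈ H := E_le ha.mem hg
  have ha₁ := ha.conj amb hgH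
  have h1 : Subgroup.zpowers v = ⁅V, Subgroup.zpowers b⁆ := zpowers_eq_of_card_prime hb.card hv hv1
  have h2 : Subgroup.zpowers v = ⁅V, Subgroup.zpowers (g * a * g⁻¹)⁆ :=
    zpowers_eq_of_card_prime ha₁.card hvg hv1
  have h3 := same_center amb ha₁ hb (h2.symm.trans h1)
  exact (Subgroup.zpowers_le.mpr (Subgroup.mul_mem _ (Subgroup.mul_mem _ hg (self_mem_E a))
    (Subgroup.inv_mem _ hg))) h3

/-- **Key dichotomy.** -/
theorem key (amb : Amb p V H) {a b : G} (ha : IsTv p V H a) (hb : IsTv p V H b) :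
    b ∈ E p H a ∨ (b ∈ Subgroup.centralizer ((⁅V, E p H a⁆ : Subgroup G) : Set G) ∧
      b ∈ Subgroup.centralizer ((E p H a : Subgroup G) : Set G)) := by
  have hp := (Fact.out : p.Prime)
  have hVc := amb.comm
  obtain ⟨-, hcardW, hEW, -, htrans, -, -⟩ := E_facts amb ha
  have hEH : E p H a ≤ H := E_le ha.mem
  have hWV : ⁅V, E p H a⁆ ≤ V := commutator_le_of_normalizer V _ (hEH.trans amb.hHV)
  have hbN := amb.hHV hb.mem
  have hrel : (V ⊓ Subgroup.centralizer {b}).relIndex V = p := by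
    rw [← card_commutator_zpowers V hVc b hbN, hb.card]
  have hne : ⁅V, E p H a⁆ ⊓ Subgroup.centralizer {b} ≠ ⊥ := by
    intro h
    have h1 : Nat.card ↥(⁅V, E p H a⁆ ⊔ (V ⊓ Subgroup.centralizer {b})) =
        Nat.card ↥(⁅V, E p H a⁆) * Nat.card ↥(V ⊓ Subgroup.centralizer {b}) :=
      Cfsg.Agent.Lib.Helper25_CyclicDual.card_sup_of_commute _ _
        (by rw [eq_bot_iff, ← h]; exact inf_le_inf_left _ inf_le_right)
        (fun x hx y hy => hVc x (hWV hx) y hy.1)
    have h2 : Nat.card ↥(⁅V, E p H a⁆ ⊔ (V ⊓ Subgroup.centralizer {b})) ≤ Nat.card V :=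
      Nat.le_of_dvd Nat.card_pos (Subgroup.card_dvd_of_le (sup_le hWV inf_le_left))
    have h3 : Nat.card ↥(V ⊓ Subgroup.centralizer {b}) * p = Nat.card V := by
      have := Subgroup.relIndex_mul_relIndex (⊥ : Subgroup G)
        (V ⊓ Subgroup.centralizer {b}) V bot_le inf_le_left
      rwa [Subgroup.relIndex_bot_left, Subgroup.relIndex_bot_left, hrel] at this
    rw [h1, hcardW, ← h3] at h2
    have hc : 0 < Nat.card ↥(V ⊓ Subgroup.centralizer {b}) := Nat.card_pos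
    nlinarith [hp.two_le]
  obtain ⟨v, hv, hv1⟩ : ∃ v ∈ ⁅V, E p H a⁆ ⊓ Subgroup.centralizer {b}, v ≠ 1 := by
    by_contra hcon
    push Not at hcon
    exact hne (eq_bot_iff.mpr fun x hx => Subgroup.mem_bot.mpr (hcon x hx))
  obtain ⟨g, hg, hvg⟩ := htrans v hv.1 hv1
  have hgH := hEH hg
  have ha₁ := ha.conj amb hgH
  obtain ⟨k, hk, hgk⟩ := exists_core_conj (p := p) ha.mem hg
  have hEeq : E p H (g * a * g⁻¹) = E p H a := by
    rw [hgk]
    exact E_conj_eq amb ha hk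
  generalize g * a * g⁻¹ = a₁ at *
  have hP₁ : ⁅V, Subgroup.zpowers a₁⁆ = Subgroup.zpowers v :=
    (zpowers_eq_of_card_prime ha₁.card hvg hv1).symm
  have ha' := ha₁.conj amb hb.mem
  have hbv : b * v * b⁻¹ = v := by
    have := Subgroup.mem_centralizer_singleton_iff.mp hv.2
    rw [← this]; group
  have hsame : ⁅V, Subgroup.zpowers a₁⁆ = ⁅V, Subgroup.zpowers (b * a₁ * b⁻¹)⁆ := by
    rw [commutator_zpowers_conj V b a₁ hbN, hP₁, MonoidHom.map_zpowers]
    congr 1
    exact hbv.symm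
  have hmem := same_center amb ha₁ ha' hsame
  have hba₁ : b * a₁ * b⁻¹ = a₁ := conj_eq_self_of_prime ha₁.orderOf hb.pow hmem
  have hcomm : b * a₁ = a₁ * b := by
    calc b * a₁ = (b * a₁ * b⁻¹) * b := by group
      _ = a₁ * b := by rw [hba₁]
  have hbE : b ∈ Subgroup.normalizer ((E p H a : Subgroup G) : Set G) := by
    rw [← hEeq, mem_normalizer_iff_map_conj]
    unfold E
    rw [Subgroup.map_sup]
    have h1 : b ∈ Subgroup.normalizer ((Subgroup.zpowers a₁ : Subgroup G) : Set G) :=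
      mem_normalizer_zpowers_of_comm hcomm
    have h2 : b ∈ Subgroup.normalizer ((⁅coreK p H, Subgroup.zpowers a₁⁆ : Subgroup G) : Set G) :=
      mem_normalizer_commutator _ _ (le_normalizer_coreK H hb.mem) h1
    rw [mem_normalizer_iff_map_conj.mp h1, mem_normalizer_iff_map_conj.mp h2]
  have hbW : b ∈ Subgroup.normalizer ((⁅V, E p H a⁆ : Subgroup G) : Set G) :=
    mem_normalizer_commutator V _ hbN hbE
  by_cases hbc : b ∈ Subgroup.centralizer ((⁅V, E p H a⁆ : Subgroup G) : Set G)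
  · right
    refine ⟨hbc, ?_⟩
    rw [Subgroup.mem_centralizer_iff]
    intro e he
    have h1 : ⁅e, b⁆ ∈ E p H a := by
      have : b * e⁻¹ * b⁻¹ ∈ E p H a :=
        (Subgroup.mem_normalizer_iff.mp hbE e⁻¹).mp (Subgroup.inv_mem _ he)
      have e' : ⁅e, b⁆ = e * (b * e⁻¹ * b⁻¹) := by simp only [commutatorElement_def]; group
      rw [e']
      exact Subgroup.mul_mem _ he this
    have h2 : ⁅e, b⁆ ∈ Subgroup.centralizer ((⁅V, E p H a⁆ : Subgroup G) : Set G) := by
      have heW : e ∈ Subgroup.normalizer ((⁅V, E p H a⁆ : Subgroup G) : Set G) :=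
        mem_normalizer_commutator V _ (amb.hHV (hEH he)) (Subgroup.le_normalizer he)
      have h3 : e * b * e⁻¹ ∈ Subgroup.centralizer ((⁅V, E p H a⁆ : Subgroup G) : Set G) := by
        rw [Subgroup.mem_centralizer_iff]
        intro w hw
        have hw' : e⁻¹ * w * e ∈ ⁅V, E p H a⁆ := (Subgroup.mem_normalizer_iff''.mp heW w).mp hw
        have := Subgroup.mem_centralizer_iff.mp hbc _ hw'
        calc w * (e * b * e⁻¹) = e * ((e⁻¹ * w * e) * b) * e⁻¹ := by group
          _ = e * (b * (e⁻¹ * w * e)) * e⁻¹ := by rw [this]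
          _ = e * b * e⁻¹ * w := by group
      have e' : ⁅e, b⁆ = (e * b * e⁻¹) * b⁻¹ := by simp only [commutatorElement_def]
      rw [e']
      exact Subgroup.mul_mem _ h3 (Subgroup.inv_mem _ hbc)
    have h3 : ⁅e, b⁆ ∈ E p H a ⊓ Subgroup.centralizer ((⁅V, E p H a⁆ : Subgroup G) : Set G) :=
      Subgroup.mem_inf.mpr ⟨h1, h2⟩
    rw [hEW, Subgroup.mem_bot, commutatorElement_eq_one_iff_mul_comm] at h3
    exact h3
  · left
    apply mem_E_of_center_le amb ha hb
    have : ∃ w ∈ ⁅V, E p H a⁆, ⁅w, b⁆ ≠ 1 := by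
      by_contra hcon
      push Not at hcon
      apply hbc
      rw [Subgroup.mem_centralizer_iff]
      intro w hw
      exact commutatorElement_eq_one_iff_mul_comm.mp (hcon w hw)
    obtain ⟨w, hw, hwb⟩ := this
    have h1 : ⁅w, b⁆ ∈ ⁅V, E p H a⁆ := by
      have : b * w⁻¹ * b⁻¹ ∈ ⁅V, E p H a⁆ :=
        (Subgroup.mem_normalizer_iff.mp hbW w⁻¹).mp (Subgroup.inv_mem _ hw)
      have e' : ⁅w, b⁆ = w * (b * w⁻¹ * b⁻¹) := by simp only [commutatorElement_def]; group
      rw [e']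
      exact Subgroup.mul_mem _ hw this
    have h2 : ⁅w, b⁆ ∈ ⁅V, Subgroup.zpowers b⁆ :=
      Subgroup.commutator_mem_commutator (hWV hw) (Subgroup.mem_zpowers b)
    rw [← zpowers_eq_of_card_prime hb.card h2 hwb]
    exact Subgroup.zpowers_le.mpr h1

/-- a minimal nontrivially acting best offender is generated by a transvection element -/
theorem exists_tv_gen (amb : Amb p V H)
    (hS3 : H = ⨆ A : {A : Subgroup G // A ≤ H ∧ Cfsg.IsBestOffenderOn p V A}, (A : Subgroup G))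
    (hH1 : H ≠ ⊥) {A : Subgroup G} (hAH : A ≤ H) (hA : Cfsg.IsBestOffenderOn p V A)
    (hAV : ⁅V, A⁆ ≠ ⊥)
    (hmin : ∀ B : Subgroup G, B ≤ A → Cfsg.IsBestOffenderOn p V B → ⁅V, B⁆ ≠ ⊥ → B = A) :
    ∃ a, IsTv p V H a ∧ A = Subgroup.zpowers a := by
  have hp := (Fact.out : p.Prime)
  obtain ⟨hcardA, hcardU, -⟩ :=
    Cfsg.Agent.S0611.result V H amb.hV amb.hHV amb.hf amb.hS1 hS3 hH1 A hAH hA hAV hmin
  obtain ⟨a, haA, ha1⟩ := exists_ne_one_of_card_prime hcardA
  have hAz : A = Subgroup.zpowers a := (zpowers_eq_of_card_prime hcardA haA ha1).symm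
  refine ⟨a, ⟨hAH haA, offender_exp V H amb.hf hAH hA haA, ?_⟩, hAz⟩
  rw [← hAz]
  exact hcardU

/-- `H` is generated by its transvection elements -/
theorem le_of_tv_mem (amb : Amb p V H)
    (hS3 : H = ⨆ A : {A : Subgroup G // A ≤ H ∧ Cfsg.IsBestOffenderOn p V A}, (A : Subgroup G))
    (hH1 : H ≠ ⊥) (T : Subgroup G) (hT : ∀ b, IsTv p V H b → b ∈ T) : H ≤ T := by
  refine hS3.le.trans (iSup_le ?_)
  rintro ⟨A, hAH, hA⟩
  show A ≤ T
  by_cases hA1 : A = ⊥
  · rw [hA1]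
    exact bot_le
  obtain ⟨k, B, hB, -, hsup⟩ :=
    Cfsg.Agent.S0612.result V H amb.hV amb.hHV amb.hf amb.hS1 hS3 hH1 A hAH hA hA1
  rw [← hsup]
  refine iSup_le fun i => ?_
  obtain ⟨hBA, hBb, hBV, hBmin⟩ := hB i
  obtain ⟨b, hb, hBz⟩ := exists_tv_gen amb hS3 hH1 (hBA.trans hAH) hBb hBV hBmin
  rw [hBz]
  exact Subgroup.zpowers_le.mpr (hT b hb)

/-- the structure around one `E a` -/
theorem structure_one (amb : Amb p V H)
    (hS3 : H = ⨆ A : {A : Subgroup G // A ≤ H ∧ Cfsg.IsBestOffenderOn p V A}, (A : Subgroup G))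
    (hH1 : H ≠ ⊥) {a : G} (ha : IsTv p V H a) :
    ⁅E p H a, H ⊓ Subgroup.centralizer ((⁅V, E p H a⁆ : Subgroup G) : Set G)⁆ = ⊥ ∧
    E p H a ⊓ (H ⊓ Subgroup.centralizer ((⁅V, E p H a⁆ : Subgroup G) : Set G)) = ⊥ ∧
    E p H a ⊔ (H ⊓ Subgroup.centralizer ((⁅V, E p H a⁆ : Subgroup G) : Set G)) = H ∧
    ⁅V, H ⊓ Subgroup.centralizer ((⁅V, E p H a⁆ : Subgroup G) : Set G)⁆ ≤
      V ⊓ Subgroup.centralizer ((E p H a : Subgroup G) : Set G) ∧
    H ≤ Subgroup.normalizer ((E p H a : Subgroup G) : Set G) ∧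
    H ⊓ Subgroup.centralizer ((⁅V, E p H a⁆ : Subgroup G) : Set G) ≤
      Subgroup.centralizer ((E p H a : Subgroup G) : Set G) := by
  have hVc := amb.comm
  obtain ⟨-, -, hEW, -, -, -, hVeq⟩ := E_facts amb ha
  have hEH : E p H a ≤ H := E_le ha.mem
  have hWV : ⁅V, E p H a⁆ ≤ V := commutator_le_of_normalizer V _ (hEH.trans amb.hHV)
  set W := ⁅V, E p H a⁆ with hW
  set C₁ := (H ⊓ Subgroup.centralizer (W : Set G)) ⊓
    Subgroup.centralizer ((E p H a : Subgroup G) : Set G) with hC₁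
  have hHT : H ≤ E p H a ⊔ C₁ :=
    le_of_tv_mem amb hS3 hH1 _ (fun b hb => (key amb ha hb).elim
      (fun h => (le_sup_left : E p H a ≤ _) h)
      (fun h => (le_sup_right : C₁ ≤ _)
        (Subgroup.mem_inf.mpr ⟨Subgroup.mem_inf.mpr ⟨hb.mem, h.1⟩, h.2⟩)))
  have hC₁N : C₁ ≤ Subgroup.normalizer ((E p H a : Subgroup G) : Set G) :=
    inf_le_right.trans (Subgroup.centralizer_le_normalizer _)
  have hCw : H ⊓ Subgroup.centralizer (W : Set G) ≤ C₁ := by
    intro h hh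
    obtain ⟨e, he, c, hc, rfl⟩ := exists_mul_of_mem_sup C₁ (E p H a) hC₁N (hHT hh.1)
    have h1 : e ∈ Subgroup.centralizer (W : Set G) := by
      have : e = (e * c) * c⁻¹ := by group
      rw [this]
      exact Subgroup.mul_mem _ hh.2 (Subgroup.inv_mem _ hc.1.2)
    have h2 : e ∈ E p H a ⊓ Subgroup.centralizer (W : Set G) := Subgroup.mem_inf.mpr ⟨he, h1⟩
    rw [hEW, Subgroup.mem_bot] at h2
    rw [h2, one_mul]
    exact hc
  have hCwE : H ⊓ Subgroup.centralizer (W : Set G) ≤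
      Subgroup.centralizer ((E p H a : Subgroup G) : Set G) := hCw.trans inf_le_right
  refine ⟨?_, ?_, ?_, ?_, ?_, hCwE⟩
  · rw [Subgroup.commutator_eq_bot_iff_le_centralizer]
    intro e he
    rw [Subgroup.mem_centralizer_iff]
    intro h hh
    exact (Subgroup.mem_centralizer_iff.mp (hCwE hh) e he).symm
  · rw [eq_bot_iff, ← hEW]
    exact inf_le_inf_left _ inf_le_right
  · exact le_antisymm (sup_le hEH inf_le_left)
      (hHT.trans (sup_le_sup_left inf_le_left _))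
  · rw [Subgroup.commutator_le]
    intro v hv h hh
    have hhN : h ∈ Subgroup.normalizer (V : Set G) := amb.hHV hh.1
    have hhE := hCwE hh
    refine Subgroup.mem_inf.mpr ⟨comm_mem_of_normalizer V h hhN hv, ?_⟩
    have hv' : v ∈ W ⊔ (V ⊓ Subgroup.centralizer ((E p H a : Subgroup G) : Set G)) := by
      rw [hVeq]; exact hv
    have hnorm : V ⊓ Subgroup.centralizer ((E p H a : Subgroup G) : Set G) ≤
        Subgroup.normalizer (W : Set G) := by
      intro c hc
      apply (Subgroup.centralizer_le_normalizer _)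
      rw [Subgroup.mem_centralizer_iff]
      intro w hw
      exact hVc w (hWV hw) c hc.1
    obtain ⟨w, hw, c, hc, rfl⟩ := exists_mul_of_mem_sup _ W hnorm hv'
    have hwh : ⁅w, h⁆ = 1 :=
      commutatorElement_eq_one_iff_mul_comm.mpr (Subgroup.mem_centralizer_iff.mp hh.2 w hw)
    rw [comm_mul_of_abelian V hVc h hhN (hWV hw) hc.1, hwh, one_mul]
    have e' : ⁅c, h⁆ = c * (h * c⁻¹ * h⁻¹) := by simp only [commutatorElement_def]; group
    rw [e']
    refine Subgroup.mul_mem _ hc.2 ?_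
    rw [Subgroup.mem_centralizer_iff]
    intro e he
    have h1 := Subgroup.mem_centralizer_iff.mp hhE e he
    have h2 := Subgroup.mem_centralizer_iff.mp (Subgroup.inv_mem _ hc.2) e he
    calc e * (h * c⁻¹ * h⁻¹) = (e * h) * c⁻¹ * h⁻¹ := by group
      _ = (h * e) * c⁻¹ * h⁻¹ := by rw [h1]
      _ = h * (e * c⁻¹) * h⁻¹ := by group
      _ = h * (c⁻¹ * e) * h⁻¹ := by rw [h2]
      _ = h * c⁻¹ * (h⁻¹ * (h * e) * h⁻¹) := by group
      _ = h * c⁻¹ * (h⁻¹ * (e * h) * h⁻¹) := by rw [h1]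
      _ = h * c⁻¹ * h⁻¹ * e := by group
  · exact hHT.trans (sup_le Subgroup.le_normalizer hC₁N)

end Cfsg.Agent.Lib.Helper62_Structure
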