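import Cfsg.Agent.Lib.Helper62_Structure

set_option autoImplicit false
set_option linter.unusedSectionVars false
set_option linter.unusedVariables false

/-!
# The structure theorem for failure of factorization, assembly (helper62)
-/

namespace Cfsg.Agent.Lib.Helper62_StructureThm

open Cfsg.Agent.Lib.Helper62_Offender Cfsg.Agent.Lib.Helper62_SL2
open Cfsg.Agent.Lib.Helper62_SL2Closure Cfsg.Agent.Lib.Helper62_Structure
open Cfsg.Agent.Lib.Helper24_CoprimeAction
open scoped commutatorElement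

variable {G : Type*} [Group G] [Finite G] {p : ℕ} [Fact p.Prime] {V H : Subgroup G}

theorem zpowers_eq_conj_of_center_le (amb : Amb p V H) {a b : G} (ha : IsTv p V H a)
    (hb : IsTv p V H b) (h : ⁅V, Subgroup.zpowers b⁆ ≤ ⁅V, E p H a⁆) :
    ∃ k ∈ coreK p H, Subgroup.zpowers b = Subgroup.zpowers (k * a * k⁻¹) := by
  obtain ⟨-, -, -, -, htrans, -, -⟩ := E_facts amb ha
  obtain ⟨v, hv, hv1⟩ := exists_ne_one_of_card_prime hb.card
  obtain ⟨g, hg, hvg⟩ := htrans v (h hv) hv1
  have hgH : g ∈ H := E_le ha.mem hg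
  have ha₁ := ha.conj amb hgH
  have h1 : Subgroup.zpowers v = ⁅V, Subgroup.zpowers b⁆ := zpowers_eq_of_card_prime hb.card hv hv1
  have h2 : Subgroup.zpowers v = ⁅V, Subgroup.zpowers (g * a * g⁻¹)⁆ :=
    zpowers_eq_of_card_prime ha₁.card hvg hv1
  have h3 := same_center amb ha₁ hb (h2.symm.trans h1)
  obtain ⟨k, hk, hgk⟩ := exists_core_conj (p := p) ha.mem hg
  refine ⟨k, hk, ?_⟩
  rw [← hgk]
  apply Subgroup.eq_of_le_of_card_ge (Subgroup.zpowers_le.mpr h3)
  rw [Nat.card_zpowers, Nat.card_zpowers, hb.orderOf, ha₁.orderOf]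

theorem E_congr {b b' : G} (h : Subgroup.zpowers b = Subgroup.zpowers b') :
    E p H b = E p H b' := by
  unfold E
  rw [h]

theorem E_eq_of_mem (amb : Amb p V H) {a b : G} (ha : IsTv p V H a) (hb : IsTv p V H b)
    (h : b ∈ E p H a) : E p H b = E p H a := by
  obtain ⟨k, hk, hz⟩ := zpowers_eq_conj_of_center_le amb ha hb
    (Subgroup.commutator_mono le_rfl (Subgroup.zpowers_le.mpr h))
  rw [E_congr hz]
  exact E_conj_eq amb ha hk

theorem E_le_centralizer (amb : Amb p V H) {a b : G} (ha : IsTv p V H a) (hb : IsTv p V H b)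
    (hne : E p H b ≠ E p H a) :
    E p H b ≤ H ⊓ Subgroup.centralizer ((⁅V, E p H a⁆ : Subgroup G) : Set G) := by
  refine le_inf (E_le hb.mem) ?_
  have hconj : ∀ k ∈ coreK p H,
      k * b * k⁻¹ ∈ Subgroup.centralizer ((⁅V, E p H a⁆ : Subgroup G) : Set G) := by
    intro k hk
    have hb' := hb.conj amb (coreK_le H hk)
    rcases key amb ha hb' with h | h
    · exfalso
      apply hne
      rw [← E_conj_eq amb hb hk]
      exact E_eq_of_mem amb ha hb' h
    · exact h.1
  have hbC : b ∈ Subgroup.centralizer ((⁅V, E p H a⁆ : Subgroup G) : Set G) := by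
    have := hconj 1 (Subgroup.one_mem _)
    simpa using this
  refine sup_le ?_ (Subgroup.zpowers_le.mpr hbC)
  rw [Subgroup.commutator_le]
  intro k hk b' hb'
  obtain ⟨n, rfl⟩ := Subgroup.mem_zpowers_iff.mp hb'
  have e : ∀ c : G, ⁅k, c ^ n⁆ = (k * c * k⁻¹) ^ n * (c ^ n)⁻¹ := by
    intro c
    rw [commutatorElement_def, conj_zpow]
  rw [e]
  exact Subgroup.mul_mem _ (Subgroup.zpow_mem _ (hconj k hk) n)
    (Subgroup.inv_mem _ (Subgroup.zpow_mem _ hbC n))

/-- `H` is generated by its minimal nontrivially-acting best offenders -/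
theorem le_of_min_le (amb : Amb p V H)
    (hS3 : H = ⨆ A : {A : Subgroup G // A ≤ H ∧ Cfsg.IsBestOffenderOn p V A}, (A : Subgroup G))
    (hH1 : H ≠ ⊥) (T : Subgroup G)
    (hT : ∀ A : Subgroup G, A ≤ H → Cfsg.IsBestOffenderOn p V A → ⁅V, A⁆ ≠ ⊥ →
      (∀ B : Subgroup G, B ≤ A → Cfsg.IsBestOffenderOn p V B → ⁅V, B⁆ ≠ ⊥ → B = A) → A ≤ T) :
    H ≤ T := by
  refine hS3.le.trans (iSup_le ?_)
  rintro ⟨A, hAH, hA⟩
  show A ≤ T
  by_cases hA1 : A = ⊥
  · rw [hA1]
    exact bot_le
  obtain ⟨k, B, hB, -, hsup⟩ :=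
    Cfsg.Agent.S0612.result V H amb.hV amb.hHV amb.hf amb.hS1 hS3 hH1 A hAH hA hA1
  rw [← hsup]
  refine iSup_le fun i => ?_
  obtain ⟨hBA, hBb, hBV, hBmin⟩ := hB i
  exact hT (B i) (hBA.trans hAH) hBb hBV hBmin

section abstract

variable {ι : Type*} [Finite ι]

/-- the abstract independence statement -/
theorem indep_abstract (V H : Subgroup G) (hVc : ∀ x ∈ V, ∀ y ∈ V, x * y = y * x)
    (Ei Wi : ι → Subgroup G) (hWV : ∀ i, Wi i ≤ V)
    (hb : ∀ i, Wi i ⊓ Subgroup.centralizer ((Ei i : Subgroup G) : Set G) = ⊥)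
    (hc : ∀ i, Wi i ⊔ (V ⊓ Subgroup.centralizer ((Ei i : Subgroup G) : Set G)) = V)
    (hd : ∀ i j, i ≠ j → Wi j ≤ Subgroup.centralizer ((Ei i : Subgroup G) : Set G))
    (he1 : ∀ i, Ei i ⊓ (H ⊓ Subgroup.centralizer ((Wi i : Subgroup G) : Set G)) = ⊥)
    (he2 : ∀ i j, i ≠ j → Ei j ≤ H ⊓ Subgroup.centralizer ((Wi i : Subgroup G) : Set G))
    (hf : H = ⨆ i, Ei i) :
    iSupIndep Ei ∧
    iSupIndep (fun o : Option ι => o.elim (V ⊓ Subgroup.centralizer (H : Set G)) Wi) ∧
    (V ⊓ Subgroup.centralizer (H : Set G)) ⊔ ⨆ i, Wi i = V := by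
  classical
  have := Fintype.ofFinite ι
  have hEH : ∀ i, Ei i ≤ H := fun i => by
    calc Ei i ≤ ⨆ i, Ei i := le_iSup Ei i
      _ = H := hf.symm
  have hnormW : ∀ (i : ι) (S : Subgroup G), S ≤ V →
      S ≤ Subgroup.normalizer ((Wi i : Subgroup G) : Set G) := by
    intro i S hS s hs
    apply Subgroup.centralizer_le_normalizer _
    rw [Subgroup.mem_centralizer_iff]
    intro w hw
    exact hVc w (hWV i hw) s (hS hs)
  -- uniqueness
  have P : ∀ S : Finset ι, ∀ v ∈ S.sup Wi,
      (∀ j ∈ S, v ∈ Subgroup.centralizer ((Ei j : Subgroup G) : Set G)) → v = 1 := by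
    intro S
    induction S using Finset.induction_on with
    | empty =>
      intro v hv _
      rw [Finset.sup_empty] at hv
      exact Subgroup.mem_bot.mp hv
    | insert i S hi ih =>
      intro v hv hcent
      rw [Finset.sup_insert] at hv
      have hSV : S.sup Wi ≤ V := Finset.sup_le fun j _ => hWV j
      obtain ⟨w, hw, s, hs, rfl⟩ := exists_mul_of_mem_sup (S.sup Wi) (Wi i) (hnormW i _ hSV) hv
      have hsE : s ∈ Subgroup.centralizer ((Ei i : Subgroup G) : Set G) :=
        (Finset.sup_le fun j hj => hd i j (by rintro rfl; exact hi hj)) hs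
      have hwE : w ∈ Subgroup.centralizer ((Ei i : Subgroup G) : Set G) := by
        have := hcent i (Finset.mem_insert_self i S)
        have e : w = (w * s) * s⁻¹ := by group
        rw [e]
        exact Subgroup.mul_mem _ this (Subgroup.inv_mem _ hsE)
      have hw1 : w = 1 := by
        have : w ∈ Wi i ⊓ Subgroup.centralizer ((Ei i : Subgroup G) : Set G) :=
          Subgroup.mem_inf.mpr ⟨hw, hwE⟩
        rwa [hb i, Subgroup.mem_bot] at this
      rw [hw1, one_mul] at hcent ⊢
      exact ih s hs (fun j hj => hcent j (Finset.mem_insert_of_mem hj))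
  -- existence
  have Q : ∀ S : Finset ι, ∀ v ∈ V, ∃ s ∈ S.sup Wi, ∃ c ∈ V,
      (∀ j ∈ S, c ∈ Subgroup.centralizer ((Ei j : Subgroup G) : Set G)) ∧ v = s * c := by
    intro S
    induction S using Finset.induction_on with
    | empty =>
      intro v hv
      exact ⟨1, Subgroup.one_mem _, v, hv, fun j hj => absurd hj (Finset.notMem_empty j),
        (one_mul v).symm⟩
    | insert i S hi ih =>
      intro v hv
      obtain ⟨s, hs, c, hcV, hcc, rfl⟩ := ih v hv
      have hc' : c ∈ Wi i ⊔ (V ⊓ Subgroup.centralizer ((Ei i : Subgroup G) : Set G)) := by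
        rw [hc i]; exact hcV
      obtain ⟨w, hw, c', hc'', rfl⟩ :=
        exists_mul_of_mem_sup _ (Wi i) (hnormW i _ inf_le_left) hc'
      refine ⟨s * w, ?_, c', hc''.1, ?_, by group⟩
      · rw [Finset.sup_insert]
        exact Subgroup.mul_mem _ ((le_sup_right : S.sup Wi ≤ _) hs)
          ((le_sup_left : Wi i ≤ _) hw)
      · intro j hj
        rcases Finset.mem_insert.mp hj with rfl | hjS
        · exact hc''.2
        · have hji : j ≠ i := by rintro rfl; exact hi hjS
          have h1 : w ∈ Subgroup.centralizer ((Ei j : Subgroup G) : Set G) := hd j i hji hw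
          have e : c' = w⁻¹ * (w * c') := by group
          rw [e]
          exact Subgroup.mul_mem _ (Subgroup.inv_mem _ h1) (hcc j hjS)
  refine ⟨?_, ?_, ?_⟩
  · intro i
    rw [disjoint_iff, eq_bot_iff, ← he1 i]
    exact inf_le_inf_left _ (iSup₂_le fun j hj => he2 i j (Ne.symm hj))
  · intro o
    cases o with
    | none =>
      rw [disjoint_iff, eq_bot_iff]
      intro v hv
      have h1 : (⨆ o', ⨆ (_ : o' ≠ none),
          (fun o : Option ι => o.elim (V ⊓ Subgroup.centralizer (H : Set G)) Wi) o') ≤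
          Finset.univ.sup Wi := by
        refine iSup₂_le fun o' ho' => ?_
        cases o' with
        | none => exact absurd rfl ho'
        | some j => exact Finset.le_sup (f := Wi) (Finset.mem_univ j)
      have hvH : v ∈ Subgroup.centralizer (H : Set G) := hv.1.2
      have := P Finset.univ v (h1 hv.2) (fun j _ =>
        Subgroup.centralizer_le (SetLike.coe_subset_coe.mpr (hEH j)) hvH)
      exact Subgroup.mem_bot.mpr this
    | some i =>
      rw [disjoint_iff, eq_bot_iff, ← hb i]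
      refine inf_le_inf_left _ (iSup₂_le fun o' ho' => ?_)
      cases o' with
      | none =>
        exact inf_le_right.trans (Subgroup.centralizer_le (SetLike.coe_subset_coe.mpr (hEH i)))
      | some j => exact hd i j (fun h => ho' (h ▸ rfl))
  · apply le_antisymm (sup_le inf_le_left (iSup_le hWV))
    intro v hv
    obtain ⟨s, hs, c, hcV, hcc, rfl⟩ := Q Finset.univ v hv
    rw [Finset.sup_univ_eq_iSup] at hs
    have hcH : c ∈ Subgroup.centralizer (H : Set G) := by
      have h1 : H ≤ Subgroup.centralizer {c} := by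
        calc H = ⨆ i, Ei i := hf
          _ ≤ Subgroup.centralizer {c} := iSup_le fun i e he => by
            rw [Subgroup.mem_centralizer_singleton_iff]
            exact Subgroup.mem_centralizer_iff.mp (hcc i (Finset.mem_univ i)) e he
      rw [Subgroup.mem_centralizer_iff]
      intro h hh
      exact Subgroup.mem_centralizer_singleton_iff.mp (h1 hh)
    exact Subgroup.mul_mem _ ((le_sup_right : (⨆ i, Wi i) ≤ _) hs)
      ((le_sup_left : V ⊓ Subgroup.centralizer (H : Set G) ≤ _) (Subgroup.mem_inf.mpr ⟨hcV, hcH⟩))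

end abstract

end Cfsg.Agent.Lib.Helper62_StructureThm
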