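import Cfsg.Agent.Lib.Helper62_StructureThm
import Cfsg.Agent.Lib.Helper62_Blocks

set_option autoImplicit false
set_option linter.unusedSectionVars false
set_option linter.unusedVariables false

/-!
# Coprime abelian operator groups on the failure-of-factorization structure (helper62)

`V`, `H` as in `Helper62_Structure.Amb`, generated by best offenders; `X` an abelian group of exponent `q`
(`q ∤ |H|`) normalizing `V` and `H`.  Then some block `(W, D)` (`|W| = p²`, `D ≅ SL₂(p)` faithful on `W`)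
is centralized by `X`.
-/

namespace Cfsg.Agent.Lib.Helper62_XAct

open Cfsg.Agent.Lib.Helper62_Offender Cfsg.Agent.Lib.Helper62_SL2
open Cfsg.Agent.Lib.Helper62_SL2Closure Cfsg.Agent.Lib.Helper62_Structure
open Cfsg.Agent.Lib.Helper62_StructureThm Cfsg.Agent.Lib.Helper62_Blocks
open Cfsg.Agent.Lib.Helper24_CoprimeAction

variable {G : Type*} [Group G] [Finite G] {p : ℕ} [Fact p.Prime] {V H : Subgroup G}

/-- the normalizer of `H` normalizes `O_{p'}(H)` -/
theorem normalizer_le_normalizer_coreK (H : Subgroup G) {y : G}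
    (hy : y ∈ Subgroup.normalizer (H : Set G)) :
    y ∈ Subgroup.normalizer ((coreK p H : Subgroup G) : Set G) := by
  apply mem_normalizer_of_conj_mem
  intro n hn
  set N' : Subgroup G := (coreK p H).map (MulAut.conj y).toMonoidHom with hN'
  have hN'H : N' ≤ H := by
    rintro _ ⟨m, hm, rfl⟩
    exact (Subgroup.mem_normalizer_iff.mp hy m).mp (coreK_le H hm)
  have hyinv : y⁻¹ ∈ Subgroup.normalizer (H : Set G) := Subgroup.inv_mem _ hy
  have hnorm : (N'.subgroupOf H).Normal := by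
    constructor
    rintro ⟨n', hn'H⟩ hn' ⟨h, hh⟩
    rw [Subgroup.mem_subgroupOf] at hn' ⊢
    obtain ⟨m, hm, hmn⟩ := hn'
    simp only [MulEquiv.coe_toMonoidHom, MulAut.conj_apply] at hmn
    have h1 : y⁻¹ * h * y ∈ H := by
      have := (Subgroup.mem_normalizer_iff.mp hyinv h).mp hh
      rwa [inv_inv] at this
    have h2 : (y⁻¹ * h * y) * m * (y⁻¹ * h * y)⁻¹ ∈ coreK p H :=
      (Subgroup.mem_normalizer_iff.mp (le_normalizer_coreK H h1) m).mp hm
    refine ⟨_, h2, ?_⟩
    simp only [MulEquiv.coe_toMonoidHom, MulAut.conj_apply, Subgroup.coe_mul, Subgroup.coe_inv]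
    rw [← hmn]
    group
  have hcop : (Nat.card (N'.subgroupOf H)).Coprime p := by
    rw [card_subgroupOf_of_le hN'H, hN',
      Subgroup.card_map_of_injective (MulAut.conj y).injective]
    exact coreK_coprime H
  have hle : N'.subgroupOf H ≤ Cfsg.pPrimeCore p ↥H := le_sSup ⟨hnorm, hcop⟩
  have hmem : y * n * y⁻¹ ∈ N' := ⟨n, hn, by simp⟩
  have := hle (show (⟨y * n * y⁻¹, hN'H hmem⟩ : H) ∈ N'.subgroupOf H from hmem)
  exact ⟨_, this, rfl⟩

theorem IsTv.conj' {a y : G} (ha : IsTv p V H a) (hyV : y ∈ Subgroup.normalizer (V : Set G))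
    (hyH : y ∈ Subgroup.normalizer (H : Set G)) : IsTv p V H (y * a * y⁻¹) where
  mem := (Subgroup.mem_normalizer_iff.mp hyH a).mp ha.mem
  pow := by rw [conj_pow, ha.pow]; group
  card := by
    rw [commutator_zpowers_conj V y a hyV,
      Subgroup.card_map_of_injective (MulAut.conj y).injective, ha.card]

theorem E_map_conj {a y : G} (hyH : y ∈ Subgroup.normalizer (H : Set G)) :
    E p H (y * a * y⁻¹) = (E p H a).map (MulAut.conj y).toMonoidHom := by
  have hK := mem_normalizer_iff_map_conj.mp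
    (normalizer_le_normalizer_coreK (p := p) H hyH)
  unfold E
  rw [Subgroup.map_sup, Subgroup.map_commutator, hK, MonoidHom.map_zpowers]
  simp only [MulEquiv.coe_toMonoidHom, MulAut.conj_apply]

theorem exists_tv (amb : Amb p V H)
    (hS3 : H = ⨆ A : {A : Subgroup G // A ≤ H ∧ Cfsg.IsBestOffenderOn p V A}, (A : Subgroup G))
    (hH1 : H ≠ ⊥) : ∃ a, IsTv p V H a := by
  by_contra hcon
  push Not at hcon
  exact hH1 (le_bot_iff.mp (le_of_tv_mem amb hS3 hH1 ⊥ fun b hb => absurd hb (hcon b)))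

theorem isBlock_of_tv (amb : Amb p V H) {a : G} (ha : IsTv p V H a) :
    IsBlock p V H ⁅V, E p H a⁆ (E p H a) := by
  obtain ⟨-, hcard, hfaith, hiso, -, hnofix, -⟩ := E_facts amb ha
  have hEH : E p H a ≤ H := E_le ha.mem
  refine ⟨commutator_le_of_normalizer V _ (hEH.trans amb.hHV), hcard, hEH, hiso, ?_, hfaith,
    hnofix⟩
  intro e he
  exact mem_normalizer_commutator V (E p H a) (amb.hHV (hEH he)) (Subgroup.le_normalizer he)

theorem orth_of_tv (amb : Amb p V H)
    (hS3 : H = ⨆ A : {A : Subgroup G // A ≤ H ∧ Cfsg.IsBestOffenderOn p V A}, (A : Subgroup G))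
    (hH1 : H ≠ ⊥) {a : G} (ha : IsTv p V H a) {X : Subgroup G}
    (hXV : X ≤ Subgroup.normalizer (V : Set G)) (hXH : X ≤ Subgroup.normalizer (H : Set G)) :
    ∀ y ∈ X, Fix ⁅V, E p H a⁆ (E p H a) y ∨ Perp ⁅V, E p H a⁆ (E p H a) y := by
  intro y hy
  have hb : IsTv p V H (y * a * y⁻¹) := IsTv.conj' ha (hXV hy) (hXH hy)
  have hEb : E p H (y * a * y⁻¹) = (E p H a).map (MulAut.conj y).toMonoidHom :=
    E_map_conj (hXH hy)
  have hVy := mem_normalizer_iff_map_conj.mp (hXV hy)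
  have hmemE : ∀ e ∈ E p H a, y * e * y⁻¹ ∈ E p H (y * a * y⁻¹) := by
    intro e he
    rw [hEb]
    exact ⟨e, he, by simp⟩
  by_cases h : y * a * y⁻¹ ∈ E p H a
  · left
    have heq := E_eq_of_mem amb ha hb h
    refine ⟨fun w hw => ?_, fun e he => heq ▸ hmemE e he⟩
    have h1 : y * w * y⁻¹ ∈ (⁅V, E p H a⁆).map (MulAut.conj y).toMonoidHom := ⟨w, hw, by simp⟩
    rwa [Subgroup.map_commutator, hVy, ← hEb, heq] at h1
  · right
    have hne : E p H (y * a * y⁻¹) ≠ E p H a := by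
      intro heq
      exact h (heq ▸ self_mem_E (y * a * y⁻¹))
    have hle := E_le_centralizer amb ha hb hne
    obtain ⟨-, -, -, -, -, hcE⟩ := structure_one amb hS3 hH1 ha
    refine ⟨fun e he g hg => ?_, fun e he w hw => ?_⟩
    · have := hcE (hle (hmemE e he))
      exact ((Subgroup.mem_centralizer_iff.mp this) g hg).symm
    · have := (hle (hmemE e he)).2
      exact ((Subgroup.mem_centralizer_iff.mp this) w hw).symm

/-- the abstract theorem -/
theorem exists_fixed_plane (amb : Amb p V H)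
    (hS3 : H = ⨆ A : {A : Subgroup G // A ≤ H ∧ Cfsg.IsBestOffenderOn p V A}, (A : Subgroup G))
    (hH1 : H ≠ ⊥) {X : Subgroup G}
    (hXV : X ≤ Subgroup.normalizer (V : Set G)) (hXH : X ≤ Subgroup.normalizer (H : Set G))
    (hXc : ∀ a ∈ X, ∀ b ∈ X, a * b = b * a) {q : ℕ} (hq : q.Prime)
    (hXq : ∀ x ∈ X, x ^ q = 1) (hqH : ¬ q ∣ Nat.card H) :
    (p = 2 ∨ p = 3) ∧ ∃ W D : Subgroup G, IsBlock p V H W D ∧ ∀ y ∈ X, Cent W D y := by
  obtain ⟨a, ha⟩ := exists_tv amb hS3 hH1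
  obtain ⟨hp23, -, -, ⟨e⟩, -, -, -⟩ := E_facts amb ha
  refine ⟨hp23, ?_⟩
  have hcardE : Nat.card (E p H a) = p * (p ^ 2 - 1) := by
    rw [Nat.card_congr e.toEquiv, Cfsg.Agent.S2301.card_SL2, ZMod.card]
  have hdvd : p * (p ^ 2 - 1) ∣ Nat.card H := by
    rw [← hcardE]
    exact Subgroup.card_dvd_of_le (E_le ha.mem)
  have hqp : q ≠ p := by
    rintro rfl
    exact hqH ((Dvd.intro _ rfl).trans hdvd)
  have hq1 : ¬ q ∣ p ^ 2 - 1 := fun h => hqH ((Dvd.dvd.mul_left h p).trans hdvd)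
  exact exists_cent amb.comm hXV hXH hXc hq hqp hq1 hXq (isBlock_of_tv amb ha)
    (orth_of_tv amb hS3 hH1 ha hXV hXH)

end Cfsg.Agent.Lib.Helper62_XAct
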