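import Mathlib
import Cfsg.Agent.Lib.Helper10_FFTransport

set_option autoImplicit false
set_option linter.unusedSectionVars false
set_option linter.unusedVariables false

/-!
# Automorphisms acting on helper10's permutation transport (helper62)
-/

namespace Cfsg.Agent.Lib.Helper62_XTransport

open Cfsg Cfsg.Agent.Lib.Helper10_FFTransport

variable {Γ : Type*} [Group Γ]

/-- `⟨Ω₁(Z(S)) : S ∈ Syl_p⟩` is invariant under automorphisms -/
theorem omegaZ_invariant [Finite Γ] {p : ℕ} [Fact p.Prime] (φ : Γ ≃* Γ) :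
    ∀ v ∈ (⨆ S : Sylow p Γ, Cfsg.omegaOne p ((S : Subgroup Γ) ⊓
      Subgroup.centralizer ((S : Subgroup Γ) : Set Γ))), φ v ∈ (⨆ S : Sylow p Γ,
      Cfsg.omegaOne p ((S : Subgroup Γ) ⊓ Subgroup.centralizer ((S : Subgroup Γ) : Set Γ))) := by
  have hle : (⨆ S : Sylow p Γ, Cfsg.omegaOne p ((S : Subgroup Γ) ⊓
      Subgroup.centralizer ((S : Subgroup Γ) : Set Γ))).map φ.toMonoidHom ≤
      (⨆ S : Sylow p Γ, Cfsg.omegaOne p ((S : Subgroup Γ) ⊓
      Subgroup.centralizer ((S : Subgroup Γ) : Set Γ))) := by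
    rw [Subgroup.map_iSup]
    refine iSup_le fun S => ?_
    have hsurj : Function.Surjective φ.toMonoidHom := φ.surjective
    have hker : IsPGroup p φ.toMonoidHom.ker := by
      have : φ.toMonoidHom.ker = ⊥ := (MonoidHom.ker_eq_bot_iff _).mpr φ.injective
      rw [this]
      exact IsPGroup.of_bot
    let S' : Sylow p Γ := S.mapSurjective hsurj
    have hS' : (S' : Subgroup Γ) = (S : Subgroup Γ).map φ.toMonoidHom := Sylow.coe_mapSurjective hsurj S
    refine le_trans ?_ (le_iSup (fun S : Sylow p Γ => Cfsg.omegaOne p ((S : Subgroup Γ) ⊓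
      Subgroup.centralizer ((S : Subgroup Γ) : Set Γ))) S')
    unfold Cfsg.omegaOne
    rw [MonoidHom.map_closure, Subgroup.closure_le]
    rintro _ ⟨x, ⟨hx, hxp⟩, rfl⟩
    apply Subgroup.subset_closure
    refine ⟨Subgroup.mem_inf.mpr ⟨?_, ?_⟩, ?_⟩
    · rw [hS']
      exact ⟨x, hx.1, rfl⟩
    · rw [Subgroup.mem_centralizer_iff]
      intro s hs
      rw [SetLike.mem_coe, hS'] at hs
      obtain ⟨s₀, hs₀, rfl⟩ := hs
      have := (Subgroup.mem_centralizer_iff.mp hx.2) s₀ hs₀
      show φ s₀ * φ x = φ x * φ s₀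
      rw [← map_mul, ← map_mul, this]
    · show (φ x) ^ p = 1
      rw [← map_pow, hxp, map_one]
  intro v hv
  exact hle ⟨v, hv, rfl⟩

section restrict

variable {Xg : Type*} [Group Xg] (V : Subgroup Γ) (α : Xg →* MulAut Γ)
  (hα : ∀ x, ∀ v ∈ V, α x v ∈ V)

/-- the action of `Xg` on `V` by restricted automorphisms, as permutations -/
noncomputable def restrictPerm : Xg →* Equiv.Perm V :=
  MonoidHom.mk' (fun x =>
    { toFun := fun v => ⟨α x v, hα x v v.2⟩
      invFun := fun v => ⟨α x⁻¹ v, hα x⁻¹ v v.2⟩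
      left_inv := fun v => by
        apply Subtype.ext
        simp [map_inv]
      right_inv := fun v => by
        apply Subtype.ext
        simp [map_inv] }) (by
    intro a b
    ext v
    simp [map_mul])

theorem restrictPerm_apply (x : Xg) (v : V) :
    ((restrictPerm V α hα x v : V) : Γ) = α x v := rfl

theorem restrictPerm_conj_j [hVn : V.Normal] (x : Xg) (v : V) :
    restrictPerm V α hα x * (permFFT V).j v * (restrictPerm V α hα x)⁻¹ =
      (permFFT V).j ⟨α x v, hα x v v.2⟩ := by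
  rw [mul_inv_eq_iff_eq_mul]
  ext u
  simp only [Equiv.Perm.coe_mul, Function.comp_apply, restrictPerm_apply, permFFT,
    MulAction.toPermHom_apply, MulAction.toPerm_apply, smul_eq_mul, Subgroup.coe_mul, map_mul]

theorem restrictPerm_conj_ι [hVn : V.Normal] (x : Xg) (k : Γ) :
    restrictPerm V α hα x * (permFFT V).ι k * (restrictPerm V α hα x)⁻¹ =
      (permFFT V).ι (α x k) := by
  rw [mul_inv_eq_iff_eq_mul]
  ext u
  simp only [Equiv.Perm.coe_mul, Function.comp_apply, restrictPerm_apply, permFFT,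
    conjPerm_apply, map_mul, map_inv]

end restrict

end Cfsg.Agent.Lib.Helper62_XTransport
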