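import Mathlib
import Cfsg.Prelude.Def_Characters
import Cfsg.Prelude.Def_Blocks
import Cfsg.Agent.Lib.Helper80_CharBasic
import Cfsg.Agent.Lib.Helper79_CharVals
import Cfsg.Agent.Lib.Helper10_N19_MULT
import Cfsg.Agent.Lib.Helper74_CharTools

/-!
S0984 package VAL5 (helper62's A7 market): an irreducible character of degree 6 of a simple group
of order 2520 takes the value 1 at an element `y` of order 5 with `w y w⁻¹ = y²`.  helper63.
-/

set_option autoImplicit false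
open Cfsg Cfsg.Agent.Lib.Helper80_CharBasic

namespace Cfsg.Agent.Lib.Helper63_A7_VAL5

/-- arithmetic core: `6 + 4 v = 5 m₁`, `6 - v = 5 m_ζ` force `v = 6` or `v = 1` -/
theorem arith (v : ℂ) (m1 mz : ℕ) (h1 : 6 + 4 * v = 5 * (m1 : ℂ)) (h2 : 6 - v = 5 * (mz : ℂ)) :
    v = 6 ∨ v = 1 := by
  have hv : v = 6 - 5 * (mz : ℂ) := by linear_combination -h2
  have h3 : ((m1 : ℤ) : ℂ) = ((6 - 4 * (mz : ℤ) : ℤ) : ℂ) := by
    push_cast
    rw [hv] at h1
    linear_combination -(1 / 5 : ℂ) * h1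
  have h4 : (m1 : ℤ) = 6 - 4 * (mz : ℤ) := by exact_mod_cast h3
  have h5 : mz = 0 ∨ mz = 1 := by omega
  rcases h5 with rfl | rfl
  · left
    rw [hv]
    norm_num
  · right
    rw [hv]
    norm_num

theorem val5 {G : Type*} [Group G] [Finite G] [IsSimpleGroup G]
    (hG : Nat.card G = 2520) (χ : Cfsg.IrrCharacter G) (hχ : Cfsg.charDegree (χ : G → ℂ) = 6)
    (y w : G) (hy : orderOf y = 5) (hw : w * y * w⁻¹ = y ^ 2) : (χ : G → ℂ) y = 1 := by
  classical
  obtain ⟨n, ρ, hirr, hρ⟩ := χ.2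
  have hone : ρ.character 1 = (n : ℂ) := by
    rw [Representation.char_one]
    simp
  have hdn : Cfsg.charDegree (χ : G → ℂ) = n := by
    apply Cfsg.Agent.Lib.Helper79_CharVals.charDegree_of_eq_natCast
    rw [← hρ, hone]
  have hn6 : n = 6 := by rw [← hdn, hχ]
  have hy5 : y ^ 5 = 1 := by rw [← hy, pow_orderOf_eq_one]
  -- conjugates of `y`
  have hconj : ∀ k : ℕ, w * y ^ k * w⁻¹ = (y ^ 2) ^ k := by
    intro k
    rw [← hw, conj_pow]
  have hv2 : (χ : G → ℂ) (y ^ 2) = (χ : G → ℂ) y := by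
    rw [← hw]
    exact irr_conj χ y w
  have hv4 : (χ : G → ℂ) (y ^ 4) = (χ : G → ℂ) y := by
    have h1 : y ^ 4 = w * y ^ 2 * w⁻¹ := by
      rw [hconj 2, ← pow_mul]
    rw [h1, irr_conj χ (y ^ 2) w, hv2]
  have hv3 : (χ : G → ℂ) (y ^ 3) = (χ : G → ℂ) y := by
    have h1 : y ^ 3 = w * y ^ 4 * w⁻¹ := by
      rw [hconj 4, ← pow_mul]
      have : y ^ (2 * 4) = y ^ 5 * y ^ 3 := by rw [← pow_add]
      rw [this, hy5, one_mul]
    rw [h1, irr_conj χ (y ^ 4) w, hv4]
  set v := (χ : G → ℂ) y with hv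
  have hch : ∀ g : G, ρ.character g = (χ : G → ℂ) g := fun g => by rw [hρ]
  -- `c = 1`
  have hs1 := Cfsg.Agent.Lib.Helper10_N19_MULT.sum_twist_char_pow ρ y hy5 1 (one_pow 5)
    (by norm_num)
  -- `c = ζ`
  have hζ : IsPrimitiveRoot (Complex.exp (2 * Real.pi * Complex.I / 5)) 5 :=
    Complex.isPrimitiveRoot_exp 5 (by norm_num)
  set ζ := Complex.exp (2 * Real.pi * Complex.I / 5) with hζdef
  have hζ5 : ζ ^ 5 = 1 := hζ.pow_eq_one
  have hsζ := Cfsg.Agent.Lib.Helper10_N19_MULT.sum_twist_char_pow ρ y hy5 ζ hζ5 (by norm_num)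
  have hgeom : ∑ i ∈ Finset.range 5, ζ ^ i = 0 := hζ.geom_sum_eq_zero (by norm_num)
  simp only [Finset.sum_range_succ, Finset.sum_range_zero, pow_zero, pow_one, zero_add, hch,
    hv2, hv3, hv4, one_pow, one_mul] at hs1 hsζ hgeom
  have hχ1 : (χ : G → ℂ) 1 = 6 := by
    rw [← hch, hone, hn6]
    norm_num
  rw [hχ1] at hs1 hsζ
  have h5 : ((5 : ℕ) : ℂ) = 5 := by norm_num
  rw [h5] at hs1 hsζ
  have e1 : 6 + 4 * v = 5 * ((Module.finrank ℂ (Module.End.eigenspace (ρ y) 1⁻¹) : ℕ) : ℂ) := by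
    rw [← hs1]
    ring
  have e2 : 6 - v = 5 * ((Module.finrank ℂ (Module.End.eigenspace (ρ y) ζ⁻¹) : ℕ) : ℂ) := by
    rw [← hsζ]
    linear_combination (-v) * hgeom
  rcases arith v _ _ e1 e2 with h6 | h1
  · -- `χ(y) = 6 = χ(1)` is impossible
    exfalso
    have hna : ¬ ∀ a b : G, a * b = b * a := by
      intro hcomm
      let inst : CommGroup G := { (inferInstance : Group G) with mul_comm := hcomm }
      have hprime : (Nat.card G).Prime := @IsSimpleGroup.prime_card G inst _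
      rw [hG] at hprime
      norm_num at hprime
    have hχne : χ ≠ oneIrr G := by
      intro h
      have h1 : (χ : G → ℂ) 1 = 1 := by rw [h]; rfl
      rw [hχ1] at h1
      norm_num at h1
    have hy1 : y ≠ 1 := by
      intro h
      rw [h, orderOf_one] at hy
      omega
    apply Cfsg.Agent.Lib.Helper74_CharTools.not_norm_eq hna χ hχne y hy1
    rw [hχ, ← hv, h6]
    norm_num
  · exact h1

end Cfsg.Agent.Lib.Helper63_A7_VAL5
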