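import Cfsg.Agent.Lib.Helper72_BG142d
import Cfsg.Agent.Lib.Helper29_BG144c
import Cfsg.Agent.S1404
import Cfsg.Agent.S1409
import Cfsg.Agent.S1425

/-!
# Bender–Glauberman Theorem 14.2(e),(f),(g): the conclusion of S1431 from the structure part
(helper63; piece P31 of helper23's skeleton `pending/helper23/BG142_skeleton.lean.txt`)

`M` maximal, `K ≠ 1` a Hall `κ(M)`-subgroup of `M`, `K* = C_{M_σ}(K)`.  The hypothesis `hS` is the
skeleton's `Struct M K`, written out (it is definitionally `Struct M K`, so `hS : Struct M K` can be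
passed as is).  `huniq`: a subgroup of prime order of `K` is the only one of its order in `K`.

* (1) `y ∈ K* ∩ gMg⁻¹` of prime order `p ∈ σ(M)`, `Y = ⟨y⟩ ≤ M`: S1404 for `Y` and `g⁻¹` gives
  `g⁻¹ = m c`, `c ∈ C_G(Y) ≤ M` by PD (helper72), so `g ∈ M`.
* (2) `X ≤ K ∩ gKg⁻¹` of prime order: `g⁻¹Xg ≤ K` has the same order, so `g ∈ N_M(X) = K K*`.
* (3) PD gives the uniqueness; if `S ≤ K*` then `X ≤ K` of prime order `q` centralizes `S`,
  `N_G(X) ≤ L` maximal, `L ≠ M` by S1409 (the Sylow `q`-subgroups of `M` are cyclic), but `S ≤ L`.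
* (4) S1425 gives `gYg⁻¹ ≤ M_σ`; a nontrivial `y ∈ Y ∩ K*` lies in `K* ∩ g⁻¹Mg`, so `g ∈ M` by (1).
-/

set_option autoImplicit false

namespace Cfsg.Agent.Lib.Helper63_BG142e

open Subgroup Cfsg

universe u

variable {G : Type u} [Group G]

/-- a nontrivial element of `H` has a power generating a subgroup of prime order of `H` -/
theorem exists_prime_card_le {H : Subgroup G} [Finite G] {y : G} (hy : y ∈ H) (hy1 : y ≠ 1) :
    ∃ Y : Subgroup G, Y ≤ H ∧ (Nat.card Y).Prime := by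
  have hn : orderOf y ≠ 1 := by rwa [Ne, orderOf_eq_one_iff]
  obtain ⟨p, hp, hpd⟩ := Nat.exists_prime_and_dvd hn
  have hpos : 0 < orderOf y := orderOf_pos y
  refine ⟨zpowers (y ^ (orderOf y / p)), ?_, ?_⟩
  · rw [zpowers_le]; exact H.pow_mem hy _
  · rw [Nat.card_zpowers, orderOf_pow_orderOf_div hpos.ne' hpd]; exact hp

theorem ne_bot_of_prime_card {Y : Subgroup G} (h : (Nat.card Y).Prime) : Y ≠ ⊥ := by
  intro h0
  rw [h0, Subgroup.card_bot] at h
  exact Nat.not_prime_one h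

/-- `g⁻¹Yg ≤ M` when `Y ≤ gMg⁻¹` -/
theorem map_conj_inv_le {Y M : Subgroup G} {g : G} (h : Y ≤ M.map (MulAut.conj g).toMonoidHom) :
    Y.map (MulAut.conj g⁻¹).toMonoidHom ≤ M := by
  rintro _ ⟨z, hz, rfl⟩
  obtain ⟨w, hw, hwz⟩ := h hz
  have : (MulAut.conj g⁻¹).toMonoidHom z = w := by
    rw [← hwz]
    simp [mul_assoc]
  rw [this]; exact hw

/-- `g` normalizes `X` when `g⁻¹Xg = X` -/
theorem mem_normalizer_of_map_conj_inv_eq {X : Subgroup G} {g : G}
    (h : X = X.map (MulAut.conj g⁻¹).toMonoidHom) : g ∈ normalizer (X : Set G) := by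
  rw [← inv_mem_iff (x := g), mem_normalizer_iff]
  intro x
  constructor
  · intro hx
    rw [h]
    exact ⟨x, hx, by simp⟩
  · intro hx
    rw [h] at hx
    obtain ⟨w, hw, hwx⟩ := hx
    have : w = x := by
      have h2 : g⁻¹ * w * g⁻¹⁻¹ = g⁻¹ * x * g⁻¹⁻¹ := by
        simpa [MulAut.conj_apply] using hwx
      exact mul_left_cancel (mul_right_cancel h2)
    rw [← this]; exact hw

variable [Finite G]

/-- PIECE P31 of the skeleton: the conclusion of S1431 from `Struct M K` (written out) and the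
uniqueness of the subgroups of prime order of `K`. -/
theorem s1431_of_struct (hG : IsMinSimpleOddOrder G) {M K : Subgroup G} (hM : IsCoatom M)
    (hK : IsPiHallOf (kappa M) K M) (hK1 : K ≠ ⊥)
    (hS : (∀ k ∈ K, k ≠ 1 → sigmaCore M ⊓ centralizer ({k} : Set G) = sigmaCore M ⊓ centralizer (K : Set G)) ∧
      (∃ U : Subgroup G, IsMulCommutative U ∧ IsPiHallOf {q | q.Prime ∧ q ∉ kappa M ∧ q ∉ sigma M} U M ∧
        K ≤ normalizer (U : Set G) ∧ ∀ k ∈ K, k ≠ 1 → U ⊓ centralizer ({k} : Set G) = ⊥) ∧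
      ∀ X : Subgroup G, X ≤ K → (Nat.card X).Prime →
        M ⊓ normalizer (X : Set G) = K ⊔ (sigmaCore M ⊓ centralizer (K : Set G)) ∧
        M ⊓ normalizer (K : Set G) = K ⊔ (sigmaCore M ⊓ centralizer (K : Set G)))
    (huniq : ∀ (t : ℕ) (X X' : Subgroup G), X ≤ K → X' ≤ K → Nat.card X = t → Nat.card X' = t → t.Prime → X = X') :
    (∀ g : G, g ∉ M → (sigmaCore M ⊓ centralizer (K : Set G)) ⊓ M.map (MulAut.conj g).toMonoidHom = ⊥) ∧
      (∀ g ∈ M, g ∉ K ⊔ (sigmaCore M ⊓ centralizer (K : Set G)) → K ⊓ K.map (MulAut.conj g).toMonoidHom = ⊥) ∧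
      (∀ (p : ℕ), p.Prime → p ∣ Nat.card ↥(sigmaCore M ⊓ centralizer (K : Set G)) → ∀ S : Sylow p ↥(sigmaCore M),
        InUniqueMaximal ((S : Subgroup ↥(sigmaCore M)).map (sigmaCore M).subtype) ∧
        (S : Subgroup ↥(sigmaCore M)).map (sigmaCore M).subtype ≤ M ∧
        ¬ (S : Subgroup ↥(sigmaCore M)).map (sigmaCore M).subtype ≤ (sigmaCore M ⊓ centralizer (K : Set G))) ∧
      ∀ Y : Subgroup G, (∀ p : ℕ, p.Prime → p ∣ Nat.card Y → p ∈ sigma M) → Y ⊓ (sigmaCore M ⊓ centralizer (K : Set G)) ≠ ⊥ → Y ≤ sigmaCore M := by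
  classical
  have hσM : sigmaCore M ≤ M := Cfsg.Agent.Lib.Helper23_SigmaHall.sigmaCore_le M
  -- clause 1
  have c1 : ∀ g : G, g ∉ M →
      (sigmaCore M ⊓ centralizer (K : Set G)) ⊓ M.map (MulAut.conj g).toMonoidHom = ⊥ := by
    intro g hg
    rw [eq_bot_iff]
    intro y hy
    rw [mem_bot]
    by_contra hy1
    obtain ⟨Y, hYle, hYp⟩ := exists_prime_card_le hy hy1
    have hYks : Y ≤ sigmaCore M ⊓ centralizer (K : Set G) := hYle.trans inf_le_left
    have hYg : Y ≤ M.map (MulAut.conj g).toMonoidHom := hYle.trans inf_le_right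
    have hPD := Cfsg.Agent.Lib.Helper72_BG142d.cent_le_of_le_kstar hG hM hK hK1 hS.2.1 hYks hYp
    have hYσ : Y ≤ sigmaCore M := hYks.trans inf_le_left
    have hpσ : Nat.card Y ∈ sigma M :=
      Cfsg.Agent.Lib.Helper76_BG13b.mem_sigma_of_dvd_card_le_sigmaCore hYσ hYp (dvd_refl _)
    have : Fact (Nat.card Y).Prime := ⟨hYp⟩
    have hYpg : IsPGroup (Nat.card Y) Y := IsPGroup.of_card (n := 1) (by rw [pow_one])
    have hY1 : Y ≠ ⊥ := ne_bot_of_prime_card hYp
    obtain ⟨m, hm, c, hc, hgmc⟩ :=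
      (Cfsg.Agent.S1404.result hG M hM (Nat.card Y) hpσ Y hYpg hY1 (hYσ.trans hσM)).1 g⁻¹
        (map_conj_inv_le hYg)
    have hcM : c ∈ M := hPD.1.1 hc
    apply hg
    have : g⁻¹ ∈ M := hgmc ▸ M.mul_mem hm hcM
    exact inv_mem_iff.mp this
  -- clause 2
  have c2 : ∀ g ∈ M, g ∉ K ⊔ (sigmaCore M ⊓ centralizer (K : Set G)) →
      K ⊓ K.map (MulAut.conj g).toMonoidHom = ⊥ := by
    intro g hgM hg
    rw [eq_bot_iff]
    intro x hx
    rw [mem_bot]
    by_contra hx1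
    obtain ⟨X, hXle, hXp⟩ := exists_prime_card_le hx hx1
    have hXK : X ≤ K := hXle.trans inf_le_left
    have hXg : X ≤ K.map (MulAut.conj g).toMonoidHom := hXle.trans inf_le_right
    have hX'K : X.map (MulAut.conj g⁻¹).toMonoidHom ≤ K := map_conj_inv_le hXg
    have hcard : Nat.card (X.map (MulAut.conj g⁻¹).toMonoidHom) = Nat.card X :=
      Subgroup.card_map_of_injective (MulEquiv.injective _)
    have heq := huniq (Nat.card X) X (X.map (MulAut.conj g⁻¹).toMonoidHom) hXK hX'K rfl hcard hXp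
    have hgN : g ∈ normalizer (X : Set G) := mem_normalizer_of_map_conj_inv_eq heq
    have h3 := (hS.2.2 X hXK hXp).1
    apply hg
    rw [← h3]
    exact ⟨hgM, hgN⟩
  -- clause 3
  have c3 : ∀ (p : ℕ), p.Prime → p ∣ Nat.card ↥(sigmaCore M ⊓ centralizer (K : Set G)) →
      ∀ S : Sylow p ↥(sigmaCore M),
        InUniqueMaximal ((S : Subgroup ↥(sigmaCore M)).map (sigmaCore M).subtype) ∧
        (S : Subgroup ↥(sigmaCore M)).map (sigmaCore M).subtype ≤ M ∧
        ¬ (S : Subgroup ↥(sigmaCore M)).map (sigmaCore M).subtype ≤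
          (sigmaCore M ⊓ centralizer (K : Set G)) := by
    intro p hp hpd S
    have : Fact p.Prime := ⟨hp⟩
    obtain ⟨y, hy⟩ := exists_prime_orderOf_dvd_card' p hpd
    have hyG : orderOf (y : G) = p := by rw [Subgroup.orderOf_coe]; exact hy
    have hYks : zpowers (y : G) ≤ sigmaCore M ⊓ centralizer (K : Set G) := by
      rw [zpowers_le]; exact y.2
    have hYcard : Nat.card (zpowers (y : G)) = p := by rw [Nat.card_zpowers]; exact hyG
    have hPD := Cfsg.Agent.Lib.Helper72_BG142d.cent_le_of_le_kstar hG hM hK hK1 hS.2.1 hYks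
      (hYcard.symm ▸ hp)
    have key : ∀ n : ℕ, n = p →
        (∀ S : Sylow n ↥(sigmaCore M),
          InUniqueMaximal ((S : Subgroup ↥(sigmaCore M)).map (sigmaCore M).subtype)) →
        ∀ S : Sylow p ↥(sigmaCore M),
          InUniqueMaximal ((S : Subgroup ↥(sigmaCore M)).map (sigmaCore M).subtype) := by
      intro n hn h
      subst hn
      exact h
    have hU := key _ hYcard hPD.2 S
    have hSM : (S : Subgroup ↥(sigmaCore M)).map (sigmaCore M).subtype ≤ M :=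
      (Subgroup.map_subtype_le _).trans hσM
    refine ⟨hU, hSM, ?_⟩
    intro hSle
    -- a subgroup X of prime order of K
    obtain ⟨k, hkK, hk1⟩ := (Subgroup.ne_bot_iff_exists_ne_one (H := K)).mp hK1 |>.imp
      (fun k hk => hk) |> fun ⟨k, hk⟩ => (⟨(k : G), k.2, fun h => hk (Subtype.ext h)⟩ :
        ∃ k : G, k ∈ K ∧ k ≠ 1)
    obtain ⟨X, hXK, hXp⟩ := exists_prime_card_le hkK hk1
    have hX1 : X ≠ ⊥ := ne_bot_of_prime_card hXp
    have hqκ : Nat.card X ∈ kappa M := hK.2.1 _ hXp (Subgroup.card_dvd_of_le hXK)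
    have : Fact (Nat.card X).Prime := ⟨hXp⟩
    have hrk1 : PRankLE (Nat.card X) 1 ↥M :=
      Cfsg.Agent.Lib.Helper29_BG144c.pRankLE_one_of_sylow_cyclic (Nat.card X)
        (fun P => (hqκ.2.2.2 P).1)
    -- N_G(X) lies in a maximal subgroup L
    have hXM : X ≤ M := hXK.trans hK.1
    have hne : normalizer (X : Set G) ≠ ⊤ := by
      intro h
      have h3 : X.Normal := normalizer_eq_top_iff.mp h
      have := hG.2.1
      rcases h3.eq_bot_or_eq_top with h' | h'
      · exact hX1 h'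
      · apply hM.1
        rw [eq_top_iff, ← h']
        exact hXM
    obtain ⟨L, hL, hNL⟩ := (eq_top_or_exists_le_coatom _).resolve_left hne
    -- L ≠ M by S1409
    have hLM : L ≠ M := by
      intro hLM
      subst hLM
      exact (Cfsg.Agent.S1409.result hG L hL (Nat.card X) hqκ.2.2.1 X rfl hNL).1.2 hrk1
    -- S ≤ C_G(X) ≤ L
    have hSL : (S : Subgroup ↥(sigmaCore M)).map (sigmaCore M).subtype ≤ L := by
      intro s hs
      apply hNL
      have hsc : s ∈ centralizer (K : Set G) := (hSle hs).2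
      have : s ∈ centralizer (X : Set G) := centralizer_le (by exact_mod_cast hXK) hsc
      exact centralizer_le_normalizer _ this
    obtain ⟨L0, -, hL0⟩ := hU
    have e1 := hL0 L ⟨hL, hSL⟩
    have e2 := hL0 M ⟨hM, hSM⟩
    exact hLM (e1.trans e2.symm)
  refine ⟨c1, c2, c3, ?_⟩
  -- clause 4
  intro Y hYσ hYne
  have hY1 : Y ≠ ⊥ := fun h => hYne (by rw [h, bot_inf_eq])
  obtain ⟨g, hg⟩ := Cfsg.Agent.S1425.result hG M hM Y hY1 hYσ
  obtain ⟨y, hyK, hy1⟩ : ∃ y : G, y ∈ Y ⊓ (sigmaCore M ⊓ centralizer (K : Set G)) ∧ y ≠ 1 := by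
    obtain ⟨y, hy⟩ := (Subgroup.ne_bot_iff_exists_ne_one).mp hYne
    exact ⟨(y : G), y.2, fun h => hy (Subtype.ext h)⟩
  -- g ∈ M
  have hgM : g ∈ M := by
    by_contra hgM
    have hgM' : g⁻¹ ∉ M := fun h => hgM (inv_mem_iff.mp h)
    have h1 := c1 g⁻¹ hgM'
    have : y ∈ (sigmaCore M ⊓ centralizer (K : Set G)) ⊓ M.map (MulAut.conj g⁻¹).toMonoidHom := by
      refine ⟨hyK.2, ?_⟩
      have hyM : (MulAut.conj g).toMonoidHom y ∈ M := hσM (hg ⟨y, hyK.1, rfl⟩)
      refine ⟨_, hyM, ?_⟩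
      simp [MulAut.conj_apply, mul_assoc]
    rw [h1, mem_bot] at this
    exact hy1 this
  -- Y ≤ g⁻¹ M_σ g = M_σ
  intro z hz
  have hz' : (MulAut.conj g).toMonoidHom z ∈ sigmaCore M := hg ⟨z, hz, rfl⟩
  have hn := Cfsg.Agent.Lib.Helper76_BG13b.le_normalizer_sigmaCore' M (M.inv_mem hgM)
  have := (mem_normalizer_iff.mp hn _).mp hz'
  simpa [MulAut.conj_apply, mul_assoc] using this

end Cfsg.Agent.Lib.Helper63_BG142e
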