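import Mathlib

/-!
# BR2-IDX (helper63, for helper77's S4701 market)

A finite perfect group has no proper normal subgroup of index `≤ 2`.
-/

set_option autoImplicit false

namespace Cfsg.Agent.Lib.Helper63_BR2_IDX

universe u

open scoped commutatorElement

/-- A normal subgroup with commutative quotient contains the commutator subgroup. -/
theorem commutator_le_of_quotient_comm {H : Type u} [Group H] (N : Subgroup H) [N.Normal]
    (hc : ∀ a b : H ⧸ N, a * b = b * a) : commutator H ≤ N := by
  rw [commutator_eq_closure, Subgroup.closure_le]
  rintro x ⟨a, b, rfl⟩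
  have h1 : (QuotientGroup.mk' N) ⁅a, b⁆ = 1 := by
    rw [map_commutatorElement]
    rw [commutatorElement_eq_one_iff_mul_comm]
    exact hc _ _
  exact (QuotientGroup.eq_one_iff _).1 h1

/-- **IDX** (S). A perfect group has no proper normal subgroup of index `≤ 2`. -/
theorem IDX {H : Type u} [Group H] [Finite H] (hperf : commutator H = ⊤) (N : Subgroup H)
    (hN : N.Normal) (hidx : N.index ≤ 2) : N = ⊤ := by
  have := hN
  have h0 : N.index ≠ 0 := Subgroup.index_ne_zero_of_finite
  have hcases : N.index = 1 ∨ N.index = 2 := by omega
  rcases hcases with h1 | h2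
  · exact Subgroup.index_eq_one.1 h1
  · -- the quotient has order 2, hence is cyclic, hence commutative
    have hcard : Nat.card (H ⧸ N) = 2 := by
      rw [← Subgroup.index_eq_card]; exact h2
    have : Fact (Nat.Prime 2) := ⟨Nat.prime_two⟩
    have : IsCyclic (H ⧸ N) := isCyclic_of_prime_card hcard
    have hc : ∀ a b : H ⧸ N, a * b = b * a := by
      let _ := IsCyclic.commGroup (α := H ⧸ N)
      intro a b
      exact mul_comm a b
    have hle : commutator H ≤ N := commutator_le_of_quotient_comm N hc
    rw [hperf] at hle
    exact top_le_iff.1 hle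

end Cfsg.Agent.Lib.Helper63_BR2_IDX
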