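import Mathlib

/-!
# S4701 package BR2-CYC (helper72 for helper77)

A finite perfect group `H` with `p ∥ |H|` has no normal subgroup of order `p`.
-/

set_option autoImplicit false

namespace Cfsg.Agent.Lib.Helper72_BR2_CYC

universe u

/-- A normal cyclic subgroup of a perfect group is central. -/
theorem le_center_of_perfect_of_isCyclic {H : Type u} [Group H] (hperf : commutator H = ⊤)
    (N : Subgroup H) [hN : N.Normal] [IsCyclic N] : N ≤ Subgroup.center H := by
  classical
  let f : H →* (ZMod (Nat.card N))ˣ :=
    (IsCyclic.mulAutMulEquiv N).toMonoidHom.comp (MulAut.conjNormal (H := N))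
  have hker : f.ker = ⊤ := top_le_iff.mp (hperf ▸ Abelianization.commutator_subset_ker f)
  have hconj : ∀ g : H, (MulAut.conjNormal g : MulAut N) = 1 := by
    intro g
    have hg : g ∈ f.ker := hker ▸ Subgroup.mem_top g
    have h1 : f g = 1 := MonoidHom.mem_ker.mp hg
    have h2 : (IsCyclic.mulAutMulEquiv N) (MulAut.conjNormal g) = 1 := h1
    exact (MulEquiv.map_eq_one_iff (IsCyclic.mulAutMulEquiv N)).mp h2
  intro n hn
  rw [Subgroup.mem_center_iff]
  intro g
  have h := congrArg (fun φ : MulAut N => ((φ ⟨n, hn⟩ : N) : H)) (hconj g)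
  simp only [MulAut.conjNormal_apply, MulAut.one_apply] at h
  -- h : g * n * g⁻¹ = n
  calc g * n = g * n * g⁻¹ * g := by group
    _ = n * g := by rw [h]

theorem CYC {H : Type u} [Group H] [Finite H] (hperf : commutator H = ⊤) (p : ℕ) [Fact p.Prime]
    (hsq : ¬ p ^ 2 ∣ Nat.card H) (N : Subgroup H) (hN : N.Normal) (hNcard : Nat.card N = p) :
    False := by
  classical
  have hp : p.Prime := Fact.out
  have : IsCyclic N := isCyclic_of_prime_card hNcard
  have hcen : N ≤ Subgroup.center H := le_center_of_perfect_of_isCyclic hperf N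
  -- `N` is a Sylow `p`-subgroup
  have hdvd : p ∣ Nat.card H := hNcard ▸ Subgroup.card_subgroup_dvd_card N
  have hfac : (Nat.card H).factorization p = 1 := by
    have hpos : Nat.card H ≠ 0 := Nat.card_pos.ne'
    have h1 : 1 ≤ (Nat.card H).factorization p :=
      (hp.dvd_iff_one_le_factorization hpos).mp hdvd
    have h2 : ¬ 2 ≤ (Nat.card H).factorization p := by
      intro h
      exact hsq ((hp.pow_dvd_iff_le_factorization hpos).mpr h)
    omega
  let P : Sylow p H := Sylow.ofCard N (by rw [hNcard, hfac, pow_one])
  have hPN : (P : Subgroup H) = N := rfl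
  have hP : Subgroup.normalizer (P : Set H) ≤ Subgroup.centralizer (P : Set H) := by
    intro g _
    rw [Subgroup.mem_centralizer_iff]
    intro n hn
    have hn' : n ∈ Subgroup.center H := hcen hn
    exact (Subgroup.mem_center_iff.mp hn' g).symm
  have hcompl := MonoidHom.ker_transferSylow_isComplement' P hP
  have hker : (MonoidHom.transferSylow P hP).ker = ⊤ := by
    let _ : CommGroup (P : Subgroup H) := { (inferInstance : Group (P : Subgroup H)) with
      mul_comm := fun a b => Subtype.ext (hP (Subgroup.le_normalizer b.2) a a.2) }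
    exact top_le_iff.mp (hperf ▸ Abelianization.commutator_subset_ker _)
  rw [hker] at hcompl
  have h1 := hcompl.card_mul_card
  have h2 : Nat.card (P : Subgroup H) = p := hNcard
  rw [Subgroup.card_top, h2] at h1
  have hpos : 0 < Nat.card H := Nat.card_pos
  have h3 : p = 1 := by
    have : Nat.card H * p = Nat.card H * 1 := by rw [h1, mul_one]
    exact Nat.eq_of_mul_eq_mul_left hpos this
  exact hp.one_lt.ne' h3

end Cfsg.Agent.Lib.Helper72_BR2_CYC
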