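import Mathlib
import Cfsg.Agent.S0721
import Cfsg.Agent.Lib.Helper72_BR2_CYC

/-!
# BR2-RED (helper63, for helper77's S4701 market)

A perfect finite group `H` with `p ∥ |H|` and no nontrivial normal `p'`-subgroup has a
minimal normal subgroup which is a non-cyclic simple group of order divisible by `p`.
-/

set_option autoImplicit false

namespace Cfsg.Agent.Lib.Helper63_BR2_RED

universe u

/-- A nontrivial finite group has a minimal normal subgroup. -/
theorem exists_minimal_normal {H : Type u} [Group H] [Finite H] (hH : (⊤ : Subgroup H) ≠ ⊥) :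
    ∃ N : Subgroup H, N.Normal ∧ N ≠ ⊥ ∧
      ∀ M : Subgroup H, M.Normal → M ≤ N → M = ⊥ ∨ M = N := by
  classical
  have hex : ∃ k : ℕ, ∃ N : Subgroup H, N.Normal ∧ N ≠ ⊥ ∧ Nat.card N = k :=
    ⟨Nat.card (⊤ : Subgroup H), ⊤, inferInstance, hH, rfl⟩
  obtain ⟨N, hNn, hN0, hNc⟩ := Nat.find_spec hex
  refine ⟨N, hNn, hN0, ?_⟩
  intro M hMn hMN
  by_cases hM0 : M = ⊥
  · exact Or.inl hM0
  · right
    apply Subgroup.eq_of_le_of_card_ge hMN
    rw [hNc]
    exact Nat.find_min' hex ⟨M, hMn, hM0, rfl⟩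

/-- **RED**, with the exclusion of normal subgroups of order `p` as a hypothesis. -/
theorem RED_of {H : Type u} [Group H] [Finite H] (p : ℕ) [Fact p.Prime]
    (hcyc : ∀ N : Subgroup H, N.Normal → Nat.card N = p → False)
    (hdvd : p ∣ Nat.card H) (hsq : ¬ p ^ 2 ∣ Nat.card H)
    (hO : ∀ L : Subgroup H, L.Normal → (Nat.card L).Coprime p → L = ⊥) :
    ∃ (N : Subgroup H) (T : Type) (_ : Group T), N.Normal ∧ IsSimpleGroup T ∧ ¬ IsCyclic T ∧
      p ∣ Nat.card T ∧ Nonempty (N ≃* T) := by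
  classical
  have hp : p.Prime := Fact.out
  -- `H` is nontrivial
  have hH : (⊤ : Subgroup H) ≠ ⊥ := by
    intro h
    have h1 : Nat.card H = 1 := by
      rw [← Subgroup.card_top (G := H), h, Subgroup.card_bot]
    rw [h1] at hdvd
    exact hp.one_lt.ne' (Nat.dvd_one.1 hdvd)
  obtain ⟨N, hNn, hN0, hmin⟩ := exists_minimal_normal hH
  have := hNn
  obtain ⟨T, instT, m, hT, hm, ⟨e⟩⟩ := Cfsg.Agent.S0721.result N hN0 hmin
  -- `T` is finite
  have hfinF : Finite (Fin m → T) := Finite.of_equiv N e.toEquiv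
  have hfinT : Finite T := by
    have hinj : Function.Injective (fun (t : T) (_ : Fin m) => t) := by
      intro a b hab
      exact congrFun hab ⟨0, hm⟩
    exact Finite.of_injective _ hinj
  -- `|N| = |T| ^ m`
  have hcardN : Nat.card N = Nat.card T ^ m := by
    rw [Nat.card_congr e.toEquiv, Nat.card_fun, Nat.card_fin]
  -- `p ∣ |N|`
  have hpN : p ∣ Nat.card N := by
    by_contra hnd
    have hco : (Nat.card N).Coprime p := ((Nat.Prime.coprime_iff_not_dvd hp).2 hnd).symm
    exact hN0 (hO N hNn hco)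
  have hpT : p ∣ Nat.card T := by
    rw [hcardN] at hpN
    exact hp.dvd_of_dvd_pow hpN
  -- `m = 1`
  have hm1 : m = 1 := by
    by_contra hne
    have h2 : 2 ≤ m := by omega
    apply hsq
    have h3 : p ^ 2 ∣ Nat.card T ^ m :=
      (pow_dvd_pow_of_dvd hpT 2).trans (pow_dvd_pow _ h2)
    rw [← hcardN] at h3
    exact h3.trans (Subgroup.card_subgroup_dvd_card N)
  subst hm1
  have e' : N ≃* T := e.trans (MulEquiv.funUnique (Fin 1) T)
  refine ⟨N, T, instT, hNn, hT, ?_, hpT, ⟨e'⟩⟩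
  -- `T` is not cyclic
  intro hTc
  have hprime : (Nat.card T).Prime := by
    let _ : CommGroup T := IsCyclic.commGroup
    exact IsSimpleGroup.prime_card
  have hpeq : p = Nat.card T := (Nat.prime_dvd_prime_iff_eq hp hprime).1 hpT
  have hNp : Nat.card N = p := by
    rw [hcardN, pow_one, ← hpeq]
  exact hcyc N hNn hNp

/-- **RED** (L). A minimal normal subgroup of `H` is a non-cyclic simple group of order
divisible by `p`. -/
theorem RED {H : Type u} [Group H] [Finite H] (hperf : commutator H = ⊤) (p : ℕ) [Fact p.Prime]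
    (hdvd : p ∣ Nat.card H) (hsq : ¬ p ^ 2 ∣ Nat.card H)
    (hO : ∀ L : Subgroup H, L.Normal → (Nat.card L).Coprime p → L = ⊥) :
    ∃ (N : Subgroup H) (T : Type) (_ : Group T), N.Normal ∧ IsSimpleGroup T ∧ ¬ IsCyclic T ∧
      p ∣ Nat.card T ∧ Nonempty (N ≃* T) :=
  RED_of p (fun N hN hNc => Cfsg.Agent.Lib.Helper72_BR2_CYC.CYC hperf p hsq N hN hNc)
    hdvd hsq hO

end Cfsg.Agent.Lib.Helper63_BR2_RED
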