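import Mathlib
import Cfsg.Prelude.Def_MonsterType
import Cfsg.Agent.Lib.Helper63_ESForm
import Cfsg.Agent.S0400
import Cfsg.Agent.S0401

/-!
The squaring form of `Q` transported to the Leech lattice by a module isomorphism
`ψ : Λ/2Λ ≃ Q/Z(Q)` (`Cfsg.IsLeechModTwoIso`): it is a `Co0`-invariant quadratic form on the lattice.
-/

set_option autoImplicit false
set_option linter.unusedSectionVars false
open Cfsg

namespace Cfsg.Agent.Lib.Helper63_MonsterForm

open Cfsg.Agent.Lib.Helper89_ESClass Cfsg.Agent.Lib.Helper63_ESForm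

variable {G : Type*} [Group G] {z : G} {Q : Subgroup (Subgroup.centralizer ({z} : Set G))}
  [Q.Normal] {e : (Subgroup.centralizer ({z} : Set G)) ⧸ Q ≃* Spor.Co1}
  {ψ : leechLattice → Q ⧸ Subgroup.center Q} {t : Q}

/-- a lift to `Q` of `ψ v` -/
noncomputable def lft (ψ : leechLattice → Q ⧸ Subgroup.center Q) (v : leechLattice) : Q :=
  Quotient.out (ψ v)

theorem mk_lft (ψ : leechLattice → Q ⧸ Subgroup.center Q) (v : leechLattice) :
    (QuotientGroup.mk (lft ψ v) : Q ⧸ Subgroup.center Q) = ψ v :=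
  QuotientGroup.out_eq' _

/-- the squaring form on the lattice -/
noncomputable def F (ψ : leechLattice → Q ⧸ Subgroup.center Q) (v : leechLattice) : ZMod 2 :=
  sqv (lft ψ v)

/-- the commutator form on the lattice -/
noncomputable def B (ψ : leechLattice → Q ⧸ Subgroup.center Q) (v w : leechLattice) : ZMod 2 :=
  cmv (lft ψ v) (lft ψ w)

theorem exists_central {q q' : Q}
    (h : (QuotientGroup.mk q : Q ⧸ Subgroup.center Q) = QuotientGroup.mk q') :
    ∃ c : Q, (∀ x, c * x = x * c) ∧ q' = q * c := by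
  refine ⟨q⁻¹ * q', fun x => ?_, by group⟩
  have h1 : q⁻¹ * q' ∈ Subgroup.center Q := QuotientGroup.eq.1 h
  exact ((Subgroup.mem_center_iff.1 h1) x).symm

theorem F_eq (hE : IsES2 Q t) {v : leechLattice} {q : Q} (h : ψ v = QuotientGroup.mk q) :
    F ψ v = sqv q := by
  obtain ⟨c, hc, hq⟩ := exists_central (q := q) (q' := lft ψ v) (by rw [mk_lft, h])
  unfold F
  rw [hq, sqv_mul_central hE q hc]

theorem B_eq (hE : IsES2 Q t) {v w : leechLattice} {q r : Q} (hq : ψ v = QuotientGroup.mk q)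
    (hr : ψ w = QuotientGroup.mk r) : B ψ v w = cmv q r := by
  obtain ⟨c, hc, hq'⟩ := exists_central (q := q) (q' := lft ψ v) (by rw [mk_lft, hq])
  obtain ⟨d, hd, hr'⟩ := exists_central (q := r) (q' := lft ψ w) (by rw [mk_lft, hr])
  unfold B
  rw [hq', hr', cmv_mul_central_left hE _ _ hc, cmv_mul_central_right hE _ _ hd]

theorem B_symm (v w : leechLattice) : B ψ v w = B ψ w v := cmv_symm _ _

theorem B_self (v : leechLattice) : B ψ v v = 0 := cmv_self _

section iso
variable (hE : IsES2 Q t) (hψ : IsLeechModTwoIso Q e ψ)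
include hE hψ

theorem F_add (v w : leechLattice) : F ψ (v + w) = F ψ v + F ψ w + B ψ v w := by
  have h : ψ (v + w) = QuotientGroup.mk (lft ψ v * lft ψ w) := by
    rw [hψ.1, QuotientGroup.mk_mul, mk_lft, mk_lft]
  rw [F_eq hE h, sqv_mul hE]
  rfl

theorem B_add_left (v v' w : leechLattice) : B ψ (v + v') w = B ψ v w + B ψ v' w := by
  have h : ψ (v + v') = QuotientGroup.mk (lft ψ v * lft ψ v') := by
    rw [hψ.1, QuotientGroup.mk_mul, mk_lft, mk_lft]
  rw [B_eq hE h (mk_lft ψ w).symm, cmv_mul_left hE]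
  rfl

theorem B_add_right (w v v' : leechLattice) : B ψ w (v + v') = B ψ w v + B ψ w v' := by
  rw [B_symm, B_add_left hE hψ, B_symm v, B_symm v']

theorem B_zero_left (w : leechLattice) : B ψ 0 w = 0 := by
  have h := B_add_left hE hψ 0 0 w
  rw [add_zero] at h
  have h2 : B ψ 0 w + B ψ 0 w = 0 := CharTwo.add_self_eq_zero _
  rw [h2] at h
  exact h

theorem B_zero_right (w : leechLattice) : B ψ w 0 = 0 := by
  rw [B_symm]; exact B_zero_left hE hψ w

theorem B_neg_left (v w : leechLattice) : B ψ (-v) w = B ψ v w := by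
  have h := B_add_left hE hψ v (-v) w
  rw [add_neg_cancel, B_zero_left hE hψ] at h
  have h2 : B ψ v w + B ψ v w = 0 := CharTwo.add_self_eq_zero _
  have h3 : B ψ (-v) w = B ψ v w + (B ψ v w + B ψ (-v) w) := by
    rw [← add_assoc, h2, zero_add]
  rw [h3, ← h, add_zero]

theorem B_neg_right (v w : leechLattice) : B ψ v (-w) = B ψ v w := by
  rw [B_symm, B_neg_left hE hψ, B_symm]

theorem F_zero : F ψ 0 = 0 := by
  have h := F_add hE hψ 0 0
  rw [add_zero, B_self, add_zero] at h
  have h2 : F ψ 0 + F ψ 0 = 0 := CharTwo.add_self_eq_zero _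
  rw [h2] at h
  exact h

theorem F_neg (v : leechLattice) : F ψ (-v) = F ψ v := by
  have h := F_add hE hψ v (-v)
  rw [add_neg_cancel, F_zero hE hψ, B_neg_right hE hψ, B_self, add_zero] at h
  have h2 : F ψ v + F ψ v = 0 := CharTwo.add_self_eq_zero _
  have h3 : F ψ (-v) = F ψ v + (F ψ v + F ψ (-v)) := by
    rw [← add_assoc, h2, zero_add]
  rw [h3, ← h, add_zero]

theorem F_sub (v w : leechLattice) : F ψ (v - w) = F ψ v + F ψ w + B ψ v w := by
  rw [sub_eq_add_neg, F_add hE hψ, F_neg hE hψ, B_neg_right hE hψ]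

/-- the seven-term identity of a quadratic form -/
theorem seven (x y w : leechLattice) :
    F ψ (x + y + w) + F ψ (x + y) + F ψ (x + w) + F ψ (y + w) + F ψ x + F ψ y + F ψ w = 0 := by
  rw [F_add hE hψ (x + y) w, B_add_left hE hψ, F_add hE hψ x w, F_add hE hψ y w]
  generalize F ψ (x + y) = a
  generalize F ψ x = b
  generalize F ψ y = c
  generalize F ψ w = d
  generalize B ψ x w = f
  generalize B ψ y w = g
  revert a b c d f g
  decide

/-- the form is invariant under the lattice automorphisms -/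
theorem F_smul (g : Co0) (v : leechLattice) : F ψ (g • v) = F ψ v := by
  obtain ⟨x, hx⟩ := e.surjective (QuotientGroup.mk g : Spor.Co1)
  obtain ⟨h, rfl⟩ := QuotientGroup.mk_surjective x
  have h1 := hψ.2.2.2 h g hx.symm v (lft ψ v) (mk_lft ψ v).symm
  rw [F_eq hE h1]
  have h2 : (⟨h * (lft ψ v : Subgroup.centralizer ({z} : Set G)) * h⁻¹,
      (inferInstance : Q.Normal).conj_mem _ (lft ψ v).2 h⟩ : Q) =
      (MulAut.conjNormal h : MulAut Q) (lft ψ v) := by
    apply Subtype.ext
    rw [MulAut.conjNormal_apply]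
  rw [h2, sqv_map]
  rfl

theorem F_32 (v : leechLattice) (hv : sqNorm (v : GolayPt → ℤ) = 32) :
    F ψ v = F ψ Spor.leechU := by
  obtain ⟨g, hg⟩ := Cfsg.Agent.S0400.result v Spor.leechU hv (by decide)
  rw [← hg, F_smul hE hψ]

theorem F_48 (v : leechLattice) (hv : sqNorm (v : GolayPt → ℤ) = 48) :
    F ψ v = F ψ Spor.leechV := by
  obtain ⟨g, hg⟩ := Cfsg.Agent.S0401.result v Spor.leechV hv (by decide)
  rw [← hg, F_smul hE hψ]

end iso

end Cfsg.Agent.Lib.Helper63_MonsterForm
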