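import Cfsg.Agent.S0396
import Cfsg.Agent.S0393
import Cfsg.Agent.S5551
import Cfsg.Agent.Lib.Helper92_Monomial

/-!
The rank-24 lattice modulo twice itself: every class contains a vector of sum of squares at most
64, the classes of the vectors of sum of squares 64 contain exactly 48 such vectors.

The proof is the classical count `1 + 196560/2 + 16773120/2 + 398034000/48 = 2^24`.
-/

set_option autoImplicit false
open Cfsg

namespace Cfsg.Agent.Lib.Helper92_LeechMod2

open Cfsg.Agent.Lib.Helper7_M24 Cfsg.Agent.Lib.Helper7_Leech Cfsg.Agent.Lib.Helper92_Monomial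

/-! ### short vectors congruent modulo twice the lattice -/

theorem sqNorm_neg (v : GolayPt → ℤ) : sqNorm (-v) = sqNorm v := by
  unfold sqNorm
  apply Finset.sum_congr rfl
  intro i _
  rw [Pi.neg_apply]; ring

theorem sqNorm_eq_zero {v : GolayPt → ℤ} (h : sqNorm v = 0) : v = 0 := by
  unfold sqNorm at h
  have := (Finset.sum_eq_zero_iff_of_nonneg (fun i _ => sq_nonneg (v i))).mp h
  funext i
  exact pow_eq_zero_iff (by decide) |>.mp (this i (Finset.mem_univ i))

theorem sqNorm_zero : sqNorm (0 : GolayPt → ℤ) = 0 := by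
  unfold sqNorm
  simp

/-- Two short lattice vectors congruent modulo twice the lattice are equal, opposite, or
orthogonal of sum of squares 64. -/
theorem claimA (v w : GolayPt → ℤ) (_hv : v ∈ leechLattice) (hw : w ∈ leechLattice)
    (hvn : sqNorm v ≤ 64) (hwn : sqNorm w ≤ 64) (hc : ∃ z ∈ leechLattice, v - w = 2 • z)
    (h1 : w ≠ v) (h2 : w ≠ -v) : sqNorm v = 64 ∧ sqNorm w = 64 ∧ dotInt v w = 0 := by
  obtain ⟨z, hz, hvw⟩ := hc
  have hz0 : z ≠ 0 := by
    intro h
    rw [h, smul_zero] at hvw
    exact h1 (sub_eq_zero.mp hvw).symm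
  have hzw : v + w = 2 • (z + w) := by
    have : v = 2 • z + w := by rw [← hvw]; abel
    rw [this]
    simp only [smul_add, two_smul]
    abel
  have hzw0 : z + w ≠ 0 := by
    intro h
    rw [h, smul_zero] at hzw
    apply h2
    exact (eq_neg_of_add_eq_zero_right hzw)
  have hzwmem : z + w ∈ leechLattice := leechLattice.add_mem hz hw
  have n1 := Cfsg.Agent.S0391.result z hz hz0
  have n2 := Cfsg.Agent.S0391.result (z + w) hzwmem hzw0
  have p := Cfsg.Agent.S5551.parallelogram v w
  have q := sqNorm_add' v w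
  rw [hvw, hzw, Cfsg.Agent.S5551.sqNorm_two_smul, Cfsg.Agent.S5551.sqNorm_two_smul] at p
  rw [hzw, Cfsg.Agent.S5551.sqNorm_two_smul] at q
  refine ⟨by omega, by omega, by omega⟩

/-! ### at most 48 pairwise orthogonal or opposite vectors -/

theorem dotInt_sum_left (F : Finset (GolayPt → ℤ)) (a : (GolayPt → ℤ) → ℤ) (y' : GolayPt → ℤ) :
    dotInt (∑ y ∈ F, a y • y) y' = ∑ y ∈ F, a y * dotInt y y' := by
  unfold dotInt
  simp only [Finset.sum_apply, Pi.smul_apply, smul_eq_mul, Finset.sum_mul, Finset.mul_sum]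
  rw [Finset.sum_comm]
  apply Finset.sum_congr rfl
  intro y _
  apply Finset.sum_congr rfl
  intro i _
  ring

theorem dotInt_comm (x y : GolayPt → ℤ) : dotInt x y = dotInt y x := by
  unfold dotInt
  apply Finset.sum_congr rfl
  intro i _
  ring

theorem dotInt_self (x : GolayPt → ℤ) : dotInt x x = sqNorm x := by
  unfold dotInt sqNorm
  apply Finset.sum_congr rfl
  intro i _
  ring

theorem dotInt_neg_left (x y : GolayPt → ℤ) : dotInt (-x) y = -dotInt x y := by
  unfold dotInt
  rw [← Finset.sum_neg_distrib]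
  apply Finset.sum_congr rfl
  intro i _
  rw [Pi.neg_apply]; ring

theorem orth_card_le (F : Finset (GolayPt → ℤ)) (h64 : ∀ y ∈ F, sqNorm y = 64)
    (hneg : ∀ y ∈ F, -y ∈ F)
    (hdot : ∀ y ∈ F, ∀ y' ∈ F, y ≠ y' → y ≠ -y' → dotInt y y' = 0) : F.card ≤ 48 := by
  classical
  -- the value of the inner products
  have hval : ∀ y ∈ F, ∀ y' ∈ F, dotInt y y' =
      (if y = y' then 64 else 0) + (if y = -y' then -64 else 0) := by
    intro y hy y' hy'
    have hne : y' ≠ -y' := by
      intro h
      have h0 : y' = 0 := by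
        funext i
        have := congrFun h i
        rw [Pi.neg_apply] at this
        rw [Pi.zero_apply]; omega
      have := h64 y' hy'
      rw [h0, sqNorm_zero] at this
      omega
    by_cases h1 : y = y'
    · have h2 : ¬ y = -y' := by rw [h1]; exact hne
      rw [if_pos h1, if_neg h2, h1, dotInt_self, h64 y' hy']; rfl
    · by_cases h2 : y = -y'
      · rw [if_neg h1, if_pos h2, h2, dotInt_neg_left, dotInt_self, h64 y' hy']; rfl
      · rw [if_neg h1, if_neg h2, hdot y hy y' hy' h1 h2]; rfl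
  -- for each coordinate, the sum of the squares of the coordinates is at most 128
  have hA : ∀ j : GolayPt, ∑ y ∈ F, y j ^ 2 ≤ 128 := by
    intro j
    set w : GolayPt → ℤ := ∑ y ∈ F, y j • y with hw
    have key1 : ∀ y' ∈ F, dotInt w y' = 128 * y' j := by
      intro y' hy'
      rw [hw, dotInt_sum_left F (fun y => y j) y']
      rw [Finset.sum_congr rfl (fun y hy => by rw [hval y hy y' hy'])]
      simp only [mul_add, mul_ite, mul_zero, Finset.sum_add_distrib]
      rw [Finset.sum_ite_eq' F y', if_pos hy', Finset.sum_ite_eq' F (-y'), if_pos (hneg y' hy'),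
        Pi.neg_apply]
      ring
    have key2 : sqNorm w = 128 * ∑ y ∈ F, y j ^ 2 := by
      rw [← dotInt_self]
      conv_lhs => rw [hw]
      rw [dotInt_sum_left F (fun y => y j) w, Finset.mul_sum]
      apply Finset.sum_congr rfl
      intro y hy
      rw [dotInt_comm, key1 y hy]
      ring
    have key3 : w j = ∑ y ∈ F, y j ^ 2 := by
      rw [hw, Finset.sum_apply]
      apply Finset.sum_congr rfl
      intro y _
      rw [Pi.smul_apply, smul_eq_mul]; ring
    have key4 : w j ^ 2 ≤ sqNorm w := by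
      unfold sqNorm
      exact Finset.single_le_sum (f := fun i => w i ^ 2) (fun i _ => sq_nonneg (w i))
        (Finset.mem_univ j)
    rw [key2, key3] at key4
    have hnn : 0 ≤ ∑ y ∈ F, y j ^ 2 := Finset.sum_nonneg (fun y _ => sq_nonneg (y j))
    nlinarith
  -- summing over the coordinates
  have hsum : ∑ j : GolayPt, ∑ y ∈ F, y j ^ 2 = 64 * F.card := by
    rw [Finset.sum_comm]
    have : ∀ y ∈ F, ∑ j : GolayPt, y j ^ 2 = 64 := fun y hy => h64 y hy
    rw [Finset.sum_congr rfl this, Finset.sum_const, nsmul_eq_mul]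
    ring
  have hle : ∑ j : GolayPt, ∑ y ∈ F, y j ^ 2 ≤ ∑ _j : GolayPt, (128 : ℤ) :=
    Finset.sum_le_sum (fun j _ => hA j)
  rw [hsum, Finset.sum_const, Finset.card_univ, Cfsg.Agent.S0394.card_golayPt] at hle
  have : (F.card : ℤ) ≤ 48 := by
    rw [nsmul_eq_mul] at hle
    push_cast at hle
    omega
  exact_mod_cast this

/-! ### the quotient of the lattice by twice the lattice -/

/-- Twice the lattice. -/
def L2 : AddSubgroup (GolayPt → ℤ) := leechLattice.map Cfsg.Agent.S0393.dbl

theorem dbl_eq (z : GolayPt → ℤ) : Cfsg.Agent.S0393.dbl z = 2 • z := by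
  funext i
  rw [Cfsg.Agent.S0393.dbl_apply, Pi.smul_apply, two_nsmul]; ring

theorem mem_L2 (x : GolayPt → ℤ) : x ∈ L2 ↔ ∃ z ∈ leechLattice, x = 2 • z := by
  unfold L2
  rw [AddSubgroup.mem_map]
  constructor
  · rintro ⟨z, hz, rfl⟩; exact ⟨z, hz, dbl_eq z⟩
  · rintro ⟨z, hz, rfl⟩; exact ⟨z, hz, dbl_eq z⟩

theorem L2_le : L2 ≤ leechLattice := by
  intro x hx
  obtain ⟨z, hz, rfl⟩ := (mem_L2 x).mp hx
  rw [two_smul]
  exact leechLattice.add_mem hz hz

theorem L2_relIndex : L2.relIndex leechLattice = 2 ^ 24 := by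
  have h1 : L2.index = 2 ^ 36 * 2 ^ 24 := by
    unfold L2
    rw [AddSubgroup.index_map_of_injective leechLattice Cfsg.Agent.S0393.dbl_injective,
      Cfsg.Agent.S0393.main, Cfsg.Agent.S0393.range_dbl_index]
  have h2 := AddSubgroup.relIndex_mul_index (H := L2) (K := leechLattice) L2_le
  rw [h1, Cfsg.Agent.S0393.main, mul_comm] at h2
  exact Nat.eq_of_mul_eq_mul_left (by positivity) h2

/-- The classes of the lattice modulo twice the lattice. -/
abbrev T : Type := ↥leechLattice ⧸ L2.addSubgroupOf leechLattice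

theorem card_T : Nat.card T = 2 ^ 24 := L2_relIndex

/-- The class of a lattice vector. -/
def cls (v : ↥leechLattice) : T := QuotientAddGroup.mk v

theorem cls_eq_iff (v w : ↥leechLattice) :
    cls v = cls w ↔ ∃ z ∈ leechLattice, (v : GolayPt → ℤ) - w = 2 • z := by
  unfold cls
  rw [QuotientAddGroup.eq, AddSubgroup.mem_addSubgroupOf, mem_L2]
  constructor
  · rintro ⟨z, hz, h⟩
    refine ⟨-z, leechLattice.neg_mem hz, ?_⟩
    have h' : (-(v : GolayPt → ℤ) + w) = 2 • z := by
      rw [← h]; rfl
    rw [smul_neg, ← h']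
    abel
  · rintro ⟨z, hz, h⟩
    refine ⟨-z, leechLattice.neg_mem hz, ?_⟩
    have h' : ((-v + w : ↥leechLattice) : GolayPt → ℤ) = -(v : GolayPt → ℤ) + w := rfl
    rw [h', smul_neg, ← h]
    abel

/-! ### the sets of lattice vectors of given sum of squares -/

/-- The lattice vectors of sum of squares `n`, as elements of the lattice. -/
def Sn (n : ℤ) : Set ↥leechLattice := {v | sqNorm (v : GolayPt → ℤ) = n}

theorem Sn_ncard (n : ℤ) :
    (Sn n).ncard = {x : GolayPt → ℤ | x ∈ leechLattice ∧ sqNorm x = n}.ncard := by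
  rw [← Set.ncard_image_of_injective (Sn n) Subtype.val_injective]
  congr 1
  ext x
  constructor
  · rintro ⟨v, hv, rfl⟩; exact ⟨v.2, hv⟩
  · rintro ⟨hx, hn⟩; exact ⟨⟨x, hx⟩, hn, rfl⟩

theorem Sn_zero : Sn 0 = {0} := by
  ext v
  constructor
  · intro hv
    have : (v : GolayPt → ℤ) = 0 := sqNorm_eq_zero hv
    exact Subtype.ext this
  · intro hv
    rw [Set.mem_singleton_iff] at hv
    rw [hv]
    exact sqNorm_zero

theorem ncard_0 : (Sn 0).ncard = 1 := by rw [Sn_zero, Set.ncard_singleton]

theorem ncard_32 : (Sn 32).ncard = 196560 := by rw [Sn_ncard]; exact Cfsg.Agent.S0394.result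

theorem ncard_48 : (Sn 48).ncard = 16773120 := by rw [Sn_ncard]; exact Cfsg.Agent.S0395.result

theorem ncard_64 : (Sn 64).ncard = 398034000 := by rw [Sn_ncard]; exact Cfsg.Agent.S0396.result

theorem fin_0 : (Sn 0).Finite := Set.finite_of_ncard_ne_zero (by rw [ncard_0]; decide)

theorem fin_32 : (Sn 32).Finite := Set.finite_of_ncard_ne_zero (by rw [ncard_32]; decide)

theorem fin_48 : (Sn 48).Finite := Set.finite_of_ncard_ne_zero (by rw [ncard_48]; decide)

theorem fin_64 : (Sn 64).Finite := Set.finite_of_ncard_ne_zero (by rw [ncard_64]; decide)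

/-- The possible sums of squares of short lattice vectors. -/
theorem norm_vals (v : ↥leechLattice) (h : sqNorm (v : GolayPt → ℤ) ≤ 64) :
    v ∈ Sn 0 ∨ v ∈ Sn 32 ∨ v ∈ Sn 48 ∨ v ∈ Sn 64 := by
  have h16 := Cfsg.Agent.S0392.result v v.2
  by_cases h0 : (v : GolayPt → ℤ) = 0
  · left
    show sqNorm (v : GolayPt → ℤ) = 0
    rw [h0]; exact sqNorm_zero
  · have h32 := Cfsg.Agent.S0391.result v v.2 h0
    obtain ⟨k, hk⟩ := h16
    have hk' : k = 2 ∨ k = 3 ∨ k = 4 := by omega
    rcases hk' with hk' | hk' | hk'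
    · right; left; show sqNorm (v : GolayPt → ℤ) = 32; omega
    · right; right; left; show sqNorm (v : GolayPt → ℤ) = 48; omega
    · right; right; right; show sqNorm (v : GolayPt → ℤ) = 64; omega

/-! ### the weighted count -/

/-- The weight of a short vector: 48 for zero, 24 for sums of squares 32 and 48, 1 for 64. -/
def wt (v : ↥leechLattice) : ℕ :=
  if sqNorm (v : GolayPt → ℤ) = 0 then 48 else if sqNorm (v : GolayPt → ℤ) = 64 then 1 else 24

theorem wt_le (v : ↥leechLattice) : wt v ≤ 48 := by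
  unfold wt
  split_ifs <;> omega

open Classical in
/-- The short lattice vectors. -/
noncomputable def S : Finset ↥leechLattice :=
  fin_0.toFinset ∪ fin_32.toFinset ∪ fin_48.toFinset ∪ fin_64.toFinset

theorem mem_S (v : ↥leechLattice) : v ∈ S ↔ sqNorm (v : GolayPt → ℤ) ≤ 64 := by
  unfold S
  rw [Finset.mem_union, Finset.mem_union, Finset.mem_union, Set.Finite.mem_toFinset,
    Set.Finite.mem_toFinset, Set.Finite.mem_toFinset, Set.Finite.mem_toFinset]
  constructor
  · rintro (((h | h) | h) | h) <;>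
    · have h' : sqNorm (v : GolayPt → ℤ) = _ := h
      omega
  · intro h
    rcases norm_vals v h with h | h | h | h
    · left; left; left; exact h
    · left; left; right; exact h
    · left; right; exact h
    · right; exact h

theorem sum_const_of (F : Finset ↥leechLattice) (c : ℕ) (h : ∀ v ∈ F, wt v = c) :
    ∑ v ∈ F, wt v = c * F.card := by
  rw [Finset.sum_congr rfl h, Finset.sum_const, smul_eq_mul, mul_comm]

theorem total : ∑ v ∈ S, wt v = 48 * 2 ^ 24 := by
  classical
  have d1 : Disjoint fin_0.toFinset fin_32.toFinset := by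
    rw [Finset.disjoint_left]
    intro v h1 h2
    rw [Set.Finite.mem_toFinset] at h1 h2
    have h1' : sqNorm (v : GolayPt → ℤ) = 0 := h1
    have h2' : sqNorm (v : GolayPt → ℤ) = 32 := h2
    omega
  have d2 : Disjoint (fin_0.toFinset ∪ fin_32.toFinset) fin_48.toFinset := by
    rw [Finset.disjoint_left]
    intro v h1 h2
    rw [Finset.mem_union, Set.Finite.mem_toFinset, Set.Finite.mem_toFinset] at h1
    rw [Set.Finite.mem_toFinset] at h2
    have h2' : sqNorm (v : GolayPt → ℤ) = 48 := h2
    rcases h1 with h1 | h1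
    · have h1' : sqNorm (v : GolayPt → ℤ) = 0 := h1
      omega
    · have h1' : sqNorm (v : GolayPt → ℤ) = 32 := h1
      omega
  have d3 : Disjoint (fin_0.toFinset ∪ fin_32.toFinset ∪ fin_48.toFinset) fin_64.toFinset := by
    rw [Finset.disjoint_left]
    intro v h1 h2
    rw [Finset.mem_union, Finset.mem_union, Set.Finite.mem_toFinset, Set.Finite.mem_toFinset,
      Set.Finite.mem_toFinset] at h1
    rw [Set.Finite.mem_toFinset] at h2
    have h2' : sqNorm (v : GolayPt → ℤ) = 64 := h2
    rcases h1 with (h1 | h1) | h1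
    · have h1' : sqNorm (v : GolayPt → ℤ) = 0 := h1
      omega
    · have h1' : sqNorm (v : GolayPt → ℤ) = 32 := h1
      omega
    · have h1' : sqNorm (v : GolayPt → ℤ) = 48 := h1
      omega
  have s0 : ∑ v ∈ fin_0.toFinset, wt v = 48 * fin_0.toFinset.card := by
    apply sum_const_of
    intro v hv
    rw [Set.Finite.mem_toFinset] at hv
    have hv' : sqNorm (v : GolayPt → ℤ) = 0 := hv
    unfold wt
    rw [if_pos hv']
  have s32 : ∑ v ∈ fin_32.toFinset, wt v = 24 * fin_32.toFinset.card := by
    apply sum_const_of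
    intro v hv
    rw [Set.Finite.mem_toFinset] at hv
    have hv' : sqNorm (v : GolayPt → ℤ) = 32 := hv
    unfold wt
    rw [if_neg (by omega), if_neg (by omega)]
  have s48 : ∑ v ∈ fin_48.toFinset, wt v = 24 * fin_48.toFinset.card := by
    apply sum_const_of
    intro v hv
    rw [Set.Finite.mem_toFinset] at hv
    have hv' : sqNorm (v : GolayPt → ℤ) = 48 := hv
    unfold wt
    rw [if_neg (by omega), if_neg (by omega)]
  have s64 : ∑ v ∈ fin_64.toFinset, wt v = 1 * fin_64.toFinset.card := by
    apply sum_const_of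
    intro v hv
    rw [Set.Finite.mem_toFinset] at hv
    have hv' : sqNorm (v : GolayPt → ℤ) = 64 := hv
    unfold wt
    rw [if_neg (by omega), if_pos hv']
  unfold S
  rw [Finset.sum_union d3, Finset.sum_union d2, Finset.sum_union d1, s0, s32, s48, s64,
    ← Set.ncard_eq_toFinset_card _ fin_0, ← Set.ncard_eq_toFinset_card _ fin_32,
    ← Set.ncard_eq_toFinset_card _ fin_48, ← Set.ncard_eq_toFinset_card _ fin_64,
    ncard_0, ncard_32, ncard_48, ncard_64]
  norm_num

/-! ### the bound on each class -/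

theorem cls_neg (v : ↥leechLattice) : cls (-v) = cls v := by
  rw [cls_eq_iff]
  refine ⟨-v, leechLattice.neg_mem v.2, ?_⟩
  have : ((-v : ↥leechLattice) : GolayPt → ℤ) = -(v : GolayPt → ℤ) := rfl
  rw [this, two_smul]
  abel

theorem wt_of_64 (v : ↥leechLattice) (h : sqNorm (v : GolayPt → ℤ) = 64) : wt v = 1 := by
  unfold wt
  rw [if_neg (by omega), if_pos h]

open Classical in
theorem fiber_le (t : T) : ∑ v ∈ S.filter (fun v => cls v = t), wt v ≤ 48 := by
  by_cases hA : ∃ v ∈ S.filter (fun v => cls v = t), sqNorm (v : GolayPt → ℤ) < 64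
  · -- the class of a vector of sum of squares less than 64
    obtain ⟨v, hv, hvn⟩ := hA
    rw [Finset.mem_filter, mem_S] at hv
    have hsub : S.filter (fun v => cls v = t) ⊆ {v, -v} := by
      intro w hw
      rw [Finset.mem_filter, mem_S] at hw
      rw [Finset.mem_insert, Finset.mem_singleton]
      by_contra hcon
      have h1 : (w : GolayPt → ℤ) ≠ v := fun h => hcon (Or.inl (Subtype.ext h))
      have h2 : (w : GolayPt → ℤ) ≠ -(v : GolayPt → ℤ) := fun h => hcon (Or.inr (Subtype.ext h))
      have hc := (cls_eq_iff v w).mp (by rw [hv.2, hw.2])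
      have := claimA v w v.2 w.2 hv.1 hw.1 hc h1 h2
      omega
    refine le_trans (Finset.sum_le_sum_of_subset hsub) ?_
    by_cases h0 : v = -v
    · rw [← h0, Finset.pair_eq_singleton, Finset.sum_singleton]
      exact wt_le v
    · rw [Finset.sum_pair h0]
      have hv0 : sqNorm (v : GolayPt → ℤ) ≠ 0 := by
        intro h
        apply h0
        have : (v : GolayPt → ℤ) = 0 := sqNorm_eq_zero h
        apply Subtype.ext
        show (v : GolayPt → ℤ) = -(v : GolayPt → ℤ)
        rw [this, neg_zero]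
      have hn : sqNorm ((-v : ↥leechLattice) : GolayPt → ℤ) = sqNorm (v : GolayPt → ℤ) :=
        sqNorm_neg _
      have w1 : wt v = 24 := by
        unfold wt
        rw [if_neg hv0, if_neg (by omega)]
      have w2 : wt (-v) = 24 := by
        unfold wt
        rw [hn, if_neg hv0, if_neg (by omega)]
      rw [w1, w2]
  · -- a class all of whose short vectors have sum of squares 64
    have h64 : ∀ v ∈ S.filter (fun v => cls v = t), sqNorm (v : GolayPt → ℤ) = 64 := by
      intro v hv
      by_contra hne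
      apply hA
      refine ⟨v, hv, ?_⟩
      rw [Finset.mem_filter, mem_S] at hv
      omega
    rw [Finset.sum_congr rfl (fun v hv => wt_of_64 v (h64 v hv)), Finset.sum_const, smul_eq_mul,
      mul_one]
    rw [← Finset.card_image_of_injective _ Subtype.val_injective]
    apply orth_card_le
    · intro y hy
      obtain ⟨v, hv, rfl⟩ := Finset.mem_image.mp hy
      exact h64 v hv
    · intro y hy
      obtain ⟨v, hv, rfl⟩ := Finset.mem_image.mp hy
      refine Finset.mem_image.mpr ⟨-v, ?_, rfl⟩
      rw [Finset.mem_filter, mem_S] at hv ⊢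
      refine ⟨?_, by rw [cls_neg]; exact hv.2⟩
      have : sqNorm ((-v : ↥leechLattice) : GolayPt → ℤ) = sqNorm (v : GolayPt → ℤ) :=
        sqNorm_neg _
      rw [this]; exact hv.1
    · intro y hy y' hy' h1 h2
      obtain ⟨v, hv, rfl⟩ := Finset.mem_image.mp hy
      obtain ⟨v', hv', rfl⟩ := Finset.mem_image.mp hy'
      rw [Finset.mem_filter, mem_S] at hv hv'
      have hc := (cls_eq_iff v v').mp (by rw [hv.2, hv'.2])
      have h1' : (v' : GolayPt → ℤ) ≠ v := fun h => h1 h.symm
      have h2' : (v' : GolayPt → ℤ) ≠ -(v : GolayPt → ℤ) := by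
        intro h
        apply h2
        rw [h, neg_neg]
      exact (claimA v v' v.2 v'.2 hv.1 hv'.1 hc h1' h2').2.2

open Classical in
/-- In every class, the weights of the short vectors add up to 48. -/
theorem fiber_eq (t : T) : ∑ v ∈ S.filter (fun v => cls v = t), wt v = 48 := by
  have : Finite T := Nat.finite_of_card_ne_zero (by rw [card_T]; positivity)
  let _ : Fintype T := Fintype.ofFinite T
  have h1 : ∑ t : T, ∑ v ∈ S.filter (fun v => cls v = t), wt v = ∑ v ∈ S, wt v :=
    Finset.sum_fiberwise S cls wt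
  have h2 : ∑ _t : T, 48 = 48 * 2 ^ 24 := by
    rw [Finset.sum_const, Finset.card_univ, ← Nat.card_eq_fintype_card, card_T, smul_eq_mul,
      mul_comm]
  have h3 := (Finset.sum_eq_sum_iff_of_le (s := (Finset.univ : Finset T))
    (f := fun t => ∑ v ∈ S.filter (fun v => cls v = t), wt v) (g := fun _ => 48)
    (fun t _ => fiber_le t)).mp (by rw [h1, total, h2])
  exact h3 t (Finset.mem_univ t)

/-! ### consequences -/

/-- Every class of the lattice modulo twice the lattice contains a short vector. -/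
theorem exists_short (x : GolayPt → ℤ) (hx : x ∈ leechLattice) :
    ∃ y ∈ leechLattice, sqNorm y ≤ 64 ∧ ∃ z ∈ leechLattice, x - y = 2 • z := by
  classical
  have h := fiber_eq (cls ⟨x, hx⟩)
  have hne : (S.filter (fun v => cls v = cls ⟨x, hx⟩)).Nonempty := by
    by_contra hcon
    rw [Finset.not_nonempty_iff_eq_empty] at hcon
    rw [hcon, Finset.sum_empty] at h
    omega
  obtain ⟨v, hv⟩ := hne
  rw [Finset.mem_filter, mem_S] at hv
  refine ⟨v, v.2, hv.1, ?_⟩
  exact (cls_eq_iff ⟨x, hx⟩ v).mp hv.2.symm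

/-- The class of a vector of sum of squares 64 contains exactly 48 such vectors. -/
theorem card_class_64 (x : GolayPt → ℤ) (hx : x ∈ leechLattice) (hn : sqNorm x = 64) :
    {y : GolayPt → ℤ | y ∈ leechLattice ∧ sqNorm y = 64 ∧
      ∃ z ∈ leechLattice, x - y = 2 • z}.ncard = 48 := by
  classical
  have h := fiber_eq (cls ⟨x, hx⟩)
  have h64 : ∀ v ∈ S.filter (fun v => cls v = cls ⟨x, hx⟩),
      sqNorm (v : GolayPt → ℤ) = 64 := by
    intro v hv
    rw [Finset.mem_filter, mem_S] at hv
    have hc := (cls_eq_iff ⟨x, hx⟩ v).mp hv.2.symm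
    by_cases h1 : (v : GolayPt → ℤ) = x
    · rw [h1]; exact hn
    · by_cases h2 : (v : GolayPt → ℤ) = -x
      · rw [h2, sqNorm_neg]; exact hn
      · exact (claimA x v hx v.2 (by rw [hn]) hv.1 hc h1 h2).2.1
  rw [Finset.sum_congr rfl (fun v hv => wt_of_64 v (h64 v hv)), Finset.sum_const, smul_eq_mul,
    mul_one] at h
  rw [← h, ← Finset.card_image_of_injective _ Subtype.val_injective, ← Set.ncard_coe_finset]
  congr 1
  ext y
  rw [Finset.mem_coe, Finset.mem_image]
  constructor
  · rintro ⟨hy, hyn, hc⟩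
    refine ⟨⟨y, hy⟩, ?_, rfl⟩
    rw [Finset.mem_filter, mem_S]
    refine ⟨by show sqNorm y ≤ 64; omega, ?_⟩
    exact ((cls_eq_iff ⟨x, hx⟩ ⟨y, hy⟩).mpr hc).symm
  · rintro ⟨v, hv, rfl⟩
    have hv' := hv
    rw [Finset.mem_filter, mem_S] at hv'
    exact ⟨v.2, h64 v hv, (cls_eq_iff ⟨x, hx⟩ v).mp hv'.2.symm⟩

end Cfsg.Agent.Lib.Helper92_LeechMod2
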