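import Cfsg.Agent.Lib.Helper92_Co0Order
import Cfsg.Agent.S5548
import Cfsg.Agent.Lib.Helper7_Bits

/-!
Pairs of orthogonal minimal vectors of the rank-24 lattice, assuming that the automorphism group
permutes transitively the classes modulo twice the lattice of the vectors of sum of squares 64.

If `v`, `w` are minimal and orthogonal then `v + w` and `v - w` have sum of squares 64 and are
congruent modulo twice the lattice.  An automorphism takes them into the standard cross, and a
monomial automorphism then takes them to `8 e_0` and `8 e_3`.  So all such pairs `(v, w)` are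
equivalent under the automorphism group.
-/

set_option autoImplicit false
open scoped Pointwise
open Cfsg

namespace Cfsg.Agent.Lib.Helper92_OrthPairs

open Cfsg.Agent.Lib.Helper7_M24 Cfsg.Agent.Lib.Helper7_Leech Cfsg.Agent.Lib.Helper92_LeechMod2
  Cfsg.Agent.Lib.Helper92_Monomial Cfsg.Agent.Lib.Helper92_Co0Order Cfsg.Agent.Lib.Helper7_Bits
open Cfsg.Agent.S5546 (Lam vec8 e8 addHom addHom_apply)

/-! ### additivity of the action -/

theorem smul_eq_addHom (g : ↥Co0) (v : Lam) : g • v = addHom g.1 g.2 v := rfl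

theorem smul_sub' (g : ↥Co0) (v w : Lam) : g • (v - w) = g • v - g • w := by
  rw [smul_eq_addHom, smul_eq_addHom, smul_eq_addHom, map_sub]

theorem smul_neg' (g : ↥Co0) (v : Lam) : g • (-v) = -(g • v) := by
  rw [smul_eq_addHom, smul_eq_addHom, map_neg]

theorem eq_of_add_self_eq {a b : Lam} (h : a + a = b + b) : a = b := by
  apply Subtype.ext
  funext k
  have := congrArg (fun x : Lam => (x : GolayPt → ℤ) k) h
  simp only [AddSubgroup.coe_add, Pi.add_apply] at this
  omega

/-! ### monomial automorphisms on vectors with a single nonzero coordinate -/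

theorem sign_masks : ∀ s0 s3 : Bool, ∃ m ∈ [0, 15777, 10558, 5279], inCode m = true ∧
    m.testBit 0 = s0 ∧ m.testBit 3 = s3 := by
  decide +kernel

theorem signedPerm_single (σ : Equiv.Perm GolayPt) (c : Finset GolayPt) (i : GolayPt) (s : ℤ) :
    signedPerm σ c (Pi.single i s) = Pi.single (σ i) (if σ i ∈ c then -s else s) := by
  funext k
  unfold signedPerm
  rw [Pi.single_apply, Pi.single_apply]
  by_cases hk : k = σ i
  · subst hk
    rw [Equiv.symm_apply_apply, if_pos rfl, if_pos rfl]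
  · have h' : σ.symm k ≠ i := fun h => hk (by rw [← h, Equiv.apply_symm_apply])
    rw [if_neg h', if_neg hk, neg_zero, ite_self]

/-- A monomial automorphism taking two given members of the standard cross, on distinct
coordinates, to `8 e_0` and `8 e_3`. -/
theorem mono_pair (i j : GolayPt) (hij : i ≠ j) (s s' : ℤ) (hs : s = 8 ∨ s = -8)
    (hs' : s' = 8 ∨ s' = -8) :
    ∃ g : ↥Co0, ∀ x : Lam,
      ((x : GolayPt → ℤ) = Pi.single i s →
        ((g • x : Lam) : GolayPt → ℤ) = Pi.single (dec 0) 8) ∧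
      ((x : GolayPt → ℤ) = Pi.single j s' →
        ((g • x : Lam) : GolayPt → ℤ) = Pi.single (dec 3) 8) := by
  obtain ⟨σ, hσ, hσi, hσj⟩ := Cfsg.Agent.S5548.two_trans i j (dec 0) (dec 3) hij (by decide)
  obtain ⟨m, _, hm, hm0, hm3⟩ := sign_masks (decide (s = -8)) (decide (s' = -8))
  refine ⟨⟨monoPerm σ hσ (toWord m) (toWord_mem_of_inCode hm), monoPerm_mem_Co0 _ _ _ _⟩,
    fun x => ⟨?_, ?_⟩⟩
  · intro hx
    show signedPerm σ (support₂ (toWord m)) x.1 = _
    rw [hx, signedPerm_single, hσi]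
    congr 1
    have h0 : m.testBit (enc (dec 0)) = decide (s = -8) := hm0
    rcases hs with rfl | rfl
    · rw [if_neg]
      rw [mem_support₂_toWord, h0]; simp
    · rw [if_pos, neg_neg]
      rw [mem_support₂_toWord, h0]; simp
  · intro hx
    show signedPerm σ (support₂ (toWord m)) x.1 = _
    rw [hx, signedPerm_single, hσj]
    congr 1
    have h3 : m.testBit (enc (dec 3)) = decide (s' = -8) := hm3
    rcases hs' with rfl | rfl
    · rw [if_neg]
      rw [mem_support₂_toWord, h3]; simp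
    · rw [if_pos, neg_neg]
      rw [mem_support₂_toWord, h3]; simp

/-! ### reduction of an orthogonal pair of minimal vectors -/

/-- The transitivity hypothesis: the automorphism group permutes transitively the classes modulo
twice the lattice of the vectors of sum of squares 64. -/
def Trans64 : Prop := ∀ v w : Lam, sqNorm (v : GolayPt → ℤ) = 64 →
    sqNorm (w : GolayPt → ℤ) = 64 → ∃ g : ↥Co0, ∃ z ∈ leechLattice,
      ((g • v : Lam) : GolayPt → ℤ) - (w : GolayPt → ℤ) = 2 • z

theorem sqNorm_sub' (a b : GolayPt → ℤ) :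
    sqNorm (a - b) = sqNorm a + sqNorm b - 2 * dotInt a b := by
  unfold sqNorm dotInt
  rw [Finset.mul_sum, ← Finset.sum_add_distrib, ← Finset.sum_sub_distrib]
  apply Finset.sum_congr rfl
  intro i _
  simp only [Pi.sub_apply]
  ring

theorem ne_zero_of_sqNorm {v : Lam} (h : sqNorm (v : GolayPt → ℤ) = 32) : v ≠ 0 := by
  rintro rfl
  have : sqNorm ((0 : Lam) : GolayPt → ℤ) = 0 := sqNorm_zero
  rw [this] at h
  exact absurd h (by decide)

theorem reduce (htrans : Trans64) (v w : Lam) (hv : sqNorm (v : GolayPt → ℤ) = 32)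
    (hw : sqNorm (w : GolayPt → ℤ) = 32) (hd : dotInt (v : GolayPt → ℤ) (w : GolayPt → ℤ) = 0) :
    ∃ g : ↥Co0, ((g • (v + w) : Lam) : GolayPt → ℤ) = Pi.single (dec 0) 8 ∧
      ((g • (v - w) : Lam) : GolayPt → ℤ) = Pi.single (dec 3) 8 := by
  have hz : sqNorm ((v + w : Lam) : GolayPt → ℤ) = 64 := by
    show sqNorm ((v : GolayPt → ℤ) + (w : GolayPt → ℤ)) = 64
    rw [sqNorm_add', hv, hw, hd]; rfl
  have hz' : sqNorm ((v - w : Lam) : GolayPt → ℤ) = 64 := by
    show sqNorm ((v : GolayPt → ℤ) - (w : GolayPt → ℤ)) = 64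
    rw [sqNorm_sub', hv, hw, hd]; rfl
  obtain ⟨g₁, t, ht, hg₁⟩ := htrans (v + w) (e8 none) hz (sqNorm_e8 none)
  have hc : cls (v - w) = cls (v + w) := by
    rw [cls_eq_iff]
    refine ⟨-(w : GolayPt → ℤ), leechLattice.neg_mem w.2, ?_⟩
    show (v : GolayPt → ℤ) - (w : GolayPt → ℤ) - ((v : GolayPt → ℤ) + (w : GolayPt → ℤ)) =
      2 • (-(w : GolayPt → ℤ))
    rw [two_smul]; abel
  have hcz : cls (g₁ • (v + w)) = cls (e8 none) := (cls_eq_iff _ _).mpr ⟨t, ht, hg₁⟩
  have h1 : g₁ • (v + w) ∈ X0 := ⟨by rw [sqNorm_smul]; exact hz, hcz⟩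
  have h2 : g₁ • (v - w) ∈ X0 :=
    ⟨by rw [sqNorm_smul]; exact hz', (cls_smul g₁ hc).trans hcz⟩
  rw [X0_eq] at h1 h2
  obtain ⟨i, s, hs, e1⟩ := h1
  obtain ⟨j, s', hs', e2⟩ := h2
  have hij : i ≠ j := by
    rintro rfl
    have hcase : s' = s ∨ s' = -s := by
      rcases hs with h | h <;> rcases hs' with h' | h' <;> rw [h, h'] <;> norm_num
    rcases hcase with hc' | hc'
    · have : g₁ • (v + w) = g₁ • (v - w) := by
        apply Subtype.ext; rw [e1, e2, hc']
      have h3 := MulAction.injective g₁ this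
      have h4 : w + w = 0 + 0 := by
        have : (v + w) - (v - w) = 0 := by rw [← h3]; abel
        rw [add_zero, ← this]; abel
      exact ne_zero_of_sqNorm hw (eq_of_add_self_eq h4)
    · have : g₁ • (v - w) = g₁ • (-(v + w)) := by
        rw [smul_neg']
        apply Subtype.ext
        show ((g₁ • (v - w) : Lam) : GolayPt → ℤ) = -((g₁ • (v + w) : Lam) : GolayPt → ℤ)
        rw [e1, e2, hc']
        funext k
        rw [Pi.neg_apply, Pi.single_apply, Pi.single_apply]
        by_cases hk : k = i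
        · rw [if_pos hk, if_pos hk]
        · rw [if_neg hk, if_neg hk, neg_zero]
      have h3 := MulAction.injective g₁ this
      have h4 : v + v = 0 + 0 := by
        have : (v - w) + (v + w) = 0 := by rw [h3]; abel
        rw [add_zero, ← this]; abel
      exact ne_zero_of_sqNorm hv (eq_of_add_self_eq h4)
  obtain ⟨g₂, hg₂⟩ := mono_pair i j hij s s' hs hs'
  refine ⟨g₂ * g₁, ?_, ?_⟩
  · rw [mul_smul]
    exact (hg₂ _).1 e1
  · rw [mul_smul]
    exact (hg₂ _).2 e2

/-- Assuming transitivity on the classes of the vectors of sum of squares 64, the stabiliser of a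
minimal vector is transitive on the minimal vectors orthogonal to it. -/
theorem stab_trans_orth (htrans : Trans64) (v w w' : Lam)
    (hv : sqNorm (v : GolayPt → ℤ) = 32) (hw : sqNorm (w : GolayPt → ℤ) = 32)
    (hw' : sqNorm (w' : GolayPt → ℤ) = 32)
    (hd : dotInt (v : GolayPt → ℤ) (w : GolayPt → ℤ) = 0)
    (hd' : dotInt (v : GolayPt → ℤ) (w' : GolayPt → ℤ) = 0) :
    ∃ g : ↥Co0, g • v = v ∧ g • w = w' := by
  obtain ⟨G, hG1, hG2⟩ := reduce htrans v w hv hw hd
  obtain ⟨G', hG1', hG2'⟩ := reduce htrans v w' hv hw' hd'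
  have e1 : G • (v + w) = G' • (v + w') := Subtype.ext (hG1.trans hG1'.symm)
  have e2 : G • (v - w) = G' • (v - w') := Subtype.ext (hG2.trans hG2'.symm)
  have f1 : (G'⁻¹ * G) • (v + w) = v + w' := by
    rw [mul_smul, e1, inv_smul_smul]
  have f2 : (G'⁻¹ * G) • (v - w) = v - w' := by
    rw [mul_smul, e2, inv_smul_smul]
  rw [smul_add'] at f1
  rw [smul_sub'] at f2
  have hvv : (G'⁻¹ * G) • v = v := by
    apply eq_of_add_self_eq
    have : (G'⁻¹ * G) • v + (G'⁻¹ * G) • v =
        ((G'⁻¹ * G) • v + (G'⁻¹ * G) • w) + ((G'⁻¹ * G) • v - (G'⁻¹ * G) • w) := by abel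
    rw [this, f1, f2]; abel
  refine ⟨G'⁻¹ * G, hvv, ?_⟩
  rw [hvv] at f1
  exact add_left_cancel f1

end Cfsg.Agent.Lib.Helper92_OrthPairs
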