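import Mathlib
import Cfsg.Prelude.Def_MonsterType
import Cfsg.Agent.Lib.Helper63_MonsterForm
import Cfsg.Agent.S5408
import Cfsg.Agent.S1265
import Cfsg.Agent.S5593
import Cfsg.Agent.S1570
import Cfsg.Agent.S0391
import Cfsg.Agent.S0392

/-!
Groups of Monster type: the central involution lies in `Q`, the values of the squaring form on
short vectors, and conjugacy in the centralizer from the transitivity of `Co0`.
-/

set_option autoImplicit false
set_option linter.unusedSectionVars false
open Cfsg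

namespace Cfsg.Agent.Lib.Helper63_MonsterConj

open Cfsg.Agent.Lib.Helper89_ESClass Cfsg.Agent.Lib.Helper63_ESForm
open Cfsg.Agent.Lib.Helper63_MonsterForm

variable {G : Type*} [Group G] {z : G} {Q : Subgroup (Subgroup.centralizer ({z} : Set G))}
  [Q.Normal] {e : (Subgroup.centralizer ({z} : Set G)) ⧸ Q ≃* Spor.Co1}
  {ψ : leechLattice → Q ⧸ Subgroup.center Q} {t : Q}

/-! ### the involution `z` inside `Q` -/

/-- `z` as an element of its centralizer -/
def zC (z : G) : Subgroup.centralizer ({z} : Set G) :=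
  ⟨z, by
    rw [Subgroup.mem_centralizer_iff]
    intro h hh
    rw [Set.mem_singleton_iff] at hh
    rw [hh]⟩

theorem zC_central (h : Subgroup.centralizer ({z} : Set G)) : zC z * h = h * zC z := by
  apply Subtype.ext
  have := (Subgroup.mem_centralizer_iff.1 h.2) z (Set.mem_singleton z)
  exact this

theorem zC_mem [Finite G]
    (hF : generalizedFittingSubgroup (Subgroup.centralizer ({z} : Set G)) = Q) : zC z ∈ Q := by
  rw [← hF]
  apply Cfsg.Agent.S1265.result
  rw [Subgroup.mem_centralizer_iff]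
  intro h _
  exact (zC_central h).symm

/-- `z` as an element of `Q` -/
def zQ [Finite G] (hF : generalizedFittingSubgroup (Subgroup.centralizer ({z} : Set G)) = Q) : Q :=
  ⟨zC z, zC_mem hF⟩

theorem zQ_central [Finite G]
    (hF : generalizedFittingSubgroup (Subgroup.centralizer ({z} : Set G)) = Q) (h : Q) :
    zQ hF * h = h * zQ hF := by
  apply Subtype.ext
  exact zC_central (h : Subgroup.centralizer ({z} : Set G))

theorem isES2_zQ [Finite G] (hz : orderOf z = 2)
    (hF : generalizedFittingSubgroup (Subgroup.centralizer ({z} : Set G)) = Q)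
    (hes : IsExtraspecial 2 Q) : IsES2 Q (zQ hF) := by
  obtain ⟨t, hE⟩ := isES2_of_isExtraspecial hes
  have h1 : zQ hF = 1 ∨ zQ hF = t := (hE.center _).1 (zQ_central hF)
  rcases h1 with h1 | h1
  · exfalso
    have h2 : z = 1 := congrArg (fun q : Q => ((q : Subgroup.centralizer ({z} : Set G)) : G)) h1
    rw [h2, orderOf_one] at hz
    omega
  · rw [h1]; exact hE

/-! ### the map to the Conway group -/

/-- the projection of the centralizer onto `Co1` -/
noncomputable def rho (e : (Subgroup.centralizer ({z} : Set G)) ⧸ Q ≃* Spor.Co1) :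
    Subgroup.centralizer ({z} : Set G) →* Spor.Co1 :=
  e.toMonoidHom.comp (QuotientGroup.mk' Q)

theorem rho_apply (h : Subgroup.centralizer ({z} : Set G)) : rho e h = e (QuotientGroup.mk h) := rfl

theorem rho_surjective : Function.Surjective (rho e) := by
  intro y
  obtain ⟨x, hx⟩ := e.surjective y
  obtain ⟨h, rfl⟩ := QuotientGroup.mk_surjective x
  exact ⟨h, hx⟩

theorem rho_eq_one_iff (h : Subgroup.centralizer ({z} : Set G)) : rho e h = 1 ↔ h ∈ Q := by
  rw [rho_apply, MulEquiv.map_eq_one_iff, QuotientGroup.eq_one_iff]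

/-! ### conjugacy from the action of `Co0` -/

theorem exists_flip (hE : IsES2 Q t) (x : Q) (hx : ¬ ∀ h, x * h = h * x) :
    ∃ q : Q, q * x * q⁻¹ = x * t := by
  push Not at hx
  obtain ⟨q, hq⟩ := hx
  refine ⟨q, ?_⟩
  rcases hE.comm q x with h | h
  · exact absurd h.symm hq
  · calc q * x * q⁻¹ = t * (x * q) * q⁻¹ := by rw [h]
      _ = t * x := by group
      _ = x * t := hE.central x

theorem mk_eq_one_iff_central (x : Q) :
    (QuotientGroup.mk x : Q ⧸ Subgroup.center Q) = 1 ↔ ∀ h, x * h = h * x := by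
  rw [QuotientGroup.eq_one_iff, Subgroup.mem_center_iff]
  constructor
  · intro h k; exact (h k).symm
  · intro h k; exact (h k).symm

/-- conjugation by an element of the centralizer, as an automorphism of `Q` -/
noncomputable def cj (h : Subgroup.centralizer ({z} : Set G)) : MulAut Q := MulAut.conjNormal h

theorem cj_coe (h : Subgroup.centralizer ({z} : Set G)) (x : Q) :
    ((cj h x : Q) : Subgroup.centralizer ({z} : Set G)) = h * x * h⁻¹ :=
  MulAut.conjNormal_apply h x

theorem central_cj_iff (h : Subgroup.centralizer ({z} : Set G)) (x : Q) :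
    (∀ k, cj h x * k = k * cj h x) ↔ ∀ k, x * k = k * x := by
  constructor
  · intro hc k
    have := hc (cj h k)
    rw [← map_mul, ← map_mul] at this
    exact (cj h).injective this
  · intro hc k
    obtain ⟨k', rfl⟩ := (cj h).surjective k
    rw [← map_mul, ← map_mul, hc]

theorem psi_smul (hψ : IsLeechModTwoIso Q e ψ) {h : Subgroup.centralizer ({z} : Set G)} {g0 : Co0}
    (hg : rho e h = QuotientGroup.mk g0) {v : leechLattice} {x : Q}
    (hx : ψ v = QuotientGroup.mk x) : ψ (g0 • v) = QuotientGroup.mk (cj h x) := by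
  have h1 := hψ.2.2.2 h g0 hg.symm v x hx
  rw [h1]
  have h2 : (⟨h * (x : Subgroup.centralizer ({z} : Set G)) * h⁻¹,
      (inferInstance : Q.Normal).conj_mem _ x.2 h⟩ : Q) = cj h x := by
    apply Subtype.ext
    rw [cj_coe]
  rw [h2]

theorem exists_conj (hE : IsES2 Q t) (hψ : IsLeechModTwoIso Q e ψ) {x y : Q} {v : leechLattice}
    (g0 : Co0) (hx : ψ v = QuotientGroup.mk x) (hy : ψ (g0 • v) = QuotientGroup.mk y)
    (hne : ψ v ≠ 1) :
    ∃ h : Subgroup.centralizer ({z} : Set G), rho e h = QuotientGroup.mk g0 ∧ cj h x = y := by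
  obtain ⟨h0, hh0⟩ := rho_surjective (e := e) (QuotientGroup.mk g0 : Spor.Co1)
  have h1 := psi_smul hψ hh0 hx
  rw [hy] at h1
  obtain ⟨c, hc, hyc⟩ := exists_central h1.symm
  rcases (hE.center c).1 hc with rfl | rfl
  · exact ⟨h0, hh0, by rw [hyc, mul_one]⟩
  · have hnc : ¬ ∀ k, cj h0 x * k = k * cj h0 x := by
      rw [central_cj_iff, ← mk_eq_one_iff_central, ← hx]
      exact hne
    obtain ⟨q, hq⟩ := exists_flip hE (cj h0 x) hnc
    refine ⟨(q : Subgroup.centralizer ({z} : Set G)) * h0, ?_, ?_⟩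
    · rw [map_mul, hh0, (rho_eq_one_iff _).2 q.2, one_mul]
    · rw [hyc, ← hq]
      apply Subtype.ext
      rw [cj_coe]
      push_cast
      rw [cj_coe]
      group

/-! ### values of the form on short vectors -/

section values
variable (hE : IsES2 Q t) (hψ : IsLeechModTwoIso Q e ψ)
include hE hψ

theorem F_add_two (x w : leechLattice) : F ψ (x + (w + w)) = F ψ x := by
  rw [F_add hE hψ, F_add hE hψ w w, B_self, B_add_right hE hψ]
  have h1 : F ψ w + F ψ w = 0 := CharTwo.add_self_eq_zero _
  have h2 : B ψ x w + B ψ x w = 0 := CharTwo.add_self_eq_zero _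
  rw [h1, h2]
  simp

theorem F_congr {x y : leechLattice} {w : GolayPt → ℤ} (hw : w ∈ leechLattice)
    (h : (x : GolayPt → ℤ) - (y : GolayPt → ℤ) = 2 • w) : F ψ x = F ψ y := by
  have h1 : x = y + ((⟨w, hw⟩ : leechLattice) + ⟨w, hw⟩) := by
    apply Subtype.ext
    push_cast
    rw [← two_nsmul, ← h]
    abel
  rw [h1, F_add_two hE hψ]

theorem psi_congr {x y : leechLattice} {w : GolayPt → ℤ} (hw : w ∈ leechLattice)
    (h : (x : GolayPt → ℤ) - (y : GolayPt → ℤ) = 2 • w) : ψ x = ψ y := by
  have h1 : x = y + ((⟨w, hw⟩ : leechLattice) + ⟨w, hw⟩) := by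
    apply Subtype.ext
    push_cast
    rw [← two_nsmul, ← h]
    abel
  rw [h1, hψ.1, (hψ.2.2.1 _).2 ⟨_, rfl⟩, mul_one]

theorem F_32' (v : leechLattice) (hv : sqNorm (v : GolayPt → ℤ) = 32) : F ψ v = 0 := by
  rw [F_32 hE hψ v hv]
  exact Cfsg.Agent.S5408.F_U hE hψ

theorem F_64 (v : leechLattice) (hv : sqNorm (v : GolayPt → ℤ) = 64) : F ψ v = 0 := by
  obtain ⟨g, w, hw, hgw⟩ := Cfsg.Agent.S5593.result v Cfsg.Agent.S5408.lE hv (by decide)
  rw [← F_smul hE hψ g v, F_congr hE hψ hw hgw]
  exact Cfsg.Agent.S5408.F_E hE hψ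

end values

/-- the possible norms of short vectors -/
theorem short_norms (y : GolayPt → ℤ) (hy : y ∈ leechLattice) (h64 : sqNorm y ≤ 64) :
    y = 0 ∨ sqNorm y = 32 ∨ sqNorm y = 48 ∨ sqNorm y = 64 := by
  by_cases h0 : y = 0
  · exact Or.inl h0
  · right
    have h1 := Cfsg.Agent.S0391.result y hy h0
    obtain ⟨k, hk⟩ := Cfsg.Agent.S0392.result y hy
    omega

end Cfsg.Agent.Lib.Helper63_MonsterConj
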