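/-
Helper library (helper93): symmetry of orthogonality of singular involutions in the large extraspecial
setting, via a fixed-point parity count.
-/
import Mathlib
import Cfsg.Agent.Lib.Helper93_LES

set_option autoImplicit false

namespace Cfsg.Agent.Lib.Helper93_LESSym

open Cfsg
open Cfsg.Agent.Lib.Helper93_LES

variable {G : Type*} [Group G]

/-- `a` is a conjugate of `z`. -/
def IsCj (z a : G) : Prop := ∃ h : G, h * z * h⁻¹ = a

theorem isCj_self (z : G) : IsCj z z := ⟨1, by group⟩

theorem isCj_conj {z a : G} (h : G) (ha : IsCj z a) : IsCj z (h * a * h⁻¹) := by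
  obtain ⟨k, rfl⟩ := ha
  exact ⟨h * k, by group⟩

theorem isCj_conj_iff {z a : G} (h : G) : IsCj z (h * a * h⁻¹) ↔ IsCj z a := by
  constructor
  · intro ha
    have := isCj_conj h⁻¹ ha
    have e : h⁻¹ * (h * a * h⁻¹) * h⁻¹⁻¹ = a := by group
    rwa [e] at this
  · exact isCj_conj h

/-- A noncentral element `x` of `tc z` is moved by some `q0 ∈ tc z` to `x * z`. -/
theorem exists_q0 {z x : G} (hles : LES (tc z) z) (hx : x ∈ tc z) (hx1 : x ≠ 1) (hxz : x ≠ z) :
    ∃ q0 ∈ tc z, q0 * x * q0⁻¹ = x * z := by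
  have hex : ∃ c ∈ tc z, c * x ≠ x * c := by
    by_contra hcon
    push Not at hcon
    have : ∀ b ∈ tc z, x * b = b * x := fun b hb => (hcon b hb).symm
    rcases hles.selfcent x this with h | h
    · exact hx1 h
    · exact hxz h
  obtain ⟨c, hc, hcx⟩ := hex
  refine ⟨c, hc, ?_⟩
  have h1 : c * x * c⁻¹ * x⁻¹ = z := by
    rcases hles.comm c hc x hx with h | h
    · exfalso
      apply hcx
      calc c * x = (c * x * c⁻¹ * x⁻¹) * x * c := by group
        _ = x * c := by rw [h]; group
    · exact h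
  calc c * x * c⁻¹ = (c * x * c⁻¹ * x⁻¹) * x := by group
    _ = z * x := by rw [h1]
    _ = x * z := (hles.central x hx).symm


/-- Elements centralizing `R = C_{tc z}(x)` and nontrivial are `z`, `x` or `x * z`. -/
theorem fixed_class {z x a : G} (hles : LES (tc z) z) (hx : x ∈ tc z) (hx1 : x ≠ 1) (hxz : x ≠ z)
    (hx2 : x * x = 1) (ha1 : a ≠ 1)
    (ha : ∀ r ∈ tc z, r * x = x * r → r * a = a * r) : a = z ∨ a = x ∨ a = x * z := by
  obtain ⟨q0, hq0, hq⟩ := exists_q0 hles hx hx1 hxz
  have hzz : z * z = 1 := hles.sq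
  have hzc : ∀ b ∈ tc z, b * z = z * b := hles.central
  have hzx : z * x = x * z := (hzc x hx).symm
  have hz1 : z ≠ 1 := hles.ne_one
  have hzinv : z⁻¹ = z := inv_eq_of_mul_eq_one_left hzz
  have hxinv : x⁻¹ = x := inv_eq_of_mul_eq_one_left hx2
  have haz : z * a = a * z := ha z hles.mem hzx
  have hacen : a ∈ Subgroup.centralizer ({z} : Set G) := by
    rw [Subgroup.mem_centralizer_iff]
    intro w hw
    rw [Set.mem_singleton_iff] at hw
    subst hw
    exact haz
  have hq0' : a * q0 * a⁻¹ ∈ tc z := conj_mem_tc hq0 hacen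
  have hq0inv : q0⁻¹ ∈ tc z := Subgroup.inv_mem _ hq0
  -- c = [a, q0]
  have hc : a * q0 * a⁻¹ * q0⁻¹ ∈ tc z := Subgroup.mul_mem _ hq0' hq0inv
  -- general principle: commuting with R and q0 means commuting with all of tc z
  have hq0x' : q0⁻¹ * (x * z) * q0 = x := by
    rw [← hq]; group
  have full : ∀ w : G, (∀ r ∈ tc z, r * x = x * r → r * w = w * r) → q0 * w = w * q0 →
      w = 1 ∨ w = z := by
    intro w hwR hwq
    apply hles.selfcent
    intro q hqm
    rcases hles.comm q hqm x hx with h | h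
    · have : q * x = x * q := by
        calc q * x = (q * x * q⁻¹ * x⁻¹) * x * q := by group
          _ = x * q := by rw [h]; group
      exact (hwR q hqm this).symm
    · have h1 : q * x * q⁻¹ = x * z := by
        calc q * x * q⁻¹ = (q * x * q⁻¹ * x⁻¹) * x := by group
          _ = z * x := by rw [h]
          _ = x * z := hzx
      have h2 : (q0⁻¹ * q) * x = x * (q0⁻¹ * q) := by
        calc (q0⁻¹ * q) * x = q0⁻¹ * (q * x * q⁻¹) * q0 * (q0⁻¹ * q) := by group
          _ = (q0⁻¹ * (x * z) * q0) * (q0⁻¹ * q) := by rw [h1]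
          _ = x * (q0⁻¹ * q) := by rw [hq0x']
      have h3 := hwR (q0⁻¹ * q) (Subgroup.mul_mem _ hq0inv hqm) h2
      calc w * q = (w * q0) * (q0⁻¹ * q) := by group
        _ = q0 * w * (q0⁻¹ * q) := by rw [hwq]
        _ = q0 * (w * (q0⁻¹ * q)) := by group
        _ = q0 * ((q0⁻¹ * q) * w) := by rw [h3]
        _ = q * w := by group
  -- c commutes with R
  have hcR : ∀ r ∈ tc z, r * x = x * r → r * (a * q0 * a⁻¹ * q0⁻¹) = (a * q0 * a⁻¹ * q0⁻¹) * r := by
    intro r hr hrx
    have hra : r * a = a * r := ha r hr hrx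
    have hra' : r * a⁻¹ = a⁻¹ * r := by
      calc r * a⁻¹ = a⁻¹ * (a * r) * a⁻¹ := by group
        _ = a⁻¹ * (r * a) * a⁻¹ := by rw [hra]
        _ = a⁻¹ * r := by group
    rcases hles.comm r hr q0 hq0 with h | h
    · have hrq : r * q0 = q0 * r := by
        calc r * q0 = (r * q0 * r⁻¹ * q0⁻¹) * q0 * r := by group
          _ = q0 * r := by rw [h]; group
      have hrq' : r * q0⁻¹ = q0⁻¹ * r := by
        calc r * q0⁻¹ = q0⁻¹ * (q0 * r) * q0⁻¹ := by group
          _ = q0⁻¹ * (r * q0) * q0⁻¹ := by rw [hrq]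
          _ = q0⁻¹ * r := by group
      calc r * (a * q0 * a⁻¹ * q0⁻¹) = (r * a) * q0 * a⁻¹ * q0⁻¹ := by group
        _ = a * (r * q0) * a⁻¹ * q0⁻¹ := by rw [hra]; group
        _ = a * q0 * (r * a⁻¹) * q0⁻¹ := by rw [hrq]; group
        _ = a * q0 * a⁻¹ * (r * q0⁻¹) := by rw [hra']; group
        _ = a * q0 * a⁻¹ * q0⁻¹ * r := by rw [hrq']; group
    · have hrq : r * q0 = z * q0 * r := by
        calc r * q0 = (r * q0 * r⁻¹ * q0⁻¹) * q0 * r := by group
          _ = z * q0 * r := by rw [h]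
      have hrq' : r * q0⁻¹ = q0⁻¹ * z * r := by
        have : q0 * r = z * (r * q0) := by
          rw [hrq]
          calc q0 * r = (z * z) * q0 * r := by rw [hzz]; group
            _ = z * (z * q0 * r) := by group
        calc r * q0⁻¹ = q0⁻¹ * (q0 * r) * q0⁻¹ := by group
          _ = q0⁻¹ * (z * (r * q0)) * q0⁻¹ := by rw [this]
          _ = q0⁻¹ * z * r := by group
      have hza' : z * a⁻¹ = a⁻¹ * z := by
        calc z * a⁻¹ = a⁻¹ * (a * z) * a⁻¹ := by group
          _ = a⁻¹ * (z * a) * a⁻¹ := by rw [haz]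
          _ = a⁻¹ * z := by group
      have hzq : q0 * z = z * q0 := hzc q0 hq0
      have hzq' : q0⁻¹ * z = z * q0⁻¹ := hzc _ hq0inv
      calc r * (a * q0 * a⁻¹ * q0⁻¹) = (r * a) * q0 * a⁻¹ * q0⁻¹ := by group
        _ = a * (r * q0) * a⁻¹ * q0⁻¹ := by rw [hra]; group
        _ = a * z * q0 * (r * a⁻¹) * q0⁻¹ := by rw [hrq]; group
        _ = a * z * q0 * a⁻¹ * (r * q0⁻¹) := by rw [hra']; group
        _ = a * z * q0 * a⁻¹ * (q0⁻¹ * z) * r := by rw [hrq']; group
        _ = a * z * q0 * a⁻¹ * (z * q0⁻¹) * r := by rw [hzq']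
        _ = a * z * q0 * (a⁻¹ * z) * q0⁻¹ * r := by group
        _ = a * z * q0 * (z * a⁻¹) * q0⁻¹ * r := by rw [hza']
        _ = a * z * (q0 * z) * a⁻¹ * q0⁻¹ * r := by group
        _ = a * z * (z * q0) * a⁻¹ * q0⁻¹ * r := by rw [hzq]
        _ = a * (z * z) * q0 * a⁻¹ * q0⁻¹ * r := by group
        _ = a * q0 * a⁻¹ * q0⁻¹ * r := by rw [hzz]; group
  have hzq : q0 * z = z * q0 := hzc q0 hq0
  have hq0x : q0 * x = x * z * q0 := by
    calc q0 * x = (q0 * x * q0⁻¹) * q0 := by group
      _ = x * z * q0 := by rw [hq]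
  have hxR : ∀ r ∈ tc z, r * x = x * r → r * x = x * r := fun _ _ h => h
  -- classification of c
  have hclass : (a * q0 * a⁻¹ * q0⁻¹ = 1 ∨ a * q0 * a⁻¹ * q0⁻¹ = z) ∨
      (q0 * (a * q0 * a⁻¹ * q0⁻¹) = z * (a * q0 * a⁻¹ * q0⁻¹) * q0 ∧
        (a * q0 * a⁻¹ * q0⁻¹) * (a * q0 * a⁻¹ * q0⁻¹) = 1) := by
    set c := a * q0 * a⁻¹ * q0⁻¹ with hcdef
    by_cases hcq : q0 * c = c * q0
    · left; exact full c hcR hcq
    · right
      have hB : q0 * c * q0⁻¹ * c⁻¹ = z := by
        rcases hles.comm q0 hq0 c hc with h | h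
        · exfalso; apply hcq
          calc q0 * c = (q0 * c * q0⁻¹ * c⁻¹) * c * q0 := by group
            _ = c * q0 := by rw [h]; group
        · exact h
      have hB' : q0 * c = z * c * q0 := by
        calc q0 * c = (q0 * c * q0⁻¹ * c⁻¹) * c * q0 := by group
          _ = z * c * q0 := by rw [hB]
      refine ⟨hB', ?_⟩
      have hcz : c * z = z * c := hzc c hc
      have hw : c * x = 1 ∨ c * x = z := by
        apply full
        · intro r hr hrx
          have h1 := hcR r hr hrx
          calc r * (c * x) = (r * c) * x := by group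
            _ = c * (r * x) := by rw [h1]; group
            _ = c * x * r := by rw [hrx]; group
        · calc q0 * (c * x) = (q0 * c) * x := by group
            _ = z * c * (q0 * x) := by rw [hB']; group
            _ = z * c * (x * z * q0) := by rw [hq0x]
            _ = z * (c * x) * z * q0 := by group
            _ = (c * x) * (z * z) * q0 := by
                have : z * (c * x) = (c * x) * z := (hzc _ (Subgroup.mul_mem _ hc hx)).symm
                rw [this]; group
            _ = c * x * q0 := by rw [hzz]; group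
      rcases hw with hw | hw
      · have : c = x := by
          calc c = (c * x) * x⁻¹ := by group
            _ = x := by rw [hw, hxinv]; group
        rw [this]; exact hx2
      · have : c = z * x := by
          calc c = (c * x) * x⁻¹ := by group
            _ = z * x := by rw [hw, hxinv]
        rw [this]
        calc z * x * (z * x) = z * (x * z) * x := by group
          _ = z * (z * x) * x := by rw [hzx]
          _ = (z * z) * (x * x) := by group
          _ = 1 := by rw [hzz, hx2]; group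
  rcases hclass with (h1 | h1) | ⟨hB', hcc⟩
  · -- c = 1 : a commutes with q0
    have : q0 * a = a * q0 := by
      calc q0 * a = (a * q0 * a⁻¹ * q0⁻¹)⁻¹ * a * q0 := by group
        _ = a * q0 := by rw [h1]; group
    rcases full a ha this with h | h
    · exact absurd h ha1
    · left; exact h
  · -- c = z
    right
    have haq : a * q0 = z * q0 * a := by
      calc a * q0 = (a * q0 * a⁻¹ * q0⁻¹) * q0 * a := by group
        _ = z * q0 * a := by rw [h1]
    have hqa : q0 * a = z * a * q0 := by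
      calc q0 * a = (z * z) * q0 * a := by rw [hzz]; group
        _ = z * (z * q0 * a) := by group
        _ = z * a * q0 := by rw [← haq]; group
    have hw : a * x = 1 ∨ a * x = z := by
      apply full
      · intro r hr hrx
        have h2 := ha r hr hrx
        calc r * (a * x) = (r * a) * x := by group
          _ = a * (r * x) := by rw [h2]; group
          _ = a * x * r := by rw [hrx]; group
      · calc q0 * (a * x) = (q0 * a) * x := by group
          _ = z * a * (q0 * x) := by rw [hqa]; group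
          _ = z * a * (x * z * q0) := by rw [hq0x]
          _ = (z * a) * (x * z) * q0 := by group
          _ = (a * z) * (z * x) * q0 := by rw [haz, hzx]
          _ = a * (z * z) * x * q0 := by group
          _ = a * x * q0 := by rw [hzz]; group
    rcases hw with hw | hw
    · left
      calc a = (a * x) * x⁻¹ := by group
        _ = x := by rw [hw, hxinv]; group
    · right
      calc a = (a * x) * x⁻¹ := by group
        _ = z * x := by rw [hw, hxinv]
        _ = x * z := hzx
  · -- impossible case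
    exfalso
    set c := a * q0 * a⁻¹ * q0⁻¹ with hcdef
    have hq2 : (q0 * q0) * x = x * (q0 * q0) := by
      calc (q0 * q0) * x = q0 * (q0 * x) := by group
        _ = q0 * (x * z * q0) := by rw [hq0x]
        _ = (q0 * x) * z * q0 := by group
        _ = x * z * (q0 * z) * q0 := by rw [hq0x]; group
        _ = x * z * (z * q0) * q0 := by rw [hzq]
        _ = x * (z * z) * (q0 * q0) := by group
        _ = x * (q0 * q0) := by rw [hzz]; group
    have h2 := ha (q0 * q0) (Subgroup.mul_mem _ hq0 hq0) hq2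
    have h3 : a * (q0 * q0) * a⁻¹ = q0 * q0 := by
      rw [← h2]; group
    have hcz : c * z = z * c := hzc c hc
    have h4 : a * (q0 * q0) * a⁻¹ = z * (q0 * q0) := by
      calc a * (q0 * q0) * a⁻¹ = (a * q0 * a⁻¹ * q0⁻¹) * q0 * ((a * q0 * a⁻¹ * q0⁻¹) * q0) := by group
        _ = c * (q0 * c) * q0 := by rw [← hcdef]; group
        _ = c * (z * c * q0) * q0 := by rw [hB']
        _ = (c * z) * c * q0 * q0 := by group
        _ = (z * c) * c * q0 * q0 := by rw [hcz]
        _ = z * (c * c) * (q0 * q0) := by group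
        _ = z * (q0 * q0) := by rw [hcc]; group
    apply hz1
    calc z = (z * (q0 * q0)) * (q0 * q0)⁻¹ := by group
      _ = 1 := by rw [← h4, h3]; group


/-- Fixed points of a 2-subgroup acting by conjugation on an invariant set, modulo 2. -/
theorem card_fixed_conj [Finite G] (R : Subgroup G) (hR : IsPGroup 2 R) (S : Set G)
    (hS : ∀ r ∈ R, ∀ a ∈ S, r * a * r⁻¹ ∈ S) :
    S.ncard ≡ {a | a ∈ S ∧ ∀ r ∈ R, r * a * r⁻¹ = a}.ncard [MOD 2] := by
  have : Fact (Nat.Prime 2) := ⟨Nat.prime_two⟩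
  let act : MulAction ↥R ↥S :=
    { smul := fun r a => ⟨r.1 * a.1 * r.1⁻¹, hS r.1 r.2 a.1 a.2⟩
      one_smul := by
        rintro ⟨a, ha⟩
        apply Subtype.ext
        show (1 : G) * a * (1 : G)⁻¹ = a
        group
      mul_smul := by
        rintro ⟨r, hr⟩ ⟨s, hs⟩ ⟨a, ha⟩
        apply Subtype.ext
        show (r * s) * a * (r * s)⁻¹ = r * (s * a * s⁻¹) * r⁻¹
        group }
  have h := hR.card_modEq_card_fixedPoints ↥S
  have e1 : Nat.card ↥S = S.ncard := rfl
  have e2 : Nat.card ↥(MulAction.fixedPoints ↥R ↥S) = {a | a ∈ S ∧ ∀ r ∈ R, r * a * r⁻¹ = a}.ncard := by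
    rw [← Nat.card_coe_set_eq]
    apply Nat.card_congr
    refine ⟨fun a => ⟨a.1.1, a.1.2, fun r hr => ?_⟩, fun a => ⟨⟨a.1, a.2.1⟩, fun r => ?_⟩, ?_, ?_⟩
    · have := a.2 ⟨r, hr⟩
      exact congrArg Subtype.val this
    · apply Subtype.ext
      exact a.2.2 r.1 r.2
    · intro a; rfl
    · intro a; rfl
  rw [e1, e2] at h
  exact h

/-- In-degree equals out-degree for the relation `a ∈ tc b` on a conjugacy class. -/
theorem out_card_eq_in_card [Finite G] {z x : G} (hx : IsCj z x) :
    {a | IsCj z a ∧ a ∈ tc x}.ncard = {a | IsCj z a ∧ x ∈ tc a}.ncard := by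
  classical
  have := Fintype.ofFinite G
  set Ω : Finset G := Finset.univ.filter (IsCj z) with hΩ
  have memΩ : ∀ a, a ∈ Ω ↔ IsCj z a := by intro a; simp [hΩ]
  let out : G → ℕ := fun b => (Ω.filter (fun a => a ∈ tc b)).card
  let inn : G → ℕ := fun b => (Ω.filter (fun a => b ∈ tc a)).card
  have hout : ∀ (h b : G), out (h * b * h⁻¹) = out b := by
    intro h b
    symm
    apply Finset.card_equiv (MulAut.conj h).toEquiv
    intro a
    simp only [Finset.mem_filter, memΩ, MulEquiv.toEquiv_eq_coe, EquivLike.coe_coe, MulAut.conj_apply]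
    rw [isCj_conj_iff, mem_tc_conj_iff]
  have hinn : ∀ (h b : G), inn (h * b * h⁻¹) = inn b := by
    intro h b
    symm
    apply Finset.card_equiv (MulAut.conj h).toEquiv
    intro a
    simp only [Finset.mem_filter, memΩ, MulEquiv.toEquiv_eq_coe, EquivLike.coe_coe, MulAut.conj_apply]
    rw [isCj_conj_iff, mem_tc_conj_iff]
  have dc : ∑ a ∈ Ω, inn a = ∑ b ∈ Ω, out b :=
    Finset.sum_card_bipartiteAbove_eq_sum_card_bipartiteBelow (fun a b => a ∈ tc b)
  have h1 : ∑ a ∈ Ω, inn a = Ω.card * inn z := by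
    rw [Finset.sum_congr rfl (g := fun _ => inn z), Finset.sum_const, smul_eq_mul]
    intro a ha
    obtain ⟨h, rfl⟩ := (memΩ a).1 ha
    exact hinn h z
  have h2 : ∑ b ∈ Ω, out b = Ω.card * out z := by
    rw [Finset.sum_congr rfl (g := fun _ => out z), Finset.sum_const, smul_eq_mul]
    intro a ha
    obtain ⟨h, rfl⟩ := (memΩ a).1 ha
    exact hout h z
  have hpos : 0 < Ω.card := Finset.card_pos.2 ⟨z, (memΩ z).2 (isCj_self z)⟩
  have h3 : inn z = out z := by
    rw [h1, h2] at dc
    exact Nat.eq_of_mul_eq_mul_left hpos dc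
  obtain ⟨h, rfl⟩ := hx
  have e1 : {a | IsCj z a ∧ a ∈ tc (h * z * h⁻¹)} = ↑(Ω.filter (fun a => a ∈ tc (h * z * h⁻¹))) := by
    ext a; simp [memΩ]
  have e2 : {a | IsCj z a ∧ h * z * h⁻¹ ∈ tc a} = ↑(Ω.filter (fun a => h * z * h⁻¹ ∈ tc a)) := by
    ext a; simp [memΩ]
  rw [e1, e2, Set.ncard_coe_finset, Set.ncard_coe_finset]
  show out (h * z * h⁻¹) = inn (h * z * h⁻¹)
  rw [hout, hinn, h3]


/-- Orthogonality of singular involutions is symmetric. -/
theorem sym_orth [Finite G] {z : G} (hles : LES (tc z) z) (g : G) (hx : g * z * g⁻¹ ∈ tc z) :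
    z ∈ tc (g * z * g⁻¹) := by
  have hcj : IsCj z (g * z * g⁻¹) := ⟨g, rfl⟩
  have hlesx : LES (tc (g * z * g⁻¹)) (g * z * g⁻¹) := hles.conj g
  set x := g * z * g⁻¹ with hxdef
  by_cases hxz : x = z
  · rw [hxz]; exact hles.mem
  have hx1 : x ≠ 1 := hlesx.ne_one
  have hx2 : x * x = 1 := hlesx.sq
  have hxinv : x⁻¹ = x := inv_eq_of_mul_eq_one_left hx2
  have hzz : z * z = 1 := hles.sq
  have hzx : z * x = x * z := (hles.central x hx).symm
  by_contra hz
  have hxzn : x * z ∉ tc x := by
    intro h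
    apply hz
    have : z = x⁻¹ * (x * z) := by group
    rw [this]
    exact Subgroup.mul_mem _ (Subgroup.inv_mem _ hlesx.mem) h
  -- the 2-group R
  set R : Subgroup G := tc z ⊓ Subgroup.centralizer ({x} : Set G) with hR
  have hRp : IsPGroup 2 R := (tc_isPGroup z).to_le inf_le_left
  have memR : ∀ r, r ∈ R ↔ r ∈ tc z ∧ r * x = x * r := by
    intro r
    rw [hR, Subgroup.mem_inf, Subgroup.mem_centralizer_iff]
    constructor
    · rintro ⟨h1, h2⟩
      exact ⟨h1, (h2 x (Set.mem_singleton x)).symm⟩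
    · rintro ⟨h1, h2⟩
      refine ⟨h1, fun w hw => ?_⟩
      rw [Set.mem_singleton_iff] at hw
      subst hw
      exact h2.symm
  have hfix_x : ∀ r ∈ R, r * x * r⁻¹ = x := by
    intro r hr
    rw [((memR r).1 hr).2]; group
  have hfix_z : ∀ r ∈ R, r * z * r⁻¹ = z := by
    intro r hr
    rw [hles.central r ((memR r).1 hr).1]; group
  -- classification of fixed conjugates
  have hclass : ∀ a, IsCj z a → (∀ r ∈ R, r * a * r⁻¹ = a) → a = z ∨ a = x ∨ a = x * z := by
    intro a hca hfa
    have ha1 : a ≠ 1 := by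
      obtain ⟨k, rfl⟩ := hca
      exact (hles.conj k).ne_one
    apply fixed_class hles hx hx1 hxz hx2 ha1
    intro r hr hrx
    have := hfa r ((memR r).2 ⟨hr, hrx⟩)
    calc r * a = (r * a * r⁻¹) * r := by group
      _ = a * r := by rw [this]
  -- the two invariant sets
  have hSout : ∀ r ∈ R, ∀ a ∈ {a | IsCj z a ∧ a ∈ tc x}, r * a * r⁻¹ ∈ {a | IsCj z a ∧ a ∈ tc x} := by
    rintro r hr a ⟨h1, h2⟩
    refine ⟨isCj_conj r h1, ?_⟩
    have := mem_tc_conj r h2
    rwa [hfix_x r hr] at this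
  have hSin : ∀ r ∈ R, ∀ a ∈ {a | IsCj z a ∧ x ∈ tc a}, r * a * r⁻¹ ∈ {a | IsCj z a ∧ x ∈ tc a} := by
    rintro r hr a ⟨h1, h2⟩
    refine ⟨isCj_conj r h1, ?_⟩
    have := mem_tc_conj r h2
    rwa [hfix_x r hr] at this
  have c1 := card_fixed_conj R hRp _ hSout
  have c2 := card_fixed_conj R hRp _ hSin
  have hxx : x ∈ tc x := hlesx.mem
  have f1 : {a | a ∈ {a | IsCj z a ∧ a ∈ tc x} ∧ ∀ r ∈ R, r * a * r⁻¹ = a} = {x} := by
    ext a
    simp only [Set.mem_ofPred_eq, Set.mem_singleton_iff]
    constructor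
    · rintro ⟨⟨h1, h2⟩, h3⟩
      rcases hclass a h1 h3 with h | h | h
      · subst h; exact absurd h2 hz
      · exact h
      · subst h; exact absurd h2 hxzn
    · rintro rfl
      exact ⟨⟨hcj, hxx⟩, hfix_x⟩
  obtain ⟨q0, hq0, hq⟩ := exists_q0 hles hx hx1 hxz
  have hq' : q0⁻¹ * x * q0 = x * z := by
    have h1 : q0 * z * q0⁻¹ = z := by
      rw [hles.central q0 hq0]; group
    have : q0 * (x * z) * q0⁻¹ = x := by
      calc q0 * (x * z) * q0⁻¹ = (q0 * x * q0⁻¹) * (q0 * z * q0⁻¹) := by group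
        _ = x * z * z := by rw [hq, h1]
        _ = x * (z * z) := by group
        _ = x := by rw [hzz]; group
    calc q0⁻¹ * x * q0 = q0⁻¹ * (q0 * (x * z) * q0⁻¹) * q0 := by rw [this]
      _ = x * z := by group
  have f2 : {a | a ∈ {a | IsCj z a ∧ x ∈ tc a} ∧ ∀ r ∈ R, r * a * r⁻¹ = a} = {x, z} := by
    ext a
    simp only [Set.mem_ofPred_eq, Set.mem_insert_iff, Set.mem_singleton_iff]
    constructor
    · rintro ⟨⟨h1, h2⟩, h3⟩
      rcases hclass a h1 h3 with h | h | h
      · right; exact h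
      · left; exact h
      · exfalso
        subst h
        rw [← hq] at h2
        have := (mem_tc_conj_iff (x := x) (y := q0⁻¹ * x * q0) q0).1 (by
          have e : q0 * (q0⁻¹ * x * q0) * q0⁻¹ = x := by group
          rw [e]; exact h2)
        rw [hq'] at this
        exact hxzn this
    · rintro (rfl | rfl)
      · exact ⟨⟨hcj, hxx⟩, hfix_x⟩
      · exact ⟨⟨isCj_self _, hx⟩, hfix_z⟩
  rw [f1, Set.ncard_singleton] at c1
  rw [f2, Set.ncard_pair hxz] at c2
  have e := out_card_eq_in_card hcj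
  rw [e] at c1
  have := c1.symm.trans c2
  exact absurd this (by decide)

end Cfsg.Agent.Lib.Helper93_LESSym
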