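/-
Helper library (helper98): helper93's parity proof of the symmetry of orthogonality
(`Cfsg.Agent.Lib.Helper93_LESSym.sym_orth`), generalized from `tc z = O_2(C(z))` to an arbitrary
subgroup `Q` with `LES Q z` that is normalized by the centralizer of `z`.
-/
import Mathlib
import Cfsg.Agent.Lib.Helper93_LES
import Cfsg.Agent.Lib.Helper93_LESSym

set_option autoImplicit false

namespace Cfsg.Agent.Lib.Helper98_LESGen

open Cfsg
open Cfsg.Agent.Lib.Helper93_LES Cfsg.Agent.Lib.Helper93_LESSym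
open scoped commutatorElement

variable {G : Type*} [Group G] (Q : Subgroup G)

/-- A noncentral element `x` of `Q` is moved by some `q0 ∈ Q` to `x * z`. -/
theorem exists_q0 {z x : G} (hles : LES Q z) (hx : x ∈ Q) (hx1 : x ≠ 1) (hxz : x ≠ z) :
    ∃ q0 ∈ Q, q0 * x * q0⁻¹ = x * z := by
  have hex : ∃ c ∈ Q, c * x ≠ x * c := by
    by_contra hcon
    push Not at hcon
    have : ∀ b ∈ Q, x * b = b * x := fun b hb => (hcon b hb).symm
    rcases hles.selfcent x this with h | h
    · exact hx1 h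
    · exact hxz h
  obtain ⟨c, hc, hcx⟩ := hex
  refine ⟨c, hc, ?_⟩
  have h1 : c * x * c⁻¹ * x⁻¹ = z := by
    rcases hles.comm c hc x hx with h | h
    · exfalso
      apply hcx
      calc c * x = (c * x * c⁻¹ * x⁻¹) * x * c := by group
        _ = x * c := by rw [h]; group
    · exact h
  calc c * x * c⁻¹ = (c * x * c⁻¹ * x⁻¹) * x := by group
    _ = z * x := by rw [h1]
    _ = x * z := (hles.central x hx).symm


/-- Elements centralizing `R = C_{Q}(x)` and nontrivial are `z`, `x` or `x * z`. -/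
theorem fixed_class {z x a : G} (hles : LES Q z)
    (hnorm : ∀ c : G, c * z = z * c → ∀ q ∈ Q, c * q * c⁻¹ ∈ Q) (hx : x ∈ Q) (hx1 : x ≠ 1) (hxz : x ≠ z)
    (hx2 : x * x = 1) (ha1 : a ≠ 1)
    (ha : ∀ r ∈ Q, r * x = x * r → r * a = a * r) : a = z ∨ a = x ∨ a = x * z := by
  obtain ⟨q0, hq0, hq⟩ := Helper98_LESGen.exists_q0 Q hles hx hx1 hxz
  have hzz : z * z = 1 := hles.sq
  have hzc : ∀ b ∈ Q, b * z = z * b := hles.central
  have hzx : z * x = x * z := (hzc x hx).symm
  have hz1 : z ≠ 1 := hles.ne_one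
  have hzinv : z⁻¹ = z := inv_eq_of_mul_eq_one_left hzz
  have hxinv : x⁻¹ = x := inv_eq_of_mul_eq_one_left hx2
  have haz : z * a = a * z := ha z hles.mem hzx
  have hacen : a ∈ Subgroup.centralizer ({z} : Set G) := by
    rw [Subgroup.mem_centralizer_iff]
    intro w hw
    rw [Set.mem_singleton_iff] at hw
    subst hw
    exact haz
  have hq0' : a * q0 * a⁻¹ ∈ Q := hnorm a haz.symm q0 hq0
  have hq0inv : q0⁻¹ ∈ Q := Subgroup.inv_mem _ hq0
  -- c = [a, q0]
  have hc : a * q0 * a⁻¹ * q0⁻¹ ∈ Q := Subgroup.mul_mem _ hq0' hq0inv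
  -- general principle: commuting with R and q0 means commuting with all of Q
  have hq0x' : q0⁻¹ * (x * z) * q0 = x := by
    rw [← hq]; group
  have full : ∀ w : G, (∀ r ∈ Q, r * x = x * r → r * w = w * r) → q0 * w = w * q0 →
      w = 1 ∨ w = z := by
    intro w hwR hwq
    apply hles.selfcent
    intro q hqm
    rcases hles.comm q hqm x hx with h | h
    · have : q * x = x * q := by
        calc q * x = (q * x * q⁻¹ * x⁻¹) * x * q := by group
          _ = x * q := by rw [h]; group
      exact (hwR q hqm this).symm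
    · have h1 : q * x * q⁻¹ = x * z := by
        calc q * x * q⁻¹ = (q * x * q⁻¹ * x⁻¹) * x := by group
          _ = z * x := by rw [h]
          _ = x * z := hzx
      have h2 : (q0⁻¹ * q) * x = x * (q0⁻¹ * q) := by
        calc (q0⁻¹ * q) * x = q0⁻¹ * (q * x * q⁻¹) * q0 * (q0⁻¹ * q) := by group
          _ = (q0⁻¹ * (x * z) * q0) * (q0⁻¹ * q) := by rw [h1]
          _ = x * (q0⁻¹ * q) := by rw [hq0x']
      have h3 := hwR (q0⁻¹ * q) (Subgroup.mul_mem _ hq0inv hqm) h2
      calc w * q = (w * q0) * (q0⁻¹ * q) := by group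
        _ = q0 * w * (q0⁻¹ * q) := by rw [hwq]
        _ = q0 * (w * (q0⁻¹ * q)) := by group
        _ = q0 * ((q0⁻¹ * q) * w) := by rw [h3]
        _ = q * w := by group
  -- c commutes with R
  have hcR : ∀ r ∈ Q, r * x = x * r → r * (a * q0 * a⁻¹ * q0⁻¹) = (a * q0 * a⁻¹ * q0⁻¹) * r := by
    intro r hr hrx
    have hra : r * a = a * r := ha r hr hrx
    have hra' : r * a⁻¹ = a⁻¹ * r := by
      calc r * a⁻¹ = a⁻¹ * (a * r) * a⁻¹ := by group
        _ = a⁻¹ * (r * a) * a⁻¹ := by rw [hra]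
        _ = a⁻¹ * r := by group
    rcases hles.comm r hr q0 hq0 with h | h
    · have hrq : r * q0 = q0 * r := by
        calc r * q0 = (r * q0 * r⁻¹ * q0⁻¹) * q0 * r := by group
          _ = q0 * r := by rw [h]; group
      have hrq' : r * q0⁻¹ = q0⁻¹ * r := by
        calc r * q0⁻¹ = q0⁻¹ * (q0 * r) * q0⁻¹ := by group
          _ = q0⁻¹ * (r * q0) * q0⁻¹ := by rw [hrq]
          _ = q0⁻¹ * r := by group
      calc r * (a * q0 * a⁻¹ * q0⁻¹) = (r * a) * q0 * a⁻¹ * q0⁻¹ := by group
        _ = a * (r * q0) * a⁻¹ * q0⁻¹ := by rw [hra]; group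
        _ = a * q0 * (r * a⁻¹) * q0⁻¹ := by rw [hrq]; group
        _ = a * q0 * a⁻¹ * (r * q0⁻¹) := by rw [hra']; group
        _ = a * q0 * a⁻¹ * q0⁻¹ * r := by rw [hrq']; group
    · have hrq : r * q0 = z * q0 * r := by
        calc r * q0 = (r * q0 * r⁻¹ * q0⁻¹) * q0 * r := by group
          _ = z * q0 * r := by rw [h]
      have hrq' : r * q0⁻¹ = q0⁻¹ * z * r := by
        have : q0 * r = z * (r * q0) := by
          rw [hrq]
          calc q0 * r = (z * z) * q0 * r := by rw [hzz]; group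
            _ = z * (z * q0 * r) := by group
        calc r * q0⁻¹ = q0⁻¹ * (q0 * r) * q0⁻¹ := by group
          _ = q0⁻¹ * (z * (r * q0)) * q0⁻¹ := by rw [this]
          _ = q0⁻¹ * z * r := by group
      have hza' : z * a⁻¹ = a⁻¹ * z := by
        calc z * a⁻¹ = a⁻¹ * (a * z) * a⁻¹ := by group
          _ = a⁻¹ * (z * a) * a⁻¹ := by rw [haz]
          _ = a⁻¹ * z := by group
      have hzq : q0 * z = z * q0 := hzc q0 hq0
      have hzq' : q0⁻¹ * z = z * q0⁻¹ := hzc _ hq0inv
      calc r * (a * q0 * a⁻¹ * q0⁻¹) = (r * a) * q0 * a⁻¹ * q0⁻¹ := by group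
        _ = a * (r * q0) * a⁻¹ * q0⁻¹ := by rw [hra]; group
        _ = a * z * q0 * (r * a⁻¹) * q0⁻¹ := by rw [hrq]; group
        _ = a * z * q0 * a⁻¹ * (r * q0⁻¹) := by rw [hra']; group
        _ = a * z * q0 * a⁻¹ * (q0⁻¹ * z) * r := by rw [hrq']; group
        _ = a * z * q0 * a⁻¹ * (z * q0⁻¹) * r := by rw [hzq']
        _ = a * z * q0 * (a⁻¹ * z) * q0⁻¹ * r := by group
        _ = a * z * q0 * (z * a⁻¹) * q0⁻¹ * r := by rw [hza']
        _ = a * z * (q0 * z) * a⁻¹ * q0⁻¹ * r := by group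
        _ = a * z * (z * q0) * a⁻¹ * q0⁻¹ * r := by rw [hzq]
        _ = a * (z * z) * q0 * a⁻¹ * q0⁻¹ * r := by group
        _ = a * q0 * a⁻¹ * q0⁻¹ * r := by rw [hzz]; group
  have hzq : q0 * z = z * q0 := hzc q0 hq0
  have hq0x : q0 * x = x * z * q0 := by
    calc q0 * x = (q0 * x * q0⁻¹) * q0 := by group
      _ = x * z * q0 := by rw [hq]
  have hxR : ∀ r ∈ Q, r * x = x * r → r * x = x * r := fun _ _ h => h
  -- classification of c
  have hclass : (a * q0 * a⁻¹ * q0⁻¹ = 1 ∨ a * q0 * a⁻¹ * q0⁻¹ = z) ∨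
      (q0 * (a * q0 * a⁻¹ * q0⁻¹) = z * (a * q0 * a⁻¹ * q0⁻¹) * q0 ∧
        (a * q0 * a⁻¹ * q0⁻¹) * (a * q0 * a⁻¹ * q0⁻¹) = 1) := by
    set c := a * q0 * a⁻¹ * q0⁻¹ with hcdef
    by_cases hcq : q0 * c = c * q0
    · left; exact full c hcR hcq
    · right
      have hB : q0 * c * q0⁻¹ * c⁻¹ = z := by
        rcases hles.comm q0 hq0 c hc with h | h
        · exfalso; apply hcq
          calc q0 * c = (q0 * c * q0⁻¹ * c⁻¹) * c * q0 := by group
            _ = c * q0 := by rw [h]; group
        · exact h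
      have hB' : q0 * c = z * c * q0 := by
        calc q0 * c = (q0 * c * q0⁻¹ * c⁻¹) * c * q0 := by group
          _ = z * c * q0 := by rw [hB]
      refine ⟨hB', ?_⟩
      have hcz : c * z = z * c := hzc c hc
      have hw : c * x = 1 ∨ c * x = z := by
        apply full
        · intro r hr hrx
          have h1 := hcR r hr hrx
          calc r * (c * x) = (r * c) * x := by group
            _ = c * (r * x) := by rw [h1]; group
            _ = c * x * r := by rw [hrx]; group
        · calc q0 * (c * x) = (q0 * c) * x := by group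
            _ = z * c * (q0 * x) := by rw [hB']; group
            _ = z * c * (x * z * q0) := by rw [hq0x]
            _ = z * (c * x) * z * q0 := by group
            _ = (c * x) * (z * z) * q0 := by
                have : z * (c * x) = (c * x) * z := (hzc _ (Subgroup.mul_mem _ hc hx)).symm
                rw [this]; group
            _ = c * x * q0 := by rw [hzz]; group
      rcases hw with hw | hw
      · have : c = x := by
          calc c = (c * x) * x⁻¹ := by group
            _ = x := by rw [hw, hxinv]; group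
        rw [this]; exact hx2
      · have : c = z * x := by
          calc c = (c * x) * x⁻¹ := by group
            _ = z * x := by rw [hw, hxinv]
        rw [this]
        calc z * x * (z * x) = z * (x * z) * x := by group
          _ = z * (z * x) * x := by rw [hzx]
          _ = (z * z) * (x * x) := by group
          _ = 1 := by rw [hzz, hx2]; group
  rcases hclass with (h1 | h1) | ⟨hB', hcc⟩
  · -- c = 1 : a commutes with q0
    have : q0 * a = a * q0 := by
      calc q0 * a = (a * q0 * a⁻¹ * q0⁻¹)⁻¹ * a * q0 := by group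
        _ = a * q0 := by rw [h1]; group
    rcases full a ha this with h | h
    · exact absurd h ha1
    · left; exact h
  · -- c = z
    right
    have haq : a * q0 = z * q0 * a := by
      calc a * q0 = (a * q0 * a⁻¹ * q0⁻¹) * q0 * a := by group
        _ = z * q0 * a := by rw [h1]
    have hqa : q0 * a = z * a * q0 := by
      calc q0 * a = (z * z) * q0 * a := by rw [hzz]; group
        _ = z * (z * q0 * a) := by group
        _ = z * a * q0 := by rw [← haq]; group
    have hw : a * x = 1 ∨ a * x = z := by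
      apply full
      · intro r hr hrx
        have h2 := ha r hr hrx
        calc r * (a * x) = (r * a) * x := by group
          _ = a * (r * x) := by rw [h2]; group
          _ = a * x * r := by rw [hrx]; group
      · calc q0 * (a * x) = (q0 * a) * x := by group
          _ = z * a * (q0 * x) := by rw [hqa]; group
          _ = z * a * (x * z * q0) := by rw [hq0x]
          _ = (z * a) * (x * z) * q0 := by group
          _ = (a * z) * (z * x) * q0 := by rw [haz, hzx]
          _ = a * (z * z) * x * q0 := by group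
          _ = a * x * q0 := by rw [hzz]; group
    rcases hw with hw | hw
    · left
      calc a = (a * x) * x⁻¹ := by group
        _ = x := by rw [hw, hxinv]; group
    · right
      calc a = (a * x) * x⁻¹ := by group
        _ = z * x := by rw [hw, hxinv]
        _ = x * z := hzx
  · -- impossible case
    exfalso
    set c := a * q0 * a⁻¹ * q0⁻¹ with hcdef
    have hq2 : (q0 * q0) * x = x * (q0 * q0) := by
      calc (q0 * q0) * x = q0 * (q0 * x) := by group
        _ = q0 * (x * z * q0) := by rw [hq0x]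
        _ = (q0 * x) * z * q0 := by group
        _ = x * z * (q0 * z) * q0 := by rw [hq0x]; group
        _ = x * z * (z * q0) * q0 := by rw [hzq]
        _ = x * (z * z) * (q0 * q0) := by group
        _ = x * (q0 * q0) := by rw [hzz]; group
    have h2 := ha (q0 * q0) (Subgroup.mul_mem _ hq0 hq0) hq2
    have h3 : a * (q0 * q0) * a⁻¹ = q0 * q0 := by
      rw [← h2]; group
    have hcz : c * z = z * c := hzc c hc
    have h4 : a * (q0 * q0) * a⁻¹ = z * (q0 * q0) := by
      calc a * (q0 * q0) * a⁻¹ = (a * q0 * a⁻¹ * q0⁻¹) * q0 * ((a * q0 * a⁻¹ * q0⁻¹) * q0) := by group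
        _ = c * (q0 * c) * q0 := by rw [← hcdef]; group
        _ = c * (z * c * q0) * q0 := by rw [hB']
        _ = (c * z) * c * q0 * q0 := by group
        _ = (z * c) * c * q0 * q0 := by rw [hcz]
        _ = z * (c * c) * (q0 * q0) := by group
        _ = z * (q0 * q0) := by rw [hcc]; group
    apply hz1
    calc z = (z * (q0 * q0)) * (q0 * q0)⁻¹ := by group
      _ = 1 := by rw [← h4, h3]; group



section orth

variable (z : G)

/-- `a` lies in the conjugate of `Q` attached to the conjugate `b` of `z` -/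
def Orth (a b : G) : Prop := ∃ h : G, h * z * h⁻¹ = b ∧ h⁻¹ * a * h ∈ Q

variable {Q z}

theorem orth_iff (hnorm : ∀ c : G, c * z = z * c → ∀ q ∈ Q, c * q * c⁻¹ ∈ Q) {a b : G} (h : G)
    (hb : h * z * h⁻¹ = b) : Orth Q z a b ↔ h⁻¹ * a * h ∈ Q := by
  constructor
  · rintro ⟨k, hk, hka⟩
    have hc : (h⁻¹ * k) * z = z * (h⁻¹ * k) := by
      have e : (h⁻¹ * k) * z = h⁻¹ * (k * z * k⁻¹) * k := by group
      rw [e, hk, ← hb]; group
    have := hnorm (h⁻¹ * k) hc _ hka
    have e : h⁻¹ * k * (k⁻¹ * a * k) * (h⁻¹ * k)⁻¹ = h⁻¹ * a * h := by group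
    rwa [e] at this
  · intro ha
    exact ⟨h, hb, ha⟩

theorem orth_conj {a b : G} (k : G) : Orth Q z (k * a * k⁻¹) (k * b * k⁻¹) ↔ Orth Q z a b := by
  have key : ∀ (k a b : G), Orth Q z a b → Orth Q z (k * a * k⁻¹) (k * b * k⁻¹) := by
    rintro k a b ⟨h, hb, ha⟩
    refine ⟨k * h, ?_, ?_⟩
    · rw [← hb]; group
    · have e : (k * h)⁻¹ * (k * a * k⁻¹) * (k * h) = h⁻¹ * a * h := by group
      rw [e]; exact ha
  constructor
  · intro h
    have := key k⁻¹ _ _ h
    have e1 : k⁻¹ * (k * a * k⁻¹) * k⁻¹⁻¹ = a := by group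
    have e2 : k⁻¹ * (k * b * k⁻¹) * k⁻¹⁻¹ = b := by group
    rwa [e1, e2] at this
  · exact key k a b

theorem orth_z (hnorm : ∀ c : G, c * z = z * c → ∀ q ∈ Q, c * q * c⁻¹ ∈ Q) {a : G} :
    Orth Q z a z ↔ a ∈ Q := by
  rw [orth_iff hnorm 1 (by group)]
  have e : (1 : G)⁻¹ * a * 1 = a := by group
  rw [e]

/-- In-degree equals out-degree for the relation `Orth` on the conjugacy class of `z`. -/
theorem out_card_eq_in_card [Finite G] {x : G} (hx : IsCj z x) :
    {a | IsCj z a ∧ Orth Q z a x}.ncard = {a | IsCj z a ∧ Orth Q z x a}.ncard := by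
  classical
  have := Fintype.ofFinite G
  set Ω : Finset G := Finset.univ.filter (IsCj z) with hΩ
  have memΩ : ∀ a, a ∈ Ω ↔ IsCj z a := by intro a; simp [hΩ]
  let out : G → ℕ := fun b => (Ω.filter (fun a => Orth Q z a b)).card
  let inn : G → ℕ := fun b => (Ω.filter (fun a => Orth Q z b a)).card
  have hout : ∀ (h b : G), out (h * b * h⁻¹) = out b := by
    intro h b
    symm
    apply Finset.card_equiv (MulAut.conj h).toEquiv
    intro a
    simp only [Finset.mem_filter, memΩ, MulEquiv.toEquiv_eq_coe, EquivLike.coe_coe, MulAut.conj_apply]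
    rw [isCj_conj_iff, orth_conj]
  have hinn : ∀ (h b : G), inn (h * b * h⁻¹) = inn b := by
    intro h b
    symm
    apply Finset.card_equiv (MulAut.conj h).toEquiv
    intro a
    simp only [Finset.mem_filter, memΩ, MulEquiv.toEquiv_eq_coe, EquivLike.coe_coe, MulAut.conj_apply]
    rw [isCj_conj_iff, orth_conj]
  have dc : ∑ a ∈ Ω, inn a = ∑ b ∈ Ω, out b :=
    Finset.sum_card_bipartiteAbove_eq_sum_card_bipartiteBelow (fun a b => Orth Q z a b)
  have h1 : ∑ a ∈ Ω, inn a = Ω.card * inn z := by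
    rw [Finset.sum_congr rfl (g := fun _ => inn z), Finset.sum_const, smul_eq_mul]
    intro a ha
    obtain ⟨h, rfl⟩ := (memΩ a).1 ha
    exact hinn h z
  have h2 : ∑ b ∈ Ω, out b = Ω.card * out z := by
    rw [Finset.sum_congr rfl (g := fun _ => out z), Finset.sum_const, smul_eq_mul]
    intro a ha
    obtain ⟨h, rfl⟩ := (memΩ a).1 ha
    exact hout h z
  have hpos : 0 < Ω.card := Finset.card_pos.2 ⟨z, (memΩ z).2 (isCj_self z)⟩
  have h3 : inn z = out z := by
    rw [h1, h2] at dc
    exact Nat.eq_of_mul_eq_mul_left hpos dc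
  obtain ⟨h, rfl⟩ := hx
  have e1 : {a | IsCj z a ∧ Orth Q z a (h * z * h⁻¹)} =
      ↑(Ω.filter (fun a => Orth Q z a (h * z * h⁻¹))) := by
    ext a; simp [memΩ]
  have e2 : {a | IsCj z a ∧ Orth Q z (h * z * h⁻¹) a} =
      ↑(Ω.filter (fun a => Orth Q z (h * z * h⁻¹) a)) := by
    ext a; simp [memΩ]
  rw [e1, e2, Set.ncard_coe_finset, Set.ncard_coe_finset]
  show out (h * z * h⁻¹) = inn (h * z * h⁻¹)
  rw [hout, hinn, h3]

/-- Symmetry: if the conjugate `g z g⁻¹` of `z` lies in `Q`, then `z` lies in `g Q g⁻¹`. -/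
theorem sym [Finite G] (hles : LES Q z)
    (hnorm : ∀ c : G, c * z = z * c → ∀ q ∈ Q, c * q * c⁻¹ ∈ Q) (hQ2 : IsPGroup 2 Q) (g : G)
    (hx : g * z * g⁻¹ ∈ Q) : g⁻¹ * z * g ∈ Q := by
  have hcj : IsCj z (g * z * g⁻¹) := ⟨g, rfl⟩
  rw [← orth_iff hnorm g rfl]
  set x := g * z * g⁻¹ with hxdef
  by_cases hxz : x = z
  · rw [hxz, orth_z hnorm]; exact hles.mem
  have hzz : z * z = 1 := hles.sq
  have hx1 : x ≠ 1 := by
    intro h
    apply hles.ne_one
    have : z = g⁻¹ * x * g := by rw [hxdef]; group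
    rw [this, h]; group
  have hx2 : x * x = 1 := by
    rw [hxdef]
    calc g * z * g⁻¹ * (g * z * g⁻¹) = g * (z * z) * g⁻¹ := by group
      _ = 1 := by rw [hzz]; group
  have hxinv : x⁻¹ = x := inv_eq_of_mul_eq_one_left hx2
  have hzx : z * x = x * z := (hles.central x hx).symm
  have hxx : Orth Q z x x := by
    rw [orth_iff hnorm g rfl]
    have : g⁻¹ * x * g = z := by rw [hxdef]; group
    rw [this]; exact hles.mem
  by_contra hz
  have hxzn : ¬ Orth Q z (x * z) x := by
    intro h
    apply hz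
    rw [orth_iff hnorm g rfl] at h ⊢
    have h1 : g⁻¹ * x * g = z := by rw [hxdef]; group
    have e : g⁻¹ * z * g = (g⁻¹ * x * g)⁻¹ * (g⁻¹ * (x * z) * g) := by group
    rw [e, h1]
    exact Subgroup.mul_mem _ (Subgroup.inv_mem _ hles.mem) h
  -- the 2-group R
  set R : Subgroup G := Q ⊓ Subgroup.centralizer ({x} : Set G) with hR
  have hRp : IsPGroup 2 R := hQ2.to_le inf_le_left
  have memR : ∀ r, r ∈ R ↔ r ∈ Q ∧ r * x = x * r := by
    intro r
    rw [hR, Subgroup.mem_inf, Subgroup.mem_centralizer_iff]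
    constructor
    · rintro ⟨h1, h2⟩
      exact ⟨h1, (h2 x (Set.mem_singleton x)).symm⟩
    · rintro ⟨h1, h2⟩
      refine ⟨h1, fun w hw => ?_⟩
      rw [Set.mem_singleton_iff] at hw
      subst hw
      exact h2.symm
  have hfix_x : ∀ r ∈ R, r * x * r⁻¹ = x := by
    intro r hr
    rw [((memR r).1 hr).2]; group
  have hfix_z : ∀ r ∈ R, r * z * r⁻¹ = z := by
    intro r hr
    rw [hles.central r ((memR r).1 hr).1]; group
  -- classification of fixed conjugates
  have hclass : ∀ a, IsCj z a → (∀ r ∈ R, r * a * r⁻¹ = a) → a = z ∨ a = x ∨ a = x * z := by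
    intro a hca hfa
    have ha1 : a ≠ 1 := by
      obtain ⟨k, rfl⟩ := hca
      intro h
      apply hles.ne_one
      have : z = k⁻¹ * (k * z * k⁻¹) * k := by group
      rw [this, h]; group
    apply Helper98_LESGen.fixed_class Q hles hnorm hx hx1 hxz hx2 ha1
    intro r hr hrx
    have := hfa r ((memR r).2 ⟨hr, hrx⟩)
    calc r * a = (r * a * r⁻¹) * r := by group
      _ = a * r := by rw [this]
  -- the two invariant sets
  have hSout : ∀ r ∈ R, ∀ a ∈ {a | IsCj z a ∧ Orth Q z a x},
      r * a * r⁻¹ ∈ {a | IsCj z a ∧ Orth Q z a x} := by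
    rintro r hr a ⟨h1, h2⟩
    refine ⟨isCj_conj r h1, ?_⟩
    have := (orth_conj (Q := Q) (z := z) r).2 h2
    rwa [hfix_x r hr] at this
  have hSin : ∀ r ∈ R, ∀ a ∈ {a | IsCj z a ∧ Orth Q z x a},
      r * a * r⁻¹ ∈ {a | IsCj z a ∧ Orth Q z x a} := by
    rintro r hr a ⟨h1, h2⟩
    refine ⟨isCj_conj r h1, ?_⟩
    have := (orth_conj (Q := Q) (z := z) r).2 h2
    rwa [hfix_x r hr] at this
  have c1 := card_fixed_conj R hRp _ hSout
  have c2 := card_fixed_conj R hRp _ hSin
  have f1 : {a | a ∈ {a | IsCj z a ∧ Orth Q z a x} ∧ ∀ r ∈ R, r * a * r⁻¹ = a} = {x} := by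
    ext a
    simp only [Set.mem_ofPred_eq, Set.mem_singleton_iff]
    constructor
    · rintro ⟨⟨h1, h2⟩, h3⟩
      rcases hclass a h1 h3 with h | h | h
      · subst h; exact absurd h2 hz
      · exact h
      · subst h; exact absurd h2 hxzn
    · rintro rfl
      exact ⟨⟨hcj, hxx⟩, hfix_x⟩
  obtain ⟨q0, hq0, hq⟩ := Helper98_LESGen.exists_q0 Q hles hx hx1 hxz
  have hq' : q0⁻¹ * x * q0 = x * z := by
    have h1 : q0 * z * q0⁻¹ = z := by
      rw [hles.central q0 hq0]; group
    have : q0 * (x * z) * q0⁻¹ = x := by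
      calc q0 * (x * z) * q0⁻¹ = (q0 * x * q0⁻¹) * (q0 * z * q0⁻¹) := by group
        _ = x * z * z := by rw [hq, h1]
        _ = x * (z * z) := by group
        _ = x := by rw [hzz]; group
    calc q0⁻¹ * x * q0 = q0⁻¹ * (q0 * (x * z) * q0⁻¹) * q0 := by rw [this]
      _ = x * z := by group
  have f2 : {a | a ∈ {a | IsCj z a ∧ Orth Q z x a} ∧ ∀ r ∈ R, r * a * r⁻¹ = a} = {x, z} := by
    ext a
    simp only [Set.mem_ofPred_eq, Set.mem_insert_iff, Set.mem_singleton_iff]
    constructor
    · rintro ⟨⟨h1, h2⟩, h3⟩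
      rcases hclass a h1 h3 with h | h | h
      · right; exact h
      · left; exact h
      · exfalso
        subst h
        rw [← hq] at h2
        have := (orth_conj (Q := Q) (z := z) (a := q0⁻¹ * x * q0) (b := x) q0).1 (by
          have e : q0 * (q0⁻¹ * x * q0) * q0⁻¹ = x := by group
          rw [e]; exact h2)
        rw [hq'] at this
        exact hxzn this
    · rintro (rfl | rfl)
      · exact ⟨⟨hcj, hxx⟩, hfix_x⟩
      · exact ⟨⟨isCj_self _, (orth_z hnorm).2 hx⟩, hfix_z⟩
  rw [f1, Set.ncard_singleton] at c1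
  rw [f2, Set.ncard_pair hxz] at c2
  have e := Helper98_LESGen.out_card_eq_in_card (Q := Q) hcj
  rw [e] at c1
  have := c1.symm.trans c2
  exact absurd this (by decide)

end orth

section setup

/-- elementwise data of an extraspecial 2-subgroup that contains its centralizer -/
theorem exists_les (hL1 : Cfsg.IsExtraspecial 2 ↥Q)
    (hL2 : Subgroup.centralizer (Q : Set G) = (Subgroup.center ↥Q).map Q.subtype) :
    ∃ z : G, orderOf z = 2 ∧ (Subgroup.center ↥Q).map Q.subtype = Subgroup.zpowers z ∧ LES Q z := by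
  obtain ⟨⟨_, _, hcomm⟩, hcard⟩ := hL1
  have hne : Subgroup.center ↥Q ≠ ⊥ := by
    intro h
    rw [h, Subgroup.card_bot] at hcard
    omega
  obtain ⟨z', hz'c, hz'1⟩ := (Subgroup.ne_bot_iff_exists_ne_one).mp hne |>.imp
    (fun a ha => ha) |> fun ⟨a, ha⟩ => (⟨a.1, a.2, fun h => ha (Subtype.ext h)⟩ :
      ∃ z' : ↥Q, z' ∈ Subgroup.center ↥Q ∧ z' ≠ 1)
  have hcenter : ∀ a : ↥Q, a ∈ Subgroup.center ↥Q → a = 1 ∨ a = z' :=
    fun a ha => eq_one_or_of_card_two _ hcard hz'c hz'1 ha
  have hz'2 : z' * z' = 1 := by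
    rcases hcenter (z' * z') (Subgroup.mul_mem _ hz'c hz'c) with h | h
    · exact h
    · exfalso
      apply hz'1
      calc z' = z'⁻¹ * (z' * z') := by group
        _ = 1 := by rw [h]; group
  have hz1 : (z' : G) ≠ 1 := fun h => hz'1 (Subtype.ext h)
  have hz2 : (z' : G) * (z' : G) = 1 := congrArg Subtype.val hz'2
  have hcen : ∀ a ∈ Q, a * (z' : G) = (z' : G) * a := by
    intro a ha
    have := (Subgroup.mem_center_iff.mp hz'c) ⟨a, ha⟩
    exact congrArg Subtype.val this
  have hmap : (Subgroup.center ↥Q).map Q.subtype = Subgroup.zpowers (z' : G) := by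
    apply le_antisymm
    · rintro _ ⟨c, hc, rfl⟩
      rcases hcenter c hc with h | h
      · rw [h]; exact Subgroup.one_mem _
      · rw [h]; exact Subgroup.mem_zpowers _
    · rw [Subgroup.zpowers_le]
      exact ⟨z', hz'c, rfl⟩
  refine ⟨(z' : G), orderOf_eq_prime (by rw [pow_two]; exact hz2) hz1, hmap,
    ⟨hz1, hz2, z'.2, hcen, ?_, ?_⟩⟩
  · intro a ha b hb
    have h1 : ⁅(⟨a, ha⟩ : ↥Q), ⟨b, hb⟩⁆ ∈ commutator ↥Q :=
      Subgroup.commutator_mem_commutator (Subgroup.mem_top _) (Subgroup.mem_top _)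
    rw [hcomm] at h1
    rcases hcenter _ h1 with h | h
    · left
      have := congrArg Subtype.val h
      simpa [commutatorElement_def] using this
    · right
      have := congrArg Subtype.val h
      simpa [commutatorElement_def] using this
  · intro c hc
    have hc' : c ∈ (Subgroup.center ↥Q).map Q.subtype := by
      rw [← hL2, Subgroup.mem_centralizer_iff]
      intro b hb
      exact (hc b hb).symm
    obtain ⟨c', hc'c, rfl⟩ := hc'
    rcases hcenter c' hc'c with h | h
    · left; rw [h]; rfl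
    · right; rw [h]; rfl

/-- the centralizer of `z` normalizes `Q` -/
theorem norm_of {z : G}
    (hZ : (Subgroup.center ↥Q).map Q.subtype = Subgroup.zpowers z)
    (hL3 : Subgroup.centralizer (((Subgroup.center ↥Q).map Q.subtype : Subgroup G) : Set G) ≤
      Subgroup.normalizer (Q : Set G)) :
    ∀ c : G, c * z = z * c → ∀ q ∈ Q, c * q * c⁻¹ ∈ Q := by
  intro c hc q hq
  have hcN : c ∈ Subgroup.normalizer (Q : Set G) := by
    apply hL3
    rw [Subgroup.mem_centralizer_iff]
    intro h hh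
    rw [SetLike.mem_coe, hZ, Subgroup.mem_zpowers_iff] at hh
    obtain ⟨k, rfl⟩ := hh
    have : Commute c z := hc
    exact ((this.zpow_right k).eq).symm
  exact (Subgroup.mem_normalizer_iff.mp hcN q).mp hq

end setup

end Cfsg.Agent.Lib.Helper98_LESGen
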