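import Cfsg.Agent.Lib.Helper92_Co2Span
import Cfsg.Agent.Lib.Helper92_Co2Iwasawa

/-!
The stabiliser `T0` of the minimal vector `v0 = 4 e_4 - 4 e_13` in the automorphism group of the
rank-24 lattice is a simple group, by the variant `Helper92_Co2Iwasawa.normal_eq_top` of Iwasawa's
criterion applied to its maximal subgroup `N2 = 2^10 : M22 : 2`.
-/

set_option autoImplicit false
set_option linter.constructorNameAsVariable false
open Cfsg
open scoped Pointwise

namespace Cfsg.Agent.Lib.Helper92_Co2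

open Cfsg.Agent.Lib.Helper7_M24 Cfsg.Agent.Lib.Helper7_Leech Cfsg.Agent.Lib.Helper92_Monomial
  Cfsg.Agent.Lib.Helper92_Co0Order Cfsg.Agent.Lib.Helper92_MaxN
  Cfsg.Agent.Lib.Helper7_Mono Cfsg.Agent.Lib.Helper7_Bits Cfsg.Agent.Lib.Helper7_Perm
  Cfsg.Agent.Lib.Helper92_Co2Wit
open Cfsg.Agent.Lib.Helper26_Leech (pa pb pa_ne_pb v0 v0_apply dotInt_v0 v0_mem v0_norm)
open Cfsg.Agent.Lib.Helper26_Co2 (v0L permVec_v0 signFlip_v0)
open Cfsg.Agent.S5546 (Lam vec8 e8)

/-- The non-monomial automorphism `ξ` fixes `v0`. -/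
theorem xi_fix : Cfsg.Agent.Lib.Helper7_XiConj.xiE • v0L = v0L := by
  apply Subtype.ext
  exact Cfsg.Agent.Lib.Helper7_Xi.xi_eq_of v0L v0 Cfsg.Agent.Lib.Helper26_Co2.xi_v0

/-- `ξ`, as an element of the stabiliser of `v0`. -/
def xiT : ↥T0 := ⟨Cfsg.Agent.Lib.Helper7_XiConj.xiE, xi_fix⟩

/-! ### the data of the first witness -/

def c1 : ↥Cd :=
  ⟨⟨toWord cM1, toWord_mem_of_inCode cM1_code⟩, by
    constructor
    · show toWord cM1 pa = 0
      decide
    · show toWord cM1 pb = 0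
      decide⟩

def u1 : ↥Cd :=
  ⟨⟨toWord wM1, toWord_mem_of_inCode wM1_code⟩, by
    constructor
    · show toWord wM1 pa = 0
      decide
    · show toWord wM1 pb = 0
      decide⟩

def σ1 : ↥M24 := ⟨listPerm sl1 sl1 sl1_inv sl1_inv, listPerm_mem_M24 sl1 sl1 sl1_inv sl1_inv sl1_code⟩

theorem σ1_pa : σ1.1 pa = pa := by decide

theorem σ1_pb : σ1.1 pb = pb := by decide

def τ1 : ↥M22s := ⟨σ1, σ1_pa, σ1_pb⟩

theorem τ1_ne_one : τ1 ≠ 1 := by
  intro h
  have h1 : σ1.1 (dec 0) = dec 0 := by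
    have := congrArg (fun s : ↥M22s => s.1.1 (dec 0)) h
    exact this
  revert h1
  decide

theorem wit1 : xiT * eps2 c1 * xiT⁻¹ = eps2 u1 * perm2 τ1 := by
  apply Subtype.ext
  exact conj_eq cM1 wM1 sl1 sl1_inv sl1_code cM1_code wM1_code key1

/-! ### the data of the second witness -/

def c2 : ↥Cd :=
  ⟨⟨toWord cM2, toWord_mem_of_inCode cM2_code⟩, by
    constructor
    · show toWord cM2 pa = 0
      decide
    · show toWord cM2 pb = 0
      decide⟩

/-- The sign part of the second conjugate. -/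
def w2 : ↥golayCode := ⟨toWord wM2, toWord_mem_of_inCode wM2_code⟩

def u2 : ↥Cd :=
  ⟨w2 + onesC, by
    constructor
    · show toWord wM2 pa + (1 : GolayPt → ZMod 2) pa = 0
      decide
    · show toWord wM2 pb + (1 : GolayPt → ZMod 2) pb = 0
      decide⟩

theorem wit2 : xiT * eps2 c2 * xiT⁻¹ = eps2 u2 * perm2 1 * fE := by
  apply Subtype.ext
  have h1 : ((xiT * eps2 c2 * xiT⁻¹ : ↥T0) : ↥Co0) = eps w2 * perm σ2 :=
    conj_eq cM2 wM2 sl2 sl2_inv sl2_code cM2_code wM2_code key2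
  rw [h1]
  show eps w2 * perm σ2 = eps (w2 + onesC) * perm (1 : ↥M24) * (eps onesC * perm σ2)
  rw [perm_one, mul_one, ← mul_assoc, ← eps_add, add_assoc]
  have : onesC + onesC = 0 := by
    apply Subtype.ext
    exact Cfsg.Agent.Lib.Helper7_Base.add_self_word _
  rw [this, add_zero]

/-! ### a nontrivial sign change -/

theorem eps2_c1_ne_one : eps2 c1 ≠ 1 := by
  intro h
  have h1 : eps c1.1 = 1 := congrArg Subtype.val h
  have h2 : eps c1.1 * perm 1 = eps 0 * perm 1 := by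
    rw [h1, eps_zero]
  have h3 := (mono_injective h2).2
  have h4 : toWord cM1 (dec 0) = 0 := by
    have := congrArg (fun c : ↥golayCode => c.1 (dec 0)) h3
    exact this
  revert h4
  decide

/-! ### simplicity -/

theorem T0_normal_cases (K : Subgroup ↥T0) (hK : K.Normal) (hK1 : K ≠ ⊥) : K = ⊤ :=
  Cfsg.Agent.Lib.Helper92_Co2Iwasawa.normal_eq_top N2 N2_isCoatom eps2 perm2 fE act2
    eps2_zero eps2_add perm2_conj fE_conj
    (fun g hg => by
      obtain ⟨σ, u, h⟩ := N2_mem_form g hg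
      exact ⟨σ, u, h⟩)
    N2_core ⟨c1, eps2_c1_ne_one⟩ ⟨xiT, c1, τ1, u1, τ1_ne_one, wit1⟩
    ⟨xiT, c2, 1, u2, wit2⟩ span_comm2 K hK hK1

theorem T0_simple : IsSimpleGroup ↥T0 := by
  haveI : Nontrivial ↥T0 := ⟨⟨eps2 c1, 1, eps2_c1_ne_one⟩⟩
  refine ⟨fun K hK => ?_⟩
  by_cases h : K = ⊥
  · exact Or.inl h
  · exact Or.inr (T0_normal_cases K hK h)

end Cfsg.Agent.Lib.Helper92_Co2
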