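import Mathlib
import Cfsg.Prelude.Def_MonsterType
import Cfsg.Agent.Lib.Helper63_MonsterConj
import Cfsg.Agent.Lib.Helper63_ESCount
import Cfsg.Agent.Lib.Helper98_LESGen
import Cfsg.Agent.S0402
import Cfsg.Agent.S0398
import Cfsg.Agent.S5551

/-!
Groups of Monster type: a conjugate of `z` in `Q` other than `z` does not map to the class of a
minimal vector of the Leech lattice.
-/

set_option autoImplicit false
set_option linter.unusedSectionVars false
open Cfsg

namespace Cfsg.Agent.Lib.Helper63_MonsterKey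

open Cfsg.Agent.Lib.Helper89_ESClass Cfsg.Agent.Lib.Helper63_ESForm
open Cfsg.Agent.Lib.Helper63_MonsterForm Cfsg.Agent.Lib.Helper63_MonsterConj
open Cfsg.Agent.Lib.Helper63_ESCount Cfsg.Agent.Lib.Helper93_LES

variable {G : Type*} [Group G] {z : G} {Q : Subgroup (Subgroup.centralizer ({z} : Set G))}
  [Q.Normal] {e : (Subgroup.centralizer ({z} : Set G)) ⧸ Q ≃* Spor.Co1}
  {ψ : leechLattice → Q ⧸ Subgroup.center Q} {t : Q}

/-- `Q` as a subgroup of `G` -/
def Q1 (Q : Subgroup (Subgroup.centralizer ({z} : Set G))) : Subgroup G :=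
  Q.map (Subgroup.centralizer ({z} : Set G)).subtype

theorem mem_Q1 {b : G} : b ∈ Q1 Q ↔ ∃ q : Q, ((q : Subgroup.centralizer ({z} : Set G)) : G) = b := by
  unfold Q1
  rw [Subgroup.mem_map]
  constructor
  · rintro ⟨q, hq, rfl⟩
    exact ⟨⟨q, hq⟩, rfl⟩
  · rintro ⟨q, rfl⟩
    exact ⟨q, q.2, rfl⟩

theorem coe_mem_Q1 (q : Q) : ((q : Subgroup.centralizer ({z} : Set G)) : G) ∈ Q1 Q :=
  mem_Q1.2 ⟨q, rfl⟩

theorem mem_cent_iff {a : G} : a ∈ Subgroup.centralizer ({z} : Set G) ↔ a * z = z * a := by
  rw [Subgroup.mem_centralizer_iff]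
  constructor
  · intro h; exact (h z (Set.mem_singleton z)).symm
  · intro h w hw
    rw [Set.mem_singleton_iff] at hw
    rw [hw]; exact h.symm

theorem norm_Q1 : ∀ c : G, c * z = z * c → ∀ q ∈ Q1 Q, c * q * c⁻¹ ∈ Q1 Q := by
  intro c hc q hq
  obtain ⟨q', rfl⟩ := mem_Q1.1 hq
  refine mem_Q1.2 ⟨cj ⟨c, mem_cent_iff.2 hc⟩ q', ?_⟩
  rw [cj_coe]
  rfl

theorem les_Q1 [Finite G] (hz : orderOf z = 2)
    (hF : generalizedFittingSubgroup (Subgroup.centralizer ({z} : Set G)) = Q)
    (hes : IsExtraspecial 2 Q) : LES (Q1 Q) z := by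
  have hE := isES2_zQ hz hF hes
  have hz1 : z ≠ 1 := by
    intro h
    rw [h, orderOf_one] at hz
    omega
  have hzz : z * z = 1 := by
    rw [← pow_two, ← hz]; exact pow_orderOf_eq_one z
  refine ⟨hz1, hzz, mem_Q1.2 ⟨zQ hF, rfl⟩, ?_, ?_, ?_⟩
  · intro a ha
    obtain ⟨q, rfl⟩ := mem_Q1.1 ha
    exact mem_cent_iff.1 (q : Subgroup.centralizer ({z} : Set G)).2
  · intro a ha b hb
    obtain ⟨a', rfl⟩ := mem_Q1.1 ha
    obtain ⟨b', rfl⟩ := mem_Q1.1 hb
    rcases hE.comm a' b' with h | h
    · left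
      have h' : ((a' : Subgroup.centralizer ({z} : Set G)) : G) * b' = b' * a' :=
        congrArg (fun q : Q => ((q : Subgroup.centralizer ({z} : Set G)) : G)) h
      rw [h']; group
    · right
      have h' : ((a' : Subgroup.centralizer ({z} : Set G)) : G) * b' = z * (b' * a') :=
        congrArg (fun q : Q => ((q : Subgroup.centralizer ({z} : Set G)) : G)) h
      rw [h']; group
  · intro c hc
    have hcz : c * z = z * c := hc z (mem_Q1.2 ⟨zQ hF, rfl⟩)
    let c' : Subgroup.centralizer ({z} : Set G) := ⟨c, mem_cent_iff.2 hcz⟩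
    have hc'Q : c' ∈ Q := by
      rw [← hF]
      apply Cfsg.Agent.S1265.result
      rw [Subgroup.mem_centralizer_iff]
      intro h hh
      rw [SetLike.mem_coe, hF] at hh
      apply Subtype.ext
      exact (hc _ (coe_mem_Q1 ⟨h, hh⟩)).symm
    have hcen : ∀ k : Q, (⟨c', hc'Q⟩ : Q) * k = k * ⟨c', hc'Q⟩ := by
      intro k
      apply Subtype.ext
      apply Subtype.ext
      exact hc _ (coe_mem_Q1 k)
    rcases (hE.center _).1 hcen with h | h
    · left
      exact congrArg (fun q : Q => ((q : Subgroup.centralizer ({z} : Set G)) : G)) h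
    · right
      exact congrArg (fun q : Q => ((q : Subgroup.centralizer ({z} : Set G)) : G)) h

theorem pgroup_Q1 (hes : IsExtraspecial 2 Q) : IsPGroup 2 (Q1 Q) := by
  unfold Q1
  exact hes.1.1.map _

theorem pow_four_Q1 (hE : IsES2 Q t) : ∀ b ∈ Q1 Q, b ^ 4 = 1 := by
  intro b hb
  obtain ⟨q, rfl⟩ := mem_Q1.1 hb
  have h1 : q ^ 4 = 1 := by
    have h2 : q ^ 4 = (q * q) * (q * q) := by
      rw [← pow_two q, ← pow_add]
    rw [h2]
    rcases hE.sqs q with h | h
    · rw [h, one_mul]
    · rw [h, hE.sq]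
  have := congrArg (fun q : Q => ((q : Subgroup.centralizer ({z} : Set G)) : G)) h1
  simpa using this

/-- the centralizer of `z` in the conjugate `g Q g⁻¹`, inside the centralizer of `z` -/
def E2 (Q : Subgroup (Subgroup.centralizer ({z} : Set G))) (g : G) :
    Subgroup (Subgroup.centralizer ({z} : Set G)) where
  carrier := {a | g⁻¹ * (a : G) * g ∈ Q1 Q}
  one_mem' := by
    show g⁻¹ * ((1 : Subgroup.centralizer ({z} : Set G)) : G) * g ∈ Q1 Q
    have : g⁻¹ * ((1 : Subgroup.centralizer ({z} : Set G)) : G) * g = 1 := by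
      rw [Subgroup.coe_one]; group
    rw [this]; exact Subgroup.one_mem _
  mul_mem' := by
    intro a b ha hb
    show g⁻¹ * ((a * b : Subgroup.centralizer ({z} : Set G)) : G) * g ∈ Q1 Q
    have : g⁻¹ * ((a * b : Subgroup.centralizer ({z} : Set G)) : G) * g =
        (g⁻¹ * (a : G) * g) * (g⁻¹ * (b : G) * g) := by
      rw [Subgroup.coe_mul]; group
    rw [this]; exact Subgroup.mul_mem _ ha hb
  inv_mem' := by
    intro a ha
    show g⁻¹ * ((a⁻¹ : Subgroup.centralizer ({z} : Set G)) : G) * g ∈ Q1 Q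
    have : g⁻¹ * ((a⁻¹ : Subgroup.centralizer ({z} : Set G)) : G) * g = (g⁻¹ * (a : G) * g)⁻¹ := by
      rw [Subgroup.coe_inv]; group
    rw [this]; exact Subgroup.inv_mem _ ha

theorem mem_E2 {g : G} {a : Subgroup.centralizer ({z} : Set G)} :
    a ∈ E2 Q g ↔ g⁻¹ * (a : G) * g ∈ Q1 Q := Iff.rfl


theorem negElt_sq : Cfsg.Agent.S0398.negElt * Cfsg.Agent.S0398.negElt = 1 := by
  apply Subtype.ext
  apply Equiv.ext
  intro v
  show Cfsg.Agent.S0398.negPerm (Cfsg.Agent.S0398.negPerm v) = v
  rw [Cfsg.Agent.S0398.negPerm_apply, Cfsg.Agent.S0398.negPerm_apply, neg_neg]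

theorem negElt_smul (v : leechLattice) : Cfsg.Agent.S0398.negElt • v = -v := rfl

theorem mk_negElt :
    (QuotientGroup.mk Cfsg.Agent.S0398.negElt : Spor.Co1) = 1 :=
  (QuotientGroup.eq_one_iff _).2 Cfsg.Agent.S0398.negElt_mem_center

/-- A conjugate of `z` in `Q` other than `z` is not the image of a minimal vector. -/
theorem not_type_two [Finite G] (hz : orderOf z = 2)
    (hF : generalizedFittingSubgroup (Subgroup.centralizer ({z} : Set G)) = Q)
    (hes : IsExtraspecial 2 Q) (hcard : Nat.card Q = 2 ^ 25)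
    (hψ : IsLeechModTwoIso Q e ψ) (x : Q) (g : G)
    (hg : g * z * g⁻¹ = ((x : Subgroup.centralizer ({z} : Set G)) : G))
    (hxz : ((x : Subgroup.centralizer ({z} : Set G)) : G) ≠ z)
    (v : leechLattice) (hv : sqNorm (v : GolayPt → ℤ) = 32) (hx : ψ v = QuotientGroup.mk x) :
    False := by
  have hE := isES2_zQ hz hF hes
  have hles := les_Q1 hz hF hes
  have hy : g⁻¹ * z * g ∈ Q1 Q :=
    Helper98_LESGen.sym hles norm_Q1 (pgroup_Q1 hes) g (by rw [hg]; exact coe_mem_Q1 x)
  obtain ⟨y, hy⟩ := mem_Q1.1 hy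
  -- `x` is not central
  have hne : ψ v ≠ 1 := by
    rw [hx]
    intro h1
    rcases (hE.center x).1 ((mk_eq_one_iff_central x).1 h1) with h2 | h2
    · have h3 : ((x : Subgroup.centralizer ({z} : Set G)) : G) = 1 := by rw [h2]; rfl
      rw [← hg] at h3
      apply hles.ne_one
      calc z = g⁻¹ * (g * z * g⁻¹) * g := by group
        _ = 1 := by rw [h3]; group
    · apply hxz
      rw [h2]; rfl
  -- (P2)
  have hP2 : ∀ a ∈ E2 Q g, a * (x : Subgroup.centralizer ({z} : Set G)) = x * a := by
    intro a ha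
    have hb := hles.central _ (mem_E2.1 ha)
    apply Subtype.ext
    show (a : G) * ((x : Subgroup.centralizer ({z} : Set G)) : G) = x * a
    rw [← hg]
    calc (a : G) * (g * z * g⁻¹) = g * ((g⁻¹ * (a : G) * g) * z) * g⁻¹ := by group
      _ = g * (z * (g⁻¹ * (a : G) * g)) * g⁻¹ := by rw [hb]
      _ = (g * z * g⁻¹) * a := by group
  -- (P3)
  have hP3 : ∀ k : Subgroup.centralizer ({z} : Set G),
      k * (x : Subgroup.centralizer ({z} : Set G)) = x * k → ∀ a ∈ E2 Q g, k * a * k⁻¹ ∈ E2 Q g := by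
    intro k hk a ha
    have hk' : (k : G) * (g * z * g⁻¹) = (g * z * g⁻¹) * k := by
      rw [hg]
      exact congrArg Subtype.val hk
    have hc : (g⁻¹ * (k : G) * g) * z = z * (g⁻¹ * (k : G) * g) := by
      calc (g⁻¹ * (k : G) * g) * z = g⁻¹ * ((k : G) * (g * z * g⁻¹)) * g := by group
        _ = g⁻¹ * ((g * z * g⁻¹) * k) * g := by rw [hk']
        _ = z * (g⁻¹ * (k : G) * g) := by group
    have := norm_Q1 (Q := Q) _ hc _ (mem_E2.1 ha)
    rw [mem_E2]
    have h2 : g⁻¹ * ((k * a * k⁻¹ : Subgroup.centralizer ({z} : Set G)) : G) * g =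
        (g⁻¹ * (k : G) * g) * (g⁻¹ * (a : G) * g) * (g⁻¹ * (k : G) * g)⁻¹ := by
      push_cast
      group
    rw [h2]
    exact this
  -- (P4)
  have hP4 : ∃ a ∈ E2 Q g, a ∉ Q := by
    by_contra hcon
    push Not at hcon
    have hcount : Nat.card Q ≤ 8 := by
      apply card_le_of_abelian_centralizer hE y
      intro b1 b2 hb1 hb2
      -- conjugates of `b1`, `b2` by `g`
      have hcz : ∀ b : Q, b * y = y * b →
          (g * ((b : Subgroup.centralizer ({z} : Set G)) : G) * g⁻¹) * z =
            z * (g * ((b : Subgroup.centralizer ({z} : Set G)) : G) * g⁻¹) := by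
        intro b hb
        have hb' : ((b : Subgroup.centralizer ({z} : Set G)) : G) * (g⁻¹ * z * g) =
            (g⁻¹ * z * g) * b := by
          rw [← hy]
          exact congrArg (fun q : Q => ((q : Subgroup.centralizer ({z} : Set G)) : G)) hb
        calc (g * ((b : Subgroup.centralizer ({z} : Set G)) : G) * g⁻¹) * z
            = g * (((b : Subgroup.centralizer ({z} : Set G)) : G) * (g⁻¹ * z * g)) * g⁻¹ := by group
          _ = g * ((g⁻¹ * z * g) * b) * g⁻¹ := by rw [hb']
          _ = z * (g * ((b : Subgroup.centralizer ({z} : Set G)) : G) * g⁻¹) := by group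
      have hmemQ : ∀ b : Q, ∀ hb : b * y = y * b,
          (⟨g * ((b : Subgroup.centralizer ({z} : Set G)) : G) * g⁻¹, mem_cent_iff.2 (hcz b hb)⟩ :
            Subgroup.centralizer ({z} : Set G)) ∈ Q := by
        intro b hb
        apply hcon
        rw [mem_E2]
        have : g⁻¹ * (g * ((b : Subgroup.centralizer ({z} : Set G)) : G) * g⁻¹) * g = b := by group
        show g⁻¹ * (g * ((b : Subgroup.centralizer ({z} : Set G)) : G) * g⁻¹) * g ∈ Q1 Q
        rw [this]
        exact coe_mem_Q1 b
      rcases hE.comm b1 b2 with h | h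
      · exact h
      · exfalso
        have h' : ((b1 : Subgroup.centralizer ({z} : Set G)) : G) * b2 = z * (b2 * b1) :=
          congrArg (fun q : Q => ((q : Subgroup.centralizer ({z} : Set G)) : G)) h
        let A1 : Q := ⟨_, hmemQ b1 hb1⟩
        let A2 : Q := ⟨_, hmemQ b2 hb2⟩
        have key : g * z * g⁻¹ = z ∨ g * z * g⁻¹ = 1 := by
          rcases hE.comm A1 A2 with hA | hA
          · right
            have hA' : (g * ((b1 : Subgroup.centralizer ({z} : Set G)) : G) * g⁻¹) *
                (g * ((b2 : Subgroup.centralizer ({z} : Set G)) : G) * g⁻¹) =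
                (g * ((b2 : Subgroup.centralizer ({z} : Set G)) : G) * g⁻¹) *
                (g * ((b1 : Subgroup.centralizer ({z} : Set G)) : G) * g⁻¹) :=
              congrArg (fun q : Q => ((q : Subgroup.centralizer ({z} : Set G)) : G)) hA
            have h3 : ((b1 : Subgroup.centralizer ({z} : Set G)) : G) * b2 = b2 * b1 := by
              calc ((b1 : Subgroup.centralizer ({z} : Set G)) : G) * b2
                  = g⁻¹ * ((g * ((b1 : Subgroup.centralizer ({z} : Set G)) : G) * g⁻¹) *
                    (g * ((b2 : Subgroup.centralizer ({z} : Set G)) : G) * g⁻¹)) * g := by group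
                _ = g⁻¹ * ((g * ((b2 : Subgroup.centralizer ({z} : Set G)) : G) * g⁻¹) *
                    (g * ((b1 : Subgroup.centralizer ({z} : Set G)) : G) * g⁻¹)) * g := by rw [hA']
                _ = b2 * b1 := by group
            rw [h3] at h'
            have h4 : z = 1 := by
              calc z = z * (((b2 : Subgroup.centralizer ({z} : Set G)) : G) * b1) *
                    (((b2 : Subgroup.centralizer ({z} : Set G)) : G) * b1)⁻¹ := by group
                _ = 1 := by rw [← h']; group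
            rw [h4]; group
          · left
            have hA' : (g * ((b1 : Subgroup.centralizer ({z} : Set G)) : G) * g⁻¹) *
                (g * ((b2 : Subgroup.centralizer ({z} : Set G)) : G) * g⁻¹) =
                z * ((g * ((b2 : Subgroup.centralizer ({z} : Set G)) : G) * g⁻¹) *
                (g * ((b1 : Subgroup.centralizer ({z} : Set G)) : G) * g⁻¹)) :=
              congrArg (fun q : Q => ((q : Subgroup.centralizer ({z} : Set G)) : G)) hA
            have h5 : g * (((b1 : Subgroup.centralizer ({z} : Set G)) : G) * b2) * g⁻¹ =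
                z * (g * (((b2 : Subgroup.centralizer ({z} : Set G)) : G) * b1) * g⁻¹) := by
              calc g * (((b1 : Subgroup.centralizer ({z} : Set G)) : G) * b2) * g⁻¹
                  = (g * ((b1 : Subgroup.centralizer ({z} : Set G)) : G) * g⁻¹) *
                    (g * ((b2 : Subgroup.centralizer ({z} : Set G)) : G) * g⁻¹) := by group
                _ = z * ((g * ((b2 : Subgroup.centralizer ({z} : Set G)) : G) * g⁻¹) *
                    (g * ((b1 : Subgroup.centralizer ({z} : Set G)) : G) * g⁻¹)) := hA'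
                _ = z * (g * (((b2 : Subgroup.centralizer ({z} : Set G)) : G) * b1) * g⁻¹) := by
                    group
            rw [h'] at h5
            calc g * z * g⁻¹
                = (g * (z * (((b2 : Subgroup.centralizer ({z} : Set G)) : G) * b1)) * g⁻¹) *
                  (g * (((b2 : Subgroup.centralizer ({z} : Set G)) : G) * b1) * g⁻¹)⁻¹ := by group
              _ = z := by rw [h5]; group
        rcases key with hk | hk
        · exact hxz (hg ▸ hk)
        · apply hles.ne_one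
          calc z = g⁻¹ * (g * z * g⁻¹) * g := by group
            _ = 1 := by rw [hk]; group
    rw [hcard] at hcount
    norm_num at hcount
  -- the stabilizer of `v`
  have hT := Cfsg.Agent.S0402.result v hv
  let T : Subgroup Co0 := MulAction.stabilizer Co0 v
  let M : Subgroup Spor.Co1 := (E2 Q g).map (rho e)
  let N : Subgroup T := (M.comap (QuotientGroup.mk' (Subgroup.center Co0))).subgroupOf T
  have memN : ∀ τ : T, τ ∈ N ↔ ∃ a ∈ E2 Q g, rho e a = QuotientGroup.mk (τ : Co0) := by
    intro τ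
    show (QuotientGroup.mk' (Subgroup.center Co0)) (τ : Co0) ∈ M ↔ _
    rw [Subgroup.mem_map]
    rfl
  have hN : N.Normal := by
    constructor
    intro τ hτ τ'
    rw [memN] at hτ ⊢
    obtain ⟨a, ha, hρ⟩ := hτ
    have hτ'v : (τ' : Co0) • v = v := MulAction.mem_stabilizer_iff.1 τ'.2
    obtain ⟨k, hk, hkx⟩ := exists_conj hE hψ (τ' : Co0) hx (by rw [hτ'v]; exact hx) hne
    have hkx' : k * (x : Subgroup.centralizer ({z} : Set G)) = x * k := by
      have h1 : k * (x : Subgroup.centralizer ({z} : Set G)) * k⁻¹ = x := by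
        rw [← cj_coe, hkx]
      calc k * (x : Subgroup.centralizer ({z} : Set G))
          = (k * (x : Subgroup.centralizer ({z} : Set G)) * k⁻¹) * k := by group
        _ = x * k := by rw [h1]
    refine ⟨k * a * k⁻¹, hP3 k hkx' a ha, ?_⟩
    rw [map_mul, map_mul, map_inv, hk, hρ]
    rfl
  rcases hT.1.eq_bot_or_eq_top_of_normal N hN with hNb | hNt
  · -- `N = ⊥`
    obtain ⟨a, ha, haQ⟩ := hP4
    have hρa : rho e a ≠ 1 := fun h => haQ ((rho_eq_one_iff a).1 h)
    obtain ⟨g0, hg0⟩ := QuotientGroup.mk_surjective (rho e a)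
    have hax : cj a x = x := by
      apply Subtype.ext
      rw [cj_coe, hP2 a ha]
      group
    have h1 : ψ (g0 • v) = ψ v := by
      rw [psi_smul hψ hg0.symm hx, hax, hx]
    have h2 : ψ (g0 • v - v) = 1 := by
      rw [Cfsg.Agent.S5408.ψ_sub hψ, h1, div_self']
    obtain ⟨w, hw⟩ := (hψ.2.2.1 _).1 h2
    have hnorm : sqNorm ((g0 • v : leechLattice) : GolayPt → ℤ) = 32 := by
      rw [← hv]
      exact g0.2.2 v
    have hv0 : (v : GolayPt → ℤ) ≠ 0 := by
      intro h
      rw [h] at hv
      simp [sqNorm] at hv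
    have hgv0 : ((g0 • v : leechLattice) : GolayPt → ℤ) ≠ 0 := by
      intro h
      rw [h] at hnorm
      simp [sqNorm] at hnorm
    have h3 := (Cfsg.Agent.S5551.result ((g0 • v : leechLattice) : GolayPt → ℤ) (v : GolayPt → ℤ)
      (g0 • v).2 v.2 hgv0 hv0 (by rw [hnorm]; norm_num) (by rw [hv]; norm_num)
      ⟨(w : GolayPt → ℤ), w.2, by
        have := congrArg (fun u : leechLattice => (u : GolayPt → ℤ)) hw
        simp only [AddSubgroup.coe_sub, AddSubgroup.coe_add] at this
        rw [this, two_nsmul]⟩).2 (by rw [hnorm]; norm_num)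
    -- an element of `T` with the same image
    have hex : ∃ τ : T, (QuotientGroup.mk (τ : Co0) : Spor.Co1) = rho e a := by
      rcases h3 with h3 | h3
      · refine ⟨⟨g0, MulAction.mem_stabilizer_iff.2 (Subtype.ext h3.symm)⟩, hg0⟩
      · refine ⟨⟨Cfsg.Agent.S0398.negElt * g0, MulAction.mem_stabilizer_iff.2 ?_⟩, ?_⟩
        · rw [mul_smul, negElt_smul]
          apply Subtype.ext
          rw [AddSubgroup.coe_neg, ← h3]
        · show (QuotientGroup.mk (Cfsg.Agent.S0398.negElt * g0) : Spor.Co1) = rho e a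
          rw [QuotientGroup.mk_mul, mk_negElt, one_mul, hg0]
    obtain ⟨τ, hτ⟩ := hex
    have hτN : τ ∈ N := (memN τ).2 ⟨a, ha, hτ.symm⟩
    rw [hNb, Subgroup.mem_bot] at hτN
    apply hρa
    rw [← hτ, hτN]
    rfl
  · -- `N = ⊤`
    have h8 : ∀ τ : T, τ ^ 8 = 1 := by
      intro τ
      have hτN : τ ∈ N := by rw [hNt]; exact Subgroup.mem_top _
      obtain ⟨a, ha, hρ⟩ := (memN τ).1 hτN
      have ha4 : a ^ 4 = 1 := by
        apply Subtype.ext
        have hb := pow_four_Q1 hE _ (mem_E2.1 ha)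
        have h0 : (g⁻¹ * (a : G) * g) ^ 4 = g⁻¹ * (a : G) ^ 4 * g := by
          have := conj_pow (a := g⁻¹) (b := (a : G)) (i := 4)
          rw [inv_inv] at this
          exact this
        rw [h0] at hb
        have : ((a ^ 4 : Subgroup.centralizer ({z} : Set G)) : G) =
            g * (g⁻¹ * (a : G) ^ 4 * g) * g⁻¹ := by
          push_cast
          group
        rw [this, hb]
        simp
      have h4 : (QuotientGroup.mk ((τ : Co0) ^ 4) : Spor.Co1) = 1 := by
        rw [QuotientGroup.mk_pow, ← hρ, ← map_pow, ha4, map_one]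
      have h5 : (τ : Co0) ^ 4 ∈ Subgroup.center Co0 := (QuotientGroup.eq_one_iff _).1 h4
      apply Subtype.ext
      have h6 : ((τ ^ 8 : T) : Co0) = ((τ : Co0) ^ 4) * ((τ : Co0) ^ 4) := by
        push_cast
        rw [← pow_add]
      rw [h6]
      rcases Cfsg.Agent.S0398.center_cases _ h5 with h7 | h7
      · rw [h7]; rfl
      · rw [h7, negElt_sq]; rfl
    have hp : IsPGroup 2 T := fun τ => ⟨3, by rw [show (2 : ℕ) ^ 3 = 8 by norm_num]; exact h8 τ⟩
    have : Fact (Nat.Prime 2) := ⟨Nat.prime_two⟩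
    have : Finite T := Nat.finite_of_card_ne_zero (by rw [hT.2]; norm_num)
    obtain ⟨n, hn⟩ := IsPGroup.iff_card.1 hp
    rw [hT.2] at hn
    have h3 : 3 ∣ 2 ^ n := by rw [← hn]; norm_num
    have := Nat.Prime.dvd_of_dvd_pow Nat.prime_three h3
    omega

end Cfsg.Agent.Lib.Helper63_MonsterKey
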