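import Mathlib
import Cfsg.Prelude.Def_MonsterType
import Cfsg.Agent.Lib.Helper63_MonsterKey

/-!
Groups of Monster type: the conjugates of `z` in `Q` other than `z` are exactly the elements
mapping to the classes of the lattice vectors of squared length 64; the other noncentral
involutions of `Q` map to the classes of minimal vectors.
-/

set_option autoImplicit false
set_option linter.unusedSectionVars false
open Cfsg

namespace Cfsg.Agent.Lib.Helper63_MonsterCls

open Cfsg.Agent.Lib.Helper89_ESClass Cfsg.Agent.Lib.Helper63_ESForm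
open Cfsg.Agent.Lib.Helper63_MonsterForm Cfsg.Agent.Lib.Helper63_MonsterConj
open Cfsg.Agent.Lib.Helper63_ESCount Cfsg.Agent.Lib.Helper63_MonsterKey

variable {G : Type*} [Group G] [Finite G] {z : G}
  {Q : Subgroup (Subgroup.centralizer ({z} : Set G))}
  [Q.Normal] {e : (Subgroup.centralizer ({z} : Set G)) ⧸ Q ≃* Spor.Co1}
  {ψ : leechLattice → Q ⧸ Subgroup.center Q} {t : Q}

/-- the form vanishes nowhere on the vectors of squared length 48 -/
theorem F_48_one (hE : IsES2 Q t) (hψ : IsLeechModTwoIso Q e ψ) (hcard : Nat.card Q = 2 ^ 25) :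
    F ψ Spor.leechV = 1 := by
  rcases zmod2_cases (F ψ Spor.leechV) with h0 | h1
  swap
  · exact h1
  exfalso
  have hall : ∀ v : leechLattice, F ψ v = 0 := by
    intro v
    obtain ⟨y, hy, hy64, w, hw, hvw⟩ := Cfsg.Agent.S1570.result (v : GolayPt → ℤ) v.2
    rw [F_congr hE hψ (x := v) (y := ⟨y, hy⟩) hw hvw]
    rcases short_norms y hy hy64 with h | h | h | h
    · have : (⟨y, hy⟩ : leechLattice) = 0 := Subtype.ext h
      rw [this]; exact F_zero hE hψ
    · exact F_32' hE hψ _ h
    · rw [F_48 hE hψ _ h]; exact h0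
    · exact F_64 hE hψ _ h
  have hsq : ∀ q : Q, q * q = 1 := by
    intro q
    obtain ⟨v, hv⟩ := hψ.2.1 (QuotientGroup.mk q)
    rw [← sqv_eq_zero_iff, ← F_eq hE hv]
    exact hall v
  have hcomm : ∀ a b : Q, a * b = b * a := by
    intro a b
    have h1 := hsq (a * b)
    have ha : a⁻¹ = a := inv_eq_of_mul_eq_one_left (hsq a)
    have hb : b⁻¹ = b := inv_eq_of_mul_eq_one_left (hsq b)
    calc a * b = (a * b)⁻¹ := (inv_eq_of_mul_eq_one_left h1).symm
      _ = b * a := by rw [mul_inv_rev, ha, hb]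
  have h2 : Nat.card Q ≤ 2 := by
    apply card_le_two_of (1 : Q) t
    intro b
    exact (hE.center b).1 (hcomm b)
  rw [hcard] at h2
  norm_num at h2

/-- a noncentral element of `Q` of order at most 2 maps to the class of a vector of squared length 32
or 64 -/
theorem classify (hE : IsES2 Q t) (hψ : IsLeechModTwoIso Q e ψ) (hcard : Nat.card Q = 2 ^ 25)
    (x : Q) (hx2 : x * x = 1) (hxc : ¬ ∀ k : Q, x * k = k * x) :
    ∃ v : leechLattice, ψ v = QuotientGroup.mk x ∧
      (sqNorm (v : GolayPt → ℤ) = 32 ∨ sqNorm (v : GolayPt → ℤ) = 64) := by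
  obtain ⟨v0, hv0⟩ := hψ.2.1 (QuotientGroup.mk x)
  obtain ⟨y, hy, hy64, w, hw, hvw⟩ := Cfsg.Agent.S1570.result (v0 : GolayPt → ℤ) v0.2
  have h1 : ψ ⟨y, hy⟩ = QuotientGroup.mk x := by
    rw [← hv0]
    exact (psi_congr hE hψ (x := v0) (y := ⟨y, hy⟩) hw hvw).symm
  refine ⟨⟨y, hy⟩, h1, ?_⟩
  have hF : F ψ ⟨y, hy⟩ = 0 := by
    rw [F_eq hE h1, sqv_eq_zero_iff]; exact hx2
  rcases short_norms y hy hy64 with h | h | h | h
  · exfalso
    apply hxc
    rw [← mk_eq_one_iff_central, ← h1]
    have : (⟨y, hy⟩ : leechLattice) = 0 := Subtype.ext h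
    rw [this]
    exact Cfsg.Agent.S5408.ψ_zero hψ
  · exact Or.inl h
  · exfalso
    rw [F_48 hE hψ _ h, F_48_one hE hψ hcard] at hF
    exact one_ne_zero hF
  · exact Or.inr h

section main

variable (hz : orderOf z = 2)
  (hF : generalizedFittingSubgroup (Subgroup.centralizer ({z} : Set G)) = Q)
  (hes : IsExtraspecial 2 Q) (hcard : Nat.card Q = 2 ^ 25) (hψ : IsLeechModTwoIso Q e ψ)
include hz hF hes hcard hψ

/-- a conjugate of `z` in `Q` is an involution -/
theorem conj_sq (x : Q) (g : G)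
    (hg : g * z * g⁻¹ = ((x : Subgroup.centralizer ({z} : Set G)) : G)) : x * x = 1 := by
  have hzz : z * z = 1 := by
    rw [← pow_two, ← hz]; exact pow_orderOf_eq_one z
  apply Subtype.ext
  apply Subtype.ext
  show ((x : Subgroup.centralizer ({z} : Set G)) : G) * x = 1
  rw [← hg]
  calc g * z * g⁻¹ * (g * z * g⁻¹) = g * (z * z) * g⁻¹ := by group
    _ = 1 := by rw [hzz]; group

theorem conj_noncentral (x : Q) (g : G)
    (hg : g * z * g⁻¹ = ((x : Subgroup.centralizer ({z} : Set G)) : G))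
    (hxz : ((x : Subgroup.centralizer ({z} : Set G)) : G) ≠ z) : ¬ ∀ k : Q, x * k = k * x := by
  have hE := isES2_zQ hz hF hes
  intro hc
  have hz1 : z ≠ 1 := by
    intro h
    rw [h, orderOf_one] at hz
    omega
  rcases (hE.center x).1 hc with h2 | h2
  · have h3 : ((x : Subgroup.centralizer ({z} : Set G)) : G) = 1 := by rw [h2]; rfl
    rw [← hg] at h3
    apply hz1
    calc z = g⁻¹ * (g * z * g⁻¹) * g := by group
      _ = 1 := by rw [h3]; group
  · apply hxz
    rw [h2]; rfl

/-- conjugates of `z` in `Q` other than `z` map to classes of vectors of squared length 64 -/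
theorem conj_type_four (x : Q) (g : G)
    (hg : g * z * g⁻¹ = ((x : Subgroup.centralizer ({z} : Set G)) : G))
    (hxz : ((x : Subgroup.centralizer ({z} : Set G)) : G) ≠ z) :
    ∃ v : leechLattice, sqNorm (v : GolayPt → ℤ) = 64 ∧ ψ v = QuotientGroup.mk x := by
  have hE := isES2_zQ hz hF hes
  obtain ⟨v, hv, h | h⟩ := classify hE hψ hcard x (conj_sq hz hF hes hcard hψ x g hg)
    (conj_noncentral hz hF hes hcard hψ x g hg hxz)
  · exact absurd (not_type_two hz hF hes hcard hψ x g hg hxz v h hv) id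
  · exact ⟨v, h, hv⟩

/-- elements of `Q` with the same type of image are conjugate in the centralizer -/
theorem conj_of_congr {x y : Q} {v w : leechLattice} {g0 : Co0} {u : GolayPt → ℤ}
    (hu : u ∈ leechLattice)
    (hgw : ((g0 • v : leechLattice) : GolayPt → ℤ) - (w : GolayPt → ℤ) = 2 • u)
    (hx : ψ v = QuotientGroup.mk x) (hy : ψ w = QuotientGroup.mk y)
    (hxc : ¬ ∀ k : Q, x * k = k * x) :
    ∃ h : Subgroup.centralizer ({z} : Set G),
      h * (x : Subgroup.centralizer ({z} : Set G)) * h⁻¹ = y := by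
  have hE := isES2_zQ hz hF hes
  have h1 : ψ (g0 • v) = QuotientGroup.mk y := by
    rw [← hy]
    exact psi_congr hE hψ hu hgw
  have hne : ψ v ≠ 1 := by
    rw [hx, Ne, mk_eq_one_iff_central]
    exact hxc
  obtain ⟨h, -, hh⟩ := exists_conj hE hψ g0 hx h1 hne
  refine ⟨h, ?_⟩
  rw [← cj_coe, hh]

end main

end Cfsg.Agent.Lib.Helper63_MonsterCls
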