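/-
Helper library (helper63): in the Monster-type setting the abstract forms `F ψ`, `B ψ` on the
Leech lattice are the concrete ones: `F ψ v = (|v|²/16) mod 2`, `B ψ v w = (v·w/8) mod 2`.
-/
import Cfsg.Agent.Lib.Helper63_MonsterCls

set_option autoImplicit false

namespace Cfsg.Agent.Lib.Helper63_MonsterNorm

open Cfsg
open Cfsg.Agent.Lib.Helper89_ESClass Cfsg.Agent.Lib.Helper63_ESForm
open Cfsg.Agent.Lib.Helper63_MonsterForm Cfsg.Agent.Lib.Helper63_MonsterConj
open Cfsg.Agent.Lib.Helper63_MonsterCls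

theorem sqNorm_add (a b : GolayPt → ℤ) :
    sqNorm (a + b) = sqNorm a + 2 * dotInt a b + sqNorm b := by
  unfold sqNorm dotInt
  rw [Finset.mul_sum, ← Finset.sum_add_distrib, ← Finset.sum_add_distrib]
  apply Finset.sum_congr rfl
  intro i _
  simp only [Pi.add_apply]
  ring

theorem dotInt_comm (a b : GolayPt → ℤ) : dotInt a b = dotInt b a := by
  unfold dotInt
  apply Finset.sum_congr rfl
  intro i _
  ring

theorem dotInt_smul_right (a b : GolayPt → ℤ) (k : ℤ) : dotInt a (k • b) = k * dotInt a b := by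
  unfold dotInt
  rw [Finset.mul_sum]
  apply Finset.sum_congr rfl
  intro i _
  simp only [Pi.smul_apply, smul_eq_mul]
  ring

theorem sqNorm_smul (a : GolayPt → ℤ) (k : ℤ) : sqNorm (k • a) = k ^ 2 * sqNorm a := by
  unfold sqNorm
  rw [Finset.mul_sum]
  apply Finset.sum_congr rfl
  intro i _
  simp only [Pi.smul_apply, smul_eq_mul]
  ring

/-- inner products of lattice vectors are divisible by 8 -/
theorem eight_dvd_dotInt (a b : GolayPt → ℤ) (ha : a ∈ leechLattice) (hb : b ∈ leechLattice) :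
    (8 : ℤ) ∣ dotInt a b := by
  obtain ⟨k1, hk1⟩ := Cfsg.Agent.S0392.result a ha
  obtain ⟨k2, hk2⟩ := Cfsg.Agent.S0392.result b hb
  obtain ⟨k3, hk3⟩ := Cfsg.Agent.S0392.result (a + b) (leechLattice.add_mem ha hb)
  rw [sqNorm_add, hk1, hk2] at hk3
  exact ⟨k3 - k1 - k2, by linarith⟩

/-- the norm form `|v|²/16 mod 2` -/
def nrm (v : GolayPt → ℤ) : ZMod 2 := ((sqNorm v / 16 : ℤ) : ZMod 2)

/-- the bilinear form `v·w/8 mod 2` -/
def dt (v w : GolayPt → ℤ) : ZMod 2 := ((dotInt v w / 8 : ℤ) : ZMod 2)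

theorem two_cast_zero (k : ℤ) : ((2 * k : ℤ) : ZMod 2) = 0 := by
  push_cast
  have : (2 : ZMod 2) = 0 := by decide
  rw [this, zero_mul]

theorem nrm_add (a b : GolayPt → ℤ) (ha : a ∈ leechLattice) (hb : b ∈ leechLattice) :
    nrm (a + b) = nrm a + nrm b + dt a b := by
  obtain ⟨k1, hk1⟩ := Cfsg.Agent.S0392.result a ha
  obtain ⟨k2, hk2⟩ := Cfsg.Agent.S0392.result b hb
  obtain ⟨k3, hk3⟩ := eight_dvd_dotInt a b ha hb
  unfold nrm dt
  rw [sqNorm_add, hk1, hk2, hk3]
  have e1 : (16 * k1 + 2 * (8 * k3) + 16 * k2) / 16 = k1 + k3 + k2 := by omega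
  have e2 : 16 * k1 / 16 = k1 := by omega
  have e3 : 16 * k2 / 16 = k2 := by omega
  have e4 : 8 * k3 / 8 = k3 := by omega
  rw [e1, e2, e3, e4]
  push_cast
  ring

theorem nrm_two_smul (w : GolayPt → ℤ) (hw : w ∈ leechLattice) : nrm (2 • w) = 0 := by
  obtain ⟨k, hk⟩ := Cfsg.Agent.S0392.result w hw
  unfold nrm
  have : sqNorm (2 • w) = (2 : ℤ) ^ 2 * sqNorm w := by
    have := sqNorm_smul w 2
    simpa using this
  rw [this, hk]
  have e : (2 : ℤ) ^ 2 * (16 * k) / 16 = 2 * (2 * k) := by omega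
  rw [e]
  exact two_cast_zero _

theorem dt_two_smul (a w : GolayPt → ℤ) (ha : a ∈ leechLattice) (hw : w ∈ leechLattice) :
    dt a (2 • w) = 0 := by
  obtain ⟨k, hk⟩ := eight_dvd_dotInt a w ha hw
  unfold dt
  have : dotInt a (2 • w) = 2 * dotInt a w := by
    have := dotInt_smul_right a w 2
    simpa using this
  rw [this, hk]
  have e : 2 * (8 * k) / 8 = 2 * k := by omega
  rw [e]
  exact two_cast_zero _

/-- `nrm` depends only on the class modulo twice the lattice -/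
theorem nrm_congr {x y w : GolayPt → ℤ} (hy : y ∈ leechLattice) (hw : w ∈ leechLattice)
    (h : x - y = 2 • w) : nrm x = nrm y := by
  have hx : x = y + 2 • w := by rw [← h]; abel
  have h2w : (2 • w : GolayPt → ℤ) ∈ leechLattice := leechLattice.nsmul_mem hw 2
  rw [hx, nrm_add y _ hy h2w, nrm_two_smul w hw, dt_two_smul y w hy hw, add_zero, add_zero]

section forms

variable {G : Type*} [Group G] [Finite G] {z : G}
  {Q : Subgroup (Subgroup.centralizer ({z} : Set G))}
  [Q.Normal] {e : (Subgroup.centralizer ({z} : Set G)) ⧸ Q ≃* Spor.Co1}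
  {ψ : leechLattice → Q ⧸ Subgroup.center Q} {t : Q}

/-- the abstract quadratic form is the norm form -/
theorem F_eq_nrm (hE : IsES2 Q t) (hψ : IsLeechModTwoIso Q e ψ) (hcard : Nat.card Q = 2 ^ 25)
    (v : leechLattice) : F ψ v = nrm (v : GolayPt → ℤ) := by
  obtain ⟨y, hy, hy64, w, hw, hvw⟩ := Cfsg.Agent.S1570.result (v : GolayPt → ℤ) v.2
  rw [F_congr hE hψ (x := v) (y := ⟨y, hy⟩) hw hvw, nrm_congr hy hw hvw]
  rcases short_norms y hy hy64 with h | h | h | h
  · have : (⟨y, hy⟩ : leechLattice) = 0 := Subtype.ext h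
    rw [this, F_zero hE hψ, h]
    unfold nrm sqNorm
    simp
  · rw [F_32' hE hψ _ h]
    unfold nrm
    rw [h]
    decide
  · rw [F_48 hE hψ _ h, F_48_one hE hψ hcard]
    unfold nrm
    rw [h]
    decide
  · rw [F_64 hE hψ _ h]
    unfold nrm
    rw [h]
    decide

/-- the abstract bilinear form is the inner product form -/
theorem B_eq_dt (hE : IsES2 Q t) (hψ : IsLeechModTwoIso Q e ψ) (hcard : Nat.card Q = 2 ^ 25)
    (v w : leechLattice) : B ψ v w = dt (v : GolayPt → ℤ) (w : GolayPt → ℤ) := by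
  have h1 := F_add hE hψ v w
  rw [F_eq_nrm hE hψ hcard, F_eq_nrm hE hψ hcard, F_eq_nrm hE hψ hcard] at h1
  have h2 : nrm ((v + w : leechLattice) : GolayPt → ℤ) =
      nrm (v : GolayPt → ℤ) + nrm (w : GolayPt → ℤ) + dt (v : GolayPt → ℤ) (w : GolayPt → ℤ) := by
    rw [AddSubgroup.coe_add]
    exact nrm_add _ _ v.2 w.2
  rw [h2] at h1
  exact (add_left_cancel h1).symm

/-- lifts of lattice vectors commute iff the inner product is divisible by 16 -/
theorem comm_iff_dvd (hE : IsES2 Q t) (hψ : IsLeechModTwoIso Q e ψ) (hcard : Nat.card Q = 2 ^ 25)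
    {v w : leechLattice} {q r : Q} (hq : ψ v = QuotientGroup.mk q) (hr : ψ w = QuotientGroup.mk r) :
    q * r = r * q ↔ (16 : ℤ) ∣ dotInt (v : GolayPt → ℤ) (w : GolayPt → ℤ) := by
  rw [← cmv_eq_zero_iff, ← B_eq hE hq hr, B_eq_dt hE hψ hcard]
  obtain ⟨k, hk⟩ := eight_dvd_dotInt _ _ v.2 w.2
  unfold dt
  rw [hk]
  have e : 8 * k / 8 = k := by omega
  rw [e]
  constructor
  · intro h
    have h2 : (2 : ℤ) ∣ k := by
      have := (ZMod.intCast_zmod_eq_zero_iff_dvd k 2).1 h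
      exact_mod_cast this
    obtain ⟨m, hm⟩ := h2
    exact ⟨m, by rw [hm]; ring⟩
  · rintro ⟨m, hm⟩
    have : k = 2 * m := by omega
    rw [this]
    exact two_cast_zero m

end forms

end Cfsg.Agent.Lib.Helper63_MonsterNorm
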