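/-
Helper library (helper63): Monster type → Baby Monster type, part 1.
For a noncentral involution `tq ∈ Q` whose class is that of a minimal vector `v = g₁ • leechU`,
the centralizer `X` of `tq` in `C = C_G(z)` maps onto `Co2` with kernel `Q ∩ X`.
-/
import Cfsg.Agent.Lib.Helper63_MonsterNorm
import Cfsg.Agent.S5408
import Cfsg.Agent.S5551

set_option autoImplicit false
set_option linter.unusedSectionVars false

namespace Cfsg.Agent.Lib.Helper63_BabyHom

open Cfsg
open Cfsg.Agent.Lib.Helper89_ESClass Cfsg.Agent.Lib.Helper63_ESForm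
open Cfsg.Agent.Lib.Helper63_MonsterForm Cfsg.Agent.Lib.Helper63_MonsterConj
open Cfsg.Agent.Lib.Helper63_MonsterKey Cfsg.Agent.Lib.Helper63_MonsterCls
open Cfsg.Agent.Lib.Helper63_MonsterNorm

variable {G : Type*} [Group G] [Finite G] {z : G}
  {Q : Subgroup (Subgroup.centralizer ({z} : Set G))} [Q.Normal]
  {e : (Subgroup.centralizer ({z} : Set G)) ⧸ Q ≃* Spor.Co1}
  {ψ : leechLattice → Q ⧸ Subgroup.center Q} {zq : Q}

/-- the centralizer of `tq` in `C` -/
abbrev XX (tq : Q) : Subgroup (Subgroup.centralizer ({z} : Set G)) :=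
  Subgroup.centralizer ({(tq : Subgroup.centralizer ({z} : Set G))} : Set _)

theorem mem_XX {tq : Q} {c : Subgroup.centralizer ({z} : Set G)} :
    c ∈ XX tq ↔ c * (tq : Subgroup.centralizer ({z} : Set G)) = tq * c := by
  rw [Subgroup.mem_centralizer_iff]
  constructor
  · intro h
    exact (h _ (Set.mem_singleton _)).symm
  · intro h y hy
    rw [Set.mem_singleton_iff] at hy
    subst hy
    exact h.symm

theorem cj_eq_self {tq : Q} {c : Subgroup.centralizer ({z} : Set G)} (hc : c ∈ XX tq) :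
    cj c tq = tq := by
  apply Subtype.ext
  rw [cj_coe, mem_XX.1 hc, mul_assoc, mul_inv_cancel, mul_one]

theorem ne_zero_of_norm {x : leechLattice} (hx : sqNorm (x : GolayPt → ℤ) = 32) :
    (x : GolayPt → ℤ) ≠ 0 := by
  intro h
  rw [h] at hx
  unfold sqNorm at hx
  simp at hx

theorem neg_ne_self {x : leechLattice} (hx : sqNorm (x : GolayPt → ℤ) = 32) : -x ≠ x := by
  intro h
  apply ne_zero_of_norm hx
  have h1 : (x : GolayPt → ℤ) + x = 0 := by
    have := congrArg (fun y : leechLattice => (y : GolayPt → ℤ) + x) h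
    simpa using this.symm
  funext i
  have := congrFun h1 i
  simp only [Pi.add_apply, Pi.zero_apply] at this ⊢
  omega

section lift

variable (hψ : IsLeechModTwoIso Q e ψ) {tq : Q} {v : leechLattice}
  (hv : sqNorm (v : GolayPt → ℤ) = 32) (htv : ψ v = QuotientGroup.mk tq)
include hψ hv htv

/-- a lift of `rho e c` to `Co0` maps `v` to `±v` -/
theorem lift_pm {c : Subgroup.centralizer ({z} : Set G)} (hc : c ∈ XX tq) {g : ↥Co0}
    (hg : rho e c = QuotientGroup.mk g) : g • v = v ∨ g • v = -v := by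
  have h1 := psi_smul hψ hg htv
  rw [cj_eq_self hc, ← htv] at h1
  have h2 : ψ (g • v - v) = 1 := by
    rw [Cfsg.Agent.S5408.ψ_sub hψ, h1, div_self']
  obtain ⟨w, hw⟩ := (hψ.2.2.1 _).1 h2
  have hgv : sqNorm ((g • v : leechLattice) : GolayPt → ℤ) = 32 := by
    rw [Cfsg.Agent.Lib.Helper92_Co0Order.sqNorm_smul]; exact hv
  have h3 := Cfsg.Agent.S5551.result ((g • v : leechLattice) : GolayPt → ℤ) (v : GolayPt → ℤ)
    (g • v).2 v.2 (ne_zero_of_norm hgv) (ne_zero_of_norm hv) (by rw [hgv]; norm_num)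
    (by rw [hv]; norm_num) ⟨(w : GolayPt → ℤ), w.2, by
      have := congrArg (fun y : leechLattice => (y : GolayPt → ℤ)) hw
      simp only [AddSubgroup.coe_sub, AddSubgroup.coe_add] at this
      rw [this, two_smul]⟩
  rcases h3.2 (by rw [hgv]; norm_num) with h | h
  · left
    exact Subtype.ext h.symm
  · right
    apply Subtype.ext
    rw [AddSubgroup.coe_neg, h, neg_neg]

theorem exists_lift {c : Subgroup.centralizer ({z} : Set G)} (hc : c ∈ XX tq) :
    ∃ g : ↥Co0, rho e c = QuotientGroup.mk g ∧ g • v = v := by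
  obtain ⟨g0, hg0⟩ := QuotientGroup.mk_surjective (rho e c)
  rcases lift_pm hψ hv htv hc hg0.symm with h | h
  · exact ⟨g0, hg0.symm, h⟩
  · refine ⟨Cfsg.Agent.S0398.negElt * g0, ?_, ?_⟩
    · rw [QuotientGroup.mk_mul, mk_negElt, one_mul, hg0]
    · rw [mul_smul, h, negElt_smul, neg_neg]

theorem lift_unique {c : Subgroup.centralizer ({z} : Set G)} {g g' : ↥Co0}
    (hg : rho e c = QuotientGroup.mk g) (hgv : g • v = v)
    (hg' : rho e c = QuotientGroup.mk g') (hgv' : g' • v = v) : g = g' := by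
  have h1 : (QuotientGroup.mk (g⁻¹ * g') : Spor.Co1) = 1 := by
    rw [QuotientGroup.mk_mul, QuotientGroup.mk_inv, ← hg, ← hg', inv_mul_cancel]
  rw [QuotientGroup.eq_one_iff] at h1
  rcases Cfsg.Agent.S0398.center_cases _ h1 with h | h
  · have : g' = g * (g⁻¹ * g') := by group
    rw [this, h, mul_one]
  · exfalso
    have h2 : (g⁻¹ * g') • v = v := by
      rw [mul_smul, hgv', inv_smul_eq_iff, hgv]
    rw [h, negElt_smul] at h2
    exact neg_ne_self hv h2

/-- the lift of `rho e c` fixing `v` -/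
noncomputable def sig (c : XX tq) : ↥Co0 := Classical.choose (exists_lift hψ hv htv c.2)

theorem sig_spec (c : XX tq) :
    rho e (c : Subgroup.centralizer ({z} : Set G)) = QuotientGroup.mk (sig hψ hv htv c) ∧
      sig hψ hv htv c • v = v :=
  Classical.choose_spec (exists_lift hψ hv htv c.2)

theorem sig_eq (c : XX tq) {g : ↥Co0}
    (hg : rho e (c : Subgroup.centralizer ({z} : Set G)) = QuotientGroup.mk g) (hgv : g • v = v) :
    sig hψ hv htv c = g :=
  lift_unique hψ hv htv (sig_spec hψ hv htv c).1 (sig_spec hψ hv htv c).2 hg hgv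

theorem sig_mul (c c' : XX tq) :
    sig hψ hv htv (c * c') = sig hψ hv htv c * sig hψ hv htv c' := by
  apply sig_eq
  · rw [Subgroup.coe_mul, map_mul, (sig_spec hψ hv htv c).1, (sig_spec hψ hv htv c').1,
      QuotientGroup.mk_mul]
  · rw [mul_smul, (sig_spec hψ hv htv c').2, (sig_spec hψ hv htv c).2]

/-- `sig` as a homomorphism -/
noncomputable def sigHom : XX tq →* ↥Co0 :=
  MonoidHom.mk' (sig hψ hv htv) (sig_mul hψ hv htv)

theorem sigHom_apply (c : XX tq) : sigHom hψ hv htv c = sig hψ hv htv c := rfl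

theorem sig_eq_one_iff (c : XX tq) :
    sig hψ hv htv c = 1 ↔ (c : Subgroup.centralizer ({z} : Set G)) ∈ Q := by
  constructor
  · intro h
    have := (sig_spec hψ hv htv c).1
    rw [h, QuotientGroup.mk_one, rho_eq_one_iff] at this
    exact this
  · intro h
    apply sig_eq
    · rw [(rho_eq_one_iff _).2 h, QuotientGroup.mk_one]
    · rw [one_smul]

theorem mem_XX_of_cj {c : Subgroup.centralizer ({z} : Set G)} (h : cj c tq = tq) : c ∈ XX tq := by
  rw [mem_XX]
  have := congrArg (fun q : Q => (q : Subgroup.centralizer ({z} : Set G))) h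
  simp only [cj_coe] at this
  calc c * (tq : Subgroup.centralizer ({z} : Set G))
      = (c * (tq : Subgroup.centralizer ({z} : Set G)) * c⁻¹) * c := by group
    _ = tq * c := by rw [this]

theorem psi_ne_one : ψ v ≠ 1 := by
  intro h
  obtain ⟨w, hw⟩ := (hψ.2.2.1 v).1 h
  have h1 : sqNorm ((w + w : leechLattice) : GolayPt → ℤ) = 32 := by rw [← hw]; exact hv
  have h2 : ((w + w : leechLattice) : GolayPt → ℤ) = (2 : ℤ) • (w : GolayPt → ℤ) := by
    rw [AddSubgroup.coe_add, two_smul]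
  rw [h2, sqNorm_smul] at h1
  obtain ⟨k, hk⟩ := Cfsg.Agent.S0392.result (w : GolayPt → ℤ) w.2
  rw [hk] at h1
  omega

/-- every element of the stabilizer of `v` is hit -/
theorem sig_surj (hE : IsES2 Q zq) (g : ↥Co0) (hg : g • v = v) :
    ∃ c : XX tq, sig hψ hv htv c = g := by
  have hy : ψ (g • v) = QuotientGroup.mk tq := by rw [hg, htv]
  obtain ⟨h, hh, hcj⟩ := exists_conj hE hψ g htv hy (psi_ne_one hψ hv htv)
  refine ⟨⟨h, mem_XX_of_cj hψ hv htv hcj⟩, ?_⟩
  exact sig_eq hψ hv htv _ hh hg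

end lift

/-! ### transport to `Spor.Co2` -/

/-- an element of `Co0` fixing `leechU`, as an element of `Spor.Co2` -/
def toCo2 (g : ↥Co0) (hg : g • Spor.leechU = Spor.leechU) : ↥Spor.Co2 :=
  ⟨g.1, ⟨g.2, hg⟩⟩

theorem toCo2_smul (g : ↥Co0) (hg : g • Spor.leechU = Spor.leechU) (x : leechLattice) :
    toCo2 g hg • x = g • x := rfl

/-- an element of `Spor.Co2` as an element of `Co0` -/
def ofCo2 (k : ↥Spor.Co2) : ↥Co0 := ⟨k.1, k.2.1⟩

theorem ofCo2_smul (k : ↥Spor.Co2) (x : leechLattice) : ofCo2 k • x = k • x := rfl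

theorem ofCo2_fix (k : ↥Spor.Co2) : ofCo2 k • Spor.leechU = Spor.leechU := k.2.2

theorem toCo2_ofCo2 (k : ↥Spor.Co2) : toCo2 (ofCo2 k) (ofCo2_fix k) = k := rfl

section phi

variable (hψ : IsLeechModTwoIso Q e ψ) {tq : Q} {v : leechLattice}
  (hv : sqNorm (v : GolayPt → ℤ) = 32) (htv : ψ v = QuotientGroup.mk tq)
  {g₁ : ↥Co0} (hg₁ : g₁ • Spor.leechU = v)
include hψ hv htv hg₁

theorem conj_fix (c : XX tq) :
    (g₁⁻¹ * sig hψ hv htv c * g₁) • Spor.leechU = Spor.leechU := by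
  rw [mul_smul, mul_smul, hg₁, (sig_spec hψ hv htv c).2, inv_smul_eq_iff, hg₁]

/-- the homomorphism onto `Co2` -/
noncomputable def phi : XX tq →* ↥Spor.Co2 where
  toFun c := toCo2 (g₁⁻¹ * sig hψ hv htv c * g₁) (conj_fix hψ hv htv hg₁ c)
  map_one' := by
    have h1 : sig hψ hv htv (1 : XX tq) = 1 := (sigHom hψ hv htv).map_one
    apply Subtype.ext
    show ((g₁⁻¹ * sig hψ hv htv (1 : XX tq) * g₁ : ↥Co0) : Equiv.Perm leechLattice) = 1
    rw [h1, mul_one, inv_mul_cancel]
    rfl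
  map_mul' c c' := by
    apply Subtype.ext
    show ((g₁⁻¹ * sig hψ hv htv (c * c') * g₁ : ↥Co0) : Equiv.Perm leechLattice) =
      ((g₁⁻¹ * sig hψ hv htv c * g₁ : ↥Co0) : Equiv.Perm leechLattice) *
      ((g₁⁻¹ * sig hψ hv htv c' * g₁ : ↥Co0) : Equiv.Perm leechLattice)
    rw [sig_mul, ← Subgroup.coe_mul]
    congr 1
    group

theorem phi_smul (c : XX tq) (x : leechLattice) :
    phi hψ hv htv hg₁ c • x = (g₁⁻¹ * sig hψ hv htv c * g₁) • x := rfl

theorem ofCo2_phi (c : XX tq) :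
    ofCo2 (phi hψ hv htv hg₁ c) = g₁⁻¹ * sig hψ hv htv c * g₁ := rfl

theorem phi_eq_one_iff (c : XX tq) :
    phi hψ hv htv hg₁ c = 1 ↔ (c : Subgroup.centralizer ({z} : Set G)) ∈ Q := by
  rw [← sig_eq_one_iff hψ hv htv]
  constructor
  · intro h
    have h1 : ofCo2 (phi hψ hv htv hg₁ c) = 1 := by rw [h]; rfl
    rw [ofCo2_phi] at h1
    calc sig hψ hv htv c = g₁ * (g₁⁻¹ * sig hψ hv htv c * g₁) * g₁⁻¹ := by group
      _ = 1 := by rw [h1]; group
  · intro h
    apply Subtype.ext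
    show ((g₁⁻¹ * sig hψ hv htv c * g₁ : ↥Co0) : Equiv.Perm leechLattice) = 1
    rw [h, mul_one, inv_mul_cancel]
    rfl

theorem phi_surjective (hE : IsES2 Q zq) : Function.Surjective (phi hψ hv htv hg₁) := by
  intro k
  have hfix : (g₁ * ofCo2 k * g₁⁻¹) • v = v := by
    rw [mul_smul, mul_smul, ← hg₁, inv_smul_smul, ofCo2_fix]
  obtain ⟨c, hc⟩ := sig_surj hψ hv htv hE _ hfix
  refine ⟨c, ?_⟩
  rw [← toCo2_ofCo2 k]
  apply Subtype.ext
  show ((g₁⁻¹ * sig hψ hv htv c * g₁ : ↥Co0) : Equiv.Perm leechLattice) =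
    ((ofCo2 k : ↥Co0) : Equiv.Perm leechLattice)
  rw [hc]
  congr 1
  group

end phi

end Cfsg.Agent.Lib.Helper63_BabyHom
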