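/-
Helper library (helper63): Monster type → Baby Monster type, part 2 (pure group theory).
`Spor.Co2` is simple and not a 2-group; and the "push-forward" criterion
`isOfBabyMonsterType_of` producing `IsOfBabyMonsterType` from data on a group `X` mapping onto the
centralizer of an involution.
-/
import Cfsg.Prelude.Def_MonsterType
import Cfsg.Agent.S0402
import Cfsg.Agent.Lib.Helper23_CharP
import Cfsg.Agent.Lib.Helper1_Cores
import Cfsg.Agent.Lib.Helper63_Heisenberg
import Cfsg.Agent.Lib.Helper89_SympBasics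

set_option autoImplicit false
set_option linter.unusedSectionVars false
set_option linter.style.haveILetI false

namespace Cfsg.Agent.Lib.Helper63_BabyPF

open Cfsg

/-! ### `Spor.Co2` -/

/-- the stabilizer of `leechU` in `Co0` is `Spor.Co2` -/
def co2Equiv : ↥(MulAction.stabilizer ↥Co0 Spor.leechU) ≃* ↥Spor.Co2 where
  toFun g := ⟨g.1.1, ⟨g.1.2, g.2⟩⟩
  invFun k := ⟨⟨k.1, k.2.1⟩, k.2.2⟩
  left_inv _ := rfl
  right_inv _ := rfl
  map_mul' _ _ := rfl

theorem sqNorm_leechU : sqNorm ((Spor.leechU : leechLattice) : GolayPt → ℤ) = 32 := by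
  decide +kernel

theorem isCo2_stab : IsCo2 ↥(MulAction.stabilizer ↥Co0 Spor.leechU) :=
  Cfsg.Agent.S0402.result Spor.leechU sqNorm_leechU

instance co2_simple : IsSimpleGroup ↥Spor.Co2 := by
  haveI := isCo2_stab.1
  exact co2Equiv.symm.isSimpleGroup

theorem co2_card : Nat.card ↥Spor.Co2 = 42305421312000 := by
  rw [← Nat.card_congr co2Equiv.toEquiv]
  exact isCo2_stab.2

instance co2_finite : Finite ↥Spor.Co2 :=
  Nat.finite_of_card_ne_zero (by rw [co2_card]; norm_num)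

theorem co2_not_two_group : ¬ IsPGroup 2 ↥Spor.Co2 := by
  intro h
  haveI : Fact (Nat.Prime 2) := ⟨Nat.prime_two⟩
  obtain ⟨n, hn⟩ := IsPGroup.iff_card.1 h
  rw [co2_card] at hn
  have h3 : 3 ∣ 2 ^ n := by
    rw [← hn]
    exact ⟨14101807104000, by norm_num⟩
  have := (Nat.Prime.dvd_of_dvd_pow Nat.prime_three h3)
  omega

/-- a normal 2-subgroup of `Spor.Co2` is trivial -/
theorem co2_normal_two (N : Subgroup ↥Spor.Co2) [hN : N.Normal] (h2 : IsPGroup 2 N) : N = ⊥ := by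
  rcases hN.eq_bot_or_eq_top with h | h
  · exact h
  · exfalso
    apply co2_not_two_group
    rw [h] at h2
    exact h2.of_equiv Subgroup.topEquiv

/-! ### small lemmas -/

theorem mem_zpowers_two {H : Type*} [Group H] {g x : H} (hg : g * g = 1) :
    x ∈ Subgroup.zpowers g ↔ x = 1 ∨ x = g := by
  constructor
  · rintro ⟨k, hk⟩
    have hk' : g ^ k = x := hk
    rw [← hk']
    rcases Int.emod_two_eq_zero_or_one k with h | h
    · left
      have : k = 2 * (k / 2) := by omega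
      rw [this, zpow_mul, zpow_two, hg, one_zpow]
    · right
      have : k = 2 * (k / 2) + 1 := by omega
      rw [this, zpow_add, zpow_mul, zpow_two, hg, one_zpow, one_mul, zpow_one]
  · rintro (rfl | rfl)
    · exact Subgroup.one_mem _
    · exact Subgroup.mem_zpowers _

theorem card_zpowers_two {H : Type*} [Group H] {g : H} (hg : g * g = 1) (hg1 : g ≠ 1) :
    Nat.card (Subgroup.zpowers g) = 2 := by
  rw [Nat.card_zpowers]
  exact orderOf_eq_prime (by rw [pow_two]; exact hg) hg1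

/-! ### the push-forward criterion -/

section PF

variable {𝔊 : Type*} [Group 𝔊] [Finite 𝔊] {ζ : 𝔊}
  {X : Type*} [Group X]
  (p : X →* ↥(Subgroup.centralizer ({ζ} : Set 𝔊))) (hp : Function.Surjective p)
  (φ : X →* ↥Spor.Co2) (hφ : Function.Surjective φ) (hker : p.ker ≤ φ.ker)

/-- the image of `a` is `1` or `ζ` -/
def Nz (a : X) : Prop := ((p a : ↥(Subgroup.centralizer ({ζ} : Set 𝔊))) : 𝔊) = 1 ∨
  ((p a : ↥(Subgroup.centralizer ({ζ} : Set 𝔊))) : 𝔊) = ζ

/-- `ζ` as an element of its centralizer -/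
def zetaC (ζ : 𝔊) : ↥(Subgroup.centralizer ({ζ} : Set 𝔊)) :=
  ⟨ζ, by
    rw [Subgroup.mem_centralizer_iff]
    intro y hy
    rw [Set.mem_singleton_iff] at hy
    rw [hy]⟩

theorem zetaC_comm (ξ : ↥(Subgroup.centralizer ({ζ} : Set 𝔊))) : ξ * zetaC ζ = zetaC ζ * ξ := by
  apply Subtype.ext
  have := ξ.2
  rw [Subgroup.mem_centralizer_iff] at this
  exact (this ζ (Set.mem_singleton ζ)).symm

/-- the induced map on the centralizer -/
noncomputable def phibar : ↥(Subgroup.centralizer ({ζ} : Set 𝔊)) →* ↥Spor.Co2 :=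
  MonoidHom.liftOfSurjective p hp ⟨φ, hker⟩

theorem phibar_p (c : X) : phibar p hp φ hker (p c) = φ c :=
  MonoidHom.liftOfRightInverse_comp_apply p _ _ ⟨φ, hker⟩ c

include hφ in
theorem phibar_surjective : Function.Surjective (phibar p hp φ hker) := by
  intro k
  obtain ⟨c, rfl⟩ := hφ k
  exact ⟨p c, phibar_p p hp φ hker c⟩

theorem ker_phibar : (phibar p hp φ hker).ker = φ.ker.map p := by
  ext ξ
  rw [MonoidHom.mem_ker, Subgroup.mem_map]
  constructor
  · intro h
    obtain ⟨c, rfl⟩ := hp ξ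
    rw [phibar_p] at h
    exact ⟨c, h, rfl⟩
  · rintro ⟨c, hc, rfl⟩
    rw [phibar_p]
    exact hc

include hp in
theorem map_normal : (φ.ker.map p).Normal :=
  Subgroup.Normal.map (MonoidHom.normal_ker φ) p hp

/-- the kernel condition of `IsLeechPerpModTwoIso` -/
def InKer (x : leechPerpU) : Prop :=
  (∃ w : leechLattice, (x : leechLattice) = w + w) ∨
    ∃ w : leechLattice, (x : leechLattice) = Spor.leechU + (w + w)

include hp hφ hker in
/-- **push-forward criterion** for the Baby Monster type -/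
theorem isOfBabyMonsterType_of (hζ : orderOf ζ = 2)
    (hcomm : ∀ a ∈ φ.ker, ∀ b ∈ φ.ker, Nz p (a * b * a⁻¹ * b⁻¹))
    (hsq : ∀ a ∈ φ.ker, Nz p (a * a))
    (hcen : ∀ a ∈ φ.ker, (∀ b ∈ φ.ker, p (a * b) = p (b * a)) → Nz p a)
    (hz₀ : ∃ z₀ ∈ φ.ker, p z₀ = zetaC ζ)
    (hna : ∃ a ∈ φ.ker, ∃ b ∈ φ.ker, p (a * b) ≠ p (b * a))
    (hcard : Nat.card ↥(φ.ker.map p) = 2 ^ 23)
    (ψ₀ : leechPerpU → X) (hψ₀ : ∀ x, ψ₀ x ∈ φ.ker)
    (hadd : ∀ x y, Nz p ((ψ₀ (x + y))⁻¹ * (ψ₀ x * ψ₀ y)))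
    (hsurj : ∀ a ∈ φ.ker, ∃ x, Nz p (a⁻¹ * ψ₀ x))
    (hkerψ : ∀ x : leechPerpU, Nz p (ψ₀ x) ↔ InKer x)
    (hequiv : ∀ (c : X) (x y : leechPerpU), φ c • (x : leechLattice) = (y : leechLattice) →
      Nz p ((ψ₀ y)⁻¹ * (c * ψ₀ x * c⁻¹)))
    (hwc : ∃ g : 𝔊, g * ζ * g⁻¹ ≠ ζ ∧
      ∃ a ∈ φ.ker, ((p a : ↥(Subgroup.centralizer ({ζ} : Set 𝔊))) : 𝔊) = g * ζ * g⁻¹)
    (hmove : ∃ (k : ↥Spor.Co2) (x y : leechPerpU),
      k • (x : leechLattice) = (y : leechLattice) ∧ ¬ InKer (y - x)) :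
    IsOfBabyMonsterType 𝔊 := by
  classical
  haveI : Fact (Nat.Prime 2) := ⟨Nat.prime_two⟩
  -- notation
  set Ξ := ↥(Subgroup.centralizer ({ζ} : Set 𝔊)) with hΞ
  set Q' : Subgroup Ξ := φ.ker.map p with hQ'
  haveI hQn : Q'.Normal := map_normal p hp φ
  have hζζ : ζ * ζ = 1 := by
    rw [← pow_two, ← hζ]; exact pow_orderOf_eq_one ζ
  have hζ1 : ζ ≠ 1 := by
    intro h
    rw [h, orderOf_one] at hζ
    omega
  have hzC1 : zetaC ζ ≠ 1 := by
    intro h
    exact hζ1 (congrArg Subtype.val h)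
  have hzCsq : zetaC ζ * zetaC ζ = 1 := Subtype.ext hζζ
  -- Nz in terms of Ξ
  have hNz : ∀ a : X, Nz p a ↔ p a = 1 ∨ p a = zetaC ζ := by
    intro a
    constructor
    · rintro (h | h)
      · left; exact Subtype.ext h
      · right; exact Subtype.ext h
    · rintro (h | h)
      · left; rw [h]; rfl
      · right; rw [h]; rfl
  have hzQ : zetaC ζ ∈ Q' := by
    obtain ⟨z₀, hz₀m, hz₀⟩ := hz₀
    exact ⟨z₀, hz₀m, hz₀⟩
  -- membership
  have hmemQ : ∀ a ∈ φ.ker, p a ∈ Q' := fun a ha => ⟨a, ha, rfl⟩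
  -- the centre of Q'
  have hcenQ : ∀ c : ↥Q', c ∈ Subgroup.center ↥Q' ↔ (c : Ξ) = 1 ∨ (c : Ξ) = zetaC ζ := by
    rintro ⟨c, hc⟩
    rw [Subgroup.mem_center_iff]
    constructor
    · intro h
      obtain ⟨a, ha, rfl⟩ := hc
      apply (hNz a).1
      apply hcen a ha
      intro b hb
      have := h ⟨p b, hmemQ b hb⟩
      have h2 := congrArg Subtype.val this
      simp only [Subgroup.coe_mul] at h2
      rw [map_mul, map_mul]
      exact h2.symm
    · rintro (h | h) d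
      · apply Subtype.ext
        simp only [Subgroup.coe_mul]
        rw [show c = 1 from h, one_mul, mul_one]
      · apply Subtype.ext
        simp only [Subgroup.coe_mul]
        rw [show c = zetaC ζ from h]
        exact zetaC_comm _
  -- extraspecial
  have hQp : IsPGroup 2 ↥Q' := by
    rw [IsPGroup.iff_card]
    exact ⟨23, hcard⟩
  haveI : Finite ↥Q' := Nat.finite_of_card_ne_zero (by rw [hcard]; norm_num)
  let zQ : ↥Q' := ⟨zetaC ζ, hzQ⟩
  have hzQsq : zQ * zQ = 1 := Subtype.ext hzCsq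
  have hzQ1 : zQ ≠ 1 := fun h => hzC1 (congrArg Subtype.val h)
  have hes_top : IsExtraspecial 2 ↥(⊤ : Subgroup ↥Q') := by
    apply Cfsg.Agent.Lib.Helper89_SympBasics.isExtraspecial_of hQp ⊤ (Subgroup.zpowers zQ) le_top
      (card_zpowers_two hzQsq hzQ1)
    · intro x _ hx
      rw [mem_zpowers_two hzQsq]
      have hxc : x ∈ Subgroup.center ↥Q' := by
        rw [Subgroup.mem_center_iff]
        intro y
        exact (hx y (Subgroup.mem_top y)).symm
      rcases (hcenQ x).1 hxc with h | h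
      · left; exact Subtype.ext h
      · right; exact Subtype.ext h
    · intro c hc y _
      rw [mem_zpowers_two hzQsq] at hc
      have hcc : c ∈ Subgroup.center ↥Q' := by
        rw [hcenQ]
        rcases hc with h | h
        · left; rw [h]; rfl
        · right; rw [h]
      exact ((Subgroup.mem_center_iff.1 hcc) y).symm
    · rintro ⟨x, hx⟩ _
      rw [mem_zpowers_two hzQsq]
      obtain ⟨a, ha, rfl⟩ := hx
      rcases (hNz _).1 (hsq a ha) with h | h
      · left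
        apply Subtype.ext
        show p a ^ 2 = 1
        rw [pow_two, ← map_mul]; exact h
      · right
        apply Subtype.ext
        show p a ^ 2 = zetaC ζ
        rw [pow_two, ← map_mul]; exact h
    · rintro ⟨x, hx⟩ _ ⟨y, hy⟩ _
      rw [mem_zpowers_two hzQsq]
      obtain ⟨a, ha, rfl⟩ := hx
      obtain ⟨b, hb, rfl⟩ := hy
      rcases (hNz _).1 (hcomm a ha b hb) with h | h
      · left
        apply Subtype.ext
        show p a * p b * (p a)⁻¹ * (p b)⁻¹ = 1
        rw [← map_inv, ← map_inv, ← map_mul, ← map_mul, ← map_mul]; exact h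
      · right
        apply Subtype.ext
        show p a * p b * (p a)⁻¹ * (p b)⁻¹ = zetaC ζ
        rw [← map_inv, ← map_inv, ← map_mul, ← map_mul, ← map_mul]; exact h
    · obtain ⟨a, ha, b, hb, hab⟩ := hna
      refine ⟨⟨p a, hmemQ a ha⟩, Subgroup.mem_top _, ⟨p b, hmemQ b hb⟩, Subgroup.mem_top _, ?_⟩
      intro h
      apply hab
      have := congrArg Subtype.val h
      simp only [Subgroup.coe_mul] at this
      rw [map_mul, map_mul]
      exact this
  have hes : IsExtraspecial 2 ↥Q' :=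
    Cfsg.Agent.Lib.Helper63_Heisenberg.isExtraspecial_of_mulEquiv Subgroup.topEquiv hes_top
  -- the isomorphism with Co2
  set Φ := phibar p hp φ hker with hΦ
  have hΦp : ∀ c, Φ (p c) = φ c := phibar_p p hp φ hker
  have hΦs : Function.Surjective Φ := phibar_surjective p hp φ hφ hker
  have hΦk : Φ.ker = Q' := ker_phibar p hp φ hker
  let e' : Ξ ⧸ Q' ≃* ↥Spor.Co2 :=
    (QuotientGroup.quotientMulEquivOfEq hΦk.symm).trans
      (QuotientGroup.quotientKerEquivOfSurjective Φ hΦs)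
  have he' : ∀ ξ : Ξ, e' (QuotientGroup.mk ξ) = Φ ξ := fun ξ => rfl
  -- the module map
  let ψ' : leechPerpU → ↥Q' ⧸ Subgroup.center ↥Q' :=
    fun x => QuotientGroup.mk (⟨p (ψ₀ x), hmemQ _ (hψ₀ x)⟩ : ↥Q')
  have hmk : ∀ (a b : X) (ha : a ∈ φ.ker) (hb : b ∈ φ.ker),
      (QuotientGroup.mk (⟨p a, hmemQ a ha⟩ : ↥Q') : ↥Q' ⧸ Subgroup.center ↥Q') =
        QuotientGroup.mk (⟨p b, hmemQ b hb⟩ : ↥Q') ↔ Nz p (a⁻¹ * b) := by
    intro a b ha hb
    rw [QuotientGroup.eq, hcenQ, hNz]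
    have : (((⟨p a, hmemQ a ha⟩ : ↥Q')⁻¹ * ⟨p b, hmemQ b hb⟩ : ↥Q') : Ξ) = p (a⁻¹ * b) := by
      rw [map_mul, map_inv]
      rfl
    rw [this]
  have hψ'iso : IsLeechPerpModTwoIso Q' e' ψ' := by
    refine ⟨?_, ?_, ?_, ?_⟩
    · intro x y
      show (QuotientGroup.mk _ : ↥Q' ⧸ Subgroup.center ↥Q') =
        QuotientGroup.mk _ * QuotientGroup.mk _
      rw [← QuotientGroup.mk_mul]
      have h1 : (⟨p (ψ₀ x), hmemQ _ (hψ₀ x)⟩ * ⟨p (ψ₀ y), hmemQ _ (hψ₀ y)⟩ : ↥Q') =
          ⟨p (ψ₀ x * ψ₀ y), hmemQ _ (φ.ker.mul_mem (hψ₀ x) (hψ₀ y))⟩ := by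
        apply Subtype.ext
        simp only [Subgroup.coe_mul]
        rw [map_mul]
      rw [h1]
      exact (hmk _ _ (hψ₀ (x + y)) (φ.ker.mul_mem (hψ₀ x) (hψ₀ y))).2 (hadd x y)
    · intro q
      obtain ⟨⟨ξ, hξ⟩, rfl⟩ := QuotientGroup.mk_surjective q
      obtain ⟨a, ha, rfl⟩ := hξ
      obtain ⟨x, hx⟩ := hsurj a ha
      refine ⟨x, ?_⟩
      show (QuotientGroup.mk _ : ↥Q' ⧸ Subgroup.center ↥Q') = QuotientGroup.mk _
      exact ((hmk a (ψ₀ x) ha (hψ₀ x)).2 hx).symm
    · intro x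
      show (QuotientGroup.mk _ : ↥Q' ⧸ Subgroup.center ↥Q') = 1 ↔ _
      rw [QuotientGroup.eq_one_iff, hcenQ, ← hNz]
      exact hkerψ x
    · intro h g hg x y hxy q hq
      obtain ⟨c, rfl⟩ := hp h
      have hcg : φ c = g := by rw [← hΦp, ← he', hg]
      obtain ⟨a, ha, hqa⟩ := q.2
      have hq' : q = ⟨p a, hmemQ a ha⟩ := Subtype.ext hqa.symm
      rw [hq'] at hq
      have h1 : Nz p ((ψ₀ x)⁻¹ * a) := (hmk _ _ (hψ₀ x) ha).1 hq
      have h2 : Nz p ((ψ₀ y)⁻¹ * (c * ψ₀ x * c⁻¹)) := hequiv c x y (by rw [hcg]; exact hxy)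
      have hca : c * a * c⁻¹ ∈ φ.ker := (MonoidHom.normal_ker φ).conj_mem a ha c
      have h3 : (⟨p c * (q : Ξ) * (p c)⁻¹, hQn.conj_mem (q : Ξ) q.2 (p c)⟩ : ↥Q') =
          ⟨p (c * a * c⁻¹), hmemQ _ hca⟩ := by
        apply Subtype.ext
        show p c * (q : Ξ) * (p c)⁻¹ = p (c * a * c⁻¹)
        rw [map_mul, map_mul, map_inv, hq']
      rw [h3]
      show (QuotientGroup.mk _ : ↥Q' ⧸ Subgroup.center ↥Q') = QuotientGroup.mk _
      apply (hmk _ _ (hψ₀ y) hca).2
      -- combine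
      have e1 : (ψ₀ y)⁻¹ * (c * a * c⁻¹) =
          ((ψ₀ y)⁻¹ * (c * ψ₀ x * c⁻¹)) * (c * ((ψ₀ x)⁻¹ * a) * c⁻¹) := by group
      rw [e1, hNz, map_mul]
      have h4 : p (c * ((ψ₀ x)⁻¹ * a) * c⁻¹) = p ((ψ₀ x)⁻¹ * a) := by
        rw [map_mul, map_mul, map_inv]
        rcases (hNz _).1 h1 with h | h
        · rw [h, mul_one, mul_inv_cancel]
        · rw [h, zetaC_comm, mul_assoc, mul_inv_cancel, mul_one]
      rw [h4]
      rcases (hNz _).1 h1 with h | h <;> rcases (hNz _).1 h2 with h' | h'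
      · left; rw [h, h', one_mul]
      · right; rw [h, h', mul_one]
      · right; rw [h, h', one_mul]
      · left; rw [h, h', hzCsq]
  -- the 2-core
  have hpc : pCore 2 Ξ = Q' := by
    apply le_antisymm
    · have hn : ((pCore 2 Ξ).map Φ).Normal :=
        Subgroup.Normal.map (Cfsg.Agent.Lib.Helper1_Cores.pCore_normal 2) Φ hΦs
      have h2 : IsPGroup 2 ↥((pCore 2 Ξ).map Φ) :=
        (Cfsg.Agent.Lib.Helper1_Cores.pCore_isPGroup 2).map Φ
      have hbot := co2_normal_two _ h2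
      rw [← hΦk]
      intro ξ hξ
      rw [MonoidHom.mem_ker]
      have : Φ ξ ∈ (pCore 2 Ξ).map Φ := ⟨ξ, hξ, rfl⟩
      rw [hbot, Subgroup.mem_bot] at this
      exact this
    · exact Cfsg.Agent.Lib.Helper1_Cores.le_pCore hQn hQp
  -- self-centralizing
  have hself : Subgroup.centralizer (Q' : Set Ξ) ≤ Q' := by
    by_contra hcon
    -- the image of the centralizer is a normal subgroup of Co2
    have hWn : (Subgroup.centralizer (Q' : Set Ξ)).Normal := inferInstance
    have hn : ((Subgroup.centralizer (Q' : Set Ξ)).map Φ).Normal :=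
      Subgroup.Normal.map hWn Φ hΦs
    rcases hn.eq_bot_or_eq_top with h | h
    · apply hcon
      intro ξ hξ
      have hmem : ξ ∈ Φ.ker := by
        rw [MonoidHom.mem_ker]
        have : Φ ξ ∈ (Subgroup.centralizer (Q' : Set Ξ)).map Φ := ⟨ξ, hξ, rfl⟩
        rw [h, Subgroup.mem_bot] at this
        exact this
      rw [hΦk] at hmem
      exact hmem
    · obtain ⟨k, x, y, hkxy, hnot⟩ := hmove
      have hk : k ∈ (Subgroup.centralizer (Q' : Set Ξ)).map Φ := by rw [h]; trivial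
      obtain ⟨ξ, hξ, hξk⟩ := hk
      obtain ⟨c, rfl⟩ := hp ξ
      have hck : φ c = k := by rw [← hΦp]; exact hξk
      have h2 : Nz p ((ψ₀ y)⁻¹ * (c * ψ₀ x * c⁻¹)) := hequiv c x y (by rw [hck]; exact hkxy)
      -- c centralizes Q'
      have h3 : p (c * ψ₀ x * c⁻¹) = p (ψ₀ x) := by
        have hξ' : p c ∈ Subgroup.centralizer (Q' : Set Ξ) := hξ
        rw [Subgroup.mem_centralizer_iff] at hξ'
        have := hξ' (p (ψ₀ x)) (hmemQ _ (hψ₀ x))
        rw [map_mul, map_mul, map_inv, ← this, mul_assoc, mul_inv_cancel, mul_one]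
      have h4 : Nz p ((ψ₀ y)⁻¹ * ψ₀ x) := by
        rw [hNz] at h2 ⊢
        rw [map_mul] at h2 ⊢
        rw [h3] at h2
        exact h2
      -- hence y - x is in the kernel
      apply hnot
      rw [← hkerψ]
      have h5 := hadd (y - x) x
      rw [sub_add_cancel] at h5
      -- ψ₀ (y - x) ≡ ψ₀ y * (ψ₀ x)⁻¹
      rw [hNz] at h4 h5 ⊢
      rw [map_mul, map_inv] at h4
      rw [map_mul, map_inv, map_mul] at h5
      -- set names
      generalize p (ψ₀ x) = A at h4 h5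
      generalize p (ψ₀ y) = B at h4 h5
      generalize p (ψ₀ (y - x)) = D at h5 ⊢
      have hAB : A = B ∨ A = B * zetaC ζ := by
        rcases h4 with h | h
        · left
          calc A = B * (B⁻¹ * A) := by group
            _ = B := by rw [h, mul_one]
        · right
          calc A = B * (B⁻¹ * A) := by group
            _ = B * zetaC ζ := by rw [h]
      rcases hAB with rfl | rfl
      · rcases h5 with h | h
        · left
          calc D = A * (A⁻¹ * (D * A)) * A⁻¹ := by group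
            _ = 1 := by rw [h]; group
        · right
          calc D = A * (A⁻¹ * (D * A)) * A⁻¹ := by group
            _ = A * zetaC ζ * A⁻¹ := by rw [h]
            _ = zetaC ζ := by rw [zetaC_comm, mul_assoc, mul_inv_cancel, mul_one]
      · have hzi : (zetaC ζ)⁻¹ = zetaC ζ := inv_eq_of_mul_eq_one_left hzCsq
        have hcomm' : ∀ ξ : Ξ, ξ * zetaC ζ = zetaC ζ * ξ := zetaC_comm
        rcases h5 with h | h
        · right
          have : D * (B * zetaC ζ) = B := by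
            calc D * (B * zetaC ζ) = B * (B⁻¹ * (D * (B * zetaC ζ))) := by group
              _ = B := by rw [h, mul_one]
          calc D = (D * (B * zetaC ζ)) * (zetaC ζ)⁻¹ * B⁻¹ := by group
            _ = B * zetaC ζ * B⁻¹ := by rw [this, hzi]
            _ = zetaC ζ := by rw [hcomm', mul_assoc, mul_inv_cancel, mul_one]
        · left
          have : D * (B * zetaC ζ) = B * zetaC ζ := by
            calc D * (B * zetaC ζ) = B * (B⁻¹ * (D * (B * zetaC ζ))) := by group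
              _ = B * zetaC ζ := by rw [h]
          calc D = (D * (B * zetaC ζ)) * (B * zetaC ζ)⁻¹ := by group
            _ = 1 := by rw [this, mul_inv_cancel]
  -- F*
  have hF : generalizedFittingSubgroup Ξ = Q' := by
    have hchar : Cfsg.Agent.Lib.Helper49_CharP.IsCharP 2 Ξ := by
      unfold Cfsg.Agent.Lib.Helper49_CharP.IsCharP
      rw [hpc]
      exact hself
    rw [Cfsg.Agent.Lib.Helper23_CharP.isCharP_iff_generalizedFitting_eq.1 hchar, hpc]
  -- assemble
  refine ⟨ζ, Q', hQn, ⟨hζ, hF, hes, hcard, ?_⟩, e', ψ', hψ'iso⟩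
  obtain ⟨g, hg, a, ha, hpa⟩ := hwc
  refine ⟨g, ⟨?_, ?_⟩, hg⟩
  · rw [← hpa]; exact (p a).2
  · have : (⟨g * ζ * g⁻¹, by rw [← hpa]; exact (p a).2⟩ : Ξ) = p a := Subtype.ext hpa.symm
    rw [this]
    exact hmemQ a ha

end PF

end Cfsg.Agent.Lib.Helper63_BabyPF
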