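/-
Helper library (helper63): Monster type → Baby Monster type, part 3.
The data needed by the push-forward criterion `isOfBabyMonsterType_of`, on the Monster side:
for a noncentral involution `tq` of `Q` of the type of a minimal vector, the group
`X = C_C(tq)` with its map `phi` onto `Co2`.
-/
import Cfsg.Agent.Lib.Helper63_BabyHom
import Cfsg.Agent.Lib.Helper63_BabyPF
import Cfsg.Agent.Lib.Helper63_ESCount

set_option autoImplicit false
set_option linter.unusedSectionVars false
set_option linter.style.haveILetI false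

namespace Cfsg.Agent.Lib.Helper63_BabyData

open Cfsg
open Cfsg.Agent.Lib.Helper89_ESClass Cfsg.Agent.Lib.Helper63_ESForm
open Cfsg.Agent.Lib.Helper63_ESCount
open Cfsg.Agent.Lib.Helper63_MonsterForm Cfsg.Agent.Lib.Helper63_MonsterConj
open Cfsg.Agent.Lib.Helper63_MonsterKey Cfsg.Agent.Lib.Helper63_MonsterCls
open Cfsg.Agent.Lib.Helper63_MonsterNorm Cfsg.Agent.Lib.Helper63_BabyHom
open Cfsg.Agent.Lib.Helper63_BabyPF

/-! ### extraspecial 2-groups -/

section es

variable {E : Type*} [Group E] {t : E}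

theorem cmv_eq_one_iff (x y : E) : cmv x y = 1 ↔ x * y ≠ y * x := by
  rcases zmod2_cases (cmv x y) with h | h
  · rw [h]
    constructor
    · intro h'; exact absurd h' (by decide)
    · intro h'; exact absurd ((cmv_eq_zero_iff x y).1 h) h'
  · rw [h]
    constructor
    · intro _ h'
      rw [(cmv_eq_zero_iff x y).2 h'] at h
      exact zero_ne_one h
    · intro _; rfl

theorem cmv_inv_right (hE : IsES2 E t) (q y : E) : cmv q y⁻¹ = cmv q y := by
  rw [cmv_symm, cmv_inv_left hE, cmv_symm]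

/-- the double centralizer of a noncentral involution -/
theorem double_cent (hE : IsES2 E t) {y : E} (hy2 : y * y = 1) (hyc : ¬ ∀ k, y * k = k * y)
    {q : E} (hq : ∀ r, r * y = y * r → q * r = r * q) :
    q = 1 ∨ q = y ∨ q = t ∨ q = t * y := by
  push Not at hyc
  obtain ⟨r₀, hr₀⟩ := hyc
  have h1 : cmv y r₀ = 1 := (cmv_eq_one_iff _ _).2 hr₀
  have hchar : ∀ s : ZMod 2, s + s = 0 := fun s => CharTwo.add_self_eq_zero s
  have key : ∀ r, cmv q r = cmv q r₀ * cmv y r := by
    intro r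
    rcases zmod2_cases (cmv y r) with h | h
    · rw [h, mul_zero, cmv_eq_zero_iff]
      exact hq r ((cmv_eq_zero_iff _ _).1 h).symm
    · rw [h, mul_one]
      have h2 : (r₀⁻¹ * r) * y = y * (r₀⁻¹ * r) := by
        rw [← cmv_eq_zero_iff, cmv_mul_left hE, cmv_inv_left hE, cmv_symm r₀, cmv_symm r, h1, h]
        decide
      have h3 := hq _ h2
      rw [← cmv_eq_zero_iff, cmv_mul_right hE, cmv_inv_right hE] at h3
      calc cmv q r = (cmv q r₀ + cmv q r₀) + cmv q r := by rw [hchar, zero_add]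
        _ = cmv q r₀ + (cmv q r₀ + cmv q r) := by rw [add_assoc]
        _ = cmv q r₀ := by rw [h3, add_zero]
  have hyi : y⁻¹ = y := inv_eq_of_mul_eq_one_left hy2
  rcases zmod2_cases (cmv q r₀) with h | h
  · have hc : ∀ r, q * r = r * q := by
      intro r
      rw [← cmv_eq_zero_iff, key, h, zero_mul]
    rcases (hE.center q).1 hc with h' | h'
    · exact Or.inl h'
    · exact Or.inr (Or.inr (Or.inl h'))
  · have hc : ∀ r, (q * y) * r = r * (q * y) := by
      intro r
      rw [← cmv_eq_zero_iff, cmv_mul_left hE, key, h, one_mul, hchar]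
    rcases (hE.center (q * y)).1 hc with h' | h'
    · right; left
      calc q = (q * y) * y⁻¹ := by group
        _ = y := by rw [h', one_mul, hyi]
    · right; right; right
      calc q = (q * y) * y⁻¹ := by group
        _ = t * y := by rw [h', hyi]

theorem card_cent [Finite E] (hE : IsES2 E t) {y : E} (hyc : ¬ ∀ k, y * k = k * y) :
    2 * Nat.card (cmHom hE y).ker = Nat.card E := by
  push Not at hyc
  obtain ⟨r₀, hr₀⟩ := hyc
  have hsurj : Function.Surjective (cmHom hE y) := by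
    intro m
    rcases zmod2_cases (Multiplicative.toAdd m) with h | h
    · exact ⟨1, by rw [map_one]; exact (congrArg Multiplicative.ofAdd h).symm⟩
    · refine ⟨r₀, ?_⟩
      show Multiplicative.ofAdd (cmv r₀ y) = m
      rw [cmv_symm, (cmv_eq_one_iff _ _).2 hr₀]
      exact (congrArg Multiplicative.ofAdd h).symm
  rw [← Subgroup.card_mul_index (cmHom hE y).ker, Subgroup.index_ker, mul_comm]
  congr 1
  rw [MonoidHom.range_eq_top.2 hsurj, Subgroup.card_top, Nat.card_eq_fintype_card]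
  rfl

theorem exists_noncomm [Finite E] (hE : IsES2 E t) (hcard : 8 < Nat.card E) (y : E) :
    ∃ a b : E, a * y = y * a ∧ b * y = y * b ∧ a * b ≠ b * a := by
  by_contra hcon
  push Not at hcon
  have := card_le_of_abelian_centralizer hE y (fun a b ha hb => hcon a b ha hb)
  omega

end es

/-! ### the Monster side -/

variable {G : Type*} [Group G] [Finite G] {z : G}
  {Q : Subgroup (Subgroup.centralizer ({z} : Set G))} [Q.Normal]
  {e : (Subgroup.centralizer ({z} : Set G)) ⧸ Q ≃* Spor.Co1}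
  {ψ : leechLattice → Q ⧸ Subgroup.center Q} {zq tq : Q}

/-- an element of `Q` commuting with `tq`, as an element of `XX tq` -/
def qX (tq q : Q) (h : q * tq = tq * q) : XX tq :=
  ⟨(q : Subgroup.centralizer ({z} : Set G)), mem_XX.2 (by
    have := congrArg (fun r : Q => (r : Subgroup.centralizer ({z} : Set G))) h
    simpa using this)⟩

theorem qX_coe (q : Q) (h : q * tq = tq * q) :
    ((qX tq q h : XX tq) : Subgroup.centralizer ({z} : Set G)) = q := rfl

/-- an element of `XX tq` lying in `Q`, as an element of `Q` -/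
def toQ (a : XX tq) (ha : (a : Subgroup.centralizer ({z} : Set G)) ∈ Q) : Q :=
  ⟨(a : Subgroup.centralizer ({z} : Set G)), ha⟩

theorem toQ_comm (a : XX tq) (ha : (a : Subgroup.centralizer ({z} : Set G)) ∈ Q) :
    toQ a ha * tq = tq * toQ a ha := by
  apply Subtype.ext
  exact mem_XX.1 a.2

/-- the image of `a` in `C` lies in `⟨zq, tq⟩` -/
def InN (zq tq : Q) (a : XX tq) : Prop :=
  (a : Subgroup.centralizer ({z} : Set G)) = 1 ∨
  (a : Subgroup.centralizer ({z} : Set G)) = tq ∨
  (a : Subgroup.centralizer ({z} : Set G)) = zq ∨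
  (a : Subgroup.centralizer ({z} : Set G)) = (zq : Subgroup.centralizer ({z} : Set G)) * tq

theorem inN_of_central {a : XX tq}
    (h : (a : Subgroup.centralizer ({z} : Set G)) = 1 ∨
      (a : Subgroup.centralizer ({z} : Set G)) = zq) : InN zq tq a := by
  rcases h with h | h
  · exact Or.inl h
  · exact Or.inr (Or.inr (Or.inl h))

theorem comm_mem (hE : IsES2 Q zq) {a b : XX tq}
    (ha : (a : Subgroup.centralizer ({z} : Set G)) ∈ Q)
    (hb : (b : Subgroup.centralizer ({z} : Set G)) ∈ Q) :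
    ((a * b * a⁻¹ * b⁻¹ : XX tq) : Subgroup.centralizer ({z} : Set G)) = 1 ∨
    ((a * b * a⁻¹ * b⁻¹ : XX tq) : Subgroup.centralizer ({z} : Set G)) = zq := by
  rcases hE.comm (toQ a ha) (toQ b hb) with h | h
  · left
    have h' : (a : Subgroup.centralizer ({z} : Set G)) * b = b * a :=
      congrArg (fun r : Q => (r : Subgroup.centralizer ({z} : Set G))) h
    show (a : Subgroup.centralizer ({z} : Set G)) * b *
      (a : Subgroup.centralizer ({z} : Set G))⁻¹ * (b : Subgroup.centralizer ({z} : Set G))⁻¹ = 1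
    rw [h']; group
  · right
    have h' : (a : Subgroup.centralizer ({z} : Set G)) * b = zq * (b * a) :=
      congrArg (fun r : Q => (r : Subgroup.centralizer ({z} : Set G))) h
    show (a : Subgroup.centralizer ({z} : Set G)) * b *
      (a : Subgroup.centralizer ({z} : Set G))⁻¹ * (b : Subgroup.centralizer ({z} : Set G))⁻¹ = zq
    rw [h']; group

theorem sq_mem (hE : IsES2 Q zq) {a : XX tq}
    (ha : (a : Subgroup.centralizer ({z} : Set G)) ∈ Q) :
    ((a * a : XX tq) : Subgroup.centralizer ({z} : Set G)) = 1 ∨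
    ((a * a : XX tq) : Subgroup.centralizer ({z} : Set G)) = zq := by
  rcases hE.sqs (toQ a ha) with h | h
  · left
    exact congrArg (fun r : Q => (r : Subgroup.centralizer ({z} : Set G))) h
  · right
    exact congrArg (fun r : Q => (r : Subgroup.centralizer ({z} : Set G))) h

theorem cen_mem (hE : IsES2 Q zq) (ht2 : tq * tq = 1) (htc : ¬ ∀ k, tq * k = k * tq)
    {a : XX tq} (ha : (a : Subgroup.centralizer ({z} : Set G)) ∈ Q)
    (h : ∀ b : XX tq, (b : Subgroup.centralizer ({z} : Set G)) ∈ Q → a * b = b * a) :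
    InN zq tq a := by
  have h1 := double_cent hE ht2 htc (q := toQ a ha) (fun r hr => by
    have := h (qX tq r hr) r.2
    apply Subtype.ext
    exact congrArg (fun c : XX tq => (c : Subgroup.centralizer ({z} : Set G))) this)
  rcases h1 with h | h | h | h
  · exact Or.inl (congrArg Subtype.val h)
  · exact Or.inr (Or.inl (congrArg Subtype.val h))
  · exact Or.inr (Or.inr (Or.inl (congrArg Subtype.val h)))
  · exact Or.inr (Or.inr (Or.inr (congrArg Subtype.val h)))

theorem exists_na (hE : IsES2 Q zq) (hcard : Nat.card Q = 2 ^ 25) (tq : Q) :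
    ∃ a b : XX tq, (a : Subgroup.centralizer ({z} : Set G)) ∈ Q ∧
      (b : Subgroup.centralizer ({z} : Set G)) ∈ Q ∧ a * b ≠ b * a := by
  haveI : Finite Q := Nat.finite_of_card_ne_zero (by rw [hcard]; norm_num)
  obtain ⟨a, b, ha, hb, hab⟩ := exists_noncomm hE (by rw [hcard]; norm_num) tq
  refine ⟨qX tq a ha, qX tq b hb, a.2, b.2, fun h => hab ?_⟩
  apply Subtype.ext
  exact congrArg (fun c : XX tq => (c : Subgroup.centralizer ({z} : Set G))) h

/-- the order of the centralizer of `tq` in `Q` -/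
theorem card_PQ (hE : IsES2 Q zq) (hcard : Nat.card Q = 2 ^ 25)
    (htc : ¬ ∀ k, tq * k = k * tq) : Nat.card ↥(Q.subgroupOf (XX tq)) = 2 ^ 24 := by
  haveI : Finite Q := Nat.finite_of_card_ne_zero (by rw [hcard]; norm_num)
  have h1 := card_cent hE htc
  rw [hcard] at h1
  have h2 : Nat.card ↥(Q.subgroupOf (XX tq)) = Nat.card ↥(cmHom hE tq).ker := by
    apply Nat.card_congr
    refine ⟨fun a => ⟨toQ a.1 (Subgroup.mem_subgroupOf.1 a.2),
        (mem_ker_cmHom hE tq _).2 (toQ_comm _ _)⟩,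
      fun q => ⟨qX tq q.1 ((mem_ker_cmHom hE tq q.1).1 q.2), Subgroup.mem_subgroupOf.2 q.1.2⟩,
      fun a => rfl, fun q => rfl⟩
  rw [h2]
  omega

/-! ### the map `psi0` -/

section psi0

variable (hE : IsES2 Q zq) (hψ : IsLeechModTwoIso Q e ψ) (hcard : Nat.card Q = 2 ^ 25)
  {v : leechLattice} (htv : ψ v = QuotientGroup.mk tq)
  {g₁ : ↥Co0} (hg₁ : g₁ • Spor.leechU = v)
include hE hψ hcard htv hg₁

theorem lft_comm (x : leechPerpU) :
    lft ψ (g₁ • (x : leechLattice)) * tq = tq * lft ψ (g₁ • (x : leechLattice)) := by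
  rw [comm_iff_dvd hE hψ hcard (mk_lft ψ _).symm htv, ← hg₁, Cfsg.Agent.S5593.dot_smul]
  exact x.2

/-- the lift of `x` to `X` -/
noncomputable def psi0 (x : leechPerpU) : XX tq :=
  qX tq (lft ψ (g₁ • (x : leechLattice))) (lft_comm hE hψ hcard htv hg₁ x)

theorem psi0_coe (x : leechPerpU) :
    ((psi0 hE hψ hcard htv hg₁ x : XX tq) : Subgroup.centralizer ({z} : Set G)) =
      (lft ψ (g₁ • (x : leechLattice)) : Q) := rfl

theorem psi0_mem (x : leechPerpU) :
    ((psi0 hE hψ hcard htv hg₁ x : XX tq) : Subgroup.centralizer ({z} : Set G)) ∈ Q :=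
  (lft ψ (g₁ • (x : leechLattice))).2

theorem central_cases {q q' : Q}
    (h : (QuotientGroup.mk q : Q ⧸ Subgroup.center Q) = QuotientGroup.mk q') :
    q⁻¹ * q' = 1 ∨ q⁻¹ * q' = zq := by
  obtain ⟨c, hc, hq⟩ := exists_central h
  have : q⁻¹ * q' = c := by rw [hq]; group
  rw [this]
  exact (hE.center c).1 hc

theorem psi0_add (x y : leechPerpU) :
    (((psi0 hE hψ hcard htv hg₁ (x + y))⁻¹ *
      (psi0 hE hψ hcard htv hg₁ x * psi0 hE hψ hcard htv hg₁ y) : XX tq) :
        Subgroup.centralizer ({z} : Set G)) = 1 ∨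
    (((psi0 hE hψ hcard htv hg₁ (x + y))⁻¹ *
      (psi0 hE hψ hcard htv hg₁ x * psi0 hE hψ hcard htv hg₁ y) : XX tq) :
        Subgroup.centralizer ({z} : Set G)) = zq := by
  have h1 : (QuotientGroup.mk (lft ψ (g₁ • ((x + y : leechPerpU) : leechLattice))) :
      Q ⧸ Subgroup.center Q) =
      QuotientGroup.mk (lft ψ (g₁ • (x : leechLattice)) * lft ψ (g₁ • (y : leechLattice))) := by
    rw [QuotientGroup.mk_mul, mk_lft, mk_lft, mk_lft, AddSubgroup.coe_add,
      Cfsg.Agent.Lib.Helper92_Co0Order.smul_add', hψ.1]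
  rcases central_cases hE hψ hcard htv hg₁ h1 with h | h
  · left
    exact congrArg (fun r : Q => (r : Subgroup.centralizer ({z} : Set G))) h
  · right
    exact congrArg (fun r : Q => (r : Subgroup.centralizer ({z} : Set G))) h

theorem psi0_surj (a : XX tq) (ha : (a : Subgroup.centralizer ({z} : Set G)) ∈ Q) :
    ∃ x : leechPerpU,
      ((a⁻¹ * psi0 hE hψ hcard htv hg₁ x : XX tq) : Subgroup.centralizer ({z} : Set G)) = 1 ∨
      ((a⁻¹ * psi0 hE hψ hcard htv hg₁ x : XX tq) : Subgroup.centralizer ({z} : Set G)) = zq := by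
  obtain ⟨w, hw⟩ := hψ.2.1 (QuotientGroup.mk (toQ a ha))
  have hx₀ : g₁⁻¹ • w ∈ leechPerpU := by
    show (16 : ℤ) ∣ dotInt ((g₁⁻¹ • w : leechLattice) : GolayPt → ℤ)
      ((Spor.leechU : leechLattice) : GolayPt → ℤ)
    rw [← Cfsg.Agent.S5593.dot_smul g₁, smul_inv_smul, hg₁,
      ← comm_iff_dvd hE hψ hcard hw htv]
    exact toQ_comm a ha
  refine ⟨⟨g₁⁻¹ • w, hx₀⟩, ?_⟩
  have h1 : (QuotientGroup.mk (toQ a ha) : Q ⧸ Subgroup.center Q) =
      QuotientGroup.mk (lft ψ (g₁ • (g₁⁻¹ • w))) := by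
    rw [mk_lft, smul_inv_smul, hw]
  rcases central_cases hE hψ hcard htv hg₁ h1 with h | h
  · left
    exact congrArg (fun r : Q => (r : Subgroup.centralizer ({z} : Set G))) h
  · right
    exact congrArg (fun r : Q => (r : Subgroup.centralizer ({z} : Set G))) h

theorem double_iff (g : ↥Co0) (x : leechLattice) :
    (∃ w : leechLattice, g • x = w + w) ↔ ∃ w : leechLattice, x = w + w := by
  constructor
  · rintro ⟨w, hw⟩
    refine ⟨g⁻¹ • w, ?_⟩
    rw [← Cfsg.Agent.Lib.Helper92_Co0Order.smul_add', ← hw, inv_smul_smul]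
  · rintro ⟨w, hw⟩
    refine ⟨g • w, ?_⟩
    rw [← Cfsg.Agent.Lib.Helper92_Co0Order.smul_add', ← hw]

theorem mk_zq : (QuotientGroup.mk zq : Q ⧸ Subgroup.center Q) = 1 :=
  (mk_eq_one_iff_central zq).2 (hE.central)

theorem ker_A (x : leechPerpU) :
    (lft ψ (g₁ • (x : leechLattice)) = 1 ∨ lft ψ (g₁ • (x : leechLattice)) = zq) ↔
      ∃ w : leechLattice, (x : leechLattice) = w + w := by
  rw [← double_iff hE hψ hcard htv hg₁ g₁, ← hψ.2.2.1, ← mk_lft ψ, mk_eq_one_iff_central]
  exact (hE.center _).symm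

theorem ker_B1 (x : leechPerpU) :
    (lft ψ (g₁ • (x : leechLattice)) = tq ∨ lft ψ (g₁ • (x : leechLattice)) = zq * tq) ↔
      ψ (g₁ • (x : leechLattice)) = ψ v := by
  rw [← mk_lft ψ (g₁ • (x : leechLattice)), htv]
  generalize lft ψ (g₁ • (x : leechLattice)) = l
  constructor
  · rintro (h | h)
    · rw [h]
    · rw [h, QuotientGroup.mk_mul, mk_zq hE hψ hcard htv hg₁, one_mul]
  · intro h
    rcases central_cases hE hψ hcard htv hg₁ h.symm with h' | h'
    · left
      calc l = tq * (tq⁻¹ * l) := by group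
        _ = tq := by rw [h', mul_one]
    · right
      calc l = tq * (tq⁻¹ * l) := by group
        _ = zq * tq := by rw [h', hE.central]

theorem ker_B (x : leechPerpU) :
    (lft ψ (g₁ • (x : leechLattice)) = tq ∨ lft ψ (g₁ • (x : leechLattice)) = zq * tq) ↔
      ∃ w : leechLattice, (x : leechLattice) = Spor.leechU + (w + w) := by
  have h2 : ψ (g₁ • (x : leechLattice)) = ψ v ↔
      ψ (g₁ • ((x : leechLattice) - Spor.leechU)) = 1 := by
    rw [Cfsg.Agent.Lib.Helper92_OrthPairs.smul_sub', hg₁, Cfsg.Agent.S5408.ψ_sub hψ,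
      div_eq_one]
  rw [ker_B1 hE hψ hcard htv hg₁, h2, hψ.2.2.1, double_iff hE hψ hcard htv hg₁ g₁]
  constructor
  · rintro ⟨w, hw⟩
    exact ⟨w, by rw [← hw]; abel⟩
  · rintro ⟨w, hw⟩
    exact ⟨w, by rw [hw]; abel⟩

theorem psi0_ker (x : leechPerpU) :
    InN zq tq (psi0 hE hψ hcard htv hg₁ x) ↔ InKer x := by
  have hcoe : ∀ r : Q, ((psi0 hE hψ hcard htv hg₁ x : XX tq) :
      Subgroup.centralizer ({z} : Set G)) = r ↔ lft ψ (g₁ • (x : leechLattice)) = r := by
    intro r
    rw [psi0_coe]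
    exact ⟨fun h => Subtype.ext h, fun h => congrArg Subtype.val h⟩
  have hA := ker_A hE hψ hcard htv hg₁ x
  have hB := ker_B hE hψ hcard htv hg₁ x
  constructor
  · rintro (h | h | h | h)
    · exact Or.inl (hA.1 (Or.inl ((hcoe 1).1 h)))
    · exact Or.inr (hB.1 (Or.inl ((hcoe tq).1 h)))
    · exact Or.inl (hA.1 (Or.inr ((hcoe zq).1 h)))
    · exact Or.inr (hB.1 (Or.inr ((hcoe (zq * tq)).1 h)))
  · rintro (h | h)
    · rcases hA.2 h with h' | h'
      · exact Or.inl ((hcoe 1).2 h')
      · exact Or.inr (Or.inr (Or.inl ((hcoe zq).2 h')))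
    · rcases hB.2 h with h' | h'
      · exact Or.inr (Or.inl ((hcoe tq).2 h'))
      · exact Or.inr (Or.inr (Or.inr ((hcoe (zq * tq)).2 h')))

theorem psi0_equiv (hv : sqNorm (v : GolayPt → ℤ) = 32) (c : XX tq) (x y : leechPerpU)
    (hxy : phi hψ hv htv hg₁ c • (x : leechLattice) = (y : leechLattice)) :
    (((psi0 hE hψ hcard htv hg₁ y)⁻¹ * (c * psi0 hE hψ hcard htv hg₁ x * c⁻¹) : XX tq) :
        Subgroup.centralizer ({z} : Set G)) = 1 ∨
    (((psi0 hE hψ hcard htv hg₁ y)⁻¹ * (c * psi0 hE hψ hcard htv hg₁ x * c⁻¹) : XX tq) :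
        Subgroup.centralizer ({z} : Set G)) = zq := by
  rw [phi_smul] at hxy
  have h1 : g₁ • (y : leechLattice) = sig hψ hv htv c • (g₁ • (x : leechLattice)) := by
    rw [← hxy, ← mul_smul, ← mul_smul]
    congr 1
    group
  have h2 := psi_smul hψ (sig_spec hψ hv htv c).1 (mk_lft ψ (g₁ • (x : leechLattice))).symm
  rw [← h1, ← mk_lft ψ (g₁ • (y : leechLattice))] at h2
  rcases central_cases hE hψ hcard htv hg₁ h2 with h | h
  · left
    have := congrArg (fun r : Q => (r : Subgroup.centralizer ({z} : Set G))) h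
    simp only [Subgroup.coe_mul, Subgroup.coe_inv, cj_coe, Subgroup.coe_one] at this
    exact this
  · right
    have := congrArg (fun r : Q => (r : Subgroup.centralizer ({z} : Set G))) h
    simp only [Subgroup.coe_mul, Subgroup.coe_inv, cj_coe] at this
    exact this

end psi0

end Cfsg.Agent.Lib.Helper63_BabyData
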