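/-
Helper library (helper63): Monster type → Baby Monster type, part 4.
Assembly of the push-forward criterion on the Monster side.
-/
import Cfsg.Agent.Lib.Helper63_BabyData

set_option autoImplicit false
set_option linter.unusedSectionVars false
set_option linter.style.haveILetI false

namespace Cfsg.Agent.Lib.Helper63_BabyMain

open Cfsg
open Cfsg.Agent.Lib.Helper89_ESClass Cfsg.Agent.Lib.Helper63_ESForm
open Cfsg.Agent.Lib.Helper63_ESCount
open Cfsg.Agent.Lib.Helper63_MonsterForm Cfsg.Agent.Lib.Helper63_MonsterConj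
open Cfsg.Agent.Lib.Helper63_MonsterKey Cfsg.Agent.Lib.Helper63_MonsterCls
open Cfsg.Agent.Lib.Helper63_MonsterNorm Cfsg.Agent.Lib.Helper63_BabyHom
open Cfsg.Agent.Lib.Helper63_BabyPF Cfsg.Agent.Lib.Helper63_BabyData

variable {G : Type*} [Group G] [Finite G] {z : G}
  {Q : Subgroup (Subgroup.centralizer ({z} : Set G))} [Q.Normal]
  {e : (Subgroup.centralizer ({z} : Set G)) ⧸ Q ≃* Spor.Co1}
  {ψ : leechLattice → Q ⧸ Subgroup.center Q} {zq tq : Q}
  {𝔊 : Type*} [Group 𝔊] {ζ : 𝔊}

section trans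

variable (hE : IsES2 Q zq) (htc : ¬ ∀ k, tq * k = k * tq)
  (p : XX tq →* ↥(Subgroup.centralizer ({ζ} : Set 𝔊)))
  (hpker : ∀ a : XX tq, p a = 1 ↔ ((a : Subgroup.centralizer ({z} : Set G)) = 1 ∨
    (a : Subgroup.centralizer ({z} : Set G)) = tq))
  (hpz : ∀ a : XX tq, (a : Subgroup.centralizer ({z} : Set G)) = zq → p a = zetaC ζ)
include hE htc hpker hpz

theorem nz_iff (a : XX tq) : Nz p a ↔ InN zq tq a := by
  have h1 : ((p a : ↥(Subgroup.centralizer ({ζ} : Set 𝔊))) : 𝔊) = 1 ↔ p a = 1 :=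
    ⟨fun h => Subtype.ext h, fun h => congrArg Subtype.val h⟩
  have h2 : ((p a : ↥(Subgroup.centralizer ({ζ} : Set 𝔊))) : 𝔊) = ζ ↔ p a = zetaC ζ :=
    ⟨fun h => Subtype.ext h, fun h => congrArg Subtype.val h⟩
  have h3 : p a = zetaC ζ ↔ p ((qX tq zq (hE.central tq))⁻¹ * a) = 1 := by
    rw [map_mul, map_inv, hpz (qX tq zq (hE.central tq)) rfl, inv_mul_eq_one]
    exact eq_comm
  unfold Nz InN
  rw [h1, h2, h3, hpker, hpker]
  have e1 : (((qX tq zq (hE.central tq))⁻¹ * a : XX tq) : Subgroup.centralizer ({z} : Set G)) =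
      (zq : Subgroup.centralizer ({z} : Set G))⁻¹ * a := rfl
  rw [e1, inv_mul_eq_one, inv_mul_eq_iff_eq_mul]
  constructor
  · rintro ((h | h) | (h | h))
    · exact Or.inl h
    · exact Or.inr (Or.inl h)
    · exact Or.inr (Or.inr (Or.inl h.symm))
    · exact Or.inr (Or.inr (Or.inr h))
  · rintro (h | h | h | h)
    · exact Or.inl (Or.inl h)
    · exact Or.inl (Or.inr h)
    · exact Or.inr (Or.inl h.symm)
    · exact Or.inr (Or.inr h)

theorem comm_of_p {a b : XX tq} (ha : (a : Subgroup.centralizer ({z} : Set G)) ∈ Q)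
    (hb : (b : Subgroup.centralizer ({z} : Set G)) ∈ Q) (h : p (a * b) = p (b * a)) :
    a * b = b * a := by
  have h1 : p (a * b * a⁻¹ * b⁻¹) = 1 := by
    have : a * b * a⁻¹ * b⁻¹ = (a * b) * (b * a)⁻¹ := by group
    rw [this, map_mul, map_inv, h, mul_inv_cancel]
  rw [hpker] at h1
  have hone : ((a * b * a⁻¹ * b⁻¹ : XX tq) : Subgroup.centralizer ({z} : Set G)) = 1 := by
    rcases comm_mem hE ha hb with h2 | h2
    · exact h2
    · exfalso
      rw [h2] at h1
      rcases h1 with h1 | h1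
      · exact hE.ne_one (Subtype.ext h1)
      · apply htc
        have : zq = tq := Subtype.ext h1
        rw [← this]
        exact hE.central
  have h3 : a * b * a⁻¹ * b⁻¹ = 1 := Subtype.ext hone
  calc a * b = (a * b * a⁻¹ * b⁻¹) * (b * a) := by group
    _ = b * a := by rw [h3, one_mul]

end trans

/-- **Baby Monster type from Monster type**, given the quotient map `p`. -/
theorem baby_of_monster [Finite 𝔊] (hE : IsES2 Q zq) (hψ : IsLeechModTwoIso Q e ψ)
    (hcard : Nat.card Q = 2 ^ 25)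
    {v : leechLattice} (hv : sqNorm (v : GolayPt → ℤ) = 32) (htv : ψ v = QuotientGroup.mk tq)
    {g₁ : ↥Co0} (hg₁ : g₁ • Spor.leechU = v)
    (ht2 : tq * tq = 1) (htc : ¬ ∀ k, tq * k = k * tq)
    (hζ : orderOf ζ = 2)
    (p : XX tq →* ↥(Subgroup.centralizer ({ζ} : Set 𝔊))) (hp : Function.Surjective p)
    (hpker : ∀ a : XX tq, p a = 1 ↔ ((a : Subgroup.centralizer ({z} : Set G)) = 1 ∨
      (a : Subgroup.centralizer ({z} : Set G)) = tq))
    (hpz : ∀ a : XX tq, (a : Subgroup.centralizer ({z} : Set G)) = zq → p a = zetaC ζ)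
    (hwc : ∃ g : 𝔊, g * ζ * g⁻¹ ≠ ζ ∧ ∃ a : XX tq,
      (a : Subgroup.centralizer ({z} : Set G)) ∈ Q ∧
      ((p a : ↥(Subgroup.centralizer ({ζ} : Set 𝔊))) : 𝔊) = g * ζ * g⁻¹)
    (hmove : ∃ (k : ↥Spor.Co2) (x y : leechPerpU),
      k • (x : leechLattice) = (y : leechLattice) ∧ ¬ InKer (y - x)) :
    IsOfBabyMonsterType 𝔊 := by
  have hmemker : ∀ a : XX tq, a ∈ (phi hψ hv htv hg₁).ker ↔
      (a : Subgroup.centralizer ({z} : Set G)) ∈ Q := by
    intro a
    rw [MonoidHom.mem_ker]
    exact phi_eq_one_iff hψ hv htv hg₁ a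
  have hφs := phi_surjective hψ hv htv hg₁ hE
  have hker : p.ker ≤ (phi hψ hv htv hg₁).ker := by
    intro a ha
    rw [MonoidHom.mem_ker, hpker] at ha
    rw [hmemker]
    rcases ha with h | h
    · rw [h]; exact Q.one_mem
    · rw [h]; exact tq.2
  have hNz := nz_iff hE htc p hpker hpz
  have hKeq : (phi hψ hv htv hg₁).ker = Q.subgroupOf (XX tq) := by
    ext a
    rw [hmemker, Subgroup.mem_subgroupOf]
  -- the order of the image of the kernel
  have hcardK : Nat.card ↥((phi hψ hv htv hg₁).ker.map p) = 2 ^ 23 := by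
    set K := (phi hψ hv htv hg₁).ker with hK
    have hK24 : Nat.card ↥K = 2 ^ 24 := by
      rw [hKeq]
      exact card_PQ hE hcard htc
    let f : ↥K →* ↥(Subgroup.centralizer ({ζ} : Set 𝔊)) := p.comp K.subtype
    have h1 : Nat.card ↥f.ker * Nat.card ↥f.range = Nat.card ↥K := by
      rw [← Subgroup.index_ker]
      exact Subgroup.card_mul_index f.ker
    have h2 : f.range = K.map p := by
      show (p.comp K.subtype).range = K.map p
      rw [MonoidHom.range_comp, Subgroup.range_subtype]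
    have h3 : Nat.card ↥f.ker = 2 := by
      rw [Nat.card_eq_two_iff]
      let tK : ↥K := ⟨qX tq tq rfl, (hmemker _).2 tq.2⟩
      have htK : tK ∈ f.ker := by
        rw [MonoidHom.mem_ker]
        show p (qX tq tq rfl) = 1
        rw [hpker]
        exact Or.inr rfl
      refine ⟨1, ⟨tK, htK⟩, ?_, ?_⟩
      · intro h
        apply htc
        have h' : (1 : Subgroup.centralizer ({z} : Set G)) = tq :=
          congrArg (fun b : ↥f.ker => (((b : ↥K) : XX tq) : Subgroup.centralizer ({z} : Set G))) h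
        have : tq = 1 := Subtype.ext h'.symm
        rw [this]
        intro k
        rw [one_mul, mul_one]
      · ext b
        simp only [Set.mem_insert_iff, Set.mem_singleton_iff, Set.mem_univ, iff_true]
        have hb := b.2
        rw [MonoidHom.mem_ker] at hb
        have hb' : p ((b : ↥K) : XX tq) = 1 := hb
        rw [hpker] at hb'
        rcases hb' with h | h
        · left
          exact Subtype.ext (Subtype.ext (Subtype.ext h))
        · right
          exact Subtype.ext (Subtype.ext (Subtype.ext h))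
    rw [← h2]
    rw [h3, hK24] at h1
    omega
  apply isOfBabyMonsterType_of p hp (phi hψ hv htv hg₁) hφs hker hζ
  · intro a ha b hb
    exact (hNz _).2 (inN_of_central (comm_mem hE ((hmemker a).1 ha) ((hmemker b).1 hb)))
  · intro a ha
    exact (hNz _).2 (inN_of_central (sq_mem hE ((hmemker a).1 ha)))
  · intro a ha h
    apply (hNz a).2
    apply cen_mem hE ht2 htc ((hmemker a).1 ha)
    intro b hb
    exact comm_of_p hE htc p hpker hpz ((hmemker a).1 ha) hb (h b ((hmemker b).2 hb))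
  · exact ⟨qX tq zq (hE.central tq), (hmemker _).2 zq.2, hpz _ rfl⟩
  · obtain ⟨a, b, ha, hb, hab⟩ := exists_na hE hcard tq
    exact ⟨a, (hmemker a).2 ha, b, (hmemker b).2 hb,
      fun h => hab (comm_of_p hE htc p hpker hpz ha hb h)⟩
  · exact hcardK
  · exact fun x => (hmemker _).2 (psi0_mem hE hψ hcard htv hg₁ x)
  · intro x y
    exact (hNz _).2 (inN_of_central (psi0_add hE hψ hcard htv hg₁ x y))
  · intro a ha
    obtain ⟨x, hx⟩ := psi0_surj hE hψ hcard htv hg₁ a ((hmemker a).1 ha)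
    exact ⟨x, (hNz _).2 (inN_of_central hx)⟩
  · intro x
    exact (hNz _).trans (psi0_ker hE hψ hcard htv hg₁ x)
  · intro c x y hxy
    exact (hNz _).2 (inN_of_central (psi0_equiv hE hψ hcard htv hg₁ hv c x y hxy))
  · obtain ⟨g, hg, a, ha, hpa⟩ := hwc
    exact ⟨g, hg, a, (hmemker a).2 ha, hpa⟩
  · exact hmove

end Cfsg.Agent.Lib.Helper63_BabyMain
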