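import Cfsg.Agent.Lib.Helper92_LeechMod2
import Cfsg.Agent.S1571

/-!
The order of the automorphism group of the rank-24 lattice, assuming that it permutes transitively
the classes modulo twice the lattice of the vectors of sum of squares 64: orbit-stabiliser for the
action on the 8292375 crosses, the stabiliser of the standard cross being the monomial group.
-/

set_option autoImplicit false
open scoped Pointwise
open Cfsg

namespace Cfsg.Agent.Lib.Helper92_Co0Order

open Cfsg.Agent.Lib.Helper7_M24 Cfsg.Agent.Lib.Helper7_Leech Cfsg.Agent.Lib.Helper92_LeechMod2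
open Cfsg.Agent.S5546 (Lam vec8 e8 addHom addHom_apply)

/-! ### the action on classes -/

theorem smul_def' (g : ↥Co0) (v : Lam) : g • v = g.1 v := rfl

theorem smul_add' (g : ↥Co0) (v w : Lam) : g • (v + w) = g • v + g • w := g.2.1 v w

theorem sqNorm_smul (g : ↥Co0) (v : Lam) :
    sqNorm ((g • v : Lam) : GolayPt → ℤ) = sqNorm (v : GolayPt → ℤ) := g.2.2 v

theorem cls_smul (g : ↥Co0) {v w : Lam} (h : cls v = cls w) : cls (g • v) = cls (g • w) := by
  rw [cls_eq_iff] at h ⊢
  obtain ⟨z, hz, hvw⟩ := h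
  have hv : v = w + (⟨z, hz⟩ + ⟨z, hz⟩) := by
    apply Subtype.ext
    show (v : GolayPt → ℤ) = (w : GolayPt → ℤ) + (z + z)
    rw [← two_smul ℕ z, ← hvw]
    abel
  refine ⟨((g • (⟨z, hz⟩ : Lam) : Lam) : GolayPt → ℤ), (g • (⟨z, hz⟩ : Lam)).2, ?_⟩
  rw [hv, smul_add', smul_add']
  show ((g • w : Lam) : GolayPt → ℤ) + (((g • (⟨z, hz⟩ : Lam) : Lam) : GolayPt → ℤ) +
    ((g • (⟨z, hz⟩ : Lam) : Lam) : GolayPt → ℤ)) - ((g • w : Lam) : GolayPt → ℤ) = _
  rw [two_smul]
  abel

/-- The cross through a lattice vector, as a set of elements of the lattice. -/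
def crossOf (v : Lam) : Set Lam := {w | sqNorm (w : GolayPt → ℤ) = 64 ∧ cls w = cls v}

theorem smul_crossOf (g : ↥Co0) (v : Lam) : g • crossOf v = crossOf (g • v) := by
  ext w
  rw [Set.mem_smul_set]
  constructor
  · rintro ⟨u, ⟨hu1, hu2⟩, rfl⟩
    exact ⟨by rw [sqNorm_smul]; exact hu1, cls_smul g hu2⟩
  · rintro ⟨hw1, hw2⟩
    refine ⟨g⁻¹ • w, ⟨by rw [sqNorm_smul]; exact hw1, ?_⟩, smul_inv_smul g w⟩
    have := cls_smul g⁻¹ hw2
    rwa [inv_smul_smul] at this

theorem crossOf_congr {v v' : Lam} (h : cls v = cls v') : crossOf v = crossOf v' := by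
  unfold crossOf
  rw [h]

/-! ### the standard cross -/

/-- The standard cross, as a set of elements of the lattice. -/
def X0 : Set Lam := crossOf (e8 none)

theorem sqNorm_single (i : GolayPt) (s : ℤ) : sqNorm (Pi.single i s : GolayPt → ℤ) = s ^ 2 := by
  unfold sqNorm
  have h : ∀ j, (Pi.single i s : GolayPt → ℤ) j ^ 2 = if j = i then s ^ 2 else 0 := by
    intro j
    rw [Pi.single_apply]
    by_cases hj : j = i
    · rw [if_pos hj, if_pos hj]
    · rw [if_neg hj, if_neg hj]; rfl
  rw [Finset.sum_congr rfl (fun j _ => h j), Finset.sum_ite_eq' Finset.univ i,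
    if_pos (Finset.mem_univ i)]

theorem sqNorm_e8 (i : GolayPt) : sqNorm ((e8 i : Lam) : GolayPt → ℤ) = 64 := by
  show sqNorm (vec8 i) = 64
  rw [Cfsg.Agent.S1571.vec8_eq_single, sqNorm_single]; rfl

/-- The vectors of the standard cross are congruent to `8 e_∞` modulo twice the lattice. -/
theorem single_congr (i : GolayPt) (s : ℤ) (hs : s = 8 ∨ s = -8) :
    ∃ z ∈ leechLattice, (Pi.single i s : GolayPt → ℤ) - vec8 none = 2 • z := by
  by_cases hi : i = none
  · subst hi
    rcases hs with rfl | rfl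
    · refine ⟨0, leechLattice.zero_mem, ?_⟩
      rw [Cfsg.Agent.S1571.vec8_eq_single, sub_self, smul_zero]
    · refine ⟨-vec8 none, leechLattice.neg_mem (e8 none).2, ?_⟩
      rw [Cfsg.Agent.S1571.vec8_eq_single]
      funext j
      rw [Pi.sub_apply, Pi.smul_apply, Pi.neg_apply, Pi.single_apply, Pi.single_apply]
      by_cases hj : j = none
      · rw [if_pos hj, if_pos hj]; rfl
      · rw [if_neg hj, if_neg hj]; rfl
  · rcases hs with rfl | rfl
    · refine ⟨Cfsg.Agent.S0394.sgn 4 {i, none} {none},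
        (mem_leechLattice_iff _).mpr (Cfsg.Agent.S0394.sgn_four_mem _ _ (Finset.card_pair hi)
          (by intro j hj; rw [Finset.mem_singleton] at hj; rw [hj]; simp)), ?_⟩
      funext j
      rw [Pi.sub_apply, Pi.smul_apply, Cfsg.Agent.S1571.vec8_apply, Pi.single_apply]
      unfold Cfsg.Agent.S0394.sgn
      by_cases h1 : j = i
      · subst h1
        simp [hi]
      · by_cases h2 : j = none
        · subst h2
          simp [h1]
        · simp [h1, h2]
    · refine ⟨Cfsg.Agent.S0394.sgn 4 {i, none} {i, none},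
        (mem_leechLattice_iff _).mpr (Cfsg.Agent.S0394.sgn_four_mem _ _ (Finset.card_pair hi)
          (Finset.Subset.refl _)), ?_⟩
      funext j
      rw [Pi.sub_apply, Pi.smul_apply, Cfsg.Agent.S1571.vec8_apply, Pi.single_apply]
      unfold Cfsg.Agent.S0394.sgn
      by_cases h1 : j = i
      · subst h1
        simp [hi]
      · by_cases h2 : j = none
        · subst h2
          simp [h1]
        · simp [h1, h2]

theorem stdCross_sub (w : Lam) (hw : (w : GolayPt → ℤ) ∈ stdCross) : w ∈ X0 := by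
  obtain ⟨i, s, hs, hws⟩ := hw
  refine ⟨?_, ?_⟩
  · rw [hws, sqNorm_single]
    rcases hs with rfl | rfl <;> rfl
  · rw [cls_eq_iff, hws]
    exact single_congr i s hs

theorem stdCross_eq_EightFam : stdCross = Cfsg.Agent.S0396.EightFam := by
  ext y
  constructor
  · rintro ⟨i, s, hs, rfl⟩
    rcases hs with rfl | rfl
    · refine ⟨(i, false), ?_⟩
      funext j
      rw [Pi.single_apply]
      rcases Cfsg.Agent.S0396.eight_val i false j with ⟨hj, e⟩ | ⟨_, hb, _⟩ | ⟨hj, _, e⟩
      · beta_reduce; rw [e, if_neg hj]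
      · exact absurd hb (by decide)
      · beta_reduce; rw [e, if_pos hj]
    · refine ⟨(i, true), ?_⟩
      funext j
      rw [Pi.single_apply]
      rcases Cfsg.Agent.S0396.eight_val i true j with ⟨hj, e⟩ | ⟨hj, _, e⟩ | ⟨_, hb, _⟩
      · beta_reduce; rw [e, if_neg hj]
      · beta_reduce; rw [e, if_pos hj]
      · exact absurd hb (by decide)
  · rintro ⟨⟨i, b⟩, rfl⟩
    cases b
    · refine ⟨i, 8, Or.inl rfl, ?_⟩
      funext j
      rw [Pi.single_apply]
      rcases Cfsg.Agent.S0396.eight_val i false j with ⟨hj, e⟩ | ⟨_, hb, _⟩ | ⟨hj, _, e⟩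
      · beta_reduce; rw [e, if_neg hj]
      · exact absurd hb (by decide)
      · beta_reduce; rw [e, if_pos hj]
    · refine ⟨i, -8, Or.inr rfl, ?_⟩
      funext j
      rw [Pi.single_apply]
      rcases Cfsg.Agent.S0396.eight_val i true j with ⟨hj, e⟩ | ⟨hj, _, e⟩ | ⟨_, hb, _⟩
      · beta_reduce; rw [e, if_neg hj]
      · beta_reduce; rw [e, if_pos hj]
      · exact absurd hb (by decide)

/-- The elements of the lattice lying in the standard cross. -/
def X0' : Set Lam := {w | (w : GolayPt → ℤ) ∈ stdCross}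

theorem X0'_ncard : X0'.ncard = 48 := by
  rw [← Set.ncard_image_of_injective X0' Subtype.val_injective]
  have : Subtype.val '' X0' = stdCross := by
    ext y
    constructor
    · rintro ⟨w, hw, rfl⟩; exact hw
    · intro hy
      have hyL : y ∈ leechLattice := by
        rw [stdCross_eq_EightFam] at hy
        exact (Cfsg.Agent.S0396.EightFam_sub y hy).1
      exact ⟨⟨y, hyL⟩, hy, rfl⟩
  rw [this, stdCross_eq_EightFam, Cfsg.Agent.S0396.EightFam_ncard]

theorem crossOf_ncard (v : Lam) (hv : sqNorm (v : GolayPt → ℤ) = 64) : (crossOf v).ncard = 48 := by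
  rw [← card_class_64 v v.2 hv, ← Set.ncard_image_of_injective (crossOf v) Subtype.val_injective]
  congr 1
  ext y
  constructor
  · rintro ⟨w, ⟨hw1, hw2⟩, rfl⟩
    exact ⟨w.2, hw1, (cls_eq_iff v w).mp hw2.symm⟩
  · rintro ⟨hy, hyn, hc⟩
    exact ⟨⟨y, hy⟩, ⟨hyn, ((cls_eq_iff v ⟨y, hy⟩).mpr hc).symm⟩, rfl⟩

theorem crossOf_finite (v : Lam) (hv : sqNorm (v : GolayPt → ℤ) = 64) : (crossOf v).Finite :=
  Set.finite_of_ncard_ne_zero (by rw [crossOf_ncard v hv]; decide)

theorem X0_eq : X0 = X0' := by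
  have hsub : X0' ⊆ X0 := fun w hw => stdCross_sub w hw
  have hfin : X0.Finite := crossOf_finite _ (sqNorm_e8 none)
  have hle : X0.ncard ≤ X0'.ncard := by
    rw [X0'_ncard]
    unfold X0
    rw [crossOf_ncard _ (sqNorm_e8 none)]
  exact (Set.eq_of_subset_of_ncard_le hsub hle hfin).symm

/-! ### the stabiliser of the standard cross -/

theorem mem_stabilizer_iff (g : ↥Co0) :
    g ∈ MulAction.stabilizer ↥Co0 X0 ↔ Cfsg.Agent.S1571.P g := by
  rw [MulAction.mem_stabilizer_iff]
  constructor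
  · intro h v hv
    have hv0 : v ∈ X0 := by rw [X0_eq]; exact hv
    have : g • v ∈ g • X0 := Set.smul_mem_smul_set hv0
    rw [h, X0_eq] at this
    exact this
  · intro h
    have hsub : g • X0 ⊆ X0 := by
      intro w hw
      obtain ⟨u, hu, rfl⟩ := Set.mem_smul_set.mp hw
      rw [X0_eq] at hu ⊢
      exact h u hu
    have hfin : X0.Finite := crossOf_finite _ (sqNorm_e8 none)
    apply Set.eq_of_subset_of_ncard_le hsub _ hfin
    have : (g • X0).ncard = X0.ncard :=
      Set.ncard_image_of_injective X0 (MulAction.injective g)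
    rw [this]

theorem card_stabilizer :
    Nat.card (MulAction.stabilizer ↥Co0 X0) = 4096 * 244823040 := by
  rw [← Cfsg.Agent.S1571.card_stab]
  exact Nat.card_congr (Equiv.subtypeEquivRight mem_stabilizer_iff)

/-! ### the orbit of the standard cross -/

theorem orbit_eq (htrans : ∀ v w : Lam, sqNorm (v : GolayPt → ℤ) = 64 →
    sqNorm (w : GolayPt → ℤ) = 64 → ∃ g : ↥Co0, ∃ z ∈ leechLattice,
      ((g • v : Lam) : GolayPt → ℤ) - (w : GolayPt → ℤ) = 2 • z) :
    MulAction.orbit ↥Co0 X0 = crossOf '' (Sn 64) := by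
  ext Y
  constructor
  · rintro ⟨g, rfl⟩
    refine ⟨g • e8 none, ?_, ?_⟩
    · show sqNorm ((g • e8 none : Lam) : GolayPt → ℤ) = 64
      rw [sqNorm_smul]; exact sqNorm_e8 none
    · show crossOf (g • e8 none) = g • X0
      unfold X0
      rw [smul_crossOf]
  · rintro ⟨v, hv, rfl⟩
    obtain ⟨g, z, hz, hgz⟩ := htrans (e8 none) v (sqNorm_e8 none) hv
    refine ⟨g, ?_⟩
    show g • X0 = crossOf v
    unfold X0
    rw [smul_crossOf]
    apply crossOf_congr
    rw [cls_eq_iff]
    exact ⟨z, hz, hgz⟩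

/-- The number of crosses. -/
theorem crosses_ncard : (crossOf '' (Sn 64)).ncard = 8292375 := by
  classical
  -- pass to the classes
  have h1 : crossOf '' (Sn 64) = (fun t : T => {w : Lam | sqNorm (w : GolayPt → ℤ) = 64 ∧
      cls w = t}) '' (cls '' (Sn 64)) := by
    rw [Set.image_image]
    rfl
  have hinj : Set.InjOn (fun t : T => {w : Lam | sqNorm (w : GolayPt → ℤ) = 64 ∧ cls w = t})
      (cls '' (Sn 64)) := by
    rintro _ ⟨v, hv, rfl⟩ _ ⟨v', hv', rfl⟩ h
    have hmem : v ∈ {w : Lam | sqNorm (w : GolayPt → ℤ) = 64 ∧ cls w = cls v} := ⟨hv, rfl⟩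
    beta_reduce at h
    rw [h] at hmem
    exact hmem.2
  rw [h1, hinj.ncard_image]
  -- count the classes through the fibres
  have hF : cls '' (Sn 64) = ((fin_64.toFinset.image cls : Finset T) : Set T) := by
    rw [Finset.coe_image, Set.Finite.coe_toFinset]
  rw [hF, Set.ncard_coe_finset]
  have hsum := Finset.card_eq_sum_card_image cls fin_64.toFinset
  have hfib : ∀ t ∈ fin_64.toFinset.image cls,
      (fin_64.toFinset.filter (fun v => cls v = t)).card = 48 := by
    intro t ht
    obtain ⟨v, hv, rfl⟩ := Finset.mem_image.mp ht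
    rw [Set.Finite.mem_toFinset] at hv
    rw [← crossOf_ncard v hv, ← Set.ncard_coe_finset]
    congr 1
    ext w
    rw [Finset.mem_coe, Finset.mem_filter, Set.Finite.mem_toFinset]
    rfl
  rw [Finset.sum_congr rfl hfib, Finset.sum_const, smul_eq_mul,
    ← Set.ncard_eq_toFinset_card _ fin_64, ncard_64] at hsum
  omega

/-- The order of the automorphism group, from transitivity on crosses. -/
theorem card_Co0 (htrans : ∀ v w : Lam, sqNorm (v : GolayPt → ℤ) = 64 →
    sqNorm (w : GolayPt → ℤ) = 64 → ∃ g : ↥Co0, ∃ z ∈ leechLattice,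
      ((g • v : Lam) : GolayPt → ℤ) - (w : GolayPt → ℤ) = 2 • z) :
    Nat.card ↥Co0 = 8315553613086720000 := by
  have h1 := Subgroup.card_mul_index (MulAction.stabilizer ↥Co0 X0)
  rw [MulAction.index_stabilizer, orbit_eq htrans, crosses_ncard, card_stabilizer] at h1
  rw [← h1]

end Cfsg.Agent.Lib.Helper92_Co0Order
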