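import Cfsg.Agent.S1571
import Cfsg.Agent.Lib.Helper92_Co0Order
import Cfsg.Agent.Lib.Helper7_Base

/-!
The calculus of the monomial subgroup `2^12 : M24` of the automorphism group of the lattice: the
sign changes `eps u` on the code words, the coordinate permutations `perm σ`, their products, and
the description of the stabiliser of the standard cross through them.
-/

set_option autoImplicit false
open scoped Pointwise
open Cfsg

namespace Cfsg.Agent.Lib.Helper7_Mono

open Cfsg.Agent.Lib.Helper7_M24 Cfsg.Agent.Lib.Helper7_Leech Cfsg.Agent.Lib.Helper92_Monomial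
open Cfsg.Agent.S5546 (Lam vec8 e8)

/-- Two elements of the group acting in the same way on all vectors are equal. -/
theorem ext_elt {g h : ↥Co0} (H : ∀ v : Lam, ((g • v : Lam) : GolayPt → ℤ) = ((h • v : Lam) : GolayPt → ℤ)) :
    g = h := by
  apply Subtype.ext
  apply Equiv.ext
  intro v
  exact Subtype.ext (H v)

theorem mul_smul' (g h : ↥Co0) (v : Lam) : (g * h) • v = g • (h • v) := rfl

/-- The sign change on the support of a code word. -/
def eps (u : ↥golayCode) : ↥Co0 :=
  ⟨monoPerm 1 M24.one_mem u.1 u.2, monoPerm_mem_Co0 1 M24.one_mem u.1 u.2⟩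

/-- The coordinate permutation by an element of `M24`. -/
def perm (σ : ↥M24) : ↥Co0 :=
  ⟨monoPerm σ.1 σ.2 0 golayCode.zero_mem, monoPerm_mem_Co0 σ.1 σ.2 0 golayCode.zero_mem⟩

theorem eps_apply (u : ↥golayCode) (v : Lam) :
    ((eps u • v : Lam) : GolayPt → ℤ) = signFlip (support₂ u.1) v.1 := rfl

theorem support₂_zero : support₂ (0 : GolayPt → ZMod 2) = ∅ := by
  ext p
  rw [mem_support₂]
  simp

theorem perm_apply (σ : ↥M24) (v : Lam) :
    ((perm σ • v : Lam) : GolayPt → ℤ) = permVec σ.1 v.1 := by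
  show signedPerm σ.1 (support₂ 0) v.1 = permVec σ.1 v.1
  rw [signedPerm_eq, support₂_zero]
  funext i
  exact signFlip_of_notMem (Finset.notMem_empty i) _

theorem eps_add (u w : ↥golayCode) : eps (u + w) = eps u * eps w := by
  apply ext_elt
  intro v
  rw [mul_smul', eps_apply, eps_apply, eps_apply]
  funext i
  show signFlip (support₂ (u.1 + w.1)) v.1 i = _
  rw [Cfsg.Agent.Lib.Helper7_Base.support₂_add']
  unfold signFlip
  by_cases h1 : i ∈ support₂ u.1 <;> by_cases h2 : i ∈ support₂ w.1 <;>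
    simp [Finset.mem_symmDiff, h1, h2]

theorem eps_zero : eps 0 = 1 := by
  apply ext_elt
  intro v
  rw [eps_apply, one_smul]
  show signFlip (support₂ 0) v.1 = v.1
  rw [support₂_zero]
  funext i
  exact signFlip_of_notMem (Finset.notMem_empty i) _

theorem eps_mul_self (u : ↥golayCode) : eps u * eps u = 1 := by
  rw [← eps_add]
  have : u + u = 0 := by
    apply Subtype.ext
    exact Cfsg.Agent.Lib.Helper7_Base.add_self_word u.1
  rw [this, eps_zero]

theorem eps_inv (u : ↥golayCode) : (eps u)⁻¹ = eps u :=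
  inv_eq_of_mul_eq_one_left (eps_mul_self u)

theorem eps_comm (u w : ↥golayCode) : eps u * eps w = eps w * eps u := by
  rw [← eps_add, ← eps_add, add_comm]

theorem perm_mul (σ τ : ↥M24) : perm (σ * τ) = perm σ * perm τ := by
  apply ext_elt
  intro v
  rw [mul_smul', perm_apply, perm_apply, perm_apply]
  rfl

theorem perm_one : perm 1 = 1 := by
  apply ext_elt
  intro v
  rw [perm_apply, one_smul]
  rfl

/-- The coordinate permutations, as a homomorphism. -/
def permHom : ↥M24 →* ↥Co0 where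
  toFun := perm
  map_one' := perm_one
  map_mul' := perm_mul

theorem permHom_apply (σ : ↥M24) : permHom σ = perm σ := rfl

/-- The action of `M24` on the code. -/
def act (σ : ↥M24) (c : ↥golayCode) : ↥golayCode :=
  ⟨permWord σ.1 c.1, permWord_mem_of_mem_M24 σ.2 c.2⟩

theorem act_coe (σ : ↥M24) (c : ↥golayCode) : (act σ c).1 = permWord σ.1 c.1 := rfl

theorem perm_mul_eps (σ : ↥M24) (c : ↥golayCode) : perm σ * eps c = eps (act σ c) * perm σ := by
  apply ext_elt
  intro v
  rw [mul_smul', mul_smul', perm_apply, eps_apply, eps_apply, perm_apply]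
  funext j
  have hiff : j ∈ support₂ (act σ c).1 ↔ σ.1.symm j ∈ support₂ c.1 := by
    rw [act_coe, mem_support₂, mem_support₂, permWord_apply]
  unfold signFlip permVec
  by_cases h : σ.1.symm j ∈ support₂ c.1
  · rw [if_pos (hiff.mpr h)]
    exact if_pos h
  · rw [if_neg (fun h' => h (hiff.mp h'))]
    exact if_neg h

theorem perm_conj_eps (σ : ↥M24) (c : ↥golayCode) :
    perm σ * eps c * (perm σ)⁻¹ = eps (act σ c) := by
  rw [perm_mul_eps, mul_assoc, mul_inv_cancel, mul_one]

/-- The general monomial element. -/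
theorem mono_eq (σ : ↥M24) (u : ↥golayCode) :
    (⟨monoPerm σ.1 σ.2 u.1 u.2, monoPerm_mem_Co0 σ.1 σ.2 u.1 u.2⟩ : ↥Co0) = eps u * perm σ := by
  apply ext_elt
  intro v
  rw [mul_smul', eps_apply, perm_apply]
  rfl

/-- The stabiliser of the standard cross. -/
def N : Subgroup ↥Co0 := MulAction.stabilizer ↥Co0 Cfsg.Agent.Lib.Helper92_Co0Order.X0

theorem mem_N_iff (g : ↥Co0) : g ∈ N ↔ Cfsg.Agent.S1571.P g :=
  Cfsg.Agent.Lib.Helper92_Co0Order.mem_stabilizer_iff g

theorem exists_of_mem_N {g : ↥Co0} (hg : g ∈ N) : ∃ (σ : ↥M24) (u : ↥golayCode), g = eps u * perm σ := by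
  obtain ⟨⟨σ, u⟩, h⟩ := Cfsg.Agent.S1571.Φ_surjective ⟨g, (mem_N_iff g).mp hg⟩
  refine ⟨σ, u, ?_⟩
  rw [← mono_eq]
  exact (congrArg Subtype.val h).symm

theorem mono_mem_N (σ : ↥M24) (u : ↥golayCode) : eps u * perm σ ∈ N := by
  rw [mem_N_iff, ← mono_eq]
  exact (Cfsg.Agent.S1571.Φ (σ, u)).2

theorem eps_mem_N (u : ↥golayCode) : eps u ∈ N := by
  have := mono_mem_N 1 u
  rwa [perm_one, mul_one] at this

theorem perm_mem_N (σ : ↥M24) : perm σ ∈ N := by
  have := mono_mem_N σ 0
  rwa [eps_zero, one_mul] at this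

/-- Conjugation of a sign change by an element of the stabiliser. -/
theorem conj_eps_of_mem_N {g : ↥Co0} (hg : g ∈ N) (c : ↥golayCode) :
    ∃ c' : ↥golayCode, g * eps c * g⁻¹ = eps c' := by
  obtain ⟨σ, u, rfl⟩ := exists_of_mem_N hg
  refine ⟨act σ c, ?_⟩
  rw [mul_inv_rev, ← perm_conj_eps]
  have : eps u * perm σ * eps c * ((perm σ)⁻¹ * (eps u)⁻¹) =
      eps u * (perm σ * eps c * (perm σ)⁻¹) * (eps u)⁻¹ := by group
  rw [this, perm_conj_eps, eps_comm, mul_assoc, mul_inv_cancel, mul_one]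

/-- Injectivity of the parametrisation. -/
theorem mono_injective {σ τ : ↥M24} {u w : ↥golayCode} (h : eps u * perm σ = eps w * perm τ) :
    σ = τ ∧ u = w := by
  rw [← mono_eq, ← mono_eq] at h
  have h2 : Cfsg.Agent.S1571.Φ (σ, u) = Cfsg.Agent.S1571.Φ (τ, w) := Subtype.ext h
  have h3 := Cfsg.Agent.S1571.Φ_injective h2
  exact ⟨congrArg Prod.fst h3, congrArg Prod.snd h3⟩

end Cfsg.Agent.Lib.Helper7_Mono
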