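/-
Helper library (helper63): Monster type → Baby Monster type, part 5.
An element of `Co2` acting non-trivially on the module `leechPerpU` modulo `⟨u, 2Λ⟩`.
-/
import Cfsg.Agent.Lib.Helper63_BabyHom
import Cfsg.Agent.Lib.Helper63_BabyPF
import Cfsg.Agent.Lib.Helper7_Mono
import Cfsg.Agent.Lib.Helper7_Bits

set_option autoImplicit false

namespace Cfsg.Agent.Lib.Helper63_BabyMove

open Cfsg
open Cfsg.Agent.Lib.Helper7_Bits Cfsg.Agent.Lib.Helper7_Mono Cfsg.Agent.Lib.Helper92_Monomial
open Cfsg.Agent.Lib.Helper63_BabyHom Cfsg.Agent.Lib.Helper63_BabyPF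
open Cfsg.Agent.Lib.Helper63_MonsterNorm

/-- the code word `qrWord 1`, avoiding the points `∞` and `0` -/
def cw : ↥golayCode := ⟨toWord (genMask 1), toWord_genMask_mem 1⟩

/-- `4 e_1 + 4 e_6` -/
def vx : GolayPt → ℤ := fun p => if p = some 1 ∨ p = some 6 then 4 else 0

/-- `-4 e_1 + 4 e_6` -/
def vy : GolayPt → ℤ := fun p => if p = some 1 then -4 else if p = some 6 then 4 else 0

theorem vx_mem : vx ∈ leechLattice :=
  AddSubgroup.subset_closure
    (Spor.mem_leechSet_of_const_mod_four vx 0 0 (by decide) (by decide) (by decide))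

theorem vy_mem : vy ∈ leechLattice :=
  AddSubgroup.subset_closure
    (Spor.mem_leechSet_of_const_mod_four vy 0 0 (by decide) (by decide) (by decide))

/-- `vx` in the lattice -/
def lx : leechLattice := ⟨vx, vx_mem⟩

/-- `vy` in the lattice -/
def ly : leechLattice := ⟨vy, vy_mem⟩

theorem lx_perp : lx ∈ leechPerpU := by
  show (16 : ℤ) ∣ dotInt vx Spor.vecU
  decide +kernel

theorem ly_perp : ly ∈ leechPerpU := by
  show (16 : ℤ) ∣ dotInt vy Spor.vecU
  decide +kernel

theorem eps_fix : eps cw • Spor.leechU = Spor.leechU := by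
  apply Subtype.ext
  rw [eps_apply]
  funext p
  revert p
  decide +kernel

theorem eps_lx : eps cw • lx = ly := by
  apply Subtype.ext
  rw [eps_apply]
  funext p
  revert p
  decide +kernel

theorem sqNorm_double (w : leechLattice) :
    sqNorm ((w + w : leechLattice) : GolayPt → ℤ) = 4 * sqNorm (w : GolayPt → ℤ) := by
  have h2 : ((w + w : leechLattice) : GolayPt → ℤ) = (2 : ℤ) • (w : GolayPt → ℤ) := by
    rw [AddSubgroup.coe_add, two_smul]
  rw [h2, sqNorm_smul]
  norm_num

theorem norm_d : sqNorm (vy - vx) = 64 := by decide +kernel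

theorem norm_d' : sqNorm (vy - vx - Spor.vecU) = 96 := by decide +kernel

theorem not_inKer : ¬ InKer ((⟨ly, ly_perp⟩ : leechPerpU) - ⟨lx, lx_perp⟩) := by
  rintro (⟨w, hw⟩ | ⟨w, hw⟩)
  · have h1 : sqNorm ((w + w : leechLattice) : GolayPt → ℤ) = 64 := by
      rw [← hw]
      exact norm_d
    rw [sqNorm_double] at h1
    have hne : (w : GolayPt → ℤ) ≠ 0 := by
      intro h
      rw [h] at h1
      simp [sqNorm] at h1
    have := Cfsg.Agent.S0391.result (w : GolayPt → ℤ) w.2 hne
    omega
  · have h' : vy - vx = Spor.vecU + ((w + w : leechLattice) : GolayPt → ℤ) :=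
      congrArg Subtype.val hw
    have h1 : sqNorm ((w + w : leechLattice) : GolayPt → ℤ) = 96 := by
      rw [← norm_d', h', add_sub_cancel_left]
    rw [sqNorm_double] at h1
    obtain ⟨k, hk⟩ := Cfsg.Agent.S0392.result (w : GolayPt → ℤ) w.2
    omega

/-- an element of `Co2` acting non-trivially on the module -/
theorem exists_move : ∃ (k : ↥Spor.Co2) (x y : leechPerpU),
    k • (x : leechLattice) = (y : leechLattice) ∧ ¬ InKer (y - x) :=
  ⟨toCo2 (eps cw) eps_fix, ⟨lx, lx_perp⟩, ⟨ly, ly_perp⟩, eps_lx, not_inKer⟩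

end Cfsg.Agent.Lib.Helper63_BabyMove
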