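import Mathlib
import Cfsg.Agent.Lib.Helper7_Mono
import Cfsg.Agent.S5548
import Cfsg.Agent.S0365
import Cfsg.Agent.S0364
import Cfsg.Agent.S5553
import Cfsg.Agent.S0398

/-!
Normal 2-subgroups of the monomial group `N = 2^12 : M24` of `Co0`: a subgroup of `N`, normalized by
`N`, of exponent dividing 8 and not central, is the group of sign changes.
-/

set_option autoImplicit false
open Cfsg

namespace Cfsg.Agent.Lib.Helper63_MonoNormal

open Cfsg.Agent.Lib.Helper7_Mono Cfsg.Agent.Lib.Helper7_M24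

theorem mono_mul (u w : ↥golayCode) (σ τ : ↥M24) :
    (eps u * perm σ) * (eps w * perm τ) = eps (u + act σ w) * perm (σ * τ) := by
  rw [eps_add, perm_mul]
  calc eps u * perm σ * (eps w * perm τ) = eps u * (perm σ * eps w) * perm τ := by group
    _ = eps u * (eps (act σ w) * perm σ) * perm τ := by rw [perm_mul_eps]
    _ = eps u * eps (act σ w) * (perm σ * perm τ) := by group

theorem mono_inv (u : ↥golayCode) (σ : ↥M24) :
    (eps u * perm σ)⁻¹ = eps (act σ⁻¹ u) * perm σ⁻¹ := by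
  have hp : (perm σ)⁻¹ = perm σ⁻¹ := by
    apply inv_eq_of_mul_eq_one_left
    rw [← perm_mul, inv_mul_cancel, perm_one]
  rw [mul_inv_rev, eps_inv, hp, perm_mul_eps]

theorem mono_pow (u : ↥golayCode) (σ : ↥M24) (k : ℕ) :
    ∃ w : ↥golayCode, (eps u * perm σ) ^ k = eps w * perm (σ ^ k) := by
  induction k with
  | zero => exact ⟨0, by rw [pow_zero, pow_zero, eps_zero, perm_one, one_mul]⟩
  | succ k ih =>
    obtain ⟨w, hw⟩ := ih
    exact ⟨w + act (σ ^ k) u, by rw [pow_succ, hw, mono_mul, pow_succ]⟩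

theorem eps_injective {u w : ↥golayCode} (h : eps u = eps w) : u = w := by
  have h1 : eps u * perm 1 = eps w * perm 1 := by rw [h]
  exact (mono_injective h1).2

theorem perm_conj (τ σ : ↥M24) (u : ↥golayCode) :
    perm τ * (eps u * perm σ) * (perm τ)⁻¹ = eps (act τ u) * perm (τ * σ * τ⁻¹) := by
  have hp : (perm τ)⁻¹ = perm τ⁻¹ := by
    apply inv_eq_of_mul_eq_one_left
    rw [← perm_mul, inv_mul_cancel, perm_one]
  rw [perm_mul, perm_mul, hp]
  calc perm τ * (eps u * perm σ) * perm τ⁻¹ = (perm τ * eps u) * perm σ * perm τ⁻¹ := by group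
    _ = eps (act τ u) * perm τ * perm σ * perm τ⁻¹ := by rw [perm_mul_eps]
    _ = eps (act τ u) * (perm τ * perm σ * perm τ⁻¹) := by group

/-- the all-ones code word -/
def oneWord : ↥golayCode := ⟨1, Submodule.subset_span (Or.inr rfl)⟩

theorem negElt_eq : Cfsg.Agent.S0398.negElt = eps oneWord := by
  apply ext_elt
  intro v
  rw [eps_apply]
  show ((-v : leechLattice) : GolayPt → ℤ) = _
  funext i
  have hi : i ∈ support₂ (oneWord : ↥golayCode).1 := by
    rw [mem_support₂]; rfl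
  rw [Cfsg.Agent.Lib.Helper92_Monomial.signFlip_of_mem hi]
  rfl

theorem eps_mem_center_iff (u : ↥golayCode) :
    eps u ∈ Subgroup.center ↥Co0 ↔ u = 0 ∨ u = oneWord := by
  constructor
  · intro h
    rcases Cfsg.Agent.S0398.center_cases _ h with h1 | h1
    · left
      rw [← eps_zero] at h1
      exact eps_injective h1
    · right
      rw [negElt_eq] at h1
      exact eps_injective h1
  · rintro (rfl | rfl)
    · rw [eps_zero]; exact Subgroup.one_mem _
    · rw [← negElt_eq]; exact Cfsg.Agent.S0398.negElt_mem_center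

/-- the main statement on normal 2-subgroups of the monomial group -/
theorem eq_eps_of_normal (M0 : Subgroup ↥Co0) (hle : M0 ≤ N)
    (hnorm : ∀ n ∈ N, ∀ m ∈ M0, n * m * n⁻¹ ∈ M0) (h8 : ∀ m ∈ M0, m ^ 8 = 1)
    (hnc : ∃ m ∈ M0, m ∉ Subgroup.center ↥Co0) :
    ∀ m : ↥Co0, m ∈ M0 ↔ ∃ u : ↥golayCode, m = eps u := by
  -- the permutation parts
  let Pσ : Subgroup ↥M24 :=
    { carrier := {σ | ∃ u : ↥golayCode, eps u * perm σ ∈ M0}
      one_mem' := ⟨0, by rw [eps_zero, perm_one, one_mul]; exact M0.one_mem⟩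
      mul_mem' := by
        rintro σ τ ⟨u, hu⟩ ⟨w, hw⟩
        exact ⟨u + act σ w, by rw [← mono_mul]; exact M0.mul_mem hu hw⟩
      inv_mem' := by
        rintro σ ⟨u, hu⟩
        exact ⟨act σ⁻¹ u, by rw [← mono_inv]; exact M0.inv_mem hu⟩ }
  have hPn : Pσ.Normal := by
    constructor
    rintro σ ⟨u, hu⟩ τ
    exact ⟨act τ u, by rw [← perm_conj]; exact hnorm _ (perm_mem_N τ) _ hu⟩
  have hbot : Pσ = ⊥ := by
    rcases Cfsg.Agent.S0365.result.eq_bot_or_eq_top_of_normal Pσ hPn with h | h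
    · exact h
    · exfalso
      have h8' : ∀ σ : ↥M24, σ ^ 8 = 1 := by
        intro σ
        have hσ : σ ∈ Pσ := by rw [h]; exact Subgroup.mem_top _
        obtain ⟨u, hu⟩ := hσ
        obtain ⟨w, hw⟩ := mono_pow u σ 8
        rw [h8 _ hu] at hw
        have h1 : eps 0 * perm 1 = eps w * perm (σ ^ 8) := by
          rw [eps_zero, perm_one, one_mul]; exact hw
        exact (mono_injective h1).1.symm
      have hp : IsPGroup 2 ↥M24 :=
        fun σ => ⟨3, by rw [show (2 : ℕ) ^ 3 = 8 by norm_num]; exact h8' σ⟩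
      have : Fact (Nat.Prime 2) := ⟨Nat.prime_two⟩
      have : Finite ↥M24 :=
        Nat.finite_of_card_ne_zero (by rw [Cfsg.Agent.S0364.result]; norm_num)
      obtain ⟨n, hn⟩ := IsPGroup.iff_card.1 hp
      rw [Cfsg.Agent.S0364.result] at hn
      have h3 : 3 ∣ 2 ^ n := by rw [← hn]; norm_num
      have := Nat.Prime.dvd_of_dvd_pow Nat.prime_three h3
      omega
  have hform : ∀ m ∈ M0, ∃ u : ↥golayCode, m = eps u := by
    intro m hm
    obtain ⟨σ, u, rfl⟩ := exists_of_mem_N (hle hm)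
    have hσ : σ ∈ Pσ := ⟨u, hm⟩
    rw [hbot, Subgroup.mem_bot] at hσ
    exact ⟨u, by rw [hσ, perm_one, mul_one]⟩
  -- the code words occurring
  let W : Submodule (ZMod 2) (GolayPt → ZMod 2) :=
    { carrier := {c | ∃ hc : c ∈ golayCode, eps ⟨c, hc⟩ ∈ M0}
      zero_mem' := ⟨golayCode.zero_mem, by
        have : (⟨0, golayCode.zero_mem⟩ : ↥golayCode) = 0 := rfl
        rw [this, eps_zero]; exact M0.one_mem⟩
      add_mem' := by
        rintro a b ⟨ha, ha'⟩ ⟨hb, hb'⟩
        refine ⟨golayCode.add_mem ha hb, ?_⟩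
        have : (⟨a + b, golayCode.add_mem ha hb⟩ : ↥golayCode) = ⟨a, ha⟩ + ⟨b, hb⟩ := rfl
        rw [this, eps_add]
        exact M0.mul_mem ha' hb'
      smul_mem' := by
        rintro r a ⟨ha, ha'⟩
        have hr : r = 0 ∨ r = 1 := by
          revert r; decide
        rcases hr with rfl | rfl
        · rw [zero_smul]
          refine ⟨golayCode.zero_mem, ?_⟩
          have : (⟨0, golayCode.zero_mem⟩ : ↥golayCode) = 0 := rfl
          rw [this, eps_zero]; exact M0.one_mem
        · rw [one_smul]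
          exact ⟨ha, ha'⟩ }
  have hWinv : Cfsg.Agent.S5548.Inv W := by
    rintro σ hσ w ⟨hw, hw'⟩
    refine ⟨permWord_mem_of_mem_M24 hσ hw, ?_⟩
    have h1 := hnorm _ (perm_mem_N ⟨σ, hσ⟩) _ hw'
    rw [perm_conj_eps] at h1
    exact h1
  have hWC : W ≤ golayCode := by
    rintro c ⟨hc, -⟩
    exact hc
  obtain ⟨m, hm, hmc⟩ := hnc
  obtain ⟨u, rfl⟩ := hform m hm
  have hu0 : (u : GolayPt → ZMod 2) ≠ 0 := by
    intro h
    apply hmc
    rw [eps_mem_center_iff]
    left
    exact Subtype.ext h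
  have hu1 : (u : GolayPt → ZMod 2) ≠ 1 := by
    intro h
    apply hmc
    rw [eps_mem_center_iff]
    right
    exact Subtype.ext h
  have hall := Cfsg.Agent.S5548.F2 W hWinv hWC u.1 ⟨u.2, hm⟩ hu0 hu1
  intro m'
  constructor
  · exact hform m'
  · rintro ⟨w, rfl⟩
    obtain ⟨hw, hw'⟩ := hall w.2
    exact hw'

end Cfsg.Agent.Lib.Helper63_MonoNormal
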