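import Mathlib
import Cfsg.Prelude.Def_MonsterType
import Cfsg.Agent.Lib.Helper63_MonsterCls

/-!
Groups of Monster type: the subgroup `E2 = Q^g ∩ C_G(z)` for a conjugate `g z g⁻¹` of `z` in `Q`:
it centralizes `g z g⁻¹`, is normalized by the centralizer of `g z g⁻¹` in `C_G(z)`, is not contained
in `Q`, has exponent dividing 4 and order `2 ^ 24`.
-/

set_option autoImplicit false
set_option linter.unusedSectionVars false
open Cfsg

namespace Cfsg.Agent.Lib.Helper63_MonsterE2

open Cfsg.Agent.Lib.Helper89_ESClass Cfsg.Agent.Lib.Helper63_ESForm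
open Cfsg.Agent.Lib.Helper63_MonsterForm Cfsg.Agent.Lib.Helper63_MonsterConj
open Cfsg.Agent.Lib.Helper63_ESCount Cfsg.Agent.Lib.Helper63_MonsterKey
open Cfsg.Agent.Lib.Helper63_MonsterCls Cfsg.Agent.Lib.Helper93_LES

variable {G : Type*} [Group G] [Finite G] {z : G}
  {Q : Subgroup (Subgroup.centralizer ({z} : Set G))}
  [Q.Normal] {e : (Subgroup.centralizer ({z} : Set G)) ⧸ Q ≃* Spor.Co1}
  {ψ : leechLattice → Q ⧸ Subgroup.center Q}

section
variable (hz : orderOf z = 2)
  (hF : generalizedFittingSubgroup (Subgroup.centralizer ({z} : Set G)) = Q)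
  (hes : IsExtraspecial 2 Q) (hcard : Nat.card Q = 2 ^ 25)
  (x : Q) (g : G) (hg : g * z * g⁻¹ = ((x : Subgroup.centralizer ({z} : Set G)) : G))
  (hxz : ((x : Subgroup.centralizer ({z} : Set G)) : G) ≠ z)
include hz hF hes hg

/-- `z` lies in the conjugate of `Q` -/
theorem exists_y : ∃ y : Q, ((y : Subgroup.centralizer ({z} : Set G)) : G) = g⁻¹ * z * g := by
  have hles := les_Q1 hz hF hes
  have hy : g⁻¹ * z * g ∈ Q1 Q :=
    Helper98_LESGen.sym hles norm_Q1 (pgroup_Q1 hes) g (by rw [hg]; exact coe_mem_Q1 x)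
  exact mem_Q1.1 hy

theorem E2_comm : ∀ a ∈ E2 Q g, a * (x : Subgroup.centralizer ({z} : Set G)) = x * a := by
  have hles := les_Q1 hz hF hes
  intro a ha
  have hb := hles.central _ (mem_E2.1 ha)
  apply Subtype.ext
  show (a : G) * ((x : Subgroup.centralizer ({z} : Set G)) : G) = x * a
  rw [← hg]
  calc (a : G) * (g * z * g⁻¹) = g * ((g⁻¹ * (a : G) * g) * z) * g⁻¹ := by group
    _ = g * (z * (g⁻¹ * (a : G) * g)) * g⁻¹ := by rw [hb]
    _ = (g * z * g⁻¹) * a := by group

theorem E2_conj : ∀ k : Subgroup.centralizer ({z} : Set G),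
    k * (x : Subgroup.centralizer ({z} : Set G)) = x * k → ∀ a ∈ E2 Q g, k * a * k⁻¹ ∈ E2 Q g := by
  intro k hk a ha
  have hk' : (k : G) * (g * z * g⁻¹) = (g * z * g⁻¹) * k := by
    rw [hg]
    exact congrArg Subtype.val hk
  have hc : (g⁻¹ * (k : G) * g) * z = z * (g⁻¹ * (k : G) * g) := by
    calc (g⁻¹ * (k : G) * g) * z = g⁻¹ * ((k : G) * (g * z * g⁻¹)) * g := by group
      _ = g⁻¹ * ((g * z * g⁻¹) * k) * g := by rw [hk']
      _ = z * (g⁻¹ * (k : G) * g) := by group
  have := norm_Q1 (Q := Q) _ hc _ (mem_E2.1 ha)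
  rw [mem_E2]
  have h2 : g⁻¹ * ((k * a * k⁻¹ : Subgroup.centralizer ({z} : Set G)) : G) * g =
      (g⁻¹ * (k : G) * g) * (g⁻¹ * (a : G) * g) * (g⁻¹ * (k : G) * g)⁻¹ := by
    push_cast
    group
  rw [h2]
  exact this

theorem E2_pow_four : ∀ a ∈ E2 Q g, a ^ 4 = 1 := by
  have hE := isES2_zQ hz hF hes
  intro a ha
  apply Subtype.ext
  have hb := pow_four_Q1 hE _ (mem_E2.1 ha)
  have h0 : (g⁻¹ * (a : G) * g) ^ 4 = g⁻¹ * (a : G) ^ 4 * g := by
    have := conj_pow (a := g⁻¹) (b := (a : G)) (i := 4)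
    rw [inv_inv] at this
    exact this
  rw [h0] at hb
  have : ((a ^ 4 : Subgroup.centralizer ({z} : Set G)) : G) =
      g * (g⁻¹ * (a : G) ^ 4 * g) * g⁻¹ := by
    push_cast
    group
  rw [this, hb]
  simp

/-- conjugates by `g` of the elements of `Q` commuting with `y` lie in `E2` -/
theorem conj_mem_E2 (y : Q) (hy : ((y : Subgroup.centralizer ({z} : Set G)) : G) = g⁻¹ * z * g)
    (b : Q) (hb : b * y = y * b) :
    ∃ hc : g * ((b : Subgroup.centralizer ({z} : Set G)) : G) * g⁻¹ ∈
        Subgroup.centralizer ({z} : Set G),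
      (⟨g * ((b : Subgroup.centralizer ({z} : Set G)) : G) * g⁻¹, hc⟩ :
        Subgroup.centralizer ({z} : Set G)) ∈ E2 Q g := by
  have hb' : ((b : Subgroup.centralizer ({z} : Set G)) : G) * (g⁻¹ * z * g) =
      (g⁻¹ * z * g) * b := by
    rw [← hy]
    exact congrArg (fun q : Q => ((q : Subgroup.centralizer ({z} : Set G)) : G)) hb
  have hcz : (g * ((b : Subgroup.centralizer ({z} : Set G)) : G) * g⁻¹) * z =
      z * (g * ((b : Subgroup.centralizer ({z} : Set G)) : G) * g⁻¹) := by
    calc (g * ((b : Subgroup.centralizer ({z} : Set G)) : G) * g⁻¹) * z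
        = g * (((b : Subgroup.centralizer ({z} : Set G)) : G) * (g⁻¹ * z * g)) * g⁻¹ := by group
      _ = g * ((g⁻¹ * z * g) * b) * g⁻¹ := by rw [hb']
      _ = z * (g * ((b : Subgroup.centralizer ({z} : Set G)) : G) * g⁻¹) := by group
  refine ⟨mem_cent_iff.2 hcz, ?_⟩
  rw [mem_E2]
  have : g⁻¹ * (g * ((b : Subgroup.centralizer ({z} : Set G)) : G) * g⁻¹) * g = b := by group
  show g⁻¹ * (g * ((b : Subgroup.centralizer ({z} : Set G)) : G) * g⁻¹) * g ∈ Q1 Q
  rw [this]
  exact coe_mem_Q1 b

/-- the image of `E2` in `G` -/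
theorem image_E2 (y : Q) (hy : ((y : Subgroup.centralizer ({z} : Set G)) : G) = g⁻¹ * z * g) :
    (fun a : Subgroup.centralizer ({z} : Set G) => (a : G)) '' (E2 Q g : Set _) =
      (fun b : Q => g * ((b : Subgroup.centralizer ({z} : Set G)) : G) * g⁻¹) ''
        {b : Q | b * y = y * b} := by
  ext a
  constructor
  · rintro ⟨a', ha', rfl⟩
    obtain ⟨b, hb⟩ := mem_Q1.1 (mem_E2.1 ha')
    refine ⟨b, ?_, ?_⟩
    · show b * y = y * b
      apply Subtype.ext
      apply Subtype.ext
      show ((b : Subgroup.centralizer ({z} : Set G)) : G) * y = y * b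
      rw [hb, hy]
      have ha'z : (a' : G) * z = z * a' := mem_cent_iff.1 a'.2
      calc g⁻¹ * (a' : G) * g * (g⁻¹ * z * g) = g⁻¹ * ((a' : G) * z) * g := by group
        _ = g⁻¹ * (z * a') * g := by rw [ha'z]
        _ = g⁻¹ * z * g * (g⁻¹ * (a' : G) * g) := by group
    · show g * ((b : Subgroup.centralizer ({z} : Set G)) : G) * g⁻¹ = a'
      rw [hb]; group
  · rintro ⟨b, hb, rfl⟩
    obtain ⟨hc, hmem⟩ := conj_mem_E2 hz hF hes x g hg y hy b hb
    exact ⟨⟨_, hc⟩, hmem, rfl⟩

end

/-- the centralizer in `Q` of a noncentral element has order `2 ^ 24` -/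
theorem card_ker_cmHom {t : Q} (hE : IsES2 Q t) (hcard : Nat.card Q = 2 ^ 25) (y : Q)
    (hy : ¬ ∀ k : Q, y * k = k * y) : Nat.card (cmHom hE y).ker = 2 ^ 24 := by
  have h1 := Subgroup.card_mul_index (cmHom hE y).ker
  rw [Subgroup.index_ker, hcard] at h1
  have hsurj : Function.Surjective (cmHom hE y) := by
    push Not at hy
    obtain ⟨k, hk⟩ := hy
    intro m
    have hm : m = Multiplicative.ofAdd 0 ∨ m = Multiplicative.ofAdd 1 := by
      revert m; decide
    rcases hm with rfl | rfl
    · exact ⟨1, map_one _⟩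
    · refine ⟨k, ?_⟩
      show Multiplicative.ofAdd (cmv k y) = _
      rcases zmod2_cases (cmv k y) with h | h
      · exact absurd ((cmv_eq_zero_iff _ _).1 h).symm hk
      · rw [h]
  have h2 : Nat.card (cmHom hE y).range = 2 := by
    rw [MonoidHom.range_eq_top.2 hsurj, Subgroup.card_top, Nat.card_eq_fintype_card]
    rfl
  rw [h2] at h1
  omega

section
variable (hz : orderOf z = 2)
  (hF : generalizedFittingSubgroup (Subgroup.centralizer ({z} : Set G)) = Q)
  (hes : IsExtraspecial 2 Q) (hcard : Nat.card Q = 2 ^ 25)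
  (x : Q) (g : G) (hg : g * z * g⁻¹ = ((x : Subgroup.centralizer ({z} : Set G)) : G))
  (hxz : ((x : Subgroup.centralizer ({z} : Set G)) : G) ≠ z)
include hz hF hes hcard hg hxz

theorem y_noncentral (y : Q) (hy : ((y : Subgroup.centralizer ({z} : Set G)) : G) = g⁻¹ * z * g) :
    ¬ ∀ k : Q, y * k = k * y := by
  have hE := isES2_zQ hz hF hes
  have hz1 : z ≠ 1 := by
    intro h
    rw [h, orderOf_one] at hz
    omega
  intro hc
  rcases (hE.center y).1 hc with h2 | h2
  · have h3 : ((y : Subgroup.centralizer ({z} : Set G)) : G) = 1 := by rw [h2]; rfl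
    rw [hy] at h3
    apply hz1
    calc z = g * (g⁻¹ * z * g) * g⁻¹ := by group
      _ = 1 := by rw [h3]; group
  · have h3 : ((y : Subgroup.centralizer ({z} : Set G)) : G) = z := by rw [h2]; rfl
    rw [hy] at h3
    apply hxz
    rw [← hg]
    calc g * z * g⁻¹ = g * (g⁻¹ * z * g) * g⁻¹ := by rw [h3]
      _ = z := by group

theorem card_E2 : Nat.card (E2 Q g) = 2 ^ 24 := by
  have hE := isES2_zQ hz hF hes
  obtain ⟨y, hy⟩ := exists_y hz hF hes x g hg
  have h1 : Nat.card (E2 Q g) =
      Nat.card ((fun a : Subgroup.centralizer ({z} : Set G) => (a : G)) '' (E2 Q g : Set _)) :=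
    (Nat.card_image_of_injective Subtype.val_injective _).symm
  have hinj : Function.Injective
      (fun b : Q => g * ((b : Subgroup.centralizer ({z} : Set G)) : G) * g⁻¹) := by
    intro b b' h
    apply Subtype.ext
    apply Subtype.ext
    have h' : g * ((b : Subgroup.centralizer ({z} : Set G)) : G) * g⁻¹ =
        g * ((b' : Subgroup.centralizer ({z} : Set G)) : G) * g⁻¹ := h
    calc ((b : Subgroup.centralizer ({z} : Set G)) : G)
        = g⁻¹ * (g * ((b : Subgroup.centralizer ({z} : Set G)) : G) * g⁻¹) * g := by group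
      _ = g⁻¹ * (g * ((b' : Subgroup.centralizer ({z} : Set G)) : G) * g⁻¹) * g := by rw [h']
      _ = b' := by group
  rw [h1, image_E2 hz hF hes x g hg y hy, Nat.card_image_of_injective hinj]
  have h2 : {b : Q | b * y = y * b} = ((cmHom hE y).ker : Set Q) := by
    ext b
    exact (mem_ker_cmHom hE y b).symm
  rw [h2]
  exact card_ker_cmHom hE hcard y (y_noncentral hz hF hes hcard x g hg hxz y hy)

/-- `E2` is not contained in `Q` -/
theorem E2_not_le : ∃ a ∈ E2 Q g, a ∉ Q := by
  have hE := isES2_zQ hz hF hes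
  obtain ⟨y, hy⟩ := exists_y hz hF hes x g hg
  by_contra hcon
  push Not at hcon
  -- then `E2 ≤ Q ⊓ Q^g` is abelian, so the centralizer of `y` in `Q` is abelian
  have hz1 : z ≠ 1 := by
    intro h
    rw [h, orderOf_one] at hz
    omega
  have hcount : Nat.card Q ≤ 8 := by
    apply card_le_of_abelian_centralizer hE y
    intro b1 b2 hb1 hb2
    obtain ⟨hc1, hm1⟩ := conj_mem_E2 hz hF hes x g hg y hy b1 hb1
    obtain ⟨hc2, hm2⟩ := conj_mem_E2 hz hF hes x g hg y hy b2 hb2
    let A1 : Q := ⟨_, hcon _ hm1⟩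
    let A2 : Q := ⟨_, hcon _ hm2⟩
    rcases hE.comm b1 b2 with h | h
    · exact h
    · exfalso
      have h' : ((b1 : Subgroup.centralizer ({z} : Set G)) : G) * b2 = z * (b2 * b1) :=
        congrArg (fun q : Q => ((q : Subgroup.centralizer ({z} : Set G)) : G)) h
      have key : g * z * g⁻¹ = z ∨ g * z * g⁻¹ = 1 := by
        rcases hE.comm A1 A2 with hA | hA
        · right
          have hA' : (g * ((b1 : Subgroup.centralizer ({z} : Set G)) : G) * g⁻¹) *
              (g * ((b2 : Subgroup.centralizer ({z} : Set G)) : G) * g⁻¹) =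
              (g * ((b2 : Subgroup.centralizer ({z} : Set G)) : G) * g⁻¹) *
              (g * ((b1 : Subgroup.centralizer ({z} : Set G)) : G) * g⁻¹) :=
            congrArg (fun q : Q => ((q : Subgroup.centralizer ({z} : Set G)) : G)) hA
          have h3 : ((b1 : Subgroup.centralizer ({z} : Set G)) : G) * b2 = b2 * b1 := by
            calc ((b1 : Subgroup.centralizer ({z} : Set G)) : G) * b2
                = g⁻¹ * ((g * ((b1 : Subgroup.centralizer ({z} : Set G)) : G) * g⁻¹) *
                  (g * ((b2 : Subgroup.centralizer ({z} : Set G)) : G) * g⁻¹)) * g := by group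
              _ = g⁻¹ * ((g * ((b2 : Subgroup.centralizer ({z} : Set G)) : G) * g⁻¹) *
                  (g * ((b1 : Subgroup.centralizer ({z} : Set G)) : G) * g⁻¹)) * g := by rw [hA']
              _ = b2 * b1 := by group
          rw [h3] at h'
          have h4 : z = 1 := by
            calc z = z * (((b2 : Subgroup.centralizer ({z} : Set G)) : G) * b1) *
                  (((b2 : Subgroup.centralizer ({z} : Set G)) : G) * b1)⁻¹ := by group
              _ = 1 := by rw [← h']; group
          rw [h4]; group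
        · left
          have hA' : (g * ((b1 : Subgroup.centralizer ({z} : Set G)) : G) * g⁻¹) *
              (g * ((b2 : Subgroup.centralizer ({z} : Set G)) : G) * g⁻¹) =
              z * ((g * ((b2 : Subgroup.centralizer ({z} : Set G)) : G) * g⁻¹) *
              (g * ((b1 : Subgroup.centralizer ({z} : Set G)) : G) * g⁻¹)) :=
            congrArg (fun q : Q => ((q : Subgroup.centralizer ({z} : Set G)) : G)) hA
          have h5 : g * (((b1 : Subgroup.centralizer ({z} : Set G)) : G) * b2) * g⁻¹ =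
              z * (g * (((b2 : Subgroup.centralizer ({z} : Set G)) : G) * b1) * g⁻¹) := by
            calc g * (((b1 : Subgroup.centralizer ({z} : Set G)) : G) * b2) * g⁻¹
                = (g * ((b1 : Subgroup.centralizer ({z} : Set G)) : G) * g⁻¹) *
                  (g * ((b2 : Subgroup.centralizer ({z} : Set G)) : G) * g⁻¹) := by group
              _ = z * ((g * ((b2 : Subgroup.centralizer ({z} : Set G)) : G) * g⁻¹) *
                  (g * ((b1 : Subgroup.centralizer ({z} : Set G)) : G) * g⁻¹)) := hA'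
              _ = z * (g * (((b2 : Subgroup.centralizer ({z} : Set G)) : G) * b1) * g⁻¹) := by
                  group
          rw [h'] at h5
          calc g * z * g⁻¹
              = (g * (z * (((b2 : Subgroup.centralizer ({z} : Set G)) : G) * b1)) * g⁻¹) *
                (g * (((b2 : Subgroup.centralizer ({z} : Set G)) : G) * b1) * g⁻¹)⁻¹ := by group
            _ = z := by rw [h5]; group
      rcases key with hk | hk
      · exact hxz (hg ▸ hk)
      · apply hz1
        calc z = g⁻¹ * (g * z * g⁻¹) * g := by group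
          _ = 1 := by rw [hk]; group
  rw [hcard] at hcount
  norm_num at hcount

end

end Cfsg.Agent.Lib.Helper63_MonsterE2
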