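import Mathlib
import Cfsg.Prelude.Def_MonsterType
import Cfsg.Agent.Lib.Helper63_MonsterE2
import Cfsg.Agent.Lib.Helper63_MonoNormal
import Cfsg.Agent.Lib.Helper92_Co0Order

/-!
Groups of Monster type: for a conjugate `s = g z g⁻¹ ≠ z` of `z` in `Q`, the image in `Co1` of the
centralizer of `s` in `C_G(z)` is a conjugate of the monomial group, and the image of
`Q^g ∩ C_G(z)` is the corresponding conjugate of the group of sign changes, of order `2 ^ 11`.
-/

set_option autoImplicit false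
set_option linter.unusedSectionVars false
open Cfsg

namespace Cfsg.Agent.Lib.Helper63_MonsterFrame

open Cfsg.Agent.Lib.Helper89_ESClass Cfsg.Agent.Lib.Helper63_ESForm
open Cfsg.Agent.Lib.Helper63_MonsterForm Cfsg.Agent.Lib.Helper63_MonsterConj
open Cfsg.Agent.Lib.Helper63_ESCount Cfsg.Agent.Lib.Helper63_MonsterKey
open Cfsg.Agent.Lib.Helper63_MonsterCls Cfsg.Agent.Lib.Helper63_MonsterE2
open Cfsg.Agent.Lib.Helper63_MonoNormal Cfsg.Agent.Lib.Helper7_Mono
open Cfsg.Agent.Lib.Helper92_LeechMod2 Cfsg.Agent.Lib.Helper92_Co0Order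
open Cfsg.Agent.S5546 (e8)
open scoped Pointwise

/-! ### the sign changes in `Co1` -/

/-- the sign changes as a homomorphism -/
def epsHom : Multiplicative ↥golayCode →* ↥Co0 where
  toFun u := eps (Multiplicative.toAdd u)
  map_one' := eps_zero
  map_mul' _ _ := eps_add _ _

/-- the sign changes conjugated by `g0⁻¹`, in `Co1` -/
noncomputable def FE (g0 : ↥Co0) : Multiplicative ↥golayCode →* Spor.Co1 :=
  (QuotientGroup.mk' (Subgroup.center ↥Co0)).comp ((MulAut.conj g0⁻¹).toMonoidHom.comp epsHom)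

theorem FE_apply (g0 : ↥Co0) (u : ↥golayCode) :
    FE g0 (Multiplicative.ofAdd u) = (QuotientGroup.mk (g0⁻¹ * eps u * g0) : Spor.Co1) := by
  show (QuotientGroup.mk (g0⁻¹ * eps u * g0⁻¹⁻¹) : Spor.Co1) = _
  rw [inv_inv]

theorem conj_mem_center_iff (g0 m : ↥Co0) :
    g0⁻¹ * m * g0 ∈ Subgroup.center ↥Co0 ↔ m ∈ Subgroup.center ↥Co0 := by
  constructor
  · intro h
    have h1 : g0⁻¹ * m * g0 = m := by
      have hc := (Subgroup.mem_center_iff.1 h) g0
      calc g0⁻¹ * m * g0 = (g0⁻¹ * m * g0) * g0 * g0⁻¹ := by group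
        _ = g0 * (g0⁻¹ * m * g0) * g0⁻¹ := by rw [hc]
        _ = m := by group
    rwa [h1] at h
  · intro h
    have h1 : g0⁻¹ * m * g0 = m := by
      have := (Subgroup.mem_center_iff.1 h) g0
      calc g0⁻¹ * m * g0 = g0⁻¹ * (m * g0) := by group
        _ = g0⁻¹ * (g0 * m) := by rw [this]
        _ = m := by group
    rwa [h1]

theorem oneWord_ne_zero : oneWord ≠ 0 := by
  intro h
  have h1 : (oneWord : ↥golayCode).1 none = (0 : ↥golayCode).1 none := by rw [h]
  exact one_ne_zero h1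

theorem card_range_FE (g0 : ↥Co0) : Nat.card (FE g0).range = 2 ^ 11 := by
  have h1 := Subgroup.card_mul_index (FE g0).ker
  rw [Subgroup.index_ker] at h1
  have h2 : Nat.card (Multiplicative ↥golayCode) = 2 ^ 12 := Cfsg.Agent.S5553.card_code
  have hker : ∀ u : Multiplicative ↥golayCode, u ∈ (FE g0).ker ↔
      u = Multiplicative.ofAdd 0 ∨ u = Multiplicative.ofAdd oneWord := by
    intro u
    rw [MonoidHom.mem_ker]
    have : FE g0 u = FE g0 (Multiplicative.ofAdd (Multiplicative.toAdd u)) := rfl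
    rw [this, FE_apply, QuotientGroup.eq_one_iff, conj_mem_center_iff, eps_mem_center_iff]
    rfl
  have h3 : Nat.card (FE g0).ker = 2 := by
    rw [Nat.card_eq_two_iff]
    refine ⟨⟨Multiplicative.ofAdd 0, (hker _).2 (Or.inl rfl)⟩,
      ⟨Multiplicative.ofAdd oneWord, (hker _).2 (Or.inr rfl)⟩, ?_, ?_⟩
    · intro h
      have := congrArg Subtype.val h
      exact oneWord_ne_zero (Multiplicative.ofAdd.injective this).symm
    · ext u
      simp only [Set.mem_insert_iff, Set.mem_singleton_iff, Set.mem_univ, iff_true]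
      rcases (hker u.1).1 u.2 with h | h
      · left; exact Subtype.ext h
      · right; exact Subtype.ext h
  rw [h3, h2] at h1
  omega

/-! ### classes and the map `ψ` -/

variable {G : Type*} [Group G] [Finite G] {z : G}
  {Q : Subgroup (Subgroup.centralizer ({z} : Set G))}
  [Q.Normal] {e : (Subgroup.centralizer ({z} : Set G)) ⧸ Q ≃* Spor.Co1}
  {ψ : leechLattice → Q ⧸ Subgroup.center Q} {t : Q}

theorem psi_eq_iff (hE : IsES2 Q t) (hψ : IsLeechModTwoIso Q e ψ) (a b : leechLattice) :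
    ψ a = ψ b ↔ cls a = cls b := by
  rw [cls_eq_iff]
  constructor
  · intro h
    have h1 : ψ (a - b) = 1 := by rw [Cfsg.Agent.S5408.ψ_sub hψ, h, div_self']
    obtain ⟨w, hw⟩ := (hψ.2.2.1 _).1 h1
    refine ⟨(w : GolayPt → ℤ), w.2, ?_⟩
    have := congrArg (fun u : leechLattice => (u : GolayPt → ℤ)) hw
    simp only [AddSubgroup.coe_sub, AddSubgroup.coe_add] at this
    rw [this, two_nsmul]
  · rintro ⟨w, hw, h⟩
    exact psi_congr hE hψ hw h

/-- elements of `Co0` fixing the class of `v`, in terms of the stabilizer of the standard cross -/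
theorem mem_N_of_cls {g0 γ : ↥Co0} {v : leechLattice} (hg0 : cls (g0 • v) = cls (e8 none))
    (hγ : cls (γ • v) = cls v) : g0 * γ * g0⁻¹ ∈ N := by
  show g0 * γ * g0⁻¹ ∈ MulAction.stabilizer ↥Co0 X0
  rw [MulAction.mem_stabilizer_iff]
  unfold X0
  rw [smul_crossOf]
  apply crossOf_congr
  have h1 : cls ((g0 * γ * g0⁻¹) • e8 none) = cls ((g0 * γ * g0⁻¹) • (g0 • v)) :=
    cls_smul _ hg0.symm
  rw [h1, smul_smul]
  have h2 : g0 * γ * g0⁻¹ * g0 = g0 * γ := by group
  rw [h2, mul_smul]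
  rw [cls_smul g0 hγ, hg0]

theorem cls_of_mem_N {g0 n : ↥Co0} {v : leechLattice} (hg0 : cls (g0 • v) = cls (e8 none))
    (hn : n ∈ N) : cls ((g0⁻¹ * n * g0) • v) = cls v := by
  have hn' : n • X0 = X0 := MulAction.mem_stabilizer_iff.1 hn
  unfold X0 at hn'
  rw [smul_crossOf] at hn'
  have h1 : n • e8 none ∈ crossOf (n • e8 none) := ⟨by rw [sqNorm_smul]; exact sqNorm_e8 none, rfl⟩
  rw [hn'] at h1
  have h2 : cls (n • e8 none) = cls (e8 none) := h1.2
  rw [mul_smul, mul_smul]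
  have h3 : cls (n • (g0 • v)) = cls (e8 none) := by
    rw [cls_smul n hg0, h2]
  have h4 := cls_smul g0⁻¹ (h3.trans hg0.symm)
  rwa [inv_smul_smul] at h4


theorem cj_eq_self_iff (k : Subgroup.centralizer ({z} : Set G)) (x : Q) :
    cj k x = x ↔ k * (x : Subgroup.centralizer ({z} : Set G)) = x * k := by
  constructor
  · intro h
    have h1 : k * (x : Subgroup.centralizer ({z} : Set G)) * k⁻¹ = x := by
      rw [← cj_coe, h]
    calc k * (x : Subgroup.centralizer ({z} : Set G))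
        = (k * (x : Subgroup.centralizer ({z} : Set G)) * k⁻¹) * k := by group
      _ = x * k := by rw [h1]
  · intro h
    apply Subtype.ext
    rw [cj_coe, h]
    group

section main
variable (hz : orderOf z = 2)
  (hF : generalizedFittingSubgroup (Subgroup.centralizer ({z} : Set G)) = Q)
  (hes : IsExtraspecial 2 Q) (hcard : Nat.card Q = 2 ^ 25) (hψ : IsLeechModTwoIso Q e ψ)
  (x : Q) (g : G) (hg : g * z * g⁻¹ = ((x : Subgroup.centralizer ({z} : Set G)) : G))
  (hxz : ((x : Subgroup.centralizer ({z} : Set G)) : G) ≠ z)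
  (v : leechLattice) (hxv : ψ v = QuotientGroup.mk x)
  (g0 : ↥Co0) (hg0 : cls (g0 • v) = cls (e8 none))
include hz hF hes hcard hψ hg hxz hxv hg0

/-- the image of the centralizer of `x` lies in the conjugate of the monomial group -/
theorem rho_Kx_sub {k : Subgroup.centralizer ({z} : Set G)}
    (hk : k * (x : Subgroup.centralizer ({z} : Set G)) = x * k) {γ : ↥Co0}
    (hγ : rho e k = QuotientGroup.mk γ) : g0 * γ * g0⁻¹ ∈ N := by
  have hE := isES2_zQ hz hF hes
  apply mem_N_of_cls hg0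
  rw [← psi_eq_iff hE hψ, psi_smul hψ hγ hxv, (cj_eq_self_iff k x).2 hk, hxv]

/-- every element of the conjugate of the monomial group comes from the centralizer of `x` -/
theorem exists_Kx_of_mem_N {n : ↥Co0} (hn : n ∈ N) :
    ∃ k : Subgroup.centralizer ({z} : Set G),
      k * (x : Subgroup.centralizer ({z} : Set G)) = x * k ∧
      rho e k = QuotientGroup.mk (g0⁻¹ * n * g0) := by
  have hE := isES2_zQ hz hF hes
  have h1 : ψ ((g0⁻¹ * n * g0) • v) = QuotientGroup.mk x := by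
    rw [← hxv, psi_eq_iff hE hψ]
    exact cls_of_mem_N hg0 hn
  have hne : ψ v ≠ 1 := by
    rw [hxv, Ne, mk_eq_one_iff_central]
    exact conj_noncentral hz hF hes hcard hψ x g hg hxz
  obtain ⟨k, hk, hkx⟩ := exists_conj hE hψ (g0⁻¹ * n * g0) hxv h1 hne
  exact ⟨k, (cj_eq_self_iff k x).1 hkx, hk⟩

/-- the image of `E2` is the conjugate of the group of sign changes -/
theorem map_E2_eq : (E2 Q g).map (rho e) = (FE g0).range := by
  have hE := isES2_zQ hz hF hes
  -- the preimage in the monomial group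
  let M : Subgroup Spor.Co1 := (E2 Q g).map (rho e)
  let cm : ↥Co0 →* Spor.Co1 :=
    (QuotientGroup.mk' (Subgroup.center ↥Co0)).comp (MulAut.conj g0⁻¹).toMonoidHom
  have cm_apply : ∀ n : ↥Co0, cm n = (QuotientGroup.mk (g0⁻¹ * n * g0) : Spor.Co1) := by
    intro n
    show (QuotientGroup.mk (g0⁻¹ * n * g0⁻¹⁻¹) : Spor.Co1) = _
    rw [inv_inv]
  let M0 : Subgroup ↥Co0 := N ⊓ M.comap cm
  have memM0 : ∀ n : ↥Co0, n ∈ M0 ↔ n ∈ N ∧
      ∃ a ∈ E2 Q g, rho e a = (QuotientGroup.mk (g0⁻¹ * n * g0) : Spor.Co1) := by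
    intro n
    show n ∈ N ∧ cm n ∈ M ↔ _
    rw [cm_apply]
    exact Iff.rfl
  -- elements of `E2` give elements of `M0`
  have ofE2 : ∀ a ∈ E2 Q g, ∃ n ∈ M0, rho e a = (QuotientGroup.mk (g0⁻¹ * n * g0) : Spor.Co1) := by
    intro a ha
    obtain ⟨γ, hγ⟩ := QuotientGroup.mk_surjective (rho e a)
    have hn := rho_Kx_sub hz hF hes hcard hψ x g hg hxz v hxv g0 hg0
      (E2_comm hz hF hes x g hg a ha) hγ.symm
    have h1 : g0⁻¹ * (g0 * γ * g0⁻¹) * g0 = γ := by group
    refine ⟨g0 * γ * g0⁻¹, (memM0 _).2 ⟨hn, a, ha, ?_⟩, ?_⟩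
    · rw [h1, hγ]
    · rw [h1, hγ]
  have hnorm : ∀ n ∈ N, ∀ m ∈ M0, n * m * n⁻¹ ∈ M0 := by
    intro n hn m hm
    obtain ⟨hmN, a, ha, hρ⟩ := (memM0 m).1 hm
    obtain ⟨k, hk, hkρ⟩ := exists_Kx_of_mem_N hz hF hes hcard hψ x g hg hxz v hxv g0 hg0 hn
    refine (memM0 _).2 ⟨N.mul_mem (N.mul_mem hn hmN) (N.inv_mem hn), k * a * k⁻¹,
      E2_conj hz hF hes x g hg k hk a ha, ?_⟩
    rw [map_mul, map_mul, map_inv, hkρ, hρ, ← QuotientGroup.mk_inv, ← QuotientGroup.mk_mul,
      ← QuotientGroup.mk_mul]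
    congr 1
    group
  have h8 : ∀ m ∈ M0, m ^ 8 = 1 := by
    intro m hm
    obtain ⟨-, a, ha, hρ⟩ := (memM0 m).1 hm
    have ha4 := E2_pow_four hz hF hes x g hg a ha
    have h4 : (QuotientGroup.mk ((g0⁻¹ * m * g0) ^ 4) : Spor.Co1) = 1 := by
      rw [QuotientGroup.mk_pow, ← hρ, ← map_pow, ha4, map_one]
    have h5 : (g0⁻¹ * m * g0) ^ 4 ∈ Subgroup.center ↥Co0 := (QuotientGroup.eq_one_iff _).1 h4
    have h6 : (g0⁻¹ * m * g0) ^ 4 = g0⁻¹ * m ^ 4 * g0 := by
      have := conj_pow (a := g0⁻¹) (b := m) (i := 4)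
      rw [inv_inv] at this
      exact this
    rw [h6, conj_mem_center_iff] at h5
    have h7 : m ^ 8 = m ^ 4 * m ^ 4 := by rw [← pow_add]
    rw [h7]
    rcases Cfsg.Agent.S0398.center_cases _ h5 with h | h
    · rw [h, one_mul]
    · rw [h, negElt_sq]
  have hnc : ∃ m ∈ M0, m ∉ Subgroup.center ↥Co0 := by
    obtain ⟨a, ha, haQ⟩ := E2_not_le hz hF hes hcard x g hg hxz
    obtain ⟨n, hn, hρ⟩ := ofE2 a ha
    refine ⟨n, hn, fun hc => haQ ?_⟩
    rw [← rho_eq_one_iff (e := e), hρ, QuotientGroup.eq_one_iff, conj_mem_center_iff]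
    exact hc
  have hM0 := eq_eps_of_normal M0 inf_le_left hnorm h8 hnc
  -- conclusion
  apply le_antisymm
  · rintro _ ⟨a, ha, rfl⟩
    obtain ⟨n, hn, hρ⟩ := ofE2 a ha
    obtain ⟨u, rfl⟩ := (hM0 n).1 hn
    exact ⟨Multiplicative.ofAdd u, by rw [FE_apply, hρ]⟩
  · rintro _ ⟨u, rfl⟩
    have h1 : eps (Multiplicative.toAdd u) ∈ M0 := (hM0 _).2 ⟨_, rfl⟩
    obtain ⟨-, a, ha, hρ⟩ := (memM0 _).1 h1
    refine ⟨a, ha, ?_⟩
    rw [hρ]
    exact (FE_apply g0 (Multiplicative.toAdd u)).symm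

theorem card_map_E2 : Nat.card ((E2 Q g).map (rho e)) = 2 ^ 11 := by
  rw [map_E2_eq hz hF hes hcard hψ x g hg hxz v hxv g0 hg0]
  exact card_range_FE g0

end main

end Cfsg.Agent.Lib.Helper63_MonsterFrame
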