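/-
Helper library (helper63): Monster type → Baby Monster type, part 6.
In a group of Monster type, for an involution `t` of `Q` not conjugate to `z` there is an
element of `C_G(t)` moving `z` to another element of `Q`.
-/
import Cfsg.Agent.Lib.Helper63_BabyHom
import Cfsg.Agent.Lib.Helper63_MonsterFrame
import Cfsg.Agent.S5411
import Cfsg.Agent.S0400

set_option autoImplicit false
set_option linter.unusedSectionVars false

namespace Cfsg.Agent.Lib.Helper63_BabyWC

open Cfsg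
open Cfsg.Agent.Lib.Helper89_ESClass Cfsg.Agent.Lib.Helper63_ESForm
open Cfsg.Agent.Lib.Helper63_MonsterForm Cfsg.Agent.Lib.Helper63_MonsterConj
open Cfsg.Agent.Lib.Helper63_MonsterKey Cfsg.Agent.Lib.Helper63_MonsterCls
open Cfsg.Agent.Lib.Helper63_MonsterNorm Cfsg.Agent.Lib.Helper63_BabyHom
open Cfsg.Agent.Lib.Helper63_MonsterFrame Cfsg.Agent.Lib.Helper63_MonsterE2
open Cfsg.Agent.Lib.Helper7_Bits Cfsg.Agent.Lib.Helper7_Mono Cfsg.Agent.Lib.Helper7_Base
open Cfsg.Agent.Lib.Helper7_Leech Cfsg.Agent.Lib.Helper92_Monomial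
open Cfsg.Agent.S5546 (e8)
open Cfsg.Agent.S0394 (sgn)

/-! ### a concrete computation in the lattice -/

/-- an octad containing the points `∞` and `0` -/
def Oct : Finset GolayPt := maskSet 8391797

theorem Oct_mem : Oct ∈ octads := by
  refine ⟨⟨toWord 8391797, toWord_mem_of_inCode (by decide +kernel), rfl⟩, ?_⟩
  show (support₂ (toWord 8391797)).card = 8
  rw [Cfsg.Agent.Lib.Helper7_Code.card_support₂_toWord]
  decide

/-- the vector `2` on the octad -/
def vO : GolayPt → ℤ := sgn 2 Oct ∅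

theorem vO_mem : vO ∈ leechLattice :=
  (mem_leechLattice_iff _).mpr
    (Cfsg.Agent.S0394.sgn_two_mem Oct ∅ Oct_mem (Finset.empty_subset _) (by decide))

/-- `vO` in the lattice -/
def lO : leechLattice := ⟨vO, vO_mem⟩

/-- a code word meeting the octad in `{∞, 0}` -/
def uw : ↥golayCode := ⟨toWord 8499969, toWord_mem_of_inCode (by decide +kernel)⟩

theorem eps_lO : eps uw • lO = lO - Spor.leechU := by
  apply Subtype.ext
  rw [eps_apply]
  funext p
  revert p
  decide +kernel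

theorem dot_lO : dotInt ((lO : leechLattice) : GolayPt → ℤ) ((e8 none : leechLattice) : GolayPt → ℤ)
    = 16 := by
  decide +kernel

/-! ### the standard pair -/

variable {G : Type*} [Group G] [Finite G] {z : G}
  {Q : Subgroup (Subgroup.centralizer ({z} : Set G))} [Q.Normal]
  {e : (Subgroup.centralizer ({z} : Set G)) ⧸ Q ≃* Spor.Co1}
  {ψ : leechLattice → Q ⧸ Subgroup.center Q}

theorem sqNorm_leechU' : sqNorm ((Spor.leechU : leechLattice) : GolayPt → ℤ) = 32 := by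
  decide +kernel

/-- an involution `t₀` of `Q` not conjugate to `z` lying in `Q ∩ Q^g` for a conjugate
`s₀ = g z g⁻¹ ≠ z` of `z` in `Q` -/
theorem std_pair (hS : IsExtraspecialCentralizerSetting z Q 12) (hψ : IsLeechModTwoIso Q e ψ) :
    ∃ (t₀ s₀ : Q) (g : G), t₀ * t₀ = 1 ∧ (¬ ∀ k, t₀ * k = k * t₀) ∧
      ¬ IsConj z ((t₀ : Subgroup.centralizer ({z} : Set G)) : G) ∧
      g * z * g⁻¹ = ((s₀ : Subgroup.centralizer ({z} : Set G)) : G) ∧
      ((s₀ : Subgroup.centralizer ({z} : Set G)) : G) ≠ z ∧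
      g⁻¹ * ((t₀ : Subgroup.centralizer ({z} : Set G)) : G) * g ∈ Q1 Q := by
  have hS' := hS
  obtain ⟨hz, hF, hes, hcard, -⟩ := hS
  have hcard' : Nat.card Q = 2 ^ 25 := by rw [hcard]
  have hE := isES2_zQ hz hF hes
  have hs₀ : ψ (e8 none) = QuotientGroup.mk (lft ψ (e8 none)) := (mk_lft ψ _).symm
  have ht₀ : ψ Spor.leechU = QuotientGroup.mk (lft ψ Spor.leechU) := (mk_lft ψ _).symm
  set s₀ := lft ψ (e8 none) with hs₀def
  set t₀ := lft ψ Spor.leechU with ht₀def
  obtain ⟨hconj, hxz⟩ := (Cfsg.Agent.S5407.main hS' hψ s₀).2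
    ⟨e8 none, Cfsg.Agent.Lib.Helper92_Co0Order.sqNorm_e8 none, hs₀⟩
  obtain ⟨g, hg⟩ := isConj_iff.1 hconj
  -- `t₀`
  have ht2 : t₀ * t₀ = 1 := by
    rw [← sqv_eq_zero_iff, ← F_eq hE ht₀]
    exact Cfsg.Agent.S5408.F_U hE hψ
  have htc : ¬ ∀ k, t₀ * k = k * t₀ := by
    rw [← mk_eq_one_iff_central, ← ht₀]
    exact psi_ne_one hψ sqNorm_leechU' ht₀
  have htz : ((t₀ : Subgroup.centralizer ({z} : Set G)) : G) ≠ z := by
    intro h
    apply htc
    have : t₀ = zQ hF := Subtype.ext (Subtype.ext h)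
    rw [this]
    exact zQ_central hF
  have htnc : ¬ IsConj z ((t₀ : Subgroup.centralizer ({z} : Set G)) : G) := by
    intro hc
    obtain ⟨g', hg'⟩ := isConj_iff.1 hc
    exact not_type_two hz hF hes hcard' hψ t₀ g' hg' htz Spor.leechU sqNorm_leechU' ht₀
  refine ⟨t₀, s₀, g, ht2, htc, htnc, hg, hxz, ?_⟩
  -- membership in the conjugate
  have hles := les_Q1 hz hF hes
  have hzQs : g⁻¹ * z * g ∈ Q1 Q :=
    Helper98_LESGen.sym hles norm_Q1 (pgroup_Q1 hes) g (by rw [hg]; exact coe_mem_Q1 s₀)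
  have hmap := map_E2_eq hz hF hes hcard' hψ s₀ g hg hxz (e8 none) hs₀ (1 : ↥Co0)
    (by rw [one_smul])
  have hmem : FE 1 (Multiplicative.ofAdd uw) ∈ (FE (1 : ↥Co0)).range := ⟨_, rfl⟩
  rw [← hmap] at hmem
  obtain ⟨a, ha, hρ⟩ := hmem
  rw [FE_apply, inv_one, one_mul, mul_one] at hρ
  have hq : ψ lO = QuotientGroup.mk (lft ψ lO) := (mk_lft ψ _).symm
  set q := lft ψ lO with hqdef
  have hqs : q * s₀ = s₀ * q := by
    rw [comm_iff_dvd hE hψ hcard' hq hs₀, dot_lO]
  have h1 := psi_smul hψ hρ hq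
  rw [eps_lO, Cfsg.Agent.S5408.ψ_sub hψ, hq, ht₀] at h1
  have h2 : (QuotientGroup.mk ((cj a q)⁻¹ * q) : Q ⧸ Subgroup.center Q) = QuotientGroup.mk t₀ := by
    rw [QuotientGroup.mk_mul, QuotientGroup.mk_inv, ← h1, inv_div, div_mul_cancel]
  obtain ⟨c, hc, htc'⟩ := exists_central h2
  -- in `G`
  have htG : ((t₀ : Subgroup.centralizer ({z} : Set G)) : G) =
      ((a : G) * ((q : Subgroup.centralizer ({z} : Set G)) : G) * (a : G)⁻¹)⁻¹ *
        ((q : Subgroup.centralizer ({z} : Set G)) : G) *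
        ((c : Subgroup.centralizer ({z} : Set G)) : G) := by
    have := congrArg (fun r : Q => ((r : Subgroup.centralizer ({z} : Set G)) : G)) htc'
    simp only [Subgroup.coe_mul, Subgroup.coe_inv, cj_coe] at this
    exact this
  have hA : g⁻¹ * (a : G) * g ∈ Q1 Q := mem_E2.1 ha
  have hqG : ((q : Subgroup.centralizer ({z} : Set G)) : G) * (g * z * g⁻¹) =
      (g * z * g⁻¹) * ((q : Subgroup.centralizer ({z} : Set G)) : G) := by
    rw [hg]
    exact congrArg (fun r : Q => ((r : Subgroup.centralizer ({z} : Set G)) : G)) hqs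
  have hk : (g⁻¹ * ((q : Subgroup.centralizer ({z} : Set G)) : G)⁻¹ * g) * z =
      z * (g⁻¹ * ((q : Subgroup.centralizer ({z} : Set G)) : G)⁻¹ * g) := by
    have h3 : ((q : Subgroup.centralizer ({z} : Set G)) : G)⁻¹ * (g * z * g⁻¹) =
        (g * z * g⁻¹) * ((q : Subgroup.centralizer ({z} : Set G)) : G)⁻¹ := by
      calc ((q : Subgroup.centralizer ({z} : Set G)) : G)⁻¹ * (g * z * g⁻¹)
          = ((q : Subgroup.centralizer ({z} : Set G)) : G)⁻¹ *
            ((g * z * g⁻¹) * ((q : Subgroup.centralizer ({z} : Set G)) : G)) *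
            ((q : Subgroup.centralizer ({z} : Set G)) : G)⁻¹ := by group
        _ = (g * z * g⁻¹) * ((q : Subgroup.centralizer ({z} : Set G)) : G)⁻¹ := by
            rw [← hqG]; group
    calc (g⁻¹ * ((q : Subgroup.centralizer ({z} : Set G)) : G)⁻¹ * g) * z
        = g⁻¹ * (((q : Subgroup.centralizer ({z} : Set G)) : G)⁻¹ * (g * z * g⁻¹)) * g := by group
      _ = g⁻¹ * ((g * z * g⁻¹) * ((q : Subgroup.centralizer ({z} : Set G)) : G)⁻¹) * g := by
          rw [h3]
      _ = z * (g⁻¹ * ((q : Subgroup.centralizer ({z} : Set G)) : G)⁻¹ * g) := by group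
  have hB := norm_Q1 (Q := Q) _ hk _ ((Q1 Q).inv_mem hA)
  have hcG : g⁻¹ * ((c : Subgroup.centralizer ({z} : Set G)) : G) * g ∈ Q1 Q := by
    rcases (hE.center c).1 hc with h | h
    · rw [h]
      have : g⁻¹ * (((1 : Q) : Subgroup.centralizer ({z} : Set G)) : G) * g = 1 := by
        simp
      rw [this]
      exact (Q1 Q).one_mem
    · rw [h]
      exact hzQs
  have hfinal : g⁻¹ * ((t₀ : Subgroup.centralizer ({z} : Set G)) : G) * g =
      (g⁻¹ * (a : G) * g) *
      ((g⁻¹ * ((q : Subgroup.centralizer ({z} : Set G)) : G)⁻¹ * g) * (g⁻¹ * (a : G) * g)⁻¹ *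
        (g⁻¹ * ((q : Subgroup.centralizer ({z} : Set G)) : G)⁻¹ * g)⁻¹) *
      (g⁻¹ * ((c : Subgroup.centralizer ({z} : Set G)) : G) * g) := by
    rw [htG]
    group
  rw [hfinal]
  exact (Q1 Q).mul_mem ((Q1 Q).mul_mem hA hB) hcG

/-- for an involution `t` of `Q` not conjugate to `z`, some element of `C_G(t)` moves `z` to
another element of `Q` -/
theorem exists_wc (hM : IsOfMonsterType z Q) (tq : Q)
    (ht2 : orderOf ((tq : Subgroup.centralizer ({z} : Set G)) : G) = 2)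
    (ht : ¬ IsConj z ((tq : Subgroup.centralizer ({z} : Set G)) : G)) :
    ∃ y : G, y * ((tq : Subgroup.centralizer ({z} : Set G)) : G) =
        ((tq : Subgroup.centralizer ({z} : Set G)) : G) * y ∧ y * z * y⁻¹ ≠ z ∧
      ∃ s : Q, ((s : Subgroup.centralizer ({z} : Set G)) : G) = y * z * y⁻¹ := by
  have hM' := hM
  obtain ⟨hS, e, ψ, hψ⟩ := hM
  obtain ⟨t₀, s₀, g, h1, h2, h3, h4, h5, h6⟩ := std_pair hS hψ
  have ht₀1 : ((t₀ : Subgroup.centralizer ({z} : Set G)) : G) ≠ 1 := by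
    intro h
    apply h2
    have : t₀ = 1 := Subtype.ext (Subtype.ext h)
    rw [this]
    intro k
    rw [one_mul, mul_one]
  have ht₀sq : ((t₀ : Subgroup.centralizer ({z} : Set G)) : G) *
      ((t₀ : Subgroup.centralizer ({z} : Set G)) : G) = 1 :=
    congrArg (fun r : Q => ((r : Subgroup.centralizer ({z} : Set G)) : G)) h1
  have ht₀ord : orderOf ((t₀ : Subgroup.centralizer ({z} : Set G)) : G) = 2 :=
    orderOf_eq_prime (by rw [pow_two]; exact ht₀sq) ht₀1
  obtain ⟨h, hhC, hh⟩ := Cfsg.Agent.S5411.result z Q hM'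
    ((t₀ : Subgroup.centralizer ({z} : Set G)) : G) ((tq : Subgroup.centralizer ({z} : Set G)) : G)
    ⟨(t₀ : Subgroup.centralizer ({z} : Set G)).2, t₀.2⟩
    ⟨(tq : Subgroup.centralizer ({z} : Set G)).2, tq.2⟩ ht₀ord ht2 h3 ht
  obtain ⟨t₁q, ht₁q⟩ := mem_Q1.1 h6
  have ht₁ord : orderOf ((t₁q : Subgroup.centralizer ({z} : Set G)) : G) = 2 := by
    rw [ht₁q]
    apply orderOf_eq_prime
    · rw [pow_two]
      calc g⁻¹ * ((t₀ : Subgroup.centralizer ({z} : Set G)) : G) * g *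
          (g⁻¹ * ((t₀ : Subgroup.centralizer ({z} : Set G)) : G) * g)
          = g⁻¹ * (((t₀ : Subgroup.centralizer ({z} : Set G)) : G) *
            ((t₀ : Subgroup.centralizer ({z} : Set G)) : G)) * g := by group
        _ = 1 := by rw [ht₀sq]; group
    · intro h'
      apply ht₀1
      calc ((t₀ : Subgroup.centralizer ({z} : Set G)) : G)
          = g * (g⁻¹ * ((t₀ : Subgroup.centralizer ({z} : Set G)) : G) * g) * g⁻¹ := by group
        _ = 1 := by rw [h']; group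
  have ht₁nc : ¬ IsConj z ((t₁q : Subgroup.centralizer ({z} : Set G)) : G) := by
    intro hc
    apply h3
    apply hc.trans
    rw [isConj_iff]
    refine ⟨g, ?_⟩
    rw [ht₁q]
    group
  obtain ⟨h', hh'C, hh'⟩ := Cfsg.Agent.S5411.result z Q hM'
    ((t₁q : Subgroup.centralizer ({z} : Set G)) : G) ((tq : Subgroup.centralizer ({z} : Set G)) : G)
    ⟨(t₁q : Subgroup.centralizer ({z} : Set G)).2, t₁q.2⟩
    ⟨(tq : Subgroup.centralizer ({z} : Set G)).2, tq.2⟩ ht₁ord ht2 ht₁nc ht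
  have hh'z : h' * z = z * h' := mem_cent_iff.1 hh'C
  have hhz : h * z = z * h := mem_cent_iff.1 hhC
  have hyz : (h * g * h'⁻¹) * z * (h * g * h'⁻¹)⁻¹ =
      h * ((s₀ : Subgroup.centralizer ({z} : Set G)) : G) * h⁻¹ := by
    rw [← h4]
    calc (h * g * h'⁻¹) * z * (h * g * h'⁻¹)⁻¹
        = h * g * (h'⁻¹ * (z * h')) * g⁻¹ * h⁻¹ := by group
      _ = h * g * (h'⁻¹ * (h' * z)) * g⁻¹ * h⁻¹ := by rw [hh'z]
      _ = h * (g * z * g⁻¹) * h⁻¹ := by group
  refine ⟨h * g * h'⁻¹, ?_, ?_, ?_⟩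
  · have hconj : (h * g * h'⁻¹) * ((tq : Subgroup.centralizer ({z} : Set G)) : G) *
        (h * g * h'⁻¹)⁻¹ = ((tq : Subgroup.centralizer ({z} : Set G)) : G) := by
      calc (h * g * h'⁻¹) * ((tq : Subgroup.centralizer ({z} : Set G)) : G) * (h * g * h'⁻¹)⁻¹
          = h * g * (h'⁻¹ * ((tq : Subgroup.centralizer ({z} : Set G)) : G) * h') * g⁻¹ * h⁻¹ := by
            group
        _ = h * g * ((t₁q : Subgroup.centralizer ({z} : Set G)) : G) * g⁻¹ * h⁻¹ := by
            rw [← hh']; group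
        _ = h * ((t₀ : Subgroup.centralizer ({z} : Set G)) : G) * h⁻¹ := by
            rw [ht₁q]; group
        _ = ((tq : Subgroup.centralizer ({z} : Set G)) : G) := hh
    calc (h * g * h'⁻¹) * ((tq : Subgroup.centralizer ({z} : Set G)) : G)
        = ((h * g * h'⁻¹) * ((tq : Subgroup.centralizer ({z} : Set G)) : G) *
          (h * g * h'⁻¹)⁻¹) * (h * g * h'⁻¹) := by group
      _ = ((tq : Subgroup.centralizer ({z} : Set G)) : G) * (h * g * h'⁻¹) := by rw [hconj]
  · rw [hyz]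
    intro hcon
    apply h5
    calc ((s₀ : Subgroup.centralizer ({z} : Set G)) : G)
        = h⁻¹ * (h * ((s₀ : Subgroup.centralizer ({z} : Set G)) : G) * h⁻¹) * h := by group
      _ = h⁻¹ * (z * h) := by rw [hcon]; group
      _ = h⁻¹ * (h * z) := by rw [hhz]
      _ = z := by group
  · refine ⟨cj ⟨h, hhC⟩ s₀, ?_⟩
    rw [hyz, cj_coe]
    rfl

end Cfsg.Agent.Lib.Helper63_BabyWC
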