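import Mathlib
import Cfsg.Prelude.Def_Solvable
import Cfsg.Prelude.Def_Transfer
import Cfsg.Agent.Lib.Helper51_CMDefs
import Cfsg.Agent.Lib.Helper79_CM_C5
import Cfsg.Agent.Lib.Helper63_CM_D1Aaux

/-!
# S3905 market (architect helper51), package CM-D1A (verbatim)

A non-abelian centralizer gives a Sylow centralizer: `Helper63_CM_D1Aaux.exists_sylow_centralizer_aux` fed with the landed
CM-C5 (`Helper79_CM_C5.exponent_of_nonabelian`).
-/

set_option autoImplicit false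
open Cfsg Cfsg.Agent.Lib.Helper51_CMDefs

namespace Cfsg.Agent.Lib.Helper63_CM_D1A

variable {G Γ : Type*} [Group G] [Group Γ] {ρ : G →* MulAut Γ}

/- ===== CM-D1A (M) : a non-abelian centralizer gives a Sylow centralizer. -/
theorem exists_sylow_centralizer (h : Hyp ρ) [Finite Γ]
    (hna : ∃ x : Γ, x ≠ 1 ∧ ∃ a ∈ Cn x, ∃ b ∈ Cn x, a * b ≠ b * a) :
    ∃ p : ℕ, p.Prime ∧ ∃ (P : Sylow p Γ) (z : Γ), z ≠ 1 ∧ (P : Subgroup Γ) = Cn z ∧
      (∃ a ∈ Cn z, ∃ b ∈ Cn z, a * b ≠ b * a) ∧ ∀ c ∈ Cn z, c ^ p = 1 :=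
  Cfsg.Agent.Lib.Helper63_CM_D1Aaux.exists_sylow_centralizer_aux
    (fun _ hx hna' => Cfsg.Agent.Lib.Helper79_CM_C5.exponent_of_nonabelian h hx hna') hna

end Cfsg.Agent.Lib.Helper63_CM_D1A
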