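import Mathlib
import Cfsg.Prelude.Def_Solvable
import Cfsg.Prelude.Def_Transfer
import Cfsg.Agent.Lib.Helper51_CMDefs
import Cfsg.Agent.Lib.Helper51_CMRho

/-!
# S3905 market (architect helper51), package CM-P0-A3 with CM-P0-A1 as a hypothesis

Case A assembled: `Γ = N / Z(N)` is abelian (`hA` for `g = ↑n` and `rho_coe`), every non-trivial element has prime order
(`pow_mem_of_caseA`, here the hypothesis `hA1`, and `mk_eq_one_iff`), so `Γ` has prime exponent
(`exponent_of_prime_orders'`, proved here).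
-/

set_option autoImplicit false
open Cfsg Cfsg.Agent.Lib.Helper51_CMDefs Cfsg.Agent.Lib.Helper51_CMRho

namespace Cfsg.Agent.Lib.Helper63_CM_P0_A3aux

/-- A finite abelian group all of whose non-trivial elements have prime order has prime exponent. -/
theorem exponent_of_prime_orders' {X : Type*} [Group X] [Finite X] (hab : ∀ a b : X, a * b = b * a)
    (hpr : ∀ a : X, a ≠ 1 → ∃ r : ℕ, r.Prime ∧ a ^ r = 1) : ∃ p : ℕ, p.Prime ∧ ∀ a : X, a ^ p = 1 := by
  by_cases htriv : ∀ a : X, a = 1
  · exact ⟨2, Nat.prime_two, fun a => by rw [htriv a, one_pow]⟩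
  · push Not at htriv
    obtain ⟨a, ha⟩ := htriv
    have hord : ∀ b : X, b ≠ 1 → (orderOf b).Prime := by
      intro b hb
      obtain ⟨r, hr, hbr⟩ := hpr b hb
      have h1 : orderOf b ∣ r := orderOf_dvd_of_pow_eq_one hbr
      rcases (Nat.dvd_prime hr).mp h1 with h2 | h2
      · exact absurd (orderOf_eq_one_iff.mp h2) hb
      · rw [h2]; exact hr
    have hra := hord a ha
    refine ⟨orderOf a, hra, fun b => ?_⟩
    by_cases hb : b = 1
    · rw [hb, one_pow]
    · have hsb := hord b hb
      by_cases hrs : orderOf b = orderOf a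
      · rw [← hrs]; exact pow_orderOf_eq_one b
      · exfalso
        have hcop : Nat.Coprime (orderOf a) (orderOf b) :=
          (Nat.coprime_primes hra hsb).mpr (Ne.symm hrs)
        have hmul : orderOf (a * b) = orderOf a * orderOf b :=
          (show Commute a b from hab a b).orderOf_mul_eq_mul_orderOf_of_coprime hcop
        have hab1 : a * b ≠ 1 := by
          intro e
          rw [e, orderOf_one] at hmul
          have := hra.two_le
          have := hsb.two_le
          nlinarith
        have hprime := hord (a * b) hab1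
        rw [hmul] at hprime
        exact Nat.not_prime_mul hra.one_lt.ne' hsb.one_lt.ne' hprime

variable {G : Type*} [Group G]

/-- PK CM-P0-A3 with the statement of CM-P0-A1 (`pow_mem_of_caseA`) as a hypothesis. -/
theorem caseA_aux [Finite G] (N : Subgroup G) [N.Normal]
    (hA1 : ∀ x : ↥N, (x : G) ∉ Subgroup.centralizer (N : Set G) →
      ∃ r : ℕ, r.Prime ∧ (x : G) ^ r ∈ Subgroup.centralizer (N : Set G))
    (hA : ∀ (g : G) (y : ↥N ⧸ Subgroup.center ↥N), rho N g y = y) :
    ∃ p : ℕ, p.Prime ∧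
      Cfsg.IsElementaryAbelian p (⊤ : Subgroup (↥N ⧸ Subgroup.center ↥N)) := by
  have hcomm : ∀ a b : ↥N ⧸ Subgroup.center ↥N, a * b = b * a := by
    intro a b
    obtain ⟨n, rfl⟩ := QuotientGroup.mk_surjective a
    have h1 := hA (n : G) b
    rw [rho_coe, MulAut.conj_apply] at h1
    exact mul_inv_eq_iff_eq_mul.mp h1
  have hpr : ∀ a : ↥N ⧸ Subgroup.center ↥N, a ≠ 1 → ∃ r : ℕ, r.Prime ∧ a ^ r = 1 := by
    intro a ha
    obtain ⟨x, rfl⟩ := QuotientGroup.mk_surjective a
    have hx : (x : G) ∉ Subgroup.centralizer (N : Set G) := fun h => ha ((mk_eq_one_iff N x).mpr h)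
    obtain ⟨r, hr, hxr⟩ := hA1 x hx
    refine ⟨r, hr, ?_⟩
    rw [← QuotientGroup.mk_pow, mk_eq_one_iff, Subgroup.coe_pow]
    exact hxr
  obtain ⟨p, hp, hexp⟩ := exponent_of_prime_orders' hcomm hpr
  refine ⟨p, hp, ⟨⟨fun a b => Subtype.ext (hcomm a.1 b.1)⟩⟩, fun a _ => hexp a⟩

end Cfsg.Agent.Lib.Helper63_CM_P0_A3aux
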