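import Mathlib
import Cfsg.Prelude.Def_Solvable
import Cfsg.Prelude.Def_Transfer
import Cfsg.Agent.Lib.Helper51_CMDefs
import Cfsg.Agent.Lib.Helper51_CMRho
import Cfsg.Agent.Lib.Helper55_CM_P0_A1
import Cfsg.Agent.Lib.Helper63_CM_P0_A3aux

/-!
# S3905 market (architect helper51), package CM-P0-A3 (verbatim)

Case A assembled: `Helper63_CM_P0_A3aux.caseA_aux` fed with the landed CM-P0-A1 (`Helper55_CM_P0_A1.pow_mem_of_caseA`).
-/

set_option autoImplicit false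
open Cfsg Cfsg.Agent.Lib.Helper51_CMDefs Cfsg.Agent.Lib.Helper51_CMRho

namespace Cfsg.Agent.Lib.Helper63_CM_P0_A3

variable {G Γ : Type*} [Group G] [Group Γ] {ρ : G →* MulAut Γ}

/- ===== CM-P0-A3 (M) : case A assembled. -/
theorem caseA [Finite G] (N : Subgroup G) [N.Normal]
    (h : ∀ x : G, x ∈ N → x ∉ Subgroup.centralizer (N : Set G) →
      IsCoatom (Subgroup.centralizer ({x} : Set G)))
    (hA : ∀ (g : G) (y : ↥N ⧸ Subgroup.center ↥N), rho N g y = y) :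
    ∃ p : ℕ, p.Prime ∧
      Cfsg.IsElementaryAbelian p (⊤ : Subgroup (↥N ⧸ Subgroup.center ↥N)) :=
  Cfsg.Agent.Lib.Helper63_CM_P0_A3aux.caseA_aux N
    (fun x hx => Cfsg.Agent.Lib.Helper55_CM_P0_A1.pow_mem_of_caseA N h hA x hx) hA

end Cfsg.Agent.Lib.Helper63_CM_P0_A3
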