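import Mathlib

/-!
# Conjugation of subgroups written as `H.map (MulAut.conj g).toMonoidHom` (helper63)
-/

set_option autoImplicit false

namespace Cfsg.Agent.Lib.Helper63_Conj

open scoped Pointwise

variable {G : Type*} [Group G]

theorem mem_map_conj {H : Subgroup G} {g y : G} :
    y ∈ H.map (MulAut.conj g).toMonoidHom ↔ g⁻¹ * y * g ∈ H := by
  constructor
  · rintro ⟨h, hh, rfl⟩
    simpa [MulAut.conj_apply, mul_assoc] using hh
  · intro h
    exact ⟨g⁻¹ * y * g, h, by simp [MulAut.conj_apply, mul_assoc]⟩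

theorem map_conj_mul (H : Subgroup G) (a b : G) :
    H.map (MulAut.conj (a * b)).toMonoidHom =
      (H.map (MulAut.conj b).toMonoidHom).map (MulAut.conj a).toMonoidHom := by
  ext y
  simp only [mem_map_conj]
  constructor <;> intro h <;> convert h using 1 <;> group

theorem map_conj_one (H : Subgroup G) : H.map (MulAut.conj (1 : G)).toMonoidHom = H := by
  ext y
  simp

theorem map_conj_le {K J : Subgroup G} {x : G} (hx : x ∈ J) (hK : K ≤ J) :
    K.map (MulAut.conj x).toMonoidHom ≤ J := by
  intro y hy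
  rw [mem_map_conj] at hy
  have := J.mul_mem (J.mul_mem hx (hK hy)) (J.inv_mem hx)
  convert this using 1; group

theorem map_conj_eq_of_mem {H : Subgroup G} {x : G} (hx : x ∈ H) :
    H.map (MulAut.conj x).toMonoidHom = H := by
  apply le_antisymm (map_conj_le hx le_rfl)
  intro y hy
  rw [mem_map_conj]
  exact H.mul_mem (H.mul_mem (H.inv_mem hx) hy) hx

theorem mem_normalizer_of_map_conj_eq {S : Subgroup G} {n : G}
    (h : S.map (MulAut.conj n).toMonoidHom = S) : n ∈ Subgroup.normalizer (S : Set G) := by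
  rw [Subgroup.mem_normalizer_iff_map_conj_eq]
  exact h

theorem map_conj_eq_of_mem_normalizer {S : Subgroup G} {n : G}
    (h : n ∈ Subgroup.normalizer (S : Set G)) : S.map (MulAut.conj n).toMonoidHom = S := by
  rw [Subgroup.mem_normalizer_iff_map_conj_eq] at h
  exact h

theorem map_conj_le_normal (A H : Subgroup G) [hA : A.Normal] (hHA : H ≤ A) (g : G) :
    H.map (MulAut.conj g).toMonoidHom ≤ A := by
  intro y hy
  rw [mem_map_conj] at hy
  have := hA.conj_mem _ (hHA hy) g
  convert this using 1; group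

theorem map_conj_subtype (A : Subgroup G) (K : Subgroup A) (a : A) :
    (K.map (MulAut.conj a).toMonoidHom).map A.subtype =
      (K.map A.subtype).map (MulAut.conj (a : G)).toMonoidHom := by
  rw [Subgroup.map_map, Subgroup.map_map]
  congr 1

theorem map_subgroupOf_conj (A H : Subgroup G) (hHA : H ≤ A) (a : A) :
    ((H.subgroupOf A).map (MulAut.conj a).toMonoidHom).map A.subtype =
      H.map (MulAut.conj (a : G)).toMonoidHom := by
  rw [map_conj_subtype, Subgroup.map_subgroupOf_eq_of_le hHA]

theorem card_map_conj (H : Subgroup G) (g : G) :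
    Nat.card (H.map (MulAut.conj g).toMonoidHom) = Nat.card H :=
  Subgroup.card_map_of_injective (MulAut.conj g).injective

theorem isPGroup_map_conj {p : ℕ} {H : Subgroup G} (hH : IsPGroup p H) (g : G) :
    IsPGroup p (H.map (MulAut.conj g).toMonoidHom) :=
  hH.map _

/-- naturality of conjugation w.r.t. a homomorphism -/
theorem map_map_conj {G' : Type*} [Group G'] (f : G →* G') (H : Subgroup G) (g : G) :
    (H.map (MulAut.conj g).toMonoidHom).map f = (H.map f).map (MulAut.conj (f g)).toMonoidHom := by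
  rw [Subgroup.map_map, Subgroup.map_map]
  congr 1
  ext x
  simp [MulAut.conj_apply]

/-- **Sylow conjugacy inside a subgroup** `M`: two `p`-subgroups of `M` whose indices in `M`
are prime to `p` are conjugate by an element of `M`. -/
theorem exists_mem_map_conj_eq [Finite G] {p : ℕ} [Fact p.Prime] (M P Q : Subgroup G)
    (hP : P ≤ M) (hQ : Q ≤ M) (hPp : IsPGroup p P) (hQp : IsPGroup p Q)
    (hPi : ¬ p ∣ P.relIndex M) (hQi : ¬ p ∣ Q.relIndex M) :
    ∃ m ∈ M, Q = P.map (MulAut.conj m).toMonoidHom := by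
  let P' : Sylow p M := (hPp.comap_subtype (K := M)).toSylow hPi
  let Q' : Sylow p M := (hQp.comap_subtype (K := M)).toSylow hQi
  obtain ⟨m, hm⟩ := MulAction.exists_smul_eq M P' Q'
  refine ⟨m, m.2, ?_⟩
  have h1 : ((m • P' : Sylow p M) : Subgroup M) = (Q' : Subgroup M) := by rw [hm]
  rw [Sylow.coe_subgroup_smul] at h1
  have h2 : (P' : Subgroup M) = P.subgroupOf M := rfl
  have h3 : (Q' : Subgroup M) = Q.subgroupOf M := rfl
  rw [h2, h3] at h1
  have h4 : MulAut.conj m • P.subgroupOf M = (P.subgroupOf M).map (MulAut.conj m).toMonoidHom := rfl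
  rw [h4] at h1
  have h5 := congrArg (Subgroup.map M.subtype) h1
  rw [map_subgroupOf_conj M P hP, Subgroup.map_subgroupOf_eq_of_le hQ] at h5
  exact h5.symm

end Cfsg.Agent.Lib.Helper63_Conj
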