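import Mathlib
import Cfsg.Agent.Lib.Helper63_PGroup

/-!
# Counting lemmas for products of subgroups (helper63)
-/

set_option autoImplicit false

namespace Cfsg.Agent.Lib.Helper63_Count

open Cfsg.Agent.Lib.Helper63_PGroup

variable {G : Type*} [Group G]

/-- If `U, V ≤ W` then `|U| |V| ≤ |U ⊓ V| |W|`. -/
theorem card_mul_card_le [Finite G] {U V W : Subgroup G} (hU : U ≤ W) (hV : V ≤ W) :
    Nat.card U * Nat.card V ≤ Nat.card (U ⊓ V : Subgroup G) * Nat.card W := by
  have h1 : Nat.card (U ⊓ V : Subgroup G) * V.relIndex U = Nat.card U := by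
    rw [← Subgroup.inf_relIndex_left]
    exact card_mul_relIndex inf_le_left
  have h2 : Nat.card V * V.relIndex W = Nat.card W := card_mul_relIndex hV
  have h3 : V.relIndex U ≤ V.relIndex W := by
    apply Subgroup.relIndex_le_of_le_right hU
    exact Nat.card_pos.ne'
  rw [← h1, ← h2]
  calc Nat.card (U ⊓ V : Subgroup G) * V.relIndex U * Nat.card V
      ≤ Nat.card (U ⊓ V : Subgroup G) * V.relIndex W * Nat.card V := by gcongr
    _ = Nat.card (U ⊓ V : Subgroup G) * (Nat.card V * V.relIndex W) := by ring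

/-- Equality case of `card_mul_card_le`: `W = U V` as sets. -/
theorem exists_mul_of_card_mul_card_eq [Finite G] {U V W : Subgroup G} (hU : U ≤ W) (hV : V ≤ W)
    (h : Nat.card U * Nat.card V = Nat.card (U ⊓ V : Subgroup G) * Nat.card W) :
    ∀ w ∈ W, ∃ u ∈ U, ∃ v ∈ V, w = u * v := by
  have h1 : Nat.card (U ⊓ V : Subgroup G) * V.relIndex U = Nat.card U := by
    rw [← Subgroup.inf_relIndex_left]
    exact card_mul_relIndex inf_le_left
  have h2 : Nat.card V * V.relIndex W = Nat.card W := card_mul_relIndex hV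
  have h3 : V.relIndex U = V.relIndex W := by
    rw [← h1, ← h2] at h
    have hpos1 : 0 < Nat.card (U ⊓ V : Subgroup G) := Nat.card_pos
    have hpos2 : 0 < Nat.card V := Nat.card_pos
    have : Nat.card (U ⊓ V : Subgroup G) * Nat.card V * V.relIndex U =
        Nat.card (U ⊓ V : Subgroup G) * Nat.card V * V.relIndex W := by
      rw [mul_assoc, mul_comm (Nat.card V), ← mul_assoc, h]; ring
    exact Nat.eq_of_mul_eq_mul_left (Nat.mul_pos hpos1 hpos2) this
  have hbij : Function.Bijective (Subgroup.quotientSubgroupOfEmbeddingOfLE V hU) := by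
    apply (Subgroup.quotientSubgroupOfEmbeddingOfLE V hU).injective.bijective_of_nat_card_le
    have : Nat.card (↥W ⧸ V.subgroupOf W) = Nat.card (↥U ⧸ V.subgroupOf U) := h3.symm
    exact this.le
  intro w hw
  obtain ⟨q, hq⟩ := hbij.2 (QuotientGroup.mk ⟨w, hw⟩)
  obtain ⟨u, rfl⟩ := QuotientGroup.mk_surjective q
  rw [Subgroup.quotientSubgroupOfEmbeddingOfLE_apply_mk, QuotientGroup.eq] at hq
  refine ⟨u, u.2, (u : G)⁻¹ * w, ?_, by group⟩
  have : ((Subgroup.inclusion hU u)⁻¹ * ⟨w, hw⟩ : W) ∈ V.subgroupOf W := hq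
  rw [Subgroup.mem_subgroupOf] at this
  simpa using this

/-- centralizer of a join of subgroups -/
theorem centralizer_sup (A B : Subgroup G) :
    Subgroup.centralizer ((A ⊔ B : Subgroup G) : Set G) =
      Subgroup.centralizer (A : Set G) ⊓ Subgroup.centralizer (B : Set G) := by
  apply le_antisymm
  · apply le_inf
    · exact Subgroup.centralizer_le (by exact_mod_cast (le_sup_left : A ≤ A ⊔ B))
    · exact Subgroup.centralizer_le (by exact_mod_cast (le_sup_right : B ≤ A ⊔ B))
  · rintro x ⟨hxA, hxB⟩
    have hxA : x ∈ Subgroup.centralizer (A : Set G) := hxA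
    have hxB : x ∈ Subgroup.centralizer (B : Set G) := hxB
    rw [Subgroup.mem_centralizer_iff] at hxA hxB ⊢
    intro y hy
    have hle : A ⊔ B ≤ Subgroup.centralizer ({x} : Set G) := by
      apply sup_le
      · intro a ha
        rw [Subgroup.mem_centralizer_iff]
        intro z hz
        rw [Set.mem_singleton_iff] at hz
        rw [hz]; exact (hxA a ha).symm
      · intro b hb
        rw [Subgroup.mem_centralizer_iff]
        intro z hz
        rw [Set.mem_singleton_iff] at hz
        rw [hz]; exact (hxB b hb).symm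
    have := hle hy
    rw [Subgroup.mem_centralizer_iff] at this
    exact (this x rfl).symm

end Cfsg.Agent.Lib.Helper63_Count
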