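import Mathlib

/-!
Helper68_UTGen: an induction principle for upper unitriangular matrices: every upper unitriangular matrix over a
commutative ring is a product of elementary matrices `1 + single i j t` (`i < j`).  helper68.
-/

set_option autoImplicit false

namespace Cfsg.Agent.Lib.Helper68_UTGen

open Matrix

variable {n : ℕ} {R : Type*} [CommRing R]

/-- upper unitriangular -/
def IsUUT (A : Matrix (Fin n) (Fin n) R) : Prop := (∀ i j, j < i → A i j = 0) ∧ ∀ i, A i i = 1

/-- the code of a position -/
def code (n : ℕ) (p : Fin n × Fin n) : ℕ := p.2.val * n + p.1.val + 1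

theorem code_lt_code {p q : Fin n × Fin n} (h : p.2 < q.2 ∨ (p.2 = q.2 ∧ p.1 < q.1)) : code n p < code n q := by
  unfold code
  rcases h with h | ⟨h1, h2⟩
  · have h' : p.2.val + 1 ≤ q.2.val := h
    have := p.1.2
    nlinarith
  · have : p.1.val < q.1.val := h2
    rw [h1]; omega

open Classical in
/-- the measure: the largest code of a non-zero position strictly above the diagonal -/
noncomputable def meas (A : Matrix (Fin n) (Fin n) R) : ℕ :=
  (Finset.univ.filter fun p : Fin n × Fin n => p.1 < p.2 ∧ A p.1 p.2 ≠ 0).sup (code n)

theorem entry_mul_elem (A : Matrix (Fin n) (Fin n) R) (i j : Fin n) (t : R) (k l : Fin n) :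
    (A * (1 + Matrix.single i j t)) k l = A k l + if l = j then A k i * t else 0 := by
  rw [Matrix.mul_add, Matrix.mul_one, Matrix.add_apply]
  congr 1
  rw [Matrix.mul_apply]
  simp only [Matrix.single_apply]
  split_ifs with h
  · subst h
    rw [Finset.sum_eq_single i]
    · simp
    · intro b _ hb
      simp [Ne.symm hb]
    · simp
  · apply Finset.sum_eq_zero
    intro b _
    have : ¬ (i = b ∧ j = l) := fun hh => h hh.2.symm
    simp [this]

theorem isUUT_mul_elem {A : Matrix (Fin n) (Fin n) R} (hA : IsUUT A) {i j : Fin n} (hij : i < j) (t : R) :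
    IsUUT (A * (1 + Matrix.single i j t)) := by
  constructor
  · intro k l hlk
    rw [entry_mul_elem, hA.1 k l hlk, zero_add]
    split_ifs with h
    · subst h
      rw [hA.1 k i (lt_trans hij hlk), zero_mul]
    · rfl
  · intro k
    rw [entry_mul_elem, hA.2 k]
    split_ifs with h
    · subst h
      rw [hA.1 k i hij, zero_mul, add_zero]
    · rw [add_zero]

theorem eq_one_of_meas_eq_zero {A : Matrix (Fin n) (Fin n) R} (hA : IsUUT A) (h : meas A = 0) : A = 1 := by
  classical
  ext i j
  rw [Matrix.one_apply]
  rcases lt_trichotomy i j with hij | hij | hij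
  · rw [if_neg (ne_of_lt hij)]
    by_contra hne
    have hmem : (i, j) ∈ Finset.univ.filter fun p : Fin n × Fin n => p.1 < p.2 ∧ A p.1 p.2 ≠ 0 := by
      simp [hij, hne]
    have := Finset.le_sup (f := code n) hmem
    unfold meas at h
    rw [h] at this
    unfold code at this
    omega
  · subst hij
    rw [if_pos rfl, hA.2]
  · rw [if_neg (ne_of_gt hij), hA.1 i j hij]

/-- INDUCTION PRINCIPLE: a property of matrices which holds for `1` and is preserved by right multiplication with elementary
upper unitriangular matrices holds for all upper unitriangular matrices. -/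
theorem uut_induction (P : Matrix (Fin n) (Fin n) R → Prop) (h1 : P 1)
    (hstep : ∀ (A : Matrix (Fin n) (Fin n) R) (i j : Fin n) (t : R), i < j → P A →
      P (A * (1 + Matrix.single i j t)))
    (A : Matrix (Fin n) (Fin n) R) (hA : IsUUT A) : P A := by
  classical
  induction' hk : meas A using Nat.strong_induction_on with k ih generalizing A
  by_cases h0 : k = 0
  · subst h0
    rw [eq_one_of_meas_eq_zero hA hk]; exact h1
  · -- the top position
    set S := Finset.univ.filter fun p : Fin n × Fin n => p.1 < p.2 ∧ A p.1 p.2 ≠ 0 with hS
    have hne : S.Nonempty := by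
      by_contra hemp
      rw [Finset.not_nonempty_iff_eq_empty] at hemp
      apply h0
      rw [← hk]
      unfold meas
      rw [← hS, hemp, Finset.sup_empty]; rfl
    obtain ⟨p, hpS, hp⟩ := Finset.exists_mem_eq_sup S hne (code n)
    have hp' : meas A = code n p := hp
    obtain ⟨i, j⟩ := p
    have hpS' := (Finset.mem_filter.mp hpS).2
    have hij : i < j := hpS'.1
    -- clear it
    set A' := A * (1 + Matrix.single i j (-(A i j))) with hA'
    have hA'u : IsUUT A' := isUUT_mul_elem hA hij _
    have hmeas : meas A' < k := by
      rw [← hk, hp']
      unfold meas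
      rw [Finset.sup_lt_iff (show (⊥ : ℕ) < code n (i, j) from Nat.succ_pos _)]
      intro q hq
      obtain ⟨hq1, hq2⟩ := (Finset.mem_filter.mp hq).2
      obtain ⟨a, b⟩ := q
      simp only at hq1 hq2
      rw [hA', entry_mul_elem] at hq2
      apply code_lt_code
      simp only
      by_cases hbj : b = j
      · subst hbj
        rw [if_pos rfl] at hq2
        right
        refine ⟨rfl, ?_⟩
        by_contra hnot
        rw [not_lt] at hnot
        rcases eq_or_lt_of_le hnot with h | h
        · subst h
          apply hq2
          rw [hA.2]; ring
        · -- i < a: A a i = 0 and A a b = 0 by maximality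
          apply hq2
          rw [hA.1 a i h, zero_mul, add_zero]
          by_contra hne'
          have hmem : (a, b) ∈ S := by
            rw [hS]; simp [hq1, hne']
          have hle := Finset.le_sup (f := code n) hmem
          rw [hp] at hle
          have : code n (i, b) < code n (a, b) := code_lt_code (Or.inr ⟨rfl, h⟩)
          omega
      · rw [if_neg hbj, add_zero] at hq2
        have hmem : (a, b) ∈ S := by
          rw [hS]; simp [hq1, hq2]
        have hle := Finset.le_sup (f := code n) hmem
        rw [hp] at hle
        -- code (a,b) ≤ code (i,j), b ≠ j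
        rcases lt_trichotomy b j with h | h | h
        · left; exact h
        · exact absurd h hbj
        · exfalso
          have : code n (i, j) < code n (a, b) := code_lt_code (Or.inl h)
          omega
    have hPA' : P A' := ih (meas A') hmeas A' hA'u rfl
    have hback : A = A' * (1 + Matrix.single i j (A i j)) := by
      rw [hA', Matrix.mul_assoc]
      have : (1 + Matrix.single i j (-(A i j))) * (1 + Matrix.single i j (A i j)) = (1 : Matrix (Fin n) (Fin n) R) := by
        rw [Matrix.add_mul, Matrix.mul_add, Matrix.mul_add, Matrix.one_mul, Matrix.mul_one, Matrix.one_mul,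
          Matrix.single_mul_single_of_ne _ _ _ _ (ne_of_gt hij)]
        rw [← Matrix.single_neg]
        abel
      rw [this, Matrix.mul_one]
    rw [hback]
    exact hstep A' i j (A i j) hij hPA'

end Cfsg.Agent.Lib.Helper68_UTGen
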