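import Mathlib
import Cfsg.Agent.Lib.Helper68_EA2
import Cfsg.Agent.Lib.Helper68_EA2Peel
import Cfsg.Agent.Lib.Helper68_UTGen
import Cfsg.Agent.Lib.Helper44_SpUT

/-!
# S4625 market `ea2_packages` (architect helper68), package PSP

`EA2 (PSp m F)` in characteristic 2: the unitriangular subgroup `USp m F` of `Sp_{2m}(F)` is a Sylow 2-subgroup
(`Helper44_SpUT.exists_sylow_Sp`) generated by the involutions `Xg S` (`S` symmetric) and
`Lg (1 + single i j t) (1 + single i j t)` (`i < j`), so `x ^ 2 ∈ ⁅U, U⁆` for all `x ∈ U` (`sqComm_of_gen`);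
then pass to the quotient by the centre.
-/

set_option autoImplicit false

namespace Cfsg.Agent.Lib.Helper63_EA2_PSP

open Matrix Cfsg.Agent.Lib.Helper68_EA2 Cfsg.Agent.Lib.Helper44_SpUT Cfsg.Agent.Lib.Helper44_PSLnUT
  Cfsg.Agent.Lib.Helper5_SpPerfect Cfsg.Agent.Lib.Helper68_UTGen

variable {F : Type*} [Field F] {m : ℕ}

/-- in characteristic 2 the elementary matrix `1 + single i j t` (`i ≠ j`) is an involution -/
theorem elem_mul_self [CharP F 2] {i j : Fin m} (hij : i ≠ j) (t : F) :
    (1 + Matrix.single i j t : Matrix (Fin m) (Fin m) F) * (1 + Matrix.single i j t) = 1 := by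
  rw [Matrix.add_mul, Matrix.mul_add, Matrix.mul_add, Matrix.one_mul, Matrix.mul_one, Matrix.one_mul,
    Matrix.single_mul_single_of_ne _ _ _ _ hij.symm, add_zero, add_assoc, ← Matrix.single_add,
    CharTwo.add_self_eq_zero, Matrix.single_zero, add_zero]

/-- the generating set of `USp m F`: Siegel elements and elementary Levi elements -/
def gens (m : ℕ) (F : Type*) [Field F] : Set (symplecticGroup (Fin m) F) :=
  {g | (∃ (S : Matrix (Fin m) (Fin m) F) (hS : Sᵀ = S), g = Xg S hS) ∨
    ∃ (i j : Fin m) (t : F) (_ : i < j) (h : (1 + Matrix.single i j t : Matrix (Fin m) (Fin m) F) *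
      (1 + Matrix.single i j t) = 1), g = Lg (1 + Matrix.single i j t) (1 + Matrix.single i j t) h}

theorem Lg_eq_of_eq {A B A' B' : Matrix (Fin m) (Fin m) F} (h : A * B = 1) (h' : A' * B' = 1)
    (hA : A = A') (hB : B = B') : Lg A B h = Lg A' B' h' := by
  subst hA hB
  rfl

theorem gens_subset : gens m F ⊆ (USp m F : Set (symplecticGroup (Fin m) F)) := by
  rintro g (⟨S, hS, rfl⟩ | ⟨i, j, t, hij, h, rfl⟩)
  · exact Xg_mem_USp hS
  · have hut := isUT_one_add_single hij t
    have hinv : (1 + Matrix.single i j t : Matrix (Fin m) (Fin m) F)⁻¹ = 1 + Matrix.single i j t :=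
      Matrix.inv_eq_right_inv h
    have := Lg_mem_USp hut
    rwa [Lg_eq_of_eq (isUT_mul_inv hut) h rfl hinv] at this

theorem Lg_mem_closure [CharP F 2] (A : Matrix (Fin m) (Fin m) F) (hA : IsUUT A) :
    ∀ (B : Matrix (Fin m) (Fin m) F) (h : A * B = 1), Lg A B h ∈ Subgroup.closure (gens m F) := by
  refine uut_induction (fun A => ∀ (B : Matrix (Fin m) (Fin m) F) (h : A * B = 1),
    Lg A B h ∈ Subgroup.closure (gens m F)) ?_ ?_ A hA
  · intro B h
    have hB : B = 1 := by rw [← h, Matrix.one_mul]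
    have : Lg (1 : Matrix (Fin m) (Fin m) F) B h = 1 := by
      apply Subtype.ext
      show Lmat 1 B = 1
      unfold Lmat
      rw [hB, Matrix.transpose_one, Matrix.fromBlocks_one]
    rw [this]
    exact one_mem _
  · intro A i j t hij ih B h
    have hE := elem_mul_self (F := F) (ne_of_lt hij) t
    have h1 : A * ((1 + Matrix.single i j t) * B) = 1 := by rw [← Matrix.mul_assoc]; exact h
    have h2 := ih _ h1
    have h3 : Lg (1 + Matrix.single i j t) (1 + Matrix.single i j t) hE ∈ Subgroup.closure (gens m F) :=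
      Subgroup.subset_closure (Or.inr ⟨i, j, t, hij, hE, rfl⟩)
    have h4 : Lg (A * (1 + Matrix.single i j t)) B h =
        Lg A ((1 + Matrix.single i j t) * B) h1 *
          Lg (1 + Matrix.single i j t) (1 + Matrix.single i j t) hE := by
      apply Subtype.ext
      show Lmat (A * (1 + Matrix.single i j t)) B =
        Lmat A ((1 + Matrix.single i j t) * B) * Lmat (1 + Matrix.single i j t) (1 + Matrix.single i j t)
      unfold Lmat
      rw [Matrix.fromBlocks_multiply]
      simp only [Matrix.mul_zero, Matrix.zero_mul, add_zero, zero_add]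
      congr 1
      rw [← Matrix.transpose_mul, ← Matrix.mul_assoc, hE, Matrix.one_mul]
    rw [h4]
    exact mul_mem h2 h3

theorem closure_gens [CharP F 2] : Subgroup.closure (gens m F) = USp m F := by
  apply le_antisymm
  · exact (Subgroup.closure_le _).mpr gens_subset
  · intro g hg
    rw [eq_Lg_mul_Xg hg]
    apply mul_mem
    · exact Lg_mem_closure _ hg.2 _ _
    · exact Subgroup.subset_closure (Or.inl ⟨_, _, rfl⟩)

theorem gens_sq [CharP F 2] (s : symplecticGroup (Fin m) F) (hs : s ∈ gens m F) : s ^ 2 = 1 := by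
  rcases hs with ⟨S, hS, rfl⟩ | ⟨i, j, t, hij, h, rfl⟩
  · rw [pow_two, Xg_mul]
    have h0 : S + S = 0 := by
      ext a b
      exact CharTwo.add_self_eq_zero (S a b)
    rw [Xg_congr h0]
    exact Xg_zero
  · rw [pow_two]
    exact Lg_mul_self h

/-- **PSP** -/
theorem ea2_psp {F : Type*} [Field F] [Fintype F] [CharP F 2] (m : ℕ) (hm : 2 ≤ m) :
    EA2 (Cfsg.PSp m F) := by
  have _ := hm
  have : Fact (Nat.Prime 2) := ⟨Nat.prime_two⟩
  have hfin : Finite (symplecticGroup (Fin m) F) := Subtype.finite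
  obtain ⟨f, _, hF⟩ := FiniteField.card F 2
  obtain ⟨Q, hQ⟩ := exists_sylow_Sp (m := m) (F := F) (p := 2) (f := (f : ℕ)) hF
  have hsq : SqComm (USp m F) := by
    apply sqComm_of_gen (USp m F) (gens m F) closure_gens
    intro s hs
    rw [gens_sq s hs]
    exact one_mem _
  have h1 : EA2 (symplecticGroup (Fin m) F) := Cfsg.Agent.Lib.Helper68_EA2Peel.ea2_of_sylow_eq Q (USp m F) hQ hsq
  exact Cfsg.Agent.Lib.Helper68_EA2Peel.ea2_quot (Subgroup.center (symplecticGroup (Fin m) F)) h1

end Cfsg.Agent.Lib.Helper63_EA2_PSP
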