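import Mathlib
import Cfsg.Agent.S5396

/-!
A concrete model `M32` of the extraspecial group `2^{1+4}_-` of order 32 and its automorphisms
(helper63).  Coordinates `(a, b, c, d, t)` mirror `ES 2 (Pi.single 0 1)` of `Cfsg.Agent.S5396`.
-/

set_option autoImplicit false

namespace Cfsg.Agent.Lib.Helper63_ES32

/-- the concrete group of order 32 -/
@[ext] structure M32 where
  a : ZMod 2
  b : ZMod 2
  c : ZMod 2
  d : ZMod 2
  t : ZMod 2
deriving DecidableEq, Fintype

namespace M32

instance : Mul M32 := ⟨fun x y => ⟨x.a + y.a, x.b + y.b, x.c + y.c, x.d + y.d,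
  x.t + y.t + (x.a * y.b + x.a * y.a + x.b * y.b + x.c * y.d)⟩⟩
instance : One M32 := ⟨⟨0, 0, 0, 0, 0⟩⟩
instance : Inv M32 := ⟨fun x => ⟨-x.a, -x.b, -x.c, -x.d,
  -x.t + (x.a * x.b + x.a * x.a + x.b * x.b + x.c * x.d)⟩⟩

@[simp] theorem mul_a (x y : M32) : (x * y).a = x.a + y.a := rfl
@[simp] theorem mul_b (x y : M32) : (x * y).b = x.b + y.b := rfl
@[simp] theorem mul_c (x y : M32) : (x * y).c = x.c + y.c := rfl
@[simp] theorem mul_d (x y : M32) : (x * y).d = x.d + y.d := rfl
@[simp] theorem mul_t (x y : M32) : (x * y).t =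
    x.t + y.t + (x.a * y.b + x.a * y.a + x.b * y.b + x.c * y.d) := rfl
@[simp] theorem one_a : (1 : M32).a = 0 := rfl
@[simp] theorem one_b : (1 : M32).b = 0 := rfl
@[simp] theorem one_c : (1 : M32).c = 0 := rfl
@[simp] theorem one_d : (1 : M32).d = 0 := rfl
@[simp] theorem one_t : (1 : M32).t = 0 := rfl
@[simp] theorem inv_a (x : M32) : (x⁻¹).a = -x.a := rfl
@[simp] theorem inv_b (x : M32) : (x⁻¹).b = -x.b := rfl
@[simp] theorem inv_c (x : M32) : (x⁻¹).c = -x.c := rfl
@[simp] theorem inv_d (x : M32) : (x⁻¹).d = -x.d := rfl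
@[simp] theorem inv_t (x : M32) : (x⁻¹).t =
    -x.t + (x.a * x.b + x.a * x.a + x.b * x.b + x.c * x.d) := rfl

instance : Group M32 where
  mul_assoc x y z := by
    ext <;> simp only [mul_a, mul_b, mul_c, mul_d, mul_t] <;> ring
  one_mul x := by
    ext <;> simp
  mul_one x := by
    ext <;> simp
  inv_mul_cancel x := by
    ext <;> simp only [mul_a, mul_b, mul_c, mul_d, mul_t, inv_a, inv_b, inv_c, inv_d, inv_t,
      one_a, one_b, one_c, one_d, one_t] <;> ring

/-- the central involution -/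
def z : M32 := ⟨0, 0, 0, 0, 1⟩

/-- representatives of the five singular cosets -/
def s : Fin 5 → M32 :=
  ![⟨0, 0, 0, 1, 0⟩, ⟨0, 0, 1, 0, 0⟩, ⟨1, 1, 1, 1, 0⟩, ⟨0, 1, 1, 1, 0⟩, ⟨1, 0, 1, 1, 0⟩]

/-- the index of the singular coset of an element (junk value `0` elsewhere) -/
def idx (x : M32) : Fin 5 :=
  if (x.a, x.b, x.c, x.d) = (0, 0, 1, 0) then 1
  else if (x.a, x.b, x.c, x.d) = (1, 1, 1, 1) then 2
  else if (x.a, x.b, x.c, x.d) = (0, 1, 1, 1) then 3
  else if (x.a, x.b, x.c, x.d) = (1, 0, 1, 1) then 4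
  else 0

/-- the automorphism of order five, as a function -/
def rhoFun (x : M32) : M32 :=
  ⟨x.a + x.c, x.a + x.b + x.c, x.b + x.c + x.d, x.c, x.t + x.a * x.b + x.a * x.c + x.c * x.d⟩

/-- the automorphism inducing a transposition, as a function -/
def tauFun (x : M32) : M32 := ⟨x.b, x.a, x.c, x.d, x.t + x.a * x.b⟩

set_option maxRecDepth 100000 in
theorem rhoFun_mul : ∀ x y : M32, rhoFun (x * y) = rhoFun x * rhoFun y := by decide

set_option maxRecDepth 100000 in
theorem tauFun_mul : ∀ x y : M32, tauFun (x * y) = tauFun x * tauFun y := by decide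

set_option maxRecDepth 100000 in
theorem rhoFun_inj : ∀ x y : M32, rhoFun x = rhoFun y → x = y := by decide

set_option maxRecDepth 100000 in
theorem tauFun_inj : ∀ x y : M32, tauFun x = tauFun y → x = y := by decide

/-- exponent by a boolean -/
def pw (g : M32) (e : Bool) : M32 := if e then g else 1

@[simp] theorem pw_true (g : M32) : pw g true = g := rfl
@[simp] theorem pw_false (g : M32) : pw g false = 1 := rfl

theorem z_ne_one : z ≠ 1 := by decide

theorem z_central : ∀ y : M32, z * y = y * z := by decide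

set_option maxRecDepth 100000 in
theorem center_cases : ∀ x : M32, (∀ y, x * y = y * x) → x = 1 ∨ x = z := by decide

theorem invol_class : ∀ x : M32, x * x = 1 → x ≠ 1 → x ≠ z → x = s (idx x) ∨ x = s (idx x) * z := by
  decide

theorem s_sq : ∀ i, s i * s i = 1 := by decide

theorem s_ne_one : ∀ i, s i ≠ 1 := by decide

theorem s_ne_z : ∀ i, s i ≠ z := by decide

theorem idx_s : ∀ i, idx (s i) = i := by decide

theorem idx_mul_z : ∀ x, idx (x * z) = idx x := by decide

set_option maxRecDepth 100000 in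
theorem idx_conj : ∀ (x : M32) (i : Fin 5), idx (x * s i * x⁻¹) = i := by decide

set_option maxRecDepth 100000 in
theorem inner_real : ∀ e0 e1 e2 e3 : Bool, ∃ x : M32,
    x * s 0 * x⁻¹ = s 0 * pw z e0 ∧ x * s 1 * x⁻¹ = s 1 * pw z e1 ∧
    x * s 2 * x⁻¹ = s 2 * pw z e2 ∧ x * s 3 * x⁻¹ = s 3 * pw z e3 := by decide

set_option maxRecDepth 100000 in
theorem gen : ∀ x : M32, ∃ e0 e1 e2 e3 e4 : Bool,
    x = pw (s 0) e0 * pw (s 1) e1 * pw (s 2) e2 * pw (s 3) e3 * pw z e4 := by decide

theorem z_eq : z = s 0 * s 1 * s 0 * s 1 := by decide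

theorem idx_rho : ∀ i : Fin 5, idx (rhoFun (s i)) = i + 1 := by decide

theorem idx_tau : ∀ i : Fin 5, idx (tauFun (s i)) = Equiv.swap 3 4 i := by decide

/-! ### automorphisms -/

/-- the automorphism of order five -/
noncomputable def rho : MulAut M32 :=
  MulEquiv.ofBijective (MonoidHom.mk' rhoFun rhoFun_mul)
    ((Finite.injective_iff_bijective).1 (fun x y h => rhoFun_inj x y h))

/-- the automorphism inducing a transposition -/
noncomputable def tau : MulAut M32 :=
  MulEquiv.ofBijective (MonoidHom.mk' tauFun tauFun_mul)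
    ((Finite.injective_iff_bijective).1 (fun x y h => tauFun_inj x y h))

theorem rho_apply (x : M32) : rho x = rhoFun x := rfl
theorem tau_apply (x : M32) : tau x = tauFun x := rfl

theorem aut_z (α : MulAut M32) : α z = z := by
  have h1 : ∀ y, α z * y = y * α z := by
    intro y
    have h2 := congrArg α (z_central (α⁻¹ y))
    rwa [map_mul, map_mul, MulAut.apply_inv_self] at h2
  rcases center_cases _ h1 with h | h
  · exfalso
    exact z_ne_one (α.injective (by rw [h, map_one]))
  · exact h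

theorem aut_s (α : MulAut M32) (i : Fin 5) :
    α (s i) = s (idx (α (s i))) ∨ α (s i) = s (idx (α (s i))) * z := by
  apply invol_class
  · rw [← map_mul, s_sq, map_one]
  · intro h
    exact s_ne_one i (α.injective (by rw [h, map_one]))
  · intro h
    exact s_ne_z i (α.injective (by rw [h, aut_z]))

/-- the action of the automorphism group on the five singular cosets -/
@[reducible] def act : MulAction (MulAut M32) (Fin 5) where
  smul α i := idx (α (s i))
  one_smul i := idx_s i
  mul_smul α β i := by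
    show idx ((α * β) (s i)) = idx (α (s (idx (β (s i)))))
    rw [MulAut.mul_apply]
    rcases aut_s β i with h | h
    · rw [← h]
    · have h2 : α (β (s i)) = α (s (idx (β (s i)))) * z := by
        conv_lhs => rw [h]
        rw [map_mul, aut_z]
      rw [h2, idx_mul_z]

/-- the permutation representation on the five singular cosets -/
def Phi : MulAut M32 →* Equiv.Perm (Fin 5) := @MulAction.toPermHom (MulAut M32) (Fin 5) _ act

theorem Phi_apply (α : MulAut M32) (i : Fin 5) : Phi α i = idx (α (s i)) := rfl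

theorem map_pw (f : M32 →* M32) (g : M32) (e : Bool) : f (pw g e) = pw (f g) e := by
  cases e <;> simp

theorem hom_ext_s {f g : M32 →* M32} (h0 : f (s 0) = g (s 0)) (h1 : f (s 1) = g (s 1))
    (h2 : f (s 2) = g (s 2)) (h3 : f (s 3) = g (s 3)) : f = g := by
  have hz : f z = g z := by
    rw [z_eq, map_mul, map_mul, map_mul, map_mul, map_mul, map_mul, h0, h1]
  refine MonoidHom.ext fun y => ?_
  obtain ⟨e0, e1, e2, e3, e4, rfl⟩ := gen y
  simp only [map_mul, map_pw, h0, h1, h2, h3, hz]

theorem conj_mem_ker (x : M32) : MulAut.conj x ∈ Phi.ker := by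
  rw [MonoidHom.mem_ker]
  ext i
  rw [Phi_apply, MulAut.conj_apply, idx_conj]
  rfl

theorem exists_pw_of_or {y g : M32} (h : y = g ∨ y = g * z) : ∃ e : Bool, y = g * pw z e := by
  rcases h with h | h
  · exact ⟨false, by simpa using h⟩
  · exact ⟨true, by simpa using h⟩

theorem ker_le_range : Phi.ker ≤ (MulAut.conj : M32 →* MulAut M32).range := by
  intro α hα
  rw [MonoidHom.mem_ker] at hα
  have hi : ∀ i, idx (α (s i)) = i := by
    intro i
    rw [← Phi_apply, hα]
    rfl
  have hs : ∀ i, ∃ e : Bool, α (s i) = s i * pw z e := by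
    intro i
    have h := aut_s α i
    rw [hi i] at h
    exact exists_pw_of_or h
  obtain ⟨e0, h0⟩ := hs 0
  obtain ⟨e1, h1⟩ := hs 1
  obtain ⟨e2, h2⟩ := hs 2
  obtain ⟨e3, h3⟩ := hs 3
  obtain ⟨x, hx0, hx1, hx2, hx3⟩ := inner_real e0 e1 e2 e3
  refine ⟨x, ?_⟩
  have key : (MulAut.conj x).toMonoidHom = α.toMonoidHom := by
    apply hom_ext_s
    · show MulAut.conj x (s 0) = α (s 0)
      rw [MulAut.conj_apply, hx0, h0]
    · show MulAut.conj x (s 1) = α (s 1)
      rw [MulAut.conj_apply, hx1, h1]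
    · show MulAut.conj x (s 2) = α (s 2)
      rw [MulAut.conj_apply, hx2, h2]
    · show MulAut.conj x (s 3) = α (s 3)
      rw [MulAut.conj_apply, hx3, h3]
  refine MulEquiv.ext fun y => ?_
  exact DFunLike.congr_fun key y

theorem ker_Phi : Phi.ker = (MulAut.conj : M32 →* MulAut M32).range := by
  apply le_antisymm ker_le_range
  rintro _ ⟨x, rfl⟩
  exact conj_mem_ker x

theorem Phi_rho : Phi rho = finRotate 5 := by
  ext i
  rw [Phi_apply, rho_apply, idx_rho, finRotate_apply]

theorem Phi_tau : Phi tau = Equiv.swap 3 4 := by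
  ext i
  rw [Phi_apply, tau_apply, idx_tau]

theorem Phi_surjective : Function.Surjective Phi := by
  rw [← MonoidHom.range_eq_top]
  have h := Equiv.Perm.closure_prime_cycle_swap (σ := finRotate 5) (τ := Equiv.swap (3 : Fin 5) 4)
    (by simp; norm_num) (isCycle_finRotate) (support_finRotate) ⟨3, 4, by decide, rfl⟩
  rw [eq_top_iff, ← h, Subgroup.closure_le]
  rintro σ (rfl | rfl)
  · exact ⟨rho, Phi_rho⟩
  · exact ⟨tau, Phi_tau⟩

/-- the standard extraspecial group of minus type and order 32 is `M32` -/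
def esIso (h : 1 ≤ 2) :
    Cfsg.Agent.S5396.ES 2 (Pi.single (⟨0, h⟩ : Fin 2) (1 : ZMod 2)) ≃* M32 where
  toFun x := ⟨(x.v 0).1, (x.v 0).2, (x.v 1).1, (x.v 1).2, x.c⟩
  invFun m := ⟨![(m.a, m.b), (m.c, m.d)], m.t⟩
  left_inv x := by
    refine Cfsg.Agent.S5396.ES.ext ?_ rfl
    funext i
    fin_cases i <;> rfl
  right_inv m := rfl
  map_mul' x y := by
    refine M32.ext rfl rfl rfl rfl ?_
    show (x * y).c = x.c + y.c + _
    rw [Cfsg.Agent.S5396.ES.mul_c]
    unfold Cfsg.Agent.S5396.β
    rw [Fin.sum_univ_two]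
    have e0 : (Pi.single (⟨0, h⟩ : Fin 2) (1 : ZMod 2) : Fin 2 → ZMod 2) 0 = 1 := by
      show (Pi.single (0 : Fin 2) (1 : ZMod 2) : Fin 2 → ZMod 2) 0 = 1
      simp
    have e1 : (Pi.single (⟨0, h⟩ : Fin 2) (1 : ZMod 2) : Fin 2 → ZMod 2) 1 = 0 := by
      show (Pi.single (0 : Fin 2) (1 : ZMod 2) : Fin 2 → ZMod 2) 1 = 0
      simp
    rw [e0, e1]
    ring

end M32

/-! ### transport to an abstract group -/

section transport
variable {P : Type*} [Group P]

theorem conj_range_normal : (MulAut.conj : P →* MulAut P).range.Normal := by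
  constructor
  rintro _ ⟨g, rfl⟩ α
  refine ⟨α g, ?_⟩
  refine MulEquiv.ext fun y => ?_
  simp [MulAut.conj_apply, map_mul, map_inv]

theorem congr_conj {Q : Type*} [Group Q] (e : P ≃* Q) (g : P) :
    MulAut.congr e (MulAut.conj g) = MulAut.conj (e g) := by
  refine MulEquiv.ext fun y => ?_
  simp [MulAut.congr, MulAut.conj_apply, map_mul, map_inv]

/-- the permutation representation of `Aut P` for `P ≃* M32` -/
def Psi (e : P ≃* M32) : MulAut P →* Equiv.Perm (Fin 5) :=
  M32.Phi.comp (MulAut.congr e).toMonoidHom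

theorem Psi_surjective (e : P ≃* M32) : Function.Surjective (Psi e) :=
  M32.Phi_surjective.comp (MulAut.congr e).surjective

theorem ker_Psi (e : P ≃* M32) : (Psi e).ker = (MulAut.conj : P →* MulAut P).range := by
  ext α
  rw [MonoidHom.mem_ker]
  show M32.Phi (MulAut.congr e α) = 1 ↔ _
  rw [← MonoidHom.mem_ker, M32.ker_Phi]
  constructor
  · rintro ⟨x, hx⟩
    refine ⟨e.symm x, ?_⟩
    apply (MulAut.congr e).injective
    rw [congr_conj, MulEquiv.apply_symm_apply, hx]
  · rintro ⟨g, rfl⟩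
    exact ⟨e g, (congr_conj e g).symm⟩

theorem out_iso (e : P ≃* M32) [(MulAut.conj : P →* MulAut P).range.Normal] :
    Nonempty ((MulAut P ⧸ (MulAut.conj : P →* MulAut P).range) ≃* Equiv.Perm (Fin 5)) :=
  ⟨(QuotientGroup.quotientMulEquivOfEq (ker_Psi e).symm).trans
    (QuotientGroup.quotientKerEquivOfSurjective (Psi e) (Psi_surjective e))⟩

end transport

end Cfsg.Agent.Lib.Helper63_ES32
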