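import Mathlib
import Cfsg.Agent.Lib.Helper6_FT3Defs

/-!
S3331-G1 (helper6's FT3 market): under `Hyp G X` a conjugacy class of subgroups has at most two members normalized
by `X`.  Self-contained (does not use BASIC): `X` is a Sylow 3-subgroup, Sylow conjugacy inside `N_G(A)`, and
`N_G(X)/C_G(X)` embeds in `Aut X` of order 2.  helper63.
-/

set_option autoImplicit false

namespace Cfsg.Agent.Lib.Helper63_FT3_G1

open Cfsg Cfsg.Agent.Lib.Helper6_FT3Defs

universe u

variable {G : Type u} [Group G] [Finite G] {X : Subgroup G}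

omit [Finite G] in
theorem mem_cj {g : G} {A : Subgroup G} {y : G} : y ∈ cj g A ↔ g⁻¹ * y * g ∈ A := by
  constructor
  · rintro ⟨a, ha, rfl⟩
    simpa [MulAut.conj_apply, mul_assoc] using ha
  · intro hy
    exact ⟨g⁻¹ * y * g, hy, by simp [MulAut.conj_apply, mul_assoc]⟩

omit [Finite G] in
theorem cj_mul (g k : G) (A : Subgroup G) : cj (g * k) A = cj g (cj k A) := by
  ext y
  rw [mem_cj, mem_cj, mem_cj]
  simp [mul_assoc]

omit [Finite G] in
theorem cj_of_mem_normalizer {n : G} {A : Subgroup G} (hn : n ∈ Subgroup.normalizer (A : Set G)) :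
    cj n A = A := by
  ext y
  rw [mem_cj]
  have := (Subgroup.mem_normalizer_iff.1 (inv_mem hn)) y
  rw [inv_inv] at this
  exact this.symm

omit [Finite G] in
theorem conj_mem_normalizer {g x : G} {A : Subgroup G}
    (hx : x ∈ Subgroup.normalizer ((cj g A : Subgroup G) : Set G)) :
    g⁻¹ * x * g ∈ Subgroup.normalizer (A : Set G) := by
  rw [Subgroup.mem_normalizer_iff] at hx ⊢
  intro a
  have h1 := hx (g * a * g⁻¹)
  rw [mem_cj, mem_cj] at h1
  have e1 : g⁻¹ * (g * a * g⁻¹) * g = a := by group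
  have e2 : g⁻¹ * (x * (g * a * g⁻¹) * x⁻¹) * g = g⁻¹ * x * g * a * (g⁻¹ * x * g)⁻¹ := by group
  rw [e1, e2] at h1
  exact h1

/-- Under `Hyp G X` the subgroup `X` is a Sylow 3-subgroup. -/
theorem exists_sylow_eq (h : Hyp G X) : ∃ P : Sylow 3 G, (P : Subgroup G) = X := by
  have : Fact (Nat.Prime 3) := ⟨Nat.prime_three⟩
  have hX3 : IsPGroup 3 X := IsPGroup.of_card (n := 1) (by rw [h.1]; norm_num)
  obtain ⟨P, hXP⟩ := hX3.exists_le_sylow
  refine ⟨P, le_antisymm ?_ hXP⟩
  have hXnt : Nontrivial X := by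
    rw [← Finite.one_lt_card_iff_nontrivial, h.1]; norm_num
  have : Nontrivial (P : Subgroup G) := by
    obtain ⟨a, b, hab⟩ := hXnt
    refine ⟨⟨⟨a.1, hXP a.2⟩, ⟨b.1, hXP b.2⟩, fun hh => hab (Subtype.ext ?_)⟩⟩
    exact congrArg (fun t : (P : Subgroup G) => (t : G)) hh
  have := IsPGroup.center_nontrivial P.isPGroup'
  obtain ⟨z, hz⟩ := exists_ne (1 : Subgroup.center (P : Subgroup G))
  -- z is a nontrivial central element of P
  have hzc : ∀ y : (P : Subgroup G), y * z.1 = z.1 * y := fun y => (Subgroup.mem_center_iff.1 z.2 y)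
  have hzX : ((z.1 : (P : Subgroup G)) : G) ∈ X := by
    rw [← h.2, Subgroup.mem_centralizer_iff]
    intro x hx
    have := hzc ⟨x, hXP hx⟩
    exact congrArg (fun t : (P : Subgroup G) => (t : G)) this
  have hz1 : (⟨((z.1 : (P : Subgroup G)) : G), hzX⟩ : X) ≠ 1 := by
    intro hh
    apply hz
    apply Subtype.ext
    apply Subtype.ext
    exact congrArg (fun t : X => (t : G)) hh
  intro y hy
  rw [← h.2, Subgroup.mem_centralizer_iff]
  intro x hx
  -- x is a power of z
  have hxz := mem_zpowers_of_prime_card (p := 3) h.1 hz1 (g' := ⟨x, hx⟩)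
  obtain ⟨k, hk⟩ := Subgroup.mem_zpowers_iff.1 hxz
  have hk' : ((z.1 : (P : Subgroup G)) : G) ^ k = x := by
    have := congrArg (fun t : X => (t : G)) hk
    simpa using this
  have hyz : y * ((z.1 : (P : Subgroup G)) : G) = ((z.1 : (P : Subgroup G)) : G) * y :=
    congrArg (fun t : (P : Subgroup G) => (t : G)) (hzc ⟨y, hy⟩)
  rw [← hk']
  exact ((Commute.zpow_right (show Commute y _ from hyz) k).eq).symm

/-- Core: if `X` normalizes `A` and `cj g A`, then `cj g A = cj v A` for some `v ∈ N_G(X)`. -/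
theorem core (h : Hyp G X) (A : Subgroup G) (hXA : X ≤ Subgroup.normalizer (A : Set G)) (g : G)
    (hg : X ≤ Subgroup.normalizer ((cj g A : Subgroup G) : Set G)) :
    ∃ v ∈ Subgroup.normalizer (X : Set G), cj g A = cj v A := by
  have : Fact (Nat.Prime 3) := ⟨Nat.prime_three⟩
  obtain ⟨P, hP⟩ := exists_sylow_eq h
  have h1 : (P : Subgroup G) ≤ Subgroup.normalizer (A : Set G) := hP ▸ hXA
  have h2 : ((g⁻¹ • P : Sylow 3 G) : Subgroup G) ≤ Subgroup.normalizer (A : Set G) := by
    intro y hy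
    rw [Sylow.coe_subgroup_smul, Subgroup.mem_pointwise_smul_iff_inv_smul_mem] at hy
    have hy' : g * y * g⁻¹ ∈ X := by
      rw [← hP]
      simpa [MulAut.smul_def, MulAut.conj_apply] using hy
    have := conj_mem_normalizer (hg hy')
    have e : g⁻¹ * (g * y * g⁻¹) * g = y := by group
    rwa [e] at this
  obtain ⟨n, hn⟩ := MulAction.exists_smul_eq (Subgroup.normalizer (A : Set G))
    ((g⁻¹ • P).subtype h2) (P.subtype h1)
  simp_rw [Sylow.smul_subtype, Subgroup.smul_def, smul_smul] at hn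
  have hu : (n : G) * g⁻¹ ∈ Subgroup.normalizer ((P : Subgroup G) : Set G) :=
    Sylow.smul_eq_iff_mem_normalizer.mp (Sylow.subtype_injective hn)
  rw [hP] at hu
  refine ⟨g * (n : G)⁻¹, ?_, ?_⟩
  · have := inv_mem hu
    rwa [mul_inv_rev, inv_inv] at this
  · rw [cj_mul, cj_of_mem_normalizer (inv_mem n.2)]

/-- PKG G1. -/
theorem card_conj_normalized_le_two (h : Hyp G X) (A : Subgroup G) :
    Nat.card {B : Subgroup G // (∃ g : G, B = cj g A) ∧
      X ≤ Subgroup.normalizer (B : Set G)} ≤ 2 := by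
  by_cases hne : Nonempty {B : Subgroup G // (∃ g : G, B = cj g A) ∧
      X ≤ Subgroup.normalizer (B : Set G)}
  swap
  · rw [not_nonempty_iff] at hne
    rw [Nat.card_of_isEmpty]
    omega
  obtain ⟨⟨B₁, ⟨g₁, hB₁⟩, hXB₁⟩⟩ := hne
  have hall : ∀ B : {B : Subgroup G // (∃ g : G, B = cj g A) ∧
      X ≤ Subgroup.normalizer (B : Set G)},
      ∃ v : Subgroup.normalizer (X : Set G), B.1 = cj (v : G) B₁ := by
    rintro ⟨B, ⟨g, hB⟩, hXB⟩
    have hBB : B = cj (g * g₁⁻¹) B₁ := by
      rw [hB, hB₁, ← cj_mul]; simp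
    obtain ⟨v, hv, hvB⟩ := core h B₁ hXB₁ (g * g₁⁻¹) (hBB ▸ hXB)
    exact ⟨⟨v, hv⟩, hBB.trans hvB⟩
  choose f hf using hall
  have : Fact (Nat.Prime 3) := ⟨Nat.prime_three⟩
  have : IsCyclic X := isCyclic_of_prime_card h.1
  have hcard : Nat.card (MulAut X) = 2 := by
    rw [IsCyclic.card_mulAut, h.1]; rfl
  rw [← hcard]
  apply Nat.card_le_card_of_injective (fun B => X.normalizerMonoidHom (f B))
  intro B B' hBB'
  have hker : (f B)⁻¹ * f B' ∈ X.normalizerMonoidHom.ker := by
    rw [MonoidHom.mem_ker, map_mul, map_inv]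
    simp only at hBB'
    rw [hBB', inv_mul_cancel]
  rw [Subgroup.normalizerMonoidHom_ker, Subgroup.mem_subgroupOf] at hker
  have hX : (((f B)⁻¹ * f B' : Subgroup.normalizer (X : Set G)) : G) ∈ X :=
    h.2.le hker
  have hN := hXB₁ hX
  apply Subtype.ext
  rw [hf B, hf B']
  have e : ((f B' : Subgroup.normalizer (X : Set G)) : G) =
      ((f B : Subgroup.normalizer (X : Set G)) : G) *
        (((f B)⁻¹ * f B' : Subgroup.normalizer (X : Set G)) : G) := by
    simp
  rw [e, cj_mul, cj_of_mem_normalizer hN]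

end Cfsg.Agent.Lib.Helper63_FT3_G1
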