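/-
helper63 (GREEN market of helper40, package GC-CENU, target S2441): a `p`-regular element of a Chevalley group of type
G₂, B₂, D₄, F₄, E₆, E₇, E₈ over a finite field of characteristic `p` that centralises `U` is trivial.

Proof.  `x` centralises `U`, hence normalises it, hence lies in `B = N_G(U)` (`normalizer_pos_inf_group`), the
parabolic subgroup `P_∅`.  By `Helper81_ChevParCent.mem_pos_of_centralizes` (with `J = ∅`, so `U_J = U`) an element of
`P_∅` commuting with all positive root elements lies in `U`.  `U` is a `p`-group, so the order of `x` is a power of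
`p`; being prime to `p` it is `1`.
-/
import Mathlib
import Cfsg.Agent.Lib.Helper40_ChevGreenDefs
import Cfsg.Agent.Lib.Helper40_ChevGreenXG
import Cfsg.Agent.Lib.Helper18_ChevData5
import Cfsg.Agent.Lib.Helper18_ChevRootHom
import Cfsg.Agent.Lib.Helper81_ChevParCent

set_option autoImplicit false

namespace Cfsg.Agent.Lib.Helper63_GR_GCCENU

open Cfsg Cfsg.Lie Cfsg.Agent.Lib.Helper40_ChevDZDefs Cfsg.Agent.Lib.Helper40_ChevGreenDefs

variable (D : ChevalleyDatum)
  (hD : D ∈ [chevG2, chevB2, chevD4, chevF4, chevE6, chevE7, chevE8]) {F : Type*} [Field F]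

include hD

omit [Field F] in
/-- the rank is positive -/
theorem rank_pos : 0 < D.rank := by
  simp only [List.mem_cons, List.not_mem_nil, or_false] at hD
  rcases hD with rfl | rfl | rfl | rfl | rfl | rfl | rfl <;> decide

/-- an element of the Chevalley group that centralises `U` lies in `U` -/
theorem mem_cU_of_centralizes :
    ∀ x ∈ Subgroup.centralizer ((cU D F : Subgroup ↥(D.group F)) : Set ↥(D.group F)), x ∈ cU D F := by
  intro x hx
  obtain ⟨Ns, w, d, Ts, hT, K, base, stepT, wl, ws, sc, c, tc, gc, pc, ac⟩ :=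
    Cfsg.Agent.Lib.Helper18_ChevData5.exists_cert5 D hD
  have hR2 : Cfsg.Agent.Lib.Helper18_ChevUni.R2All D F := Cfsg.Agent.Lib.Helper18_ChevComm2.r2_all c pc
  have hdesc := Cfsg.Agent.Lib.Helper18_ChevJCerts.descent_all D hD
  have hcomb := Cfsg.Agent.Lib.Helper81_ChevParComb.combOK_all D hD
  have hUG : D.posUnipotent F ≤ D.group F := Cfsg.Agent.Lib.Helper18_ChevGL.posUnipotent_le_group c
  -- `x` commutes with every element of `U`
  have hcomm : ∀ u ∈ D.posUnipotent F, (x : GL D.Idx F) * u = u * (x : GL D.Idx F) := by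
    intro u hu
    have hmem : (⟨u, hUG hu⟩ : ↥(D.group F)) ∈ ((cU D F : Subgroup ↥(D.group F)) : Set ↥(D.group F)) := by
      rw [SetLike.mem_coe]
      show (⟨u, hUG hu⟩ : ↥(D.group F)) ∈ (D.posUnipotent F).subgroupOf (D.group F)
      rw [Subgroup.mem_subgroupOf]
      exact hu
    have h1 := Subgroup.mem_centralizer_iff.mp hx ⟨u, hUG hu⟩ hmem
    have h2 := congrArg Subtype.val h1
    exact h2.symm
  -- `x` normalises `U`
  have hnorm : (x : GL D.Idx F) ∈ Subgroup.normalizer (D.posUnipotent F : Set (GL D.Idx F)) := by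
    rw [Subgroup.mem_normalizer_iff]
    intro u
    constructor
    · intro hu
      rw [hcomm u hu, mul_inv_cancel_right]
      exact hu
    · intro hu
      have h1 := hcomm _ hu
      have h2 : (x : GL D.Idx F) * u = (x : GL D.Idx F) * u * (x : GL D.Idx F)⁻¹ * (x : GL D.Idx F) := by group
      have h3 : u = (x : GL D.Idx F) * u * (x : GL D.Idx F)⁻¹ := by
        apply mul_left_cancel (a := (x : GL D.Idx F))
        rw [h1, ← h2]
      rw [h3]
      exact hu
  have hB : (x : GL D.Idx F) ∈ D.borelSubgroup F := by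
    rw [← Cfsg.Agent.Lib.Helper18_ChevRootHom.normalizer_pos_inf_group c tc ac gc hR2]
    exact Subgroup.mem_inf.mpr ⟨hnorm, x.2⟩
  have hP : (x : GL D.Idx F) ∈ D.parabolicSubgroup F ∅ := by
    rw [Cfsg.Agent.Lib.Helper18_ChevRootHom.parabolic_empty]
    exact hB
  have hU : (x : GL D.Idx F) ∈ D.posUnipotent F := by
    apply Cfsg.Agent.Lib.Helper81_ChevParCent.mem_pos_of_centralizes c tc ac gc hdesc hR2 hcomb ∅
      ⟨0, rank_pos D hD, Set.notMem_empty 0⟩ (x : GL D.Idx F) hP
    intro β hβ _ t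
    apply hcomm
    exact Subgroup.subset_closure ⟨β, t, hβ, Cfsg.Agent.Lib.Helper18_ChevGL.xGL_coe c β t⟩
  show x ∈ (D.posUnipotent F).subgroupOf (D.group F)
  rw [Subgroup.mem_subgroupOf]
  exact hU

/-- GC-CENU -/
theorem ch_cenU [Fintype F] (p : ℕ) [Fact p.Prime] [CharP F p] :
    ∀ x ∈ Subgroup.centralizer ((cU D F : Subgroup ↥(D.group F)) : Set ↥(D.group F)),
      ¬ p ∣ orderOf x → x = 1 := by
  intro x hx hp
  obtain ⟨Ns, w, d, Ts, hT, K, base, stepT, wl, ws, sc, c, tc, gc, pc, ac⟩ :=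
    Cfsg.Agent.Lib.Helper18_ChevData5.exists_cert5 D hD
  have hR2 : Cfsg.Agent.Lib.Helper18_ChevUni.R2All D F := Cfsg.Agent.Lib.Helper18_ChevComm2.r2_all c pc
  have hxU := mem_cU_of_centralizes D hD x hx
  have hU : (x : GL D.Idx F) ∈ D.posUnipotent F := by
    have : x ∈ (D.posUnipotent F).subgroupOf (D.group F) := hxU
    rwa [Subgroup.mem_subgroupOf] at this
  have hPG : IsPGroup p ↥(D.posUnipotent F) :=
    Cfsg.Agent.Lib.Helper81_ChevParCent.isPGroup_posUnipotent p c tc ac hR2
  obtain ⟨k, hk⟩ := hPG ⟨(x : GL D.Idx F), hU⟩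
  have h1 : (x : GL D.Idx F) ^ p ^ k = 1 := by
    have := congrArg Subtype.val hk
    simpa using this
  have h2 : x ^ p ^ k = 1 := by
    apply Subtype.ext
    rw [Subgroup.coe_pow, h1]
    rfl
  have h3 : orderOf x ∣ p ^ k := orderOf_dvd_of_pow_eq_one h2
  have hprime : p.Prime := Fact.out
  have h4 : Nat.Coprime (orderOf x) p := (Nat.Coprime.symm ((Nat.Prime.coprime_iff_not_dvd hprime).mpr hp))
  have h5 : orderOf x ∣ 1 := (Nat.Coprime.pow_right k h4).dvd_of_dvd_mul_right (by simpa using h3)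
  exact orderOf_eq_one_iff.mp (Nat.dvd_one.mp h5)

end Cfsg.Agent.Lib.Helper63_GR_GCCENU
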