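import Mathlib

set_option autoImplicit false

namespace Cfsg.Agent.Lib.Helper63_GaussSum

open scoped commutatorElement

theorem hasEnough_two : HasEnoughRootsOfUnity ℤ 2 :=
  ⟨⟨-1, IsPrimitiveRoot.neg_one 0 (by norm_num)⟩, inferInstance⟩

theorem hasEnough_exponent (A : Type*) [CommGroup A] (hA : ∀ a : A, a ^ 2 = 1) :
    HasEnoughRootsOfUnity ℤ (Monoid.exponent A) := by
  have := hasEnough_two
  exact HasEnoughRootsOfUnity.of_dvd ℤ (Monoid.exponent_dvd_of_forall_pow_eq_one hA)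

/-- integer value of a character -/
def ev {A : Type*} [CommGroup A] (φ : A →* ℤˣ) (a : A) : ℤ := ((φ a : ℤˣ) : ℤ)

theorem ev_mul {A : Type*} [CommGroup A] (φ : A →* ℤˣ) (a b : A) :
    ev φ (a * b) = ev φ a * ev φ b := by
  simp [ev]

theorem ev_one {A : Type*} [CommGroup A] (φ : A →* ℤˣ) : ev φ 1 = 1 := by
  simp [ev]

theorem ev_mul_self {A : Type*} [CommGroup A] (φ : A →* ℤˣ) (a : A) :
    ev φ a * ev φ a = 1 := by
  unfold ev
  rw [← Units.val_mul, Int.units_mul_self, Units.val_one]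

theorem ev_eq_one_or {A : Type*} [CommGroup A] (φ : A →* ℤˣ) (a : A) :
    ev φ a = 1 ∨ ev φ a = -1 := by
  unfold ev
  rcases Int.units_eq_one_or (φ a) with h | h <;> simp [h]

/-- orthogonality of characters of an elementary abelian 2-group -/
theorem sum_ev {A : Type*} [CommGroup A] [Finite A] (hA : ∀ a : A, a ^ 2 = 1)
    [Fintype (A →* ℤˣ)] (a : A) :
    ∑ φ : A →* ℤˣ, ev φ a = by classical exact if a = 1 then (Nat.card A : ℤ) else 0 := by
  classical
  have := hasEnough_exponent A hA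
  split_ifs with h
  · subst h
    simp only [ev_one, Finset.sum_const, Finset.card_univ, nsmul_eq_mul, mul_one]
    rw [← Nat.card_eq_fintype_card, CommGroup.card_monoidHom_of_hasEnoughRootsOfUnity A ℤ]
  · obtain ⟨ψ, hψ⟩ := CommGroup.exists_apply_ne_one_of_hasEnoughRootsOfUnity A ℤ h
    have hψ' : ev ψ a = -1 := by
      rcases ev_eq_one_or ψ a with h1 | h1
      · exfalso
        apply hψ
        apply Units.ext
        simpa [ev] using h1
      · exact h1
    have h1 : ∑ φ : A →* ℤˣ, ev φ a = ∑ φ : A →* ℤˣ, ev (ψ * φ) a :=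
      (Fintype.sum_equiv (Equiv.mulLeft ψ) _ _ (fun x => rfl)).symm
    have h2 : ∀ φ : A →* ℤˣ, ev (ψ * φ) a = ev ψ a * ev φ a := by
      intro φ
      simp [ev]
    simp only [h2, hψ'] at h1
    rw [← Finset.mul_sum] at h1
    omega

/-- a multiplicative `ℤ`-valued function taking the value `-1` sums to zero -/
theorem sum_eq_zero_of_mul' {K : Type*} [Group K] [Fintype K] (ψ : K → ℤ)
    (hmul : ∀ x y, ψ (x * y) = ψ x * ψ y) (x₀ : K) (h : ψ x₀ = -1) : ∑ x, ψ x = 0 := by
  have h1 : ∑ x, ψ x = ∑ x, ψ (x₀ * x) :=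
    (Fintype.sum_equiv (Equiv.mulLeft x₀) _ _ (fun x => rfl)).symm
  simp only [hmul, h] at h1
  rw [← Finset.mul_sum] at h1
  omega

theorem sq_eq_two_pow' {T : ℤ} {k : ℕ} (h : T * T = 2 ^ k) :
    ∃ m : ℕ, 2 * m = k ∧ (T = 2 ^ m ∨ T = -2 ^ m) := by
  have h1 : T.natAbs * T.natAbs = 2 ^ k := by
    have := congrArg Int.natAbs h
    rw [Int.natAbs_mul, Int.natAbs_pow] at this
    simpa using this
  have h2 : T.natAbs ∣ 2 ^ k := ⟨T.natAbs, h1.symm⟩
  obtain ⟨m, _, hm⟩ := (Nat.dvd_prime_pow Nat.prime_two).1 h2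
  refine ⟨m, ?_, ?_⟩
  · rw [hm, ← pow_add] at h1
    have := Nat.pow_right_injective (le_refl 2) h1
    omega
  · rcases Int.natAbs_eq T with h3 | h3
    · left; rw [h3, hm]; push_cast; rfl
    · right; rw [h3, hm]; push_cast; rfl

section Main

variable {G A : Type*} [Group G] [CommGroup A]
  (hA : ∀ a : A, a ^ 2 = 1) (ι : A →* G) (hι : Function.Injective ι)
  (hc : ∀ a g, ι a * g = g * ι a) (sqr : G → A) (hsq : ∀ x, ι (sqr x) = x ^ 2)
  (cm : G → G → A) (hcm : ∀ x y, ι (cm x y) = ⁅x, y⁆)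

include hι hc hcm in
theorem cm_mul_left (u v x : G) : cm (u * v) x = cm u x * cm v x := by
  apply hι
  rw [map_mul, hcm, hcm, hcm]
  have hcen : ∀ g, ⁅v, x⁆ * g = g * ⁅v, x⁆ := by
    intro g; rw [← hcm]; exact hc _ g
  calc ⁅u * v, x⁆ = u * ⁅v, x⁆ * u⁻¹ * ⁅u, x⁆ := by
        simp only [commutatorElement_def]; group
    _ = ⁅v, x⁆ * u * u⁻¹ * ⁅u, x⁆ := by rw [← hcen u]
    _ = ⁅v, x⁆ * ⁅u, x⁆ := by group
    _ = ⁅u, x⁆ * ⁅v, x⁆ := hcen _

include hι hc hcm in
theorem cm_mul_right (u x y : G) : cm u (x * y) = cm u x * cm u y := by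
  apply hι
  rw [map_mul, hcm, hcm, hcm]
  have hcen : ∀ g, ⁅u, y⁆ * g = g * ⁅u, y⁆ := by
    intro g; rw [← hcm]; exact hc _ g
  calc ⁅u, x * y⁆ = ⁅u, x⁆ * (x * ⁅u, y⁆) * x⁻¹ := by
        simp only [commutatorElement_def]; group
    _ = ⁅u, x⁆ * (⁅u, y⁆ * x) * x⁻¹ := by rw [hcen x]
    _ = ⁅u, x⁆ * ⁅u, y⁆ := by group

include hι hc hsq hcm in
theorem sqr_mul (x u : G) : sqr (x * u) = cm u x * sqr x * sqr u := by
  apply hι
  rw [map_mul, map_mul, hcm, hsq, hsq, hsq]
  have hcen : ∀ g, ⁅u, x⁆ * g = g * ⁅u, x⁆ := by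
    intro g; rw [← hcm]; exact hc _ g
  calc (x * u) ^ 2 = x * (⁅u, x⁆ * x) * u * u := by
        simp only [commutatorElement_def, pow_two]; group
    _ = x * (x * ⁅u, x⁆) * u * u := by rw [hcen x]
    _ = x * x * (⁅u, x⁆ * (u * u)) := by group
    _ = x * x * ((u * u) * ⁅u, x⁆) := by rw [hcen (u * u)]
    _ = (x * x * (u * u)) * ⁅u, x⁆ := by group
    _ = ⁅u, x⁆ * (x * x * (u * u)) := (hcen _).symm
    _ = ⁅u, x⁆ * x ^ 2 * u ^ 2 := by rw [pow_two, pow_two]; group

include hι hcm in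
theorem cm_of_mem_center {u : G} (hu : u ∈ Subgroup.center G) (x : G) : cm u x = 1 := by
  apply hι
  rw [hcm, map_one, commutatorElement_eq_one_iff_mul_comm]
  exact (Subgroup.mem_center_iff.1 hu x).symm

include hA in
theorem inv_eq_self (a : A) : a⁻¹ = a := by
  have := hA a
  rw [pow_two] at this
  exact inv_eq_of_mul_eq_one_left this

/-- The radical of the form `φ ∘ cm`. -/
def rad (φ : A →* ℤˣ) : Subgroup G where
  carrier := {u | ∀ x, ev φ (cm u x) = 1}
  one_mem' := by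
    intro x
    have h1 : cm 1 x = 1 := cm_of_mem_center ι hι cm hcm (Subgroup.one_mem _) x
    rw [h1, ev_one]
  mul_mem' := by
    intro a b ha hb x
    rw [cm_mul_left ι hι hc cm hcm, ev_mul, ha x, hb x, one_mul]
  inv_mem' := by
    intro a ha x
    have h1 : cm a⁻¹ x * cm a x = 1 := by
      rw [← cm_mul_left ι hι hc cm hcm, inv_mul_cancel]
      exact cm_of_mem_center ι hι cm hcm (Subgroup.one_mem _) x
    have h2 : cm a⁻¹ x = cm a x := by
      rw [← inv_eq_self hA (cm a x)]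
      exact eq_inv_of_mul_eq_one_left h1
    rw [h2]
    exact ha x

theorem mem_rad {φ : A →* ℤˣ} {u : G} :
    u ∈ rad hA ι hι hc cm hcm φ ↔ ∀ x, ev φ (cm u x) = 1 := Iff.rfl

theorem center_le_rad (φ : A →* ℤˣ) : Subgroup.center G ≤ rad hA ι hι hc cm hcm φ := by
  intro u hu x
  rw [cm_of_mem_center ι hι cm hcm hu x, ev_one]

variable [Fintype G]

/-- The Gauss sum. -/
def gsum (φ : A →* ℤˣ) : ℤ := ∑ x : G, ev φ (sqr x)

include hι hc hsq hcm in
theorem gsum_mul_self (φ : A →* ℤˣ) :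
    gsum sqr φ * gsum sqr φ = ∑ u : G, ev φ (sqr u) * ∑ x : G, ev φ (cm u x) := by
  unfold gsum
  rw [Finset.sum_mul_sum]
  have h1 : ∀ x : G, ∑ y : G, ev φ (sqr x) * ev φ (sqr y) =
      ∑ u : G, ev φ (sqr u) * ev φ (cm u x) := by
    intro x
    rw [← Fintype.sum_equiv (Equiv.mulLeft x) (fun u => ev φ (sqr x) * ev φ (sqr (x * u)))
      (fun y => ev φ (sqr x) * ev φ (sqr y)) (fun u => rfl)]
    apply Finset.sum_congr rfl
    intro u _
    rw [sqr_mul ι hι hc sqr hsq cm hcm, ev_mul, ev_mul]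
    have := ev_mul_self φ (sqr x)
    linear_combination (ev φ (cm u x) * ev φ (sqr u)) * this
  rw [Finset.sum_congr rfl (fun x _ => h1 x), Finset.sum_comm]
  exact Finset.sum_congr rfl (fun u _ => (Finset.mul_sum _ _ _).symm)

open scoped Classical in
include hι hc hcm in
theorem sum_cm (φ : A →* ℤˣ) (u : G) : ∑ x : G, ev φ (cm u x) =
    if u ∈ rad hA ι hι hc cm hcm φ then (Fintype.card G : ℤ) else 0 := by
  split_ifs with hu
  · rw [Finset.sum_congr rfl (fun x _ => hu x)]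
    simp
  · have : ∃ x, ev φ (cm u x) ≠ 1 := by
      by_contra hall
      push Not at hall
      exact hu hall
    obtain ⟨x₀, hx₀⟩ := this
    apply sum_eq_zero_of_mul' (fun x => ev φ (cm u x)) ?_ x₀
    · rcases ev_eq_one_or φ (cm u x₀) with h | h
      · exact absurd h hx₀
      · exact h
    · intro x y
      show ev φ (cm u (x * y)) = ev φ (cm u x) * ev φ (cm u y)
      rw [cm_mul_right ι hι hc cm hcm, ev_mul]

open scoped Classical in
include hι hc hsq hcm in
theorem gsum_mul_self' (φ : A →* ℤˣ) :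
    gsum sqr φ * gsum sqr φ = 0 ∨
      gsum sqr φ * gsum sqr φ =
        (Fintype.card G : ℤ) * (Nat.card (rad hA ι hι hc cm hcm φ) : ℤ) := by
  rw [gsum_mul_self ι hι hc sqr hsq cm hcm]
  simp only [sum_cm hA ι hι hc cm hcm]
  have h1 : ∑ u : G, ev φ (sqr u) *
      (if u ∈ rad hA ι hι hc cm hcm φ then (Fintype.card G : ℤ) else 0) =
      (Fintype.card G : ℤ) * ∑ u : rad hA ι hι hc cm hcm φ, ev φ (sqr (u : G)) := by
    rw [Finset.mul_sum]
    rw [← Finset.sum_subtype (Finset.univ.filter (fun u : G => u ∈ rad hA ι hι hc cm hcm φ))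
      (by simp) (fun u => (Fintype.card G : ℤ) * ev φ (sqr u))]
    rw [Finset.sum_filter]
    apply Finset.sum_congr rfl
    intro u _
    split_ifs <;> ring
  rw [h1]
  by_cases hall : ∀ u : rad hA ι hι hc cm hcm φ, ev φ (sqr (u : G)) = 1
  · right
    congr 1
    simp [hall, Nat.card_eq_fintype_card]
  · left
    push Not at hall
    obtain ⟨u₀, hu₀⟩ := hall
    rw [sum_eq_zero_of_mul' (fun u : rad hA ι hι hc cm hcm φ => ev φ (sqr (u : G))) ?_ u₀ ?_,
      mul_zero]
    · intro a b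
      show ev φ (sqr ((a * b : rad hA ι hι hc cm hcm φ) : G)) = _
      rw [Subgroup.coe_mul, sqr_mul ι hι hc sqr hsq cm hcm, ev_mul, ev_mul, b.2 (a : G), one_mul]
    · rcases ev_eq_one_or φ (sqr (u₀ : G)) with h | h
      · exact absurd h hu₀
      · exact h

include hι hsq in
omit [Fintype G] in
theorem sqr_eq_one_iff (x : G) : sqr x = 1 ↔ x ^ 2 = 1 := by
  rw [← hsq, ← map_one ι]
  exact ⟨fun h => congrArg ι h, fun h => hι h⟩

open scoped Classical in
include hA hι hsq in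
/-- Summing the Gauss sums over all characters counts the solutions of `x ^ 2 = 1`. -/
theorem sum_gsum [Finite A] [Fintype (A →* ℤˣ)] :
    ∑ φ : A →* ℤˣ, gsum sqr φ =
      (Nat.card {x : G // x ^ 2 = 1} : ℤ) * (Nat.card A : ℤ) := by
  unfold gsum
  rw [Finset.sum_comm]
  simp only [sum_ev hA]
  simp only [sqr_eq_one_iff ι hι sqr hsq]
  rw [Finset.sum_ite, Finset.sum_const, Finset.sum_const_zero, add_zero, nsmul_eq_mul,
    Nat.card_eq_fintype_card (α := {x : G // x ^ 2 = 1}), Fintype.card_subtype]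

omit [Fintype G] in
include hA hι hc hsq hcm in
/-- **Main inequality**: for a finite `2`-group whose squares and commutators lie in a central
elementary abelian subgroup `A`, `|G| * |Z(G)| ≤ (#{x | x ^ 2 = 1} * |A|) ^ 2`. -/
theorem card_mul_card_center_le [Finite G] [Finite A] (hG : IsPGroup 2 G) :
    Nat.card G * Nat.card (Subgroup.center G) ≤
      (Nat.card {x : G // x ^ 2 = 1} * Nat.card A) ^ 2 := by
  classical
  have : Fintype G := Fintype.ofFinite G
  have : Finite (A →* ℤˣ) := DFunLike.finite _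
  have : Fintype (A →* ℤˣ) := Fintype.ofFinite _
  obtain ⟨g, hg⟩ := IsPGroup.iff_card.1 hG
  obtain ⟨z, hz⟩ := IsPGroup.iff_card.1 (hG.to_subgroup (Subgroup.center G))
  set m := (g + z + 1) / 2 with hm
  have hdiv : ∀ φ : A →* ℤˣ, (2 : ℤ) ^ m ∣ gsum sqr φ := by
    intro φ
    rcases gsum_mul_self' hA ι hι hc sqr hsq cm hcm φ with h | h
    · have h0 : gsum sqr φ = 0 := mul_self_eq_zero.1 h
      rw [h0]
      exact dvd_zero _
    · obtain ⟨z', hz'⟩ := IsPGroup.iff_card.1 (hG.to_subgroup (rad hA ι hι hc cm hcm φ))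
      have hzz' : z ≤ z' := by
        have := Subgroup.card_le_of_le (center_le_rad hA ι hι hc cm hcm φ)
        rw [hz, hz'] at this
        exact (Nat.pow_le_pow_iff_right (by norm_num)).1 this
      rw [← Nat.card_eq_fintype_card, hg, hz'] at h
      have h' : gsum sqr φ * gsum sqr φ = 2 ^ (g + z') := by
        rw [h]; push_cast; rw [pow_add]
      obtain ⟨k, hk, hT⟩ := sq_eq_two_pow' h'
      have hmk : m ≤ k := by omega
      rcases hT with hT | hT
      · rw [hT]; exact pow_dvd_pow 2 hmk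
      · rw [hT]; exact (pow_dvd_pow 2 hmk).neg_right
  have hsum := sum_gsum hA ι hι sqr hsq (G := G)
  have hdvd : (2 : ℤ) ^ m ∣ (Nat.card {x : G // x ^ 2 = 1} : ℤ) * (Nat.card A : ℤ) := by
    rw [← hsum]
    exact Finset.dvd_sum (fun φ _ => hdiv φ)
  have hdvd' : 2 ^ m ∣ Nat.card {x : G // x ^ 2 = 1} * Nat.card A := by
    have : ((2 ^ m : ℕ) : ℤ) ∣ ((Nat.card {x : G // x ^ 2 = 1} * Nat.card A : ℕ) : ℤ) := by
      push_cast; exact hdvd
    exact Int.natCast_dvd_natCast.1 this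
  have hpos : 0 < Nat.card {x : G // x ^ 2 = 1} * Nat.card A := by
    have h1 : 0 < Nat.card {x : G // x ^ 2 = 1} := by
      have : Nonempty {x : G // x ^ 2 = 1} := ⟨⟨1, one_pow 2⟩⟩
      exact Nat.card_pos
    exact Nat.mul_pos h1 Nat.card_pos
  have hle : 2 ^ m ≤ Nat.card {x : G // x ^ 2 = 1} * Nat.card A := Nat.le_of_dvd hpos hdvd'
  calc Nat.card G * Nat.card (Subgroup.center G) = 2 ^ (g + z) := by rw [hg, hz, pow_add]
    _ ≤ 2 ^ (2 * m) := Nat.pow_le_pow_right (by norm_num) (by omega)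
    _ = (2 ^ m) ^ 2 := by rw [mul_comm, pow_mul]
    _ ≤ _ := Nat.pow_le_pow_left hle 2

omit [Fintype G] in
include hA hι hc hsq hcm in
/-- **Strict form**: if some character of `A` kills all commutators but is nontrivial, then
`2 * |G| ≤ #{x | x ^ 2 = 1} ^ 2 * |A|`. -/
theorem two_mul_card_le [Finite G] [Finite A] (hG : IsPGroup 2 G) (φ : A →* ℤˣ)
    (hφ : ∀ x y, φ (cm x y) = 1) (a₀ : A) (ha₀ : φ a₀ ≠ 1) :
    2 * Nat.card G ≤ Nat.card {x : G // x ^ 2 = 1} ^ 2 * Nat.card A := by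
  classical
  -- the homomorphism `ε`
  let ε : G →* ℤˣ := MonoidHom.mk' (fun x => φ (sqr x)) (by
    intro x y
    rw [sqr_mul ι hι hc sqr hsq cm hcm, map_mul, map_mul, hφ, one_mul])
  have hε : ∀ x, ε x = φ (sqr x) := fun x => rfl
  set K : Subgroup G := ε.ker with hK
  have hsqι : ∀ a : A, sqr (ι a) = 1 := by
    intro a
    rw [sqr_eq_one_iff ι hι sqr hsq, ← map_pow, hA, map_one]
  have hιK : ∀ a : A, ι a ∈ K := by
    intro a
    rw [hK, MonoidHom.mem_ker, hε, hsqι, map_one]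
  -- the data for `K`
  have hA' : ∀ a : φ.ker, a ^ 2 = 1 := fun a => Subtype.ext (hA a.1)
  let ι' : φ.ker →* K := (ι.comp φ.ker.subtype).codRestrict K (fun a => hιK a.1)
  have hι' : Function.Injective ι' := by
    intro a b hab
    have h1 : ι a.1 = ι b.1 := congrArg (fun x : K => (x : G)) hab
    exact Subtype.ext (hι h1)
  have hc' : ∀ (a : φ.ker) (g : K), ι' a * g = g * ι' a :=
    fun a g => Subtype.ext (hc a.1 g.1)
  let sqr' : K → φ.ker := fun x => ⟨sqr x.1, by
    rw [MonoidHom.mem_ker, ← hε]; exact MonoidHom.mem_ker.1 x.2⟩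
  have hsq' : ∀ x : K, ι' (sqr' x) = x ^ 2 := fun x => Subtype.ext (hsq x.1)
  let cm' : K → K → φ.ker := fun x y => ⟨cm x.1 y.1, MonoidHom.mem_ker.2 (hφ _ _)⟩
  have hcm' : ∀ x y : K, ι' (cm' x y) = ⁅x, y⁆ := fun x y => Subtype.ext (hcm x.1 y.1)
  have main := card_mul_card_center_le hA' ι' hι' hc' sqr' hsq' cm' hcm' (hG.to_subgroup K)
  -- the bounds
  have b1 : Nat.card G ≤ 2 * Nat.card K := by
    have h1 := Subgroup.card_mul_index K
    have h2 : K.index ≤ 2 := by
      rw [hK, Subgroup.index_ker]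
      calc Nat.card ε.range ≤ Nat.card ℤˣ := Nat.card_le_card_of_injective _ Subtype.coe_injective
        _ = 2 := by rw [Nat.card_eq_fintype_card, Fintype.card_units_int]
    calc Nat.card G = Nat.card K * K.index := h1.symm
      _ ≤ Nat.card K * 2 := Nat.mul_le_mul_left _ h2
      _ = 2 * Nat.card K := mul_comm _ _
  have b2 : Nat.card A ≤ Nat.card (Subgroup.center K) := by
    refine Nat.card_le_card_of_injective
      (fun a : A => (⟨⟨ι a, hιK a⟩, ?_⟩ : Subgroup.center K)) ?_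
    · rw [Subgroup.mem_center_iff]
      intro g
      exact Subtype.ext (hc a g.1).symm
    · intro a b hab
      have h1 : ι a = ι b := congrArg (fun x : Subgroup.center K => ((x : K) : G)) hab
      exact hι h1
  have b3 : Nat.card {x : K // x ^ 2 = 1} ≤ Nat.card {x : G // x ^ 2 = 1} := by
    refine Nat.card_le_card_of_injective
      (fun x : {x : K // x ^ 2 = 1} => (⟨x.1.1, ?_⟩ : {x : G // x ^ 2 = 1})) ?_
    · have := congrArg (fun y : K => (y : G)) x.2
      simpa using this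
    · intro x y hxy
      have h1 : x.1.1 = y.1.1 := congrArg (fun z : {x : G // x ^ 2 = 1} => (z : G)) hxy
      exact Subtype.ext (Subtype.ext h1)
  have b4 : 2 * Nat.card φ.ker ≤ Nat.card A := by
    have h1 := Subgroup.card_mul_index φ.ker
    have h2 : φ.ker.index ≠ 1 := by
      rw [Ne, Subgroup.index_eq_one]
      intro htop
      apply ha₀
      have : a₀ ∈ φ.ker := htop ▸ Subgroup.mem_top a₀
      exact MonoidHom.mem_ker.1 this
    have h3 : φ.ker.index ≠ 0 := Subgroup.index_ne_zero_of_finite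
    have h4 : 2 ≤ φ.ker.index := by omega
    calc 2 * Nat.card φ.ker = Nat.card φ.ker * 2 := mul_comm _ _
      _ ≤ Nat.card φ.ker * φ.ker.index := Nat.mul_le_mul_left _ h4
      _ = Nat.card A := h1
  -- arithmetic
  set g := Nat.card G
  set k := Nat.card K
  set zk := Nat.card (Subgroup.center K)
  set a := Nat.card A
  set nk := Nat.card {x : K // x ^ 2 = 1}
  set n := Nat.card {x : G // x ^ 2 = 1}
  set b := Nat.card φ.ker
  have ha : 0 < a := Nat.card_pos
  have h1 : 4 * k * a ≤ n ^ 2 * a * a := by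
    calc 4 * k * a ≤ 4 * k * zk := Nat.mul_le_mul_left _ b2
      _ = 4 * (k * zk) := by ring
      _ ≤ 4 * (nk * b) ^ 2 := Nat.mul_le_mul_left _ main
      _ = nk ^ 2 * (2 * b) ^ 2 := by ring
      _ ≤ n ^ 2 * a ^ 2 := Nat.mul_le_mul (Nat.pow_le_pow_left b3 2) (Nat.pow_le_pow_left b4 2)
      _ = n ^ 2 * a * a := by ring
  have h2 : 4 * k ≤ n ^ 2 * a := Nat.le_of_mul_le_mul_right h1 ha
  omega

end Main

/-- Subgroup form of the main inequality: `A ≤ Z(G)` is elementary abelian and contains all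
squares and commutators. -/
theorem card_mul_card_center_le_of_subgroup {G : Type*} [Group G] [Finite G] (hG : IsPGroup 2 G)
    (A : Subgroup G) (hAc : A ≤ Subgroup.center G) (hA2 : ∀ a ∈ A, a ^ 2 = 1)
    (hsq : ∀ x : G, x ^ 2 ∈ A) (hcm : ∀ x y : G, ⁅x, y⁆ ∈ A) :
    Nat.card G * Nat.card (Subgroup.center G) ≤
      (Nat.card {x : G // x ^ 2 = 1} * Nat.card A) ^ 2 := by
  let _ : CommGroup A :=
    { (inferInstance : Group A) with
      mul_comm := fun a b => Subtype.ext (Subgroup.mem_center_iff.1 (hAc b.2) a.1) }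
  exact card_mul_card_center_le (A := A) (fun a => Subtype.ext (hA2 a.1 a.2)) A.subtype
    Subtype.coe_injective (fun a g => (Subgroup.mem_center_iff.1 (hAc a.2) g).symm)
    (fun x => ⟨x ^ 2, hsq x⟩) (fun x => rfl) (fun x y => ⟨⁅x, y⁆, hcm x y⟩) (fun x y => rfl) hG

end Cfsg.Agent.Lib.Helper63_GaussSum
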