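import Mathlib
import Cfsg.Prelude.Def_Characters
import Cfsg.Agent.Lib.Helper80_CharBasic
import Cfsg.Agent.Lib.Helper17_H27Defs
import Cfsg.Agent.Lib.Helper76_H648Defs

/-!
# S3702 market `h648_packages` (architect helper76), package CORE with the first clause of PERM as a hypothesis

`J₀ = {elt pA pB pC e}` is normal in `K₀ = ⟨S0⟩ ≤ Sym(9)` and contains every normal 3-subgroup of `K₀`.

* normality: the four generators and their inverses act on `J₀` by explicit signed permutations of the coordinates (`decide`);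
* a normal 3-subgroup `N`: for `x = elt e * Wfun i ∈ N`, `i ≠ 0`, one of `x`, `x * (v x v⁻¹)`, `x * (uv x (uv)⁻¹)` (all in `N`)
  has a 2-cycle (`decide`; which one depends on `i` only: `selT`), but an element of 3-power order has no 2-cycle.
-/

set_option autoImplicit false

namespace Cfsg.Agent.Lib.Helper63_H648_COREaux

open Cfsg.Agent.Lib.Helper76_H648Defs
open Cfsg.Agent.Lib.Helper17_H27Defs (elt)

/-- odd powers of a permutation with a 2-cycle `(p, y p)` -/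
theorem pow_apply_of_sq_fix {α : Type*} (y : Equiv.Perm α) (p : α) (h : y (y p) = p) (k : ℕ) :
    (y ^ (2 * k + 1)) p = y p := by
  induction k with
  | zero => simp
  | succ k ih =>
    have e : 2 * (k + 1) + 1 = (2 * k + 1) + 2 := by ring
    rw [e, pow_add, Equiv.Perm.mul_apply, pow_two, Equiv.Perm.mul_apply, h, ih]

/-- a permutation of 3-power order has no 2-cycle -/
theorem no_two_cycle {α : Type*} (y : Equiv.Perm α) (m : ℕ) (hy : y ^ 3 ^ m = 1) (p : α)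
    (h : y (y p) = p) : y p = p := by
  have hodd : Odd (3 ^ m) := Odd.pow (by decide)
  obtain ⟨k, hk⟩ := hodd
  have h1 := pow_apply_of_sq_fix y p h k
  rw [← hk, hy, Equiv.Perm.one_apply] at h1
  exact h1.symm

/-! ### normality of `J₀` -/

/-- conjugation by `k` maps `J₀` into `J₀` -/
def JN (k : Equiv.Perm (Fin 9)) : Prop :=
  ∀ e : ZMod 3 × ZMod 3 × ZMod 3, ∃ e' : ZMod 3 × ZMod 3 × ZMod 3,
    k * elt pA pB pC e * k⁻¹ = elt pA pB pC e'

set_option maxRecDepth 100000 in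
theorem conj_g1 : ∀ e : ZMod 3 × ZMod 3 × ZMod 3, g1 * elt pA pB pC e * g1⁻¹ = elt pA pB pC e := by
  decide

set_option maxRecDepth 100000 in
theorem conj_g1i : ∀ e : ZMod 3 × ZMod 3 × ZMod 3, g1⁻¹ * elt pA pB pC e * g1⁻¹⁻¹ = elt pA pB pC e := by
  decide

set_option maxRecDepth 100000 in
theorem conj_g2 : ∀ e : ZMod 3 × ZMod 3 × ZMod 3,
    g2 * elt pA pB pC e * g2⁻¹ = elt pA pB pC (e.2.2, e.1, e.2.1) := by
  decide

set_option maxRecDepth 100000 in
theorem conj_g2i : ∀ e : ZMod 3 × ZMod 3 × ZMod 3,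
    g2⁻¹ * elt pA pB pC e * g2⁻¹⁻¹ = elt pA pB pC (e.2.1, e.2.2, e.1) := by
  decide

set_option maxRecDepth 100000 in
theorem conj_g3 : ∀ e : ZMod 3 × ZMod 3 × ZMod 3,
    g3 * elt pA pB pC e * g3⁻¹ = elt pA pB pC (-e.1, -e.2.1, e.2.2) := by
  decide

set_option maxRecDepth 100000 in
theorem conj_g3i : ∀ e : ZMod 3 × ZMod 3 × ZMod 3,
    g3⁻¹ * elt pA pB pC e * g3⁻¹⁻¹ = elt pA pB pC (-e.1, -e.2.1, e.2.2) := by
  decide

set_option maxRecDepth 100000 in
theorem conj_g4 : ∀ e : ZMod 3 × ZMod 3 × ZMod 3,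
    g4 * elt pA pB pC e * g4⁻¹ = elt pA pB pC (e.2.1, e.1, -e.2.2) := by
  decide

set_option maxRecDepth 100000 in
theorem conj_g4i : ∀ e : ZMod 3 × ZMod 3 × ZMod 3,
    g4⁻¹ * elt pA pB pC e * g4⁻¹⁻¹ = elt pA pB pC (e.2.1, e.1, -e.2.2) := by
  decide

theorem JN_one : JN 1 := fun e => ⟨e, by rw [one_mul, inv_one, mul_one]⟩

theorem JN_mul {k₁ k₂ : Equiv.Perm (Fin 9)} (h₁ : JN k₁) (h₂ : JN k₂) : JN (k₁ * k₂) := by
  intro e
  obtain ⟨e₂, he₂⟩ := h₂ e
  obtain ⟨e₁, he₁⟩ := h₁ e₂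
  refine ⟨e₁, ?_⟩
  rw [← he₁, ← he₂, mul_inv_rev]
  simp only [mul_assoc]

theorem JN_of_mem : ∀ k ∈ Subgroup.closure S0, JN k := by
  intro k hk
  induction hk using Subgroup.closure_induction'' with
  | mem x hx =>
    simp only [S0, Set.mem_insert_iff, Set.mem_singleton_iff] at hx
    rcases hx with rfl | rfl | rfl | rfl
    · exact fun e => ⟨_, conj_g1 e⟩
    · exact fun e => ⟨_, conj_g2 e⟩
    · exact fun e => ⟨_, conj_g3 e⟩
    · exact fun e => ⟨_, conj_g4 e⟩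
  | inv_mem x hx =>
    simp only [S0, Set.mem_insert_iff, Set.mem_singleton_iff] at hx
    rcases hx with rfl | rfl | rfl | rfl
    · exact fun e => ⟨_, conj_g1i e⟩
    · exact fun e => ⟨_, conj_g2i e⟩
    · exact fun e => ⟨_, conj_g3i e⟩
    · exact fun e => ⟨_, conj_g4i e⟩
  | one => exact JN_one
  | mul x y _ _ hx hy => exact JN_mul hx hy

/-! ### the 2-cycle certificates -/

/-- the three candidates `x`, `x * (v x v⁻¹)`, `x * (uv x (uv)⁻¹)` -/
def selc (c : Fin 3) (x : Equiv.Perm (Fin 9)) : Equiv.Perm (Fin 9) :=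
  ![x, x * (pV * x * pV⁻¹), x * ((pU * pV) * x * (pU * pV)⁻¹)] c

/-- the candidate which has a 2-cycle, for `x = elt e * Wfun i` (it depends on `i` only) -/
def selT : Fin 24 → Fin 3 :=
  ![0, 0, 0, 1, 0, 2, 0, 2, 0, 1, 0, 1, 0, 2, 0, 0, 0, 1, 0, 2, 0, 0, 0, 0]

set_option maxRecDepth 100000 in
set_option maxHeartbeats 4000000 in
theorem cert : ∀ i : Fin 24, i ≠ 0 → ∀ e : ZMod 3 × ZMod 3 × ZMod 3, ∃ p : Fin 9,
    selc (selT i) (elt pA pB pC e * Wfun pS pU pV i)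
        (selc (selT i) (elt pA pB pC e * Wfun pS pU pV i) p) = p ∧
      selc (selT i) (elt pA pB pC e * Wfun pS pU pV i) p ≠ p := by
  decide

theorem pV_mem : pV ∈ Subgroup.closure S0 := g4_mem

theorem pUV_mem : pU * pV ∈ Subgroup.closure S0 := mul_mem g3_mem g4_mem

/-- PKG CORE with the first clause of `perm_param` (PKG PERM) as the hypothesis `hparam`. -/
theorem perm_core_of
    (hparam : ∀ k ∈ Subgroup.closure S0, ∃ (e : ZMod 3 × ZMod 3 × ZMod 3) (i : Fin 24),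
      k = elt pA pB pC e * Wfun pS pU pV i) :
    (∀ k ∈ Subgroup.closure S0, ∀ e : ZMod 3 × ZMod 3 × ZMod 3,
      ∃ e' : ZMod 3 × ZMod 3 × ZMod 3, k * elt pA pB pC e * k⁻¹ = elt pA pB pC e') ∧
    (∀ N : Subgroup ↥(Subgroup.closure S0), N.Normal → IsPGroup 3 N →
      ∀ x ∈ N, ∃ e : ZMod 3 × ZMod 3 × ZMod 3, (x : Equiv.Perm (Fin 9)) = elt pA pB pC e) := by
  refine ⟨fun k hk e => JN_of_mem k hk e, ?_⟩
  intro N hN hp x hx
  obtain ⟨e, i, hxe⟩ := hparam x.1 x.2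
  by_cases hi : i = 0
  · refine ⟨e, ?_⟩
    rw [hxe, hi]
    simp [Wfun]
  · exfalso
    obtain ⟨p, hp1, hp2⟩ := cert i hi e
    rw [← hxe] at hp1 hp2
    -- the three candidates as elements of `N`
    have hconj : ∀ k : ↥(Subgroup.closure S0), x * (k * x * k⁻¹) ∈ N :=
      fun k => N.mul_mem hx (hN.conj_mem x hx k)
    have key : ∀ z ∈ N, (z : Equiv.Perm (Fin 9)) = selc (selT i) (x : Equiv.Perm (Fin 9)) → False := by
      intro z hz hzy
      obtain ⟨m, hm⟩ := hp ⟨z, hz⟩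
      have h1 : (z : Equiv.Perm (Fin 9)) ^ 3 ^ m = 1 := by
        have := congrArg (fun t : ↥N => ((t : ↥(Subgroup.closure S0)) : Equiv.Perm (Fin 9))) hm
        simpa using this
      rw [hzy] at h1
      exact hp2 (no_two_cycle _ m h1 p hp1)
    have h3 : ∀ c : Fin 3, ∃ z ∈ N, (z : Equiv.Perm (Fin 9)) = selc c (x : Equiv.Perm (Fin 9)) := by
      intro c
      fin_cases c
      · exact ⟨x, hx, rfl⟩
      · exact ⟨_, hconj ⟨pV, pV_mem⟩, rfl⟩
      · exact ⟨_, hconj ⟨pU * pV, pUV_mem⟩, rfl⟩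
    obtain ⟨z, hz, hzy⟩ := h3 (selT i)
    exact key z hz hzy

end Cfsg.Agent.Lib.Helper63_H648_COREaux
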