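import Mathlib
import Cfsg.Prelude.Def_Characters
import Cfsg.Agent.Lib.Helper80_CharBasic
import Cfsg.Agent.Lib.Helper17_H27Defs
import Cfsg.Agent.Lib.Helper76_H648Defs
import Cfsg.Agent.Lib.Helper52_H648_PERM
import Cfsg.Agent.Lib.Helper63_H648_COREaux

/-!
# S3702 market `h648_packages` (architect helper76), package CORE (verbatim)

`perm_core`: `Helper63_H648_COREaux.perm_core_of` fed with the first clause of the landed `Helper52_H648_PERM.perm_param`.
-/

set_option autoImplicit false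

namespace Cfsg.Agent.Lib.Helper63_H648_CORE

open Cfsg.Agent.Lib.Helper76_H648Defs
open Cfsg.Agent.Lib.Helper17_H27Defs (elt)

/-- `J₀` is normal in `K₀` and contains every normal 3-subgroup of `K₀` (so `J₀ = O₃(K₀)`) -/
theorem perm_core :
    (∀ k ∈ Subgroup.closure S0, ∀ e : ZMod 3 × ZMod 3 × ZMod 3,
      ∃ e' : ZMod 3 × ZMod 3 × ZMod 3, k * elt pA pB pC e * k⁻¹ = elt pA pB pC e') ∧
    (∀ N : Subgroup ↥(Subgroup.closure S0), N.Normal → IsPGroup 3 N →
      ∀ x ∈ N, ∃ e : ZMod 3 × ZMod 3 × ZMod 3, (x : Equiv.Perm (Fin 9)) = elt pA pB pC e) :=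
  Cfsg.Agent.Lib.Helper63_H648_COREaux.perm_core_of Cfsg.Agent.Lib.Helper52_H648_PERM.perm_param.1

end Cfsg.Agent.Lib.Helper63_H648_CORE
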