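import Mathlib
import Cfsg.Agent.Lib.Helper72_IPDefs
import Cfsg.Agent.Lib.Helper80_CharInd
import Cfsg.Agent.Lib.Helper75_Induced
import Cfsg.Agent.Lib.Helper75_IndChar
import Cfsg.Agent.Lib.Helper75_CharArith
import Cfsg.Agent.Lib.Helper3_CharOrtho
import Cfsg.Agent.Lib.Helper3_CharBridge

/-!
# S4463 PKG-X (helper63, for helper72): a character of maximal degree of a subgroup vanishes off the
core
-/

set_option autoImplicit false
set_option linter.unusedSectionVars false
set_option linter.style.haveILetI false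
open Cfsg Cfsg.Agent.Lib.Helper72_IPDefs

universe u

namespace Cfsg.Agent.Lib.Helper63_IP_X

open Cfsg.Agent.Lib.Helper80_CharBasic Cfsg.Agent.Lib.Helper75_Induced
open scoped ComplexConjugate

theorem charDegree_eq_of_apply_one {G : Type u} [Group G] (χ : G → ℂ) (n : ℕ) (h : χ 1 = n) :
    charDegree χ = n := by
  unfold charDegree
  rw [h]
  simp

theorem vanish_off_core {G : Type u} [Group G] [Finite G] {b : ℕ} (h : RB G b) (U : Subgroup G)
    (η : IrrCharacter U) (hη : charDegree (η : U → ℂ) = b) (u : U) (hu : (u : G) ∉ U.normalCore) :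
    (η : U → ℂ) u = 0 := by
  classical
  haveI : Fintype G := Fintype.ofFinite G
  haveI : Fintype U := Fintype.ofFinite U
  haveI : Fintype (IrrCharacter G) := Fintype.ofFinite _
  obtain ⟨nη, hnηpos, hnη⟩ := irr_apply_one η
  have hbη : nη = b := by rw [← hη, charDegree_eq_of_apply_one _ nη hnη]
  subst hbη
  have hηchar : IsCharacter U (η : U → ℂ) :=
    Cfsg.Agent.Lib.Helper3_CharBridge.isCharacter_of_isIrrCharacter η.2
  have hindchar : IsCharacter G (indFun U (η : U → ℂ)) :=
    Cfsg.Agent.Lib.Helper75_IndChar.isCharacter_indFun U hηchar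
  obtain ⟨m, hm, hexp⟩ := Cfsg.Agent.Lib.Helper80_CharInd.char_decomp _ hindchar
  -- constituents restrict to `η`
  have hres : ∀ ψ : IrrCharacter G, m ψ ≠ 0 → (fun x : U => (ψ : G → ℂ) x) = (η : U → ℂ) := by
    intro ψ hψ
    have h1 : classInner (η : U → ℂ) (fun x : U => (ψ : G → ℂ) x) = m ψ := by
      rw [← frobenius_reciprocity U (η : U → ℂ) (ψ : G → ℂ)
        (Cfsg.Agent.Lib.Helper3_CharBridge.isClassFunction_of_isIrrCharacter ψ.2), hm]
    have h2 : classInner (fun x : U => (ψ : G → ℂ) x) (η : U → ℂ) ≠ 0 := by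
      rw [← Cfsg.Agent.Lib.Helper3_CharOrtho.classInner_conj_symm, h1]
      simpa using hψ
    obtain ⟨nψ, hnψpos, hnψ⟩ := irr_apply_one ψ
    have hle : nψ ≤ nη := by
      have := h ψ
      rwa [charDegree_eq_of_apply_one _ nψ hnψ] at this
    exact Cfsg.Agent.Lib.Helper80_CharInd.eq_of_constituent_of_degree_le _
      (Cfsg.Agent.Lib.Helper75_CharArith.isCharacter_restrict U
        (Cfsg.Agent.Lib.Helper3_CharBridge.isCharacter_of_isIrrCharacter ψ.2)) η h2 nψ nη
      (by simpa using hnψ) hnη hle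
  -- first evaluation of the induced character on `U`
  have hind1 : ∀ x : U, indFun U (η : U → ℂ) (x : G) = ((∑ ψ, m ψ : ℕ) : ℂ) * (η : U → ℂ) x := by
    intro x
    rw [hexp, Finset.sum_apply, Nat.cast_sum, Finset.sum_mul]
    refine Finset.sum_congr rfl (fun ψ _ => ?_)
    rw [Pi.smul_apply, smul_eq_mul]
    by_cases hψ : m ψ = 0
    · rw [hψ]; simp
    · have hthis : (ψ : G → ℂ) (x : G) = (η : U → ℂ) x := congrFun (hres ψ hψ) x
      rw [hthis]
  have hsum : ((∑ ψ, m ψ : ℕ) : ℂ) = (U.index : ℂ) := by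
    have h1 := hind1 1
    rw [Subgroup.coe_one, Cfsg.Agent.Lib.Helper80_CharInd.indFun_one, hnη] at h1
    have hne : ((nη : ℕ) : ℂ) ≠ 0 := by exact_mod_cast hnηpos.ne'
    exact (mul_right_cancel₀ hne h1).symm
  -- a constituent
  have hex : ∃ ψ₀ : IrrCharacter G, m ψ₀ ≠ 0 := by
    by_contra hcon
    push Not at hcon
    have : ((∑ ψ, m ψ : ℕ) : ℂ) = 0 := by
      rw [Finset.sum_eq_zero (fun ψ _ => hcon ψ)]; simp
    rw [hsum] at this
    have hidx : U.index ≠ 0 := Subgroup.index_ne_zero_of_finite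
    exact hidx (by exact_mod_cast this)
  obtain ⟨ψ₀, hψ₀⟩ := hex
  have hψ₀cl := Cfsg.Agent.Lib.Helper3_CharBridge.isClassFunction_of_isIrrCharacter ψ₀.2
  -- second evaluation
  set S : Finset G := Finset.univ.filter (fun x : G => x⁻¹ * (u : G) * x ∈ U) with hS
  have hterm : ∀ x : G, extendByZero U (η : U → ℂ) (x⁻¹ * (u : G) * x)
      = if x ∈ S then (η : U → ℂ) u else 0 := by
    intro x
    by_cases hx : x⁻¹ * (u : G) * x ∈ U
    · have hxS : x ∈ S := by rw [hS, Finset.mem_filter]; exact ⟨Finset.mem_univ _, hx⟩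
      rw [if_pos hxS, extendByZero_of_mem U _ hx]
      have h1 : (ψ₀ : G → ℂ) (x⁻¹ * (u : G) * x) = (η : U → ℂ) ⟨x⁻¹ * (u : G) * x, hx⟩ :=
        congrFun (hres ψ₀ hψ₀) ⟨x⁻¹ * (u : G) * x, hx⟩
      have h2 : (ψ₀ : G → ℂ) (u : G) = (η : U → ℂ) u := congrFun (hres ψ₀ hψ₀) u
      rw [← h1, ← h2]
      have h3 := hψ₀cl (u : G) x⁻¹
      rw [inv_inv] at h3
      exact h3
    · have hxS : x ∉ S := by
        rw [hS, Finset.mem_filter]; exact fun hh => hx hh.2
      rw [if_neg hxS, extendByZero_of_not_mem U _ hx]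
  have hind2 : indFun U (η : U → ℂ) (u : G)
      = (Nat.card U : ℂ)⁻¹ * ((S.card : ℂ) * (η : U → ℂ) u) := by
    rw [indFun_apply, Finset.sum_congr rfl (fun x _ => hterm x), ← Finset.sum_filter,
      Finset.filter_mem_eq_inter, Finset.univ_inter, Finset.sum_const, nsmul_eq_mul]
  -- `S` is a proper subset
  have hSlt : S.card < Fintype.card G := by
    have hex : ∃ x₀ : G, x₀ ∉ S := by
      by_contra hcon
      push Not at hcon
      apply hu
      intro c
      have := hcon c⁻¹
      rw [hS, Finset.mem_filter, inv_inv] at this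
      exact this.2
    obtain ⟨x₀, hx₀⟩ := hex
    calc S.card < (Finset.univ : Finset G).card :=
          Finset.card_lt_card ⟨Finset.subset_univ _, fun hsub => hx₀ (hsub (Finset.mem_univ _))⟩
      _ = Fintype.card G := Finset.card_univ
  -- compare
  have hcmp := (hind1 u).symm.trans hind2
  rw [hsum] at hcmp
  have hUne : (Nat.card U : ℂ) ≠ 0 := by exact_mod_cast Nat.card_pos.ne'
  have hG : (Nat.card U : ℂ) * (U.index : ℂ) = (Fintype.card G : ℂ) := by
    rw [← Nat.cast_mul, U.card_mul_index, Nat.card_eq_fintype_card]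
  have hkey : ((Fintype.card G : ℂ) - (S.card : ℂ)) * (η : U → ℂ) u = 0 := by
    have h1 : (Nat.card U : ℂ) * ((U.index : ℂ) * (η : U → ℂ) u)
        = (S.card : ℂ) * (η : U → ℂ) u := by
      rw [hcmp, ← mul_assoc, mul_inv_cancel₀ hUne, one_mul]
    rw [sub_mul, ← hG, mul_assoc, h1, sub_self]
  rcases mul_eq_zero.mp hkey with h0 | h0
  · exfalso
    have : (Fintype.card G : ℂ) = (S.card : ℂ) := sub_eq_zero.mp h0
    have h' : Fintype.card G = S.card := by exact_mod_cast this
    omega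
  · exact h0

end Cfsg.Agent.Lib.Helper63_IP_X
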