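import Mathlib
import Cfsg.Agent.Lib.Helper72_IPDefs
import Cfsg.Agent.Lib.Helper80_BrolineGarrison
import Cfsg.Agent.Lib.Helper3_CharOrtho

/-!
# S4463 PKG-X2 (helper63, for helper72): `|U| ≤ |core_G(U)| b ^ 2`
-/

set_option autoImplicit false
set_option linter.unusedSectionVars false
set_option linter.style.haveILetI false
open Cfsg Cfsg.Agent.Lib.Helper72_IPDefs

universe u

namespace Cfsg.Agent.Lib.Helper63_IP_X2

open scoped ComplexConjugate

theorem card_le_core_mul_sq {G : Type u} [Group G] [Finite G] {b : ℕ} (U : Subgroup G)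
    (η : IrrCharacter U) (hη : charDegree (η : U → ℂ) = b)
    (hvan : ∀ u : U, (u : G) ∉ U.normalCore → (η : U → ℂ) u = 0) :
    Nat.card U ≤ Nat.card U.normalCore * b ^ 2 := by
  classical
  haveI : Fintype U := Fintype.ofFinite U
  have h1 := Cfsg.Agent.Lib.Helper3_CharOrtho.classInner_self_of_isIrrCharacter η.2
  unfold classInner at h1
  have hUne : (Nat.card U : ℂ) ≠ 0 := by exact_mod_cast Nat.card_pos.ne'
  -- `|U| = ∑ ‖η u‖²`
  have h2 : ∑ g : U, (η : U → ℂ) g * conj ((η : U → ℂ) g) = (Nat.card U : ℂ) := by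
    have := congrArg (fun z => (Nat.card U : ℂ) * z) h1
    simp only [← mul_assoc, mul_inv_cancel₀ hUne, one_mul, mul_one] at this
    exact this
  have h3 : ∑ g : U, ‖(η : U → ℂ) g‖ ^ 2 = (Nat.card U : ℝ) := by
    have h4 : ((∑ g : U, ‖(η : U → ℂ) g‖ ^ 2 : ℝ) : ℂ) = (Nat.card U : ℂ) := by
      rw [← h2, Complex.ofReal_sum]
      refine Finset.sum_congr rfl (fun g _ => ?_)
      rw [Complex.mul_conj, Complex.normSq_eq_norm_sq]
    exact_mod_cast h4
  -- bound each term
  set C : Finset U := Finset.univ.filter (fun g : U => (g : G) ∈ U.normalCore) with hC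
  have h5 : ∑ g : U, ‖(η : U → ℂ) g‖ ^ 2 = ∑ g ∈ C, ‖(η : U → ℂ) g‖ ^ 2 := by
    rw [hC, Finset.sum_filter]
    refine Finset.sum_congr rfl (fun g _ => ?_)
    by_cases hg : (g : G) ∈ U.normalCore
    · rw [if_pos hg]
    · rw [if_neg hg, hvan g hg]; simp
  have h6 : ∑ g ∈ C, ‖(η : U → ℂ) g‖ ^ 2 ≤ ∑ _g ∈ C, ((b : ℝ) ^ 2) := by
    refine Finset.sum_le_sum (fun g _ => ?_)
    have := Cfsg.Agent.Lib.Helper80_BrolineGarrison.irr_norm_le η g
    rw [hη] at this
    exact pow_le_pow_left₀ (norm_nonneg _) this 2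
  have hCcard : C.card = Nat.card U.normalCore := by
    let e : {g : U // (g : G) ∈ U.normalCore} ≃ U.normalCore :=
      { toFun := fun g => ⟨(g.1 : G), g.2⟩
        invFun := fun c => ⟨⟨(c : G), U.normalCore_le c.2⟩, c.2⟩
        left_inv := fun g => rfl
        right_inv := fun c => rfl }
    rw [← Nat.card_congr e, Nat.card_eq_fintype_card, Fintype.card_subtype]
  have h7 : (Nat.card U : ℝ) ≤ (Nat.card U.normalCore : ℝ) * (b : ℝ) ^ 2 := by
    rw [← h3, h5]
    refine h6.trans ?_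
    rw [Finset.sum_const, nsmul_eq_mul, hCcard]
  exact_mod_cast h7

end Cfsg.Agent.Lib.Helper63_IP_X2
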