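import Cfsg.Agent.Lib.Helper47_IsoBar
import Cfsg.Agent.Lib.Helper47_IsoMain
import Cfsg.Agent.Lib.Helper21_Components
import Cfsg.Agent.Lib.Helper21_FStar
import Cfsg.Agent.Lib.Helper22_Layer
import Cfsg.Agent.Lib.Helper22_Quasisimple
import Cfsg.Agent.Lib.Helper29_Local
import Cfsg.Agent.Lib.Helper48_Trans2
import Cfsg.Agent.Lib.Helper24_CoprimeAction
import Cfsg.Agent.Lib.Helper1_Cores

/-!
# S3044 batch 2 (architect helper47), package COPR (proof helper63)

`H = R X` if `X` contains a Sylow `r`-subgroup for every prime `r ≠ t` and `R` is a Sylow `t`-subgroup: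
the indices of `X` and `R` are coprime, so `|R : R ⊓ X| ≥ |H : X|` and `R` is transitive on `H ⧸ X`.
-/

set_option autoImplicit false

open Cfsg
open Cfsg.Agent.Lib.Helper47_IsoBase Cfsg.Agent.Lib.Helper47_IsoBar Cfsg.Agent.Lib.Helper47_SubAPI
  Cfsg.Agent.Lib.Helper48_Op
open scoped commutatorElement Pointwise

namespace Cfsg.Agent.Lib.Helper63_Iso_COPR

universe u

variable {H : Type u} [Group H] [Finite H] {p : ℕ} [Fact p.Prime] {Y C S W : Subgroup H}

theorem smul_coe_aux {H : Type u} [Group H] (R X : Subgroup H) (a : ↥R) (b : H) :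
    a • ((b : H) : H ⧸ X) = (((a : H) * b : H) : H ⧸ X) := rfl

/-- two subgroups of coprime indices: `H = R X` -/
theorem exists_mul_of_coprime_index {H : Type u} [Group H] [Finite H] (R X : Subgroup H)
    (hcop : Nat.Coprime X.index R.index) (y : H) : ∃ a ∈ R, ∃ x ∈ X, y = a * x := by
  have hdvd : X.index * R.index ∣ (R ⊓ X).index :=
    hcop.mul_dvd_of_dvd_of_dvd (Subgroup.index_dvd_of_le inf_le_right)
      (Subgroup.index_dvd_of_le inf_le_left)
  have hrel : X.relIndex R * R.index = (R ⊓ X).index := by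
    rw [← Subgroup.inf_relIndex_left R X]
    exact Subgroup.relIndex_mul_index inf_le_left
  have hRpos : 0 < R.index := Nat.pos_of_ne_zero Subgroup.index_ne_zero_of_finite
  have hIpos : 0 < (R ⊓ X).index := Nat.pos_of_ne_zero Subgroup.index_ne_zero_of_finite
  have hge : X.index ≤ X.relIndex R := by
    have h1 : X.index * R.index ≤ X.relIndex R * R.index := by
      rw [hrel]
      exact Nat.le_of_dvd hIpos hdvd
    exact Nat.le_of_mul_le_mul_right h1 hRpos
  -- the action of `R` on `H ⧸ X`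
  have hstab : MulAction.stabilizer ↥R ((1 : H) : H ⧸ X) = X.subgroupOf R := by
    ext a
    rw [MulAction.mem_stabilizer_iff, Subgroup.mem_subgroupOf, smul_coe_aux, mul_one,
      QuotientGroup.eq, mul_one, inv_mem_iff]
  have hcard : (MulAction.orbit ↥R ((1 : H) : H ⧸ X)).ncard = X.relIndex R := by
    rw [← MulAction.index_stabilizer, hstab]
    rfl
  have huniv : MulAction.orbit ↥R ((1 : H) : H ⧸ X) = Set.univ := by
    rw [Set.eq_univ_iff_ncard, hcard]
    apply le_antisymm
    · rw [← hcard, ← Set.ncard_univ]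
      exact Set.ncard_le_ncard (Set.subset_univ _)
    · exact hge
  have hy : ((y : H) : H ⧸ X) ∈ MulAction.orbit ↥R ((1 : H) : H ⧸ X) := by
    rw [huniv]
    exact Set.mem_univ _
  obtain ⟨a, ha⟩ := hy
  have ha' : (((a : H) * 1 : H) : H ⧸ X) = ((y : H) : H ⧸ X) := by
    rw [← ha]
    exact (smul_coe_aux R X a 1).symm
  rw [mul_one, QuotientGroup.eq] at ha'
  exact ⟨a.1, a.2, (a : H)⁻¹ * y, ha', by rw [mul_inv_cancel_left]⟩

theorem copr {H : Type u} [Group H] [Finite H] {t : ℕ} (ht : t.Prime) (R : Sylow t H) (X : Subgroup H)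
    (hX : ∀ r : ℕ, r.Prime → r ≠ t → ∃ T : Sylow r H, (T : Subgroup H) ≤ X) (y : H) :
    ∃ a ∈ (R : Subgroup H), ∃ x ∈ X, y = a * x := by
  have : Fact t.Prime := ⟨ht⟩
  have hcop : Nat.Coprime X.index (R : Subgroup H).index := by
    apply Nat.coprime_of_dvd
    intro k hk hkX hkR
    by_cases hkt : k = t
    · subst hkt
      exact R.not_dvd_index hkR
    · obtain ⟨T, hT⟩ := hX k hk hkt
      have : Fact k.Prime := ⟨hk⟩
      exact T.not_dvd_index (hkX.trans (Subgroup.index_dvd_of_le hT))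
  exact exists_mul_of_coprime_index (R : Subgroup H) X hcop y

end Cfsg.Agent.Lib.Helper63_Iso_COPR
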