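/-
Helper library (helper63): the quotient `C_G(t)/⟨t⟩` by a central involution, elementwise.
-/
import Mathlib

set_option autoImplicit false
set_option linter.unusedSectionVars false

namespace Cfsg.Agent.Lib.Helper63_QuotInv

variable {G : Type*} [Group G] {t : G}

theorem mem_ct {a : G} : a ∈ Subgroup.centralizer ({t} : Set G) ↔ a * t = t * a := by
  rw [Subgroup.mem_centralizer_iff]
  constructor
  · intro h; exact (h t (Set.mem_singleton t)).symm
  · intro h w hw
    rw [Set.mem_singleton_iff] at hw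
    rw [hw]; exact h.symm

theorem mem_zpowers_inv {x : G} (htt : t * t = 1) :
    x ∈ Subgroup.zpowers t ↔ x = 1 ∨ x = t := by
  constructor
  · rintro ⟨k, hk⟩
    have hk' : t ^ k = x := hk
    rw [← hk']
    rcases Int.emod_two_eq_zero_or_one k with h | h
    · left
      have : k = 2 * (k / 2) := by omega
      rw [this, zpow_mul, zpow_two, htt, one_zpow]
    · right
      have : k = 2 * (k / 2) + 1 := by omega
      rw [this, zpow_add, zpow_mul, zpow_two, htt, one_zpow, one_mul, zpow_one]
  · rintro (rfl | rfl)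
    · exact Subgroup.one_mem _
    · exact Subgroup.mem_zpowers _

variable [hn : ((Subgroup.zpowers t).subgroupOf (Subgroup.centralizer ({t} : Set G))).Normal]

theorem mk_eq_one_iff (htt : t * t = 1) (a : ↥(Subgroup.centralizer ({t} : Set G))) :
    (QuotientGroup.mk a : ↥(Subgroup.centralizer ({t} : Set G)) ⧸
      (Subgroup.zpowers t).subgroupOf (Subgroup.centralizer ({t} : Set G))) = 1 ↔
      (a : G) = 1 ∨ (a : G) = t := by
  rw [QuotientGroup.eq_one_iff, Subgroup.mem_subgroupOf, mem_zpowers_inv htt]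

theorem mk_eq_mk_iff (htt : t * t = 1) (a b : ↥(Subgroup.centralizer ({t} : Set G))) :
    (QuotientGroup.mk a : ↥(Subgroup.centralizer ({t} : Set G)) ⧸
      (Subgroup.zpowers t).subgroupOf (Subgroup.centralizer ({t} : Set G))) = QuotientGroup.mk b ↔
      (a : G) = b ∨ (a : G) = (b : G) * t := by
  have hti : t⁻¹ = t := inv_eq_of_mul_eq_one_left htt
  rw [QuotientGroup.eq, Subgroup.mem_subgroupOf, mem_zpowers_inv htt]
  have e : ((a⁻¹ * b : ↥(Subgroup.centralizer ({t} : Set G))) : G) = (a : G)⁻¹ * b := rfl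
  rw [e]
  constructor
  · rintro (h | h)
    · left
      calc (a : G) = (a : G) * ((a : G)⁻¹ * b) := by rw [h, mul_one]
        _ = b := by group
    · right
      calc (a : G) = ((a : G) * ((a : G)⁻¹ * b)) * t⁻¹ := by rw [h]; group
        _ = (b : G) * t := by rw [hti]; group
  · rintro (h | h)
    · left; rw [h]; group
    · right
      rw [h]
      calc ((b : G) * t)⁻¹ * b = t⁻¹ * ((b : G)⁻¹ * b) := by group
        _ = t := by rw [hti]; group

theorem mk_comm_iff (htt : t * t = 1) (a b : ↥(Subgroup.centralizer ({t} : Set G))) :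
    (QuotientGroup.mk a : ↥(Subgroup.centralizer ({t} : Set G)) ⧸
      (Subgroup.zpowers t).subgroupOf (Subgroup.centralizer ({t} : Set G))) * QuotientGroup.mk b =
      QuotientGroup.mk b * QuotientGroup.mk a ↔
      (a : G) * b = b * a ∨ (a : G) * b = (b : G) * a * t := by
  rw [← QuotientGroup.mk_mul, ← QuotientGroup.mk_mul, mk_eq_mk_iff htt]
  rfl

theorem mem_map_iff (P : Subgroup G) (ξ : ↥(Subgroup.centralizer ({t} : Set G)) ⧸
      (Subgroup.zpowers t).subgroupOf (Subgroup.centralizer ({t} : Set G))) :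
    ξ ∈ (P.subgroupOf (Subgroup.centralizer ({t} : Set G))).map
      (QuotientGroup.mk' ((Subgroup.zpowers t).subgroupOf (Subgroup.centralizer ({t} : Set G)))) ↔
      ∃ x : ↥(Subgroup.centralizer ({t} : Set G)), (x : G) ∈ P ∧ QuotientGroup.mk x = ξ := by
  rw [Subgroup.mem_map]
  constructor
  · rintro ⟨x, hx, rfl⟩
    exact ⟨x, Subgroup.mem_subgroupOf.1 hx, rfl⟩
  · rintro ⟨x, hx, rfl⟩
    exact ⟨x, Subgroup.mem_subgroupOf.2 hx, rfl⟩

end Cfsg.Agent.Lib.Helper63_QuotInv
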