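/-
Helper library (helper63): singular subgroups in the large extraspecial setting
(Smith 1978): `L_U` induces `GL(U)` on `U`, and related facts.

Part A: a subgroup `L` inducing all coordinate transvections on an elementary abelian
2-subgroup `U` induces every automorphism of `U` (Mathlib's Gaussian elimination).
Part B: duality in extraspecial groups (`LES` form), from helper30's `S1784.ES.dual`.
Part C: the singular setting.
-/
import Mathlib
import Cfsg.Agent.Lib.Helper93_LES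
import Cfsg.Agent.S1784

set_option autoImplicit false
set_option linter.style.haveILetI false

namespace Cfsg.Agent.Lib.Helper63_SingularGL

open Matrix
open Cfsg.Agent.Lib.Helper93_LES

variable {G : Type*} [Group G]

/-! ### Part A -/

section partA

variable {U L : Subgroup G} {n : ℕ} (κ : ↥U ≃ (Fin n → ZMod 2))

/-- conjugation by some element of `L` induces the matrix `A` on `U` in `κ`-coordinates -/
def Ind (U L : Subgroup G) {n : ℕ} (κ : ↥U ≃ (Fin n → ZMod 2))
    (A : Matrix (Fin n) (Fin n) (ZMod 2)) : Prop :=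
  ∃ g ∈ L, ∀ v : ↥U, ∃ w : ↥U, (w : G) = g * v * g⁻¹ ∧ κ w = A *ᵥ κ v

theorem ind_one : Ind U L κ 1 := by
  refine ⟨1, L.one_mem, fun v => ⟨v, ?_, ?_⟩⟩
  · rw [one_mul, inv_one, mul_one]
  · rw [Matrix.one_mulVec]

theorem ind_mul {A B : Matrix (Fin n) (Fin n) (ZMod 2)} (hA : Ind U L κ A) (hB : Ind U L κ B) :
    Ind U L κ (A * B) := by
  obtain ⟨g, hg, hgA⟩ := hA
  obtain ⟨h, hh, hhB⟩ := hB
  refine ⟨g * h, L.mul_mem hg hh, fun v => ?_⟩
  obtain ⟨w, hw, hwk⟩ := hhB v
  obtain ⟨w', hw', hwk'⟩ := hgA w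
  refine ⟨w', ?_, ?_⟩
  · rw [hw', hw, _root_.mul_inv_rev]
    simp only [mul_assoc]
  · rw [hwk', hwk, Matrix.mulVec_mulVec]

theorem zmod_two_eq_one {c : ZMod 2} (hc : c ≠ 0) : c = 1 := by
  revert hc
  revert c
  decide

theorem ind_of_transvections
    (htr : ∀ i j : Fin n, i ≠ j → Ind U L κ (Matrix.transvection i j 1))
    (A : Matrix (Fin n) (Fin n) (ZMod 2)) (hA : A.det ≠ 0) : Ind U L κ A := by
  apply Matrix.diagonal_transvection_induction_of_det_ne_zero (Ind U L κ) A hA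
  · intro D hD
    rw [Matrix.det_diagonal] at hD
    have hD1 : D = fun _ => 1 := by
      funext i
      apply zmod_two_eq_one
      intro h0
      apply hD
      exact Finset.prod_eq_zero (Finset.mem_univ i) h0
    rw [hD1]
    have : (Matrix.diagonal fun _ : Fin n => (1 : ZMod 2)) = 1 := Matrix.diagonal_one
    rw [this]
    exact ind_one κ
  · rintro ⟨i, j, hij, c⟩
    rw [Matrix.TransvectionStruct.toMatrix_mk]
    by_cases hc : c = 0
    · rw [hc, Matrix.transvection_zero]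
      exact ind_one κ
    · rw [zmod_two_eq_one hc]
      exact htr i j hij
  · intro A B _ _ hPA hPB
    exact ind_mul κ hPA hPB

variable (hκ : ∀ a b : ↥U, κ (a * b) = κ a + κ b)

include hκ in
theorem kappa_one : κ 1 = 0 := by
  have h := hκ 1 1
  rw [mul_one] at h
  have : κ 1 + 0 = κ 1 + κ 1 := by rw [add_zero]; exact h
  exact (add_left_cancel this).symm

include hκ in
theorem kappa_symm_add (v w : Fin n → ZMod 2) : κ.symm (v + w) = κ.symm v * κ.symm w := by
  apply κ.injective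
  rw [hκ, Equiv.apply_symm_apply, Equiv.apply_symm_apply, Equiv.apply_symm_apply]

/-- an automorphism in coordinates, as an additive map -/
def autAdd (φ : ↥U ≃* ↥U) : (Fin n → ZMod 2) →+ (Fin n → ZMod 2) where
  toFun v := κ (φ (κ.symm v))
  map_zero' := by
    have h0 : κ.symm 0 = 1 := by
      apply κ.injective
      rw [Equiv.apply_symm_apply, kappa_one κ hκ]
    rw [h0, map_one, kappa_one κ hκ]
  map_add' v w := by
    rw [kappa_symm_add κ hκ, map_mul, hκ]

/-- the matrix of an automorphism -/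
def autMat (φ : ↥U ≃* ↥U) : Matrix (Fin n) (Fin n) (ZMod 2) :=
  LinearMap.toMatrix' ((autAdd κ hκ φ).toZModLinearMap 2)

theorem autMat_mulVec (φ : ↥U ≃* ↥U) (u : ↥U) : autMat κ hκ φ *ᵥ κ u = κ (φ u) := by
  unfold autMat
  rw [LinearMap.toMatrix'_mulVec]
  show κ (φ (κ.symm (κ u))) = _
  rw [Equiv.symm_apply_apply]

theorem eq_of_mulVec_kappa (A B : Matrix (Fin n) (Fin n) (ZMod 2))
    (h : ∀ u : ↥U, A *ᵥ κ u = B *ᵥ κ u) : A = B := by
  apply Matrix.toLin'.injective
  apply LinearMap.ext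
  intro v
  rw [Matrix.toLin'_apply, Matrix.toLin'_apply]
  have h1 := h (κ.symm v)
  rw [Equiv.apply_symm_apply] at h1
  exact h1

theorem det_autMat_ne_zero (φ : ↥U ≃* ↥U) : (autMat κ hκ φ).det ≠ 0 := by
  have h1 : autMat κ hκ φ * autMat κ hκ φ.symm = 1 := by
    apply eq_of_mulVec_kappa κ
    intro u
    rw [← Matrix.mulVec_mulVec, autMat_mulVec, autMat_mulVec, Matrix.one_mulVec,
      MulEquiv.apply_symm_apply]
  intro h0
  have := congrArg Matrix.det h1
  rw [Matrix.det_mul, h0, zero_mul, Matrix.det_one] at this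
  exact zero_ne_one this

include hκ in
/-- If `L` induces all coordinate transvections on `U`, it induces all of `Aut(U)`. -/
theorem exists_conj_of_aut
    (htr : ∀ i j : Fin n, i ≠ j → Ind U L κ (Matrix.transvection i j 1))
    (φ : ↥U ≃* ↥U) : ∃ g ∈ L, ∀ u : ↥U, g * (u : G) * g⁻¹ = ((φ u : ↥U) : G) := by
  obtain ⟨g, hg, hgv⟩ := ind_of_transvections κ htr (autMat κ hκ φ) (det_autMat_ne_zero κ hκ φ)
  refine ⟨g, hg, fun u => ?_⟩
  obtain ⟨w, hw, hwk⟩ := hgv u
  rw [autMat_mulVec] at hwk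
  rw [← hw, κ.injective hwk]

end partA

/-! ### Part B -/

section partB

variable {E : Subgroup G} {z : G}

theorem es_of_les (h : LES E z) : Cfsg.Agent.S1784.ES E z := by
  refine ⟨h.ne_one, h.sq, h.mem, fun q hq => (h.central q hq).symm, ?_, ?_⟩
  · intro x _ hx
    exact h.selfcent x hx
  · intro x hx y hy
    rcases h.comm x hx y hy with h1 | h1
    · left
      calc x * y = (x * y * x⁻¹ * y⁻¹) * (y * x) := by group
        _ = y * x := by rw [h1, one_mul]
    · right
      calc x * y = (x * y * x⁻¹ * y⁻¹) * (y * x) := by group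
        _ = z * (y * x) := by rw [h1]

/-- a noncommuting pair in `E`: conjugation multiplies by `z` -/
theorem conj_eq_of_not_comm (h : LES E z) {x v : G} (hx : x ∈ E) (hv : v ∈ E)
    (hne : x * v ≠ v * x) : x * v * x⁻¹ = z * v := by
  rcases h.comm x hx v hv with h1 | h1
  · exfalso
    apply hne
    calc x * v = (x * v * x⁻¹ * v⁻¹) * (v * x) := by group
      _ = v * x := by rw [h1, one_mul]
  · calc x * v * x⁻¹ = (x * v * x⁻¹ * v⁻¹) * v := by group
      _ = z * v := by rw [h1]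

theorem conj_eq_of_comm {x v : G} (hc : x * v = v * x) : x * v * x⁻¹ = v := by
  rw [hc, mul_assoc, mul_inv_cancel, mul_one]

/-- the commutator of two elements of `E` lies in `{1, z}` -/
theorem comm_cases (h : LES E z) {x v : G} (hx : x ∈ E) (hv : v ∈ E) :
    x * v * x⁻¹ * v⁻¹ = 1 ∨ x * v * x⁻¹ * v⁻¹ = z := h.comm x hx v hv

variable [Finite G]

/-- strict containment of subgroups containing the centre is detected by centralizers -/
theorem exists_separating (h : LES E z) (W U : Subgroup G) (hzW : z ∈ W) (hWU : W ≤ U)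
    (hUE : U ≤ E) (hne : W ≠ U) :
    ∃ x ∈ E, (∀ w ∈ W, x * w = w * x) ∧ ∃ v ∈ U, x * v ≠ v * x := by
  have hes := es_of_les h
  have d1 := hes.dual W hzW (hWU.trans hUE)
  have d2 := hes.dual U (hWU hzW) hUE
  by_contra hcon
  push Not at hcon
  -- then C_E(W) ≤ C_E(U)
  have hle : E ⊓ Subgroup.centralizer (W : Set G) ≤ E ⊓ Subgroup.centralizer (U : Set G) := by
    intro x hx
    rw [Subgroup.mem_inf] at hx ⊢
    refine ⟨hx.1, ?_⟩
    rw [Subgroup.mem_centralizer_iff]
    intro v hv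
    have hxW : ∀ w ∈ W, x * w = w * x := by
      intro w hw
      have := hx.2
      rw [Subgroup.mem_centralizer_iff] at this
      exact (this w hw).symm
    exact (hcon x hx.1 hxW v hv).symm
  have hc1 : Nat.card ↥(E ⊓ Subgroup.centralizer (W : Set G)) ≤
      Nat.card ↥(E ⊓ Subgroup.centralizer (U : Set G)) := Subgroup.card_le_of_le hle
  have hc2 : Nat.card ↥W < Nat.card ↥U := by
    have hlt : W < U := lt_of_le_of_ne hWU hne
    have hss : (W : Set G) ⊂ (U : Set G) := by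
      rw [Set.ssubset_iff_subset_ne]
      refine ⟨hWU, fun heq => hne (SetLike.coe_injective heq)⟩
    have := Set.ncard_lt_ncard hss (Set.toFinite _)
    rwa [← Nat.card_coe_set_eq, ← Nat.card_coe_set_eq] at this
  have hpos : 0 < Nat.card ↥(E ⊓ Subgroup.centralizer (W : Set G)) := Nat.card_pos
  have : Nat.card ↥(E ⊓ Subgroup.centralizer (W : Set G)) * Nat.card ↥W <
      Nat.card ↥(E ⊓ Subgroup.centralizer (U : Set G)) * Nat.card ↥U :=
    calc Nat.card ↥(E ⊓ Subgroup.centralizer (W : Set G)) * Nat.card ↥W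
        < Nat.card ↥(E ⊓ Subgroup.centralizer (W : Set G)) * Nat.card ↥U :=
          Nat.mul_lt_mul_of_pos_left hc2 hpos
      _ ≤ Nat.card ↥(E ⊓ Subgroup.centralizer (U : Set G)) * Nat.card ↥U :=
          Nat.mul_le_mul_right _ hc1
  omega

/-- double centralizer: an element of `E` outside `U` fails to commute with some element of
`C_E(U)` -/
theorem exists_not_comm (h : LES E z) (U : Subgroup G) (hzU : z ∈ U) (hUE : U ≤ E) {x : G}
    (hx : x ∈ E) (hxU : x ∉ U) :
    ∃ g ∈ E, (∀ v ∈ U, g * v = v * g) ∧ g * x ≠ x * g := by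
  have hUle : U ≤ U ⊔ Subgroup.zpowers x := le_sup_left
  have hxm : x ∈ U ⊔ Subgroup.zpowers x :=
    (le_sup_right : Subgroup.zpowers x ≤ _) (Subgroup.mem_zpowers x)
  have hne : U ≠ U ⊔ Subgroup.zpowers x := by
    intro heq
    apply hxU
    rw [heq]
    exact hxm
  have hle : U ⊔ Subgroup.zpowers x ≤ E := by
    apply sup_le hUE
    rw [Subgroup.zpowers_le]
    exact hx
  obtain ⟨g, hg, hgU, v, hv, hgv⟩ := exists_separating h U _ hzU hUle hle hne
  refine ⟨g, hg, hgU, ?_⟩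
  intro hgx
  apply hgv
  -- g centralizes U and x, hence U ⊔ ⟨x⟩
  have hcent : U ⊔ Subgroup.zpowers x ≤ Subgroup.centralizer ({g} : Set G) := by
    apply sup_le
    · intro w hw
      rw [Subgroup.mem_centralizer_iff]
      intro y hy
      rw [Set.mem_singleton_iff] at hy
      subst hy
      exact hgU w hw
    · rw [Subgroup.zpowers_le, Subgroup.mem_centralizer_iff]
      intro y hy
      rw [Set.mem_singleton_iff] at hy
      subst hy
      exact hgx
  have := hcent hv
  rw [Subgroup.mem_centralizer_iff] at this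
  exact this g (Set.mem_singleton g)

end partB

/-! ### Part C: the singular setting -/

/-- A singular subgroup: for each non-identity `u ∈ U`, `Q u` is "extraspecial with centre `⟨u⟩`
and self-centralizing", and `U ≤ Q u`. -/
structure Sing (Q : G → Subgroup G) (U : Subgroup G) : Prop where
  les : ∀ u ∈ U, u ≠ 1 → LES (Q u) u
  orth : ∀ u ∈ U, u ≠ 1 → U ≤ Q u

section partC

variable {Q : G → Subgroup G} {U : Subgroup G}

theorem sing_of_hyp
    (hQ : ∀ x : G, Q x = (Cfsg.pCore 2 ↥(Subgroup.centralizer ({x} : Set G))).map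
      (Subgroup.centralizer ({x} : Set G)).subtype)
    (z : G) (hz : orderOf z = 2) (hE : Cfsg.IsExtraspecial 2 ↥(Q z))
    (hC : Subgroup.centralizer ((Q z : Subgroup G) : Set G) ≤ Q z)
    (hS : ∀ u ∈ U, u ≠ 1 → ∃ g : G, g * z * g⁻¹ = u)
    (hO : ∀ u ∈ U, ∀ v ∈ U, u ≠ 1 → v ≠ 1 → v ∈ Q u) : Sing Q U := by
  have hQt : ∀ x, Q x = tc x := hQ
  rw [hQt z] at hE hC
  have hles : LES (tc z) z := les_of_hyp hz hE hC
  refine ⟨?_, ?_⟩
  · intro u hu hu1
    obtain ⟨g, rfl⟩ := hS u hu hu1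
    rw [hQt]
    exact hles.conj g
  · intro u hu hu1 v hv
    by_cases hv1 : v = 1
    · rw [hv1]; exact (Q u).one_mem
    · exact hO u hu v hv hu1 hv1

theorem Sing.le_iInf (hs : Sing Q U) : U ≤ ⨅ u ∈ ((U : Set G) \ {1}), Q u := by
  refine le_iInf₂ (fun u hu => ?_)
  exact hs.orth u hu.1 (fun h => hu.2 (by rw [Set.mem_singleton_iff]; exact h))

theorem Sing.Q_le_iSup {u : G} (hu : u ∈ U) (hu1 : u ≠ 1) :
    Q u ≤ ⨆ u ∈ ((U : Set G) \ {1}), Q u :=
  le_iSup₂ (f := fun u (_ : u ∈ ((U : Set G) \ {1})) => Q u) u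
    ⟨hu, fun h => hu1 (by rw [Set.mem_singleton_iff] at h; exact h)⟩

theorem Sing.iInf_le_Q {u : G} (hu : u ∈ U) (hu1 : u ≠ 1) :
    (⨅ u ∈ ((U : Set G) \ {1}), Q u) ≤ Q u :=
  iInf₂_le (f := fun u (_ : u ∈ ((U : Set G) \ {1})) => Q u) u
    ⟨hu, fun h => hu1 (by rw [Set.mem_singleton_iff] at h; exact h)⟩

/-- `Q u` normalizes `U` (elementwise) -/
theorem Sing.conj_mem (hs : Sing Q U) {u : G} (hu : u ∈ U) (hu1 : u ≠ 1) {x : G} (hx : x ∈ Q u)
    {v : G} (hv : v ∈ U) : x * v * x⁻¹ ∈ U := by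
  have hl := hs.les u hu hu1
  have hvQ : v ∈ Q u := hs.orth u hu hu1 hv
  by_cases hc : x * v = v * x
  · rw [conj_eq_of_comm hc]; exact hv
  · rw [conj_eq_of_not_comm hl hx hvQ hc]
    exact U.mul_mem hu hv

theorem Sing.iSup_le_normalizer (hs : Sing Q U) :
    (⨆ u ∈ ((U : Set G) \ {1}), Q u) ≤ Subgroup.normalizer (U : Set G) := by
  refine iSup₂_le (fun u hu => ?_)
  have hu1 : u ≠ 1 := fun h => hu.2 (by rw [Set.mem_singleton_iff]; exact h)
  intro x hx
  rw [Subgroup.mem_normalizer_iff]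
  intro v
  constructor
  · intro hv
    exact hs.conj_mem hu.1 hu1 hx hv
  · intro hv
    have := hs.conj_mem hu.1 hu1 ((Q u).inv_mem hx) hv
    have e : x⁻¹ * (x * v * x⁻¹) * x⁻¹⁻¹ = v := by group
    rwa [e] at this

/-- the coordinate hyperplane `{v ∈ U | κ v j = 0}` as a subgroup of `G` -/
def cosub (U : Subgroup G) {n : ℕ} (κ : ↥U ≃ (Fin n → ZMod 2))
    (hκ : ∀ a b : ↥U, κ (a * b) = κ a + κ b) (j : Fin n) : Subgroup G where
  carrier := {g | ∃ h : g ∈ U, κ ⟨g, h⟩ j = 0}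
  mul_mem' := by
    rintro a b ⟨ha, hka⟩ ⟨hb, hkb⟩
    refine ⟨U.mul_mem ha hb, ?_⟩
    have : (⟨a * b, U.mul_mem ha hb⟩ : ↥U) = ⟨a, ha⟩ * ⟨b, hb⟩ := rfl
    rw [this, hκ, Pi.add_apply, hka, hkb, add_zero]
  one_mem' := by
    refine ⟨U.one_mem, ?_⟩
    have : (⟨1, U.one_mem⟩ : ↥U) = 1 := rfl
    rw [this, kappa_one κ hκ]
    rfl
  inv_mem' := by
    rintro a ⟨ha, hka⟩
    refine ⟨U.inv_mem ha, ?_⟩
    have h1 : (⟨a⁻¹, U.inv_mem ha⟩ : ↥U) * ⟨a, ha⟩ = 1 := by
      apply Subtype.ext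
      show a⁻¹ * a = 1
      exact inv_mul_cancel a
    have h2 := hκ ⟨a⁻¹, U.inv_mem ha⟩ ⟨a, ha⟩
    rw [h1, kappa_one κ hκ] at h2
    have h3 := congrFun h2 j
    rw [Pi.add_apply, hka, add_zero, Pi.zero_apply] at h3
    exact h3.symm

theorem mem_cosub {n : ℕ} (κ : ↥U ≃ (Fin n → ZMod 2))
    (hκ : ∀ a b : ↥U, κ (a * b) = κ a + κ b) (j : Fin n) (v : ↥U) :
    (v : G) ∈ cosub U κ hκ j ↔ κ v j = 0 := by
  constructor
  · rintro ⟨_, h⟩
    exact h
  · intro h
    exact ⟨v.2, h⟩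

variable [Finite G]

/-- In the singular setting, `L_U` induces every coordinate transvection. -/
theorem Sing.ind_transvection (hs : Sing Q U) {n : ℕ} (κ : ↥U ≃ (Fin n → ZMod 2))
    (hκ : ∀ a b : ↥U, κ (a * b) = κ a + κ b) (i j : Fin n) (hij : i ≠ j) :
    Ind U (⨆ u ∈ ((U : Set G) \ {1}), Q u) κ (Matrix.transvection i j 1) := by
  classical
  -- the centre
  set ui : ↥U := κ.symm (Pi.single i 1) with hui
  have hkui : κ ui = Pi.single i 1 := by rw [hui, Equiv.apply_symm_apply]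
  have hui1 : (ui : G) ≠ 1 := by
    intro h
    have : ui = 1 := Subtype.ext h
    rw [this, kappa_one κ hκ] at hkui
    have := congrFun hkui i
    rw [Pi.zero_apply, Pi.single_eq_same] at this
    exact zero_ne_one this
  have hl := hs.les ui ui.2 hui1
  -- the hyperplane
  set W := cosub U κ hκ j with hW
  have hWU : W ≤ U := by
    rintro g ⟨h, _⟩
    exact h
  have huiW : (ui : G) ∈ W := by
    rw [hW, mem_cosub, hkui, Pi.single_apply, if_neg (Ne.symm hij)]
  have hWne : W ≠ U := by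
    intro heq
    have : ((κ.symm (Pi.single j 1) : ↥U) : G) ∈ W := by
      rw [heq]; exact (κ.symm (Pi.single j 1)).2
    rw [hW, mem_cosub, Equiv.apply_symm_apply, Pi.single_eq_same] at this
    exact one_ne_zero this
  obtain ⟨x, hx, hxW, v₀, hv₀, hxv₀⟩ :=
    exists_separating hl W U huiW hWU (hs.orth ui ui.2 hui1) hWne
  have hkv₀ : κ ⟨v₀, hv₀⟩ j = 1 := by
    apply zmod_two_eq_one
    intro h0
    apply hxv₀
    apply hxW
    exact (mem_cosub κ hκ j ⟨v₀, hv₀⟩).2 h0
  refine ⟨x, Sing.Q_le_iSup ui.2 hui1 hx, fun v => ?_⟩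
  have htv : ∀ a : Fin n → ZMod 2,
      Matrix.transvection i j (1 : ZMod 2) *ᵥ a = a + (a j) • Pi.single i (1 : ZMod 2) := by
    intro a
    rw [Matrix.transvection, Matrix.add_mulVec, Matrix.one_mulVec, Matrix.single_mulVec_eq,
      one_mul]
  by_cases hvj : κ v j = 0
  · refine ⟨v, ?_, ?_⟩
    · have : x * (v : G) = v * x := hxW v ((mem_cosub κ hκ j v).2 hvj)
      rw [conj_eq_of_comm this]
    · rw [htv, hvj, zero_smul, add_zero]
  · have hvj1 : κ v j = 1 := zmod_two_eq_one hvj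
    have hvv₀ : ((v * ⟨v₀, hv₀⟩ : ↥U) : G) ∈ W := by
      rw [hW, mem_cosub, hκ, Pi.add_apply, hvj1, hkv₀]
      decide
    have hc1 : x * ((v : G) * v₀) = ((v : G) * v₀) * x := hxW _ hvv₀
    have hnc : x * (v : G) ≠ v * x := by
      intro hc
      apply hxv₀
      have e1 : v₀ = (v : G)⁻¹ * ((v : G) * v₀) := by group
      have hc' : x * (v : G)⁻¹ = (v : G)⁻¹ * x := by
        have : (v : G)⁻¹ * (v * x) * (v : G)⁻¹ = (v : G)⁻¹ * (x * v) * (v : G)⁻¹ := by rw [hc]
        calc x * (v : G)⁻¹ = (v : G)⁻¹ * (v * x) * (v : G)⁻¹ := by group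
          _ = (v : G)⁻¹ * (x * v) * (v : G)⁻¹ := this
          _ = (v : G)⁻¹ * x := by group
      calc x * v₀ = x * ((v : G)⁻¹ * ((v : G) * v₀)) := by rw [← e1]
        _ = (x * (v : G)⁻¹) * ((v : G) * v₀) := by rw [mul_assoc]
        _ = ((v : G)⁻¹ * x) * ((v : G) * v₀) := by rw [hc']
        _ = (v : G)⁻¹ * (x * ((v : G) * v₀)) := by rw [mul_assoc]
        _ = (v : G)⁻¹ * (((v : G) * v₀) * x) := by rw [hc1]
        _ = v₀ * x := by group
    refine ⟨ui * v, ?_, ?_⟩
    · rw [conj_eq_of_not_comm hl hx (hs.orth ui ui.2 hui1 v.2) hnc]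
      rfl
    · rw [hκ, hkui, htv, hvj1, one_smul, add_comm]

/-- **Smith**: in the singular setting `L_U` induces all of `Aut(U)` on `U`. -/
theorem Sing.exists_conj (hs : Sing Q U) (hU2 : ∀ u ∈ U, u * u = 1) (n : ℕ)
    (hcard : Nat.card ↥U = 2 ^ n) (φ : ↥U ≃* ↥U) :
    ∃ g ∈ (⨆ u ∈ ((U : Set G) \ {1}), Q u), ∀ u : ↥U, g * (u : G) * g⁻¹ = ((φ u : ↥U) : G) := by
  classical
  -- coordinates
  have hcomm : ∀ a b : ↥U, a * b = b * a := by
    intro a b
    have h1 := hU2 a a.2
    have h2 := hU2 b b.2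
    have h3 := hU2 (a * b) (U.mul_mem a.2 b.2)
    apply Subtype.ext
    show (a : G) * b = b * a
    have e1 : (a : G)⁻¹ = a := inv_eq_of_mul_eq_one_left h1
    have e2 : (b : G)⁻¹ = b := inv_eq_of_mul_eq_one_left h2
    have e3 : ((a : G) * b)⁻¹ = a * b := inv_eq_of_mul_eq_one_left h3
    rw [← e3, _root_.mul_inv_rev, e1, e2]
  haveI : Fact (Nat.Prime 2) := ⟨Nat.prime_two⟩
  let inst1 : CommGroup U :=
    { (inferInstance : Group U) with mul_comm := hcomm }
  let inst2 : Module (ZMod 2) (Additive U) := AddCommGroup.zmodModule (n := 2) (by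
    intro x
    have h1 : (Additive.toMul x) ^ 2 = 1 := by
      apply Subtype.ext
      have := hU2 _ (Additive.toMul x).2
      rw [← pow_two] at this
      simpa using this
    have h2 : Additive.ofMul ((Additive.toMul x) ^ 2) = 0 := by rw [h1]; rfl
    rw [ofMul_pow] at h2
    exact h2)
  haveI : Finite (Additive U) := inferInstanceAs (Finite U)
  have hcard' : Nat.card (Additive U) = 2 ^ n := hcard
  have hfin : Module.finrank (ZMod 2) (Additive U) = n := by
    have h1 := Module.natCard_eq_pow_finrank (K := ZMod 2) (V := Additive U)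
    rw [hcard', Nat.card_zmod] at h1
    exact (Nat.pow_right_injective (le_refl 2) h1).symm
  let b : Module.Basis (Fin n) (ZMod 2) (Additive U) :=
    Module.finBasisOfFinrankEq (ZMod 2) (Additive U) hfin
  let κ : ↥U ≃ (Fin n → ZMod 2) := Additive.ofMul.trans b.equivFun.toEquiv
  have hκ : ∀ u v : ↥U, κ (u * v) = κ u + κ v := by
    intro u v
    show b.equivFun (Additive.ofMul (u * v)) =
      b.equivFun (Additive.ofMul u) + b.equivFun (Additive.ofMul v)
    rw [ofMul_mul, map_add]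
  exact exists_conj_of_aut κ hκ (fun i j hij => hs.ind_transvection κ hκ i j hij) φ

end partC

end Cfsg.Agent.Lib.Helper63_SingularGL
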