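/-
Helper library (helper98): more tools for pairs of conjugate extraspecial subgroups
(on top of `Helper98_LESGen`).
-/
import Mathlib
import Cfsg.Agent.Lib.Helper98_LESGen
import Cfsg.Agent.Lib.Helper1_Frattini

set_option autoImplicit false

namespace Cfsg.Agent.Lib.Helper98_LESPair

open Cfsg
open Cfsg.Agent.Lib.Helper93_LES Cfsg.Agent.Lib.Helper98_LESGen
open scoped commutatorElement

variable {G : Type*} [Group G]

section general

/-- membership in a conjugate subgroup -/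
theorem mem_map_conj_iff (Q : Subgroup G) (g a : G) :
    a ∈ Q.map (MulAut.conj g).toMonoidHom ↔ g⁻¹ * a * g ∈ Q := by
  constructor
  · rintro ⟨q, hq, rfl⟩
    simp only [MulEquiv.coe_toMonoidHom, MulAut.conj_apply]
    have e : g⁻¹ * (g * q * g⁻¹) * g = q := by group
    rw [e]; exact hq
  · intro h
    refine ⟨g⁻¹ * a * g, h, ?_⟩
    simp only [MulEquiv.coe_toMonoidHom, MulAut.conj_apply]
    group

/-- a set of generators that normalize `E`, commute modulo `E` and have squares in `E`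
generates a group that is elementary abelian modulo `E` -/
theorem comm_sq_closure (E : Subgroup G) (S : Set G)
    (hN : ∀ s ∈ S, ∀ e ∈ E, s * e * s⁻¹ ∈ E ∧ s⁻¹ * e * s ∈ E)
    (hC : ∀ s ∈ S, ∀ t ∈ S, s * t * s⁻¹ * t⁻¹ ∈ E)
    (hS2 : ∀ s ∈ S, s * s ∈ E) :
    ∀ x ∈ Subgroup.closure S, ∀ y ∈ Subgroup.closure S,
      x * y * x⁻¹ * y⁻¹ ∈ E ∧ x * x ∈ E ∧ ∀ e ∈ E, x * e * x⁻¹ ∈ E := by
  -- normalization
  have stepN : ∀ x ∈ Subgroup.closure S, ∀ e ∈ E, x * e * x⁻¹ ∈ E ∧ x⁻¹ * e * x ∈ E := by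
    intro x hx
    induction hx using Subgroup.closure_induction with
    | mem s hs => exact hN s hs
    | one =>
      intro e he
      have e1 : (1 : G) * e * 1⁻¹ = e := by group
      have e2 : (1 : G)⁻¹ * e * 1 = e := by group
      rw [e1, e2]; exact ⟨he, he⟩
    | mul x y _ _ hx hy =>
      intro e he
      constructor
      · have e1 : x * y * e * (x * y)⁻¹ = x * (y * e * y⁻¹) * x⁻¹ := by group
        rw [e1]; exact (hx _ (hy e he).1).1
      · have e1 : (x * y)⁻¹ * e * (x * y) = y⁻¹ * (x⁻¹ * e * x) * y := by group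
        rw [e1]; exact (hy _ (hx e he).2).2
    | inv x _ hx =>
      intro e he
      rw [inv_inv]
      exact ⟨(hx e he).2, (hx e he).1⟩
  -- commutators with generators
  have step1 : ∀ x ∈ Subgroup.closure S, ∀ t ∈ S, x * t * x⁻¹ * t⁻¹ ∈ E := by
    intro x hx
    induction hx using Subgroup.closure_induction with
    | mem s hs => exact hC s hs
    | one =>
      intro t _
      have e1 : (1 : G) * t * 1⁻¹ * t⁻¹ = 1 := by group
      rw [e1]; exact E.one_mem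
    | mul x y hxc _ hx hy =>
      intro t ht
      have e1 : x * y * t * (x * y)⁻¹ * t⁻¹ = x * (y * t * y⁻¹ * t⁻¹) * x⁻¹ * (x * t * x⁻¹ * t⁻¹) := by
        group
      rw [e1]
      exact E.mul_mem (stepN x hxc _ (hy t ht)).1 (hx t ht)
    | inv x hxc hx =>
      intro t ht
      have e1 : x⁻¹ * t * x⁻¹⁻¹ * t⁻¹ = x⁻¹ * (x * t * x⁻¹ * t⁻¹)⁻¹ * x := by group
      rw [e1]
      exact (stepN x hxc _ (E.inv_mem (hx t ht))).2
  -- all commutators
  have step2 : ∀ y ∈ Subgroup.closure S, ∀ x ∈ Subgroup.closure S, x * y * x⁻¹ * y⁻¹ ∈ E := by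
    intro y hy
    induction hy using Subgroup.closure_induction with
    | mem t ht => exact fun x hx => step1 x hx t ht
    | one =>
      intro x _
      have e1 : x * 1 * x⁻¹ * (1 : G)⁻¹ = 1 := by group
      rw [e1]; exact E.one_mem
    | mul y₁ y₂ hy₁c _ hy₁ hy₂ =>
      intro x hx
      have e1 : x * (y₁ * y₂) * x⁻¹ * (y₁ * y₂)⁻¹ =
          (x * y₁ * x⁻¹ * y₁⁻¹) * (y₁ * (x * y₂ * x⁻¹ * y₂⁻¹) * y₁⁻¹) := by group
      rw [e1]
      exact E.mul_mem (hy₁ x hx) (stepN y₁ hy₁c _ (hy₂ x hx)).1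
    | inv y hyc hy =>
      intro x hx
      have e1 : x * y⁻¹ * x⁻¹ * y⁻¹⁻¹ = y⁻¹ * (x * y * x⁻¹ * y⁻¹)⁻¹ * y := by group
      rw [e1]
      exact (stepN y hyc _ (E.inv_mem (hy x hx))).2
  -- squares
  have step3 : ∀ x ∈ Subgroup.closure S, x * x ∈ E := by
    intro x hx
    induction hx using Subgroup.closure_induction with
    | mem s hs => exact hS2 s hs
    | one => rw [one_mul]; exact E.one_mem
    | mul x y hxc hyc hx hy =>
      have e1 : x * y * (x * y) = (x * x) * (x⁻¹ * y * x⁻¹⁻¹ * y⁻¹) * (y * y) := by group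
      rw [e1]
      exact E.mul_mem (E.mul_mem hx (step2 y hyc x⁻¹ (Subgroup.inv_mem _ hxc))) hy
    | inv x _ hx =>
      have e1 : x⁻¹ * x⁻¹ = (x * x)⁻¹ := by group
      rw [e1]; exact E.inv_mem hx
  intro x hx y hy
  exact ⟨step2 y hy x hx, step3 x hx, fun e he => (stepN x hx e he).1⟩

/-- the elements normalizing `V` and centralizing `E` modulo `V` -/
def commSub (V E : Subgroup G) : Subgroup G where
  carrier := {x | (∀ v ∈ V, x * v * x⁻¹ ∈ V) ∧ (∀ v ∈ V, x⁻¹ * v * x ∈ V) ∧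
    ∀ e ∈ E, x * e * x⁻¹ * e⁻¹ ∈ V}
  one_mem' := by
    refine ⟨fun v hv => ?_, fun v hv => ?_, fun e _ => ?_⟩
    · have e1 : (1 : G) * v * 1⁻¹ = v := by group
      rw [e1]; exact hv
    · have e1 : (1 : G)⁻¹ * v * 1 = v := by group
      rw [e1]; exact hv
    · have e1 : (1 : G) * e * 1⁻¹ * e⁻¹ = 1 := by group
      rw [e1]; exact V.one_mem
  mul_mem' := by
    rintro x y ⟨hx1, hx2, hx3⟩ ⟨hy1, hy2, hy3⟩
    refine ⟨fun v hv => ?_, fun v hv => ?_, fun e he => ?_⟩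
    · have e1 : x * y * v * (x * y)⁻¹ = x * (y * v * y⁻¹) * x⁻¹ := by group
      rw [e1]; exact hx1 _ (hy1 v hv)
    · have e1 : (x * y)⁻¹ * v * (x * y) = y⁻¹ * (x⁻¹ * v * x) * y := by group
      rw [e1]; exact hy2 _ (hx2 v hv)
    · have e1 : x * y * e * (x * y)⁻¹ * e⁻¹ = x * (y * e * y⁻¹ * e⁻¹) * x⁻¹ * (x * e * x⁻¹ * e⁻¹) := by
        group
      rw [e1]; exact V.mul_mem (hx1 _ (hy3 e he)) (hx3 e he)
  inv_mem' := by
    rintro x ⟨hx1, hx2, hx3⟩
    refine ⟨fun v hv => ?_, fun v hv => ?_, fun e he => ?_⟩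
    · rw [inv_inv]; exact hx2 v hv
    · rw [inv_inv]; exact hx1 v hv
    · have e1 : x⁻¹ * e * x⁻¹⁻¹ * e⁻¹ = x⁻¹ * (x * e * x⁻¹ * e⁻¹)⁻¹ * x := by group
      rw [e1]; exact hx2 _ (V.inv_mem (hx3 e he))

theorem mem_commSub {V E : Subgroup G} {x : G} : x ∈ commSub V E ↔
    (∀ v ∈ V, x * v * x⁻¹ ∈ V) ∧ (∀ v ∈ V, x⁻¹ * v * x ∈ V) ∧
      ∀ e ∈ E, x * e * x⁻¹ * e⁻¹ ∈ V := Iff.rfl

end general

section les

variable (Q : Subgroup G)

/-- `LES` for a prescribed generator of the centre -/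
theorem les_of (hL1 : Cfsg.IsExtraspecial 2 ↥Q)
    (hL2 : Subgroup.centralizer (Q : Set G) = (Subgroup.center ↥Q).map Q.subtype) {z : G}
    (hZ : (Subgroup.center ↥Q).map Q.subtype = Subgroup.zpowers z) (hz : orderOf z = 2) :
    LES Q z := by
  obtain ⟨z', hz'ord, hZ', hles⟩ := exists_les Q hL1 hL2
  have hz1 : z ≠ 1 := by
    intro h; rw [h, orderOf_one] at hz; omega
  have hmem : z ∈ Subgroup.zpowers z' := by
    rw [← hZ', hZ]; exact Subgroup.mem_zpowers z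
  obtain ⟨k, hk⟩ := Subgroup.mem_zpowers_iff.mp hmem
  have hz'2 : z' ^ 2 = 1 := by rw [pow_two]; exact hles.sq
  have : z = z' := by
    rcases Int.even_or_odd' k with ⟨m, rfl | rfl⟩
    · exfalso
      apply hz1
      rw [← hk, zpow_mul, zpow_ofNat, hz'2, one_zpow]
    · rw [← hk, zpow_add, zpow_mul, zpow_ofNat, hz'2, one_zpow, one_mul, zpow_one]
  rw [this]; exact hles

/-- squares in an extraspecial 2-group -/
theorem sq_cases [Finite G] (hL1 : Cfsg.IsExtraspecial 2 ↥Q) {z : G} (hles : LES Q z)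
    (hZ : (Subgroup.center ↥Q).map Q.subtype = Subgroup.zpowers z) {a : G} (ha : a ∈ Q) :
    a * a = 1 ∨ a * a = z := by
  obtain ⟨⟨hp, hfr, _⟩, _⟩ := hL1
  have : Fact (Nat.Prime 2) := ⟨Nat.prime_two⟩
  have h1 := Cfsg.Agent.Lib.Helper1_Frattini.pow_mem_frattini_of_isPGroup (p := 2) hp
    (⟨a, ha⟩ : ↥Q)
  rw [hfr] at h1
  have h2 : a * a ∈ (Subgroup.center ↥Q).map Q.subtype := ⟨_, h1, by simp [pow_two]⟩
  rw [hZ] at h2
  obtain ⟨k, hk⟩ := Subgroup.mem_zpowers_iff.mp h2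
  have hz2 : z ^ 2 = 1 := by rw [pow_two]; exact hles.sq
  rcases Int.even_or_odd' k with ⟨m, rfl | rfl⟩
  · left
    rw [← hk, zpow_mul, zpow_ofNat, hz2, one_zpow]
  · right
    rw [← hk, zpow_add, zpow_mul, zpow_ofNat, hz2, one_zpow, one_mul, zpow_one]

end les

section transport

variable (Q : Subgroup G) (φ : G ≃* G)

/-- `LES` is transported by automorphisms -/
theorem les_map {z : G} (h : LES Q z) : LES (Q.map φ.toMonoidHom) (φ z) where
  ne_one := by
    intro h1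
    apply h.ne_one
    apply φ.injective
    rw [h1, map_one]
  sq := by rw [← map_mul, h.sq, map_one]
  mem := Subgroup.mem_map_of_mem _ h.mem
  central := by
    rintro _ ⟨a, ha, rfl⟩
    simp only [MulEquiv.coe_toMonoidHom]
    rw [← map_mul, h.central a ha, map_mul]
  comm := by
    rintro _ ⟨a, ha, rfl⟩ _ ⟨b, hb, rfl⟩
    simp only [MulEquiv.coe_toMonoidHom]
    have e : φ a * φ b * (φ a)⁻¹ * (φ b)⁻¹ = φ (a * b * a⁻¹ * b⁻¹) := by
      simp only [map_mul, map_inv]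
    rw [e]
    rcases h.comm a ha b hb with h1 | h1
    · left; rw [h1, map_one]
    · right; rw [h1]
  selfcent := by
    intro c hc
    have hc' : ∀ b ∈ Q, φ.symm c * b = b * φ.symm c := by
      intro b hb
      apply φ.injective
      rw [map_mul, map_mul, φ.apply_symm_apply]
      exact hc (φ b) (Subgroup.mem_map_of_mem _ hb)
    rcases h.selfcent _ hc' with h1 | h1
    · left
      have := congrArg φ h1
      rwa [φ.apply_symm_apply, map_one] at this
    · right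
      have := congrArg φ h1
      rwa [φ.apply_symm_apply] at this

/-- the normalization property is transported by automorphisms -/
theorem norm_map {z : G} (hn : ∀ c : G, c * z = z * c → ∀ q ∈ Q, c * q * c⁻¹ ∈ Q) :
    ∀ c : G, c * φ z = φ z * c → ∀ q ∈ Q.map φ.toMonoidHom, c * q * c⁻¹ ∈ Q.map φ.toMonoidHom := by
  rintro c hc _ ⟨q, hq, rfl⟩
  have hc' : φ.symm c * z = z * φ.symm c := by
    apply φ.injective
    rw [map_mul, map_mul, φ.apply_symm_apply]
    exact hc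
  refine ⟨φ.symm c * q * (φ.symm c)⁻¹, hn _ hc' q hq, ?_⟩
  simp only [MulEquiv.coe_toMonoidHom, map_mul, map_inv, φ.apply_symm_apply]

/-- the squaring property is transported by automorphisms -/
theorem sq_map {z : G} (hs : ∀ a ∈ Q, a * a = 1 ∨ a * a = z) :
    ∀ a ∈ Q.map φ.toMonoidHom, a * a = 1 ∨ a * a = φ z := by
  rintro _ ⟨a, ha, rfl⟩
  simp only [MulEquiv.coe_toMonoidHom]
  rw [← map_mul]
  rcases hs a ha with h | h
  · left; rw [h, map_one]
  · right; rw [h]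

end transport

section closure

/-- an element conjugating the generators into the closure conjugates the closure into itself -/
theorem conj_mem_closure {S : Set G} {x : G} (h : ∀ s ∈ S, x * s * x⁻¹ ∈ Subgroup.closure S) :
    ∀ v ∈ Subgroup.closure S, x * v * x⁻¹ ∈ Subgroup.closure S := by
  intro v hv
  induction hv using Subgroup.closure_induction with
  | mem s hs => exact h s hs
  | one =>
    have e1 : x * 1 * x⁻¹ = 1 := by group
    rw [e1]; exact Subgroup.one_mem _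
  | mul a b _ _ ha hb =>
    have e1 : x * (a * b) * x⁻¹ = (x * a * x⁻¹) * (x * b * x⁻¹) := by group
    rw [e1]; exact Subgroup.mul_mem _ ha hb
  | inv a _ ha =>
    have e1 : x * a⁻¹ * x⁻¹ = (x * a * x⁻¹)⁻¹ := by group
    rw [e1]; exact Subgroup.inv_mem _ ha

/-- the elements of a four-group -/
theorem four_cases' {z u : G} (hz : z * z = 1) (hu : u * u = 1) (hzu : z * u = u * z) {v : G}
    (hv : v ∈ Subgroup.closure ({z, u} : Set G)) : v = 1 ∨ v = z ∨ v = u ∨ v = z * u := by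
  have hzinv : z⁻¹ = z := inv_eq_iff_mul_eq_one.mpr hz
  have huinv : u⁻¹ = u := inv_eq_iff_mul_eq_one.mpr hu
  induction hv using Subgroup.closure_induction with
  | mem x hx =>
    rcases hx with rfl | rfl
    · exact Or.inr (Or.inl rfl)
    · exact Or.inr (Or.inr (Or.inl rfl))
  | one => exact Or.inl rfl
  | mul x y _ _ hx hy =>
    rcases hx with rfl | rfl | rfl | rfl
    · rw [one_mul]; exact hy
    · rcases hy with rfl | rfl | rfl | rfl
      · rw [mul_one]; exact Or.inr (Or.inl rfl)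
      · rw [hz]; exact Or.inl rfl
      · exact Or.inr (Or.inr (Or.inr rfl))
      · rw [← mul_assoc, hz, one_mul]; exact Or.inr (Or.inr (Or.inl rfl))
    · rcases hy with rfl | rfl | rfl | rfl
      · rw [mul_one]; exact Or.inr (Or.inr (Or.inl rfl))
      · rw [← hzu]; exact Or.inr (Or.inr (Or.inr rfl))
      · rw [hu]; exact Or.inl rfl
      · rw [hzu, ← mul_assoc, hu, one_mul]; exact Or.inr (Or.inl rfl)
    · rcases hy with rfl | rfl | rfl | rfl
      · rw [mul_one]; exact Or.inr (Or.inr (Or.inr rfl))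
      · rw [hzu, mul_assoc, hz, mul_one]; exact Or.inr (Or.inr (Or.inl rfl))
      · rw [mul_assoc, hu, mul_one]; exact Or.inr (Or.inl rfl)
      · left
        calc z * u * (z * u) = z * (u * z) * u := by group
          _ = z * (z * u) * u := by rw [hzu]
          _ = (z * z) * (u * u) := by group
          _ = 1 := by rw [hz, hu, one_mul]
  | inv x _ hx =>
    rcases hx with rfl | rfl | rfl | rfl
    · rw [inv_one]; exact Or.inl rfl
    · rw [hzinv]; exact Or.inr (Or.inl rfl)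
    · rw [huinv]; exact Or.inr (Or.inr (Or.inl rfl))
    · rw [mul_inv_rev, hzinv, huinv, ← hzu]; exact Or.inr (Or.inr (Or.inr rfl))

end closure

/-- membership in the image of the centre -/
theorem mem_center_map {R : Subgroup G} {c : G} :
    c ∈ (Subgroup.center ↥R).map R.subtype ↔ c ∈ R ∧ ∀ r ∈ R, r * c = c * r := by
  constructor
  · rintro ⟨c', hc', rfl⟩
    refine ⟨c'.2, fun r hr => ?_⟩
    have hc'' : c' ∈ Subgroup.center ↥R := hc'
    rw [Subgroup.mem_center_iff] at hc''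
    have := hc'' ⟨r, hr⟩
    exact congrArg Subtype.val this
  · rintro ⟨hc, h⟩
    have hcen : (⟨c, hc⟩ : ↥R) ∈ Subgroup.center ↥R := by
      rw [Subgroup.mem_center_iff]
      intro r
      exact Subtype.ext (h r.1 r.2)
    exact ⟨⟨c, hc⟩, hcen, rfl⟩


/-- membership in the centralizer of an element -/
theorem mem_cs {z a : G} : a ∈ Subgroup.centralizer ({z} : Set G) ↔ z * a = a * z := by
  rw [Subgroup.mem_centralizer_iff]
  constructor
  · intro h; exact h z (Set.mem_singleton z)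
  · intro h w hw
    rw [Set.mem_singleton_iff] at hw
    rw [hw]; exact h

section pair

/-- two subgroups of `LES` type, each containing the central involution of the other -/
structure Pair (Q1 Q2 : Subgroup G) (z1 z2 : G) : Prop where
  l1 : LES Q1 z1
  l2 : LES Q2 z2
  n1 : ∀ c : G, c * z1 = z1 * c → ∀ q ∈ Q1, c * q * c⁻¹ ∈ Q1
  n2 : ∀ c : G, c * z2 = z2 * c → ∀ q ∈ Q2, c * q * c⁻¹ ∈ Q2
  s1 : ∀ a ∈ Q1, a * a = 1 ∨ a * a = z1
  s2 : ∀ a ∈ Q2, a * a = 1 ∨ a * a = z2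
  m12 : z1 ∈ Q2
  m21 : z2 ∈ Q1
  ne : z1 ≠ z2

variable {Q1 Q2 : Subgroup G} {z1 z2 : G}

theorem Pair.symm (h : Pair Q1 Q2 z1 z2) : Pair Q2 Q1 z2 z1 :=
  ⟨h.l2, h.l1, h.n2, h.n1, h.s2, h.s1, h.m21, h.m12, h.ne.symm⟩

theorem Pair.comm12 (h : Pair Q1 Q2 z1 z2) : z1 * z2 = z2 * z1 := h.l2.central z1 h.m12

theorem Pair.z1_mem_E (h : Pair Q1 Q2 z1 z2) : z1 ∈ Q1 ⊓ Q2 := ⟨h.l1.mem, h.m12⟩

theorem Pair.z2_mem_E (h : Pair Q1 Q2 z1 z2) : z2 ∈ Q1 ⊓ Q2 := ⟨h.m21, h.l2.mem⟩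

theorem Pair.Q1_le_cent (h : Pair Q1 Q2 z1 z2) : Q1 ≤ Subgroup.centralizer ({z1} : Set G) := by
  intro a ha
  rw [mem_cs]
  exact (h.l1.central a ha).symm

/-- (f): the two generating subgroups of `R` meet in `E` -/
theorem Pair.inf_eq (h : Pair Q1 Q2 z1 z2) :
    (Q2 ⊓ Subgroup.centralizer ({z1} : Set G)) ⊓ (Q1 ⊓ Subgroup.centralizer ({z2} : Set G)) =
      Q1 ⊓ Q2 := by
  apply le_antisymm
  · rintro a ⟨⟨ha2, _⟩, ⟨ha1, _⟩⟩
    exact ⟨ha1, ha2⟩
  · rintro a ⟨ha1, ha2⟩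
    exact ⟨⟨ha2, h.Q1_le_cent ha1⟩, ⟨ha1, h.symm.Q1_le_cent ha2⟩⟩

/-- (d): `E` is elementary abelian -/
theorem Pair.elem_abelian (h : Pair Q1 Q2 z1 z2) :
    Cfsg.IsElementaryAbelian 2 (Q1 ⊓ Q2) := by
  constructor
  · rw [isMulCommutative_iff]
    rintro ⟨a, ha1, ha2⟩ ⟨b, hb1, hb2⟩
    apply Subtype.ext
    change a * b = b * a
    have hc : a * b * a⁻¹ * b⁻¹ = 1 := by
      rcases h.l1.comm a ha1 b hb1 with h1 | h1
      · exact h1
      · rcases h.l2.comm a ha2 b hb2 with h2 | h2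
        · exact h2
        · exact absurd (h1.symm.trans h2) h.ne
    calc a * b = (a * b * a⁻¹ * b⁻¹) * b * a := by group
      _ = b * a := by rw [hc, one_mul]
  · rintro a ⟨ha1, ha2⟩
    rw [pow_two]
    rcases h.s1 a ha1 with h1 | h1
    · exact h1
    · rcases h.s2 a ha2 with h2 | h2
      · exact h2
      · exact absurd (h1.symm.trans h2) h.ne

/-- the first generating subgroup of `R` normalizes `E` -/
theorem Pair.normA (h : Pair Q1 Q2 z1 z2) :
    ∀ a ∈ Q2 ⊓ Subgroup.centralizer ({z1} : Set G), ∀ e ∈ Q1 ⊓ Q2, a * e * a⁻¹ ∈ Q1 ⊓ Q2 := by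
  intro a ha e he
  obtain ⟨ha2, haz⟩ := Subgroup.mem_inf.mp ha
  obtain ⟨he1, he2⟩ := Subgroup.mem_inf.mp he
  rw [mem_cs] at haz
  exact Subgroup.mem_inf.mpr ⟨h.n1 a haz.symm e he1, Q2.mul_mem (Q2.mul_mem ha2 he2) (Q2.inv_mem ha2)⟩

theorem Pair.commAA (h : Pair Q1 Q2 z1 z2) :
    ∀ s ∈ Q2 ⊓ Subgroup.centralizer ({z1} : Set G), ∀ t ∈ Q2 ⊓ Subgroup.centralizer ({z1} : Set G),
      s * t * s⁻¹ * t⁻¹ ∈ Q1 ⊓ Q2 := by
  rintro s ⟨hs2, _⟩ t ⟨ht2, _⟩
  rcases h.l2.comm s hs2 t ht2 with h1 | h1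
  · rw [h1]; exact Subgroup.one_mem _
  · rw [h1]; exact h.z2_mem_E

theorem Pair.commAD (h : Pair Q1 Q2 z1 z2) :
    ∀ s ∈ Q2 ⊓ Subgroup.centralizer ({z1} : Set G), ∀ t ∈ Q1 ⊓ Subgroup.centralizer ({z2} : Set G),
      s * t * s⁻¹ * t⁻¹ ∈ Q1 ⊓ Q2 := by
  intro s hs t ht
  obtain ⟨hs2, hsz⟩ := Subgroup.mem_inf.mp hs
  obtain ⟨ht1, htz⟩ := Subgroup.mem_inf.mp ht
  rw [mem_cs] at hsz htz
  apply Subgroup.mem_inf.mpr
  constructor
  · exact Q1.mul_mem (h.n1 s hsz.symm t ht1) (Q1.inv_mem ht1)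
  · have e1 : s * t * s⁻¹ * t⁻¹ = s * (t * s⁻¹ * t⁻¹) := by group
    rw [e1]
    exact Q2.mul_mem hs2 (h.n2 t htz.symm s⁻¹ (Q2.inv_mem hs2))

theorem Pair.sqA (h : Pair Q1 Q2 z1 z2) :
    ∀ s ∈ Q2 ⊓ Subgroup.centralizer ({z1} : Set G), s * s ∈ Q1 ⊓ Q2 := by
  rintro s ⟨hs2, _⟩
  rcases h.s2 s hs2 with h1 | h1
  · rw [h1]; exact Subgroup.one_mem _
  · rw [h1]; exact h.z2_mem_E

/-- (e): `R / E` is elementary abelian -/
theorem Pair.comm_sq (h : Pair Q1 Q2 z1 z2) :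
    ∀ x ∈ (Q2 ⊓ Subgroup.centralizer ({z1} : Set G)) ⊔ (Q1 ⊓ Subgroup.centralizer ({z2} : Set G)),
    ∀ y ∈ (Q2 ⊓ Subgroup.centralizer ({z1} : Set G)) ⊔ (Q1 ⊓ Subgroup.centralizer ({z2} : Set G)),
      x * y * x⁻¹ * y⁻¹ ∈ Q1 ⊓ Q2 ∧ x * x ∈ Q1 ⊓ Q2 := by
  have hcl : (Q2 ⊓ Subgroup.centralizer ({z1} : Set G)) ⊔ (Q1 ⊓ Subgroup.centralizer ({z2} : Set G)) =
      Subgroup.closure (((Q2 ⊓ Subgroup.centralizer ({z1} : Set G) : Subgroup G) : Set G) ∪
        ((Q1 ⊓ Subgroup.centralizer ({z2} : Set G) : Subgroup G) : Set G)) := by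
    rw [Subgroup.closure_union, Subgroup.closure_eq, Subgroup.closure_eq]
  rw [hcl]
  have hsw : ∀ e : G, e ∈ Q2 ⊓ Q1 ↔ e ∈ Q1 ⊓ Q2 := fun e => by rw [inf_comm]
  have key := comm_sq_closure (Q1 ⊓ Q2)
    (((Q2 ⊓ Subgroup.centralizer ({z1} : Set G) : Subgroup G) : Set G) ∪
        ((Q1 ⊓ Subgroup.centralizer ({z2} : Set G) : Subgroup G) : Set G)) ?_ ?_ ?_
  · intro x hx y hy
    exact ⟨(key x hx y hy).1, (key x hx y hy).2.1⟩
  · rintro s (hs | hs) e he
    · refine ⟨h.normA s hs e he, ?_⟩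
      have := h.normA s⁻¹ (Subgroup.inv_mem _ hs) e he
      rwa [inv_inv] at this
    · refine ⟨(hsw _).mp (h.symm.normA s hs e ((hsw _).mpr he)), ?_⟩
      have := h.symm.normA s⁻¹ (Subgroup.inv_mem _ hs) e ((hsw _).mpr he)
      rw [inv_inv] at this
      exact (hsw _).mp this
  · rintro s (hs | hs) t (ht | ht)
    · exact h.commAA s hs t ht
    · exact h.commAD s hs t ht
    · exact (hsw _).mp (h.symm.commAD s hs t ht)
    · exact (hsw _).mp (h.symm.commAA s hs t ht)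
  · rintro s (hs | hs)
    · exact h.sqA s hs
    · exact (hsw _).mp (h.symm.sqA s hs)

/-- `Q1` acts trivially on `E` modulo `V` -/
theorem Pair.le_commSub (h : Pair Q1 Q2 z1 z2) :
    Q1 ≤ commSub (Subgroup.closure ({z1, z2} : Set G)) (Q1 ⊓ Q2) := by
  have hconj : ∀ x ∈ Q1, ∀ v ∈ Subgroup.closure ({z1, z2} : Set G),
      x * v * x⁻¹ ∈ Subgroup.closure ({z1, z2} : Set G) := by
    intro x hx
    apply conj_mem_closure
    rintro s (rfl | rfl)
    · have e1 : x * s * x⁻¹ = s := by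
        rw [h.l1.central x hx]; group
      rw [e1]
      exact Subgroup.subset_closure (Set.mem_insert _ _)
    · have hs : s ∈ Subgroup.closure ({z1, s} : Set G) :=
        Subgroup.subset_closure (Set.mem_insert_of_mem _ (Set.mem_singleton _))
      have e1 : x * s * x⁻¹ = (x * s * x⁻¹ * s⁻¹) * s := by group
      rw [e1]
      rcases h.l1.comm x hx s h.m21 with h1 | h1
      · rw [h1, one_mul]; exact hs
      · rw [h1]
        exact Subgroup.mul_mem _ (Subgroup.subset_closure (Set.mem_insert _ _)) hs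
  intro x hx
  rw [mem_commSub]
  refine ⟨hconj x hx, ?_, ?_⟩
  · intro v hv
    have := hconj x⁻¹ (Q1.inv_mem hx) v hv
    rwa [inv_inv] at this
  · rintro e ⟨he1, _⟩
    rcases h.l1.comm x hx e he1 with h1 | h1
    · rw [h1]; exact Subgroup.one_mem _
    · rw [h1]; exact Subgroup.subset_closure (Set.mem_insert _ _)

/-- `X` acts trivially on `E` modulo `V` -/
theorem Pair.sup_le_commSub (h : Pair Q1 Q2 z1 z2) :
    Q1 ⊔ Q2 ≤ commSub (Subgroup.closure ({z1, z2} : Set G)) (Q1 ⊓ Q2) := by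
  apply sup_le h.le_commSub
  have := h.symm.le_commSub
  rwa [Set.pair_comm, inf_comm] at this

/-- (g): `[X, E] ≤ V` -/
theorem Pair.commutator_le (h : Pair Q1 Q2 z1 z2) :
    ⁅Q1 ⊔ Q2, Q1 ⊓ Q2⁆ ≤ Subgroup.closure ({z1, z2} : Set G) := by
  rw [Subgroup.commutator_le]
  intro x hx e he
  rw [commutatorElement_def]
  exact ((mem_commSub.mp (h.sup_le_commSub hx)).2.2) e he

theorem Pair.R_le_X (_h : Pair Q1 Q2 z1 z2) :
    (Q2 ⊓ Subgroup.centralizer ({z1} : Set G)) ⊔ (Q1 ⊓ Subgroup.centralizer ({z2} : Set G)) ≤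
      Q1 ⊔ Q2 :=
  sup_le (inf_le_left.trans le_sup_right) (inf_le_left.trans le_sup_left)

theorem Pair.E_le_R (h : Pair Q1 Q2 z1 z2) :
    Q1 ⊓ Q2 ≤
      (Q2 ⊓ Subgroup.centralizer ({z1} : Set G)) ⊔ (Q1 ⊓ Subgroup.centralizer ({z2} : Set G)) := by
  intro e he
  exact (le_sup_left : Q2 ⊓ Subgroup.centralizer ({z1} : Set G) ≤ _) ⟨he.2, h.Q1_le_cent he.1⟩

theorem Pair.R_le_cent (h : Pair Q1 Q2 z1 z2) :
    (Q2 ⊓ Subgroup.centralizer ({z1} : Set G)) ⊔ (Q1 ⊓ Subgroup.centralizer ({z2} : Set G)) ≤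
      Subgroup.centralizer ({z1} : Set G) :=
  sup_le inf_le_right (inf_le_left.trans h.Q1_le_cent)

/-- (a): the centre of `R` is `V` -/
theorem Pair.center_eq (h : Pair Q1 Q2 z1 z2) (R : Subgroup G)
    (hR : R = (Q2 ⊓ Subgroup.centralizer ({z1} : Set G)) ⊔
      (Q1 ⊓ Subgroup.centralizer ({z2} : Set G))) :
    (Subgroup.center ↥R).map R.subtype = Subgroup.closure ({z1, z2} : Set G) := by
  have hz1R : z1 ∈ R := by
    rw [hR]; exact h.E_le_R h.z1_mem_E
  have hz2R : z2 ∈ R := by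
    rw [hR]; exact h.E_le_R h.z2_mem_E
  have hR1 : ∀ r ∈ R, r * z1 = z1 * r := by
    intro r hr
    rw [hR] at hr
    exact (mem_cs.mp (h.R_le_cent hr)).symm
  have hR2 : ∀ r ∈ R, r * z2 = z2 * r := by
    intro r hr
    rw [hR, sup_comm] at hr
    exact (mem_cs.mp (h.symm.R_le_cent hr)).symm
  apply le_antisymm
  · intro c hc
    rw [mem_center_map] at hc
    obtain ⟨hcR, hc⟩ := hc
    by_cases hc1 : c = 1
    · rw [hc1]; exact Subgroup.one_mem _
    · have hz21 : z2 ≠ 1 := h.l2.ne_one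
      have := fixed_class Q1 h.l1 h.n1 h.m21 hz21 h.ne.symm h.l2.sq hc1
        (fun r hr hrz => hc r (by
          rw [hR]
          exact (le_sup_right : Q1 ⊓ Subgroup.centralizer ({z2} : Set G) ≤ _)
            ⟨hr, mem_cs.mpr hrz.symm⟩))
      have m1 : z1 ∈ Subgroup.closure ({z1, z2} : Set G) :=
        Subgroup.subset_closure (Set.mem_insert _ _)
      have m2 : z2 ∈ Subgroup.closure ({z1, z2} : Set G) :=
        Subgroup.subset_closure (Set.mem_insert_of_mem _ (Set.mem_singleton _))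
      rcases this with rfl | rfl | rfl
      · exact m1
      · exact m2
      · exact Subgroup.mul_mem _ m2 m1
  · rw [Subgroup.closure_le]
    rintro v (rfl | rfl)
    · exact mem_center_map.mpr ⟨hz1R, hR1⟩
    · exact mem_center_map.mpr ⟨hz2R, hR2⟩

/-- (b): `E` lies in the second centre of `R` -/
theorem Pair.E_le_Z2 (h : Pair Q1 Q2 z1 z2) (R : Subgroup G)
    (hR : R = (Q2 ⊓ Subgroup.centralizer ({z1} : Set G)) ⊔
      (Q1 ⊓ Subgroup.centralizer ({z2} : Set G))) :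
    Q1 ⊓ Q2 ≤ (Subgroup.upperCentralSeries ↥R 2).map R.subtype := by
  intro e he
  have heR : e ∈ R := by rw [hR]; exact h.E_le_R he
  refine ⟨⟨e, heR⟩, ?_, rfl⟩
  have : (⟨e, heR⟩ : ↥R) ∈ Subgroup.upperCentralSeries ↥R (1 + 1) := by
    rw [Subgroup.mem_upperCentralSeries_succ_iff]
    intro y
    rw [Subgroup.upperCentralSeries_one]
    have hyX : (y : G) ∈ Q1 ⊔ Q2 := h.R_le_X (hR.le y.2)
    have h1 : (y : G) * e * (y : G)⁻¹ * e⁻¹ ∈ Subgroup.closure ({z1, z2} : Set G) :=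
      ((mem_commSub.mp (h.sup_le_commSub hyX)).2.2) e he
    have h2 : e * (y : G) * e⁻¹ * (y : G)⁻¹ ∈ Subgroup.closure ({z1, z2} : Set G) := by
      have e1 : e * (y : G) * e⁻¹ * (y : G)⁻¹ = ((y : G) * e * (y : G)⁻¹ * e⁻¹)⁻¹ := by group
      rw [e1]; exact Subgroup.inv_mem _ h1
    rw [← h.center_eq R hR] at h2
    obtain ⟨c, hc, hce⟩ := h2
    have : c = ⁅(⟨e, heR⟩ : ↥R), y⁆ := by
      apply Subtype.ext
      rw [commutatorElement_def]
      exact hce
    rw [← this]; exact hc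
  exact this

/-- (c): `R` has class at most three -/
theorem Pair.Z3_top (h : Pair Q1 Q2 z1 z2) (R : Subgroup G)
    (hR : R = (Q2 ⊓ Subgroup.centralizer ({z1} : Set G)) ⊔
      (Q1 ⊓ Subgroup.centralizer ({z2} : Set G))) :
    Subgroup.upperCentralSeries ↥R 3 = ⊤ := by
  rw [eq_top_iff]
  intro x _
  have : x ∈ Subgroup.upperCentralSeries ↥R (2 + 1) := by
    rw [Subgroup.mem_upperCentralSeries_succ_iff]
    intro y
    have hx := hR.le x.2
    have hy := hR.le y.2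
    have h1 := (h.comm_sq x.1 hx y.1 hy).1
    obtain ⟨c, hc, hce⟩ := h.E_le_Z2 R hR h1
    have : c = ⁅x, y⁆ := by
      apply Subtype.ext
      rw [commutatorElement_def]
      exact hce
    rw [← this]; exact hc
  exact this

end pair

end Cfsg.Agent.Lib.Helper98_LESPair
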