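/-
Helper library (helper63): large extraspecial subgroups in `C_G(t)/⟨t⟩`
(Aschbacher, Sporadic Groups, ch. 8): for a pair `Q, Q^g` of `LES` type and an involution
`t ∈ Q ∩ Q^g` not conjugate to `z`, the image of `C_Q(t)` in `C_G(t)/⟨t⟩`.
-/
import Cfsg.Prelude.Def_MonsterType
import Cfsg.Agent.Lib.Helper63_QuotInv
import Cfsg.Agent.Lib.Helper98_LESPair
import Cfsg.Agent.Lib.Helper98_LESGen
import Cfsg.Agent.Lib.Helper63_SingularGL
import Cfsg.Agent.Lib.Helper48_Generation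
import Cfsg.Agent.Lib.Helper89_SympBasics
import Cfsg.Agent.Lib.Helper63_Heisenberg

set_option autoImplicit false
set_option linter.unusedSectionVars false
set_option linter.style.haveILetI false

namespace Cfsg.Agent.Lib.Helper63_LESQuot

open Cfsg
open Cfsg.Agent.Lib.Helper93_LES Cfsg.Agent.Lib.Helper98_LESPair Cfsg.Agent.Lib.Helper63_QuotInv
open Cfsg.Agent.Lib.Helper63_SingularGL

variable {G : Type*} [Group G]

/-- the context: a pair `Q, Qs` of `LES` type and an involution `t` in both, not conjugate to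
the central involutions -/
structure Ctx (Q Qs : Subgroup G) (z s t : G) : Prop where
  pair : Pair Q Qs z s
  p2 : IsPGroup 2 Q
  p2s : IsPGroup 2 Qs
  tQ : t ∈ Q
  tQs : t ∈ Qs
  tt : t * t = 1
  t1 : t ≠ 1
  nz : ∀ d : G, d * z * d⁻¹ ≠ t * z
  ns : ∀ d : G, d * s * d⁻¹ ≠ t * s
  tz : t ≠ z
  ts : t ≠ s
  stz : s ≠ t * z
  zts : z ≠ t * s

variable {Q Qs : Subgroup G} {z s t : G}

theorem Ctx.tz_comm (h : Ctx Q Qs z s t) : t * z = z * t := h.pair.l1.central t h.tQ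

theorem Ctx.ts_comm (h : Ctx Q Qs z s t) : t * s = s * t := h.pair.l2.central t h.tQs

theorem Ctx.zs_comm (h : Ctx Q Qs z s t) : z * s = s * z := h.pair.comm12

theorem Ctx.exists_q (h : Ctx Q Qs z s t) :
    ∃ q ∈ Q, q * t = t * q ∧ q * s * q⁻¹ = z * s := by
  by_contra hcon
  push Not at hcon
  have hall : ∀ r ∈ Q, r * t = t * r → r * s = s * r := by
    intro r hr hrt
    by_contra hne
    exact hcon r hr hrt (conj_eq_of_not_comm h.pair.l1 hr h.pair.m21 hne)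
  rcases Helper98_LESGen.fixed_class Q h.pair.l1 h.pair.n1 h.tQ h.t1 h.tz h.tt
    h.pair.l2.ne_one hall with h1 | h1 | h1
  · exact h.pair.ne h1.symm
  · exact h.ts h1.symm
  · exact h.stz h1

theorem Ctx.exists_r (h : Ctx Q Qs z s t) :
    ∃ r ∈ Qs, r * t = t * r ∧ r * z * r⁻¹ = s * z := by
  by_contra hcon
  push Not at hcon
  have hall : ∀ r ∈ Qs, r * t = t * r → r * z = z * r := by
    intro r hr hrt
    by_contra hne
    exact hcon r hr hrt (conj_eq_of_not_comm h.pair.l2 hr h.pair.m12 hne)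
  rcases Helper98_LESGen.fixed_class Qs h.pair.l2 h.pair.n2 h.tQs h.t1 h.ts h.tt
    h.pair.l1.ne_one hall with h1 | h1 | h1
  · exact h.pair.ne h1
  · exact h.tz h1.symm
  · exact h.zts h1

/-- `s` is conjugate to `z` inside `⟨C_Q(t), C_{Qs}(t)⟩` -/
theorem Ctx.conj_to_z (h : Ctx Q Qs z s t) :
    ∃ x ∈ (Q ⊓ Subgroup.centralizer ({t} : Set G)) ⊔ (Qs ⊓ Subgroup.centralizer ({t} : Set G)),
      x * s * x⁻¹ = z := by
  obtain ⟨q, hq, hqt, hqs⟩ := h.exists_q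
  obtain ⟨r, hr, hrt, hrz⟩ := h.exists_r
  refine ⟨r * q, ?_, ?_⟩
  · apply Subgroup.mul_mem
    · exact Subgroup.mem_sup_right ⟨hr, mem_ct.2 hrt⟩
    · exact Subgroup.mem_sup_left ⟨hq, mem_ct.2 hqt⟩
  · have hrs : r * s * r⁻¹ = s := by
      rw [h.pair.l2.central r hr, mul_assoc, mul_inv_cancel, mul_one]
    calc r * q * s * (r * q)⁻¹ = r * (q * s * q⁻¹) * r⁻¹ := by group
      _ = (r * z * r⁻¹) * (r * s * r⁻¹) := by rw [hqs]; group
      _ = s * z * s := by rw [hrz, hrs]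
      _ = z * (s * s) := by rw [← h.zs_comm]; group
      _ = z := by rw [h.pair.l2.sq, mul_one]

/-! ### a criterion for extraspecial 2-groups -/

theorem isExtraspecial_two_of {R : Type*} [Group R] [Finite R] (hR : IsPGroup 2 R) (ζ : R)
    (hζ1 : ζ ≠ 1) (hζ2 : ζ * ζ = 1)
    (hcen : ∀ x : R, (∀ y, x * y = y * x) → x = 1 ∨ x = ζ)
    (hζc : ∀ y, ζ * y = y * ζ)
    (hsq : ∀ x : R, x * x = 1 ∨ x * x = ζ)
    (hcomm : ∀ x y : R, x * y * x⁻¹ * y⁻¹ = 1 ∨ x * y * x⁻¹ * y⁻¹ = ζ)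
    (hna : ∃ x y : R, x * y ≠ y * x) : IsExtraspecial 2 R := by
  haveI : Fact (Nat.Prime 2) := ⟨Nat.prime_two⟩
  have hmem : ∀ x : R, x ∈ Subgroup.zpowers ζ ↔ x = 1 ∨ x = ζ := fun x => mem_zpowers_inv hζ2
  have hcard : Nat.card (Subgroup.zpowers ζ) = 2 := by
    rw [Nat.card_zpowers]
    exact orderOf_eq_prime (by rw [pow_two]; exact hζ2) hζ1
  have htop : IsExtraspecial 2 ↥(⊤ : Subgroup R) := by
    apply Cfsg.Agent.Lib.Helper89_SympBasics.isExtraspecial_of hR ⊤ (Subgroup.zpowers ζ) le_top hcard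
    · intro x _ hx
      rw [hmem]
      exact hcen x (fun y => hx y (Subgroup.mem_top y))
    · intro c hc y _
      rw [hmem] at hc
      rcases hc with rfl | rfl
      · rw [one_mul, mul_one]
      · exact hζc y
    · intro x _
      rw [hmem, pow_two]
      exact hsq x
    · intro x _ y _
      rw [hmem]
      exact hcomm x y
    · obtain ⟨x, y, hxy⟩ := hna
      exact ⟨x, Subgroup.mem_top x, y, Subgroup.mem_top y, hxy⟩
  exact Cfsg.Agent.Lib.Helper63_Heisenberg.isExtraspecial_of_mulEquiv Subgroup.topEquiv htop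

/-- an element of 2-power order in a subgroup of odd order is trivial -/
theorem eq_one_of_two_pow_of_odd {H : Type*} [Group H] {K : Subgroup H} [Finite K]
    (hK : Odd (Nat.card K)) {u : H} (hu : u ∈ K) {n : ℕ} (hn : u ^ 2 ^ n = 1) : u = 1 := by
  have h1 : orderOf u ∣ 2 ^ n := orderOf_dvd_of_pow_eq_one hn
  have h2 : orderOf u ∣ Nat.card K := Subgroup.orderOf_dvd_natCard K hu
  have hcop : Nat.Coprime (2 ^ n) (Nat.card K) := by
    apply Nat.Coprime.pow_left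
    rw [Nat.coprime_two_left]
    exact hK
  have h3 : orderOf u ∣ 1 := by
    rw [← hcop]
    exact Nat.dvd_gcd h1 h2
  exact orderOf_eq_one_iff.1 (Nat.dvd_one.1 h3)

/-! ### the quotient `C_G(t)/⟨t⟩` -/

section quot

variable [hn : ((Subgroup.zpowers t).subgroupOf (Subgroup.centralizer ({t} : Set G))).Normal]

/-- the image of `C_Q(t)` in `C_G(t)/⟨t⟩` -/
abbrev Pbar (Q : Subgroup G) (t : G)
    [hn : ((Subgroup.zpowers t).subgroupOf (Subgroup.centralizer ({t} : Set G))).Normal] :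
    Subgroup (↥(Subgroup.centralizer ({t} : Set G)) ⧸
      (Subgroup.zpowers t).subgroupOf (Subgroup.centralizer ({t} : Set G))) :=
  ((Q ⊓ Subgroup.centralizer ({t} : Set G)).subgroupOf (Subgroup.centralizer ({t} : Set G))).map
    (QuotientGroup.mk' ((Subgroup.zpowers t).subgroupOf (Subgroup.centralizer ({t} : Set G))))

theorem mem_Pbar {ξ : (↥(Subgroup.centralizer ({t} : Set G)) ⧸ (Subgroup.zpowers t).subgroupOf (Subgroup.centralizer ({t} : Set G)))} :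
    ξ ∈ Pbar Q t ↔ ∃ x : ↥(Subgroup.centralizer ({t} : Set G)), (x : G) ∈ Q ∧ (QuotientGroup.mk x : (↥(Subgroup.centralizer ({t} : Set G)) ⧸ (Subgroup.zpowers t).subgroupOf (Subgroup.centralizer ({t} : Set G)))) = ξ := by
  rw [mem_map_iff]
  constructor
  · rintro ⟨x, hx, rfl⟩
    exact ⟨x, hx.1, rfl⟩
  · rintro ⟨x, hx, rfl⟩
    exact ⟨x, ⟨hx, x.2⟩, rfl⟩

/-- `z` in the centralizer of `t` -/
def Ctx.zC (h : Ctx Q Qs z s t) : ↥(Subgroup.centralizer ({t} : Set G)) := ⟨z, mem_ct.2 h.tz_comm.symm⟩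

/-- `s` in the centralizer of `t` -/
def Ctx.sC (h : Ctx Q Qs z s t) : ↥(Subgroup.centralizer ({t} : Set G)) := ⟨s, mem_ct.2 h.ts_comm.symm⟩

theorem Ctx.comm_z (h : Ctx Q Qs z s t) (d : ↥(Subgroup.centralizer ({t} : Set G)))
    (hd : (QuotientGroup.mk d : (↥(Subgroup.centralizer ({t} : Set G)) ⧸ (Subgroup.zpowers t).subgroupOf (Subgroup.centralizer ({t} : Set G)))) * QuotientGroup.mk h.zC = QuotientGroup.mk h.zC * QuotientGroup.mk d) :
    (d : G) * z = z * d := by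
  rcases (mk_comm_iff h.tt d h.zC).1 hd with h1 | h1
  · exact h1
  · exfalso
    apply h.nz (d : G)
    have hdt : (d : G) * t = t * d := mem_ct.1 d.2
    have h1' : (d : G) * z = z * d * t := h1
    calc (d : G) * z * (d : G)⁻¹ = z * ((d : G) * t) * (d : G)⁻¹ := by rw [h1']; group
      _ = z * (t * d) * (d : G)⁻¹ := by rw [hdt]
      _ = z * t := by group
      _ = t * z := h.tz_comm.symm

theorem Ctx.comm_s (h : Ctx Q Qs z s t) (d : ↥(Subgroup.centralizer ({t} : Set G)))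
    (hd : (QuotientGroup.mk d : (↥(Subgroup.centralizer ({t} : Set G)) ⧸ (Subgroup.zpowers t).subgroupOf (Subgroup.centralizer ({t} : Set G)))) * QuotientGroup.mk h.sC = QuotientGroup.mk h.sC * QuotientGroup.mk d) :
    (d : G) * s = s * d := by
  rcases (mk_comm_iff h.tt d h.sC).1 hd with h1 | h1
  · exact h1
  · exfalso
    apply h.ns (d : G)
    have hdt : (d : G) * t = t * d := mem_ct.1 d.2
    have h1' : (d : G) * s = s * d * t := h1
    calc (d : G) * s * (d : G)⁻¹ = s * ((d : G) * t) * (d : G)⁻¹ := by rw [h1']; group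
      _ = s * (t * d) * (d : G)⁻¹ := by rw [hdt]
      _ = s * t := by group
      _ = t * s := h.ts_comm.symm

theorem Ctx.zC_mem (h : Ctx Q Qs z s t) : (QuotientGroup.mk h.zC : (↥(Subgroup.centralizer ({t} : Set G)) ⧸ (Subgroup.zpowers t).subgroupOf (Subgroup.centralizer ({t} : Set G)))) ∈ Pbar Q t :=
  mem_Pbar.2 ⟨h.zC, h.pair.l1.mem, rfl⟩

theorem Ctx.sC_mem (h : Ctx Q Qs z s t) : (QuotientGroup.mk h.sC : (↥(Subgroup.centralizer ({t} : Set G)) ⧸ (Subgroup.zpowers t).subgroupOf (Subgroup.centralizer ({t} : Set G)))) ∈ Pbar Q t :=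
  mem_Pbar.2 ⟨h.sC, h.pair.m21, rfl⟩

theorem Ctx.zC_ne_one (h : Ctx Q Qs z s t) : (QuotientGroup.mk h.zC : (↥(Subgroup.centralizer ({t} : Set G)) ⧸ (Subgroup.zpowers t).subgroupOf (Subgroup.centralizer ({t} : Set G)))) ≠ 1 := by
  rw [Ne, mk_eq_one_iff h.tt]
  rintro (h1 | h1)
  · exact h.pair.l1.ne_one h1
  · exact h.tz h1.symm

theorem Ctx.zC_sq (h : Ctx Q Qs z s t) :
    (QuotientGroup.mk h.zC : (↥(Subgroup.centralizer ({t} : Set G)) ⧸ (Subgroup.zpowers t).subgroupOf (Subgroup.centralizer ({t} : Set G)))) * QuotientGroup.mk h.zC = 1 := by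
  rw [← QuotientGroup.mk_mul]
  have : h.zC * h.zC = 1 := Subtype.ext h.pair.l1.sq
  rw [this, QuotientGroup.mk_one]

theorem Ctx.sC_sq (h : Ctx Q Qs z s t) :
    (QuotientGroup.mk h.sC : (↥(Subgroup.centralizer ({t} : Set G)) ⧸ (Subgroup.zpowers t).subgroupOf (Subgroup.centralizer ({t} : Set G)))) * QuotientGroup.mk h.sC = 1 := by
  rw [← QuotientGroup.mk_mul]
  have : h.sC * h.sC = 1 := Subtype.ext h.pair.l2.sq
  rw [this, QuotientGroup.mk_one]

theorem Ctx.zC_central (h : Ctx Q Qs z s t) {η : (↥(Subgroup.centralizer ({t} : Set G)) ⧸ (Subgroup.zpowers t).subgroupOf (Subgroup.centralizer ({t} : Set G)))} (hη : η ∈ Pbar Q t) :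
    (QuotientGroup.mk h.zC : (↥(Subgroup.centralizer ({t} : Set G)) ⧸ (Subgroup.zpowers t).subgroupOf (Subgroup.centralizer ({t} : Set G)))) * η = η * QuotientGroup.mk h.zC := by
  obtain ⟨x, hx, rfl⟩ := mem_Pbar.1 hη
  rw [mk_comm_iff h.tt]
  left
  exact (h.pair.l1.central (x : G) hx).symm

/-- the centralizer of the image is `{1, z̄}` -/
theorem Ctx.cent_Pbar (h : Ctx Q Qs z s t)
    (hCP : ∀ c : G, c * z = z * c →
      (∀ x ∈ Q, x * t = t * x → c * x * c⁻¹ = x ∨ c * x * c⁻¹ = x * t) → c ∈ Q)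
    (ξ : (↥(Subgroup.centralizer ({t} : Set G)) ⧸ (Subgroup.zpowers t).subgroupOf (Subgroup.centralizer ({t} : Set G)))) (hξ : ∀ η ∈ Pbar Q t, ξ * η = η * ξ) :
    ξ = 1 ∨ ξ = QuotientGroup.mk h.zC := by
  obtain ⟨d, rfl⟩ := QuotientGroup.mk_surjective ξ
  have hdz := h.comm_z d (hξ _ h.zC_mem)
  have hdt : (d : G) * t = t * d := mem_ct.1 d.2
  have hact : ∀ x ∈ Q, x * t = t * x →
      (d : G) * x * (d : G)⁻¹ = x ∨ (d : G) * x * (d : G)⁻¹ = x * t := by
    intro x hx hxt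
    have h0 := hξ (QuotientGroup.mk ⟨x, mem_ct.2 hxt⟩) (mem_Pbar.2 ⟨_, hx, rfl⟩)
    rcases (mk_comm_iff h.tt d ⟨x, mem_ct.2 hxt⟩).1 h0 with h1 | h1
    · left
      have h1' : (d : G) * x = x * d := h1
      rw [h1']; group
    · right
      have h1' : (d : G) * x = x * d * t := h1
      calc (d : G) * x * (d : G)⁻¹ = x * ((d : G) * t) * (d : G)⁻¹ := by rw [h1']; group
        _ = x * (t * d) * (d : G)⁻¹ := by rw [hdt]
        _ = x * t := by group
  have hdQ : (d : G) ∈ Q := hCP d hdz hact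
  have hcent : ∀ r ∈ Q, r * t = t * r → r * (d : G) = (d : G) * r := by
    intro r hr hrt
    rcases hact r hr hrt with h1 | h1
    · calc r * (d : G) = ((d : G) * r * (d : G)⁻¹) * d := by rw [h1]
        _ = (d : G) * r := by group
    · exfalso
      have h2 : (d : G) * r * (d : G)⁻¹ * r⁻¹ = t := by
        rw [h1]
        calc r * t * r⁻¹ = (t * r) * r⁻¹ := by rw [hrt]
          _ = t := by group
      rcases h.pair.l1.comm (d : G) hdQ r hr with h3 | h3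
      · exact h.t1 (h2.symm.trans h3)
      · exact h.tz (h2.symm.trans h3)
  by_cases hd1 : (d : G) = 1
  · left
    exact (mk_eq_one_iff h.tt d).2 (Or.inl hd1)
  · rcases Helper98_LESGen.fixed_class Q h.pair.l1 h.pair.n1 h.tQ h.t1 h.tz h.tt hd1 hcent
      with h1 | h1 | h1
    · right
      exact (mk_eq_mk_iff h.tt d h.zC).2 (Or.inl h1)
    · left
      exact (mk_eq_one_iff h.tt d).2 (Or.inr h1)
    · right
      exact (mk_eq_mk_iff h.tt d h.zC).2 (Or.inr (h1.trans h.tz_comm))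

/-- the centralizer of `z̄` normalizes the image -/
theorem Ctx.norm_Pbar (h : Ctx Q Qs z s t) (ξ : (↥(Subgroup.centralizer ({t} : Set G)) ⧸ (Subgroup.zpowers t).subgroupOf (Subgroup.centralizer ({t} : Set G))))
    (hξ : ξ * QuotientGroup.mk h.zC = QuotientGroup.mk h.zC * ξ) {η : (↥(Subgroup.centralizer ({t} : Set G)) ⧸ (Subgroup.zpowers t).subgroupOf (Subgroup.centralizer ({t} : Set G)))} (hη : η ∈ Pbar Q t) :
    ξ * η * ξ⁻¹ ∈ Pbar Q t := by
  obtain ⟨d, rfl⟩ := QuotientGroup.mk_surjective ξ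
  obtain ⟨x, hx, rfl⟩ := mem_Pbar.1 hη
  have hdz := h.comm_z d hξ
  rw [← QuotientGroup.mk_inv, ← QuotientGroup.mk_mul, ← QuotientGroup.mk_mul]
  exact mem_Pbar.2 ⟨d * x * d⁻¹, h.pair.n1 (d : G) hdz (x : G) hx, rfl⟩

theorem Ctx.sq_Pbar (h : Ctx Q Qs z s t) {η : (↥(Subgroup.centralizer ({t} : Set G)) ⧸ (Subgroup.zpowers t).subgroupOf (Subgroup.centralizer ({t} : Set G)))} (hη : η ∈ Pbar Q t) :
    η * η = 1 ∨ η * η = QuotientGroup.mk h.zC := by
  obtain ⟨x, hx, rfl⟩ := mem_Pbar.1 hη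
  rw [← QuotientGroup.mk_mul]
  rcases h.pair.s1 (x : G) hx with h1 | h1
  · left
    exact (mk_eq_one_iff h.tt _).2 (Or.inl h1)
  · right
    exact (mk_eq_mk_iff h.tt _ _).2 (Or.inl h1)

theorem Ctx.comm_Pbar (h : Ctx Q Qs z s t) {η θ : (↥(Subgroup.centralizer ({t} : Set G)) ⧸ (Subgroup.zpowers t).subgroupOf (Subgroup.centralizer ({t} : Set G)))} (hη : η ∈ Pbar Q t) (hθ : θ ∈ Pbar Q t) :
    η * θ * η⁻¹ * θ⁻¹ = 1 ∨ η * θ * η⁻¹ * θ⁻¹ = QuotientGroup.mk h.zC := by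
  obtain ⟨x, hx, rfl⟩ := mem_Pbar.1 hη
  obtain ⟨y, hy, rfl⟩ := mem_Pbar.1 hθ
  rw [← QuotientGroup.mk_inv, ← QuotientGroup.mk_inv, ← QuotientGroup.mk_mul,
    ← QuotientGroup.mk_mul, ← QuotientGroup.mk_mul]
  rcases h.pair.l1.comm (x : G) hx (y : G) hy with h1 | h1
  · left
    exact (mk_eq_one_iff h.tt _).2 (Or.inl h1)
  · right
    exact (mk_eq_mk_iff h.tt _ _).2 (Or.inl h1)

theorem Ctx.isPGroup_Pbar (h : Ctx Q Qs z s t) : IsPGroup 2 ↥(Pbar Q t) := by
  have h1 : IsPGroup 2 ↥(Q ⊓ Subgroup.centralizer ({t} : Set G)) := h.p2.to_le inf_le_left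
  exact (h1.comap_subtype).map _

theorem Ctx.na_Pbar (h : Ctx Q Qs z s t)
    (hna : ∃ x ∈ Q, ∃ y ∈ Q, x * t = t * x ∧ y * t = t * y ∧ x * y ≠ y * x) :
    ∃ η ∈ Pbar Q t, ∃ θ ∈ Pbar Q t, η * θ ≠ θ * η := by
  obtain ⟨x, hx, y, hy, hxt, hyt, hxy⟩ := hna
  refine ⟨QuotientGroup.mk ⟨x, mem_ct.2 hxt⟩, mem_Pbar.2 ⟨_, hx, rfl⟩,
    QuotientGroup.mk ⟨y, mem_ct.2 hyt⟩, mem_Pbar.2 ⟨_, hy, rfl⟩, ?_⟩
  intro hc
  rcases (mk_comm_iff h.tt _ _).1 hc with h1 | h1
  · exact hxy h1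
  · have h1' : x * y = y * x * t := h1
    have h2 : x * y * x⁻¹ * y⁻¹ = t := by
      rw [h1']
      calc y * x * t * x⁻¹ * y⁻¹ = y * (x * t) * x⁻¹ * y⁻¹ := by group
        _ = y * (t * x) * x⁻¹ * y⁻¹ := by rw [hxt]
        _ = (y * t) * y⁻¹ := by group
        _ = (t * y) * y⁻¹ := by rw [hyt]
        _ = t := by group
    rcases h.pair.l1.comm x hx y hy with h3 | h3
    · exact h.t1 (h2.symm.trans h3)
    · exact h.tz (h2.symm.trans h3)

/-- the image is extraspecial -/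
theorem Ctx.isExtraspecial_Pbar [Finite G] (h : Ctx Q Qs z s t)
    (hCP : ∀ c : G, c * z = z * c →
      (∀ x ∈ Q, x * t = t * x → c * x * c⁻¹ = x ∨ c * x * c⁻¹ = x * t) → c ∈ Q)
    (hna : ∃ x ∈ Q, ∃ y ∈ Q, x * t = t * x ∧ y * t = t * y ∧ x * y ≠ y * x) :
    IsExtraspecial 2 ↥(Pbar Q t) := by
  apply isExtraspecial_two_of h.isPGroup_Pbar ⟨QuotientGroup.mk h.zC, h.zC_mem⟩
  · intro hc
    exact h.zC_ne_one (congrArg Subtype.val hc)
  · exact Subtype.ext h.zC_sq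
  · intro x hx
    have hx' : ∀ η ∈ Pbar Q t, (x : (↥(Subgroup.centralizer ({t} : Set G)) ⧸ (Subgroup.zpowers t).subgroupOf (Subgroup.centralizer ({t} : Set G)))) * η = η * x := by
      intro η hη
      exact congrArg Subtype.val (hx ⟨η, hη⟩)
    rcases h.cent_Pbar hCP (x : (↥(Subgroup.centralizer ({t} : Set G)) ⧸ (Subgroup.zpowers t).subgroupOf (Subgroup.centralizer ({t} : Set G)))) hx' with h1 | h1
    · left; exact Subtype.ext h1
    · right; exact Subtype.ext h1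
  · intro y
    exact Subtype.ext (h.zC_central y.2)
  · intro x
    rcases h.sq_Pbar x.2 with h1 | h1
    · left; exact Subtype.ext h1
    · right; exact Subtype.ext h1
  · intro x y
    rcases h.comm_Pbar x.2 y.2 with h1 | h1
    · left; exact Subtype.ext h1
    · right; exact Subtype.ext h1
  · obtain ⟨η, hη, θ, hθ, hne⟩ := h.na_Pbar hna
    exact ⟨⟨η, hη⟩, ⟨θ, hθ⟩, fun hc => hne (congrArg Subtype.val hc)⟩

/-- odd-order subgroups normalized by the image are trivial -/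
theorem Ctx.odd_Pbar [Finite G] (h : Ctx Q Qs z s t)
    (hCP : ∀ c : G, c * z = z * c →
      (∀ x ∈ Q, x * t = t * x → c * x * c⁻¹ = x ∨ c * x * c⁻¹ = x * t) → c ∈ Q)
    (K : Subgroup (↥(Subgroup.centralizer ({t} : Set G)) ⧸ (Subgroup.zpowers t).subgroupOf (Subgroup.centralizer ({t} : Set G)))) (hK : Odd (Nat.card K))
    (hPK : Pbar Q t ≤ Subgroup.normalizer (K : Set (↥(Subgroup.centralizer ({t} : Set G)) ⧸ (Subgroup.zpowers t).subgroupOf (Subgroup.centralizer ({t} : Set G))))) : K = ⊥ := by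
  haveI : Fact (Nat.Prime 2) := ⟨Nat.prime_two⟩
  set ζ : (↥(Subgroup.centralizer ({t} : Set G)) ⧸ (Subgroup.zpowers t).subgroupOf (Subgroup.centralizer ({t} : Set G))) := QuotientGroup.mk h.zC with hζ
  set σ : (↥(Subgroup.centralizer ({t} : Set G)) ⧸ (Subgroup.zpowers t).subgroupOf (Subgroup.centralizer ({t} : Set G))) := QuotientGroup.mk h.sC with hσ
  have hnormK : ∀ η ∈ Pbar Q t, ∀ k ∈ K, η * k * η⁻¹ ∈ K := by
    intro η hη k hk
    exact (Subgroup.mem_normalizer_iff.1 (hPK hη) k).1 hk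
  have hP2 : ∀ η ∈ Pbar Q t, ∃ n : ℕ, η ^ 2 ^ n = 1 := by
    intro η hη
    obtain ⟨n, hn⟩ := h.isPGroup_Pbar ⟨η, hη⟩
    exact ⟨n, congrArg Subtype.val hn⟩
  -- Claim Z
  have claimZ : ∀ k ∈ K, k * ζ = ζ * k → k = 1 := by
    intro k hk hkζ
    have hcent : ∀ η ∈ Pbar Q t, k * η = η * k := by
      intro η hη
      have hc1 : η * k * η⁻¹ * k⁻¹ ∈ Pbar Q t := by
        have h1 := h.norm_Pbar k hkζ ((Pbar Q t).inv_mem hη)
        have e : η * k * η⁻¹ * k⁻¹ = η * (k * η⁻¹ * k⁻¹) := by group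
        rw [e]
        exact (Pbar Q t).mul_mem hη h1
      have hc2 : η * k * η⁻¹ * k⁻¹ ∈ K := K.mul_mem (hnormK η hη k hk) (K.inv_mem hk)
      obtain ⟨n, hn⟩ := hP2 _ hc1
      have h1 := eq_one_of_two_pow_of_odd hK hc2 hn
      calc k * η = (η * k * η⁻¹ * k⁻¹)⁻¹ * (η * k) := by group
        _ = η * k := by rw [h1, inv_one, one_mul]
    rcases h.cent_Pbar hCP k hcent with h1 | h1
    · exact h1
    · have hn : k ^ 2 ^ 1 = 1 := by
        rw [pow_one, pow_two, h1]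
        exact h.zC_sq
      exact eq_one_of_two_pow_of_odd hK hk hn
  -- Claim S
  have claimS : ∀ k ∈ K, k * σ = σ * k → k = 1 := by
    intro k hk hkσ
    apply claimZ k hk
    obtain ⟨d, rfl⟩ := QuotientGroup.mk_surjective k
    have hds := h.comm_s d hkσ
    have hc2 : ζ * QuotientGroup.mk d * ζ⁻¹ * (QuotientGroup.mk d)⁻¹ ∈ K :=
      K.mul_mem (hnormK ζ h.zC_mem _ hk) (K.inv_mem hk)
    -- the commutator comes from `Qs`
    have hu : (z * ((d : G) * z⁻¹ * (d : G)⁻¹)) ∈ Qs :=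
      Qs.mul_mem h.pair.m12 (h.pair.n2 (d : G) hds _ (Qs.inv_mem h.pair.m12))
    obtain ⟨n, hn⟩ := h.p2s ⟨_, hu⟩
    have hn' : (z * ((d : G) * z⁻¹ * (d : G)⁻¹)) ^ 2 ^ n = 1 := congrArg Subtype.val hn
    have hpow : (ζ * QuotientGroup.mk d * ζ⁻¹ * (QuotientGroup.mk d)⁻¹) ^ 2 ^ n = 1 := by
      rw [hζ, ← QuotientGroup.mk_inv, ← QuotientGroup.mk_inv, ← QuotientGroup.mk_mul,
        ← QuotientGroup.mk_mul, ← QuotientGroup.mk_mul, ← QuotientGroup.mk_pow,
        mk_eq_one_iff h.tt]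
      left
      have e : (((h.zC * d * h.zC⁻¹ * d⁻¹) ^ 2 ^ n : ↥(Subgroup.centralizer ({t} : Set G))) : G) =
          (z * (d : G) * z⁻¹ * (d : G)⁻¹) ^ 2 ^ n := rfl
      rw [e, ← hn']
      congr 1
      group
    have h1 := eq_one_of_two_pow_of_odd hK hc2 hpow
    calc QuotientGroup.mk d * ζ
        = (ζ * QuotientGroup.mk d * ζ⁻¹ * (QuotientGroup.mk d)⁻¹)⁻¹ * (ζ * QuotientGroup.mk d) := by
          group
      _ = ζ * QuotientGroup.mk d := by rw [h1, inv_one, one_mul]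
  -- Claim ZS
  have claimZS : ∀ k ∈ K, k * (ζ * σ) = (ζ * σ) * k → k = 1 := by
    intro k hk hkζσ
    obtain ⟨q, hq, hqt, hqs⟩ := h.exists_q
    set κ : (↥(Subgroup.centralizer ({t} : Set G)) ⧸ (Subgroup.zpowers t).subgroupOf (Subgroup.centralizer ({t} : Set G))) := QuotientGroup.mk ⟨q, mem_ct.2 hqt⟩ with hκ
    have hκP : κ ∈ Pbar Q t := mem_Pbar.2 ⟨_, hq, rfl⟩
    have hκσ : κ * σ * κ⁻¹ = ζ * σ := by
      rw [hκ, hσ, hζ, ← QuotientGroup.mk_inv, ← QuotientGroup.mk_mul, ← QuotientGroup.mk_mul,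
        ← QuotientGroup.mk_mul, mk_eq_mk_iff h.tt]
      left
      exact hqs
    have hk' : κ⁻¹ * k * κ ∈ K := by
      have := hnormK κ⁻¹ ((Pbar Q t).inv_mem hκP) k hk
      rwa [inv_inv] at this
    have hcomm : (κ⁻¹ * k * κ) * σ = σ * (κ⁻¹ * k * κ) := by
      calc (κ⁻¹ * k * κ) * σ = κ⁻¹ * (k * (κ * σ * κ⁻¹)) * κ := by group
        _ = κ⁻¹ * ((κ * σ * κ⁻¹) * k) * κ := by rw [hκσ, hkζσ]
        _ = σ * (κ⁻¹ * k * κ) := by group
    have h1 := claimS _ hk' hcomm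
    calc k = κ * (κ⁻¹ * k * κ) * κ⁻¹ := by group
      _ = 1 := by rw [h1]; group
  -- generation
  have hcop : ¬ 2 ∣ Nat.card K := by
    rw [← even_iff_two_dvd, Nat.not_even_iff_odd]
    exact hK
  have hζσ : ζ * σ = σ * ζ := h.zC_central h.sC_mem
  have hle : K ≤ ⊥ := by
    apply Cfsg.Agent.Lib.Helper48_Generation.le_of_centralizers_le (p := 2) K hcop ζ σ
      (hPK h.zC_mem) (hPK h.sC_mem) (by rw [pow_two]; exact h.zC_sq)
      (by rw [pow_two]; exact h.sC_sq) hζσ ⊥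
    · intro k hk0
      rw [Subgroup.mem_inf] at hk0
      obtain ⟨hk, hkc⟩ := hk0
      rw [Subgroup.mem_bot]
      apply claimS k hk
      rw [Subgroup.mem_centralizer_iff] at hkc
      exact (hkc σ (Set.mem_singleton σ)).symm
    · intro i k hk0
      rw [Subgroup.mem_inf] at hk0
      obtain ⟨hk, hkc⟩ := hk0
      rw [Subgroup.mem_bot]
      rw [Subgroup.mem_centralizer_iff] at hkc
      have hkc' := (hkc _ (Set.mem_singleton _)).symm
      obtain ⟨m, rfl | rfl⟩ := Nat.even_or_odd' i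
      · have e : σ ^ (2 * m) = 1 := by
          rw [pow_mul, pow_two, h.sC_sq, one_pow]
        rw [e, mul_one] at hkc'
        exact claimZ k hk hkc'
      · have e : σ ^ (2 * m + 1) = σ := by
          rw [pow_succ, pow_mul, pow_two, h.sC_sq, one_pow, one_mul]
        rw [e] at hkc'
        exact claimZS k hk hkc'
  exact le_bot_iff.1 hle

/-- **the image of `C_Q(t)` is a large extraspecial subgroup of `C_G(t)/⟨t⟩`** -/
theorem Ctx.isLargeExtraspecial_Pbar [Finite G] (h : Ctx Q Qs z s t)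
    (hCP : ∀ c : G, c * z = z * c →
      (∀ x ∈ Q, x * t = t * x → c * x * c⁻¹ = x ∨ c * x * c⁻¹ = x * t) → c ∈ Q)
    (hna : ∃ x ∈ Q, ∃ y ∈ Q, x * t = t * x ∧ y * t = t * y ∧ x * y ≠ y * x) :
    IsLargeExtraspecial (Pbar Q t) := by
  have hζmem : (QuotientGroup.mk h.zC : (↥(Subgroup.centralizer ({t} : Set G)) ⧸ (Subgroup.zpowers t).subgroupOf (Subgroup.centralizer ({t} : Set G)))) ∈ (Subgroup.center ↥(Pbar Q t)).map (Pbar Q t).subtype := by
    rw [mem_center_map]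
    exact ⟨h.zC_mem, fun r hr => (h.zC_central hr).symm⟩
  refine ⟨h.isExtraspecial_Pbar hCP hna, ?_, ?_, h.odd_Pbar hCP⟩
  · apply le_antisymm
    · intro ξ hξ
      rw [Subgroup.mem_centralizer_iff] at hξ
      have hξ' : ∀ η ∈ Pbar Q t, ξ * η = η * ξ := fun η hη => (hξ η hη).symm
      rw [mem_center_map]
      refine ⟨?_, fun r hr => hξ r hr⟩
      rcases h.cent_Pbar hCP ξ hξ' with h1 | h1
      · rw [h1]; exact (Pbar Q t).one_mem
      · rw [h1]; exact h.zC_mem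
    · intro c hc
      rw [mem_center_map] at hc
      rw [Subgroup.mem_centralizer_iff]
      exact fun r hr => hc.2 r hr
  · intro ξ hξ
    rw [Subgroup.mem_centralizer_iff] at hξ
    have hξζ : ξ * QuotientGroup.mk h.zC = QuotientGroup.mk h.zC * ξ := (hξ _ hζmem).symm
    have hξζ' : ξ⁻¹ * QuotientGroup.mk h.zC = QuotientGroup.mk h.zC * ξ⁻¹ := by
      calc ξ⁻¹ * QuotientGroup.mk h.zC = ξ⁻¹ * (QuotientGroup.mk h.zC * ξ) * ξ⁻¹ := by group
        _ = ξ⁻¹ * (ξ * QuotientGroup.mk h.zC) * ξ⁻¹ := by rw [hξζ]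
        _ = QuotientGroup.mk h.zC * ξ⁻¹ := by group
    rw [Subgroup.mem_normalizer_iff]
    intro η
    constructor
    · intro hη
      exact h.norm_Pbar ξ hξζ hη
    · intro hη
      have := h.norm_Pbar ξ⁻¹ hξζ' hη
      have e : ξ⁻¹ * (ξ * η * ξ⁻¹) * ξ⁻¹⁻¹ = η := by group
      rwa [e] at this

end quot

end Cfsg.Agent.Lib.Helper63_LESQuot
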