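/-
Helper library (helper63): large extraspecial subgroups in `C_G(A)A/A` for a subgroup `A` of odd
order of `C_G(z)` (Aschbacher, Sporadic Groups, ch. 8).
-/
import Cfsg.Prelude.Def_CaseTheorems
import Cfsg.Agent.Lib.Helper63_LESQuot
import Cfsg.Agent.Lib.Helper24_CoprimeAction
import Cfsg.Agent.Lib.Helper32_Cores

set_option autoImplicit false
set_option linter.unusedSectionVars false
set_option linter.style.haveILetI false

namespace Cfsg.Agent.Lib.Helper63_LESOdd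

open Cfsg
open Cfsg.Agent.Lib.Helper93_LES Cfsg.Agent.Lib.Helper98_LESPair Cfsg.Agent.Lib.Helper63_QuotInv
open Cfsg.Agent.Lib.Helper63_SingularGL Cfsg.Agent.Lib.Helper63_LESQuot

variable {G : Type*} [Group G]

/-! ### general lemmas -/

/-- if `c r c⁻¹ = r a` with `a` of odd order commuting with the 2-element `r`, then `a = 1` -/
theorem eq_one_of_conj_mul {c r a : G} {k m : ℕ} (hc : c * r * c⁻¹ = r * a) (hra : r * a = a * r)
    (hr : r ^ 2 ^ k = 1) (hm : Odd m) (ha : a ^ m = 1) : a = 1 := by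
  have h1 : (c * r * c⁻¹) ^ 2 ^ k = 1 := by
    rw [conj_pow, hr, mul_one, mul_inv_cancel]
  rw [hc, (show Commute r a from hra).mul_pow, hr, one_mul] at h1
  have h2 : orderOf a ∣ 2 ^ k := orderOf_dvd_of_pow_eq_one h1
  have h3 : orderOf a ∣ m := orderOf_dvd_of_pow_eq_one ha
  have hcop : Nat.Coprime (2 ^ k) m := by
    apply Nat.Coprime.pow_left
    rw [Nat.coprime_two_left]
    exact hm
  have h4 : orderOf a ∣ 1 := by
    rw [← hcop]
    exact Nat.dvd_gcd h2 h3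
  exact orderOf_eq_one_iff.1 (Nat.dvd_one.1 h4)

/-- coprime action: a noncentral element of `C_E(A)` is moved by an element of `C_E(A)` -/
theorem exists_fixed_not_comm [Finite G] {E A : Subgroup G} {ζ : G} (hles : LES E ζ)
    (hp2 : IsPGroup 2 E) (hodd : Odd (Nat.card A))
    (hAE : ∀ a ∈ A, ∀ q ∈ E, a * q * a⁻¹ ∈ E) (hAζ : ∀ a ∈ A, a * ζ = ζ * a)
    {x : G} (hxE : x ∈ E) (hxA : ∀ a ∈ A, a * x = x * a) (hx1 : x ≠ 1) (hxζ : x ≠ ζ) :
    ∃ r ∈ E, (∀ a ∈ A, a * r = r * a) ∧ r * x * r⁻¹ = ζ * x := by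
  haveI : Fact (Nat.Prime 2) := ⟨Nat.prime_two⟩
  -- some element of `E` moves `x`
  have hex : ∃ x₀ ∈ E, x₀ * x ≠ x * x₀ := by
    by_contra hcon
    push Not at hcon
    rcases hles.selfcent x (fun b hb => (hcon b hb).symm) with h | h
    · exact hx1 h
    · exact hxζ h
  obtain ⟨x₀, hx₀E, hne⟩ := hex
  have hx₀ : x₀ * x * x₀⁻¹ = ζ * x := conj_eq_of_not_comm hles hx₀E hxE hne
  have hne' : x₀⁻¹ * x ≠ x * x₀⁻¹ := by
    intro h
    apply hne
    calc x₀ * x = x₀ * (x * x₀⁻¹) * x₀ := by group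
      _ = x₀ * (x₀⁻¹ * x) * x₀ := by rw [h]
      _ = x * x₀ := by group
  have hx₀' : x₀⁻¹ * x * x₀ = ζ * x := by
    have := conj_eq_of_not_comm hles (E.inv_mem hx₀E) hxE hne'
    rwa [inv_inv] at this
  -- the centralizer of `x` in `E`
  set D := E ⊓ Subgroup.centralizer ({x} : Set G) with hD
  have hconjD : ∀ a ∈ A, ∀ d ∈ D, a * d * a⁻¹ ∈ D := by
    intro a ha d hd
    refine Subgroup.mem_inf.2 ⟨hAE a ha d hd.1, mem_ct.2 ?_⟩
    have hdx : d * x = x * d := mem_ct.1 hd.2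
    have hax := hxA a ha
    have hax' : a⁻¹ * x = x * a⁻¹ := by
      calc a⁻¹ * x = a⁻¹ * (x * a) * a⁻¹ := by group
        _ = a⁻¹ * (a * x) * a⁻¹ := by rw [hax]
        _ = x * a⁻¹ := by group
    calc a * d * a⁻¹ * x = a * d * (a⁻¹ * x) := by group
      _ = a * d * (x * a⁻¹) := by rw [hax']
      _ = a * (d * x) * a⁻¹ := by group
      _ = a * (x * d) * a⁻¹ := by rw [hdx]
      _ = (a * x) * d * a⁻¹ := by group
      _ = (x * a) * d * a⁻¹ := by rw [hax]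
      _ = x * (a * d * a⁻¹) := by group
  have hAD : A ≤ Subgroup.normalizer (D : Set G) := by
    intro a ha
    rw [Subgroup.mem_normalizer_iff]
    intro d
    constructor
    · exact hconjD a ha d
    · intro h
      have := hconjD a⁻¹ (A.inv_mem ha) _ h
      have e : a⁻¹ * (a * d * a⁻¹) * a⁻¹⁻¹ = d := by group
      rwa [e] at this
  have hDp : IsPGroup 2 ↥D := hp2.to_le inf_le_left
  have hcop : (Nat.card A).Coprime (Nat.card D) := by
    obtain ⟨n, hn⟩ := IsPGroup.iff_card.1 hDp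
    rw [hn]
    apply Nat.Coprime.pow_right
    rw [Nat.coprime_two_right]
    exact hodd
  have hsolv : Group.IsSolvable A ∨ Group.IsSolvable D := by
    right
    haveI : Group.IsNilpotent ↥D := hDp.isNilpotent
    infer_instance
  have hfix : ∀ a ∈ A, x₀⁻¹ * (a * x₀ * a⁻¹) ∈ D := by
    intro a ha
    refine Subgroup.mem_inf.2 ⟨E.mul_mem (E.inv_mem hx₀E) (hAE a ha x₀ hx₀E), mem_ct.2 ?_⟩
    have hax := hxA a ha
    have haζ := hAζ a ha
    have hax' : a⁻¹ * x = x * a⁻¹ := by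
      calc a⁻¹ * x = a⁻¹ * (x * a) * a⁻¹ := by group
        _ = a⁻¹ * (a * x) * a⁻¹ := by rw [hax]
        _ = x * a⁻¹ := by group
    have hζx₀ : x₀⁻¹ * ζ = ζ * x₀⁻¹ := hles.central _ (E.inv_mem hx₀E)
    -- conjugation of `x` by `a x₀ a⁻¹`
    have h1 : (a * x₀ * a⁻¹) * x = (ζ * x) * (a * x₀ * a⁻¹) := by
      calc (a * x₀ * a⁻¹) * x = a * x₀ * (a⁻¹ * x) := by group
        _ = a * x₀ * (x * a⁻¹) := by rw [hax']
        _ = a * (x₀ * x * x₀⁻¹) * x₀ * a⁻¹ := by group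
        _ = (a * ζ) * x * x₀ * a⁻¹ := by rw [hx₀]; group
        _ = ζ * (a * x) * x₀ * a⁻¹ := by rw [haζ]; group
        _ = ζ * (x * a) * x₀ * a⁻¹ := by rw [hax]
        _ = (ζ * x) * (a * x₀ * a⁻¹) := by group
    have hζζ : ζ * ζ = 1 := hles.sq
    calc x₀⁻¹ * (a * x₀ * a⁻¹) * x = x₀⁻¹ * ((a * x₀ * a⁻¹) * x) := by group
      _ = x₀⁻¹ * ((ζ * x) * (a * x₀ * a⁻¹)) := by rw [h1]
      _ = (x₀⁻¹ * ζ) * x * (a * x₀ * a⁻¹) := by group
      _ = ζ * (x₀⁻¹ * x * x₀) * x₀⁻¹ * (a * x₀ * a⁻¹) := by rw [hζx₀]; group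
      _ = (ζ * ζ) * x * (x₀⁻¹ * (a * x₀ * a⁻¹)) := by rw [hx₀']; group
      _ = x * (x₀⁻¹ * (a * x₀ * a⁻¹)) := by rw [hζζ, one_mul]
  obtain ⟨d, hd, hfixed⟩ :=
    Cfsg.Agent.Lib.Helper24_CoprimeAction.exists_fixed_in_coset A D hAD hcop hsolv x₀ hfix
  refine ⟨x₀ * d, E.mul_mem hx₀E hd.1, hfixed, ?_⟩
  have hdx : d * x = x * d := mem_ct.1 hd.2
  calc x₀ * d * x * (x₀ * d)⁻¹ = x₀ * (d * x) * d⁻¹ * x₀⁻¹ := by group
    _ = x₀ * (x * d) * d⁻¹ * x₀⁻¹ := by rw [hdx]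
    _ = x₀ * x * x₀⁻¹ := by group
    _ = ζ * x := hx₀

/-- a group of order `2 · odd` with a central involution `z`: every element is `h` or `z h` with
`h` in the odd core -/
theorem struct_two_odd [Finite G] (D A : Subgroup G) {z : G} (hzD : z ∈ D)
    (hzc : ∀ d ∈ D, d * z = z * d) (hzz : z * z = 1) (hz1 : z ≠ 1)
    (h4 : ¬ 4 ∣ Nat.card D) (hO : (oddCore ↥D).map D.subtype ≤ A) :
    ∀ d ∈ D, d ∈ A ∨ ∃ a ∈ A, d = z * a := by
  set zD : ↥D := ⟨z, hzD⟩ with hzDdef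
  have hzD2 : zD * zD = 1 := Subtype.ext hzz
  have hzD1 : zD ≠ 1 := fun h => hz1 (congrArg Subtype.val h)
  have hmemN : ∀ n : ↥D, n ∈ Subgroup.zpowers zD ↔ n = 1 ∨ n = zD := fun n => mem_zpowers_inv hzD2
  have hcen : ∀ g : ↥D, g * zD = zD * g := fun g => Subtype.ext (hzc g.1 g.2)
  haveI hNn : (Subgroup.zpowers zD).Normal := by
    refine ⟨fun n hn g => ?_⟩
    rw [hmemN] at hn ⊢
    rcases hn with rfl | rfl
    · left; group
    · right
      rw [hcen g, mul_assoc, mul_inv_cancel, mul_one]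
  have hcardN : Nat.card (Subgroup.zpowers zD) = 2 := by
    rw [Nat.card_zpowers]
    exact orderOf_eq_prime (by rw [pow_two]; exact hzD2) hzD1
  have hidx := Subgroup.card_mul_index (Subgroup.zpowers zD)
  rw [hcardN] at hidx
  have hodd : Odd (Subgroup.zpowers zD).index := by
    rw [← Nat.not_even_iff_odd]
    rintro ⟨k, hk⟩
    apply h4
    rw [← hidx, hk]
    exact ⟨k, by ring⟩
  have hcop : Nat.Coprime (Nat.card (Subgroup.zpowers zD)) (Subgroup.zpowers zD).index := by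
    rw [hcardN, Nat.coprime_two_left]
    exact hodd
  obtain ⟨H, hH⟩ := Subgroup.exists_right_complement'_of_coprime hcop
  have hHidx : H.index = 2 := by rw [hH.index_eq_card, hcardN]
  haveI hHn : H.Normal := Subgroup.normal_of_index_eq_two hHidx
  have hHcard : Nat.card H = (Subgroup.zpowers zD).index := by
    have h1 := hH.card_mul_card
    rw [hcardN] at h1
    omega
  have hHle : H ≤ oddCore ↥D := by
    apply Cfsg.Agent.Lib.Helper32_Cores.le_pPrimeCore hHn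
    rw [hHcard, Nat.coprime_two_right]
    exact hodd
  intro d hd
  obtain ⟨⟨n, h⟩, hnh⟩ := (Subgroup.isComplement'_def.1 hH).2 (⟨d, hd⟩ : ↥D)
  have hnh' : (n : ↥D) * (h : ↥D) = ⟨d, hd⟩ := hnh
  have hhA : ((h : ↥D) : G) ∈ A := hO ⟨(h : ↥D), hHle h.2, rfl⟩
  rcases (hmemN n).1 n.2 with h1 | h1
  · left
    have : d = ((h : ↥D) : G) := by
      have := congrArg Subtype.val hnh'
      rw [h1, one_mul] at this
      exact this.symm
    rw [this]
    exact hhA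
  · right
    refine ⟨((h : ↥D) : G), hhA, ?_⟩
    have := congrArg Subtype.val hnh'
    rw [h1] at this
    exact this.symm

/-! ### an abstract criterion for large extraspecial subgroups -/

/-- abstract criterion: a 2-subgroup `P` with central involution `ζ`, self-centralizing, normalized
by the centralizer of `ζ`, of extraspecial shape, and with a second involution `σ` fused to `ζ σ`
in `P` such that the centralizer of `σ` moves `ζ` only by 2-elements -/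
theorem isLargeExtraspecial_of {H : Type*} [Group H] [Finite H] (P : Subgroup H) (ζ σ : H)
    (hP2 : IsPGroup 2 ↥P) (hζP : ζ ∈ P) (hσP : σ ∈ P) (hζ1 : ζ ≠ 1) (hζ2 : ζ * ζ = 1)
    (hσ2 : σ * σ = 1) (hζc : ∀ η ∈ P, ζ * η = η * ζ)
    (hcent : ∀ ξ : H, (∀ η ∈ P, ξ * η = η * ξ) → ξ = 1 ∨ ξ = ζ)
    (hnorm : ∀ ξ : H, ξ * ζ = ζ * ξ → ∀ η ∈ P, ξ * η * ξ⁻¹ ∈ P)
    (hsq : ∀ η ∈ P, η * η = 1 ∨ η * η = ζ)
    (hcomm : ∀ η ∈ P, ∀ θ ∈ P, η * θ * η⁻¹ * θ⁻¹ = 1 ∨ η * θ * η⁻¹ * θ⁻¹ = ζ)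
    (hna : ∃ η ∈ P, ∃ θ ∈ P, η * θ ≠ θ * η)
    (hS : ∀ k : H, k * σ = σ * k → ∃ n : ℕ, (ζ * k * ζ⁻¹ * k⁻¹) ^ 2 ^ n = 1)
    (hZS : ∃ κ ∈ P, κ * σ * κ⁻¹ = ζ * σ) : IsLargeExtraspecial P := by
  haveI : Fact (Nat.Prime 2) := ⟨Nat.prime_two⟩
  have hζmem : ζ ∈ (Subgroup.center ↥P).map P.subtype := by
    rw [mem_center_map]
    exact ⟨hζP, fun r hr => (hζc r hr).symm⟩
  refine ⟨?_, ?_, ?_, ?_⟩
  · -- extraspecial
    apply isExtraspecial_two_of hP2 ⟨ζ, hζP⟩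
    · intro hc
      exact hζ1 (congrArg Subtype.val hc)
    · exact Subtype.ext hζ2
    · intro x hx
      have hx' : ∀ η ∈ P, (x : H) * η = η * x := fun η hη => congrArg Subtype.val (hx ⟨η, hη⟩)
      rcases hcent (x : H) hx' with h1 | h1
      · left; exact Subtype.ext h1
      · right; exact Subtype.ext h1
    · intro y
      exact Subtype.ext (hζc y.1 y.2)
    · intro x
      rcases hsq x.1 x.2 with h1 | h1
      · left; exact Subtype.ext h1
      · right; exact Subtype.ext h1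
    · intro x y
      rcases hcomm x.1 x.2 y.1 y.2 with h1 | h1
      · left; exact Subtype.ext h1
      · right; exact Subtype.ext h1
    · obtain ⟨η, hη, θ, hθ, hne⟩ := hna
      exact ⟨⟨η, hη⟩, ⟨θ, hθ⟩, fun hc => hne (congrArg Subtype.val hc)⟩
  · -- self-centralizing
    apply le_antisymm
    · intro ξ hξ
      rw [Subgroup.mem_centralizer_iff] at hξ
      have hξ' : ∀ η ∈ P, ξ * η = η * ξ := fun η hη => (hξ η hη).symm
      rw [mem_center_map]
      refine ⟨?_, fun r hr => hξ r hr⟩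
      rcases hcent ξ hξ' with h1 | h1
      · rw [h1]; exact P.one_mem
      · rw [h1]; exact hζP
    · intro c hc
      rw [mem_center_map] at hc
      rw [Subgroup.mem_centralizer_iff]
      exact fun r hr => hc.2 r hr
  · -- the centralizer of the centre normalizes
    intro ξ hξ
    rw [Subgroup.mem_centralizer_iff] at hξ
    have hξζ : ξ * ζ = ζ * ξ := (hξ _ hζmem).symm
    have hξζ' : ξ⁻¹ * ζ = ζ * ξ⁻¹ := by
      calc ξ⁻¹ * ζ = ξ⁻¹ * (ζ * ξ) * ξ⁻¹ := by group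
        _ = ξ⁻¹ * (ξ * ζ) * ξ⁻¹ := by rw [hξζ]
        _ = ζ * ξ⁻¹ := by group
    rw [Subgroup.mem_normalizer_iff]
    intro η
    constructor
    · intro hη
      exact hnorm ξ hξζ η hη
    · intro hη
      have := hnorm ξ⁻¹ hξζ' _ hη
      have e : ξ⁻¹ * (ξ * η * ξ⁻¹) * ξ⁻¹⁻¹ = η := by group
      rwa [e] at this
  · -- odd-order subgroups
    intro K hK hPK
    have hnormK : ∀ η ∈ P, ∀ k ∈ K, η * k * η⁻¹ ∈ K := by
      intro η hη k hk
      exact (Subgroup.mem_normalizer_iff.1 (hPK hη) k).1 hk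
    have hP2' : ∀ η ∈ P, ∃ n : ℕ, η ^ 2 ^ n = 1 := by
      intro η hη
      obtain ⟨n, hn⟩ := hP2 ⟨η, hη⟩
      exact ⟨n, congrArg Subtype.val hn⟩
    have claimZ : ∀ k ∈ K, k * ζ = ζ * k → k = 1 := by
      intro k hk hkζ
      have hcent' : ∀ η ∈ P, k * η = η * k := by
        intro η hη
        have hc1 : η * k * η⁻¹ * k⁻¹ ∈ P := by
          have h1 := hnorm k hkζ _ (P.inv_mem hη)
          have e : η * k * η⁻¹ * k⁻¹ = η * (k * η⁻¹ * k⁻¹) := by group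
          rw [e]
          exact P.mul_mem hη h1
        have hc2 : η * k * η⁻¹ * k⁻¹ ∈ K := K.mul_mem (hnormK η hη k hk) (K.inv_mem hk)
        obtain ⟨n, hn⟩ := hP2' _ hc1
        have h1 := eq_one_of_two_pow_of_odd hK hc2 hn
        calc k * η = (η * k * η⁻¹ * k⁻¹)⁻¹ * (η * k) := by group
          _ = η * k := by rw [h1, inv_one, one_mul]
      rcases hcent k hcent' with h1 | h1
      · exact h1
      · have hn : k ^ 2 ^ 1 = 1 := by
          rw [pow_one, pow_two, h1]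
          exact hζ2
        exact eq_one_of_two_pow_of_odd hK hk hn
    have claimS : ∀ k ∈ K, k * σ = σ * k → k = 1 := by
      intro k hk hkσ
      apply claimZ k hk
      have hc2 : ζ * k * ζ⁻¹ * k⁻¹ ∈ K := K.mul_mem (hnormK ζ hζP _ hk) (K.inv_mem hk)
      obtain ⟨n, hn⟩ := hS k hkσ
      have h1 := eq_one_of_two_pow_of_odd hK hc2 hn
      calc k * ζ = (ζ * k * ζ⁻¹ * k⁻¹)⁻¹ * (ζ * k) := by group
        _ = ζ * k := by rw [h1, inv_one, one_mul]
    have claimZS : ∀ k ∈ K, k * (ζ * σ) = (ζ * σ) * k → k = 1 := by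
      intro k hk hkζσ
      obtain ⟨κ, hκP, hκσ⟩ := hZS
      have hk' : κ⁻¹ * k * κ ∈ K := by
        have := hnormK κ⁻¹ (P.inv_mem hκP) k hk
        rwa [inv_inv] at this
      have hcomm' : (κ⁻¹ * k * κ) * σ = σ * (κ⁻¹ * k * κ) := by
        calc (κ⁻¹ * k * κ) * σ = κ⁻¹ * (k * (κ * σ * κ⁻¹)) * κ := by group
          _ = κ⁻¹ * ((κ * σ * κ⁻¹) * k) * κ := by rw [hκσ, hkζσ]
          _ = σ * (κ⁻¹ * k * κ) := by group
      have h1 := claimS _ hk' hcomm'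
      calc k = κ * (κ⁻¹ * k * κ) * κ⁻¹ := by group
        _ = 1 := by rw [h1]; group
    have hcop : ¬ 2 ∣ Nat.card K := by
      rw [← even_iff_two_dvd, Nat.not_even_iff_odd]
      exact hK
    have hζσ : ζ * σ = σ * ζ := hζc σ hσP
    have hle : K ≤ ⊥ := by
      apply Cfsg.Agent.Lib.Helper48_Generation.le_of_centralizers_le (p := 2) K hcop ζ σ
        (hPK hζP) (hPK hσP) (by rw [pow_two]; exact hζ2) (by rw [pow_two]; exact hσ2) hζσ ⊥
      · intro k hk0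
        rw [Subgroup.mem_inf] at hk0
        obtain ⟨hk, hkc⟩ := hk0
        rw [Subgroup.mem_bot]
        apply claimS k hk
        rw [Subgroup.mem_centralizer_iff] at hkc
        exact (hkc σ (Set.mem_singleton σ)).symm
      · intro i k hk0
        rw [Subgroup.mem_inf] at hk0
        obtain ⟨hk, hkc⟩ := hk0
        rw [Subgroup.mem_bot]
        rw [Subgroup.mem_centralizer_iff] at hkc
        have hkc' := (hkc _ (Set.mem_singleton _)).symm
        obtain ⟨m, rfl | rfl⟩ := Nat.even_or_odd' i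
        · have e : σ ^ (2 * m) = 1 := by
            rw [pow_mul, pow_two, hσ2, one_pow]
          rw [e, mul_one] at hkc'
          exact claimZ k hk hkc'
        · have e : σ ^ (2 * m + 1) = σ := by
            rw [pow_succ, pow_mul, pow_two, hσ2, one_pow, one_mul]
          rw [e] at hkc'
          exact claimZS k hk hkc'
    exact le_bot_iff.1 hle

/-! ### the odd-order setting -/

/-- the context: a pair `Q, Qs` of `LES` type and a subgroup `A` of odd order centralizing the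
two central involutions -/
structure CtxA (Q Qs A : Subgroup G) (z s : G) : Prop where
  pair : Pair Q Qs z s
  p2 : IsPGroup 2 Q
  p2s : IsPGroup 2 Qs
  odd : Odd (Nat.card A)
  Az : ∀ a ∈ A, a * z = z * a
  As : ∀ a ∈ A, a * s = s * a

variable {Q Qs A : Subgroup G} {z s : G}

theorem mem_cA {x : G} : x ∈ Subgroup.centralizer (A : Set G) ↔ ∀ a ∈ A, a * x = x * a :=
  Subgroup.mem_centralizer_iff

theorem mem_centralizer_sup {H K : Subgroup G} {x : G} :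
    x ∈ Subgroup.centralizer ((H ⊔ K : Subgroup G) : Set G) ↔
      (∀ h ∈ H, h * x = x * h) ∧ (∀ k ∈ K, k * x = x * k) := by
  rw [Subgroup.mem_centralizer_iff]
  constructor
  · intro h
    exact ⟨fun a ha => h a (Subgroup.mem_sup_left ha), fun a ha => h a (Subgroup.mem_sup_right ha)⟩
  · rintro ⟨h1, h2⟩ y hy
    have hle : H ⊔ K ≤ Subgroup.centralizer ({x} : Set G) := by
      apply sup_le
      · intro a ha
        rw [mem_ct]
        exact h1 a ha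
      · intro a ha
        rw [mem_ct]
        exact h2 a ha
    exact mem_ct.1 (hle hy)

theorem CtxA.exists_q [Finite G] (h : CtxA Q Qs A z s) :
    ∃ q ∈ Q, (∀ a ∈ A, a * q = q * a) ∧ q * s * q⁻¹ = z * s :=
  exists_fixed_not_comm h.pair.l1 h.p2 h.odd (fun a ha => h.pair.n1 a (h.Az a ha)) h.Az
    h.pair.m21 h.As h.pair.l2.ne_one (Ne.symm h.pair.ne)

theorem CtxA.exists_r [Finite G] (h : CtxA Q Qs A z s) :
    ∃ r ∈ Qs, (∀ a ∈ A, a * r = r * a) ∧ r * z * r⁻¹ = s * z :=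
  exists_fixed_not_comm h.pair.l2 h.p2s h.odd (fun a ha => h.pair.n2 a (h.As a ha)) h.As
    h.pair.m12 h.Az h.pair.l1.ne_one h.pair.ne

/-- `s` is conjugate to `z` inside `⟨C_Q(A), C_{Qs}(A)⟩` -/
theorem CtxA.conj_to_z [Finite G] (h : CtxA Q Qs A z s) :
    ∃ x ∈ (Q ⊓ Subgroup.centralizer (A : Set G)) ⊔ (Qs ⊓ Subgroup.centralizer (A : Set G)),
      x * s * x⁻¹ = z := by
  obtain ⟨q, hq, hqA, hqs⟩ := h.exists_q
  obtain ⟨r, hr, hrA, hrz⟩ := h.exists_r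
  refine ⟨r * q, ?_, ?_⟩
  · apply Subgroup.mul_mem
    · exact Subgroup.mem_sup_right ⟨hr, mem_cA.2 hrA⟩
    · exact Subgroup.mem_sup_left ⟨hq, mem_cA.2 hqA⟩
  · have hrs : r * s * r⁻¹ = s := by
      rw [h.pair.l2.central r hr, mul_assoc, mul_inv_cancel, mul_one]
    calc r * q * s * (r * q)⁻¹ = r * (q * s * q⁻¹) * r⁻¹ := by group
      _ = (r * z * r⁻¹) * (r * s * r⁻¹) := by rw [hqs]; group
      _ = s * z * s := by rw [hrz, hrs]
      _ = z * (s * s) := by rw [← h.pair.comm12]; group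
      _ = z := by rw [h.pair.l2.sq, mul_one]

/-! ### the quotient `M/A` -/

section quotA

variable (M : Subgroup G) [hn : (A.subgroupOf M).Normal]

theorem mkA_eq_one_iff (m : ↥M) :
    (QuotientGroup.mk m : ↥M ⧸ A.subgroupOf M) = 1 ↔ (m : G) ∈ A := by
  rw [QuotientGroup.eq_one_iff, Subgroup.mem_subgroupOf]

theorem mkA_eq_iff (m m' : ↥M) :
    (QuotientGroup.mk m : ↥M ⧸ A.subgroupOf M) = QuotientGroup.mk m' ↔ (m : G)⁻¹ * m' ∈ A := by
  rw [QuotientGroup.eq, Subgroup.mem_subgroupOf]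
  rfl

theorem mem_mapA (R : Subgroup G) (ξ : ↥M ⧸ A.subgroupOf M) :
    ξ ∈ (R.subgroupOf M).map (QuotientGroup.mk' (A.subgroupOf M)) ↔
      ∃ x : ↥M, (x : G) ∈ R ∧ (QuotientGroup.mk x : ↥M ⧸ A.subgroupOf M) = ξ := by
  rw [Subgroup.mem_map]
  constructor
  · rintro ⟨x, hx, rfl⟩
    exact ⟨x, Subgroup.mem_subgroupOf.1 hx, rfl⟩
  · rintro ⟨x, hx, rfl⟩
    exact ⟨x, Subgroup.mem_subgroupOf.2 hx, rfl⟩

variable {M}

theorem exists_rep (hCM : Subgroup.centralizer (A : Set G) ≤ M)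
    (hrep : ∀ m ∈ M, ∃ c ∈ Subgroup.centralizer (A : Set G), ∃ a ∈ A, m = c * a)
    (ξ : ↥M ⧸ A.subgroupOf M) :
    ∃ c : ↥M, (c : G) ∈ Subgroup.centralizer (A : Set G) ∧
      (QuotientGroup.mk c : ↥M ⧸ A.subgroupOf M) = ξ := by
  obtain ⟨m, rfl⟩ := QuotientGroup.mk_surjective ξ
  obtain ⟨c, hc, a, ha, hm⟩ := hrep m.1 m.2
  refine ⟨⟨c, hCM hc⟩, hc, ?_⟩
  rw [mkA_eq_iff]
  show c⁻¹ * (m : G) ∈ A
  rw [hm]
  have : c⁻¹ * (c * a) = a := by group
  rw [this]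
  exact ha

theorem lift_comm [Finite G] (hodd : Odd (Nat.card A)) (c u : ↥M)
    (hu : (u : G) ∈ Subgroup.centralizer (A : Set G)) {k : ℕ} (hu2 : (u : G) ^ 2 ^ k = 1)
    (h : (QuotientGroup.mk c : ↥M ⧸ A.subgroupOf M) * QuotientGroup.mk u =
      QuotientGroup.mk u * QuotientGroup.mk c) : (c : G) * u = u * c := by
  rw [← QuotientGroup.mk_mul, ← QuotientGroup.mk_mul, mkA_eq_iff] at h
  have ha : ((c : G) * u)⁻¹ * ((u : G) * c) ∈ A := h
  set a := ((c : G) * u)⁻¹ * ((u : G) * c) with hadef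
  have hconj : (c : G)⁻¹ * u * (c : G)⁻¹⁻¹ = u * a := by
    rw [hadef]; group
  have hua : (u : G) * a = a * u := ((mem_cA.1 hu) a ha).symm
  have hpow : a ^ Nat.card A = 1 := by
    have := pow_card_eq_one' (G := ↥A) (x := ⟨a, ha⟩)
    exact congrArg Subtype.val this
  have h1 := eq_one_of_conj_mul hconj hua hu2 hodd hpow
  rw [h1, mul_one, inv_inv] at hconj
  calc (c : G) * u = (c : G) * ((c : G)⁻¹ * u * c) := by rw [hconj]
    _ = u * c := by group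

/-- **the image of `C_Q(A)` is a large extraspecial subgroup of `M/A`** -/
theorem CtxA.isLargeExtraspecial [Finite G] (h : CtxA Q Qs A z s)
    (hCM : Subgroup.centralizer (A : Set G) ≤ M)
    (hrep : ∀ m ∈ M, ∃ c ∈ Subgroup.centralizer (A : Set G), ∃ a ∈ A, m = c * a)
    (hD : ∀ d : G, (∀ a ∈ A, a * d = d * a) →
      (∀ r ∈ Q, (∀ a ∈ A, a * r = r * a) → r * d = d * r) → d ∈ A ∨ ∃ a ∈ A, d = z * a)
    (hna : ∃ x ∈ Q, ∃ y ∈ Q, (∀ a ∈ A, a * x = x * a) ∧ (∀ a ∈ A, a * y = y * a) ∧ x * y ≠ y * x) :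
    IsLargeExtraspecial (((Q ⊓ Subgroup.centralizer (A : Set G)).subgroupOf M).map
      (QuotientGroup.mk' (A.subgroupOf M))) := by
  have hzC : z ∈ Subgroup.centralizer (A : Set G) := mem_cA.2 h.Az
  have hsC : s ∈ Subgroup.centralizer (A : Set G) := mem_cA.2 h.As
  have hzz := h.pair.l1.sq
  have hss := h.pair.l2.sq
  have hz2 : z ^ 2 ^ 1 = 1 := by rw [pow_one, pow_two]; exact hzz
  have hs2 : s ^ 2 ^ 1 = 1 := by rw [pow_one, pow_two]; exact hss
  -- 2-elements of `Q` and `Qs`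
  have hQ2 : ∀ r ∈ Q, ∃ k : ℕ, r ^ 2 ^ k = 1 := by
    intro r hr
    obtain ⟨k, hk⟩ := h.p2 ⟨r, hr⟩
    exact ⟨k, congrArg Subtype.val hk⟩
  have hQs2 : ∀ r ∈ Qs, ∃ k : ℕ, r ^ 2 ^ k = 1 := by
    intro r hr
    obtain ⟨k, hk⟩ := h.p2s ⟨r, hr⟩
    exact ⟨k, congrArg Subtype.val hk⟩
  set P := ((Q ⊓ Subgroup.centralizer (A : Set G)).subgroupOf M).map
    (QuotientGroup.mk' (A.subgroupOf M)) with hPdef
  have memP : ∀ ξ : ↥M ⧸ A.subgroupOf M, ξ ∈ P ↔ ∃ x : ↥M,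
      (x : G) ∈ Q ⊓ Subgroup.centralizer (A : Set G) ∧
      (QuotientGroup.mk x : ↥M ⧸ A.subgroupOf M) = ξ := fun ξ => mem_mapA M _ ξ
  set zM : ↥M := ⟨z, hCM hzC⟩ with hzM
  set sM : ↥M := ⟨s, hCM hsC⟩ with hsM
  have hζP : (QuotientGroup.mk zM : ↥M ⧸ A.subgroupOf M) ∈ P :=
    (memP _).2 ⟨zM, ⟨h.pair.l1.mem, hzC⟩, rfl⟩
  have hσP : (QuotientGroup.mk sM : ↥M ⧸ A.subgroupOf M) ∈ P :=
    (memP _).2 ⟨sM, ⟨h.pair.m21, hsC⟩, rfl⟩
  have hmk1 : ∀ m : ↥M, (m : G) = 1 → (QuotientGroup.mk m : ↥M ⧸ A.subgroupOf M) = 1 := by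
    intro m hm
    rw [mkA_eq_one_iff, hm]
    exact A.one_mem
  have hmkz : ∀ m : ↥M, (m : G) = z → (QuotientGroup.mk m : ↥M ⧸ A.subgroupOf M) =
      QuotientGroup.mk zM := by
    intro m hm
    have : m = zM := Subtype.ext hm
    rw [this]
  apply isLargeExtraspecial_of P (QuotientGroup.mk zM) (QuotientGroup.mk sM)
  · exact ((h.p2.to_le inf_le_left).comap_subtype).map _
  · exact hζP
  · exact hσP
  · rw [Ne, mkA_eq_one_iff]
    intro hzA
    exact h.pair.l1.ne_one (eq_one_of_two_pow_of_odd h.odd hzA hz2)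
  · rw [← QuotientGroup.mk_mul]
    exact hmk1 _ hzz
  · rw [← QuotientGroup.mk_mul]
    exact hmk1 _ hss
  · intro η hη
    obtain ⟨x, hx, rfl⟩ := (memP η).1 hη
    rw [← QuotientGroup.mk_mul, ← QuotientGroup.mk_mul]
    congr 1
    exact Subtype.ext (h.pair.l1.central (x : G) hx.1).symm
  · -- centralizer
    intro ξ hξ
    obtain ⟨c, hc, rfl⟩ := exists_rep hCM hrep ξ
    have hcR : ∀ r ∈ Q, (∀ a ∈ A, a * r = r * a) → r * (c : G) = (c : G) * r := by
      intro r hr hrA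
      obtain ⟨k, hk⟩ := hQ2 r hr
      have hrC : r ∈ Subgroup.centralizer (A : Set G) := mem_cA.2 hrA
      have := lift_comm h.odd c ⟨r, hCM hrC⟩ hrC hk
        (hξ _ ((memP _).2 ⟨⟨r, hCM hrC⟩, ⟨hr, hrC⟩, rfl⟩))
      exact this.symm
    rcases hD (c : G) (mem_cA.1 hc) hcR with h1 | ⟨a, ha, h1⟩
    · left
      rw [mkA_eq_one_iff]
      exact h1
    · right
      rw [mkA_eq_iff]
      show (c : G)⁻¹ * z ∈ A
      rw [h1]
      have : (z * a)⁻¹ * z = a⁻¹ * (z⁻¹ * z) := by group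
      rw [this, inv_mul_cancel, mul_one]
      exact A.inv_mem ha
  · -- normalizer
    intro ξ hξ η hη
    obtain ⟨c, hc, rfl⟩ := exists_rep hCM hrep ξ
    obtain ⟨x, hx, rfl⟩ := (memP η).1 hη
    have hcz : (c : G) * z = z * c := lift_comm h.odd c zM hzC hz2 hξ
    rw [← QuotientGroup.mk_inv, ← QuotientGroup.mk_mul, ← QuotientGroup.mk_mul]
    refine (memP _).2 ⟨c * x * c⁻¹, ⟨h.pair.n1 (c : G) hcz (x : G) hx.1, ?_⟩, rfl⟩
    exact Subgroup.mul_mem _ (Subgroup.mul_mem _ hc hx.2) (Subgroup.inv_mem _ hc)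
  · -- squares
    intro η hη
    obtain ⟨x, hx, rfl⟩ := (memP η).1 hη
    rw [← QuotientGroup.mk_mul]
    rcases h.pair.s1 (x : G) hx.1 with h1 | h1
    · left; exact hmk1 _ h1
    · right; exact hmkz _ h1
  · -- commutators
    intro η hη θ hθ
    obtain ⟨x, hx, rfl⟩ := (memP η).1 hη
    obtain ⟨y, hy, rfl⟩ := (memP θ).1 hθ
    rw [← QuotientGroup.mk_inv, ← QuotientGroup.mk_inv, ← QuotientGroup.mk_mul,
      ← QuotientGroup.mk_mul, ← QuotientGroup.mk_mul]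
    rcases h.pair.l1.comm (x : G) hx.1 (y : G) hy.1 with h1 | h1
    · left; exact hmk1 _ h1
    · right; exact hmkz _ h1
  · -- nonabelian
    obtain ⟨x, hx, y, hy, hxA, hyA, hxy⟩ := hna
    have hxC : x ∈ Subgroup.centralizer (A : Set G) := mem_cA.2 hxA
    have hyC : y ∈ Subgroup.centralizer (A : Set G) := mem_cA.2 hyA
    refine ⟨QuotientGroup.mk ⟨x, hCM hxC⟩, (memP _).2 ⟨_, ⟨hx, hxC⟩, rfl⟩,
      QuotientGroup.mk ⟨y, hCM hyC⟩, (memP _).2 ⟨_, ⟨hy, hyC⟩, rfl⟩, ?_⟩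
    intro hc
    obtain ⟨k, hk⟩ := hQ2 y hy
    exact hxy (lift_comm h.odd ⟨x, hCM hxC⟩ ⟨y, hCM hyC⟩ hyC hk hc)
  · -- the centralizer of `σ`
    intro κ hκ
    obtain ⟨c, hc, rfl⟩ := exists_rep hCM hrep κ
    have hcs : (c : G) * s = s * c := lift_comm h.odd c sM hsC hs2 hκ
    have hu : z * ((c : G) * z⁻¹ * (c : G)⁻¹) ∈ Qs :=
      Qs.mul_mem h.pair.m12 (h.pair.n2 (c : G) hcs _ (Qs.inv_mem h.pair.m12))
    obtain ⟨n, hn⟩ := hQs2 _ hu
    refine ⟨n, ?_⟩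
    rw [← QuotientGroup.mk_inv, ← QuotientGroup.mk_inv, ← QuotientGroup.mk_mul,
      ← QuotientGroup.mk_mul, ← QuotientGroup.mk_mul, ← QuotientGroup.mk_pow]
    apply hmk1
    have e : (((zM * c * zM⁻¹ * c⁻¹) ^ 2 ^ n : ↥M) : G) =
        (z * (c : G) * z⁻¹ * (c : G)⁻¹) ^ 2 ^ n := rfl
    rw [e, ← hn]
    congr 1
    group
  · -- fusion of `σ` and `ζ σ`
    obtain ⟨q, hq, hqA, hqs⟩ := h.exists_q
    have hqC : q ∈ Subgroup.centralizer (A : Set G) := mem_cA.2 hqA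
    refine ⟨QuotientGroup.mk ⟨q, hCM hqC⟩, (memP _).2 ⟨_, ⟨hq, hqC⟩, rfl⟩, ?_⟩
    rw [← QuotientGroup.mk_inv, ← QuotientGroup.mk_mul, ← QuotientGroup.mk_mul,
      ← QuotientGroup.mk_mul]
    congr 1
    exact Subtype.ext hqs

end quotA

end Cfsg.Agent.Lib.Helper63_LESOdd
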