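import Mathlib
import Cfsg.Agent.Lib.Helper74_M11UDefs

/-!
# S0420 package A1 (helper63, for helper74's market)

The Sylow 3-subgroups of a group with the local structure `Loc G` of a simple group of order
`7920`: order 9, abelian of exponent 3, self-centralizing, TI, containing every 3-element of their
normalizer, and 55 in number.
-/

set_option autoImplicit false
set_option linter.unusedSectionVars false

namespace Cfsg.Agent.Lib.Helper63_M11U_A1

open Cfsg.Agent.Lib.Helper74_M11UDefs

universe u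

variable {G : Type u} [Group G] [Finite G]

theorem fact7920 : (7920 : ℕ).factorization 3 = 2 := by
  have h1 : (7920 : ℕ) = 3 ^ 2 * 880 := by norm_num
  rw [h1, Nat.factorization_mul (by norm_num) (by norm_num),
    Nat.Prime.factorization_pow (by norm_num)]
  simp only [Finsupp.coe_add, Pi.add_apply]
  rw [Nat.factorization_eq_zero_of_not_dvd (by norm_num)]
  simp

theorem cardP (h : Loc G) (P : Sylow 3 G) : Nat.card ↥(P : Subgroup G) = 9 := by
  have h1 := P.card_eq_multiplicity
  rw [h.card, fact7920] at h1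
  rw [h1]
  norm_num

theorem comm (h : Loc G) (P : Sylow 3 G) :
    ∀ a ∈ (P : Subgroup G), ∀ b ∈ (P : Subgroup G), a * b = b * a := by
  intro a ha b hb
  have h9 : Nat.card ↥(P : Subgroup G) = 3 ^ 2 := by rw [cardP h P]; norm_num
  have h1 := (IsPGroup.isMulCommutative_of_card_eq_prime_sq h9).is_comm.comm
    (⟨a, ha⟩ : ↥(P : Subgroup G)) ⟨b, hb⟩
  exact congrArg Subtype.val h1

theorem exp3 (h : Loc G) (P : Sylow 3 G) : ∀ a ∈ (P : Subgroup G), a ^ 3 = 1 := by
  intro a ha
  have h1 : orderOf (⟨a, ha⟩ : ↥(P : Subgroup G)) ∣ 9 := by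
    rw [← cardP h P]; exact orderOf_dvd_natCard _
  have h2 : orderOf a ∣ 9 := by
    rw [← Subgroup.orderOf_mk a ha]; exact h1
  have h3 : orderOf a ∣ 3 ^ 2 := by norm_num; exact h2
  obtain ⟨k, hk, hk2⟩ := (Nat.dvd_prime_pow Nat.prime_three).1 h3
  have h9 := h.no9 a
  have hk1 : k ≤ 1 := by
    by_contra hc
    have : k = 2 := by omega
    rw [this] at hk2
    exact h9 (by rw [hk2]; norm_num)
  apply orderOf_dvd_iff_pow_eq_one.1
  rw [hk2]
  calc 3 ^ k ∣ 3 ^ 1 := pow_dvd_pow 3 hk1
    _ = 3 := pow_one 3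

/-- a nonidentity element of a Sylow 3-subgroup has order 3 -/
theorem orderOf_eq_three (h : Loc G) (P : Sylow 3 G) {y : G} (hy : y ∈ (P : Subgroup G))
    (hy1 : y ≠ 1) : orderOf y = 3 := by
  have : Fact (Nat.Prime 3) := ⟨Nat.prime_three⟩
  exact orderOf_eq_prime (exp3 h P y hy) hy1

/-- `P` lies in the centralizer of each of its elements -/
theorem le_CC (h : Loc G) (P : Sylow 3 G) {y : G} (hy : y ∈ (P : Subgroup G)) :
    (P : Subgroup G) ≤ CC y := by
  intro x hx
  rw [Subgroup.mem_centralizer_iff]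
  intro z hz
  rw [Set.mem_singleton_iff] at hz
  subst hz
  exact comm h P z hy x hx

theorem exists_ne_one (h : Loc G) (P : Sylow 3 G) : ∃ y ∈ (P : Subgroup G), y ≠ 1 := by
  by_contra hc
  push Not at hc
  have hbot : (P : Subgroup G) = ⊥ := by
    rw [eq_bot_iff]
    intro x hx
    rw [Subgroup.mem_bot]
    exact hc x hx
  have := cardP h P
  rw [hbot, Subgroup.card_bot] at this
  omega

theorem cent (h : Loc G) (P : Sylow 3 G) :
    Subgroup.centralizer ((P : Subgroup G) : Set G) = (P : Subgroup G) := by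
  have hPC : (P : Subgroup G) ≤ Subgroup.centralizer ((P : Subgroup G) : Set G) := by
    intro x hx
    rw [Subgroup.mem_centralizer_iff]
    intro z hz
    exact comm h P z hz x hx
  obtain ⟨y, hy, hy1⟩ := exists_ne_one h P
  have hCy : Subgroup.centralizer ((P : Subgroup G) : Set G) ≤ CC y :=
    Subgroup.centralizer_le (Set.singleton_subset_iff.2 hy)
  have h18 : Nat.card ↥(CC y) = 18 := h.c3 y (orderOf_eq_three h P hy hy1)
  have hd1 : 9 ∣ Nat.card ↥(Subgroup.centralizer ((P : Subgroup G) : Set G)) := by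
    rw [← cardP h P]; exact Subgroup.card_dvd_of_le hPC
  have hd2 : Nat.card ↥(Subgroup.centralizer ((P : Subgroup G) : Set G)) ∣ 18 := by
    rw [← h18]; exact Subgroup.card_dvd_of_le hCy
  have hle := Nat.le_of_dvd (by norm_num) hd2
  have hpos : 0 < Nat.card ↥(Subgroup.centralizer ((P : Subgroup G) : Set G)) := Nat.card_pos
  have hcases : Nat.card ↥(Subgroup.centralizer ((P : Subgroup G) : Set G)) = 9 ∨
      Nat.card ↥(Subgroup.centralizer ((P : Subgroup G) : Set G)) = 18 := by omega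
  rcases hcases with h9 | h18'
  · symm
    apply Subgroup.eq_of_le_of_card_ge hPC
    rw [h9, cardP h P]
  · exfalso
    have : Fact (Nat.Prime 2) := ⟨Nat.prime_two⟩
    have h2 : 2 ∣ Nat.card ↥(Subgroup.centralizer ((P : Subgroup G) : Set G)) := by
      rw [h18']; norm_num
    obtain ⟨q, hq⟩ := exists_prime_orderOf_dvd_card' 2 h2
    have hq' : orderOf (q : G) = 2 := by rw [Subgroup.orderOf_coe]; exact hq
    exact h.t3a P (q : G) hq' q.2

/-- the centralizer of a nonidentity element of `P` normalizes `P` -/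
theorem CC_le_NN (h : Loc G) (P : Sylow 3 G) {y : G} (hy : y ∈ (P : Subgroup G)) (hy1 : y ≠ 1) :
    CC y ≤ NN P := by
  have hle := le_CC h P hy
  have h18 : Nat.card ↥(CC y) = 18 := h.c3 y (orderOf_eq_three h P hy hy1)
  have hidx : ((P : Subgroup G).subgroupOf (CC y)).index = 2 := by
    have h1 := Subgroup.card_mul_index ((P : Subgroup G).subgroupOf (CC y))
    rw [Nat.card_congr (Subgroup.subgroupOfEquivOfLe hle).toEquiv, cardP h P, h18] at h1
    omega
  have hn : ((P : Subgroup G).subgroupOf (CC y)).Normal := Subgroup.normal_of_index_eq_two hidx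
  exact (Subgroup.normal_subgroupOf_iff_le_normalizer hle).1 hn

/-- a 3-subgroup normalizing `P` lies in `P` -/
theorem le_of_le_NN (P : Sylow 3 G) {Q : Subgroup G} (hQ : IsPGroup 3 Q) (hQN : Q ≤ NN P) :
    Q ≤ (P : Subgroup G) := by
  have h1 : Q ⊓ NN P = Q ⊓ (P : Subgroup G) := hQ.inf_normalizer_sylow P
  have h2 : Q ⊓ NN P = Q := inf_eq_left.2 hQN
  rw [h2] at h1
  exact inf_eq_left.1 h1.symm

theorem ti (h : Loc G) (P Q : Sylow 3 G) (hPQ : P ≠ Q) (y : G) (hyP : y ∈ (P : Subgroup G))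
    (hyQ : y ∈ (Q : Subgroup G)) : y = 1 := by
  by_contra hy1
  apply hPQ
  have h1 : (Q : Subgroup G) ≤ NN P := (le_CC h Q hyQ).trans (CC_le_NN h P hyP hy1)
  have h2 : (Q : Subgroup G) ≤ (P : Subgroup G) := le_of_le_NN P Q.isPGroup' h1
  have h3 : (Q : Subgroup G) = (P : Subgroup G) := by
    apply Subgroup.eq_of_le_of_card_ge h2
    rw [cardP h P, cardP h Q]
  exact (Sylow.ext h3).symm

theorem mem_of_norm (P : Sylow 3 G) (g : G) (hg3 : g ^ 3 = 1) (hgN : g ∈ NN P) :
    g ∈ (P : Subgroup G) := by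
  have hz : IsPGroup 3 (Subgroup.zpowers g) := by
    rw [IsPGroup.iff_orderOf]
    intro x
    have hx : x ^ 3 = 1 := by
      obtain ⟨x, hx⟩ := x
      obtain ⟨k, rfl⟩ := Subgroup.mem_zpowers_iff.1 hx
      apply Subtype.ext
      show (g ^ k) ^ 3 = 1
      rw [← zpow_natCast, ← zpow_mul, mul_comm, zpow_mul, zpow_natCast, hg3, one_zpow]
    have hd : orderOf x ∣ 3 ^ 1 := by rw [pow_one]; exact orderOf_dvd_of_pow_eq_one hx
    obtain ⟨k, -, hk⟩ := (Nat.dvd_prime_pow Nat.prime_three).1 hd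
    exact ⟨k, hk⟩
  have hle : Subgroup.zpowers g ≤ NN P := by
    rw [Subgroup.zpowers_le]; exact hgN
  exact le_of_le_NN P hz hle (Subgroup.mem_zpowers g)

theorem card_syl (h : Loc G) : Nat.card (Sylow 3 G) = 55 := by
  obtain ⟨P⟩ : Nonempty (Sylow 3 G) := inferInstance
  have h1 : Nat.card (Sylow 3 G) = (NN P).index := Sylow.card_eq_index_normalizer P
  have h2 := Subgroup.card_mul_index (NN P)
  rw [h.n3 P, h.card] at h2
  rw [h1]
  omega

theorem A1 (h : Loc G) : LocP G where
  cardP := cardP h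
  comm := comm h
  exp3 := exp3 h
  cent := cent h
  ti := ti h
  mem_of_norm := mem_of_norm
  card_syl := card_syl h

end Cfsg.Agent.Lib.Helper63_M11U_A1
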