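import Mathlib
import Cfsg.Agent.Lib.Helper74_M11UDefs

/-!
# S0420 package LINV (helper63, for helper74's market)

In a group with the local structure of a simple group of order 7920: if `D ≤ N(P)` is a 2-group of
order at least 8 (`P` a Sylow 3-subgroup) and `w` is an involution in the centre of `D`, then `w`
inverts `P`.
-/

set_option autoImplicit false
set_option linter.unusedSectionVars false

namespace Cfsg.Agent.Lib.Helper63_M11U_LINV

open Cfsg.Agent.Lib.Helper74_M11UDefs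

universe u

variable {G : Type u} [Group G] [Finite G]

/-- the elements of `zpowers a` when `a ^ 3 = 1` -/
theorem mem_zpowers_three {a x : G} (ha : a ^ 3 = 1) (hx : x ∈ Subgroup.zpowers a) :
    x = 1 ∨ x = a ∨ x = a⁻¹ := by
  obtain ⟨k, rfl⟩ := Subgroup.mem_zpowers_iff.1 hx
  have h3 : a ^ (3 : ℤ) = 1 := by exact_mod_cast ha
  have hk : a ^ k = a ^ (k % 3) := by
    conv_lhs => rw [← Int.mul_ediv_add_emod k 3]
    rw [zpow_add, zpow_mul, h3, one_zpow, one_mul]
  have hcases : k % 3 = 0 ∨ k % 3 = 1 ∨ k % 3 = 2 := by omega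
  rcases hcases with h0 | h1 | h2
  · left; rw [hk, h0, zpow_zero]
  · right; left; rw [hk, h1, zpow_one]
  · right; right
    rw [hk, h2]
    apply eq_inv_of_mul_eq_one_left
    have : a ^ (2 : ℤ) * a = a ^ (3 : ℤ) := by
      rw [show (3 : ℤ) = 2 + 1 by norm_num, zpow_add, zpow_one]
    rw [this, h3]

/-- `x = x⁻¹` and `x ^ 3 = 1` force `x = 1` -/
theorem eq_one_of_eq_inv {x : G} (h1 : x = x⁻¹) (h3 : x ^ 3 = 1) : x = 1 := by
  have h2 : x * x = 1 := by
    nth_rewrite 1 [h1]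
    exact inv_mul_cancel x
  have : x ^ 3 = x := by
    rw [pow_succ, pow_two, h2, one_mul]
  rw [← this, h3]

/-- a subgroup of a group of order 9 containing an element `a` of order 3 is the whole group or
`zpowers a` -/
theorem eq_or_eq_zpowers {E P : Subgroup G} (hEP : E ≤ P) (hP : Nat.card ↥P = 9) {a : G}
    (ha : a ∈ E) (ha1 : a ≠ 1) (ha3 : a ^ 3 = 1) : E = P ∨ E = Subgroup.zpowers a := by
  have : Fact (Nat.Prime 3) := ⟨Nat.prime_three⟩
  have ho : orderOf a = 3 := orderOf_eq_prime ha3 ha1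
  have hz : Nat.card ↥(Subgroup.zpowers a) = 3 := by rw [Nat.card_zpowers, ho]
  have hzE : Subgroup.zpowers a ≤ E := by rw [Subgroup.zpowers_le]; exact ha
  have hd1 : 3 ∣ Nat.card ↥E := by rw [← hz]; exact Subgroup.card_dvd_of_le hzE
  have hd2 : Nat.card ↥E ∣ 9 := by rw [← hP]; exact Subgroup.card_dvd_of_le hEP
  have hle := Nat.le_of_dvd (by norm_num) hd2
  have hcases : Nat.card ↥E = 3 ∨ Nat.card ↥E = 9 := by
    obtain ⟨c, hc⟩ := hd1
    have hc3 : c = 1 ∨ c = 2 ∨ c = 3 := by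
      have hpos : 0 < Nat.card ↥E := Nat.card_pos
      omega
    rcases hc3 with rfl | rfl | rfl
    · left; omega
    · exfalso
      rw [hc] at hd2
      norm_num at hd2
    · right; omega
  rcases hcases with h3 | h9
  · right
    symm
    apply Subgroup.eq_of_le_of_card_ge hzE
    rw [hz, h3]
  · left
    apply Subgroup.eq_of_le_of_card_ge hEP
    rw [hP, h9]

theorem LINV (h : Loc G) (hp : LocP G) : LInvStmt G := by
  classical
  intro P D hDN hD2 h8 w hwD hw2 hwc
  obtain ⟨n, hn⟩ := hD2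
  have hww : w * w = 1 := by
    have := pow_orderOf_eq_one w
    rw [hw2, pow_two] at this
    exact this
  have hnorm : ∀ g ∈ D, ∀ y ∈ (P : Subgroup G), g * y * g⁻¹ ∈ (P : Subgroup G) :=
    fun g hg y hy => (Subgroup.mem_normalizer_iff.1 (hDN hg) y).1 hy
  have hcomm := hp.comm P
  have hexp := hp.exp3 P
  have hcardP := hp.cardP P
  have hσσ : ∀ x : G, w * (w * x * w⁻¹) * w⁻¹ = x := by
    intro x
    have : w * (w * x * w⁻¹) * w⁻¹ = (w * w) * x * (w * w)⁻¹ := by group
    rw [this, hww, one_mul, inv_one, mul_one]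
  -- conjugation by `g ∈ D` commutes with conjugation by `w`
  have hgσ : ∀ g ∈ D, ∀ x : G, w * (g * x * g⁻¹) * w⁻¹ = g * (w * x * w⁻¹) * g⁻¹ := by
    intro g hg x
    have hgw := hwc g hg
    calc w * (g * x * g⁻¹) * w⁻¹ = (w * g) * x * (w * g)⁻¹ := by group
      _ = (g * w) * x * (g * w)⁻¹ := by rw [hgw]
      _ = g * (w * x * w⁻¹) * g⁻¹ := by group
  -- `D ∩ P = 1`
  have hDP : ∀ c ∈ D, c ∈ (P : Subgroup G) → c = 1 := by
    intro c hcD hcP
    have h1 : c ^ 2 ^ n = 1 := by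
      have := pow_card_eq_one' (G := ↥D) (x := ⟨c, hcD⟩)
      rw [hn] at this
      exact congrArg Subtype.val this
    have h2 : c ^ 3 = 1 := hexp c hcP
    have hd1 : orderOf c ∣ 2 ^ n := orderOf_dvd_of_pow_eq_one h1
    have hd2 : orderOf c ∣ 3 := orderOf_dvd_of_pow_eq_one h2
    have hco : Nat.Coprime (2 ^ n) 3 := Nat.Coprime.pow_left n (by norm_num)
    have : orderOf c = 1 := Nat.eq_one_of_dvd_coprimes hco hd1 hd2
    exact orderOf_eq_one_iff.1 this
  refine ⟨hw2, ?_⟩
  by_contra hnot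
  push Not at hnot
  obtain ⟨y1, hy1P, hy1⟩ := hnot
  -- the fixed element `a`
  obtain ⟨a, ha_def⟩ : ∃ a, a = y1 * (w * y1 * w⁻¹) := ⟨_, rfl⟩
  have haP : a ∈ (P : Subgroup G) := by
    rw [ha_def]; exact mul_mem hy1P (hnorm w hwD y1 hy1P)
  have ha1 : a ≠ 1 := by
    intro h1
    apply hy1
    rw [ha_def] at h1
    exact eq_inv_of_mul_eq_one_right h1
  have haσ : w * a * w⁻¹ = a := by
    calc w * a * w⁻¹ = (w * y1 * w⁻¹) * (w * (w * y1 * w⁻¹) * w⁻¹) := by rw [ha_def]; group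
      _ = (w * y1 * w⁻¹) * y1 := by rw [hσσ]
      _ = y1 * (w * y1 * w⁻¹) := hcomm _ (hnorm w hwD y1 hy1P) _ hy1P
      _ = a := ha_def.symm
  have ha3 : a ^ 3 = 1 := hexp a haP
  -- an element `y0` of `P` not fixed by `w`
  have hex0 : ∃ y0 ∈ (P : Subgroup G), w * y0 * w⁻¹ ≠ y0 := by
    by_contra hc
    push Not at hc
    apply h.t3a P w hw2
    rw [Subgroup.mem_centralizer_iff]
    intro y hy
    have hy' := hc y hy
    calc y * w = (w * y * w⁻¹) * w := by rw [hy']
      _ = w * y := by group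
  obtain ⟨y0, hy0P, hy0⟩ := hex0
  -- the inverted element `b`
  obtain ⟨b, hb_def⟩ : ∃ b, b = y0 * (w * y0 * w⁻¹)⁻¹ := ⟨_, rfl⟩
  have hbP : b ∈ (P : Subgroup G) := by
    rw [hb_def]; exact mul_mem hy0P (inv_mem (hnorm w hwD y0 hy0P))
  have hb1 : b ≠ 1 := by
    intro h1
    apply hy0
    rw [hb_def] at h1
    exact (mul_inv_eq_one.1 h1).symm
  have hbσ : w * b * w⁻¹ = b⁻¹ := by
    calc w * b * w⁻¹ = (w * y0 * w⁻¹) * (w * (w * y0 * w⁻¹) * w⁻¹)⁻¹ := by rw [hb_def]; group
      _ = (w * y0 * w⁻¹) * y0⁻¹ := by rw [hσσ]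
      _ = (y0 * (w * y0 * w⁻¹)⁻¹)⁻¹ := by group
      _ = b⁻¹ := by rw [hb_def]
  have hb3 : b ^ 3 = 1 := hexp b hbP
  -- fixed elements of `P` are `1, a, a⁻¹`
  have hfix : ∀ x ∈ (P : Subgroup G), w * x * w⁻¹ = x → x = 1 ∨ x = a ∨ x = a⁻¹ := by
    intro x hxP hxσ
    have hmem : ∀ z : G, z ∈ (P : Subgroup G) ⊓ CC w ↔ z ∈ (P : Subgroup G) ∧ w * z * w⁻¹ = z := by
      intro z
      rw [Subgroup.mem_inf, Subgroup.mem_centralizer_iff]
      constructor
      · rintro ⟨hz1, hz2⟩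
        refine ⟨hz1, ?_⟩
        have := hz2 w (Set.mem_singleton w)
        rw [this]; group
      · rintro ⟨hz1, hz2⟩
        refine ⟨hz1, ?_⟩
        intro v hv
        rw [Set.mem_singleton_iff] at hv
        subst hv
        calc v * z = (v * z * v⁻¹) * v := by group
          _ = z * v := by rw [hz2]
    have hne : (P : Subgroup G) ⊓ CC w ≠ (P : Subgroup G) := by
      intro heq
      have : y0 ∈ (P : Subgroup G) ⊓ CC w := by rw [heq]; exact hy0P
      exact hy0 ((hmem y0).1 this).2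
    rcases eq_or_eq_zpowers (inf_le_left : (P : Subgroup G) ⊓ CC w ≤ (P : Subgroup G)) hcardP
      ((hmem a).2 ⟨haP, haσ⟩) ha1 ha3 with h1 | h1
    · exact absurd h1 hne
    · have : x ∈ (P : Subgroup G) ⊓ CC w := (hmem x).2 ⟨hxP, hxσ⟩
      rw [h1] at this
      exact mem_zpowers_three ha3 this
  -- inverted elements of `P` are `1, b, b⁻¹`
  have hinv : ∀ x ∈ (P : Subgroup G), w * x * w⁻¹ = x⁻¹ → x = 1 ∨ x = b ∨ x = b⁻¹ := by
    intro x hxP hxσ
    let I : Subgroup G :=
      { carrier := {z | z ∈ (P : Subgroup G) ∧ w * z * w⁻¹ = z⁻¹}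
        mul_mem' := by
          rintro u v ⟨hu1, hu2⟩ ⟨hv1, hv2⟩
          refine ⟨mul_mem hu1 hv1, ?_⟩
          calc w * (u * v) * w⁻¹ = (w * u * w⁻¹) * (w * v * w⁻¹) := by group
            _ = u⁻¹ * v⁻¹ := by rw [hu2, hv2]
            _ = (v * u)⁻¹ := by group
            _ = (u * v)⁻¹ := by rw [hcomm v hv1 u hu1]
        one_mem' := ⟨one_mem _, by group⟩
        inv_mem' := by
          rintro u ⟨hu1, hu2⟩
          refine ⟨inv_mem hu1, ?_⟩
          calc w * u⁻¹ * w⁻¹ = (w * u * w⁻¹)⁻¹ := by group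
            _ = u⁻¹⁻¹ := by rw [hu2] }
    have hmem : ∀ z : G, z ∈ I ↔ z ∈ (P : Subgroup G) ∧ w * z * w⁻¹ = z⁻¹ := fun z => Iff.rfl
    have hIP : I ≤ (P : Subgroup G) := fun z hz => ((hmem z).1 hz).1
    have hne : I ≠ (P : Subgroup G) := by
      intro heq
      have : a ∈ I := by rw [heq]; exact haP
      have h2 := ((hmem a).1 this).2
      rw [haσ] at h2
      exact ha1 (eq_one_of_eq_inv h2 ha3)
    rcases eq_or_eq_zpowers hIP hcardP ((hmem b).2 ⟨hbP, hbσ⟩) hb1 hb3 with h1 | h1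
    · exact absurd h1 hne
    · have : x ∈ I := (hmem x).2 ⟨hxP, hxσ⟩
      rw [h1] at this
      exact mem_zpowers_three hb3 this
  -- the images of `a` and `b` under `D`
  have hA : ∀ g ∈ D, g * a * g⁻¹ = a ∨ g * a * g⁻¹ = a⁻¹ := by
    intro g hg
    have h1 : w * (g * a * g⁻¹) * w⁻¹ = g * a * g⁻¹ := by rw [hgσ g hg, haσ]
    rcases hfix _ (hnorm g hg a haP) h1 with h2 | h2 | h2
    · exfalso
      apply ha1
      have : a = g⁻¹ * (g * a * g⁻¹) * g := by group
      rw [this, h2]; group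
    · exact Or.inl h2
    · exact Or.inr h2
  have hB : ∀ g ∈ D, g * b * g⁻¹ = b ∨ g * b * g⁻¹ = b⁻¹ := by
    intro g hg
    have h1 : w * (g * b * g⁻¹) * w⁻¹ = (g * b * g⁻¹)⁻¹ := by
      rw [hgσ g hg, hbσ]; group
    rcases hinv _ (hnorm g hg b hbP) h1 with h2 | h2 | h2
    · exfalso
      apply hb1
      have : b = g⁻¹ * (g * b * g⁻¹) * g := by group
      rw [this, h2]; group
    · exact Or.inl h2
    · exact Or.inr h2
  -- an element of `D` centralizing `a` and `b` is trivial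
  have hcent : ∀ c ∈ D, c * a * c⁻¹ = a → c * b * c⁻¹ = b → c = 1 := by
    intro c hcD hca hcb
    apply hDP c hcD
    rw [← hp.cent P, Subgroup.mem_centralizer_iff]
    have hmem : ∀ z : G, z ∈ (P : Subgroup G) ⊓ CC c ↔ z ∈ (P : Subgroup G) ∧ c * z * c⁻¹ = z := by
      intro z
      rw [Subgroup.mem_inf, Subgroup.mem_centralizer_iff]
      constructor
      · rintro ⟨hz1, hz2⟩
        refine ⟨hz1, ?_⟩
        have := hz2 c (Set.mem_singleton c)
        rw [this]; group
      · rintro ⟨hz1, hz2⟩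
        refine ⟨hz1, ?_⟩
        intro v hv
        rw [Set.mem_singleton_iff] at hv
        subst hv
        calc v * z = (v * z * v⁻¹) * v := by group
          _ = z * v := by rw [hz2]
    have hE : (P : Subgroup G) ⊓ CC c = (P : Subgroup G) := by
      rcases eq_or_eq_zpowers (inf_le_left : (P : Subgroup G) ⊓ CC c ≤ (P : Subgroup G)) hcardP
        ((hmem a).2 ⟨haP, hca⟩) ha1 ha3 with h1 | h1
      · exact h1
      · exfalso
        have hbE : b ∈ (P : Subgroup G) ⊓ CC c := (hmem b).2 ⟨hbP, hcb⟩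
        rw [h1] at hbE
        have hbfix : w * b * w⁻¹ = b := by
          rcases mem_zpowers_three ha3 hbE with h2 | h2 | h2
          · exact absurd h2 hb1
          · rw [h2]; exact haσ
          · rw [h2]
            calc w * a⁻¹ * w⁻¹ = (w * a * w⁻¹)⁻¹ := by group
              _ = a⁻¹ := by rw [haσ]
        rw [hbσ] at hbfix
        exact hb1 (eq_one_of_eq_inv hbfix.symm hb3)
    intro y hy
    have : y ∈ (P : Subgroup G) ⊓ CC c := by rw [hE]; exact hy
    have h2 := ((hmem y).1 this).2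
    calc y * c = (c * y * c⁻¹) * c := by rw [h2]
      _ = c * y := by group
  -- counting
  let S : Finset (G × G) := ({a, a⁻¹} : Finset G) ×ˢ ({b, b⁻¹} : Finset G)
  have hS : S.card ≤ 4 := by
    rw [Finset.card_product]
    calc ({a, a⁻¹} : Finset G).card * ({b, b⁻¹} : Finset G).card ≤ 2 * 2 :=
        Nat.mul_le_mul Finset.card_le_two Finset.card_le_two
      _ = 4 := by norm_num
  let f : ↥D → {x : G × G // x ∈ S} := fun g =>
    ⟨((g : G) * a * (g : G)⁻¹, (g : G) * b * (g : G)⁻¹), by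
      rw [Finset.mem_product, Finset.mem_insert, Finset.mem_singleton, Finset.mem_insert,
        Finset.mem_singleton]
      exact ⟨hA g g.2, hB g g.2⟩⟩
  have hf : Function.Injective f := by
    intro g g' hgg
    have h1 := congrArg (fun x => x.1.1) hgg
    have h2 := congrArg (fun x => x.1.2) hgg
    simp only [f] at h1 h2
    have hc : ((g : G)⁻¹ * (g' : G)) = 1 := by
      apply hcent _ (mul_mem (inv_mem g.2) g'.2)
      · calc (g : G)⁻¹ * g' * a * ((g : G)⁻¹ * g')⁻¹
            = (g : G)⁻¹ * ((g' : G) * a * (g' : G)⁻¹) * g := by group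
          _ = (g : G)⁻¹ * ((g : G) * a * (g : G)⁻¹) * g := by rw [h1]
          _ = a := by group
      · calc (g : G)⁻¹ * g' * b * ((g : G)⁻¹ * g')⁻¹
            = (g : G)⁻¹ * ((g' : G) * b * (g' : G)⁻¹) * g := by group
          _ = (g : G)⁻¹ * ((g : G) * b * (g : G)⁻¹) * g := by rw [h2]
          _ = b := by group
    apply Subtype.ext
    exact inv_mul_eq_one.1 hc
  have hle := Nat.card_le_card_of_injective f hf
  rw [Nat.card_eq_fintype_card (α := {x : G × G // x ∈ S}), Fintype.card_coe] at hle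
  omega

end Cfsg.Agent.Lib.Helper63_M11U_LINV
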