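import Mathlib

/-!
# S0420 package SRG17 (helper63, for helper74's market)

There is no strongly regular graph with parameters `(55, 18, 17, 0)`: for `μ = 0` the closed
neighbourhoods `{v} ∪ N(v)` (19 vertices each) are pairwise equal or disjoint, and three pairwise
disjoint ones would need `57 > 55` vertices.
-/

set_option autoImplicit false

namespace Cfsg.Agent.Lib.Helper63_M11U_SRG17

variable {V : Type*} [Fintype V] [DecidableEq V] (Γ : SimpleGraph V) [DecidableRel Γ.Adj]

/-- the closed neighbourhood of a vertex -/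
def cl (v : V) : Finset V := insert v (Γ.neighborFinset v)

theorem mem_cl {v w : V} : w ∈ cl Γ v ↔ w = v ∨ Γ.Adj v w := by
  unfold cl
  rw [Finset.mem_insert, SimpleGraph.mem_neighborFinset]

theorem card_cl {k : ℕ} (hreg : Γ.IsRegularOfDegree k) (v : V) : (cl Γ v).card = k + 1 := by
  unfold cl
  rw [Finset.card_insert_of_notMem, SimpleGraph.card_neighborFinset_eq_degree, hreg v]
  rw [SimpleGraph.mem_neighborFinset]
  exact Γ.loopless.irrefl v

/-- for `μ = 0`, "equal or adjacent" is transitive -/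
theorem trans_of_mu_zero {n k l : ℕ} (h : Γ.IsSRGWith n k l 0) {u v w : V}
    (huv : u = v ∨ Γ.Adj u v) (hvw : v = w ∨ Γ.Adj v w) : u = w ∨ Γ.Adj u w := by
  rcases huv with rfl | huv
  · exact hvw
  rcases hvw with rfl | hvw
  · exact Or.inr huv
  by_cases huw : u = w
  · exact Or.inl huw
  right
  by_contra hna
  have h0 := h.of_not_adj huw hna
  have hmem : v ∈ Γ.commonNeighbors u w := by
    rw [SimpleGraph.mem_commonNeighbors]
    exact ⟨huv, hvw.symm⟩
  rw [Fintype.card_eq_zero_iff] at h0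
  exact h0.false ⟨v, hmem⟩

theorem disjoint_cl {n k l : ℕ} (h : Γ.IsSRGWith n k l 0) {v w : V} (hw : w ∉ cl Γ v) :
    Disjoint (cl Γ v) (cl Γ w) := by
  rw [Finset.disjoint_left]
  intro x hxv hxw
  apply hw
  rw [mem_cl] at hxv hxw ⊢
  -- v R x and x R w
  have h1 : v = x ∨ Γ.Adj v x := hxv.imp Eq.symm id
  have h2 : x = w ∨ Γ.Adj x w := hxw.imp id (fun h => h.symm)
  exact (trans_of_mu_zero Γ h h1 h2).imp Eq.symm id

theorem SRG17 : ¬ Γ.IsSRGWith 55 18 17 0 := by
  intro h
  have hcard : (Finset.univ : Finset V).card = 55 := by rw [Finset.card_univ]; exact h.card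
  have hc : ∀ v, (cl Γ v).card = 19 := fun v => card_cl Γ h.regular v
  -- a first vertex
  have hne : (Finset.univ : Finset V).Nonempty := by
    rw [← Finset.card_pos, hcard]; norm_num
  obtain ⟨v1, -⟩ := hne
  -- a second vertex outside `cl v1`
  obtain ⟨v2, -, hv2⟩ : ∃ x ∈ (Finset.univ : Finset V), x ∉ cl Γ v1 := by
    apply Finset.exists_mem_notMem_of_card_lt_card
    rw [hcard, hc]; norm_num
  have hd12 := disjoint_cl Γ h hv2
  -- a third vertex outside `cl v1 ∪ cl v2`
  have hc12 : (cl Γ v1 ∪ cl Γ v2).card = 38 := by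
    rw [Finset.card_union_of_disjoint hd12, hc, hc]
  obtain ⟨v3, -, hv3⟩ : ∃ x ∈ (Finset.univ : Finset V), x ∉ cl Γ v1 ∪ cl Γ v2 := by
    apply Finset.exists_mem_notMem_of_card_lt_card
    rw [hcard, hc12]; norm_num
  rw [Finset.mem_union, not_or] at hv3
  have hd13 := disjoint_cl Γ h hv3.1
  have hd23 := disjoint_cl Γ h hv3.2
  have hd : Disjoint (cl Γ v1 ∪ cl Γ v2) (cl Γ v3) := by
    rw [Finset.disjoint_union_left]
    exact ⟨hd13, hd23⟩
  have hc123 : (cl Γ v1 ∪ cl Γ v2 ∪ cl Γ v3).card = 57 := by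
    rw [Finset.card_union_of_disjoint hd, hc12, hc]
  have hle : (cl Γ v1 ∪ cl Γ v2 ∪ cl Γ v3).card ≤ (Finset.univ : Finset V).card :=
    Finset.card_le_card (Finset.subset_univ _)
  rw [hc123, hcard] at hle
  omega

end Cfsg.Agent.Lib.Helper63_M11U_SRG17
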