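import Mathlib

/-!
S2141 E6a (helper66's market): the pure 3-parameter invariance lemma over a finite field of characteristic two.
helper63.
-/

set_option autoImplicit false

namespace Cfsg.Agent.Lib.Helper63_MISp_E6a

variable {F : Type*} [Field F]

theorem E6a [Finite F] (h2 : (2 : F) = 0) (hq : 4 ≤ Nat.card F) (C : AddSubgroup (F × F × F))
    (h1 : ∀ β a b c : F, (a, b, c) ∈ C → (a + c * β ^ 2, b + c * β, c) ∈ C)
    (h2' : ∀ β a b c : F, (a, b, c) ∈ C → (a, b + a * β, c + a * β ^ 2) ∈ C)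
    (h3 : ∀ b : F, ∃ t : F, (t, b, 0) ∈ C) :
    (∀ a : F, (a, 0, 0) ∈ C) ∨ (∀ b : F, (0, b, 0) ∈ C) := by
  have hchar : CharP F 2 := CharTwo.of_one_ne_zero_of_two_eq_zero one_ne_zero h2
  have hsq : ∀ x : F, ∃ r : F, x = r * r := fun x =>
    FiniteField.isSquare_of_char_two (ringChar.eq F 2) x
  have hdbl : ∀ x : F, x + x = 0 := fun x => by rw [← two_mul, h2, zero_mul]
  have step1 : ∀ a b c : F, (a, b, c) ∈ C → ∀ β : F, (c * β ^ 2, c * β, 0) ∈ C := by
    intro a b c h β
    have h4 := C.sub_mem (h1 β a b c h) h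
    have e : ((a + c * β ^ 2, b + c * β, c) : F × F × F) - (a, b, c) = (c * β ^ 2, c * β, 0) := by
      simp only [Prod.mk_sub_mk, add_sub_cancel_left, sub_self]
    rwa [e] at h4
  have main : ∀ a b c : F, (a, b, c) ∈ C → c ≠ 0 → ∀ x : F, (x, 0, 0) ∈ C := by
    intro a b c h hc
    have s2 : ∀ β : F, (0, c * β, c * β ^ 2) ∈ C := by
      intro β
      have h0 := step1 a b c h 1
      have h4 := h2' β _ _ _ h0
      have h5 := C.sub_mem h4 h0
      have e : ((c * 1 ^ 2, c * 1 + c * 1 ^ 2 * β, 0 + c * 1 ^ 2 * β ^ 2) : F × F × F) -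
          (c * 1 ^ 2, c * 1, 0) = (0, c * β, c * β ^ 2) := by
        simp only [Prod.mk_sub_mk, sub_self, add_sub_cancel_left, one_pow, mul_one, zero_add,
          sub_zero]
      rwa [e] at h5
    have s3 : ∀ x : F, (x, 0, x) ∈ C := by
      intro x
      obtain ⟨r, hr⟩ := hsq (x / c)
      have hx : c * r ^ 2 = x := by
        rw [pow_two, ← hr]; field_simp
      have h4 := C.add_mem (step1 a b c h r) (s2 r)
      have e : ((c * r ^ 2, c * r, 0) : F × F × F) + (0, c * r, c * r ^ 2) = (x, 0, x) := by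
        simp only [Prod.mk_add_mk, add_zero, zero_add, hdbl, hx]
      rwa [e] at h4
    have s4 : ∀ x β : F, (x * β ^ 2, x * β, 0) ∈ C := fun x β => step1 x 0 x (s3 x) β
    have s5 : ∀ a₁ b₁ : F, a₁ ≠ 0 → b₁ ≠ 0 → (a₁, b₁, 0) ∈ C := by
      intro a₁ b₁ ha hb
      have h4 := s4 (b₁ ^ 2 / a₁) (a₁ / b₁)
      have e1 : b₁ ^ 2 / a₁ * (a₁ / b₁) ^ 2 = a₁ := by field_simp
      have e2 : b₁ ^ 2 / a₁ * (a₁ / b₁) = b₁ := by field_simp
      rwa [e1, e2] at h4
    intro x
    obtain ⟨a₁, ha₁0, ha₁x⟩ : ∃ a₁ : F, a₁ ≠ 0 ∧ a₁ ≠ x := by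
      by_contra hcon
      push Not at hcon
      have hsub : (Set.univ : Set F) ⊆ {0, x} := by
        intro y _
        by_cases hy : y = 0
        · left; exact hy
        · right; exact hcon y hy
      have h5 : Nat.card F ≤ 2 := by
        calc Nat.card F = (Set.univ : Set F).ncard := (Set.ncard_univ F).symm
          _ ≤ ({0, x} : Set F).ncard := Set.ncard_le_ncard hsub (Set.toFinite _)
          _ ≤ 2 := by
            have := Set.ncard_insert_le (0 : F) ({x} : Set F)
            rw [Set.ncard_singleton] at this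
            exact this
      omega
    have hne : x + a₁ ≠ 0 := by
      intro h0
      apply ha₁x
      calc a₁ = 0 + a₁ := (zero_add a₁).symm
        _ = (x + a₁) + a₁ := by rw [h0]
        _ = x + (a₁ + a₁) := add_assoc _ _ _
        _ = x := by rw [hdbl, add_zero]
    have h5 := C.add_mem (s5 a₁ 1 ha₁0 one_ne_zero) (s5 (x + a₁) 1 hne one_ne_zero)
    have e : ((a₁, 1, 0) : F × F × F) + (x + a₁, 1, 0) = (x, 0, 0) := by
      have e1 : a₁ + (x + a₁) = x := by
        rw [add_comm x a₁, ← add_assoc, hdbl, zero_add]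
      simp only [Prod.mk_add_mk, hdbl, e1]
    rwa [e] at h5
  by_cases hc : ∃ a b c : F, (a, b, c) ∈ C ∧ c ≠ 0
  · obtain ⟨a, b, c, h, hc0⟩ := hc
    left
    exact main a b c h hc0
  · push Not at hc
    by_cases ha : ∃ a b c : F, (a, b, c) ∈ C ∧ a ≠ 0
    · obtain ⟨a, b, c, h, ha0⟩ := ha
      have hc0 := hc a b c h
      subst hc0
      have h4 := h2' 1 a b 0 h
      left
      exact main _ _ _ h4 (by simpa using ha0)
    · push Not at ha
      right
      intro b
      obtain ⟨t, ht⟩ := h3 b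
      have h4 := ha t b 0 ht
      rw [h4] at ht
      exact ht

end Cfsg.Agent.Lib.Helper63_MISp_E6a
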