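import Mathlib
import Cfsg.Agent.Lib.Helper66_MI_SpDefs
import Cfsg.Agent.Lib.Helper63_MISp_E6a

/-!
S2141 package E6 (helper66's market): in characteristic two, if for every point `v` and every
`w ∈ v^⊥` some `g_v(w,t)` lies in `H`, then `H` contains a root group.  helper63.
-/

set_option autoImplicit false

namespace Cfsg.Agent.Lib.Helper63_MISp_E6

open Cfsg.Agent.Lib.Helper94_Symp Cfsg.Agent.Lib.Helper94_SympTI
  Cfsg.Agent.Lib.Helper94_SympPerfect Cfsg.Agent.Lib.Helper66_MI_SpDefs

variable {F V : Type*} [Field F] [AddCommGroup V] [Module F V]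
variable (B : LinearMap.BilinForm F V) (hB : B.IsAlt)

/-- the three-parameter element `t_v(a) y(b) t_u(c)` of the line `⟨v, u⟩` -/
def phi (v u : V) (a b c : F) : V ≃ₗ[F] V :=
  stv B hB v a * gv B hB v (b • u) 0 * stv B hB u c

theorem phi_apply {v u : V} (h : B v u = 0) (a b c : F) (x : V) :
    phi B hB v u a b c x =
      x + (a * B x v + b * B x u) • v + (b * B x v + c * B x u) • u := by
  have h' : B u v = 0 := swap_zero B hB h
  have hb : B v (b • u) = 0 := by rw [map_smul, h, smul_zero]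
  simp only [phi, LinearEquiv.mul_apply, stv_apply, gv_apply B hB hb, map_add, map_smul,
    smul_eq_mul, hB v, hB u, h', mul_zero, add_zero, zero_mul, zero_smul]
  module

theorem phi_mul {v u : V} (h : B v u = 0) (a b c a' b' c' : F) :
    phi B hB v u a b c * phi B hB v u a' b' c' = phi B hB v u (a + a') (b + b') (c + c') := by
  have h' : B u v = 0 := swap_zero B hB h
  ext x
  simp only [LinearEquiv.mul_apply, phi_apply B hB h, map_add, map_smul,
    LinearMap.add_apply, LinearMap.smul_apply, smul_eq_mul, hB v, hB u, h, h', mul_zero, add_zero]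
  module

theorem phi_zero {v u : V} (h : B v u = 0) : phi B hB v u 0 0 0 = 1 := by
  ext x
  rw [phi_apply B hB h]
  simp

theorem phi_inv {v u : V} (h : B v u = 0) (a b c : F) :
    (phi B hB v u a b c)⁻¹ = phi B hB v u (-a) (-b) (-c) := by
  apply inv_eq_of_mul_eq_one_right
  rw [phi_mul B hB h, add_neg_cancel, add_neg_cancel, add_neg_cancel, phi_zero B hB h]

theorem phi_swap {v u : V} (h : B v u = 0) (a b c : F) :
    phi B hB v u a b c = phi B hB u v c b a := by
  have h' : B u v = 0 := swap_zero B hB h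
  ext x
  rw [phi_apply B hB h, phi_apply B hB h']
  module

theorem gv_eq_phi {v u : V} (h : B v u = 0) (b t : F) :
    gv B hB v (b • u) t = phi B hB v u t b 0 := by
  have hb : B v (b • u) = 0 := by rw [map_smul, h, smul_zero]
  ext x
  rw [phi_apply B hB h, gv_apply B hB hb]
  simp only [map_smul, smul_eq_mul, zero_mul, add_zero]
  module

theorem stv_eq_phi {v u : V} (h : B v u = 0) (a : F) :
    stv B hB v a = phi B hB v u a 0 0 := by
  ext x
  rw [phi_apply B hB h, stv_apply]
  simp

/-- conjugation by `g_v(w,t)` in characteristic two -/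
theorem conj_phi (h2 : (2 : F) = 0) {v u w : V} (h : B v u = 0) (hw : B v w = 0) (t a b c : F) :
    gv B hB v w t * phi B hB v u a b c * (gv B hB v w t)⁻¹ =
      phi B hB v u (a + c * B u w ^ 2) (b + c * B u w) c := by
  have hg := gv_mem_isoGroup B hB v w t
  have h' : B u v = 0 := swap_zero B hB h
  have hw' : B w v = 0 := swap_zero B hB hw
  have hgv : gv B hB v w t v = v := by
    rw [gv_apply B hB hw]; simp [hB v, hw]
  have hgu : gv B hB v w t u = u + B u w • v := by
    rw [gv_apply B hB hw]; simp [h']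
  ext x
  simp only [LinearEquiv.mul_apply, phi_apply B hB h, isoGroup_inv_apply hg, map_add, map_smul,
    apply_inv_apply', hgv, hgu, smul_eq_mul]
  have e : ∀ z : F, z + z = 0 := fun z => by rw [← two_mul, h2, zero_mul]
  have key : (b * B u w * B x v + b * B u w * B x v) • v = 0 := by rw [e, zero_smul]
  calc _ = x + ((a + c * B u w ^ 2) * B x v + (b + c * B u w) * B x u) • v +
        ((b + c * B u w) * B x v + c * B x u) • u +
        (b * B u w * B x v + b * B u w * B x v) • v := by module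
    _ = _ := by rw [key, add_zero]

theorem exists_pair (hN : B.Nondegenerate) {v : V} (hv : v ≠ 0) : ∃ v' : V, B v v' = 1 := by
  have : ∃ y, B v y ≠ 0 := by
    by_contra hcon
    push Not at hcon
    exact hv (hN.1 v hcon)
  obtain ⟨y, hy⟩ := this
  refine ⟨(B v y)⁻¹ • y, ?_⟩
  rw [map_smul, smul_eq_mul, inv_mul_cancel₀ hy]

/-- for independent `v, u` the functionals `B v`, `B u` are independent -/
theorem exists_perp_val (hN : B.Nondegenerate) {v u : V} (hv : v ≠ 0)
    (hind : ∀ c : F, u ≠ c • v) : ∃ w₀ : V, B v w₀ = 0 ∧ B u w₀ = 1 := by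
  obtain ⟨v', hvv'⟩ := exists_pair B hN hv
  by_contra hcon
  have hker : ∀ w : V, B v w = 0 → B u w = 0 := by
    intro w hw
    by_contra hne
    apply hcon
    refine ⟨(B u w)⁻¹ • w, ?_, ?_⟩
    · rw [map_smul, hw, smul_zero]
    · rw [map_smul, smul_eq_mul, inv_mul_cancel₀ hne]
  apply hind (B u v')
  have h0 : u - B u v' • v = 0 := by
    apply hN.1
    intro w
    have h1 : B v (w - B v w • v') = 0 := by
      rw [map_sub, map_smul, hvv', smul_eq_mul, mul_one, sub_self]
    have h2 := hker _ h1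
    rw [map_sub, map_smul, smul_eq_mul, sub_eq_zero] at h2
    rw [map_sub, map_smul, LinearMap.sub_apply, LinearMap.smul_apply, smul_eq_mul, h2]
    ring
  exact sub_eq_zero.1 h0

theorem line_alt [Finite F] (hN : B.Nondegenerate) (h2 : (2 : F) = 0) (hq : 4 ≤ Nat.card F)
    {H : Subgroup (V ≃ₗ[F] V)}
    (hall : ∀ v w : V, v ≠ 0 → B v w = 0 → ∃ t : F, gv B hB v w t ∈ H)
    {v u : V} (hv : v ≠ 0) (h : B v u = 0) (hind : ∀ c : F, u ≠ c • v) :
    (∀ a : F, stv B hB v a ∈ H) ∨ (∀ b : F, gv B hB v (b • u) 0 ∈ H) := by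
  have h' : B u v = 0 := swap_zero B hB h
  have hu : u ≠ 0 := fun h0 => hind 0 (by rw [h0, zero_smul])
  have hind' : ∀ c : F, v ≠ c • u := by
    intro c hc
    by_cases hc0 : c = 0
    · rw [hc0, zero_smul] at hc; exact hv hc
    · apply hind c⁻¹; rw [hc, smul_smul, inv_mul_cancel₀ hc0, one_smul]
  let C : AddSubgroup (F × F × F) :=
    { carrier := {p | phi B hB v u p.1 p.2.1 p.2.2 ∈ H}
      add_mem' := by
        intro p p' hp hp'
        show phi B hB v u (p.1 + p'.1) (p.2.1 + p'.2.1) (p.2.2 + p'.2.2) ∈ H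
        rw [← phi_mul B hB h]
        exact H.mul_mem hp hp'
      zero_mem' := by
        show phi B hB v u 0 0 0 ∈ H
        rw [phi_zero B hB h]; exact H.one_mem
      neg_mem' := by
        intro p hp
        show phi B hB v u (-p.1) (-p.2.1) (-p.2.2) ∈ H
        rw [← phi_inv B hB h]; exact H.inv_mem hp }
  have hC : ∀ a b c : F, (a, b, c) ∈ C ↔ phi B hB v u a b c ∈ H := fun a b c => Iff.rfl
  have h1 : ∀ β a b c : F, (a, b, c) ∈ C → (a + c * β ^ 2, b + c * β, c) ∈ C := by
    intro β a b c hp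
    obtain ⟨w₀, hw1, hw2⟩ := exists_perp_val B hN hv hind
    have hw : B v (β • w₀) = 0 := by rw [map_smul, hw1, smul_zero]
    obtain ⟨t, ht⟩ := hall v (β • w₀) hv hw
    have := H.mul_mem (H.mul_mem ht ((hC a b c).1 hp)) (H.inv_mem ht)
    rw [conj_phi B hB h2 h hw, map_smul, hw2, smul_eq_mul, mul_one] at this
    exact (hC _ _ _).2 this
  have h2' : ∀ β a b c : F, (a, b, c) ∈ C → (a, b + a * β, c + a * β ^ 2) ∈ C := by
    intro β a b c hp
    obtain ⟨w₀, hw1, hw2⟩ := exists_perp_val B hN hu hind'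
    have hw : B u (β • w₀) = 0 := by rw [map_smul, hw1, smul_zero]
    obtain ⟨t, ht⟩ := hall u (β • w₀) hu hw
    have hp' : phi B hB u v c b a ∈ H := by rw [← phi_swap B hB h]; exact (hC a b c).1 hp
    have := H.mul_mem (H.mul_mem ht hp') (H.inv_mem ht)
    rw [conj_phi B hB h2 h' hw, map_smul, hw2, smul_eq_mul, mul_one, ← phi_swap B hB h] at this
    exact (hC _ _ _).2 this
  have h3 : ∀ b : F, ∃ t : F, (t, b, 0) ∈ C := by
    intro b
    have hb : B v (b • u) = 0 := by rw [map_smul, h, smul_zero]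
    obtain ⟨t, ht⟩ := hall v (b • u) hv hb
    exact ⟨t, (hC _ _ _).2 (by rw [← gv_eq_phi B hB h]; exact ht)⟩
  rcases Helper63_MISp_E6a.E6a h2 hq C h1 h2' h3 with hA | hB'
  · left; intro a; rw [stv_eq_phi B hB h]; exact (hC _ _ _).1 (hA a)
  · right; intro b; rw [gv_eq_phi B hB h]; exact (hC _ _ _).1 (hB' b)

theorem E6 [Finite F] [FiniteDimensional F V] {m q : ℕ} (S : Setting B m q) (h2 : (2 : F) = 0)
    (hq : 4 ≤ q) (hm : 2 ≤ m) {H : Subgroup (V ≃ₗ[F] V)}
    (hall : ∀ v w : V, v ≠ 0 → B v w = 0 → ∃ t : F, gv B S.alt v w t ∈ H) :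
    ∃ v : V, v ≠ 0 ∧ Xv B S.alt v ≤ H := by
  have hB := S.alt
  have hN := S.nondeg
  have hdim : 4 ≤ Module.finrank F V := by rw [S.dim]; omega
  have hqF : 4 ≤ Nat.card F := by rw [S.card]; exact hq
  obtain ⟨v, hv⟩ : ∃ v : V, v ≠ 0 := by
    have hpos : 0 < Module.finrank F V := by omega
    have : Nontrivial V := Module.finrank_pos_iff.1 hpos
    exact exists_ne 0
  refine ⟨v, hv, ?_⟩
  by_contra hX
  obtain ⟨v', hvv'⟩ := exists_pair B hN hv
  obtain ⟨u, -, hu0, huv, huv'⟩ :=
    exists_ne_zero_orth2 B (⊤ : Submodule F V) (by rw [finrank_top]; omega) v v'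
  have hvu : B v u = 0 := swap_zero B hB huv
  have hind : ∀ c : F, u ≠ c • v := by
    intro c hc
    rw [hc, map_smul, LinearMap.smul_apply, hvv', smul_eq_mul, mul_one] at huv'
    rw [huv', zero_smul] at hc
    exact hu0 hc
  have hnot : ¬ ∀ a : F, stv B hB v a ∈ H := by
    intro hA
    apply hX
    rintro _ ⟨t, rfl⟩
    exact hA t
  have hall0 : ∀ w : V, B v w = 0 → gv B hB v w 0 ∈ H := by
    intro w hw
    by_cases hwv : ∃ c : F, w = c • v
    · obtain ⟨c, rfl⟩ := hwv
      have e : gv B hB v (c • v) 0 = 1 := by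
        ext x
        rw [gv_apply B hB hw]
        have e2 : ∀ z : F, z + z = 0 := fun z => by rw [← two_mul, h2, zero_mul]
        have e3 : (c * B x v + c * B x v) • v = 0 := by rw [e2, zero_smul]
        simp only [map_smul, smul_eq_mul, zero_mul, zero_smul, add_zero, LinearEquiv.coe_one,
          id_eq]
        calc x + (c * B x v) • v + B x v • c • v = x + (c * B x v + c * B x v) • v := by module
          _ = x := by rw [e3, add_zero]
      rw [e]
      exact H.one_mem
    · push Not at hwv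
      rcases line_alt B hB hN h2 hqF hall hv hw hwv with hA | hB'
      · exact absurd hA hnot
      · have := hB' 1
        rwa [one_smul] at this
  obtain ⟨w₀, hw1, hw2⟩ := exists_perp_val B hN hv hind
  apply hnot
  intro a
  have hw : B v (a • w₀) = 0 := by rw [map_smul, hw1, smul_zero]
  have hs : B v (a • w₀ + u) = 0 := by rw [map_add, hw, hvu, add_zero]
  have e1 : gv B hB v (a • w₀) 0 * gv B hB v u 0 = gv B hB v (a • w₀ + u) a := by
    rw [gv_mul B hB hw hvu, map_smul, hw2]
    simp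
  have e2 : gv B hB v (a • w₀ + u) 0 * stv B hB v a = gv B hB v (a • w₀ + u) a := by
    rw [← gv_zero, gv_mul B hB hs (by simp)]
    simp
  have e3 : stv B hB v a =
      (gv B hB v (a • w₀ + u) 0)⁻¹ * (gv B hB v (a • w₀) 0 * gv B hB v u 0) := by
    rw [e1, ← e2, inv_mul_cancel_left]
  rw [e3]
  exact H.mul_mem (H.inv_mem (hall0 _ hs)) (H.mul_mem (hall0 _ hw) (hall0 _ hvu))

end Cfsg.Agent.Lib.Helper63_MISp_E6
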