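import Mathlib
import Cfsg.Agent.Lib.Helper20_PGroupOdd

/-!
# Miller's theorem on the number of elements of order `p ^ s` in a non-cyclic `p`-group, `p` odd

* `miller` : for `p` odd, `R` a finite non-cyclic `p`-group and `2 ≤ s`, the number of elements of
  order `p ^ s` of `R` is divisible by `p ^ s`.
* `card_orderOf_eq_totient_mul` : the number of elements of order `d` in a subgroup `K` is `φ d` times
  the number of cyclic subgroups of order `d` of `K`.
* `card_orderOf_mul` : elements of order `c * d` (coprime) correspond to commuting pairs of elements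
  of orders `d`, `c`.
* `conjPair`, `pairAction`, `card_pairs_modEq` : fixed point counting for a `p`-subgroup acting by
  conjugation on a set of pairs (element, subgroup).
-/

set_option autoImplicit false

namespace Cfsg.Agent.Lib.Helper63_Miller

open Subgroup Cfsg.Agent.Lib.Helper20_PGroupOdd

section Miller
variable {R : Type*} [Group R] {p : ℕ} [hpf : Fact p.Prime] {z h : R}

omit hpf in
/-- commutators of elements of `B` with anything lie in `⟨z⟩` -/
theorem good_comm_mem (hg : Good p (⊤ : Subgroup R) z h) {u : R} (hu : u ∈ hg.B) (g : R) :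
    u * g * u⁻¹ * g⁻¹ ∈ zpowers z := by
  have hZn : (zpowers z).Normal := hg.zpowers_normal
  set f := QuotientGroup.mk' (zpowers z) with hf
  have hker : ∀ x : R, f x = 1 ↔ x ∈ zpowers z := fun x => by
    rw [← MonoidHom.mem_ker, QuotientGroup.ker_mk']
  have hle : hg.B ≤ (center (R ⧸ zpowers z)).comap f := by
    unfold Good.B
    refine sup_le ?_ ?_
    · rw [zpowers_le, mem_comap, (hker z).2 (mem_zpowers z)]
      exact one_mem _
    · rw [zpowers_le, mem_comap, mem_center_iff]
      intro q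
      obtain ⟨g, rfl⟩ := QuotientGroup.mk'_surjective _ q
      have h1 : f (g * h * g⁻¹ * h⁻¹) = 1 := (hker _).2 (hg.2.2.2.2.2.2 g)
      rw [map_mul, map_mul, map_mul, map_inv, map_inv] at h1
      have h2 : f g * f h = f h * f g := by
        have := congrArg (fun t => t * f h * f g) h1
        simpa [mul_assoc] using this
      exact h2
  have hu' := hle hu
  rw [mem_comap, mem_center_iff] at hu'
  rw [← hker, map_mul, map_mul, map_mul, map_inv, map_inv, ← hu' (f g)]
  group

/-- `(x * u) ^ p = x ^ p` for `u` in the normal elementary abelian subgroup `B`. -/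
theorem good_mul_pow (hp2 : p ≠ 2) (hg : Good p (⊤ : Subgroup R) z h) {u : R} (hu : u ∈ hg.B)
    (x : R) : (x * u) ^ p = x ^ p := by
  have hc := good_comm_mem hg hu x
  have hcc : u * x * u⁻¹ * x⁻¹ ∈ center R := (zpowers_le.mpr hg.2.2.1) hc
  have hcp : (u * x * u⁻¹ * x⁻¹) ^ p = 1 := by
    obtain ⟨i, hi⟩ := mem_zpowers_iff.mp hc
    rw [← hi, ← zpow_natCast, ← zpow_mul, mul_comm, zpow_mul, zpow_natCast, hg.z_pow, one_zpow]
  have h1 : u * x = (u * x * u⁻¹ * x⁻¹) * x * u := by group
  have c1 : Commute (u * x * u⁻¹ * x⁻¹) x := (mem_center_iff.mp hcc x).symm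
  have c2 : Commute (u * x * u⁻¹ * x⁻¹) u := (mem_center_iff.mp hcc u).symm
  rw [mul_pow_prime_of_comm hpf.out hp2 h1 c1 c2 hcp, hg.B_exp u hu, mul_one]

/-- Key step: multiplying an element `x` of order `p ^ (r+2)` by an element of `⟨x ^ p⟩ B` changes
neither the order nor the subgroup `⟨x ^ p⟩`. -/
theorem good_key [Finite R] (hp2 : p ≠ 2) (hg : Good p (⊤ : Subgroup R) z h) {r : ℕ} {x : R}
    (hx : orderOf x = p ^ (r + 2)) {m : R} (hm : m ∈ zpowers (x ^ p) ⊔ hg.B) :
    orderOf (x * m) = p ^ (r + 2) ∧ zpowers ((x * m) ^ p) = zpowers (x ^ p) := by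
  have hpp : p.Prime := hpf.out
  have hBn : hg.B.Normal := hg.B_normal
  obtain ⟨a, ha, u, hu, rfl⟩ := mem_sup_of_normal_right.mp hm
  rw [← mem_powers_iff_mem_zpowers, Submonoid.mem_powers_iff] at ha
  obtain ⟨k, rfl⟩ := ha
  have hxp : orderOf (x ^ p) = p ^ (r + 1) := by
    rw [orderOf_pow_of_dvd hpp.ne_zero (by rw [hx]; exact dvd_pow_self p (by omega)), hx,
      pow_succ, Nat.mul_div_cancel _ hpp.pos]
  have e1 : (x * ((x ^ p) ^ k * u)) ^ p = (x ^ p) ^ (1 + p * k) := by
    rw [← mul_assoc, good_mul_pow hp2 hg hu, ← pow_mul, ← pow_succ', ← pow_mul, ← pow_mul]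
    congr 1
    ring
  have hcop : (orderOf (x ^ p)).Coprime (1 + p * k) := by
    rw [hxp]
    apply Nat.Coprime.pow_left
    rw [Nat.coprime_add_mul_left_right]
    exact Nat.coprime_one_right p
  have e2 : orderOf ((x * ((x ^ p) ^ k * u)) ^ p) = p ^ (r + 1) := by
    rw [e1, hcop.orderOf_pow, hxp]
  have e3 : zpowers ((x * ((x ^ p) ^ k * u)) ^ p) = zpowers (x ^ p) := by
    apply Subgroup.eq_of_le_of_card_ge
    · rw [e1]
      exact zpowers_le.2 (pow_mem (mem_zpowers _) _)
    · rw [Nat.card_zpowers, Nat.card_zpowers, e2, hxp]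
  refine ⟨?_, e3⟩
  apply orderOf_eq_prime_pow
  · intro h1
    rw [pow_succ', pow_mul] at h1
    have := orderOf_dvd_of_pow_eq_one h1
    rw [e2] at this
    have := (Nat.pow_dvd_pow_iff_le_right hpp.one_lt).1 this
    omega
  · rw [pow_succ', pow_mul, ← e2]
    exact pow_orderOf_eq_one _

/-- the subgroup `⟨x ^ p⟩ B` has order divisible by `p ^ (r+2)` when `x` has order `p ^ (r+2)`. -/
theorem good_card_dvd [Finite R] (hR : IsPGroup p R) (hg : Good p (⊤ : Subgroup R) z h) {r : ℕ}
    {x : R} (hx : orderOf x = p ^ (r + 2)) :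
    p ^ (r + 2) ∣ Nat.card ↥(zpowers (x ^ p) ⊔ hg.B) := by
  have hpp : p.Prime := hpf.out
  have hxp : orderOf (x ^ p) = p ^ (r + 1) := by
    rw [orderOf_pow_of_dvd hpp.ne_zero (by rw [hx]; exact dvd_pow_self p (by omega)), hx,
      pow_succ, Nat.mul_div_cancel _ hpp.pos]
  obtain ⟨j, hj⟩ := (hR.to_subgroup (zpowers (x ^ p) ⊔ hg.B)).exists_card_eq
  rw [hj]
  apply pow_dvd_pow
  have h1 : p ^ (r + 1) ∣ p ^ j := by
    rw [← hj, ← hxp, ← Nat.card_zpowers]
    exact Subgroup.card_dvd_of_le le_sup_left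
  have h2 := (Nat.pow_dvd_pow_iff_le_right hpp.one_lt).1 h1
  by_contra hlt
  have hj' : j = r + 1 := by omega
  have heq : zpowers (x ^ p) = zpowers (x ^ p) ⊔ hg.B := by
    apply Subgroup.eq_of_le_of_card_ge le_sup_left
    rw [hj, hj', Nat.card_zpowers, hxp]
  have hle : hg.B ≤ zpowers (x ^ p) := by
    rw [heq]
    exact le_sup_right
  have hcyc : IsCyclic hg.B := Subgroup.isCyclic_of_le hle
  obtain ⟨g, hgen⟩ := hcyc.exists_generator
  have hord : orderOf g = p ^ 2 := by
    rw [orderOf_eq_card_of_forall_mem_zpowers hgen, hg.card_B]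
  have hgp : g ^ p = 1 := Subtype.ext (by simpa using hg.B_exp g g.2)
  have := Nat.le_of_dvd hpp.pos (orderOf_dvd_of_pow_eq_one hgp)
  rw [hord] at this
  have : p * p ≤ p * 1 := by rw [← sq]; simpa using this
  have := Nat.le_of_mul_le_mul_left this hpp.pos
  have := hpp.one_lt
  omega

/-- **Miller's theorem**: in a finite non-cyclic `p`-group with `p` odd, the number of elements of
order `p ^ s`, `2 ≤ s`, is divisible by `p ^ s`. -/
theorem miller [Finite R] (hp2 : p ≠ 2) (hR : IsPGroup p R) (hnc : ¬ IsCyclic R) {s : ℕ}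
    (hs : 2 ≤ s) : p ^ s ∣ Nat.card {x : R // orderOf x = p ^ s} := by
  classical
  obtain ⟨r, rfl⟩ : ∃ r, s = r + 2 := ⟨s - 2, by omega⟩
  have hnt : ¬ IsCyclic (⊤ : Subgroup R) := fun hcyc =>
    hnc (isCyclic_of_surjective (Subgroup.topEquiv : (⊤ : Subgroup R) ≃* R).toMonoidHom
      (Subgroup.topEquiv : (⊤ : Subgroup R) ≃* R).surjective)
  obtain ⟨z, h, hg⟩ := exists_good hp2 hR ⊤ hnt
  let _ : Fintype (Subgroup R) := Fintype.ofFinite _
  let f : {x : R // orderOf x = p ^ (r + 2)} → Subgroup R := fun x => zpowers (x.1 ^ p) ⊔ hg.B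
  rw [Nat.card_congr (Equiv.sigmaFiberEquiv f).symm, Nat.card_sigma]
  apply Finset.dvd_sum
  intro M _
  by_cases hne : Nonempty {x // f x = M}
  swap
  · rw [not_nonempty_iff] at hne
    rw [Nat.card_of_isEmpty]
    exact dvd_zero _
  obtain ⟨⟨⟨x₀, hx₀⟩, hM⟩⟩ := hne
  set F : Set R := {x | orderOf x = p ^ (r + 2) ∧ zpowers (x ^ p) ⊔ hg.B = M} with hF
  have e : {x // f x = M} ≃ F :=
    Equiv.subtypeSubtypeEquivSubtypeInter (fun x : R => orderOf x = p ^ (r + 2))
      (fun x : R => zpowers (x ^ p) ⊔ hg.B = M)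
  have hsat : F = QuotientGroup.mk ⁻¹' ((QuotientGroup.mk : R → R ⧸ M) '' F) := by
    apply Set.Subset.antisymm (Set.subset_preimage_image _ _)
    rintro y ⟨x, ⟨hx1, hx2⟩, hxy⟩
    have hmem : x⁻¹ * y ∈ M := QuotientGroup.eq.1 hxy
    rw [← hx2] at hmem
    obtain ⟨h1, h2⟩ := good_key hp2 hg hx1 hmem
    rw [mul_inv_cancel_left] at h1 h2
    exact ⟨h1, by rw [h2, hx2]⟩
  rw [Nat.card_congr e, hsat,
    Nat.card_congr (QuotientGroup.preimageMkEquivSubgroupProdSet M _), Nat.card_prod]
  apply Dvd.dvd.mul_right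
  have hM' : zpowers (x₀ ^ p) ⊔ hg.B = M := hM
  rw [← hM']
  exact good_card_dvd hR hg hx₀

end Miller


/-- The number of elements of order `d` in a subgroup `K` is `φ d` times the number of cyclic
subgroups of order `d` of `K`. -/
theorem card_orderOf_eq_totient_mul {G : Type*} [Group G] [Finite G] (K : Subgroup G) (d : ℕ) :
    Nat.card {x : G // x ∈ K ∧ orderOf x = d} =
      Nat.totient d * Nat.card {D : Subgroup G // D ≤ K ∧ IsCyclic D ∧ Nat.card D = d} := by
  classical
  let _ : Fintype (Subgroup G) := Fintype.ofFinite _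
  let f : {x : G // x ∈ K ∧ orderOf x = d} →
      {D : Subgroup G // D ≤ K ∧ IsCyclic D ∧ Nat.card D = d} := fun x =>
    ⟨zpowers x.1, zpowers_le.2 x.2.1, inferInstance, by rw [Nat.card_zpowers, x.2.2]⟩
  rw [Nat.card_congr (Equiv.sigmaFiberEquiv f).symm, Nat.card_sigma]
  have hfib : ∀ D : {D : Subgroup G // D ≤ K ∧ IsCyclic D ∧ Nat.card D = d},
      Nat.card {x // f x = D} = Nat.totient d := by
    intro D
    have hcyc : IsCyclic D.1 := D.2.2.1
    let _ : Fintype ↥D.1 := Fintype.ofFinite _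
    let e : {x // f x = D} ≃ {y : ↥D.1 // orderOf y = d} :=
      { toFun := fun x => ⟨⟨x.1.1, by
            have := congrArg Subtype.val x.2
            rw [← this]
            exact mem_zpowers _⟩, by
            rw [Subgroup.orderOf_mk]
            exact x.1.2.2⟩
        invFun := fun y => ⟨⟨y.1.1, D.2.1 y.1.2, by
            rw [Subgroup.orderOf_coe]
            exact y.2⟩, by
            apply Subtype.ext
            show zpowers (y.1 : G) = D.1
            apply Subgroup.eq_of_le_of_card_ge (zpowers_le.2 y.1.2)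
            rw [Nat.card_zpowers, Subgroup.orderOf_coe, y.2, D.2.2.2]⟩
        left_inv := fun x => rfl
        right_inv := fun y => rfl }
    rw [Nat.card_congr e, Nat.card_eq_fintype_card, Fintype.card_subtype]
    apply IsCyclic.card_orderOf_eq_totient
    rw [← Nat.card_eq_fintype_card, D.2.2.2]
  simp only [hfib, Finset.sum_const, Finset.card_univ, smul_eq_mul, Nat.card_eq_fintype_card]
  rw [mul_comm]



/-- elements of order `c * d` (`c`, `d` coprime) correspond to commuting pairs of elements of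
orders `d` and `c`. -/
theorem card_orderOf_mul {G : Type*} [Group G] {c d : ℕ} (hcd : c.Coprime d) (hc : c ≠ 0)
    (hd : d ≠ 0) :
    Nat.card {g : G // orderOf g = c * d} =
      Nat.card {q : G × G // orderOf q.1 = d ∧ q.2 ∈ centralizer {q.1} ∧ orderOf q.2 = c} := by
  obtain ⟨a, ha1, ha2⟩ := Nat.chineseRemainder hcd 0 1
  obtain ⟨b, hb1, hb2⟩ := Nat.chineseRemainder hcd 1 0
  have hab : a + b ≡ 1 [MOD c * d] := by
    rw [← Nat.modEq_and_modEq_iff_modEq_mul hcd]
    exact ⟨by simpa using ha1.add hb1, by simpa using ha2.add hb2⟩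
  have hca : c ∣ a := (Nat.modEq_zero_iff_dvd).1 ha1
  have hdb : d ∣ b := (Nat.modEq_zero_iff_dvd).1 hb2
  have key : ∀ g : G, orderOf g = c * d → orderOf (g ^ a) = d ∧ orderOf (g ^ b) = c := by
    intro g hg
    have h1 : orderOf (g ^ a) ∣ d := by
      apply orderOf_dvd_of_pow_eq_one
      rw [← pow_mul]
      apply orderOf_dvd_iff_pow_eq_one.1
      rw [hg]
      exact Nat.mul_dvd_mul_right hca d
    have h2 : orderOf (g ^ b) ∣ c := by
      apply orderOf_dvd_of_pow_eq_one
      rw [← pow_mul]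
      apply orderOf_dvd_iff_pow_eq_one.1
      rw [hg, mul_comm b c]
      exact Nat.mul_dvd_mul_left c hdb
    have h3 : g ^ b * g ^ a = g := by
      rw [← pow_add, add_comm]
      conv_rhs => rw [← pow_one g]
      rw [pow_eq_pow_iff_modEq, hg]
      exact hab
    have hcomm : Commute (g ^ b) (g ^ a) := (Commute.refl g).pow_pow b a
    have h4 : c * d ∣ orderOf (g ^ b) * orderOf (g ^ a) := by
      have := hcomm.orderOf_mul_dvd_lcm
      rw [h3, hg] at this
      exact this.trans (Nat.lcm_dvd_mul _ _)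
    obtain ⟨c', hc'⟩ := h2
    obtain ⟨d', hd'⟩ := h1
    have h5 : orderOf (g ^ b) * orderOf (g ^ a) ≠ 0 := by
      intro h0
      rcases Nat.mul_eq_zero.1 h0 with h0 | h0
      · rw [h0, zero_mul] at hc'; exact hc hc'
      · rw [h0, zero_mul] at hd'; exact hd hd'
    have h6 : c * d = orderOf (g ^ b) * orderOf (g ^ a) * (c' * d') := by
      rw [hc', hd']; ring
    obtain ⟨e, he⟩ := h4
    have h7 : orderOf (g ^ b) * orderOf (g ^ a) * 1 =
        orderOf (g ^ b) * orderOf (g ^ a) * (c' * d' * e) := by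
      calc orderOf (g ^ b) * orderOf (g ^ a) * 1 = orderOf (g ^ b) * orderOf (g ^ a) := mul_one _
        _ = c * d * e := he
        _ = orderOf (g ^ b) * orderOf (g ^ a) * (c' * d') * e := by rw [h6]
        _ = orderOf (g ^ b) * orderOf (g ^ a) * (c' * d' * e) := by ring
    have h8 : 1 = c' * d' * e := Nat.eq_of_mul_eq_mul_left (Nat.pos_of_ne_zero h5) h7
    have hc1 : c' = 1 := Nat.dvd_one.1 ⟨d' * e, by rw [h8]; ring⟩
    have hd1 : d' = 1 := Nat.dvd_one.1 ⟨c' * e, by rw [h8]; ring⟩
    rw [hc1, mul_one] at hc'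
    rw [hd1, mul_one] at hd'
    exact ⟨hd'.symm, hc'.symm⟩
  refine Nat.card_congr
    { toFun := fun g => ⟨(g.1 ^ a, g.1 ^ b), (key g.1 g.2).1,
        mem_centralizer_singleton_iff.2 ((Commute.refl g.1).pow_pow b a).eq, (key g.1 g.2).2⟩
      invFun := fun q => ⟨q.1.2 * q.1.1, by
        have hcomm : Commute q.1.2 q.1.1 := mem_centralizer_singleton_iff.1 q.2.2.1
        rw [hcomm.orderOf_mul_eq_mul_orderOf_of_coprime (by rw [q.2.1, q.2.2.2]; exact hcd),
          q.2.1, q.2.2.2]⟩
      left_inv := ?_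
      right_inv := ?_ }
  · rintro ⟨g, hg⟩
    apply Subtype.ext
    show g ^ b * g ^ a = g
    rw [← pow_add, add_comm]
    conv_rhs => rw [← pow_one g]
    rw [pow_eq_pow_iff_modEq, hg]
    exact hab
  · rintro ⟨⟨y, x⟩, hy, hxy, hx⟩
    have hcomm : Commute x y := mem_centralizer_singleton_iff.1 hxy
    apply Subtype.ext
    show ((x * y) ^ a, (x * y) ^ b) = (y, x)
    simp only at hy hx
    have e1 : x ^ a = 1 := orderOf_dvd_iff_pow_eq_one.1 (hx ▸ hca)
    have e2 : y ^ b = 1 := orderOf_dvd_iff_pow_eq_one.1 (hy ▸ hdb)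
    have e3 : y ^ a = y := by
      conv_rhs => rw [← pow_one y]
      rw [pow_eq_pow_iff_modEq, hy]
      exact ha2
    have e4 : x ^ b = x := by
      conv_rhs => rw [← pow_one x]
      rw [pow_eq_pow_iff_modEq, hx]
      exact hb1
    rw [hcomm.mul_pow, hcomm.mul_pow, e1, e2, e3, e4, one_mul, mul_one]



section Pairs
variable {G : Type*} [Group G]

/-- conjugation on pairs (element, subgroup) -/
def conjPair (g : G) (w : G × Subgroup G) : G × Subgroup G :=
  (g * w.1 * g⁻¹, w.2.map (MulAut.conj g).toMonoidHom)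

theorem conjPair_one (w : G × Subgroup G) : conjPair 1 w = w := by
  unfold conjPair
  ext1
  · simp
  · ext x
    simp [Subgroup.mem_map]

theorem conjPair_mul (g h : G) (w : G × Subgroup G) :
    conjPair (g * h) w = conjPair g (conjPair h w) := by
  unfold conjPair
  ext1
  · simp [mul_assoc]
  · simp only [Subgroup.map_map]
    congr 1
    ext x
    simp [mul_assoc]

theorem mem_conjPair_snd {g : G} {w : G × Subgroup G} {x : G} :
    x ∈ (conjPair g w).2 ↔ g⁻¹ * x * g ∈ w.2 := by
  unfold conjPair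
  simp only [Subgroup.mem_map, MulEquiv.coe_toMonoidHom, MulAut.conj_apply]
  constructor
  · rintro ⟨y, hy, rfl⟩
    simpa [mul_assoc] using hy
  · intro h
    exact ⟨_, h, by group⟩

/-- the conjugation action of a subgroup `P` on an invariant set of pairs -/
abbrev pairAction (P : Subgroup G) (S : Set (G × Subgroup G))
    (hS : ∀ g ∈ P, ∀ w ∈ S, conjPair g w ∈ S) : MulAction P S where
  smul g w := ⟨conjPair g.1 w.1, hS g.1 g.2 w.1 w.2⟩
  one_smul w := Subtype.ext (conjPair_one w.1)
  mul_smul g h w := Subtype.ext (conjPair_mul g.1 h.1 w.1)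

theorem card_pairs_modEq [Finite G] {p : ℕ} [Fact p.Prime] (P : Subgroup G) (hP : IsPGroup p P)
    (S : Set (G × Subgroup G)) (hS : ∀ g ∈ P, ∀ w ∈ S, conjPair g w ∈ S) :
    Nat.card S ≡ Nat.card {w : G × Subgroup G // w ∈ S ∧ ∀ g ∈ P, conjPair g w = w} [MOD p] := by
  let _ := pairAction P S hS
  have h1 := hP.card_modEq_card_fixedPoints S
  have e : MulAction.fixedPoints P S ≃
      {w : G × Subgroup G // w ∈ S ∧ ∀ g ∈ P, conjPair g w = w} :=
    { toFun := fun x => ⟨x.1.1, x.1.2, fun g hg => congrArg Subtype.val (x.2 ⟨g, hg⟩)⟩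
      invFun := fun y => ⟨⟨y.1, y.2.1⟩, fun g => Subtype.ext (y.2.2 g.1 g.2)⟩
      left_inv := fun x => rfl
      right_inv := fun y => rfl }
  rwa [Nat.card_congr e] at h1

end Pairs


end Cfsg.Agent.Lib.Helper63_Miller
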