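/-
S2344 wave 3 (cutter helper87), package OO2-EXQ (proof helper63): existence of the hyperbolic frames in
spaces of odd type.
-/
import Mathlib
import Cfsg.Agent.Lib.Helper95_OPDefs
import Cfsg.Agent.Lib.Helper95_OPBasic
import Cfsg.Agent.Lib.Helper48_OODefs
import Cfsg.Agent.Lib.Helper87_OO2Defs
import Cfsg.Agent.Lib.Helper87_OO2Defs2
import Cfsg.Agent.Lib.Helper87_OO2Defs3
import Cfsg.Agent.Lib.Helper85_OO2_RankOne
import Cfsg.Agent.Lib.Helper85_OO2_LemK
import Cfsg.Agent.Lib.Helper85_OO2_INVOL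

set_option autoImplicit false
set_option linter.unusedSectionVars false
set_option linter.unusedVariables false

namespace Cfsg.Agent.Lib.Helper63_OO2_EXQ

open Module Cfsg.Agent.Lib.Helper94_OrthSmall Cfsg.Agent.Lib.Helper44_QuadClass
  Cfsg.Agent.Lib.Helper14_OmegaSimple Cfsg.Agent.Lib.Helper38_MIODefs
  Cfsg.Agent.Lib.Helper95_OPDefs Cfsg.Agent.Lib.Helper95_OPBasic Cfsg.Agent.Lib.Helper48_OODefs
  Cfsg.Agent.Lib.Helper87_OO2Defs Cfsg.Agent.Lib.Helper85_OO2_RankOne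

variable {F V : Type*} [Field F] [Fintype F] [AddCommGroup V] [Module F V] [FiniteDimensional F V]
  {X : Type*} [AddCommGroup X] [Module ℂ X] [FiniteDimensional ℂ X]

/-- a hyperbolic pair of the complement is a hyperbolic pair of the space -/
theorem hpair_coe (Q : QuadraticForm F V) {v v' : V} {a a' : ↥(perp Q v v')}
    (h : HPair (Qp Q v v') a a') : HPair Q (a : V) (a' : V) :=
  ⟨h.qa, h.qa', by rw [← polar_comp_subtype]; exact h.aa'⟩

/-- a hyperbolic quadruple of the complement is a hyperbolic quadruple of the space -/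
theorem hquad_coe (Q : QuadraticForm F V) {v v' : V} {a a' b b' : ↥(perp Q v v')}
    (h : HQuad (Qp Q v v') a a' b b') : HQuad Q (a : V) (a' : V) (b : V) (b' : V) :=
  ⟨hpair_coe Q h.pa, hpair_coe Q h.pb, by rw [← polar_comp_subtype]; exact h.ab,
    by rw [← polar_comp_subtype]; exact h.ab', by rw [← polar_comp_subtype]; exact h.a'b,
    by rw [← polar_comp_subtype]; exact h.a'b'⟩

/-- a hyperbolic pair of the space inside the complement is a hyperbolic pair of the complement -/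
theorem hpair_mk (Q : QuadraticForm F V) {v v' a a' : V} (h : HPair Q a a')
    (ha : a ∈ perp Q v v') (ha' : a' ∈ perp Q v v') :
    HPair (Qp Q v v') (⟨a, ha⟩ : ↥(perp Q v v')) (⟨a', ha'⟩ : ↥(perp Q v v')) :=
  ⟨h.qa, h.qa', by rw [polar_comp_subtype]; exact h.aa'⟩

/-- a space of odd type of rank at least one contains a hyperbolic pair -/
theorem exists_hpair (Q : QuadraticForm F V) (n : ℕ) (hn : 1 ≤ n) (hP : IsOddT Q n) :
    ∃ a a' : V, HPair Q a a' := by
  have hdim : 3 ≤ finrank F V := by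
    have := hP.dim
    omega
  obtain ⟨a, ha0, ha⟩ := exists_singular Q hdim
  obtain ⟨a', ha', haa'⟩ := exists_hyperbolic_partner Q hP.nondeg ha0 ha
  exact ⟨a, a', ha, ha', haa'⟩

/-- a space of odd type of rank zero (a non-degenerate line) contains a non-singular vector -/
theorem exists_nonsing_of_rank_zero (Q : QuadraticForm F V) (hP : IsOddT Q 0) :
    ∃ x : V, Q x ≠ 0 := by
  have hd : finrank F V = 1 := by
    have := hP.dim
    omega
  have hpos : 0 < finrank F V := by omega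
  obtain ⟨x, hx⟩ := Module.finrank_pos_iff_exists_ne_zero.mp hpos
  refine ⟨x, fun h0 => ?_⟩
  have hz := hP.zeros
  rw [pow_zero] at hz
  have hfin : Finite V := Module.finite_of_finite F
  have hsub : Subsingleton {y : V // Q y = 0} := (Nat.card_eq_one_iff_unique.mp hz).1
  have := hsub.elim ⟨x, h0⟩ ⟨0, map_zero _⟩
  exact hx (congrArg Subtype.val this)

/-! ## OO2-EXQ (M): existence of the frames -/
theorem exists_HQuad (Q : QuadraticForm F V) (n : ℕ) (hn : 2 ≤ n) (hP : IsOddT Q n) {v v' : V}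
    (hvv : HPair Q v v') : ∃ w0 w0' : V, HQuad Q v v' w0 w0' := by
  have hP1 : IsOddT (Qp Q v v') (n - 1) :=
    isOddT_perp Q n (by omega) hP hvv.qa hvv.qa' hvv.aa'
  obtain ⟨a, a', haa'⟩ := exists_hpair (Qp Q v v') (n - 1) (by omega) hP1
  exact ⟨(a : V), (a' : V), HQuad.of_mem_perp Q hvv (hpair_coe Q haa') a.2 a'.2⟩

theorem exists_third (Q : QuadraticForm F V) (n : ℕ) (hn : 3 ≤ n) (hP : IsOddT Q n)
    {v v' w0 w0' : V} (h : HQuad Q v v' w0 w0') :
    ∃ w1 w1' : V, HQuad Q v v' w1 w1' ∧ HQuad Q w0 w0' w1 w1' := by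
  have hP1 : IsOddT (Qp Q v v') (n - 1) :=
    isOddT_perp Q n (by omega) hP h.pa.qa h.pa.qa' h.pa.aa'
  have hp0 := hpair_mk Q (v := v) (v' := v') h.pb h.mem_perp.1 h.mem_perp.2
  obtain ⟨b, b', hbb'⟩ := exists_HQuad (Qp Q v v') (n - 1) (by omega) hP1 hp0
  have hq := hquad_coe Q hbb'
  exact ⟨(b : V), (b' : V), HQuad.of_mem_perp Q h.pa hq.pb b.2 b'.2, hq⟩

theorem exists_Frame3 (Q : QuadraticForm F V) (hP : IsOddT Q 3) {v v' w0 w0' : V}
    (h : HQuad Q v v' w0 w0') : ∃ w1 w1' x : V, Frame3 Q v v' w0 w0' w1 w1' x := by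
  -- level 1
  have hP1 : IsOddT (Qp Q v v') 2 :=
    isOddT_perp Q 3 (by omega) hP h.pa.qa h.pa.qa' h.pa.aa'
  have hp0 := hpair_mk Q (v := v) (v' := v') h.pb h.mem_perp.1 h.mem_perp.2
  set a0 : ↥(perp Q v v') := ⟨w0, h.mem_perp.1⟩ with ha0
  set a0' : ↥(perp Q v v') := ⟨w0', h.mem_perp.2⟩ with ha0'
  -- level 2
  have hP2 : IsOddT (Qp (Qp Q v v') a0 a0') 1 :=
    isOddT_perp (Qp Q v v') 2 (by omega) hP1 hp0.qa hp0.qa' hp0.aa'
  obtain ⟨b, b', hbb'⟩ := exists_hpair (Qp (Qp Q v v') a0 a0') 1 le_rfl hP2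
  -- level 3
  have hP3 := isOddT_perp (Qp (Qp Q v v') a0 a0') 1 le_rfl hP2 hbb'.qa hbb'.qa' hbb'.aa'
  rw [Nat.sub_self] at hP3
  obtain ⟨x3, hqx3⟩ := exists_nonsing_of_rank_zero _ hP3
  -- the quadruple `(w0, w0', b, b')` in `W`, then in `V`
  have hq1 : HQuad (Qp Q v v') a0 a0' (b : ↥(perp Q v v')) (b' : ↥(perp Q v v')) :=
    HQuad.of_mem_perp (Qp Q v v') hp0 (hpair_coe (Qp Q v v') hbb') b.2 b'.2
  have hq := hquad_coe Q hq1
  -- the vector `x`
  have hx2 : ((x3 : ↥(perp (Qp Q v v') a0 a0')) : ↥(perp Q v v')) ∈ perp (Qp Q v v') a0 a0' :=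
    (x3 : ↥(perp (Qp Q v v') a0 a0')).2
  have hx2' := (mem_perp (Qp Q v v') a0 a0').1 hx2
  rw [polar_comp_subtype, polar_comp_subtype] at hx2'
  have hx3' := (mem_perp (Qp (Qp Q v v') a0 a0') b b').1 x3.2
  rw [polar_comp_subtype, polar_comp_subtype, polar_comp_subtype, polar_comp_subtype] at hx3'
  refine ⟨((b : ↥(perp Q v v')) : V), ((b' : ↥(perp Q v v')) : V),
    (((x3 : ↥(perp (Qp Q v v') a0 a0')) : ↥(perp Q v v')) : V), ?_⟩
  refine ⟨h, HQuad.of_mem_perp Q h.pa hq.pb (b : ↥(perp Q v v')).2 (b' : ↥(perp Q v v')).2, hq, ?_,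
    ?_, ?_, hqx3⟩
  · refine Submodule.mem_inf.mpr
      ⟨((x3 : ↥(perp (Qp Q v v') a0 a0')) : ↥(perp Q v v')).2, (mem_perp Q w0 w0').2 ?_⟩
    exact hx2'
  · rw [QuadraticMap.polar_comm]
    exact hx3'.1
  · rw [QuadraticMap.polar_comm]
    exact hx3'.2

end Cfsg.Agent.Lib.Helper63_OO2_EXQ
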