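/-
S2344 wave 2 (cutter helper87), package OO2-GEN3 (proof helper63): a vector of `Y = X^{R L'}` fixed by
`n_1 = n_{v w0}(1)` is fixed by the whole group `T Q`.
-/
import Mathlib
import Cfsg.Agent.Lib.Helper95_OPDefs
import Cfsg.Agent.Lib.Helper95_OPBasic
import Cfsg.Agent.Lib.Helper48_OODefs
import Cfsg.Agent.Lib.Helper87_OO2Defs
import Cfsg.Agent.Lib.Helper87_OO2Defs2
import Cfsg.Agent.Lib.Helper85_OO2_RankOne
import Cfsg.Agent.Lib.Helper85_OO2_LemK
import Cfsg.Agent.Lib.Helper42_OO2_FRAME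
import Cfsg.Agent.Lib.Helper12_OO2_HEIS
import Cfsg.Agent.Lib.Helper52_MIO_RESTR
import Cfsg.Agent.Lib.Helper8_OM_OPP
import Cfsg.Agent.Lib.Helper95_OM_GEN
import Cfsg.Agent.Lib.Helper17_MIO_TR

set_option autoImplicit false
set_option linter.unusedSectionVars false
set_option linter.unusedVariables false

namespace Cfsg.Agent.Lib.Helper63_OO2_GEN3

open Module Cfsg.Agent.Lib.Helper94_OrthSmall Cfsg.Agent.Lib.Helper44_QuadClass
  Cfsg.Agent.Lib.Helper14_OmegaSimple Cfsg.Agent.Lib.Helper38_MIODefs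
  Cfsg.Agent.Lib.Helper95_OPDefs Cfsg.Agent.Lib.Helper95_OPBasic Cfsg.Agent.Lib.Helper48_OODefs
  Cfsg.Agent.Lib.Helper87_OO2Defs

variable {F V : Type*} [Field F] [Fintype F] [AddCommGroup V] [Module F V] [FiniteDimensional F V]
  {X : Type*} [AddCommGroup X] [Module ℂ X] [FiniteDimensional ℂ X]

/-- the linear automorphisms of `W` preserving a predicate -/
def predStab {W : Type*} [AddCommGroup W] [Module F W] (f : W → Prop) : Subgroup (W ≃ₗ[F] W) where
  carrier := {φ | ∀ u, f (φ u) ↔ f u}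
  mul_mem' := by
    intro φ ψ hφ hψ u
    rw [LinearEquiv.mul_apply, hφ, hψ]
  one_mem' := fun u => Iff.rfl
  inv_mem' := by
    intro φ hφ u
    have h1 := hφ (φ⁻¹ u)
    have h2 : φ (φ⁻¹ u) = u := by
      rw [← LinearEquiv.mul_apply, mul_inv_cancel]
      rfl
    rw [h2] at h1
    exact h1.symm

/-! ## OO2-GEN3 (M/L) -/
theorem fixed_of_Y_n1 (Q : QuadraticForm F V) (hQ : (QuadraticMap.polarBilin Q).Nondegenerate)
    (hdim : 7 ≤ finrank F V) {v v' w0 w0' : V} (h : HQuad Q v v' w0 w0')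
    (ρ : Representation ℂ ↥(T Q) X) (x : X) (hx : x ∈ Ysp Q ρ v v')
    (hn : repE Q ρ (nw Q v v' w0 w0' 1) x = x) (g : ↥(T Q)) : ρ g x = x := by
  classical
  have hv := h.pa.qa
  have hv' := h.pa.qa'
  have hvv' := h.pa.aa'
  have hdim5 : 5 ≤ finrank F V := by omega
  obtain ⟨hxR, hxL⟩ := Submodule.mem_inf.mp hx
  have hQw : (QuadraticMap.polarBilin (Qp Q v v')).Nondegenerate :=
    nondegenerate_perp hQ hv hv' hvv'
  have hdimW : 5 ≤ finrank F ↥(perp Q v v') := by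
    have := finrank_perp (Q := Q) hv hv' hvv'
    omega
  -- the fixer of `x`
  set Fx := Cfsg.Agent.Lib.Helper8_OM_OPP.fixer Q ρ x with hFx
  have hmemFx : ∀ k : V ≃ₗ[F] V, k ∈ Fx ↔ k ∈ T Q ∧ repE Q ρ k x = x := fun k => Iff.rfl
  -- `n1` and `E(v, w0')` fix `x`
  have hn1T : nw Q v v' w0 w0' 1 ∈ T Q := nw_mem_T h 1
  have hn1 : nw Q v v' w0 w0' 1 ∈ Fx := ⟨hn1T, hn⟩
  have hw0W : w0 ∈ perp Q v v' := h.mem_perp.1
  have hw0'W : w0' ∈ perp Q v v' := h.mem_perp.2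
  have hE1 : E Q v w0' ∈ Fx :=
    ⟨rad_mem Q hQ hdim5 hv (⟨w0', hw0'W⟩ : ↥(perp Q v v')), hxR w0' hw0'W⟩
  have hconj : nw Q v v' w0 w0' 1 * E Q v w0' * (nw Q v v' w0 w0' 1)⁻¹ = E Q w0 (-v') := by
    have := conj_E Q (T_le_oG Q hn1T) hv h.ab'
    rw [Cfsg.Agent.Lib.Helper42_OO2_FRAME.nw_a h 1 one_ne_zero,
      Cfsg.Agent.Lib.Helper42_OO2_FRAME.nw_b' h 1 one_ne_zero, inv_one, one_smul, one_smul] at this
    exact this
  have hsw : E Q v' w0 = E Q w0 (-v') :=
    Cfsg.Agent.Lib.Helper12_OO2_HEIS.E_swap hv' h.pb.qa h.a'b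
  have hE2 : E Q v' w0 ∈ Fx := by
    rw [hsw, ← hconj]
    exact Fx.mul_mem (Fx.mul_mem hn1 hE1) (Fx.inv_mem hn1)
  -- the predicate on `W`
  set f : ↥(perp Q v v') → Prop := fun u => E Q v' (u : V) ∈ Fx with hf
  have hpv' : ∀ u : ↥(perp Q v v'), QuadraticMap.polar (⇑Q) v' (u : V) = 0 :=
    fun u => ((mem_perp Q v v').1 u.2).2
  -- invariance under the long root elements of `W`
  have hroot : rootSet (Qp Q v v') ⊆ (predStab (F := F) f : Set _) := by
    rintro φ ⟨a, b, ha, hb, hab, rfl⟩ u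
    have ha' : Q (a : V) = 0 := ha
    have hb' : Q (b : V) = 0 := hb
    have hab' : QuadraticMap.polar (⇑Q) (a : V) (b : V) = 0 := by
      rw [← polar_comp_subtype]; exact hab
    have hgT : E Q (a : V) (b : V) ∈ T Q := root_mem_T Q ha' hb' hab'
    have hgF : E Q (a : V) (b : V) ∈ Fx := ⟨hgT, hxL a a.2 b b.2 ha' hb' hab'⟩
    have hres : ((E (Qp Q v v') a b u : ↥(perp Q v v')) : V) = E Q (a : V) (b : V) (u : V) :=
      Cfsg.Agent.Lib.Helper52_MIO_RESTR.restr Q v v' a b u ha' hab'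
    have hgv' : E Q (a : V) (b : V) v' = v' := by
      rw [E_apply Q ha' hab', hpv' a, hpv' b]
      simp
    have hc := conj_E Q (T_le_oG Q hgT) hv' (hpv' u)
    rw [hgv', ← hres] at hc
    show E Q v' ((E (Qp Q v v') a b u : ↥(perp Q v v')) : V) ∈ Fx ↔ E Q v' (u : V) ∈ Fx
    rw [← hc]
    constructor
    · intro hk
      have := Fx.mul_mem (Fx.mul_mem (Fx.inv_mem hgF) hk) hgF
      have he : (E Q (a : V) (b : V))⁻¹ * (E Q (a : V) (b : V) * E Q v' (u : V) *
          (E Q (a : V) (b : V))⁻¹) * E Q (a : V) (b : V) = E Q v' (u : V) := by group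
      rw [he] at this
      exact this
    · intro hk
      exact Fx.mul_mem (Fx.mul_mem hgF hk) (Fx.inv_mem hgF)
  have hTle : T (Qp Q v v') ≤ predStab (F := F) f := by
    rw [T, Subgroup.closure_le]
    exact hroot
  have hfinv : ∀ u z : ↥(perp Q v v'), Qp Q v v' u = 0 →
      QuadraticMap.polar (⇑(Qp Q v v')) u z = 0 → ∀ y, f (E (Qp Q v v') u z y) = f y := by
    intro u z hu huz y
    exact propext (hTle (E_mem_T (Qp Q v v') hQw hdimW hu huz) y)
  -- all singular vectors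
  have hw0ne : (⟨w0, hw0W⟩ : ↥(perp Q v v')) ≠ 0 := by
    intro h0
    have h1 : w0 = 0 := congrArg Subtype.val h0
    have h2 := h.pb.aa'
    rw [h1] at h2
    simp [QuadraticMap.polar] at h2
  have hf0 : f 0 := by
    show E Q v' ((0 : ↥(perp Q v v')) : V) ∈ Fx
    rw [Submodule.coe_zero, E_zero_right Q hv']
    exact Fx.one_mem
  have hsing : ∀ u : ↥(perp Q v v'), Qp Q v v' u = 0 → f u := by
    intro u hu
    by_cases hu0 : u = 0
    · rw [hu0]; exact hf0
    · have hq : Qp Q v v' (⟨w0, hw0W⟩ : ↥(perp Q v v')) = Qp Q v v' u := by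
        rw [hu]
        exact h.pb.qa
      have := Cfsg.Agent.Lib.Helper17_MIO_TR.tr_const (Qp Q v v') hQw hdimW f hfinv hw0ne hu0 hq
      rw [← this]
      exact hE2
  have hadd : ∀ u u' : ↥(perp Q v v'), f u → f u' → f (u + u') := by
    intro u u' hu hu'
    show E Q v' ((u + u' : ↥(perp Q v v')) : V) ∈ Fx
    rw [Submodule.coe_add, ← E_mul Q hv' (hpv' u) (hpv' u')]
    exact Fx.mul_mem hu hu'
  -- the vectors not orthogonal to `w0'`
  have hcase1 : ∀ w : ↥(perp Q v v'), QuadraticMap.polar (⇑Q) (w : V) w0' ≠ 0 → f w := by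
    intro w hp
    set c : F := -(Q (w : V)) / QuadraticMap.polar (⇑Q) (w : V) w0' with hc
    have hs : Qp Q v v' (w + c • (⟨w0', hw0'W⟩ : ↥(perp Q v v'))) = 0 := by
      show Q ((w : V) + c • w0') = 0
      rw [QuadraticMap.map_add Q, QuadraticMap.map_smul, h.pb.qa', QuadraticMap.polar_smul_right,
        smul_zero, add_zero, smul_eq_mul, hc, div_mul_cancel₀ _ hp, add_neg_cancel]
    have hs2 : Qp Q v v' (-(c • (⟨w0', hw0'W⟩ : ↥(perp Q v v')))) = 0 := by
      show Q (-(c • w0')) = 0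
      rw [QuadraticMap.map_neg, QuadraticMap.map_smul, h.pb.qa', smul_zero]
    have := hadd _ _ (hsing _ hs) (hsing _ hs2)
    rwa [add_neg_cancel_right] at this
  have hall : ∀ w : ↥(perp Q v v'), f w := by
    intro w
    by_cases hp : QuadraticMap.polar (⇑Q) (w : V) w0' = 0
    · have h1 : f (w + (⟨w0, hw0W⟩ : ↥(perp Q v v'))) := by
        apply hcase1
        show QuadraticMap.polar (⇑Q) ((w : V) + w0) w0' ≠ 0
        rw [QuadraticMap.polar_add_left, hp, h.pb.aa', zero_add]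
        exact one_ne_zero
      have hs2 : Qp Q v v' (-(⟨w0, hw0W⟩ : ↥(perp Q v v'))) = 0 := by
        show Q (-w0) = 0
        rw [QuadraticMap.map_neg, h.pb.qa]
      have := hadd _ _ h1 (hsing _ hs2)
      rwa [add_neg_cancel_right] at this
    · exact hcase1 w hp
  -- conclusion
  have hle : Subgroup.closure ({k : V ≃ₗ[F] V | ∃ w : ↥(perp Q v v'), k = E Q v (w : V)} ∪
      {k : V ≃ₗ[F] V | ∃ w : ↥(perp Q v v'), k = E Q v' (w : V)}) ≤ Fx := by
    rw [Subgroup.closure_le]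
    rintro k (⟨w, rfl⟩ | ⟨w, rfl⟩)
    · exact ⟨rad_mem Q hQ hdim5 hv w, hxR (w : V) w.2⟩
    · exact hall w
  have hg := hle (Cfsg.Agent.Lib.Helper95_OM_GEN.T_le_closure_rad_opp Q hQ hdim5 hv hv' hvv' g.2)
  have h3 := hg.2
  rw [repE_coe] at h3
  exact h3

end Cfsg.Agent.Lib.Helper63_OO2_GEN3
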