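import Mathlib
import Cfsg.Agent.Lib.Helper86_PomDefs

/-!
# pom market (family architect helper86, S4613 POM), package TORUS (helper63)

`torus_cent_of`: a block diagonal element of `Ω⁻` commuting with the root elements `lx (e_i) (e_k) 1` (`i < k`),
`lx (e_i) (f_k) 1` (`i ≠ k`), `sx (e_i) 1 0`, `sx (e_i) 0 1` has a scalar matrix, hence is central.
-/

set_option autoImplicit false
set_option linter.unusedSectionVars false
set_option linter.unusedVariables false
set_option linter.unusedSimpArgs false

namespace Cfsg.Agent.Lib.Helper63_Pom_TORUS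

open Matrix Cfsg Cfsg.Agent.Lib.Helper68_MatGrp Cfsg.Agent.Lib.Helper22_BlkGrp Cfsg.Agent.Lib.Helper22_StOmDefs
open Cfsg.Agent.Lib.Helper86_PomDefs Cfsg.Agent.Lib.Helper68_AutU
open Cfsg.Agent.Lib.Helper5_OmegaCenter (eichO eichMat)

variable {m : ℕ} {F : Type*} [Field F] [Fintype F] {A B : F} [Fact (Aniso A B)]

/-- entries of `M * single p q x` -/
theorem h63_mul_single_entry (M : Matrix (I m) (I m) F) (p q : I m) (x : F) (a b : I m) :
    (M * single p q x) a b = if b = q then M a p * x else 0 := by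
  by_cases h : b = q
  · subst h
    rw [if_pos rfl, Matrix.mul_single_apply_same]
  · rw [if_neg h, Matrix.mul_single_apply_of_ne x p q a b h M]

/-- entries of `single p q x * M` -/
theorem h63_single_mul_entry (M : Matrix (I m) (I m) F) (p q : I m) (x : F) (a b : I m) :
    (single p q x * M) a b = if a = p then x * M q b else 0 := by
  by_cases h : a = p
  · subst h
    rw [if_pos rfl, Matrix.single_mul_apply_same]
  · rw [if_neg h, Matrix.single_mul_apply_of_ne x p q a b h M]

/-- a matrix commuting with a long root matrix has equal diagonal entries at the two indices -/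
theorem h63_diag_eq_of_commute_lxM (T : Matrix (I m) (I m) F) {a c : I m} (h : LxOK a c)
    (hc : T * lxM a c 1 = lxM a c 1 * T) : T a a = T c c := by
  obtain ⟨ha, hc', hca, hca'⟩ := h
  have hac' : a ≠ op c := fun e => hca' (by rw [e, op_op])
  have e := congrFun (congrFun hc a) c
  simp only [lxM, Matrix.add_apply, Matrix.sub_apply, Matrix.mul_add, Matrix.mul_sub, Matrix.add_mul,
    Matrix.sub_mul, Matrix.mul_one, Matrix.one_mul, h63_mul_single_entry, h63_single_mul_entry,
    if_true, if_neg hca', if_neg hac', mul_one, one_mul, sub_zero] at e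
  exact add_left_cancel e

/-- the four relations obtained from commutation with a short root matrix -/
theorem h63_rel_of_commute_sxM (T : Matrix (I m) (I m) F) (i : Fin m) (s t : F)
    (hT0 : T d0 (ie i) = 0) (hT1 : T d1 (ie i) = 0)
    (hc : T * sxM A B (ie i) s t = sxM A B (ie i) s t * T) :
    T d0 d0 * s + T d0 d1 * t = s * T (jf i) (jf i) ∧ T d1 d0 * s + T d1 d1 * t = t * T (jf i) (jf i) := by
  have n1 : (jf i : I m) ≠ d0 := jf_ne_d0 i
  have n2 : (jf i : I m) ≠ d1 := jf_ne_d1 i
  have n3 : (d0 : I m) ≠ ie i := (ie_ne_d0 i).symm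
  have n4 : (d1 : I m) ≠ ie i := (ie_ne_d1 i).symm
  have n5 : (d0 : I m) ≠ d1 := d0_ne_d1
  have n6 : (d1 : I m) ≠ d0 := d0_ne_d1.symm
  constructor
  · have e := congrFun (congrFun hc d0) (jf i)
    simp only [sxM, op_ie, Matrix.add_apply, Matrix.sub_apply, Matrix.mul_add, Matrix.mul_sub, Matrix.add_mul,
      Matrix.sub_mul, Matrix.mul_one, Matrix.one_mul, h63_mul_single_entry, h63_single_mul_entry,
      if_true, if_neg n1, if_neg n2, if_neg n3, if_neg n4, if_neg n5, if_neg n6, hT0, hT1,
      zero_mul, mul_zero, sub_zero, add_zero] at e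
    linear_combination e
  · have e := congrFun (congrFun hc d1) (jf i)
    simp only [sxM, op_ie, Matrix.add_apply, Matrix.sub_apply, Matrix.mul_add, Matrix.mul_sub, Matrix.add_mul,
      Matrix.sub_mul, Matrix.mul_one, Matrix.one_mul, h63_mul_single_entry, h63_single_mul_entry,
      if_true, if_neg n1, if_neg n2, if_neg n3, if_neg n4, if_neg n5, if_neg n6, hT0, hT1,
      zero_mul, mul_zero, sub_zero, add_zero] at e
    linear_combination e

/-- TORUS (M).  A block diagonal element commuting with the root elements `lx (e_i) (e_k) 1` (`i < k`),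
`lx (e_i) (f_k) 1` (`i ≠ k`), `sx (e_i) 1 0`, `sx (e_i) 0 1` is a scalar matrix, hence central. -/
theorem torus_cent_of (hm : 2 ≤ m) (t : GO m F A B) (ht' : t ∈ Too m F A B)
    (h1 : ∀ i k : Fin m, i < k → t * lx A B (ie i) (ie k) 1 = lx A B (ie i) (ie k) 1 * t)
    (h2 : ∀ i k : Fin m, i ≠ k → t * lx A B (ie i) (jf k) 1 = lx A B (ie i) (jf k) 1 * t)
    (h3 : ∀ i : Fin m, t * sx A B (ie i) 1 0 = sx A B (ie i) 1 0 * t)
    (h4 : ∀ i : Fin m, t * sx A B (ie i) 0 1 = sx A B (ie i) 0 1 * t) :
    t ∈ Subgroup.center (GO m F A B) := by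
  set T := φ m F A B t with hT
  have hbd : ∀ a b, ht m a ≠ ht m b → T a b = 0 := mem_Too.1 ht'
  -- the indices `0` and `1`
  let i0 : Fin m := ⟨0, by omega⟩
  let i1 : Fin m := ⟨1, by omega⟩
  have h01 : i0 ≠ i1 := by
    intro e
    have := congrArg Fin.val e
    simp [i0, i1] at this
  -- commutation relations on matrices
  have c1 : ∀ i k : Fin m, i < k → T (ie i) (ie i) = T (ie k) (ie k) := by
    intro i k hik
    have hok : LxOK (ie i : I m) (ie k) := lxOK_ie (ne_of_lt hik)
    have e := congrArg (φ m F A B) (h1 i k hik)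
    rw [map_mul, map_mul, lx_val hok] at e
    exact h63_diag_eq_of_commute_lxM T hok e
  have c1' : ∀ i k : Fin m, T (ie i) (ie i) = T (ie k) (ie k) := by
    intro i k
    rcases lt_trichotomy i k with h | h | h
    · exact c1 i k h
    · rw [h]
    · exact (c1 k i h).symm
  have c2 : ∀ i k : Fin m, i ≠ k → T (ie i) (ie i) = T (jf k) (jf k) := by
    intro i k hik
    have hok : LxOK (ie i : I m) (jf k) :=
      ⟨not_isPl_ie i, not_isPl_jf k, fun e => ie_ne_jf i k e.symm,
        fun e => hik (jf_injective (by rw [op_ie] at e; exact e)).symm⟩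
    have e := congrArg (φ m F A B) (h2 i k hik)
    rw [map_mul, map_mul, lx_val hok] at e
    exact h63_diag_eq_of_commute_lxM T hok e
  set lam := T (ie i0) (ie i0) with hlam
  have e_e : ∀ i : Fin m, T (ie i) (ie i) = lam := fun i => c1' i i0
  have e_f : ∀ k : Fin m, T (jf k) (jf k) = lam := by
    intro k
    by_cases hk : i0 = k
    · have hk1 : i1 ≠ k := fun e => h01 (hk.trans e.symm)
      rw [← c2 i1 k hk1]
      exact e_e i1
    · rw [← c2 i0 k hk]
  have hne_e : ∀ i : Fin m, ht m (d0 : I m) ≠ ht m (ie i) ∧ ht m (d1 : I m) ≠ ht m (ie i) := by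
    intro i
    simp only [ht_d0, ht_d1, ht_ie]
    have := i.2
    omega
  have r3 := h63_rel_of_commute_sxM (A := A) (B := B) T i0 1 0 (hbd _ _ (hne_e i0).1) (hbd _ _ (hne_e i0).2)
    (by
      have e := congrArg (φ m F A B) (h3 i0)
      rw [map_mul, map_mul, sx_val (not_isPl_ie i0)] at e
      exact e)
  have r4 := h63_rel_of_commute_sxM (A := A) (B := B) T i0 0 1 (hbd _ _ (hne_e i0).1) (hbd _ _ (hne_e i0).2)
    (by
      have e := congrArg (φ m F A B) (h4 i0)
      rw [map_mul, map_mul, sx_val (not_isPl_ie i0)] at e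
      exact e)
  simp only [mul_one, mul_zero, add_zero, zero_add, one_mul, zero_mul, e_f] at r3 r4
  obtain ⟨r3a, r3b⟩ := r3
  obtain ⟨r4a, r4b⟩ := r4
  -- `T` is scalar
  have hscal : T = lam • (1 : Matrix (I m) (I m) F) := by
    ext a b
    rw [Matrix.smul_apply, Matrix.one_apply, smul_eq_mul]
    by_cases hab : ht m a = ht m b
    · rcases ht_eq_iff.1 hab with rfl | ⟨ha, hb⟩
      · rw [if_pos rfl, mul_one]
        rcases index_cases a with ⟨i, rfl⟩ | ⟨i, rfl⟩ | rfl | rfl
        · exact e_e i
        · exact e_f i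
        · exact r3a
        · exact r4b
      · rcases ha with rfl | rfl <;> rcases hb with rfl | rfl
        · rw [if_pos rfl, mul_one]; exact r3a
        · rw [if_neg d0_ne_d1, mul_zero]; exact r4a
        · rw [if_neg d0_ne_d1.symm, mul_zero]; exact r3b
        · rw [if_pos rfl, mul_one]; exact r4b
    · rw [hbd a b hab, if_neg (fun e => hab (by rw [e])), mul_zero]
  rw [Subgroup.mem_center_iff]
  intro g
  apply φ_injective
  rw [map_mul, map_mul, ← hT, hscal, Matrix.mul_smul, Matrix.smul_mul, Matrix.mul_one, Matrix.one_mul]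

end Cfsg.Agent.Lib.Helper63_Pom_TORUS
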