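import Mathlib
import Cfsg.Prelude.Def_Classical
import Cfsg.Prelude.Def_KGroupFacts

/-!
The group `QG β` attached to a bilinear form `β` over the field with two elements
(`(v, c) * (w, d) = (v + w, c + d + β v w)`), and its outer automorphism group: when the
alternating form `β v w + β w v` is nondegenerate, `Out (QG β)` is the isometry group of the
quadratic form `v ↦ β v v` (helper63).
-/

set_option autoImplicit false
set_option linter.unusedSectionVars false

namespace Cfsg.Agent.Lib.Helper63_QG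

variable {ι : Type} [Fintype ι] [DecidableEq ι]

/-- the group attached to a bilinear form over `ZMod 2` -/
@[ext] structure QG (β : LinearMap.BilinForm (ZMod 2) (ι → ZMod 2)) where
  v : ι → ZMod 2
  c : ZMod 2

namespace QG

variable {β : LinearMap.BilinForm (ZMod 2) (ι → ZMod 2)}

instance : Mul (QG β) := ⟨fun x y => ⟨x.v + y.v, x.c + y.c + β x.v y.v⟩⟩
instance : One (QG β) := ⟨⟨0, 0⟩⟩
instance : Inv (QG β) := ⟨fun x => ⟨-x.v, -x.c + β x.v x.v⟩⟩

@[simp] theorem mul_v (x y : QG β) : (x * y).v = x.v + y.v := rfl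
@[simp] theorem mul_c (x y : QG β) : (x * y).c = x.c + y.c + β x.v y.v := rfl
@[simp] theorem one_v : (1 : QG β).v = 0 := rfl
@[simp] theorem one_c : (1 : QG β).c = 0 := rfl
@[simp] theorem inv_v (x : QG β) : (x⁻¹).v = -x.v := rfl
@[simp] theorem inv_c (x : QG β) : (x⁻¹).c = -x.c + β x.v x.v := rfl

instance : Group (QG β) where
  mul_assoc x y z := by
    ext1
    · simp [add_assoc]
    · simp only [mul_c, mul_v, map_add, LinearMap.add_apply]
      ring
  one_mul x := by ext1 <;> simp
  mul_one x := by ext1 <;> simp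
  inv_mul_cancel x := by
    ext1
    · simp
    · simp only [mul_c, inv_c, inv_v, one_c, map_neg, LinearMap.neg_apply]
      ring

theorem add_self_zmod2 (t : ZMod 2) : t + t = 0 := CharTwo.add_self_eq_zero t

theorem add_self_v (v : ι → ZMod 2) : v + v = 0 := by
  funext i
  exact CharTwo.add_self_eq_zero (v i)

theorem neg_v (v : ι → ZMod 2) : -v = v := by
  funext i
  exact CharTwo.neg_eq (v i)

instance : Finite (QG β) :=
  Finite.of_injective (fun x : QG β => (x.v, x.c)) (fun x y h => by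
    ext1
    · exact congrArg Prod.fst h
    · exact congrArg Prod.snd h)

/-- the quadratic form -/
def q (β : LinearMap.BilinForm (ZMod 2) (ι → ZMod 2)) (v : ι → ZMod 2) : ZMod 2 := β v v

/-- the alternating form -/
def B (β : LinearMap.BilinForm (ZMod 2) (ι → ZMod 2)) (v w : ι → ZMod 2) : ZMod 2 :=
  β v w + β w v

theorem mk_mul_mk (v w : ι → ZMod 2) (c d : ZMod 2) :
    (⟨v, c⟩ : QG β) * ⟨w, d⟩ = ⟨v + w, c + d + β v w⟩ := rfl

theorem mk_eq_mul (v : ι → ZMod 2) (c : ZMod 2) : (⟨v, c⟩ : QG β) = ⟨v, 0⟩ * ⟨0, c⟩ := by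
  rw [mk_mul_mk]
  simp

theorem conj_mk (u v : ι → ZMod 2) (a c : ZMod 2) :
    (⟨u, a⟩ : QG β) * ⟨v, c⟩ * (⟨u, a⟩ : QG β)⁻¹ = ⟨v, c + B β u v⟩ := by
  ext1
  · simp only [mul_v, inv_v, neg_v]
    rw [add_comm u v, add_assoc, add_self_v, add_zero]
  · simp only [mul_c, mul_v, inv_c, inv_v, neg_v, map_add, LinearMap.add_apply, B,
      CharTwo.neg_eq]
    linear_combination (a + β u u) * (CharTwo.two_eq_zero (R := ZMod 2))

/-! ### the centre and the action of automorphisms on `V` -/

/-- nondegeneracy of the alternating form, in elementary terms -/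
def Nondeg (β : LinearMap.BilinForm (ZMod 2) (ι → ZMod 2)) : Prop :=
  ∀ v, (∀ w, B β v w = 0) → v = 0

theorem zmod2_eq_one {t : ZMod 2} (h : t ≠ 0) : t = 1 := by
  revert t
  decide

theorem central_iff (hnd : Nondeg β) (x : QG β) : (∀ y, x * y = y * x) ↔ x.v = 0 := by
  constructor
  · intro h
    apply hnd
    intro w
    have h1 := congrArg QG.c (h ⟨w, 0⟩)
    simp only [mul_c] at h1
    unfold B
    linear_combination h1 + (β w x.v) * (CharTwo.two_eq_zero (R := ZMod 2))
  · intro h y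
    ext1
    · simp [add_comm]
    · simp only [mul_c, h, map_zero, LinearMap.zero_apply]
      ring

/-- automorphisms fix the centre pointwise -/
theorem aut_center (hnd : Nondeg β) (α : MulAut (QG β)) (c : ZMod 2) :
    α ⟨0, c⟩ = ⟨0, c⟩ := by
  by_cases hc : c = 0
  · subst hc
    exact map_one α
  · have hc1 := zmod2_eq_one hc
    subst hc1
    have h1 : ∀ y, α ⟨0, 1⟩ * y = y * α ⟨0, 1⟩ := by
      intro y
      have h2 := congrArg α (((central_iff hnd (⟨0, 1⟩ : QG β)).2 rfl) (α⁻¹ y))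
      rwa [map_mul, map_mul, MulAut.apply_inv_self] at h2
    have hv := (central_iff hnd _).1 h1
    have hne : (α ⟨0, 1⟩).c ≠ 0 := by
      intro h0
      have : α ⟨0, 1⟩ = α 1 := by
        rw [map_one]
        ext1
        · exact hv
        · exact h0
      have h3 := congrArg QG.c (α.injective this)
      simp at h3
    ext1
    · exact hv
    · exact zmod2_eq_one hne

/-- the map induced on `V` by an automorphism -/
def gfun (α : MulAut (QG β)) (v : ι → ZMod 2) : ι → ZMod 2 := (α ⟨v, 0⟩).v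

theorem aut_v (hnd : Nondeg β) (α : MulAut (QG β)) (v : ι → ZMod 2) (c : ZMod 2) :
    (α ⟨v, c⟩).v = gfun α v := by
  rw [mk_eq_mul, map_mul, aut_center hnd, mul_v]
  simp [gfun]

theorem aut_v' (hnd : Nondeg β) (α : MulAut (QG β)) (x : QG β) : (α x).v = gfun α x.v :=
  aut_v hnd α x.v x.c

theorem gfun_add (hnd : Nondeg β) (α : MulAut (QG β)) (v w : ι → ZMod 2) :
    gfun α (v + w) = gfun α v + gfun α w := by
  have h := congrArg QG.v (map_mul α (⟨v, 0⟩ : QG β) ⟨w, 0⟩)
  rw [mk_mul_mk, aut_v hnd, mul_v] at h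
  exact h

theorem gfun_mul (hnd : Nondeg β) (α α' : MulAut (QG β)) (v : ι → ZMod 2) :
    gfun (α * α') v = gfun α (gfun α' v) := by
  show (α (α' ⟨v, 0⟩)).v = _
  rw [aut_v' hnd]
  rfl

theorem gfun_one (v : ι → ZMod 2) : gfun (1 : MulAut (QG β)) v = v := rfl

theorem sq_mk (v : ι → ZMod 2) (c : ZMod 2) : (⟨v, c⟩ : QG β) * ⟨v, c⟩ = ⟨0, q β v⟩ := by
  rw [mk_mul_mk, add_self_v, add_self_zmod2, zero_add]
  rfl

theorem q_gfun (hnd : Nondeg β) (α : MulAut (QG β)) (v : ι → ZMod 2) :
    q β (gfun α v) = q β v := by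
  have h := congrArg α (sq_mk (β := β) v 0)
  rw [map_mul, aut_center hnd] at h
  have h2 : α ⟨v, 0⟩ = ⟨gfun α v, (α ⟨v, 0⟩).c⟩ := rfl
  rw [h2, sq_mk] at h
  exact congrArg QG.c h

/-- the linear automorphism of `V` induced by an automorphism -/
def glin (hnd : Nondeg β) (α : MulAut (QG β)) : (ι → ZMod 2) ≃ₗ[ZMod 2] (ι → ZMod 2) :=
  LinearEquiv.ofLinearMap
    ((AddMonoidHom.mk' (gfun α) (gfun_add hnd α)).toZModLinearMap 2)
    ((AddMonoidHom.mk' (gfun α⁻¹) (gfun_add hnd α⁻¹)).toZModLinearMap 2)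
    (by
      refine LinearMap.ext fun v => ?_
      show gfun α (gfun α⁻¹ v) = v
      rw [← gfun_mul hnd, mul_inv_cancel, gfun_one])
    (by
      refine LinearMap.ext fun v => ?_
      show gfun α⁻¹ (gfun α v) = v
      rw [← gfun_mul hnd, inv_mul_cancel, gfun_one])

theorem glin_apply (hnd : Nondeg β) (α : MulAut (QG β)) (v : ι → ZMod 2) :
    glin hnd α v = gfun α v := rfl

/-- the homomorphism `Aut (QG β) → GL(V)` -/
def piHom (hnd : Nondeg β) : MulAut (QG β) →* ((ι → ZMod 2) ≃ₗ[ZMod 2] (ι → ZMod 2)) where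
  toFun := glin hnd
  map_one' := by
    refine LinearEquiv.ext fun v => ?_
    rfl
  map_mul' α α' := by
    refine LinearEquiv.ext fun v => ?_
    show gfun (α * α') v = gfun α (gfun α' v)
    exact gfun_mul hnd α α' v

theorem piHom_apply (hnd : Nondeg β) (α : MulAut (QG β)) (v : ι → ZMod 2) :
    piHom hnd α v = gfun α v := rfl

/-! ### the kernel is the group of inner automorphisms -/

theorem exists_repr (hnd : Nondeg β) (l : (ι → ZMod 2) →+ ZMod 2) :
    ∃ u, ∀ w, B β u w = l w := by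
  let Bf : (ι → ZMod 2) →ₗ[ZMod 2] Module.Dual (ZMod 2) (ι → ZMod 2) := β + β.flip
  have hBf : ∀ u w, Bf u w = B β u w := fun u w => rfl
  have hinj : Function.Injective Bf := by
    rw [← LinearMap.ker_eq_bot, LinearMap.ker_eq_bot']
    intro v hv
    apply hnd
    intro w
    rw [← hBf, hv]
    rfl
  have hsurj : Function.Surjective Bf :=
    (LinearMap.injective_iff_surjective_of_finrank_eq_finrank
      Subspace.dual_finrank_eq.symm).1 hinj
  obtain ⟨u, hu⟩ := hsurj (l.toZModLinearMap 2)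
  refine ⟨u, fun w => ?_⟩
  rw [← hBf, hu]
  rfl

theorem conj_mem_ker (hnd : Nondeg β) (x : QG β) : MulAut.conj x ∈ (piHom hnd).ker := by
  rw [MonoidHom.mem_ker]
  refine LinearEquiv.ext fun v => ?_
  show (MulAut.conj x ⟨v, 0⟩).v = v
  rw [MulAut.conj_apply]
  obtain ⟨u, a⟩ := x
  rw [conj_mk]

theorem ker_le_range (hnd : Nondeg β) :
    (piHom hnd).ker ≤ (MulAut.conj : QG β →* MulAut (QG β)).range := by
  intro α hα
  rw [MonoidHom.mem_ker] at hα
  have hg : ∀ v, gfun α v = v := fun v => by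
    rw [← piHom_apply hnd, hα]
    rfl
  have hform : ∀ v c, α ⟨v, c⟩ = ⟨v, (α ⟨v, 0⟩).c + c⟩ := by
    intro v c
    rw [mk_eq_mul, map_mul, aut_center hnd]
    have h2 : α ⟨v, 0⟩ = ⟨v, (α ⟨v, 0⟩).c⟩ := by
      ext1
      · exact hg v
      · rfl
    rw [h2, mk_mul_mk]
    simp
  have hadd : ∀ v w, (α ⟨v + w, 0⟩).c = (α ⟨v, 0⟩).c + (α ⟨w, 0⟩).c := by
    intro v w
    have h := congrArg QG.c (map_mul α (⟨v, 0⟩ : QG β) ⟨w, 0⟩)
    rw [mk_mul_mk, hform, hform v 0, hform w 0, mk_mul_mk] at h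
    simp only [add_zero, zero_add] at h
    linear_combination h
  obtain ⟨u, hu⟩ := exists_repr hnd (AddMonoidHom.mk' (fun v => (α ⟨v, 0⟩).c) hadd)
  refine ⟨⟨u, 0⟩, ?_⟩
  refine MulEquiv.ext fun x => ?_
  obtain ⟨v, c⟩ := x
  rw [MulAut.conj_apply, conj_mk, hform, hu]
  ext1
  · rfl
  · show c + (α ⟨v, 0⟩).c = (α ⟨v, 0⟩).c + c
    ring

theorem ker_piHom (hnd : Nondeg β) :
    (piHom hnd).ker = (MulAut.conj : QG β →* MulAut (QG β)).range := by
  apply le_antisymm (ker_le_range hnd)
  rintro _ ⟨x, rfl⟩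
  exact conj_mem_ker hnd x

/-! ### quadratic forms with a given alternating polarization -/

/-- the upper triangular part of a matrix, as a bilinear function -/
noncomputable def upper (M : Matrix ι ι (ZMod 2)) (v w : ι → ZMod 2) : ZMod 2 :=
  ∑ i, ∑ j, if Fintype.equivFin ι i < Fintype.equivFin ι j then M i j * v i * w j else 0

theorem upper_add_add (M : Matrix ι ι (ZMod 2)) (v w : ι → ZMod 2) :
    upper M (v + w) (v + w) = upper M v v + upper M w w + (upper M v w + upper M w v) := by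
  unfold upper
  simp only [← Finset.sum_add_distrib]
  refine Finset.sum_congr rfl fun i _ => Finset.sum_congr rfl fun j _ => ?_
  split_ifs
  · simp only [Pi.add_apply]
    ring
  · simp

theorem upper_symm_add (M : Matrix ι ι (ZMod 2)) (hdiag : ∀ i, M i i = 0)
    (hsymm : ∀ i j, M i j = M j i) (v w : ι → ZMod 2) :
    upper M v w + upper M w v = ∑ i, ∑ j, v i * w j * M i j := by
  have h1 : upper M w v =
      ∑ i, ∑ j, if Fintype.equivFin ι j < Fintype.equivFin ι i then M j i * w j * v i else 0 := by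
    unfold upper
    rw [Finset.sum_comm]
  rw [h1]
  unfold upper
  simp only [← Finset.sum_add_distrib]
  refine Finset.sum_congr rfl fun i _ => Finset.sum_congr rfl fun j _ => ?_
  rcases lt_trichotomy (Fintype.equivFin ι i) (Fintype.equivFin ι j) with h | h | h
  · rw [if_pos h, if_neg (not_lt.2 h.le)]
    ring
  · have hij : i = j := (Fintype.equivFin ι).injective h
    subst hij
    rw [if_neg (lt_irrefl _), hdiag]
    simp
  · rw [if_neg (not_lt.2 h.le), if_pos h, hsymm j i]
    ring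

theorem alt_symm (D : LinearMap.BilinForm (ZMod 2) (ι → ZMod 2)) (hD : ∀ v, D v v = 0)
    (x y : ι → ZMod 2) : D x y = D y x := by
  have h := hD (x + y)
  simp only [map_add, LinearMap.add_apply, hD x, hD y] at h
  have h2 : D x y = -D y x := by linear_combination h
  rw [h2, CharTwo.neg_eq]

/-- every alternating bilinear form over the field with two elements is the polarization of a
quadratic function -/
theorem exists_quadratic (D : LinearMap.BilinForm (ZMod 2) (ι → ZMod 2)) (hD : ∀ v, D v v = 0) :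
    ∃ μ : (ι → ZMod 2) → ZMod 2, ∀ v w, μ (v + w) = μ v + μ w + D v w := by
  let M : Matrix ι ι (ZMod 2) := LinearMap.toMatrix₂' (ZMod 2) D
  have hM : ∀ i j, M i j = D (Pi.single i 1) (Pi.single j 1) := fun i j =>
    LinearMap.toMatrix₂'_apply D i j
  have hexp : ∀ v w, D v w = ∑ i, ∑ j, v i * w j * M i j := by
    intro v w
    conv_lhs => rw [← Matrix.toLinearMap₂'_toMatrix' (R := ZMod 2) D]
    rw [Matrix.toLinearMap₂'_apply]
    refine Finset.sum_congr rfl fun i _ => Finset.sum_congr rfl fun j _ => ?_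
    simp only [smul_eq_mul]
    ring
  refine ⟨fun v => upper M v v, fun v w => ?_⟩
  show upper M (v + w) (v + w) = _
  rw [upper_add_add, upper_symm_add M (fun i => by rw [hM, hD])
    (fun i j => by rw [hM, hM, alt_symm D hD]), hexp]

/-! ### lifting isometries -/

theorem exists_lift (hnd : Nondeg β) (g : (ι → ZMod 2) ≃ₗ[ZMod 2] (ι → ZMod 2))
    (hg : ∀ v, q β (g v) = q β v) : ∃ α : MulAut (QG β), piHom hnd α = g := by
  let D : LinearMap.BilinForm (ZMod 2) (ι → ZMod 2) :=
    β.compl₁₂ g.toLinearMap g.toLinearMap + β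
  have hDapp : ∀ v w, D v w = β (g v) (g w) + β v w := fun v w => rfl
  have hD : ∀ v, D v v = 0 := by
    intro v
    rw [hDapp]
    have h := hg v
    unfold q at h
    rw [h]
    exact add_self_zmod2 _
  obtain ⟨μ, hμ⟩ := exists_quadratic D hD
  let f : QG β → QG β := fun x => ⟨g x.v, x.c + μ x.v⟩
  have hmul : ∀ x y, f (x * y) = f x * f y := by
    intro x y
    ext1
    · show g (x.v + y.v) = g x.v + g y.v
      exact map_add g _ _
    · show x.c + y.c + β x.v y.v + μ (x.v + y.v) =
        x.c + μ x.v + (y.c + μ y.v) + β (g x.v) (g y.v)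
      rw [hμ, hDapp]
      linear_combination (β x.v y.v) * (CharTwo.two_eq_zero (R := ZMod 2))
  have hinj : Function.Injective f := by
    intro x y h
    have h1 : g x.v = g y.v := congrArg QG.v h
    have h2 := g.injective h1
    have h3 : x.c + μ x.v = y.c + μ y.v := congrArg QG.c h
    rw [h2] at h3
    ext1
    · exact h2
    · exact add_right_cancel h3
  refine ⟨MulEquiv.ofBijective (MonoidHom.mk' f hmul) (Finite.injective_iff_bijective.1 hinj), ?_⟩
  refine LinearEquiv.ext fun v => ?_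
  rfl

/-- the isometries of the quadratic form, as a subgroup of the linear automorphisms -/
def Oq (β : LinearMap.BilinForm (ZMod 2) (ι → ZMod 2)) :
    Subgroup ((ι → ZMod 2) ≃ₗ[ZMod 2] (ι → ZMod 2)) where
  carrier := {g | ∀ v, q β (g v) = q β v}
  mul_mem' := by
    intro a b ha hb v
    show q β (a (b v)) = q β v
    rw [ha, hb]
  one_mem' := fun v => rfl
  inv_mem' := by
    intro a ha v
    have h := ha (a⁻¹ v)
    rw [← h]
    show q β (a (a.symm v)) = q β v
    rw [LinearEquiv.apply_symm_apply]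

theorem mem_Oq (g : (ι → ZMod 2) ≃ₗ[ZMod 2] (ι → ZMod 2)) :
    g ∈ Oq β ↔ ∀ v, q β (g v) = q β v := Iff.rfl

theorem range_piHom (hnd : Nondeg β) : (piHom hnd).range = Oq β := by
  ext g
  constructor
  · rintro ⟨α, rfl⟩ v
    exact q_gfun hnd α v
  · intro hg
    exact exists_lift hnd g hg

/-- matrices as linear automorphisms -/
def Theta (ι : Type) [Fintype ι] [DecidableEq ι] :
    Matrix.GeneralLinearGroup ι (ZMod 2) ≃* ((ι → ZMod 2) ≃ₗ[ZMod 2] (ι → ZMod 2)) :=
  Matrix.GeneralLinearGroup.toLin.trans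
    (LinearMap.GeneralLinearGroup.generalLinearEquiv (ZMod 2) (ι → ZMod 2))

theorem Theta_apply (A : Matrix.GeneralLinearGroup ι (ZMod 2)) (v : ι → ZMod 2) :
    Theta ι A v = Matrix.mulVec (A : Matrix ι ι (ZMod 2)) v := rfl

theorem map_isometryGroup :
    (Cfsg.isometryGroup (ZMod 2) (q β)).map (Theta ι).toMonoidHom = Oq β := by
  ext g
  constructor
  · rintro ⟨A, hA, rfl⟩ v
    exact hA v v
  · intro hg
    refine ⟨(Theta ι).symm g, ?_, (Theta ι).apply_symm_apply g⟩
    intro u _
    have h := hg u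
    rw [← (Theta ι).apply_symm_apply g] at h
    exact h

/-- the main theorem: `Out (QG β)` is the isometry group of the quadratic form -/
theorem out_iso (hnd : Nondeg β) :
    Nonempty (Cfsg.Out (QG β) ≃* Cfsg.isometryGroup (ZMod 2) (q β)) := by
  have e1 : Cfsg.Out (QG β) ≃* MulAut (QG β) ⧸ (piHom hnd).ker :=
    QuotientGroup.quotientMulEquivOfEq (ker_piHom hnd).symm
  have e2 : MulAut (QG β) ⧸ (piHom hnd).ker ≃* (piHom hnd).range :=
    QuotientGroup.quotientKerEquivRange (piHom hnd)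
  have e3 : (piHom hnd).range ≃* Oq β := MulEquiv.subgroupCongr (range_piHom hnd)
  have e4 : Cfsg.isometryGroup (ZMod 2) (q β) ≃*
      (Cfsg.isometryGroup (ZMod 2) (q β)).map (Theta ι).toMonoidHom :=
    (Theta ι).subgroupMap _
  have e5 : (Cfsg.isometryGroup (ZMod 2) (q β)).map (Theta ι).toMonoidHom ≃* Oq β :=
    MulEquiv.subgroupCongr map_isometryGroup
  exact ⟨((e1.trans e2).trans e3).trans (e4.trans e5).symm⟩

end QG

end Cfsg.Agent.Lib.Helper63_QG
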