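import Mathlib
import Cfsg.Agent.S5396
import Cfsg.Agent.Lib.Helper63_QG

/-!
The standard extraspecial 2-groups `ES n e` of `Cfsg.Agent.S5396` as groups `QG β`, and their outer
automorphism groups (helper63).
-/

set_option autoImplicit false
set_option linter.unusedSectionVars false

namespace Cfsg.Agent.Lib.Helper63_QGStd

open Cfsg.Agent.Lib.Helper63_QG Cfsg.Agent.S5396

/-! ### plus type -/

/-- the bilinear form `∑ aᵢ bᵢ'` -/
def betaPlus (n : ℕ) : LinearMap.BilinForm (ZMod 2) (Fin n ⊕ Fin n → ZMod 2) :=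
  LinearMap.mk₂ (ZMod 2) (fun v w => ∑ i, v (Sum.inl i) * w (Sum.inr i))
    (by intro v v' w; simp [add_mul, Finset.sum_add_distrib])
    (by intro c v w; simp [Finset.mul_sum, mul_assoc])
    (by intro v w w'; simp [mul_add, Finset.sum_add_distrib])
    (by intro c v w; simp [Finset.mul_sum, mul_left_comm])

theorem betaPlus_apply (n : ℕ) (v w : Fin n ⊕ Fin n → ZMod 2) :
    betaPlus n v w = ∑ i, v (Sum.inl i) * w (Sum.inr i) := rfl

theorem q_betaPlus (n : ℕ) : QG.q (betaPlus n) = Cfsg.quadFormPlus n (ZMod 2) := by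
  funext v
  rfl

theorem nondeg_betaPlus (n : ℕ) : QG.Nondeg (betaPlus n) := by
  intro v hv
  funext k
  rcases k with j | j
  · have h := hv (Pi.single (Sum.inr j) 1)
    simpa [QG.B, betaPlus_apply, Pi.single_apply] using h
  · have h := hv (Pi.single (Sum.inl j) 1)
    simpa [QG.B, betaPlus_apply, Pi.single_apply] using h

/-- the standard group of plus type as a `QG` -/
def isoPlus (n : ℕ) : ES n 0 ≃* QG (betaPlus n) where
  toFun x := ⟨Sum.elim (fun i => (x.v i).1) (fun i => (x.v i).2), x.c⟩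
  invFun y := ⟨fun i => (y.v (Sum.inl i), y.v (Sum.inr i)), y.c⟩
  left_inv x := rfl
  right_inv y := by
    refine QG.ext ?_ rfl
    funext k
    rcases k with j | j <;> rfl
  map_mul' x y := by
    refine QG.ext ?_ ?_
    · funext k
      rcases k with j | j <;> rfl
    · show (x * y).c = x.c + y.c + betaPlus n _ _
      rw [ES.mul_c, betaPlus_apply]
      unfold Cfsg.Agent.S5396.β
      simp

/-! ### minus type -/

/-- the bilinear form `∑ aᵢ bᵢ' + (z₀ z₁' + z₀ z₀' + z₁ z₁')` -/
def betaMinus (m : ℕ) : LinearMap.BilinForm (ZMod 2) ((Fin m ⊕ Fin m) ⊕ Fin 2 → ZMod 2) :=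
  LinearMap.mk₂ (ZMod 2) (fun v w => (∑ i, v (Sum.inl (Sum.inl i)) * w (Sum.inl (Sum.inr i))) +
      (v (Sum.inr 0) * w (Sum.inr 1) + v (Sum.inr 0) * w (Sum.inr 0) +
        v (Sum.inr 1) * w (Sum.inr 1)))
    (by intro v v' w; simp [add_mul, Finset.sum_add_distrib]; ring)
    (by
      intro c v w
      simp only [Pi.smul_apply, smul_eq_mul, mul_add, Finset.mul_sum, mul_assoc])
    (by intro v w w'; simp [mul_add, Finset.sum_add_distrib]; ring)
    (by
      intro c v w
      simp only [Pi.smul_apply, smul_eq_mul, mul_add, Finset.mul_sum]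
      congr 1
      · exact Finset.sum_congr rfl fun i _ => by ring
      · ring)

theorem betaMinus_apply (m : ℕ) (v w : (Fin m ⊕ Fin m) ⊕ Fin 2 → ZMod 2) :
    betaMinus m v w = (∑ i, v (Sum.inl (Sum.inl i)) * w (Sum.inl (Sum.inr i))) +
      (v (Sum.inr 0) * w (Sum.inr 1) + v (Sum.inr 0) * w (Sum.inr 0) +
        v (Sum.inr 1) * w (Sum.inr 1)) := rfl

theorem q_betaMinus (m : ℕ) : QG.q (betaMinus m) = Cfsg.quadFormMinus m (ZMod 2) 1 1 := by
  funext v
  show betaMinus m v v = _
  rw [betaMinus_apply]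
  unfold Cfsg.quadFormMinus
  ring

theorem nondeg_betaMinus (m : ℕ) : QG.Nondeg (betaMinus m) := by
  intro v hv
  funext k
  rcases k with (j | j) | j
  · have h := hv (Pi.single (Sum.inl (Sum.inr j)) 1)
    simpa [QG.B, betaMinus_apply, Pi.single_apply] using h
  · have h := hv (Pi.single (Sum.inl (Sum.inl j)) 1)
    simpa [QG.B, betaMinus_apply, Pi.single_apply] using h
  · have h0 := hv (Pi.single (Sum.inr 0) 1)
    have h1 := hv (Pi.single (Sum.inr 1) 1)
    simp [QG.B, betaMinus_apply] at h0 h1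
    have e0 : v (Sum.inr 0) + v (Sum.inr 0) = 0 := CharTwo.add_self_eq_zero _
    have e1 : v (Sum.inr 1) + v (Sum.inr 1) = 0 := CharTwo.add_self_eq_zero _
    fin_cases j
    · show v (Sum.inr 0) = 0
      linear_combination h1 - e1
    · show v (Sum.inr 1) = 0
      linear_combination h0 - e0

/-- the standard group of minus type as a `QG` -/
def isoMinus (m : ℕ) (h : 1 ≤ m + 1) :
    ES (m + 1) (Pi.single (⟨0, h⟩ : Fin (m + 1)) (1 : ZMod 2)) ≃* QG (betaMinus m) where
  toFun x := ⟨Sum.elim (Sum.elim (fun i => (x.v i.succ).1) (fun i => (x.v i.succ).2))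
    (fun k => if k = 0 then (x.v 0).1 else (x.v 0).2), x.c⟩
  invFun y := ⟨Fin.cons (y.v (Sum.inr 0), y.v (Sum.inr 1))
    (fun i => (y.v (Sum.inl (Sum.inl i)), y.v (Sum.inl (Sum.inr i)))), y.c⟩
  left_inv x := by
    refine ES.ext ?_ rfl
    funext i
    refine Fin.cases ?_ (fun j => ?_) i
    · rfl
    · rfl
  right_inv y := by
    refine QG.ext ?_ rfl
    funext k
    rcases k with (j | j) | j
    · rfl
    · rfl
    · fin_cases j <;> rfl
  map_mul' x y := by
    refine QG.ext ?_ ?_
    · funext k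
      rcases k with (j | j) | j
      · rfl
      · rfl
      · fin_cases j <;> rfl
    · show (x * y).c = x.c + y.c + betaMinus m _ _
      rw [ES.mul_c, betaMinus_apply]
      unfold Cfsg.Agent.S5396.β
      rw [Fin.sum_univ_succ]
      have e0 : (Pi.single (⟨0, h⟩ : Fin (m + 1)) (1 : ZMod 2) : Fin (m + 1) → ZMod 2) 0 = 1 := by
        show (Pi.single (0 : Fin (m + 1)) (1 : ZMod 2) : Fin (m + 1) → ZMod 2) 0 = 1
        simp
      have e1 : ∀ i : Fin m,
          (Pi.single (⟨0, h⟩ : Fin (m + 1)) (1 : ZMod 2) : Fin (m + 1) → ZMod 2) i.succ = 0 := by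
        intro i
        show (Pi.single (0 : Fin (m + 1)) (1 : ZMod 2) : Fin (m + 1) → ZMod 2) i.succ = 0
        rw [Pi.single_apply, if_neg (Fin.succ_ne_zero i)]
      simp only [e0, e1, Sum.elim_inl, Sum.elim_inr, zero_mul, add_zero, one_mul]
      simp
      ring

end Cfsg.Agent.Lib.Helper63_QGStd
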