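import Mathlib
import Cfsg.Agent.Lib.Helper63_QG
import Cfsg.Agent.Lib.Helper63_QGStd

/-!
Automorphisms of the groups `QG β` as pairs (isometry, quadratic correction), orthogonal sums of
forms, and a four-group of isometries of the hyperbolic form in dimension six whose preimage in the
automorphism group does not split over the inner automorphisms (helper63).
-/

set_option autoImplicit false
set_option linter.unusedSectionVars false

namespace Cfsg.Agent.Lib.Helper63_QGSplit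

open Cfsg.Agent.Lib.Helper63_QG Cfsg.Agent.Lib.Helper63_QGStd

section lifts

variable {ι : Type} [Fintype ι] [DecidableEq ι] {β : LinearMap.BilinForm (ZMod 2) (ι → ZMod 2)}

/-- the quadratic correction of an automorphism -/
def muf (α : MulAut (QG β)) (v : ι → ZMod 2) : ZMod 2 := (α ⟨v, 0⟩).c

theorem aut_mk (hnd : QG.Nondeg β) (α : MulAut (QG β)) (v : ι → ZMod 2) (c : ZMod 2) :
    α ⟨v, c⟩ = ⟨QG.gfun α v, muf α v + c⟩ := by
  rw [QG.mk_eq_mul, map_mul, QG.aut_center hnd]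
  have h2 : α ⟨v, 0⟩ = ⟨QG.gfun α v, muf α v⟩ := rfl
  rw [h2, QG.mk_mul_mk]
  simp

theorem muf_add (hnd : QG.Nondeg β) (α : MulAut (QG β)) (v w : ι → ZMod 2) :
    muf α (v + w) = muf α v + muf α w + (β (QG.gfun α v) (QG.gfun α w) + β v w) := by
  have h := congrArg QG.c (map_mul α (⟨v, 0⟩ : QG β) ⟨w, 0⟩)
  rw [QG.mk_mul_mk, aut_mk hnd, aut_mk hnd α v, aut_mk hnd α w, QG.mk_mul_mk] at h
  simp only [add_zero, zero_add] at h
  linear_combination h - (β v w) * (CharTwo.two_eq_zero (R := ZMod 2))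

theorem muf_mul (hnd : QG.Nondeg β) (α α' : MulAut (QG β)) (v : ι → ZMod 2) :
    muf (α * α') v = muf α' v + muf α (QG.gfun α' v) := by
  show ((α * α') ⟨v, 0⟩).c = _
  rw [MulAut.mul_apply, aut_mk hnd α' v 0, aut_mk hnd α]
  show muf α (QG.gfun α' v) + (muf α' v + 0) = _
  ring

theorem muf_one (v : ι → ZMod 2) : muf (1 : MulAut (QG β)) v = 0 := rfl

theorem muf_invol (hnd : QG.Nondeg β) (α : MulAut (QG β)) (h : α * α = 1) (v : ι → ZMod 2) :
    muf α v + muf α (QG.gfun α v) = 0 := by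
  rw [← muf_mul hnd, h, muf_one]

theorem muf_comm (hnd : QG.Nondeg β) (α α' : MulAut (QG β)) (h : α * α' = α' * α)
    (v : ι → ZMod 2) :
    muf α' v + muf α (QG.gfun α' v) = muf α v + muf α' (QG.gfun α v) := by
  rw [← muf_mul hnd, h, muf_mul hnd]

end lifts

/-! ### complements of a kernel -/

section complement

variable {A B : Type*} [Group A] [Group B]

theorem exists_mem_of_complement (Ψ : A →* B) (L : Subgroup A) (hL : Ψ.ker.IsComplement' L)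
    (b : B) (hb : b ∈ Ψ.range) : ∃ l ∈ L, Ψ l = b := by
  obtain ⟨a, rfl⟩ := hb
  obtain ⟨⟨⟨i, hi⟩, ⟨l, hl⟩⟩, hil, -⟩ := (Subgroup.isComplement_iff_existsUnique.1 hL) a
  refine ⟨l, hl, ?_⟩
  have h1 : i * l = a := hil
  rw [← h1, map_mul, MonoidHom.mem_ker.1 hi, one_mul]

theorem eq_one_of_complement (Ψ : A →* B) (L : Subgroup A) (hL : Ψ.ker.IsComplement' L)
    {l : A} (hl : l ∈ L) (h : Ψ l = 1) : l = 1 :=
  (Subgroup.disjoint_def.1 hL.disjoint) (MonoidHom.mem_ker.2 h) hl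

/-- a complement of the kernel contains commuting involutive preimages of commuting involutions -/
theorem exists_commuting_of_complement (Ψ : A →* B) (L : Subgroup A)
    (hL : Ψ.ker.IsComplement' L) (S T : B) (hS : S ∈ Ψ.range) (hT : T ∈ Ψ.range)
    (hSS : S * S = 1) (hTT : T * T = 1) (hST : S * T = T * S) :
    ∃ σ τ : A, σ * σ = 1 ∧ τ * τ = 1 ∧ σ * τ = τ * σ ∧ Ψ σ = S ∧ Ψ τ = T := by
  obtain ⟨σ, hσL, hσ⟩ := exists_mem_of_complement Ψ L hL S hS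
  obtain ⟨τ, hτL, hτ⟩ := exists_mem_of_complement Ψ L hL T hT
  refine ⟨σ, τ, ?_, ?_, ?_, hσ, hτ⟩
  · exact eq_one_of_complement Ψ L hL (L.mul_mem hσL hσL) (by rw [map_mul, hσ, hSS])
  · exact eq_one_of_complement Ψ L hL (L.mul_mem hτL hτL) (by rw [map_mul, hτ, hTT])
  · have h1 : (σ * τ) * (τ * σ)⁻¹ = 1 := by
      apply eq_one_of_complement Ψ L hL
        (L.mul_mem (L.mul_mem hσL hτL) (L.inv_mem (L.mul_mem hτL hσL)))
      rw [map_mul, map_inv, map_mul, map_mul, hσ, hτ, hST, mul_inv_cancel]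
    exact mul_inv_eq_one.1 h1

end complement

/-! ### the hyperbolic form in dimension six -/

section six

/-- the index set of the six-dimensional space -/
abbrev I3 : Type := Fin 3 ⊕ Fin 3

/-- the vector with the given coordinates `x₁ x₂ x₃ y₁ y₂ y₃` -/
def vec (a b c d e f : ZMod 2) : I3 → ZMod 2 := Sum.elim ![a, b, c] ![d, e, f]

/-- the first isometry -/
def sFun (v : I3 → ZMod 2) : I3 → ZMod 2 :=
  vec (v (Sum.inl 0) + v (Sum.inl 2) + v (Sum.inr 0) + v (Sum.inr 2)) (v (Sum.inl 1))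
    (v (Sum.inl 2) + v (Sum.inr 0)) (v (Sum.inr 0)) (v (Sum.inr 1)) (v (Sum.inr 2) + v (Sum.inr 0))

/-- the second isometry -/
def tFun (v : I3 → ZMod 2) : I3 → ZMod 2 :=
  vec (v (Sum.inl 0) + v (Sum.inr 1)) (v (Sum.inl 1) + v (Sum.inr 0)) (v (Sum.inr 2))
    (v (Sum.inr 0)) (v (Sum.inr 1)) (v (Sum.inl 2))

/-- the hyperbolic form, as a plain function -/
def b3 (v w : I3 → ZMod 2) : ZMod 2 :=
  v (Sum.inl 0) * w (Sum.inr 0) + v (Sum.inl 1) * w (Sum.inr 1) + v (Sum.inl 2) * w (Sum.inr 2)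

theorem betaPlus_three (v w : I3 → ZMod 2) : betaPlus 3 v w = b3 v w := by
  rw [betaPlus_apply, Fin.sum_univ_three]
  rfl

set_option maxRecDepth 100000 in
theorem sFun_sFun : ∀ v : I3 → ZMod 2, sFun (sFun v) = v := by decide

set_option maxRecDepth 100000 in
theorem tFun_tFun : ∀ v : I3 → ZMod 2, tFun (tFun v) = v := by decide

set_option maxRecDepth 100000 in
theorem sFun_tFun : ∀ v : I3 → ZMod 2, sFun (tFun v) = tFun (sFun v) := by decide

set_option maxRecDepth 100000 in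
theorem b3_sFun : ∀ v : I3 → ZMod 2, b3 (sFun v) (sFun v) = b3 v v := by decide

set_option maxRecDepth 100000 in
theorem b3_tFun : ∀ v : I3 → ZMod 2, b3 (tFun v) (tFun v) = b3 v v := by decide

theorem sFun_add (v w : I3 → ZMod 2) : sFun (v + w) = sFun v + sFun w := by
  funext k
  rcases k with i | i <;> fin_cases i <;> simp [sFun, vec] <;> ring

theorem tFun_add (v w : I3 → ZMod 2) : tFun (v + w) = tFun v + tFun w := by
  funext k
  rcases k with i | i <;> fin_cases i <;> simp [tFun, vec] <;> ring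

/-- the certificate: there are no compatible quadratic corrections for the two isometries -/
theorem no_corrections (νs νt : (I3 → ZMod 2) → ZMod 2)
    (hQs : ∀ a b, νs (a + b) = νs a + νs b + (b3 (sFun a) (sFun b) + b3 a b))
    (hQt : ∀ a b, νt (a + b) = νt a + νt b + (b3 (tFun a) (tFun b) + b3 a b))
    (hIs : ∀ a, νs a + νs (sFun a) = 0)
    (hIt : ∀ a, νt a + νt (tFun a) = 0)
    (hC : ∀ a, νt a + νs (tFun a) = νs a + νt (sFun a)) : False := by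
  have e1 := hQt (vec 0 1 0 0 1 0) (vec 0 1 0 0 0 1)
  have e2 := hQs (vec 1 0 0 1 1 0) (vec 1 1 1 1 1 0)
  have e3 := hQs (vec 1 1 1 1 1 0) (vec 0 0 1 1 1 1)
  have e4 := hQt (vec 1 1 0 0 0 1) (vec 0 0 0 0 1 1)
  have e5 := hIt (vec 1 1 0 0 1 0)
  have e6 := hIs (vec 0 1 0 0 0 1)
  have e7 := hC (vec 0 1 0 0 0 1)
  have e8 := hIs (vec 0 0 1 1 1 1)
  have a1 : vec 0 1 0 0 1 0 + vec 0 1 0 0 0 1 = vec 0 0 0 0 1 1 := by decide
  have a2 : vec 1 0 0 1 1 0 + vec 1 1 1 1 1 0 = vec 0 1 1 0 0 0 := by decide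
  have a3 : vec 1 1 1 1 1 0 + vec 0 0 1 1 1 1 = vec 1 1 0 0 0 1 := by decide
  have a4 : vec 1 1 0 0 0 1 + vec 0 0 0 0 1 1 = vec 1 1 0 0 1 0 := by decide
  have a5 : tFun (vec 1 1 0 0 1 0) = vec 0 1 0 0 1 0 := by decide
  have a6 : sFun (vec 0 1 0 0 0 1) = vec 1 1 0 0 0 1 := by decide
  have a7 : tFun (vec 0 1 0 0 0 1) = vec 0 1 1 0 0 0 := by decide
  have a8 : sFun (vec 0 0 1 1 1 1) = vec 1 0 0 1 1 0 := by decide
  have d1 : b3 (tFun (vec 0 1 0 0 1 0)) (tFun (vec 0 1 0 0 0 1)) +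
      b3 (vec 0 1 0 0 1 0) (vec 0 1 0 0 0 1) = 0 := by decide
  have d2 : b3 (sFun (vec 1 0 0 1 1 0)) (sFun (vec 1 1 1 1 1 0)) +
      b3 (vec 1 0 0 1 1 0) (vec 1 1 1 1 1 0) = 0 := by decide
  have d3 : b3 (sFun (vec 1 1 1 1 1 0)) (sFun (vec 0 0 1 1 1 1)) +
      b3 (vec 1 1 1 1 1 0) (vec 0 0 1 1 1 1) = 1 := by decide
  have d4 : b3 (tFun (vec 1 1 0 0 0 1)) (tFun (vec 0 0 0 0 1 1)) +
      b3 (vec 1 1 0 0 0 1) (vec 0 0 0 0 1 1) = 0 := by decide
  rw [a1, d1] at e1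
  rw [a2, d2] at e2
  rw [a3, d3] at e3
  rw [a4, d4] at e4
  rw [a5] at e5
  rw [a6] at e6
  rw [a7, a6] at e7
  rw [a8] at e8
  have h10 : (1 : ZMod 2) = 0 := by
    linear_combination (-1 : ZMod 2) * (e1 + e2 + e3 + e4 + e5 + e6 + e7 + e8) +
      (νs (vec 0 1 1 0 0 0) - νs (vec 1 1 1 1 1 0) + νs (vec 1 1 0 0 0 1) +
        νt (vec 1 1 0 0 1 0) - νt (vec 1 1 0 0 0 1)) * (CharTwo.two_eq_zero (R := ZMod 2))
  exact one_ne_zero h10

end six

/-! ### orthogonal sums -/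

section bsum

variable {ι₁ ι₂ : Type} [Fintype ι₁] [DecidableEq ι₁] [Fintype ι₂] [DecidableEq ι₂]

/-- the orthogonal sum of two bilinear forms -/
def bsum (β₁ : LinearMap.BilinForm (ZMod 2) (ι₁ → ZMod 2))
    (β₂ : LinearMap.BilinForm (ZMod 2) (ι₂ → ZMod 2)) :
    LinearMap.BilinForm (ZMod 2) (ι₁ ⊕ ι₂ → ZMod 2) :=
  β₁.compl₁₂ (LinearMap.funLeft (ZMod 2) (ZMod 2) Sum.inl)
      (LinearMap.funLeft (ZMod 2) (ZMod 2) Sum.inl) +
    β₂.compl₁₂ (LinearMap.funLeft (ZMod 2) (ZMod 2) Sum.inr)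
      (LinearMap.funLeft (ZMod 2) (ZMod 2) Sum.inr)

variable {β₁ : LinearMap.BilinForm (ZMod 2) (ι₁ → ZMod 2)}
  {β₂ : LinearMap.BilinForm (ZMod 2) (ι₂ → ZMod 2)}

theorem bsum_apply (v w : ι₁ ⊕ ι₂ → ZMod 2) :
    bsum β₁ β₂ v w = β₁ (v ∘ Sum.inl) (w ∘ Sum.inl) + β₂ (v ∘ Sum.inr) (w ∘ Sum.inr) := rfl

/-- the embedding of the first summand -/
def jmap (a : ι₁ → ZMod 2) : ι₁ ⊕ ι₂ → ZMod 2 := Sum.elim a 0

theorem jmap_inl (a : ι₁ → ZMod 2) : (jmap a : ι₁ ⊕ ι₂ → ZMod 2) ∘ Sum.inl = a := rfl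

theorem jmap_inr (a : ι₁ → ZMod 2) : (jmap a : ι₁ ⊕ ι₂ → ZMod 2) ∘ Sum.inr = 0 := rfl

theorem jmap_add (a b : ι₁ → ZMod 2) :
    (jmap (a + b) : ι₁ ⊕ ι₂ → ZMod 2) = jmap a + jmap b := by
  funext k
  rcases k with i | i
  · rfl
  · simp [jmap]

theorem bsum_jmap (a b : ι₁ → ZMod 2) : bsum β₁ β₂ (jmap a) (jmap b) = β₁ a b := by
  rw [bsum_apply, jmap_inl, jmap_inl, jmap_inr, jmap_inr]
  simp

theorem nondeg_bsum (h₁ : QG.Nondeg β₁) (h₂ : QG.Nondeg β₂) : QG.Nondeg (bsum β₁ β₂) := by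
  intro v hv
  have hl : v ∘ Sum.inl = 0 := by
    apply h₁
    intro a
    have h := hv (Sum.elim a 0)
    unfold QG.B at h ⊢
    rw [bsum_apply, bsum_apply] at h
    have e1 : (Sum.elim a (0 : ι₂ → ZMod 2)) ∘ Sum.inl = a := rfl
    have e2 : (Sum.elim a (0 : ι₂ → ZMod 2)) ∘ Sum.inr = 0 := rfl
    rw [e1, e2] at h
    simpa using h
  have hr : v ∘ Sum.inr = 0 := by
    apply h₂
    intro a
    have h := hv (Sum.elim 0 a)
    unfold QG.B at h ⊢
    rw [bsum_apply, bsum_apply] at h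
    have e1 : (Sum.elim (0 : ι₁ → ZMod 2) a) ∘ Sum.inl = 0 := rfl
    have e2 : (Sum.elim (0 : ι₁ → ZMod 2) a) ∘ Sum.inr = a := rfl
    rw [e1, e2] at h
    simpa using h
  funext k
  rcases k with i | i
  · exact congrFun hl i
  · exact congrFun hr i

/-- extend a linear automorphism of the first summand by the identity -/
def ext1 (g : (ι₁ → ZMod 2) ≃ₗ[ZMod 2] (ι₁ → ZMod 2)) :
    (ι₁ ⊕ ι₂ → ZMod 2) ≃ₗ[ZMod 2] (ι₁ ⊕ ι₂ → ZMod 2) where
  toFun v := Sum.elim (g (v ∘ Sum.inl)) (v ∘ Sum.inr)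
  invFun v := Sum.elim (g.symm (v ∘ Sum.inl)) (v ∘ Sum.inr)
  map_add' v w := by
    funext k
    rcases k with i | i
    · show g ((v + w) ∘ Sum.inl) i = g (v ∘ Sum.inl) i + g (w ∘ Sum.inl) i
      have : (v + w) ∘ Sum.inl = v ∘ Sum.inl + w ∘ Sum.inl := rfl
      rw [this, map_add]
      rfl
    · rfl
  map_smul' c v := by
    funext k
    rcases k with i | i
    · show g ((c • v) ∘ Sum.inl) i = c • g (v ∘ Sum.inl) i
      have : (c • v) ∘ Sum.inl = c • (v ∘ Sum.inl) := rfl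
      rw [this, map_smul]
      rfl
    · rfl
  left_inv v := by
    funext k
    rcases k with i | i
    · show g.symm (g (v ∘ Sum.inl)) i = v (Sum.inl i)
      rw [LinearEquiv.symm_apply_apply]
      rfl
    · rfl
  right_inv v := by
    funext k
    rcases k with i | i
    · show g (g.symm (v ∘ Sum.inl)) i = v (Sum.inl i)
      rw [LinearEquiv.apply_symm_apply]
      rfl
    · rfl

theorem ext1_apply (g : (ι₁ → ZMod 2) ≃ₗ[ZMod 2] (ι₁ → ZMod 2)) (v : ι₁ ⊕ ι₂ → ZMod 2) :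
    (ext1 g : (ι₁ ⊕ ι₂ → ZMod 2) ≃ₗ[ZMod 2] (ι₁ ⊕ ι₂ → ZMod 2)) v =
      Sum.elim (g (v ∘ Sum.inl)) (v ∘ Sum.inr) := rfl

theorem ext1_jmap (g : (ι₁ → ZMod 2) ≃ₗ[ZMod 2] (ι₁ → ZMod 2)) (a : ι₁ → ZMod 2) :
    (ext1 g : (ι₁ ⊕ ι₂ → ZMod 2) ≃ₗ[ZMod 2] (ι₁ ⊕ ι₂ → ZMod 2)) (jmap a) = jmap (g a) := rfl

theorem ext1_mul (g h : (ι₁ → ZMod 2) ≃ₗ[ZMod 2] (ι₁ → ZMod 2)) :
    (ext1 (g * h) : (ι₁ ⊕ ι₂ → ZMod 2) ≃ₗ[ZMod 2] (ι₁ ⊕ ι₂ → ZMod 2)) = ext1 g * ext1 h := by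
  refine LinearEquiv.ext fun v => ?_
  rfl

theorem ext1_one :
    (ext1 (1 : (ι₁ → ZMod 2) ≃ₗ[ZMod 2] (ι₁ → ZMod 2)) :
      (ι₁ ⊕ ι₂ → ZMod 2) ≃ₗ[ZMod 2] (ι₁ ⊕ ι₂ → ZMod 2)) = 1 := by
  refine LinearEquiv.ext fun v => ?_
  funext k
  rcases k with i | i <;> rfl

theorem ext1_mem_Oq {g : (ι₁ → ZMod 2) ≃ₗ[ZMod 2] (ι₁ → ZMod 2)} (hg : g ∈ QG.Oq β₁) :
    (ext1 g : (ι₁ ⊕ ι₂ → ZMod 2) ≃ₗ[ZMod 2] (ι₁ ⊕ ι₂ → ZMod 2)) ∈ QG.Oq (bsum β₁ β₂) := by
  intro v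
  unfold QG.q
  rw [ext1_apply, bsum_apply, bsum_apply]
  have e1 : (Sum.elim (g (v ∘ Sum.inl)) (v ∘ Sum.inr)) ∘ Sum.inl = g (v ∘ Sum.inl) := rfl
  have e2 : (Sum.elim (g (v ∘ Sum.inl)) (v ∘ Sum.inr)) ∘ Sum.inr = v ∘ Sum.inr := rfl
  rw [e1, e2]
  have h := hg (v ∘ Sum.inl)
  unfold QG.q at h
  rw [h]

end bsum

/-! ### the non-split four-group -/

section core

/-- the first isometry as a linear automorphism -/
def s3 : (I3 → ZMod 2) ≃ₗ[ZMod 2] (I3 → ZMod 2) :=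
  LinearEquiv.ofLinearMap ((AddMonoidHom.mk' sFun sFun_add).toZModLinearMap 2)
    ((AddMonoidHom.mk' sFun sFun_add).toZModLinearMap 2)
    (LinearMap.ext sFun_sFun) (LinearMap.ext sFun_sFun)

/-- the second isometry as a linear automorphism -/
def t3 : (I3 → ZMod 2) ≃ₗ[ZMod 2] (I3 → ZMod 2) :=
  LinearEquiv.ofLinearMap ((AddMonoidHom.mk' tFun tFun_add).toZModLinearMap 2)
    ((AddMonoidHom.mk' tFun tFun_add).toZModLinearMap 2)
    (LinearMap.ext tFun_tFun) (LinearMap.ext tFun_tFun)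

theorem s3_apply (v : I3 → ZMod 2) : s3 v = sFun v := rfl
theorem t3_apply (v : I3 → ZMod 2) : t3 v = tFun v := rfl

theorem s3_mul_s3 : s3 * s3 = 1 := LinearEquiv.ext sFun_sFun
theorem t3_mul_t3 : t3 * t3 = 1 := LinearEquiv.ext tFun_tFun
theorem s3_mul_t3 : s3 * t3 = t3 * s3 := LinearEquiv.ext sFun_tFun

theorem s3_mem : s3 ∈ QG.Oq (betaPlus 3) := by
  intro v
  unfold QG.q
  rw [betaPlus_three, betaPlus_three]
  exact b3_sFun v

theorem t3_mem : t3 ∈ QG.Oq (betaPlus 3) := by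
  intro v
  unfold QG.q
  rw [betaPlus_three, betaPlus_three]
  exact b3_tFun v

variable {ι₂ : Type} [Fintype ι₂] [DecidableEq ι₂]

/-- the two isometries have no commuting involutive lifts to the automorphism group -/
theorem no_commuting_lifts (β₂ : LinearMap.BilinForm (ZMod 2) (ι₂ → ZMod 2))
    (hnd : QG.Nondeg (bsum (betaPlus 3) β₂)) :
    ¬ ∃ σ τ : MulAut (QG (bsum (betaPlus 3) β₂)), σ * σ = 1 ∧ τ * τ = 1 ∧ σ * τ = τ * σ ∧
      QG.piHom hnd σ = ext1 s3 ∧ QG.piHom hnd τ = ext1 t3 := by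
  rintro ⟨σ, τ, hσσ, hττ, hστ, hσ, hτ⟩
  have gσ : ∀ v, QG.gfun σ v = (ext1 s3 : (I3 ⊕ ι₂ → ZMod 2) ≃ₗ[ZMod 2] (I3 ⊕ ι₂ → ZMod 2)) v :=
    fun v => by rw [← QG.piHom_apply hnd, hσ]
  have gτ : ∀ v, QG.gfun τ v = (ext1 t3 : (I3 ⊕ ι₂ → ZMod 2) ≃ₗ[ZMod 2] (I3 ⊕ ι₂ → ZMod 2)) v :=
    fun v => by rw [← QG.piHom_apply hnd, hτ]
  apply no_corrections (fun a => muf σ (jmap a)) (fun a => muf τ (jmap a))
  · intro a b
    show muf σ (jmap (a + b)) = muf σ (jmap a) + muf σ (jmap b) + (b3 (sFun a) (sFun b) + b3 a b)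
    rw [jmap_add, muf_add hnd, gσ, gσ, ext1_jmap, ext1_jmap, bsum_jmap, bsum_jmap,
      betaPlus_three, betaPlus_three]
    rfl
  · intro a b
    show muf τ (jmap (a + b)) = muf τ (jmap a) + muf τ (jmap b) + (b3 (tFun a) (tFun b) + b3 a b)
    rw [jmap_add, muf_add hnd, gτ, gτ, ext1_jmap, ext1_jmap, bsum_jmap, bsum_jmap,
      betaPlus_three, betaPlus_three]
    rfl
  · intro a
    have h := muf_invol hnd σ hσσ (jmap a)
    rw [gσ, ext1_jmap] at h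
    exact h
  · intro a
    have h := muf_invol hnd τ hττ (jmap a)
    rw [gτ, ext1_jmap] at h
    exact h
  · intro a
    have h := muf_comm hnd σ τ hστ (jmap a)
    rw [gσ, gτ, ext1_jmap, ext1_jmap] at h
    exact h

/-- the inner automorphisms have no complement -/
theorem no_complement (β₂ : LinearMap.BilinForm (ZMod 2) (ι₂ → ZMod 2))
    (hnd : QG.Nondeg (bsum (betaPlus 3) β₂))
    {A : Type*} [Group A] (Ψ : A →* MulAut (QG (bsum (betaPlus 3) β₂)))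
    (hΨ : Function.Surjective Ψ) (L : Subgroup A)
    (hL : ((QG.piHom hnd).comp Ψ).ker.IsComplement' L) : False := by
  have hrange : ((QG.piHom hnd).comp Ψ).range = QG.Oq (bsum (betaPlus 3) β₂) := by
    rw [MonoidHom.range_comp, MonoidHom.range_eq_top.2 hΨ, ← MonoidHom.range_eq_map,
      QG.range_piHom]
  obtain ⟨σ, τ, h1, h2, h3, h4, h5⟩ := exists_commuting_of_complement
    ((QG.piHom hnd).comp Ψ) L hL (ext1 s3) (ext1 t3)
    (by rw [hrange]; exact ext1_mem_Oq s3_mem) (by rw [hrange]; exact ext1_mem_Oq t3_mem)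
    (by rw [← ext1_mul, s3_mul_s3, ext1_one]) (by rw [← ext1_mul, t3_mul_t3, ext1_one])
    (by rw [← ext1_mul, s3_mul_t3, ext1_mul])
  apply no_commuting_lifts β₂ hnd
  refine ⟨Ψ σ, Ψ τ, ?_, ?_, ?_, h4, h5⟩
  · rw [← map_mul, h1, map_one]
  · rw [← map_mul, h2, map_one]
  · rw [← map_mul, h3, map_mul]

end core

/-! ### isometric forms give isomorphic groups; splitting off three hyperbolic planes -/

section reindex

variable {ι ι' : Type} [Fintype ι] [DecidableEq ι] [Fintype ι'] [DecidableEq ι']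

/-- an isometry of bilinear forms induces an isomorphism of the groups -/
def qgCongr {β : LinearMap.BilinForm (ZMod 2) (ι → ZMod 2)}
    {β' : LinearMap.BilinForm (ZMod 2) (ι' → ZMod 2)}
    (f : (ι → ZMod 2) ≃ₗ[ZMod 2] (ι' → ZMod 2)) (hf : ∀ v w, β' (f v) (f w) = β v w) :
    QG β ≃* QG β' where
  toFun x := ⟨f x.v, x.c⟩
  invFun y := ⟨f.symm y.v, y.c⟩
  left_inv x := by
    refine QG.ext ?_ rfl
    exact f.symm_apply_apply x.v
  right_inv y := by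
    refine QG.ext ?_ rfl
    exact f.apply_symm_apply y.v
  map_mul' x y := by
    refine QG.ext ?_ ?_
    · exact map_add f x.v y.v
    · show x.c + y.c + β x.v y.v = x.c + y.c + β' (f x.v) (f y.v)
      rw [hf]

/-- the index equivalence splitting off the first three hyperbolic pairs -/
def idxEquiv (m : ℕ) : I3 ⊕ (Fin m ⊕ Fin m) ≃ Fin (3 + m) ⊕ Fin (3 + m) :=
  (Equiv.sumSumSumComm (Fin 3) (Fin 3) (Fin m) (Fin m)).trans
    (Equiv.sumCongr finSumFinEquiv finSumFinEquiv)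

/-- splitting off three hyperbolic planes -/
def splitIso (m : ℕ) : QG (betaPlus (3 + m)) ≃* QG (bsum (betaPlus 3) (betaPlus m)) :=
  qgCongr (LinearEquiv.funCongrLeft (ZMod 2) (ZMod 2) (idxEquiv m)) (by
    intro v w
    rw [bsum_apply, betaPlus_apply, betaPlus_apply, betaPlus_apply, Fin.sum_univ_add]
    rfl)

end reindex

end Cfsg.Agent.Lib.Helper63_QGSplit
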