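import Mathlib
import Cfsg.Agent.Lib.Helper30_S2316Defs

/-!
# S2316 package PAR (architect helper30, formaliser helper63): the standard parabolic subgroup is
block upper triangular

`ss j ∈ PJ m F J` for `j ∈ J` (the monomial matrix `ss j` permutes indices whose heights are adjacent
with the gap of root `j`, which is not a cut, so it preserves the block function), and
`parabolic (ss '' J) = B ⊔ closure (ss '' J) ≤ PJ` (`B = UT φ ht ≤ UT φ blk` since `blk` is monotone in
`ht`).  The two facts on `blk` that are needed (`blk_succ`, `blk_mono` of package BLK) are proved inline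
as private helpers.
-/

set_option autoImplicit false
set_option linter.unusedSectionVars false
set_option linter.unusedVariables false

namespace Cfsg.Agent.Lib.Helper30_S2316

open Matrix Cfsg Cfsg.Agent.Lib.Helper68_MatGrp Cfsg.Agent.Lib.Helper5_SpPerfect
  Cfsg.Agent.Lib.Helper68_StSpDefs Cfsg.Agent.Lib.Helper68_StSp Cfsg.Agent.Lib.Helper44_SpUT
  Cfsg.Agent.Lib.Helper68_StAbs Cfsg.Agent.Lib.Helper6_Word Cfsg.Agent.Lib.Helper6_BNPair
  Cfsg.Agent.Lib.Helper81_BNSteinberg Cfsg.Agent.Lib.Helper81_BNIndex Cfsg.Agent.Lib.Helper81_BNBorel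

section h63blk

variable {m : ℕ} (J : Finset (Fin m))

/-- (inline `blk_mono`) -/
theorem h63_blk_mono {a b : Fin m ⊕ Fin m} (h : ht m a ≤ ht m b) : blk m J a ≤ blk m J b := by
  unfold blk
  apply Finset.card_le_card
  apply Finset.filter_subset_filter
  exact Finset.range_mono h

/-- (inline `blk_succ`) -/
theorem h63_blk_succ {a b : Fin m ⊕ Fin m} (h : ht m b = ht m a + 1)
    (hc : ¬ IsCut m J (ht m a)) : blk m J b = blk m J a := by
  unfold blk
  rw [h, Finset.range_add_one, Finset.filter_insert, if_neg hc]

/-- the gap of root `j ∈ J` is not a cut -/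
theorem h63_not_isCut {j : Fin m} (hj : j ∈ J) {g : ℕ} (hg : gapRoot m g = j.val) :
    ¬ IsCut m J g := by
  intro hcut
  exact hcut j hj hg.symm

end h63blk

section sp

variable {m : ℕ} {F : Type*} [Field F]

/-- a monomial element whose permutation preserves the blocks is block upper triangular -/
theorem h63_mono_mem_PJ {J : Finset (Fin m)} {g : ↥(symplecticGroup (Fin m) F)}
    {σ : Equiv.Perm (Fin m ⊕ Fin m)} (hg : IsMono (φ m F) g σ)
    (hσ : ∀ b, blk m J (σ b) = blk m J b) : g ∈ PJ m F J := by
  rw [mem_PJ]
  intro a b hab
  by_cases h : a = σ b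
  · rw [h, hσ b] at hab
    exact absurd hab (lt_irrefl _)
  · exact hg a b h

theorem ss_mem_PJ {J : Finset (Fin m)} {j : Fin m} (hj : j ∈ J) :
    (ss j : ↥(symplecticGroup (Fin m) F)) ∈ PJ m F J := by
  have hjm := j.2
  by_cases h : j.val + 1 < m
  · rw [ss_of_lt j h]
    set k : Fin m := ⟨j.val + 1, h⟩ with hk
    have hkv : k.val = j.val + 1 := rfl
    have hjk : j ≠ k := by
      intro e
      have := congrArg Fin.val e
      omega
    -- the two adjacent pairs
    have e1 : blk m J (Sum.inl k) = blk m J (Sum.inl j) := by
      apply h63_blk_succ J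
      · simp only [ht_inl]
        exact hkv
      · apply h63_not_isCut J hj
        simp only [ht_inl, gapRoot]
        omega
    have e2 : blk m J (Sum.inr j) = blk m J (Sum.inr k) := by
      apply h63_blk_succ J
      · simp only [ht_inr]
        omega
      · apply h63_not_isCut J hj
        simp only [ht_inr, gapRoot]
        omega
    apply h63_mono_mem_PJ (wL_isMono j k)
    intro b
    rcases b with i | i
    · simp only [Equiv.sumCongr_apply, Sum.map_inl]
      by_cases hij : i = j
      · subst hij
        rw [Equiv.swap_apply_left]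
        exact e1
      · by_cases hik : i = k
        · subst hik
          rw [Equiv.swap_apply_right]
          exact e1.symm
        · rw [Equiv.swap_apply_of_ne_of_ne hij hik]
    · simp only [Equiv.sumCongr_apply, Sum.map_inr]
      by_cases hij : i = j
      · subst hij
        rw [Equiv.swap_apply_left]
        exact e2.symm
      · by_cases hik : i = k
        · subst hik
          rw [Equiv.swap_apply_right]
          exact e2
        · rw [Equiv.swap_apply_of_ne_of_ne hij hik]
  · rw [ss_of_not_lt j h]
    have e1 : blk m J (Sum.inr j) = blk m J (Sum.inl j) := by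
      apply h63_blk_succ J
      · simp only [ht_inl, ht_inr]
        omega
      · apply h63_not_isCut J hj
        simp only [ht_inl, gapRoot]
        omega
    apply h63_mono_mem_PJ (wX_isMono j)
    intro b
    by_cases hb1 : b = Sum.inl j
    · subst hb1
      rw [Equiv.swap_apply_left]
      exact e1
    · by_cases hb2 : b = Sum.inr j
      · subst hb2
        rw [Equiv.swap_apply_right]
        exact e1.symm
      · rw [Equiv.swap_apply_of_ne_of_ne hb1 hb2]

theorem parabolic_le_PJ (hm : 0 < m) (J : Finset (Fin m)) :
    (bnPair (spRDat (F := F) hm)).parabolic (ss '' (J : Set (Fin m))) ≤ PJ m F J := by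
  unfold Cfsg.BNPair.parabolic
  apply sup_le
  · intro g hg
    have hg' : g ∈ Bsp m F := hg
    rw [mem_Bsp] at hg'
    rw [mem_PJ]
    intro a b hab
    apply hg' a b
    by_contra hle
    have := h63_blk_mono J (not_lt.mp hle)
    omega
  · rw [Subgroup.closure_le]
    rintro _ ⟨j, hj, rfl⟩
    exact ss_mem_PJ (Finset.mem_coe.mp hj)

end sp

end Cfsg.Agent.Lib.Helper30_S2316
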