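import Mathlib
import Cfsg.Agent.Lib.Helper43_PolarPair1
import Cfsg.Agent.Lib.Helper5_SUCenter

/-!
helper63: package S2496-FRAME (helper42's market): an explicit hyperbolic frame of the standard
hermitian space of dimension `2m` over a field with `q²` elements, `q` odd.
-/

set_option autoImplicit false
set_option linter.unusedSectionVars false

namespace Cfsg.Agent.Lib.Helper63_S2496_FRAME

open Matrix Cfsg.Agent.Lib.Helper43_PolarPair1 Cfsg.Agent.Lib.Helper13_Herm

variable {F : Type*} [Field F] [Fintype F] {q : ℕ}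

/-- the `(m+m) × m` matrix with blocks `a • 1` over `b • 1` -/
def frameOf (m : ℕ) (a b : F) : Matrix (Fin (m + m)) (Fin m) F :=
  (Matrix.fromRows (a • (1 : Matrix (Fin m) (Fin m) F)) (b • (1 : Matrix (Fin m) (Fin m) F))).submatrix
    finSumFinEquiv.symm id

theorem fr_smul_one (hq : q ≠ 0) (m : ℕ) (a : F) :
    fr q (a • (1 : Matrix (Fin m) (Fin m) F)) = a ^ q • (1 : Matrix (Fin m) (Fin m) F) := by
  ext i j
  simp only [fr_apply, Matrix.smul_apply, Matrix.one_apply, smul_eq_mul]
  split_ifs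
  · simp
  · simp [zero_pow hq]

theorem frameOf_gram (hq : q ≠ 0) (m : ℕ) (a b c d : F) :
    (frameOf m a b)ᵀ * fr q (frameOf m c d) =
      (a * c ^ q + b * d ^ q) • (1 : Matrix (Fin m) (Fin m) F) := by
  have h1 : fr q (frameOf m c d) =
      (Matrix.fromRows (fr q (c • (1 : Matrix (Fin m) (Fin m) F)))
        (fr q (d • (1 : Matrix (Fin m) (Fin m) F)))).submatrix finSumFinEquiv.symm id := by
    ext i j
    unfold frameOf
    simp only [fr_apply, Matrix.submatrix_apply]
    rcases h : finSumFinEquiv.symm i with k | k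
    · simp [Matrix.fromRows_apply_inl, fr_apply]
    · simp [Matrix.fromRows_apply_inr, fr_apply]
  rw [h1, fr_smul_one hq, fr_smul_one hq]
  unfold frameOf
  rw [Matrix.transpose_submatrix, Matrix.submatrix_mul_equiv, Matrix.transpose_fromRows,
    Matrix.fromCols_mul_fromRows]
  ext i j
  simp only [Matrix.submatrix_apply, id_eq, Matrix.add_apply, Matrix.transpose_smul,
    Matrix.transpose_one, Matrix.smul_mul, Matrix.mul_smul, Matrix.one_mul, Matrix.smul_apply,
    smul_eq_mul]
  ring

theorem two_ne_zero' (hF : Fintype.card F = q ^ 2) (hodd : Odd q) : (2 : F) ≠ 0 := by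
  intro h2
  obtain ⟨k, hk⟩ : Odd (q ^ 2) := hodd.pow
  have h0 : ((q ^ 2 : ℕ) : F) = 0 := by
    rw [← hF]; exact FiniteField.cast_card_eq_zero F
  rw [hk] at h0
  push_cast at h0
  rw [h2, zero_mul, zero_add] at h0
  exact one_ne_zero h0

/-- **S2496-FRAME**. -/
theorem FRAME (hF : Fintype.card F = q ^ 2) (hodd : Odd q) (m : ℕ) :
    ∃ E G : Matrix (Fin (m + m)) (Fin m) F, IsFrame q E G := by
  have hq : q ≠ 0 := by have := two_le_q hF; omega
  obtain ⟨l, hl⟩ := Cfsg.Agent.Lib.Helper5_SUCenter.exists_norm_neg_one hF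
  have h2 : (2 : F) ≠ 0 := two_ne_zero' hF hodd
  have h2q : (2 : F) ^ q = 2 := by
    have : (2 : F) = 1 + 1 := by norm_num
    rw [this, add_pow_q hF, one_pow]
  set h : F := (2 : F)⁻¹ with hh
  have hhq : h ^ q = h := by rw [hh, inv_pow, h2q]
  have hh2 : 2 * h = 1 := by rw [hh]; exact mul_inv_cancel₀ h2
  have hnl : (-l) ^ q = -(l ^ q) := neg_pow_q hF l
  refine ⟨frameOf m h (h * l), frameOf m 1 (-l), ?_, ?_, ?_, ?_⟩
  · rw [frameOf_gram hq]
    have : h * h ^ q + h * l * (h * l) ^ q = 0 := by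
      rw [mul_pow, hhq]
      linear_combination (h * h) * hl
    rw [this, zero_smul]
  · rw [frameOf_gram hq]
    have : (1 : F) * 1 ^ q + -l * (-l) ^ q = 0 := by
      rw [hnl, one_pow]
      linear_combination hl
    rw [this, zero_smul]
  · rw [frameOf_gram hq]
    have : h * 1 ^ q + h * l * (-l) ^ q = 1 := by
      rw [hnl, one_pow]
      linear_combination (-h) * hl + hh2
    rw [this, one_smul]
  · rw [frameOf_gram hq]
    have : (1 : F) * h ^ q + -l * (h * l) ^ q = 1 := by
      rw [mul_pow, hhq]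
      linear_combination (-h) * hl + hh2
    rw [this, one_smul]

end Cfsg.Agent.Lib.Helper63_S2496_FRAME
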