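import Mathlib
import Cfsg.Agent.Lib.Helper22_Coprime

/-!
# Piece T2 of helper71's plan for S4305 (Shult, `S_3` acting fixed-point-freely)

`comm_of_three_kernels`: pure group theory.  `K` a finite subgroup of order prime to 6 of an ambient
group, normalised by `f` (order dividing 3) and `h` (order dividing 2) with `h f h⁻¹ = f⁻¹`, no
non-identity element of `K` fixed by both; `K₀ ≤ K` normal in `K`, `h`-invariant, containing all
commutators `[h, k]`, with `K₀ ∩ K₀^f ∩ K₀^{f²} = 1`.  Then `K` is abelian.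
-/

set_option autoImplicit false
set_option linter.unusedSimpArgs false

namespace Cfsg.Agent.Lib.Helper63_S3T2

variable {𝒢 : Type*} [Group 𝒢]

/-- two subgroups, both invariant under conjugation by `K`, both inside `K`, meeting trivially: they commute. -/
theorem comm_of_disj (K A B : Subgroup 𝒢) (hA : A ≤ K) (hB : B ≤ K)
    (nA : ∀ k ∈ K, ∀ x ∈ A, k * x * k⁻¹ ∈ A) (nB : ∀ k ∈ K, ∀ x ∈ B, k * x * k⁻¹ ∈ B)
    (hd : ∀ x, x ∈ A → x ∈ B → x = 1) : ∀ a ∈ A, ∀ b ∈ B, a * b = b * a := by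
  intro a ha b hb
  have h1 : a * b * a⁻¹ * b⁻¹ ∈ A := by
    have : a * b * a⁻¹ * b⁻¹ = a * (b * a⁻¹ * b⁻¹) := by group
    rw [this]
    exact A.mul_mem ha (nA b (hB hb) _ (A.inv_mem ha))
  have h2 : a * b * a⁻¹ * b⁻¹ ∈ B := B.mul_mem (nB a (hA ha) b hb) (B.inv_mem hb)
  have h3 := hd _ h1 h2
  have : a * b = (a * b * a⁻¹ * b⁻¹) * (b * a) := by group
  rw [this, h3, one_mul]

/-- conjugation by `g` maps a triple join into a triple join, given it does so factor by factor. -/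
theorem sup3_conj_mem {A B C A' B' C' : Subgroup 𝒢} (g : 𝒢)
    (hA : ∀ x ∈ A, g * x * g⁻¹ ∈ A') (hB : ∀ x ∈ B, g * x * g⁻¹ ∈ B') (hC : ∀ x ∈ C, g * x * g⁻¹ ∈ C') :
    ∀ x ∈ A ⊔ B ⊔ C, g * x * g⁻¹ ∈ A' ⊔ B' ⊔ C' := by
  have key : (A ⊔ B ⊔ C).map (MulAut.conj g).toMonoidHom ≤ A' ⊔ B' ⊔ C' := by
    rw [Subgroup.map_sup, Subgroup.map_sup]
    refine sup_le (sup_le ?_ ?_) ?_
    · rintro _ ⟨x, hx, rfl⟩
      exact (le_sup_left : A' ⊔ B' ≤ A' ⊔ B' ⊔ C') ((le_sup_left : A' ≤ A' ⊔ B') (by simpa using hA x hx))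
    · rintro _ ⟨x, hx, rfl⟩
      exact (le_sup_left : A' ⊔ B' ≤ A' ⊔ B' ⊔ C') ((le_sup_right : B' ≤ A' ⊔ B') (by simpa using hB x hx))
    · rintro _ ⟨x, hx, rfl⟩
      exact (le_sup_right : C' ≤ A' ⊔ B' ⊔ C') (by simpa using hC x hx)
  intro x hx
  have := key (Subgroup.mem_map_of_mem _ hx)
  simpa using this

/-- the elements `g'` normalising `M` with `x⁻¹ g' x g'⁻¹ ∈ M` form a subgroup; so the coset condition for
a generator gives it for the cyclic group. -/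
theorem zpowers_coset (M : Subgroup 𝒢) (x g : 𝒢) (hgM : g ∈ Subgroup.normalizer (M : Set 𝒢))
    (hx : x⁻¹ * g * x * g⁻¹ ∈ M) :
    ∀ g' ∈ Subgroup.zpowers g, g' ∈ Subgroup.normalizer (M : Set 𝒢) ∧ x⁻¹ * g' * x * g'⁻¹ ∈ M := by
  let S : Subgroup 𝒢 :=
    { carrier := {g' | g' ∈ Subgroup.normalizer (M : Set 𝒢) ∧ x⁻¹ * g' * x * g'⁻¹ ∈ M}
      one_mem' := by
        refine ⟨Subgroup.one_mem _, ?_⟩
        have : x⁻¹ * 1 * x * (1 : 𝒢)⁻¹ = 1 := by group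
        rw [this]; exact M.one_mem
      mul_mem' := by
        rintro a b ⟨ha1, ha2⟩ ⟨hb1, hb2⟩
        refine ⟨Subgroup.mul_mem _ ha1 hb1, ?_⟩
        have e : x⁻¹ * (a * b) * x * (a * b)⁻¹ = (x⁻¹ * a * x * a⁻¹) * (a * (x⁻¹ * b * x * b⁻¹) * a⁻¹) := by
          group
        rw [e]
        exact M.mul_mem ha2 ((Subgroup.mem_normalizer_iff.mp ha1 _).mp hb2)
      inv_mem' := by
        rintro a ⟨ha1, ha2⟩
        have ha1' : a⁻¹ ∈ Subgroup.normalizer (M : Set 𝒢) := Subgroup.inv_mem _ ha1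
        refine ⟨ha1', ?_⟩
        have e : x⁻¹ * a⁻¹ * x * a⁻¹⁻¹ = a⁻¹ * (x⁻¹ * a * x * a⁻¹)⁻¹ * a⁻¹⁻¹ := by group
        rw [e]
        exact (Subgroup.mem_normalizer_iff.mp ha1' _).mp (M.inv_mem ha2) }
  have hgS : g ∈ S := ⟨hgM, hx⟩
  have hle : Subgroup.zpowers g ≤ S := (Subgroup.zpowers_le).mpr hgS
  intro g' hg'
  exact hle hg'

/-- membership in the normalizer from invariance under `g` and `g⁻¹`. -/
theorem mem_normalizer_of_conj (M : Subgroup 𝒢) (g : 𝒢) (h1 : ∀ m ∈ M, g * m * g⁻¹ ∈ M)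
    (h2 : ∀ m ∈ M, g⁻¹ * m * g ∈ M) : g ∈ Subgroup.normalizer (M : Set 𝒢) := by
  rw [Subgroup.mem_normalizer_iff]
  intro m
  refine ⟨h1 m, fun hm => ?_⟩
  have := h2 _ hm
  have e : g⁻¹ * (g * m * g⁻¹) * g = m := by group
  rwa [e] at this

theorem comm_of_three_kernels (K : Subgroup 𝒢) [Finite K]
    (hcop : (Nat.card K).Coprime 6) (f h : 𝒢) (hf3 : f ^ 3 = 1) (hh2 : h ^ 2 = 1)
    (hfh : h * f * h⁻¹ = f⁻¹)
    (hnf : ∀ k ∈ K, f * k * f⁻¹ ∈ K) (hnh : ∀ k ∈ K, h * k * h⁻¹ ∈ K)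
    (hfixK : ∀ k ∈ K, f * k * f⁻¹ = k → h * k * h⁻¹ = k → k = 1)
    (K₀ : Subgroup 𝒢) (hK₀K : K₀ ≤ K) (hK₀n : ∀ k ∈ K, ∀ x ∈ K₀, k * x * k⁻¹ ∈ K₀)
    (hK₀h : ∀ x ∈ K₀, h * x * h⁻¹ ∈ K₀)
    (hcomm : ∀ k ∈ K, h * k * h⁻¹ * k⁻¹ ∈ K₀)
    (htriv : ∀ x ∈ K₀, f⁻¹ * x * f ∈ K₀ → (f ^ 2)⁻¹ * x * f ^ 2 ∈ K₀ → x = 1) :
    ∀ x ∈ K, ∀ y ∈ K, x * y = y * x := by
  classical
  -- basic relations
  have hfff : f * (f * f) = 1 := by
    have := hf3
    rw [pow_succ, pow_two, mul_assoc] at this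
    exact this
  have hfi : f⁻¹ = f * f := inv_eq_of_mul_eq_one_right hfff
  have hhh : h * h = 1 := by
    have := hh2
    rwa [pow_two] at this
  have hhi : h⁻¹ = h := inv_eq_of_mul_eq_one_right hhh
  have r1 : ∀ z : 𝒢, f * (f * (f * z)) = z := by
    intro z; rw [← mul_assoc f f z, ← mul_assoc f (f * f) z, hfff, one_mul]
  have r2 : ∀ z : 𝒢, h * (h * z) = z := by
    intro z; rw [← mul_assoc, hhh, one_mul]
  have r3 : h * f = f * (f * h) := by
    have := mul_inv_eq_iff_eq_mul.mp hfh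
    rw [this, hfi, mul_assoc]
  have r4 : ∀ z : 𝒢, h * (f * z) = f * (f * (h * z)) := by
    intro z; rw [← mul_assoc, r3]; simp only [mul_assoc]
  -- conjugation identities (all by normalising words in `f`, `h`)
  have e_ff : ∀ x : 𝒢, f * (f * x * f⁻¹) * f⁻¹ = f⁻¹ * x * f := by
    intro x; simp only [hfi, mul_assoc, r1, hfff, mul_one]
  have e_fif : ∀ x : 𝒢, f⁻¹ * (f⁻¹ * x * f) * f = f * x * f⁻¹ := by
    intro x; simp only [hfi, mul_assoc, r1, hfff, mul_one]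
  have e_fh : ∀ x : 𝒢, f * (h * x * h⁻¹) * f⁻¹ = h * (f⁻¹ * x * f) * h⁻¹ := by
    intro x; simp only [hfi, hhi, mul_assoc, r1, r2, r3, r4, hfff, hhh, mul_one]
  have e_fih : ∀ x : 𝒢, f⁻¹ * (h * x * h⁻¹) * f = h * (f * x * f⁻¹) * h⁻¹ := by
    intro x; simp only [hfi, hhi, mul_assoc, r1, r2, r3, r4, hfff, hhh, mul_one]
  have e_f3 : ∀ x : 𝒢, f * (f * (f * x * f⁻¹) * f⁻¹) * f⁻¹ = x := by
    intro x; simp only [hfi, mul_assoc, r1, hfff, mul_one]
  have e_hh : ∀ x : 𝒢, h * (h * x * h⁻¹) * h⁻¹ = x := by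
    intro x; simp only [hhi, mul_assoc, r2, hhh, mul_one]
  have hnf' : ∀ k ∈ K, f⁻¹ * k * f ∈ K := by
    intro k hk
    have := hnf _ (hnf k hk)
    rwa [e_ff] at this
  -- the three kernels
  set K₁ : Subgroup 𝒢 := K₀.comap (MulAut.conj f⁻¹).toMonoidHom with hK₁
  set K₂ : Subgroup 𝒢 := K₀.comap (MulAut.conj f).toMonoidHom with hK₂
  have mem1 : ∀ x, x ∈ K₁ ↔ f⁻¹ * x * f ∈ K₀ := by
    intro x; simp [hK₁, Subgroup.mem_comap, MulAut.conj_apply]
  have mem2 : ∀ x, x ∈ K₂ ↔ f * x * f⁻¹ ∈ K₀ := by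
    intro x; simp [hK₂, Subgroup.mem_comap, MulAut.conj_apply]
  have hK₁K : K₁ ≤ K := by
    intro x hx
    have h1 := hnf _ (hK₀K ((mem1 x).mp hx))
    have e : f * (f⁻¹ * x * f) * f⁻¹ = x := by group
    rwa [e] at h1
  have hK₂K : K₂ ≤ K := by
    intro x hx
    have h1 := hnf' _ (hK₀K ((mem2 x).mp hx))
    have e : f⁻¹ * (f * x * f⁻¹) * f = x := by group
    rwa [e] at h1
  have hK₁n : ∀ k ∈ K, ∀ x ∈ K₁, k * x * k⁻¹ ∈ K₁ := by
    intro k hk x hx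
    rw [mem1]
    have := hK₀n _ (hnf' k hk) _ ((mem1 x).mp hx)
    have e : f⁻¹ * (k * x * k⁻¹) * f = f⁻¹ * k * f * (f⁻¹ * x * f) * (f⁻¹ * k * f)⁻¹ := by group
    rwa [e]
  have hK₂n : ∀ k ∈ K, ∀ x ∈ K₂, k * x * k⁻¹ ∈ K₂ := by
    intro k hk x hx
    rw [mem2]
    have := hK₀n _ (hnf k hk) _ ((mem2 x).mp hx)
    have e : f * (k * x * k⁻¹) * f⁻¹ = f * k * f⁻¹ * (f * x * f⁻¹) * (f * k * f⁻¹)⁻¹ := by group
    rwa [e]
  -- action of `f`
  have f01 : ∀ x ∈ K₀, f * x * f⁻¹ ∈ K₁ := by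
    intro x hx
    rw [mem1]
    have e : f⁻¹ * (f * x * f⁻¹) * f = x := by group
    rwa [e]
  have f12 : ∀ x ∈ K₁, f * x * f⁻¹ ∈ K₂ := by
    intro x hx
    rw [mem2, e_ff]
    exact (mem1 x).mp hx
  have f20 : ∀ x ∈ K₂, f * x * f⁻¹ ∈ K₀ := fun x hx => (mem2 x).mp hx
  -- action of `h`
  have h12 : ∀ x ∈ K₁, h * x * h⁻¹ ∈ K₂ := by
    intro x hx
    rw [mem2, e_fh]
    exact hK₀h _ ((mem1 x).mp hx)
  have h21 : ∀ x ∈ K₂, h * x * h⁻¹ ∈ K₁ := by
    intro x hx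
    rw [mem1, e_fih]
    exact hK₀h _ ((mem2 x).mp hx)
  -- (c) triple intersection
  have triple : ∀ x, x ∈ K₀ → x ∈ K₁ → x ∈ K₂ → x = 1 := by
    intro x h0 h1 h2
    refine htriv x h0 ((mem1 x).mp h1) ?_
    have e : (f ^ 2)⁻¹ * x * f ^ 2 = f * x * f⁻¹ := by
      have e2 : f ^ 2 = f⁻¹ := by rw [pow_two, hfi]
      rw [e2, inv_inv]
    rw [e]
    exact (mem2 x).mp h2
  -- (d) pairwise intersections
  have d12 : ∀ x, x ∈ K₁ → x ∈ K₂ → x = 1 := by
    intro x h1 h2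
    have hxK : x ∈ K := hK₁K h1
    -- h fixes x
    have hu : h * x * h⁻¹ * x⁻¹ = 1 := by
      refine triple _ (hcomm x hxK) ?_ ?_
      · exact K₁.mul_mem (h21 x h2) (K₁.inv_mem h1)
      · exact K₂.mul_mem (h12 x h1) (K₂.inv_mem h2)
    have hhx : h * x * h⁻¹ = x := by
      have := mul_inv_eq_one.mp hu
      exact this
    set y := f * x * f⁻¹ with hy
    set z := f * y * f⁻¹ with hz
    have hy2 : y ∈ K₂ := f12 x h1
    have hy0 : y ∈ K₀ := f20 x h2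
    have hz0 : z ∈ K₀ := f20 y hy2
    have hz1 : z ∈ K₁ := f01 y hy0
    have hfz : f * z * f⁻¹ = x := by rw [hz, hy]; exact e_f3 x
    have hyK : y ∈ K := hK₀K hy0
    have hzK : z ∈ K := hK₀K hz0
    -- x and y commute
    have cxy : x * y = y * x := by
      have c1 : x * y * x⁻¹ * y⁻¹ ∈ K₁ := by
        have : x * y * x⁻¹ * y⁻¹ = x * (y * x⁻¹ * y⁻¹) := by group
        rw [this]
        exact K₁.mul_mem h1 (hK₁n y hyK _ (K₁.inv_mem h1))
      have c2 : x * y * x⁻¹ * y⁻¹ ∈ K₂ := K₂.mul_mem (hK₂n x hxK y hy2) (K₂.inv_mem hy2)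
      have c0 : x * y * x⁻¹ * y⁻¹ ∈ K₀ := K₀.mul_mem (hK₀n x hxK y hy0) (K₀.inv_mem hy0)
      have c := triple _ c0 c1 c2
      have : x * y = (x * y * x⁻¹ * y⁻¹) * (y * x) := by group
      rw [this, c, one_mul]
    have cyz : y * z = z * y := by
      have : f * (x * y) * f⁻¹ = f * (y * x) * f⁻¹ := by rw [cxy]
      have e1 : f * (x * y) * f⁻¹ = (f * x * f⁻¹) * (f * y * f⁻¹) := by group
      have e2 : f * (y * x) * f⁻¹ = (f * y * f⁻¹) * (f * x * f⁻¹) := by group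
      rw [e1, e2] at this
      exact this
    have czx : z * x = x * z := by
      have : f * (y * z) * f⁻¹ = f * (z * y) * f⁻¹ := by rw [cyz]
      have e1 : f * (y * z) * f⁻¹ = (f * y * f⁻¹) * (f * z * f⁻¹) := by group
      have e2 : f * (z * y) * f⁻¹ = (f * z * f⁻¹) * (f * y * f⁻¹) := by group
      rw [e1, e2, hfz] at this
      exact this
    -- h-images
    have hhy : h * y * h⁻¹ = z := by
      -- h f x f⁻¹ h⁻¹ = f⁻¹ (h x h⁻¹) f = f⁻¹ x f = z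
      have e1 : h * (f * x * f⁻¹) * h⁻¹ = f⁻¹ * (h * x * h⁻¹) * f := by
        simp only [hfi, hhi, mul_assoc, r1, r2, r3, r4, hfff, hhh, mul_one]
      rw [hy, e1, hhx, hz, hy, e_ff]
    have hhz : h * z * h⁻¹ = y := by
      have : h * (h * y * h⁻¹) * h⁻¹ = y := e_hh y
      rwa [hhy] at this
    set w := x * y * z with hw
    have hwK : w ∈ K := K.mul_mem (K.mul_mem hxK hyK) hzK
    have fw : f * w * f⁻¹ = w := by
      have e1 : f * (x * y * z) * f⁻¹ = (f * x * f⁻¹) * (f * y * f⁻¹) * (f * z * f⁻¹) := by group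
      rw [hw, e1, hfz]
      -- y * z * x = x * y * z
      rw [mul_assoc, czx, ← mul_assoc, ← cxy]
    have hw' : h * w * h⁻¹ = w := by
      have e1 : h * (x * y * z) * h⁻¹ = (h * x * h⁻¹) * (h * y * h⁻¹) * (h * z * h⁻¹) := by group
      rw [hw, e1, hhx, hhy, hhz, mul_assoc, ← cyz, ← mul_assoc]
    have w1 : w = 1 := hfixK w hwK fw hw'
    have hx0 : x ∈ K₀ := by
      have : x = (y * z)⁻¹ := by
        have : x * (y * z) = 1 := by rw [← mul_assoc]; exact w1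
        exact eq_inv_of_mul_eq_one_left this
      rw [this]
      exact K₀.inv_mem (K₀.mul_mem hy0 hz0)
    exact triple x hx0 h1 h2
  have d20 : ∀ x, x ∈ K₂ → x ∈ K₀ → x = 1 := by
    intro x h2 h0
    have h1' : f⁻¹ * x * f ∈ K₁ := by
      rw [mem1, e_fif]; exact (mem2 x).mp h2
    have h2' : f⁻¹ * x * f ∈ K₂ := by
      rw [mem2]
      have e : f * (f⁻¹ * x * f) * f⁻¹ = x := by group
      rwa [e]
    have := d12 _ h1' h2'
    have e : x = f * (f⁻¹ * x * f) * f⁻¹ := by group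
    rw [e, this]; group
  have d01 : ∀ x, x ∈ K₀ → x ∈ K₁ → x = 1 := by
    intro x h0 h1
    have := d12 _ (f01 x h0) (f12 x h1)
    have e : x = f⁻¹ * (f * x * f⁻¹) * f := by group
    rw [e, this]; group
  -- (e) the kernels commute pairwise
  have c01 := comm_of_disj K K₀ K₁ hK₀K hK₁K hK₀n hK₁n d01
  have c12 := comm_of_disj K K₁ K₂ hK₁K hK₂K hK₁n hK₂n d12
  have c20 := comm_of_disj K K₂ K₀ hK₂K hK₀K hK₂n hK₀n d20
  -- (f) each kernel is abelian
  have ab1 : ∀ x ∈ K₁, ∀ x' ∈ K₁, x * x' = x' * x := by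
    intro x hx x' hx'
    have hxK := hK₁K hx
    set a := (h * x * h⁻¹ * x⁻¹)⁻¹ with ha
    set b := h * x * h⁻¹ with hb
    have ha0 : a ∈ K₀ := K₀.inv_mem (hcomm x hxK)
    have hb2 : b ∈ K₂ := h12 x hx
    have hxab : x = a * b := by rw [ha, hb]; group
    have e1 : a * x' = x' * a := c01 a ha0 x' hx'
    have e2 : b * x' = x' * b := (c12 x' hx' b hb2).symm
    rw [hxab, mul_assoc, e2, ← mul_assoc, e1, mul_assoc]
  have ab2 : ∀ x ∈ K₂, ∀ x' ∈ K₂, x * x' = x' * x := by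
    intro x hx x' hx'
    have m : ∀ u ∈ K₂, f⁻¹ * u * f ∈ K₁ := by
      intro u hu; rw [mem1, e_fif]; exact (mem2 u).mp hu
    have := ab1 _ (m x hx) _ (m x' hx')
    have e1 : f⁻¹ * x * f * (f⁻¹ * x' * f) = f⁻¹ * (x * x') * f := by group
    have e2 : f⁻¹ * x' * f * (f⁻¹ * x * f) = f⁻¹ * (x' * x) * f := by group
    rw [e1, e2] at this
    exact mul_left_cancel (mul_right_cancel this)
  have ab0 : ∀ x ∈ K₀, ∀ x' ∈ K₀, x * x' = x' * x := by
    intro x hx x' hx'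
    have := ab1 _ (f01 x hx) _ (f01 x' hx')
    have e1 : f * x * f⁻¹ * (f * x' * f⁻¹) = f * (x * x') * f⁻¹ := by group
    have e2 : f * x' * f⁻¹ * (f * x * f⁻¹) = f * (x' * x) * f⁻¹ := by group
    rw [e1, e2] at this
    exact mul_left_cancel (mul_right_cancel this)
  -- the abelian subgroup P
  set P : Subgroup 𝒢 := K₀ ⊔ K₁ ⊔ K₂ with hP
  have hK₀P : K₀ ≤ P := le_sup_of_le_left le_sup_left
  have hK₁P : K₁ ≤ P := le_sup_of_le_left le_sup_right
  have hK₂P : K₂ ≤ P := le_sup_right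
  have hPK : P ≤ K := sup_le (sup_le hK₀K hK₁K) hK₂K
  have hPab : ∀ x ∈ P, ∀ y ∈ P, x * y = y * x := by
    -- each K_i centralises P
    have cen : ∀ (A : Subgroup 𝒢), (∀ a ∈ A, ∀ b ∈ K₀, a * b = b * a) → (∀ a ∈ A, ∀ b ∈ K₁, a * b = b * a) →
        (∀ a ∈ A, ∀ b ∈ K₂, a * b = b * a) → A ≤ Subgroup.centralizer (P : Set 𝒢) := by
      intro A h0 h1 h2
      rw [Subgroup.le_centralizer_iff]
      refine sup_le (sup_le ?_ ?_) ?_
      · intro b hb; rw [Subgroup.mem_centralizer_iff]; intro a ha; exact h0 a ha b hb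
      · intro b hb; rw [Subgroup.mem_centralizer_iff]; intro a ha; exact h1 a ha b hb
      · intro b hb; rw [Subgroup.mem_centralizer_iff]; intro a ha; exact h2 a ha b hb
    have hPc : P ≤ Subgroup.centralizer (P : Set 𝒢) := by
      refine sup_le (sup_le ?_ ?_) ?_
      · exact cen K₀ ab0 c01 (fun a ha b hb => (c20 b hb a ha).symm)
      · exact cen K₁ (fun a ha b hb => (c01 b hb a ha).symm) ab1 c12
      · exact cen K₂ c20 (fun a ha b hb => (c12 b hb a ha).symm) ab2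
    intro x hx y hy
    exact ((Subgroup.mem_centralizer_iff.mp (hPc hx)) y hy).symm
  -- invariance of P
  have hPf : ∀ x ∈ P, f * x * f⁻¹ ∈ P := by
    intro x hx
    have := sup3_conj_mem (A' := K₁) (B' := K₂) (C' := K₀) f f01 f12 f20 x hx
    -- K₁ ⊔ K₂ ⊔ K₀ ≤ P
    exact (sup_le (sup_le hK₁P hK₂P) hK₀P) this
  have hPf' : ∀ x ∈ P, f⁻¹ * x * f ∈ P := by
    intro x hx
    have := hPf _ (hPf x hx)
    rwa [e_ff] at this
  have hPh : ∀ x ∈ P, h * x * h⁻¹ ∈ P := by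
    intro x hx
    have := sup3_conj_mem (A' := K₀) (B' := K₂) (C' := K₁) h hK₀h h12 h21 x hx
    exact (sup_le (sup_le hK₀P hK₂P) hK₁P) this
  have hPn : ∀ k ∈ K, ∀ x ∈ P, k * x * k⁻¹ ∈ P := by
    intro k hk x hx
    exact sup3_conj_mem (A' := K₀) (B' := K₁) (C' := K₂) k (hK₀n k hk) (hK₁n k hk) (hK₂n k hk) x hx
  -- (g) f acts trivially on K modulo P
  have hT1 : ∀ k ∈ K, (f * h * f⁻¹) * k * (f * h * f⁻¹)⁻¹ * k⁻¹ ∈ K₁ := by
    intro k hk
    have hk' := hnf' k hk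
    have h0 := hcomm _ hk'
    have := f01 _ h0
    have e : f * (h * (f⁻¹ * k * f) * h⁻¹ * (f⁻¹ * k * f)⁻¹) * f⁻¹ =
        (f * h * f⁻¹) * k * (f * h * f⁻¹)⁻¹ * k⁻¹ := by group
    rwa [e] at this
  have hfinv : f⁻¹ = (f * h * f⁻¹) * h := by
    simp only [hfi, hhi, mul_assoc, r1, r2, r3, r4, hfff, hhh, mul_one]
  have hTfi : ∀ k ∈ K, f⁻¹ * k * f * k⁻¹ ∈ P := by
    intro k hk
    have hk2 : h * k * h⁻¹ ∈ K := hnh k hk
    have a1 := hK₁P (hT1 _ hk2)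
    have a0 := hK₀P (hcomm k hk)
    have := P.mul_mem a1 a0
    have e : (f * h * f⁻¹) * (h * k * h⁻¹) * (f * h * f⁻¹)⁻¹ * (h * k * h⁻¹)⁻¹ * (h * k * h⁻¹ * k⁻¹) =
        ((f * h * f⁻¹) * h) * k * ((f * h * f⁻¹) * h)⁻¹ * k⁻¹ := by group
    rw [e, ← hfinv, inv_inv] at this
    exact this
  have hTf : ∀ k ∈ K, k⁻¹ * f * k * f⁻¹ ∈ P := by
    intro k hk
    have hk' := hnf k hk
    have := hTfi _ hk'
    -- f⁻¹ (f k f⁻¹) f (f k f⁻¹)⁻¹ = k (f k f⁻¹)⁻¹
    have e : f⁻¹ * (f * k * f⁻¹) * f * (f * k * f⁻¹)⁻¹ = k * (f * k⁻¹ * f⁻¹) := by group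
    rw [e] at this
    have h2 := hPn k⁻¹ (K.inv_mem hk) _ (P.inv_mem this)
    have e2 : k⁻¹ * (k * (f * k⁻¹ * f⁻¹))⁻¹ * k⁻¹⁻¹ = k⁻¹ * f * k * f⁻¹ := by group
    rwa [e2] at h2
  -- K ≤ P
  have hKP : K ≤ P := by
    intro k hk
    have : Fact (Nat.Prime 3) := ⟨Nat.prime_three⟩
    have : Fact (Nat.Prime 2) := ⟨Nat.prime_two⟩
    have hcardP : Nat.card P ∣ Nat.card K := Subgroup.card_dvd_of_le hPK
    have h3P : ¬ 3 ∣ Nat.card P := by
      intro hd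
      have h3K : 3 ∣ Nat.card K := hd.trans hcardP
      have : 3 ∣ Nat.gcd (Nat.card K) 6 := Nat.dvd_gcd h3K (by norm_num)
      rw [hcop] at this
      omega
    have hfN : f ∈ Subgroup.normalizer (P : Set 𝒢) := mem_normalizer_of_conj P f hPf hPf'
    have hP3 : IsPGroup 3 (Subgroup.zpowers f) := by
      intro g
      refine ⟨1, ?_⟩
      obtain ⟨n, hn⟩ := Subgroup.mem_zpowers_iff.mp g.2
      apply Subtype.ext
      rw [pow_one, Subgroup.coe_pow, ← hn, Subgroup.coe_one, ← zpow_natCast, ← zpow_mul, mul_comm, zpow_mul,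
        zpow_natCast, hf3, one_zpow]
    have hz := zpowers_coset P k f hfN (hTf k hk)
    obtain ⟨m, hmP, hm⟩ := Cfsg.Agent.Lib.Helper22_Coprime.exists_fixed_in_coset (p := 3) (Subgroup.zpowers f) P hP3 h3P
      (fun g hg => (hz g hg).1) k (fun g hg => (hz g hg).2)
    have hfkm : f * (k * m) * f⁻¹ = k * m := hm f (Subgroup.mem_zpowers f)
    have hkmK : k * m ∈ K := K.mul_mem hk (hPK hmP)
    -- second step with h
    set M : Subgroup 𝒢 := P ⊓ Subgroup.centralizer ({f} : Set 𝒢) with hM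
    have hMK : M ≤ K := inf_le_left.trans hPK
    have h2M : ¬ 2 ∣ Nat.card M := by
      intro hd
      have h2K : 2 ∣ Nat.card K := hd.trans (Subgroup.card_dvd_of_le hMK)
      have : 2 ∣ Nat.gcd (Nat.card K) 6 := Nat.dvd_gcd h2K (by norm_num)
      rw [hcop] at this
      omega
    have hMh : ∀ x ∈ M, h * x * h⁻¹ ∈ M := by
      intro x hx
      refine ⟨hPh x hx.1, ?_⟩
      have hxf : f * x = x * f := by
        have := Subgroup.mem_centralizer_iff.mp hx.2 f (Set.mem_singleton f)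
        exact this
      have hxf' : f * x * f⁻¹ = x := by rw [hxf]; group
      have hxf'' : f⁻¹ * x * f = x := by
        have : f⁻¹ * (f * x * f⁻¹) * f = x := by group
        rw [hxf'] at this; exact this
      show h * x * h⁻¹ ∈ Subgroup.centralizer ({f} : Set 𝒢)
      rw [Subgroup.mem_centralizer_iff]
      intro g hg
      rw [Set.mem_singleton_iff] at hg
      subst hg
      -- g (h x h⁻¹) g⁻¹ = h (g⁻¹ x g) h⁻¹ = h x h⁻¹
      have := e_fh x
      rw [hxf''] at this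
      have e : g * (h * x * h⁻¹) = (g * (h * x * h⁻¹) * g⁻¹) * g := by group
      rw [e, this]
    have hhN : h ∈ Subgroup.normalizer (M : Set 𝒢) := by
      refine mem_normalizer_of_conj M h hMh ?_
      intro x hx
      have := hMh x hx
      rwa [hhi] at this ⊢
    have hP2 : IsPGroup 2 (Subgroup.zpowers h) := by
      intro g
      refine ⟨1, ?_⟩
      obtain ⟨n, hn⟩ := Subgroup.mem_zpowers_iff.mp g.2
      apply Subtype.ext
      rw [pow_one, Subgroup.coe_pow, ← hn, Subgroup.coe_one, ← zpow_natCast, ← zpow_mul, mul_comm, zpow_mul,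
        zpow_natCast, hh2, one_zpow]
    have hxM : (k * m)⁻¹ * h * (k * m) * h⁻¹ ∈ M := by
      have h0 := hcomm _ hkmK
      have h1 := hK₀n (k * m)⁻¹ (K.inv_mem hkmK) _ h0
      have e : (k * m)⁻¹ * (h * (k * m) * h⁻¹ * (k * m)⁻¹) * (k * m)⁻¹⁻¹ = (k * m)⁻¹ * h * (k * m) * h⁻¹ := by
        group
      rw [e] at h1
      refine ⟨hK₀P h1, ?_⟩
      show (k * m)⁻¹ * h * (k * m) * h⁻¹ ∈ Subgroup.centralizer ({f} : Set 𝒢)
      rw [Subgroup.mem_centralizer_iff]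
      intro g hg
      rw [Set.mem_singleton_iff] at hg
      subst hg
      -- g commutes with k*m and with h (k m) h⁻¹
      have c1 : g * (k * m) = (k * m) * g := by
        have : g * (k * m) = (g * (k * m) * g⁻¹) * g := by group
        rw [this, hfkm]
      have c1' : g * (k * m)⁻¹ = (k * m)⁻¹ * g := by
        have : g * (k * m)⁻¹ = (k * m)⁻¹ * ((k * m) * g) * (k * m)⁻¹ := by group
        rw [this, ← c1]; group
      have c2 : g * (h * (k * m) * h⁻¹) = (h * (k * m) * h⁻¹) * g := by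
        have e1 := e_fh (k * m)
        have : g⁻¹ * (k * m) * g = k * m := by
          have : g⁻¹ * (g * (k * m) * g⁻¹) * g = k * m := by group
          rw [hfkm] at this; exact this
        rw [this] at e1
        have e2 : g * (h * (k * m) * h⁻¹) = (g * (h * (k * m) * h⁻¹) * g⁻¹) * g := by group
        rw [e2, e1]
      have e3 : (k * m)⁻¹ * h * (k * m) * h⁻¹ = (k * m)⁻¹ * (h * (k * m) * h⁻¹) := by group
      rw [e3, ← mul_assoc, c1', mul_assoc, c2]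
      simp only [mul_assoc]
    have hz2 := zpowers_coset M (k * m) h hhN hxM
    obtain ⟨m', hm'M, hm'⟩ := Cfsg.Agent.Lib.Helper22_Coprime.exists_fixed_in_coset (p := 2) (Subgroup.zpowers h) M hP2 h2M
      (fun g hg => (hz2 g hg).1) (k * m) (fun g hg => (hz2 g hg).2)
    have hh' : h * (k * m * m') * h⁻¹ = k * m * m' := hm' h (Subgroup.mem_zpowers h)
    have hf' : f * (k * m * m') * f⁻¹ = k * m * m' := by
      have hm'f : f * m' = m' * f := by
        have := Subgroup.mem_centralizer_iff.mp hm'M.2 f (Set.mem_singleton f)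
        exact this
      have e : f * (k * m * m') * f⁻¹ = (f * (k * m) * f⁻¹) * (f * m' * f⁻¹) := by group
      rw [e, hfkm, hm'f]; group
    have hall : k * m * m' ∈ K := K.mul_mem hkmK (hMK hm'M)
    have h1 := hfixK _ hall hf' hh'
    have : k = (m * m')⁻¹ := by
      have : k * (m * m') = 1 := by rw [← mul_assoc]; exact h1
      exact eq_inv_of_mul_eq_one_left this
    rw [this]
    exact P.inv_mem (P.mul_mem hmP hm'M.1)
  intro x hx y hy
  exact hPab x (hKP hx) y (hKP hy)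

end Cfsg.Agent.Lib.Helper63_S3T2
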