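import Mathlib
import Cfsg.Agent.Lib.Helper10_S4016_MU

/-!
# S4016 package CNT (helper63, for helper87's market)

The count: an abelian `r`-group `S` normalizing `⟨g⟩` (`g` of prime order `p`), containing an
element `x` of order `r` centralizing `g`, and normalized by `y` such that the conjugates under
`y ^ k` (`0 < k < p`) of the nontrivial elements of `C_S(g)` do not centralize `g`, forces
`p = 3` and `r = 2`.
-/

set_option autoImplicit false
set_option linter.unusedVariables false

namespace Cfsg.Agent.Lib.Helper63_S4016_CNT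

open Cfsg.Agent.Lib.Helper10_S4016_CAL Cfsg.Agent.Lib.Helper10_S4016_MU

/-- the arithmetic at the end of the count -/
theorem arith {p r c t : ℕ} (hr2 : 2 ≤ r) (hrc : r ≤ c) (h1 : 1 + p * (c - 1) ≤ t)
    (h2 : t ≤ c * r) : p ≤ r + 1 := by
  by_contra hlt
  have hp : r + 2 ≤ p := by omega
  obtain ⟨c', rfl⟩ : ∃ c', c = c' + 1 := ⟨c - 1, by omega⟩
  have h3 : (r + 2) * c' ≤ p * c' := Nat.mul_le_mul_right c' hp
  have h4 : p * (c' + 1 - 1) = p * c' := by rw [Nat.add_sub_cancel]
  rw [h4] at h1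
  have h5 : 1 + (r + 2) * c' ≤ (c' + 1) * r := by omega
  have h6 : (r + 2) * c' = r * c' + 2 * c' := by ring
  have h7 : (c' + 1) * r = r * c' + r := by ring
  rw [h6, h7] at h5
  omega

/-- consecutive primes -/
theorem primes_succ {p r : ℕ} (hp : p.Prime) (hr : r.Prime) (h : p = r + 1) : p = 3 ∧ r = 2 := by
  rcases hr.eq_two_or_odd' with h2 | hodd
  · subst h2
    exact ⟨h, rfl⟩
  · exfalso
    have hev : Even p := by
      rw [h]
      exact Odd.add_one hodd
    have hp2 : p = 2 := (Nat.Prime.even_iff hp).1 hev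
    have : r = 1 := by omega
    exact hr.one_lt.ne' this

theorem CNT {G : Type*} [Group G] {p r : ℕ} [Fact p.Prime] [Fact r.Prime]
    (S : Subgroup G) [Finite ↥S] (hSr : IsPGroup r ↥S) (hSab : ∀ a ∈ S, ∀ b ∈ S, a * b = b * a)
    (g : G) (hgp : orderOf g = p) (hSg : ∀ e ∈ S, ∃ k : ℕ, e * g * e⁻¹ = g ^ k)
    (x : G) (hx : x ∈ S) (hxr : orderOf x = r) (hxg : x * g = g * x)
    (y : G) (hy : y ∈ Subgroup.normalizer (S : Set G))
    (hdisj : ∀ k : ℕ, 0 < k → k < p → ∀ v ∈ S, v ≠ 1 → v * g = g * v →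
      ¬ (y ^ k * v * (y ^ k)⁻¹) * g = g * (y ^ k * v * (y ^ k)⁻¹)) :
    p = 3 ∧ r = 2 := by
  classical
  have hp : p.Prime := Fact.out
  have hr : r.Prime := Fact.out
  have hfin : (S : Set G).Finite := Set.toFinite _
  -- the finsets
  let Sf : Finset G := hfin.toFinset
  have hSf : ∀ e, e ∈ Sf ↔ e ∈ S := fun e => Set.Finite.mem_toFinset hfin
  let T : Finset G := Sf.filter (fun e => e ^ r = 1)
  let T0 : Finset G := T.filter (fun e => e * g = g * e)
  have hT : ∀ e, e ∈ T ↔ e ∈ S ∧ e ^ r = 1 := by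
    intro e
    simp only [T, Finset.mem_filter, hSf]
  have hT0 : ∀ e, e ∈ T0 ↔ (e ∈ S ∧ e ^ r = 1) ∧ e * g = g * e := by
    intro e
    simp only [T0, Finset.mem_filter, hT]
  have hT0T : T0 ⊆ T := Finset.filter_subset _ _
  -- `c ≥ r`
  have hc : r ≤ T0.card := by
    have hsub : (Finset.range r).image (fun i => x ^ i) ⊆ T0 := by
      intro z hz
      rw [Finset.mem_image] at hz
      obtain ⟨i, -, rfl⟩ := hz
      rw [hT0]
      refine ⟨⟨pow_mem hx i, ?_⟩, ?_⟩
      · rw [← pow_mul, mul_comm, pow_mul, ← hxr, pow_orderOf_eq_one, one_pow]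
      · have hcomm : Commute x g := hxg
        exact (hcomm.pow_left i).eq
    have hcard : ((Finset.range r).image (fun i => x ^ i)).card = r := by
      rw [Finset.card_image_of_injOn, Finset.card_range]
      intro i hi j hj hij
      have hi' : i < orderOf x := by rw [hxr]; exact Finset.mem_range.1 hi
      have hj' : j < orderOf x := by rw [hxr]; exact Finset.mem_range.1 hj
      exact pow_injOn_Iio_orderOf hi' hj' hij
    calc r = ((Finset.range r).image (fun i => x ^ i)).card := hcard.symm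
      _ ≤ T0.card := Finset.card_le_card hsub
  have hr2 : 2 ≤ r := hr.two_le
  -- conjugation by powers of `y` preserves `S`
  have hyS : ∀ (k : ℕ) (v : G), v ∈ S → y ^ k * v * (y ^ k)⁻¹ ∈ S := by
    intro k v hv
    have hyk : y ^ k ∈ Subgroup.normalizer (S : Set G) := pow_mem hy k
    exact (Subgroup.mem_normalizer_iff.1 hyk v).1 hv
  -- the `p` pairwise disjoint copies of `T0 \ {1}`
  let A : ℕ → Finset G := fun k => (T0.erase 1).image (fun v => y ^ k * v * (y ^ k)⁻¹)
  have hAcard : ∀ k, (A k).card = T0.card - 1 := by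
    intro k
    have h1 : (1 : G) ∈ T0 := by
      rw [hT0]
      exact ⟨⟨one_mem S, one_pow r⟩, by rw [one_mul, mul_one]⟩
    simp only [A]
    rw [Finset.card_image_of_injective, Finset.card_erase_of_mem h1]
    intro a b hab
    simp only at hab
    exact mul_left_cancel (mul_right_cancel hab)
  have hAsub : ∀ k, A k ⊆ T.erase 1 := by
    intro k z hz
    simp only [A, Finset.mem_image, Finset.mem_erase] at hz
    obtain ⟨v, ⟨hv1, hv⟩, rfl⟩ := hz
    rw [hT0] at hv
    rw [Finset.mem_erase, hT]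
    refine ⟨?_, hyS k v hv.1.1, ?_⟩
    · intro h1
      apply hv1
      have : v = (y ^ k)⁻¹ * (y ^ k * v * (y ^ k)⁻¹) * y ^ k := by group
      rw [this, h1]; group
    · have : (y ^ k * v * (y ^ k)⁻¹) ^ r = y ^ k * v ^ r * (y ^ k)⁻¹ := by
        rw [← conj_pow]
      rw [this, hv.1.2]; group
  have hAdisj_lt : ∀ k1 k2 : ℕ, k1 < k2 → k2 < p → Disjoint (A k1) (A k2) := by
    intro k1 k2 h12 h2p
    rw [Finset.disjoint_left]
    intro z hz1 hz2
    simp only [A, Finset.mem_image, Finset.mem_erase] at hz1 hz2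
    obtain ⟨v1, ⟨hv11, hv1⟩, rfl⟩ := hz1
    obtain ⟨v2, ⟨hv21, hv2⟩, hz⟩ := hz2
    rw [hT0] at hv1 hv2
    -- `v1 = y^d v2 y^-d`
    obtain ⟨d, hd⟩ : ∃ d, k2 = k1 + d := ⟨k2 - k1, by omega⟩
    have hd0 : 0 < d := by omega
    have hdp : d < p := by omega
    have hv : y ^ d * v2 * (y ^ d)⁻¹ = v1 := by
      rw [hd, pow_add] at hz
      have : y ^ d * v2 * (y ^ d)⁻¹ =
          (y ^ k1)⁻¹ * (y ^ k1 * y ^ d * v2 * (y ^ k1 * y ^ d)⁻¹) * y ^ k1 := by group
      rw [this, hz]; group
    have := hdisj d hd0 hdp v2 hv2.1.1 hv21 hv2.2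
    rw [hv] at this
    exact this hv1.2
  have hAdisj : ((Finset.range p : Finset ℕ) : Set ℕ).PairwiseDisjoint A := by
    intro k1 hk1 k2 hk2 hne
    have hk1' : k1 < p := Finset.mem_range.1 hk1
    have hk2' : k2 < p := Finset.mem_range.1 hk2
    rcases lt_or_gt_of_ne hne with hlt | hgt
    · exact hAdisj_lt k1 k2 hlt hk2'
    · exact (hAdisj_lt k2 k1 hgt hk1').symm
  -- first inequality: `1 + p (c - 1) ≤ |T|`
  have hineq1 : 1 + p * (T0.card - 1) ≤ T.card := by
    have h1 : ((Finset.range p).biUnion A).card = p * (T0.card - 1) := by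
      rw [Finset.card_biUnion hAdisj]
      simp only [hAcard, Finset.sum_const, Finset.card_range, smul_eq_mul]
    have h2 : (Finset.range p).biUnion A ⊆ T.erase 1 := by
      intro z hz
      rw [Finset.mem_biUnion] at hz
      obtain ⟨k, -, hk⟩ := hz
      exact hAsub k hk
    have h3 := Finset.card_le_card h2
    have h1T : (1 : G) ∈ T := by
      rw [hT]; exact ⟨one_mem S, one_pow r⟩
    rw [h1, Finset.card_erase_of_mem h1T] at h3
    have hpos : 0 < T.card := Finset.card_pos.2 ⟨1, h1T⟩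
    omega
  -- second inequality: `|T| ≤ c r`
  have hineq2 : T.card ≤ T0.card * r := by
    have hfib : ∀ a ∈ T.image (fun e => e * g * e⁻¹),
        (T.filter (fun e => e * g * e⁻¹ = a)).card ≤ T0.card := by
      intro a ha
      rw [Finset.mem_image] at ha
      obtain ⟨e0, he0, rfl⟩ := ha
      rw [hT] at he0
      apply Finset.card_le_card_of_injOn (fun e => e0⁻¹ * e)
      · intro e he
        rw [Finset.mem_coe, Finset.mem_filter] at he
        obtain ⟨heT, hee⟩ := he
        rw [hT] at heT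
        simp only [Finset.mem_coe]
        rw [hT0]
        refine ⟨⟨mul_mem (inv_mem he0.1) heT.1, ?_⟩, ?_⟩
        · have hcomm : Commute e0⁻¹ e := hSab _ (inv_mem he0.1) _ heT.1
          rw [hcomm.mul_pow, inv_pow, he0.2, heT.2, inv_one, one_mul]
        · calc e0⁻¹ * e * g = e0⁻¹ * (e * g * e⁻¹) * e := by group
            _ = e0⁻¹ * (e0 * g * e0⁻¹) * e := by rw [hee]
            _ = g * (e0⁻¹ * e) := by group
      · intro a _ b _ hab
        exact mul_left_cancel hab
    have h1 := Finset.card_le_mul_card_image T T0.card hfib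
    have h2 : (T.image (fun e => e * g * e⁻¹)).card ≤ r := by
      have hMU := MU (p := p) hr.pos g hgp (T : Set G) (by
        intro e he
        rw [Finset.mem_coe, hT] at he
        exact ⟨he.2, hSg e he.1⟩)
      rw [← Finset.coe_image, Set.ncard_coe_finset] at hMU
      exact hMU
    calc T.card ≤ T0.card * (T.image (fun e => e * g * e⁻¹)).card := h1
      _ ≤ T0.card * r := Nat.mul_le_mul_left _ h2
  -- `p ≤ r + 1`
  have hple : p ≤ r + 1 := arith hr2 hc hineq1 hineq2
  -- an element of `T \ T0`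
  have hlt : T0.card < T.card := by
    have h2p : 2 ≤ p := hp.two_le
    have hc2 : 2 ≤ T0.card := le_trans hr2 hc
    have : 2 * (T0.card - 1) ≤ p * (T0.card - 1) := Nat.mul_le_mul_right _ h2p
    omega
  obtain ⟨e, heT, heT0⟩ := Finset.exists_mem_notMem_of_card_lt_card hlt
  rw [hT] at heT
  have heg : e * g ≠ g * e := by
    intro h1
    apply heT0
    rw [hT0]
    exact ⟨heT, h1⟩
  obtain ⟨k, hk⟩ := hSg e heT.1
  -- `k ^ r ≡ 1`, `k ≢ 1` modulo `p`
  have h1 := conj_pow_iter hk r
  rw [heT.2, inv_one, one_mul, mul_one] at h1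
  have h2 : g ^ (k ^ r) = g ^ 1 := by rw [← h1, pow_one]
  rw [pow_eq_pow_iff_modEq, hgp] at h2
  have h3 : ((k : ZMod p)) ^ r = 1 := by
    have := (ZMod.natCast_eq_natCast_iff (k ^ r) 1 p).mpr h2
    simpa using this
  have h4 : (k : ZMod p) ≠ 1 := by
    intro h4
    apply heg
    have h5 : k ≡ 1 [MOD p] := by
      have : ((k : ℕ) : ZMod p) = ((1 : ℕ) : ZMod p) := by simpa using h4
      exact (ZMod.natCast_eq_natCast_iff k 1 p).1 this
    have h6 : g ^ k = g ^ 1 := by
      rw [pow_eq_pow_iff_modEq, hgp]; exact h5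
    rw [pow_one] at h6
    rw [h6] at hk
    calc e * g = (e * g * e⁻¹) * e := by group
      _ = g * e := by rw [hk]
  -- `r ∣ p - 1`
  have hrd : r ∣ p - 1 := by
    have hk0 : (k : ZMod p) ≠ 0 := by
      intro h0
      rw [h0, zero_pow hr.ne_zero] at h3
      exact zero_ne_one h3
    have ho1 : orderOf (k : ZMod p) ∣ r := orderOf_dvd_of_pow_eq_one h3
    have ho2 : orderOf (k : ZMod p) = r := by
      rcases (Nat.dvd_prime hr).1 ho1 with h | h
      · exfalso
        exact h4 (orderOf_eq_one_iff.1 h)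
      · exact h
    rw [← ho2]
    exact orderOf_dvd_of_pow_eq_one (ZMod.pow_card_sub_one_eq_one hk0)
  have hrle : r ≤ p - 1 := Nat.le_of_dvd (by have := hp.two_le; omega) hrd
  have hpr : p = r + 1 := by
    have := hp.two_le
    omega
  exact primes_succ hp hr hpr

end Cfsg.Agent.Lib.Helper63_S4016_CNT
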