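import Mathlib
import Cfsg.Agent.Lib.Helper87_S4016Cfg

/-!
# S4016 package SYLR (helper63, for helper87's market)

In the configuration `Cfg p P L l`: if `x ∈ L ⊓ C(P)` has prime order `r` and `S` is a Sylow
`r`-subgroup containing `x`, then `S ≤ N(P)` and there is `y ∈ N(S)` of order `p` with
`y ^ k ∉ N(P)` for `0 < k < p`.
-/

set_option autoImplicit false
open Cfsg.Agent.Lib.Helper87_S4016

namespace Cfsg.Agent.Lib.Helper63_S4016_SYLR

variable {G : Type*} [Group G]

/-- commutators of `N(P) = P L` (with `L` abelian) lie in `P` -/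
theorem comm_mem_of_sup {P L : Subgroup G} (hLN : L ≤ Subgroup.normalizer (P : Set G))
    (hsup : P ⊔ L = Subgroup.normalizer (P : Set G))
    (hLab : ∀ a ∈ L, ∀ b ∈ L, a * b = b * a) :
    ∀ g ∈ Subgroup.normalizer (P : Set G), ∀ g' ∈ Subgroup.normalizer (P : Set G),
      g * g' * g⁻¹ * g'⁻¹ ∈ P := by
  set N := Subgroup.normalizer (P : Set G) with hN
  have hPN : P ≤ N := Subgroup.le_normalizer
  have hnorm : (P.subgroupOf N).Normal := Subgroup.normal_in_normalizer
  have htop : (L.subgroupOf N).map (QuotientGroup.mk' (P.subgroupOf N)) = ⊤ := by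
    have h1 : P.subgroupOf N ⊔ L.subgroupOf N = ⊤ := by
      rw [← Subgroup.subgroupOf_sup hPN hLN, hsup, Subgroup.subgroupOf_self]
    have h2 := congrArg (Subgroup.map (QuotientGroup.mk' (P.subgroupOf N))) h1
    rw [Subgroup.map_sup, QuotientGroup.map_mk'_self, bot_sup_eq,
      Subgroup.map_top_of_surjective _ (QuotientGroup.mk'_surjective _)] at h2
    exact h2
  have hcomm : ∀ a b : ↥N ⧸ P.subgroupOf N, a * b = b * a := by
    intro a b
    have ha : a ∈ (L.subgroupOf N).map (QuotientGroup.mk' (P.subgroupOf N)) := by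
      rw [htop]; trivial
    have hb : b ∈ (L.subgroupOf N).map (QuotientGroup.mk' (P.subgroupOf N)) := by
      rw [htop]; trivial
    obtain ⟨m, hm, rfl⟩ := ha
    obtain ⟨m', hm', rfl⟩ := hb
    rw [← map_mul, ← map_mul]
    congr 1
    apply Subtype.ext
    exact hLab m.1 (Subgroup.mem_subgroupOf.1 hm) m'.1 (Subgroup.mem_subgroupOf.1 hm')
  intro g hg g' hg'
  have h1 : (QuotientGroup.mk' (P.subgroupOf N))
      (⟨g, hg⟩ * ⟨g', hg'⟩ * ⟨g, hg⟩⁻¹ * ⟨g', hg'⟩⁻¹) = 1 := by
    rw [map_mul, map_mul, map_mul, map_inv, map_inv,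
      hcomm ((QuotientGroup.mk' (P.subgroupOf N)) ⟨g, hg⟩), mul_inv_cancel_right, mul_inv_cancel]
  have h2 := (QuotientGroup.eq_one_iff _).1 h1
  exact Subgroup.mem_subgroupOf.1 h2

/-- membership in the centralizer of a singleton -/
theorem mem_cent_singleton {x g : G} : g ∈ Subgroup.centralizer ({x} : Set G) ↔ x * g = g * x := by
  rw [Subgroup.mem_centralizer_iff]
  constructor
  · intro h; exact h x (Set.mem_singleton x)
  · intro h y hy
    rw [Set.mem_singleton_iff] at hy
    rw [hy]; exact h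

theorem SYLR [Finite G] {p : ℕ} [Fact p.Prime] {P : Sylow p G} {L : Subgroup G}
    {l : G} (h : Cfg p P L l)
    (hc1 : ∀ y ∈ P, y ≠ 1 →
      Subgroup.centralizer ({y} : Set G) = Subgroup.centralizer ((P : Subgroup G) : Set G))
    (hc3 : ∀ v ∈ Subgroup.centralizer ((P : Subgroup G) : Set G), (orderOf v).Coprime p → v ≠ 1 →
      Subgroup.centralizer ({v} : Set G) = Subgroup.normalizer ((P : Subgroup G) : Set G))
    {r : ℕ} [Fact r.Prime] (x : G) (hxL : x ∈ L)
    (hxP : x ∈ Subgroup.centralizer ((P : Subgroup G) : Set G)) (hxr : orderOf x = r)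
    (S : Sylow r G) (hxS : x ∈ S) :
    (S : Subgroup G) ≤ Subgroup.normalizer ((P : Subgroup G) : Set G) ∧
    ∃ y ∈ Subgroup.normalizer ((S : Subgroup G) : Set G), orderOf y = p ∧
      ∀ k : ℕ, 0 < k → k < p → y ^ k ∉ Subgroup.normalizer ((P : Subgroup G) : Set G) := by
  have hp : p.Prime := Fact.out
  have hr : r.Prime := Fact.out
  -- `r ≠ p`
  have hrp : r ≠ p := by
    intro hrp
    apply h.L_cop
    rw [← hrp, ← hxr, ← Subgroup.orderOf_mk x hxL]
    exact orderOf_dvd_natCard _
  have hcop : r.Coprime p := (Nat.coprime_primes hr hp).2 hrp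
  have hx1 : x ≠ 1 := by
    intro hx1
    rw [hx1, orderOf_one] at hxr
    exact hr.one_lt.ne hxr
  -- `L` is abelian
  have hLab : ∀ a ∈ L, ∀ b ∈ L, a * b = b * a := h.hab L h.L_cop
  -- `S` is a `p'`-group, hence abelian
  have hScop : ¬ p ∣ Nat.card ↥(S : Subgroup G) := by
    obtain ⟨m, hm⟩ := S.isPGroup'.exists_card_eq
    rw [hm]
    intro hd
    exact hrp ((Nat.prime_dvd_prime_iff_eq hp hr).1 (hp.dvd_of_dvd_pow hd)).symm
  have hSab : ∀ a ∈ (S : Subgroup G), ∀ b ∈ (S : Subgroup G), a * b = b * a := h.hab S hScop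
  -- `C(x) = N(P)`
  have hCx : Subgroup.centralizer ({x} : Set G) = Subgroup.normalizer ((P : Subgroup G) : Set G) :=
    hc3 x hxP (by rw [hxr]; exact hcop) hx1
  -- `S ≤ N(P)`
  have hSN : (S : Subgroup G) ≤ Subgroup.normalizer ((P : Subgroup G) : Set G) := by
    rw [← hCx]
    intro e he
    rw [mem_cent_singleton]
    exact hSab x hxS e he
  refine ⟨hSN, ?_⟩
  -- `S ⊓ P = ⊥`
  have hSP : ∀ e : G, e ∈ (S : Subgroup G) → e ∈ (P : Subgroup G) → e = 1 := by
    intro e heS heP
    have hd := IsPGroup.disjoint_of_ne r p hrp (S : Subgroup G) (P : Subgroup G) S.isPGroup'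
      P.isPGroup'
    have : e ∈ (S : Subgroup G) ⊓ (P : Subgroup G) := ⟨heS, heP⟩
    rw [hd.eq_bot, Subgroup.mem_bot] at this
    exact this
  -- (a) `N(P) ⊓ N(S) ≤ C(S)`
  have ha : ∀ u ∈ Subgroup.normalizer ((P : Subgroup G) : Set G),
      u ∈ Subgroup.normalizer ((S : Subgroup G) : Set G) →
      ∀ e ∈ (S : Subgroup G), u * e = e * u := by
    intro u huP huS e he
    have h1 : u * e * u⁻¹ * e⁻¹ ∈ (P : Subgroup G) :=
      comm_mem_of_sup h.L_le h.sup hLab u huP e (hSN he)
    have h2 : u * e * u⁻¹ * e⁻¹ ∈ (S : Subgroup G) :=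
      mul_mem ((Subgroup.mem_normalizer_iff.1 huS e).1 he) (inv_mem he)
    have h3 := hSP _ h2 h1
    have h4 : u * e = (u * e * u⁻¹ * e⁻¹) * (e * u) := by group
    rw [h4, h3, one_mul]
  -- (b) `N(S) ≰ C(S)`
  have hb : ¬ Subgroup.normalizer ((S : Subgroup G) : Set G) ≤
      Subgroup.centralizer ((S : Subgroup G) : Set G) := by
    intro hle
    have hcompl := MonoidHom.ker_transferSylow_isComplement' S hle
    have hKn : (MonoidHom.transferSylow S hle).ker.Normal := inferInstance
    rcases h.simple _ hKn with hK | hK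
    · rw [hK, Subgroup.isComplement'_bot_left] at hcompl
      -- `G = S` is abelian, so `P` is normal
      apply h.notNormal
      constructor
      intro n hn g
      have hg : g ∈ (S : Subgroup G) := by rw [hcompl]; trivial
      have hn' : n ∈ (S : Subgroup G) := by rw [hcompl]; trivial
      have : g * n * g⁻¹ = n := by
        rw [hSab g hg n hn', mul_inv_cancel_right]
      rw [this]
      exact hn
    · rw [hK, Subgroup.isComplement'_top_left] at hcompl
      have : x ∈ (⊥ : Subgroup G) := by rw [← hcompl]; exact hxS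
      exact hx1 (Subgroup.mem_bot.1 this)
  -- (c) `S ≰ C(P)`
  have hc : ¬ (S : Subgroup G) ≤ Subgroup.centralizer ((P : Subgroup G) : Set G) := by
    intro hle
    apply hb
    intro u hu
    -- `u` normalizes `N(P)`
    have hux : u * x * u⁻¹ ∈ (S : Subgroup G) := (Subgroup.mem_normalizer_iff.1 hu x).1 hxS
    have hux1 : u * x * u⁻¹ ≠ 1 := by
      intro h1
      apply hx1
      have : x = u⁻¹ * (u * x * u⁻¹) * u := by group
      rw [this, h1]; group
    have huxo : orderOf (u * x * u⁻¹) = r := by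
      have : u * x * u⁻¹ = MulAut.conj u x := rfl
      rw [this, MulEquiv.orderOf_eq, hxr]
    have hCux : Subgroup.centralizer ({u * x * u⁻¹} : Set G) =
        Subgroup.normalizer ((P : Subgroup G) : Set G) :=
      hc3 _ (hle hux) (by rw [huxo]; exact hcop) hux1
    have huNN : u ∈ Subgroup.normalizer
        ((Subgroup.normalizer ((P : Subgroup G) : Set G) : Subgroup G) : Set G) := by
      rw [Subgroup.mem_normalizer_iff]
      intro g
      have hL : g ∈ Subgroup.normalizer ((P : Subgroup G) : Set G) ↔ x * g = g * x := by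
        rw [← hCx, mem_cent_singleton]
      have hR : u * g * u⁻¹ ∈ Subgroup.normalizer ((P : Subgroup G) : Set G) ↔
          u * x * u⁻¹ * (u * g * u⁻¹) = u * g * u⁻¹ * (u * x * u⁻¹) := by
        rw [← hCux, mem_cent_singleton]
      show g ∈ Subgroup.normalizer ((P : Subgroup G) : Set G) ↔
        u * g * u⁻¹ ∈ Subgroup.normalizer ((P : Subgroup G) : Set G)
      rw [hL, hR]
      constructor
      · intro hg
        calc u * x * u⁻¹ * (u * g * u⁻¹) = u * (x * g) * u⁻¹ := by group
          _ = u * (g * x) * u⁻¹ := by rw [hg]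
          _ = u * g * u⁻¹ * (u * x * u⁻¹) := by group
      · intro hg
        calc x * g = u⁻¹ * (u * x * u⁻¹ * (u * g * u⁻¹)) * u := by group
          _ = u⁻¹ * (u * g * u⁻¹ * (u * x * u⁻¹)) * u := by rw [hg]
          _ = g * x := by group
    have huN : u ∈ Subgroup.normalizer ((P : Subgroup G) : Set G) := by
      have hnn : Subgroup.normalizer
          ((Subgroup.normalizer ((P : Subgroup G) : Set G) : Subgroup G) : Set G) =
          Subgroup.normalizer ((P : Subgroup G) : Set G) := Sylow.normalizer_normalizer P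
      rw [← hnn]
      exact huNN
    rw [Subgroup.mem_centralizer_iff]
    intro e he
    exact (ha u huN hu e he).symm
  -- (d) an element of order `p` in `N(S)`
  have hd : p ∣ Nat.card ↥(Subgroup.normalizer ((S : Subgroup G) : Set G)) := by
    by_contra hnd
    apply hb
    intro u hu
    rw [Subgroup.mem_centralizer_iff]
    intro e he
    exact h.hab _ hnd e (Subgroup.le_normalizer he) u hu
  obtain ⟨y', hy'⟩ := exists_prime_orderOf_dvd_card' p hd
  refine ⟨(y' : G), y'.2, ?_, ?_⟩
  · rw [Subgroup.orderOf_coe]; exact hy'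
  -- (e)
  intro k hk0 hkp hkN
  have hyo : orderOf (y' : G) = p := by rw [Subgroup.orderOf_coe]; exact hy'
  obtain ⟨g, hg_def⟩ : ∃ g, g = (y' : G) ^ k := ⟨_, rfl⟩
  rw [← hg_def] at hkN
  have hgS : g ∈ Subgroup.normalizer ((S : Subgroup G) : Set G) := by
    rw [hg_def]; exact pow_mem y'.2 k
  have hgo : orderOf g = p := by
    rw [hg_def, orderOf_pow, hyo]
    have : Nat.gcd p k = 1 :=
      (Nat.Prime.coprime_iff_not_dvd hp).2 (Nat.not_dvd_of_pos_of_lt hk0 hkp)
    rw [this, Nat.div_one]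
  have hg1 : g ≠ 1 := by
    intro h1
    rw [h1, orderOf_one] at hgo
    exact hp.one_lt.ne hgo
  -- `g ∈ P`
  have hgP : g ∈ (P : Subgroup G) := by
    have hz : IsPGroup p (Subgroup.zpowers g) := by
      rw [IsPGroup.iff_card, Nat.card_zpowers, hgo]
      exact ⟨1, (pow_one p).symm⟩
    have h1 : Subgroup.zpowers g ⊓ Subgroup.normalizer ((P : Subgroup G) : Set G) =
        Subgroup.zpowers g ⊓ (P : Subgroup G) := hz.inf_normalizer_sylow P
    have h2 : g ∈ Subgroup.zpowers g ⊓ Subgroup.normalizer ((P : Subgroup G) : Set G) :=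
      ⟨Subgroup.mem_zpowers g, hkN⟩
    rw [h1] at h2
    exact h2.2
  -- `S ≤ C(g) = C(P)`
  apply hc
  rw [← hc1 g hgP hg1]
  intro e he
  rw [mem_cent_singleton]
  have h1 : g * e * g⁻¹ * e⁻¹ ∈ (S : Subgroup G) :=
    mul_mem ((Subgroup.mem_normalizer_iff.1 hgS e).1 he) (inv_mem he)
  have h2 : g * e * g⁻¹ * e⁻¹ ∈ (P : Subgroup G) := by
    have h3 : e * g⁻¹ * e⁻¹ ∈ (P : Subgroup G) :=
      (Subgroup.mem_normalizer_iff.1 (hSN he) g⁻¹).1 (inv_mem hgP)
    have : g * e * g⁻¹ * e⁻¹ = g * (e * g⁻¹ * e⁻¹) := by group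
    rw [this]
    exact mul_mem hgP h3
  have h3 := hSP _ h1 h2
  have h4 : g * e = (g * e * g⁻¹ * e⁻¹) * (e * g) := by group
  rw [h4, h3, one_mul]

end Cfsg.Agent.Lib.Helper63_S4016_SYLR
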