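import Mathlib
import Cfsg.Agent.Lib.Helper5_Transv
import Cfsg.Agent.Lib.Helper5_RootSL
import Cfsg.Agent.Lib.Helper44_PSLnUT
import Cfsg.Agent.Lib.Helper44_PSLnTv
import Cfsg.Agent.Lib.Helper44_PSLnSyl
import Cfsg.Agent.Lib.Helper32_PGroup
import Cfsg.Agent.Lib.Helper88_PSLnFusDefs

/-!
S5163-SC_A (helper88's market): a nontrivial subgroup of `UTbar` normalised by `UTbar` contains the image of a
central transvection.  helper63.
-/

set_option autoImplicit false

namespace Cfsg.Agent.Lib.Helper63_S5163_SC_A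

open Matrix Cfsg.Agent.Lib.Helper5_Transv Cfsg.Agent.Lib.Helper44_PSLnUT
  Cfsg.Agent.Lib.Helper44_PSLnTv Cfsg.Agent.Lib.Helper44_PSLnSyl Cfsg.Agent.Lib.Helper88_PSLnFus

variable {F : Type*} [Field F]

/-- `UTbar` is a `p`-group. -/
theorem isPGroup_UTbar [Fintype F] (p : ℕ) [Fact p.Prime] [CharP F p] (n : ℕ) :
    IsPGroup p (UTbar n F) := by
  obtain ⟨f, hf⟩ := FiniteField.card F p
  apply IsPGroup.of_card (n := (f : ℕ) * Fintype.card (Pos n))
  rw [card_UTbar, hf.2, pow_mul]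

/-- **SC-A** -/
theorem SC_A [Fintype F] (p : ℕ) [Fact p.Prime] [CharP F p] (m : ℕ)
    (T : Subgroup (ProjectiveSpecialLinearGroup (Fin (m + 3)) F))
    (hT : T ≤ UTbar (m + 3) F) (hne : T ≠ ⊥)
    (hnorm : ∀ t ∈ T, ∀ s ∈ UTbar (m + 3) F, s * t * s⁻¹ ∈ T) :
    ∃ c : F, c ≠ 0 ∧ proj (zc (m := m) c) ∈ T := by
  have hU : IsPGroup p (UTbar (m + 3) F) := isPGroup_UTbar p (m + 3)
  have hNn : (T.subgroupOf (UTbar (m + 3) F)).Normal := by
    constructor
    intro n hn g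
    rw [Subgroup.mem_subgroupOf] at hn ⊢
    exact hnorm _ hn _ g.2
  have hN : T.subgroupOf (UTbar (m + 3) F) ≠ ⊥ := by
    intro h
    rw [Subgroup.subgroupOf_eq_bot, disjoint_iff, inf_eq_left.2 hT] at h
    exact hne h
  obtain ⟨z, hzN, hzc, hz1⟩ :=
    Cfsg.Agent.Lib.Helper32_PGroup.exists_mem_center_of_normal hU (T.subgroupOf (UTbar (m + 3) F)) hN
  rw [Subgroup.mem_subgroupOf] at hzN
  obtain ⟨u, hu, huz⟩ := z.2
  have huz' : proj u = (z : ProjectiveSpecialLinearGroup (Fin (m + 3)) F) := huz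
  -- u is central in UT
  have hc : ∀ w ∈ UT (m + 3) F, u * w = w * u := by
    intro w hw
    apply mk_injOn _ _ ((UT (m + 3) F).mul_mem hu hw) ((UT (m + 3) F).mul_mem hw hu)
    have hwU : proj w ∈ UTbar (m + 3) F := ⟨w, hw, rfl⟩
    have h1 := Subgroup.mem_center_iff.1 hzc ⟨proj w, hwU⟩
    have h2 : proj w * (z : ProjectiveSpecialLinearGroup (Fin (m + 3)) F) =
        (z : ProjectiveSpecialLinearGroup (Fin (m + 3)) F) * proj w :=
      congrArg (fun t : UTbar (m + 3) F => (t : ProjectiveSpecialLinearGroup (Fin (m + 3)) F)) h1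
    show proj (u * w) = proj (w * u)
    rw [map_mul, map_mul, huz', h2]
  have hu_eq := eq_tvS_of_central u hu hc
  refine ⟨u.1 0 (Fin.last (m + 2)), ?_, ?_⟩
  · intro h0
    rw [h0, tvS_zero] at hu_eq
    apply hz1
    apply Subtype.ext
    rw [← huz', hu_eq, map_one]
    rfl
  · have : zc (m := m) (u.1 0 (Fin.last (m + 2))) = u := hu_eq.symm
    rw [this, huz']
    exact hzN

end Cfsg.Agent.Lib.Helper63_S5163_SC_A
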