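import Mathlib
import Cfsg.Prelude.Def_Classical
import Cfsg.Prelude.Def_ClassicalGeometry
import Cfsg.Agent.S0246
import Cfsg.Agent.Lib.Helper13_Symp
import Cfsg.Agent.Lib.Helper13_SympTrans
import Cfsg.Agent.Lib.Helper44_SpUT
import Cfsg.Agent.Lib.Helper11_SpFusDefs

/-!
S5171-PEL (helper11's market): a conjugate of a `p`-element of `USp` that equals a `p`-element times a central
element forces the central element to be trivial.  helper63.
-/

set_option autoImplicit false

namespace Cfsg.Agent.Lib.Helper63_S5171_PEL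

open Matrix Cfsg.Agent.Lib.Helper44_PSLnUT Cfsg.Agent.Lib.Helper5_SpPerfect
  Cfsg.Agent.Lib.Helper44_SpUT Cfsg.Agent.Lib.Helper13_Symp Cfsg.Agent.Lib.Helper11_SpFusDefs

variable {F : Type*} [Field F]

theorem PEL [Fintype F] (p : ℕ) [Fact p.Prime] [CharP F p] {m : ℕ}
    (g u u' z : symplecticGroup (Fin m) F) (hu : u ∈ USp m F) (hu' : u' ∈ USp m F)
    (hz : z ∈ Subgroup.center (symplecticGroup (Fin m) F)) (h : g * u * g⁻¹ = u' * z) : z = 1 := by
  rcases Nat.eq_zero_or_pos m with hm | hm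
  · subst hm
    apply Subtype.ext
    ext i j
    rcases i with i | i <;> exact i.elim0
  obtain ⟨f, hf⟩ := FiniteField.card F p
  have hN : Nat.card (USp m F) = p ^ ((f : ℕ) * m ^ 2) := by rw [card_USp, hf.2, pow_mul]
  have huN : u ^ Nat.card (USp m F) = 1 := by
    have h1 : (⟨u, hu⟩ : USp m F) ^ Nat.card (USp m F) = 1 := pow_card_eq_one'
    have h2 : (((⟨u, hu⟩ : USp m F) ^ Nat.card (USp m F) : USp m F) :
        symplecticGroup (Fin m) F) = 1 := by rw [h1]; rfl
    rw [Subgroup.coe_pow] at h2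
    exact h2
  have hu'N : u' ^ Nat.card (USp m F) = 1 := by
    have h1 : (⟨u', hu'⟩ : USp m F) ^ Nat.card (USp m F) = 1 := pow_card_eq_one'
    have h2 : (((⟨u', hu'⟩ : USp m F) ^ Nat.card (USp m F) : USp m F) :
        symplecticGroup (Fin m) F) = 1 := by rw [h1]; rfl
    rw [Subgroup.coe_pow] at h2
    exact h2
  have hzc : Commute u' z := (Subgroup.mem_center_iff.1 hz u')
  have h1 : (u' * z) ^ Nat.card (USp m F) = 1 := by
    rw [← h, conj_pow, huN, mul_one, mul_inv_cancel]
  rw [hzc.mul_pow, hu'N, one_mul] at h1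
  rcases Cfsg.Agent.S0246.center_eq_one_or_neg_one m hm z hz with hz1 | hz1
  · exact Subtype.ext hz1
  · by_cases hp2 : p = 2
    · apply Subtype.ext
      rw [hz1]
      subst hp2
      ext i j
      rw [Matrix.neg_apply, CharTwo.neg_eq]
      rfl
    · have hodd : Odd (Nat.card (USp m F)) := by
        rw [hN]
        exact Odd.pow ((Fact.out : p.Prime).odd_of_ne_two hp2)
      have hz2 : z ^ 2 = 1 := by
        apply Subtype.ext
        show (z.1) ^ 2 = 1
        rw [hz1]
        simp
      have hd : orderOf z ∣ Nat.gcd (Nat.card (USp m F)) 2 :=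
        Nat.dvd_gcd (orderOf_dvd_of_pow_eq_one h1) (orderOf_dvd_of_pow_eq_one hz2)
      have hg1 : Nat.gcd (Nat.card (USp m F)) 2 = 1 := hodd.coprime_two_right
      rw [hg1] at hd
      exact orderOf_eq_one_iff.1 (Nat.dvd_one.1 hd)

end Cfsg.Agent.Lib.Helper63_S5171_PEL
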