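import Mathlib
import Cfsg.Agent.Lib.Helper41_SLRDefs

/-!
# SLR market (sub-architect helper41, S4613 PSL), package INJ, auxiliary form (helper63)

`ss_inj_of`: the statement `ss_inj` with the statement of SLR-MONO (`ss_isMono`) as a hypothesis.
`(ss i)⁻¹ * ss j` is monomial with permutation `swap_i⁻¹ * swap_j`; if it is upper triangular it is diagonal
(`mem_Diag_of_mono_of_UT`), so its permutation is `1` (`IsMono.ne_zero`), hence `swap_i = swap_j` and `i = j`.
-/

set_option autoImplicit false
set_option linter.unusedSectionVars false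
set_option linter.unusedVariables false

namespace Cfsg.Agent.Lib.Helper63_SLR_INJaux

open Matrix Cfsg.Agent.Lib.Helper68_MatGrp Cfsg.Agent.Lib.Helper41_SLRDefs

variable {n : ℕ} {F : Type*} [Field F]

/-- two simple transpositions that agree have the same index -/
theorem eq_of_swap_eq (i j : Fin (n - 1))
    (h : Equiv.swap (lo i : Fin n) (hi i) = Equiv.swap (lo j) (hi j)) : i = j := by
  have h1 := congrArg (fun σ : Equiv.Perm (Fin n) => σ (lo i)) h
  simp only [Equiv.swap_apply_left] at h1
  by_cases e1 : (lo i : Fin n) = lo j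
  · have := congrArg Fin.val e1
    simp only [lo_val] at this
    exact Fin.ext this
  · by_cases e2 : (lo i : Fin n) = hi j
    · rw [e2, Equiv.swap_apply_right] at h1
      have a1 := congrArg Fin.val e2
      have a2 := congrArg Fin.val h1
      simp only [lo_val, hi_val] at a1 a2
      omega
    · rw [Equiv.swap_apply_of_ne_of_ne e1 e2] at h1
      exact absurd h1.symm (lo_ne_hi i)

/-- a diagonal monomial element has trivial permutation -/
theorem perm_eq_one_of_diag {g : Matrix.SpecialLinearGroup (Fin n) F} {σ : Equiv.Perm (Fin n)}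
    (hm : IsMono (φ n F) g σ) (hd : g ∈ Diag (φ n F)) : σ = 1 := by
  ext b
  by_contra hne
  have hne' : σ b ≠ b := fun e => hne (by rw [e]; rfl)
  exact hm.ne_zero b (hd (σ b) b hne')

/-- SLR-INJ with the statement of SLR-MONO as a hypothesis -/
theorem ss_inj_of
    (hmono : ∀ j : Fin (n - 1),
      IsMono (φ n F) (ss j : Matrix.SpecialLinearGroup (Fin n) F) (Equiv.swap (lo j) (hi j)))
    (i j : Fin (n - 1))
    (h : (ss i : Matrix.SpecialLinearGroup (Fin n) F)⁻¹ * ss j ∈ Bsl n F) : i = j := by
  have hm : IsMono (φ n F) ((ss i : Matrix.SpecialLinearGroup (Fin n) F)⁻¹ * ss j)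
      ((Equiv.swap (lo i) (hi i))⁻¹ * Equiv.swap (lo j) (hi j)) := (hmono i).inv.mul (hmono j)
  have hd : (ss i : Matrix.SpecialLinearGroup (Fin n) F)⁻¹ * ss j ∈ Diag (φ n F) :=
    mem_Diag_of_mono_of_UT (φ n F) (ht n) (ht_injective n) ⟨_, hm⟩ h
  have h1 := perm_eq_one_of_diag hm hd
  have h2 : Equiv.swap (lo i : Fin n) (hi i) = Equiv.swap (lo j) (hi j) := by
    rw [inv_mul_eq_one] at h1
    exact h1
  exact eq_of_swap_eq i j h2

end Cfsg.Agent.Lib.Helper63_SLR_INJaux
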