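import Mathlib
import Cfsg.Agent.Lib.Helper41_SLRDefs
import Cfsg.Agent.Lib.Helper44_SLR_MONO
import Cfsg.Agent.Lib.Helper63_SLR_INJaux

/-!
# SLR market (sub-architect helper41, S4613 PSL), package INJ, verbatim statement (helper63)

`ss_inj`: `(ss i)⁻¹ * ss j ∈ Bsl n F → i = j`.  Wiring of `Helper63_SLR_INJaux.ss_inj_of` to `ss_isMono` of package MONO
(`Helper44_SLR_MONO`).
-/

set_option autoImplicit false
set_option linter.unusedSectionVars false
set_option linter.unusedVariables false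

namespace Cfsg.Agent.Lib.Helper63_SLR_INJ

open Matrix Cfsg.Agent.Lib.Helper68_MatGrp Cfsg.Agent.Lib.Helper41_SLRDefs

variable {n : ℕ} {F : Type*} [Field F]

theorem ss_inj (i j : Fin (n - 1))
    (h : (ss i : Matrix.SpecialLinearGroup (Fin n) F)⁻¹ * ss j ∈ Bsl n F) : i = j :=
  Cfsg.Agent.Lib.Helper63_SLR_INJaux.ss_inj_of
    (fun k => Cfsg.Agent.Lib.Helper44_SLR_MONO.ss_isMono k) i j h

end Cfsg.Agent.Lib.Helper63_SLR_INJ
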