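import Mathlib
import Cfsg.Agent.Lib.Helper97_SpTensBasic

/-!
# SP3 package IRR2 (architect helper97, proof helper63)

A 3-dimensional subspace `L` of `A ⊗ B` (`V = Matrix (Fin m ⊕ Fin m) (Fin 3) F`) invariant under
`1 ⊗ r_y` for all non-singular `y ∈ B = F^3` is a fibre `x ⊗ B` (`q ≥ 5`, `2 ≠ 0`).

Proof: the reflections in `e0 - μ e2` act on the columns by `(X₀,X₁,X₂) ↦ (μ⁻¹X₂, X₁, μX₀)`, so
`L` is invariant under the torus element `(X₀,X₁,X₂) ↦ (λ⁻¹X₀, X₁, λX₂)`; with `λ ∉ {0, 1, -1}`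
the column projections of `L` lie in `L`.  Take `X ≠ 0` in `L` and a non-zero column `x` of `X`:
`x ⊗ e_k ∈ L` for one `k`; the swap and the reflection in `e0 + e1`
(`(X₀,X₁,X₂) ↦ (X₀ - 2X₁ - 2X₂, -X₁ - 2X₂, X₂)`) give `x ⊗ e_j ∈ L` for all `j`, so
`x ⊗ B ≤ L`, and the dimensions agree.
-/

set_option autoImplicit false
set_option linter.unusedSectionVars false
set_option linter.unusedVariables false

namespace Cfsg.Agent.Lib.Helper63_SP3_IRR2

open Matrix Module
open Cfsg.Agent.Lib.Helper98_ExtDefs Cfsg.Agent.Lib.Helper97_TensDefs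
  Cfsg.Agent.Lib.Helper97_SpTensDefs Cfsg.Agent.Lib.Helper97_SpTensBasic

variable {F : Type*} [Field F] [Fintype F] {m : ℕ}

local notation "V" => Matrix (Fin m ⊕ Fin m) (Fin 3) F

/-- the matrix with columns `a, b, c` -/
def mk3 (a b c : Fin m ⊕ Fin m → F) : V := Matrix.of fun i k => ![a i, b i, c i] k

theorem mul_refl_apply (y : Fin 3 → F) (X : V) (i : Fin m ⊕ Fin m) (k : Fin 3) :
    (X * (Cfsg.Agent.Lib.Helper97_SpTensDefs.refl y)ᵀ) i k =
      X i k - (2 / be y y) * (be (fun j => X i j) y * y k) := by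
  have h1 : X * (Cfsg.Agent.Lib.Helper97_SpTensDefs.refl y)ᵀ =
      X - (2 / be y y) • vecMulVec (X *ᵥ (S0 F *ᵥ y)) y := by
    unfold Cfsg.Agent.Lib.Helper97_SpTensDefs.refl
    rw [transpose_sub, transpose_one, transpose_smul, transpose_vecMulVec, Matrix.mul_sub,
      Matrix.mul_one, Matrix.mul_smul, Matrix.mul_vecMulVec]
  have h3 : (X *ᵥ (S0 F *ᵥ y)) i = be (fun j => X i j) y :=
    (be_eq_dotProduct (fun j => X i j) y).symm
  rw [h1, Matrix.sub_apply, Matrix.smul_apply, vecMulVec_apply, smul_eq_mul, h3]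

/-- the reflection in `e0 - μ e2` -/
theorem sig_eq (h2 : (2 : F) ≠ 0) {μ : F} (hμ : μ ≠ 0) (X : V) :
    X * (Cfsg.Agent.Lib.Helper97_SpTensDefs.refl (![1, 0, -μ] : Fin 3 → F))ᵀ =
      mk3 (μ⁻¹ • colv X 2) (colv X 1) (μ • colv X 0) := by
  have hb : be (![1, 0, -μ] : Fin 3 → F) ![1, 0, -μ] = -(2 * μ) := by
    simp [be]; ring
  ext i k
  rw [mul_refl_apply, hb]
  fin_cases k <;> simp [mk3, colv, be] <;> field_simp <;> ring

/-- the reflection in `e0 + e1` -/
theorem rho_eq (X : V) :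
    X * (Cfsg.Agent.Lib.Helper97_SpTensDefs.refl (![1, 1, 0] : Fin 3 → F))ᵀ =
      mk3 (colv X 0 - (2 : F) • colv X 1 - (2 : F) • colv X 2)
        (-colv X 1 - (2 : F) • colv X 2) (colv X 2) := by
  have hb : be (![1, 1, 0] : Fin 3 → F) ![1, 1, 0] = 1 := by
    simp [be]
  ext i k
  rw [mul_refl_apply, hb]
  fin_cases k <;> simp [mk3, colv, be] <;> ring

theorem colv_mk3_0 (a b c : Fin m ⊕ Fin m → F) : colv (mk3 a b c) 0 = a := by
  funext i; simp [colv, mk3]

theorem colv_mk3_1 (a b c : Fin m ⊕ Fin m → F) : colv (mk3 a b c) 1 = b := by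
  funext i; simp [colv, mk3]

theorem colv_mk3_2 (a b c : Fin m ⊕ Fin m → F) : colv (mk3 a b c) 2 = c := by
  funext i; simp [colv, mk3]

theorem mk3_colv (X : V) : mk3 (colv X 0) (colv X 1) (colv X 2) = X := by
  ext i k
  fin_cases k <;> simp [mk3, colv]

theorem vecMulVec_eq_mk3 (x : Fin m ⊕ Fin m → F) (y : Fin 3 → F) :
    vecMulVec x y = y 0 • mk3 x 0 0 + y 1 • mk3 0 x 0 + y 2 • mk3 0 0 x := by
  ext i k
  fin_cases k <;> simp [mk3, vecMulVec_apply, mul_comm]

/-- **IRR2** -/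
theorem isBFib_of_refl_invariant (h2 : (2 : F) ≠ 0) (hq : 5 ≤ Fintype.card F)
    (L : Submodule F V) (hL : finrank F ↥L = 3)
    (hinv : ∀ y : Fin 3 → F, be y y ≠ 0 → ∀ X ∈ L, X * (refl y)ᵀ ∈ L) : IsBFib L := by
  classical
  -- the two families of reflections, in coordinates
  have hsig : ∀ μ : F, μ ≠ 0 → ∀ X ∈ L, mk3 (μ⁻¹ • colv X 2) (colv X 1) (μ • colv X 0) ∈ L := by
    intro μ hμ X hX
    rw [← sig_eq h2 hμ X]
    refine hinv _ ?_ X hX
    have hb : be (![1, 0, -μ] : Fin 3 → F) ![1, 0, -μ] = -(2 * μ) := by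
      simp [be]; ring
    rw [hb]
    exact neg_ne_zero.mpr (mul_ne_zero h2 hμ)
  have hrho : ∀ X ∈ L, mk3 (colv X 0 - (2 : F) • colv X 1 - (2 : F) • colv X 2)
      (-colv X 1 - (2 : F) • colv X 2) (colv X 2) ∈ L := by
    intro X hX
    rw [← rho_eq X]
    refine hinv _ ?_ X hX
    have hb : be (![1, 1, 0] : Fin 3 → F) ![1, 1, 0] = 1 := by
      simp [be]
    rw [hb]
    exact one_ne_zero
  -- a scalar `λ ∉ {0, 1, -1}`
  obtain ⟨l, hl0, hl1, hl2⟩ : ∃ l : F, l ≠ 0 ∧ l ≠ 1 ∧ l ≠ -1 := by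
    by_contra hcon
    push Not at hcon
    have hsub : (Finset.univ : Finset F) ⊆ {0, 1, -1} := by
      intro a _
      by_cases ha0 : a = 0
      · simp [ha0]
      by_cases ha1 : a = 1
      · simp [ha1]
      · have := hcon a ha0 ha1
        simp [this]
    have h1 := Finset.card_le_card hsub
    have h3 : ({0, 1, -1} : Finset F).card ≤ 3 := Finset.card_le_three
    rw [Finset.card_univ] at h1
    omega
  -- the torus element
  have hD : ∀ X ∈ L, mk3 (l⁻¹ • colv X 0) (colv X 1) (l • colv X 2) ∈ L := by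
    intro X hX
    have h1 := hsig 1 one_ne_zero X hX
    have h3 := hsig l hl0 _ h1
    rw [colv_mk3_0, colv_mk3_1, colv_mk3_2, inv_one, one_smul, one_smul] at h3
    exact h3
  have hl3 : l⁻¹ - 1 ≠ 0 := by
    intro h
    apply hl1
    have : l⁻¹ = 1 := sub_eq_zero.mp h
    rw [← inv_inv l, this, inv_one]
  have hl4 : l⁻¹ - l ≠ 0 := by
    intro h
    have h5 : l⁻¹ = l := sub_eq_zero.mp h
    have h6 : l * l = 1 := by
      have := mul_inv_cancel₀ hl0
      rw [h5] at this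
      exact this
    have h7 : (l - 1) * (l + 1) = 0 := by linear_combination h6
    rcases mul_eq_zero.mp h7 with h8 | h8
    · exact hl1 (sub_eq_zero.mp h8)
    · exact hl2 (eq_neg_of_add_eq_zero_left h8)
  have hl5 : (1 : F) - l ≠ 0 := fun h => hl1 (sub_eq_zero.mp h).symm
  have hl6 : (1 : F) - l ^ 2 ≠ 0 := by
    intro h
    apply hl4
    have h7 : l * l = 1 := by linear_combination -h
    field_simp
    linear_combination -h7
  -- the column projections
  have hP0 : ∀ X ∈ L, mk3 (colv X 0) 0 0 ∈ L := by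
    intro X hX
    have h1 := hD X hX
    have h3 := hD _ h1
    rw [colv_mk3_0, colv_mk3_1, colv_mk3_2] at h3
    have h4 : mk3 (colv X 0) 0 0 = ((l⁻¹ - 1) * (l⁻¹ - l))⁻¹ •
        (mk3 (l⁻¹ • l⁻¹ • colv X 0) (colv X 1) (l • l • colv X 2) -
          (1 + l) • mk3 (l⁻¹ • colv X 0) (colv X 1) (l • colv X 2) + l • X) := by
      ext i k
      fin_cases k
      · simp only [mk3, colv, Matrix.of_apply, Matrix.smul_apply, Matrix.add_apply,
          Matrix.sub_apply, Pi.smul_apply, smul_eq_mul, Fin.zero_eta, Fin.isValue,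
          Matrix.cons_val_zero]
        field_simp
        ring
      · simp only [mk3, colv, Matrix.of_apply, Matrix.smul_apply, Matrix.add_apply,
          Matrix.sub_apply, Pi.smul_apply, Pi.zero_apply, smul_eq_mul, Fin.mk_one, Fin.isValue,
          Matrix.cons_val_one, Matrix.cons_val_zero]
        ring
      · simp only [mk3, colv, Matrix.of_apply, Matrix.smul_apply, Matrix.add_apply,
          Matrix.sub_apply, Pi.smul_apply, Pi.zero_apply, smul_eq_mul, Fin.reduceFinMk,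
          Fin.isValue, Matrix.cons_val_two, Matrix.tail_cons, Matrix.head_cons]
        ring
    rw [h4]
    exact L.smul_mem _ (L.add_mem (L.sub_mem h3 (L.smul_mem _ h1)) (L.smul_mem _ hX))
  have hswap : ∀ X ∈ L, mk3 (colv X 2) (colv X 1) (colv X 0) ∈ L := by
    intro X hX
    have h1 := hsig 1 one_ne_zero X hX
    rw [inv_one, one_smul, one_smul] at h1
    exact h1
  have hP2 : ∀ X ∈ L, mk3 0 0 (colv X 2) ∈ L := by
    intro X hX
    have h1 := hP0 _ (hswap X hX)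
    rw [colv_mk3_0] at h1
    have h3 := hswap _ h1
    rw [colv_mk3_0, colv_mk3_1, colv_mk3_2] at h3
    exact h3
  have hP1 : ∀ X ∈ L, mk3 0 (colv X 1) 0 ∈ L := by
    intro X hX
    have h4 : mk3 0 (colv X 1) 0 = X - mk3 (colv X 0) 0 0 - mk3 0 0 (colv X 2) := by
      ext i k
      fin_cases k <;> simp [mk3, colv]
    rw [h4]
    exact L.sub_mem (L.sub_mem hX (hP0 X hX)) (hP2 X hX)
  -- moving between the columns
  have h02 : ∀ x : Fin m ⊕ Fin m → F, mk3 x 0 0 ∈ L → mk3 0 0 x ∈ L := by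
    intro x hx
    have h1 := hswap _ hx
    rw [colv_mk3_0, colv_mk3_1, colv_mk3_2] at h1
    exact h1
  have h20 : ∀ x : Fin m ⊕ Fin m → F, mk3 0 0 x ∈ L → mk3 x 0 0 ∈ L := by
    intro x hx
    have h1 := hswap _ hx
    rw [colv_mk3_0, colv_mk3_1, colv_mk3_2] at h1
    exact h1
  have h21 : ∀ x : Fin m ⊕ Fin m → F, mk3 0 0 x ∈ L → mk3 0 x 0 ∈ L := by
    intro x hx
    have h1 := hP1 _ (hrho _ hx)
    rw [colv_mk3_1, colv_mk3_1, colv_mk3_2] at h1
    have h4 : mk3 0 x 0 = (-(2 : F))⁻¹ • mk3 0 (-(0 : Fin m ⊕ Fin m → F) - (2 : F) • x) 0 := by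
      ext i k
      fin_cases k <;> simp [mk3]
      field_simp
    rw [h4]
    exact L.smul_mem _ h1
  have h10 : ∀ x : Fin m ⊕ Fin m → F, mk3 0 x 0 ∈ L → mk3 x 0 0 ∈ L := by
    intro x hx
    have h1 := hP0 _ (hrho _ hx)
    rw [colv_mk3_0, colv_mk3_0, colv_mk3_1, colv_mk3_2] at h1
    have h4 : mk3 x 0 0 = (-(2 : F))⁻¹ •
        mk3 ((0 : Fin m ⊕ Fin m → F) - (2 : F) • x - (2 : F) • (0 : Fin m ⊕ Fin m → F)) 0 0 := by
      ext i k
      fin_cases k <;> simp [mk3]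
      field_simp
    rw [h4]
    exact L.smul_mem _ h1
  -- a non-zero column
  have hLbot : L ≠ ⊥ := by
    intro h
    rw [h, finrank_bot] at hL
    omega
  obtain ⟨X, hXL, hX0⟩ := Submodule.exists_mem_ne_zero_of_ne_bot hLbot
  have hcol : ∃ k, colv X k ≠ 0 := by
    by_contra hcon
    push Not at hcon
    apply hX0
    ext i k
    exact congrFun (hcon k) i
  obtain ⟨k, hk⟩ := hcol
  have hall : mk3 (colv X k) 0 0 ∈ L ∧ mk3 0 (colv X k) 0 ∈ L ∧ mk3 0 0 (colv X k) ∈ L := by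
    fin_cases k
    · have a0 := hP0 X hXL
      have a2 := h02 _ a0
      exact ⟨a0, h21 _ a2, a2⟩
    · have a1 := hP1 X hXL
      have a0 := h10 _ a1
      exact ⟨a0, a1, h02 _ a0⟩
    · have a2 := hP2 X hXL
      exact ⟨h20 _ a2, h21 _ a2, a2⟩
  refine ⟨colv X k, hk, ?_⟩
  have hle : bfib (colv X k) ≤ L := by
    rintro _ ⟨y, rfl⟩
    rw [vecMulVec_eq_mk3]
    exact L.add_mem (L.add_mem (L.smul_mem _ hall.1) (L.smul_mem _ hall.2.1))
      (L.smul_mem _ hall.2.2)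
  exact (Submodule.eq_of_le_of_finrank_eq hle (by rw [finrank_bfib hk, hL])).symm

end Cfsg.Agent.Lib.Helper63_SP3_IRR2
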