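import Mathlib
import Cfsg.Agent.S3360
import Cfsg.Agent.Lib.Helper9_HigBase
import Cfsg.Agent.Lib.Helper29_EqOrd_EOC
import Cfsg.Agent.Lib.Helper63_ShShell

/-!
# The field model for S3776 (helper63, for helper76's plan)

* `semilinear_model`: a group `R` of semilinear maps `x ↦ a σ(x)` of a field `F` of order `2 ^ n`,
  transitive on the nonzero vectors, contains a multiplication `x ↦ λ x` with
  `orderOf λ * d = 2 ^ n - 1`, `d ∣ n`.
* `field_model`: for a finite `2`-group `G` with at least two involutions and a solvable group `Y`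
  of automorphisms transitive on the involutions: `Ω₁(Z(G)) ≅ (F, +)` with one `ξ ∈ Y` acting as a
  multiplication as above.
-/

set_option autoImplicit false
set_option linter.unusedSectionVars false
set_option linter.style.haveILetI false

namespace Cfsg.Agent.Lib.Helper63_ShField

open Cfsg.Agent.Lib.Helper9_HigBase

section semilinear

variable {A : Type*} [AddCommGroup A] [Module (ZMod 2) A] [Finite A]
  {F : Type} [Field F] [Fintype F]

/-- uniqueness of the semilinear description -/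
theorem semi_unique {a a' : F} {σ σ' : F ≃+* F} (ha : a ≠ 0)
    (h : ∀ x : F, a * σ x = a' * σ' x) : a = a' ∧ σ = σ' := by
  have h1 : a = a' := by
    have := h 1
    simp at this
    exact this
  refine ⟨h1, ?_⟩
  ext x
  have := h x
  rw [← h1] at this
  exact mul_left_cancel₀ ha this

theorem semilinear_model (e : A ≃+ F) (R : Subgroup (A ≃ₗ[ZMod 2] A))
    (hsemi : ∀ g ∈ R, ∃ (a : F) (σ : F ≃+* F), ∀ v : A, e (g v) = a * σ (e v))
    (htrans : ∀ v w : A, v ≠ 0 → w ≠ 0 → ∃ g ∈ R, g v = w)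
    (n : ℕ) (hn : Fintype.card F = 2 ^ n) :
    ∃ (d : ℕ) (lam : Fˣ) (g : A ≃ₗ[ZMod 2] A), g ∈ R ∧ d ∣ n ∧ orderOf lam * d = 2 ^ n - 1 ∧
      ∀ v, e (g v) = (lam : F) * e v := by
  classical
  haveI : Fact (Nat.Prime 2) := ⟨Nat.prime_two⟩
  haveI hfinL : Finite (A ≃ₗ[ZMod 2] A) :=
    Finite.of_injective (fun f => (f : A → A)) DFunLike.coe_injective
  -- choices
  have hsemi' : ∀ g : R, ∃ (p : F × (F ≃+* F)), ∀ v : A, e ((g : A ≃ₗ[ZMod 2] A) v) = p.1 * p.2 (e v) := by
    intro g
    obtain ⟨a, σ, h⟩ := hsemi g.1 g.2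
    exact ⟨(a, σ), h⟩
  choose p hp using hsemi'
  have hane : ∀ g : R, (p g).1 ≠ 0 := by
    intro g h0
    have h1 := hp g (e.symm 1)
    rw [h0, zero_mul] at h1
    have h2 : (g : A ≃ₗ[ZMod 2] A) (e.symm 1) = 0 := by
      apply e.injective; rw [h1, map_zero]
    have h3 : e.symm 1 = 0 := by
      have := (g : A ≃ₗ[ZMod 2] A).injective (h2.trans (map_zero _).symm)
      exact this
    have h4 := congrArg e h3
    simp at h4
  have hmul : ∀ g h : R, (p (g * h)).1 = (p g).1 * (p g).2 (p h).1 ∧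
      (p (g * h)).2 = (p g).2 * (p h).2 := by
    intro g h
    have key : ∀ x : F, (p (g * h)).1 * (p (g * h)).2 x
        = ((p g).1 * (p g).2 (p h).1) * ((p g).2 * (p h).2) x := by
      intro x
      obtain ⟨v, rfl⟩ := e.surjective x
      rw [← hp (g * h) v]
      have h1 : ((g * h : R) : A ≃ₗ[ZMod 2] A) v = (g : A ≃ₗ[ZMod 2] A) ((h : A ≃ₗ[ZMod 2] A) v) := rfl
      rw [h1, hp g, hp h, map_mul, RingAut.mul_apply, mul_assoc]
    exact semi_unique (hane _) key
  -- the homomorphism to the Galois group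
  let Sg : R →* (F ≃+* F) := MonoidHom.mk' (fun g => (p g).2) (fun g h => (hmul g h).2)
  have hSg : ∀ g : R, Sg g = (p g).2 := fun g => rfl
  have hker : ∀ g : Sg.ker, ∀ v : A, e (((g : R) : A ≃ₗ[ZMod 2] A) v) = (p g.1).1 * e v := by
    intro g v
    have h1 : (p g.1).2 = 1 := by rw [← hSg]; exact g.2
    rw [hp g.1 v, h1]; rfl
  -- the multiplier character on the kernel
  let f : Sg.ker →* F :=
    { toFun := fun g => (p g.1).1
      map_one' := by
        have h1 := hker 1 (e.symm 1)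
        have h2 : (((1 : Sg.ker) : R) : A ≃ₗ[ZMod 2] A) (e.symm 1) = e.symm 1 := rfl
        rw [h2] at h1
        simp only [AddEquiv.apply_symm_apply, mul_one] at h1
        exact h1.symm
      map_mul' := fun g h => by
        have h1 : (p g.1).2 = 1 := by rw [← hSg]; exact g.2
        have := (hmul g.1 h.1).1
        rw [h1] at this
        exact this }
  have hf : ∀ g : Sg.ker, f g = (p g.1).1 := fun g => rfl
  have hfinj : Function.Injective f := by
    intro g h hgh
    rw [hf, hf] at hgh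
    apply Subtype.ext
    apply Subtype.ext
    ext v
    apply e.injective
    rw [hker g v, hker h v, hgh]
  haveI hcyc : IsCyclic Sg.ker := isCyclic_of_injective_ringHom f hfinj
  obtain ⟨g₀, hg₀⟩ := hcyc.exists_generator
  have hord : orderOf g₀ = Nat.card Sg.ker := orderOf_eq_card_of_forall_mem_zpowers hg₀
  set lam : Fˣ := Units.mk0 (f g₀) (by rw [hf]; exact hane _) with hlam
  have hlamord : orderOf lam = Nat.card Sg.ker := by
    rw [← hord, ← orderOf_injective f hfinj g₀, ← orderOf_units, hlam, Units.val_mk0]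
  -- `|Sg.ker|` divides `2 ^ n - 1`
  have hm_dvd : Nat.card Sg.ker ∣ 2 ^ n - 1 := by
    rw [← hlamord, ← hn, ← Fintype.card_units]
    exact orderOf_dvd_card
  -- `|R| = |ker| * |range|`, `|range| ∣ n`
  have hcardR : Nat.card Sg.ker * Nat.card Sg.range = Nat.card R := by
    rw [← Subgroup.index_ker, Subgroup.card_mul_index]
  have hrange : Nat.card Sg.range ∣ n := by
    have h1 : Nat.card (F ≃+* F) = n := Cfsg.Agent.Lib.Helper29_EqOrd_EOC.EOC1 (p := 2) hn
    rw [← h1]
    exact Subgroup.card_subgroup_dvd_card _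
  -- orbit-stabilizer
  have hv₀ : e.symm 1 ≠ 0 := by
    intro h
    have := congrArg e h
    simp at this
  have horb : MulAction.orbit R (e.symm 1) = ({0} : Set A)ᶜ := by
    ext w
    constructor
    · rintro ⟨g, rfl⟩
      show ¬ ((g • e.symm 1) ∈ ({0} : Set A))
      rw [Set.mem_singleton_iff]
      intro h
      apply hv₀
      have h1 : (g : A ≃ₗ[ZMod 2] A) (e.symm 1) = 0 := h
      exact (g : A ≃ₗ[ZMod 2] A).injective (h1.trans (map_zero _).symm)
    · intro hw
      have hw0 : w ≠ 0 := by simpa using hw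
      obtain ⟨g, hg, hgw⟩ := htrans _ w hv₀ hw0
      exact ⟨⟨g, hg⟩, hgw⟩
  have hcardA : Nat.card A = 2 ^ n := by
    rw [Nat.card_congr e.toEquiv, Nat.card_eq_fintype_card, hn]
  have hdvdR : 2 ^ n - 1 ∣ Nat.card R := by
    have h1 := MulAction.index_stabilizer (G := R) (x := e.symm 1)
    rw [horb, Set.ncard_compl, Set.ncard_singleton, hcardA] at h1
    rw [← h1]
    exact Subgroup.index_dvd_card _
  -- conclusion
  obtain ⟨d, hd⟩ := hm_dvd
  have hmpos : 0 < Nat.card Sg.ker := Nat.card_pos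
  refine ⟨d, lam, ((g₀ : R) : A ≃ₗ[ZMod 2] A), (g₀ : R).2, ?_, ?_, ?_⟩
  · have h1 : Nat.card Sg.ker * d ∣ Nat.card Sg.ker * Nat.card Sg.range := by
      rw [← hd, hcardR]; exact hdvdR
    exact (Nat.dvd_of_mul_dvd_mul_left hmpos h1).trans hrange
  · rw [hlamord, hd]
  · intro v
    rw [hker g₀ v, hlam, Units.val_mk0, hf]

end semilinear

section group

/-- automorphisms of an elementary abelian `2`-group as `𝔽₂`-linear maps -/
def toLin (V : Type*) [CommGroup V] [Module (ZMod 2) (Additive V)] :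
    MulAut V →* (Additive V ≃ₗ[ZMod 2] Additive V) where
  toFun a := AddEquiv.toLinearEquiv (MulEquiv.toAdditive a)
    (fun c x => ZMod.map_smul (MulEquiv.toAdditive a) c x)
  map_one' := by ext x; rfl
  map_mul' := fun a b => by ext x; rfl

theorem toLin_apply (V : Type*) [CommGroup V] [Module (ZMod 2) (Additive V)] (a : MulAut V)
    (v : V) : toLin V a (Additive.ofMul v) = Additive.ofMul (a v) := rfl

universe u
variable {G : Type u} [Group G] [Finite G]

theorem field_model (hG : IsPGroup 2 G)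
    (htwo : ∃ x y : G, x ≠ y ∧ x ≠ 1 ∧ x ^ 2 = 1 ∧ y ≠ 1 ∧ y ^ 2 = 1)
    (Y : Subgroup (MulAut G)) (hY : Group.IsSolvable Y)
    (htr : ∀ x y : G, x ≠ 1 → x ^ 2 = 1 → y ≠ 1 → y ^ 2 = 1 → ∃ a ∈ Y, a x = y) :
    ∃ (F : Type) (_ : Field F) (_ : Fintype F) (n d : ℕ) (lam : Fˣ) (xi : MulAut G) (e : G → F),
      xi ∈ Y ∧ Fintype.card F = 2 ^ n ∧ 2 ≤ n ∧ d ∣ n ∧ orderOf lam * d = 2 ^ n - 1 ∧
      (∀ x : G, x * x = 1 → x ∈ Subgroup.center G) ∧
      Set.BijOn e (Om G) Set.univ ∧ (∀ x ∈ Om G, ∀ y ∈ Om G, e (x * y) = e x + e y) ∧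
      ∀ z ∈ Om G, e (xi z) = (lam : F) * e z := by
  classical
  haveI : Fact (Nat.Prime 2) := ⟨Nat.prime_two⟩
  obtain ⟨x₀, y₀, hxy, hx1, hx2, hy1, hy2⟩ := htwo
  haveI hnt : Nontrivial G := ⟨⟨x₀, 1, hx1⟩⟩
  have hcne : Subgroup.center G ≠ ⊥ := (hG.bot_lt_center).ne'
  have hinv : ∀ x : G, x * x = 1 → x ∈ Subgroup.center G := by
    intro x hx
    exact Cfsg.Agent.Lib.Helper63_ShShell.sq_mem_characteristic hG Y htr (Subgroup.center G) hcne x
      (by rw [pow_two]; exact hx)
  have hmemV : ∀ x : G, x ∈ Om G ↔ x * x = 1 :=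
    fun x => ⟨fun h => h.2, fun h => ⟨hinv x h, h⟩⟩
  have hVinv : ∀ k : Y, ∀ x ∈ Om G, (Y.subtype k) x ∈ Om G := by
    intro k x hx
    rw [hmemV] at hx ⊢
    rw [← map_mul, hx, map_one]
  letI instC : CommGroup (Om G) :=
    { (inferInstance : Group (Om G)) with
      mul_comm := fun a b => Subtype.ext (by
        have := Subgroup.mem_center_iff.mp b.2.1 a.1
        show a.1 * b.1 = b.1 * a.1
        exact this) }
  letI instM : Module (ZMod 2) (Additive (Om G)) := AddCommGroup.zmodModule (n := 2) (by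
    intro v
    have h1 : (Additive.toMul v) * (Additive.toMul v) = 1 := Subtype.ext (Additive.toMul v).2.2
    rw [two_nsmul]
    exact congrArg Additive.ofMul h1)
  set ρ₀ : Y →* (Additive (Om G) ≃ₗ[ZMod 2] Additive (Om G)) :=
    (toLin (Om G)).comp (resAut Y.subtype (Om G) hVinv) with hρ₀
  have hρ₀_apply : ∀ (k : Y) (v : Om G),
      ρ₀ k (Additive.ofMul v) = Additive.ofMul ⟨(k : MulAut G) v.1, hVinv k v.1 v.2⟩ := by
    intro k v
    rfl
  set R := ρ₀.range with hR
  haveI hfinL : Finite (Additive (Om G) ≃ₗ[ZMod 2] Additive (Om G)) :=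
    Finite.of_injective (fun f => (f : Additive (Om G) → Additive (Om G))) DFunLike.coe_injective
  haveI hRsol : Group.IsSolvable R := Group.isSolvable_of_surjective ρ₀.rangeRestrict_surjective
  -- involutions in `Om G`
  have hx₀V : x₀ ∈ Om G := (hmemV x₀).mpr (by rw [← pow_two]; exact hx2)
  have hy₀V : y₀ ∈ Om G := (hmemV y₀).mpr (by rw [← pow_two]; exact hy2)
  haveI hAnt : Nontrivial (Additive (Om G)) :=
    ⟨⟨Additive.ofMul ⟨x₀, hx₀V⟩, 0, fun h => hx1 (congrArg (fun t => ((Additive.toMul t : Om G) : G)) h)⟩⟩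
  have htransA : ∀ v w : Additive (Om G), v ≠ 0 → w ≠ 0 → ∃ g : R, R.subtype g v = w := by
    intro v w hv hw
    have hv1 : ((Additive.toMul v : Om G) : G) ≠ 1 := by
      intro h
      apply hv
      have : Additive.toMul v = (1 : Om G) := Subtype.ext h
      exact congrArg Additive.ofMul this
    have hw1 : ((Additive.toMul w : Om G) : G) ≠ 1 := by
      intro h
      apply hw
      have : Additive.toMul w = (1 : Om G) := Subtype.ext h
      exact congrArg Additive.ofMul this
    have hv2 : ((Additive.toMul v : Om G) : G) ^ 2 = 1 := by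
      rw [pow_two]; exact (Additive.toMul v).2.2
    have hw2 : ((Additive.toMul w : Om G) : G) ^ 2 = 1 := by
      rw [pow_two]; exact (Additive.toMul w).2.2
    obtain ⟨a, ha, hav⟩ := htr _ _ hv1 hv2 hw1 hw2
    refine ⟨⟨ρ₀ ⟨a, ha⟩, ⟨_, rfl⟩⟩, ?_⟩
    show ρ₀ ⟨a, ha⟩ (Additive.ofMul (Additive.toMul v)) = w
    rw [hρ₀_apply]
    have : (⟨a ((Additive.toMul v : Om G) : G), hVinv ⟨a, ha⟩ _ (Additive.toMul v).2⟩ : Om G)
        = Additive.toMul w := Subtype.ext hav
    exact congrArg Additive.ofMul this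
  -- cardinalities
  obtain ⟨n, hn⟩ := IsPGroup.iff_card.mp (hG.to_subgroup (Om G))
  have hcardA : Nat.card (Additive (Om G)) = 2 ^ n := by
    rw [← hn]; exact Nat.card_congr Additive.toMul
  have hn2 : 2 ≤ n := by
    by_contra hlt
    have hle : Nat.card (Om G) ≤ 2 := by
      rw [hn]
      have : n ≤ 1 := by omega
      calc 2 ^ n ≤ 2 ^ 1 := Nat.pow_le_pow_right (by norm_num) this
        _ = 2 := by norm_num
    have h3 : 2 < Nat.card (Om G) := by
      haveI : Fintype (Om G) := Fintype.ofFinite _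
      rw [Nat.card_eq_fintype_card]
      refine Fintype.two_lt_card_iff.mpr ⟨1, ⟨x₀, hx₀V⟩, ⟨y₀, hy₀V⟩, ?_, ?_, ?_⟩
      · intro h; exact hx1 (congrArg Subtype.val h).symm
      · intro h; exact hy1 (congrArg Subtype.val h).symm
      · intro h; exact hxy (congrArg Subtype.val h)
    omega
  -- Huppert
  have hS := Cfsg.Agent.S3360.result 2 (V := Additive (Om G)) (G := R) hRsol R.subtype
    (Subgroup.subtype_injective R) htransA
  rcases hS with ⟨F, instF, instFt, e, hsemi⟩ | hexc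
  swap
  · exfalso
    rw [hcardA] at hexc
    have hev : Even (2 ^ n) := (Nat.even_pow.mpr ⟨even_two, by omega⟩)
    simp only [Set.mem_insert_iff, Set.mem_singleton_iff] at hexc
    rcases hexc with h | h | h | h | h | h <;> (rw [h] at hev; revert hev; decide)
  have hcardF : Fintype.card F = 2 ^ n := by
    rw [← hcardA, ← Nat.card_eq_fintype_card]; exact (Nat.card_congr e.toEquiv).symm
  have hsemi' : ∀ g ∈ R, ∃ (a : F) (σ : F ≃+* F), ∀ v : Additive (Om G), e (g v) = a * σ (e v) :=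
    fun g hg => hsemi ⟨g, hg⟩
  have htrans' : ∀ v w : Additive (Om G), v ≠ 0 → w ≠ 0 → ∃ g ∈ R, g v = w := by
    intro v w hv hw
    obtain ⟨g, hg⟩ := htransA v w hv hw
    exact ⟨g.1, g.2, hg⟩
  obtain ⟨d, lam, g, hgR, hdn, hord, hact⟩ := semilinear_model e R hsemi' htrans' n hcardF
  obtain ⟨ξ, rfl⟩ := hgR
  set e' : G → F := fun x => if h : x ∈ Om G then e (Additive.ofMul ⟨x, h⟩) else 0 with he'
  have he'_pos : ∀ (x : G) (h : x ∈ Om G), e' x = e (Additive.ofMul ⟨x, h⟩) :=
    fun x h => dif_pos h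
  refine ⟨F, instF, instFt, n, d, lam, (ξ : MulAut G), e',
    ξ.2, hcardF, hn2, hdn, hord, hinv, ?_, ?_, ?_⟩
  · refine ⟨fun _ _ => Set.mem_univ _, ?_, ?_⟩
    · intro a ha b hb hab
      rw [he'_pos a ha, he'_pos b hb] at hab
      have h1 := e.injective hab
      have h2 : (⟨a, ha⟩ : Om G) = ⟨b, hb⟩ := congrArg Additive.toMul h1
      exact congrArg Subtype.val h2
    · intro t _
      obtain ⟨v, rfl⟩ := e.surjective t
      refine ⟨((Additive.toMul v : Om G) : G), (Additive.toMul v).2, ?_⟩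
      rw [he'_pos _ (Additive.toMul v).2]
      rfl
  · intro a ha b hb
    have hab : a * b ∈ Om G := (Om G).mul_mem ha hb
    rw [he'_pos a ha, he'_pos b hb, he'_pos _ hab, ← map_add]
    rfl
  · intro z hz
    have hξz : (ξ : MulAut G) z ∈ Om G := hVinv ξ z hz
    rw [he'_pos z hz, he'_pos _ hξz, ← hact]
    rfl

end group

end Cfsg.Agent.Lib.Helper63_ShField
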