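import Mathlib
import Cfsg.Agent.Lib.Helper67_Sp4Defs
import Cfsg.Agent.Lib.Helper50_Sp4E_RW1

/-!
# S5789 package RA1c (helper63, for helper67's market)

If every element of `X` fixing the first basis vector lies in the rational group `S`, then `X ≤ S`.
-/

set_option autoImplicit false
set_option linter.unusedSectionVars false
set_option linter.unusedVariables false

open Cfsg.Agent.Lib.Helper94_Symp Cfsg.Agent.Lib.Helper38_SpSub1 Cfsg.Agent.Lib.Helper38_SpSub2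
  Cfsg.Agent.Lib.Helper98_ExtDefs Cfsg.Agent.Lib.Helper67_Sp4Defs

namespace Cfsg.Agent.Lib.Helper63_Sp4E_RA1c

section Rat

variable {F V : Type*} [Field F] [AddCommGroup V] [Module F V] [CharP F 2] [Finite F]
variable {B : LinearMap.BilinForm F V} (hB : B.IsAlt)
variable {F₀ : Subfield F}
variable {b : Module.Basis (Fin 2 ⊕ Fin 2) F V} (hb : IsSymp B b)
variable {S : Subgroup (V ≃ₗ[F] V)} (hS : IsRatGroup b B F₀ S)

include hB hb hS

variable {X : Subgroup (V ≃ₗ[F] V)} (hSX : S ⊓ isoGroup B ≤ X) (hXI : X ≤ isoGroup B)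

include hSX hXI

/-- (A1b) an element of `X` fixing a nonzero rational vector lies in `S` -/
theorem mem_S_of_fix_rat (hfix : ∀ k ∈ X, k (b (Sum.inl 0)) = b (Sum.inl 0) → k ∈ S)
    {k : V ≃ₗ[F] V} (hk : k ∈ X) {v : V} (hv : Rat b B F₀ v) (hv0 : v ≠ 0) (hkv : k v = v) :
    k ∈ S := by
  obtain ⟨h, hh, hhv⟩ := Cfsg.Agent.Lib.Helper50_Sp4E_RW1.exists_rat_move hB hb hS
    (rat_basis hb F₀ (Sum.inl 0)) hv (b.ne_zero _) hv0
  have hhX : h ∈ X := hSX hh
  have h1 : h⁻¹ * k * h ∈ X := X.mul_mem (X.mul_mem (X.inv_mem hhX) hk) hhX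
  have h2 : (h⁻¹ * k * h) (b (Sum.inl 0)) = b (Sum.inl 0) := by
    rw [LinearEquiv.mul_apply, LinearEquiv.mul_apply, hhv, hkv, ← hhv, inv_apply_apply']
  have h3 := hfix _ h1 h2
  have e : k = h * (h⁻¹ * k * h) * h⁻¹ := by group
  rw [e]
  exact S.mul_mem (S.mul_mem hh.1 h3) (S.inv_mem hh.1)

/-- (b1) the image under `g ∈ X` of a nonzero rational vector `v` with `B (g v) v = 0` is
rational -/
theorem rat_of_perp (hfix : ∀ k ∈ X, k (b (Sum.inl 0)) = b (Sum.inl 0) → k ∈ S)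
    {g : V ≃ₗ[F] V} (hg : g ∈ X) {v : V} (hv : Rat b B F₀ v) (hv0 : v ≠ 0)
    (hperp : B (g v) v = 0) : Rat b B F₀ (g v) := by
  have h1 : stv B hB v 1 ∈ X := hSX (stv_rat_mem hB hb hS hv F₀.one_mem)
  have h2 : stv B hB (g v) 1 ∈ X := by
    rw [← conj_stv B hB (hXI hg)]
    exact X.mul_mem (X.mul_mem hg h1) (X.inv_mem hg)
  have h3 : stv B hB (g v) 1 v = v := stv_fix B hB 1 (alt_zero B hB hperp)
  have h4 := mem_S_of_fix_rat hB hb hS hSX hXI hfix h2 hv hv0 h3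
  exact Cfsg.Agent.Lib.Helper50_Sp4E_RW1.rat_of_stv_mem hB hb hS h4

theorem le_S_of_fix (hfix : ∀ k ∈ X, k (b (Sum.inl 0)) = b (Sum.inl 0) → k ∈ S) : X ≤ S := by
  intro k hk
  have hki : k ∈ isoGroup B := hXI hk
  have hkB : ∀ x y, B (k x) (k y) = B x y := hki
  have hswap : ∀ x y : V, B x y = B y x := by
    intro x y
    rw [alt_swap B hB x y, CharTwo.neg_eq]
  -- the vectors `u = k e₁`, `u' = k e₂`
  obtain ⟨u, hu⟩ : ∃ u, u = k (b (Sum.inl 0)) := ⟨_, rfl⟩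
  obtain ⟨u', hu'⟩ : ∃ u', u' = k (b (Sum.inl 1)) := ⟨_, rfl⟩
  have h12 : B (b (Sum.inl 0)) (b (Sum.inl 1)) = 0 := B_of_pr_ne hb (by decide)
  have huu' : B u u' = 0 := by rw [hu, hu', hkB, h12]
  have hu'u : B u' u = 0 := alt_zero B hB huu'
  have hu0 : u ≠ 0 := by
    rw [hu]
    intro h0
    exact b.ne_zero (Sum.inl 0) (k.map_eq_zero_iff.1 h0)
  -- the element `g = T u u'` of `X`
  have hgX : T B hB u u' ∈ X := by
    have h1 : T B hB (b (Sum.inl 0)) (b (Sum.inl 1)) ∈ X :=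
      hSX (T_rat_mem hB hb hS (rat_basis hb F₀ _) (rat_basis hb F₀ _))
    rw [hu, hu', ← conj_T B hB hki]
    exact X.mul_mem (X.mul_mem hk h1) (X.inv_mem hk)
  -- a basis vector `v` with `B v u ≠ 0`
  obtain ⟨y0, hy0⟩ : ∃ y0, B u (b y0) ≠ 0 := by
    by_contra hc
    push Not at hc
    exact hu0 (eq_zero_of_forall hb u hc)
  have hα0 : B (b y0) u ≠ 0 := alt_ne_zero_comm B hB hy0
  have hvr : Rat b B F₀ (b y0) := rat_basis hb F₀ y0
  have hv0 : b y0 ≠ 0 := b.ne_zero y0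
  -- `g v`
  have hgv : T B hB u u' (b y0) = b y0 + B (b y0) u • u' + B (b y0) u' • u :=
    T_apply B hB huu' _
  have hperp : B (T B hB u u' (b y0)) (b y0) = 0 := by
    rw [hgv]
    simp only [map_add, map_smul, LinearMap.add_apply, LinearMap.smul_apply, smul_eq_mul]
    rw [hB (b y0), zero_add, hswap u' (b y0), hswap u (b y0), mul_comm (B (b y0) u') (B (b y0) u),
      CharTwo.add_self_eq_zero]
  have hgvr := rat_of_perp hB hb hS hSX hXI hfix hgX hvr hv0 hperp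
  -- the rational vector `v₁`
  obtain ⟨v1, hv1⟩ : ∃ v1, v1 = B (b y0) u • u' + B (b y0) u' • u := ⟨_, rfl⟩
  have hv1r : Rat b B F₀ v1 := by
    have e : v1 = T B hB u u' (b y0) - b y0 := by
      rw [hgv, hv1]; abel
    rw [e]
    exact rat_sub F₀ hgvr hvr
  have hv1ne : v1 ≠ 0 := by
    intro h0
    have h1 : B v1 (k (b (Sum.inr 1))) = B (b y0) u := by
      rw [hv1]
      simp only [map_add, map_smul, LinearMap.add_apply, LinearMap.smul_apply, smul_eq_mul]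
      rw [hu, hu', hkB, hkB]
      have e1 : B (b (Sum.inl 1)) (b (Sum.inr 1)) = 1 := by
        have := B_swap hb (F := F) (Sum.inl (1 : Fin 2))
        simpa [sg] using this
      have e2 : B (b (Sum.inl 0)) (b (Sum.inr 1)) = 0 := B_of_pr_ne hb (by decide)
      rw [e1, e2, mul_one, mul_zero, add_zero]
    rw [h0, map_zero, LinearMap.zero_apply] at h1
    exact hα0 h1.symm
  have huv1 : B u v1 = 0 := by
    rw [hv1]
    simp only [map_add, map_smul, smul_eq_mul]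
    rw [huu', hB u, mul_zero, mul_zero, add_zero]
  -- `v' = k⁻¹ v₁` is rational
  have hkinv : k⁻¹ ∈ X := X.inv_mem hk
  have hv'X : stv B hB (k⁻¹ v1) 1 ∈ X := by
    have h1 : stv B hB v1 1 ∈ X := hSX (stv_rat_mem hB hb hS hv1r F₀.one_mem)
    rw [← conj_stv B hB (hXI hkinv)]
    exact X.mul_mem (X.mul_mem hkinv h1) (X.inv_mem hkinv)
  have hv'fix : stv B hB (k⁻¹ v1) 1 (b (Sum.inl 0)) = b (Sum.inl 0) := by
    apply stv_fix B hB 1
    rw [← hkB, apply_inv_apply', ← hu]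
    exact huv1
  have hv'S := hfix _ hv'X hv'fix
  have hv'r : Rat b B F₀ (k⁻¹ v1) :=
    Cfsg.Agent.Lib.Helper50_Sp4E_RW1.rat_of_stv_mem hB hb hS hv'S
  have hv'ne : k⁻¹ v1 ≠ 0 := by
    intro h0
    apply hv1ne
    have := congrArg k h0
    rw [apply_inv_apply', map_zero] at this
    exact this
  -- move `v₁` to `v'` by a rational isometry
  obtain ⟨h, hh, hhv⟩ := Cfsg.Agent.Lib.Helper50_Sp4E_RW1.exists_rat_move hB hb hS hv1r hv'r
    hv1ne hv'ne
  have hhX : h ∈ X := hSX hh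
  have hhk : (h * k) (k⁻¹ v1) = k⁻¹ v1 := by
    rw [LinearEquiv.mul_apply, apply_inv_apply', hhv]
  have hhkS := mem_S_of_fix_rat hB hb hS hSX hXI hfix (X.mul_mem hhX hk) hv'r hv'ne hhk
  have e : k = h⁻¹ * (h * k) := by group
  rw [e]
  exact S.mul_mem (S.inv_mem hh.1) hhkS

end Rat

end Cfsg.Agent.Lib.Helper63_Sp4E_RA1c
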