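import Mathlib
import Cfsg.Agent.Lib.Helper67_Sp4Defs
import Cfsg.Agent.Lib.Helper50_Sp4E_RW2

/-!
# S5789 package RRA (helper63, for helper67's market)

Structure of `longSet` and `shortSet` (the parameters of the long / short root elements lying in
an overgroup `X` of the rational group): they contain `F₀`, are closed under addition and under
multiplication by `F₀`, and do not depend on the chosen root (Weyl invariance).
-/

set_option autoImplicit false
set_option linter.unusedSectionVars false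
set_option linter.unusedVariables false

open Cfsg.Agent.Lib.Helper94_Symp Cfsg.Agent.Lib.Helper38_SpSub1 Cfsg.Agent.Lib.Helper38_SpSub2
  Cfsg.Agent.Lib.Helper98_ExtDefs Cfsg.Agent.Lib.Helper67_Sp4Defs

namespace Cfsg.Agent.Lib.Helper63_Sp4E_RRA

/-- squaring is injective in characteristic 2 -/
theorem sq_inj_of_charTwo {F : Type*} [Field F] [CharP F 2] {x y : F} (h : x * x = y * y) :
    x = y := by
  have h1 : (x + y) * (x + y) = 0 := by
    have : (x + y) * (x + y) = x * x + y * y + (x * y + x * y) := by ring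
    rw [this, CharTwo.add_self_eq_zero, add_zero, h, CharTwo.add_self_eq_zero]
  have h2 : x + y = 0 := mul_self_eq_zero.1 h1
  have h3 : x = -y := eq_neg_of_add_eq_zero_left h2
  rw [h3, CharTwo.neg_eq]

/-- every element of a finite subfield of a field of characteristic 2 is a square in it -/
theorem exists_sqrt_mem {F : Type*} [Field F] [CharP F 2] [Finite F] (F₀ : Subfield F) {μ : F}
    (hμ : μ ∈ F₀) : ∃ ν ∈ F₀, ν * ν = μ := by
  let φ : ↥F₀ → ↥F₀ := fun x => x * x
  have hinj : Function.Injective φ := by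
    intro x y hxy
    apply Subtype.ext
    apply sq_inj_of_charTwo
    exact congrArg Subtype.val hxy
  have hsurj : Function.Surjective φ := Finite.injective_iff_surjective.1 hinj
  obtain ⟨ν, hν⟩ := hsurj ⟨μ, hμ⟩
  exact ⟨ν.1, ν.2, congrArg Subtype.val hν⟩

/-- membership is invariant under conjugation by an element of the subgroup -/
theorem conj_mem_iff {G : Type*} [Group G] {X : Subgroup G} {h : G} (hh : h ∈ X) (g : G) :
    h * g * h⁻¹ ∈ X ↔ g ∈ X := by
  rw [Subgroup.mul_mem_cancel_right X (X.inv_mem hh), Subgroup.mul_mem_cancel_left X hh]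

section Rat

variable {F V : Type*} [Field F] [AddCommGroup V] [Module F V] [CharP F 2] [Finite F]
variable {B : LinearMap.BilinForm F V} (hB : B.IsAlt)
variable {F₀ : Subfield F}
variable {b : Module.Basis (Fin 2 ⊕ Fin 2) F V} (hb : IsSymp B b)
variable {S : Subgroup (V ≃ₗ[F] V)} (hS : IsRatGroup b B F₀ S)

include hB hb hS

variable {X : Subgroup (V ≃ₗ[F] V)} (hSX : S ⊓ isoGroup B ≤ X) (hXI : X ≤ isoGroup B)

include hSX hXI

theorem long_rat {c : F} (hc : c ∈ F₀) : c ∈ longSet B hB b X :=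
  hSX (stv_rat_mem hB hb hS (rat_basis hb F₀ _) hc)

theorem short_rat {c : F} (hc : c ∈ F₀) : c ∈ shortSet B hB b X :=
  hSX (T_rat_mem hB hb hS (rat_smul F₀ hc (rat_basis hb F₀ _)) (rat_basis hb F₀ _))

theorem long_add {c d : F} (hc : c ∈ longSet B hB b X) (hd : d ∈ longSet B hB b X) :
    c + d ∈ longSet B hB b X := by
  show stv B hB (b (Sum.inl 0)) (c + d) ∈ X
  rw [stv_add]
  exact X.mul_mem hc hd

theorem short_add {c d : F} (hc : c ∈ shortSet B hB b X) (hd : d ∈ shortSet B hB b X) :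
    c + d ∈ shortSet B hB b X := by
  show T B hB ((c + d) • b (Sum.inl 0)) (b (Sum.inl 1)) ∈ X
  have h12 : B (b (Sum.inl 0)) (b (Sum.inl 1)) = 0 := B_of_pr_ne hb (by decide)
  have h11 : B (b (Sum.inl 0)) (b (Sum.inl 0)) = 0 := hB _
  have e := T_add0 B hB (p := c • b (Sum.inl 0)) (p' := d • b (Sum.inl 0)) (q := b (Sum.inl 1))
    (by rw [map_smul, LinearMap.smul_apply, h12, smul_zero])
    (by rw [map_smul, LinearMap.smul_apply, h12, smul_zero])
    (by rw [map_smul, map_smul, LinearMap.smul_apply, h11, smul_zero, smul_zero])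
  rw [add_smul, ← e]
  exact X.mul_mem hc hd

theorem long_smul {μ c : F} (hμ : μ ∈ F₀) (hc : c ∈ longSet B hB b X) :
    μ * c ∈ longSet B hB b X := by
  by_cases hμ0 : μ = 0
  · rw [hμ0, zero_mul]
    exact long_rat hB hb hS hSX hXI F₀.zero_mem
  obtain ⟨ν, hν, hνμ⟩ := exists_sqrt_mem F₀ hμ
  have hν0 : ν ≠ 0 := by
    rintro rfl
    rw [mul_zero] at hνμ
    exact hμ0 hνμ.symm
  obtain ⟨h, hh, h1, -, -, -⟩ :=
    Cfsg.Agent.Lib.Helper50_Sp4E_RW2.exists_rat_torus hB hb hS hν hν0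
  have hhX : h ∈ X := hSX hh
  show stv B hB (b (Sum.inl 0)) (μ * c) ∈ X
  have e : h * stv B hB (b (Sum.inl 0)) c * h⁻¹ = stv B hB (b (Sum.inl 0)) (μ * c) := by
    rw [conj_stv B hB hh.2, h1, stv_smul, hνμ]
  rw [← e]
  exact (conj_mem_iff hhX _).2 hc

theorem short_smul {μ c : F} (hμ : μ ∈ F₀) (hc : c ∈ shortSet B hB b X) :
    μ * c ∈ shortSet B hB b X := by
  by_cases hμ0 : μ = 0
  · rw [hμ0, zero_mul]
    exact short_rat hB hb hS hSX hXI F₀.zero_mem
  obtain ⟨h, hh, h1, -, h3, -⟩ :=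
    Cfsg.Agent.Lib.Helper50_Sp4E_RW2.exists_rat_torus hB hb hS hμ hμ0
  have hhX : h ∈ X := hSX hh
  show T B hB ((μ * c) • b (Sum.inl 0)) (b (Sum.inl 1)) ∈ X
  have e : h * T B hB (c • b (Sum.inl 0)) (b (Sum.inl 1)) * h⁻¹ =
      T B hB ((μ * c) • b (Sum.inl 0)) (b (Sum.inl 1)) := by
    rw [conj_T B hB hh.2, map_smul, h1, h3, smul_smul, mul_comm c μ]
  rw [← e]
  exact (conj_mem_iff hhX _).2 hc

theorem long_iff (x : Fin 2 ⊕ Fin 2) (c : F) :
    stv B hB (b x) c ∈ X ↔ c ∈ longSet B hB b X := by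
  obtain ⟨z, hz⟩ : ∃ z : Fin 2 ⊕ Fin 2, pr x ≠ pr z := by
    rcases x with i | i <;> fin_cases i
    · exact ⟨Sum.inl 1, by decide⟩
    · exact ⟨Sum.inl 0, by decide⟩
    · exact ⟨Sum.inl 1, by decide⟩
    · exact ⟨Sum.inl 0, by decide⟩
  obtain ⟨h, hh, h1, -, -, -⟩ :=
    Cfsg.Agent.Lib.Helper50_Sp4E_RW2.exists_rat_perm hB hb hS x z hz
  have hhX : h ∈ X := hSX hh
  have e : h * stv B hB (b (Sum.inl 0)) c * h⁻¹ = stv B hB (b x) c := by
    rw [conj_stv B hB hh.2, h1]
  rw [← e]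
  exact conj_mem_iff hhX _

theorem short_iff (x z : Fin 2 ⊕ Fin 2) (hxz : pr x ≠ pr z) (c : F) :
    T B hB (c • b x) (b z) ∈ X ↔ c ∈ shortSet B hB b X := by
  obtain ⟨h, hh, h1, h2, -, -⟩ :=
    Cfsg.Agent.Lib.Helper50_Sp4E_RW2.exists_rat_perm hB hb hS x z hxz
  have hhX : h ∈ X := hSX hh
  have e : h * T B hB (c • b (Sum.inl 0)) (b (Sum.inl 1)) * h⁻¹ = T B hB (c • b x) (b z) := by
    rw [conj_T B hB hh.2, map_smul, h1, h2]
  rw [← e]
  exact conj_mem_iff hhX _

end Rat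

end Cfsg.Agent.Lib.Helper63_Sp4E_RRA
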