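import Mathlib
import Cfsg.Prelude.Def_LinearParabolics
import Cfsg.Agent.Lib.Helper99_StGLDefs

/-!
StGL-A1 (helper99's S2425 market): the permutations `κ` of `Fin n` with `κ i ≤ i + 1` correspond bijectively to the
subsets `J` of `range (n - 1)` (the cut set `{i < n - 1 | κ i ≠ i + 1}`), the composition `i ↦ 1 + i - κ i` is
`muJ n J` and `sign κ = (-1)^(n - 1 - |J|)`.  helper63.
-/

set_option autoImplicit false
open scoped MatrixGroups

namespace Cfsg.Agent.Lib.Helper63_StGL_A1
open Cfsg.Agent.Lib.Helper99_StGLDefs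

/-- The cut set of a permutation of `Fin n`: the positions `i < n - 1` with `κ i ≠ i + 1`. -/
def cutSet {n : ℕ} (κ : Equiv.Perm (Fin n)) : Finset ℕ :=
  (Finset.range (n - 1)).filter (fun i => ∃ h : i < n, (κ ⟨i, h⟩).val ≠ i + 1)

theorem mem_cutSet {n : ℕ} (κ : Equiv.Perm (Fin n)) (x : Fin n) :
    x.val ∈ cutSet κ ↔ x.val + 1 < n ∧ (κ x).val ≠ x.val + 1 := by
  unfold cutSet
  rw [Finset.mem_filter, Finset.mem_range]
  constructor
  · rintro ⟨h1, h, h2⟩
    exact ⟨by omega, h2⟩
  · rintro ⟨h1, h2⟩
    exact ⟨by omega, x.isLt, h2⟩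

theorem cutSet_subset {n : ℕ} (κ : Equiv.Perm (Fin n)) : cutSet κ ⊆ Finset.range (n - 1) :=
  Finset.filter_subset _ _

/-- A valid permutation with `κ e ≤ e` maps the positions above `e` above `e`. -/
theorem above {n : ℕ} (κ : Equiv.Perm (Fin n)) (hκ : ∀ i : Fin n, (κ i).val ≤ i.val + 1)
    (e : Fin n) (he : (κ e).val ≤ e.val) (x : Fin n) (hx : e.val < x.val) : e.val < (κ x).val := by
  by_contra h
  push Not at h
  have hmaps : ∀ y : Fin n, y.val ≤ e.val → (κ y).val ≤ e.val := by
    intro y hy
    rcases Nat.lt_or_ge y.val e.val with h1 | h1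
    · have := hκ y
      omega
    · have : y = e := Fin.ext (by omega)
      rw [this]; exact he
  have h3 : (κ.symm (κ x)).val ≤ e.val :=
    Equiv.Perm.perm_symm_on_of_perm_on_finite (p := fun y : Fin n => y.val ≤ e.val) hmaps h
  rw [Equiv.symm_apply_apply] at h3
  omega

/-- Key lemma: at a block end a valid permutation takes the value "start of the block". -/
theorem key {n : ℕ} (κ : Equiv.Perm (Fin n)) (hκ : ∀ i : Fin n, (κ i).val ≤ i.val + 1)
    (i : Fin n) (hi : i.val ∈ cutSet κ ∨ i.val + 1 = n) :
    (κ i).val = ((Finset.range i.val).filter (fun j => j ∈ cutSet κ)).sup (fun j => j + 1) := by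
  have hle : (κ i).val ≤ i.val := by
    rcases hi with hi | hi
    · have := (mem_cutSet κ i).1 hi
      have := hκ i
      omega
    · have := (κ i).isLt
      omega
  have hsi : ((Finset.range i.val).filter (fun j => j ∈ cutSet κ)).sup (fun j => j + 1) ≤ i.val := by
    apply Finset.sup_le
    intro j hj
    rw [Finset.mem_filter, Finset.mem_range] at hj
    omega
  have hc : ∀ x : Fin n,
      ((Finset.range i.val).filter (fun j => j ∈ cutSet κ)).sup (fun j => j + 1) ≤ x.val →
        x.val < i.val → (κ x).val = x.val + 1 := by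
    intro x hx1 hx2
    have hxJ : x.val ∉ cutSet κ := by
      intro hxJ
      have : x.val + 1 ≤ ((Finset.range i.val).filter (fun j => j ∈ cutSet κ)).sup (fun j => j + 1) :=
        Finset.le_sup (f := fun j => j + 1) (by
          rw [Finset.mem_filter, Finset.mem_range]; exact ⟨hx2, hxJ⟩)
      omega
    rw [mem_cutSet] at hxJ
    have := i.isLt
    by_contra hne
    exact hxJ ⟨by omega, hne⟩
  have hd : (κ i).val ≤ ((Finset.range i.val).filter (fun j => j ∈ cutSet κ)).sup (fun j => j + 1) := by
    by_contra hlt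
    push Not at hlt
    have h1 : (κ i).val - 1 < n := by have := (κ i).isLt; omega
    have h2 := hc ⟨(κ i).val - 1, h1⟩ (by simp only; omega) (by simp only; omega)
    have h3 : κ ⟨(κ i).val - 1, h1⟩ = κ i := Fin.ext (by rw [h2]; simp only; omega)
    have h4 := κ.injective h3
    have h5 := congrArg Fin.val h4
    simp only at h5
    omega
  have he : ((Finset.range i.val).filter (fun j => j ∈ cutSet κ)).sup (fun j => j + 1) ≤ (κ i).val := by
    rcases Nat.eq_zero_or_pos
      (((Finset.range i.val).filter (fun j => j ∈ cutSet κ)).sup (fun j => j + 1)) with h0 | hpos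
    · omega
    · have hne : ((Finset.range i.val).filter (fun j => j ∈ cutSet κ)).Nonempty := by
        by_contra hemp
        rw [Finset.not_nonempty_iff_eq_empty] at hemp
        rw [hemp] at hpos
        simp at hpos
      obtain ⟨j, hj, hjs⟩ := Finset.exists_mem_eq_sup _ hne (fun j => j + 1)
      rw [Finset.mem_filter, Finset.mem_range] at hj
      have hjn : j < n := by have := i.isLt; omega
      have hj2 := (mem_cutSet κ ⟨j, hjn⟩).1 hj.2
      have hj3 := hκ ⟨j, hjn⟩
      simp only at hj2 hj3
      have h6 := above κ hκ ⟨j, hjn⟩ (by simp only; omega) i (by simp only; omega)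
      simp only at h6
      omega
  omega

theorem comp_eq {n : ℕ} (κ : Equiv.Perm (Fin n)) (hκ : ∀ i : Fin n, (κ i).val ≤ i.val + 1) :
    (fun i : Fin n => 1 + i.val - (κ i).val) = muJ n (cutSet κ) := by
  funext i
  unfold muJ
  split_ifs with h
  · rw [← key κ hκ i h]; omega
  · push Not at h
    have h1 : ¬ (i.val + 1 < n ∧ (κ i).val ≠ i.val + 1) := fun hh => h.1 ((mem_cutSet κ i).2 hh)
    have := i.isLt
    have h2 : (κ i).val = i.val + 1 := by
      by_contra hne
      exact h1 ⟨by omega, hne⟩
    omega

theorem eq_of_cutSet_eq {n : ℕ} (κ κ' : Equiv.Perm (Fin n)) (hκ : ∀ i : Fin n, (κ i).val ≤ i.val + 1)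
    (hκ' : ∀ i : Fin n, (κ' i).val ≤ i.val + 1) (h : cutSet κ = cutSet κ') : κ = κ' := by
  have h1 := comp_eq κ hκ
  have h2 := comp_eq κ' hκ'
  rw [h] at h1
  have h3 := h1.trans h2.symm
  apply Equiv.ext
  intro i
  apply Fin.ext
  have h4 : 1 + i.val - (κ i).val = 1 + i.val - (κ' i).val := congrFun h3 i
  have := hκ i
  have := hκ' i
  omega

/-- The adjacent transposition `(k k+1)` of `Fin n` (the identity when `k + 1 ≥ n`). -/
def adj (n k : ℕ) : Equiv.Perm (Fin n) :=
  if h : k + 1 < n then Equiv.swap ⟨k, by omega⟩ ⟨k + 1, h⟩ else 1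

theorem adj_of_ne (n k : ℕ) (x : Fin n) (h1 : x.val ≠ k) (h2 : x.val ≠ k + 1) : adj n k x = x := by
  unfold adj
  split_ifs with h
  · apply Equiv.swap_apply_of_ne_of_ne
    · intro hx; apply h1; rw [hx]
    · intro hx; apply h2; rw [hx]
  · rfl

theorem adj_of_not_lt (n k : ℕ) (h : ¬ k + 1 < n) : adj n k = 1 := by
  unfold adj
  rw [dif_neg h]

theorem adj_self (n k : ℕ) (x : Fin n) (h : k + 1 < n) (hx : x.val = k) : (adj n k x).val = k + 1 := by
  unfold adj
  rw [dif_pos h]
  have : x = ⟨k, by omega⟩ := Fin.ext hx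
  rw [this, Equiv.swap_apply_left]

theorem adj_succ (n k : ℕ) (x : Fin n) (hx : x.val = k + 1) : (adj n k x).val = k := by
  have h : k + 1 < n := by have := x.isLt; omega
  unfold adj
  rw [dif_pos h]
  have : x = ⟨k + 1, h⟩ := Fin.ext hx
  rw [this, Equiv.swap_apply_right]

theorem sign_adj (n k : ℕ) (h : k + 1 < n) : Equiv.Perm.sign (adj n k) = -1 := by
  unfold adj
  rw [dif_pos h]
  apply Equiv.Perm.sign_swap
  intro hh
  have := congrArg Fin.val hh
  simp at this

/-- Partial products of adjacent transpositions. -/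
def pr (n : ℕ) (D : Finset ℕ) : ℕ → Equiv.Perm (Fin n)
  | 0 => 1
  | k + 1 => pr n D k * (if k ∈ D then adj n k else 1)

theorem pr_succ_apply (n : ℕ) (D : Finset ℕ) (k : ℕ) (x : Fin n) :
    pr n D (k + 1) x = pr n D k ((if k ∈ D then adj n k else 1) x) := rfl

theorem pr_fix (n : ℕ) (D : Finset ℕ) : ∀ (k : ℕ) (x : Fin n), k < x.val → pr n D k x = x := by
  intro k
  induction k with
  | zero => intro x _; rfl
  | succ k ih =>
    intro x hx
    rw [pr_succ_apply]
    have : (if k ∈ D then adj n k else 1) x = x := by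
      split_ifs
      · exact adj_of_ne n k x (by omega) (by omega)
      · rfl
    rw [this]
    exact ih x (by omega)

theorem step_le (n : ℕ) (D : Finset ℕ) (k : ℕ) (x : Fin n) (hx : x.val ≤ k + 1) :
    ((if k ∈ D then adj n k else 1) x).val ≤ k + 1 := by
  split_ifs
  · by_cases h1 : x.val = k
    · by_cases hk : k + 1 < n
      · rw [adj_self n k x hk h1]
      · rw [adj_of_not_lt n k hk]; exact hx
    · by_cases h2 : x.val = k + 1
      · rw [adj_succ n k x h2]; omega
      · rw [adj_of_ne n k x h1 h2]; exact hx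
  · exact hx

theorem pr_le (n : ℕ) (D : Finset ℕ) : ∀ (k : ℕ) (x : Fin n), x.val ≤ k → (pr n D k x).val ≤ k := by
  intro k
  induction k with
  | zero => intro x hx; exact hx
  | succ k ih =>
    intro x hx
    rw [pr_succ_apply]
    have hyle := step_le n D k x hx
    rcases Nat.lt_or_ge k ((if k ∈ D then adj n k else 1) x).val with h | h
    · rw [pr_fix n D k _ h]; exact hyle
    · have := ih _ h; omega

theorem pr_valid (n : ℕ) (D : Finset ℕ) : ∀ (k : ℕ) (x : Fin n), (pr n D k x).val ≤ x.val + 1 := by
  intro k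
  induction k with
  | zero => intro x; show x.val ≤ x.val + 1; omega
  | succ k ih =>
    intro x
    rw [pr_succ_apply]
    by_cases hkD : k ∈ D
    · rw [if_pos hkD]
      by_cases h1 : x.val = k
      · by_cases hk : k + 1 < n
        · have h2 := adj_self n k x hk h1
          rw [pr_fix n D k _ (by omega)]
          omega
        · rw [adj_of_not_lt n k hk]
          exact ih x
      · by_cases h2 : x.val = k + 1
        · have h3 := adj_succ n k x h2
          have := pr_le n D k _ (le_of_eq h3)
          omega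
        · rw [adj_of_ne n k x h1 h2]
          exact ih x
    · rw [if_neg hkD]
      exact ih x

theorem pr_succ_iff (n : ℕ) (D : Finset ℕ) (hD : D ⊆ Finset.range (n - 1)) :
    ∀ (k : ℕ) (x : Fin n), x.val < k → ((pr n D k x).val = x.val + 1 ↔ x.val ∈ D) := by
  intro k
  induction k with
  | zero => intro x hx; omega
  | succ k ih =>
    intro x hx
    rw [pr_succ_apply]
    by_cases h1 : x.val = k
    · by_cases hkD : k ∈ D
      · rw [if_pos hkD]
        have hk : k + 1 < n := by
          have := Finset.mem_range.1 (hD hkD); omega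
        have h2 := adj_self n k x hk h1
        rw [pr_fix n D k _ (by omega)]
        constructor
        · intro _; rw [h1]; exact hkD
        · intro _; omega
      · rw [if_neg hkD]
        have := pr_le n D k x (by omega)
        constructor
        · intro h
          exfalso
          have h3 : (pr n D k ((1 : Equiv.Perm (Fin n)) x)).val = (pr n D k x).val := rfl
          omega
        · intro h; rw [h1] at h; exact absurd h hkD
    · have h2 : x.val ≠ k + 1 := by omega
      have : (if k ∈ D then adj n k else 1) x = x := by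
        split_ifs
        · exact adj_of_ne n k x h1 h2
        · rfl
      rw [this]
      exact ih x (by omega)

theorem sign_pr (n : ℕ) (D : Finset ℕ) (hD : D ⊆ Finset.range (n - 1)) :
    ∀ k : ℕ, Equiv.Perm.sign (pr n D k) = (-1) ^ (D.filter (fun j => j < k)).card := by
  intro k
  induction k with
  | zero => simp [pr]
  | succ k ih =>
    show Equiv.Perm.sign (pr n D k * (if k ∈ D then adj n k else 1)) = _
    rw [Equiv.Perm.sign_mul, ih]
    by_cases hkD : k ∈ D
    · rw [if_pos hkD]
      have hk : k + 1 < n := by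
        have := Finset.mem_range.1 (hD hkD); omega
      rw [sign_adj n k hk]
      have : D.filter (fun j => j < k + 1) = insert k (D.filter (fun j => j < k)) := by
        ext j
        simp only [Finset.mem_filter, Finset.mem_insert]
        constructor
        · rintro ⟨h1, h2⟩
          by_cases hjk : j = k
          · left; exact hjk
          · right; exact ⟨h1, by omega⟩
        · rintro (h | ⟨h1, h2⟩)
          · subst h; exact ⟨hkD, by omega⟩
          · exact ⟨h1, by omega⟩
      rw [this, Finset.card_insert_of_notMem (by simp), pow_succ]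
    · rw [if_neg hkD]
      have : D.filter (fun j => j < k + 1) = D.filter (fun j => j < k) := by
        ext j
        simp only [Finset.mem_filter]
        constructor
        · rintro ⟨h1, h2⟩
          have : j ≠ k := fun h => hkD (h ▸ h1)
          exact ⟨h1, by omega⟩
        · rintro ⟨h1, h2⟩
          exact ⟨h1, by omega⟩
      rw [this]; simp

/-- The valid permutation with cut set `J`. -/
def kap (n : ℕ) (J : Finset ℕ) : Equiv.Perm (Fin n) := pr n (Finset.range (n - 1) \ J) (n - 1)

theorem kap_valid (n : ℕ) (J : Finset ℕ) (i : Fin n) : (kap n J i).val ≤ i.val + 1 :=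
  pr_valid _ _ _ i

theorem cutSet_kap (n : ℕ) (J : Finset ℕ) (hJ : J ⊆ Finset.range (n - 1)) : cutSet (kap n J) = J := by
  ext i
  constructor
  · intro hi
    have hi1 : i < n - 1 := Finset.mem_range.1 (cutSet_subset _ hi)
    have hin : i < n := by omega
    have h1 := (mem_cutSet (kap n J) ⟨i, hin⟩).1 hi
    have h2 := pr_succ_iff n (Finset.range (n - 1) \ J) Finset.sdiff_subset (n - 1) ⟨i, hin⟩ hi1
    by_contra hiJ
    apply h1.2
    apply h2.2
    rw [Finset.mem_sdiff, Finset.mem_range]; exact ⟨hi1, hiJ⟩
  · intro hi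
    have hi1 : i < n - 1 := Finset.mem_range.1 (hJ hi)
    have hin : i < n := by omega
    apply (mem_cutSet (kap n J) ⟨i, hin⟩).2
    refine ⟨by simp only; omega, ?_⟩
    intro h
    have h2 := pr_succ_iff n (Finset.range (n - 1) \ J) Finset.sdiff_subset (n - 1) ⟨i, hin⟩ hi1
    have := h2.1 h
    rw [Finset.mem_sdiff] at this
    exact this.2 hi

theorem sign_kap (n : ℕ) (J : Finset ℕ) (hJ : J ⊆ Finset.range (n - 1)) :
    Equiv.Perm.sign (kap n J) = (-1) ^ (n - 1 - J.card) := by
  unfold kap
  rw [sign_pr n _ Finset.sdiff_subset]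
  have : (Finset.range (n - 1) \ J).filter (fun j => j < n - 1) = Finset.range (n - 1) \ J := by
    apply Finset.filter_true_of_mem
    intro j hj
    exact Finset.mem_range.1 (Finset.mem_sdiff.1 hj).1
  rw [this, Finset.card_sdiff_of_subset hJ, Finset.card_range]

variable {F : Type*} [Field F]

/-- PKG A1. -/
theorem A1 (n : ℕ) (g : GL (Fin n) F) :
    Cfsg.unipotentCharacterGL n F (fun _ => 1) g =
      ∑ J ∈ (Finset.range (n - 1)).powerset,
        ((-1 : ℂ) ^ (n - 1 - J.card)) * Cfsg.fixedPointCharacter (Cfsg.parabolicGL n F (muJ n J)) g := by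
  classical
  unfold Cfsg.unipotentCharacterGL
  rw [← Finset.sum_filter]
  apply Finset.sum_bij' (fun κ _ => cutSet κ) (fun J _ => kap n J)
  · intro κ hκ
    exact Finset.mem_powerset.2 (cutSet_subset κ)
  · intro J hJ
    rw [Finset.mem_filter]
    refine ⟨Finset.mem_univ _, fun i => ?_⟩
    have := kap_valid n J i
    show (kap n J i).val ≤ 1 + i.val
    omega
  · intro κ hκ
    rw [Finset.mem_filter] at hκ
    have hv : ∀ i : Fin n, (κ i).val ≤ i.val + 1 := fun i => by
      have h0 : (κ i).val ≤ 1 + i.val := hκ.2 i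
      omega
    exact eq_of_cutSet_eq _ _ (kap_valid n _) hv (cutSet_kap n _ (cutSet_subset κ))
  · intro J hJ
    exact cutSet_kap n J (Finset.mem_powerset.1 hJ)
  · intro κ hκ
    rw [Finset.mem_filter] at hκ
    have hv : ∀ i : Fin n, (κ i).val ≤ i.val + 1 := fun i => by
      have h0 : (κ i).val ≤ 1 + i.val := hκ.2 i
      omega
    have hk : kap n (cutSet κ) = κ :=
      eq_of_cutSet_eq _ _ (kap_valid n _) hv (cutSet_kap n _ (cutSet_subset κ))
    have hs : Equiv.Perm.sign κ = (-1) ^ (n - 1 - (cutSet κ).card) := by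
      rw [← sign_kap n _ (cutSet_subset κ), hk]
    rw [comp_eq κ hv, hs]
    congr 1
    push_cast
    rfl

end Cfsg.Agent.Lib.Helper63_StGL_A1
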