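import Mathlib
import Cfsg.Agent.Lib.Helper75_TZDefs
import Cfsg.Agent.Lib.Helper63_TZ_SRES
import Cfsg.Agent.Lib.Helper27_TZ_S2

/-!
# S2524 market (architect helper75), package S-RES, last theorem: `wsp_of_res` (uses the package S2 `xb_fix`)
-/

set_option autoImplicit false
set_option linter.unusedSectionVars false

namespace Cfsg.Agent.Lib.Helper75_TZ

open Matrix Module
open Cfsg.Agent.Lib.Helper5_SpPerfect Cfsg.Agent.Lib.Helper81_SpWeights
  Cfsg.Agent.Lib.Helper81_JointEigen Cfsg.Agent.Lib.Helper81_Heis Cfsg.Agent.Lib.Helper81_WeilLin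
  Cfsg.Agent.Lib.Helper81_Schrodinger

section S2

variable {F : Type*} [Field F] [Fintype F] [DecidableEq F] {m : ℕ} {K : Type*} [Field K]
  [IsAlgClosed K] [CharZero K] {M : Type*} [AddCommGroup M] [Module K M] [FiniteDimensional K M]

theorem wsp_of_res (ψ₀ : AddChar F K) (hψ₀ : ψ₀ ≠ 1) (hodd : Odd (Fintype.card F))
    (R : SpG (m + 1) F →* Module.End K M) (hrk : RankLeOne R ψ₀) (T₂ : symSub m F) (v : M)
    (hv0 : v ∈ zsp R ψ₀ 0) (hv : v ∈ wsp (R.comp emb) ψ₀ T₂) : v ∈ wsp R ψ₀ (emS T₂) :=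
  SRESaux.wsp_of_res_of ψ₀ R T₂ v (fun b => xb_fix ψ₀ hψ₀ hodd R hrk v hv0 b) hv0 hv

end S2

end Cfsg.Agent.Lib.Helper75_TZ
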