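import Mathlib
import Cfsg.Agent.Lib.Helper1_Hall
import Cfsg.Agent.Lib.Helper1_Cores
import Cfsg.Agent.Lib.Helper55_Fitting

/-!
# Thompson's theorem on solvable groups with one class of involutions, part A (helper63, S3797)

`H` finite solvable, all involutions conjugate.

* `sqSub`: the subgroup of all `x` with `x ^ 2 = 1` (when these commute pairwise).
* `exists_fixed_invol`: a `2`-subgroup fixes a non-identity element of a nontrivial normal
  `2`-subgroup.
* `sylow_le_centralizer`: if a normal subgroup `V` consists of ALL `x` with `x ^ 2 = 1` then a Sylow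
  `2`-subgroup centralizes `V`.
* `sq_mem_center_pCore`: if `O_{2'}(H) = 1` every `x` with `x ^ 2 = 1` lies in `Z(O_2(H))`.
* `invol_central`: if `O_{2'}(H) = 1` all involutions are centralized by every Sylow `2`-subgroup.
-/

set_option autoImplicit false
set_option linter.style.haveILetI false
set_option linter.unusedSectionVars false
open Cfsg

namespace Cfsg.Agent.Lib.Helper63_ThomA

open Cfsg.Agent.Lib.Helper1_Cores

section
variable {H : Type*} [Group H]

/-- the subgroup of all elements with `x ^ 2 = 1`, when they commute pairwise -/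
def sqSub (hc : ∀ x y : H, x ^ 2 = 1 → y ^ 2 = 1 → x * y = y * x) : Subgroup H where
  carrier := {x | x ^ 2 = 1}
  one_mem' := one_pow 2
  mul_mem' := fun {a b} ha hb => by
    have ha' : a ^ 2 = 1 := ha
    have hb' : b ^ 2 = 1 := hb
    have h := hc a b ha' hb'
    show (a * b) ^ 2 = 1
    calc (a * b) ^ 2 = a * (b * a) * b := by rw [pow_two]; group
      _ = a * (a * b) * b := by rw [h]
      _ = a ^ 2 * b ^ 2 := by rw [pow_two, pow_two]; group
      _ = 1 := by rw [ha', hb', one_mul]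
  inv_mem' := fun {a} ha => by
    have ha' : a ^ 2 = 1 := ha
    show (a⁻¹) ^ 2 = 1
    rw [inv_pow, ha', inv_one]

theorem mem_sqSub (hc : ∀ x y : H, x ^ 2 = 1 → y ^ 2 = 1 → x * y = y * x) (x : H) :
    x ∈ sqSub hc ↔ x ^ 2 = 1 := Iff.rfl

instance sqSub_normal (hc : ∀ x y : H, x ^ 2 = 1 → y ^ 2 = 1 → x * y = y * x) :
    (sqSub hc).Normal := ⟨fun n hn g => by
  have hn' : n ^ 2 = 1 := hn
  show (g * n * g⁻¹) ^ 2 = 1
  rw [conj_pow, hn', mul_one, mul_inv_cancel]⟩

/-- a normal subgroup fixing one involution centralizes all its conjugates -/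
theorem le_centralizer_of_fix (V : Subgroup H) (hV : ∀ x, x ∈ V → x ^ 2 = 1)
    (hconj : ∀ x y : H, x ≠ 1 → x ^ 2 = 1 → y ≠ 1 → y ^ 2 = 1 → IsConj x y)
    (T : Subgroup H) [hT : T.Normal] (i : H) (hi1 : i ≠ 1) (hi2 : i ^ 2 = 1)
    (hfix : ∀ t ∈ T, t * i = i * t) : T ≤ Subgroup.centralizer (V : Set H) := by
  intro t ht
  rw [Subgroup.mem_centralizer_iff]
  intro v hv
  by_cases hv1 : v = 1
  · rw [hv1, one_mul, mul_one]
  obtain ⟨g, hg⟩ := isConj_iff.mp (hconj i v hi1 hi2 hv1 (hV v hv))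
  have h1 : g⁻¹ * t * g ∈ T := by
    have := hT.conj_mem t ht g⁻¹
    rwa [inv_inv] at this
  have h2 := hfix _ h1
  rw [← hg]
  calc g * i * g⁻¹ * t = g * (i * (g⁻¹ * t * g)) * g⁻¹ := by group
    _ = g * ((g⁻¹ * t * g) * i) * g⁻¹ := by rw [h2]
    _ = t * (g * i * g⁻¹) := by group

end

section
variable {H : Type*} [Group H] [Finite H]

/-- a `2`-subgroup acting on a nontrivial normal `2`-subgroup has a non-identity fixed point -/
theorem exists_fixed_invol (Y V : Subgroup H) [hVn : V.Normal] (hY : IsPGroup 2 Y)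
    (hV : IsPGroup 2 V) (hV1 : V ≠ ⊥) :
    ∃ i ∈ V, i ≠ 1 ∧ ∀ y ∈ Y, y * i = i * y := by
  classical
  haveI : Fact (Nat.Prime 2) := ⟨Nat.prime_two⟩
  letI act : MulAction Y V :=
    MulAction.compHom V ((MulAut.conjNormal (H := V)).comp Y.subtype)
  have hsm : ∀ (y : Y) (v : V), ((y • v : V) : H) = (y : H) * (v : H) * (y : H)⁻¹ := by
    intro y v
    rfl
  have hdvd : 2 ∣ Nat.card V := by
    haveI : Nontrivial V := (Subgroup.nontrivial_iff_ne_bot V).mpr hV1
    obtain ⟨n, hn0, hn⟩ := hV.nontrivial_iff_card.mp this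
    rw [hn]; exact dvd_pow_self 2 hn0.ne'
  have h1 : (1 : V) ∈ MulAction.fixedPoints Y V := by
    intro y
    apply Subtype.ext
    rw [hsm]
    simp
  obtain ⟨b, hb, hb1⟩ := hY.exists_fixed_point_of_prime_dvd_card_of_fixed_point V hdvd h1
  refine ⟨b.1, b.2, ?_, ?_⟩
  · intro h
    exact hb1 (Subtype.ext h.symm)
  · intro y hy
    have := hb ⟨y, hy⟩
    have h2 := congrArg Subtype.val this
    rw [hsm] at h2
    calc y * b.1 = y * b.1 * y⁻¹ * y := by group
      _ = b.1 * y := by rw [h2]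

end

section
variable {H : Type*} [Group H] [Finite H]

/-- a Sylow `2`-subgroup lies in every normal subgroup of odd index -/
theorem sylow_le_of_odd_index (C : Subgroup H) [C.Normal] (hodd : ¬ 2 ∣ C.index)
    (T : Sylow 2 H) : (T : Subgroup H) ≤ C := by
  haveI : Fact (Nat.Prime 2) := ⟨Nat.prime_two⟩
  intro s hs
  have h1 : orderOf (QuotientGroup.mk' C s) ∣ C.index := by
    rw [Subgroup.index_eq_card]; exact orderOf_dvd_natCard _
  obtain ⟨k, hk⟩ := (IsPGroup.iff_orderOf.mp T.isPGroup') ⟨s, hs⟩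
  have hk' : orderOf s = 2 ^ k := by rw [← hk, Subgroup.orderOf_mk]
  have h2 : orderOf (QuotientGroup.mk' C s) ∣ 2 ^ k := by
    rw [← hk']; exact orderOf_map_dvd _ s
  have hcop : Nat.Coprime C.index (2 ^ k) :=
    Nat.Coprime.pow_right k ((Nat.Prime.coprime_iff_not_dvd Nat.prime_two).mpr hodd).symm
  have h3 : orderOf (QuotientGroup.mk' C s) = 1 := Nat.eq_one_of_dvd_coprimes hcop h1 h2
  exact (QuotientGroup.eq_one_iff s).mp (orderOf_eq_one_iff.mp h3)

/-- **Key step.** If the normal subgroup `V` consists of all `x` with `x ^ 2 = 1` and all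
involutions are conjugate, then (in a solvable group) `C_H(V)` has odd index. -/
theorem odd_index_centralizer [hsol : Group.IsSolvable H]
    (V : Subgroup H) [hVn : V.Normal] (hV : ∀ x, x ∈ V ↔ x ^ 2 = 1)
    (hconj : ∀ x y : H, x ≠ 1 → x ^ 2 = 1 → y ≠ 1 → y ^ 2 = 1 → IsConj x y) :
    ¬ 2 ∣ (Subgroup.centralizer (V : Set H)).index := by
  classical
  haveI : Fact (Nat.Prime 2) := ⟨Nat.prime_two⟩
  set C := Subgroup.centralizer (V : Set H) with hC
  haveI hCn : C.Normal := by rw [hC]; infer_instance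
  by_cases hCtop : C = ⊤
  · rw [hCtop, Subgroup.index_top]; norm_num
  haveI : Nontrivial (H ⧸ C) := QuotientGroup.nontrivial_iff.mpr hCtop
  obtain ⟨M, r, hMn, hMne, -, hr, hMr⟩ :=
    Cfsg.Agent.Lib.Helper1_Hall.exists_normal_abelian_pSubgroup (Q := H ⧸ C) inferInstance
  haveI : Fact r.Prime := ⟨hr⟩
  have hπ : Function.Surjective (QuotientGroup.mk' C) := QuotientGroup.mk'_surjective C
  set T₀ : Subgroup H := M.comap (QuotientGroup.mk' C) with hT₀
  haveI hT₀n : T₀.Normal := hMn.comap _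
  have hCT₀ : C ≤ T₀ := by
    intro c hc
    show QuotientGroup.mk' C c ∈ M
    have h1 : QuotientGroup.mk' C c = 1 := (QuotientGroup.eq_one_iff c).mpr hc
    rw [h1]; exact M.one_mem
  have hT₀C : ¬ T₀ ≤ C := by
    intro hle
    apply hMne
    rw [eq_bot_iff]
    intro m hm
    obtain ⟨g, rfl⟩ := hπ m
    have : g ∈ C := hle hm
    rw [Subgroup.mem_bot]; exact (QuotientGroup.eq_one_iff g).mpr this
  have hVsq : ∀ x, x ∈ V → x ^ 2 = 1 := fun x hx => (hV x).mp hx
  -- no involution is centralized by `T₀`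
  have key : ∀ i : H, i ≠ 1 → i ^ 2 = 1 → ¬ (T₀ ≤ Subgroup.centralizer {i}) := by
    intro i hi1 hi2 hle
    apply hT₀C
    refine le_centralizer_of_fix V hVsq hconj T₀ i hi1 hi2 ?_
    intro t ht
    have := hle ht
    rw [Subgroup.mem_centralizer_iff] at this
    exact (this i rfl).symm
  have hCi : ∀ i : H, i ^ 2 = 1 → C ≤ Subgroup.centralizer {i} := by
    intro i hi2 c hc
    rw [Subgroup.mem_centralizer_iff]
    intro h hh
    rw [Set.mem_singleton_iff.mp hh]
    have hc' := Subgroup.mem_centralizer_iff.mp hc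
    exact hc' i ((hV i).mpr hi2)
  -- `|T₀ : C|` is a power of `r`
  have hrel : ∃ k, C.relIndex T₀ = r ^ k := by
    obtain ⟨k, hk⟩ := IsPGroup.iff_card.mp hMr
    refine ⟨k, ?_⟩
    have h1 : C = (⊥ : Subgroup (H ⧸ C)).comap (QuotientGroup.mk' C) := by
      rw [MonoidHom.comap_bot, QuotientGroup.ker_mk']
    calc C.relIndex T₀
        = ((⊥ : Subgroup (H ⧸ C)).comap (QuotientGroup.mk' C)).relIndex T₀ := by rw [← h1]
      _ = (⊥ : Subgroup (H ⧸ C)).relIndex (T₀.map (QuotientGroup.mk' C)) :=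
          Subgroup.relIndex_comap _ _ _
      _ = Nat.card M := by
          rw [hT₀, Subgroup.map_comap_eq_self_of_surjective hπ, Subgroup.relIndex_bot_left]
      _ = r ^ k := hk
  -- a Sylow `r`-subgroup of `T₀`
  obtain ⟨Y⟩ : Nonempty (Sylow r T₀) := inferInstance
  set Y' : Subgroup H := (Y : Subgroup T₀).map T₀.subtype with hY'
  have hY'T₀ : Y' ≤ T₀ := Subgroup.map_subtype_le _
  have hY'r : IsPGroup r Y' := Y.isPGroup'.map _
  have hsup : T₀ ≤ Y' ⊔ C := by
    have hle : Y' ⊔ C ≤ T₀ := sup_le hY'T₀ hCT₀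
    have d1 : (Y' ⊔ C).relIndex T₀ ∣ Y'.relIndex T₀ :=
      Subgroup.relIndex_dvd_of_le_left T₀ le_sup_left
    have d2 : (Y' ⊔ C).relIndex T₀ ∣ C.relIndex T₀ :=
      Subgroup.relIndex_dvd_of_le_left T₀ le_sup_right
    have e1 : Y'.relIndex T₀ = (Y : Subgroup T₀).index := by
      rw [Subgroup.relIndex, hY']
      congr 1
      exact Subgroup.comap_map_eq_self_of_injective (Subgroup.subtype_injective _) _
    obtain ⟨k, hk⟩ := hrel
    have hnd : ¬ r ∣ Y'.relIndex T₀ := by rw [e1]; exact Y.not_dvd_index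
    have hcop : Nat.Coprime (Y'.relIndex T₀) (C.relIndex T₀) := by
      rw [hk]
      exact Nat.Coprime.pow_right k ((Nat.Prime.coprime_iff_not_dvd hr).mpr hnd).symm
    have h1 : (Y' ⊔ C).relIndex T₀ = 1 := Nat.eq_one_of_dvd_coprimes hcop d1 d2
    exact Subgroup.relIndex_eq_one.mp h1
  have key2 : ∀ i : H, i ≠ 1 → i ^ 2 = 1 → ¬ (Y' ≤ Subgroup.centralizer {i}) :=
    fun i hi1 hi2 hYi => key i hi1 hi2 (hsup.trans (sup_le hYi (hCi i hi2)))
  have hVne : V ≠ ⊥ := by
    intro hVb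
    apply hCtop
    rw [hC, hVb]
    simp
  have hV2 : IsPGroup 2 V := by
    intro v
    refine ⟨1, ?_⟩
    apply Subtype.ext
    rw [pow_one]
    simpa using hVsq v.1 v.2
  by_cases hr2 : r = 2
  · exfalso
    have hY'2 : IsPGroup 2 Y' := hr2 ▸ hY'r
    obtain ⟨i, hiV, hi1, hfix⟩ := exists_fixed_invol Y' V hY'2 hV2 hVne
    apply key2 i hi1 (hVsq i hiV)
    intro y hy
    rw [Subgroup.mem_centralizer_iff]
    rintro _ rfl
    exact (hfix y hy).symm
  · -- `r` odd: the normalizer of `Y'` has odd order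
    have hrcop : Nat.Coprime r 2 := (Nat.coprime_primes hr Nat.prime_two).mpr hr2
    have hNodd : ¬ 2 ∣ Nat.card (Subgroup.normalizer (Y' : Set H)) := by
      intro h2
      obtain ⟨i, hi⟩ := exists_prime_orderOf_dvd_card' 2 h2
      have hi' : orderOf (i : H) = 2 := by rw [Subgroup.orderOf_coe]; exact hi
      have hi2 : (i : H) ^ 2 = 1 := by rw [← hi']; exact pow_orderOf_eq_one _
      have hi1 : (i : H) ≠ 1 := by
        intro h
        rw [h, orderOf_one] at hi'
        norm_num at hi'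
      apply key2 (i : H) hi1 hi2
      intro y hy
      rw [Subgroup.mem_centralizer_iff]
      rintro _ rfl
      -- the commutator lies in `Y' ⊓ V`
      have hiN := i.2
      have h3 : (i : H) * y * (i : H)⁻¹ ∈ Y' :=
        (Subgroup.mem_normalizer_iff.mp hiN y).mp hy
      have h4 : (i : H) * y * (i : H)⁻¹ * y⁻¹ ∈ Y' := Y'.mul_mem h3 (Y'.inv_mem hy)
      have hiV : (i : H) ∈ V := (hV _).mpr hi2
      have h5 : (i : H) * y * (i : H)⁻¹ * y⁻¹ ∈ V := by
        have h6 : y * (i : H)⁻¹ * y⁻¹ ∈ V := hVn.conj_mem _ (V.inv_mem hiV) y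
        have e : (i : H) * y * (i : H)⁻¹ * y⁻¹ = (i : H) * (y * (i : H)⁻¹ * y⁻¹) := by group
        rw [e]; exact V.mul_mem hiV h6
      have h7 : (i : H) * y * (i : H)⁻¹ * y⁻¹ = 1 := by
        obtain ⟨j, hj⟩ := (IsPGroup.iff_orderOf.mp hY'r) ⟨_, h4⟩
        rw [Subgroup.orderOf_mk] at hj
        have d1 : orderOf ((i : H) * y * (i : H)⁻¹ * y⁻¹) ∣ 2 :=
          orderOf_dvd_of_pow_eq_one (hVsq _ h5)
        have d2 : orderOf ((i : H) * y * (i : H)⁻¹ * y⁻¹) ∣ r ^ j := by rw [hj]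
        have := Nat.eq_one_of_dvd_coprimes (Nat.Coprime.pow_left j hrcop) d2 d1
        exact orderOf_eq_one_iff.mp this
      calc (i : H) * y = (i : H) * y * (i : H)⁻¹ * y⁻¹ * (y * i) := by group
        _ = y * i := by rw [h7, one_mul]
    have hfr := Sylow.normalizer_sup_eq_top Y
    have hT₀idx : ¬ 2 ∣ T₀.index := by
      have e1 : T₀.index = T₀.relIndex (Subgroup.normalizer (Y' : Set H)) := by
        rw [← Subgroup.relIndex_top_right, ← hfr, Subgroup.relIndex_sup_right]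
      rw [e1]
      exact fun h => hNodd (h.trans (Subgroup.relIndex_dvd_card _ _))
    obtain ⟨k, hk⟩ := hrel
    have e2 : C.index = C.relIndex T₀ * T₀.index := (Subgroup.relIndex_mul_index hCT₀).symm
    rw [e2, hk]
    intro h
    rcases (Nat.Prime.dvd_mul Nat.prime_two).mp h with h | h
    · have := (Nat.Prime.dvd_of_dvd_pow Nat.prime_two h)
      exact hr2 ((Nat.prime_dvd_prime_iff_eq Nat.prime_two hr).mp this).symm
    · exact hT₀idx h

/-- a Sylow `2`-subgroup centralizes `V` -/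
theorem sylow_le_centralizer [hsol : Group.IsSolvable H]
    (V : Subgroup H) [hVn : V.Normal] (hV : ∀ x, x ∈ V ↔ x ^ 2 = 1)
    (hconj : ∀ x y : H, x ≠ 1 → x ^ 2 = 1 → y ≠ 1 → y ^ 2 = 1 → IsConj x y)
    (T : Sylow 2 H) : (T : Subgroup H) ≤ Subgroup.centralizer (V : Set H) :=
  sylow_le_of_odd_index _ (odd_index_centralizer V hV hconj) T

end

section
variable {H : Type*} [Group H] [Finite H]

/-- if `O_{2'}(H) = 1` every `x` with `x ^ 2 = 1` lies in `Z(O_2(H))` -/
theorem sq_mem_center_pCore [hsol : Group.IsSolvable H] (hO : pPrimeCore 2 H = ⊥)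
    (hconj : ∀ x y : H, x ≠ 1 → x ^ 2 = 1 → y ≠ 1 → y ^ 2 = 1 → IsConj x y)
    (x : H) (hx : x ^ 2 = 1) :
    x ∈ (Subgroup.center (pCore 2 H)).map (pCore 2 H).subtype := by
  classical
  haveI : Fact (Nat.Prime 2) := ⟨Nat.prime_two⟩
  by_cases hx1 : x = 1
  · rw [hx1]; exact Subgroup.one_mem _
  set P := pCore 2 H with hP
  have hC : Subgroup.centralizer (P : Set H) ≤ P :=
    Cfsg.Agent.Lib.Helper55_Fitting.centralizer_pCore_le 2 hO
  have hPne : P ≠ ⊥ := by
    intro hPb
    have h1 : x ∈ Subgroup.centralizer (P : Set H) := by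
      rw [Subgroup.mem_centralizer_iff]
      intro h hh
      rw [hPb] at hh
      have : h = 1 := by simpa using hh
      rw [this, one_mul, mul_one]
    have h2 := hC h1
    rw [hPb, Subgroup.mem_bot] at h2
    exact hx1 h2
  haveI : Nontrivial P := (Subgroup.nontrivial_iff_ne_bot P).mpr hPne
  have hPp : IsPGroup 2 P := pCore_isPGroup 2
  have hZ : Nontrivial (Subgroup.center P) := hPp.center_nontrivial
  have h2 : 2 ∣ Nat.card (Subgroup.center P) := by
    obtain ⟨n, hn0, hn⟩ := (hPp.to_subgroup (Subgroup.center P)).nontrivial_iff_card.mp hZ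
    rw [hn]; exact dvd_pow_self 2 hn0.ne'
  obtain ⟨z, hz⟩ := exists_prime_orderOf_dvd_card' 2 h2
  have hz' : orderOf (((z : P) : H)) = 2 := by
    rw [Subgroup.orderOf_coe, Subgroup.orderOf_coe]; exact hz
  have hz2 : (((z : P) : H)) ^ 2 = 1 := by rw [← hz']; exact pow_orderOf_eq_one _
  have hz1 : (((z : P) : H)) ≠ 1 := by
    intro h
    rw [h, orderOf_one] at hz'
    norm_num at hz'
  have hZn : ((Subgroup.center P).map P.subtype).Normal := inferInstance
  have hzZ : ((z : P) : H) ∈ (Subgroup.center P).map P.subtype := ⟨(z : P), z.2, rfl⟩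
  obtain ⟨c, hc⟩ := isConj_iff.mp (hconj _ x hz1 hz2 hx1 hx)
  rw [← hc]
  exact hZn.conj_mem _ hzZ c

/-- if `O_{2'}(H) = 1` any two `x` with `x ^ 2 = 1` commute -/
theorem sq_comm [hsol : Group.IsSolvable H] (hO : pPrimeCore 2 H = ⊥)
    (hconj : ∀ x y : H, x ≠ 1 → x ^ 2 = 1 → y ≠ 1 → y ^ 2 = 1 → IsConj x y)
    (x y : H) (hx : x ^ 2 = 1) (hy : y ^ 2 = 1) : x * y = y * x := by
  obtain ⟨a, ha, rfl⟩ := sq_mem_center_pCore hO hconj x hx
  obtain ⟨b, hb, rfl⟩ := sq_mem_center_pCore hO hconj y hy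
  have := Subgroup.mem_center_iff.mp hb a
  have h2 := congrArg (pCore 2 H).subtype this
  simpa using h2

/-- if `O_{2'}(H) = 1` every Sylow `2`-subgroup centralizes every `x` with `x ^ 2 = 1` -/
theorem invol_central [hsol : Group.IsSolvable H] (hO : pPrimeCore 2 H = ⊥)
    (hconj : ∀ x y : H, x ≠ 1 → x ^ 2 = 1 → y ≠ 1 → y ^ 2 = 1 → IsConj x y)
    (T : Sylow 2 H) (s : H) (hs : s ∈ T) (x : H) (hx : x ^ 2 = 1) : s * x = x * s := by
  have h := sylow_le_centralizer (sqSub (sq_comm hO hconj)) (fun _ => Iff.rfl) hconj T hs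
  rw [Subgroup.mem_centralizer_iff] at h
  exact (h x hx).symm

end

end Cfsg.Agent.Lib.Helper63_ThomA
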