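import Mathlib
import Cfsg.Agent.Lib.Helper63_ThomA
import Cfsg.Agent.Lib.Helper1_Frattini
import Cfsg.Agent.S0029

/-!
# Thompson's theorem on solvable groups with one class of involutions, part B (helper63, S3797)

`H` finite solvable with `O_{2'}(H) = 1`, all involutions conjugate, `T` a Sylow `2`-subgroup which is
abelian or all of whose commutators square to `1`: then `T = O_2(H)` (`sylow_le_pCore`).
-/

set_option autoImplicit false
set_option linter.style.haveILetI false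
set_option linter.unusedSectionVars false
open Cfsg

namespace Cfsg.Agent.Lib.Helper63_ThomB

open Cfsg.Agent.Lib.Helper1_Cores Cfsg.Agent.Lib.Helper63_ThomA

section
variable {H : Type*} [Group H]

/-- the elements acting trivially on `P` modulo the normal subgroup `Φ` -/
def comK (P Φ : Subgroup H) [hΦ : Φ.Normal] : Subgroup H where
  carrier := {g | ∀ x ∈ P, g * x * g⁻¹ * x⁻¹ ∈ Φ}
  one_mem' := by
    intro x _
    have : (1 : H) * x * 1⁻¹ * x⁻¹ = 1 := by group
    rw [this]; exact Φ.one_mem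
  mul_mem' := fun {g h} hg hh => by
    intro x hx
    have e : g * h * x * (g * h)⁻¹ * x⁻¹ = g * (h * x * h⁻¹ * x⁻¹) * g⁻¹ * (g * x * g⁻¹ * x⁻¹) := by
      group
    rw [e]
    exact Φ.mul_mem (hΦ.conj_mem _ (hh x hx) g) (hg x hx)
  inv_mem' := fun {g} hg => by
    intro x hx
    have e : g⁻¹ * x * g⁻¹⁻¹ * x⁻¹ = g⁻¹ * (g * x * g⁻¹ * x⁻¹)⁻¹ * g⁻¹⁻¹ := by group
    rw [e]
    exact hΦ.conj_mem _ (Φ.inv_mem (hg x hx)) g⁻¹

theorem mem_comK (P Φ : Subgroup H) [hΦ : Φ.Normal] (g : H) :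
    g ∈ comK P Φ ↔ ∀ x ∈ P, g * x * g⁻¹ * x⁻¹ ∈ Φ := Iff.rfl

instance comK_normal (P Φ : Subgroup H) [hP : P.Normal] [hΦ : Φ.Normal] : (comK P Φ).Normal :=
  ⟨fun n hn g => by
    intro x hx
    have hx' : g⁻¹ * x * g ∈ P := by
      have := hP.conj_mem x hx g⁻¹
      rwa [inv_inv] at this
    have e : g * n * g⁻¹ * x * (g * n * g⁻¹)⁻¹ * x⁻¹
        = g * (n * (g⁻¹ * x * g) * n⁻¹ * (g⁻¹ * x * g)⁻¹) * g⁻¹ := by group
    rw [e]
    exact hΦ.conj_mem _ (hn _ hx') g⟩

end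

section
variable {H : Type*} [Group H] [Finite H]

/-- a nontrivial normal `2`-subgroup contains every `x` with `x ^ 2 = 1` -/
theorem sq_mem_of_normal_two (N : Subgroup H) [hNn : N.Normal] (hN : IsPGroup 2 N) (hN1 : N ≠ ⊥)
    (hconj : ∀ x y : H, x ≠ 1 → x ^ 2 = 1 → y ≠ 1 → y ^ 2 = 1 → IsConj x y)
    (x : H) (hx : x ^ 2 = 1) : x ∈ N := by
  classical
  haveI : Fact (Nat.Prime 2) := ⟨Nat.prime_two⟩
  by_cases hx1 : x = 1
  · rw [hx1]; exact N.one_mem
  haveI : Nontrivial N := (Subgroup.nontrivial_iff_ne_bot N).mpr hN1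
  have h2 : 2 ∣ Nat.card N := by
    obtain ⟨n, hn0, hn⟩ := hN.nontrivial_iff_card.mp this
    rw [hn]; exact dvd_pow_self 2 hn0.ne'
  obtain ⟨z, hz⟩ := exists_prime_orderOf_dvd_card' 2 h2
  have hz' : orderOf (z : H) = 2 := by rw [Subgroup.orderOf_coe]; exact hz
  have hz2 : (z : H) ^ 2 = 1 := by rw [← hz']; exact pow_orderOf_eq_one _
  have hz1 : (z : H) ≠ 1 := by
    intro h
    rw [h, orderOf_one] at hz'
    norm_num at hz'
  obtain ⟨c, hc⟩ := isConj_iff.mp (hconj _ x hz1 hz2 hx1 hx)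
  rw [← hc]
  exact hNn.conj_mem _ z.2 c

/-- the group of elements acting trivially on `P / Φ(P)` is a `2`-group when `P` is a normal
`2`-subgroup with `C_H(P) ≤ P` -/
theorem comK_isPGroup (P : Subgroup H) [hPn : P.Normal] (hP : IsPGroup 2 P)
    (hC : Subgroup.centralizer (P : Set H) ≤ P) :
    IsPGroup 2 (comK P ((frattini P).map P.subtype)) := by
  classical
  haveI : Fact (Nat.Prime 2) := ⟨Nat.prime_two⟩
  intro g
  have hn0 : orderOf (g : H) ≠ 0 := (orderOf_pos _).ne'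
  obtain ⟨a, m, hm, hnm⟩ := Nat.exists_eq_two_pow_mul_odd hn0
  refine ⟨a, ?_⟩
  apply Subtype.ext
  rw [Subgroup.coe_pow, Subgroup.coe_one]
  set h : H := (g : H) ^ 2 ^ a with hh
  have hhK : h ∈ comK P ((frattini P).map P.subtype) := Subgroup.pow_mem _ g.2 _
  have hhm : h ^ m = 1 := by
    rw [hh, ← pow_mul, ← hnm]; exact pow_orderOf_eq_one _
  have hodd : Odd (orderOf h) := Odd.of_dvd_nat hm (orderOf_dvd_of_pow_eq_one hhm)
  set A₀ := Subgroup.zpowers h with hA₀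
  have hA₀K : A₀ ≤ comK P ((frattini P).map P.subtype) := Subgroup.zpowers_le.mpr hhK
  have hPtop : Subgroup.normalizer (P : Set H) = ⊤ := Subgroup.normalizer_eq_top_iff.mpr hPn
  have hcop : (Nat.card A₀).Coprime (Nat.card (frattini P)) := by
    obtain ⟨n, hn⟩ := IsPGroup.iff_card.mp (hP.to_subgroup (frattini P))
    rw [hA₀, Nat.card_zpowers, hn]
    exact Nat.Coprime.pow_right _ (Nat.coprime_two_right.mpr hodd)
  have h8 := Cfsg.Agent.S0029.result A₀ P (by rw [hPtop]; exact le_top) hcop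
    (fun a ha k hk => hA₀K ha k hk)
  have h9 : h ∈ P := hC (h8 (Subgroup.mem_zpowers _))
  obtain ⟨j, hj⟩ := (IsPGroup.iff_orderOf.mp hP) ⟨h, h9⟩
  rw [Subgroup.orderOf_mk] at hj
  have hj0 : j = 0 := by
    by_contra hj0
    rw [hj] at hodd
    have : Even (2 ^ j) := (Nat.even_pow.mpr ⟨even_two, hj0⟩)
    exact (Nat.not_odd_iff_even.mpr this) hodd
  rw [hj0, pow_zero] at hj
  exact orderOf_eq_one_iff.mp hj

/-- **Normal Sylow `2`-subgroup.** -/
theorem sylow_le_pCore [hsol : Group.IsSolvable H] (hO : pPrimeCore 2 H = ⊥)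
    (hconj : ∀ x y : H, x ≠ 1 → x ^ 2 = 1 → y ≠ 1 → y ^ 2 = 1 → IsConj x y)
    (T : Sylow 2 H)
    (hT : (∀ a ∈ T, ∀ b ∈ T, a * b = b * a) ∨
      (∀ a ∈ T, ∀ b ∈ T, (a * b * a⁻¹ * b⁻¹) ^ 2 = 1)) :
    (T : Subgroup H) ≤ pCore 2 H := by
  classical
  haveI : Fact (Nat.Prime 2) := ⟨Nat.prime_two⟩
  set P := pCore 2 H with hP
  have hC : Subgroup.centralizer (P : Set H) ≤ P :=
    Cfsg.Agent.Lib.Helper55_Fitting.centralizer_pCore_le 2 hO
  have hPT : P ≤ T := pCore_le_sylow 2 T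
  have hPp : IsPGroup 2 P := pCore_isPGroup 2
  rcases hT with hab | hcm
  · intro s hs
    apply hC
    rw [Subgroup.mem_centralizer_iff]
    intro x hx
    exact hab x (hPT hx) s hs
  by_cases hΦ : frattini P = ⊥
  · intro s hs
    apply hC
    rw [Subgroup.mem_centralizer_iff]
    intro x hx
    have h1 : (⟨x, hx⟩ : P) ^ 2 ∈ frattini P :=
      Cfsg.Agent.Lib.Helper1_Frattini.pow_mem_frattini_of_isPGroup hPp _
    rw [hΦ, Subgroup.mem_bot] at h1
    have h2 : x ^ 2 = 1 := by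
      have := congrArg Subtype.val h1
      simpa using this
    exact (invol_central hO hconj T s hs x h2).symm
  · set Φ := (frattini P).map P.subtype with hΦ'
    haveI hΦn : Φ.Normal := by rw [hΦ']; infer_instance
    have hΦ1 : Φ ≠ ⊥ := by
      intro h
      apply hΦ
      rw [hΦ'] at h
      exact (Subgroup.map_eq_bot_iff_of_injective _ (Subgroup.subtype_injective _)).mp h
    have hΦ2 : IsPGroup 2 Φ := (hPp.to_subgroup (frattini P)).map _
    have hK2 : IsPGroup 2 (comK P Φ) := comK_isPGroup P hPp hC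
    have hKP : comK P Φ ≤ P := le_pCore inferInstance hK2
    refine le_trans ?_ hKP
    intro s hs x hx
    exact sq_mem_of_normal_two Φ hΦ2 hΦ1 hconj _ (hcm s hs x (hPT hx))

end

end Cfsg.Agent.Lib.Helper63_ThomB
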