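import Mathlib
import Cfsg.Agent.Lib.Helper63_ThomB
import Cfsg.Agent.Lib.Helper52_ZPL

/-!
# Thompson's theorem on solvable groups with one class of involutions, part C (helper63, S3797)

Reduction to `O_{2'} = 1`, Burnside's fusion argument, and the group of automorphisms of the Sylow
`2`-subgroup induced by its normalizer.
-/

set_option autoImplicit false
set_option linter.style.haveILetI false
set_option linter.unusedSectionVars false
open Cfsg

namespace Cfsg.Agent.Lib.Helper63_ThomC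

open Cfsg.Agent.Lib.Helper1_Cores Cfsg.Agent.Lib.Helper63_ThomA Cfsg.Agent.Lib.Helper63_ThomB

section
variable {G : Type*} [Group G] [Finite G] {B : Type*} [Group B]

/-- involutions lift along a surjection with kernel of odd order -/
theorem invol_lift (f : G →* B) (hf : Function.Surjective f) (hker : Odd (Nat.card f.ker))
    (b : B) (hb1 : b ≠ 1) (hb2 : b ^ 2 = 1) : ∃ t : G, t ≠ 1 ∧ t ^ 2 = 1 ∧ f t = b := by
  obtain ⟨x, rfl⟩ := hf b
  obtain ⟨j, hj⟩ := hker
  refine ⟨x ^ Nat.card f.ker, ?_, ?_, ?_⟩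
  · intro h
    apply hb1
    have h1 : f (x ^ Nat.card f.ker) = f x := by
      rw [map_pow, hj, pow_succ, pow_mul, hb2, one_pow, one_mul]
    rw [← h1, h, map_one]
  · have hx2 : x ^ 2 ∈ f.ker := by rw [MonoidHom.mem_ker, map_pow]; exact hb2
    have h1 : (⟨x ^ 2, hx2⟩ : f.ker) ^ Nat.card f.ker = 1 := pow_card_eq_one'
    have h2 := congrArg Subtype.val h1
    rw [Subgroup.coe_pow, Subgroup.coe_one] at h2
    rw [← pow_mul, mul_comm, pow_mul]
    exact h2
  · rw [map_pow, hj, pow_succ, pow_mul, hb2, one_pow, one_mul]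

/-- the class of involutions stays single in the quotient -/
theorem conj_quot (f : G →* B) (hf : Function.Surjective f) (hker : Odd (Nat.card f.ker))
    (hconj : ∀ x y : G, x ≠ 1 → x ^ 2 = 1 → y ≠ 1 → y ^ 2 = 1 → IsConj x y) :
    ∀ x y : B, x ≠ 1 → x ^ 2 = 1 → y ≠ 1 → y ^ 2 = 1 → IsConj x y := by
  intro x y hx1 hx2 hy1 hy2
  obtain ⟨t, ht1, ht2, rfl⟩ := invol_lift f hf hker x hx1 hx2
  obtain ⟨u, hu1, hu2, rfl⟩ := invol_lift f hf hker y hy1 hy2
  exact f.map_isConj (hconj t u ht1 ht2 hu1 hu2)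

/-- a `2`-element of a kernel of odd order is trivial -/
theorem eq_one_of_mem_ker (f : G →* B) (hker : Odd (Nat.card f.ker)) (S : Sylow 2 G)
    (c : G) (hcS : c ∈ S) (hc : f c = 1) : c = 1 := by
  haveI : Fact (Nat.Prime 2) := ⟨Nat.prime_two⟩
  obtain ⟨k, hk⟩ := (IsPGroup.iff_orderOf.mp S.isPGroup') ⟨c, hcS⟩
  rw [Subgroup.orderOf_mk] at hk
  have d1 : orderOf c ∣ Nat.card f.ker := Subgroup.orderOf_dvd_natCard _ (MonoidHom.mem_ker.mpr hc)
  have d2 : orderOf c ∣ 2 ^ k := by rw [hk]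
  have hcop : Nat.Coprime (Nat.card f.ker) (2 ^ k) :=
    Nat.Coprime.pow_right k (Nat.coprime_two_right.mpr hker)
  exact orderOf_eq_one_iff.mp (Nat.eq_one_of_dvd_coprimes hcop d1 d2)

end

section
variable {G : Type*} [Group G] [Finite G]

/-- **Reduction to `O_{2'} = 1`**: involutions of `S` are central in `S`, and `G` has `2`-length one
as soon as `S` is abelian or all its commutators square to `1`. -/
theorem main_reduction [hsol : Group.IsSolvable G] (S : Sylow 2 G)
    (hconj : ∀ x y : G, x ≠ 1 → x ^ 2 = 1 → y ≠ 1 → y ^ 2 = 1 → IsConj x y) :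
    (∀ s ∈ S, ∀ x ∈ S, x ^ 2 = 1 → s * x = x * s) ∧
    (((∀ a ∈ S, ∀ b ∈ S, a * b = b * a) ∨
      (∀ a ∈ S, ∀ b ∈ S, (a * b * a⁻¹ * b⁻¹) ^ 2 = 1)) → PLengthLE 2 1 G) := by
  classical
  haveI : Fact (Nat.Prime 2) := ⟨Nat.prime_two⟩
  set N := pPrimeCore 2 G with hN
  set f : G →* G ⧸ N := QuotientGroup.mk' N with hf'
  have hf : Function.Surjective f := QuotientGroup.mk'_surjective N
  have hkerN : f.ker = N := QuotientGroup.ker_mk' N
  have hcopN : (Nat.card f.ker).Coprime 2 := by rw [hkerN]; exact pPrimeCore_card_coprime 2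
  have hker : Odd (Nat.card f.ker) := Nat.coprime_two_right.mp hcopN
  have hO : pPrimeCore 2 (G ⧸ N) = ⊥ :=
    Cfsg.Agent.Lib.Helper55_Fitting.pPrimeCore_quotient_pPrimeCore 2
  have hconjB := conj_quot f hf hker hconj
  set T : Sylow 2 (G ⧸ N) := S.mapSurjective hf with hT
  have hTmem : ∀ s ∈ S, f s ∈ T := fun s hs => ⟨s, hs, rfl⟩
  constructor
  · intro s hs x hx hx2
    have h1 : f s * f x = f x * f s :=
      invol_central hO hconjB T (f s) (hTmem s hs) (f x) (by rw [← map_pow, hx2, map_one])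
    have h2 : s * x * s⁻¹ * x⁻¹ = 1 := by
      apply eq_one_of_mem_ker f hker S
      · exact S.mul_mem (S.mul_mem (S.mul_mem hs hx) (S.inv_mem hs)) (S.inv_mem hx)
      · rw [map_mul, map_mul, map_mul, map_inv, map_inv, h1]; group
    calc s * x = s * x * s⁻¹ * x⁻¹ * (x * s) := by group
      _ = x * s := by rw [h2, one_mul]
  · intro hS
    have hTle : (T : Subgroup (G ⧸ N)) ≤ pCore 2 (G ⧸ N) := by
      apply sylow_le_pCore hO hconjB T
      rcases hS with hab | hcm
      · left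
        rintro _ ⟨a, ha, rfl⟩ _ ⟨b, hb, rfl⟩
        rw [← map_mul, ← map_mul, hab a ha b hb]
      · right
        rintro _ ⟨a, ha, rfl⟩ _ ⟨b, hb, rfl⟩
        rw [← map_inv, ← map_inv, ← map_mul, ← map_mul, ← map_mul, ← map_pow, hcm a ha b hb,
          map_one]
    have hidx : ((pCore 2 (G ⧸ N)).index).Coprime 2 := by
      have h1 : (pCore 2 (G ⧸ N)).index ∣ (T : Subgroup (G ⧸ N)).index :=
        Subgroup.index_dvd_of_le hTle
      have h2 : ¬ 2 ∣ (T : Subgroup (G ⧸ N)).index := T.not_dvd_index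
      have h3 : ¬ 2 ∣ (pCore 2 (G ⧸ N)).index := fun h => h2 (h.trans h1)
      exact ((Nat.Prime.coprime_iff_not_dvd Nat.prime_two).mpr h3).symm
    have hB : PLengthLE 2 1 (G ⧸ N) :=
      Cfsg.Agent.Lib.Helper52_ZPL.plengthLE_one_of_normal_sylow 2 (pCore 2 (G ⧸ N))
        (pCore_isPGroup 2) hidx
    exact Cfsg.Agent.Lib.Helper52_ZPL.plengthLE_one_of_surjective_of_ker 2 f hf hB hcopN

/-- **Burnside**: the normalizer of `S` induces a solvable group of automorphisms of `S` which is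
transitive on the involutions of `S`, provided these are central in `S`. -/
theorem exists_aut [hsol : Group.IsSolvable G] (S : Sylow 2 G)
    (hconj : ∀ x y : G, x ≠ 1 → x ^ 2 = 1 → y ≠ 1 → y ^ 2 = 1 → IsConj x y)
    (hcent : ∀ s ∈ S, ∀ x ∈ S, x ^ 2 = 1 → s * x = x * s) :
    ∃ Y : Subgroup (MulAut ↥(S : Subgroup G)), Group.IsSolvable Y ∧
      ∀ x y : ↥(S : Subgroup G), x ≠ 1 → x ^ 2 = 1 → y ≠ 1 → y ^ 2 = 1 → ∃ a ∈ Y, a x = y := by
  classical
  haveI : Fact (Nat.Prime 2) := ⟨Nat.prime_two⟩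
  refine ⟨(Subgroup.normalizerMonoidHom (S : Subgroup G)).range, ?_, ?_⟩
  · exact Group.isSolvable_of_surjective
      (Subgroup.normalizerMonoidHom (S : Subgroup G)).rangeRestrict_surjective
  · intro x y hx1 hx2 hy1 hy2
    have hx1' : (x : G) ≠ 1 := fun h => hx1 (Subtype.ext h)
    have hy1' : (y : G) ≠ 1 := fun h => hy1 (Subtype.ext h)
    have hx2' : (x : G) ^ 2 = 1 := by
      have := congrArg Subtype.val hx2; simpa using this
    have hy2' : (y : G) ^ 2 = 1 := by
      have := congrArg Subtype.val hy2; simpa using this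
    obtain ⟨c, hc⟩ := isConj_iff.mp (hconj _ _ hx1' hx2' hy1' hy2')
    have hxc : (x : G) ∈ Subgroup.centralizer ((S : Subgroup G) : Set G) := by
      rw [Subgroup.mem_centralizer_iff]
      intro h hh
      exact hcent h hh x x.2 hx2'
    have hyc : (c⁻¹)⁻¹ * (x : G) * c⁻¹ ∈ Subgroup.centralizer ((S : Subgroup G) : Set G) := by
      rw [inv_inv, hc, Subgroup.mem_centralizer_iff]
      intro h hh
      exact hcent h hh y y.2 hy2'
    obtain ⟨n, hn, hnx⟩ := S.conj_eq_normalizer_conj_of_mem_centralizer (x : G) c⁻¹ hxc hyc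
    rw [inv_inv, hc] at hnx
    have hn' : n⁻¹ ∈ Subgroup.normalizer ((S : Subgroup G) : Set G) := Subgroup.inv_mem _ hn
    refine ⟨Subgroup.normalizerMonoidHom (S : Subgroup G) ⟨n⁻¹, hn'⟩, ⟨_, rfl⟩, ?_⟩
    apply Subtype.ext
    rw [hnx]
    show n⁻¹ * (x : G) * (n⁻¹)⁻¹ = n⁻¹ * (x : G) * n
    rw [inv_inv]

end

end Cfsg.Agent.Lib.Helper63_ThomC
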