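import Mathlib

/-!
# Homocyclic abelian `2`-groups (helper63, S3797)

A finite abelian `2`-group whose automorphism group is transitive on involutions is homocyclic.
-/

set_option autoImplicit false
set_option linter.style.haveILetI false
set_option linter.unusedSectionVars false

namespace Cfsg.Agent.Lib.Helper63_ThomD

theorem reindex_const (ι : Type) [Fintype ι] (e : ι → ℕ) (m : ℕ) (hm : ∀ i, e i = m) :
    Nonempty (((i : ι) → Multiplicative (ZMod (2 ^ e i))) ≃*
      (Fin (Fintype.card ι) → Multiplicative (ZMod (2 ^ m)))) := by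
  obtain rfl : e = fun _ => m := funext hm
  exact ⟨MulEquiv.arrowCongr (Fintype.equivFin ι) (MulEquiv.refl _)⟩

/-- the coordinate argument: in `∏ Z/2^{e i}`, if automorphisms are transitive on involutions then
all `e i` coincide -/
theorem exps_eq (ι : Type) [Fintype ι] [DecidableEq ι] (e : ι → ℕ) (he1 : ∀ i, 1 ≤ e i)
    (htr : ∀ x y : ((i : ι) → Multiplicative (ZMod (2 ^ e i))), x ≠ 1 → x ^ 2 = 1 → y ≠ 1 →
      y ^ 2 = 1 → ∃ a : MulAut ((i : ι) → Multiplicative (ZMod (2 ^ e i))), a x = y) :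
    ∀ i j, e i ≤ e j := by
  have hcardj : ∀ j, Nat.card (Multiplicative (ZMod (2 ^ e j))) = 2 ^ e j := fun j => by
    rw [Nat.card_congr Multiplicative.toAdd, Nat.card_zmod]
  have hpowj : ∀ (w : (i : ι) → Multiplicative (ZMod (2 ^ e i))) (j : ι) (t : ℕ), e j ≤ t →
      (w ^ 2 ^ t) j = 1 := by
    intro w j t ht
    rw [Pi.pow_apply]
    obtain ⟨d, rfl⟩ := Nat.exists_eq_add_of_le ht
    rw [pow_add, pow_mul]
    have h1 : (w j) ^ 2 ^ e j = 1 := by
      have := pow_card_eq_one' (G := Multiplicative (ZMod (2 ^ e j))) (x := w j)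
      rwa [hcardj] at this
    rw [h1, one_pow]
  set g : ι → ((i : ι) → Multiplicative (ZMod (2 ^ e i))) :=
    fun i => Pi.mulSingle i (Multiplicative.ofAdd 1) with hg
  set u : ι → ((i : ι) → Multiplicative (ZMod (2 ^ e i))) := fun i => (g i) ^ 2 ^ (e i - 1) with hu
  have hu_same : ∀ i, (u i) i ≠ 1 := by
    intro i h
    simp only [hu, hg, Pi.pow_apply, Pi.mulSingle_eq_same] at h
    rw [← ofAdd_nsmul, ofAdd_eq_one, nsmul_one, ZMod.natCast_eq_zero_iff] at h
    have h2 := Nat.le_of_dvd (by positivity) h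
    have h3 : e i ≤ e i - 1 := (Nat.pow_le_pow_iff_right (by norm_num)).mp h2
    have := he1 i
    omega
  have hu2 : ∀ i, (u i) ^ 2 = 1 := by
    intro i
    simp only [hu]
    rw [← pow_mul, ← pow_succ, Nat.sub_add_cancel (he1 i)]
    funext j
    by_cases hji : j = i
    · subst hji; exact hpowj _ j _ le_rfl
    · rw [Pi.pow_apply]
      simp only [hg]
      rw [Pi.mulSingle_eq_of_ne hji, one_pow]; rfl
  have hu1 : ∀ i, u i ≠ 1 := fun i h => hu_same i (by rw [h]; rfl)
  intro i j
  by_contra hlt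
  have hlt' : e j < e i := Nat.lt_of_not_le hlt
  obtain ⟨a, ha⟩ := htr (u i) (u j) (hu1 i) (hu2 i) (hu1 j) (hu2 j)
  have key : u j = (a (g i)) ^ 2 ^ (e i - 1) := by
    rw [← map_pow]; exact ha.symm
  have h1 := congrFun key j
  rw [hpowj _ j (e i - 1) (by omega)] at h1
  exact hu_same j h1

/-- **Homocyclic.** A finite abelian `2`-group whose automorphisms are transitive on its involutions
is a direct product of cyclic groups of one order. -/
theorem homocyclic {A : Type*} [Group A] [Finite A] (hA : IsPGroup 2 A)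
    (hcomm : ∀ a b : A, a * b = b * a)
    (htr : ∀ x y : A, x ≠ 1 → x ^ 2 = 1 → y ≠ 1 → y ^ 2 = 1 → ∃ a : MulAut A, a x = y) :
    ∃ m r : ℕ, Nonempty (A ≃* (Fin r → Multiplicative (ZMod (2 ^ m)))) := by
  classical
  haveI : Fact (Nat.Prime 2) := ⟨Nat.prime_two⟩
  letI : CommGroup A := { (inferInstance : Group A) with mul_comm := hcomm }
  obtain ⟨ι, hι, n, hn, ⟨φ⟩⟩ := CommGroup.equiv_prod_multiplicative_zmod_of_finite A
  have hn2 : ∀ i, ∃ e, n i = 2 ^ e := by
    intro i
    obtain ⟨k, hk⟩ := IsPGroup.iff_card.mp hA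
    have hcard : Nat.card A = ∏ i, n i := by
      rw [Nat.card_congr φ.toEquiv, Nat.card_pi]
      refine Finset.prod_congr rfl (fun i _ => ?_)
      rw [Nat.card_congr Multiplicative.toAdd, Nat.card_zmod]
    have hdvd : n i ∣ 2 ^ k := by
      rw [← hk, hcard]; exact Finset.dvd_prod_of_mem n (Finset.mem_univ i)
    obtain ⟨e, -, he⟩ := (Nat.dvd_prime_pow Nat.prime_two).mp hdvd
    exact ⟨e, he⟩
  choose e he using hn2
  obtain rfl : n = fun i => 2 ^ e i := funext he
  have he1 : ∀ i, 1 ≤ e i := by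
    intro i
    by_contra h
    have h0 : e i = 0 := by omega
    have h1 : 1 < 2 ^ e i := hn i
    rw [h0] at h1
    norm_num at h1
  have htr' : ∀ x y : ((i : ι) → Multiplicative (ZMod (2 ^ e i))), x ≠ 1 → x ^ 2 = 1 → y ≠ 1 →
      y ^ 2 = 1 → ∃ a : MulAut ((i : ι) → Multiplicative (ZMod (2 ^ e i))), a x = y := by
    intro x y hx1 hx2 hy1 hy2
    have hx1' : φ.symm x ≠ 1 := by
      intro h; apply hx1
      have := congrArg φ h; simpa using this
    have hy1' : φ.symm y ≠ 1 := by
      intro h; apply hy1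
      have := congrArg φ h; simpa using this
    have hx2' : (φ.symm x) ^ 2 = 1 := by rw [← map_pow, hx2, map_one]
    have hy2' : (φ.symm y) ^ 2 = 1 := by rw [← map_pow, hy2, map_one]
    obtain ⟨a, ha⟩ := htr _ _ hx1' hx2' hy1' hy2'
    refine ⟨(φ.symm.trans a).trans φ, ?_⟩
    show φ (a (φ.symm x)) = y
    rw [ha, MulEquiv.apply_symm_apply]
  have hle := exps_eq ι e he1 htr'
  have hconst : ∀ i j, e i = e j := fun i j => le_antisymm (hle i j) (hle j i)
  set m : ℕ := if h : Nonempty ι then e h.some else 0 with hm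
  have hem : ∀ i, e i = m := by
    intro i
    have hne : Nonempty ι := ⟨i⟩
    rw [hm, dif_pos hne]
    exact hconst _ _
  obtain ⟨ψ⟩ := reindex_const ι e m hem
  exact ⟨m, Fintype.card ι, ⟨φ.trans ψ⟩⟩

end Cfsg.Agent.Lib.Helper63_ThomD
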