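import Mathlib
import Cfsg.Agent.Lib.Helper63_ThomC
import Cfsg.Agent.Lib.Helper63_ThomD

/-!
# Thompson's theorem on solvable groups with one class of involutions (helper63, S3797)

Assembly, modulo the Higman/Shult theorem S3776 (taken as a hypothesis `H3776`).
-/

set_option autoImplicit false
set_option linter.style.haveILetI false
set_option linter.unusedSectionVars false
open Cfsg

universe u

namespace Cfsg.Agent.Lib.Helper63_ThomMain

open Cfsg.Agent.Lib.Helper63_ThomC Cfsg.Agent.Lib.Helper63_ThomD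
open scoped commutatorElement

theorem thompson {G : Type u} [Group G] [Finite G]
    (H3776 : ∀ (K : Type u) [Group K] [Finite K], IsPGroup 2 K → ¬ IsMulCommutative K →
      (∃ x y : K, x ≠ y ∧ x ≠ 1 ∧ x ^ 2 = 1 ∧ y ≠ 1 ∧ y ^ 2 = 1) →
      (∃ Y : Subgroup (MulAut K), Group.IsSolvable Y ∧
        ∀ x y : K, x ≠ 1 → x ^ 2 = 1 → y ≠ 1 → y ^ 2 = 1 → ∃ a ∈ Y, a x = y) →
      commutator K = frattini K ∧ frattini K = Subgroup.center K ∧
        ∀ x : K, x ∈ Subgroup.center K ↔ x ^ 2 = 1)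
    (hG : Group.IsSolvable G) (S : Sylow 2 G)
    (htwo : ∃ x y : G, x ∈ (S : Subgroup G) ∧ y ∈ (S : Subgroup G) ∧ x ≠ y ∧ x ≠ 1 ∧ x ^ 2 = 1 ∧
      y ≠ 1 ∧ y ^ 2 = 1)
    (hconj : ∀ x y : G, x ≠ 1 → x ^ 2 = 1 → y ≠ 1 → y ^ 2 = 1 → IsConj x y) :
    Cfsg.PLengthLE 2 1 G ∧
      ((∃ m r : ℕ, Nonempty (↥(S : Subgroup G) ≃* (Fin r → Multiplicative (ZMod (2 ^ m))))) ∨
      (¬ IsMulCommutative (S : Subgroup G) ∧ ∃ Y : Subgroup (MulAut ↥(S : Subgroup G)),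
        Group.IsSolvable Y ∧ ∀ x y : ↥(S : Subgroup G), x ≠ 1 → x ^ 2 = 1 → y ≠ 1 → y ^ 2 = 1 →
          ∃ a ∈ Y, a x = y)) := by
  classical
  haveI := hG
  haveI : Fact (Nat.Prime 2) := ⟨Nat.prime_two⟩
  obtain ⟨hcent, hPL⟩ := main_reduction S hconj
  obtain ⟨Y, hYs, hYt⟩ := exists_aut S hconj hcent
  by_cases hab : IsMulCommutative (S : Subgroup G)
  · have hab' : ∀ a ∈ S, ∀ b ∈ S, a * b = b * a := by
      intro a ha b hb
      have := hab.is_comm.comm (⟨a, ha⟩ : (S : Subgroup G)) ⟨b, hb⟩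
      exact congrArg Subtype.val this
    refine ⟨hPL (Or.inl hab'), Or.inl ?_⟩
    refine homocyclic S.isPGroup' (fun a b => hab.is_comm.comm a b) ?_
    intro x y hx1 hx2 hy1 hy2
    obtain ⟨a, -, ha⟩ := hYt x y hx1 hx2 hy1 hy2
    exact ⟨a, ha⟩
  · obtain ⟨x, y, hxS, hyS, hxy, hx1, hx2, hy1, hy2⟩ := htwo
    have h2' : ∃ x y : (S : Subgroup G), x ≠ y ∧ x ≠ 1 ∧ x ^ 2 = 1 ∧ y ≠ 1 ∧ y ^ 2 = 1 := by
      refine ⟨⟨x, hxS⟩, ⟨y, hyS⟩, ?_, ?_, ?_, ?_, ?_⟩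
      · intro h; exact hxy (congrArg Subtype.val h)
      · intro h; exact hx1 (congrArg Subtype.val h)
      · apply Subtype.ext; simpa using hx2
      · intro h; exact hy1 (congrArg Subtype.val h)
      · apply Subtype.ext; simpa using hy2
    obtain ⟨h1, h2, h3⟩ := H3776 (S : Subgroup G) S.isPGroup' hab h2' ⟨Y, hYs, hYt⟩
    have hcm : ∀ a ∈ S, ∀ b ∈ S, (a * b * a⁻¹ * b⁻¹) ^ 2 = 1 := by
      intro a ha b hb
      have h4 : ⁅(⟨a, ha⟩ : (S : Subgroup G)), ⟨b, hb⟩⁆ ∈ commutator (S : Subgroup G) :=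
        Subgroup.commutator_mem_commutator (Subgroup.mem_top _) (Subgroup.mem_top _)
      rw [h1, h2] at h4
      have h5 := (h3 _).mp h4
      have h6 := congrArg Subtype.val h5
      simpa [commutatorElement_def] using h6
    exact ⟨hPL (Or.inr hcm), Or.inr ⟨hab, Y, hYs, hYt⟩⟩

end Cfsg.Agent.Lib.Helper63_ThomMain
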