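import Mathlib
import Cfsg.Agent.Lib.Helper39_U4Defs
import Cfsg.Agent.Lib.Helper13_SUGen
import Cfsg.Agent.Lib.Helper9_S2151_CNT
import Cfsg.Agent.Lib.Helper91_S2151_PTS
import Cfsg.Agent.Lib.Helper94_UQStep
import Cfsg.Agent.Lib.Helper95_UQ_FLD

/-!
# S2150 package L-CARD (architect helper39, proof helper63)

For a nondegenerate hermitian plane `(W, h)` over a field with `q ^ 2` elements:
`|LL h| = q (q^2 - 1)^2` and `|{(1, k) ∈ LL h}| = q (q^2 - 1)`.

Method: the isometry group `uG h` acts regularly on the hyperbolic pairs of `W`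
(`card_uG_eq`), the hyperbolic pairs are counted by (nonzero isotropic vector, skew scalar)
(`card_hypPairs`), the nonzero isotropic vectors by `Helper9_S2151_CNT.CNT`; then `LL h → uG h`
is onto with kernel the nonzero fixed scalars, and `LL h → Fˣ` is onto with kernel `K`.
-/

set_option autoImplicit false

namespace Cfsg.Agent.Lib.Helper63_U4_LCARD

open Module Cfsg.Agent.Lib.Helper94_Symp Cfsg.Agent.Lib.Helper94_Herm
  Cfsg.Agent.Lib.Helper94_HermEich Cfsg.Agent.Lib.Helper94_HermOrth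
  Cfsg.Agent.Lib.Helper13_SUGen Cfsg.Agent.Lib.Helper39_U4Defs
  Cfsg.Agent.Lib.Helper91_S2151_PTS Cfsg.Agent.Lib.Helper94_UQInst

section L

variable {F W : Type*} [Field F] [AddCommGroup W] [Module F W] {σ : F →+* F}
  {h : W →ₗ[F] W →ₛₗ[σ] F}

/-! ### coordinates with respect to a hyperbolic pair of a plane -/

lemma pair_form {x y : W} (hp : HypPair h x y) (a b c d : F) :
    h (a • x + b • y) (c • x + d • y) = a * σ d + b * σ c := by
  simp only [map_add, map_smul, map_smulₛₗ, LinearMap.add_apply, LinearMap.smul_apply,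
    smul_eq_mul, hp.ee, hp.ff, hp.ef, hp.fe, mul_zero, mul_one, add_zero, zero_add]
  ring

lemma span_pair_top [FiniteDimensional F W] (h2 : finrank F W = 2) {e f : W}
    (hp : HypPair h e f) : Submodule.span F (Set.range ![e, f]) = ⊤ := by
  apply (hypPair_linearIndependent hp).span_eq_top_of_card_eq_finrank'
  simp [h2]

lemma decomp2 [FiniteDimensional F W] (h2 : finrank F W = 2) {e f : W} (hp : HypPair h e f)
    (v : W) : v = h v f • e + h v e • f := by
  have hspan := span_pair_top h2 hp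
  have hv : v ∈ Submodule.span F (Set.range ![e, f]) := by rw [hspan]; trivial
  have hr : Set.range ![e, f] = {e, f} := by
    ext z
    simp only [Set.mem_range, Set.mem_insert_iff, Set.mem_singleton_iff]
    constructor
    · rintro ⟨i, rfl⟩
      fin_cases i
      · left; rfl
      · right; rfl
    · rintro (rfl | rfl)
      · exact ⟨0, rfl⟩
      · exact ⟨1, rfl⟩
  rw [hr, Submodule.mem_span_pair] at hv
  obtain ⟨s, t, rfl⟩ := hv
  simp only [map_add, map_smul, LinearMap.add_apply, LinearMap.smul_apply, smul_eq_mul, hp.ee,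
    hp.ff, hp.ef, hp.fe, mul_zero, mul_one, add_zero, zero_add]

/-- the linear map `e ↦ x`, `f ↦ y` -/
noncomputable def mapTo (h : W →ₗ[F] W →ₛₗ[σ] F) (e f x y : W) : W →ₗ[F] W :=
  (h.flip f).smulRight x + (h.flip e).smulRight y

lemma mapTo_apply (e f x y v : W) : mapTo h e f x y v = h v f • x + h v e • y := by
  simp [mapTo]

lemma mapTo_comp [FiniteDimensional F W] (h2 : finrank F W = 2) {e f x y : W}
    (hp : HypPair h e f) (hq : HypPair h x y) :
    mapTo h x y e f ∘ₗ mapTo h e f x y = LinearMap.id := by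
  apply LinearMap.ext
  intro v
  rw [LinearMap.comp_apply, LinearMap.id_apply, mapTo_apply, mapTo_apply]
  have h1 : h (h v f • x + h v e • y) y = h v f := by
    have := pair_form hq (h v f) (h v e) 0 1
    simpa using this
  have h3 : h (h v f • x + h v e • y) x = h v e := by
    have := pair_form hq (h v f) (h v e) 1 0
    simpa using this
  rw [h1, h3]
  exact (decomp2 h2 hp v).symm

/-- the linear equivalence `e ↦ x`, `f ↦ y` of a plane -/
noncomputable def equivTo [FiniteDimensional F W] (h2 : finrank F W = 2) {e f x y : W}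
    (hp : HypPair h e f) (hq : HypPair h x y) : W ≃ₗ[F] W :=
  LinearEquiv.ofLinearMap (mapTo h e f x y) (mapTo h x y e f) (mapTo_comp h2 hq hp)
    (mapTo_comp h2 hp hq)

lemma equivTo_apply [FiniteDimensional F W] (h2 : finrank F W = 2) {e f x y : W}
    (hp : HypPair h e f) (hq : HypPair h x y) (v : W) :
    equivTo h2 hp hq v = h v f • x + h v e • y := by
  simp [equivTo, mapTo_apply]

lemma equivTo_e [FiniteDimensional F W] (h2 : finrank F W = 2) {e f x y : W}
    (hp : HypPair h e f) (hq : HypPair h x y) : equivTo h2 hp hq e = x := by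
  rw [equivTo_apply, hp.ef, hp.ee, one_smul, zero_smul, add_zero]

lemma equivTo_f [FiniteDimensional F W] (h2 : finrank F W = 2) {e f x y : W}
    (hp : HypPair h e f) (hq : HypPair h x y) : equivTo h2 hp hq f = y := by
  rw [equivTo_apply, hp.ff, hp.fe, one_smul, zero_smul, zero_add]

lemma equivTo_mem [FiniteDimensional F W] (h2 : finrank F W = 2) {e f x y : W}
    (hp : HypPair h e f) (hq : HypPair h x y) : equivTo h2 hp hq ∈ uG h := by
  intro v w
  rw [equivTo_apply, equivTo_apply, pair_form hq]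
  have hv := decomp2 h2 hp v
  have hw := decomp2 h2 hp w
  have := pair_form hp (h v f) (h v e) (h w f) (h w e)
  rw [← hv, ← hw] at this
  exact this.symm

/-- the isometry group of a plane acts regularly on hyperbolic pairs -/
theorem card_uG_eq [FiniteDimensional F W] (h2 : finrank F W = 2) {e f : W}
    (hp : HypPair h e f) :
    Nat.card ↥(uG h) = Nat.card {p : W × W // HypPair h p.1 p.2} := by
  apply Nat.card_congr
  refine Equiv.ofBijective
    (fun g => ⟨((g : W ≃ₗ[F] W) e, (g : W ≃ₗ[F] W) f), ?_⟩) ⟨?_, ?_⟩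
  · have hg := g.2
    exact ⟨by rw [hg, hp.ee], by rw [hg, hp.ff], by rw [hg, hp.ef], by rw [hg, hp.fe]⟩
  · intro g g' hgg
    have h1 : (g : W ≃ₗ[F] W) e = (g' : W ≃ₗ[F] W) e := congrArg (fun p => p.1.1) hgg
    have h3 : (g : W ≃ₗ[F] W) f = (g' : W ≃ₗ[F] W) f := congrArg (fun p => p.1.2) hgg
    apply Subtype.ext
    apply LinearEquiv.ext
    intro v
    rw [decomp2 h2 hp v]
    simp only [map_add, map_smul, h1, h3]
  · rintro ⟨⟨x, y⟩, hq⟩
    refine ⟨⟨equivTo h2 hp hq, equivTo_mem h2 hp hq⟩, ?_⟩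
    apply Subtype.ext
    exact Prod.ext (equivTo_e h2 hp hq) (equivTo_f h2 hp hq)

/-! ### counting the hyperbolic pairs of a plane -/

/-- a chosen hyperbolic partner of a nonzero isotropic vector -/
noncomputable def partner (hσ : Invol σ) (hh : IsHerm h) (hN : NondegOn h ⊤) (x : NzIso h) : W :=
  Classical.choose (exists_partner hσ hh hN (Submodule.mem_top (x := x.1)) x.2.1 x.2.2)

lemma partner_spec (hσ : Invol σ) (hh : IsHerm h) (hN : NondegOn h ⊤) (x : NzIso h) :
    HypPair h x.1 (partner hσ hh hN x) := by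
  have := Classical.choose_spec
    (exists_partner hσ hh hN (Submodule.mem_top (x := x.1)) x.2.1 x.2.2)
  exact hypPair_mk hh x.2.2 this.2.1 this.2.2

lemma hyp_shift {x p : W} (hp : HypPair h x p) {a : F} (ha : σ a = -a) :
    HypPair h x (p + a • x) := by
  refine ⟨hp.ee, ?_, ?_, ?_⟩
  · simp only [map_add, map_smul, map_smulₛₗ, LinearMap.add_apply, LinearMap.smul_apply,
      smul_eq_mul, hp.ee, hp.ff, hp.ef, hp.fe, mul_zero, mul_one, add_zero, zero_add, ha]
    ring
  · simp only [map_add, map_smulₛₗ, smul_eq_mul, hp.ee, hp.ef, mul_zero, add_zero]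
  · simp only [map_add, map_smul, LinearMap.add_apply, LinearMap.smul_apply,
      smul_eq_mul, hp.ee, hp.fe, mul_zero, add_zero]

theorem card_hypPairs [FiniteDimensional F W] (hσ : Invol σ) (hh : IsHerm h)
    (hN : NondegOn h ⊤) (h2 : finrank F W = 2) :
    Nat.card {p : W × W // HypPair h p.1 p.2} = Nat.card (NzIso h) * Nat.card ↥(skewA σ) := by
  rw [← Nat.card_prod]
  apply Nat.card_congr
  symm
  refine Equiv.ofBijective
    (fun xa => ⟨(xa.1.1, partner hσ hh hN xa.1 + (xa.2 : F) • xa.1.1), ?_⟩) ⟨?_, ?_⟩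
  · exact hyp_shift (partner_spec hσ hh hN xa.1) xa.2.2
  · rintro ⟨x, a⟩ ⟨x', a'⟩ hxa
    have h1 : x.1 = x'.1 := congrArg (fun p => p.1.1) hxa
    have hx : x = x' := Subtype.ext h1
    subst hx
    have h3 : partner hσ hh hN x + (a : F) • x.1 = partner hσ hh hN x + (a' : F) • x.1 :=
      congrArg (fun p => p.1.2) hxa
    have h4 : (a : F) • x.1 = (a' : F) • x.1 := add_left_cancel h3
    have h5 : ((a : F) - (a' : F)) • x.1 = 0 := by rw [sub_smul, h4, sub_self]
    rcases smul_eq_zero.mp h5 with h6 | h6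
    · have : a = a' := Subtype.ext (sub_eq_zero.mp h6)
      rw [this]
    · exact absurd h6 x.2.1
  · rintro ⟨⟨x, y⟩, hq⟩
    have hx0 : x ≠ 0 := by
      rintro rfl
      have := hq.ef
      simp at this
    let X : NzIso h := ⟨x, hx0, hq.ee⟩
    have hp := partner_spec hσ hh hN X
    have hy := decomp2 h2 hp y
    have hyx : h y x = 1 := hq.fe
    have hX : X.1 = x := rfl
    rw [hX] at hy hp
    rw [hyx, one_smul] at hy
    have hskew : σ (h y (partner hσ hh hN X)) = -(h y (partner hσ hh hN X)) := by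
      have hyy := hq.ff
      have e3 : y = h y (partner hσ hh hN X) • x + (1 : F) • partner hσ hh hN X := by
        rw [one_smul]; exact hy
      have := pair_form hp (h y (partner hσ hh hN X)) 1 (h y (partner hσ hh hN X)) 1
      rw [← e3, hyy] at this
      simp only [map_one, mul_one, one_mul] at this
      exact eq_neg_of_add_eq_zero_right this.symm
    refine ⟨(X, ⟨h y (partner hσ hh hN X), hskew⟩), ?_⟩
    apply Subtype.ext
    refine Prod.ext rfl ?_
    show partner hσ hh hN X + h y (partner hσ hh hN X) • x = y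
    rw [add_comm]
    exact hy.symm

/-! ### determinants in a plane -/

lemma det_plane [FiniteDimensional F W] (h2 : finrank F W = 2) {e f : W} (hp : HypPair h e f)
    (k : W ≃ₗ[F] W) :
    ((LinearEquiv.det k : Fˣ) : F) = h (k e) f * h (k f) e - h (k f) f * h (k e) e := by
  rw [LinearEquiv.coe_det]
  have hli := hypPair_linearIndependent hp
  rw [det_eq_of_span hli (k : W →ₗ[F] W) !![h (k e) f, h (k f) f; h (k e) e, h (k f) e] ?_ ?_]
  · rw [Matrix.det_fin_two_of]
  · intro j
    fin_cases j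
    · simp only [Fin.sum_univ_two, Fin.zero_eta, Fin.isValue, Matrix.cons_val_zero,
        LinearEquiv.coe_coe, Matrix.of_apply, Matrix.cons_val', Matrix.cons_val_fin_one,
        Matrix.cons_val_one]
      exact decomp2 h2 hp (k e)
    · simp only [Fin.sum_univ_two, Fin.mk_one, Fin.isValue, Matrix.cons_val_one,
        Matrix.cons_val_zero, LinearEquiv.coe_coe, Matrix.of_apply, Matrix.cons_val',
        Matrix.cons_val_fin_one]
      exact decomp2 h2 hp (k f)
  · intro v
    rw [span_pair_top h2 hp]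
    trivial

lemma det_norm [FiniteDimensional F W] (h2 : finrank F W = 2) {e f : W} (hp : HypPair h e f)
    {k : W ≃ₗ[F] W} (hk : k ∈ uG h) :
    ((LinearEquiv.det k : Fˣ) : F) * σ ((LinearEquiv.det k : Fˣ) : F) = 1 := by
  rw [det_plane h2 hp k]
  have he := decomp2 h2 hp (k e)
  have hf := decomp2 h2 hp (k f)
  have r1 := pair_form hp (h (k e) f) (h (k e) e) (h (k e) f) (h (k e) e)
  have r3 := pair_form hp (h (k e) f) (h (k e) e) (h (k f) f) (h (k f) e)
  have r4 := pair_form hp (h (k f) f) (h (k f) e) (h (k e) f) (h (k e) e)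
  rw [← he] at r1 r3 r4
  rw [← hf] at r3 r4
  rw [hk, hp.ee] at r1
  rw [hk, hp.ef] at r3
  rw [hk, hp.fe] at r4
  simp only [map_sub, map_mul]
  linear_combination (-(h (k f) e * σ (h (k e) f) + h (k f) f * σ (h (k e) e))) * r3 - r4 +
    (h (k f) e * σ (h (k f) f) + h (k f) f * σ (h (k f) e)) * r1

/-! ### nonzero isotropic vectors and fixed units -/

theorem card_nzIso [Finite F] [FiniteDimensional F W] {q : ℕ} (hσ : Invol σ) (hh : IsHerm h)
    (hN : NondegOn h ⊤) (h2 : finrank F W = 2) (hq : Nat.card F = q ^ 2) :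
    Nat.card (NzIso h) + 1 + q = q ^ 3 + q ^ 2 := by
  have hW : Finite W := Module.finite_of_finite F
  have hfin : Finite (NzIso h) := by
    unfold NzIso
    infer_instance
  have h1 := (Cfsg.Agent.Lib.Helper9_S2151_CNT.CNT h hσ hh hN hq 2 h2 (by norm_num)).1
  rw [if_pos (by decide : Even 2), if_pos (by decide : Even 2)] at h1
  rw [Nat.card_congr (isoEquivOption h), Finite.card_option] at h1
  norm_num at h1
  omega

theorem card_fixUnits [Finite F] {q : ℕ} (hσ : Invol σ) (hq : Nat.card F = q ^ 2) :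
    Nat.card {c : Fˣ // σ (c : F) = (c : F)} = q - 1 := by
  have h1 : Nat.card {c : Fˣ // σ (c : F) = (c : F)} =
      Set.ncard {c : Fˣ | σ (c : F) = (c : F)} := Nat.card_coe_set_eq _
  have h3 : (Units.val : Fˣ → F) '' {c : Fˣ | σ (c : F) = (c : F)} = {a : F | σ a = a} \ {0} := by
    ext a
    constructor
    · rintro ⟨c, hc, rfl⟩
      exact ⟨hc, c.ne_zero⟩
    · rintro ⟨ha, ha0⟩
      exact ⟨Units.mk0 a ha0, ha, rfl⟩
  have h4 : Set.ncard {a : F | σ a = a} = q := by
    rw [← Nat.card_coe_set_eq]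
    exact Cfsg.Agent.Lib.Helper95_UQ_FLD.card_fixed hσ hq
  rw [h1, ← Set.ncard_image_of_injective _ Units.val_injective, h3,
    Set.ncard_sdiff_singleton_of_mem (show (0 : F) ∈ {a : F | σ a = a} from map_zero σ), h4]

/-! ### the two projections of `LL h` -/

/-- the projection `LL h → uG h` -/
noncomputable def proj2 (h : W →ₗ[F] W →ₛₗ[σ] F) : ↥(LL h) →* ↥(uG h) where
  toFun p := ⟨(p : Fˣ × (W ≃ₗ[F] W)).2, p.2.1⟩
  map_one' := rfl
  map_mul' _ _ := rfl

/-- the projection `LL h → Fˣ` -/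
noncomputable def proj1 (h : W →ₗ[F] W →ₛₗ[σ] F) : ↥(LL h) →* Fˣ where
  toFun p := (p : Fˣ × (W ≃ₗ[F] W)).1
  map_one' := rfl
  map_mul' _ _ := rfl

lemma proj2_surj [FiniteDimensional F W] (hσ : Invol σ) (h2 : finrank F W = 2) {e f : W}
    (hp : HypPair h e f) : Function.Surjective (proj2 h) := by
  rintro ⟨k, hk⟩
  obtain ⟨y, hy0, hy⟩ := hilbert90 hσ (det_norm h2 hp hk)
  have hsy : σ y ≠ 0 := (map_ne_zero σ).mpr hy0
  refine ⟨⟨(Units.mk0 (σ y) hsy, k), hk, ?_⟩, rfl⟩
  show ((LinearEquiv.det k : Fˣ) : F) * σ y = σ (σ y)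
  rw [hσ.invol, ← hy]

lemma card_ker_proj2 [Finite F] {q : ℕ} (hσ : Invol σ) (hq : Nat.card F = q ^ 2) :
    Nat.card ↥(proj2 h).ker = q - 1 := by
  rw [← card_fixUnits hσ hq]
  apply Nat.card_congr
  refine Equiv.ofBijective (fun p => ⟨((p : ↥(LL h)) : Fˣ × (W ≃ₗ[F] W)).1, ?_⟩) ⟨?_, ?_⟩
  · have h1 : ((p : ↥(LL h)) : Fˣ × (W ≃ₗ[F] W)).2 = 1 := by
      have := p.2
      rw [MonoidHom.mem_ker] at this
      exact congrArg Subtype.val this
    have h3 := (p : ↥(LL h)).2.2
    rw [h1, map_one, Units.val_one, one_mul] at h3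
    exact h3.symm
  · intro p p' hpp
    have h1 : ((p : ↥(LL h)) : Fˣ × (W ≃ₗ[F] W)).2 = 1 := by
      have := p.2
      rw [MonoidHom.mem_ker] at this
      exact congrArg Subtype.val this
    have h1' : ((p' : ↥(LL h)) : Fˣ × (W ≃ₗ[F] W)).2 = 1 := by
      have := p'.2
      rw [MonoidHom.mem_ker] at this
      exact congrArg Subtype.val this
    have h3 : ((p : ↥(LL h)) : Fˣ × (W ≃ₗ[F] W)).1 = ((p' : ↥(LL h)) : Fˣ × (W ≃ₗ[F] W)).1 :=
      congrArg Subtype.val hpp
    apply Subtype.ext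
    apply Subtype.ext
    exact Prod.ext h3 (h1.trans h1'.symm)
  · rintro ⟨c, hc⟩
    have hmem : ((c, 1) : Fˣ × (W ≃ₗ[F] W)) ∈ LL h := by
      refine ⟨(uG h).one_mem, ?_⟩
      show ((LinearEquiv.det (1 : W ≃ₗ[F] W) : Fˣ) : F) * (c : F) = σ (c : F)
      rw [map_one, Units.val_one, one_mul, hc]
    refine ⟨⟨⟨(c, 1), hmem⟩, ?_⟩, rfl⟩
    rw [MonoidHom.mem_ker]
    rfl

lemma proj1_surj [FiniteDimensional F W] (hh : IsHerm h)
    (h2 : finrank F W = 2) {e f : W} (hp : HypPair h e f) : Function.Surjective (proj1 h) := by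
  intro c
  have hc0 : (c : F) ≠ 0 := c.ne_zero
  have hq' : HypPair h (σ (c : F) • e) ((c : F)⁻¹ • f) := by
    refine hypPair_mk hh ?_ ?_ ?_
    · rw [self_smul, hp.ee, mul_zero]
    · rw [self_smul, hp.ff, mul_zero]
    · simp only [map_smul, map_smulₛₗ, LinearMap.smul_apply, smul_eq_mul, hp.ef, mul_one]
      rw [← map_mul, inv_mul_cancel₀ hc0, map_one]
  have hk := equivTo_mem h2 hp hq'
  refine ⟨⟨(c, equivTo h2 hp hq'), hk, ?_⟩, rfl⟩
  show ((LinearEquiv.det (equivTo h2 hp hq') : Fˣ) : F) * (c : F) = σ (c : F)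
  rw [det_plane h2 hp, equivTo_e, equivTo_f]
  simp only [map_smul, LinearMap.smul_apply, smul_eq_mul, hp.ee, hp.ff, hp.ef, hp.fe, mul_zero,
    mul_one, sub_zero]
  rw [mul_assoc, inv_mul_cancel₀ hc0, mul_one]

/-- L-CARD: |LL| = q (q^2-1)^2  (= (q^2-1) |SU_2(q)|). -/
theorem LL_card [Finite F] [FiniteDimensional F W] {q : ℕ} (hσ : Invol σ) (hh : IsHerm h)
    (hN : NondegOn h ⊤) (h2 : finrank F W = 2)
    (hq : Nat.card F = q ^ 2) (hσq : ∀ x, σ x = x ^ q) :
    Nat.card ↥(LL h) = q * (q ^ 2 - 1) ^ 2 ∧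
    Nat.card {p : ↥(LL h) // (p : Fˣ × (W ≃ₗ[F] W)).1 = 1} = q * (q ^ 2 - 1) := by
  have hq2 : 2 ≤ q := Cfsg.Agent.Lib.Helper94_UQStep.two_le_q hq
  -- a hyperbolic pair
  obtain ⟨e, f, hp⟩ : ∃ e f : W, HypPair h e f := by
    have hnt : Nontrivial W := by
      apply Module.nontrivial_of_finrank_pos (R := F)
      omega
    obtain ⟨x, hx0⟩ := exists_ne (0 : W)
    obtain ⟨y, -, hy⟩ := Cfsg.Agent.Lib.Helper94_HermWitt.exists_notMem_span1
      (U := (⊤ : Submodule F W)) (by rw [finrank_top, h2]) x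
    obtain ⟨a, b, hab0, hab⟩ := exists_iso hσ hh hx0 hy
    obtain ⟨f, -, hff, hef⟩ := exists_partner hσ hh hN (Submodule.mem_top) hab0 hab
    exact ⟨_, f, hypPair_mk hh hab hff hef⟩
  -- |LL| through the projection to uG h
  have c1 := Subgroup.card_mul_index (proj2 h).ker
  rw [Subgroup.index_ker, MonoidHom.range_eq_top.mpr (proj2_surj hσ h2 hp), Subgroup.card_top,
    card_ker_proj2 hσ hq, card_uG_eq h2 hp, card_hypPairs hσ hh hN h2,
    Cfsg.Agent.Lib.Helper94_UQStep.card_skewA hσ hq] at c1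
  -- |K| through the projection to Fˣ
  have c2 := Subgroup.card_mul_index (proj1 h).ker
  rw [Subgroup.index_ker, MonoidHom.range_eq_top.mpr (proj1_surj hh h2 hp), Subgroup.card_top,
    Nat.card_units, hq] at c2
  have hK : Nat.card {p : ↥(LL h) // (p : Fˣ × (W ≃ₗ[F] W)).1 = 1} = Nat.card ↥(proj1 h).ker :=
    Nat.card_congr (Equiv.subtypeEquivRight (fun p => (MonoidHom.mem_ker (f := proj1 h)).symm))
  rw [hK]
  have hn := card_nzIso hσ hh hN h2 hq
  generalize Nat.card (NzIso h) = n at c1 hn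
  generalize Nat.card ↥(LL h) = L at c1 c2
  generalize Nat.card ↥(proj1 h).ker = K at c2
  obtain ⟨m, rfl⟩ : ∃ m, q = m + 1 := ⟨q - 1, by omega⟩
  have e1 : (m + 1) ^ 2 - 1 = m * (m + 2) := by
    have : (m + 1) ^ 2 = m * (m + 2) + 1 := by ring
    rw [this, Nat.add_sub_cancel]
  have e2 : m + 1 - 1 = m := Nat.add_sub_cancel m 1
  have hn' : n = (m + 2) ^ 2 * m := by
    have : (m + 1) ^ 3 + (m + 1) ^ 2 = (m + 2) ^ 2 * m + (1 + (m + 1)) := by ring
    omega
  rw [e1] at c2 ⊢
  rw [e2, hn'] at c1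
  have hL : L = (m + 1) * (m * (m + 2)) ^ 2 := by rw [← c1]; ring
  refine ⟨hL, ?_⟩
  have hpos : 0 < m * (m + 2) := by
    have : 1 ≤ m := by omega
    positivity
  have : K * (m * (m + 2)) = ((m + 1) * (m * (m + 2))) * (m * (m + 2)) := by
    rw [c2, hL]; ring
  exact Nat.eq_of_mul_eq_mul_right hpos this

end L

end Cfsg.Agent.Lib.Helper63_U4_LCARD
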