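import Mathlib
import Cfsg.Prelude.Def_Balance
import Cfsg.Agent.S0215
import Cfsg.Agent.Lib.Helper50_UniqueInv2
import Cfsg.Agent.Lib.Helper29_Local
import Cfsg.Agent.Lib.Helper21_Components

/-!
# Quasisimple groups of 2-rank one (helper64)

A quasisimple group `M` of even order and `2`-rank at most one has generalized quaternion Sylow
`2`-subgroups, and the unique involution of a Sylow `2`-subgroup is central in `M`
(Glauberman's Z*-theorem, landed as S0215).
-/

set_option autoImplicit false

namespace Cfsg.Agent.Lib.Helper64_ClassInv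

open Cfsg Cfsg.Agent.Lib.Helper50_UniqueInv

section aux

variable {M : Type*} [Group M] [Finite M]

/-- Two commuting involutions of a group of `2`-rank at most one are equal. -/
theorem eq_of_commute (hrk : PRankLE 2 1 M) {a b : M} (ha : a ^ 2 = 1) (hb : b ^ 2 = 1)
    (ha1 : a ≠ 1) (hb1 : b ≠ 1) (hab : a * b = b * a) : a = b := by
  by_contra hne
  set A : Subgroup M := Subgroup.closure {a, b} with hA
  have hcomm : ∀ x ∈ ({a, b} : Set M), ∀ y ∈ ({a, b} : Set M), x * y = y * x := by
    intro x hx y hy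
    rcases hx with rfl | rfl <;> rcases hy with rfl | rfl
    · rfl
    · exact hab
    · exact hab.symm
    · rfl
  have hAc : IsMulCommutative A := Subgroup.isMulCommutative_closure hcomm
  have hexp : ∀ x ∈ A, x ^ 2 = 1 := by
    intro x hx
    induction hx using Subgroup.closure_induction with
    | mem x hx =>
      rcases hx with rfl | rfl
      · exact ha
      · exact hb
    | one => simp
    | mul x y hx hy ihx ihy =>
      have hxy : x * y = y * x := setLike_mul_comm hx hy
      calc (x * y) ^ 2 = x * (y * x) * y := by rw [pow_two]; group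
        _ = x * (x * y) * y := by rw [← hxy]
        _ = x ^ 2 * y ^ 2 := by rw [pow_two, pow_two]; group
        _ = 1 := by rw [ihx, ihy, one_mul]
    | inv x hx ihx => rw [inv_pow, ihx, inv_one]
  have hcard := hrk A hAc hexp
  have haA : a ∈ A := Subgroup.subset_closure (by simp)
  have hbA : b ∈ A := Subgroup.subset_closure (by simp)
  have h3 : 2 < Nat.card A := by
    have : Fintype A := Fintype.ofFinite A
    rw [Nat.card_eq_fintype_card, Fintype.two_lt_card_iff]
    refine ⟨1, ⟨a, haA⟩, ⟨b, hbA⟩, ?_, ?_, ?_⟩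
    · intro h; exact ha1 (congrArg Subtype.val h).symm
    · intro h; exact hb1 (congrArg Subtype.val h).symm
    · intro h; exact hne (congrArg Subtype.val h)
  omega

/-- A Sylow `2`-subgroup of a group of even order contains a central involution. -/
theorem exists_central_involution (h2 : 2 ∣ Nat.card M) (S : Sylow 2 M) :
    ∃ z : ↥(S : Subgroup M), orderOf z = 2 ∧ ∀ s : ↥(S : Subgroup M), z * s = s * z := by
  have hS2 : IsPGroup 2 ↥(S : Subgroup M) := S.2
  have hne : (S : Subgroup M) ≠ ⊥ := Sylow.ne_bot_of_dvd_card S h2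
  have : Nontrivial ↥(S : Subgroup M) := (Subgroup.nontrivial_iff_ne_bot _).mpr hne
  have : Nontrivial (Subgroup.center ↥(S : Subgroup M)) := hS2.center_nontrivial
  have hc2 : IsPGroup 2 (Subgroup.center ↥(S : Subgroup M)) := hS2.to_subgroup _
  have hdvd : 2 ∣ Nat.card (Subgroup.center ↥(S : Subgroup M)) := by
    rcases hc2.card_eq_or_dvd with h | h
    · have := Finite.one_lt_card (α := Subgroup.center ↥(S : Subgroup M))
      omega
    · exact h
  have : Fact (Nat.Prime 2) := ⟨Nat.prime_two⟩
  obtain ⟨c, hc⟩ := exists_prime_orderOf_dvd_card' 2 hdvd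
  refine ⟨(c : ↥(S : Subgroup M)), ?_, ?_⟩
  · rw [Subgroup.orderOf_coe]; exact hc
  · intro s
    exact ((Subgroup.mem_center_iff.mp c.2) s).symm

/-- In a group of even order and `2`-rank at most one, a Sylow `2`-subgroup has a unique
involution. -/
theorem uniqueInvolution_sylow (hrk : PRankLE 2 1 M) (h2 : 2 ∣ Nat.card M) (S : Sylow 2 M) :
    UniqueInvolution ↥(S : Subgroup M) := by
  obtain ⟨z, hz, hzc⟩ := exists_central_involution h2 S
  have hz2 : z ^ 2 = 1 := by
    have h := pow_orderOf_eq_one z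
    rwa [hz] at h
  have hz1 : z ≠ 1 := by
    intro h; rw [h, orderOf_one] at hz; norm_num at hz
  have key : ∀ u : ↥(S : Subgroup M), u ^ 2 = 1 → u ≠ 1 → u = z := by
    intro u hu hu1
    apply Subtype.ext
    apply eq_of_commute hrk
    · exact_mod_cast congrArg Subtype.val hu
    · exact_mod_cast congrArg Subtype.val hz2
    · intro h; exact hu1 (Subtype.ext h)
    · intro h; exact hz1 (Subtype.ext h)
    · exact_mod_cast congrArg Subtype.val (hzc u).symm
  intro u v hu hv hu1 hv1
  rw [key u hu hu1, key v hv hv1]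

/-- A perfect group of even order has no cyclic Sylow `2`-subgroup. -/
theorem not_isCyclic_sylow (hperf : Group.IsPerfect M) (h2 : 2 ∣ Nat.card M) (S : Sylow 2 M) :
    ¬ IsCyclic ↥(S : Subgroup M) := by
  intro hc
  have hp : (Nat.card M).minFac = 2 := (Nat.minFac_eq_two_iff _).2 h2
  have hle := IsCyclic.normalizer_le_centralizer (P := S) hp hc
  have hcompl := MonoidHom.ker_transferSylow_isComplement' S hle
  have hcomm : ∀ s t : ↥(S : Subgroup M), s * t = t * s := by
    obtain ⟨g, hg⟩ := IsCyclic.exists_generator (α := ↥(S : Subgroup M))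
    intro s t
    obtain ⟨m, rfl⟩ := Subgroup.mem_zpowers_iff.mp (hg s)
    obtain ⟨n, rfl⟩ := Subgroup.mem_zpowers_iff.mp (hg t)
    rw [← zpow_add, ← zpow_add, add_comm]
  have hker : (MonoidHom.transferSylow S hle).ker = ⊤ := by
    rw [eq_top_iff, ← hperf.commutator_eq_top, commutator_def, Subgroup.commutator_le]
    intro a _ b _
    rw [MonoidHom.mem_ker, map_commutatorElement, commutatorElement_eq_one_iff_mul_comm]
    exact hcomm _ _
  have h1 := hcompl.card_mul_card
  rw [hker, Subgroup.card_top] at h1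
  have hpos : 0 < Nat.card M := Nat.card_pos
  have h3 : Nat.card (S : Subgroup M) = 1 := by
    have : Nat.card M * Nat.card (S : Subgroup M) = Nat.card M * 1 := by rw [h1, mul_one]
    exact Nat.eq_of_mul_eq_mul_left hpos this
  have hne : (S : Subgroup M) ≠ ⊥ := Sylow.ne_bot_of_dvd_card S h2
  exact hne (Subgroup.card_eq_one.mp h3)

/-- **Main lemma.** A quasisimple group of even order and `2`-rank at most one has a central
involution `z` lying in a generalized quaternion Sylow `2`-subgroup. -/
theorem exists_central_involution_quaternion (hq : IsQuasisimple M) (h2 : 2 ∣ Nat.card M)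
    (hrk : PRankLE 2 1 M) :
    ∃ z : M, orderOf z = 2 ∧ (∀ g : M, z * g = g * z) ∧
      ∃ S : Sylow 2 M, ∃ n : ℕ, Nonempty (↥(S : Subgroup M) ≃* QuaternionGroup (2 ^ (n + 1))) := by
  obtain ⟨S⟩ : Nonempty (Sylow 2 M) := inferInstance
  have hS2 : IsPGroup 2 ↥(S : Subgroup M) := S.2
  have huniq := uniqueInvolution_sylow hrk h2 S
  obtain ⟨z, hz, hzc⟩ := exists_central_involution h2 S
  have hz2 : z ^ 2 = 1 := by
    have h := pow_orderOf_eq_one z
    rwa [hz] at h
  have hz1 : z ≠ 1 := by
    intro h; rw [h, orderOf_one] at hz; norm_num at hz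
  have hzM : orderOf (z : M) = 2 := by rw [Subgroup.orderOf_coe]; exact hz
  -- isolation
  have hiso : ∀ g : M, g * (z : M) * g⁻¹ ∈ S → g * (z : M) * g⁻¹ = (z : M) := by
    intro g hg
    have h1 : (⟨g * (z : M) * g⁻¹, hg⟩ : ↥(S : Subgroup M)) = z := by
      apply huniq _ _ _ hz2 _ hz1
      · apply Subtype.ext
        show (g * (z : M) * g⁻¹) ^ 2 = 1
        have : ((z : M)) ^ 2 = 1 := by exact_mod_cast congrArg Subtype.val hz2
        rw [pow_two]
        calc g * (z : M) * g⁻¹ * (g * (z : M) * g⁻¹) = g * ((z : M) ^ 2) * g⁻¹ := by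
              rw [pow_two]; group
          _ = 1 := by rw [this]; group
      · intro h
        have h' : g * (z : M) * g⁻¹ = 1 := congrArg Subtype.val h
        apply hz1
        apply Subtype.ext
        have : (z : M) = g⁻¹ * (g * (z : M) * g⁻¹) * g := by group
        rw [this, h']; simp
    exact congrArg Subtype.val h1
  obtain ⟨N, hNn, hNodd, hN⟩ := Cfsg.Agent.S0215.result S (z : M) hzM z.2 hiso
  have hNtop : N ≠ ⊤ := by
    intro h
    rw [h, Subgroup.card_top] at hNodd
    rcases hNodd with ⟨k, hk⟩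
    omega
  have hNc : N ≤ Subgroup.center M := by
    rcases Cfsg.Agent.Lib.Helper21_Components.IsQuasisimple.normal_eq_top_or_le_center hq N with h | h
    · exact absurd h hNtop
    · exact h
  -- the commutator map `g ↦ z g z⁻¹ g⁻¹` is a homomorphism into the centre, hence trivial
  have hcen : ∀ g : M, (z : M) * g * (z : M)⁻¹ * g⁻¹ ∈ Subgroup.center M := fun g => hNc (hN g)
  let φ : M →* Subgroup.center M :=
    { toFun := fun g => ⟨(z : M) * g * (z : M)⁻¹ * g⁻¹, hcen g⟩
      map_one' := by apply Subtype.ext; simp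
      map_mul' := by
        intro g h
        apply Subtype.ext
        show (z : M) * (g * h) * (z : M)⁻¹ * (g * h)⁻¹ =
          ((z : M) * g * (z : M)⁻¹ * g⁻¹) * ((z : M) * h * (z : M)⁻¹ * h⁻¹)
        have hc := Subgroup.mem_center_iff.mp (hcen h) g⁻¹
        calc (z : M) * (g * h) * (z : M)⁻¹ * (g * h)⁻¹
            = (z : M) * g * (z : M)⁻¹ * (((z : M) * h * (z : M)⁻¹ * h⁻¹) * g⁻¹) := by group
          _ = (z : M) * g * (z : M)⁻¹ * (g⁻¹ * ((z : M) * h * (z : M)⁻¹ * h⁻¹)) := by rw [hc]
          _ = ((z : M) * g * (z : M)⁻¹ * g⁻¹) * ((z : M) * h * (z : M)⁻¹ * h⁻¹) := by group }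
  have hφ : φ.ker = ⊤ := by
    rw [eq_top_iff, ← hq.1.commutator_eq_top, commutator_def, Subgroup.commutator_le]
    intro a _ b _
    rw [MonoidHom.mem_ker, map_commutatorElement, commutatorElement_eq_one_iff_mul_comm]
    exact Subtype.ext (Subgroup.mem_center_iff.mp (φ b).2 (φ a))
  have hzcent : ∀ g : M, (z : M) * g = g * (z : M) := by
    intro g
    have hg : g ∈ φ.ker := by rw [hφ]; trivial
    rw [MonoidHom.mem_ker] at hg
    have h1 : (z : M) * g * (z : M)⁻¹ * g⁻¹ = 1 := congrArg Subtype.val hg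
    calc (z : M) * g = ((z : M) * g * (z : M)⁻¹ * g⁻¹) * (g * (z : M)) := by group
      _ = g * (z : M) := by rw [h1, one_mul]
  refine ⟨(z : M), hzM, hzcent, S, ?_⟩
  rcases Cfsg.Agent.Lib.Helper50_UniqueInv2.isCyclic_or_quaternion hS2 huniq with hc | ⟨k, hk, ⟨e⟩⟩
  · exact absurd hc (not_isCyclic_sylow hq.1 h2 S)
  · refine ⟨k - 1, ?_⟩
    have : k - 1 + 1 = k := by omega
    rw [this]
    exact ⟨e⟩

end aux

end Cfsg.Agent.Lib.Helper64_ClassInv
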