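import Mathlib
import Cfsg.Agent.Lib.Helper1_D8Defs
import Cfsg.Agent.Lib.Helper80_CharComplete

/-!
# S3716 market, package GRAM, core (`gram_aux`): orthogonality relations -> Gram matrix  (helper64)

All inputs from the other packages (VAL for `h` and for `hyp_symm h`, NCONJ, CENT, ORD6, FIX9) are
explicit hypotheses, so this file depends on the definitions only.
-/

set_option autoImplicit false
set_option linter.unusedSectionVars false
set_option linter.unusedSimpArgs false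
open scoped ComplexConjugate

namespace Cfsg.Agent.Lib.Helper64_D8_GRAMaux

open Cfsg Cfsg.Agent.Lib.Helper80_CharBasic Cfsg.Agent.Lib.Helper1_D8Defs

/-- bilinear expansion of a sum of products of two integer combinations of four functions -/
theorem sum_bilin {ι : Type*} (S : Finset ι) (p q r w : ι → ℤ) (α0 α1 α2 α3 β0 β1 β2 β3 : ℤ) :
    ∑ i ∈ S, (α0 * p i + α1 * q i + α2 * r i + α3 * w i) * (β0 * p i + β1 * q i + β2 * r i + β3 * w i) =
      α0 * β0 * ∑ i ∈ S, p i * p i + α1 * β1 * ∑ i ∈ S, q i * q i + α2 * β2 * ∑ i ∈ S, r i * r i +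
      α3 * β3 * ∑ i ∈ S, w i * w i +
      (α0 * β1 + α1 * β0) * ∑ i ∈ S, p i * q i + (α0 * β2 + α2 * β0) * ∑ i ∈ S, p i * r i +
      (α0 * β3 + α3 * β0) * ∑ i ∈ S, p i * w i + (α1 * β2 + α2 * β1) * ∑ i ∈ S, q i * r i +
      (α1 * β3 + α3 * β1) * ∑ i ∈ S, q i * w i + (α2 * β3 + α3 * β2) * ∑ i ∈ S, r i * w i := by
  simp only [Finset.mul_sum, ← Finset.sum_add_distrib]
  exact Finset.sum_congr rfl (fun i _ => by ring)

/-- linear expansion -/
theorem sum_lin {ι : Type*} (S : Finset ι) (d p q r w : ι → ℤ) (α0 α1 α2 α3 : ℤ) :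
    ∑ i ∈ S, d i * (α0 * p i + α1 * q i + α2 * r i + α3 * w i) =
      α0 * ∑ i ∈ S, d i * p i + α1 * ∑ i ∈ S, d i * q i + α2 * ∑ i ∈ S, d i * r i +
      α3 * ∑ i ∈ S, d i * w i := by
  simp only [Finset.mul_sum, ← Finset.sum_add_distrib]
  exact Finset.sum_congr rfl (fun i _ => by ring)

section grp
variable {G : Type*} [Group G] [Finite G]

theorem gram_aux {a b t2 s : G}
    (hval : ∀ χ : IrrCharacter G, ∃ (d : ℕ) (p r : ℤ), 0 < d ∧ (χ : G → ℂ) 1 = (d : ℂ) ∧
      (χ : G → ℂ) a = (p : ℂ) ∧ (χ : G → ℂ) (a * t2) = (r : ℂ) ∧ (3 : ℤ) ∣ (d : ℤ) - p ∧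
      (2 : ℤ) ∣ p - r)
    (hval' : ∀ χ : IrrCharacter G, ∃ (d : ℕ) (p r : ℤ), 0 < d ∧ (χ : G → ℂ) 1 = (d : ℂ) ∧
      (χ : G → ℂ) (a * b) = (p : ℂ) ∧ (χ : G → ℂ) (a * b * s) = (r : ℂ) ∧ (3 : ℤ) ∣ (d : ℤ) - p ∧
      (2 : ℤ) ∣ p - r)
    (hnc : ¬ IsConj a (a * b) ∧ ¬ IsConj a (a * t2) ∧ ¬ IsConj a (a * b * s) ∧
      ¬ IsConj (a * b) (a * t2) ∧ ¬ IsConj (a * b) (a * b * s) ∧ ¬ IsConj (a * t2) (a * b * s) ∧
      ¬ IsConj (1 : G) a ∧ ¬ IsConj (1 : G) (a * b) ∧ ¬ IsConj (1 : G) (a * t2) ∧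
      ¬ IsConj (1 : G) (a * b * s))
    (hca : Nat.card (Subgroup.centralizer ({a} : Set G)) = 18)
    (hcab : Nat.card (Subgroup.centralizer ({a * b} : Set G)) = 18)
    (hcu : Nat.card (Subgroup.centralizer ({a * t2} : Set G)) = 6)
    (hcv : Nat.card (Subgroup.centralizer ({a * b * s} : Set G)) = 6)
    (hfix : ∀ (χ : IrrCharacter G) (d : ℕ) (p q : ℤ), (χ : G → ℂ) 1 = (d : ℂ) →
      (χ : G → ℂ) a = (p : ℂ) → (χ : G → ℂ) (a * b) = (q : ℂ) → (9 : ℤ) ∣ (d : ℤ) + 4 * p + 4 * q) :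
    ∃ (d : IrrCharacter G → ℕ) (m : IrrCharacter G → Fin 4 → ℤ), Vals G a b t2 s d m ∧
      m (oneIrr G) = ![1, 0, 1, 0] ∧
      (∀ j k, ∑ᶠ χ : IrrCharacter G, m χ j * m χ k = gram j k) ∧
      (∀ j, ∑ᶠ χ : IrrCharacter G, (d χ : ℤ) * m χ j = 0) ∧
      ∑ᶠ χ : IrrCharacter G, d χ ^ 2 = Nat.card G ∧
      (∀ χ : IrrCharacter G, (9 : ℤ) ∣ (d χ : ℤ) + 4 * pv (m χ) + 4 * qv (m χ)) := by
  classical
  have := Fintype.ofFinite G
  let _ : Fintype (IrrCharacter G) := Fintype.ofFinite _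
  choose d p r hdpos hd hp hr h3p h2p using hval
  choose d' q w hdpos' hd' hq hw h3q h2q using hval'
  have hdd : ∀ χ, d' χ = d χ := by
    intro χ
    have : (d' χ : ℂ) = (d χ : ℂ) := by rw [← hd, ← hd']
    exact_mod_cast this
  simp only [hdd] at h3q
  -- the coordinates
  have hm1 : ∀ χ, (6 : ℤ) ∣ p χ + 2 * q χ + 3 * r χ := by
    intro χ
    have := h3p χ; have := h2p χ; have := h3q χ
    omega
  have hm1' : ∀ χ, (6 : ℤ) ∣ p χ + 2 * q χ - 3 * r χ := by
    intro χ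
    have := h3p χ; have := h2p χ; have := h3q χ
    omega
  have hm2 : ∀ χ, (6 : ℤ) ∣ 2 * p χ + q χ + 3 * w χ := by
    intro χ
    have := h3p χ; have := h2q χ; have := h3q χ
    omega
  have hm2' : ∀ χ, (6 : ℤ) ∣ 2 * p χ + q χ - 3 * w χ := by
    intro χ
    have := h3p χ; have := h2q χ; have := h3q χ
    omega
  choose x0 hx0 using hm1
  choose x1 hx1 using hm1'
  choose x2 hx2 using hm2
  choose x3 hx3 using hm2'
  set m : IrrCharacter G → Fin 4 → ℤ := fun χ => ![x0 χ, x1 χ, x2 χ, x3 χ] with hm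
  have hpv : ∀ χ, pv (m χ) = p χ := by
    intro χ
    simp only [pv, hm, Matrix.cons_val_zero, Matrix.cons_val_one, Matrix.cons_val]
    have := hx0 χ; have := hx1 χ; have := hx2 χ; have := hx3 χ
    omega
  have hqv : ∀ χ, qv (m χ) = q χ := by
    intro χ
    simp only [qv, hm, Matrix.cons_val_zero, Matrix.cons_val_one, Matrix.cons_val]
    have := hx0 χ; have := hx1 χ; have := hx2 χ; have := hx3 χ
    omega
  have hrv : ∀ χ, rv (m χ) = r χ := by
    intro χ
    simp only [rv, hm, Matrix.cons_val_zero, Matrix.cons_val_one, Matrix.cons_val]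
    have := hx0 χ; have := hx1 χ
    omega
  have hwv : ∀ χ, wv (m χ) = w χ := by
    intro χ
    simp only [wv, hm, Matrix.cons_val_zero, Matrix.cons_val_one, Matrix.cons_val]
    have := hx2 χ; have := hx3 χ
    omega
  have hvals : Vals G a b t2 s d m :=
    ⟨hdpos, hd, fun χ => by rw [hpv, hp], fun χ => by rw [hqv, hq], fun χ => by rw [hrv, hr],
      fun χ => by rw [hwv, hw]⟩
  -- the principal character
  have hone : m (oneIrr G) = ![1, 0, 1, 0] := by
    have e1 : ((oneIrr G : IrrCharacter G) : G → ℂ) a = 1 := rfl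
    have e2 : ((oneIrr G : IrrCharacter G) : G → ℂ) (a * b) = 1 := rfl
    have e3 : ((oneIrr G : IrrCharacter G) : G → ℂ) (a * t2) = 1 := rfl
    have e4 : ((oneIrr G : IrrCharacter G) : G → ℂ) (a * b * s) = 1 := rfl
    have h1 := hp (oneIrr G)
    have h2 := hq (oneIrr G)
    have h3 := hr (oneIrr G)
    have h4 := hw (oneIrr G)
    rw [e1] at h1
    rw [e2] at h2
    rw [e3] at h3
    rw [e4] at h4
    have h1' : (1 : ℤ) = p (oneIrr G) := by exact_mod_cast h1
    have h2' : (1 : ℤ) = q (oneIrr G) := by exact_mod_cast h2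
    have h3' : (1 : ℤ) = r (oneIrr G) := by exact_mod_cast h3
    have h4' : (1 : ℤ) = w (oneIrr G) := by exact_mod_cast h4
    have := hx0 (oneIrr G); have := hx1 (oneIrr G); have := hx2 (oneIrr G); have := hx3 (oneIrr G)
    have a0 : x0 (oneIrr G) = 1 := by omega
    have a1 : x1 (oneIrr G) = 0 := by omega
    have a2 : x2 (oneIrr G) = 1 := by omega
    have a3 : x3 (oneIrr G) = 0 := by omega
    simp only [hm, a0, a1, a2, a3]
  -- second orthogonality
  have o_pp := Cfsg.Agent.Lib.Helper80_CharComplete.second_orthogonality_sum a a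
  have o_qq := Cfsg.Agent.Lib.Helper80_CharComplete.second_orthogonality_sum (a * b) (a * b)
  have o_rr := Cfsg.Agent.Lib.Helper80_CharComplete.second_orthogonality_sum (a * t2) (a * t2)
  have o_ww := Cfsg.Agent.Lib.Helper80_CharComplete.second_orthogonality_sum (a * b * s) (a * b * s)
  have o_pq := Cfsg.Agent.Lib.Helper80_CharComplete.second_orthogonality_sum a (a * b)
  have o_pr := Cfsg.Agent.Lib.Helper80_CharComplete.second_orthogonality_sum a (a * t2)
  have o_pw := Cfsg.Agent.Lib.Helper80_CharComplete.second_orthogonality_sum a (a * b * s)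
  have o_qr := Cfsg.Agent.Lib.Helper80_CharComplete.second_orthogonality_sum (a * b) (a * t2)
  have o_qw := Cfsg.Agent.Lib.Helper80_CharComplete.second_orthogonality_sum (a * b) (a * b * s)
  have o_rw := Cfsg.Agent.Lib.Helper80_CharComplete.second_orthogonality_sum (a * t2) (a * b * s)
  have o_dp := Cfsg.Agent.Lib.Helper80_CharComplete.second_orthogonality_sum (1 : G) a
  have o_dq := Cfsg.Agent.Lib.Helper80_CharComplete.second_orthogonality_sum (1 : G) (a * b)
  have o_dr := Cfsg.Agent.Lib.Helper80_CharComplete.second_orthogonality_sum (1 : G) (a * t2)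
  have o_dw := Cfsg.Agent.Lib.Helper80_CharComplete.second_orthogonality_sum (1 : G) (a * b * s)
  obtain ⟨n1, n2, n3, n4, n5, n6, n7, n8, n9, n10⟩ := hnc
  rw [if_pos (IsConj.refl _), hca] at o_pp
  rw [if_pos (IsConj.refl _), hcab] at o_qq
  rw [if_pos (IsConj.refl _), hcu] at o_rr
  rw [if_pos (IsConj.refl _), hcv] at o_ww
  rw [if_neg n1] at o_pq
  rw [if_neg n2] at o_pr
  rw [if_neg n3] at o_pw
  rw [if_neg n4] at o_qr
  rw [if_neg n5] at o_qw
  rw [if_neg n6] at o_rw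
  rw [if_neg n7] at o_dp
  rw [if_neg n8] at o_dq
  rw [if_neg n9] at o_dr
  rw [if_neg n10] at o_dw
  simp only [hp, hq, hr, hw, hd, map_intCast, map_natCast] at o_pp o_qq o_rr o_ww o_pq o_pr o_pw
  simp only [hp, hq, hr, hw, hd, map_intCast, map_natCast] at o_qr o_qw o_rw o_dp o_dq o_dr o_dw
  have i_pp : ∑ χ : IrrCharacter G, p χ * p χ = 18 := by exact_mod_cast o_pp
  have i_qq : ∑ χ : IrrCharacter G, q χ * q χ = 18 := by exact_mod_cast o_qq
  have i_rr : ∑ χ : IrrCharacter G, r χ * r χ = 6 := by exact_mod_cast o_rr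
  have i_ww : ∑ χ : IrrCharacter G, w χ * w χ = 6 := by exact_mod_cast o_ww
  have i_pq : ∑ χ : IrrCharacter G, p χ * q χ = 0 := by exact_mod_cast o_pq
  have i_pr : ∑ χ : IrrCharacter G, p χ * r χ = 0 := by exact_mod_cast o_pr
  have i_pw : ∑ χ : IrrCharacter G, p χ * w χ = 0 := by exact_mod_cast o_pw
  have i_qr : ∑ χ : IrrCharacter G, q χ * r χ = 0 := by exact_mod_cast o_qr
  have i_qw : ∑ χ : IrrCharacter G, q χ * w χ = 0 := by exact_mod_cast o_qw
  have i_rw : ∑ χ : IrrCharacter G, r χ * w χ = 0 := by exact_mod_cast o_rw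
  have i_dp : ∑ χ : IrrCharacter G, (d χ : ℤ) * p χ = 0 := by exact_mod_cast o_dp
  have i_dq : ∑ χ : IrrCharacter G, (d χ : ℤ) * q χ = 0 := by exact_mod_cast o_dq
  have i_dr : ∑ χ : IrrCharacter G, (d χ : ℤ) * r χ = 0 := by exact_mod_cast o_dr
  have i_dw : ∑ χ : IrrCharacter G, (d χ : ℤ) * w χ = 0 := by exact_mod_cast o_dw
  -- six times the coordinates, as combinations of `p, q, r, w`
  let c : Fin 4 → Fin 4 → ℤ := ![![1, 2, 3, 0], ![1, 2, -3, 0], ![2, 1, 0, 3], ![2, 1, 0, -3]]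
  have h6 : ∀ χ j, 6 * m χ j = c j 0 * p χ + c j 1 * q χ + c j 2 * r χ + c j 3 * w χ := by
    intro χ j
    have := hx0 χ; have := hx1 χ; have := hx2 χ; have := hx3 χ
    fin_cases j <;> simp [hm, c] <;> omega
  have hgram : ∀ j k, ∑ χ : IrrCharacter G, m χ j * m χ k = gram j k := by
    intro j k
    have e : (36 : ℤ) * ∑ χ : IrrCharacter G, m χ j * m χ k =
        ∑ χ : IrrCharacter G, (c j 0 * p χ + c j 1 * q χ + c j 2 * r χ + c j 3 * w χ) *
          (c k 0 * p χ + c k 1 * q χ + c k 2 * r χ + c k 3 * w χ) := by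
      rw [Finset.mul_sum]
      refine Finset.sum_congr rfl (fun χ _ => ?_)
      rw [← h6 χ j, ← h6 χ k]; ring
    rw [sum_bilin, i_pp, i_qq, i_rr, i_ww, i_pq, i_pr, i_pw, i_qr, i_qw, i_rw] at e
    have : (36 : ℤ) * ∑ χ : IrrCharacter G, m χ j * m χ k = 36 * gram j k := by
      rw [e]
      fin_cases j <;> fin_cases k <;> simp [c, gram]
    linarith
  have hcol : ∀ j, ∑ χ : IrrCharacter G, (d χ : ℤ) * m χ j = 0 := by
    intro j
    have e : (6 : ℤ) * ∑ χ : IrrCharacter G, (d χ : ℤ) * m χ j =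
        ∑ χ : IrrCharacter G, (d χ : ℤ) * (c j 0 * p χ + c j 1 * q χ + c j 2 * r χ + c j 3 * w χ) := by
      rw [Finset.mul_sum]
      refine Finset.sum_congr rfl (fun χ _ => ?_)
      rw [← h6 χ j]; ring
    rw [sum_lin, i_dp, i_dq, i_dr, i_dw] at e
    linarith
  -- degrees
  have hsq := Cfsg.Agent.Lib.Helper80_CharComplete.sum_sq_degrees (G := G)
  rw [finsum_eq_sum_of_fintype] at hsq
  simp only [hd] at hsq
  have hF : ∑ χ : IrrCharacter G, d χ ^ 2 = Nat.card G := by exact_mod_cast hsq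
  refine ⟨d, m, hvals, hone, ?_, ?_, ?_, ?_⟩
  · intro j k; rw [finsum_eq_sum_of_fintype]; exact hgram j k
  · intro j; rw [finsum_eq_sum_of_fintype]; exact hcol j
  · rw [finsum_eq_sum_of_fintype]; exact hF
  · intro χ
    rw [hpv, hqv]
    exact hfix χ (d χ) (p χ) (q χ) (hd χ) (hp χ) (hq χ)

end grp

end Cfsg.Agent.Lib.Helper64_D8_GRAMaux
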