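import Mathlib
import Cfsg.Agent.Lib.Helper1_D8Defs
import Cfsg.Agent.Lib.Helper80_CharComplete
import Cfsg.Agent.Lib.Helper30_SelfCent3
import Cfsg.Agent.Lib.Helper16_PCongr
import Cfsg.Agent.Lib.Helper16_Char

/-!
# S3716 market, package VAL (`vals_a`): integrality of the values at `a` and `a t2`  (helper64)

`χ(a) = p ∈ ℤ` with `3 ∣ d - p` (value at a real element of order three), `χ(a t2) = r ∈ ℤ`
(multiplicity of the trivial character on `⟨a t2⟩ ≅ Z6` and on `⟨t2⟩`), and `2 ∣ p - r`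
(congruence of character values modulo a 2-modular ideal: `χ(t2 a) ≡ χ(a)`).
-/

set_option autoImplicit false
set_option linter.unusedSectionVars false
open scoped ComplexConjugate

namespace Cfsg.Agent.Lib.Helper64_D8_VAL

open Cfsg Cfsg.Agent.Lib.Helper80_CharBasic Cfsg.Agent.Lib.Helper1_D8Defs

/-- For every prime `p` there is a maximal ideal of the algebraic integers containing `p`
(local copy, to keep the import closure small). -/
theorem exists_pModular_loc (p : ℕ) (hp : p.Prime) : ∃ M : Ideal AlgInt, IsPModular p M := by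
  have hne : Ideal.span {(p : AlgInt)} ≠ ⊤ := by
    rw [Ne, Ideal.span_singleton_eq_top]
    intro hu
    obtain ⟨b, hb⟩ := hu.exists_right_inv
    have hbint : IsIntegral ℤ (b : ℂ) := b.2
    have hpC : (p : ℂ) ≠ 0 := by exact_mod_cast hp.ne_zero
    have hbval : (b : ℂ) = algebraMap ℚ ℂ (1 / (p : ℚ)) := by
      have h1 := congrArg (fun x : AlgInt => (x : ℂ)) hb
      simp only [MulMemClass.coe_mul, OneMemClass.coe_one] at h1
      have h2 : ((p : AlgInt) : ℂ) = (p : ℂ) := by simp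
      rw [h2] at h1
      rw [map_div₀, map_one, map_natCast]
      field_simp
      linear_combination h1
    rw [hbval] at hbint
    have h3 : IsIntegral ℤ (1 / (p : ℚ)) :=
      (isIntegral_algebraMap_iff (algebraMap ℚ ℂ).injective).1 hbint
    obtain ⟨m, hm⟩ := IsIntegrallyClosed.isIntegral_iff.mp h3
    have hpQ : (p : ℚ) ≠ 0 := by exact_mod_cast hp.ne_zero
    have h4 : (m : ℚ) * (p : ℚ) = 1 := by
      have : (algebraMap ℤ ℚ m : ℚ) = (m : ℚ) := rfl
      rw [← this, hm]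
      field_simp
    have h5 : m * (p : ℤ) = 1 := by exact_mod_cast h4
    have h6 : (p : ℤ) ∣ 1 := ⟨m, by rw [mul_comm]; exact h5.symm⟩
    have h7 : p ∣ 1 := by exact_mod_cast h6
    exact hp.one_lt.ne' (Nat.dvd_one.mp h7)
  obtain ⟨M, hM, hle⟩ := Ideal.exists_le_maximal _ hne
  exact ⟨M, hp, hM, hle (Ideal.subset_span (Set.mem_singleton _))⟩

/-- an integer lying in the local ideal of a `p`-modular ideal is divisible by `p` -/
theorem int_dvd_of_memLocalIdeal {p : ℕ} {M : Ideal AlgInt} (hM : IsPModular p M) (z : ℤ)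
    (hz : MemLocalIdeal M (z : ℂ)) : (p : ℤ) ∣ z := by
  by_contra hnd
  have hn : ¬ p ∣ z.natAbs := by
    intro hd
    exact hnd (Int.natCast_dvd.mpr hd)
  apply Cfsg.Agent.Lib.Helper16_Char.natCast_not_memLocalIdeal p M hM z.natAbs hn
  rcases Int.natAbs_eq z with h | h
  · have h' : ((z.natAbs : ℕ) : ℤ) = z := h.symm
    have : ((z.natAbs : ℕ) : ℂ) = (z : ℂ) := by
      rw [← Int.cast_natCast (R := ℂ) z.natAbs, h']
    rw [this]; exact hz
  · have h' : ((z.natAbs : ℕ) : ℤ) = -z := by omega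
    have : ((z.natAbs : ℕ) : ℂ) = -(z : ℂ) := by
      rw [← Int.cast_natCast (R := ℂ) z.natAbs, h', Int.cast_neg]
    rw [this]; exact Cfsg.Agent.Lib.Helper16_Char.memLocalIdeal_neg M hz

section

variable {G : Type*} [Group G] [Finite G]

/-- the sum of a function over a cyclic subgroup -/
theorem sum_zpowers_range {y : G} [Fintype (Subgroup.zpowers y)] (f : G → ℂ) :
    ∑ u : Subgroup.zpowers y, f (u : G) = ∑ i ∈ Finset.range (orderOf y), f (y ^ i) := by
  have hfin : IsOfFinOrder y := isOfFinOrder_of_finite y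
  rw [← Equiv.sum_comp (finEquivZPowers hfin) (fun u : Subgroup.zpowers y => f (u : G))]
  simp only [finEquivZPowers_apply]
  rw [Fin.sum_univ_eq_sum_range (fun i => f (y ^ i)) (orderOf y)]

/-- the multiplicity of the trivial character in the restriction of a character to a cyclic
subgroup -/
theorem sum_zpowers_nat {χ : G → ℂ} (hχ : IsCharacter G χ) (y : G) :
    ∃ n : ℕ, ∑ i ∈ Finset.range (orderOf y), χ (y ^ i) = (orderOf y : ℂ) * (n : ℂ) := by
  classical
  have := Fintype.ofFinite (Subgroup.zpowers y)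
  have hcard : Nat.card (Subgroup.zpowers y) = orderOf y := Nat.card_zpowers y
  have hχP : IsCharacter (Subgroup.zpowers y) (fun u : Subgroup.zpowers y => χ u) :=
    Cfsg.Agent.Lib.Helper75_CharArith.isCharacter_restrict (Subgroup.zpowers y) hχ
  have h1P : IsCharacter (Subgroup.zpowers y) (fun _ : Subgroup.zpowers y => (1 : ℂ)) :=
    Cfsg.Agent.Lib.Helper3_CharBridge.isCharacter_of_isIrrCharacter
      (Cfsg.Agent.Lib.Helper80_CharBasic.isIrrCharacter_one _)
  obtain ⟨n, hn⟩ := Cfsg.Agent.Lib.Helper75_CharArith.classInner_isCharacter_nat hχP h1P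
  unfold classInner at hn
  rw [hcard] at hn
  refine ⟨n, ?_⟩
  rw [← sum_zpowers_range χ]
  have h2 : ∑ u : Subgroup.zpowers y, χ (u : G) * conj (1 : ℂ) =
      ∑ u : Subgroup.zpowers y, χ (u : G) := by
    refine Finset.sum_congr rfl fun u _ => ?_
    simp
  rw [h2] at hn
  rw [← hn]
  have h0 : (orderOf y : ℂ) ≠ 0 := by
    have := orderOf_pos y
    exact_mod_cast this.ne'
  field_simp

variable {M : Subgroup G} {a b t1 t2 s : G}

theorem t2_comm_a (h : Hyp G M a b t1 t2 s) : t2 * a = a * t2 := by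
  have := h.t2a
  calc t2 * a = (t2 * a * t2⁻¹) * t2 := by group
    _ = a * t2 := by rw [this]

theorem a_cube (h : Hyp G M a b t1 t2 s) : a ^ 3 = 1 := by
  rw [← h.oa]; exact pow_orderOf_eq_one a

theorem b_cube (h : Hyp G M a b t1 t2 s) : b ^ 3 = 1 := by
  rw [← h.ob]; exact pow_orderOf_eq_one b

theorem a_ne_one (h : Hyp G M a b t1 t2 s) : a ≠ 1 := by
  intro h1
  have := h.oa
  rw [h1, orderOf_one] at this
  omega

theorem t2_ne_one (h : Hyp G M a b t1 t2 s) : t2 ≠ 1 := by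
  intro h1
  have h2 := h.t2b
  rw [h1] at h2
  have h3 : b = b⁻¹ := by simpa using h2
  have h4 : b ^ 2 = 1 := by
    rw [sq]
    nth_rewrite 1 [h3]
    group
  have h5 := orderOf_dvd_of_pow_eq_one h4
  rw [h.ob] at h5
  omega

theorem order_t2 (h : Hyp G M a b t1 t2 s) : orderOf t2 = 2 := by
  apply orderOf_eq_prime
  · rw [sq]; exact h.t2sq
  · exact t2_ne_one h

theorem u_sq (h : Hyp G M a b t1 t2 s) : (a * t2) ^ 2 = a⁻¹ := by
  have hc := t2_comm_a h
  have h3 := a_cube h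
  calc (a * t2) ^ 2 = a * (t2 * a) * t2 := by rw [sq]; group
    _ = a * (a * t2) * t2 := by rw [hc]
    _ = a ^ 2 * (t2 * t2) := by rw [sq]; simp only [mul_assoc]
    _ = a ^ 2 := by rw [h.t2sq, mul_one]
    _ = a⁻¹ := by
      apply eq_inv_of_mul_eq_one_left
      rw [← pow_succ]; exact h3

theorem u_cube (h : Hyp G M a b t1 t2 s) : (a * t2) ^ 3 = t2 := by
  rw [pow_succ, u_sq h]; group

theorem u_four (h : Hyp G M a b t1 t2 s) : (a * t2) ^ 4 = a := by
  have h3 := a_cube h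
  have : (a * t2) ^ 4 = ((a * t2) ^ 2) ^ 2 := by rw [← pow_mul]
  rw [this, u_sq h]
  calc (a⁻¹) ^ 2 = (a ^ 3)⁻¹ * a := by group
    _ = a := by rw [h3]; group

theorem u_five (h : Hyp G M a b t1 t2 s) : (a * t2) ^ 5 = (a * t2)⁻¹ := by
  have h6 : (a * t2) ^ 6 = 1 := by
    have : (a * t2) ^ 6 = ((a * t2) ^ 3) ^ 2 := by rw [← pow_mul]
    rw [this, u_cube h, sq, h.t2sq]
  apply eq_inv_of_mul_eq_one_left
  rw [← pow_succ]; exact h6

theorem order_u (h : Hyp G M a b t1 t2 s) : orderOf (a * t2) = 6 := by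
  have h6 : (a * t2) ^ 6 = 1 := by
    have : (a * t2) ^ 6 = ((a * t2) ^ 3) ^ 2 := by rw [← pow_mul]
    rw [this, u_cube h, sq, h.t2sq]
  have hd := orderOf_dvd_of_pow_eq_one h6
  have hle : orderOf (a * t2) ≤ 6 := Nat.le_of_dvd (by norm_num) hd
  have hpos := orderOf_pos (a * t2)
  have h2 : ¬ orderOf (a * t2) ∣ 2 := by
    intro hd2
    have := orderOf_dvd_iff_pow_eq_one.mp hd2
    rw [u_sq h] at this
    exact a_ne_one h (inv_eq_one.mp this)
  have h3 : ¬ orderOf (a * t2) ∣ 3 := by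
    intro hd3
    have := orderOf_dvd_iff_pow_eq_one.mp hd3
    rw [u_cube h] at this
    exact t2_ne_one h this
  interval_cases hk : orderOf (a * t2)
  · exact absurd (one_dvd 2) h2
  · exact absurd (dvd_refl 2) h2
  · exact absurd (dvd_refl 3) h3
  · norm_num at hd
  · norm_num at hd
  · rfl

theorem conj_a_inv (h : Hyp G M a b t1 t2 s) : IsConj a a⁻¹ := isConj_iff.mpr ⟨t1, h.t1a⟩

theorem conj_u_inv (h : Hyp G M a b t1 t2 s) : IsConj (a * t2) (a * t2)⁻¹ := by
  refine isConj_iff.mpr ⟨t1, ?_⟩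
  have hc := t2_comm_a h
  have h12 : t1 * t2 * t1⁻¹ = t2 := by
    calc t1 * t2 * t1⁻¹ = t2 * t1 * t1⁻¹ := by rw [h.t12]
      _ = t2 := by group
  have ht2i : t2⁻¹ = t2 := by
    apply inv_eq_of_mul_eq_one_left; exact h.t2sq
  calc t1 * (a * t2) * t1⁻¹ = (t1 * a * t1⁻¹) * (t1 * t2 * t1⁻¹) := by group
    _ = a⁻¹ * t2 := by rw [h.t1a, h12]
    _ = (t2 * a)⁻¹ := by rw [mul_inv_rev, ht2i]
    _ = (a * t2)⁻¹ := by rw [hc]

/-! ### VAL: integrality of the values at `a` and `a t2` -/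
theorem vals_a (h : Hyp G M a b t1 t2 s) (χ : IrrCharacter G) :
    ∃ (d : ℕ) (p r : ℤ), 0 < d ∧ (χ : G → ℂ) 1 = (d : ℂ) ∧ (χ : G → ℂ) a = (p : ℂ) ∧
      (χ : G → ℂ) (a * t2) = (r : ℂ) ∧ (3 : ℤ) ∣ (d : ℤ) - p ∧ (2 : ℤ) ∣ p - r := by
  obtain ⟨d, hdpos, hd⟩ := irr_apply_one χ
  have hχ : IsCharacter G (χ : G → ℂ) :=
    Cfsg.Agent.Lib.Helper3_CharBridge.isCharacter_of_isIrrCharacter χ.2
  obtain ⟨p, d', hp, hd', h3⟩ :=
    Cfsg.Agent.Lib.Helper30_SelfCent3.value_at_three hχ h.oa (conj_a_inv h)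
  have hdd : d' = d := by
    have : (d' : ℂ) = (d : ℂ) := by rw [← hd', hd]
    exact_mod_cast this
  rw [hdd] at h3
  -- the value at `t2`
  obtain ⟨k0, hk0⟩ := sum_zpowers_nat hχ t2
  rw [order_t2 h] at hk0
  simp only [Finset.sum_range_succ, Finset.sum_range_zero, zero_add, pow_zero, pow_one] at hk0
  -- the value at `u = a t2`
  obtain ⟨n0, hn0⟩ := sum_zpowers_nat hχ (a * t2)
  rw [order_u h] at hn0
  simp only [Finset.sum_range_succ, Finset.sum_range_zero, zero_add, pow_zero, pow_one] at hn0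
  rw [u_sq h, u_cube h, u_four h, u_five h] at hn0
  have e1 : (χ : G → ℂ) a⁻¹ = (χ : G → ℂ) a := (irr_isConj χ (conj_a_inv h)).symm
  have e2 : (χ : G → ℂ) (a * t2)⁻¹ = (χ : G → ℂ) (a * t2) := (irr_isConj χ (conj_u_inv h)).symm
  rw [e1, e2, hd, hp] at hn0
  rw [hd] at hk0
  have hr : (χ : G → ℂ) (a * t2) = ((3 * (n0 : ℤ) - p - (k0 : ℤ) : ℤ) : ℂ) := by
    push_cast
    push_cast at hn0 hk0
    linear_combination (1 / 2 : ℂ) * hn0 - (1 / 2 : ℂ) * hk0
  refine ⟨d, p, 3 * (n0 : ℤ) - p - (k0 : ℤ), hdpos, hd, hp, hr, h3, ?_⟩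
  -- the congruence modulo 2
  obtain ⟨I, hI⟩ := exists_pModular_loc 2 Nat.prime_two
  have hcong := Cfsg.Agent.Lib.Helper16_PCongr.memLocalIdeal_irr_mul_sub hI χ (t2_comm_a h)
    (k := 1) (by rw [pow_one]; exact order_t2 h)
  rw [t2_comm_a h, hr, hp] at hcong
  have hcong' : MemLocalIdeal I (((3 * (n0 : ℤ) - p - (k0 : ℤ)) - p : ℤ) : ℂ) := by
    push_cast
    push_cast at hcong
    exact hcong
  have h2 := int_dvd_of_memLocalIdeal hI _ hcong'
  have h2' : (2 : ℤ) ∣ (3 * (n0 : ℤ) - p - (k0 : ℤ)) - p := by exact_mod_cast h2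
  omega

end

end Cfsg.Agent.Lib.Helper64_D8_VAL
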