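import Mathlib
import Cfsg.Agent.Lib.Helper1_D8Defs
import Cfsg.Agent.Lib.Helper80_CharComplete
import Cfsg.Agent.Lib.Helper64_D8_GRAMaux
import Cfsg.Agent.Lib.Helper64_D8_VAL
import Cfsg.Agent.Lib.Helper86_D8_SYMM
import Cfsg.Agent.Lib.Helper10_D8_CENT
import Cfsg.Agent.Lib.Helper91_D8_NCONJ
import Cfsg.Agent.Lib.Helper42_D8_FIX9
import Cfsg.Agent.Lib.Helper65_D8_ORD6aux

/-!
# S3716 market, package GRAM (`gram_data`), verbatim wrapper  (helper64)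

`gram_aux` (Helper64_D8_GRAMaux) fed with VAL (for `h` and `hyp_symm h`), NCONJ, CENT, ORD6 (aux version
`order_six_of` + `cent_a`) and FIX9.
-/

set_option autoImplicit false
open scoped ComplexConjugate

namespace Cfsg.Agent.Lib.Helper64_D8_GRAM

open Cfsg Cfsg.Agent.Lib.Helper80_CharBasic Cfsg.Agent.Lib.Helper1_D8Defs

section grp
variable {G : Type*} [Group G] [Finite G]
variable {M : Subgroup G} {a b t1 t2 s : G}

/-! ### GRAM -/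
theorem gram_data (h : Hyp G M a b t1 t2 s) :
    ∃ (d : IrrCharacter G → ℕ) (m : IrrCharacter G → Fin 4 → ℤ), Vals G a b t2 s d m ∧
      m (oneIrr G) = ![1, 0, 1, 0] ∧
      (∀ j k, ∑ᶠ χ : IrrCharacter G, m χ j * m χ k = gram j k) ∧
      (∀ j, ∑ᶠ χ : IrrCharacter G, (d χ : ℤ) * m χ j = 0) ∧
      ∑ᶠ χ : IrrCharacter G, d χ ^ 2 = Nat.card G ∧
      (∀ χ : IrrCharacter G, (9 : ℤ) ∣ (d χ : ℤ) + 4 * pv (m χ) + 4 * qv (m χ)) := by
  have h' := Cfsg.Agent.Lib.Helper86_D8_SYMM.hyp_symm h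
  have hc := Cfsg.Agent.Lib.Helper10_D8_CENT.cent_a h
  have hc' := Cfsg.Agent.Lib.Helper10_D8_CENT.cent_a h'
  have ho := Cfsg.Agent.Lib.Helper65_D8_ORD6aux.order_six_of h hc.2
  have ho' := Cfsg.Agent.Lib.Helper65_D8_ORD6aux.order_six_of h' hc'.2
  exact Cfsg.Agent.Lib.Helper64_D8_GRAMaux.gram_aux
    (fun χ => Cfsg.Agent.Lib.Helper64_D8_VAL.vals_a h χ)
    (fun χ => Cfsg.Agent.Lib.Helper64_D8_VAL.vals_a h' χ)
    (Cfsg.Agent.Lib.Helper91_D8_NCONJ.not_conj h)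
    hc.1 hc'.1 ho.2.2.2.2.1 ho'.2.2.2.2.1
    (fun χ d p q h1 hp hq => Cfsg.Agent.Lib.Helper42_D8_FIX9.fix9 h χ d p q h1 hp hq)

end grp

end Cfsg.Agent.Lib.Helper64_D8_GRAM
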