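import Mathlib
import Cfsg.Agent.Lib.Helper34_DG_Defs

/-!
# S3670 package DG-K14 (helper64, architect helper34)

`SU₃(3)` has at least `14` conjugacy classes: a class invariant (trace and four power flags of the
underlying matrix) takes `14` different values on explicit matrices.
-/

set_option autoImplicit false
set_option maxHeartbeats 400000

namespace Cfsg.Agent.Lib.Helper64_DG_K14

open Matrix Cfsg Cfsg.Agent.Lib.Helper61_F9 Cfsg.Agent.Lib.Helper61_SU33Spec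
open Cfsg.Agent.Lib.Helper34_DG_Defs

/-- explicit trace -/
def tr3 (A : M3) : F9 := A 0 0 + A 1 1 + A 2 2

theorem tr3_eq (A : M3) : tr3 A = A.trace := by
  rw [Matrix.trace_fin_three]; rfl

/-- `A - 1`, explicitly -/
def sub1 (A : M3) : M3 := fun i j => A i j - (if i = j then 1 else 0)

theorem sub1_eq (A : M3) : sub1 A = A - 1 := by
  ext i j
  simp [sub1, Matrix.one_apply]

/-- the class invariant, computably -/
def invM (A : M3) : F9 × Bool × Bool × Bool × Bool :=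
  (tr3 A, decide (sq3 A = 1), decide (mul3 (sq3 A) A = 1), decide (sq3 (sq3 A) = 1),
    decide (sq3 (sub1 A) = 0))

theorem conj_pow_mat {H H' : M3} (h2 : H' * H = 1) (A : M3) (k : ℕ) :
    (H * A * H') ^ k * H = H * A ^ k := by
  induction k with
  | zero => simp
  | succ k ih =>
    rw [pow_succ', mul_assoc, ih, pow_succ']
    calc H * A * H' * (H * A ^ k) = H * A * (H' * H) * A ^ k := by simp only [mul_assoc]
      _ = H * (A * A ^ k) := by rw [h2, mul_one, mul_assoc]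

theorem pow_eq_one_of_conj {H H' : M3} (h1 : H * H' = 1) (h2 : H' * H = 1) (A : M3) (k : ℕ)
    (hA : A ^ k = 1) : (H * A * H') ^ k = 1 := by
  have h := conj_pow_mat h2 A k
  rw [hA, mul_one] at h
  calc (H * A * H') ^ k = (H * A * H') ^ k * (H * H') := by rw [h1, mul_one]
    _ = H * H' := by rw [← mul_assoc, h]
    _ = 1 := h1

theorem pow_eq_one_conj_iff {H H' : M3} (h1 : H * H' = 1) (h2 : H' * H = 1) (A : M3) (k : ℕ) :
    (H * A * H') ^ k = 1 ↔ A ^ k = 1 := by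
  constructor
  · intro h
    have := pow_eq_one_of_conj h2 h1 (H * A * H') k h
    have e : H' * (H * A * H') * H = A := by
      calc H' * (H * A * H') * H = (H' * H) * A * (H' * H) := by simp only [mul_assoc]
        _ = A := by rw [h2, one_mul, mul_one]
    rwa [e] at this
  · exact pow_eq_one_of_conj h1 h2 A k

theorem sq_sub_one_conj_iff {H H' : M3} (h1 : H * H' = 1) (h2 : H' * H = 1) (A : M3) :
    (H * A * H' - 1) ^ 2 = 0 ↔ (A - 1) ^ 2 = 0 := by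
  have key : ∀ (K K' : M3), K * K' = 1 → K' * K = 1 → ∀ B : M3, (B - 1) ^ 2 = 0 →
      (K * B * K' - 1) ^ 2 = 0 := by
    intro K K' k1 k2 B hB
    have e : K * B * K' - 1 = K * (B - 1) * K' := by
      rw [mul_sub, sub_mul, mul_one, k1]
    rw [e, pow_two]
    calc K * (B - 1) * K' * (K * (B - 1) * K') = K * ((B - 1) * (K' * K) * (B - 1)) * K' := by
          simp only [mul_assoc]
      _ = K * (B - 1) ^ 2 * K' := by rw [k2, mul_one, pow_two]
      _ = 0 := by rw [hB, mul_zero, zero_mul]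
  constructor
  · intro h
    have := key H' H h2 h1 (H * A * H') h
    have e : H' * (H * A * H') * H = A := by
      calc H' * (H * A * H') * H = (H' * H) * A * (H' * H) := by simp only [mul_assoc]
        _ = A := by rw [h2, one_mul, mul_one]
    rwa [e] at this
  · exact key H H' h1 h2 A

theorem invM_conj {H H' : M3} (h1 : H * H' = 1) (h2 : H' * H = 1) (A : M3) :
    invM (H * A * H') = invM A := by
  have t : tr3 (H * A * H') = tr3 A := by
    rw [tr3_eq, tr3_eq, Matrix.trace_mul_comm, ← mul_assoc, h2, one_mul]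
  have p2 := pow_eq_one_conj_iff h1 h2 A 2
  have p3 := pow_eq_one_conj_iff h1 h2 A 3
  have p4 := pow_eq_one_conj_iff h1 h2 A 4
  have p5 := sq_sub_one_conj_iff h1 h2 A
  have c2 : decide (sq3 (H * A * H') = 1) = decide (sq3 A = 1) := by
    rw [decide_eq_decide, sq3_eq, sq3_eq]; exact p2
  have c3 : decide (mul3 (sq3 (H * A * H')) (H * A * H') = 1) = decide (mul3 (sq3 A) A = 1) := by
    rw [decide_eq_decide, mul3_eq, mul3_eq, sq3_eq, sq3_eq, ← pow_succ, ← pow_succ]; exact p3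
  have c4 : decide (sq3 (sq3 (H * A * H')) = 1) = decide (sq3 (sq3 A) = 1) := by
    rw [decide_eq_decide, sq3_eq, sq3_eq, sq3_eq, sq3_eq, ← pow_mul, ← pow_mul]; exact p4
  have c5 : decide (sq3 (sub1 (H * A * H')) = 0) = decide (sq3 (sub1 A) = 0) := by
    rw [decide_eq_decide, sq3_eq, sq3_eq, sub1_eq, sub1_eq]; exact p5
  unfold invM
  rw [t, c2, c3, c4, c5]

/-- the invariant of an element of the group -/
def invG (g : G9) : F9 × Bool × Bool × Bool × Bool := invM (mat g)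

theorem invG_conj (c g : G9) : invG (c * g * c⁻¹) = invG g := by
  have h1 : mat c * mat c⁻¹ = 1 := by
    rw [← mat_mul, mul_inv_cancel]; rfl
  have h2 : mat c⁻¹ * mat c = 1 := by
    rw [← mat_mul, inv_mul_cancel]; rfl
  rw [invG, mat_mul, mat_mul]
  exact invM_conj h1 h2 (mat g)

/-- fourteen representatives -/
def reps : Fin 14 → M3 := ![
  !![F9.mk 1 0, F9.mk 0 0, F9.mk 0 0; F9.mk 0 0, F9.mk 1 0, F9.mk 0 0; F9.mk 0 0, F9.mk 0 0, F9.mk 1 0],
  !![F9.mk 0 0, F9.mk 0 0, F9.mk 0 2; F9.mk 0 0, F9.mk 2 0, F9.mk 0 0; F9.mk 0 1, F9.mk 0 0, F9.mk 0 0],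
  !![F9.mk 0 0, F9.mk 0 1, F9.mk 0 0; F9.mk 0 0, F9.mk 0 0, F9.mk 2 0; F9.mk 0 1, F9.mk 0 0, F9.mk 0 0],
  !![F9.mk 1 0, F9.mk 0 0, F9.mk 0 0; F9.mk 0 0, F9.mk 1 1, F9.mk 2 1; F9.mk 0 0, F9.mk 1 1, F9.mk 1 2],
  !![F9.mk 0 0, F9.mk 0 0, F9.mk 0 1; F9.mk 0 0, F9.mk 1 0, F9.mk 0 0; F9.mk 0 1, F9.mk 0 0, F9.mk 0 0],
  !![F9.mk 0 2, F9.mk 0 0, F9.mk 0 0; F9.mk 0 0, F9.mk 0 2, F9.mk 0 0; F9.mk 0 0, F9.mk 0 0, F9.mk 2 0],
  !![F9.mk 0 1, F9.mk 0 0, F9.mk 0 0; F9.mk 0 0, F9.mk 0 1, F9.mk 0 0; F9.mk 0 0, F9.mk 0 0, F9.mk 2 0],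
  !![F9.mk 0 1, F9.mk 0 1, F9.mk 2 2; F9.mk 0 1, F9.mk 2 1, F9.mk 2 0; F9.mk 1 1, F9.mk 1 0, F9.mk 0 1],
  !![F9.mk 0 0, F9.mk 1 1, F9.mk 1 1; F9.mk 0 0, F9.mk 1 1, F9.mk 2 2; F9.mk 0 1, F9.mk 0 0, F9.mk 0 0],
  !![F9.mk 0 0, F9.mk 1 1, F9.mk 2 1; F9.mk 0 0, F9.mk 1 2, F9.mk 2 2; F9.mk 0 1, F9.mk 0 0, F9.mk 0 0],
  !![F9.mk 0 0, F9.mk 0 0, F9.mk 1 0; F9.mk 0 0, F9.mk 0 1, F9.mk 0 0; F9.mk 0 1, F9.mk 0 0, F9.mk 0 0],
  !![F9.mk 0 0, F9.mk 0 0, F9.mk 2 0; F9.mk 0 0, F9.mk 0 2, F9.mk 0 0; F9.mk 0 1, F9.mk 0 0, F9.mk 0 0],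
  !![F9.mk 0 0, F9.mk 1 1, F9.mk 1 2; F9.mk 0 0, F9.mk 2 1, F9.mk 2 2; F9.mk 0 1, F9.mk 0 0, F9.mk 0 0],
  !![F9.mk 0 0, F9.mk 1 1, F9.mk 2 2; F9.mk 0 0, F9.mk 2 2, F9.mk 2 2; F9.mk 0 1, F9.mk 0 0, F9.mk 0 0]]

theorem reps_ok : ∀ i : Fin 14, det3 (reps i) = 1 ∧ Cols (reps i) := by
  decide +kernel

theorem reps_inj : ∀ i j : Fin 14, invM (reps i) = invM (reps j) → i = j := by
  decide +kernel

/-- the representatives as group elements -/
def repG (i : Fin 14) : G9 := mkSU (reps i) (reps_ok i).1 (reps_ok i).2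

theorem fourteen_le_card_conjClasses : 14 ≤ Nat.card (ConjClasses G9) := by
  have hinj : Function.Injective (fun i : Fin 14 => ConjClasses.mk (repG i)) := by
    intro i j hij
    rw [ConjClasses.mk_eq_mk_iff_isConj, isConj_iff] at hij
    obtain ⟨c, hc⟩ := hij
    apply reps_inj
    have h := invG_conj c (repG i)
    rw [hc] at h
    exact h.symm
  have := Nat.card_le_card_of_injective _ hinj
  simpa using this

end Cfsg.Agent.Lib.Helper64_DG_K14
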