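import Mathlib
import Cfsg.Agent.Lib.Helper34_DG_Defs

/-!
# S3670 package DG-N7 (helper64, architect helper34)

The inertial index of `⟨g7⟩` in `SU₃(3)` is `3`: the image of `N(P) → Aut(P)` (`P = ⟨g7⟩` cyclic of
order `7`, `|Aut P| = 6`) contains an element of order `3` (conjugation by an explicit `h` squares
`g7`) and not the inversion (traces).
-/

set_option autoImplicit false
set_option maxHeartbeats 400000
set_option linter.unusedVariables false

namespace Cfsg.Agent.Lib.Helper64_DG_N7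

open Matrix Cfsg Cfsg.Agent.Lib.Helper61_F9 Cfsg.Agent.Lib.Helper61_SU33Spec
open Cfsg.Agent.Lib.Helper34_DG_Defs

/-- explicit trace -/
def tr3 (A : M3) : F9 := A 0 0 + A 1 1 + A 2 2

theorem tr3_eq (A : M3) : tr3 A = A.trace := by
  rw [Matrix.trace_fin_three]; rfl

/-- the matrix squaring `m7` -/
def hM : M3 := !![F9.mk 0 1, F9.mk 2 1, F9.mk 2 0; F9.mk 1 0, F9.mk 0 1, F9.mk 1 1;
  F9.mk 1 2, F9.mk 0 1, F9.mk 0 1]

/-- `m7 ^ 6` -/
def m7inv : M3 := mul3 (sq3 (sq3 m7)) (sq3 m7)

theorem hM_facts : det3 hM = 1 ∧ Cols hM ∧ mul3 hM m7 = mul3 (sq3 m7) hM ∧ tr3 m7inv ≠ tr3 m7 ∧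
    sq3 m7 ≠ m7 := by
  decide +kernel

/-- the element `h` -/
def hG : G9 := mkSU hM hM_facts.1 hM_facts.2.1

theorem hG_conj : hG * g7 * hG⁻¹ = g7 * g7 := by
  rw [mul_inv_eq_iff_eq_mul]
  apply mat_injective
  rw [mat_mul, mat_mul, mat_mul]
  change hM * m7 = m7 * m7 * hM
  have := hM_facts.2.2.1
  rw [mul3_eq, mul3_eq, sq3, mul3_eq] at this
  exact this

theorem g7_sq_ne : g7 * g7 ≠ g7 := by
  intro h
  have := congrArg mat h
  rw [mat_mul] at this
  change m7 * m7 = m7 at this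
  apply hM_facts.2.2.2.2
  rw [sq3, mul3_eq]
  exact this

theorem g7_pow7 : g7 ^ 7 = 1 := by
  rw [← orderOf_g7]; exact pow_orderOf_eq_one g7

theorem trace_inv_ne : tr3 (mat g7⁻¹) ≠ tr3 (mat g7) := by
  have h1 : mat g7⁻¹ * m7 = 1 := by
    change mat g7⁻¹ * mat g7 = 1
    rw [← mat_mul, inv_mul_cancel]; rfl
  have h2 : m7inv * m7 = 1 := by
    have := m7_facts.2.2.1
    rw [mul3_eq] at this
    exact this
  have h3 : m7 * m7inv = 1 := mul_eq_one_comm.mp h2
  have h4 : mat g7⁻¹ = m7inv := by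
    calc mat g7⁻¹ = mat g7⁻¹ * (m7 * m7inv) := by rw [h3, mul_one]
      _ = m7inv := by rw [← mul_assoc, h1, one_mul]
  rw [h4]
  exact hM_facts.2.2.2.1

theorem trace_conj (n g : G9) : tr3 (mat (n * g * n⁻¹)) = tr3 (mat g) := by
  have h2 : mat n⁻¹ * mat n = 1 := by
    rw [← mat_mul, inv_mul_cancel]; rfl
  rw [mat_mul, mat_mul, tr3_eq, tr3_eq, Matrix.trace_mul_comm, ← mul_assoc, h2, one_mul]

theorem relIndex_g7 (hC7 : Nat.card (Subgroup.centralizer ({g7} : Set G9)) ≤ 7) :
    (Subgroup.centralizer ((Subgroup.zpowers g7 : Subgroup G9) : Set G9)).relIndex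
      (Subgroup.normalizer ((Subgroup.zpowers g7 : Subgroup G9) : Set G9)) = 3 := by
  classical
  set P : Subgroup G9 := Subgroup.zpowers g7 with hP
  have hPcard : Nat.card P = 7 := by rw [hP, Nat.card_zpowers, orderOf_g7]
  have hcyc : IsCyclic P := by rw [hP]; infer_instance
  -- the homomorphism `N(P) → Aut(P)`
  set φ := P.normalizerMonoidHom with hφ
  have hrel : (Subgroup.centralizer (P : Set G9)).relIndex (Subgroup.normalizer (P : Set G9)) =
      Nat.card φ.range := by
    rw [Subgroup.relIndex, ← Subgroup.normalizerMonoidHom_ker, Subgroup.index_ker]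
  rw [hrel]
  have hAut : Nat.card (MulAut P) = 6 := by
    rw [IsCyclic.card_mulAut, hPcard]; decide
  have hdvd : Nat.card φ.range ∣ 6 := by
    rw [← hAut]; exact Subgroup.card_subgroup_dvd_card _
  have hg7P : g7 ∈ P := Subgroup.mem_zpowers g7
  -- `h` normalizes `P`
  have hN : hG ∈ Subgroup.normalizer (P : Set G9) := by
    apply Subgroup.mem_normalizer_fintype
    intro x hx
    obtain ⟨k, rfl⟩ := Subgroup.mem_zpowers_iff.mp hx
    have : hG * g7 ^ k * hG⁻¹ = (g7 * g7) ^ k := by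
      rw [← hG_conj, conj_zpow]
    rw [SetLike.mem_coe, this]
    exact Subgroup.zpow_mem _ (Subgroup.mul_mem _ hg7P hg7P) k
  -- action of `φ`
  have hφapp : ∀ (n : Subgroup.normalizer (P : Set G9)) (x : P),
      ((φ n x : P) : G9) = (n : G9) * x * (n : G9)⁻¹ := fun n x => rfl
  -- `φ h` has order three
  have h3 : orderOf (φ ⟨hG, hN⟩) = 3 := by
    have : Fact (Nat.Prime 3) := ⟨by norm_num⟩
    apply orderOf_eq_prime
    · -- `h³` centralizes `g7`
      rw [← map_pow]
      apply MulEquiv.ext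
      intro x
      apply Subtype.ext
      rw [hφapp]
      obtain ⟨k, hk⟩ := Subgroup.mem_zpowers_iff.mp x.2
      have e1 : ((⟨hG, hN⟩ : Subgroup.normalizer (P : Set G9)) ^ 3 : Subgroup.normalizer (P : Set G9)).1
          = hG ^ 3 := rfl
      rw [e1, ← hk, MulAut.one_apply]
      have e2 : hG ^ 3 * g7 * (hG ^ 3)⁻¹ = g7 := by
        have hψ : ∀ j : ℕ, MulAut.conj hG (g7 ^ j) = g7 ^ (2 * j) := by
          intro j
          rw [map_pow, MulAut.conj_apply, hG_conj, ← pow_two, ← pow_mul]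
        have a1 : hG ^ 3 * g7 * (hG ^ 3)⁻¹ = MulAut.conj hG (MulAut.conj hG (MulAut.conj hG g7)) := by
          simp only [MulAut.conj_apply]
          simp only [pow_succ, pow_zero, one_mul, _root_.mul_inv_rev, mul_assoc]
        have a2 : MulAut.conj hG g7 = g7 ^ 2 := by
          have := hψ 1
          rwa [pow_one] at this
        rw [a1, a2, hψ, hψ]
        have a4 : g7 ^ (2 * (2 * 2)) = g7 ^ 7 * g7 := by
          rw [← pow_succ]
        rw [a4, g7_pow7, one_mul]
      have e3 : hG ^ 3 * g7 ^ k * (hG ^ 3)⁻¹ = (hG ^ 3 * g7 * (hG ^ 3)⁻¹) ^ k := by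
        rw [conj_zpow]
      rw [e3, e2]
      exact hk
    · intro h
      have h1 := congrArg (fun f : MulAut P => ((f ⟨g7, hg7P⟩ : P) : G9)) h
      simp only [hφapp, MulAut.one_apply] at h1
      exact g7_sq_ne (by rw [← hG_conj]; exact h1)
  have h3dvd : 3 ∣ Nat.card φ.range := by
    have hmem : φ ⟨hG, hN⟩ ∈ φ.range := ⟨_, rfl⟩
    have := orderOf_dvd_natCard (⟨φ ⟨hG, hN⟩, hmem⟩ : φ.range)
    rwa [Subgroup.orderOf_mk, h3] at this
  -- the inversion is not in the range
  have hne6 : Nat.card φ.range ≠ 6 := by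
    intro h6
    have htop : φ.range = ⊤ := by
      apply Subgroup.eq_top_of_card_eq
      rw [h6, hAut]
    -- the inversion automorphism
    have hcomm : ∀ x y : P, x * y = y * x := by
      intro x y
      obtain ⟨a, ha⟩ := Subgroup.mem_zpowers_iff.mp x.2
      obtain ⟨b, hb⟩ := Subgroup.mem_zpowers_iff.mp y.2
      apply Subtype.ext
      rw [Subgroup.coe_mul, Subgroup.coe_mul, ← ha, ← hb, ← _root_.zpow_add, ← _root_.zpow_add, add_comm]
    let ι : MulAut P :=
      { toFun := fun x => x⁻¹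
        invFun := fun x => x⁻¹
        left_inv := fun x => inv_inv x
        right_inv := fun x => inv_inv x
        map_mul' := fun x y => by rw [_root_.mul_inv_rev, hcomm] }
    have hι : ι ∈ φ.range := by rw [htop]; exact Subgroup.mem_top _
    obtain ⟨n, hn⟩ := hι
    have h1 := congrArg (fun f : MulAut P => ((f ⟨g7, hg7P⟩ : P) : G9)) hn
    simp only [hφapp] at h1
    have h2 : (n : G9) * g7 * (n : G9)⁻¹ = g7⁻¹ := h1
    have h4 := trace_conj (n : G9) g7
    rw [h2] at h4
    exact trace_inv_ne h4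
  -- conclusion
  have hle : Nat.card φ.range ≤ 6 := Nat.le_of_dvd (by norm_num) hdvd
  interval_cases hc : Nat.card φ.range <;> simp_all

end Cfsg.Agent.Lib.Helper64_DG_N7
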