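import Mathlib
import Cfsg.Prelude.Def_FusionSystem
import Cfsg.Prelude.Def_Classical
import Cfsg.Prelude.Def_LieClassical
import Cfsg.Agent.Lib.Helper87_F2L3Defs
import Cfsg.Agent.Lib.Helper87_F2U3Defs

/-!
# S5319 package F2U3-ZODD (architect helper87): the centre of `SU₃(q)` has odd order

A central involution would be conjugate to `t3`, hence equal to `t3`, but `t3` is not central.
helper64.
-/

set_option autoImplicit false
set_option linter.unusedVariables false

open Matrix Cfsg.Agent.Lib.Helper87_F2L3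

namespace Cfsg.Agent.Lib.Helper64_F2U3_ZODD

variable {F : Type*} [Field F]

theorem center_odd [Fintype F] (q : ℕ)
    (ht3 : (t3 : SpecialLinearGroup (Fin 3) F) ∈ Cfsg.SU 3 F q)
    (hinv : ∀ u ∈ Cfsg.SU 3 F q, u * u = 1 → u ≠ 1 → ∃ g ∈ Cfsg.SU 3 F q, g * t3 * g⁻¹ = u)
    (hw : ∃ w ∈ Cfsg.SU 3 F q, w * t3 ≠ t3 * w) :
    ¬ 2 ∣ Nat.card (Subgroup.center ↥(Cfsg.SU 3 F q)) := by
  classical
  intro h2
  have : Fact (Nat.Prime 2) := ⟨Nat.prime_two⟩
  obtain ⟨z, hz⟩ := exists_prime_orderOf_dvd_card' 2 h2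
  -- `z` is a central involution of `SU₃`
  have hz2 : z ^ 2 = 1 := by rw [← hz]; exact pow_orderOf_eq_one z
  have hz1 : z ≠ 1 := by
    intro h1
    rw [h1, orderOf_one] at hz
    exact absurd hz (by norm_num)
  have hcen : ∀ x : ↥(Cfsg.SU 3 F q), x * z.1 = z.1 * x := fun x =>
    (Subgroup.mem_center_iff.mp z.2 x)
  set u : SpecialLinearGroup (Fin 3) F := z.1.1 with hu
  have hu_mem : u ∈ Cfsg.SU 3 F q := z.1.2
  have huu : u * u = 1 := by
    have h3 : ((z ^ 2 : Subgroup.center ↥(Cfsg.SU 3 F q)) : ↥(Cfsg.SU 3 F q)).1 = 1 := by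
      rw [hz2]; rfl
    rw [pow_two] at h3
    exact h3
  have hu1 : u ≠ 1 := by
    intro h1
    apply hz1
    apply Subtype.ext
    apply Subtype.ext
    exact h1
  have hcomm : ∀ x ∈ Cfsg.SU 3 F q, x * u = u * x := by
    intro x hx
    have h3 := congrArg Subtype.val (hcen ⟨x, hx⟩)
    exact h3
  obtain ⟨g, hg, hgu⟩ := hinv u hu_mem huu hu1
  have hut : u = t3 := by
    have h3 : g * u = u * g := hcomm g hg
    have h4 : g * t3 = g * u := by
      calc g * t3 = (g * t3 * g⁻¹) * g := by group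
        _ = u * g := by rw [hgu]
        _ = g * u := h3.symm
    exact (mul_left_cancel h4).symm
  obtain ⟨w, hwm, hwne⟩ := hw
  apply hwne
  rw [← hut]
  exact hcomm w hwm

end Cfsg.Agent.Lib.Helper64_F2U3_ZODD
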