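import Mathlib

/-!
# Counting form of freeness of a linear action (helper64)

`FreeOn τ X`: the subspace `X` is spanned by the translates `τ e W`, `e ∈ E`, of a subspace
`W` with `|E| * dim W ≤ dim X`.  For finite dimensional spaces this says that `X` is the
internal direct sum of the translates of `W`.
-/

set_option autoImplicit false

namespace Cfsg.Agent.Lib.Helper64_FreeRep

open Module

section defs
variable {k : Type*} [Field k] {V : Type*} [AddCommGroup V] [Module k V]
variable {E : Type*} [Group E]

/-- counting form of freeness of the subspace `X` under the action `τ` -/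
def FreeOn (τ : Representation k E V) (X : Submodule k V) : Prop :=
  ∃ W : Submodule k V, (⨆ e : E, W.map (τ e)) = X ∧ Nat.card E * finrank k W ≤ finrank k X

theorem freeOn_bot (τ : Representation k E V) : FreeOn τ ⊥ := by
  refine ⟨⊥, ?_, ?_⟩
  · simp
  · simp

theorem freeOn_top_of_subsingleton [Subsingleton V] (τ : Representation k E V) : FreeOn τ ⊤ := by
  have : (⊤ : Submodule k V) = ⊥ := Subsingleton.elim _ _
  rw [this]
  exact freeOn_bot τ

theorem FreeOn.sup [FiniteDimensional k V] {τ : Representation k E V} {X Y : Submodule k V}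
    (hX : FreeOn τ X) (hY : FreeOn τ Y)
    (hd : finrank k X + finrank k Y ≤ finrank k ↥(X ⊔ Y)) : FreeOn τ (X ⊔ Y) := by
  obtain ⟨WX, hWX, hcX⟩ := hX
  obtain ⟨WY, hWY, hcY⟩ := hY
  refine ⟨WX ⊔ WY, ?_, ?_⟩
  · simp_rw [Submodule.map_sup]
    rw [iSup_sup_eq, hWX, hWY]
  · have h1 := Submodule.finrank_add_le_finrank_add_finrank WX WY
    calc Nat.card E * finrank k ↥(WX ⊔ WY) ≤ Nat.card E * (finrank k WX + finrank k WY) :=
          Nat.mul_le_mul_left _ h1
      _ = Nat.card E * finrank k WX + Nat.card E * finrank k WY := by ring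
      _ ≤ finrank k X + finrank k Y := Nat.add_le_add hcX hcY
      _ ≤ _ := hd

theorem FreeOn.of_sub {τ : Representation k E V} {X : Submodule k V}
    (hX : ∀ e, X ≤ X.comap (τ e)) (h : FreeOn (τ.subrepresentation X hX) ⊤) : FreeOn τ X := by
  obtain ⟨W', hW', hc⟩ := h
  refine ⟨W'.map X.subtype, ?_, ?_⟩
  · have h1 : ∀ e : E, (W'.map X.subtype).map (τ e) =
        (W'.map (τ.subrepresentation X hX e)).map X.subtype := by
      intro e
      rw [← Submodule.map_comp, ← Submodule.map_comp]
      congr 1
    simp_rw [h1]
    rw [← Submodule.map_iSup, hW', Submodule.map_top, Submodule.range_subtype]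
  · rw [Submodule.finrank_map_subtype_eq]
    rw [finrank_top] at hc
    exact hc

/-- the complement `Y` of an invariant subspace `X`, with the action transported through the
projection: freeness of `X` and of the transported action gives freeness of the whole space -/
theorem FreeOn.of_isCompl [FiniteDimensional k V] {τ : Representation k E V}
    {X Y : Submodule k V} (hXY : IsCompl X Y) (π : V →ₗ[k] ↥Y)
    (hπker : ∀ v, π v = 0 → v ∈ X) (hπY : ∀ y : Y, π (y : V) = y)
    (τY : Representation k E ↥Y) (hτY : ∀ e (y : Y), τY e y = π (τ e (y : V)))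
    (hX : FreeOn τ X) (hY : FreeOn τY ⊤) : FreeOn τ ⊤ := by
  obtain ⟨WX, hWX, hcX⟩ := hX
  obtain ⟨WY, hWY, hcY⟩ := hY
  refine ⟨WX ⊔ WY.map Y.subtype, ?_, ?_⟩
  · set S : Submodule k V := ⨆ e : E, (WX ⊔ WY.map Y.subtype).map (τ e) with hS
    have hXS : X ≤ S := by
      rw [← hWX]
      exact iSup_mono fun e => Submodule.map_mono le_sup_left
    have hYS : Y ≤ S := by
      have h1 : (⊤ : Submodule k ↥Y).map Y.subtype ≤ S := by
        rw [← hWY, Submodule.map_iSup]
        refine iSup_le fun e => ?_
        rw [Submodule.map_le_iff_le_comap]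
        rintro _ ⟨w, hw, rfl⟩
        rw [Submodule.mem_comap, Submodule.subtype_apply, hτY]
        have h2 : τ e (w : V) ∈ S := by
          refine Submodule.mem_iSup_of_mem e ?_
          exact Submodule.mem_map_of_mem (Submodule.mem_sup_right
            (Submodule.mem_map_of_mem (f := Y.subtype) hw))
        have h3 : τ e (w : V) - (π (τ e (w : V)) : V) ∈ X := by
          apply hπker
          rw [map_sub, hπY, sub_self]
        have h4 : (π (τ e (w : V)) : V) = τ e (w : V) - (τ e (w : V) - (π (τ e (w : V)) : V)) := by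
          abel
        rw [h4]
        exact S.sub_mem h2 (hXS h3)
      rwa [Submodule.map_top, Submodule.range_subtype] at h1
    rw [eq_top_iff, ← hXY.sup_eq_top]
    exact sup_le hXS hYS
  · have h1 := Submodule.finrank_add_le_finrank_add_finrank WX (WY.map Y.subtype)
    rw [Submodule.finrank_map_subtype_eq] at h1
    rw [finrank_top] at hcY
    have h2 := Submodule.finrank_add_eq_of_isCompl hXY
    rw [finrank_top]
    calc Nat.card E * finrank k ↥(WX ⊔ WY.map Y.subtype)
        ≤ Nat.card E * (finrank k WX + finrank k WY) := Nat.mul_le_mul_left _ h1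
      _ = Nat.card E * finrank k WX + Nat.card E * finrank k WY := by ring
      _ ≤ finrank k X + finrank k Y := Nat.add_le_add hcX hcY
      _ = finrank k V := h2

/-- an invariant subspace `X` which is the kernel of a retraction `π` onto a space `Y'`
carrying the transported action: freeness of `X` and of `Y'` gives freeness of the whole space -/
theorem FreeOn.of_retract [FiniteDimensional k V] {τ : Representation k E V}
    {X : Submodule k V} {Y' : Type*} [AddCommGroup Y'] [Module k Y']
    (j : Y' →ₗ[k] V) (π : V →ₗ[k] Y') (hπj : ∀ y, π (j y) = y)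
    (hπker : ∀ v, π v = 0 → v ∈ X) (hπX : ∀ v ∈ X, π v = 0)
    (τY : Representation k E Y') (hτY : ∀ e y, τY e y = π (τ e (j y)))
    (hX : FreeOn τ X) (hY : FreeOn τY ⊤) : FreeOn τ ⊤ := by
  obtain ⟨WX, hWX, hcX⟩ := hX
  obtain ⟨WY, hWY, hcY⟩ := hY
  have hjinj : Function.Injective j := by
    intro a b hab
    rw [← hπj a, ← hπj b, hab]
  have hfd : FiniteDimensional k Y' := Module.Finite.of_injective j hjinj
  refine ⟨WX ⊔ WY.map j, ?_, ?_⟩
  · set S : Submodule k V := ⨆ e : E, (WX ⊔ WY.map j).map (τ e) with hS
    have hXS : X ≤ S := by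
      rw [← hWX]
      exact iSup_mono fun e => Submodule.map_mono le_sup_left
    have hsub : ∀ v : V, v - j (π v) ∈ X := by
      intro v
      apply hπker
      rw [map_sub, hπj, sub_self]
    have hYS : (⊤ : Submodule k Y').map j ≤ S := by
      rw [← hWY, Submodule.map_iSup]
      refine iSup_le fun e => ?_
      rw [Submodule.map_le_iff_le_comap]
      rintro _ ⟨w, hw, rfl⟩
      rw [Submodule.mem_comap, hτY]
      have h2 : τ e (j w) ∈ S := by
        refine Submodule.mem_iSup_of_mem e ?_
        exact Submodule.mem_map_of_mem (Submodule.mem_sup_right (Submodule.mem_map_of_mem hw))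
      have h4 : j (π (τ e (j w))) = τ e (j w) - (τ e (j w) - j (π (τ e (j w)))) := by abel
      rw [h4]
      exact S.sub_mem h2 (hXS (hsub _))
    rw [eq_top_iff]
    intro v _
    have h5 : v = (v - j (π v)) + j (π v) := by abel
    rw [h5]
    exact S.add_mem (hXS (hsub v)) (hYS (Submodule.mem_map_of_mem Submodule.mem_top))
  · have h1 := Submodule.finrank_add_le_finrank_add_finrank WX (WY.map j)
    rw [← (Submodule.equivMapOfInjective j hjinj WY).finrank_eq] at h1
    rw [finrank_top] at hcY
    have hker : LinearMap.ker π = X := by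
      ext v
      rw [LinearMap.mem_ker]
      exact ⟨hπker v, hπX v⟩
    have hsurj : Function.Surjective π := fun y => ⟨j y, hπj y⟩
    have h2 := LinearMap.finrank_range_add_finrank_ker π
    rw [LinearMap.range_eq_top.2 hsurj, finrank_top, hker] at h2
    rw [finrank_top]
    calc Nat.card E * finrank k ↥(WX ⊔ WY.map j)
        ≤ Nat.card E * (finrank k WX + finrank k WY) := Nat.mul_le_mul_left _ h1
      _ = Nat.card E * finrank k WX + Nat.card E * finrank k WY := by ring
      _ ≤ finrank k X + finrank k Y' := Nat.add_le_add hcX hcY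
      _ = finrank k V := by rw [← h2]; ring

/-- freeness under a subgroup induces up -/
theorem FreeOn.induce {τ : Representation k E V} (E₁ : Subgroup E) {X₁ X : Submodule k V}
    (h₁ : FreeOn (τ.comp E₁.subtype) X₁) (hX : X = ⨆ e : E, X₁.map (τ e))
    (hd : E₁.index * finrank k X₁ ≤ finrank k X) : FreeOn τ X := by
  obtain ⟨W, hW, hc⟩ := h₁
  refine ⟨W, ?_, ?_⟩
  · rw [hX, ← hW]
    apply le_antisymm
    · refine iSup_le fun e => ?_
      refine le_trans ?_ (le_iSup _ e)
      refine le_trans ?_ (Submodule.map_mono (le_iSup _ (1 : E₁)))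
      have h0 : (τ.comp E₁.subtype) (1 : E₁) = LinearMap.id := by
        rw [map_one]; rfl
      rw [h0, Submodule.map_id]
    · refine iSup_le fun e => ?_
      rw [Submodule.map_iSup]
      refine iSup_le fun σ => ?_
      refine le_trans ?_ (le_iSup _ (e * (σ : E)))
      rw [← Submodule.map_comp]
      apply le_of_eq
      congr 1
      rw [map_mul]
      rfl
  · have h1 : Nat.card E = E₁.index * Nat.card E₁ := (Subgroup.index_mul_card E₁).symm
    calc Nat.card E * finrank k W = E₁.index * (Nat.card E₁ * finrank k W) := by rw [h1]; ring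
      _ ≤ E₁.index * finrank k X₁ := Nat.mul_le_mul_left _ hc
      _ ≤ _ := hd

theorem finrank_iSup_of_iSupIndep [FiniteDimensional k V] {ι : Type*} [Fintype ι]
    [DecidableEq ι] (p : ι → Submodule k V) (h : iSupIndep p) :
    finrank k ↥(⨆ i, p i) = ∑ i, finrank k (p i) := by
  have hinj : Function.Injective (DirectSum.coeLinearMap p) :=
    (iSupIndep_iff_dfinsupp_lsum_injective p).1 h
  rw [← DirectSum.range_coeLinearMap, LinearMap.finrank_range_of_inj hinj,
    Module.finrank_directSum]

/-- from the counting form to an internal direct sum -/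
theorem FreeOn.isInternal [FiniteDimensional k V] [Finite E] [DecidableEq E]
    {τ : Representation k E V} (h : FreeOn τ ⊤) :
    ∃ W : Submodule k V, DirectSum.IsInternal (fun e : E => W.map (τ e)) := by
  obtain ⟨W, hW, hc⟩ := h
  have := Fintype.ofFinite E
  refine ⟨W, ?_⟩
  have hsurj : Function.Surjective (DirectSum.coeLinearMap fun e : E => W.map (τ e)) := by
    rw [← LinearMap.range_eq_top, DirectSum.range_coeLinearMap, hW]
  have hfr : ∀ e : E, finrank k ↥(W.map (τ e)) = finrank k W := by
    intro e
    have hinj : Function.Injective (τ e) := by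
      intro a b hab
      have h1 : τ e⁻¹ (τ e a) = τ e⁻¹ (τ e b) := by rw [hab]
      rw [← Module.End.mul_apply, ← Module.End.mul_apply, ← map_mul, inv_mul_cancel, map_one] at h1
      exact h1
    exact (Submodule.equivMapOfInjective (τ e) hinj W).finrank_eq.symm
  have hdim : finrank k (DirectSum E fun e : E => ↥(W.map (τ e))) = finrank k V := by
    apply le_antisymm
    · rw [Module.finrank_directSum]
      simp_rw [hfr]
      rw [Finset.sum_const, Finset.card_univ, smul_eq_mul, ← Nat.card_eq_fintype_card]
      rw [finrank_top] at hc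
      exact hc
    · exact LinearMap.finrank_le_finrank_of_surjective hsurj
  exact ⟨(LinearMap.injective_iff_surjective_of_finrank_eq_finrank hdim).2 hsurj, hsurj⟩

/-- transport along an injective equivariant map -/
theorem FreeOn.map_injective {V₂ : Type*} [AddCommGroup V₂] [Module k V₂]
    {τ : Representation k E V} {τ₂ : Representation k E V₂} (ψ : V →ₗ[k] V₂)
    (hψ : Function.Injective ψ) (heq : ∀ e v, ψ (τ e v) = τ₂ e (ψ v)) {X : Submodule k V}
    (h : FreeOn τ X) : FreeOn τ₂ (X.map ψ) := by
  obtain ⟨W, hW, hc⟩ := h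
  refine ⟨W.map ψ, ?_, ?_⟩
  · have h1 : ∀ e : E, (W.map ψ).map (τ₂ e) = (W.map (τ e)).map ψ := by
      intro e
      rw [← Submodule.map_comp, ← Submodule.map_comp]
      congr 1
      ext v
      exact (heq e v).symm
    simp_rw [h1]
    rw [← Submodule.map_iSup, hW]
  · rw [← (Submodule.equivMapOfInjective ψ hψ W).finrank_eq,
      ← (Submodule.equivMapOfInjective ψ hψ X).finrank_eq]
    exact hc

end defs

end Cfsg.Agent.Lib.Helper64_FreeRep
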