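import Mathlib
import Cfsg.Agent.Lib.Helper64_FreeRep

/-!
# Galois descent step for free actions (helper64)

A commutative finite dimensional `k`-algebra `R` acting on `V`, a finite group `E` acting on `R`
by algebra automorphisms and on `V` semilinearly, such that no non-identity element of `E`
acts trivially on the annihilator quotient of a non-zero vector.  Then `V` contains a non-zero
`R`- and `E`-invariant subspace which is free for `E`; if `V` is a semisimple `R`-module, the
whole of `V` is free for `E`.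
-/

set_option autoImplicit false
set_option linter.unusedSectionVars false
set_option linter.unusedVariables false

namespace Cfsg.Agent.Lib.Helper64_GalFree

open Module Cfsg.Agent.Lib.Helper64_FreeRep

section field
variable {k : Type*} [Field k] {F : Type*} [Field F] [Algebra k F] [FiniteDimensional k F]
variable {E : Type*} [Group E] [Finite E]

/-- the linear action of a group of automorphisms -/
def autRep (g : E →* (F ≃ₐ[k] F)) : Representation k E F where
  toFun e := (g e).toLinearMap
  map_one' := by rw [map_one]; rfl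
  map_mul' e e' := by rw [map_mul]; rfl

theorem autRep_apply (g : E →* (F ≃ₐ[k] F)) (e : E) (y : F) : autRep g e y = g e y := rfl

/-- a faithful finite group of automorphisms acts freely in the linear sense
(normal basis theorem) -/
theorem freeOn_autRep (g : E →* (F ≃ₐ[k] F)) (hg : Function.Injective g) :
    FreeOn (autRep g) ⊤ := by
  classical
  have := Fintype.ofFinite E
  set H : Subgroup (F ≃ₐ[k] F) := g.range with hH
  set F₀ : IntermediateField k F := IntermediateField.fixedField H with hF₀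
  have hfix : ∀ (e : E) (y : F), y ∈ F₀ → g e y = y := by
    intro e y hy
    rw [hF₀, IntermediateField.mem_fixedField_iff] at hy
    exact hy (g e) ⟨e, rfl⟩
  have hcard : finrank F₀ F = Nat.card E := by
    rw [IntermediateField.finrank_fixedField_eq_card]
    exact (Nat.card_congr (Equiv.ofInjective g hg)).symm
  obtain ⟨θ, hθ⟩ := exists_linearIndependent_algEquiv_apply F₀ F
  -- the map `E → Gal(F/F₀)`
  let ι : E → (F ≃ₐ[F₀] F) := fun e =>
    { (g e).toRingEquiv with commutes' := fun y => hfix e y y.2 }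
  have hι : Function.Injective ι := by
    intro e e' hee
    apply hg
    ext y
    have := congrArg (fun φ : F ≃ₐ[F₀] F => φ y) hee
    exact this
  have hLI : LinearIndependent F₀ (fun e : E => g e θ) := hθ.comp ι hι
  have hspan : Submodule.span F₀ (Set.range fun e : E => g e θ) = ⊤ := by
    apply hLI.span_eq_top_of_card_eq_finrank'
    rw [hcard, Nat.card_eq_fintype_card]
  have hθ0 : θ ≠ 0 := by
    have := hLI.ne_zero (1 : E)
    intro h0
    apply this
    rw [h0, map_zero]
  refine ⟨(F₀.toSubalgebra.toSubmodule).map (LinearMap.mulLeft k θ), ?_, ?_⟩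
  · rw [eq_top_iff]
    intro y _
    have hy : y ∈ Submodule.span F₀ (Set.range fun e : E => g e θ) := by rw [hspan]; trivial
    obtain ⟨cf, rfl⟩ := (Submodule.mem_span_range_iff_exists_fun F₀).1 hy
    refine Submodule.sum_mem _ fun e _ => ?_
    refine Submodule.mem_iSup_of_mem e ?_
    refine ⟨θ * (cf e : F), ⟨(cf e : F), (cf e).2, rfl⟩, ?_⟩
    rw [autRep_apply, map_mul, hfix e _ (cf e).2, mul_comm]
    rfl
  · have h1 : finrank k ↥((F₀.toSubalgebra.toSubmodule).map (LinearMap.mulLeft k θ)) =
        finrank k F₀ := by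
      have hinj : Function.Injective (LinearMap.mulLeft k θ) := by
        intro a b hab
        exact mul_left_cancel₀ hθ0 hab
      exact (Submodule.equivMapOfInjective _ hinj _).finrank_eq.symm
    rw [h1, finrank_top, ← hcard, mul_comm]
    exact le_of_eq (Module.finrank_mul_finrank k F₀ F)

end field

section stable
variable {k : Type*} [Field k] {R : Type*} [CommRing R] [Algebra k R]
variable {E : Type*} [Group E]
variable (c : E →* (R ≃ₐ[k] R)) (𝔪 : Ideal R)

theorem c_inv_apply (e : E) (a : R) : c e (c e⁻¹ a) = a := by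
  rw [← AlgEquiv.mul_apply, ← map_mul, mul_inv_cancel, map_one]
  rfl

theorem c_inv_apply' (e : E) (a : R) : c e⁻¹ (c e a) = a := by
  rw [← AlgEquiv.mul_apply, ← map_mul, inv_mul_cancel, map_one]
  rfl

theorem map_eq_of_stable (h : ∀ e a, a ∈ 𝔪 → c e a ∈ 𝔪) (e : E) :
    𝔪 = 𝔪.map ((c e : R ≃ₐ[k] R) : R →+* R) := by
  apply le_antisymm
  · intro a ha
    rw [← c_inv_apply c e a]
    exact Ideal.mem_map_of_mem _ (h e⁻¹ a ha)
  · rw [Ideal.map_le_iff_le_comap]
    intro a ha
    exact h e a ha

/-- the induced action on the quotient algebra -/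
noncomputable def galHom (h : ∀ e a, a ∈ 𝔪 → c e a ∈ 𝔪) : E →* ((R ⧸ 𝔪) ≃ₐ[k] (R ⧸ 𝔪)) where
  toFun e := Ideal.quotientEquivAlg 𝔪 𝔪 (c e) (map_eq_of_stable c 𝔪 h e)
  map_one' := by
    ext x
    obtain ⟨a, rfl⟩ := Ideal.Quotient.mk_surjective x
    simp
  map_mul' e e' := by
    ext x
    obtain ⟨a, rfl⟩ := Ideal.Quotient.mk_surjective x
    simp [AlgEquiv.mul_apply]

theorem galHom_mk (h : ∀ e a, a ∈ 𝔪 → c e a ∈ 𝔪) (e : E) (a : R) :
    galHom c 𝔪 h e (Ideal.Quotient.mk 𝔪 a) = Ideal.Quotient.mk 𝔪 (c e a) := rfl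

variable {V : Type*} [AddCommGroup V] [Module k V] [Module R V] [IsScalarTower k R V]
variable (τ : Representation k E V)

theorem kill_of_kill (compat : ∀ e a v, τ e (a • v) = c e a • τ e v)
    (h𝔪 : ∀ e a, a ∈ 𝔪 → c e a ∈ 𝔪) (e : E) (v : V) (hv : ∀ a ∈ 𝔪, a • v = 0) :
    ∀ a ∈ 𝔪, a • τ e v = 0 := by
  intro a ha
  rw [← c_inv_apply c e a, ← compat, hv _ (h𝔪 e⁻¹ a ha), map_zero]

theorem exists_fixed_vector [Finite E] (compat : ∀ e a v, τ e (a • v) = c e a • τ e v)
    [h𝔪max : 𝔪.IsMaximal] (h𝔪 : ∀ e a, a ∈ 𝔪 → c e a ∈ 𝔪)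
    (hginj : Function.Injective (galHom c 𝔪 h𝔪))
    (x : V) (hx : x ≠ 0) (hx𝔪 : ∀ a ∈ 𝔪, a • x = 0) :
    ∃ m : V, m ≠ 0 ∧ (∀ a ∈ 𝔪, a • m = 0) ∧ ∀ e, τ e m = m := by
  classical
  have := Fintype.ofFinite E
  by_cases hex : ∃ a : R, (∑ e : E, τ e (a • x)) ≠ 0
  · obtain ⟨a, ha⟩ := hex
    refine ⟨∑ e : E, τ e (a • x), ha, ?_, ?_⟩
    · intro b hb
      rw [Finset.smul_sum]
      refine Finset.sum_eq_zero fun e _ => ?_
      refine kill_of_kill c 𝔪 τ compat h𝔪 e _ ?_ b hb
      intro b' hb'
      rw [smul_comm, hx𝔪 b' hb', smul_zero]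
    · intro e'
      rw [map_sum]
      refine Fintype.sum_equiv (Equiv.mulLeft e') _ _ fun e => ?_
      rw [Equiv.coe_mulLeft, map_mul]
      rfl
  · exfalso
    push Not at hex
    let _ : Field (R ⧸ 𝔪) := Ideal.Quotient.field 𝔪
    let L := Submodule.torsionBySet R V (𝔪 : Set R)
    let xe : E → L := fun e => ⟨τ e x, by
      rw [Submodule.mem_torsionBySet_iff]
      intro a
      exact kill_of_kill c 𝔪 τ compat h𝔪 e x hx𝔪 a a.2⟩
    have hkey : ∀ a : R, ∑ e : E, (Ideal.Quotient.mk 𝔪 (c e a)) • xe e = 0 := by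
      intro a
      apply Subtype.ext
      rw [Submodule.coe_sum, Submodule.coe_zero, ← hex a]
      refine Finset.sum_congr rfl fun e _ => ?_
      rw [Submodule.torsionBySet.mk_smul, Submodule.coe_smul, compat]
    have hx1 : xe 1 ≠ 0 := by
      intro h0
      apply hx
      have h1 := congrArg Subtype.val h0
      simpa [xe] using h1
    obtain ⟨φ, hφ⟩ : ∃ φ : Module.Dual (R ⧸ 𝔪) L, φ (xe 1) ≠ 0 := by
      by_contra hno
      push Not at hno
      exact hx1 ((Module.forall_dual_apply_eq_zero_iff (R ⧸ 𝔪) (xe 1)).1 hno)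
    let f : E → ((R ⧸ 𝔪) →* (R ⧸ 𝔪)) := fun e =>
      ((galHom c 𝔪 h𝔪 e : (R ⧸ 𝔪) ≃ₐ[k] (R ⧸ 𝔪)) : (R ⧸ 𝔪) →* (R ⧸ 𝔪))
    have hf : Function.Injective f := by
      intro e e' hee
      apply hginj
      ext y
      exact congrArg (fun ψ : (R ⧸ 𝔪) →* (R ⧸ 𝔪) => ψ y) hee
    have hLI : LinearIndependent (R ⧸ 𝔪) (fun e : E => (f e : (R ⧸ 𝔪) → (R ⧸ 𝔪))) :=
      (linearIndependent_monoidHom (R ⧸ 𝔪) (R ⧸ 𝔪)).comp f hf
    have hz := Fintype.linearIndependent_iff.1 hLI (fun e => φ (xe e)) (by
      funext y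
      obtain ⟨a, rfl⟩ := Ideal.Quotient.mk_surjective y
      have h1 := congrArg φ (hkey a)
      rw [map_sum, map_zero] at h1
      simp only [map_smul, smul_eq_mul] at h1
      rw [Finset.sum_apply, Pi.zero_apply, ← h1]
      refine Finset.sum_congr rfl fun e _ => ?_
      rw [Pi.smul_apply, smul_eq_mul, mul_comm]
      rfl) 1
    exact hφ hz


/-- the stable case: `E` fixes the maximal ideal `𝔪` and `V` has a non-zero vector killed by `𝔪`;
then some `R`-line `R m` with `m` fixed by `E` is free for `E` -/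
theorem exists_free_line [Finite E] [Module.Finite k R]
    (compat : ∀ e a v, τ e (a • v) = c e a • τ e v)
    (faith : ∀ e, e ≠ 1 → ∀ v : V, (∀ a : R, c e a • v = a • v) → v = 0)
    [h𝔪max : 𝔪.IsMaximal] (h𝔪 : ∀ e a, a ∈ 𝔪 → c e a ∈ 𝔪)
    (x : V) (hx : x ≠ 0) (hx𝔪 : ∀ a ∈ 𝔪, a • x = 0) :
    ∃ m : V, m ≠ 0 ∧ (∀ a ∈ 𝔪, a • m = 0) ∧ (∀ e, τ e m = m) ∧
      FreeOn τ ((Submodule.span R {m}).restrictScalars k) := by
  classical
  have hginj : Function.Injective (galHom c 𝔪 h𝔪) := by
    rw [injective_iff_map_eq_one]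
    intro e he
    by_contra hne
    apply hx
    apply faith e hne x
    intro a
    have h1 : galHom c 𝔪 h𝔪 e (Ideal.Quotient.mk 𝔪 a) = Ideal.Quotient.mk 𝔪 a := by
      rw [he]; rfl
    rw [galHom_mk, Ideal.Quotient.eq] at h1
    have h2 := hx𝔪 _ h1
    rw [sub_smul, sub_eq_zero] at h2
    exact h2
  obtain ⟨m, hm0, hm𝔪, hmfix⟩ := exists_fixed_vector c 𝔪 τ compat h𝔪 hginj x hx hx𝔪
  refine ⟨m, hm0, hm𝔪, hmfix, ?_⟩
  let _ : Field (R ⧸ 𝔪) := Ideal.Quotient.field 𝔪
  have hfin : FiniteDimensional k (R ⧸ 𝔪) :=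
    Module.Finite.of_surjective (Ideal.Quotient.mkₐ k 𝔪).toLinearMap
      (Ideal.Quotient.mkₐ_surjective k 𝔪)
  -- the annihilator of `m` is `𝔪`
  have hann : ∀ a : R, a • m = 0 → a ∈ 𝔪 := by
    intro a ha
    have hle : 𝔪 ≤ LinearMap.ker (LinearMap.toSpanSingleton R V m) := by
      intro b hb
      rw [LinearMap.mem_ker, LinearMap.toSpanSingleton_apply]
      exact hm𝔪 b hb
    have hne : LinearMap.ker (LinearMap.toSpanSingleton R V m) ≠ ⊤ := by
      intro htop
      have h1 : (1 : R) ∈ LinearMap.ker (LinearMap.toSpanSingleton R V m) := by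
        rw [htop]; trivial
      rw [LinearMap.mem_ker, LinearMap.toSpanSingleton_apply, one_smul] at h1
      exact hm0 h1
    have heq := h𝔪max.eq_of_le hne hle
    rw [heq, LinearMap.mem_ker, LinearMap.toSpanSingleton_apply]
    exact ha
  have hle : (𝔪 : Submodule R R) ≤ LinearMap.ker (LinearMap.toSpanSingleton R V m) := by
    intro b hb
    rw [LinearMap.mem_ker, LinearMap.toSpanSingleton_apply]
    exact hm𝔪 b hb
  let ψ : (R ⧸ 𝔪) →ₗ[k] V :=
    ((𝔪 : Submodule R R).liftQ (LinearMap.toSpanSingleton R V m) hle).restrictScalars k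
  have hψmk : ∀ a : R, ψ (Ideal.Quotient.mk 𝔪 a) = a • m := fun a => rfl
  have hψinj : Function.Injective ψ := by
    rw [injective_iff_map_eq_zero]
    intro y hy
    obtain ⟨a, rfl⟩ := Ideal.Quotient.mk_surjective y
    rw [hψmk] at hy
    exact Ideal.Quotient.eq_zero_iff_mem.2 (hann a hy)
  have heq : ∀ (e : E) (y : R ⧸ 𝔪), ψ (autRep (galHom c 𝔪 h𝔪) e y) = τ e (ψ y) := by
    intro e y
    obtain ⟨a, rfl⟩ := Ideal.Quotient.mk_surjective y
    rw [autRep_apply, galHom_mk, hψmk, hψmk, compat, hmfix]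
  have hfree := (freeOn_autRep (galHom c 𝔪 h𝔪) hginj).map_injective ψ hψinj heq
  have hrange : (⊤ : Submodule k (R ⧸ 𝔪)).map ψ = (Submodule.span R {m}).restrictScalars k := by
    ext v
    rw [Submodule.map_top, LinearMap.mem_range, Submodule.restrictScalars_mem,
      Submodule.mem_span_singleton]
    constructor
    · rintro ⟨y, rfl⟩
      obtain ⟨a, rfl⟩ := Ideal.Quotient.mk_surjective y
      exact ⟨a, (hψmk a).symm⟩
    · rintro ⟨a, rfl⟩
      exact ⟨Ideal.Quotient.mk 𝔪 a, hψmk a⟩
  rw [hrange] at hfree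
  exact hfree

end stable

section peel
variable {k : Type*} [Field k] {R : Type*} [CommRing R] [Algebra k R] [Module.Finite k R]
variable {E : Type*} [Group E] [Finite E]
variable (c : E →* (R ≃ₐ[k] R))
variable {V : Type*} [AddCommGroup V] [Module k V] [Module R V] [IsScalarTower k R V]
  [Module.Finite k V]
variable (τ : Representation k E V)

/-- the stabilizer of an ideal -/
def stab (𝔪 : Ideal R) : Subgroup E where
  carrier := {e | ∀ a, a ∈ 𝔪 ↔ c e a ∈ 𝔪}
  one_mem' := by
    intro a
    rw [map_one]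
    rfl
  mul_mem' := by
    intro e e' he he' a
    rw [map_mul, AlgEquiv.mul_apply, ← he, ← he']
  inv_mem' := by
    intro e he a
    rw [he (c e⁻¹ a), c_inv_apply]

theorem mem_stab (𝔪 : Ideal R) (e : E) : e ∈ stab c 𝔪 ↔ ∀ a, a ∈ 𝔪 ↔ c e a ∈ 𝔪 := Iff.rfl

theorem tau_injective (e : E) : Function.Injective (τ e) := by
  intro a b hab
  have h1 : τ e⁻¹ (τ e a) = τ e⁻¹ (τ e b) := by rw [hab]
  rw [← Module.End.mul_apply, ← Module.End.mul_apply, ← map_mul, inv_mul_cancel, map_one] at h1
  exact h1

theorem map_span_singleton (compat : ∀ e a v, τ e (a • v) = c e a • τ e v) (e : E) (m : V) :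
    ((Submodule.span R {m}).restrictScalars k).map (τ e) =
      (Submodule.span R {τ e m}).restrictScalars k := by
  ext v
  rw [Submodule.mem_map, Submodule.restrictScalars_mem, Submodule.mem_span_singleton]
  constructor
  · rintro ⟨w, hw, rfl⟩
    rw [Submodule.restrictScalars_mem, Submodule.mem_span_singleton] at hw
    obtain ⟨a, rfl⟩ := hw
    exact ⟨c e a, (compat e a m).symm⟩
  · rintro ⟨a, rfl⟩
    refine ⟨c e⁻¹ a • m, ?_, ?_⟩
    · rw [Submodule.restrictScalars_mem, Submodule.mem_span_singleton]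
      exact ⟨_, rfl⟩
    · rw [compat, c_inv_apply]

theorem restrictScalars_iSupIndep {ι : Type*} (T : ι → Submodule R V) (h : iSupIndep T) :
    iSupIndep (fun i => (T i).restrictScalars k) := by
  rw [iSupIndep_def] at h ⊢
  intro i
  have h1 := h i
  rw [disjoint_iff] at h1 ⊢
  have h2 : (T i ⊓ ⨆ (j) (_ : j ≠ i), T j).restrictScalars k = ⊥ := by
    rw [h1, Submodule.restrictScalars_bot]
  rw [← h2, Submodule.restrictScalars_inf, Submodule.restrictScalars_iSup]
  congr 2
  funext j
  rw [Submodule.restrictScalars_iSup]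

/-- the peeling step: a non-zero `R`- and `E`-invariant subspace which is free for `E` -/
theorem exists_free_invariant [Nontrivial V]
    (compat : ∀ e a v, τ e (a • v) = c e a • τ e v)
    (faith : ∀ e, e ≠ 1 → ∀ v : V, (∀ a : R, c e a • v = a • v) → v = 0) :
    ∃ X : Submodule R V, X ≠ ⊥ ∧ (∀ e v, v ∈ X → τ e v ∈ X) ∧
      FreeOn τ (X.restrictScalars k) := by
  classical
  have hnoeth : IsNoetherianRing R := isNoetherian_of_tower k (inferInstance : IsNoetherian k R)
  have hart : IsArtinianRing R := IsArtinianRing.of_finite k R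
  obtain ⟨𝔪, h𝔪ass⟩ := associatedPrimes.nonempty R V
  obtain ⟨hprime, x, hxeq⟩ := (isAssociatedPrime_iff).1 h𝔪ass
  have hmax : 𝔪.IsMaximal := IsArtinianRing.isMaximal_of_isPrime 𝔪
  have hx𝔪 : ∀ a ∈ 𝔪, a • x = 0 := by
    intro a ha
    rw [hxeq, Submodule.mem_colon_singleton] at ha
    exact (Submodule.mem_bot R).1 ha
  have hx : x ≠ 0 := by
    rintro rfl
    apply hprime.ne_top
    rw [eq_top_iff]
    intro a _
    rw [hxeq, Submodule.mem_colon_singleton, smul_zero]
    exact Submodule.zero_mem _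
  set E₁ := stab c 𝔪 with hE₁
  obtain ⟨m, hm0, hm𝔪, hmfix, hfree₁⟩ :=
    exists_free_line (c.comp E₁.subtype) 𝔪 (τ.comp E₁.subtype)
      (fun σ a v => compat σ a v)
      (fun σ hσ v hv => faith σ (fun h1 => hσ (Subtype.ext h1)) v hv)
      (fun σ a ha => (σ.2 a).1 ha) x hx hx𝔪
  set X₁k : Submodule k V := (Submodule.span R {m}).restrictScalars k with hX₁k
  let X : Submodule R V := ⨆ e : E, Submodule.span R {τ e m}
  have hXk : X.restrictScalars k = ⨆ e : E, X₁k.map (τ e) := by
    rw [Submodule.restrictScalars_iSup]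
    congr 1
    funext e
    rw [hX₁k, map_span_singleton c τ compat]
  have hkill : ∀ w ∈ X₁k, ∀ a ∈ 𝔪, a • w = 0 := by
    intro w hw a ha
    rw [hX₁k, Submodule.restrictScalars_mem, Submodule.mem_span_singleton] at hw
    obtain ⟨b, rfl⟩ := hw
    rw [smul_comm, hm𝔪 a ha, smul_zero]
  refine ⟨X, ?_, ?_, ?_⟩
  · intro hbot
    apply hm0
    have h1 : m ∈ X := by
      refine Submodule.mem_iSup_of_mem (1 : E) ?_
      rw [map_one]
      exact Submodule.mem_span_singleton_self m
    rw [hbot] at h1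
    exact (Submodule.mem_bot R).1 h1
  · intro e' v hv
    have hv' : v ∈ X.restrictScalars k := hv
    have h1 : (X.restrictScalars k).map (τ e') ≤ X.restrictScalars k := by
      rw [hXk, Submodule.map_iSup]
      refine iSup_le fun e => ?_
      refine le_trans ?_ (le_iSup _ (e' * e))
      rw [← Submodule.map_comp]
      apply le_of_eq
      congr 1
      rw [map_mul]
      rfl
    exact h1 (Submodule.mem_map_of_mem hv')
  · refine FreeOn.induce E₁ hfree₁ hXk ?_
    have := Fintype.ofFinite (E ⧸ E₁)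
    let t : E ⧸ E₁ → E := fun q => q.out
    let F : E ⧸ E₁ → Submodule k V := fun q => X₁k.map (τ (t q))
    let I : E ⧸ E₁ → Ideal R := fun q => Ideal.comap (c (t q)⁻¹) 𝔪
    have hImem : ∀ q a, a ∈ I q ↔ c (t q)⁻¹ a ∈ 𝔪 := fun q a => Ideal.mem_comap
    have hImax : ∀ q, (I q).IsMaximal := fun q =>
      Ideal.comap_isMaximal_of_surjective _ (c (t q)⁻¹).surjective
    have hIinj : ∀ q q', I q = I q' → q = q' := by
      intro q q' hqq
      have h1 : (t q)⁻¹ * t q' ∈ E₁ := by
        rw [hE₁, mem_stab]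
        intro b
        have h2 : c (t q')⁻¹ (c (t q') b) = b := c_inv_apply' c (t q') b
        have h3 : (c (t q') b ∈ I q') ↔ b ∈ 𝔪 := by rw [hImem, h2]
        rw [← h3, ← hqq, hImem, map_mul, AlgEquiv.mul_apply]
      have h4 : ((t q : E) : E ⧸ E₁) = ((t q' : E) : E ⧸ E₁) := QuotientGroup.eq.2 h1
      simpa [t] using h4
    have hpair : ((Finset.univ : Finset (E ⧸ E₁)) : Set (E ⧸ E₁)).Pairwise
        fun q q' => I q ⊔ I q' = ⊤ := by
      intro q _ q' _ hne
      exact (hImax q).coprime_of_ne (hImax q') (fun h => hne (hIinj q q' h))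
    have hsup := Submodule.supIndep_torsionBySet_ideal (M := V) hpair
    have hind : iSupIndep fun q => Submodule.torsionBySet R V (I q : Set R) :=
      iSupIndep_iff_supIndep_univ.2 hsup
    have hindk := restrictScalars_iSupIndep (k := k) _ hind
    have hFle : ∀ q, F q ≤ (Submodule.torsionBySet R V (I q : Set R)).restrictScalars k := by
      intro q v hv
      obtain ⟨w, hw, rfl⟩ := hv
      rw [Submodule.restrictScalars_mem, Submodule.mem_torsionBySet_iff]
      intro a
      have h1 : c (t q) (c (t q)⁻¹ (a : R)) = a := c_inv_apply c (t q) a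
      rw [← h1, ← compat, hkill w hw _ ((hImem q a).1 a.2), map_zero]
    have hindF : iSupIndep F := hindk.mono hFle
    have hfr : ∀ q, finrank k (F q) = finrank k X₁k := fun q =>
      (Submodule.equivMapOfInjective (τ (t q)) (tau_injective τ (t q)) X₁k).finrank_eq.symm
    have h1 : finrank k ↥(⨆ q, F q) = E₁.index * finrank k X₁k := by
      rw [finrank_iSup_of_iSupIndep F hindF]
      simp_rw [hfr]
      rw [Finset.sum_const, Finset.card_univ, smul_eq_mul, Subgroup.index_eq_card,
        Nat.card_eq_fintype_card]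
    rw [← h1]
    apply Submodule.finrank_mono
    rw [hXk]
    exact iSup_le fun q => le_iSup (fun e : E => X₁k.map (τ e)) (t q)

end peel

section tab
universe u
variable {k : Type*} [Field k] {R : Type*} [CommRing R] [Algebra k R] [Module.Finite k R]
variable {E : Type*} [Group E] [Finite E]
variable (c : E →* (R ≃ₐ[k] R))

/-- semisimple case, by induction on the dimension -/
theorem freeOn_top_aux (n : ℕ) : ∀ (V : Type u) [AddCommGroup V] [Module k V] [Module R V]
    [IsScalarTower k R V] [Module.Finite k V] [IsSemisimpleModule R V]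
    (τ : Representation k E V)
    (compat : ∀ e a v, τ e (a • v) = c e a • τ e v)
    (faith : ∀ e, e ≠ 1 → ∀ v : V, (∀ a : R, c e a • v = a • v) → v = 0),
    finrank k V = n → FreeOn τ ⊤ := by
  induction n using Nat.strong_induction_on with
  | _ n ih =>
    intro V _ _ _ _ _ _ τ compat faith hn
    by_cases hV : Subsingleton V
    · exact freeOn_top_of_subsingleton τ
    rw [not_subsingleton_iff_nontrivial] at hV
    obtain ⟨X, hX0, hXinv, hXfree⟩ := exists_free_invariant c τ compat faith
    obtain ⟨Y, hXY⟩ := exists_isCompl X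
    let π : V →ₗ[R] Y := Submodule.projectionOnto Y X hXY.symm
    have hπY : ∀ y : Y, π (y : V) = y := fun y =>
      Submodule.projectionOnto_apply_left hXY.symm y
    have hπker : ∀ v, π v = 0 ↔ v ∈ X := fun v =>
      Submodule.projectionOnto_apply_eq_zero_iff hXY.symm
    have hfdY : Module.Finite k ↥Y :=
      Module.Finite.of_injective (Y.subtype.restrictScalars k) Subtype.val_injective
    have hsub : ∀ v : V, v - ((π v : Y) : V) ∈ X := by
      intro v
      rw [← hπker, map_sub, hπY, sub_self]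
    have hπτ : ∀ e v, π (τ e ((π v : Y) : V)) = π (τ e v) := by
      intro e v
      have h1 : τ e (v - ((π v : Y) : V)) ∈ X := hXinv e _ (hsub v)
      rw [← hπker, map_sub, map_sub, sub_eq_zero] at h1
      exact h1.symm
    let τY : Representation k E ↥Y :=
      { toFun := fun e => (π.restrictScalars k) ∘ₗ (τ e) ∘ₗ (Y.subtype.restrictScalars k)
        map_one' := by
          ext y
          simp only [map_one, LinearMap.coe_comp, Function.comp_apply,
            LinearMap.coe_restrictScalars, Submodule.coe_subtype, Module.End.one_apply]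
          rw [hπY]
        map_mul' := by
          intro e e'
          ext y
          simp only [map_mul, LinearMap.coe_comp, Function.comp_apply,
            LinearMap.coe_restrictScalars, Submodule.coe_subtype, Module.End.mul_apply]
          rw [hπτ] }
    have hτY : ∀ e (y : Y), τY e y = π (τ e (y : V)) := fun e y => rfl
    have hker : LinearMap.ker (π.restrictScalars k) = X.restrictScalars k := by
      ext v
      rw [LinearMap.mem_ker, LinearMap.coe_restrictScalars, hπker]
      rfl
    have hsurj : Function.Surjective (π.restrictScalars k) := fun y => ⟨(y : V), hπY y⟩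
    have hdim := LinearMap.finrank_range_add_finrank_ker (π.restrictScalars k)
    rw [LinearMap.range_eq_top.2 hsurj, finrank_top, hker] at hdim
    have hXpos : 0 < finrank k ↥(X.restrictScalars k) := by
      obtain ⟨x, hx, hx0⟩ := Submodule.exists_mem_ne_zero_of_ne_bot hX0
      exact finrank_pos_iff_exists_ne_zero.2 ⟨⟨x, hx⟩, fun h => hx0 (congrArg Subtype.val h)⟩
    have hYfree : FreeOn τY ⊤ := by
      refine ih (finrank k ↥Y) (by omega) ↥Y τY ?_ ?_ rfl
      · intro e a y
        rw [hτY, hτY, Submodule.coe_smul, compat, map_smul]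
      · intro e he y hy
        have h1 := faith e he (y : V) (fun a => by
          have := congrArg Subtype.val (hy a)
          simpa using this)
        exact Subtype.ext h1
    exact FreeOn.of_retract (X := X.restrictScalars k) (Y.subtype.restrictScalars k)
      (π.restrictScalars k) hπY (fun v hv => (hπker v).1 hv) (fun v hv => (hπker v).2 hv)
      τY hτY hXfree hYfree

/-- semisimple case: the whole space is free -/
theorem freeOn_top_of_semisimple {V : Type u} [AddCommGroup V] [Module k V] [Module R V]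
    [IsScalarTower k R V] [Module.Finite k V] [IsSemisimpleModule R V]
    (τ : Representation k E V)
    (compat : ∀ e a v, τ e (a • v) = c e a • τ e v)
    (faith : ∀ e, e ≠ 1 → ∀ v : V, (∀ a : R, c e a • v = a • v) → v = 0) :
    FreeOn τ ⊤ :=
  freeOn_top_aux c _ V τ compat faith rfl

end tab

end Cfsg.Agent.Lib.Helper64_GalFree
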