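import Mathlib
import Cfsg.Agent.Lib.Helper64_GalFree
import Cfsg.Agent.Lib.Helper52_FrobLA
import Cfsg.Agent.Lib.Helper24_LinearPGroup

/-!
# Free action of a Frobenius complement (helper64)

A finite group `E` acting on a finite nilpotent group `U` without fixed points, both acting
compatibly on a finite dimensional space `V` over an arbitrary field with no non-zero vector
fixed by `U`: then `V` is free for `E`.
-/

set_option autoImplicit false
set_option linter.unusedSectionVars false
set_option linter.unusedVariables false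

namespace Cfsg.Agent.Lib.Helper64_FrobFree

open Module Cfsg.Agent.Lib.Helper64_FreeRep Cfsg.Agent.Lib.Helper64_GalFree
open Cfsg.Agent.Lib.Helper52_FrobLA

section conj
variable {k : Type*} [Field k] {V : Type*} [AddCommGroup V] [Module k V]
variable {E : Type*} [Group E]

theorem tau_mul_inv (τ : Representation k E V) (e : E) : τ e * τ e⁻¹ = 1 := by
  rw [← map_mul, mul_inv_cancel, map_one]

theorem tau_inv_mul (τ : Representation k E V) (e : E) : τ e⁻¹ * τ e = 1 := by
  rw [← map_mul, inv_mul_cancel, map_one]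

theorem conj_mem_adjoin (S : Set (Module.End k V)) (g g' : Module.End k V)
    (h1 : g' * g = 1) (hS : ∀ a ∈ S, g * a * g' ∈ Algebra.adjoin k S)
    (a : Module.End k V) (ha : a ∈ Algebra.adjoin k S) (h2 : g * g' = 1) :
    g * a * g' ∈ Algebra.adjoin k S := by
  induction ha using Algebra.adjoin_induction with
  | mem x hx => exact hS x hx
  | algebraMap r =>
    have h3 : g * algebraMap k (Module.End k V) r * g' = algebraMap k (Module.End k V) r := by
      rw [← Algebra.commutes, mul_assoc, h2, mul_one]
    rw [h3]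
    exact Subalgebra.algebraMap_mem _ r
  | add x y _ _ hx hy =>
    rw [mul_add, add_mul]
    exact add_mem hx hy
  | mul x y _ _ hx hy =>
    have h3 : g * (x * y) * g' = (g * x * g') * (g * y * g') := by
      calc g * (x * y) * g' = g * x * 1 * y * g' := by rw [mul_one, mul_assoc g x y]
        _ = g * x * (g' * g) * y * g' := by rw [h1]
        _ = (g * x * g') * (g * y * g') := by simp only [mul_assoc]
    rw [h3]
    exact mul_mem hx hy

/-- conjugation by the operators of a representation on a stable subalgebra of operators -/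
def conjAut (τ : Representation k E V) (Rs : Subalgebra k (Module.End k V))
    (h : ∀ e, ∀ a ∈ Rs, τ e * a * τ e⁻¹ ∈ Rs) : E →* (↥Rs ≃ₐ[k] ↥Rs) where
  toFun e :=
    { toFun := fun a => ⟨τ e * a * τ e⁻¹, h e a a.2⟩
      invFun := fun a => ⟨τ e⁻¹ * a * τ e, by
        have := h e⁻¹ a a.2
        rwa [inv_inv] at this⟩
      left_inv := by
        intro a
        apply Subtype.ext
        show τ e⁻¹ * (τ e * a * τ e⁻¹) * τ e = a
        calc τ e⁻¹ * (τ e * a * τ e⁻¹) * τ e = (τ e⁻¹ * τ e) * a * (τ e⁻¹ * τ e) := by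
              simp only [mul_assoc]
          _ = a := by rw [tau_inv_mul, one_mul, mul_one]
      right_inv := by
        intro a
        apply Subtype.ext
        show τ e * (τ e⁻¹ * a * τ e) * τ e⁻¹ = a
        calc τ e * (τ e⁻¹ * a * τ e) * τ e⁻¹ = (τ e * τ e⁻¹) * a * (τ e * τ e⁻¹) := by
              simp only [mul_assoc]
          _ = a := by rw [tau_mul_inv, one_mul, mul_one]
      map_mul' := by
        intro a b
        apply Subtype.ext
        show τ e * (a * b : Module.End k V) * τ e⁻¹ = (τ e * a * τ e⁻¹) * (τ e * b * τ e⁻¹)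
        calc τ e * (a * b : Module.End k V) * τ e⁻¹ = τ e * a * 1 * b * τ e⁻¹ := by
              rw [mul_one]; simp only [mul_assoc]
          _ = τ e * a * (τ e⁻¹ * τ e) * b * τ e⁻¹ := by rw [tau_inv_mul]
          _ = (τ e * a * τ e⁻¹) * (τ e * b * τ e⁻¹) := by simp only [mul_assoc]
      map_add' := by
        intro a b
        apply Subtype.ext
        show τ e * (a + b : Module.End k V) * τ e⁻¹ = (τ e * a * τ e⁻¹) + (τ e * b * τ e⁻¹)
        rw [mul_add, add_mul]
      commutes' := by
        intro r
        apply Subtype.ext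
        show τ e * algebraMap k (Module.End k V) r * τ e⁻¹ = algebraMap k (Module.End k V) r
        rw [← Algebra.commutes, mul_assoc, tau_mul_inv, mul_one] }
  map_one' := by
    apply AlgEquiv.ext
    intro a
    apply Subtype.ext
    show τ 1 * (a : Module.End k V) * τ (1 : E)⁻¹ = a
    rw [inv_one, map_one, one_mul, mul_one]
  map_mul' := by
    intro e e'
    apply AlgEquiv.ext
    intro a
    apply Subtype.ext
    show τ (e * e') * (a : Module.End k V) * τ (e * e')⁻¹ =
      τ e * (τ e' * (a : Module.End k V) * τ e'⁻¹) * τ e⁻¹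
    rw [mul_inv_rev, map_mul, map_mul]
    simp only [mul_assoc]

theorem conjAut_apply (τ : Representation k E V) (Rs : Subalgebra k (Module.End k V))
    (h : ∀ e, ∀ a ∈ Rs, τ e * a * τ e⁻¹ ∈ Rs) (e : E) (a : Rs) :
    ((conjAut τ Rs h e a : Rs) : Module.End k V) = τ e * a * τ e⁻¹ := rfl

end conj

section abelian
universe u
variable {k : Type*} [Field k] {V : Type u} [AddCommGroup V] [Module k V] [Module.Finite k V]
variable {Zt : Type*} [Group Zt] [Finite Zt] {E : Type*} [Group E] [Finite E]

open scoped IsMulCommutative in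
/-- a group with commuting operators, of order invertible in the field, permuted by `E`
in such a way that no non-identity element of `E` has a non-zero "fixed" vector -/
theorem freeOn_top_of_abelian (ζ : Representation k Zt V) (τ : Representation k E V)
    (act : E → Zt → Zt)
    (hcomm : ∀ z z', ζ z * ζ z' = ζ z' * ζ z)
    (hact : ∀ e z v, τ e (ζ z v) = ζ (act e z) (τ e v))
    (hcard : (Nat.card Zt : k) ≠ 0)
    (faith : ∀ e, e ≠ 1 → ∀ v, (∀ z, ζ (act e z) v = ζ z v) → v = 0) : FreeOn τ ⊤ := by
  classical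
  have hScomm : ∀ a ∈ Set.range ζ, ∀ b ∈ Set.range ζ, a * b = b * a := by
    rintro _ ⟨z, rfl⟩ _ ⟨z', rfl⟩
    exact hcomm z z'
  have hconjz : ∀ e z, τ e * ζ z * τ e⁻¹ = ζ (act e z) := by
    intro e z
    apply LinearMap.ext
    intro v
    rw [Module.End.mul_apply, Module.End.mul_apply, hact, ← Module.End.mul_apply (τ e),
      tau_mul_inv, Module.End.one_apply]
  have hconj : ∀ e, ∀ a ∈ Algebra.adjoin k (Set.range ζ),
      τ e * a * τ e⁻¹ ∈ Algebra.adjoin k (Set.range ζ) := by
    intro e a ha
    refine conj_mem_adjoin _ (τ e) (τ e⁻¹) (tau_inv_mul τ e) ?_ a ha (tau_mul_inv τ e)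
    rintro _ ⟨z, rfl⟩
    rw [hconjz]
    exact Algebra.subset_adjoin ⟨_, rfl⟩
  let c := conjAut τ (Algebra.adjoin k (Set.range ζ)) hconj
  have hmc : IsMulCommutative ↥(Algebra.adjoin k (Set.range ζ)) :=
    Algebra.isMulCommutative_adjoin k hScomm
  have hfin : Module.Finite k ↥(Algebra.adjoin k (Set.range ζ)) :=
    Module.Finite.of_injective (Algebra.adjoin k (Set.range ζ)).val.toLinearMap
      Subtype.val_injective
  -- semisimplicity
  have : NeZero (Nat.card Zt : k) := ⟨hcard⟩
  have hφR : ∀ x, ζ.asAlgebraHom x ∈ Algebra.adjoin k (Set.range ζ) := by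
    intro x
    induction x using MonoidAlgebra.induction_on with
    | of z =>
      rw [Representation.asAlgebraHom_of]
      exact Algebra.subset_adjoin ⟨z, rfl⟩
    | add a b ha hb =>
      rw [map_add]
      exact add_mem ha hb
    | smul r a ha =>
      rw [map_smul]
      exact Subalgebra.smul_mem _ ha r
  let σ : MonoidAlgebra k Zt →+* ↥(Algebra.adjoin k (Set.range ζ)) :=
    (ζ.asAlgebraHom.codRestrict _ hφR).toRingHom
  have hσ : Function.Surjective σ := by
    intro a
    have h1 : Algebra.adjoin k (Set.range ζ) ≤ ζ.asAlgebraHom.range := by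
      apply Algebra.adjoin_le
      rintro _ ⟨z, rfl⟩
      exact ⟨MonoidAlgebra.of k Zt z, Representation.asAlgebraHom_of ζ z⟩
    obtain ⟨x, hx⟩ := h1 a.2
    exact ⟨x, Subtype.ext hx⟩
  have : RingHomSurjective σ := ⟨hσ⟩
  let l : ζ.asModule →ₛₗ[σ] V :=
    { toFun := ζ.asModuleEquiv
      map_add' := map_add _
      map_smul' := fun a v => rfl }
  have hss : IsSemisimpleModule ↥(Algebra.adjoin k (Set.range ζ)) V :=
    (LinearMap.isSemisimpleModule_iff_of_bijective l ζ.asModuleEquiv.bijective).1 inferInstance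
  refine freeOn_top_of_semisimple (R := ↥(Algebra.adjoin k (Set.range ζ))) c τ ?_ ?_
  · intro e a v
    show τ e ((a : Module.End k V) v) = (τ e * (a : Module.End k V) * τ e⁻¹) (τ e v)
    rw [Module.End.mul_apply, Module.End.mul_apply, ← Module.End.mul_apply (τ e⁻¹),
      tau_inv_mul, Module.End.one_apply]
  · intro e he v hv
    refine faith e he v fun z => ?_
    have h1 := hv ⟨ζ z, Algebra.subset_adjoin ⟨z, rfl⟩⟩
    have h2 : (τ e * ζ z * τ e⁻¹) v = ζ z v := h1
    rw [hconjz] at h2
    exact h2

end abelian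

section sylow

/-- a subgroup containing a Sylow subgroup for every prime is everything -/
theorem eq_top_of_sylow_le {G : Type*} [Group G] [Finite G] (S : Subgroup G)
    (h : ∀ q : ℕ, q.Prime → ∃ Q : Sylow q G, (Q : Subgroup G) ≤ S) : S = ⊤ := by
  apply Subgroup.eq_top_of_card_eq
  apply Nat.dvd_antisymm (Subgroup.card_subgroup_dvd_card S)
  rw [← Nat.factorization_le_iff_dvd Nat.card_pos.ne' Nat.card_pos.ne']
  intro q
  by_cases hq : q.Prime
  · obtain ⟨Q, hQ⟩ := h q hq
    have h1 : Nat.card (Q : Subgroup G) ∣ Nat.card S := Subgroup.card_dvd_of_le hQ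
    have : Fact q.Prime := ⟨hq⟩
    rw [Sylow.card_eq_multiplicity] at h1
    exact (hq.pow_dvd_iff_le_factorization Nat.card_pos.ne').1 h1
  · rw [Nat.factorization_eq_zero_of_not_prime _ hq]
    exact Nat.zero_le _

end sylow

section nilpotent
universe u
variable {k : Type*} [Field k]
variable {Ut : Type*} [Group Ut] [Finite Ut] {E : Type*} [Group E] [Finite E]

theorem act_inv_act (act : E →* MulAut Ut) (e : E) (u : Ut) : act e⁻¹ (act e u) = u := by
  rw [← MulAut.mul_apply, ← map_mul, inv_mul_cancel, map_one, MulAut.one_apply]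

theorem act_act_inv (act : E →* MulAut Ut) (e : E) (u : Ut) : act e (act e⁻¹ u) = u := by
  rw [← MulAut.mul_apply, ← map_mul, mul_inv_cancel, map_one, MulAut.one_apply]

/-- the stabiliser of a vector -/
def vecStab {V : Type*} [AddCommGroup V] [Module k V] (υ : Representation k Ut V) (v : V) :
    Subgroup Ut where
  carrier := {u | υ u v = v}
  mul_mem' := by
    intro a b ha hb
    show υ (a * b) v = v
    rw [map_mul, Module.End.mul_apply, hb, ha]
  one_mem' := by
    show υ 1 v = v
    rw [map_one, Module.End.one_apply]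
  inv_mem' := by
    intro a ha
    show υ a⁻¹ v = v
    have h : υ a⁻¹ (υ a v) = v := by
      rw [← Module.End.mul_apply, ← map_mul, inv_mul_cancel, map_one, Module.End.one_apply]
    rwa [ha] at h

theorem mem_vecStab {V : Type*} [AddCommGroup V] [Module k V] (υ : Representation k Ut V)
    (v : V) (u : Ut) : u ∈ vecStab υ v ↔ υ u v = v := Iff.rfl

/-- some Sylow subgroup for a prime invertible in the field acts non-trivially -/
theorem exists_sylow_nontrivial {V : Type*} [AddCommGroup V] [Module k V] [Nontrivial V]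
    (υ : Representation k Ut V) (h0 : ∀ v, (∀ u, υ u v = v) → v = 0) :
    ∃ q : ℕ, q.Prime ∧ (q : k) ≠ 0 ∧ ∃ Q : Sylow q Ut, ∃ u ∈ Q, υ u ≠ 1 := by
  by_contra hcon
  push Not at hcon
  obtain ⟨v, hv0, hvfix⟩ : ∃ v : V, v ≠ 0 ∧ ∀ q : ℕ, q.Prime → (q : k) = 0 →
      ∃ Q : Sylow q Ut, ∀ u ∈ Q, υ u v = v := by
    rcases CharP.char_is_prime_or_zero k (ringChar k) with hp | hp0
    · have : Fact (ringChar k).Prime := ⟨hp⟩
      let P : Sylow (ringChar k) Ut := default
      obtain ⟨v, hv0, hv⟩ := Cfsg.Agent.Lib.Helper24_LinearPGroup.exists_fixed_vector (K := k)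
        (ringChar k) (Nat.card (P : Subgroup Ut)) ↥(P : Subgroup Ut) P.isPGroup' rfl V
        (υ.comp (P : Subgroup Ut).subtype)
      refine ⟨v, hv0, fun q hq hqk => ?_⟩
      have h1 : ringChar k ∣ q := (ringChar.spec k q).1 hqk
      have h2 : ringChar k = q := (Nat.prime_dvd_prime_iff_eq hp hq).1 h1
      subst h2
      exact ⟨P, fun u hu => hv ⟨u, hu⟩⟩
    · obtain ⟨v, hv0⟩ := exists_ne (0 : V)
      refine ⟨v, hv0, fun q hq hqk => ?_⟩
      exfalso
      have h1 : ringChar k ∣ q := (ringChar.spec k q).1 hqk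
      rw [hp0, zero_dvd_iff] at h1
      exact hq.ne_zero h1
  have hS : vecStab υ v = ⊤ := by
    apply eq_top_of_sylow_le
    intro q hq
    by_cases hqk : (q : k) = 0
    · obtain ⟨Q, hQ⟩ := hvfix q hq hqk
      exact ⟨Q, fun u hu => hQ u hu⟩
    · refine ⟨default, fun u hu => ?_⟩
      rw [mem_vecStab, hcon q hq hqk default u hu, Module.End.one_apply]
  apply hv0
  apply h0
  intro u
  have : u ∈ vecStab υ v := by rw [hS]; exact Subgroup.mem_top u
  exact this

/-- the main induction -/
theorem freeOn_top_of_nilpotent_aux (hnil : Group.IsNilpotent Ut) (act : E →* MulAut Ut)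
    (hfpf : ∀ e, e ≠ 1 → ∀ u, act e u = u → u = 1) (n : ℕ) :
    ∀ (V : Type u) [AddCommGroup V] [Module k V] [Module.Finite k V]
      (υ : Representation k Ut V) (τ : Representation k E V),
      (∀ e u v, τ e (υ u v) = υ (act e u) (τ e v)) →
      (∀ v, (∀ u, υ u v = v) → v = 0) → finrank k V = n → FreeOn τ ⊤ := by
  induction n using Nat.strong_induction_on with
  | _ n ih =>
    intro V _ _ _ υ τ hact h0 hn
    by_cases hV : Subsingleton V
    · exact freeOn_top_of_subsingleton τ
    rw [not_subsingleton_iff_nontrivial] at hV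
    classical
    obtain ⟨q, hq, hqk, Q, u₀, hu₀Q, hu₀⟩ := exists_sylow_nontrivial υ h0
    have hqF : Fact q.Prime := ⟨hq⟩
    have hQn : (Q : Subgroup Ut).Normal := by
      have h03 : Group.IsNilpotent Ut ↔
          ∀ (p : ℕ), Fact (Nat.Prime p) → ∀ (P : Sylow p Ut), (P : Subgroup Ut).Normal :=
        Group.isNilpotent_of_finite_tfae.out 0 3
      exact h03.1 hnil q hqF Q
    have hQc : (Q : Subgroup Ut).Characteristic := Sylow.characteristic_of_normal Q hQn
    have hQact : ∀ e u, u ∈ (Q : Subgroup Ut) → act e u ∈ (Q : Subgroup Ut) := by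
      intro e u hu
      have h := hQc.fixed (act e)
      rw [← h] at hu
      exact hu
    have hconj : ∀ e u, υ (act e u) = τ e * υ u * τ e⁻¹ := by
      intro e u
      apply LinearMap.ext
      intro v
      rw [Module.End.mul_apply, Module.End.mul_apply, hact, ← Module.End.mul_apply (τ e),
        tau_mul_inv, Module.End.one_apply]
    set Z : Subgroup Ut := cenSub υ (Q : Subgroup Ut) with hZ
    have hZn : Z.Normal := cenSub_normal υ (Q : Subgroup Ut)
    have hZact : ∀ e z, z ∈ Z → act e z ∈ Z := by
      rintro e z ⟨hzQ, hzc⟩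
      refine ⟨hQact e z hzQ, fun u hu => ?_⟩
      have hu' : act e⁻¹ u ∈ (Q : Subgroup Ut) := hQact e⁻¹ u hu
      have h1 := hzc _ hu'
      have h2 : u = act e (act e⁻¹ u) := (act_act_inv act e u).symm
      rw [h2, hconj, hconj]
      calc τ e * υ z * τ e⁻¹ * (τ e * υ (act e⁻¹ u) * τ e⁻¹)
          = τ e * υ z * (τ e⁻¹ * τ e) * υ (act e⁻¹ u) * τ e⁻¹ := by simp only [mul_assoc]
        _ = τ e * (υ z * υ (act e⁻¹ u)) * τ e⁻¹ := by
            rw [tau_inv_mul, mul_one]; simp only [mul_assoc]
        _ = τ e * (υ (act e⁻¹ u) * υ z) * τ e⁻¹ := by rw [h1]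
        _ = τ e * υ (act e⁻¹ u) * (τ e⁻¹ * τ e) * υ z * τ e⁻¹ := by
            rw [tau_inv_mul, mul_one]; simp only [mul_assoc]
        _ = τ e * υ (act e⁻¹ u) * τ e⁻¹ * (τ e * υ z * τ e⁻¹) := by simp only [mul_assoc]
    have hZp : IsPGroup q ↥Z := Q.isPGroup'.to_le (cenSub_le υ (Q : Subgroup Ut))
    have hZcard : (Nat.card ↥Z : k) ≠ 0 := by
      obtain ⟨m, hm⟩ := hZp.exists_card_eq
      rw [hm, Nat.cast_pow]
      exact pow_ne_zero _ hqk
    have hQnil : Group.IsNilpotent ↥(Q : Subgroup Ut) := Q.isPGroup'.isNilpotent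
    obtain ⟨z₀, hz₀Z, hz₀⟩ := exists_cenSub_ne_one υ (Q : Subgroup Ut) hQnil ⟨u₀, hu₀Q, hu₀⟩
    have hfinZ := Fintype.ofFinite ↥Z
    set X₁ : Submodule k V := fixedSpace υ Z with hX₁
    set X₂ : Submodule k V := LinearMap.ker (sumOp υ Z) with hX₂
    have hcompl : IsCompl X₁ X₂ := isCompl_fixedSpace_ker_sumOp υ Z hZcard
    have hX₁υ : ∀ u, X₁ ≤ X₁.comap (υ u) := fixedSpace_invariant υ Z
    have hX₂υ : ∀ u, X₂ ≤ X₂.comap (υ u) := ker_sumOp_invariant υ Z
    have hX₁τ : ∀ e, X₁ ≤ X₁.comap (τ e) := by
      intro e v hv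
      rw [Submodule.mem_comap]
      intro z hz
      have h1 := hact e (act e⁻¹ z) v
      rw [act_act_inv, hv _ (hZact e⁻¹ z hz)] at h1
      exact h1.symm
    have hsumτ : ∀ e v, sumOp υ Z (τ e v) = τ e (sumOp υ Z v) := by
      intro e v
      rw [sumOp_apply, sumOp_apply, map_sum]
      symm
      let σ : ↥Z ≃ ↥Z :=
        { toFun := fun z => ⟨act e z, hZact e z z.2⟩
          invFun := fun z => ⟨act e⁻¹ z, hZact e⁻¹ z z.2⟩
          left_inv := fun z => Subtype.ext (act_inv_act act e z)
          right_inv := fun z => Subtype.ext (act_act_inv act e z) }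
      apply Fintype.sum_equiv σ
      intro z
      exact hact e z v
    have hX₂τ : ∀ e, X₂ ≤ X₂.comap (τ e) := by
      intro e v hv
      rw [Submodule.mem_comap, hX₂, LinearMap.mem_ker, hsumτ, LinearMap.mem_ker.1 hv, map_zero]
    -- the fixed part, by induction
    have hfree₁ : FreeOn τ X₁ := by
      apply FreeOn.of_sub hX₁τ
      have hlt : finrank k ↥X₁ < n := by
        rw [← hn]
        apply Submodule.finrank_lt
        intro htop
        apply hz₀
        apply LinearMap.ext
        intro v
        have hv : v ∈ X₁ := by rw [htop]; trivial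
        rw [hv z₀ hz₀Z, Module.End.one_apply]
      refine ih _ hlt ↥X₁ (υ.subrepresentation X₁ hX₁υ) (τ.subrepresentation X₁ hX₁τ) ?_ ?_ rfl
      · intro e u v
        apply Subtype.ext
        exact hact e u v
      · intro v hv
        apply Subtype.ext
        apply h0
        intro u
        exact congrArg Subtype.val (hv u)
    -- the other part, by the commutative case
    have hfree₂ : FreeOn τ X₂ := by
      apply FreeOn.of_sub hX₂τ
      refine freeOn_top_of_abelian (Zt := ↥Z)
        ((υ.subrepresentation X₂ hX₂υ).comp Z.subtype) (τ.subrepresentation X₂ hX₂τ)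
        (fun e z => ⟨act e z, hZact e z z.2⟩) ?_ ?_ hZcard ?_
      · intro z z'
        apply LinearMap.ext
        intro v
        apply Subtype.ext
        have h1 := z.2.2 z' (cenSub_le υ _ z'.2)
        exact congrArg (fun f : Module.End k V => f v) h1
      · intro e z v
        apply Subtype.ext
        exact hact e z v
      · intro e he v hv
        have hv' : ∀ z : ↥Z, υ (act e z) (v : V) = υ z (v : V) := fun z =>
          congrArg Subtype.val (hv z)
        let φ : ↥Z → ↥Z := fun z => z⁻¹ * ⟨act e z, hZact e z z.2⟩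
        have hφinj : Function.Injective φ := by
          intro z z' hzz
          have h1 : (z : Ut)⁻¹ * act e z = (z' : Ut)⁻¹ * act e z' := congrArg Subtype.val hzz
          have h2 : act e ((z' : Ut) * (z : Ut)⁻¹) = (z' : Ut) * (z : Ut)⁻¹ := by
            rw [map_mul, map_inv]
            have h3 : (z' : Ut) * ((z : Ut)⁻¹ * act e z) * (act e z)⁻¹ =
                (z' : Ut) * ((z' : Ut)⁻¹ * act e z') * (act e z)⁻¹ := by rw [h1]
            rw [← mul_assoc, mul_assoc, mul_inv_cancel, mul_one, ← mul_assoc, mul_inv_cancel,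
              one_mul] at h3
            exact h3.symm
          have h4 := hfpf e he _ h2
          apply Subtype.ext
          exact (mul_inv_eq_one.1 h4).symm
        have hφsurj : Function.Surjective φ := Finite.surjective_of_injective hφinj
        have hvX₁ : (v : V) ∈ X₁ := by
          intro w hw
          obtain ⟨z, hz⟩ := hφsurj ⟨w, hw⟩
          have h1 : w = (z : Ut)⁻¹ * act e z := (congrArg Subtype.val hz).symm
          rw [h1, map_mul, Module.End.mul_apply, hv' z, ← Module.End.mul_apply, ← map_mul,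
            inv_mul_cancel, map_one, Module.End.one_apply]
        have h2 : (v : V) ∈ X₁ ⊓ X₂ := ⟨hvX₁, v.2⟩
        rw [hcompl.inf_eq_bot] at h2
        exact Subtype.ext ((Submodule.mem_bot k).1 h2)
    have hsup := FreeOn.sup hfree₁ hfree₂ (by
      have h1 := Submodule.finrank_sup_add_finrank_inf_eq X₁ X₂
      rw [hcompl.inf_eq_bot, finrank_bot, add_zero] at h1
      exact h1.ge)
    rw [hcompl.sup_eq_top] at hsup
    exact hsup

/-- a finite group acting without fixed points on a finite nilpotent group, both acting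
compatibly on a finite dimensional space in which the nilpotent group fixes no non-zero vector:
the space is free for the acting group -/
theorem freeOn_top_of_nilpotent {V : Type u} [AddCommGroup V] [Module k V] [Module.Finite k V]
    (hnil : Group.IsNilpotent Ut) (act : E →* MulAut Ut)
    (hfpf : ∀ e, e ≠ 1 → ∀ u, act e u = u → u = 1)
    (υ : Representation k Ut V) (τ : Representation k E V)
    (hact : ∀ e u v, τ e (υ u v) = υ (act e u) (τ e v))
    (h0 : ∀ v, (∀ u, υ u v = v) → v = 0) : FreeOn τ ⊤ :=
  freeOn_top_of_nilpotent_aux hnil act hfpf _ V υ τ hact h0 rfl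

end nilpotent

end Cfsg.Agent.Lib.Helper64_FrobFree
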