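/-
Helper library (helper64): outer reductions for Hall–Higman Theorem B (S0633):
* a `p`-element of a `p`-solvable group with `O_p = 1` moves an invariant `q`-subgroup of `O_{p'}`;
* base change of endomorphisms along a field extension via a basis;
* nilpotency index versus minimal polynomial.
-/
import Mathlib
import Cfsg.Prelude.Def_Solvable
import Cfsg.Prelude.Def_Local
import Cfsg.Agent.Lib.Helper47_HH
import Cfsg.Agent.Lib.Helper24_CoprimeAction
import Cfsg.Agent.Lib.Helper76_PSolvable
import Cfsg.Agent.Lib.Helper64_FrobFree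

set_option autoImplicit false

namespace Cfsg.Agent.Lib.Helper64_HHBOuter

open Cfsg

section grp

/-- In a finite `p`-solvable group with `O_p(G) = 1`, an element `x` of order `p^(n+1)` normalizes
some `q`-subgroup (`q ≠ p`) that is not centralized by `x^(p^n)`. -/
theorem exists_q_subgroup {G : Type*} [Group G] [Finite G] (p : ℕ) [hp : Fact p.Prime]
    (hsol : IsPSolvable p G) (hcore : pCore p G = ⊥) (x : G) (n : ℕ)
    (hx : orderOf x = p ^ (n + 1)) :
    ∃ q : ℕ, q.Prime ∧ p ≠ q ∧ ∃ Q : Subgroup G, IsPGroup q Q ∧ (∀ g ∈ Q, x * g * x⁻¹ ∈ Q) ∧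
      ∃ g ∈ Q, ¬ Commute (x ^ p ^ n) g := by
  classical
  have hNn : (pPrimeCore p G).Normal := Cfsg.Agent.Lib.Helper76_PSolvable.pPrimeCore_normal p
  have hNc : (Nat.card (pPrimeCore p G)).Coprime p :=
    Cfsg.Agent.Lib.Helper76_PSolvable.pPrimeCore_card_coprime p
  have hHH := Cfsg.Agent.Lib.Helper47_HH.centralizer_pPrimeCore_le p hsol hcore
  set N := pPrimeCore p G with hN
  set x₀ := x ^ p ^ n with hx₀
  have hx₀ord : orderOf x₀ = p := by
    rw [hx₀, orderOf_pow' x (pow_ne_zero n hp.out.pos.ne'), hx,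
      Nat.gcd_eq_right (pow_dvd_pow p (Nat.le_succ n)), pow_succ,
      Nat.mul_div_cancel_left _ (pow_pos hp.out.pos n)]
  have hx₀N : x₀ ∉ N := by
    intro h
    have h1 : orderOf x₀ ∣ Nat.card N := by
      have := orderOf_dvd_natCard (⟨x₀, h⟩ : N)
      rwa [← Subgroup.orderOf_coe] at this
    rw [hx₀ord] at h1
    have := Nat.Coprime.eq_one_of_dvd hNc.symm h1
    exact hp.out.one_lt.ne' this
  have hx₀C : x₀ ∉ Subgroup.centralizer (N : Set G) := fun h => hx₀N (hHH h)
  by_contra hcon
  push Not at hcon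
  apply hx₀C
  set A := Subgroup.zpowers x with hA
  have hAN : A ≤ Subgroup.normalizer (N : Set G) := by
    rw [Subgroup.normalizer_eq_top]; exact le_top
  have hAcard : Nat.card A = p ^ (n + 1) := by rw [hA, Nat.card_zpowers, hx]
  have hcop : (Nat.card A).Coprime (Nat.card N) := by
    rw [hAcard]; exact (Nat.Coprime.pow_right _ hNc).symm
  have hAsol : Group.IsSolvable A := by
    have : IsMulCommutative A := by rw [hA]; infer_instance
    infer_instance
  set C : Subgroup N := (Subgroup.centralizer ({x₀} : Set G)).subgroupOf N with hC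
  have hCtop : C = ⊤ := by
    apply Cfsg.Agent.Lib.Helper64_FrobFree.eq_top_of_sylow_le
    intro q hq
    have : Fact q.Prime := ⟨hq⟩
    obtain ⟨P, hP⟩ := Cfsg.Agent.Lib.Helper24_CoprimeAction.exists_invariant_sylow A N hAN hcop
      (Or.inl hAsol) q
    refine ⟨P, ?_⟩
    by_cases hqp : p = q
    · subst hqp
      have h1 : Nat.card (P : Subgroup N) ∣ Nat.card N := Subgroup.card_subgroup_dvd_card _
      obtain ⟨k, hk⟩ := IsPGroup.iff_card.mp P.2
      have h2 : Nat.card (P : Subgroup N) = 1 := by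
        rcases Nat.eq_zero_or_pos k with hk0 | hk0
        · rw [hk, hk0, pow_zero]
        · exfalso
          have : p ∣ Nat.card N := dvd_trans (hk ▸ dvd_pow_self p hk0.ne') h1
          exact hp.out.one_lt.ne' (Nat.Coprime.eq_one_of_dvd hNc.symm this)
      rw [Subgroup.card_eq_one] at h2
      rw [h2]; exact bot_le
    · intro g hg
      rw [hC, Subgroup.mem_subgroupOf, Subgroup.mem_centralizer_iff]
      intro y hy
      rw [Set.mem_singleton_iff] at hy
      subst hy
      have hQ : IsPGroup q (Cfsg.Agent.Lib.Helper24_CoprimeAction.sylowImage P) :=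
        P.2.map _
      have hinv : ∀ g ∈ Cfsg.Agent.Lib.Helper24_CoprimeAction.sylowImage P,
          x * g * x⁻¹ ∈ Cfsg.Agent.Lib.Helper24_CoprimeAction.sylowImage P := by
        intro g hg
        have hxA : x ∈ A := Subgroup.mem_zpowers x
        exact (Subgroup.mem_normalizer_iff.mp (hP hxA) g).mp hg
      have := hcon q hq hqp _ hQ hinv (g : G) ⟨g, hg, rfl⟩
      exact this.eq
  rw [Subgroup.mem_centralizer_iff]
  intro g hg
  have : (⟨g, hg⟩ : N) ∈ C := by rw [hCtop]; exact Subgroup.mem_top _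
  rw [hC, Subgroup.mem_subgroupOf, Subgroup.mem_centralizer_iff] at this
  exact (this x₀ rfl).symm

end grp

section bc

variable {F K : Type*} [Field F] [Field K] [Algebra F K] {V : Type*} [AddCommGroup V] [Module F V]
  {ι : Type*} [Fintype ι] [DecidableEq ι] (b : Module.Basis ι F V)

/-- base change of endomorphisms along `F → K` via a basis, as a ring homomorphism -/
noncomputable def bcEnd : Module.End F V →+* Module.End K (ι → K) :=
  ((Matrix.toLinAlgEquiv' : Matrix ι ι K ≃ₐ[K] _) : Matrix ι ι K →+* Module.End K (ι → K)).comp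
    ((algebraMap F K).mapMatrix.comp
      ((LinearMap.toMatrixAlgEquiv b : Module.End F V ≃ₐ[F] Matrix ι ι F) :
        Module.End F V →+* Matrix ι ι F))

theorem bcEnd_injective : Function.Injective (bcEnd (K := K) b) := by
  unfold bcEnd
  intro f g h
  simp only [RingHom.coe_comp, Function.comp_apply] at h
  have h1 := (Matrix.toLinAlgEquiv' : Matrix ι ι K ≃ₐ[K] _).injective h
  have h2 : Function.Injective ((algebraMap F K).mapMatrix (m := ι)) := by
    intro A B hAB
    ext i j
    have := congrFun (congrFun hAB i) j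
    simpa using this
  exact (LinearMap.toMatrixAlgEquiv b).injective (h2 h1)

/-- base change of linear automorphisms -/
noncomputable def bcGL : (V ≃ₗ[F] V) →* ((ι → K) ≃ₗ[K] (ι → K)) :=
  (LinearMap.GeneralLinearGroup.generalLinearEquiv K (ι → K)).toMonoidHom.comp
    ((Units.map (bcEnd (K := K) b).toMonoidHom).comp
      (LinearMap.GeneralLinearGroup.generalLinearEquiv F V).symm.toMonoidHom)

theorem bcGL_coe (g : V ≃ₗ[F] V) :
    ((bcGL (K := K) b g : (ι → K) ≃ₗ[K] (ι → K)) : Module.End K (ι → K)) =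
      bcEnd b (g : Module.End F V) := by
  unfold bcGL
  simp only [MonoidHom.coe_comp, Function.comp_apply, MulEquiv.coe_toMonoidHom,
    LinearMap.GeneralLinearGroup.generalLinearEquiv_to_linearMap, Units.coe_map]
  rfl

theorem bcGL_injective : Function.Injective (bcGL (K := K) b) := by
  intro g h hgh
  have h1 : bcEnd (K := K) b (g : Module.End F V) = bcEnd b (h : Module.End F V) := by
    rw [← bcGL_coe, ← bcGL_coe, hgh]
  have h2 := bcEnd_injective b h1
  exact LinearEquiv.toLinearMap_injective h2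

end bc

section mp

open Polynomial

variable {F : Type*} [Field F] {V : Type*} [AddCommGroup V] [Module F V]

theorem pow_eq_zero_of_minpoly (a : Module.End F V) (r : ℕ)
    (hr : minpoly F a = (X - 1) ^ r) : (a - 1) ^ r = 0 := by
  have h := minpoly.aeval F a
  rw [hr] at h
  simpa using h

theorem le_of_pow_eq_zero (a : Module.End F V) (r : ℕ)
    (hr : minpoly F a = (X - 1) ^ r) (j : ℕ) (hj : (a - 1) ^ j = 0) : r ≤ j := by
  have h1 : aeval a ((X - 1 : F[X]) ^ j) = 0 := by simpa using hj
  have h2 := minpoly.dvd F a h1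
  rw [hr] at h2
  have hne : (X - 1 : F[X]) ≠ 0 := by
    have := X_sub_C_ne_zero (1 : F)
    simpa using this
  have hnu : ¬ IsUnit (X - 1 : F[X]) := by
    have := not_isUnit_X_sub_C (1 : F)
    simpa using this
  exact (pow_dvd_pow_iff hne hnu).mp h2

theorem pow_ne_zero_iff_lt (a : Module.End F V) (r : ℕ)
    (hr : minpoly F a = (X - 1) ^ r) (j : ℕ) : (a - 1) ^ j ≠ 0 ↔ j < r := by
  constructor
  · intro h
    by_contra hle
    push Not at hle
    apply h
    obtain ⟨k, rfl⟩ := Nat.exists_eq_add_of_le hle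
    rw [pow_add, pow_eq_zero_of_minpoly a r hr, zero_mul]
  · intro h h0
    exact absurd (le_of_pow_eq_zero a r hr j h0) (by omega)

theorem sub_one_pow_char_pow' (p : ℕ) [Fact p.Prime] [CharP F p] (a : Module.End F V) (n : ℕ) :
    (a - 1) ^ p ^ n = a ^ p ^ n - 1 := by
  have h : ((X - 1 : F[X]) ^ p ^ n) = X ^ p ^ n - 1 := by
    rw [sub_pow_char_pow, one_pow]
  have := congrArg (aeval a) h
  simpa using this

end mp

section syl

open scoped Pointwise

/-- a non-commutative `q`-subgroup forces every Sylow `q`-subgroup to be non-commutative -/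
theorem sylow_not_comm {G : Type*} [Group G] [Finite G] {q : ℕ} [Fact q.Prime] (Q : Subgroup G)
    (hQ : IsPGroup q Q) (hnc : ¬ IsMulCommutative Q) (S : Sylow q G) : ¬ IsMulCommutative S := by
  intro hS
  apply hnc
  obtain ⟨S', hS'⟩ := hQ.exists_le_sylow
  obtain ⟨g, rfl⟩ := MulAction.exists_smul_eq G S S'
  refine IsMulCommutative.of_comm ?_
  rintro ⟨a, ha⟩ ⟨b, hb⟩
  apply Subtype.ext
  have ha' : g⁻¹ * a * g ∈ (S : Subgroup G) := by
    have := hS' ha
    rw [Sylow.coe_subgroup_smul, Subgroup.mem_pointwise_smul_iff_inv_smul_mem] at this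
    simpa [MulAut.smul_def] using this
  have hb' : g⁻¹ * b * g ∈ (S : Subgroup G) := by
    have := hS' hb
    rw [Sylow.coe_subgroup_smul, Subgroup.mem_pointwise_smul_iff_inv_smul_mem] at this
    simpa [MulAut.smul_def] using this
  have h := mul_comm' (⟨_, ha'⟩ : (S : Subgroup G)) ⟨_, hb'⟩
  have h2 := congrArg Subtype.val h
  simp only [Subgroup.coe_mul] at h2
  show a * b = b * a
  have e1 : a * b = g * ((g⁻¹ * a * g) * (g⁻¹ * b * g)) * g⁻¹ := by group
  have e2 : b * a = g * ((g⁻¹ * b * g) * (g⁻¹ * a * g)) * g⁻¹ := by group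
  rw [e1, e2, h2]

/-- commutativity passes to images -/
theorem not_comm_of_map {G G' : Type*} [Group G] [Group G'] (f : G →* G') (Q : Subgroup G)
    (h : ¬ IsMulCommutative (Q.map f)) : ¬ IsMulCommutative Q := by
  intro hQ
  apply h
  refine IsMulCommutative.of_comm ?_
  rintro ⟨u, a, ha, rfl⟩ ⟨v, b, hb, rfl⟩
  apply Subtype.ext
  show f a * f b = f b * f a
  have := congrArg Subtype.val (mul_comm' (⟨a, ha⟩ : Q) ⟨b, hb⟩)
  simp only [Subgroup.coe_mul] at this
  rw [← map_mul, ← map_mul, this]

end syl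

end Cfsg.Agent.Lib.Helper64_HHBOuter
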