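/-
Helper library (helper64): consequence of Hall–Higman Theorem B for elements of order `p`
(`p` odd, not a Fermat prime): in a faithful action of a `p`-solvable group with `O_p = 1` on an
elementary abelian `p`-group, the norm `n ↦ ∏_{i<p} γ^i n` of an element `γ` of order `p` is
not trivial.
-/
import Mathlib
import Cfsg.Agent.S0633
import Cfsg.Agent.Lib.Helper64_HHBOuter
import Cfsg.Agent.Lib.Helper58_GLHom
import Cfsg.Agent.Lib.Helper32_PSolvable
import Cfsg.Agent.Lib.Helper76_PSolvable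

set_option autoImplicit false

namespace Cfsg.Agent.Lib.Helper64_HHNorm

open Cfsg Polynomial

section poly

/-- `(X - 1)^(p-1) = 1 + X + ⋯ + X^(p-1)` in characteristic `p` -/
theorem X_sub_one_pow_pred (F : Type*) [Field F] (p : ℕ) [hp : Fact p.Prime] [CharP F p] :
    ((X - 1 : F[X]) ^ (p - 1)) = ∑ i ∈ Finset.range p, (X : F[X]) ^ i := by
  have hne : (X - 1 : F[X]) ≠ 0 := by
    have := X_sub_C_ne_zero (1 : F)
    simpa using this
  apply mul_left_cancel₀ hne
  rw [mul_geom_sum, ← pow_succ', Nat.sub_add_cancel hp.out.one_le]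
  have := sub_pow_char_pow (R := F[X]) (p := p) (n := 1) (X : F[X]) 1
  rw [pow_one, one_pow] at this
  exact this

theorem sub_one_pow_pred {F : Type*} [Field F] (p : ℕ) [hp : Fact p.Prime] [CharP F p]
    {V : Type*} [AddCommGroup V] [Module F V] (a : Module.End F V) :
    (a - 1) ^ (p - 1) = ∑ i ∈ Finset.range p, a ^ i := by
  have := congrArg (aeval a) (X_sub_one_pow_pred F p)
  simpa using this

/-- if `(a - 1)^m = 0` then the minimal polynomial of `a` is a power of `X - 1` -/
theorem exists_minpoly_eq {F : Type*} [Field F] {V : Type*} [AddCommGroup V] [Module F V]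
    [FiniteDimensional F V] (a : Module.End F V) (m : ℕ) (h : (a - 1) ^ m = 0) :
    ∃ r, minpoly F a = (X - 1) ^ r := by
  have h1 : aeval a ((X - 1 : F[X]) ^ m) = 0 := by simpa using h
  have h2 := minpoly.dvd F a h1
  have hprime : Prime (X - 1 : F[X]) := by
    have := prime_X_sub_C (1 : F)
    simpa using this
  obtain ⟨r, _, hr⟩ := (dvd_prime_pow hprime m).mp h2
  refine ⟨r, ?_⟩
  have hm1 : (minpoly F a).Monic := minpoly.monic (Algebra.IsIntegral.isIntegral a)
  have hm2 : ((X - 1 : F[X]) ^ r).Monic := by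
    have : (X - C (1 : F)).Monic := monic_X_sub_C 1
    simpa using this.pow r
  exact eq_of_monic_of_associated hm1 hm2 hr

end poly

section core

/-- transport of `O_p = 1` along an isomorphism -/
theorem pCore_eq_bot_of_mulEquiv {G G' : Type*} [Group G] [Group G'] (p : ℕ) (e : G ≃* G')
    (h : pCore p G = ⊥) : pCore p G' = ⊥ := by
  rw [eq_bot_iff]
  apply sSup_le
  rintro M ⟨hMn, hMp⟩
  have h1 : M.comap e.toMonoidHom ≤ pCore p G := by
    apply le_sSup
    refine ⟨Subgroup.Normal.comap hMn _, ?_⟩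
    exact hMp.comap_of_injective _ e.injective
  rw [h] at h1
  intro m hm
  obtain ⟨g, rfl⟩ := e.surjective m
  have : g ∈ M.comap e.toMonoidHom := hm
  have := h1 this
  rw [Subgroup.mem_bot] at this
  rw [this, map_one]
  exact Subgroup.one_mem _

end core

section main

/-- an odd prime `p` with `p - 1` a prime power is a Fermat prime -/
theorem fermat_of_pred_prime_pow {p q m : ℕ} (hp : p.Prime) (hp2 : p ≠ 2) (hq : q.Prime)
    (h : p - 1 = q ^ m) : ∃ k : ℕ, p = 2 ^ k + 1 := by
  have hodd : Odd p := hp.odd_of_ne_two hp2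
  have h2 : 2 ∣ p - 1 := by
    obtain ⟨k, hk⟩ := hodd
    exact ⟨k, by omega⟩
  rw [h] at h2
  have hq2 : q = 2 := by
    have := (Nat.prime_two.dvd_of_dvd_pow h2)
    exact ((Nat.prime_dvd_prime_iff_eq Nat.prime_two hq).mp this).symm
  refine ⟨m, ?_⟩
  rw [hq2] at h
  have := hp.one_le
  omega

theorem exists_norm_ne_one_aux {p : ℕ} [hp : Fact p.Prime] (hp2 : p ≠ 2)
    (hnf : ¬ ∃ k : ℕ, p = 2 ^ k + 1)
    {Γ : Type*} [Group Γ] [Finite Γ] {N : Type*} [CommGroup N] [Finite N]
    [Module (ZMod p) (Additive N)]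
    (hsol : IsPSolvable p Γ) (hcore : pCore p Γ = ⊥)
    (c : Γ →* MulAut N) (hfaith : ∀ γ, (∀ n, c γ n = n) → γ = 1)
    (γ : Γ) (hγ : orderOf γ = p) : ∃ n : N, ∏ i ∈ Finset.range p, c (γ ^ i) n ≠ 1 := by
  classical
  have hfinV : Finite (Additive N) := inferInstanceAs (Finite N)
  have hγ1 : γ ≠ 1 := by
    intro h
    rw [h, orderOf_one] at hγ
    exact hp.out.one_lt.ne hγ
  have hnt : Nontrivial (Additive N) := by
    by_contra hnn
    rw [not_nontrivial_iff_subsingleton] at hnn
    apply hγ1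
    apply hfaith
    intro n
    exact Additive.ofMul.injective (Subsingleton.elim _ _)
  -- the linear representation
  let ρ : Γ →* (Additive N ≃ₗ[ZMod p] Additive N) :=
    (LinearMap.GeneralLinearGroup.generalLinearEquiv (ZMod p) (Additive N)).toMonoidHom.comp
      ((Cfsg.Agent.Lib.Helper58_GLHom.mulAutToLin p N).comp c)
  have hρapp : ∀ (g : Γ) (v : Additive N), ρ g v = Additive.ofMul (c g v.toMul) := fun g v => rfl
  have hρinj : Function.Injective ρ := by
    rw [injective_iff_map_eq_one]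
    intro g hg
    apply hfaith
    intro n
    have := hρapp g (Additive.ofMul n)
    rw [hg] at this
    exact (Additive.ofMul.injective this).symm
  let H : Subgroup (Additive N ≃ₗ[ZMod p] Additive N) := ρ.range
  have hHfin : Finite H := Finite.of_surjective ρ.rangeRestrict ρ.rangeRestrict_surjective
  have hHsol : IsPSolvable p H :=
    Cfsg.Agent.Lib.Helper32_PSolvable.isPSolvable_of_surjective ρ.rangeRestrict
      ρ.rangeRestrict_surjective hsol
  have hHcore : pCore p H = ⊥ :=
    pCore_eq_bot_of_mulEquiv p (MonoidHom.ofInjective hρinj) hcore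
  have hxH : ρ γ ∈ H := ⟨γ, rfl⟩
  have hord : orderOf (ρ γ) = p ^ 1 := by
    rw [pow_one, orderOf_injective ρ hρinj, hγ]
  -- the minimal polynomial
  have hpowE : ∀ k : ℕ, ((ρ γ ^ k : Additive N ≃ₗ[ZMod p] Additive N) :
      Module.End (ZMod p) (Additive N)) = ((ρ γ : Additive N ≃ₗ[ZMod p] Additive N) :
        Module.End (ZMod p) (Additive N)) ^ k := by
    intro k
    exact map_pow (LinearEquiv.automorphismGroup.toLinearMapMonoidHom (R := ZMod p)
      (M := Additive N)) (ρ γ) k
  have hap : ((ρ γ : Additive N ≃ₗ[ZMod p] Additive N) :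
      Module.End (ZMod p) (Additive N)) ^ p = 1 := by
    have hγp : γ ^ p = 1 := by
      have := pow_orderOf_eq_one γ
      rwa [hγ] at this
    rw [← hpowE, ← map_pow, hγp, map_one]; rfl
  have hnil : (((ρ γ : Additive N ≃ₗ[ZMod p] Additive N) :
      Module.End (ZMod p) (Additive N)) - 1) ^ p ^ 1 = 0 := by
    rw [Cfsg.Agent.Lib.Helper64_HHBOuter.sub_one_pow_char_pow' p, pow_one, hap, sub_self]
  obtain ⟨r, hr⟩ := exists_minpoly_eq _ _ hnil
  have hB := Cfsg.Agent.S0633.result H hHsol hHcore (ρ γ) hxH 1 hord r hr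
  have hrp : r = p := by
    rcases hB with h | ⟨n₀, q, m, h1, h2, hq, hm, hpq, -, -⟩
    · rw [h, pow_one]
    · exfalso
      have hn₀ : n₀ = 1 := le_antisymm h2 h1
      subst hn₀
      rw [pow_one] at hpq
      exact hnf (fermat_of_pred_prime_pow hp.out hp2 hq hpq)
  have hne : (((ρ γ : Additive N ≃ₗ[ZMod p] Additive N) :
      Module.End (ZMod p) (Additive N)) - 1) ^ (p - 1) ≠ 0 := by
    rw [Cfsg.Agent.Lib.Helper64_HHBOuter.pow_ne_zero_iff_lt _ r hr, hrp]
    have := hp.out.one_le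
    omega
  rw [sub_one_pow_pred p] at hne
  obtain ⟨v, hv⟩ : ∃ v : Additive N, (∑ i ∈ Finset.range p,
      ((ρ γ : Additive N ≃ₗ[ZMod p] Additive N) : Module.End (ZMod p) (Additive N)) ^ i) v ≠ 0 := by
    by_contra hcon
    push Not at hcon
    apply hne
    ext v
    exact hcon v
  refine ⟨v.toMul, ?_⟩
  intro h1
  apply hv
  rw [LinearMap.sum_apply]
  have h2 : ∀ i ∈ Finset.range p, (((ρ γ : Additive N ≃ₗ[ZMod p] Additive N) :
      Module.End (ZMod p) (Additive N)) ^ i) v = Additive.ofMul (c (γ ^ i) v.toMul) := by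
    intro i _
    rw [← hpowE, ← map_pow]
    rfl
  rw [Finset.sum_congr rfl h2, ← ofMul_prod, h1]
  rfl

theorem exists_norm_ne_one {p : ℕ} [hp : Fact p.Prime] (hp2 : p ≠ 2)
    (hnf : ¬ ∃ k : ℕ, p = 2 ^ k + 1)
    {Γ : Type*} [Group Γ] [Finite Γ] {N : Type*} [CommGroup N] [Finite N]
    (hsol : IsPSolvable p Γ) (hcore : pCore p Γ = ⊥)
    (c : Γ →* MulAut N) (hN : ∀ n : N, n ^ p = 1) (hfaith : ∀ γ, (∀ n, c γ n = n) → γ = 1)
    (γ : Γ) (hγ : orderOf γ = p) : ∃ n : N, ∏ i ∈ Finset.range p, c (γ ^ i) n ≠ 1 := by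
  let inst2 : Module (ZMod p) (Additive N) := AddCommGroup.zmodModule (n := p) (by
    intro x
    have h2 : Additive.ofMul ((Additive.toMul x) ^ p) = 0 := by rw [hN]; rfl
    rw [ofMul_pow] at h2
    exact h2)
  exact @exists_norm_ne_one_aux p hp hp2 hnf Γ _ _ N _ _ inst2 hsol hcore c hfaith γ hγ

end main

end Cfsg.Agent.Lib.Helper64_HHNorm
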