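/-
Helper library (helper64): the regular module `ZMod p → ZMod p` of the cyclic group of order `p`:
a shift-invariant subgroup containing a function with nonzero total sum is everything;
shift-fixed functions are constant.
-/
import Mathlib
import Cfsg.Agent.Lib.Helper64_HHBOuter
import Cfsg.Agent.Lib.Helper64_HHNorm

set_option autoImplicit false

namespace Cfsg.Agent.Lib.Helper64_ShiftFun

open Cfsg.Agent.Lib.Helper64_HHBOuter Cfsg.Agent.Lib.Helper64_HHNorm

section lin

variable (p : ℕ) [hp : Fact p.Prime]

/-- the shift operator on functions `ZMod p → ZMod p` -/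
noncomputable def shift : Module.End (ZMod p) (ZMod p → ZMod p) :=
  LinearMap.funLeft (ZMod p) (ZMod p) (fun i : ZMod p => i + 1)

theorem shift_apply (g : ZMod p → ZMod p) (i : ZMod p) : shift p g i = g (i + 1) := rfl

theorem shift_pow_apply (k : ℕ) (g : ZMod p → ZMod p) (i : ZMod p) :
    ((shift p) ^ k) g i = g (i + k) := by
  induction k generalizing g i with
  | zero => simp
  | succ k ih =>
    rw [pow_succ, Module.End.mul_apply, ih, shift_apply]
    congr 1
    push_cast
    ring

theorem sum_range_cast (h : ZMod p → ZMod p) :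
    ∑ k ∈ Finset.range p, h (k : ZMod p) = ∑ j : ZMod p, h j := by
  have : NeZero p := ⟨hp.out.ne_zero⟩
  symm
  apply Finset.sum_bij (fun j _ => j.val)
  · intro j _; exact Finset.mem_range.mpr (ZMod.val_lt j)
  · intro a _ b _ hab; exact ZMod.val_injective p hab
  · intro k hk
    exact ⟨(k : ZMod p), Finset.mem_univ _, ZMod.val_cast_of_lt (Finset.mem_range.mp hk)⟩
  · intro j _; rw [ZMod.natCast_zmod_val]

theorem sum_range_eq (g : ZMod p → ZMod p) (i : ZMod p) :
    ∑ k ∈ Finset.range p, g (i + (k : ZMod p)) = ∑ j : ZMod p, g j := by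
  rw [sum_range_cast p (fun j => g (i + j))]
  exact Equiv.sum_comp (Equiv.addLeft i) g

theorem submodule_eq_top (M : Submodule (ZMod p) (ZMod p → ZMod p))
    (hinv : ∀ f ∈ M, (fun i => f (i + 1)) ∈ M) (f₀ : ZMod p → ZMod p) (hf₀ : f₀ ∈ M)
    (h : ∑ i, f₀ i ≠ 0) : M = ⊤ := by
  classical
  set E : Module.End (ZMod p) (ZMod p → ZMod p) := shift p - 1 with hE
  have hEinv : ∀ f ∈ M, E f ∈ M := by
    intro f hf
    rw [hE, LinearMap.sub_apply]
    exact M.sub_mem (hinv f hf) hf
  have hEkinv : ∀ (k : ℕ), ∀ f ∈ M, (E ^ k) f ∈ M := by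
    intro k
    induction k with
    | zero => intro f hf; simpa using hf
    | succ k ih =>
      intro f hf
      rw [pow_succ', Module.End.mul_apply]
      exact hEinv _ (ih f hf)
  have hσp : (shift p) ^ p = 1 := by
    refine LinearMap.ext fun g => funext fun i => ?_
    rw [shift_pow_apply]
    simp
  have hEp : E ^ p = 0 := by
    have := sub_one_pow_char_pow' p (shift p) 1
    rw [pow_one, hσp, sub_self] at this
    exact this
  have hEpred : (E ^ (p - 1)) f₀ ≠ 0 := by
    rw [hE, sub_one_pow_pred p, LinearMap.sum_apply]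
    intro h0
    apply h
    have := congrFun h0 0
    rw [Finset.sum_apply] at this
    simp only [shift_pow_apply, zero_add] at this
    rw [← sum_range_eq p f₀ 0]
    simpa using this
  have hchain : ∀ j : ℕ, j ≤ p → j ≤ Module.finrank (ZMod p) ↥(M ⊓ LinearMap.ker (E ^ j)) := by
    intro j
    induction j with
    | zero => intro _; exact Nat.zero_le _
    | succ j ih =>
      intro hj
      have h1 := ih (by omega)
      have hlt : M ⊓ LinearMap.ker (E ^ j) < M ⊓ LinearMap.ker (E ^ (j + 1)) := by
        rw [lt_iff_le_and_ne]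
        refine ⟨?_, ?_⟩
        · intro f hf
          rw [Submodule.mem_inf] at hf ⊢
          refine ⟨hf.1, ?_⟩
          have := hf.2
          rw [LinearMap.mem_ker] at this ⊢
          rw [pow_succ', Module.End.mul_apply, this, map_zero]
        · intro heq
          have hg : (E ^ (p - 1 - j)) f₀ ∈ M ⊓ LinearMap.ker (E ^ (j + 1)) := by
            rw [Submodule.mem_inf]
            refine ⟨hEkinv _ f₀ hf₀, ?_⟩
            rw [LinearMap.mem_ker, ← Module.End.mul_apply, ← pow_add]
            have : j + 1 + (p - 1 - j) = p := by omega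
            rw [this, hEp]
            rfl
          rw [← heq, Submodule.mem_inf] at hg
          have := hg.2
          rw [LinearMap.mem_ker, ← Module.End.mul_apply, ← pow_add] at this
          have e : j + (p - 1 - j) = p - 1 := by omega
          rw [e] at this
          exact hEpred this
      have := Submodule.finrank_lt_finrank_of_lt hlt
      omega
  have h2 := hchain p le_rfl
  have h3 : Module.finrank (ZMod p) ↥(M ⊓ LinearMap.ker (E ^ p)) ≤ Module.finrank (ZMod p) ↥M :=
    Submodule.finrank_mono inf_le_left
  apply Submodule.eq_top_of_finrank_eq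
  apply le_antisymm (Submodule.finrank_le M)
  have h4 : Module.finrank (ZMod p) (ZMod p → ZMod p) = p := by
    rw [Module.finrank_fintype_fun_eq_card, ZMod.card]
  omega

/-- a shift-fixed function is constant -/
theorem const_of_shift_fixed {C : Type*} (f : ZMod p → C) (h : ∀ i, f (i + 1) = f i) (i : ZMod p) :
    f i = f 0 := by
  have : NeZero p := ⟨hp.out.ne_zero⟩
  have h1 : ∀ k : ℕ, f (k : ZMod p) = f 0 := by
    intro k
    induction k with
    | zero => simp
    | succ k ih =>
      push_cast
      rw [h, ih]
  rw [← ZMod.natCast_zmod_val i]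
  exact h1 _

end lin

section mul

variable (p : ℕ) [hp : Fact p.Prime]

theorem subgroup_eq_top (M : Subgroup (ZMod p → Multiplicative (ZMod p)))
    (hinv : ∀ f ∈ M, (fun i => f (i + 1)) ∈ M) (f₀ : ZMod p → Multiplicative (ZMod p))
    (hf₀ : f₀ ∈ M) (h : ∏ i, f₀ i ≠ 1) : M = ⊤ := by
  have : NeZero p := ⟨hp.out.ne_zero⟩
  let M' : Submodule (ZMod p) (ZMod p → ZMod p) :=
    { carrier := {g | (fun i => Multiplicative.ofAdd (g i)) ∈ M}
      add_mem' := by
        intro a b ha hb
        exact M.mul_mem ha hb
      zero_mem' := M.one_mem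
      smul_mem' := by
        intro c g hg
        have hc : c • g = c.val • g := by
          rw [← Nat.cast_smul_eq_nsmul (ZMod p), ZMod.natCast_zmod_val]
        show (fun i => Multiplicative.ofAdd ((c • g) i)) ∈ M
        rw [hc]
        have hg' : (fun i => Multiplicative.ofAdd (g i)) ∈ M := hg
        have := M.pow_mem hg' c.val
        have e : (fun i => Multiplicative.ofAdd ((c.val • g) i)) =
            (fun i => Multiplicative.ofAdd (g i)) ^ c.val := by
          funext i
          show Multiplicative.ofAdd (c.val • g i) = Multiplicative.ofAdd (g i) ^ c.val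
          rw [ofAdd_nsmul]
        rw [e]
        exact this }
  have hM' : M' = ⊤ := by
    apply submodule_eq_top p M' _ (fun i => Multiplicative.toAdd (f₀ i))
    · exact hf₀
    · intro h0
      apply h
      have : (∏ i, f₀ i) = Multiplicative.ofAdd (∑ i, Multiplicative.toAdd (f₀ i)) := by
        rw [ofAdd_sum]
        rfl
      rw [this, h0]
      rfl
    · intro f hf
      exact hinv _ hf
  rw [eq_top_iff]
  intro f _
  have : (fun i => Multiplicative.toAdd (f i)) ∈ M' := by rw [hM']; trivial
  exact this

end mul

end Cfsg.Agent.Lib.Helper64_ShiftFun
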