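/-
Helper library (helper64): recognising a section isomorphic to `C_p ≀ C_p`.
`L = R⟨x⟩` with `R` normal, `x ∉ R`, `x ^ p ∈ R`, and a homomorphism `φ : R → C_p` whose
norm `r ↦ ∏_{k<p} φ(x^k r x^{-k})` is not trivial: then `L` maps onto a group of order `p^(p+1)`
with the structure of `C_p ≀ C_p`.
-/
import Mathlib
import Cfsg.Agent.Lib.Helper64_ShiftFun
import Cfsg.Agent.Lib.Helper21_S4Core

set_option autoImplicit false

namespace Cfsg.Agent.Lib.Helper64_WrSection

open Cfsg.Agent.Lib.Helper64_ShiftFun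

/-- the characterization of `C_p ≀ C_p` used in S3787 -/
def IsWr (p : ℕ) (W : Type*) [Group W] : Prop :=
  ∃ (B : Subgroup W) (t : W), B.Normal ∧ IsMulCommutative B ∧ (∀ b ∈ B, b ^ p = 1) ∧
    Nat.card B = p ^ p ∧ orderOf t = p ∧ t ∉ B ∧ Nat.card W = p ^ (p + 1) ∧
    Nat.card ↥(B ⊓ Subgroup.centralizer ({t} : Set W)) = p

section prod

variable (p : ℕ) [hp : Fact p.Prime]

theorem prod_range_cast {C : Type*} [CommMonoid C] (h : ZMod p → C) :
    ∏ k ∈ Finset.range p, h (k : ZMod p) = ∏ j : ZMod p, h j := by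
  have : NeZero p := ⟨hp.out.ne_zero⟩
  symm
  apply Finset.prod_bij (fun j _ => j.val)
  · intro j _; exact Finset.mem_range.mpr (ZMod.val_lt j)
  · intro a _ b _ hab; exact ZMod.val_injective p hab
  · intro k hk
    exact ⟨(k : ZMod p), Finset.mem_univ _, ZMod.val_cast_of_lt (Finset.mem_range.mp hk)⟩
  · intro j _; rw [ZMod.natCast_zmod_val]

omit hp in
theorem prod_range_shift {C : Type*} [CommGroup C] (g : ℕ → C) (h : g p = g 0) :
    ∏ i ∈ Finset.range p, g (i + 1) = ∏ i ∈ Finset.range p, g i := by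
  have h1 := Finset.prod_range_succ g p
  have h2 := Finset.prod_range_succ' g p
  rw [h1, h] at h2
  exact (mul_right_cancel h2).symm

end prod

section theta

variable {p : ℕ} [hp : Fact p.Prime] {L : Type*} [Group L] (R : Subgroup L) [hRn : R.Normal]
  (x : L) (φ : R →* Multiplicative (ZMod p))

/-- `φ` does not see conjugation by elements of `R` -/
theorem phi_conj_mul (g : L) (s : R) (r : R) :
    φ (MulAut.conjNormal (g * (s : L)) r) = φ (MulAut.conjNormal g r) := by
  have e : MulAut.conjNormal (g * (s : L)) r = MulAut.conjNormal g (s * r * s⁻¹) := by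
    apply Subtype.ext
    simp only [MulAut.conjNormal_apply, Subgroup.coe_mul, Subgroup.coe_inv]
    group
  rw [e, map_mul, map_mul, map_mul, map_mul, map_inv, map_inv, mul_comm (φ _) (φ _),
    mul_assoc, mul_inv_cancel, mul_one]

/-- the coordinates `i ↦ φ(x^i r x^{-i})` -/
noncomputable def theta : R →* (ZMod p → Multiplicative (ZMod p)) :=
  MonoidHom.pi (fun i => φ.comp (MulAut.conjNormal (x ^ i.val) : MulAut R).toMonoidHom)

theorem theta_apply (r : R) (i : ZMod p) :
    theta R x φ r i = φ (MulAut.conjNormal (x ^ i.val) r) := rfl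

theorem phi_period (hxp : x ^ p ∈ R) (k : ℕ) (r : R) :
    φ (MulAut.conjNormal (x ^ (k + p)) r) = φ (MulAut.conjNormal (x ^ k) r) := by
  rw [pow_add]
  exact phi_conj_mul R φ (x ^ k) ⟨x ^ p, hxp⟩ r

/-- equivariance: conjugation by an element of the coset `x R` shifts the coordinates -/
theorem theta_conj (hxp : x ^ p ∈ R) (w : R) (r : R) (i : ZMod p) :
    theta R x φ (MulAut.conjNormal (x * (w : L)) r) i = theta R x φ r (i + 1) := by
  have : NeZero p := ⟨hp.out.ne_zero⟩
  rw [theta_apply, theta_apply]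
  have e1 : MulAut.conjNormal (x ^ i.val) (MulAut.conjNormal (x * (w : L)) r) =
      MulAut.conjNormal (x ^ (i.val + 1) * (w : L)) r := by
    rw [← MulAut.mul_apply, ← map_mul, pow_succ, mul_assoc]
  rw [e1, phi_conj_mul]
  by_cases hlt : i.val + 1 < p
  · have : (i + 1).val = i.val + 1 := by
      rw [ZMod.val_add, ZMod.val_one'' (by have := hp.out.one_lt; omega), Nat.mod_eq_of_lt hlt]
    rw [this]
  · have hi : i.val + 1 = p := by have := ZMod.val_lt i; omega
    have h0 : (i + 1).val = 0 := by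
      rw [ZMod.val_add, ZMod.val_one'' (by have := hp.out.one_lt; omega), hi, Nat.mod_self]
    rw [h0, hi]
    have := phi_period R x φ hxp 0 r
    rw [zero_add] at this
    rw [this]

end theta

section nu

variable {p : ℕ} [hp : Fact p.Prime] {L : Type*} [Group L] (R : Subgroup L) [hRn : R.Normal]
  (x : L) (φ : R →* Multiplicative (ZMod p))

/-- the norm -/
noncomputable def nu : R →* Multiplicative (ZMod p) :=
  ∏ k ∈ Finset.range p, φ.comp (MulAut.conjNormal (x ^ k) : MulAut R).toMonoidHom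

theorem nu_apply (r : R) :
    nu R x φ r = ∏ k ∈ Finset.range p, φ (MulAut.conjNormal (x ^ k) r) := by
  simp [nu]

theorem prod_theta (r : R) : ∏ i, theta R x φ r i = nu R x φ r := by
  have : NeZero p := ⟨hp.out.ne_zero⟩
  rw [nu_apply, ← prod_range_cast p (fun i => theta R x φ r i)]
  apply Finset.prod_congr rfl
  intro k hk
  rw [theta_apply, ZMod.val_cast_of_lt (Finset.mem_range.mp hk)]

theorem theta_surjective (hxp : x ^ p ∈ R) (r₀ : R) (h : nu R x φ r₀ ≠ 1) :
    Function.Surjective (theta R x φ) := by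
  rw [← MonoidHom.range_eq_top]
  apply subgroup_eq_top p (theta R x φ).range ?_ (theta R x φ r₀) ⟨r₀, rfl⟩ ?_
  · rintro f ⟨r, rfl⟩
    refine ⟨MulAut.conjNormal (x * ((1 : R) : L)) r, ?_⟩
    funext i
    exact theta_conj R x φ hxp 1 r i
  · rw [prod_theta]; exact h

theorem pow_mul_eq (w : R) (k : ℕ) : ∃ P : R, (x * (w : L)) ^ k = (P : L) * x ^ k ∧
    φ P = ∏ i ∈ Finset.range k, φ (MulAut.conjNormal (x ^ (i + 1)) w) := by
  induction k with
  | zero => exact ⟨1, by simp, by simp⟩
  | succ k ih =>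
    obtain ⟨P, hP, hφ⟩ := ih
    refine ⟨P * MulAut.conjNormal (x ^ (k + 1)) w, ?_, ?_⟩
    · rw [pow_succ, hP, Subgroup.coe_mul, MulAut.conjNormal_apply]
      group
    · rw [map_mul, hφ, Finset.prod_range_succ]

theorem exists_adjust (hxp : x ^ p ∈ R) (r₀ : R) (h : nu R x φ r₀ ≠ 1) :
    ∃ w : R, ∃ hx' : (x * (w : L)) ^ p ∈ R, theta R x φ ⟨(x * (w : L)) ^ p, hx'⟩ = 1 := by
  have : NeZero p := ⟨hp.out.ne_zero⟩
  have hcard : Nat.card (Multiplicative (ZMod p)) = p := by
    rw [Nat.card_congr Multiplicative.toAdd, Nat.card_zmod]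
  have hmem : (φ ⟨x ^ p, hxp⟩)⁻¹ ∈ Subgroup.zpowers (nu R x φ r₀) :=
    mem_zpowers_of_prime_card hcard h
  obtain ⟨k, hk⟩ := Subgroup.mem_zpowers_iff.mp hmem
  set w : R := r₀ ^ k with hw
  have hνw : nu R x φ w = (φ ⟨x ^ p, hxp⟩)⁻¹ := by rw [hw, map_zpow, hk]
  obtain ⟨P, hP, hφP⟩ := pow_mul_eq R x φ w p
  have hx' : (x * (w : L)) ^ p ∈ R := by
    rw [hP]; exact R.mul_mem P.2 hxp
  refine ⟨w, hx', ?_⟩
  have hu : (⟨(x * (w : L)) ^ p, hx'⟩ : R) = P * ⟨x ^ p, hxp⟩ := Subtype.ext hP
  have hφu : φ ⟨(x * (w : L)) ^ p, hx'⟩ = 1 := by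
    rw [hu, map_mul, hφP,
      prod_range_shift p (fun k => φ (MulAut.conjNormal (x ^ k) w))
        (by have := phi_period R x φ hxp 0 w; rw [zero_add] at this; exact this),
      ← nu_apply, hνw, inv_mul_cancel]
  have hfix : ∀ i, theta R x φ ⟨(x * (w : L)) ^ p, hx'⟩ (i + 1) =
      theta R x φ ⟨(x * (w : L)) ^ p, hx'⟩ i := by
    intro i
    rw [← theta_conj R x φ hxp w]
    have e : MulAut.conjNormal (x * (w : L)) (⟨(x * (w : L)) ^ p, hx'⟩ : R) =
        ⟨(x * (w : L)) ^ p, hx'⟩ := by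
      apply Subtype.ext
      rw [MulAut.conjNormal_apply]
      show x * (w : L) * (x * (w : L)) ^ p * (x * (w : L))⁻¹ = (x * (w : L)) ^ p
      rw [← pow_succ', pow_succ, mul_inv_cancel_right]
    rw [e]
  funext i
  rw [const_of_shift_fixed p _ hfix i, theta_apply, ZMod.val_zero, pow_zero, map_one]
  exact hφu

end nu

section main

variable {p : ℕ} [hp : Fact p.Prime] {L : Type*} [Group L] [Finite L] (R : Subgroup L)
  [hRn : R.Normal] (x : L) (φ : R →* Multiplicative (ZMod p))

theorem ker_theta_normal (hxp : x ^ p ∈ R) (htop : R ⊔ Subgroup.zpowers x = ⊤) :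
    ((theta R x φ).ker.map R.subtype).Normal := by
  rw [← Subgroup.normalizer_eq_top_iff, eq_top_iff, ← htop]
  apply sup_le
  · intro s hs
    apply Cfsg.Agent.Lib.Helper21_S4Core.mem_normalizer_of_conj_mem
    rintro _ ⟨u, hu, rfl⟩
    refine ⟨⟨s, hs⟩ * u * ⟨s, hs⟩⁻¹, ?_, rfl⟩
    have hn : (theta R x φ).ker.Normal := inferInstance
    exact hn.conj_mem u hu ⟨s, hs⟩
  · rw [Subgroup.zpowers_le]
    apply Cfsg.Agent.Lib.Helper21_S4Core.mem_normalizer_of_conj_mem
    rintro _ ⟨u, hu, rfl⟩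
    refine ⟨MulAut.conjNormal x u, ?_, ?_⟩
    · rw [SetLike.mem_coe, MonoidHom.mem_ker] at hu ⊢
      funext i
      have := theta_conj R x φ hxp 1 u i
      rw [Subgroup.coe_one, mul_one] at this
      rw [this, hu]
      rfl
    · simp [MulAut.conjNormal_apply]

end main

section main2

variable {p : ℕ} [hp : Fact p.Prime] {L : Type*} [Group L] [Finite L] (R : Subgroup L)
  [hRn : R.Normal] (x : L) (φ : R →* Multiplicative (ZMod p))

theorem isWr_of_hom (hxR : x ∉ R) (hxp : x ^ p ∈ R) (htop : R ⊔ Subgroup.zpowers x = ⊤)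
    (r₀ : R) (h : nu R x φ r₀ ≠ 1)
    {W : Type*} [Group W] (f : L →* W) (hf : Function.Surjective f)
    (hker : f.ker = (theta R x φ).ker.map R.subtype) : IsWr p W := by
  classical
  have : NeZero p := ⟨hp.out.ne_zero⟩
  have hWfin : Finite W := Finite.of_surjective f hf
  have hcard : Nat.card (Multiplicative (ZMod p)) = p := by
    rw [Nat.card_congr Multiplicative.toAdd, Nat.card_zmod]
  have hC : ∀ c : Multiplicative (ZMod p), c ^ p = 1 := by
    intro c
    have := pow_card_eq_one' (x := c)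
    rwa [hcard] at this
  set Θ := theta R x φ with hΘ
  have hΘs : Function.Surjective Θ := theta_surjective R x φ hxp r₀ h
  obtain ⟨w, hx', hu⟩ := exists_adjust R x φ hxp r₀ h
  obtain ⟨x', hx'def⟩ : ∃ x' : L, x' = x * (w : L) := ⟨_, rfl⟩
  rw [← hΘ] at hu
  simp only [← hx'def] at hx' hu
  have hkerR : f.ker ≤ R := by
    rw [hker]; exact Subgroup.map_subtype_le _
  have hx'R : x' ∉ R := by
    intro hmem
    apply hxR
    have : x = x' * (w : L)⁻¹ := by rw [hx'def]; group
    rw [this]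
    exact R.mul_mem hmem (R.inv_mem w.2)
  -- `f` on `R`
  have hfR : ∀ r : R, f (r : L) = 1 ↔ Θ r = 1 := by
    intro r
    rw [← MonoidHom.mem_ker, hker, ← MonoidHom.mem_ker]
    constructor
    · rintro ⟨u, hu, hur⟩
      have : u = r := Subtype.ext hur
      rwa [← this]
    · intro hr; exact ⟨r, hr, rfl⟩
  have hfR2 : ∀ r s : R, f (r : L) = f (s : L) ↔ Θ r = Θ s := by
    intro r s
    rw [← mul_inv_eq_one, ← map_inv, ← map_mul, ← mul_inv_eq_one (a := Θ r), ← map_inv,
      ← map_mul]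
    exact hfR (r * s⁻¹)
  have hconj : ∀ r : R, (∀ i, Θ r (i + 1) = Θ r i) ↔ f x' * f (r : L) = f (r : L) * f x' := by
    intro r
    have h1 : f x' * f (r : L) = f (r : L) * f x' ↔
        f ((MulAut.conjNormal x' r : R) : L) = f (r : L) := by
      have e : f ((MulAut.conjNormal x' r : R) : L) = f x' * f (r : L) * (f x')⁻¹ := by
        rw [MulAut.conjNormal_apply, map_mul, map_mul, map_inv]
      rw [e, mul_inv_eq_iff_eq_mul]
    rw [h1, hfR2]
    constructor
    · intro hi
      funext i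
      rw [hΘ, hx'def, theta_conj R x φ hxp w r i]
      exact hi i
    · intro he i
      have := congrFun he i
      rw [hΘ, hx'def, theta_conj R x φ hxp w r i] at this
      exact this
  -- the embedding of the function group
  let f' : R →* W := f.comp R.subtype
  have hle : Θ.ker ≤ f'.ker := by
    intro r hr
    rw [MonoidHom.mem_ker] at hr ⊢
    exact (hfR r).mpr hr
  let ι : (ZMod p → Multiplicative (ZMod p)) →* W :=
    Θ.liftOfRightInverse (Function.surjInv hΘs) (Function.rightInverse_surjInv hΘs) ⟨f', hle⟩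
  have hι : ∀ r : R, ι (Θ r) = f (r : L) := fun r =>
    Θ.liftOfRightInverse_comp_apply (Function.surjInv hΘs) (Function.rightInverse_surjInv hΘs)
      ⟨f', hle⟩ r
  have hιinj : Function.Injective ι := by
    rw [injective_iff_map_eq_one]
    intro a ha
    obtain ⟨r, rfl⟩ := hΘs a
    rw [hι] at ha
    exact (hfR r).mp ha
  have hB : R.map f = ι.range := by
    ext b
    constructor
    · rintro ⟨l, hl, rfl⟩
      exact ⟨Θ ⟨l, hl⟩, hι ⟨l, hl⟩⟩
    · rintro ⟨a, rfl⟩
      obtain ⟨r, rfl⟩ := hΘs a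
      rw [hι]
      exact ⟨r, r.2, rfl⟩
  have hBcard : Nat.card (R.map f) = p ^ p := by
    rw [hB, ← Nat.card_congr (MonoidHom.ofInjective hιinj).toEquiv, Nat.card_fun, hcard,
      Nat.card_zmod]
  have hidx : R.index = p := by
    rw [Subgroup.index_eq_card]
    have h1 : Subgroup.zpowers (QuotientGroup.mk' R x) = ⊤ := by
      rw [eq_top_iff, ← MonoidHom.range_eq_top.mpr (QuotientGroup.mk'_surjective R),
        MonoidHom.range_eq_map, ← htop, Subgroup.map_sup]
      apply sup_le
      · rintro _ ⟨r, hr, rfl⟩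
        have : QuotientGroup.mk' R r = 1 := (QuotientGroup.eq_one_iff r).mpr hr
        rw [this]
        exact Subgroup.one_mem _
      · rw [MonoidHom.map_zpowers]
    have h2 : orderOf (QuotientGroup.mk' R x) = p := by
      apply orderOf_eq_prime
      · rw [← map_pow]; exact (QuotientGroup.eq_one_iff _).mpr hxp
      · intro h0; exact hxR ((QuotientGroup.eq_one_iff x).mp h0)
    rw [← Nat.card_zpowers, h1, Subgroup.card_top] at h2
    exact h2
  refine ⟨R.map f, f x', Subgroup.Normal.map hRn f hf, ?_, ?_, hBcard, ?_, ?_, ?_, ?_⟩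
  · refine IsMulCommutative.of_comm ?_
    rintro ⟨_, a, ha, rfl⟩ ⟨_, b, hb, rfl⟩
    apply Subtype.ext
    show f a * f b = f b * f a
    rw [← map_mul, ← map_mul]
    exact (hfR2 (⟨a, ha⟩ * ⟨b, hb⟩) (⟨b, hb⟩ * ⟨a, ha⟩)).mpr
      (by rw [map_mul, map_mul, mul_comm])
  · rintro _ ⟨a, ha, rfl⟩
    rw [← map_pow]
    refine (hfR (⟨a, ha⟩ ^ p)).mpr ?_
    rw [map_pow]
    funext i
    exact hC _
  · apply orderOf_eq_prime
    · rw [← map_pow]
      exact (hfR ⟨x' ^ p, hx'⟩).mpr hu
    · intro h1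
      exact hx'R (hkerR (MonoidHom.mem_ker.mpr h1))
  · rintro ⟨a, ha, hax⟩
    apply hx'R
    have h1 : a⁻¹ * x' ∈ f.ker := by
      rw [MonoidHom.mem_ker, map_mul, map_inv, hax, inv_mul_cancel]
    have := R.mul_mem ha (hkerR h1)
    rwa [mul_inv_cancel_left] at this
  · rw [← Subgroup.index_mul_card (R.map f), Subgroup.index_map_eq _ hf hkerR, hidx, hBcard,
      pow_succ']
  · -- the centralizer of `t` in `B`
    let δ : Multiplicative (ZMod p) →* (ZMod p → Multiplicative (ZMod p)) :=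
      MonoidHom.pi (fun _ => MonoidHom.id _)
    have hδinj : Function.Injective (ι.comp δ) := by
      intro c d hcd
      have := hιinj hcd
      exact congrFun this 0
    have hD : R.map f ⊓ Subgroup.centralizer ({f x'} : Set W) = (ι.comp δ).range := by
      ext b
      rw [Subgroup.mem_inf, Subgroup.mem_centralizer_iff]
      constructor
      · rintro ⟨⟨a, ha, rfl⟩, hcomm⟩
        have h2 := (hconj ⟨a, ha⟩).mpr (hcomm (f x') rfl)
        refine ⟨Θ ⟨a, ha⟩ 0, ?_⟩
        rw [MonoidHom.comp_apply, ← hι ⟨a, ha⟩]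
        congr 1
        funext i
        exact (const_of_shift_fixed p _ h2 i).symm
      · rintro ⟨c, rfl⟩
        obtain ⟨r, hr⟩ := hΘs (δ c)
        rw [MonoidHom.comp_apply, ← hr, hι]
        refine ⟨⟨r, r.2, rfl⟩, ?_⟩
        intro t ht
        rw [Set.mem_singleton_iff] at ht
        subst ht
        apply (hconj r).mp
        intro i
        rw [hr]
        rfl
    rw [hD, ← Nat.card_congr (MonoidHom.ofInjective hδinj).toEquiv, hcard]

end main2

section main3

variable {p : ℕ} [hp : Fact p.Prime] {L : Type*} [Group L] [Finite L] (R : Subgroup L)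
  [hRn : R.Normal] (x : L) (φ : R →* Multiplicative (ZMod p))

theorem exists_wr_quotient (hxR : x ∉ R) (hxp : x ^ p ∈ R) (htop : R ⊔ Subgroup.zpowers x = ⊤)
    (r₀ : R) (h : nu R x φ r₀ ≠ 1) :
    ∃ (W : Type) (_ : Group W) (_ : Finite W), IsWr p W ∧
      ∃ f : L →* W, Function.Surjective f := by
  have hn : ((theta R x φ).ker.map R.subtype).Normal := ker_theta_normal R x φ hxp htop
  let W₀ := L ⧸ (theta R x φ).ker.map R.subtype
  let e : Shrink.{0} W₀ ≃* W₀ := Shrink.mulEquiv
  let f : L →* Shrink.{0} W₀ :=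
    e.symm.toMonoidHom.comp (QuotientGroup.mk' ((theta R x φ).ker.map R.subtype))
  have hf : Function.Surjective f :=
    e.symm.surjective.comp (QuotientGroup.mk'_surjective _)
  have hker : f.ker = (theta R x φ).ker.map R.subtype := by
    ext l
    rw [MonoidHom.mem_ker]
    show e.symm (QuotientGroup.mk' _ l) = 1 ↔ _
    rw [MulEquiv.map_eq_one_iff, QuotientGroup.mk'_apply, QuotientGroup.eq_one_iff]
  have hfin : Finite (Shrink.{0} W₀) := Finite.of_surjective f hf
  exact ⟨Shrink.{0} W₀, inferInstance, hfin, isWr_of_hom R x φ hxR hxp htop r₀ h f hf hker,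
    f, hf⟩

end main3

end Cfsg.Agent.Lib.Helper64_WrSection
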