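/-
Helper library (helper64): in a finite `p`-solvable group `X` with `O_{p'}(X) = 1` (`p` odd, not a
Fermat prime), an element `y ∉ O_p(X)` with `y ^ p ∈ O_p(X)` forces `C_p ≀ C_p` to be involved in
the `p`-group `O_p(X)⟨y⟩`.
-/
import Mathlib
import Cfsg.Prelude.Def_LocalEven
import Cfsg.Agent.S5299
import Cfsg.Agent.Lib.Helper21_S4Core
import Cfsg.Agent.Lib.Helper64_HHNorm
import Cfsg.Agent.Lib.Helper64_WrSection
import Cfsg.Agent.Lib.Helper64_FrattiniAct
import Cfsg.Agent.Lib.Helper10_QuadPair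

set_option autoImplicit false

namespace Cfsg.Agent.Lib.Helper64_HHWrMain

open Cfsg Cfsg.Agent.Lib.Helper76_PSolvable Cfsg.Agent.Lib.Helper64_WrSection
open Cfsg.Agent.Lib.Helper21_S4Core

section aux

theorem involves_of_surjective_hom {L W : Type*} [Group L] [Group W] (f : L →* W)
    (hf : Function.Surjective f) : Cfsg.Involves W L := by
  rw [Cfsg.Agent.S5299.involves_iff]
  exact ⟨⊤, f.comp (Subgroup.topEquiv : (⊤ : Subgroup L) ≃* L).toMonoidHom,
    hf.comp (Subgroup.topEquiv : (⊤ : Subgroup L) ≃* L).surjective⟩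

theorem exists_hom_ne_one_aux {p : ℕ} [hp : Fact p.Prime] {N : Type*} [CommGroup N]
    [Module (ZMod p) (Additive N)] (g : N) (hg : g ≠ 1) :
    ∃ φ : N →* Multiplicative (ZMod p), φ g ≠ 1 := by
  have hv : Additive.ofMul g ≠ 0 := fun h => hg (Additive.ofMul.injective h)
  have := (Module.forall_dual_apply_eq_zero_iff (ZMod p) (Additive.ofMul g)).not.mpr hv
  push Not at this
  obtain ⟨ψ, hψ⟩ := this
  refine ⟨{ toFun := fun n => Multiplicative.ofAdd (ψ (Additive.ofMul n))
            map_one' := by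
              show Multiplicative.ofAdd (ψ 0) = 1
              rw [map_zero]; rfl
            map_mul' := by
              intro a b
              show Multiplicative.ofAdd (ψ (Additive.ofMul a + Additive.ofMul b)) = _
              rw [map_add]; rfl }, ?_⟩
  intro h
  apply hψ
  exact Multiplicative.ofAdd.injective h

/-- characters of an elementary abelian `p`-group separate points -/
theorem exists_hom_ne_one {p : ℕ} [hp : Fact p.Prime] {N : Type*} [CommGroup N]
    (hN : ∀ n : N, n ^ p = 1) (g : N) (hg : g ≠ 1) :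
    ∃ φ : N →* Multiplicative (ZMod p), φ g ≠ 1 := by
  let inst2 : Module (ZMod p) (Additive N) := AddCommGroup.zmodModule (n := p) (by
    intro x
    have h2 : Additive.ofMul ((Additive.toMul x) ^ p) = 0 := by rw [hN]; rfl
    rw [ofMul_pow] at h2
    exact h2)
  exact @exists_hom_ne_one_aux p hp N _ inst2 g hg

end aux

section key

universe u

variable {p : ℕ} [hp : Fact p.Prime] {X : Type u} [Group X] [Finite X]

theorem exists_wr_section (hp2 : p ≠ 2) (hnf : ¬ ∃ k : ℕ, p = 2 ^ k + 1)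
    (hsol : Cfsg.IsPSolvable p X) (hcore : Cfsg.pPrimeCore p X = ⊥) (y : X)
    (hyR : y ∉ pCore p X) (hyp : y ^ p ∈ pCore p X) :
    ∃ (W : Type) (_ : Group W) (_ : Finite W), IsWr p W ∧
      Cfsg.Involves W ↥(pCore p X ⊔ Subgroup.zpowers y) := by
  classical
  have hRn : (pCore p X).Normal := Cfsg.Agent.Lib.Helper76_PSolvable.pCore_normal p
  obtain ⟨N, instN, hNfin, q, c, hq, hN, hcq, hfaith⟩ :=
    Cfsg.Agent.Lib.Helper64_FrattiniAct.exists_frattini_action hsol hcore
  have hΓsol : Cfsg.IsPSolvable p (X ⧸ pCore p X) := isPSolvable_quotient p (pCore p X) hsol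
  have hΓcore : pCore p (X ⧸ pCore p X) = ⊥ :=
    Cfsg.Agent.Lib.Helper10_QuadPair.pCore_quotient_pCore' p
  -- the element of order `p`
  have hγ : orderOf (QuotientGroup.mk y : X ⧸ pCore p X) = p := by
    apply orderOf_eq_prime
    · rw [← QuotientGroup.mk_pow]; exact (QuotientGroup.eq_one_iff _).mpr hyp
    · intro h0; exact hyR ((QuotientGroup.eq_one_iff y).mp h0)
  obtain ⟨n, hn⟩ := Cfsg.Agent.Lib.Helper64_HHNorm.exists_norm_ne_one hp2 hnf hΓsol hΓcore c hN
    hfaith _ hγ
  obtain ⟨r₀, rfl⟩ := hq n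
  obtain ⟨φb, hφb⟩ := exists_hom_ne_one hN _ hn
  set φ : ↥(pCore p X) →* Multiplicative (ZMod p) := φb.comp q with hφ
  have hν : nu (pCore p X) y φ r₀ ≠ 1 := by
    rw [nu_apply]
    intro h1
    apply hφb
    rw [map_prod, ← h1]
    apply Finset.prod_congr rfl
    intro i _
    rw [← QuotientGroup.mk_pow, hcq]
    rfl
  -- the group `L = R⟨y⟩`
  set S : Subgroup X := pCore p X ⊔ Subgroup.zpowers y with hS
  have hRS : pCore p X ≤ S := le_sup_left
  have hyS : y ∈ S := Subgroup.mem_sup_right (Subgroup.mem_zpowers y)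
  let e : (pCore p X).subgroupOf S ≃* ↥(pCore p X) := Subgroup.subgroupOfEquivOfLe hRS
  have hRLn : ((pCore p X).subgroupOf S).Normal := inferInstance
  have hxR : (⟨y, hyS⟩ : S) ∉ (pCore p X).subgroupOf S := by
    rw [Subgroup.mem_subgroupOf]; exact hyR
  have hxp : (⟨y, hyS⟩ : S) ^ p ∈ (pCore p X).subgroupOf S := by
    rw [Subgroup.mem_subgroupOf]; exact hyp
  have htop : (pCore p X).subgroupOf S ⊔ Subgroup.zpowers (⟨y, hyS⟩ : S) = ⊤ := by
    apply Subgroup.map_injective S.subtype_injective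
    rw [Subgroup.map_sup, Subgroup.subgroupOf_map_subtype, MonoidHom.map_zpowers,
      ← MonoidHom.range_eq_map, Subgroup.range_subtype, inf_of_le_left hRS]
    rfl
  have hν' : nu ((pCore p X).subgroupOf S) (⟨y, hyS⟩ : S) (φ.comp e.toMonoidHom) (e.symm r₀) ≠ 1 := by
    intro h1
    apply hν
    rw [nu_apply] at h1 ⊢
    rw [← h1]
    apply Finset.prod_congr rfl
    intro k _
    show φ _ = φ (e _)
    congr 1
  obtain ⟨W, instW, hWfin, hW, f, hf⟩ := exists_wr_quotient ((pCore p X).subgroupOf S)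
    (⟨y, hyS⟩ : S) (φ.comp e.toMonoidHom) hxR hxp htop (e.symm r₀) hν'
  exact ⟨W, instW, hWfin, hW, involves_of_surjective_hom f hf⟩

end key

section sylow

variable {p : ℕ} [hp : Fact p.Prime] {G : Type*} [Group G] [Finite G]

/-- a group involved in a `p`-subgroup of a quotient of `G` is involved in any Sylow
`p`-subgroup of `G` -/
theorem involves_sylow_of_quotient (N : Subgroup G) [N.Normal] (P : Sylow p G)
    (S : Subgroup (G ⧸ N)) (hS : IsPGroup p S) {W : Type*} [Group W]
    (h : Cfsg.Involves W ↥S) : Cfsg.Involves W ↥(P : Subgroup G) := by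
  have hπ : Function.Surjective (QuotientGroup.mk' N) := QuotientGroup.mk'_surjective N
  obtain ⟨Q, hSQ⟩ := hS.exists_le_sylow
  -- into `Q`
  have h1 : Cfsg.Involves W ↥(S.subgroupOf (Q : Subgroup (G ⧸ N))) :=
    involves_of_surjective' (Subgroup.subgroupOfEquivOfLe hSQ).toMonoidHom
      (Subgroup.subgroupOfEquivOfLe hSQ).surjective h
  have h2 : Cfsg.Involves W ↥(Q : Subgroup (G ⧸ N)) := involves_of_subgroup' _ h1
  -- into the image of `P`
  have h3 : Cfsg.Involves W ↥((P.mapSurjective hπ : Sylow p (G ⧸ N)) : Subgroup (G ⧸ N)) :=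
    involves_of_surjective' (Sylow.equiv (P.mapSurjective hπ) Q).toMonoidHom
      (Sylow.equiv (P.mapSurjective hπ) Q).surjective h2
  -- into `P`
  exact involves_of_surjective' ((QuotientGroup.mk' N).subgroupMap (P : Subgroup G))
    ((QuotientGroup.mk' N).subgroupMap_surjective (P : Subgroup G)) h3

end sylow

end Cfsg.Agent.Lib.Helper64_HHWrMain
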