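import Mathlib

set_option autoImplicit false

/-!
# Irreducible modules for a cyclic group of prime order over `ZMod q` (helper64)

Main result `card_of_irreducible`: if `σ` is an automorphism of order dividing a prime `p` of a finite
abelian group `A` of prime exponent `q ≠ p`, `σ ≠ 1`, and the only `σ`-invariant subgroups of `A`
are `⊥` and `⊤`, then `Nat.card A = q ^ orderOf (q : ZMod p)`.
Linear version: `finrank_eq`.
-/
set_option linter.unusedSectionVars false

namespace Cfsg.Agent.Lib.Helper64_IrredCp

open Polynomial Module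

section Key

variable {q : ℕ} [hq : Fact q.Prime] {V : Type*} [AddCommGroup V] [Module (ZMod q) V]
  [Finite V] (φ : V →ₗ[ZMod q] V)

/-- kernels of polynomials in `φ` are `φ`-invariant -/
theorem aeval_comm (a : (ZMod q)[X]) (v : V) : aeval φ a (φ v) = φ (aeval φ a v) := by
  have h : aeval φ a * φ = φ * aeval φ a := by
    have h1 : aeval φ (a * X) = aeval φ (X * a) := by rw [mul_comm]
    simpa using h1
  exact LinearMap.congr_fun h v

variable (hirr : ∀ W : Submodule (ZMod q) V, (∀ w ∈ W, φ w ∈ W) → W = ⊥ ∨ W = ⊤)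

include hirr

theorem eq_zero_or_injective (a : (ZMod q)[X]) :
    aeval φ a = 0 ∨ Function.Injective (aeval φ a) := by
  have := hirr (LinearMap.ker (aeval φ a)) (fun w hw => by
    rw [LinearMap.mem_ker] at *
    rw [aeval_comm, hw, map_zero])
  rcases this with h | h
  · right; exact LinearMap.ker_eq_bot.mp h
  · left; exact LinearMap.ker_eq_top.mp h

theorem minpoly_irreducible [Nontrivial V] : Irreducible (minpoly (ZMod q) φ) := by
  have hint : IsIntegral (ZMod q) φ := Algebra.IsIntegral.isIntegral φ
  have hμ0 : minpoly (ZMod q) φ ≠ 0 := minpoly.ne_zero hint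
  rw [irreducible_iff]
  constructor
  · exact minpoly.not_isUnit (ZMod q) φ
  · intro a b hab
    have ha0 : a ≠ 0 := left_ne_zero_of_mul (hab ▸ hμ0)
    have hb0 : b ≠ 0 := right_ne_zero_of_mul (hab ▸ hμ0)
    have hdeg : natDegree (minpoly (ZMod q) φ) = natDegree a + natDegree b := by
      rw [hab, natDegree_mul ha0 hb0]
    have hprod : aeval φ a * aeval φ b = 0 := by rw [← map_mul, ← hab, minpoly.aeval]
    rcases eq_zero_or_injective φ hirr a with h | h
    · right
      have h2 := natDegree_le_of_dvd (minpoly.dvd (ZMod q) φ h) ha0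
      have h3 : natDegree b = 0 := by omega
      rw [isUnit_iff_degree_eq_zero, degree_eq_natDegree hb0, h3]
      rfl
    · left
      have hb : aeval φ b = 0 := by
        ext v
        apply h
        have := LinearMap.congr_fun hprod v
        simpa using this
      have h2 := natDegree_le_of_dvd (minpoly.dvd (ZMod q) φ hb) hb0
      have h3 : natDegree a = 0 := by omega
      rw [isUnit_iff_degree_eq_zero, degree_eq_natDegree ha0, h3]
      rfl

theorem natDegree_minpoly {p : ℕ} [hp : Fact p.Prime] (hpq : q ≠ p) [Nontrivial V]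
    (hφp : φ ^ p = 1) (hφ1 : φ ≠ 1) :
    natDegree (minpoly (ZMod q) φ) = orderOf (q : ZMod p) := by
  have hirr' := minpoly_irreducible φ hirr
  have hdvd : minpoly (ZMod q) φ ∣ X ^ p - 1 := minpoly.dvd _ _ (by simp [hφp])
  rw [← cyclotomic_prime_mul_X_sub_one (ZMod q) p] at hdvd
  rcases hirr'.prime.dvd_or_dvd hdvd with h | h
  · have hcard : Fintype.card (ZMod q) = q ^ 1 := by simp [ZMod.card]
    have hcop : q.Coprime p := (Nat.coprime_primes hq.out hp.out).mpr hpq
    have := natDegree_of_dvd_cyclotomic_of_irreducible (K := ZMod q) (p := q) (f := 1) (n := p)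
      hcard hcop h hirr'
    rw [this, ← orderOf_units, ZMod.coe_unitOfCoprime]
    simp
  · exfalso
    apply hφ1
    obtain ⟨c, hc⟩ := h
    have : aeval φ (X - 1 : (ZMod q)[X]) = 0 := by rw [hc, map_mul, minpoly.aeval, zero_mul]
    simpa [sub_eq_zero] using this

theorem finrank_le_natDegree_minpoly [Nontrivial V] :
    finrank (ZMod q) V ≤ natDegree (minpoly (ZMod q) φ) := by
  obtain ⟨v, hv⟩ := exists_ne (0 : V)
  have hint : IsIntegral (ZMod q) φ := Algebra.IsIntegral.isIntegral φ
  have hmonic : (minpoly (ZMod q) φ).Monic := minpoly.monic hint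
  set n := natDegree (minpoly (ZMod q) φ) with hn
  set W : Submodule (ZMod q) V := Submodule.span (ZMod q) (Set.range fun i : Fin n => (φ ^ (i : ℕ)) v)
    with hW
  have key : ∀ g : (ZMod q)[X], aeval φ g v ∈ W := by
    intro g
    have h1 : aeval φ g v = aeval φ (g %ₘ minpoly (ZMod q) φ) v := by
      conv_lhs => rw [← modByMonic_add_div g (minpoly (ZMod q) φ)]
      simp [minpoly.aeval]
    rw [h1]
    have hr : (g %ₘ minpoly (ZMod q) φ).natDegree < n :=
      natDegree_modByMonic_lt g hmonic (minpoly.ne_one _ _)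
    rw [aeval_eq_sum_range' hr, LinearMap.sum_apply]
    apply Submodule.sum_mem
    intro i hi
    rw [LinearMap.smul_apply]
    apply Submodule.smul_mem
    apply Submodule.subset_span
    exact ⟨⟨i, Finset.mem_range.mp hi⟩, rfl⟩
  -- the cyclic submodule generated by v
  set L : (ZMod q)[X] →ₗ[ZMod q] V := (LinearMap.applyₗ v) ∘ₗ (aeval φ).toLinearMap with hL
  have hLapp : ∀ g, L g = aeval φ g v := fun g => rfl
  have hU := hirr (LinearMap.range L) (by
    rintro _ ⟨g, rfl⟩
    refine ⟨X * g, ?_⟩
    rw [hLapp, hLapp, map_mul, aeval_X]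
    rfl)
  have hvU : v ∈ LinearMap.range L := ⟨1, by rw [hLapp]; simp⟩
  rcases hU with hU | hU
  · exfalso
    rw [hU, Submodule.mem_bot] at hvU
    exact hv hvU
  · have htop : W = ⊤ := by
      rw [eq_top_iff]
      intro u _
      have : u ∈ LinearMap.range L := by rw [hU]; trivial
      obtain ⟨g, rfl⟩ := this
      rw [hLapp]
      exact key g
    have h2 := finrank_range_le_card (R := ZMod q) (fun i : Fin n => (φ ^ (i : ℕ)) v)
    rw [Set.finrank, ← hW, htop, finrank_top, Fintype.card_fin] at h2
    exact h2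

theorem finrank_eq {p : ℕ} [hp : Fact p.Prime] (hpq : q ≠ p) [Nontrivial V]
    (hφp : φ ^ p = 1) (hφ1 : φ ≠ 1) : finrank (ZMod q) V = orderOf (q : ZMod p) := by
  rw [← natDegree_minpoly φ hirr hpq hφp hφ1]
  apply le_antisymm (finrank_le_natDegree_minpoly φ hirr)
  have h1 := natDegree_le_of_dvd (LinearMap.minpoly_dvd_charpoly φ) (LinearMap.charpoly_monic φ).ne_zero
  rwa [LinearMap.charpoly_natDegree] at h1

end Key

section Grp

/-- the `ZMod q`-module structure on an abelian group of exponent `q` -/
@[reducible] noncomputable def modInst {A : Type*} [CommGroup A] (q : ℕ) (hexp : ∀ a : A, a ^ q = 1) :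
    Module (ZMod q) (Additive A) :=
  AddCommGroup.zmodModule (n := q) (fun v => by
    induction v using Additive.rec with
    | ofMul a => rw [← ofMul_pow, hexp a]; rfl)

section

variable {A : Type*} [CommGroup A] {q : ℕ} [hexp : Fact (∀ a : A, a ^ q = 1)]

noncomputable local instance modInstF : Module (ZMod q) (Additive A) := modInst q hexp.out

theorem card_of_irreducible_aux [Finite A] (p : ℕ) [hq : Fact q.Prime]
    [hp : Fact p.Prime] (hqp : q ≠ p) (σ : MulAut A) (hσp : σ ^ p = 1)
    (hσ1 : σ ≠ 1) (hirr : ∀ B : Subgroup A, (∀ b ∈ B, σ b ∈ B) → B = ⊥ ∨ B = ⊤) :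
    Nat.card A = q ^ orderOf (q : ZMod p) := by
  let φ : Additive A →ₗ[ZMod q] Additive A :=
    AddMonoidHom.toZModLinearMap q (MonoidHom.toAdditive σ.toMonoidHom)
  have hφapp : ∀ v : Additive A, φ v = Additive.ofMul (σ (Additive.toMul v)) := fun v => rfl
  have hφpow : ∀ (k : ℕ) (v : Additive A), (φ ^ k) v = Additive.ofMul ((σ ^ k) (Additive.toMul v)) := by
    intro k
    induction k with
    | zero => intro v; simp
    | succ k ih =>
      intro v
      rw [pow_succ', Module.End.mul_apply, ih, hφapp, pow_succ']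
      rfl
  have hφp : φ ^ p = 1 := by
    ext v
    rw [hφpow, hσp]
    rfl
  have hφ1 : φ ≠ 1 := by
    intro h
    apply hσ1
    ext a
    have := LinearMap.congr_fun h (Additive.ofMul a)
    rw [hφapp] at this
    exact Additive.ofMul.injective this
  have hirr' : ∀ W : Submodule (ZMod q) (Additive A), (∀ w ∈ W, φ w ∈ W) → W = ⊥ ∨ W = ⊤ := by
    intro W hW
    rcases hirr (AddSubgroup.toSubgroup' W.toAddSubgroup) (by
      intro b hb
      exact hW (Additive.ofMul b) hb) with h | h
    · left
      rw [eq_bot_iff]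
      intro w hw
      have : Additive.toMul w ∈ AddSubgroup.toSubgroup' W.toAddSubgroup := hw
      rw [h, Subgroup.mem_bot] at this
      rw [Submodule.mem_bot]
      exact Additive.toMul.injective this
    · right
      rw [eq_top_iff]
      intro w _
      have : Additive.toMul w ∈ AddSubgroup.toSubgroup' W.toAddSubgroup := by
        rw [h]; trivial
      exact this
  have : Nontrivial (Additive A) := by
    by_contra hnt
    rw [not_nontrivial_iff_subsingleton] at hnt
    apply hφ1
    ext v
    exact @Subsingleton.elim _ hnt _ _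
  have h1 := finrank_eq φ hirr' hqp hφp hφ1
  have : Fintype (Additive A) := Fintype.ofFinite _
  have h2 := Module.card_eq_pow_finrank (K := ZMod q) (V := Additive A)
  rw [ZMod.card, h1, ← Nat.card_eq_fintype_card] at h2
  exact h2

end

/-- an irreducible nontrivial action of an automorphism of prime order `p` on an elementary
abelian `q`-group `A` forces `|A| = q ^ ord_p(q)`. -/
theorem card_of_irreducible {A : Type*} [CommGroup A] [Finite A] (q p : ℕ) [hq : Fact q.Prime]
    [hp : Fact p.Prime] (hqp : q ≠ p) (hexp : ∀ a : A, a ^ q = 1) (σ : MulAut A) (hσp : σ ^ p = 1)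
    (hσ1 : σ ≠ 1) (hirr : ∀ B : Subgroup A, (∀ b ∈ B, σ b ∈ B) → B = ⊥ ∨ B = ⊤) :
    Nat.card A = q ^ orderOf (q : ZMod p) := by
  have : Fact (∀ a : A, a ^ q = 1) := ⟨hexp⟩
  exact card_of_irreducible_aux p hqp σ hσp hσ1 hirr

end Grp

end Cfsg.Agent.Lib.Helper64_IrredCp
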