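/-
S4017 market (architect helper6), package MX-E3D (proof helper64): in the Klein four case with some
`O_t ≠ 1` the abstract Brauer-Suzuki-Wall theorem S3282 applies.
-/
import Cfsg.Agent.Lib.Helper6_MXDefs
import Cfsg.Agent.S3282

set_option autoImplicit false
open Cfsg.Agent.Lib.Helper6_MXDefs

namespace Cfsg.Agent.Lib.Helper64_MX_E3D

variable {G : Type*} [Group G] [Finite G] {p a : ℕ} {Q : Subgroup G} {x : G}

omit [Finite G] in
/-- a `p`-element (`p` odd) of square one is trivial -/
theorem eq_one_of_sq' {y : G} (hp : p.Prime) (hp2 : p ≠ 2) (hy : IsPEl p y) (h2 : y * y = 1) :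
    y = 1 := by
  obtain ⟨k, hk⟩ := hy
  have h1 : orderOf y ∣ p ^ k := orderOf_dvd_of_pow_eq_one hk
  have h2' : orderOf y ∣ 2 := orderOf_dvd_of_pow_eq_one (by rw [sq]; exact h2)
  have hcop : Nat.Coprime (p ^ k) 2 := by
    apply Nat.Coprime.pow_left
    exact (Nat.coprime_primes hp Nat.prime_two).mpr hp2
  have h3 : orderOf y ∣ 1 := by
    have := Nat.dvd_gcd h1 h2'
    rwa [hcop] at this
  exact orderOf_eq_one_iff.mp (Nat.dvd_one.mp h3)

omit [Finite G] in
/-- elements of `zpowers t`, `t * t = 1` -/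
theorem mem_zpowers_of_sq {t z : G} (htt : t * t = 1) (hz : z ∈ Subgroup.zpowers t) :
    z = 1 ∨ z = t := by
  obtain ⟨k, rfl⟩ := Subgroup.mem_zpowers_iff.mp hz
  have h2 : t ^ (2 : ℤ) = 1 := by
    rw [zpow_ofNat, sq]; exact htt
  rcases Int.emod_two_eq_zero_or_one k with h | h
  · left
    have : k = 2 * (k / 2) := by omega
    rw [this, zpow_mul, h2, one_zpow]
  · right
    have : k = 2 * (k / 2) + 1 := by omega
    rw [this, zpow_add, zpow_mul, h2, one_zpow, one_mul, zpow_one]

omit [Finite G] in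
/-- if `t` centralizes `O`, the elements of `O ⊔ zpowers t` are products -/
theorem mem_sup_zpowers {O : Subgroup G} {t : G} (hOt : ∀ o ∈ O, o * t = t * o) {k : G}
    (hk : k ∈ O ⊔ Subgroup.zpowers t) : ∃ o ∈ O, ∃ z ∈ Subgroup.zpowers t, k = o * z := by
  have hOz : ∀ o ∈ O, ∀ z ∈ Subgroup.zpowers t, o * z = z * o := by
    intro o ho z hz
    obtain ⟨j, rfl⟩ := Subgroup.mem_zpowers_iff.mp hz
    exact ((show Commute o t from hOt o ho).zpow_right j).eq
  rw [Subgroup.sup_eq_closure] at hk
  induction hk using Subgroup.closure_induction with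
  | mem g hg =>
    rcases hg with hg | hg
    · exact ⟨g, hg, 1, Subgroup.one_mem _, (mul_one g).symm⟩
    · exact ⟨1, Subgroup.one_mem _, g, hg, (one_mul g).symm⟩
  | one => exact ⟨1, Subgroup.one_mem _, 1, Subgroup.one_mem _, (mul_one 1).symm⟩
  | mul g h _ _ ihg ihh =>
    obtain ⟨o, ho, z, hz, rfl⟩ := ihg
    obtain ⟨o', ho', z', hz', rfl⟩ := ihh
    refine ⟨o * o', Subgroup.mul_mem _ ho ho', z * z', Subgroup.mul_mem _ hz hz', ?_⟩
    calc o * z * (o' * z') = o * (z * o') * z' := by group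
      _ = o * (o' * z) * z' := by rw [hOz o' ho' z hz]
      _ = o * o' * (z * z') := by group
  | inv g _ ihg =>
    obtain ⟨o, ho, z, hz, rfl⟩ := ihg
    refine ⟨o⁻¹, Subgroup.inv_mem _ ho, z⁻¹, Subgroup.inv_mem _ hz, ?_⟩
    rw [mul_inv_rev, hOz o⁻¹ (Subgroup.inv_mem _ ho) z⁻¹ (Subgroup.inv_mem _ hz)]

/-- MX-E3D. -/
theorem kl_bsw (hF : UFacts G p a) (hI : InvProp G p a) (hTI : TIProp G p a) :
    BSWApplyProp G p a := by
  intro Q x hctx hII ha2 hex
  obtain ⟨t, htQ, ht1, y, hyO, hy1⟩ := hex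
  have F := hF Q x hctx
  have hpp := hctx.hp
  have hp2 := hctx.hp2
  obtain ⟨hsq, hcomm⟩ := F.elem
  have htt : t * t = 1 := hsq t htQ
  haveI : Fact (Nat.Prime 2) := ⟨Nat.prime_two⟩
  have ht : orderOf t = 2 := orderOf_eq_prime (by rw [sq]; exact htt) ht1
  have hcardQ : Nat.card Q = 4 := by rw [hctx.cardQ, ha2]; norm_num
  have h4 : (Q : Set G).ncard = 4 := by rw [← Nat.card_coe_set_eq]; exact hcardQ
  -- the `p`-group `O_t`
  obtain ⟨hOp, hOdec⟩ := F.ot t htQ ht1
  have hOC : Op p t ≤ Subgroup.centralizer ({t} : Set G) := by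
    unfold Op
    rw [Subgroup.closure_le]
    intro g hg
    exact Subgroup.mem_centralizer_singleton_iff.mpr hg.1
  have hOt : ∀ o ∈ Op p t, o * t = t * o := fun o ho =>
    Subgroup.mem_centralizer_singleton_iff.mp (hOC ho)
  have hOab : ∀ g ∈ Op p t, ∀ h ∈ Op p t, g * h = h * g := hctx.abel _ hOp
  have hOpel : ∀ o ∈ Op p t, IsPEl p o := by
    intro o ho
    obtain ⟨k, hk⟩ := hOp ⟨o, ho⟩
    exact ⟨k, by simpa using congrArg Subtype.val hk⟩
  -- a third element of `Q`
  obtain ⟨u, huQ, hu1, hut⟩ : ∃ u ∈ Q, u ≠ 1 ∧ u ≠ t := by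
    by_contra hno
    push Not at hno
    have hsub : (Q : Set G) ⊆ {1, t} := by
      intro v hv
      by_cases h1 : v = 1
      · left; exact h1
      · right; exact hno v hv h1
    have h5 := Set.ncard_le_ncard hsub (Set.toFinite _)
    have h6 : ({1, t} : Set G).ncard ≤ 2 := by
      have := Set.ncard_insert_le (1 : G) ({t} : Set G)
      rwa [Set.ncard_singleton] at this
    omega
  have huu : u * u = 1 := hsq u huQ
  have hs : orderOf u = 2 := orderOf_eq_prime (by rw [sq]; exact huu) hu1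
  have hutc : u * t = t * u := hcomm u huQ t htQ
  have htinv : t⁻¹ = t := inv_eq_of_mul_eq_one_left htt
  have huinv : u⁻¹ = u := inv_eq_of_mul_eq_one_left huu
  -- `Q = {1, t, u, t u}`
  have hQ4 : ∀ v ∈ Q, v = 1 ∨ v = t ∨ v = u ∨ v = t * u := by
    classical
    have hsub : (({1, t, u, t * u} : Finset G) : Set G) ⊆ (Q : Set G) := by
      intro v hv
      simp only [Finset.coe_insert, Finset.coe_singleton, Set.mem_insert_iff,
        Set.mem_singleton_iff] at hv
      rcases hv with rfl | rfl | rfl | rfl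
      · exact Q.one_mem
      · exact htQ
      · exact huQ
      · exact Q.mul_mem htQ huQ
    have htu1 : t * u ≠ 1 := by
      intro h
      apply hut
      have : u = t⁻¹ := eq_inv_of_mul_eq_one_right h
      rw [this, htinv]
    have htut : t * u ≠ t := by
      intro h
      apply hu1
      exact mul_left_cancel (a := t) (by rw [h, mul_one])
    have htuu : t * u ≠ u := by
      intro h
      apply ht1
      exact mul_right_cancel (b := u) (by rw [h, one_mul])
    have hcard4 : ({1, t, u, t * u} : Finset G).card = 4 := by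
      rw [Finset.card_insert_of_notMem, Finset.card_insert_of_notMem,
        Finset.card_insert_of_notMem, Finset.card_singleton]
      · simp only [Finset.mem_singleton]
        exact fun h => htuu h.symm
      · simp only [Finset.mem_insert, Finset.mem_singleton, not_or]
        exact ⟨fun h => hut h.symm, fun h => htut h.symm⟩
      · simp only [Finset.mem_insert, Finset.mem_singleton, not_or]
        exact ⟨fun h => ht1 h.symm, fun h => hu1 h.symm, fun h => htu1 h.symm⟩
    have heq := Set.eq_of_subset_of_ncard_le hsub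
      (by rw [Set.ncard_coe_finset, hcard4, h4]) (Set.toFinite _)
    intro v hv
    have hv' : v ∈ (({1, t, u, t * u} : Finset G) : Set G) := by rw [heq]; exact hv
    simpa using hv'
  have hzQ : ∀ z ∈ Subgroup.zpowers t, z ∈ Q := by
    intro z hz
    rcases mem_zpowers_of_sq htt hz with rfl | rfl
    · exact Q.one_mem
    · exact htQ
  -- the subgroup `K`
  set K : Subgroup G := Op p t ⊔ Subgroup.zpowers t with hK
  have hKab : IsMulCommutative ↥K := by
    have h1 : IsMulCommutative ↥(Subgroup.closure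
        ((Op p t : Set G) ∪ (Subgroup.zpowers t : Set G))) := by
      apply Subgroup.isMulCommutative_closure
      rintro g (hg | hg) h (hh | hh)
      · exact hOab g hg h hh
      · rcases mem_zpowers_of_sq htt hh with rfl | rfl
        · rw [mul_one, one_mul]
        · exact hOt g hg
      · rcases mem_zpowers_of_sq htt hg with rfl | rfl
        · rw [mul_one, one_mul]
        · exact (hOt h hh).symm
      · rcases mem_zpowers_of_sq htt hg with rfl | rfl
        · rw [mul_one, one_mul]
        · rcases mem_zpowers_of_sq htt hh with rfl | rfl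
          · rw [mul_one, one_mul]
          · rfl
    rwa [← Subgroup.sup_eq_closure] at h1
  have htC : t ∈ Subgroup.centralizer ({t} : Set G) :=
    Subgroup.mem_centralizer_singleton_iff.mpr rfl
  have hKH : K ≤ Subgroup.centralizer ({t} : Set G) :=
    sup_le hOC (Subgroup.zpowers_le.mpr htC)
  have htK : t ∈ K := Subgroup.mem_sup_right (Subgroup.mem_zpowers t)
  have hsH : u ∈ Subgroup.centralizer ({t} : Set G) :=
    Subgroup.mem_centralizer_singleton_iff.mpr hutc
  have hdec : ∀ k ∈ K, ∃ o ∈ Op p t, ∃ z ∈ Subgroup.zpowers t, k = o * z :=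
    fun k hk => mem_sup_zpowers hOt hk
  have hsK : u ∉ K := by
    intro huK
    obtain ⟨o, ho, z, hz, hoz⟩ := hdec u huK
    have hoQ : o ∈ Q := by
      have : o = u * z⁻¹ := by rw [hoz, mul_inv_cancel_right]
      rw [this]
      exact Q.mul_mem huQ (Q.inv_mem (hzQ z hz))
    have ho1 : o = 1 := eq_one_of_sq' hpp hp2 (hOpel o ho) (hsq o hoQ)
    rw [ho1, one_mul] at hoz
    rcases mem_zpowers_of_sq htt hz with h | h
    · exact hu1 (by rw [hoz, h])
    · exact hut (by rw [hoz, h])
  have hH : K ⊔ Subgroup.zpowers u = Subgroup.centralizer ({t} : Set G) := by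
    apply le_antisymm (sup_le hKH (Subgroup.zpowers_le.mpr hsH))
    intro g hg
    obtain ⟨o, ho, v, hv, rfl⟩ := hOdec g (Subgroup.mem_centralizer_singleton_iff.mp hg)
    have hoK : o ∈ K ⊔ Subgroup.zpowers u :=
      Subgroup.mem_sup_left (Subgroup.mem_sup_left ho)
    have huZ : u ∈ K ⊔ Subgroup.zpowers u := Subgroup.mem_sup_right (Subgroup.mem_zpowers u)
    have htZ : t ∈ K ⊔ Subgroup.zpowers u := Subgroup.mem_sup_left htK
    apply Subgroup.mul_mem _ hoK
    rcases hQ4 v hv with rfl | rfl | rfl | rfl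
    · exact Subgroup.one_mem _
    · exact htZ
    · exact huZ
    · exact Subgroup.mul_mem _ htZ huZ
  have hIo : ∀ o ∈ Op p t, u * o * u⁻¹ = o⁻¹ :=
    fun o ho => hI Q x hctx hII ha2 t htQ ht1 u huQ hu1 hut o ho
  have hzu : ∀ z ∈ Subgroup.zpowers t, z * u = u * z :=
    fun z hz => hcomm z (hzQ z hz) u huQ
  have hCK : K ⊓ Subgroup.centralizer ({u} : Set G) = Subgroup.zpowers t := by
    ext k
    rw [Subgroup.mem_inf, Subgroup.mem_centralizer_singleton_iff]
    constructor
    · rintro ⟨hkK, hkC⟩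
      obtain ⟨o, ho, z, hz, rfl⟩ := hdec k hkK
      have hou : o * u = u * o := by
        have h1 : o * u * z = u * o * z := by
          calc o * u * z = o * (u * z) := by group
            _ = o * (z * u) := by rw [hzu z hz]
            _ = o * z * u := by group
            _ = u * (o * z) := hkC
            _ = u * o * z := by group
        exact mul_right_cancel h1
      have h2 : o⁻¹ = o := by
        rw [← hIo o ho, ← hou, mul_inv_cancel_right]
      have ho1 : o = 1 := by
        apply eq_one_of_sq' hpp hp2 (hOpel o ho)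
        nth_rewrite 1 [← h2]
        exact inv_mul_cancel o
      rw [ho1, one_mul]
      exact hz
    · intro hk
      exact ⟨Subgroup.mem_sup_right hk, hzu k hk⟩
  have hinv : ∀ k ∈ K, u * k * u⁻¹ = k⁻¹ := by
    intro k hk
    obtain ⟨o, ho, z, hz, rfl⟩ := hdec k hk
    have hzz : z⁻¹ = z := inv_eq_of_mul_eq_one_left (hsq z (hzQ z hz))
    have hoz : o⁻¹ * z = z * o⁻¹ := by
      rcases mem_zpowers_of_sq htt hz with rfl | rfl
      · rw [mul_one, one_mul]
      · exact hOt o⁻¹ (Subgroup.inv_mem _ ho)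
    calc u * (o * z) * u⁻¹ = (u * o * u⁻¹) * (u * z) * u⁻¹ := by group
      _ = o⁻¹ * (z * u) * u⁻¹ := by rw [hIo o ho, hzu z hz]
      _ = o⁻¹ * z := by group
      _ = z⁻¹ * o⁻¹ := by rw [hoz, hzz]
      _ = (o * z)⁻¹ := by rw [mul_inv_rev]
  have hTI' : ∀ g : G, g ∉ Subgroup.centralizer ({t} : Set G) →
      K ⊓ K.map (MulAut.conj g).toMonoidHom = ⊥ := by
    intro g hg
    rw [eq_bot_iff]
    rintro k ⟨hk1, hk2⟩
    rw [Subgroup.mem_bot]
    by_contra hk
    obtain ⟨k', hk', hkk'⟩ := Subgroup.mem_map.mp hk2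
    have hkk'' : g * k' * g⁻¹ = k := hkk'
    apply hg
    rw [Subgroup.mem_centralizer_singleton_iff]
    apply hTI Q x hctx hII ha2 t htQ ht1 ⟨y, hyO, hy1⟩ g
    refine ⟨k, hk, hk1, ?_⟩
    have : g⁻¹ * k * g = k' := by rw [← hkk'']; group
    rw [this]
    exact hk'
  have hconj : ∀ x' y' : G, orderOf x' = 2 → orderOf y' = 2 → IsConj x' y' := by
    intro x' y' hx' hy'
    have h2el : ∀ g : G, orderOf g = 2 → ∃ c : G, c * g * c⁻¹ ∈ Q ∧ c * g * c⁻¹ ≠ 1 := by
      intro g hg
      obtain ⟨c, hc⟩ := F.syl g ⟨1, by rw [pow_one, ← hg]; exact pow_orderOf_eq_one g⟩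
      refine ⟨c, hc, ?_⟩
      intro h
      have hg1 : g = 1 := by
        have : g = c⁻¹ * (c * g * c⁻¹) * c := by group
        rw [this, h]; group
      rw [hg1, orderOf_one] at hg
      omega
    obtain ⟨c, hcQ, hc1⟩ := h2el x' hx'
    obtain ⟨c', hc'Q, hc'1⟩ := h2el y' hy'
    obtain ⟨j, hj⟩ := F.trans _ hcQ hc1 _ hc'Q hc'1
    rw [isConj_iff]
    refine ⟨c'⁻¹ * x ^ j * c, ?_⟩
    have : y' = c'⁻¹ * (c' * y' * c'⁻¹) * c' := by group
    rw [this, ← hj]
    group
  exact Cfsg.Agent.S3282.result t ht K hKab hKH htK u hs hsH hsK hH hCK hinv hTI' hconj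

end Cfsg.Agent.Lib.Helper64_MX_E3D
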