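/-
S4017 market (architect helper6), package MX-E4C (proof helper64): in the CIT case a nontrivial real
`p`-element is inverted by exactly `ppart G p` involutions.
-/
import Cfsg.Agent.Lib.Helper6_MXDefs

set_option autoImplicit false
open Cfsg.Agent.Lib.Helper6_MXDefs

namespace Cfsg.Agent.Lib.Helper64_MX_E4C

variable {G : Type*} [Group G] [Finite G] {p a : ℕ} {Q : Subgroup G} {x : G}

omit [Finite G] in
/-- an element of order two is its own inverse -/
theorem inv_of_order_two {t : G} (ht : orderOf t = 2) : t⁻¹ = t ∧ t * t = 1 := by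
  have h1 : t ^ 2 = 1 := by rw [← ht]; exact pow_orderOf_eq_one t
  rw [sq] at h1
  exact ⟨inv_eq_of_mul_eq_one_left h1, h1⟩

omit [Finite G] in
/-- a `p`-element (`p` odd) of square one is trivial -/
theorem eq_one_of_sq {y : G} (hp : p.Prime) (hp2 : p ≠ 2) (hy : IsPEl p y) (h2 : y * y = 1) :
    y = 1 := by
  obtain ⟨k, hk⟩ := hy
  have h1 : orderOf y ∣ p ^ k := orderOf_dvd_of_pow_eq_one hk
  have h2' : orderOf y ∣ 2 := orderOf_dvd_of_pow_eq_one (by rw [sq]; exact h2)
  have hcop : Nat.Coprime (p ^ k) 2 := by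
    apply Nat.Coprime.pow_left
    exact (Nat.coprime_primes hp Nat.prime_two).mpr hp2
  have h3 : orderOf y ∣ 1 := by
    have := Nat.dvd_gcd h1 h2'
    rwa [hcop] at this
  exact orderOf_eq_one_iff.mp (Nat.dvd_one.mp h3)

/-- MX-E4C. -/
theorem cit_invcount (hF : UFacts G p a) (hRe : CitRealProp G p a) : CitInvCountProp G p a := by
  intro Q x hctx hcit y hy
  obtain ⟨hy1, hyp, t, ht2, hty⟩ := hy
  obtain ⟨_, hcard, hinv⟩ := hRe Q x hctx hcit y hy1 hyp t ht2 hty
  obtain ⟨htinv, htt⟩ := inv_of_order_two ht2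
  have hpp := hctx.hp
  have hp2 := hctx.hp2
  rw [← hcard, ← Nat.card_coe_set_eq]
  symm
  -- `t` does not centralize `y`
  have htC : ¬ t * y = y * t := by
    intro h
    have h1 : t * y * t⁻¹ = y := by rw [h, mul_assoc, mul_inv_cancel, mul_one]
    rw [h1] at hty
    have h2 : y * y = 1 := by
      nth_rewrite 2 [hty]
      exact mul_inv_cancel y
    exact hy1 (eq_one_of_sq hpp hp2 hyp h2)
  have hfwd : ∀ z : G, z * y = y * z → orderOf (z * t) = 2 ∧ (z * t) * y * (z * t)⁻¹ = y⁻¹ := by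
    intro z hz
    have h3 := hinv z hz
    have hsq : (z * t) ^ 2 = 1 := by
      calc (z * t) ^ 2 = z * (t * z * t⁻¹) * (t * t) := by rw [sq]; group
        _ = 1 := by rw [h3, htt, mul_one, mul_inv_cancel]
    have hne : z * t ≠ 1 := by
      intro h
      have h5 : t = z⁻¹ := eq_inv_of_mul_eq_one_right h
      apply htC
      rw [h5]
      exact (Commute.inv_left (show Commute z y from hz)).eq
    refine ⟨orderOf_eq_prime hsq hne, ?_⟩
    have h7 : z * y⁻¹ = y⁻¹ * z := (Commute.inv_right (show Commute z y from hz)).eq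
    calc (z * t) * y * (z * t)⁻¹ = z * (t * y * t⁻¹) * z⁻¹ := by group
      _ = y⁻¹ := by rw [hty, h7, mul_assoc, mul_inv_cancel, mul_one]
  have hbwd : ∀ v : G, orderOf v = 2 → v * y * v⁻¹ = y⁻¹ → (v * t) * y = y * (v * t) := by
    intro v _ hvy
    have h8 : v * y⁻¹ * v⁻¹ = y := by
      calc v * y⁻¹ * v⁻¹ = (v * y * v⁻¹)⁻¹ := by group
        _ = y := by rw [hvy, inv_inv]
    calc (v * t) * y = v * (t * y * t⁻¹) * t := by group
      _ = (v * y⁻¹ * v⁻¹) * (v * t) := by rw [hty]; group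
      _ = y * (v * t) := by rw [h8]
  refine Nat.card_congr
    { toFun := fun z => ⟨(z : G) * t, hfwd z (Subgroup.mem_centralizer_singleton_iff.mp z.2)⟩
      invFun := fun v => ⟨(v : G) * t, Subgroup.mem_centralizer_singleton_iff.mpr
        (hbwd v v.2.1 v.2.2)⟩
      left_inv := ?_
      right_inv := ?_ }
  · intro z
    apply Subtype.ext
    show (z : G) * t * t = z
    rw [mul_assoc, htt, mul_one]
  · intro v
    apply Subtype.ext
    show (v : G) * t * t = v
    rw [mul_assoc, htt, mul_one]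

end Cfsg.Agent.Lib.Helper64_MX_E4C
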