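/-
S4017 market (architect helper6), package MX-F2B (proof helper64): from the failure of the Frobenius criterion
(S0071) a `p`-element normalizing but not centralizing a subgroup of the Sylow `q`-subgroup.
-/
import Cfsg.Agent.Lib.Helper6_MXDefs
import Cfsg.Agent.S0071

set_option autoImplicit false
open Cfsg.Agent.Lib.Helper6_MXDefs

namespace Cfsg.Agent.Lib.Helper64_MX_F2B

/-- MX-F2B. -/
theorem frob_step {G : Type*} [Group G] [Finite G] {p q : ℕ} (hp : p.Prime) [Fact q.Prime]
    (hpq : p ≠ q) (hpG : p ∣ Nat.card G) (hqG : q ∣ Nat.card G)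
    (hrs : ∀ (U R : Subgroup G) (r : ℕ), r.Prime → r ≠ p → r ≠ q → IsPGroup q U → U ≠ ⊥ →
      IsPGroup r R → R ≠ ⊥ →
      (U ≤ Subgroup.normalizer (R : Set G) ∨ R ≤ Subgroup.normalizer (U : Set G)) → False)
    (hnc : ∀ N : Subgroup G, N.Normal → ∀ Qs : Sylow q G, N.IsComplement' (Qs : Subgroup G) → False)
    (Qs : Sylow q G) :
    ∃ U : Subgroup G, U ≤ (Qs : Subgroup G) ∧ ∃ g ∈ Subgroup.normalizer (U : Set G),
      IsPEl p g ∧ ¬ (∀ u ∈ U, g * u = u * g) := by
  have h71 := Cfsg.Agent.S0071.result Qs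
  have hno : ¬ ∃ N : Subgroup G, N.Normal ∧ N.IsComplement' (Qs : Subgroup G) := by
    rintro ⟨N, hN, hc⟩
    exact hnc N hN Qs hc
  rw [h71] at hno
  push Not at hno
  obtain ⟨U, hUQ, g, hgN, hgq, hgC⟩ := hno
  refine ⟨U, hUQ, g, hgN, ?_, ?_⟩
  · -- `g` is a `p`-element
    have hU : IsPGroup q U := Qs.2.to_le hUQ
    have hU1 : U ≠ ⊥ := by
      intro h
      apply hgC
      rw [h, Subgroup.mem_centralizer_iff]
      intro u hu
      have : u = 1 := by simpa using hu
      rw [this, one_mul, mul_one]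
    have ho : orderOf g ≠ 0 := (orderOf_pos g).ne'
    have hall : ∀ {s : ℕ}, s.Prime → s ∣ orderOf g → s = p := by
      intro s hs hsd
      by_contra hsp
      have hsq : s ≠ q := by
        intro h
        rw [h] at hsd
        have h1 : q ∣ Nat.gcd (orderOf g) q := Nat.dvd_gcd hsd (dvd_refl q)
        rw [hgq] at h1
        exact (Fact.out : q.Prime).one_lt.ne' (Nat.dvd_one.mp h1)
      set k := g ^ (orderOf g / s) with hk
      have hko : orderOf k = s := orderOf_pow_orderOf_div ho hsd
      have hR : IsPGroup s (Subgroup.zpowers k) := by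
        haveI : Fact s.Prime := ⟨hs⟩
        apply IsPGroup.of_card (n := 1)
        rw [Nat.card_zpowers, hko, pow_one]
      have hR1 : Subgroup.zpowers k ≠ ⊥ := by
        intro h
        rw [Subgroup.zpowers_eq_bot] at h
        rw [h, orderOf_one] at hko
        exact hs.one_lt.ne hko
      have hkN : k ∈ Subgroup.normalizer (U : Set G) := Subgroup.pow_mem _ hgN _
      exact hrs U (Subgroup.zpowers k) s hs hsp hsq hU hU1 hR hR1
        (Or.inr ((Subgroup.zpowers_le).mpr hkN))
    have := Nat.eq_prime_pow_of_unique_prime_dvd ho hall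
    exact ⟨_, by rw [← this]; exact pow_orderOf_eq_one g⟩
  · intro hall
    apply hgC
    rw [Subgroup.mem_centralizer_iff]
    intro u hu
    exact (hall u hu).symm

end Cfsg.Agent.Lib.Helper64_MX_F2B
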