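/-
S2344 (cutter helper87), WAVE 3, package OO2-GEN3B (proof helper64): in the base `n = 3` a vector of `F_2`
fixed by `Ω_3 = ⟨E(w1, s x), E(w1', s x)⟩` and by `n_2`, and an eigenvector of the torus `h12`, lies in `Y`.
-/
import Mathlib
import Cfsg.Agent.Lib.Helper95_OPDefs
import Cfsg.Agent.Lib.Helper95_OPBasic
import Cfsg.Agent.Lib.Helper48_OODefs
import Cfsg.Agent.Lib.Helper87_OO2Defs
import Cfsg.Agent.Lib.Helper87_OO2Defs2
import Cfsg.Agent.Lib.Helper87_OO2Defs3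
import Cfsg.Agent.Lib.Helper42_OO2_FRAME
import Cfsg.Agent.Lib.Helper12_OO2_HEIS
import Cfsg.Agent.Lib.Helper29_OO2_M0
import Cfsg.Agent.Lib.Helper95_OM_GEN
import Cfsg.Agent.Lib.Helper73_OP_EXT

set_option autoImplicit false
set_option linter.unusedSectionVars false

namespace Cfsg.Agent.Lib.Helper64_OO2_GEN3B

open Module Cfsg.Agent.Lib.Helper94_OrthSmall Cfsg.Agent.Lib.Helper44_QuadClass
  Cfsg.Agent.Lib.Helper14_OmegaSimple Cfsg.Agent.Lib.Helper38_MIODefs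
  Cfsg.Agent.Lib.Helper95_OPDefs Cfsg.Agent.Lib.Helper95_OPBasic Cfsg.Agent.Lib.Helper48_OODefs
  Cfsg.Agent.Lib.Helper87_OO2Defs

variable {F V : Type*} [Field F] [Fintype F] [AddCommGroup V] [Module F V] [FiniteDimensional F V]
  {X : Type*} [AddCommGroup X] [Module ℂ X] [FiniteDimensional ℂ X]

/-- a Siegel element `E(p,r)` fixes every vector orthogonal to `p` and `r` -/
theorem E_fix_perp (Q : QuadraticForm F V) {p r z : V} (hp : Q p = 0)
    (hpr : QuadraticMap.polar (⇑Q) p r = 0) (h1 : QuadraticMap.polar (⇑Q) z p = 0)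
    (h2 : QuadraticMap.polar (⇑Q) z r = 0) : E Q p r z = z := by
  rw [E_apply Q hp hpr, h1, h2]
  simp

/-- the inverse of an operator fixing `y` fixes `y` -/
theorem repE_inv_fix (Q : QuadraticForm F V) (ρ : Representation ℂ ↥(T Q) X) {g : V ≃ₗ[F] V}
    (hg : g ∈ T Q) {y : X} (h : repE Q ρ g y = y) : repE Q ρ g⁻¹ y = y := by
  have hgi : g⁻¹ ∈ T Q := Subgroup.inv_mem _ hg
  have h2 : repE Q ρ g⁻¹ (repE Q ρ g y) = y := by
    rw [← Module.End.mul_apply, ← repE_mul Q ρ hgi hg, inv_mul_cancel, repE_one]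
    rfl
  rw [h] at h2
  exact h2

/-- conjugation: if `g` and `k` fix `y` then so does `g k g⁻¹` -/
theorem repE_conj_fix (Q : QuadraticForm F V) (ρ : Representation ℂ ↥(T Q) X) {g k : V ≃ₗ[F] V}
    (hg : g ∈ T Q) (hk : k ∈ T Q) {y : X} (h1 : repE Q ρ g y = y) (h2 : repE Q ρ k y = y) :
    repE Q ρ (g * k * g⁻¹) y = y := by
  have hgi : g⁻¹ ∈ T Q := Subgroup.inv_mem _ hg
  rw [repE_mul Q ρ (Subgroup.mul_mem _ hg hk) hgi, repE_mul Q ρ hg hk, Module.End.mul_apply,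
    Module.End.mul_apply, repE_inv_fix Q ρ hg h1, h2, h1]

/-- conjugation by an operator having `y` as an eigenvector -/
theorem repE_conj_eigen (Q : QuadraticForm F V) (ρ : Representation ℂ ↥(T Q) X) {g k : V ≃ₗ[F] V}
    (hg : g ∈ T Q) (hk : k ∈ T Q) {y : X} (hy0 : y ≠ 0) {c : ℂ} (h1 : repE Q ρ g y = c • y)
    (h2 : repE Q ρ k y = y) : repE Q ρ (g * k * g⁻¹) y = y := by
  have hgi : g⁻¹ ∈ T Q := Subgroup.inv_mem _ hg
  have hc : c ≠ 0 := by
    intro hc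
    rw [hc, zero_smul] at h1
    have h3 : repE Q ρ g⁻¹ (repE Q ρ g y) = y := by
      rw [← Module.End.mul_apply, ← repE_mul Q ρ hgi hg, inv_mul_cancel, repE_one]
      rfl
    rw [h1, map_zero] at h3
    exact hy0 h3.symm
  have h3 : repE Q ρ g⁻¹ y = c⁻¹ • y := by
    have h4 : repE Q ρ g⁻¹ (repE Q ρ g y) = y := by
      rw [← Module.End.mul_apply, ← repE_mul Q ρ hgi hg, inv_mul_cancel, repE_one]
      rfl
    rw [h1, map_smul] at h4
    have h5 : repE Q ρ g⁻¹ y = c⁻¹ • (c • repE Q ρ g⁻¹ y) := by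
      rw [smul_smul, inv_mul_cancel₀ hc, one_smul]
    rw [h5, h4]
  rw [repE_mul Q ρ (Subgroup.mul_mem _ hg hk) hgi, repE_mul Q ρ hg hk, Module.End.mul_apply,
    Module.End.mul_apply, h3, map_smul, h2, map_smul, h1, smul_smul, inv_mul_cancel₀ hc, one_smul]

/-- OO2-GEN3B with `W_1 = ⟨w1, w1', x⟩` (OO2-BASEL) as a hypothesis -/
theorem Y_of_F2_n2_aux (Q : QuadraticForm F V) (hP : IsOddT Q 3)
    {v v' w0 w0' w1 w1' x : V} (fr : Frame3 Q v v' w0 w0' w1 w1' x)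
    (hspan : W1 Q v v' w0 w0' = Submodule.span F {w1, w1', x})
    (ρ : Representation ℂ ↥(T Q) X) (y : X) (hy : y ∈ F2sp Q ρ v v' w0 w0')
    (hB1 : ∀ s : F, repE Q ρ (E Q w1 (s • x)) y = y ∧ repE Q ρ (E Q w1' (s • x)) y = y)
    (hn : repE Q ρ (nw Q w0 w0' w1 w1' 1) y = y)
    (he : ∀ a : F, a ≠ 0 → ∃ c : ℂ, repE Q ρ (hh Q v v' w0 w0' a) y = c • y) :
    y ∈ Ysp Q ρ v v' := by
  classical
  by_cases hy0 : y = 0
  · rw [hy0]; exact Submodule.zero_mem _
  have hQ := hP.nondeg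
  have hdim : 5 ≤ finrank F V := by rw [hP.dim]; norm_num
  have h01 := fr.h01
  have h02 := fr.h02
  have h12 := fr.h12
  obtain ⟨hyR, hyR1⟩ := Submodule.mem_inf.mp hy
  have hmW1 := Cfsg.Agent.Lib.Helper29_OO2_M0.mem_W1 Q v v' w0 w0'
  have hw1 : w1 ∈ W1 Q v v' w0 w0' := (hmW1 w1).mpr ⟨⟨h02.ab, h02.a'b⟩, h12.ab, h12.a'b⟩
  have hw1' : w1' ∈ W1 Q v v' w0 w0' := (hmW1 w1').mpr ⟨⟨h02.ab', h02.a'b'⟩, h12.ab', h12.a'b'⟩
  have hx := fr.xW1
  have hx' := (hmW1 x).mp hx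
  have hqw0' : Q w0' = 0 := h01.pb.qa'
  have hW1w0' : ∀ u ∈ W1 Q v v' w0 w0', QuadraticMap.polar (⇑Q) w0' u = 0 :=
    fun u hu => ((hmW1 u).mp hu).2.2
  have hEmem : ∀ u ∈ W1 Q v v' w0 w0', E Q w0' u ∈ T Q :=
    fun u hu => E_mem_T Q hQ hdim hqw0' (hW1w0' u hu)
  -- the subspace `U` of the `u ∈ W_1` with `E(w0', u) y = y`
  let U : Submodule F V :=
    { carrier := {u | u ∈ W1 Q v v' w0 w0' ∧ repE Q ρ (E Q w0' u) y = y}
      add_mem' := by
        rintro a b ⟨ha, ha2⟩ ⟨hb, hb2⟩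
        refine ⟨Submodule.add_mem _ ha hb, ?_⟩
        rw [← E_mul Q hqw0' (hW1w0' a ha) (hW1w0' b hb), repE_mul Q ρ (hEmem a ha) (hEmem b hb),
          Module.End.mul_apply, hb2, ha2]
      zero_mem' := ⟨Submodule.zero_mem _, by rw [E_zero_right Q hqw0', repE_one]; rfl⟩
      smul_mem' := by
        rintro a u ⟨hu, hu2⟩
        refine ⟨Submodule.smul_mem _ a hu, ?_⟩
        by_cases ha : a = 0
        · rw [ha, zero_smul, E_zero_right Q hqw0', repE_one]; rfl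
        obtain ⟨c, hc⟩ := he a ha
        have hh_mem := hh_mem_T h01 a
        have hconj := conj_E Q (T_le_oG Q hh_mem) hqw0' (hW1w0' u hu)
        have hu' := (hmW1 u).mp hu
        rw [Cfsg.Agent.Lib.Helper42_OO2_FRAME.hh_b' h01 a ha,
          Cfsg.Agent.Lib.Helper42_OO2_FRAME.hh_perp h01 a u
            (by rw [QuadraticMap.polar_comm]; exact hu'.1.1)
            (by rw [QuadraticMap.polar_comm]; exact hu'.1.2)
            (by rw [QuadraticMap.polar_comm]; exact hu'.2.1)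
            (by rw [QuadraticMap.polar_comm]; exact hu'.2.2),
          E_smul_left Q hqw0' (hW1w0' u hu) a] at hconj
        show repE Q ρ (E Q w0' (a • u)) y = y
        rw [← hconj]
        exact repE_conj_eigen Q ρ hh_mem (hEmem u hu) hy0 hc hu2 }
  have hU_conj : ∀ l : V ≃ₗ[F] V, l ∈ T Q → l v = v → l v' = v' → l w0 = w0 → l w0' = w0' →
      repE Q ρ l y = y → ∀ u ∈ U, l u ∈ U := by
    rintro l hl e1 e2 e3 e4 hfix u ⟨hu, hu2⟩
    have hlu : l u ∈ W1 Q v v' w0 w0' :=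
      Cfsg.Agent.Lib.Helper29_OO2_M0.W1_map Q (T_le_oG Q hl) e1 e2 one_ne_zero one_ne_zero
        (by rw [e3, one_smul]) (by rw [e4, one_smul]) u hu
    refine ⟨hlu, ?_⟩
    have hconj := conj_E Q (T_le_oG Q hl) hqw0' (hW1w0' u hu)
    rw [e4] at hconj
    show repE Q ρ (E Q w0' (l u)) y = y
    rw [← hconj]
    exact repE_conj_fix Q ρ hl (hEmem u hu) hfix hu2
  -- `w1 ∈ U` through `n_2`
  have hw1U : w1 ∈ U := by
    refine ⟨hw1, ?_⟩
    have hn2 := nw_mem_T h12 (1 : F)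
    have hconj := conj_E Q (T_le_oG Q hn2) h12.pa.qa h12.ab'
    rw [Cfsg.Agent.Lib.Helper42_OO2_FRAME.nw_a h12 1 one_ne_zero,
      Cfsg.Agent.Lib.Helper42_OO2_FRAME.nw_b' h12 1 one_ne_zero, inv_one, one_smul, one_smul]
      at hconj
    rw [Cfsg.Agent.Lib.Helper12_OO2_HEIS.E_swap hqw0' h12.pb.qa h12.a'b, ← hconj]
    exact repE_conj_fix Q ρ hn2 (E_mem_T Q hQ hdim h12.pa.qa h12.ab') hn (hyR1 w1' hw1')
  -- the two root elements of `Ω_3`
  have hpw1'x : QuadraticMap.polar (⇑Q) w1' x = 0 := by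
    rw [QuadraticMap.polar_comm]; exact fr.xw1'
  have hpw1x : QuadraticMap.polar (⇑Q) w1 x = 0 := by
    rw [QuadraticMap.polar_comm]; exact fr.xw1
  have hpw1'w1 : QuadraticMap.polar (⇑Q) w1' w1 = 1 := by
    rw [QuadraticMap.polar_comm]; exact h12.pb.aa'
  have hl : E Q w1' x ∈ T Q := E_mem_T Q hQ hdim h12.pb.qa' hpw1'x
  have hl' : E Q w1 x ∈ T Q := E_mem_T Q hQ hdim h12.pb.qa hpw1x
  have hlfix : repE Q ρ (E Q w1' x) y = y := by
    have := (hB1 1).2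
    rwa [one_smul] at this
  have hl'fix : repE Q ρ (E Q w1 x) y = y := by
    have := (hB1 1).1
    rwa [one_smul] at this
  have hlU : ∀ u ∈ U, E Q w1' x u ∈ U :=
    hU_conj _ hl (E_fix_perp Q h12.pb.qa' hpw1'x h02.ab' hx'.1.1)
      (E_fix_perp Q h12.pb.qa' hpw1'x h02.a'b' hx'.1.2)
      (E_fix_perp Q h12.pb.qa' hpw1'x h12.ab' hx'.2.1)
      (E_fix_perp Q h12.pb.qa' hpw1'x h12.a'b' hx'.2.2) hlfix
  have hl'U : ∀ u ∈ U, E Q w1 x u ∈ U :=
    hU_conj _ hl' (E_fix_perp Q h12.pb.qa hpw1x h02.ab hx'.1.1)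
      (E_fix_perp Q h12.pb.qa hpw1x h02.a'b hx'.1.2)
      (E_fix_perp Q h12.pb.qa hpw1x h12.ab hx'.2.1)
      (E_fix_perp Q h12.pb.qa hpw1x h12.a'b hx'.2.2) hl'fix
  have hlw1 : E Q w1' x w1 = w1 + x - Q x • w1' := by
    rw [E_apply Q h12.pb.qa' hpw1'x, h12.pb.aa', hpw1x]
    module
  have hl'x : E Q w1 x x = x - QuadraticMap.polar (⇑Q) x x • w1 := by
    rw [E_apply Q h12.pb.qa hpw1x, fr.xw1]
    module
  have hl'w1' : E Q w1 x w1' = w1' + x - Q x • w1 := by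
    rw [E_apply Q h12.pb.qa hpw1x, hpw1'w1, hpw1'x]
    module
  have hzU : x - Q x • w1' ∈ U := by
    have h1 := U.sub_mem (hlU w1 hw1U) hw1U
    rw [hlw1] at h1
    have h2 : w1 + x - Q x • w1' - w1 = x - Q x • w1' := by abel
    rwa [h2] at h1
  have hxU : x ∈ U := by
    have h1 := hl'U _ hzU
    rw [map_sub, map_smul, hl'x, hl'w1'] at h1
    have h2 := U.sub_mem (U.sub_mem h1 hzU)
      (U.smul_mem (Q x * Q x - QuadraticMap.polar (⇑Q) x x) hw1U)
    have h3 : x - QuadraticMap.polar (⇑Q) x x • w1 - Q x • (w1' + x - Q x • w1) - (x - Q x • w1') -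
        (Q x * Q x - QuadraticMap.polar (⇑Q) x x) • w1 = (-Q x) • x := by
      module
    rw [h3] at h2
    have h4 := U.smul_mem (-Q x)⁻¹ h2
    rwa [smul_smul, inv_mul_cancel₀ (neg_ne_zero.mpr fr.qx), one_smul] at h4
  have hw1'U : w1' ∈ U := by
    have h1 := U.smul_mem (Q x)⁻¹ (U.sub_mem hxU hzU)
    have h2 : (Q x)⁻¹ • (x - (x - Q x • w1')) = w1' := by
      rw [sub_sub_cancel, smul_smul, inv_mul_cancel₀ fr.qx, one_smul]
    rwa [h2] at h1
  have hWU : W1 Q v v' w0 w0' ≤ U := by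
    rw [hspan, Submodule.span_le]
    intro u hu
    simp only [Set.mem_insert_iff, Set.mem_singleton_iff] at hu
    rcases hu with rfl | rfl | rfl
    · exact hw1U
    · exact hw1'U
    · exact hxU
  have hall : ∀ u ∈ W1 Q v v' w0 w0', repE Q ρ (E Q w0' u) y = y := fun u hu => (hWU hu).2
  -- the Levi factor is generated by `E(w0, W_1)` and `E(w0', W_1)`
  have hv : Q v = 0 := h01.pa.qa
  have hv' : Q v' = 0 := h01.pa.qa'
  have hvv' : QuadraticMap.polar (⇑Q) v v' = 1 := h01.pa.aa'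
  have hQw := nondegenerate_perp hQ hv hv' hvv'
  have hdimW : 5 ≤ finrank F ↥(perp Q v v') := by
    have := finrank_perp hv hv' hvv'
    rw [hP.dim] at this
    omega
  obtain ⟨L⟩ := Cfsg.Agent.Lib.Helper73_OP_EXT.exists_leviHom Q hQ hv hv' hvv'
  let w0W : ↥(perp Q v v') := ⟨w0, (h01.mem_perp).1⟩
  let w0'W : ↥(perp Q v v') := ⟨w0', (h01.mem_perp).2⟩
  have hqw0W : Qp Q v v' w0W = 0 := h01.pb.qa
  have hqw0'W : Qp Q v v' w0'W = 0 := h01.pb.qa'
  have hw0w0'W : QuadraticMap.polar (⇑(Qp Q v v')) w0W w0'W = 1 := by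
    rw [polar_comp_subtype]; exact h01.pb.aa'
  have hgen := Cfsg.Agent.Lib.Helper95_OM_GEN.T_le_closure_rad_opp (Qp Q v v') hQw hdimW hqw0W
    hqw0'W hw0w0'W
  refine Submodule.mem_inf.mpr ⟨hyR, ?_⟩
  intro a ha b hb hqa hqb hab
  let H : Subgroup ↥(T (Qp Q v v')) :=
    { carrier := {g | ρ (L.ι g) y = y}
      mul_mem' := by
        intro g k hg hk
        show ρ (L.ι (g * k)) y = y
        rw [map_mul, map_mul, Module.End.mul_apply, hk, hg]
      one_mem' := by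
        show ρ (L.ι 1) y = y
        rw [map_one, map_one]; rfl
      inv_mem' := by
        intro g hg
        show ρ (L.ι g⁻¹) y = y
        have h1 : ρ (L.ι g⁻¹) (ρ (L.ι g) y) = y := by
          rw [← Module.End.mul_apply, ← map_mul, ← map_mul, inv_mul_cancel, map_one, map_one]; rfl
        rw [hg] at h1
        exact h1 }
  have hmemW1 : ∀ w : ↥(perp (Qp Q v v') w0W w0'W), (((w : ↥(perp Q v v')) : V)) ∈
      W1 Q v v' w0 w0' := by
    intro w
    have h1 := (mem_perp (Qp Q v v') w0W w0'W).1 w.2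
    rw [polar_comp_subtype, polar_comp_subtype] at h1
    exact Submodule.mem_inf.mpr ⟨(w : ↥(perp Q v v')).2, (mem_perp Q w0 w0').2 h1⟩
  have hS : Subgroup.closure
      ({g : ↥(perp Q v v') ≃ₗ[F] ↥(perp Q v v') | ∃ w : ↥(perp (Qp Q v v') w0W w0'W),
          g = E (Qp Q v v') w0W (w : ↥(perp Q v v'))} ∪
        {g : ↥(perp Q v v') ≃ₗ[F] ↥(perp Q v v') | ∃ w : ↥(perp (Qp Q v v') w0W w0'W),
          g = E (Qp Q v v') w0'W (w : ↥(perp Q v v'))}) ≤
      H.map (T (Qp Q v v')).subtype := by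
    rw [Subgroup.closure_le]
    rintro g (⟨w, rfl⟩ | ⟨w, rfl⟩)
    · have hw : QuadraticMap.polar (⇑(Qp Q v v')) w0W (w : ↥(perp Q v v')) = 0 :=
        ((mem_perp (Qp Q v v') w0W w0'W).1 w.2).1
      have hmem : E (Qp Q v v') w0W (w : ↥(perp Q v v')) ∈ T (Qp Q v v') :=
        E_mem_T (Qp Q v v') hQw hdimW hqw0W hw
      refine ⟨⟨_, hmem⟩, ?_, rfl⟩
      show ρ (L.ι ⟨_, hmem⟩) y = y
      rw [← repE_coe Q ρ, Cfsg.Agent.Lib.Helper73_OP_EXT.leviHom_E Q hQ hv hv' hvv' L w0W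
        (w : ↥(perp Q v v')) hqw0W hw hmem]
      exact hyR1 _ (hmemW1 w)
    · have hw : QuadraticMap.polar (⇑(Qp Q v v')) w0'W (w : ↥(perp Q v v')) = 0 :=
        ((mem_perp (Qp Q v v') w0W w0'W).1 w.2).2
      have hmem : E (Qp Q v v') w0'W (w : ↥(perp Q v v')) ∈ T (Qp Q v v') :=
        E_mem_T (Qp Q v v') hQw hdimW hqw0'W hw
      refine ⟨⟨_, hmem⟩, ?_, rfl⟩
      show ρ (L.ι ⟨_, hmem⟩) y = y
      rw [← repE_coe Q ρ, Cfsg.Agent.Lib.Helper73_OP_EXT.leviHom_E Q hQ hv hv' hvv' L w0'W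
        (w : ↥(perp Q v v')) hqw0'W hw hmem]
      exact hall _ (hmemW1 w)
  let aW : ↥(perp Q v v') := ⟨a, ha⟩
  let bW : ↥(perp Q v v') := ⟨b, hb⟩
  have habW : QuadraticMap.polar (⇑(Qp Q v v')) aW bW = 0 := by
    rw [polar_comp_subtype]; exact hab
  have hroot : E (Qp Q v v') aW bW ∈ T (Qp Q v v') := root_mem_T (Qp Q v v') hqa hqb habW
  obtain ⟨g, hg, hge⟩ := hS (hgen hroot)
  have hg' : g = ⟨E (Qp Q v v') aW bW, hroot⟩ := Subtype.ext hge
  have hg2 : ρ (L.ι g) y = y := hg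
  rw [hg', ← repE_coe Q ρ, Cfsg.Agent.Lib.Helper73_OP_EXT.leviHom_E Q hQ hv hv' hvv' L aW bW hqa
    habW hroot] at hg2
  exact hg2

/-- `W_1` has dimension `finrank V - 4` -/
theorem finrank_W1 (Q : QuadraticForm F V) {v v' w0 w0' : V} (h : HQuad Q v v' w0 w0') :
    finrank F ↥(W1 Q v v' w0 w0') + 4 = finrank F V := by
  have hv : Q v = 0 := h.pa.qa
  have hv' : Q v' = 0 := h.pa.qa'
  have hvv' : QuadraticMap.polar (⇑Q) v v' = 1 := h.pa.aa'
  let w0W : ↥(perp Q v v') := ⟨w0, (h.mem_perp).1⟩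
  let w0'W : ↥(perp Q v v') := ⟨w0', (h.mem_perp).2⟩
  have hqw0W : Qp Q v v' w0W = 0 := h.pb.qa
  have hqw0'W : Qp Q v v' w0'W = 0 := h.pb.qa'
  have hw0w0'W : QuadraticMap.polar (⇑(Qp Q v v')) w0W w0'W = 1 := by
    rw [polar_comp_subtype]; exact h.pb.aa'
  have h1 := finrank_perp hv hv' hvv'
  have h2 := finrank_perp hqw0W hqw0'W hw0w0'W
  have h3 : W1 Q v v' w0 w0' = (perp (Qp Q v v') w0W w0'W).map (perp Q v v').subtype := by
    ext u
    rw [Submodule.mem_map]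
    constructor
    · intro hu
      obtain ⟨hu1, hu2⟩ := Submodule.mem_inf.mp hu
      refine ⟨⟨u, hu1⟩, ?_, rfl⟩
      rw [mem_perp, polar_comp_subtype, polar_comp_subtype]
      exact (mem_perp Q w0 w0').1 hu2
    · rintro ⟨w, hw, rfl⟩
      rw [mem_perp, polar_comp_subtype, polar_comp_subtype] at hw
      exact Submodule.mem_inf.mpr ⟨w.2, (mem_perp Q w0 w0').2 hw⟩
  have h4 : finrank F ↥(W1 Q v v' w0 w0') = finrank F ↥(perp (Qp Q v v') w0W w0'W) := by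
    rw [h3]
    exact (Submodule.equivSubtypeMap (perp Q v v') (perp (Qp Q v v') w0W w0'W)).symm.finrank_eq
  omega

/-- OO2-BASEL (second half), proved locally: in the base `W_1 = ⟨w1, w1', x⟩` -/
theorem W1_eq_span_loc (Q : QuadraticForm F V) (hP : IsOddT Q 3) {v v' w0 w0' w1 w1' x : V}
    (fr : Frame3 Q v v' w0 w0' w1 w1' x) :
    W1 Q v v' w0 w0' = Submodule.span F {w1, w1', x} := by
  have h01 := fr.h01
  have h02 := fr.h02
  have h12 := fr.h12
  have hmW1 := Cfsg.Agent.Lib.Helper29_OO2_M0.mem_W1 Q v v' w0 w0'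
  have hw1 : w1 ∈ W1 Q v v' w0 w0' := (hmW1 w1).mpr ⟨⟨h02.ab, h02.a'b⟩, h12.ab, h12.a'b⟩
  have hw1' : w1' ∈ W1 Q v v' w0 w0' := (hmW1 w1').mpr ⟨⟨h02.ab', h02.a'b'⟩, h12.ab', h12.a'b'⟩
  have hle : Submodule.span F {w1, w1', x} ≤ W1 Q v v' w0 w0' := by
    rw [Submodule.span_le]
    intro u hu
    simp only [Set.mem_insert_iff, Set.mem_singleton_iff] at hu
    rcases hu with rfl | rfl | rfl
    · exact hw1
    · exact hw1'
    · exact fr.xW1
  have hx0 : x ≠ 0 := by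
    intro h
    apply fr.qx
    rw [h, QuadraticMap.map_zero]
  have hli : LinearIndependent F ![w1, w1', x] := by
    rw [Fintype.linearIndependent_iff]
    intro g hg
    rw [Fin.sum_univ_three] at hg
    simp only [Matrix.cons_val_zero, Matrix.cons_val_one, Matrix.cons_val_two, Matrix.head_cons,
      Matrix.tail_cons] at hg
    have e0 : g 0 = 0 := by
      have := congrArg (fun z => QuadraticMap.polar (⇑Q) z w1') hg
      simp only [QuadraticMap.polar_add_left, QuadraticMap.polar_smul_left, h12.pb.aa',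
        Cfsg.Agent.Lib.Helper42_OO2_FRAME.polar_self_of_zero h12.pb.qa', fr.xw1', smul_eq_mul,
        mul_one, mul_zero, add_zero] at this
      simpa [QuadraticMap.polar] using this
    have e1 : g 1 = 0 := by
      have := congrArg (fun z => QuadraticMap.polar (⇑Q) z w1) hg
      have hw1'w1 : QuadraticMap.polar (⇑Q) w1' w1 = 1 := by
        rw [QuadraticMap.polar_comm]; exact h12.pb.aa'
      simp only [QuadraticMap.polar_add_left, QuadraticMap.polar_smul_left, hw1'w1,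
        Cfsg.Agent.Lib.Helper42_OO2_FRAME.polar_self_of_zero h12.pb.qa, fr.xw1, smul_eq_mul,
        mul_one, mul_zero, add_zero, zero_add] at this
      simpa [QuadraticMap.polar] using this
    have e2 : g 2 = 0 := by
      rw [e0, e1, zero_smul, zero_smul, zero_add, zero_add] at hg
      rcases smul_eq_zero.mp hg with h | h
      · exact h
      · exact absurd h hx0
    intro i
    fin_cases i
    · exact e0
    · exact e1
    · exact e2
  have hrange : Set.range ![w1, w1', x] = {w1, w1', x} := by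
    ext u
    simp only [Set.mem_range, Set.mem_insert_iff, Set.mem_singleton_iff]
    constructor
    · rintro ⟨i, rfl⟩
      fin_cases i
      · left; rfl
      · right; left; rfl
      · right; right; rfl
    · rintro (rfl | rfl | rfl)
      · exact ⟨0, rfl⟩
      · exact ⟨1, rfl⟩
      · exact ⟨2, rfl⟩
  have hfs : finrank F ↥(Submodule.span F {w1, w1', x}) = 3 := by
    rw [← hrange, finrank_span_eq_card hli]
    rfl
  have hfW := finrank_W1 Q h01
  rw [hP.dim] at hfW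
  exact (Submodule.eq_of_le_of_finrank_le hle (by omega)).symm

/-! ## OO2-GEN3B (L): a vector of `F_2` fixed by `n_2` lies in `Y` -/
theorem Y_of_F2_n2 (Q : QuadraticForm F V) (hP : IsOddT Q 3)
    {v v' w0 w0' w1 w1' x : V} (fr : Frame3 Q v v' w0 w0' w1 w1' x)
    (ρ : Representation ℂ ↥(T Q) X) (y : X) (hy : y ∈ F2sp Q ρ v v' w0 w0')
    (hB1 : ∀ s : F, repE Q ρ (E Q w1 (s • x)) y = y ∧ repE Q ρ (E Q w1' (s • x)) y = y)
    (hn : repE Q ρ (nw Q w0 w0' w1 w1' 1) y = y)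
    (he : ∀ a : F, a ≠ 0 → ∃ c : ℂ, repE Q ρ (hh Q v v' w0 w0' a) y = c • y) :
    y ∈ Ysp Q ρ v v' :=
  Y_of_F2_n2_aux Q hP fr (W1_eq_span_loc Q hP fr) ρ y hy hB1 hn he

end Cfsg.Agent.Lib.Helper64_OO2_GEN3B
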