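/-
S2344 (cutter helper87), WAVE 3, package OO2-M2 (holder helper96; helper64 second seat on the last two
statements): `M2_fix` and `M2_line` from `M2_fix_x`.
-/
import Mathlib
import Cfsg.Agent.Lib.Helper95_OPDefs
import Cfsg.Agent.Lib.Helper95_OPBasic
import Cfsg.Agent.Lib.Helper48_OODefs
import Cfsg.Agent.Lib.Helper87_OO2Defs
import Cfsg.Agent.Lib.Helper87_OO2Defs2
import Cfsg.Agent.Lib.Helper87_OO2Defs3
import Cfsg.Agent.Lib.Helper29_OO2_M0
import Cfsg.Agent.Lib.Helper43_OO2_WSP2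
import Cfsg.Agent.Lib.Helper64_OO2_GEN3B

set_option autoImplicit false
set_option linter.unusedSectionVars false

namespace Cfsg.Agent.Lib.Helper64_OO2_M2b

open Module Cfsg.Agent.Lib.Helper94_OrthSmall Cfsg.Agent.Lib.Helper44_QuadClass
  Cfsg.Agent.Lib.Helper14_OmegaSimple Cfsg.Agent.Lib.Helper38_MIODefs
  Cfsg.Agent.Lib.Helper95_OPDefs Cfsg.Agent.Lib.Helper95_OPBasic Cfsg.Agent.Lib.Helper48_OODefs
  Cfsg.Agent.Lib.Helper87_OO2Defs

variable {F V : Type*} [Field F] [Fintype F] [AddCommGroup V] [Module F V] [FiniteDimensional F V]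
  {X : Type*} [AddCommGroup X] [Module ℂ X] [FiniteDimensional ℂ X]

/-- the action of `E(w0, a w1 + b w1' + c x)` on a vector, factor by factor -/
theorem repE_w0_decomp (Q : QuadraticForm F V) (hQ : (QuadraticMap.polarBilin Q).Nondegenerate)
    (hdim : 5 ≤ finrank F V) {v v' w0 w0' w1 w1' x : V} (fr : Frame3 Q v v' w0 w0' w1 w1' x)
    (ρ : Representation ℂ ↥(T Q) X) (a b c : F) (m : X) :
    repE Q ρ (E Q w0 (a • w1 + b • w1' + c • x)) m =
      repE Q ρ (E Q w0 (a • w1)) (repE Q ρ (E Q w0 (b • w1')) (repE Q ρ (E Q w0 (c • x)) m)) := by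
  have h12 := fr.h12
  have hq0 : Q w0 = 0 := h12.pa.qa
  have hx' := (Cfsg.Agent.Lib.Helper29_OO2_M0.mem_W1 Q v v' w0 w0' x).mp fr.xW1
  have p1 : QuadraticMap.polar (⇑Q) w0 (a • w1) = 0 := by
    rw [QuadraticMap.polar_smul_right, h12.ab, smul_zero]
  have p2 : QuadraticMap.polar (⇑Q) w0 (b • w1') = 0 := by
    rw [QuadraticMap.polar_smul_right, h12.ab', smul_zero]
  have p3 : QuadraticMap.polar (⇑Q) w0 (c • x) = 0 := by
    rw [QuadraticMap.polar_smul_right, hx'.2.1, smul_zero]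
  have p12 : QuadraticMap.polar (⇑Q) w0 (a • w1 + b • w1') = 0 := by
    rw [QuadraticMap.polar_add_right, p1, p2, add_zero]
  have m1 := E_mem_T Q hQ hdim hq0 p1
  have m2 := E_mem_T Q hQ hdim hq0 p2
  have m3 := E_mem_T Q hQ hdim hq0 p3
  have m12 := E_mem_T Q hQ hdim hq0 p12
  rw [← E_mul Q hq0 p12 p3, ← E_mul Q hq0 p1 p2, repE_mul Q ρ (Subgroup.mul_mem _ m1 m2) m3,
    repE_mul Q ρ m1 m2, Module.End.mul_apply, Module.End.mul_apply]

/-- OO2-M2, `M2_fix`, with the conclusion of `M2_fix_x` for `m` as a hypothesis -/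
theorem M2_fix_of (Q : QuadraticForm F V) (hP : IsOddT Q 3)
    {v v' w0 w0' w1 w1' x : V} (fr : Frame3 Q v v' w0 w0' w1 w1' x)
    (ρ : Representation ℂ ↥(T Q) X) (m : X) (hm : m ∈ M2sp Q ρ v v' w0 w1)
    (hx : ∀ s : F, repE Q ρ (E Q w0 (s • x)) m = m)
    (hfix : ∀ s : F, repE Q ρ (xr Q w0 w1' s) m = m) : m ∈ F2sp Q ρ v v' w0 w0' := by
  have hQ := hP.nondeg
  have hdim : 5 ≤ finrank F V := by rw [hP.dim]; norm_num
  obtain ⟨hm1, hm2⟩ := Submodule.mem_inf.mp hm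
  refine Submodule.mem_inf.mpr ⟨hm1, ?_⟩
  intro w hw
  rw [Cfsg.Agent.Lib.Helper64_OO2_GEN3B.W1_eq_span_loc Q hP fr] at hw
  obtain ⟨a, b, c, rfl⟩ := Submodule.mem_span_triple.1 hw
  rw [repE_w0_decomp Q hQ hdim fr ρ a b c m, hx c]
  have h2 := hfix b
  unfold xr at h2
  rw [h2]
  exact hm2 (a • w1) (Submodule.smul_mem _ a (Submodule.mem_span_singleton_self w1))

/-- OO2-M2, `M2_line`, with the conclusions of `M2_fix_x` for `m`, `m'` as hypotheses -/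
theorem M2_line_of (Q : QuadraticForm F V) (hq : 4 ≤ Fintype.card F) (hP : IsOddT Q 3)
    {v v' w0 w0' w1 w1' x : V} (fr : Frame3 Q v v' w0 w0' w1 w1' x)
    [DecidableEq ↥(perp Q v v')] (ρ : Representation ℂ ↥(T Q) X) (ψ : AddChar F ℂ) (hψ : ψ ≠ 1)
    (hint : DirectSum.IsInternal (fun u : ↥(perp Q v v') => wsp Q ρ ψ v v' u))
    (f : ℕ) (hW : WData Q ρ ψ v v' 1 f) (c : F) (hc : c ≠ 0) (m m' : X)
    (hm : m ∈ M2sp Q ρ v v' w0 w1) (hm' : m' ∈ M2sp Q ρ v v' w0 w1)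
    (hx : ∀ s : F, repE Q ρ (E Q w0 (s • x)) m = m)
    (hx' : ∀ s : F, repE Q ρ (E Q w0 (s • x)) m' = m')
    (he : ∀ s : F, repE Q ρ (xr Q w0 w1' s) m = ψ (c * s) • m)
    (he' : ∀ s : F, repE Q ρ (xr Q w0 w1' s) m' = ψ (c * s) • m') (hm'0 : m' ≠ 0) :
    ∃ a : ℂ, m = a • m' := by
  have hQ := hP.nondeg
  have hdim : 5 ≤ finrank F V := by rw [hP.dim]; norm_num
  have h12 := fr.h12
  have h02 := fr.h02
  have hw1 : w1 ∈ W1 Q v v' w0 w0' :=
    (Cfsg.Agent.Lib.Helper29_OO2_M0.mem_W1 Q v v' w0 w0' w1).mpr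
      ⟨⟨h02.ab, h02.a'b⟩, h12.ab, h12.a'b⟩
  have hw10 : w1 ≠ 0 := by
    intro h
    have := h12.pb.aa'
    rw [h] at this
    simp [QuadraticMap.polar] at this
  -- both vectors lie in the level-2 weight space of `c • w1`
  have key : ∀ n : X, n ∈ M2sp Q ρ v v' w0 w1 → (∀ s : F, repE Q ρ (E Q w0 (s • x)) n = n) →
      (∀ s : F, repE Q ρ (xr Q w0 w1' s) n = ψ (c * s) • n) →
      n ∈ wsp2 Q ρ ψ v v' w0 w0' (c • w1) := by
    intro n hn hnx hne
    obtain ⟨hn1, hn2⟩ := Submodule.mem_inf.mp hn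
    refine Submodule.mem_inf.mpr ⟨hn1, ?_⟩
    intro w hw
    rw [Cfsg.Agent.Lib.Helper64_OO2_GEN3B.W1_eq_span_loc Q hP fr] at hw
    obtain ⟨a, b, d, rfl⟩ := Submodule.mem_span_triple.1 hw
    rw [repE_w0_decomp Q hQ hdim fr ρ a b d n, hnx d]
    have h2 := hne b
    unfold xr at h2
    rw [h2, map_smul,
      hn2 (a • w1) (Submodule.smul_mem _ a (Submodule.mem_span_singleton_self w1))]
    congr 2
    rw [QuadraticMap.polar_smul_left, QuadraticMap.polar_add_right, QuadraticMap.polar_add_right,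
      QuadraticMap.polar_smul_right, QuadraticMap.polar_smul_right, QuadraticMap.polar_smul_right,
      Cfsg.Agent.Lib.Helper42_OO2_FRAME.polar_self_of_zero h12.pb.qa, h12.pb.aa',
      QuadraticMap.polar_comm (⇑Q) w1 x, fr.xw1]
    simp
  have hmw := key m hm hx he
  have hm'w := key m' hm' hx' he'
  have hfr := Cfsg.Agent.Lib.Helper43_OO2_WSP2.finrank_wsp2 Q 3 (le_refl 3) hq hP fr.h01 ρ ψ hψ hint
    f hW (c • w1) (Submodule.smul_mem _ c hw1) (smul_ne_zero hc hw10)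
    (by rw [QuadraticMap.map_smul, h12.pb.qa, smul_zero])
  have hne : (⟨m', hm'w⟩ : ↥(wsp2 Q ρ ψ v v' w0 w0' (c • w1))) ≠ 0 := by
    intro h
    exact hm'0 (congrArg Subtype.val h)
  obtain ⟨a, ha⟩ := (finrank_eq_one_iff_of_nonzero' _ hne).mp hfr ⟨m, hmw⟩
  exact ⟨a, (congrArg Subtype.val ha).symm⟩

end Cfsg.Agent.Lib.Helper64_OO2_M2b
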