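import Mathlib
import Cfsg.Prelude.Def_Blocks
import Cfsg.Agent.Lib.Helper78_RCDefs
import Cfsg.Agent.Lib.Helper78_LocalRing
import Cfsg.Agent.Lib.Helper78_CentralChar
import Cfsg.Agent.Lib.Helper75_LinChar

/-!
# S4937 package RC-CLS (architect helper78): from the relative central character to the principal
block, for `G` and for every subgroup `J ≥ N`.
-/

set_option autoImplicit false

namespace Cfsg.Agent.Lib.Helper64_RC_CLS

open Cfsg Cfsg.Agent.Lib.Helper78_RCDefs Cfsg.Agent.Lib.Helper78_LocalRing
open Cfsg.Agent.Lib.Helper75_LinChar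

universe u

variable {p : ℕ} {M : Ideal AlgInt}

theorem card_mul_relIndex_of_le' {G : Type*} [Group G] (H K : Subgroup G) (h : H ≤ K) :
    Nat.card H * H.relIndex K = Nat.card K := by
  rw [← Subgroup.relIndex_bot_left, ← Subgroup.relIndex_bot_left,
    Subgroup.relIndex_mul_relIndex _ _ _ bot_le h]

/-- `|AN : A| = |N : A ∩ N|` for `N` normal, in a finite group -/
theorem relIndex_sup_self {G : Type*} [Group G] [Finite G] (A N : Subgroup G) [N.Normal] :
    A.relIndex (A ⊔ N) = A.relIndex N := by
  have h1 : N.relIndex (A ⊔ N) = N.relIndex A := Subgroup.relIndex_sup_right A N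
  have h2 := card_mul_relIndex_of_le' N (A ⊔ N) le_sup_right
  have h3 := card_mul_relIndex_of_le' (N ⊓ A) A inf_le_right
  rw [Subgroup.inf_relIndex_right] at h3
  have h4 := card_mul_relIndex_of_le' A (A ⊔ N) le_sup_left
  have h5 := card_mul_relIndex_of_le' (A ⊓ N) N inf_le_right
  rw [Subgroup.inf_relIndex_right] at h5
  rw [inf_comm] at h3
  rw [h1] at h2
  have ha : 0 < Nat.card A := Nat.card_pos
  -- `a y = s = n x = i z x = z a`
  have : Nat.card A * A.relIndex (A ⊔ N) = Nat.card A * A.relIndex N := by
    rw [h4, ← h2, ← h5, ← h3]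
    ring
  exact Nat.eq_of_mul_eq_mul_left ha this

/-- the index identity `|G : C_G(g)| = |G : N C_G(g)| |N : C_N(g)|` -/
theorem index_centralizer_eq {G : Type*} [Group G] [Finite G] (N : Subgroup G) [N.Normal] (g : G) :
    (Subgroup.centralizer ({g} : Set G)).index =
      (Subgroup.centralizer ({g} : Set G) ⊔ N).index * relIdx N g := by
  have h := Subgroup.relIndex_mul_index
    (le_sup_left : Subgroup.centralizer ({g} : Set G) ≤ Subgroup.centralizer ({g} : Set G) ⊔ N)
  rw [relIndex_sup_self] at h
  rw [← h, mul_comm]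
  rfl

theorem sameBlock_of_relOmega {G : Type u} [Group G] [Finite G] (hM : M.IsPrime) (N : Subgroup G)
    [N.Normal] (χ : G → ℂ)
    (h : ∀ g : G, MemLocalIdeal M (relOmega N χ g - (relIdx N g : ℂ))) :
    SameBlock M (fun _ : G => (1 : ℂ)) χ := by
  intro g
  have hid := index_centralizer_eq N g
  have e : centralChar (fun _ : G => (1 : ℂ)) g - centralChar χ g =
      (((Subgroup.centralizer ({g} : Set G) ⊔ N).index : ℕ) : ℂ) *
        (-(relOmega N χ g - (relIdx N g : ℂ))) := by
    unfold centralChar relOmega
    rw [hid]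
    push_cast
    ring
  rw [e]
  exact memLocalIdeal_mul_left hM (memLocalRing_natCast hM _) (memLocalIdeal_neg (h g))

/-- the relative index computed inside a subgroup `J ≥ N` -/
theorem relIdx_subgroupOf {G : Type*} [Group G] (N J : Subgroup G) (hNJ : N ≤ J) (y : J) :
    relIdx (N.subgroupOf J) y = relIdx N (y : G) := by
  have hc : Subgroup.centralizer ({y} : Set J) =
      (Subgroup.centralizer ({(y : G)} : Set G)).subgroupOf J := by
    ext z
    rw [Subgroup.mem_subgroupOf, Subgroup.mem_centralizer_iff, Subgroup.mem_centralizer_iff]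
    constructor
    · intro hz w hw
      rw [Set.mem_singleton_iff] at hw
      rw [hw]
      have := hz y rfl
      exact_mod_cast congrArg Subtype.val this
    · intro hz w hw
      rw [Set.mem_singleton_iff] at hw
      rw [hw]
      apply Subtype.ext
      have := hz (y : G) rfl
      simpa using this
  show (Subgroup.centralizer ({y} : Set J)).relIndex (N.subgroupOf J) =
    (Subgroup.centralizer ({(y : G)} : Set G)).relIndex N
  rw [hc, Subgroup.relIndex_subgroupOf hNJ]

theorem sameBlock_res_of_relOmega {G : Type u} [Group G] [Finite G] (hM : M.IsPrime)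
    (N : Subgroup G) [N.Normal] (χ : G → ℂ)
    (h : ∀ g : G, MemLocalIdeal M (relOmega N χ g - (relIdx N g : ℂ)))
    (J : Subgroup G) (hNJ : N ≤ J) :
    SameBlock M (fun _ : J => (1 : ℂ)) (fun y : J => χ y) := by
  have : (N.subgroupOf J).Normal := Subgroup.normal_subgroupOf
  apply sameBlock_of_relOmega hM (N.subgroupOf J) (fun y : J => χ y)
  intro y
  have h1 := h (y : G)
  have e : relOmega (N.subgroupOf J) (fun y : J => χ y) y = relOmega N χ (y : G) := by
    unfold relOmega
    rw [relIdx_subgroupOf N J hNJ y]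
    rfl
  rw [e, relIdx_subgroupOf N J hNJ y]
  exact h1

end Cfsg.Agent.Lib.Helper64_RC_CLS
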