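import Mathlib
import Cfsg.Prelude.Def_Blocks
import Cfsg.Agent.Lib.Helper78_RCDefs
import Cfsg.Agent.Lib.Helper78_LocalRing
import Cfsg.Agent.Lib.Helper78_CentralChar
import Cfsg.Agent.Lib.Helper75_LinChar

/-!
# S4937 package RC-GRP1 (architect helper78): every coset of `N` contains an element `c` with
`p ∤ |N : C_N(c)|`.
-/

set_option autoImplicit false

namespace Cfsg.Agent.Lib.Helper64_RC_GRP1

open Cfsg Cfsg.Agent.Lib.Helper78_RCDefs Cfsg.Agent.Lib.Helper78_LocalRing
open Cfsg.Agent.Lib.Helper75_LinChar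

universe u

variable {p : ℕ} {M : Ideal AlgInt}

theorem exists_good_rep {G : Type u} [Group G] [Finite G] [Fact p.Prime] (N : Subgroup G)
    [N.Normal] (P : Sylow p N)
    (hcov : N ⊔ Subgroup.centralizer (((P : Subgroup N).map N.subtype : Subgroup G) : Set G) = ⊤)
    (g : G) : ∃ c : G, g⁻¹ * c ∈ N ∧ ¬ p ∣ relIdx N c := by
  have hg : g ∈ N ⊔ Subgroup.centralizer (((P : Subgroup N).map N.subtype : Subgroup G) : Set G) := by
    rw [hcov]; exact Subgroup.mem_top g
  obtain ⟨n, hn, c, hc, rfl⟩ := Subgroup.mem_sup_of_normal_left.1 hg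
  refine ⟨c, ?_, ?_⟩
  · have h1 : (n * c)⁻¹ * c = c⁻¹ * n⁻¹ * c⁻¹⁻¹ := by group
    rw [h1]
    exact ‹N.Normal›.conj_mem _ (N.inv_mem hn) _
  · have hle : (P : Subgroup N) ≤ (Subgroup.centralizer ({c} : Set G)).subgroupOf N := by
      intro x hx
      rw [Subgroup.mem_subgroupOf, Subgroup.mem_centralizer_iff]
      intro z hz
      rw [Set.mem_singleton_iff] at hz
      rw [hz]
      have hxm : (x : G) ∈ ((P : Subgroup N).map N.subtype : Subgroup G) := ⟨x, hx, rfl⟩
      exact ((Subgroup.mem_centralizer_iff.1 hc) (x : G) hxm).symm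
    have hdvd : relIdx N c ∣ (P : Subgroup N).index := Subgroup.index_dvd_of_le hle
    intro hp
    exact P.not_dvd_index (hp.trans hdvd)

end Cfsg.Agent.Lib.Helper64_RC_GRP1
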