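import Mathlib
import Cfsg.Agent.Lib.Helper27_UQDefs
import Cfsg.Agent.Lib.Helper94_HermWitt

/-!
# S2151-RCONF (helper68's S2151 market): three mutually orthogonal hyperbolic pairs and a nonzero
vector orthogonal to all of them, in a nondegenerate hermitian space of dimension `≥ 7`.  helper64.
-/

set_option autoImplicit false

open Module Cfsg.Agent.Lib.Helper94_Symp Cfsg.Agent.Lib.Helper94_Herm
  Cfsg.Agent.Lib.Helper94_HermEich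
  Cfsg.Agent.Lib.Helper13_SUGen Cfsg.Agent.Lib.Helper13_PSUSimple Cfsg.Agent.Lib.Helper14_PSULocal1
  Cfsg.Agent.Lib.Helper27_UQDefs

namespace Cfsg.Agent.Lib.Helper64_S2151_RCONF

variable {F V : Type*} [Field F] [AddCommGroup V] [Module F V] {σ : F →+* F}
variable {B : V →ₗ[F] V →ₛₗ[σ] F}

/-- one step: a hyperbolic pair inside a nondegenerate subspace of dimension `≥ 2`, and its
orthogonal complement inside that subspace -/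
theorem step [Finite F] [FiniteDimensional F V] (hσ : Invol σ) (hB : IsHerm B)
    {U : Submodule F V} (hU : NondegOn B U) {d : ℕ} (hd : d + 2 ≤ finrank F U) :
    ∃ e ∈ U, ∃ f ∈ U, HypPair B e f ∧ NondegOn B (U ⊓ orthV B e ⊓ orthV B f) ∧
      d ≤ finrank F (U ⊓ orthV B e ⊓ orthV B f : Submodule F V) := by
  have h2 : 2 ≤ finrank F U := by omega
  obtain ⟨e, heU, f, hfU, he, hf, hef⟩ := Cfsg.Agent.Lib.Helper94_HermIrr.exists_pair hσ hB hU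
    (Cfsg.Agent.Lib.Helper94_HermWitt.exists_notMem_span1 h2)
  refine ⟨e, heU, f, hfU, hypPair_mk hB he hf hef, nondegOn_pair hB hU heU hfU he hf hef, ?_⟩
  have h3 := Cfsg.Agent.Lib.Helper94_HermWitt.finrank_le_inf_orthV_add_one (B := B) U e
  have h4 := Cfsg.Agent.Lib.Helper94_HermWitt.finrank_le_inf_orthV_add_one (B := B)
    (U ⊓ orthV B e) f
  omega

theorem RCONF [Finite F] [FiniteDimensional F V] (hσ : Invol σ) (hB : IsHerm B) (hN : NondegOn B ⊤)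
    (h7 : 7 ≤ finrank F V) :
    ∃ e1 f1 e2 f2 e3 f3 x0 : V, HypPair B e1 f1 ∧ HypPair B e2 f2 ∧ HypPair B e3 f3 ∧
      e2 ∈ Wsub B e1 f1 ∧ f2 ∈ Wsub B e1 f1 ∧ e3 ∈ Wsub B e1 f1 ∧ f3 ∈ Wsub B e1 f1 ∧
      e3 ∈ Wsub B e2 f2 ∧ f3 ∈ Wsub B e2 f2 ∧
      x0 ∈ Wsub B e1 f1 ∧ x0 ∈ Wsub B e2 f2 ∧ x0 ∈ Wsub B e3 f3 ∧ x0 ≠ 0 := by
  have htop : (5 : ℕ) + 2 ≤ finrank F (⊤ : Submodule F V) := by
    rw [finrank_top]
    omega
  obtain ⟨e1, -, f1, -, h1, hU1, hd1⟩ := step hσ hB hN htop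
  obtain ⟨e2, he2, f2, hf2, h2, hU2, hd2⟩ := step hσ hB hU1 (d := 3) hd1
  obtain ⟨e3, he3, f3, hf3, h3, hU3, hd3⟩ := step hσ hB hU2 (d := 1) hd2
  obtain ⟨x0, hx0, hx00⟩ := Cfsg.Agent.Lib.Helper94_HermWitt.exists_ne_zero_of_finrank_pos hd3
  -- unpack memberships
  have mem1 : ∀ x, x ∈ (⊤ ⊓ orthV B e1 ⊓ orthV B f1 : Submodule F V) → x ∈ Wsub B e1 f1 := by
    intro x hx
    exact ⟨mem_orthV.mp hx.1.2, mem_orthV.mp hx.2⟩
  have mem2 : ∀ x, x ∈ (⊤ ⊓ orthV B e1 ⊓ orthV B f1 ⊓ orthV B e2 ⊓ orthV B f2 : Submodule F V) →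
      x ∈ Wsub B e1 f1 ∧ x ∈ Wsub B e2 f2 := by
    intro x hx
    exact ⟨mem1 x hx.1.1, ⟨mem_orthV.mp hx.1.2, mem_orthV.mp hx.2⟩⟩
  refine ⟨e1, f1, e2, f2, e3, f3, x0, h1, h2, h3, mem1 e2 he2, mem1 f2 hf2, (mem2 e3 he3).1,
    (mem2 f3 hf3).1, (mem2 e3 he3).2, (mem2 f3 hf3).2, (mem2 x0 hx0.1.1).1, (mem2 x0 hx0.1.1).2,
    ⟨mem_orthV.mp hx0.1.2, mem_orthV.mp hx0.2⟩, hx00⟩

end Cfsg.Agent.Lib.Helper64_S2151_RCONF
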