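import Mathlib

/-!
# S2647-TRANSN (helper76's S2647 market): self-normalizing Sylow subgroups transfer along an
isomorphism and Sylow conjugacy.  helper64.
-/

set_option autoImplicit false

namespace Cfsg.Agent.Lib.Helper64_S2647_TRANSN

theorem transn {G H : Type*} [Group G] [Group H] [Finite G] (p : ℕ) [Fact p.Prime] (e : G ≃* H)
    (S₀ : Sylow p H) (hN : ∀ n : H, (∀ s ∈ S₀, n * s * n⁻¹ ∈ S₀) → n ∈ S₀) (S : Sylow p G) :
    ∀ n : G, (∀ s ∈ S, n * s * n⁻¹ ∈ S) → n ∈ S := by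
  -- the Sylow subgroup `S₁ = e⁻¹ S₀` of `G`
  have hrange : (S₀ : Subgroup H) ≤ e.toMonoidHom.range := by
    intro x _
    exact ⟨e.symm x, by simp⟩
  obtain ⟨S₁, hS₁c⟩ : ∃ S₁ : Sylow p G,
      (S₁ : Subgroup G) = (S₀ : Subgroup H).comap e.toMonoidHom :=
    ⟨S₀.comapOfInjective e.toMonoidHom e.injective hrange, Sylow.coe_comapOfInjective _ _ _ _⟩
  have hS₁ : ∀ x : G, x ∈ S₁ ↔ e x ∈ S₀ := by
    intro x
    have h1 : x ∈ S₁ ↔ x ∈ (S₁ : Subgroup G) := Iff.rfl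
    rw [h1, hS₁c, Subgroup.mem_comap]
    rfl
  obtain ⟨g, hg⟩ := MulAction.exists_smul_eq G S₁ S
  have hS : ∀ x : G, x ∈ S ↔ e (g⁻¹ * x * g) ∈ S₀ := by
    intro x
    rw [← hg, ← hS₁]
    have h1 : x ∈ (g • S₁ : Sylow p G) ↔ x ∈ ((g • S₁ : Sylow p G) : Subgroup G) := Iff.rfl
    have h2 : g⁻¹ * x * g ∈ S₁ ↔ g⁻¹ * x * g ∈ (S₁ : Subgroup G) := Iff.rfl
    rw [h1, h2, Sylow.coe_subgroup_smul, Subgroup.mem_pointwise_smul_iff_inv_smul_mem]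
    simp [MulAut.smul_def]
  intro n hn
  rw [hS]
  apply hN
  intro s hs
  -- `s = e s'` with `g s' g⁻¹ ∈ S`
  have h1 : g * e.symm s * g⁻¹ ∈ S := by
    rw [hS]
    have : g⁻¹ * (g * e.symm s * g⁻¹) * g = e.symm s := by group
    rw [this, MulEquiv.apply_symm_apply]
    exact hs
  have h2 := hn _ h1
  rw [hS] at h2
  have h3 : e (g⁻¹ * (n * (g * e.symm s * g⁻¹) * n⁻¹) * g) =
      e (g⁻¹ * n * g) * s * (e (g⁻¹ * n * g))⁻¹ := by
    rw [← map_inv, ← e.apply_symm_apply s, ← map_mul, ← map_mul, e.symm_apply_apply]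
    congr 1
    group
  rw [h3] at h2
  exact h2

end Cfsg.Agent.Lib.Helper64_S2647_TRANSN
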