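import Mathlib

/-!
# S2647-UNIQ (helper76's S2647 market): uniqueness of an abelian subgroup of order 64 in a group
`E : D₈`-like of order 512 (centraliser-size hypotheses).  helper64.

Inside `↥S`: `r = [A : A ∩ E]` satisfies `r * |A ∩ E| = 64` and `r * [S : A E] = 8`.  If `A ≠ E`:
`|A ∩ E| ≤ 16`, so `r ≥ 4`, so `r ≠ 2` and two elements of `A` lie in different nontrivial cosets of
`E`; then `|A ∩ E| ≤ 8`, `r = 8`, `A E = S` and `S / E` is abelian: contradiction.
-/

set_option autoImplicit false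

namespace Cfsg.Agent.Lib.Helper64_S2647_UNIQ

theorem uniq {K : Type*} [Group K] (E S : Subgroup K) (hES : E ≤ S)
    (hEn : ∀ s ∈ S, ∀ e ∈ E, s * e * s⁻¹ ∈ E)
    (hE : Nat.card E = 64) (hS : Nat.card S = 512)
    (hnab : ∃ x ∈ S, ∃ y ∈ S, x * y * x⁻¹ * y⁻¹ ∉ E)
    (h1 : ∀ x ∈ S, x ∉ E → Nat.card {e : K // e ∈ E ∧ x * e = e * x} ≤ 16)
    (h2 : ∀ x ∈ S, ∀ y ∈ S, x ∉ E → y ∉ E → x * y⁻¹ ∉ E →
      Nat.card {e : K // e ∈ E ∧ x * e = e * x ∧ y * e = e * y} ≤ 8)
    (A : Subgroup K) (hAS : A ≤ S) (hAab : ∀ a ∈ A, ∀ b ∈ A, a * b = b * a)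
    (hA : Nat.card A = 64) : A = E := by
  classical
  have hEfin : Finite E := Nat.finite_of_card_ne_zero (by rw [hE]; norm_num)
  have hSfin : Finite S := Nat.finite_of_card_ne_zero (by rw [hS]; norm_num)
  have hAfin : Finite A := Nat.finite_of_card_ne_zero (by rw [hA]; norm_num)
  by_contra hne
  -- an element of `A` outside `E`
  obtain ⟨x, hxA, hxE⟩ : ∃ x ∈ A, x ∉ E := by
    by_contra hcon
    push Not at hcon
    apply hne
    have hle : A ≤ E := hcon
    exact Subgroup.eq_of_le_of_card_ge hle (by rw [hA, hE])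
  -- work inside `↥S`
  let A' : Subgroup ↥S := A.subgroupOf S
  let E' : Subgroup ↥S := E.subgroupOf S
  have hE'n : E'.Normal := by
    constructor
    intro e he s
    rw [Subgroup.mem_subgroupOf] at he ⊢
    exact hEn s.1 s.2 e.1 he
  have hA'card : Nat.card A' = 64 := by
    rw [Nat.card_congr (Subgroup.subgroupOfEquivOfLe hAS).toEquiv, hA]
  have hE'card : Nat.card E' = 64 := by
    rw [Nat.card_congr (Subgroup.subgroupOfEquivOfLe hES).toEquiv, hE]
  have hA'fin : Finite A' := Nat.finite_of_card_ne_zero (by rw [hA'card]; norm_num)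
  -- the subgroup `B = A ∩ E` of `A'` and its index `r`
  let B : Subgroup ↥A' := E'.subgroupOf A'
  have hBcard : B.index * Nat.card B = 64 := by
    rw [Subgroup.index_mul_card, hA'card]
  have hidx : E'.index = 8 := by
    have h3 := Subgroup.index_mul_card E'
    rw [hE'card, hS] at h3
    omega
  have hrel : B.index * (A' ⊔ E').index = 8 := by
    have h3 := Subgroup.relIndex_mul_index (le_sup_right : E' ≤ A' ⊔ E')
    rw [Subgroup.relIndex_sup_right, hidx] at h3
    exact h3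
  -- membership in `B`
  have hBmem : ∀ b : ↥A', b ∈ B ↔ ((b : ↥S) : K) ∈ E := fun b => Iff.rfl
  have hA'mem : ∀ b : ↥A', ((b : ↥S) : K) ∈ A := fun b => b.2
  -- `B` embeds into centralisers
  have hB16 : Nat.card B ≤ 16 := by
    refine le_trans ?_ (h1 x (hAS hxA) hxE)
    have hfin : Finite {e : K // e ∈ E ∧ x * e = e * x} :=
      Finite.of_injective (fun e => (⟨e.1, e.2.1⟩ : E)) (by
        intro a b hab
        apply Subtype.ext
        exact congrArg (fun t : E => (t : K)) hab)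
    apply Nat.card_le_card_of_injective
      (fun b : B => (⟨((b : ↥A') : ↥S), (hBmem b.1).mp b.2,
        hAab x hxA _ (hA'mem b.1)⟩ : {e : K // e ∈ E ∧ x * e = e * x}))
    intro a b hab
    apply Subtype.ext
    apply Subtype.ext
    apply Subtype.ext
    exact congrArg (fun t : {e : K // e ∈ E ∧ x * e = e * x} => (t : K)) hab
  have hr4 : 4 ≤ B.index := by
    by_contra hlt
    push Not at hlt
    have : B.index * Nat.card B ≤ 3 * 16 := Nat.mul_le_mul (by omega) hB16
    omega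
  -- a second element in a different nontrivial coset
  obtain ⟨y, hyA, hyE, hxyE⟩ : ∃ y ∈ A, y ∉ E ∧ x * y⁻¹ ∉ E := by
    by_contra hcon
    push Not at hcon
    have h2' : B.index = 2 := by
      rw [Subgroup.index_eq_two_iff]
      refine ⟨⟨⟨x⁻¹, S.inv_mem (hAS hxA)⟩, A.inv_mem hxA⟩, ?_⟩
      intro b
      by_cases hb : b ∈ B
      · refine Or.inr ⟨hb, ?_⟩
        intro hbx
        apply hxE
        have h3 : ((b : ↥S) : K) * x⁻¹ ∈ E := hbx
        have h4 : ((b : ↥S) : K) ∈ E := hb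
        have h5 : x⁻¹ ∈ E := by
          have := E.mul_mem (E.inv_mem h4) h3
          rwa [inv_mul_cancel_left] at this
        exact (E.inv_mem_iff).mp h5
      · refine Or.inl ⟨?_, hb⟩
        have h3 : ((b : ↥S) : K) ∉ E := hb
        have h4 := hcon _ (hA'mem b) h3
        show ((b : ↥S) : K) * x⁻¹ ∈ E
        have h5 := E.inv_mem h4
        rwa [mul_inv_rev, inv_inv] at h5
    omega
  have hB8 : Nat.card B ≤ 8 := by
    refine le_trans ?_ (h2 x (hAS hxA) y (hAS hyA) hxE hyE hxyE)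
    have hfin : Finite {e : K // e ∈ E ∧ x * e = e * x ∧ y * e = e * y} :=
      Finite.of_injective (fun e => (⟨e.1, e.2.1⟩ : E)) (by
        intro a b hab
        apply Subtype.ext
        exact congrArg (fun t : E => (t : K)) hab)
    apply Nat.card_le_card_of_injective
      (fun b : B => (⟨((b : ↥A') : ↥S), (hBmem b.1).mp b.2,
        hAab x hxA _ (hA'mem b.1), hAab y hyA _ (hA'mem b.1)⟩ :
          {e : K // e ∈ E ∧ x * e = e * x ∧ y * e = e * y}))
    intro a b hab
    apply Subtype.ext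
    apply Subtype.ext
    apply Subtype.ext
    exact congrArg (fun t : {e : K // e ∈ E ∧ x * e = e * x ∧ y * e = e * y} => (t : K)) hab
  have hr8 : 8 ≤ B.index := by
    by_contra hlt
    push Not at hlt
    have : B.index * Nat.card B ≤ 7 * 8 := Nat.mul_le_mul (by omega) hB8
    omega
  have htop : A' ⊔ E' = ⊤ := by
    rw [← Subgroup.index_eq_one]
    have hpos : 0 < (A' ⊔ E').index := by
      rcases Nat.eq_zero_or_pos (A' ⊔ E').index with h0 | h0
      · rw [h0, mul_zero] at hrel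
        omega
      · exact h0
    nlinarith
  -- `S / E` is abelian
  obtain ⟨x₁, hx₁, y₁, hy₁, hcomm⟩ := hnab
  apply hcomm
  have hdecomp : ∀ s : ↥S, ∃ a ∈ A', ∃ e ∈ E', s = a * e := by
    intro s
    have hs : s ∈ ((A' ⊔ E' : Subgroup ↥S) : Set ↥S) := by
      rw [htop]
      exact Set.mem_univ _
    rw [Subgroup.mul_normal] at hs
    obtain ⟨a, ha, e, he, rfl⟩ := Set.mem_mul.mp hs
    exact ⟨a, ha, e, he, rfl⟩
  obtain ⟨a, ha, e, he, hae⟩ := hdecomp ⟨x₁, hx₁⟩
  obtain ⟨a', ha', e', he', hae'⟩ := hdecomp ⟨y₁, hy₁⟩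
  have hq : (QuotientGroup.mk' E') (⟨x₁, hx₁⟩ * ⟨y₁, hy₁⟩ * (⟨x₁, hx₁⟩ : ↥S)⁻¹ *
      (⟨y₁, hy₁⟩ : ↥S)⁻¹) = 1 := by
    have he1 : (QuotientGroup.mk' E') e = 1 := (QuotientGroup.eq_one_iff e).mpr he
    have he1' : (QuotientGroup.mk' E') e' = 1 := (QuotientGroup.eq_one_iff e').mpr he'
    have hcomm' : a * a' = a' * a := by
      apply Subtype.ext
      exact hAab _ ha _ ha'
    rw [hae, hae']
    simp only [map_mul, map_inv, he1, he1', mul_one]
    rw [← map_mul, hcomm', map_mul]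
    group
  have hmem : (⟨x₁, hx₁⟩ * ⟨y₁, hy₁⟩ * (⟨x₁, hx₁⟩ : ↥S)⁻¹ * (⟨y₁, hy₁⟩ : ↥S)⁻¹) ∈ E' :=
    (QuotientGroup.eq_one_iff _).mp hq
  exact hmem

end Cfsg.Agent.Lib.Helper64_S2647_UNIQ
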