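import Mathlib
import Cfsg.Prelude.Def_Blocks
import Cfsg.Prelude.Def_Characters
import Cfsg.Agent.Lib.Helper78_LocalRing
import Cfsg.Agent.Lib.Helper62_LocalSubring
import Cfsg.Agent.Lib.Helper80_CharBasic
import Cfsg.Agent.Lib.Helper81_CharOrth
import Cfsg.Agent.Lib.Helper81_CharOrth2
import Cfsg.Agent.Lib.Helper41_S4427_PKT
import Cfsg.Agent.Lib.Helper20_S4427_PKE

/-!
# S4427 package PKP, core (helper64)

The projective character under two `p'`-subgroups `H`, `K`: the idempotent `ε = u w`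
(`u = e_H e_K e_H`, `w` from package PKE) gives multiplicities `d χ = tr ρ_χ(ε)` with
`d(1) = 1`, `d χ ≤ ⟨χ_H, 1⟩`, `d χ ≤ ⟨χ_K, 1⟩`, and `∑ d χ χ(g) = 0` on `p`-singular `g`.
Here `PKP_of` takes the conclusion of package PKV as a hypothesis.
-/

set_option autoImplicit false
open Cfsg Cfsg.Agent.Lib.Helper62_LocalSubring Cfsg.Agent.Lib.Helper78_LocalRing
open scoped Classical

universe u

namespace Cfsg.Agent.Lib.Helper64_S4427_PKPcore

section Aug

variable {G : Type*} [Group G] [Fintype G]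

/-- the augmentation (sum of the coefficients) -/
noncomputable def aug (y : MonoidAlgebra ℂ G) : ℂ := ∑ g : G, y.coeff g

theorem aug_eq_lift (y : MonoidAlgebra ℂ G) :
    aug y = MonoidAlgebra.lift ℂ ℂ G (1 : G →* ℂ) y := by
  rw [MonoidAlgebra.lift_apply, Finsupp.sum_fintype]
  · simp [aug]
  · simp

theorem aug_mul (x y : MonoidAlgebra ℂ G) : aug (x * y) = aug x * aug y := by
  simp only [aug_eq_lift, map_mul]

theorem aug_one : aug (1 : MonoidAlgebra ℂ G) = 1 := by
  simp only [aug_eq_lift, map_one]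

/-- coefficients of a product -/
theorem coeff_mul_eq (x y : MonoidAlgebra ℂ G) (g : G) :
    (x * y).coeff g = ∑ h : G, x.coeff h * y.coeff (h⁻¹ * g) := by
  rw [MonoidAlgebra.coeff_mul_apply_left, Finsupp.sum_fintype]
  simp

theorem local_mul {M : Ideal AlgInt} (hM : M.IsPrime) {x y : MonoidAlgebra ℂ G}
    (hx : ∀ g, MemLocalRing M (x.coeff g)) (hy : ∀ g, MemLocalRing M (y.coeff g)) :
    ∀ g, MemLocalRing M ((x * y).coeff g) := by
  intro g
  rw [coeff_mul_eq]
  exact memLocalRing_sum hM _ _ fun h _ => memLocalRing_mul hM (hx h) (hy _)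

/-- trace of the image of a group algebra element under a representation -/
theorem trace_asAlgebraHom {V : Type*} [AddCommGroup V] [Module ℂ V]
    (ρ : Representation ℂ G V) (y : MonoidAlgebra ℂ G) :
    LinearMap.trace ℂ V (ρ.asAlgebraHom y) = ∑ g : G, y.coeff g * ρ.character g := by
  have h : ρ.asAlgebraHom y = ∑ g : G, y.coeff g • ρ g := by
    show MonoidAlgebra.lift ℂ _ G ρ y = _
    rw [MonoidAlgebra.lift_apply, Finsupp.sum_fintype]
    simp
  rw [h, map_sum]
  refine Finset.sum_congr rfl fun g _ => ?_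
  rw [map_smul, smul_eq_mul]
  rfl

end Aug

section SubgroupIdem

variable {G : Type*} [Group G] [Fintype G]

/-- the sum of the elements of a subgroup -/
noncomputable def sS (H : Subgroup G) : MonoidAlgebra ℂ G :=
  ∑ x : H, MonoidAlgebra.single (x : G) (1 : ℂ)

/-- the idempotent of a subgroup -/
noncomputable def eS (H : Subgroup G) : MonoidAlgebra ℂ G :=
  (Nat.card H : ℂ)⁻¹ • sS H

theorem sS_coeff (H : Subgroup G) (g : G) : (sS H).coeff g = if g ∈ H then 1 else 0 := by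
  unfold sS
  rw [MonoidAlgebra.coeff_sum, Finset.sum_apply']
  simp only [MonoidAlgebra.coeff_single]
  split_ifs with hg
  · rw [Finset.sum_eq_single (⟨g, hg⟩ : H)]
    · simp
    · intro b _ hb
      rw [Finsupp.single_apply, if_neg]
      intro h
      exact hb (Subtype.ext h)
    · intro h; exact absurd (Finset.mem_univ _) h
  · apply Finset.sum_eq_zero
    intro b _
    rw [Finsupp.single_apply, if_neg]
    intro h
    exact hg (h ▸ b.2)

theorem single_mul_sS (H : Subgroup G) (x : H) :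
    MonoidAlgebra.single (x : G) (1 : ℂ) * sS H = sS H := by
  unfold sS
  rw [Finset.mul_sum]
  simp only [MonoidAlgebra.single_mul_single, mul_one]
  exact Fintype.sum_equiv (Equiv.mulLeft x) _ _ (fun y => by simp)

theorem sS_mul_sS (H : Subgroup G) : sS H * sS H = (Nat.card H : ℂ) • sS H := by
  have h : sS H * sS H = ∑ x : H, MonoidAlgebra.single (x : G) (1 : ℂ) * sS H := by
    conv_lhs => rw [sS]
    rw [← Finset.sum_mul]
    rfl
  rw [h, Finset.sum_congr rfl (fun x _ => single_mul_sS H x)]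
  rw [Finset.sum_const, Finset.card_univ, Nat.card_eq_fintype_card, Nat.cast_smul_eq_nsmul]

theorem card_ne_zero' (H : Subgroup G) : (Nat.card H : ℂ) ≠ 0 := by
  have : Nat.card H ≠ 0 := Nat.card_pos.ne'
  exact_mod_cast this

theorem eS_idem (H : Subgroup G) : IsIdempotentElem (eS H) := by
  unfold IsIdempotentElem eS
  rw [smul_mul_smul_comm, sS_mul_sS, smul_smul, mul_assoc, inv_mul_cancel₀ (card_ne_zero' H), mul_one]

theorem eS_coeff (H : Subgroup G) (g : G) :
    (eS H).coeff g = if g ∈ H then (Nat.card H : ℂ)⁻¹ else 0 := by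
  unfold eS
  rw [MonoidAlgebra.coeff_smul, Finsupp.smul_apply, sS_coeff]
  split_ifs <;> simp

theorem eS_local {p : ℕ} {M : Ideal AlgInt} (hM : IsPModular p M) (H : Subgroup G)
    (hH : ¬ p ∣ Nat.card H) : ∀ g, MemLocalRing M ((eS H).coeff g) := by
  intro g
  rw [eS_coeff]
  split_ifs
  · exact memLocalRing_inv_natCast hM hH
  · exact memLocalRing_zero (isPrime_of_isPModular hM)

theorem sum_coeff_mul_eS (H : Subgroup G) (f : G → ℂ) :
    ∑ g : G, (eS H).coeff g * f g = (Nat.card H : ℂ)⁻¹ * ∑ x : H, f (x : G) := by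
  simp only [eS_coeff]
  rw [Finset.mul_sum]
  simp only [ite_mul, zero_mul]
  rw [← Finset.sum_filter]
  exact (Finset.sum_subtype (Finset.univ.filter fun x => x ∈ H) (by simp)
    (fun x => (Nat.card H : ℂ)⁻¹ * f x))

theorem aug_eS (H : Subgroup G) : aug (eS H) = 1 := by
  have := sum_coeff_mul_eS H (fun _ => (1 : ℂ))
  simp only [mul_one] at this
  unfold aug
  rw [this, Finset.sum_const, Finset.card_univ, Nat.card_eq_fintype_card, nsmul_eq_mul, mul_one,
    ← Nat.card_eq_fintype_card, inv_mul_cancel₀ (card_ne_zero' H)]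

end SubgroupIdem

section Main

/-- For every prime `p` there is a maximal ideal of the algebraic integers containing `p`
(copy of `Helper23_ZStarB.exists_pModular`, to keep the import closure small). -/
theorem exists_pModular' (p : ℕ) (hp : p.Prime) : ∃ M : Ideal AlgInt, IsPModular p M := by
  have hne : Ideal.span {(p : AlgInt)} ≠ ⊤ := by
    rw [Ne, Ideal.span_singleton_eq_top]
    intro hu
    obtain ⟨b, hb⟩ := hu.exists_right_inv
    have hbint : IsIntegral ℤ (b : ℂ) := b.2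
    have hpC : (p : ℂ) ≠ 0 := by exact_mod_cast hp.ne_zero
    have hbval : (b : ℂ) = algebraMap ℚ ℂ (1 / (p : ℚ)) := by
      have h1 := congrArg (fun x : AlgInt => (x : ℂ)) hb
      simp only [MulMemClass.coe_mul, OneMemClass.coe_one] at h1
      have h2 : ((p : AlgInt) : ℂ) = (p : ℂ) := by simp
      rw [h2] at h1
      rw [map_div₀, map_one, map_natCast]
      field_simp
      linear_combination h1
    rw [hbval] at hbint
    have h3 : IsIntegral ℤ (1 / (p : ℚ)) :=
      (isIntegral_algebraMap_iff (algebraMap ℚ ℂ).injective).1 hbint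
    obtain ⟨m, hm⟩ := IsIntegrallyClosed.isIntegral_iff.mp h3
    have hpQ : (p : ℚ) ≠ 0 := by exact_mod_cast hp.ne_zero
    have h4 : (m : ℚ) * (p : ℚ) = 1 := by
      have : (algebraMap ℤ ℚ m : ℚ) = (m : ℚ) := rfl
      rw [← this, hm]
      field_simp
    have h5 : m * (p : ℤ) = 1 := by exact_mod_cast h4
    have h6 : (p : ℤ) ∣ 1 := ⟨m, by rw [mul_comm]; exact h5.symm⟩
    have h7 : p ∣ 1 := by exact_mod_cast h6
    exact hp.one_lt.ne' (Nat.dvd_one.mp h7)
  obtain ⟨M, hM, hle⟩ := Ideal.exists_le_maximal _ hne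
  exact ⟨M, hp, hM, hle (Ideal.mem_span_singleton_self _)⟩

theorem card_conj_eq {G : Type*} [Group G] (t b : G) :
    Nat.card {c : G // c * t * c⁻¹ = b} =
      if IsConj t b then Nat.card {c : G // c * b * c⁻¹ = b} else 0 := by
  split_ifs with h
  · obtain ⟨c0, hc0⟩ := isConj_iff.mp h
    refine Nat.card_congr ⟨fun c => ⟨c.1 * c0⁻¹, ?_⟩, fun c => ⟨c.1 * c0, ?_⟩, ?_, ?_⟩
    · have h1 : c.1 * t * c.1⁻¹ = b := c.2
      calc c.1 * c0⁻¹ * b * (c.1 * c0⁻¹)⁻¹ = c.1 * (c0⁻¹ * b * c0) * c.1⁻¹ := by group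
        _ = c.1 * t * c.1⁻¹ := by
          have h2 : c0⁻¹ * b * c0 = t := by rw [← hc0]; group
          rw [h2]
        _ = b := h1
    · have h1 : c.1 * b * c.1⁻¹ = b := c.2
      calc c.1 * c0 * t * (c.1 * c0)⁻¹ = c.1 * (c0 * t * c0⁻¹) * c.1⁻¹ := by group
        _ = b := by rw [hc0, h1]
    · intro c; apply Subtype.ext; simp
    · intro c; apply Subtype.ext; simp
  · rw [Nat.card_eq_zero]
    left
    exact ⟨fun c => h (isConj_iff.mpr ⟨c.1, c.2⟩)⟩

/-- `PKP` with the conclusion of package `PKV` as a hypothesis -/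
theorem PKP_of {G : Type u} [Group G] [Fintype G] [Fintype (IrrCharacter G)] {p : ℕ} (hp : p.Prime)
    (hV : ∀ {M : Ideal AlgInt} (_ : IsPModular p M) (e : MonoidAlgebra ℂ G),
      (∀ g, MemLocalRing M (e.coeff g)) → IsIdempotentElem e → ∀ g : G, p ∣ orderOf g →
      (∑ t : G, if IsConj t g then e.coeff t else 0) = 0)
    (H K : Subgroup G) (hH : ¬ p ∣ Nat.card H) (hK : ¬ p ∣ Nat.card K) :
    ∃ d eH eK : IrrCharacter G → ℕ,
      d (Cfsg.Agent.Lib.Helper80_CharBasic.oneIrr G) = 1 ∧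
      (∀ g : G, p ∣ orderOf g → ∑ χ : IrrCharacter G, (d χ : ℂ) * (χ : G → ℂ) g = 0) ∧
      (∀ χ : IrrCharacter G, (eH χ : ℂ) = (Nat.card H : ℂ)⁻¹ * ∑ x : H, (χ : G → ℂ) (x : G)) ∧
      (∀ χ : IrrCharacter G, (eK χ : ℂ) = (Nat.card K : ℂ)⁻¹ * ∑ x : K, (χ : G → ℂ) (x : G)) ∧
      (∀ χ, d χ ≤ eH χ) ∧ (∀ χ, d χ ≤ eK χ) := by
  obtain ⟨M, hM⟩ := exists_pModular' p hp
  have hMp := isPrime_of_isPModular hM
  obtain ⟨eh, heh_def⟩ : ∃ eh, eh = eS H := ⟨_, rfl⟩
  obtain ⟨ek, hek_def⟩ : ∃ ek, ek = eS K := ⟨_, rfl⟩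
  have heh : eh * eh = eh := by rw [heh_def]; exact eS_idem H
  have hek : ek * ek = ek := by rw [hek_def]; exact eS_idem K
  have heh_loc : ∀ g, MemLocalRing M (eh.coeff g) := by rw [heh_def]; exact eS_local hM H hH
  have hek_loc : ∀ g, MemLocalRing M (ek.coeff g) := by rw [hek_def]; exact eS_local hM K hK
  have heh_aug : aug eh = 1 := by rw [heh_def]; exact aug_eS H
  have hek_aug : aug ek = 1 := by rw [hek_def]; exact aug_eS K
  obtain ⟨u, hu⟩ : ∃ u, u = eh * ek * eh := ⟨_, rfl⟩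
  have hu_loc : ∀ g, MemLocalRing M (u.coeff g) := by
    rw [hu]; exact local_mul hMp (local_mul hMp heh_loc hek_loc) heh_loc
  have hu_aug : ∑ g, u.coeff g = 1 := by
    show aug u = 1
    rw [hu, aug_mul, aug_mul, heh_aug, hek_aug]; norm_num
  obtain ⟨w, hw_loc, hw_comm, hid, haug⟩ := Cfsg.Agent.Lib.Helper20_S4427_PKE.PKE hM u hu_loc hu_aug
  have hehu : eh * u = u := by rw [hu, ← mul_assoc, ← mul_assoc, heh]
  have hueh : u * eh = u := by rw [hu, mul_assoc, heh]
  have hcomm_u : Commute eh u := by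
    unfold Commute SemiconjBy
    rw [hehu, hueh]
  have hcomm_w : Commute eh w := hw_comm eh hcomm_u
  obtain ⟨ε, hε⟩ : ∃ ε, ε = u * w := ⟨_, rfl⟩
  rw [← hε] at hid haug
  have hε_loc : ∀ g, MemLocalRing M (ε.coeff g) := by
    rw [hε]; exact local_mul hMp hu_loc hw_loc
  have h1 : eh * ε = ε := by rw [hε, ← mul_assoc, hehu]
  have h2 : ε * eh = ε := by rw [hε, mul_assoc, ← hcomm_w.eq, ← mul_assoc, hueh]
  obtain ⟨a, ha⟩ : ∃ a, a = eh * ek := ⟨_, rfl⟩
  obtain ⟨b, hb⟩ : ∃ b, b = ek * eh * w * ε := ⟨_, rfl⟩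
  have hab : a * b = ε := by
    calc a * b = eh * (ek * ek) * eh * w * ε := by rw [ha, hb]; noncomm_ring
      _ = u * w * ε := by rw [hek, hu]
      _ = ε := by rw [← hε]; exact hid
  have hbε : b * ε = b := by rw [hb, mul_assoc, hid.eq]
  obtain ⟨ε2, hε2_def⟩ : ∃ ε2, ε2 = b * a := ⟨_, rfl⟩
  have hε2 : IsIdempotentElem ε2 := by
    show ε2 * ε2 = ε2
    calc ε2 * ε2 = b * (a * b) * a := by rw [hε2_def]; noncomm_ring
      _ = ε2 := by rw [hab, hbε, hε2_def]
  have h3 : ek * ε2 = ε2 := by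
    calc ek * ε2 = (ek * ek) * eh * w * ε * a := by rw [hε2_def, hb]; noncomm_ring
      _ = ε2 := by rw [hek, hε2_def, hb]
  have h4 : ε2 * ek = ε2 := by
    calc ε2 * ek = b * (eh * (ek * ek)) := by rw [hε2_def, ha]; noncomm_ring
      _ = ε2 := by rw [hek, hε2_def, ha]
  have key : ∀ χ : IrrCharacter G, ∃ d kH kK : ℕ, d ≤ kH ∧ d ≤ kK ∧
      (d : ℂ) = ∑ g, ε.coeff g * (χ : G → ℂ) g ∧
      (kH : ℂ) = (Nat.card H : ℂ)⁻¹ * ∑ x : H, (χ : G → ℂ) (x : G) ∧
      (kK : ℂ) = (Nat.card K : ℂ)⁻¹ * ∑ x : K, (χ : G → ℂ) (x : G) := by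
    intro χ
    obtain ⟨n, ρ, hirr, hρ⟩ := χ.2
    obtain ⟨d, kH, hle, hd, hkH⟩ :=
      Cfsg.Agent.Lib.Helper41_S4427_PKT.PKT ρ eh ε heh hid h1 h2
    obtain ⟨d', kK, hle', hd', hkK⟩ :=
      Cfsg.Agent.Lib.Helper41_S4427_PKT.PKT ρ ek ε2 hek hε2 h3 h4
    have hdd' : d = d' := by
      have : (d : ℂ) = d' := by
        rw [← hd, ← hd', ← hab, hε2_def, map_mul ρ.asAlgebraHom, map_mul ρ.asAlgebraHom,
          LinearMap.trace_mul_comm]
      exact_mod_cast this
    subst hdd'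
    refine ⟨d, kH, kK, hle, hle', ?_, ?_, ?_⟩
    · rw [← hd, trace_asAlgebraHom, hρ]
    · rw [← hkH, trace_asAlgebraHom, hρ, heh_def, sum_coeff_mul_eS]
    · rw [← hkK, trace_asAlgebraHom, hρ, hek_def, sum_coeff_mul_eS]
  choose d kH kK hle hle' hd hkH hkK using key
  refine ⟨d, kH, kK, ?_, ?_, hkH, hkK, hle, hle'⟩
  · have h := hd (Cfsg.Agent.Lib.Helper80_CharBasic.oneIrr G)
    have h' : ((Cfsg.Agent.Lib.Helper80_CharBasic.oneIrr G : IrrCharacter G) : G → ℂ)
        = fun _ => 1 := rfl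
    rw [h'] at h
    simp only [mul_one] at h
    rw [haug] at h
    exact_mod_cast h
  · intro g hg
    have hg' : p ∣ orderOf g⁻¹ := by rwa [orderOf_inv]
    have hV := hV hM ε hε_loc hid g⁻¹ hg'
    calc ∑ χ : IrrCharacter G, (d χ : ℂ) * (χ : G → ℂ) g
        = ∑ χ : IrrCharacter G, ∑ t : G, ε.coeff t * ((χ : G → ℂ) t * (χ : G → ℂ) g) := by
          refine Finset.sum_congr rfl fun χ _ => ?_
          rw [hd χ, Finset.sum_mul]
          refine Finset.sum_congr rfl fun t _ => ?_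
          ring
      _ = ∑ t : G, ε.coeff t * ∑ χ : IrrCharacter G, (χ : G → ℂ) t * (χ : G → ℂ) g := by
          rw [Finset.sum_comm]
          refine Finset.sum_congr rfl fun t _ => ?_
          rw [Finset.mul_sum]
      _ = ∑ t : G, ε.coeff t * (Nat.card {c : G // c * t * c⁻¹ = g⁻¹} : ℂ) := by
          refine Finset.sum_congr rfl fun t _ => ?_
          rw [← Cfsg.Agent.Lib.Helper81_CharOrth2.second_orthogonality t g⁻¹, inv_inv]
      _ = (Nat.card {c : G // c * g⁻¹ * c⁻¹ = g⁻¹} : ℂ) *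
            ∑ t : G, if IsConj t g⁻¹ then ε.coeff t else 0 := by
          rw [Finset.mul_sum]
          refine Finset.sum_congr rfl fun t _ => ?_
          rw [card_conj_eq]
          split_ifs <;> simp [mul_comm]
      _ = 0 := by rw [hV, mul_zero]

end Main

end Cfsg.Agent.Lib.Helper64_S4427_PKPcore
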