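import Mathlib
import Cfsg.Prelude.Def_Blocks
import Cfsg.Prelude.Def_Characters
import Cfsg.Agent.Lib.Helper78_LocalRing
import Cfsg.Agent.Lib.Helper62_LocalSubring
import Cfsg.Agent.Lib.Helper80_CharBasic
import Cfsg.Agent.Lib.Helper81_CharOrth
import Cfsg.Agent.Lib.Helper20_S4427_PKVcore
import Cfsg.Agent.Lib.Helper52_S4427_PKN
import Cfsg.Agent.Lib.Helper64_S4427_PKPcore

/-!
# S4427 package PKP (helper64)

The projective character under two `p'`-subgroups: `PKP` is `Helper64_S4427_PKPcore.PKP_of` with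
the vanishing statement (package PKV) supplied by `Helper20_S4427_PKVcore.PKV_of` and the necklace
lemma `Helper52_S4427_PKN.PKN`.
-/

set_option autoImplicit false
open Cfsg Cfsg.Agent.Lib.Helper62_LocalSubring
open scoped Classical

universe u

namespace Cfsg.Agent.Lib.Helper64_S4427_PKP

/-- package PKV, from `PKV_of` and `PKN` -/
theorem PKV_aux {G : Type*} [Group G] [Fintype G] {p : ℕ} {M : Ideal AlgInt} (hM : IsPModular p M)
    (e : MonoidAlgebra ℂ G) (he : ∀ g, MemLocalRing M (e.coeff g)) (hid : IsIdempotentElem e)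
    (g : G) (hg : p ∣ orderOf g) :
    (∑ t : G, if IsConj t g then e.coeff t else 0) = 0 :=
  Cfsg.Agent.Lib.Helper20_S4427_PKVcore.PKV_of hM
    (fun x n g hg => Cfsg.Agent.Lib.Helper52_S4427_PKN.PKN p hM.1 _
      (Cfsg.Agent.Lib.Helper20_S4427_PKVcore.not_dvd_orderOf_pow hM.1) x n g hg)
    e he hid g hg

/-- **PK-P** (the projective character under two `p'`-subgroups) -/
theorem PKP {G : Type u} [Group G] [Fintype G] [Fintype (IrrCharacter G)] {p : ℕ} (hp : p.Prime)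
    (H K : Subgroup G) (hH : ¬ p ∣ Nat.card H) (hK : ¬ p ∣ Nat.card K) :
    ∃ d eH eK : IrrCharacter G → ℕ,
      d (Cfsg.Agent.Lib.Helper80_CharBasic.oneIrr G) = 1 ∧
      (∀ g : G, p ∣ orderOf g → ∑ χ : IrrCharacter G, (d χ : ℂ) * (χ : G → ℂ) g = 0) ∧
      (∀ χ : IrrCharacter G, (eH χ : ℂ) = (Nat.card H : ℂ)⁻¹ * ∑ x : H, (χ : G → ℂ) (x : G)) ∧
      (∀ χ : IrrCharacter G, (eK χ : ℂ) = (Nat.card K : ℂ)⁻¹ * ∑ x : K, (χ : G → ℂ) (x : G)) ∧
      (∀ χ, d χ ≤ eH χ) ∧ (∀ χ, d χ ≤ eK χ) :=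
  Cfsg.Agent.Lib.Helper64_S4427_PKPcore.PKP_of hp
    (fun hM e he hid g hg => PKV_aux hM e he hid g hg) H K hH hK

end Cfsg.Agent.Lib.Helper64_S4427_PKP
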