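import Mathlib
import Cfsg.Prelude.Def_Classical
import Cfsg.Agent.Lib.Helper13_Herm
import Cfsg.Agent.Lib.Helper5_SUCenter
import Cfsg.Agent.Lib.Helper44_PSLnUT
import Cfsg.Agent.Lib.Helper32_PGroup
import Cfsg.Agent.Lib.Helper88_PSLnFusDefs
import Cfsg.Agent.Lib.Helper88_PSUFusDefs
import Cfsg.Agent.Lib.Helper63_S5172_A1
import Cfsg.Agent.Lib.Helper26_S5172_A2

/-!
# S5172 package D5 (architect helper88): the root elements `ym` through the middle index

A strongly closed subgroup `T` of `UJ` containing the long, Siegel and Levi root elements contains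
all `ym q him hm a b`.  One matrix identity (`key_identity`) does both cases:
`G * X = X * Y * S * G` with `G = ym (j,m) a b`, `X = xs (i,j) c`, `Y = ym (i,m) (-(c a)) (c c^q b)`,
`S = xs (i, rev j) (c b^q)`.  For `i < j` conjugate `X ∈ T` by `G ∈ UJ`; for `j < i` conjugate `G ∈ T`
by `X⁻¹ ∈ GJ` (the result `Y * S * G` is still upper unitriangular).  helper64.
-/

set_option autoImplicit false
set_option linter.unusedVariables false
set_option linter.unusedSimpArgs false

namespace Cfsg.Agent.Lib.Helper64_S5172_D5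

open Matrix Cfsg.Agent.Lib.Helper44_PSLnUT Cfsg.Agent.Lib.Helper88_PSLnFus
  Cfsg.Agent.Lib.Helper88_PSUFus Cfsg.Agent.Lib.Helper13_Herm
  Cfsg.Agent.Lib.Helper63_S5172_A1 Cfsg.Agent.Lib.Helper26_S5172_A2

/-- the matrix identity behind both cases -/
theorem key_identity {ι : Type*} [DecidableEq ι] [Fintype ι] {R : Type*} [CommRing R]
    {i j m j' i' : ι} (hij : i ≠ j) (him : i ≠ m) (hij' : i ≠ j') (hii' : i ≠ i') (hjm : j ≠ m)
    (hjj' : j ≠ j') (hji' : j ≠ i') (hmj' : m ≠ j') (hmi' : m ≠ i') (hj'i' : j' ≠ i')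
    (c c' a a' b b' : R) (hb : b' + b + a * a' = 0) :
    ((1 : Matrix ι ι R) + single j m a - single m j' a' + single j j' b) *
        (1 + single i j c - single j' i' c') =
      (1 + single i j c - single j' i' c') *
        (1 + single i m (-(c * a)) - single m i' (-(c' * a')) + single i i' (c * c' * b)) *
        (1 + single i j' (c * b') - single j i' (c' * b)) *
        (1 + single j m a - single m j' a' + single j j' b) := by
  obtain rfl : b' = -b - a * a' := by linear_combination hb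
  obtain ⟨E, hE⟩ : ∃ E : ι → ι → Matrix ι ι R, ∀ k l x, single k l x = x • E k l :=
    ⟨fun k l => single k l 1, fun k l x => by rw [Matrix.smul_single, smul_eq_mul, mul_one]⟩
  simp only [mul_add, add_mul, mul_sub, sub_mul, mul_one, one_mul,
    Matrix.single_mul_single_same, Matrix.single_mul_single_of_ne, mul_zero, zero_mul,
    add_zero, zero_add, sub_zero, zero_sub, neg_zero,
    hij, him, hij', hii', hjm, hjj', hji', hmj', hmi', hj'i',
    hij.symm, him.symm, hij'.symm, hii'.symm, hjm.symm, hjj'.symm, hji'.symm, hmj'.symm,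
    hmi'.symm, hj'i'.symm, ne_eq, not_false_eq_true, not_true_eq_false]
  simp only [hE]
  module

variable {F : Type*} [Field F] [Fintype F] {q : ℕ}

omit [Fintype F] in
/-- upper transvections are unitriangular -/
theorem tv_mem_UT {n : ℕ} {k l : Fin n} (h : k ≠ l) (hkl : k < l) (x : F) :
    SpecialLinearGroup.transvection h x ∈ UT n F := by
  rw [mem_UT]
  show IsUT ((1 : Matrix (Fin n) (Fin n) F) + single k l x)
  refine ⟨fun i j hji => ?_, fun i => ?_⟩
  · rw [Matrix.add_apply, Matrix.one_apply_ne (ne_of_gt hji), zero_add, Matrix.single_apply,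
      if_neg]
    rintro ⟨rfl, rfl⟩
    exact absurd hkl (not_lt.mpr (le_of_lt hji))
  · rw [Matrix.add_apply, Matrix.one_apply_eq, Matrix.single_apply, if_neg, add_zero]
    rintro ⟨rfl, e⟩
    exact h e.symm

/-- the middle index -/
theorem mid_val {n : ℕ} {m : Fin n} (hm : Fin.rev m = m) : n = 2 * m.val + 1 := by
  have h1 := congrArg Fin.val hm
  rw [Fin.val_rev] at h1
  have h2 := m.isLt
  omega

theorem ym_mem_UJ (hF : Fintype.card F = q ^ 2) {n : ℕ} {i m : Fin n} (him : i ≠ m)
    (hm : Fin.rev m = m) (a b : F) (hi : i.val < n / 2)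
    (hab : b + b ^ q + a ^ (q + 1) = 0) : ym q him hm a b ∈ UJ n F q := by
  have hn := mid_val hm
  have h1 : i < m := by
    rw [Fin.lt_def]
    omega
  have h2 : m < Fin.rev i := by
    rw [Fin.lt_def, Fin.val_rev]
    omega
  have h3 : i < Fin.rev i := lt_trans h1 h2
  refine ⟨A2_mem hF him hm a b hab, ?_⟩
  unfold ym
  exact (UT n F).mul_mem ((UT n F).mul_mem (tv_mem_UT _ h1 _) (tv_mem_UT _ h2 _))
    (tv_mem_UT _ h3 _)

/-- the commutator identity in `SL_n(F)` -/
theorem comm_identity (hF : Fintype.card F = q ^ 2) {n : ℕ} {i j m : Fin n} (hij : i ≠ j)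
    (him : i ≠ m) (hjm : j ≠ m) (hm : Fin.rev m = m) (hij' : i ≠ Fin.rev j) (c a b : F)
    (hab : b + b ^ q + a ^ (q + 1) = 0) :
    ym q hjm hm a b * xs q hij c =
      xs q hij c * ym q him hm (-(c * a)) (c * c ^ q * b) * xs q hij' (c * b ^ q) *
        ym q hjm hm a b := by
  have hii' : i ≠ Fin.rev i := ne_rev_self_of_mid him hm
  have hjj' : j ≠ Fin.rev j := ne_rev_self_of_mid hjm hm
  have hji' : j ≠ Fin.rev i := by
    intro e
    apply hij'
    rw [e, Fin.rev_rev]
  have hmj' : m ≠ Fin.rev j := ne_rev_of_mid hjm hm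
  have hmi' : m ≠ Fin.rev i := ne_rev_of_mid him hm
  have hj'i' : Fin.rev j ≠ Fin.rev i := rev_ne hij
  have hrr : Fin.rev j ≠ Fin.rev (Fin.rev j) := by
    rw [Fin.rev_rev]
    exact hjj'.symm
  have hG : (ym q hjm hm a b).1 =
      1 + single j m a - single m (Fin.rev j) (a ^ q) + single j (Fin.rev j) b := A2_coe hjm hm a b
  have hX : (xs q hij c).1 = 1 + single i j c - single (Fin.rev j) (Fin.rev i) (c ^ q) :=
    A1_coe hij hjj' c
  have hY : (ym q him hm (-(c * a)) (c * c ^ q * b)).1 =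
      1 + single i m (-(c * a)) - single m (Fin.rev i) (-(c ^ q * a ^ q)) +
        single i (Fin.rev i) (c * c ^ q * b) := by
    rw [A2_coe him hm, neg_pow_q hF, mul_pow]
  have hS : (xs q hij' (c * b ^ q)).1 =
      1 + single i (Fin.rev j) (c * b ^ q) - single j (Fin.rev i) (c ^ q * b) := by
    rw [A1_coe hij' hrr, Fin.rev_rev, mul_pow, pow_q_pow_q hF]
  have hb : b ^ q + b + a * a ^ q = 0 := by
    rw [pow_succ] at hab
    linear_combination hab
  apply Subtype.ext
  show (ym q hjm hm a b).1 * (xs q hij c).1 =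
    (xs q hij c).1 * (ym q him hm (-(c * a)) (c * c ^ q * b)).1 * (xs q hij' (c * b ^ q)).1 *
      (ym q hjm hm a b).1
  rw [hG, hX, hY, hS]
  exact key_identity hij him hij' hii' hjm hjj' hji' hmj' hmi' hj'i' c (c ^ q) a (a ^ q) b
    (b ^ q) hb

/-- the commutator identity with `c = -1` -/
theorem comm_identity' (hF : Fintype.card F = q ^ 2) {n : ℕ} {i j m : Fin n} (hij : i ≠ j)
    (him : i ≠ m) (hjm : j ≠ m) (hm : Fin.rev m = m) (hij' : i ≠ Fin.rev j) (a b : F)
    (hab : b + b ^ q + a ^ (q + 1) = 0) :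
    ym q hjm hm a b * xs q hij (-1) =
      xs q hij (-1) * ym q him hm a b * xs q hij' ((-1) * b ^ q) * ym q hjm hm a b := by
  have h := comm_identity hF hij him hjm hm hij' (-1) a b hab
  have e1 : -((-1 : F) * a) = a := by ring
  have e2 : (-1 : F) * (-1) ^ q * b = b := by
    rw [neg_pow_q hF, one_pow]
    ring
  rw [e1, e2] at h
  exact h

theorem D5 (hF : Fintype.card F = q ^ 2) (n : ℕ) (hn : 4 ≤ n)
    (T : Subgroup (SpecialLinearGroup (Fin n) F)) (hT : T ≤ UJ n F q)
    (hsc : ∀ t ∈ T, ∀ g ∈ GJ n F q, g * t * g⁻¹ ∈ UJ n F q → g * t * g⁻¹ ∈ T)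
    (hlong : ∀ (i : Fin n) (hi : i ≠ Fin.rev i) (c : F), i.val < n / 2 → c + c ^ q = 0 →
      SpecialLinearGroup.transvection hi c ∈ T)
    (hsieg : ∀ (i j : Fin n) (h : i ≠ Fin.rev j) (a : F), i ≠ j → i.val < n / 2 → j.val < n / 2 →
      xs q h a ∈ T)
    (hshort : ∀ (i j : Fin n) (hij : i ≠ j) (a : F), i.val < j.val → j.val < n / 2 →
      xs q hij a ∈ T) :
    ∀ (i m : Fin n) (him : i ≠ m) (hm : Fin.rev m = m) (a b : F), i.val < n / 2 →
      b + b ^ q + a ^ (q + 1) = 0 → ym q him hm a b ∈ T := by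
  -- `i ≠ rev j` for `i, j` below the middle
  have hnerev : ∀ i j : Fin n, i.val < n / 2 → j.val < n / 2 → i ≠ Fin.rev j := by
    intro i j hi hj e
    have h1 := congrArg Fin.val e
    rw [Fin.val_rev] at h1
    have h2 := j.isLt
    omega
  -- case 1: there is `j` with `i < j < n / 2`
  have case1 : ∀ (i j m : Fin n) (him : i ≠ m) (hm : Fin.rev m = m) (a b : F),
      i.val < j.val → j.val < n / 2 → b + b ^ q + a ^ (q + 1) = 0 → ym q him hm a b ∈ T := by
    intro i j m him hm a b hij_lt hj hab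
    have hnm := mid_val hm
    have hi : i.val < n / 2 := lt_trans hij_lt hj
    have hij : i ≠ j := fun e => by rw [e] at hij_lt; exact lt_irrefl _ hij_lt
    have hjm : j ≠ m := fun e => by rw [e] at hj; omega
    have hij' : i ≠ Fin.rev j := hnerev i j hi hj
    have hX : xs q hij (-1) ∈ T := hshort i j hij (-1) hij_lt hj
    have hG : ym q hjm hm a b ∈ UJ n F q := ym_mem_UJ hF hjm hm a b hj hab
    have hS : xs q hij' ((-1) * b ^ q) ∈ T := hsieg i j hij' _ hij hi hj
    have hid := comm_identity' hF hij him hjm hm hij' a b hab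
    have hconj : ym q hjm hm a b * xs q hij (-1) * (ym q hjm hm a b)⁻¹ ∈ T := by
      apply hsc _ hX _ hG.1
      exact (UJ n F q).mul_mem ((UJ n F q).mul_mem hG (hT hX)) ((UJ n F q).inv_mem hG)
    rw [hid, mul_inv_cancel_right] at hconj
    have h3 : ym q him hm a b =
        (xs q hij (-1))⁻¹ * (xs q hij (-1) * ym q him hm a b * xs q hij' ((-1) * b ^ q)) *
          (xs q hij' ((-1) * b ^ q))⁻¹ := by group
    rw [h3]
    exact T.mul_mem (T.mul_mem (T.inv_mem hX) hconj) (T.inv_mem hS)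
  intro i m him hm a b hi hab
  have hnm := mid_val hm
  by_cases hlt : i.val + 1 < n / 2
  · exact case1 i ⟨i.val + 1, by omega⟩ m him hm a b (by simp) hlt hab
  · -- case 2: `i = n / 2 - 1`, use `j = 0 < i`
    have hj0 : 0 < n := by omega
    have hjlt : (⟨0, hj0⟩ : Fin n).val < i.val := by
      show 0 < i.val
      omega
    have hj : (⟨0, hj0⟩ : Fin n).val < n / 2 := lt_trans hjlt hi
    have hij : i ≠ ⟨0, hj0⟩ := fun e => by rw [e] at hjlt; exact lt_irrefl _ hjlt
    have hjm : (⟨0, hj0⟩ : Fin n) ≠ m := fun e => by rw [e] at hj; omega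
    have hij' : i ≠ Fin.rev (⟨0, hj0⟩ : Fin n) := hnerev i _ hi hj
    have hG : ym q hjm hm a b ∈ T := case1 _ i m hjm hm a b hjlt hi hab
    have hX : xs q hij (-1) ∈ GJ n F q :=
      A1_mem hF hij (ne_rev_self_of_mid him hm) (ne_rev_self_of_mid hjm hm) (-1)
    have hS : xs q hij' ((-1) * b ^ q) ∈ T := hsieg i _ hij' _ hij hi hj
    have hY : ym q him hm a b ∈ UJ n F q := ym_mem_UJ hF him hm a b hi hab
    have hid := comm_identity' hF hij him hjm hm hij' a b hab
    have hconj : (xs q hij (-1))⁻¹ * ym q hjm hm a b * ((xs q hij (-1))⁻¹)⁻¹ =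
        ym q him hm a b * xs q hij' ((-1) * b ^ q) * ym q hjm hm a b := by
      rw [inv_inv, mul_assoc, hid]
      group
    have hmem : (xs q hij (-1))⁻¹ * ym q hjm hm a b * ((xs q hij (-1))⁻¹)⁻¹ ∈ T := by
      apply hsc _ hG _ ((GJ n F q).inv_mem hX)
      rw [hconj]
      exact (UJ n F q).mul_mem ((UJ n F q).mul_mem hY (hT hS)) (hT hG)
    rw [hconj] at hmem
    have h3 : ym q him hm a b =
        (ym q him hm a b * xs q hij' ((-1) * b ^ q) * ym q hjm hm a b) *
          (ym q hjm hm a b)⁻¹ * (xs q hij' ((-1) * b ^ q))⁻¹ := by group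
    rw [h3]
    exact T.mul_mem (T.mul_mem hmem (T.inv_mem hG)) (T.inv_mem hS)

end Cfsg.Agent.Lib.Helper64_S5172_D5
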