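import Mathlib

/-!
# S0496 package SO-DET4 (helper64, architect helper76)

A perfect group has no representation of degree four in which an element `y` with `y ^ 4 = 1`
has character values `0` at `y`, `y ^ 2`, `y ^ 3`: Newton's identities give determinant `-1`.
-/

set_option autoImplicit false

namespace Cfsg.Agent.Lib.Helper64_SO_DET4

theorem det_fin_four_expand (A : Matrix (Fin 4) (Fin 4) ℂ) :
    A.det =
      A 0 0 * (A 1 1 * A 2 2 * A 3 3 - A 1 1 * A 2 3 * A 3 2
      - A 1 2 * A 2 1 * A 3 3 + A 1 2 * A 2 3 * A 3 1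
      + A 1 3 * A 2 1 * A 3 2 - A 1 3 * A 2 2 * A 3 1)
      - A 0 1 * (A 1 0 * A 2 2 * A 3 3 - A 1 0 * A 2 3 * A 3 2
      - A 1 2 * A 2 0 * A 3 3 + A 1 2 * A 2 3 * A 3 0
      + A 1 3 * A 2 0 * A 3 2 - A 1 3 * A 2 2 * A 3 0)
      + A 0 2 * (A 1 0 * A 2 1 * A 3 3 - A 1 0 * A 2 3 * A 3 1
      - A 1 1 * A 2 0 * A 3 3 + A 1 1 * A 2 3 * A 3 0
      + A 1 3 * A 2 0 * A 3 1 - A 1 3 * A 2 1 * A 3 0)
      - A 0 3 * (A 1 0 * A 2 1 * A 3 2 - A 1 0 * A 2 2 * A 3 1
      - A 1 1 * A 2 0 * A 3 2 + A 1 1 * A 2 2 * A 3 0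
      + A 1 2 * A 2 0 * A 3 1 - A 1 2 * A 2 1 * A 3 0) := by
  rw [Matrix.det_succ_row_zero]
  simp only [Fin.sum_univ_four, Matrix.det_fin_three, Matrix.submatrix_apply]
  have e0 : ∀ i : Fin 3, (0 : Fin 4).succAbove i = i.succ := fun i => by fin_cases i <;> rfl
  have e10 : (1 : Fin 4).succAbove (0 : Fin 3) = 0 := rfl
  have e11 : (1 : Fin 4).succAbove (1 : Fin 3) = 2 := rfl
  have e12 : (1 : Fin 4).succAbove (2 : Fin 3) = 3 := rfl
  have e20 : (2 : Fin 4).succAbove (0 : Fin 3) = 0 := rfl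
  have e21 : (2 : Fin 4).succAbove (1 : Fin 3) = 1 := rfl
  have e22 : (2 : Fin 4).succAbove (2 : Fin 3) = 3 := rfl
  have e30 : (3 : Fin 4).succAbove (0 : Fin 3) = 0 := rfl
  have e31 : (3 : Fin 4).succAbove (1 : Fin 3) = 1 := rfl
  have e32 : (3 : Fin 4).succAbove (2 : Fin 3) = 2 := rfl
  have s0 : (0 : Fin 3).succ = (1 : Fin 4) := rfl
  have s1 : (1 : Fin 3).succ = (2 : Fin 4) := rfl
  have s2 : (2 : Fin 3).succ = (3 : Fin 4) := rfl
  simp only [e0, e10, e11, e12, e20, e21, e22, e30, e31, e32, s0, s1, s2]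
  norm_num
  ring

/-- Newton's identity expressing the determinant of a `4 × 4` matrix by traces of powers. -/
theorem newton_four (A : Matrix (Fin 4) (Fin 4) ℂ) :
    24 * A.det = A.trace ^ 4 - 6 * A.trace ^ 2 * (A * A).trace + 3 * (A * A).trace ^ 2
      + 8 * A.trace * (A * A * A).trace - 6 * (A * A * A * A).trace := by
  rw [det_fin_four_expand]
  simp only [Matrix.trace, Matrix.diag, Matrix.mul_apply, Fin.sum_univ_four]
  ring

/-- representations of perfect groups have determinant one -/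
theorem det_eq_one_of_perfect' {G : Type*} [Group G] (hperf : commutator G = ⊤) {n : ℕ}
    (ρ : Representation ℂ G (Fin n → ℂ)) (g : G) : LinearMap.det (ρ g) = 1 := by
  set φ : G →* ℂˣ :=
    ((LinearMap.det : ((Fin n → ℂ) →ₗ[ℂ] (Fin n → ℂ)) →* ℂ).comp ρ).toHomUnits with hφ
  have hle := Abelianization.commutator_subset_ker φ
  rw [hperf] at hle
  have hg : φ g = 1 := MonoidHom.mem_ker.mp (hle (Subgroup.mem_top g))
  have := congrArg Units.val hg
  simpa [hφ] using this

theorem character_eq_matrix_trace {G : Type*} [Group G] {n : ℕ}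
    (ρ : Representation ℂ G (Fin n → ℂ)) (g : G) :
    ρ.character g = (LinearMap.toMatrix' (ρ g)).trace := by
  rw [Representation.character, LinearMap.trace_eq_matrix_trace ℂ (Pi.basisFun ℂ (Fin n)),
    LinearMap.toMatrix_eq_toMatrix']

theorem false_of_deg_four_of_order_four {G : Type*} [Group G] (hperf : commutator G = ⊤)
    {n : ℕ} (ρ : Representation ℂ G (Fin n → ℂ)) (hdeg : ρ.character 1 = 4) (y : G)
    (hy : y ^ 4 = 1) (h1 : ρ.character y = 0) (h2 : ρ.character (y ^ 2) = 0)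
    (h3 : ρ.character (y ^ 3) = 0) : False := by
  have hn : n = 4 := by
    have h : ρ.character 1 = (n : ℂ) := by
      simp [Representation.character]
    rw [h] at hdeg
    exact_mod_cast hdeg
  subst hn
  set A : Matrix (Fin 4) (Fin 4) ℂ := LinearMap.toMatrix' (ρ y) with hA
  have hmul : ∀ g h : G, LinearMap.toMatrix' (ρ (g * h))
      = LinearMap.toMatrix' (ρ g) * LinearMap.toMatrix' (ρ h) := by
    intro g h
    rw [map_mul, Module.End.mul_eq_comp, LinearMap.toMatrix'_comp]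
  have e2 : A * A = LinearMap.toMatrix' (ρ (y ^ 2)) := by
    rw [pow_two, hmul]
  have e3 : A * A * A = LinearMap.toMatrix' (ρ (y ^ 3)) := by
    rw [pow_succ, pow_two, hmul, hmul]
  have e4 : A * A * A * A = LinearMap.toMatrix' (ρ (y ^ 4)) := by
    rw [pow_succ, pow_succ, pow_two, hmul, hmul, hmul]
  have t1 : A.trace = 0 := by rw [hA, ← character_eq_matrix_trace, h1]
  have t2 : (A * A).trace = 0 := by rw [e2, ← character_eq_matrix_trace, h2]
  have t3 : (A * A * A).trace = 0 := by rw [e3, ← character_eq_matrix_trace, h3]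
  have t4 : (A * A * A * A).trace = 4 := by
    rw [e4, hy, ← character_eq_matrix_trace, hdeg]
  have hdet : A.det = 1 := by
    rw [hA, LinearMap.det_toMatrix']
    exact det_eq_one_of_perfect' hperf ρ y
  have hN := newton_four A
  rw [t1, t2, t3, t4, hdet] at hN
  norm_num at hN

end Cfsg.Agent.Lib.Helper64_SO_DET4
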