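import Mathlib

/-!
# S0496 package SO-VANISH (helper64, architect helper76)

If a character of degree `p - 1` takes the value `-1` at the nonidentity elements of a subgroup
`P` of prime order `p`, then it vanishes on `N(P) ∖ C(P)`.
-/

set_option autoImplicit false
open Subgroup

namespace Cfsg.Agent.Lib.Helper64_SO_VANISH

/-- an idempotent endomorphism of trace zero vanishes -/
theorem eq_zero_of_idempotent_of_trace_eq_zero {n : ℕ} (E : Module.End ℂ (Fin n → ℂ))
    (hE : IsIdempotentElem E) (htr : LinearMap.trace ℂ _ E = 0) : E = 0 := by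
  have h := (LinearMap.IsIdempotentElem.isProj_range E hE).trace
  rw [htr] at h
  have h0 : Module.finrank ℂ (LinearMap.range E) = 0 := by exact_mod_cast h.symm
  have hbot : LinearMap.range E = ⊥ := Submodule.finrank_eq_zero.mp h0
  exact LinearMap.range_eq_bot.mp hbot

theorem character_eq_zero_of_normalizes {G : Type*} [Group G] [Finite G] {n : ℕ}
    (ρ : Representation ℂ G (Fin n → ℂ)) (p : ℕ) [Fact p.Prime] (P : Subgroup G)
    (hP : Nat.card P = p) (hdeg : ρ.character 1 = (p : ℂ) - 1)
    (hval : ∀ x ∈ P, x ≠ 1 → ρ.character x = -1) (y : G)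
    (hyN : y ∈ normalizer (P : Set G)) (hyC : y ∉ centralizer (P : Set G)) :
    ρ.character y = 0 := by
  classical
  have : Fintype P := Fintype.ofFinite P
  have hp : p.Prime := Fact.out
  have hp0 : (p : ℂ) ≠ 0 := by exact_mod_cast hp.ne_zero
  have hcard : Fintype.card P = p := by rw [← Nat.card_eq_fintype_card]; exact hP
  set S : Module.End ℂ (Fin n → ℂ) := ∑ u : P, ρ (u : G) with hS
  -- `S * S = p S`
  have hSS : S * S = (p : ℂ) • S := by
    have h1 : ∀ u : P, ρ (u : G) * S = S := by
      intro u
      rw [hS, Finset.mul_sum]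
      have h0 : ∀ v : P, ρ (u : G) * ρ (v : G) = ρ ((u * v : P) : G) := by
        intro v
        rw [Subgroup.coe_mul, map_mul]
      rw [Finset.sum_congr rfl (fun v _ => h0 v)]
      exact Fintype.sum_equiv (Equiv.mulLeft u) _ _ (fun v => by simp)
    have h00 : S * S = ∑ u : P, ρ (u : G) * S := by
      rw [← Finset.sum_mul]
    rw [h00, Finset.sum_congr rfl (fun u _ => h1 u)]
    rw [Finset.sum_const, Finset.card_univ, hcard, Nat.cast_smul_eq_nsmul]
  -- trace of `S`
  have htrS : LinearMap.trace ℂ _ S = 0 := by
    rw [hS, map_sum]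
    have h2 : ∀ u : P, LinearMap.trace ℂ _ (ρ (u : G)) = (if u = 1 then (p : ℂ) else 0) - 1 := by
      intro u
      by_cases hu : u = 1
      · subst hu
        rw [if_pos rfl]
        have := hdeg
        rw [Representation.character] at this
        rw [Subgroup.coe_one, this]
      · rw [if_neg hu]
        have h3 := hval u u.2 (fun h => hu (Subtype.ext h))
        rw [Representation.character] at h3
        rw [h3]; ring
    simp_rw [h2]
    rw [Finset.sum_sub_distrib, Finset.sum_ite_eq' Finset.univ (1 : P) (fun _ => (p : ℂ))]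
    simp [hcard]
  -- the averaged element is an idempotent of trace zero, hence zero
  have hS0 : S = 0 := by
    have hE : IsIdempotentElem ((p : ℂ)⁻¹ • S) := by
      unfold IsIdempotentElem
      rw [smul_mul_smul_comm, hSS, smul_smul]
      congr 1
      field_simp
    have htrE : LinearMap.trace ℂ _ ((p : ℂ)⁻¹ • S) = 0 := by
      rw [map_smul, htrS, smul_zero]
    have h0 := eq_zero_of_idempotent_of_trace_eq_zero _ hE htrE
    have := congrArg (fun T => (p : ℂ) • T) h0
    simpa [smul_smul, hp0] using this
  -- hence the sum of the character over the coset `y P` vanishes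
  have hsum : ∑ u : P, ρ.character (y * (u : G)) = 0 := by
    have h4 : ∑ u : P, ρ.character (y * (u : G)) = LinearMap.trace ℂ _ (ρ y * S) := by
      rw [hS, Finset.mul_sum, map_sum]
      refine Finset.sum_congr rfl (fun u _ => ?_)
      rw [Representation.character, map_mul]
    rw [h4, hS0, mul_zero, map_zero]
  -- the centralizer of `y` in `P` is trivial
  have hK : P ⊓ centralizer {y} = ⊥ := by
    have hle : P ⊓ centralizer {y} ≤ P := inf_le_left
    have hdvd : Nat.card (P ⊓ centralizer {y} : Subgroup G) ∣ p := by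
      rw [← hP]; exact Subgroup.card_dvd_of_le hle
    rcases (Nat.dvd_prime hp).mp hdvd with h1 | h1
    · exact Subgroup.card_eq_one.mp h1
    · exfalso
      have heq : P ⊓ centralizer {y} = P :=
        Subgroup.eq_of_le_of_card_ge hle (by rw [h1, hP])
      apply hyC
      rw [mem_centralizer_iff]
      intro h hh
      have : h ∈ P ⊓ centralizer {y} := by rw [heq]; exact hh
      have h5 := (mem_centralizer_iff.mp this.2) y (Set.mem_singleton y)
      exact h5.symm
  -- the bijection `v ↦ y⁻¹ v y v⁻¹` of `P`
  have hmem : ∀ v : P, y⁻¹ * (v : G) * y * (v : G)⁻¹ ∈ P := by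
    intro v
    have h6 : y⁻¹ * (v : G) * y ∈ P := ((mem_normalizer_iff''.mp hyN) v).mp v.2
    exact P.mul_mem h6 (P.inv_mem v.2)
  set f : P → P := fun v => ⟨y⁻¹ * (v : G) * y * (v : G)⁻¹, hmem v⟩ with hf
  have hinj : Function.Injective f := by
    intro v w hvw
    have h7 : y⁻¹ * (v : G) * y * (v : G)⁻¹ = y⁻¹ * (w : G) * y * (w : G)⁻¹ :=
      congrArg Subtype.val hvw
    have h8 : (w : G)⁻¹ * (v : G) ∈ P ⊓ centralizer {y} := by
      refine Subgroup.mem_inf.mpr ⟨P.mul_mem (P.inv_mem w.2) v.2, ?_⟩
      rw [mem_centralizer_iff]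
      intro h hh
      rw [Set.mem_singleton_iff] at hh
      subst hh
      -- from `v y v⁻¹ = w y w⁻¹`
      have h9 : (v : G) * h * (v : G)⁻¹ = (w : G) * h * (w : G)⁻¹ := by
        have := congrArg (fun t => h * t) h7
        simpa [mul_assoc] using this
      calc h * ((w : G)⁻¹ * (v : G))
          = (w : G)⁻¹ * ((w : G) * h * (w : G)⁻¹) * (v : G) := by group
        _ = (w : G)⁻¹ * ((v : G) * h * (v : G)⁻¹) * (v : G) := by rw [h9]
        _ = (w : G)⁻¹ * (v : G) * h := by group
    rw [hK, Subgroup.mem_bot] at h8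
    apply Subtype.ext
    have : (v : G) = (w : G) * ((w : G)⁻¹ * (v : G)) := by group
    rw [this, h8, mul_one]
  have hbij : Function.Bijective f := Finite.injective_iff_bijective.mp hinj
  have hsum2 : ∑ u : P, ρ.character (y * (u : G)) = (p : ℂ) * ρ.character y := by
    rw [← (Equiv.ofBijective f hbij).sum_comp (fun u : P => ρ.character (y * (u : G)))]
    have h10 : ∀ v : P, ρ.character (y * ((Equiv.ofBijective f hbij v : P) : G))
        = ρ.character y := by
      intro v
      have : y * ((Equiv.ofBijective f hbij v : P) : G) = (v : G) * y * (v : G)⁻¹ := by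
        simp only [Equiv.ofBijective_apply, hf]
        group
      rw [this, Representation.char_conj]
    simp_rw [h10]
    rw [Finset.sum_const, Finset.card_univ, hcard, nsmul_eq_mul]
  rw [hsum2] at hsum
  exact (mul_eq_zero.mp hsum).resolve_left hp0

end Cfsg.Agent.Lib.Helper64_SO_VANISH
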