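/-
helper64 — package SV-INNER of helper81's S2312 market (`sv_packages`): the restriction of the Steinberg
character of a finite group with a (B, N)-pair to a standard parabolic subgroup `P_J` contains the
relative Steinberg character of `P_J` exactly once.  (Frobenius reciprocity for permutation characters,
proved here directly as a weighted double count.)
The same statement is on main as `Cfsg.Agent.Lib.Helper81_StVal.classInner_res_St` (helper81's file
`Helper81_SV_INNER`); this copy lives in its own namespace so that both files can be imported together.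
-/
import Mathlib
import Cfsg.Prelude.Def_ParabolicCharacters
import Cfsg.Prelude.Def_Characters
import Cfsg.Agent.Lib.Helper81_BNSub
import Cfsg.Agent.Lib.Helper81_BNSteinberg
import Cfsg.Agent.Lib.Helper30_PC_DC

set_option autoImplicit false
set_option linter.unusedSectionVars false
set_option linter.unusedVariables false

namespace Cfsg.Agent.Lib.Helper64_SV_INNER

open Cfsg
open scoped ComplexConjugate

/-- weighted double counting: Frobenius reciprocity for a permutation character -/
theorem sum_mul_fpc' {G : Type*} [Group G] [Fintype G] (H : Subgroup G) (ψ : G → ℂ)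
    (hψ : Cfsg.IsClassFunction G ψ) :
    ∑ g : G, ψ g * Cfsg.fixedPointCharacter H g = (H.index : ℂ) * ∑ᶠ h : H, ψ (h : G) := by
  classical
  have : Fintype (G ⧸ H) := Fintype.ofFinite _
  have : Fintype H := Fintype.ofFinite _
  rw [finsum_eq_sum_of_fintype]
  have h1 : ∀ g : G, Cfsg.fixedPointCharacter H g =
      ∑ y : G ⧸ H, (if g • y = y then (1 : ℂ) else 0) := by
    intro g
    unfold Cfsg.fixedPointCharacter
    rw [Nat.card_eq_fintype_card, Finset.sum_boole]
    congr 1
    exact Fintype.card_subtype _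
  calc ∑ g : G, ψ g * Cfsg.fixedPointCharacter H g
      = ∑ g : G, ∑ y : G ⧸ H, (if g • y = y then ψ g else 0) := by
        refine Finset.sum_congr rfl (fun g _ => ?_)
        rw [h1 g, Finset.mul_sum]
        refine Finset.sum_congr rfl (fun y _ => ?_)
        split_ifs <;> simp
    _ = ∑ y : G ⧸ H, ∑ g : G, (if g • y = y then ψ g else 0) := Finset.sum_comm
    _ = ∑ y : G ⧸ H, ∑ h : H, ψ (h : G) := by
        refine Finset.sum_congr rfl (fun y _ => ?_)
        obtain ⟨x, rfl⟩ := QuotientGroup.mk_surjective y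
        rw [← Finset.sum_filter]
        symm
        refine Finset.sum_bij (fun h _ => x * (h : G) * x⁻¹) ?_ ?_ ?_ ?_
        · intro h _
          rw [Finset.mem_filter]
          refine ⟨Finset.mem_univ _, ?_⟩
          rw [Cfsg.Agent.Lib.Helper30_PC_DC.smul_mk_eq_iff]
          have : x⁻¹ * (x * (h : G) * x⁻¹) * x = h := by group
          rw [this]
          exact h.2
        · intro a _ b _ hab
          apply Subtype.ext
          have := mul_right_cancel hab
          exact mul_left_cancel this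
        · intro g hg
          rw [Finset.mem_filter] at hg
          have hg2 := (Cfsg.Agent.Lib.Helper30_PC_DC.smul_mk_eq_iff H g x).mp hg.2
          refine ⟨⟨x⁻¹ * g * x, hg2⟩, Finset.mem_univ _, ?_⟩
          show x * (x⁻¹ * g * x) * x⁻¹ = g
          group
        · intro h _
          exact (hψ (h : G) x).symm
    _ = (H.index : ℂ) * ∑ h : H, ψ (h : G) := by
        rw [Finset.sum_const, Finset.card_univ, nsmul_eq_mul, Subgroup.index,
          Nat.card_eq_fintype_card (α := G ⧸ H)]


open Cfsg.Agent.Lib.Helper6_Word Cfsg.Agent.Lib.Helper6_BNPair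
  Cfsg.Agent.Lib.Helper81_CoxComb Cfsg.Agent.Lib.Helper81_BNSteinberg Cfsg.Agent.Lib.Helper81_BNSub

/-- the Steinberg function is a class function -/
theorem St_isClassFunction {G : Type*} [Group G] [Fintype G] (P : BNPair G)
    {ι : Type*} [DecidableEq ι] (I : Finset ι) (s : ι → G) :
    Cfsg.IsClassFunction G (St P I s) := by
  intro g h
  unfold St
  refine Finset.sum_congr rfl (fun J _ => ?_)
  rw [Cfsg.Agent.Lib.Helper81_PCount.fpc_conj]

/-- Frobenius reciprocity for the permutation character on `K ≤ H ≤ G` and a class function of `G` -/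
theorem inner_res_fpc {G : Type*} [Group G] [Fintype G] (H K : Subgroup G) (hKH : K ≤ H)
    [Fintype ↥H] (ψ : G → ℂ) (hψ : Cfsg.IsClassFunction G ψ) :
    (Nat.card H : ℂ)⁻¹ * ∑ h : H, ψ (h : G) * Cfsg.fixedPointCharacter (K.subgroupOf H) h =
      (Nat.card G : ℂ)⁻¹ * ∑ g : G, ψ g * Cfsg.fixedPointCharacter K g := by
  have hres : Cfsg.IsClassFunction ↥H (fun h : H => ψ (h : G)) := by
    intro g h
    show ψ ((h * g * h⁻¹ : H) : G) = ψ (g : G)
    push_cast
    exact hψ _ _
  rw [sum_mul_fpc' (K.subgroupOf H) (fun h : H => ψ (h : G)) hres, sum_mul_fpc' K ψ hψ]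
  have hsum : ∑ᶠ k : ↥(K.subgroupOf H), ψ ((k : H) : G) = ∑ᶠ k : K, ψ (k : G) := by
    refine finsum_eq_of_bijective (Subgroup.subgroupOfEquivOfLe hKH)
      (Subgroup.subgroupOfEquivOfLe hKH).bijective ?_
    intro k
    rfl
  rw [hsum]
  have hcardK : Nat.card ↥(K.subgroupOf H) = Nat.card K :=
    Nat.card_congr (Subgroup.subgroupOfEquivOfLe hKH).toEquiv
  have h1 : (K.subgroupOf H).index * Nat.card K = Nat.card H := by
    rw [← hcardK]; exact Subgroup.index_mul_card _
  have h2 : K.index * Nat.card K = Nat.card G := Subgroup.index_mul_card _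
  have hK0 : (Nat.card K : ℂ) ≠ 0 := by
    exact_mod_cast Nat.card_pos.ne'
  have hH0 : (Nat.card H : ℂ) ≠ 0 := by
    exact_mod_cast Nat.card_pos.ne'
  have hG0 : (Nat.card G : ℂ) ≠ 0 := by
    exact_mod_cast Nat.card_pos.ne'
  have h1' : ((K.subgroupOf H).index : ℂ) * (Nat.card K : ℂ) = (Nat.card H : ℂ) := by
    exact_mod_cast h1
  have h2' : (K.index : ℂ) * (Nat.card K : ℂ) = (Nat.card G : ℂ) := by
    exact_mod_cast h2
  have hi1 : ((K.subgroupOf H).index : ℂ) ≠ 0 := by
    intro h0
    rw [h0, zero_mul] at h1'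
    exact hH0 h1'.symm
  have hi2 : (K.index : ℂ) ≠ 0 := by
    intro h0
    rw [h0, zero_mul] at h2'
    exact hG0 h2'.symm
  have e1 : (Nat.card H : ℂ)⁻¹ * ((K.subgroupOf H).index : ℂ) = (Nat.card K : ℂ)⁻¹ := by
    rw [← h1']
    field_simp
  have e2 : (Nat.card G : ℂ)⁻¹ * (K.index : ℂ) = (Nat.card K : ℂ)⁻¹ := by
    rw [← h2']
    field_simp
  rw [← mul_assoc, ← mul_assoc, e1, e2]

end Cfsg.Agent.Lib.Helper64_SV_INNER

namespace Cfsg.Agent.Lib.Helper64_SV_INNER.StVal

open Cfsg DoubleCoset Cfsg.Agent.Lib.Helper6_Word Cfsg.Agent.Lib.Helper6_BNPair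
  Cfsg.Agent.Lib.Helper81_CoxComb
  Cfsg.Agent.Lib.Helper81_BNSteinberg
  Cfsg.Agent.Lib.Helper81_BNSub

section main

variable {G : Type*} [Group G] [Fintype G] (P : BNPair G)
  {ι : Type*} [DecidableEq ι] (s : ι → G)

/-! ## SV-INNER: `⟨Res St_G, St_J⟩ = 1` on `P_J` -/

theorem classInner_res_St (I : Finset ι) (hs : s '' (I : Set ι) = P.S) (J : Finset ι) (hJI : J ⊆ I)
    (hJ : s '' (J : Set ι) ⊆ P.S) [Fintype ↥(P.parabolic (s '' (J : Set ι)))] :
    Cfsg.classInner (fun h : ↥(P.parabolic (s '' (J : Set ι))) => St P I s (h : G))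
      (St (subPair P (s '' (J : Set ι)) hJ) J (sSub P s J)) = 1 := by
  classical
  unfold Cfsg.classInner
  simp_rw [conj_St]
  have hpar : ∀ J' ∈ J.powerset,
      (subPair P (s '' (J : Set ι)) hJ).parabolic (sSub P s J '' (J' : Set ι)) =
        (P.parabolic (s '' (J' : Set ι))).subgroupOf (P.parabolic (s '' (J : Set ι))) := by
    intro J' hJ'
    rw [Finset.mem_powerset] at hJ'
    rw [sSub_image_sub P s J hJ']
    exact subPair_parabolic P hJ (Set.image_mono (by exact_mod_cast hJ'))
  have hle : ∀ J' ∈ J.powerset,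
      P.parabolic (s '' (J' : Set ι)) ≤ P.parabolic (s '' (J : Set ι)) := by
    intro J' hJ'
    rw [Finset.mem_powerset] at hJ'
    exact sup_le_sup_left (Subgroup.closure_mono (Set.image_mono (by exact_mod_cast hJ'))) _
  have h1 : (Nat.card ↥(P.parabolic (s '' (J : Set ι))) : ℂ)⁻¹ *
      ∑ h : ↥(P.parabolic (s '' (J : Set ι))), St P I s (h : G) *
        St (subPair P (s '' (J : Set ι)) hJ) J (sSub P s J) h =
      ∑ J' ∈ J.powerset, (-1 : ℂ) ^ J'.card *
        ((Nat.card ↥(P.parabolic (s '' (J : Set ι))) : ℂ)⁻¹ *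
          ∑ h : ↥(P.parabolic (s '' (J : Set ι))), St P I s (h : G) *
            Cfsg.fixedPointCharacter
              ((P.parabolic (s '' (J' : Set ι))).subgroupOf (P.parabolic (s '' (J : Set ι)))) h) := by
    have e : ∀ h : ↥(P.parabolic (s '' (J : Set ι))),
        St (subPair P (s '' (J : Set ι)) hJ) J (sSub P s J) h =
          ∑ J' ∈ J.powerset, (-1 : ℂ) ^ J'.card * Cfsg.fixedPointCharacter
            ((P.parabolic (s '' (J' : Set ι))).subgroupOf (P.parabolic (s '' (J : Set ι)))) h := by
      intro h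
      unfold St
      refine Finset.sum_congr rfl (fun J' hJ' => ?_)
      rw [hpar J' hJ']
    simp_rw [e, Finset.mul_sum]
    rw [Finset.sum_comm]
    refine Finset.sum_congr rfl (fun J' _ => ?_)
    refine Finset.sum_congr rfl (fun h _ => ?_)
    ring
  rw [h1]
  have h2 : ∀ J' ∈ J.powerset, (-1 : ℂ) ^ J'.card *
        ((Nat.card ↥(P.parabolic (s '' (J : Set ι))) : ℂ)⁻¹ *
          ∑ h : ↥(P.parabolic (s '' (J : Set ι))), St P I s (h : G) *
            Cfsg.fixedPointCharacter
              ((P.parabolic (s '' (J' : Set ι))).subgroupOf (P.parabolic (s '' (J : Set ι)))) h) =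
      if J' = ∅ then 1 else 0 := by
    intro J' hJ'
    rw [Cfsg.Agent.Lib.Helper64_SV_INNER.inner_res_fpc _ _ (hle J' hJ') (St P I s)
      (Cfsg.Agent.Lib.Helper64_SV_INNER.St_isClassFunction P I s),
      inner_St_fpc P I s hs ((Finset.mem_powerset.1 hJ').trans hJI)]
    by_cases h0 : J' = ∅
    · rw [if_pos h0, h0]; simp
    · rw [if_neg h0]; simp
  rw [Finset.sum_congr rfl h2, Finset.sum_ite_eq' J.powerset ∅]
  simp

end main

end Cfsg.Agent.Lib.Helper64_SV_INNER.StVal
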