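import Mathlib

/-!
# S5789 package RALG (helper64, architect helper67): pure field theory

Over a finite field `F` of characteristic two with a subfield `F₀` of prime codegree, an additive
`F₀`-stable set `A` (with the relations of the root parameter sets) containing an element outside
`F₀` is everything.
-/

set_option autoImplicit false
set_option linter.unusedSectionVars false
set_option linter.unusedVariables false

namespace Cfsg.Agent.Lib.Helper64_Sp4E_RALG

section Alg

variable {F : Type*} [Field F] [CharP F 2] [Finite F] (F₀ : Subfield F)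

theorem alg_core (hp : (Module.finrank F₀ F).Prime) (A L : Set F)
    (hL0 : ∀ c ∈ F₀, c ∈ L)
    (hAadd : ∀ c ∈ A, ∀ d ∈ A, c + d ∈ A) (hAmul : ∀ μ ∈ F₀, ∀ c ∈ A, μ * c ∈ A)
    (hLA : ∀ t ∈ L, t ∈ A) (hAL : ∀ s ∈ A, s * s ∈ L)
    (hR1 : ∀ s ∈ A, ∀ t ∈ L, (s * s + s) * t ∈ A)
    (hex : ∃ c ∈ A, c ∉ F₀) : ∀ c : F, c ∈ A := by
  classical
  have h1A : (1 : F) ∈ A := hLA 1 (hL0 1 F₀.one_mem)
  have h0A : (0 : F) ∈ A := by simpa using hAmul 0 F₀.zero_mem 1 h1A
  have hsq : ∀ s ∈ A, s * s ∈ A := fun s hs => hLA _ (hAL s hs)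
  -- `A ⊆ L` because squaring is a bijection of the finite set `A`
  have hAsubL : ∀ a ∈ A, a ∈ L := by
    intro a ha
    let f : A → A := fun s => ⟨s.1 * s.1, hsq s.1 s.2⟩
    have hinj : Function.Injective f := by
      intro s t hst
      have h : s.1 * s.1 = t.1 * t.1 := congrArg Subtype.val hst
      have h2 : (s.1 + t.1) * (s.1 + t.1) = 0 := by
        rw [CharTwo.add_mul_self, h, CharTwo.add_self_eq_zero]
      have h3 : s.1 + t.1 = 0 := mul_self_eq_zero.mp h2
      exact Subtype.ext (CharTwo.add_eq_zero.mp h3)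
    have hsurj : Function.Surjective f := Finite.injective_iff_surjective.mp hinj
    obtain ⟨s, hs⟩ := hsurj ⟨a, ha⟩
    have h : s.1 * s.1 = a := congrArg Subtype.val hs
    rw [← h]
    exact hAL s.1 s.2
  -- the algebra of multipliers of `A`
  let M : Subalgebra F₀ F :=
    { carrier := {μ | ∀ a ∈ A, μ * a ∈ A}
      mul_mem' := fun {x y} hx hy a ha => by
        rw [mul_assoc]; exact hx _ (hy a ha)
      one_mem' := fun a ha => by rwa [one_mul]
      add_mem' := fun {x y} hx hy a ha => by
        rw [add_mul]; exact hAadd _ (hx a ha) _ (hy a ha)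
      zero_mem' := fun a ha => by rw [zero_mul]; exact h0A
      algebraMap_mem' := fun r a ha => hAmul _ r.2 a ha }
  have hMdef : ∀ μ : F, μ ∈ M ↔ ∀ a ∈ A, μ * a ∈ A := fun μ => Iff.rfl
  have hPM : ∀ s ∈ A, s * s + s ∈ M := fun s hs =>
    (hMdef _).mpr (fun a ha => hR1 s hs a (hAsubL a ha))
  rcases (Subalgebra.isSimpleOrder_of_finrank_prime F₀ F hp).eq_bot_or_eq_top M with hM | hM
  · -- `M = F₀`: impossible
    exfalso
    have hMF : ∀ μ ∈ M, μ ∈ F₀ := by
      intro μ hμ
      rw [hM, Algebra.mem_bot] at hμ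
      obtain ⟨r, rfl⟩ := hμ
      exact r.2
    obtain ⟨s0, hs0A, hs0F⟩ := hex
    -- `F₀ = {0, 1}`
    have hF01 : ∀ μ ∈ F₀, μ = 0 ∨ μ = 1 := by
      intro μ hμ
      have h1 : (μ * s0) * (μ * s0) + μ * s0 ∈ F₀ := hMF _ (hPM _ (hAmul μ hμ s0 hs0A))
      have h2 : s0 * s0 + s0 ∈ F₀ := hMF _ (hPM s0 hs0A)
      have h3 : (μ * μ + μ) * s0 ∈ F₀ := by
        have h4 : (μ * s0) * (μ * s0) + μ * s0 + μ * μ * (s0 * s0 + s0) ∈ F₀ :=
          F₀.add_mem h1 (F₀.mul_mem (F₀.mul_mem hμ hμ) h2)
        have h5 : (μ * s0) * (μ * s0) + μ * s0 + μ * μ * (s0 * s0 + s0) = (μ * μ + μ) * s0 := by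
          have h6 : (μ * μ * s0 * s0) + (μ * μ * s0 * s0) = 0 := CharTwo.add_self_eq_zero _
          linear_combination h6
        rwa [h5] at h4
      by_contra hne
      push Not at hne
      have h6 : μ * μ + μ ≠ 0 := by
        intro h
        have h7 : μ * (μ + 1) = 0 := by rw [mul_add, mul_one]; exact h
        rcases mul_eq_zero.mp h7 with h | h
        · exact hne.1 h
        · exact hne.2 (CharTwo.add_eq_zero.mp h)
      apply hs0F
      have h8 : s0 = (μ * μ + μ)⁻¹ * ((μ * μ + μ) * s0) := by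
        rw [← mul_assoc, inv_mul_cancel₀ h6, one_mul]
      rw [h8]
      exact F₀.mul_mem (F₀.inv_mem (F₀.add_mem (F₀.mul_mem hμ hμ) hμ)) h3
    -- elements of `A` outside `F₀` satisfy `s² = s + 1`
    have hquad : ∀ s ∈ A, s ∉ F₀ → s * s = s + 1 := by
      intro s hs hsF
      rcases hF01 _ (hMF _ (hPM s hs)) with h | h
      · exfalso
        apply hsF
        have h7 : s * (s + 1) = 0 := by rw [mul_add, mul_one]; exact h
        rcases mul_eq_zero.mp h7 with h | h
        · rw [h]; exact F₀.zero_mem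
        · rw [CharTwo.add_eq_zero.mp h]; exact F₀.one_mem
      · have h7 := CharTwo.add_eq_iff_eq_add.mp h
        rw [h7, add_comm]
    -- hence `s0` multiplies `A` into `A`
    have hs0M : s0 ∈ M := by
      refine (hMdef _).mpr (fun a ha => ?_)
      by_cases haF : a ∈ F₀
      · rw [mul_comm]; exact hAmul a haF s0 hs0A
      · have h1 := hquad a ha haF
        have h2 := hquad s0 hs0A hs0F
        have h11 : (1 : F) + 1 = 0 := CharTwo.add_self_eq_zero 1
        have h3 : (a + s0) * (a + s0) = a + s0 := by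
          rw [CharTwo.add_mul_self, h1, h2]
          linear_combination h11
        have h4 : (a + s0) * (a + s0 + 1) = 0 := by
          rw [mul_add, mul_one, h3, CharTwo.add_self_eq_zero]
        rcases mul_eq_zero.mp h4 with h | h
        · have h5 : a = s0 := CharTwo.add_eq_zero.mp h
          rw [h5, h2]
          exact hAadd _ hs0A _ h1A
        · have h5 : a + s0 = 1 := CharTwo.add_eq_zero.mp h
          have h6 : a = 1 + s0 := CharTwo.add_eq_iff_eq_add.mp h5
          have h7 : s0 * a = 1 := by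
            rw [h6, mul_add, mul_one, h2]
            linear_combination CharTwo.add_self_eq_zero s0
          rw [h7]
          exact h1A
    exact hs0F (hMF s0 hs0M)
  · -- `M = F`
    intro c
    have hc : c ∈ M := by rw [hM]; exact Algebra.mem_top
    have := (hMdef c).mp hc 1 h1A
    rwa [mul_one] at this

end Alg

end Cfsg.Agent.Lib.Helper64_Sp4E_RALG
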