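/-
Package INJ of helper68's S2545 market: distinct simple reflections of `Sp_{2m}(F)` have distinct images in
the Weyl group: `(ss i)⁻¹ * ss j ∈ B` forces `i = j`.
-/
import Mathlib
import Cfsg.Agent.Lib.Helper68_StSpDefs
import Cfsg.Agent.Lib.Helper44_SpUT
import Cfsg.Agent.Lib.Helper64_StSp_R3S

set_option autoImplicit false

namespace Cfsg.Agent.Lib.Helper64_StSp_INJ

open Matrix Cfsg.Agent.Lib.Helper68_MatGrp Cfsg.Agent.Lib.Helper5_SpPerfect
  Cfsg.Agent.Lib.Helper68_StSpDefs Cfsg.Agent.Lib.Helper13_SympTrans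

variable {m : ℕ} {F : Type*} [Field F]

theorem swapMat_mul_apply (i k : Fin m) (M : Matrix (Fin m) (Fin m) F) (a b : Fin m) :
    ((swapMat i k : Matrix (Fin m) (Fin m) F) * M) a b = M (Equiv.swap i k a) b := by
  rw [Matrix.mul_apply, Finset.sum_eq_single (Equiv.swap i k a)]
  · rw [swapMat_apply, Equiv.swap_apply_self, if_pos rfl, one_mul]
  · intro c _ hc
    rw [swapMat_apply, if_neg, zero_mul]
    intro h
    apply hc
    rw [h, Equiv.swap_apply_self]
  · intro h
    exact absurd (Finset.mem_univ _) h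

theorem ss_short (i : Fin m) (hi : i.val + 1 < m) :
    (ss i : ↥(symplecticGroup (Fin m) F)) = wL i ⟨i.val + 1, hi⟩ := by
  unfold ss
  rw [dif_pos hi]

theorem ss_long (i : Fin m) (hi : ¬ i.val + 1 < m) :
    (ss i : ↥(symplecticGroup (Fin m) F)) = wX i := by
  unfold ss
  rw [dif_neg hi]

theorem ss_not_mem_of_lt (i j : Fin m) (hij : i < j) :
    (ss i : ↥(symplecticGroup (Fin m) F))⁻¹ * ss j ∉ Bsp m F := by
  intro h
  have hij' : i.val < j.val := hij
  have hi : i.val + 1 < m := by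
    have := j.2
    omega
  rw [ss_short i hi, Cfsg.Agent.Lib.Helper64_StSp_R3S.wL_inv, mem_Bsp] at h
  by_cases hj : j.val + 1 < m
  · rw [ss_short j hj] at h
    have h1 := h (Sum.inl ⟨j.val + 1, hj⟩) (Sum.inl j) (by
      show j.val < j.val + 1
      omega)
    have h2 : ((wL i ⟨i.val + 1, hi⟩ : ↥(symplecticGroup (Fin m) F)) * wL j ⟨j.val + 1, hj⟩).1 =
        (wL i ⟨i.val + 1, hi⟩ : ↥(symplecticGroup (Fin m) F)).1 *
          (wL j ⟨j.val + 1, hj⟩ : ↥(symplecticGroup (Fin m) F)).1 := rfl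
    rw [h2, wL_val, wL_val, Matrix.fromBlocks_multiply, Matrix.fromBlocks_apply₁₁, Matrix.mul_zero,
      add_zero, swapMat_mul_apply, swapMat_apply] at h1
    have hne1 : (⟨j.val + 1, hj⟩ : Fin m) ≠ i := by
      intro e
      have := congrArg Fin.val e
      simp only at this
      omega
    have hne2 : (⟨j.val + 1, hj⟩ : Fin m) ≠ ⟨i.val + 1, hi⟩ := by
      intro e
      have := congrArg Fin.val e
      simp only at this
      omega
    rw [Equiv.swap_apply_of_ne_of_ne hne1 hne2, Equiv.swap_apply_left, if_pos rfl] at h1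
    exact one_ne_zero h1
  · rw [ss_long j hj] at h
    have h1 := h (Sum.inr (Equiv.swap i ⟨i.val + 1, hi⟩ j)) (Sum.inl j) (by
      simp only [ht_inl, ht_inr]
      have := (Equiv.swap i ⟨i.val + 1, hi⟩ j).2
      have := j.2
      omega)
    have h2 : ((wL i ⟨i.val + 1, hi⟩ : ↥(symplecticGroup (Fin m) F)) * wX j).1 =
        (wL i ⟨i.val + 1, hi⟩ : ↥(symplecticGroup (Fin m) F)).1 *
          (wX j : ↥(symplecticGroup (Fin m) F)).1 := rfl
    rw [h2, wL_val, wX_val, Matrix.fromBlocks_multiply, Matrix.fromBlocks_apply₂₁, Matrix.zero_mul,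
      zero_add, swapMat_mul_apply, Equiv.swap_apply_self, Matrix.single_apply, if_pos ⟨rfl, rfl⟩] at h1
    exact one_ne_zero h1

theorem ss_inj (i j : Fin m) (h : (ss i : ↥(symplecticGroup (Fin m) F))⁻¹ * ss j ∈ Bsp m F) : i = j := by
  by_contra hne
  rcases lt_or_gt_of_ne hne with hlt | hgt
  · exact ss_not_mem_of_lt i j hlt h
  · apply ss_not_mem_of_lt (F := F) j i hgt
    have := (Bsp m F).inv_mem h
    rwa [_root_.mul_inv_rev, inv_inv] at this

end Cfsg.Agent.Lib.Helper64_StSp_INJ
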