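import Mathlib
import Cfsg.Prelude.Def_Blocks
import Cfsg.Agent.Lib.Helper16_BlockOrth
import Cfsg.Agent.Lib.Helper21_BSW_B5c
import Cfsg.Agent.Lib.Helper81_CharOrth

/-!
# B6-BLOCK (helper15's market, S4484)

A nonprincipal irreducible character of `q'`-degree in the principal `p`-block, when `p ∣ |G|`:
block orthogonality between `1` and an element `x` of order `p` gives
`∑_{χ ∈ B₀} χ 1 * χ x⁻¹ = 0`; if `q` divided the degrees of all `χ ≠ 1` in `B₀` then `-1 / q` would
be an algebraic integer.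
-/

set_option autoImplicit false

namespace Cfsg.Agent.Lib.Helper65_B6_BLOCK

open Cfsg Cfsg.Agent.Lib.Helper80_CharBasic

theorem exists_char {G : Type*} [Group G] [Finite G] {p q : ℕ} {M : Ideal AlgInt}
    (hM : IsPModular p M) (hq : q.Prime) (hpG : p ∣ Nat.card G) :
    ∃ χ : IrrCharacter G, χ ∈ principalBlock M G ∧ (χ : G → ℂ) ≠ (fun _ => 1) ∧
      ¬ q ∣ charDegree (χ : G → ℂ) := by
  classical
  have hfin : Finite (IrrCharacter G) := Cfsg.Agent.Lib.Helper81_CharOrth.finite_irrCharacter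
  by_contra hcon
  push Not at hcon
  have hpp : Fact p.Prime := ⟨hM.1⟩
  obtain ⟨x, hx⟩ := exists_prime_orderOf_dvd_card' p hpG
  have hx1 : x ≠ 1 := by
    intro h
    rw [h, orderOf_one] at hx
    exact hM.1.one_lt.ne hx
  have hnp1 : ¬ p ∣ orderOf (1 : G) := by
    rw [orderOf_one, Nat.dvd_one]
    exact hM.1.one_lt.ne'
  have hB : IsPBlock M (principalBlock M G) := ⟨oneIrr G, rfl⟩
  have h1 : IsPPart p (1 : G) 1 :=
    ⟨1, one_mul 1, Commute.one_right 1, ⟨0, by rw [orderOf_one, pow_zero]⟩, hnp1⟩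
  have hxp : IsPPart p x x :=
    ⟨1, mul_one x, Commute.one_right x, ⟨1, by rw [hx, pow_one]⟩, hnp1⟩
  have hnc : ¬ IsConj (1 : G) x := by
    intro h
    exact hx1 (isConj_one_left.1 h.symm)
  have horth := Cfsg.Agent.Lib.Helper16_BlockOrth.block_orthogonality_inv hM hB h1 hxp hnc
  rw [finsum_mem_eq_finite_toFinset_sum _ (Set.toFinite (principalBlock M G))] at horth
  -- the principal character lies in the principal block
  have hone : oneIrr G ∈ principalBlock M G := by
    intro g
    refine ⟨0, 1, M.zero_mem, ?_, ?_⟩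
    · intro h
      exact hM.2.1.ne_top ((Ideal.eq_top_iff_one M).2 h)
    · simp [oneIrr]
  -- the correction terms
  let gf : IrrCharacter G → ℂ := fun χ =>
    if χ = oneIrr G then 0 else ((charDegree (χ : G → ℂ) / q : ℕ) : ℂ) * (χ : G → ℂ) x⁻¹
  have hdecomp : ∀ χ ∈ (Set.toFinite (principalBlock M G)).toFinset,
      (χ : G → ℂ) 1 * (χ : G → ℂ) x⁻¹ = (if χ = oneIrr G then (1 : ℂ) else 0) + (q : ℂ) * gf χ := by
    intro χ hχ
    rw [Set.Finite.mem_toFinset] at hχ
    by_cases h : χ = oneIrr G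
    · simp only [gf, if_pos h]
      rw [h]
      simp [oneIrr]
    · simp only [gf, if_neg h]
      have hne : (χ : G → ℂ) ≠ (fun _ => 1) := by
        intro e
        apply h
        exact Subtype.ext e
      obtain ⟨n, hn0, hn⟩ := irr_apply_one χ
      have hdeg : charDegree (χ : G → ℂ) = n := by
        unfold charDegree
        rw [hn]
        simp
      obtain ⟨k, hk⟩ := hcon χ hχ hne
      rw [hdeg] at hk ⊢
      rw [hn, hk, Nat.mul_div_cancel_left k hq.pos]
      push_cast
      ring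
  rw [Finset.sum_congr rfl hdecomp, Finset.sum_add_distrib, Finset.sum_ite_eq', ← Finset.mul_sum,
    if_pos ((Set.Finite.mem_toFinset _).2 hone)] at horth
  -- the sum of the correction terms is an algebraic integer
  have hint : IsIntegral ℤ (∑ χ ∈ (Set.toFinite (principalBlock M G)).toFinset, gf χ) := by
    apply IsIntegral.sum
    intro χ _
    by_cases h : χ = oneIrr G
    · simp only [gf, if_pos h]
      exact isIntegral_zero
    · simp only [gf, if_neg h]
      have hnat : IsIntegral ℤ (((charDegree (χ : G → ℂ) / q : ℕ) : ℂ)) := by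
        have h := isIntegral_algebraMap (R := ℤ) (A := ℂ)
          (x := (((charDegree (χ : G → ℂ) / q : ℕ) : ℕ) : ℤ))
        rwa [eq_intCast, Int.cast_natCast] at h
      exact IsIntegral.mul hnat (Cfsg.Agent.Lib.Helper21_BSW_B5c.isIntegral_irr_apply χ x⁻¹)
  have hq0 : (q : ℂ) ≠ 0 := by exact_mod_cast hq.ne_zero
  have hβ : (∑ χ ∈ (Set.toFinite (principalBlock M G)).toFinset, gf χ) = ((-(1 : ℚ) / q : ℚ) : ℂ) := by
    push_cast
    field_simp
    linear_combination horth
  rw [hβ] at hint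
  obtain ⟨z, hz⟩ := Cfsg.Agent.Lib.Helper21_BSW_B5c.int_of_isIntegral_rat _ hint
  have hq0' : (q : ℚ) ≠ 0 := by exact_mod_cast hq.ne_zero
  have h3 : (z : ℚ) * q = -1 := by
    rw [← hz]
    field_simp
  have h4 : z * (q : ℤ) = -1 := by exact_mod_cast h3
  have h5 : (q : ℤ) ∣ 1 := ⟨-z, by linarith⟩
  have h6 : q ∣ 1 := by exact_mod_cast h5
  exact hq.one_lt.ne' (Nat.dvd_one.1 h6)

end Cfsg.Agent.Lib.Helper65_B6_BLOCK
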