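import Mathlib
import Cfsg.Agent.Lib.Helper5_PSLCard

/-!
# BR2-ORD (helper65, for helper77's S4701): `p ^ 3 ≤ 3 |PSL(2,F)|` for `|F| = p` or
`|F| = 2 ^ m = p - 1`.
-/

set_option autoImplicit false

namespace Cfsg.Agent.Lib.Helper65_BR2_ORD

/-- pure arithmetic, odd case: `a * 2 = p (p² - 1)` gives `p³ ≤ 3 a` for `p ≥ 2`. -/
theorem arith_odd (p a : ℕ) (hp : 2 ≤ p) (h : a * 2 = p * (p ^ 2 - 1)) : p ^ 3 ≤ 3 * a := by
  obtain ⟨k, rfl⟩ : ∃ k, p = k + 2 := ⟨p - 2, by omega⟩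
  have h1 : (k + 2) ^ 2 - 1 = k ^ 2 + 4 * k + 3 := by
    have : (k + 2) ^ 2 = k ^ 2 + 4 * k + 3 + 1 := by ring
    omega
  rw [h1] at h
  nlinarith [h, sq_nonneg k]

/-- pure arithmetic, even case: `a = q (q² - 1)`, `p = q + 1`, `q ≥ 4`. -/
theorem arith_even (q a : ℕ) (hq : 4 ≤ q) (h : a = q * (q ^ 2 - 1)) : (q + 1) ^ 3 ≤ 3 * a := by
  obtain ⟨k, rfl⟩ : ∃ k, q = k + 4 := ⟨q - 4, by omega⟩
  have h1 : (k + 4) ^ 2 - 1 = k ^ 2 + 8 * k + 15 := by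
    have : (k + 4) ^ 2 = k ^ 2 + 8 * k + 15 + 1 := by ring
    omega
  rw [h1] at h
  subst h
  nlinarith [sq_nonneg k, pow_pos (Nat.succ_pos k) 3]

theorem ORD (p : ℕ) [Fact p.Prime] (h3 : 3 < p) (F : Type) [Field F] [Fintype F]
    (hF : Fintype.card F = p ∨ ∃ m : ℕ, Fintype.card F = 2 ^ m ∧ p = 2 ^ m + 1) :
    p ^ 3 ≤ 3 * Nat.card (Matrix.ProjectiveSpecialLinearGroup (Fin 2) F) := by
  have h1 := Cfsg.Agent.Lib.Helper5_PSLCard.card_PSL_mul (F := F) 2 (by norm_num)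
  rw [Cfsg.Agent.Lib.Helper5_PSLCard.card_SL_two] at h1
  have hpp : p.Prime := Fact.out
  rcases hF with hF | ⟨m, hF, hpm⟩
  · rw [hF] at h1
    have hodd : Odd p := hpp.odd_of_ne_two (by omega)
    have hg : Nat.gcd (p - 1) 2 = 2 := by
      apply Nat.gcd_eq_right
      obtain ⟨k, hk⟩ := hodd
      exact ⟨k, by omega⟩
    rw [hg] at h1
    exact arith_odd p _ (by omega) h1
  · rw [hF] at h1
    have hm2 : 2 ≤ m := by
      by_contra hlt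
      have : m = 0 ∨ m = 1 := by omega
      rcases this with rfl | rfl <;> norm_num at hpm <;> omega
    have hq4 : 4 ≤ 2 ^ m := by
      calc 4 = 2 ^ 2 := by norm_num
        _ ≤ 2 ^ m := Nat.pow_le_pow_right (by norm_num) hm2
    have hg : Nat.gcd (2 ^ m - 1) 2 = 1 := by
      have h2 : 2 ∣ 2 ^ m := dvd_pow_self 2 (by omega)
      have hodd : ¬ 2 ∣ 2 ^ m - 1 := by omega
      exact (Nat.coprime_comm.1 ((Nat.Prime.coprime_iff_not_dvd Nat.prime_two).2 hodd))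
    rw [hg, mul_one] at h1
    rw [hpm]
    exact arith_even (2 ^ m) _ hq4 h1

end Cfsg.Agent.Lib.Helper65_BR2_ORD
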