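import Mathlib

/-!
# BR2-SLE (helper65, for helper77's S4701): `PSL(2,F) ≃* SL(2,F)` for `|F| = 2 ^ m`, `m ≥ 1`.
-/

set_option autoImplicit false

namespace Cfsg.Agent.Lib.Helper65_BR2_SLE

open Matrix

/-- `2 = 0` in a field with `2 ^ m` elements, `m ≥ 1`. -/
theorem two_eq_zero_of_card (F : Type) [Field F] [Fintype F] (m : ℕ) (hm : m ≠ 0)
    (hF : Fintype.card F = 2 ^ m) : (2 : F) = 0 := by
  have hcard : ((2 ^ m : ℕ) : F) = 0 := by
    rw [← hF]; exact FiniteField.cast_card_eq_zero F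
  have : (2 : F) ^ m = 0 := by exact_mod_cast hcard
  exact (pow_eq_zero_iff hm).1 this

/-- The centre of `SL₂(F)` is trivial when `2 = 0`. -/
theorem center_eq_bot_of_two (F : Type) [Field F] (h2 : (2 : F) = 0) :
    Subgroup.center (SpecialLinearGroup (Fin 2) F) = ⊥ := by
  rw [eq_bot_iff]
  intro z hz
  obtain ⟨r, hr, hz'⟩ := Matrix.SpecialLinearGroup.mem_center_iff.1 hz
  rw [Fintype.card_fin] at hr
  have h1 : (r - 1) ^ 2 = 0 := by
    have : (r - 1) ^ 2 = r ^ 2 - 2 * r + 1 + 0 := by ring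
    rw [this, hr, h2]
    have h11 : (1 : F) + 1 = 0 := by rw [← h2]; norm_num
    linear_combination h11
  have h3 : r = 1 := by
    have := pow_eq_zero_iff (two_ne_zero) |>.1 h1
    exact sub_eq_zero.1 this
  rw [Subgroup.mem_bot]
  apply Matrix.SpecialLinearGroup.ext
  intro i j
  rw [← hz', h3]
  simp

theorem SLE (F : Type) [Field F] [Fintype F] (m : ℕ) (hm : m ≠ 0) (hF : Fintype.card F = 2 ^ m) :
    Nonempty (Matrix.ProjectiveSpecialLinearGroup (Fin 2) F ≃* Matrix.SpecialLinearGroup (Fin 2) F) :=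
  ⟨(QuotientGroup.quotientMulEquivOfEq
      (center_eq_bot_of_two F (two_eq_zero_of_card F m hm hF))).trans QuotientGroup.quotientBot⟩

end Cfsg.Agent.Lib.Helper65_BR2_SLE
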