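import Cfsg.Agent.Lib.Helper77_BRDefs
import Cfsg.Agent.Lib.Helper75_Induced
import Cfsg.Agent.Lib.Helper15_IndFun

/-!
# S0999 / S4701 (helper77's market): package INDVAL

Values of `μ_i^G`: degree `|Syl_p(G)|`, value `1` on `P \ 1`, and `1_N^G` is the permutation
character on `Syl_p(G)`.
-/

set_option autoImplicit false

namespace Cfsg.Agent.Lib.Helper75_BR_INDVAL

open Cfsg Cfsg.Agent.Lib.Helper80_CharBasic Cfsg.Agent.Lib.Helper77_BRDefs
open scoped ComplexConjugate

universe u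

variable {G : Type u} [Group G] [Fintype G] {p : ℕ} [hp : Fact p.Prime]

/-- fixed cosets of `N_G(P)` correspond to fixed Sylow subgroups -/
theorem card_fixed_eq (P : Sylow p G) (U : Subgroup G) (hU : U = MulAction.stabilizer G P)
    (g : G) :
    Nat.card {c : G ⧸ U // g • c = c} = Nat.card {Q : Sylow p G // g • Q = Q} := by
  subst hU
  apply Nat.card_congr
  have hbij : Function.Bijective (MulAction.ofQuotientStabilizer G P) := by
    refine ⟨MulAction.injective_ofQuotientStabilizer G P, fun Q => ?_⟩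
    obtain ⟨x, hx⟩ := MulAction.exists_smul_eq G P Q
    exact ⟨QuotientGroup.mk x, hx⟩
  refine Equiv.subtypeEquiv (Equiv.ofBijective _ hbij) (fun c => ?_)
  rw [Equiv.ofBijective_apply, ← MulAction.ofQuotientStabilizer_smul,
    (MulAction.injective_ofQuotientStabilizer G P).eq_iff]

omit [Fintype G] in
/-- a conjugate of `1 ≠ z ∈ P` lying in `N_G(P)` forces the conjugator into `N_G(P)` -/
theorem mem_nrm_of_conj_mem (P : Sylow p G) (hP : Nat.card P = p) [Finite G] {z : G}
    (hz : z ∈ (P : Subgroup G)) (hz1 : z ≠ 1) {x : G} (hx : x⁻¹ * z * x ∈ Nrm P) :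
    x ∈ Nrm P := by
  -- y = x⁻¹ z x is a p-element of N, hence in P
  have hyP : x⁻¹ * z * x ∈ (P : Subgroup G) := by
    have hpg : IsPGroup p (Subgroup.zpowers (x⁻¹ * z * x)) := by
      have h1 : Subgroup.zpowers (x⁻¹ * z * x) ≤ (P : Subgroup G).map (MulAut.conj x⁻¹).toMonoidHom := by
        rw [Subgroup.zpowers_le]
        exact Subgroup.mem_map.mpr ⟨z, hz, by simp [MulAut.conj_apply]⟩
      exact (P.2.map _).to_le h1
    have h2 := hpg.inf_normalizer_sylow P
    have h3 : x⁻¹ * z * x ∈ Subgroup.zpowers (x⁻¹ * z * x) ⊓ Subgroup.normalizer (P : Set G) :=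
      ⟨Subgroup.mem_zpowers _, hx⟩
    rw [h2] at h3
    exact h3.2
  -- x⁻¹ normalises P
  have hne : (⟨z, hz⟩ : ↥(P : Subgroup G)) ≠ 1 := fun h => hz1 (congrArg Subtype.val h)
  have htop := zpowers_eq_top_of_prime_card (p := p) hP hne
  have hinv : x⁻¹ ∈ Nrm P := by
    apply Subgroup.mem_normalizer_fintype
    intro w hw
    have hmem : (⟨w, hw⟩ : ↥(P : Subgroup G)) ∈ Subgroup.zpowers (⟨z, hz⟩ : ↥(P : Subgroup G)) := by
      rw [htop]; exact Subgroup.mem_top _
    obtain ⟨k, hk⟩ := Subgroup.mem_zpowers_iff.mp hmem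
    have hk' : z ^ k = w := by
      have := congrArg (fun x : ↥(P : Subgroup G) => (x : G)) hk
      simpa using this
    rw [← hk', inv_inv]
    have h4 : x⁻¹ * z ^ k * x = (x⁻¹ * z * x) ^ k := by
      have := conj_zpow (a := x⁻¹) (b := z) (i := k)
      rw [inv_inv] at this
      exact this.symm
    rw [h4]
    exact (P : Subgroup G).zpow_mem hyP k
  have := (Nrm P).inv_mem hinv
  rwa [inv_inv] at this

/-- **INDVAL** (M). Values of `μ_i^G`: degree `|Syl_p(G)|`, value `1` on `P \ 1`, and `1_N^G` is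
the permutation character on `Syl_p(G)`. -/
theorem INDVAL (P : Sylow p G) (hP : Nat.card P = p) (L : LinData P) (i : L.ι) :
    indFun (Nrm P) (fun x : ↥(Nrm P) => L.μ i (x : G)) 1 = (Nat.card (Sylow p G) : ℂ) ∧
    (∀ z ∈ (P : Subgroup G), z ≠ 1 →
      indFun (Nrm P) (fun x : ↥(Nrm P) => L.μ i (x : G)) z = 1) ∧
    ∀ g : G, indFun (Nrm P) (fun x : ↥(Nrm P) => L.μ L.one (x : G)) g = (fixS p g : ℂ) := by
  classical
  have hN0 : (Nat.card ↥(Nrm P) : ℂ) ≠ 0 := Nat.cast_ne_zero.mpr Nat.card_pos.ne'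
  have hPN : (P : Subgroup G) ≤ Nrm P := Subgroup.le_normalizer
  refine ⟨?_, ?_, ?_⟩
  · rw [Cfsg.Agent.Lib.Helper75_Induced.indFun_one, Sylow.card_eq_index_normalizer P]
    have h1 : L.μ i ((1 : ↥(Nrm P)) : G) = 1 := L.hμ_P i 1 (Subgroup.one_mem _)
    rw [h1, mul_one, ← Subgroup.card_mul_index (Nrm P)]
    push_cast
    field_simp
    rfl
  · intro z hz hz1
    rw [Cfsg.Agent.Lib.Helper75_Induced.indFun_apply]
    have h1 : ∀ x : G, extendByZero (Nrm P) (fun x : ↥(Nrm P) => L.μ i (x : G)) (x⁻¹ * z * x)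
        = if x ∈ Nrm P then 1 else 0 := by
      intro x
      by_cases hx : x ∈ Nrm P
      · rw [if_pos hx]
        have hzP : x⁻¹ * z * x ∈ (P : Subgroup G) := by
          have := (Subgroup.mem_normalizer_iff.mp ((Nrm P).inv_mem hx) z).mp hz
          rwa [inv_inv] at this
        rw [Cfsg.Agent.Lib.Helper15_IndFun.extendByZero_mem _ _ _ (hPN hzP)]
        exact L.hμ_P i _ hzP
      · rw [if_neg hx]
        apply Cfsg.Agent.Lib.Helper15_IndFun.extendByZero_not_mem
        intro h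
        exact hx (mem_nrm_of_conj_mem P hP hz hz1 h)
    rw [Finset.sum_congr rfl (fun x _ => h1 x), Finset.sum_boole]
    have h2 : (Finset.univ.filter (fun x : G => x ∈ Nrm P)).card = Nat.card ↥(Nrm P) := by
      rw [Nat.card_eq_fintype_card, Fintype.card_subtype]
    rw [h2, inv_mul_cancel₀ hN0]
  · intro g
    have h1 : (fun x : ↥(Nrm P) => L.μ L.one (x : G)) = fun _ => (1 : ℂ) := by
      funext x
      exact L.hμ_one x x.2
    rw [h1, Cfsg.Agent.Lib.Helper15_IndFun.indFun_one_eq_card_fixed,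
      card_fixed_eq P (Nrm P) (Sylow.stabilizer_eq_normalizer P).symm g]
    unfold fixS
    congr 1
    apply Nat.card_congr
    exact Equiv.subtypeEquivRight (fun Q => Sylow.smul_eq_iff_mem_normalizer)

end Cfsg.Agent.Lib.Helper75_BR_INDVAL
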