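import Cfsg.Agent.Lib.Helper77_BRDefs
import Cfsg.Agent.Lib.Helper75_Induced
import Cfsg.Agent.Lib.Helper3_CharBridge
import Cfsg.Agent.Lib.Helper3_CharComplete

/-!
# S0999 / S4701 (helper77's market): package LININD

Frobenius reciprocity + completeness: `μ_i^G = ∑_χ a_i(χ) χ`.
-/

set_option autoImplicit false

namespace Cfsg.Agent.Lib.Helper75_BR_LININD

open Cfsg Cfsg.Agent.Lib.Helper80_CharBasic Cfsg.Agent.Lib.Helper77_BRDefs
open scoped ComplexConjugate

universe u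

variable {G : Type u} [Group G] [Fintype G] {p : ℕ} [hp : Fact p.Prime]

/-- **LININD** (M). Frobenius reciprocity: `μ_i^G = ∑_χ a_i(χ) χ`. -/
theorem LININD (P : Sylow p G) (L : LinData P) (i : L.ι) (g : G) :
    ∑ χ : IrrCharacter G, (L.a i χ : ℂ) * (χ : G → ℂ) g =
      indFun (Nrm P) (fun x : ↥(Nrm P) => L.μ i (x : G)) g := by
  classical
  have _inst : Fintype ↥(Nrm P) := Fintype.ofFinite _
  have hcf := Cfsg.Agent.Lib.Helper75_Induced.isClassFunction_indFun (Nrm P)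
    (fun x : ↥(Nrm P) => L.μ i (x : G))
  have h1 := Cfsg.Agent.Lib.Helper3_CharComplete.classFunction_eq_sum _ hcf
  have h2 := congrFun h1 g
  simp only [Finset.sum_apply, Pi.smul_apply, smul_eq_mul] at h2
  rw [h2]
  apply Finset.sum_congr rfl
  intro χ _
  congr 1
  rw [Cfsg.Agent.Lib.Helper75_Induced.frobenius_reciprocity (Nrm P) _ (χ : G → ℂ)
    (Cfsg.Agent.Lib.Helper3_CharBridge.isClassFunction_of_isIrrCharacter χ.2)]
  have h3 : (L.a i χ : ℂ) = conj (L.a i χ : ℂ) := (Complex.conj_natCast _).symm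
  rw [h3, L.ha i χ]
  unfold classInner
  rw [map_mul, map_inv₀, Complex.conj_natCast, ← finsum_set_coe_eq_finsum_mem]
  congr 1
  have h4 : (∑ᶠ x : ↥((Nrm P : Subgroup G) : Set G), (χ : G → ℂ) x * conj (L.μ i x))
      = ∑ x : ↥(Nrm P), (χ : G → ℂ) x * conj (L.μ i x) :=
    finsum_eq_sum_of_fintype _
  rw [h4, map_sum]
  apply Finset.sum_congr rfl
  intro h _
  rw [map_mul, Complex.conj_conj, mul_comm]

end Cfsg.Agent.Lib.Helper75_BR_LININD
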