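import Cfsg.Agent.Lib.Helper77_BRDefs
import Cfsg.Agent.Lib.Helper65_BR_EXC
import Cfsg.Agent.Lib.Helper74_CharTools
import Cfsg.Agent.Lib.Helper75_BR_LININD
import Cfsg.Agent.Lib.Helper75_BR_INDVAL

/-!
# S0999 (Brauer-Reynolds) sub-package CLS1 (helper65, for helper77)

Covered / uncovered dichotomy for the linear characters `μ_i` of `N_G(P)/P`.
`CLS1_core` : from the values of `∑_χ a_i(χ) χ` at `1` and on `P \ 1`; `CLS1_of` : from the statements of
LININD and INDVAL as hypotheses; `CLS1` : the package statement.  By-products: `a_eq_sum`,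
`a_eq_zero_of_sum_zero` (a character summing to zero over `P` contains no `μ_i`), `a_one`.
-/

set_option autoImplicit false
set_option linter.unusedSectionVars false
set_option linter.unusedVariables false

namespace Cfsg.Agent.Lib.Helper65_BR_CLS1

open Cfsg Cfsg.Agent.Lib.Helper80_CharBasic Cfsg.Agent.Lib.Helper77_BRDefs
open Cfsg.Agent.Lib.Helper3_CharBridge Cfsg.Agent.Lib.Helper3_CharOrtho
open scoped ComplexConjugate

universe u

variable {G : Type u} [Group G] [Fintype G] {p : ℕ} [hp : Fact p.Prime]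

open scoped Classical in
/-- `ha` of `LinData` as a `Finset` sum. -/
theorem a_eq_sum (P : Sylow p G) (L : LinData P) (i : L.ι) (χ : IrrCharacter G) :
    (L.a i χ : ℂ) = (Nat.card (Nrm P) : ℂ)⁻¹ *
      ∑ x ∈ Finset.univ.filter (fun x : G => x ∈ Nrm P), (χ : G → ℂ) x * conj (L.μ i x) := by
  have h1 := L.ha i χ
  have hNset : ((Nrm P : Subgroup G) : Set G) =
      ((Finset.univ.filter (fun x : G => x ∈ Nrm P) : Finset G) : Set G) := by
    ext x
    simp
  rw [hNset, finsum_mem_coe_finset] at h1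
  exact h1

/-- If `χ` sums to zero over `P`, no `μ_i` occurs in `χ|_N`. -/
theorem a_eq_zero_of_sum_zero (P : Sylow p G) [Fintype (P : Subgroup G)] (L : LinData P)
    (χ : IrrCharacter G)
    (h0 : ∑ z : (P : Subgroup G), (χ : G → ℂ) z = 0) (i : L.ι) : L.a i χ = 0 := by
  classical
  have hshift : ∀ x : G, ∑ z : (P : Subgroup G), (χ : G → ℂ) ((z : G) * x) = 0 := fun x =>
    Cfsg.Agent.Lib.Helper74_CharTools.sum_shift_eq_zero (isCharacter_of_isIrrCharacter χ.2)
      (P : Subgroup G) h0 x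
  set Nf : Finset G := Finset.univ.filter (fun x : G => x ∈ Nrm P) with hNf
  set F : G → ℂ := fun x => (χ : G → ℂ) x * conj (L.μ i x) with hF
  have hPN : ∀ z : (P : Subgroup G), (z : G) ∈ Nrm P := fun z => Subgroup.le_normalizer z.2
  have hreindex : ∀ z : (P : Subgroup G), ∑ x ∈ Nf, F x = ∑ x ∈ Nf, F ((z : G) * x) := by
    intro z
    refine Finset.sum_equiv (Equiv.mulLeft ((z : G)⁻¹)) ?_ ?_
    · intro x
      simp only [hNf, Finset.mem_filter, Finset.mem_univ, true_and, Equiv.coe_mulLeft]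
      constructor
      · intro hx; exact Subgroup.mul_mem _ (Subgroup.inv_mem _ (hPN z)) hx
      · intro hx
        have := Subgroup.mul_mem _ (hPN z) hx
        simpa using this
    · intro x _
      simp
  have hcard : (Fintype.card (P : Subgroup G) : ℂ) ≠ 0 := by
    exact_mod_cast Fintype.card_ne_zero
  have hzero : (Fintype.card (P : Subgroup G) : ℂ) * ∑ x ∈ Nf, F x = 0 := by
    have h1 : (Fintype.card (P : Subgroup G) : ℂ) * ∑ x ∈ Nf, F x =
        ∑ z : (P : Subgroup G), ∑ x ∈ Nf, F ((z : G) * x) := by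
      rw [← Finset.sum_congr rfl (fun z _ => hreindex z), Finset.sum_const, Finset.card_univ,
        nsmul_eq_mul]
    rw [h1, Finset.sum_comm]
    apply Finset.sum_eq_zero
    intro x hx
    simp only [hNf, Finset.mem_filter, Finset.mem_univ, true_and] at hx
    have h2 : ∀ z : (P : Subgroup G), F ((z : G) * x) =
        (χ : G → ℂ) ((z : G) * x) * conj (L.μ i x) := by
      intro z
      simp only [hF]
      rw [L.hμ_mul i _ (hPN z) _ hx, L.hμ_P i _ z.2, one_mul]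
    rw [Finset.sum_congr rfl (fun z _ => h2 z), ← Finset.sum_mul, hshift x, zero_mul]
  have hsum : ∑ x ∈ Nf, F x = 0 := (mul_eq_zero.1 hzero).resolve_left hcard
  have := a_eq_sum P L i χ
  rw [hsum, mul_zero] at this
  exact_mod_cast this

/-- `a_i(1_G) = [i = one]`. -/
theorem a_one (P : Sylow p G) (L : LinData P) (i : L.ι) :
    L.a i (oneIrr G) = if i = L.one then 1 else 0 := by
  classical
  have h := a_eq_sum P L i (oneIrr G)
  have hone : ∀ x : G, ((oneIrr G : IrrCharacter G) : G → ℂ) x = 1 := fun x => rfl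
  simp only [hone, one_mul] at h
  have hNne : (Nat.card (Nrm P) : ℂ) ≠ 0 := by exact_mod_cast Nat.card_pos.ne'
  split_ifs with hi
  · subst hi
    have h1 : ∑ x ∈ Finset.univ.filter (fun x : G => x ∈ Nrm P), conj (L.μ L.one x) =
        (Nat.card (Nrm P) : ℂ) := by
      rw [Finset.sum_congr rfl (fun x hx => by
        rw [L.hμ_one x (Finset.mem_filter.1 hx).2, map_one])]
      rw [Finset.sum_const, nsmul_eq_mul, mul_one, Nat.card_eq_fintype_card,
        Fintype.card_subtype]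
    rw [h1, inv_mul_cancel₀ hNne] at h
    exact_mod_cast h
  · have hx₀ : ∃ x₀ ∈ Nrm P, L.μ i x₀ ≠ 1 := by
      by_contra hcon
      push Not at hcon
      apply hi
      apply L.hμ_inj
      intro x hx
      rw [hcon x hx, L.hμ_one x hx]
    obtain ⟨x₀, hx₀N, hx₀⟩ := hx₀
    set S : ℂ := ∑ x ∈ Finset.univ.filter (fun x : G => x ∈ Nrm P), conj (L.μ i x) with hS
    have hre : S = conj (L.μ i x₀) * S := by
      rw [hS, Finset.mul_sum]
      refine Finset.sum_equiv (Equiv.mulLeft (x₀⁻¹)) ?_ ?_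
      · intro x
        simp only [Finset.mem_filter, Finset.mem_univ, true_and, Equiv.coe_mulLeft]
        constructor
        · intro hx; exact Subgroup.mul_mem _ (Subgroup.inv_mem _ hx₀N) hx
        · intro hx
          have := Subgroup.mul_mem _ hx₀N hx
          simpa using this
      · intro x hx
        simp only [Finset.mem_filter, Finset.mem_univ, true_and] at hx
        simp only [Equiv.coe_mulLeft]
        rw [← map_mul, ← L.hμ_mul i _ hx₀N _ (Subgroup.mul_mem _ (Subgroup.inv_mem _ hx₀N) hx)]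
        simp
    have hS0 : S = 0 := by
      have h1 : (1 - conj (L.μ i x₀)) * S = 0 := by linear_combination hre
      rcases mul_eq_zero.1 h1 with h2 | h2
      · exfalso
        apply hx₀
        have h3 : conj (L.μ i x₀) = 1 := by linear_combination -h2
        have := congrArg conj h3
        simpa using this
      · exact h2
    rw [hS0, mul_zero] at h
    exact_mod_cast h

/-- The core of CLS1, with the values of the induced characters `μ_i^G = ∑ a_i(χ) χ` at `1` and on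
`P \ 1` as hypotheses. -/
theorem CLS1_core (P : Sylow p G) (hP : Nat.card P = p)
    (hC : ∀ c ∈ Cen P, c ∈ (P : Subgroup G)) (D : PBData P) (L : LinData P)
    (hq2 : 2 ≤ qq P) (hq : 2 * qq P ≤ p - 1) (n : ℕ)
    (hX : ∀ χ ∈ D.X, χ ≠ oneIrr G →
      (((χ : G → ℂ) 1 = 1 + (n : ℂ) * (p : ℂ)) ∧ D.εX χ = 1) ∨
        (((χ : G → ℂ) 1 = (p : ℂ) - 1) ∧ D.εX χ = -1))
    (h1 : ∀ i : L.ι, ∑ χ : IrrCharacter G, (L.a i χ : ℂ) * (χ : G → ℂ) 1 =
      1 + (n : ℂ) * (p : ℂ))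
    (hz : ∀ i : L.ι, ∀ z ∈ (P : Subgroup G), z ≠ 1 →
      ∑ χ : IrrCharacter G, (L.a i χ : ℂ) * (χ : G → ℂ) z = 1) :
    (∀ χ ∈ D.X, χ ≠ oneIrr G → L.a L.one χ = 0) ∧ (∀ θ ∈ D.Y, L.a L.one θ = 0) ∧
    (∀ i : L.ι, L.a i (oneIrr G) = if i = L.one then 1 else 0) ∧
    ∀ i : L.ι, i ≠ L.one →
      (∃ χ ∈ D.X, (χ : G → ℂ) 1 = 1 + (n : ℂ) * (p : ℂ) ∧ L.a i χ = 1 ∧
          ∀ χ' : IrrCharacter G, χ' ≠ χ → L.a i χ' = 0) ∨
        (D.ε = -1 ∧ (∀ θ ∈ D.Y, L.a i θ = 1) ∧ ∀ χ ∈ D.X, L.a i χ = 0) := by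
  classical
  have hp' : p.Prime := hp.out
  have hp1 : ¬ p ∣ orderOf (1 : G) := by
    rw [orderOf_one]; exact fun h => hp'.one_lt.ne' (Nat.dvd_one.mp h)
  obtain ⟨hA, -, hCc⟩ := Cfsg.Agent.Lib.Helper65_BR_EXC.EXC P hP hC D L hq2 hq
  have hYcard : 0 < D.Y.card := by
    have := D.hYcard
    by_contra h
    have h0 : D.Y.card = 0 := by omega
    rw [h0, zero_mul] at this
    omega
  obtain ⟨θ₀, hθ₀⟩ := Finset.card_pos.1 hYcard
  -- a nontrivial element of P
  obtain ⟨z₀, hz₀P, hz₀1⟩ : ∃ z ∈ (P : Subgroup G), z ≠ 1 := by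
    have hne : (P : Subgroup G) ≠ ⊥ := by
      intro h
      have h2 : Nat.card (P : Subgroup G) = 1 := by rw [h]; exact Subgroup.card_bot
      rw [hP] at h2
      exact hp'.one_lt.ne' h2
    obtain ⟨⟨z, hzP⟩, hz⟩ := Subgroup.ne_bot_iff_exists_ne_one.1 hne
    exact ⟨z, hzP, fun h => hz (Subtype.ext h)⟩
  -- degrees
  have hdeg : ∀ χ : IrrCharacter G, ∃ m : ℕ, 0 < m ∧ (χ : G → ℂ) 1 = m := irr_apply_one
  choose d hdpos hd using hdeg
  have hXz : ∀ χ ∈ D.X, ∀ z ∈ (P : Subgroup G), z ≠ 1 → (χ : G → ℂ) z = (D.εX χ : ℂ) := by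
    intro χ hχ z hz hz1
    have := D.hXval χ hχ z hz hz1 1 (one_mem _) hp1
    simpa using this
  have hεone : D.εX (oneIrr G) = 1 := by
    have := hXz (oneIrr G) D.hone z₀ hz₀P hz₀1
    have h2 : ((oneIrr G : IrrCharacter G) : G → ℂ) z₀ = 1 := rfl
    rw [h2] at this
    exact_mod_cast this.symm
  have hdone : d (oneIrr G) = 1 := by
    have := hd (oneIrr G)
    have h2 : ((oneIrr G : IrrCharacter G) : G → ℂ) 1 = 1 := rfl
    rw [h2] at this
    exact_mod_cast this.symm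
  have : Fintype (P : Subgroup G) := Fintype.ofFinite _
  -- characters of the second kind
  have hsecond : ∀ χ ∈ D.X, (χ : G → ℂ) 1 = (p : ℂ) - 1 → D.εX χ = -1 →
      ∀ i : L.ι, L.a i χ = 0 := by
    intro χ hχ hdeg hε i
    apply a_eq_zero_of_sum_zero
    rw [← Finset.add_sum_erase Finset.univ _ (Finset.mem_univ (1 : (P : Subgroup G)))]
    have hval : ∀ z ∈ Finset.univ.erase (1 : (P : Subgroup G)),
        (χ : G → ℂ) (z : G) = -1 := by
      intro z hz
      have hz1 : (z : G) ≠ 1 := fun h => (Finset.mem_erase.1 hz).1 (Subtype.ext h)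
      rw [hXz χ hχ z z.2 hz1, hε]
      push_cast
      ring
    rw [Finset.sum_congr rfl hval, Finset.sum_const, Finset.card_erase_of_mem (Finset.mem_univ _),
      Finset.card_univ, ← Nat.card_eq_fintype_card, hP, Subgroup.coe_one, hdeg, nsmul_eq_mul,
      Nat.cast_sub hp'.one_lt.le]
    push_cast
    ring
  -- (E1): evaluation at z₀
  have hE1 : ∀ i : L.ι, (1 : ℤ) = (L.a i (oneIrr G) : ℤ) +
      ((∑ χ ∈ D.X.erase (oneIrr G), L.a i χ : ℕ) : ℤ) - D.ε * (L.a i θ₀ : ℤ) := by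
    intro i
    have h := hz i z₀ hz₀P hz₀1
    rw [← Finset.sum_add_sum_compl (D.X ∪ D.Y), Finset.sum_union D.hdisj] at h
    have h3 : ∑ χ ∈ (D.X ∪ D.Y)ᶜ, (L.a i χ : ℂ) * (χ : G → ℂ) z₀ = 0 := by
      apply Finset.sum_eq_zero
      intro χ hχ
      rw [Finset.mem_compl, Finset.mem_union, not_or] at hχ
      rw [D.hout hC χ hχ.1 hχ.2 z₀ hz₀P hz₀1, mul_zero]
    have h2 : ∑ θ ∈ D.Y, (L.a i θ : ℂ) * (θ : G → ℂ) z₀ = (L.a i θ₀ : ℂ) * (-(D.ε : ℂ)) := by
      rw [← hA z₀ hz₀P hz₀1, Finset.mul_sum]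
      refine Finset.sum_congr rfl fun θ hθ => ?_
      rw [hCc θ hθ θ₀ hθ₀ i]
    have h1' : ∑ χ ∈ D.X, (L.a i χ : ℂ) * (χ : G → ℂ) z₀ =
        (L.a i (oneIrr G) : ℂ) + ((∑ χ ∈ D.X.erase (oneIrr G), L.a i χ : ℕ) : ℂ) := by
      rw [← Finset.add_sum_erase D.X _ D.hone]
      congr 1
      · rw [hXz _ D.hone z₀ hz₀P hz₀1, hεone]
        push_cast
        ring
      · push_cast
        refine Finset.sum_congr rfl fun χ hχ => ?_
        have hχX : χ ∈ D.X := Finset.mem_of_mem_erase hχ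
        have hχ1 : χ ≠ oneIrr G := Finset.ne_of_mem_erase hχ
        rw [hXz χ hχX z₀ hz₀P hz₀1]
        rcases hX χ hχX hχ1 with ⟨_, hε⟩ | ⟨hdeg, hε⟩
        · rw [hε]; push_cast; ring
        · rw [hsecond χ hχX hdeg hε i]; push_cast; ring
    rw [h1', h2, h3, add_zero] at h
    have h4 : ((1 : ℤ) : ℂ) = (((L.a i (oneIrr G) : ℤ) +
      ((∑ χ ∈ D.X.erase (oneIrr G), L.a i χ : ℕ) : ℤ) - D.ε * (L.a i θ₀ : ℤ) : ℤ) : ℂ) := by
      push_cast
      rw [← h]
      push_cast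
      ring
    exact_mod_cast h4
  -- (E2): evaluation at 1
  have hE2 : ∀ i : L.ι, ∑ χ : IrrCharacter G, L.a i χ * d χ = 1 + n * p := by
    intro i
    have h := h1 i
    have h4 : ((∑ χ : IrrCharacter G, L.a i χ * d χ : ℕ) : ℂ) = ((1 + n * p : ℕ) : ℂ) := by
      push_cast
      rw [← h]
      refine Finset.sum_congr rfl fun χ _ => ?_
      rw [hd χ]
    exact_mod_cast h4
  have hεpm := D.hε
  have hpart1 : ∀ χ ∈ D.X, χ ≠ oneIrr G → L.a L.one χ = 0 := by
    intro χ hχ hχ1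
    rcases hX χ hχ hχ1 with ⟨hdeg, hε⟩ | ⟨hdeg, hε⟩
    · by_contra hne
      have h2 := hE2 L.one
      rw [← Finset.add_sum_erase Finset.univ _ (Finset.mem_univ (oneIrr G))] at h2
      have h3 : L.a L.one χ * d χ ≤ ∑ ψ ∈ Finset.univ.erase (oneIrr G), L.a L.one ψ * d ψ :=
        Finset.single_le_sum (f := fun ψ => L.a L.one ψ * d ψ) (fun _ _ => Nat.zero_le _)
          (Finset.mem_erase.2 ⟨hχ1, Finset.mem_univ _⟩)
      have h4 : d χ = 1 + n * p := by
        have := hd χ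
        rw [hdeg] at this
        exact_mod_cast this.symm
      have h5 := a_one P L L.one
      rw [if_pos rfl] at h5
      rw [h5, hdone] at h2
      rw [h4] at h3
      have h6 : 1 ≤ L.a L.one χ := Nat.pos_of_ne_zero hne
      have h7 : 1 + n * p ≤ L.a L.one χ * (1 + n * p) := Nat.le_mul_of_pos_left _ h6
      omega
    · exact hsecond χ hχ hdeg hε L.one
  refine ⟨hpart1, ?_, a_one P L, ?_⟩
  · -- a_one vanishes on Y
    intro θ hθ
    rw [hCc θ hθ θ₀ hθ₀ L.one]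
    have hT : ∑ χ ∈ D.X.erase (oneIrr G), L.a L.one χ = 0 :=
      Finset.sum_eq_zero fun χ hχ =>
        hpart1 χ (Finset.mem_of_mem_erase hχ) (Finset.ne_of_mem_erase hχ)
    have h5 := a_one P L L.one
    rw [if_pos rfl] at h5
    have hE := hE1 L.one
    rw [hT, h5] at hE
    rcases hεpm with hε | hε
    · rw [hε] at hE
      push_cast at hE
      omega
    · rw [hε] at hE
      push_cast at hE
      omega
  · -- the dichotomy
    intro i hi
    have h5 := a_one P L i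
    rw [if_neg hi] at h5
    have hE := hE1 i
    rw [h5] at hE
    by_cases hT : ∑ χ ∈ D.X.erase (oneIrr G), L.a i χ = 0
    · -- uncovered
      right
      rw [hT] at hE
      have hall : ∀ χ ∈ D.X, L.a i χ = 0 := by
        intro χ hχ
        by_cases hχ1 : χ = oneIrr G
        · rw [hχ1]; exact h5
        · exact (Finset.sum_eq_zero_iff.1 hT) χ (Finset.mem_erase.2 ⟨hχ1, hχ⟩)
      rcases hεpm with hε | hε
      · exfalso
        rw [hε] at hE
        push_cast at hE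
        omega
      · refine ⟨hε, ?_, hall⟩
        intro θ hθ
        rw [hCc θ hθ θ₀ hθ₀ i]
        rw [hε] at hE
        push_cast at hE
        omega
    · -- covered
      left
      obtain ⟨χ, hχ, hχne⟩ := Finset.exists_ne_zero_of_sum_ne_zero hT
      have hχX : χ ∈ D.X := Finset.mem_of_mem_erase hχ
      have hχ1 : χ ≠ oneIrr G := Finset.ne_of_mem_erase hχ
      rcases hX χ hχX hχ1 with ⟨hdeg, hε⟩ | ⟨hdeg, hε⟩
      · have h4 : d χ = 1 + n * p := by
          have := hd χ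
          rw [hdeg] at this
          exact_mod_cast this.symm
        have h2 := hE2 i
        rw [← Finset.add_sum_erase Finset.univ _ (Finset.mem_univ χ), h4] at h2
        have h6 : 1 ≤ L.a i χ := Nat.pos_of_ne_zero hχne
        have h7 : 1 + n * p ≤ L.a i χ * (1 + n * p) := Nat.le_mul_of_pos_left _ h6
        have h8 : L.a i χ * (1 + n * p) = 1 + n * p := by omega
        have h9 : ∑ ψ ∈ Finset.univ.erase χ, L.a i ψ * d ψ = 0 := by omega
        have h10 : L.a i χ = 1 := by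
          have hpos : 0 < 1 + n * p := by omega
          exact Nat.eq_of_mul_eq_mul_right hpos (by rw [h8, one_mul])
        refine ⟨χ, hχX, hdeg, h10, ?_⟩
        intro χ' hχ'
        have := (Finset.sum_eq_zero_iff.1 h9) χ' (Finset.mem_erase.2 ⟨hχ', Finset.mem_univ _⟩)
        rcases Nat.mul_eq_zero.1 this with h | h
        · exact h
        · exact absurd h (hdpos χ').ne'
      · exact absurd (hsecond χ hχX hdeg hε i) hχne

/-- CLS1 from the statements of LININD and INDVAL (passed as hypotheses). -/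
theorem CLS1_of (P : Sylow p G) (hP : Nat.card P = p)
    (hC : ∀ c ∈ Cen P, c ∈ (P : Subgroup G)) (D : PBData P) (L : LinData P)
    (hq2 : 2 ≤ qq P) (hq : 2 * qq P ≤ p - 1) (n : ℕ)
    (hn : Nat.card (Sylow p G) = 1 + n * p)
    (hX : ∀ χ ∈ D.X, χ ≠ oneIrr G →
      (((χ : G → ℂ) 1 = 1 + (n : ℂ) * (p : ℂ)) ∧ D.εX χ = 1) ∨
        (((χ : G → ℂ) 1 = (p : ℂ) - 1) ∧ D.εX χ = -1))
    (hLININD : ∀ (i : L.ι) (g : G), ∑ χ : IrrCharacter G, (L.a i χ : ℂ) * (χ : G → ℂ) g =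
      indFun (Nrm P) (fun x : ↥(Nrm P) => L.μ i (x : G)) g)
    (hINDVAL : ∀ i : L.ι,
      indFun (Nrm P) (fun x : ↥(Nrm P) => L.μ i (x : G)) 1 = (Nat.card (Sylow p G) : ℂ) ∧
      (∀ z ∈ (P : Subgroup G), z ≠ 1 →
        indFun (Nrm P) (fun x : ↥(Nrm P) => L.μ i (x : G)) z = 1)) :
    (∀ χ ∈ D.X, χ ≠ oneIrr G → L.a L.one χ = 0) ∧ (∀ θ ∈ D.Y, L.a L.one θ = 0) ∧
    (∀ i : L.ι, L.a i (oneIrr G) = if i = L.one then 1 else 0) ∧
    ∀ i : L.ι, i ≠ L.one →
      (∃ χ ∈ D.X, (χ : G → ℂ) 1 = 1 + (n : ℂ) * (p : ℂ) ∧ L.a i χ = 1 ∧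
          ∀ χ' : IrrCharacter G, χ' ≠ χ → L.a i χ' = 0) ∨
        (D.ε = -1 ∧ (∀ θ ∈ D.Y, L.a i θ = 1) ∧ ∀ χ ∈ D.X, L.a i χ = 0) := by
  apply CLS1_core P hP hC D L hq2 hq n hX
  · intro i
    rw [hLININD i 1, (hINDVAL i).1, hn]
    push_cast
    ring
  · intro i z hz hz1
    rw [hLININD i z, (hINDVAL i).2 z hz hz1]

/-- **CLS1** (L). Each nontrivial `μ_i` is either induced irreducibly to a member of `X` of degree
`1 + n p` ("covered") or `ε = -1` and `μ_i^G` contains every exceptional character once and no member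
of `X` ("uncovered"). -/
theorem CLS1 [IsSimpleGroup G] (hnc : ¬ IsCyclic G) (P : Sylow p G) (hP : Nat.card P = p)
    (hC : ∀ c ∈ Cen P, c ∈ (P : Subgroup G)) (D : PBData P) (L : LinData P)
    (hq2 : 2 ≤ qq P) (hq : 2 * qq P ≤ p - 1) (n : ℕ) (hn1 : 1 ≤ n)
    (hn : Nat.card (Sylow p G) = 1 + n * p)
    (hX : ∀ χ ∈ D.X, χ ≠ oneIrr G →
      (((χ : G → ℂ) 1 = 1 + (n : ℂ) * (p : ℂ)) ∧ D.εX χ = 1) ∨
        (((χ : G → ℂ) 1 = (p : ℂ) - 1) ∧ D.εX χ = -1)) :
    (∀ χ ∈ D.X, χ ≠ oneIrr G → L.a L.one χ = 0) ∧ (∀ θ ∈ D.Y, L.a L.one θ = 0) ∧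
    (∀ i : L.ι, L.a i (oneIrr G) = if i = L.one then 1 else 0) ∧
    ∀ i : L.ι, i ≠ L.one →
      (∃ χ ∈ D.X, (χ : G → ℂ) 1 = 1 + (n : ℂ) * (p : ℂ) ∧ L.a i χ = 1 ∧
          ∀ χ' : IrrCharacter G, χ' ≠ χ → L.a i χ' = 0) ∨
        (D.ε = -1 ∧ (∀ θ ∈ D.Y, L.a i θ = 1) ∧ ∀ χ ∈ D.X, L.a i χ = 0) :=
  CLS1_of P hP hC D L hq2 hq n hn hX
    (fun i g => Cfsg.Agent.Lib.Helper75_BR_LININD.LININD P L i g)
    (fun i => ⟨(Cfsg.Agent.Lib.Helper75_BR_INDVAL.INDVAL P hP L i).1,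
      (Cfsg.Agent.Lib.Helper75_BR_INDVAL.INDVAL P hP L i).2.1⟩)

end Cfsg.Agent.Lib.Helper65_BR_CLS1
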