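import Mathlib
import Cfsg.Agent.Lib.Helper1_D8Defs
import Cfsg.Agent.Lib.Helper10_D8_CENT
import Cfsg.Agent.Lib.Helper65_D8_ORD6aux

/-!
# S3716, package ORD6 (helper65, architect helper1): the element `u = a t2` of order 6.
Verbatim wrapper: `order_six_of` (Helper65_D8_ORD6aux) + `cent_a` (helper10, package CENT).
-/

set_option autoImplicit false
set_option linter.unusedSectionVars false

namespace Cfsg.Agent.Lib.Helper65_D8_ORD6
open Cfsg Cfsg.Agent.Lib.Helper80_CharBasic Cfsg.Agent.Lib.Helper1_D8Defs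

variable {G : Type*} [Group G] [Finite G]
variable {M : Subgroup G} {a b t1 t2 s : G}

/-! ### ORD6: the element `a t2` of order 6 -/
theorem order_six (h : Hyp G M a b t1 t2 s) :
    orderOf (a * t2) = 6 ∧ (a * t2) ^ 2 = a⁻¹ ∧ (a * t2) ^ 3 = t2 ∧ IsConj (a * t2) (a * t2)⁻¹ ∧
    Nat.card (Subgroup.centralizer ({a * t2} : Set G)) = 6 ∧
    ∀ x : G, x * (a * t2) = (a * t2) * x → x ∈ Subgroup.zpowers (a * t2) :=
  Cfsg.Agent.Lib.Helper65_D8_ORD6aux.order_six_of h (Cfsg.Agent.Lib.Helper10_D8_CENT.cent_a h).2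

end Cfsg.Agent.Lib.Helper65_D8_ORD6
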