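import Mathlib
import Cfsg.Agent.Lib.Helper67_Fr10Defs

set_option autoImplicit false
set_option linter.unusedVariables false
set_option linter.unusedSectionVars false

/-!
FR10 package FR10-R2 (helper65, architect helper67): the sharp rank lemma (R') for monomial maps,
`#{i | m e_i ≠ l e_i} ≤ 2 rank (m - l)`.

Proof: a greedy choice gives `S ⊆ A = {i | m e_i ≠ l e_i}` with `|A| ≤ 2 |S|` such that every
forward-invariant subset `Z ⊆ S` of the permutation `π` of `m` consists of fixed points of `π`.
For such an `S` the vectors `(m - l) e_i`, `i ∈ S`, are linearly independent: the support `Z` of a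
linear relation is forward-invariant (look at the coordinate `π j`), hence consists of fixed points
`j` of `π`, and there `(c_j - l) a_j = 0` with `c_j ≠ l`.
-/

namespace Cfsg.Agent.Lib.Helper65_FR10_R2

open Module Cfsg.Agent.Lib.Helper94_Herm Cfsg.Agent.Lib.Helper13_PSUSimple
  Cfsg.Agent.Lib.Helper94_FrmDefs Cfsg.Agent.Lib.Helper83_FrCDefs Cfsg.Agent.Lib.Helper67_Fr10Defs

variable {F V ι : Type*} [Field F] [AddCommGroup V] [Module F V] [Fintype ι] [DecidableEq ι]
variable {σ : F →+* F} {B : V →ₗ[F] V →ₛₗ[σ] F} {e : ι → V}

/-- greedy choice: `S ⊆ A`, `|A| ≤ 2 |S|`, and every forward-invariant subset of `S` consists of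
fixed points of `π`. -/
lemma greedyInv (π : Equiv.Perm ι) : ∀ (n : ℕ) (A : Finset ι), A.card = n →
    ∃ S : Finset ι, S ⊆ A ∧ A.card ≤ 2 * S.card ∧
      ∀ Z : Finset ι, Z ⊆ S → (∀ j ∈ Z, π j ∈ Z) → ∀ j ∈ Z, π j = j := by
  intro n
  induction n using Nat.strong_induction_on with
  | _ n ih =>
    intro A hA
    rcases A.eq_empty_or_nonempty with h0 | ⟨i, hi⟩
    · refine ⟨∅, by simp, by simp [h0], ?_⟩
      intro Z hZ _ j hj
      exact absurd (hZ hj) (by simp)
    · set A' : Finset ι := A \ {i, π i} with hA'
      have hlt : A'.card < n := by
        rw [← hA]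
        apply Finset.card_lt_card
        refine ⟨Finset.sdiff_subset, fun hsub => ?_⟩
        have := hsub hi
        rw [hA', Finset.mem_sdiff] at this
        exact this.2 (by simp)
      obtain ⟨S', hS'A, hcard, hS'⟩ := ih A'.card hlt A' rfl
      have hiS' : i ∉ S' := by
        intro h
        have := hS'A h
        rw [hA', Finset.mem_sdiff] at this
        exact this.2 (by simp)
      have hπiS' : π i ∉ S' := by
        intro h
        have := hS'A h
        rw [hA', Finset.mem_sdiff] at this
        exact this.2 (by simp)
      refine ⟨insert i S', ?_, ?_, ?_⟩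
      · intro j hj
        rw [Finset.mem_insert] at hj
        rcases hj with rfl | hj
        · exact hi
        · exact Finset.sdiff_subset (hS'A hj)
      · rw [Finset.card_insert_of_notMem hiS']
        have h3 : ({i, π i} : Finset ι).card ≤ 2 := Finset.card_le_two
        have h4 : A.card ≤ A'.card + ({i, π i} : Finset ι).card := by
          rw [hA']
          have := Finset.card_le_card_sdiff_add_card (s := A) (t := ({i, π i} : Finset ι))
          omega
        omega
      · intro Z hZ hinv
        by_cases hfix : π i = i
        · -- `i` is a fixed point: remove it from `Z`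
          have hZ' : Z.erase i ⊆ S' := by
            intro j hj
            rw [Finset.mem_erase] at hj
            have := hZ hj.2
            rw [Finset.mem_insert] at this
            rcases this with h | h
            · exact absurd h hj.1
            · exact h
          have hinv' : ∀ j ∈ Z.erase i, π j ∈ Z.erase i := by
            intro j hj
            rw [Finset.mem_erase] at hj ⊢
            refine ⟨fun h => hj.1 ?_, hinv j hj.2⟩
            apply π.injective
            rw [h, hfix]
          intro j hj
          by_cases hji : j = i
          · rw [hji]; exact hfix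
          · exact hS' (Z.erase i) hZ' hinv' j (Finset.mem_erase.mpr ⟨hji, hj⟩)
        · -- `i` is moved: then `i ∉ Z` since `π i ∉ insert i S'`
          have hiZ : i ∉ Z := by
            intro hiZ
            have := hZ (hinv i hiZ)
            rw [Finset.mem_insert] at this
            rcases this with h | h
            · exact hfix h
            · exact hπiS' h
          have hZ' : Z ⊆ S' := by
            intro j hj
            have := hZ hj
            rw [Finset.mem_insert] at this
            rcases this with h | h
            · exact absurd (h ▸ hj) hiZ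
            · exact h
          exact hS' Z hZ' hinv

/-- FR10-R2 (L). the sharp rank lemma: `#{i | m e_i ≠ l e_i} ≤ 2 rank (m - l)`. -/
theorem rankLemma2 (hfr : OFrame B e) : RankLemma2 F e := by
  classical
  intro m hm l hl U hU r hr
  obtain ⟨π, hπ⟩ := hm
  choose c hc0 hc using hπ
  have hfd : FiniteDimensional F V := fr_finiteDimensional hfr
  set A : Finset ι := Finset.univ.filter (fun i => m (e i) ≠ l • e i) with hA
  have hset : {i | m (e i) ≠ l • e i} = (A : Set ι) := by
    ext i
    simp [hA]
  rw [hset, Set.ncard_coe_finset]
  obtain ⟨S, hSA, hcard, hS⟩ := greedyInv π A.card A rfl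
  -- coordinates of `(m - l) e_i`
  have hcoord : ∀ i j, B (m (e i) - l • e i) (e j) =
      (if π i = j then c i else 0) - (if i = j then l else 0) := by
    intro i j
    rw [hc i, map_sub, LinearMap.sub_apply, map_smul, map_smul, LinearMap.smul_apply,
      LinearMap.smul_apply, smul_eq_mul, smul_eq_mul, fr_apply_eq hfr, fr_apply_eq hfr]
    by_cases h1 : π i = j <;> by_cases h2 : i = j <;> simp [h1, h2]
  have hli : LinearIndependent F (fun i : S => m (e i.1) - l • e i.1) := by
    rw [Fintype.linearIndependent_iff]
    intro a ha
    -- extend `a` by zero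
    set a' : ι → F := fun i => if h : i ∈ S then a ⟨i, h⟩ else 0 with ha'
    have ha'S : ∀ i : S, a' i.1 = a i := by
      intro i
      simp [ha', i.2]
    have ha'0 : ∀ i, i ∉ S → a' i = 0 := by
      intro i hi
      simp [ha', hi]
    -- the relation in coordinates: `c_{π⁻¹ j} a_{π⁻¹ j} = l a_j`
    have hrel : ∀ j, a' j * c j = l * a' (π j) := by
      intro j
      have h1 := congrArg (fun x => B x (e (π j))) ha
      simp only [map_sum, map_smul, LinearMap.sum_apply, LinearMap.smul_apply, smul_eq_mul,
        map_zero, LinearMap.zero_apply, hcoord] at h1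
      simp only [mul_sub, Finset.sum_sub_distrib, mul_ite, mul_zero,
        EmbeddingLike.apply_eq_iff_eq] at h1
      have e1 : (∑ x : S, if x.1 = j then a x * c x.1 else 0) = a' j * c j := by
        by_cases hj : j ∈ S
        · rw [Finset.sum_eq_single (⟨j, hj⟩ : S)]
          · simp [ha', hj]
          · intro x _ hx
            rw [if_neg (fun h => hx (Subtype.ext h))]
          · intro h
            exact absurd (Finset.mem_univ _) h
        · rw [ha'0 j hj, zero_mul]
          apply Finset.sum_eq_zero
          intro x _
          rw [if_neg (fun h : x.1 = j => hj (h ▸ x.2))]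
      have e2 : (∑ x : S, if x.1 = π j then a x * l else 0) = l * a' (π j) := by
        by_cases hj : π j ∈ S
        · rw [Finset.sum_eq_single (⟨π j, hj⟩ : S)]
          · simp [ha', hj, mul_comm]
          · intro x _ hx
            rw [if_neg (fun h => hx (Subtype.ext h))]
          · intro h
            exact absurd (Finset.mem_univ _) h
        · rw [ha'0 (π j) hj, mul_zero]
          apply Finset.sum_eq_zero
          intro x _
          rw [if_neg (fun h : x.1 = π j => hj (h ▸ x.2))]
      rw [e1, e2] at h1
      exact sub_eq_zero.mp h1
    -- the support of the relation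
    set Z : Finset ι := S.filter (fun i => a' i ≠ 0) with hZ
    have hZS : Z ⊆ S := Finset.filter_subset _ _
    have hZinv : ∀ j ∈ Z, π j ∈ Z := by
      intro j hj
      rw [hZ, Finset.mem_filter] at hj ⊢
      have h1 : a' (π j) ≠ 0 := by
        intro h0
        have := hrel j
        rw [h0, mul_zero] at this
        rcases mul_eq_zero.mp this with h | h
        · exact hj.2 h
        · exact hc0 j h
      refine ⟨?_, h1⟩
      by_contra hn
      exact h1 (ha'0 _ hn)
    have hfix := hS Z hZS hZinv
    have hZe : Z = ∅ := by
      rw [Finset.eq_empty_iff_forall_notMem]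
      intro j hj
      have hπj := hfix j hj
      have hj' := hj
      rw [hZ, Finset.mem_filter] at hj'
      have hjA := hSA hj'.1
      rw [hA, Finset.mem_filter] at hjA
      have h2 := hrel j
      rw [hπj] at h2
      have h3 : c j = l := by
        have : a' j * (c j - l) = 0 := by rw [mul_sub, h2]; ring
        rcases mul_eq_zero.mp this with h | h
        · exact absurd h hj'.2
        · exact sub_eq_zero.mp h
      apply hjA.2
      rw [hc j, hπj, h3]
    intro i
    by_contra hi
    have : i.1 ∈ Z := by
      rw [hZ, Finset.mem_filter]
      exact ⟨i.2, by rw [ha'S i]; exact hi⟩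
    rw [hZe] at this
    exact absurd this (by simp)
  have hle : S.card ≤ finrank F U := by
    have h2 : finrank F (Submodule.span F (Set.range (fun i : S => m (e i.1) - l • e i.1))) =
        Fintype.card S := finrank_span_eq_card hli
    have h3 : Submodule.span F (Set.range (fun i : S => m (e i.1) - l • e i.1)) ≤ U := by
      rw [Submodule.span_le]
      rintro _ ⟨i, rfl⟩
      exact hU (e i.1)
    have h4 := Submodule.finrank_mono h3
    rw [h2, Fintype.card_coe] at h4
    exact h4
  omega

end Cfsg.Agent.Lib.Helper65_FR10_R2
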