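import Mathlib
import Cfsg.Prelude.Def_KGroupFacts

/-!
# S2040 (Schur multiplier of J2), package E1 (helper65): a perfect central quotient by a centre of
order 2 containing a square `t * t ≠ 1` is a stem extension with cyclic kernel of order 2.
(architect: helper26)
-/

set_option autoImplicit false

namespace Cfsg.Agent.Lib.Helper65_J2M_E1

open Cfsg
open scoped commutatorElement

theorem stem_of_center {H : Type*} [Group H] [Finite H]
    (hperf : commutator (H ⧸ Subgroup.center H) = ⊤)
    (hZ : Nat.card ↥(Subgroup.center H) = 2) (t : H) (ht : t * t ∈ Subgroup.center H)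
    (ht1 : t * t ≠ 1) :
    IsStemExtension (QuotientGroup.mk' (Subgroup.center H)) ∧
      IsCyclic ↥(QuotientGroup.mk' (Subgroup.center H)).ker ∧
      Nat.card ↥(QuotientGroup.mk' (Subgroup.center H)).ker = 2 := by
  set Z := Subgroup.center H with hZdef
  set ζ : H := t * t with hζ
  -- elements of Z
  have hZel : ∀ c ∈ Z, c = 1 ∨ c = ζ := by
    intro c hc
    by_contra hne0
    have hne := not_or.mp hne0
    obtain ⟨y, hy, huniq⟩ := (Nat.card_eq_two_iff' (1 : Z)).mp hZ
    have h1 : (⟨c, hc⟩ : Z) = y := huniq _ (fun h => hne.1 (congrArg Subtype.val h))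
    have h2 : (⟨ζ, ht⟩ : Z) = y := huniq _ (fun h => ht1 (congrArg Subtype.val h))
    exact hne.2 (congrArg Subtype.val (h1.trans h2.symm))
  have hζsq : ζ * ζ = 1 := by
    have : ζ * ζ ∈ Z := Z.mul_mem ht ht
    rcases hZel _ this with h | h
    · exact h
    · exfalso
      have : ζ = 1 := by
        have h3 : ζ * ζ = ζ * 1 := by rw [mul_one]; exact h
        exact mul_left_cancel h3
      exact ht1 this
  -- H = D Z
  have hmap : Subgroup.map (QuotientGroup.mk' Z) (commutator H) = ⊤ := by
    rw [commutator_def, Subgroup.map_commutator,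
      Subgroup.map_top_of_surjective _ (QuotientGroup.mk'_surjective Z), ← commutator_def, hperf]
  have hDZ : ∀ g : H, ∃ d ∈ commutator H, ∃ c ∈ Z, g = d * c := by
    intro g
    have : QuotientGroup.mk' Z g ∈ Subgroup.map (QuotientGroup.mk' Z) (commutator H) := by
      rw [hmap]; exact Subgroup.mem_top _
    obtain ⟨d, hd, hdg⟩ := Subgroup.mem_map.mp this
    refine ⟨d, hd, d⁻¹ * g, ?_, by group⟩
    have : (QuotientGroup.mk d : H ⧸ Z) = QuotientGroup.mk g := hdg
    exact QuotientGroup.eq.mp this
  have hζD : ζ ∈ commutator H := by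
    obtain ⟨d, hd, c, hc, htdc⟩ := hDZ t
    rcases hZel c hc with rfl | rfl
    · rw [mul_one] at htdc
      rw [hζ, htdc]
      exact Subgroup.mul_mem _ hd hd
    · have hcomm : ζ * d = d * ζ := (Subgroup.mem_center_iff.mp ht d).symm
      have : ζ = d * d := by
        calc ζ = t * t := hζ
          _ = (d * ζ) * (d * ζ) := by rw [← htdc]
          _ = d * (ζ * d) * ζ := by group
          _ = d * (d * ζ) * ζ := by rw [hcomm]
          _ = d * d * (ζ * ζ) := by group
          _ = d * d := by rw [hζsq, mul_one]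
      rw [this]
      exact Subgroup.mul_mem _ hd hd
  have hker : (QuotientGroup.mk' Z).ker = Z := QuotientGroup.ker_mk' Z
  refine ⟨⟨QuotientGroup.mk'_surjective Z, ?_, ?_⟩, ?_, ?_⟩
  · rw [hker]
  · rw [hker]
    intro c hc
    rcases hZel c hc with rfl | rfl
    · exact Subgroup.one_mem _
    · exact hζD
  · rw [hker]
    have : Fact (Nat.Prime 2) := ⟨Nat.prime_two⟩
    exact isCyclic_of_prime_card hZ
  · rw [hker]
    exact hZ

end Cfsg.Agent.Lib.Helper65_J2M_E1
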