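import Mathlib
import Cfsg.Agent.Lib.Helper73_MGDefs

/-!
S3620 (Marggraf) market `mg_packages` (architect helper73), package MG-ALT3:
if the set-wise stabiliser of `Δ` induces every even permutation of `Δ`, `5 ≤ |Δ|` and
`|Δᶜ| < |Δ|`, then `G` contains an element acting as a 3-cycle.

`NN Δ` = the even permutations of `Δ` induced by elements fixing `Δᶜ` pointwise, a normal subgroup
of `alternatingGroup Δ`; it is `⊤` (a 3-cycle of `Δ` lifts to a 3-cycle of `Ω`) or `⊥` (then
`Alt(Δ)` embeds into `Perm Δᶜ`, impossible by counting).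
-/

set_option autoImplicit false

namespace Cfsg.Agent.Lib.Helper65_MG_ALT3

open Cfsg.Agent.Lib.Helper73_MG
open MulAction Equiv
open scoped Pointwise

universe u v
variable {G : Type u} {Ω : Type v} [Group G] [MulAction G Ω]

/-- an element of the set-wise stabiliser preserves membership -/
theorem smul_mem_iff (Δ : Set Ω) (u : stabilizer G Δ) (x : Ω) : (u : G) • x ∈ Δ ↔ x ∈ Δ := by
  obtain ⟨g, hg⟩ := u
  have h : g • Δ = Δ := mem_stabilizer_iff.mp hg
  show g • x ∈ Δ ↔ x ∈ Δ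
  constructor
  · intro hx
    rw [← h] at hx
    exact Set.smul_mem_smul_set_iff.mp hx
  · intro hx
    have : g • x ∈ g • Δ := Set.smul_mem_smul_set hx
    rwa [h] at this

theorem toPerm_apply_coe (Δ : Set Ω) (u : stabilizer G Δ) (x : Δ) :
    ((toPerm u : Perm Δ) x : Ω) = (u : G) • (x : Ω) := rfl

/-- the subgroup of `alternatingGroup Δ` of the permutations induced by elements fixing the complement
pointwise -/
def NN (Δ : Set Ω) [Fintype Δ] [DecidableEq Δ] : Subgroup (alternatingGroup Δ) where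
  carrier := {a | ∃ k : stabilizer G Δ, (∀ x, x ∉ Δ → (k : G) • x = x) ∧
    (toPerm k : Perm Δ) = (a : Perm Δ)}
  one_mem' := ⟨1, fun x _ => by simp, by ext x; simp⟩
  mul_mem' := by
    rintro a b ⟨k, hk, hka⟩ ⟨l, hl, hlb⟩
    refine ⟨k * l, fun x hx => ?_, ?_⟩
    · rw [Subgroup.coe_mul, mul_smul, hl x hx, hk x hx]
    · rw [Subgroup.coe_mul, ← hka, ← hlb]
      ext x
      simp [mul_smul]
  inv_mem' := by
    rintro a ⟨k, hk, hka⟩
    refine ⟨k⁻¹, fun x hx => ?_, ?_⟩
    · rw [Subgroup.coe_inv, inv_smul_eq_iff, hk x hx]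
    · rw [Subgroup.coe_inv, ← hka]
      ext x
      simp

theorem NN_normal (Δ : Set Ω) [Fintype Δ] [DecidableEq Δ]
    (hΔ : ∀ σ : Perm Δ, Perm.sign σ = 1 → ∃ u : stabilizer G Δ, (toPerm u : Perm Δ) = σ) :
    (NN (G := G) Δ).Normal := by
  constructor
  rintro a ⟨k, hk, hka⟩ b
  obtain ⟨u, hu⟩ := hΔ (b : Perm Δ) (Perm.mem_alternatingGroup.mp b.2)
  refine ⟨u * k * u⁻¹, fun x hx => ?_, ?_⟩
  · have hx' : (u⁻¹ : stabilizer G Δ).1 • x ∉ Δ := fun h => hx ((smul_mem_iff Δ u⁻¹ x).mp h)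
    rw [Subgroup.coe_mul, Subgroup.coe_mul, mul_smul, mul_smul, hk _ hx', Subgroup.coe_inv,
      smul_inv_smul]
  · have e : (toPerm (u * k * u⁻¹) : Perm Δ) = toPerm u * toPerm k * (toPerm u)⁻¹ := by
      ext x
      simp [mul_smul]
    rw [e, hu, hka]
    rfl

theorem three_cycle_of_alt [Fintype Ω] [DecidableEq Ω] (Δ : Set Ω) [DecidablePred (· ∈ Δ)]
    (h5 : 5 ≤ Δ.ncard) (hlt : Δᶜ.ncard < Δ.ncard)
    (hΔ : ∀ σ : Perm Δ, Perm.sign σ = 1 → ∃ u : stabilizer G Δ, (toPerm u : Perm Δ) = σ) :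
    ∃ g : G, (toPerm g : Perm Ω).IsThreeCycle := by
  have hcard : Fintype.card Δ = Δ.ncard := by
    rw [← Nat.card_eq_fintype_card, Nat.card_coe_set_eq]
  have hcard' : Fintype.card (Δᶜ : Set Ω) = Δᶜ.ncard := by
    rw [← Nat.card_eq_fintype_card, Nat.card_coe_set_eq]
  have h5' : 5 ≤ Nat.card Δ := by rw [Nat.card_coe_set_eq]; exact h5
  have hN : (NN (G := G) Δ).Normal := NN_normal Δ hΔ
  rcases alternatingGroup.normal_subgroup_eq_bot_or_eq_top h5' (N := NN (G := G) Δ) with hbot | htop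
  · -- counting
    exfalso
    have hΔ' : ∀ a : alternatingGroup Δ, ∃ u : stabilizer G Δ,
        (toPerm u : Perm Δ) = (a : Perm Δ) :=
      fun a => hΔ a (Perm.mem_alternatingGroup.mp a.2)
    choose u hu using hΔ'
    let f : alternatingGroup Δ → Perm {x // x ∈ Δᶜ} := fun a =>
      (toPerm ((u a : stabilizer G Δ) : G) : Perm Ω).subtypePerm (p := fun x => x ∈ Δᶜ)
        (fun x => by
          show (u a : G) • x ∈ Δᶜ ↔ x ∈ Δᶜ
          simp only [Set.mem_compl_iff, smul_mem_iff])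
    have hf : Function.Injective f := by
      intro a b hab
      have hagree : ∀ x, x ∉ Δ → (u a : G) • x = (u b : G) • x := by
        intro x hx
        have := congrArg (fun σ : Perm {x // x ∈ Δᶜ} => ((σ ⟨x, hx⟩ : {x // x ∈ Δᶜ}) : Ω)) hab
        exact this
      have hmem : a⁻¹ * b ∈ NN (G := G) Δ := by
        refine ⟨(u a)⁻¹ * u b, fun x hx => ?_, ?_⟩
        · rw [Subgroup.coe_mul, Subgroup.coe_inv, mul_smul, inv_smul_eq_iff, hagree x hx]
        · have e : (toPerm ((u a)⁻¹ * u b) : Perm Δ) = (toPerm (u a))⁻¹ * toPerm (u b) := by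
            ext x
            simp [mul_smul]
          rw [e, hu, hu]
          rfl
      rw [hbot, Subgroup.mem_bot] at hmem
      exact inv_mul_eq_one.mp hmem
    have hle := Nat.card_le_card_of_injective f hf
    rw [Nat.card_perm] at hle
    have hnt : Nontrivial Δ := by
      rw [← Fintype.one_lt_card_iff_nontrivial]
      omega
    have h2 := two_mul_nat_card_alternatingGroup (α := Δ)
    rw [Nat.card_perm, Nat.card_coe_set_eq] at h2
    have hg : Nat.card {x // x ∈ Δᶜ} = Δᶜ.ncard := Nat.card_coe_set_eq _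
    rw [hg] at hle
    obtain ⟨e, he⟩ : ∃ e, Δ.ncard = e + 1 := ⟨Δ.ncard - 1, by omega⟩
    rw [he, Nat.factorial_succ] at h2
    have h3 : (Δᶜ.ncard).factorial ≤ e.factorial := Nat.factorial_le (by omega)
    have h4 : 0 < e.factorial := Nat.factorial_pos e
    have h5'' : 5 ≤ e + 1 := by omega
    nlinarith
  · -- a three cycle
    have h3 : 2 < Fintype.card Δ := by omega
    obtain ⟨a, b, c, hab, hac, hbc⟩ := Fintype.two_lt_card_iff.mp h3
    have hc3 : (swap a b * swap a c).IsThreeCycle := Perm.isThreeCycle_swap_mul_swap_same hab hac hbc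
    have hmem : (⟨swap a b * swap a c, hc3.mem_alternatingGroup⟩ : alternatingGroup Δ) ∈
        NN (G := G) Δ := by rw [htop]; trivial
    obtain ⟨k, hk, hkc⟩ := hmem
    replace hkc : (toPerm k : Perm Δ) = swap a b * swap a c := hkc
    refine ⟨(k : G), ?_⟩
    have e : (toPerm (k : G) : Perm Ω) = Perm.ofSubtype (swap a b * swap a c) := by
      ext x
      by_cases hx : x ∈ Δ
      · rw [Perm.ofSubtype_apply_of_mem _ hx, ← hkc]
        rfl
      · rw [Perm.ofSubtype_apply_of_not_mem _ hx]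
        exact hk x hx
    rw [e]
    unfold Perm.IsThreeCycle at hc3 ⊢
    rw [Perm.cycleType_ofSubtype, hc3]

end Cfsg.Agent.Lib.Helper65_MG_ALT3
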