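import Mathlib
import Cfsg.Agent.Lib.Helper6_MXDefs

/-!
# S4017 market, package MX-A1 (architect helper6; formalised by helper65)

`⟨x⟩` is transitive on `Q \ {1}`.
-/

set_option autoImplicit false

open Cfsg.Agent.Lib.Helper6_MXDefs

namespace Cfsg.Agent.Lib.Helper65_MX_A1

variable {G : Type*} [Group G] [Finite G] {p a : ℕ} {Q : Subgroup G} {x : G}

/-- MX-A1. -/
theorem x_trans (h : Ctx0 G p a Q x) : PTrans Q x := by
  classical
  have : Fact p.Prime := ⟨h.hp⟩
  have : Finite (ConjAct G) := Finite.of_equiv G ConjAct.toConjAct.toEquiv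
  intro v hv hv1 w hw hw1
  obtain ⟨c, hc⟩ : ∃ c : ConjAct G, c = ConjAct.toConjAct x := ⟨_, rfl⟩
  have hof : ∀ j : ℕ, ConjAct.ofConjAct (c ^ j) = x ^ j := by
    intro j
    rw [hc]
    simp
  -- `K = ⟨c⟩` is a `p`-group
  have hK : IsPGroup p (Subgroup.zpowers c) := by
    obtain ⟨k, hk⟩ := h.xp
    have hck : c ^ p ^ k = 1 := by
      rw [hc, ← map_pow, hk, map_one]
    intro g
    obtain ⟨i, hi⟩ := Subgroup.mem_zpowers_iff.mp g.2
    refine ⟨k, ?_⟩
    apply Subtype.ext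
    rw [Subgroup.coe_pow, ← hi, ← zpow_natCast, ← zpow_mul, mul_comm, zpow_mul, zpow_natCast, hck,
      one_zpow]
    rfl
  -- elements of `K` are natural powers
  have hpow : ∀ k : Subgroup.zpowers c, ∃ j : ℕ, (k : ConjAct G) = c ^ j := by
    intro k
    have := (mem_powers_iff_mem_zpowers (x := c) (y := (k : ConjAct G))).mpr k.2
    obtain ⟨j, hj⟩ := (Submonoid.mem_powers_iff _ _).mp this
    exact ⟨j, hj.symm⟩
  have hsmul : ∀ (k : Subgroup.zpowers c) (j : ℕ), (k : ConjAct G) = c ^ j → ∀ g : G,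
      k • g = x ^ j * g * (x ^ j)⁻¹ := by
    intro k j hkj g
    rw [Subgroup.smul_def, hkj, ConjAct.smul_def, hof]
  -- powers of `x` normalize `Q`
  have hxj : ∀ j : ℕ, x ^ j ∈ NQ Q := fun j => Subgroup.pow_mem _ h.xN j
  -- the orbit of `v` lies in `Q \ {1}`
  have hsub : MulAction.orbit (Subgroup.zpowers c) v ⊆ (Q : Set G) \ {1} := by
    rintro _ ⟨k, rfl⟩
    obtain ⟨j, hj⟩ := hpow k
    show k • v ∈ _
    rw [hsmul k j hj v]
    refine ⟨(Subgroup.mem_normalizer_iff.mp (hxj j) v).mp hv, ?_⟩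
    intro h1
    rw [Set.mem_singleton_iff] at h1
    apply hv1
    have : v = (x ^ j)⁻¹ * (x ^ j * v * (x ^ j)⁻¹) * x ^ j := by group
    rw [this, h1]
    group
  -- size of `Q \ {1}`
  have hQcard : ((Q : Set G) \ {1}).ncard = p := by
    have h1 : ((Q : Set G) \ {1}).ncard = (Q : Set G).ncard - 1 := by
      rw [Set.ncard_sdiff_singleton_of_mem (Q.one_mem)]
    have h2 : (Q : Set G).ncard = Nat.card Q := (Nat.card_coe_set_eq (Q : Set G)).symm
    rw [h1, h2, h.cardQ, ← h.hpa]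
    omega
  -- the orbit has `p`-power size, not `1`
  obtain ⟨n, hn⟩ := hK.card_orbit v
  have hn' : (MulAction.orbit (Subgroup.zpowers c) v).ncard = p ^ n := by
    rw [← hn]
    exact (Nat.card_coe_set_eq _).symm
  have hn0 : n ≠ 0 := by
    intro h0
    rw [h0, pow_zero, Set.ncard_eq_one] at hn'
    obtain ⟨b, hb⟩ := hn'
    have hvb : v = b := by
      have : v ∈ MulAction.orbit (Subgroup.zpowers c) v := MulAction.mem_orbit_self v
      rw [hb] at this
      exact this
    have hcv : (⟨c, Subgroup.mem_zpowers c⟩ : Subgroup.zpowers c) • v = b := by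
      have : (⟨c, Subgroup.mem_zpowers c⟩ : Subgroup.zpowers c) • v
          ∈ MulAction.orbit (Subgroup.zpowers c) v := MulAction.mem_orbit v _
      rw [hb] at this
      exact this
    rw [hsmul _ 1 (by simp) v, pow_one, ← hvb] at hcv
    exact hv1 (h.xfree v hv hcv)
  have hle : ((Q : Set G) \ {1}).ncard ≤ (MulAction.orbit (Subgroup.zpowers c) v).ncard := by
    rw [hQcard, hn']
    calc p = p ^ 1 := (pow_one p).symm
      _ ≤ p ^ n := Nat.pow_le_pow_right h.hp.pos (Nat.one_le_iff_ne_zero.mpr hn0)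
  have heq : MulAction.orbit (Subgroup.zpowers c) v = (Q : Set G) \ {1} :=
    Set.eq_of_subset_of_ncard_le hsub hle (Set.toFinite _)
  have hwmem : w ∈ MulAction.orbit (Subgroup.zpowers c) v := by
    rw [heq]
    exact ⟨hw, hw1⟩
  obtain ⟨k, hk⟩ := hwmem
  obtain ⟨j, hj⟩ := hpow k
  refine ⟨j, ?_⟩
  rw [← hsmul k j hj v]
  exact hk

end Cfsg.Agent.Lib.Helper65_MX_A1
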