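import Mathlib
import Cfsg.Agent.Lib.Helper6_MXDefs

/-!
# S4017 market, package MX-E4B (architect helper6; formalised by helper65)

CIT case: a nontrivial real `p`-element `y` (inverted by the involution `t`) has `C(y)` a Sylow
`p`-subgroup, inverted by `t`.
-/

set_option autoImplicit false

open Cfsg.Agent.Lib.Helper6_MXDefs

namespace Cfsg.Agent.Lib.Helper65_MX_E4B

variable {G : Type*} [Group G]

/-- an element of square one which is a `p`-element (`p` odd) is trivial -/
theorem eq_one_of_sq_of_isPEl {p : ℕ} (hp : p.Prime) (hp2 : p ≠ 2) {m : G} (h1 : m * m = 1)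
    (h2 : IsPEl p m) : m = 1 := by
  obtain ⟨k, hk⟩ := h2
  have d1 : orderOf m ∣ 2 := orderOf_dvd_of_pow_eq_one (by rw [pow_two]; exact h1)
  have d2 : orderOf m ∣ p ^ k := orderOf_dvd_of_pow_eq_one hk
  have hc : Nat.Coprime 2 (p ^ k) :=
    Nat.Coprime.pow_right k ((Nat.coprime_primes Nat.prime_two hp).mpr (Ne.symm hp2))
  have : orderOf m ∣ Nat.gcd 2 (p ^ k) := Nat.dvd_gcd d1 d2
  rw [hc] at this
  exact orderOf_eq_one_iff.mp (Nat.dvd_one.mp this)

variable [Finite G] {p a : ℕ}

/-- MX-E4B. -/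
theorem cit_real (hF : UFacts G p a) : CitRealProp G p a := by
  classical
  intro Q x h hG y hy1 hyp t ht hty
  have F := hF Q x h
  have : Fact p.Prime := ⟨h.hp⟩
  have htt : t * t = 1 := by
    have := pow_orderOf_eq_one t
    rw [ht, pow_two] at this
    exact this
  have htinv : t⁻¹ = t := inv_eq_of_mul_eq_one_right htt
  obtain ⟨C, hC⟩ : ∃ C : Subgroup G, C = Subgroup.centralizer ({y} : Set G) := ⟨_, rfl⟩
  have memC : ∀ z : G, z ∈ C ↔ z * y = y * z := by
    intro z
    rw [hC, Subgroup.mem_centralizer_singleton_iff]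
  have hyC : y ∈ C := (memC y).mpr rfl
  -- no involution commutes with `y`
  have hnoinv : ∀ v : G, orderOf v = 2 → v * y = y * v → False := by
    intro v hv hvy
    exact hy1 (eq_one_of_sq_of_isPEl h.hp h.hp2 (hG.sq v hv y hvy.symm) hyp)
  -- `|C|` is odd
  have hodd : ¬ 2 ∣ Nat.card C := by
    intro h2
    have : Fact (Nat.Prime 2) := ⟨Nat.prime_two⟩
    obtain ⟨g, hg⟩ := exists_prime_orderOf_dvd_card' (G := ↥C) 2 h2
    have hg' : orderOf (g : G) = 2 := by rw [Subgroup.orderOf_coe]; exact hg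
    exact hnoinv g hg' ((memC g).mp g.2)
  -- `t` normalizes `C`
  have hconj : ∀ z : G, z ∈ C → t * z * t⁻¹ ∈ C := by
    intro z hz
    rw [memC] at hz ⊢
    have e1 : t * z * t⁻¹ * y⁻¹ = y⁻¹ * (t * z * t⁻¹) := by
      rw [← hty]
      calc t * z * t⁻¹ * (t * y * t⁻¹) = t * (z * y) * t⁻¹ := by group
        _ = t * (y * z) * t⁻¹ := by rw [hz]
        _ = t * y * t⁻¹ * (t * z * t⁻¹) := by group
    calc t * z * t⁻¹ * y = y * (y⁻¹ * (t * z * t⁻¹)) * y := by group
      _ = y * (t * z * t⁻¹ * y⁻¹) * y := by rw [e1]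
      _ = y * (t * z * t⁻¹) := by group
  have htN : t ∈ Subgroup.normalizer (C : Set G) := by
    rw [Subgroup.mem_normalizer_iff]
    intro z
    constructor
    · exact hconj z
    · intro hz
      have := hconj _ hz
      have e : t * (t * z * t⁻¹) * t⁻¹ = z := by
        rw [htinv]
        calc t * (t * z * t) * t = (t * t) * z * (t * t) := by group
          _ = z := by rw [htt, one_mul, mul_one]
      rwa [e] at this
  -- `H = C ⟨t⟩` is a proper subgroup of even order
  obtain ⟨H, hH⟩ : ∃ H : Subgroup G, H = C ⊔ Subgroup.zpowers t := ⟨_, rfl⟩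
  have hCH : C ≤ H := by rw [hH]; exact le_sup_left
  have htH : Subgroup.zpowers t ≤ H := by rw [hH]; exact le_sup_right
  have hHne : H ≠ ⊤ := by
    intro htop
    have hle : H ≤ Subgroup.normalizer (C : Set G) := by
      rw [hH]
      apply sup_le Subgroup.le_normalizer
      rw [Subgroup.zpowers_le]
      exact htN
    rw [htop] at hle
    have hCn : C.Normal := Subgroup.normalizer_eq_top_iff.mp (top_le_iff.mp hle)
    rcases h.simple C hCn with hbot | htop'
    · rw [hbot, Subgroup.mem_bot] at hyC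
      exact hy1 hyC
    · apply hy1
      apply F.ctr
      intro k
      have : k ∈ C := by rw [htop']; exact Subgroup.mem_top k
      exact ((memC k).mp this).symm
  have h2H : 2 ∣ Nat.card H := by
    have := Subgroup.card_dvd_of_le htH
    rwa [Nat.card_zpowers, ht] at this
  have hTwoP : TwoP p (Nat.card H) := h.even H hHne h2H
  -- `C` is a `p`-group
  have hCcard : Nat.card C = p ^ (Nat.card C).primeFactorsList.length := by
    apply Nat.eq_prime_pow_of_unique_prime_dvd Nat.card_pos.ne'
    intro d hd hdC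
    rcases hTwoP d hd (hdC.trans (Subgroup.card_dvd_of_le hCH)) with h2 | hp
    · exfalso
      rw [h2] at hdC
      exact hodd hdC
    · exact hp
  have hCp : IsPGroup p C := IsPGroup.of_card hCcard
  have hCab := h.abel C hCp
  have hpel : ∀ z : G, z ∈ C → IsPEl p z := by
    intro z hz
    obtain ⟨k, hk⟩ := hCp ⟨z, hz⟩
    exact ⟨k, by simpa using congrArg Subtype.val hk⟩
  refine ⟨fun z hz => hpel z ((memC z).mpr hz), ?_, ?_⟩
  · -- `C` is a Sylow `p`-subgroup
    obtain ⟨S, hS⟩ := hCp.exists_le_sylow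
    have hSab := h.abel (S : Subgroup G) S.isPGroup'
    have hSC : (S : Subgroup G) ≤ C := by
      intro z hz
      rw [memC]
      exact hSab z hz y (hS hyC)
    have : C = (S : Subgroup G) := le_antisymm hS hSC
    rw [← hC, this, S.card_eq_multiplicity]
    rfl
  · intro z hz
    have hzC : z ∈ C := (memC z).mpr hz
    obtain ⟨m, hm⟩ : ∃ m : G, m = z * (t * z * t⁻¹) := ⟨_, rfl⟩
    have hmC : m ∈ C := by rw [hm]; exact C.mul_mem hzC (hconj z hzC)
    have hmt : m * t = t * m := by
      have e : t * m * t⁻¹ = m := by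
        rw [hm]
        calc t * (z * (t * z * t⁻¹)) * t⁻¹
            = (t * z * t⁻¹) * ((t * t) * z * (t * t)⁻¹) := by group
          _ = (t * z * t⁻¹) * z := by rw [htt, one_mul, inv_one, mul_one]
          _ = z * (t * z * t⁻¹) := (hCab z hzC (t * z * t⁻¹) (hconj z hzC)).symm
      calc m * t = (t * m * t⁻¹) * t := by rw [e]
        _ = t * m := by group
    have hm1 : m = 1 :=
      eq_one_of_sq_of_isPEl h.hp h.hp2 (hG.sq t ht m hmt) (hpel m hmC)
    rw [hm] at hm1
    exact eq_inv_of_mul_eq_one_right hm1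

end Cfsg.Agent.Lib.Helper65_MX_E4B
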