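import Mathlib
import Cfsg.Agent.Lib.Helper6_MXDefs
import Cfsg.Agent.Lib.Helper65_MX_E4B

/-!
# S4017 market, package MX-E4D3 (architect helper6; formalised by helper65)

CIT case: counting the nontrivial real `p`-elements through the Sylow `p`-subgroups (which are TI, of
order `π`, with normalizers of order `2π`): `|RealP| · 2π = (π - 1) |G|`.
-/

set_option autoImplicit false

open Cfsg.Agent.Lib.Helper6_MXDefs

namespace Cfsg.Agent.Lib.Helper65_MX_E4D3

open Cfsg.Agent.Lib.Helper65_MX_E4B (eq_one_of_sq_of_isPEl)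

variable {G : Type*} [Group G] [Finite G]

/-- If every nonidentity element `y` of every Sylow `p`-subgroup `S` lies in `R` and has `C(y) = S`, and
every element of `R` is a nonidentity element whose centralizer has the order of a Sylow `p`-subgroup,
then `|R| = n_p (π - 1)`. -/
theorem ncard_eq_of_sylow {p : ℕ} [Fact p.Prime] (R : Set G)
    (H1 : ∀ S : Sylow p G, ∀ y ∈ S, y ≠ 1 →
      y ∈ R ∧ Subgroup.centralizer ({y} : Set G) = (S : Subgroup G))
    (H2 : ∀ y ∈ R, y ≠ 1 ∧
      Nat.card (Subgroup.centralizer ({y} : Set G)) = p ^ (Nat.card G).factorization p) :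
    R.ncard = Nat.card (Sylow p G) * (p ^ (Nat.card G).factorization p - 1) := by
  classical
  have : Fintype (Sylow p G) := Fintype.ofFinite _
  let f : (Σ S : Sylow p G, {y : G // y ∈ S ∧ y ≠ 1}) → ↥R :=
    fun s => ⟨s.2.1, (H1 s.1 s.2.1 s.2.2.1 s.2.2.2).1⟩
  have hf : Function.Bijective f := by
    constructor
    · rintro ⟨S, ⟨y, hyS, hy1⟩⟩ ⟨S', ⟨y', hyS', hy1'⟩⟩ hEq
      have hyy : y = y' := congrArg Subtype.val hEq
      subst hyy
      have hSS : S = S' := by
        apply Sylow.ext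
        rw [← (H1 S y hyS hy1).2, ← (H1 S' y hyS' hy1').2]
      subst hSS
      rfl
    · rintro ⟨y, hy⟩
      obtain ⟨hy1, hcard⟩ := H2 y hy
      refine ⟨⟨Sylow.ofCard (Subgroup.centralizer {y}) hcard, ⟨y, ?_, hy1⟩⟩, rfl⟩
      show y ∈ Subgroup.centralizer {y}
      exact Subgroup.mem_centralizer_singleton_iff.mpr rfl
  have hfib : ∀ S : Sylow p G,
      Nat.card {y : G // y ∈ S ∧ y ≠ 1} = p ^ (Nat.card G).factorization p - 1 := by
    intro S
    have e1 : Nat.card {y : G // y ∈ S ∧ y ≠ 1} = Set.ncard {y : G | y ∈ S ∧ y ≠ 1} :=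
      Nat.card_coe_set_eq {y : G | y ∈ S ∧ y ≠ 1}
    have e2 : {y : G | y ∈ S ∧ y ≠ 1} = ((S : Subgroup G) : Set G) \ {1} := by
      ext y
      simp
    have e3 : (((S : Subgroup G) : Set G)).ncard = Nat.card (S : Subgroup G) :=
      (Nat.card_coe_set_eq ((S : Subgroup G) : Set G)).symm
    rw [e1, e2, Set.ncard_sdiff_singleton_of_mem (Subgroup.one_mem _), e3, S.card_eq_multiplicity]
  rw [← Nat.card_coe_set_eq, ← Nat.card_congr (Equiv.ofBijective f hf), Nat.card_sigma]
  simp only [hfib, Finset.sum_const, Finset.card_univ, smul_eq_mul, Nat.card_eq_fintype_card]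

variable {p a : ℕ}

set_option linter.unusedVariables false in
/-- MX-E4D3.  (`hIC` is not needed.) -/
theorem cit_Y (hF : UFacts G p a) (hRe : CitRealProp G p a) (hIC : CitInvCountProp G p a) :
    CitYProp G p a := by
  classical
  intro Q x h hG hne
  have F := hF Q x h
  have : Fact p.Prime := ⟨h.hp⟩
  have Re := hRe Q x h hG
  have hpp : ppart G p = p ^ (Nat.card G).factorization p := rfl
  have hreal : ∀ y ∈ RealP G p, y ≠ 1 ∧
      Nat.card (Subgroup.centralizer ({y} : Set G)) = p ^ (Nat.card G).factorization p := by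
    rintro y ⟨hy1, hyp, t, ht, hty⟩
    exact ⟨hy1, (Re y hy1 hyp t ht hty).2.1⟩
  obtain ⟨y0, hy01, hy0p, t0, ht0, ht0y⟩ := hne
  obtain ⟨hpel0, hcard0, hinv0⟩ := Re y0 hy01 hy0p t0 ht0 ht0y
  have htt : t0 * t0 = 1 := by
    have := pow_orderOf_eq_one t0
    rw [ht0, pow_two] at this
    exact this
  have htinv : t0⁻¹ = t0 := inv_eq_of_mul_eq_one_right htt
  obtain ⟨P', hP'⟩ : ∃ P' : Subgroup G, P' = Subgroup.centralizer ({y0} : Set G) := ⟨_, rfl⟩
  have memP : ∀ z : G, z ∈ P' ↔ z * y0 = y0 * z := by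
    intro z
    rw [hP', Subgroup.mem_centralizer_singleton_iff]
  have hP'card : Nat.card P' = p ^ (Nat.card G).factorization p := by rw [hP']; exact hcard0
  have hP'ab : ∀ g ∈ P', ∀ k ∈ P', g * k = k * g := h.abel P' (IsPGroup.of_card hP'card)
  have hP'pel : ∀ z ∈ P', IsPEl p z := fun z hz => hpel0 z ((memP z).mp hz)
  have hP'inv : ∀ z ∈ P', t0 * z * t0⁻¹ = z⁻¹ := fun z hz => hinv0 z ((memP z).mp hz)
  have hy0P : y0 ∈ P' := (memP y0).mpr rfl
  obtain ⟨PS, hPS⟩ : ∃ PS : Sylow p G, (PS : Subgroup G) = P' := ⟨Sylow.ofCard P' hP'card, rfl⟩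
  -- every nonidentity element of a Sylow `p`-subgroup is real with centralizer that Sylow subgroup
  have H1 : ∀ S : Sylow p G, ∀ y ∈ S, y ≠ 1 →
      y ∈ RealP G p ∧ Subgroup.centralizer ({y} : Set G) = (S : Subgroup G) := by
    intro S y hyS hy1
    obtain ⟨g, hg⟩ := MulAction.exists_smul_eq G S PS
    have hy' : g * y * g⁻¹ ∈ P' := by
      rw [← hPS, ← hg, Sylow.coe_subgroup_smul]
      have := Subgroup.smul_mem_pointwise_smul y (MulAut.conj g) (S : Subgroup G) hyS
      simpa using this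
    have hy'inv := hP'inv _ hy'
    have hyp : IsPEl p y := by
      obtain ⟨k, hk⟩ := S.isPGroup' ⟨y, hyS⟩
      exact ⟨k, by simpa using congrArg Subtype.val hk⟩
    have ht : orderOf (g⁻¹ * t0 * g) = 2 := by
      have := (MulAut.conj g⁻¹).orderOf_eq t0
      rw [MulAut.conj_apply, inv_inv] at this
      rw [this, ht0]
    have hty : (g⁻¹ * t0 * g) * y * (g⁻¹ * t0 * g)⁻¹ = y⁻¹ := by
      calc (g⁻¹ * t0 * g) * y * (g⁻¹ * t0 * g)⁻¹
          = g⁻¹ * (t0 * (g * y * g⁻¹) * t0⁻¹) * g := by group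
        _ = g⁻¹ * (g * y * g⁻¹)⁻¹ * g := by rw [hy'inv]
        _ = y⁻¹ := by group
    have hyR : y ∈ RealP G p := ⟨hy1, hyp, _, ht, hty⟩
    refine ⟨hyR, ?_⟩
    have hle : (S : Subgroup G) ≤ Subgroup.centralizer ({y} : Set G) := by
      intro z hz
      rw [Subgroup.mem_centralizer_singleton_iff]
      exact h.abel (S : Subgroup G) S.isPGroup' z hz y hyS
    have := Subgroup.eq_of_le_of_card_ge hle (by rw [(hreal y hyR).2, S.card_eq_multiplicity])
    exact this.symm
  have hcount := ncard_eq_of_sylow (RealP G p) H1 hreal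
  -- the normalizer of `P'`
  obtain ⟨N, hN⟩ : ∃ N : Subgroup G, N = Subgroup.normalizer (P' : Set G) := ⟨_, rfl⟩
  have memN : ∀ g : G, g ∈ N ↔ ∀ z : G, z ∈ P' ↔ g * z * g⁻¹ ∈ P' := by
    intro g
    rw [hN, Subgroup.mem_normalizer_iff]
  have hPN : P' ≤ N := by rw [hN]; exact Subgroup.le_normalizer
  have ht0N : t0 ∈ N := by
    rw [memN]
    intro z
    constructor
    · intro hz
      rw [hP'inv z hz]
      exact P'.inv_mem hz
    · intro hz
      have h1 := hP'inv _ hz
      have e : t0 * (t0 * z * t0⁻¹) * t0⁻¹ = z := by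
        calc t0 * (t0 * z * t0⁻¹) * t0⁻¹ = (t0 * t0) * z * (t0 * t0)⁻¹ := by group
          _ = z := by rw [htt, one_mul, inv_one, mul_one]
      rw [e] at h1
      rw [h1]
      exact P'.inv_mem hz
  -- involutions of `N` invert `P'`
  have hNinv : ∀ v ∈ N, orderOf v = 2 → ∀ z ∈ P', v * z * v⁻¹ = z⁻¹ := by
    intro v hvN hv z hz
    have hvv : v * v = 1 := by
      have := pow_orderOf_eq_one v
      rw [hv, pow_two] at this
      exact this
    have hvz : v * z * v⁻¹ ∈ P' := ((memN v).mp hvN z).mp hz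
    obtain ⟨m, hm⟩ : ∃ m : G, m = z * (v * z * v⁻¹) := ⟨_, rfl⟩
    have hmP : m ∈ P' := by rw [hm]; exact P'.mul_mem hz hvz
    have hmv : m * v = v * m := by
      have e : v * m * v⁻¹ = m := by
        rw [hm]
        calc v * (z * (v * z * v⁻¹)) * v⁻¹
            = (v * z * v⁻¹) * ((v * v) * z * (v * v)⁻¹) := by group
          _ = (v * z * v⁻¹) * z := by rw [hvv, one_mul, inv_one, mul_one]
          _ = z * (v * z * v⁻¹) := (hP'ab z hz _ hvz).symm
      calc m * v = (v * m * v⁻¹) * v := by rw [e]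
        _ = v * m := by group
    have hm1 : m = 1 := eq_one_of_sq_of_isPEl h.hp h.hp2 (hG.sq v hv m hmv) (hP'pel m hmP)
    rw [hm] at hm1
    exact eq_inv_of_mul_eq_one_right hm1
  -- an element inverted... : products of two inverting elements centralize `y0`
  have hprod : ∀ u v : G, (∀ z ∈ P', u * z * u⁻¹ = z⁻¹) → (∀ z ∈ P', v * z * v⁻¹ = z⁻¹) →
      u * v ∈ P' := by
    intro u v hu hv
    rw [memP]
    have e : (u * v) * y0 * (u * v)⁻¹ = y0 := by
      calc (u * v) * y0 * (u * v)⁻¹ = u * (v * y0 * v⁻¹) * u⁻¹ := by group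
        _ = u * y0⁻¹ * u⁻¹ := by rw [hv y0 hy0P]
        _ = y0 := by rw [hu _ (P'.inv_mem hy0P), inv_inv]
    calc u * v * y0 = ((u * v) * y0 * (u * v)⁻¹) * (u * v) := by group
      _ = y0 * (u * v) := by rw [e]
  -- `π` is odd: square roots in `P'`
  have hπodd : Odd (p ^ (Nat.card G).factorization p) :=
    Odd.pow (h.hp.odd_of_ne_two h.hp2)
  have hsqrt : ∀ w ∈ P', ∃ r ∈ P', r * r = w := by
    intro w hw
    obtain ⟨k, hk⟩ := hπodd
    refine ⟨w ^ (k + 1), P'.pow_mem hw _, ?_⟩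
    have hwπ : w ^ (p ^ (Nat.card G).factorization p) = 1 := by
      rw [← hP'card]
      exact orderOf_dvd_iff_pow_eq_one.mp (Subgroup.orderOf_dvd_natCard P' hw)
    rw [← pow_add]
    have : k + 1 + (k + 1) = p ^ (Nat.card G).factorization p + 1 := by omega
    rw [this, pow_succ, hwπ, one_mul]
  have ht0P : t0 ∉ P' := by
    intro hmem
    have := eq_one_of_sq_of_isPEl h.hp h.hp2 htt (hP'pel t0 hmem)
    rw [this, orderOf_one] at ht0
    norm_num at ht0
  -- `N = P' ⟨t0⟩`
  have hdec : ∀ g ∈ N, g * t0 ∈ P' ∨ g ∈ P' := by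
    intro g hgN
    obtain ⟨v, hv⟩ : ∃ v : G, v = g * t0 * g⁻¹ := ⟨_, rfl⟩
    have hvN : v ∈ N := by rw [hv]; exact N.mul_mem (N.mul_mem hgN ht0N) (N.inv_mem hgN)
    have hv2 : orderOf v = 2 := by
      have := (MulAut.conj g).orderOf_eq t0
      rw [MulAut.conj_apply] at this
      rw [hv, this, ht0]
    have hvinv := hNinv v hvN hv2
    have hw : t0 * v ∈ P' := hprod t0 v hP'inv hvinv
    obtain ⟨r, hrP, hrr⟩ := hsqrt _ hw
    -- `r⁻¹ t0 r = v`
    have hrt : r⁻¹ * t0 * r = v := by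
      have h1 : t0 * r * t0⁻¹ = r⁻¹ := hP'inv r hrP
      have h2 : r⁻¹ * t0 = t0 * r := by
        calc r⁻¹ * t0 = (t0 * r * t0⁻¹) * t0 := by rw [h1]
          _ = t0 * r := by group
      calc r⁻¹ * t0 * r = t0 * (r * r) := by rw [h2]; group
        _ = t0 * (t0 * v) := by rw [hrr]
        _ = (t0 * t0) * v := by group
        _ = v := by rw [htt, one_mul]
    obtain ⟨c, hc⟩ : ∃ c : G, c = r * g := ⟨_, rfl⟩
    have hcN : c ∈ N := by rw [hc]; exact N.mul_mem (hPN hrP) hgN
    have hct : c * t0 = t0 * c := by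
      have e : c * t0 * c⁻¹ = t0 := by
        rw [hc]
        calc r * g * t0 * (r * g)⁻¹ = r * (g * t0 * g⁻¹) * r⁻¹ := by group
          _ = r * (r⁻¹ * t0 * r) * r⁻¹ := by rw [← hv, hrt]
          _ = t0 := by group
      calc c * t0 = (c * t0 * c⁻¹) * c := by group
        _ = t0 * c := by rw [e]
    have hcc : c * c = 1 := hG.sq t0 ht0 c hct
    by_cases hc1 : c = 1
    · right
      have : g = r⁻¹ := by
        rw [hc] at hc1
        exact eq_inv_of_mul_eq_one_right hc1
      rw [this]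
      exact P'.inv_mem hrP
    · left
      have hc2 : orderOf c = 2 := orderOf_eq_prime (by rw [pow_two]; exact hcc) hc1
      have hcinv := hNinv c hcN hc2
      have hctP : c * t0 ∈ P' := hprod c t0 hcinv hP'inv
      have hct2 : (c * t0) * t0 = t0 * (c * t0) := by
        rw [← mul_assoc t0, ← hct]
      have hsq : (c * t0) * (c * t0) = 1 := hG.sq t0 ht0 (c * t0) hct2
      have h1 : c * t0 = 1 := eq_one_of_sq_of_isPEl h.hp h.hp2 hsq (hP'pel _ hctP)
      have : g * t0 = r⁻¹ := by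
        rw [hc, mul_assoc] at h1
        exact eq_inv_of_mul_eq_one_right h1
      rw [this]
      exact P'.inv_mem hrP
  have hrel : P'.relIndex N = 2 := by
    rw [Subgroup.relIndex_eq_two_iff_exists_notMem_and]
    exact ⟨t0, ht0N, ht0P, hdec⟩
  have hNcard : Nat.card P' * 2 = Nat.card N := by
    have h1 := Subgroup.card_mul_index (P'.subgroupOf N)
    rw [Nat.card_congr (Subgroup.subgroupOfEquivOfLe hPN).toEquiv] at h1
    rw [← hrel]
    exact h1
  have hnp : Nat.card (Sylow p G) = N.index := by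
    have h1 := Sylow.card_eq_index_normalizer PS
    have h2 : Subgroup.normalizer (PS : Set G) = N := by
      rw [hN, ← hPS]
      rfl
    rw [h1, h2]
  have hmul := Subgroup.card_mul_index N
  obtain ⟨π, hπ⟩ : ∃ π : ℕ, π = p ^ (Nat.card G).factorization p := ⟨_, rfl⟩
  rw [← hπ] at hcount hP'card
  rw [hpp, ← hπ, hcount, hnp, ← hmul, ← hNcard, hP'card]
  ring

end Cfsg.Agent.Lib.Helper65_MX_E4D3
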