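/-
Helper library (helper65): groups in which every element outside a proper normal subgroup `N`
has prime power order and a maximal centralizer. Part 1: centralizers are `p`-groups; a counting
lemma forcing abelian Sylow subgroups.
-/
import Mathlib

set_option autoImplicit false

namespace Cfsg.Agent.Lib.Helper65_MaxCent

variable {G : Type*} [Group G] [Finite G]

/-- Step 1: the centralizer of a `p`-element outside `N` is a `p`-group, when all elements
outside the normal subgroup `N` have prime power order. -/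
theorem isPGroup_centralizer (N : Subgroup G)
    (h : ∀ y : G, y ∉ N → IsPrimePow (orderOf y)) {x : G} (hx : x ∉ N) {p k : ℕ} (hp : p.Prime)
    (hord : orderOf x = p ^ k) : IsPGroup p (Subgroup.centralizer ({x} : Set G)) := by
  have hx1 : x ≠ 1 := fun h1 => hx (h1 ▸ N.one_mem)
  have hk : k ≠ 0 := by
    rintro rfl
    rw [pow_zero, orderOf_eq_one_iff] at hord
    exact hx1 hord
  have : Fact p.Prime := ⟨hp⟩
  rw [IsPGroup.iff_card]
  refine ⟨_, Nat.eq_prime_pow_of_unique_prime_dvd Nat.card_pos.ne' ?_⟩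
  intro q hq hqd
  by_contra hqp
  have : Fact q.Prime := ⟨hq⟩
  obtain ⟨⟨y, hyC⟩, hy⟩ := exists_prime_orderOf_dvd_card' q hqd
  have hyo : orderOf y = q := by
    rw [← hy]; exact (Subgroup.orderOf_mk y hyC).symm
  have hcomm : Commute x y := (Subgroup.mem_centralizer_singleton_iff.mp hyC).symm
  have hcop : (orderOf x).Coprime (orderOf y) := by
    rw [hord, hyo]
    exact Nat.Coprime.pow_left k ((Nat.coprime_primes hp hq).mpr (Ne.symm hqp))
  have hxy : orderOf (x * y) = p ^ k * q := by
    rw [hcomm.orderOf_mul_eq_mul_orderOf_of_coprime hcop, hord, hyo]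
  by_cases hN : x * y ∈ N
  · have h1 : (x * y) ^ q ∈ N := N.pow_mem hN q
    have hyq : y ^ q = 1 := by rw [← hyo]; exact pow_orderOf_eq_one y
    rw [hcomm.mul_pow, hyq, mul_one] at h1
    have hcop' : q.Coprime (orderOf x) := by
      rw [hord]
      exact Nat.Coprime.pow_right k ((Nat.coprime_primes hq hp).mpr hqp)
    obtain ⟨m, hm⟩ := exists_pow_eq_self_of_coprime hcop'
    exact hx (hm ▸ N.pow_mem h1 m)
  · obtain ⟨r, j, hr, hj, hrj⟩ := h _ hN
    rw [hxy] at hrj
    have hr' := Nat.prime_iff.mpr hr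
    have h1 : p ∣ r ^ j := hrj ▸ (dvd_mul_of_dvd_left (dvd_pow_self p hk) q)
    have h2 : q ∣ r ^ j := hrj ▸ (dvd_mul_left q _)
    have e1 := (Nat.prime_dvd_prime_iff_eq hp hr').mp (hp.dvd_of_dvd_pow h1)
    have e2 := (Nat.prime_dvd_prime_iff_eq hq hr').mp (hq.dvd_of_dvd_pow h2)
    exact hqp (e2.trans e1.symm)

/-- Counting: if every element outside the proper subgroup `N` lies in the centre of some Sylow
`p`-subgroup, then the Sylow `p`-subgroups are abelian. -/
theorem commute_of_cover {p : ℕ} [Fact p.Prime] (N : Subgroup G) (hN : N ≠ ⊤)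
    (hcov : ∀ x : G, x ∉ N → ∃ Q : Sylow p G, x ∈ Q ∧ ∀ y ∈ Q, y * x = x * y) (P : Sylow p G) :
    ∀ a ∈ P, ∀ b ∈ P, a * b = b * a := by
  classical
  have : Fintype G := Fintype.ofFinite G
  have : Fintype (Sylow p G) := Fintype.ofFinite _
  let Zs : Sylow p G → Subgroup G := fun Q => (Q : Subgroup G) ⊓ Subgroup.centralizer (Q : Set G)
  obtain ⟨Q₀, hQ₀⟩ := Finite.exists_max (fun Q => Nat.card (Zs Q))
  set z := Nat.card (Zs Q₀) with hz
  let S : Finset G := Finset.univ.filter (fun x => x ∉ N)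
  let T : Sylow p G → Finset G := fun Q => Finset.univ.filter (fun y => y ∈ Zs Q ∧ y ≠ 1)
  have hsub : S ⊆ Finset.univ.biUnion T := by
    intro x hx
    simp only [S, Finset.mem_filter, Finset.mem_univ, true_and] at hx
    obtain ⟨Q, hxQ, hcomm⟩ := hcov x hx
    simp only [Finset.mem_biUnion, Finset.mem_univ, true_and, T, Finset.mem_filter]
    refine ⟨Q, Subgroup.mem_inf.mpr ⟨hxQ, Subgroup.mem_centralizer_iff.mpr hcomm⟩, ?_⟩
    rintro rfl; exact hx N.one_mem
  have hcardsub : ∀ H : Subgroup G, (Finset.univ.filter (fun y => y ∈ H)).card = Nat.card H := by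
    intro H
    rw [Nat.card_eq_fintype_card, Fintype.card_subtype]
  have hT : ∀ Q, (T Q).card ≤ z - 1 := by
    intro Q
    have e : T Q = (Finset.univ.filter (fun y => y ∈ Zs Q)).erase 1 := by
      ext y; simp [T, and_comm]
    have : (T Q).card = Nat.card (Zs Q) - 1 := by
      rw [e, Finset.card_erase_of_mem (by simp [(Zs Q).one_mem]), hcardsub]
    rw [this]; exact Nat.sub_le_sub_right (hQ₀ Q) 1
  have hS : S.card ≤ Fintype.card (Sylow p G) * (z - 1) := by
    calc S.card ≤ (Finset.univ.biUnion T).card := Finset.card_le_card hsub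
      _ ≤ ∑ Q, (T Q).card := Finset.card_biUnion_le
      _ ≤ ∑ _Q : Sylow p G, (z - 1) := Finset.sum_le_sum (fun Q _ => hT Q)
      _ = Fintype.card (Sylow p G) * (z - 1) := by simp
  have hSN : Nat.card N + S.card = Nat.card G := by
    rw [← hcardsub N, Nat.card_eq_fintype_card, ← Finset.card_univ]
    exact Finset.card_filter_add_card_filter_not (fun x => x ∈ N)
  have hN2 : 2 * Nat.card N ≤ Nat.card G := by
    have h2 := Subgroup.card_mul_index N
    have hidx : 2 ≤ N.index := by
      have h1 : N.index ≠ 1 := fun h => hN (Subgroup.index_eq_one.mp h)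
      have h0 : N.index ≠ 0 := Subgroup.index_ne_zero_of_finite
      omega
    nlinarith
  have hnp : Fintype.card (Sylow p G) * Nat.card Q₀ ≤ Nat.card G := by
    have h1 : Nat.card (Sylow p G) ∣ (Q₀ : Subgroup G).index := Sylow.card_dvd_index Q₀
    have h2 := Subgroup.card_mul_index (Q₀ : Subgroup G)
    have h3 : Nat.card (Sylow p G) ≤ (Q₀ : Subgroup G).index :=
      Nat.le_of_dvd (Nat.pos_of_ne_zero Subgroup.index_ne_zero_of_finite) h1
    rw [Nat.card_eq_fintype_card] at h3
    calc _ ≤ (Q₀ : Subgroup G).index * Nat.card Q₀ := Nat.mul_le_mul_right _ h3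
      _ = Nat.card G := by rw [mul_comm]; exact h2
  have hzpos : 0 < z := Nat.card_pos
  have hnpos : 0 < Fintype.card (Sylow p G) := Fintype.card_pos
  have hlt : Nat.card Q₀ < 2 * z := by
    by_contra hcon
    push Not at hcon
    have h1 : Fintype.card (Sylow p G) * (2 * z) ≤ Nat.card G :=
      le_trans (Nat.mul_le_mul_left _ hcon) hnp
    have h2 : Nat.card G ≤ 2 * S.card := by omega
    have h3 : 2 * S.card ≤ 2 * (Fintype.card (Sylow p G) * (z - 1)) := by omega
    have h4 : Fintype.card (Sylow p G) * (z - 1) < Fintype.card (Sylow p G) * z :=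
      Nat.mul_lt_mul_of_pos_left (by omega) hnpos
    nlinarith
  have hle : Zs Q₀ ≤ (Q₀ : Subgroup G) := inf_le_left
  have heq : Zs Q₀ = (Q₀ : Subgroup G) := by
    apply Subgroup.eq_of_le_of_card_ge hle
    obtain ⟨m, hm⟩ := Subgroup.card_dvd_of_le hle
    have hm1 : m < 2 := by
      by_contra hcon
      push Not at hcon
      have : 2 * z ≤ Nat.card (Zs Q₀) * m := Nat.mul_comm 2 z ▸ Nat.mul_le_mul_left _ hcon
      rw [← hm] at this
      exact absurd hlt (not_lt.mpr this)
    have hm0 : m ≠ 0 := by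
      rintro rfl
      rw [mul_zero] at hm
      exact absurd hm Nat.card_pos.ne'
    have : m = 1 := by omega
    rw [hm, this, mul_one]
  have hQ₀comm : ∀ a ∈ Q₀, ∀ b ∈ Q₀, a * b = b * a := by
    intro a ha b hb
    have ha' : a ∈ Zs Q₀ := by rw [heq]; exact ha
    exact (Subgroup.mem_centralizer_iff.mp (Subgroup.mem_inf.mp ha').2 b hb).symm
  intro a ha b hb
  let e := Sylow.equiv P Q₀
  have h1 := hQ₀comm (e ⟨a, ha⟩) (e ⟨a, ha⟩).2 (e ⟨b, hb⟩) (e ⟨b, hb⟩).2
  have h2 : e ⟨a, ha⟩ * e ⟨b, hb⟩ = e ⟨b, hb⟩ * e ⟨a, ha⟩ := Subtype.ext h1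
  rw [← map_mul, ← map_mul] at h2
  exact congrArg Subtype.val (e.injective h2)

end Cfsg.Agent.Lib.Helper65_MaxCent
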