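/-
Helper library (helper65): groups in which every element outside a proper normal subgroup `N`
has prime power order and a maximal centralizer. Part 2: `N` is solvable
(centralizers outside `N` are maximal Sylow `p`-subgroups; counting makes them abelian;
Burnside's transfer theorem and an invariant Sylow subgroup finish).
-/
import Mathlib
import Cfsg.Agent.Lib.Helper24_CoprimeAction
import Cfsg.Agent.Lib.Helper65_MaxCent1

set_option autoImplicit false

namespace Cfsg.Agent.Lib.Helper65_MaxCent

open Cfsg.Agent.Lib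

variable {G : Type*} [Group G] [Finite G]

/-- A group whose only subgroups are `⊥` and `⊤` is commutative. -/
theorem commute_of_subgroups_trivial {Q : Type*} [Group Q] (h : ∀ H : Subgroup Q, H = ⊥ ∨ H = ⊤)
    (a b : Q) : a * b = b * a := by
  rcases h (Subgroup.zpowers a) with h1 | h1
  · have : a = 1 := by rw [← Subgroup.zpowers_eq_bot]; exact h1
    rw [this, one_mul, mul_one]
  · have hb : b ∈ Subgroup.zpowers a := h1 ▸ Subgroup.mem_top b
    obtain ⟨k, rfl⟩ := Subgroup.mem_zpowers_iff.mp hb
    exact (Commute.zpow_right (Commute.refl a) k).eq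

omit [Finite G] in
/-- if `P ⊔ Q = ⊤`, `Q` is normal, and `P`, `Q` are solvable then `G` is solvable. -/
theorem isSolvable_of_sup_eq_top (P Q : Subgroup G) [Q.Normal] (hsup : P ⊔ Q = ⊤)
    [Group.IsSolvable P] [Group.IsSolvable Q] : Group.IsSolvable G := by
  have hmap : P.map (QuotientGroup.mk' Q) = ⊤ := by
    have := Subgroup.map_sup P Q (QuotientGroup.mk' Q)
    rw [hsup, QuotientGroup.map_mk'_self, sup_bot_eq,
      Subgroup.map_top_of_surjective _ (QuotientGroup.mk'_surjective Q)] at this
    exact this.symm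
  have hsurj : Function.Surjective ((QuotientGroup.mk' Q).comp P.subtype) := by
    intro y
    have hy : y ∈ P.map (QuotientGroup.mk' Q) := hmap ▸ Subgroup.mem_top y
    obtain ⟨g, hg, rfl⟩ := Subgroup.mem_map.mp hy
    exact ⟨⟨g, hg⟩, rfl⟩
  have : Group.IsSolvable (G ⧸ Q) := Group.isSolvable_of_surjective hsurj
  exact Group.isSolvable_of_ker_le_range Q.subtype (QuotientGroup.mk' Q)
    (by rw [QuotientGroup.ker_mk', Subgroup.range_subtype])

/-- **Main theorem**: if every element outside the proper normal subgroup `N` has prime power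
order and a maximal centralizer, then `N` is solvable. -/
theorem isSolvable_of_maxcent (N : Subgroup G) [N.Normal] (hN : N ≠ ⊤)
    (h : ∀ x : G, x ∉ N →
      IsPrimePow (orderOf x) ∧ IsCoatom (Subgroup.centralizer ({x} : Set G))) :
    Group.IsSolvable N := by
  obtain ⟨x₀, hx₀⟩ : ∃ x : G, x ∉ N := by
    by_contra hcon
    push Not at hcon
    exact hN (eq_top_iff.mpr fun x _ => hcon x)
  obtain ⟨p, k, hp, hk, hpk⟩ := (h x₀ hx₀).1
  have hp' : p.Prime := Nat.prime_iff.mpr hp
  have : Fact p.Prime := ⟨hp'⟩
  have hpp : ∀ y : G, y ∉ N → IsPrimePow (orderOf y) := fun y hy => (h y hy).1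
  have solv_of_pgroup : ∀ (H : Subgroup G), IsPGroup p H → Group.IsSolvable H := fun H hH => by
    have := hH.isNilpotent
    infer_instance
  by_cases hGp : IsPGroup p G
  · have := hGp.isNilpotent
    infer_instance
  have key : ∀ x : G, x ∉ N → ∀ j, orderOf x = p ^ j →
      ∃ Q : Sylow p G, (Q : Subgroup G) = Subgroup.centralizer {x} := by
    intro x hx j hj
    have h1 := isPGroup_centralizer N hpp hx hp' hj
    obtain ⟨Q, hQ⟩ := h1.exists_le_sylow
    refine ⟨Q, ?_⟩
    rcases (h x hx).2.le_iff.mp hQ with h2 | h2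
    · exfalso
      apply hGp
      have h3 := Q.isPGroup'
      rw [h2] at h3
      exact h3.of_equiv Subgroup.topEquiv
    · exact h2
  obtain ⟨P, hP⟩ := key x₀ hx₀ k hpk.symm
  have hPco : IsCoatom (P : Subgroup G) := hP ▸ (h x₀ hx₀).2
  by_cases hNP : N ≤ P
  · exact solv_of_pgroup N (P.isPGroup'.to_le hNP)
  have hsup : (P : Subgroup G) ⊔ N = ⊤ := by
    have h1 : (P : Subgroup G) < (P : Subgroup G) ⊔ N :=
      lt_of_le_of_ne le_sup_left (fun he => hNP (he ▸ le_sup_right))
    exact hPco.2 _ h1
  -- every element outside `N` is a `p`-element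
  have hall : ∀ x : G, x ∉ N → ∃ j, orderOf x = p ^ j := by
    intro x hx
    obtain ⟨q, j, hq, hj, hqj⟩ := (h x hx).1
    have hq' : q.Prime := Nat.prime_iff.mpr hq
    by_cases hqp : q = p
    · exact ⟨j, by rw [← hqj, hqp]⟩
    exfalso
    have hmap : (P : Subgroup G).map (QuotientGroup.mk' N) = ⊤ := by
      have := Subgroup.map_sup (P : Subgroup G) N (QuotientGroup.mk' N)
      rw [hsup, QuotientGroup.map_mk'_self, sup_bot_eq,
        Subgroup.map_top_of_surjective _ (QuotientGroup.mk'_surjective N)] at this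
      exact this.symm
    have hxm : QuotientGroup.mk' N x ∈ (P : Subgroup G).map (QuotientGroup.mk' N) :=
      hmap ▸ Subgroup.mem_top _
    obtain ⟨y, hyP, hyx⟩ := Subgroup.mem_map.mp hxm
    obtain ⟨a, ha⟩ := P.isPGroup' ⟨y, hyP⟩
    have ha' : y ^ p ^ a = 1 := by simpa using congrArg Subtype.val ha
    have h1 : (QuotientGroup.mk' N x) ^ p ^ a = 1 := by rw [← hyx, ← map_pow, ha', map_one]
    have h2 : (QuotientGroup.mk' N x) ^ q ^ j = 1 := by
      rw [← map_pow, hqj, pow_orderOf_eq_one, map_one]
    have hcop : (p ^ a).Coprime (q ^ j) :=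
      Nat.Coprime.pow _ _ ((Nat.coprime_primes hp' hq').mpr (Ne.symm hqp))
    have h3 : QuotientGroup.mk' N x = 1 := by
      have d1 := orderOf_dvd_of_pow_eq_one h1
      have d2 := orderOf_dvd_of_pow_eq_one h2
      have d3 : orderOf (QuotientGroup.mk' N x) ∣ 1 := by
        rw [← hcop.gcd_eq_one]; exact Nat.dvd_gcd d1 d2
      exact orderOf_eq_one_iff.mp (Nat.dvd_one.mp d3)
    exact hx ((QuotientGroup.eq_one_iff x).mp h3)
  have hcov : ∀ x : G, x ∉ N → ∃ Q : Sylow p G, x ∈ Q ∧ ∀ y ∈ Q, y * x = x * y := by
    intro x hx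
    obtain ⟨j, hj⟩ := hall x hx
    obtain ⟨Q, hQ⟩ := key x hx j hj
    refine ⟨Q, ?_, ?_⟩
    · show x ∈ (Q : Subgroup G)
      rw [hQ]; exact Subgroup.mem_centralizer_singleton_iff.mpr rfl
    · intro y hy
      have : y ∈ (Q : Subgroup G) := hy
      rw [hQ] at this
      exact Subgroup.mem_centralizer_singleton_iff.mp this
  have hPab := commute_of_cover N hN hcov P
  suffices Group.IsSolvable G by infer_instance
  have hPsolv : Group.IsSolvable (P : Subgroup G) :=
    Group.isSolvable_of_comm (fun a b => Subtype.ext (hPab a a.2 b b.2))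
  rcases hPco.le_iff.mp (Subgroup.le_normalizer (H := (P : Subgroup G))) with hnorm | hnorm
  · -- `P` is normal
    have : (P : Subgroup G).Normal := Subgroup.normalizer_eq_top_iff.mp hnorm
    have hquot : ∀ H : Subgroup (G ⧸ (P : Subgroup G)), H = ⊥ ∨ H = ⊤ := by
      intro H
      have hle : (P : Subgroup G) ≤ H.comap (QuotientGroup.mk' _) := by
        intro y hy
        rw [Subgroup.mem_comap]
        have : QuotientGroup.mk' (P : Subgroup G) y = 1 := (QuotientGroup.eq_one_iff y).mpr hy
        rw [this]; exact H.one_mem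
      rcases hPco.le_iff.mp hle with h1 | h1
      · right
        rw [eq_top_iff]
        intro y _
        obtain ⟨g, rfl⟩ := QuotientGroup.mk'_surjective _ y
        have : g ∈ H.comap (QuotientGroup.mk' _) := h1 ▸ Subgroup.mem_top g
        exact this
      · left
        rw [eq_bot_iff]
        intro y hy
        obtain ⟨g, rfl⟩ := QuotientGroup.mk'_surjective _ y
        have : g ∈ H.comap (QuotientGroup.mk' _) := hy
        rw [h1] at this
        rw [Subgroup.mem_bot]; exact (QuotientGroup.eq_one_iff g).mpr this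
    have : Group.IsSolvable (G ⧸ (P : Subgroup G)) :=
      Group.isSolvable_of_comm (commute_of_subgroups_trivial hquot)
    exact Group.isSolvable_of_ker_le_range (P : Subgroup G).subtype (QuotientGroup.mk' (P : Subgroup G))
      (by rw [QuotientGroup.ker_mk', Subgroup.range_subtype])
  · -- `N_G(P) = P`: Burnside's transfer theorem
    have hPN : Subgroup.normalizer ((P : Subgroup G) : Set G) ≤ Subgroup.centralizer (P : Set G) := by
      rw [hnorm]
      intro a ha
      rw [Subgroup.mem_centralizer_iff]
      intro b hb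
      exact hPab b hb a ha
    set K := (MonoidHom.transferSylow P hPN).ker with hK
    have hcompl : Subgroup.IsComplement' K P := MonoidHom.ker_transferSylow_isComplement' P hPN
    have hKnp : ¬ p ∣ Nat.card K := MonoidHom.not_dvd_card_ker_transferSylow P hPN
    have hKne : Nat.card K ≠ 1 := by
      intro h1
      have h2 := hcompl.card_mul_card
      rw [h1, one_mul] at h2
      apply hGp
      have h3 : (P : Subgroup G) = ⊤ := Subgroup.eq_top_of_card_eq _ h2
      have h4 := P.isPGroup'
      rw [h3] at h4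
      exact h4.of_equiv Subgroup.topEquiv
    obtain ⟨q, hq, hqd⟩ := Nat.exists_prime_and_dvd hKne
    have : Fact q.Prime := ⟨hq⟩
    have hcop : (Nat.card (P : Subgroup G)).Coprime (Nat.card K) := by
      obtain ⟨n, hn⟩ := IsPGroup.iff_card.mp P.isPGroup'
      rw [hn]
      exact Nat.Coprime.pow_left n ((Nat.Prime.coprime_iff_not_dvd hp').mpr hKnp)
    have hPK : (P : Subgroup G) ≤ Subgroup.normalizer (K : Set G) := by
      rw [Subgroup.normalizer_eq_top]; exact le_top
    obtain ⟨Q, hQ⟩ := Helper24_CoprimeAction.exists_invariant_sylow (P : Subgroup G) K hPK hcop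
      (Or.inl hPsolv) q
    set Q' := Helper24_CoprimeAction.sylowImage Q with hQ'
    have hQ'K : Q' ≤ K := by
      rw [hQ']
      intro y hy
      obtain ⟨z, -, rfl⟩ := Subgroup.mem_map.mp hy
      exact z.2
    have hQ'ne : Q' ≠ ⊥ := by
      rw [hQ', Ne, Subgroup.map_eq_bot_iff_of_injective _ K.subtype_injective]
      exact Q.ne_bot_of_dvd_card hqd
    have hQ'P : ¬ Q' ≤ (P : Subgroup G) := by
      intro hle
      apply hQ'ne
      rw [eq_bot_iff]
      have := hcompl.disjoint
      rw [disjoint_iff] at this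
      rw [← this]
      exact le_inf hQ'K hle
    have hsup2 : (P : Subgroup G) ⊔ Q' = ⊤ := by
      have h1 : (P : Subgroup G) < (P : Subgroup G) ⊔ Q' :=
        lt_of_le_of_ne le_sup_left (fun he => hQ'P (he ▸ le_sup_right))
      exact hPco.2 _ h1
    have : Q'.Normal := by
      rw [← Subgroup.normalizer_eq_top_iff, eq_top_iff, ← hsup2]
      exact sup_le hQ Subgroup.le_normalizer
    have : Group.IsSolvable Q' := by
      have h1 : IsPGroup q Q' := Q.isPGroup'.map K.subtype
      have := h1.isNilpotent
      infer_instance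
    exact isSolvable_of_sup_eq_top (P : Subgroup G) Q' hsup2

end Cfsg.Agent.Lib.Helper65_MaxCent
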