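/-
Helper library (helper65): metacyclic `p`-groups for odd `p`.

* `gs s t` geometric sums and their `p`-adic valuation (`gs_prime_pow`);
* `comm_pow_left/right`: commutators of powers when the commutator lies in a subgroup on which the
  element acts as a power map;
* `PowAct p A`: all commutators lie in `A` and every element acts on `A` as a power `≡ 1 mod p`;
  consequences `PowAct.zpowers_comm_pow_left` etc. (`⁅x^(p^e), y⁆` and `⁅x,y⁆^(p^e)` generate the same
  subgroup);
* `card_mul_card_centralizer` (Lemma M): in a `p`-group with cyclic derived subgroup and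
  `⁅x^p,h⁆ = 1 → ⁅x,h⁆^p = 1`, `|R| * |C_G(R)| = |G| * |Z(G)|` for all `R ≥ Z(G)`;
* `exists_powAct`: the data of a metacyclic `p`-group.
-/
import Mathlib
import Cfsg.Prelude.Def_OddOrderLocal

set_option autoImplicit false

namespace Cfsg.Agent.Lib.Helper65_Metacyclic

/-- geometric sum `1 + s + ... + s^(t-1)` -/
def gs (s t : ℕ) : ℕ := ∑ i ∈ Finset.range t, s ^ i

theorem gs_zero (s : ℕ) : gs s 0 = 0 := by simp [gs]

theorem gs_succ (s t : ℕ) : gs s (t + 1) = s * gs s t + 1 := by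
  unfold gs
  rw [geom_sum_succ]

theorem gs_one_left (t : ℕ) : gs 1 t = t := by simp [gs]

theorem gs_mul_pred (s t : ℕ) : ((gs s t : ℕ) : ℤ) * ((s : ℤ) - 1) = (s : ℤ) ^ t - 1 := by
  unfold gs
  push_cast
  exact geom_sum_mul (s : ℤ) t

/-- valuation of the geometric sum: for `s ≡ 1 mod p`, `p` odd, `gs s (p^e) = p^e * u` with `p ∤ u`. -/
theorem gs_prime_pow {p : ℕ} (hp : p.Prime) (hp2 : p ≠ 2) {s : ℕ} (hs : s % p = 1) (e : ℕ) :
    ∃ u : ℕ, ¬ p ∣ u ∧ gs s (p ^ e) = p ^ e * u := by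
  have hodd : Odd p := hp.odd_of_ne_two hp2
  by_cases h1 : s = 1
  · subst h1
    exact ⟨1, by simpa using hp.one_lt.ne', by rw [gs_one_left, mul_one]⟩
  have hpZ : Prime (p : ℤ) := Nat.prime_iff_prime_int.mp hp
  have hdvd : (p : ℤ) ∣ (s : ℤ) - 1 := by
    have h1p : 1 % p = 1 := Nat.mod_eq_of_lt hp.one_lt
    have hmod : (1 : ℕ) ≡ s [MOD p] := by
      unfold Nat.ModEq
      rw [hs, h1p]
    have := (Nat.modEq_iff_dvd.mp hmod)
    simpa using this
  have hnd : ¬ (p : ℤ) ∣ (s : ℤ) := by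
    intro h
    have h2 : (p : ℤ) ∣ 1 := by
      have := dvd_sub h hdvd
      simpa using this
    exact hpZ.not_dvd_one h2
  have key := Int.emultiplicity_pow_sub_pow hp hodd (x := (s : ℤ)) (y := 1) hdvd hnd (p ^ e)
  rw [one_pow, ← gs_mul_pred, emultiplicity_mul hpZ, add_comm] at key
  have hfin : FiniteMultiplicity (p : ℤ) ((s : ℤ) - 1) := by
    apply Int.finiteMultiplicity_iff.mpr
    refine ⟨?_, ?_⟩
    · simpa using hp.ne_one
    · intro h
      apply h1
      have : (s : ℤ) = 1 := by linarith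
      exact_mod_cast this
  have key2 : emultiplicity (p : ℤ) ((gs s (p ^ e) : ℕ) : ℤ) = emultiplicity p (p ^ e) := by
    have hne : emultiplicity (p : ℤ) ((s : ℤ) - 1) ≠ ⊤ := by
      exact finiteMultiplicity_iff_emultiplicity_ne_top.mp hfin
    exact WithTop.add_left_cancel hne key
  rw [Int.natCast_emultiplicity, hp.emultiplicity_pow_self] at key2
  obtain ⟨hd, hnd'⟩ := emultiplicity_eq_coe.mp key2
  obtain ⟨u, hu⟩ := hd
  refine ⟨u, ?_, hu⟩
  intro hpu
  apply hnd'
  rw [hu, pow_succ]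
  exact mul_dvd_mul_left _ hpu

section Group

open scoped commutatorElement

variable {G : Type*} [Group G]

/-- commutator of a power: if `x` acts on `A ∋ ⁅x,y⁆` as the `s`-th power map, then
`⁅x^t, y⁆ = ⁅x,y⁆^(1+s+...+s^(t-1))`. -/
theorem comm_pow_left (A : Subgroup G) (x y : G) (s : ℕ) (hc : ⁅x, y⁆ ∈ A)
    (hs : ∀ c ∈ A, x * c * x⁻¹ = c ^ s) (t : ℕ) : ⁅x ^ t, y⁆ = ⁅x, y⁆ ^ gs s t := by
  induction t with
  | zero => simp [gs_zero, commutatorElement_def]
  | succ t ih =>
    have e1 : ⁅x ^ (t + 1), y⁆ = x * ⁅x ^ t, y⁆ * x⁻¹ * ⁅x, y⁆ := by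
      simp only [commutatorElement_def, pow_succ']
      group
    rw [e1, ih, hs _ (A.pow_mem hc _), gs_succ, ← pow_mul, mul_comm (gs s t) s, pow_succ]

/-- the symmetric version -/
theorem comm_pow_right (A : Subgroup G) (x y : G) (s : ℕ) (hc : ⁅x, y⁆ ∈ A)
    (hs : ∀ c ∈ A, y * c * y⁻¹ = c ^ s) (t : ℕ) : ⁅x, y ^ t⁆ = ⁅x, y⁆ ^ gs s t := by
  have hc' : ⁅y, x⁆ ∈ A := by
    rw [← commutatorElement_inv]; exact A.inv_mem hc
  rw [← commutatorElement_inv (y ^ t) x, comm_pow_left A y x s hc' hs t, ← inv_pow,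
    commutatorElement_inv]

theorem zpowers_pow_of_coprime (d : G) (u : ℕ) (h : Nat.Coprime u (orderOf d)) :
    Subgroup.zpowers (d ^ u) = Subgroup.zpowers d := by
  apply le_antisymm
  · rw [Subgroup.zpowers_le]
    exact Subgroup.pow_mem _ (Subgroup.mem_zpowers d) u
  · rw [Subgroup.zpowers_le]
    obtain ⟨m, hm⟩ := exists_pow_eq_self_of_coprime h
    have h2 : (d ^ u) ^ m ∈ Subgroup.zpowers (d ^ u) :=
      Subgroup.pow_mem _ (Subgroup.mem_zpowers (d ^ u)) m
    rwa [hm] at h2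

/-- `A` is a subgroup of `G` containing all commutators on which every element of `G` acts as a
power map `c ↦ c^s` with `s ≡ 1 mod p`. -/
structure PowAct (p : ℕ) (A : Subgroup G) : Prop where
  comm_mem : ∀ x y : G, ⁅x, y⁆ ∈ A
  act : ∀ g : G, ∃ s : ℕ, s % p = 1 ∧ ∀ c ∈ A, g * c * g⁻¹ = c ^ s

variable {p : ℕ} {A : Subgroup G}

theorem PowAct.zpowers_comm_pow_left (h : PowAct p A) (hp : p.Prime) (hp2 : p ≠ 2)
    (hG : IsPGroup p G) (x y : G) (e : ℕ) :
    Subgroup.zpowers ⁅x ^ (p ^ e), y⁆ = Subgroup.zpowers (⁅x, y⁆ ^ (p ^ e)) := by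
  obtain ⟨s, hs1, hs⟩ := h.act x
  obtain ⟨u, hu, hgs⟩ := gs_prime_pow hp hp2 hs1 e
  rw [comm_pow_left A x y s (h.comm_mem x y) hs, hgs, pow_mul]
  apply zpowers_pow_of_coprime
  obtain ⟨k, hk⟩ := hG (⁅x, y⁆ ^ p ^ e)
  have hdvd : orderOf (⁅x, y⁆ ^ p ^ e) ∣ p ^ k := orderOf_dvd_of_pow_eq_one hk
  have hcop : Nat.Coprime u (p ^ k) :=
    Nat.Coprime.pow_right k ((Nat.Prime.coprime_iff_not_dvd hp).mpr hu).symm
  exact Nat.Coprime.coprime_dvd_right hdvd hcop

theorem PowAct.zpowers_comm_pow_right (h : PowAct p A) (hp : p.Prime) (hp2 : p ≠ 2)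
    (hG : IsPGroup p G) (x y : G) (e : ℕ) :
    Subgroup.zpowers ⁅x, y ^ (p ^ e)⁆ = Subgroup.zpowers (⁅x, y⁆ ^ (p ^ e)) := by
  have := h.zpowers_comm_pow_left hp hp2 hG y x e
  rw [← commutatorElement_inv (y ^ p ^ e) x, Subgroup.zpowers_inv, this,
    ← commutatorElement_inv y x, inv_pow, Subgroup.zpowers_inv]

theorem PowAct.comm_pow_left_eq_one_iff (h : PowAct p A) (hp : p.Prime) (hp2 : p ≠ 2)
    (hG : IsPGroup p G) (x y : G) (e : ℕ) :
    ⁅x ^ (p ^ e), y⁆ = 1 ↔ ⁅x, y⁆ ^ (p ^ e) = 1 := by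
  rw [← Subgroup.zpowers_eq_bot, h.zpowers_comm_pow_left hp hp2 hG, Subgroup.zpowers_eq_bot]

theorem PowAct.comm_pow_right_eq_one_iff (h : PowAct p A) (hp : p.Prime) (hp2 : p ≠ 2)
    (hG : IsPGroup p G) (x y : G) (e : ℕ) :
    ⁅x, y ^ (p ^ e)⁆ = 1 ↔ ⁅x, y⁆ ^ (p ^ e) = 1 := by
  rw [← Subgroup.zpowers_eq_bot, h.zpowers_comm_pow_right hp hp2 hG, Subgroup.zpowers_eq_bot]

theorem PowAct.orderOf_comm_pow_left (h : PowAct p A) (hp : p.Prime) (hp2 : p ≠ 2)
    (hG : IsPGroup p G) (x y : G) (e : ℕ) :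
    orderOf ⁅x ^ (p ^ e), y⁆ = orderOf (⁅x, y⁆ ^ (p ^ e)) := by
  rw [← Nat.card_zpowers, ← Nat.card_zpowers, h.zpowers_comm_pow_left hp hp2 hG]

theorem PowAct.orderOf_comm_pow_right (h : PowAct p A) (hp : p.Prime) (hp2 : p ≠ 2)
    (hG : IsPGroup p G) (x y : G) (e : ℕ) :
    orderOf ⁅x, y ^ (p ^ e)⁆ = orderOf (⁅x, y⁆ ^ (p ^ e)) := by
  rw [← Nat.card_zpowers, ← Nat.card_zpowers, h.zpowers_comm_pow_right hp hp2 hG]

/-- In a cyclic group the number of solutions of `c^n = 1` is at most `n`. -/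
theorem card_pow_eq_one_le_of_isCyclic {C : Type*} [Group C] [Finite C] [IsCyclic C] {n : ℕ}
    (hn : 0 < n) : Nat.card {c : C // c ^ n = 1} ≤ n := by
  classical
  have := Fintype.ofFinite C
  have := IsCyclic.card_pow_eq_one_le (α := C) hn
  rw [Nat.card_eq_fintype_card, Fintype.card_subtype]
  exact this

/-- Key step: adjoining `x` with `x^p ∈ S` shrinks the centralizer by a factor at most `p`. -/
theorem card_centralizer_step [Finite G] {p : ℕ} (hp : p.Prime)
    (hcyc : IsCyclic (commutator G))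
    (hF : ∀ x h : G, ⁅x ^ p, h⁆ = 1 → ⁅x, h⁆ ^ p = 1)
    (S : Subgroup G) (x : G) (hx : x ^ p ∈ S) :
    Nat.card (Subgroup.centralizer (S : Set G)) ≤
      p * Nat.card (Subgroup.centralizer ((S ⊔ Subgroup.zpowers x : Subgroup G) : Set G)) := by
  classical
  set H := Subgroup.centralizer (S : Set G) with hH
  set C₁ := Subgroup.centralizer ((S ⊔ Subgroup.zpowers x : Subgroup G) : Set G) with hC₁
  have hC₁H : C₁ ≤ H := Subgroup.centralizer_le (by
    intro y hy; exact (le_sup_left : S ≤ S ⊔ Subgroup.zpowers x) hy)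
  have hmemC₁ : ∀ h ∈ H, h * x = x * h → h ∈ C₁ := by
    intro h hh hx'
    rw [hC₁, Subgroup.mem_centralizer_iff]
    intro y hy
    have hle : S ⊔ Subgroup.zpowers x ≤ Subgroup.centralizer ({h} : Set G) := by
      apply sup_le
      · intro z hz
        rw [Subgroup.mem_centralizer_singleton_iff]
        rw [hH, Subgroup.mem_centralizer_iff] at hh
        exact hh z hz
      · rw [Subgroup.zpowers_le, Subgroup.mem_centralizer_singleton_iff]
        exact hx'.symm
    have := hle hy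
    rw [Subgroup.mem_centralizer_singleton_iff] at this
    exact this
  -- the map `h ↦ ⁅x, h⁆` from `H` to the `p`-torsion of the commutator subgroup
  have hT : ∀ h : H, (⟨⁅x, (h : G)⁆, Subgroup.commutator_mem_commutator (Subgroup.mem_top x)
      (Subgroup.mem_top (h : G))⟩ : commutator G) ^ p = 1 := by
    intro h
    apply Subtype.ext
    rw [Subgroup.coe_pow, Subgroup.coe_one]
    apply hF
    have hh : (h : G) ∈ Subgroup.centralizer (S : Set G) := h.2
    rw [Subgroup.mem_centralizer_iff] at hh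
    have := hh _ hx
    rw [commutatorElement_def, this]
    group
  let f : H → {c : commutator G // c ^ p = 1} := fun h => ⟨_, hT h⟩
  have hf : ∀ h h' : H, f h = f h' → (h : G)⁻¹ * h' ∈ C₁ := by
    intro h h' hff
    have e : ⁅x, (h : G)⁆ = ⁅x, (h' : G)⁆ := by
      have := congrArg (fun t : {c : commutator G // c ^ p = 1} => ((t : commutator G) : G)) hff
      exact this
    apply hmemC₁ _ (H.mul_mem (H.inv_mem h.2) h'.2)
    rw [commutatorElement_def, commutatorElement_def] at e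
    have e2 : (h : G) * x⁻¹ * (h : G)⁻¹ = (h' : G) * x⁻¹ * (h' : G)⁻¹ := by
      have := congrArg (fun t => x⁻¹ * t) e
      simpa [mul_assoc] using this
    have e3 : (h : G)⁻¹ * h' * x⁻¹ = x⁻¹ * ((h : G)⁻¹ * h') := by
      calc (h : G)⁻¹ * h' * x⁻¹ = (h : G)⁻¹ * ((h' : G) * x⁻¹ * (h' : G)⁻¹) * h' := by group
        _ = (h : G)⁻¹ * ((h : G) * x⁻¹ * (h : G)⁻¹) * h' := by rw [e2]
        _ = x⁻¹ * ((h : G)⁻¹ * h') := by group
    calc (h : G)⁻¹ * h' * x = x * (x⁻¹ * ((h : G)⁻¹ * h')) * x := by group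
      _ = x * ((h : G)⁻¹ * h' * x⁻¹) * x := by rw [e3]
      _ = x * ((h : G)⁻¹ * h') := by group
  -- count
  have hcardT : Nat.card {c : commutator G // c ^ p = 1} ≤ p :=
    card_pow_eq_one_le_of_isCyclic hp.pos
  have h1 : Nat.card H = Nat.card (H ⧸ C₁.subgroupOf H) * Nat.card (C₁.subgroupOf H) :=
    Subgroup.card_eq_card_quotient_mul_card_subgroup _
  have h2 : Nat.card (C₁.subgroupOf H) = Nat.card C₁ :=
    Nat.card_congr (Subgroup.subgroupOfEquivOfLe hC₁H).toEquiv
  have h3 : Nat.card (H ⧸ C₁.subgroupOf H) ≤ Nat.card {c : commutator G // c ^ p = 1} := by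
    let φ : (H ⧸ C₁.subgroupOf H) → {c : commutator G // c ^ p = 1} :=
      Quotient.lift f (by
        intro h h' hr
        have hr' : h⁻¹ * h' ∈ C₁.subgroupOf H := QuotientGroup.leftRel_apply.mp hr
        rw [Subgroup.mem_subgroupOf] at hr'
        have hc : (h : G)⁻¹ * h' ∈ C₁ := by simpa using hr'
        apply Subtype.ext
        apply Subtype.ext
        show ⁅x, (h : G)⁆ = ⁅x, (h' : G)⁆
        have hcx : ((h : G)⁻¹ * h') * x = x * ((h : G)⁻¹ * h') := by
          rw [hC₁, Subgroup.mem_centralizer_iff] at hc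
          exact (hc x (Subgroup.mem_sup_right (Subgroup.mem_zpowers x))).symm
        rw [commutatorElement_def, commutatorElement_def]
        have e4 : (h' : G) = h * ((h : G)⁻¹ * h') := by group
        rw [e4]
        have hcx' : x⁻¹ * ((h : G)⁻¹ * h')⁻¹ = ((h : G)⁻¹ * h')⁻¹ * x⁻¹ := by
          rw [← mul_inv_rev, ← mul_inv_rev, hcx]
        calc x * (h : G) * x⁻¹ * (h : G)⁻¹
            = x * (h : G) * (((h : G)⁻¹ * h') * x⁻¹ * ((h : G)⁻¹ * h')⁻¹) * (h : G)⁻¹ := by
              have : ((h : G)⁻¹ * h') * x⁻¹ * ((h : G)⁻¹ * h')⁻¹ = x⁻¹ := by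
                rw [mul_assoc, hcx', ← mul_assoc, mul_inv_cancel, one_mul]
              rw [this]
          _ = x * ((h : G) * ((h : G)⁻¹ * h')) * x⁻¹ * ((h : G) * ((h : G)⁻¹ * h'))⁻¹ := by group)
    have hφ : Function.Injective φ := by
      intro q q' hqq
      induction q using Quotient.inductionOn with
      | h h =>
        induction q' using Quotient.inductionOn with
        | h h' =>
          apply Quotient.sound
          apply QuotientGroup.leftRel_apply.mpr
          rw [Subgroup.mem_subgroupOf]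
          have := hf h h' hqq
          simpa using this
    exact Nat.card_le_card_of_injective φ hφ
  calc Nat.card H = Nat.card (H ⧸ C₁.subgroupOf H) * Nat.card C₁ := by rw [h1, h2]
    _ ≤ p * Nat.card C₁ := Nat.mul_le_mul_right _ (h3.trans hcardT)

/-- in a finite `p`-group a proper inclusion of subgroups multiplies the order by at least `p`. -/
theorem card_ge_mul_of_lt [Finite G] {p : ℕ} [hpF : Fact p.Prime] (hG : IsPGroup p G)
    {S S' : Subgroup G} (hlt : S < S') : p * Nat.card S ≤ Nat.card S' := by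
  have hp := hpF.out
  obtain ⟨a, ha⟩ := (hG.to_subgroup S).exists_card_eq
  obtain ⟨b, hb⟩ := (hG.to_subgroup S').exists_card_eq
  have hlt' : Nat.card S < Nat.card S' := by
    by_contra hcon
    push Not at hcon
    exact hlt.ne (Subgroup.eq_of_le_of_card_ge hlt.le hcon)
  rw [ha, hb] at hlt' ⊢
  have hab : a < b := (Nat.pow_lt_pow_iff_right hp.one_lt).mp hlt'
  calc p * p ^ a = p ^ (a + 1) := by rw [pow_succ']
    _ ≤ p ^ b := Nat.pow_le_pow_right hp.pos hab

/-- **Monotonicity of the Chermak-Delgado measure** in a `p`-group with cyclic derived subgroup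
satisfying `⁅x^p,h⁆ = 1 → ⁅x,h⁆^p = 1`. -/
theorem card_mul_centralizer_mono [Finite G] {p : ℕ} [hpF : Fact p.Prime] (hG : IsPGroup p G)
    (hcyc : IsCyclic (commutator G))
    (hF : ∀ x h : G, ⁅x ^ p, h⁆ = 1 → ⁅x, h⁆ ^ p = 1) :
    ∀ (n : ℕ) (S R : Subgroup G), S ≤ R → Nat.card R - Nat.card S = n →
      Nat.card S * Nat.card (Subgroup.centralizer (S : Set G)) ≤
        Nat.card R * Nat.card (Subgroup.centralizer (R : Set G)) := by
  have hp := hpF.out
  intro n
  induction n using Nat.strong_induction_on with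
  | _ n ih =>
    intro S R hSR hn
    by_cases hEq : S = R
    · subst hEq; exact le_rfl
    have hlt : S < R := lt_of_le_of_ne hSR hEq
    obtain ⟨y, hyR, hyS⟩ := SetLike.exists_of_lt hlt
    have hex : ∃ k : ℕ, y ^ p ^ k ∈ S := by
      obtain ⟨k, hk⟩ := hG y
      exact ⟨k, by rw [hk]; exact S.one_mem⟩
    classical
    set k := Nat.find hex with hk
    have hkS : y ^ p ^ k ∈ S := Nat.find_spec hex
    have hk0 : k ≠ 0 := by
      intro h0
      rw [h0, pow_zero, pow_one] at hkS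
      exact hyS hkS
    obtain ⟨k', hk'⟩ := Nat.exists_eq_succ_of_ne_zero hk0
    set x := y ^ p ^ k' with hx
    have hxS : x ∉ S := by
      intro hcon
      have := Nat.find_min hex (m := k') (by rw [← hk, hk']; exact Nat.lt_succ_self k')
      exact this hcon
    have hxp : x ^ p ∈ S := by
      rw [hx, ← pow_mul, ← pow_succ, ← Nat.succ_eq_add_one, ← hk']
      exact hkS
    have hxR : x ∈ R := R.pow_mem hyR _
    set S' := S ⊔ Subgroup.zpowers x with hS'
    have hS'R : S' ≤ R := sup_le hSR (by rw [Subgroup.zpowers_le]; exact hxR)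
    have hSS' : S < S' := by
      apply lt_of_le_of_ne le_sup_left
      intro hcon
      apply hxS
      rw [hcon]
      exact Subgroup.mem_sup_right (Subgroup.mem_zpowers x)
    have hcard : p * Nat.card S ≤ Nat.card S' := card_ge_mul_of_lt hG hSS'
    have hstep := card_centralizer_step hp hcyc hF S x hxp
    have hlt2 : Nat.card S < Nat.card S' := by
      have : 0 < Nat.card S := Nat.card_pos
      have h2 : 2 ≤ p := hp.two_le
      nlinarith
    have hle2 : Nat.card S' ≤ Nat.card R := Subgroup.card_le_of_le hS'R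
    have hIH := ih (Nat.card R - Nat.card S') (by omega) S' R hS'R rfl
    calc Nat.card S * Nat.card (Subgroup.centralizer (S : Set G))
        ≤ Nat.card S * (p * Nat.card (Subgroup.centralizer (S' : Set G))) :=
          Nat.mul_le_mul_left _ hstep
      _ = (p * Nat.card S) * Nat.card (Subgroup.centralizer (S' : Set G)) := by ring
      _ ≤ Nat.card S' * Nat.card (Subgroup.centralizer (S' : Set G)) :=
          Nat.mul_le_mul_right _ hcard
      _ ≤ _ := hIH

/-- **Lemma M**: `|R| * |C_G(R)| = |G| * |Z(G)|` for every subgroup `R` containing the centre. -/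
theorem card_mul_card_centralizer [Finite G] {p : ℕ} [hpF : Fact p.Prime] (hG : IsPGroup p G)
    (hcyc : IsCyclic (commutator G))
    (hF : ∀ x h : G, ⁅x ^ p, h⁆ = 1 → ⁅x, h⁆ ^ p = 1)
    (R : Subgroup G) (hZ : Subgroup.center G ≤ R) :
    Nat.card R * Nat.card (Subgroup.centralizer (R : Set G)) =
      Nat.card G * Nat.card (Subgroup.center G) := by
  have h1 := card_mul_centralizer_mono hG hcyc hF _ (Subgroup.center G) R hZ rfl
  have h2 := card_mul_centralizer_mono hG hcyc hF _ R ⊤ le_top rfl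
  have e1 : Subgroup.centralizer ((Subgroup.center G : Subgroup G) : Set G) = ⊤ := by
    rw [Subgroup.centralizer_eq_top_iff_subset]
  have e2 : Subgroup.centralizer (((⊤ : Subgroup G) : Subgroup G) : Set G) = Subgroup.center G := by
    rw [Subgroup.coe_top, Subgroup.centralizer_univ]
  rw [e1, Subgroup.card_top] at h1
  rw [e2, Subgroup.card_top] at h2
  apply le_antisymm h2
  rw [mul_comm (Nat.card G)]
  exact h1

/-- the measure is at most `|G| * |Z(G)|` for every subgroup. -/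
theorem card_mul_card_centralizer_le [Finite G] {p : ℕ} [hpF : Fact p.Prime] (hG : IsPGroup p G)
    (hcyc : IsCyclic (commutator G))
    (hF : ∀ x h : G, ⁅x ^ p, h⁆ = 1 → ⁅x, h⁆ ^ p = 1)
    (R : Subgroup G) :
    Nat.card R * Nat.card (Subgroup.centralizer (R : Set G)) ≤
      Nat.card G * Nat.card (Subgroup.center G) := by
  have h2 := card_mul_centralizer_mono hG hcyc hF _ R ⊤ le_top rfl
  have e2 : Subgroup.centralizer (((⊤ : Subgroup G) : Subgroup G) : Set G) = Subgroup.center G := by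
    rw [Subgroup.coe_top, Subgroup.centralizer_univ]
  rwa [e2, Subgroup.card_top] at h2

/-- every element of a finite cyclic subgroup `zpowers a` is a natural power of `a`. -/
theorem exists_pow_eq_of_mem_zpowers [Finite G] {a x : G} (hx : x ∈ Subgroup.zpowers a) :
    ∃ i : ℕ, a ^ i = x := by
  rw [← mem_powers_iff_mem_zpowers, Submonoid.mem_powers_iff] at hx
  exact hx

/-- Basic data of a metacyclic `p`-group. -/
theorem exists_powAct [Finite G] {p : ℕ} [hpF : Fact p.Prime] (hG : IsPGroup p G)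
    (hmc : Cfsg.IsMetacyclic G) :
    ∃ (A : Subgroup G) (a b : G), A.Normal ∧ A = Subgroup.zpowers a ∧ PowAct p A ∧
      ∀ g : G, ∃ i k : ℕ, g = a ^ i * b ^ k := by
  classical
  have hp := hpF.out
  obtain ⟨A, hAn, hAc, hQc⟩ := hmc
  obtain ⟨⟨a, haA⟩, ha⟩ := hAc.exists_generator
  have hAeq : A = Subgroup.zpowers a := by
    apply le_antisymm
    · intro x hx
      have h1 := ha ⟨x, hx⟩
      obtain ⟨k, hk⟩ := Subgroup.mem_zpowers_iff.mp h1
      rw [Subgroup.mem_zpowers_iff]
      exact ⟨k, by simpa using congrArg Subtype.val hk⟩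
    · rw [Subgroup.zpowers_le]; exact haA
  obtain ⟨q, hq⟩ := hQc.exists_generator
  obtain ⟨b, rfl⟩ := QuotientGroup.mk_surjective q
  refine ⟨A, a, b, hAn, hAeq, ⟨?_, ?_⟩, ?_⟩
  · -- commutators lie in A
    intro x y
    rw [← QuotientGroup.eq_one_iff]
    have : IsCyclic (G ⧸ A) := hQc
    let _ : CommGroup (G ⧸ A) := IsCyclic.commGroup
    rw [commutatorElement_def]
    simp only [QuotientGroup.mk_mul, QuotientGroup.mk_inv]
    rw [mul_comm ((x : G ⧸ A)) (y : G ⧸ A)]
    simp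
  · -- the action
    intro g
    by_cases ha1 : a = 1
    · refine ⟨1, Nat.mod_eq_of_lt hp.one_lt, ?_⟩
      intro c hc
      rw [hAeq, ha1, Subgroup.zpowers_one_eq_bot, Subgroup.mem_bot] at hc
      rw [hc]; simp
    · have hgA : g * a * g⁻¹ ∈ Subgroup.zpowers a := by
        rw [← hAeq]; exact hAn.conj_mem a haA g
      obtain ⟨s, hs⟩ := exists_pow_eq_of_mem_zpowers hgA
      have hconj : ∀ t : ℕ, g ^ t * a * (g ^ t)⁻¹ = a ^ (s ^ t) := by
        intro t
        induction t with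
        | zero => simp
        | succ t ih =>
          have e1 : g ^ (t + 1) * a * (g ^ (t + 1))⁻¹ = g * (g ^ t * a * (g ^ t)⁻¹) * g⁻¹ := by
            rw [pow_succ']; group
          rw [e1, ih, ← conj_pow, ← hs, ← pow_mul, pow_succ']
      refine ⟨s, ?_, ?_⟩
      · obtain ⟨N, hN⟩ := hG g
        have h1 := hconj (p ^ N)
        rw [hN] at h1
        simp only [one_mul, inv_one, mul_one] at h1
        -- a = a^(s^(p^N))
        have h2 : a ^ (s ^ p ^ N) = a ^ 1 := by rw [pow_one]; exact h1.symm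
        rw [pow_eq_pow_iff_modEq] at h2
        obtain ⟨m, hm⟩ : ∃ m, orderOf a = p ^ m := by
          obtain ⟨k, hk⟩ := hG a
          obtain ⟨m, -, hm⟩ := (Nat.dvd_prime_pow hp).mp (orderOf_dvd_of_pow_eq_one hk)
          exact ⟨m, hm⟩
        have hm0 : m ≠ 0 := by
          rintro rfl
          rw [pow_zero, orderOf_eq_one_iff] at hm
          exact ha1 hm
        have hpd : p ∣ orderOf a := by rw [hm]; exact dvd_pow_self p hm0
        have h3 : s ^ p ^ N ≡ 1 [MOD p] := Nat.ModEq.of_dvd hpd h2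
        have h4 : ((s ^ p ^ N : ℕ) : ZMod p) = ((1 : ℕ) : ZMod p) :=
          (ZMod.natCast_eq_natCast_iff _ _ _).mpr h3
        rw [Nat.cast_pow, ZMod.pow_card_pow] at h4
        have h5 : s ≡ 1 [MOD p] := (ZMod.natCast_eq_natCast_iff _ _ _).mp h4
        unfold Nat.ModEq at h5
        rw [h5, Nat.mod_eq_of_lt hp.one_lt]
      · intro c hc
        rw [hAeq] at hc
        obtain ⟨i, rfl⟩ := exists_pow_eq_of_mem_zpowers hc
        rw [← conj_pow, ← hs, ← pow_mul, ← pow_mul, mul_comm]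
  · intro g
    obtain ⟨k, hk⟩ : ∃ k : ℕ, ((b : G) : G ⧸ A) ^ k = (g : G ⧸ A) := by
      have h1 := hq (g : G ⧸ A)
      exact exists_pow_eq_of_mem_zpowers h1
    have h1 : g * (b ^ k)⁻¹ ∈ A := by
      have h2 : (b ^ k)⁻¹ * g ∈ A := by
        rw [← QuotientGroup.eq]
        rw [QuotientGroup.mk_pow]; exact hk
      have := hAn.conj_mem _ h2 (b ^ k)
      have e : b ^ k * ((b ^ k)⁻¹ * g) * (b ^ k)⁻¹ = g * (b ^ k)⁻¹ := by group
      rwa [e] at this
    rw [hAeq] at h1
    obtain ⟨i, hi⟩ := exists_pow_eq_of_mem_zpowers h1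
    refine ⟨i, k, ?_⟩
    rw [hi]; group

end Group

end Cfsg.Agent.Lib.Helper65_Metacyclic
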