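/-
Helper library (helper65): metacyclic `p`-groups for odd `p`, part 2:
`MC p G` (working hypotheses), `agemo`, `Cj` (centralizer of the `p^j`-th powers), and counting.
-/
import Cfsg.Agent.Lib.Helper65_Metacyclic
import Cfsg.Agent.S3879

set_option autoImplicit false

namespace Cfsg.Agent.Lib.Helper65_Metacyclic

open scoped commutatorElement

/-- working hypotheses: a metacyclic `p`-group with `p` odd. -/
structure MC (p : ℕ) (G : Type*) [Group G] : Prop where
  odd : p ≠ 2
  pgroup : IsPGroup p G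
  mc : Cfsg.IsMetacyclic G

section

variable {G : Type*} [Group G] {p : ℕ}

/-- the subgroup generated by the `p^s`-th powers -/
def agemo (G : Type*) [Group G] (p s : ℕ) : Subgroup G :=
  Subgroup.closure {x : G | ∃ y : G, y ^ p ^ s = x}

theorem pow_mem_agemo (s : ℕ) (y : G) : y ^ p ^ s ∈ agemo G p s :=
  Subgroup.subset_closure ⟨y, rfl⟩

theorem agemo_zero : agemo G p 0 = ⊤ := by
  rw [eq_top_iff]
  intro g _
  have := pow_mem_agemo (p := p) 0 g
  simpa using this

theorem agemo_normal (s : ℕ) : (agemo G p s).Normal := by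
  constructor
  intro n hn g
  unfold agemo at hn ⊢
  induction hn using Subgroup.closure_induction with
  | mem x hx =>
    obtain ⟨y, rfl⟩ := hx
    apply Subgroup.subset_closure
    exact ⟨g * y * g⁻¹, by rw [conj_pow]⟩
  | one => simp
  | mul x y _ _ hx hy =>
    have : g * (x * y) * g⁻¹ = (g * x * g⁻¹) * (g * y * g⁻¹) := by group
    rw [this]
    exact Subgroup.mul_mem _ hx hy
  | inv x _ hx =>
    have : g * x⁻¹ * g⁻¹ = (g * x * g⁻¹)⁻¹ := by group
    rw [this]
    exact Subgroup.inv_mem _ hx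

/-- `C_j`: the centralizer of the `p^j`-th powers. -/
def Cj (G : Type*) [Group G] (p j : ℕ) : Subgroup G :=
  Subgroup.centralizer (agemo G p j : Set G)

theorem mem_Cj_iff {j : ℕ} {g : G} : g ∈ Cj G p j ↔ ∀ z : G, z ^ p ^ j * g = g * z ^ p ^ j := by
  unfold Cj agemo
  rw [Subgroup.centralizer_closure, Subgroup.mem_centralizer_iff]
  constructor
  · intro h z
    exact h _ ⟨z, rfl⟩
  · rintro h _ ⟨z, rfl⟩
    exact h z

theorem center_le_Cj (j : ℕ) : Subgroup.center G ≤ Cj G p j :=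
  Subgroup.center_le_centralizer _

theorem agemo_le_centralizer_Cj (j : ℕ) :
    agemo G p j ≤ Subgroup.centralizer (Cj G p j : Set G) := by
  rw [Subgroup.le_centralizer_iff]
  exact le_rfl

variable [hpF : Fact p.Prime] [Finite G]

theorem MC.isCyclic_commutator (h : MC p G) : IsCyclic (commutator G) := by
  obtain ⟨A, a, b, hAn, hAeq, hpow, hgen⟩ := exists_powAct h.pgroup h.mc
  have hle : commutator G ≤ A := by
    rw [commutator_def, Subgroup.commutator_le]
    intro x _ y _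
    exact hpow.comm_mem x y
  have : IsCyclic A := by
    rw [hAeq]; infer_instance
  exact Subgroup.isCyclic_of_le hle

theorem MC.zpowers_comm_pow_left (h : MC p G) (x y : G) (e : ℕ) :
    Subgroup.zpowers ⁅x ^ (p ^ e), y⁆ = Subgroup.zpowers (⁅x, y⁆ ^ (p ^ e)) := by
  obtain ⟨A, a, b, hAn, hAeq, hpow, hgen⟩ := exists_powAct h.pgroup h.mc
  exact hpow.zpowers_comm_pow_left hpF.out h.odd h.pgroup x y e

theorem MC.zpowers_comm_pow_right (h : MC p G) (x y : G) (e : ℕ) :
    Subgroup.zpowers ⁅x, y ^ (p ^ e)⁆ = Subgroup.zpowers (⁅x, y⁆ ^ (p ^ e)) := by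
  obtain ⟨A, a, b, hAn, hAeq, hpow, hgen⟩ := exists_powAct h.pgroup h.mc
  exact hpow.zpowers_comm_pow_right hpF.out h.odd h.pgroup x y e

theorem MC.comm_pow_left_eq_one_iff (h : MC p G) (x y : G) (e : ℕ) :
    ⁅x ^ (p ^ e), y⁆ = 1 ↔ ⁅x, y⁆ ^ (p ^ e) = 1 := by
  rw [← Subgroup.zpowers_eq_bot, h.zpowers_comm_pow_left, Subgroup.zpowers_eq_bot]

theorem MC.comm_pow_right_eq_one_iff (h : MC p G) (x y : G) (e : ℕ) :
    ⁅x, y ^ (p ^ e)⁆ = 1 ↔ ⁅x, y⁆ ^ (p ^ e) = 1 := by
  rw [← Subgroup.zpowers_eq_bot, h.zpowers_comm_pow_right, Subgroup.zpowers_eq_bot]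

theorem MC.orderOf_comm_pow_left (h : MC p G) (x y : G) (e : ℕ) :
    orderOf ⁅x ^ (p ^ e), y⁆ = orderOf (⁅x, y⁆ ^ (p ^ e)) := by
  rw [← Nat.card_zpowers, ← Nat.card_zpowers, h.zpowers_comm_pow_left]

theorem MC.orderOf_comm_pow_right (h : MC p G) (x y : G) (e : ℕ) :
    orderOf ⁅x, y ^ (p ^ e)⁆ = orderOf (⁅x, y⁆ ^ (p ^ e)) := by
  rw [← Nat.card_zpowers, ← Nat.card_zpowers, h.zpowers_comm_pow_right]

theorem MC.hF (h : MC p G) : ∀ x y : G, ⁅x ^ p, y⁆ = 1 → ⁅x, y⁆ ^ p = 1 := by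
  intro x y hxy
  have := (h.comm_pow_left_eq_one_iff x y 1).mp (by rwa [pow_one])
  rwa [pow_one] at this

/-- Lemma M for metacyclic groups. -/
theorem MC.card_mul_card_centralizer (h : MC p G) (R : Subgroup G)
    (hZ : Subgroup.center G ≤ R) :
    Nat.card R * Nat.card (Subgroup.centralizer (R : Set G)) =
      Nat.card G * Nat.card (Subgroup.center G) :=
  Cfsg.Agent.Lib.Helper65_Metacyclic.card_mul_card_centralizer h.pgroup h.isCyclic_commutator
    h.hF R hZ

theorem MC.card_mul_card_centralizer_le (h : MC p G) (R : Subgroup G) :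
    Nat.card R * Nat.card (Subgroup.centralizer (R : Set G)) ≤
      Nat.card G * Nat.card (Subgroup.center G) :=
  Cfsg.Agent.Lib.Helper65_Metacyclic.card_mul_card_centralizer_le h.pgroup h.isCyclic_commutator
    h.hF R

theorem MC.mem_Cj_iff_comm_pow (h : MC p G) {j : ℕ} {g : G} :
    g ∈ Cj G p j ↔ ∀ z : G, ⁅g, z⁆ ^ p ^ j = 1 := by
  rw [mem_Cj_iff]
  constructor
  · intro hg z
    rw [← h.comm_pow_right_eq_one_iff, commutatorElement_eq_one_iff_mul_comm]
    exact (hg z).symm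
  · intro hg z
    have := (h.comm_pow_right_eq_one_iff g z j).mpr (hg z)
    rw [commutatorElement_eq_one_iff_mul_comm] at this
    exact this.symm

theorem MC.mem_Cj_iff_pow_mem_center (h : MC p G) {j : ℕ} {g : G} :
    g ∈ Cj G p j ↔ g ^ p ^ j ∈ Subgroup.center G := by
  rw [h.mem_Cj_iff_comm_pow, Subgroup.mem_center_iff]
  constructor
  · intro hg z
    have := (h.comm_pow_left_eq_one_iff g z j).mpr (hg z)
    rw [commutatorElement_eq_one_iff_mul_comm] at this
    exact this.symm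
  · intro hg z
    rw [← h.comm_pow_left_eq_one_iff, commutatorElement_eq_one_iff_mul_comm]
    exact (hg z).symm

end

end Cfsg.Agent.Lib.Helper65_Metacyclic
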