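/-
Helper library (helper65): metacyclic `p`-groups for odd `p`, part 3: counting `agemo` and `Cj`.
-/
import Cfsg.Agent.Lib.Helper65_Metacyclic
import Cfsg.Agent.S3879
import Cfsg.Agent.Lib.Helper65_Metacyclic2

set_option autoImplicit false

namespace Cfsg.Agent.Lib.Helper65_Metacyclic

open scoped commutatorElement

section

variable {G : Type*} [Group G] {p : ℕ} [hpF : Fact p.Prime] [Finite G]

omit hpF [Finite G] in
theorem comm_pow_card_eq_one {n : ℕ} (hn : Nat.card (commutator G) = p ^ n) (x y : G) :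
    ⁅x, y⁆ ^ p ^ n = 1 := by
  have hmem : ⁅x, y⁆ ∈ commutator G :=
    Subgroup.commutator_mem_commutator (Subgroup.mem_top x) (Subgroup.mem_top y)
  have := pow_card_eq_one' (G := commutator G) (x := ⟨_, hmem⟩)
  rw [hn] at this
  exact congrArg Subtype.val this

theorem MC.agemo_le_Cj (h : MC p G) {n s j : ℕ} (hn : Nat.card (commutator G) = p ^ n)
    (hs : n ≤ s + j) : agemo G p s ≤ Cj G p j := by
  unfold agemo
  rw [Subgroup.closure_le]
  rintro _ ⟨y, rfl⟩
  rw [SetLike.mem_coe, h.mem_Cj_iff_comm_pow]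
  intro z
  have hmem : ⁅y ^ p ^ s, z⁆ ∈ Subgroup.zpowers (⁅y, z⁆ ^ p ^ s) := by
    rw [← h.zpowers_comm_pow_left]; exact Subgroup.mem_zpowers _
  obtain ⟨t, ht⟩ := Subgroup.mem_zpowers_iff.mp hmem
  rw [← ht, ← zpow_natCast, ← zpow_mul, mul_comm, zpow_mul, zpow_natCast, ← pow_mul, ← pow_add]
  obtain ⟨d, hd⟩ := Nat.exists_eq_add_of_le hs
  rw [hd, pow_add, pow_mul, comm_pow_card_eq_one hn, one_pow, one_zpow]

theorem MC.index_agemo_le (h : MC p G) (s : ℕ) : (agemo G p s).index ≤ p ^ (2 * s) := by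
  have hp := hpF.out
  obtain ⟨A, a, b, hAn, hAeq, hpow, hgen⟩ := exists_powAct h.pgroup h.mc
  have hN : (agemo G p s).Normal := agemo_normal s
  rw [Subgroup.index_eq_card]
  have hps : 0 < p ^ s := pow_pos hp.pos s
  let φ : Fin (p ^ s) × Fin (p ^ s) → G ⧸ agemo G p s :=
    fun ik => ((a ^ (ik.1 : ℕ) * b ^ (ik.2 : ℕ) : G) : G ⧸ agemo G p s)
  have hφ : Function.Surjective φ := by
    intro q
    obtain ⟨g, rfl⟩ := QuotientGroup.mk_surjective q
    obtain ⟨i, k, rfl⟩ := hgen g
    refine ⟨(⟨i % p ^ s, Nat.mod_lt _ hps⟩, ⟨k % p ^ s, Nat.mod_lt _ hps⟩), ?_⟩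
    show ((a ^ (i % p ^ s) * b ^ (k % p ^ s) : G) : G ⧸ agemo G p s) = _
    have ha : ((a : G) : G ⧸ agemo G p s) ^ p ^ s = 1 := by
      rw [← QuotientGroup.mk_pow, QuotientGroup.eq_one_iff]
      exact pow_mem_agemo s a
    have hb : ((b : G) : G ⧸ agemo G p s) ^ p ^ s = 1 := by
      rw [← QuotientGroup.mk_pow, QuotientGroup.eq_one_iff]
      exact pow_mem_agemo s b
    simp only [QuotientGroup.mk_mul, QuotientGroup.mk_pow]
    have e1 : ((a : G) : G ⧸ agemo G p s) ^ i = (a : G ⧸ agemo G p s) ^ (i % p ^ s) := by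
      conv_lhs => rw [← Nat.mod_add_div i (p ^ s), pow_add, pow_mul, ha, one_pow, mul_one]
    have e2 : ((b : G) : G ⧸ agemo G p s) ^ k = (b : G ⧸ agemo G p s) ^ (k % p ^ s) := by
      conv_lhs => rw [← Nat.mod_add_div k (p ^ s), pow_add, pow_mul, hb, one_pow, mul_one]
    rw [e1, e2]
  have := Nat.card_le_card_of_surjective φ hφ
  rw [Nat.card_prod, Nat.card_fin] at this
  calc Nat.card (G ⧸ agemo G p s) ≤ p ^ s * p ^ s := this
    _ = p ^ (2 * s) := by rw [two_mul, pow_add]

theorem MC.card_Cj_le (h : MC p G) (j : ℕ) :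
    Nat.card (Cj G p j) ≤ Nat.card (Subgroup.center G) * p ^ (2 * j) := by
  have hM := h.card_mul_card_centralizer (Cj G p j) (center_le_Cj j)
  have h1 : Nat.card (agemo G p j) ≤ Nat.card (Subgroup.centralizer (Cj G p j : Set G)) :=
    Subgroup.card_le_of_le (agemo_le_centralizer_Cj j)
  have h2 := Subgroup.card_mul_index (agemo G p j)
  have h3 := h.index_agemo_le j
  have hpos : 0 < Nat.card (agemo G p j) := Nat.card_pos
  have h4 : Nat.card (Cj G p j) * Nat.card (agemo G p j) ≤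
      Nat.card (agemo G p j) * (Nat.card (Subgroup.center G) * p ^ (2 * j)) := by
    calc Nat.card (Cj G p j) * Nat.card (agemo G p j)
        ≤ Nat.card (Cj G p j) * Nat.card (Subgroup.centralizer (Cj G p j : Set G)) :=
          Nat.mul_le_mul_left _ h1
      _ = Nat.card G * Nat.card (Subgroup.center G) := hM
      _ = Nat.card (agemo G p j) * (agemo G p j).index * Nat.card (Subgroup.center G) := by
          rw [h2]
      _ ≤ Nat.card (agemo G p j) * p ^ (2 * j) * Nat.card (Subgroup.center G) := by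
          apply Nat.mul_le_mul_right
          exact Nat.mul_le_mul_left _ h3
      _ = _ := by ring
  rw [mul_comm] at h4
  exact Nat.le_of_mul_le_mul_left h4 hpos

end

end Cfsg.Agent.Lib.Helper65_Metacyclic
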