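/-
Helper library (helper65): metacyclic `p`-groups for odd `p`, part 4: `agemo s = Cj (n-s)`,
`|Cj j| = |Z| p^(2j)`.
-/
import Cfsg.Agent.Lib.Helper65_Metacyclic
import Cfsg.Agent.S3879
import Cfsg.Agent.Lib.Helper65_Metacyclic2
import Cfsg.Agent.Lib.Helper65_Metacyclic3

set_option autoImplicit false

namespace Cfsg.Agent.Lib.Helper65_Metacyclic

open scoped commutatorElement

section

variable {G : Type*} [Group G] {p : ℕ} [hpF : Fact p.Prime] [Finite G]

theorem MC.index_center (h : MC p G) {n : ℕ} (hn : Nat.card (commutator G) = p ^ n) :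
    (Subgroup.center G).index = p ^ (2 * n) := by
  rw [Cfsg.Agent.S3879.result h.odd h.pgroup h.mc, hn, ← pow_mul, mul_comm]

/-- the main counting statement -/
theorem MC.agemo_eq_Cj_and_card (h : MC p G) {n s : ℕ}
    (hn : Nat.card (commutator G) = p ^ n) (hs : s ≤ n) :
    agemo G p s = Cj G p (n - s) ∧
      Nat.card (Cj G p (n - s)) = Nat.card (Subgroup.center G) * p ^ (2 * (n - s)) ∧
      (agemo G p s).index = p ^ (2 * s) := by
  have hp := hpF.out
  have hle : agemo G p s ≤ Cj G p (n - s) := h.agemo_le_Cj hn (by omega)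
  have h1 : Nat.card (agemo G p s) ≤ Nat.card (Cj G p (n - s)) := Subgroup.card_le_of_le hle
  have h2 := h.index_agemo_le s
  have h3 := h.card_Cj_le (n - s)
  have h4 := Subgroup.card_mul_index (agemo G p s)
  have h5 := Subgroup.card_mul_index (Subgroup.center G)
  rw [h.index_center hn] at h5
  have e : 2 * n = 2 * (n - s) + 2 * s := by omega
  have hZpos : 0 < Nat.card (Subgroup.center G) := Nat.card_pos
  have hApos : 0 < Nat.card (agemo G p s) := Nat.card_pos
  have hppos : 0 < p ^ (2 * s) := pow_pos hp.pos _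
  have hppos' : 0 < p ^ (2 * (n - s)) := pow_pos hp.pos _
  -- chain of inequalities
  have hchain : Nat.card (agemo G p s) * (agemo G p s).index ≤
      Nat.card (Cj G p (n - s)) * p ^ (2 * s) := Nat.mul_le_mul h1 h2
  have hchain2 : Nat.card (Cj G p (n - s)) * p ^ (2 * s) ≤
      Nat.card (Subgroup.center G) * p ^ (2 * (n - s)) * p ^ (2 * s) :=
    Nat.mul_le_mul_right _ h3
  have htot : Nat.card (Subgroup.center G) * p ^ (2 * (n - s)) * p ^ (2 * s) = Nat.card G := by
    rw [← h5, e, pow_add, mul_assoc]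
  -- equalities
  have hEq1 : Nat.card (Cj G p (n - s)) * p ^ (2 * s) = Nat.card G := by
    apply le_antisymm
    · rw [← htot]; exact hchain2
    · rw [← h4]; exact hchain
  have hcardC : Nat.card (Cj G p (n - s)) = Nat.card (Subgroup.center G) * p ^ (2 * (n - s)) := by
    have : Nat.card (Cj G p (n - s)) * p ^ (2 * s) =
        Nat.card (Subgroup.center G) * p ^ (2 * (n - s)) * p ^ (2 * s) := by rw [hEq1, htot]
    exact Nat.eq_of_mul_eq_mul_right hppos this
  have hcardA : Nat.card (agemo G p s) = Nat.card (Cj G p (n - s)) := by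
    apply le_antisymm h1
    by_contra hcon
    push Not at hcon
    have : Nat.card (agemo G p s) * (agemo G p s).index <
        Nat.card (Cj G p (n - s)) * p ^ (2 * s) :=
      Nat.mul_lt_mul_of_lt_of_le hcon h2 hppos
    rw [h4, hEq1] at this
    exact lt_irrefl _ this
  refine ⟨Subgroup.eq_of_le_of_card_ge hle hcardA.ge, hcardC, ?_⟩
  have : Nat.card (agemo G p s) * (agemo G p s).index = Nat.card (agemo G p s) * p ^ (2 * s) := by
    rw [h4, hcardA, hEq1]
  exact Nat.eq_of_mul_eq_mul_left hApos this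

theorem MC.card_Cj (h : MC p G) {n j : ℕ} (hn : Nat.card (commutator G) = p ^ n) (hj : j ≤ n) :
    Nat.card (Cj G p j) = Nat.card (Subgroup.center G) * p ^ (2 * j) := by
  have := (h.agemo_eq_Cj_and_card hn (Nat.sub_le n j)).2.1
  rwa [Nat.sub_sub_self hj] at this

theorem MC.agemo_eq_Cj (h : MC p G) {n s : ℕ} (hn : Nat.card (commutator G) = p ^ n)
    (hs : s ≤ n) : agemo G p s = Cj G p (n - s) :=
  (h.agemo_eq_Cj_and_card hn hs).1

omit hpF [Finite G] in
theorem Cj_zero : Cj G p 0 = Subgroup.center G := by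
  unfold Cj
  rw [agemo_zero, Subgroup.coe_top, Subgroup.centralizer_univ]

theorem MC.agemo_eq_center (h : MC p G) {n : ℕ} (hn : Nat.card (commutator G) = p ^ n) :
    agemo G p n = Subgroup.center G := by
  rw [h.agemo_eq_Cj hn le_rfl, Nat.sub_self, Cj_zero]

end

end Cfsg.Agent.Lib.Helper65_Metacyclic
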