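/-
Helper library (helper65): metacyclic `p`-groups for odd `p`, part 5: the class size of `g` is the
order of `g` modulo the centre; `index C(g) ≤ p^j ↔ g ∈ Cj j`.
-/
import Cfsg.Agent.Lib.Helper65_Metacyclic
import Cfsg.Agent.S3879
import Cfsg.Agent.Lib.Helper65_Metacyclic2
import Cfsg.Agent.Lib.Helper65_Metacyclic3
import Cfsg.Agent.Lib.Helper65_Metacyclic4

set_option autoImplicit false

namespace Cfsg.Agent.Lib.Helper65_Metacyclic

open scoped commutatorElement

section

variable {G : Type*} [Group G] {p : ℕ} [hpF : Fact p.Prime] [Finite G]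

omit hpF [Finite G] in
theorem card_mul_relIndex_of_le {H K : Subgroup G} (hHK : H ≤ K) :
    Nat.card H * H.relIndex K = Nat.card K := by
  have := Subgroup.relIndex_mul_relIndex (⊥ : Subgroup G) H K bot_le hHK
  rwa [Subgroup.relIndex_bot_left, Subgroup.relIndex_bot_left] at this

/-- the class size of `g` is the order of `g` modulo the centre. -/
theorem MC.index_centralizer_eq_orderOf (h : MC p G) (g : G) :
    (Subgroup.centralizer ({g} : Set G)).index = orderOf ((g : G) : G ⧸ Subgroup.center G) := by
  set Z := Subgroup.center G with hZ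
  set R := Z ⊔ Subgroup.zpowers g with hR
  have hcent : Subgroup.centralizer (R : Set G) = Subgroup.centralizer ({g} : Set G) := by
    apply le_antisymm
    · apply Subgroup.centralizer_le
      intro x hx
      rw [Set.mem_singleton_iff] at hx
      rw [hx]
      exact Subgroup.mem_sup_right (Subgroup.mem_zpowers g)
    · intro x hx
      rw [Subgroup.mem_centralizer_singleton_iff] at hx
      rw [Subgroup.mem_centralizer_iff]
      intro y hy
      have hle : R ≤ Subgroup.centralizer ({x} : Set G) := by
        apply sup_le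
        · exact Subgroup.center_le_centralizer _
        · rw [Subgroup.zpowers_le, Subgroup.mem_centralizer_singleton_iff]
          exact hx.symm
      have := hle hy
      rw [Subgroup.mem_centralizer_singleton_iff] at this
      exact this
  have hM := h.card_mul_card_centralizer R le_sup_left
  rw [hcent] at hM
  have h1 : Z.relIndex R = orderOf ((g : G) : G ⧸ Z) := by
    have := Subgroup.relIndex_ker R (QuotientGroup.mk' Z)
    rw [QuotientGroup.ker_mk'] at this
    rw [this, hR, Subgroup.map_sup, MonoidHom.map_zpowers]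
    have hbot : Subgroup.map (QuotientGroup.mk' Z) Z = ⊥ := by
      rw [eq_bot_iff]
      rintro _ ⟨z, hz, rfl⟩
      rw [Subgroup.mem_bot]
      exact (QuotientGroup.eq_one_iff z).mpr hz
    rw [hbot, bot_sup_eq, Nat.card_zpowers]
    rfl
  have h2 := card_mul_relIndex_of_le (le_sup_left : Z ≤ R)
  rw [h1] at h2
  have h3 := Subgroup.card_mul_index (Subgroup.centralizer ({g} : Set G))
  have hZpos : 0 < Nat.card Z := Nat.card_pos
  have hCpos : 0 < Nat.card (Subgroup.centralizer ({g} : Set G)) := Nat.card_pos
  have h4 : Nat.card Z * (Nat.card (Subgroup.centralizer ({g} : Set G)) *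
      orderOf ((g : G) : G ⧸ Z)) = Nat.card Z * (Nat.card (Subgroup.centralizer ({g} : Set G)) *
      (Subgroup.centralizer ({g} : Set G)).index) := by
    rw [h3, mul_comm (Nat.card (Subgroup.centralizer ({g} : Set G))), ← mul_assoc, h2, hM,
      mul_comm]
  have h5 := Nat.eq_of_mul_eq_mul_left hZpos h4
  exact (Nat.eq_of_mul_eq_mul_left hCpos h5).symm

theorem MC.index_centralizer_le_iff (h : MC p G) (g : G) (j : ℕ) :
    (Subgroup.centralizer ({g} : Set G)).index ≤ p ^ j ↔ g ∈ Cj G p j := by
  have hp := hpF.out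
  rw [h.index_centralizer_eq_orderOf, h.mem_Cj_iff_pow_mem_center, ← QuotientGroup.eq_one_iff,
    QuotientGroup.mk_pow]
  obtain ⟨e, he⟩ : ∃ e, orderOf ((g : G) : G ⧸ Subgroup.center G) = p ^ e := by
    obtain ⟨k, hk⟩ := (h.pgroup.to_quotient (Subgroup.center G)) ((g : G) : G ⧸ Subgroup.center G)
    obtain ⟨e, -, he⟩ := (Nat.dvd_prime_pow hp).mp (orderOf_dvd_of_pow_eq_one hk)
    exact ⟨e, he⟩
  rw [← orderOf_dvd_iff_pow_eq_one, he, Nat.pow_dvd_pow_iff_le_right hp.one_lt]
  exact Nat.pow_le_pow_iff_right hp.one_lt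

/-- class sizes are powers of `p` -/
theorem MC.exists_index_centralizer_eq (h : MC p G) (g : G) :
    ∃ e : ℕ, (Subgroup.centralizer ({g} : Set G)).index = p ^ e := by
  have hp := hpF.out
  rw [h.index_centralizer_eq_orderOf]
  obtain ⟨k, hk⟩ := (h.pgroup.to_quotient (Subgroup.center G)) ((g : G) : G ⧸ Subgroup.center G)
  obtain ⟨e, -, he⟩ := (Nat.dvd_prime_pow hp).mp (orderOf_dvd_of_pow_eq_one hk)
  exact ⟨e, he⟩

end

end Cfsg.Agent.Lib.Helper65_Metacyclic
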