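/-
Helper library (helper65): metacyclic `p`-groups for odd `p`, part 6: `G' ≤ agemo 1 = Φ(G)`;
elements outside the Frattini subgroup are those of class size `|G'|`.
-/
import Cfsg.Agent.Lib.Helper65_Metacyclic
import Cfsg.Agent.Lib.Helper65_Metacyclic2
import Cfsg.Agent.Lib.Helper65_Metacyclic4
import Cfsg.Agent.Lib.Helper65_Metacyclic5
import Cfsg.Agent.Lib.Helper1_Frattini

set_option autoImplicit false

namespace Cfsg.Agent.Lib.Helper65_Metacyclic

open scoped commutatorElement

section

variable {G : Type*} [Group G] {p : ℕ} [hpF : Fact p.Prime] [Finite G]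

theorem MC.commutator_le_agemo_one (h : MC p G) : commutator G ≤ agemo G p 1 := by
  have hp := hpF.out
  obtain ⟨A, a, b, hAn, hAeq, hpow, hgen⟩ := exists_powAct h.pgroup h.mc
  have hN : (agemo G p 1).Normal := agemo_normal 1
  rw [← Subgroup.Normal.quotient_commutative_iff_commutator_le]
  -- `b` and `a` commute modulo `agemo 1`
  have hba : ⁅b, a⁆ ∈ agemo G p 1 := by
    obtain ⟨s, hs1, hs⟩ := hpow.act b
    have haA : a ∈ A := by rw [hAeq]; exact Subgroup.mem_zpowers a
    rw [commutatorElement_def, hs a haA]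
    have hs' : s = p * (s / p) + 1 := by
      have := Nat.div_add_mod s p
      omega
    rw [hs', pow_succ, mul_inv_cancel_right, mul_comm, pow_mul]
    have := pow_mem_agemo (p := p) 1 (a ^ (s / p))
    rwa [pow_one] at this
  have hcomm : Commute ((a : G) : G ⧸ agemo G p 1) ((b : G) : G ⧸ agemo G p 1) := by
    have h1 : ((⁅b, a⁆ : G) : G ⧸ agemo G p 1) = 1 := (QuotientGroup.eq_one_iff _).mpr hba
    rw [commutatorElement_def] at h1
    simp only [QuotientGroup.mk_mul, QuotientGroup.mk_inv] at h1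
    have h2 : ((b : G) : G ⧸ agemo G p 1) * (a : G ⧸ agemo G p 1) =
        (a : G ⧸ agemo G p 1) * (b : G ⧸ agemo G p 1) := by
      have := congrArg (fun t => t * ((a : G) : G ⧸ agemo G p 1) * ((b : G) : G ⧸ agemo G p 1)) h1
      simpa [mul_assoc] using this
    exact h2.symm
  refine ⟨⟨fun x y => ?_⟩⟩
  obtain ⟨x, rfl⟩ := QuotientGroup.mk_surjective x
  obtain ⟨y, rfl⟩ := QuotientGroup.mk_surjective y
  obtain ⟨i, k, rfl⟩ := hgen x
  obtain ⟨i', k', rfl⟩ := hgen y
  simp only [QuotientGroup.mk_mul, QuotientGroup.mk_pow]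
  have c1 : Commute (((a : G) : G ⧸ agemo G p 1) ^ i * ((b : G) : G ⧸ agemo G p 1) ^ k)
      (((a : G) : G ⧸ agemo G p 1) ^ i' * ((b : G) : G ⧸ agemo G p 1) ^ k') := by
    apply Commute.mul_left
    · apply Commute.mul_right
      · exact (Commute.refl _).pow_pow i i'
      · exact hcomm.pow_pow i k'
    · apply Commute.mul_right
      · exact (hcomm.symm).pow_pow k i'
      · exact (Commute.refl _).pow_pow k k'
  exact c1.eq

theorem MC.frattini_eq_agemo_one (h : MC p G) : frattini G = agemo G p 1 := by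
  apply le_antisymm
  · apply Cfsg.Agent.Lib.Helper1_Frattini.frattini_le_of_elementary_quotient (p := p) _
      h.commutator_le_agemo_one
    intro x
    have := pow_mem_agemo (p := p) 1 x
    rwa [pow_one] at this
  · unfold agemo
    rw [Subgroup.closure_le]
    rintro _ ⟨y, rfl⟩
    rw [pow_one]
    exact Cfsg.Agent.Lib.Helper1_Frattini.pow_mem_frattini_of_isPGroup h.pgroup y

/-- class sizes are at most `|G'|`. -/
theorem MC.index_centralizer_le (h : MC p G) {n : ℕ} (hn : Nat.card (commutator G) = p ^ n)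
    (g : G) : (Subgroup.centralizer ({g} : Set G)).index ≤ p ^ n := by
  rw [h.index_centralizer_le_iff]
  have e0 := h.agemo_eq_Cj hn (Nat.zero_le n)
  rw [Nat.sub_zero, agemo_zero] at e0
  rw [← e0]
  exact Subgroup.mem_top g

/-- nonabelian: outside the Frattini subgroup means class size `|G'|`. -/
theorem MC.not_mem_frattini_iff (h : MC p G) {n : ℕ} (hn : Nat.card (commutator G) = p ^ n)
    (hn1 : 1 ≤ n) (g : G) :
    g ∉ frattini G ↔ (Subgroup.centralizer ({g} : Set G)).index = p ^ n := by
  have hp := hpF.out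
  rw [h.frattini_eq_agemo_one, h.agemo_eq_Cj hn hn1, ← h.index_centralizer_le_iff]
  obtain ⟨e, he⟩ := h.exists_index_centralizer_eq g
  have hle : (Subgroup.centralizer ({g} : Set G)).index ≤ p ^ n := h.index_centralizer_le hn g
  rw [he] at hle ⊢
  rw [Nat.pow_le_pow_iff_right hp.one_lt] at hle
  rw [Nat.pow_le_pow_iff_right hp.one_lt, Nat.pow_right_injective hp.two_le |>.eq_iff]
  omega

end

end Cfsg.Agent.Lib.Helper65_Metacyclic
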