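/-
Helper library (helper65): metacyclic `p`-groups for odd `p`, part 8: power formulas
`(y c)^t = y^t c^(gs s t)` for `c` in the normal cyclic subgroup and `(g w)^t = g^t w^t c^(E t)`.
-/
import Cfsg.Agent.Lib.Helper65_Metacyclic

set_option autoImplicit false

namespace Cfsg.Agent.Lib.Helper65_Metacyclic

open scoped commutatorElement

section

variable {G : Type*} [Group G]

/-- powers of a coset element: if `y⁻¹ c y = c^s` on `A`, then `(y c)^t = y^t c^(1+s+...+s^(t-1))`. -/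
theorem mul_pow_of_mem (A : Subgroup G) (y c : G) (s : ℕ) (hc : c ∈ A)
    (hs : ∀ d ∈ A, y⁻¹ * d * y = d ^ s) (t : ℕ) : (y * c) ^ t = y ^ t * c ^ gs s t := by
  induction t with
  | zero => simp [gs_zero]
  | succ t ih =>
    have e1 : (y * c) ^ (t + 1) = y ^ (t + 1) * (y⁻¹ * c ^ gs s t * y) * c := by
      rw [pow_succ, ih, pow_succ]; group
    rw [e1, hs _ (A.pow_mem hc _), gs_succ, ← pow_mul, mul_assoc, ← pow_succ, mul_comm (gs s t) s]

/-- the exponent in the product formula `(g w)^t = g^t w^t c^(E t)` -/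
def EE (q r : ℕ) : ℕ → ℕ
  | 0 => 0
  | t + 1 => q * (gs q t + r * EE q r t)

theorem EE_zero (q r : ℕ) : EE q r 0 = 0 := rfl

theorem EE_succ (q r t : ℕ) : EE q r (t + 1) = q * (gs q t + r * EE q r t) := rfl

theorem modEq_one_of_mod {p s : ℕ} (hs : s % p = 1) : s ≡ 1 [MOD p] := by
  unfold Nat.ModEq
  rw [hs]
  rcases p with _ | _ | p
  · rfl
  · rw [Nat.mod_one] at hs; omega
  · exact (Nat.mod_eq_of_lt (by omega)).symm

theorem gs_mod {p s : ℕ} (hs : s % p = 1) (t : ℕ) : gs s t ≡ t [MOD p] := by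
  induction t with
  | zero => rw [gs_zero]
  | succ t ih =>
    rw [gs_succ]
    have h1 : s ≡ 1 [MOD p] := modEq_one_of_mod hs
    calc s * gs s t + 1 ≡ 1 * t + 1 [MOD p] := Nat.ModEq.add_right 1 (Nat.ModEq.mul h1 ih)
      _ = t + 1 := by rw [one_mul]

theorem two_mul_EE_mod {p q r : ℕ} (hq : q % p = 1) (hr : r % p = 1) (t : ℕ) :
    2 * EE q r t + t ≡ t * t [MOD p] := by
  have h1 : ∀ s : ℕ, s % p = 1 → s ≡ 1 [MOD p] := fun s hs => modEq_one_of_mod hs
  induction t with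
  | zero => rw [EE_zero]
  | succ t ih =>
    rw [EE_succ]
    have hE : q * (gs q t + r * EE q r t) ≡ 1 * (t + 1 * EE q r t) [MOD p] :=
      Nat.ModEq.mul (h1 q hq) (Nat.ModEq.add (gs_mod hq t) (Nat.ModEq.mul (h1 r hr) rfl))
    rw [one_mul, one_mul] at hE
    calc 2 * (q * (gs q t + r * EE q r t)) + (t + 1)
        ≡ 2 * (t + EE q r t) + (t + 1) [MOD p] :=
          Nat.ModEq.add_right _ (Nat.ModEq.mul_left 2 hE)
      _ = (2 * EE q r t + t) + (2 * t + 1) := by ring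
      _ ≡ t * t + (2 * t + 1) [MOD p] := Nat.ModEq.add_right _ ih
      _ = (t + 1) * (t + 1) := by ring

theorem dvd_EE_prime {p q r : ℕ} (hp : p.Prime) (hp2 : p ≠ 2) (hq : q % p = 1) (hr : r % p = 1) :
    p ∣ EE q r p := by
  have h := two_mul_EE_mod hq hr p
  have h2 : 2 * EE q r p + p ≡ 0 [MOD p] := by
    refine h.trans ?_
    exact (Nat.modEq_zero_iff_dvd).mpr (dvd_mul_right p p)
  have h3 : p ∣ 2 * EE q r p + p := (Nat.modEq_zero_iff_dvd).mp h2
  have h4 : p ∣ 2 * EE q r p := (Nat.dvd_add_left (dvd_refl p)).mp h3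
  rcases (Nat.Prime.dvd_mul hp).mp h4 with h5 | h5
  · exfalso
    have := (Nat.prime_dvd_prime_iff_eq hp Nat.prime_two).mp h5
    exact hp2 this
  · exact h5

/-- the product formula `(g w)^t = g^t w^t c^(E t)`, `c = ⁅w⁻¹, g⁻¹⁆`. -/
theorem mul_pow_eq (A : Subgroup G) (g w : G) (q r : ℕ) (hc : ⁅w⁻¹, g⁻¹⁆ ∈ A)
    (hq : ∀ d ∈ A, w⁻¹ * d * w = d ^ q) (hr : ∀ d ∈ A, g⁻¹ * d * g = d ^ r) (t : ℕ) :
    (g * w) ^ t = g ^ t * w ^ t * ⁅w⁻¹, g⁻¹⁆ ^ EE q r t := by
  induction t with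
  | zero => simp [EE_zero]
  | succ t ih =>
    set c := ⁅w⁻¹, g⁻¹⁆ with hcdef
    have hq' : ∀ d ∈ A, w⁻¹ * d * (w⁻¹)⁻¹ = d ^ q := by
      intro d hd; rw [inv_inv]; exact hq d hd
    have e1 : g⁻¹ * w ^ t * g = w ^ t * c ^ gs q t := by
      have := comm_pow_left A w⁻¹ g⁻¹ q hc hq' t
      rw [← hcdef] at this
      rw [← this, commutatorElement_def]
      simp only [inv_pow, inv_inv]
      group
    have e2 : g⁻¹ * c ^ EE q r t * g = c ^ (r * EE q r t) := by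
      rw [hr _ (A.pow_mem hc _), ← pow_mul, mul_comm]
    have e3 : w⁻¹ * c ^ (gs q t + r * EE q r t) * w = c ^ EE q r (t + 1) := by
      rw [hq _ (A.pow_mem hc _), ← pow_mul, EE_succ, mul_comm]
    calc (g * w) ^ (t + 1) = (g * w) ^ t * (g * w) := pow_succ _ _
      _ = g ^ t * w ^ t * c ^ EE q r t * (g * w) := by rw [ih]
      _ = g ^ (t + 1) * (g⁻¹ * w ^ t * g) * (g⁻¹ * c ^ EE q r t * g) * w := by
          rw [pow_succ]; group
      _ = g ^ (t + 1) * (w ^ t * c ^ gs q t) * c ^ (r * EE q r t) * w := by rw [e1, e2]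
      _ = g ^ (t + 1) * w ^ (t + 1) * (w⁻¹ * c ^ (gs q t + r * EE q r t) * w) := by
          rw [pow_add c, pow_succ w]; group
      _ = g ^ (t + 1) * w ^ (t + 1) * c ^ EE q r (t + 1) := by rw [e3]

end

end Cfsg.Agent.Lib.Helper65_Metacyclic
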