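/-
Helper library (helper65): metacyclic `p`-groups for odd `p`, part 9: `(y c)^p = y^p (c^u)^p`,
`w^p = 1 → (g w)^p = g^p`, and `g^p = k^p → (g⁻¹ k)^p = 1`.
-/
import Cfsg.Agent.Lib.Helper65_Metacyclic
import Cfsg.Agent.Lib.Helper65_Metacyclic8

set_option autoImplicit false

namespace Cfsg.Agent.Lib.Helper65_Metacyclic

open scoped commutatorElement

section

variable {G : Type*} [Group G] {p : ℕ} {A : Subgroup G}

theorem PowAct.exists_unit_mul_pow (h : PowAct p A) (hp : p.Prime) (hp2 : p ≠ 2) (y : G) :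
    ∃ u : ℕ, ¬ p ∣ u ∧ ∀ c ∈ A, (y * c) ^ p = y ^ p * (c ^ u) ^ p := by
  obtain ⟨s, hs1, hs⟩ := h.act y⁻¹
  obtain ⟨u, hu, hgs⟩ := gs_prime_pow hp hp2 hs1 1
  rw [pow_one] at hgs
  refine ⟨u, hu, fun c hc => ?_⟩
  have hs' : ∀ d ∈ A, y⁻¹ * d * y = d ^ s := by
    intro d hd
    have := hs d hd
    rwa [inv_inv] at this
  rw [mul_pow_of_mem A y c s hc hs' p, hgs, ← pow_mul, mul_comm u p]

/-- a `p`-element killed by a power prime to `p` is trivial -/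
theorem eq_one_of_pow_eq_one_of_not_dvd (hp : p.Prime) (hG : IsPGroup p G) {f : G} {u : ℕ}
    (hu : ¬ p ∣ u) (hf : f ^ u = 1) : f = 1 := by
  obtain ⟨k, hk⟩ := hG f
  have h1 : orderOf f ∣ u := orderOf_dvd_of_pow_eq_one hf
  have h2 : orderOf f ∣ p ^ k := orderOf_dvd_of_pow_eq_one hk
  have hcop : Nat.Coprime u (p ^ k) :=
    Nat.Coprime.pow_right k ((Nat.Prime.coprime_iff_not_dvd hp).mpr hu).symm
  have h3 : orderOf f ∣ Nat.gcd u (p ^ k) := Nat.dvd_gcd h1 h2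
  rw [hcop, Nat.dvd_one, orderOf_eq_one_iff] at h3
  exact h3

theorem PowAct.mul_pow_of_pow_eq_one (h : PowAct p A) (hp : p.Prime) (hp2 : p ≠ 2)
    (hG : IsPGroup p G) (g w : G) (hw : w ^ p = 1) : (g * w) ^ p = g ^ p := by
  obtain ⟨q, hq1, hq⟩ := h.act w⁻¹
  obtain ⟨r, hr1, hr⟩ := h.act g⁻¹
  have hq' : ∀ d ∈ A, w⁻¹ * d * w = d ^ q := by
    intro d hd
    have := hq d hd
    rwa [inv_inv] at this
  have hr' : ∀ d ∈ A, g⁻¹ * d * g = d ^ r := by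
    intro d hd
    have := hr d hd
    rwa [inv_inv] at this
  rw [mul_pow_eq A g w q r (h.comm_mem _ _) hq' hr' p, hw, mul_one]
  have hc : ⁅w⁻¹, g⁻¹⁆ ^ p = 1 := by
    have := (h.comm_pow_left_eq_one_iff hp hp2 hG w⁻¹ g⁻¹ 1).mp (by
      rw [pow_one, inv_pow, hw, inv_one, commutatorElement_def]; group)
    rwa [pow_one] at this
  obtain ⟨e, he⟩ := dvd_EE_prime hp hp2 hq1 hr1
  rw [he, pow_mul, hc, one_pow, mul_one]

/-- **(P2)**: `g^p = k^p` implies `(g⁻¹ k)^p = 1`. -/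
theorem PowAct.pow_eq_pow_imp (h : PowAct p A) (hp : p.Prime) (hp2 : p ≠ 2)
    (hG : IsPGroup p G) (g k : G) (hgk : g ^ p = k ^ p) : (g⁻¹ * k) ^ p = 1 := by
  set w := g⁻¹ * k with hw
  have hk : k = g * w := by rw [hw]; group
  obtain ⟨q, hq1, hq⟩ := h.act w⁻¹
  obtain ⟨r, hr1, hr⟩ := h.act g⁻¹
  have hq' : ∀ d ∈ A, w⁻¹ * d * w = d ^ q := by
    intro d hd
    have := hq d hd
    rwa [inv_inv] at this
  have hr' : ∀ d ∈ A, g⁻¹ * d * g = d ^ r := by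
    intro d hd
    have := hr d hd
    rwa [inv_inv] at this
  have hcA : ⁅w⁻¹, g⁻¹⁆ ∈ A := h.comm_mem _ _
  obtain ⟨e, he⟩ := dvd_EE_prime hp hp2 hq1 hr1
  set d := ⁅w⁻¹, g⁻¹⁆ ^ e with hd
  have hdA : d ∈ A := A.pow_mem hcA e
  have e1 : k ^ p = g ^ p * w ^ p * d ^ p := by
    rw [hk, mul_pow_eq A g w q r hcA hq' hr' p, he, hd, ← pow_mul, mul_comm e p]
  have e2 : w ^ p * d ^ p = 1 := by
    rw [← hgk, mul_assoc] at e1
    exact (mul_eq_left.mp e1.symm)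
  -- choose c' with c'^u = d
  obtain ⟨u, hu, hU⟩ := h.exists_unit_mul_pow hp hp2 w
  obtain ⟨c', hc'A, hc'⟩ : ∃ c' ∈ A, c' ^ u = d := by
    obtain ⟨N, hN⟩ := hG d
    have hcop : Nat.Coprime u (orderOf d) := by
      have hdvd : orderOf d ∣ p ^ N := orderOf_dvd_of_pow_eq_one hN
      exact Nat.Coprime.coprime_dvd_right hdvd
        (Nat.Coprime.pow_right N ((Nat.Prime.coprime_iff_not_dvd hp).mpr hu).symm)
    obtain ⟨m, hm⟩ := exists_pow_eq_self_of_coprime hcop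
    refine ⟨d ^ m, A.pow_mem hdA m, ?_⟩
    rw [← pow_mul, mul_comm, pow_mul, hm]
  set w₀ := w * c' with hw₀
  have hw₀p : w₀ ^ p = 1 := by
    rw [hw₀, hU c' hc'A, hc', e2]
  have hg' : (g * w₀) ^ p = g ^ p := h.mul_pow_of_pow_eq_one hp hp2 hG g w₀ hw₀p
  have hk2 : k = (g * w₀) * c'⁻¹ := by rw [hk, hw₀]; group
  obtain ⟨u', hu', hU'⟩ := h.exists_unit_mul_pow hp hp2 (g * w₀)
  have e3 := hU' c'⁻¹ (A.inv_mem hc'A)
  rw [← hk2, hg', ← hgk] at e3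
  have e4 : ((c'⁻¹) ^ u') ^ p = 1 := mul_eq_left.mp e3.symm
  have e5 : (c'⁻¹) ^ p = 1 := by
    apply eq_one_of_pow_eq_one_of_not_dvd hp hG hu'
    rw [← pow_mul, mul_comm, pow_mul]
    exact e4
  have hw2 : w = w₀ * c'⁻¹ := by rw [hw₀]; group
  rw [hw2, h.mul_pow_of_pow_eq_one hp hp2 hG w₀ c'⁻¹ e5, hw₀p]

end

end Cfsg.Agent.Lib.Helper65_Metacyclic
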