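/-
Helper library (helper65): metacyclic `p`-groups for odd `p`, part 10: every element of `agemo 1`
is a `p`-th power; `|G : agemo 1| = p^2` in the non-cyclic case.
-/
import Cfsg.Agent.Lib.Helper65_Metacyclic
import Cfsg.Agent.Lib.Helper65_Metacyclic2
import Cfsg.Agent.Lib.Helper65_Metacyclic3
import Cfsg.Agent.Lib.Helper65_Metacyclic6
import Cfsg.Agent.Lib.Helper65_Metacyclic8
import Cfsg.Agent.Lib.Helper65_Metacyclic9

set_option autoImplicit false

namespace Cfsg.Agent.Lib.Helper65_Metacyclic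

open scoped commutatorElement

section

variable {G : Type*} [Group G] {p : ℕ}

theorem exists_root_of_not_dvd (hp : p.Prime) (hG : IsPGroup p G) {u : ℕ} (hu : ¬ p ∣ u)
    (A : Subgroup G) {d : G} (hd : d ∈ A) : ∃ c' ∈ A, c' ^ u = d := by
  obtain ⟨N, hN⟩ := hG d
  have hcop : Nat.Coprime u (orderOf d) := by
    have hdvd : orderOf d ∣ p ^ N := orderOf_dvd_of_pow_eq_one hN
    exact Nat.Coprime.coprime_dvd_right hdvd
      (Nat.Coprime.pow_right N ((Nat.Prime.coprime_iff_not_dvd hp).mpr hu).symm)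
  obtain ⟨m, hm⟩ := exists_pow_eq_self_of_coprime hcop
  refine ⟨d ^ m, A.pow_mem hd m, ?_⟩
  rw [← pow_mul, mul_comm, pow_mul, hm]

variable [hpF : Fact p.Prime] [Finite G]

/-- **(P1)**: every element of `agemo 1` is a `p`-th power. -/
theorem MC.exists_pow_eq_of_mem_agemo_one (h : MC p G) {x : G} (hx : x ∈ agemo G p 1) :
    ∃ k : G, k ^ p = x := by
  have hp := hpF.out
  obtain ⟨A, a, b, hAn, hAeq, hpow, hgen⟩ := exists_powAct h.pgroup h.mc
  have haA : a ∈ A := by rw [hAeq]; exact Subgroup.mem_zpowers a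
  have hapA : Subgroup.zpowers (a ^ p) ≤ A := by
    rw [Subgroup.zpowers_le]; exact A.pow_mem haA p
  -- `<a^p>` is normal
  have hnorm : (Subgroup.zpowers (a ^ p)).Normal := by
    constructor
    intro n hn g
    obtain ⟨s, -, hs⟩ := hpow.act g
    rw [hs n (hapA hn)]
    exact Subgroup.pow_mem _ hn s
  set T := Subgroup.zpowers (b ^ p) ⊔ Subgroup.zpowers (a ^ p) with hT
  -- every `p`-th power lies in `T`
  have hA : agemo G p 1 ≤ T := by
    unfold agemo
    rw [Subgroup.closure_le]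
    rintro _ ⟨g, rfl⟩
    rw [pow_one]
    obtain ⟨i, k, rfl⟩ := hgen g
    set c := (b ^ k)⁻¹ * a ^ i * b ^ k with hc
    have hcA : c ∈ A := by
      have := hAn.conj_mem (a ^ i) (A.pow_mem haA i) (b ^ k)⁻¹
      rwa [inv_inv] at this
    have e1 : a ^ i * b ^ k = b ^ k * c := by rw [hc]; group
    obtain ⟨u, hu, hU⟩ := hpow.exists_unit_mul_pow hp h.odd (b ^ k)
    rw [e1, hU c hcA]
    apply Subgroup.mul_mem
    · apply Subgroup.mem_sup_left
      rw [← pow_mul, mul_comm, pow_mul]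
      exact Subgroup.pow_mem _ (Subgroup.mem_zpowers _) k
    · apply Subgroup.mem_sup_right
      have hcu : c ^ u ∈ Subgroup.zpowers a := by rw [← hAeq]; exact A.pow_mem hcA u
      obtain ⟨j, hj⟩ := exists_pow_eq_of_mem_zpowers hcu
      rw [← hj, ← pow_mul, mul_comm, pow_mul]
      exact Subgroup.pow_mem _ (Subgroup.mem_zpowers _) j
  -- every element of `T` is a `p`-th power
  have hxT : x ∈ ((Subgroup.zpowers (b ^ p) ⊔ Subgroup.zpowers (a ^ p) : Subgroup G) : Set G) :=
    hA hx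
  rw [Subgroup.mul_normal] at hxT
  obtain ⟨y₁, hy₁, z₁, hz₁, rfl⟩ := Set.mem_mul.mp hxT
  obtain ⟨k, rfl⟩ := exists_pow_eq_of_mem_zpowers hy₁
  obtain ⟨j, rfl⟩ := exists_pow_eq_of_mem_zpowers hz₁
  obtain ⟨u, hu, hU⟩ := hpow.exists_unit_mul_pow hp h.odd (b ^ k)
  obtain ⟨c', hc'A, hc'⟩ := exists_root_of_not_dvd hp h.pgroup hu A (A.pow_mem haA j)
  refine ⟨b ^ k * c', ?_⟩
  rw [hU c' hc'A, hc', ← pow_mul, ← pow_mul, ← pow_mul, ← pow_mul, mul_comm k p, mul_comm j p]

/-- **(L7)**: in the non-cyclic case `|G : agemo 1| = p^2`. -/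
theorem MC.index_agemo_one (h : MC p G) (hnc : ¬ IsCyclic G) : (agemo G p 1).index = p ^ 2 := by
  have hp := hpF.out
  have hN : (agemo G p 1).Normal := agemo_normal 1
  have hle := h.index_agemo_le 1
  rw [mul_one] at hle
  obtain ⟨N, hN'⟩ := h.pgroup.exists_card_eq
  have hdvd : (agemo G p 1).index ∣ p ^ N := by rw [← hN']; exact Subgroup.index_dvd_card _
  obtain ⟨e, -, he⟩ := (Nat.dvd_prime_pow hp).mp hdvd
  rw [he] at hle ⊢
  have he2 : e ≤ 2 := (Nat.pow_le_pow_iff_right hp.one_lt).mp hle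
  by_contra hcon
  have he1 : e ≤ 1 := by
    rcases Nat.lt_or_ge e 2 with h2 | h2
    · omega
    · exfalso; apply hcon; rw [le_antisymm he2 h2]
  -- the quotient is cyclic
  have hcard : Nat.card (G ⧸ agemo G p 1) = p ^ e := by rw [← Subgroup.index_eq_card, he]
  have hcyc : IsCyclic (G ⧸ agemo G p 1) := by
    rcases Nat.eq_zero_or_pos e with h0 | h0
    · rw [h0, pow_zero] at hcard
      have : Subsingleton (G ⧸ agemo G p 1) := (Nat.card_eq_one_iff_unique.mp hcard).1
      infer_instance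
    · have : e = 1 := by omega
      rw [this, pow_one] at hcard
      exact isCyclic_of_prime_card hcard
  obtain ⟨q, hq⟩ := hcyc.exists_generator
  obtain ⟨g, rfl⟩ := QuotientGroup.mk_surjective q
  have hsup : Subgroup.zpowers g ⊔ frattini G = ⊤ := by
    rw [h.frattini_eq_agemo_one, eq_top_iff]
    intro x _
    obtain ⟨k, hk⟩ := Subgroup.mem_zpowers_iff.mp (hq (x : G ⧸ agemo G p 1))
    have h1 : (g ^ k)⁻¹ * x ∈ agemo G p 1 := by
      rw [← QuotientGroup.eq]
      simpa using hk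
    have h2 : x = g ^ k * ((g ^ k)⁻¹ * x) := by group
    rw [h2]
    exact Subgroup.mul_mem _ (Subgroup.mem_sup_left (Subgroup.zpow_mem_zpowers g k))
      (Subgroup.mem_sup_right h1)
  have htop := frattini_nongenerating hsup
  exact hnc (isCyclic_iff_exists_zpowers_eq_top.mpr ⟨g, htop⟩)

end

end Cfsg.Agent.Lib.Helper65_Metacyclic
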