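/-
Helper library (helper65): metacyclic `p`-groups for odd `p`, part 7: subgroups of metacyclic groups
are metacyclic; every non-abelian subgroup `R` has `|R : R'| = |G : G'|`.
-/
import Cfsg.Agent.Lib.Helper65_Metacyclic
import Cfsg.Agent.Lib.Helper65_Metacyclic2
import Cfsg.Agent.S3879
import Cfsg.Agent.S3880

set_option autoImplicit false

namespace Cfsg.Agent.Lib.Helper65_Metacyclic

section

variable {G : Type*} [Group G]

/-- subgroups of metacyclic groups are metacyclic -/
theorem isMetacyclic_subgroup (hmc : Cfsg.IsMetacyclic G) (R : Subgroup G) :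
    Cfsg.IsMetacyclic R := by
  obtain ⟨A, hAn, hAc, hQc⟩ := hmc
  refine ⟨A.subgroupOf R, inferInstance, ?_, ?_⟩
  · -- cyclic: injects into `A`
    let f : A.subgroupOf R →* A :=
      { toFun := fun x => ⟨(x : R), Subgroup.mem_subgroupOf.mp x.2⟩
        map_one' := rfl
        map_mul' := fun _ _ => rfl }
    have hf : Function.Injective f := by
      intro x y hxy
      have : ((x : R) : G) = ((y : R) : G) := congrArg (fun t : A => (t : G)) hxy
      exact Subtype.ext (Subtype.ext this)
    exact isCyclic_of_injective f hf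
  · let f : R ⧸ A.subgroupOf R →* G ⧸ A :=
      QuotientGroup.map (A.subgroupOf R) A R.subtype (fun x hx => hx)
    have hf : Function.Injective f := by
      rw [injective_iff_map_eq_one]
      intro q hq
      obtain ⟨x, rfl⟩ := QuotientGroup.mk_surjective q
      have h1 : f (x : R ⧸ A.subgroupOf R) = ((x : G) : G ⧸ A) := rfl
      rw [h1, QuotientGroup.eq_one_iff] at hq
      rw [QuotientGroup.eq_one_iff]
      exact Subgroup.mem_subgroupOf.mpr hq
    exact isCyclic_of_injective f hf

theorem isMulCommutative_of_mulEquiv {H K : Type*} [Mul H] [Mul K] (e : H ≃* K)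
    (h : IsMulCommutative H) : IsMulCommutative K := by
  refine ⟨⟨fun a b => ?_⟩⟩
  have := mul_comm' (e.symm a) (e.symm b)
  have h2 := congrArg e this
  simpa using h2

variable {p : ℕ} [hpF : Fact p.Prime] [Finite G]

/-- a finite `p`-group has a subgroup of each order dividing its order -/
theorem exists_subgroup_card_eq_of_dvd {H : Type*} [Group H] [Finite H] (hH : IsPGroup p H)
    {m : ℕ} (hm : m ∣ Nat.card H) : ∃ K : Subgroup H, Nat.card K = m := by
  have hp := hpF.out
  obtain ⟨r, hr⟩ := hH.exists_card_eq
  rw [hr] at hm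
  obtain ⟨t, -, rfl⟩ := (Nat.dvd_prime_pow hp).mp hm
  rw [← hr] at hm
  exact Sylow.exists_subgroup_card_pow_prime p hm

/-- **all non-abelian subgroups have the same abelianization order as `G`.** -/
theorem MC.index_commutator_subgroup (h : MC p G) (R : Subgroup G)
    (hR : ¬ IsMulCommutative R) :
    (commutator R).index = (commutator G).index := by
  have hp := hpF.out
  have hRp : IsPGroup p R := h.pgroup.to_subgroup R
  have hRmc : Cfsg.IsMetacyclic R := isMetacyclic_subgroup h.mc R
  have S_G := fun L : Subgroup G => (Cfsg.Agent.S3880.result h.odd h.pgroup h.mc L).1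
  have S_R := fun K : Subgroup R => (Cfsg.Agent.S3880.result h.odd hRp hRmc K).1
  -- transport
  have htr : ∀ K : Subgroup R, IsMulCommutative K ↔ IsMulCommutative (K.map R.subtype) := by
    intro K
    have e := K.equivMapOfInjective R.subtype (Subgroup.subtype_injective R)
    exact ⟨fun hK => isMulCommutative_of_mulEquiv e hK,
      fun hK => isMulCommutative_of_mulEquiv e.symm hK⟩
  have hcardtr : ∀ K : Subgroup R, Nat.card (K.map R.subtype) = Nat.card K := fun K =>
    Subgroup.card_map_of_injective (Subgroup.subtype_injective R)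
  apply le_antisymm
  · -- ρ ≤ cidx
    have hdvd : (commutator R).index ∣ Nat.card R := Subgroup.index_dvd_card _
    obtain ⟨K, hK⟩ := exists_subgroup_card_eq_of_dvd hRp hdvd
    have hKab : IsMulCommutative K := (S_R K).mpr hK.le
    have := (S_G (K.map R.subtype)).mp ((htr K).mp hKab)
    rwa [hcardtr, hK] at this
  · -- cidx ≤ ρ
    have hlt : (commutator G).index < Nat.card R := by
      by_contra hcon
      push Not at hcon
      exact hR ((S_G R).mpr hcon)
    obtain ⟨r, hr⟩ := hRp.exists_card_eq
    have hcdvd : (commutator G).index ∣ Nat.card G := Subgroup.index_dvd_card _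
    obtain ⟨g, hg⟩ := h.pgroup.exists_card_eq
    rw [hg] at hcdvd
    obtain ⟨t, -, ht⟩ := (Nat.dvd_prime_pow hp).mp hcdvd
    have htr' : t ≤ r := by
      rw [ht, hr] at hlt
      exact ((Nat.pow_lt_pow_iff_right hp.one_lt).mp hlt).le
    have hdvd : (commutator G).index ∣ Nat.card R := by
      rw [ht, hr]; exact pow_dvd_pow p htr'
    obtain ⟨K, hK⟩ := exists_subgroup_card_eq_of_dvd hRp hdvd
    have hKab : IsMulCommutative (K.map R.subtype) := by
      apply (S_G _).mpr
      rw [hcardtr, hK]
    have := (S_R K).mp ((htr K).mpr hKab)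
    rwa [hK] at this

end

end Cfsg.Agent.Lib.Helper65_Metacyclic
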