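/-
Helper library (helper65): metacyclic `p`-groups for odd `p`, part 11: the case where `agemo 1`
is cyclic, in the factorisation of such a group as a product of two disjoint cyclic subgroups.
-/
import Cfsg.Agent.Lib.Helper65_Metacyclic
import Cfsg.Agent.Lib.Helper65_Metacyclic2
import Cfsg.Agent.Lib.Helper65_Metacyclic7
import Cfsg.Agent.Lib.Helper65_Metacyclic9
import Cfsg.Agent.Lib.Helper65_Metacyclic10

set_option autoImplicit false

namespace Cfsg.Agent.Lib.Helper65_Metacyclic

open scoped commutatorElement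

section

variable {G : Type*} [Group G] {p : ℕ} [hpF : Fact p.Prime] [Finite G]

/-- in a `p`-group, `orderOf x = p * orderOf (x^p)` for `x ≠ 1`. -/
theorem orderOf_eq_mul_orderOf_pow (hG : IsPGroup p G) {x : G} (hx : x ≠ 1) :
    orderOf x = p * orderOf (x ^ p) := by
  have hp := hpF.out
  obtain ⟨k, hk⟩ := hG x
  obtain ⟨m, -, hm⟩ := (Nat.dvd_prime_pow hp).mp (orderOf_dvd_of_pow_eq_one hk)
  have hm0 : m ≠ 0 := by
    rintro rfl
    rw [pow_zero, orderOf_eq_one_iff] at hm
    exact hx hm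
  obtain ⟨m', rfl⟩ := Nat.exists_eq_succ_of_ne_zero hm0
  rw [orderOf_pow, hm]
  have : Nat.gcd (p ^ (m' + 1)) p = p := Nat.gcd_eq_right (dvd_pow_self p (Nat.succ_ne_zero m'))
  rw [this, pow_succ, Nat.mul_div_cancel _ hp.pos, mul_comm]

/-- the case where `agemo 1` is cyclic. -/
theorem MC.exists_of_isCyclic_agemo (h : MC p G) (hnc : ¬ IsCyclic G)
    (hc : IsCyclic (agemo G p 1)) :
    ∃ X Y : Subgroup G, IsCyclic X ∧ IsCyclic Y ∧ X ⊓ Y = ⊥ ∧
      Nat.card X * Nat.card Y = Nat.card G := by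
  have hp := hpF.out
  obtain ⟨A, a, b, hAn, hAeq, hpow, hgen⟩ := exists_powAct h.pgroup h.mc
  set H := agemo G p 1 with hH
  -- a generator of `H`
  obtain ⟨⟨z₁, hz₁H⟩, hz₁⟩ := hc.exists_generator
  have hHz : H = Subgroup.zpowers z₁ := by
    apply le_antisymm
    · intro x hx
      obtain ⟨k, hk⟩ := Subgroup.mem_zpowers_iff.mp (hz₁ ⟨x, hx⟩)
      rw [Subgroup.mem_zpowers_iff]
      exact ⟨k, by simpa using congrArg Subtype.val hk⟩
    · rw [Subgroup.zpowers_le]; exact hz₁H
  -- an element `x ≠ 1` with `<x^p> = H`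
  obtain ⟨x, hx1, hxH⟩ : ∃ x : G, x ≠ 1 ∧ Subgroup.zpowers (x ^ p) = H := by
    obtain ⟨x₀, hx₀⟩ := h.exists_pow_eq_of_mem_agemo_one hz₁H
    by_cases hz1 : z₁ = 1
    · have hnt : Nontrivial G := by
        by_contra hcon
        rw [not_nontrivial_iff_subsingleton] at hcon
        exact hnc inferInstance
      obtain ⟨x, hx⟩ := exists_ne (1 : G)
      refine ⟨x, hx, ?_⟩
      have hxp : x ^ p ∈ H := by
        have := pow_mem_agemo (p := p) 1 x
        rwa [pow_one] at this
      rw [hHz, hz1, Subgroup.zpowers_one_eq_bot, Subgroup.mem_bot] at hxp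
      rw [hxp, hHz, hz1]
    · refine ⟨x₀, ?_, by rw [hx₀, hHz]⟩
      rintro rfl
      rw [one_pow] at hx₀
      exact hz1 hx₀.symm
  set X := Subgroup.zpowers x with hX
  have hcardX : Nat.card X = p * Nat.card H := by
    rw [hX, Nat.card_zpowers, orderOf_eq_mul_orderOf_pow h.pgroup hx1, ← hxH, Nat.card_zpowers]
  have hidx := h.index_agemo_one hnc
  have hcardG : Nat.card G = p * Nat.card X := by
    rw [hcardX, ← Subgroup.card_mul_index H, hidx]; ring
  -- an element outside `X`
  have hXtop : X ≠ ⊤ := by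
    intro htop
    exact hnc (isCyclic_iff_exists_zpowers_eq_top.mpr ⟨x, htop⟩)
  obtain ⟨g, hg⟩ : ∃ g : G, g ∉ X := by
    by_contra hcon
    push Not at hcon
    exact hXtop (eq_top_iff.mpr fun y _ => hcon y)
  have hgp : g ^ p ∈ Subgroup.zpowers (x ^ p) := by
    rw [hxH]
    have := pow_mem_agemo (p := p) 1 g
    rwa [pow_one] at this
  obtain ⟨j, hj⟩ := exists_pow_eq_of_mem_zpowers hgp
  have hj' : (x ^ j) ^ p = g ^ p := by rw [← hj, ← pow_mul, ← pow_mul, mul_comm]
  have hw := hpow.pow_eq_pow_imp hp h.odd h.pgroup (x ^ j) g hj'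
  set w := (x ^ j)⁻¹ * g with hwdef
  have hwX : w ∉ X := by
    intro hcon
    apply hg
    have : g = x ^ j * w := by rw [hwdef]; group
    rw [this]
    exact X.mul_mem (Subgroup.pow_mem _ (Subgroup.mem_zpowers x) j) hcon
  have hw1 : w ≠ 1 := by
    rintro h1
    exact hwX (h1 ▸ X.one_mem)
  have hordw : orderOf w = p := orderOf_eq_prime hw hw1
  refine ⟨X, Subgroup.zpowers w, by rw [hX]; infer_instance, inferInstance, ?_, ?_⟩
  · rw [eq_bot_iff]
    intro z hz
    rw [Subgroup.mem_inf] at hz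
    rw [Subgroup.mem_bot]
    by_contra hz1
    have hzle : Subgroup.zpowers z ≤ Subgroup.zpowers w := by
      rw [Subgroup.zpowers_le]; exact hz.2
    have hordz : orderOf z = p := by
      have hdvd : orderOf z ∣ p := by
        rw [← hordw, ← Nat.card_zpowers, ← Nat.card_zpowers]
        exact Subgroup.card_dvd_of_le hzle
      rcases (Nat.dvd_prime hp).mp hdvd with h1 | h1
      · rw [orderOf_eq_one_iff] at h1; exact absurd h1 hz1
      · exact h1
    have heq : Subgroup.zpowers z = Subgroup.zpowers w := by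
      apply Subgroup.eq_of_le_of_card_ge hzle
      rw [Nat.card_zpowers, Nat.card_zpowers, hordz, hordw]
    apply hwX
    have : w ∈ Subgroup.zpowers z := by rw [heq]; exact Subgroup.mem_zpowers w
    exact (Subgroup.zpowers_le.mpr hz.1) this
  · rw [Nat.card_zpowers w, hordw, hcardG, mul_comm]

end

end Cfsg.Agent.Lib.Helper65_Metacyclic
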