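/-
Helper library (helper65): metacyclic `p`-groups for odd `p`, part 12: such a group is a product
of two cyclic subgroups with trivial intersection (induction via `agemo 1`).
-/
import Cfsg.Agent.Lib.Helper65_Metacyclic
import Cfsg.Agent.Lib.Helper65_Metacyclic2
import Cfsg.Agent.Lib.Helper65_Metacyclic7
import Cfsg.Agent.Lib.Helper65_Metacyclic9
import Cfsg.Agent.Lib.Helper65_Metacyclic10
import Cfsg.Agent.Lib.Helper65_Metacyclic11

set_option autoImplicit false

namespace Cfsg.Agent.Lib.Helper65_Metacyclic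

open scoped commutatorElement

universe u

/-- disjointness lifts from `<x^p>, <y^p>` to `<x>, <y>` when the `p`-th powers are nontrivial. -/
theorem zpowers_inf_eq_bot_of_pow {G : Type*} [Group G] [Finite G] {p : ℕ} (hp : p.Prime)
    (hG : IsPGroup p G) {x y : G} (hx : x ^ p ≠ 1) (hy : y ^ p ≠ 1)
    (hd : Subgroup.zpowers (x ^ p) ⊓ Subgroup.zpowers (y ^ p) = ⊥) :
    Subgroup.zpowers x ⊓ Subgroup.zpowers y = ⊥ := by
  rw [eq_bot_iff]
  intro z hz
  rw [Subgroup.mem_inf] at hz
  rw [Subgroup.mem_bot]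
  obtain ⟨i, hi⟩ := exists_pow_eq_of_mem_zpowers hz.1
  obtain ⟨j, hj⟩ := exists_pow_eq_of_mem_zpowers hz.2
  have hzp : z ^ p = 1 := by
    have h1 : z ^ p ∈ Subgroup.zpowers (x ^ p) := by
      rw [← hi, ← pow_mul, mul_comm, pow_mul]
      exact Subgroup.pow_mem _ (Subgroup.mem_zpowers _) i
    have h2 : z ^ p ∈ Subgroup.zpowers (y ^ p) := by
      rw [← hj, ← pow_mul, mul_comm, pow_mul]
      exact Subgroup.pow_mem _ (Subgroup.mem_zpowers _) j
    have : z ^ p ∈ Subgroup.zpowers (x ^ p) ⊓ Subgroup.zpowers (y ^ p) := ⟨h1, h2⟩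
    rw [hd, Subgroup.mem_bot] at this
    exact this
  have hpi : p ∣ i := by
    by_contra hcon
    apply hx
    apply eq_one_of_pow_eq_one_of_not_dvd hp hG hcon
    rw [← pow_mul, mul_comm, pow_mul, hi, hzp]
  have hpj : p ∣ j := by
    by_contra hcon
    apply hy
    apply eq_one_of_pow_eq_one_of_not_dvd hp hG hcon
    rw [← pow_mul, mul_comm, pow_mul, hj, hzp]
  obtain ⟨i', rfl⟩ := hpi
  obtain ⟨j', rfl⟩ := hpj
  have h1 : z ∈ Subgroup.zpowers (x ^ p) := by
    rw [← hi, pow_mul]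
    exact Subgroup.pow_mem _ (Subgroup.mem_zpowers _) i'
  have h2 : z ∈ Subgroup.zpowers (y ^ p) := by
    rw [← hj, pow_mul]
    exact Subgroup.pow_mem _ (Subgroup.mem_zpowers _) j'
  have : z ∈ Subgroup.zpowers (x ^ p) ⊓ Subgroup.zpowers (y ^ p) := ⟨h1, h2⟩
  rw [hd, Subgroup.mem_bot] at this
  exact this

/-- main induction -/
theorem MC.exists_elements {p : ℕ} [hpF : Fact p.Prime] :
    ∀ (n : ℕ) (G : Type u) [Group G] [Finite G], Nat.card G = n → MC p G →
      ∃ x y : G, Subgroup.zpowers x ⊓ Subgroup.zpowers y = ⊥ ∧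
        orderOf x * orderOf y = Nat.card G := by
  have hp := hpF.out
  intro n
  induction n using Nat.strong_induction_on with
  | _ n ih =>
  intro G _ _ hn h
  by_cases hcyc : IsCyclic G
  · obtain ⟨g, hg⟩ := hcyc.exists_generator
    refine ⟨g, 1, by simp, ?_⟩
    rw [orderOf_one, mul_one]
    exact orderOf_eq_card_of_forall_mem_zpowers hg
  · set H := agemo G p 1 with hH
    have hidx := h.index_agemo_one hcyc
    have hcardH : Nat.card H * p ^ 2 = Nat.card G := by
      rw [← hidx]; exact Subgroup.card_mul_index H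
    have hlt : Nat.card H < n := by
      rw [← hn, ← hcardH]
      have h1 : 0 < Nat.card H := Nat.card_pos
      have h2 : 1 < p ^ 2 := Nat.one_lt_pow (by norm_num) hp.one_lt
      nlinarith
    have hMCH : MC p H := ⟨h.odd, h.pgroup.to_subgroup H, isMetacyclic_subgroup h.mc H⟩
    by_cases hHc : IsCyclic H
    · obtain ⟨X, Y, hXc, hYc, hXY, hcard⟩ := h.exists_of_isCyclic_agemo hcyc hHc
      obtain ⟨x, hx⟩ := (Subgroup.isCyclic_iff_exists_zpowers_eq_top X).mp hXc
      obtain ⟨y, hy⟩ := (Subgroup.isCyclic_iff_exists_zpowers_eq_top Y).mp hYc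
      refine ⟨x, y, by rw [hx, hy]; exact hXY, ?_⟩
      rw [← Nat.card_zpowers, ← Nat.card_zpowers, hx, hy]
      exact hcard
    · obtain ⟨x₁, y₁, hd₁, hcard₁⟩ := ih (Nat.card H) hlt H rfl hMCH
      have hx₁ : (x₁ : G) ≠ 1 := by
        intro hx1
        have hx1' : x₁ = 1 := Subtype.ext hx1
        rw [hx1', orderOf_one, one_mul] at hcard₁
        exact hHc (isCyclic_of_orderOf_eq_card y₁ hcard₁)
      have hy₁ : (y₁ : G) ≠ 1 := by
        intro hy1
        have hy1' : y₁ = 1 := Subtype.ext hy1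
        rw [hy1', orderOf_one, mul_one] at hcard₁
        exact hHc (isCyclic_of_orderOf_eq_card x₁ hcard₁)
      obtain ⟨x, hx⟩ := h.exists_pow_eq_of_mem_agemo_one x₁.2
      obtain ⟨y, hy⟩ := h.exists_pow_eq_of_mem_agemo_one y₁.2
      have hdG : Subgroup.zpowers (x ^ p) ⊓ Subgroup.zpowers (y ^ p) = ⊥ := by
        rw [eq_bot_iff]
        intro z hz
        rw [Subgroup.mem_inf, hx, hy] at hz
        rw [Subgroup.mem_bot]
        obtain ⟨i, hi⟩ := exists_pow_eq_of_mem_zpowers hz.1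
        obtain ⟨j, hj⟩ := exists_pow_eq_of_mem_zpowers hz.2
        have hij : x₁ ^ i = y₁ ^ j := by
          apply Subtype.ext
          rw [Subgroup.coe_pow, Subgroup.coe_pow, hi, hj]
        have hmem : x₁ ^ i ∈ Subgroup.zpowers x₁ ⊓ Subgroup.zpowers y₁ :=
          ⟨Subgroup.pow_mem _ (Subgroup.mem_zpowers _) i,
            hij ▸ Subgroup.pow_mem _ (Subgroup.mem_zpowers _) j⟩
        rw [hd₁, Subgroup.mem_bot] at hmem
        rw [← hi, ← Subgroup.coe_pow, hmem, Subgroup.coe_one]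
      have hx1 : x ≠ 1 := by
        rintro rfl
        rw [one_pow] at hx
        exact hx₁ hx.symm
      have hy1 : y ≠ 1 := by
        rintro rfl
        rw [one_pow] at hy
        exact hy₁ hy.symm
      refine ⟨x, y, zpowers_inf_eq_bot_of_pow hp h.pgroup (hx ▸ hx₁) (hy ▸ hy₁) hdG, ?_⟩
      rw [orderOf_eq_mul_orderOf_pow h.pgroup hx1, orderOf_eq_mul_orderOf_pow h.pgroup hy1, hx, hy,
        Subgroup.orderOf_coe, Subgroup.orderOf_coe, ← hcardH, ← hcard₁]
      ring

/-- **Factorisation**: a metacyclic `p`-group, `p` odd, is a product of two disjoint cyclic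
subgroups. -/
theorem MC.exists_cyclic_factorization {G : Type*} [Group G] [Finite G] {p : ℕ}
    [hpF : Fact p.Prime] (h : MC p G) :
    ∃ A B : Subgroup G, IsCyclic A ∧ IsCyclic B ∧ A ⊓ B = ⊥ ∧
      Nat.card A * Nat.card B = Nat.card G := by
  obtain ⟨x, y, hd, hcard⟩ := MC.exists_elements (p := p) (Nat.card G) G rfl h
  refine ⟨Subgroup.zpowers x, Subgroup.zpowers y, inferInstance, inferInstance, hd, ?_⟩
  rw [Nat.card_zpowers, Nat.card_zpowers]
  exact hcard

end Cfsg.Agent.Lib.Helper65_Metacyclic
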