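import Mathlib
import Cfsg.Agent.Lib.Helper94_OD3Defs
import Cfsg.Agent.Lib.Helper29_OD_Main

set_option autoImplicit false
set_option linter.unusedSectionVars false
set_option linter.unusedVariables false

/-!
OD3 market (architect helper94), package OD3-NB (helper65): an isometry `g` outside the
decomposition stabiliser maps some nonsingular block vector to a vector lying in no block.

Proof.  Some `A = D i` has `g A` in no block.  Assume every nonsingular `x ∈ A` has `g x` in a
block.  There is `y0 ∈ A` with `g y0` in no block (`A` is not the union of the independent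
subspaces `A ∩ g⁻¹ D l`); `y0` is singular.  There is a nonsingular `z ∈ A ∩ y0^⊥`
(`exists_nonsing_perp`).  Then `y0 + z ∈ g⁻¹ D m`, `z ∈ g⁻¹ D m'`, `m ≠ m'`, and comparing block
components: every nonsingular vector of `A ∩ y0^⊥` is `z` or `-(y0 + z)`.  If `|F| ≥ 3` take `μ z`,
`μ ≠ 0, 1`.  If `|F| = 2`: `r ∈ A ∩ y0^⊥` outside `⟨y0, z⟩` is singular; `k = 4`: `⟨y0, r⟩` is a
totally singular plane, excluded by `hex`; `k ≥ 5`: `r, r', r + r'` outside `⟨y0, z⟩` give
`B r z = B r' z = B (r + r') z = - Q z`, so `Q z = 0`.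
-/

namespace Cfsg.Agent.Lib.Helper65_OD3_NB

open Module Cfsg.Agent.Lib.Helper94_Symp Cfsg.Agent.Lib.Helper94_OrthSmall
  Cfsg.Agent.Lib.Helper94_OrthSiegel Cfsg.Agent.Lib.Helper94_OrthNondeg
  Cfsg.Agent.Lib.Helper29_ODDefs Cfsg.Agent.Lib.Helper94_Q2Defs Cfsg.Agent.Lib.Helper94_OD3Defs

variable {F V : Type*} [Field F] [AddCommGroup V] [Module F V] [Finite F] [FiniteDimensional F V]
  {Q : V → F} {B : LinearMap.BilinForm F V} {t k : ℕ} {D : Fin t → Submodule F V}
  {S M L : Subgroup (V ≃ₗ[F] V)}

/-- a subspace of larger dimension is not contained in one of smaller dimension -/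
lemma exists_notMem_of_finrank_lt (X W : Submodule F V) (h : finrank F W < finrank F X) :
    ∃ r ∈ X, r ∉ W := by
  by_contra hno
  have hle : X ≤ W := by
    intro r hr
    by_contra hrW
    exact hno ⟨r, hr, hrW⟩
  have := Submodule.finrank_mono hle
  omega

lemma finrank_span_pair_le (a b : V) : finrank F (Submodule.span F ({a, b} : Set V)) ≤ 2 := by
  classical
  have h := finrank_span_finset_le_card (R := F) ({a, b} : Finset V)
  have h2 : ({a, b} : Finset V).card ≤ 2 := Finset.card_le_two
  have h3 : ((({a, b} : Finset V)) : Set V) = {a, b} := by simp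
  rw [h3] at h
  unfold Set.finrank at h
  omega

lemma finrank_span_triple_le (a b c : V) :
    finrank F (Submodule.span F ({a, b, c} : Set V)) ≤ 3 := by
  classical
  have h := finrank_span_finset_le_card (R := F) ({a, b, c} : Finset V)
  have h2 : ({a, b, c} : Finset V).card ≤ 3 := Finset.card_le_three
  have h3 : ((({a, b, c} : Finset V)) : Set V) = {a, b, c} := by simp
  rw [h3] at h
  unfold Set.finrank at h
  omega

/-- a nonsingular vector orthogonal to a given singular vector, in a nondegenerate subspace of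
dimension at least three -/
lemma exists_nonsing_perp (hQs : ∀ (c : F) (v : V), Q (c • v) = c * c * Q v)
    (hQp : ∀ u v : V, Q (u + v) = Q u + Q v + B u v) (A : Submodule F V)
    (hA : ∀ a ∈ A, a ≠ 0 → ∃ x ∈ A, B x a ≠ 0) (h3 : 3 ≤ finrank F A) {y0 : V} (hy0A : y0 ∈ A)
    (hy00 : y0 ≠ 0) (hQy0 : Q y0 = 0) : ∃ z ∈ A, B z y0 = 0 ∧ Q z ≠ 0 := by
  have hsymm := B_symm Q B hQp
  have hyy : B y0 y0 = 0 := by rw [B_self Q B hQs hQp, hQy0, mul_zero]
  obtain ⟨w, hwA, hwy⟩ := hA y0 hy0A hy00
  set β := B w y0 with hβ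
  set w1 : V := w - (Q w / β) • y0 with hw1
  have hw1A : w1 ∈ A := A.sub_mem hwA (A.smul_mem _ hy0A)
  have hQw1 : Q w1 = 0 := by
    have h1 : w1 = w + (-(Q w / β)) • y0 := by rw [hw1]; module
    rw [h1, Q_add_smul Q B hQs hQp, hQy0, ← hβ]
    field_simp
    ring
  have hw1y : B w1 y0 = β := by
    rw [hw1, map_sub, map_smul, LinearMap.sub_apply, LinearMap.smul_apply, hyy, smul_zero, sub_zero]
  have hyw1 : B y0 w1 = β := by rw [hsymm, hw1y]
  have hw1w1 : B w1 w1 = 0 := by rw [B_self Q B hQs hQp, hQw1, mul_zero]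
  -- the projection to the orthogonal complement of the hyperbolic plane
  have hp : ∀ v ∈ A, ∃ v' ∈ A, B v' y0 = 0 ∧ B v' w1 = 0 ∧
      (∀ u, B u y0 = 0 → B u w1 = 0 → B v' u = B v u) ∧
      (v' = 0 → v ∈ Submodule.span F ({y0, w1} : Set V)) := by
    intro v hv
    refine ⟨v - (B v w1 / β) • y0 - (B v y0 / β) • w1,
      A.sub_mem (A.sub_mem hv (A.smul_mem _ hy0A)) (A.smul_mem _ hw1A), ?_, ?_, ?_, ?_⟩
    · simp only [map_sub, map_smul, LinearMap.sub_apply, LinearMap.smul_apply, smul_eq_mul, hyy,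
        hw1y]
      field_simp
      ring
    · simp only [map_sub, map_smul, LinearMap.sub_apply, LinearMap.smul_apply, smul_eq_mul, hyw1,
        hw1w1]
      field_simp
      ring
    · intro u hu1 hu2
      simp only [map_sub, map_smul, LinearMap.sub_apply, LinearMap.smul_apply, smul_eq_mul,
        hsymm y0 u, hsymm w1 u, hu1, hu2, mul_zero, sub_zero]
    · intro h0
      rw [Submodule.mem_span_pair]
      refine ⟨B v w1 / β, B v y0 / β, ?_⟩
      have : v = (v - (B v w1 / β) • y0 - (B v y0 / β) • w1) + (B v w1 / β) • y0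
          + (B v y0 / β) • w1 := by abel
      rw [h0, zero_add] at this
      exact this.symm
  obtain ⟨x, hxA, hxP⟩ := exists_notMem_of_finrank_lt A (Submodule.span F ({y0, w1} : Set V))
    (lt_of_le_of_lt (finrank_span_pair_le y0 w1) (by omega))
  obtain ⟨z0, hz0A, hz0y, hz0w, -, hz00⟩ := hp x hxA
  have hz0ne : z0 ≠ 0 := fun h => hxP (hz00 h)
  obtain ⟨z1, hz1A, hz1z0⟩ := hA z0 hz0A hz0ne
  obtain ⟨z1', hz1'A, hz1'y, hz1'w, hz1'B, -⟩ := hp z1 hz1A
  have hB : B z1' z0 ≠ 0 := by rw [hz1'B z0 hz0y hz0w]; exact hz1z0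
  by_cases h0 : Q z0 = 0
  · by_cases h1 : Q z1' = 0
    · refine ⟨z1' + z0, A.add_mem hz1'A hz0A, ?_, ?_⟩
      · rw [map_add, LinearMap.add_apply, hz1'y, hz0y, add_zero]
      · rw [hQp, h0, h1, zero_add, zero_add]
        exact hB
    · exact ⟨z1', hz1'A, hz1'y, h1⟩
  · exact ⟨z0, hz0A, hz0y, h0⟩

/-- **OD3-NB** -/
theorem NB (hQs : ∀ (c : F) (v : V), Q (c • v) = c * c * Q v)
    (hQp : ∀ u v : V, Q (u + v) = Q u + Q v + B u v) (hN : B.Nondegenerate)
    (hD : ODec Q B k D) (hk : 4 ≤ k) (hS : IsDStab D S) (hex : NotO4p2 Q B k D)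
    {g : V ≃ₗ[F] V} (hg : g ∈ oG Q) (hgS : g ∉ S) :
    ∃ x, IsBlN Q D x ∧ ∀ l, g x ∉ D l := by
  classical
  by_contra hcon
  have H : ∀ i, ∀ x ∈ D i, Q x ≠ 0 → ∃ l, g x ∈ D l := by
    intro i x hx hQx
    by_contra hno
    exact hcon ⟨x, ⟨hQx, i, hx⟩, fun l hl => hno ⟨l, hl⟩⟩
  have hsymm := B_symm Q B hQp
  have hgB : ∀ u v, B (g u) (g v) = B u v := oG_B Q B hQp hg
  have hgQ : ∀ v, Q (g v) = Q v := hg
  -- a vector of a block orthogonal to the block vanishes
  have hBL : ∀ n, ∀ w ∈ D n, (∀ d ∈ D n, B w d = 0) → w = 0 := by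
    intro n w hw h
    by_contra hw0
    obtain ⟨x, hx, hxw⟩ := hD.nd n w hw hw0
    exact hxw (by rw [hsymm]; exact h x hx)
  have horth : ∀ n n', n ≠ n' → ∀ u ∈ D n, ∀ d ∈ D n', B u d = 0 := hD.orth
  -- some block is mapped into no block
  obtain ⟨i, hi⟩ : ∃ i, ∀ j, ¬ (D i).map (g : V →ₗ[F] V) ≤ D j := by
    by_contra hno
    apply hgS
    apply Cfsg.Agent.Lib.Helper29_OD_Main.mem_dstab_of_le hD (by omega) hS g
    intro i
    by_contra hi
    exact hno ⟨i, fun j hj => hi ⟨j, hj⟩⟩
  have hHi := H i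
  have hfr : finrank F (D i) = k := hD.fr i
  -- a vector `y0` of `D i` whose image lies in no block
  obtain ⟨y0, hy0A, hy0⟩ : ∃ y0 ∈ D i, ∀ l, g y0 ∉ D l := by
    by_contra hno
    have hall : ∀ x ∈ D i, ∃ l, g x ∈ D l := by
      intro x hx
      by_contra h
      exact hno ⟨x, hx, fun l hl => h ⟨l, hl⟩⟩
    have hpos : 0 < finrank F (D i) := by rw [hfr]; omega
    obtain ⟨a, ha, ha0⟩ := Submodule.exists_mem_ne_zero_of_ne_bot
      (fun hbot => by rw [hbot, finrank_bot] at hpos; omega : D i ≠ ⊥)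
    obtain ⟨l, hl⟩ := hall a ha
    obtain ⟨y, hy, hyl⟩ := SetLike.not_le_iff_exists.mp (hi l)
    obtain ⟨b, hb, rfl⟩ := Submodule.mem_map.mp hy
    simp only [LinearEquiv.coe_coe] at hyl
    obtain ⟨l', hl'⟩ := hall b hb
    have hll' : l ≠ l' := fun h => hyl (h ▸ hl')
    obtain ⟨n, hn⟩ := hall (a + b) (Submodule.add_mem _ ha hb)
    rw [map_add] at hn
    have hga0 : g a ≠ 0 := fun h => ha0 (by simpa using h)
    have hgb0 : g b ≠ 0 := fun h => hyl (by rw [h]; exact Submodule.zero_mem _)
    by_cases hnl : n = l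
    · -- then `n ≠ l'` and `g b = 0`
      apply hgb0
      apply hBL l' (g b) hl'
      intro d hd
      have h1 : B (g a + g b) d = 0 := horth n l' (by rw [hnl]; exact hll') _ hn d hd
      have h2 : B (g a) d = 0 := horth l l' hll' _ hl d hd
      rw [map_add, LinearMap.add_apply, h2, zero_add] at h1
      exact h1
    · apply hga0
      apply hBL l (g a) hl
      intro d hd
      have h1 : B (g a + g b) d = 0 := horth n l hnl _ hn d hd
      have h2 : B (g b) d = 0 := horth l' l (Ne.symm hll') _ hl' d hd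
      rw [map_add, LinearMap.add_apply, h2, add_zero] at h1
      exact h1
  have hQy0 : Q y0 = 0 := by
    by_contra h
    obtain ⟨l, hl⟩ := hHi y0 hy0A h
    exact hy0 l hl
  have hy00 : y0 ≠ 0 := by
    rintro rfl
    apply hy0 i
    rw [map_zero]
    exact Submodule.zero_mem _
  -- a nonsingular vector `z` of `D i` orthogonal to `y0`
  obtain ⟨z, hzA, hzy, hQz⟩ := exists_nonsing_perp hQs hQp (D i) (hD.nd i) (by rw [hfr]; omega)
    hy0A hy00 hQy0
  have hyz : B y0 z = 0 := by rw [hsymm, hzy]
  have hQc1 : Q (y0 + z) ≠ 0 := by rw [hQp, hQy0, zero_add, hyz, add_zero]; exact hQz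
  obtain ⟨m, hm⟩ := hHi (y0 + z) (Submodule.add_mem _ hy0A hzA) hQc1
  obtain ⟨m', hm'⟩ := hHi z hzA hQz
  have hmm' : m ≠ m' := by
    intro h
    apply hy0 m
    have : g y0 = g (y0 + z) - g z := by rw [map_add]; abel
    rw [this]
    exact Submodule.sub_mem _ hm (h ▸ hm')
  -- every nonsingular vector of `D i ∩ y0^⊥` is `z` or `-(y0 + z)`
  have hkey : ∀ z2 ∈ D i, B z2 y0 = 0 → Q z2 ≠ 0 → z2 = z ∨ z2 = -(y0 + z) := by
    intro z2 hz2A hz2y hQz2
    have hyz2 : B y0 z2 = 0 := by rw [hsymm, hz2y]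
    have hQc : Q (y0 + z2) ≠ 0 := by rw [hQp, hQy0, zero_add, hyz2, add_zero]; exact hQz2
    obtain ⟨n, hn⟩ := hHi (y0 + z2) (Submodule.add_mem _ hy0A hz2A) hQc
    obtain ⟨n', hn'⟩ := hHi z2 hz2A hQz2
    have hnn' : n ≠ n' := by
      intro h
      apply hy0 n
      have : g y0 = g (y0 + z2) - g z2 := by rw [map_add]; abel
      rw [this]
      exact Submodule.sub_mem _ hn (h ▸ hn')
    -- `g z2 = g z - g (y0 + z) + g (y0 + z2)`
    have hrel : g z2 = g z - g (y0 + z) + g (y0 + z2) := by
      simp only [map_add]; abel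
    have hcomp : ∀ d ∈ D n', B (g z2) d = B (g z) d - B (g (y0 + z)) d := by
      intro d hd
      have h1 : B (g (y0 + z2)) d = 0 := horth n n' hnn' _ hn d hd
      conv_lhs => rw [hrel]
      rw [map_add, map_sub, LinearMap.add_apply, LinearMap.sub_apply, h1, add_zero]
    by_cases h1 : n' = m'
    · left
      have hnm : n' ≠ m := fun h => hmm' (h.symm.trans h1)
      have h2 : g z2 - g z = 0 := by
        apply hBL n' _ (Submodule.sub_mem _ hn' (h1 ▸ hm'))
        intro d hd
        have h3 : B (g (y0 + z)) d = 0 := horth m n' (Ne.symm hnm) _ hm d hd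
        rw [map_sub, LinearMap.sub_apply, hcomp d hd, h3]
        ring
      exact g.injective (sub_eq_zero.mp h2)
    · by_cases h2 : n' = m
      · right
        have h3 : g z2 + g (y0 + z) = 0 := by
          apply hBL n' _ (Submodule.add_mem _ hn' (h2 ▸ hm))
          intro d hd
          have h4 : B (g z) d = 0 := horth m' n' (Ne.symm h1) _ hm' d hd
          rw [map_add, LinearMap.add_apply, hcomp d hd, h4]
          ring
        apply g.injective
        rw [map_neg]
        exact eq_neg_of_add_eq_zero_left h3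
      · exfalso
        have h3 : g z2 = 0 := by
          apply hBL n' _ hn'
          intro d hd
          have h4 : B (g z) d = 0 := horth m' n' (Ne.symm h1) _ hm' d hd
          have h5 : B (g (y0 + z)) d = 0 := horth m n' (Ne.symm h2) _ hm d hd
          rw [hcomp d hd, h4, h5, sub_zero]
        have : z2 = 0 := by simpa using h3
        rw [this, Q_zero Q hQs] at hQz2
        exact hQz2 rfl
  have hz0 : z ≠ 0 := by
    rintro rfl
    exact hQz (Q_zero Q hQs)
  by_cases hμ : ∃ μ : F, μ ≠ 0 ∧ μ ≠ 1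
  · -- at least three scalars
    obtain ⟨μ, hμ0, hμ1⟩ := hμ
    have h1 : Q (μ • z) ≠ 0 := by
      rw [hQs]
      exact mul_ne_zero (mul_ne_zero hμ0 hμ0) hQz
    rcases hkey (μ • z) (Submodule.smul_mem _ _ hzA)
      (by rw [map_smul, LinearMap.smul_apply, hzy, smul_zero]) h1 with h2 | h2
    · have h3 : (μ - 1) • z = 0 := by rw [sub_smul, one_smul, h2, sub_self]
      rcases smul_eq_zero.mp h3 with h4 | h4
      · exact hμ1 (sub_eq_zero.mp h4)
      · exact hz0 h4
    · apply hy0 m'
      have h3 : y0 = (-(μ + 1)) • z := by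
        have : y0 = -(μ • z) - z := by rw [h2]; abel
        rw [this]; module
      rw [h3, map_smul]
      exact Submodule.smul_mem _ _ hm'
  · -- the field with two elements
    have hF : ∀ μ : F, μ = 0 ∨ μ = 1 := by
      intro μ
      by_contra h
      exact hμ ⟨μ, fun h0 => h (Or.inl h0), fun h1 => h (Or.inr h1)⟩
    set Y : Submodule F V := D i ⊓ LinearMap.ker (B.flip y0) with hY
    have hYmem : ∀ v, v ∈ Y ↔ v ∈ D i ∧ B v y0 = 0 := by
      intro v
      rw [hY, Submodule.mem_inf, mem_ker_flip]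
    have hYfr : k ≤ finrank F Y + 1 := by
      have := finrank_le_inf_ker_add_one (D i) (B.flip y0)
      rw [hfr] at this
      exact this
    -- vectors of `Y` outside `⟨y0, z⟩` are singular
    have hsing : ∀ r ∈ Y, r ∉ Submodule.span F ({y0, z} : Set V) → Q r = 0 := by
      intro r hrY hr
      by_contra hQr
      apply hr
      rcases hkey r ((hYmem r).mp hrY).1 ((hYmem r).mp hrY).2 hQr with h | h
      · rw [h]
        exact Submodule.subset_span (by simp)
      · rw [h]
        exact Submodule.neg_mem _ (Submodule.add_mem _ (Submodule.subset_span (by simp))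
          (Submodule.subset_span (by simp)))
    obtain ⟨r, hrY, hr⟩ := exists_notMem_of_finrank_lt Y (Submodule.span F ({y0, z} : Set V))
      (lt_of_le_of_lt (finrank_span_pair_le y0 z) (by omega))
    have hQr : Q r = 0 := hsing r hrY hr
    by_cases hk4 : k = 4
    · -- `⟨y0, r⟩` is a totally singular plane
      have hcard : Nat.card F = 2 := by
        rw [Nat.card_eq_two_iff]
        refine ⟨0, 1, zero_ne_one, ?_⟩
        ext μ
        simp only [Set.mem_insert_iff, Set.mem_singleton_iff, Set.mem_univ, iff_true]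
        exact hF μ
      rcases hex hcard hk4 i y0 hy0A r ((hYmem r).mp hrY).1 hQy0 hQr
        (by rw [hsymm]; exact ((hYmem r).mp hrY).2) with h | h | h
      · exact hy00 h
      · apply hr
        rw [h]
        exact Submodule.zero_mem _
      · apply hr
        rw [← h]
        exact Submodule.subset_span (by simp)
    · -- `k ≥ 5`
      have hzY : z ∈ Y := (hYmem z).mpr ⟨hzA, hzy⟩
      have hBz : ∀ r ∈ Y, r ∉ Submodule.span F ({y0, z} : Set V) → B r z = -Q z := by
        intro r hrY hr
        have h1 : Q r = 0 := hsing r hrY hr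
        have h2 : r + z ∉ Submodule.span F ({y0, z} : Set V) := by
          intro h
          apply hr
          have : r = (r + z) - z := by abel
          rw [this]
          exact Submodule.sub_mem _ h (Submodule.subset_span (by simp))
        have h3 : Q (r + z) = 0 := hsing (r + z) (Submodule.add_mem _ hrY hzY) h2
        rw [hQp, h1, zero_add] at h3
        linear_combination h3
      obtain ⟨r', hr'Y, hr'⟩ := exists_notMem_of_finrank_lt Y
        (Submodule.span F ({y0, z, r} : Set V))
        (lt_of_le_of_lt (finrank_span_triple_le y0 z r) (by omega))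
      have hr'2 : r' ∉ Submodule.span F ({y0, z} : Set V) := by
        intro h
        apply hr'
        refine Submodule.span_mono ?_ h
        intro v hv
        simp only [Set.mem_insert_iff, Set.mem_singleton_iff] at hv ⊢
        rcases hv with h | h
        · exact Or.inl h
        · exact Or.inr (Or.inl h)
      have hrr' : r + r' ∉ Submodule.span F ({y0, z} : Set V) := by
        intro h
        apply hr'
        obtain ⟨a, b, hab⟩ := Submodule.mem_span_pair.mp h
        rw [Submodule.mem_span_triple]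
        refine ⟨a, b, -1, ?_⟩
        rw [hab]
        module
      have e1 := hBz r hrY hr
      have e2 := hBz r' hr'Y hr'2
      have e3 := hBz (r + r') (Submodule.add_mem _ hrY hr'Y) hrr'
      rw [map_add, LinearMap.add_apply, e1, e2] at e3
      apply hQz
      linear_combination -e3

end Cfsg.Agent.Lib.Helper65_OD3_NB
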