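import Mathlib
import Cfsg.Agent.Lib.Helper95_OPDefs
import Cfsg.Agent.Lib.Helper95_OPBasic
import Cfsg.Agent.Lib.Helper48_OODefs
import Cfsg.Agent.Lib.Helper87_OO2Defs
import Cfsg.Agent.Lib.Helper87_OO2Defs2
import Cfsg.Agent.Lib.Helper85_OO2_RankOne
import Cfsg.Agent.Lib.Helper85_OO2_LemK
import Cfsg.Agent.Lib.Helper16_OO2B3Defs

/-!
# S2344, package OO2-B3-OM3 (cutter helper16/helper87; formalised by helper65)

The group `Ω_3` on `⟨w1, x0, w1'⟩`: with `c = Q x0`, the element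
`n(s) = E(w1, s x0) E(w1', (c s)⁻¹ x0) E(w1, s x0)` maps `w1 ↦ -(c s²)⁻¹ w1'`, `w1' ↦ -c s² w1` and acts on
`⟨w1, w1'⟩^⊥` as the reflection `w ↦ w - (B(w,x0)/c) x0` (all characteristics).  The torus element is
`n(t) n(1)⁻¹`.
-/

set_option autoImplicit false

namespace Cfsg.Agent.Lib.Helper65_OO2_B3_OM3

open Module Cfsg.Agent.Lib.Helper94_OrthSmall Cfsg.Agent.Lib.Helper44_QuadClass
  Cfsg.Agent.Lib.Helper14_OmegaSimple Cfsg.Agent.Lib.Helper38_MIODefs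
  Cfsg.Agent.Lib.Helper95_OPDefs Cfsg.Agent.Lib.Helper95_OPBasic Cfsg.Agent.Lib.Helper48_OODefs
  Cfsg.Agent.Lib.Helper87_OO2Defs Cfsg.Agent.Lib.Helper16_OO2B3Defs

section alg

variable {F V : Type*} [Field F] [AddCommGroup V] [Module F V] {Q : QuadraticForm F V}

/-- `E(p, s x0)` on a vector orthogonal to `p`. -/
theorem E_perp {p x0 : V} (hp : Q p = 0) (hx : QuadraticMap.polar (⇑Q) x0 p = 0) (s : F) (w : V)
    (hw : QuadraticMap.polar (⇑Q) w p = 0) :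
    E Q p (s • x0) w = w - (s * QuadraticMap.polar (⇑Q) w x0) • p := by
  have h1 : QuadraticMap.polar (⇑Q) p (s • x0) = 0 := by
    rw [QuadraticMap.polar_smul_right, QuadraticMap.polar_comm, hx, smul_zero]
  rw [E_apply Q hp h1, hw, QuadraticMap.polar_smul_right, smul_eq_mul]
  simp

/-- `E(p, s x0)` on the hyperbolic partner of `p`. -/
theorem E_partner {p p' x0 : V} (hp : Q p = 0) (hpp' : QuadraticMap.polar (⇑Q) p' p = 1)
    (hx : QuadraticMap.polar (⇑Q) x0 p = 0) (hx' : QuadraticMap.polar (⇑Q) x0 p' = 0) (s : F) :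
    E Q p (s • x0) p' = p' + s • x0 - (Q x0 * s ^ 2) • p := by
  have h1 : QuadraticMap.polar (⇑Q) p (s • x0) = 0 := by
    rw [QuadraticMap.polar_smul_right, QuadraticMap.polar_comm, hx, smul_zero]
  have h2 : QuadraticMap.polar (⇑Q) p' (s • x0) = 0 := by
    rw [QuadraticMap.polar_smul_right, QuadraticMap.polar_comm, hx', smul_zero]
  rw [E_apply Q hp h1, hpp', h2, QuadraticMap.map_smul, smul_eq_mul]
  simp only [one_smul, zero_smul, sub_zero, mul_one]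
  congr 2
  ring


/-- `E(p, s x0)` fixes `p`. -/
theorem E_self {p x0 : V} (hp : Q p = 0) (hx : QuadraticMap.polar (⇑Q) x0 p = 0) (s : F) :
    E Q p (s • x0) p = p := by
  have h1 : QuadraticMap.polar (⇑Q) p p = 0 := by
    rw [QuadraticMap.polar_self, hp, smul_zero]
  have h2 : QuadraticMap.polar (⇑Q) p x0 = 0 := by rw [QuadraticMap.polar_comm, hx]
  rw [E_perp hp hx s p h1, h2, mul_zero, zero_smul, sub_zero]

/-- `E(p, s x0)` on `x0`. -/
theorem E_x0 {p x0 : V} (hp : Q p = 0) (hx : QuadraticMap.polar (⇑Q) x0 p = 0) (s : F) :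
    E Q p (s • x0) x0 = x0 - (s * (2 * Q x0)) • p := by
  rw [E_perp hp hx s x0 hx, QuadraticMap.polar_self]
  congr 3
  rw [nsmul_eq_mul]
  norm_num

/-- `n(s) = E(w1, s x0) E(w1', (c s)⁻¹ x0) E(w1, s x0)`, `c = Q x0`. -/
noncomputable def nn (Q : QuadraticForm F V) (w1 w1' x0 : V) (s : F) : V ≃ₗ[F] V :=
  E Q w1 (s • x0) * E Q w1' ((Q x0 * s)⁻¹ • x0) * E Q w1 (s • x0)

theorem nn_apply (w1 w1' x0 : V) (s : F) (x : V) :
    nn Q w1 w1' x0 s x = E Q w1 (s • x0) (E Q w1' ((Q x0 * s)⁻¹ • x0) (E Q w1 (s • x0) x)) := rfl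

variable {w1 w1' x0 : V}

theorem nn_w1 (hp : HPair Q w1 w1') (hx1 : QuadraticMap.polar (⇑Q) x0 w1 = 0)
    (hx1' : QuadraticMap.polar (⇑Q) x0 w1' = 0) (hx0 : Q x0 ≠ 0) {s : F} (hs : s ≠ 0) :
    nn Q w1 w1' x0 s w1 = (-(Q x0 * s ^ 2)⁻¹) • w1' := by
  have hpp' : QuadraticMap.polar (⇑Q) w1' w1 = 1 := by rw [QuadraticMap.polar_comm]; exact hp.aa'
  rw [nn_apply, E_self hp.qa hx1, E_partner hp.qa' hp.aa' hx1' hx1]
  simp only [map_add, map_sub, map_smul]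
  rw [E_self hp.qa hx1, E_x0 hp.qa hx1, E_partner hp.qa hpp' hx1 hx1']
  match_scalars <;> field_simp <;> ring

theorem nn_w1' (hp : HPair Q w1 w1') (hx1 : QuadraticMap.polar (⇑Q) x0 w1 = 0)
    (hx1' : QuadraticMap.polar (⇑Q) x0 w1' = 0) (hx0 : Q x0 ≠ 0) {s : F} (hs : s ≠ 0) :
    nn Q w1 w1' x0 s w1' = (-(Q x0 * s ^ 2)) • w1 := by
  have hpp' : QuadraticMap.polar (⇑Q) w1' w1 = 1 := by rw [QuadraticMap.polar_comm]; exact hp.aa'
  rw [nn_apply, E_partner hp.qa hpp' hx1 hx1']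
  simp only [map_add, map_sub, map_smul]
  rw [E_self hp.qa' hx1', E_x0 hp.qa' hx1', E_partner hp.qa' hp.aa' hx1' hx1]
  simp only [map_add, map_sub, map_smul]
  rw [E_self hp.qa hx1, E_x0 hp.qa hx1, E_partner hp.qa hpp' hx1 hx1']
  match_scalars <;> field_simp <;> ring

theorem nn_perp (hp : HPair Q w1 w1') (hx1 : QuadraticMap.polar (⇑Q) x0 w1 = 0)
    (hx1' : QuadraticMap.polar (⇑Q) x0 w1' = 0) (hx0 : Q x0 ≠ 0) {s : F} (hs : s ≠ 0) (w : V)
    (hw1 : QuadraticMap.polar (⇑Q) w w1 = 0) (hw1' : QuadraticMap.polar (⇑Q) w w1' = 0) :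
    nn Q w1 w1' x0 s w = w - (QuadraticMap.polar (⇑Q) w x0 / Q x0) • x0 := by
  have hpp' : QuadraticMap.polar (⇑Q) w1' w1 = 1 := by rw [QuadraticMap.polar_comm]; exact hp.aa'
  rw [nn_apply, E_perp hp.qa hx1 s w hw1]
  simp only [map_sub, map_smul]
  rw [E_perp hp.qa' hx1' _ w hw1', E_partner hp.qa' hp.aa' hx1' hx1]
  simp only [map_add, map_sub, map_smul]
  rw [E_perp hp.qa hx1 s w hw1, E_self hp.qa hx1, E_x0 hp.qa hx1, E_partner hp.qa hpp' hx1 hx1']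
  match_scalars <;> field_simp <;> ring

end alg

section partJ

variable {F V : Type*} [Field F] [Fintype F] [AddCommGroup V] [Module F V] [FiniteDimensional F V]
  {X : Type*} [AddCommGroup X] [Module ℂ X]

theorem nn_mem_T (Q : QuadraticForm F V) (hQ : (QuadraticMap.polarBilin Q).Nondegenerate)
    (hdim : 5 ≤ finrank F V) {w1 w1' x0 : V} (hp : HPair Q w1 w1')
    (hx1 : QuadraticMap.polar (⇑Q) x0 w1 = 0) (hx1' : QuadraticMap.polar (⇑Q) x0 w1' = 0) (s : F) :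
    nn Q w1 w1' x0 s ∈ T Q := by
  have h1 : ∀ r : F, QuadraticMap.polar (⇑Q) w1 (r • x0) = 0 := by
    intro r
    rw [QuadraticMap.polar_smul_right, QuadraticMap.polar_comm, hx1, smul_zero]
  have h2 : ∀ r : F, QuadraticMap.polar (⇑Q) w1' (r • x0) = 0 := by
    intro r
    rw [QuadraticMap.polar_smul_right, QuadraticMap.polar_comm, hx1', smul_zero]
  unfold nn
  exact Subgroup.mul_mem _ (Subgroup.mul_mem _ (E_mem_T Q hQ hdim hp.qa (h1 s))
    (E_mem_T Q hQ hdim hp.qa' (h2 _))) (E_mem_T Q hQ hdim hp.qa (h1 s))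

theorem nn_fix (Q : QuadraticForm F V) (hQ : (QuadraticMap.polarBilin Q).Nondegenerate)
    (hdim : 5 ≤ finrank F V) {w1 w1' x0 : V} (hp : HPair Q w1 w1')
    (hx1 : QuadraticMap.polar (⇑Q) x0 w1 = 0) (hx1' : QuadraticMap.polar (⇑Q) x0 w1' = 0)
    (ρ : Representation ℂ ↥(T Q) X) (y : X)
    (hy1 : ∀ s : F, repE Q ρ (E Q w1 (s • x0)) y = y)
    (hy2 : ∀ s : F, repE Q ρ (E Q w1' (s • x0)) y = y) (s : F) :
    repE Q ρ (nn Q w1 w1' x0 s) y = y := by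
  have h1 : ∀ r : F, QuadraticMap.polar (⇑Q) w1 (r • x0) = 0 := by
    intro r
    rw [QuadraticMap.polar_smul_right, QuadraticMap.polar_comm, hx1, smul_zero]
  have h2 : ∀ r : F, QuadraticMap.polar (⇑Q) w1' (r • x0) = 0 := by
    intro r
    rw [QuadraticMap.polar_smul_right, QuadraticMap.polar_comm, hx1', smul_zero]
  have m1 : ∀ r : F, E Q w1 (r • x0) ∈ T Q := fun r => E_mem_T Q hQ hdim hp.qa (h1 r)
  have m2 : ∀ r : F, E Q w1' (r • x0) ∈ T Q := fun r => E_mem_T Q hQ hdim hp.qa' (h2 r)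
  unfold nn
  rw [repE_mul Q ρ (Subgroup.mul_mem _ (m1 s) (m2 _)) (m1 s), repE_mul Q ρ (m1 s) (m2 _)]
  simp only [Module.End.mul_apply]
  rw [hy1, hy2, hy1]

omit [Fintype F] [FiniteDimensional F V] in
theorem fix_inv (Q : QuadraticForm F V) (ρ : Representation ℂ ↥(T Q) X) (y : X) {g : V ≃ₗ[F] V}
    (hg : g ∈ T Q) (h : repE Q ρ g y = y) : repE Q ρ g⁻¹ y = y := by
  have h1 := repE_mul Q ρ (Subgroup.inv_mem _ hg) hg
  rw [inv_mul_cancel, repE_one] at h1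
  have h2 : (repE Q ρ g⁻¹ * repE Q ρ g) y = y := by rw [← h1]; rfl
  rw [Module.End.mul_apply, h] at h2
  exact h2

/-! ## OO2-B3-OM3 (M/L) -/
theorem om3_torus_fix (Q : QuadraticForm F V) (hQ : (QuadraticMap.polarBilin Q).Nondegenerate)
    (hdim : 5 ≤ finrank F V) {w1 w1' x0 : V} (hp : HPair Q w1 w1')
    (hx1 : QuadraticMap.polar (⇑Q) x0 w1 = 0) (hx1' : QuadraticMap.polar (⇑Q) x0 w1' = 0)
    (hx0 : Q x0 ≠ 0) (ρ : Representation ℂ ↥(T Q) X) (y : X)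
    (hy1 : ∀ s : F, repE Q ρ (E Q w1 (s • x0)) y = y)
    (hy2 : ∀ s : F, repE Q ρ (E Q w1' (s • x0)) y = y)
    (z : V ≃ₗ[F] V) (t : F) (ht : t ≠ 0) (hz1 : z w1 = t ^ 2 • w1) (hz2 : z w1' = (t ^ 2)⁻¹ • w1')
    (hz3 : ∀ w : V, QuadraticMap.polar (⇑Q) w w1 = 0 → QuadraticMap.polar (⇑Q) w w1' = 0 → z w = w) :
    repE Q ρ z y = y := by
  have hpp' : QuadraticMap.polar (⇑Q) w1' w1 = 1 := by rw [QuadraticMap.polar_comm]; exact hp.aa'
  have p11 : QuadraticMap.polar (⇑Q) w1 w1 = 0 := by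
    rw [QuadraticMap.polar_self, hp.qa, smul_zero]
  have p1'1' : QuadraticMap.polar (⇑Q) w1' w1' = 0 := by
    rw [QuadraticMap.polar_self, hp.qa', smul_zero]
  have key : z * nn Q w1 w1' x0 1 = nn Q w1 w1' x0 t := by
    apply LinearEquiv.ext
    intro x
    rw [LinearEquiv.mul_apply]
    obtain ⟨α, β, w, hwa, hwa', rfl⟩ : ∃ (α β : F) (w : V), QuadraticMap.polar (⇑Q) w w1 = 0 ∧
        QuadraticMap.polar (⇑Q) w w1' = 0 ∧ x = α • w1 + β • w1' + w := by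
      refine ⟨QuadraticMap.polar (⇑Q) x w1', QuadraticMap.polar (⇑Q) x w1,
        x - QuadraticMap.polar (⇑Q) x w1' • w1 - QuadraticMap.polar (⇑Q) x w1 • w1', ?_, ?_, ?_⟩
      · rw [QuadraticMap.polar_sub_left, QuadraticMap.polar_sub_left, QuadraticMap.polar_smul_left,
          QuadraticMap.polar_smul_left, p11, hpp']
        simp
      · rw [QuadraticMap.polar_sub_left, QuadraticMap.polar_sub_left, QuadraticMap.polar_smul_left,
          QuadraticMap.polar_smul_left, p1'1', hp.aa']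
        simp
      · abel
    have hwz : z (w - (QuadraticMap.polar (⇑Q) w x0 / Q x0) • x0)
        = w - (QuadraticMap.polar (⇑Q) w x0 / Q x0) • x0 := by
      apply hz3
      · rw [QuadraticMap.polar_sub_left, QuadraticMap.polar_smul_left, hwa, hx1]
        simp
      · rw [QuadraticMap.polar_sub_left, QuadraticMap.polar_smul_left, hwa', hx1']
        simp
    simp only [map_add, map_smul]
    rw [nn_w1 hp hx1 hx1' hx0 one_ne_zero, nn_w1' hp hx1 hx1' hx0 one_ne_zero,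
      nn_perp hp hx1 hx1' hx0 one_ne_zero w hwa hwa', nn_w1 hp hx1 hx1' hx0 ht,
      nn_w1' hp hx1 hx1' hx0 ht, nn_perp hp hx1 hx1' hx0 ht w hwa hwa']
    simp only [map_smul, hz1, hz2]
    rw [hwz]
    match_scalars <;> field_simp
  have hz : z = nn Q w1 w1' x0 t * (nn Q w1 w1' x0 1)⁻¹ := eq_mul_inv_of_mul_eq key
  have mT : ∀ s : F, nn Q w1 w1' x0 s ∈ T Q := nn_mem_T Q hQ hdim hp hx1 hx1'
  have hf : ∀ s : F, repE Q ρ (nn Q w1 w1' x0 s) y = y := nn_fix Q hQ hdim hp hx1 hx1' ρ y hy1 hy2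
  rw [hz, repE_mul Q ρ (mT t) (Subgroup.inv_mem _ (mT 1)), Module.End.mul_apply,
    fix_inv Q ρ y (mT 1) (hf 1), hf t]

theorem om3_weyl_fix (Q : QuadraticForm F V) (hQ : (QuadraticMap.polarBilin Q).Nondegenerate)
    (hdim : 5 ≤ finrank F V) {w1 w1' x0 : V} (hp : HPair Q w1 w1')
    (hx1 : QuadraticMap.polar (⇑Q) x0 w1 = 0) (hx1' : QuadraticMap.polar (⇑Q) x0 w1' = 0)
    (hx0 : Q x0 ≠ 0) (ρ : Representation ℂ ↥(T Q) X) (y : X)
    (hy1 : ∀ s : F, repE Q ρ (E Q w1 (s • x0)) y = y)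
    (hy2 : ∀ s : F, repE Q ρ (E Q w1' (s • x0)) y = y) :
    ∃ m : V ≃ₗ[F] V, m ∈ T Q ∧ m w1 = -(Q x0)⁻¹ • w1' ∧ m w1' = -(Q x0) • w1 ∧ m x0 = -x0 ∧
      (∀ w : V, QuadraticMap.polar (⇑Q) w w1 = 0 → QuadraticMap.polar (⇑Q) w w1' = 0 →
        QuadraticMap.polar (⇑Q) w x0 = 0 → m w = w) ∧ repE Q ρ m y = y := by
  refine ⟨nn Q w1 w1' x0 1, nn_mem_T Q hQ hdim hp hx1 hx1' 1, ?_, ?_, ?_, ?_,
    nn_fix Q hQ hdim hp hx1 hx1' ρ y hy1 hy2 1⟩
  · rw [nn_w1 hp hx1 hx1' hx0 one_ne_zero]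
    simp
  · rw [nn_w1' hp hx1 hx1' hx0 one_ne_zero]
    simp
  · rw [nn_perp hp hx1 hx1' hx0 one_ne_zero x0 hx1 hx1', QuadraticMap.polar_self, nsmul_eq_mul]
    have e : ((2 : ℕ) : F) * Q x0 / Q x0 = 2 := by
      push_cast
      field_simp
    rw [e, two_smul]
    abel
  · intro w h1 h2 h3
    rw [nn_perp hp hx1 hx1' hx0 one_ne_zero w h1 h2, h3]
    simp

end partJ

end Cfsg.Agent.Lib.Helper65_OO2_B3_OM3
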