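/-
Helper library (helper65): counting conjugacy classes, part 5:
`#(classes consisting of E-elements) * |G| = #(commuting pairs (x, g) with E x)` (Burnside's lemma).
-/
import Mathlib

set_option autoImplicit false

namespace Cfsg.Agent.Lib.Helper65_PClasses

variable {G : Type*} [Group G]

/-- conjugation action of `G` on the elements satisfying a conjugation-invariant predicate. -/
@[reducible] def conjActionOn (E : G → Prop) (hE : ∀ g x : G, E x → E (g * x * g⁻¹)) :
    MulAction G {x : G // E x} where
  smul g x := ⟨g * x * g⁻¹, hE g x x.2⟩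
  one_smul x := by
    apply Subtype.ext
    show (1 : G) * x * (1 : G)⁻¹ = x
    simp
  mul_smul m n x := by
    apply Subtype.ext
    show (m * n) * (x : G) * (m * n)⁻¹ = m * (n * x * n⁻¹) * m⁻¹
    simp [mul_assoc]

/-- the commuting pairs `(x, g)` with `E x`. -/
abbrev CommPairs (E : G → Prop) := {q : G × G // E q.1 ∧ q.1 * q.2 = q.2 * q.1}

/-- classes all of whose elements satisfy `E`. -/
abbrev ClassesOf (E : G → Prop) := {c : ConjClasses G // ∀ x ∈ c.carrier, E x}

theorem forall_mem_carrier_mk (E : G → Prop) (hE : ∀ g x : G, E x → E (g * x * g⁻¹)) {x : G}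
    (hx : E x) : ∀ y ∈ (ConjClasses.mk x).carrier, E y := by
  intro y hy
  rw [ConjClasses.mem_carrier_iff_mk_eq, ConjClasses.mk_eq_mk_iff_isConj, isConj_iff] at hy
  obtain ⟨c, hc⟩ := hy
  have : y = c⁻¹ * x * c⁻¹⁻¹ := by rw [← hc]; group
  rw [this]
  exact hE _ _ hx

/-- **Counting**: `#classes(E) * |G| = #commuting pairs`. -/
theorem card_classesOf_mul_card [Finite G] (E : G → Prop)
    (hE : ∀ g x : G, E x → E (g * x * g⁻¹)) :
    Nat.card (ClassesOf E) * Nat.card G = Nat.card (CommPairs E) := by
  classical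
  letI := conjActionOn E hE
  have : Fintype G := Fintype.ofFinite G
  have : Fintype {x : G // E x} := Fintype.ofFinite _
  have : Fintype (Quotient (MulAction.orbitRel G {x : G // E x})) := Fintype.ofFinite _
  have hB := MulAction.sum_card_fixedBy_eq_card_orbits_mul_card_group G {x : G // E x}
  -- orbits ≃ classes
  have e1 : Quotient (MulAction.orbitRel G {x : G // E x}) ≃ ClassesOf E := by
    refine Equiv.ofBijective (Quotient.lift (fun x : {x : G // E x} =>
      (⟨ConjClasses.mk (x : G), forall_mem_carrier_mk E hE x.2⟩ : ClassesOf E)) ?_) ⟨?_, ?_⟩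
    · intro a b hab
      obtain ⟨g, hg⟩ := hab
      apply Subtype.ext
      show ConjClasses.mk (a : G) = ConjClasses.mk (b : G)
      rw [ConjClasses.mk_eq_mk_iff_isConj, isConj_comm, isConj_iff]
      exact ⟨g, congrArg Subtype.val hg⟩
    · intro a b
      induction a using Quotient.inductionOn with
      | _ a =>
      induction b using Quotient.inductionOn with
      | _ b =>
      intro hab
      have h1 : ConjClasses.mk (a : G) = ConjClasses.mk (b : G) := congrArg Subtype.val hab
      rw [ConjClasses.mk_eq_mk_iff_isConj, isConj_comm, isConj_iff] at h1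
      obtain ⟨g, hg⟩ := h1
      apply Quotient.sound
      exact ⟨g, Subtype.ext hg⟩
    · intro c
      obtain ⟨c₀, hc⟩ := c
      obtain ⟨y, rfl⟩ := ConjClasses.mk_surjective c₀
      exact ⟨Quotient.mk _ ⟨y, hc y ConjClasses.mem_carrier_mk⟩, rfl⟩
  -- pairs ≃ sigma of fixed points
  have e2 : CommPairs E ≃ Σ g : G, MulAction.fixedBy {x : G // E x} g := by
    refine
      { toFun := fun q => ⟨q.1.2, ⟨⟨q.1.1, q.2.1⟩, ?_⟩⟩
        invFun := fun s => ⟨(s.2.1.1, s.1), s.2.1.2, ?_⟩
        left_inv := fun q => rfl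
        right_inv := fun s => rfl }
    · rw [MulAction.mem_fixedBy]
      apply Subtype.ext
      show q.1.2 * q.1.1 * (q.1.2)⁻¹ = q.1.1
      rw [← q.2.2, mul_inv_cancel_right]
    · have h1 := s.2.2
      rw [MulAction.mem_fixedBy] at h1
      have h2 : s.1 * (s.2.1 : G) * (s.1)⁻¹ = (s.2.1 : G) := congrArg Subtype.val h1
      show (s.2.1 : G) * s.1 = s.1 * (s.2.1 : G)
      calc (s.2.1 : G) * s.1 = (s.1 * (s.2.1 : G) * (s.1)⁻¹) * s.1 := by rw [h2]
        _ = s.1 * (s.2.1 : G) := by group
  rw [Nat.card_congr e2, Nat.card_congr e1.symm, Nat.card_eq_fintype_card, Nat.card_eq_fintype_card,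
    Nat.card_eq_fintype_card, Fintype.card_sigma]
  exact hB.symm

end Cfsg.Agent.Lib.Helper65_PClasses
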