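/-
Helper library (helper65): counting conjugacy classes, part 6:
`σ`-elements and the decomposition of an element into its `r`-part and `r'`-part.
-/
import Mathlib
import Cfsg.Agent.Lib.Helper65_PClasses5

set_option autoImplicit false

namespace Cfsg.Agent.Lib.Helper65_PClasses

variable {G : Type*} [Group G]

/-- `σ`-elements: all prime divisors of the order lie in `σ`. -/
def IsPiElt (σ : Finset ℕ) (x : G) : Prop := ∀ q : ℕ, q.Prime → q ∣ orderOf x → q ∈ σ

theorem orderOf_conj' (g x : G) : orderOf (g * x * g⁻¹) = orderOf x :=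
  orderOf_injective (MulAut.conj g).toMonoidHom (MulAut.conj g).injective x

theorem isPiElt_conj (σ : Finset ℕ) (g x : G) (hx : IsPiElt σ x) : IsPiElt σ (g * x * g⁻¹) := by
  intro q hq hqd
  rw [orderOf_conj'] at hqd
  exact hx q hq hqd

/-- auxiliary: `x ^ (m * b)` where `t a + m b = 1`. -/
noncomputable def powPart (t m : ℕ) (x : G) : G := x ^ ((m : ℤ) * Int.gcdB (t : ℤ) (m : ℤ))

/-- auxiliary: `x ^ (t * a)` where `t a + m b = 1`. -/
noncomputable def powCoPart (t m : ℕ) (x : G) : G := x ^ ((t : ℤ) * Int.gcdA (t : ℤ) (m : ℤ))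

theorem powPart_mul_powCoPart {t m : ℕ} (hcop : Nat.Coprime t m) (x : G) :
    powPart t m x * powCoPart t m x = x := by
  unfold powPart powCoPart
  rw [← zpow_add]
  have h1 := Int.gcd_eq_gcd_ab (t : ℤ) (m : ℤ)
  rw [Int.gcd_natCast_natCast, hcop.gcd_eq_one] at h1
  have : ((m : ℤ) * Int.gcdB (t : ℤ) (m : ℤ)) + ((t : ℤ) * Int.gcdA (t : ℤ) (m : ℤ)) = 1 := by
    rw [add_comm]; exact_mod_cast h1.symm
  rw [this, zpow_one]

theorem powPart_pow {t m : ℕ} {x : G} (h : t * m = orderOf x) : powPart t m x ^ t = 1 := by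
  unfold powPart
  rw [← zpow_natCast, ← zpow_mul]
  have : ((m : ℤ) * Int.gcdB (t : ℤ) (m : ℤ)) * ((t : ℕ) : ℤ) =
      ((orderOf x : ℕ) : ℤ) * Int.gcdB (t : ℤ) (m : ℤ) := by
    rw [← h]; push_cast; ring
  rw [this, zpow_mul, zpow_natCast, pow_orderOf_eq_one, one_zpow]

theorem powCoPart_pow {t m : ℕ} {x : G} (h : t * m = orderOf x) : powCoPart t m x ^ m = 1 := by
  unfold powCoPart
  rw [← zpow_natCast, ← zpow_mul]
  have : ((t : ℤ) * Int.gcdA (t : ℤ) (m : ℤ)) * ((m : ℕ) : ℤ) =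
      ((orderOf x : ℕ) : ℤ) * Int.gcdA (t : ℤ) (m : ℤ) := by
    rw [← h]; push_cast; ring
  rw [this, zpow_mul, zpow_natCast, pow_orderOf_eq_one, one_zpow]

/-- the `r`-part of `x`. -/
noncomputable def rPart (r : ℕ) (x : G) : G :=
  powPart (ordProj[r] (orderOf x)) (ordCompl[r] (orderOf x)) x

/-- the `r'`-part of `x`. -/
noncomputable def rcPart (r : ℕ) (x : G) : G :=
  powCoPart (ordProj[r] (orderOf x)) (ordCompl[r] (orderOf x)) x

theorem rPart_mul_rcPart [Finite G] {r : ℕ} (hr : r.Prime) (x : G) :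
    rPart r x * rcPart r x = x := by
  have hn : orderOf x ≠ 0 := (orderOf_pos x).ne'
  exact powPart_mul_powCoPart (Nat.Coprime.pow_left _ (Nat.coprime_ordCompl hr hn)) x

theorem rPart_pow (r : ℕ) (x : G) : rPart r x ^ (ordProj[r] (orderOf x)) = 1 :=
  powPart_pow (Nat.ordProj_mul_ordCompl_eq_self (orderOf x) r)

theorem rcPart_pow (r : ℕ) (x : G) : rcPart r x ^ (ordCompl[r] (orderOf x)) = 1 :=
  powCoPart_pow (Nat.ordProj_mul_ordCompl_eq_self (orderOf x) r)

theorem isPiElt_rPart {r : ℕ} (hr : r.Prime) (x : G) : IsPiElt {r} (rPart r x) := by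
  intro q hq hqd
  have h1 : orderOf (rPart r x) ∣ r ^ (orderOf x).factorization r :=
    orderOf_dvd_of_pow_eq_one (rPart_pow r x)
  have h2 : q ∣ r ^ (orderOf x).factorization r := hqd.trans h1
  have h3 : q ∣ r := hq.dvd_of_dvd_pow h2
  rw [Finset.mem_singleton]
  exact (Nat.prime_dvd_prime_iff_eq hq hr).mp h3

theorem isPiElt_rcPart [Finite G] {r : ℕ} (hr : r.Prime) (σ : Finset ℕ) (x : G)
    (hx : IsPiElt (insert r σ) x) : IsPiElt σ (rcPart r x) := by
  intro q hq hqd
  have hn : orderOf x ≠ 0 := (orderOf_pos x).ne'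
  have h1 : orderOf (rcPart r x) ∣ ordCompl[r] (orderOf x) :=
    orderOf_dvd_of_pow_eq_one (rcPart_pow r x)
  have h2 : q ∣ ordCompl[r] (orderOf x) := hqd.trans h1
  have h3 : q ∣ orderOf x := h2.trans (Nat.ordCompl_dvd (orderOf x) r)
  have h4 := hx q hq h3
  rw [Finset.mem_insert] at h4
  rcases h4 with rfl | h4
  · exact absurd h2 (Nat.not_dvd_ordCompl hr hn)
  · exact h4

theorem commute_rPart (r : ℕ) {x g : G} (h : x * g = g * x) : rPart r x * g = g * rPart r x := by
  unfold rPart powPart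
  exact ((Commute.zpow_left (show Commute x g from h)) _).eq

theorem commute_rcPart (r : ℕ) {x g : G} (h : x * g = g * x) : rcPart r x * g = g * rcPart r x := by
  unfold rcPart powCoPart
  exact ((Commute.zpow_left (show Commute x g from h)) _).eq

theorem rPart_mul_rcPart_comm (r : ℕ) (x : G) : rPart r x * rcPart r x = rcPart r x * rPart r x := by
  unfold rPart rcPart powPart powCoPart
  rw [← zpow_add, ← zpow_add, add_comm]

end Cfsg.Agent.Lib.Helper65_PClasses
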