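/-
Helper library (helper65): counting conjugacy classes, part 7:
commuting pairs counted through centralizers; the `r`-part decomposition gives an injection of
the commuting pairs of `(σ ∪ {r})`-elements into those of `σ`-elements in centralizers of
`r`-elements.
-/
import Mathlib
import Cfsg.Agent.Lib.Helper65_PClasses6

set_option autoImplicit false

namespace Cfsg.Agent.Lib.Helper65_PClasses

variable {G : Type*} [Group G]

theorem isPiElt_subtype_iff (σ : Finset ℕ) (H : Subgroup G) (a : G) (ha : a ∈ H) :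
    IsPiElt σ (⟨a, ha⟩ : H) ↔ IsPiElt σ a := by
  unfold IsPiElt
  rw [Subgroup.orderOf_mk]

/-- commuting pairs, counted through centralizers. -/
theorem card_commPairs_eq_sum [Finite G] (E : G → Prop) :
    Nat.card (CommPairs E) =
      ∑ᶠ y : {y : G // E y}, Nat.card (Subgroup.centralizer ({(y : G)} : Set G)) := by
  classical
  have : Fintype {y : G // E y} := Fintype.ofFinite _
  have e : CommPairs E ≃ Σ y : {y : G // E y}, Subgroup.centralizer ({(y : G)} : Set G) :=
    { toFun := fun q => ⟨⟨q.1.1, q.2.1⟩, ⟨q.1.2, Subgroup.mem_centralizer_singleton_iff.mpr q.2.2.symm⟩⟩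
      invFun := fun s => ⟨(s.1.1, s.2.1), s.1.2, (Subgroup.mem_centralizer_singleton_iff.mp s.2.2).symm⟩
      left_inv := fun q => rfl
      right_inv := fun s => rfl }
  rw [Nat.card_congr e, Nat.card_sigma, finsum_eq_sum_of_fintype]

/-- the decomposition injection. -/
theorem card_commPairs_insert_le [Finite G] {r : ℕ} (hr : r.Prime) (σ : Finset ℕ) :
    Nat.card (CommPairs (G := G) (IsPiElt (insert r σ))) ≤
      ∑ᶠ y : {y : G // IsPiElt {r} y},
        Nat.card (CommPairs (G := Subgroup.centralizer ({(y : G)} : Set G)) (IsPiElt σ)) := by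
  classical
  have : Fintype {y : G // IsPiElt {r} y} := Fintype.ofFinite _
  rw [finsum_eq_sum_of_fintype, ← Nat.card_sigma]
  let F : CommPairs (G := G) (IsPiElt (insert r σ)) →
      Σ y : {y : G // IsPiElt {r} y},
        CommPairs (G := Subgroup.centralizer ({(y : G)} : Set G)) (IsPiElt σ) :=
    fun q => ⟨⟨rPart r q.1.1, isPiElt_rPart hr q.1.1⟩,
      ⟨(⟨rcPart r q.1.1, Subgroup.mem_centralizer_singleton_iff.mpr
          (rPart_mul_rcPart_comm r q.1.1).symm⟩,
        ⟨q.1.2, Subgroup.mem_centralizer_singleton_iff.mpr (commute_rPart r q.2.2).symm⟩),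
        ⟨(isPiElt_subtype_iff σ _ _ _).mpr (isPiElt_rcPart hr σ q.1.1 q.2.1),
          Subtype.ext (commute_rcPart r q.2.2)⟩⟩⟩
  let ψ : (Σ y : {y : G // IsPiElt {r} y},
        CommPairs (G := Subgroup.centralizer ({(y : G)} : Set G)) (IsPiElt σ)) → G × G × G :=
    fun s => ((s.1 : G), ((s.2.1.1 : G), (s.2.1.2 : G)))
  apply Nat.card_le_card_of_injective F
  intro q q' hqq
  have h1 := congrArg ψ hqq
  have h2 : (rPart r q.1.1, (rcPart r q.1.1, q.1.2)) = (rPart r q'.1.1, (rcPart r q'.1.1, q'.1.2)) :=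
    h1
  rw [Prod.mk.injEq, Prod.mk.injEq] at h2
  obtain ⟨ha, hb, hc⟩ := h2
  apply Subtype.ext
  apply Prod.ext
  · rw [← rPart_mul_rcPart hr q.1.1, ← rPart_mul_rcPart hr q'.1.1, ha, hb]
  · exact hc

end Cfsg.Agent.Lib.Helper65_PClasses
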