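/-
Helper library (helper65): counting conjugacy classes, part 8:
`k_{σ ∪ {r}}(G) ≤ M * k_r(G)` when `k_σ ≤ M` in centralizers; the general bound `k_σ(G) ≤ |G|_σ`.
-/
import Mathlib
import Cfsg.Agent.Lib.Helper65_PClasses3
import Cfsg.Agent.Lib.Helper65_PClasses7

set_option autoImplicit false

namespace Cfsg.Agent.Lib.Helper65_PClasses

universe u

variable {G : Type*} [Group G]

/-- Lemma D: classes of `(σ ∪ {r})`-elements are bounded through classes of `r`-elements. -/
theorem card_classesOf_insert_le [Finite G] {r : ℕ} (hr : r.Prime) (σ : Finset ℕ) (M : ℕ)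
    (hM : ∀ y : G,
      Nat.card (ClassesOf (G := Subgroup.centralizer ({y} : Set G)) (IsPiElt σ)) ≤ M) :
    Nat.card (ClassesOf (G := G) (IsPiElt (insert r σ))) ≤
      M * Nat.card (ClassesOf (G := G) (IsPiElt {r})) := by
  classical
  have : Fintype {y : G // IsPiElt {r} y} := Fintype.ofFinite _
  have hpos : 0 < Nat.card G := Nat.card_pos
  apply Nat.le_of_mul_le_mul_right _ hpos
  rw [card_classesOf_mul_card _ (isPiElt_conj _), mul_assoc,
    card_classesOf_mul_card _ (isPiElt_conj _), card_commPairs_eq_sum (IsPiElt {r})]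
  refine le_trans (card_commPairs_insert_le hr σ) ?_
  rw [finsum_eq_sum_of_fintype, finsum_eq_sum_of_fintype, Finset.mul_sum]
  apply Finset.sum_le_sum
  intro y _
  rw [← card_classesOf_mul_card _ (isPiElt_conj σ)]
  exact Nat.mul_le_mul_right _ (hM y)

theorem isPiElt_singleton_iff [Finite G] {r : ℕ} (hr : r.Prime) (x : G) :
    IsPiElt {r} x ↔ ∃ k : ℕ, orderOf x = r ^ k := by
  constructor
  · intro h
    refine ⟨_, Nat.eq_prime_pow_of_unique_prime_dvd (orderOf_pos x).ne' ?_⟩
    intro d hd hdd
    exact Finset.mem_singleton.mp (h d hd hdd)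
  · rintro ⟨k, hk⟩ q hq hqd
    rw [hk] at hqd
    rw [Finset.mem_singleton]
    exact (Nat.prime_dvd_prime_iff_eq hq hr).mp (hq.dvd_of_dvd_pow hqd)

/-- the two ways of writing the classes of `r`-elements agree. -/
theorem card_classesOf_singleton [Finite G] {r : ℕ} (hr : r.Prime) :
    Nat.card (ClassesOf (G := G) (IsPiElt {r})) =
      Nat.card {c : ConjClasses G // ∀ x ∈ c.carrier, ∃ k : ℕ, orderOf x = r ^ k} := by
  apply Nat.card_congr
  apply Equiv.subtypeEquivRight
  intro c
  constructor
  · intro h x hx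
    exact (isPiElt_singleton_iff hr x).mp (h x hx)
  · intro h x hx
    exact (isPiElt_singleton_iff hr x).mpr (h x hx)

/-- `k_r(G) ≤ |G|_r`. -/
theorem card_classesOf_singleton_le [Finite G] {r : ℕ} (hr : r.Prime) :
    Nat.card (ClassesOf (G := G) (IsPiElt {r})) ≤ r ^ (Nat.card G).factorization r := by
  haveI : Fact r.Prime := ⟨hr⟩
  obtain P : Sylow r G := default
  rw [card_classesOf_singleton hr, ← P.card_eq_multiplicity]
  refine le_trans (card_pclasses_le_card_orbits P) ?_
  exact Nat.card_le_card_of_surjective _ Quotient.mk_surjective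

/-- **General bound**: `k_σ(G) ≤ |G|_σ`. -/
theorem card_classesOf_isPiElt_le : ∀ (σ : Finset ℕ), (∀ s ∈ σ, s.Prime) →
    ∀ (G : Type u) [Group G] [Finite G],
      Nat.card (ClassesOf (G := G) (IsPiElt σ)) ≤ ∏ s ∈ σ, s ^ (Nat.card G).factorization s := by
  intro σ
  induction σ using Finset.induction_on with
  | empty =>
    intro _ G _ _
    rw [Finset.prod_empty]
    have hsub : Subsingleton (ClassesOf (G := G) (IsPiElt ∅)) := by
      have key : ∀ c : ClassesOf (G := G) (IsPiElt ∅), c.1 = ConjClasses.mk 1 := by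
        rintro ⟨c₀, hc⟩
        obtain ⟨y, rfl⟩ := ConjClasses.mk_surjective c₀
        have hy := hc y ConjClasses.mem_carrier_mk
        have h1 : orderOf y = 1 := by
          by_contra hne
          obtain ⟨q, hq, hqd⟩ := Nat.exists_prime_and_dvd hne
          exact absurd (hy q hq hqd) (Finset.notMem_empty q)
        rw [orderOf_eq_one_iff] at h1
        show ConjClasses.mk y = ConjClasses.mk 1
        rw [h1]
      exact ⟨fun a b => Subtype.ext ((key a).trans (key b).symm)⟩
    exact Finite.card_le_one_iff_subsingleton.mpr hsub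
  | insert r σ hrσ ih =>
    intro hprime G _ _
    have hr : r.Prime := hprime r (Finset.mem_insert_self r σ)
    have hσ : ∀ s ∈ σ, s.Prime := fun s hs => hprime s (Finset.mem_insert_of_mem hs)
    rw [Finset.prod_insert hrσ]
    have hM : ∀ y : G,
        Nat.card (ClassesOf (G := Subgroup.centralizer ({y} : Set G)) (IsPiElt σ)) ≤
          ∏ s ∈ σ, s ^ (Nat.card G).factorization s := by
      intro y
      refine le_trans (ih hσ (Subgroup.centralizer ({y} : Set G))) ?_
      apply Finset.prod_le_prod (fun _ _ => Nat.zero_le _)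
      intro s hs
      apply Nat.pow_le_pow_right (hσ s hs).pos
      exact (Nat.factorization_le_iff_dvd Nat.card_pos.ne' Nat.card_pos.ne').mpr
        (Subgroup.card_subgroup_dvd_card _) s
    refine le_trans (card_classesOf_insert_le hr σ _ hM) ?_
    rw [mul_comm]
    exact Nat.mul_le_mul_right _ (card_classesOf_singleton_le hr)

end Cfsg.Agent.Lib.Helper65_PClasses
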