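/-
Helper library (helper65): counting conjugacy classes, part 9:
for `r ∈ π`, many classes of `π`-elements give many classes of `r`-elements.
-/
import Mathlib
import Cfsg.Prelude.Def_OddOrderLocal
import Cfsg.Agent.Lib.Helper65_PClasses8

set_option autoImplicit false

namespace Cfsg.Agent.Lib.Helper65_PClasses

universe u

variable {G : Type u} [Group G]

/-- for `r ∈ π`, many classes of `π`-elements give many classes of `r`-elements. -/
theorem many_rclasses_of_many_piclasses [Finite G] (π : Finset ℕ) (hπ : ∀ r ∈ π, r.Prime)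
    (p : ℕ) (hp : p ∈ π) (hmin : ∀ r ∈ π, p ≤ r)
    (hk : (p + 1) * π.prod (fun r => r ^ (Nat.card G).factorization r) <
      2 * p * Nat.card (ClassesOf (G := G) (IsPiElt π))) (r : ℕ) (hr : r ∈ π) :
    (r + 1) * r ^ (Nat.card G).factorization r <
      2 * r * Nat.card {c : ConjClasses G // ∀ x ∈ c.carrier, ∃ k : ℕ, orderOf x = r ^ k} := by
  have hrp := hπ r hr
  have hσ : ∀ s ∈ π.erase r, s.Prime := fun s hs => hπ s (Finset.mem_of_mem_erase hs)
  set M := ∏ s ∈ π.erase r, s ^ (Nat.card G).factorization s with hMdef
  have hM : ∀ y : G,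
      Nat.card (ClassesOf (G := Subgroup.centralizer ({y} : Set G)) (IsPiElt (π.erase r))) ≤ M := by
    intro y
    refine le_trans (card_classesOf_isPiElt_le (π.erase r) hσ (Subgroup.centralizer ({y} : Set G))) ?_
    apply Finset.prod_le_prod (fun _ _ => Nat.zero_le _)
    intro s hs
    apply Nat.pow_le_pow_right (hσ s hs).pos
    exact (Nat.factorization_le_iff_dvd Nat.card_pos.ne' Nat.card_pos.ne').mpr
      (Subgroup.card_subgroup_dvd_card _) s
  have hD := card_classesOf_insert_le hrp (π.erase r) M hM
  rw [Finset.insert_erase hr] at hD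
  have hprod : r ^ (Nat.card G).factorization r * M =
      π.prod (fun r => r ^ (Nat.card G).factorization r) :=
    Finset.mul_prod_erase π (fun r => r ^ (Nat.card G).factorization r) hr
  rw [← card_classesOf_singleton hrp]
  set k := Nat.card (ClassesOf (G := G) (IsPiElt {r})) with hkdef
  set a := r ^ (Nat.card G).factorization r with hadef
  have hMpos : 0 < M := by
    apply Finset.prod_pos
    intro s hs
    exact Nat.pow_pos (hσ s hs).pos
  -- (p+1) * a * M < 2 * p * M * k
  have h1 : (p + 1) * (a * M) < 2 * p * (M * k) := by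
    rw [hprod]
    exact lt_of_lt_of_le hk (Nat.mul_le_mul_left _ hD)
  have h2 : (p + 1) * a < 2 * p * k := by
    have : ((p + 1) * a) * M < (2 * p * k) * M := by
      calc ((p + 1) * a) * M = (p + 1) * (a * M) := by ring
        _ < 2 * p * (M * k) := h1
        _ = (2 * p * k) * M := by ring
    exact Nat.lt_of_mul_lt_mul_right this
  have hpr : p ≤ r := hmin r hr
  have hppos : 0 < p := (hπ p hp).pos
  have h3 : ((r + 1) * a) * p < (2 * r * k) * p := by
    calc ((r + 1) * a) * p = r * (p * a) + p * a := by ring
      _ ≤ r * (p * a) + r * a := by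
          apply Nat.add_le_add_left
          exact Nat.mul_le_mul_right _ hpr
      _ = ((p + 1) * a) * r := by ring
      _ < (2 * p * k) * r := Nat.mul_lt_mul_of_pos_right h2 hrp.pos
      _ = (2 * r * k) * p := by ring
  exact Nat.lt_of_mul_lt_mul_right h3

end Cfsg.Agent.Lib.Helper65_PClasses
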