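/-
Helper library (helper65): counting conjugacy classes, part 10:
if `k_π(G) > (p+1)|G|_π/(2p)` (`p` the least prime of `π`) then `G` has a normal `π`-complement
and an abelian Hall `π`-subgroup.
-/
import Mathlib
import Cfsg.Prelude.Def_OddOrderLocal
import Cfsg.Agent.Lib.Helper65_PClasses9

set_option autoImplicit false

namespace Cfsg.Agent.Lib.Helper65_PClasses

universe u

variable {G : Type u} [Group G]

/-- the normal `r`-complement coming from Burnside's transfer theorem, with the properties needed. -/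
theorem exists_normal_rcomplement [Finite G] {r : ℕ} (hr : r.Prime)
    (h : (r + 1) * r ^ (Nat.card G).factorization r <
      2 * r * Nat.card {c : ConjClasses G // ∀ x ∈ c.carrier, ∃ k : ℕ, orderOf x = r ^ k}) :
    ∃ K : Subgroup G, K.Normal ∧ ¬ r ∣ Nat.card K ∧ K.index = r ^ (Nat.card G).factorization r ∧
      ∀ a b : G, a * b * a⁻¹ * b⁻¹ ∈ K := by
  haveI : Fact r.Prime := ⟨hr⟩
  obtain P : Sylow r G := default
  rw [← P.card_eq_multiplicity] at h
  have hNC := normalizer_le_centralizer_of_many_pclasses P h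
  refine ⟨(MonoidHom.transferSylow P hNC).ker, inferInstance,
    MonoidHom.not_dvd_card_ker_transferSylow P hNC, ?_, ?_⟩
  · rw [← P.card_eq_multiplicity]
    exact (MonoidHom.ker_transferSylow_isComplement' P hNC).symm.index_eq_card
  · intro a b
    rw [MonoidHom.mem_ker, map_mul, map_mul, map_mul, map_inv, map_inv]
    have hcomm : ∀ x y : (P : Subgroup G), x * y = y * x := by
      intro x y
      have hy : (y : G) ∈ Subgroup.centralizer ((P : Subgroup G) : Set G) :=
        hNC (Subgroup.le_normalizer y.2)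
      apply Subtype.ext
      exact Subgroup.mem_centralizer_iff.mp hy x x.2
    rw [hcomm ((MonoidHom.transferSylow P hNC) a), mul_assoc, mul_assoc, mul_inv_cancel_left,
      mul_inv_cancel]


/-- **Main theorem** (`π`-version). -/
theorem normal_pi_complement_of_many_piclasses [Finite G] (π : Finset ℕ) (hπ : ∀ r ∈ π, r.Prime)
    (p : ℕ) (hp : p ∈ π) (hmin : ∀ r ∈ π, p ≤ r)
    (hk : (p + 1) * π.prod (fun r => r ^ (Nat.card G).factorization r) <
      2 * p * Nat.card (ClassesOf (G := G) (IsPiElt π))) :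
    (∃ N : Subgroup G, N.Normal ∧ (∀ r : ℕ, r.Prime → r ∣ Nat.card N → r ∉ π) ∧
      ∀ r : ℕ, r.Prime → r ∣ N.index → r ∈ π) ∧
    ∃ H : Subgroup G, Cfsg.IsPiHall (↑π : Set ℕ) H ∧ IsMulCommutative H := by
  have hloc : ∀ r ∈ π, ∃ K : Subgroup G, K.Normal ∧ ¬ r ∣ Nat.card K ∧
      K.index = r ^ (Nat.card G).factorization r ∧ ∀ a b : G, a * b * a⁻¹ * b⁻¹ ∈ K := by
    intro r hr
    exact exists_normal_rcomplement (hπ r hr)
      (many_rclasses_of_many_piclasses π hπ p hp hmin hk r hr)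
  choose! K hKn hKr hKidx hKcomm using hloc
  set N : Subgroup G := ⨅ r : π, K r.1 with hN
  have hNn : N.Normal := by
    haveI : ∀ r : π, (K r.1).Normal := fun r => hKn r.1 r.2
    exact Subgroup.normal_iInf_normal this
  have hNle : ∀ r ∈ π, N ≤ K r := fun r hr => iInf_le (fun r : π => K r.1) ⟨r, hr⟩
  have hmemN : ∀ g : G, (∀ r ∈ π, g ∈ K r) → g ∈ N := by
    intro g hg
    rw [hN, Subgroup.mem_iInf]
    exact fun r => hg r.1 r.2
  -- primes dividing `|N|` are outside `π`
  have h4a : ∀ r : ℕ, r.Prime → r ∣ Nat.card N → r ∉ π := by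
    intro r _ hrd hrπ
    exact hKr r hrπ (hrd.trans (Subgroup.card_dvd_of_le (hNle r hrπ)))
  -- primes dividing the index are in `π`
  have h4b : ∀ q : ℕ, q.Prime → q ∣ N.index → q ∈ π := by
    intro q hq hqd
    by_contra hqπ
    haveI : Fact q.Prime := ⟨hq⟩
    have hqd' : q ∣ Nat.card (G ⧸ N) := hqd
    obtain ⟨gbar, hg⟩ := exists_prime_orderOf_dvd_card' q hqd'
    obtain ⟨g, rfl⟩ := QuotientGroup.mk_surjective gbar
    have hgq : g ^ q ∈ N := by
      rw [← QuotientGroup.eq_one_iff, QuotientGroup.mk_pow, ← hg]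
      exact pow_orderOf_eq_one _
    have hgN : g ∈ N := by
      apply hmemN
      intro r hr
      haveI := hKn r hr
      have h1 : (QuotientGroup.mk g : G ⧸ K r) ^ q = 1 := by
        rw [← QuotientGroup.mk_pow, QuotientGroup.eq_one_iff]
        exact hNle r hr hgq
      have h2 : (QuotientGroup.mk g : G ⧸ K r) ^ (r ^ (Nat.card G).factorization r) = 1 := by
        rw [← hKidx r hr]
        exact pow_card_eq_one'
      have hne : q ≠ r := fun h => hqπ (h ▸ hr)
      have hcop : Nat.Coprime q (r ^ (Nat.card G).factorization r) :=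
        Nat.Coprime.pow_right _ ((Nat.coprime_primes hq (hπ r hr)).mpr hne)
      have h3 : orderOf (QuotientGroup.mk g : G ⧸ K r) ∣ 1 := by
        rw [← hcop.gcd_eq_one]
        exact Nat.dvd_gcd (orderOf_dvd_of_pow_eq_one h1) (orderOf_dvd_of_pow_eq_one h2)
      have h4 : (QuotientGroup.mk g : G ⧸ K r) = 1 := orderOf_eq_one_iff.mp (Nat.dvd_one.mp h3)
      exact (QuotientGroup.eq_one_iff g).mp h4
    have h5 : (QuotientGroup.mk g : G ⧸ N) = 1 := (QuotientGroup.eq_one_iff g).mpr hgN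
    rw [h5, orderOf_one] at hg
    exact hq.one_lt.ne hg
  refine ⟨⟨N, hNn, h4a, h4b⟩, ?_⟩
  -- Schur–Zassenhaus
  have hcop : Nat.Coprime (Nat.card N) N.index := by
    apply Nat.Coprime.symm
    apply Nat.coprime_of_dvd
    intro q hq hq1 hq2
    exact h4a q hq hq2 (h4b q hq hq1)
  haveI := hNn
  obtain ⟨H, hH⟩ := Subgroup.exists_right_complement'_of_coprime hcop
  have hHidx : H.index = Nat.card N := hH.index_eq_card
  have hHcard : Nat.card H = N.index := hH.symm.index_eq_card.symm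
  refine ⟨H, ⟨?_, ?_⟩, ⟨⟨fun a b => ?_⟩⟩⟩
  · intro q hq hqd
    rw [hHcard] at hqd
    exact h4b q hq hqd
  · intro q hq hqπ hqd
    rw [hHidx] at hqd
    exact h4a q hq hqd hqπ
  · have h1 : (a : G) * b * (a : G)⁻¹ * (b : G)⁻¹ ∈ N :=
      hmemN _ (fun r hr => hKcomm r hr a b)
    have h2 : (a : G) * b * (a : G)⁻¹ * (b : G)⁻¹ ∈ H :=
      H.mul_mem (H.mul_mem (H.mul_mem a.2 b.2) (H.inv_mem a.2)) (H.inv_mem b.2)
    have h3 : (a : G) * b * (a : G)⁻¹ * (b : G)⁻¹ ∈ N ⊓ H := ⟨h1, h2⟩
    rw [hH.disjoint.eq_bot, Subgroup.mem_bot] at h3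
    apply Subtype.ext
    show (a : G) * b = b * a
    have : (a : G) * b = ((a : G) * b * (a : G)⁻¹ * (b : G)⁻¹) * (b * a) := by group
    rw [this, h3, one_mul]

end Cfsg.Agent.Lib.Helper65_PClasses
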