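/-
Helper library (helper65): counting conjugacy classes, part 11:
a Burnside-lemma bound with two parameters (index of the "kernel" and fixed-point ratio),
and the fixed-point bound for the action of `N_G(P)` on a Sylow `p`-subgroup `P`.
-/
import Mathlib
import Cfsg.Agent.Lib.Helper65_PClasses3

set_option autoImplicit false

namespace Cfsg.Agent.Lib.Helper65_PClasses

/-- Burnside-type bound with two parameters: if a subgroup `C` has index at least `m` and every
element outside `C` fixes at most `|X|/(q+1)` points, then the number of orbits is at most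
`(q+m)|X| / (m(q+1))`. -/
theorem burnside_bound_gen {N X : Type*} [Group N] [MulAction N X] [Finite N] [Finite X]
    (C : Subgroup N) (m q : ℕ) (hm : m * Nat.card C ≤ Nat.card N)
    (hfix : ∀ n : N, n ∉ C → (q + 1) * Nat.card (MulAction.fixedBy X n) ≤ Nat.card X) :
    m * (q + 1) * Nat.card (Quotient (MulAction.orbitRel N X)) ≤ (q + m) * Nat.card X := by
  classical
  have : Fintype N := Fintype.ofFinite N
  have : Fintype X := Fintype.ofFinite X
  have : Fintype (Quotient (MulAction.orbitRel N X)) := Fintype.ofFinite _
  have hB := MulAction.sum_card_fixedBy_eq_card_orbits_mul_card_group N X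
  simp only [Nat.card_eq_fintype_card] at hfix ⊢
  set o := Fintype.card (Quotient (MulAction.orbitRel N X)) with ho
  set x := Fintype.card X with hx
  set b := Fintype.card N with hb
  set S1 := Finset.univ.filter (fun n : N => n ∈ C) with hS1
  set S2 := Finset.univ.filter (fun n : N => ¬ n ∈ C) with hS2
  have hsplit : ∑ n : N, Fintype.card (MulAction.fixedBy X n) =
      ∑ n ∈ S1, Fintype.card (MulAction.fixedBy X n) + ∑ n ∈ S2, Fintype.card (MulAction.fixedBy X n) :=
    (Finset.sum_filter_add_sum_filter_not Finset.univ (fun n : N => n ∈ C) _).symm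
  have h1 : ∑ n ∈ S1, Fintype.card (MulAction.fixedBy X n) ≤ S1.card * x := by
    rw [← smul_eq_mul, ← Finset.sum_const]
    apply Finset.sum_le_sum
    intro n _
    exact Fintype.card_subtype_le _
  have h2 : (q + 1) * ∑ n ∈ S2, Fintype.card (MulAction.fixedBy X n) ≤ S2.card * x := by
    rw [Finset.mul_sum, ← smul_eq_mul (a := S2.card), ← Finset.sum_const]
    apply Finset.sum_le_sum
    intro n hn
    rw [hS2, Finset.mem_filter] at hn
    exact hfix n hn.2
  have hab : S1.card + S2.card = b := by
    rw [hS1, hS2, hb, ← Finset.card_univ]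
    exact Finset.card_filter_add_card_filter_not (fun n : N => n ∈ C)
  have ha : S1.card = Nat.card C := by
    rw [Nat.card_eq_fintype_card, Fintype.card_subtype]
  have hm' : m * S1.card ≤ b := by
    rw [ha, hb, ← Nat.card_eq_fintype_card]
    exact hm
  have hbpos : 0 < b := Fintype.card_pos
  -- (q+1) * (o * b) ≤ S1.card * ((q+1) * x) + S2.card * x
  have hmain : (q + 1) * (o * b) ≤ S1.card * ((q + 1) * x) + S2.card * x := by
    rw [← hB, hsplit, mul_add]
    have := Nat.mul_le_mul_left (q + 1) h1
    nlinarith
  have h5 : m * (q + 1) * o * b ≤ (q + m) * x * b := by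
    rw [← hab] at hmain hm' ⊢
    generalize S1.card = a at *
    generalize S2.card = a' at *
    -- m * ((q+1) * (o * (a+a'))) ≤ m * (a * ((q+1) * x) + a' * x)
    have h6 := Nat.mul_le_mul_left m hmain
    have h7 : m * (a * ((q + 1) * x) + a' * x) = (m * a) * (q * x) + m * ((a + a') * x) := by ring
    have h8 : (m * a) * (q * x) ≤ (a + a') * (q * x) := Nat.mul_le_mul_right _ hm'
    calc m * (q + 1) * o * (a + a') = m * ((q + 1) * (o * (a + a'))) := by ring
      _ ≤ m * (a * ((q + 1) * x) + a' * x) := h6
      _ = (m * a) * (q * x) + m * ((a + a') * x) := h7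
      _ ≤ (a + a') * (q * x) + m * ((a + a') * x) := Nat.add_le_add_right h8 _
      _ = (q + m) * x * (a + a') := by ring
  exact Nat.le_of_mul_le_mul_right h5 hbpos

variable {G : Type*} [Group G]

/-- an element of `N_G(P)` not centralizing the Sylow `p`-subgroup `P` fixes at most `|P|/p`
elements of `P`. -/
theorem card_fixedBy_normalizerAction_le [Finite G] {p : ℕ} [hp : Fact p.Prime] (P : Sylow p G)
    (n : Subgroup.normalizer ((P : Subgroup G) : Set G))
    (hn : (n : G) ∉ Subgroup.centralizer ((P : Subgroup G) : Set G)) :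
    p * Nat.card (@MulAction.fixedBy _ (P : Subgroup G) _ (normalizerAction (P : Subgroup G)) n) ≤
      Nat.card (P : Subgroup G) := by
  letI := normalizerAction (P : Subgroup G)
  set F : Subgroup (P : Subgroup G) :=
    (Subgroup.centralizer ({(n : G)} : Set G)).subgroupOf (P : Subgroup G) with hF
  have hset : (MulAction.fixedBy (P : Subgroup G) n : Set (P : Subgroup G)) = (F : Set _) := by
    ext x
    rw [MulAction.mem_fixedBy, SetLike.mem_coe, hF, Subgroup.mem_subgroupOf,
      Subgroup.mem_centralizer_singleton_iff]
    constructor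
    · intro hx
      have h1 : (n : G) * x * (n : G)⁻¹ = x := congrArg Subtype.val hx
      calc (x : G) * n = ((n : G) * x * (n : G)⁻¹) * n := by rw [h1]
        _ = n * x := by group
    · intro hx
      apply Subtype.ext
      show (n : G) * x * (n : G)⁻¹ = x
      rw [← hx]; group
  have hcard : Nat.card (MulAction.fixedBy (P : Subgroup G) n) = Nat.card F := by
    exact Nat.card_congr (Equiv.setCongr hset)
  rw [hcard]
  have hFtop : F ≠ ⊤ := by
    intro hFt
    apply hn
    rw [Subgroup.mem_centralizer_iff]
    intro y hy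
    have : (⟨y, hy⟩ : (P : Subgroup G)) ∈ F := hFt ▸ Subgroup.mem_top _
    rw [hF, Subgroup.mem_subgroupOf, Subgroup.mem_centralizer_singleton_iff] at this
    exact this
  obtain ⟨k, hk⟩ := P.isPGroup'.index F
  have hk0 : k ≠ 0 := by
    rintro rfl
    rw [pow_zero] at hk
    exact hFtop (Subgroup.index_eq_one.mp hk)
  have hdvd : p ∣ F.index := hk ▸ dvd_pow_self p hk0
  obtain ⟨m, hm⟩ := hdvd
  have h3 := Subgroup.card_mul_index F
  have hmpos : 0 < m := by
    rcases Nat.eq_zero_or_pos m with h0 | h0
    · rw [h0, mul_zero] at hm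
      exact absurd hm Subgroup.index_ne_zero_of_finite
    · exact h0
  rw [← h3, hm]
  calc p * Nat.card F = p * Nat.card F * 1 := (mul_one _).symm
    _ ≤ p * Nat.card F * m := Nat.mul_le_mul_left _ hmpos
    _ = Nat.card F * (p * m) := by ring

end Cfsg.Agent.Lib.Helper65_PClasses
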