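/-
Helper library (helper65): counting conjugacy classes, part 12:
peeling primes off the other way round: `k_{ρ ∪ τ}(G) ≤ |G|_ρ * k_τ(G)`.
-/
import Mathlib
import Cfsg.Agent.Lib.Helper65_PClasses8

set_option autoImplicit false

namespace Cfsg.Agent.Lib.Helper65_PClasses

universe u

variable {G : Type*} [Group G]

/-- the decomposition injection, with the roles of the `s`-part and the `s'`-part exchanged. -/
theorem card_commPairs_insert_le' [Finite G] {s : ℕ} (hs : s.Prime) (τ : Finset ℕ) :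
    Nat.card (CommPairs (G := G) (IsPiElt (insert s τ))) ≤
      ∑ᶠ y : {y : G // IsPiElt τ y},
        Nat.card (CommPairs (G := Subgroup.centralizer ({(y : G)} : Set G)) (IsPiElt {s})) := by
  classical
  have : Fintype {y : G // IsPiElt τ y} := Fintype.ofFinite _
  rw [finsum_eq_sum_of_fintype, ← Nat.card_sigma]
  let F : CommPairs (G := G) (IsPiElt (insert s τ)) →
      Σ y : {y : G // IsPiElt τ y},
        CommPairs (G := Subgroup.centralizer ({(y : G)} : Set G)) (IsPiElt {s}) :=
    fun q => ⟨⟨rcPart s q.1.1, isPiElt_rcPart hs τ q.1.1 q.2.1⟩,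
      ⟨(⟨rPart s q.1.1, Subgroup.mem_centralizer_singleton_iff.mpr
          (rPart_mul_rcPart_comm s q.1.1)⟩,
        ⟨q.1.2, Subgroup.mem_centralizer_singleton_iff.mpr (commute_rcPart s q.2.2).symm⟩),
        ⟨(isPiElt_subtype_iff {s} _ _ _).mpr (isPiElt_rPart hs q.1.1),
          Subtype.ext (commute_rPart s q.2.2)⟩⟩⟩
  let ψ : (Σ y : {y : G // IsPiElt τ y},
        CommPairs (G := Subgroup.centralizer ({(y : G)} : Set G)) (IsPiElt {s})) → G × G × G :=
    fun t => ((t.1 : G), ((t.2.1.1 : G), (t.2.1.2 : G)))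
  apply Nat.card_le_card_of_injective F
  intro q q' hqq
  have h1 := congrArg ψ hqq
  have h2 : (rcPart s q.1.1, (rPart s q.1.1, q.1.2)) = (rcPart s q'.1.1, (rPart s q'.1.1, q'.1.2)) :=
    h1
  rw [Prod.mk.injEq, Prod.mk.injEq] at h2
  obtain ⟨ha, hb, hc⟩ := h2
  apply Subtype.ext
  apply Prod.ext
  · rw [← rPart_mul_rcPart hs q.1.1, ← rPart_mul_rcPart hs q'.1.1, ha, hb]
  · exact hc

/-- peeling one prime: `k_{τ ∪ {s}}(G) ≤ |G|_s * k_τ(G)`. -/
theorem card_classesOf_insert_le' [Finite G] {s : ℕ} (hs : s.Prime) (τ : Finset ℕ) :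
    Nat.card (ClassesOf (G := G) (IsPiElt (insert s τ))) ≤
      s ^ (Nat.card G).factorization s * Nat.card (ClassesOf (G := G) (IsPiElt τ)) := by
  classical
  have : Fintype {y : G // IsPiElt τ y} := Fintype.ofFinite _
  have hpos : 0 < Nat.card G := Nat.card_pos
  apply Nat.le_of_mul_le_mul_right _ hpos
  rw [card_classesOf_mul_card _ (isPiElt_conj _), mul_assoc,
    card_classesOf_mul_card _ (isPiElt_conj _), card_commPairs_eq_sum (IsPiElt τ)]
  refine le_trans (card_commPairs_insert_le' hs τ) ?_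
  rw [finsum_eq_sum_of_fintype, finsum_eq_sum_of_fintype, Finset.mul_sum]
  apply Finset.sum_le_sum
  intro y _
  rw [← card_classesOf_mul_card _ (isPiElt_conj {s})]
  apply Nat.mul_le_mul_right
  refine le_trans (card_classesOf_singleton_le hs) ?_
  apply Nat.pow_le_pow_right hs.pos
  exact (Nat.factorization_le_iff_dvd Nat.card_pos.ne' Nat.card_pos.ne').mpr
    (Subgroup.card_subgroup_dvd_card _) s

/-- peeling a set of primes: `k_{ρ ∪ τ}(G) ≤ |G|_ρ * k_τ(G)`. -/
theorem card_classesOf_union_le [Finite G] (ρ : Finset ℕ) (hρ : ∀ s ∈ ρ, s.Prime) (τ : Finset ℕ) :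
    Nat.card (ClassesOf (G := G) (IsPiElt (ρ ∪ τ))) ≤
      (∏ s ∈ ρ, s ^ (Nat.card G).factorization s) * Nat.card (ClassesOf (G := G) (IsPiElt τ)) := by
  classical
  induction ρ using Finset.induction_on with
  | empty =>
    rw [Finset.empty_union, Finset.prod_empty, one_mul]
  | insert s ρ' hsρ ih =>
    have hs : s.Prime := hρ s (Finset.mem_insert_self s ρ')
    have hρ' : ∀ t ∈ ρ', t.Prime := fun t ht => hρ t (Finset.mem_insert_of_mem ht)
    rw [Finset.insert_union, Finset.prod_insert hsρ, mul_assoc]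
    refine le_trans (card_classesOf_insert_le' hs (ρ' ∪ τ)) ?_
    exact Nat.mul_le_mul_left _ (ih hρ')

end Cfsg.Agent.Lib.Helper65_PClasses
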