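/-
Helper library (helper65): counting conjugacy classes, part 13:
`2 * k_{2,r}(G) ≤ |G|_2 * (k_r(G) + k_c(G))`, where `k_c` counts the classes of `r`-elements
centralized by a full Sylow 2-subgroup.
-/
import Mathlib
import Cfsg.Agent.Lib.Helper65_PClasses12

set_option autoImplicit false

namespace Cfsg.Agent.Lib.Helper65_PClasses

universe u

variable {G : Type*} [Group G]

/-- an `r`-element centralized by a full Sylow 2-subgroup. -/
def IsTwoCentralElt (r : ℕ) (y : G) : Prop :=
  IsPiElt {r} y ∧ ∃ S : Sylow 2 G, (S : Subgroup G) ≤ Subgroup.centralizer ({y} : Set G)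

theorem isTwoCentralElt_conj (r : ℕ) (g y : G) (hy : IsTwoCentralElt r y) :
    IsTwoCentralElt r (g * y * g⁻¹) := by
  obtain ⟨h1, S, hS⟩ := hy
  refine ⟨isPiElt_conj _ g y h1, g • S, ?_⟩
  intro x hx
  rw [Sylow.coe_subgroup_smul] at hx
  obtain ⟨s, hs, rfl⟩ := hx
  have h2 := Subgroup.mem_centralizer_singleton_iff.mp (hS hs)
  rw [Subgroup.mem_centralizer_singleton_iff]
  show (MulAut.conj g) s * (g * y * g⁻¹) = g * y * g⁻¹ * (MulAut.conj g) s
  rw [MulAut.conj_apply]
  calc g * s * g⁻¹ * (g * y * g⁻¹) = g * (s * y) * g⁻¹ := by group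
    _ = g * (y * s) * g⁻¹ := by rw [h2]
    _ = g * y * g⁻¹ * (g * s * g⁻¹) := by group

/-- if the centralizer of `y` has full 2-part, it contains a Sylow 2-subgroup of `G`. -/
theorem exists_sylow_le_centralizer [Finite G] (y : G)
    (h : (Nat.card (Subgroup.centralizer ({y} : Set G))).factorization 2 =
      (Nat.card G).factorization 2) :
    ∃ S : Sylow 2 G, (S : Subgroup G) ≤ Subgroup.centralizer ({y} : Set G) := by
  haveI : Fact (Nat.Prime 2) := ⟨Nat.prime_two⟩
  set H := Subgroup.centralizer ({y} : Set G) with hH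
  obtain S₀ : Sylow 2 H := default
  set T : Subgroup G := (S₀ : Subgroup H).map H.subtype with hT
  have hcard : Nat.card T = 2 ^ (Nat.card G).factorization 2 := by
    rw [hT, Subgroup.card_map_of_injective H.subtype_injective, S₀.card_eq_multiplicity, h]
  refine ⟨Sylow.ofCard T hcard, ?_⟩
  rw [Sylow.coe_ofCard]
  exact Subgroup.map_subtype_le _

omit [Group G] in
theorem finsum_subtype_eq_sum_ite [Fintype G] (E : G → Prop) [DecidablePred E] (f : G → ℕ) :
    ∑ᶠ y : {y : G // E y}, f y = ∑ y : G, if E y then f y else 0 := by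
  rw [finsum_eq_sum_of_fintype, ← Finset.sum_filter]
  exact (Finset.sum_subtype (Finset.univ.filter E) (p := E) (by simp) f).symm

/-- **Key inequality.** -/
theorem two_mul_card_classesOf_two_r_le [Finite G] (r : ℕ) :
    2 * Nat.card (ClassesOf (G := G) (IsPiElt (insert 2 {r}))) ≤
      2 ^ (Nat.card G).factorization 2 *
        (Nat.card (ClassesOf (G := G) (IsPiElt {r})) +
          Nat.card (ClassesOf (G := G) (IsTwoCentralElt r))) := by
  classical
  have : Fintype G := Fintype.ofFinite G
  have hpos : 0 < Nat.card G := Nat.card_pos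
  apply Nat.le_of_mul_le_mul_right _ hpos
  have e1 : 2 * Nat.card (ClassesOf (G := G) (IsPiElt (insert 2 {r}))) * Nat.card G =
      2 * Nat.card (CommPairs (G := G) (IsPiElt (insert 2 {r}))) := by
    rw [mul_assoc, card_classesOf_mul_card _ (isPiElt_conj _)]
  have e2 : 2 ^ (Nat.card G).factorization 2 *
        (Nat.card (ClassesOf (G := G) (IsPiElt {r})) +
          Nat.card (ClassesOf (G := G) (IsTwoCentralElt r))) * Nat.card G =
      2 ^ (Nat.card G).factorization 2 *
        (Nat.card (CommPairs (G := G) (IsPiElt {r})) +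
          Nat.card (CommPairs (G := G) (IsTwoCentralElt r))) := by
    rw [mul_assoc, add_mul, card_classesOf_mul_card _ (isPiElt_conj _),
      card_classesOf_mul_card _ (isTwoCentralElt_conj r)]
  rw [e1, e2]
  refine le_trans (Nat.mul_le_mul_left 2 (card_commPairs_insert_le' Nat.prime_two {r})) ?_
  rw [card_commPairs_eq_sum (IsPiElt {r}), card_commPairs_eq_sum (IsTwoCentralElt r)]
  rw [finsum_subtype_eq_sum_ite (IsPiElt {r})
      (fun y => Nat.card (CommPairs (G := Subgroup.centralizer ({(y : G)} : Set G)) (IsPiElt {2}))),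
    finsum_subtype_eq_sum_ite (IsPiElt {r})
      (fun y => Nat.card (Subgroup.centralizer ({(y : G)} : Set G))),
    finsum_subtype_eq_sum_ite (IsTwoCentralElt r)
      (fun y => Nat.card (Subgroup.centralizer ({(y : G)} : Set G))),
    ← Finset.sum_add_distrib, Finset.mul_sum, Finset.mul_sum]
  apply Finset.sum_le_sum
  intro y _
  by_cases hy : IsPiElt {r} y
  · rw [if_pos hy, if_pos hy]
    set H := Subgroup.centralizer ({y} : Set G) with hH
    have hg : Nat.card (CommPairs (G := H) (IsPiElt {2})) ≤
        2 ^ (Nat.card H).factorization 2 * Nat.card H := by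
      rw [← card_classesOf_mul_card _ (isPiElt_conj {2})]
      exact Nat.mul_le_mul_right _ (card_classesOf_singleton_le Nat.prime_two)
    have hle : (Nat.card H).factorization 2 ≤ (Nat.card G).factorization 2 :=
      (Nat.factorization_le_iff_dvd Nat.card_pos.ne' Nat.card_pos.ne').mpr
        (Subgroup.card_subgroup_dvd_card _) 2
    by_cases hc : IsTwoCentralElt r y
    · rw [if_pos hc]
      have h3 : 2 ^ (Nat.card H).factorization 2 ≤ 2 ^ (Nat.card G).factorization 2 :=
        Nat.pow_le_pow_right (by norm_num) hle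
      calc 2 * Nat.card (CommPairs (G := H) (IsPiElt {2}))
          ≤ 2 * (2 ^ (Nat.card H).factorization 2 * Nat.card H) := Nat.mul_le_mul_left 2 hg
        _ ≤ 2 * (2 ^ (Nat.card G).factorization 2 * Nat.card H) :=
            Nat.mul_le_mul_left 2 (Nat.mul_le_mul_right _ h3)
        _ = 2 ^ (Nat.card G).factorization 2 * (Nat.card H + Nat.card H) := by ring
    · rw [if_neg hc, add_zero]
      have hlt : (Nat.card H).factorization 2 < (Nat.card G).factorization 2 := by
        rcases lt_or_eq_of_le hle with h4 | h4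
        · exact h4
        · exact absurd ⟨hy, exists_sylow_le_centralizer y h4⟩ hc
      have h3 : 2 * 2 ^ (Nat.card H).factorization 2 ≤ 2 ^ (Nat.card G).factorization 2 := by
        rw [← pow_succ']
        exact Nat.pow_le_pow_right (by norm_num) hlt
      calc 2 * Nat.card (CommPairs (G := H) (IsPiElt {2}))
          ≤ 2 * (2 ^ (Nat.card H).factorization 2 * Nat.card H) := Nat.mul_le_mul_left 2 hg
        _ = (2 * 2 ^ (Nat.card H).factorization 2) * Nat.card H := by ring
        _ ≤ 2 ^ (Nat.card G).factorization 2 * Nat.card H := Nat.mul_le_mul_right _ h3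
  · rw [if_neg hy, if_neg hy]
    have hc : ¬ IsTwoCentralElt r y := fun h => hy h.1
    rw [if_neg hc]
    simp

end Cfsg.Agent.Lib.Helper65_PClasses
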