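/-
Helper library (helper65): counting conjugacy classes, part 14:
the index of `C_G(R)` in `N_G(R)` is never `r` for a Sylow `r`-subgroup `R`; and in a group with a
normal 2-complement where that index is 2, an element of `R` centralized by a Sylow 2-subgroup
is centralized by `N_G(R)`.
-/
import Mathlib
import Cfsg.Agent.Lib.Helper65_PClasses11
import Cfsg.Agent.Lib.Helper65_PClasses13
import Cfsg.Agent.Lib.Helper35_FrobeniusNPC
import Cfsg.Agent.Lib.Helper24_CoprimeAction

set_option autoImplicit false

namespace Cfsg.Agent.Lib.Helper65_PClasses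

open Cfsg.Agent.Lib.Helper35_FrobeniusNPC Cfsg.Agent.Lib.Helper24_CoprimeAction

variable {G : Type*} [Group G]

/-- the centralizer of `R` inside the normalizer of `R`. -/
abbrev centInNorm (R : Subgroup G) : Subgroup (Subgroup.normalizer (R : Set G)) :=
  (Subgroup.centralizer (R : Set G)).subgroupOf (Subgroup.normalizer (R : Set G))

/-- `|N_G(R) : C_G(R)| ≠ r` for a Sylow `r`-subgroup `R`. -/
theorem index_centInNorm_ne [Finite G] {r : ℕ} [hr : Fact r.Prime] (R : Sylow r G) :
    (centInNorm (R : Subgroup G)).index ≠ r := by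
  intro hidx
  by_cases hRC : (R : Subgroup G) ≤ Subgroup.centralizer ((R : Subgroup G) : Set G)
  · have h1 : (R : Subgroup G).subgroupOf (Subgroup.normalizer ((R : Subgroup G) : Set G)) ≤
        centInNorm (R : Subgroup G) := by
      intro x hx
      exact Subgroup.mem_subgroupOf.mpr (hRC (Subgroup.mem_subgroupOf.mp hx))
    have h2 := Subgroup.relIndex_mul_index h1
    have h4 : (R : Subgroup G).relIndex (Subgroup.normalizer ((R : Subgroup G) : Set G)) ∣
        (R : Subgroup G).index := Subgroup.relIndex_dvd_index_of_le Subgroup.le_normalizer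
    have h5 : r ∣ (R : Subgroup G).index := by
      refine dvd_trans ?_ h4
      show r ∣ ((R : Subgroup G).subgroupOf (Subgroup.normalizer ((R : Subgroup G) : Set G))).index
      rw [← h2, hidx]
      exact dvd_mul_left _ _
    exact R.not_dvd_index h5
  · rw [SetLike.not_le_iff_exists] at hRC
    obtain ⟨x, hxR, hxC⟩ := hRC
    apply hxC
    rw [Subgroup.mem_centralizer_iff]
    intro y hy
    let x' : Subgroup.normalizer ((R : Subgroup G) : Set G) := ⟨x, Subgroup.le_normalizer hxR⟩
    let y' : Subgroup.normalizer ((R : Subgroup G) : Set G) := ⟨y, Subgroup.le_normalizer hy⟩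
    have hcard : Nat.card (Subgroup.normalizer ((R : Subgroup G) : Set G) ⧸ centInNorm (R : Subgroup G)) = r := by
      rw [← Subgroup.index_eq_card]; exact hidx
    have hx1 : (QuotientGroup.mk x' :
        Subgroup.normalizer ((R : Subgroup G) : Set G) ⧸ centInNorm (R : Subgroup G)) ≠ 1 := by
      rw [Ne, QuotientGroup.eq_one_iff]
      exact fun h => hxC (Subgroup.mem_subgroupOf.mp h)
    obtain ⟨i, hi⟩ := Subgroup.mem_zpowers_iff.mp
      (mem_zpowers_of_prime_card hcard hx1 (g' := QuotientGroup.mk y'))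
    have h6 : (x' ^ i)⁻¹ * y' ∈ centInNorm (R : Subgroup G) := by
      rw [← QuotientGroup.eq, QuotientGroup.mk_zpow]; exact hi
    have h7 : (x ^ i)⁻¹ * y ∈ Subgroup.centralizer ((R : Subgroup G) : Set G) := by
      have := Subgroup.mem_subgroupOf.mp h6
      simpa using this
    have hc : Commute x ((x ^ i)⁻¹ * y) := Subgroup.mem_centralizer_iff.mp h7 x hxR
    have hxi : Commute x (x ^ i) := (Commute.refl x).zpow_right i
    have hy2 : y = x ^ i * ((x ^ i)⁻¹ * y) := by group
    have hcomm : Commute x y := by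
      rw [hy2]; exact hxi.mul_right hc
    exact hcomm.eq.symm

/-- in a group with a normal 2-complement and `|N_G(R) : C_G(R)| = 2`, an element of the Sylow
`r`-subgroup `R` centralized by a Sylow 2-subgroup of `G` is centralized by `N_G(R)`. -/
theorem commute_normalizer_of_isTwoCentralElt [Finite G] {r : ℕ} [hr : Fact r.Prime] (hr2 : r ≠ 2)
    (hnpc : HasNPC 2 G) (R : Sylow r G) (hidx : (centInNorm (R : Subgroup G)).index = 2)
    {y : G} (hyR : y ∈ (R : Subgroup G)) (hy : IsTwoCentralElt r y) :
    ∀ n ∈ Subgroup.normalizer ((R : Subgroup G) : Set G), n * y = y * n := by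
  haveI : Fact (Nat.Prime 2) := ⟨Nat.prime_two⟩
  have hodd : ∀ x ∈ (R : Subgroup G), (orderOf x).Coprime 2 := by
    intro x hx
    obtain ⟨k, hk⟩ := exists_orderOf_eq_of_mem_sylow R hx
    rw [hk]
    apply Nat.Coprime.pow_left
    exact (Nat.coprime_primes hr.out Nat.prime_two).mpr hr2
  -- (a) `R` is abelian
  have hRC : (R : Subgroup G) ≤ Subgroup.centralizer ((R : Subgroup G) : Set G) := by
    intro x hx
    let x' : Subgroup.normalizer ((R : Subgroup G) : Set G) := ⟨x, Subgroup.le_normalizer hx⟩
    have h1 : x' * x' ∈ centInNorm (R : Subgroup G) :=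
      (Subgroup.mul_mem_iff_of_index_two hidx).mpr Iff.rfl
    have h2 : x * x ∈ Subgroup.centralizer ((R : Subgroup G) : Set G) :=
      Subgroup.mem_subgroupOf.mp h1
    have hodd' := hodd x hx
    obtain ⟨k, hk⟩ : ∃ k, orderOf x + 1 = 2 * k := by
      have : orderOf x % 2 = 1 := by
        rcases Nat.mod_two_eq_zero_or_one (orderOf x) with h | h
        · exfalso
          have h3 : 2 ∣ orderOf x := Nat.dvd_of_mod_eq_zero h
          exact absurd (Nat.Coprime.eq_one_of_dvd hodd'.symm h3) (by norm_num)
        · exact h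
      exact ⟨(orderOf x + 1) / 2, by omega⟩
    have h3 : x = (x * x) ^ k := by
      rw [← pow_two, ← pow_mul, ← hk, pow_succ, pow_orderOf_eq_one, one_mul]
    rw [h3]
    exact Subgroup.pow_mem _ h2 k
  obtain ⟨-, S, hS⟩ := hy
  set H := Subgroup.centralizer ({y} : Set G) with hH
  have hRH : (R : Subgroup G) ≤ H := by
    intro x hx
    rw [hH, Subgroup.mem_centralizer_singleton_iff]
    exact (Subgroup.mem_centralizer_iff.mp (hRC hx) y hyR).symm
  obtain ⟨K, hKn, hKc, n, hKi⟩ := hnpc
  haveI := hKn
  have hRK : (R : Subgroup G) ≤ K := fun x hx => mem_of_coprime_order K hKi (hodd x hx)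
  set L : Subgroup G := K ⊓ H with hL
  have hSL : (S : Subgroup G) ≤ Subgroup.normalizer (L : Set G) := by
    intro s hs
    have hsH : s ∈ H := hS hs
    rw [Subgroup.mem_normalizer_iff]
    intro h
    constructor
    · rintro ⟨h1, h2⟩
      exact ⟨hKn.conj_mem h h1 s, H.mul_mem (H.mul_mem hsH h2) (H.inv_mem hsH)⟩
    · rintro ⟨h1, h2⟩
      refine ⟨?_, ?_⟩
      · have := hKn.conj_mem _ h1 s⁻¹
        simpa [mul_assoc] using this
      · have := H.mul_mem (H.mul_mem (H.inv_mem hsH) h2) hsH
        simpa [mul_assoc] using this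
  have hcop : (Nat.card (S : Subgroup G)).Coprime (Nat.card L) := by
    obtain ⟨a, ha⟩ := S.2.exists_card_eq
    rw [ha]
    apply Nat.Coprime.pow_left
    have h1 : Nat.card L ∣ Nat.card K := Subgroup.card_dvd_of_le inf_le_left
    exact (Nat.Coprime.coprime_dvd_left h1 hKc).symm
  have hsolv : Group.IsSolvable (S : Subgroup G) := by
    have := S.2.isNilpotent
    infer_instance
  obtain ⟨R₁, hR₁⟩ := exists_invariant_sylow (S : Subgroup G) L hSL hcop (Or.inl hsolv) r
  have hRL : (R : Subgroup G) ≤ L := le_inf hRK hRH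
  set R' : Sylow r L := R.subtype hRL with hR'
  obtain ⟨c, hc⟩ := MulAction.exists_smul_eq L R' R₁
  have himg : sylowImage R' = (R : Subgroup G) := by
    show ((R.subtype hRL : Sylow r L) : Subgroup L).map L.subtype = R
    rw [Sylow.coe_subtype, Subgroup.subgroupOf_map_subtype, inf_eq_left.mpr hRL]
  have h9 : sylowImage R₁ = (R : Subgroup G).map (MulAut.conj (c : G)).toMonoidHom := by
    rw [← hc, sylowImage_smul, himg]
  have hcH : (c : G) ∈ H := (inf_le_right : L ≤ H) c.2
  -- conjugates of elements of `S` normalize `R` and centralize `y`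
  have hnorm : ∀ s ∈ (S : Subgroup G),
      (c : G)⁻¹ * (s * c) ∈ Subgroup.normalizer ((R : Subgroup G) : Set G) := by
    intro s hs
    have h1 := mem_normalizer_iff_map_conj.mp (hR₁ hs)
    rw [h9] at h1
    have h2 := congrArg (fun T : Subgroup G => T.map (MulAut.conj (c : G)⁻¹).toMonoidHom) h1
    simp only [Cfsg.Agent.S0001.map_conj_mul] at h2
    rw [inv_mul_cancel, map_conj_of_mem _ (Subgroup.one_mem _)] at h2
    exact mem_normalizer_iff_map_conj.mpr h2
  have hcomm : ∀ s ∈ (S : Subgroup G), (c : G)⁻¹ * (s * c) * y = y * ((c : G)⁻¹ * (s * c)) := by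
    intro s hs
    have : (c : G)⁻¹ * (s * c) ∈ H := H.mul_mem (H.inv_mem hcH) (H.mul_mem (hS hs) hcH)
    exact Subgroup.mem_centralizer_singleton_iff.mp this
  -- some such conjugate lies outside the centralizer of `R`
  have hex : ∃ s ∈ (S : Subgroup G),
      (c : G)⁻¹ * (s * c) ∉ Subgroup.centralizer ((R : Subgroup G) : Set G) := by
    by_contra hcon
    push Not at hcon
    set S₁ : Subgroup G := (S : Subgroup G).map (MulAut.conj (c : G)⁻¹).toMonoidHom with hS₁
    have hS₁le : S₁ ≤ Subgroup.centralizer ((R : Subgroup G) : Set G) := by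
      rintro _ ⟨s, hs, rfl⟩
      have := hcon s hs
      simpa [mul_assoc] using this
    have hcardS₁ : Nat.card S₁ = 2 ^ (Nat.card G).factorization 2 := by
      rw [hS₁, Subgroup.card_map_of_injective (MulAut.conj (c : G)⁻¹).injective,
        S.card_eq_multiplicity]
    have h1 : 2 ^ (Nat.card G).factorization 2 ∣
        Nat.card (Subgroup.centralizer ((R : Subgroup G) : Set G)) := by
      rw [← hcardS₁]; exact Subgroup.card_dvd_of_le hS₁le
    have h2 : Nat.card (centInNorm (R : Subgroup G)) =
        Nat.card (Subgroup.centralizer ((R : Subgroup G) : Set G)) :=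
      card_subgroupOf_of_le (Subgroup.centralizer_le_normalizer _)
    have h3 := Subgroup.card_mul_index (centInNorm (R : Subgroup G))
    rw [hidx, h2] at h3
    have h4 : Nat.card (Subgroup.normalizer ((R : Subgroup G) : Set G)) ∣ Nat.card G :=
      Subgroup.card_subgroup_dvd_card _
    have h5 : 2 ^ ((Nat.card G).factorization 2 + 1) ∣ Nat.card G := by
      refine dvd_trans ?_ h4
      rw [← h3, pow_succ]
      exact Nat.mul_dvd_mul_right h1 2
    exact Nat.pow_succ_factorization_not_dvd Nat.card_pos.ne' Nat.prime_two h5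
  obtain ⟨s, hs, hsC⟩ := hex
  set t : G := (c : G)⁻¹ * (s * c) with ht
  intro m hm
  let m' : Subgroup.normalizer ((R : Subgroup G) : Set G) := ⟨m, hm⟩
  let t' : Subgroup.normalizer ((R : Subgroup G) : Set G) := ⟨t, hnorm s hs⟩
  have ht' : t' ∉ centInNorm (R : Subgroup G) := fun h => hsC (Subgroup.mem_subgroupOf.mp h)
  by_cases hm' : m' ∈ centInNorm (R : Subgroup G)
  · exact (Subgroup.mem_centralizer_iff.mp (Subgroup.mem_subgroupOf.mp hm') y hyR).symm
  · have h1 : m' * t' ∈ centInNorm (R : Subgroup G) :=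
      (Subgroup.mul_mem_iff_of_index_two hidx).mpr ⟨fun h => absurd h hm', fun h => absurd h ht'⟩
    have h2 : m * t ∈ Subgroup.centralizer ((R : Subgroup G) : Set G) :=
      Subgroup.mem_subgroupOf.mp h1
    have h3 : y * (m * t) = m * t * y := Subgroup.mem_centralizer_iff.mp h2 y hyR
    have h4 : t * y = y * t := hcomm s hs
    calc m * y = m * (y * t) * t⁻¹ := by group
      _ = m * (t * y) * t⁻¹ := by rw [h4]
      _ = (m * t * y) * t⁻¹ := by group
      _ = (y * (m * t)) * t⁻¹ := by rw [h3]
      _ = y * m := by group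

end Cfsg.Agent.Lib.Helper65_PClasses
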