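/-
Helper library (helper65): counting conjugacy classes, part 15:
in a group with a normal 2-complement, if `k_{2,r}(G) > |G|_2 |G|_r / 2` for an odd prime `r`,
then `N_G(R) ≤ C_G(R)` for a Sylow `r`-subgroup `R`.
-/
import Mathlib
import Cfsg.Agent.Lib.Helper65_PClasses14

set_option autoImplicit false

namespace Cfsg.Agent.Lib.Helper65_PClasses

open Cfsg.Agent.Lib.Helper35_FrobeniusNPC

variable {G : Type*} [Group G]

/-- every class of `r`-elements meets a given Sylow `r`-subgroup. -/
theorem exists_mem_sylow_of_classesOf [Finite G] {r : ℕ} [hr : Fact r.Prime] (R : Sylow r G)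
    (E : G → Prop) (hE : ∀ y, E y → IsPiElt {r} y) (c : ClassesOf (G := G) E) :
    ∃ y ∈ (R : Subgroup G), ConjClasses.mk y = c.1 := by
  obtain ⟨c₀, hc⟩ := c
  obtain ⟨y₀, rfl⟩ := ConjClasses.mk_surjective c₀
  have hy₀ : ∃ k : ℕ, orderOf y₀ = r ^ k :=
    (isPiElt_singleton_iff hr.out y₀).mp (hE y₀ (hc y₀ ConjClasses.mem_carrier_mk))
  obtain ⟨x, hx, hxR, hxc⟩ := exists_mem_sylow_pclass R (pclass r y₀ hy₀)
  exact ⟨x, hxR, congrArg Subtype.val hxc⟩

/-- in the index-2 case there are few classes of 2-central `r`-elements. -/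
theorem three_mul_card_classesOf_isTwoCentralElt_le [Finite G] {r : ℕ} [hr : Fact r.Prime]
    (hr2 : r ≠ 2) (hnpc : HasNPC 2 G) (R : Sylow r G)
    (hidx : (centInNorm (R : Subgroup G)).index = 2) :
    3 * Nat.card (ClassesOf (G := G) (IsTwoCentralElt r)) ≤ Nat.card (R : Subgroup G) := by
  set F : Subgroup G := (R : Subgroup G) ⊓
    Subgroup.centralizer ((Subgroup.normalizer ((R : Subgroup G) : Set G) : Subgroup G) : Set G) with hF
  have key : ∀ c : ClassesOf (G := G) (IsTwoCentralElt r), ∃ y : F, ConjClasses.mk (y : G) = c.1 := by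
    intro c
    obtain ⟨y, hyR, hyc⟩ := exists_mem_sylow_of_classesOf R (IsTwoCentralElt r) (fun _ h => h.1) c
    have hy : IsTwoCentralElt r y := c.2 y (ConjClasses.mem_carrier_iff_mk_eq.mpr hyc)
    have h1 := commute_normalizer_of_isTwoCentralElt hr2 hnpc R hidx hyR hy
    exact ⟨⟨y, ⟨hyR, Subgroup.mem_centralizer_iff.mpr h1⟩⟩, hyc⟩
  choose f hf using key
  have hinj : Function.Injective f := by
    intro c c' hcc
    apply Subtype.ext
    rw [← hf c, ← hf c', hcc]
  have h1 : Nat.card (ClassesOf (G := G) (IsTwoCentralElt r)) ≤ Nat.card F :=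
    Nat.card_le_card_of_injective f hinj
  -- `r * |F| ≤ |R|`
  set F' : Subgroup (R : Subgroup G) := F.subgroupOf (R : Subgroup G) with hF'
  have hcardF : Nat.card F' = Nat.card F :=
    Cfsg.Agent.Lib.Helper24_CoprimeAction.card_subgroupOf_of_le inf_le_left
  have hFtop : F' ≠ ⊤ := by
    intro hFt
    have h2 : (R : Subgroup G) ≤ F := Subgroup.subgroupOf_eq_top.mp hFt
    have h3 : centInNorm (R : Subgroup G) = ⊤ := by
      rw [Subgroup.subgroupOf_eq_top]
      intro n hn
      rw [Subgroup.mem_centralizer_iff]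
      intro x hx
      have := Subgroup.mem_centralizer_iff.mp (h2 hx).2 n hn
      exact this.symm
    rw [h3, Subgroup.index_top] at hidx
    norm_num at hidx
  obtain ⟨k, hk⟩ := R.isPGroup'.index F'
  have hk0 : k ≠ 0 := by
    rintro rfl
    rw [pow_zero] at hk
    exact hFtop (Subgroup.index_eq_one.mp hk)
  have hdvd : r ∣ F'.index := hk ▸ dvd_pow_self r hk0
  obtain ⟨m, hm⟩ := hdvd
  have h3 := Subgroup.card_mul_index F'
  have hmpos : 0 < m := by
    rcases Nat.eq_zero_or_pos m with h0 | h0
    · rw [h0, mul_zero] at hm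
      exact absurd hm Subgroup.index_ne_zero_of_finite
    · exact h0
  have hr3 : 3 ≤ r := by
    have := hr.out.two_le
    omega
  rw [← h3, hm, hcardF]
  calc 3 * Nat.card (ClassesOf (G := G) (IsTwoCentralElt r)) ≤ 3 * Nat.card F :=
        Nat.mul_le_mul_left 3 h1
    _ ≤ r * Nat.card F := Nat.mul_le_mul_right _ hr3
    _ = Nat.card F * r * 1 := by ring
    _ ≤ Nat.card F * r * m := Nat.mul_le_mul_left _ hmpos
    _ = Nat.card F * (r * m) := by ring

/-- **Main lemma for the pair `{2, r}`.** -/
theorem normalizer_le_centralizer_of_many_two_r_classes [Finite G] {r : ℕ} [hr : Fact r.Prime]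
    (hr2 : r ≠ 2) (hnpc : HasNPC 2 G) (R : Sylow r G)
    (h : 2 ^ (Nat.card G).factorization 2 * Nat.card (R : Subgroup G) <
      2 * Nat.card (ClassesOf (G := G) (IsPiElt (insert 2 {r})))) :
    Subgroup.normalizer ((R : Subgroup G) : Set G) ≤
      Subgroup.centralizer ((R : Subgroup G) : Set G) := by
  by_contra hne
  have hkey := two_mul_card_classesOf_two_r_le (G := G) r
  suffices hsum : Nat.card (ClassesOf (G := G) (IsPiElt {r})) +
      Nat.card (ClassesOf (G := G) (IsTwoCentralElt r)) ≤ Nat.card (R : Subgroup G) from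
    absurd (lt_of_lt_of_le h (le_trans hkey (Nat.mul_le_mul_left _ hsum))) (lt_irrefl _)
  have hkc_le : Nat.card (ClassesOf (G := G) (IsTwoCentralElt r)) ≤
      Nat.card (ClassesOf (G := G) (IsPiElt {r})) := by
    apply Nat.card_le_card_of_injective
      (fun c : ClassesOf (G := G) (IsTwoCentralElt r) =>
        (⟨c.1, fun x hx => (c.2 x hx).1⟩ : ClassesOf (G := G) (IsPiElt {r})))
    intro c c' hcc
    have h1 := congrArg (fun z : ClassesOf (G := G) (IsPiElt {r}) => z.1) hcc
    exact Subtype.ext h1
  letI := normalizerAction (R : Subgroup G)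
  have hko : Nat.card (ClassesOf (G := G) (IsPiElt {r})) ≤
      Nat.card (Quotient (MulAction.orbitRel (Subgroup.normalizer ((R : Subgroup G) : Set G))
        (R : Subgroup G))) := by
    rw [card_classesOf_singleton hr.out]
    exact card_pclasses_le_card_orbits R
  have hw1 : (centInNorm (R : Subgroup G)).index ≠ 1 := by
    intro h1
    apply hne
    exact Subgroup.subgroupOf_eq_top.mp (Subgroup.index_eq_one.mp h1)
  have hw0 : (centInNorm (R : Subgroup G)).index ≠ 0 := Subgroup.index_ne_zero_of_finite
  have hfix : ∀ n : Subgroup.normalizer ((R : Subgroup G) : Set G), n ∉ centInNorm (R : Subgroup G) →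
      r * Nat.card (MulAction.fixedBy (R : Subgroup G) n) ≤ Nat.card (R : Subgroup G) :=
    fun n hn => card_fixedBy_normalizerAction_le R n (fun h => hn (Subgroup.mem_subgroupOf.mpr h))
  have hcw := Subgroup.card_mul_index (centInNorm (R : Subgroup G))
  have hr3 : 3 ≤ r := by
    have := hr.out.two_le
    omega
  have hfix3 : ∀ n : Subgroup.normalizer ((R : Subgroup G) : Set G), n ∉ centInNorm (R : Subgroup G) →
      (2 + 1) * Nat.card (MulAction.fixedBy (R : Subgroup G) n) ≤ Nat.card (R : Subgroup G) :=
    fun n hn => le_trans (Nat.mul_le_mul_right _ hr3) (hfix n hn)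
  set kr := Nat.card (ClassesOf (G := G) (IsPiElt {r})) with hkr
  set kc := Nat.card (ClassesOf (G := G) (IsTwoCentralElt r)) with hkc
  set o := Nat.card (Quotient (MulAction.orbitRel (Subgroup.normalizer ((R : Subgroup G) : Set G))
        (R : Subgroup G))) with ho
  set ρ := Nat.card (R : Subgroup G) with hρ
  set w := (centInNorm (R : Subgroup G)).index with hw
  rcases Nat.lt_or_ge w 4 with hw4 | hw4
  · have hw23 : w = 2 ∨ w = 3 := by omega
    rcases hw23 with hw2 | hw3
    · -- index 2
      have hm : 2 * Nat.card (centInNorm (R : Subgroup G)) ≤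
          Nat.card (Subgroup.normalizer ((R : Subgroup G) : Set G)) := by
        rw [← hcw, hw2, mul_comm]
      have hB := burnside_bound_gen (centInNorm (R : Subgroup G)) 2 2 hm hfix3
      have hC := three_mul_card_classesOf_isTwoCentralElt_le hr2 hnpc R hw2
      omega
    · -- index 3
      have hr3' : r ≠ 3 := fun h3 => index_centInNorm_ne R (hw3.trans h3.symm)
      have hr5 : 5 ≤ r := by
        by_contra hlt
        push Not at hlt
        have hp : r.Prime := hr.out
        have h4 : r = 4 := by omega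
        rw [h4] at hp
        exact absurd hp (by norm_num)
      have hfix5 : ∀ n : Subgroup.normalizer ((R : Subgroup G) : Set G),
          n ∉ centInNorm (R : Subgroup G) →
          (4 + 1) * Nat.card (MulAction.fixedBy (R : Subgroup G) n) ≤ Nat.card (R : Subgroup G) :=
        fun n hn => le_trans (Nat.mul_le_mul_right _ hr5) (hfix n hn)
      have hm : 3 * Nat.card (centInNorm (R : Subgroup G)) ≤
          Nat.card (Subgroup.normalizer ((R : Subgroup G) : Set G)) := by
        rw [← hcw, hw3, mul_comm]
      have hB := burnside_bound_gen (centInNorm (R : Subgroup G)) 3 4 hm hfix5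
      omega
  · -- index at least 4
    have hm : 4 * Nat.card (centInNorm (R : Subgroup G)) ≤
        Nat.card (Subgroup.normalizer ((R : Subgroup G) : Set G)) := by
      rw [← hcw, mul_comm]
      exact Nat.mul_le_mul_left _ hw4
    have hB := burnside_bound_gen (centInNorm (R : Subgroup G)) 4 2 hm hfix3
    omega

end Cfsg.Agent.Lib.Helper65_PClasses
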