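/-
Helper library (helper65): counting conjugacy classes, part 16:
if `2 ∈ π` and `k_π(G) > |G|_π / 2` then `G` has a normal `π`-complement and an abelian Hall
`(π \ {2})`-subgroup.
-/
import Mathlib
import Cfsg.Prelude.Def_OddOrderLocal
import Cfsg.Agent.Lib.Helper65_PClasses15
import Cfsg.Agent.S3895

set_option autoImplicit false

namespace Cfsg.Agent.Lib.Helper65_PClasses

open Cfsg.Agent.Lib.Helper35_FrobeniusNPC

universe u

variable {G : Type u} [Group G]

/-- local normal complements give a normal `π`-complement. -/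
theorem normal_pi_complement_of_local [Finite G] (π : Finset ℕ) (hπ : ∀ r ∈ π, r.Prime)
    (hloc : ∀ r ∈ π, ∃ K : Subgroup G, K.Normal ∧ ¬ r ∣ Nat.card K ∧
      K.index = r ^ (Nat.card G).factorization r) :
    ∃ N : Subgroup G, N.Normal ∧ (∀ r : ℕ, r.Prime → r ∣ Nat.card N → r ∉ π) ∧
      ∀ r : ℕ, r.Prime → r ∣ N.index → r ∈ π := by
  choose! K hKn hKr hKidx using hloc
  set N : Subgroup G := ⨅ r : π, K r.1 with hN
  have hNn : N.Normal := by
    haveI : ∀ r : π, (K r.1).Normal := fun r => hKn r.1 r.2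
    exact Subgroup.normal_iInf_normal this
  have hNle : ∀ r ∈ π, N ≤ K r := fun r hr => iInf_le (fun r : π => K r.1) ⟨r, hr⟩
  have hmemN : ∀ g : G, (∀ r ∈ π, g ∈ K r) → g ∈ N := by
    intro g hg
    rw [hN, Subgroup.mem_iInf]
    exact fun r => hg r.1 r.2
  have h4a : ∀ r : ℕ, r.Prime → r ∣ Nat.card N → r ∉ π := by
    intro r _ hrd hrπ
    exact hKr r hrπ (hrd.trans (Subgroup.card_dvd_of_le (hNle r hrπ)))
  have h4b : ∀ q : ℕ, q.Prime → q ∣ N.index → q ∈ π := by
    intro q hq hqd
    by_contra hqπ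
    haveI : Fact q.Prime := ⟨hq⟩
    have hqd' : q ∣ Nat.card (G ⧸ N) := hqd
    obtain ⟨gbar, hg⟩ := exists_prime_orderOf_dvd_card' q hqd'
    obtain ⟨g, rfl⟩ := QuotientGroup.mk_surjective gbar
    have hgq : g ^ q ∈ N := by
      rw [← QuotientGroup.eq_one_iff, QuotientGroup.mk_pow, ← hg]
      exact pow_orderOf_eq_one _
    have hgN : g ∈ N := by
      apply hmemN
      intro r hr
      haveI := hKn r hr
      have h1 : (QuotientGroup.mk g : G ⧸ K r) ^ q = 1 := by
        rw [← QuotientGroup.mk_pow, QuotientGroup.eq_one_iff]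
        exact hNle r hr hgq
      have h2 : (QuotientGroup.mk g : G ⧸ K r) ^ (r ^ (Nat.card G).factorization r) = 1 := by
        rw [← hKidx r hr]
        exact pow_card_eq_one'
      have hne : q ≠ r := fun h => hqπ (h ▸ hr)
      have hcop : Nat.Coprime q (r ^ (Nat.card G).factorization r) :=
        Nat.Coprime.pow_right _ ((Nat.coprime_primes hq (hπ r hr)).mpr hne)
      have h3 : orderOf (QuotientGroup.mk g : G ⧸ K r) ∣ 1 := by
        rw [← hcop.gcd_eq_one]
        exact Nat.dvd_gcd (orderOf_dvd_of_pow_eq_one h1) (orderOf_dvd_of_pow_eq_one h2)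
      have h4 : (QuotientGroup.mk g : G ⧸ K r) = 1 := orderOf_eq_one_iff.mp (Nat.dvd_one.mp h3)
      exact (QuotientGroup.eq_one_iff g).mp h4
    have h5 : (QuotientGroup.mk g : G ⧸ N) = 1 := (QuotientGroup.eq_one_iff g).mpr hgN
    rw [h5, orderOf_one] at hg
    exact hq.one_lt.ne hg
  exact ⟨N, hNn, h4a, h4b⟩

/-- local normal complements with abelian quotients give an abelian Hall subgroup. -/
theorem abelian_hall_of_local [Finite G] (σ : Finset ℕ) (hσ : ∀ r ∈ σ, r.Prime)
    (hloc : ∀ r ∈ σ, ∃ K : Subgroup G, K.Normal ∧ ¬ r ∣ Nat.card K ∧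
      K.index = r ^ (Nat.card G).factorization r ∧ ∀ a b : G, a * b * a⁻¹ * b⁻¹ ∈ K) :
    ∃ H : Subgroup G, Cfsg.IsPiHall (↑σ : Set ℕ) H ∧ IsMulCommutative H := by
  choose! K hKn hKr hKidx hKcomm using hloc
  set M : Subgroup G := ⨅ r : σ, K r.1 with hM
  have hMn : M.Normal := by
    haveI : ∀ r : σ, (K r.1).Normal := fun r => hKn r.1 r.2
    exact Subgroup.normal_iInf_normal this
  have hMle : ∀ r ∈ σ, M ≤ K r := fun r hr => iInf_le (fun r : σ => K r.1) ⟨r, hr⟩
  have hmemM : ∀ g : G, (∀ r ∈ σ, g ∈ K r) → g ∈ M := by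
    intro g hg
    rw [hM, Subgroup.mem_iInf]
    exact fun r => hg r.1 r.2
  obtain ⟨M', hM'n, h5a, h5b⟩ : ∃ M' : Subgroup G, M' = M ∧
      (∀ r : ℕ, r.Prime → r ∣ Nat.card M → r ∉ σ) ∧ ∀ r : ℕ, r.Prime → r ∣ M.index → r ∈ σ := by
    refine ⟨M, rfl, ?_, ?_⟩
    · intro r _ hrd hrσ
      exact hKr r hrσ (hrd.trans (Subgroup.card_dvd_of_le (hMle r hrσ)))
    · intro q hq hqd
      by_contra hqσ
      haveI : Fact q.Prime := ⟨hq⟩
      have hqd' : q ∣ Nat.card (G ⧸ M) := hqd
      obtain ⟨gbar, hg⟩ := exists_prime_orderOf_dvd_card' q hqd'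
      obtain ⟨g, rfl⟩ := QuotientGroup.mk_surjective gbar
      have hgq : g ^ q ∈ M := by
        rw [← QuotientGroup.eq_one_iff, QuotientGroup.mk_pow, ← hg]
        exact pow_orderOf_eq_one _
      have hgM : g ∈ M := by
        apply hmemM
        intro r hr
        haveI := hKn r hr
        have h1 : (QuotientGroup.mk g : G ⧸ K r) ^ q = 1 := by
          rw [← QuotientGroup.mk_pow, QuotientGroup.eq_one_iff]
          exact hMle r hr hgq
        have h2 : (QuotientGroup.mk g : G ⧸ K r) ^ (r ^ (Nat.card G).factorization r) = 1 := by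
          rw [← hKidx r hr]
          exact pow_card_eq_one'
        have hne : q ≠ r := fun h => hqσ (h ▸ hr)
        have hcop : Nat.Coprime q (r ^ (Nat.card G).factorization r) :=
          Nat.Coprime.pow_right _ ((Nat.coprime_primes hq (hσ r hr)).mpr hne)
        have h3 : orderOf (QuotientGroup.mk g : G ⧸ K r) ∣ 1 := by
          rw [← hcop.gcd_eq_one]
          exact Nat.dvd_gcd (orderOf_dvd_of_pow_eq_one h1) (orderOf_dvd_of_pow_eq_one h2)
        have h4 : (QuotientGroup.mk g : G ⧸ K r) = 1 := orderOf_eq_one_iff.mp (Nat.dvd_one.mp h3)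
        exact (QuotientGroup.eq_one_iff g).mp h4
      have h5 : (QuotientGroup.mk g : G ⧸ M) = 1 := (QuotientGroup.eq_one_iff g).mpr hgM
      rw [h5, orderOf_one] at hg
      exact hq.one_lt.ne hg
  have hcop : Nat.Coprime (Nat.card M) M.index := by
    apply Nat.Coprime.symm
    apply Nat.coprime_of_dvd
    intro q hq hq1 hq2
    exact h5a q hq hq2 (h5b q hq hq1)
  haveI := hMn
  obtain ⟨H, hH⟩ := Subgroup.exists_right_complement'_of_coprime hcop
  have hHidx : H.index = Nat.card M := hH.index_eq_card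
  have hHcard : Nat.card H = M.index := hH.symm.index_eq_card.symm
  refine ⟨H, ⟨?_, ?_⟩, ⟨⟨fun a b => ?_⟩⟩⟩
  · intro q hq hqd
    rw [hHcard] at hqd
    exact h5b q hq hqd
  · intro q hq hqσ hqd
    rw [hHidx] at hqd
    exact h5a q hq hqd hqσ
  · have h1 : (a : G) * b * (a : G)⁻¹ * (b : G)⁻¹ ∈ M :=
      hmemM _ (fun r hr => hKcomm r hr a b)
    have h2 : (a : G) * b * (a : G)⁻¹ * (b : G)⁻¹ ∈ H :=
      H.mul_mem (H.mul_mem (H.mul_mem a.2 b.2) (H.inv_mem a.2)) (H.inv_mem b.2)
    have h3 : (a : G) * b * (a : G)⁻¹ * (b : G)⁻¹ ∈ M ⊓ H := ⟨h1, h2⟩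
    rw [hH.disjoint.eq_bot, Subgroup.mem_bot] at h3
    apply Subtype.ext
    show (a : G) * b = b * a
    have : (a : G) * b = ((a : G) * b * (a : G)⁻¹ * (b : G)⁻¹) * (b * a) := by group
    rw [this, h3, one_mul]

/-- the normal `r`-complement coming from Burnside's transfer theorem. -/
theorem exists_normal_rcomplement_of_le [Finite G] {r : ℕ} [Fact r.Prime] (P : Sylow r G)
    (hNC : Subgroup.normalizer ((P : Subgroup G) : Set G) ≤
      Subgroup.centralizer ((P : Subgroup G) : Set G)) :
    ∃ K : Subgroup G, K.Normal ∧ ¬ r ∣ Nat.card K ∧ K.index = r ^ (Nat.card G).factorization r ∧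
      ∀ a b : G, a * b * a⁻¹ * b⁻¹ ∈ K := by
  refine ⟨(MonoidHom.transferSylow P hNC).ker, inferInstance,
    MonoidHom.not_dvd_card_ker_transferSylow P hNC, ?_, ?_⟩
  · rw [← P.card_eq_multiplicity]
    exact (MonoidHom.ker_transferSylow_isComplement' P hNC).symm.index_eq_card
  · intro a b
    rw [MonoidHom.mem_ker, map_mul, map_mul, map_mul, map_inv, map_inv]
    have hcomm : ∀ x y : (P : Subgroup G), x * y = y * x := by
      intro x y
      have hy : (y : G) ∈ Subgroup.centralizer ((P : Subgroup G) : Set G) :=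
        hNC (Subgroup.le_normalizer y.2)
      apply Subtype.ext
      exact Subgroup.mem_centralizer_iff.mp hy x x.2
    rw [hcomm ((MonoidHom.transferSylow P hNC) a), mul_assoc, mul_assoc, mul_inv_cancel_left,
      mul_inv_cancel]

/-- **Main theorem** (`π`-version with `2 ∈ π`). -/
theorem normal_pi_complement_of_many_piclasses_two [Finite G] (π : Finset ℕ)
    (hπ : ∀ r ∈ π, r.Prime) (h2 : 2 ∈ π)
    (hk : π.prod (fun r => r ^ (Nat.card G).factorization r) <
      2 * Nat.card (ClassesOf (G := G) (IsPiElt π))) :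
    (∃ N : Subgroup G, N.Normal ∧ (∀ r : ℕ, r.Prime → r ∣ Nat.card N → r ∉ π) ∧
      ∀ r : ℕ, r.Prime → r ∣ N.index → r ∈ π) ∧
    ∃ H : Subgroup G, Cfsg.IsPiHall ((↑π : Set ℕ) \ {2}) H ∧ IsMulCommutative H := by
  classical
  haveI : Fact (Nat.Prime 2) := ⟨Nat.prime_two⟩
  -- Step 1: many classes of 2-elements, hence a normal 2-complement
  have hσ : ∀ s ∈ π.erase 2, s.Prime := fun s hs => hπ s (Finset.mem_of_mem_erase hs)
  have hstep1 : 2 ^ (Nat.card G).factorization 2 <
      2 * Nat.card (ClassesOf (G := G) (IsPiElt {2})) := by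
    set M := ∏ s ∈ π.erase 2, s ^ (Nat.card G).factorization s with hMdef
    have hM : ∀ y : G,
        Nat.card (ClassesOf (G := Subgroup.centralizer ({y} : Set G)) (IsPiElt (π.erase 2))) ≤ M := by
      intro y
      refine le_trans (card_classesOf_isPiElt_le (π.erase 2) hσ (Subgroup.centralizer ({y} : Set G))) ?_
      apply Finset.prod_le_prod (fun _ _ => Nat.zero_le _)
      intro s hs
      apply Nat.pow_le_pow_right (hσ s hs).pos
      exact (Nat.factorization_le_iff_dvd Nat.card_pos.ne' Nat.card_pos.ne').mpr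
        (Subgroup.card_subgroup_dvd_card _) s
    have hD := card_classesOf_insert_le Nat.prime_two (π.erase 2) M hM
    rw [Finset.insert_erase h2] at hD
    have hprod : 2 ^ (Nat.card G).factorization 2 * M =
        π.prod (fun r => r ^ (Nat.card G).factorization r) :=
      Finset.mul_prod_erase π (fun r => r ^ (Nat.card G).factorization r) h2
    have hMpos : 0 < M := by
      apply Finset.prod_pos
      intro s hs
      exact Nat.pow_pos (hσ s hs).pos
    have h1 : 2 ^ (Nat.card G).factorization 2 * M <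
        2 * (M * Nat.card (ClassesOf (G := G) (IsPiElt {2}))) := by
      rw [hprod]
      exact lt_of_lt_of_le hk (Nat.mul_le_mul_left _ hD)
    have h3 : (2 ^ (Nat.card G).factorization 2) * M <
        (2 * Nat.card (ClassesOf (G := G) (IsPiElt {2}))) * M := by
      calc (2 ^ (Nat.card G).factorization 2) * M
          < 2 * (M * Nat.card (ClassesOf (G := G) (IsPiElt {2}))) := h1
        _ = (2 * Nat.card (ClassesOf (G := G) (IsPiElt {2}))) * M := by ring
    exact Nat.lt_of_mul_lt_mul_right h3
  have hnpc : HasNPC 2 G := by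
    obtain P : Sylow 2 G := default
    have h1 : Nat.card (P : Subgroup G) <
        2 * Nat.card {c : ConjClasses G // ∀ x ∈ c.carrier, ∃ k : ℕ, orderOf x = 2 ^ k} := by
      rw [P.card_eq_multiplicity, ← card_classesOf_singleton Nat.prime_two]
      exact hstep1
    obtain ⟨⟨P', N, hN, hc⟩, -⟩ := (Cfsg.Agent.S3895.result P).mp h1
    exact hasNPC_of_isComplement' hN P' hc
  -- Step 2: the local complements
  have hloc : ∀ r ∈ π, ∃ K : Subgroup G, K.Normal ∧ ¬ r ∣ Nat.card K ∧
      K.index = r ^ (Nat.card G).factorization r ∧ (r ≠ 2 → ∀ a b : G, a * b * a⁻¹ * b⁻¹ ∈ K) := by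
    intro r hr
    by_cases hr2 : r = 2
    · subst hr2
      obtain ⟨K, hKn, hKc, n, hKi⟩ := hnpc
      have hnd : ¬ 2 ∣ Nat.card K := fun hd =>
        absurd (Nat.Coprime.eq_one_of_dvd hKc.symm hd) (by norm_num)
      refine ⟨K, hKn, hnd, ?_, fun h => absurd rfl h⟩
      have h1 := K.card_mul_index
      rw [hKi] at h1
      have h3 : (Nat.card G).factorization 2 = n := by
        rw [← h1, Nat.factorization_mul Nat.card_pos.ne' (pow_pos (by norm_num) n).ne',
          Finsupp.add_apply, Nat.factorization_eq_zero_of_not_dvd hnd, zero_add,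
          Nat.Prime.factorization_pow Nat.prime_two, Finsupp.single_eq_same]
      rw [h3, hKi]
    · have hrp := hπ r hr
      haveI : Fact r.Prime := ⟨hrp⟩
      obtain R : Sylow r G := default
      -- peel everything except `2` and `r`
      set ρ : Finset ℕ := (π.erase 2).erase r with hρdef
      have hρ : ∀ s ∈ ρ, s.Prime := fun s hs =>
        hπ s (Finset.mem_of_mem_erase (Finset.mem_of_mem_erase hs))
      have hr' : r ∈ π.erase 2 := Finset.mem_erase.mpr ⟨hr2, hr⟩
      have hunion : ρ ∪ insert 2 {r} = π := by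
        ext s
        simp only [hρdef, Finset.mem_union, Finset.mem_erase, Finset.mem_insert,
          Finset.mem_singleton]
        constructor
        · rintro (⟨-, -, h⟩ | rfl | rfl)
          · exact h
          · exact h2
          · exact hr
        · intro hs
          by_cases hs2 : s = 2
          · exact Or.inr (Or.inl hs2)
          · by_cases hsr : s = r
            · exact Or.inr (Or.inr hsr)
            · exact Or.inl ⟨hsr, hs2, hs⟩
      have hU := card_classesOf_union_le (G := G) ρ hρ (insert 2 {r})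
      rw [hunion] at hU
      set M := ∏ s ∈ ρ, s ^ (Nat.card G).factorization s with hMdef
      have hprod : 2 ^ (Nat.card G).factorization 2 * (r ^ (Nat.card G).factorization r * M) =
          π.prod (fun r => r ^ (Nat.card G).factorization r) := by
        rw [hMdef, hρdef, Finset.mul_prod_erase (π.erase 2)
          (fun r => r ^ (Nat.card G).factorization r) hr',
          Finset.mul_prod_erase π (fun r => r ^ (Nat.card G).factorization r) h2]
      have hMpos : 0 < M := by
        apply Finset.prod_pos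
        intro s hs
        exact Nat.pow_pos (hρ s hs).pos
      have h1 : (2 ^ (Nat.card G).factorization 2 * r ^ (Nat.card G).factorization r) * M <
          (2 * Nat.card (ClassesOf (G := G) (IsPiElt (insert 2 {r})))) * M := by
        calc (2 ^ (Nat.card G).factorization 2 * r ^ (Nat.card G).factorization r) * M
            = π.prod (fun r => r ^ (Nat.card G).factorization r) := by rw [← hprod]; ring
          _ < 2 * Nat.card (ClassesOf (G := G) (IsPiElt π)) := hk
          _ ≤ 2 * (M * Nat.card (ClassesOf (G := G) (IsPiElt (insert 2 {r})))) :=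
              Nat.mul_le_mul_left _ hU
          _ = (2 * Nat.card (ClassesOf (G := G) (IsPiElt (insert 2 {r})))) * M := by ring
      have h3 := Nat.lt_of_mul_lt_mul_right h1
      rw [← R.card_eq_multiplicity] at h3
      have hNC := normalizer_le_centralizer_of_many_two_r_classes hr2 hnpc R h3
      obtain ⟨K, hK1, hK2, hK3, hK4⟩ := exists_normal_rcomplement_of_le R hNC
      exact ⟨K, hK1, hK2, hK3, fun _ => hK4⟩
  refine ⟨normal_pi_complement_of_local π hπ (fun r hr => ?_), ?_⟩
  · obtain ⟨K, h1, h2', h3, -⟩ := hloc r hr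
    exact ⟨K, h1, h2', h3⟩
  · have h5 := abelian_hall_of_local (G := G) (π.erase 2) hσ (fun r hr => by
      obtain ⟨K, h1, h2', h3, h4⟩ := hloc r (Finset.mem_of_mem_erase hr)
      exact ⟨K, h1, h2', h3, h4 (Finset.ne_of_mem_erase hr)⟩)
    rw [Finset.coe_erase] at h5
    exact h5

end Cfsg.Agent.Lib.Helper65_PClasses
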