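/-
Helper library (helper65): counting conjugacy classes of `p`-elements, part 4:
`k_p(G) > (p+1)|P|/(2p)` iff `G` has a normal `p`-complement and abelian Sylow `p`-subgroups.
-/
import Mathlib
import Cfsg.Prelude.Def_Transfer
import Cfsg.Agent.Lib.Helper65_PClasses3

set_option autoImplicit false

namespace Cfsg.Agent.Lib.Helper65_PClasses

variable {G : Type*} [Group G]

/-- forward direction: many classes of `p`-elements force a normal `p`-complement and an abelian
Sylow `p`-subgroup. -/
theorem npc_and_comm_of_many_pclasses [Finite G] {p : ℕ} [hp : Fact p.Prime] (P : Sylow p G)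
    (h : (p + 1) * Nat.card (P : Subgroup G) <
      2 * p * Nat.card {c : ConjClasses G // ∀ x ∈ c.carrier, ∃ k : ℕ, orderOf x = p ^ k}) :
    Cfsg.HasNormalPComplement p G ∧ IsMulCommutative (P : Subgroup G) := by
  have hNC := normalizer_le_centralizer_of_many_pclasses P h
  refine ⟨⟨P, (MonoidHom.transferSylow P hNC).ker, inferInstance,
    MonoidHom.ker_transferSylow_isComplement' P hNC⟩, ⟨⟨fun a b => ?_⟩⟩⟩
  have hb : (b : G) ∈ Subgroup.centralizer ((P : Subgroup G) : Set G) :=
    hNC (Subgroup.le_normalizer b.2)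
  apply Subtype.ext
  exact Subgroup.mem_centralizer_iff.mp hb a a.2

/-- converse: in a group with a normal `p`-complement and abelian Sylow `p`-subgroups, distinct
elements of a Sylow `p`-subgroup are not conjugate. -/
theorem many_pclasses_of_npc_of_comm [Finite G] {p : ℕ} [hp : Fact p.Prime] (P : Sylow p G)
    (hnpc : Cfsg.HasNormalPComplement p G) (hab : IsMulCommutative (P : Subgroup G)) :
    (p + 1) * Nat.card (P : Subgroup G) <
      2 * p * Nat.card {c : ConjClasses G // ∀ x ∈ c.carrier, ∃ k : ℕ, orderOf x = p ^ k} := by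
  obtain ⟨P', K, hKn, hcompl⟩ := hnpc
  -- `P'` is commutative
  let e := Sylow.equiv P P'
  have hP'comm : ∀ a b : (P' : Subgroup G), a * b = b * a := by
    intro a b
    have h1 : e.symm a * e.symm b = e.symm b * e.symm a := hab.is_comm.comm _ _
    rw [← map_mul, ← map_mul] at h1
    exact e.symm.injective h1
  -- the quotient `G ⧸ K` is commutative
  let φ := hcompl.symm.QuotientMulEquiv
  have hQcomm : ∀ a b : G ⧸ K, a * b = b * a := by
    intro a b
    have h1 : φ a * φ b = φ b * φ a := hP'comm _ _
    rw [← map_mul, ← map_mul] at h1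
    exact φ.injective h1
  -- injection from `P'` into the classes of `p`-elements
  let f : ↥(P' : Subgroup G) → {c : ConjClasses G // ∀ x ∈ c.carrier, ∃ k : ℕ, orderOf x = p ^ k} :=
    fun x => pclass p (x : G) (exists_orderOf_eq_of_mem_sylow P' x.2)
  have hf : Function.Injective f := by
    intro x y hxy
    rw [pclass_eq_iff, isConj_iff] at hxy
    obtain ⟨g, hg⟩ := hxy
    have h1 : (QuotientGroup.mk' K) (x : G) = (QuotientGroup.mk' K) (y : G) := by
      rw [← hg, map_mul, map_mul, hQcomm, ← mul_assoc, ← map_mul, inv_mul_cancel, map_one, one_mul]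
    have h2 : (x : G)⁻¹ * y ∈ K := QuotientGroup.eq.mp h1
    have h3 : (x : G)⁻¹ * y ∈ (P' : Subgroup G) := Subgroup.mul_mem _ (Subgroup.inv_mem _ x.2) y.2
    have h4 : (x : G)⁻¹ * y ∈ K ⊓ (P' : Subgroup G) := ⟨h2, h3⟩
    rw [hcompl.disjoint.eq_bot, Subgroup.mem_bot] at h4
    apply Subtype.ext
    exact inv_mul_eq_one.mp h4
  have hcard : Nat.card (P : Subgroup G) ≤
      Nat.card {c : ConjClasses G // ∀ x ∈ c.carrier, ∃ k : ℕ, orderOf x = p ^ k} := by
    rw [Nat.card_congr e.toEquiv]
    exact Nat.card_le_card_of_injective f hf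
  have hpos : 0 < Nat.card (P : Subgroup G) := Nat.card_pos
  have h2 := hp.out.two_le
  nlinarith

end Cfsg.Agent.Lib.Helper65_PClasses
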