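import Mathlib
import Cfsg.Agent.Lib.Helper77_SLnDefs
import Cfsg.Prelude.Def_Characters
import Cfsg.Agent.Lib.Helper30_S2332Conj
import Cfsg.Agent.Lib.Helper16_Char

/-!
# S2332 package CLS (helper77's market): the class of transvections has `N_n (q^(n-1) - 1)` elements

Transport to `SL (Fin n) F` along `slReindex`, where helper30's `Helper30_S2332Transv.card_transv_mul`
counts the transvections and `Helper30_S2332Conj.isConj_of_isTransv` shows that they form one class.
-/

set_option autoImplicit false
open Matrix Cfsg.Agent.Lib.Helper5_Transv Cfsg.Agent.Lib.Helper77_SLnDefs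

namespace Cfsg.Agent.Lib.Helper65_S2332_CLS

variable {F : Type*} [Field F] [Fintype F] [DecidableEq F] {κ : Type} [Fintype κ] [DecidableEq κ]
  {V : Type} [AddCommGroup V] [Module ℂ V] [FiniteDimensional ℂ V]

/-- the index of a centralizer is invariant under isomorphisms -/
theorem index_centralizer_mulEquiv {K N : Type*} [Group K] [Group N] (e : K ≃* N) (g : K) :
    (Subgroup.centralizer ({e g} : Set N)).index = (Subgroup.centralizer ({g} : Set K)).index := by
  have h : Subgroup.centralizer ({e g} : Set N)
      = (Subgroup.centralizer ({g} : Set K)).map (e : K →* N) := by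
    ext x
    rw [Subgroup.mem_centralizer_singleton_iff]
    constructor
    · intro hx
      refine ⟨e.symm x, ?_, by simp⟩
      rw [SetLike.mem_coe, Subgroup.mem_centralizer_singleton_iff]
      apply e.injective
      rw [map_mul, map_mul, MulEquiv.apply_symm_apply]
      exact hx
    · rintro ⟨y, hy, rfl⟩
      rw [SetLike.mem_coe, Subgroup.mem_centralizer_singleton_iff] at hy
      show e y * e g = e g * e y
      rw [← map_mul, ← map_mul, hy]
  rw [h, Subgroup.index_map_equiv]

/-- `(q - 1) N_n = q^n - 1` -/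
theorem NN_mul (q n : ℕ) (hq : 1 ≤ q) : NN q n * (q - 1) = q ^ n - 1 := by
  have h := geom_sum_mul_add (q - 1) n
  rw [Nat.sub_add_cancel hq] at h
  unfold NN
  omega

theorem index_centralizer_xu (hκ : 2 ≤ Fintype.card κ) (u : κ → F) (hu : u ≠ 0) :
    (Subgroup.centralizer ({xu u} : Set (Matrix.SpecialLinearGroup (Unit ⊕ κ) F))).index =
      NN (Fintype.card F) (Fintype.card κ + 1) * (Fintype.card F ^ Fintype.card κ - 1) := by
  classical
  obtain ⟨n, hn⟩ : ∃ n, n = Fintype.card κ + 1 := ⟨_, rfl⟩
  have hcard : Fintype.card (Unit ⊕ κ) = n := by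
    rw [Fintype.card_sum, Fintype.card_unit, hn, add_comm]
  let σ : Unit ⊕ κ ≃ Fin n := Fintype.equivFinOfCardEq hcard
  let f : Matrix.SpecialLinearGroup (Unit ⊕ κ) F ≃* Matrix.SpecialLinearGroup (Fin n) F :=
    slReindex σ
  rw [← index_centralizer_mulEquiv f (xu u)]
  -- the image is a transvection
  have ht : Cfsg.Agent.Lib.Helper30_S2332Transv.IsTransv (f (xu u)) := by
    refine ⟨(e0 : Unit ⊕ κ → F) ∘ σ.symm, ext0 u ∘ σ.symm, ?_, ?_, ?_, ?_⟩
    · intro h
      apply e0_ne_zero (F := F) (κ := κ)
      funext i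
      have := congrFun h (σ i)
      simpa using this
    · intro h
      apply hu
      funext i
      have := congrFun h (σ (Sum.inr i))
      simpa [ext0] using this
    · have h1 : (ext0 u ∘ σ.symm) ⬝ᵥ ((e0 : Unit ⊕ κ → F) ∘ σ.symm) = ext0 u ⬝ᵥ (e0 : Unit ⊕ κ → F) := by
        unfold dotProduct
        exact Equiv.sum_comp σ.symm (fun i => ext0 u i * (e0 : Unit ⊕ κ → F) i)
      rw [h1, ext0_dot_e0]
    · show Matrix.reindex σ σ (xu u).1 = _
      unfold xu
      rw [tvS_coe]
      ext i j
      simp [tv, Matrix.vecMulVec_apply, Matrix.one_apply]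
  have hn3 : 3 ≤ n := by omega
  -- the class is the set of transvections
  rw [← Cfsg.Agent.Lib.Helper16_Char.card_conj_eq_index]
  have hset : Finset.univ.filter (fun k : Matrix.SpecialLinearGroup (Fin n) F => IsConj (f (xu u)) k) =
      Finset.univ.filter (fun k : Matrix.SpecialLinearGroup (Fin n) F =>
        Cfsg.Agent.Lib.Helper30_S2332Transv.IsTransv k) := by
    ext k
    simp only [Finset.mem_filter, Finset.mem_univ, true_and]
    constructor
    · intro h
      obtain ⟨c, hc⟩ := isConj_iff.mp h
      rw [← hc]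
      exact ht.conj c
    · intro hk
      exact Cfsg.Agent.Lib.Helper30_S2332Conj.isConj_of_isTransv hn3 ht hk
  rw [hset, ← Fintype.card_subtype, ← Nat.card_eq_fintype_card]
  have hcount := Cfsg.Agent.Lib.Helper30_S2332Transv.card_transv_mul (F := F) (n := n)
  rw [Nat.card_eq_fintype_card (α := F)] at hcount
  have hq : 2 ≤ Fintype.card F := Fintype.one_lt_card
  have hNN := NN_mul (Fintype.card F) n (by omega)
  have hn1 : n - 1 = Fintype.card κ := by omega
  rw [hn1, ← hNN] at hcount
  have hpos : 0 < Fintype.card F - 1 := by omega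
  rw [← hn]
  have h2 : Nat.card {t : Matrix.SpecialLinearGroup (Fin n) F //
      Cfsg.Agent.Lib.Helper30_S2332Transv.IsTransv t} * (Fintype.card F - 1) =
      NN (Fintype.card F) n * (Fintype.card F ^ Fintype.card κ - 1) * (Fintype.card F - 1) := by
    rw [hcount]; ring
  exact Nat.eq_of_mul_eq_mul_right hpos h2

end Cfsg.Agent.Lib.Helper65_S2332_CLS
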