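import Mathlib
import Cfsg.Agent.Lib.Helper77_SLnDefs
import Cfsg.Prelude.Def_Characters

/-!
# S2332 package TRACEB (helper77's market): trace of a Levi element through the weight decomposition
-/

set_option autoImplicit false
open Matrix Cfsg.Agent.Lib.Helper5_Transv Cfsg.Agent.Lib.Helper77_SLnDefs

namespace Cfsg.Agent.Lib.Helper65_S2332_TRACEB

variable {F : Type*} [Field F] [Fintype F] [DecidableEq F] {κ : Type} [Fintype κ] [DecidableEq κ]
  {V : Type} [AddCommGroup V] [Module ℂ V] [FiniteDimensional ℂ V]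

theorem trace_emb_split (ρ : Representation ℂ (Matrix.SpecialLinearGroup (Unit ⊕ κ) F) V)
    (ψ : AddChar F ℂ) (hint : DirectSum.IsInternal (fun v : κ → F => wsp ρ ψ v))
    (A : Matrix.SpecialLinearGroup κ F)
    (hfix : ∀ v : κ → F, v ≠ 0 → A.1 *ᵥ v = v → ∀ w ∈ wsp ρ ψ v, ρ (emb A) w = w) :
    LinearMap.trace ℂ V (ρ (emb A)) =
      LinearMap.trace ℂ (wsp ρ ψ (0 : κ → F)) (psiRep ρ ψ A) +
        ∑ v ∈ Finset.univ.filter (fun v : κ → F => v ≠ 0 ∧ A.1 *ᵥ v = v),
          (Module.finrank ℂ (wsp ρ ψ v) : ℂ) := by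
  classical
  let b : (v : κ → F) → Module.Basis (Module.Free.ChooseBasisIndex ℂ (wsp ρ ψ v)) ℂ (wsp ρ ψ v) :=
    fun v => Module.Free.chooseBasis ℂ (wsp ρ ψ v)
  have hmaps : ∀ v : κ → F, ∀ w ∈ wsp ρ ψ v, ρ (emb A) w ∈ wsp ρ ψ (A.1 *ᵥ v) :=
    fun v w hw => wsp_emb ρ ψ A v w hw
  -- the contribution of each label
  have key : ∀ v : κ → F,
      ∑ i, ((hint.collectedBasis b).repr (ρ (emb A) (hint.collectedBasis b ⟨v, i⟩))) ⟨v, i⟩ =
        if v = 0 then LinearMap.trace ℂ (wsp ρ ψ (0 : κ → F)) (psiRep ρ ψ A)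
        else if A.1 *ᵥ v = v then (Module.finrank ℂ (wsp ρ ψ v) : ℂ) else 0 := by
    intro v
    have hbv : ∀ i, hint.collectedBasis b ⟨v, i⟩ = ((b v i : wsp ρ ψ v) : V) := by
      intro i
      rw [hint.collectedBasis_coe]
    by_cases hv0 : v = 0
    · subst hv0
      rw [if_pos rfl, LinearMap.trace_eq_matrix_trace ℂ (b 0), Matrix.trace]
      apply Finset.sum_congr rfl
      intro i _
      rw [Matrix.diag, LinearMap.toMatrix_apply, hbv]
      have hmem : ρ (emb A) ((b 0 i : wsp ρ ψ (0 : κ → F)) : V) ∈ wsp ρ ψ (0 : κ → F) := by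
        have := hmaps 0 _ (b 0 i).2
        rwa [Matrix.mulVec_zero] at this
      rw [hint.collectedBasis_repr_of_mem b hmem]
      rfl
    · rw [if_neg hv0]
      by_cases hAv : A.1 *ᵥ v = v
      · rw [if_pos hAv]
        have h1 : ∀ i, ((hint.collectedBasis b).repr (ρ (emb A) (hint.collectedBasis b ⟨v, i⟩)))
            ⟨v, i⟩ = 1 := by
          intro i
          rw [hbv, hfix v hv0 hAv _ (b v i).2, ← hbv, Module.Basis.repr_self,
            Finsupp.single_eq_same]
        rw [Finset.sum_congr rfl (fun i _ => h1 i), Finset.sum_const, Finset.card_univ,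
          nsmul_eq_mul, mul_one, Module.finrank_eq_card_chooseBasisIndex]
      · rw [if_neg hAv]
        apply Finset.sum_eq_zero
        intro i _
        rw [hbv]
        exact hint.collectedBasis_repr_of_mem_ne b hAv (hmaps v _ (b v i).2)
  rw [LinearMap.trace_eq_matrix_trace ℂ (hint.collectedBasis b), Matrix.trace]
  simp only [Matrix.diag, LinearMap.toMatrix_apply]
  rw [Fintype.sum_sigma, Finset.sum_congr rfl (fun v _ => key v)]
  rw [← Finset.add_sum_erase Finset.univ _ (Finset.mem_univ (0 : κ → F)), if_pos rfl]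
  congr 1
  rw [Finset.sum_filter, ← Finset.add_sum_erase Finset.univ _ (Finset.mem_univ (0 : κ → F)),
    if_neg (fun h : (0 : κ → F) ≠ 0 ∧ A.1 *ᵥ (0 : κ → F) = 0 => h.1 rfl), zero_add]
  apply Finset.sum_congr rfl
  intro x hx
  have hx0 : x ≠ 0 := Finset.ne_of_mem_erase hx
  rw [if_neg hx0]
  by_cases hAx : A.1 *ᵥ x = x
  · rw [if_pos hAx, if_pos ⟨hx0, hAx⟩]
  · rw [if_neg hAx, if_neg (fun h : x ≠ 0 ∧ A.1 *ᵥ x = x => hAx h.2)]

end Cfsg.Agent.Lib.Helper65_S2332_TRACEB
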