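import Mathlib
import Cfsg.Agent.Lib.Helper24_Coprime

set_option autoImplicit false
set_option linter.unusedSectionVars false

/-!
# S2772, part A: a pushing-up lemma for groups `G` with `G / O_2(G)` of order `2q`

`G` finite, `K ⊴ G` a `2`-group with `C_G(K) ≤ K`, `K ≤ T`, `|T : K| = 2`, `|G : T| = q` an odd prime.
If no nontrivial characteristic subgroup of `T` is normal in `G`, then `q = 3`.
(Thompson replacement: `Ω₁ Z(K)` is an FF-module with transvections.)
-/

namespace Cfsg.Agent.Lib.Helper65_S2772A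

open Subgroup

universe u

/-! ### generalities -/

/-- `|K ⊓ L| * |L : K ⊓ L| = |L|`. -/
theorem card_inf_mul_relIndex {G : Type u} [Group G] (K L : Subgroup G) :
    Nat.card (K ⊓ L : Subgroup G) * K.relIndex L = Nat.card L := by
  have h := Subgroup.relIndex_inf_mul_relIndex (⊥ : Subgroup G) K L
  rw [Subgroup.relIndex_bot_left, bot_inf_eq, Subgroup.relIndex_bot_left] at h
  exact h

/-- Product formula: `|A ⊔ N| * |A ⊓ N| = |A| * |N|` for `N` normal. -/
theorem card_sup_mul_card_inf {G : Type u} [Group G] (A N : Subgroup G) [N.Normal] :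
    Nat.card (A ⊔ N : Subgroup G) * Nat.card (A ⊓ N : Subgroup G) = Nat.card A * Nat.card N := by
  have h1 : Nat.card (N ⊓ (A ⊔ N) : Subgroup G) * N.relIndex (A ⊔ N) = Nat.card (A ⊔ N : Subgroup G) :=
    card_inf_mul_relIndex N (A ⊔ N)
  have h2 : Nat.card (N ⊓ A : Subgroup G) * N.relIndex A = Nat.card A := card_inf_mul_relIndex N A
  rw [Subgroup.relIndex_sup_right] at h1
  rw [inf_eq_left.mpr (le_sup_right : N ≤ A ⊔ N)] at h1
  rw [inf_comm] at h2
  rw [← h1, ← h2]
  ring

/-- A subgroup of prime index is maximal. -/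
theorem eq_or_eq_top_of_prime_index {G : Type u} [Group G] [Finite G] (T L : Subgroup G) (q : ℕ)
    (hq : q.Prime) (hT : T.index = q) (hTL : T ≤ L) : L = T ∨ L = ⊤ := by
  have h := Subgroup.relIndex_mul_index hTL
  rw [hT] at h
  have hd : L.index ∣ q := Dvd.intro_left _ h
  rcases (Nat.dvd_prime hq).1 hd with h1 | h1
  · right; exact Subgroup.index_eq_one.1 h1
  · left
    rw [h1] at h
    have : T.relIndex L = 1 := by
      have hq0 : 0 < q := hq.pos
      exact Nat.eq_of_mul_eq_mul_right hq0 (by rw [h, one_mul])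
    exact le_antisymm (Subgroup.relIndex_eq_one.1 this) hTL

/-- Elementary abelian `2`-subgroups. -/
def EA {P : Type u} [Group P] (A : Subgroup P) : Prop :=
  (∀ x ∈ A, ∀ y ∈ A, x * y = y * x) ∧ ∀ x ∈ A, x ^ 2 = 1

theorem EA_bot {P : Type u} [Group P] : EA (⊥ : Subgroup P) := by
  constructor
  · intro x hx y hy
    rw [Subgroup.mem_bot] at hx hy
    rw [hx, hy]
  · intro x hx
    rw [Subgroup.mem_bot] at hx
    rw [hx, one_pow]

theorem EA_mono {P : Type u} [Group P] {A B : Subgroup P} (h : A ≤ B) (hB : EA B) : EA A :=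
  ⟨fun x hx y hy => hB.1 x (h hx) y (h hy), fun x hx => hB.2 x (h hx)⟩

theorem EA_map {P Q : Type u} [Group P] [Group Q] (f : P →* Q) {A : Subgroup P} (hA : EA A) :
    EA (A.map f) := by
  constructor
  · rintro _ ⟨x, hx, rfl⟩ _ ⟨y, hy, rfl⟩
    rw [← map_mul, ← map_mul, hA.1 x hx y hy]
  · rintro _ ⟨x, hx, rfl⟩
    rw [← map_pow, hA.2 x hx, map_one]

theorem EA_comap_of_injective {P Q : Type u} [Group P] [Group Q] (f : P →* Q)
    (hf : Function.Injective f) {A : Subgroup Q} (hA : EA A) : EA (A.comap f) := by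
  constructor
  · intro x hx y hy
    apply hf
    rw [map_mul, map_mul]
    exact hA.1 _ hx _ hy
  · intro x hx
    apply hf
    rw [map_pow, map_one]
    exact hA.2 _ hx

/-- The join of two commuting elementary abelian subgroups is elementary abelian. -/
theorem EA_sup {P : Type u} [Group P] {A B : Subgroup P} (hA : EA A) (hB : EA B)
    (hAB : ∀ x ∈ A, ∀ y ∈ B, x * y = y * x) : EA (A ⊔ B) := by
  have hS : ∀ x ∈ ((A : Set P) ∪ (B : Set P)), ∀ y ∈ ((A : Set P) ∪ (B : Set P)), x * y = y * x := by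
    rintro x (hx | hx) y (hy | hy)
    · exact hA.1 x hx y hy
    · exact hAB x hx y hy
    · exact (hAB y hy x hx).symm
    · exact hB.1 x hx y hy
  have hle : Subgroup.closure ((A : Set P) ∪ (B : Set P)) ≤
      Subgroup.centralizer ((Subgroup.closure ((A : Set P) ∪ (B : Set P)) : Subgroup P) : Set P) := by
    rw [Subgroup.centralizer_closure, Subgroup.closure_le]
    intro x hx
    rw [SetLike.mem_coe, Subgroup.mem_centralizer_iff]
    intro y hy
    exact hS y hy x hx
  have hcomm : ∀ x ∈ Subgroup.closure ((A : Set P) ∪ (B : Set P)),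
      ∀ y ∈ Subgroup.closure ((A : Set P) ∪ (B : Set P)), x * y = y * x := by
    intro x hx y hy
    have := hle hy
    rw [Subgroup.mem_centralizer_iff] at this
    exact this x hx
  rw [Subgroup.sup_eq_closure]
  refine ⟨hcomm, ?_⟩
  intro x hx
  induction hx using Subgroup.closure_induction with
  | mem x hx =>
    rcases hx with hx | hx
    · exact hA.2 x hx
    · exact hB.2 x hx
  | one => exact one_pow 2
  | mul x y hx hy ihx ihy =>
    have hc : x * y = y * x := hcomm x hx y hy
    have : Commute x y := hc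
    rw [this.mul_pow, ihx, ihy, one_mul]
  | inv x hx ihx => rw [inv_pow, ihx, inv_one]

/-! ### `Ω₁ Z(P)` -/

/-- `Ω₁ Z(P)`: the central elements of square one. -/
def omZ (P : Type u) [Group P] : Subgroup P where
  carrier := {x | x ∈ Subgroup.center P ∧ x ^ 2 = 1}
  one_mem' := ⟨Subgroup.one_mem _, one_pow 2⟩
  mul_mem' := by
    rintro x y ⟨hx, hx2⟩ ⟨hy, hy2⟩
    refine ⟨Subgroup.mul_mem _ hx hy, ?_⟩
    have hc : Commute x y := (Subgroup.mem_center_iff.1 hy x)
    rw [hc.mul_pow, hx2, hy2, one_mul]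
  inv_mem' := by
    rintro x ⟨hx, hx2⟩
    exact ⟨Subgroup.inv_mem _ hx, by rw [inv_pow, hx2, inv_one]⟩

theorem mem_omZ {P : Type u} [Group P] (x : P) :
    x ∈ omZ P ↔ x ∈ Subgroup.center P ∧ x ^ 2 = 1 := Iff.rfl

instance omZ_characteristic (P : Type u) [Group P] : (omZ P).Characteristic := by
  rw [Subgroup.characteristic_iff_comap_le]
  intro φ x hx
  rw [Subgroup.mem_comap, mem_omZ] at hx
  rw [mem_omZ]
  constructor
  · rw [Subgroup.mem_center_iff]
    intro g
    apply φ.injective
    have := Subgroup.mem_center_iff.1 hx.1 (φ g)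
    rw [map_mul, map_mul]
    exact this
  · apply φ.injective
    rw [map_pow, map_one]
    exact hx.2

theorem EA_omZ (P : Type u) [Group P] : EA (omZ P) := by
  constructor
  · intro x hx y _
    exact (Subgroup.mem_center_iff.1 hx.1 y).symm
  · intro x hx
    exact hx.2

theorem omZ_ne_bot (P : Type u) [Group P] [Finite P] [Nontrivial P] (hP : IsPGroup 2 P) :
    omZ P ≠ ⊥ := by
  have : Fact (Nat.Prime 2) := ⟨Nat.prime_two⟩
  have := hP.center_nontrivial
  have hZ : IsPGroup 2 (Subgroup.center P) := hP.to_subgroup _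
  have h2 : 2 ∣ Nat.card (Subgroup.center P) := by
    rcases hZ.card_eq_or_dvd with h | h
    · exfalso
      have := Finite.one_lt_card (α := Subgroup.center P)
      omega
    · exact h
  obtain ⟨z, hz⟩ := exists_prime_orderOf_dvd_card' 2 h2
  intro hbot
  have hmem : (z : P) ∈ omZ P := by
    rw [mem_omZ]
    refine ⟨z.2, ?_⟩
    have : z ^ 2 = 1 := by rw [← hz]; exact pow_orderOf_eq_one z
    have h' := congrArg (Subtype.val) this
    simpa using h'
  rw [hbot, Subgroup.mem_bot] at hmem
  have : z = 1 := Subtype.ext hmem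
  rw [this, orderOf_one] at hz
  omega

/-! ### the Thompson subgroup (elementary abelian version) -/

/-- The elementary abelian `2`-subgroups of maximal order. -/
def AMax (P : Type u) [Group P] : Set (Subgroup P) :=
  {A | EA A ∧ ∀ B : Subgroup P, EA B → Nat.card B ≤ Nat.card A}

theorem AMax_nonempty (P : Type u) [Group P] [Finite P] : (AMax P).Nonempty := by
  have : Nonempty {A : Subgroup P // EA A} := ⟨⟨⊥, EA_bot⟩⟩
  obtain ⟨A, hA⟩ := Finite.exists_max (fun A : {A : Subgroup P // EA A} => Nat.card A.1)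
  exact ⟨A.1, A.2, fun B hB => hA ⟨B, hB⟩⟩

/-- `J(P)`, generated by the elementary abelian subgroups of maximal order. -/
def JJ (P : Type u) [Group P] : Subgroup P := sSup (AMax P)

theorem AMax_map {P : Type u} [Group P] (φ : P ≃* P) {A : Subgroup P} (hA : A ∈ AMax P) :
    A.map φ.toMonoidHom ∈ AMax P := by
  refine ⟨EA_map _ hA.1, fun B hB => ?_⟩
  rw [Subgroup.card_map_of_injective φ.injective]
  exact hA.2 B hB

instance JJ_characteristic (P : Type u) [Group P] : (JJ P).Characteristic := by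
  rw [Subgroup.characteristic_iff_map_le]
  intro φ
  rw [Subgroup.map_le_iff_le_comap]
  apply sSup_le
  intro A hA
  rw [← Subgroup.map_le_iff_le_comap]
  exact le_sSup (AMax_map φ hA)

theorem JJ_ne_bot (P : Type u) [Group P] [Finite P] [Nontrivial P] (hP : IsPGroup 2 P) :
    JJ P ≠ ⊥ := by
  obtain ⟨A, hA⟩ := AMax_nonempty P
  intro hbot
  have hle : A ≤ JJ P := le_sSup hA
  rw [hbot, le_bot_iff] at hle
  have h1 := hA.2 (omZ P) (EA_omZ P)
  rw [hle, Subgroup.card_bot] at h1
  have h2 : omZ P = ⊥ := (Subgroup.card_le_one_iff_eq_bot _).1 h1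
  exact omZ_ne_bot P hP h2

/-! ### the pushing-up situation -/

/-- The hypotheses of the pushing-up lemma. -/
structure PU {G : Type u} [Group G] (T K : Subgroup G) (q : ℕ) : Prop where
  hq : q.Prime
  hq2 : q ≠ 2
  hKT : K ≤ T
  hT : IsPGroup 2 T
  hTK : K.relIndex T = 2
  hGT : T.index = q
  hchar : Subgroup.centralizer (K : Set G) ≤ K
  hcore : ∀ Y : Subgroup T, Y.Characteristic → (Y.map T.subtype).Normal → Y = ⊥

section Main

variable {G : Type u} [Group G] [Finite G] {T K : Subgroup G} [hKn : K.Normal] {q : ℕ}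

theorem eq_of_relIndex_two (h : PU T K q) (L : Subgroup G) (hKL : K ≤ L) (hLT : L ≤ T)
    (hLK : ¬ L ≤ K) : L = T := by
  have h1 := Subgroup.relIndex_mul_relIndex K L T hKL hLT
  rw [h.hTK] at h1
  have h2 : K.relIndex L ≠ 1 := fun h' => hLK (Subgroup.relIndex_eq_one.1 h')
  have h3 : K.relIndex L ∣ 2 := Dvd.intro _ h1
  have h4 : K.relIndex L = 2 := by
    rcases (Nat.dvd_prime Nat.prime_two).1 h3 with h' | h'
    · exact absurd h' h2
    · exact h'
  rw [h4] at h1
  have h5 : L.relIndex T = 1 := by omega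
  exact le_antisymm hLT (Subgroup.relIndex_eq_one.1 h5)

theorem nontrivial_T (h : PU T K q) : Nontrivial T := by
  by_contra hnt
  rw [not_nontrivial_iff_subsingleton] at hnt
  have hTb : T = ⊥ := Subgroup.eq_bot_of_subsingleton T
  have hKb : K = ⊥ := by rw [← le_bot_iff, ← hTb]; exact h.hKT
  have := h.hTK
  rw [hTb, hKb, Subgroup.relIndex_bot_left, Subgroup.card_bot] at this
  omega

theorem not_normal_T (h : PU T K q) : ¬ T.Normal := by
  intro hn
  have h1 : ((⊤ : Subgroup T).map T.subtype).Normal := by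
    rw [← MonoidHom.range_eq_map, Subgroup.range_subtype]
    exact hn
  have h2 := h.hcore ⊤ inferInstance h1
  have := nontrivial_T h
  exact top_ne_bot h2

/-- `V = Ω₁ Z(K)` as a subgroup of `G`. -/
def VV (K : Subgroup G) : Subgroup G := (omZ K).map K.subtype

theorem mem_VV (x : G) :
    x ∈ VV K ↔ x ∈ K ∧ (∀ k ∈ K, k * x = x * k) ∧ x ^ 2 = 1 := by
  unfold VV
  constructor
  · rintro ⟨y, hy, rfl⟩
    rw [SetLike.mem_coe, mem_omZ] at hy
    refine ⟨y.2, ?_, ?_⟩
    · intro k hk
      have := Subgroup.mem_center_iff.1 hy.1 ⟨k, hk⟩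
      exact congrArg Subtype.val this
    · have := congrArg Subtype.val hy.2
      simpa using this
  · rintro ⟨hx, hc, h2⟩
    refine ⟨⟨x, hx⟩, ?_, rfl⟩
    rw [SetLike.mem_coe, mem_omZ]
    constructor
    · rw [Subgroup.mem_center_iff]
      intro k
      exact Subtype.ext (hc k.1 k.2)
    · exact Subtype.ext (by simpa using h2)

instance VV_normal : (VV K).Normal := by
  constructor
  intro x hx g
  rw [mem_VV] at hx ⊢
  refine ⟨hKn.conj_mem x hx.1 g, ?_, ?_⟩
  · intro k hk
    have hk' : g⁻¹ * k * g ∈ K := by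
      have := hKn.conj_mem k hk g⁻¹
      simpa using this
    have := hx.2.1 _ hk'
    calc k * (g * x * g⁻¹) = g * ((g⁻¹ * k * g) * x) * g⁻¹ := by group
      _ = g * (x * (g⁻¹ * k * g)) * g⁻¹ := by rw [this]
      _ = g * x * g⁻¹ * k := by group
  · rw [conj_pow, hx.2.2, mul_one, mul_inv_cancel]

theorem VV_le : VV K ≤ K := fun x hx => ((mem_VV x).1 hx).1

theorem EA_VV : EA (VV K) := by
  constructor
  · intro x hx y hy
    exact ((mem_VV y).1 hy).2.1 x ((mem_VV x).1 hx).1
  · intro x hx
    exact ((mem_VV x).1 hx).2.2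

/-- `Ω₁ Z(T) ≤ V`. -/
theorem omZT_le (h : PU T K q) : (omZ T).map T.subtype ≤ VV K := by
  rintro _ ⟨z, hz, rfl⟩
  rw [SetLike.mem_coe, mem_omZ] at hz
  have hzc : ∀ s ∈ T, s * (z : G) = (z : G) * s := by
    intro s hs
    have := Subgroup.mem_center_iff.1 hz.1 ⟨s, hs⟩
    exact congrArg Subtype.val this
  have hzK : (z : G) ∈ K := by
    apply h.hchar
    rw [Subgroup.mem_centralizer_iff]
    intro k hk
    exact hzc k (h.hKT hk)
  rw [Subgroup.coe_subtype, mem_VV]
  refine ⟨hzK, fun k hk => hzc k (h.hKT hk), ?_⟩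
  have := congrArg Subtype.val hz.2
  simpa using this

/-- Claim 1: an element of order `q` cannot centralise `V`. -/
theorem claim1 (h : PU T K q) (d : G) (hd : orderOf d = q)
    (hdV : d ∈ Subgroup.centralizer ((VV K : Subgroup G) : Set G)) : False := by
  have hq := h.hq
  -- d ∉ T
  have hdT : d ∉ T := by
    intro hdT
    obtain ⟨k, hk⟩ := h.hT ⟨d, hdT⟩
    have hk' : d ^ (2 ^ k) = 1 := by
      have := congrArg Subtype.val hk
      simpa using this
    have hdvd : q ∣ 2 ^ k := by rw [← hd]; exact orderOf_dvd_of_pow_eq_one hk'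
    have : q ∣ 2 := hq.dvd_of_dvd_pow hdvd
    exact h.hq2 ((Nat.prime_dvd_prime_iff_eq hq Nat.prime_two).1 this)
  have htop : T ⊔ Subgroup.zpowers d = ⊤ := by
    rcases eq_or_eq_top_of_prime_index T (T ⊔ Subgroup.zpowers d) q hq h.hGT le_sup_left with h1 | h1
    · exfalso
      apply hdT
      rw [← h1]
      exact (le_sup_right : Subgroup.zpowers d ≤ T ⊔ Subgroup.zpowers d) (Subgroup.mem_zpowers d)
    · exact h1
  -- Ω₁ Z(T) is central in G
  have hcen : (omZ T).map T.subtype ≤ Subgroup.center G := by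
    intro z hz
    have hzV : z ∈ VV K := omZT_le h hz
    obtain ⟨z', hz', rfl⟩ := hz
    rw [SetLike.mem_coe, mem_omZ] at hz'
    rw [Subgroup.mem_center_iff]
    have hle : T ⊔ Subgroup.zpowers d ≤ Subgroup.centralizer ({(z' : G)} : Set G) := by
      rw [sup_le_iff]
      constructor
      · intro s hs
        rw [Subgroup.mem_centralizer_iff]
        intro y hy
        rw [Set.mem_singleton_iff] at hy
        subst hy
        have := Subgroup.mem_center_iff.1 hz'.1 ⟨s, hs⟩
        exact (congrArg Subtype.val this).symm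
      · rw [Subgroup.zpowers_le, Subgroup.mem_centralizer_iff]
        intro y hy
        rw [Set.mem_singleton_iff] at hy
        subst hy
        rw [Subgroup.mem_centralizer_iff] at hdV
        exact hdV _ hzV
    intro g
    have hg : g ∈ Subgroup.centralizer ({(z' : G)} : Set G) := hle (by rw [htop]; trivial)
    rw [Subgroup.mem_centralizer_iff] at hg
    exact (hg _ rfl).symm
  have hnorm : ((omZ T).map T.subtype).Normal := by
    constructor
    intro z hz g
    have := Subgroup.mem_center_iff.1 (hcen hz) g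
    have e : g * z * g⁻¹ = z := by rw [this]; group
    rw [e]; exact hz
  have hbot := h.hcore (omZ T) inferInstance hnorm
  have := nontrivial_T h
  exact omZ_ne_bot T h.hT hbot

/-- A subgroup `X ≤ T` of `G` that is elementary abelian gives a bound on its order by members of
`AMax T`. -/
theorem card_le_of_AMax {A : Subgroup T} (hA : A ∈ AMax T) (X : Subgroup G) (hXT : X ≤ T)
    (hX : EA X) : Nat.card X ≤ Nat.card A := by
  have h1 : EA (X.subgroupOf T) := EA_comap_of_injective T.subtype T.subtype_injective hX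
  have h2 := hA.2 _ h1
  rwa [Nat.card_congr (Subgroup.subgroupOfEquivOfLe hXT).toEquiv] at h2

/-- Claim 2: some elementary abelian subgroup of maximal order of `T` is not contained in `K`. -/
theorem claim2 (h : PU T K q) : ∃ A ∈ AMax T, ¬ A.map T.subtype ≤ K := by
  by_contra hcon
  push Not at hcon
  have hnorm : ((JJ T).map T.subtype).Normal := by
    constructor
    intro x hx g
    -- the subgroup of elements whose `g`-conjugate lies in `J`
    have key : (JJ T).map T.subtype ≤
        ((JJ T).map T.subtype).comap (MulAut.conj g).toMonoidHom := by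
      rw [Subgroup.map_le_iff_le_comap]
      apply sSup_le
      intro A hA a ha
      rw [Subgroup.mem_comap, Subgroup.mem_comap]
      -- the conjugate subgroup
      have hAK : A.map T.subtype ≤ K := hcon A hA
      set X : Subgroup G := (A.map T.subtype).map (MulAut.conj g).toMonoidHom with hX
      have hXK : X ≤ K := by
        rintro _ ⟨y, hy, rfl⟩
        have := hKn.conj_mem y (hAK hy) g
        simpa using this
      have hXT : X ≤ T := hXK.trans h.hKT
      have hXEA : EA X := EA_map _ (EA_map _ hA.1)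
      have hXcard : Nat.card X = Nat.card A := by
        rw [hX, Subgroup.card_map_of_injective (MulAut.conj g).injective,
          Subgroup.card_map_of_injective T.subtype_injective]
      have hXmem : X.subgroupOf T ∈ AMax T := by
        refine ⟨EA_comap_of_injective T.subtype T.subtype_injective hXEA, fun B hB => ?_⟩
        rw [Nat.card_congr (Subgroup.subgroupOfEquivOfLe hXT).toEquiv, hXcard]
        exact hA.2 B hB
      have hle : X.subgroupOf T ≤ JJ T := le_sSup hXmem
      have hmemX : (MulAut.conj g).toMonoidHom (T.subtype a) ∈ X :=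
        ⟨T.subtype a, ⟨a, ha, rfl⟩, rfl⟩
      refine ⟨⟨_, hXT hmemX⟩, hle ?_, rfl⟩
      rw [Subgroup.mem_subgroupOf]
      exact hmemX
    have := key hx
    rw [Subgroup.mem_comap] at this
    simpa using this
  have hbot := h.hcore (JJ T) inferInstance hnorm
  have := nontrivial_T h
  exact JJ_ne_bot T h.hT hbot

/-- Claim 3 (Thompson replacement): elements of a maximal elementary abelian subgroup not inside `K`
centralise a subgroup of index at most `2` of `V`. -/
theorem claim3 (h : PU T K q) {A : Subgroup T} (hA : A ∈ AMax T) (hAK : ¬ A.map T.subtype ≤ K)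
    (t : G) (ht : t ∈ A.map T.subtype) :
    Nat.card (VV K) ≤
      2 * Nat.card (VV K ⊓ Subgroup.centralizer ({t} : Set G) : Subgroup G) := by
  set AG : Subgroup G := A.map T.subtype with hAG
  have hAGT : AG ≤ T := Subgroup.map_subtype_le A
  have hAGEA : EA AG := EA_map _ hA.1
  set A0 : Subgroup G := AG ⊓ K with hA0
  set B : Subgroup G := A0 ⊔ VV K with hB
  have hBEA : EA B := by
    apply EA_sup (EA_mono inf_le_left hAGEA) EA_VV
    intro x hx y hy
    exact ((mem_VV y).1 hy).2.1 x hx.2
  have hBT : B ≤ T := sup_le (inf_le_left.trans hAGT) (VV_le.trans h.hKT)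
  have hb : Nat.card B ≤ Nat.card A := card_le_of_AMax hA B hBT hBEA
  have hcardA : Nat.card AG = Nat.card A := Subgroup.card_map_of_injective T.subtype_injective
  have hL : AG ⊔ K = T := by
    apply eq_of_relIndex_two h _ le_sup_right (sup_le hAGT h.hKT)
    intro hle
    exact hAK (le_sup_left.trans hle)
  have hrel : K.relIndex AG = 2 := by
    rw [← Subgroup.relIndex_sup_right, hL, h.hTK]
  have h1 : Nat.card (K ⊓ AG : Subgroup G) * K.relIndex AG = Nat.card AG :=
    card_inf_mul_relIndex K AG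
  rw [hrel, inf_comm] at h1
  have h2 : Nat.card (A0 ⊔ VV K : Subgroup G) * Nat.card (A0 ⊓ VV K : Subgroup G) =
      Nat.card A0 * Nat.card (VV K) := card_sup_mul_card_inf A0 (VV K)
  have h3 : Nat.card (A0 ⊓ VV K : Subgroup G) ≤
      Nat.card (VV K ⊓ Subgroup.centralizer ({t} : Set G) : Subgroup G) := by
    apply Subgroup.card_le_of_le
    intro x hx
    refine ⟨hx.2, ?_⟩
    show x ∈ Subgroup.centralizer ({t} : Set G)
    rw [Subgroup.mem_centralizer_iff]
    intro y hy
    rw [Set.mem_singleton_iff] at hy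
    subst hy
    exact hAGEA.1 y ht x hx.1.1
  have ha0 : 0 < Nat.card A0 := Nat.card_pos
  have h4 : Nat.card A0 * Nat.card (VV K) ≤
      Nat.card A0 * (2 * Nat.card (A0 ⊓ VV K : Subgroup G)) := by
    rw [← h2]
    calc Nat.card B * Nat.card (A0 ⊓ VV K : Subgroup G)
        ≤ Nat.card AG * Nat.card (A0 ⊓ VV K : Subgroup G) := by
          apply Nat.mul_le_mul_right
          rw [hcardA]; exact hb
      _ = Nat.card A0 * (2 * Nat.card (A0 ⊓ VV K : Subgroup G)) := by
          rw [← h1]; ring
  have h5 := Nat.le_of_mul_le_mul_left h4 ha0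
  omega

/-- A subgroup `X` with `|V| ≤ 2 |V ⊓ X|` has relative index at most `2` in `V`. -/
theorem relIndex_le_two_of_card {V X : Subgroup G} (hXV : X ≤ V)
    (hc : Nat.card V ≤ 2 * Nat.card X) : X.relIndex V ≤ 2 := by
  have h1 := card_inf_mul_relIndex X V
  rw [inf_eq_left.mpr hXV] at h1
  have hpos : 0 < Nat.card X := Nat.card_pos
  rw [← h1, mul_comm 2] at hc
  exact Nat.le_of_mul_le_mul_left hc hpos

/-- Claim 4: a central subgroup `V0` of `G` inside `V` with `|V| ≤ 4 |V0|`. -/
theorem claim4 (h : PU T K q) : ∃ V0 : Subgroup G, V0 ≤ VV K ∧ V0 ≤ Subgroup.center G ∧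
    Nat.card (VV K) ≤ 4 * Nat.card V0 := by
  obtain ⟨A, hA, hAK⟩ := claim2 h
  obtain ⟨t, htA, htK⟩ := SetLike.not_le_iff_exists.1 hAK
  have htT : t ∈ T := Subgroup.map_subtype_le A htA
  have hTt : K ⊔ Subgroup.zpowers t = T := by
    apply eq_of_relIndex_two h _ le_sup_left
      (sup_le h.hKT ((Subgroup.zpowers_le).2 htT))
    intro hle
    exact htK (hle ((le_sup_right : Subgroup.zpowers t ≤ K ⊔ Subgroup.zpowers t)
      (Subgroup.mem_zpowers t)))
  -- a conjugate of T different from T
  obtain ⟨g, x, hxT, hgx⟩ : ∃ g x : G, x ∈ T ∧ g * x * g⁻¹ ∉ T := by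
    by_contra hcon
    push Not at hcon
    exact not_normal_T h ⟨fun x hx g => hcon g x hx⟩
  set Tg : Subgroup G := T.map (MulAut.conj g).toMonoidHom with hTg
  have htop : T ⊔ Tg = ⊤ := by
    rcases eq_or_eq_top_of_prime_index T (T ⊔ Tg) q h.hq h.hGT le_sup_left with h1 | h1
    · exfalso
      apply hgx
      rw [← h1]
      apply (le_sup_right : Tg ≤ T ⊔ Tg)
      exact ⟨x, hxT, by simp⟩
    · exact h1
  set t' : G := g * t * g⁻¹ with ht'
  set Vt : Subgroup G := VV K ⊓ Subgroup.centralizer ({t} : Set G) with hVt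
  set Vt' : Subgroup G := VV K ⊓ Subgroup.centralizer ({t'} : Set G) with hVt'
  have hc1 : Nat.card (VV K) ≤ 2 * Nat.card Vt := claim3 h hA hAK t htA
  have hle' : Vt.map (MulAut.conj g).toMonoidHom ≤ Vt' := by
    rintro _ ⟨y, hy, rfl⟩
    refine ⟨?_, ?_⟩
    · have := (VV_normal (K := K)).conj_mem y hy.1 g
      simpa using this
    · show _ ∈ Subgroup.centralizer ({t'} : Set G)
      rw [Subgroup.mem_centralizer_iff]
      intro z hz
      rw [Set.mem_singleton_iff] at hz
      subst hz
      have hyt : t * y = y * t := by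
        have this : y ∈ Subgroup.centralizer ({t} : Set G) := hy.2
        rw [Subgroup.mem_centralizer_iff] at this
        exact this t rfl
      simp only [MulEquiv.coe_toMonoidHom, MulAut.conj_apply]
      calc g * t * g⁻¹ * (g * y * g⁻¹) = g * (t * y) * g⁻¹ := by group
        _ = g * (y * t) * g⁻¹ := by rw [hyt]
        _ = g * y * g⁻¹ * (g * t * g⁻¹) := by group
  have hc2 : Nat.card (VV K) ≤ 2 * Nat.card Vt' := by
    have h1 : Nat.card Vt ≤ Nat.card Vt' := by
      rw [← Subgroup.card_map_of_injective (f := (MulAut.conj g).toMonoidHom)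
        (MulAut.conj g).injective (K := Vt)]
      exact Subgroup.card_le_of_le hle'
    omega
  have hr1 : Vt.relIndex (VV K) ≤ 2 := relIndex_le_two_of_card inf_le_left hc1
  have hr2 : Vt'.relIndex (VV K) ≤ 2 := relIndex_le_two_of_card inf_le_left hc2
  refine ⟨Vt ⊓ Vt', inf_le_left.trans inf_le_left, ?_, ?_⟩
  · intro v hv
    have hvV : v ∈ VV K := hv.1.1
    have hvt : t * v = v * t := by
      have this : v ∈ Subgroup.centralizer ({t} : Set G) := hv.1.2
      rw [Subgroup.mem_centralizer_iff] at this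
      exact this t rfl
    have hvt' : t' * v = v * t' := by
      have this : v ∈ Subgroup.centralizer ({t'} : Set G) := hv.2.2
      rw [Subgroup.mem_centralizer_iff] at this
      exact this t' rfl
    have hKc : K ≤ Subgroup.centralizer ({v} : Set G) := by
      intro k hk
      rw [Subgroup.mem_centralizer_iff]
      intro z hz
      rw [Set.mem_singleton_iff] at hz
      subst hz
      exact (((mem_VV z).1 hvV).2.1 k hk).symm
    have hTc : T ≤ Subgroup.centralizer ({v} : Set G) := by
      rw [← hTt, sup_le_iff]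
      refine ⟨hKc, ?_⟩
      rw [Subgroup.zpowers_le, Subgroup.mem_centralizer_iff]
      intro z hz
      rw [Set.mem_singleton_iff] at hz
      subst hz
      exact hvt.symm
    have hTgc : Tg ≤ Subgroup.centralizer ({v} : Set G) := by
      rw [hTg, ← hTt, Subgroup.map_sup, sup_le_iff]
      constructor
      · rintro _ ⟨k, hk, rfl⟩
        apply hKc
        have := hKn.conj_mem k hk g
        simpa using this
      · rw [MonoidHom.map_zpowers, Subgroup.zpowers_le, Subgroup.mem_centralizer_iff]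
        intro z hz
        rw [Set.mem_singleton_iff] at hz
        subst hz
        simp only [MulEquiv.coe_toMonoidHom, MulAut.conj_apply]
        exact hvt'.symm
    rw [Subgroup.mem_center_iff]
    intro y
    have hy : y ∈ Subgroup.centralizer ({v} : Set G) := by
      have : y ∈ T ⊔ Tg := by rw [htop]; trivial
      exact (sup_le hTc hTgc) this
    rw [Subgroup.mem_centralizer_iff] at hy
    exact (hy v rfl).symm
  · have h1 := card_inf_mul_relIndex (Vt ⊓ Vt') (VV K)
    rw [inf_eq_left.mpr (inf_le_left.trans inf_le_left : Vt ⊓ Vt' ≤ VV K)] at h1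
    have h2 : (Vt ⊓ Vt').relIndex (VV K) ≤ 4 := by
      calc (Vt ⊓ Vt').relIndex (VV K) ≤ Vt.relIndex (VV K) * Vt'.relIndex (VV K) :=
            Subgroup.relIndex_inf_le
        _ ≤ 2 * 2 := Nat.mul_le_mul hr1 hr2
    rw [← h1, mul_comm 4]
    exact Nat.mul_le_mul_left _ h2

/-- Helper for claim 5: if `d ^ m` moves `v` inside its coset of the central subgroup `V0`, with
`1 ≤ m ≤ 4 < q`, then `d` commutes with `v`. -/
theorem commute_of_pow_coset {V0 : Subgroup G} (hV0c : V0 ≤ Subgroup.center G)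
    (hV02 : ∀ x ∈ V0, x ^ 2 = 1) (d v : G) (q : ℕ) (hq : q.Prime) (hq5 : 5 ≤ q)
    (hd : orderOf d = q) (m : ℕ) (hm1 : 1 ≤ m) (hm4 : m ≤ 4)
    (hc : v⁻¹ * (d ^ m * v * (d ^ m)⁻¹) ∈ V0) : d * v = v * d := by
  set a : G := d ^ m with ha
  set c : G := v⁻¹ * (a * v * a⁻¹) with hcdef
  have hcc : ∀ g : G, g * c = c * g := fun g => Subgroup.mem_center_iff.1 (hV0c hc) g
  have hz : a * v * a⁻¹ * v⁻¹ = c := by
    have e1 : a * v * a⁻¹ = v * c := by rw [hcdef]; group
    rw [e1, mul_assoc, ← mul_assoc, hcc v, mul_assoc, mul_inv_cancel, mul_one]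
  have hcop : Nat.Coprime q m := by
    rw [Nat.Prime.coprime_iff_not_dvd hq]
    intro hdvd
    have := Nat.le_of_dvd (by omega) hdvd
    omega
  have hoa : orderOf a = q := by
    rw [ha, Nat.Coprime.orderOf_pow (by rw [hd]; exact hcop), hd]
  have hq2 : Nat.Coprime q 2 := by
    rw [Nat.Prime.coprime_iff_not_dvd hq]
    intro hdvd
    have := Nat.le_of_dvd (by omega) hdvd
    omega
  have hav : a * v = v * a := by
    apply Cfsg.Agent.Lib.Helper24_Coprime.commute_of_coprime_commutator a v _ 2
    · rw [hz]; exact hV02 c hc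
    · rw [hoa]; exact hq2
    · rw [hz]; exact hcc a
  -- d is a power of a
  obtain ⟨m', -, hm'⟩ := Nat.exists_mul_mod_eq_one_of_coprime hcop.symm (by omega : 1 < q)
  have hda : d = a ^ m' := by
    rw [ha, ← pow_mul, ← pow_mod_orderOf, hd, hm', pow_one]
  have : Commute a v := hav
  rw [hda]
  exact (this.pow_left m').eq

/-- Claim 5: an element of prime order `q ≥ 5` centralises `V`. -/
theorem claim5 {V V0 : Subgroup G} [hVn : V.Normal] (hV0V : V0 ≤ V)
    (hV0c : V0 ≤ Subgroup.center G) (hVEA : EA V) (hcard : Nat.card V ≤ 4 * Nat.card V0)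
    (d : G) (q : ℕ) (hq : q.Prime) (hq5 : 5 ≤ q) (hd : orderOf d = q) :
    d ∈ Subgroup.centralizer (V : Set G) := by
  rw [Subgroup.mem_centralizer_iff]
  intro v hv
  symm
  -- the quotient V / V0 has at most 4 elements
  have hrel : V0.relIndex V ≤ 4 := by
    have h1 := card_inf_mul_relIndex V0 V
    rw [inf_eq_left.mpr hV0V] at h1
    have hpos : 0 < Nat.card V0 := Nat.card_pos
    rw [← h1, mul_comm 4] at hcard
    exact Nat.le_of_mul_le_mul_left hcard hpos
  have hw : ∀ i : ℕ, d ^ i * v * (d ^ i)⁻¹ ∈ V := fun i => hVn.conj_mem v hv (d ^ i)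
  let f : Fin 5 → V ⧸ V0.subgroupOf V := fun i => QuotientGroup.mk ⟨_, hw i.1⟩
  let _ : Fintype (V ⧸ V0.subgroupOf V) := Fintype.ofFinite _
  have hcardq : Fintype.card (V ⧸ V0.subgroupOf V) < Fintype.card (Fin 5) := by
    rw [← Nat.card_eq_fintype_card, Fintype.card_fin]
    have : Nat.card (V ⧸ V0.subgroupOf V) = V0.relIndex V := rfl
    omega
  obtain ⟨i, j, hij, hfij⟩ := Fintype.exists_ne_map_eq_of_card_lt f hcardq
  -- wlog i < j
  have key : ∀ i j : Fin 5, i.1 < j.1 → f i = f j → d * v = v * d := by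
    intro i j hlt hf
    have hmem : (⟨_, hw i.1⟩ : V)⁻¹ * ⟨_, hw j.1⟩ ∈ V0.subgroupOf V := QuotientGroup.eq.1 hf
    rw [Subgroup.mem_subgroupOf] at hmem
    have hmem' : (d ^ i.1 * v * (d ^ i.1)⁻¹)⁻¹ * (d ^ j.1 * v * (d ^ j.1)⁻¹) ∈ V0 := by
      simpa using hmem
    obtain ⟨m, hm⟩ : ∃ m, j.1 = i.1 + m := ⟨j.1 - i.1, by omega⟩
    have hj4 : j.1 < 5 := j.2
    apply commute_of_pow_coset hV0c (fun x hx => hVEA.2 x (hV0V hx)) d v q hq hq5 hd m
      (by omega) (by omega)
    -- conjugate back with the central element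
    have hcen := Subgroup.mem_center_iff.1 (hV0c hmem') (d ^ i.1)
    have e : v⁻¹ * (d ^ m * v * (d ^ m)⁻¹) =
        (d ^ i.1)⁻¹ * ((d ^ i.1 * v * (d ^ i.1)⁻¹)⁻¹ * (d ^ j.1 * v * (d ^ j.1)⁻¹)) * d ^ i.1 := by
      rw [hm, pow_add]; group
    have e2 : (d ^ i.1)⁻¹ * ((d ^ i.1 * v * (d ^ i.1)⁻¹)⁻¹ * (d ^ j.1 * v * (d ^ j.1)⁻¹)) * d ^ i.1 =
        (d ^ i.1 * v * (d ^ i.1)⁻¹)⁻¹ * (d ^ j.1 * v * (d ^ j.1)⁻¹) := by
      rw [mul_assoc, ← hcen, ← mul_assoc, inv_mul_cancel, one_mul]
    rw [e, e2]
    exact hmem'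
  rcases lt_or_gt_of_ne (fun h' => hij (Fin.ext h')) with hlt | hlt
  · exact key i j hlt hfij
  · exact key j i hlt hfij.symm

/-- **The pushing-up lemma**: in the situation `PU`, `q = 3`. -/
theorem q_eq_three (h : PU T K q) : q = 3 := by
  have hq := h.hq
  by_contra hq3
  have hq5 : 5 ≤ q := by
    have h2 := hq.two_le
    have hq2 := h.hq2
    by_contra hlt
    push Not at hlt
    have : q = 4 := by omega
    rw [this] at hq
    exact absurd hq (by decide)
  -- an element of order q
  have hdvd : q ∣ Nat.card G := by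
    rw [← Subgroup.card_mul_index T, h.hGT]
    exact Dvd.intro_left _ rfl
  haveI : Fact q.Prime := ⟨hq⟩
  obtain ⟨d, hd⟩ := exists_prime_orderOf_dvd_card' q hdvd
  obtain ⟨V0, hV0V, hV0c, hcard⟩ := claim4 h
  exact claim1 h d hd (claim5 hV0V hV0c EA_VV hcard d q hq hq5 hd)

end Main

end Cfsg.Agent.Lib.Helper65_S2772A
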