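import Cfsg.Agent.Lib.Helper65_S2772A
import Cfsg.Agent.Lib.Helper1_Cores

/-!
# S2772 part B: from the maximal 2-local `G` of the simple group `H` to the pushing-up setup `PU`,
and to the primitive action of `H` on `H ⧸ G` with a suborbit of length 3.
-/

set_option autoImplicit false

namespace Cfsg.Agent.Lib.Helper65_S2772B

open Subgroup Cfsg Cfsg.Agent.Lib.Helper65_S2772A Cfsg.Agent.Lib.Helper1_Cores

universe u

section Abstract
variable {Gt : Type u} [Group Gt] [Finite Gt]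

theorem index_pCore (q : ℕ) (e : Gt ⧸ pCore 2 Gt ≃* DihedralGroup q) :
    (pCore 2 Gt).index = 2 * q := by
  rw [Subgroup.index, Nat.card_congr e.toEquiv, DihedralGroup.nat_card]

theorem q_ne_two (q : ℕ) (e : Gt ⧸ pCore 2 Gt ≃* DihedralGroup q) : q ≠ 2 := by
  rintro rfl
  have hK : IsPGroup 2 (pCore 2 Gt) := pCore_isPGroup 2
  obtain ⟨k, hk⟩ := IsPGroup.iff_card.1 hK
  have hcard : Nat.card Gt = 2 ^ (k + 2) := by
    rw [← Subgroup.index_mul_card (pCore 2 Gt), index_pCore 2 e, hk]; ring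
  have hG2 : IsPGroup 2 Gt := IsPGroup.of_card hcard
  have htop : pCore 2 Gt = ⊤ := by
    apply top_le_iff.1
    exact le_pCore (N := ⊤) inferInstance (hG2.to_subgroup ⊤)
  have := index_pCore 2 e
  rw [htop, Subgroup.index_top] at this
  omega

theorem sylow_indices (q : ℕ) (hq : q.Prime) (hq2 : q ≠ 2)
    (e : Gt ⧸ pCore 2 Gt ≃* DihedralGroup q) (S : Sylow 2 Gt) :
    (pCore 2 Gt).relIndex (S : Subgroup Gt) = 2 ∧ (S : Subgroup Gt).index = q := by
  have hKS : pCore 2 Gt ≤ S := pCore_le_sylow 2 S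
  have h1 : (pCore 2 Gt).relIndex S * (S : Subgroup Gt).index = 2 * q := by
    rw [Subgroup.relIndex_mul_index hKS, index_pCore q e]
  have h2 : ¬ 2 ∣ (S : Subgroup Gt).index := S.not_dvd_index
  obtain ⟨k, hk⟩ : ∃ k, (pCore 2 Gt).relIndex S = 2 ^ k := by
    have hS2 : IsPGroup 2 (S : Subgroup Gt) := S.isPGroup'
    obtain ⟨m, hm⟩ := IsPGroup.iff_card.1 hS2
    have hdvd : (pCore 2 Gt).relIndex S ∣ 2 ^ m := by
      rw [← hm]; exact Subgroup.relIndex_dvd_card _ _
    obtain ⟨k, -, hk⟩ := (Nat.dvd_prime_pow Nat.prime_two).1 hdvd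
    exact ⟨k, hk⟩
  rw [hk] at h1 ⊢
  rcases Nat.eq_zero_or_pos k with rfl | hpos
  · exfalso
    rw [pow_zero, one_mul] at h1
    exact h2 ⟨q, h1⟩
  · obtain ⟨k', rfl⟩ : ∃ k', k = k' + 1 := ⟨k - 1, by omega⟩
    have h3 : 2 ^ k' * (S : Subgroup Gt).index = q := by
      have : 2 * (2 ^ k' * (S : Subgroup Gt).index) = 2 * q := by rw [← h1]; ring
      exact Nat.eq_of_mul_eq_mul_left (by norm_num) this
    have hd : 2 ^ k' ∣ q := ⟨_, h3.symm⟩
    rcases (Nat.dvd_prime hq).1 hd with h4 | h4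
    · rw [h4, one_mul] at h3
      have hk0 : k' = 0 := by
        by_contra hne
        have : 2 ≤ 2 ^ k' := by
          calc 2 = 2 ^ 1 := by norm_num
            _ ≤ 2 ^ k' := Nat.pow_le_pow_right (by norm_num) (by omega)
        omega
      subst hk0
      exact ⟨by norm_num, h3⟩
    · exfalso
      rcases Nat.eq_zero_or_pos k' with rfl | hpos'
      · rw [pow_zero] at h4
        exact hq.one_lt.ne h4
      · have : 2 ∣ q := by
          rw [← h4]; exact dvd_pow_self 2 (by omega)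
        exact hq2 ((Nat.prime_dvd_prime_iff_eq Nat.prime_two hq).1 this).symm

end Abstract

section InH
variable {H : Type u} [Group H] [Finite H] [IsSimpleGroup H]

/-- a subgroup of the maximal subgroup `G` which is normalised by `G` and by some `n ∉ G` is trivial. -/
theorem eq_bot_of_normalized (G : Subgroup H) (hG : IsCoatom G) (n : H) (hnG : n ∉ G)
    (Y : Subgroup H) (hYG : Y ≤ G) (h1 : G ≤ Subgroup.normalizer (Y : Set H))
    (h2 : n ∈ Subgroup.normalizer (Y : Set H)) : Y = ⊥ := by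
  have hlt : G < Subgroup.normalizer (Y : Set H) :=
    lt_of_le_of_ne h1 (fun h => hnG (h ▸ h2))
  have htop := hG.2 _ hlt
  have hYn : Y.Normal := Subgroup.normalizer_eq_top_iff.1 htop
  rcases hYn.eq_bot_or_eq_top with h | h
  · exact h
  · exfalso
    apply hG.1
    rw [h] at hYG
    exact top_le_iff.1 hYG

theorem hcore_of (G : Subgroup H) (hG : IsCoatom G) (T : Subgroup ↥G) (n : H)
    (hn : n ∈ Subgroup.normalizer ((T.map G.subtype : Subgroup H) : Set H)) (hnG : n ∉ G)
    (Y : Subgroup ↥T) (hY : Y.Characteristic) (hYn : (Y.map T.subtype).Normal) : Y = ⊥ := by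
  classical
  have hn' := Subgroup.mem_normalizer_iff.1 hn
  -- the embedding of `T` in `H`
  have hmemSH : ∀ t : ↥T, ((t : ↥G) : H) ∈ T.map G.subtype := fun t =>
    Subgroup.mem_map.2 ⟨(t : ↥G), t.2, rfl⟩
  have hconjSH : ∀ t : ↥T, n * ((t : ↥G) : H) * n⁻¹ ∈ T.map G.subtype := fun t =>
    (hn' _).1 (hmemSH t)
  have hconjG : ∀ t : ↥T, n * ((t : ↥G) : H) * n⁻¹ ∈ G := fun t => by
    obtain ⟨s, -, hs⟩ := Subgroup.mem_map.1 (hconjSH t)
    rw [← hs]; exact s.2
  have hconjT : ∀ t : ↥T, (⟨n * ((t : ↥G) : H) * n⁻¹, hconjG t⟩ : ↥G) ∈ T := fun t => by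
    obtain ⟨s, hsT, hs⟩ := Subgroup.mem_map.1 (hconjSH t)
    have : (⟨n * ((t : ↥G) : H) * n⁻¹, hconjG t⟩ : ↥G) = s := Subtype.ext hs.symm
    rw [this]; exact hsT
  let ψ : ↥T →* ↥T := MonoidHom.mk' (fun t => ⟨⟨n * ((t : ↥G) : H) * n⁻¹, hconjG t⟩, hconjT t⟩)
    (by
      intro s t
      apply Subtype.ext; apply Subtype.ext
      simp only [Subgroup.coe_mul]
      group)
  have hψ : ∀ t : ↥T, (((ψ t : ↥T) : ↥G) : H) = n * ((t : ↥G) : H) * n⁻¹ := fun t => rfl
  have hinj : Function.Injective ψ := by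
    intro s t hst
    have h := congrArg (fun z : ↥T => ((z : ↥G) : H)) hst
    simp only [hψ] at h
    apply Subtype.ext; apply Subtype.ext
    exact mul_left_cancel (mul_right_cancel h)
  have hbij : Function.Bijective ψ := Finite.injective_iff_bijective.1 hinj
  let φ : ↥T ≃* ↥T := MulEquiv.ofBijective ψ hbij
  have hfix : Y.map φ.toMonoidHom = Y := (Subgroup.characteristic_iff_map_eq.1 hY) φ
  -- the image of `Y` in `H`
  set YH : Subgroup H := (Y.map T.subtype).map G.subtype with hYH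
  have hYHG : YH ≤ G := by
    rintro _ ⟨g, -, rfl⟩
    exact g.2
  have hnY : n ∈ Subgroup.normalizer (YH : Set H) := by
    apply Subgroup.mem_normalizer_fintype
    rintro _ ⟨_, ⟨y, hy, rfl⟩, rfl⟩
    have h1 : φ y ∈ Y := by
      rw [← hfix]; exact Subgroup.mem_map.2 ⟨y, hy, rfl⟩
    refine ⟨((φ y : ↥T) : ↥G), ⟨φ y, h1, rfl⟩, ?_⟩
    exact hψ y
  have hGY : G ≤ Subgroup.normalizer (YH : Set H) := by
    intro g hg
    apply Subgroup.mem_normalizer_fintype
    rintro _ ⟨z, hz, rfl⟩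
    refine ⟨(⟨g, hg⟩ : ↥G) * z * (⟨g, hg⟩ : ↥G)⁻¹, hYn.conj_mem z hz _, ?_⟩
    simp
  have hbot := eq_bot_of_normalized G hG n hnG YH hYHG hGY hnY
  have h3 : Y.map T.subtype = ⊥ :=
    (Subgroup.map_eq_bot_iff_of_injective _ (Subgroup.subtype_injective G)).1 hbot
  exact (Subgroup.map_eq_bot_iff_of_injective _ (Subgroup.subtype_injective T)).1 h3

/-- the pushing-up setup from the hypotheses of S2772. -/
theorem pu_of (G : Subgroup H) (hG : IsCoatom G)
    (hchar : Subgroup.centralizer (pCore 2 ↥G : Set ↥G) ≤ pCore 2 ↥G) (S : Sylow 2 ↥G)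
    (n : H) (hn : n ∈ Subgroup.normalizer ((((S : Subgroup ↥G).map G.subtype : Subgroup H)) : Set H))
    (hnG : n ∉ G) (q : ℕ) (hq : q.Prime) (e : ↥G ⧸ pCore 2 ↥G ≃* DihedralGroup q) :
    PU (S : Subgroup ↥G) (pCore 2 ↥G) q := by
  have hq2 : q ≠ 2 := q_ne_two q e
  obtain ⟨h1, h2⟩ := sylow_indices q hq hq2 e S
  exact
    { hq := hq
      hq2 := hq2
      hKT := pCore_le_sylow 2 S
      hT := S.isPGroup'
      hTK := h1
      hGT := h2
      hchar := hchar
      hcore := fun Y hY hYn => hcore_of G hG (S : Subgroup ↥G) n hn hnG Y hY hYn }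

theorem faithful_of (G : Subgroup H) (hG : IsCoatom G) : FaithfulSMul H (H ⧸ G) := by
  refine ⟨fun {m₁ m₂} h => ?_⟩
  have hker : (MulAction.toPermHom H (H ⧸ G)).ker = ⊥ := by
    rw [← Subgroup.normalCore_eq_ker]
    rcases (Subgroup.normalCore_normal G).eq_bot_or_eq_top with h | h
    · exact h
    · exfalso
      apply hG.1
      apply top_le_iff.1
      rw [← h]
      exact Subgroup.normalCore_le G
  have h2 : MulAction.toPermHom H (H ⧸ G) m₁ = MulAction.toPermHom H (H ⧸ G) m₂ := by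
    ext x; exact h x
  exact (MonoidHom.ker_eq_bot_iff _).1 hker h2

theorem nontrivial_quot (G : Subgroup H) (hG : IsCoatom G) : Nontrivial (H ⧸ G) := by
  have hne : ∃ h : H, h ∉ G := by
    by_contra hcon
    have hcon' : ∀ x : H, x ∈ G := fun x => by
      by_contra hx
      exact hcon ⟨x, hx⟩
    exact hG.1 (top_le_iff.1 fun x _ => hcon' x)
  obtain ⟨h, hh⟩ := hne
  refine ⟨⟨((1 : H) : H ⧸ G), ((h : H) : H ⧸ G), ?_⟩⟩
  intro heq
  rw [QuotientGroup.eq] at heq
  apply hh
  simpa using heq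

theorem preprimitive_of (G : Subgroup H) (hG : IsCoatom G) :
    MulAction.IsPreprimitive H (H ⧸ G) := by
  have := nontrivial_quot G hG
  rw [← MulAction.isCoatom_stabilizer_iff_preprimitive (G := H) ((1 : H) : H ⧸ G),
    MulAction.stabilizer_quotient]
  exact hG

theorem normalizer_eq_self (G : Subgroup H) (hG : IsCoatom G) (hGne : G ≠ ⊥) :
    Subgroup.normalizer (G : Set H) = G := by
  rcases hG.le_iff.1 (Subgroup.le_normalizer (H := G)) with h | h
  · exfalso
    have hn : G.Normal := Subgroup.normalizer_eq_top_iff.1 h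
    rcases hn.eq_bot_or_eq_top with h1 | h1
    · exact hGne h1
    · exact hG.1 h1
  · exact h

theorem card_suborbit (G : Subgroup H) (hG : IsCoatom G) (hGne : G ≠ ⊥) (T : Subgroup ↥G)
    (hT3 : T.index = 3) (n : H)
    (hn : n ∈ Subgroup.normalizer ((T.map G.subtype : Subgroup H) : Set H)) (hnG : n ∉ G) :
    Nat.card (MulAction.orbit (MulAction.stabilizer H ((1 : H) : H ⧸ G))
      (((n : H) : H ⧸ G))) = 3 := by
  classical
  set A : Subgroup H := MulAction.stabilizer H ((1 : H) : H ⧸ G) with hA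
  have hAG : A = G := MulAction.stabilizer_quotient G
  set bq : H ⧸ G := ((n : H) : H ⧸ G) with hbq
  have hbq' : bq = n • ((1 : H) : H ⧸ G) := by
    rw [hbq]
    show _ = ((n * 1 : H) : H ⧸ G)
    rw [mul_one]
  rw [Nat.card_coe_set_eq, ← MulAction.index_stabilizer]
  have hstab : MulAction.stabilizer (↥A) bq = (MulAction.stabilizer H bq).subgroupOf A := by
    ext ⟨g, hg⟩
    simp only [MulAction.mem_stabilizer_iff, Subgroup.mem_subgroupOf]
    rfl
  rw [hstab]
  show (MulAction.stabilizer H bq).relIndex A = 3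
  rw [hbq', MulAction.stabilizer_smul_eq_stabilizer_map_conj, ← hA, hAG]
  set Gn : Subgroup H := G.map (MulAut.conj n).toMonoidHom with hGn
  -- `T ≤ Gn.subgroupOf G`
  have hn' := Subgroup.mem_normalizer_iff''.1 hn
  have hTL : T ≤ Gn.subgroupOf G := by
    intro t ht
    rw [Subgroup.mem_subgroupOf]
    have h1 : ((t : ↥G) : H) ∈ T.map G.subtype := Subgroup.mem_map.2 ⟨t, ht, rfl⟩
    have h2 := (hn' _).1 h1
    obtain ⟨s, -, hs⟩ := Subgroup.mem_map.1 h2
    refine Subgroup.mem_map.2 ⟨(s : H), s.2, ?_⟩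
    have hs' : ((s : ↥G) : H) = n⁻¹ * (t : H) * n := hs
    simp only [MulEquiv.coe_toMonoidHom, MulAut.conj_apply]
    rw [hs']; group
  rcases eq_or_eq_top_of_prime_index T (Gn.subgroupOf G) 3 Nat.prime_three hT3 hTL with h | h
  · show (Gn.subgroupOf G).index = 3
    rw [h, hT3]
  · exfalso
    have hle : G ≤ Gn := Subgroup.subgroupOf_eq_top.1 h
    have hcard : Nat.card Gn = Nat.card G :=
      Subgroup.card_map_of_injective (MulAut.conj n).injective
    have heq : G = Gn := Subgroup.eq_of_le_of_card_ge hle hcard.le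
    have hnN : n ∈ Subgroup.normalizer (G : Set H) := by
      rw [Subgroup.mem_normalizer_iff_map_conj_eq]
      exact heq.symm
    rw [normalizer_eq_self G hG hGne] at hnN
    exact hnG hnN

theorem centralizer_eq_top_of_card_two {Gt : Type u} [Group Gt] (K : Subgroup Gt) [hKn : K.Normal]
    (hK : Nat.card K = 2) : Subgroup.centralizer (K : Set Gt) = ⊤ := by
  rw [eq_top_iff]
  intro g _
  rw [Subgroup.mem_centralizer_iff]
  intro x hx
  obtain ⟨y, hy1, hy2⟩ := (Nat.card_eq_two_iff' (1 : ↥K)).1 hK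
  by_cases hx1 : x = 1
  · subst hx1; simp
  · have e1 : (⟨x, hx⟩ : ↥K) = y := hy2 _ (fun h => hx1 (congrArg Subtype.val h))
    have hc : g * x * g⁻¹ ∈ K := hKn.conj_mem x hx g
    have hc1 : g * x * g⁻¹ ≠ 1 := by
      intro h
      apply hx1
      have : x = g⁻¹ * (g * x * g⁻¹) * g := by group
      rw [this, h]; group
    have e2 : (⟨g * x * g⁻¹, hc⟩ : ↥K) = y := hy2 _ (fun h => hc1 (congrArg Subtype.val h))
    have e3 : g * x * g⁻¹ = x := by
      have := e2.trans e1.symm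
      exact congrArg Subtype.val this
    calc x * g = (g * x * g⁻¹) * g := by rw [e3]
      _ = g * x := by group

/-- S2772 from the conclusion of S3685 for the action of `H` on `H ⧸ G`. -/
theorem main (G : Subgroup H) (hG : IsCoatom G)
    (hchar : Subgroup.centralizer (pCore 2 ↥G : Set ↥G) ≤ pCore 2 ↥G) (S : Sylow 2 ↥G)
    (hN : ¬ Subgroup.normalizer ((((S : Subgroup ↥G).map G.subtype : Subgroup H)) : Set H) ≤ G)
    (q : ℕ) (hq : q.Prime) (hD : Nonempty (↥G ⧸ pCore 2 ↥G ≃* DihedralGroup q))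
    (hSims : ∀ a b : H ⧸ G, Nat.card (MulAction.orbit (MulAction.stabilizer H a) b) = 3 →
      Nonempty (MulAction.stabilizer H a ≃* Multiplicative (ZMod 3)) ∨
      Nonempty (MulAction.stabilizer H a ≃* Equiv.Perm (Fin 3)) ∨
      Nonempty (MulAction.stabilizer H a ≃* DihedralGroup 6) ∨
      Nonempty (MulAction.stabilizer H a ≃* Equiv.Perm (Fin 4)) ∨
      Nonempty (MulAction.stabilizer H a ≃* Equiv.Perm (Fin 4) × Multiplicative (ZMod 2))) :
    Nonempty (↥G ≃* Equiv.Perm (Fin 4)) ∨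
      Nonempty (↥G ≃* Equiv.Perm (Fin 4) × Multiplicative (ZMod 2)) := by
  obtain ⟨e⟩ := hD
  obtain ⟨n, hn, hnG⟩ := SetLike.not_le_iff_exists.1 hN
  have hPU := pu_of G hG hchar S n hn hnG q hq e
  have hq3 : q = 3 := q_eq_three hPU
  subst hq3
  -- orders
  have hidx : (pCore 2 ↥G).index = 6 := by rw [index_pCore 3 e]
  have hcard : Nat.card ↥G = 6 * Nat.card (pCore 2 ↥G) := by
    rw [← Subgroup.index_mul_card (pCore 2 ↥G), hidx]
  have hKpos : 0 < Nat.card (pCore 2 ↥G) := Nat.card_pos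
  have hGne : G ≠ ⊥ := by
    intro h
    have : Nat.card ↥G = 1 := by rw [h]; exact Subgroup.card_bot
    omega
  have h3 := card_suborbit G hG hGne (S : Subgroup ↥G) hPU.hGT n hn hnG
  have hiso := hSims _ _ h3
  have tr : ∀ {X : Type} [Group X], Nonempty (MulAction.stabilizer H ((1 : H) : H ⧸ G) ≃* X) →
      Nonempty (↥G ≃* X) := by
    intro X _ ⟨f⟩
    exact ⟨(MulEquiv.subgroupCongr (MulAction.stabilizer_quotient G)).symm.trans f⟩
  rcases hiso with h | h | h | h | h
  · exfalso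
    obtain ⟨f⟩ := tr h
    have : Nat.card ↥G = 3 := by
      rw [Nat.card_congr f.toEquiv]
      exact Nat.card_zmod 3
    omega
  · exfalso
    obtain ⟨f⟩ := tr h
    have h6 : Nat.card ↥G = 6 := by
      rw [Nat.card_congr f.toEquiv, Nat.card_perm, Nat.card_fin]; rfl
    have hK1 : Nat.card (pCore 2 ↥G) = 1 := by omega
    have hKbot : pCore 2 ↥G = ⊥ := Subgroup.card_eq_one.1 hK1
    have htop : Subgroup.centralizer (pCore 2 ↥G : Set ↥G) = ⊤ := by
      rw [hKbot]; simp
    rw [htop, hKbot] at hchar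
    have : Nat.card ↥G = 1 := by
      have hbt : (⊤ : Subgroup ↥G) = ⊥ := le_antisymm hchar bot_le
      rw [← Subgroup.card_top (G := ↥G), hbt, Subgroup.card_bot]
    omega
  · exfalso
    obtain ⟨f⟩ := tr h
    have h12 : Nat.card ↥G = 12 := by
      rw [Nat.card_congr f.toEquiv, DihedralGroup.nat_card]
    have hK2 : Nat.card (pCore 2 ↥G) = 2 := by omega
    have htop := centralizer_eq_top_of_card_two (pCore 2 ↥G) hK2
    rw [htop] at hchar
    have : Nat.card ↥G = 2 := by
      have hbt : (⊤ : Subgroup ↥G) = pCore 2 ↥G := le_antisymm hchar le_top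
      rw [← Subgroup.card_top (G := ↥G), hbt, hK2]
    omega
  · exact Or.inl (tr h)
  · exact Or.inr (tr h)

end InH

end Cfsg.Agent.Lib.Helper65_S2772B
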