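import Mathlib
import Cfsg.Agent.Lib.Helper40_PGLDefs
import Cfsg.Agent.Lib.Helper49_S3466_SDP

/-!
# S3452-SUM (helper65, for helper40): the torus orbit sum of the circle indicator `fE` at `Y` is `1`.
-/

set_option autoImplicit false
open scoped Matrix
open Cfsg.Agent.Lib.Helper40_PGLDefs

namespace Cfsg.Agent.Lib.Helper65_S3452_SUM

theorem two_ne_zero' (p : ℕ) [Fact p.Prime] (hp2 : p ≠ 2) : (2 : ZMod p) ≠ 0 := by
  intro h2
  have : ((2 : ℕ) : ZMod p) = 0 := by exact_mod_cast h2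
  rw [ZMod.natCast_eq_zero_iff] at this
  have hp : p.Prime := Fact.out
  have := (Nat.prime_dvd_prime_iff_eq hp Nat.prime_two).1 this
  exact hp2 this

/-- for trace-zero `M`, the linear form of `InE` is `tr (M X)`. -/
theorem lin_eq_trace (p : ℕ) [Fact p.Prime] (δ x₁ x₂ : ZMod p) (M : M2 p)
    (hM : M 0 0 + M 1 1 = 0) :
    2 * x₁ * M 0 0 + x₂ * (M 1 0 - δ * M 0 1) = Matrix.trace (M * YY p δ x₁ x₂) := by
  have h11 : M 1 1 = - M 0 0 := by linear_combination hM
  simp only [Matrix.trace, Matrix.diag, Matrix.mul_apply, Fin.sum_univ_two, YY,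
    Matrix.of_apply, Matrix.cons_val', Matrix.cons_val_zero, Matrix.cons_val_one,
    Matrix.empty_val', Matrix.cons_val_fin_one]
  rw [h11]
  ring

/-- a matrix commuting with two independent points `X`, `Y` of the plane is scalar. -/
theorem scalar_of_commute (p : ℕ) [Fact p.Prime] (hp2 : p ≠ 2) (δ a b x₁ x₂ : ZMod p)
    (hx : x₁ * b - x₂ * a ≠ 0) (h : M2 p)
    (hX : h * YY p δ x₁ x₂ = YY p δ x₁ x₂ * h) (hY : h * YY p δ a b = YY p δ a b * h) :
    h 0 1 = 0 ∧ h 1 0 = 0 ∧ h 0 0 = h 1 1 := by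
  have h2 := two_ne_zero' p hp2
  have eX01 := congrFun (congrFun hX 0) 1
  have eX00 := congrFun (congrFun hX 0) 0
  have eY01 := congrFun (congrFun hY 0) 1
  have eY00 := congrFun (congrFun hY 0) 0
  simp only [Matrix.mul_apply, Fin.sum_univ_two, YY,
    Matrix.of_apply, Matrix.cons_val', Matrix.cons_val_zero, Matrix.cons_val_one,
    Matrix.empty_val', Matrix.cons_val_fin_one] at eX01 eX00 eY01 eY00
  have k1 : 2 * ((x₁ * b - x₂ * a) * h 0 1) = 0 := by
    linear_combination (-b) * eX01 + x₂ * eY01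
  have k2 : (x₁ * b - x₂ * a) * (h 0 0 - h 1 1) = 0 := by
    linear_combination (-a) * eX01 + x₁ * eY01
  have h0011 : h 0 0 = h 1 1 := by
    rcases mul_eq_zero.1 k2 with h | h
    · exact absurd h hx
    · exact sub_eq_zero.1 h
  have h01 : h 0 1 = 0 := by
    rcases mul_eq_zero.1 k1 with h | h
    · exact absurd h h2
    · rcases mul_eq_zero.1 h with h | h
      · exact absurd h hx
      · exact h
  have k3 : (x₁ * b - x₂ * a) * h 1 0 = 0 := by
    linear_combination a * eX00 - x₁ * eY00 - δ * (x₁ * b - x₂ * a) * h01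
  have h10 : h 1 0 = 0 := by
    rcases mul_eq_zero.1 k3 with h | h
    · exact absurd h hx
    · exact h
  exact ⟨h01, h10, h0011⟩

/-- a scalar matrix of determinant one is `±1`. -/
theorem pm_one_of_scalar (p : ℕ) [Fact p.Prime] (g : SL2 p)
    (h01 : (g : M2 p) 0 1 = 0) (h10 : (g : M2 p) 1 0 = 0) (h : (g : M2 p) 0 0 = (g : M2 p) 1 1) :
    (g : M2 p) = 1 ∨ (g : M2 p) = -1 := by
  have hdet : (g : M2 p).det = 1 := g.2
  rw [Matrix.det_fin_two, h01, ← h] at hdet
  have hsq : ((g : M2 p) 0 0 - 1) * ((g : M2 p) 0 0 + 1) = 0 := by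
    linear_combination hdet
  rcases mul_eq_zero.1 hsq with h1 | h1
  · left
    have h00 : (g : M2 p) 0 0 = 1 := sub_eq_zero.1 h1
    ext i j
    fin_cases i <;> fin_cases j
    · simpa using h00
    · simpa using h01
    · simpa using h10
    · simp only [Fin.mk_one, Fin.isValue, Matrix.one_apply_eq]
      rw [← h, h00]
  · right
    have h00 : (g : M2 p) 0 0 = -1 := by linear_combination h1
    ext i j
    fin_cases i <;> fin_cases j
    · simpa using h00
    · simpa using h01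
    · simpa using h10
    · simp only [Fin.mk_one, Fin.isValue, Matrix.neg_apply, Matrix.one_apply_eq]
      rw [← h, h00]

theorem torus_sum (p : ℕ) [Fact p.Prime] (hp2 : p ≠ 2) (δ a b a' b' x₁ x₂ : ZMod p)
    (hδ : ¬ IsSquare δ) (h1 : a ^ 2 - δ * b ^ 2 = δ)
    (hx : x₁ * b - x₂ * a ≠ 0)
    (huniq : ∀ M : M2 p, InE p δ a b a' b' M →
      2 * x₁ * M 0 0 + x₂ * (M 1 0 - δ * M 0 1) = 2 * x₁ * a - 2 * δ * x₂ * b → M = YY p δ a b)
    (hY : InE p δ a b a' b' (YY p δ a b))
    (g : SL2 p) (hcomm : (g : M2 p) * YY p δ x₁ x₂ = YY p δ x₁ x₂ * (g : M2 p)) (d : ℕ) (hd : 0 < d)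
    (hord : ∀ j : ℕ, (((g ^ j : SL2 p) : M2 p) = 1 ∨ ((g ^ j : SL2 p) : M2 p) = -1) ↔ d ∣ j)
    (v : cuspSub p) (hv : (v : M2 p → ZMod 2) = fE p δ a b a' b') :
    (((∑ i ∈ Finset.range d, (rho p g) ^ i) v : cuspSub p) : M2 p → ZMod 2) (YY p δ a b) = 1 := by
  classical
  rw [Cfsg.Agent.Lib.Helper49_S3466_SDP.end_sum_apply]
  have hcoe : ((∑ i ∈ Finset.range d, ((rho p g) ^ i) v : cuspSub p) : M2 p → ZMod 2) (YY p δ a b)
      = ∑ i ∈ Finset.range d, ((((rho p g) ^ i) v : cuspSub p) : M2 p → ZMod 2) (YY p δ a b) := by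
    rw [AddSubgroup.val_finsetSum, Finset.sum_apply]
  rw [hcoe]
  rw [Finset.sum_eq_single_of_mem 0 (Finset.mem_range.2 hd)]
  · rw [rho_pow_apply, hv]
    simp only [pow_zero, inv_one, Matrix.SpecialLinearGroup.coe_one, one_mul, mul_one]
    unfold fE
    rw [if_pos hY]
  · intro i hi hi0
    rw [rho_pow_apply, hv]
    unfold fE
    rw [if_neg]
    intro hin
    set hh : SL2 p := g ^ i with hh_def
    set M : M2 p := ((hh⁻¹ : SL2 p) : M2 p) * YY p δ a b * (hh : M2 p) with hM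
    -- `hh` commutes with `X`
    have hcommi : (hh : M2 p) * YY p δ x₁ x₂ = YY p δ x₁ x₂ * (hh : M2 p) := by
      have : Commute (g : M2 p) (YY p δ x₁ x₂) := hcomm
      have := this.pow_left i
      rw [hh_def, Matrix.SpecialLinearGroup.coe_pow]
      exact this
    have htr0 : M 0 0 + M 1 1 = 0 := hin.1
    have hlin : 2 * x₁ * M 0 0 + x₂ * (M 1 0 - δ * M 0 1) = 2 * x₁ * a - 2 * δ * x₂ * b := by
      rw [lin_eq_trace p δ x₁ x₂ M htr0]
      have e1 : M * YY p δ x₁ x₂ =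
          ((hh⁻¹ : SL2 p) : M2 p) * (YY p δ a b * YY p δ x₁ x₂ * (hh : M2 p)) := by
        rw [hM]
        simp only [mul_assoc]
        rw [hcommi]
      rw [e1, Matrix.trace_mul_comm, mul_assoc, mul_inv_coe, mul_one]
      simp only [Matrix.trace, Matrix.diag, Matrix.mul_apply, Fin.sum_univ_two, YY,
        Matrix.of_apply, Matrix.cons_val', Matrix.cons_val_zero, Matrix.cons_val_one,
        Matrix.empty_val', Matrix.cons_val_fin_one]
      ring
    have hMY := huniq M hin hlin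
    -- so `hh` commutes with `Y`
    have hcommY : (hh : M2 p) * YY p δ a b = YY p δ a b * (hh : M2 p) := by
      have : (hh : M2 p) * M = YY p δ a b * (hh : M2 p) := by
        rw [hM]
        rw [← mul_assoc, ← mul_assoc, mul_inv_coe, one_mul]
      rw [← this, hMY]
    obtain ⟨k01, k10, k00⟩ := scalar_of_commute p hp2 δ a b x₁ x₂ hx (hh : M2 p) hcommi hcommY
    have hpm := pm_one_of_scalar p hh k01 k10 k00
    have hdvd := (hord i).1 hpm
    have hilt : i < d := Finset.mem_range.1 hi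
    have := Nat.le_of_dvd (Nat.pos_of_ne_zero hi0) hdvd
    omega

end Cfsg.Agent.Lib.Helper65_S3452_SUM
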