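import Cfsg.Agent.Lib.Helper47_TW2

/-!
# S3688 (Knapp): primitive `G`, suborbit of length `d ≥ 2`, point stabiliser `H` not strongly
constrained (`F*(H) ≠ O_p(H)` for all `p`) ⟹ `|H|` divides `d! ((d-1)!)^d`.

Corollary of helper47's Thompson–Wielandt theorem (`Helper47_TW.main`) and a counting argument:
if the second core `c2 M N` is trivial then `M → Sym(Δ(a))` has kernel `A = c1 M N` and
`A → ∏_{y ∈ Δ(a)} Sym(Δ'(y) ∖ {a})` is injective.
-/

set_option autoImplicit false

namespace Cfsg.Agent.Lib.Helper65_S3688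

open MulAction Cfsg Cfsg.Agent.Lib.Helper47_TW

universe u v

variable {G : Type u} {Ω : Type v} [Group G] [MulAction G Ω]

/-- membership in the first core `c1 G_a G_b`: the pointwise stabiliser of `a` and `Δ(a) = G_a b`. -/
theorem mem_c1_iff (a b : Ω) (x : G) :
    x ∈ c1 (stabilizer G a) (stabilizer G b) ↔
      x • a = a ∧ ∀ m : G, m • a = a → x • (m • b) = m • b := by
  unfold c1
  rw [mem_relCore]
  constructor
  · rintro ⟨hx, h⟩
    refine ⟨hx, fun m hm => ?_⟩
    have hm' : m⁻¹ ∈ stabilizer G a := inv_mem (mem_stabilizer_iff.2 hm)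
    have h1 : m⁻¹ * x * m⁻¹⁻¹ ∈ stabilizer G b := (h m⁻¹ hm').2
    rw [mem_stabilizer_iff, inv_inv, mul_smul, mul_smul, inv_smul_eq_iff] at h1
    exact h1
  · rintro ⟨hx, h⟩
    refine ⟨hx, fun m hm => ⟨?_, ?_⟩⟩
    · exact (stabilizer G a).mul_mem ((stabilizer G a).mul_mem hm hx) (inv_mem hm)
    · have hm' : m⁻¹ • a = a := by
        rw [inv_smul_eq_iff]; exact (mem_stabilizer_iff.1 hm).symm
      have h1 := h m⁻¹ hm'
      show m * x * m⁻¹ ∈ stabilizer G b
      rw [mem_stabilizer_iff, mul_smul, mul_smul, h1, smul_inv_smul]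

theorem c1_normal (M N : Subgroup G) {x m : G} (hx : x ∈ c1 M N) (hm : m ∈ M) :
    m * x * m⁻¹ ∈ c1 M N :=
  (Subgroup.mem_normalizer_iff.1 (le_normalizer_relCore M (M ⊓ N) hm) x).1 hx

theorem toPermHom_orbit_coe (M : Subgroup G) (b : Ω) (y : ↥M) (z : orbit ↥M b) :
    ((MulAction.toPermHom ↥M (orbit ↥M b) y z : orbit ↥M b) : Ω) = (y : G) • (z : Ω) := rfl

section Count
variable [Finite G] [Finite Ω] (a b : Ω)

/-- `|G_a| = |A| * r` with `r ∣ d!`. -/
theorem card_stab_eq :
    ∃ r, r ∣ (Nat.card (orbit (stabilizer G a) b)).factorial ∧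
      Nat.card (stabilizer G a) = Nat.card (c1 (stabilizer G a) (stabilizer G b)) * r := by
  classical
  set M := stabilizer G a with hM
  let φ : ↥M →* Equiv.Perm (orbit ↥M b) := MulAction.toPermHom ↥M (orbit ↥M b)
  refine ⟨Nat.card φ.range, ?_, ?_⟩
  · have := Subgroup.card_subgroup_dvd_card φ.range
    rwa [Nat.card_perm] at this
  · have hker : φ.ker.map M.subtype = c1 M (stabilizer G b) := by
      ext x
      rw [mem_c1_iff, Subgroup.mem_map]
      constructor
      · rintro ⟨y, hy, rfl⟩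
        refine ⟨mem_stabilizer_iff.1 y.2, fun m hm => ?_⟩
        have h1 : φ y = 1 := hy
        have h2 := congrArg (fun σ : Equiv.Perm (orbit ↥M b) =>
          ((σ ⟨(⟨m, mem_stabilizer_iff.2 hm⟩ : ↥M) • b, mem_orbit _ _⟩ : orbit ↥M b) : Ω)) h1
        simp only [Equiv.Perm.coe_one, id_eq] at h2
        rw [toPermHom_orbit_coe] at h2
        exact h2
      · rintro ⟨hx, h⟩
        refine ⟨⟨x, mem_stabilizer_iff.2 hx⟩, ?_, rfl⟩
        rw [MonoidHom.mem_ker]
        ext ⟨z, hz⟩
        obtain ⟨m, rfl⟩ := hz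
        have := h (m : G) (mem_stabilizer_iff.1 m.2)
        exact this
    have h1 : Nat.card (c1 M (stabilizer G b)) = Nat.card φ.ker := by
      rw [← hker]
      exact Subgroup.card_map_of_injective M.subtype_injective
    rw [h1, ← Subgroup.index_ker, Subgroup.card_mul_index]

/-- the in-neighbours of `y ∈ Δ(a)` other than `a`: an `A`-invariant set (`A = c1 G_a G_b`). -/
def S (y : orbit (stabilizer G a) b) :
    SubMulAction ↥(c1 (stabilizer G a) (stabilizer G b)) Ω where
  carrier := {z | z ∈ orbit (stabilizer G (y : Ω)) a ∧ z ≠ a}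
  smul_mem' := by
    rintro x z ⟨⟨n, rfl⟩, hz⟩
    have hx := (mem_c1_iff a b (x : G)).1 x.2
    obtain ⟨m, hm⟩ := y.2
    have hxy : (x : G) • (y : Ω) = y := by
      rw [← hm]; exact hx.2 (m : G) (mem_stabilizer_iff.1 m.2)
    have hxa : (x : G)⁻¹ • a = a := by rw [inv_smul_eq_iff]; exact hx.1.symm
    refine ⟨⟨⟨(x : G) * n * (x : G)⁻¹, ?_⟩, ?_⟩, ?_⟩
    · rw [mem_stabilizer_iff, mul_smul, mul_smul]
      have h1 : (x : G)⁻¹ • (y : Ω) = y := by rw [inv_smul_eq_iff]; exact hxy.symm
      rw [h1, mem_stabilizer_iff.1 n.2, hxy]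
    · show ((x : G) * n * (x : G)⁻¹) • a = (x : G) • ((n : G) • a)
      rw [mul_smul, mul_smul, hxa]
    · intro h
      apply hz
      have h1 : (x : G) • ((n : G) • a) = a := h
      show (n : G) • a = a
      calc (n : G) • a = (x : G)⁻¹ • ((x : G) • ((n : G) • a)) := (inv_smul_smul _ _).symm
        _ = (x : G)⁻¹ • a := by rw [h1]
        _ = a := hxa

theorem mem_S (y : orbit (stabilizer G a) b) (z : Ω) :
    z ∈ S a b y ↔ z ∈ orbit (stabilizer G (y : Ω)) a ∧ z ≠ a := Iff.rfl

theorem toPermHom_S_coe (y : orbit (stabilizer G a) b)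
    (x : ↥(c1 (stabilizer G a) (stabilizer G b))) (z : ↥(S a b y)) :
    ((MulAction.toPermHom ↥(c1 (stabilizer G a) (stabilizer G b)) ↥(S a b y) x z : ↥(S a b y)) : Ω)
      = (x : G) • (z : Ω) := rfl

/-- the in-valency is constant along `Δ(a)`. -/
theorem ncard_orbit_in (y : orbit (stabilizer G a) b) :
    (orbit (stabilizer G (y : Ω)) a).ncard = (orbit (stabilizer G b) a).ncard := by
  obtain ⟨y, m, rfl⟩ := y
  have hma : (m : G) • a = a := mem_stabilizer_iff.1 m.2
  have hma' : (m : G)⁻¹ • a = a := by rw [inv_smul_eq_iff]; exact hma.symm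
  have himg : orbit (stabilizer G ((m : G) • b)) a =
      (fun z : Ω => (m : G) • z) '' orbit (stabilizer G b) a := by
    ext z
    constructor
    · rintro ⟨n, rfl⟩
      refine ⟨(m : G)⁻¹ • ((n : G) • a), ⟨⟨(m : G)⁻¹ * n * m, ?_⟩, ?_⟩, ?_⟩
      · rw [mem_stabilizer_iff, mul_smul, mul_smul, mem_stabilizer_iff.1 n.2, inv_smul_smul]
      · show ((m : G)⁻¹ * n * m) • a = (m : G)⁻¹ • ((n : G) • a)
        rw [mul_smul, mul_smul, hma]
      · show (m : G) • ((m : G)⁻¹ • ((n : G) • a)) = (n : G) • a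
        rw [smul_inv_smul]
    · rintro ⟨z', ⟨n, rfl⟩, rfl⟩
      refine ⟨⟨(m : G) * n * (m : G)⁻¹, ?_⟩, ?_⟩
      · rw [mem_stabilizer_iff, mul_smul, mul_smul, inv_smul_smul, mem_stabilizer_iff.1 n.2]
      · show ((m : G) * n * (m : G)⁻¹) • a = (m : G) • ((n : G) • a)
        rw [mul_smul, mul_smul, hma']
  show (orbit (stabilizer G ((m : G) • b)) a).ncard = _
  rw [himg]
  exact Set.ncard_image_of_injective _ (MulAction.injective (m : G))

theorem card_S (y : orbit (stabilizer G a) b) :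
    Nat.card ↥(S a b y) = Nat.card (orbit (stabilizer G b) a) - 1 := by
  have h1 : Nat.card ↥(S a b y) = ((orbit (stabilizer G (y : Ω)) a) \ {a}).ncard := by
    rw [← Nat.card_coe_set_eq]
    exact Nat.card_congr (Equiv.subtypeEquivRight fun z => Iff.rfl)
  rw [h1, Set.ncard_sdiff_singleton_of_mem (mem_orbit_self a), ncard_orbit_in, Nat.card_coe_set_eq]

/-- `c2 = 1` ⟹ `|A|` divides `((d'-1)!)^d`. -/
theorem card_c1_dvd (hc2 : c2 (stabilizer G a) (stabilizer G b) = ⊥) :
    Nat.card (c1 (stabilizer G a) (stabilizer G b)) ∣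
      ((Nat.card (orbit (stabilizer G b) a) - 1).factorial) ^
        Nat.card (orbit (stabilizer G a) b) := by
  classical
  set M := stabilizer G a with hM
  set N := stabilizer G b with hN
  let _ : Fintype (orbit ↥M b) := Fintype.ofFinite _
  let Φ : ↥(c1 M N) →* ((y : orbit ↥M b) → Equiv.Perm ↥(S a b y)) :=
    MonoidHom.pi (fun y => MulAction.toPermHom ↥(c1 M N) ↥(S a b y))
  have hinj : Function.Injective Φ := by
    rw [injective_iff_map_eq_one]
    intro x hx
    -- `x` fixes every point of every `S y`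
    have hfix : ∀ (y : orbit ↥M b) (z : Ω), z ∈ S a b y → (x : G) • z = z := by
      intro y z hz
      have h1 := congrFun hx y
      have h2 := congrArg (fun σ : Equiv.Perm ↥(S a b y) => ((σ ⟨z, hz⟩ : ↥(S a b y)) : Ω)) h1
      simp only [Pi.one_apply, Equiv.Perm.coe_one, id_eq] at h2
      exact h2
    have hxc := (mem_c1_iff a b (x : G)).1 x.2
    have hmem : (x : G) ∈ c2 M N := by
      unfold c2
      rw [mem_relCore]
      refine ⟨c1_le_left M N x.2, fun m hm => ⟨c1_normal M N x.2 hm, ?_⟩⟩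
      have hma : m • a = a := mem_stabilizer_iff.1 hm
      have hma' : m⁻¹ • a = a := by rw [inv_smul_eq_iff]; exact hma.symm
      show m * (x : G) * m⁻¹ ∈ c1 (stabilizer G b) (stabilizer G a)
      rw [mem_c1_iff]
      constructor
      · rw [mul_smul, mul_smul, hxc.2 m⁻¹ hma', smul_inv_smul]
      · intro n hn
        rw [mul_smul, mul_smul]
        -- `x` fixes `z = m⁻¹ n a`
        have hz : (x : G) • (m⁻¹ • (n • a)) = m⁻¹ • (n • a) := by
          by_cases hza : m⁻¹ • (n • a) = a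
          · rw [hza]; exact hxc.1
          · apply hfix ⟨m⁻¹ • b, ⟨⟨m⁻¹, inv_mem hm⟩, rfl⟩⟩
            refine ⟨⟨⟨m⁻¹ * n * m, ?_⟩, ?_⟩, hza⟩
            · show m⁻¹ * n * m ∈ stabilizer G (m⁻¹ • b)
              rw [mem_stabilizer_iff, mul_smul, mul_smul, smul_inv_smul, hn]
            · show (m⁻¹ * n * m) • a = m⁻¹ • (n • a)
              rw [mul_smul, mul_smul, hma]
        rw [hz, smul_inv_smul]
    rw [hc2, Subgroup.mem_bot] at hmem
    exact Subtype.ext hmem
  have h1 : Nat.card (c1 M N) = Nat.card Φ.range :=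
    Nat.card_congr (MonoidHom.ofInjective hinj).toEquiv
  have h2 := Subgroup.card_subgroup_dvd_card Φ.range
  rw [← h1, Nat.card_pi] at h2
  have h3 : ∀ y : orbit ↥M b, Nat.card (Equiv.Perm ↥(S a b y)) =
      (Nat.card (orbit ↥N a) - 1).factorial := by
    intro y
    rw [Nat.card_perm, card_S]
  rw [Finset.prod_congr rfl (fun y _ => h3 y), Finset.prod_const, Finset.card_univ,
    ← Nat.card_eq_fintype_card] at h2
  exact h2

end Count

section Main
variable [Finite G] [Finite Ω]

theorem card_orbit_mul (x y : Ω) :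
    Nat.card (orbit (stabilizer G x) y) * Nat.card ↥(stabilizer G x ⊓ stabilizer G y) =
      Nat.card (stabilizer G x) := by
  have h1 : Nat.card (stabilizer (stabilizer G x) y) =
      Nat.card ↥(stabilizer G x ⊓ stabilizer G y) := by
    apply Nat.card_congr
    exact
      { toFun := fun u => ⟨(u.1 : G), ⟨u.1.2, u.2⟩⟩
        invFun := fun t => ⟨⟨t.1, t.2.1⟩, t.2.2⟩
        left_inv := fun u => rfl
        right_inv := fun t => rfl }
  rw [← h1, ← Nat.card_prod]
  exact Nat.card_congr (orbitProdStabilizerEquivGroup (stabilizer G x) y)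

theorem card_stab_eq_of_trans [IsPretransitive G Ω] (a b : Ω) :
    Nat.card (stabilizer G b) = Nat.card (stabilizer G a) := by
  obtain ⟨g, rfl⟩ := exists_smul_eq G a b
  rw [stabilizer_smul_eq_stabilizer_map_conj]
  exact Subgroup.card_map_of_injective (MulAut.conj g).injective

theorem card_orbit_symm [IsPretransitive G Ω] (a b : Ω) :
    Nat.card (orbit (stabilizer G a) b) = Nat.card (orbit (stabilizer G b) a) := by
  have h1 := card_orbit_mul (G := G) a b
  have h2 := card_orbit_mul (G := G) b a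
  rw [inf_comm, card_stab_eq_of_trans a b, ← h1] at h2
  have hpos : 0 < Nat.card ↥(stabilizer G a ⊓ stabilizer G b) := Nat.card_pos
  exact (Nat.eq_of_mul_eq_mul_right hpos h2).symm

/-- the counting half: `c2 = 1` ⟹ `|G_a|` divides `d! ((d-1)!)^d`. -/
theorem card_dvd_of_c2 [IsPretransitive G Ω] (a b : Ω)
    (hc2 : c2 (stabilizer G a) (stabilizer G b) = ⊥) :
    Nat.card (stabilizer G a) ∣
      (Nat.card (orbit (stabilizer G a) b)).factorial *
        ((Nat.card (orbit (stabilizer G a) b) - 1).factorial) ^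
          Nat.card (orbit (stabilizer G a) b) := by
  obtain ⟨r, hr, hcard⟩ := card_stab_eq (G := G) a b
  have h2 := card_c1_dvd a b hc2
  rw [← card_orbit_symm a b] at h2
  rw [hcard, mul_comm]
  exact Nat.mul_dvd_mul hr h2

/-- S3688. -/
theorem main [FaithfulSMul G Ω] (hprim : IsPreprimitive G Ω) (a b : Ω) (d : ℕ)
    (hd : Nat.card (orbit (stabilizer G a) b) = d) (h2 : 2 ≤ d)
    (hnc : ∀ p : ℕ, p.Prime →
      generalizedFittingSubgroup (stabilizer G a) ≠ pCore p (stabilizer G a)) :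
    Nat.card (stabilizer G a) ∣ d.factorial * ((d - 1).factorial) ^ d := by
  have hpt : IsPretransitive G Ω := hprim.toIsPretransitive
  -- `G_a ≠ G_b`
  have hne : stabilizer G a ≠ stabilizer G b := by
    intro h
    have h1 : orbit (stabilizer G a) b = {b} := by
      ext z
      constructor
      · rintro ⟨m, rfl⟩
        have : (m : G) ∈ stabilizer G b := h ▸ m.2
        exact mem_stabilizer_iff.1 this
      · rintro rfl
        exact mem_orbit_self _
    rw [h1] at hd
    have : Nat.card ({b} : Set Ω) = 1 := by simp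
    omega
  have hab : a ≠ b := fun h => hne (h ▸ rfl)
  have hnt : Nontrivial Ω := ⟨⟨a, b, hab⟩⟩
  have hcore : ∀ x : Ω, (stabilizer G x).normalCore = ⊥ := by
    intro x
    rw [eq_bot_iff]
    intro g hg
    rw [Subgroup.mem_bot]
    apply FaithfulSMul.eq_of_smul_eq_smul (α := Ω)
    intro z
    rw [one_smul]
    obtain ⟨k, rfl⟩ := exists_smul_eq G x z
    have h1 : k⁻¹ * g * k⁻¹⁻¹ ∈ stabilizer G x := hg k⁻¹
    rw [inv_inv, mem_stabilizer_iff, mul_smul, mul_smul, inv_smul_eq_iff] at h1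
    exact h1
  have hset : Setup (stabilizer G a) (stabilizer G b) := by
    obtain ⟨g, hg⟩ := exists_smul_eq G a b
    refine ⟨IsPreprimitive.isCoatom_stabilizer_of_isPreprimitive (G := G) (X := Ω) a,
      IsPreprimitive.isCoatom_stabilizer_of_isPreprimitive (G := G) (X := Ω) b,
      hcore a, hcore b, hne, g, ?_⟩
    rw [← hg, stabilizer_smul_eq_stabilizer_map_conj]
  by_cases hA : c2 (stabilizer G a) (stabilizer G b) = ⊥
  · have := card_dvd_of_c2 a b hA
    rwa [hd] at this
  · by_cases hB : c2 (stabilizer G b) (stabilizer G a) = ⊥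
    · have := card_dvd_of_c2 b a hB
      rwa [← card_orbit_symm a b, hd, card_stab_eq_of_trans a b] at this
    · exfalso
      obtain ⟨p, hp, -, hF, -⟩ := Cfsg.Agent.Lib.Helper47_TW.main hset hA hB
      exact hnc p hp hF

end Main

end Cfsg.Agent.Lib.Helper65_S3688
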