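import Mathlib

set_option autoImplicit false

/-!
S4016 package OMEGA: a nontrivial normal `p`-subgroup `Q` gives a normal subgroup `C ≥ P` not
containing `l` (the centralizer of the elements of `Q` killed by `p`).
-/

namespace Cfsg.Agent.Lib.Helper65_S4016_OMEGA

theorem OMEGA {G : Type*} [Group G] [Finite G] {p : ℕ} [Fact p.Prime] (P : Sylow p G)
    (hcyc : IsCyclic ↥P) (l : G) (hfpf : ∀ y ∈ P, y ≠ 1 → l * y ≠ y * l)
    (Q : Subgroup G) [Q.Normal] (hQ : IsPGroup p ↥Q) (hQ1 : Q ≠ ⊥) :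
    ∃ C : Subgroup G, C.Normal ∧ (P : Subgroup G) ≤ C ∧ l ∉ C := by
  classical
  -- `Q ≤ P`
  have hQP : Q ≤ (P : Subgroup G) := by
    obtain ⟨P', hP'⟩ := hQ.exists_le_sylow
    obtain ⟨g, hg⟩ := MulAction.exists_smul_eq G P' P
    intro x hx
    have hx' : g⁻¹ * x * g⁻¹⁻¹ ∈ Q := ‹Q.Normal›.conj_mem x hx g⁻¹
    have h1 : g⁻¹ * x * g⁻¹⁻¹ ∈ (P' : Subgroup G) := hP' hx'
    have h2 : g * (g⁻¹ * x * g⁻¹⁻¹) * g⁻¹ ∈ ((g • P' : Sylow p G) : Subgroup G) := by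
      rw [Sylow.coe_subgroup_smul, Subgroup.mem_pointwise_smul_iff_inv_smul_mem,
        MulAut.smul_def, ← map_inv, MulAut.conj_apply]
      have e : g⁻¹ * (g * (g⁻¹ * x * g⁻¹⁻¹) * g⁻¹) * g⁻¹⁻¹ = g⁻¹ * x * g⁻¹⁻¹ := by group
      rw [e]
      exact h1
    rw [hg] at h2
    have e : g * (g⁻¹ * x * g⁻¹⁻¹) * g⁻¹ = x := by group
    rwa [e] at h2
  -- the set of elements of `Q` killed by `p`
  set Ω : Set G := {x | x ∈ Q ∧ x ^ p = 1} with hΩ
  have hΩconj : ∀ g : G, ∀ x ∈ Ω, g * x * g⁻¹ ∈ Ω := by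
    rintro g x ⟨hxQ, hxp⟩
    refine ⟨‹Q.Normal›.conj_mem x hxQ g, ?_⟩
    rw [conj_pow, hxp, mul_one, mul_inv_cancel]
  have hCnormal : (Subgroup.centralizer Ω).Normal := by
    refine ⟨fun c hc g => ?_⟩
    rw [Subgroup.mem_centralizer_iff] at hc ⊢
    intro x hx
    have h1 := hc (g⁻¹ * x * g⁻¹⁻¹) (hΩconj g⁻¹ x hx)
    rw [inv_inv] at h1
    -- h1 : g⁻¹ * x * g * c = c * (g⁻¹ * x * g)
    calc x * (g * c * g⁻¹) = g * (g⁻¹ * x * g * c) * g⁻¹ := by group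
      _ = g * (c * (g⁻¹ * x * g)) * g⁻¹ := by rw [h1]
      _ = g * c * g⁻¹ * x := by group
  have hPab : ∀ a ∈ P, ∀ b ∈ P, a * b = b * a := by
    intro a ha b hb
    have := hcyc
    have h := (IsCyclic.commGroup (α := ↥P)).mul_comm ⟨a, ha⟩ ⟨b, hb⟩
    exact congrArg Subtype.val h
  refine ⟨Subgroup.centralizer Ω, hCnormal, ?_, ?_⟩
  · intro y hy
    rw [Subgroup.mem_centralizer_iff]
    rintro x ⟨hxQ, -⟩
    exact hPab x (hQP hxQ) y hy
  · intro hl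
    rw [Subgroup.mem_centralizer_iff] at hl
    -- an element of order `p` in `Q`
    have hcard : p ∣ Nat.card ↥Q := by
      obtain ⟨n, hn⟩ := IsPGroup.iff_card.mp hQ
      have hn0 : n ≠ 0 := by
        rintro rfl
        rw [pow_zero] at hn
        exact hQ1 (Subgroup.card_eq_one.mp hn)
      rw [hn]
      exact dvd_pow_self p hn0
    obtain ⟨x, hx⟩ := exists_prime_orderOf_dvd_card' p hcard
    have hx1 : (x : G) ≠ 1 := by
      intro h
      have : x = 1 := Subtype.ext h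
      rw [this, orderOf_one] at hx
      exact (Fact.out : p.Prime).one_lt.ne hx
    have hxp : (x : G) ^ p = 1 := by
      have := pow_orderOf_eq_one x
      rw [hx] at this
      exact_mod_cast congrArg Subtype.val this
    have h1 := hl (x : G) ⟨x.2, hxp⟩
    exact hfpf (x : G) (hQP x.2) hx1 h1.symm
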