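import Mathlib
import Cfsg.Prelude.Def_Characters
import Cfsg.Prelude.Def_Blocks
import Cfsg.Agent.Lib.Helper3_CharOrtho

/-!
# S4707 package PK-E1 (helper65, for helper15): the head-tail lemma.

`G` primitive on `Ω`, `ρ` an irreducible constituent of the permutation character of degree `≥ 2`,
`a ≠ b`: the restriction of `ρ` to the two-point stabiliser `G_ab` contains the trivial character at
least twice.  By-products: the permutation representation `permRep G Ω` on `Ω → ℂ`, its character
`permRep_character`, and the geometric core `linearIndependent_pair`.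
-/

set_option autoImplicit false
set_option linter.unusedSectionVars false
set_option linter.unusedVariables false

open Cfsg MulAction
open scoped ComplexConjugate Pointwise

namespace Cfsg.Agent.Lib.Helper65_S4707_E1

section permrep

variable (G : Type*) [Group G] (Ω : Type*) [MulAction G Ω]

/-- The permutation representation on functions `Ω → ℂ`: `(g f) w = f (g⁻¹ w)`. -/
noncomputable def permRep : Representation ℂ G (Ω → ℂ) where
  toFun g := LinearMap.funLeft ℂ ℂ (fun w : Ω => g⁻¹ • w)
  map_one' := by
    ext f w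
    simp [LinearMap.funLeft_apply]
  map_mul' g h := by
    ext f w
    simp [LinearMap.funLeft_apply, mul_smul]

variable {G Ω}

theorem permRep_apply (g : G) (f : Ω → ℂ) (w : Ω) : permRep G Ω g f w = f (g⁻¹ • w) := rfl

theorem permRep_single [DecidableEq Ω] (g : G) (w : Ω) :
    permRep G Ω g (Pi.single w 1) = Pi.single (g • w) 1 := by
  ext u
  rw [permRep_apply]
  by_cases h : u = g • w
  · subst h; simp
  · rw [Pi.single_eq_of_ne h, Pi.single_eq_of_ne]
    intro h2
    exact h (by rw [← h2, smul_inv_smul])

theorem permRep_character [Fintype Ω] [DecidableEq Ω] (g : G) :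
    (permRep G Ω).character g = (Nat.card (MulAction.fixedBy Ω g) : ℂ) := by
  unfold Representation.character
  rw [LinearMap.trace_eq_matrix_trace ℂ (Pi.basisFun ℂ Ω), Matrix.trace]
  simp only [Matrix.diag_apply, LinearMap.toMatrix_apply, Pi.basisFun_apply, Pi.basisFun_repr,
    permRep_single]
  rw [Nat.card_eq_fintype_card, Fintype.card_subtype, Finset.card_filter]
  push_cast
  refine Finset.sum_congr rfl fun w _ => ?_
  by_cases h : g • w = w
  · simp [h, MulAction.mem_fixedBy]
  · rw [Pi.single_eq_of_ne (Ne.symm h)]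
    simp [MulAction.mem_fixedBy, h]

end permrep

section core

variable {G : Type*} [Group G] [Fintype G] {Ω : Type*} [Fintype Ω] [DecidableEq Ω]
  [MulAction G Ω]
variable {W : Type*} [AddCommGroup W] [Module ℂ W] [FiniteDimensional ℂ W]

/-- Geometric core: a nonzero intertwining map from the permutation module onto an irreducible
module of dimension `≥ 2` sends two distinct points to linearly independent vectors. -/
theorem linearIndependent_pair [MulAction.IsPreprimitive G Ω] (σ : Representation ℂ G W)
    [σ.IsIrreducible] (hdim : 2 ≤ Module.finrank ℂ W)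
    (τ : Representation.IntertwiningMap (permRep G Ω) σ) (hτ : τ ≠ 0) (a b : Ω) (hab : a ≠ b) :
    LinearIndependent ℂ ![τ (Pi.single a 1), τ (Pi.single b 1)] := by
  set v : Ω → W := fun w => τ (Pi.single w 1) with hv
  have hsurj : Function.Surjective τ :=
    (Representation.IsIrreducible.surjective_or_eq_zero τ).resolve_right hτ
  have hgv : ∀ (g : G) (w : Ω), σ g (v w) = v (g • w) := by
    intro g w
    simp only [hv]
    rw [← Representation.IntertwiningMap.isIntertwining, permRep_single]
  -- expansion of τ
  have hexp : ∀ f : Ω → ℂ, τ f = ∑ w, f w • v w := by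
    intro f
    have hf : f = ∑ w, f w • (Pi.single w (1 : ℂ) : Ω → ℂ) := by
      ext u
      simp [Finset.sum_apply, Pi.single_apply]
    conv_lhs => rw [hf]
    rw [map_sum]
    refine Finset.sum_congr rfl fun w _ => ?_
    rw [map_smul]
  -- all v w are nonzero
  have hne : ∀ w, v w ≠ 0 := by
    intro w hw
    apply hτ
    have hall : ∀ u, v u = 0 := by
      intro u
      obtain ⟨g, rfl⟩ := MulAction.exists_smul_eq G w u
      rw [← hgv, hw, map_zero]
    apply Representation.IntertwiningMap.ext
    apply LinearMap.ext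
    intro f
    show τ f = 0
    rw [hexp]
    simp [hall]
  by_contra hdep
  -- v b = c • v a
  have hprop : ∃ c : ℂ, c ≠ 0 ∧ v b = c • v a := by
    rw [LinearIndependent.pair_iff' (hne a)] at hdep
    push Not at hdep
    obtain ⟨c, hc⟩ := hdep
    refine ⟨c, ?_, hc.symm⟩
    intro h0
    rw [h0, zero_smul] at hc
    exact hne b hc.symm
  -- the block
  set B : Set Ω := {w | ∃ c : ℂ, c ≠ 0 ∧ v w = c • v a} with hB
  have haB : a ∈ B := ⟨1, one_ne_zero, (one_smul _ _).symm⟩
  have hbB : b ∈ B := hprop
  have hblock : MulAction.IsBlock G B := by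
    rw [MulAction.isBlock_iff_smul_eq_of_mem]
    intro g w hw hgw
    obtain ⟨c, hc, hwc⟩ := hw
    obtain ⟨c', hc', hgwc⟩ := hgw
    -- σ g (v a) = d • v a
    have hga : σ g (v a) = (c⁻¹ * c') • v a := by
      have h1 : v a = c⁻¹ • v w := by rw [hwc, smul_smul, inv_mul_cancel₀ hc, one_smul]
      conv_lhs => rw [h1]
      rw [map_smul, hgv, hgwc, smul_smul]
    have hd : c⁻¹ * c' ≠ 0 := mul_ne_zero (inv_ne_zero hc) hc'
    have hsub : ∀ (h : G) (d : ℂ), d ≠ 0 → σ h (v a) = d • v a → h • B ⊆ B := by
      intro h d hd hha u hu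
      obtain ⟨u', hu', rfl⟩ := hu
      obtain ⟨e, he, hue⟩ := hu'
      refine ⟨e * d, mul_ne_zero he hd, ?_⟩
      rw [← hgv, hue, map_smul, hha, smul_smul]
    apply Set.Subset.antisymm (hsub g _ hd hga)
    have hginv : σ g⁻¹ (v a) = (c⁻¹ * c')⁻¹ • v a := by
      have h2 : v a = (c⁻¹ * c')⁻¹ • σ g (v a) := by
        rw [hga, smul_smul, inv_mul_cancel₀ hd, one_smul]
      conv_lhs => rw [h2]
      rw [map_smul, ← Module.End.mul_apply, ← map_mul, inv_mul_cancel, map_one,
        Module.End.one_apply]
    have := hsub g⁻¹ _ (inv_ne_zero hd) hginv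
    intro u hu
    refine ⟨g⁻¹ • u, this ⟨u, hu, rfl⟩, ?_⟩
    simp
  have htriv := MulAction.IsPreprimitive.isTrivialBlock_of_isBlock hblock
  rcases htriv with hss | huniv
  · exact hab (hss haB hbB)
  · -- everything is in the span of v a
    have hrange : ∀ x : W, x ∈ Submodule.span ℂ ({v a} : Set W) := by
      intro x
      obtain ⟨f, rfl⟩ := hsurj x
      rw [hexp]
      refine Submodule.sum_mem _ fun w _ => Submodule.smul_mem _ _ ?_
      have hw : w ∈ B := by rw [huniv]; trivial
      obtain ⟨c, hc, hwc⟩ := hw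
      rw [hwc]
      exact Submodule.smul_mem _ _ (Submodule.mem_span_singleton_self _)
    have htop : (⊤ : Submodule ℂ W) ≤ Submodule.span ℂ ({v a} : Set W) := fun x _ => hrange x
    have h1 : Module.finrank ℂ W ≤ 1 := by
      rw [← finrank_top ℂ W]
      calc Module.finrank ℂ (⊤ : Submodule ℂ W)
          ≤ Module.finrank ℂ (Submodule.span ℂ ({v a} : Set W)) := Submodule.finrank_mono htop
        _ = 1 := finrank_span_singleton (hne a)
    omega

end core

section main

open Cfsg.Agent.Lib.Helper3_CharOrtho

theorem pkE1 {G : Type*} [Group G] [Fintype G] {Ω : Type*} [Fintype Ω] [DecidableEq Ω]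
    [MulAction G Ω] [MulAction.IsPreprimitive G Ω] (ρ : IrrCharacter G)
    (hρπ : classInner (fun g : G => (Nat.card (MulAction.fixedBy Ω g) : ℂ)) (ρ : G → ℂ) ≠ 0)
    (hdeg : 2 ≤ charDegree (ρ : G → ℂ)) (a b : Ω) (hab : a ≠ b) :
    ∃ m : ℕ, 2 ≤ m ∧
      ∑ g ∈ Finset.univ.filter (fun g : G => g • a = a ∧ g • b = b), (ρ : G → ℂ) g =
        (m : ℂ) * ((Finset.univ.filter (fun g : G => g • a = a ∧ g • b = b)).card : ℂ) := by
  classical
  obtain ⟨ρf, n, σ, hσ, hχ⟩ := ρ
  subst hχ
  simp only at hρπ hdeg ⊢
  have hσ' : σ.IsIrreducible := hσ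
  -- degree
  have hn : 2 ≤ Module.finrank ℂ (Fin n → ℂ) := by
    have h1 : σ.character 1 = (Module.finrank ℂ (Fin n → ℂ) : ℂ) := Representation.char_one σ
    unfold charDegree at hdeg
    rw [h1] at hdeg
    simpa using hdeg
  -- a nonzero intertwining map
  have hπ : (fun g : G => (Nat.card (MulAction.fixedBy Ω g) : ℂ)) = (permRep G Ω).character := by
    funext g; exact (permRep_character g).symm
  rw [hπ] at hρπ
  have hfin : (Module.finrank ℂ (Representation.IntertwiningMap (permRep G Ω) σ) : ℂ) ≠ 0 := by
    rw [← classInner_char_eq_finrank, ← classInner_conj_symm]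
    simpa using hρπ
  obtain ⟨τ, hτ⟩ : ∃ τ : Representation.IntertwiningMap (permRep G Ω) σ, τ ≠ 0 := by
    by_contra hall
    push Not at hall
    have : Subsingleton (Representation.IntertwiningMap (permRep G Ω) σ) :=
      ⟨fun x y => (hall x).trans (hall y).symm⟩
    exact hfin (by rw [Module.finrank_zero_of_subsingleton]; simp)
  have hli := linearIndependent_pair σ hn τ hτ a b hab
  -- the subgroup
  set K : Subgroup G := MulAction.stabilizer G a ⊓ MulAction.stabilizer G b with hK
  have hmemK : ∀ g : G, g ∈ K ↔ (g • a = a ∧ g • b = b) := by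
    intro g
    rw [hK, Subgroup.mem_inf, MulAction.mem_stabilizer_iff, MulAction.mem_stabilizer_iff]
  set σK : Representation ℂ K (Fin n → ℂ) := σ.comp K.subtype with hσK
  have hinv : ∀ w : Ω, (∀ k : K, (k : G) • w = w) → τ (Pi.single w 1) ∈ σK.invariants := by
    intro w hw k
    show σ (k : G) (τ (Pi.single w 1)) = τ (Pi.single w 1)
    rw [← Representation.IntertwiningMap.isIntertwining, permRep_single, hw k]
  have ha : τ (Pi.single a 1) ∈ σK.invariants :=
    hinv a fun k => ((hmemK k).1 k.2).1
  have hb : τ (Pi.single b 1) ∈ σK.invariants :=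
    hinv b fun k => ((hmemK k).1 k.2).2
  have h2 : 2 ≤ Module.finrank ℂ σK.invariants := by
    have hli' : LinearIndependent ℂ
        (![⟨τ (Pi.single a 1), ha⟩, ⟨τ (Pi.single b 1), hb⟩] : Fin 2 → σK.invariants) := by
      apply LinearIndependent.of_comp σK.invariants.subtype
      have hfun : (σK.invariants.subtype ∘
          (![⟨τ (Pi.single a 1), ha⟩, ⟨τ (Pi.single b 1), hb⟩] : Fin 2 → σK.invariants)) =
          ![τ (Pi.single a 1), τ (Pi.single b 1)] := by
        funext i
        fin_cases i <;> rfl
      rw [hfun]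
      exact hli
    have := hli'.fintype_card_le_finrank
    simpa using this
  refine ⟨Module.finrank ℂ σK.invariants, h2, ?_⟩
  have hne : (Nat.card K : ℂ) ≠ 0 := by exact_mod_cast Nat.card_pos.ne'
  have : Invertible (Nat.card K : ℂ) := invertibleOfNonzero hne
  have h := Representation.card_inv_mul_sum_char_eq_finrank σK
  rw [← h]
  have hcard : ((Finset.univ.filter (fun g : G => g • a = a ∧ g • b = b)).card : ℂ) =
      (Nat.card K : ℂ) := by
    rw [Nat.card_eq_fintype_card, Fintype.card_subtype]
    congr 2
    ext g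
    simp [hmemK]
  rw [hcard, mul_comm, ← mul_assoc, mul_inv_cancel₀ hne, one_mul]
  have hsum : ∑ k : K, σK.character k = ∑ k : K, σ.character (k : G) := rfl
  rw [hsum]
  rw [← Finset.sum_subtype (Finset.univ.filter (fun g : G => g • a = a ∧ g • b = b))
    (fun g => by simp [hmemK]) (fun g => σ.character g)]

end main

end Cfsg.Agent.Lib.Helper65_S4707_E1
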