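import Mathlib
import Cfsg.Prelude.Def_Characters
import Cfsg.Prelude.Def_Blocks
import Cfsg.Agent.S0157
import Cfsg.Agent.S0190
import Cfsg.Agent.Lib.Helper75_Induced
import Cfsg.Agent.Lib.Helper75_CharArith
import Cfsg.Agent.Lib.Helper80_CharBasic

/-!
# S4707 package PK-E2 (helper65, for helper15): `(ρ_H, ρ_H) ≥ 3` for `H = G_a`.

Character bookkeeping in the point stabiliser: from the head-tail lemma (`m ≥ 2`), `(ρ, π) = 1` and a
suborbit shorter than `ρ(1)`.  By-products: `nat_arith` (arithmetic of multiplicities) and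
`three_le_norm` (abstract version on any finite group).
-/

set_option autoImplicit false
set_option linter.unusedSectionVars false
set_option linter.unusedVariables false

open Cfsg MulAction
open scoped ComplexConjugate

namespace Cfsg.Agent.Lib.Helper65_S4707_E2

open Cfsg.Agent.Lib.Helper3_CharBridge Cfsg.Agent.Lib.Helper3_CharOrtho
  Cfsg.Agent.Lib.Helper75_CharArith Cfsg.Agent.Lib.Helper75_Induced
  Cfsg.Agent.Lib.Helper80_CharBasic

/-- Pure arithmetic of multiplicities. -/
theorem nat_arith {ι : Type*} [Fintype ι] [DecidableEq ι] (o : ι) (mr mp d : ι → ℕ)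
    (h1 : mr o = 1) (h2 : mp o = 1) (h3 : d o = 1)
    (hm : 2 ≤ ∑ i, mr i * mp i) (hk : ∑ i, mp i * d i < ∑ i, mr i * d i) :
    3 ≤ ∑ i, mr i * mr i := by
  by_contra hc
  push Not at hc
  have hsplit : ∀ f : ι → ℕ, ∑ i, f i = f o + ∑ i ∈ Finset.univ.erase o, f i := fun f =>
    (Finset.add_sum_erase Finset.univ f (Finset.mem_univ o)).symm
  -- find φ₀
  have hm' : 1 ≤ ∑ i ∈ Finset.univ.erase o, mr i * mp i := by
    rw [hsplit, h1, h2] at hm
    omega
  obtain ⟨j, hj, hjne⟩ : ∃ j ∈ Finset.univ.erase o, mr j * mp j ≠ 0 := by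
    apply Finset.exists_ne_zero_of_sum_ne_zero
    omega
  have hjr : 1 ≤ mr j := Nat.pos_of_ne_zero fun h => hjne (by rw [h, zero_mul])
  have hjp : 1 ≤ mp j := Nat.pos_of_ne_zero fun h => hjne (by rw [h, mul_zero])
  have hsplit2 : ∀ f : ι → ℕ, ∑ i, f i =
      f o + (f j + ∑ i ∈ (Finset.univ.erase o).erase j, f i) := fun f => by
    rw [hsplit, ← Finset.add_sum_erase (Finset.univ.erase o) f hj]
  set T := (Finset.univ.erase o).erase j with hT
  rw [hsplit2, h1] at hc
  have hjr1 : mr j = 1 := by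
    by_contra hne
    have : 2 ≤ mr j := by omega
    have : 4 ≤ mr j * mr j := by nlinarith
    omega
  rw [hjr1] at hc
  have hT0 : ∑ i ∈ T, mr i * mr i = 0 := by omega
  have hT0' : ∀ i ∈ T, mr i = 0 := by
    intro i hi
    have := (Finset.sum_eq_zero_iff.1 hT0) i hi
    exact (mul_self_eq_zero.1 this)
  rw [hsplit2 (fun i => mp i * d i), hsplit2 (fun i => mr i * d i)] at hk
  rw [h1, h2, h3, hjr1] at hk
  have hz : ∑ i ∈ T, mr i * d i = 0 := by
    apply Finset.sum_eq_zero
    intro i hi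
    rw [hT0' i hi, zero_mul]
  rw [hz] at hk
  have : d j ≤ mp j * d j := Nat.le_mul_of_pos_left _ hjp
  omega

/-- The character-theoretic core on a group `H`: `r`, `p` characters with `(1, r) = 1`, `(p, 1) = 1`,
`(p, r) = m ≥ 2` and `p 1 < r 1` force `(r, r) ≥ 3`. -/
theorem three_le_norm {H : Type*} [Group H] [Fintype H] {r p : H → ℂ}
    (hr : IsCharacter H r) (hp : IsCharacter H p)
    (h1 : classInner r (fun _ => (1 : ℂ)) = 1) (h2 : classInner p (fun _ => (1 : ℂ)) = 1)
    (m : ℕ) (hm : 2 ≤ m) (hpr : classInner r p = m)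
    (k dr : ℕ) (hk : p 1 = k) (hdr : r 1 = dr) (hlt : k < dr)
    (c : ℕ) (hc : classInner r r = c) : 3 ≤ c := by
  classical
  obtain ⟨mr, hmr, hrsum⟩ := exists_multiplicities hr
  obtain ⟨mp, hmp, hpsum⟩ := exists_multiplicities hp
  have hd : ∀ χ : IrrCharacter H, ∃ n : ℕ, (χ : H → ℂ) 1 = n := fun χ => by
    obtain ⟨n, _, hn⟩ := irr_apply_one χ
    exact ⟨n, hn⟩
  choose d hdχ using hd
  have hmro : mr (oneIrr H) = 1 := by
    have := hmr (oneIrr H)
    rw [show ((oneIrr H : IrrCharacter H) : H → ℂ) = fun _ => (1 : ℂ) from rfl, h1] at this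
    exact_mod_cast this.symm
  have hmpo : mp (oneIrr H) = 1 := by
    have := hmp (oneIrr H)
    rw [show ((oneIrr H : IrrCharacter H) : H → ℂ) = fun _ => (1 : ℂ) from rfl, h2] at this
    exact_mod_cast this.symm
  have hdo : d (oneIrr H) = 1 := by
    have := hdχ (oneIrr H)
    rw [show ((oneIrr H : IrrCharacter H) : H → ℂ) 1 = 1 from rfl] at this
    exact_mod_cast this.symm
  have hsum_m : ∑ χ, mr χ * mp χ = m := by
    have := classInner_eq_sum_irr (isClassFunction_of_isCharacter hr) p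
    rw [hpr] at this
    have h3 : (m : ℂ) = ((∑ χ, mr χ * mp χ : ℕ) : ℂ) := by
      rw [this]
      push_cast
      refine Finset.sum_congr rfl fun χ _ => ?_
      rw [hmr χ, ← classInner_conj_symm, hmp χ, Complex.conj_natCast]
    exact_mod_cast h3.symm
  have hsum_c : ∑ χ, mr χ * mr χ = c := by
    have := classInner_self_eq_sum (isClassFunction_of_isCharacter hr)
    rw [hc] at this
    have h3 : (c : ℂ) = ((∑ χ, mr χ * mr χ : ℕ) : ℂ) := by
      rw [this]
      push_cast
      refine Finset.sum_congr rfl fun χ _ => ?_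
      rw [hmr χ, Complex.conj_natCast]
    exact_mod_cast h3.symm
  have hsum_k : ∑ χ, mp χ * d χ = k := by
    have h3 : (k : ℂ) = ((∑ χ, mp χ * d χ : ℕ) : ℂ) := by
      rw [← hk]
      conv_lhs => rw [hpsum]
      rw [Finset.sum_apply]
      push_cast
      refine Finset.sum_congr rfl fun χ _ => ?_
      rw [Pi.smul_apply, hdχ χ, smul_eq_mul]
    exact_mod_cast h3.symm
  have hsum_d : ∑ χ, mr χ * d χ = dr := by
    have h3 : (dr : ℂ) = ((∑ χ, mr χ * d χ : ℕ) : ℂ) := by
      rw [← hdr]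
      conv_lhs => rw [hrsum]
      rw [Finset.sum_apply]
      push_cast
      refine Finset.sum_congr rfl fun χ _ => ?_
      rw [Pi.smul_apply, hdχ χ, smul_eq_mul]
    exact_mod_cast h3.symm
  rw [← hsum_c]
  exact nat_arith (oneIrr H) mr mp d hmro hmpo hdo (by rw [hsum_m]; exact hm)
    (by rw [hsum_k, hsum_d]; exact hlt)

theorem pkE2 {G : Type*} [Group G] [Fintype G] {Ω : Type*} [Fintype Ω] [DecidableEq Ω]
    [MulAction G Ω] [MulAction.IsPretransitive G Ω] (ρ : IrrCharacter G)
    (hρπ : classInner (fun g : G => (Nat.card (MulAction.fixedBy Ω g) : ℂ)) (ρ : G → ℂ) = 1)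
    (a b : Ω) (hab : a ≠ b)
    (hk : Nat.card (MulAction.orbit (MulAction.stabilizer G a) b) < charDegree (ρ : G → ℂ))
    (m : ℕ) (hm : 2 ≤ m)
    (hsum : ∑ g ∈ Finset.univ.filter (fun g : G => g • a = a ∧ g • b = b), (ρ : G → ℂ) g =
        (m : ℂ) * ((Finset.univ.filter (fun g : G => g • a = a ∧ g • b = b)).card : ℂ)) :
    ∃ c : ℕ, 3 ≤ c ∧
      ∑ h ∈ Finset.univ.filter (fun g : G => g • a = a),
          (ρ : G → ℂ) h * conj ((ρ : G → ℂ) h) =
        (c : ℂ) * ((Finset.univ.filter (fun g : G => g • a = a)).card : ℂ) := by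
  classical
  set H : Subgroup G := MulAction.stabilizer G a with hH
  have hρclass : IsClassFunction G (ρ : G → ℂ) := isClassFunction_of_isIrrCharacter ρ.2
  set r : H → ℂ := fun h => (ρ : G → ℂ) h with hrdef
  have hr : IsCharacter H r := isCharacter_restrict H (isCharacter_of_isIrrCharacter ρ.2)
  set pD : H → ℂ := fun h => (Nat.card (MulAction.fixedBy (MulAction.orbit H b) h) : ℂ)
    with hpDdef
  have hne : Nonempty (MulAction.orbit H b) := ⟨⟨b, MulAction.mem_orbit_self b⟩⟩
  have hpD : IsCharacter H pD :=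
    Cfsg.Agent.S0157.isCharacter_perm (G := H) (X := MulAction.orbit H b)
  -- (1_H, r) = 1
  have h1 : classInner r (fun _ => (1 : ℂ)) = 1 := by
    have h := frobenius_reciprocity H (fun _ => (1 : ℂ)) (ρ : G → ℂ) hρclass
    rw [← Cfsg.Agent.S0190.result Ω a, hρπ] at h
    rw [← classInner_conj_symm, ← h, map_one]
  -- (pD, 1) = 1
  have h2 : classInner pD (fun _ => (1 : ℂ)) = 1 := by
    unfold classInner
    simp only [map_one, mul_one]
    have := Cfsg.Agent.S0157.sum_perm (G := H) (X := MulAction.orbit H b)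
    unfold Cfsg.Agent.S0157.perm at this
    rw [this]
    exact inv_mul_cancel₀ card_ne_zero_complex
  -- (r, pD) = m
  set b' : MulAction.orbit H b := ⟨b, MulAction.mem_orbit_self b⟩ with hb'
  set K : Subgroup H := MulAction.stabilizer H b' with hK
  have hKmem : ∀ k : H, k ∈ K ↔ (k : G) • b = b := by
    intro k
    rw [hK, MulAction.mem_stabilizer_iff, Subtype.ext_iff]
    rfl
  let e : K ≃ {g : G // g • a = a ∧ g • b = b} :=
    { toFun := fun k => ⟨((k : H) : G), (k : H).2, (hKmem k).1 k.2⟩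
      invFun := fun g => ⟨⟨g.1, g.2.1⟩, (hKmem _).2 g.2.2⟩
      left_inv := fun k => rfl
      right_inv := fun g => rfl }
  have hcardK : ((Finset.univ.filter (fun g : G => g • a = a ∧ g • b = b)).card : ℂ) =
      (Nat.card K : ℂ) := by
    rw [Nat.card_congr e, Nat.card_eq_fintype_card, Fintype.card_subtype]
  have hsumK : ∑ k : K, (ρ : G → ℂ) ((k : H) : G) = (m : ℂ) * (Nat.card K : ℂ) := by
    rw [← hcardK, ← hsum]
    rw [Finset.sum_subtype (p := fun g : G => g • a = a ∧ g • b = b)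
      (Finset.univ.filter (fun g : G => g • a = a ∧ g • b = b))
      (fun g => by simp) (fun g => (ρ : G → ℂ) g)]
    exact Fintype.sum_equiv e _ _ (fun k => rfl)
  have h3 : classInner r pD = m := by
    have hpDind : pD = indFun K (fun _ => (1 : ℂ)) :=
      Cfsg.Agent.S0190.result (G := H) (MulAction.orbit H b) b'
    rw [← classInner_conj_symm, hpDind,
      frobenius_reciprocity K (fun _ => (1 : ℂ)) r (isClassFunction_of_isCharacter hr)]
    unfold classInner
    simp only [one_mul]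
    rw [map_mul, map_inv₀, Complex.conj_natCast, map_sum]
    simp only [Complex.conj_conj]
    rw [show ∑ k : K, r (k : H) = ∑ k : K, (ρ : G → ℂ) ((k : H) : G) from rfl, hsumK]
    rw [mul_comm (m : ℂ), ← mul_assoc, inv_mul_cancel₀ card_ne_zero_complex, one_mul]
  -- degrees
  have hpD1 : pD 1 = (Nat.card (MulAction.orbit H b) : ℂ) := by
    show ((Nat.card (MulAction.fixedBy (MulAction.orbit H b) (1 : H)) : ℕ) : ℂ) = _
    rw [MulAction.fixedBy_one_eq_univ]
    congr 1
    exact Nat.card_congr (Equiv.Set.univ _)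
  have hr1 : r 1 = (charDegree (ρ : G → ℂ) : ℂ) := by
    obtain ⟨n, _, hn⟩ := irr_apply_one ρ
    show (ρ : G → ℂ) ((1 : H) : G) = _
    rw [Subgroup.coe_one]
    unfold charDegree
    rw [hn]
    simp
  obtain ⟨c, hc⟩ := classInner_isCharacter_nat hr hr
  refine ⟨c, three_le_norm hr hpD h1 h2 m hm h3 _ _ hpD1 hr1 hk c hc, ?_⟩
  have hcardH : ((Finset.univ.filter (fun g : G => g • a = a)).card : ℂ) = (Nat.card H : ℂ) := by
    rw [Nat.card_eq_fintype_card, Fintype.card_subtype]
    congr 2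
  rw [hcardH, ← hc]
  unfold classInner
  rw [mul_comm, ← mul_assoc, mul_inv_cancel₀ card_ne_zero_complex, one_mul]
  rw [Finset.sum_subtype (p := fun g : G => g ∈ H)
      (Finset.univ.filter (fun g : G => g • a = a))
      (fun g => by simp [hH]) (fun g => (ρ : G → ℂ) g * conj ((ρ : G → ℂ) g))]

end Cfsg.Agent.Lib.Helper65_S4707_E2

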