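import Mathlib
import Cfsg.Agent.Lib.Helper6_S6Defs

/-!
# S3333 (helper6's market `s6_packages`), package CASED8 (helper65), core form.
`case_d8_of`: the statement of CASED8 with the conclusions of ELEM (exponent 3), SYL2N and the
statement of S3716 for `G` as hypotheses.  Frattini (`Sylow.normalizer_sup_eq_top'`) gives
`N_G(S) ⊔ L = ⊤`, so `L = ⊤` and `G ≃* L` is simple, contradicting S3716.
-/

set_option autoImplicit false

namespace Cfsg.Agent.Lib.Helper65_S6_CASED8aux

open Cfsg.Agent.Lib.Helper6_S6Defs Equiv Equiv.Perm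

variable {G : Type*} [Group G] [Finite G] {S : Subgroup G}

theorem case_d8_of (D : Setup G S) (L : Subgroup G) [L.Normal] (hSL : S ≤ L)
    (hs : IsSimpleGroup ↥L) (hN : Subgroup.normalizer (S : Set G) ≤ L)
    (helem : ∀ a ∈ S, a ^ 3 = 1)
    (hsyl2 : ∀ T : Sylow 2 ↥(Subgroup.normalizer (S : Set G)),
      Nonempty (↥(T : Subgroup ↥(Subgroup.normalizer (S : Set G))) ≃* DihedralGroup 4))
    (h3716 : ∀ (M : Sylow 3 G), Nat.card ↥(M : Subgroup G) = 9 →
      (∀ m ∈ (M : Subgroup G), m ^ 3 = 1) →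
      Subgroup.centralizer ((M : Subgroup G) : Set G) = (M : Subgroup G) →
      ∀ N : Subgroup G, N = Subgroup.normalizer ((M : Subgroup G) : Set G) →
      (∀ g ∈ (M : Subgroup G), g ≠ 1 → Subgroup.centralizer ({g} : Set G) ≤ N) →
      (∀ T : Sylow 2 ↥N, Nonempty (↥(T : Subgroup ↥N) ≃* DihedralGroup 4)) →
      ¬ IsSimpleGroup G) : False := by
  obtain ⟨P, rfl⟩ := D.syl
  have hfr : Subgroup.normalizer ((P : Subgroup G) : Set G) ⊔ L = ⊤ :=
    Sylow.normalizer_sup_eq_top' P hSL
  have hL : L = ⊤ := by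
    rw [sup_eq_right.mpr hN] at hfr
    exact hfr
  subst hL
  have hG : IsSimpleGroup G := by
    have := hs
    exact (Subgroup.topEquiv (G := G)).symm.isSimpleGroup
  exact h3716 P D.card helem D.cent _ rfl D.loc hsyl2 hG

end Cfsg.Agent.Lib.Helper65_S6_CASED8aux
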