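import Mathlib
import Cfsg.Agent.Lib.Helper6_S6Defs

/-!
# S3333 market (architect helper6), package SYL2N

A Sylow 2-subgroup of `N_G(S)` is mapped isomorphically onto `DihedralGroup 4` by `π`.
(The cardinality `|N_G(S)| = 72` is re-proved here as `h78_card_normalizer` to stay import-free.)
-/

set_option autoImplicit false
set_option linter.unusedSectionVars false

namespace Cfsg.Agent.Lib.Helper78_S6_SYL2N

open Cfsg.Agent.Lib.Helper6_S6Defs Equiv Equiv.Perm

variable {G : Type*} [Group G] [Finite G] {S : Subgroup G}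

/-- `|N_G(S)| = 72` -/
theorem h78_card_normalizer (D : Setup G S) :
    Nat.card ↥(Subgroup.normalizer (S : Set G)) = 72 := by
  have hker : D.π.ker = S.subgroupOf (Subgroup.normalizer (S : Set G)) := by
    ext n
    rw [MonoidHom.mem_ker, D.ker, Subgroup.mem_subgroupOf]
  have h1 : Nat.card ↥(Subgroup.normalizer (S : Set G)) =
      Nat.card (↥(Subgroup.normalizer (S : Set G)) ⧸ D.π.ker) * Nat.card D.π.ker :=
    Subgroup.card_eq_card_quotient_mul_card_subgroup _
  have h2 : Nat.card (↥(Subgroup.normalizer (S : Set G)) ⧸ D.π.ker) = 8 := by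
    rw [Nat.card_congr (QuotientGroup.quotientKerEquivOfSurjective D.π D.surj).toEquiv,
      DihedralGroup.nat_card]
  have h3 : Nat.card D.π.ker = 9 := by
    rw [hker, Nat.card_congr (Subgroup.subgroupOfEquivOfLe Subgroup.le_normalizer).toEquiv, D.card]
  rw [h1, h2, h3]

theorem h78_fact72 : (72 : ℕ).factorization 2 = 3 := by
  have h : (72 : ℕ) = 2 ^ 3 * 9 := by norm_num
  rw [h, Nat.factorization_mul (by norm_num) (by norm_num), Nat.Prime.factorization_pow Nat.prime_two]
  simp [Nat.factorization_eq_zero_of_not_dvd (by norm_num : ¬ 2 ∣ 9)]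

theorem sylow_two_normalizer (D : Setup G S) (T : Sylow 2 ↥(Subgroup.normalizer (S : Set G))) :
    Nonempty (↥(T : Subgroup ↥(Subgroup.normalizer (S : Set G))) ≃* DihedralGroup 4) := by
  have hT : Nat.card ↥(T : Subgroup ↥(Subgroup.normalizer (S : Set G))) = 8 := by
    rw [Sylow.card_eq_multiplicity, h78_card_normalizer D, h78_fact72]
    norm_num
  -- the restriction of `π`
  let f : ↥(T : Subgroup ↥(Subgroup.normalizer (S : Set G))) →* DihedralGroup 4 :=
    D.π.comp (T : Subgroup ↥(Subgroup.normalizer (S : Set G))).subtype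
  have hinj : Function.Injective f := by
    rw [injective_iff_map_eq_one]
    intro t ht
    have hS : ((t : ↥(Subgroup.normalizer (S : Set G))) : G) ∈ S := (D.ker _).1 ht
    have h8 : t ^ 8 = 1 := by
      rw [← hT]
      exact pow_card_eq_one'
    have h9 : (⟨((t : ↥(Subgroup.normalizer (S : Set G))) : G), hS⟩ : ↥S) ^ 9 = 1 := by
      rw [← D.card]
      exact pow_card_eq_one'
    have h9' : t ^ 9 = 1 := by
      have := congrArg (fun s : ↥S => (s : G)) h9
      simp only [Subgroup.coe_pow, Subgroup.coe_one] at this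
      apply Subtype.ext
      apply Subtype.ext
      simpa using this
    calc t = t ^ 9 * (t ^ 8)⁻¹ := by group
      _ = 1 := by rw [h8, h9']; simp
  have hbij : Function.Bijective f := by
    rw [Nat.bijective_iff_injective_and_card]
    exact ⟨hinj, by rw [hT, DihedralGroup.nat_card]⟩
  exact ⟨MulEquiv.ofBijective f hbij⟩

end Cfsg.Agent.Lib.Helper78_S6_SYL2N
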