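import Mathlib
import Cfsg.Agent.Lib.Helper6_S6Defs
import Cfsg.Agent.Lib.Helper31_S6_ELEM
import Cfsg.Agent.Lib.Helper78_S6_SYL2N
import Cfsg.Agent.Lib.Helper65_S6_CASED8aux
import Cfsg.Agent.S3716

/-!
# S3333 (helper6's market `s6_packages`), package CASED8 (helper65): verbatim wrapper of
`case_d8_of` with ELEM (helper31), SYL2N (helper78) and `Cfsg.Agent.S3716.result`.
-/

set_option autoImplicit false

namespace Cfsg.Agent.Lib.Helper65_S6_CASED8

open Cfsg.Agent.Lib.Helper6_S6Defs Equiv Equiv.Perm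

variable {G : Type*} [Group G] [Finite G] {S : Subgroup G}

theorem case_d8 (D : Setup G S) (L : Subgroup G) [L.Normal] (hSL : S ≤ L)
    (hs : IsSimpleGroup ↥L) (hN : Subgroup.normalizer (S : Set G) ≤ L) : False :=
  Cfsg.Agent.Lib.Helper65_S6_CASED8aux.case_d8_of D L hSL hs hN
    (Cfsg.Agent.Lib.Helper31_S6_ELEM.elem D).2
    (Cfsg.Agent.Lib.Helper78_S6_SYL2N.sylow_two_normalizer D)
    (fun M h9 hel hC N hN' hCg hS => Cfsg.Agent.S3716.result M h9 hel hC N hN' hCg hS)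

end Cfsg.Agent.Lib.Helper65_S6_CASED8
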