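import Mathlib
import Cfsg.Agent.Lib.Helper74_S94Defs2
import Cfsg.Agent.Lib.Helper66_S96Rank
import Cfsg.Agent.Lib.Helper95_S96_FACT

set_option autoImplicit false
set_option linter.unusedVariables false
set_option linter.unusedSectionVars false

/-!
# s94 market (helper74), package B_FACT (helper78)

Port of `Helper95_S96_FACT` to the short root elements: conjugating `XS a v` with `ng k ≠ a` by a
monomial representative `d` (`IsRepD X o k d`) lands in the abstract vector stabiliser `GsB X XS o`.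
-/

namespace Cfsg.Agent.Lib.Helper74_S94

open Cfsg.Agent.Lib.Helper5_SteinbergA Cfsg.Agent.Lib.Helper66_S92 Cfsg.Agent.Lib.Helper66_S96

section generic

variable {ι : Type*} [DecidableEq ι] {K : Type*} [Field K] {V0 : Type*} [AddCommGroup V0]
  [Module K V0] {G : Type*} [Group G] {Q0 : QuadraticForm K V0}
  {X : ι ⊕ ι → ι ⊕ ι → K → G} {XS : ι ⊕ ι → V0 → G}

/-- conjugation of a short root element by the inverse of a long Weyl element -/
theorem h78_wd_inv_conjS (C : WCalcD X) (CS : WCalcS X XS) (a c : ι ⊕ ι) (h1 : c ≠ a)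
    (h2 : c ≠ ng a) (s : K) (hs : s ≠ 0) (d : ι ⊕ ι) (v : V0) :
    (WD X a c s)⁻¹ * XS d v * WD X a c s = XS (sgD a c d) (muD a c (-s) d • v) := by
  rw [← CS.wd_conjS a c h1 h2 (-s) (neg_ne_zero.mpr hs) d v, ← C.wd_inv a c h1 h2 s, inv_inv]

theorem factB_S (C : WCalcD X) (CS : WCalcS X XS) (o k : ι ⊕ ι) {d : G} (hd : IsRepD X o k d)
    (a : ι ⊕ ι) (v : V0) (hka : ng k ≠ a) : d⁻¹ * XS a v * d ∈ GsB X XS o := by
  rcases hd with ⟨hk, rfl⟩ | ⟨hko, hko', rfl⟩ | ⟨hk, j, hjo, hjo', rfl⟩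
  · -- `d = 1`
    subst hk
    rw [inv_one, one_mul, mul_one]
    exact XS_mem_GsB k a v (Ne.symm hka)
  · -- `d = WD X (ng o) k 1`
    have hk1 : k ≠ ng o := hko'
    have hk2 : k ≠ ng (ng o) := by rw [ng_ng]; exact hko
    rw [h78_wd_inv_conjS C CS (ng o) k hk1 hk2 1 one_ne_zero a v]
    refine XS_mem_GsB o _ _ ?_
    intro e
    exact hka (h95_sgD_eq_fst (ng o) k a hk1 e).symm
  · -- `d = WD X (ng j) (ng o) 1 * WD X (ng o) j 1`
    subst hk
    have hj1 : j ≠ ng o := hjo'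
    have hj2 : j ≠ ng (ng o) := by rw [ng_ng]; exact hjo
    have ho1 : ng o ≠ ng j := fun e => hjo (ng_injective e).symm
    have ho2 : ng o ≠ ng (ng j) := by rw [ng_ng]; exact Ne.symm hjo'
    have e1 : (WD X (ng j) (ng o) 1 * WD X (ng o) j 1)⁻¹ * XS a v *
        (WD X (ng j) (ng o) 1 * WD X (ng o) j 1) =
        (WD X (ng o) j 1)⁻¹ * ((WD X (ng j) (ng o) 1)⁻¹ * XS a v * WD X (ng j) (ng o) 1) *
          WD X (ng o) j 1 := by
      group
    rw [e1, h78_wd_inv_conjS C CS (ng j) (ng o) ho1 ho2 1 one_ne_zero a v,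
      h78_wd_inv_conjS C CS (ng o) j hj1 hj2 1 one_ne_zero]
    rw [ng_ng] at hka
    refine XS_mem_GsB o _ _ ?_
    intro e
    have e2 := h95_sgD_eq_fst (ng o) j _ hj1 e
    have e3 := h95_sgD_eq_fst (ng j) (ng o) a ho1 e2
    rw [ng_ng] at e3
    exact hka e3.symm

end generic

end Cfsg.Agent.Lib.Helper74_S94
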