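import Mathlib
import Cfsg.Agent.Lib.Helper74_S94Defs2
import Cfsg.Agent.Lib.Helper66_S96Asm
import Cfsg.Agent.Lib.Helper66_S96Rank
import Cfsg.Agent.Lib.Helper5_SLPresA
import Cfsg.Agent.Lib.Helper95_S96_FACT
import Cfsg.Agent.Lib.Helper78_S94_FACT

/-!
S2094 / S2099 market `s94_packages` (helper74), package B_E12 (port of `Helper74_S96_E12`): the coset
relation `RkB X XS o k` is stable under left multiplication with root elements (long `X a c t` or
short `XS a v`) whose indices hit `ng k` (E1), or avoid `k` and `ng k` (E2).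

`Rk_E1B_L`, `Rk_E1B_S` are verbatim.  The E2 statements depend on B_NORM (`conj_mem_QsB_L`,
`conj_mem_QsB_S`) and B_FACT (`factB_S`); here they are proved in hypothesis form
(`h65_Rk_E2B_L_of`, `h65_Rk_E2B_S_of`) with the statements of those packages as hypotheses.
-/

set_option autoImplicit false
set_option linter.unusedVariables false
set_option linter.unusedSectionVars false

namespace Cfsg.Agent.Lib.Helper74_S94

open Cfsg.Agent.Lib.Helper5_SteinbergA Cfsg.Agent.Lib.Helper5_SLPresA Cfsg.Agent.Lib.Helper66_StCalc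
  Cfsg.Agent.Lib.Helper66_S92 Cfsg.Agent.Lib.Helper66_S96

section generic

variable {ι : Type*} [DecidableEq ι] {K : Type*} [Field K] {V0 : Type*} [AddCommGroup V0]
  [Module K V0] {G : Type*} [Group G] {Q0 : QuadraticForm K V0}
  {X : ι ⊕ ι → ι ⊕ ι → K → G} {XS : ι ⊕ ι → V0 → G}

/-- a long root element with an index `ng k` lies in `QsB X XS (ng k)` -/
theorem h65_X_mem_QsB_of_ng (h : BStAB Q0 X XS) (k a c : ι ⊕ ι) (t : K)
    (hk : ng k = a ∨ ng k = c) : X a c t ∈ QsB X XS (ng k) := by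
  rcases hk with rfl | rfl
  · exact h.X_mem_QsB (ng k) c t
  · exact h.X_mem_QsB' (ng k) a t

theorem Rk_E1B_L (h : BStAB Q0 X XS) (o k a c : ι ⊕ ι) (t : K) (hk : ng k = a ∨ ng k = c) {g : G}
    (hR : RkB X XS o k g) : RkB X XS o k (X a c t * g) :=
  RkB_QsB_mul o k (h65_X_mem_QsB_of_ng h k a c t hk) hR

theorem Rk_E1B_S (o k : ι ⊕ ι) (v : V0) {g : G} (hR : RkB X XS o k g) :
    RkB X XS o k (XS (ng k) v * g) :=
  RkB_QsB_mul o k (XS_mem_QsB (ng k) v) hR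

/-- `Rk_E2B_L` from the statement of B_NORM (`conj_mem_QsB_L`); the factorisation is `factD` -/
theorem h65_Rk_E2B_L_of (h : BStAB Q0 X XS) (C : WCalcD X)
    (hconj : ∀ (j a c : ι ⊕ ι) (t : K), ng j ≠ a → ng j ≠ c → ∀ {q : G}, q ∈ QsB X XS j →
      X a c t * q * (X a c t)⁻¹ ∈ QsB X XS j)
    (o k a c : ι ⊕ ι) (t : K) (h1 : k ≠ a) (h2 : k ≠ c) (h3 : ng k ≠ a) (h4 : ng k ≠ c) {g : G}
    (hR : RkB X XS o k g) : RkB X XS o k (X a c t * g) := by
  obtain ⟨q, hq, d, hd, p, hp, rfl⟩ := hR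
  refine ⟨X a c t * q * (X a c t)⁻¹,
    hconj (ng k) a c t (by rw [ng_ng]; exact h1) (by rw [ng_ng]; exact h2) hq, d, hd,
    (d⁻¹ * X a c t * d) * p,
    Subgroup.mul_mem _ (GsB_le_PsB o (Gs_le_GsB o (factD h.long C o k hd a c t h3 h4))) hp, ?_⟩
  group

/-- `Rk_E2B_S` from the statements of B_NORM (`conj_mem_QsB_S`) and B_FACT (`factB_S`) -/
theorem h65_Rk_E2B_S_of
    (hconj : ∀ (j a : ι ⊕ ι) (v : V0), ng j ≠ a → ∀ {q : G}, q ∈ QsB X XS j →
      XS a v * q * (XS a v)⁻¹ ∈ QsB X XS j)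
    (hfact : ∀ (o k : ι ⊕ ι) {d : G}, IsRepD X o k d → ∀ (a : ι ⊕ ι) (v : V0), ng k ≠ a →
      d⁻¹ * XS a v * d ∈ GsB X XS o)
    (o k a : ι ⊕ ι) (v : V0) (h1 : k ≠ a) (h3 : ng k ≠ a) {g : G}
    (hR : RkB X XS o k g) : RkB X XS o k (XS a v * g) := by
  obtain ⟨q, hq, d, hd, p, hp, rfl⟩ := hR
  refine ⟨XS a v * q * (XS a v)⁻¹,
    hconj (ng k) a v (by rw [ng_ng]; exact h1) hq, d, hd,
    (d⁻¹ * XS a v * d) * p,
    Subgroup.mul_mem _ (GsB_le_PsB o (hfact o k hd a v h3)) hp, ?_⟩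
  group

/-- `Rk_E2B_S` from the statement of B_NORM (`conj_mem_QsB_S`) alone; `factB_S` is landed
(`Helper78_S94_FACT`) -/
theorem h65_Rk_E2B_S_of' (C : WCalcD X) (CS : WCalcS X XS)
    (hconj : ∀ (j a : ι ⊕ ι) (v : V0), ng j ≠ a → ∀ {q : G}, q ∈ QsB X XS j →
      XS a v * q * (XS a v)⁻¹ ∈ QsB X XS j)
    (o k a : ι ⊕ ι) (v : V0) (h1 : k ≠ a) (h3 : ng k ≠ a) {g : G}
    (hR : RkB X XS o k g) : RkB X XS o k (XS a v * g) :=
  h65_Rk_E2B_S_of hconj (fun o k _ hd a v hka => factB_S C CS o k hd a v hka) o k a v h1 h3 hR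

end generic

end Cfsg.Agent.Lib.Helper74_S94
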