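import Mathlib
import Cfsg.Agent.Lib.Helper65_S94_E12
import Cfsg.Agent.Lib.Helper39_S94_NORM

/-!
S2094 / S2099 market `s94_packages` (helper74), package B_E12, part 2: the verbatim statements
`Rk_E2B_L`, `Rk_E2B_S` from the hypothesis forms of `Helper65_S94_E12` and the landed B_NORM
(`Helper39_S94_NORM`: `conj_mem_QsB_L`, `conj_mem_QsB_S`) and B_FACT (`Helper78_S94_FACT`: `factB_S`).
-/

set_option autoImplicit false
set_option linter.unusedVariables false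
set_option linter.unusedSectionVars false

namespace Cfsg.Agent.Lib.Helper74_S94

open Cfsg.Agent.Lib.Helper5_SteinbergA Cfsg.Agent.Lib.Helper5_SLPresA Cfsg.Agent.Lib.Helper66_StCalc
  Cfsg.Agent.Lib.Helper66_S92 Cfsg.Agent.Lib.Helper66_S96

section generic

variable {ι : Type*} [DecidableEq ι] {K : Type*} [Field K] {V0 : Type*} [AddCommGroup V0]
  [Module K V0] {G : Type*} [Group G] {Q0 : QuadraticForm K V0}
  {X : ι ⊕ ι → ι ⊕ ι → K → G} {XS : ι ⊕ ι → V0 → G}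

theorem Rk_E2B_L (h : BStAB Q0 X XS) (C : WCalcD X) (o k a c : ι ⊕ ι) (t : K) (h1 : k ≠ a)
    (h2 : k ≠ c) (h3 : ng k ≠ a) (h4 : ng k ≠ c) {g : G} (hR : RkB X XS o k g) :
    RkB X XS o k (X a c t * g) :=
  h65_Rk_E2B_L_of h C (fun j a c t hj1 hj2 _ hq => conj_mem_QsB_L h j a c t hj1 hj2 hq)
    o k a c t h1 h2 h3 h4 hR

theorem Rk_E2B_S (h : BStAB Q0 X XS) (C : WCalcD X) (CS : WCalcS X XS) (o k a : ι ⊕ ι) (v : V0)
    (h1 : k ≠ a) (h3 : ng k ≠ a) {g : G} (hR : RkB X XS o k g) :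
    RkB X XS o k (XS a v * g) :=
  h65_Rk_E2B_S_of' C CS (fun j a v hj1 _ hq => conj_mem_QsB_S h j a v hj1 hq) o k a v h1 h3 hR

end generic

end Cfsg.Agent.Lib.Helper74_S94
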