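import Cfsg.Agent.Lib.Helper99_Sims_CSYMM
import Cfsg.Agent.Lib.Helper91_Sims_ARC
import Cfsg.Agent.Lib.Helper91_Sims_BASE
import Cfsg.Agent.Lib.Helper12_Sims_BEQUIV

/-!
# SIMS C-Z4A (helper13 market S3385/S3685): paper 4.6(a), the non-self-paired case with `|Z| = 4`.

This file proves the package from the conclusions of C-CX (`cx`) and C-B (`caseB`) taken as hypotheses
(`z4a_of`); the verbatim package statement is in `Helper65_Sims_CZ4A.lean`.
-/

set_option autoImplicit false

namespace Cfsg.Agent.Lib.Helper65_Sims_CZ4Aaux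

open MulAction Cfsg.Agent.Lib.Helper13_SimsDefs

section Generic
variable {G : Type*} [Group G]

theorem zpowers_eq_of_sq {u v : G} (h : Subgroup.zpowers u = Subgroup.zpowers v) (hv : v ^ 2 = 1)
    (hu1 : u ≠ 1) : u = v := by
  have hu : u ∈ Subgroup.zpowers v := h ▸ Subgroup.mem_zpowers u
  obtain ⟨k, hk⟩ := Subgroup.mem_zpowers_iff.1 hu
  rcases Int.even_or_odd' k with ⟨m, rfl | rfl⟩
  · exfalso
    apply hu1
    rw [← hk, zpow_mul, zpow_ofNat, hv, one_zpow]
  · rw [← hk, zpow_add, zpow_mul, zpow_ofNat, hv, one_zpow, one_mul, zpow_one]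

end Generic

variable {G Ω : Type*} [Group G] [MulAction G Ω] {a b : Ω}

/-- The conclusion of C-CX for a given `c`. -/
structure CX (G : Type*) {Ω : Type*} [Group G] [MulAction G Ω] (a b : Ω) (c : Ω → G) : Prop where
  ne : ∀ x, c x ≠ 1
  zp : ∀ x, Zpr G a b x = Subgroup.zpowers (c x)
  eqv : ∀ (g : G) x, c (g • x) = g * c x * g⁻¹
  inj : Function.Injective c
  cm : ∀ x y, Adj G a b x y → c x * c y = c y * c x
  zst : ∀ x y, Adj G a b x y → (Zst G a b x y : Set G) = {1, c x, c y, c x * c y}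
  rst : ∀ x y, Adj G a b x y → Rst G a b x y = Subgroup.zpowers (c y) ∨
        Rst G a b x y = Subgroup.zpowers (c x * c y)

namespace CX
variable {c : Ω → G}

theorem mem_Zpr (C : CX G a b c) (x : Ω) : c x ∈ Zpr G a b x := by
  rw [C.zp x]; exact Subgroup.mem_zpowers _

theorem mem_Vst (C : CX G a b c) (x : Ω) : c x ∈ Vst G a b x :=
  (inf_le_left : Zpr G a b x ≤ Vst G a b x) (C.mem_Zpr x)

theorem sq (C : CX G a b c) (x : Ω) : c x ^ 2 = 1 :=
  Helper12_Sims_BEQUIV.Vst_sq x _ (C.mem_Vst x)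

theorem inv (C : CX G a b c) (x : Ω) : (c x)⁻¹ = c x := by
  rw [inv_eq_iff_mul_eq_one, ← pow_two, C.sq x]

theorem mul_self (C : CX G a b c) (x : Ω) : c x * c x = 1 := by
  rw [← pow_two, C.sq x]

theorem mem_Vst_of_adj (C : CX G a b c) {x y : Ω} (h : Adj G a b x y) : c y ∈ Vst G a b x := by
  have h1 : c y ∈ (Zst G a b x y : Set G) := by
    rw [C.zst x y h]; simp
  exact (inf_le_left : Zst G a b x y ≤ Vst G a b x) h1

theorem not_mem_Nst (H : Hyp G a b) (F : FF G a b) (C : CX G a b c) (x : Ω) :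
    c x ∉ Nst G a b x := by
  intro h
  have h1 : c x ∈ Zpr G a b x ⊓ Nst G a b x := ⟨C.mem_Zpr x, h⟩
  rw [Helper99_Sims_CCONS.Zpr_inf_Nst H F x, Subgroup.mem_bot] at h1
  exact C.ne x h1

end CX

theorem finite_Ω (H : Hyp G a b) : Finite Ω := by
  have := H.fin
  exact Finite.of_surjective (fun g : G => g • a) (fun y => Helper91_Sims_BASE.trans H a y)

theorem arc_ba_of (x y : Ω) (h1 : Arc G a b x y) (h2 : Arc G a b y x) : Arc G a b b a := by
  obtain ⟨g, hg1, hg2⟩ := h1
  obtain ⟨k, hk1, hk2⟩ := h2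
  refine ⟨g⁻¹ * k, ?_, ?_⟩
  · rw [mul_smul, hk1, ← hg2, inv_smul_smul]
  · rw [mul_smul, hk2, ← hg1, inv_smul_smul]

theorem card_nbrs (H : Hyp G a b) (hns : ¬ Arc G a b b a) (x : Ω) :
    {y : Ω | Adj G a b x y}.ncard = 6 := by
  have := finite_Ω H
  have h1 : {y : Ω | Adj G a b x y} = {y | Arc G a b x y} ∪ {y | Arc G a b y x} := by
    ext y; rfl
  have hd : Disjoint {y | Arc G a b x y} {y | Arc G a b y x} := by
    rw [Set.disjoint_left]
    intro y h1 h2
    exact hns (arc_ba_of x y h1 h2)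
  have e1 : {y : Ω | Arc G a b x y}.ncard = 3 := by
    rw [← Nat.card_coe_set_eq]; exact Helper91_Sims_ARC.card_out H x
  have e2 : {y : Ω | Arc G a b y x}.ncard = 3 := by
    rw [← Nat.card_coe_set_eq]; exact Helper91_Sims_ARC.card_in H x
  rw [h1, Set.ncard_union_eq hd (Set.toFinite _) (Set.toFinite _), e1, e2]

theorem card_Vst (F : FF G a b) (hZ : ∀ x, Nat.card (Zpr G a b x) = 2) (x : Ω) :
    (Vst G a b x : Set G).ncard = 8 := by
  rw [← Nat.card_coe_set_eq]
  have := F.cardV x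
  rw [hZ x] at this
  exact this

theorem image_nbrs (H : Hyp G a b) (F : FF G a b) (hZ : ∀ x, Nat.card (Zpr G a b x) = 2)
    (hns : ¬ Arc G a b b a) {c : Ω → G} (C : CX G a b c) (x : Ω) :
    c '' {y : Ω | Adj G a b x y} = (Vst G a b x : Set G) \ {1, c x} := by
  have := H.fin
  have hsub : c '' {y : Ω | Adj G a b x y} ⊆ (Vst G a b x : Set G) \ {1, c x} := by
    rintro _ ⟨y, hy, rfl⟩
    refine ⟨C.mem_Vst_of_adj hy, ?_⟩
    simp only [Set.mem_insert_iff, Set.mem_singleton_iff, not_or]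
    refine ⟨C.ne y, fun h => ?_⟩
    exact Helper91_Sims_ARC.adj_ne H hy (C.inj h).symm
  apply Set.eq_of_subset_of_ncard_le hsub _ (Set.toFinite _)
  rw [Set.ncard_image_of_injective _ C.inj, card_nbrs H hns x]
  have h2 : ({1, c x} : Set G).ncard = 2 := Set.ncard_pair (C.ne x).symm
  have h3 : ({1, c x} : Set G) ⊆ (Vst G a b x : Set G) := by
    intro z hz
    simp only [Set.mem_insert_iff, Set.mem_singleton_iff] at hz
    rcases hz with rfl | rfl
    · exact (Vst G a b x).one_mem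
    · exact C.mem_Vst x
  have h4 := Set.ncard_sdiff h3 (Set.toFinite _)
  rw [h4, card_Vst F hZ x, h2]

/-- (N1): for adjacent `x, y` there is a common neighbour `m` with `c m = c x * c y`. -/
theorem exists_common (H : Hyp G a b) (F : FF G a b) (hZ : ∀ x, Nat.card (Zpr G a b x) = 2)
    (hns : ¬ Arc G a b b a) {c : Ω → G} (C : CX G a b c) {x y : Ω} (h : Adj G a b x y) :
    ∃ m, Adj G a b x m ∧ Adj G a b y m ∧ c m = c x * c y := by
  have hxy : x ≠ y := Helper91_Sims_ARC.adj_ne H h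
  have key : ∀ x y : Ω, Adj G a b x y → ∃ m, Adj G a b x m ∧ c m = c x * c y := by
    intro x y h
    have hxy : x ≠ y := Helper91_Sims_ARC.adj_ne H h
    have hm : c x * c y ∈ (Vst G a b x : Set G) \ {1, c x} := by
      refine ⟨(Vst G a b x).mul_mem (C.mem_Vst x) (C.mem_Vst_of_adj h), ?_⟩
      simp only [Set.mem_insert_iff, Set.mem_singleton_iff, not_or]
      constructor
      · intro h1
        apply hxy
        apply C.inj
        rw [← C.inv y]
        exact eq_inv_of_mul_eq_one_left h1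
      · intro h1
        exact C.ne y (by simpa using h1)
    rw [← image_nbrs H F hZ hns C x] at hm
    obtain ⟨m, hm1, hm2⟩ := hm
    exact ⟨m, hm1, hm2⟩
  obtain ⟨m, hm1, hm2⟩ := key x y h
  obtain ⟨m', hm1', hm2'⟩ := key y x (Helper91_Sims_ARC.adj_symm h)
  have : m = m' := by
    apply C.inj
    rw [hm2, hm2', C.cm x y h]
  subst this
  exact ⟨m, hm1, hm1', hm2⟩

/-- `ε(x,y) = 1`. -/
def E1 (G : Type*) {Ω : Type*} [Group G] [MulAction G Ω] (a b : Ω) (c : Ω → G) (x y : Ω) : Prop :=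
  c y ∈ Nst G a b x

theorem E1_smul {c : Ω → G} (C : CX G a b c) (g : G) {x y : Ω} (h : E1 G a b c x y) :
    E1 G a b c (g • x) (g • y) := by
  unfold E1 at *
  rw [C.eqv, Helper12_Sims_BEQUIV.Nst_smul]
  exact Helper12_Sims_BEQUIV.conj_mem_cj h

theorem Rst_of_E1 (H : Hyp G a b) (F : FF G a b) {c : Ω → G} (C : CX G a b c) {x y : Ω}
    (h : Adj G a b x y) (he : E1 G a b c x y) : Rst G a b x y = Subgroup.zpowers (c y) := by
  rcases C.rst x y h with h1 | h1
  · exact h1
  · exfalso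
    have h2 : c x * c y ∈ Nst G a b x := by
      apply Helper12_Sims_BEQUIV.Rst_le_Nst x y
      rw [h1]; exact Subgroup.mem_zpowers _
    have h3 : c x ∈ Nst G a b x := by
      have := (Nst G a b x).mul_mem h2 ((Nst G a b x).inv_mem he)
      simpa using this
    exact C.not_mem_Nst H F x h3

theorem Rst_of_not_E1 {c : Ω → G} (C : CX G a b c) {x y : Ω}
    (h : Adj G a b x y) (he : ¬ E1 G a b c x y) :
    Rst G a b x y = Subgroup.zpowers (c x * c y) := by
  rcases C.rst x y h with h1 | h1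
  · exfalso
    apply he
    apply Helper12_Sims_BEQUIV.Rst_le_Nst x y
    rw [h1]; exact Subgroup.mem_zpowers _
  · exact h1

/-- (N2): `ε(x,y) ≠ ε(x,y')` if `x → y` and `y' → x`. -/
theorem E1_out_in (H : Hyp G a b) (F : FF G a b) (hZ : ∀ x, Nat.card (Zpr G a b x) = 2)
    (hns : ¬ Arc G a b b a) {c : Ω → G} (C : CX G a b c) {x y y' : Ω} (h : Arc G a b x y)
    (h' : Arc G a b y' x) : ¬ (E1 G a b c x y ↔ E1 G a b c x y') := by
  have := H.fin
  intro hiff
  have hout : ∀ z, Arc G a b x z → (E1 G a b c x z ↔ E1 G a b c x y) := by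
    intro z hz
    constructor
    · intro hE
      obtain ⟨g, hg1, hg2⟩ := Helper91_Sims_ARC.arc_trans hz h
      have := E1_smul C g hE
      rwa [hg1, hg2] at this
    · intro hE
      obtain ⟨g, hg1, hg2⟩ := Helper91_Sims_ARC.arc_trans h hz
      have := E1_smul C g hE
      rwa [hg1, hg2] at this
  have hin : ∀ z, Arc G a b z x → (E1 G a b c x z ↔ E1 G a b c x y') := by
    intro z hz
    constructor
    · intro hE
      obtain ⟨g, hg1, hg2⟩ := Helper91_Sims_ARC.arc_trans hz h'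
      have := E1_smul C g hE
      rwa [hg1, hg2] at this
    · intro hE
      obtain ⟨g, hg1, hg2⟩ := Helper91_Sims_ARC.arc_trans h' hz
      have := E1_smul C g hE
      rwa [hg1, hg2] at this
  have hall : ∀ z, Adj G a b x z → (E1 G a b c x z ↔ E1 G a b c x y) := by
    intro z hz
    rcases hz with hz | hz
    · exact hout z hz
    · rw [hin z hz, hiff]
  have himg := image_nbrs H F hZ hns C x
  by_cases hE : E1 G a b c x y
  · -- all six values lie in `N_x`, of order 4
    have hsub : (Vst G a b x : Set G) \ {1, c x} ⊆ (Nst G a b x : Set G) := by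
      rw [← himg]
      rintro _ ⟨z, hz, rfl⟩
      exact (hall z hz).2 hE
    have h6 : ((Vst G a b x : Set G) \ {1, c x}).ncard = 6 := by
      rw [← himg, Set.ncard_image_of_injective _ C.inj, card_nbrs H hns x]
    have h4 : (Nst G a b x : Set G).ncard = 4 := by
      rw [← Nat.card_coe_set_eq]; exact F.cardN x
    have := Set.ncard_le_ncard hsub (Set.toFinite _)
    omega
  · -- no value lies in `N_x ≠ 1`
    have hN : Nat.card (Nst G a b x) = 4 := F.cardN x
    have hnt : Nst G a b x ≠ ⊥ := by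
      intro hbot
      rw [hbot, Subgroup.card_bot] at hN
      omega
    obtain ⟨n, hn, hn1'⟩ := (Subgroup.bot_or_exists_ne_one (Nst G a b x)).resolve_left hnt
    have hmem : (n : G) ∈ (Vst G a b x : Set G) \ {1, c x} := by
      refine ⟨Helper12_Sims_BEQUIV.Nst_le_Vst x hn, ?_⟩
      simp only [Set.mem_insert_iff, Set.mem_singleton_iff, not_or]
      refine ⟨hn1', fun h => ?_⟩
      apply C.not_mem_Nst H F x
      rw [← h]; exact hn
    rw [← himg] at hmem
    obtain ⟨z, hz, hz2⟩ := hmem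
    apply hE
    rw [← hall z hz]
    unfold E1
    rw [hz2]; exact hn

/-- (N2'): `ε(x,y) = 1 = ε(y,x)` is impossible. -/
theorem not_E1_both (H : Hyp G a b) (F : FF G a b) (hZ : ∀ x, Nat.card (Zpr G a b x) = 2)
    (hns : ¬ Arc G a b b a) {c : Ω → G} (C : CX G a b c) {x y : Ω} (h : Adj G a b x y)
    (h1 : E1 G a b c x y) (h2 : E1 G a b c y x) : False := by
  have key : ∀ x y : Ω, Arc G a b x y → E1 G a b c x y → E1 G a b c y x → False := by
    intro x y h h1 h2
    have hc := Helper91_Sims_ARC.card_in H x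
    have hne : Nonempty {y' : Ω // Arc G a b y' x} := by
      by_contra hcon
      rw [not_nonempty_iff] at hcon
      rw [Nat.card_of_isEmpty] at hc
      omega
    obtain ⟨⟨y', hy'⟩⟩ := hne
    obtain ⟨g, hg1, hg2⟩ := Helper91_Sims_ARC.arc_trans h hy'
    have h3 := E1_smul C g h2
    rw [hg1, hg2] at h3
    exact E1_out_in H F hZ hns C h hy' ⟨fun _ => h3, fun _ => h1⟩
  rcases h with h | h
  · exact key x y h h1 h2
  · exact key y x h h2 h1

end Cfsg.Agent.Lib.Helper65_Sims_CZ4Aaux
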