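import Cfsg.Agent.Lib.Helper65_Sims_CZ4Aaux

/-!
# SIMS C-Z4A (helper13 market S3385/S3685): paper 4.6(a), main argument, from the conclusions of
C-CX and C-B taken as hypotheses.
-/

set_option autoImplicit false

namespace Cfsg.Agent.Lib.Helper65_Sims_CZ4Amain

open MulAction Cfsg.Agent.Lib.Helper13_SimsDefs Cfsg.Agent.Lib.Helper65_Sims_CZ4Aaux

variable {G Ω : Type*} [Group G] [MulAction G Ω] {a b : Ω}

/-- a bad walk of length 2 from `x` over `m` to `z` forces `bb = 2`. -/
theorem short_walk {bb : ℕ} (hb : IsCrit G a b bb) (h2 : 2 ≤ bb) (x m z : Ω)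
    (h1 : Adj G a b x m) (h2' : Adj G a b m z) (hbad : ¬ Vst G a b x ≤ Kst G a b z) : bb = 2 := by
  by_contra hne
  have hlt : 2 < bb := by omega
  apply hb.2 2 hlt (fun i => if i = 0 then x else if i = 1 then m else z)
  refine ⟨?_, ?_⟩
  · intro i hi
    have : i = 0 ∨ i = 1 := by omega
    rcases this with rfl | rfl
    · simpa using h1
    · simpa using h2'
  · simpa using hbad

/-- the type analysis of paper 4.6(a): every critical walk has type `(1,1)` and `bb = 2`. -/
theorem type_one_one (H : Hyp G a b) (F : FF G a b) (hZ : ∀ x, Nat.card (Zpr G a b x) = 2)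
    (hns : ¬ Arc G a b b a) {c : Ω → G} (C : CX G a b c) {bb : ℕ} (hb : IsCrit G a b bb)
    (h2 : 2 ≤ bb) (w : ℕ → Ω) (hw : IsBad G a b w bb) :
    bb = 2 ∧ E1 G a b c (w 0) (w 1) ∧ E1 G a b c (w bb) (w (bb - 1)) := by
  obtain ⟨-, hR, -, -, hne, -⟩ :=
    Helper99_Sims_CSYMM.symm_crit H F hb (by omega) w hw
  have hwalk := hw.1
  have hbad := hw.2
  have A01 : Adj G a b (w 0) (w 1) := hwalk 0 (by omega)
  have Ab1 : Adj G a b (w (bb - 1)) (w bb) := by
    have := hwalk (bb - 1) (by omega)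
    rwa [Nat.sub_add_cancel (by omega : 1 ≤ bb)] at this
  have Ab : Adj G a b (w bb) (w (bb - 1)) := Or.symm Ab1
  -- auxiliary: products are involutions
  have hsq : ∀ x y : Ω, Adj G a b x y → (c x * c y) ^ 2 = 1 := by
    intro x y h
    rw [pow_two, mul_assoc, ← mul_assoc (c y), ← C.cm x y h, mul_assoc, C.mul_self y, mul_one,
      C.mul_self x]
  have hprod_ne : ∀ x y : Ω, Adj G a b x y → c x * c y ≠ 1 := by
    intro x y h h1
    apply Helper91_Sims_ARC.adj_ne H h
    apply C.inj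
    rw [← C.inv y]
    exact eq_inv_of_mul_eq_one_left h1
  by_cases e0 : E1 G a b c (w 0) (w 1)
  · by_cases eb : E1 G a b c (w bb) (w (bb - 1))
    · -- type (1,1)
      have r0 := Rst_of_E1 H F C A01 e0
      have rb := Rst_of_E1 H F C Ab eb
      rw [r0, rb] at hR
      have hc : c (w 1) = c (w (bb - 1)) := zpowers_eq_of_sq hR (C.sq _) (C.ne _)
      have h1b : w 1 = w (bb - 1) := C.inj hc
      refine ⟨?_, e0, eb⟩
      apply short_walk hb h2 (w 0) (w 1) (w bb) A01 _ hbad
      rw [h1b]; exact Ab1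
    · -- type (1,2)
      exfalso
      have r0 := Rst_of_E1 H F C A01 e0
      have rb := Rst_of_not_E1 C Ab eb
      rw [r0, rb] at hR
      have hc : c (w 1) = c (w bb) * c (w (bb - 1)) :=
        zpowers_eq_of_sq hR (hsq _ _ Ab) (C.ne _)
      obtain ⟨m, hm1, hm2, hm3⟩ := exists_common H F hZ hns C Ab
      have hm : w 1 = m := C.inj (by rw [hc, hm3])
      subst hm
      have hbb : bb = 2 := short_walk hb h2 (w 0) (w 1) (w bb) A01 (Or.symm hm1) hbad
      subst hbb
      have : c (w 2) = 1 := by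
        have h3 : c (w 1) = c (w 2) * c (w 1) := hc
        have h4 : c (w 2) * c (w 1) = 1 * c (w 1) := by rw [one_mul]; exact h3.symm
        exact mul_right_cancel h4
      exact C.ne _ this
  · by_cases eb : E1 G a b c (w bb) (w (bb - 1))
    · -- type (2,1)
      exfalso
      have r0 := Rst_of_not_E1 C A01 e0
      have rb := Rst_of_E1 H F C Ab eb
      rw [r0, rb] at hR
      have hc : c (w 0) * c (w 1) = c (w (bb - 1)) :=
        zpowers_eq_of_sq hR (C.sq _) (hprod_ne _ _ A01)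
      obtain ⟨m, hm1, hm2, hm3⟩ := exists_common H F hZ hns C A01
      have hm : m = w (bb - 1) := C.inj (by rw [hm3, hc])
      have hbb : bb = 2 := by
        apply short_walk hb h2 (w 0) m (w bb) hm1 _ hbad
        rw [hm]; exact Ab1
      subst hbb
      have : c (w 0) = 1 := by
        have h3 : c (w 0) * c (w 1) = c (w 1) := hc
        have h4 : c (w 0) * c (w 1) = 1 * c (w 1) := by rw [one_mul]; exact h3
        exact mul_right_cancel h4
      exact C.ne _ this
    · -- type (2,2)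
      exfalso
      have r0 := Rst_of_not_E1 C A01 e0
      have rb := Rst_of_not_E1 C Ab eb
      rw [r0, rb] at hR
      have hc : c (w 0) * c (w 1) = c (w bb) * c (w (bb - 1)) :=
        zpowers_eq_of_sq hR (hsq _ _ Ab) (hprod_ne _ _ A01)
      obtain ⟨m, hm1, hm2, hm3⟩ := exists_common H F hZ hns C A01
      obtain ⟨m', hm1', hm2', hm3'⟩ := exists_common H F hZ hns C Ab
      have hm : m = m' := C.inj (by rw [hm3, hm3', hc])
      subst hm
      have hbb : bb = 2 := short_walk hb h2 (w 0) m (w bb) hm1 (Or.symm hm1') hbad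
      subst hbb
      have : c (w 0) = c (w 2) := by
        have h3 : c (w 0) * c (w 1) = c (w 2) * c (w 1) := hc
        exact mul_right_cancel h3
      exact hne (C.inj this)

/-- C-Z4A from the conclusions of C-CX and C-B. -/
theorem z4a_of (H : Hyp G a b) (F : FF G a b) (hZ : ∀ x, Nat.card (Zpr G a b x) = 2)
    (hns : ¬ Arc G a b b a) {bb : ℕ} (hb : IsCrit G a b bb)
    (hcx : ∃ c : Ω → G, (∀ x, c x ≠ 1 ∧ Zpr G a b x = Subgroup.zpowers (c x)) ∧
      (∀ (g : G) x, c (g • x) = g * c x * g⁻¹) ∧ Function.Injective c ∧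
      (∀ x y, Adj G a b x y → c x * c y = c y * c x ∧
        (Zst G a b x y : Set G) = {1, c x, c y, c x * c y}) ∧
      (∀ x y, Adj G a b x y → Rst G a b x y = Subgroup.zpowers (c y) ∨
        Rst G a b x y = Subgroup.zpowers (c x * c y)))
    (hB : 2 ≤ bb → ∀ w : ℕ → Ω, IsBad G a b w bb →
      ∃ δ, Adj G a b δ (w 0) ∧ δ ≠ w 1 ∧
        IsBad G a b (fun i => if i = 0 then δ else w (i - 1)) bb ∧
        Tst G (w (bb - 1)) (w (bb - 2)) ≠ Tst G (w (bb - 1)) (w bb)) :
    bb ≤ 1 := by
  by_contra hcon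
  have h2 : 2 ≤ bb := by omega
  obtain ⟨c, hc1, hc2, hc3, hc4, hc5⟩ := hcx
  have C : CX G a b c :=
    { ne := fun x => (hc1 x).1
      zp := fun x => (hc1 x).2
      eqv := hc2
      inj := hc3
      cm := fun x y h => (hc4 x y h).1
      zst := fun x y h => (hc4 x y h).2
      rst := hc5 }
  obtain ⟨w, hw⟩ := hb.1
  obtain ⟨hbb, e0, -⟩ := type_one_one H F hZ hns C hb h2 w hw
  obtain ⟨δ, -, -, hw', -⟩ := hB h2 w hw
  obtain ⟨-, -, eb'⟩ := type_one_one H F hZ hns C hb h2 _ hw'
  subst hbb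
  have e1 : E1 G a b c (w 1) (w 0) := by simpa using eb'
  exact not_E1_both H F hZ hns C (hw.1 0 (by omega)) e0 e1

end Cfsg.Agent.Lib.Helper65_Sims_CZ4Amain
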