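import Mathlib
import Cfsg.Agent.Lib.Helper94_SympQuad

set_option autoImplicit false
set_option linter.unusedSectionVars false
set_option linter.unusedVariables false

/-!
Characteristic two, dimension at least four, at least four scalars: the isometry group of a
quadratic map `Q` polarising to a nondegenerate alternating form `B` is a maximal subgroup of the
isometry group of `B`.  (Package Q5 of S5789; adapts `Helper94_SympQuad.maximal_oGroup`.)
-/

namespace Cfsg.Agent.Lib.Helper65_Sp4E_Q5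

open Cfsg.Agent.Lib.Helper94_Symp Cfsg.Agent.Lib.Helper94_SympQuad

section Aux

variable {F : Type*} [Field F]

lemma exists_avoid3 [Finite F] (h4 : 4 ≤ Nat.card F) (r1 r2 r3 : F) :
    ∃ t : F, t ≠ r1 ∧ t ≠ r2 ∧ t ≠ r3 := by
  classical
  have := Fintype.ofFinite F
  by_contra hcon
  push Not at hcon
  have hsub : (Finset.univ : Finset F) ⊆ {r1, r2, r3} := by
    intro t _
    by_cases h1 : t = r1
    · simp [h1]
    by_cases h2 : t = r2
    · simp [h2]
    simp [hcon t h1 h2]
  have h1 := Finset.card_le_card hsub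
  rw [Finset.card_univ, ← Nat.card_eq_fintype_card] at h1
  have h2 := Finset.card_le_three (a := r1) (b := r2) (c := r3)
  omega

lemma affine_ne_zero {a b t : F} (hab : a ≠ 0 ∨ b ≠ 0) (ht : t ≠ -a / b) : a + t * b ≠ 0 := by
  intro h
  by_cases hb : b = 0
  · subst hb
    rw [mul_zero, add_zero] at h
    rcases hab with hab | hab
    · exact hab h
    · exact hab rfl
  · apply ht
    rw [eq_div_iff hb]
    linear_combination h

end Aux

variable {F V : Type*} [Field F] [AddCommGroup V] [Module F V]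

/-- Three nonzero functionals `B · xᵢ` have a common non-vanishing point when `4 ≤ |F|`. -/
lemma exists_three_ne_zero [Finite F] (h4 : 4 ≤ Nat.card F) (B : LinearMap.BilinForm F V)
    {x1 x2 x3 : V} (h1 : ∃ z, B z x1 ≠ 0) (h2 : ∃ z, B z x2 ≠ 0) (h3 : ∃ z, B z x3 ≠ 0) :
    ∃ z, B z x1 ≠ 0 ∧ B z x2 ≠ 0 ∧ B z x3 ≠ 0 := by
  obtain ⟨z0, -, hz1, hz2⟩ := exists_both_ne_zero B ⊤
    (by obtain ⟨z, hz⟩ := h1; exact ⟨z, trivial, hz⟩)
    (by obtain ⟨z, hz⟩ := h2; exact ⟨z, trivial, hz⟩)
  obtain ⟨z1, hz3⟩ := h3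
  obtain ⟨t, ht1, ht2, ht3⟩ := exists_avoid3 h4 (-(B z0 x1) / B z1 x1) (-(B z0 x2) / B z1 x2)
    (-(B z0 x3) / B z1 x3)
  refine ⟨z0 + t • z1, ?_, ?_, ?_⟩
  · rw [map_add, LinearMap.add_apply, map_smul, LinearMap.smul_apply, smul_eq_mul]
    exact affine_ne_zero (Or.inl hz1) ht1
  · rw [map_add, LinearMap.add_apply, map_smul, LinearMap.smul_apply, smul_eq_mul]
    exact affine_ne_zero (Or.inl hz2) ht2
  · rw [map_add, LinearMap.add_apply, map_smul, LinearMap.smul_apply, smul_eq_mul]
    exact affine_ne_zero (Or.inr hz3) ht3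

section Quad

variable [CharP F 2] (B : LinearMap.BilinForm F V) (hB : B.IsAlt) (Q : V → F)
  (hsq : ∀ a : F, ∃ b : F, b * b = a)
  (hQs : ∀ (c : F) (v : V), Q (c • v) = c * c * Q v)
  (hQp : ∀ u v : V, Q (u + v) = Q u + Q v + B u v)

include hB hsq hQs hQp

/-- For a hyperbolic pair `x, y` there is a vector orthogonal to both with prescribed `Q`. -/
lemma exists_orth_Q2 [FiniteDimensional F V] (hN : B.Nondegenerate)
    (hdim : 4 ≤ Module.finrank F V) {x y : V} (hxy : B x y = 1) (κ : F) :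
    ∃ w, B x w = 0 ∧ B y w = 0 ∧ Q w = κ := by
  classical
  set S : Submodule F V := Submodule.span F ((({x, y} : Finset V)) : Set V) with hS
  have hSle : Module.finrank F S ≤ 2 :=
    le_trans (finrank_span_finset_le_card _) Finset.card_le_two
  have hU : Module.finrank F (B.orthogonal S) = Module.finrank F V - Module.finrank F S :=
    LinearMap.BilinForm.finrank_orthogonal hN S
  have hpos : 0 < Module.finrank F (B.orthogonal S) := by omega
  obtain ⟨⟨w1, hw1⟩, hw1ne⟩ := Module.finrank_pos_iff_exists_ne_zero.mp hpos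
  have hw1ne' : w1 ≠ 0 := fun h => hw1ne (Subtype.ext h)
  have hw1' := hw1
  rw [mem_orth] at hw1'
  have hxw1 : B x w1 = 0 := hw1' x (Submodule.subset_span (by simp))
  have hyw1 : B y w1 = 0 := hw1' y (Submodule.subset_span (by simp))
  have hyx : B y x = 1 := by rw [alt_swap B hB, hxy, CharTwo.neg_eq]
  obtain ⟨v, hv⟩ : ∃ v, B v w1 ≠ 0 := by
    by_contra hcon
    push Not at hcon
    exact hw1ne' (hN.2 w1 hcon)
  -- project `v` into the orthogonal complement of the hyperbolic plane
  obtain ⟨w2, hw2def⟩ : ∃ w2 : V, w2 = v + B x v • y + B y v • x := ⟨_, rfl⟩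
  have hxw2 : B x w2 = 0 := by
    rw [hw2def, map_add, map_add, map_smul, map_smul, hB x, hxy, smul_eq_mul, smul_eq_mul,
      mul_zero, add_zero, mul_one, CharTwo.add_self_eq_zero]
  have hyw2 : B y w2 = 0 := by
    rw [hw2def, map_add, map_add, map_smul, map_smul, hB y, hyx, smul_eq_mul, smul_eq_mul,
      mul_zero, mul_one, add_zero, CharTwo.add_self_eq_zero]
  have hw2 : w2 ∈ B.orthogonal S := by
    rw [mem_orth]
    intro n hn
    rw [hS] at hn
    refine Submodule.span_induction ?_ ?_ ?_ ?_ hn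
    · intro n hn
      simp only [Finset.coe_insert, Finset.coe_singleton, Set.mem_insert_iff,
        Set.mem_singleton_iff] at hn
      rcases hn with rfl | rfl
      · exact hxw2
      · exact hyw2
    · simp
    · intro a b _ _ ha hb
      rw [map_add, LinearMap.add_apply, ha, hb, add_zero]
    · intro c a _ ha
      rw [map_smul, LinearMap.smul_apply, ha, smul_zero]
  have h12 : B w2 w1 ≠ 0 := by
    rw [hw2def, map_add, map_add, LinearMap.add_apply, LinearMap.add_apply, map_smul, map_smul,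
      LinearMap.smul_apply, LinearMap.smul_apply, hxw1, hyw1, smul_zero, smul_zero, add_zero,
      add_zero]
    exact hv
  have hw0 : ∃ w0 ∈ B.orthogonal S, Q w0 ≠ 0 := by
    by_contra hcon
    push Not at hcon
    have h1 := hcon w1 hw1
    have h2 := hcon w2 hw2
    have h3 := hcon (w2 + w1) (Submodule.add_mem _ hw2 hw1)
    rw [hQp, h1, h2, zero_add, zero_add] at h3
    exact h12 h3
  obtain ⟨w0, hw0, hq0⟩ := hw0
  obtain ⟨c, hc⟩ := hsq (κ / Q w0)
  have hmem : c • w0 ∈ B.orthogonal S := Submodule.smul_mem _ c hw0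
  rw [mem_orth] at hmem
  refine ⟨c • w0, hmem x (Submodule.subset_span (by simp)),
    hmem y (Submodule.subset_span (by simp)), ?_⟩
  rw [hQs, hc, div_mul_cancel₀ _ hq0]

lemma exists_B_one_Q4 [FiniteDimensional F V] (hN : B.Nondegenerate)
    (hdim : 4 ≤ Module.finrank F V) {a' : V} (ha' : a' ≠ 0) (s : F) :
    ∃ b, B b a' = 1 ∧ Q b = s := by
  have h1 : ∃ z, B z a' ≠ 0 := by
    by_contra hcon
    push Not at hcon
    exact ha' (hN.2 a' hcon)
  obtain ⟨z, hz⟩ := h1
  have hb0 : B ((B z a')⁻¹ • z) a' = 1 := by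
    rw [map_smul, LinearMap.smul_apply, smul_eq_mul, inv_mul_cancel₀ hz]
  have hb0' : B a' ((B z a')⁻¹ • z) = 1 := by
    rw [alt_swap B hB, hb0, CharTwo.neg_eq]
  obtain ⟨w, h1w, h2w, hQw⟩ := exists_orth_Q2 B hB Q hsq hQs hQp hN hdim hb0'
    (s + Q ((B z a')⁻¹ • z))
  refine ⟨(B z a')⁻¹ • z + w, ?_, ?_⟩
  · rw [map_add, LinearMap.add_apply, hb0, alt_swap B hB w a', h1w, neg_zero, add_zero]
  · rw [hQp, hQw, h2w, add_zero, add_comm s, ← add_assoc, CharTwo.add_self_eq_zero, zero_add]

lemma witt_vec4 [FiniteDimensional F V] [Finite F] (hN : B.Nondegenerate)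
    (h4 : 4 ≤ Nat.card F) {x y : V} (hx : x ≠ 0) (hy : y ≠ 0) (hxy : Q x = Q y) :
    ∃ g ∈ oGroup B Q, g x = y := by
  by_cases h : B x y = 0
  · by_cases hxeqy : x = y
    · exact ⟨1, (oGroup B Q).one_mem, by rw [hxeqy]; rfl⟩
    have hyy : y + y = 0 := by rw [← two_smul F y, CharTwo.two_eq_zero, zero_smul]
    have hxpy : x + y ≠ 0 := by
      intro h0
      apply hxeqy
      calc x = x + (y + y) := by rw [hyy, add_zero]
        _ = (x + y) + y := (add_assoc _ _ _).symm
        _ = y := by rw [h0, zero_add]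
    have h1 : ∃ z, B z x ≠ 0 := by
      by_contra hcon
      push Not at hcon
      exact hx (hN.2 x hcon)
    have h2 : ∃ z, B z y ≠ 0 := by
      by_contra hcon
      push Not at hcon
      exact hy (hN.2 y hcon)
    have h3 : ∃ z, B z (x + y) ≠ 0 := by
      by_contra hcon
      push Not at hcon
      exact hxpy (hN.2 (x + y) hcon)
    obtain ⟨z0, hz0x, hz0y, hz0xy⟩ := exists_three_ne_zero h4 B h1 h2 h3
    set α : F := (Q x + Q z0) / B z0 (x + y) with hα
    have hyx : B y x = 0 := by rw [alt_swap B hB, h, neg_zero]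
    have hQxy : Q (x + y) = 0 := by
      rw [hQp, h, add_zero, hxy, CharTwo.add_self_eq_zero]
    have hQz : Q (z0 + α • (x + y)) = Q x := by
      rw [hQp, hQs, hQxy, mul_zero, add_zero, map_smul, smul_eq_mul, hα,
        div_mul_cancel₀ _ hz0xy, add_comm (Q x), ← add_assoc, CharTwo.add_self_eq_zero,
        zero_add]
    have hzx : B x (z0 + α • (x + y)) ≠ 0 := by
      rw [map_add, map_smul, map_add, hB x, h, add_zero, smul_zero, add_zero]
      exact alt_ne_zero_comm B hB hz0x
    have hzy : B (z0 + α • (x + y)) y ≠ 0 := by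
      rw [map_add, LinearMap.add_apply, map_smul, LinearMap.smul_apply, map_add,
        LinearMap.add_apply, hB y, h, add_zero, smul_zero, add_zero]
      exact hz0y
    obtain ⟨g1, hg1, e1⟩ := exists_refl_move B hB Q hQs hQp (x := x) (y := z0 + α • (x + y))
      hQz.symm hzx
    obtain ⟨g2, hg2, e2⟩ := exists_refl_move B hB Q hQs hQp (x := z0 + α • (x + y)) (y := y)
      (hQz.trans hxy) hzy
    exact ⟨g2 * g1, mul_mem hg2 hg1, by rw [LinearEquiv.mul_apply, e1, e2]⟩
  · exact exists_refl_move B hB Q hQs hQp hxy h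

/-! ### Q5 -/
theorem maximal_oGroup4 [FiniteDimensional F V] [Finite F] (hN : B.Nondegenerate)
    (hdim : 4 ≤ Module.finrank F V) (h4 : 4 ≤ Nat.card F) :
    oGroup B Q < isoGroup B ∧ ∀ M : Subgroup (V ≃ₗ[F] V), oGroup B Q ≤ M → M ≤ isoGroup B →
      M = oGroup B Q ∨ M = isoGroup B := by
  have hle : oGroup B Q ≤ isoGroup B := fun g hg => hg.1
  have key : ∀ M : Subgroup (V ≃ₗ[F] V), oGroup B Q ≤ M → M ≤ isoGroup B →
      (∃ g ∈ M, g ∉ oGroup B Q) → isoGroup B ≤ M := by
    rintro M hHM hMK ⟨g, hgM, hgH⟩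
    have hgI := hMK hgM
    obtain ⟨a', ha'⟩ := exists_defect B hB Q hsq hQs hQp hN hgI
    have ha'0 : a' ≠ 0 := by
      rintro rfl
      apply hgH
      exact ⟨hgI, fun v => by rw [ha', map_zero, mul_zero, add_zero]⟩
    have claim : ∀ a : V, (∃ u : F, Q a = u * u + u) →
        ∃ m ∈ M, ∀ v, Q (m v) = Q v + B v a * B v a := by
      rintro a ⟨u0, hu0⟩
      by_cases ha : a = 0
      · subst ha
        exact ⟨1, M.one_mem, fun v => by simp⟩
      obtain ⟨u, hu, hune⟩ : ∃ u : F, Q a = u * u + u ∧ u ≠ 0 := by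
        by_cases h0 : u0 = 0
        · refine ⟨1, ?_, one_ne_zero⟩
          rw [hu0, h0, mul_zero, add_zero, mul_one, CharTwo.add_self_eq_zero]
        · exact ⟨u0, hu0, h0⟩
      obtain ⟨b, hb1, hbs⟩ := exists_B_one_Q4 B hB Q hsq hQs hQp hN hdim ha'0 (u⁻¹ + 1)
      have hQgb : Q (g b) = u⁻¹ := by
        rw [ha', hbs, hb1, mul_one, add_assoc, CharTwo.add_self_eq_zero, add_zero]
      have hgb0 : Q (g b) ≠ 0 := by rw [hQgb]; exact inv_ne_zero hune
      have hr : stv B hB (g b) u ∈ M := by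
        have := hHM (refl_mem B hB Q hQs hQp hgb0)
        rwa [hQgb, inv_inv] at this
      have ht : stv B hB b u ∈ M := by
        have hc := conj_stv B hB ((isoGroup B).inv_mem hgI) (g b) u
        rw [inv_inv, inv_apply_apply'] at hc
        rw [← hc]
        exact M.mul_mem (M.mul_mem (M.inv_mem hgM) hr) hgM
      have hbne : b ≠ 0 := by
        rintro rfl
        rw [map_zero, LinearMap.zero_apply] at hb1
        exact zero_ne_one hb1
      have hub : u • b ≠ 0 := smul_ne_zero hune hbne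
      have huu : u * u * (u⁻¹ + 1) = u + u * u := by
        rw [mul_add, mul_assoc, mul_inv_cancel₀ hune, mul_one, mul_one]
      have hQub : Q a = Q (u • b) := by
        rw [hQs, hbs, hu, huu, add_comm]
      obtain ⟨h, hhH, hha⟩ := witt_vec4 B hB Q hsq hQs hQp hN h4 ha hub hQub
      refine ⟨stv B hB b u * h, M.mul_mem ht (hHM hhH), fun v => ?_⟩
      rw [LinearEquiv.mul_apply, Q_stv B hB Q hQs hQp, hhH.2 v, hbs]
      have e1 : B v a = B (h v) (u • b) := by rw [← hha, hhH.1 v a]
      have huu2 : u + u * u + u = u * u := by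
        rw [add_comm u (u * u), add_assoc, CharTwo.add_self_eq_zero, add_zero]
      rw [e1, map_smul, smul_eq_mul, huu, huu2]
      ring
    apply isoGroup_le_of_stv_mem B hB hN
    intro v c
    obtain ⟨l, hl⟩ := hsq (c * c * Q v + c)
    obtain ⟨m, hmM, hm⟩ := claim (l • v) ⟨c * Q v, by rw [hQs, hl]; ring⟩
    have hmI := hMK hmM
    have hmem : stv B hB v c * m⁻¹ ∈ oGroup B Q := by
      refine ⟨(isoGroup B).mul_mem (stv_mem_isoGroup B hB v c) ((isoGroup B).inv_mem hmI),
        fun w => ?_⟩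
      rw [LinearEquiv.mul_apply, Q_stv B hB Q hQs hQp]
      have := hm (m⁻¹ w)
      rw [apply_inv_apply', map_smul, smul_eq_mul] at this
      rw [this, ← hl]
      ring
    have : stv B hB v c = (stv B hB v c * m⁻¹) * m := by group
    rw [this]
    exact M.mul_mem (hHM hmem) hmM
  refine ⟨lt_of_le_of_ne hle ?_, ?_⟩
  · intro heq
    have hpos : 0 < Module.finrank F V := by omega
    obtain ⟨a', ha'⟩ := Module.finrank_pos_iff_exists_ne_zero.mp hpos
    obtain ⟨b, hb1, hbs⟩ := exists_B_one_Q4 B hB Q hsq hQs hQp hN hdim ha' 0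
    have ht : stv B hB b 1 ∈ oGroup B Q := by
      rw [heq]
      exact stv_mem_isoGroup B hB b 1
    have := ht.2 a'
    rw [Q_stv B hB Q hQs hQp, hbs, alt_swap B hB a' b, hb1] at this
    simp at this
  · intro M hHM hMK
    by_cases h : ∃ g ∈ M, g ∉ oGroup B Q
    · right
      exact le_antisymm hMK (key M hHM hMK h)
    · left
      push Not at h
      exact le_antisymm h hHM

end Quad

end Cfsg.Agent.Lib.Helper65_Sp4E_Q5
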