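import Cfsg.Agent.Lib.Helper37_SzCharDefs
import Cfsg.Agent.Lib.Helper3_CharColumn
import Cfsg.Agent.Lib.Helper65_SzChar_PKL
import Cfsg.Prelude.Def_DegreeGraph

/-!
# Package PK-T1 of S4775 (character degrees of the Suzuki groups; architect helper37)

The Steinberg character of a group of Suzuki type, glued from its values on the four T.I.
subgroups.
-/

set_option autoImplicit false
set_option linter.unusedSectionVars false
set_option linter.unusedVariables false

namespace Cfsg.Agent.Lib.Helper65_SzChar_PKT1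

open scoped ComplexConjugate Classical
open Cfsg Cfsg.Agent.Helper37TI Cfsg.Agent.Helper37SzChar

open Cfsg.Agent.Lib.Helper15_Brauer Cfsg.Agent.Lib.Helper65_SzChar_PKL

variable {G : Type*} [Group G] [Fintype G] {m : ℕ}

/-- a function with one value at `1` and another one elsewhere -/
noncomputable def two (c v : ℂ) : G → ℂ := fun g => if g = 1 then c else v

theorem two_conj (c v : ℂ) (n k : G) : two c v (n * k * n⁻¹) = two c v k := by
  unfold two
  have hiff : n * k * n⁻¹ = 1 ↔ k = 1 := by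
    constructor
    · intro e
      have : k = n⁻¹ * (n * k * n⁻¹) * n := by group
      rw [this, e]
      group
    · rintro rfl
      group
  by_cases hk : k = 1
  · rw [if_pos hk, if_pos (hiff.2 hk)]
  · rw [if_neg hk, if_neg (fun e => hk (hiff.1 e))]

/-- `v + z |K| δ_1` is a generalized character -/
theorem isGen_two (K : Subgroup G) (c : ℂ) (v z : ℤ) (hc : c = (v : ℂ) + (z : ℂ) * (Nat.card K : ℂ)) :
    IsGeneralizedCharacter K (fun k : K => two c (v : ℂ) (k : G)) := by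
  have g1 := isGen_const (K := K) v
  have g2 := isGen_delta (K := K) z
  have g := isGeneralizedCharacter_add g1 g2
  have heq : (fun k : K => two c (v : ℂ) (k : G)) =
      (fun _ : K => (v : ℂ)) +
        fun k : K => if k = 1 then ((z * Nat.card K : ℤ) : ℂ) else 0 := by
    funext k
    simp only [Pi.add_apply]
    unfold two
    by_cases hk : (k : G) = 1
    · have hk' : k = 1 := Subtype.ext hk
      rw [if_pos hk, if_pos hk', hc]
      push_cast
      ring
    · have hk' : ¬ k = 1 := fun hh => hk (by rw [hh]; rfl)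
      rw [if_neg hk, if_neg hk', add_zero]
  rw [heq]
  convert g

/-- the local norm of a two-valued function -/
theorem sum_mask_two (K : Subgroup G) (c v : ℂ) :
    ∑ k : K, mask (two c v) (k : G) * conj (two c v (k : G)) =
      ((Nat.card K : ℂ) - 1) * (v * conj v) := by
  have hpt : ∀ k : K, mask (two c v) (k : G) * conj (two c v (k : G)) =
      v * conj v - (if k = 1 then v * conj v else 0) := by
    intro k
    by_cases hk : (k : G) = 1
    · have hk' : k = 1 := Subtype.ext hk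
      rw [hk, mask_one, if_pos hk']
      ring
    · have hk' : ¬ k = 1 := fun hh => hk (by rw [hh]; rfl)
      rw [mask_of_ne _ hk, if_neg hk']
      unfold two
      rw [if_neg hk]
      ring
  rw [Finset.sum_congr rfl (fun k _ => hpt k), Finset.sum_sub_distrib, Finset.sum_const,
    Finset.card_univ, nsmul_eq_mul, Finset.sum_ite_eq' Finset.univ (1 : K),
    if_pos (Finset.mem_univ _), ← Nat.card_eq_fintype_card]
  ring


/-- the values of the Steinberg character off the identity -/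
def stV : SzIdx → ℤ
  | .Q => 0
  | .H => 1
  | .A1 => -1
  | .A2 => -1

theorem steinberg (D : SzData G m) :
    ∃ χ : IrrCharacter G, (χ : G → ℂ) 1 = ((qq m ^ 2 : ℕ) : ℂ) ∧
      (∀ h ∈ D.H, h ≠ 1 → (χ : G → ℂ) h = 1) ∧ (∀ a ∈ D.A₁, a ≠ 1 → (χ : G → ℂ) a = -1) := by
  have hq1 : 1 ≤ qq m := qq_pos m
  have hq2 : 2 ≤ qq m := two_le_qq m
  have hrq := rr_le_qq m
  set d : ℕ := qq m ^ 2 with hd
  have hd0 : 0 < d := by positivity
  let ψ : SzIdx → G → ℂ := fun i => two (d : ℂ) ((stV i : ℤ) : ℂ)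
  have hinv : Inv D.toTISys ψ := fun i n hn k hk => two_conj _ _ n k
  have h1 : ∀ i, ψ i 1 = (d : ℂ) := fun i => if_pos rfl
  -- casts
  have hn12 : ((qq m + rr m + 1 : ℕ) : ℂ) * ((qq m - rr m + 1 : ℕ) : ℂ) = (qq m : ℂ) ^ 2 + 1 := by
    have := congrArg (Nat.cast : ℕ → ℂ) (n1_mul_n2 m)
    rw [Nat.cast_mul] at this
    rw [this]
    push_cast
    ring
  have hnsum : ((qq m + rr m + 1 : ℕ) : ℂ) + ((qq m - rr m + 1 : ℕ) : ℂ) = 2 * (qq m : ℂ) + 2 := by
    have h0 : (qq m + rr m + 1) + (qq m - rr m + 1) = 2 * qq m + 2 := by omega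
    have := congrArg (Nat.cast : ℕ → ℂ) h0
    rw [Nat.cast_add] at this
    rw [this]
    push_cast
    ring
  have hgen : ∀ i, IsGeneralizedCharacter (D.toTISys.K i) (fun k : D.toTISys.K i => ψ i k) := by
    intro i
    cases i
    · exact isGen_two D.Q (d : ℂ) 0 1 (by rw [D.card_Q, hd]; push_cast; ring)
    · exact isGen_two D.H (d : ℂ) 1 ((qq m : ℤ) + 1)
        (by rw [D.card_H, Nat.cast_sub hq1, hd]; push_cast; ring)
    · exact isGen_two D.A₁ (d : ℂ) (-1) ((qq m - rr m + 1 : ℕ) : ℤ)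
        (by rw [D.card_A₁, hd, Int.cast_natCast, mul_comm, hn12]; push_cast; ring)
    · exact isGen_two D.A₂ (d : ℂ) (-1) ((qq m + rr m + 1 : ℕ) : ℤ)
        (by rw [D.card_A₂, hd, Int.cast_natCast, hn12]; push_cast; ring)
  have hnorm : classInner (fn D.toTISys (d : ℂ) ψ) (fn D.toTISys (d : ℂ) ψ) = 1 := by
    rw [classInner_fn D.toTISys _ _ hinv, SzIdx.sum_eq]
    have eQ : ∑ k : D.toTISys.K SzIdx.Q, mask (ψ SzIdx.Q) k * conj (ψ SzIdx.Q k) = _ :=
      sum_mask_two D.Q (d : ℂ) ((stV SzIdx.Q : ℤ) : ℂ)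
    have eH : ∑ k : D.toTISys.K SzIdx.H, mask (ψ SzIdx.H) k * conj (ψ SzIdx.H k) = _ :=
      sum_mask_two D.H (d : ℂ) ((stV SzIdx.H : ℤ) : ℂ)
    have eA1 : ∑ k : D.toTISys.K SzIdx.A1, mask (ψ SzIdx.A1) k * conj (ψ SzIdx.A1 k) = _ :=
      sum_mask_two D.A₁ (d : ℂ) ((stV SzIdx.A1 : ℤ) : ℂ)
    have eA2 : ∑ k : D.toTISys.K SzIdx.A2, mask (ψ SzIdx.A2) k * conj (ψ SzIdx.A2 k) = _ :=
      sum_mask_two D.A₂ (d : ℂ) ((stV SzIdx.A2 : ℤ) : ℂ)
    have cQ : Nat.card (Subgroup.normalizer ((D.toTISys.K SzIdx.Q : Subgroup G) : Set G)) = _ :=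
      D.card_NQ
    have cH : Nat.card (Subgroup.normalizer ((D.toTISys.K SzIdx.H : Subgroup G) : Set G)) = _ :=
      D.card_NH
    have cA1 : Nat.card (Subgroup.normalizer ((D.toTISys.K SzIdx.A1 : Subgroup G) : Set G)) = _ :=
      D.card_NA₁
    have cA2 : Nat.card (Subgroup.normalizer ((D.toTISys.K SzIdx.A2 : Subgroup G) : Set G)) = _ :=
      D.card_NA₂
    rw [eQ, eH, eA1, eA2, cQ, cH, cA1, cA2, D.card_G, D.card_Q, D.card_H, D.card_A₁, D.card_A₂]
    simp only [stV]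
    set n1 : ℂ := ((qq m + rr m + 1 : ℕ) : ℂ) with hn1
    set n2 : ℂ := ((qq m - rr m + 1 : ℕ) : ℂ) with hn2
    have hn1' : n1 ≠ 0 := by
      rw [hn1, Nat.cast_ne_zero]
      omega
    have hn2' : n2 ≠ 0 := by
      rw [hn2, Nat.cast_ne_zero]
      omega
    have hq0 : (qq m : ℂ) ≠ 0 := by
      rw [Nat.cast_ne_zero]
      omega
    have ha : ((qq m - 1 : ℕ) : ℂ) = (qq m : ℂ) - 1 := by
      rw [Nat.cast_sub hq1]
      simp
    have ha0 : (qq m : ℂ) - 1 ≠ 0 := by
      rw [← ha, Nat.cast_ne_zero]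
      omega
    have hG : ((qq m ^ 2 * (qq m ^ 2 + 1) * (qq m - 1) : ℕ) : ℂ) =
        (qq m : ℂ) ^ 2 * (n1 * n2) * ((qq m : ℂ) - 1) := by
      rw [Nat.cast_mul, Nat.cast_mul, ha, hn12]
      push_cast
      ring
    have hNQ : ((qq m ^ 2 * (qq m - 1) : ℕ) : ℂ) = (qq m : ℂ) ^ 2 * ((qq m : ℂ) - 1) := by
      rw [Nat.cast_mul, ha]
      push_cast
      ring
    have hNH : ((2 * (qq m - 1) : ℕ) : ℂ) = 2 * ((qq m : ℂ) - 1) := by
      rw [Nat.cast_mul, ha]
      push_cast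
      ring
    have hNA1 : ((4 * (qq m + rr m + 1) : ℕ) : ℂ) = 4 * n1 := by
      rw [Nat.cast_mul, ← hn1]
      norm_num
    have hNA2 : ((4 * (qq m - rr m + 1) : ℕ) : ℂ) = 4 * n2 := by
      rw [Nat.cast_mul, ← hn2]
      norm_num
    rw [hG, hNQ, hNH, hNA1, hNA2, ha, hd]
    simp only [Int.cast_zero, Int.cast_one, Int.cast_neg, map_zero, map_one, map_neg, mul_zero,
      Nat.cast_pow, map_pow, Complex.conj_natCast]
    field_simp
    linear_combination (-4 : ℂ) * hn12 + (-2 * ((qq m : ℂ) - 1)) * hnsum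
  have hirr := isIrrCharacter_fn D.toTISys hd0 hinv h1 hgen hnorm
  refine ⟨⟨fn D.toTISys (d : ℂ) ψ, hirr⟩, ?_, ?_, ?_⟩
  · exact fn_one D.toTISys _ _
  · intro h hh hh1
    have hh' : h ∈ D.toTISys.K SzIdx.H := hh
    show fn D.toTISys (d : ℂ) ψ h = 1
    rw [fn_of_mem D.toTISys (d : ℂ) hinv hh' hh1]
    show two (d : ℂ) ((stV SzIdx.H : ℤ) : ℂ) h = 1
    unfold two
    rw [if_neg hh1]
    simp [stV]
  · intro a ha ha1
    have ha' : a ∈ D.toTISys.K SzIdx.A1 := ha
    show fn D.toTISys (d : ℂ) ψ a = -1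
    rw [fn_of_mem D.toTISys (d : ℂ) hinv ha' ha1]
    show two (d : ℂ) ((stV SzIdx.A1 : ℤ) : ℂ) a = -1
    unfold two
    rw [if_neg ha1]
    simp [stV]

end Cfsg.Agent.Lib.Helper65_SzChar_PKT1
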