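import Mathlib
import Cfsg.Agent.Lib.Helper67_T2ODefs
import Cfsg.Agent.Lib.Helper94_OrthNondeg
import Cfsg.Agent.Lib.Helper82_T2_KR
import Cfsg.Agent.Lib.Helper9_T2_BR
import Cfsg.Agent.Lib.Helper78_UT2_NEXA

set_option autoImplicit false
set_option linter.unusedSectionVars false
set_option linter.unusedVariables false

/-!
# TENS2O package END1 (architect helper67, market `t2o_packages`)

The element `κ = g (ux 1) g⁻¹ * ux (-ν)` of `M` is `1 + K ⊗ π`, `π = aw ω e f` the projection onto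
`E = ⟨e, f⟩` along `D = DI g = E^⊥`, `K = !![0, -ν; μ, -(μ ν)]`.
-/

open Module
open Cfsg.Agent.Lib.Helper94_Symp Cfsg.Agent.Lib.Helper94_OrthSmall
  Cfsg.Agent.Lib.Helper94_OrthSiegel Cfsg.Agent.Lib.Helper94_OrthNondeg
  Cfsg.Agent.Lib.Helper67_Tens2Defs Cfsg.Agent.Lib.Helper67_T2ODefs

namespace Cfsg.Agent.Lib.Helper65_T2O_END1

variable {F W : Type*} [Field F] [Finite F] [AddCommGroup W] [Module F W] [FiniteDimensional F W]
variable {ω : LinearMap.BilinForm F W}

/-- a subspace of codimension at most two inside `⟨e, f⟩^⊥` (`ω e f = 1`) is all of `⟨e, f⟩^⊥` -/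
theorem mem_of_perp (halt : ω.IsAlt) (D : Submodule F W)
    (hdim : finrank F W ≤ finrank F D + 2)
    (e f : W) (hef : ω e f = 1) (hperp : ∀ u ∈ D, ω u e = 0 ∧ ω u f = 0)
    (v : W) (hve : ω v e = 0) (hvf : ω v f = 0) : v ∈ D := by
  let φ : W →ₗ[F] F × F := (ω.flip e).prod (ω.flip f)
  have hφ : ∀ v, φ v = (ω v e, ω v f) := fun v => rfl
  have hfe : ω f e = -1 := by rw [alt_swap ω halt f e, hef]
  have hsurj : Function.Surjective φ := by
    rintro ⟨x, y⟩
    refine ⟨y • e + (-x) • f, ?_⟩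
    rw [hφ]
    simp only [map_add, map_smul, LinearMap.add_apply, LinearMap.smul_apply, smul_eq_mul, halt e,
      halt f, hef, hfe]
    ext <;> simp
  have hrank := LinearMap.finrank_range_add_finrank_ker φ
  rw [LinearMap.range_eq_top.mpr hsurj, finrank_top, Module.finrank_prod, Module.finrank_self]
    at hrank
  have hle : D ≤ LinearMap.ker φ := by
    intro u hu
    rw [LinearMap.mem_ker, hφ, (hperp u hu).1, (hperp u hu).2]
    rfl
  have heq : D = LinearMap.ker φ :=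
    Submodule.eq_of_le_of_finrank_le hle (by omega)
  rw [heq, LinearMap.mem_ker, hφ, hve, hvf]
  rfl

theorem end1 (halt : ω.IsAlt) (hN : ω.Nondegenerate)
    (M : Subgroup ((W × W) ≃ₗ[F] (W × W))) (hM : HypO ω M)
    (g : (W × W) ≃ₗ[F] (W × W)) (hg : g ∈ M)
    (hD : NondegOn ω (DI g)) (hdim : finrank F W ≤ finrank F (DI g) + 2)
    (e f : W) (hef : ω e f = 1) (hperp : ∀ u ∈ DI g, ω u e = 0 ∧ ω u f = 0)
    (ν : F) (hν : ∀ c : F, ∀ u ∈ DI g, ∀ u' ∈ DI g,
      (g * ux (c • (LinearMap.id : W →ₗ[F] W)) * g⁻¹) (u, u') = (u + (c * ν) • u', u'))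
    (μ : F) (hμ : ∀ c a b a' b' : F,
      (g * ux (c • (LinearMap.id : W →ₗ[F] W)) * g⁻¹) (a • e + b • f, a' • e + b' • f) =
        (a • e + b • f, a' • e + b' • f + (c * μ) • (a • e + b • f))) :
    ∃ κ ∈ M, ∀ u u' : W, κ (u, u') =
      (u - ν • aw ω e f u', u' + μ • aw ω e f u - (μ * ν) • aw ω e f u') := by
  have hfe : ω f e = -1 := by rw [alt_swap ω halt f e, hef]
  -- `v - π v ∈ D`
  have hmem : ∀ v : W, v - aw ω e f v ∈ DI g := by
    intro v
    apply mem_of_perp halt (DI g) hdim e f hef hperp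
    · simp only [aw_apply, map_sub, map_smul, LinearMap.sub_apply, LinearMap.smul_apply,
        smul_eq_mul, halt e, hfe]
      ring
    · simp only [aw_apply, map_sub, map_smul, LinearMap.sub_apply, LinearMap.smul_apply,
        smul_eq_mul, halt f, hef]
      ring
  -- the action of `x = g (ux 1) g⁻¹`
  have hx : ∀ w w' : W, (g * ux ((1 : F) • (LinearMap.id : W →ₗ[F] W)) * g⁻¹) (w, w') =
      (w + ν • (w' - aw ω e f w'), w' + μ • aw ω e f w) := by
    intro w w'
    obtain ⟨a, b, hab⟩ : ∃ a b : F, aw ω e f w = a • e + b • f :=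
      ⟨ω w f, -(ω w e), by rw [aw_apply, neg_smul, sub_eq_add_neg]⟩
    obtain ⟨a', b', hab'⟩ : ∃ a' b' : F, aw ω e f w' = a' • e + b' • f :=
      ⟨ω w' f, -(ω w' e), by rw [aw_apply, neg_smul, sub_eq_add_neg]⟩
    have e1 : (w, w') = (w - aw ω e f w, w' - aw ω e f w') + (aw ω e f w, aw ω e f w') := by
      ext <;> simp
    have h1 := hν 1 (w - aw ω e f w) (hmem w) (w' - aw ω e f w') (hmem w')
    have h2 := hμ 1 a b a' b'
    rw [← hab, ← hab'] at h2
    rw [e1, map_add, h1, h2, one_mul, one_mul]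
    ext
    · simp only [Prod.fst_add]
      abel
    · simp only [Prod.snd_add]
      abel
  refine ⟨(g * ux ((1 : F) • (LinearMap.id : W →ₗ[F] W)) * g⁻¹) *
    ux ((-ν) • (LinearMap.id : W →ₗ[F] W)),
    M.mul_mem (M.mul_mem (M.mul_mem hg (hM.ux_mem 1)) (M.inv_mem hg)) (hM.ux_mem (-ν)), ?_⟩
  intro u u'
  rw [LinearEquiv.mul_apply, ux_apply]
  simp only [LinearMap.smul_apply, LinearMap.id_apply]
  rw [hx]
  ext
  · simp only [neg_smul, smul_sub]
    abel
  · simp only [map_add, map_smul, neg_smul, smul_neg, smul_add, smul_smul, map_neg]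
    abel

end Cfsg.Agent.Lib.Helper65_T2O_END1
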