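import Mathlib
import Cfsg.Prelude.Def_Solvable
import Cfsg.Prelude.Def_CaseTheorems
import Cfsg.Agent.Lib.Helper84_TutteDefs
import Cfsg.Agent.Lib.Helper84_TutteAPI
import Cfsg.Agent.Lib.Helper33_Order168
import Cfsg.Agent.Lib.Helper30_Subnormal
import Cfsg.Agent.Lib.Helper1_Cores

/-!
# Tutte package ID-4 (architect helper84; formalised by helper65)

`s = 4`: `H / O(H) ≅ S_4`.  Paper: `pending/helper84/S4385_proof.md` (3.3).

The abstract core: a finite group `Q` with `O(Q) = 1`, `|Q| = 8 n` (`n` odd) and a normal four-group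
`U = {1, u1, u2, u1 u2}` on which two elements `a0`, `a3` act as two different transvections is `S_4`.
-/

set_option autoImplicit false

namespace Cfsg.Agent.Lib.Helper65_Tutte_ID4

open scoped commutatorElement
open Cfsg.Agent.Lib.Helper84_TutteDefs

section Abs

variable {Q : Type*} [Group Q]

/-- A four-group `U = {1, u1, u2, u1 u2}` with two elements `a0`, `a3` acting on it as the two
transvections `u2 ↦ u1 u2` (fixing `u1`) and `u1 ↦ u1 u2` (fixing `u2`). -/
structure FourData (U : Subgroup Q) (a0 a3 u1 u2 : Q) : Prop where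
  mem : ∀ v ∈ U, v = 1 ∨ v = u1 ∨ v = u2 ∨ v = u1 * u2
  m1 : u1 ∈ U
  m2 : u2 ∈ U
  ne1 : u1 ≠ 1
  ne2 : u2 ≠ 1
  ne12 : u1 ≠ u2
  sq1 : u1 * u1 = 1
  sq2 : u2 * u2 = 1
  comm : u1 * u2 = u2 * u1
  a01 : a0 * u1 * a0⁻¹ = u1
  a02 : a0 * u2 * a0⁻¹ = u1 * u2
  a31 : a3 * u1 * a3⁻¹ = u1 * u2
  a32 : a3 * u2 * a3⁻¹ = u2
  sq0 : a0 * a0 = 1

variable {U : Subgroup Q} {a0 a3 u1 u2 : Q}

theorem FourData.ne3 (F : FourData U a0 a3 u1 u2) : u1 * u2 ≠ 1 := by
  intro h
  apply F.ne12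
  have : u1 = u1 * u2 * u2 := by rw [mul_assoc, F.sq2, mul_one]
  rw [this, h, one_mul]

theorem FourData.ne31 (F : FourData U a0 a3 u1 u2) : u1 * u2 ≠ u1 := by
  intro h
  apply F.ne2
  have : u2 = u1 * (u1 * u2) := by rw [← mul_assoc, F.sq1, one_mul]
  rw [this, h, F.sq1]

theorem FourData.ne32 (F : FourData U a0 a3 u1 u2) : u1 * u2 ≠ u2 := by
  intro h
  apply F.ne1
  have : u1 = u1 * u2 * u2 := by rw [mul_assoc, F.sq2, mul_one]
  rw [this, h, F.sq2]

theorem FourData.sq (F : FourData U a0 a3 u1 u2) : ∀ v ∈ U, v * v = 1 := by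
  intro v hv
  rcases F.mem v hv with h | h | h | h
  · rw [h, one_mul]
  · rw [h, F.sq1]
  · rw [h, F.sq2]
  · rw [h]
    calc u1 * u2 * (u1 * u2) = u1 * (u2 * u1) * u2 := by group
      _ = u1 * (u1 * u2) * u2 := by rw [F.comm]
      _ = (u1 * u1) * (u2 * u2) := by group
      _ = 1 := by rw [F.sq1, F.sq2, one_mul]

theorem FourData.card (F : FourData U a0 a3 u1 u2) : Nat.card U = 4 := by
  have hset : (U : Set Q) = {1, u1, u2, u1 * u2} := by
    ext v
    simp only [SetLike.mem_coe, Set.mem_insert_iff, Set.mem_singleton_iff]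
    constructor
    · exact F.mem v
    · rintro (h | h | h | h)
      · rw [h]; exact U.one_mem
      · rw [h]; exact F.m1
      · rw [h]; exact F.m2
      · rw [h]; exact U.mul_mem F.m1 F.m2
  have h1 : Nat.card U = Set.ncard (U : Set Q) := Nat.card_coe_set_eq (U : Set Q)
  rw [h1, hset]
  rw [Set.ncard_insert_of_notMem, Set.ncard_insert_of_notMem, Set.ncard_pair]
  · exact fun h => F.ne32 h.symm
  · simp only [Set.mem_insert_iff, Set.mem_singleton_iff, not_or]
    exact ⟨F.ne12, fun h => F.ne31 h.symm⟩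
  · simp only [Set.mem_insert_iff, Set.mem_singleton_iff, not_or]
    exact ⟨fun h => F.ne1 h.symm, fun h => F.ne2 h.symm, fun h => F.ne3 h.symm⟩

theorem FourData.mem_centralizer_iff (F : FourData U a0 a3 u1 u2) (q : Q) :
    q ∈ Subgroup.centralizer (U : Set Q) ↔ q * u1 = u1 * q ∧ q * u2 = u2 * q := by
  rw [Subgroup.mem_centralizer_iff]
  constructor
  · intro h
    exact ⟨(h u1 F.m1).symm, (h u2 F.m2).symm⟩
  · rintro ⟨h1, h2⟩ v hv
    rcases F.mem v hv with h | h | h | h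
    · rw [h, one_mul, mul_one]
    · rw [h, h1]
    · rw [h, h2]
    · rw [h]
      calc u1 * u2 * q = u1 * (u2 * q) := by group
        _ = u1 * (q * u2) := by rw [h2]
        _ = (u1 * q) * u2 := by group
        _ = q * u1 * u2 := by rw [h1]
        _ = q * (u1 * u2) := by group

theorem FourData.le_centralizer (F : FourData U a0 a3 u1 u2) :
    U ≤ Subgroup.centralizer (U : Set Q) := by
  intro v hv
  -- a group of exponent two is commutative
  have hcomm : ∀ a ∈ U, ∀ b ∈ U, a * b = b * a := by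
    intro a ha b hb
    have h1 := F.sq a ha
    have h2 := F.sq b hb
    have h3 := F.sq (a * b) (U.mul_mem ha hb)
    calc a * b = (b * b) * (a * b) * (a * a) := by rw [h1, h2, one_mul, mul_one]
      _ = b * (b * a) * (b * a) * a := by group
      _ = b * ((b * a) * (b * a)) * a := by group
      _ = b * a := by rw [F.sq (b * a) (U.mul_mem hb ha), mul_one]
  rw [Subgroup.mem_centralizer_iff]
  intro w hw
  exact hcomm w hw v hv

/-- The index of the centraliser of a normal subgroup of order `4` divides `6`. -/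
theorem index_centralizer_dvd_six [Finite Q] (U : Subgroup Q) [U.Normal] (hU : Nat.card U = 4) :
    (Subgroup.centralizer (U : Set Q)).index ∣ 6 := by
  classical
  have : Finite U := Nat.finite_of_card_ne_zero (by rw [hU]; norm_num)
  let ψ : Q →* Equiv.Perm U := (MulAut.toPerm U).comp MulAut.conjNormal
  have hψ : ∀ (q : Q) (v : U), ((ψ q v : U) : Q) = q * v * q⁻¹ := by
    intro q v
    exact MulAut.conjNormal_apply q v
  have hker : ψ.ker = Subgroup.centralizer (U : Set Q) := by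
    ext q
    rw [MonoidHom.mem_ker, Subgroup.mem_centralizer_iff]
    constructor
    · intro h v hv
      have h1 := hψ q ⟨v, hv⟩
      rw [h] at h1
      simp only [Equiv.Perm.coe_one, id_eq] at h1
      calc v * q = (q * v * q⁻¹) * q := by rw [← h1]
        _ = q * v := by group
    · intro h
      ext v
      rw [hψ]
      simp only [Equiv.Perm.coe_one, id_eq]
      rw [← h v v.2]
      group
  have hstab : Nat.card (MulAction.stabilizer (Equiv.Perm U) (1 : U)) = 6 := by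
    have h1 := MulAction.index_stabilizer_of_transitive (Equiv.Perm U) (1 : U)
    have h2 := Subgroup.card_mul_index (MulAction.stabilizer (Equiv.Perm U) (1 : U))
    rw [h1, hU, Nat.card_perm, hU] at h2
    have h3 : (4 : ℕ).factorial = 24 := by decide
    rw [h3] at h2
    omega
  have hle : ψ.range ≤ MulAction.stabilizer (Equiv.Perm U) (1 : U) := by
    rintro _ ⟨q, rfl⟩
    rw [MulAction.mem_stabilizer_iff]
    apply Subtype.ext
    rw [Equiv.Perm.smul_def, hψ]
    simp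
  have := Subgroup.card_dvd_of_le hle
  rw [hstab, ← Subgroup.index_ker, hker] at this
  exact this

/-- A central subgroup of order prime to its index has a normal complement. -/
theorem exists_normal_complement_of_central {D : Type*} [Group D] (V : Subgroup D)
    (hcent : ∀ u ∈ V, ∀ d : D, u * d = d * u) (hcop : Nat.Coprime (Nat.card V) V.index) :
    ∃ L : Subgroup D, L.Normal ∧ Nat.card L = V.index := by
  have : V.Normal := by
    constructor
    intro u hu d
    rw [← hcent u hu d]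
    simpa using hu
  obtain ⟨L, hL⟩ := Subgroup.exists_right_complement'_of_coprime hcop
  refine ⟨L, ⟨fun l hl d => ?_⟩, hL.symm.index_eq_card.symm⟩
  obtain ⟨⟨⟨u, hu⟩, ⟨l0, hl0⟩⟩, hx, -⟩ := (Subgroup.isComplement_iff_existsUnique.mp hL) d
  simp only at hx
  have : d * l * d⁻¹ = l0 * l * l0⁻¹ := by
    rw [← hx]
    calc u * l0 * l * (u * l0)⁻¹ = u * (l0 * l * l0⁻¹) * u⁻¹ := by group
      _ = (l0 * l * l0⁻¹) * u * u⁻¹ := by rw [hcent u hu]
      _ = l0 * l * l0⁻¹ := by group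
  rw [this]
  exact L.mul_mem (L.mul_mem hl0 hl) (L.inv_mem hl0)


/-- an element outside a normal subgroup whose `p`-th power lies inside: `p` divides the index -/
theorem dvd_index_of_pow_mem {D : Subgroup Q} [D.Normal] (p : ℕ) [hp : Fact p.Prime] (x : Q)
    (hx : x ∉ D) (hxp : x ^ p ∈ D) : p ∣ D.index := by
  have h1 : orderOf (QuotientGroup.mk' D x) = p := by
    apply orderOf_eq_prime
    · rw [← map_pow]
      exact (QuotientGroup.eq_one_iff _).mpr hxp
    · intro h
      exact hx ((QuotientGroup.eq_one_iff x).mp h)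
  rw [Subgroup.index_eq_card, ← h1]
  exact orderOf_dvd_natCard _

theorem FourData.a0_notMem (F : FourData U a0 a3 u1 u2) :
    a0 ∉ Subgroup.centralizer (U : Set Q) := by
  rw [F.mem_centralizer_iff]
  rintro ⟨-, h2⟩
  apply F.ne32
  rw [← F.a02, h2]
  group

theorem FourData.u_conj1 (F : FourData U a0 a3 u1 u2) : (a0 * a3) * u1 * (a0 * a3)⁻¹ = u2 := by
  calc (a0 * a3) * u1 * (a0 * a3)⁻¹ = a0 * (a3 * u1 * a3⁻¹) * a0⁻¹ := by group
    _ = a0 * (u1 * u2) * a0⁻¹ := by rw [F.a31]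
    _ = (a0 * u1 * a0⁻¹) * (a0 * u2 * a0⁻¹) := by group
    _ = u1 * (u1 * u2) := by rw [F.a01, F.a02]
    _ = u2 := by rw [← mul_assoc, F.sq1, one_mul]

theorem FourData.u_conj2 (F : FourData U a0 a3 u1 u2) : (a0 * a3) * u2 * (a0 * a3)⁻¹ = u1 * u2 := by
  calc (a0 * a3) * u2 * (a0 * a3)⁻¹ = a0 * (a3 * u2 * a3⁻¹) * a0⁻¹ := by group
    _ = a0 * u2 * a0⁻¹ := by rw [F.a32]
    _ = u1 * u2 := F.a02

theorem FourData.u_notMem (F : FourData U a0 a3 u1 u2) :
    a0 * a3 ∉ Subgroup.centralizer (U : Set Q) := by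
  rw [F.mem_centralizer_iff]
  rintro ⟨h1, -⟩
  apply F.ne12
  rw [← F.u_conj1, h1]
  group

theorem FourData.u_cube_mem (F : FourData U a0 a3 u1 u2) :
    (a0 * a3) ^ 3 ∈ Subgroup.centralizer (U : Set Q) := by
  obtain ⟨u, hu⟩ : ∃ u, u = a0 * a3 := ⟨_, rfl⟩
  have c1 : u * u1 * u⁻¹ = u2 := by rw [hu]; exact F.u_conj1
  have c2 : u * u2 * u⁻¹ = u1 * u2 := by rw [hu]; exact F.u_conj2
  have c3 : u * (u1 * u2) * u⁻¹ = u1 := by
    calc u * (u1 * u2) * u⁻¹ = (u * u1 * u⁻¹) * (u * u2 * u⁻¹) := by group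
      _ = u2 * (u1 * u2) := by rw [c1, c2]
      _ = (u1 * u2) * u2 := by rw [← mul_assoc, ← F.comm]
      _ = u1 := by rw [mul_assoc, F.sq2, mul_one]
  have e3 : u ^ 3 = u * u * u := by rw [pow_succ, pow_two]
  rw [← hu, e3, F.mem_centralizer_iff]
  constructor
  · calc u * u * u * u1 = u * (u * (u * u1 * u⁻¹) * u⁻¹) * u⁻¹ * (u * u * u) := by group
      _ = u1 * (u * u * u) := by rw [c1, c2, c3]
  · calc u * u * u * u2 = u * (u * (u * u2 * u⁻¹) * u⁻¹) * u⁻¹ * (u * u * u) := by group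
      _ = u2 * (u * u * u) := by rw [c2, c3, c1]

theorem FourData.index_centralizer [Finite Q] [U.Normal] (F : FourData U a0 a3 u1 u2) :
    (Subgroup.centralizer (U : Set Q)).index = 6 := by
  have h6 : (Subgroup.centralizer (U : Set Q)).index ∣ 6 := index_centralizer_dvd_six U F.card
  have : Fact (Nat.Prime 2) := ⟨Nat.prime_two⟩
  have : Fact (Nat.Prime 3) := ⟨Nat.prime_three⟩
  have h2 : 2 ∣ (Subgroup.centralizer (U : Set Q)).index :=
    dvd_index_of_pow_mem 2 a0 F.a0_notMem (by rw [pow_two, F.sq0]; exact Subgroup.one_mem _)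
  have h3 : 3 ∣ (Subgroup.centralizer (U : Set Q)).index :=
    dvd_index_of_pow_mem 3 (a0 * a3) F.u_notMem F.u_cube_mem
  have : 2 * 3 ∣ (Subgroup.centralizer (U : Set Q)).index :=
    Nat.Coprime.mul_dvd_of_dvd_of_dvd (by norm_num) h2 h3
  exact Nat.dvd_antisymm h6 this

/-- no element of order `6` -/
theorem FourData.no_six [hUn : U.Normal] (F : FourData U a0 a3 u1 u2)
    (hC : Subgroup.centralizer (U : Set Q) ≤ U) (y : Q) : orderOf y ≠ 6 := by
  intro hy
  have hnot4 : ¬ y ^ 4 = 1 := by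
    intro h
    have := orderOf_dvd_of_pow_eq_one h
    rw [hy] at this
    omega
  have hnot3 : ¬ y ^ 3 = 1 := by
    intro h
    have := orderOf_dvd_of_pow_eq_one h
    rw [hy] at this
    omega
  obtain ⟨w1, hw1⟩ : ∃ w1, w1 = y * u1 * y⁻¹ := ⟨_, rfl⟩
  obtain ⟨w2, hw2⟩ : ∃ w2, w2 = y * u2 * y⁻¹ := ⟨_, rfl⟩
  have hw3 : y * (u1 * u2) * y⁻¹ = w1 * w2 := by rw [hw1, hw2]; group
  have hw1U : w1 ∈ U := by rw [hw1]; exact hUn.conj_mem u1 F.m1 y
  have hw2U : w2 ∈ U := by rw [hw2]; exact hUn.conj_mem u2 F.m2 y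
  have hw1ne : w1 ≠ 1 := by
    intro h
    apply F.ne1
    have : u1 = y⁻¹ * w1 * y := by rw [hw1]; group
    rw [this, h]; group
  have hw2ne : w2 ≠ 1 := by
    intro h
    apply F.ne2
    have : u2 = y⁻¹ * w2 * y := by rw [hw2]; group
    rw [this, h]; group
  have hw12 : w1 ≠ w2 := by
    intro h
    apply F.ne12
    have e1 : u1 = y⁻¹ * w1 * y := by rw [hw1]; group
    have e2 : u2 = y⁻¹ * w2 * y := by rw [hw2]; group
    rw [e1, e2, h]
  -- the square centralises `U`
  have key2 : y * w1 * y⁻¹ = u1 → y * w2 * y⁻¹ = u2 → False := by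
    intro h1 h2
    have e2 : y ^ 2 = y * y := pow_two y
    have hmem : y ^ 2 ∈ Subgroup.centralizer (U : Set Q) := by
      rw [e2, F.mem_centralizer_iff]
      constructor
      · calc y * y * u1 = (y * (y * u1 * y⁻¹) * y⁻¹) * (y * y) := by group
          _ = u1 * (y * y) := by rw [← hw1, h1]
      · calc y * y * u2 = (y * (y * u2 * y⁻¹) * y⁻¹) * (y * y) := by group
          _ = u2 * (y * y) := by rw [← hw2, h2]
    have := F.sq _ (hC hmem)
    apply hnot4
    calc y ^ 4 = y ^ 2 * y ^ 2 := by rw [← pow_add]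
      _ = 1 := this
  -- the cube centralises `U` and `y` has no fixed point
  have key3 : y * (y * w1 * y⁻¹) * y⁻¹ = u1 → y * (y * w2 * y⁻¹) * y⁻¹ = u2 →
      w1 ≠ u1 → w2 ≠ u2 → w1 * w2 ≠ u1 * u2 → False := by
    intro h1 h2 n1 n2 n3
    have e3 : y ^ 3 = y * y * y := by rw [pow_succ, pow_two]
    have hmem : y ^ 3 ∈ Subgroup.centralizer (U : Set Q) := by
      rw [e3, F.mem_centralizer_iff]
      constructor
      · calc y * y * y * u1 = (y * (y * (y * u1 * y⁻¹) * y⁻¹) * y⁻¹) * (y * y * y) := by group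
          _ = u1 * (y * y * y) := by rw [← hw1, h1]
      · calc y * y * y * u2 = (y * (y * (y * u2 * y⁻¹) * y⁻¹) * y⁻¹) * (y * y * y) := by group
          _ = u2 * (y * y * y) := by rw [← hw2, h2]
    rcases F.mem _ (hC hmem) with h | h | h | h
    · exact hnot3 h
    · apply n1
      rw [hw1, ← h, e3]
      group
    · apply n2
      rw [hw2, ← h, e3]
      group
    · apply n3
      rw [← hw3, ← h, e3]
      group
  rcases F.mem w1 hw1U with h | h | h | h
  · exact hw1ne h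
  · -- `w1 = u1`
    rcases F.mem w2 hw2U with h' | h' | h' | h'
    · exact hw2ne h'
    · exact hw12 (h.trans h'.symm)
    · apply key2
      · rw [h, ← hw1, h]
      · rw [h', ← hw2, h']
    · apply key2
      · rw [h, ← hw1, h]
      · rw [h', hw3, h, h', ← mul_assoc, F.sq1, one_mul]
  · -- `w1 = u2`
    rcases F.mem w2 hw2U with h' | h' | h' | h'
    · exact hw2ne h'
    · apply key2
      · rw [h, ← hw2, h']
      · rw [h', ← hw1, h]
    · exact hw12 (h.trans h'.symm)
    · have e : u2 * (u1 * u2) = u1 := by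
        rw [← mul_assoc, ← F.comm, mul_assoc, F.sq2, mul_one]
      apply key3
      · rw [h, ← hw2, h', hw3, h, h', e]
      · rw [h', hw3, h, h', e, ← hw1, h]
      · rw [h]; exact fun hh => F.ne12 hh.symm
      · rw [h']; exact F.ne32
      · rw [h, h', e]; exact fun hh => F.ne31 hh.symm
  · -- `w1 = u1 u2`
    rcases F.mem w2 hw2U with h' | h' | h' | h'
    · exact hw2ne h'
    · have e : u1 * u2 * u1 = u2 := by
        rw [F.comm, mul_assoc, F.sq1, mul_one]
      apply key3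
      · rw [h, hw3, h, h', e, ← hw2, h']
      · rw [h', ← hw1, h, hw3, h, h', e]
      · rw [h]; exact F.ne31
      · rw [h']; exact F.ne12
      · rw [h, h', e]; exact fun hh => F.ne32 hh.symm
    · apply key2
      · rw [h, hw3, h, h', mul_assoc, F.sq2, mul_one]
      · rw [h', ← hw2, h']
    · exact hw12 (h.trans h'.symm)

/-- **Abstract core of ID-4.**  A finite group with trivial odd core, order `8 n` (`n` odd) and a normal
four-group with the two transvections induced is `S_4`. -/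
theorem perm_four_of_fourData [Finite Q] [hUn : U.Normal] (F : FourData U a0 a3 u1 u2)
    (hO : Cfsg.pPrimeCore 2 Q = ⊥) {n : ℕ} (hn : Odd n) (hQ : Nat.card Q = 8 * n) :
    Nonempty (Q ≃* Equiv.Perm (Fin 4)) := by
  classical
  obtain ⟨D, hD⟩ : ∃ D : Subgroup Q, D = Subgroup.centralizer (U : Set Q) := ⟨_, rfl⟩
  have hDn : D.Normal := by rw [hD]; exact Subgroup.normal_centralizer
  have hUD : U ≤ D := by rw [hD]; exact F.le_centralizer
  have hU4 : Nat.card U = 4 := F.card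
  have hidx : D.index = 6 := by rw [hD]; exact F.index_centralizer
  have hcardD : Nat.card D * 6 = 8 * n := by rw [← hidx, Subgroup.card_mul_index, hQ]
  obtain ⟨k, hk⟩ := hn
  obtain ⟨m, hm⟩ : ∃ m, Nat.card D = 4 * m := ⟨Nat.card D / 4, by omega⟩
  have hmodd : Odd m := by rw [Nat.odd_iff]; omega
  -- the normal complement of `U` in `D`
  obtain ⟨V, hV⟩ : ∃ V : Subgroup D, V = U.subgroupOf D := ⟨_, rfl⟩
  have hVcard : Nat.card V = 4 := by
    rw [hV, Nat.card_congr (Subgroup.subgroupOfEquivOfLe hUD).toEquiv, hU4]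
  have hVidx : V.index = m := by
    have := Subgroup.card_mul_index V
    rw [hVcard, hm] at this
    omega
  have hVcent : ∀ u ∈ V, ∀ d : D, u * d = d * u := by
    intro u hu d
    apply Subtype.ext
    have hd : (d : Q) ∈ Subgroup.centralizer (U : Set Q) := hD ▸ d.2
    rw [Subgroup.mem_centralizer_iff] at hd
    rw [hV] at hu
    exact hd u.1 (Subgroup.mem_subgroupOf.mp hu)
  have hcop : Nat.Coprime (Nat.card V) V.index := by
    rw [hVcard, hVidx]
    have : Nat.Coprime (2 ^ 2) m := Nat.Coprime.pow_left 2 hmodd.coprime_two_left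
    simpa using this
  obtain ⟨L', hL'n, hL'card⟩ := exists_normal_complement_of_central V hVcent hcop
  obtain ⟨L, hL⟩ : ∃ L : Subgroup Q, L = L'.map D.subtype := ⟨_, rfl⟩
  have hLD : L ≤ D := by rw [hL]; exact Subgroup.map_subtype_le L'
  have hLsub : L.subgroupOf D = L' := by
    rw [hL]
    exact Subgroup.comap_map_eq_self_of_injective D.subtype_injective L'
  have hLcard : Nat.card L = m := by
    rw [hL, Subgroup.card_map_of_injective D.subtype_injective, hL'card, hVidx]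
  have hLO : L ≤ Cfsg.pPrimeCore 2 Q :=
    Cfsg.Agent.Lib.Helper30_Subnormal.le_pPrimeCore_of_normal_in_subnormal 2 hDn.isSubnormal L hLD
      (by rw [hLsub]; exact hL'n) (by rw [hLcard]; exact hmodd.coprime_two_right)
  rw [hO] at hLO
  have hL1 : Nat.card L = 1 := by
    rw [le_bot_iff.mp hLO]
    exact Subgroup.card_bot
  have hm1 : m = 1 := by rw [← hLcard, hL1]
  have hDU : U = D := Subgroup.eq_of_le_of_card_ge hUD (by rw [hm, hm1, hU4])
  have hQ24 : Nat.card Q = 24 := by omega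
  have hC : Subgroup.centralizer (U : Set Q) ≤ U := by rw [← hD, ← hDU]
  exact Cfsg.Agent.Lib.Helper33_Order168.nonempty_mulEquiv_perm_four hQ24 U hU4 hC (F.no_six hC)

end Abs

section Tutte

variable {G : Type*} [Group G] {H : Subgroup G} {g x0 : G}

/-- the elements of `X[1,1]` -/
theorem mem_XX_one_one (h : TSys H g x0 4) {d : G} (hd : d ∈ XX g x0 1 1) :
    d = 1 ∨ d = xs g x0 1 := by
  rcases h.mem_or_mul_mem_right (i := 1) (j := 1) le_rfl (by norm_num) hd with h1 | h1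
  · rw [XX_eq_bot (by norm_num), Subgroup.mem_bot] at h1
    exact Or.inl h1
  · rw [XX_eq_bot (by norm_num), Subgroup.mem_bot] at h1
    right
    rw [eq_inv_of_mul_eq_one_left h1, h.xs_inv]

/-- the elements of `X[1,2]` -/
theorem mem_XX_one_two (h : TSys H g x0 4) {c : G} (hc : c ∈ XX g x0 1 2) :
    c = 1 ∨ c = xs g x0 1 ∨ c = xs g x0 2 ∨ c = xs g x0 1 * xs g x0 2 := by
  have e21 : (2 : ℤ) - 1 = 1 := by norm_num
  rcases h.mem_or_mul_mem_right (i := 1) (j := 2) (by norm_num) (by norm_num) hc with h1 | h1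
  · rw [e21] at h1
    rcases mem_XX_one_one h h1 with h2 | h2
    · exact Or.inl h2
    · exact Or.inr (Or.inl h2)
  · rw [e21] at h1
    rcases mem_XX_one_one h h1 with h2 | h2
    · right; right; left
      rw [eq_inv_of_mul_eq_one_left h2, h.xs_inv]
    · right; right; right
      rw [eq_mul_inv_of_mul_eq h2, h.xs_inv]

/-- ID-4. -/
theorem iso_four [Finite G] (h : TSys H g x0 4) (hc : ⁅xs g x0 0, xs g x0 2⁆ = xs g x0 1) (n : ℕ) (hodd : Odd n)
    (M : Subgroup G) (hKM : XX g x0 1 2 ≤ M) (hMH : M ≤ H) (hM2 : M.relIndex H = 2)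
    (hMn : (XX g x0 1 2).relIndex M = n) (hKn : ∀ u ∈ H, cj u (XX g x0 1 2) = XX g x0 1 2) :
    Nonempty (↥H ⧸ Cfsg.oddCore ↥H ≃* Equiv.Perm (Fin 4)) := by
  classical
  -- relations in `G`
  have s0 := h.xs_sq 0
  have s1 := h.xs_sq 1
  have s2 := h.xs_sq 2
  have i0 := h.xs_inv 0
  have i1 := h.xs_inv 1
  have i2 := h.xs_inv 2
  have i3 := h.xs_inv 3
  have c01 : xs g x0 0 * xs g x0 1 = xs g x0 1 * xs g x0 0 := by
    have hcm := h.comm_mem (i := 0) (j := 1) (by norm_num) (by norm_num)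
    rw [XX_eq_bot (by norm_num), Subgroup.mem_bot] at hcm
    exact commutatorElement_eq_one_iff_mul_comm.mp hcm
  have c12 : xs g x0 1 * xs g x0 2 = xs g x0 2 * xs g x0 1 := by
    have := commute_shift g x0 0 1 1 c01
    norm_num at this
    exact this
  have c23 : xs g x0 2 * xs g x0 3 = xs g x0 3 * xs g x0 2 := by
    have := commute_shift g x0 0 1 2 c01
    norm_num at this
    exact this
  have r01 : xs g x0 0 * xs g x0 1 * (xs g x0 0)⁻¹ = xs g x0 1 := by
    rw [c01]; group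
  have r02 : xs g x0 0 * xs g x0 2 * (xs g x0 0)⁻¹ = xs g x0 1 * xs g x0 2 := by
    rw [commutatorElement_def] at hc
    calc xs g x0 0 * xs g x0 2 * (xs g x0 0)⁻¹
        = (xs g x0 0 * xs g x0 2 * (xs g x0 0)⁻¹ * (xs g x0 2)⁻¹) * xs g x0 2 := by group
      _ = xs g x0 1 * xs g x0 2 := by rw [hc]
  have hc' : xs g x0 1 * xs g x0 3 * (xs g x0 1)⁻¹ * (xs g x0 3)⁻¹ = xs g x0 2 := by
    have e := comm_shift g x0 0 2 1
    rw [hc, commutatorElement_def] at e
    norm_num at e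
    rw [e]
    have := xs_conj' g x0 1
    norm_num at this
    exact this
  have r31 : xs g x0 3 * xs g x0 1 * (xs g x0 3)⁻¹ = xs g x0 1 * xs g x0 2 := by
    have e : xs g x0 3 * (xs g x0 1)⁻¹ * (xs g x0 3)⁻¹
        = (xs g x0 1)⁻¹ * (xs g x0 1 * xs g x0 3 * (xs g x0 1)⁻¹ * (xs g x0 3)⁻¹) := by group
    rw [hc', i1] at e
    exact e
  have r32 : xs g x0 3 * xs g x0 2 * (xs g x0 3)⁻¹ = xs g x0 2 := by
    rw [← c23]; group
  have n12 : xs g x0 1 ≠ xs g x0 2 := by
    intro he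
    apply h.xs_notMem_right (i := 1) (j := 2) (by norm_num) (by norm_num)
    rw [← he]
    exact xs_mem_XX le_rfl (by norm_num)
  -- membership in `H`
  have hxH : ∀ l : ℤ, 0 ≤ l → l ≤ 3 → xs g x0 l ∈ H := by
    intro l h0 h3
    exact h.XX_le_H (i := 0) (j := 3) le_rfl (by norm_num) (xs_mem_XX h0 h3)
  have hKH : XX g x0 1 2 ≤ H := hKM.trans hMH
  -- orders
  have hK4 : Nat.card (XX g x0 1 2) = 4 := by
    have := h.card_XX (i := 1) (j := 2) (by norm_num) (by norm_num)
    rw [this]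
    rfl
  have hHcard : Nat.card H = 8 * n := by
    have e1 := card_mul_relIndex' hKM
    have e2 := card_mul_relIndex' hMH
    rw [hK4, hMn] at e1
    rw [hM2, ← e1] at e2
    omega
  -- the quotient
  obtain ⟨O, hOdef⟩ : ∃ O : Subgroup ↥H, O = Cfsg.oddCore ↥H := ⟨_, rfl⟩
  have hOcop : (Nat.card O).Coprime 2 := by
    rw [hOdef]
    exact Cfsg.Agent.Lib.Helper1_Cores.pPrimeCore_card_coprime 2
  -- the normal four-group
  obtain ⟨Kh, hKh⟩ : ∃ Kh : Subgroup ↥H, Kh = (XX g x0 1 2).subgroupOf H := ⟨_, rfl⟩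
  have hKhn : Kh.Normal := by
    constructor
    intro k hk u
    rw [hKh, Subgroup.mem_subgroupOf] at hk ⊢
    have := conj_mem_cj (u := (u : G)) hk
    rw [hKn u u.2] at this
    simpa using this
  have hKhcard : Nat.card Kh = 4 := by
    rw [hKh, Nat.card_congr (Subgroup.subgroupOfEquivOfLe hKH).toEquiv, hK4]
  have hdisj : Kh ⊓ Cfsg.oddCore ↥H = ⊥ := by
    have hcop : Nat.Coprime (Nat.card Kh) (Nat.card (Cfsg.oddCore ↥H)) := by
      rw [hKhcard, ← hOdef]
      have : Nat.Coprime (2 ^ 2) (Nat.card O) := Nat.Coprime.pow_left 2 hOcop.symm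
      simpa using this
    exact (Subgroup.disjoint_of_coprime_natCard hcop).eq_bot
  have hinj : ∀ a ∈ Kh, (QuotientGroup.mk' (Cfsg.oddCore ↥H)) a = 1 → a = 1 := by
    intro a ha h1
    have h2 : a ∈ Cfsg.oddCore ↥H := (QuotientGroup.eq_one_iff a).mp h1
    have h3 : a ∈ Kh ⊓ Cfsg.oddCore ↥H := ⟨ha, h2⟩
    rw [hdisj, Subgroup.mem_bot] at h3
    exact h3
  -- the elements
  obtain ⟨y0, hy0⟩ : ∃ y : ↥H, (y : G) = xs g x0 0 := ⟨⟨_, hxH 0 le_rfl (by norm_num)⟩, rfl⟩
  obtain ⟨y1, hy1⟩ : ∃ y : ↥H, (y : G) = xs g x0 1 := ⟨⟨_, hxH 1 (by norm_num) (by norm_num)⟩, rfl⟩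
  obtain ⟨y2, hy2⟩ : ∃ y : ↥H, (y : G) = xs g x0 2 := ⟨⟨_, hxH 2 (by norm_num) (by norm_num)⟩, rfl⟩
  obtain ⟨y3, hy3⟩ : ∃ y : ↥H, (y : G) = xs g x0 3 := ⟨⟨_, hxH 3 (by norm_num) le_rfl⟩, rfl⟩
  have hy1K : y1 ∈ Kh := by
    rw [hKh, Subgroup.mem_subgroupOf, hy1]
    exact xs_mem_XX le_rfl (by norm_num)
  have hy2K : y2 ∈ Kh := by
    rw [hKh, Subgroup.mem_subgroupOf, hy2]
    exact xs_mem_XX (by norm_num) le_rfl
  have hy1ne : y1 ≠ 1 := by
    intro he
    apply h.xs_ne_one 1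
    rw [← hy1, he]; rfl
  have hy2ne : y2 ≠ 1 := by
    intro he
    apply h.xs_ne_one 2
    rw [← hy2, he]; rfl
  have hy12 : y1 ≠ y2 := by
    intro he
    apply n12
    rw [← hy1, ← hy2, he]
  have hmemK : ∀ k ∈ Kh, k = 1 ∨ k = y1 ∨ k = y2 ∨ k = y1 * y2 := by
    intro k hk
    rw [hKh, Subgroup.mem_subgroupOf] at hk
    rcases mem_XX_one_two h hk with h1 | h1 | h1 | h1
    · left; exact Subtype.ext h1
    · right; left; apply Subtype.ext; rw [h1, hy1]
    · right; right; left; apply Subtype.ext; rw [h1, hy2]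
    · right; right; right; apply Subtype.ext; rw [h1, Subgroup.coe_mul, hy1, hy2]
  have q_s0 : y0 * y0 = 1 := by
    apply Subtype.ext; rw [Subgroup.coe_mul, hy0, s0]; rfl
  have q_s1 : y1 * y1 = 1 := by
    apply Subtype.ext; rw [Subgroup.coe_mul, hy1, s1]; rfl
  have q_s2 : y2 * y2 = 1 := by
    apply Subtype.ext; rw [Subgroup.coe_mul, hy2, s2]; rfl
  have q_c12 : y1 * y2 = y2 * y1 := by
    apply Subtype.ext; rw [Subgroup.coe_mul, Subgroup.coe_mul, hy1, hy2, c12]
  have q_r01 : y0 * y1 * y0⁻¹ = y1 := by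
    apply Subtype.ext
    rw [Subgroup.coe_mul, Subgroup.coe_mul, Subgroup.coe_inv, hy0, hy1, r01]
  have q_r02 : y0 * y2 * y0⁻¹ = y1 * y2 := by
    apply Subtype.ext
    rw [Subgroup.coe_mul, Subgroup.coe_mul, Subgroup.coe_mul, Subgroup.coe_inv, hy0, hy1, hy2, r02]
  have q_r31 : y3 * y1 * y3⁻¹ = y1 * y2 := by
    apply Subtype.ext
    rw [Subgroup.coe_mul, Subgroup.coe_mul, Subgroup.coe_mul, Subgroup.coe_inv, hy3, hy1, hy2, r31]
  have q_r32 : y3 * y2 * y3⁻¹ = y2 := by
    apply Subtype.ext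
    rw [Subgroup.coe_mul, Subgroup.coe_mul, Subgroup.coe_inv, hy3, hy2, r32]
  -- the data in the quotient
  obtain ⟨π, hπ⟩ : ∃ π : ↥H →* ↥H ⧸ Cfsg.oddCore ↥H, π = QuotientGroup.mk' (Cfsg.oddCore ↥H) := ⟨_, rfl⟩
  have hπsurj : Function.Surjective π := by rw [hπ]; exact QuotientGroup.mk'_surjective _
  have hπinj : ∀ a ∈ Kh, π a = 1 → a = 1 := by rw [hπ]; exact hinj
  have hUn : (Kh.map π).Normal := hKhn.map π hπsurj
  have F : FourData (Kh.map π) (π y0) (π y3) (π y1) (π y2) := by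
    refine ⟨?_, Subgroup.mem_map_of_mem π hy1K, Subgroup.mem_map_of_mem π hy2K, ?_, ?_, ?_, ?_, ?_, ?_,
      ?_, ?_, ?_, ?_, ?_⟩
    · rintro v ⟨k, hk, rfl⟩
      rcases hmemK k hk with h1 | h1 | h1 | h1
      · left; rw [h1, map_one]
      · right; left; rw [h1]
      · right; right; left; rw [h1]
      · right; right; right; rw [h1, map_mul]
    · intro he
      exact hy1ne (hπinj y1 hy1K he)
    · intro he
      exact hy2ne (hπinj y2 hy2K he)
    · intro he
      apply hy12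
      have h1 : π (y1 * y2⁻¹) = 1 := by rw [map_mul, map_inv, he, mul_inv_cancel]
      have h2 := hπinj _ (Kh.mul_mem hy1K (Kh.inv_mem hy2K)) h1
      exact mul_inv_eq_one.mp h2
    · rw [← map_mul, q_s1, map_one]
    · rw [← map_mul, q_s2, map_one]
    · rw [← map_mul, ← map_mul, q_c12]
    · rw [← map_inv, ← map_mul, ← map_mul, q_r01]
    · rw [← map_inv, ← map_mul, ← map_mul, ← map_mul, q_r02]
    · rw [← map_inv, ← map_mul, ← map_mul, ← map_mul, q_r31]
    · rw [← map_inv, ← map_mul, ← map_mul, q_r32]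
    · rw [← map_mul, q_s0, map_one]
  -- the order of the quotient
  have hcardQ := Subgroup.card_eq_card_quotient_mul_card_subgroup (Cfsg.oddCore ↥H)
  rw [hHcard, ← hOdef] at hcardQ
  have hOdvd : Nat.card O ∣ n := by
    have h8 : Nat.Coprime (Nat.card O) 8 := by
      have : Nat.Coprime (Nat.card O) (2 ^ 3) := Nat.Coprime.pow_right 3 hOcop
      simpa using this
    apply Nat.Coprime.dvd_of_dvd_mul_left h8
    rw [hcardQ]
    exact Dvd.intro_left _ rfl
  obtain ⟨n', hn'⟩ := hOdvd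
  have hOpos : 0 < Nat.card O := Nat.card_pos
  have hQcard : Nat.card (↥H ⧸ Cfsg.oddCore ↥H) = 8 * n' := by
    rw [hOdef] at hcardQ hn' hOpos
    rw [hn'] at hcardQ
    have : Nat.card (↥H ⧸ Cfsg.oddCore ↥H) * Nat.card (Cfsg.oddCore ↥H)
        = (8 * n') * Nat.card (Cfsg.oddCore ↥H) := by rw [← hcardQ]; ring
    exact Nat.eq_of_mul_eq_mul_right hOpos this
  have hn'odd : Odd n' := Odd.of_dvd_nat hodd ⟨Nat.card O, by rw [hn', mul_comm]⟩
  have hO : Cfsg.pPrimeCore 2 (↥H ⧸ Cfsg.oddCore ↥H) = ⊥ :=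
    Cfsg.Agent.Lib.Helper30_Subnormal.pPrimeCore_quotient_eq_bot 2
  exact perm_four_of_fourData F hO hn'odd hQcard

end Tutte

end Cfsg.Agent.Lib.Helper65_Tutte_ID4
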