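import Mathlib
import Cfsg.Agent.Lib.Helper54_TwoGroups
import Cfsg.Agent.Lib.Helper4_DihedralIso
import Cfsg.Agent.S5112
import Cfsg.Agent.S0228

/-!
Groups `H` with a normal Sylow 2-subgroup `S` and cyclic quotient `H ⧸ S`:
* if `S` is cyclic then `H` is cyclic;
* if `S` embeds in a dihedral 2-group and elementary four-subgroups of `S` are self-centralizing in
  `H`, then `H` is cyclic, a dihedral 2-group or `A₄`.
-/

set_option autoImplicit false

namespace Cfsg.Agent.Lib.Helper65_TwoByCyclic

section sylow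

variable {H : Type*} [Group H] [Finite H] {p : ℕ} [Fact p.Prime]

/-- a normal Sylow subgroup contains every `p`-subgroup -/
theorem le_normal_sylow (S : Sylow p H) [(S : Subgroup H).Normal] (Q : Subgroup H)
    (hQ : IsPGroup p Q) : Q ≤ S := by
  obtain ⟨S', hS'⟩ := hQ.exists_le_sylow
  obtain ⟨g, hg⟩ := MulAction.exists_smul_eq H S S'
  rw [Sylow.smul_eq_of_normal] at hg
  rw [hg]; exact hS'

theorem mem_normal_sylow (S : Sylow p H) [(S : Subgroup H).Normal] (k : H) (j : ℕ)
    (hk : k ^ (p ^ j) = 1) : k ∈ (S : Subgroup H) := by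
  apply le_normal_sylow S (Subgroup.zpowers k) _ (Subgroup.mem_zpowers k)
  intro x
  obtain ⟨x, hx⟩ := x
  obtain ⟨i, rfl⟩ := Subgroup.mem_zpowers_iff.mp hx
  refine ⟨j, ?_⟩
  apply Subtype.ext
  simp only [Subgroup.coe_pow, Subgroup.coe_one]
  rw [← zpow_natCast, ← zpow_mul, mul_comm, zpow_mul, zpow_natCast, hk, one_zpow]

end sylow

section cyclic

variable {H : Type*} [Group H] [Finite H]

/-- the conjugation action on a normal cyclic Sylow 2-subgroup is trivial -/
theorem central_of_cyclic_sylow (S : Sylow 2 H) [hSn : (S : Subgroup H).Normal]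
    (hS : IsCyclic (S : Subgroup H)) : (S : Subgroup H) ≤ Subgroup.center H := by
  classical
  -- MulAut S is a 2-group
  have hS2 : IsPGroup 2 (S : Subgroup H) := S.isPGroup'
  obtain ⟨k, hk⟩ := IsPGroup.iff_card.mp hS2
  have hA : ∃ j, Nat.card (MulAut (S : Subgroup H)) = 2 ^ j := by
    rw [IsCyclic.card_mulAut, hk]
    rcases Nat.eq_zero_or_pos k with h0 | h0
    · exact ⟨0, by rw [h0]; simp⟩
    · exact ⟨k - 1, by rw [Nat.totient_prime_pow Nat.prime_two h0]; simp⟩
  obtain ⟨j, hj⟩ := hA
  have hodd : ¬ 2 ∣ (S : Subgroup H).index := S.not_dvd_index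
  intro s hs
  rw [Subgroup.mem_center_iff]
  intro h
  -- the automorphism induced by h
  set α := MulAut.conjNormal (H := (S : Subgroup H)) h with hα
  have h1 : α ^ (2 ^ j) = 1 := by
    rw [← hj]; exact pow_card_eq_one'
  have h2 : α ^ (S : Subgroup H).index = 1 := by
    rw [hα, ← map_pow]
    have hmem : h ^ (S : Subgroup H).index ∈ (S : Subgroup H) := by
      have := Subgroup.pow_index_mem (S : Subgroup H) h
      exact this
    -- conjugation by an element of the abelian group S is trivial on S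
    ext x
    rw [MulAut.conjNormal_apply, MulAut.one_apply]
    have hcomm : (h ^ (S : Subgroup H).index) * (x : H) = (x : H) * (h ^ (S : Subgroup H).index) := by
      have hc : ∀ a b : (S : Subgroup H), a * b = b * a := by
        have := hS
        intro a b
        exact (IsCyclic.commGroup (α := (S : Subgroup H))).mul_comm a b
      have := hc ⟨_, hmem⟩ x
      exact congrArg (fun y : (S : Subgroup H) => (y : H)) this
    rw [hcomm, mul_inv_cancel_right]
  have h3 : α = 1 := by
    have hd1 : orderOf α ∣ 2 ^ j := orderOf_dvd_of_pow_eq_one h1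
    have hd2 : orderOf α ∣ (S : Subgroup H).index := orderOf_dvd_of_pow_eq_one h2
    have hcop : Nat.Coprime (2 ^ j) (S : Subgroup H).index := by
      apply Nat.Coprime.pow_left
      rw [Nat.Prime.coprime_iff_not_dvd Nat.prime_two]
      exact hodd
    have : orderOf α = 1 := Nat.eq_one_of_dvd_coprimes hcop hd1 hd2
    exact orderOf_eq_one_iff.mp this
  have h4 := congrArg (fun β : MulAut (S : Subgroup H) => ((β ⟨s, hs⟩ : (S : Subgroup H)) : H)) h3
  simp only [hα, MulAut.conjNormal_apply, MulAut.one_apply] at h4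
  -- h * s * h⁻¹ = s
  calc h * s = (h * s * h⁻¹) * h := by group
    _ = s * h := by rw [h4]

/-- normal cyclic Sylow 2-subgroup with cyclic quotient: the group is cyclic -/
theorem main_cyclic (S : Sylow 2 H) [hSn : (S : Subgroup H).Normal]
    (hS : IsCyclic (S : Subgroup H)) (hq : IsCyclic (H ⧸ (S : Subgroup H))) : IsCyclic H := by
  classical
  have hcen := central_of_cyclic_sylow S hS
  -- H is commutative
  have hcomm : ∀ a b : H, a * b = b * a := by
    intro a b
    have := hq
    have hmc : IsMulCommutative H :=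
      MonoidHom.isMulCommutative_of_isCyclic_of_ker_le_center (QuotientGroup.mk' (S : Subgroup H))
        (by rw [QuotientGroup.ker_mk']; exact hcen)
    exact hmc.is_comm.comm a b
  -- generator of S
  obtain ⟨s₀, hs₀⟩ := IsCyclic.exists_ofOrder_eq_natCard (α := (S : Subgroup H))
  have hs₀' : orderOf (s₀ : H) = Nat.card (S : Subgroup H) := by
    rw [← hs₀, Subgroup.orderOf_coe]
  -- generator of the quotient
  obtain ⟨q₀, hq₀⟩ := IsCyclic.exists_ofOrder_eq_natCard (α := H ⧸ (S : Subgroup H))
  obtain ⟨h, rfl⟩ := QuotientGroup.mk_surjective q₀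
  have hidx : Nat.card (H ⧸ (S : Subgroup H)) = (S : Subgroup H).index := by
    rw [Subgroup.index_eq_card]
  set m := (S : Subgroup H).index with hm
  have hdvd : m ∣ orderOf h := by
    rw [← hidx, ← hq₀]
    apply orderOf_dvd_of_pow_eq_one
    rw [← QuotientGroup.mk_pow, pow_orderOf_eq_one]
    rfl
  obtain ⟨t, ht⟩ := hdvd
  have hopos : 0 < orderOf h := orderOf_pos h
  have hmpos : 0 < m := by
    rcases Nat.eq_zero_or_pos m with h0 | h0
    · rw [h0, zero_mul] at ht; omega
    · exact h0
  have htpos : 0 < t := by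
    rcases Nat.eq_zero_or_pos t with h0 | h0
    · rw [h0, mul_zero] at ht; omega
    · exact h0
  have hord : orderOf (h ^ t) = m := by
    rw [orderOf_pow' h (by omega), ht, Nat.gcd_eq_right (Dvd.intro_left m rfl),
      Nat.mul_div_cancel _ htpos]
  have hodd : ¬ 2 ∣ m := S.not_dvd_index
  obtain ⟨k, hk⟩ := IsPGroup.iff_card.mp S.isPGroup'
  have hcop : Nat.Coprime (orderOf (s₀ : H)) (orderOf (h ^ t)) := by
    rw [hs₀', hk, hord]
    apply Nat.Coprime.pow_left
    rw [Nat.Prime.coprime_iff_not_dvd Nat.prime_two]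
    exact hodd
  have hc : Commute (s₀ : H) (h ^ t) := hcomm _ _
  have hfin : orderOf ((s₀ : H) * h ^ t) = Nat.card H := by
    rw [hc.orderOf_mul_eq_mul_orderOf_of_coprime hcop, hs₀', hord, hm]
    exact (S : Subgroup H).card_mul_index
  exact isCyclic_of_orderOf_eq_card _ hfin

end cyclic

section dihedral

open DihedralGroup

/-- the sign of an element of a dihedral group -/
def signFun (N : ℕ) : DihedralGroup N → ℤˣ
  | DihedralGroup.r _ => 1
  | DihedralGroup.sr _ => -1

/-- the sign homomorphism of a dihedral group -/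
def signHom (N : ℕ) : DihedralGroup N →* ℤˣ where
  toFun := signFun N
  map_one' := rfl
  map_mul' := by
    rintro (i | i) (j | j) <;> simp [signFun, r_mul_r, r_mul_sr, sr_mul_r, sr_mul_sr]

/-- the rotation index (junk value `0` on reflections) -/
def rotIndex (N : ℕ) : DihedralGroup N → ZMod N
  | DihedralGroup.r i => i
  | DihedralGroup.sr _ => 0

theorem signHom_eq_one_iff (N : ℕ) (x : DihedralGroup N) :
    signHom N x = 1 ↔ ∃ i, x = r i := by
  rcases x with i | i
  · constructor
    · intro _; exact ⟨i, rfl⟩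
    · intro _; rfl
  · constructor
    · intro h
      have h' : (-1 : ℤˣ) = 1 := h
      exact absurd h' (by decide)
    · rintro ⟨j, hj⟩
      exact absurd hj (by simp)

/-- subgroups of dihedral groups (abstractly: groups embedding in a dihedral group) -/
theorem dihedral_sub {S : Type*} [Group S] [Finite S] (N : ℕ) [NeZero N]
    (φ : S →* DihedralGroup N) (hφ : Function.Injective φ) :
    IsCyclic S ∨ ∃ c s : S, s * s = 1 ∧ s * c * s⁻¹ = c⁻¹ ∧ c ^ N = 1 ∧
      (∀ g : S, (∃ a : ℕ, g = c ^ a) ∨ (∃ a : ℕ, g = s * c ^ a)) ∧ (∀ a : ℕ, s ≠ c ^ a) ∧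
      Nat.card S = 2 * orderOf c := by
  classical
  set C : Subgroup S := ((signHom N).comp φ).ker with hC
  have hmem : ∀ x : S, x ∈ C ↔ ∃ i, φ x = r i := by
    intro x
    rw [hC, MonoidHom.mem_ker, MonoidHom.comp_apply, signHom_eq_one_iff]
  -- the rotation part is cyclic
  let ρ : C →* Multiplicative (ZMod N) :=
    { toFun := fun x => Multiplicative.ofAdd (rotIndex N (φ x))
      map_one' := by
        simp only [Subgroup.coe_one, map_one]
        rfl
      map_mul' := by
        intro x y
        obtain ⟨i, hi⟩ := (hmem x).mp x.2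
        obtain ⟨j, hj⟩ := (hmem y).mp y.2
        simp only [Subgroup.coe_mul, map_mul, hi, hj, r_mul_r]
        rfl }
  have hρ : Function.Injective ρ := by
    intro x y hxy
    obtain ⟨i, hi⟩ := (hmem x).mp x.2
    obtain ⟨j, hj⟩ := (hmem y).mp y.2
    have h1 : rotIndex N (φ x) = rotIndex N (φ y) := Multiplicative.ofAdd.injective hxy
    rw [hi, hj] at h1
    have h2 : i = j := h1
    apply Subtype.ext
    apply hφ
    rw [hi, hj, h2]
  have hCc : IsCyclic C := isCyclic_of_injective ρ hρ
  obtain ⟨c, hc⟩ := hCc.exists_generator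
  obtain ⟨i, hi⟩ := (hmem c).mp c.2
  by_cases hall : ∀ x : S, x ∈ C
  · left
    refine ⟨⟨(c : S), fun x => ?_⟩⟩
    have := hc ⟨x, hall x⟩
    obtain ⟨k, hk⟩ := Subgroup.mem_zpowers_iff.mp this
    refine Subgroup.mem_zpowers_iff.mpr ⟨k, ?_⟩
    have := congrArg (fun y : C => (y : S)) hk
    simpa using this
  · right
    push Not at hall
    obtain ⟨s, hs⟩ := hall
    have hsj : ∃ j, φ s = sr j := by
      rcases h : φ s with j | j
      · exact absurd ((hmem s).mpr ⟨j, h⟩) hs
      · exact ⟨j, rfl⟩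
    obtain ⟨j, hj⟩ := hsj
    have hcover : ∀ g : S, (∃ a : ℕ, g = (c : S) ^ a) ∨ (∃ a : ℕ, g = s * (c : S) ^ a) := by
      intro g
      have key : ∀ y : S, y ∈ C → ∃ a : ℕ, y = (c : S) ^ a := by
        intro y hy
        have h1 := hc ⟨y, hy⟩
        rw [← mem_powers_iff_mem_zpowers] at h1
        obtain ⟨a, ha⟩ := (Submonoid.mem_powers_iff _ _).mp h1
        refine ⟨a, ?_⟩
        have := congrArg (fun y : C => (y : S)) ha
        simpa using this.symm
      by_cases hg : g ∈ C
      · left; exact key g hg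
      · right
        have hgj : ∃ j', φ g = sr j' := by
          rcases h : φ g with j' | j'
          · exact absurd ((hmem g).mpr ⟨j', h⟩) hg
          · exact ⟨j', rfl⟩
        obtain ⟨j', hj'⟩ := hgj
        have h2 : s⁻¹ * g ∈ C := by
          rw [hmem]
          refine ⟨j' - j, ?_⟩
          rw [map_mul, map_inv, hj, hj', inv_sr, sr_mul_sr]
        obtain ⟨a, ha⟩ := key _ h2
        refine ⟨a, ?_⟩
        rw [← ha]; group
    have hne : ∀ a : ℕ, s ≠ (c : S) ^ a := by
      intro a h
      apply hs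
      rw [h]
      exact C.pow_mem c.2 a
    refine ⟨(c : S), s, ?_, ?_, ?_, hcover, hne, ?_⟩
    · apply hφ
      rw [map_mul, hj, sr_mul_self, map_one]
    · apply hφ
      rw [map_mul, map_mul, map_inv, map_inv, hj, hi, inv_sr, inv_r, sr_mul_r, sr_mul_sr]
      congr 1
      ring
    · apply hφ
      rw [map_pow, hi, r_pow, map_one, ZMod.natCast_self, mul_zero, r_zero]
    · -- cardinality
      have hidx : C.index = 2 := by
        rw [hC, Subgroup.index_ker]
        have hsurj : Function.Surjective ((signHom N).comp φ) := by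
          intro u
          rcases Int.units_eq_one_or u with h | h
          · exact ⟨1, by rw [map_one, h]⟩
          · refine ⟨s, ?_⟩
            rw [MonoidHom.comp_apply, hj, h]
            rfl
        rw [MonoidHom.range_eq_top.mpr hsurj]
        rw [Nat.card_congr (Subgroup.topEquiv (G := ℤˣ)).toEquiv]
        simp
      have hcardC : Nat.card C = orderOf (c : S) := by
        rw [Subgroup.orderOf_coe]
        exact (orderOf_eq_card_of_forall_mem_zpowers hc).symm
      rw [← C.card_mul_index, hidx, hcardC, mul_comm]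

end dihedral

section main

variable {H : Type*} [Group H]

/-- if conjugation by `x` is the trivial automorphism of the normal subgroup `S` then `x`
commutes with `S` -/
theorem commute_of_conjNormal_eq_one (S : Subgroup H) [S.Normal] (x : H)
    (hx : MulAut.conjNormal (H := S) x = 1) (k : H) (hk : k ∈ S) : x * k = k * x := by
  have h4 := congrArg (fun β : MulAut S => ((β ⟨k, hk⟩ : S) : H)) hx
  simp only [MulAut.conjNormal_apply, MulAut.one_apply] at h4
  calc x * k = (x * k * x⁻¹) * x := by group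
    _ = k * x := by rw [h4]

theorem conjNormal_eq_one_of_commute (S : Subgroup H) [S.Normal] (x : H)
    (hx : ∀ k ∈ S, x * k = k * x) : MulAut.conjNormal (H := S) x = 1 := by
  ext k
  rw [MulAut.conjNormal_apply, MulAut.one_apply, hx k k.2, mul_inv_cancel_right]

variable [Finite H]

/-- the dihedral data inside `S` -/
structure DData (S : Subgroup H) (c s : H) (m : ℕ) : Prop where
  hc : c ∈ S
  hs : s ∈ S
  hss : s * s = 1
  hsc : s * c * s⁻¹ = c⁻¹
  hord : orderOf c = 2 ^ m
  hcover : ∀ g ∈ S, (∃ a : ℕ, g = c ^ a) ∨ (∃ a : ℕ, g = s * c ^ a)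
  hne : ∀ a : ℕ, s ≠ c ^ a
  hcard : Nat.card S = 2 * 2 ^ m

omit [Finite H] in
theorem DData.conj_pow {S : Subgroup H} {c s : H} {m : ℕ} (h : DData S c s m) (a : ℕ) :
    s * c ^ a * s⁻¹ = (c ^ a)⁻¹ := by
  have : s * c ^ a * s⁻¹ = (s * c * s⁻¹) ^ a := by
    rw [_root_.conj_pow]
  rw [this, h.hsc, inv_pow]

theorem DData.refl_sq {S : Subgroup H} {c s : H} {m : ℕ} (h : DData S c s m) (a : ℕ) :
    (s * c ^ a) * (s * c ^ a) = 1 := by
  have hsinv : s⁻¹ = s := inv_eq_of_mul_eq_one_left h.hss
  have h1 := h.conj_pow a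
  rw [hsinv] at h1
  calc (s * c ^ a) * (s * c ^ a) = (s * c ^ a * s) * c ^ a := by group
    _ = (c ^ a)⁻¹ * c ^ a := by rw [h1]
    _ = 1 := by group

theorem DData.s_notMem {S : Subgroup H} {c s : H} {m : ℕ} (h : DData S c s m) :
    s ∉ Subgroup.zpowers c := by
  intro hmem
  rw [← mem_powers_iff_mem_zpowers] at hmem
  obtain ⟨a, ha⟩ := (Submonoid.mem_powers_iff _ _).mp hmem
  exact h.hne a ha.symm

/-- the four-group inside the dihedral data -/
theorem DData.exists_four {S : Subgroup H} {c s : H} {m : ℕ} (h : DData S c s m) (hm : 1 ≤ m) :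
    ∃ K : Subgroup H, K ≤ S ∧ Nat.card K = 4 ∧ (∀ k ∈ K, k ^ 2 = 1) := by
  set z := c ^ (2 ^ (m - 1)) with hz
  have hzS : z ∈ S := S.pow_mem h.hc _
  have h2m : 2 ^ (m - 1) * 2 = 2 ^ m := by
    rw [← pow_succ]; congr 1; omega
  have hzz : z * z = 1 := by
    rw [hz, ← pow_add, ← two_mul, mul_comm, h2m, ← h.hord, pow_orderOf_eq_one]
  have hz1 : z ≠ 1 := by
    intro h1
    have hd : orderOf c ∣ 2 ^ (m - 1) := orderOf_dvd_of_pow_eq_one h1
    rw [h.hord] at hd
    have hle := Nat.le_of_dvd (by positivity) hd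
    have : 2 ^ (m - 1) < 2 ^ m := Nat.pow_lt_pow_right (by norm_num) (by omega)
    omega
  have hs1 : s ≠ 1 := by
    intro h1
    exact h.hne 0 (by rw [h1, pow_zero])
  have hzinv : z⁻¹ = z := inv_eq_of_mul_eq_one_left hzz
  have hsinv : s⁻¹ = s := inv_eq_of_mul_eq_one_left h.hss
  have hcomm : s * z = z * s := by
    have h1 := h.conj_pow (2 ^ (m - 1))
    rw [← hz, hzinv] at h1
    calc s * z = (s * z * s⁻¹) * s := by group
      _ = z * s := by rw [h1]
  have hzs1 : z * s ≠ 1 := by
    intro h1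
    have : s = z⁻¹ := (eq_inv_of_mul_eq_one_right h1)
    rw [hzinv] at this
    exact h.hne _ this
  have hzs2 : (z * s) * (z * s) = 1 := by
    calc (z * s) * (z * s) = z * (s * z) * s := by group
      _ = z * (z * s) * s := by rw [hcomm]
      _ = (z * z) * (s * s) := by group
      _ = 1 := by rw [hzz, h.hss, one_mul]
  have hord2 : orderOf (z * s) = 2 := by
    apply orderOf_eq_prime
    · rw [pow_two]; exact hzs2
    · exact hzs1
  refine ⟨Subgroup.closure {z, s}, ?_, ?_, ?_⟩
  · rw [Subgroup.closure_le]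
    intro x hx
    rcases hx with rfl | rfl
    · exact hzS
    · exact h.hs
  · rw [Cfsg.Agent.Lib.Helper4_DihedralIso.card_closure hzz h.hss hz1 hs1, hord2]
  · intro k hk
    rw [Cfsg.Agent.Lib.Helper4_Dihedral.mem_closure_iff hzz h.hss] at hk
    obtain ⟨j, hj⟩ := hk
    have hpow : ((z * s) ^ j) * ((z * s) ^ j) = 1 := by
      rw [← zpow_add, ← two_mul, zpow_mul, zpow_ofNat, pow_two, hzs2, one_zpow]
    have hzc : z * (z * s) ^ j = (z * s) ^ j * z := by
      have : Commute z (z * s) := by
        show z * (z * s) = (z * s) * z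
        rw [mul_assoc, hcomm]
      exact (this.zpow_right j).eq
    rcases hj with rfl | rfl
    · rw [pow_two]; exact hpow
    · rw [pow_two]
      calc z * (z * s) ^ j * (z * (z * s) ^ j) = z * ((z * s) ^ j * z) * (z * s) ^ j := by group
        _ = z * (z * (z * s) ^ j) * (z * s) ^ j := by rw [hzc]
        _ = (z * z) * ((z * s) ^ j * (z * s) ^ j) := by group
        _ = 1 := by rw [hzz, hpow, one_mul]

/-- the automorphism group of the Sylow subgroup is a 2-group in the dihedral case of order ≥ 8 -/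
theorem DData.isPGroup_mulAut {S : Subgroup H} {c s : H} {m : ℕ} (h : DData S c s m)
    (hm : 2 ≤ m) : IsPGroup 2 (MulAut S) := by
  have hordc : orderOf (⟨c, h.hc⟩ : S) = 2 ^ m := by
    rw [← h.hord, ← Subgroup.orderOf_coe]
  refine Cfsg.Agent.S5112.isPGroup_mulAut (⟨c, h.hc⟩ : S) (⟨s, h.hs⟩ : S) m hordc (by omega)
    ?_ ?_ ?_
  · intro g
    rcases h.hcover g.1 g.2 with ⟨a, ha⟩ | ⟨a, ha⟩
    · left; exact ⟨a, Subtype.ext (by simpa using ha)⟩
    · right; exact ⟨a, Subtype.ext (by simpa using ha)⟩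
  · intro a ha
    have := congrArg (fun y : S => (y : H)) ha
    exact h.hne a (by simpa using this)
  · intro a
    rw [hordc]
    have h1 : ((⟨s, h.hs⟩ : S) * (⟨c, h.hc⟩ : S) ^ a) ^ 2 = 1 := by
      apply Subtype.ext
      simp only [Subgroup.coe_pow, Subgroup.coe_mul, Subgroup.coe_one]
      rw [pow_two]; exact h.refl_sq a
    have h2 : orderOf ((⟨s, h.hs⟩ : S) * (⟨c, h.hc⟩ : S) ^ a) ∣ 2 := orderOf_dvd_of_pow_eq_one h1
    have h3 := Nat.le_of_dvd (by norm_num) h2
    have h4 : 2 ^ 2 ≤ 2 ^ m := Nat.pow_le_pow_right (by norm_num) hm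
    omega

/-- dihedral Sylow 2-subgroup of order ≥ 8 with self-centralizing four-groups: `H` is dihedral -/
theorem DData.big (S : Sylow 2 H) [hSn : (S : Subgroup H).Normal] {c s : H} {m : ℕ}
    (h : DData (S : Subgroup H) c s m) (hm : 2 ≤ m)
    (hK : ∀ K : Subgroup H, K ≤ S → Nat.card K = 4 → (∀ k ∈ K, k ^ 2 = 1) →
        ∀ x : H, (∀ k ∈ K, x * k = k * x) → x ∈ K) :
    Nonempty (H ≃* DihedralGroup (2 ^ m)) := by
  obtain ⟨K, hKS, hK4, hK2⟩ := h.exists_four (by omega)
  have hA := h.isPGroup_mulAut hm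
  -- H is a 2-group
  have hH2 : IsPGroup 2 H := by
    intro x
    obtain ⟨j, hj⟩ := hA (MulAut.conjNormal (H := (S : Subgroup H)) x)
    rw [← map_pow] at hj
    have hcomm := commute_of_conjNormal_eq_one (S : Subgroup H) (x ^ 2 ^ j) hj
    have hxK : x ^ 2 ^ j ∈ K := hK K hKS hK4 hK2 _ (fun k hk => hcomm k (hKS hk))
    refine ⟨j + 1, ?_⟩
    rw [pow_succ, pow_mul]
    exact hK2 _ hxK
  have htop : (S : Subgroup H) = ⊤ := by
    have h1 : IsPGroup 2 (⊤ : Subgroup H) := hH2.to_subgroup ⊤
    exact (S.is_maximal' h1 le_top).symm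
  have hcard : Nat.card H = 2 * 2 ^ m := by
    rw [← h.hcard, htop, Subgroup.card_top]
  exact Cfsg.Agent.Lib.Helper54_TwoGroups.nonempty_mulEquiv_dihedralGroup (2 ^ m) c s h.hord h.hss
    h.hsc h.s_notMem hcard

theorem toPerm_injective (M : Type*) [Group M] : Function.Injective (MulAut.toPerm M) := by
  intro a b hab
  ext x
  have := congrArg (fun e : Equiv.Perm M => e x) hab
  exact this

/-- four-group Sylow 2-subgroup, self-centralizing: `H` is a four-group or `A₄` -/
theorem DData.small (S : Sylow 2 H) [hSn : (S : Subgroup H).Normal] {c s : H}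
    (h : DData (S : Subgroup H) c s 1)
    (hK : ∀ K : Subgroup H, K ≤ S → Nat.card K = 4 → (∀ k ∈ K, k ^ 2 = 1) →
        ∀ x : H, (∀ k ∈ K, x * k = k * x) → x ∈ K) :
    Nonempty (H ≃* DihedralGroup (2 ^ 1)) ∨ Nonempty (H ≃* alternatingGroup (Fin 4)) := by
  classical
  obtain ⟨K, hKS, hK4, hK2⟩ := h.exists_four le_rfl
  have hcardS : Nat.card (S : Subgroup H) = 4 := by rw [h.hcard]; norm_num
  have hKeq : K = (S : Subgroup H) := Subgroup.eq_of_le_of_card_ge hKS (by rw [hK4, hcardS])
  have hcent : ∀ x : H, (∀ k ∈ (S : Subgroup H), x * k = k * x) → x ∈ (S : Subgroup H) := by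
    intro x hx
    have := hK K hKS hK4 hK2 x (fun k hk => hx k (hKS hk))
    rw [hKeq] at this
    exact this
  set f := MulAut.conjNormal (H := (S : Subgroup H)) with hf
  have hker : f.ker ≤ (S : Subgroup H) := by
    intro x hx
    rw [MonoidHom.mem_ker] at hx
    exact hcent x (commute_of_conjNormal_eq_one (S : Subgroup H) x hx)
  have hd1 : (S : Subgroup H).index ∣ f.ker.index := Subgroup.index_dvd_of_le hker
  have hd2 : f.ker.index ∣ 24 := by
    rw [Subgroup.index_ker]
    have h1 : Nat.card f.range ∣ Nat.card (MulAut (S : Subgroup H)) :=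
      Subgroup.card_subgroup_dvd_card _
    have h2 : Nat.card (MulAut (S : Subgroup H)) ∣ Nat.card (Equiv.Perm (S : Subgroup H)) :=
      Subgroup.card_dvd_of_injective _ (toPerm_injective _)
    have h3 : Nat.card (Equiv.Perm (S : Subgroup H)) = 24 := by
      rw [Nat.card_perm, hcardS]; rfl
    rw [h3] at h2
    exact h1.trans h2
  have hd : (S : Subgroup H).index ∣ 24 := hd1.trans hd2
  have hodd : ¬ 2 ∣ (S : Subgroup H).index := S.not_dvd_index
  have hcop : Nat.Coprime (S : Subgroup H).index 8 := by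
    have : Nat.Coprime (S : Subgroup H).index 2 := by
      rw [Nat.coprime_comm, Nat.Prime.coprime_iff_not_dvd Nat.prime_two]
      exact hodd
    exact Nat.Coprime.pow_right 3 this
  have hd3 : (S : Subgroup H).index ∣ 3 := by
    have : (S : Subgroup H).index ∣ 8 * 3 := hd
    exact hcop.dvd_of_dvd_mul_left this
  rcases (Nat.dvd_prime Nat.prime_three).mp hd3 with h1 | h3
  · -- H = S
    left
    have hcard : Nat.card H = 2 * 2 ^ 1 := by
      rw [← (S : Subgroup H).card_mul_index, h1, hcardS]; norm_num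
    exact Cfsg.Agent.Lib.Helper54_TwoGroups.nonempty_mulEquiv_dihedralGroup (2 ^ 1) c s h.hord
      h.hss h.hsc h.s_notMem hcard
  · right
    have hcard : Nat.card H = 12 := by
      rw [← (S : Subgroup H).card_mul_index, h3, hcardS]
    have : Fact (Nat.Prime 3) := ⟨Nat.prime_three⟩
    obtain ⟨x, hx⟩ := exists_prime_orderOf_dvd_card' (G := H) 3 (by rw [hcard]; norm_num)
    have hP : Nat.card (Subgroup.zpowers x) = 3 := by rw [Nat.card_zpowers, hx]
    apply Cfsg.Agent.S0228.iso_of_not_normal hcard (Subgroup.zpowers x) hP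
    intro hn
    -- then x centralizes S
    have hinf : (S : Subgroup H) ⊓ Subgroup.zpowers x = ⊥ := by
      apply disjoint_iff.mp
      apply Subgroup.disjoint_of_coprime_natCard
      rw [hcardS, hP]; norm_num
    have hxS : x ∈ (S : Subgroup H) := by
      apply hcent
      intro k hk
      have hmem1 : x * k * x⁻¹ * k⁻¹ ∈ (S : Subgroup H) :=
        (S : Subgroup H).mul_mem (hSn.conj_mem k hk x) ((S : Subgroup H).inv_mem hk)
      have hmem2 : x * k * x⁻¹ * k⁻¹ ∈ Subgroup.zpowers x := by
        have h1 : x * k * x⁻¹ * k⁻¹ = x * (k * x⁻¹ * k⁻¹) := by group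
        rw [h1]
        exact (Subgroup.zpowers x).mul_mem (Subgroup.mem_zpowers x)
          (hn.conj_mem x⁻¹ ((Subgroup.zpowers x).inv_mem (Subgroup.mem_zpowers x)) k)
      have hbot : x * k * x⁻¹ * k⁻¹ ∈ (S : Subgroup H) ⊓ Subgroup.zpowers x := ⟨hmem1, hmem2⟩
      rw [hinf, Subgroup.mem_bot] at hbot
      calc x * k = (x * k * x⁻¹ * k⁻¹) * (k * x) := by group
        _ = k * x := by rw [hbot, one_mul]
    have hdvd := Subgroup.orderOf_dvd_natCard (S : Subgroup H) hxS
    rw [hx, hcardS] at hdvd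
    omega

/-- normal Sylow 2-subgroup embedding in a dihedral 2-group, cyclic quotient, elementary
four-subgroups of `S` self-centralizing: `H` is cyclic, dihedral or `A₄` -/
theorem main_dihedral (S : Sylow 2 H) [hSn : (S : Subgroup H).Normal]
    (hq : IsCyclic (H ⧸ (S : Subgroup H)))
    (n : ℕ) (φ : ↥(S : Subgroup H) →* DihedralGroup (2 ^ n)) (hφ : Function.Injective φ)
    (hK : ∀ K : Subgroup H, K ≤ S → Nat.card K = 4 → (∀ k ∈ K, k ^ 2 = 1) →
        ∀ x : H, (∀ k ∈ K, x * k = k * x) → x ∈ K) :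
    IsCyclic H ∨ (∃ m : ℕ, Nonempty (H ≃* DihedralGroup (2 ^ m))) ∨
      Nonempty (H ≃* alternatingGroup (Fin 4)) := by
  have : NeZero (2 ^ n) := ⟨by positivity⟩
  rcases dihedral_sub (2 ^ n) φ hφ with hcyc | ⟨c, s, hss, hsc, hcN, hcover, hne, hcard⟩
  · left; exact main_cyclic S hcyc hq
  · obtain ⟨m, -, hm⟩ := (Nat.dvd_prime_pow Nat.prime_two).mp (orderOf_dvd_of_pow_eq_one hcN)
    have hD : DData (S : Subgroup H) (c : H) (s : H) m := by
      refine ⟨c.2, s.2, ?_, ?_, ?_, ?_, ?_, ?_⟩
      · have := congrArg (fun y : (S : Subgroup H) => (y : H)) hss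
        simpa using this
      · have := congrArg (fun y : (S : Subgroup H) => (y : H)) hsc
        simpa using this
      · rw [Subgroup.orderOf_coe, hm]
      · intro g hg
        rcases hcover ⟨g, hg⟩ with ⟨a, ha⟩ | ⟨a, ha⟩
        · left
          refine ⟨a, ?_⟩
          have := congrArg (fun y : (S : Subgroup H) => (y : H)) ha
          simpa using this
        · right
          refine ⟨a, ?_⟩
          have := congrArg (fun y : (S : Subgroup H) => (y : H)) ha
          simpa using this
      · intro a ha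
        apply hne a
        apply Subtype.ext
        simpa using ha
      · rw [hcard, hm]
    rcases Nat.lt_or_ge m 1 with h0 | h1
    · -- m = 0: S has order 2, cyclic
      left
      have hm0 : m = 0 := by omega
      have hS2 : Nat.card (S : Subgroup H) = 2 := by rw [hD.hcard, hm0]; norm_num
      have : Fact (Nat.Prime 2) := ⟨Nat.prime_two⟩
      exact main_cyclic S (isCyclic_of_prime_card hS2) hq
    · rcases Nat.lt_or_ge m 2 with h2 | h2
      · have hm1 : m = 1 := by omega
        subst hm1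
        rcases hD.small S hK with h | h
        · right; left; exact ⟨1, h⟩
        · right; right; exact h
      · right; left
        exact ⟨m, hD.big S h2 hK⟩

end main

end Cfsg.Agent.Lib.Helper65_TwoByCyclic
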