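import Mathlib
import Cfsg.Agent.Lib.Helper83_U3PJ
import Cfsg.Agent.S0754

/-!
# U3C-INVFIX (S2148, concrete half): for `q` odd an involution of `SU₃(q)` fixes a point

`inv_fix` : an element `g` of `SUJ σ` with `g * g = 1` is conjugate into the Borel subgroup `BJ σ`
(`q` odd).  Proof: if `g` moves the point `⟨e₀⟩`, the Bruhat decomposition `g = x(a,b) w B` gives
the conjugate `g' = x(a,b)⁻¹ g x(a,b) = w B x(a,b)` which exchanges `⟨e₀⟩` and `⟨e₂⟩`, hence is
`!![0,0,γ⁻¹; 0,-1,0; γ,0,0]` with `σ γ = γ`; its `(-1)`-eigenvector `(1, μ, -γ)` is isotropic when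
`μ σ μ = 2 γ` (the norm is onto the fixed field, `Cfsg.Agent.S0754.result`).
-/

set_option autoImplicit false
set_option linter.unusedSectionVars false
set_option linter.unusedVariables false
set_option linter.unusedSimpArgs false
set_option linter.unusedTactic false
set_option linter.unreachableTactic false
set_option linter.unnecessarySeqFocus false

namespace Cfsg.Agent.Lib.Helper65_U3C_INVFIX

open Matrix Cfsg.Agent.Lib.Helper83_SU3J Cfsg.Agent.Lib.Helper83_U3Model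
  Cfsg.Agent.Lib.Helper83_U3Bruhat Cfsg.Agent.Lib.Helper83_U3Group Cfsg.Agent.Lib.Helper83_U3PJ

variable {F : Type*} [Field F] [Fintype F] {σ : F →+* F} {q : ℕ}

/-- `q` odd: the characteristic is not two -/
theorem two_ne_zero_of_odd (hF : Fintype.card F = q ^ 2) (hodd : Odd q) : (2 : F) ≠ 0 := by
  intro h2
  have h1 : addOrderOf (1 : F) ∣ 2 := by
    apply addOrderOf_dvd_of_nsmul_eq_zero
    rw [nsmul_eq_mul, mul_one]
    exact_mod_cast h2
  have h3 : addOrderOf (1 : F) ∣ Fintype.card F := addOrderOf_dvd_card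
  have h4 : addOrderOf (1 : F) ≠ 1 := by
    intro h
    rw [AddMonoid.addOrderOf_eq_one_iff] at h
    exact one_ne_zero h
  have h5 : addOrderOf (1 : F) = 2 := by
    rcases (Nat.dvd_prime Nat.prime_two).1 h1 with h | h
    · exact absurd h h4
    · exact h
  rw [h5, hF] at h3
  have h6 := Nat.Prime.dvd_of_dvd_pow Nat.prime_two h3
  obtain ⟨k, hk⟩ := hodd
  omega

/-- the norm is onto the nonzero elements of the fixed field -/
theorem exists_norm_eq (hF : Fintype.card F = q ^ 2) (hσq : ∀ x, σ x = x ^ q) (c : F)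
    (hc : σ c = c) (hc0 : c ≠ 0) : ∃ μ : F, μ * σ μ = c := by
  have h1 : c ^ q = c := by rw [← hσq, hc]
  have h2 := Cfsg.Agent.S0754.result hF c hc0 h1
  have h3 : Nonempty {x : F // x ^ (q + 1) = c} := by
    by_contra hne
    rw [not_nonempty_iff] at hne
    rw [Nat.card_of_isEmpty] at h2
    omega
  obtain ⟨a, ha⟩ := h3
  exact ⟨a, by rw [hσq, ← ha, pow_succ']⟩

omit [Fintype F] in
/-- an eigenvector `(b, -a, 1)` with `(a,b)` a parameter gives a fixed point -/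
theorem fix_of_eigen (hσ : ∀ x, σ (σ x) = x) (g : ↥(SUJ σ)) (a b : F) (hab : Par σ a b) (ε : F)
    (hy : mat g *ᵥ ![b, -a, 1] = ε • ![b, -a, 1]) : ∃ h : ↥(SUJ σ), h⁻¹ * g * h ∈ BJ σ := by
  refine ⟨xJ hσ a b hab * wJ, ?_⟩
  set h : ↥(SUJ σ) := xJ hσ a b hab * wJ with hh
  rw [mem_BJ_iff hσ]
  have e1 : mat h *ᵥ ![1, 0, 0] = ![b, -a, 1] := by
    have : mat h = (xS σ a b).1 * (wS : SpecialLinearGroup (Fin 3) F).1 := rfl
    rw [this, xS_val hσ, wS_val]
    ext i
    fin_cases i <;> simp [Matrix.mulVec, dotProduct, Fin.sum_univ_three, Matrix.mul_apply]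
  have e2 : mat (h⁻¹ * g * h) *ᵥ ![1, 0, 0] = ε • ![1, 0, 0] := by
    rw [mat_mul, mat_mul, ← Matrix.mulVec_mulVec, ← Matrix.mulVec_mulVec, e1, hy,
      Matrix.mulVec_smul, ← e1, Matrix.mulVec_mulVec, mat_inv_mul, Matrix.one_mulVec]
  have e3 := congrFun e2 2
  simpa [Matrix.mulVec, dotProduct, Fin.sum_univ_three] using e3

/-- an involution exchanging the points `⟨e₀⟩` and `⟨e₂⟩` fixes a point -/
theorem fix_of_anti (hF : Fintype.card F = q ^ 2) (hσq : ∀ x, σ x = x ^ q)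
    (hσ : ∀ x, σ (σ x) = x) (hodd : Odd q) (g : ↥(SUJ σ)) (hg : g * g = 1)
    (h00 : mat g 0 0 = 0) (h10 : mat g 1 0 = 0) : ∃ h : ↥(SUJ σ), h⁻¹ * g * h ∈ BJ σ := by
  have h2 : (2 : F) ≠ 0 := two_ne_zero_of_odd hF hodd
  have hgg : mat g * mat g = 1 := by rw [← mat_mul, hg]; rfl
  have c00 := congrFun (congrFun hgg 0) 0
  have c10 := congrFun (congrFun hgg 1) 0
  have c20 := congrFun (congrFun hgg 2) 0
  rw [Matrix.mul_apply, Fin.sum_univ_three, h00, h10] at c00 c10 c20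
  simp at c00 c10 c20
  obtain ⟨γ, hγ⟩ : ∃ x, mat g 2 0 = x := ⟨_, rfl⟩
  rw [hγ] at c00 c10 c20
  have hγ0 : γ ≠ 0 := by
    intro h
    rw [h, mul_zero] at c00
    exact zero_ne_one c00
  have hsγ : σ γ ≠ 0 := sigma_ne_zero hγ0
  have g12 : mat g 1 2 = 0 := by
    rcases c10 with h | h
    · exact h
    · exact absurd h hγ0
  have g22 : mat g 2 2 = 0 := by
    rcases c20 with h | h
    · exact h
    · exact absurd h hγ0
  have g02 : mat g 0 2 = γ⁻¹ := by
    field_simp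
    exact c00
  have r10 := rel g.2 1 0
  have r12 := rel g.2 1 2
  have r02 := rel g.2 0 2
  have j10 : (J3 : Matrix (Fin 3) (Fin 3) F) 1 0 = 0 := by simp [J3]
  have j12 : (J3 : Matrix (Fin 3) (Fin 3) F) 1 2 = 0 := by simp [J3]
  have j02 : (J3 : Matrix (Fin 3) (Fin 3) F) 0 2 = 1 := by simp [J3]
  change mat g 0 1 * σ (mat g 2 0) + mat g 1 1 * σ (mat g 1 0) + mat g 2 1 * σ (mat g 0 0) = _
    at r10
  change mat g 0 1 * σ (mat g 2 2) + mat g 1 1 * σ (mat g 1 2) + mat g 2 1 * σ (mat g 0 2) = _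
    at r12
  change mat g 0 0 * σ (mat g 2 2) + mat g 1 0 * σ (mat g 1 2) + mat g 2 0 * σ (mat g 0 2) = _
    at r02
  rw [h00, h10, hγ, j10, map_zero, mul_zero, mul_zero, add_zero, add_zero] at r10
  rw [g22, g12, g02, j12, map_zero, mul_zero, mul_zero, zero_add, zero_add, map_inv₀] at r12
  rw [h00, h10, hγ, g02, j02, zero_mul, zero_mul, zero_add, zero_add, map_inv₀] at r02
  have g01 : mat g 0 1 = 0 := by
    rcases mul_eq_zero.1 r10 with h | h
    · exact h
    · exact absurd h hsγ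
  have g21 : mat g 2 1 = 0 := by
    rcases mul_eq_zero.1 r12 with h | h
    · exact h
    · exact absurd h (inv_ne_zero hsγ)
  have hσγ : σ γ = γ := by
    field_simp at r02
    exact r02.symm
  have hdet : (mat g).det = 1 := g.1.2
  rw [Matrix.det_fin_three, h00, h10, hγ, g01, g02, g12, g21, g22] at hdet
  have g11 : mat g 1 1 = -1 := by
    have hi : γ⁻¹ * γ = 1 := inv_mul_cancel₀ hγ0
    linear_combination (-1) * hdet - (mat g 1 1) * hi
  -- the norm equation
  have hc : σ (2 * γ) = 2 * γ := by rw [map_mul, hσγ, map_ofNat]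
  obtain ⟨μ, hμ⟩ := exists_norm_eq hF hσq (2 * γ) hc (mul_ne_zero h2 hγ0)
  have hpar : Par σ (μ * γ⁻¹) (-γ⁻¹) := by
    unfold Par
    rw [map_neg, map_mul, map_inv₀, hσγ]
    field_simp
    linear_combination hμ
  apply fix_of_eigen hσ g (μ * γ⁻¹) (-γ⁻¹) hpar (-1)
  ext i
  fin_cases i <;>
    simp [Matrix.mulVec, dotProduct, Fin.sum_univ_three, h00, h10, hγ, g01, g02, g11, g12, g21,
      g22]
  field_simp

/-- **INVFIX**.  `q` odd: an involution of `SU₃(q)` fixes a point. -/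
theorem inv_fix (hF : Fintype.card F = q ^ 2) (hσq : ∀ x, σ x = x ^ q) (hσ : ∀ x, σ (σ x) = x)
    (hodd : Odd q) (g : ↥(SUJ σ)) (hg : g * g = 1) : ∃ h : ↥(SUJ σ), h⁻¹ * g * h ∈ BJ σ := by
  by_cases h20 : mat g 2 0 = 0
  · refine ⟨1, ?_⟩
    rw [inv_one, one_mul, mul_one]
    exact (mem_BJ_iff hσ).2 h20
  · obtain ⟨a, b, hab, B, hB, hB20, hgB⟩ := bruhat hσ g.2 h20
    obtain ⟨hB10, -, -⟩ := upper hσ hB hB20
    set m : ↥(SUJ σ) := xJ hσ a b hab with hm
    have hconj : (m⁻¹ * g * m).1 = wS * B * xS σ a b := by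
      show (xS σ a b)⁻¹ * g.1 * xS σ a b = wS * B * xS σ a b
      rw [hgB]
      group
    have hmat : mat (m⁻¹ * g * m) = (wS : SpecialLinearGroup (Fin 3) F).1 * B.1 * (xS σ a b).1 := by
      show (m⁻¹ * g * m).1.1 = _
      rw [hconj]
      rfl
    have hgg : (m⁻¹ * g * m) * (m⁻¹ * g * m) = 1 := by
      calc (m⁻¹ * g * m) * (m⁻¹ * g * m) = m⁻¹ * (g * g) * m := by group
        _ = 1 := by rw [hg, mul_one, inv_mul_cancel]
    have e00 : mat (m⁻¹ * g * m) 0 0 = 0 := by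
      rw [hmat, wS_val, xS_val hσ]
      simp [Matrix.mul_apply, Fin.sum_univ_three, Matrix.vecMul, dotProduct, hB20]
    have e10 : mat (m⁻¹ * g * m) 1 0 = 0 := by
      rw [hmat, wS_val, xS_val hσ]
      simp [Matrix.mul_apply, Fin.sum_univ_three, Matrix.vecMul, dotProduct, hB10]
    obtain ⟨h', hh'⟩ := fix_of_anti hF hσq hσ hodd (m⁻¹ * g * m) hgg e00 e10
    refine ⟨m * h', ?_⟩
    have : (m * h')⁻¹ * g * (m * h') = h'⁻¹ * (m⁻¹ * g * m) * h' := by group
    rw [this]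
    exact hh'

end Cfsg.Agent.Lib.Helper65_U3C_INVFIX
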