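import Mathlib

/-!
# Fisher's inequality for 2-transitive group actions (helper72)

If `G` acts 2-transitively on a finite set `X` and `H ≤ G` has index `< |X|`, then `H` is
transitive on `X`.

Proof: if `O` is an `H`-orbit different from `X`, the `G`-images `g • O` (indexed by `G ⧸ H`) are
the blocks of a 2-design on `X` with `r > λ`; the incidence map `(X → ℚ) → (G ⧸ H → ℚ)` is
injective because `Σ_q (Σ_{x ∈ q} w x)² = (r - λ) Σ w² + λ (Σ w)²`.
-/

set_option autoImplicit false

namespace Cfsg.Agent.Lib.Helper72_Fisher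

open scoped BigOperators

variable {G X : Type*} [Group G] [MulAction G X]

section design

variable (H : Subgroup G) (O : Set X)

/-- incidence between a coset `gH` and a point `x`: `x ∈ g • O`. -/
def Inc (hO : ∀ h ∈ H, ∀ y ∈ O, h • y ∈ O) (q : G ⧸ H) (x : X) : Prop :=
  Quotient.liftOn' q (fun g => g⁻¹ • x ∈ O) (by
    intro a b hab
    have hab' : a⁻¹ * b ∈ H := QuotientGroup.leftRel_apply.mp hab
    apply propext
    constructor
    · intro h
      have := hO _ (H.inv_mem hab') _ h
      rwa [mul_inv_rev, inv_inv, smul_smul, mul_assoc, mul_inv_cancel, mul_one] at this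
    · intro h
      have := hO _ hab' _ h
      rwa [smul_smul, mul_assoc, mul_inv_cancel, mul_one] at this)

variable {H O}

theorem inc_mk (hO : ∀ h ∈ H, ∀ y ∈ O, h • y ∈ O) (g : G) (x : X) :
    Inc H O hO (QuotientGroup.mk g) x ↔ g⁻¹ • x ∈ O := Iff.rfl

theorem inc_smul (hO : ∀ h ∈ H, ∀ y ∈ O, h • y ∈ O) (g : G) (q : G ⧸ H) (x : X) :
    Inc H O hO (g • q) (g • x) ↔ Inc H O hO q x := by
  induction q using QuotientGroup.induction_on with
  | H a =>
    have : g • (QuotientGroup.mk a : G ⧸ H) = QuotientGroup.mk (g * a) := rfl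
    rw [this, inc_mk, inc_mk, mul_inv_rev, ← smul_smul, inv_smul_smul]

end design

section main

variable [Finite X]

/-- **Fisher's inequality for 2-transitive groups.**  A subgroup of index less than the degree of
a 2-transitive group is transitive. -/
theorem exists_smul_eq_of_index_lt
    (h2 : ∀ a b c d : X, a ≠ b → c ≠ d → ∃ g : G, g • a = c ∧ g • b = d)
    (H : Subgroup G) (h0 : H.index ≠ 0) (hlt : H.index < Nat.card X) (x₀ y₀ : X) :
    ∃ h ∈ H, h • x₀ = y₀ := by
  classical
  by_contra hcon
  push Not at hcon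
  have hne : x₀ ≠ y₀ := by
    rintro rfl
    exact hcon 1 H.one_mem (one_smul _ _)
  -- the H-orbit of x₀
  set O : Set X := {y | ∃ h ∈ H, h • x₀ = y} with hOdef
  have hO : ∀ h ∈ H, ∀ y ∈ O, h • y ∈ O := by
    rintro h hh y ⟨k, hk, rfl⟩
    exact ⟨h * k, H.mul_mem hh hk, (smul_smul _ _ _).symm⟩
  have hx₀ : x₀ ∈ O := ⟨1, H.one_mem, one_smul _ _⟩
  have hy₀ : y₀ ∉ O := by
    rintro ⟨h, hh, hxy⟩
    exact hcon h hh hxy
  have : Fintype X := Fintype.ofFinite X
  have : Fintype (G ⧸ H) := Subgroup.fintypeOfIndexNeZero h0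
  -- transitivity of G on points
  have h1 : ∀ a b : X, ∃ g : G, g • a = b := by
    intro a b
    by_cases hab : a = b
    · exact ⟨1, by rw [one_smul, hab]⟩
    · obtain ⟨g, hg, -⟩ := h2 a b b a hab (Ne.symm hab)
      exact ⟨g, hg⟩
  -- the counting function
  let c : X → X → ℕ := fun x x' =>
    (Finset.univ.filter (fun q : G ⧸ H => Inc H O hO q x ∧ Inc H O hO q x')).card
  have hc_inv : ∀ (g : G) (x x' : X), c (g • x) (g • x') = c x x' := by
    intro g x x'
    symm
    apply Finset.card_bij (fun q _ => g • q)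
    · intro q hq
      simp only [Finset.mem_filter, Finset.mem_univ, true_and] at hq ⊢
      exact ⟨(inc_smul hO g q x).mpr hq.1, (inc_smul hO g q x').mpr hq.2⟩
    · intro q _ q' _ h
      exact (MulAction.injective g) h
    · intro q hq
      simp only [Finset.mem_filter, Finset.mem_univ, true_and] at hq
      refine ⟨g⁻¹ • q, ?_, smul_inv_smul g q⟩
      simp only [Finset.mem_filter, Finset.mem_univ, true_and]
      constructor
      · have := (inc_smul hO g (g⁻¹ • q) x).mp (by rw [smul_inv_smul]; exact hq.1)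
        exact this
      · have := (inc_smul hO g (g⁻¹ • q) x').mp (by rw [smul_inv_smul]; exact hq.2)
        exact this
  set r : ℕ := c x₀ x₀ with hr
  set l : ℕ := c x₀ y₀ with hl
  have hc_diag : ∀ x, c x x = r := by
    intro x
    obtain ⟨g, rfl⟩ := h1 x₀ x
    exact hc_inv g x₀ x₀
  have hc_off : ∀ x x', x ≠ x' → c x x' = l := by
    intro x x' hxx'
    obtain ⟨g, rfl, rfl⟩ := h2 x₀ y₀ x x' hne hxx'
    exact hc_inv g x₀ y₀
  have hlr : l < r := by
    apply Finset.card_lt_card
    refine ⟨?_, ?_⟩
    · intro q hq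
      simp only [Finset.mem_filter, Finset.mem_univ, true_and] at hq ⊢
      exact ⟨hq.1, hq.1⟩
    · intro hsub
      have hmem : (QuotientGroup.mk (1 : G) : G ⧸ H) ∈
          Finset.univ.filter (fun q : G ⧸ H => Inc H O hO q x₀ ∧ Inc H O hO q x₀) := by
        simp only [Finset.mem_filter, Finset.mem_univ, true_and]
        rw [inc_mk, inv_one, one_smul]
        exact ⟨hx₀, hx₀⟩
      have := hsub hmem
      simp only [Finset.mem_filter, Finset.mem_univ, true_and] at this
      have h3 := this.2
      rw [inc_mk, inv_one, one_smul] at h3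
      exact hy₀ h3
  -- the incidence map
  let T : (X → ℚ) →ₗ[ℚ] ((G ⧸ H) → ℚ) :=
    { toFun := fun w q => ∑ x, if Inc H O hO q x then w x else 0
      map_add' := by
        intro w w'
        funext q
        simp only [Pi.add_apply]
        rw [← Finset.sum_add_distrib]
        apply Finset.sum_congr rfl
        intro x _
        split_ifs <;> simp
      map_smul' := by
        intro a w
        funext q
        simp only [Pi.smul_apply, smul_eq_mul, RingHom.id_apply]
        rw [Finset.mul_sum]
        apply Finset.sum_congr rfl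
        intro x _
        split_ifs <;> simp }
  have hT : ∀ (w : X → ℚ) (q : G ⧸ H), T w q = ∑ x, if Inc H O hO q x then w x else 0 :=
    fun _ _ => rfl
  -- the sum of squares identity
  have hsq : ∀ w : X → ℚ, ∑ q, (T w q) ^ 2 =
      ∑ x, ∑ x', w x * w x' * (c x x' : ℚ) := by
    intro w
    have h1 : ∀ q : G ⧸ H, (T w q) ^ 2 =
        ∑ x, ∑ x', w x * w x' * (if Inc H O hO q x ∧ Inc H O hO q x' then (1 : ℚ) else 0) := by
      intro q
      rw [hT, pow_two, Finset.sum_mul_sum]
      apply Finset.sum_congr rfl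
      intro x _
      apply Finset.sum_congr rfl
      intro x' _
      by_cases hx : Inc H O hO q x <;> by_cases hx' : Inc H O hO q x' <;> simp [hx, hx']
    simp_rw [h1]
    rw [Finset.sum_comm]
    apply Finset.sum_congr rfl
    intro x _
    rw [Finset.sum_comm]
    apply Finset.sum_congr rfl
    intro x' _
    rw [← Finset.mul_sum]
    congr 1
    rw [Finset.sum_boole]
  have hsq2 : ∀ w : X → ℚ, ∑ q, (T w q) ^ 2 =
      ((r : ℚ) - l) * ∑ x, (w x) ^ 2 + (l : ℚ) * (∑ x, w x) ^ 2 := by
    intro w
    rw [hsq]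
    have h3 : ∀ x x' : X, w x * w x' * (c x x' : ℚ) =
        (l : ℚ) * (w x * w x') + (if x = x' then ((r : ℚ) - l) * (w x) ^ 2 else 0) := by
      intro x x'
      by_cases hxx' : x = x'
      · subst hxx'
        rw [hc_diag, if_pos rfl]
        ring
      · rw [hc_off x x' hxx', if_neg hxx']
        ring
    simp_rw [h3]
    simp_rw [Finset.sum_add_distrib]
    rw [add_comm]
    congr 1
    · rw [Finset.mul_sum]
      apply Finset.sum_congr rfl
      intro x _
      rw [Finset.sum_ite_eq]
      simp
    · rw [pow_two, Finset.sum_mul_sum, Finset.mul_sum]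
      apply Finset.sum_congr rfl
      intro x _
      rw [Finset.mul_sum]
  -- injectivity
  have hinj : Function.Injective T := by
    rw [← LinearMap.ker_eq_bot, LinearMap.ker_eq_bot']
    intro w hw
    have h4 := hsq2 w
    rw [hw] at h4
    simp only [Pi.zero_apply, ne_eq, OfNat.ofNat_ne_zero, not_false_eq_true, zero_pow,
      Finset.sum_const_zero] at h4
    have hpos : (0 : ℚ) < (r : ℚ) - l := by
      have : (l : ℚ) < r := by exact_mod_cast hlr
      linarith
    have hl0 : (0 : ℚ) ≤ (l : ℚ) := Nat.cast_nonneg _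
    have hs1 : 0 ≤ ∑ x, (w x) ^ 2 := Finset.sum_nonneg (fun x _ => sq_nonneg _)
    have hs2 : 0 ≤ (∑ x, w x) ^ 2 := sq_nonneg _
    have hs3 : ∑ x, (w x) ^ 2 = 0 := by
      by_contra hne0
      have hgt : 0 < ∑ x, (w x) ^ 2 := lt_of_le_of_ne hs1 (Ne.symm hne0)
      have : 0 < ((r : ℚ) - l) * ∑ x, (w x) ^ 2 + (l : ℚ) * (∑ x, w x) ^ 2 := by
        have := mul_pos hpos hgt
        have := mul_nonneg hl0 hs2
        linarith
      linarith
    funext x
    have := (Finset.sum_eq_zero_iff_of_nonneg (fun x _ => sq_nonneg (w x))).mp hs3 x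
      (Finset.mem_univ x)
    simpa using this
  have hdim := LinearMap.finrank_le_finrank_of_injective hinj
  rw [Module.finrank_fintype_fun_eq_card, Module.finrank_fintype_fun_eq_card] at hdim
  have hidx : Fintype.card (G ⧸ H) = H.index := by
    rw [Subgroup.index, Nat.card_eq_fintype_card]
  rw [hidx, ← Nat.card_eq_fintype_card] at hdim
  omega

/-- The same in `IsPretransitive` form. -/
theorem isPretransitive_of_index_lt
    (h2 : ∀ a b c d : X, a ≠ b → c ≠ d → ∃ g : G, g • a = c ∧ g • b = d)
    (H : Subgroup G) (h0 : H.index ≠ 0) (hlt : H.index < Nat.card X) :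
    MulAction.IsPretransitive H X := by
  refine ⟨fun x y => ?_⟩
  obtain ⟨h, hh, hxy⟩ := exists_smul_eq_of_index_lt h2 H h0 hlt x y
  exact ⟨⟨h, hh⟩, hxy⟩

end main

end Cfsg.Agent.Lib.Helper72_Fisher
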