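import Mathlib
import Cfsg.Agent.Lib.Helper65_U3Defs
import Cfsg.Agent.Lib.Helper72_Fisher
import Cfsg.Agent.Lib.Helper65_U3A_BAS1
import Cfsg.Agent.Lib.Helper65_U3A_BAS2
import Cfsg.Agent.Lib.Helper65_U3A_BAS3

set_option autoImplicit false
set_option linter.unusedSectionVars false
set_option linter.unusedVariables false

/-!
# S2148 abstract half, package S2A (architect helper65, proof helper69)

Fisher's lemma (via `Helper72_Fisher`) and the consequences of transitivity of `H` on `U`.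
-/

open Cfsg.Agent.Lib.Helper65_U3Defs

namespace Cfsg.Agent.Lib.Helper69_U3A_S2A

open Subgroup

variable {p q : ℕ} {F G U : Type*} [Field F] [Group G] [MulAction G U]

/-- conjugation by an element of a subgroup fixes the subgroup -/
theorem map_conj_of_mem' (S : Subgroup G) {n : G} (hn : n ∈ S) :
    S.map (MulAut.conj n).toMonoidHom = S := by
  ext x
  rw [mem_map]
  constructor
  · rintro ⟨y, hy, rfl⟩
    show n * y * n⁻¹ ∈ S
    exact mul_mem (mul_mem hn hy) (inv_mem hn)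
  · intro hx
    refine ⟨n⁻¹ * x * n, mul_mem (mul_mem (inv_mem hn) hx) hn, ?_⟩
    show n * (n⁻¹ * x * n) * n⁻¹ = x
    group

/-- `|H ⊓ h S h⁻¹| = |H ⊓ S|` for `h ∈ H` -/
theorem card_inf_map_conj (H S : Subgroup G) {h : G} (hh : h ∈ H) :
    Nat.card ↥(H ⊓ S.map (MulAut.conj h).toMonoidHom) = Nat.card ↥(H ⊓ S) := by
  have hinj : Function.Injective (MulAut.conj h).toMonoidHom := (MulAut.conj h).injective
  have e : H ⊓ S.map (MulAut.conj h).toMonoidHom = (H ⊓ S).map (MulAut.conj h).toMonoidHom := by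
    rw [map_inf_eq _ _ _ hinj, map_conj_of_mem' H hh]
  rw [e]
  exact card_map_of_injective hinj

/-- **S2A** Fisher. -/
theorem fisher_trans (D : U3Data p q F G U) (H : Subgroup G) (hH : H.index ≤ q ^ 3) :
    ∀ a b : U, ∃ h ∈ H, h • a = b := by
  haveI := D.finG
  haveI := D.finiteU
  intro a b
  apply Cfsg.Agent.Lib.Helper72_Fisher.exists_smul_eq_of_index_lt D.two_trans H
    H.index_ne_zero_of_finite
  rw [D.cardU]
  omega

variable {D : U3Data p q F G U}

/-- **S2A**. -/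
theorem card_inf_Zat (H : Subgroup G) (htr : ∀ a b : U, ∃ h ∈ H, h • a = b) (g : G) :
    Nat.card ↥(H ⊓ D.Zat g) = Nat.card ↥(H ⊓ D.Z) := by
  obtain ⟨h, hh, e⟩ := htr D.u (g • D.u)
  rw [Cfsg.Agent.Lib.Helper65_U3A_BAS2.Zat_eq_of_smul_eq D e.symm]
  exact card_inf_map_conj H D.Z hh

/-- **S2A**. -/
theorem card_inf_Qat (H : Subgroup G) (htr : ∀ a b : U, ∃ h ∈ H, h • a = b) (g : G) :
    Nat.card ↥(H ⊓ D.Qat g) = Nat.card ↥(H ⊓ D.Q) := by
  obtain ⟨h, hh, e⟩ := htr D.u (g • D.u)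
  rw [Cfsg.Agent.Lib.Helper65_U3A_BAS2.Qat_eq_of_smul_eq D e.symm]
  exact card_inf_map_conj H D.Q hh

/-- **S2A**.  Orbit-stabiliser for `H` on `U`. -/
theorem card_eq_of_trans (H : Subgroup G) (htr : ∀ a b : U, ∃ h ∈ H, h • a = b) :
    Nat.card ↥H = (q ^ 3 + 1) * Nat.card ↥(H ⊓ D.B) := by
  haveI : MulAction.IsPretransitive ↥H U := by
    refine ⟨fun a b => ?_⟩
    obtain ⟨h, hh, e⟩ := htr a b
    exact ⟨⟨h, hh⟩, e⟩
  have h1 := (MulAction.stabilizer ↥H D.u).card_mul_index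
  rw [MulAction.index_stabilizer_of_transitive, D.cardU] at h1
  have h2 : MulAction.stabilizer ↥H D.u = D.B.subgroupOf H := by
    ext x
    rw [MulAction.mem_stabilizer_iff, mem_subgroupOf, D.mem_B]
    rfl
  have h3 : Nat.card ↥(D.B.subgroupOf H) = Nat.card ↥(H ⊓ D.B) := by
    rw [← inf_subgroupOf_left]
    exact Nat.card_congr (Subgroup.subgroupOfEquivOfLe inf_le_left).toEquiv
  rw [h2, h3] at h1
  rw [← h1, mul_comm]

end Cfsg.Agent.Lib.Helper69_U3A_S2A
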