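import Mathlib
import Cfsg.Agent.Lib.Helper65_U3Defs
import Cfsg.Agent.Lib.Helper65_U3A_BAS2

set_option autoImplicit false
set_option linter.unusedSectionVars false
set_option linter.unusedVariables false

/-!
# S2148 abstract half, package S3 (architect helper65; formalized by helper79)
-/

open Cfsg.Agent.Lib.Helper65_U3Defs

namespace Cfsg.Agent.Lib.Helper79_U3A_S3

variable {p q : ℕ} {F G U : Type*} [Field F] [Group G] [MulAction G U]
variable {D : U3Data p q F G U} {H : Subgroup G}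

/-- inner form: the facts of BAS2 / BAS4 used enter as hypotheses. -/
theorem step3_aux
    (hconjZ : ∀ {g : G}, g ∈ D.B → ∀ {z : G}, z ∈ D.Z → g * z * g⁻¹ ∈ D.Z)
    (hcardZ : Nat.card ↥D.Z = q)
    (htr : ∀ a b : U, ∃ h ∈ H, h • a = b) (hZ : D.Z ≤ H) : H = ⊤ := by
  have hsimple := D.simple
  -- every conjugate of an element of `Z` lies in `H`
  have hconj : ∀ g : G, ∀ z ∈ D.Z, g * z * g⁻¹ ∈ H := by
    intro g z hz
    obtain ⟨h, hh, hhu⟩ := htr D.u (g • D.u)
    have hB : h⁻¹ * g ∈ D.B := by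
      rw [D.mem_B, mul_smul, ← hhu, inv_smul_smul]
    have h1 : (h⁻¹ * g) * z * (h⁻¹ * g)⁻¹ ∈ D.Z := hconjZ hB hz
    have h2 : g * z * g⁻¹ = h * ((h⁻¹ * g) * z * (h⁻¹ * g)⁻¹) * h⁻¹ := by group
    rw [h2]
    exact H.mul_mem (H.mul_mem hh (hZ h1)) (H.inv_mem hh)
  have hle : Subgroup.normalClosure (D.Z : Set G) ≤ H := by
    unfold Subgroup.normalClosure
    rw [Subgroup.closure_le]
    intro a ha
    rw [Group.mem_conjugatesOfSet_iff] at ha
    obtain ⟨z, hz, hza⟩ := ha
    rw [isConj_iff] at hza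
    obtain ⟨c, rfl⟩ := hza
    exact hconj c z hz
  have hZne : D.Z ≠ ⊥ := by
    intro hb
    have h1 : Nat.card ↥D.Z = 1 := by
      rw [hb]
      exact Subgroup.card_bot
    have h2 := D.two_le_q
    omega
  have hn : (Subgroup.normalClosure (D.Z : Set G)).Normal := Subgroup.normalClosure_normal
  rcases hn.eq_bot_or_eq_top with h0 | h1
  · exfalso
    apply hZne
    have : D.Z ≤ Subgroup.normalClosure (D.Z : Set G) := Subgroup.le_normalClosure
    rw [h0] at this
    exact le_bot_iff.mp this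
  · rw [h1] at hle
    exact top_le_iff.mp hle

/-- `step3` with the one fact of BAS4 it needs (`card_Z`) as a hypothesis; BAS2 is used from main.
The verbatim wrapper `step3` is added when BAS4 is on main. -/
theorem step3_of_card_Z (hcardZ : Nat.card ↥D.Z = q)
    (htr : ∀ a b : U, ∃ h ∈ H, h • a = b) (hZ : D.Z ≤ H) : H = ⊤ :=
  step3_aux (fun hg _ hz => Cfsg.Agent.Lib.Helper65_U3A_BAS2.conj_Z_of_mem_B D hg hz) hcardZ htr hZ

end Cfsg.Agent.Lib.Helper79_U3A_S3
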