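import Mathlib
import Cfsg.Agent.Lib.Helper65_U3Defs
import Cfsg.Agent.Lib.Helper27_U3A_BAS4

set_option autoImplicit false
set_option linter.unusedSectionVars false
set_option linter.unusedVariables false

/-!
# U3A package S6D2 (helper65's S2148 abstract market): `step6_D2`

`step6_D2_aux` takes the facts of S2E (`good_mem_inf_B`, `good_card_H`) and BAS6 (`blkFix_eq`, `T1_fix`)
as explicit hypotheses; BAS4 is imported.
-/

open Cfsg.Agent.Lib.Helper65_U3Defs
open Cfsg.Agent.Lib.Helper27_U3A_BAS4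

namespace Cfsg.Agent.Lib.Helper80_U3A_S6D2

variable {p q : ℕ} {F G U : Type*} [Field F] [Group G] [MulAction G U]
variable {D : U3Data p q F G U} {H : Subgroup G}

/-- a subgroup of a finite cyclic group is the set of solutions of `x ^ d = 1`, `d` its order -/
theorem coe_eq_setOf_pow_eq_one {J : Type*} [Group J] [Finite J] [IsCyclic J] (A : Subgroup J) :
    (A : Set J) = {x : J | x ^ Nat.card A = 1} := by
  classical
  haveI := Fintype.ofFinite J
  have hd : 0 < Nat.card A := Nat.card_pos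
  have hsub : (A : Set J) ⊆ {x : J | x ^ Nat.card A = 1} := by
    intro x hx
    have h1 : (⟨x, hx⟩ : A) ^ Nat.card A = 1 := pow_card_eq_one'
    have h2 := congrArg Subtype.val h1
    rw [Subgroup.coe_pow, Subgroup.coe_one] at h2
    exact h2
  apply Set.eq_of_subset_of_ncard_le hsub ?_ (Set.toFinite _)
  have h1 : ({x : J | x ^ Nat.card A = 1} : Set J).ncard ≤ Nat.card A := by
    have := IsCyclic.card_pow_eq_one_le (α := J) hd
    rw [Set.ncard_eq_toFinset_card']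
    convert this using 2
    ext x
    simp
  have h2 : (A : Set J).ncard = Nat.card A := by
    rw [← Nat.card_coe_set_eq]; rfl
  rw [h2]; exact h1

theorem card_subgroupOf_le {G : Type*} [Group G] {H T : Subgroup G} (h : H ≤ T) :
    Nat.card (H.subgroupOf T) = Nat.card H :=
  Nat.card_congr (Subgroup.subgroupOfEquivOfLe h).toEquiv

/-- two subgroups of the same order inside a cyclic subgroup coincide -/
theorem eq_of_le_cyclic {G : Type*} [Group G] [Finite G] {T X X' : Subgroup G} (hT : IsCyclic ↥T)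
    (hX : X ≤ T) (hX' : X' ≤ T) (h : Nat.card X = Nat.card X') : X = X' := by
  have h1 : X.subgroupOf T = X'.subgroupOf T := by
    apply SetLike.coe_injective
    rw [coe_eq_setOf_pow_eq_one (X.subgroupOf T), coe_eq_setOf_pow_eq_one (X'.subgroupOf T),
      card_subgroupOf_le hX, card_subgroupOf_le hX', h]
  have h2 := Subgroup.subgroupOf_inj.mp h1
  rw [inf_eq_left.mpr hX, inf_eq_left.mpr hX'] at h2
  exact h2

/-- `H ⊓ B = T` when `H ⊓ Q = ⊥` and `T ≤ H`. -/
theorem inf_B_eq_T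
    (hmemB : ∀ g ∈ H ⊓ D.B, ∃ z ∈ H ⊓ D.Q, ∃ s ∈ H ⊓ D.T, g = z * s)
    (hr : H ⊓ D.Q = ⊥) (hT : D.T ≤ H) : H ⊓ D.B = D.T := by
  apply le_antisymm
  · intro g hg
    obtain ⟨z, hz, s, hs, rfl⟩ := hmemB g hg
    rw [hr, Subgroup.mem_bot] at hz
    rw [hz, one_mul]
    exact hs.2
  · exact le_inf hT D.T_le_B

/-- `T1 ≠ ⊥` for `q ≥ 3`. -/
theorem T1_ne_bot (D : U3Data p q F G U) (hq3 : 3 ≤ q) : D.T1 ≠ ⊥ := by
  intro h
  have h1 := card_T1 D
  rw [h, Subgroup.card_bot, one_mul] at h1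
  have h2 : Nat.gcd 3 (q + 1) ≤ 3 := Nat.le_of_dvd (by norm_num) (Nat.gcd_dvd_left 3 (q + 1))
  omega

theorem card_T_eq (D : U3Data p q F G U) :
    Nat.card ↥D.T = (q - 1) * Nat.card ↥D.T1 := by
  have h1 := card_T D
  have h2 := card_T1 D
  have hd : 0 < Nat.gcd 3 (q + 1) := Nat.gcd_pos_of_pos_left _ (by norm_num)
  have hq := D.q_pos
  have h3 : q ^ 2 - 1 = (q - 1) * (q + 1) := by
    obtain ⟨m, rfl⟩ : ∃ m, q = m + 1 := ⟨q - 1, by omega⟩
    have : (m + 1) ^ 2 = (m + 1 - 1) * (m + 1 + 1) + 1 := by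
      simp only [Nat.add_sub_cancel]; ring
    omega
  apply Nat.eq_of_mul_eq_mul_right hd
  rw [h1, h3, mul_assoc, h2]

theorem coprime_card_H
    (hcardH : Nat.card ↥H = (q ^ 3 + 1) * (Nat.card ↥(H ⊓ D.Q) * Nat.card ↥(H ⊓ D.T)))
    (hr : H ⊓ D.Q = ⊥) :
    (Nat.card ↥H).Coprime p := by
  have hH := hcardH
  rw [hr, Subgroup.card_bot, one_mul] at hH
  have hp := D.hp
  have hq := D.hq
  have hk := D.hk
  rw [hH]
  have hpq : p ∣ q := by rw [hq]; exact dvd_pow_self p hk.ne'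
  apply Nat.Coprime.mul_left
  · rw [Nat.coprime_comm, Nat.Prime.coprime_iff_not_dvd hp]
    intro h
    have : p ∣ q ^ 3 := dvd_pow hpq (by norm_num)
    have := (Nat.dvd_add_right this).mp h
    exact hp.one_lt.ne' (Nat.dvd_one.mp this)
  · rw [Nat.coprime_comm, Nat.Prime.coprime_iff_not_dvd hp]
    intro h
    have h1 : Nat.card ↥(H ⊓ D.T) ∣ Nat.card ↥D.T := Subgroup.card_dvd_of_le inf_le_right
    have h2 : Nat.card ↥D.T ∣ q ^ 2 - 1 := Dvd.intro _ (card_T D)
    have h3 : p ∣ q ^ 2 - 1 := h.trans (h1.trans h2)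
    have h4 : p ∣ q ^ 2 := dvd_pow hpq (by norm_num)
    have h5 : 1 ≤ q ^ 2 := Nat.one_le_pow _ _ D.q_pos
    have h6 : p ∣ q ^ 2 - (q ^ 2 - 1) := Nat.dvd_sub h4 h3
    have h7 : q ^ 2 - (q ^ 2 - 1) = 1 := by omega
    rw [h7] at h6
    exact hp.one_lt.ne' (Nat.dvd_one.mp h6)

theorem step6_D2_aux
    (hmemB : ∀ g ∈ H ⊓ D.B, ∃ z ∈ H ⊓ D.Q, ∃ s ∈ H ⊓ D.T, g = z * s)
    (hcardH : Nat.card ↥H = (q ^ 3 + 1) * (Nat.card ↥(H ⊓ D.Q) * Nat.card ↥(H ⊓ D.T)))
    (hblkFix : D.blkFix = D.T1)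
    (hT1fix : ∀ s ∈ D.T1, s ≠ 1 → ∀ w : U, s • w = w ↔ w ∈ D.Blk)
    (h2 : Dickson2 D) (hG : Good D H) (hq3 : 3 ≤ q) (hr : H ⊓ D.Q = ⊥)
    (hT : D.T ≤ H) :
    q - 1 ≤ 2 ∨ (q + 1) * (q - 1) = 12 ∨ (q + 1) * (q - 1) = 24 ∨ (q + 1) * (q - 1) = 60 := by
  have := D.finG
  have hHB := inf_B_eq_T hmemB hr hT
  have hcyc : IsCyclic ↥D.T := isCyclic_T D
  have hT1T : D.T1 ≤ D.T := D.T1_le_T
  -- a nonidentity element of T1
  obtain ⟨s0, hs0, hs01⟩ : ∃ s0 ∈ D.T1, s0 ≠ 1 := by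
    by_contra hcon
    push Not at hcon
    exact T1_ne_bot D hq3 ((Subgroup.eq_bot_iff_forall _).mpr hcon)
  -- T is commutative
  have hTcomm : ∀ a ∈ D.T, ∀ b ∈ D.T, a * b = b * a := by
    intro a ha b hb
    have hc : IsMulCommutative ↥D.T := IsCyclic.isMulCommutative
    have := hc.is_comm.comm ⟨a, ha⟩ ⟨b, hb⟩
    exact congrArg Subtype.val this
  -- T normalizes T1
  have hTN : D.T ≤ Subgroup.normalizer (D.T1 : Set G) := by
    intro a ha
    rw [Subgroup.mem_normalizer_iff]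
    intro b
    constructor
    · intro hb
      have : a * b * a⁻¹ = b := by
        rw [hTcomm a ha b (hT1T hb), mul_assoc, mul_inv_cancel, mul_one]
      rw [this]; exact hb
    · intro hb
      have hb' : a * b * a⁻¹ ∈ D.T := hT1T hb
      have hbT : b ∈ D.T := by
        have := D.T.mul_mem (D.T.mul_mem (D.T.inv_mem ha) hb') ha
        simpa [mul_assoc] using this
      have : a * b * a⁻¹ = b := by
        rw [hTcomm a ha b hbT, mul_assoc, mul_inv_cancel, mul_one]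
      rw [this] at hb; exact hb
  set C : Subgroup G := H ⊓ Subgroup.normalizer (D.T1 : Set G) with hC
  have hTC : D.T ≤ C := le_inf hT hTN
  have hCB : C ⊓ D.B = D.T := by
    apply le_antisymm
    · rw [← hHB]
      exact inf_le_inf_right _ inf_le_left
    · exact le_inf hTC D.T_le_B
  have hCfix : C ⊓ D.blkFix = D.T1 := by
    rw [hblkFix]
    exact inf_eq_right.mpr (hT1T.trans hTC)
  have hstab : ∀ c ∈ C, ∀ w ∈ D.Blk, c • w ∈ D.Blk := by
    intro c hc w hw
    have hcN : c ∈ Subgroup.normalizer (D.T1 : Set G) := hc.2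
    have hs' : c * s0 * c⁻¹ ∈ D.T1 := (Subgroup.mem_normalizer_iff.mp hcN s0).mp hs0
    have hs'1 : c * s0 * c⁻¹ ≠ 1 := by
      intro h
      apply hs01
      have : s0 = c⁻¹ * (c * s0 * c⁻¹) * c := by group
      rw [this, h]; group
    rw [← hT1fix _ hs' hs'1]
    have hfix : s0 • w = w := (hT1fix s0 hs0 hs01 w).mpr hw
    rw [← mul_smul, inv_mul_cancel_right, mul_smul, hfix]
  have htrans : ∀ w ∈ D.Blk, ∃ c ∈ C, c • D.u = w := by
    intro w hw
    obtain ⟨h, hh, hhw⟩ := hG.trans D.u w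
    refine ⟨h, ⟨hh, ?_⟩, hhw⟩
    -- h⁻¹ T1 h ≤ T
    have hconj : ∀ s ∈ D.T1, h⁻¹ * s * h ∈ D.T := by
      intro s hs
      rw [← hHB]
      refine ⟨H.mul_mem (H.mul_mem (H.inv_mem hh) (hT (hT1T hs))) hh, ?_⟩
      show h⁻¹ * s * h ∈ D.B
      rw [D.mem_B, mul_smul, mul_smul, hhw]
      have hsw : s • w = w := by
        by_cases hs1 : s = 1
        · rw [hs1, one_smul]
        · exact (hT1fix s hs hs1 w).mpr hw
      rw [hsw, ← hhw, inv_smul_smul]
    -- the conjugate subgroup K = h⁻¹ T1 h inside T has the same card as T1 → equal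
    let K : Subgroup G := D.T1.map (MulAut.conj h⁻¹).toMonoidHom
    have hKT : K ≤ D.T := by
      rintro _ ⟨s, hs, rfl⟩
      have := hconj s hs
      simpa [MulAut.conj_apply] using this
    have hKcard : Nat.card ↥K = Nat.card ↥D.T1 := by
      exact Subgroup.card_map_of_injective (MulAut.conj h⁻¹).injective
    have hKeq : K = D.T1 := eq_of_le_cyclic hcyc hKT hT1T hKcard
    have hinv : h⁻¹ ∈ Subgroup.normalizer (D.T1 : Set G) := by
      rw [Subgroup.mem_normalizer_iff_map_conj_eq]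
      exact hKeq
    simpa using inv_mem hinv
  have hcop : (Nat.card ↥C).Coprime p := by
    have h1 : Nat.card ↥C ∣ Nat.card ↥H := Subgroup.card_dvd_of_le inf_le_left
    exact Nat.Coprime.coprime_dvd_left h1 (coprime_card_H hcardH hr)
  have hcycCB : IsCyclic ↥(C ⊓ D.B) := by rw [hCB]; exact hcyc
  have hcard : Nat.card ↥(C ⊓ D.B) = (q - 1) * Nat.card ↥(C ⊓ D.blkFix) := by
    rw [hCB, hCfix]; exact card_T_eq D
  exact h2 C (q - 1) hstab hcop htrans hcycCB hcard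

end Cfsg.Agent.Lib.Helper80_U3A_S6D2
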