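import Mathlib
import Cfsg.Agent.Lib.Helper65_U3Defs
import Cfsg.Agent.Lib.Helper27_U3A_BAS4
import Cfsg.Agent.Lib.Helper80_U3A_S6D2

set_option autoImplicit false
set_option linter.unusedSectionVars false
set_option linter.unusedVariables false

/-!
# U3A package S6Q3 (helper65's S2148 abstract market): `step6_q3`

`step6_q3_aux` takes the facts of S2E (`good_mem_inf_B`, `good_card_H`), BAS6 (`T1_fix`) and GEN
(`prime_dvd_of_stab_blk`) as explicit hypotheses; BAS4 is imported.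
-/

open Cfsg.Agent.Lib.Helper65_U3Defs
open Cfsg.Agent.Lib.Helper27_U3A_BAS4

namespace Cfsg.Agent.Lib.Helper80_U3A_S6Q3

open Subgroup

theorem nsyl_cases (n : ℕ) (h1 : n ∣ 32) (h2 : n % 7 = 1) : n = 1 ∨ n = 8 := by
  have hle : n ≤ 32 := Nat.le_of_dvd (by norm_num) h1
  interval_cases n <;> simp_all

/-- In a group of order `224`, some involution commutes with some element of order `7`. -/
theorem exists_invol_comm_seven {K : Type*} [Group K] [Finite K] (hK : Nat.card K = 224) :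
    ∃ τ s : K, orderOf τ = 2 ∧ orderOf s = 7 ∧ τ * s = s * τ := by
  have : Fact (Nat.Prime 7) := ⟨by norm_num⟩
  have : Fact (Nat.Prime 2) := ⟨by norm_num⟩
  obtain ⟨P⟩ : Nonempty (Sylow 7 K) := Sylow.nonempty
  have hPcard : Nat.card ↥(P : Subgroup K) = 7 := by
    rw [Sylow.card_eq_multiplicity P, hK]
    have : (224 : ℕ).factorization 7 = 1 := by
      have h224 : (224 : ℕ) = 7 ^ 1 * 32 := by norm_num
      rw [h224, Nat.factorization_mul (by norm_num) (by norm_num)]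
      have h32 : (32 : ℕ) = 2 ^ 5 := by norm_num
      rw [h32, Nat.Prime.factorization_pow (by norm_num : Nat.Prime 2),
        Nat.Prime.factorization_pow (by norm_num : Nat.Prime 7)]
      simp
    rw [this, pow_one]
  have hPidx : (P : Subgroup K).index = 32 := by
    have := (P : Subgroup K).card_mul_index
    rw [hPcard, hK] at this
    omega
  have hn1 : Nat.card (Sylow 7 K) ∣ 32 := hPidx ▸ P.card_dvd_index
  have hn2 : Nat.card (Sylow 7 K) % 7 = 1 := by
    have := card_sylow_modEq_one 7 K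
    exact this
  have hn := nsyl_cases _ hn1 hn2
  set N : Subgroup K := normalizer ((P : Subgroup K) : Set K) with hN
  have hNidx : N.index = Nat.card (Sylow 7 K) := (P.card_eq_index_normalizer).symm
  have hNcard : 4 ∣ Nat.card ↥N := by
    have := N.card_mul_index
    rw [hK, hNidx] at this
    rcases hn with h | h <;> rw [h] at this
    · exact ⟨56, by omega⟩
    · exact ⟨7, by omega⟩
  have hNdvd : Nat.card ↥N ∣ 224 := hK ▸ N.card_subgroup_dvd_card
  -- N / C embeds in Aut P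
  have key := card_dvd_of_injective _
    (QuotientGroup.kerLift_injective (P : Subgroup K).normalizerMonoidHom)
  rw [normalizerMonoidHom_ker, ← index] at key
  have hcyc : IsCyclic ↥(P : Subgroup K) := isCyclic_of_prime_card hPcard
  have haut : Nat.card (MulAut ↥(P : Subgroup K)) = 6 := by
    rw [IsCyclic.card_mulAut, hPcard]
    decide
  rw [haut] at key
  set C0 : Subgroup ↥N := (centralizer ((P : Subgroup K) : Set K)).subgroupOf N with hC0
  have hmul := C0.card_mul_index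
  have hidx2 : C0.index ∣ 2 := by
    have h1 : C0.index ∣ Nat.card ↥N := ⟨_, by rw [← hmul, mul_comm]⟩
    have h2 : C0.index ∣ 224 := h1.trans hNdvd
    have h3 : C0.index ∣ Nat.gcd 6 224 := Nat.dvd_gcd key h2
    have : Nat.gcd 6 224 = 2 := by norm_num
    rwa [this] at h3
  have heven : 2 ∣ Nat.card ↥C0 := by
    have hle : C0.index ≤ 2 := Nat.le_of_dvd (by norm_num) hidx2
    have hpos : 0 < C0.index := Nat.pos_of_dvd_of_pos hidx2 (by norm_num)
    obtain ⟨m, hm⟩ := hNcard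
    rw [hm] at hmul
    interval_cases h : C0.index
    · exact ⟨2 * m, by omega⟩
    · exact ⟨m, by omega⟩
  obtain ⟨τ, hτ⟩ := exists_prime_orderOf_dvd_card' 2 heven
  -- nontrivial element of P
  obtain ⟨s, hs⟩ : ∃ s : ↥(P : Subgroup K), s ≠ 1 := by
    have : Nontrivial ↥(P : Subgroup K) := by
      rw [← Finite.one_lt_card_iff_nontrivial, hPcard]; norm_num
    exact exists_ne 1
  have hso : orderOf s = 7 := by
    have h1 : orderOf s ∣ 7 := by
      have := orderOf_dvd_natCard s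
      rwa [hPcard] at this
    rcases (Nat.dvd_prime (by norm_num : Nat.Prime 7)).mp h1 with h | h
    · exact absurd (orderOf_eq_one_iff.mp h) hs
    · exact h
  refine ⟨((τ : ↥N) : K), (s : K), ?_, ?_, ?_⟩
  · rw [Subgroup.orderOf_coe, Subgroup.orderOf_coe, hτ]
  · rw [Subgroup.orderOf_coe, hso]
  · have hmem : ((τ : ↥N) : K) ∈ centralizer ((P : Subgroup K) : Set K) := by
      have h0 : (τ : ↥N) ∈ (centralizer ((P : Subgroup K) : Set K)).subgroupOf N := τ.2
      exact mem_subgroupOf.mp h0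
    rw [mem_centralizer_iff] at hmem
    exact (hmem (s : K) s.2).symm


variable {p q : ℕ} {F G U : Type*} [Field F] [Group G] [MulAction G U]
variable {D : U3Data p q F G U} {H : Subgroup G}

theorem step6_q3_aux
    (hmemB : ∀ g ∈ H ⊓ D.B, ∃ z ∈ H ⊓ D.Q, ∃ s ∈ H ⊓ D.T, g = z * s)
    (hcardH : Nat.card ↥H = (q ^ 3 + 1) * (Nat.card ↥(H ⊓ D.Q) * Nat.card ↥(H ⊓ D.T)))
    (hT1fix : ∀ s ∈ D.T1, s ≠ 1 → ∀ w : U, s • w = w ↔ w ∈ D.Blk)
    (hprime : ∀ (s g : G) (l : ℕ), l.Prime → orderOf s = l → q + 1 < l →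
      (∀ v ∈ D.Blk, (g⁻¹ * s * g) • v ∈ D.Blk) → l ∣ q ^ 3 * Nat.card ↥D.T)
    (hG : Good D H) (hq : q = 3) (hr : H ⊓ D.Q = ⊥) (hT : D.T ≤ H) : False := by
  subst hq
  have := D.finG
  have hHB := Cfsg.Agent.Lib.Helper80_U3A_S6D2.inf_B_eq_T hmemB hr hT
  have hcyc : IsCyclic ↥D.T := isCyclic_T D
  have hT1T : D.T1 ≤ D.T := D.T1_le_T
  -- p = 3
  have hp3 : p = 3 := by
    have hpq : p ∣ 3 := by
      have h3 := D.hq
      rw [h3]; exact dvd_pow_self p D.hk.ne'
    exact (Nat.prime_dvd_prime_iff_eq D.hp (by norm_num)).mp hpq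
  have hp2 : p ≠ 2 := by omega
  -- cards
  have hcT : Nat.card ↥D.T = 8 := by
    have h := card_T D
    have : Nat.gcd 3 (3 + 1) = 1 := by norm_num
    rw [this] at h
    omega
  have hcT1 : Nat.card ↥D.T1 = 4 := by
    have h := card_T1 D
    have : Nat.gcd 3 (3 + 1) = 1 := by norm_num
    rw [this] at h
    omega
  have hcH : Nat.card ↥H = 224 := by
    have h := hcardH
    rw [hr, Subgroup.card_bot, one_mul, inf_eq_right.mpr hT, hcT] at h
    rw [h]; norm_num
  obtain ⟨τ, s, hτ, hs, hcomm⟩ := exists_invol_comm_seven hcH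
  have hτG : orderOf (τ : G) = 2 := by rw [Subgroup.orderOf_coe, hτ]
  have hsG : orderOf (s : G) = 7 := by rw [Subgroup.orderOf_coe, hs]
  have hcommG : (τ : G) * (s : G) = (s : G) * (τ : G) := by
    have := congrArg Subtype.val hcomm
    simpa using this
  obtain ⟨w, hw⟩ := D.inv_fix hp2 (τ : G) hτG
  obtain ⟨h, hh, hhw⟩ := hG.trans D.u w
  -- τ' = h⁻¹ τ h ∈ T
  have hτ'T : h⁻¹ * (τ : G) * h ∈ D.T := by
    rw [← hHB]
    refine ⟨H.mul_mem (H.mul_mem (H.inv_mem hh) τ.2) hh, ?_⟩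
    show h⁻¹ * (τ : G) * h ∈ D.B
    rw [D.mem_B, mul_smul, mul_smul, hhw, hw, ← hhw, inv_smul_smul]
  have hτ'sq : (h⁻¹ * (τ : G) * h) ^ 2 = 1 := by
    have h2 : (τ : G) ^ 2 = 1 := by rw [← hτG]; exact pow_orderOf_eq_one _
    have : (h⁻¹ * (τ : G) * h) ^ 2 = h⁻¹ * (τ : G) ^ 2 * h := by
      rw [pow_two, pow_two]; group
    rw [this, h2]; group
  have hτ'ne : h⁻¹ * (τ : G) * h ≠ 1 := by
    intro h1
    have : (τ : G) = 1 := by
      have h2 : (τ : G) = h * (h⁻¹ * (τ : G) * h) * h⁻¹ := by group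
      rw [h2, h1]; group
    rw [this, orderOf_one] at hτG
    omega
  -- τ' ∈ T1 (unique subgroup of order 4 of the cyclic group T)
  have hτ'T1 : h⁻¹ * (τ : G) * h ∈ D.T1 := by
    have hset := Cfsg.Agent.Lib.Helper80_U3A_S6D2.coe_eq_setOf_pow_eq_one (D.T1.subgroupOf D.T)
    rw [Cfsg.Agent.Lib.Helper80_U3A_S6D2.card_subgroupOf_le hT1T, hcT1] at hset
    have hmem : (⟨h⁻¹ * (τ : G) * h, hτ'T⟩ : ↥D.T) ∈ ((D.T1.subgroupOf D.T : Subgroup ↥D.T) : Set ↥D.T) := by
      rw [hset]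
      show (⟨h⁻¹ * (τ : G) * h, hτ'T⟩ : ↥D.T) ^ 4 = 1
      apply Subtype.ext
      rw [Subgroup.coe_pow, Subgroup.coe_one]
      show (h⁻¹ * (τ : G) * h) ^ 4 = 1
      have : (h⁻¹ * (τ : G) * h) ^ 4 = ((h⁻¹ * (τ : G) * h) ^ 2) ^ 2 := by rw [← pow_mul]
      rw [this, hτ'sq, one_pow]
    exact Subgroup.mem_subgroupOf.mp hmem
  -- s' = h⁻¹ s h stabilises Blk
  have hstab : ∀ v ∈ D.Blk, (h⁻¹ * (s : G) * h) • v ∈ D.Blk := by
    intro v hv
    rw [← hT1fix _ hτ'T1 hτ'ne]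
    have hfix : (h⁻¹ * (τ : G) * h) • v = v := (hT1fix _ hτ'T1 hτ'ne v).mpr hv
    have hc : (h⁻¹ * (τ : G) * h) * (h⁻¹ * (s : G) * h) = (h⁻¹ * (s : G) * h) * (h⁻¹ * (τ : G) * h) := by
      have e1 : (h⁻¹ * (τ : G) * h) * (h⁻¹ * (s : G) * h) = h⁻¹ * ((τ : G) * (s : G)) * h := by group
      have e2 : (h⁻¹ * (s : G) * h) * (h⁻¹ * (τ : G) * h) = h⁻¹ * ((s : G) * (τ : G)) * h := by group
      rw [e1, e2, hcommG]
    rw [← mul_smul, hc, mul_smul, hfix]
  have hdvd := hprime (s : G) h 7 (by norm_num : Nat.Prime 7) hsG (by norm_num) hstab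
  rw [hcT] at hdvd
  norm_num at hdvd

end Cfsg.Agent.Lib.Helper80_U3A_S6Q3
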