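/-
U3A market (S2148 abstract half, architect helper65), package S5B: Step 5 of the minimal index of `PSU_3(q)`, the
case of a point stabiliser `(H ∩ Q)(H ∩ T)` with `|H ∩ Q| = q`, `H ∩ Z = 1` and `|H ∩ T|` even.  The centraliser in
`H` of the involution of `H ∩ T` acts on the block through `u, u'` as in Dickson's second input.
-/
import Mathlib
import Cfsg.Agent.Lib.Helper65_U3Defs

set_option autoImplicit false
set_option linter.unusedSectionVars false
set_option linter.unusedVariables false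

namespace Cfsg.Agent.Lib.Helper81_U3A_S5Baux

open Cfsg.Agent.Lib.Helper65_U3Defs

/-! ### General lemmas -/

section General

variable {G : Type*} [Group G]

/-- Two involutions of a finite cyclic subgroup coincide. -/
theorem eq_of_involutions_of_isCyclic [Finite G] {T : Subgroup G} (hT : IsCyclic ↥T) {a b : G} (ha : a ∈ T)
    (hb : b ∈ T) (ha2 : a * a = 1) (hb2 : b * b = 1) (ha1 : a ≠ 1) (hb1 : b ≠ 1) : a = b := by
  classical
  have := Fintype.ofFinite ↥T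
  by_contra hab
  have hle := IsCyclic.card_pow_eq_one_le (α := ↥T) (n := 2) (by norm_num)
  have hsub : ({1, ⟨a, ha⟩, ⟨b, hb⟩} : Finset ↥T) ⊆ Finset.univ.filter fun x : ↥T => x ^ 2 = 1 := by
    intro x hx
    simp only [Finset.mem_insert, Finset.mem_singleton] at hx
    rw [Finset.mem_filter]
    refine ⟨Finset.mem_univ _, ?_⟩
    rcases hx with rfl | rfl | rfl
    · exact one_pow _
    · exact Subtype.ext (by rw [Subgroup.coe_pow, sq]; exact ha2)
    · exact Subtype.ext (by rw [Subgroup.coe_pow, sq]; exact hb2)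
  have h3 : ({1, ⟨a, ha⟩, ⟨b, hb⟩} : Finset ↥T).card = 3 := by
    rw [Finset.card_insert_of_notMem, Finset.card_insert_of_notMem, Finset.card_singleton]
    · rw [Finset.mem_singleton]
      intro h
      exact hab (congrArg Subtype.val h)
    · rw [Finset.mem_insert, Finset.mem_singleton]
      rintro (h | h)
      · exact ha1 (congrArg Subtype.val h).symm
      · exact hb1 (congrArg Subtype.val h).symm
  have := Finset.card_le_card hsub
  omega

/-- A subgroup of even order contains an involution. -/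
theorem exists_involution_of_even_card [Finite G] (K : Subgroup G) (h : 2 ∣ Nat.card ↥K) :
    ∃ g ∈ K, g * g = 1 ∧ g ≠ 1 := by
  have : Fact (Nat.Prime 2) := ⟨Nat.prime_two⟩
  obtain ⟨x, hx⟩ := exists_prime_orderOf_dvd_card' (G := ↥K) 2 h
  refine ⟨x, x.2, ?_, ?_⟩
  · have := pow_orderOf_eq_one x
    rw [hx, sq] at this
    exact congrArg Subtype.val this
  · intro h1
    have : x = 1 := Subtype.ext h1
    rw [this, orderOf_one] at hx
    omega

/-- Orbit-stabiliser for a subgroup: if the orbit of `u` under `C` is `S`, then `|C| = |S| * |C ∩ G_u|`. -/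
theorem card_eq_card_orbit_mul {U : Type*} [MulAction G U] (C : Subgroup G) (u : U) (S : Set U)
    (hS : ∀ w, w ∈ S ↔ ∃ c ∈ C, c • u = w) :
    Nat.card ↥C = Nat.card ↥S * Nat.card ↥(C ⊓ MulAction.stabilizer G u) := by
  have h1 := Subgroup.card_eq_card_quotient_mul_card_subgroup (MulAction.stabilizer ↥C u)
  have h2 : Nat.card (↥C ⧸ MulAction.stabilizer ↥C u) = Nat.card ↥S := by
    rw [← Nat.card_congr (MulAction.orbitEquivQuotientStabilizer ↥C u)]
    apply Nat.card_congr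
    apply Equiv.setCongr
    ext w
    rw [hS, MulAction.mem_orbit_iff]
    constructor
    · rintro ⟨c, rfl⟩
      exact ⟨c, c.2, rfl⟩
    · rintro ⟨c, hc, rfl⟩
      exact ⟨⟨c, hc⟩, rfl⟩
  have h3 : Nat.card ↥(MulAction.stabilizer ↥C u) = Nat.card ↥(C ⊓ MulAction.stabilizer G u) := by
    apply Nat.card_congr
    refine ⟨fun x => ⟨x.1.1, x.1.2, x.2⟩, fun y => ⟨⟨y.1, y.2.1⟩, y.2.2⟩, fun x => rfl, fun y => rfl⟩
  rw [h1, h2, h3]

end General

/-! ### The configuration -/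

section Steps

variable {p q : ℕ} {F G U : Type*} [Field F] [Group G] [MulAction G U]
variable {D : U3Data p q F G U} {H : Subgroup G}

/-- The statements of the other packages of the market which Step 5B uses (BAS1-6, S2E, FLD-B). -/
structure Deps (D : U3Data p q F G U) : Prop where
  x_inj : ∀ {a b a' b' : F}, Helper65_U3Defs.Rel q a b → Helper65_U3Defs.Rel q a' b' → D.x a b = D.x a' b' →
    a = a' ∧ b = b'
  x_comm : ∀ {a b a' b' : F}, Helper65_U3Defs.Rel q a b → Helper65_U3Defs.Rel q a' b' →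
    D.x a b * D.x a' b' = D.x a' b' * D.x a b * D.x 0 (a * a' ^ q - a ^ q * a')
  Q_inf_T : D.Q ⊓ D.T = ⊥
  conj_Q_of_mem_B : ∀ {g : G}, g ∈ D.B → ∀ {z : G}, z ∈ D.Q → g * z * g⁻¹ ∈ D.Q
  card_Q : Nat.card ↥D.Q = q ^ 3
  card_T : Nat.card ↥D.T * Nat.gcd 3 (q + 1) = q ^ 2 - 1
  card_T1 : Nat.card ↥D.T1 * Nat.gcd 3 (q + 1) = q + 1
  isCyclic_T : IsCyclic ↥D.T
  T_semireg : ∀ {s : G}, s ∈ D.T → s ≠ 1 → ∀ {z : G}, z ∈ D.Q → s * z * s⁻¹ * z⁻¹ ∈ D.Z → z ∈ D.Z
  blkFix_eq : D.blkFix = D.T1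
  card_Blk : Nat.card ↥D.Blk = q + 1
  T1_fix : ∀ {s : G}, s ∈ D.T1 → s ≠ 1 → ∀ w : U, s • w = w ↔ w ∈ D.Blk
  good_mem_inf_B : ∀ {H : Subgroup G}, Good D H → ∀ {g : G}, g ∈ H ⊓ D.B →
    ∃ z ∈ H ⊓ D.Q, ∃ s ∈ H ⊓ D.T, g = z * s
  comm_zero_iff : ∀ {a a' : F}, a ≠ 0 → (a * a' ^ q - a ^ q * a' = 0 ↔ ∃ c : F, c ^ q = c ∧ a' = c * a)
  homology_pow_six : p ≠ 2 → ∀ l : Fˣ, l ^ (q + 1) = 1 →
    ((l : F) ^ (2 * q - 1)) ^ q = (l : F) ^ (2 * q - 1) → l ^ 6 = 1

/-- `T` is commutative. -/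
theorem T_comm (D : U3Data p q F G U) {a b : G} (ha : a ∈ D.T) (hb : b ∈ D.T) : a * b = b * a := by
  obtain ⟨l, rfl⟩ := D.mem_T.mp ha
  obtain ⟨l', rfl⟩ := D.mem_T.mp hb
  rw [← map_mul, ← map_mul, mul_comm]

theorem odd_q (D : U3Data p q F G U) (hp2 : p ≠ 2) : Odd q := by
  rw [D.hq]
  exact (D.hp.odd_of_ne_two hp2).pow

/-- The commutator form has trace zero. -/
theorem beta_trace (D : U3Data p q F G U) (a a' : F) :
    (a * a' ^ q - a ^ q * a') + (a * a' ^ q - a ^ q * a') ^ q = 0 := by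
  have := D.charF
  have hpp : Fact p.Prime := ⟨D.hp⟩
  have hsub : ∀ c d : F, (c - d) ^ q = c ^ q - d ^ q := by
    intro c d
    rw [D.hq]
    exact sub_pow_char_pow c d D.k
  rw [hsub, mul_pow, mul_pow, D.frob_sq, D.frob_sq]
  ring

/-- If `H ⊓ Z = ⊥`, the commutator form vanishes on two elements `x a b`, `x a' b'` of `H`. -/
theorem beta_eq_zero (hd : Deps D) (hy : H ⊓ D.Z = ⊥) {a b a' b' : F} (h : Rel q a b)
    (h' : Rel q a' b') (h1 : D.x a b ∈ H) (h2 : D.x a' b' ∈ H) : a * a' ^ q - a ^ q * a' = 0 := by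
  have hc := hd.x_comm h h'
  have hβ := beta_trace D a a'
  have hz : D.x 0 (a * a' ^ q - a ^ q * a') ∈ D.Z := D.mem_Z.mpr ⟨_, hβ, rfl⟩
  have hH : D.x 0 (a * a' ^ q - a ^ q * a') ∈ H := by
    have : D.x 0 (a * a' ^ q - a ^ q * a') = (D.x a' b' * D.x a b)⁻¹ * (D.x a b * D.x a' b') := by
      rw [hc]
      group
    rw [this]
    exact H.mul_mem (H.inv_mem (H.mul_mem h2 h1)) (H.mul_mem h1 h2)
  have h3 : D.x 0 (a * a' ^ q - a ^ q * a') = 1 := by
    have : D.x 0 (a * a' ^ q - a ^ q * a') ∈ H ⊓ D.Z := ⟨hH, hz⟩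
    rw [hy] at this
    exact Subgroup.mem_bot.mp this
  rw [← D.x_zero_zero] at h3
  exact (hd.x_inj ((D.rel_zero_iff _).mpr hβ) D.rel_zero_zero h3).2

/-- An involution of `T` lies in `T1`. -/
theorem involution_mem_T1 (hd : Deps D) (hp2 : p ≠ 2) {τ : G} (hτT : τ ∈ D.T) (hτ2 : τ * τ = 1)
    (hτ1 : τ ≠ 1) : τ ∈ D.T1 := by
  have := D.finG
  have heven : 2 ∣ Nat.card ↥D.T1 := by
    have h := hd.card_T1
    have hq : Odd q := odd_q D hp2
    have h2 : 2 ∣ Nat.card ↥D.T1 * Nat.gcd 3 (q + 1) := by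
      rw [h]
      exact (hq.add_odd odd_one).two_dvd
    have hg : Nat.Coprime 2 (Nat.gcd 3 (q + 1)) :=
      Nat.Coprime.coprime_dvd_right (Nat.gcd_dvd_left 3 (q + 1)) (by norm_num)
    exact hg.dvd_of_dvd_mul_right h2
  obtain ⟨g, hg, hg2, hg1⟩ := exists_involution_of_even_card D.T1 heven
  have := eq_of_involutions_of_isCyclic hd.isCyclic_T hτT (D.T1_le_T hg) hτ2 hg2 hτ1 hg1
  rw [this]
  exact hg

/-- An involution of `H ⊓ B` is conjugate under `H ⊓ Q` to the involution `τ` of `H ⊓ T`. -/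
theorem involution_conj (hd : Deps D) (hG : Good D H) (hp2 : p ≠ 2) (hr : Nat.card ↥(H ⊓ D.Q) = q) {τ : G} (hτT : τ ∈ D.T)
    (hτ2 : τ * τ = 1) (hτ1 : τ ≠ 1) {σ : G} (hσ : σ ∈ H ⊓ D.B) (hσ2 : σ * σ = 1) (hσ1 : σ ≠ 1) :
    ∃ k ∈ H ⊓ D.Q, σ = k * τ * k⁻¹ := by
  have := D.finG
  obtain ⟨z, hz, s, hs, rfl⟩ := hd.good_mem_inf_B hG hσ
  have hsB : s ∈ D.B := D.T_le_B hs.2
  have hconj : s * z * s⁻¹ ∈ D.Q := hd.conj_Q_of_mem_B hsB hz.2
  have hs2 : s * s = 1 := by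
    have e : s * s = (z * (s * z * s⁻¹))⁻¹ := by
      have : z * (s * z * s⁻¹) * (s * s) = z * s * (z * s) := by group
      rw [hσ2] at this
      exact eq_inv_of_mul_eq_one_right this
    have hm : s * s ∈ D.Q ⊓ D.T :=
      ⟨by rw [e]; exact D.Q.inv_mem (D.Q.mul_mem hz.2 hconj), D.T.mul_mem hs.2 hs.2⟩
    rw [hd.Q_inf_T] at hm
    exact Subgroup.mem_bot.mp hm
  have hs1 : s ≠ 1 := by
    intro h
    subst h
    rw [mul_one] at hσ2 hσ1
    have ho : orderOf z = 2 := orderOf_eq_prime (by rw [sq]; exact hσ2) hσ1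
    have hdv : orderOf (⟨z, hz.2⟩ : ↥D.Q) ∣ Nat.card ↥D.Q := orderOf_dvd_natCard _
    rw [hd.card_Q, Subgroup.orderOf_mk, ho] at hdv
    have : Odd (q ^ 3) := (odd_q D hp2).pow
    exact absurd (even_iff_two_dvd.mpr hdv) (Nat.not_even_iff_odd.mpr this)
  have hst : s = τ := eq_of_involutions_of_isCyclic hd.isCyclic_T hs.2 hτT hs2 hτ2 hs1 hτ1
  subst hst
  have hinvτ : s⁻¹ = s := inv_eq_of_mul_eq_one_right hτ2
  have hconjz : s * z * s⁻¹ = z⁻¹ := by
    rw [hinvτ]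
    have : z * (s * z * s) = 1 := by
      rw [← hσ2]
      group
    exact eq_inv_of_mul_eq_one_right this
  have hzq : z ^ q = 1 := by
    have := pow_card_eq_one' (G := ↥(H ⊓ D.Q)) (x := ⟨z, hz⟩)
    rw [hr] at this
    have := congrArg Subtype.val this
    rwa [Subgroup.coe_pow] at this
  obtain ⟨m, hm⟩ : ∃ m, q + 1 = m + m := (odd_q D hp2).add_odd odd_one
  have hk2 : z ^ m * z ^ m = z := by
    rw [← pow_add, ← hm, pow_succ, hzq, one_mul]
  have hkconj : s * z ^ m * s⁻¹ = (z ^ m)⁻¹ := by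
    rw [← conj_pow, hconjz, inv_pow]
  refine ⟨z ^ m, (H ⊓ D.Q).pow_mem hz m, ?_⟩
  calc z * s = z ^ m * z ^ m * s := by rw [hk2]
    _ = z ^ m * (s * z ^ m * s⁻¹)⁻¹ * s := by rw [hkconj, inv_inv]
    _ = z ^ m * s * (z ^ m)⁻¹ := by group

/-- An element of `H ⊓ T1` has square one. -/
theorem sq_eq_one_of_mem_T1 (hd : Deps D) (hp2 : p ≠ 2) (hy : H ⊓ D.Z = ⊥)
    (hr : Nat.card ↥(H ⊓ D.Q) = q) {s : G} (hsH : s ∈ H) (hs : s ∈ D.T1) : s * s = 1 := by
  have := D.finG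
  have := D.finiteF
  have : Fact p.Prime := ⟨D.hp⟩
  have := D.charF
  obtain ⟨l, hl, rfl⟩ := D.mem_T1.mp hs
  have hq2 := D.two_le_q
  obtain ⟨y, hy1⟩ : ∃ y : ↥(H ⊓ D.Q), y ≠ 1 := by
    have : Nontrivial ↥(H ⊓ D.Q) := (Finite.one_lt_card_iff_nontrivial).mp (by rw [hr]; omega)
    exact exists_ne 1
  obtain ⟨a0, b0, hrel, hx⟩ := D.mem_Q.mp y.2.2
  have hxH : D.x a0 b0 ∈ H := hx ▸ y.2.1
  have ha0 : a0 ≠ 0 := by
    intro h
    subst h
    have : (y : G) ∈ H ⊓ D.Z := ⟨y.2.1, D.mem_Z.mpr ⟨b0, (D.rel_zero_iff b0).mp hrel, hx⟩⟩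
    rw [hy] at this
    exact hy1 (Subtype.ext (Subgroup.mem_bot.mp this))
  have hN : (l : F) ^ (q + 1) = 1 := by
    have := congrArg Units.val hl
    rwa [Units.val_pow_eq_pow_val, Units.val_one] at this
  have hconj := D.t_conj l a0 b0 hrel
  rw [hN, one_mul] at hconj
  have hνq1 : ((l : F) ^ (2 * q - 1)) ^ (q + 1) = 1 := by
    rw [← pow_mul, mul_comm, pow_mul, hN, one_pow]
  have hrel' : Rel q ((l : F) ^ (2 * q - 1) * a0) b0 := by
    unfold Cfsg.Agent.Lib.Helper65_U3Defs.Rel at hrel ⊢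
    have : (l : F) ^ (2 * q - 1) * a0 * ((l : F) ^ (2 * q - 1) * a0) ^ q
        = ((l : F) ^ (2 * q - 1)) ^ (q + 1) * (a0 * a0 ^ q) := by ring
    rw [this, hνq1, one_mul]
    exact hrel
  have hmem : D.x ((l : F) ^ (2 * q - 1) * a0) b0 ∈ H := by
    rw [← hconj]
    exact H.mul_mem (H.mul_mem hsH hxH) (H.inv_mem hsH)
  have hβ := beta_eq_zero hd hy hrel hrel' hxH hmem
  obtain ⟨c, hc, hca⟩ := (hd.comm_zero_iff ha0).mp hβ
  have hνc : (l : F) ^ (2 * q - 1) = c := mul_right_cancel₀ ha0 hca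
  have hνq : ((l : F) ^ (2 * q - 1)) ^ q = (l : F) ^ (2 * q - 1) := by
    rw [hνc]
    exact hc
  have h6 := hd.homology_pow_six hp2 l hl hνq
  rw [← map_mul, ← sq, D.t_ker]
  refine ⟨?_, ?_⟩
  · rw [← pow_mul, mul_comm, pow_mul, hl, one_pow]
  · rw [← pow_mul]
    exact h6

/-- **S5B**, from the statements of the packages it depends on. -/
theorem step5B_of_deps (hd : Deps D) (h2 : Dickson2 D) (hG : Good D H) (hp2 : p ≠ 2) (hy : H ⊓ D.Z = ⊥)
    (hr : Nat.card ↥(H ⊓ D.Q) = q) (e : ℕ) (he : Nat.card ↥(H ⊓ D.T) = 2 * e) :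
    e ≤ 2 ∨ (q + 1) * e = 12 ∨ (q + 1) * e = 24 ∨ (q + 1) * e = 60 := by
  have := D.finG
  -- the involution of `H ⊓ T`
  obtain ⟨τ, hτ, hτ2, hτ1⟩ := exists_involution_of_even_card (H ⊓ D.T) (by rw [he]; exact dvd_mul_right 2 e)
  have hτT1 := involution_mem_T1 hd hp2 hτ.2 hτ2 hτ1
  have hfix : ∀ w, τ • w = w ↔ w ∈ D.Blk := hd.T1_fix hτT1 hτ1
  obtain ⟨C, hC⟩ : ∃ C : Subgroup G, C = H ⊓ Subgroup.centralizer {τ} := ⟨_, rfl⟩
  have hmemC : ∀ g, g ∈ C ↔ g ∈ H ∧ τ * g = g * τ := by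
    intro g
    rw [hC, Subgroup.mem_inf, Subgroup.mem_centralizer_singleton_iff, eq_comm]
  -- `C` stabilises the block
  have hstab : ∀ c ∈ C, ∀ w ∈ D.Blk, c • w ∈ D.Blk := by
    intro c hc w hw
    rw [← hfix, ← mul_smul, ((hmemC c).mp hc).2, mul_smul, (hfix w).mpr hw]
  -- `C ⊓ B = H ⊓ T`
  have hCB : C ⊓ D.B = H ⊓ D.T := by
    ext g
    constructor
    · rintro ⟨hgC, hgB⟩
      obtain ⟨hgH, hcomm⟩ := (hmemC g).mp hgC
      obtain ⟨z, hz, s, hs, rfl⟩ := hd.good_mem_inf_B hG ⟨hgH, hgB⟩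
      have hsτ : τ * s = s * τ := T_comm D hτ.2 hs.2
      have hzτ : τ * z = z * τ := by
        have : τ * z * s = z * τ * s := by
          rw [mul_assoc z τ s, hsτ, ← mul_assoc z s τ, mul_assoc τ z s]
          exact hcomm
        exact mul_right_cancel this
      have hzZ : z ∈ D.Z := by
        apply hd.T_semireg hτ.2 hτ1 hz.2
        have : τ * z * τ⁻¹ * z⁻¹ = 1 := by
          rw [hzτ]
          group
        rw [this]
        exact D.Z.one_mem
      have hz1 : z = 1 := by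
        have : z ∈ H ⊓ D.Z := ⟨hz.1, hzZ⟩
        rw [hy] at this
        exact Subgroup.mem_bot.mp this
      rw [hz1, one_mul]
      exact hs
    · rintro ⟨hgH, hgT⟩
      exact ⟨(hmemC g).mpr ⟨hgH, T_comm D hτ.2 hgT⟩, D.T_le_B hgT⟩
  -- `C` is transitive on the block
  have htrans : ∀ w ∈ D.Blk, ∃ c ∈ C, c • D.u = w := by
    intro w hw
    obtain ⟨h, hh, rfl⟩ := hG.trans D.u w
    have hσB : h⁻¹ * τ * h ∈ H ⊓ D.B := by
      refine ⟨H.mul_mem (H.mul_mem (H.inv_mem hh) hτ.1) hh, D.mem_B.mpr ?_⟩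
      rw [mul_smul, mul_smul, (hfix _).mpr hw, inv_smul_smul]
    have hσ2 : (h⁻¹ * τ * h) * (h⁻¹ * τ * h) = 1 := by
      have : (h⁻¹ * τ * h) * (h⁻¹ * τ * h) = h⁻¹ * (τ * τ) * h := by group
      rw [this, hτ2]
      group
    have hσ1 : h⁻¹ * τ * h ≠ 1 := by
      intro h1
      apply hτ1
      have : τ = h * (h⁻¹ * τ * h) * h⁻¹ := by group
      rw [this, h1]
      group
    obtain ⟨k, hk, hkk⟩ := involution_conj hd hG hp2 hr hτ.2 hτ2 hτ1 hσB hσ2 hσ1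
    refine ⟨h * k, (hmemC _).mpr ⟨H.mul_mem hh hk.1, ?_⟩, ?_⟩
    · have e1 : τ * h = h * (k * τ * k⁻¹) := by
        rw [← hkk]
        group
      calc τ * (h * k) = τ * h * k := by group
        _ = h * (k * τ * k⁻¹) * k := by rw [e1]
        _ = h * k * τ := by group
    · rw [mul_smul, D.mem_B.mp (D.Q_le_B hk.2)]
  -- `C ⊓ blkFix` has order two
  have hCfix : Nat.card ↥(C ⊓ D.blkFix) = 2 := by
    rw [hd.blkFix_eq]
    have hz : C ⊓ D.T1 = Subgroup.zpowers τ := by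
      ext g
      constructor
      · rintro ⟨hgC, hgT1⟩
        have hgH := ((hmemC g).mp hgC).1
        have hg2 := sq_eq_one_of_mem_T1 hd hp2 hy hr hgH hgT1
        by_cases hg1 : g = 1
        · rw [hg1]
          exact Subgroup.one_mem _
        · have := eq_of_involutions_of_isCyclic hd.isCyclic_T (D.T1_le_T hgT1) hτ.2 hg2 hτ2 hg1 hτ1
          rw [this]
          exact Subgroup.mem_zpowers τ
      · intro hg
        obtain ⟨n, rfl⟩ := Subgroup.mem_zpowers_iff.mp hg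
        exact (C ⊓ D.T1).zpow_mem ⟨(hmemC τ).mpr ⟨hτ.1, rfl⟩, hτT1⟩ n
    rw [hz, Nat.card_zpowers, orderOf_eq_prime (by rw [sq]; exact hτ2) hτ1]
  -- the order of `C`
  have hcardC : Nat.card ↥C = (q + 1) * (2 * e) := by
    have hu : D.u ∈ D.Blk := D.mem_Blk.mpr (Or.inl rfl)
    have h := card_eq_card_orbit_mul C D.u D.Blk
      (fun w => ⟨htrans w, fun ⟨c, hc, hcw⟩ => hcw ▸ hstab c hc D.u hu⟩)
    rw [hd.card_Blk] at h
    change Nat.card ↥C = (q + 1) * Nat.card ↥(C ⊓ D.B) at h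
    rw [hCB, he] at h
    exact h
  have hcop : (Nat.card ↥C).Coprime p := by
    rw [hcardC]
    have hpq : p ∣ q := by
      rw [D.hq]
      exact dvd_pow_self p D.hk.ne'
    have h1 : ¬ p ∣ q + 1 := by
      intro h
      have := (Nat.dvd_add_right hpq).mp h
      exact D.hp.one_lt.ne' (Nat.dvd_one.mp this)
    have h2' : ¬ p ∣ 2 * e := by
      intro h
      have h3 : 2 * e ∣ Nat.card ↥D.T := by
        rw [← he]
        exact Subgroup.card_dvd_of_le inf_le_right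
      have h4 : Nat.card ↥D.T ∣ q ^ 2 - 1 := ⟨_, (hd.card_T).symm⟩
      have h5 : p ∣ q ^ 2 - 1 := h.trans (h3.trans h4)
      have h6 : p ∣ q ^ 2 := dvd_pow hpq (by norm_num)
      have h7 : q ^ 2 - 1 + 1 = q ^ 2 := Nat.sub_add_cancel (Nat.one_le_pow _ _ D.q_pos)
      rw [← h7] at h6
      have := (Nat.dvd_add_right h5).mp h6
      exact D.hp.one_lt.ne' (Nat.dvd_one.mp this)
    exact Nat.Coprime.mul_left ((D.hp.coprime_iff_not_dvd.mpr h1).symm) ((D.hp.coprime_iff_not_dvd.mpr h2').symm)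
  have hcyc : IsCyclic ↥(C ⊓ D.B) := by
    rw [hCB]
    have := hd.isCyclic_T
    exact Subgroup.isCyclic_of_le (inf_le_right : H ⊓ D.T ≤ D.T)
  exact h2 C e hstab hcop htrans hcyc (by rw [hCB, he, hCfix, mul_comm])

end Steps

end Cfsg.Agent.Lib.Helper81_U3A_S5Baux
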