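import Mathlib
import Cfsg.Agent.Lib.Helper65_U3Defs
import Cfsg.Agent.Lib.Helper65_U3A_BAS1
import Cfsg.Agent.Lib.Helper27_U3A_BAS4
import Cfsg.Agent.Lib.Helper69_U3A_S2A

set_option autoImplicit false
set_option linter.unusedSectionVars false
set_option linter.unusedVariables false

/-!
# U3A-S2E (architect helper65, S2148 abstract half): consequences of `Good D H`
-/

open Cfsg.Agent.Lib.Helper65_U3Defs

namespace Cfsg.Agent.Lib.Helper82_U3A_S2E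

variable {p q : ℕ} {F G U : Type*} [Field F] [Group G] [MulAction G U]
variable {D : U3Data p q F G U} {H : Subgroup G}

/-- `good_card_H` from the orbit-stabiliser count. -/
theorem good_card_H_aux (hG : Good D H)
    (hcard : Nat.card ↥H = (q ^ 3 + 1) * Nat.card ↥(H ⊓ D.B)) :
    Nat.card ↥H = (q ^ 3 + 1) * (Nat.card ↥(H ⊓ D.Q) * Nat.card ↥(H ⊓ D.T)) := by
  rw [hcard, hG.split]

/-- `good_ineq` from `card_G` and the count of `H`. -/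
theorem good_ineq_aux (hG : Good D H)
    (hcardG : Nat.card G = (q ^ 3 + 1) * (q ^ 3 * Nat.card ↥D.T))
    (hcard : Nat.card ↥H = (q ^ 3 + 1) * Nat.card ↥(H ⊓ D.B)) :
    Nat.card ↥D.T ≤ Nat.card ↥(H ⊓ D.Q) * Nat.card ↥(H ⊓ D.T) := by
  have hH := good_card_H_aux hG hcard
  have hmul := Subgroup.card_mul_index H
  have hle := hG.le
  have hq3 : 0 < q ^ 3 := pow_pos D.q_pos 3
  set r := Nat.card ↥(H ⊓ D.Q) * Nat.card ↥(H ⊓ D.T) with hr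
  have h1 : (q ^ 3 + 1) * (q ^ 3 * Nat.card ↥D.T) ≤ (q ^ 3 + 1) * r * q ^ 3 := by
    calc (q ^ 3 + 1) * (q ^ 3 * Nat.card ↥D.T) = Nat.card ↥H * H.index := by
          rw [hmul, hcardG]
      _ ≤ Nat.card ↥H * q ^ 3 := Nat.mul_le_mul_left _ hle
      _ = (q ^ 3 + 1) * r * q ^ 3 := by rw [hH]
  have h2 : (q ^ 3 + 1) * q ^ 3 * Nat.card ↥D.T ≤ (q ^ 3 + 1) * q ^ 3 * r := by
    calc (q ^ 3 + 1) * q ^ 3 * Nat.card ↥D.T = (q ^ 3 + 1) * (q ^ 3 * Nat.card ↥D.T) := by ring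
      _ ≤ (q ^ 3 + 1) * r * q ^ 3 := h1
      _ = (q ^ 3 + 1) * q ^ 3 * r := by ring
  exact Nat.le_of_mul_le_mul_left h2 (Nat.mul_pos (Nat.succ_pos _) hq3)

/-- `good_mem_inf_B` from `Q ⊓ T = ⊥`. -/
theorem good_mem_inf_B_aux (hG : Good D H) (hQT : D.Q ⊓ D.T = ⊥) {g : G} (hg : g ∈ H ⊓ D.B) :
    ∃ z ∈ H ⊓ D.Q, ∃ s ∈ H ⊓ D.T, g = z * s := by
  classical
  have := D.finG
  -- the product map
  let f : ↥(H ⊓ D.Q) × ↥(H ⊓ D.T) → ↥(H ⊓ D.B) := fun zs =>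
    ⟨(zs.1 : G) * (zs.2 : G), Subgroup.mem_inf.mpr
      ⟨H.mul_mem (Subgroup.mem_inf.mp zs.1.2).1 (Subgroup.mem_inf.mp zs.2.2).1,
       D.B.mul_mem (D.Q_le_B (Subgroup.mem_inf.mp zs.1.2).2)
        (D.T_le_B (Subgroup.mem_inf.mp zs.2.2).2)⟩⟩
  have hinj : Function.Injective f := by
    rintro ⟨z, s⟩ ⟨z', s'⟩ h
    have h' : (z : G) * (s : G) = (z' : G) * (s' : G) := congrArg Subtype.val h
    have hmem : (z' : G)⁻¹ * (z : G) ∈ D.Q ⊓ D.T := by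
      refine Subgroup.mem_inf.mpr ⟨D.Q.mul_mem (D.Q.inv_mem (Subgroup.mem_inf.mp z'.2).2)
        (Subgroup.mem_inf.mp z.2).2, ?_⟩
      have : (z' : G)⁻¹ * (z : G) = (s' : G) * (s : G)⁻¹ := by
        calc (z' : G)⁻¹ * (z : G) = (z' : G)⁻¹ * ((z : G) * (s : G)) * (s : G)⁻¹ := by group
          _ = (z' : G)⁻¹ * ((z' : G) * (s' : G)) * (s : G)⁻¹ := by rw [h']
          _ = (s' : G) * (s : G)⁻¹ := by group
      rw [this]
      exact D.T.mul_mem (Subgroup.mem_inf.mp s'.2).2 (D.T.inv_mem (Subgroup.mem_inf.mp s.2).2)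
    rw [hQT, Subgroup.mem_bot] at hmem
    have hz : (z : G) = (z' : G) := by
      have := inv_mul_eq_one.mp hmem
      exact this.symm
    have hs : (s : G) = (s' : G) := by
      rw [hz] at h'
      exact mul_left_cancel h'
    exact Prod.ext (Subtype.ext hz) (Subtype.ext hs)
  have hcard : Nat.card (↥(H ⊓ D.Q) × ↥(H ⊓ D.T)) = Nat.card ↥(H ⊓ D.B) := by
    rw [Nat.card_prod, hG.split]
  have hbij : Function.Bijective f :=
    (Nat.bijective_iff_injective_and_card f).mpr ⟨hinj, hcard⟩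
  obtain ⟨⟨z, s⟩, hzs⟩ := hbij.2 ⟨g, hg⟩
  exact ⟨z, z.2, s, s.2, (congrArg Subtype.val hzs).symm⟩

/-- **S2E**. -/
theorem good_card_H (hG : Good D H) :
    Nat.card ↥H = (q ^ 3 + 1) * (Nat.card ↥(H ⊓ D.Q) * Nat.card ↥(H ⊓ D.T)) :=
  good_card_H_aux hG (Cfsg.Agent.Lib.Helper69_U3A_S2A.card_eq_of_trans H hG.trans)

/-- **S2E**. -/
theorem good_ineq (hG : Good D H) :
    Nat.card ↥D.T ≤ Nat.card ↥(H ⊓ D.Q) * Nat.card ↥(H ⊓ D.T) :=
  good_ineq_aux hG (Cfsg.Agent.Lib.Helper27_U3A_BAS4.card_G D) (Cfsg.Agent.Lib.Helper69_U3A_S2A.card_eq_of_trans H hG.trans)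

/-- **S2E**. -/
theorem good_mem_inf_B (hG : Good D H) {g : G} (hg : g ∈ H ⊓ D.B) :
    ∃ z ∈ H ⊓ D.Q, ∃ s ∈ H ⊓ D.T, g = z * s :=
  good_mem_inf_B_aux hG (Cfsg.Agent.Lib.Helper65_U3A_BAS1.Q_inf_T D) hg

end Cfsg.Agent.Lib.Helper82_U3A_S2E
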