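/-
U3A market (S2148 abstract half, architect helper65), package S5B: Step 5 of the minimal index of `PSU_3(q)`, the
case of a point stabiliser `(H ∩ Q)(H ∩ T)` with `|H ∩ Q| = q`, `H ∩ Z = 1` and `|H ∩ T|` even.  The proof is in
`Helper81_U3A_S5Baux`; here the statements of the other packages (BAS1-6, S2E, FLD-B) are supplied.
-/
import Mathlib
import Cfsg.Agent.Lib.Helper65_U3Defs
import Cfsg.Agent.Lib.Helper81_U3A_S5Baux
import Cfsg.Agent.Lib.Helper65_U3A_BAS1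
import Cfsg.Agent.Lib.Helper65_U3A_BAS2
import Cfsg.Agent.Lib.Helper65_U3A_BAS3
import Cfsg.Agent.Lib.Helper27_U3A_BAS4
import Cfsg.Agent.Lib.Helper27_U3A_BAS5
import Cfsg.Agent.Lib.Helper82_U3A_BAS6
import Cfsg.Agent.Lib.Helper82_U3A_S2E
import Cfsg.Agent.Lib.Helper58_U3A_FLDB

set_option autoImplicit false
set_option linter.unusedSectionVars false
set_option linter.unusedVariables false

namespace Cfsg.Agent.Lib.Helper81_U3A_S5B

open Cfsg.Agent.Lib.Helper65_U3Defs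

variable {p q : ℕ} {F G U : Type*} [Field F] [Group G] [MulAction G U]
variable {D : U3Data p q F G U} {H : Subgroup G}

/-- The pointwise stabiliser of the block is `T1` (BAS6, from the landed lemmas of helper82). -/
theorem blkFix_eq' (D : U3Data p q F G U) : D.blkFix = D.T1 := by
  apply le_antisymm
  · exact Cfsg.Agent.Lib.Helper82_U3A_BAS6.blkFix_le_T1_aux D (Cfsg.Agent.Lib.Helper27_U3A_BAS4.card_Z D)
      (fun h1 h2 => Cfsg.Agent.Lib.Helper65_U3A_BAS2.mem_T_of_fix D h1 h2)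
      (fun hg _ hz => Cfsg.Agent.Lib.Helper65_U3A_BAS2.conj_Z_of_mem_B D hg hz)
      (fun hs _ hz h1 hc => Cfsg.Agent.Lib.Helper27_U3A_BAS5.T_stab_Z D hs hz h1 hc)
  · exact Cfsg.Agent.Lib.Helper82_U3A_BAS6.T1_le_blkFix_aux D (Cfsg.Agent.Lib.Helper27_U3A_BAS5.T1_centralizes_Z D)

/-- A nonidentity element of `T1` fixes exactly the points of the block (BAS6). -/
theorem T1_fix' (D : U3Data p q F G U) {s : G} (hs : s ∈ D.T1) (h1 : s ≠ 1) (w : U) :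
    s • w = w ↔ w ∈ D.Blk := by
  constructor
  · intro hw
    exact Cfsg.Agent.Lib.Helper82_U3A_BAS6.T_fix_mem_Blk_aux D
      (fun h1 h2 => Cfsg.Agent.Lib.Helper65_U3A_BAS2.mem_T_of_fix D h1 h2)
      (fun hg _ hz => Cfsg.Agent.Lib.Helper65_U3A_BAS2.conj_Q_of_mem_B D hg hz)
      (Cfsg.Agent.Lib.Helper65_U3A_BAS1.Q_inf_T D) (Cfsg.Agent.Lib.Helper65_U3A_BAS3.Q_trans D)
      (fun hs h1 _ hz hc => Cfsg.Agent.Lib.Helper27_U3A_BAS5.T_semireg D hs h1 hz hc) (D.T1_le_T hs) h1 hw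
  · intro hw
    have : s ∈ D.blkFix := by
      rw [blkFix_eq' D]
      exact hs
    exact (D.mem_blkFix.mp this) w hw

/-- The statements of the packages BAS1-6, S2E, FLD-B used by Step 5B. -/
theorem deps (D : U3Data p q F G U) : Cfsg.Agent.Lib.Helper81_U3A_S5Baux.Deps D := by
  have := D.finiteF
  have : Fact p.Prime := ⟨D.hp⟩
  have := D.charF
  exact
  { x_inj := fun h h' e => Cfsg.Agent.Lib.Helper65_U3A_BAS1.x_inj D h h' e
    x_comm := fun h h' => Cfsg.Agent.Lib.Helper65_U3A_BAS1.x_comm D h h'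
    Q_inf_T := Cfsg.Agent.Lib.Helper65_U3A_BAS1.Q_inf_T D
    conj_Q_of_mem_B := fun hg _ hz => Cfsg.Agent.Lib.Helper65_U3A_BAS2.conj_Q_of_mem_B D hg hz
    card_Q := Cfsg.Agent.Lib.Helper65_U3A_BAS3.card_Q D
    card_T := Cfsg.Agent.Lib.Helper27_U3A_BAS4.card_T D
    card_T1 := Cfsg.Agent.Lib.Helper27_U3A_BAS4.card_T1 D
    isCyclic_T := Cfsg.Agent.Lib.Helper27_U3A_BAS4.isCyclic_T D
    T_semireg := fun hs h1 _ hz hc => Cfsg.Agent.Lib.Helper27_U3A_BAS5.T_semireg D hs h1 hz hc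
    blkFix_eq := blkFix_eq' D
    card_Blk := Cfsg.Agent.Lib.Helper82_U3A_BAS6.card_Blk_aux D (Cfsg.Agent.Lib.Helper27_U3A_BAS4.card_Z D)
    T1_fix := fun hs h1 w => T1_fix' D hs h1 w
    good_mem_inf_B := fun hG _ hg =>
      Cfsg.Agent.Lib.Helper82_U3A_S2E.good_mem_inf_B_aux hG (Cfsg.Agent.Lib.Helper65_U3A_BAS1.Q_inf_T D) hg
    comm_zero_iff := fun ha => Cfsg.Agent.Lib.Helper58_U3A_FLDB.comm_zero_iff D.hk D.hq D.cardF ha
    homology_pow_six := fun hp2 l h1 h2 =>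
      Cfsg.Agent.Lib.Helper58_U3A_FLDB.homology_pow_six D.hk D.hq D.cardF hp2 l h1 h2 }

/-- **S5B**. -/
theorem step5B (h2 : Dickson2 D) (hG : Good D H) (hp2 : p ≠ 2) (hy : H ⊓ D.Z = ⊥)
    (hr : Nat.card ↥(H ⊓ D.Q) = q) (e : ℕ) (he : Nat.card ↥(H ⊓ D.T) = 2 * e) :
    e ≤ 2 ∨ (q + 1) * e = 12 ∨ (q + 1) * e = 24 ∨ (q + 1) * e = 60 :=
  Cfsg.Agent.Lib.Helper81_U3A_S5Baux.step5B_of_deps (deps D) h2 hG hp2 hy hr e he

end Cfsg.Agent.Lib.Helper81_U3A_S5B
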