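import Mathlib
import Cfsg.Agent.Lib.Helper65_U3Defs
import Cfsg.Agent.Lib.Helper52_U3A_GEN
import Cfsg.Agent.Lib.Helper65_U3A_BAS3
import Cfsg.Agent.Lib.Helper27_U3A_BAS4

/-!
# U3A-S2H (helper65 market, S2148 abstract half): `good_card_dvd_of_normal`

A normal subgroup `S` of `H` of prime order `l ∤ |B|`: `H ⊓ Q` embeds in `Aut(S)`, cyclic of order `l - 1`.
The two GEN inputs (`fix_of_commute`, `orderOf_dvd_of_fix`) are explicit hypotheses of the `_aux` lemma.
-/

set_option autoImplicit false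
set_option linter.unusedSectionVars false
set_option linter.unusedVariables false

open Cfsg.Agent.Lib.Helper65_U3Defs

namespace Cfsg.Agent.Lib.Helper84_U3A_S2H

variable {p q : ℕ} {F G U : Type*} [Field F] [Group G] [MulAction G U]
variable {D : U3Data p q F G U} {H : Subgroup G}

theorem good_card_dvd_of_normal_aux
    (hfix : ∀ {g z : G}, z ∈ D.Qat g → z ≠ 1 → ∀ {s : G}, s * z = z * s →
      s • (g • D.u) = g • D.u)
    (hord : ∀ {s : G} {w : U}, s • w = w → orderOf s ∣ q ^ 3 * Nat.card ↥D.T)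
    {l : ℕ} (hl : l.Prime)
    (hlB : ¬ l ∣ q ^ 3 * Nat.card ↥D.T) (S : Subgroup G) (hSH : S ≤ H) (hS : Nat.card ↥S = l)
    (hn : ∀ h ∈ H, ∀ s ∈ S, h * s * h⁻¹ ∈ S) : Nat.card ↥(H ⊓ D.Q) ∣ l - 1 := by
  have := D.finG
  have hlf : Fact l.Prime := ⟨hl⟩
  have hcyc : IsCyclic S := isCyclic_of_prime_card hS
  -- H ≤ normalizer S
  have hle : H ⊓ D.Q ≤ Subgroup.normalizer (S : Set G) := by
    intro r hr
    rw [Subgroup.mem_normalizer_iff]
    intro n
    constructor
    · intro hnS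
      exact hn r hr.1 n hnS
    · intro hnS
      have := hn r⁻¹ (H.inv_mem hr.1) _ hnS
      simpa [mul_assoc] using this
  obtain ⟨φ, hφ⟩ : ∃ φ : ↥(H ⊓ D.Q) →* MulAut S,
      φ = (S.normalizerMonoidHom).comp (Subgroup.inclusion hle) := ⟨_, rfl⟩
  have hφapp : ∀ (r : ↥(H ⊓ D.Q)) (s : S), ((φ r) s : G) = (r : G) * s * (r : G)⁻¹ := by
    intro r s
    rw [hφ]
    rfl
  -- a nonidentity element of S
  obtain ⟨s, hs1⟩ : ∃ s : S, s ≠ 1 := by
    have h1 : 1 < Nat.card S := by rw [hS]; exact hl.one_lt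
    have : Nontrivial S := (Finite.one_lt_card_iff_nontrivial).mp h1
    exact exists_ne 1
  have hsord : orderOf (s : G) = l := by
    have hd : orderOf s ∣ l := by rw [← hS]; exact orderOf_dvd_natCard s
    rw [Subgroup.orderOf_coe]
    rcases (Nat.dvd_prime hl).mp hd with h | h
    · exact absurd (orderOf_eq_one_iff.mp h) hs1
    · exact h
  have hinj : Function.Injective φ := by
    rw [injective_iff_map_eq_one]
    intro r hr
    by_contra hr1
    have hrG : (r : G) ≠ 1 := fun h => hr1 (Subtype.ext h)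
    have hrQ : (r : G) ∈ D.Qat 1 := by
      rw [U3Data.mem_Qat]
      simpa using r.2.2
    have hcomm : (s : G) * (r : G) = (r : G) * (s : G) := by
      have h1 := hφapp r s
      rw [hr] at h1
      have h2 : (s : G) = (r : G) * s * (r : G)⁻¹ := h1
      calc (s : G) * (r : G) = ((r : G) * s * (r : G)⁻¹) * (r : G) := by rw [← h2]
        _ = (r : G) * (s : G) := by group
    have hfx := hfix hrQ hrG hcomm
    rw [one_smul] at hfx
    have := hord hfx
    rw [hsord] at this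
    exact hlB this
  have hdvd := Subgroup.card_dvd_of_injective φ hinj
  rw [IsCyclic.card_mulAut, hS, Nat.totient_prime hl] at hdvd
  exact hdvd

/-- **S2H** (verbatim package statement). -/
theorem good_card_dvd_of_normal (hG : Good D H) {l : ℕ} (hl : l.Prime)
    (hlB : ¬ l ∣ q ^ 3 * Nat.card ↥D.T) (S : Subgroup G) (hSH : S ≤ H) (hS : Nat.card ↥S = l)
    (hn : ∀ h ∈ H, ∀ s ∈ S, h * s * h⁻¹ ∈ S) : Nat.card ↥(H ⊓ D.Q) ∣ l - 1 :=
  good_card_dvd_of_normal_aux (D := D)
    (fun hz h1 _ hs => Cfsg.Agent.Lib.Helper52_U3A_GEN.fix_of_commute D hz h1 hs)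
    (fun h => Cfsg.Agent.Lib.Helper52_U3A_GEN.orderOf_dvd_of_fix_aux D
      (Cfsg.Agent.Lib.Helper65_U3A_BAS3.trans_G D) (Cfsg.Agent.Lib.Helper27_U3A_BAS4.card_B D) h)
    hl hlB S hSH hS hn

end Cfsg.Agent.Lib.Helper84_U3A_S2H
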