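import Mathlib
import Cfsg.Agent.Lib.Helper65_U3Defs
import Cfsg.Agent.Lib.Helper17_Sylow
import Cfsg.Agent.Lib.Helper84_U3A_S2H
import Cfsg.Agent.Lib.Helper82_U3A_S2E
import Cfsg.Agent.Lib.Helper69_U3A_S2A
import Cfsg.Agent.Lib.Helper27_U3A_BAS4

/-!
# U3A-S4BQ9 (helper65 market, S2148 abstract half): `step4B_q9`

`q = 9`, `|H ⊓ Q| = 27`, `|H ⊓ T| = 4`: `|H| = 730 * 108 = 2^3 3^3 5 73`, `73 ∤ |B| = 729 * 80`; `n_73 ∣ 1080`,
`≡ 1 mod 73`, so `n_73 = 1`; S2H: `27 ∣ 72`, false.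
The inputs S2E (`good_card_H`), BAS4 (`card_T`) and S2H (`good_card_dvd_of_normal`) are explicit hypotheses of `_aux`.
-/

set_option autoImplicit false
set_option linter.unusedSectionVars false
set_option linter.unusedVariables false

open Cfsg.Agent.Lib.Helper65_U3Defs

namespace Cfsg.Agent.Lib.Helper84_U3A_S4BQ9

variable {p q : ℕ} {F G U : Type*} [Field F] [Group G] [MulAction G U]
variable {D : U3Data p q F G U} {H : Subgroup G}

theorem step4B_q9_aux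
    (hcard : Nat.card ↥H = (q ^ 3 + 1) * (Nat.card ↥(H ⊓ D.Q) * Nat.card ↥(H ⊓ D.T)))
    (hcT : Nat.card ↥D.T * Nat.gcd 3 (q + 1) = q ^ 2 - 1)
    (hS2H : ∀ {l : ℕ}, l.Prime → ¬ l ∣ q ^ 3 * Nat.card ↥D.T → ∀ S : Subgroup G, S ≤ H →
      Nat.card ↥S = l → (∀ h ∈ H, ∀ s ∈ S, h * s * h⁻¹ ∈ S) → Nat.card ↥(H ⊓ D.Q) ∣ l - 1)
    (hq : q = 9) (hr : Nat.card ↥(H ⊓ D.Q) = 27)
    (ht : Nat.card ↥(H ⊓ D.T) = 4) : False := by
  have := D.finG
  subst hq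
  rw [hr, ht] at hcard
  have hT80 : Nat.card ↥D.T = 80 := by
    have h1 : Nat.gcd 3 (9 + 1) = 1 := by decide
    rw [h1] at hcT
    omega
  have h73 : Fact (Nat.Prime 73) := ⟨by norm_num⟩
  have hH : Nat.card ↥H = 73 ^ 1 * 1080 := by rw [hcard]; norm_num
  have hm : ¬ 73 ∣ 1080 := by norm_num
  obtain ⟨P⟩ : Nonempty (Sylow 73 H) := inferInstance
  have hP : Nat.card (P : Subgroup H) = 73 := by
    have := Cfsg.Agent.Lib.Helper17_Sylow.card_sylow_eq_pow hH hm P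
    simpa using this
  have hmem := Cfsg.Agent.Lib.Helper17_Sylow.card_sylow_mem_candidates hH hm
  have hcand : Cfsg.Agent.Lib.Helper17_Sylow.sylowCandidates 73 1080 = [1] := by decide
  rw [hcand, List.mem_singleton] at hmem
  have hsub : Subsingleton (Sylow 73 H) := (Nat.card_eq_one_iff_unique.mp hmem).1
  have hnormal : (P : Subgroup H).Normal := Sylow.normal_of_subsingleton P
  obtain ⟨S, hSdef⟩ : ∃ S : Subgroup G, S = (P : Subgroup H).map H.subtype := ⟨_, rfl⟩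
  have hSH : S ≤ H := by
    rw [hSdef]
    exact Subgroup.map_subtype_le _
  have hScard : Nat.card ↥S = 73 := by
    rw [hSdef, Subgroup.card_map_of_injective H.subtype_injective, hP]
  have hSn : ∀ h ∈ H, ∀ s ∈ S, h * s * h⁻¹ ∈ S := by
    intro h hh s hs
    rw [hSdef] at hs ⊢
    obtain ⟨s', hs', rfl⟩ := Subgroup.mem_map.mp hs
    refine Subgroup.mem_map.mpr ⟨⟨h, hh⟩ * s' * ⟨h, hh⟩⁻¹, hnormal.conj_mem s' hs' ⟨h, hh⟩, ?_⟩
    simp
  have hnd : ¬ 73 ∣ 9 ^ 3 * Nat.card ↥D.T := by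
    rw [hT80]
    norm_num
  have := hS2H h73.out hnd S hSH hScard hSn
  rw [hr] at this
  norm_num at this

/-- **S4BQ9** (verbatim package statement). -/
theorem step4B_q9 (hG : Good D H) (hq : q = 9) (hr : Nat.card ↥(H ⊓ D.Q) = 27)
    (ht : Nat.card ↥(H ⊓ D.T) = 4) : False :=
  step4B_q9_aux
    (Cfsg.Agent.Lib.Helper82_U3A_S2E.good_card_H_aux hG
      (Cfsg.Agent.Lib.Helper69_U3A_S2A.card_eq_of_trans H hG.trans))
    (Cfsg.Agent.Lib.Helper27_U3A_BAS4.card_T D)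
    (fun hl hlB S hSH hS hn =>
      Cfsg.Agent.Lib.Helper84_U3A_S2H.good_card_dvd_of_normal hG hl hlB S hSH hS hn)
    hq hr ht

end Cfsg.Agent.Lib.Helper84_U3A_S4BQ9
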