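import Mathlib
import Cfsg.Agent.Lib.Helper65_U3Defs
import Cfsg.Agent.Lib.Helper65_U3A_BAS1
import Cfsg.Agent.Lib.Helper65_U3A_BAS2
import Cfsg.Agent.Lib.Helper65_U3A_BAS3
import Cfsg.Agent.Lib.Helper27_U3A_BAS4
import Cfsg.Agent.Lib.Helper27_U3A_BAS5
import Cfsg.Agent.Lib.Helper82_U3A_BAS6
import Cfsg.Agent.Lib.Helper32_U3A_BAS7
import Cfsg.Agent.Lib.Helper32_U3A_BAS8
import Cfsg.Agent.Lib.Helper52_U3A_GEN
import Cfsg.Agent.Lib.Helper69_U3A_S2A
import Cfsg.Agent.Lib.Helper69_U3A_S2D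
import Cfsg.Agent.Lib.Helper82_U3A_S2E
import Cfsg.Agent.Lib.Helper52_U3A_S2F
import Cfsg.Agent.Lib.Helper2_U3A_S2G
import Cfsg.Agent.Lib.Helper84_U3A_S2H
import Cfsg.Agent.Lib.Helper79_U3A_S3
import Cfsg.Agent.Lib.Helper2_U3A_S4AN
import Cfsg.Agent.Lib.Helper59_U3A_S4AQ8aux
import Cfsg.Agent.Lib.Helper42_U3A_S4BN
import Cfsg.Agent.Lib.Helper84_U3A_S4BQ9
import Cfsg.Agent.Lib.Helper42_U3A_S5A
import Cfsg.Agent.Lib.Helper81_U3A_S5B
import Cfsg.Agent.Lib.Helper79_U3A_S5Q11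
import Cfsg.Agent.Lib.Helper80_U3A_S6D2
import Cfsg.Agent.Lib.Helper80_U3A_S6Q3
import Cfsg.Agent.Lib.Helper5_U3A_AR4
import Cfsg.Agent.Lib.Helper5_U3A_AR5

set_option autoImplicit false
set_option linter.unusedSectionVars false
set_option linter.unusedVariables false

/-!
# S2148, abstract half: the main theorem (helper65)

`main D h1 h2 hq3 hq5 H hH : q ^ 3 + 1 ≤ H.index` for every proper subgroup `H` of a group `G` carrying a
`U3Data p q F G U` (abstract `PSU_3(q)`), given the two Dickson inputs; `index_B D : D.B.index = q ^ 3 + 1`;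
`main5 D hq H hH : 50 ≤ H.index` for `q = 5` (S2149).  Paper proof: lead's finding 170; packages U3A by
helper2, 5, 27, 32, 42, 52, 58, 59, 61, 69, 79, 80, 81, 82, 84.
-/

namespace Cfsg.Agent.Lib.Helper65_U3Main

open Cfsg.Agent.Lib.Helper65_U3Defs
open Cfsg.Agent.Lib.Helper65_U3A_BAS1 Cfsg.Agent.Lib.Helper65_U3A_BAS2 Cfsg.Agent.Lib.Helper65_U3A_BAS3

variable {p q : ℕ} {F G U : Type*} [Field F] [Group G] [MulAction G U]
variable (D : U3Data p q F G U)

/-! ### local names for the package statements -/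
section Names

open Cfsg.Agent.Lib

theorem card_Z : Nat.card ↥D.Z = q := Helper27_U3A_BAS4.card_Z D
theorem card_T : Nat.card ↥D.T * Nat.gcd 3 (q + 1) = q ^ 2 - 1 := Helper27_U3A_BAS4.card_T D
theorem card_T1 : Nat.card ↥D.T1 * Nat.gcd 3 (q + 1) = q + 1 := Helper27_U3A_BAS4.card_T1 D
theorem card_G : Nat.card G = (q ^ 3 + 1) * (q ^ 3 * Nat.card ↥D.T) := Helper27_U3A_BAS4.card_G D

theorem card_le_of_inf_Z (R : Subgroup G) (hR : R ≤ D.Q) (h : R ⊓ D.Z = ⊥) :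
    Nat.card ↥R ≤ q := Helper32_U3A_BAS7.card_le_of_inf_Z D R hR h

theorem eq_bot_of_two (h2 : p = 2) (R : Subgroup G) (hR : R ≤ D.Q) (h : R ⊓ D.Z = ⊥) :
    R = ⊥ := Helper32_U3A_BAS7.eq_bot_of_two D h2 R hR h

theorem fisher_trans (D : U3Data p q F G U) (H : Subgroup G) (hH : H.index ≤ q ^ 3) :
    ∀ a b : U, ∃ h ∈ H, h • a = b := Helper69_U3A_S2A.fisher_trans D H hH

variable {D}

theorem card_inf_Zat (H : Subgroup G) (htr : ∀ a b : U, ∃ h ∈ H, h • a = b) (g : G) :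
    Nat.card ↥(H ⊓ D.Zat g) = Nat.card ↥(H ⊓ D.Z) := Helper69_U3A_S2A.card_inf_Zat H htr g

variable (D) in
theorem normalize (H : Subgroup G) : ∃ n ∈ D.Q,
    Nat.card ↥(H.map (MulAut.conj n).toMonoidHom ⊓ D.B) =
      Nat.card ↥(H.map (MulAut.conj n).toMonoidHom ⊓ D.Q) *
        Nat.card ↥(H.map (MulAut.conj n).toMonoidHom ⊓ D.T) := Helper69_U3A_S2D.normalize D H

variable {H : Subgroup G}

theorem good_card_H (hG : Good D H) :
    Nat.card ↥H = (q ^ 3 + 1) * (Nat.card ↥(H ⊓ D.Q) * Nat.card ↥(H ⊓ D.T)) :=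
  Helper82_U3A_S2E.good_card_H hG

theorem good_ineq (hG : Good D H) :
    Nat.card ↥D.T ≤ Nat.card ↥(H ⊓ D.Q) * Nat.card ↥(H ⊓ D.T) := Helper82_U3A_S2E.good_ineq hG

theorem good_mem_inf_B (hG : Good D H) {g : G} (hg : g ∈ H ⊓ D.B) :
    ∃ z ∈ H ⊓ D.Q, ∃ s ∈ H ⊓ D.T, g = z * s := Helper82_U3A_S2E.good_mem_inf_B hG hg

theorem good_dvd_sub_one (hG : Good D H)
    (hlt : Nat.card ↥(H ⊓ D.Z) < Nat.card ↥(H ⊓ D.Q)) :
    Nat.card ↥(H ⊓ D.T) ∣ Nat.card ↥(H ⊓ D.Q) / Nat.card ↥(H ⊓ D.Z) - 1 :=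
  Helper2_U3A_S2G.good_dvd_sub_one hG hlt

theorem good_card_dvd_of_normal (hG : Good D H) {l : ℕ} (hl : l.Prime)
    (hlB : ¬ l ∣ q ^ 3 * Nat.card ↥D.T) (S : Subgroup G) (hSH : S ≤ H) (hS : Nat.card ↥S = l)
    (hn : ∀ h ∈ H, ∀ s ∈ S, h * s * h⁻¹ ∈ S) : Nat.card ↥(H ⊓ D.Q) ∣ l - 1 :=
  Helper84_U3A_S2H.good_card_dvd_of_normal hG hl hlB S hSH hS hn

theorem step3 (htr : ∀ a b : U, ∃ h ∈ H, h • a = b) (hZ : D.Z ≤ H) : H = ⊤ :=
  Helper79_U3A_S3.step3_of_card_Z (card_Z D) htr hZ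

theorem step4A_num (hG : Good D H) (hp2 : p = 2) (hy : Nat.card ↥(H ⊓ D.Z) = 2) :
    Nat.card ↥(H ⊓ D.Q) ≤ 8 ∧ H ⊓ D.T ≤ D.T1 := Helper2_U3A_S4AN.step4A_num hG hp2 hy

theorem step4A_q8 (hG : Good D H) (hq : q = 8) (hr : Nat.card ↥(H ⊓ D.Q) = 8)
    (ht : Nat.card ↥(H ⊓ D.T) = 3) : False :=
  Helper59_U3A_S4AQ8aux.step4A_q8_aux hG hq hr ht (card_T D) (good_card_H hG)
    (fun g hg n hgp => Helper52_U3A_S2F.good_conj_into_Q hG hg hgp)
    (fun l hl hlB S hSH hS hn => good_card_dvd_of_normal hG hl hlB S hSH hS hn)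
    (fun g z hz h1 s hs => Helper52_U3A_GEN.fix_of_commute D hz h1 hs)
    (fun s w h => Helper52_U3A_GEN.orderOf_dvd_of_fix D h)
    (fun s g l hl hs hlq hstab => Helper52_U3A_GEN.prime_dvd_of_stab_blk D hl hs hlq hstab)
    (fun n hn z hz v hv => Helper32_U3A_BAS8.Zat_stab_Blk D hn hz hv)
    (fun h2 a b h => x_sq_of_two D h2 h)
    (fun a b a' b' h h' e => x_inj D h h' e)

theorem step4B_num (hG : Good D H) (hq : q = 9) (hy : Nat.card ↥(H ⊓ D.Z) = 3) :
    Nat.card ↥(H ⊓ D.Q) ≤ 27 ∧ Nat.card ↥(H ⊓ D.T) ∣ 20 := Helper42_U3A_S4BN.step4B_num hG hq hy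

theorem step4B_q9 (hG : Good D H) (hq : q = 9) (hr : Nat.card ↥(H ⊓ D.Q) = 27)
    (ht : Nat.card ↥(H ⊓ D.T) = 4) : False := Helper84_U3A_S4BQ9.step4B_q9 hG hq hr ht

theorem step5A (hG : Good D H) (hp2 : p ≠ 2) (hodd : Odd (Nat.card ↥(H ⊓ D.B))) : False :=
  Helper42_U3A_S5A.step5A hG hp2 hodd

theorem step5B (h2 : Dickson2 D) (hG : Good D H) (hp2 : p ≠ 2) (hy : H ⊓ D.Z = ⊥)
    (hr : Nat.card ↥(H ⊓ D.Q) = q) (e : ℕ) (he : Nat.card ↥(H ⊓ D.T) = 2 * e) :
    e ≤ 2 ∨ (q + 1) * e = 12 ∨ (q + 1) * e = 24 ∨ (q + 1) * e = 60 :=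
  Helper81_U3A_S5B.step5B h2 hG hp2 hy hr e he

theorem step5_q11 (hG : Good D H) (hq : q = 11) (hr : Nat.card ↥(H ⊓ D.Q) = 11)
    (ht : Nat.card ↥(H ⊓ D.T) = 10) : False :=
  Helper79_U3A_S5Q11.step5_q11_of (card_T D) (good_card_H hG)
    (fun hl hlB S hSH hS hn => good_card_dvd_of_normal hG hl hlB S hSH hS hn) hG hq hr ht

theorem step6_D2 (h2 : Dickson2 D) (hG : Good D H) (hq3 : 3 ≤ q) (hr : H ⊓ D.Q = ⊥)
    (hT : D.T ≤ H) :
    q - 1 ≤ 2 ∨ (q + 1) * (q - 1) = 12 ∨ (q + 1) * (q - 1) = 24 ∨ (q + 1) * (q - 1) = 60 :=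
  Helper80_U3A_S6D2.step6_D2_aux (fun g hg => good_mem_inf_B hG hg) (good_card_H hG)
    (Helper82_U3A_BAS6.blkFix_eq D) (fun s hs h1 w => Helper82_U3A_BAS6.T1_fix D hs h1 w)
    h2 hG hq3 hr hT

theorem step6_q3 (hG : Good D H) (hq : q = 3) (hr : H ⊓ D.Q = ⊥) (hT : D.T ≤ H) : False :=
  Helper80_U3A_S6Q3.step6_q3_aux (fun g hg => good_mem_inf_B hG hg) (good_card_H hG)
    (fun s hs h1 w => Helper82_U3A_BAS6.T1_fix D hs h1 w)
    (fun s g l hl hs hlq hstab => Helper52_U3A_GEN.prime_dvd_of_stab_blk D hl hs hlq hstab)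
    hG hq hr hT

end Names

open Cfsg.Agent.Lib.Helper5_U3A_AR4 Cfsg.Agent.Lib.Helper5_U3A_AR5

/-! ## MAIN (helper65) -/
section Main

theorem card_inf_eq_card_imp_le {A B : Subgroup G} [Finite ↥B]
    (h : Nat.card ↥(A ⊓ B) = Nat.card ↥B) : B ≤ A := by
  have hle : A ⊓ B ≤ B := inf_le_right
  have : A ⊓ B = B := Subgroup.eq_of_le_of_card_ge hle (le_of_eq h.symm)
  rw [← this]
  exact inf_le_left

theorem main (h1 : Dickson1 D) (h2 : Dickson2 D) (hq3 : 3 ≤ q) (hq5 : q ≠ 5)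
    (H : Subgroup G) (hH : H ≠ ⊤) : q ^ 3 + 1 ≤ H.index := by
  have := D.finG
  by_contra hlt
  push Not at hlt
  have hidx : H.index ≤ q ^ 3 := by omega
  obtain ⟨n, hn, hsplit⟩ := normalize D H
  obtain ⟨H', hH'def⟩ : ∃ H' : Subgroup G, H' = H.map (MulAut.conj n).toMonoidHom := ⟨_, rfl⟩
  rw [← hH'def] at hsplit
  have hidx' : H'.index = H.index := by
    rw [hH'def]
    exact Subgroup.index_map_equiv H (MulAut.conj n)
  have hH'top : H' ≠ ⊤ := by
    intro h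
    apply hH
    rw [← Subgroup.index_eq_one, ← hidx', h, Subgroup.index_top]
  have htr := fisher_trans D H' (by rw [hidx']; exact hidx)
  have hG : Good D H' := ⟨htr, by rw [hidx']; exact hidx, hsplit⟩
  obtain ⟨y, hy⟩ : ∃ y, y = Nat.card ↥(H' ⊓ D.Z) := ⟨_, rfl⟩
  obtain ⟨r, hr⟩ : ∃ r, r = Nat.card ↥(H' ⊓ D.Q) := ⟨_, rfl⟩
  obtain ⟨tt, htt⟩ : ∃ tt, tt = Nat.card ↥(H' ⊓ D.T) := ⟨_, rfl⟩
  have hyq : y ∣ q := by
    have h := Subgroup.card_dvd_of_le (inf_le_right : H' ⊓ D.Z ≤ D.Z)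
    rwa [card_Z D, ← hy] at h
  have hyr : y ∣ r := by
    rw [hy, hr]
    exact Subgroup.card_dvd_of_le (inf_le_inf_left H' D.Z_le_Q)
  have hrq : r ∣ q ^ 3 := by
    have h := Subgroup.card_dvd_of_le (inf_le_right : H' ⊓ D.Q ≤ D.Q)
    rwa [card_Q D, ← hr] at h
  have hy0 : 0 < y := by rw [hy]; exact Nat.card_pos
  have hr0 : 0 < r := by rw [hr]; exact Nat.card_pos
  have hineq : Nat.card ↥D.T ≤ r * tt := by rw [hr, htt]; exact good_ineq hG
  have hyle : y ≤ q := Nat.le_of_dvd D.q_pos hyq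
  rcases hyle.eq_or_lt with hyq' | hyq'
  · -- Step 3
    have hZ : D.Z ≤ H' := by
      apply card_inf_eq_card_imp_le
      rw [← hy, hyq', card_Z D]
    exact hH'top (step3 htr hZ)
  by_cases hy1 : 1 < y
  · -- Step 4
    rcases h1 H' y (fun g _ => by rw [hy]; exact card_inf_Zat H' htr g) hy1 hyq' with
      ⟨hp2, hy2⟩ | ⟨hq9, hy3⟩
    · obtain ⟨hr8, hT1⟩ := step4A_num hG hp2 (by rw [← hy]; exact hy2)
      have htt1 : tt ∣ Nat.card ↥D.T1 := by
        rw [htt]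
        exact Subgroup.card_dvd_of_le hT1
      have hq2 : q = 2 ^ D.k := by rw [← hp2]; exact D.hq
      obtain ⟨hq8, hr8', ht3⟩ := arith4A D.hk hq2 (by omega) (card_T D) (card_T1 D) htt1
        (by rw [hr]; exact hr8) (by rw [← hy2]; exact hyr) hrq hineq
        (fun h => by
          have := good_dvd_sub_one hG (by rw [← hy, ← hr, hy2]; exact h)
          rwa [← hy, ← hr, ← htt, hy2] at this)
      exact step4A_q8 hG hq8 (by rw [← hr]; exact hr8') (by rw [← htt]; exact ht3)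
    · obtain ⟨hr27, ht20⟩ := step4B_num hG hq9 (by rw [← hy]; exact hy3)
      obtain ⟨hr27', ht4⟩ := arith4B hq9 (card_T D) (by rw [htt]; exact ht20) (by rw [hr]; exact hr27)
        (by rw [← hy3]; exact hyr) hrq hineq
        (fun h => by
          have := good_dvd_sub_one hG (by rw [← hy, ← hr, hy3]; exact h)
          rwa [← hy, ← hr, ← htt, hy3] at this)
      exact step4B_q9 hG hq9 (by rw [← hr]; exact hr27') (by rw [← htt]; exact ht4)
  · have hy1' : y = 1 := by omega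
    have hyb : H' ⊓ D.Z = ⊥ := by
      rw [← Subgroup.card_eq_one, ← hy, hy1']
    by_cases hr1 : H' ⊓ D.Q = ⊥
    · -- Step 6
      have hrone : r = 1 := by rw [hr, hr1]; exact Subgroup.card_bot
      have httT : tt = Nat.card ↥D.T := by
        apply le_antisymm
        · rw [htt]
          exact Subgroup.card_le_of_le inf_le_right
        · rw [hrone, one_mul] at hineq
          exact hineq
      have hT : D.T ≤ H' := by
        apply card_inf_eq_card_imp_le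
        rw [← htt, httT]
      have hq3' := arith6 hq3 hq5 (step6_D2 h2 hG hq3 hr1 hT)
      exact step6_q3 hG hq3' hr1 hT
    · -- Step 5
      have hRZ : (H' ⊓ D.Q) ⊓ D.Z = ⊥ := by
        rw [eq_bot_iff]
        intro g hg
        rw [← hyb]
        exact ⟨hg.1.1, hg.2⟩
      have hp2 : p ≠ 2 := fun h => hr1 (eq_bot_of_two D h _ inf_le_right hRZ)
      have hrle : r ≤ q := by rw [hr]; exact card_le_of_inf_Z D _ inf_le_right hRZ
      have hr1' : 1 < r := by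
        rcases Nat.lt_or_ge 1 r with h | h
        · exact h
        · exfalso
          apply hr1
          rw [← Subgroup.card_eq_one, ← hr]
          omega
      have hdvd : tt ∣ r - 1 := by
        have := good_dvd_sub_one hG (by rw [← hy, ← hr, hy1']; exact hr1')
        rwa [← hy, ← hr, ← htt, hy1', Nat.div_one] at this
      obtain ⟨h3, hrq', j, hj, htj⟩ := arith5a D.hp hp2 D.hk D.hq (card_T D) hr1' hrle hrq
        hineq hdvd
      have hqodd : Odd q := by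
        rw [D.hq]
        exact (D.hp.odd_of_ne_two hp2).pow
      rcases Nat.even_or_odd tt with hev | hodd
      · obtain ⟨e, he⟩ := hev
        have he' : tt = 2 * e := by omega
        have hD := step5B h2 hG hp2 hyb (by rw [← hr]; exact hrq') e (by rw [← htt]; exact he')
        obtain ⟨hq11, hj1⟩ := arith5b hq3 hq5 hqodd h3 hj (by rw [← he']; exact htj) hD
        refine step5_q11 hG hq11 (by rw [← hr, hrq', hq11]) ?_
        rw [← htt]
        rw [hj1, hq11] at htj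
        omega
      · refine step5A hG hp2 ?_
        rw [hG.split, ← hr, ← htt, hrq']
        exact hqodd.mul hodd

/-- The minimal index is attained by the point stabiliser. -/
theorem index_B : D.B.index = q ^ 3 + 1 := by
  have hpre : MulAction.IsPretransitive G U := ⟨fun a b => trans_G D a b⟩
  rw [U3Data.B, MulAction.index_stabilizer_of_transitive, D.cardU]

/-- The case `q = 5` (S2149): every proper subgroup has index at least `50`. -/
theorem main5 (D : U3Data p q F G U) (hq : q = 5) (H : Subgroup G) (hH : H ≠ ⊤) :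
    50 ≤ H.index := by
  subst hq
  have := D.finG
  by_contra hlt
  push Not at hlt
  have hidx : H.index ≤ 5 ^ 3 := by omega
  obtain ⟨n, hn, hsplit⟩ := normalize D H
  obtain ⟨H', hH'def⟩ : ∃ H' : Subgroup G, H' = H.map (MulAut.conj n).toMonoidHom := ⟨_, rfl⟩
  rw [← hH'def] at hsplit
  have hidx' : H'.index = H.index := by
    rw [hH'def]
    exact Subgroup.index_map_equiv H (MulAut.conj n)
  have hH'top : H' ≠ ⊤ := by
    intro h
    apply hH
    rw [← Subgroup.index_eq_one, ← hidx', h, Subgroup.index_top]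
  have htr := fisher_trans D H' (by rw [hidx']; exact hidx)
  have hG : Good D H' := ⟨htr, by rw [hidx']; exact hidx, hsplit⟩
  obtain ⟨y, hy⟩ : ∃ y, y = Nat.card ↥(H' ⊓ D.Z) := ⟨_, rfl⟩
  obtain ⟨r, hr⟩ : ∃ r, r = Nat.card ↥(H' ⊓ D.Q) := ⟨_, rfl⟩
  obtain ⟨tt, htt⟩ : ∃ tt, tt = Nat.card ↥(H' ⊓ D.T) := ⟨_, rfl⟩
  have hyq : y ∣ 5 := by
    have h := Subgroup.card_dvd_of_le (inf_le_right : H' ⊓ D.Z ≤ D.Z)
    rwa [card_Z D, ← hy] at h
  have hrq : r ∣ 5 ^ 3 := by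
    have h := Subgroup.card_dvd_of_le (inf_le_right : H' ⊓ D.Q ≤ D.Q)
    rwa [card_Q D, ← hr] at h
  have hcT := card_T D
  have hcG := card_G D
  have hcH := good_card_H hG
  rw [← hr, ← htt] at hcH
  have hmul : Nat.card ↥H' * H'.index = Nat.card G := Subgroup.card_mul_index H'
  have htt0 : 0 < tt := by rw [htt]; exact Nat.card_pos
  have hr0 : 0 < r := by rw [hr]; exact Nat.card_pos
  have hT8 : Nat.card ↥D.T = 8 := by
    norm_num at hcT
    omega
  -- index * (r * tt) = 1000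
  have hprod : H.index * (r * tt) = 1000 := by
    rw [hcH, hcG, hT8, hidx'] at hmul
    have : (5 ^ 3 + 1) * (r * tt * H.index) = (5 ^ 3 + 1) * (5 ^ 3 * 8) := by
      rw [← hmul]; ring
    have h2 := Nat.eq_of_mul_eq_mul_left (by norm_num) this
    rw [mul_comm]
    omega
  have hy5 : y = 1 ∨ y = 5 := (Nat.dvd_prime (by norm_num)).mp hyq
  rcases hy5 with hy1 | hy5
  · have hyb : H' ⊓ D.Z = ⊥ := by
      rw [← Subgroup.card_eq_one, ← hy, hy1]
    have hRZ : (H' ⊓ D.Q) ⊓ D.Z = ⊥ := by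
      rw [eq_bot_iff]
      intro g hg
      rw [← hyb]
      exact ⟨hg.1.1, hg.2⟩
    have hrle : r ≤ 5 := by
      rw [hr]; exact card_le_of_inf_Z D _ inf_le_right hRZ
    have hr15 : r = 1 ∨ r = 5 := by
      obtain ⟨i, hi, rfl⟩ := (Nat.dvd_prime_pow (by norm_num : Nat.Prime 5)).mp hrq
      interval_cases i
      · left; rfl
      · right; rfl
      · norm_num at hrle
      · norm_num at hrle
    have httle : tt ≤ 8 := by
      rw [htt, ← hT8]
      exact Subgroup.card_le_of_le inf_le_right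
    rcases hr15 with hr1 | hr5
    · rw [hr1, one_mul] at hprod
      nlinarith
    · have hdvd : tt ∣ 4 := by
        have := good_dvd_sub_one hG (by rw [← hy, ← hr, hy1, hr5]; norm_num)
        rwa [← hy, ← hr, ← htt, hy1, hr5] at this
      have htt4 : tt ≤ 4 := Nat.le_of_dvd (by norm_num) hdvd
      rw [hr5] at hprod
      nlinarith
  · have hZ : D.Z ≤ H' := by
      apply card_inf_eq_card_imp_le
      rw [← hy, hy5, card_Z D]
    exact hH'top (step3 htr hZ)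

end Main


end Cfsg.Agent.Lib.Helper65_U3Main
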