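import Mathlib
import Cfsg.Agent.Lib.Helper66_ClassSize
import Cfsg.Agent.Lib.Helper2_Coprime

/-!
# Two largest class sizes coprime (Bianchi–Gillio–Casolo), elementary proof (helper66)

Let `m > n > 1` be the two largest conjugacy class sizes of the finite group `G`, and assume they
are coprime.  Then `G / Z(G)` is a Frobenius group with abelian kernel `C(x)/Z` (`|x^G| = n`) and
abelian complement `C(y)/Z` (`|y^G| = m`).  The proof avoids Kazarin's theorem: it only uses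
the Bertram–Herzog–Mann product-of-classes lemma, averaging, and a `π(m)`/`π(m)'` analysis of
elements.
-/

set_option autoImplicit false

namespace Cfsg.Agent.Lib.Helper66_BGC

open Subgroup Cfsg.Agent.Lib.Helper66_ClassSize
open scoped Pointwise

variable {G : Type*} [Group G]

/-- The hypotheses: `m > n > 1` coprime, `m` the largest class size, `n` the second largest. -/
structure Hyp (G : Type*) [Group G] (m n : ℕ) : Prop where
  hmn : n < m
  hn : 1 < n
  hcop : m.Coprime n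
  htop : ∀ z : G, cs z ≤ m
  hsec : ∀ z : G, cs z < m → cs z ≤ n

theorem isConj_conj {a b : G} (h : IsConj a b) (t : G) : IsConj (t * a * t⁻¹) (t * b * t⁻¹) := by
  obtain ⟨c, rfl⟩ := isConj_iff.1 h
  exact isConj_iff.2 ⟨t * c * t⁻¹, by group⟩

section Finite

variable [Finite G]

/-- The stabiliser (under right multiplication) of all classes of size `m`. -/
def T (G : Type*) [Group G] [Finite G] (m : ℕ) : Subgroup G where
  carrier := {ν | ∀ h : G, cs h = m → IsConj h (h * ν)}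
  one_mem' := fun h _ => by rw [mul_one]
  mul_mem' := by
    intro a b ha hb h hh
    have h1 := ha h hh
    have h2 : cs (h * a) = m := by rw [cs_eq_of_isConj h1]; exact hh
    have h3 := hb (h * a) h2
    rw [← mul_assoc]
    exact h1.trans h3
  inv_mem' := by
    intro a ha h hh
    let D := {d : G // IsConj h d}
    let f : D → D := fun d => ⟨d.1 * a, by
      have h1 : cs d.1 = m := by rw [cs_eq_of_isConj d.2]; exact hh
      exact d.2.trans (ha d.1 h1)⟩
    have hf : Function.Injective f := by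
      intro d₁ d₂ h12
      have : d₁.1 * a = d₂.1 * a := congrArg Subtype.val h12
      exact Subtype.ext (mul_right_cancel this)
    obtain ⟨d, hd⟩ := (Finite.injective_iff_surjective.1 hf) ⟨h, IsConj.refl h⟩
    have hd' : d.1 * a = h := congrArg Subtype.val hd
    have : d.1 = h * a⁻¹ := eq_mul_inv_of_mul_eq hd'
    show IsConj h (h * a⁻¹)
    rw [← this]
    exact d.2

theorem mem_T {m : ℕ} {ν : G} : ν ∈ T G m ↔ ∀ h : G, cs h = m → IsConj h (h * ν) := Iff.rfl

instance T_normal (m : ℕ) : (T G m).Normal := by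
  constructor
  intro ν hν t h hh
  have h1 : cs (t⁻¹ * h * t) = m := by
    have := cs_conj t⁻¹ h
    rw [inv_inv] at this
    rw [this]; exact hh
  have h2 := isConj_conj (hν _ h1) t
  have e1 : t * (t⁻¹ * h * t) * t⁻¹ = h := by group
  have e2 : t * (t⁻¹ * h * t * ν) * t⁻¹ = h * (t * ν * t⁻¹) := by group
  rw [e1, e2] at h2
  exact h2

theorem card_T_dvd {m : ℕ} (y : G) (hy : cs y = m) : Nat.card (T G m) ∣ m := by
  set D : Set G := {d | IsConj y d} with hD
  have h1 : D * (T G m : Set G) = D := by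
    ext z
    constructor
    · rintro ⟨d, hd, ν, hν, rfl⟩
      have h2 : cs d = m := by rw [cs_eq_of_isConj hd]; exact hy
      exact IsConj.trans hd (hν d h2)
    · intro hz
      exact ⟨z, hz, 1, one_mem _, mul_one z⟩
  have h3 := card_mul_eq_card_subgroup_mul_card_quotient (T G m) D
  rw [h1, Nat.card_coe_set_eq, ncard_isConj_eq_cs, hy] at h3
  exact ⟨_, h3⟩

/-- The product-of-classes lemma of Bertram–Herzog–Mann. -/
theorem gen_mem_T {m : ℕ} (htop : ∀ z : G, cs z ≤ m) (g : G) (hg : (cs g).Coprime m) (t : G) :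
    t * g * t⁻¹ * g⁻¹ ∈ T G m := by
  intro h hh
  have hcop : (C g).index.Coprime (C h).index := by
    show (cs g).Coprime (cs h)
    rw [hh]; exact hg
  set D : Set G := {d | IsConj h d} with hD
  set E : Set G := {e | IsConj (h * g) e} with hE
  have ha : ∀ d ∈ D, d * g ∈ E := by
    intro d hd
    obtain ⟨s, rfl⟩ := isConj_iff.1 hd
    obtain ⟨a, ha, b, hb, rfl⟩ := exists_mul_of_coprime_index (C g) (C h) hcop s
    rw [mem_C] at ha hb
    refine isConj_iff.2 ⟨a, ?_⟩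
    have e1 : a * b * h * (a * b)⁻¹ = a * (b * h) * b⁻¹ * a⁻¹ := by group
    rw [e1, hb]
    have e2 : a * (h * b) * b⁻¹ * a⁻¹ * g = a * h * (a⁻¹ * g) := by group
    have e3 : a⁻¹ * g = g * a⁻¹ := by
      have : a⁻¹ * (a * g) * a⁻¹ = a⁻¹ * (g * a) * a⁻¹ := by rw [ha]
      calc a⁻¹ * g = a⁻¹ * (g * a) * a⁻¹ := by group
        _ = a⁻¹ * (a * g) * a⁻¹ := by rw [ha]
        _ = g * a⁻¹ := by group
    rw [e2, e3]
    group
  have himg : (fun d => d * g) '' D = E := by
    apply Set.eq_of_subset_of_ncard_le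
    · rintro _ ⟨d, hd, rfl⟩
      exact ha d hd
    · rw [Set.ncard_image_of_injective _ (mul_left_injective g), hD, hE, ncard_isConj_eq_cs,
        ncard_isConj_eq_cs, hh]
      exact htop _
    · exact Set.toFinite _
  have hmem : h * (t * g * t⁻¹) ∈ E := by
    obtain ⟨b, hb, a, ha', rfl⟩ := exists_mul_of_coprime_index (C h) (C g) hcop.symm t
    rw [mem_C] at ha' hb
    refine isConj_iff.2 ⟨b, ?_⟩
    have e1 : b * a * g * (b * a)⁻¹ = b * (a * g) * a⁻¹ * b⁻¹ := by group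
    rw [e1, ha']
    have e2 : h * (b * (g * a) * a⁻¹ * b⁻¹) = (h * b) * g * b⁻¹ := by group
    rw [e2, ← hb]
    group
  rw [← himg] at hmem
  obtain ⟨d, hd, hdg⟩ := hmem
  have hdg' : d * g = h * (t * g * t⁻¹) := hdg
  have : h * (t * g * t⁻¹ * g⁻¹) = d := by
    calc h * (t * g * t⁻¹ * g⁻¹) = h * (t * g * t⁻¹) * g⁻¹ := by group
      _ = d * g * g⁻¹ := by rw [hdg']
      _ = d := by group
  rw [this]
  exact hd

theorem T_le_C {m : ℕ} (y : G) (hy : cs y = m) (g : G) (hg : (cs g).Coprime m) : T G m ≤ C g := by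
  apply le_of_normal_of_coprime
  exact Nat.Coprime.coprime_dvd_left (card_T_dvd y hy) hg.symm

/-- `N = Z(T)` viewed inside `G`. -/
def N (G : Type*) [Group G] [Finite G] (m : ℕ) : Subgroup G :=
  T G m ⊓ Subgroup.centralizer (T G m : Set G)

instance N_normal (m : ℕ) : (N G m).Normal := by
  unfold N
  infer_instance

theorem N_le_T (m : ℕ) : N G m ≤ T G m := inf_le_left

theorem N_comm {m : ℕ} {a b : G} (ha : a ∈ N G m) (hb : b ∈ N G m) : a * b = b * a :=
  ((mem_centralizer_iff.1 hb.2) a ha.1)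

theorem card_N_dvd {m : ℕ} (y : G) (hy : cs y = m) : Nat.card (N G m) ∣ m :=
  (card_dvd_of_le (N_le_T m)).trans (card_T_dvd y hy)

theorem pow_eq_one_of_mem_N {m : ℕ} (y : G) (hy : cs y = m) {ν : G} (hν : ν ∈ N G m) :
    ν ^ m = 1 := by
  obtain ⟨k, hk⟩ := card_N_dvd y hy
  have h1 : (⟨ν, hν⟩ : N G m) ^ Nat.card (N G m) = 1 := pow_card_eq_one'
  have h2 : ν ^ Nat.card (N G m) = 1 := congrArg Subtype.val h1
  rw [hk, pow_mul, h2, one_pow]

theorem N_le_C {m : ℕ} (y : G) (hy : cs y = m) (g : G) (hg : (cs g).Coprime m) : N G m ≤ C g :=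
  (N_le_T m).trans (T_le_C y hy g hg)

theorem gen_mem_N {m : ℕ} (htop : ∀ z : G, cs z ≤ m) (y : G) (hy : cs y = m) (g : G)
    (hg : (cs g).Coprime m) (t : G) : t * g * t⁻¹ * g⁻¹ ∈ N G m := by
  refine mem_inf.2 ⟨gen_mem_T htop g hg t, ?_⟩
  rw [mem_centralizer_iff]
  intro τ hτ
  have h1 : τ * g = g * τ := mem_C.1 (T_le_C y hy g hg hτ)
  have hg' : (cs (t * g * t⁻¹)).Coprime m := by rw [cs_conj]; exact hg
  have h2 : τ * (t * g * t⁻¹) = (t * g * t⁻¹) * τ := mem_C.1 (T_le_C y hy _ hg' hτ)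
  have h3 : τ * g⁻¹ = g⁻¹ * τ := by
    calc τ * g⁻¹ = g⁻¹ * (g * τ) * g⁻¹ := by group
      _ = g⁻¹ * (τ * g) * g⁻¹ := by rw [h1]
      _ = g⁻¹ * τ := by group
  calc τ * (t * g * t⁻¹ * g⁻¹) = (τ * (t * g * t⁻¹)) * g⁻¹ := by group
    _ = (t * g * t⁻¹) * (τ * g⁻¹) := by rw [h2]; group
    _ = t * g * t⁻¹ * g⁻¹ * τ := by rw [h3]; group

/-- Elements of `N` stabilise classes of size `m`. -/
theorem isConj_mul_of_mem_N {m : ℕ} {ν : G} (hν : ν ∈ N G m) (h : G) (hh : cs h = m) :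
    IsConj h (h * ν) := hν.1 h hh


instance N_isMulCommutative (m : ℕ) : IsMulCommutative (N G m) :=
  ⟨⟨fun a b => Subtype.ext (N_comm a.2 b.2)⟩⟩

/-! ### Elements whose class size is coprime to `m` -/

section Coprime

variable {m : ℕ} (htop : ∀ z : G, cs z ≤ m) (y : G) (hy : cs y = m)
include htop y hy

theorem commute_gen (g : G) (hg : (cs g).Coprime m) (t : G) :
    Commute (t * g * t⁻¹ * g⁻¹) g :=
  (mem_C.1 (N_le_C y hy g hg (gen_mem_N htop y hy g hg t)))

theorem pow_mem_center (g : G) (hg : (cs g).Coprime m) : g ^ m ∈ center G := by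
  rw [mem_center_iff]
  intro t
  have h1 : t * g ^ m * t⁻¹ = g ^ m := by
    rw [← conj_pow]
    have h2 : t * g * t⁻¹ = (t * g * t⁻¹ * g⁻¹) * g := by group
    rw [h2, (commute_gen htop y hy g hg t).mul_pow,
      pow_eq_one_of_mem_N y hy (gen_mem_N htop y hy g hg t), one_mul]
  calc t * g ^ m = t * g ^ m * t⁻¹ * t := by group
    _ = g ^ m * t := by rw [h1]

open scoped IsMulCommutative in
/-- Averaging over the class: `g ^ |g^G| ∈ Z(G) N`. -/
theorem pow_cs_mem (g : G) (hg : (cs g).Coprime m) : g ^ cs g ∈ center G ⊔ N G m := by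
  classical
  let cl := {c : G // IsConj g c}
  letI : Fintype cl := Fintype.ofFinite cl
  have hcard : Fintype.card cl = cs g := by
    rw [← Nat.card_eq_fintype_card]
    exact (Nat.card_coe_set_eq {c : G | IsConj g c}).trans (ncard_isConj_eq_cs g)
  have hδ : ∀ c : cl, c.1 * g⁻¹ ∈ N G m := by
    rintro ⟨c, hc⟩
    obtain ⟨t, rfl⟩ := isConj_iff.1 hc
    exact gen_mem_N htop y hy g hg t
  let δ : cl → N G m := fun c => ⟨c.1 * g⁻¹, hδ c⟩
  set νs : N G m := ∏ c : cl, δ c with hνs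
  have hNg : ∀ ν ∈ N G m, Commute ν g := fun ν hν => mem_C.1 (N_le_C y hy g hg hν)
  -- the element `w = g^d * νs` is central
  have hw : g ^ cs g * (νs : G) ∈ center G := by
    rw [mem_center_iff]
    intro t
    let ct : cl := ⟨t * g * t⁻¹, isConj_iff.2 ⟨t, rfl⟩⟩
    let σ : cl ≃ cl :=
      { toFun := fun c => ⟨t * c.1 * t⁻¹, c.2.trans (isConj_iff.2 ⟨t, rfl⟩)⟩
        invFun := fun c => ⟨t⁻¹ * c.1 * t, c.2.trans (isConj_iff.2 ⟨t⁻¹, by group⟩)⟩
        left_inv := fun c => Subtype.ext (by simp only; group)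
        right_inv := fun c => Subtype.ext (by simp only; group) }
    have h1 : ∀ c : cl, MulAut.conjNormal t (δ c) = δ (σ c) * (δ ct)⁻¹ := by
      intro c
      apply Subtype.ext
      rw [MulAut.conjNormal_apply]
      simp only [δ, σ, ct, Subgroup.coe_mul, Subgroup.coe_inv, Equiv.coe_fn_mk]
      group
    have h2 : MulAut.conjNormal t νs = νs * ((δ ct)⁻¹) ^ cs g := by
      rw [hνs, map_prod]
      simp_rw [h1]
      rw [Finset.prod_mul_distrib, Finset.prod_const, Finset.card_univ, hcard,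
        Equiv.prod_comp σ δ]
    have h3 : t * (νs : G) * t⁻¹ = (νs : G) * (((δ ct : N G m) : G)⁻¹) ^ cs g := by
      have := congrArg Subtype.val h2
      rw [MulAut.conjNormal_apply] at this
      rw [this]
      simp
    have h4 : t * g ^ cs g * t⁻¹ = ((δ ct : N G m) : G) ^ cs g * g ^ cs g := by
      rw [← conj_pow]
      have h5 : t * g * t⁻¹ = ((δ ct : N G m) : G) * g := by
        simp only [δ, ct]; group
      rw [h5, (hNg _ (δ ct).2).mul_pow]
    set d := ((δ ct : N G m) : G) with hd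
    have hdg : Commute d g := hNg _ (δ ct).2
    have hdν : Commute d (νs : G) := N_comm (δ ct).2 νs.2
    have h6 : t * (g ^ cs g * (νs : G)) * t⁻¹ = g ^ cs g * (νs : G) := by
      calc t * (g ^ cs g * (νs : G)) * t⁻¹ = (t * g ^ cs g * t⁻¹) * (t * (νs : G) * t⁻¹) := by
            group
        _ = (d ^ cs g * g ^ cs g) * ((νs : G) * d⁻¹ ^ cs g) := by rw [h4, h3]
        _ = g ^ cs g * (d ^ cs g * ((νs : G) * d⁻¹ ^ cs g)) := by
            rw [((hdg.pow_pow (cs g) (cs g))).eq]; group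
        _ = g ^ cs g * ((νs : G) * (d ^ cs g * d⁻¹ ^ cs g)) := by
            rw [← mul_assoc (d ^ cs g), ((hdν.pow_left (cs g))).eq]; group
        _ = g ^ cs g * (νs : G) := by
            rw [inv_pow, mul_inv_cancel, mul_one]
    calc t * (g ^ cs g * (νs : G)) = t * (g ^ cs g * (νs : G)) * t⁻¹ * t := by group
      _ = g ^ cs g * (νs : G) * t := by rw [h6]
  have : g ^ cs g = (g ^ cs g * (νs : G)) * (νs : G)⁻¹ := by group
  rw [this]
  exact mul_mem (mem_sup_left hw) (mem_sup_right (inv_mem νs.2))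

/-- Every element whose class size is coprime to `m` lies in `Z(G) N`. -/
theorem mem_ZN (g : G) (hg : (cs g).Coprime m) : g ∈ center G ⊔ N G m := by
  have h1 := pow_cs_mem htop y hy g hg
  have h2 : g ^ m ∈ center G ⊔ N G m := mem_sup_left (pow_mem_center htop y hy g hg)
  have hb : (Nat.gcd (cs g) m : ℤ) = (cs g : ℤ) * Nat.gcdA (cs g) m + (m : ℤ) * Nat.gcdB (cs g) m :=
    Nat.gcd_eq_gcd_ab _ _
  rw [hg] at hb
  have h3 : g = (g ^ cs g) ^ (Nat.gcdA (cs g) m) * (g ^ m) ^ (Nat.gcdB (cs g) m) := by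
    rw [← zpow_natCast g (cs g), ← zpow_natCast g m, ← zpow_mul, ← zpow_mul, ← zpow_add, ← hb]
    simp
  rw [h3]
  exact mul_mem (zpow_mem h1 _) (zpow_mem h2 _)

end Coprime

/-! ### The subgroup `Z(G) N` -/

/-- `Z(G) N`. -/
def ZN (G : Type*) [Group G] [Finite G] (m : ℕ) : Subgroup G := center G ⊔ N G m

instance ZN_normal (m : ℕ) : (ZN G m).Normal := by
  unfold ZN
  infer_instance

theorem mem_ZN_iff {m : ℕ} {x : G} : x ∈ ZN G m ↔ ∃ z ∈ center G, ∃ ν ∈ N G m, z * ν = x :=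
  mem_sup_of_normal_right

theorem center_le_ZN (m : ℕ) : center G ≤ ZN G m := le_sup_left

theorem N_le_ZN (m : ℕ) : N G m ≤ ZN G m := le_sup_right

theorem ZN_comm {m : ℕ} {a b : G} (ha : a ∈ ZN G m) (hb : b ∈ ZN G m) : a * b = b * a := by
  obtain ⟨z₁, hz₁, ν₁, hν₁, rfl⟩ := mem_ZN_iff.1 ha
  obtain ⟨z₂, hz₂, ν₂, hν₂, rfl⟩ := mem_ZN_iff.1 hb
  have c1 : ∀ s : G, s * z₁ = z₁ * s := fun s => mem_center_iff.1 hz₁ s
  have c2 : ∀ s : G, s * z₂ = z₂ * s := fun s => mem_center_iff.1 hz₂ s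
  have c3 : ν₁ * ν₂ = ν₂ * ν₁ := N_comm hν₁ hν₂
  calc z₁ * ν₁ * (z₂ * ν₂) = z₁ * (ν₁ * z₂) * ν₂ := by group
    _ = z₁ * (z₂ * ν₁) * ν₂ := by rw [c2 ν₁]
    _ = (z₁ * z₂) * (ν₁ * ν₂) := by group
    _ = (z₂ * z₁) * (ν₂ * ν₁) := by rw [c3, c2 z₁]
    _ = z₂ * (z₁ * ν₂) * ν₁ := by group
    _ = z₂ * (ν₂ * z₁) * ν₁ := by rw [c1 ν₂]
    _ = z₂ * ν₂ * (z₁ * ν₁) := by group

/-- A `π(m)'`-element of `Z(G) N` is central. -/
theorem mem_center_of_PiPr_of_mem_ZN {m : ℕ} (y : G) (hy : cs y = m) {b : G} (hb : PiPr m b)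
    (hbZN : b ∈ ZN G m) : b ∈ center G := by
  apply mem_of_pow_mem_of_PiPr hb
  obtain ⟨z, hz, ν, hν, rfl⟩ := mem_ZN_iff.1 hbZN
  have hc : Commute z ν := (mem_center_iff.1 hz ν).symm
  rw [hc.mul_pow, pow_eq_one_of_mem_N y hy hν, mul_one]
  exact pow_mem hz m


/-! ### The main analysis -/

theorem relIndex_ne_zero_fin (A B : Subgroup G) : A.relIndex B ≠ 0 := by
  unfold relIndex
  exact index_ne_zero_of_finite

theorem C_inf_le_C_mul (a b : G) : C a ⊓ C b ≤ C (a * b) := by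
  rintro t ⟨h1, h2⟩
  have h1' : t * a = a * t := mem_C.1 h1
  have h2' : t * b = b * t := mem_C.1 h2
  exact mem_C.2 ((show Commute t a from h1').mul_right (show Commute t b from h2')).eq

theorem commute_of_mem_zpowers {l x a : G} (hlx : Commute l x) (ha : a ∈ zpowers l) :
    Commute a x := by
  obtain ⟨i, rfl⟩ := mem_zpowers_iff.1 ha
  exact hlx.zpow_left i

section Main

variable {m n : ℕ} (H : Hyp G m n)
include H

theorem Hyp.coprime_of_eq {g : G} (hg : cs g = n) : (cs g).Coprime m := by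
  rw [hg]; exact H.hcop.symm

theorem Hyp.le_of_ne {g : G} (hg : cs g ≠ m) : cs g ≤ n :=
  H.hsec g (lt_of_le_of_ne (H.htop g) hg)

/-- An element of maximal class size: elements of its centraliser of coprime order are central
in the centraliser. -/
theorem Hyp.C_le_of_max {h c : G} (hh : cs h = m) (hc : Commute h c)
    (hcop : (orderOf h).Coprime (orderOf c)) : C h ≤ C c := by
  have h1 : C (h * c) = C h ⊓ C c := C_mul_of_coprime hc hcop
  have h2 : (C h ⊓ C c).index ≤ (C h).index := by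
    rw [← h1]
    show cs (h * c) ≤ cs h
    rw [hh]; exact H.htop _
  exact (le_of_le_of_index_le inf_le_left h2).trans inf_le_right

variable (x y : G) (hx : cs x = n) (hy : cs y = m)
include x y hx hy

/-- No `π(m)`-element of maximal class size commutes with `x`. -/
theorem Hyp.not_commute_PiEl {a : G} (ha : PiEl m a) (hcs : cs a = m) (hax : Commute a x) :
    False := by
  obtain ⟨p, hp, hpn⟩ := Nat.exists_prime_and_dvd (ne_of_gt H.hn)
  haveI : Fact p.Prime := ⟨hp⟩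
  have hpm : ¬ p ∣ m := by
    intro hpm
    have h1 : p ∣ Nat.gcd m n := Nat.dvd_gcd hpm hpn
    rw [H.hcop] at h1
    exact hp.ne_one (Nat.dvd_one.1 h1)
  have h1 : ¬ p ∣ (C x).index := by
    apply not_dvd_index_of_forall_mem p (C a) (C x)
    · show ¬ p ∣ cs a
      rw [hcs]; exact hpm
    · rintro c hc ⟨k, hk⟩
      have hca : c * a = a * c := mem_C.1 hc
      have hPc : PiPr m c := by
        have h2 : orderOf c ∣ p ^ k := orderOf_dvd_of_pow_eq_one hk
        exact Nat.Coprime.coprime_dvd_left h2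
          (Nat.Coprime.pow_left k ((Nat.Prime.coprime_iff_not_dvd hp).2 hpm))
      have h3 : C a ≤ C c :=
        H.C_le_of_max hcs (show Commute a c from hca.symm) (PiEl.coprime_orderOf ha hPc)
      have h4 : x ∈ C a := mem_C.2 hax.symm.eq
      have h5 : x * c = c * x := mem_C.1 (h3 h4)
      exact mem_C.2 h5.symm
  exact h1 (by show p ∣ cs x; rw [hx]; exact hpn)

/-- No `π(m)`-element has maximal class size. -/
theorem Hyp.cs_ne_of_PiEl {a : G} (ha : PiEl m a) : cs a ≠ m := by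
  intro hcs
  have hcop : (C a).index.Coprime (C x).index := by
    show (cs a).Coprime (cs x)
    rw [hcs, hx]; exact H.hcop
  have h1 : (C x).relIndex (C a) = n := by
    rw [relIndex_of_coprime (C a) (C x) hcop]; exact hx
  have h2 : a ∈ C x := by
    apply mem_of_central_of_coprime (C a) (C x) a (self_mem_C a)
    · intro h hh
      exact (show Commute h a from mem_C.1 hh).symm
    · rw [h1]; exact PiEl.coprime_of_coprime ha H.hcop
  exact H.not_commute_PiEl x y hx hy ha hcs (show Commute a x from mem_C.1 h2)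

/-- No element of maximal class size commutes with an element of class size `n`. -/
theorem Hyp.not_commute {y' : G} (hy' : cs y' = m) (hxy : Commute x y') : False := by
  obtain ⟨a, b, ha, hb, hab, hPa, hPb⟩ := exists_decomp m y' (isOfFinOrder_of_finite y')
  have hbx : Commute b x := commute_of_mem_zpowers hxy.symm hb
  have hxm : x ^ m ∈ center G := pow_mem_center H.htop y hy x (H.coprime_of_eq hx)
  have h1 : C (x * b) = C x ⊓ C b := C_mul_of_pow_mem_center hbx.symm m hxm hPb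
  have h2 : cs b ∣ m := by
    rw [← hy']; exact cs_dvd_of_C_le (C_le_C_of_mem_zpowers hb)
  have hcop : (C x).index.Coprime (C b).index := by
    show (cs x).Coprime (cs b)
    rw [hx]; exact Nat.Coprime.coprime_dvd_right h2 H.hcop.symm
  have h3 : cs (x * b) = n * cs b := by
    show (C (x * b)).index = n * cs b
    rw [h1, index_inf_of_coprime _ _ hcop]
    show cs x * cs b = n * cs b
    rw [hx]
  have h4 : cs (x * b) ≠ m := by
    intro h5
    rw [h3] at h5
    have h6 : n ∣ Nat.gcd m n := Nat.dvd_gcd ⟨_, h5.symm⟩ dvd_rfl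
    rw [H.hcop] at h6
    have := Nat.dvd_one.1 h6
    have := H.hn
    omega
  have h5 : n * cs b ≤ n := by rw [← h3]; exact H.le_of_ne h4
  have h6 : cs b = 1 := by
    have hpos := cs_pos b
    have hn := H.hn
    nlinarith
  have hbz : b ∈ center G := cs_eq_one_iff.1 h6
  have h7 : C y' = C a := by rw [hab]; exact C_mul_of_mem_center_right hbz
  have h8 : cs a = m := by
    rw [← hy']
    show (C a).index = (C y').index
    rw [h7]
  exact H.cs_ne_of_PiEl x y hx hy hPa h8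

/-- A `π(m)'`-element commuting with an element of class size `n` is central. -/
theorem Hyp.mem_center_of_PiPr_of_commute {c : G} (hc : PiPr m c) (hxc : Commute x c) :
    c ∈ center G := by
  have hxm : x ^ m ∈ center G := pow_mem_center H.htop y hy x (H.coprime_of_eq hx)
  have h1 : C (x * c) = C x ⊓ C c := C_mul_of_pow_mem_center hxc m hxm hc
  have h2 : cs (x * c) ≠ m := by
    intro h3
    exact H.not_commute x y hx hy h3 ((Commute.refl x).mul_right hxc)
  have h3 : cs (x * c) ≤ n := H.le_of_ne h2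
  have h4 : (C x ⊓ C c).index ≤ (C x).index := by
    rw [← h1]
    show cs (x * c) ≤ cs x
    rw [hx]; exact h3
  have h5 : C x ≤ C c := (le_of_le_of_index_le inf_le_left h4).trans inf_le_right
  have h6 : cs c ∣ n := by rw [← hx]; exact cs_dvd_of_C_le h5
  have h7 : (cs c).Coprime m := Nat.Coprime.coprime_dvd_left h6 H.hcop.symm
  exact mem_center_of_PiPr_of_mem_ZN y hy hc (mem_ZN H.htop y hy c h7)

/-- An element whose class size is `< m` and coprime to `n` lies in `Z(G) N`. -/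
theorem Hyp.mem_ZN_of_coprime {c : G} (hc : (cs c).Coprime n) (hlt : cs c < m) :
    c ∈ ZN G m := by
  have hcop : (C x).index.Coprime (C c).index := by
    show (cs x).Coprime (cs c)
    rw [hx]; exact hc.symm
  have h1 : cs (x * c) ∣ n * cs c := by
    have := index_dvd_of_le (C_inf_le_C_mul x c)
    rw [index_inf_of_coprime _ _ hcop] at this
    show (C (x * c)).index ∣ n * cs c
    rw [← hx]
    exact this
  have h2 : n ≤ cs (x * c) := by
    rw [← hx, ← ncard_isConj_eq_cs x, ← ncard_isConj_eq_cs (x * c)]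
    have himg : (fun d => d * c) '' {d | IsConj x d} ⊆ {e | IsConj (x * c) e} := by
      rintro _ ⟨d, hd, rfl⟩
      obtain ⟨s, rfl⟩ := isConj_iff.1 hd
      obtain ⟨a, ha, b, hb, rfl⟩ := exists_mul_of_coprime_index (C c) (C x) hcop.symm s
      rw [mem_C] at ha hb
      refine isConj_iff.2 ⟨a, ?_⟩
      have e1 : a * b * x * (a * b)⁻¹ = a * (b * x) * b⁻¹ * a⁻¹ := by group
      rw [e1, hb]
      have e3 : a⁻¹ * c = c * a⁻¹ := by
        calc a⁻¹ * c = a⁻¹ * (c * a) * a⁻¹ := by group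
          _ = a⁻¹ * (a * c) * a⁻¹ := by rw [ha]
          _ = c * a⁻¹ := by group
      have e2 : a * (x * b) * b⁻¹ * a⁻¹ * c = a * x * (a⁻¹ * c) := by group
      show a * (x * c) * a⁻¹ = a * (x * b) * b⁻¹ * a⁻¹ * c
      rw [e2, e3]
      group
    calc {d | IsConj x d}.ncard = ((fun d => d * c) '' {d | IsConj x d}).ncard :=
          (Set.ncard_image_of_injective _ (mul_left_injective c)).symm
      _ ≤ {e | IsConj (x * c) e}.ncard := Set.ncard_le_ncard himg (Set.toFinite _)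
  have h3 : cs (x * c) ≠ m := by
    intro h4
    rw [h4] at h1
    have h5 : m ∣ cs c := (Nat.Coprime.dvd_of_dvd_mul_left H.hcop h1)
    have := Nat.le_of_dvd (cs_pos c) h5
    omega
  have h4 : cs (x * c) = n := le_antisymm (H.le_of_ne h3) h2
  have h5 : x * c ∈ ZN G m := mem_ZN H.htop y hy _ (H.coprime_of_eq h4)
  have h6 : x ∈ ZN G m := mem_ZN H.htop y hy _ (H.coprime_of_eq hx)
  have : c = x⁻¹ * (x * c) := by group
  rw [this]
  exact mul_mem (inv_mem h6) h5

/-- The `π(m)'`-part of an element of maximal class size has maximal class size. -/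
theorem Hyp.cs_PiPr_part {a b : G} (hab : Commute a b) (hPa : PiEl m a) (hPb : PiPr m b)
    (hcs : cs (a * b) = m) : cs b = m := by
  by_contra hne
  have h1 : C (a * b) = C a ⊓ C b := C_mul_of_coprime hab (PiEl.coprime_orderOf hPa hPb)
  have h2 : cs b ∣ m := by
    rw [← hcs]
    apply cs_dvd_of_C_le
    rw [h1]; exact inf_le_right
  have h3 : cs b < m := lt_of_le_of_ne (H.htop b) hne
  have h4 : (cs b).Coprime n := Nat.Coprime.coprime_dvd_left h2 H.hcop
  have h5 : b ∈ center G :=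
    mem_center_of_PiPr_of_mem_ZN y hy hPb (H.mem_ZN_of_coprime x y hx hy h4 h3)
  have h6 : C (a * b) = C a := C_mul_of_mem_center_right h5
  have h7 : cs a = m := by
    rw [← hcs]
    show (C a).index = (C (a * b)).index
    rw [h6]
  exact H.cs_ne_of_PiEl x y hx hy hPa h7

omit H x hx in
/-- A `π(m)'`-element of maximal class size acts fixed-point-freely on `N`. -/
theorem eq_one_of_mem_N_of_commute {b ν : G} (hPb : PiPr m b) (hcs : cs b = m)
    (hν : ν ∈ N G m) (hbν : Commute b ν) : ν = 1 := by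
  have h1 : IsConj b (b * ν) := isConj_mul_of_mem_N hν b hcs
  obtain ⟨c, hc⟩ := isConj_iff.1 h1
  have h2 : orderOf (b * ν) = orderOf b := by
    rw [← hc, show c * b * c⁻¹ = MulAut.conj c b from rfl, MulEquiv.orderOf_eq]
  have h3 : (b * ν) ^ orderOf b = 1 := by rw [← h2]; exact pow_orderOf_eq_one _
  rw [hbν.mul_pow, pow_orderOf_eq_one, one_mul] at h3
  have h4 : ν ^ m = 1 := pow_eq_one_of_mem_N y hy hν
  have h5 : orderOf ν ∣ Nat.gcd (orderOf b) m :=
    Nat.dvd_gcd (orderOf_dvd_of_pow_eq_one h3) (orderOf_dvd_of_pow_eq_one h4)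
  rw [hPb] at h5
  exact orderOf_eq_one_iff.1 (Nat.dvd_one.1 h5)


omit H x y hx hy in
theorem conj_mem_commutator_of_commute {b f : G} (hfb : f * b = b * f) (M : Subgroup G)
    [hM : M.Normal] {μ : G} (hμ : μ ∈ ⁅M, zpowers b⁆) : f * μ * f⁻¹ ∈ ⁅M, zpowers b⁆ := by
  have h1 : f * μ * f⁻¹ ∈ (⁅M, zpowers b⁆).map (MulAut.conj f).toMonoidHom := ⟨μ, hμ, rfl⟩
  rw [map_commutator] at h1
  refine commutator_mono ?_ ?_ h1
  · rintro _ ⟨u, hu, rfl⟩
    exact hM.conj_mem u hu f
  · rintro _ ⟨u, hu, rfl⟩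
    obtain ⟨i, rfl⟩ := mem_zpowers_iff.1 hu
    have h2 : f * b ^ i * f⁻¹ = b ^ i := by
      have h3 : Commute f (b ^ i) := (show Commute f b from hfb).zpow_right i
      calc f * b ^ i * f⁻¹ = b ^ i * f * f⁻¹ := by rw [h3.eq]
        _ = b ^ i := by group
    show f * b ^ i * f⁻¹ ∈ zpowers b
    rw [h2]
    exact zpow_mem (mem_zpowers b) i

/-- Every non-central `π(m)'`-element has maximal class size. -/
theorem Hyp.cs_eq_of_PiPr {b : G} (hPb : PiPr m b) (hbz : b ∉ center G) : cs b = m := by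
  by_contra hne
  -- replace `x` by its `N`-part `ν`
  obtain ⟨z, hz, ν, hν, hzν⟩ := mem_ZN_iff.1 (mem_ZN H.htop y hy x (H.coprime_of_eq hx))
  have hCν : C ν = C x := by
    rw [← hzν, (mem_center_iff.1 hz ν).symm]
    exact (C_mul_of_mem_center_right hz).symm
  have hcsν : cs ν = n := by
    rw [← hx]
    show (C ν).index = (C x).index
    rw [hCν]
  -- coprime action of `⟨b⟩` on `N`
  have hK : zpowers b ≤ normalizer ((N G m : Subgroup G) : Set G) := by
    rw [normalizer_eq_top]; exact le_top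
  have hcopN : (Nat.card (zpowers b)).Coprime (Nat.card (N G m)) := by
    rw [Nat.card_zpowers]
    exact Nat.Coprime.coprime_dvd_right (card_N_dvd y hy) hPb
  obtain ⟨ν₂, hν₂, ν₁, hν₁, hνeq⟩ :=
    Cfsg.Agent.Lib.Helper2_Coprime.exists_mul_of_coprime_subgroup (N G m) (zpowers b) hK hcopN ν hν
  have hν₁N : ν₁ ∈ N G m := hν₁.1
  have hν₁b : Commute ν₁ b :=
    ((mem_centralizer_iff.1 hν₁.2) b (mem_zpowers b)).symm
  have hν₂ne : ν₂ ≠ 1 := by
    intro h1
    rw [h1, one_mul] at hνeq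
    rw [hνeq] at hcsν
    exact hbz (H.mem_center_of_PiPr_of_commute ν₁ y hcsν hy hPb hν₁b)
  have hPν₁ : PiEl m ν₁ := PiEl.of_pow_eq_one (pow_eq_one_of_mem_N y hy hν₁N)
  have hcs'' : cs (ν₁ * b) ≠ m := fun h1 => hne (H.cs_PiPr_part x y hx hy hν₁b hPν₁ hPb h1)
  have hF : C (ν₁ * b) = C ν₁ ⊓ C b := C_mul_of_coprime hν₁b (PiEl.coprime_orderOf hPν₁ hPb)
  set F := C ν₁ ⊓ C b with hFdef
  have hFidx : F.index ≤ n := by
    rw [← hF]; exact H.le_of_ne hcs''
  set N₁ := ⁅N G m, zpowers b⁆ with hN₁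
  have hN₁N : N₁ ≤ N G m := commutator_le_left _ _
  set X : Set G := (N₁ : Set G) \ {1} with hXdef
  have hX : ∀ f ∈ F, f * ν₂ * f⁻¹ ∈ X := by
    intro f hf
    refine ⟨conj_mem_commutator_of_commute (mem_C.1 hf.2) (N G m) hν₂, ?_⟩
    intro h1
    rw [Set.mem_singleton_iff] at h1
    apply hν₂ne
    calc ν₂ = f⁻¹ * (f * ν₂ * f⁻¹) * f := by group
      _ = 1 := by rw [h1]; group
  have h1 : (C ν₂).relIndex F ≤ X.ncard := relIndex_C_le_ncard F ν₂ X hX
  have hXcard : X.ncard = Nat.card N₁ - 1 := by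
    rw [hXdef, Set.ncard_sdiff_singleton_of_mem (show (1 : G) ∈ (N₁ : Set G) from one_mem N₁)]
    rfl
  have hF'le : F ⊓ C ν₂ ≤ C ν ⊓ C b := by
    rintro f ⟨⟨hf1, hf2⟩, hf3⟩
    refine ⟨?_, hf2⟩
    have e1 : f * ν₁ = ν₁ * f := mem_C.1 hf1
    have e2 : f * ν₂ = ν₂ * f := mem_C.1 hf3
    rw [hνeq]
    exact mem_C.2 ((show Commute f ν₂ from e2).mul_right (show Commute f ν₁ from e1)).eq
  have hA : (C ν ⊓ C b).index ≤ (F ⊓ C ν₂).index :=
    Nat.le_of_dvd (Nat.pos_of_ne_zero index_ne_zero_of_finite) (index_dvd_of_le hF'le)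
  have hB : (F ⊓ C ν₂).index = (C ν₂).relIndex F * F.index := by
    rw [← relIndex_mul_index (inf_le_left : F ⊓ C ν₂ ≤ F), inf_relIndex_left]
  have hC : (C ν ⊓ C b).index = (C b).relIndex (C ν) * n := by
    rw [← relIndex_mul_index (inf_le_left : C ν ⊓ C b ≤ C ν), inf_relIndex_left]
    show (C b).relIndex (C ν) * cs ν = _
    rw [hcsν]
  have hNν : N G m ≤ C ν := N_le_C y hy ν (H.coprime_of_eq hcsν)
  have hbot : C b ⊓ N₁ = ⊥ := by
    rw [eq_bot_iff]
    rintro μ ⟨hμ1, hμ2⟩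
    have h2 := Cfsg.Agent.Lib.Helper2_Coprime.commutator_inf_centralizer_eq_bot
      (N G m) (zpowers b) hK hcopN
    have h3 : μ ∈ ⁅N G m, zpowers b⁆ ⊓ (N G m ⊓ centralizer ((zpowers b : Subgroup G) : Set G)) := by
      refine mem_inf.2 ⟨hμ2, mem_inf.2 ⟨hN₁N hμ2, ?_⟩⟩
      rw [mem_centralizer_iff]
      intro k hk
      obtain ⟨i, rfl⟩ := mem_zpowers_iff.1 hk
      have e1 : μ * b = b * μ := mem_C.1 hμ1
      exact ((show Commute μ b from e1).zpow_right i).eq.symm
    rw [h2] at h3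
    exact h3
  have hD : Nat.card N₁ ≤ (C b).relIndex (C ν) := by
    have h2 : (C b).relIndex N₁ = Nat.card N₁ := by
      rw [← inf_relIndex_right, hbot, relIndex_bot_left]
    rw [← h2]
    exact relIndex_le_of_le_right (hN₁N.trans hNν) (relIndex_ne_zero_fin _ _)
  have hN₁pos : 0 < Nat.card N₁ := Nat.card_pos
  have hnpos : 0 < n := lt_trans Nat.zero_lt_one H.hn
  have e1 : Nat.card N₁ * n ≤ (Nat.card N₁ - 1) * n := by
    calc Nat.card N₁ * n ≤ (C b).relIndex (C ν) * n := Nat.mul_le_mul_right _ hD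
      _ = (C ν ⊓ C b).index := hC.symm
      _ ≤ (F ⊓ C ν₂).index := hA
      _ = (C ν₂).relIndex F * F.index := hB
      _ ≤ (Nat.card N₁ - 1) * n := by
          rw [← hXcard]
          exact Nat.mul_le_mul h1 hFidx
  have e2 : (Nat.card N₁ - 1) * n < Nat.card N₁ * n :=
    Nat.mul_lt_mul_of_pos_right (Nat.sub_lt hN₁pos Nat.zero_lt_one) hnpos
  omega

/-- A `π(m)`-element commuting with a non-central `π(m)'`-element is central. -/
theorem Hyp.mem_center_of_PiEl_of_commute {a b : G} (hPa : PiEl m a) (hPb : PiPr m b)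
    (hbz : b ∉ center G) (hab : Commute a b) : a ∈ center G := by
  have hcsb : cs b = m := H.cs_eq_of_PiPr x y hx hy hPb hbz
  have h1 : C b ≤ C a :=
    H.C_le_of_max hcsb hab.symm (PiEl.coprime_orderOf hPa hPb).symm
  have h2 : cs a ∣ m := by rw [← hcsb]; exact cs_dvd_of_C_le h1
  have h3 : cs a < m := lt_of_le_of_ne (H.htop a) (H.cs_ne_of_PiEl x y hx hy hPa)
  have h4 : (cs a).Coprime n := Nat.Coprime.coprime_dvd_left h2 H.hcop
  obtain ⟨z, hz, ν, hν, hzν⟩ := mem_ZN_iff.1 (H.mem_ZN_of_coprime x y hx hy h4 h3)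
  have hzb : Commute z b := (mem_center_iff.1 hz b).symm
  have hνb : Commute b ν := by
    have : ν = z⁻¹ * a := by rw [← hzν]; group
    rw [this]
    exact (hzb.inv_left.mul_left hab).symm
  have hν1 : ν = 1 := eq_one_of_mem_N_of_commute y hy hPb hcsb hν hνb
  rw [← hzν, hν1, mul_one]
  exact hz

/-- The centraliser of an element of class size `n` is `Z(G) N`. -/
theorem Hyp.C_le_ZN : C x ≤ ZN G m := by
  intro l hl
  have hlx : Commute l x := mem_C.1 hl
  obtain ⟨a, b', ha, hb', hab, hPa, hPb'⟩ := exists_decomp m l (isOfFinOrder_of_finite l)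
  have hb'z : b' ∈ center G :=
    H.mem_center_of_PiPr_of_commute x y hx hy hPb' (commute_of_mem_zpowers hlx hb').symm
  have hax : Commute a x := commute_of_mem_zpowers hlx ha
  rw [hab]
  refine mul_mem ?_ (center_le_ZN m hb'z)
  by_cases haz : a ∈ center G
  · exact center_le_ZN m haz
  -- `cs a = n`
  have h1 : cs a ≤ n := by
    apply H.le_of_ne
    intro h2
    exact H.not_commute x y hx hy h2 hax.symm
  -- the `π'`-part of `y`
  obtain ⟨ay, b, hay, hb, hyab, hPay, hPb⟩ := exists_decomp m y (isOfFinOrder_of_finite y)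
  have hcomm : Commute ay b := by
    obtain ⟨i, rfl⟩ := mem_zpowers_iff.1 hay
    obtain ⟨j, rfl⟩ := mem_zpowers_iff.1 hb
    exact (Commute.refl y).zpow_zpow i j
  have hcsb : cs b = m := H.cs_PiPr_part x y hx hy hcomm hPay hPb (by rw [← hyab]; exact hy)
  have hbz : b ∉ center G := by
    intro h2
    have := cs_eq_one_iff.2 h2
    have := H.hn; have := H.hmn
    omega
  have h2 : C a ⊓ C b ≤ center G := by
    rintro h ⟨hh1, hh2⟩
    have hha : Commute h a := mem_C.1 hh1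
    have hhb : Commute h b := mem_C.1 hh2
    obtain ⟨ah, bh, hah, hbh, hhab, hPah, hPbh⟩ := exists_decomp m h (isOfFinOrder_of_finite h)
    have hbhz : bh ∈ center G := by
      by_contra hbhz
      exact haz (H.mem_center_of_PiEl_of_commute x y hx hy hPa hPbh hbhz
        (commute_of_mem_zpowers hha hbh).symm)
    have hahz : ah ∈ center G :=
      H.mem_center_of_PiEl_of_commute x y hx hy hPah hPb hbz (commute_of_mem_zpowers hhb hah)
    rw [hhab]
    exact mul_mem hahz hbhz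
  have hcop : (C b).index.Coprime (C x).index := by
    show (cs b).Coprime (cs x)
    rw [hcsb, hx]; exact H.hcop
  have h3 : (C x).relIndex (C b) = n := by
    rw [relIndex_of_coprime (C b) (C x) hcop]; exact hx
  have h4 : C a ⊓ C b ≤ C x ⊓ C b := h2.trans (le_inf (center_le_C x) (center_le_C b))
  have h5 : (C x ⊓ C b).relIndex (C b) ≤ (C a ⊓ C b).relIndex (C b) :=
    relIndex_le_of_le_left h4 (relIndex_ne_zero_fin _ _)
  rw [inf_relIndex_right, inf_relIndex_right, h3] at h5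
  have h6 : (C a).relIndex (C b) ≤ (C a).index := by
    have := relIndex_le_of_le_right (H := C a) (le_top : C b ≤ ⊤) (relIndex_ne_zero_fin _ _)
    rwa [relIndex_top_right] at this
  have h7 : cs a = n := le_antisymm h1 (h5.trans h6)
  exact mem_ZN H.htop y hy a (H.coprime_of_eq h7)


/-! ### Structure of `G` -/

theorem Hyp.C_eq_ZN : C x = ZN G m := by
  apply le_antisymm (H.C_le_ZN x y hx hy)
  exact sup_le (center_le_C x) (N_le_C y hy x (H.coprime_of_eq hx))

/-- The `π(m)'`-part `b` of `y` has the same centraliser as `y`. -/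
theorem Hyp.exists_b : ∃ b : G, PiPr m b ∧ cs b = m ∧ C b = C y ∧ b ∉ center G := by
  obtain ⟨ay, b, hay, hb, hyab, hPay, hPb⟩ := exists_decomp m y (isOfFinOrder_of_finite y)
  have hcomm : Commute ay b := by
    obtain ⟨i, rfl⟩ := mem_zpowers_iff.1 hay
    obtain ⟨j, rfl⟩ := mem_zpowers_iff.1 hb
    exact (Commute.refl y).zpow_zpow i j
  have hcsb : cs b = m := H.cs_PiPr_part x y hx hy hcomm hPay hPb (by rw [← hyab]; exact hy)
  refine ⟨b, hPb, hcsb, ?_, ?_⟩
  · have h1 : C y ≤ C b := C_le_C_of_mem_zpowers hb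
    apply le_antisymm _ h1
    apply le_of_le_of_index_le h1
    show cs y ≤ cs b
    rw [hy, hcsb]
  · intro h2
    have := cs_eq_one_iff.2 h2
    have := H.hn; have := H.hmn
    omega

theorem Hyp.N_inf_C : N G m ⊓ C y = ⊥ := by
  obtain ⟨b, hPb, hcsb, hCb, -⟩ := H.exists_b x y hx hy
  rw [eq_bot_iff]
  intro ν hν
  obtain ⟨hν1, hν2⟩ := mem_inf.1 hν
  rw [← hCb] at hν2
  have h1 : ν * b = b * ν := mem_C.1 hν2
  exact eq_one_of_mem_N_of_commute y hy hPb hcsb hν1 (show Commute b ν from h1.symm)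

theorem Hyp.ZN_inf_C : ZN G m ⊓ C y ≤ center G := by
  intro l hl
  obtain ⟨hl1, hl2⟩ := mem_inf.1 hl
  obtain ⟨z, hz, ν, hν, rfl⟩ := mem_ZN_iff.1 hl1
  have h1 : ν ∈ C y := by
    have : ν = z⁻¹ * (z * ν) := by group
    rw [this]
    exact mul_mem (inv_mem (center_le_C y hz)) hl2
  have h2 : ν ∈ N G m ⊓ C y := mem_inf.2 ⟨hν, h1⟩
  rw [H.N_inf_C x y hx hy, mem_bot] at h2
  rw [h2, mul_one]
  exact hz

theorem Hyp.exists_mul (g : G) : ∃ ν ∈ N G m, ∃ h ∈ C y, g = ν * h := by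
  have hcop : (C x).index.Coprime (C y).index := by
    show (cs x).Coprime (cs y)
    rw [hx, hy]; exact H.hcop.symm
  obtain ⟨l, hl, h, hh, rfl⟩ := exists_mul_of_coprime_index (C x) (C y) hcop g
  rw [H.C_eq_ZN x y hx hy] at hl
  obtain ⟨z, hz, ν, hν, rfl⟩ := mem_ZN_iff.1 hl
  refine ⟨ν, hν, z * h, mul_mem (center_le_C y hz) hh, ?_⟩
  rw [(mem_center_iff.1 hz ν).symm]
  group

/-- A non-central element of `C(y)` has class size `m` and acts fixed-point-freely on `N`. -/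
theorem Hyp.fpf_of_mem_C {h : G} (hh : h ∈ C y) (hhz : h ∉ center G) :
    cs h = m ∧ ∀ ν ∈ N G m, Commute h ν → ν = 1 := by
  obtain ⟨b, hPb, hcsb, hCb, hbz⟩ := H.exists_b x y hx hy
  obtain ⟨ah, bh, hah, hbh, hhab, hPah, hPbh⟩ := exists_decomp m h (isOfFinOrder_of_finite h)
  have hhb : Commute h b := by
    rw [← hCb] at hh
    exact mem_C.1 hh
  have hahz : ah ∈ center G :=
    H.mem_center_of_PiEl_of_commute x y hx hy hPah hPb hbz (commute_of_mem_zpowers hhb hah)
  have hbhz : bh ∉ center G := by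
    intro h1
    apply hhz
    rw [hhab]
    exact mul_mem hahz h1
  have hcsbh : cs bh = m := H.cs_eq_of_PiPr x y hx hy hPbh hbhz
  have hCh : C h = C bh := by
    rw [hhab, (mem_center_iff.1 hahz bh).symm]
    exact C_mul_of_mem_center_right hahz
  refine ⟨?_, ?_⟩
  · rw [← hcsbh]
    show (C h).index = (C bh).index
    rw [hCh]
  · intro ν hν hhν
    have h1 : ν ∈ C h := mem_C.2 hhν.symm.eq
    rw [hCh] at h1
    exact eq_one_of_mem_N_of_commute y hy hPbh hcsbh hν (show Commute bh ν from (mem_C.1 h1).symm)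

/-- A non-central element of `C(y)` has centraliser `C(y)`. -/
theorem Hyp.C_eq_of_mem {h : G} (hh : h ∈ C y) (hhz : h ∉ center G) : C h = C y := by
  obtain ⟨hcs, hfpf⟩ := H.fpf_of_mem_C x y hx hy hh hhz
  have h1 : C h ≤ C y := by
    intro g hg
    have hgh : g * h = h * g := mem_C.1 hg
    obtain ⟨ν, hν, h', hh', rfl⟩ := H.exists_mul x y hx hy g
    have e1 : ν⁻¹ * (h * ν * h⁻¹) = h' * h * h'⁻¹ * h⁻¹ := by
      have e2 : h' * h = ν⁻¹ * h * ν * h' := by
        calc h' * h = ν⁻¹ * (ν * h' * h) := by group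
          _ = ν⁻¹ * (h * (ν * h')) := by rw [hgh]
          _ = ν⁻¹ * h * ν * h' := by group
      calc ν⁻¹ * (h * ν * h⁻¹) = (ν⁻¹ * h * ν * h') * h'⁻¹ * h⁻¹ := by group
        _ = h' * h * h'⁻¹ * h⁻¹ := by rw [← e2]
    have e3 : ν⁻¹ * (h * ν * h⁻¹) ∈ N G m ⊓ C y := by
      refine mem_inf.2 ⟨mul_mem (inv_mem hν) ((N_normal m).conj_mem ν hν h), ?_⟩
      rw [e1]
      exact mul_mem (mul_mem (mul_mem hh' hh) (inv_mem hh')) (inv_mem hh)
    rw [H.N_inf_C x y hx hy, mem_bot] at e3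
    have e4 : Commute h ν := by
      have : h * ν * h⁻¹ = ν := by
        calc h * ν * h⁻¹ = ν * (ν⁻¹ * (h * ν * h⁻¹)) := by group
          _ = ν := by rw [e3, mul_one]
      calc h * ν = h * ν * h⁻¹ * h := by group
        _ = ν * h := by rw [this]
    rw [hfpf ν hν e4, one_mul]
    exact hh'
  apply le_antisymm h1
  apply le_of_le_of_index_le h1
  show cs h ≤ cs y
  rw [hcs, hy]

theorem Hyp.comm_C {h₁ h₂ : G} (h1 : h₁ ∈ C y) (h2 : h₂ ∈ C y) : h₁ * h₂ = h₂ * h₁ := by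
  by_cases hz : h₁ ∈ center G
  · exact (mem_center_iff.1 hz h₂).symm
  · have h3 : h₂ ∈ C h₁ := by rw [H.C_eq_of_mem x y hx hy h1 hz]; exact h2
    exact (mem_C.1 h3).symm

/-- The Frobenius property: `C(y) ∩ C(y)^g ≤ Z(G)` for `g ∉ C(y)`. -/
theorem Hyp.mem_center_of_conj {g h h' : G} (hg : g ∉ C y) (hh : h ∈ C y) (hh' : h' ∈ C y)
    (hconj : h = g * h' * g⁻¹) : h ∈ center G := by
  by_contra hhz
  have hh'z : h' ∉ center G := by
    intro h1
    apply hhz
    rw [hconj]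
    exact (inferInstance : (center G).Normal).conj_mem h' h1 g
  have e1 : C h = C y := H.C_eq_of_mem x y hx hy hh hhz
  have e2 : C h' = C y := H.C_eq_of_mem x y hx hy hh' hh'z
  have e3 : C y = (C y).map (MulAut.conj g).toMonoidHom := by
    calc C y = C h := e1.symm
      _ = C (g * h' * g⁻¹) := by rw [hconj]
      _ = (C h').map (MulAut.conj g).toMonoidHom := C_conj g h'
      _ = (C y).map (MulAut.conj g).toMonoidHom := by rw [e2]
  -- `g` normalises `C(y)`
  obtain ⟨ν, hν, h₀, hh₀, rfl⟩ := H.exists_mul x y hx hy g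
  obtain ⟨b, hPb, hcsb, hCb, hbz⟩ := H.exists_b x y hx hy
  have hby : b ∈ C y := by rw [← hCb]; exact self_mem_C b
  -- `ν b ν⁻¹ ∈ C y`
  have e4 : ν * b * ν⁻¹ ∈ C y := by
    have e5 : (ν * h₀) * (h₀⁻¹ * b * h₀) * (ν * h₀)⁻¹ ∈ (C y).map (MulAut.conj (ν * h₀)).toMonoidHom :=
      ⟨h₀⁻¹ * b * h₀, mul_mem (mul_mem (inv_mem hh₀) hby) hh₀, rfl⟩
    rw [← e3] at e5
    have : (ν * h₀) * (h₀⁻¹ * b * h₀) * (ν * h₀)⁻¹ = ν * b * ν⁻¹ := by group
    rwa [this] at e5
  have e6 : ν * (b * ν⁻¹ * b⁻¹) ∈ N G m ⊓ C y := by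
    refine mem_inf.2 ⟨mul_mem hν ((N_normal m).conj_mem ν⁻¹ (inv_mem hν) b), ?_⟩
    have : ν * (b * ν⁻¹ * b⁻¹) = (ν * b * ν⁻¹) * b⁻¹ := by group
    rw [this]
    exact mul_mem e4 (inv_mem hby)
  rw [H.N_inf_C x y hx hy, mem_bot] at e6
  have e7 : Commute b ν := by
    have e8 : b * ν⁻¹ * b⁻¹ = ν⁻¹ := by
      calc b * ν⁻¹ * b⁻¹ = ν⁻¹ * (ν * (b * ν⁻¹ * b⁻¹)) := by group
        _ = ν⁻¹ := by rw [e6, mul_one]
    have e9 : b * ν⁻¹ = ν⁻¹ * b := by
      calc b * ν⁻¹ = b * ν⁻¹ * b⁻¹ * b := by group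
        _ = ν⁻¹ * b := by rw [e8]
    have : Commute b ν⁻¹ := e9
    simpa using this.inv_right
  have e10 : ν = 1 := eq_one_of_mem_N_of_commute y hy hPb hcsb hν e7
  apply hg
  rw [e10, one_mul]
  exact hh₀

/-- Every element outside `Z(G) N` is conjugate into `C(y)`. -/
theorem Hyp.exists_conj (g : G) (hg : g ∉ ZN G m) : ∃ μ : G, ∃ h ∈ C y, g = μ * h * μ⁻¹ := by
  obtain ⟨ν, hν, h, hh, rfl⟩ := H.exists_mul x y hx hy g
  have hhz : h ∉ center G := by
    intro h1
    exact hg (mul_mem (N_le_ZN m hν) (center_le_ZN m h1))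
  obtain ⟨-, hfpf⟩ := H.fpf_of_mem_C x y hx hy hh hhz
  let f : N G m → N G m := fun μ =>
    ⟨(μ : G) * (h * (μ : G)⁻¹ * h⁻¹), mul_mem μ.2 ((N_normal m).conj_mem _ (inv_mem μ.2) h)⟩
  have hf : Function.Injective f := by
    intro μ₁ μ₂ h12
    have e1 : (μ₁ : G) * (h * (μ₁ : G)⁻¹ * h⁻¹) = (μ₂ : G) * (h * (μ₂ : G)⁻¹ * h⁻¹) :=
      congrArg Subtype.val h12
    have e2 : Commute h ((μ₂ : G)⁻¹ * μ₁) := by
      have e3 : (μ₁ : G) * h * (μ₁ : G)⁻¹ = (μ₂ : G) * h * (μ₂ : G)⁻¹ := by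
        calc (μ₁ : G) * h * (μ₁ : G)⁻¹ = (μ₁ : G) * (h * (μ₁ : G)⁻¹ * h⁻¹) * h := by group
          _ = (μ₂ : G) * (h * (μ₂ : G)⁻¹ * h⁻¹) * h := by rw [e1]
          _ = (μ₂ : G) * h * (μ₂ : G)⁻¹ := by group
      show h * ((μ₂ : G)⁻¹ * μ₁) = (μ₂ : G)⁻¹ * μ₁ * h
      calc h * ((μ₂ : G)⁻¹ * μ₁) = (μ₂ : G)⁻¹ * ((μ₂ : G) * h * (μ₂ : G)⁻¹) * μ₁ := by group
        _ = (μ₂ : G)⁻¹ * ((μ₁ : G) * h * (μ₁ : G)⁻¹) * μ₁ := by rw [e3]
        _ = (μ₂ : G)⁻¹ * μ₁ * h := by group
    have e4 := hfpf _ (mul_mem (inv_mem μ₂.2) μ₁.2) e2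
    apply Subtype.ext
    calc (μ₁ : G) = (μ₂ : G) * ((μ₂ : G)⁻¹ * μ₁) := by group
      _ = μ₂ := by rw [e4, mul_one]
  obtain ⟨μ, hμ⟩ := (Finite.injective_iff_surjective.1 hf) ⟨ν, hν⟩
  have e5 : (μ : G) * (h * (μ : G)⁻¹ * h⁻¹) = ν := congrArg Subtype.val hμ
  refine ⟨μ, h, hh, ?_⟩
  rw [← e5]
  group

end Main

end Finite

end Cfsg.Agent.Lib.Helper66_BGC
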