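import Mathlib
import Cfsg.Prelude.Def_KGroupFacts

set_option autoImplicit false
open Cfsg

namespace Cfsg.Agent.Lib.Helper66_BiMulExt

universe u

/-- a bimultiplicative map `G × G → ZMod n` -/
structure BiMul (G : Type u) [Group G] (n : ℕ) where
  toFun : G → G → ZMod n
  map_mul_left : ∀ g g' h, toFun (g * g') h = toFun g h + toFun g' h
  map_mul_right : ∀ g h h', toFun g (h * h') = toFun g h + toFun g h'

namespace BiMul

variable {G : Type u} [Group G] {n : ℕ} (β : BiMul G n)

theorem map_one_left (h : G) : β.toFun 1 h = 0 := by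
  have := β.map_mul_left 1 1 h
  rw [mul_one] at this
  exact left_eq_add.mp this

theorem map_one_right (g : G) : β.toFun g 1 = 0 := by
  have := β.map_mul_right g 1 1
  rw [mul_one] at this
  exact left_eq_add.mp this

theorem map_inv_left (g h : G) : β.toFun g⁻¹ h = - β.toFun g h := by
  have := β.map_mul_left g g⁻¹ h
  rw [mul_inv_cancel, map_one_left] at this
  exact eq_neg_of_add_eq_zero_right this.symm

theorem map_inv_right (g h : G) : β.toFun g h⁻¹ = - β.toFun g h := by
  have := β.map_mul_right g h h⁻¹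
  rw [mul_inv_cancel, map_one_right] at this
  exact eq_neg_of_add_eq_zero_right this.symm

/-- pull back along a homomorphism -/
def comap {H : Type*} [Group H] (f : H →* G) : BiMul H n where
  toFun := fun a b => β.toFun (f a) (f b)
  map_mul_left := by intro g g' h; rw [map_mul, β.map_mul_left]
  map_mul_right := by intro g h h'; rw [map_mul, β.map_mul_right]

end BiMul

/-- the central extension of `G` by `ZMod n` defined by a bimultiplicative map -/
def Ext {G : Type u} [Group G] {n : ℕ} (_β : BiMul G n) : Type u := G × ZMod n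

namespace Ext

variable {G : Type u} [Group G] {n : ℕ} (β : BiMul G n)

instance : Group (Ext β) where
  mul := fun x y => ((x.1 * y.1 : G), (x.2 + y.2 + β.toFun x.1 y.1 : ZMod n))
  one := ((1 : G), (0 : ZMod n))
  inv := fun x => ((x.1⁻¹ : G), (-x.2 + β.toFun x.1 x.1 : ZMod n))
  mul_assoc := by
    rintro ⟨g, s⟩ ⟨h, t⟩ ⟨k, v⟩
    show ((g * h * k : G), (s + t + β.toFun g h + v + β.toFun (g * h) k : ZMod n)) =
      ((g * (h * k) : G), (s + (t + v + β.toFun h k) + β.toFun g (h * k) : ZMod n))
    rw [mul_assoc, β.map_mul_left, β.map_mul_right]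
    congr 1
    ring
  one_mul := by
    rintro ⟨g, s⟩
    show ((1 * g : G), (0 + s + β.toFun 1 g : ZMod n)) = (g, s)
    rw [one_mul, β.map_one_left, zero_add, add_zero]
  mul_one := by
    rintro ⟨g, s⟩
    show ((g * 1 : G), (s + 0 + β.toFun g 1 : ZMod n)) = (g, s)
    rw [mul_one, β.map_one_right, add_zero, add_zero]
  inv_mul_cancel := by
    rintro ⟨g, s⟩
    show ((g⁻¹ * g : G), (-s + β.toFun g g + s + β.toFun g⁻¹ g : ZMod n)) = ((1 : G), (0 : ZMod n))
    rw [inv_mul_cancel, β.map_inv_left]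
    congr 1
    ring

theorem mul_def (x y : Ext β) :
    x * y = ((x.1 * y.1 : G), (x.2 + y.2 + β.toFun x.1 y.1 : ZMod n)) := rfl

theorem one_def : (1 : Ext β) = ((1 : G), (0 : ZMod n)) := rfl

theorem inv_def (x : Ext β) : x⁻¹ = ((x.1⁻¹ : G), (-x.2 + β.toFun x.1 x.1 : ZMod n)) := rfl

/-- the element `(g, s)` -/
def mk (g : G) (s : ZMod n) : Ext β := (g, s)

theorem mk_mul_mk (g h : G) (s t : ZMod n) :
    mk β g s * mk β h t = mk β (g * h) (s + t + β.toFun g h) := rfl

theorem mk_inv (g : G) (s : ZMod n) : (mk β g s)⁻¹ = mk β g⁻¹ (-s + β.toFun g g) := rfl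

theorem mk_one_zero : mk β 1 0 = 1 := rfl

theorem mk_eta (x : Ext β) : mk β x.1 x.2 = x := rfl

theorem mk_injective {g h : G} {s t : ZMod n} (e : mk β g s = mk β h t) : g = h ∧ s = t :=
  Prod.mk.inj e

/-- the projection to `G` -/
def proj : Ext β →* G where
  toFun := fun x => x.1
  map_one' := rfl
  map_mul' := fun _ _ => rfl

theorem proj_mk (g : G) (s : ZMod n) : proj β (mk β g s) = g := rfl

theorem proj_surjective : Function.Surjective (proj β) := fun g => ⟨mk β g 0, rfl⟩

theorem mem_ker_iff (x : Ext β) : x ∈ (proj β).ker ↔ ∃ s : ZMod n, x = mk β 1 s := by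
  rw [MonoidHom.mem_ker]
  constructor
  · intro h
    refine ⟨x.2, ?_⟩
    have : x.1 = 1 := h
    exact Prod.ext this rfl
  · rintro ⟨s, rfl⟩
    rfl

theorem ker_le_center : (proj β).ker ≤ Subgroup.center (Ext β) := by
  intro x hx
  obtain ⟨s, rfl⟩ := (mem_ker_iff β x).mp hx
  rw [Subgroup.mem_center_iff]
  intro y
  rw [← mk_eta β y, mk_mul_mk, mk_mul_mk, β.map_one_left, β.map_one_right, mul_one, one_mul,
    add_comm y.2 s]

theorem mk_one_zpow (d : ZMod n) (k : ℤ) : (mk β 1 d) ^ k = mk β 1 (k • d) := by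
  induction k using Int.induction_on with
  | zero => simp [mk_one_zero]
  | succ k ih =>
    rw [zpow_add_one, ih, mk_mul_mk, β.map_one_left, mul_one, add_zero, add_smul, one_smul]
  | pred k ih =>
    rw [zpow_sub_one, ih, mk_inv, mk_mul_mk, β.map_one_left, β.map_one_left, inv_one, mul_one,
      add_zero, add_zero, sub_smul, one_smul, sub_eq_add_neg]

open scoped commutatorElement in
/-- the commutator of lifts of two commuting elements -/
theorem commutator_mk (g h : G) (hgh : g * h = h * g) :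
    ⁅mk β g 0, mk β h 0⁆ = mk β 1 (β.toFun g h - β.toFun h g) := by
  rw [commutatorElement_def]
  have h1 : mk β g 0 * mk β h 0 * (mk β g 0)⁻¹ * (mk β h 0)⁻¹
      = (mk β g 0 * mk β h 0) * (mk β h 0 * mk β g 0)⁻¹ := by group
  rw [h1, mk_mul_mk, mk_mul_mk, ← hgh, mk_inv, mk_mul_mk, mul_inv_cancel, β.map_inv_right,
    β.map_mul_left, β.map_mul_right, β.map_mul_right]
  congr 1
  ring

instance instFinite [Finite G] [NeZero n] : Finite (Ext β) :=
  inferInstanceAs (Finite (G × ZMod n))

/-- if some commuting pair has `β g h - β h g = 1` the projection is a stem extension -/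
theorem isStemExtension_proj (g h : G) (hgh : g * h = h * g)
    (hd : β.toFun g h - β.toFun h g = 1) : IsStemExtension (proj β) := by
  refine ⟨proj_surjective β, ker_le_center β, ?_⟩
  intro x hx
  obtain ⟨s, rfl⟩ := (mem_ker_iff β x).mp hx
  obtain ⟨k, rfl⟩ := ZMod.intCast_surjective s
  have h1 : mk β 1 (k : ZMod n) = (mk β 1 1) ^ k := by
    rw [mk_one_zpow, zsmul_one]
  rw [h1]
  apply Subgroup.zpow_mem
  rw [← hd, ← commutator_mk β g h hgh]
  exact Subgroup.commutator_mem_commutator (Subgroup.mem_top _) (Subgroup.mem_top _)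

/-- the kernel of the projection is `ZMod n` -/
def kerEquiv : (proj β).ker ≃* Multiplicative (ZMod n) where
  toFun := fun x => Multiplicative.ofAdd x.1.2
  invFun := fun s => ⟨mk β 1 (Multiplicative.toAdd s), (mem_ker_iff β _).mpr ⟨_, rfl⟩⟩
  left_inv := by
    rintro ⟨x, hx⟩
    obtain ⟨s, rfl⟩ := (mem_ker_iff β x).mp hx
    rfl
  right_inv := by
    intro s
    rfl
  map_mul' := by
    rintro ⟨x, hx⟩ ⟨y, hy⟩
    obtain ⟨s, rfl⟩ := (mem_ker_iff β x).mp hx
    obtain ⟨t, rfl⟩ := (mem_ker_iff β y).mp hy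
    show Multiplicative.ofAdd ((mk β 1 s * mk β 1 t).2) = Multiplicative.ofAdd s * Multiplicative.ofAdd t
    rw [mk_mul_mk, β.map_one_left, add_zero]
    rfl

end Ext

end Cfsg.Agent.Lib.Helper66_BiMulExt
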