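import Mathlib
import Cfsg.Prelude.Def_KGroupFacts

set_option autoImplicit false
open Cfsg

/-! Central extensions of a group `G` by an arbitrary abelian group `W` defined by a
bimultiplicative map `G × G → W` (generalizing `Helper66_BiMulExt`, where `W = ZMod n`). -/

namespace Cfsg.Agent.Lib.Helper66_BiMulExtG

universe u v

/-- a bimultiplicative map `G × G → W` into an additive commutative group -/
structure BiAdd (G : Type u) [Group G] (W : Type v) [AddCommGroup W] where
  toFun : G → G → W
  map_mul_left : ∀ g g' h, toFun (g * g') h = toFun g h + toFun g' h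
  map_mul_right : ∀ g h h', toFun g (h * h') = toFun g h + toFun g h'

namespace BiAdd

variable {G : Type u} [Group G] {W : Type v} [AddCommGroup W] (β : BiAdd G W)

theorem map_one_left (h : G) : β.toFun 1 h = 0 := by
  have := β.map_mul_left 1 1 h
  rw [mul_one] at this
  exact left_eq_add.mp this

theorem map_one_right (g : G) : β.toFun g 1 = 0 := by
  have := β.map_mul_right g 1 1
  rw [mul_one] at this
  exact left_eq_add.mp this

theorem map_inv_left (g h : G) : β.toFun g⁻¹ h = - β.toFun g h := by
  have := β.map_mul_left g g⁻¹ h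
  rw [mul_inv_cancel, map_one_left] at this
  exact eq_neg_of_add_eq_zero_right this.symm

theorem map_inv_right (g h : G) : β.toFun g h⁻¹ = - β.toFun g h := by
  have := β.map_mul_right g h h⁻¹
  rw [mul_inv_cancel, map_one_right] at this
  exact eq_neg_of_add_eq_zero_right this.symm

end BiAdd

/-- the central extension of `G` by `W` defined by a bimultiplicative map -/
def CExt {G : Type u} [Group G] {W : Type v} [AddCommGroup W] (_β : BiAdd G W) : Type (max u v) :=
  G × W

namespace CExt

variable {G : Type u} [Group G] {W : Type v} [AddCommGroup W] (β : BiAdd G W)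

instance : Group (CExt β) where
  mul := fun x y => ((x.1 * y.1 : G), (x.2 + y.2 + β.toFun x.1 y.1 : W))
  one := ((1 : G), (0 : W))
  inv := fun x => ((x.1⁻¹ : G), (-x.2 + β.toFun x.1 x.1 : W))
  mul_assoc := by
    rintro ⟨g, s⟩ ⟨h, t⟩ ⟨k, v⟩
    show ((g * h * k : G), (s + t + β.toFun g h + v + β.toFun (g * h) k : W)) =
      ((g * (h * k) : G), (s + (t + v + β.toFun h k) + β.toFun g (h * k) : W))
    rw [mul_assoc, β.map_mul_left, β.map_mul_right]
    congr 1
    abel
  one_mul := by
    rintro ⟨g, s⟩
    show ((1 * g : G), (0 + s + β.toFun 1 g : W)) = (g, s)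
    rw [one_mul, β.map_one_left, zero_add, add_zero]
  mul_one := by
    rintro ⟨g, s⟩
    show ((g * 1 : G), (s + 0 + β.toFun g 1 : W)) = (g, s)
    rw [mul_one, β.map_one_right, add_zero, add_zero]
  inv_mul_cancel := by
    rintro ⟨g, s⟩
    show ((g⁻¹ * g : G), (-s + β.toFun g g + s + β.toFun g⁻¹ g : W)) = ((1 : G), (0 : W))
    rw [inv_mul_cancel, β.map_inv_left]
    congr 1
    abel

/-- the element `(g, s)` -/
def mk (g : G) (s : W) : CExt β := (g, s)

theorem mk_mul_mk (g h : G) (s t : W) :
    mk β g s * mk β h t = mk β (g * h) (s + t + β.toFun g h) := rfl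

theorem mk_inv (g : G) (s : W) : (mk β g s)⁻¹ = mk β g⁻¹ (-s + β.toFun g g) := rfl

theorem mk_one_zero : mk β 1 0 = 1 := rfl

theorem mk_eta (x : CExt β) : mk β x.1 x.2 = x := rfl

theorem mk_injective {g h : G} {s t : W} (e : mk β g s = mk β h t) : g = h ∧ s = t :=
  Prod.mk.inj e

theorem mk_fst (g : G) (s : W) : (mk β g s).1 = g := rfl

theorem mk_snd (g : G) (s : W) : (mk β g s).2 = s := rfl

/-- the projection to `G` -/
def proj : CExt β →* G where
  toFun := fun x => x.1
  map_one' := rfl
  map_mul' := fun _ _ => rfl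

theorem proj_mk (g : G) (s : W) : proj β (mk β g s) = g := rfl

theorem proj_apply (x : CExt β) : proj β x = x.1 := rfl

theorem proj_surjective : Function.Surjective (proj β) := fun g => ⟨mk β g 0, rfl⟩

theorem mem_ker_iff (x : CExt β) : x ∈ (proj β).ker ↔ ∃ s : W, x = mk β 1 s := by
  rw [MonoidHom.mem_ker]
  constructor
  · intro h
    refine ⟨x.2, ?_⟩
    have : x.1 = 1 := h
    exact Prod.ext this rfl
  · rintro ⟨s, rfl⟩
    rfl

theorem ker_le_center : (proj β).ker ≤ Subgroup.center (CExt β) := by
  intro x hx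
  obtain ⟨s, rfl⟩ := (mem_ker_iff β x).mp hx
  rw [Subgroup.mem_center_iff]
  intro y
  rw [← mk_eta β y, mk_mul_mk, mk_mul_mk, β.map_one_left, β.map_one_right, mul_one, one_mul,
    add_comm y.2 s]

/-- the embedding of `W` -/
def inW : Multiplicative W →* CExt β where
  toFun := fun w => mk β 1 (Multiplicative.toAdd w)
  map_one' := rfl
  map_mul' := by
    intro a b
    rw [mk_mul_mk, β.map_one_left, add_zero, mul_one]
    rfl

theorem inW_apply (w : Multiplicative W) : inW β w = mk β 1 (Multiplicative.toAdd w) := rfl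

open scoped commutatorElement in
/-- the commutator of lifts of two commuting elements -/
theorem commutator_mk (g h : G) (hgh : g * h = h * g) :
    ⁅mk β g 0, mk β h 0⁆ = mk β 1 (β.toFun g h - β.toFun h g) := by
  rw [commutatorElement_def]
  have h1 : mk β g 0 * mk β h 0 * (mk β g 0)⁻¹ * (mk β h 0)⁻¹
      = (mk β g 0 * mk β h 0) * (mk β h 0 * mk β g 0)⁻¹ := by group
  rw [h1, mk_mul_mk, mk_mul_mk, ← hgh, mk_inv, mk_mul_mk, mul_inv_cancel, β.map_inv_right,
    β.map_mul_left, β.map_mul_right, β.map_mul_right]
  congr 1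
  abel

instance instFinite [Finite G] [Finite W] : Finite (CExt β) :=
  inferInstanceAs (Finite (G × W))

/-- a homomorphism `H → G` along which `β` vanishes lifts to the extension -/
def liftHom {H : Type*} [Group H] (f : H →* G) (hf : ∀ a b, β.toFun (f a) (f b) = 0) :
    H →* CExt β where
  toFun := fun a => mk β (f a) 0
  map_one' := by rw [map_one]; rfl
  map_mul' := by
    intro a b
    rw [mk_mul_mk, hf, map_mul, add_zero, add_zero]

theorem liftHom_apply {H : Type*} [Group H] (f : H →* G) (hf : ∀ a b, β.toFun (f a) (f b) = 0)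
    (a : H) : liftHom β f hf a = mk β (f a) 0 := rfl

end CExt

end Cfsg.Agent.Lib.Helper66_BiMulExtG
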