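import Mathlib

set_option autoImplicit false

/-!
Abstract Bruhat-type covering for groups with a root system of type `C₂` (helper66): normalizer
calculus, the eight cosets of the torus in the monomial subgroup, the rank one step, and the cover
`Γ = U N U`.
-/

namespace Cfsg.Agent.Lib.Helper66_C2

variable {Γ : Type*} [Group Γ]

/-! ### normalizer calculus -/

/-- conjugation by `g` maps `closure S` into a subgroup `K` if it does so on `S` -/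
theorem conj_mem_of_closure {S : Set Γ} {K : Subgroup Γ} (g : Γ)
    (h : ∀ x ∈ S, g * x * g⁻¹ ∈ K) : ∀ x ∈ Subgroup.closure S, g * x * g⁻¹ ∈ K := by
  intro x hx
  induction hx using Subgroup.closure_induction with
  | mem x hx => exact h x hx
  | one => simp
  | mul x y _ _ hx hy =>
    have e : g * (x * y) * g⁻¹ = (g * x * g⁻¹) * (g * y * g⁻¹) := by group
    rw [e]; exact K.mul_mem hx hy
  | inv x _ hx =>
    have e : g * x⁻¹ * g⁻¹ = (g * x * g⁻¹)⁻¹ := by group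
    rw [e]; exact K.inv_mem hx

/-- an element normalizing `H` in one direction whose square lies in `H` normalizes `H` -/
theorem mem_normalizer_of_sq (H : Subgroup Γ) (a : Γ) (ha : ∀ h ∈ H, a * h * a⁻¹ ∈ H)
    (haa : a * a ∈ H) : a ∈ Subgroup.normalizer (H : Set Γ) := by
  rw [Subgroup.mem_normalizer_iff]
  intro h
  refine ⟨ha h, fun hh => ?_⟩
  have e : h = a * ((a * a)⁻¹ * (a * h * a⁻¹) * (a * a)) * a⁻¹ := by group
  rw [e]
  exact ha _ (H.mul_mem (H.mul_mem (H.inv_mem haa) hh) haa)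

theorem conj_mem_of_normalizer {H : Subgroup Γ} {w : Γ} (hw : w ∈ Subgroup.normalizer (H : Set Γ)) {h : Γ}
    (hh : h ∈ H) : w * h * w⁻¹ ∈ H :=
  (Subgroup.mem_normalizer_iff.mp hw h).mp hh

theorem conj_inv_mem_of_normalizer {H : Subgroup Γ} {w : Γ} (hw : w ∈ Subgroup.normalizer (H : Set Γ)) {h : Γ}
    (hh : h ∈ H) : w⁻¹ * h * w ∈ H := by
  have := (Subgroup.mem_normalizer_iff.mp ((Subgroup.normalizer (H : Set Γ)).inv_mem hw) h).mp hh
  rwa [inv_inv] at this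

/-! ### the eight cosets -/

/-- the group generated by `H` and two elements `a`, `b` normalizing it with `a², b², (ab)⁴ ∈ H`
is covered by eight cosets of `H` -/
theorem cover8 (H : Subgroup Γ) (a b : Γ) (ha : a ∈ Subgroup.normalizer (H : Set Γ)) (hb : b ∈ Subgroup.normalizer (H : Set Γ))
    (haa : a * a ∈ H) (hbb : b * b ∈ H) (hab : a * b * (a * b) * (a * b) * (a * b) ∈ H) :
    ∀ n ∈ Subgroup.closure (({a, b} : Set Γ) ∪ H),
      ∃ w ∈ ({1, b, b * a, b * a * b} : Set Γ), ∃ h ∈ H, n = w * h ∨ n = a * w * h := by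
  -- the predicate
  set P : Γ → Prop := fun n => ∃ w ∈ ({1, b, b * a, b * a * b} : Set Γ), ∃ h ∈ H,
    n = w * h ∨ n = a * w * h with hP
  have wN : ∀ w ∈ ({1, b, b * a, b * a * b} : Set Γ), w ∈ Subgroup.normalizer (H : Set Γ) := by
    rintro w (e | e | e | e) <;> rw [e]
    · exact Subgroup.one_mem _
    · exact hb
    · exact Subgroup.mul_mem _ hb ha
    · exact Subgroup.mul_mem _ (Subgroup.mul_mem _ hb ha) hb
  have ci : ∀ {w h : Γ}, w ∈ Subgroup.normalizer (H : Set Γ) → h ∈ H → w⁻¹ * h * w ∈ H :=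
    fun hw hh => conj_inv_mem_of_normalizer hw hh
  have cj : ∀ {w h : Γ}, w ∈ Subgroup.normalizer (H : Set Γ) → h ∈ H → w * h * w⁻¹ ∈ H :=
    fun hw hh => conj_mem_of_normalizer hw hh
  -- closure under `H`
  have stepH : ∀ h₀ ∈ H, ∀ n, P n → P (h₀ * n) := by
    rintro h₀ hh₀ n ⟨w, hw, h, hh, rfl | rfl⟩
    · refine ⟨w, hw, w⁻¹ * h₀ * w * h, H.mul_mem (ci (wN w hw) hh₀) hh, Or.inl ?_⟩
      group
    · refine ⟨w, hw, (a * w)⁻¹ * h₀ * (a * w) * h,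
        H.mul_mem (ci (Subgroup.mul_mem _ ha (wN w hw)) hh₀) hh, Or.inr ?_⟩
      group
  -- closure under `a`
  have stepa : ∀ n, P n → P (a * n) := by
    rintro n ⟨w, hw, h, hh, rfl | rfl⟩
    · exact ⟨w, hw, h, hh, Or.inr (by group)⟩
    · refine ⟨w, hw, w⁻¹ * (a * a) * w * h, H.mul_mem (ci (wN w hw) haa) hh, Or.inl ?_⟩
      group
  -- the key congruence `(abab)⁻¹ baba ∈ H`
  have key : (a * b * a * b)⁻¹ * (b * a * b * a) ∈ H := by
    have h1 : a * b * a * b * (b * a * b * a) ∈ H := by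
      have e : a * b * a * b * (b * a * b * a) =
          (a * b * a * (b * b) * (a * b * a)⁻¹) * (a * b * (a * a) * (a * b)⁻¹) *
            (a * (b * b) * a⁻¹) * (a * a) := by group
      rw [e]
      refine H.mul_mem (H.mul_mem (H.mul_mem ?_ ?_) ?_) haa
      · exact cj (Subgroup.mul_mem _ (Subgroup.mul_mem _ ha hb) ha) hbb
      · exact cj (Subgroup.mul_mem _ ha hb) haa
      · exact cj ha hbb
    have hz : a * b * a * b * (a * b * a * b) ∈ H := by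
      have e : a * b * a * b * (a * b * a * b) = a * b * (a * b) * (a * b) * (a * b) := by group
      rw [e]; exact hab
    have hy : b * a * b * a ∈ Subgroup.normalizer (H : Set Γ) :=
      Subgroup.mul_mem _ (Subgroup.mul_mem _ (Subgroup.mul_mem _ hb ha) hb) ha
    have e : (a * b * a * b)⁻¹ * (b * a * b * a) =
        (a * b * a * b * (a * b * a * b))⁻¹ * (a * b * a * b * (b * a * b * a)) := by group
    rw [e]
    exact H.mul_mem (H.inv_mem hz) h1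
  -- closure under `b`
  have stepb : ∀ n, P n → P (b * n) := by
    rintro n ⟨w, hw, h, hh, rfl | rfl⟩
    · rcases hw with e | e | e | e <;> rw [e]
      · exact ⟨b, by simp, h, hh, Or.inl (by group)⟩
      · exact ⟨1, by simp, b * b * h, H.mul_mem hbb hh, Or.inl (by group)⟩
      · refine ⟨1, by simp, a⁻¹ * (b * b) * a * h, H.mul_mem (ci ha hbb) hh, Or.inr ?_⟩
        group
      · refine ⟨b, by simp, (a * b)⁻¹ * (b * b) * (a * b) * h,
          H.mul_mem (ci (Subgroup.mul_mem _ ha hb) hbb) hh, Or.inr ?_⟩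
        group
    · rcases hw with e | e | e | e <;> rw [e]
      · exact ⟨b * a, by simp, h, hh, Or.inl (by group)⟩
      · exact ⟨b * a * b, by simp, h, hh, Or.inl (by group)⟩
      · refine ⟨b * a * b, by simp, (a * b * a * b)⁻¹ * (b * a * b * a) * h,
          H.mul_mem key hh, Or.inr ?_⟩
        group
      · -- b * (a * (b a b)) * h = a * (b * a) * h'
        refine ⟨b * a, by simp,
          (b * b) * (b⁻¹ * ((a * b * a * b)⁻¹ * (b * a * b * a)) * b) * h,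
          H.mul_mem (H.mul_mem hbb (ci hb key)) hh, Or.inr ?_⟩
        group
  have stepai : ∀ n, P n → P (a⁻¹ * n) := by
    intro n hn
    have e : a⁻¹ * n = a * ((a * a)⁻¹ * n) := by group
    rw [e]
    exact stepa _ (stepH _ (H.inv_mem haa) _ hn)
  have stepbi : ∀ n, P n → P (b⁻¹ * n) := by
    intro n hn
    have e : b⁻¹ * n = b * ((b * b)⁻¹ * n) := by group
    rw [e]
    exact stepb _ (stepH _ (H.inv_mem hbb) _ hn)
  have hone : P 1 := ⟨1, by simp, 1, H.one_mem, Or.inl (by group)⟩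
  have main : ∀ n ∈ Subgroup.closure (({a, b} : Set Γ) ∪ H),
      ∀ m, P m → P (n * m) ∧ P (n⁻¹ * m) := by
    intro n hn
    induction hn using Subgroup.closure_induction with
    | mem x hx =>
      intro m hm
      rcases hx with (rfl | rfl) | hx
      · exact ⟨stepa m hm, stepai m hm⟩
      · exact ⟨stepb m hm, stepbi m hm⟩
      · exact ⟨stepH x hx m hm, stepH _ (H.inv_mem hx) m hm⟩
    | one => intro m hm; simp [hm]
    | mul x y _ _ hx hy =>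
      intro m hm
      refine ⟨?_, ?_⟩
      · rw [mul_assoc]; exact (hx _ (hy m hm).1).1
      · rw [mul_inv_rev, mul_assoc]; exact (hy _ (hx m hm).2).2
    | inv x _ hx =>
      intro m hm
      refine ⟨(hx m hm).2, ?_⟩
      rw [inv_inv]; exact (hx m hm).1
  intro n hn
  have := (main n hn 1 hone).1
  rwa [mul_one] at this


/-! ### products `X · K` -/

section prod

variable {F : Type*} [AddGroup F]

theorem afam_zero (X : F → Γ) (hadd : ∀ t u, X t * X u = X (t + u)) : X 0 = 1 := by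
  have := hadd 0 0
  rw [add_zero] at this
  exact mul_eq_left.mp this

theorem afam_inv (X : F → Γ) (hadd : ∀ t u, X t * X u = X (t + u)) (t : F) :
    (X t)⁻¹ = X (-t) := by
  rw [inv_eq_iff_mul_eq_one, hadd, add_neg_cancel, afam_zero X hadd]

/-- an additive family normalizing a subgroup `K`: the elements of the subgroup generated by the
family and `K` are products -/
theorem exists_mul_of_mem_closure (X : F → Γ) (hadd : ∀ t u, X t * X u = X (t + u))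
    (K : Subgroup Γ) (hK : ∀ t, ∀ k ∈ K, X t * k * (X t)⁻¹ ∈ K) :
    ∀ g ∈ Subgroup.closure (Set.range X ∪ (K : Set Γ)), ∃ t, ∃ k ∈ K, g = X t * k := by
  let P : Subgroup Γ :=
    { carrier := {g | ∃ t, ∃ k ∈ K, g = X t * k}
      one_mem' := ⟨0, 1, K.one_mem, by rw [afam_zero X hadd, mul_one]⟩
      mul_mem' := by
        rintro _ _ ⟨t, k, hk, rfl⟩ ⟨t', k', hk', rfl⟩
        refine ⟨t + t', X (-t') * k * (X (-t'))⁻¹ * k', K.mul_mem (hK _ k hk) hk', ?_⟩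
        rw [← hadd, ← afam_inv X hadd t']
        group
      inv_mem' := by
        rintro _ ⟨t, k, hk, rfl⟩
        refine ⟨-t, X t * k⁻¹ * (X t)⁻¹, hK _ _ (K.inv_mem hk), ?_⟩
        rw [← afam_inv X hadd t]
        group }
  have hle : Subgroup.closure (Set.range X ∪ (K : Set Γ)) ≤ P := by
    rw [Subgroup.closure_le]
    rintro g (⟨t, rfl⟩ | hg)
    · exact ⟨t, 1, K.one_mem, by rw [mul_one]⟩
    · exact ⟨0, g, hg, by rw [afam_zero X hadd, one_mul]⟩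
  intro g hg
  exact hle hg

end prod

/-! ### the rank one step -/

section step

variable {F : Type*} [AddGroup F]

/-- the data of a rank one step of the Bruhat decomposition -/
structure Step (U H K : Subgroup Γ) (X : F → Γ) (n : Γ) : Prop where
  X_add : ∀ t u, X t * X u = X (t + u)
  X_mem : ∀ t, X t ∈ U
  K_le : K ≤ U
  H_U : ∀ h ∈ H, ∀ u ∈ U, h * u * h⁻¹ ∈ U
  decomp : ∀ u ∈ U, ∃ t, ∃ k ∈ K, u = X t * k
  X_K : ∀ t, ∀ k ∈ K, X t * k * (X t)⁻¹ ∈ K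
  n_K : ∀ k ∈ K, n * k * n⁻¹ ∈ K
  nn : n * n ∈ H
  rank1 : ∀ t, t ≠ 0 → ∃ t₁ t₂, ∃ h ∈ H, n * X t * n⁻¹ = X t₁ * n * h * X t₂

variable {U H K : Subgroup Γ} {X : F → Γ} {n : Γ}

/-- the step for the elements `w` with `w⁻¹ X w ≤ U` -/
theorem Step.stepA (S : Step U H K X n) (w : Γ) (hwX : ∀ t, w⁻¹ * X t * w ∈ U) (u : Γ)
    (hu : u ∈ U) : ∃ u₁ ∈ U, ∃ u₂ ∈ U, n * u * w = u₁ * (n * w) * u₂ := by
  obtain ⟨t, k, hk, rfl⟩ := S.decomp u hu
  refine ⟨n * (X t * k * (X t)⁻¹) * n⁻¹, S.K_le (S.n_K _ (S.X_K t k hk)), w⁻¹ * X t * w, hwX t, ?_⟩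
  group

/-- the step for the elements `n w` -/
theorem Step.stepB (S : Step U H K X n) (w : Γ) (hwX : ∀ t, w⁻¹ * X t * w ∈ U)
    (hwH : ∀ h ∈ H, w⁻¹ * h * w ∈ H) (u : Γ) (hu : u ∈ U) :
    (∃ u₁ ∈ U, ∃ h ∈ H, n * u * (n * w) = u₁ * w * h) ∨
      (∃ u₁ ∈ U, ∃ h ∈ H, ∃ u₂ ∈ U, n * u * (n * w) = u₁ * (n * w) * h * u₂) := by
  obtain ⟨t, k, hk, rfl⟩ := S.decomp u hu
  by_cases ht : t = 0
  · left
    subst ht
    refine ⟨n * k * n⁻¹, S.K_le (S.n_K k hk), w⁻¹ * (n * n) * w, hwH _ S.nn, ?_⟩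
    rw [afam_zero X S.X_add]
    group
  · right
    obtain ⟨t₁, t₂, h, hh, e⟩ := S.rank1 t ht
    set k' := n * k * n⁻¹ with hk'
    have hk'K : k' ∈ K := S.n_K k hk
    set u₂ := h * (X t₂ * k') * h⁻¹ with hu₂
    have hu₂U : u₂ ∈ U := S.H_U h hh _ (U.mul_mem (S.X_mem t₂) (S.K_le hk'K))
    obtain ⟨u₃, hu₃, u₄, hu₄, e2⟩ := S.stepA w hwX u₂ hu₂U
    set h' := w⁻¹ * (h * (n * n)) * w with hh'
    have hh'H : h' ∈ H := hwH _ (H.mul_mem hh S.nn)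
    refine ⟨X t₁ * u₃, U.mul_mem (S.X_mem t₁) hu₃, h', hh'H, h'⁻¹ * u₄ * h'⁻¹⁻¹,
      S.H_U _ (H.inv_mem hh'H) _ hu₄, ?_⟩
    have e3 : n * (X t * k) * (n * w) = (n * X t * n⁻¹) * k' * (n * n) * w := by
      rw [hk']; group
    rw [e3, e]
    have e4 : X t₁ * n * h * X t₂ * k' * (n * n) * w = X t₁ * (n * u₂ * w) * h' := by
      rw [hu₂, hh']; group
    rw [e4, e2]
    group

end step

/-! ### the cover `Γ = U N U` -/

section cover

variable {F : Type*} [AddGroup F]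

/-- the Bruhat-type cover of a group generated by `U`, `H` and two elements `a`, `b` -/
theorem bruhat_cover (U H Ka Kb : Subgroup Γ) (a b : Γ) (Xa Xb : F → Γ)
    (Sa : Step U H Ka Xa a) (Sb : Step U H Kb Xb b)
    (ha : ∀ h ∈ H, a * h * a⁻¹ ∈ H) (hb : ∀ h ∈ H, b * h * b⁻¹ ∈ H)
    (hab : a * b * (a * b) * (a * b) * (a * b) ∈ H)
    (typeA_a : ∀ w ∈ ({1, b, b * a, b * a * b} : Set Γ), ∀ t, w⁻¹ * Xa t * w ∈ U)
    (typeA_b : ∀ w ∈ ({1, a, a * b, a * b * a} : Set Γ), ∀ t, w⁻¹ * Xb t * w ∈ U)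
    (hgen : Subgroup.closure ((U : Set Γ) ∪ H ∪ {a, b}) = ⊤) (g : Γ) :
    ∃ u ∈ U, ∃ m ∈ Subgroup.closure (({a, b} : Set Γ) ∪ H), ∃ u' ∈ U, g = u * m * u' := by
  set N := Subgroup.closure (({a, b} : Set Γ) ∪ H) with hN
  have haN : a ∈ N := Subgroup.subset_closure (Or.inl (Or.inl rfl))
  have hbN : b ∈ N := Subgroup.subset_closure (Or.inl (Or.inr rfl))
  have hHN : ∀ h ∈ H, h ∈ N := fun h hh => Subgroup.subset_closure (Or.inr hh)
  have hanz : a ∈ Subgroup.normalizer (H : Set Γ) := mem_normalizer_of_sq H a ha Sa.nn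
  have hbnz : b ∈ Subgroup.normalizer (H : Set Γ) := mem_normalizer_of_sq H b hb Sb.nn
  have hba : b * a * (b * a) * (b * a) * (b * a) ∈ H := by
    have e : b * a * (b * a) * (b * a) * (b * a) =
        a⁻¹ * (a * b * (a * b) * (a * b) * (a * b)) * a := by group
    rw [e]
    exact conj_inv_mem_of_normalizer hanz hab
  have hN' : Subgroup.closure (({b, a} : Set Γ) ∪ H) = N := by
    rw [hN, Set.pair_comm]
  have wNa : ∀ w ∈ ({1, b, b * a, b * a * b} : Set Γ),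
      w ∈ Subgroup.normalizer (H : Set Γ) ∧ w ∈ N := by
    rintro w (e | e | e | e) <;> rw [e]
    · exact ⟨Subgroup.one_mem _, Subgroup.one_mem _⟩
    · exact ⟨hbnz, hbN⟩
    · exact ⟨Subgroup.mul_mem _ hbnz hanz, Subgroup.mul_mem _ hbN haN⟩
    · exact ⟨Subgroup.mul_mem _ (Subgroup.mul_mem _ hbnz hanz) hbnz,
        Subgroup.mul_mem _ (Subgroup.mul_mem _ hbN haN) hbN⟩
  have wNb : ∀ w ∈ ({1, a, a * b, a * b * a} : Set Γ),
      w ∈ Subgroup.normalizer (H : Set Γ) ∧ w ∈ N := by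
    rintro w (e | e | e | e) <;> rw [e]
    · exact ⟨Subgroup.one_mem _, Subgroup.one_mem _⟩
    · exact ⟨hanz, haN⟩
    · exact ⟨Subgroup.mul_mem _ hanz hbnz, Subgroup.mul_mem _ haN hbN⟩
    · exact ⟨Subgroup.mul_mem _ (Subgroup.mul_mem _ hanz hbnz) hanz,
        Subgroup.mul_mem _ (Subgroup.mul_mem _ haN hbN) haN⟩
  -- the set `Ω`
  set Ω : Set Γ := {g | ∃ u ∈ U, ∃ m ∈ N, ∃ u' ∈ U, g = u * m * u'} with hΩ
  -- a generic step
  have gstep : ∀ (n c : Γ) (Kn : Subgroup Γ) (Xn : F → Γ), Step U H Kn Xn n → n ∈ N →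
      n ∈ Subgroup.normalizer (H : Set Γ) →
      (∀ m ∈ N, ∃ w ∈ ({1, c, c * n, c * n * c} : Set Γ), ∃ h ∈ H, m = w * h ∨ m = n * w * h) →
      (∀ w ∈ ({1, c, c * n, c * n * c} : Set Γ), ∀ t, w⁻¹ * Xn t * w ∈ U) →
      (∀ w ∈ ({1, c, c * n, c * n * c} : Set Γ), w ∈ Subgroup.normalizer (H : Set Γ) ∧ w ∈ N) →
      ∀ g ∈ Ω, n * g ∈ Ω := by
    rintro n c Kn Xn S hnN hnz hcov htA hwN g ⟨u, hu, m, hm, u', hu', rfl⟩
    obtain ⟨w, hw, h, hh, e | e⟩ := hcov m hm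
    · obtain ⟨u₁, hu₁, u₂, hu₂, e2⟩ := S.stepA w (htA w hw) u hu
      refine ⟨u₁, hu₁, n * w * h, N.mul_mem (N.mul_mem hnN (hwN w hw).2) (hHN h hh),
        h⁻¹ * u₂ * h⁻¹⁻¹ * u', U.mul_mem (S.H_U _ (H.inv_mem hh) _ hu₂) hu', ?_⟩
      have e3 : n * (u * m * u') = n * u * w * h * u' := by rw [e]; group
      rw [e3, e2]
      group
    · rcases S.stepB w (htA w hw) (fun h hh => conj_inv_mem_of_normalizer (hwN w hw).1 hh) u hu with
        ⟨u₁, hu₁, h₁, hh₁, e2⟩ | ⟨u₁, hu₁, h₁, hh₁, u₂, hu₂, e2⟩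
      · refine ⟨u₁, hu₁, w * h₁ * h, N.mul_mem (N.mul_mem (hwN w hw).2 (hHN _ hh₁)) (hHN h hh),
          u', hu', ?_⟩
        have e3 : n * (u * m * u') = n * u * (n * w) * h * u' := by rw [e]; group
        rw [e3, e2]
        group
      · refine ⟨u₁, hu₁, n * w * h₁ * h,
          N.mul_mem (N.mul_mem (N.mul_mem hnN (hwN w hw).2) (hHN _ hh₁)) (hHN h hh),
          h⁻¹ * u₂ * h⁻¹⁻¹ * u', U.mul_mem (S.H_U _ (H.inv_mem hh) _ hu₂) hu', ?_⟩
        have e3 : n * (u * m * u') = n * u * (n * w) * h * u' := by rw [e]; group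
        rw [e3, e2]
        group
  have stepa : ∀ g ∈ Ω, a * g ∈ Ω :=
    gstep a b Ka Xa Sa haN hanz (cover8 H a b hanz hbnz Sa.nn Sb.nn hab) typeA_a wNa
  have stepb : ∀ g ∈ Ω, b * g ∈ Ω := by
    refine gstep b a Kb Xb Sb hbN hbnz ?_ typeA_b wNb
    have := cover8 H b a hbnz hanz Sb.nn Sa.nn hba
    rwa [hN'] at this
  have stepH : ∀ h ∈ H, ∀ g ∈ Ω, h * g ∈ Ω := by
    rintro h hh g ⟨u, hu, m, hm, u', hu', rfl⟩
    refine ⟨h * u * h⁻¹, Sa.H_U h hh u hu, h * m, N.mul_mem (hHN h hh) hm, u', hu', ?_⟩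
    group
  have stepU : ∀ v ∈ U, ∀ g ∈ Ω, v * g ∈ Ω := by
    rintro v hv g ⟨u, hu, m, hm, u', hu', rfl⟩
    exact ⟨v * u, U.mul_mem hv hu, m, hm, u', hu', by group⟩
  have stepai : ∀ g ∈ Ω, a⁻¹ * g ∈ Ω := by
    intro g hg
    have e : a⁻¹ * g = a * ((a * a)⁻¹ * g) := by group
    rw [e]
    exact stepa _ (stepH _ (H.inv_mem Sa.nn) _ hg)
  have stepbi : ∀ g ∈ Ω, b⁻¹ * g ∈ Ω := by
    intro g hg
    have e : b⁻¹ * g = b * ((b * b)⁻¹ * g) := by group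
    rw [e]
    exact stepb _ (stepH _ (H.inv_mem Sb.nn) _ hg)
  have hone : (1 : Γ) ∈ Ω := ⟨1, U.one_mem, 1, N.one_mem, 1, U.one_mem, by group⟩
  have main : ∀ x ∈ Subgroup.closure ((U : Set Γ) ∪ H ∪ {a, b}),
      ∀ g ∈ Ω, x * g ∈ Ω ∧ x⁻¹ * g ∈ Ω := by
    intro x hx
    induction hx using Subgroup.closure_induction with
    | mem x hx =>
      intro g hg
      rcases hx with (hx | hx) | (rfl | rfl)
      · exact ⟨stepU x hx g hg, stepU _ (U.inv_mem hx) g hg⟩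
      · exact ⟨stepH x hx g hg, stepH _ (H.inv_mem hx) g hg⟩
      · exact ⟨stepa g hg, stepai g hg⟩
      · exact ⟨stepb g hg, stepbi g hg⟩
    | one => intro g hg; simp [hg]
    | mul x y _ _ hx hy =>
      intro g hg
      refine ⟨?_, ?_⟩
      · rw [mul_assoc]; exact (hx _ (hy g hg).1).1
      · rw [mul_inv_rev, mul_assoc]; exact (hy _ (hx g hg).2).2
    | inv x _ hx =>
      intro g hg
      refine ⟨(hx g hg).2, ?_⟩
      rw [inv_inv]; exact (hx g hg).1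
  have hg : g ∈ Subgroup.closure ((U : Set Γ) ∪ H ∪ {a, b}) := by rw [hgen]; trivial
  have := (main g hg 1 hone).1
  rw [mul_one] at this
  exact this

end cover


/-! ### systems of type `C₂` -/

/-- a system of root elements of type `C₂`: the positive root elements `A` (short simple root
`α`), `B` (long simple root `β`), `C` (`α + β`), `D` (`2α + β`), the Weyl elements `a`, `b` and
the torus `H` -/
structure C2Sys (F : Type*) [Ring F] (Γ : Type*) [Group Γ] where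
  /-- root elements of `α` -/
  A : F → Γ
  /-- root elements of `β` -/
  B : F → Γ
  /-- root elements of `α + β` -/
  C : F → Γ
  /-- root elements of `2α + β` -/
  D : F → Γ
  /-- the Weyl element of `α` -/
  a : Γ
  /-- the Weyl element of `β` -/
  b : Γ
  /-- the torus -/
  H : Subgroup Γ
  A_add : ∀ t u, A t * A u = A (t + u)
  B_add : ∀ t u, B t * B u = B (t + u)
  C_add : ∀ t u, C t * C u = C (t + u)
  D_add : ∀ t u, D t * D u = D (t + u)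
  comm_AB : ∀ t u, A t * B u * (A t)⁻¹ * (B u)⁻¹ = C (t * u) * D (t * t * u)
  comm_AC : ∀ t u, A t * C u * (A t)⁻¹ * (C u)⁻¹ = D (2 * t * u)
  comm_AD : ∀ t u, Commute (A t) (D u)
  comm_BC : ∀ t u, Commute (B t) (C u)
  comm_BD : ∀ t u, Commute (B t) (D u)
  comm_CD : ∀ t u, Commute (C t) (D u)
  H_A : ∀ h ∈ H, ∀ t, ∃ t', h * A t * h⁻¹ = A t'
  H_B : ∀ h ∈ H, ∀ t, ∃ t', h * B t * h⁻¹ = B t'
  H_C : ∀ h ∈ H, ∀ t, ∃ t', h * C t * h⁻¹ = C t'
  H_D : ∀ h ∈ H, ∀ t, ∃ t', h * D t * h⁻¹ = D t'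
  a_H : ∀ h ∈ H, a * h * a⁻¹ ∈ H
  b_H : ∀ h ∈ H, b * h * b⁻¹ ∈ H
  aa : a * a ∈ H
  bb : b * b ∈ H
  abab : a * b * (a * b) * (a * b) * (a * b) ∈ H
  a_B : ∀ t, ∃ t', a * B t * a⁻¹ = D t'
  a_D : ∀ t, ∃ t', a * D t * a⁻¹ = B t'
  a_C : ∀ t, ∃ t', a * C t * a⁻¹ = C t'
  b_A : ∀ t, ∃ t', b * A t * b⁻¹ = C t'
  b_C : ∀ t, ∃ t', b * C t * b⁻¹ = A t'
  b_D : ∀ t, ∃ t', b * D t * b⁻¹ = D t'
  a_A : ∀ t, t ≠ 0 → ∃ t₁ t₂, ∃ h ∈ H, a * A t * a⁻¹ = A t₁ * a * h * A t₂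
  b_B : ∀ t, t ≠ 0 → ∃ t₁ t₂, ∃ h ∈ H, b * B t * b⁻¹ = B t₁ * b * h * B t₂

namespace C2Sys

variable {F : Type*} [Ring F] (S : C2Sys F Γ)

/-- the unipotent subgroup -/
def U : Subgroup Γ :=
  Subgroup.closure (Set.range S.A ∪ Set.range S.B ∪ Set.range S.C ∪ Set.range S.D)

/-- the subgroup generated by the positive root elements other than those of `α` -/
def Ka : Subgroup Γ := Subgroup.closure (Set.range S.B ∪ Set.range S.C ∪ Set.range S.D)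

/-- the subgroup generated by the positive root elements other than those of `β` -/
def Kb : Subgroup Γ := Subgroup.closure (Set.range S.A ∪ Set.range S.C ∪ Set.range S.D)

/-- the subgroup generated by the root elements of `α + β` and `2α + β` -/
def Kcd : Subgroup Γ := Subgroup.closure (Set.range S.C ∪ Set.range S.D)

theorem A_mem_U (t : F) : S.A t ∈ S.U := Subgroup.subset_closure (Or.inl (Or.inl (Or.inl ⟨t, rfl⟩)))
theorem B_mem_U (t : F) : S.B t ∈ S.U := Subgroup.subset_closure (Or.inl (Or.inl (Or.inr ⟨t, rfl⟩)))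
theorem C_mem_U (t : F) : S.C t ∈ S.U := Subgroup.subset_closure (Or.inl (Or.inr ⟨t, rfl⟩))
theorem D_mem_U (t : F) : S.D t ∈ S.U := Subgroup.subset_closure (Or.inr ⟨t, rfl⟩)

theorem B_mem_Ka (t : F) : S.B t ∈ S.Ka := Subgroup.subset_closure (Or.inl (Or.inl ⟨t, rfl⟩))
theorem C_mem_Ka (t : F) : S.C t ∈ S.Ka := Subgroup.subset_closure (Or.inl (Or.inr ⟨t, rfl⟩))
theorem D_mem_Ka (t : F) : S.D t ∈ S.Ka := Subgroup.subset_closure (Or.inr ⟨t, rfl⟩)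

theorem A_mem_Kb (t : F) : S.A t ∈ S.Kb := Subgroup.subset_closure (Or.inl (Or.inl ⟨t, rfl⟩))
theorem C_mem_Kb (t : F) : S.C t ∈ S.Kb := Subgroup.subset_closure (Or.inl (Or.inr ⟨t, rfl⟩))
theorem D_mem_Kb (t : F) : S.D t ∈ S.Kb := Subgroup.subset_closure (Or.inr ⟨t, rfl⟩)

theorem C_mem_Kcd (t : F) : S.C t ∈ S.Kcd := Subgroup.subset_closure (Or.inl ⟨t, rfl⟩)
theorem D_mem_Kcd (t : F) : S.D t ∈ S.Kcd := Subgroup.subset_closure (Or.inr ⟨t, rfl⟩)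

theorem Ka_le : S.Ka ≤ S.U := by
  unfold Ka U
  rw [Subgroup.closure_le]
  rintro x ((⟨t, rfl⟩ | ⟨t, rfl⟩) | ⟨t, rfl⟩)
  · exact S.B_mem_U t
  · exact S.C_mem_U t
  · exact S.D_mem_U t

theorem Kb_le : S.Kb ≤ S.U := by
  unfold Kb U
  rw [Subgroup.closure_le]
  rintro x ((⟨t, rfl⟩ | ⟨t, rfl⟩) | ⟨t, rfl⟩)
  · exact S.A_mem_U t
  · exact S.C_mem_U t
  · exact S.D_mem_U t

theorem H_U : ∀ h ∈ S.H, ∀ u ∈ S.U, h * u * h⁻¹ ∈ S.U := by
  intro h hh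
  apply conj_mem_of_closure
  rintro x (((⟨t, rfl⟩ | ⟨t, rfl⟩) | ⟨t, rfl⟩) | ⟨t, rfl⟩)
  · obtain ⟨t', e⟩ := S.H_A h hh t
    rw [e]; exact S.A_mem_U t'
  · obtain ⟨t', e⟩ := S.H_B h hh t
    rw [e]; exact S.B_mem_U t'
  · obtain ⟨t', e⟩ := S.H_C h hh t
    rw [e]; exact S.C_mem_U t'
  · obtain ⟨t', e⟩ := S.H_D h hh t
    rw [e]; exact S.D_mem_U t'

theorem A_Ka : ∀ t, ∀ k ∈ S.Ka, S.A t * k * (S.A t)⁻¹ ∈ S.Ka := by
  intro t
  apply conj_mem_of_closure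
  rintro x ((⟨u, rfl⟩ | ⟨u, rfl⟩) | ⟨u, rfl⟩)
  · have e : S.A t * S.B u * (S.A t)⁻¹ =
        (S.A t * S.B u * (S.A t)⁻¹ * (S.B u)⁻¹) * S.B u := by group
    rw [e, S.comm_AB]
    exact S.Ka.mul_mem (S.Ka.mul_mem (S.C_mem_Ka _) (S.D_mem_Ka _)) (S.B_mem_Ka _)
  · have e : S.A t * S.C u * (S.A t)⁻¹ =
        (S.A t * S.C u * (S.A t)⁻¹ * (S.C u)⁻¹) * S.C u := by group
    rw [e, S.comm_AC]
    exact S.Ka.mul_mem (S.D_mem_Ka _) (S.C_mem_Ka _)
  · rw [(S.comm_AD t u).eq, mul_inv_cancel_right]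
    exact S.D_mem_Ka _

theorem B_Kb : ∀ t, ∀ k ∈ S.Kb, S.B t * k * (S.B t)⁻¹ ∈ S.Kb := by
  intro t
  apply conj_mem_of_closure
  rintro x ((⟨u, rfl⟩ | ⟨u, rfl⟩) | ⟨u, rfl⟩)
  · have h1 := S.comm_AB (-u) t
    rw [← afam_inv S.A S.A_add, inv_inv] at h1
    have e : S.B t * S.A u * (S.B t)⁻¹ =
        S.A u * ((S.A u)⁻¹ * S.B t * S.A u * (S.B t)⁻¹) := by group
    rw [e, h1]
    exact S.Kb.mul_mem (S.A_mem_Kb _) (S.Kb.mul_mem (S.C_mem_Kb _) (S.D_mem_Kb _))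
  · rw [(S.comm_BC t u).eq, mul_inv_cancel_right]
    exact S.C_mem_Kb _
  · rw [(S.comm_BD t u).eq, mul_inv_cancel_right]
    exact S.D_mem_Kb _

theorem a_Ka : ∀ k ∈ S.Ka, S.a * k * S.a⁻¹ ∈ S.Ka := by
  apply conj_mem_of_closure
  rintro x ((⟨u, rfl⟩ | ⟨u, rfl⟩) | ⟨u, rfl⟩)
  · obtain ⟨t', e⟩ := S.a_B u
    rw [e]; exact S.D_mem_Ka _
  · obtain ⟨t', e⟩ := S.a_C u
    rw [e]; exact S.C_mem_Ka _
  · obtain ⟨t', e⟩ := S.a_D u
    rw [e]; exact S.B_mem_Ka _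

theorem b_Kb : ∀ k ∈ S.Kb, S.b * k * S.b⁻¹ ∈ S.Kb := by
  apply conj_mem_of_closure
  rintro x ((⟨u, rfl⟩ | ⟨u, rfl⟩) | ⟨u, rfl⟩)
  · obtain ⟨t', e⟩ := S.b_A u
    rw [e]; exact S.C_mem_Kb _
  · obtain ⟨t', e⟩ := S.b_C u
    rw [e]; exact S.A_mem_Kb _
  · obtain ⟨t', e⟩ := S.b_D u
    rw [e]; exact S.D_mem_Kb _

theorem decomp_a : ∀ u ∈ S.U, ∃ t, ∃ k ∈ S.Ka, u = S.A t * k := by
  intro u hu
  apply exists_mul_of_mem_closure S.A S.A_add S.Ka S.A_Ka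
  revert u
  show S.U ≤ _
  unfold U
  rw [Subgroup.closure_le]
  rintro x (((⟨t, rfl⟩ | ⟨t, rfl⟩) | ⟨t, rfl⟩) | ⟨t, rfl⟩)
  · exact Subgroup.subset_closure (Or.inl ⟨t, rfl⟩)
  · exact Subgroup.subset_closure (Or.inr (S.B_mem_Ka t))
  · exact Subgroup.subset_closure (Or.inr (S.C_mem_Ka t))
  · exact Subgroup.subset_closure (Or.inr (S.D_mem_Ka t))

theorem decomp_b : ∀ u ∈ S.U, ∃ t, ∃ k ∈ S.Kb, u = S.B t * k := by
  intro u hu
  apply exists_mul_of_mem_closure S.B S.B_add S.Kb S.B_Kb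
  revert u
  show S.U ≤ _
  unfold U
  rw [Subgroup.closure_le]
  rintro x (((⟨t, rfl⟩ | ⟨t, rfl⟩) | ⟨t, rfl⟩) | ⟨t, rfl⟩)
  · exact Subgroup.subset_closure (Or.inr (S.A_mem_Kb t))
  · exact Subgroup.subset_closure (Or.inl ⟨t, rfl⟩)
  · exact Subgroup.subset_closure (Or.inr (S.C_mem_Kb t))
  · exact Subgroup.subset_closure (Or.inr (S.D_mem_Kb t))

theorem step_a : Step S.U S.H S.Ka S.A S.a :=
  ⟨S.A_add, S.A_mem_U, S.Ka_le, S.H_U, S.decomp_a, S.A_Ka, S.a_Ka, S.aa, S.a_A⟩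

theorem step_b : Step S.U S.H S.Kb S.B S.b :=
  ⟨S.B_add, S.B_mem_U, S.Kb_le, S.H_U, S.decomp_b, S.B_Kb, S.b_Kb, S.bb, S.b_B⟩

/-- conjugation by the inverse of a Weyl element -/
theorem conj_inv_of_conj {X Y : F → Γ} {n : Γ} (hn : n * n ∈ S.H)
    (hY : ∀ h ∈ S.H, ∀ t, ∃ t', h * Y t * h⁻¹ = Y t') (h : ∀ t, ∃ t', n * X t * n⁻¹ = Y t')
    (t : F) : ∃ t', n⁻¹ * X t * n = Y t' := by
  obtain ⟨t₁, e₁⟩ := h t
  obtain ⟨t₂, e₂⟩ := hY _ (S.H.inv_mem hn) t₁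
  refine ⟨t₂, ?_⟩
  rw [← e₂, ← e₁]
  group

theorem typeA_a : ∀ w ∈ ({1, S.b, S.b * S.a, S.b * S.a * S.b} : Set Γ), ∀ t,
    w⁻¹ * S.A t * w ∈ S.U := by
  have h1 : ∀ t, ∃ t', S.b⁻¹ * S.A t * S.b = S.C t' := S.conj_inv_of_conj S.bb S.H_C S.b_A
  have h2 : ∀ t, ∃ t', S.a⁻¹ * S.C t * S.a = S.C t' := S.conj_inv_of_conj S.aa S.H_C S.a_C
  have h3 : ∀ t, ∃ t', S.b⁻¹ * S.C t * S.b = S.A t' := S.conj_inv_of_conj S.bb S.H_A S.b_C
  rintro w (e | e | e | e) t <;> rw [e]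
  · simp only [inv_one, one_mul, mul_one]; exact S.A_mem_U t
  · obtain ⟨t₁, e₁⟩ := h1 t
    rw [e₁]; exact S.C_mem_U _
  · obtain ⟨t₁, e₁⟩ := h1 t
    obtain ⟨t₂, e₂⟩ := h2 t₁
    have e' : (S.b * S.a)⁻¹ * S.A t * (S.b * S.a) = S.a⁻¹ * (S.b⁻¹ * S.A t * S.b) * S.a := by group
    rw [e', e₁, e₂]; exact S.C_mem_U _
  · obtain ⟨t₁, e₁⟩ := h1 t
    obtain ⟨t₂, e₂⟩ := h2 t₁
    obtain ⟨t₃, e₃⟩ := h3 t₂
    have e' : (S.b * S.a * S.b)⁻¹ * S.A t * (S.b * S.a * S.b) =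
        S.b⁻¹ * (S.a⁻¹ * (S.b⁻¹ * S.A t * S.b) * S.a) * S.b := by group
    rw [e', e₁, e₂, e₃]; exact S.A_mem_U _

theorem typeA_b : ∀ w ∈ ({1, S.a, S.a * S.b, S.a * S.b * S.a} : Set Γ), ∀ t,
    w⁻¹ * S.B t * w ∈ S.U := by
  have h1 : ∀ t, ∃ t', S.a⁻¹ * S.B t * S.a = S.D t' := S.conj_inv_of_conj S.aa S.H_D S.a_B
  have h2 : ∀ t, ∃ t', S.b⁻¹ * S.D t * S.b = S.D t' := S.conj_inv_of_conj S.bb S.H_D S.b_D
  have h3 : ∀ t, ∃ t', S.a⁻¹ * S.D t * S.a = S.B t' := S.conj_inv_of_conj S.aa S.H_B S.a_D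
  rintro w (e | e | e | e) t <;> rw [e]
  · simp only [inv_one, one_mul, mul_one]; exact S.B_mem_U t
  · obtain ⟨t₁, e₁⟩ := h1 t
    rw [e₁]; exact S.D_mem_U _
  · obtain ⟨t₁, e₁⟩ := h1 t
    obtain ⟨t₂, e₂⟩ := h2 t₁
    have e' : (S.a * S.b)⁻¹ * S.B t * (S.a * S.b) = S.b⁻¹ * (S.a⁻¹ * S.B t * S.a) * S.b := by group
    rw [e', e₁, e₂]; exact S.D_mem_U _
  · obtain ⟨t₁, e₁⟩ := h1 t
    obtain ⟨t₂, e₂⟩ := h2 t₁
    obtain ⟨t₃, e₃⟩ := h3 t₂
    have e' : (S.a * S.b * S.a)⁻¹ * S.B t * (S.a * S.b * S.a) =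
        S.a⁻¹ * (S.b⁻¹ * (S.a⁻¹ * S.B t * S.a) * S.b) * S.a := by group
    rw [e', e₁, e₂, e₃]; exact S.B_mem_U _

/-- the Bruhat-type cover -/
theorem cover (hgen : Subgroup.closure ((S.U : Set Γ) ∪ S.H ∪ {S.a, S.b}) = ⊤) (g : Γ) :
    ∃ u ∈ S.U, ∃ m ∈ Subgroup.closure (({S.a, S.b} : Set Γ) ∪ S.H), ∃ u' ∈ S.U,
      g = u * m * u' :=
  bruhat_cover S.U S.H S.Ka S.Kb S.a S.b S.A S.B S.step_a S.step_b S.a_H S.b_H S.abab
    S.typeA_a S.typeA_b hgen g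

/-! ### the normal form in `U` -/

theorem mem_range_of_mem_closure {X : F → Γ} (hadd : ∀ t u, X t * X u = X (t + u)) :
    ∀ g ∈ Subgroup.closure (Set.range X), ∃ t, g = X t := by
  intro g hg
  induction hg using Subgroup.closure_induction with
  | mem x hx => obtain ⟨t, rfl⟩ := hx; exact ⟨t, rfl⟩
  | one => exact ⟨0, (afam_zero X hadd).symm⟩
  | mul x y _ _ hx hy =>
    obtain ⟨t, rfl⟩ := hx
    obtain ⟨u, rfl⟩ := hy
    exact ⟨t + u, hadd t u⟩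
  | inv x _ hx =>
    obtain ⟨t, rfl⟩ := hx
    exact ⟨-t, afam_inv X hadd t⟩

theorem normal_form : ∀ u ∈ S.U, ∃ t₁ t₂ t₃ t₄, u = S.A t₁ * S.B t₂ * S.C t₃ * S.D t₄ := by
  intro u hu
  obtain ⟨t₁, k, hk, rfl⟩ := S.decomp_a u hu
  -- `k = B t₂ * k'`
  have hB : ∀ t, ∀ k ∈ S.Kcd, S.B t * k * (S.B t)⁻¹ ∈ S.Kcd := by
    intro t
    apply conj_mem_of_closure
    rintro x (⟨u, rfl⟩ | ⟨u, rfl⟩)
    · rw [(S.comm_BC t u).eq, mul_inv_cancel_right]
      exact S.C_mem_Kcd _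
    · rw [(S.comm_BD t u).eq, mul_inv_cancel_right]
      exact S.D_mem_Kcd _
  have h1 : S.Ka ≤ Subgroup.closure (Set.range S.B ∪ (S.Kcd : Set Γ)) := by
    unfold Ka
    rw [Subgroup.closure_le]
    rintro x ((⟨t, rfl⟩ | ⟨t, rfl⟩) | ⟨t, rfl⟩)
    · exact Subgroup.subset_closure (Or.inl ⟨t, rfl⟩)
    · exact Subgroup.subset_closure (Or.inr (S.C_mem_Kcd t))
    · exact Subgroup.subset_closure (Or.inr (S.D_mem_Kcd t))
  obtain ⟨t₂, k', hk', rfl⟩ := exists_mul_of_mem_closure S.B S.B_add S.Kcd hB k (h1 hk)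
  -- `k' = C t₃ * D t₄`
  have hC : ∀ t, ∀ k ∈ Subgroup.closure (Set.range S.D), S.C t * k * (S.C t)⁻¹ ∈
      Subgroup.closure (Set.range S.D) := by
    intro t
    apply conj_mem_of_closure
    rintro x ⟨u, rfl⟩
    rw [(S.comm_CD t u).eq, mul_inv_cancel_right]
    exact Subgroup.subset_closure ⟨u, rfl⟩
  have h2 : S.Kcd ≤ Subgroup.closure (Set.range S.C ∪
      (Subgroup.closure (Set.range S.D) : Set Γ)) := by
    unfold Kcd
    rw [Subgroup.closure_le]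
    rintro x (⟨t, rfl⟩ | ⟨t, rfl⟩)
    · exact Subgroup.subset_closure (Or.inl ⟨t, rfl⟩)
    · exact Subgroup.subset_closure (Or.inr (Subgroup.subset_closure ⟨t, rfl⟩))
  obtain ⟨t₃, k'', hk'', rfl⟩ := exists_mul_of_mem_closure S.C S.C_add _ hC k' (h2 hk')
  obtain ⟨t₄, rfl⟩ := mem_range_of_mem_closure S.D_add k'' hk''
  exact ⟨t₁, t₂, t₃, t₄, by group⟩

/-- the recognition theorem: a homomorphism which is injective on `U H` and separates the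
nontrivial Weyl words from a subgroup `T` containing the image of `U H` is injective -/
theorem injective_of_sep (hgen : Subgroup.closure ((S.U : Set Γ) ∪ S.H ∪ {S.a, S.b}) = ⊤)
    {G : Type*} [Group G] (π : Γ →* G) (T : Subgroup G)
    (hA : ∀ t, π (S.A t) ∈ T) (hB : ∀ t, π (S.B t) ∈ T) (hC : ∀ t, π (S.C t) ∈ T)
    (hD : ∀ t, π (S.D t) ∈ T) (hH : ∀ h ∈ S.H, π h ∈ T)
    (hw1 : π S.b ∉ T) (hw2 : π (S.b * S.a) ∉ T) (hw3 : π (S.b * S.a * S.b) ∉ T)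
    (hw4 : π S.a ∉ T) (hw5 : π (S.a * S.b) ∉ T) (hw6 : π (S.a * (S.b * S.a)) ∉ T)
    (hw7 : π (S.a * (S.b * S.a * S.b)) ∉ T)
    (hinj : ∀ t₁ t₂ t₃ t₄, ∀ h ∈ S.H, π (S.A t₁ * S.B t₂ * S.C t₃ * S.D t₄ * h) = 1 →
      S.A t₁ * S.B t₂ * S.C t₃ * S.D t₄ * h = 1) :
    Function.Injective π := by
  rw [injective_iff_map_eq_one]
  intro g hg
  have hUT : ∀ u ∈ S.U, π u ∈ T := by
    intro u hu
    have : S.U ≤ T.comap π := by
      unfold U
      rw [Subgroup.closure_le]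
      rintro x (((⟨t, rfl⟩ | ⟨t, rfl⟩) | ⟨t, rfl⟩) | ⟨t, rfl⟩)
      · exact hA t
      · exact hB t
      · exact hC t
      · exact hD t
    exact this hu
  obtain ⟨u, hu, m, hm, u', hu', rfl⟩ := S.cover hgen g
  have hanz : S.a ∈ Subgroup.normalizer (S.H : Set Γ) := mem_normalizer_of_sq S.H S.a S.a_H S.aa
  have hbnz : S.b ∈ Subgroup.normalizer (S.H : Set Γ) := mem_normalizer_of_sq S.H S.b S.b_H S.bb
  obtain ⟨w, hw, h, hh, e⟩ := cover8 S.H S.a S.b hanz hbnz S.aa S.bb S.abab m hm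
  -- the image of `m` lies in `T`
  have hmT : π m ∈ T := by
    have e1 : π m = (π u)⁻¹ * π (u * m * u') * (π u')⁻¹ := by
      rw [map_mul, map_mul]; group
    rw [e1, hg]
    exact T.mul_mem (T.mul_mem (T.inv_mem (hUT u hu)) T.one_mem) (T.inv_mem (hUT u' hu'))
  have hmH : m ∈ S.H := by
    rcases e with e | e
    · have hwT : π w ∈ T := by
        have e1 : π w = π m * (π h)⁻¹ := by rw [e, map_mul π w h]; group
        rw [e1]
        exact T.mul_mem hmT (T.inv_mem (hH h hh))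
      rcases hw with e' | e' | e' | e'
      · rw [e, e', one_mul]; exact hh
      · rw [e'] at hwT; exact absurd hwT hw1
      · rw [e'] at hwT; exact absurd hwT hw2
      · rw [e'] at hwT; exact absurd hwT hw3
    · have hwT : π (S.a * w) ∈ T := by
        have e1 : π (S.a * w) = π m * (π h)⁻¹ := by rw [e, map_mul π (S.a * w) h]; group
        rw [e1]
        exact T.mul_mem hmT (T.inv_mem (hH h hh))
      rcases hw with e' | e' | e' | e'
      · rw [e', mul_one] at hwT; exact absurd hwT hw4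
      · rw [e'] at hwT; exact absurd hwT hw5
      · rw [e'] at hwT; exact absurd hwT hw6
      · rw [e'] at hwT; exact absurd hwT hw7
  -- now `g ∈ U H`
  have hu'' : m * u' * m⁻¹ ∈ S.U := S.H_U m hmH u' hu'
  obtain ⟨t₁, t₂, t₃, t₄, e2⟩ := S.normal_form (u * (m * u' * m⁻¹)) (S.U.mul_mem hu hu'')
  have e3 : u * m * u' = S.A t₁ * S.B t₂ * S.C t₃ * S.D t₄ * m := by
    rw [← e2]; group
  rw [e3] at hg ⊢
  exact hinj t₁ t₂ t₃ t₄ m hmH hg

end C2Sys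

end Cfsg.Agent.Lib.Helper66_C2
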