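import Mathlib
import Cfsg.Agent.Lib.Helper66_SL3PresA
import Cfsg.Agent.Lib.Helper5_SpPerfect

set_option autoImplicit false
set_option linter.unusedSimpArgs false

/-!
The matrix model for the presentation of `Sp₄(F)` (helper66): the two root `SL₂`'s inside
`Matrix.symplecticGroup (Fin 2) F`, the unipotent radical of the Siegel parabolic, and the
relations between them.
-/

namespace Cfsg.Agent.Lib.Helper66_C2

open Matrix Cfsg.Agent.Lib.Helper5_SLPresE Cfsg.Agent.Lib.Helper66_SL3Pres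

variable {F : Type*} [Field F]

/-! ### the two embeddings of `SL₂` -/

/-- `diag(0, x)` -/
def dg (x : F) : Matrix (Fin 2) (Fin 2) F := !![0, 0; 0, x]

/-- `diag(1, x)` -/
def dg1 (x : F) : Matrix (Fin 2) (Fin 2) F := !![1, 0; 0, x]

theorem dg_transpose (x : F) : (dg x)ᵀ = dg x := by
  ext i j; fin_cases i <;> fin_cases j <;> simp [dg]

theorem dg1_transpose (x : F) : (dg1 x)ᵀ = dg1 x := by
  ext i j; fin_cases i <;> fin_cases j <;> simp [dg1]

theorem dg_mul_dg (x y : F) : dg x * dg y = dg (x * y) := by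
  ext i j; fin_cases i <;> fin_cases j <;> simp [dg, Matrix.mul_apply, Fin.sum_univ_two]

theorem dg1_mul_dg1 (x y : F) : dg1 x * dg1 y = dg1 (x * y) := by
  ext i j; fin_cases i <;> fin_cases j <;> simp [dg1, Matrix.mul_apply, Fin.sum_univ_two]

theorem dg1_mul_dg (x y : F) : dg1 x * dg y = dg (x * y) := by
  ext i j; fin_cases i <;> fin_cases j <;> simp [dg, dg1, Matrix.mul_apply, Fin.sum_univ_two]

theorem dg_mul_dg1 (x y : F) : dg x * dg1 y = dg (x * y) := by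
  ext i j; fin_cases i <;> fin_cases j <;> simp [dg, dg1, Matrix.mul_apply, Fin.sum_univ_two]

theorem dg_add_dg (x y : F) : dg x + dg y = dg (x + y) := by
  ext i j; fin_cases i <;> fin_cases j <;> simp [dg]

theorem dg1_add_dg (x y : F) : dg1 x + dg y = dg1 (x + y) := by
  ext i j; fin_cases i <;> fin_cases j <;> simp [dg, dg1]

theorem dg_add_dg1 (x y : F) : dg x + dg1 y = dg1 (x + y) := by
  ext i j; fin_cases i <;> fin_cases j <;> simp [dg, dg1]

theorem dg1_sub_dg (x y : F) : dg1 x - dg y = dg1 (x - y) := by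
  ext i j; fin_cases i <;> fin_cases j <;> simp [dg, dg1]

theorem dg1_one : dg1 (1 : F) = 1 := by
  ext i j; fin_cases i <;> fin_cases j <;> simp [dg1]

theorem dg_zero : dg (0 : F) = 0 := by
  ext i j; fin_cases i <;> fin_cases j <;> simp [dg]

/-- the embedding of `SL₂` for the short root: `m ↦ diag(m, m⁻ᵀ)` -/
noncomputable def embA (F : Type*) [Field F] :
    Matrix.SpecialLinearGroup (Fin 2) F →* Matrix.symplecticGroup (Fin 2) F where
  toFun m := ⟨fromBlocks (m : Matrix (Fin 2) (Fin 2) F) 0 0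
      ((m⁻¹ : Matrix.SpecialLinearGroup (Fin 2) F) : Matrix (Fin 2) (Fin 2) F)ᵀ, by
    rw [SymplecticGroup.fromBlocks_mem_iff]
    refine ⟨by simp, by simp, ?_⟩
    rw [transpose_zero, zero_mul, sub_zero, ← transpose_mul, ← Matrix.SpecialLinearGroup.coe_mul,
      inv_mul_cancel, Matrix.SpecialLinearGroup.coe_one, transpose_one]⟩
  map_one' := by
    apply Subtype.ext
    simp
  map_mul' m n := by
    apply Subtype.ext
    simp only [Submonoid.coe_mul, fromBlocks_multiply, Matrix.SpecialLinearGroup.coe_mul,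
      _root_.mul_inv_rev, transpose_mul]
    simp

theorem embA_coe (m : Matrix.SpecialLinearGroup (Fin 2) F) :
    (embA F m : Matrix (Fin 2 ⊕ Fin 2) (Fin 2 ⊕ Fin 2) F) =
      fromBlocks (m : Matrix (Fin 2) (Fin 2) F) 0 0
        ((m⁻¹ : Matrix.SpecialLinearGroup (Fin 2) F) : Matrix (Fin 2) (Fin 2) F)ᵀ := rfl

/-- the embedding of `SL₂` for the long root: `m` acts on the second hyperbolic plane -/
noncomputable def embB (F : Type*) [Field F] :
    Matrix.SpecialLinearGroup (Fin 2) F →* Matrix.symplecticGroup (Fin 2) F where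
  toFun m := ⟨fromBlocks (dg1 ((m : Matrix (Fin 2) (Fin 2) F) 0 0))
      (dg ((m : Matrix (Fin 2) (Fin 2) F) 0 1)) (dg ((m : Matrix (Fin 2) (Fin 2) F) 1 0))
      (dg1 ((m : Matrix (Fin 2) (Fin 2) F) 1 1)), by
    rw [SymplecticGroup.fromBlocks_mem_iff]
    have hdet := m.2
    rw [Matrix.det_fin_two] at hdet
    refine ⟨?_, ?_, ?_⟩
    · rw [dg1_transpose, dg_transpose, dg1_mul_dg, dg_mul_dg1, mul_comm]
    · rw [dg1_transpose, dg_transpose, dg1_mul_dg, dg_mul_dg1, mul_comm]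
    · rw [dg1_transpose, dg_transpose, dg1_mul_dg1, dg_mul_dg, dg1_sub_dg, ← dg1_one]
      congr 1
      linear_combination hdet⟩
  map_one' := by
    apply Subtype.ext
    simp [dg1_one, dg_zero]
  map_mul' m n := by
    apply Subtype.ext
    simp only [Submonoid.coe_mul, fromBlocks_multiply, Matrix.SpecialLinearGroup.coe_mul,
      dg1_mul_dg1, dg_mul_dg, dg1_mul_dg, dg_mul_dg1, dg1_add_dg, dg_add_dg1, dg_add_dg,
      Matrix.mul_apply, Fin.sum_univ_two]

theorem embB_coe (m : Matrix.SpecialLinearGroup (Fin 2) F) :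
    (embB F m : Matrix (Fin 2 ⊕ Fin 2) (Fin 2 ⊕ Fin 2) F) =
      fromBlocks (dg1 ((m : Matrix (Fin 2) (Fin 2) F) 0 0))
      (dg ((m : Matrix (Fin 2) (Fin 2) F) 0 1)) (dg ((m : Matrix (Fin 2) (Fin 2) F) 1 0))
      (dg1 ((m : Matrix (Fin 2) (Fin 2) F) 1 1)) := rfl


/-! ### explicit images -/

theorem embA_coe' (m : Matrix.SpecialLinearGroup (Fin 2) F) :
    (embA F m : Matrix (Fin 2 ⊕ Fin 2) (Fin 2 ⊕ Fin 2) F) =
      fromBlocks (m : Matrix (Fin 2) (Fin 2) F) 0 0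
        !![(m : Matrix (Fin 2) (Fin 2) F) 1 1, -(m : Matrix (Fin 2) (Fin 2) F) 1 0;
           -(m : Matrix (Fin 2) (Fin 2) F) 0 1, (m : Matrix (Fin 2) (Fin 2) F) 0 0] := by
  rw [embA_coe, Matrix.SpecialLinearGroup.coe_inv, Matrix.adjugate_fin_two]
  congr 1
  ext i j
  fin_cases i <;> fin_cases j <;> simp

theorem embA_xm_coe (t : F) : (embA F (xm t) : Matrix (Fin 2 ⊕ Fin 2) (Fin 2 ⊕ Fin 2) F) =
    fromBlocks !![1, t; 0, 1] 0 0 !![1, 0; -t, 1] := by
  rw [embA_coe', xm_coe]; simp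

theorem embA_ym_coe (t : F) : (embA F (ym t) : Matrix (Fin 2 ⊕ Fin 2) (Fin 2 ⊕ Fin 2) F) =
    fromBlocks !![1, 0; t, 1] 0 0 !![1, -t; 0, 1] := by
  rw [embA_coe', ym_coe]; simp

theorem embA_wm_coe : (embA F (wm F) : Matrix (Fin 2 ⊕ Fin 2) (Fin 2 ⊕ Fin 2) F) =
    fromBlocks !![0, 1; -1, 0] 0 0 !![0, 1; -1, 0] := by
  rw [embA_coe', wm_coe]; simp

theorem embA_hm_coe (s : Fˣ) : (embA F (hm s) : Matrix (Fin 2 ⊕ Fin 2) (Fin 2 ⊕ Fin 2) F) =
    fromBlocks !![(s : F), 0; 0, (s : F)⁻¹] 0 0 !![(s : F)⁻¹, 0; 0, (s : F)] := by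
  rw [embA_coe', hm_coe]; simp

theorem embB_xm_coe (t : F) : (embB F (xm t) : Matrix (Fin 2 ⊕ Fin 2) (Fin 2 ⊕ Fin 2) F) =
    fromBlocks 1 (dg t) 0 1 := by
  rw [embB_coe, xm_coe]; simp [dg1_one, dg_zero]

theorem embB_ym_coe (t : F) : (embB F (ym t) : Matrix (Fin 2 ⊕ Fin 2) (Fin 2 ⊕ Fin 2) F) =
    fromBlocks 1 0 (dg t) 1 := by
  rw [embB_coe, ym_coe]; simp [dg1_one, dg_zero]

theorem embB_wm_coe : (embB F (wm F) : Matrix (Fin 2 ⊕ Fin 2) (Fin 2 ⊕ Fin 2) F) =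
    fromBlocks (dg1 0) (dg 1) (dg (-1)) (dg1 0) := by
  rw [embB_coe, wm_coe]; simp

theorem embB_hm_coe (s : Fˣ) : (embB F (hm s) : Matrix (Fin 2 ⊕ Fin 2) (Fin 2 ⊕ Fin 2) F) =
    fromBlocks (dg1 (s : F)) 0 0 (dg1 (s : F)⁻¹) := by
  rw [embB_coe, hm_coe]; simp [dg_zero]

/-! ### the unipotent radical of the Siegel parabolic -/

/-- the element `[[1, S], [0, 1]]` for the symmetric matrix `S = [[x, y], [y, z]]` -/
def qm (x y z : F) : Matrix.symplecticGroup (Fin 2) F :=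
  ⟨fromBlocks 1 !![x, y; y, z] 0 1, by
    rw [SymplecticGroup.fromBlocks_mem_iff]
    refine ⟨by simp, ?_, by simp⟩
    rw [transpose_one, Matrix.mul_one, Matrix.one_mul]
    ext i j
    fin_cases i <;> fin_cases j <;> simp⟩

theorem qm_coe (x y z : F) : (qm x y z : Matrix (Fin 2 ⊕ Fin 2) (Fin 2 ⊕ Fin 2) F) =
    fromBlocks 1 !![x, y; y, z] 0 1 := rfl

theorem qm_mul (x y z x' y' z' : F) : qm x y z * qm x' y' z' = qm (x + x') (y + y') (z + z') := by
  apply Subtype.ext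
  simp only [Submonoid.coe_mul, qm_coe, fromBlocks_multiply]
  congr 1 <;> simp [add_comm]

theorem qm_zero : qm (0 : F) 0 0 = 1 := by
  apply Subtype.ext
  rw [qm_coe, Submonoid.coe_one, ← fromBlocks_one]
  congr 1
  ext i j
  fin_cases i <;> fin_cases j <;> simp

theorem qm_comm (x y z x' y' z' : F) : Commute (qm x y z) (qm x' y' z') := by
  show qm x y z * qm x' y' z' = qm x' y' z' * qm x y z
  rw [qm_mul, qm_mul, add_comm x, add_comm y, add_comm z]

theorem embB_xm (t : F) : embB F (xm t) = qm 0 0 t := by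
  apply Subtype.ext
  rw [embB_xm_coe, qm_coe, dg]

/-- the action of the short root `SL₂` on the unipotent radical -/
theorem embA_mul_qm (m : Matrix.SpecialLinearGroup (Fin 2) F) (x y z : F) :
    embA F m * qm x y z =
      qm ((m : Matrix (Fin 2) (Fin 2) F) 0 0 * (m : Matrix (Fin 2) (Fin 2) F) 0 0 * x +
          2 * (m : Matrix (Fin 2) (Fin 2) F) 0 0 * (m : Matrix (Fin 2) (Fin 2) F) 0 1 * y +
          (m : Matrix (Fin 2) (Fin 2) F) 0 1 * (m : Matrix (Fin 2) (Fin 2) F) 0 1 * z)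
        ((m : Matrix (Fin 2) (Fin 2) F) 0 0 * (m : Matrix (Fin 2) (Fin 2) F) 1 0 * x +
          ((m : Matrix (Fin 2) (Fin 2) F) 0 0 * (m : Matrix (Fin 2) (Fin 2) F) 1 1 +
            (m : Matrix (Fin 2) (Fin 2) F) 0 1 * (m : Matrix (Fin 2) (Fin 2) F) 1 0) * y +
          (m : Matrix (Fin 2) (Fin 2) F) 0 1 * (m : Matrix (Fin 2) (Fin 2) F) 1 1 * z)
        ((m : Matrix (Fin 2) (Fin 2) F) 1 0 * (m : Matrix (Fin 2) (Fin 2) F) 1 0 * x +
          2 * (m : Matrix (Fin 2) (Fin 2) F) 1 0 * (m : Matrix (Fin 2) (Fin 2) F) 1 1 * y +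
          (m : Matrix (Fin 2) (Fin 2) F) 1 1 * (m : Matrix (Fin 2) (Fin 2) F) 1 1 * z) * embA F m := by
  have hdet := m.2
  rw [Matrix.det_fin_two] at hdet
  apply Subtype.ext
  simp only [Submonoid.coe_mul, qm_coe, embA_coe', fromBlocks_multiply]
  simp only [Matrix.mul_one, Matrix.mul_zero, Matrix.zero_mul, Matrix.one_mul, add_zero, zero_add]
  congr 1
  ext i j
  fin_cases i <;> fin_cases j <;> simp [Matrix.mul_apply, Fin.sum_univ_two]
  · linear_combination (-((m : Matrix (Fin 2) (Fin 2) F) 0 0 * x +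
      (m : Matrix (Fin 2) (Fin 2) F) 0 1 * y)) * hdet
  · linear_combination (-((m : Matrix (Fin 2) (Fin 2) F) 0 0 * y +
      (m : Matrix (Fin 2) (Fin 2) F) 0 1 * z)) * hdet
  · linear_combination (-((m : Matrix (Fin 2) (Fin 2) F) 1 0 * x +
      (m : Matrix (Fin 2) (Fin 2) F) 1 1 * y)) * hdet
  · linear_combination (-((m : Matrix (Fin 2) (Fin 2) F) 1 0 * y +
      (m : Matrix (Fin 2) (Fin 2) F) 1 1 * z)) * hdet


/-! ### the basic relations in the model -/

theorem embB_hm_mul_embA_xm (s : Fˣ) (t : F) :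
    embB F (hm s) * embA F (xm t) = embA F (xm ((s : F)⁻¹ * t)) * embB F (hm s) := by
  have hs := s.ne_zero
  apply Subtype.ext
  simp only [Submonoid.coe_mul, embB_hm_coe, embA_xm_coe, fromBlocks_multiply]
  simp only [Matrix.mul_zero, Matrix.zero_mul, add_zero, zero_add]
  congr 1 <;>
  · ext i j
    fin_cases i <;> fin_cases j <;> simp [dg1, Matrix.mul_apply, Fin.sum_univ_two] <;> field_simp

theorem embB_hm_mul_qm (s : Fˣ) (x y z : F) :
    embB F (hm s) * qm x y z = qm x ((s : F) * y) ((s : F) ^ 2 * z) * embB F (hm s) := by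
  have hs := s.ne_zero
  apply Subtype.ext
  simp only [Submonoid.coe_mul, embB_hm_coe, qm_coe, fromBlocks_multiply]
  simp only [Matrix.mul_zero, Matrix.zero_mul, add_zero, zero_add, Matrix.mul_one, Matrix.one_mul]
  congr 1
  ext i j
  fin_cases i <;> fin_cases j <;> simp [dg1, Matrix.mul_apply, Fin.sum_univ_two] <;> field_simp

theorem embA_xm_mul_embB_wm (t : F) : embA F (xm t) * embB F (wm F) = embB F (wm F) * qm 0 t 0 := by
  apply Subtype.ext
  simp only [Submonoid.coe_mul, embB_wm_coe, embA_xm_coe, qm_coe, fromBlocks_multiply]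
  simp only [Matrix.mul_zero, Matrix.zero_mul, add_zero, zero_add, Matrix.mul_one, Matrix.one_mul]
  congr 1 <;>
  · ext i j
    fin_cases i <;> fin_cases j <;> simp [dg, dg1, Matrix.mul_apply, Fin.sum_univ_two]

theorem embB_mul_qm (m : Matrix.SpecialLinearGroup (Fin 2) F) (t : F) :
    embB F m * qm t 0 0 = qm t 0 0 * embB F m := by
  apply Subtype.ext
  simp only [Submonoid.coe_mul, embB_coe, qm_coe, fromBlocks_multiply]
  simp only [Matrix.mul_zero, Matrix.zero_mul, add_zero, zero_add, Matrix.mul_one, Matrix.one_mul]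
  congr 1 <;>
  · ext i j
    fin_cases i <;> fin_cases j <;> simp [dg, dg1, Matrix.mul_apply, Fin.sum_univ_two]

theorem embA_hm_comm_embB_hm (s s' : Fˣ) : Commute (embA F (hm s)) (embB F (hm s')) := by
  show embA F (hm s) * embB F (hm s') = embB F (hm s') * embA F (hm s)
  apply Subtype.ext
  simp only [Submonoid.coe_mul, embB_hm_coe, embA_hm_coe, fromBlocks_multiply]
  simp only [Matrix.mul_zero, Matrix.zero_mul, add_zero, zero_add]
  congr 1 <;>
  · ext i j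
    fin_cases i <;> fin_cases j <;> simp [dg1, Matrix.mul_apply, Fin.sum_univ_two, mul_comm]

theorem embB_wm_mul_embA_hm (s : Fˣ) :
    embB F (wm F) * embA F (hm s) = embA F (hm s) * embB F (hm s) * embB F (hm s) * embB F (wm F) := by
  have hs := s.ne_zero
  apply Subtype.ext
  simp only [Submonoid.coe_mul, embB_hm_coe, embA_hm_coe, embB_wm_coe, fromBlocks_multiply]
  simp only [Matrix.mul_zero, Matrix.zero_mul, add_zero, zero_add]
  congr 1 <;>
  · ext i j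
    fin_cases i <;> fin_cases j <;> simp [dg, dg1, Matrix.mul_apply, Fin.sum_univ_two]

theorem embA_wm_mul_embB_hm (s : Fˣ) :
    embA F (wm F) * embB F (hm s) = embA F (hm s) * embB F (hm s) * embA F (wm F) := by
  have hs := s.ne_zero
  apply Subtype.ext
  simp only [Submonoid.coe_mul, embB_hm_coe, embA_hm_coe, embA_wm_coe, fromBlocks_multiply]
  simp only [Matrix.mul_zero, Matrix.zero_mul, add_zero, zero_add]
  congr 1 <;>
  · ext i j
    fin_cases i <;> fin_cases j <;> simp [dg, dg1, Matrix.mul_apply, Fin.sum_univ_two]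

/-- the product of the two Weyl elements -/
theorem embA_wm_mul_embB_wm_coe :
    ((embA F (wm F) * embB F (wm F) : Matrix.symplecticGroup (Fin 2) F) :
      Matrix (Fin 2 ⊕ Fin 2) (Fin 2 ⊕ Fin 2) F) =
      fromBlocks !![0, 0; -1, 0] !![0, 1; 0, 0] !![0, -1; 0, 0] !![0, 0; -1, 0] := by
  simp only [Submonoid.coe_mul, embB_wm_coe, embA_wm_coe, fromBlocks_multiply]
  simp only [Matrix.mul_zero, Matrix.zero_mul, add_zero, zero_add]
  congr 1 <;>
  · ext i j
    fin_cases i <;> fin_cases j <;> simp [dg, dg1, Matrix.mul_apply, Fin.sum_univ_two]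

theorem embA_wm_sq_coe :
    ((embA F (wm F) * embA F (wm F) : Matrix.symplecticGroup (Fin 2) F) :
      Matrix (Fin 2 ⊕ Fin 2) (Fin 2 ⊕ Fin 2) F) = fromBlocks (-1) 0 0 (-1) := by
  simp only [Submonoid.coe_mul, embA_wm_coe, fromBlocks_multiply]
  simp only [Matrix.mul_zero, Matrix.zero_mul, add_zero, zero_add]
  congr 1 <;>
  · ext i j
    fin_cases i <;> fin_cases j <;> simp [Matrix.mul_apply, Fin.sum_univ_two]

theorem w4M : (embA F (wm F) * embB F (wm F)) ^ 4 = embA F (wm F) * embA F (wm F) := by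
  apply Subtype.ext
  rw [embA_wm_sq_coe]
  have e : (embA F (wm F) * embB F (wm F)) ^ 4 =
      (embA F (wm F) * embB F (wm F)) * (embA F (wm F) * embB F (wm F)) *
        ((embA F (wm F) * embB F (wm F)) * (embA F (wm F) * embB F (wm F))) := by
    rw [show (4 : ℕ) = 2 + 2 from rfl, pow_add, pow_two]
  rw [e, Submonoid.coe_mul, Submonoid.coe_mul, embA_wm_mul_embB_wm_coe]
  simp only [fromBlocks_multiply]
  congr 1 <;>
  · ext i j
    fin_cases i <;> fin_cases j <;> simp [Matrix.mul_apply, Fin.sum_univ_two]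


/-! ### the Borel subgroup -/

/-- the order `e₁ < e₂ < f₂ < f₁` of the basis vectors -/
def rk : Fin 2 ⊕ Fin 2 → ℕ := Sum.elim ![0, 1] ![3, 2]

theorem bt_fromBlocks (P Q S : Matrix (Fin 2) (Fin 2) F) (hP : P 1 0 = 0) (hS : S 0 1 = 0) :
    BlockTriangular (fromBlocks P Q 0 S) rk := by
  rintro (i | i) (j | j) hij
  · fin_cases i <;> fin_cases j <;> simp_all [rk]
  · fin_cases i <;> fin_cases j <;> simp_all [rk]
  · simp
  · fin_cases i <;> fin_cases j <;> simp_all [rk]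

/-- the upper triangular symplectic matrices (with respect to the order `rk`) -/
def Tsub (F : Type*) [Field F] : Subgroup (Matrix.symplecticGroup (Fin 2) F) where
  carrier := {g | BlockTriangular (g : Matrix (Fin 2 ⊕ Fin 2) (Fin 2 ⊕ Fin 2) F) rk ∧
    BlockTriangular ((g⁻¹ : Matrix.symplecticGroup (Fin 2) F) :
      Matrix (Fin 2 ⊕ Fin 2) (Fin 2 ⊕ Fin 2) F) rk}
  mul_mem' := by
    rintro g h ⟨h1, h2⟩ ⟨h3, h4⟩
    refine ⟨?_, ?_⟩
    · rw [Submonoid.coe_mul]; exact h1.mul h3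
    · rw [_root_.mul_inv_rev, Submonoid.coe_mul]; exact h4.mul h2
  one_mem' := by
    refine ⟨?_, ?_⟩
    · rw [Submonoid.coe_one]; exact blockTriangular_one
    · rw [inv_one, Submonoid.coe_one]; exact blockTriangular_one
  inv_mem' := by
    rintro g ⟨h1, h2⟩
    exact ⟨h2, by rwa [inv_inv]⟩

theorem mem_Tsub_iff (g : Matrix.symplecticGroup (Fin 2) F) : g ∈ Tsub F ↔
    BlockTriangular (g : Matrix (Fin 2 ⊕ Fin 2) (Fin 2 ⊕ Fin 2) F) rk ∧
    BlockTriangular ((g⁻¹ : Matrix.symplecticGroup (Fin 2) F) :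
      Matrix (Fin 2 ⊕ Fin 2) (Fin 2 ⊕ Fin 2) F) rk := Iff.rfl

theorem xm_inv (t : F) : (xm t)⁻¹ = xm (-t) := by
  rw [inv_eq_iff_mul_eq_one, xm_add, add_neg_cancel, xm_zero]

theorem qm_inv (x y z : F) : (qm x y z)⁻¹ = qm (-x) (-y) (-z) := by
  rw [inv_eq_iff_mul_eq_one, qm_mul, add_neg_cancel, add_neg_cancel, add_neg_cancel, qm_zero]

theorem bt_embA_xm (t : F) :
    BlockTriangular (embA F (xm t) : Matrix (Fin 2 ⊕ Fin 2) (Fin 2 ⊕ Fin 2) F) rk := by
  rw [embA_xm_coe]; exact bt_fromBlocks _ _ _ (by simp) (by simp)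

theorem bt_qm (x y z : F) :
    BlockTriangular (qm x y z : Matrix (Fin 2 ⊕ Fin 2) (Fin 2 ⊕ Fin 2) F) rk := by
  rw [qm_coe]; exact bt_fromBlocks _ _ _ (by simp) (by simp)

theorem bt_embA_hm (s : Fˣ) :
    BlockTriangular (embA F (hm s) : Matrix (Fin 2 ⊕ Fin 2) (Fin 2 ⊕ Fin 2) F) rk := by
  rw [embA_hm_coe]; exact bt_fromBlocks _ _ _ (by simp) (by simp)

theorem bt_embB_hm (s : Fˣ) :
    BlockTriangular (embB F (hm s) : Matrix (Fin 2 ⊕ Fin 2) (Fin 2 ⊕ Fin 2) F) rk := by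
  rw [embB_hm_coe]; exact bt_fromBlocks _ _ _ (by simp [dg1]) (by simp [dg1])

theorem embA_xm_mem_Tsub (t : F) : embA F (xm t) ∈ Tsub F := by
  refine ⟨bt_embA_xm t, ?_⟩
  rw [← map_inv, xm_inv]; exact bt_embA_xm _

theorem qm_mem_Tsub (x y z : F) : qm x y z ∈ Tsub F := by
  refine ⟨bt_qm x y z, ?_⟩
  rw [qm_inv]; exact bt_qm _ _ _

theorem embA_hm_mem_Tsub (s : Fˣ) : embA F (hm s) ∈ Tsub F := by
  refine ⟨bt_embA_hm s, ?_⟩
  rw [← map_inv, ← hm_inv']; exact bt_embA_hm _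

theorem embB_hm_mem_Tsub (s : Fˣ) : embB F (hm s) ∈ Tsub F := by
  refine ⟨bt_embB_hm s, ?_⟩
  rw [← map_inv, ← hm_inv']; exact bt_embB_hm _

/-! ### the Weyl words are not upper triangular -/

theorem not_mem_Tsub_of_21 (g : Matrix.symplecticGroup (Fin 2) F) (i j : Fin 2)
    (h : (g : Matrix (Fin 2 ⊕ Fin 2) (Fin 2 ⊕ Fin 2) F) (Sum.inr i) (Sum.inl j) ≠ 0) :
    g ∉ Tsub F := by
  rintro ⟨h1, -⟩
  apply h
  apply h1
  fin_cases i <;> fin_cases j <;> simp [rk]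

theorem not_mem_Tsub_of_11 (g : Matrix.symplecticGroup (Fin 2) F)
    (h : (g : Matrix (Fin 2 ⊕ Fin 2) (Fin 2 ⊕ Fin 2) F) (Sum.inl 1) (Sum.inl 0) ≠ 0) :
    g ∉ Tsub F := by
  rintro ⟨h1, -⟩
  apply h
  apply h1
  simp [rk]

theorem wa_not_mem : embA F (wm F) ∉ Tsub F := by
  apply not_mem_Tsub_of_11
  rw [embA_wm_coe]; simp

theorem wb_not_mem : embB F (wm F) ∉ Tsub F := by
  apply not_mem_Tsub_of_21 _ 1 1
  rw [embB_wm_coe]; simp [dg]

theorem wab_not_mem : embA F (wm F) * embB F (wm F) ∉ Tsub F := by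
  apply not_mem_Tsub_of_11
  rw [embA_wm_mul_embB_wm_coe]; simp

theorem embB_wm_mul_embA_wm_coe :
    ((embB F (wm F) * embA F (wm F) : Matrix.symplecticGroup (Fin 2) F) :
      Matrix (Fin 2 ⊕ Fin 2) (Fin 2 ⊕ Fin 2) F) =
      fromBlocks !![0, 1; 0, 0] !![0, 0; -1, 0] !![0, 0; 1, 0] !![0, 1; 0, 0] := by
  simp only [Submonoid.coe_mul, embB_wm_coe, embA_wm_coe, fromBlocks_multiply]
  simp only [Matrix.mul_zero, Matrix.zero_mul, add_zero, zero_add]
  congr 1 <;>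
  · ext i j
    fin_cases i <;> fin_cases j <;> simp [dg, dg1, Matrix.mul_apply, Fin.sum_univ_two]

theorem wba_not_mem : embB F (wm F) * embA F (wm F) ∉ Tsub F := by
  apply not_mem_Tsub_of_21 _ 1 0
  rw [embB_wm_mul_embA_wm_coe]; simp

theorem wbab_coe :
    ((embB F (wm F) * embA F (wm F) * embB F (wm F) : Matrix.symplecticGroup (Fin 2) F) :
      Matrix (Fin 2 ⊕ Fin 2) (Fin 2 ⊕ Fin 2) F) =
      fromBlocks 0 !![0, 1; -1, 0] !![0, -1; 1, 0] 0 := by
  rw [Submonoid.coe_mul, embB_wm_mul_embA_wm_coe, embB_wm_coe]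
  simp only [fromBlocks_multiply]
  congr 1 <;>
  · ext i j
    fin_cases i <;> fin_cases j <;> simp [dg, dg1, Matrix.mul_apply, Fin.sum_univ_two]

theorem wbab_not_mem : embB F (wm F) * embA F (wm F) * embB F (wm F) ∉ Tsub F := by
  apply not_mem_Tsub_of_21 _ 1 0
  rw [wbab_coe]; simp

theorem waba_coe :
    ((embA F (wm F) * (embB F (wm F) * embA F (wm F)) : Matrix.symplecticGroup (Fin 2) F) :
      Matrix (Fin 2 ⊕ Fin 2) (Fin 2 ⊕ Fin 2) F) =
      fromBlocks !![0, 0; 0, -1] !![-1, 0; 0, 0] !![1, 0; 0, 0] !![0, 0; 0, -1] := by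
  rw [Submonoid.coe_mul, embB_wm_mul_embA_wm_coe, embA_wm_coe]
  simp only [fromBlocks_multiply]
  simp only [Matrix.mul_zero, Matrix.zero_mul, add_zero, zero_add]
  congr 1 <;>
  · ext i j
    fin_cases i <;> fin_cases j <;> simp [Matrix.mul_apply, Fin.sum_univ_two]

theorem waba_not_mem : embA F (wm F) * (embB F (wm F) * embA F (wm F)) ∉ Tsub F := by
  apply not_mem_Tsub_of_21 _ 0 0
  rw [waba_coe]; simp

theorem wabab_coe :
    ((embA F (wm F) * (embB F (wm F) * embA F (wm F) * embB F (wm F)) :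
      Matrix.symplecticGroup (Fin 2) F) : Matrix (Fin 2 ⊕ Fin 2) (Fin 2 ⊕ Fin 2) F) =
      fromBlocks 0 (-1) 1 0 := by
  rw [Submonoid.coe_mul, wbab_coe, embA_wm_coe]
  simp only [fromBlocks_multiply]
  simp only [Matrix.mul_zero, Matrix.zero_mul, add_zero, zero_add]
  congr 1 <;>
  · ext i j
    fin_cases i <;> fin_cases j <;> simp [Matrix.mul_apply, Fin.sum_univ_two]

theorem wabab_not_mem :
    embA F (wm F) * (embB F (wm F) * embA F (wm F) * embB F (wm F)) ∉ Tsub F := by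
  apply not_mem_Tsub_of_21 _ 0 0
  rw [wabab_coe]; simp


/-! ### injectivity on the normal form -/

theorem normal_form_inj (t x y z : F) (s s' : Fˣ)
    (h : embA F (xm t) * qm x y z * (embA F (hm s) * embB F (hm s')) = 1) :
    t = 0 ∧ x = 0 ∧ y = 0 ∧ z = 0 ∧ s = 1 ∧ s' = 1 := by
  have hs := s.ne_zero
  have hs' := s'.ne_zero
  have h0 := congrArg Subtype.val h
  simp only [Submonoid.coe_mul, embA_xm_coe, qm_coe, embA_hm_coe, embB_hm_coe, Submonoid.coe_one,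
    fromBlocks_multiply] at h0
  simp only [Matrix.mul_zero, Matrix.zero_mul, add_zero, zero_add, Matrix.mul_one,
    Matrix.one_mul] at h0
  rw [← fromBlocks_one, fromBlocks_inj] at h0
  obtain ⟨h11, h12, -, -⟩ := h0
  have hs1 : (s : F) = 1 := by
    have := congrFun (congrFun h11 0) 0
    simpa [dg1, Matrix.mul_apply, Fin.sum_univ_two] using this
  have hs'1 : (s' : F) = 1 := by
    have := congrFun (congrFun h11 1) 1
    simpa [dg1, Matrix.mul_apply, Fin.sum_univ_two, hs1] using this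
  have ht : t = 0 := by
    have := congrFun (congrFun h11 0) 1
    simpa [dg1, Matrix.mul_apply, Fin.sum_univ_two, hs1, hs'1] using this
  have hx : x = 0 := by
    have := congrFun (congrFun h12 0) 0
    simpa [dg1, Matrix.mul_apply, Fin.sum_univ_two, hs1, hs'1, ht] using this
  have hy : y = 0 := by
    have := congrFun (congrFun h12 0) 1
    simpa [dg1, Matrix.mul_apply, Fin.sum_univ_two, hs1, hs'1, ht] using this
  have hz : z = 0 := by
    have := congrFun (congrFun h12 1) 1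
    simpa [dg1, Matrix.mul_apply, Fin.sum_univ_two, hs1, hs'1, ht] using this
  exact ⟨ht, hx, hy, hz, Units.ext hs1, Units.ext hs'1⟩

/-! ### generation -/

/-- the subgroup generated by the two root `SL₂`'s -/
def G0 (F : Type*) [Field F] : Subgroup (Matrix.symplecticGroup (Fin 2) F) :=
  Subgroup.closure (Set.range (embA F) ∪ Set.range (embB F))

theorem embA_mem_G0 (m : Matrix.SpecialLinearGroup (Fin 2) F) : embA F m ∈ G0 F :=
  Subgroup.subset_closure (Or.inl ⟨m, rfl⟩)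

theorem embB_mem_G0 (m : Matrix.SpecialLinearGroup (Fin 2) F) : embB F m ∈ G0 F :=
  Subgroup.subset_closure (Or.inr ⟨m, rfl⟩)

omit [Field F] in
theorem vec_eta (v : Fin 2 ⊕ Fin 2 → F) :
    v = Sum.elim ![v (Sum.inl 0), v (Sum.inl 1)] ![v (Sum.inr 0), v (Sum.inr 1)] := by
  ext (i | i) <;> fin_cases i <;> rfl

theorem embB_mulVec (m : Matrix.SpecialLinearGroup (Fin 2) F) (p0 p1 q0 q1 : F) :
    (embB F m : Matrix (Fin 2 ⊕ Fin 2) (Fin 2 ⊕ Fin 2) F) *ᵥ Sum.elim ![p0, p1] ![q0, q1] =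
      Sum.elim ![p0, (m : Matrix (Fin 2) (Fin 2) F) 0 0 * p1 + (m : Matrix (Fin 2) (Fin 2) F) 0 1 * q1]
        ![q0, (m : Matrix (Fin 2) (Fin 2) F) 1 0 * p1 + (m : Matrix (Fin 2) (Fin 2) F) 1 1 * q1] := by
  rw [embB_coe, fromBlocks_mulVec]
  congr 1 <;>
  · ext i
    fin_cases i <;> simp [dg, dg1, Matrix.mulVec, dotProduct, Fin.sum_univ_two] <;> ring

theorem embA_mulVec (m : Matrix.SpecialLinearGroup (Fin 2) F) (p0 p1 q0 q1 : F) :
    (embA F m : Matrix (Fin 2 ⊕ Fin 2) (Fin 2 ⊕ Fin 2) F) *ᵥ Sum.elim ![p0, p1] ![q0, q1] =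
      Sum.elim ![(m : Matrix (Fin 2) (Fin 2) F) 0 0 * p0 + (m : Matrix (Fin 2) (Fin 2) F) 0 1 * p1,
          (m : Matrix (Fin 2) (Fin 2) F) 1 0 * p0 + (m : Matrix (Fin 2) (Fin 2) F) 1 1 * p1]
        ![(m : Matrix (Fin 2) (Fin 2) F) 1 1 * q0 - (m : Matrix (Fin 2) (Fin 2) F) 1 0 * q1,
          -(m : Matrix (Fin 2) (Fin 2) F) 0 1 * q0 + (m : Matrix (Fin 2) (Fin 2) F) 0 0 * q1] := by
  rw [embA_coe', fromBlocks_mulVec]
  congr 1 <;>
  · ext i
    fin_cases i <;> simp [Matrix.mulVec, dotProduct, Fin.sum_univ_two] <;> ring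

/-- `SL₂` is transitive on nonzero vectors -/
theorem exists_sl2_map (x y : F) (h : x ≠ 0 ∨ y ≠ 0) :
    ∃ m : Matrix.SpecialLinearGroup (Fin 2) F,
      (m : Matrix (Fin 2) (Fin 2) F) 0 0 * x + (m : Matrix (Fin 2) (Fin 2) F) 0 1 * y = 1 ∧
      (m : Matrix (Fin 2) (Fin 2) F) 1 0 * x + (m : Matrix (Fin 2) (Fin 2) F) 1 1 * y = 0 := by
  by_cases hx : x = 0
  · have hy : y ≠ 0 := by
      rcases h with h | h
      · exact absurd hx h
      · exact h
    refine ⟨⟨!![0, y⁻¹; -y, 0], by simp [Matrix.det_fin_two, hy]⟩, ?_, ?_⟩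
    · simp [hx, hy]
    · simp [hx]
  · refine ⟨⟨!![x⁻¹, 0; -y, x], by simp [Matrix.det_fin_two, hx]⟩, ?_, ?_⟩
    · simp [hx]
    · simp; ring

/-- the first basis vector -/
def e1 (F : Type*) [Field F] : Fin 2 ⊕ Fin 2 → F := Sum.elim ![1, 0] ![0, 0]

/-- the group generated by the two `SL₂`'s is transitive on nonzero vectors -/
theorem exists_G0_map (v : Fin 2 ⊕ Fin 2 → F) (hv : v ≠ 0) :
    ∃ g ∈ G0 F, (g : Matrix (Fin 2 ⊕ Fin 2) (Fin 2 ⊕ Fin 2) F) *ᵥ v = e1 F := by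
  -- the relation "can be moved to `e₁`"
  have step : ∀ (g : Matrix.symplecticGroup (Fin 2) F), g ∈ G0 F → ∀ v : Fin 2 ⊕ Fin 2 → F,
      (∃ g' ∈ G0 F, (g' : Matrix (Fin 2 ⊕ Fin 2) (Fin 2 ⊕ Fin 2) F) *ᵥ
        ((g : Matrix (Fin 2 ⊕ Fin 2) (Fin 2 ⊕ Fin 2) F) *ᵥ v) = e1 F) →
      ∃ g' ∈ G0 F, (g' : Matrix (Fin 2 ⊕ Fin 2) (Fin 2 ⊕ Fin 2) F) *ᵥ v = e1 F := by
    rintro g hg v ⟨g', hg', e⟩
    refine ⟨g' * g, (G0 F).mul_mem hg' hg, ?_⟩
    rw [Submonoid.coe_mul, ← Matrix.mulVec_mulVec, e]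
  -- vectors `(1, p1, 0, q1)`
  have case1 : ∀ p1 q1 : F, ∃ g ∈ G0 F, (g : Matrix (Fin 2 ⊕ Fin 2) (Fin 2 ⊕ Fin 2) F) *ᵥ
      Sum.elim ![1, p1] ![0, q1] = e1 F := by
    intro p1 q1
    by_cases h : p1 ≠ 0 ∨ q1 ≠ 0
    · obtain ⟨m, hm1, hm2⟩ := exists_sl2_map p1 q1 h
      apply step (embB F m) (embB_mem_G0 m)
      rw [embB_mulVec, hm1, hm2]
      refine ⟨embA F (ym (-1)), embA_mem_G0 _, ?_⟩
      rw [embA_mulVec, ym_coe]
      simp [e1]
    · push Not at h
      refine ⟨1, (G0 F).one_mem, ?_⟩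
      rw [h.1, h.2, Submonoid.coe_one, Matrix.one_mulVec]
      rfl
  -- vectors with `(p1, q1) ≠ 0`
  have case2 : ∀ p0 p1 q0 q1 : F, (p1 ≠ 0 ∨ q1 ≠ 0) →
      ∃ g ∈ G0 F, (g : Matrix (Fin 2 ⊕ Fin 2) (Fin 2 ⊕ Fin 2) F) *ᵥ
        Sum.elim ![p0, p1] ![q0, q1] = e1 F := by
    intro p0 p1 q0 q1 h
    obtain ⟨m, hm1, hm2⟩ := exists_sl2_map p1 q1 h
    apply step (embB F m) (embB_mem_G0 m)
    rw [embB_mulVec, hm1, hm2]
    apply step (embA F (wm F)) (embA_mem_G0 _)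
    rw [embA_mulVec, wm_coe]
    have := case1 (-p0) (-q0)
    simpa using this
  rw [vec_eta v] at hv ⊢
  by_cases h : v (Sum.inl 1) ≠ 0 ∨ v (Sum.inr 1) ≠ 0
  · exact case2 _ _ _ _ h
  · push Not at h
    have h' : v (Sum.inl 0) ≠ 0 ∨ v (Sum.inr 0) ≠ 0 := by
      by_contra hcon
      push Not at hcon
      apply hv
      rw [h.1, h.2, hcon.1, hcon.2]
      ext (i | i) <;> fin_cases i <;> rfl
    apply step (embA F (wm F)) (embA_mem_G0 _)
    rw [embA_mulVec, wm_coe]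
    have := case2 (v (Sum.inl 1)) (-v (Sum.inl 0)) (v (Sum.inr 1)) (-v (Sum.inr 0))
      (by rcases h' with h' | h'
          · exact Or.inl (neg_ne_zero.mpr h')
          · exact Or.inr (neg_ne_zero.mpr h'))
    simpa using this


open Cfsg.Agent.Lib.Helper13_SympTrans Cfsg.Agent.Lib.Helper5_SpPerfect in
theorem transv_e1 (c : F) : transv 2 (e1 F) c = qm c 0 0 := by
  apply Subtype.ext
  show Cfsg.sympTransvection 2 (e1 F) c = _
  rw [qm_coe]
  unfold Cfsg.sympTransvection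
  rw [← fromBlocks_one]
  ext (i | i) (j | j) <;> fin_cases i <;> fin_cases j <;>
    simp [e1, Matrix.vecMulVec, Matrix.J, Matrix.mulVec, dotProduct, Fintype.sum_sum_type,
      Fin.sum_univ_two]

theorem embA_wm_mul_qm (x y z : F) :
    embA F (wm F) * qm x y z = qm z (-y) x * embA F (wm F) := by
  rw [embA_mul_qm, wm_coe]
  congr 2 <;> simp

theorem qm_mem_G0 (c : F) : qm c 0 0 ∈ G0 F := by
  have h := embA_wm_mul_qm c 0 0
  rw [neg_zero, ← embB_xm] at h
  have e : qm c 0 0 = (embA F (wm F))⁻¹ * (embB F (xm c) * embA F (wm F)) := by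
    rw [← h]; group
  rw [e]
  exact (G0 F).mul_mem ((G0 F).inv_mem (embA_mem_G0 _))
    ((G0 F).mul_mem (embB_mem_G0 _) (embA_mem_G0 _))

open Cfsg.Agent.Lib.Helper13_SympTrans Cfsg.Agent.Lib.Helper5_SpPerfect in
/-- the two root `SL₂`'s generate `Sp₄(F)` -/
theorem G0_eq_top : G0 F = ⊤ := by
  rw [eq_top_iff, ← Cfsg.Agent.S0765.result (F := F) 2, Subgroup.closure_le]
  rintro A ⟨w, c, hA⟩
  have hA' : A = transv 2 w c := Subtype.ext hA
  rw [hA']
  by_cases hw : w = 0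
  · have : transv 2 w c = 1 := by
      apply Subtype.ext
      show Cfsg.sympTransvection 2 w c = 1
      unfold Cfsg.sympTransvection
      rw [hw]
      ext i j
      simp [Matrix.vecMulVec]
    rw [this]
    exact (G0 F).one_mem
  · obtain ⟨g, hg, hgw⟩ := exists_G0_map w hw
    have h := conj_transv g w c
    rw [hgw, transv_e1] at h
    have e : transv 2 w c = g⁻¹ * qm c 0 0 * g := by
      rw [← h]; group
    rw [e]
    exact (G0 F).mul_mem ((G0 F).mul_mem ((G0 F).inv_mem hg) (qm_mem_G0 c)) hg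

end Cfsg.Agent.Lib.Helper66_C2
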