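import Mathlib
import Cfsg.Agent.Lib.Helper66_SL3PresA
import Cfsg.Agent.Lib.Helper66_StCalc

set_option autoImplicit false

/-!
The core of the bounded presentation of `SL₃(F)`: a homomorphism `φ : SL₂(F) → Γ` and an element
`c` of order three subject to five further relations and a seed commutator relation give a
Steinberg family in `Γ`.
-/

namespace Cfsg.Agent.Lib.Helper66_SL3Pres

open Matrix Cfsg.Agent.Lib.Helper5_SLPresE Cfsg.Agent.Lib.Helper66_StCalc

variable {F : Type*} [Field F] {Γ : Type*} [Group Γ]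

/-! ### facts inside the image of `SL₂(F)` -/

section Lfacts

variable (φ : Matrix.SpecialLinearGroup (Fin 2) F →* Γ)

theorem φx_add (a b : F) : φ (xm a) * φ (xm b) = φ (xm (a + b)) := by rw [← map_mul, xm_add]

theorem φy_add (a b : F) : φ (ym a) * φ (ym b) = φ (ym (a + b)) := by rw [← map_mul, ym_add]

theorem φx_zero : φ (xm (0 : F)) = 1 := by rw [xm_zero, map_one]

theorem φy_zero : φ (ym (0 : F)) = 1 := by rw [ym_zero, map_one]

theorem φt_x (a : F) : MulAut.conj (φ (wm F)) (φ (xm a)) = φ (ym (-a)) := by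
  rw [MulAut.conj_apply, ← map_inv, ← map_mul, ← map_mul, wm_xm']

theorem φtinv_x (a : F) : MulAut.conj (φ (wm F))⁻¹ (φ (xm a)) = φ (ym (-a)) := by
  rw [MulAut.conj_apply, inv_inv, ← map_inv, ← map_mul, ← map_mul, wm_inv_xm]

theorem φh_x (s : Fˣ) (a : F) :
    MulAut.conj (φ (hm s)) (φ (xm a)) = φ (xm ((s : F) ^ 2 * a)) := by
  rw [MulAut.conj_apply, ← map_inv, ← map_mul, ← map_mul, hm_xm]

theorem φt_h (s : Fˣ) : MulAut.conj (φ (wm F)) (φ (hm s)) = φ (hm s⁻¹) := by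
  rw [MulAut.conj_apply, ← map_inv, ← map_mul, ← map_mul, wm_hm']

theorem φtinv_h (s : Fˣ) : MulAut.conj (φ (wm F))⁻¹ (φ (hm s)) = φ (hm s⁻¹) := by
  rw [MulAut.conj_apply, inv_inv, ← map_inv, ← map_mul, ← map_mul, wm_inv_hm]

theorem φtt : φ (wm F) * φ (wm F) = φ (hm (-1)) := by rw [← map_mul, wm_mul_wm]

theorem φh_pow (s : Fˣ) (m : ℕ) : φ (hm (s ^ m)) = (φ (hm s)) ^ m := by
  rw [hm_pow', map_pow]

theorem φh_pow_x (s : Fˣ) (m : ℕ) (a : F) :
    MulAut.conj ((φ (hm s)) ^ m) (φ (xm a)) = φ (xm (((s : F) ^ 2) ^ m * a)) := by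
  rw [MulAut.conj_apply, ← map_pow, ← map_inv, ← map_mul, ← map_mul, hm_pow_xm]

/-- an element commuting with the torus generator whose action on `x(1)` is known acts on all
`x(a)` by the same factor -/
theorem act_spread (ζ : Fˣ) (gen : ∀ s : Fˣ, ∃ m : ℕ, s = ζ ^ m)
    (sq2 : ∀ a : F, ∃ r s : F, a = r ^ 2 + s ^ 2) (g : Γ) (hg : Commute (φ (hm ζ)) g) (k : F)
    (h1 : MulAut.conj g (φ (xm 1)) = φ (xm k)) (a : F) :
    MulAut.conj g (φ (xm a)) = φ (xm (k * a)) := by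
  have sqcase : ∀ r : F, MulAut.conj g (φ (xm (r ^ 2))) = φ (xm (k * r ^ 2)) := by
    intro r
    by_cases hr : r = 0
    · subst hr
      rw [zero_pow (by norm_num), mul_zero, φx_zero, map_one]
    obtain ⟨m, hmm⟩ := gen (Units.mk0 r hr)
    have hr' : r = (ζ : F) ^ m := by
      have := congrArg (fun x : Fˣ => (x : F)) hmm
      simpa using this
    have e1 : φ (xm (r ^ 2)) = MulAut.conj ((φ (hm ζ)) ^ m) (φ (xm 1)) := by
      rw [φh_pow_x, hr']
      congr 2; ring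
    have hc : Commute g ((φ (hm ζ)) ^ m) := (hg.pow_left m).symm
    rw [e1, ← MulAut.mul_apply, ← map_mul, hc.eq, map_mul, MulAut.mul_apply, h1, φh_pow_x, hr']
    congr 2; ring
  obtain ⟨r, s, rfl⟩ := sq2 a
  rw [← φx_add, map_mul, sqcase, sqcase, φx_add]
  congr 2; ring

theorem act_spread_pow (g : Γ) (k : F)
    (h : ∀ a : F, MulAut.conj g (φ (xm a)) = φ (xm (k * a))) (m : ℕ) (a : F) :
    MulAut.conj (g ^ m) (φ (xm a)) = φ (xm (k ^ m * a)) := by
  induction m generalizing a with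
  | zero => simp
  | succ m ih =>
    rw [pow_succ, map_mul, MulAut.mul_apply, h, ih]
    congr 2; ring

end Lfacts

/-! ### conjugation bookkeeping -/

theorem conj_conj_eq (g t x : Γ) :
    MulAut.conj g (MulAut.conj t x) = MulAut.conj t (MulAut.conj (MulAut.conj t⁻¹ g) x) := by
  simp only [MulAut.conj_apply]
  group

theorem conj_conj_same (c g x : Γ) :
    MulAut.conj (MulAut.conj c g) (MulAut.conj c x) = MulAut.conj c (MulAut.conj g x) := by
  simp only [MulAut.conj_apply]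
  group

theorem conj_c_cinv (c x : Γ) : MulAut.conj c (MulAut.conj c⁻¹ x) = x := by
  simp only [MulAut.conj_apply]
  group

theorem conj_cinv_c (c x : Γ) : MulAut.conj c⁻¹ (MulAut.conj c x) = x := by
  simp only [MulAut.conj_apply]
  group

theorem conj_comm4 (g x y : Γ) : MulAut.conj g (x * y * x⁻¹ * y⁻¹) =
    MulAut.conj g x * MulAut.conj g y * (MulAut.conj g x)⁻¹ * (MulAut.conj g y)⁻¹ := by
  simp only [map_mul, map_inv]

/-! ### the configuration -/

/-- the configuration: a homomorphism from `SL₂(F)`, an element `c`, and the relations -/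
structure Cfg (φ : Matrix.SpecialLinearGroup (Fin 2) F →* Γ) (c : Γ) (ζ : Fˣ) : Prop where
  gen : ∀ s : Fˣ, ∃ m : ℕ, s = ζ ^ m
  sq2 : ∀ a : F, ∃ r s : F, a = r ^ 2 + s ^ 2
  c3 : c * c * c = 1
  tc : φ (wm F) * c⁻¹ * (φ (wm F) * c⁻¹) = 1
  hh : Commute (φ (hm ζ)) (MulAut.conj c (φ (hm ζ)))
  actb : MulAut.conj (MulAut.conj c (φ (hm ζ))) (φ (xm 1)) = φ (xm (ζ : F)⁻¹)
  actd : MulAut.conj (MulAut.conj c⁻¹ (φ (hm ζ))) (φ (xm 1)) = φ (xm (ζ : F)⁻¹)

namespace Cfg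

variable {φ : Matrix.SpecialLinearGroup (Fin 2) F →* Γ} {c : Γ} {ζ : Fˣ} (C : Cfg φ c ζ)
include C

theorem cc : c * c = c⁻¹ := by
  rw [eq_inv_iff_mul_eq_one]
  exact C.c3

theorem conj_cc (x : Γ) : MulAut.conj c (MulAut.conj c x) = MulAut.conj c⁻¹ x := by
  rw [← MulAut.mul_apply, ← map_mul, C.cc]

theorem conj_cinv_cinv (x : Γ) : MulAut.conj c⁻¹ (MulAut.conj c⁻¹ x) = MulAut.conj c x := by
  rw [← MulAut.mul_apply, ← map_mul, ← _root_.mul_inv_rev, C.cc, inv_inv]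

theorem tc1 : φ (wm F) * c⁻¹ = c * (φ (wm F))⁻¹ := by
  have h := C.tc
  rw [mul_eq_one_iff_eq_inv] at h
  rw [h]
  group

theorem tc2 : (φ (wm F))⁻¹ * c = c⁻¹ * φ (wm F) := by
  have h := C.tc1
  calc (φ (wm F))⁻¹ * c = c⁻¹ * (c * (φ (wm F))⁻¹) * c := by group
    _ = c⁻¹ * (φ (wm F) * c⁻¹) * c := by rw [h]
    _ = c⁻¹ * φ (wm F) := by group

theorem conj_t_cinv (x : Γ) : MulAut.conj (φ (wm F)) (MulAut.conj c⁻¹ x) =
    MulAut.conj c (MulAut.conj (φ (wm F))⁻¹ x) := by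
  rw [← MulAut.mul_apply, ← map_mul, C.tc1, map_mul, MulAut.mul_apply]

theorem conj_tinv_c (x : Γ) : MulAut.conj (φ (wm F))⁻¹ (MulAut.conj c x) =
    MulAut.conj c⁻¹ (MulAut.conj (φ (wm F)) x) := by
  rw [← MulAut.mul_apply, ← map_mul, C.tc2, map_mul, MulAut.mul_apply]

theorem hh' : Commute (φ (hm ζ)) (MulAut.conj c⁻¹ (φ (hm ζ))) := by
  have := congrArg (MulAut.conj c⁻¹) C.hh.eq
  simp only [map_mul, conj_cinv_c] at this
  exact this.symm

/-- `c h(s) c⁻¹` acts on `x(a)` by `s⁻¹` -/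
theorem BX (s : Fˣ) (a : F) :
    MulAut.conj (MulAut.conj c (φ (hm s))) (φ (xm a)) = φ (xm ((s : F)⁻¹ * a)) := by
  obtain ⟨m, rfl⟩ := C.gen s
  have h1 := act_spread φ ζ C.gen C.sq2 _ C.hh _ C.actb
  rw [φh_pow, map_pow, act_spread_pow φ _ _ h1]
  congr 2
  simp

/-- `c⁻¹ h(s) c` acts on `x(a)` by `s⁻¹` -/
theorem DX (s : Fˣ) (a : F) :
    MulAut.conj (MulAut.conj c⁻¹ (φ (hm s))) (φ (xm a)) = φ (xm ((s : F)⁻¹ * a)) := by
  obtain ⟨m, rfl⟩ := C.gen s
  have h1 := act_spread φ ζ C.gen C.sq2 _ C.hh' _ C.actd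
  rw [φh_pow, map_pow, act_spread_pow φ _ _ h1]
  congr 2
  simp

/-- `c h(s) c⁻¹` acts on `y(a)` by `s` -/
theorem BY (s : Fˣ) (a : F) :
    MulAut.conj (MulAut.conj c (φ (hm s))) (φ (ym a)) = φ (ym ((s : F) * a)) := by
  have e : φ (ym a) = MulAut.conj (φ (wm F)) (φ (xm (-a))) := by rw [φt_x, neg_neg]
  rw [e, conj_conj_eq, C.conj_tinv_c, φt_h, C.DX, φt_x]
  congr 2
  simp

/-- `c⁻¹ h(s) c` acts on `y(a)` by `s` -/
theorem DY (s : Fˣ) (a : F) :
    MulAut.conj (MulAut.conj c⁻¹ (φ (hm s))) (φ (ym a)) = φ (ym ((s : F) * a)) := by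
  have e : φ (ym a) = MulAut.conj (φ (wm F))⁻¹ (φ (xm (-a))) := by rw [φtinv_x, neg_neg]
  rw [e, conj_conj_eq, inv_inv, C.conj_t_cinv, φtinv_h, C.BX, φtinv_x]
  congr 2
  simp

end Cfg

/-! ### the seed relation and its torus orbit -/

/-- the relation `[x₀₁(a), x₁₂(b)] = x₀₂(r)` -/
def CRx (φ : Matrix.SpecialLinearGroup (Fin 2) F →* Γ) (c : Γ) (a b r : F) : Prop :=
  φ (xm a) * MulAut.conj c (φ (xm b)) * (φ (xm a))⁻¹ * (MulAut.conj c (φ (xm b)))⁻¹ =
    MulAut.conj c⁻¹ (φ (ym r))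

namespace Cfg

variable {φ : Matrix.SpecialLinearGroup (Fin 2) F →* Γ} {c : Γ} {ζ : Fˣ} (C : Cfg φ c ζ)
include C

theorem A_x12 (s : Fˣ) (b : F) : MulAut.conj (φ (hm s)) (MulAut.conj c (φ (xm b))) =
    MulAut.conj c (φ (xm ((s : F)⁻¹ * b))) := by
  rw [conj_conj_eq, C.DX]

theorem A_x02 (s : Fˣ) (r : F) : MulAut.conj (φ (hm s)) (MulAut.conj c⁻¹ (φ (ym r))) =
    MulAut.conj c⁻¹ (φ (ym ((s : F) * r))) := by
  rw [conj_conj_eq, inv_inv, C.BY]

omit C in
theorem B_x12 (s : Fˣ) (b : F) :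
    MulAut.conj (MulAut.conj c (φ (hm s))) (MulAut.conj c (φ (xm b))) =
      MulAut.conj c (φ (xm ((s : F) ^ 2 * b))) := by
  rw [conj_conj_same, φh_x]

theorem B_x02 (s : Fˣ) (r : F) :
    MulAut.conj (MulAut.conj c (φ (hm s))) (MulAut.conj c⁻¹ (φ (ym r))) =
      MulAut.conj c⁻¹ (φ (ym ((s : F) * r))) := by
  rw [conj_conj_eq, inv_inv, C.conj_cc, C.DY]

theorem stepB (s : Fˣ) {a b r : F} (h : CRx φ c a b r) :
    CRx φ c ((s : F)⁻¹ * a) ((s : F) ^ 2 * b) ((s : F) * r) := by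
  unfold CRx at *
  have := congrArg (MulAut.conj (MulAut.conj c (φ (hm s)))) h
  rw [conj_comm4] at this
  rwa [C.BX, B_x12, C.B_x02] at this

theorem stepA (s : Fˣ) {a b r : F} (h : CRx φ c a b r) :
    CRx φ c ((s : F) ^ 2 * a) ((s : F)⁻¹ * b) ((s : F) * r) := by
  unfold CRx at *
  have := congrArg (MulAut.conj (φ (hm s))) h
  rw [conj_comm4] at this
  rwa [φh_x, C.A_x12, C.A_x02] at this

/-- the torus orbit of a seed relation -/
theorem orbit {e : F} (h : CRx φ c 1 e e) (b g : F) (hb : b ≠ 0) (hg : g ≠ 0) :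
    CRx φ c (b * g ^ 3) (b * e) (b * g ^ 3 * (b * e)) := by
  have h1 := C.stepB (Units.mk0 (b * g) (mul_ne_zero hb hg)) h
  have h2 := C.stepA (Units.mk0 (b * g ^ 2) (mul_ne_zero hb (pow_ne_zero _ hg))) h1
  simp only [Units.val_mk0] at h2
  have e1 : (b * g ^ 2) ^ 2 * ((b * g)⁻¹ * 1) = b * g ^ 3 := by field_simp
  have e2 : (b * g ^ 2)⁻¹ * ((b * g) ^ 2 * e) = b * e := by field_simp
  have e3 : b * g ^ 2 * (b * g * e) = b * g ^ 3 * (b * e) := by ring
  rwa [e1, e2, e3] at h2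

end Cfg

/-! ### spreading the seed relations -/

theorem famY_add (φ : Matrix.SpecialLinearGroup (Fin 2) F →* Γ) (c : Γ) (a b : F) :
    MulAut.conj c (φ (xm a)) * MulAut.conj c (φ (xm b)) = MulAut.conj c (φ (xm (a + b))) := by
  rw [← map_mul, φx_add]

theorem famZ_add (φ : Matrix.SpecialLinearGroup (Fin 2) F →* Γ) (c : Γ) (a b : F) :
    MulAut.conj c⁻¹ (φ (ym a)) * MulAut.conj c⁻¹ (φ (ym b)) =
      MulAut.conj c⁻¹ (φ (ym (a + b))) := by
  rw [← map_mul, φy_add]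

/-- the outcome of the spreading: the three families of relations -/
structure Spread (φ : Matrix.SpecialLinearGroup (Fin 2) F →* Γ) (c : Γ) : Prop where
  R : ∀ a r : F, Commute (φ (xm a)) (MulAut.conj c⁻¹ (φ (ym r)))
  Cc : ∀ b r : F, Commute (MulAut.conj c (φ (xm b))) (MulAut.conj c⁻¹ (φ (ym r)))
  B2a : ∀ a b : F, CRx φ c a b (a * b)

namespace Cfg

variable {φ : Matrix.SpecialLinearGroup (Fin 2) F →* Γ} {c : Γ} {ζ : Fˣ} (C : Cfg φ c ζ)

include C

/-- one seed suffices when every element is a sum of cubes -/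
theorem spreadII (cubes : ∀ a : F, a ∈ Cubes F) (seed : CRx φ c 1 1 1) : Spread φ c := by
  have hS : ∀ b g : F, b ≠ 0 → g ≠ 0 →
      CR (fun a => φ (xm a)) (fun b => MulAut.conj c (φ (xm b)))
        (fun r => MulAut.conj c⁻¹ (φ (ym r))) (b * g ^ 3) b := by
    intro b g hb hg
    have := C.orbit seed b g hb hg
    rw [mul_one] at this
    exact this
  obtain ⟨h1, h2, h3⟩ := regII (φx_add φ) (famY_add φ c) (famZ_add φ c) cubes hS
  exact ⟨h1, h2, h3⟩

/-- three seeds suffice in general -/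
theorem spreadI (seeds : ∀ i : ℕ, i < 3 → CRx φ c 1 ((ζ : F) ^ i) ((ζ : F) ^ i)) :
    Spread φ c := by
  have hS : ∀ a b : F, a ≠ 0 → b ≠ 0 →
      CR (fun a => φ (xm a)) (fun b => MulAut.conj c (φ (xm b)))
        (fun r => MulAut.conj c⁻¹ (φ (ym r))) a b := by
    intro a b ha hb
    obtain ⟨m, hm⟩ := C.gen (Units.mk0 a ha / Units.mk0 b hb)
    have hab : a = b * (ζ : F) ^ m := by
      have := congrArg (fun x : Fˣ => (x : F)) hm
      simp only [Units.val_div_eq_div_val, Units.val_mk0, Units.val_pow_eq_pow_val] at this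
      rw [← this]; field_simp
    set i := (3 - m % 3) % 3 with hi
    have hi3 : i < 3 := Nat.mod_lt _ (by norm_num)
    obtain ⟨k, hk⟩ : ∃ k, m + i = 3 * k := by
      have : (m + i) % 3 = 0 := by omega
      exact ⟨(m + i) / 3, by omega⟩
    have hz : (ζ : F) ≠ 0 := ζ.ne_zero
    have hb' : b / (ζ : F) ^ i ≠ 0 := div_ne_zero hb (pow_ne_zero _ hz)
    have hg : (ζ : F) ^ k ≠ 0 := pow_ne_zero _ hz
    have := C.orbit (seeds i hi3) (b / (ζ : F) ^ i) ((ζ : F) ^ k) hb' hg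
    have e0 : ((ζ : F) ^ k) ^ 3 = (ζ : F) ^ m * (ζ : F) ^ i := by
      rw [← pow_mul, ← pow_add, mul_comm k 3, hk]
    have e1 : b / (ζ : F) ^ i * ((ζ : F) ^ k) ^ 3 = a := by
      rw [e0, hab]; field_simp
    have e2 : b / (ζ : F) ^ i * (ζ : F) ^ i = b := by field_simp
    rw [e1, e2] at this
    exact this
  obtain ⟨h1, h2, h3⟩ := regI (φx_add φ) (famY_add φ c) (famZ_add φ c) hS
  exact ⟨h1, h2, h3⟩

end Cfg

/-! ### the Weyl element `c t c⁻¹` and the second family of commutator relations -/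

theorem conj_conj_exp (c g x : Γ) :
    MulAut.conj (MulAut.conj c g) x = MulAut.conj c (MulAut.conj g (MulAut.conj c⁻¹ x)) := by
  simp only [MulAut.conj_apply]
  group

namespace Cfg

variable {φ : Matrix.SpecialLinearGroup (Fin 2) F →* Γ} {c : Γ} {ζ : Fˣ} (C : Cfg φ c ζ)
include C

/-- `t` maps `x₂₀(a)` to `x₂₁(-a)` -/
theorem t_x20 (a : F) : MulAut.conj (φ (wm F)) (MulAut.conj c⁻¹ (φ (xm a))) =
    MulAut.conj c (φ (ym (-a))) := by
  rw [C.conj_t_cinv, φtinv_x]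

/-- `t` maps `x₂₁(r)` to `x₂₀(r)` -/
theorem t_x21 (r : F) : MulAut.conj (φ (wm F)) (MulAut.conj c (φ (ym r))) =
    MulAut.conj c⁻¹ (φ (xm r)) := by
  have e : MulAut.conj c (φ (ym r)) =
      MulAut.conj (φ (wm F)) (MulAut.conj c⁻¹ (φ (xm (-r)))) := by
    rw [C.t_x20, neg_neg]
  rw [e, ← MulAut.mul_apply, ← map_mul, φtt, conj_conj_eq, inv_inv, C.BX]
  congr 3
  simp

theorem W_x01 (a : F) : MulAut.conj (MulAut.conj c (φ (wm F))) (φ (xm a)) =
    MulAut.conj c⁻¹ (φ (ym (-a))) := by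
  rw [conj_conj_exp, C.t_x20, C.conj_cc]

omit C in
theorem W_x12 (b : F) : MulAut.conj (MulAut.conj c (φ (wm F))) (MulAut.conj c (φ (xm b))) =
    MulAut.conj c (φ (ym (-b))) := by
  rw [conj_conj_same, φt_x]

theorem W_x02 (r : F) : MulAut.conj (MulAut.conj c (φ (wm F))) (MulAut.conj c⁻¹ (φ (ym r))) =
    φ (xm r) := by
  rw [conj_conj_exp, C.conj_cinv_cinv, C.t_x21, conj_c_cinv]

/-- the second family: `[x₀₂(a), x₂₁(b)] = x₀₁(a b)` -/
theorem B2b (S : Spread φ c) (a b : F) :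
    MulAut.conj c⁻¹ (φ (ym a)) * MulAut.conj c (φ (ym b)) * (MulAut.conj c⁻¹ (φ (ym a)))⁻¹ *
      (MulAut.conj c (φ (ym b)))⁻¹ = φ (xm (a * b)) := by
  have h := S.B2a (-a) (-b)
  unfold CRx at h
  have := congrArg (MulAut.conj (MulAut.conj c (φ (wm F)))) h
  rw [conj_comm4, C.W_x01, W_x12, C.W_x02, neg_neg, neg_neg, neg_mul_neg] at this
  exact this

end Cfg

/-! ### the Steinberg family -/

/-- the root elements -/
def rx (φ : Matrix.SpecialLinearGroup (Fin 2) F →* Γ) (c : Γ) (i j : Fin 3) (a : F) : Γ :=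
  match i, j with
  | 0, 1 => φ (xm a)
  | 1, 2 => MulAut.conj c (φ (xm a))
  | 2, 0 => MulAut.conj c⁻¹ (φ (xm a))
  | 1, 0 => φ (ym a)
  | 2, 1 => MulAut.conj c (φ (ym a))
  | 0, 2 => MulAut.conj c⁻¹ (φ (ym a))
  | _, _ => 1

section rxlemmas

variable (φ : Matrix.SpecialLinearGroup (Fin 2) F →* Γ) (c : Γ)

theorem rx_01 (a : F) : rx φ c 0 1 a = φ (xm a) := rfl
theorem rx_12 (a : F) : rx φ c 1 2 a = MulAut.conj c (φ (xm a)) := rfl
theorem rx_20 (a : F) : rx φ c 2 0 a = MulAut.conj c⁻¹ (φ (xm a)) := rfl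
theorem rx_10 (a : F) : rx φ c 1 0 a = φ (ym a) := rfl
theorem rx_21 (a : F) : rx φ c 2 1 a = MulAut.conj c (φ (ym a)) := rfl
theorem rx_02 (a : F) : rx φ c 0 2 a = MulAut.conj c⁻¹ (φ (ym a)) := rfl
theorem rx_00 (a : F) : rx φ c 0 0 a = 1 := rfl
theorem rx_11 (a : F) : rx φ c 1 1 a = 1 := rfl
theorem rx_22 (a : F) : rx φ c 2 2 a = 1 := rfl

theorem rx_add (i j : Fin 3) (a b : F) : rx φ c i j a * rx φ c i j b = rx φ c i j (a + b) := by
  fin_cases i <;> fin_cases j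
  · exact one_mul 1
  · exact φx_add φ a b
  · exact famZ_add φ c a b
  · exact φy_add φ a b
  · exact one_mul 1
  · exact famY_add φ c a b
  · show MulAut.conj c⁻¹ (φ (xm a)) * MulAut.conj c⁻¹ (φ (xm b)) = MulAut.conj c⁻¹ (φ (xm (a + b)))
    rw [← map_mul, φx_add]
  · show MulAut.conj c (φ (ym a)) * MulAut.conj c (φ (ym b)) = MulAut.conj c (φ (ym (a + b)))
    rw [← map_mul, φy_add]
  · exact one_mul 1

end rxlemmas

namespace Cfg

variable {φ : Matrix.SpecialLinearGroup (Fin 2) F →* Γ} {c : Γ} {ζ : Fˣ} (C : Cfg φ c ζ)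
include C

theorem rx_shift (i j : Fin 3) (a : F) :
    MulAut.conj c (rx φ c i j a) = rx φ c (i + 1) (j + 1) a := by
  fin_cases i <;> fin_cases j
  · exact map_one _
  · rfl
  · exact conj_c_cinv c _
  · rfl
  · exact map_one _
  · exact C.conj_cc _
  · exact conj_c_cinv c _
  · exact C.conj_cc _
  · exact map_one _

end Cfg

namespace Cfg

variable {φ : Matrix.SpecialLinearGroup (Fin 2) F →* Γ} {c : Γ} {ζ : Fˣ} (C : Cfg φ c ζ)
include C

/-- commutation of two root subgroups -/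
def Pc (φ : Matrix.SpecialLinearGroup (Fin 2) F →* Γ) (c : Γ) (i j k l : Fin 3) : Prop :=
  ∀ t u : F, rx φ c i j t * rx φ c k l u = rx φ c k l u * rx φ c i j t

/-- the commutator relation of three root subgroups -/
def Pd (φ : Matrix.SpecialLinearGroup (Fin 2) F →* Γ) (c : Γ) (i j l : Fin 3) : Prop :=
  ∀ t u : F, rx φ c i j t * rx φ c j l u * (rx φ c i j t)⁻¹ * (rx φ c j l u)⁻¹ = rx φ c i l (t * u)

theorem shiftPc {i j k l : Fin 3} (h : Pc φ c i j k l) :
    Pc φ c (i + 1) (j + 1) (k + 1) (l + 1) := by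
  intro t u
  have := congrArg (MulAut.conj c) (h t u)
  rw [map_mul, map_mul, C.rx_shift, C.rx_shift] at this
  exact this

theorem shiftPd {i j l : Fin 3} (h : Pd φ c i j l) : Pd φ c (i + 1) (j + 1) (l + 1) := by
  intro t u
  have := congrArg (MulAut.conj c) (h t u)
  rw [conj_comm4, C.rx_shift, C.rx_shift, C.rx_shift] at this
  exact this

omit C in
theorem Pc_symm {i j k l : Fin 3} (h : Pc φ c i j k l) : Pc φ c k l i j :=
  fun t u => (h u t).symm

omit C in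
theorem Pc_same (i j : Fin 3) : Pc φ c i j i j := by
  intro t u
  rw [rx_add, rx_add, add_comm]

/-- the root elements form a Steinberg family -/
theorem stRelAB (S : Spread φ c) : StRelAB (rx φ c) := by
  have R0 : Pc φ c 0 1 0 2 := fun t u => (S.R t u).eq
  have R1 : Pc φ c 1 2 1 0 := C.shiftPc R0
  have R2 : Pc φ c 2 0 2 1 := C.shiftPc R1
  have C0 : Pc φ c 1 2 0 2 := fun t u => (S.Cc t u).eq
  have C1 : Pc φ c 2 0 1 0 := C.shiftPc C0
  have C2 : Pc φ c 0 1 2 1 := C.shiftPc C1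
  have D0 : Pd φ c 0 1 2 := fun t u => S.B2a t u
  have D1 : Pd φ c 1 2 0 := C.shiftPd D0
  have D2 : Pd φ c 2 0 1 := C.shiftPd D1
  have E0 : Pd φ c 0 2 1 := fun t u => C.B2b S t u
  have E1 : Pd φ c 1 0 2 := C.shiftPd E0
  have E2 : Pd φ c 2 1 0 := C.shiftPd E1
  refine ⟨?_, rx_add φ c, ?_, ?_⟩
  · intro i t
    fin_cases i <;> rfl
  · intro i j k l t u hij hkl hil hjk
    fin_cases i <;> fin_cases j <;> fin_cases k <;> fin_cases l <;>
      first
      | exact absurd rfl hij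
      | exact absurd rfl hkl
      | exact absurd rfl hil
      | exact absurd rfl hjk
      | exact Pc_same _ _ t u
      | exact R0 t u
      | exact R1 t u
      | exact R2 t u
      | exact Pc_symm R0 t u
      | exact Pc_symm R1 t u
      | exact Pc_symm R2 t u
      | exact C0 t u
      | exact C1 t u
      | exact C2 t u
      | exact Pc_symm C0 t u
      | exact Pc_symm C1 t u
      | exact Pc_symm C2 t u
  · intro i j l t u hij hjl hil
    fin_cases i <;> fin_cases j <;> fin_cases l <;>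
      first
      | exact absurd rfl hij
      | exact absurd rfl hjl
      | exact absurd rfl hil
      | exact D0 t u
      | exact D1 t u
      | exact D2 t u
      | exact E0 t u
      | exact E1 t u
      | exact E2 t u

end Cfg

end Cfsg.Agent.Lib.Helper66_SL3Pres
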