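import Mathlib
import Cfsg.Agent.Lib.Helper66_SL3PresB
import Cfsg.Agent.Lib.Helper66_C2Abs

set_option autoImplicit false

/-!
The core of the bounded presentation of `Sp₄(F)` (helper66): two homomorphisms
`φa, φb : SL₂(F) → Γ` (short and long simple root) subject to twelve relations give a system of
root elements of type `C₂` in `Γ`.
-/

namespace Cfsg.Agent.Lib.Helper66_C2

open Matrix Cfsg.Agent.Lib.Helper5_SLPresE Cfsg.Agent.Lib.Helper66_SL3Pres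

variable {F : Type*} [Field F] {Γ : Type*} [Group Γ]

/-! ### conjugation bookkeeping -/

/-- conjugation by the inverse of an element whose square commutes with `x` -/
theorem conj_inv_eq_conj {n x : Γ} (h : Commute (n * n) x) :
    MulAut.conj n⁻¹ x = MulAut.conj n x := by
  simp only [MulAut.conj_apply, inv_inv]
  have e : n⁻¹ * x * n = n * ((n * n)⁻¹ * x * (n * n)) * n⁻¹ := by group
  have e2 : (n * n)⁻¹ * x * (n * n) = x := by rw [mul_assoc, ← h.eq, inv_mul_cancel_left]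
  rw [e, e2]

theorem conj_mul' (g h x : Γ) : MulAut.conj (g * h) x = MulAut.conj g (MulAut.conj h x) := by
  rw [map_mul, MulAut.mul_apply]

theorem commute_conj_iff (g x y : Γ) :
    Commute (MulAut.conj g x) (MulAut.conj g y) ↔ Commute x y := by
  unfold Commute SemiconjBy
  rw [← map_mul, ← map_mul]
  exact (MulAut.conj g).injective.eq_iff

theorem conj_eq_self_iff (g x : Γ) : MulAut.conj g x = x ↔ Commute g x := by
  rw [MulAut.conj_apply, mul_inv_eq_iff_eq_mul]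
  rfl

/-- the matrix identity behind the rank one Bruhat decomposition -/
theorem ym_eq (t : F) (ht : t ≠ 0) :
    ym t = xm t⁻¹ * wm F * hm (Units.mk0 (-t) (neg_ne_zero.mpr ht)) * xm t⁻¹ := by
  apply Subtype.ext
  simp only [Matrix.SpecialLinearGroup.coe_mul, xm_coe, ym_coe, wm_coe, hm_coe, Units.val_mk0]
  ext i j
  fin_cases i <;> fin_cases j <;> simp [Matrix.mul_apply, Fin.sum_univ_two] <;> field_simp
  ring

/-! ### the root elements of the non-simple positive roots -/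

/-- the root elements of `α + β` -/
def XC (φa φb : Matrix.SpecialLinearGroup (Fin 2) F →* Γ) (t : F) : Γ :=
  MulAut.conj (φb (wm F))⁻¹ (φa (xm t))

/-- the root elements of `2α + β` -/
def XD (φa φb : Matrix.SpecialLinearGroup (Fin 2) F →* Γ) (t : F) : Γ :=
  MulAut.conj (φa (wm F))⁻¹ (φb (xm t))

theorem XC_add (φa φb : Matrix.SpecialLinearGroup (Fin 2) F →* Γ) (t u : F) :
    XC φa φb t * XC φa φb u = XC φa φb (t + u) := by
  unfold XC; rw [← map_mul, φx_add]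

theorem XD_add (φa φb : Matrix.SpecialLinearGroup (Fin 2) F →* Γ) (t u : F) :
    XD φa φb t * XD φa φb u = XD φa φb (t + u) := by
  unfold XD; rw [← map_mul, φx_add]

/-! ### the configuration -/

/-- the configuration: two homomorphisms from `SL₂(F)` and the twelve relations -/
structure C2Cfg (φa φb : Matrix.SpecialLinearGroup (Fin 2) F →* Γ) (ζ : Fˣ) : Prop where
  gen : ∀ s : Fˣ, ∃ m : ℕ, s = ζ ^ m
  sq2 : ∀ a : F, ∃ r s : F, a = r ^ 2 + s ^ 2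
  hh : Commute (φa (hm ζ)) (φb (hm ζ))
  nb_ha : MulAut.conj (φb (wm F)) (φa (hm ζ)) = φa (hm ζ) * φb (hm ζ) * φb (hm ζ)
  na_hb : MulAut.conj (φa (wm F)) (φb (hm ζ)) = φa (hm ζ) * φb (hm ζ)
  hb_xa : MulAut.conj (φb (hm ζ)) (φa (xm 1)) = φa (xm (ζ : F)⁻¹)
  ha_xb : MulAut.conj (φa (hm ζ)) (φb (xm 1)) = MulAut.conj (φb (hm ζ))⁻¹ (φb (xm 1))
  w4 : (φa (wm F) * φb (wm F)) ^ 4 = φa (wm F) * φa (wm F)
  s1 : MulAut.conj (MulAut.conj (φb (wm F)) (φa (wm F))) (φa (xm 1)) = (φa (xm 1))⁻¹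
  s2 : MulAut.conj (MulAut.conj (φa (wm F)) (φb (wm F))) (φb (xm 1)) = φb (xm 1)
  c1 : Commute (φb (xm 1)) (XD φa φb 1)
  c2 : Commute (φb (xm 1)) (XC φa φb 1)
  c3 : φa (xm 1) * XC φa φb 1 * (φa (xm 1))⁻¹ * (XC φa φb 1)⁻¹ = XD φa φb 1 * XD φa φb 1
  c4 : φa (xm 1) * φb (xm 1) * (φa (xm 1))⁻¹ * (φb (xm 1))⁻¹ = XC φa φb 1 * XD φa φb 1

namespace C2Cfg

variable {φa φb : Matrix.SpecialLinearGroup (Fin 2) F →* Γ} {ζ : Fˣ} (C : C2Cfg φa φb ζ)
include C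

/-! ### the torus -/

theorem hh_all (s s' : Fˣ) : Commute (φa (hm s)) (φb (hm s')) := by
  obtain ⟨m, rfl⟩ := C.gen s
  obtain ⟨m', rfl⟩ := C.gen s'
  rw [φh_pow, φh_pow]
  exact C.hh.pow_pow m m'

theorem nb_ha_all (s : Fˣ) :
    MulAut.conj (φb (wm F)) (φa (hm s)) = φa (hm s) * φb (hm (s ^ 2)) := by
  obtain ⟨m, rfl⟩ := C.gen s
  have e1 : φa (hm ζ) * φb (hm ζ) * φb (hm ζ) = φa (hm ζ) * (φb (hm ζ)) ^ 2 := by
    rw [mul_assoc, ← pow_two]
  have e2 : φb (hm ((ζ ^ m) ^ 2)) = ((φb (hm ζ)) ^ 2) ^ m := by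
    rw [← pow_mul, ← pow_mul, φh_pow, mul_comm]
  rw [e2, φh_pow φa, map_pow, C.nb_ha, e1, (C.hh.pow_right 2).mul_pow]

theorem na_hb_all (s : Fˣ) :
    MulAut.conj (φa (wm F)) (φb (hm s)) = φa (hm s) * φb (hm s) := by
  obtain ⟨m, rfl⟩ := C.gen s
  rw [φh_pow φb, map_pow, C.na_hb, φh_pow φa, C.hh.mul_pow]

omit C in
theorem φhm_mul (φ : Matrix.SpecialLinearGroup (Fin 2) F →* Γ) (s s' : Fˣ) :
    φ (hm s) * φ (hm s') = φ (hm (s * s')) := by
  rw [← map_mul, ← hm_mul]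

omit C in
theorem φhm_comm (φ : Matrix.SpecialLinearGroup (Fin 2) F →* Γ) (s s' : Fˣ) :
    Commute (φ (hm s)) (φ (hm s')) := by
  show φ (hm s) * φ (hm s') = φ (hm s') * φ (hm s)
  rw [φhm_mul, φhm_mul, mul_comm]

theorem nbinv_ha_all (s : Fˣ) :
    MulAut.conj (φb (wm F))⁻¹ (φa (hm s)) = φa (hm s) * φb (hm (s ^ 2)) := by
  rw [conj_inv_eq_conj, C.nb_ha_all]
  rw [φtt]
  exact (C.hh_all s (-1)).symm

theorem nainv_hb_all (s : Fˣ) :
    MulAut.conj (φa (wm F))⁻¹ (φb (hm s)) = φa (hm s) * φb (hm s) := by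
  rw [conj_inv_eq_conj, C.na_hb_all]
  rw [φtt]
  exact C.hh_all (-1) s

/-! ### the torus action on the simple root elements -/

theorem hb_xa_all (s : Fˣ) (t : F) :
    MulAut.conj (φb (hm s)) (φa (xm t)) = φa (xm ((s : F)⁻¹ * t)) := by
  obtain ⟨m, rfl⟩ := C.gen s
  have h1 := act_spread φa ζ C.gen C.sq2 _ C.hh _ C.hb_xa
  rw [φh_pow, act_spread_pow φa _ _ h1]
  congr 2
  simp

theorem ha_xb_all (s : Fˣ) (t : F) :
    MulAut.conj (φa (hm s)) (φb (xm t)) = φb (xm (((s : F)⁻¹) ^ 2 * t)) := by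
  obtain ⟨m, rfl⟩ := C.gen s
  have h0 : MulAut.conj (φa (hm ζ)) (φb (xm 1)) = φb (xm (((ζ : F)⁻¹) ^ 2)) := by
    rw [C.ha_xb, ← map_inv, ← hm_inv', φh_x]
    congr 2
    simp
  have h1 := act_spread φb ζ C.gen C.sq2 _ C.hh.symm _ h0
  rw [φh_pow, act_spread_pow φb _ _ h1]
  congr 2
  simp only [Units.val_pow_eq_pow_val]
  ring

/-! ### the torus action on the other positive root elements -/

theorem ha_xc (s : Fˣ) (t : F) : MulAut.conj (φa (hm s)) (XC φa φb t) = XC φa φb t := by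
  unfold XC
  rw [conj_conj_eq, inv_inv, C.nb_ha_all, conj_mul', C.hb_xa_all, φh_x]
  congr 3
  have := s.ne_zero
  simp only [Units.val_pow_eq_pow_val]
  field_simp

theorem hb_xc (s : Fˣ) (t : F) :
    MulAut.conj (φb (hm s)) (XC φa φb t) = XC φa φb ((s : F) * t) := by
  unfold XC
  rw [conj_conj_eq, inv_inv, φt_h, C.hb_xa_all]
  congr 3
  simp

theorem ha_xd (s : Fˣ) (t : F) :
    MulAut.conj (φa (hm s)) (XD φa φb t) = XD φa φb ((s : F) ^ 2 * t) := by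
  unfold XD
  rw [conj_conj_eq, inv_inv, φt_h, C.ha_xb_all]
  congr 3
  simp

theorem hb_xd (s : Fˣ) (t : F) : MulAut.conj (φb (hm s)) (XD φa φb t) = XD φa φb t := by
  unfold XD
  rw [conj_conj_eq, inv_inv, C.na_hb_all, conj_mul', φh_x, C.ha_xb_all]
  congr 3
  have := s.ne_zero
  field_simp


/-! ### the stabilizer relations -/

theorem comm_ha_m1 (s : Fˣ) :
    Commute (MulAut.conj (φb (wm F)) (φa (wm F))) (φa (hm s)) := by
  rw [← conj_eq_self_iff, conj_conj_exp, C.nbinv_ha_all, map_mul, φt_h, C.na_hb_all, ← mul_assoc,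
    φhm_mul, map_mul, C.nb_ha_all, φt_h, mul_assoc, φhm_mul]
  have e1 : s⁻¹ * s ^ 2 = s := by
    rw [pow_two, ← mul_assoc, inv_mul_cancel, one_mul]
  have e2 : s ^ 2 * (s ^ 2)⁻¹ = 1 := mul_inv_cancel _
  rw [e1, e2, hm_one, map_one, mul_one]

theorem s1_all (t : F) :
    MulAut.conj (MulAut.conj (φb (wm F)) (φa (wm F))) (φa (xm t)) = φa (xm (-t)) := by
  have h0 : MulAut.conj (MulAut.conj (φb (wm F)) (φa (wm F))) (φa (xm 1)) = φa (xm (-1)) := by
    rw [C.s1, ← map_inv]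
    congr 1
    rw [inv_eq_iff_mul_eq_one, xm_add, add_neg_cancel, xm_zero]
  have := act_spread φa ζ C.gen C.sq2 _ (C.comm_ha_m1 ζ).symm _ h0 t
  rw [this]
  congr 2
  ring

theorem comm_hb_m2 (s : Fˣ) :
    Commute (MulAut.conj (φa (wm F)) (φb (wm F))) (φb (hm s)) := by
  rw [← conj_eq_self_iff, conj_conj_exp, C.nainv_hb_all, map_mul, C.nb_ha_all, φt_h, mul_assoc,
    φhm_mul, map_mul, φt_h, C.na_hb_all, ← mul_assoc, φhm_mul]
  have e1 : s ^ 2 * s⁻¹ = s := by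
    rw [pow_two, mul_assoc, mul_inv_cancel, mul_one]
  rw [e1, inv_mul_cancel, hm_one, map_one, one_mul]

theorem s2_all (t : F) :
    MulAut.conj (MulAut.conj (φa (wm F)) (φb (wm F))) (φb (xm t)) = φb (xm t) := by
  have h0 : MulAut.conj (MulAut.conj (φa (wm F)) (φb (wm F))) (φb (xm 1)) = φb (xm (1 : F)) :=
    C.s2
  have := act_spread φb ζ C.gen C.sq2 _ (C.comm_hb_m2 ζ).symm _ h0 t
  rw [this, one_mul]

/-! ### the Weyl elements and the root elements -/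

omit C in
theorem na_xd (t : F) : MulAut.conj (φa (wm F)) (XD φa φb t) = φb (xm t) := by
  unfold XD; rw [conj_c_cinv]

theorem na_xb (t : F) : MulAut.conj (φa (wm F)) (φb (xm t)) = XD φa φb t := by
  have e : φb (xm t) = MulAut.conj (φa (wm F)) (XD φa φb t) := (na_xd t).symm
  rw [e, ← conj_mul', φtt, C.ha_xd]
  congr 1
  simp

theorem na_xc (t : F) : MulAut.conj (φa (wm F)) (XC φa φb t) = XC φa φb (-t) := by
  unfold XC
  rw [conj_conj_eq, inv_inv, C.s1_all]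

omit C in
theorem nb_xc (t : F) : MulAut.conj (φb (wm F)) (XC φa φb t) = φa (xm t) := by
  unfold XC; rw [conj_c_cinv]

theorem nb_xa (t : F) : MulAut.conj (φb (wm F)) (φa (xm t)) = XC φa φb (-t) := by
  have e : φa (xm t) = MulAut.conj (φb (wm F)) (XC φa φb t) := (nb_xc t).symm
  rw [e, ← conj_mul', φtt, C.hb_xc]
  congr 1
  simp

theorem nb_xd (t : F) : MulAut.conj (φb (wm F)) (XD φa φb t) = XD φa φb t := by
  unfold XD
  rw [conj_conj_eq, inv_inv, C.s2_all]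


end C2Cfg

/-! ### commutation from squares -/

theorem commute_of_squares_left {X Y : F → Γ} (hX : ∀ a b, X a * X b = X (a + b))
    (sq2 : ∀ a : F, ∃ r s : F, a = r ^ 2 + s ^ 2)
    (h : ∀ r u : F, r ≠ 0 → Commute (X (r ^ 2)) (Y u)) (t u : F) : Commute (X t) (Y u) := by
  have h' : ∀ r u : F, Commute (X (r ^ 2)) (Y u) := by
    intro r u
    by_cases hr : r = 0
    · rw [hr, zero_pow (by norm_num), fam_zero hX]; exact Commute.one_left _
    · exact h r u hr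
  obtain ⟨r, s, rfl⟩ := sq2 t
  rw [← hX]
  exact (h' r u).mul_left (h' s u)

theorem commute_of_squares {X Y : F → Γ} (hX : ∀ a b, X a * X b = X (a + b))
    (hY : ∀ a b, Y a * Y b = Y (a + b)) (sq2 : ∀ a : F, ∃ r s : F, a = r ^ 2 + s ^ 2)
    (h : ∀ r r' : F, r ≠ 0 → r' ≠ 0 → Commute (X (r ^ 2)) (Y (r' ^ 2))) (t u : F) :
    Commute (X t) (Y u) := by
  have h1 : ∀ r' t : F, r' ≠ 0 → Commute (X t) (Y (r' ^ 2)) := by
    intro r' t hr'
    exact commute_of_squares_left (Y := fun _ => Y (r' ^ 2)) hX sq2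
      (fun r _ hr => h r r' hr hr') t 0
  exact (commute_of_squares_left hY sq2 (fun r t hr => (h1 r t hr).symm) u t).symm


namespace C2Cfg

variable {φa φb : Matrix.SpecialLinearGroup (Fin 2) F →* Γ} {ζ : Fˣ} (C : C2Cfg φa φb ζ)
include C

/-! ### the commutator relations -/

omit C in
theorem XC_zero : XC φa φb (0 : F) = 1 := by
  unfold XC; rw [φx_zero, map_one]

omit C in
theorem XD_zero : XD φa φb (0 : F) = 1 := by
  unfold XD; rw [φx_zero, map_one]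

/-- `[X_β, X_{2α+β}] = 1` -/
theorem comm_BD (t u : F) : Commute (φb (xm t)) (XD φa φb u) := by
  apply commute_of_squares (φx_add φb) (XD_add φa φb) C.sq2
  intro r r' hr hr'
  have h0 : Commute (φb (xm 1)) (XD φa φb 1) := C.c1
  have h1 := (commute_conj_iff (φa (hm (Units.mk0 r' hr'))) _ _).mpr h0
  rw [C.ha_xb_all, C.ha_xd] at h1
  have h2 := (commute_conj_iff (φb (hm (Units.mk0 (r * r') (mul_ne_zero hr hr')))) _ _).mpr h1
  rw [φh_x, C.hb_xd] at h2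
  simp only [Units.val_mk0] at h2
  have e1 : (r * r') ^ 2 * (r'⁻¹ ^ 2 * 1) = r ^ 2 := by field_simp
  have e2 : r' ^ 2 * 1 = r' ^ 2 := mul_one _
  rwa [e1, e2] at h2

/-- `[X_β, X_{α+β}] = 1` -/
theorem comm_BC (t u : F) : Commute (φb (xm t)) (XC φa φb u) := by
  apply commute_of_squares_left (φx_add φb) C.sq2
  intro r u hr
  by_cases hu : u = 0
  · rw [hu, XC_zero]; exact Commute.one_right _
  have h0 : Commute (φb (xm 1)) (XC φa φb 1) := C.c2
  have h1 := (commute_conj_iff (φb (hm (Units.mk0 u hu))) _ _).mpr h0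
  rw [φh_x, C.hb_xc] at h1
  have h2 := (commute_conj_iff (φa (hm (Units.mk0 (u / r) (div_ne_zero hu hr)))) _ _).mpr h1
  rw [C.ha_xb_all, C.ha_xc] at h2
  simp only [Units.val_mk0] at h2
  have e1 : (u / r)⁻¹ ^ 2 * (u ^ 2 * 1) = r ^ 2 := by field_simp
  have e2 : u * 1 = u := mul_one _
  rwa [e1, e2] at h2

/-- `[X_{α+β}, X_{2α+β}] = 1` -/
theorem comm_CD (t u : F) : Commute (XC φa φb t) (XD φa φb u) := by
  have h := C.comm_BC u (-t)
  rw [← na_xd (φa := φa) u, ← neg_neg t, ← C.na_xc, neg_neg, commute_conj_iff] at h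
  exact h.symm

/-- `[X_α, X_{2α+β}] = 1` -/
theorem comm_AD (t u : F) : Commute (φa (xm t)) (XD φa φb u) := by
  have h := (commute_conj_iff (φb (wm F)) _ _).mpr (C.comm_CD t u)
  rwa [nb_xc, C.nb_xd] at h

/-- `[X_α(t), X_{α+β}(u)] = X_{2α+β}(2tu)` -/
theorem crAC (t u : F) : φa (xm t) * XC φa φb u * (φa (xm t))⁻¹ * (XC φa φb u)⁻¹ =
    XD φa φb (2 * t * u) := by
  have seed : φa (xm (1 : F)) * XC φa φb 1 * (φa (xm 1))⁻¹ * (XC φa φb 1)⁻¹ =
      XD φa φb (2 * 1 * 1) := by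
    rw [C.c3, XD_add]
    congr 1; ring
  have stepA : ∀ (s : Fˣ) (t u : F),
      φa (xm t) * XC φa φb u * (φa (xm t))⁻¹ * (XC φa φb u)⁻¹ = XD φa φb (2 * t * u) →
      φa (xm ((s : F) ^ 2 * t)) * XC φa φb u * (φa (xm ((s : F) ^ 2 * t)))⁻¹ * (XC φa φb u)⁻¹ =
        XD φa φb (2 * ((s : F) ^ 2 * t) * u) := by
    intro s t u h
    have := congrArg (MulAut.conj (φa (hm s))) h
    rw [conj_comm4, φh_x, C.ha_xc, C.ha_xd] at this
    rw [this]
    congr 1; ring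
  have stepB : ∀ (s : Fˣ) (t u : F),
      φa (xm t) * XC φa φb u * (φa (xm t))⁻¹ * (XC φa φb u)⁻¹ = XD φa φb (2 * t * u) →
      φa (xm ((s : F)⁻¹ * t)) * XC φa φb ((s : F) * u) * (φa (xm ((s : F)⁻¹ * t)))⁻¹ *
          (XC φa φb ((s : F) * u))⁻¹ = XD φa φb (2 * ((s : F)⁻¹ * t) * ((s : F) * u)) := by
    intro s t u h
    have := congrArg (MulAut.conj (φb (hm s))) h
    rw [conj_comm4, C.hb_xa_all, C.hb_xc, C.hb_xd] at this
    rw [this]
    congr 1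
    have := s.ne_zero
    field_simp
  have sq : ∀ r v : F, v ≠ 0 →
      φa (xm (v⁻¹ * r ^ 2)) * XC φa φb v * (φa (xm (v⁻¹ * r ^ 2)))⁻¹ * (XC φa φb v)⁻¹ =
        XD φa φb (2 * (v⁻¹ * r ^ 2) * v) := by
    intro r v hv
    by_cases hr : r = 0
    · rw [hr, zero_pow (by norm_num), mul_zero, mul_zero, zero_mul, φx_zero, XD_zero]
      group
    have h1 := stepA (Units.mk0 r hr) 1 1 seed
    have h2 := stepB (Units.mk0 v hv) _ _ h1
    simp only [Units.val_mk0, mul_one] at h2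
    exact h2
  by_cases hu : u = 0
  · rw [hu, mul_zero, XC_zero, XD_zero]
    group
  obtain ⟨r₁, r₂, hr⟩ := C.sq2 (t * u)
  have e : t = u⁻¹ * r₁ ^ 2 + u⁻¹ * r₂ ^ 2 := by
    rw [← mul_add, ← hr]; field_simp
  rw [e, ← φx_add φa, comm_mul_left, sq r₁ u hu, sq r₂ u hu, (C.comm_AD _ _).eq,
    mul_inv_cancel_right, XD_add]
  congr 1; ring

/-- `[X_α(t), X_β(u)] = X_{α+β}(tu) X_{2α+β}(t²u)` -/
theorem crAB (t u : F) : φa (xm t) * φb (xm u) * (φa (xm t))⁻¹ * (φb (xm u))⁻¹ =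
    XC φa φb (t * u) * XD φa φb (t * t * u) := by
  have stepA : ∀ (s : Fˣ) (t u : F),
      φa (xm t) * φb (xm u) * (φa (xm t))⁻¹ * (φb (xm u))⁻¹ =
        XC φa φb (t * u) * XD φa φb (t * t * u) →
      φa (xm ((s : F) ^ 2 * t)) * φb (xm (((s : F)⁻¹) ^ 2 * u)) *
          (φa (xm ((s : F) ^ 2 * t)))⁻¹ * (φb (xm (((s : F)⁻¹) ^ 2 * u)))⁻¹ =
        XC φa φb ((s : F) ^ 2 * t * (((s : F)⁻¹) ^ 2 * u)) *
          XD φa φb ((s : F) ^ 2 * t * ((s : F) ^ 2 * t) * (((s : F)⁻¹) ^ 2 * u)) := by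
    intro s t u h
    have := congrArg (MulAut.conj (φa (hm s))) h
    rw [conj_comm4, map_mul, φh_x, C.ha_xb_all, C.ha_xc, C.ha_xd] at this
    rw [this]
    have hs := s.ne_zero
    congr 2 <;> field_simp
  have stepB : ∀ (s : Fˣ) (t u : F),
      φa (xm t) * φb (xm u) * (φa (xm t))⁻¹ * (φb (xm u))⁻¹ =
        XC φa φb (t * u) * XD φa φb (t * t * u) →
      φa (xm ((s : F)⁻¹ * t)) * φb (xm ((s : F) ^ 2 * u)) *
          (φa (xm ((s : F)⁻¹ * t)))⁻¹ * (φb (xm ((s : F) ^ 2 * u)))⁻¹ =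
        XC φa φb ((s : F)⁻¹ * t * ((s : F) ^ 2 * u)) *
          XD φa φb ((s : F)⁻¹ * t * ((s : F)⁻¹ * t) * ((s : F) ^ 2 * u)) := by
    intro s t u h
    have := congrArg (MulAut.conj (φb (hm s))) h
    rw [conj_comm4, map_mul, C.hb_xa_all, φh_x, C.hb_xc, C.hb_xd] at this
    rw [this]
    have hs := s.ne_zero
    congr 2 <;> field_simp
  have seed : φa (xm (1 : F)) * φb (xm 1) * (φa (xm 1))⁻¹ * (φb (xm 1))⁻¹ =
      XC φa φb (1 * 1) * XD φa φb (1 * 1 * 1) := by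
    rw [C.c4]; simp only [mul_one]
  have sq : ∀ t r : F, t ≠ 0 →
      φa (xm t) * φb (xm (r ^ 2)) * (φa (xm t))⁻¹ * (φb (xm (r ^ 2)))⁻¹ =
        XC φa φb (t * r ^ 2) * XD φa φb (t * t * r ^ 2) := by
    intro t r ht
    by_cases hr : r = 0
    · rw [hr, zero_pow (by norm_num), mul_zero, mul_zero, φx_zero, XC_zero, XD_zero]
      group
    have h1 := stepA (Units.mk0 (t * r) (mul_ne_zero ht hr)) 1 1 seed
    have h2 := stepB (Units.mk0 (t * r ^ 2) (mul_ne_zero ht (pow_ne_zero _ hr))) _ _ h1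
    simp only [Units.val_mk0, mul_one] at h2
    have e1 : (t * r ^ 2)⁻¹ * (t * r) ^ 2 = t := by field_simp
    have e2 : (t * r ^ 2) ^ 2 * (t * r)⁻¹ ^ 2 = r ^ 2 := by field_simp
    rwa [e1, e2] at h2
  by_cases ht : t = 0
  · simp only [ht, zero_mul, φx_zero, XC_zero, XD_zero]
    group
  obtain ⟨r₁, r₂, rfl⟩ := C.sq2 u
  rw [← φx_add φb, comm_mul_right, sq t r₁ ht, sq t r₂ ht]
  have hcomm : Commute (φb (xm (r₁ ^ 2))) (XC φa φb (t * r₂ ^ 2) * XD φa φb (t * t * r₂ ^ 2)) :=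
    (C.comm_BC _ _).mul_right (C.comm_BD _ _)
  rw [hcomm.eq, mul_inv_cancel_right]
  have e : XC φa φb (t * r₁ ^ 2) * XD φa φb (t * t * r₁ ^ 2) *
      (XC φa φb (t * r₂ ^ 2) * XD φa φb (t * t * r₂ ^ 2)) =
      XC φa φb (t * r₁ ^ 2) * XC φa φb (t * r₂ ^ 2) *
        (XD φa φb (t * t * r₁ ^ 2) * XD φa φb (t * t * r₂ ^ 2)) := by
    have h := (C.comm_CD (t * r₂ ^ 2) (t * t * r₁ ^ 2)).eq
    calc XC φa φb (t * r₁ ^ 2) * XD φa φb (t * t * r₁ ^ 2) *
          (XC φa φb (t * r₂ ^ 2) * XD φa φb (t * t * r₂ ^ 2))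
        = XC φa φb (t * r₁ ^ 2) * (XD φa φb (t * t * r₁ ^ 2) * XC φa φb (t * r₂ ^ 2)) *
            XD φa φb (t * t * r₂ ^ 2) := by group
      _ = XC φa φb (t * r₁ ^ 2) * (XC φa φb (t * r₂ ^ 2) * XD φa φb (t * t * r₁ ^ 2)) *
            XD φa φb (t * t * r₂ ^ 2) := by rw [h]
      _ = _ := by group
  rw [e, XC_add, XD_add]
  congr 2 <;> ring


/-! ### the system of root elements -/

/-- the torus -/
def torus : Subgroup Γ where
  carrier := {g | ∃ s s' : Fˣ, g = φa (hm s) * φb (hm s')}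
  mul_mem' := by
    rintro _ _ ⟨s, s', rfl⟩ ⟨t, t', rfl⟩
    refine ⟨s * t, s' * t', ?_⟩
    rw [← φhm_mul φa, ← φhm_mul φb]
    have h := (C.hh_all t s').eq
    calc φa (hm s) * φb (hm s') * (φa (hm t) * φb (hm t'))
        = φa (hm s) * (φb (hm s') * φa (hm t)) * φb (hm t') := by group
      _ = φa (hm s) * (φa (hm t) * φb (hm s')) * φb (hm t') := by rw [h]
      _ = _ := by group
  one_mem' := ⟨1, 1, by rw [hm_one, map_one, map_one, one_mul]⟩
  inv_mem' := by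
    rintro _ ⟨s, s', rfl⟩
    refine ⟨s⁻¹, s'⁻¹, ?_⟩
    rw [hm_inv', hm_inv', map_inv, map_inv, _root_.mul_inv_rev]
    exact ((C.hh_all s s').inv_inv).symm.eq

theorem mem_torus (g : Γ) : g ∈ C.torus ↔ ∃ s s' : Fˣ, g = φa (hm s) * φb (hm s') := Iff.rfl

theorem ha_mem_torus (s : Fˣ) : φa (hm s) ∈ C.torus :=
  ⟨s, 1, by rw [hm_one, map_one, mul_one]⟩

theorem hb_mem_torus (s : Fˣ) : φb (hm s) ∈ C.torus :=
  ⟨1, s, by rw [hm_one, map_one, one_mul]⟩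

/-- the system of root elements of type `C₂` of a configuration -/
def sys : C2Sys F Γ where
  A := fun t => φa (xm t)
  B := fun t => φb (xm t)
  C := XC φa φb
  D := XD φa φb
  a := φa (wm F)
  b := φb (wm F)
  H := C.torus
  A_add := φx_add φa
  B_add := φx_add φb
  C_add := XC_add φa φb
  D_add := XD_add φa φb
  comm_AB := C.crAB
  comm_AC := C.crAC
  comm_AD := C.comm_AD
  comm_BC := C.comm_BC
  comm_BD := C.comm_BD
  comm_CD := C.comm_CD
  H_A := by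
    rintro _ ⟨s, s', rfl⟩ t
    refine ⟨(s : F) ^ 2 * ((s' : F)⁻¹ * t), ?_⟩
    rw [← MulAut.conj_apply, conj_mul', C.hb_xa_all, φh_x]
  H_B := by
    rintro _ ⟨s, s', rfl⟩ t
    refine ⟨((s : F)⁻¹) ^ 2 * ((s' : F) ^ 2 * t), ?_⟩
    rw [← MulAut.conj_apply, conj_mul', φh_x, C.ha_xb_all]
  H_C := by
    rintro _ ⟨s, s', rfl⟩ t
    refine ⟨(s' : F) * t, ?_⟩
    rw [← MulAut.conj_apply, conj_mul', C.hb_xc, C.ha_xc]
  H_D := by
    rintro _ ⟨s, s', rfl⟩ t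
    refine ⟨(s : F) ^ 2 * t, ?_⟩
    rw [← MulAut.conj_apply, conj_mul', C.hb_xd, C.ha_xd]
  a_H := by
    rintro _ ⟨s, s', rfl⟩
    refine ⟨s⁻¹ * s', s', ?_⟩
    rw [← MulAut.conj_apply, map_mul, φt_h, C.na_hb_all, ← mul_assoc, φhm_mul]
  b_H := by
    rintro _ ⟨s, s', rfl⟩
    refine ⟨s, s ^ 2 * s'⁻¹, ?_⟩
    rw [← MulAut.conj_apply, map_mul, φt_h, C.nb_ha_all, mul_assoc, φhm_mul]
  aa := by rw [φtt]; exact C.ha_mem_torus _
  bb := by rw [φtt]; exact C.hb_mem_torus _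
  abab := by
    have e : φa (wm F) * φb (wm F) * (φa (wm F) * φb (wm F)) * (φa (wm F) * φb (wm F)) *
        (φa (wm F) * φb (wm F)) = (φa (wm F) * φb (wm F)) ^ 4 := by
      rw [pow_succ, pow_succ, pow_succ, pow_one]
    rw [e, C.w4, φtt]
    exact C.ha_mem_torus _
  a_B := fun t => ⟨t, by rw [← MulAut.conj_apply, C.na_xb]⟩
  a_D := fun t => ⟨t, by rw [← MulAut.conj_apply, na_xd]⟩
  a_C := fun t => ⟨-t, by rw [← MulAut.conj_apply, C.na_xc]⟩
  b_A := fun t => ⟨-t, by rw [← MulAut.conj_apply, C.nb_xa]⟩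
  b_C := fun t => ⟨t, by rw [← MulAut.conj_apply, nb_xc]⟩
  b_D := fun t => ⟨t, by rw [← MulAut.conj_apply, C.nb_xd]⟩
  a_A := by
    intro t ht
    have ht' : -t ≠ 0 := neg_ne_zero.mpr ht
    refine ⟨(-t)⁻¹, (-t)⁻¹, φa (hm (Units.mk0 (- -t) (neg_ne_zero.mpr ht'))), C.ha_mem_torus _, ?_⟩
    rw [← MulAut.conj_apply, φt_x, ym_eq (-t) ht', map_mul, map_mul, map_mul]
  b_B := by
    intro t ht
    have ht' : -t ≠ 0 := neg_ne_zero.mpr ht
    refine ⟨(-t)⁻¹, (-t)⁻¹, φb (hm (Units.mk0 (- -t) (neg_ne_zero.mpr ht'))), C.hb_mem_torus _, ?_⟩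
    rw [← MulAut.conj_apply, φt_x, ym_eq (-t) ht', map_mul, map_mul, map_mul]

end C2Cfg

end Cfsg.Agent.Lib.Helper66_C2
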