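import Mathlib
import Cfsg.Agent.Lib.Helper66_C2Mat
import Cfsg.Agent.Lib.Helper66_C2Spread
import Cfsg.Agent.Lib.Helper5_SLPresA

set_option autoImplicit false

/-!
The recognition theorem for `Sp₄(F)` (helper66): the configuration holds in the matrix model, and
a group with a configuration mapping compatibly to `Sp₄(F)` is isomorphic to it.
-/

namespace Cfsg.Agent.Lib.Helper66_C2

open Matrix Cfsg.Agent.Lib.Helper5_SLPresE Cfsg.Agent.Lib.Helper66_SL3Pres

variable {F : Type*} [Field F]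

/-! ### the configuration in the model -/

theorem XC_model (t : F) : XC (embA F) (embB F) t = qm 0 t 0 := by
  unfold XC
  rw [MulAut.conj_apply, inv_inv, mul_assoc, embA_xm_mul_embB_wm, inv_mul_cancel_left]

theorem XD_model (t : F) : XD (embA F) (embB F) t = qm t 0 0 := by
  unfold XD
  have h := embA_wm_mul_qm t 0 0
  rw [neg_zero] at h
  rw [MulAut.conj_apply, inv_inv, embB_xm, mul_assoc, ← h, inv_mul_cancel_left]

theorem embA_xm_mul_qm (t x y z : F) :
    embA F (xm t) * qm x y z = qm (x + 2 * t * y + t * t * z) (y + t * z) z * embA F (xm t) := by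
  rw [embA_mul_qm, xm_coe]
  congr 2 <;> simp

theorem embA_hm_mul_qm (s : Fˣ) (x y z : F) :
    embA F (hm s) * qm x y z = qm ((s : F) ^ 2 * x) y (((s : F)⁻¹) ^ 2 * z) * embA F (hm s) := by
  have hs := s.ne_zero
  rw [embA_mul_qm, hm_coe]
  congr 2
  · simp [pow_two]
  · simp [hs]
  · simp [pow_two]

theorem conj_embA_xm_qm (t x y z : F) :
    embA F (xm t) * qm x y z * (embA F (xm t))⁻¹ * (qm x y z)⁻¹ =
      qm (2 * t * y + t * t * z) (t * z) 0 := by
  rw [embA_xm_mul_qm, mul_inv_cancel_right, qm_inv, qm_mul]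
  congr 1 <;> ring

/-- the configuration holds in the model -/
theorem cfgM (ζ : Fˣ) (gen : ∀ s : Fˣ, ∃ m : ℕ, s = ζ ^ m)
    (sq2 : ∀ a : F, ∃ r s : F, a = r ^ 2 + s ^ 2) : C2Cfg (embA F) (embB F) ζ where
  gen := gen
  sq2 := sq2
  hh := embA_hm_comm_embB_hm ζ ζ
  nb_ha := by
    rw [MulAut.conj_apply, mul_inv_eq_iff_eq_mul]
    exact embB_wm_mul_embA_hm ζ
  na_hb := by
    rw [MulAut.conj_apply, mul_inv_eq_iff_eq_mul]
    exact embA_wm_mul_embB_hm ζ
  hb_xa := by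
    rw [MulAut.conj_apply, mul_inv_eq_iff_eq_mul, embB_hm_mul_embA_xm, mul_one]
  ha_xb := by
    rw [← map_inv, ← hm_inv', φh_x, embB_xm, embB_xm, MulAut.conj_apply, mul_inv_eq_iff_eq_mul,
      embA_hm_mul_qm]
    congr 2 <;> simp
  w4 := w4M
  s1 := by
    rw [conj_conj_exp]
    have h1 : MulAut.conj (embB F (wm F))⁻¹ (embA F (xm 1)) = qm 0 1 0 := XC_model 1
    have h2 : MulAut.conj (embA F (wm F)) (qm (0 : F) 1 0) = qm 0 (-1) 0 := by
      rw [MulAut.conj_apply, mul_inv_eq_iff_eq_mul, embA_wm_mul_qm]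
    have h3 : MulAut.conj (embB F (wm F)) (qm (0 : F) (-1) 0) = embA F (xm (-1)) := by
      rw [MulAut.conj_apply, mul_inv_eq_iff_eq_mul, embA_xm_mul_embB_wm]
    rw [h1, h2, h3, ← map_inv, xm_inv]
  s2 := by
    rw [conj_conj_exp]
    have h1 : MulAut.conj (embA F (wm F))⁻¹ (embB F (xm 1)) = qm 1 0 0 := XD_model 1
    have h2 : MulAut.conj (embB F (wm F)) (qm (1 : F) 0 0) = qm 1 0 0 := by
      rw [MulAut.conj_apply, mul_inv_eq_iff_eq_mul, embB_mul_qm]
    have h3 : MulAut.conj (embA F (wm F)) (qm (1 : F) 0 0) = embB F (xm 1) := by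
      rw [MulAut.conj_apply, mul_inv_eq_iff_eq_mul, embA_wm_mul_qm, embB_xm, neg_zero]
    rw [h1, h2, h3]
  c1 := by rw [XD_model, embB_xm]; exact qm_comm _ _ _ _ _ _
  c2 := by rw [XC_model, embB_xm]; exact qm_comm _ _ _ _ _ _
  c3 := by
    rw [XC_model, XD_model, conj_embA_xm_qm, qm_mul]
    congr 1 <;> norm_num
  c4 := by
    rw [XC_model, XD_model, embB_xm, conj_embA_xm_qm, qm_mul]
    congr 1 <;> norm_num


/-! ### the recognition theorem -/

section recognition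

variable {Γ : Type*} [Group Γ]

theorem range_le_of_xm_wm (φ : Matrix.SpecialLinearGroup (Fin 2) F →* Γ) (K : Subgroup Γ)
    (hx : ∀ t, φ (xm t) ∈ K) (hw : φ (wm F) ∈ K) : φ.range ≤ K := by
  rw [MonoidHom.range_eq_map, ← Cfsg.Agent.Lib.Helper5_SLPresA.closure_mx, MonoidHom.map_closure,
    Subgroup.closure_le]
  rintro _ ⟨_, ⟨⟨b, t⟩, rfl⟩, rfl⟩
  cases b
  · show φ (ym t) ∈ K
    rw [← wm_xm, map_mul, map_mul, map_inv]
    exact K.mul_mem (K.mul_mem hw (hx _)) (K.inv_mem hw)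
  · exact hx t

theorem map_conjC2 {G : Type*} [Group G] (π : Γ →* G) (g x : Γ) :
    π (MulAut.conj g x) = MulAut.conj (π g) (π x) := by
  simp only [MulAut.conj_apply, map_mul, map_inv]

theorem map_XC (π : Γ →* Matrix.symplecticGroup (Fin 2) F)
    (φa φb : Matrix.SpecialLinearGroup (Fin 2) F →* Γ) (hπa : ∀ m, π (φa m) = embA F m)
    (hπb : ∀ m, π (φb m) = embB F m) (t : F) : π (XC φa φb t) = qm 0 t 0 := by
  rw [← XC_model]
  unfold XC
  rw [map_conjC2, map_inv, hπa, hπb]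

theorem map_XD (π : Γ →* Matrix.symplecticGroup (Fin 2) F)
    (φa φb : Matrix.SpecialLinearGroup (Fin 2) F →* Γ) (hπa : ∀ m, π (φa m) = embA F m)
    (hπb : ∀ m, π (φb m) = embB F m) (t : F) : π (XD φa φb t) = qm t 0 0 := by
  rw [← XD_model]
  unfold XD
  rw [map_conjC2, map_inv, hπa, hπb]

/-- a group with a configuration mapping compatibly to `Sp₄(F)` is isomorphic to `Sp₄(F)` -/
theorem bijective_of_c2cfg (π : Γ →* Matrix.symplecticGroup (Fin 2) F)
    (φa φb : Matrix.SpecialLinearGroup (Fin 2) F →* Γ) (ζ : Fˣ) (C : C2Cfg φa φb ζ)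
    (hπa : ∀ m, π (φa m) = embA F m) (hπb : ∀ m, π (φb m) = embB F m)
    (hgen : Subgroup.closure (Set.range φa ∪ Set.range φb) = ⊤) : Function.Bijective π := by
  constructor
  · -- injectivity
    have hgen' : Subgroup.closure (((C.sys.U : Subgroup Γ) : Set Γ) ∪ C.sys.H ∪
        {C.sys.a, C.sys.b}) = ⊤ := by
      rw [eq_top_iff, ← hgen, Subgroup.closure_le]
      have hA : φa.range ≤ Subgroup.closure (((C.sys.U : Subgroup Γ) : Set Γ) ∪ C.sys.H ∪
          {C.sys.a, C.sys.b}) := by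
        apply range_le_of_xm_wm
        · intro t
          exact Subgroup.subset_closure (Or.inl (Or.inl (C.sys.A_mem_U t)))
        · exact Subgroup.subset_closure (Or.inr (Or.inl rfl))
      have hB : φb.range ≤ Subgroup.closure (((C.sys.U : Subgroup Γ) : Set Γ) ∪ C.sys.H ∪
          {C.sys.a, C.sys.b}) := by
        apply range_le_of_xm_wm
        · intro t
          exact Subgroup.subset_closure (Or.inl (Or.inl (C.sys.B_mem_U t)))
        · exact Subgroup.subset_closure (Or.inr (Or.inr rfl))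
      rintro x (⟨m, rfl⟩ | ⟨m, rfl⟩)
      · exact hA ⟨m, rfl⟩
      · exact hB ⟨m, rfl⟩
    refine C.sys.injective_of_sep hgen' π (Tsub F) ?_ ?_ ?_ ?_ ?_ ?_ ?_ ?_ ?_ ?_ ?_ ?_ ?_
    · intro t
      show π (φa (xm t)) ∈ Tsub F
      rw [hπa]; exact embA_xm_mem_Tsub t
    · intro t
      show π (φb (xm t)) ∈ Tsub F
      rw [hπb, embB_xm]; exact qm_mem_Tsub _ _ _
    · intro t
      show π (XC φa φb t) ∈ Tsub F
      rw [map_XC π φa φb hπa hπb]; exact qm_mem_Tsub _ _ _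
    · intro t
      show π (XD φa φb t) ∈ Tsub F
      rw [map_XD π φa φb hπa hπb]; exact qm_mem_Tsub _ _ _
    · rintro _ ⟨s, s', rfl⟩
      rw [map_mul, hπa, hπb]
      exact (Tsub F).mul_mem (embA_hm_mem_Tsub s) (embB_hm_mem_Tsub s')
    · show π (φb (wm F)) ∉ Tsub F
      rw [hπb]; exact wb_not_mem
    · show π (φb (wm F) * φa (wm F)) ∉ Tsub F
      rw [map_mul, hπa, hπb]; exact wba_not_mem
    · show π (φb (wm F) * φa (wm F) * φb (wm F)) ∉ Tsub F
      rw [map_mul, map_mul, hπa, hπb]; exact wbab_not_mem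
    · show π (φa (wm F)) ∉ Tsub F
      rw [hπa]; exact wa_not_mem
    · show π (φa (wm F) * φb (wm F)) ∉ Tsub F
      rw [map_mul, hπa, hπb]; exact wab_not_mem
    · show π (φa (wm F) * (φb (wm F) * φa (wm F))) ∉ Tsub F
      rw [map_mul, map_mul, hπa, hπb]; exact waba_not_mem
    · show π (φa (wm F) * (φb (wm F) * φa (wm F) * φb (wm F))) ∉ Tsub F
      rw [map_mul, map_mul, map_mul, hπa, hπb]; exact wabab_not_mem
    · rintro t₁ t₂ t₃ t₄ _ ⟨s, s', rfl⟩ h
      have h' : embA F (xm t₁) * qm t₄ t₃ t₂ * (embA F (hm s) * embB F (hm s')) = 1 := by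
        have e : π (C.sys.A t₁ * C.sys.B t₂ * C.sys.C t₃ * C.sys.D t₄ *
            (φa (hm s) * φb (hm s'))) =
            embA F (xm t₁) * qm 0 0 t₂ * qm 0 t₃ 0 * qm t₄ 0 0 *
              (embA F (hm s) * embB F (hm s')) := by
          show π (φa (xm t₁) * φb (xm t₂) * XC φa φb t₃ * XD φa φb t₄ *
            (φa (hm s) * φb (hm s'))) = _
          rw [map_mul, map_mul, map_mul, map_mul, map_mul, map_XC π φa φb hπa hπb,
            map_XD π φa φb hπa hπb, hπa, hπa, hπb, hπb, embB_xm]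
        rw [e] at h
        have e2 : qm (0 : F) 0 t₂ * qm 0 t₃ 0 * qm t₄ 0 0 = qm t₄ t₃ t₂ := by
          rw [qm_mul, qm_mul]; congr 1 <;> ring
        have e3 : embA F (xm t₁) * qm 0 0 t₂ * qm 0 t₃ 0 * qm t₄ 0 0 =
            embA F (xm t₁) * qm t₄ t₃ t₂ := by rw [← e2]; group
        rwa [e3] at h
      obtain ⟨h1, h2, h3, h4, h5, h6⟩ := normal_form_inj t₁ t₄ t₃ t₂ s s' h'
      show φa (xm t₁) * φb (xm t₂) * XC φa φb t₃ * XD φa φb t₄ * (φa (hm s) * φb (hm s')) = 1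
      rw [h1, h2, h3, h4, h5, h6, φx_zero, φx_zero, C2Cfg.XC_zero, C2Cfg.XD_zero, hm_one, map_one,
        map_one]
      group
  · -- surjectivity
    rw [← MonoidHom.range_eq_top, eq_top_iff, ← G0_eq_top]
    unfold G0
    rw [Subgroup.closure_le]
    rintro x (⟨m, rfl⟩ | ⟨m, rfl⟩)
    · exact ⟨φa m, hπa m⟩
    · exact ⟨φb m, hπb m⟩

end recognition

end Cfsg.Agent.Lib.Helper66_C2
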