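import Mathlib
import Cfsg.Agent.Lib.Helper66_StModel
import Cfsg.Agent.Lib.Helper66_SL3PresB

set_option autoImplicit false

/-!
The matrix model of the configuration: the block embedding of `SL₂(F)` in `SL₃(F)` and the
permutation matrix of a 3-cycle.
-/

namespace Cfsg.Agent.Lib.Helper66_SL3Pres

open Matrix Cfsg.Agent.Lib.Helper5_SLPresE Cfsg.Agent.Lib.Helper66_StCalc
  Cfsg.Agent.Lib.Helper5_SteinbergA

variable {F : Type*} [Field F]

/-- the block embedding -/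
noncomputable def emb (F : Type*) [Field F] :
    Matrix.SpecialLinearGroup (Fin 2) F →* Matrix.SpecialLinearGroup (Fin 3) F :=
  pairHom F (show (0 : Fin 3) ≠ 1 by decide)

theorem emb_coe (m : Matrix.SpecialLinearGroup (Fin 2) F) :
    (emb F m : Matrix (Fin 3) (Fin 3) F) =
      !![(m : Matrix (Fin 2) (Fin 2) F) 0 0, (m : Matrix (Fin 2) (Fin 2) F) 0 1, 0;
         (m : Matrix (Fin 2) (Fin 2) F) 1 0, (m : Matrix (Fin 2) (Fin 2) F) 1 1, 0; 0, 0, 1] := by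
  show gemb0 (incl F ![0, 1]) (incl F ![0, 1])ᵀ (m : Matrix (Fin 2) (Fin 2) F) = _
  ext i j
  fin_cases i <;> fin_cases j <;>
    simp [gemb0, incl, Matrix.mul_apply, Fin.sum_univ_two, Matrix.one_apply, Matrix.add_apply,
      Matrix.sub_apply]

theorem emb_xm_coe (a : F) :
    (emb F (xm a) : Matrix (Fin 3) (Fin 3) F) = !![1, a, 0; 0, 1, 0; 0, 0, 1] := by
  rw [emb_coe, xm_coe]
  simp

theorem emb_ym_coe (a : F) :
    (emb F (ym a) : Matrix (Fin 3) (Fin 3) F) = !![1, 0, 0; a, 1, 0; 0, 0, 1] := by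
  rw [emb_coe, ym_coe]
  simp

theorem emb_wm_coe :
    (emb F (wm F) : Matrix (Fin 3) (Fin 3) F) = !![0, 1, 0; -1, 0, 0; 0, 0, 1] := by
  rw [emb_coe, wm_coe]
  simp

theorem emb_hm_coe (s : Fˣ) :
    (emb F (hm s) : Matrix (Fin 3) (Fin 3) F) = !![(s : F), 0, 0; 0, (s : F)⁻¹, 0; 0, 0, 1] := by
  rw [emb_coe, hm_coe]
  simp

/-- the permutation matrix of a 3-cycle -/
def Cm (F : Type*) [Field F] : Matrix.SpecialLinearGroup (Fin 3) F :=
  ⟨!![0, 0, 1; 1, 0, 0; 0, 1, 0], by simp [Matrix.det_fin_three]⟩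

theorem Cm_coe : (Cm F : Matrix (Fin 3) (Fin 3) F) = !![0, 0, 1; 1, 0, 0; 0, 1, 0] := rfl

/-- `diag(1, s, s⁻¹)` -/
def Dg (s : Fˣ) : Matrix.SpecialLinearGroup (Fin 3) F :=
  ⟨!![1, 0, 0; 0, (s : F), 0; 0, 0, (s : F)⁻¹], by simp [Matrix.det_fin_three]⟩

theorem Dg_coe (s : Fˣ) :
    (Dg s : Matrix (Fin 3) (Fin 3) F) = !![1, 0, 0; 0, (s : F), 0; 0, 0, (s : F)⁻¹] := rfl

/-- `diag(s⁻¹, 1, s)` -/
def Dg' (s : Fˣ) : Matrix.SpecialLinearGroup (Fin 3) F :=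
  ⟨!![(s : F)⁻¹, 0, 0; 0, 1, 0; 0, 0, (s : F)], by simp [Matrix.det_fin_three]⟩

theorem Dg'_coe (s : Fˣ) :
    (Dg' s : Matrix (Fin 3) (Fin 3) F) = !![(s : F)⁻¹, 0, 0; 0, 1, 0; 0, 0, (s : F)] := rfl

/-- `1 + b E₁₂` -/
def T12 (b : F) : Matrix.SpecialLinearGroup (Fin 3) F :=
  ⟨!![1, 0, 0; 0, 1, b; 0, 0, 1], by simp [Matrix.det_fin_three]⟩

theorem T12_coe (b : F) :
    (T12 b : Matrix (Fin 3) (Fin 3) F) = !![1, 0, 0; 0, 1, b; 0, 0, 1] := rfl

/-- `1 + b E₀₂` -/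
def T02 (b : F) : Matrix.SpecialLinearGroup (Fin 3) F :=
  ⟨!![1, 0, b; 0, 1, 0; 0, 0, 1], by simp [Matrix.det_fin_three]⟩

theorem T02_coe (b : F) :
    (T02 b : Matrix (Fin 3) (Fin 3) F) = !![1, 0, b; 0, 1, 0; 0, 0, 1] := rfl

theorem Cm3 : Cm F * Cm F * Cm F = 1 := by
  apply Subtype.ext
  simp only [Matrix.SpecialLinearGroup.coe_mul, Cm_coe, Matrix.SpecialLinearGroup.coe_one]
  ext i j
  fin_cases i <;> fin_cases j <;> simp [Matrix.mul_apply, Fin.sum_univ_three]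

theorem Cm_inv : (Cm F)⁻¹ = Cm F * Cm F := by
  rw [inv_eq_iff_mul_eq_one, ← mul_assoc]
  exact Cm3

theorem tcM : emb F (wm F) * (Cm F)⁻¹ * (emb F (wm F) * (Cm F)⁻¹) = 1 := by
  rw [Cm_inv]
  apply Subtype.ext
  simp only [Matrix.SpecialLinearGroup.coe_mul, Cm_coe, emb_wm_coe,
    Matrix.SpecialLinearGroup.coe_one]
  ext i j
  fin_cases i <;> fin_cases j <;> simp [Matrix.mul_apply, Fin.sum_univ_three]

theorem conjCm_hm (s : Fˣ) : MulAut.conj (Cm F) (emb F (hm s)) = Dg s := by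
  rw [MulAut.conj_apply, mul_inv_eq_iff_eq_mul]
  apply Subtype.ext
  simp only [Matrix.SpecialLinearGroup.coe_mul, Cm_coe, emb_hm_coe, Dg_coe]
  ext i j
  fin_cases i <;> fin_cases j <;> simp [Matrix.mul_apply, Fin.sum_univ_three]

theorem conjCminv_hm (s : Fˣ) : MulAut.conj (Cm F)⁻¹ (emb F (hm s)) = Dg' s := by
  have key : emb F (hm s) * Cm F = Cm F * Dg' s := by
    apply Subtype.ext
    simp only [Matrix.SpecialLinearGroup.coe_mul, Cm_coe, emb_hm_coe, Dg'_coe]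
    ext i j
    fin_cases i <;> fin_cases j <;> simp [Matrix.mul_apply, Fin.sum_univ_three]
  rw [MulAut.conj_apply, inv_inv, mul_assoc, key]
  group

theorem conjCm_xm (b : F) : MulAut.conj (Cm F) (emb F (xm b)) = T12 b := by
  rw [MulAut.conj_apply, mul_inv_eq_iff_eq_mul]
  apply Subtype.ext
  simp only [Matrix.SpecialLinearGroup.coe_mul, Cm_coe, emb_xm_coe, T12_coe]
  ext i j
  fin_cases i <;> fin_cases j <;> simp [Matrix.mul_apply, Fin.sum_univ_three]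

theorem conjCminv_ym (b : F) : MulAut.conj (Cm F)⁻¹ (emb F (ym b)) = T02 b := by
  have key : emb F (ym b) * Cm F = Cm F * T02 b := by
    apply Subtype.ext
    simp only [Matrix.SpecialLinearGroup.coe_mul, Cm_coe, emb_ym_coe, T02_coe]
    ext i j
    fin_cases i <;> fin_cases j <;> simp [Matrix.mul_apply, Fin.sum_univ_three]
  rw [MulAut.conj_apply, inv_inv, mul_assoc, key]
  group

theorem hhM (s : Fˣ) : Commute (emb F (hm s)) (Dg s) := by
  show emb F (hm s) * Dg s = Dg s * emb F (hm s)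
  apply Subtype.ext
  simp only [Matrix.SpecialLinearGroup.coe_mul, emb_hm_coe, Dg_coe]
  ext i j
  fin_cases i <;> fin_cases j <;> simp [Matrix.mul_apply, Fin.sum_univ_three]

theorem actbM (s : Fˣ) : MulAut.conj (Dg s) (emb F (xm 1)) = emb F (xm (s : F)⁻¹) := by
  rw [MulAut.conj_apply, mul_inv_eq_iff_eq_mul]
  apply Subtype.ext
  simp only [Matrix.SpecialLinearGroup.coe_mul, emb_xm_coe, Dg_coe]
  ext i j
  have := s.ne_zero
  fin_cases i <;> fin_cases j <;> simp [Matrix.mul_apply, Fin.sum_univ_three]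

theorem actdM (s : Fˣ) : MulAut.conj (Dg' s) (emb F (xm 1)) = emb F (xm (s : F)⁻¹) := by
  rw [MulAut.conj_apply, mul_inv_eq_iff_eq_mul]
  apply Subtype.ext
  simp only [Matrix.SpecialLinearGroup.coe_mul, emb_xm_coe, Dg'_coe]
  ext i j
  have := s.ne_zero
  fin_cases i <;> fin_cases j <;> simp [Matrix.mul_apply, Fin.sum_univ_three]

/-- the seed relations hold in the model -/
theorem seedM (e : F) : CRx (emb F) (Cm F) 1 e e := by
  unfold CRx
  rw [conjCm_xm, conjCminv_ym, mul_inv_eq_iff_eq_mul, mul_inv_eq_iff_eq_mul]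
  apply Subtype.ext
  simp only [Matrix.SpecialLinearGroup.coe_mul, emb_xm_coe, T12_coe, T02_coe]
  ext i j
  fin_cases i <;> fin_cases j <;> simp [Matrix.mul_apply, Fin.sum_univ_three]

/-- the configuration holds in the model -/
theorem cfgM (ζ : Fˣ) (gen : ∀ s : Fˣ, ∃ m : ℕ, s = ζ ^ m)
    (sq2 : ∀ a : F, ∃ r s : F, a = r ^ 2 + s ^ 2) : Cfg (emb F) (Cm F) ζ where
  gen := gen
  sq2 := sq2
  c3 := Cm3
  tc := tcM
  hh := by rw [conjCm_hm]; exact hhM ζ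
  actb := by rw [conjCm_hm]; exact actbM ζ
  actd := by rw [conjCminv_hm]; exact actdM ζ

end Cfsg.Agent.Lib.Helper66_SL3Pres
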