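import Mathlib
import Cfsg.Agent.Lib.Helper66_SL3PresC
import Cfsg.Agent.Lib.Helper66_StMain
import Cfsg.Agent.Lib.Helper5_SLPresA

set_option autoImplicit false

/-!
The extra relators of the presentation of `SL₃(F)` as words, their translation into the
configuration, and the recognition theorem.
-/

namespace Cfsg.Agent.Lib.Helper66_SL3Pres

open Matrix Cfsg.Agent.Lib.Helper5_SLPresE Cfsg.Agent.Lib.Helper66_StCalc
  Cfsg.Agent.Lib.Helper5_SteinbergA Cfsg.Agent.Lib.Helper5_SLPresA

variable {F : Type*} [Field F]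

/-! ### the extra relators -/

section words

variable {G : Type*} [Group G]

/-- the five common extra relators -/
def common5 (xz u t h c : G) : List G :=
  [c * c * c,
   t * c⁻¹ * (t * c⁻¹),
   h * (c * h * c⁻¹) * (c * h * c⁻¹ * h)⁻¹,
   c * h * c⁻¹ * u * (c * h * c⁻¹)⁻¹ * xz⁻¹,
   c⁻¹ * h * c * u * (c⁻¹ * h * c)⁻¹ * xz⁻¹]

/-- the seed relator attached to the word `e` of a root element -/
def seedRel (e u t c : G) : G :=
  u * (c * e * c⁻¹) * u⁻¹ * (c * e * c⁻¹)⁻¹ * (c⁻¹ * (t * e⁻¹ * t⁻¹) * c)⁻¹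

theorem map_common5 {H : Type*} [Group H] (f : G →* H) (xz u t h c : G) :
    (common5 xz u t h c).map f = common5 (f xz) (f u) (f t) (f h) (f c) := by
  simp only [common5, List.map_cons, List.map_nil, map_mul, map_inv]

theorem map_seedRel {H : Type*} [Group H] (f : G →* H) (e u t c : G) :
    f (seedRel e u t c) = seedRel (f e) (f u) (f t) (f c) := by
  simp only [seedRel, map_mul, map_inv]

/-- the common relations, unpacked -/
structure CommonHolds (xz u t h c : G) : Prop where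
  c3 : c * c * c = 1
  tc : t * c⁻¹ * (t * c⁻¹) = 1
  hh : h * (c * h * c⁻¹) = c * h * c⁻¹ * h
  actb : c * h * c⁻¹ * u * (c * h * c⁻¹)⁻¹ = xz
  actd : c⁻¹ * h * c * u * (c⁻¹ * h * c)⁻¹ = xz

theorem commonHolds_iff (xz u t h c : G) :
    (∀ r ∈ common5 xz u t h c, r = 1) ↔ CommonHolds xz u t h c := by
  simp only [common5, List.forall_mem_cons, List.not_mem_nil, false_imp_iff, implies_true,
    and_true, mul_inv_eq_one]
  constructor
  · rintro ⟨h1, h2, h3, h4, h5⟩
    exact ⟨h1, h2, h3, h4, h5⟩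
  · rintro ⟨h1, h2, h3, h4, h5⟩
    exact ⟨h1, h2, h3, h4, h5⟩

/-- the seed relation, unpacked -/
def SeedHolds (e u t c : G) : Prop :=
  u * (c * e * c⁻¹) * u⁻¹ * (c * e * c⁻¹)⁻¹ = c⁻¹ * (t * e⁻¹ * t⁻¹) * c

theorem seedRel_eq_one_iff (e u t c : G) : seedRel e u t c = 1 ↔ SeedHolds e u t c := by
  unfold seedRel SeedHolds
  rw [mul_inv_eq_one]

end words

/-! ### translation into the configuration -/

section translate

variable {Γ : Type*} [Group Γ] (φ : Matrix.SpecialLinearGroup (Fin 2) F →* Γ) (c : Γ) (ζ : Fˣ)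

theorem Cfg.commonHolds {φ : Matrix.SpecialLinearGroup (Fin 2) F →* Γ} {c : Γ} {ζ : Fˣ}
    (C : Cfg φ c ζ) :
    CommonHolds (φ (xm (ζ : F)⁻¹)) (φ (xm 1)) (φ (wm F)) (φ (hm ζ)) c := by
  refine ⟨C.c3, C.tc, ?_, ?_, ?_⟩
  · have := C.hh.eq
    rwa [MulAut.conj_apply] at this
  · have := C.actb
    rwa [MulAut.conj_apply, MulAut.conj_apply] at this
  · have := C.actd
    rwa [MulAut.conj_apply, MulAut.conj_apply, inv_inv] at this

theorem cfg_of_commonHolds (gen : ∀ s : Fˣ, ∃ m : ℕ, s = ζ ^ m)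
    (sq2 : ∀ a : F, ∃ r s : F, a = r ^ 2 + s ^ 2)
    (H : CommonHolds (φ (xm (ζ : F)⁻¹)) (φ (xm 1)) (φ (wm F)) (φ (hm ζ)) c) : Cfg φ c ζ := by
  refine ⟨gen, sq2, H.c3, H.tc, ?_, ?_, ?_⟩
  · show φ (hm ζ) * MulAut.conj c (φ (hm ζ)) = MulAut.conj c (φ (hm ζ)) * φ (hm ζ)
    rw [MulAut.conj_apply]
    exact H.hh
  · rw [MulAut.conj_apply, MulAut.conj_apply]
    exact H.actb
  · rw [MulAut.conj_apply, MulAut.conj_apply, inv_inv]
    exact H.actd

theorem seedHolds_iff (e : F) :
    SeedHolds (φ (xm e)) (φ (xm 1)) (φ (wm F)) c ↔ CRx φ c 1 e e := by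
  unfold SeedHolds CRx
  have h1 : φ (wm F) * (φ (xm e))⁻¹ * (φ (wm F))⁻¹ = φ (ym e) := by
    have := φt_x φ (-e)
    rw [MulAut.conj_apply, neg_neg] at this
    rw [← this]
    congr 2
    rw [inv_eq_iff_mul_eq_one, φx_add, add_neg_cancel, φx_zero]
  rw [h1, MulAut.conj_apply, MulAut.conj_apply, inv_inv]

end translate

/-! ### recognition -/

theorem stRel_of_stRelAB {ι : Type*} [Fintype ι] [DecidableEq ι] {K : Type*} [Field K]
    {G : Type*} [Group G] {x : ι → ι → K → G} (hcard : 3 ≤ Fintype.card ι) (h : StRelAB x) :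
    StRel x := by
  refine { toStRelAB := h, rank1 := ?_ }
  intro i j t u hij ht
  obtain ⟨k, -, hk⟩ := Finset.exists_mem_notMem_of_card_lt_card
    (s := ({i, j} : Finset ι)) (t := Finset.univ) (by
      rw [Finset.card_univ]
      exact lt_of_le_of_lt (Finset.card_le_two) (by omega))
  rw [Finset.mem_insert, Finset.mem_singleton, not_or] at hk
  have := h.rank1_of_third i j k t u hij (Ne.symm hk.1) (Ne.symm hk.2) ht
  rw [MulAut.conj_apply] at this
  exact this

section recog

variable {Γ : Type*} [Group Γ]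

theorem map_conj' {Γ' : Type*} [Group Γ'] (f : Γ →* Γ') (c x : Γ) :
    f (MulAut.conj c x) = MulAut.conj (f c) (f x) := by
  simp [MulAut.conj_apply]

theorem map_conj_inv' {Γ' : Type*} [Group Γ'] (f : Γ →* Γ') (c x : Γ) :
    f (MulAut.conj c⁻¹ x) = MulAut.conj (f c)⁻¹ (f x) := by
  simp [MulAut.conj_apply]

theorem map_rx {Γ' : Type*} [Group Γ'] (f : Γ →* Γ')
    (φ : Matrix.SpecialLinearGroup (Fin 2) F →* Γ) (c : Γ) (i j : Fin 3) (a : F) :
    f (rx φ c i j a) = rx (f.comp φ) (f c) i j a := by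
  fin_cases i <;> fin_cases j
  · exact map_one f
  · rfl
  · exact map_conj_inv' f c _
  · rfl
  · exact map_one f
  · exact map_conj' f c _
  · exact map_conj_inv' f c _
  · exact map_conj' f c _
  · exact map_one f

theorem T02_eq (a : F) : T02 a = TT (Fin 3) F 0 2 a := by
  apply Subtype.ext
  rw [TT_coe (by decide), T02_coe]
  ext i j
  fin_cases i <;> fin_cases j <;> simp [Matrix.transvection, Matrix.single_apply]

theorem T12_eq (a : F) : T12 a = TT (Fin 3) F 1 2 a := by
  apply Subtype.ext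
  rw [TT_coe (by decide), T12_coe]
  ext i j
  fin_cases i <;> fin_cases j <;> simp [Matrix.transvection, Matrix.single_apply]

theorem conjCminv_xm (a : F) : MulAut.conj (Cm F)⁻¹ (emb F (xm a)) = TT (Fin 3) F 2 0 a := by
  have key : emb F (xm a) * Cm F = Cm F * TT (Fin 3) F 2 0 a := by
    apply Subtype.ext
    simp only [Matrix.SpecialLinearGroup.coe_mul, Cm_coe, emb_xm_coe]
    rw [TT_coe (by decide)]
    ext i j
    fin_cases i <;> fin_cases j <;>
      simp [Matrix.mul_apply, Fin.sum_univ_three, Matrix.transvection, Matrix.single_apply]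
  rw [MulAut.conj_apply, inv_inv, mul_assoc, key]
  group

theorem conjCm_ym (a : F) : MulAut.conj (Cm F) (emb F (ym a)) = TT (Fin 3) F 2 1 a := by
  rw [MulAut.conj_apply, mul_inv_eq_iff_eq_mul]
  apply Subtype.ext
  simp only [Matrix.SpecialLinearGroup.coe_mul, Cm_coe, emb_ym_coe]
  rw [TT_coe (by decide)]
  ext i j
  fin_cases i <;> fin_cases j <;>
    simp [Matrix.mul_apply, Fin.sum_univ_three, Matrix.transvection, Matrix.single_apply]

/-- in the model the root elements are the transvections -/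
theorem rxM (i j : Fin 3) (a : F) : rx (emb F) (Cm F) i j a = TT (Fin 3) F i j a := by
  fin_cases i <;> fin_cases j
  · exact (TT_diag _ _).symm
  · exact pairHom_true _ a
  · exact (conjCminv_ym a).trans (T02_eq a)
  · exact pairHom_false _ a
  · exact (TT_diag _ _).symm
  · exact (conjCm_xm a).trans (T12_eq a)
  · exact conjCminv_xm a
  · exact conjCm_ym a
  · exact (TT_diag _ _).symm

end recog

section recog2

variable {Γ : Type*} [Group Γ]

theorem wm_eq_prod : wm F = xm 1 * ym (-1) * xm 1 := by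
  have h := w_one_eq (F := F)
  rw [wm_xm'] at h
  exact h.symm

/-- the recognition theorem: a group with a configuration and the spread relations, mapping
compatibly to `SL₃(F)` and generated by the image of `SL₂(F)` and `c`, is `SL₃(F)` -/
theorem bijective_of_cfg [Finite F] (π : Γ →* Matrix.SpecialLinearGroup (Fin 3) F)
    (φ : Matrix.SpecialLinearGroup (Fin 2) F →* Γ) (c : Γ) (ζ : Fˣ) (C : Cfg φ c ζ)
    (S : Spread φ c) (hπφ : ∀ m, π (φ m) = emb F m) (hπc : π c = Cm F)
    (hgen : Subgroup.closure (Set.range φ ∪ {c}) = ⊤) : Function.Bijective π := by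
  have hAB : StRelAB (rx φ c) := C.stRelAB S
  have hrel : StRel (rx φ c) := stRel_of_stRelAB (by simp) hAB
  have hπ : ∀ i j t, π (rx φ c i j t) = TT (Fin 3) F i j t := by
    intro i j t
    rw [map_rx]
    have e1 : π.comp φ = emb F := MonoidHom.ext hπφ
    rw [e1, hπc, rxM]
  -- generation by the root elements
  set K := Subgroup.closure {g | ∃ i j t, g = rx φ c i j t} with hK
  have hmem : ∀ i j t, rx φ c i j t ∈ K := fun i j t => Subgroup.subset_closure ⟨i, j, t, rfl⟩
  have hφ : ∀ m, φ m ∈ K := by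
    intro m
    have hm : m ∈ Subgroup.closure (Set.range (mx (K := F))) := by
      rw [closure_mx]; exact Subgroup.mem_top m
    induction hm using Subgroup.closure_induction with
    | mem x hx =>
      obtain ⟨⟨b, a⟩, rfl⟩ := hx
      cases b
      · exact hmem 1 0 a
      · exact hmem 0 1 a
    | one => rw [map_one]; exact one_mem _
    | mul x y _ _ hx hy => rw [map_mul]; exact mul_mem hx hy
    | inv x _ hx => rw [map_inv]; exact inv_mem hx
  have hc : c ∈ K := by
    have h1 : MulAut.conj c (φ (wm F)) ∈ K := by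
      rw [wm_eq_prod, map_mul, map_mul, map_mul, map_mul]
      exact mul_mem (mul_mem (hmem 1 2 1) (hmem 2 1 (-1))) (hmem 1 2 1)
    have h2 : c = (φ (wm F))⁻¹ * (MulAut.conj c (φ (wm F)))⁻¹ := by
      rw [MulAut.conj_apply]
      have e1 := C.tc2
      have e2 := C.cc
      calc c = (c⁻¹)⁻¹ := (inv_inv c).symm
        _ = (c * c)⁻¹ := by rw [e2]
        _ = c⁻¹ * φ (wm F) * (φ (wm F))⁻¹ * c⁻¹ := by group
        _ = (φ (wm F))⁻¹ * c * (φ (wm F))⁻¹ * c⁻¹ := by rw [← e1]
        _ = (φ (wm F))⁻¹ * (c * φ (wm F) * c⁻¹)⁻¹ := by group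
    rw [h2]
    exact mul_mem (inv_mem (hφ _)) (inv_mem h1)
  have hgen' : K = ⊤ := by
    rw [eq_top_iff, ← hgen, Subgroup.closure_le]
    rintro g (⟨m, rfl⟩ | hg)
    · exact hφ m
    · rw [Set.mem_singleton_iff] at hg
      rw [hg]; exact hc
  constructor
  · exact injective_of_stRel F (Fin 3) (by simp) hrel hgen' π hπ
  · intro A
    refine Cfsg.Agent.Lib.Helper5_SLGen.transvection_induction
      (fun A => ∃ g, π g = A) ?_ ?_ A
    · intro i j hij a
      exact ⟨rx φ c i j a, by rw [hπ, TT_of_ne hij]⟩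
    · rintro A B ⟨g, rfl⟩ ⟨g', rfl⟩
      exact ⟨g * g', map_mul _ _ _⟩

end recog2

end Cfsg.Agent.Lib.Helper66_SL3Pres
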