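import Mathlib
import Cfsg.Agent.Lib.Helper66_SL3PresD
import Cfsg.Agent.Lib.Helper5_SLPresM

set_option autoImplicit false

/-!
The bounded presentations of `SL₃(F)`: fourteen relators in odd characteristic, thirteen in
characteristic two.
-/

namespace Cfsg.Agent.Lib.Helper66_SL3Pres

open Matrix Cfsg.Agent.Lib.Helper5_SLPresE Cfsg.Agent.Lib.Helper66_StCalc
  Cfsg.Agent.Lib.Helper5_SteinbergA Cfsg.Agent.Lib.Helper5_SLPresA
  Cfsg.Agent.Lib.Helper5_SLPresC Cfsg.Agent.Lib.Helper5_SLPresG Cfsg.Agent.Lib.Helper5_SLPresJ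
  Cfsg.Agent.Lib.Helper5_SLPresK Cfsg.Agent.Lib.Helper5_SLPresL

variable {F : Type*} [Field F]

/-! ### homomorphisms out of `SL₂(F)` from the relations -/

section homs

variable [Finite F] {Γ : Type*} [Group Γ]

theorem hom_ext_odd {P : OddParams} {ζ : Fˣ} (A : OddArith F P ζ) {H : Type*} [Group H]
    (f g : Matrix.SpecialLinearGroup (Fin 2) F →* H) (h1 : f (xm 1) = g (xm 1))
    (h2 : f (wm F) = g (wm F)) (h3 : f (hm ζ) = g (hm ζ)) : f = g := by
  have hb := odd_bijective A
  set T := PresentedGroup.toGroup (lift_oddFinset A) with hT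
  have hcomp : f.comp T = g.comp T := by
    apply PresentedGroup.ext
    intro i
    show f (T (PresentedGroup.of i)) = g (T (PresentedGroup.of i))
    rw [hT, PresentedGroup.toGroup.of]
    fin_cases i
    · exact h1
    · exact h2
    · exact h3
  ext1 m
  obtain ⟨y, rfl⟩ := hb.2 m
  exact DFunLike.congr_fun hcomp y

theorem exists_hom_odd {P : OddParams} {ζ : Fˣ} (A : OddArith F P ζ) {u t h : Γ}
    (H : OddHolds P u t h) :
    ∃ φ : Matrix.SpecialLinearGroup (Fin 2) F →* Γ,
      φ (xm 1) = u ∧ φ (wm F) = t ∧ φ (hm ζ) = h := by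
  have hb := odd_bijective A
  set T := PresentedGroup.toGroup (lift_oddFinset A) with hT
  let e := MulEquiv.ofBijective T hb
  have hrel : ∀ r ∈ (↑(oddFinset P) : Set (FreeGroup (Fin 3))),
      FreeGroup.lift ![u, t, h] r = 1 := by
    intro r hr
    rw [Finset.mem_coe, oddFinset, List.mem_toFinset] at hr
    have h1 : FreeGroup.lift ![u, t, h] r ∈
        (oddRels P gu gt gh).map (FreeGroup.lift ![u, t, h]) := List.mem_map_of_mem hr
    rw [map_oddRels] at h1
    have e1 : FreeGroup.lift ![u, t, h] gu = u := by simp [gu]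
    have e2 : FreeGroup.lift ![u, t, h] gt = t := by simp [gt]
    have e3 : FreeGroup.lift ![u, t, h] gh = h := by simp [gh]
    rw [e1, e2, e3] at h1
    exact (oddHolds_iff P u t h).mpr H _ h1
  let g := PresentedGroup.toGroup hrel
  refine ⟨g.comp e.symm.toMonoidHom, ?_, ?_, ?_⟩
  · have : e.symm (xm 1) = PresentedGroup.of 0 := by
      rw [MulEquiv.symm_apply_eq]
      show xm 1 = T (PresentedGroup.of 0)
      rw [hT, PresentedGroup.toGroup.of]; rfl
    show g (e.symm (xm 1)) = u
    rw [this, PresentedGroup.toGroup.of]; rfl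
  · have : e.symm (wm F) = PresentedGroup.of 1 := by
      rw [MulEquiv.symm_apply_eq]
      show wm F = T (PresentedGroup.of 1)
      rw [hT, PresentedGroup.toGroup.of]; rfl
    show g (e.symm (wm F)) = t
    rw [this, PresentedGroup.toGroup.of]; rfl
  · have : e.symm (hm ζ) = PresentedGroup.of 2 := by
      rw [MulEquiv.symm_apply_eq]
      show hm ζ = T (PresentedGroup.of 2)
      rw [hT, PresentedGroup.toGroup.of]; rfl
    show g (e.symm (hm ζ)) = h
    rw [this, PresentedGroup.toGroup.of]; rfl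

theorem hom_ext_even {P : EvenParams} {ζ : Fˣ} (A : EvenArith F P ζ) {H : Type*} [Group H]
    (f g : Matrix.SpecialLinearGroup (Fin 2) F →* H) (h1 : f (xm 1) = g (xm 1))
    (h2 : f (wm F) = g (wm F)) (h3 : f (hm ζ * (wm F)⁻¹) = g (hm ζ * (wm F)⁻¹)) : f = g := by
  have hb := even_bijective A
  set T := PresentedGroup.toGroup (lift_evenFinset A) with hT
  have hcomp : f.comp T = g.comp T := by
    apply PresentedGroup.ext
    intro i
    show f (T (PresentedGroup.of i)) = g (T (PresentedGroup.of i))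
    rw [hT, PresentedGroup.toGroup.of]
    fin_cases i
    · exact h1
    · exact h2
    · exact h3
  ext1 m
  obtain ⟨y, rfl⟩ := hb.2 m
  exact DFunLike.congr_fun hcomp y

theorem exists_hom_even {P : EvenParams} {ζ : Fˣ} (A : EvenArith F P ζ) {u t n : Γ}
    (H : EvenHolds P u t n) :
    ∃ φ : Matrix.SpecialLinearGroup (Fin 2) F →* Γ,
      φ (xm 1) = u ∧ φ (wm F) = t ∧ φ (hm ζ * (wm F)⁻¹) = n := by
  have hb := even_bijective A
  set T := PresentedGroup.toGroup (lift_evenFinset A) with hT
  let e := MulEquiv.ofBijective T hb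
  have hrel : ∀ r ∈ (↑(evenFinset P) : Set (FreeGroup (Fin 3))),
      FreeGroup.lift ![u, t, n] r = 1 := by
    intro r hr
    rw [Finset.mem_coe, evenFinset, List.mem_toFinset] at hr
    have h1 : FreeGroup.lift ![u, t, n] r ∈
        (evenRels P gu gt gh).map (FreeGroup.lift ![u, t, n]) := List.mem_map_of_mem hr
    rw [map_evenRels] at h1
    have e1 : FreeGroup.lift ![u, t, n] gu = u := by simp [gu]
    have e2 : FreeGroup.lift ![u, t, n] gt = t := by simp [gt]
    have e3 : FreeGroup.lift ![u, t, n] gh = n := by simp [gh]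
    rw [e1, e2, e3] at h1
    exact (evenHolds_iff P u t n).mpr H _ h1
  let g := PresentedGroup.toGroup hrel
  refine ⟨g.comp e.symm.toMonoidHom, ?_, ?_, ?_⟩
  · have : e.symm (xm 1) = PresentedGroup.of 0 := by
      rw [MulEquiv.symm_apply_eq]
      show xm 1 = T (PresentedGroup.of 0)
      rw [hT, PresentedGroup.toGroup.of]; rfl
    show g (e.symm (xm 1)) = u
    rw [this, PresentedGroup.toGroup.of]; rfl
  · have : e.symm (wm F) = PresentedGroup.of 1 := by
      rw [MulEquiv.symm_apply_eq]
      show wm F = T (PresentedGroup.of 1)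
      rw [hT, PresentedGroup.toGroup.of]; rfl
    show g (e.symm (wm F)) = t
    rw [this, PresentedGroup.toGroup.of]; rfl
  · have : e.symm (hm ζ * (wm F)⁻¹) = PresentedGroup.of 2 := by
      rw [MulEquiv.symm_apply_eq]
      show hm ζ * (wm F)⁻¹ = T (PresentedGroup.of 2)
      rw [hT, PresentedGroup.toGroup.of]; rfl
    show g (e.symm (hm ζ * (wm F)⁻¹)) = n
    rw [this, PresentedGroup.toGroup.of]; rfl

end homs

/-! ### the presentation in odd characteristic -/

/-- the four generators of the free group -/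
def q0 : FreeGroup (Fin 4) := FreeGroup.of 0
/-- second generator -/
def q1 : FreeGroup (Fin 4) := FreeGroup.of 1
/-- third generator -/
def q2 : FreeGroup (Fin 4) := FreeGroup.of 2
/-- fourth generator -/
def q3 : FreeGroup (Fin 4) := FreeGroup.of 3

/-- the fourteen relators in odd characteristic -/
def oddList (P : OddParams) : List (FreeGroup (Fin 4)) :=
  oddRels P q0 q1 q2 ++ (common5 (opt q0 q2 P.o₃ * opt q0 q2 P.o₄) q0 q1 q2 q3 ++
    [seedRel q0 q0 q1 q3])

theorem length_oddList (P : OddParams) : (oddList P).length = 14 := by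
  simp [oddList, oddRels, common5]

/-- the images of the four generators -/
noncomputable def gensM (ζ : Fˣ) : Fin 4 → Matrix.SpecialLinearGroup (Fin 3) F :=
  ![emb F (xm 1), emb F (wm F), emb F (hm ζ), Cm F]

theorem lift_q0 (ζ : Fˣ) : FreeGroup.lift (gensM ζ) q0 = emb F (xm 1) := by simp [q0, gensM]
theorem lift_q1 (ζ : Fˣ) : FreeGroup.lift (gensM ζ) q1 = emb F (wm F) := by simp [q1, gensM]
theorem lift_q2 (ζ : Fˣ) : FreeGroup.lift (gensM ζ) q2 = emb F (hm ζ) := by simp [q2, gensM]
theorem lift_q3 (ζ : Fˣ) : FreeGroup.lift (gensM ζ) q3 = Cm F := by simp [q3, gensM]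

theorem closure_four (rels : Set (FreeGroup (Fin 4))) :
    Subgroup.closure ({PresentedGroup.mk rels q0, PresentedGroup.mk rels q1,
      PresentedGroup.mk rels q2, PresentedGroup.mk rels q3} : Set (PresentedGroup rels)) = ⊤ := by
  rw [eq_top_iff, ← PresentedGroup.closure_range_of rels]
  apply Subgroup.closure_mono
  rintro _ ⟨i, rfl⟩
  fin_cases i
  · left; rfl
  · right; left; rfl
  · right; right; left; rfl
  · right; right; right; rfl

theorem genU_of_gen {ζ : Fˣ} (gen : ∀ a : F, a ≠ 0 → ∃ m : ℕ, a = (ζ : F) ^ m) (s : Fˣ) :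
    ∃ m : ℕ, s = ζ ^ m := by
  obtain ⟨m, hm⟩ := gen s s.ne_zero
  exact ⟨m, Units.ext (by simpa using hm)⟩

theorem odd_main3 (F : Type*) [Field F] [Finite F] (h2 : ringChar F ≠ 2) :
    ∃ rels : Finset (FreeGroup (Fin 4)), rels.card ≤ 14 ∧
      Nonempty (PresentedGroup (↑rels : Set (FreeGroup (Fin 4))) ≃*
        Matrix.SpecialLinearGroup (Fin 3) F) := by
  classical
  obtain ⟨P, ζ, A⟩ := exists_oddArith F h2
  have genU := genU_of_gen A.gen
  refine ⟨(oddList P).toFinset,
    (List.toFinset_card_le _).trans (le_of_eq (length_oddList P)), ?_⟩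
  set rels : Set (FreeGroup (Fin 4)) := ↑(oddList P).toFinset with hrels
  -- the word for `x(ζ⁻¹)` in the model
  have hxzM : opt (emb F (xm 1)) (emb F (hm ζ)) P.o₃ * opt (emb F (xm 1)) (emb F (hm ζ)) P.o₄ =
      emb F (xm (ζ : F)⁻¹) := by
    rw [← map_opt, ← map_opt, ← map_mul, opt_xm, opt_xm, xm_add, ← A.ho34]
  -- the relators hold in the model
  have liftM : ∀ r ∈ rels, FreeGroup.lift (gensM ζ) r = 1 := by
    intro r hr
    rw [hrels, Finset.mem_coe, List.mem_toFinset] at hr
    have h1 : FreeGroup.lift (gensM ζ) r ∈ (oddList P).map (FreeGroup.lift (gensM ζ)) :=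
      List.mem_map_of_mem hr
    rw [oddList, List.map_append, List.map_append, map_oddRels, map_common5, List.map_singleton,
      map_seedRel, map_mul, map_opt, map_opt, lift_q0, lift_q1, lift_q2, lift_q3, hxzM,
      List.mem_append, List.mem_append, List.mem_singleton] at h1
    rcases h1 with h1 | h1 | h1
    · rw [← map_oddRels, List.mem_map] at h1
      obtain ⟨r0, hr0, hr1⟩ := h1
      rw [← hr1, (oddHolds_iff P _ _ _).mpr (oddHolds_matrix A) r0 hr0, map_one]
    · exact (commonHolds_iff _ _ _ _ _).mpr (cfgM ζ genU A.sq).commonHolds _ h1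
    · rw [h1]
      exact (seedRel_eq_one_iff _ _ _ _).mpr ((seedHolds_iff (emb F) (Cm F) 1).mpr (seedM 1))
  set π := PresentedGroup.toGroup liftM with hπdef
  -- the relators hold in the presented group
  set u := PresentedGroup.mk rels q0 with hu
  set t := PresentedGroup.mk rels q1 with ht
  set h := PresentedGroup.mk rels q2 with hh
  set c := PresentedGroup.mk rels q3 with hc
  have hall : ∀ r ∈ (oddList P).map (PresentedGroup.mk rels), r = 1 := by
    intro r hr
    rw [List.mem_map] at hr
    obtain ⟨r0, hr0, rfl⟩ := hr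
    apply PresentedGroup.one_of_mem
    rw [hrels, Finset.mem_coe, List.mem_toFinset]
    exact hr0
  rw [oddList, List.map_append, List.map_append, map_oddRels, map_common5, List.map_singleton,
    map_seedRel, map_mul, map_opt, map_opt] at hall
  have H1 : OddHolds P u t h :=
    (oddHolds_iff P u t h).mp (fun r hr => hall r (List.mem_append_left _ hr))
  have H2 : CommonHolds (opt u h P.o₃ * opt u h P.o₄) u t h c :=
    (commonHolds_iff _ _ _ _ _).mp
      (fun r hr => hall r (List.mem_append_right _ (List.mem_append_left _ hr)))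
  have H3 : SeedHolds u u t c :=
    (seedRel_eq_one_iff _ _ _ _).mp
      (hall _ (List.mem_append_right _ (List.mem_append_right _ (List.mem_singleton.mpr rfl))))
  obtain ⟨φ, φu, φt, φh⟩ := exists_hom_odd A H1
  have hxz : opt u h P.o₃ * opt u h P.o₄ = φ (xm (ζ : F)⁻¹) := by
    rw [← φu, ← φh, ← map_opt, ← map_opt, ← map_mul, opt_xm, opt_xm, xm_add, ← A.ho34]
  rw [hxz, ← φu, ← φt, ← φh] at H2
  have C : Cfg φ c ζ := cfg_of_commonHolds φ c ζ genU A.sq H2
  rw [← φu, ← φt] at H3
  have seed : CRx φ c 1 1 1 := (seedHolds_iff φ c 1).mp H3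
  have S : Spread φ c := C.spreadII (cubes_top_of_odd h2) seed
  have hπu : π u = emb F (xm 1) := by
    rw [hπdef, hu, q0]; exact (PresentedGroup.toGroup.of liftM).trans (by simp [gensM])
  have hπt : π t = emb F (wm F) := by
    rw [hπdef, ht, q1]; exact (PresentedGroup.toGroup.of liftM).trans (by simp [gensM])
  have hπh : π h = emb F (hm ζ) := by
    rw [hπdef, hh, q2]; exact (PresentedGroup.toGroup.of liftM).trans (by simp [gensM])
  have hπc : π c = Cm F := by
    rw [hπdef, hc, q3]; exact (PresentedGroup.toGroup.of liftM).trans (by simp [gensM])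
  have hπφ : ∀ m, π (φ m) = emb F m := by
    have : π.comp φ = emb F :=
      hom_ext_odd A _ _ (by rw [MonoidHom.comp_apply, φu, hπu])
        (by rw [MonoidHom.comp_apply, φt, hπt]) (by rw [MonoidHom.comp_apply, φh, hπh])
    intro m
    exact DFunLike.congr_fun this m
  have hgen : Subgroup.closure (Set.range φ ∪ {c}) = ⊤ := by
    rw [eq_top_iff, ← closure_four rels]
    apply Subgroup.closure_mono
    rintro g (rfl | rfl | rfl | rfl)
    · exact Or.inl ⟨xm 1, φu⟩
    · exact Or.inl ⟨wm F, φt⟩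
    · exact Or.inl ⟨hm ζ, φh⟩
    · exact Or.inr rfl
  exact ⟨MulEquiv.ofBijective π (bijective_of_cfg π φ c ζ C S hπφ hπc hgen)⟩


/-! ### the presentation in characteristic two -/

/-- the thirteen relators in characteristic two -/
def evenList (P : EvenParams) : List (FreeGroup (Fin 4)) :=
  evenRels P q0 q1 q2 ++ (common5 (cj q0 (q2 * q1) P.i₂) q0 q1 (q2 * q1) q3 ++
    [seedRel q0 q0 q1 q3, seedRel (cj q0 (q2 * q1) P.i₁) q0 q1 q3,
      seedRel (cj q0 (q2 * q1) 1) q0 q1 q3])

theorem length_evenList (P : EvenParams) : (evenList P).length = 13 := by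
  simp [evenList, evenRels, common5]

/-- the images of the four generators in characteristic two -/
noncomputable def gensM' (ζ : Fˣ) : Fin 4 → Matrix.SpecialLinearGroup (Fin 3) F :=
  ![emb F (xm 1), emb F (wm F), emb F (hm ζ * (wm F)⁻¹), Cm F]

theorem lift_q0' (ζ : Fˣ) : FreeGroup.lift (gensM' ζ) q0 = emb F (xm 1) := by simp [q0, gensM']
theorem lift_q1' (ζ : Fˣ) : FreeGroup.lift (gensM' ζ) q1 = emb F (wm F) := by simp [q1, gensM']
theorem lift_q2' (ζ : Fˣ) : FreeGroup.lift (gensM' ζ) q2 = emb F (hm ζ * (wm F)⁻¹) := by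
  simp [q2, gensM']
theorem lift_q3' (ζ : Fˣ) : FreeGroup.lift (gensM' ζ) q3 = Cm F := by simp [q3, gensM']

theorem even_main3 (F : Type*) [Field F] [Finite F] (h2 : ringChar F = 2) :
    ∃ rels : Finset (FreeGroup (Fin 4)), rels.card ≤ 14 ∧
      Nonempty (PresentedGroup (↑rels : Set (FreeGroup (Fin 4))) ≃*
        Matrix.SpecialLinearGroup (Fin 3) F) := by
  classical
  obtain ⟨P, ζ, A⟩ := exists_evenArith F h2
  have genU := genU_of_gen A.gen
  have sq2 : ∀ a : F, ∃ r s : F, a = r ^ 2 + s ^ 2 := by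
    intro a
    by_cases ha : a = 0
    · exact ⟨0, 0, by rw [ha]; ring⟩
    · obtain ⟨m, hm⟩ := A.gen2 a ha
      exact ⟨(ζ : F) ^ m, 0, by rw [hm]; ring⟩
  refine ⟨(evenList P).toFinset,
    (List.toFinset_card_le _).trans (by rw [length_evenList]; norm_num), ?_⟩
  set rels : Set (FreeGroup (Fin 4)) := ↑(evenList P).toFinset with hrels
  have lift_hq : FreeGroup.lift (gensM' ζ) (q2 * q1) = emb F (hm ζ) := by
    rw [map_mul, lift_q2', lift_q1', ← map_mul, inv_mul_cancel_right]
  -- the words for `x(ζ⁻¹)`, `x(ζ)`, `x(ζ²)` in the model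
  have hcjM : ∀ i : ℕ, cj (emb F (xm 1)) (emb F (hm ζ)) i =
      emb F (xm (((ζ : F) ^ 2) ^ i)) := by
    intro i
    rw [← map_cj, cj_xm, mul_one]
  -- the relators hold in the model
  have liftM : ∀ r ∈ rels, FreeGroup.lift (gensM' ζ) r = 1 := by
    intro r hr
    rw [hrels, Finset.mem_coe, List.mem_toFinset] at hr
    have h1 : FreeGroup.lift (gensM' ζ) r ∈ (evenList P).map (FreeGroup.lift (gensM' ζ)) :=
      List.mem_map_of_mem hr
    rw [evenList, List.map_append, List.map_append, map_evenRels, map_common5] at h1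
    simp only [List.map_cons, List.map_nil, map_seedRel, map_cj] at h1
    simp only [lift_hq, lift_q0', lift_q1', lift_q2', lift_q3', hcjM] at h1
    rw [List.mem_append, List.mem_append] at h1
    rcases h1 with h1 | h1 | h1
    · rw [← map_evenRels, List.mem_map] at h1
      obtain ⟨r0, hr0, hr1⟩ := h1
      rw [← hr1, (evenHolds_iff P _ _ _).mpr (evenHolds_matrix A) r0 hr0, map_one]
    · rw [← A.hi2] at h1
      exact (commonHolds_iff _ _ _ _ _).mpr (cfgM ζ genU sq2).commonHolds _ h1
    · simp only [List.mem_cons, List.not_mem_nil, or_false] at h1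
      rcases h1 with h1 | h1 | h1
      · rw [h1]
        exact (seedRel_eq_one_iff _ _ _ _).mpr ((seedHolds_iff (emb F) (Cm F) 1).mpr (seedM 1))
      · rw [h1]
        exact (seedRel_eq_one_iff _ _ _ _).mpr
          ((seedHolds_iff (emb F) (Cm F) (((ζ : F) ^ 2) ^ P.i₁)).mpr (seedM _))
      · rw [h1]
        exact (seedRel_eq_one_iff _ _ _ _).mpr
          ((seedHolds_iff (emb F) (Cm F) (((ζ : F) ^ 2) ^ 1)).mpr (seedM _))
  set π := PresentedGroup.toGroup liftM with hπdef
  -- the relators hold in the presented group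
  set u := PresentedGroup.mk rels q0 with hu
  set t := PresentedGroup.mk rels q1 with ht
  set n := PresentedGroup.mk rels q2 with hn
  set c := PresentedGroup.mk rels q3 with hc
  have hall : ∀ r ∈ (evenList P).map (PresentedGroup.mk rels), r = 1 := by
    intro r hr
    rw [List.mem_map] at hr
    obtain ⟨r0, hr0, rfl⟩ := hr
    apply PresentedGroup.one_of_mem
    rw [hrels, Finset.mem_coe, List.mem_toFinset]
    exact hr0
  rw [evenList, List.map_append, List.map_append, map_evenRels, map_common5] at hall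
  simp only [List.map_cons, List.map_nil, map_seedRel, map_cj, map_mul] at hall
  have H1 : EvenHolds P u t n :=
    (evenHolds_iff P u t n).mp (fun r hr => hall r (List.mem_append_left _ hr))
  have H2 : CommonHolds (cj u (n * t) P.i₂) u t (n * t) c :=
    (commonHolds_iff _ _ _ _ _).mp
      (fun r hr => hall r (List.mem_append_right _ (List.mem_append_left _ hr)))
  have H3 : SeedHolds u u t c :=
    (seedRel_eq_one_iff _ _ _ _).mp
      (hall _ (List.mem_append_right _ (List.mem_append_right _ List.mem_cons_self)))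
  have H4 : SeedHolds (cj u (n * t) P.i₁) u t c :=
    (seedRel_eq_one_iff _ _ _ _).mp
      (hall _ (List.mem_append_right _ (List.mem_append_right _
        (List.mem_cons_of_mem _ List.mem_cons_self))))
  have H5 : SeedHolds (cj u (n * t) 1) u t c :=
    (seedRel_eq_one_iff _ _ _ _).mp
      (hall _ (List.mem_append_right _ (List.mem_append_right _
        (List.mem_cons_of_mem _ (List.mem_cons_of_mem _ List.mem_cons_self)))))
  obtain ⟨φ, φu, φt, φn⟩ := exists_hom_even A H1
  have φh : φ (hm ζ) = n * t := by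
    rw [← φn, ← φt, ← map_mul, inv_mul_cancel_right]
  have hcj : ∀ i : ℕ, cj u (n * t) i = φ (xm (((ζ : F) ^ 2) ^ i)) := by
    intro i
    rw [← φu, ← φh, ← map_cj, cj_xm, mul_one]
  rw [hcj, ← A.hi2, ← φh, ← φu, ← φt] at H2
  have C : Cfg φ c ζ := cfg_of_commonHolds φ c ζ genU sq2 H2
  rw [← φu, ← φt] at H3
  rw [hcj, ← A.hi1, ← φu, ← φt] at H4
  rw [hcj, pow_one, ← φu, ← φt] at H5
  have seeds : ∀ i : ℕ, i < 3 → CRx φ c 1 ((ζ : F) ^ i) ((ζ : F) ^ i) := by
    intro i hi
    interval_cases i
    · rw [pow_zero]; exact (seedHolds_iff φ c 1).mp H3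
    · rw [pow_one]; exact (seedHolds_iff φ c _).mp H4
    · exact (seedHolds_iff φ c _).mp H5
  have S : Spread φ c := C.spreadI seeds
  have hπu : π u = emb F (xm 1) := by
    rw [hπdef, hu, q0]; exact (PresentedGroup.toGroup.of liftM).trans (by simp [gensM'])
  have hπt : π t = emb F (wm F) := by
    rw [hπdef, ht, q1]; exact (PresentedGroup.toGroup.of liftM).trans (by simp [gensM'])
  have hπn : π n = emb F (hm ζ * (wm F)⁻¹) := by
    rw [hπdef, hn, q2]; exact (PresentedGroup.toGroup.of liftM).trans (by simp [gensM'])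
  have hπc : π c = Cm F := by
    rw [hπdef, hc, q3]; exact (PresentedGroup.toGroup.of liftM).trans (by simp [gensM'])
  have hπφ : ∀ m, π (φ m) = emb F m := by
    have : π.comp φ = emb F :=
      hom_ext_even A _ _ (by rw [MonoidHom.comp_apply, φu, hπu])
        (by rw [MonoidHom.comp_apply, φt, hπt]) (by rw [MonoidHom.comp_apply, φn, hπn])
    intro m
    exact DFunLike.congr_fun this m
  have hgen : Subgroup.closure (Set.range φ ∪ {c}) = ⊤ := by
    rw [eq_top_iff, ← closure_four rels]
    apply Subgroup.closure_mono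
    rintro g (rfl | rfl | rfl | rfl)
    · exact Or.inl ⟨xm 1, φu⟩
    · exact Or.inl ⟨wm F, φt⟩
    · exact Or.inl ⟨hm ζ * (wm F)⁻¹, φn⟩
    · exact Or.inr rfl
  exact ⟨MulEquiv.ofBijective π (bijective_of_cfg π φ c ζ C S hπφ hπc hgen)⟩

end Cfsg.Agent.Lib.Helper66_SL3Pres
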