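import Mathlib
import Cfsg.Agent.Lib.Helper66_C2Rec
import Cfsg.Agent.Lib.Helper66_SL3PresE
import Cfsg.Agent.S0246

set_option autoImplicit false

/-!
The bounded presentations of `Sp₄(F)` and `PSp₄(F)` (helper66): six generators and 28 relators in
odd characteristic, 22 in characteristic two; one more relator for the central quotient.
-/

namespace Cfsg.Agent.Lib.Helper66_C2

open Matrix Cfsg.Agent.Lib.Helper5_SLPresE Cfsg.Agent.Lib.Helper66_SL3Pres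
  Cfsg.Agent.Lib.Helper5_SteinbergA Cfsg.Agent.Lib.Helper5_SLPresA
  Cfsg.Agent.Lib.Helper5_SLPresC Cfsg.Agent.Lib.Helper5_SLPresG Cfsg.Agent.Lib.Helper5_SLPresJ
  Cfsg.Agent.Lib.Helper5_SLPresK Cfsg.Agent.Lib.Helper5_SLPresL

variable {F : Type*} [Field F]

/-! ### the twelve extra relators -/

section words

variable {G : Type*} [Group G]

/-- the twelve extra relators -/
def common12 (xz u₁ t₁ h₁ u₂ t₂ h₂ : G) : List G :=
  [h₁ * h₂ * h₁⁻¹ * h₂⁻¹,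
   t₂ * h₁ * t₂⁻¹ * (h₁ * h₂ * h₂)⁻¹,
   t₁ * h₂ * t₁⁻¹ * (h₁ * h₂)⁻¹,
   h₂ * u₁ * h₂⁻¹ * xz⁻¹,
   h₁ * u₂ * h₁⁻¹ * (h₂⁻¹ * u₂ * h₂)⁻¹,
   (t₁ * t₂) ^ 4 * (t₁ * t₁)⁻¹,
   (t₂ * t₁ * t₂⁻¹) * u₁ * (t₂ * t₁ * t₂⁻¹)⁻¹ * u₁,
   (t₁ * t₂ * t₁⁻¹) * u₂ * (t₁ * t₂ * t₁⁻¹)⁻¹ * u₂⁻¹,
   u₂ * (t₁⁻¹ * u₂ * t₁) * u₂⁻¹ * (t₁⁻¹ * u₂ * t₁)⁻¹,
   u₂ * (t₂⁻¹ * u₁ * t₂) * u₂⁻¹ * (t₂⁻¹ * u₁ * t₂)⁻¹,
   u₁ * (t₂⁻¹ * u₁ * t₂) * u₁⁻¹ * (t₂⁻¹ * u₁ * t₂)⁻¹ * ((t₁⁻¹ * u₂ * t₁) * (t₁⁻¹ * u₂ * t₁))⁻¹,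
   u₁ * u₂ * u₁⁻¹ * u₂⁻¹ * ((t₂⁻¹ * u₁ * t₂) * (t₁⁻¹ * u₂ * t₁))⁻¹]

theorem map_common12 {H : Type*} [Group H] (f : G →* H) (xz u₁ t₁ h₁ u₂ t₂ h₂ : G) :
    (common12 xz u₁ t₁ h₁ u₂ t₂ h₂).map f =
      common12 (f xz) (f u₁) (f t₁) (f h₁) (f u₂) (f t₂) (f h₂) := by
  simp only [common12, List.map_cons, List.map_nil, map_mul, map_inv, map_pow]

/-- the twelve relations, unpacked -/
structure CommonHolds12 (xz u₁ t₁ h₁ u₂ t₂ h₂ : G) : Prop where
  r1 : h₁ * h₂ * h₁⁻¹ = h₂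
  r2 : t₂ * h₁ * t₂⁻¹ = h₁ * h₂ * h₂
  r3 : t₁ * h₂ * t₁⁻¹ = h₁ * h₂
  r4 : h₂ * u₁ * h₂⁻¹ = xz
  r5 : h₁ * u₂ * h₁⁻¹ = h₂⁻¹ * u₂ * h₂
  r6 : (t₁ * t₂) ^ 4 = t₁ * t₁
  r7 : (t₂ * t₁ * t₂⁻¹) * u₁ * (t₂ * t₁ * t₂⁻¹)⁻¹ = u₁⁻¹
  r8 : (t₁ * t₂ * t₁⁻¹) * u₂ * (t₁ * t₂ * t₁⁻¹)⁻¹ = u₂
  r9 : u₂ * (t₁⁻¹ * u₂ * t₁) * u₂⁻¹ = t₁⁻¹ * u₂ * t₁
  r10 : u₂ * (t₂⁻¹ * u₁ * t₂) * u₂⁻¹ = t₂⁻¹ * u₁ * t₂
  r11 : u₁ * (t₂⁻¹ * u₁ * t₂) * u₁⁻¹ * (t₂⁻¹ * u₁ * t₂)⁻¹ = (t₁⁻¹ * u₂ * t₁) * (t₁⁻¹ * u₂ * t₁)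
  r12 : u₁ * u₂ * u₁⁻¹ * u₂⁻¹ = (t₂⁻¹ * u₁ * t₂) * (t₁⁻¹ * u₂ * t₁)

theorem commonHolds12_iff (xz u₁ t₁ h₁ u₂ t₂ h₂ : G) :
    (∀ r ∈ common12 xz u₁ t₁ h₁ u₂ t₂ h₂, r = 1) ↔ CommonHolds12 xz u₁ t₁ h₁ u₂ t₂ h₂ := by
  simp only [common12, List.forall_mem_cons, List.not_mem_nil, false_imp_iff, implies_true,
    and_true, mul_inv_eq_one]
  constructor
  · rintro ⟨h1, h2, h3, h4, h5, h6, h7, h8, h9, h10, h11, h12⟩
    exact ⟨h1, h2, h3, h4, h5, h6, mul_eq_one_iff_eq_inv.mp h7, h8, h9, h10, h11, h12⟩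
  · rintro ⟨h1, h2, h3, h4, h5, h6, h7, h8, h9, h10, h11, h12⟩
    exact ⟨h1, h2, h3, h4, h5, h6, mul_eq_one_iff_eq_inv.mpr h7, h8, h9, h10, h11, h12⟩

end words

/-! ### translation into the configuration -/

section translate

variable {Γ : Type*} [Group Γ] (φa φb : Matrix.SpecialLinearGroup (Fin 2) F →* Γ) (ζ : Fˣ)

theorem C2Cfg.commonHolds {φa φb : Matrix.SpecialLinearGroup (Fin 2) F →* Γ} {ζ : Fˣ}
    (C : C2Cfg φa φb ζ) :
    CommonHolds12 (φa (xm (ζ : F)⁻¹)) (φa (xm 1)) (φa (wm F)) (φa (hm ζ)) (φb (xm 1)) (φb (wm F))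
      (φb (hm ζ)) := by
  refine ⟨?_, ?_, ?_, ?_, ?_, C.w4, ?_, ?_, ?_, ?_, ?_, ?_⟩
  · rw [C.hh.eq, mul_inv_cancel_right]
  · have := C.nb_ha
    rwa [MulAut.conj_apply] at this
  · have := C.na_hb
    rwa [MulAut.conj_apply] at this
  · have := C.hb_xa
    rwa [MulAut.conj_apply] at this
  · have := C.ha_xb
    rwa [MulAut.conj_apply, MulAut.conj_apply, inv_inv] at this
  · have := C.s1
    rwa [MulAut.conj_apply, MulAut.conj_apply] at this
  · have := C.s2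
    rwa [MulAut.conj_apply, MulAut.conj_apply] at this
  · have := C.c1.eq
    unfold XD at this
    rw [MulAut.conj_apply, inv_inv] at this
    rw [this, mul_inv_cancel_right]
  · have := C.c2.eq
    unfold XC at this
    rw [MulAut.conj_apply, inv_inv] at this
    rw [this, mul_inv_cancel_right]
  · have := C.c3
    unfold XC XD at this
    rwa [MulAut.conj_apply, MulAut.conj_apply, inv_inv, inv_inv] at this
  · have := C.c4
    unfold XC XD at this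
    rwa [MulAut.conj_apply, MulAut.conj_apply, inv_inv, inv_inv] at this

theorem c2cfg_of_commonHolds (gen : ∀ s : Fˣ, ∃ m : ℕ, s = ζ ^ m)
    (sq2 : ∀ a : F, ∃ r s : F, a = r ^ 2 + s ^ 2)
    (H : CommonHolds12 (φa (xm (ζ : F)⁻¹)) (φa (xm 1)) (φa (wm F)) (φa (hm ζ)) (φb (xm 1))
      (φb (wm F)) (φb (hm ζ))) : C2Cfg φa φb ζ := by
  refine ⟨gen, sq2, ?_, ?_, ?_, ?_, ?_, H.r6, ?_, ?_, ?_, ?_, ?_, ?_⟩
  · show φa (hm ζ) * φb (hm ζ) = φb (hm ζ) * φa (hm ζ)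
    have := H.r1
    rwa [mul_inv_eq_iff_eq_mul] at this
  · rw [MulAut.conj_apply]; exact H.r2
  · rw [MulAut.conj_apply]; exact H.r3
  · rw [MulAut.conj_apply]; exact H.r4
  · rw [MulAut.conj_apply, MulAut.conj_apply, inv_inv]; exact H.r5
  · rw [MulAut.conj_apply, MulAut.conj_apply]; exact H.r7
  · rw [MulAut.conj_apply, MulAut.conj_apply]; exact H.r8
  · show φb (xm 1) * XD φa φb 1 = XD φa φb 1 * φb (xm 1)
    unfold XD
    rw [MulAut.conj_apply, inv_inv]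
    have := H.r9
    rwa [mul_inv_eq_iff_eq_mul] at this
  · show φb (xm 1) * XC φa φb 1 = XC φa φb 1 * φb (xm 1)
    unfold XC
    rw [MulAut.conj_apply, inv_inv]
    have := H.r10
    rwa [mul_inv_eq_iff_eq_mul] at this
  · unfold XC XD
    rw [MulAut.conj_apply, MulAut.conj_apply, inv_inv, inv_inv]; exact H.r11
  · unfold XC XD
    rw [MulAut.conj_apply, MulAut.conj_apply, inv_inv, inv_inv]; exact H.r12

end translate


/-! ### the presentation in odd characteristic -/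

/-- the six generators of the free group -/
def k0 : FreeGroup (Fin 6) := FreeGroup.of 0
/-- second generator -/
def k1 : FreeGroup (Fin 6) := FreeGroup.of 1
/-- third generator -/
def k2 : FreeGroup (Fin 6) := FreeGroup.of 2
/-- fourth generator -/
def k3 : FreeGroup (Fin 6) := FreeGroup.of 3
/-- fifth generator -/
def k4 : FreeGroup (Fin 6) := FreeGroup.of 4
/-- sixth generator -/
def k5 : FreeGroup (Fin 6) := FreeGroup.of 5

/-- the 28 relators in odd characteristic -/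
def oddList6 (P : OddParams) : List (FreeGroup (Fin 6)) :=
  oddRels P k0 k1 k2 ++ (oddRels P k3 k4 k5 ++
    common12 (opt k0 k2 P.o₃ * opt k0 k2 P.o₄) k0 k1 k2 k3 k4 k5)

theorem length_oddList6 (P : OddParams) : (oddList6 P).length = 28 := by
  simp [oddList6, oddRels, common12]

/-- the images of the six generators -/
noncomputable def gens6 (ζ : Fˣ) : Fin 6 → Matrix.symplecticGroup (Fin 2) F :=
  ![embA F (xm 1), embA F (wm F), embA F (hm ζ), embB F (xm 1), embB F (wm F), embB F (hm ζ)]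

theorem lift_k0 (ζ : Fˣ) : FreeGroup.lift (gens6 ζ) k0 = embA F (xm 1) := by simp [k0, gens6]
theorem lift_k1 (ζ : Fˣ) : FreeGroup.lift (gens6 ζ) k1 = embA F (wm F) := by simp [k1, gens6]
theorem lift_k2 (ζ : Fˣ) : FreeGroup.lift (gens6 ζ) k2 = embA F (hm ζ) := by simp [k2, gens6]
theorem lift_k3 (ζ : Fˣ) : FreeGroup.lift (gens6 ζ) k3 = embB F (xm 1) := by simp [k3, gens6]
theorem lift_k4 (ζ : Fˣ) : FreeGroup.lift (gens6 ζ) k4 = embB F (wm F) := by simp [k4, gens6]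
theorem lift_k5 (ζ : Fˣ) : FreeGroup.lift (gens6 ζ) k5 = embB F (hm ζ) := by simp [k5, gens6]

theorem closure_six (rels : Set (FreeGroup (Fin 6))) :
    Subgroup.closure ({PresentedGroup.mk rels k0, PresentedGroup.mk rels k1,
      PresentedGroup.mk rels k2, PresentedGroup.mk rels k3, PresentedGroup.mk rels k4,
      PresentedGroup.mk rels k5} : Set (PresentedGroup rels)) = ⊤ := by
  rw [eq_top_iff, ← PresentedGroup.closure_range_of rels]
  apply Subgroup.closure_mono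
  rintro _ ⟨i, rfl⟩
  fin_cases i
  · left; rfl
  · right; left; rfl
  · right; right; left; rfl
  · right; right; right; left; rfl
  · right; right; right; right; left; rfl
  · right; right; right; right; right; rfl

theorem odd_main6 (F : Type*) [Field F] [Finite F] (h2 : ringChar F ≠ 2) :
    ∃ (rels : Finset (FreeGroup (Fin 6))) (f : Fin 6 → Matrix.symplecticGroup (Fin 2) F)
      (hrel : ∀ r ∈ (↑rels : Set (FreeGroup (Fin 6))), FreeGroup.lift f r = 1),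
      rels.card ≤ 28 ∧ Function.Bijective (PresentedGroup.toGroup hrel) ∧
        FreeGroup.lift f (k1 * k1) = embA F (wm F) * embA F (wm F) := by
  classical
  obtain ⟨P, ζ, A⟩ := exists_oddArith F h2
  have genU := genU_of_gen A.gen
  set rels : Set (FreeGroup (Fin 6)) := ↑(oddList6 P).toFinset with hrels
  -- the word for `x(ζ⁻¹)` in the model
  have hxzM : opt (embA F (xm 1)) (embA F (hm ζ)) P.o₃ * opt (embA F (xm 1)) (embA F (hm ζ)) P.o₄ =
      embA F (xm (ζ : F)⁻¹) := by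
    rw [← map_opt, ← map_opt, ← map_mul, opt_xm, opt_xm, xm_add, ← A.ho34]
  -- the relators hold in the model
  have liftM : ∀ r ∈ rels, FreeGroup.lift (gens6 ζ) r = 1 := by
    intro r hr
    rw [hrels, Finset.mem_coe, List.mem_toFinset] at hr
    have h1 : FreeGroup.lift (gens6 ζ) r ∈ (oddList6 P).map (FreeGroup.lift (gens6 ζ)) :=
      List.mem_map_of_mem hr
    rw [oddList6, List.map_append, List.map_append, map_oddRels, map_oddRels, map_common12,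
      map_mul, map_opt, map_opt, lift_k0, lift_k1, lift_k2, lift_k3, lift_k4, lift_k5, hxzM,
      List.mem_append, List.mem_append] at h1
    rcases h1 with h1 | h1 | h1
    · rw [← map_oddRels, List.mem_map] at h1
      obtain ⟨r0, hr0, hr1⟩ := h1
      rw [← hr1, (oddHolds_iff P _ _ _).mpr (oddHolds_matrix A) r0 hr0, map_one]
    · rw [← map_oddRels, List.mem_map] at h1
      obtain ⟨r0, hr0, hr1⟩ := h1
      rw [← hr1, (oddHolds_iff P _ _ _).mpr (oddHolds_matrix A) r0 hr0, map_one]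
    · exact (commonHolds12_iff _ _ _ _ _ _ _).mpr (cfgM ζ genU A.sq).commonHolds _ h1
  refine ⟨(oddList6 P).toFinset, gens6 ζ, liftM,
    (List.toFinset_card_le _).trans (le_of_eq (length_oddList6 P)), ?_, ?_⟩
  swap
  · rw [map_mul, lift_k1]
  set π := PresentedGroup.toGroup liftM with hπdef
  -- the relators hold in the presented group
  set u₁ := PresentedGroup.mk rels k0 with hu₁
  set t₁ := PresentedGroup.mk rels k1 with ht₁
  set h₁ := PresentedGroup.mk rels k2 with hh₁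
  set u₂ := PresentedGroup.mk rels k3 with hu₂
  set t₂ := PresentedGroup.mk rels k4 with ht₂
  set h₂ := PresentedGroup.mk rels k5 with hh₂
  have hall : ∀ r ∈ (oddList6 P).map (PresentedGroup.mk rels), r = 1 := by
    intro r hr
    rw [List.mem_map] at hr
    obtain ⟨r0, hr0, rfl⟩ := hr
    apply PresentedGroup.one_of_mem
    rw [hrels, Finset.mem_coe, List.mem_toFinset]
    exact hr0
  rw [oddList6, List.map_append, List.map_append, map_oddRels, map_oddRels, map_common12,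
    map_mul, map_opt, map_opt] at hall
  have H1 : OddHolds P u₁ t₁ h₁ :=
    (oddHolds_iff P u₁ t₁ h₁).mp (fun r hr => hall r (List.mem_append_left _ hr))
  have H2 : OddHolds P u₂ t₂ h₂ :=
    (oddHolds_iff P u₂ t₂ h₂).mp
      (fun r hr => hall r (List.mem_append_right _ (List.mem_append_left _ hr)))
  have H3 : CommonHolds12 (opt u₁ h₁ P.o₃ * opt u₁ h₁ P.o₄) u₁ t₁ h₁ u₂ t₂ h₂ :=
    (commonHolds12_iff _ _ _ _ _ _ _).mp
      (fun r hr => hall r (List.mem_append_right _ (List.mem_append_right _ hr)))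
  obtain ⟨φa, φau, φat, φah⟩ := exists_hom_odd A H1
  obtain ⟨φb, φbu, φbt, φbh⟩ := exists_hom_odd A H2
  have hxz : opt u₁ h₁ P.o₃ * opt u₁ h₁ P.o₄ = φa (xm (ζ : F)⁻¹) := by
    rw [← φau, ← φah, ← map_opt, ← map_opt, ← map_mul, opt_xm, opt_xm, xm_add, ← A.ho34]
  rw [hxz, ← φau, ← φat, ← φah, ← φbu, ← φbt, ← φbh] at H3
  have C : C2Cfg φa φb ζ := c2cfg_of_commonHolds φa φb ζ genU A.sq H3
  have hπ : ∀ (i : Fin 6), π (PresentedGroup.of i) = gens6 ζ i := fun i =>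
    PresentedGroup.toGroup.of liftM
  have hπu₁ : π u₁ = embA F (xm 1) := (hπ 0).trans (by simp [gens6])
  have hπt₁ : π t₁ = embA F (wm F) := (hπ 1).trans (by simp [gens6])
  have hπh₁ : π h₁ = embA F (hm ζ) := (hπ 2).trans (by simp [gens6])
  have hπu₂ : π u₂ = embB F (xm 1) := (hπ 3).trans (by simp [gens6])
  have hπt₂ : π t₂ = embB F (wm F) := (hπ 4).trans (by simp [gens6])
  have hπh₂ : π h₂ = embB F (hm ζ) := (hπ 5).trans (by simp [gens6])
  have hπa : ∀ m, π (φa m) = embA F m := by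
    have : π.comp φa = embA F :=
      hom_ext_odd A _ _ (by rw [MonoidHom.comp_apply, φau, hπu₁])
        (by rw [MonoidHom.comp_apply, φat, hπt₁]) (by rw [MonoidHom.comp_apply, φah, hπh₁])
    intro m
    exact DFunLike.congr_fun this m
  have hπb : ∀ m, π (φb m) = embB F m := by
    have : π.comp φb = embB F :=
      hom_ext_odd A _ _ (by rw [MonoidHom.comp_apply, φbu, hπu₂])
        (by rw [MonoidHom.comp_apply, φbt, hπt₂]) (by rw [MonoidHom.comp_apply, φbh, hπh₂])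
    intro m
    exact DFunLike.congr_fun this m
  have hgen : Subgroup.closure (Set.range φa ∪ Set.range φb) = ⊤ := by
    rw [eq_top_iff, ← closure_six rels]
    apply Subgroup.closure_mono
    rintro g (rfl | rfl | rfl | rfl | rfl | rfl)
    · exact Or.inl ⟨xm 1, φau⟩
    · exact Or.inl ⟨wm F, φat⟩
    · exact Or.inl ⟨hm ζ, φah⟩
    · exact Or.inr ⟨xm 1, φbu⟩
    · exact Or.inr ⟨wm F, φbt⟩
    · exact Or.inr ⟨hm ζ, φbh⟩
  exact bijective_of_c2cfg π φa φb ζ C hπa hπb hgen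

end Cfsg.Agent.Lib.Helper66_C2
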