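import Mathlib
import Cfsg.Agent.Lib.Helper66_C2Pres

set_option autoImplicit false

/-!
The bounded presentation of `Sp₄(F)` in characteristic two, and the passage to the central
quotient (helper66).
-/

namespace Cfsg.Agent.Lib.Helper66_C2

open Matrix Cfsg.Agent.Lib.Helper5_SLPresE Cfsg.Agent.Lib.Helper66_SL3Pres
  Cfsg.Agent.Lib.Helper5_SteinbergA Cfsg.Agent.Lib.Helper5_SLPresA
  Cfsg.Agent.Lib.Helper5_SLPresC Cfsg.Agent.Lib.Helper5_SLPresG Cfsg.Agent.Lib.Helper5_SLPresJ
  Cfsg.Agent.Lib.Helper5_SLPresK Cfsg.Agent.Lib.Helper5_SLPresL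

variable {F : Type*} [Field F]

/-- the 22 relators in characteristic two -/
def evenList6 (P : EvenParams) : List (FreeGroup (Fin 6)) :=
  evenRels P k0 k1 k2 ++ (evenRels P k3 k4 k5 ++
    common12 (cj k0 (k2 * k1) P.i₂) k0 k1 (k2 * k1) k3 k4 (k5 * k4))

theorem length_evenList6 (P : EvenParams) : (evenList6 P).length = 22 := by
  simp [evenList6, evenRels, common12]

/-- the images of the six generators, characteristic two -/
noncomputable def gens6' (ζ : Fˣ) : Fin 6 → Matrix.symplecticGroup (Fin 2) F :=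
  ![embA F (xm 1), embA F (wm F), embA F (hm ζ * (wm F)⁻¹),
    embB F (xm 1), embB F (wm F), embB F (hm ζ * (wm F)⁻¹)]

theorem lift_k0' (ζ : Fˣ) : FreeGroup.lift (gens6' ζ) k0 = embA F (xm 1) := by simp [k0, gens6']
theorem lift_k1' (ζ : Fˣ) : FreeGroup.lift (gens6' ζ) k1 = embA F (wm F) := by simp [k1, gens6']
theorem lift_k2' (ζ : Fˣ) : FreeGroup.lift (gens6' ζ) k2 = embA F (hm ζ * (wm F)⁻¹) := by
  simp [k2, gens6']
theorem lift_k3' (ζ : Fˣ) : FreeGroup.lift (gens6' ζ) k3 = embB F (xm 1) := by simp [k3, gens6']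
theorem lift_k4' (ζ : Fˣ) : FreeGroup.lift (gens6' ζ) k4 = embB F (wm F) := by simp [k4, gens6']
theorem lift_k5' (ζ : Fˣ) : FreeGroup.lift (gens6' ζ) k5 = embB F (hm ζ * (wm F)⁻¹) := by
  simp [k5, gens6']

theorem even_main6 (F : Type*) [Field F] [Finite F] (h2 : ringChar F = 2) :
    ∃ (rels : Finset (FreeGroup (Fin 6))) (f : Fin 6 → Matrix.symplecticGroup (Fin 2) F)
      (hrel : ∀ r ∈ (↑rels : Set (FreeGroup (Fin 6))), FreeGroup.lift f r = 1),
      rels.card ≤ 22 ∧ Function.Bijective (PresentedGroup.toGroup hrel) := by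
  classical
  obtain ⟨P, ζ, A⟩ := exists_evenArith F h2
  have genU := genU_of_gen A.gen
  have sq2 : ∀ a : F, ∃ r s : F, a = r ^ 2 + s ^ 2 := by
    intro a
    by_cases ha : a = 0
    · exact ⟨0, 0, by rw [ha]; ring⟩
    · obtain ⟨m, hm⟩ := A.gen2 a ha
      exact ⟨(ζ : F) ^ m, 0, by rw [hm]; ring⟩
  set rels : Set (FreeGroup (Fin 6)) := ↑(evenList6 P).toFinset with hrels
  have lift_ha : FreeGroup.lift (gens6' ζ) (k2 * k1) = embA F (hm ζ) := by
    rw [map_mul, lift_k2', lift_k1', ← map_mul, inv_mul_cancel_right]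
  have lift_hb : FreeGroup.lift (gens6' ζ) (k5 * k4) = embB F (hm ζ) := by
    rw [map_mul, lift_k5', lift_k4', ← map_mul, inv_mul_cancel_right]
  have hcjM : ∀ i : ℕ, cj (embA F (xm 1)) (embA F (hm ζ)) i =
      embA F (xm (((ζ : F) ^ 2) ^ i)) := by
    intro i
    rw [← map_cj, cj_xm, mul_one]
  -- the relators hold in the model
  have liftM : ∀ r ∈ rels, FreeGroup.lift (gens6' ζ) r = 1 := by
    intro r hr
    rw [hrels, Finset.mem_coe, List.mem_toFinset] at hr
    have h1 : FreeGroup.lift (gens6' ζ) r ∈ (evenList6 P).map (FreeGroup.lift (gens6' ζ)) :=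
      List.mem_map_of_mem hr
    rw [evenList6, List.map_append, List.map_append, map_evenRels, map_evenRels, map_common12,
      map_cj, lift_ha, lift_hb, lift_k0', lift_k1', lift_k2', lift_k3', lift_k4', lift_k5', hcjM,
      ← A.hi2, List.mem_append, List.mem_append] at h1
    rcases h1 with h1 | h1 | h1
    · rw [← map_evenRels, List.mem_map] at h1
      obtain ⟨r0, hr0, hr1⟩ := h1
      rw [← hr1, (evenHolds_iff P _ _ _).mpr (evenHolds_matrix A) r0 hr0, map_one]
    · rw [← map_evenRels, List.mem_map] at h1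
      obtain ⟨r0, hr0, hr1⟩ := h1
      rw [← hr1, (evenHolds_iff P _ _ _).mpr (evenHolds_matrix A) r0 hr0, map_one]
    · exact (commonHolds12_iff _ _ _ _ _ _ _).mpr (cfgM ζ genU sq2).commonHolds _ h1
  refine ⟨(evenList6 P).toFinset, gens6' ζ, liftM,
    (List.toFinset_card_le _).trans (le_of_eq (length_evenList6 P)), ?_⟩
  set π := PresentedGroup.toGroup liftM with hπdef
  -- the relators hold in the presented group
  set u₁ := PresentedGroup.mk rels k0 with hu₁
  set t₁ := PresentedGroup.mk rels k1 with ht₁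
  set n₁ := PresentedGroup.mk rels k2 with hn₁
  set u₂ := PresentedGroup.mk rels k3 with hu₂
  set t₂ := PresentedGroup.mk rels k4 with ht₂
  set n₂ := PresentedGroup.mk rels k5 with hn₂
  have hall : ∀ r ∈ (evenList6 P).map (PresentedGroup.mk rels), r = 1 := by
    intro r hr
    rw [List.mem_map] at hr
    obtain ⟨r0, hr0, rfl⟩ := hr
    apply PresentedGroup.one_of_mem
    rw [hrels, Finset.mem_coe, List.mem_toFinset]
    exact hr0
  rw [evenList6, List.map_append, List.map_append, map_evenRels, map_evenRels, map_common12,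
    map_cj, map_mul, map_mul] at hall
  have H1 : EvenHolds P u₁ t₁ n₁ :=
    (evenHolds_iff P u₁ t₁ n₁).mp (fun r hr => hall r (List.mem_append_left _ hr))
  have H2 : EvenHolds P u₂ t₂ n₂ :=
    (evenHolds_iff P u₂ t₂ n₂).mp
      (fun r hr => hall r (List.mem_append_right _ (List.mem_append_left _ hr)))
  have H3 : CommonHolds12 (cj u₁ (n₁ * t₁) P.i₂) u₁ t₁ (n₁ * t₁) u₂ t₂ (n₂ * t₂) :=
    (commonHolds12_iff _ _ _ _ _ _ _).mp
      (fun r hr => hall r (List.mem_append_right _ (List.mem_append_right _ hr)))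
  obtain ⟨φa, φau, φat, φan⟩ := exists_hom_even A H1
  obtain ⟨φb, φbu, φbt, φbn⟩ := exists_hom_even A H2
  have φah : φa (hm ζ) = n₁ * t₁ := by
    rw [← φan, ← φat, ← map_mul, inv_mul_cancel_right]
  have φbh : φb (hm ζ) = n₂ * t₂ := by
    rw [← φbn, ← φbt, ← map_mul, inv_mul_cancel_right]
  have hxz : cj u₁ (n₁ * t₁) P.i₂ = φa (xm (ζ : F)⁻¹) := by
    rw [← φau, ← φah, ← map_cj, cj_xm, mul_one, ← A.hi2]
  rw [hxz, ← φah, ← φbh, ← φau, ← φat, ← φbu, ← φbt] at H3
  have C : C2Cfg φa φb ζ := c2cfg_of_commonHolds φa φb ζ genU sq2 H3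
  have hπ : ∀ (i : Fin 6), π (PresentedGroup.of i) = gens6' ζ i := fun i =>
    PresentedGroup.toGroup.of liftM
  have hπu₁ : π u₁ = embA F (xm 1) := (hπ 0).trans (by simp [gens6'])
  have hπt₁ : π t₁ = embA F (wm F) := (hπ 1).trans (by simp [gens6'])
  have hπn₁ : π n₁ = embA F (hm ζ * (wm F)⁻¹) := (hπ 2).trans (by simp [gens6'])
  have hπu₂ : π u₂ = embB F (xm 1) := (hπ 3).trans (by simp [gens6'])
  have hπt₂ : π t₂ = embB F (wm F) := (hπ 4).trans (by simp [gens6'])
  have hπn₂ : π n₂ = embB F (hm ζ * (wm F)⁻¹) := (hπ 5).trans (by simp [gens6'])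
  have hπa : ∀ m, π (φa m) = embA F m := by
    have : π.comp φa = embA F :=
      hom_ext_even A _ _ (by rw [MonoidHom.comp_apply, φau, hπu₁])
        (by rw [MonoidHom.comp_apply, φat, hπt₁]) (by rw [MonoidHom.comp_apply, φan, hπn₁])
    intro m
    exact DFunLike.congr_fun this m
  have hπb : ∀ m, π (φb m) = embB F m := by
    have : π.comp φb = embB F :=
      hom_ext_even A _ _ (by rw [MonoidHom.comp_apply, φbu, hπu₂])
        (by rw [MonoidHom.comp_apply, φbt, hπt₂]) (by rw [MonoidHom.comp_apply, φbn, hπn₂])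
    intro m
    exact DFunLike.congr_fun this m
  have hgen : Subgroup.closure (Set.range φa ∪ Set.range φb) = ⊤ := by
    rw [eq_top_iff, ← closure_six rels]
    apply Subgroup.closure_mono
    rintro g (rfl | rfl | rfl | rfl | rfl | rfl)
    · exact Or.inl ⟨xm 1, φau⟩
    · exact Or.inl ⟨wm F, φat⟩
    · exact Or.inl ⟨hm ζ * (wm F)⁻¹, φan⟩
    · exact Or.inr ⟨xm 1, φbu⟩
    · exact Or.inr ⟨wm F, φbt⟩
    · exact Or.inr ⟨hm ζ * (wm F)⁻¹, φbn⟩
  exact bijective_of_c2cfg π φa φb ζ C hπa hπb hgen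

/-! ### the central quotient -/

/-- adding one relator whose image is the only possible nontrivial central element presents the
central quotient -/
theorem center_quotient_presentation {ι : Type*} {G : Type*} [Group G]
    (rels : Set (FreeGroup ι)) (f : ι → G)
    (hrel : ∀ r ∈ rels, FreeGroup.lift f r = 1)
    (hbij : Function.Bijective (PresentedGroup.toGroup hrel))
    (r0 : FreeGroup ι) (hr0 : FreeGroup.lift f r0 ∈ Subgroup.center G)
    (hcen : ∀ z ∈ Subgroup.center G, z = 1 ∨ z = FreeGroup.lift f r0) :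
    Nonempty (PresentedGroup (insert r0 rels) ≃* G ⧸ Subgroup.center G) := by
  set rels' := insert r0 rels with hrels'
  let mkP : G →* G ⧸ Subgroup.center G := QuotientGroup.mk' _
  -- the map Γ → Γ'
  have hq : ∀ r ∈ rels,
      FreeGroup.lift (fun i : ι => (PresentedGroup.of i : PresentedGroup rels')) r = 1 := by
    intro r hr
    have e : FreeGroup.lift (fun i : ι => (PresentedGroup.of i : PresentedGroup rels')) =
        PresentedGroup.mk rels' := by
      ext i; simp [PresentedGroup.of]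
    rw [e]
    exact PresentedGroup.one_of_mem (Set.mem_insert_of_mem _ hr)
  let q : PresentedGroup rels →* PresentedGroup rels' := PresentedGroup.toGroup hq
  -- the map Γ' → G/Z
  have e' : FreeGroup.lift (fun i : ι => mkP (f i)) = mkP.comp (FreeGroup.lift f) := by
    ext i; simp
  have hπ' : ∀ r ∈ rels', FreeGroup.lift (fun i : ι => mkP (f i)) r = 1 := by
    intro r hr
    rw [e', MonoidHom.comp_apply]
    rcases hr with rfl | hr
    · exact (QuotientGroup.eq_one_iff _).mpr hr0
    · rw [hrel r hr, map_one]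
  let π' : PresentedGroup rels' →* G ⧸ Subgroup.center G := PresentedGroup.toGroup hπ'
  have hcomp : π'.comp q = mkP.comp (PresentedGroup.toGroup hrel) := by
    apply PresentedGroup.ext
    intro i
    simp only [MonoidHom.comp_apply]
    rw [PresentedGroup.toGroup.of, PresentedGroup.toGroup.of, PresentedGroup.toGroup.of]
  have hqsurj : Function.Surjective q := by
    rw [← MonoidHom.range_eq_top, eq_top_iff, ← PresentedGroup.closure_range_of rels',
      Subgroup.closure_le]
    rintro _ ⟨i, rfl⟩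
    exact ⟨PresentedGroup.of i, PresentedGroup.toGroup.of hq⟩
  refine ⟨MulEquiv.ofBijective π' ⟨?_, ?_⟩⟩
  · rw [injective_iff_map_eq_one]
    intro y hy
    obtain ⟨g, rfl⟩ := hqsurj y
    have h1 : mkP (PresentedGroup.toGroup hrel g) = 1 := by
      have := DFunLike.congr_fun hcomp g
      simp only [MonoidHom.comp_apply] at this
      rw [← this]; exact hy
    have h2 : PresentedGroup.toGroup hrel g ∈ Subgroup.center G :=
      (QuotientGroup.eq_one_iff _).mp h1
    rcases hcen _ h2 with h3 | h3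
    · have : g = 1 := hbij.1 (by rw [h3, map_one])
      rw [this, map_one]
    · have : g = PresentedGroup.mk rels r0 := hbij.1 (by
        rw [h3]
        rfl)
      rw [this]
      have e2 : q (PresentedGroup.mk rels r0) = PresentedGroup.mk rels' r0 := by
        have : q.comp (PresentedGroup.mk rels) = PresentedGroup.mk rels' := by
          ext i
          simp only [MonoidHom.comp_apply]
          exact PresentedGroup.toGroup.of hq
        exact DFunLike.congr_fun this r0
      rw [e2]
      exact PresentedGroup.one_of_mem (Set.mem_insert _ _)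
  · intro z
    obtain ⟨s, rfl⟩ := QuotientGroup.mk'_surjective _ z
    obtain ⟨g, rfl⟩ := hbij.2 s
    refine ⟨q g, ?_⟩
    have := DFunLike.congr_fun hcomp g
    simpa only [MonoidHom.comp_apply] using this

/-- when the center is trivial the group is its own central quotient -/
theorem center_quotient_of_bot {Γ G : Type*} [Group Γ] [Group G]
    (hbot : Subgroup.center G = ⊥) (e : Γ ≃* G) : Nonempty (Γ ≃* G ⧸ Subgroup.center G) := by
  let mkP : G →* G ⧸ Subgroup.center G := QuotientGroup.mk' _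
  have hb : Function.Bijective mkP := by
    constructor
    · rw [injective_iff_map_eq_one]
      intro a ha
      have := (QuotientGroup.eq_one_iff _).mp ha
      rw [hbot, Subgroup.mem_bot] at this
      exact this
    · exact QuotientGroup.mk'_surjective _
  exact ⟨e.trans (MulEquiv.ofBijective mkP hb)⟩

/-! ### the centre of `Sp₄(F)` -/

theorem embA_wm_sq_mem_center :
    embA F (wm F) * embA F (wm F) ∈ Subgroup.center (Matrix.symplecticGroup (Fin 2) F) := by
  rw [Subgroup.mem_center_iff]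
  intro g
  apply Subtype.ext
  have key : ((embA F (wm F) * embA F (wm F) : Matrix.symplecticGroup (Fin 2) F) :
      Matrix (Fin 2 ⊕ Fin 2) (Fin 2 ⊕ Fin 2) F) = -1 := by
    rw [embA_wm_sq_coe, ← fromBlocks_one, fromBlocks_neg]; simp
  show (g : Matrix (Fin 2 ⊕ Fin 2) (Fin 2 ⊕ Fin 2) F) *
      ((embA F (wm F) * embA F (wm F) : Matrix.symplecticGroup (Fin 2) F) :
        Matrix (Fin 2 ⊕ Fin 2) (Fin 2 ⊕ Fin 2) F) =
      ((embA F (wm F) * embA F (wm F) : Matrix.symplecticGroup (Fin 2) F) :
        Matrix (Fin 2 ⊕ Fin 2) (Fin 2 ⊕ Fin 2) F) * (g : Matrix (Fin 2 ⊕ Fin 2) (Fin 2 ⊕ Fin 2) F)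
  rw [key]
  simp

theorem center_sp4 (z : Matrix.symplecticGroup (Fin 2) F)
    (hz : z ∈ Subgroup.center (Matrix.symplecticGroup (Fin 2) F)) :
    z = 1 ∨ z = embA F (wm F) * embA F (wm F) := by
  rcases Cfsg.Agent.S0246.center_eq_one_or_neg_one 2 (by norm_num) z hz with h | h
  · left
    apply Subtype.ext
    rw [h]; rfl
  · right
    apply Subtype.ext
    rw [h, embA_wm_sq_coe, ← fromBlocks_one, fromBlocks_neg]; simp

theorem center_sp4_eq_bot (h2 : (2 : F) = 0) :
    Subgroup.center (Matrix.symplecticGroup (Fin 2) F) = ⊥ := by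
  rw [eq_bot_iff]
  intro z hz
  rw [Subgroup.mem_bot]
  rcases Cfsg.Agent.S0246.center_eq_one_or_neg_one 2 (by norm_num) z hz with h | h
  · apply Subtype.ext
    rw [h]; rfl
  · apply Subtype.ext
    rw [h]
    have : (-1 : F) = 1 := by linear_combination -h2
    show (-1 : Matrix (Fin 2 ⊕ Fin 2) (Fin 2 ⊕ Fin 2) F) = 1
    ext i j
    by_cases hij : i = j
    · subst hij; simp [this]
    · simp [hij]

end Cfsg.Agent.Lib.Helper66_C2
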