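import Mathlib
import Cfsg.Prelude.Def_KGroupFacts
import Cfsg.Agent.Lib.Helper66_Stem

set_option autoImplicit false
open Cfsg

namespace Cfsg.Agent.Lib.Helper66_DihedralStem

open Cfsg.Agent.Lib.Helper66_Stem

/-- In a stem extension of a dihedral group the kernel consists of powers of one element `c`
with `c ^ n = 1` which maps to the rotation `r (-2)`. -/
theorem dihedral_stem {n : ℕ} {Γ : Type*} [Group Γ] (σ : Γ →* DihedralGroup n)
    (hσ : IsStemExtension σ) :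
    ∃ c : Γ, (∀ z ∈ σ.ker, ∃ j : ℤ, z = c ^ j) ∧ c ^ n = 1 ∧ σ c = DihedralGroup.r (-2) := by
  obtain ⟨hsurj, hcen, hcomm⟩ := hσ
  obtain ⟨α, hα⟩ := hsurj (DihedralGroup.r 1)
  obtain ⟨ξ, hξ⟩ := hsurj (DihedralGroup.sr 0)
  -- generation
  have hgen : Subgroup.closure (({α, ξ} : Set Γ) ∪ (σ.ker : Set Γ)) = ⊤ := by
    rw [eq_top_iff]
    intro g _
    have hα' : α ∈ Subgroup.closure (({α, ξ} : Set Γ) ∪ (σ.ker : Set Γ)) :=
      Subgroup.subset_closure (Or.inl (by simp))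
    have hξ' : ξ ∈ Subgroup.closure (({α, ξ} : Set Γ) ∪ (σ.ker : Set Γ)) :=
      Subgroup.subset_closure (Or.inl (by simp))
    have hK' : ∀ z, σ z = 1 → z ∈ Subgroup.closure (({α, ξ} : Set Γ) ∪ (σ.ker : Set Γ)) :=
      fun z hz => Subgroup.subset_closure (Or.inr (MonoidHom.mem_ker.mpr hz))
    rcases hg : σ g with i | i
    · obtain ⟨k, rfl⟩ := ZMod.intCast_surjective i
      have h1 : σ ((α ^ k)⁻¹ * g) = 1 := by
        rw [map_mul, map_inv, map_zpow, hα, hg, DihedralGroup.r_one_zpow]; group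
      have : g = α ^ k * ((α ^ k)⁻¹ * g) := by group
      rw [this]
      exact Subgroup.mul_mem _ (Subgroup.zpow_mem _ hα' k) (hK' _ h1)
    · obtain ⟨k, rfl⟩ := ZMod.intCast_surjective i
      have h1 : σ ((ξ * α ^ k)⁻¹ * g) = 1 := by
        rw [map_mul, map_inv, map_mul, map_zpow, hα, hξ, hg, DihedralGroup.r_one_zpow,
          DihedralGroup.sr_mul_r, zero_add]; group
      have : g = ξ * α ^ k * ((ξ * α ^ k)⁻¹ * g) := by group
      rw [this]
      exact Subgroup.mul_mem _ (Subgroup.mul_mem _ hξ' (Subgroup.zpow_mem _ hα' k)) (hK' _ h1)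
  have hinvs : (DihedralGroup.sr (0 : ZMod n))⁻¹ = DihedralGroup.sr 0 := DihedralGroup.inv_sr 0
  have hk : ξ * α * ξ⁻¹ * α ∈ Subgroup.center Γ := by
    apply hcen
    rw [MonoidHom.mem_ker, map_mul, map_mul, map_mul, map_inv, hα, hξ, hinvs,
      DihedralGroup.sr_mul_r, DihedralGroup.sr_mul_sr, DihedralGroup.r_mul_r,
      DihedralGroup.one_def]
    congr 1; ring
  have hc := commutator_le_zpowers_of_dihedral_type σ.ker hcen α ξ hgen hk
  have hαn : α ^ n ∈ Subgroup.center Γ := by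
    apply hcen
    rw [MonoidHom.mem_ker, map_pow, hα, DihedralGroup.r_one_pow, ZMod.natCast_self,
      DihedralGroup.r_zero]
  have hN : ξ * α ^ n * ξ⁻¹ = α ^ n := by
    have := Subgroup.mem_center_iff.mp hαn ξ
    rw [this]; group
  refine ⟨ξ * α * ξ⁻¹ * α⁻¹, ?_, dihedral_type_pow_eq_one α ξ hk n hN, ?_⟩
  · intro z hz
    obtain ⟨j, hj⟩ := Subgroup.mem_zpowers_iff.mp (hc (hcomm hz))
    exact ⟨j, hj.symm⟩
  · rw [map_mul, map_mul, map_mul, map_inv, map_inv, hα, hξ, hinvs,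
      DihedralGroup.sr_mul_r, DihedralGroup.sr_mul_sr, DihedralGroup.inv_r, DihedralGroup.r_mul_r]
    congr 1; ring

end Cfsg.Agent.Lib.Helper66_DihedralStem
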