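import Mathlib
import Cfsg.Agent.Lib.Helper1_FPF
import Cfsg.Agent.Lib.Helper10_ConjAction
import Cfsg.Agent.Lib.Helper1_Coprime

/-!
Tools for "same order type" statements (helper66): an order preserving bijection, a normal
Hall subgroup from normal Sylow subgroups, conjugacy of the subgroups of order `p` when the Sylow
`p`-subgroups are cyclic, and the fact that a finite solvable group with cyclic Sylow `5`-subgroups
cannot have exactly `24` elements of order `5`.
-/

set_option autoImplicit false

namespace Cfsg.Agent.Lib.Helper66_OrderType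

open Subgroup
open scoped commutatorElement

/-- two finite groups with the same order type admit an order preserving bijection -/
theorem exists_order_equiv {F G : Type*} [Group F] [Finite F] [Group G] [Finite G]
    (hT : ∀ m : ℕ, Nat.card {g : F // orderOf g = m} = Nat.card {h : G // orderOf h = m}) :
    ∃ e : F ≃ G, ∀ f : F, orderOf (e f) = orderOf f := by
  have hequiv : ∀ m : ℕ, Nonempty ({g : F // orderOf g = m} ≃ {h : G // orderOf h = m}) :=
    fun m => Finite.card_eq.mp (hT m)
  let e : F ≃ G :=
    ((Equiv.sigmaFiberEquiv (orderOf : F → ℕ)).symm.trans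
      (Equiv.sigmaCongrRight fun m => (hequiv m).some)).trans (Equiv.sigmaFiberEquiv (orderOf : G → ℕ))
  refine ⟨e, fun g => ?_⟩
  simp only [e, Equiv.trans_apply, Equiv.sigmaFiberEquiv, Equiv.coe_fn_symm_mk, Equiv.coe_fn_mk,
    Equiv.sigmaCongrRight_apply]
  exact ((hequiv (orderOf g)).some ⟨g, rfl⟩).2

/-- order of a join of two subgroups of coprime orders, one of them normal -/
theorem card_sup_of_coprime {G : Type*} [Group G] [Finite G] (A B : Subgroup G) [B.Normal]
    (h : (Nat.card A).Coprime (Nat.card B)) :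
    Nat.card (A ⊔ B : Subgroup G) = Nat.card A * Nat.card B := by
  apply Cfsg.Agent.Lib.Helper1_FPF.card_sup_of_le_normalizer A B
  · rw [Subgroup.normalizer_eq_top]
    exact le_top
  · exact (Subgroup.disjoint_of_coprime_natCard h).eq_bot

/-- a normal Hall subgroup from normal Sylow subgroups -/
theorem exists_normal_card_prod {G : Type*} [Group G] [Finite G] (S : Finset ℕ)
    (hS : ∀ p ∈ S, p.Prime)
    (h : ∀ p ∈ S, ∃ P : Subgroup G, P.Normal ∧ Nat.card P = p ^ (Nat.card G).factorization p) :
    ∃ N : Subgroup G, N.Normal ∧ Nat.card N = ∏ p ∈ S, p ^ (Nat.card G).factorization p := by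
  classical
  induction S using Finset.induction_on with
  | empty => exact ⟨⊥, inferInstance, by simp⟩
  | insert p S hp ih =>
    obtain ⟨N', hN', hc'⟩ := ih (fun q hq => hS q (Finset.mem_insert_of_mem hq))
      (fun q hq => h q (Finset.mem_insert_of_mem hq))
    obtain ⟨P, hP, hcP⟩ := h p (Finset.mem_insert_self p S)
    refine ⟨P ⊔ N', inferInstance, ?_⟩
    rw [Finset.prod_insert hp, ← hc', ← hcP]
    apply card_sup_of_coprime
    rw [hcP, hc']
    apply Nat.Coprime.prod_right
    intro q hq
    apply Nat.Coprime.pow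
    rw [Nat.coprime_primes (hS p (Finset.mem_insert_self p S)) (hS q (Finset.mem_insert_of_mem hq))]
    rintro rfl
    exact hp hq

/-- in a finite cyclic group the solutions of `u ^ p = 1` are the powers of an element of order `p` -/
theorem mem_zpowers_of_pow_eq_one {C : Type*} [Group C] [Finite C] [IsCyclic C] {p : ℕ}
    (hp : 0 < p) (u v : C) (hu : u ^ p = 1) (hv : orderOf v = p) : u ∈ zpowers v := by
  classical
  have := Fintype.ofFinite C
  set S : Finset C := Finset.univ.filter (fun a : C => a ^ p = 1) with hS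
  have hScard : S.card ≤ p := IsCyclic.card_pow_eq_one_le hp
  set T : Finset C := ((zpowers v : Subgroup C) : Set C).toFinset with hT
  have hTS : T ⊆ S := by
    intro a ha
    rw [hT, Set.mem_toFinset, SetLike.mem_coe, mem_zpowers_iff] at ha
    obtain ⟨k, rfl⟩ := ha
    rw [hS, Finset.mem_filter]
    refine ⟨Finset.mem_univ _, ?_⟩
    rw [← zpow_natCast, ← zpow_mul, mul_comm, zpow_mul, zpow_natCast, ← hv, pow_orderOf_eq_one,
      one_zpow]
  have hTcard : T.card = p := by
    rw [hT, Set.toFinset_card, ← Nat.card_eq_fintype_card]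
    show Nat.card ↥(zpowers v) = p
    rw [Nat.card_zpowers, hv]
  have hTS' : T = S := Finset.eq_of_subset_of_card_le hTS (by rw [hTcard]; exact hScard)
  have huS : u ∈ S := by
    rw [hS, Finset.mem_filter]
    exact ⟨Finset.mem_univ _, hu⟩
  rw [← hTS', hT, Set.mem_toFinset] at huS
  exact huS

/-- with cyclic Sylow `p`-subgroups, a normal subgroup containing one element of order `p`
contains all of them -/
theorem mem_normal_of_orderOf_eq {G : Type*} [Group G] [Finite G] (p : ℕ) [Fact p.Prime]
    (hcyc : ∀ P : Sylow p G, IsCyclic P) (N : Subgroup G) [N.Normal] (x y : G)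
    (hx : orderOf x = p) (hxN : x ∈ N) (hy : orderOf y = p) : y ∈ N := by
  have hp : p.Prime := Fact.out
  have hzx : IsPGroup p (zpowers x) :=
    IsPGroup.of_card (n := 1) (by rw [Nat.card_zpowers, hx, pow_one])
  have hzy : IsPGroup p (zpowers y) :=
    IsPGroup.of_card (n := 1) (by rw [Nat.card_zpowers, hy, pow_one])
  obtain ⟨Px, hPx⟩ := hzx.exists_le_sylow
  obtain ⟨Py, hPy⟩ := hzy.exists_le_sylow
  obtain ⟨g, hg⟩ := MulAction.exists_smul_eq G Px Py
  have hxg : g * x * g⁻¹ ∈ (Py : Subgroup G) := by
    rw [← hg, Sylow.smul_def, Sylow.pointwise_smul_def]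
    have := Subgroup.smul_mem_pointwise_smul x (MulAut.conj g) (Px : Subgroup G)
      (hPx (mem_zpowers x))
    simpa [MulAut.smul_def] using this
  have hyP : y ∈ (Py : Subgroup G) := hPy (mem_zpowers y)
  have := hcyc Py
  have key := mem_zpowers_of_pow_eq_one (C := (Py : Subgroup G)) hp.pos ⟨y, hyP⟩ ⟨g * x * g⁻¹, hxg⟩
    (by
      apply Subtype.ext
      rw [Subgroup.coe_pow, Subgroup.coe_one]
      show y ^ p = 1
      rw [← hy, pow_orderOf_eq_one])
    (by
      rw [Subgroup.orderOf_mk]
      have := orderOf_injective (MulAut.conj g).toMonoidHom (MulAut.conj g).injective x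
      simpa [hx] using this)
  obtain ⟨k, hk⟩ := mem_zpowers_iff.mp key
  have hk' : (g * x * g⁻¹) ^ k = y := by
    have := congrArg Subtype.val hk
    simpa using this
  rw [← hk']
  exact N.zpow_mem (Subgroup.Normal.conj_mem inferInstance x hxN g) k

theorem centralizer_zpowers_eq {T : Type*} [Group T] (x : T) :
    centralizer ((zpowers x : Subgroup T) : Set T) = centralizer {x} := by
  ext z
  rw [mem_centralizer_iff, mem_centralizer_iff]
  constructor
  · intro h y hy
    rw [Set.mem_singleton_iff] at hy
    subst hy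
    exact h y (mem_zpowers y)
  · intro h y hy
    obtain ⟨k, rfl⟩ := mem_zpowers_iff.mp hy
    have hc : Commute x z := h x rfl
    exact (hc.zpow_left k).eq

/-- a coprime automorphism of order `5` never has a centralizer of index `6` -/
theorem six {T : Type*} [Group T] [Finite T] (W : Subgroup T) (x : T) (hx : orderOf x = 5)
    (hxW : x ∈ normalizer (W : Set T)) (hW : ¬ 5 ∣ Nat.card W) :
    Nat.card W ≠ 6 * Nat.card (W ⊓ centralizer {x} : Subgroup T) := by
  intro h6
  have : Fact (Nat.Prime 5) := ⟨by norm_num⟩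
  have : Fact (Nat.Prime 3) := ⟨by norm_num⟩
  set A := zpowers x with hA
  have hAcard : Nat.card A = 5 := by rw [Nat.card_zpowers, hx]
  have hAW : A ≤ normalizer (W : Set T) := by rw [hA, zpowers_le]; exact hxW
  have hcop : (Nat.card A).Coprime (Nat.card W) := by
    rw [hAcard]; exact (Nat.Prime.coprime_iff_not_dvd (by norm_num)).mpr hW
  have hAsolv : Group.IsSolvable A := by
    apply Group.isSolvable_of_comm
    rintro ⟨a, ha⟩ ⟨b, hb⟩
    obtain ⟨i, rfl⟩ := mem_zpowers_iff.mp ha
    obtain ⟨j, rfl⟩ := mem_zpowers_iff.mp hb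
    apply Subtype.ext
    show x ^ i * x ^ j = x ^ j * x ^ i
    rw [← zpow_add, ← zpow_add, add_comm]
  obtain ⟨P, hP⟩ := Cfsg.Agent.Lib.Helper1_Coprime.exists_invariant_sylow A W hAW hcop
    (Or.inl hAsolv) 3
  set Q := (P : Subgroup W).map W.subtype with hQ
  have hQW : Q ≤ W := map_subtype_le _
  have hQcard : Nat.card Q = 3 ^ (Nat.card W).factorization 3 := by
    rw [hQ, card_map_of_injective (subtype_injective W)]
    exact P.card_eq_multiplicity
  have hApg : IsPGroup 5 A := IsPGroup.of_card (n := 1) (by rw [hAcard, pow_one])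
  have hmod := Cfsg.Agent.Lib.Helper10_ConjAction.card_modEq_card_centralizer A Q hApg hP
  rw [centralizer_zpowers_eq] at hmod
  set Cx := centralizer ({x} : Set T) with hCx
  -- index of `Q ⊓ Cx` in `Q`
  have hidx : Cx.relIndex Q * Nat.card (Q ⊓ Cx : Subgroup T) = Nat.card Q := by
    have := relIndex_mul_relIndex (⊥ : Subgroup T) (Q ⊓ Cx) Q bot_le inf_le_left
    rw [relIndex_bot_left, relIndex_bot_left, inf_comm, inf_relIndex_right] at this
    rw [mul_comm, inf_comm]; exact this
  have hidxW : Cx.relIndex W * Nat.card (W ⊓ Cx : Subgroup T) = Nat.card W := by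
    have := relIndex_mul_relIndex (⊥ : Subgroup T) (W ⊓ Cx) W bot_le inf_le_left
    rw [relIndex_bot_left, relIndex_bot_left, inf_comm, inf_relIndex_right] at this
    rw [mul_comm, inf_comm]; exact this
  have hcpos : 0 < Nat.card (W ⊓ Cx : Subgroup T) := Nat.card_pos
  have hiW : Cx.relIndex W = 6 := by
    rw [h6] at hidxW
    exact Nat.eq_of_mul_eq_mul_right hcpos hidxW
  have hile : Cx.relIndex Q ≤ 6 := by
    rw [← hiW]
    exact relIndex_le_of_le_right hQW (by rw [hiW]; norm_num)
  have hdvd : Cx.relIndex Q ∣ 3 ^ (Nat.card W).factorization 3 := by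
    rw [← hQcard, ← hidx]; exact dvd_mul_right _ _
  obtain ⟨b, hb, hib⟩ := (Nat.dvd_prime_pow (by norm_num : Nat.Prime 3)).mp hdvd
  have hb1 : b ≤ 1 := by
    by_contra hcon
    rw [not_le] at hcon
    have : 3 ^ 2 ≤ 3 ^ b := Nat.pow_le_pow_right (by norm_num) hcon
    rw [hib] at hile
    omega
  interval_cases b
  · rw [pow_zero] at hib
    have hQC : Q ≤ Cx := relIndex_eq_one.mp hib
    have hQWC : Q ≤ W ⊓ Cx := le_inf hQW hQC
    have h3 : 3 ^ (Nat.card W).factorization 3 ∣ Nat.card (W ⊓ Cx : Subgroup T) := by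
      rw [← hQcard]; exact card_dvd_of_le hQWC
    have h4 : 3 ^ ((Nat.card W).factorization 3 + 1) ∣ Nat.card W := by
      have h8 := mul_dvd_mul (show 3 ∣ 6 by norm_num) h3
      rw [← h6] at h8
      rw [pow_succ, mul_comm]
      exact h8
    exact Nat.pow_succ_factorization_not_dvd (Nat.card_pos.ne') (by norm_num) h4
  · rw [pow_one] at hib
    rw [← hidx, hib] at hmod
    have h5 : 5 ∣ Nat.card (Q ⊓ Cx : Subgroup T) := by
      unfold Nat.ModEq at hmod
      omega
    have h7 : Nat.card (Q ⊓ Cx : Subgroup T) ∣ 3 ^ (Nat.card W).factorization 3 := by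
      rw [← hQcard]; exact card_dvd_of_le inf_le_left
    have := (Nat.Prime.dvd_of_dvd_pow (by norm_num : Nat.Prime 5) (h5.trans h7))
    omega

/-- counting the elements of order `p` when the Sylow `p`-subgroups have order `p` -/
theorem card_orderOf_eq_prime {A : Type*} [Group A] [Finite A] (p : ℕ) [Fact p.Prime]
    (h1 : (Nat.card A).factorization p = 1) :
    Nat.card {a : A // orderOf a = p} = (p - 1) * Nat.card (Sylow p A) := by
  classical
  have hp : p.Prime := Fact.out
  have hcardP : ∀ P : Sylow p A, Nat.card P = p := fun P => by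
    rw [P.card_eq_multiplicity, h1, pow_one]
  let f : {a : A // orderOf a = p} → Sylow p A := fun a =>
    Sylow.ofCard (zpowers a.1) (by rw [Nat.card_zpowers, a.2, h1, pow_one])
  have hfiber : ∀ P : Sylow p A, Nat.card {a // f a = P} = p - 1 := by
    intro P
    have e : {a : {a : A // orderOf a = p} // f a = P} ≃ {b : (P : Subgroup A) // b ≠ 1} :=
      { toFun := fun a => ⟨⟨a.1.1, by
            have h2 : a.1.1 ∈ ((f a.1 : Sylow p A) : Subgroup A) := mem_zpowers a.1.1
            rw [a.2] at h2
            exact h2⟩, by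
            intro h
            have h3 : a.1.1 = 1 := congrArg Subtype.val h
            have h4 := a.1.2
            rw [h3, orderOf_one] at h4
            exact hp.one_lt.ne h4⟩
        invFun := fun b => ⟨⟨b.1.1, by
            have h2 : orderOf b.1.1 ∣ p := by
              have := orderOf_dvd_natCard b.1
              rw [hcardP] at this
              rw [Subgroup.orderOf_coe]
              exact this
            rcases (Nat.dvd_prime hp).mp h2 with h3 | h3
            · exfalso
              apply b.2
              apply Subtype.ext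
              exact orderOf_eq_one_iff.mp h3
            · exact h3⟩, by
            apply Sylow.ext
            apply Subgroup.eq_of_le_of_card_ge
            · show zpowers b.1.1 ≤ (P : Subgroup A)
              rw [zpowers_le]
              exact b.1.2
            · show Nat.card (P : Subgroup A) ≤ Nat.card (zpowers b.1.1)
              rw [hcardP, Nat.card_zpowers]
              have h2 : orderOf b.1.1 ∣ p := by
                have := orderOf_dvd_natCard b.1
                rw [hcardP] at this
                rw [Subgroup.orderOf_coe]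
                exact this
              rcases (Nat.dvd_prime hp).mp h2 with h3 | h3
              · exfalso
                apply b.2
                apply Subtype.ext
                exact orderOf_eq_one_iff.mp h3
              · exact h3.ge⟩
        left_inv := fun a => rfl
        right_inv := fun b => rfl }
    rw [Nat.card_congr e]
    have h5 := Nat.card_congr (Equiv.optionSubtypeNe (1 : (P : Subgroup A)))
    rw [Finite.card_option, hcardP] at h5
    omega
  have := Fintype.ofFinite (Sylow p A)
  rw [Nat.card_congr (Equiv.sigmaFiberEquiv f).symm, Nat.card_sigma]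
  simp only [hfiber]
  rw [Finset.sum_const, Finset.card_univ, smul_eq_mul, mul_comm, Nat.card_eq_fintype_card]

/-- `W ⋊ C₅` with `W` of order prime to `5` never has exactly `24` elements of order `5` -/
theorem card_orderOf_five_ne {A : Type*} [Group A] [Finite A] (W : Subgroup A) [W.Normal]
    (hW : ¬ 5 ∣ Nat.card W) (hA : Nat.card A = 5 * Nat.card W) :
    Nat.card {a : A // orderOf a = 5} ≠ 24 := by
  intro h24
  have hp5 : Nat.Prime 5 := by norm_num
  have : Fact (Nat.Prime 5) := ⟨hp5⟩
  have hWpos : 0 < Nat.card W := Nat.card_pos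
  have hfac : (Nat.card A).factorization 5 = 1 := by
    rw [hA, Nat.factorization_mul (by norm_num) hWpos.ne', Finsupp.add_apply,
      hp5.factorization_self, Nat.factorization_eq_zero_of_not_dvd hW]
  have hcount := card_orderOf_eq_prime (A := A) 5 hfac
  rw [h24] at hcount
  have hn5 : Nat.card (Sylow 5 A) = 6 := by omega
  have hne : Nonempty {a : A // orderOf a = 5} :=
    (Nat.card_pos_iff.mp (by omega : 0 < Nat.card {a : A // orderOf a = 5})).1
  obtain ⟨⟨x, hx⟩⟩ := hne
  let P : Sylow 5 A := Sylow.ofCard (zpowers x) (by rw [Nat.card_zpowers, hx, hfac, pow_one])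
  set N := normalizer ((zpowers x : Subgroup A) : Set A) with hN
  have hidx : 6 = N.index := by
    rw [← hn5]
    exact P.card_eq_index_normalizer
  set Cx := centralizer ({x} : Set A) with hCx
  have hXcard : Nat.card (zpowers x) = 5 := by rw [Nat.card_zpowers, hx]
  have hXW : (zpowers x) ⊓ W = ⊥ := by
    apply (Subgroup.disjoint_of_coprime_natCard _).eq_bot
    rw [hXcard]
    exact (Nat.Prime.coprime_iff_not_dvd hp5).mpr hW
  -- `N ⊓ W = W ⊓ Cx`
  have hNW : N ⊓ W = W ⊓ Cx := by
    ext g
    rw [mem_inf, mem_inf]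
    constructor
    · rintro ⟨hgN, hgW⟩
      refine ⟨hgW, ?_⟩
      have h1 : g * x * g⁻¹ ∈ zpowers x := by
        rw [hN, mem_normalizer_iff] at hgN
        exact (hgN x).mp (mem_zpowers x)
      have h2 : g * x * g⁻¹ * x⁻¹ ∈ (zpowers x) ⊓ W := by
        rw [mem_inf]
        refine ⟨(zpowers x).mul_mem h1 ((zpowers x).inv_mem (mem_zpowers x)), ?_⟩
        have h3 : x * g⁻¹ * x⁻¹ ∈ W :=
          Subgroup.Normal.conj_mem inferInstance g⁻¹ (W.inv_mem hgW) x
        have h4 : g * x * g⁻¹ * x⁻¹ = g * (x * g⁻¹ * x⁻¹) := by group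
        rw [h4]
        exact W.mul_mem hgW h3
      rw [hXW, mem_bot] at h2
      rw [hCx, mem_centralizer_iff]
      intro y hy
      rw [Set.mem_singleton_iff] at hy
      subst hy
      have h5 : g * y * g⁻¹ = y := by
        have := mul_inv_eq_one.mp h2
        exact this
      calc y * g = (g * y * g⁻¹)⁻¹⁻¹ * g := by rw [h5, inv_inv]
        _ = g * y := by group
    · rintro ⟨hgW, hgC⟩
      refine ⟨?_, hgW⟩
      have hsub : Cx ≤ N := by
        rw [hCx, ← centralizer_zpowers_eq, hN]
        exact centralizer_le_normalizer _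
      exact hsub hgC
  -- `N ⊔ W = ⊤`
  have hsup : N ⊔ W = ⊤ := by
    have h1 : zpowers x ⊔ W ≤ N ⊔ W := sup_le_sup_right le_normalizer W
    have h2 : Nat.card (zpowers x ⊔ W : Subgroup A) = Nat.card A := by
      rw [card_sup_of_coprime, hXcard, hA]
      rw [hXcard]
      exact (Nat.Prime.coprime_iff_not_dvd hp5).mpr hW
    have h3 : zpowers x ⊔ W = ⊤ := (Subgroup.card_eq_iff_eq_top _).mp h2
    rw [h3] at h1
    exact top_le_iff.mp h1
  have hWidx : W.index = 5 := by
    have := W.card_mul_index
    rw [hA, mul_comm] at this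
    exact Nat.eq_of_mul_eq_mul_right hWpos this
  have hrel : W.relIndex N = 5 := by
    rw [← relIndex_sup_left, sup_comm, hsup, relIndex_top_right, hWidx]
  -- `|N| = 5 * |W ⊓ Cx|`
  have hNcard : Nat.card N = 5 * Nat.card (W ⊓ Cx : Subgroup A) := by
    have := relIndex_mul_relIndex (⊥ : Subgroup A) (W ⊓ N) N bot_le inf_le_right
    rw [relIndex_bot_left, relIndex_bot_left, inf_relIndex_right, inf_comm, hNW, hrel] at this
    rw [← this, mul_comm]
  have hcardA := N.card_mul_index
  rw [← hidx, hNcard, hA] at hcardA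
  have h6 : Nat.card W = 6 * Nat.card (W ⊓ Cx : Subgroup A) := by omega
  exact six W x hx (by rw [normalizer_eq_top]; exact mem_top x) hW h6

/-- a finite solvable group with cyclic Sylow `5`-subgroups never has exactly `24` elements of
order `5` -/
theorem false_of_solvable_of_card_orderOf_five {D : Type*} [Group D] [Finite D]
    (hsolv : Group.IsSolvable D) (hcyc : ∀ P : Sylow 5 D, IsCyclic P)
    (h24 : Nat.card {d : D // orderOf d = 5} = 24) : False := by
  classical
  have hp5 : Nat.Prime 5 := by norm_num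
  have : Fact (Nat.Prime 5) := ⟨hp5⟩
  obtain ⟨⟨x, hx⟩⟩ :=
    (Nat.card_pos_iff.mp (by omega : 0 < Nat.card {d : D // orderOf d = 5})).1
  have hx1 : x ≠ 1 := by
    rintro rfl
    rw [orderOf_one] at hx
    omega
  obtain ⟨n, hn⟩ := (Group.isSolvable_def D).mp hsolv
  have hex : ∃ j, x ∉ derivedSeries D j := ⟨n, by rw [hn, mem_bot]; exact hx1⟩
  have hjspec : x ∉ derivedSeries D (Nat.find hex) := Nat.find_spec hex
  have hj0 : Nat.find hex ≠ 0 := by
    intro h0
    rw [h0, derivedSeries_zero] at hjspec
    exact hjspec (mem_top x)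
  obtain ⟨i, hi⟩ := Nat.exists_eq_succ_of_ne_zero hj0
  have hxT : x ∈ derivedSeries D i := by
    by_contra hcon
    have := Nat.find_min' hex hcon
    omega
  have hxW : x ∉ derivedSeries D (i + 1) := by
    rw [← Nat.succ_eq_add_one, ← hi]
    exact hjspec
  generalize hT : derivedSeries D i = T at hxT
  generalize hW : derivedSeries D (i + 1) = W at hxW
  have hWT : W = ⁅T, T⁆ := by rw [← hW, ← hT]; rfl
  have hTn : T.Normal := by rw [← hT]; exact derivedSeries_normal D i
  have hWn : W.Normal := by rw [← hW]; exact derivedSeries_normal D (i + 1)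
  have hallT : ∀ y : D, orderOf y = 5 → y ∈ T := fun y hy =>
    mem_normal_of_orderOf_eq 5 hcyc T x y hx hxT hy
  have hnoneW : ∀ y : D, orderOf y = 5 → y ∉ W := fun y hy hyW =>
    hxW (mem_normal_of_orderOf_eq 5 hcyc W y x hy hyW hx)
  have h5W : ¬ 5 ∣ Nat.card W := by
    intro hdvd
    obtain ⟨w, hw⟩ := exists_prime_orderOf_dvd_card' 5 hdvd
    exact hnoneW w.1 (by rw [Subgroup.orderOf_coe]; exact hw) w.2
  have hcomm : ∀ s ∈ T, ∀ t ∈ T, Commute (QuotientGroup.mk' W s) (QuotientGroup.mk' W t) := by
    intro s hs t ht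
    have h1 : ⁅s, t⁆ ∈ W := by rw [hWT]; exact Subgroup.commutator_mem_commutator hs ht
    have h2 : QuotientGroup.mk' W ⁅s, t⁆ = 1 := (QuotientGroup.eq_one_iff _).mpr h1
    rw [map_commutatorElement, commutatorElement_eq_one_iff_commute] at h2
    exact h2
  let A : Subgroup D :=
    { carrier := {t | t ∈ T ∧ (QuotientGroup.mk' W t) ^ 5 = 1}
      one_mem' := ⟨T.one_mem, by simp⟩
      mul_mem' := by
        rintro s t ⟨hs, hs5⟩ ⟨ht, ht5⟩
        refine ⟨T.mul_mem hs ht, ?_⟩
        rw [map_mul, (hcomm s hs t ht).mul_pow, hs5, ht5, one_mul]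
      inv_mem' := by
        rintro s ⟨hs, hs5⟩
        refine ⟨T.inv_mem hs, ?_⟩
        rw [map_inv, inv_pow, hs5, inv_one] }
  have hAmem : ∀ t, t ∈ A ↔ t ∈ T ∧ (QuotientGroup.mk' W t) ^ 5 = 1 := fun t => Iff.rfl
  have hWA : W ≤ A := by
    intro w hw
    rw [hAmem]
    refine ⟨?_, ?_⟩
    · rw [hWT] at hw
      exact Subgroup.commutator_le_left T T hw
    · have : QuotientGroup.mk' W w = 1 := (QuotientGroup.eq_one_iff _).mpr hw
      rw [this, one_pow]
  have hallA : ∀ y : D, orderOf y = 5 → y ∈ A := by
    intro y hy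
    rw [hAmem]
    refine ⟨hallT y hy, ?_⟩
    rw [← map_pow, ← hy, pow_orderOf_eq_one, map_one]
  have hAcard : Nat.card A = 5 * Nat.card W := by
    have hker : (QuotientGroup.mk' W).ker = W := QuotientGroup.ker_mk' W
    have h1 : W.relIndex A = Nat.card (A.map (QuotientGroup.mk' W)) := by
      conv_lhs => rw [← hker]
      exact relIndex_ker A (QuotientGroup.mk' W)
    have h2 : IsPGroup 5 (A.map (QuotientGroup.mk' W)) := by
      rintro ⟨q, hq⟩
      obtain ⟨a, ha, rfl⟩ := mem_map.mp hq
      refine ⟨1, ?_⟩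
      apply Subtype.ext
      rw [pow_one, Subgroup.coe_pow, Subgroup.coe_one]
      exact ((hAmem a).mp ha).2
    obtain ⟨a, ha⟩ := IsPGroup.iff_card.mp h2
    have h3 : Nat.card W * W.relIndex A = Nat.card A := by
      have := relIndex_mul_relIndex (⊥ : Subgroup D) W A bot_le hWA
      rwa [relIndex_bot_left, relIndex_bot_left] at this
    rw [h1, ha] at h3
    have hdvd : 5 ^ a ∣ Nat.card A := ⟨Nat.card W, by rw [← h3, mul_comm]⟩
    obtain ⟨S, hS⟩ := Sylow.exists_subgroup_card_pow_prime 5 hdvd
    have hS'card : Nat.card (S.map A.subtype) = 5 ^ a := by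
      rw [card_map_of_injective (subtype_injective A)]
      exact hS
    have hS'A : S.map A.subtype ≤ A := map_subtype_le S
    have hS'pg : IsPGroup 5 (S.map A.subtype) := IsPGroup.of_card hS'card
    obtain ⟨Q, hQ⟩ := hS'pg.exists_le_sylow
    have := hcyc Q
    have hS'cyc : IsCyclic (S.map A.subtype) := Subgroup.isCyclic_of_le hQ
    obtain ⟨⟨g, hgS⟩, hg⟩ := hS'cyc.exists_generator
    have hcop : (Nat.card W).Coprime (5 ^ a) :=
      (Nat.Coprime.pow_left a ((Nat.Prime.coprime_iff_not_dvd hp5).mpr h5W)).symm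
    have hg5 : g ^ 5 = 1 := by
      have h4 : g ^ 5 ∈ W := by
        have h41 := ((hAmem g).mp (hS'A hgS)).2
        rw [← map_pow] at h41
        exact (QuotientGroup.eq_one_iff _).mp h41
      have h5 : g ^ 5 ∈ W ⊓ S.map A.subtype := ⟨h4, (S.map A.subtype).pow_mem hgS 5⟩
      have h6 : W ⊓ S.map A.subtype = ⊥ := by
        apply (Subgroup.disjoint_of_coprime_natCard _).eq_bot
        rw [hS'card]
        exact hcop
      rw [h6, mem_bot] at h5
      exact h5
    have h7 : Nat.card (S.map A.subtype) ∣ 5 := by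
      rw [← orderOf_eq_card_of_forall_mem_zpowers hg]
      apply orderOf_dvd_of_pow_eq_one
      apply Subtype.ext
      rw [Subgroup.coe_pow, Subgroup.coe_one]
      exact hg5
    rw [hS'card] at h7
    have h8 : 5 ∣ Nat.card A := by
      have := orderOf_dvd_natCard (⟨x, hallA x hx⟩ : A)
      rwa [Subgroup.orderOf_mk, hx] at this
    rw [← h3] at h8
    have h9 : 5 ∣ 5 ^ a :=
      Nat.Coprime.dvd_of_dvd_mul_left ((Nat.Prime.coprime_iff_not_dvd hp5).mpr h5W) h8
    have h10 : 5 ^ a = 5 := Nat.dvd_antisymm h7 h9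
    rw [← h3, h10, mul_comm]
  have hWA' : (W.subgroupOf A).Normal := inferInstance
  have hcardW' : Nat.card (W.subgroupOf A) = Nat.card W :=
    Nat.card_congr (subgroupOfEquivOfLe hWA).toEquiv
  have hcount : Nat.card {a : A // orderOf a = 5} = 24 := by
    rw [← h24]
    apply Nat.card_congr
    exact
      { toFun := fun a => ⟨a.1.1, by rw [Subgroup.orderOf_coe]; exact a.2⟩
        invFun := fun d => ⟨⟨d.1, hallA d.1 d.2⟩, by rw [Subgroup.orderOf_mk]; exact d.2⟩
        left_inv := fun a => rfl
        right_inv := fun d => rfl }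
  exact card_orderOf_five_ne (W.subgroupOf A) (by rw [hcardW']; exact h5W)
    (by rw [hcardW']; exact hAcard) hcount

end Cfsg.Agent.Lib.Helper66_OrderType
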