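import Mathlib

/-!
`SL(2, 5)` has exactly `24` elements of order `5` (helper66).
-/

set_option autoImplicit false

namespace Cfsg.Agent.Lib.Helper66_SL25Count

set_option maxRecDepth 100000 in
theorem card_filter :
    (Finset.univ.filter (fun g : Matrix.SpecialLinearGroup (Fin 2) (ZMod 5) =>
      g ^ 5 = 1 ∧ g ≠ 1)).card = 24 := by
  decide

theorem card_orderOf_five :
    Nat.card {g : Matrix.SpecialLinearGroup (Fin 2) (ZMod 5) // orderOf g = 5} = 24 := by
  classical
  have : Fact (Nat.Prime 5) := ⟨by norm_num⟩
  rw [Nat.card_eq_fintype_card, Fintype.card_subtype, ← card_filter]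
  congr 1
  apply Finset.filter_congr
  intro g _
  exact orderOf_eq_prime_iff

end Cfsg.Agent.Lib.Helper66_SL25Count
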