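import Mathlib

/-!
# Finite abelian groups of odd order with a "quaternion" action have square order

`M` a finite additive commutative group of odd order, `I J : M →+ M` with
`I (I x) = -x`, `J (J x) = -x`, `I (J x) = -J (I x)`.  Then `Nat.card M` is a perfect square.
-/

set_option autoImplicit false

namespace Cfsg.Agent.Lib.Helper71_QuatSquare

universe u

section elementary

variable {M : Type*} [AddCommGroup M]

/-- the case of exponent `p`. -/
theorem isSquare_card_of_exponent_prime (I J : M →+ M) (hI : ∀ x, I (I x) = -x)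
    (hJ : ∀ x, J (J x) = -x) (hIJ : ∀ x, I (J x) = -J (I x)) (p : ℕ) (hp : p.Prime)
    (hp2 : p ≠ 2) (hpM : ∀ x : M, p • x = 0) : IsSquare (Nat.card M) := by
  have : Fact p.Prime := ⟨hp⟩
  obtain ⟨a', b', hab'⟩ := ZMod.sq_add_sq p (-1)
  -- natural representatives
  obtain ⟨a, rfl⟩ : ∃ a : ℕ, (a : ZMod p) = a' := ⟨a'.val, ZMod.natCast_zmod_val a'⟩
  obtain ⟨b, rfl⟩ : ∃ b : ℕ, (b : ZMod p) = b' := ⟨b'.val, ZMod.natCast_zmod_val b'⟩
  have hdvd : p ∣ a ^ 2 + b ^ 2 + 1 := by
    rw [← ZMod.natCast_eq_zero_iff]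
    push_cast
    rw [hab']; ring
  have hkill : ∀ x : M, (a ^ 2 + b ^ 2 + 1) • x = 0 := by
    intro x
    obtain ⟨c, hc⟩ := hdvd
    rw [hc, mul_comm, mul_smul, hpM, smul_zero]
  -- the involution `u`
  set u : M →+ M := a • I + b • J with hu
  have hux : ∀ x, u x = a • I x + b • J x := fun x => by simp [hu]
  have huu : ∀ x, u (u x) = x := by
    intro x
    have h1 : u (u x) = a • (a • I (I x) + b • I (J x)) + b • (a • J (I x) + b • J (J x)) := by
      rw [hux (u x), hux x]
      simp only [map_add, map_nsmul]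
    rw [h1, hI, hJ, hIJ]
    have h2 := hkill x
    have : a • (a • (-x) + b • (-J (I x))) + b • (a • J (I x) + b • (-x))
        = x - (a ^ 2 + b ^ 2 + 1) • x := by
      simp only [smul_add, smul_neg, smul_smul, add_smul, one_smul, pow_two]
      rw [mul_comm b a]
      abel
    rw [this, h2, sub_zero]
  set T : M →+ M := I.comp J with hT
  have hTx : ∀ x, T x = I (J x) := fun x => rfl
  have hJIJ : ∀ x, J (I (J x)) = I x := by
    intro x
    have := hIJ (J x)
    rw [hJ, map_neg] at this
    exact (neg_inj.mp this).symm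
  have hIJI : ∀ x, I (J (I x)) = J x := by
    intro x
    have := hIJ (I x)
    rw [hI, map_neg] at this
    rw [this, neg_neg]
  have hTT : ∀ x, T (T x) = -x := by
    intro x
    rw [hTx, hTx, hJIJ, hI]
  have huT : ∀ x, u (T x) = -T (u x) := by
    intro x
    rw [hux (T x), hTx, hI, hJIJ, hTx, hux x]
    simp only [map_add, map_nsmul, hIJI, hJ, map_neg]
    simp only [smul_neg, neg_add, neg_neg]
  -- `φ = 1 + u`
  set φ : M →+ M := AddMonoidHom.id M + u with hφ
  have hφx : ∀ x, φ x = x + u x := fun x => by simp [hφ]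
  have hcard : Nat.card φ.ker * Nat.card φ.range = Nat.card M := by
    rw [← AddSubgroup.index_ker, AddSubgroup.card_mul_index]
  -- the range is the `+1`-eigenspace
  have hp1 : ∀ x : M, (p + 1) • x = x := by
    intro x; rw [add_smul, hpM, zero_add, one_smul]
  have hodd : Odd p := hp.odd_of_ne_two hp2
  obtain ⟨c, hc⟩ : ∃ c, p + 1 = 2 * c := by
    obtain ⟨k, hk⟩ := hodd
    exact ⟨k + 1, by omega⟩
  have hrange : ∀ x, x ∈ φ.range ↔ u x = x := by
    intro x
    constructor
    · rintro ⟨y, rfl⟩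
      rw [hφx, map_add, huu, add_comm]
    · intro hx
      refine ⟨c • x, ?_⟩
      rw [hφx, map_nsmul, hx, ← two_nsmul, ← mul_smul, ← hc, hp1]
  have hker : ∀ x, x ∈ φ.ker ↔ u x = -x := by
    intro x
    rw [AddMonoidHom.mem_ker, hφx, add_comm, add_eq_zero_iff_eq_neg]
  have heq : Nat.card φ.range = Nat.card φ.ker := by
    refine Nat.card_congr ⟨fun x => ⟨T x.1, ?_⟩, fun y => ⟨-T y.1, ?_⟩, ?_, ?_⟩
    · rw [hker, huT, (hrange x.1).mp x.2]
    · rw [hrange, map_neg, huT, (hker y.1).mp y.2, map_neg, neg_neg]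
    · intro x
      ext
      simp only
      rw [hTT, neg_neg]
    · intro y
      ext
      simp only
      rw [map_neg, hTT, neg_neg]
  rw [← hcard, heq]
  exact ⟨_, rfl⟩

end elementary

section general

/-- restriction of an endomorphism to an invariant subgroup. -/
def restr {M : Type*} [AddCommGroup M] (S : AddSubgroup M) (F : M →+ M)
    (h : ∀ x ∈ S, F x ∈ S) : S →+ S :=
  (F.comp S.subtype).codRestrict S (fun x => h x.1 x.2)

@[simp] lemma restr_apply {M : Type*} [AddCommGroup M] (S : AddSubgroup M) (F : M →+ M)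
    (h : ∀ x ∈ S, F x ∈ S) (x : S) : ((restr S F h x : S) : M) = F x := rfl

theorem isSquare_card_aux : ∀ k : ℕ, ∀ (M : Type u) [AddCommGroup M] [Finite M] (I J : M →+ M),
    (∀ x, I (I x) = -x) → (∀ x, J (J x) = -x) → (∀ x, I (J x) = -J (I x)) →
    Nat.card M = k → Odd k → IsSquare k := by
  intro k
  induction k using Nat.strong_induction_on with
  | _ k IH =>
  intro M _ _ I J hI hJ hIJ hk hodd
  by_cases hk1 : k = 1
  · rw [hk1]; exact ⟨1, rfl⟩
  obtain ⟨p, hp, hpk⟩ := Nat.exists_prime_and_dvd hk1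
  have hp2 : p ≠ 2 := by
    rintro rfl
    exact (Nat.not_even_iff_odd.mpr hodd) (even_iff_two_dvd.mpr hpk)
  have : Fact p.Prime := ⟨hp⟩
  set f : M →+ M := nsmulAddMonoidHom p with hf
  have hfx : ∀ x, f x = p • x := fun x => rfl
  have hcard : Nat.card f.ker * Nat.card f.range = Nat.card M := by
    rw [← AddSubgroup.index_ker, AddSubgroup.card_mul_index]
  -- invariance
  have hIker : ∀ x ∈ f.ker, I x ∈ f.ker := by
    intro x hx
    rw [AddMonoidHom.mem_ker, hfx] at hx ⊢
    rw [← map_nsmul, hx, map_zero]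
  have hJker : ∀ x ∈ f.ker, J x ∈ f.ker := by
    intro x hx
    rw [AddMonoidHom.mem_ker, hfx] at hx ⊢
    rw [← map_nsmul, hx, map_zero]
  have hIran : ∀ x ∈ f.range, I x ∈ f.range := by
    rintro _ ⟨y, rfl⟩
    exact ⟨I y, by rw [hfx, hfx, map_nsmul]⟩
  have hJran : ∀ x ∈ f.range, J x ∈ f.range := by
    rintro _ ⟨y, rfl⟩
    exact ⟨J y, by rw [hfx, hfx, map_nsmul]⟩
  -- the kernel has exponent p
  have hsqK : IsSquare (Nat.card f.ker) := by
    apply isSquare_card_of_exponent_prime (restr f.ker I hIker) (restr f.ker J hJker)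
      _ _ _ p hp hp2
    · intro x
      apply Subtype.ext
      have := x.2
      rw [AddMonoidHom.mem_ker, hfx] at this
      simpa using this
    · intro x; apply Subtype.ext; simp [hI]
    · intro x; apply Subtype.ext; simp [hJ]
    · intro x; apply Subtype.ext; simp [hIJ]
  -- the kernel is nontrivial
  have hpM : p ∣ Nat.card M := hk ▸ hpk
  obtain ⟨x₀, hx₀⟩ := exists_prime_addOrderOf_dvd_card' p hpM
  have hx₀ker : x₀ ∈ f.ker := by
    rw [AddMonoidHom.mem_ker, hfx, ← hx₀, addOrderOf_nsmul_eq_zero]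
  have hx₀ne : x₀ ≠ 0 := by
    intro h
    rw [h, addOrderOf_zero] at hx₀
    exact hp.one_lt.ne hx₀
  have hK2 : 2 ≤ Nat.card f.ker := by
    have : Nontrivial f.ker := ⟨⟨⟨x₀, hx₀ker⟩, 0, fun h => hx₀ne (congrArg Subtype.val h)⟩⟩
    exact Finite.one_lt_card
  have hRpos : 0 < Nat.card f.range := Nat.card_pos
  have hRlt : Nat.card f.range < k := by
    rw [← hk, ← hcard]
    nlinarith
  have hRodd : Odd (Nat.card f.range) := by
    have : Nat.card f.range ∣ k := ⟨Nat.card f.ker, by rw [← hk, ← hcard, mul_comm]⟩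
    exact Odd.of_dvd_nat hodd this
  have hsqR : IsSquare (Nat.card f.range) := by
    apply IH _ hRlt f.range (restr f.range I hIran) (restr f.range J hJran) _ _ _ rfl hRodd
    · intro x; apply Subtype.ext; simp [hI]
    · intro x; apply Subtype.ext; simp [hJ]
    · intro x; apply Subtype.ext; simp [hIJ]
  rw [← hk, ← hcard]
  exact hsqK.mul hsqR

/-- a finite abelian group of odd order on which "quaternion units" `I`, `J` act has square
order. -/
theorem isSquare_card {M : Type u} [AddCommGroup M] [Finite M] (I J : M →+ M)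
    (hI : ∀ x, I (I x) = -x) (hJ : ∀ x, J (J x) = -x) (hIJ : ∀ x, I (J x) = -J (I x))
    (hodd : Odd (Nat.card M)) : IsSquare (Nat.card M) :=
  isSquare_card_aux _ M I J hI hJ hIJ rfl hodd

end general

end Cfsg.Agent.Lib.Helper71_QuatSquare
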