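import Mathlib
import Cfsg.Prelude.Def_Solvable
import Cfsg.Agent.S0035
import Cfsg.Agent.Lib.Helper71_Frobenius
import Cfsg.Agent.Lib.Helper71_QuatSquare

/-!
# A Frobenius complement containing a quaternion group has a kernel of odd square order
-/

set_option autoImplicit false

namespace Cfsg.Agent.Lib.Helper71_QuatFrob

open Cfsg
open scoped Pointwise

variable {L : Type*} [Group L]

/-- a Frobenius complement acts without fixed points on the kernel. -/
theorem fpf_of_isFrobeniusComplement (H : Subgroup L) (hF : IsFrobeniusComplement H)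
    (h : L) (hh : h ∈ H) (hh1 : h ≠ 1) (k : L) (hk : k ∈ frobeniusKernel H)
    (hcomm : h * k = k * h) : k = 1 := by
  rcases hk with hk | hk
  · exact hk
  · exfalso
    have hkH : k ∉ H := by
      have := hk 1
      simpa using this
    have h1 := hF.2.2 k hkH
    have h2 : h ∈ H ⊓ (MulAut.conj k • H) := by
      rw [Subgroup.mem_inf]
      refine ⟨hh, ?_⟩
      rw [Cfsg.Agent.Lib.Helper71_Frobenius.mem_conj_smul]
      have : k⁻¹ * h * k = h := by rw [mul_assoc, hcomm, ← mul_assoc, inv_mul_cancel, one_mul]
      rw [this]; exact hh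
    rw [h1] at h2
    exact hh1 (Subgroup.mem_bot.mp h2)

/-- If a Frobenius complement `H` contains elements `i`, `j` generating a quaternion group
(`i² = j² ≠ 1`, `i⁴ = 1`, `j i j⁻¹ = i⁻¹`), then the Frobenius kernel has odd square order. -/
theorem odd_and_isSquare_card_kernel [Finite L] (H : Subgroup L) (hF : IsFrobeniusComplement H)
    (i j : L) (hi : i ∈ H) (ht : i * i ≠ 1) (hjj : j * j = i * i)
    (ht2 : (i * i) * (i * i) = 1) (hconj : j * i * j⁻¹ = i⁻¹) :
    Odd (Nat.card (frobeniusKernel H)) ∧ IsSquare (Nat.card (frobeniusKernel H)) := by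
  obtain ⟨K, hKset, hKn, -⟩ := Cfsg.Agent.S0035.result H hF
  have := hKn
  have hcardK : Nat.card (frobeniusKernel H) = Nat.card K := by
    rw [← hKset]; rfl
  rw [hcardK]
  have hmemK : ∀ k : K, (k : L) ∈ frobeniusKernel H := fun k => hKset ▸ k.2
  have htH : i * i ∈ H := mul_mem hi hi
  have cj_apply : ∀ (g : L) (k : K), ((MulAut.conjNormal g k : K) : L) = g * k * g⁻¹ :=
    fun g k => MulAut.conjNormal_apply g k
  have cj_mul : ∀ (g g' : L) (k : K),
      MulAut.conjNormal g (MulAut.conjNormal g' k) = MulAut.conjNormal (g * g') k := by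
    intro g g' k
    rw [map_mul]; rfl
  -- the involution acts without fixed points
  have hfix : ∀ k : K, MulAut.conjNormal (i * i) k = k → k = 1 := by
    intro k hk
    have h1 := congrArg Subtype.val hk
    rw [cj_apply] at h1
    have h2 : (i * i) * (k : L) = (k : L) * (i * i) := by
      calc (i * i) * (k : L) = ((i * i) * k * (i * i)⁻¹) * (i * i) := by group
        _ = (k : L) * (i * i) := by rw [h1]
    exact Subtype.ext (fpf_of_isFrobeniusComplement H hF (i * i) htH ht k (hmemK k) h2)
  have hττ : ∀ k : K, MulAut.conjNormal (i * i) (MulAut.conjNormal (i * i) k) = k := by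
    intro k
    rw [cj_mul, ht2, map_one]; rfl
  -- hence it inverts `K`
  have hinj : Function.Injective (fun k : K => k⁻¹ * MulAut.conjNormal (i * i) k) := by
    intro k m hkm
    simp only at hkm
    have h1 : MulAut.conjNormal (i * i) (m * k⁻¹) = m * k⁻¹ := by
      rw [map_mul, map_inv]
      have : MulAut.conjNormal (i * i) m = m * (k⁻¹ * MulAut.conjNormal (i * i) k) := by
        rw [hkm]; group
      rw [this]; group
    have h2 := hfix _ h1
    have : m = k := by
      calc m = (m * k⁻¹) * k := by group
        _ = k := by rw [h2, one_mul]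
    exact this.symm
  have hsurj := Finite.injective_iff_surjective.mp hinj
  have hinv : ∀ k : K, MulAut.conjNormal (i * i) k = k⁻¹ := by
    intro k
    obtain ⟨m, hm⟩ := hsurj k
    simp only at hm
    rw [← hm, map_mul, map_inv, hττ]
    group
  have hcomm : ∀ a b : K, a * b = b * a := by
    intro a b
    have h1 := hinv (a * b)
    rw [map_mul, hinv, hinv] at h1
    have h2 : (a * b)⁻¹⁻¹ = (a⁻¹ * b⁻¹)⁻¹ := by rw [h1]
    rw [inv_inv, mul_inv_rev, inv_inv, inv_inv] at h2
    exact h2
  have hodd : Odd (Nat.card K) := by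
    rw [← Nat.not_even_iff_odd, even_iff_two_dvd]
    intro h2
    have : Fact (Nat.Prime 2) := ⟨Nat.prime_two⟩
    obtain ⟨k, hk⟩ := exists_prime_orderOf_dvd_card' 2 h2
    have hk2 : k * k = 1 := by rw [← pow_two, ← hk, pow_orderOf_eq_one]
    have hkinv : k⁻¹ = k := inv_eq_of_mul_eq_one_right hk2
    have := hfix k (by rw [hinv, hkinv])
    rw [this, orderOf_one] at hk
    omega
  refine ⟨hodd, ?_⟩
  -- relations among the conjugations
  have r1 : ∀ k : K, MulAut.conjNormal i (MulAut.conjNormal i k) = k⁻¹ := by
    intro k; rw [cj_mul, hinv]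
  have r2 : ∀ k : K, MulAut.conjNormal j (MulAut.conjNormal j k) = k⁻¹ := by
    intro k; rw [cj_mul, hjj, hinv]
  have hij : i * j = (i * i) * (j * i) := by
    have h1 : j * i = i⁻¹ * j := by
      calc j * i = (j * i * j⁻¹) * j := by group
        _ = i⁻¹ * j := by rw [hconj]
    rw [h1]; group
  have r3 : ∀ k : K, MulAut.conjNormal i (MulAut.conjNormal j k) =
      (MulAut.conjNormal j (MulAut.conjNormal i k))⁻¹ := by
    intro k
    rw [cj_mul, hij, ← cj_mul, hinv, cj_mul]
  let _ : CommGroup K := { (inferInstance : Group K) with mul_comm := hcomm }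
  have key := Cfsg.Agent.Lib.Helper71_QuatSquare.isSquare_card (M := Additive K)
    (MonoidHom.toAdditive (MulAut.conjNormal i : K ≃* K).toMonoidHom)
    (MonoidHom.toAdditive (MulAut.conjNormal j : K ≃* K).toMonoidHom)
    (fun x => congrArg Additive.ofMul (r1 (Additive.toMul x)))
    (fun x => congrArg Additive.ofMul (r2 (Additive.toMul x)))
    (fun x => congrArg Additive.ofMul (r3 (Additive.toMul x)))
    hodd
  exact key

end Cfsg.Agent.Lib.Helper71_QuatFrob
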