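import Mathlib
import Cfsg.Prelude.Def_Solvable
import Cfsg.Agent.S0042
import Cfsg.Agent.S0039
import Cfsg.Agent.S0040
import Cfsg.Agent.S0690
import Cfsg.Agent.S3997
import Cfsg.Agent.Lib.Helper6_Frobenius
import Cfsg.Agent.Lib.Helper71_FrobCount
import Cfsg.Agent.Lib.Helper71_QuatFrob
import Cfsg.Agent.Lib.Helper66_OrderType
import Cfsg.Agent.Lib.Helper66_SL25Count

/-!
Frobenius groups and order types (helper66): the Frobenius structure and the solvability of a
Frobenius group are determined by its order type.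
-/

set_option autoImplicit false

namespace Cfsg.Agent.Lib.Helper66_FrobOrder

open Subgroup
open Cfsg.Agent.Lib.Helper66_OrderType

/-- the data of a Frobenius group: kernel `N` and complement `R` -/
structure FrobData {L : Type*} [Group L] (N R : Subgroup L) : Prop where
  normal : N.Normal
  compl : Subgroup.IsComplement' N R
  nil : Group.IsNilpotent N
  cop : (Nat.card N).Coprime (Nat.card R)
  ne_bot : N ≠ ⊥
  ne_bot' : R ≠ ⊥
  fpf : ∀ r ∈ R, r ≠ 1 → ∀ n ∈ N, r * n = n * r → n = 1

/-- a Frobenius complement comes with Frobenius data -/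
theorem exists_frobData {L : Type*} [Group L] [Finite L] (R : Subgroup L)
    (hR : Cfsg.IsFrobeniusComplement R) : ∃ N : Subgroup L, FrobData N R := by
  obtain ⟨N₁, hN₁, hn₁, hnil⟩ := Cfsg.Agent.S0042.result R hR
  obtain ⟨N₂, hN₂, hn₂, hcompl⟩ := Cfsg.Agent.Lib.Helper6_Frobenius.exists_kernel R hR
  have e2 : N₂ = N₁ := SetLike.coe_injective (hN₂.trans hN₁.symm)
  rw [e2] at hcompl
  have hidx : R.index = Nat.card N₁ := hcompl.index_eq_card
  have hmod := Cfsg.Agent.Lib.Helper71_FrobCount.index_mod_card R hR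
  rw [hidx] at hmod
  have hcop : (Nat.card N₁).Coprime (Nat.card R) := by
    have h1 : Nat.gcd (Nat.card N₁) (Nat.card R) = Nat.gcd 1 (Nat.card R) := Nat.ModEq.gcd_eq hmod
    rw [Nat.Coprime, h1, Nat.gcd_one_left]
  have hbot : N₁ ≠ ⊥ := by
    intro h
    have h2 := hcompl.card_mul_card
    rw [h, Subgroup.card_bot, one_mul] at h2
    exact hR.2.1 ((Subgroup.card_eq_iff_eq_top R).mp h2)
  refine ⟨N₁, hn₁, hcompl, hnil, hcop, hbot, hR.1, ?_⟩
  intro r hr hr1 n hn hrn
  exact Cfsg.Agent.Lib.Helper71_QuatFrob.fpf_of_isFrobeniusComplement R hR r hr hr1 n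
    (by rw [← hN₁]; exact hn) hrn

variable {L : Type*} [Group L] [Finite L] {N R : Subgroup L}

/-- every element of the coset `N r` is `N`-conjugate to `r` -/
theorem FrobData.exists_conj (h : FrobData N R) {r : L} (hr : r ∈ R) (hr1 : r ≠ 1) {n : L}
    (hn : n ∈ N) : ∃ u ∈ N, n * r = u * r * u⁻¹ := by
  have hNn := h.normal
  let ψ : N → N := fun u => ⟨(u : L) * r * (u : L)⁻¹ * r⁻¹, by
    have h1 : r * (u : L)⁻¹ * r⁻¹ ∈ N := hNn.conj_mem _ (N.inv_mem u.2) r
    have h2 : (u : L) * r * (u : L)⁻¹ * r⁻¹ = u * (r * (u : L)⁻¹ * r⁻¹) := by group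
    rw [h2]
    exact N.mul_mem u.2 h1⟩
  have hinj : Function.Injective ψ := by
    intro u v huv
    have h1 : (u : L) * r * (u : L)⁻¹ * r⁻¹ = v * r * (v : L)⁻¹ * r⁻¹ := congrArg Subtype.val huv
    have h2 : (u : L) * r * (u : L)⁻¹ = v * r * (v : L)⁻¹ := mul_right_cancel h1
    have h3 : r * ((v : L)⁻¹ * u) = ((v : L)⁻¹ * u) * r := by
      calc r * ((v : L)⁻¹ * u) = (v : L)⁻¹ * (v * r * (v : L)⁻¹) * u := by group
        _ = (v : L)⁻¹ * (u * r * (u : L)⁻¹) * u := by rw [h2]
        _ = ((v : L)⁻¹ * u) * r := by group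
    have h4 := h.fpf r hr hr1 _ (N.mul_mem (N.inv_mem v.2) u.2) h3
    apply Subtype.ext
    have h5 : (u : L) = v * ((v : L)⁻¹ * u) := by group
    rw [h5, h4, mul_one]
  have hsurj : Function.Surjective ψ := Finite.injective_iff_surjective.mp hinj
  obtain ⟨u, hu⟩ := hsurj ⟨n, hn⟩
  refine ⟨u, u.2, ?_⟩
  have h1 : (u : L) * r * (u : L)⁻¹ * r⁻¹ = n := congrArg Subtype.val hu
  rw [← h1]
  group

omit [Finite L] in
/-- decomposition of an element along the complement -/
theorem FrobData.exists_mul (h : FrobData N R) (f : L) : ∃ n ∈ N, ∃ r ∈ R, f = n * r := by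
  obtain ⟨x, hx, -⟩ := h.compl.existsUnique f
  exact ⟨x.1.1, x.1.2, x.2.1, x.2.2, hx.symm⟩

/-- an element outside the kernel is conjugate into the complement -/
theorem FrobData.mem_or_orderOf_dvd (h : FrobData N R) (f : L) :
    f ∈ N ∨ (f ≠ 1 ∧ orderOf f ∣ Nat.card R) := by
  obtain ⟨n, hn, r, hr, rfl⟩ := h.exists_mul f
  by_cases hr1 : r = 1
  · left
    rw [hr1, mul_one]
    exact hn
  · right
    obtain ⟨u, hu, huf⟩ := h.exists_conj hr hr1 hn
    rw [huf]
    have h1 : orderOf (u * r * u⁻¹) = orderOf r := by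
      have := orderOf_injective (MulAut.conj u).toMonoidHom (MulAut.conj u).injective r
      simpa using this
    refine ⟨?_, ?_⟩
    · intro h2
      apply hr1
      have h3 : r = u⁻¹ * (u * r * u⁻¹) * u := by group
      rw [h3, h2]
      group
    · rw [h1]
      have := orderOf_dvd_natCard (⟨r, hr⟩ : R)
      rwa [Subgroup.orderOf_mk] at this

theorem FrobData.orderOf_dvd (h : FrobData N R) (f : L) :
    orderOf f ∣ Nat.card N ∨ orderOf f ∣ Nat.card R := by
  rcases h.mem_or_orderOf_dvd f with h1 | h1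
  · left
    have := orderOf_dvd_natCard (⟨f, h1⟩ : N)
    rwa [Subgroup.orderOf_mk] at this
  · exact Or.inr h1.2

theorem orderOf_conj' {X : Type*} [Group X] (u r : X) : orderOf (u * r * u⁻¹) = orderOf r := by
  have := orderOf_injective (MulAut.conj u).toMonoidHom (MulAut.conj u).injective r
  simpa using this

/-- counting the elements of an order `m` not dividing the order of the kernel -/
theorem FrobData.card_orderOf_eq (h : FrobData N R) (m : ℕ) (hm : ¬ m ∣ Nat.card N) :
    Nat.card {f : L // orderOf f = m} = Nat.card N * Nat.card {r : R // orderOf r = m} := by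
  rw [← Nat.card_prod]
  symm
  apply Nat.card_congr
  have hNn := h.normal
  have hm1 : m ≠ 1 := fun h1 => hm (h1 ▸ one_dvd _)
  refine Equiv.ofBijective (fun x : N × {r : R // orderOf r = m} =>
    ⟨(x.1 : L) * (x.2.1 : L) * (x.1 : L)⁻¹, by
      rw [orderOf_conj', Subgroup.orderOf_coe]; exact x.2.2⟩) ⟨?_, ?_⟩
  · rintro ⟨u, ⟨r, hr⟩⟩ ⟨v, ⟨r', hr'⟩⟩ huv
    have h1 : (u : L) * (r : L) * (u : L)⁻¹ = (v : L) * (r' : L) * (v : L)⁻¹ :=
      congrArg Subtype.val huv
    have hwN : (v : L)⁻¹ * u ∈ N := N.mul_mem (N.inv_mem v.2) u.2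
    have h2 : (r' : L) = ((v : L)⁻¹ * u) * r * ((v : L)⁻¹ * u)⁻¹ := by
      calc (r' : L) = (v : L)⁻¹ * (v * r' * (v : L)⁻¹) * v := by group
        _ = (v : L)⁻¹ * (u * r * (u : L)⁻¹) * v := by rw [h1]
        _ = _ := by group
    have h3 : (r' : L) * (r : L)⁻¹ ∈ N ⊓ R := by
      refine ⟨?_, R.mul_mem r'.2 (R.inv_mem r.2)⟩
      rw [h2]
      have h31 : ((v : L)⁻¹ * u) * r * ((v : L)⁻¹ * u)⁻¹ * (r : L)⁻¹ =
          ((v : L)⁻¹ * u) * (r * ((v : L)⁻¹ * u)⁻¹ * (r : L)⁻¹) := by group
      rw [h31]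
      exact N.mul_mem hwN (hNn.conj_mem _ (N.inv_mem hwN) _)
    rw [h.compl.disjoint.eq_bot, mem_bot] at h3
    have h4 : (r' : L) = r := mul_inv_eq_one.mp h3
    have hr1 : (r : L) ≠ 1 := by
      intro h5
      have h51 : orderOf (r : L) = 1 := by rw [h5, orderOf_one]
      rw [Subgroup.orderOf_coe, hr] at h51
      exact hm1 h51
    have h5 : (r : L) * ((v : L)⁻¹ * u) = ((v : L)⁻¹ * u) * r := by
      rw [h4] at h2
      calc (r : L) * ((v : L)⁻¹ * u)
          = (((v : L)⁻¹ * u) * r * ((v : L)⁻¹ * u)⁻¹) * ((v : L)⁻¹ * u) := by rw [← h2]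
        _ = ((v : L)⁻¹ * u) * r := by group
    have h6 := h.fpf r r.2 hr1 _ hwN h5
    have h7 : u = v := by
      apply Subtype.ext
      have h71 : (u : L) = v * ((v : L)⁻¹ * u) := by group
      rw [h71, h6, mul_one]
    have h8 : r' = r := Subtype.ext h4
    subst h7
    subst h8
    rfl
  · rintro ⟨f, hf⟩
    obtain ⟨n, hn, r, hr, rfl⟩ := h.exists_mul f
    have hr1 : r ≠ 1 := by
      rintro rfl
      rw [mul_one] at hf
      have := orderOf_dvd_natCard (⟨n, hn⟩ : N)
      rw [Subgroup.orderOf_mk, hf] at this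
      exact hm this
    obtain ⟨u, hu, huf⟩ := h.exists_conj hr hr1 hn
    refine ⟨⟨⟨u, hu⟩, ⟨⟨r, hr⟩, ?_⟩⟩, ?_⟩
    · rw [Subgroup.orderOf_mk, ← orderOf_conj' u r, ← huf]; exact hf
    · apply Subtype.ext; exact huf.symm

/-- the order type of a Frobenius group determines a Frobenius structure -/
theorem exists_frobenius_of_equiv {F G : Type*} [Group F] [Finite F] [Group G] [Finite G]
    (K C : Subgroup F) (hD : FrobData K C) (e : F ≃ G)
    (he : ∀ f : F, orderOf (e f) = orderOf f) :
    ∃ D : Subgroup G, Cfsg.IsFrobeniusComplement D ∧ Nat.card D = Nat.card C := by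
  have hKn := hD.normal
  have hnpos : 0 < Nat.card K := Nat.card_pos
  have hhpos : 0 < Nat.card C := Nat.card_pos
  have hcardF : Nat.card F = Nat.card K * Nat.card C := hD.compl.card_mul_card.symm
  have hcardG : Nat.card G = Nat.card K * Nat.card C := by
    rw [← hcardF]; exact (Nat.card_congr e).symm
  have he' : ∀ g : G, orderOf (e.symm g) = orderOf g := by
    intro g
    have := he (e.symm g)
    rw [Equiv.apply_symm_apply] at this
    exact this.symm
  have hordG : ∀ g : G, orderOf g ∣ Nat.card K ∨ orderOf g ∣ Nat.card C := by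
    intro g
    rw [← he' g]
    exact hD.orderOf_dvd _
  have hfac : ∀ p ∈ (Nat.card K).primeFactors,
      (Nat.card G).factorization p = (Nat.card K).factorization p := by
    intro p hp
    have hpp : p.Prime := Nat.prime_of_mem_primeFactors hp
    have hpn : p ∣ Nat.card K := Nat.dvd_of_mem_primeFactors hp
    have hph : ¬ p ∣ Nat.card C := fun hph =>
      hpp.one_lt.ne' (Nat.eq_one_of_dvd_coprimes hD.cop hpn hph)
    rw [hcardG, Nat.factorization_mul hnpos.ne' hhpos.ne', Finsupp.add_apply,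
      Nat.factorization_eq_zero_of_not_dvd hph, add_zero]
  have hsyl : ∀ p ∈ (Nat.card K).primeFactors,
      ∃ P : Subgroup G, P.Normal ∧ Nat.card P = p ^ (Nat.card G).factorization p := by
    intro p hp
    have hpp : p.Prime := Nat.prime_of_mem_primeFactors hp
    have hpn : p ∣ Nat.card K := Nat.dvd_of_mem_primeFactors hp
    have : Fact p.Prime := ⟨hpp⟩
    have hph : ¬ p ∣ Nat.card C := fun hph =>
      hpp.one_lt.ne' (Nat.eq_one_of_dvd_coprimes hD.cop hpn hph)
    obtain ⟨P⟩ : Nonempty (Sylow p G) := inferInstance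
    refine ⟨P, ?_, P.card_eq_multiplicity⟩
    apply Cfsg.Agent.S3997.normal_of_card_pElements p P
    have h2 : Nat.card {k : G // ∃ a : ℕ, orderOf k = p ^ a} =
        Nat.card {k : F // ∃ a : ℕ, orderOf k = p ^ a} := by
      apply Nat.card_congr
      exact (e.subtypeEquiv (fun g => by rw [he])).symm
    rw [h2]
    have hinK : ∀ f : F, (∃ a : ℕ, orderOf f = p ^ a) → f ∈ K := by
      rintro f ⟨a, ha⟩
      rcases hD.mem_or_orderOf_dvd f with h1 | ⟨h1, h3⟩
      · exact h1
      · exfalso
        rw [ha] at h3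
        rcases Nat.eq_zero_or_pos a with h0 | h0
        · rw [h0, pow_zero, orderOf_eq_one_iff] at ha
          exact h1 ha
        · exact hph ((dvd_pow_self p h0.ne').trans h3)
    have hnil := hD.nil
    obtain ⟨Q⟩ : Nonempty (Sylow p K) := inferInstance
    have hQn : (Q : Subgroup K).Normal :=
      (Group.isNilpotent_of_finite_tfae (G := K)).out 0 3 rfl rfl |>.mp hD.nil p ⟨hpp⟩ Q
    have h1 := Cfsg.Agent.S3997.pElements_eq_of_normal p Q hQn
    have h3 : Nat.card {k : F // ∃ a : ℕ, orderOf k = p ^ a} =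
        Nat.card {k : K // ∃ a : ℕ, orderOf k = p ^ a} := by
      apply Nat.card_congr
      exact
        { toFun := fun f => ⟨⟨f.1, hinK f.1 f.2⟩, by
            obtain ⟨a, ha⟩ := f.2
            exact ⟨a, by rw [Subgroup.orderOf_mk]; exact ha⟩⟩
          invFun := fun k => ⟨k.1.1, by
            obtain ⟨a, ha⟩ := k.2
            exact ⟨a, by rw [Subgroup.orderOf_coe]; exact ha⟩⟩
          left_inv := fun f => rfl
          right_inv := fun k => rfl }
    rw [h3]
    have h4 : Nat.card {k : K // ∃ a : ℕ, orderOf k = p ^ a} = Nat.card (Q : Subgroup K) := by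
      have h41 : {k : K // ∃ a : ℕ, orderOf k = p ^ a} =
          ↥({k : K | ∃ a : ℕ, orderOf k = p ^ a}) := rfl
      rw [h41, h1]
      rfl
    rw [h4, Q.card_eq_multiplicity, P.card_eq_multiplicity, hfac p hp]
  obtain ⟨N, hNn, hNcard⟩ := exists_normal_card_prod (Nat.card K).primeFactors
    (fun p hp => Nat.prime_of_mem_primeFactors hp) hsyl
  have hNcard' : Nat.card N = Nat.card K := by
    rw [hNcard, Finset.prod_congr rfl (fun p hp => by rw [hfac p hp]),
      ← Nat.prod_factorization_eq_prod_primeFactors]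
    exact Nat.prod_factorization_pow_eq_self hnpos.ne'
  have hNidx : N.index = Nat.card C := by
    have := N.card_mul_index
    rw [hNcard', hcardG] at this
    exact Nat.eq_of_mul_eq_mul_left hnpos this
  obtain ⟨D, hDc⟩ := Subgroup.exists_right_complement'_of_coprime (N := N)
    (by rw [hNcard', hNidx]; exact hD.cop)
  have hDcard : Nat.card D = Nat.card C := by
    have := hDc.card_mul_card
    rw [hNcard', hcardG] at this
    exact Nat.eq_of_mul_eq_mul_left hnpos this
  refine ⟨D, ?_, hDcard⟩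
  have hNbot : N ≠ ⊥ := by
    intro hb
    rw [hb, Subgroup.card_bot] at hNcard'
    exact hD.ne_bot (Subgroup.card_eq_one.mp hNcard'.symm)
  have hDbot : D ≠ ⊥ := by
    intro hb
    rw [hb, Subgroup.card_bot] at hDcard
    exact hD.ne_bot' (Subgroup.card_eq_one.mp hDcard.symm)
  rw [Cfsg.Agent.S0039.result N D hDc hNbot hDbot]
  intro d hd hd1
  rw [eq_bot_iff]
  rintro x ⟨hxN, hxC⟩
  rw [mem_bot]
  have hxN : x ∈ N := hxN
  have hxC : x ∈ centralizer ({d} : Set G) := hxC
  have hcomm : Commute x d := by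
    rw [mem_centralizer_iff] at hxC
    exact (hxC d rfl).symm
  have hox : orderOf x ∣ Nat.card K := by
    have := orderOf_dvd_natCard (⟨x, hxN⟩ : N)
    rwa [Subgroup.orderOf_mk, hNcard'] at this
  have hod : orderOf d ∣ Nat.card C := by
    have := orderOf_dvd_natCard (⟨d, hd⟩ : D)
    rwa [Subgroup.orderOf_mk, hDcard] at this
  have hcop : (orderOf x).Coprime (orderOf d) :=
    Nat.Coprime.coprime_dvd_left hox (Nat.Coprime.coprime_dvd_right hod hD.cop)
  have hmul : orderOf (x * d) = orderOf x * orderOf d :=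
    hcomm.orderOf_mul_eq_mul_orderOf_of_coprime hcop
  rcases hordG (x * d) with h1 | h1
  · rw [hmul] at h1
    have h2 : orderOf d ∣ Nat.card K := (dvd_mul_left _ _).trans h1
    have h3 : orderOf d = 1 := Nat.eq_one_of_dvd_coprimes hD.cop h2 hod
    exact absurd (orderOf_eq_one_iff.mp h3) hd1
  · rw [hmul] at h1
    have h2 : orderOf x ∣ Nat.card C := (dvd_mul_right _ _).trans h1
    have h3 : orderOf x = 1 := Nat.eq_one_of_dvd_coprimes hD.cop hox h2
    exact orderOf_eq_one_iff.mp h3

/-- the derived series of a finite group becomes stationary -/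
theorem exists_derivedSeries_stable (X : Type*) [Group X] [Finite X] :
    ∃ k, derivedSeries X (k + 1) = derivedSeries X k := by
  by_contra hcon
  rw [not_exists] at hcon
  have hlt : ∀ k, Nat.card (derivedSeries X (k + 1)) < Nat.card (derivedSeries X k) := by
    intro k
    have hle : derivedSeries X (k + 1) ≤ derivedSeries X k :=
      derivedSeries_antitone X (Nat.le_succ k)
    rcases (Subgroup.card_le_of_le hle).lt_or_eq with h | h
    · exact h
    · exact absurd (Subgroup.eq_of_le_of_card_ge hle h.ge) (hcon k)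
  have hbound : ∀ k, Nat.card (derivedSeries X k) + k ≤ Nat.card (derivedSeries X 0) := by
    intro k
    induction k with
    | zero => simp
    | succ k ih =>
      have := hlt k
      omega
  have := hbound (Nat.card (derivedSeries X 0) + 1)
  omega

omit [Finite L] in
theorem FrobData.inf_centralizer (h : FrobData N R) {r : L} (hr : r ∈ R) (hr1 : r ≠ 1) :
    N ⊓ centralizer {r} = ⊥ := by
  rw [eq_bot_iff]
  rintro x ⟨hxN, hxC⟩
  have hxC : x ∈ centralizer ({r} : Set L) := hxC
  rw [mem_centralizer_iff] at hxC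
  rw [mem_bot]
  exact h.fpf r hr hr1 x hxN (hxC r rfl)

/-- the Sylow `5`-subgroups of a Frobenius complement are cyclic -/
theorem FrobData.isCyclic_sylow_five (h : FrobData N R) (P : Sylow 5 R) : IsCyclic P := by
  have : Fact (Nat.Prime 5) := ⟨by norm_num⟩
  have hNn := h.normal
  rcases Cfsg.Agent.S0040.result N R h.compl h.ne_bot
    (fun r hr hr1 => h.inf_centralizer hr hr1) 5 P with h1 | ⟨n, ⟨ι⟩⟩
  · exact h1
  · exfalso
    have h2 : Nat.card P = Nat.card (QuaternionGroup (2 ^ n)) := Nat.card_congr ι.toEquiv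
    have : NeZero (2 ^ n) := ⟨by positivity⟩
    rw [Nat.card_eq_fintype_card (α := QuaternionGroup (2 ^ n)), QuaternionGroup.card] at h2
    obtain ⟨a, ha⟩ := IsPGroup.iff_card.mp P.isPGroup'
    rw [ha] at h2
    have h3 : 2 ∣ 5 ^ a := ⟨2 * 2 ^ n, by rw [h2]; ring⟩
    have := Nat.Prime.dvd_of_dvd_pow Nat.prime_two h3
    omega

/-- a non-solvable Frobenius complement has exactly `24` elements of order `5` -/
theorem FrobData.card_orderOf_five (h : FrobData N R) (hR : ¬ Group.IsSolvable R) :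
    Nat.card {r : R // orderOf r = 5} = 24 := by
  have : Fact (Nat.Prime 5) := ⟨by norm_num⟩
  have hNn := h.normal
  obtain ⟨k, hk⟩ := exists_derivedSeries_stable R
  have hR₀n : (derivedSeries R k).Normal := derivedSeries_normal R k
  have hperf : ⁅derivedSeries R k, derivedSeries R k⁆ = derivedSeries R k := by
    rw [← derivedSeries_succ]
    exact hk
  have hR₀bot : derivedSeries R k ≠ ⊥ := fun hb => hR ((Group.isSolvable_def R).mpr ⟨k, hb⟩)
  generalize derivedSeries R k = R₀ at hR₀n hperf hR₀bot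
  let ψ : R →* MulAut N := (MulAut.conjNormal (H := N)).comp R.subtype
  have hψ : ∀ (r : R) (n : N), ((ψ r n : N) : L) = r * n * (r : L)⁻¹ :=
    fun r n => MulAut.conjNormal_apply _ _
  have hψinj : Function.Injective ψ := by
    rw [injective_iff_map_eq_one]
    intro r hr
    by_contra hr1
    apply h.ne_bot
    rw [eq_bot_iff]
    intro n hn
    rw [mem_bot]
    have h1 : (r : L) ≠ 1 := fun h2 => hr1 (Subtype.ext h2)
    apply h.fpf r r.2 h1 n hn
    have h2 := hψ r ⟨n, hn⟩
    rw [hr] at h2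
    simp only [MulAut.one_apply] at h2
    calc (r : L) * n = (r * n * (r : L)⁻¹) * r := by group
      _ = n * r := by rw [← h2]
  have hfpf : ∀ φ ∈ R₀.map ψ, φ ≠ 1 → ∀ n : N, φ n = n → n = 1 := by
    rintro φ ⟨r, hr, rfl⟩ hφ n hn
    have hr1 : (r : L) ≠ 1 := by
      intro h2
      apply hφ
      have h3 : r = 1 := Subtype.ext h2
      rw [h3, map_one]
    apply Subtype.ext
    apply h.fpf r r.2 hr1 n n.2
    have h2 := hψ r n
    rw [hn] at h2
    calc (r : L) * n = (r * n * (r : L)⁻¹) * r := by group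
      _ = n * r := by rw [← h2]
  have hperf' : _root_.commutator (R₀.map ψ) = ⊤ := by
    apply Subgroup.map_injective (Subgroup.subtype_injective (R₀.map ψ))
    rw [Subgroup.map_subtype_commutator, ← MonoidHom.range_eq_map, Subgroup.range_subtype,
      ← Subgroup.map_commutator, hperf]
  have hne : R₀.map ψ ≠ ⊥ := by
    intro hb
    apply hR₀bot
    rw [eq_bot_iff]
    intro r hr
    have h1 : ψ r ∈ R₀.map ψ := Subgroup.mem_map_of_mem ψ hr
    rw [hb, mem_bot] at h1
    rw [mem_bot]
    exact hψinj (by rw [h1, map_one])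
  obtain ⟨ι⟩ := Cfsg.Agent.S0690.result (R₀.map ψ) hfpf hperf' hne
  let ι₀ : R₀ ≃* Matrix.SpecialLinearGroup (Fin 2) (ZMod 5) :=
    (R₀.equivMapOfInjective ψ hψinj).trans ι
  have hc0 : Nat.card {r : R₀ // orderOf r = 5} = 24 := by
    rw [← Cfsg.Agent.Lib.Helper66_SL25Count.card_orderOf_five]
    apply Nat.card_congr
    exact ι₀.toEquiv.subtypeEquiv (fun r => by
      show orderOf r = 5 ↔ orderOf (ι₀ r) = 5
      rw [ι₀.orderOf_eq])
  obtain ⟨⟨x₀, hx₀⟩⟩ :=
    (Nat.card_pos_iff.mp (by omega : 0 < Nat.card {r : R₀ // orderOf r = 5})).1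
  have hallR₀ : ∀ y : R, orderOf y = 5 → y ∈ R₀ := fun y hy =>
    mem_normal_of_orderOf_eq 5 (fun P => h.isCyclic_sylow_five P) R₀ (x₀ : R) y
      (by rw [Subgroup.orderOf_coe]; exact hx₀) x₀.2 hy
  rw [← hc0]
  apply Nat.card_congr
  exact
    { toFun := fun r => ⟨⟨r.1, hallR₀ r.1 r.2⟩, by rw [Subgroup.orderOf_mk]; exact r.2⟩
      invFun := fun r => ⟨r.1.1, by rw [Subgroup.orderOf_coe]; exact r.2⟩
      left_inv := fun r => rfl
      right_inv := fun r => rfl }

omit [Finite L] in
/-- a Frobenius group is solvable exactly when its complement is -/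
theorem FrobData.isSolvable_iff (h : FrobData N R) : Group.IsSolvable L ↔ Group.IsSolvable R := by
  have hNn := h.normal
  constructor
  · intro hL
    infer_instance
  · intro hR
    rw [Group.isSolvable_iff_subgroup_quotient N]
    refine ⟨?_, ?_⟩
    · have := h.nil
      infer_instance
    · apply Group.isSolvable_of_surjective (f := (QuotientGroup.mk' N).comp R.subtype)
      intro q
      obtain ⟨f, rfl⟩ := QuotientGroup.mk'_surjective N q
      obtain ⟨n, hn, r, hr, rfl⟩ := h.exists_mul f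
      refine ⟨⟨r, hr⟩, ?_⟩
      rw [MonoidHom.comp_apply, Subgroup.coe_subtype, map_mul]
      have h1 : QuotientGroup.mk' N n = 1 := (QuotientGroup.eq_one_iff _).mpr hn
      rw [h1, one_mul]

/-- solvability of the complement is determined by the order type -/
theorem isSolvable_complement_of_equiv {F G : Type*} [Group F] [Finite F] [Group G] [Finite G]
    {K C : Subgroup F} (hF : FrobData K C) {N D : Subgroup G} (hG : FrobData N D)
    (hn : Nat.card K = Nat.card N) (e : F ≃ G) (he : ∀ f : F, orderOf (e f) = orderOf f)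
    (hD : Group.IsSolvable D) : Group.IsSolvable C := by
  by_contra hC
  have h24 := hF.card_orderOf_five hC
  obtain ⟨⟨c, hc⟩⟩ :=
    (Nat.card_pos_iff.mp (by omega : 0 < Nat.card {r : C // orderOf r = 5})).1
  have h5C : 5 ∣ Nat.card C := by
    rw [← hc]
    exact orderOf_dvd_natCard c
  have h5K : ¬ 5 ∣ Nat.card K := fun h5 => by
    have := Nat.eq_one_of_dvd_coprimes hF.cop h5 h5C
    omega
  have hcF := hF.card_orderOf_eq 5 h5K
  have hcG := hG.card_orderOf_eq 5 (by rw [← hn]; exact h5K)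
  have hFG : Nat.card {f : F // orderOf f = 5} = Nat.card {g : G // orderOf g = 5} :=
    Nat.card_congr (e.subtypeEquiv (fun f => by rw [he]))
  rw [hcF, hcG, h24, hn] at hFG
  have h24D : Nat.card {r : D // orderOf r = 5} = 24 :=
    (Nat.eq_of_mul_eq_mul_left Nat.card_pos hFG).symm
  exact false_of_solvable_of_card_orderOf_five hD (fun P => hG.isCyclic_sylow_five P) h24D

end Cfsg.Agent.Lib.Helper66_FrobOrder
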