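import Mathlib
import Cfsg.Prelude.Def_KGroupFacts
import Cfsg.Agent.Lib.Helper81_UceA
import Cfsg.Agent.Lib.Helper35_SteinSchur

set_option autoImplicit false
set_option linter.unusedVariables false
set_option linter.unusedSectionVars false

/-!
A generic "universal central extension" theorem (helper66; generalises helper17's
`Helper17_S96_UCEaux`, for S2094 / S2099): a group `Gh` generated by a family `Y : I → Gh`
satisfying relations `Rl`, acting on a module through `ρ` as prescribed by `act`, such that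
* the relations `Rl` present `Gh` up to finitely many listed central elements `zs Y j`
  (hypothesis `hK`, for ALL groups in the universe),
* families satisfying `Rl` lift to central extensions (hypothesis `hlift`),
is the universal central extension of its image modulo `±1`.
-/

namespace Cfsg.Agent.Lib.Helper66_GenUCE

open Cfsg.Agent.Lib.Helper81_UceA

universe u v

section aux

variable {G : Type*} [Group G]

/-- if all commutators `g x g⁻¹ x⁻¹` are central and the group is perfect then `g` is central -/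
theorem central_of_comm_central (hperf : commutator G = ⊤) (g : G)
    (hc : ∀ x : G, g * x * g⁻¹ * x⁻¹ ∈ Subgroup.center G) : g ∈ Subgroup.center G := by
  let f : G →* G :=
    { toFun := fun x => g * x * g⁻¹ * x⁻¹
      map_one' := by
        show g * 1 * g⁻¹ * 1⁻¹ = 1
        group
      map_mul' := by
        intro x y
        show g * (x * y) * g⁻¹ * (x * y)⁻¹ = (g * x * g⁻¹ * x⁻¹) * (g * y * g⁻¹ * y⁻¹)
        have hy := hc y
        rw [Subgroup.mem_center_iff] at hy
        calc g * (x * y) * g⁻¹ * (x * y)⁻¹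
            = g * x * g⁻¹ * ((g * y * g⁻¹ * y⁻¹) * x⁻¹) := by group
          _ = g * x * g⁻¹ * (x⁻¹ * (g * y * g⁻¹ * y⁻¹)) := by rw [hy x⁻¹]
          _ = (g * x * g⁻¹ * x⁻¹) * (g * y * g⁻¹ * y⁻¹) := by group }
  have hf : ∀ x, f x = g * x * g⁻¹ * x⁻¹ := fun x => rfl
  have hker : commutator G ≤ f.ker := by
    rw [commutator_eq_closure, Subgroup.closure_le]
    rintro x ⟨p, q, rfl⟩
    rw [SetLike.mem_coe, MonoidHom.mem_ker, commutatorElement_def, map_mul, map_mul, map_mul,
      map_inv, map_inv]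
    have hp : f p ∈ Subgroup.center G := hc p
    rw [Subgroup.mem_center_iff] at hp
    rw [← hp (f q), mul_inv_cancel_right, mul_inv_cancel]
  rw [hperf] at hker
  rw [Subgroup.mem_center_iff]
  intro x
  have hx : f x = 1 := MonoidHom.mem_ker.mp (hker (Subgroup.mem_top x))
  rw [hf] at hx
  calc x * g = (g * x * g⁻¹ * x⁻¹)⁻¹ * (g * x) := by group
    _ = g * x := by rw [hx, inv_one, one_mul]

variable {M : Type*} [Ring M]

/-- the elements acting as `±1` have commutators acting trivially -/
theorem act_comm (ρ : G →* M) (g : G) (hg : ρ g = 1 ∨ ρ g = -1) (x : G) :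
    ρ (g * x * g⁻¹ * x⁻¹) = 1 := by
  have e1 : ρ g * ρ g⁻¹ = 1 := by rw [← map_mul, mul_inv_cancel, map_one]
  have e2 : ρ x * ρ x⁻¹ = 1 := by rw [← map_mul, mul_inv_cancel, map_one]
  rw [map_mul, map_mul, map_mul]
  rcases hg with hg | hg
  · rw [hg, one_mul] at e1
    rw [hg, e1, one_mul, mul_one, e2]
  · rw [hg, neg_one_mul, neg_eq_iff_eq_neg] at e1
    rw [hg, e1, neg_one_mul, mul_neg_one, neg_neg, e2]

/-- the inverse of an element acting as `-1` acts as `-1` -/
theorem act_inv_neg (ρ : G →* M) (g : G) (hg : ρ g = -1) : ρ g⁻¹ = -1 := by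
  have e1 : ρ g * ρ g⁻¹ = 1 := by rw [← map_mul, mul_inv_cancel, map_one]
  rw [hg, neg_one_mul, neg_eq_iff_eq_neg] at e1
  exact e1

end aux

/-- the generic theorem -/
theorem hasSchurMultiplier_of_pres {I : Type*} {J : Type*} [Finite J] {M : Type*} [Ring M]
    (Rl : ∀ {H : Type u} [Group H], (I → H) → Prop)
    (zs : ∀ {H : Type u} [Group H], (I → H) → J → H)
    (act : I → M)
    (hprod : ∀ {H H' : Type u} [Group H] [Group H'] {f : I → H} {f' : I → H'}, Rl f → Rl f' →
      Rl (fun i => ((f i, f' i) : H × H')))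
    (hsub : ∀ {H : Type u} [Group H] (S : Subgroup H) (f : I → S), Rl (fun i => ((f i : S) : H)) →
      Rl f)
    (hznat : ∀ {H H' : Type u} [Group H] [Group H'] (φ : H →* H') (f : I → H) (j : J),
      φ (zs f j) = zs (fun i => φ (f i)) j)
    (hK : ∀ {H : Type u} [Group H] {f : I → H}, Rl f → Subgroup.closure (Set.range f) = ⊤ →
      ∀ ρ' : H →* M, (∀ i, ρ' (f i) = act i) → ∀ g, ρ' g = 1 → g = 1 ∨ ∃ j, g = zs f j)
    {Gh : Type u} [Group Gh] {Y : I → Gh} (hY : Rl Y)
    (hgen : Subgroup.closure (Set.range Y) = ⊤)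
    (ρ : Gh →* M) (hρ : ∀ i, ρ (Y i) = act i)
    (hzc : ∀ j, zs Y j ∈ Subgroup.center Gh) (hperf : commutator Gh = ⊤)
    (hz : (∀ j, zs Y j ≠ 1) ∨ ∀ {H : Type u} [Group H] (f : I → H) (j : J), zs f j = 1)
    {G : Type u} [Group G] [Finite G] (θ : Gh →* G) (hθ : Function.Surjective θ)
    (hker : ∀ g, θ g = 1 ↔ (ρ g = 1 ∨ ρ g = -1))
    (hlift : ∀ {Γ : Type u} [Group Γ] (σ : Γ →* G), CExt σ →
      ∃ Z : I → Γ, (∀ i, σ (Z i) = θ (Y i)) ∧ Rl Z)
    {A : Type v} [CommGroup A] (e : A ≃* θ.ker) : Cfsg.HasSchurMultiplier G A := by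
  have hkρ : ∀ g, ρ g = 1 → g = 1 ∨ ∃ j, g = zs Y j := hK hY hgen ρ hρ
  have hkρc : ∀ g, ρ g = 1 → g ∈ Subgroup.center Gh := by
    intro g hg
    rcases hkρ g hg with rfl | ⟨j, rfl⟩
    · exact one_mem _
    · exact hzc j
  have hcen : θ.ker ≤ Subgroup.center Gh := by
    intro g hg
    have hg' := (hker g).mp (MonoidHom.mem_ker.mp hg)
    exact central_of_comm_central hperf g (fun x => hkρc _ (act_comm ρ g hg' x))
  -- finiteness
  have hS : {g : Gh | ρ g = 1}.Finite := by
    have hfin : ({1} ∪ Set.range (fun j : J => zs Y j) : Set Gh).Finite :=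
      (Set.finite_singleton 1).union (Set.finite_range _)
    refine hfin.subset ?_
    intro g hg
    rcases hkρ g hg with rfl | ⟨j, rfl⟩
    · exact Or.inl rfl
    · exact Or.inr ⟨j, rfl⟩
  have hS' : {g : Gh | ρ g = -1}.Finite := by
    by_cases hne : ∃ g0, ρ g0 = -1
    · obtain ⟨g0, hg0⟩ := hne
      refine (hS.image (fun g => g * g0)).subset ?_
      intro g hg
      refine ⟨g * g0⁻¹, ?_, by simp⟩
      have e1 := act_inv_neg ρ g0 hg0
      show ρ (g * g0⁻¹) = 1
      rw [map_mul, e1, (hg : ρ g = -1), neg_one_mul, neg_neg]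
    · push Not at hne
      convert Set.finite_empty
      ext g
      simp [hne g]
  have hkfin : (θ.ker : Set Gh).Finite := by
    refine (hS.union hS').subset ?_
    intro g hg
    exact (hker g).mp (MonoidHom.mem_ker.mp hg)
  have : Finite θ.ker := hkfin.to_subtype
  have : Finite Gh := Cfsg.Agent.Lib.Helper35_SteinSchur.finite_of_surjective_of_finite_ker θ hθ
  refine Cfsg.Agent.Lib.Helper35_SteinSchur.hasSchurMultiplier_of_uce θ hθ hcen hperf ?_ e
  intro Γ _ σ hs hc
  obtain ⟨Z, hZσ, hZ⟩ := hlift σ ⟨hs, hc⟩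
  set P0 : I → Γ × Gh := fun i => (Z i, Y i) with hP0def
  set H : Subgroup (Γ × Gh) := Subgroup.closure (Set.range P0) with hH
  set P : I → H := fun i => ⟨P0 i, Subgroup.subset_closure ⟨i, rfl⟩⟩ with hPdef
  have hP0 : Rl P0 := hprod hZ hY
  have hP : Rl P := hsub H P hP0
  have hPgen : Subgroup.closure (Set.range P) = ⊤ := by
    rw [eq_top_iff]
    rintro ⟨g, hg⟩ -
    have key : ∀ x (hx : x ∈ H), (⟨x, hx⟩ : H) ∈ Subgroup.closure (Set.range P) := by
      intro x hx
      induction hx using Subgroup.closure_induction with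
      | mem x hx =>
        obtain ⟨i, rfl⟩ := hx
        exact Subgroup.subset_closure ⟨i, rfl⟩
      | one => exact Subgroup.one_mem _
      | mul x y hx hy ihx ihy => exact Subgroup.mul_mem _ ihx ihy
      | inv x hx ihx => exact Subgroup.inv_mem _ ihx
    exact key g hg
  set sndH : H →* Gh := (MonoidHom.snd Γ Gh).comp H.subtype with hsnd
  set fstH : H →* Γ := (MonoidHom.fst Γ Gh).comp H.subtype with hfst
  set ρH : H →* M := ρ.comp sndH with hρH
  have hactH : ∀ i, ρH (P i) = act i := fun i => hρ i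
  have hsurj : Function.Surjective sndH := by
    rw [← MonoidHom.range_eq_top, eq_top_iff, ← hgen, Subgroup.closure_le]
    rintro _ ⟨i, rfl⟩
    exact ⟨P i, rfl⟩
  have hinj : Function.Injective sndH := by
    rw [injective_iff_map_eq_one]
    intro x hx
    have hx1 : ρH x = 1 := by
      show ρ (sndH x) = 1
      rw [hx, map_one]
    rcases hK hP hPgen ρH hactH x hx1 with rfl | ⟨j, rfl⟩
    · rfl
    · rcases hz with hz | hz
      · exfalso
        apply hz j
        rw [hznat] at hx
        exact hx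
      · exact hz P j
  set E : H ≃* Gh := MulEquiv.ofBijective sndH ⟨hinj, hsurj⟩ with hE
  refine ⟨fstH.comp E.symm.toMonoidHom, ?_⟩
  have hagree : σ.comp fstH = θ.comp sndH := by
    apply MonoidHom.eq_of_eqOn_dense hPgen
    rintro _ ⟨i, rfl⟩
    exact hZσ i
  ext x
  have e1 : σ (fstH (E.symm x)) = θ (sndH (E.symm x)) := DFunLike.congr_fun hagree (E.symm x)
  have e2 : sndH (E.symm x) = x := E.apply_symm_apply x
  rw [e2] at e1
  exact e1

end Cfsg.Agent.Lib.Helper66_GenUCE
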