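import Mathlib

/-!
# Laws in groups containing opposite root families (core polynomial lemma)

For a non-trivial word `w` in a free group there is a bound `lawDeg w` such that: whenever a group `H`
acts (through `ρ : H →* Matrix ι ι F`) on `F^ι`, and contains two families `A s`, `B s` (`s ∈ P`, `P`
multiplicatively closed with more than `lawDeg w + 1` elements) acting on two independent vectors `v, u`
as upper / lower unitriangular matrices, then some value of `w` in `H` is not central.
-/

set_option autoImplicit false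

namespace Cfsg.Agent.Lib.Helper66_LawCore

open Polynomial Matrix

section Mat2

variable {S : Type*} [CommRing S]

/-- upper unitriangular -/
def Um (h : S) : Matrix (Fin 2) (Fin 2) S := !![1, h; 0, 1]
/-- lower unitriangular -/
def Lm (g : S) : Matrix (Fin 2) (Fin 2) S := !![1, 0; g, 1]

theorem Um_mul_Um (a b : S) : Um a * Um b = Um (a + b) := by
  ext i j; fin_cases i <;> fin_cases j <;> simp [Um, Matrix.mul_apply, Fin.sum_univ_two, add_comm]

theorem Lm_mul_Lm (a b : S) : Lm a * Lm b = Lm (a + b) := by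
  ext i j; fin_cases i <;> fin_cases j <;> simp [Lm, Matrix.mul_apply, Fin.sum_univ_two, add_comm]

theorem Um_zero : Um (0 : S) = 1 := by
  ext i j; fin_cases i <;> fin_cases j <;> simp [Um]

theorem Lm_zero : Lm (0 : S) = 1 := by
  ext i j; fin_cases i <;> fin_cases j <;> simp [Lm]

theorem Um_mulVec (h x y : S) : Um h *ᵥ ![x, y] = ![x + h * y, y] := by
  ext i; fin_cases i <;> simp [Um, Matrix.mulVec, dotProduct, Fin.sum_univ_two]

theorem Lm_mulVec (g x y : S) : Lm g *ᵥ ![x, y] = ![x, y + g * x] := by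
  ext i; fin_cases i <;> simp [Lm, Matrix.mulVec, dotProduct, Fin.sum_univ_two, add_comm]

theorem Um_map {T : Type*} [CommRing T] (f : S →+* T) (h : S) : (Um h).map f = Um (f h) := by
  ext i j; fin_cases i <;> fin_cases j <;> simp [Um]

theorem Lm_map {T : Type*} [CommRing T] (f : S →+* T) (h : S) : (Lm h).map f = Lm (f h) := by
  ext i j; fin_cases i <;> fin_cases j <;> simp [Lm]

end Mat2

section Letters

variable (R : Type*) [CommRing R]

/-- left parameter of a letter -/
noncomputable def pa (x : ℕ × Bool) : R[X] := if x.2 then X ^ (2 * x.1 + 1) else - X ^ (2 * x.1 + 2)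
/-- middle parameter of a letter -/
noncomputable def pb (x : ℕ × Bool) : R[X] := if x.2 then X ^ (x.1 + 1) else - X ^ (x.1 + 1)
/-- right parameter of a letter -/
noncomputable def pc (x : ℕ × Bool) : R[X] := if x.2 then X ^ (2 * x.1 + 2) else - X ^ (2 * x.1 + 1)

/-- the polynomial matrix of a letter -/
noncomputable def letterMat (x : ℕ × Bool) : Matrix (Fin 2) (Fin 2) R[X] :=
  Um (pa R x) * Lm (pb R x) * Um (pc R x)

/-- the polynomial matrix of a word -/
noncomputable def wordMat (L : List (ℕ × Bool)) : Matrix (Fin 2) (Fin 2) R[X] :=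
  (L.map (letterMat R)).prod

variable {R}

theorem pa_map {T : Type*} [CommRing T] (f : R →+* T) (x : ℕ × Bool) :
    (pa R x).map f = pa T x := by
  unfold pa; split_ifs <;> simp

theorem pb_map {T : Type*} [CommRing T] (f : R →+* T) (x : ℕ × Bool) :
    (pb R x).map f = pb T x := by
  unfold pb; split_ifs <;> simp

theorem pc_map {T : Type*} [CommRing T] (f : R →+* T) (x : ℕ × Bool) :
    (pc R x).map f = pc T x := by
  unfold pc; split_ifs <;> simp

theorem letterMat_map {T : Type*} [CommRing T] (f : R →+* T) (x : ℕ × Bool) :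
    (Polynomial.mapRingHom f).mapMatrix (letterMat R x) = letterMat T x := by
  unfold letterMat
  rw [map_mul, map_mul]
  have hU : ∀ h : R[X], (Polynomial.mapRingHom f).mapMatrix (Um h) = Um (h.map f) :=
    fun h => Um_map (Polynomial.mapRingHom f) h
  have hL : ∀ h : R[X], (Polynomial.mapRingHom f).mapMatrix (Lm h) = Lm (h.map f) :=
    fun h => Lm_map (Polynomial.mapRingHom f) h
  rw [hU, hU, hL, pa_map, pb_map, pc_map]

theorem wordMat_map {T : Type*} [CommRing T] (f : R →+* T) (L : List (ℕ × Bool)) :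
    (Polynomial.mapRingHom f).mapMatrix (wordMat R L) = wordMat T L := by
  unfold wordMat
  rw [map_list_prod, List.map_map]
  congr 1
  apply List.map_congr_left
  intro x _
  exact letterMat_map f x

end Letters

section Degree

variable {F : Type*} [Field F]

theorem pos_degree_of_coeff {p : F[X]} {n : ℕ} (hn : 0 < n) (h : p.coeff n ≠ 0) : 0 < degree p := by
  have h1 : (n : WithBot ℕ) ≤ degree p := Polynomial.le_degree_of_ne_zero h
  have h2 : ((0 : ℕ) : WithBot ℕ) < (n : WithBot ℕ) := by exact_mod_cast hn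
  exact lt_of_lt_of_le (by simpa using h2) h1

theorem pa_degree (x : ℕ × Bool) : 0 < degree (pa F x) := by
  unfold pa
  split_ifs
  · exact pos_degree_of_coeff (n := 2 * x.1 + 1) (by omega) (by simp)
  · exact pos_degree_of_coeff (n := 2 * x.1 + 2) (by omega) (by simp)

theorem pb_degree (x : ℕ × Bool) : 0 < degree (pb F x) := by
  unfold pb
  split_ifs
  · exact pos_degree_of_coeff (n := x.1 + 1) (by omega) (by simp)
  · exact pos_degree_of_coeff (n := x.1 + 1) (by omega) (by simp)

theorem pc_degree (x : ℕ × Bool) : 0 < degree (pc F x) := by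
  unfold pc
  split_ifs
  · exact pos_degree_of_coeff (n := 2 * x.1 + 2) (by omega) (by simp)
  · exact pos_degree_of_coeff (n := 2 * x.1 + 1) (by omega) (by simp)

/-- junction of two consecutive letters of a reduced word -/
theorem junction_degree (x y : ℕ × Bool) (h : x.1 = y.1 → x.2 = y.2) :
    0 < degree (pc F x + pa F y) := by
  obtain ⟨i, b⟩ := x
  obtain ⟨j, c⟩ := y
  simp only at h
  unfold pc pa
  cases b <;> cases c
  · -- -X^(2i+1) - X^(2j+2)
    refine pos_degree_of_coeff (n := 2 * i + 1) (by omega) ?_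
    have : ¬ (2 * i + 1 = 2 * j + 2) := by omega
    have h' : ¬ (2 * i = 2 * j + 1) := by omega
    simp [coeff_X_pow, this, h']
  · -- -X^(2i+1) + X^(2j+1), i ≠ j
    have hij : i ≠ j := fun e => by simpa using h e
    refine pos_degree_of_coeff (n := 2 * i + 1) (by omega) ?_
    have : ¬ (2 * i + 1 = 2 * j + 1) := by omega
    simp [coeff_X_pow, this, hij]
  · have hij : i ≠ j := fun e => by simpa using h e
    refine pos_degree_of_coeff (n := 2 * i + 2) (by omega) ?_
    have : ¬ (2 * i + 2 = 2 * j + 2) := by omega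
    simp [coeff_X_pow, this, hij]
  · refine pos_degree_of_coeff (n := 2 * i + 2) (by omega) ?_
    have : ¬ (2 * i + 2 = 2 * j + 1) := by omega
    simp [coeff_X_pow, this]

theorem degree_lt_add_mul {z₁ z₂ h : F[X]} (hz : degree z₁ < degree z₂) (hh : 0 < degree h) :
    degree z₂ < degree (z₁ + h * z₂) := by
  have hz2 : z₂ ≠ 0 := by
    rintro rfl
    simp at hz
  have hh0 : h ≠ 0 := by
    rintro rfl
    simp at hh
  have h1 : degree z₂ < degree (h * z₂) := by
    rw [degree_mul, degree_eq_natDegree hz2, degree_eq_natDegree hh0, ← Nat.cast_add]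
    have : 0 < natDegree h := by
      rw [degree_eq_natDegree hh0] at hh
      exact_mod_cast hh
    exact_mod_cast (by omega : natDegree z₂ < natDegree h + natDegree z₂)
  rw [degree_add_eq_right_of_degree_lt (lt_trans hz h1)]
  exact h1

/-- main degree invariant -/
theorem wordMat_invariant : ∀ (L : List (ℕ × Bool)) (x : ℕ × Bool), FreeGroup.IsReduced (x :: L) →
    ∃ z₁ z₂ : F[X], wordMat F (x :: L) *ᵥ ![0, 1] = Um (pa F x) *ᵥ ![z₁, z₂] ∧ degree z₁ < degree z₂ := by
  intro L
  induction L with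
  | nil =>
    intro x _
    refine ⟨pc F x, 1 + pb F x * pc F x, ?_, ?_⟩
    · unfold wordMat letterMat
      simp only [List.map_cons, List.map_nil, List.prod_cons, List.prod_nil, mul_one]
      rw [← Matrix.mulVec_mulVec, ← Matrix.mulVec_mulVec, Um_mulVec, Lm_mulVec]
      simp
    · have h := degree_lt_add_mul (z₁ := (1 : F[X])) (z₂ := pc F x) (h := pb F x) ?_ (pb_degree x)
      · exact h
      · simpa using pc_degree (F := F) x
  | cons y L ih =>
    intro x hred
    rw [FreeGroup.isReduced_cons_cons] at hred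
    obtain ⟨z₁, z₂, hvec, hdeg⟩ := ih y hred.2
    have hj := junction_degree (F := F) x y hred.1
    have h1 := degree_lt_add_mul hdeg hj
    have h2 := degree_lt_add_mul h1 (pb_degree (F := F) x)
    refine ⟨z₁ + (pc F x + pa F y) * z₂, z₂ + pb F x * (z₁ + (pc F x + pa F y) * z₂), ?_, h2⟩
    have hw : wordMat F (x :: y :: L) = letterMat F x * wordMat F (y :: L) := by
      unfold wordMat
      simp
    rw [hw, ← Matrix.mulVec_mulVec, hvec]
    unfold letterMat
    rw [← Matrix.mulVec_mulVec, ← Matrix.mulVec_mulVec, Um_mulVec, Um_mulVec, Lm_mulVec]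
    have e1 : z₁ + pa F y * z₂ + pc F x * z₂ = z₁ + (pc F x + pa F y) * z₂ := by ring
    rw [e1]

theorem wordMat_ne_zero (L : List (ℕ × Bool)) (hL : FreeGroup.IsReduced L) (hne : L ≠ []) :
    wordMat F L 0 1 ≠ 0 := by
  obtain ⟨x, L', rfl⟩ := List.exists_cons_of_ne_nil hne
  obtain ⟨z₁, z₂, hvec, hdeg⟩ := wordMat_invariant (F := F) L' x hL
  have h1 := degree_lt_add_mul hdeg (pa_degree (F := F) x)
  have h2 : wordMat F (x :: L') 0 1 = z₁ + pa F x * z₂ := by
    have := congrFun hvec 0
    rw [Um_mulVec] at this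
    simpa [Matrix.mulVec, dotProduct, Fin.sum_univ_two] using this
  rw [h2]
  intro h0
  rw [h0] at h1
  simp at h1

end Degree

/-- the degree bound attached to a word -/
noncomputable def lawDeg (w : FreeGroup ℕ) : ℕ := natDegree (wordMat ℤ w.toWord 0 1)

theorem natDegree_wordMat_le {F : Type*} [Field F] (w : FreeGroup ℕ) :
    natDegree (wordMat F w.toWord 0 1) ≤ lawDeg w := by
  have h := wordMat_map (Int.castRingHom F) w.toWord
  have h2 : wordMat F w.toWord 0 1 = (wordMat ℤ w.toWord 0 1).map (Int.castRingHom F) := by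
    rw [← h]
    simp [RingHom.mapMatrix_apply]
  rw [h2]
  exact Polynomial.natDegree_map_le

section Action

variable {F : Type*} [Field F] {ι : Type*} [Fintype ι] [DecidableEq ι]

/-- `X` acts on the pair `(v, u)` through the 2×2 matrix `M` -/
def ActsAs (v u : ι → F) (X : Matrix ι ι F) (M : Matrix (Fin 2) (Fin 2) F) : Prop :=
  X *ᵥ v = M 0 0 • v + M 1 0 • u ∧ X *ᵥ u = M 0 1 • v + M 1 1 • u

variable {v u : ι → F}

theorem ActsAs.one : ActsAs v u 1 1 := by
  constructor <;> simp

theorem ActsAs.mul {X Y : Matrix ι ι F} {M N : Matrix (Fin 2) (Fin 2) F}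
    (hX : ActsAs v u X M) (hY : ActsAs v u Y N) : ActsAs v u (X * Y) (M * N) := by
  constructor
  · rw [← Matrix.mulVec_mulVec, hY.1, Matrix.mulVec_add, Matrix.mulVec_smul, Matrix.mulVec_smul,
      hX.1, hX.2]
    ext k
    simp [Matrix.mul_apply, Fin.sum_univ_two]
    ring
  · rw [← Matrix.mulVec_mulVec, hY.2, Matrix.mulVec_add, Matrix.mulVec_smul, Matrix.mulVec_smul,
      hX.1, hX.2]
    ext k
    simp [Matrix.mul_apply, Fin.sum_univ_two]
    ring

theorem ActsAs.inv {X X' : Matrix ι ι F} {M M' : Matrix (Fin 2) (Fin 2) F}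
    (hX : ActsAs v u X M) (hXX : X' * X = 1) (hMM : M * M' = 1) : ActsAs v u X' M' := by
  have h00 : M 0 0 * M' 0 0 + M 0 1 * M' 1 0 = 1 := by
    have := congrFun (congrFun hMM 0) 0
    simpa [Matrix.mul_apply, Fin.sum_univ_two] using this
  have h01 : M 0 0 * M' 0 1 + M 0 1 * M' 1 1 = 0 := by
    have := congrFun (congrFun hMM 0) 1
    simpa [Matrix.mul_apply, Fin.sum_univ_two] using this
  have h10 : M 1 0 * M' 0 0 + M 1 1 * M' 1 0 = 0 := by
    have := congrFun (congrFun hMM 1) 0
    simpa [Matrix.mul_apply, Fin.sum_univ_two] using this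
  have h11 : M 1 0 * M' 0 1 + M 1 1 * M' 1 1 = 1 := by
    have := congrFun (congrFun hMM 1) 1
    simpa [Matrix.mul_apply, Fin.sum_univ_two] using this
  constructor
  · have e : X *ᵥ (M' 0 0 • v + M' 1 0 • u) = v := by
      rw [Matrix.mulVec_add, Matrix.mulVec_smul, Matrix.mulVec_smul, hX.1, hX.2]
      have : M' 0 0 • (M 0 0 • v + M 1 0 • u) + M' 1 0 • (M 0 1 • v + M 1 1 • u)
          = (M 0 0 * M' 0 0 + M 0 1 * M' 1 0) • v + (M 1 0 * M' 0 0 + M 1 1 * M' 1 0) • u := by
        ext k; simp; ring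
      rw [this, h00, h10]; simp
    calc X' *ᵥ v = X' *ᵥ (X *ᵥ (M' 0 0 • v + M' 1 0 • u)) := by rw [e]
      _ = M' 0 0 • v + M' 1 0 • u := by rw [Matrix.mulVec_mulVec, hXX, Matrix.one_mulVec]
  · have e : X *ᵥ (M' 0 1 • v + M' 1 1 • u) = u := by
      rw [Matrix.mulVec_add, Matrix.mulVec_smul, Matrix.mulVec_smul, hX.1, hX.2]
      have : M' 0 1 • (M 0 0 • v + M 1 0 • u) + M' 1 1 • (M 0 1 • v + M 1 1 • u)
          = (M 0 0 * M' 0 1 + M 0 1 * M' 1 1) • v + (M 1 0 * M' 0 1 + M 1 1 * M' 1 1) • u := by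
        ext k; simp; ring
      rw [this, h01, h11]; simp
    calc X' *ᵥ u = X' *ᵥ (X *ᵥ (M' 0 1 • v + M' 1 1 • u)) := by rw [e]
      _ = M' 0 1 • v + M' 1 1 • u := by rw [Matrix.mulVec_mulVec, hXX, Matrix.one_mulVec]

/-- the evaluated letter matrix -/
noncomputable def evalLetter (s : F) (x : ℕ × Bool) : Matrix (Fin 2) (Fin 2) F :=
  (Polynomial.evalRingHom s).mapMatrix (letterMat F x)

theorem evalLetter_true (s : F) (i : ℕ) :
    evalLetter s (i, true) = Um (s ^ (2 * i + 1)) * Lm (s ^ (i + 1)) * Um (s ^ (2 * i + 2)) := by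
  unfold evalLetter letterMat
  rw [map_mul, map_mul]
  have hU : ∀ h : F[X], (Polynomial.evalRingHom s).mapMatrix (Um h) = Um (h.eval s) :=
    fun h => Um_map (Polynomial.evalRingHom s) h
  have hL : ∀ h : F[X], (Polynomial.evalRingHom s).mapMatrix (Lm h) = Lm (h.eval s) :=
    fun h => Lm_map (Polynomial.evalRingHom s) h
  rw [hU, hU, hL]
  simp [pa, pb, pc]

theorem evalLetter_false (s : F) (i : ℕ) :
    evalLetter s (i, false) = Um (-s ^ (2 * i + 2)) * Lm (-s ^ (i + 1)) * Um (-s ^ (2 * i + 1)) := by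
  unfold evalLetter letterMat
  rw [map_mul, map_mul]
  have hU : ∀ h : F[X], (Polynomial.evalRingHom s).mapMatrix (Um h) = Um (h.eval s) :=
    fun h => Um_map (Polynomial.evalRingHom s) h
  have hL : ∀ h : F[X], (Polynomial.evalRingHom s).mapMatrix (Lm h) = Lm (h.eval s) :=
    fun h => Lm_map (Polynomial.evalRingHom s) h
  rw [hU, hU, hL]
  simp [pa, pb, pc]

theorem evalLetter_true_mul_false (s : F) (i : ℕ) :
    evalLetter s (i, true) * evalLetter s (i, false) = 1 := by
  rw [evalLetter_true, evalLetter_false]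
  calc Um (s ^ (2 * i + 1)) * Lm (s ^ (i + 1)) * Um (s ^ (2 * i + 2)) *
        (Um (-s ^ (2 * i + 2)) * Lm (-s ^ (i + 1)) * Um (-s ^ (2 * i + 1)))
      = Um (s ^ (2 * i + 1)) * (Lm (s ^ (i + 1)) * ((Um (s ^ (2 * i + 2)) *
        Um (-s ^ (2 * i + 2))) * Lm (-s ^ (i + 1)))) * Um (-s ^ (2 * i + 1)) := by
        simp only [mul_assoc]
    _ = 1 := by
        rw [Um_mul_Um, add_neg_cancel, Um_zero, one_mul, Lm_mul_Lm, add_neg_cancel, Lm_zero, mul_one,
          Um_mul_Um, add_neg_cancel, Um_zero]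

theorem exists_not_commute (w : FreeGroup ℕ) (hw : w ≠ 1) {H : Type*} [Group H]
    (ρ : H →* Matrix ι ι F) (v u : ι → F)
    (hind : ∀ a b : F, a • v + b • u = 0 → a = 0 ∧ b = 0)
    (P : Set F) (hPmul : ∀ a ∈ P, ∀ b ∈ P, a * b ∈ P)
    (T : Finset F) (hTP : ↑T ⊆ P) (hT : lawDeg w + 1 < T.card)
    (A B : F → H)
    (hA : ∀ s ∈ P, ρ (A s) *ᵥ v = v ∧ ρ (A s) *ᵥ u = u + s • v)
    (hB : ∀ s ∈ P, ρ (B s) *ᵥ v = v + s • u ∧ ρ (B s) *ᵥ u = u) :
    ∃ (f : ℕ → H) (h : H), FreeGroup.lift f w * h ≠ h * FreeGroup.lift f w := by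
  classical
  have hne : w.toWord ≠ [] := fun h => hw (FreeGroup.toWord_eq_nil_iff.mp h)
  have hW : wordMat F w.toWord 0 1 ≠ 0 := wordMat_ne_zero _ FreeGroup.isReduced_toWord hne
  set p : F[X] := X * wordMat F w.toWord 0 1 with hp
  have hp0 : p ≠ 0 := mul_ne_zero X_ne_zero hW
  have hpdeg : natDegree p < T.card := by
    have : natDegree p ≤ 1 + lawDeg w := by
      rw [hp]
      refine le_trans natDegree_mul_le ?_
      rw [natDegree_X]
      exact Nat.add_le_add_left (natDegree_wordMat_le w) 1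
    omega
  obtain ⟨s, hsT, hs⟩ : ∃ s ∈ T, p.eval s ≠ 0 := by
    by_contra hcon
    push_neg at hcon
    exact hp0 (Polynomial.eq_zero_of_natDegree_lt_card_of_eval_eq_zero' p T hcon hpdeg)
  have hs0 : s ≠ 0 := by
    rintro rfl
    simp [hp] at hs
  have hsW : (wordMat F w.toWord 0 1).eval s ≠ 0 := by
    intro h
    simp [hp, h] at hs
  have hsP : s ∈ P := hTP hsT
  have hpow : ∀ k : ℕ, s ^ (k + 1) ∈ P := by
    intro k
    induction k with
    | zero => simpa using hsP
    | succ k ih => rw [pow_succ]; exact hPmul _ ih _ hsP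
  -- generators
  have actA : ∀ c ∈ P, ActsAs v u (ρ (A c)) (Um c) := by
    intro c hc
    obtain ⟨h1, h2⟩ := hA c hc
    constructor
    · rw [h1]; simp [Um]
    · rw [h2]; simp [Um, add_comm]
  have actB : ∀ c ∈ P, ActsAs v u (ρ (B c)) (Lm c) := by
    intro c hc
    obtain ⟨h1, h2⟩ := hB c hc
    constructor
    · rw [h1]; simp [Lm]
    · rw [h2]; simp [Lm]
  let f : ℕ → H := fun i => A (s ^ (2 * i + 1)) * B (s ^ (i + 1)) * A (s ^ (2 * i + 2))
  have actf : ∀ i, ActsAs v u (ρ (f i)) (evalLetter s (i, true)) := by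
    intro i
    rw [evalLetter_true]
    show ActsAs v u (ρ (A (s ^ (2 * i + 1)) * B (s ^ (i + 1)) * A (s ^ (2 * i + 2)))) _
    rw [map_mul, map_mul]
    exact ((actA _ (hpow _)).mul (actB _ (hpow _))).mul (actA _ (hpow _))
  have actfi : ∀ i, ActsAs v u (ρ (f i)⁻¹) (evalLetter s (i, false)) := by
    intro i
    refine (actf i).inv ?_ (evalLetter_true_mul_false s i)
    rw [← map_mul, inv_mul_cancel, map_one]
  have actl : ∀ x : ℕ × Bool, ActsAs v u (ρ (cond x.2 (f x.1) (f x.1)⁻¹)) (evalLetter s x) := by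
    rintro ⟨i, b⟩
    cases b
    · exact actfi i
    · exact actf i
  have actL : ∀ L : List (ℕ × Bool),
      ActsAs v u (ρ (L.map fun x => cond x.2 (f x.1) (f x.1)⁻¹).prod)
        ((L.map (evalLetter s)).prod) := by
    intro L
    induction L with
    | nil => simpa using ActsAs.one
    | cons x L ih =>
      simp only [List.map_cons, List.prod_cons, map_mul]
      exact (actl x).mul ih
  have hlift : FreeGroup.lift f w = (w.toWord.map fun x => cond x.2 (f x.1) (f x.1)⁻¹).prod := by
    conv_lhs => rw [← FreeGroup.mk_toWord (x := w)]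
    rw [FreeGroup.lift_mk]
  have hM : (w.toWord.map (evalLetter s)).prod
      = (Polynomial.evalRingHom s).mapMatrix (wordMat F w.toWord) := by
    unfold wordMat
    rw [map_list_prod, List.map_map]
    rfl
  have hact := actL w.toWord
  rw [← hlift, hM] at hact
  set M := (Polynomial.evalRingHom s).mapMatrix (wordMat F w.toWord) with hMdef
  have hM01 : M 0 1 ≠ 0 := by
    simpa [hMdef, RingHom.mapMatrix_apply] using hsW
  refine ⟨f, B s, ?_⟩
  intro hcomm
  have h1 : ρ (FreeGroup.lift f w) *ᵥ (ρ (B s) *ᵥ v) = ρ (B s) *ᵥ (ρ (FreeGroup.lift f w) *ᵥ v) := by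
    rw [Matrix.mulVec_mulVec, Matrix.mulVec_mulVec, ← map_mul, ← map_mul, hcomm]
  obtain ⟨hb1, hb2⟩ := hB s hsP
  rw [hb1, hact.1, Matrix.mulVec_add, Matrix.mulVec_smul, hact.1, hact.2, Matrix.mulVec_add,
    Matrix.mulVec_smul, Matrix.mulVec_smul, hb1, hb2] at h1
  have h2 : (s * M 0 1) • v + (s * M 1 1 - s * M 0 0) • u = 0 := by
    have h3 : M 0 0 • v + M 1 0 • u + s • (M 0 1 • v + M 1 1 • u)
        - (M 0 0 • (v + s • u) + M 1 0 • u) = 0 := by rw [h1]; simp
    rw [← h3]
    ext k
    simp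
    ring
  have := (hind _ _ h2).1
  exact hM01 ((mul_eq_zero.mp this).resolve_left hs0)

end Action

end Cfsg.Agent.Lib.Helper66_LawCore
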