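import Mathlib
import Cfsg.Agent.Lib.Helper66_LawCore

/-!
# Laws: general transfer lemmas, `SL_n`, alternating groups
-/

set_option autoImplicit false

namespace Cfsg.Agent.Lib.Helper66_LawGen

open Cfsg.Agent.Lib.Helper66_LawCore Matrix

/-- `w` is a law modulo the centre of `H` -/
def LawModCenter (w : FreeGroup ℕ) (H : Type*) [Group H] : Prop :=
  ∀ f : ℕ → H, FreeGroup.lift f w ∈ Subgroup.center H

theorem lift_comp {G H : Type*} [Group G] [Group H] (π : H →* G) (f : ℕ → H) (w : FreeGroup ℕ) :
    π (FreeGroup.lift f w) = FreeGroup.lift (π ∘ f) w := by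
  have : π.comp (FreeGroup.lift f) = FreeGroup.lift (π ∘ f) := by
    ext i
    simp
  exact DFunLike.congr_fun this w

/-- a law in `H ⧸ Z(H)` (up to isomorphism) is a law modulo the centre in `H` -/
theorem lawModCenter_of_iso {w : FreeGroup ℕ} {G : Type*} [Group G] {H : Type*} [Group H]
    (e : G ≃* H ⧸ Subgroup.center H) (hlaw : ∀ f : ℕ → G, FreeGroup.lift f w = 1) :
    LawModCenter w H := by
  intro f
  let π : H →* G := e.symm.toMonoidHom.comp (QuotientGroup.mk' (Subgroup.center H))
  have h1 : π (FreeGroup.lift f w) = 1 := by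
    rw [lift_comp]
    exact hlaw _
  have h2 : (QuotientGroup.mk' (Subgroup.center H)) (FreeGroup.lift f w) = 1 := by
    have : e.symm ((QuotientGroup.mk' (Subgroup.center H)) (FreeGroup.lift f w)) = 1 := h1
    simpa using this
  exact (QuotientGroup.eq_one_iff _).mp h2

theorem lawModCenter_of_injective {w : FreeGroup ℕ} {K H : Type*} [Group K] [Group H]
    (j : K →* H) (hj : Function.Injective j) (h : LawModCenter w H) : LawModCenter w K := by
  intro f
  rw [Subgroup.mem_center_iff]
  intro k
  apply hj
  rw [map_mul, map_mul, lift_comp]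
  exact (Subgroup.mem_center_iff.mp (h (j ∘ f))) (j k)

/-- the natural map `SL_n(F) → M_n(F)` -/
def slHom (ι F : Type*) [DecidableEq ι] [Fintype ι] [CommRing F] :
    Matrix.SpecialLinearGroup ι F →* Matrix ι ι F where
  toFun g := g.1
  map_one' := rfl
  map_mul' _ _ := rfl

theorem single_indep {ι F : Type*} [DecidableEq ι] [Field F] {i j : ι} (hij : i ≠ j) (a b : F)
    (h : a • (Pi.single i 1 : ι → F) + b • (Pi.single j 1 : ι → F) = 0) : a = 0 ∧ b = 0 := by
  constructor
  · have := congrFun h i
    simpa [Pi.single_apply, hij] using this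
  · have := congrFun h j
    simpa [Pi.single_apply, hij.symm] using this

/-- `w` is not a law modulo the centre in `SL_n(F)`, `n ≥ 2`, for `|F| > lawDeg w + 1` -/
theorem sl_not_lawModCenter (w : FreeGroup ℕ) (hw : w ≠ 1) {ι F : Type*} [DecidableEq ι] [Fintype ι]
    [Field F] [Fintype F] {i j : ι} (hij : i ≠ j) (hF : lawDeg w + 1 < Fintype.card F) :
    ¬ LawModCenter w (Matrix.SpecialLinearGroup ι F) := by
  intro hlaw
  obtain ⟨f, h, hne⟩ := exists_not_commute w hw (slHom ι F) (Pi.single i 1) (Pi.single j 1)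
    (single_indep hij) Set.univ (fun _ _ _ _ => Set.mem_univ _) Finset.univ (by simp)
    (by simpa using hF)
    (fun s => Matrix.SpecialLinearGroup.transvection hij s)
    (fun s => Matrix.SpecialLinearGroup.transvection hij.symm s)
    (fun s _ => ⟨Matrix.SpecialLinearGroup.transvection_mulVec_single_self hij s,
      Matrix.SpecialLinearGroup.transvection_mulVec_single_other hij s⟩)
    (fun s _ => ⟨by
      exact Matrix.SpecialLinearGroup.transvection_mulVec_single_other hij.symm s,
      Matrix.SpecialLinearGroup.transvection_mulVec_single_self hij.symm s⟩)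
  exact hne ((Subgroup.mem_center_iff.mp (hlaw f) h).symm)

/-- some finite group in which `w` is not a law -/
theorem exists_finite_not_law (w : FreeGroup ℕ) (hw : w ≠ 1) :
    ∃ (K : Type) (_ : Group K) (_ : Fintype K) (f : ℕ → K), FreeGroup.lift f w ≠ 1 := by
  obtain ⟨p, hp1, hp⟩ := Nat.exists_infinite_primes (lawDeg w + 2)
  have : Fact p.Prime := ⟨hp⟩
  have hnl := sl_not_lawModCenter w hw (ι := Fin 2) (F := ZMod p) (i := 0) (j := 1) (by decide)
    (by rw [ZMod.card]; omega)
  unfold LawModCenter at hnl
  push Not at hnl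
  obtain ⟨f, hf⟩ := hnl
  refine ⟨Matrix.SpecialLinearGroup (Fin 2) (ZMod p), inferInstance, inferInstance, f, ?_⟩
  intro h1
  exact hf (h1 ▸ Subgroup.one_mem _)

/-- every finite group embeds into a large alternating group -/
theorem exists_embedding_alt (K : Type) [Group K] [Fintype K] (n : ℕ) (hn : 2 * Fintype.card K ≤ n) :
    ∃ j : K →* alternatingGroup (Fin n), Function.Injective j := by
  classical
  -- K → Perm K → Perm (K ⊕ K) → Perm (Fin n)
  let c : K →* Equiv.Perm K := MulAction.toPermHom K K
  have hc : Function.Injective c := MulAction.toPerm_injective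
  let d : Equiv.Perm K →* Equiv.Perm (K ⊕ K) :=
    (Equiv.Perm.sumCongrHom K K).comp (MonoidHom.prod (MonoidHom.id _) (MonoidHom.id _))
  have hd : Function.Injective d := by
    intro a b hab
    have := Equiv.Perm.sumCongrHom_injective hab
    simpa using congrArg Prod.fst this
  have hcard : Fintype.card (K ⊕ K) = Fintype.card {i : Fin n // i.val < 2 * Fintype.card K} := by
    rw [Fintype.card_sum, Fintype.card_subtype]
    have : (Finset.univ.filter fun i : Fin n => i.val < 2 * Fintype.card K).card
        = 2 * Fintype.card K := by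
      rw [Fin.card_filter_val_lt, min_eq_right hn]
    rw [this]; ring
  let eqv : (K ⊕ K) ≃ {i : Fin n // i.val < 2 * Fintype.card K} := Fintype.equivOfCardEq hcard
  let e : Equiv.Perm (K ⊕ K) →* Equiv.Perm (Fin n) := Equiv.Perm.extendDomainHom eqv
  have he : Function.Injective e := Equiv.Perm.extendDomainHom_injective eqv
  let j0 : K →* Equiv.Perm (Fin n) := e.comp (d.comp c)
  have hj0 : Function.Injective j0 := he.comp (hd.comp hc)
  have hsign : ∀ k : K, j0 k ∈ alternatingGroup (Fin n) := by
    intro k
    rw [Equiv.Perm.mem_alternatingGroup]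
    show Equiv.Perm.sign ((d (c k)).extendDomain eqv) = 1
    rw [Equiv.Perm.sign_extendDomain]
    show Equiv.Perm.sign (Equiv.sumCongr (c k) (c k)) = 1
    rw [Equiv.Perm.sign_sumCongr]
    exact Int.units_mul_self _
  refine ⟨j0.codRestrict _ hsign, ?_⟩
  intro a b hab
  apply hj0
  exact congrArg Subtype.val hab

/-- the alternating bound -/
theorem exists_alt_bound (w : FreeGroup ℕ) (hw : w ≠ 1) :
    ∃ n₀ : ℕ, 5 ≤ n₀ ∧ ∀ n : ℕ, n₀ ≤ n → ¬ LawModCenter w (alternatingGroup (Fin n)) := by
  obtain ⟨K, _, _, f, hf⟩ := exists_finite_not_law w hw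
  refine ⟨2 * Fintype.card K + 5, by omega, ?_⟩
  intro n hn hlaw
  obtain ⟨j, hj⟩ := exists_embedding_alt K n (by omega)
  have h1 := hlaw (j ∘ f)
  rw [alternatingGroup.center_eq_bot (by simp; omega), Subgroup.mem_bot, ← lift_comp] at h1
  exact hf (hj (by rw [h1, map_one]))

end Cfsg.Agent.Lib.Helper66_LawGen
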