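import Mathlib
import Cfsg.Agent.Lib.Helper66_LawGen

/-!
# Laws: groups containing an equivariant copy of `SL_m(F)`
-/

set_option autoImplicit false

namespace Cfsg.Agent.Lib.Helper66_LawEmbed

open Cfsg.Agent.Lib.Helper66_LawCore Cfsg.Agent.Lib.Helper66_LawGen Matrix

section Ext

variable {F : Type*} [Field F] {m : ℕ} {ι : Type*} (j : Fin m → ι)

/-- extension by zero along `j` -/
noncomputable def ext0 (x : Fin m → F) : ι → F := Function.extend j x 0

theorem ext0_apply (hj : Function.Injective j) (x : Fin m → F) (k : Fin m) : ext0 j x (j k) = x k :=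
  hj.extend_apply _ _ _

theorem ext0_add (x y : Fin m → F) : ext0 j (x + y) = ext0 j x + ext0 j y := by
  ext i
  by_cases h : ∃ a, j a = i <;> simp [ext0, Function.extend, h]

theorem ext0_smul (a : F) (x : Fin m → F) : ext0 j (a • x) = a • ext0 j x := by
  ext i
  by_cases h : ∃ a, j a = i <;> simp [ext0, Function.extend, h]

theorem ext0_indep (hj : Function.Injective j) {i0 i1 : Fin m} (h01 : i0 ≠ i1) (a b : F)
    (h : a • ext0 j (Pi.single i0 (1 : F)) + b • ext0 j (Pi.single i1 (1 : F)) = 0) :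
    a = 0 ∧ b = 0 := by
  constructor
  · have := congrFun h (j i0)
    simpa [ext0_apply j hj, Pi.single_apply, h01] using this
  · have := congrFun h (j i1)
    simpa [ext0_apply j hj, Pi.single_apply, h01.symm] using this

end Ext

section PermSL

variable (m : ℕ) (F : Type*) [Field F]

/-- even permutation matrices in `SL_m(F)` -/
noncomputable def permSL : alternatingGroup (Fin m) →* Matrix.SpecialLinearGroup (Fin m) F where
  toFun σ := ⟨(σ.1)⁻¹.permMatrix F, by
    have h : Equiv.Perm.sign (σ.1)⁻¹ = 1 := by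
      rw [Equiv.Perm.sign_inv]; exact Equiv.Perm.mem_alternatingGroup.mp σ.2
    rw [Matrix.det_permutation, h]; simp⟩
  map_one' := by
    apply Subtype.ext
    simp
  map_mul' a b := by
    apply Subtype.ext
    show ((a * b : alternatingGroup (Fin m)) : Equiv.Perm (Fin m))⁻¹.permMatrix F
      = (a.1)⁻¹.permMatrix F * (b.1)⁻¹.permMatrix F
    rw [Subgroup.coe_mul, _root_.mul_inv_rev, Matrix.permMatrix_mul]

theorem permSL_mulVec (σ : alternatingGroup (Fin m)) (x : Fin m → F) :
    (permSL m F σ).1 *ᵥ x = x ∘ ⇑(σ.1)⁻¹ := by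
  show (σ.1)⁻¹.permMatrix F *ᵥ x = _
  rw [Matrix.permMatrix_mulVec]

end PermSL

section Embed

variable {F : Type*} [Field F] [Fintype F] {m : ℕ} {ι : Type*} [Fintype ι] [DecidableEq ι]
  {H : Type*} [Group H] (ρ : H →* Matrix ι ι F)
  (φ : Matrix.SpecialLinearGroup (Fin m) F →* H) (j : Fin m → ι) (hj : Function.Injective j)
  (hequiv : ∀ (g : Matrix.SpecialLinearGroup (Fin m) F) (x : Fin m → F),
    ρ (φ g) *ᵥ ext0 j x = ext0 j (g.1 *ᵥ x))
  (K : Subgroup H)

include hj hequiv in
/-- field bound -/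
theorem card_field_le (w : FreeGroup ℕ) (hw : w ≠ 1) {i0 i1 : Fin m} (h01 : i0 ≠ i1)
    (hA : ∀ s : F, φ (Matrix.SpecialLinearGroup.transvection h01 s) ∈ K)
    (hB : ∀ s : F, φ (Matrix.SpecialLinearGroup.transvection h01.symm s) ∈ K)
    (hlaw : LawModCenter w K) : Fintype.card F ≤ lawDeg w + 1 := by
  by_contra hcon
  push Not at hcon
  obtain ⟨f, h, hne⟩ := exists_not_commute w hw (ρ.comp K.subtype)
    (ext0 j (Pi.single i0 (1 : F))) (ext0 j (Pi.single i1 (1 : F)))
    (ext0_indep j hj h01) Set.univ (fun _ _ _ _ => Set.mem_univ _) Finset.univ (by simp)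
    (by simpa using hcon)
    (fun s => ⟨φ (Matrix.SpecialLinearGroup.transvection h01 s), hA s⟩)
    (fun s => ⟨φ (Matrix.SpecialLinearGroup.transvection h01.symm s), hB s⟩)
    (fun s _ => ⟨by
        show ρ (φ _) *ᵥ _ = _
        rw [hequiv, Matrix.SpecialLinearGroup.transvection_mulVec_single_self], by
        show ρ (φ _) *ᵥ _ = _
        rw [hequiv, Matrix.SpecialLinearGroup.transvection_mulVec_single_other, ext0_add, ext0_smul]⟩)
    (fun s _ => ⟨by
        show ρ (φ _) *ᵥ _ = _
        rw [hequiv, Matrix.SpecialLinearGroup.transvection_mulVec_single_other, ext0_add, ext0_smul], by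
        show ρ (φ _) *ᵥ _ = _
        rw [hequiv, Matrix.SpecialLinearGroup.transvection_mulVec_single_self]⟩)
  exact hne ((Subgroup.mem_center_iff.mp (hlaw f) h).symm)

include hj hequiv in
/-- rank bound: the law descends to the alternating group of degree `m` -/
theorem lawModCenter_alt (w : FreeGroup ℕ)
    (hP : ∀ σ : alternatingGroup (Fin m), φ (permSL m F σ) ∈ K)
    (hlaw : LawModCenter w K) : LawModCenter w (alternatingGroup (Fin m)) := by
  let ψ : alternatingGroup (Fin m) →* K := (φ.comp (permSL m F)).codRestrict K hP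
  refine lawModCenter_of_injective ψ ?_ hlaw
  intro σ τ hστ
  have h1 : φ (permSL m F σ) = φ (permSL m F τ) := congrArg Subtype.val hστ
  have h2 : ∀ x : Fin m → F, x ∘ ⇑(σ.1)⁻¹ = x ∘ ⇑(τ.1)⁻¹ := by
    intro x
    have e1 := hequiv (permSL m F σ) x
    have e2 := hequiv (permSL m F τ) x
    rw [h1, e2, permSL_mulVec, permSL_mulVec] at e1
    funext k
    have := congrFun e1 (j k)
    rw [ext0_apply j hj, ext0_apply j hj] at this
    exact this.symm
  apply Subtype.ext
  have h3 : (σ.1)⁻¹ = (τ.1)⁻¹ := by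
    ext k
    have := congrFun (h2 (Pi.single ((σ.1)⁻¹ k) (1 : F))) k
    simp only [Function.comp_apply, Pi.single_eq_same] at this
    by_contra hne
    rw [Pi.single_apply, if_neg (fun h => hne (by rw [h]))] at this
    exact one_ne_zero this
  exact inv_injective h3

end Embed

end Cfsg.Agent.Lib.Helper66_LawEmbed
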