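import Mathlib
import Cfsg.Prelude.Def_Classical
import Cfsg.Agent.Lib.Helper66_LawEmbed

/-!
# Laws: the hyperbolic embedding `g ↦ diag(g, g⁻ᵀ)` of `SL_m` into symplectic and orthogonal groups
-/

set_option autoImplicit false

namespace Cfsg.Agent.Lib.Helper66_LawHyp

open Cfsg.Agent.Lib.Helper66_LawCore Cfsg.Agent.Lib.Helper66_LawGen Cfsg.Agent.Lib.Helper66_LawEmbed
open Matrix
open scoped commutatorElement

section Basic

variable {F : Type*} [Field F] {m : ℕ}

theorem ext0_of_not_range {ι : Type*} (j : Fin m → ι) (x : Fin m → F) (i : ι) (h : ∀ k, j k ≠ i) :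
    ext0 j x i = 0 := by
  unfold ext0
  rw [Function.extend_apply']
  · rfl
  · rintro ⟨k, hk⟩
    exact h k hk

theorem sl_mul_inv (g : Matrix.SpecialLinearGroup (Fin m) F) : g.1 * (g⁻¹).1 = 1 := by
  rw [← Matrix.SpecialLinearGroup.coe_mul, mul_inv_cancel, Matrix.SpecialLinearGroup.coe_one]

theorem sl_inv_mul (g : Matrix.SpecialLinearGroup (Fin m) F) : (g⁻¹).1 * g.1 = 1 := by
  rw [← Matrix.SpecialLinearGroup.coe_mul, inv_mul_cancel, Matrix.SpecialLinearGroup.coe_one]

/-- `diag(g, g⁻ᵀ)` -/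
noncomputable def hypMat : Matrix.SpecialLinearGroup (Fin m) F →*
    Matrix (Fin m ⊕ Fin m) (Fin m ⊕ Fin m) F where
  toFun g := fromBlocks g.1 0 0 ((g⁻¹).1)ᵀ
  map_one' := by
    simp [fromBlocks_one]
  map_mul' a b := by
    rw [fromBlocks_multiply]
    simp [Matrix.transpose_mul]

theorem hypMat_apply (g : Matrix.SpecialLinearGroup (Fin m) F) :
    hypMat g = fromBlocks g.1 0 0 ((g⁻¹).1)ᵀ := rfl

theorem hypMat_mulVec (g : Matrix.SpecialLinearGroup (Fin m) F) (x y : Fin m → F) :
    hypMat g *ᵥ Sum.elim x y = Sum.elim (g.1 *ᵥ x) (((g⁻¹).1)ᵀ *ᵥ y) := by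
  rw [hypMat_apply, fromBlocks_mulVec]
  simp

theorem hypMat_pairing (g : Matrix.SpecialLinearGroup (Fin m) F) (v : Fin m ⊕ Fin m → F) :
    ∑ i : Fin m, (hypMat g *ᵥ v) (Sum.inl i) * (hypMat g *ᵥ v) (Sum.inr i)
      = ∑ i : Fin m, v (Sum.inl i) * v (Sum.inr i) := by
  have hv : v = Sum.elim (v ∘ Sum.inl) (v ∘ Sum.inr) := (Sum.elim_comp_inl_inr v).symm
  rw [hv, hypMat_mulVec]
  simp only [Sum.elim_inl, Sum.elim_inr, Function.comp_apply]
  show (g.1 *ᵥ (v ∘ Sum.inl)) ⬝ᵥ (((g⁻¹).1)ᵀ *ᵥ (v ∘ Sum.inr)) = (v ∘ Sum.inl) ⬝ᵥ (v ∘ Sum.inr)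
  rw [Matrix.dotProduct_mulVec, Matrix.vecMul_transpose, Matrix.mulVec_mulVec, sl_inv_mul,
    Matrix.one_mulVec]

theorem ext0_inl (x : Fin m → F) : ext0 (Sum.inl : Fin m → Fin m ⊕ Fin m) x = Sum.elim x 0 := by
  funext i
  rcases i with i | i
  · exact ext0_apply _ Sum.inl_injective x i
  · exact ext0_of_not_range _ x _ (fun k => by simp)

theorem hypMat_equiv (g : Matrix.SpecialLinearGroup (Fin m) F) (x : Fin m → F) :
    hypMat g *ᵥ ext0 (Sum.inl : Fin m → Fin m ⊕ Fin m) x = ext0 Sum.inl (g.1 *ᵥ x) := by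
  rw [ext0_inl, ext0_inl, hypMat_mulVec]
  simp

end Basic

section Symplectic

variable {F : Type*} [Field F] [Fintype F] {m : ℕ}

theorem hypMat_mem_symplectic (g : Matrix.SpecialLinearGroup (Fin m) F) :
    hypMat g ∈ Matrix.symplecticGroup (Fin m) F := by
  rw [SymplecticGroup.mem_iff, hypMat_apply, Matrix.J, fromBlocks_transpose,
    fromBlocks_multiply, fromBlocks_multiply]
  simp [← Matrix.transpose_mul]
  rw [Matrix.mul_adjugate, g.det_coe, one_smul]

/-- `SL_m → Sp_{2m}` -/
noncomputable def spHom : Matrix.SpecialLinearGroup (Fin m) F →* Matrix.symplecticGroup (Fin m) F where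
  toFun g := ⟨hypMat g, hypMat_mem_symplectic g⟩
  map_one' := Subtype.ext (map_one hypMat)
  map_mul' a b := Subtype.ext (map_mul hypMat a b)

theorem sp_bounds (w : FreeGroup ℕ) (hw : w ≠ 1) (hm : 2 ≤ m)
    (hlaw : LawModCenter w (Matrix.symplecticGroup (Fin m) F)) :
    Fintype.card F ≤ lawDeg w + 1 ∧ LawModCenter w (alternatingGroup (Fin m)) := by
  have hlaw' : LawModCenter w (⊤ : Subgroup (Matrix.symplecticGroup (Fin m) F)) :=
    lawModCenter_of_injective (Subgroup.subtype ⊤) Subtype.val_injective hlaw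
  have h01 : (⟨0, by omega⟩ : Fin m) ≠ ⟨1, by omega⟩ := by
    intro h; simpa using congrArg Fin.val h
  have hequiv : ∀ (g : Matrix.SpecialLinearGroup (Fin m) F) (x : Fin m → F),
      (Matrix.symplecticGroup (Fin m) F).subtype (spHom g) *ᵥ ext0 Sum.inl x
        = ext0 Sum.inl (g.1 *ᵥ x) := fun g x => hypMat_equiv g x
  exact ⟨card_field_le (Matrix.symplecticGroup (Fin m) F).subtype spHom Sum.inl Sum.inl_injective
      hequiv ⊤ w hw h01 (fun _ => Subgroup.mem_top _) (fun _ => Subgroup.mem_top _) hlaw',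
    lawModCenter_alt (Matrix.symplecticGroup (Fin m) F).subtype spHom Sum.inl Sum.inl_injective
      hequiv ⊤ w (fun _ => Subgroup.mem_top _) hlaw'⟩

end Symplectic

section Orthogonal

variable {F : Type*} [Field F] [Fintype F] {m : ℕ}

theorem transvection_comm {i j k : Fin m} (hij : i ≠ j) (hik : i ≠ k) (hkj : k ≠ j) (s : F) :
    Matrix.SpecialLinearGroup.transvection hij s
      = ⁅Matrix.SpecialLinearGroup.transvection hik s, Matrix.SpecialLinearGroup.transvection hkj (1 : F)⁆ := by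
  rw [commutatorElement_def, Matrix.SpecialLinearGroup.transvection_inv,
    Matrix.SpecialLinearGroup.transvection_inv]
  apply Subtype.ext
  simp only [Matrix.SpecialLinearGroup.coe_mul, Matrix.SpecialLinearGroup.transvection_coe]
  have e1 : single i k s * single k j (1 : F) = single i j s := by
    rw [single_mul_single_same]; simp
  have e3 : single i k s * single i k (-s) = 0 := single_mul_single_of_ne s i k i hik.symm (-s)
  have e4 : single k j (1 : F) * single k j (-1 : F) = 0 :=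
    single_mul_single_of_ne (1 : F) k j k hkj.symm (-1)
  have e5 : single i j s * single i k (-s) = 0 := single_mul_single_of_ne s i j i hij.symm (-s)
  have e6 : single i j s * single k j (-1 : F) = 0 := single_mul_single_of_ne s i j k hkj.symm (-1)
  have e7 : single k j (1 : F) * single i k (-s) = 0 :=
    single_mul_single_of_ne (1 : F) k j i hij.symm (-s)
  have h1 : ((1 : Matrix (Fin m) (Fin m) F) + single i k s) * (1 + single k j 1)
      = 1 + single i k s + single k j 1 + single i j s := by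
    simp only [mul_add, add_mul, mul_one, one_mul, e1]
    abel
  have h2 : ((1 : Matrix (Fin m) (Fin m) F) + single i k s + single k j 1 + single i j s)
      * (1 + single i k (-s)) = 1 + single k j 1 + single i j s := by
    simp only [mul_add, add_mul, mul_one, one_mul, e3, e7, e5]
    rw [← single_neg]
    abel
  have h3 : ((1 : Matrix (Fin m) (Fin m) F) + single k j 1 + single i j s)
      * (1 + single k j (-1)) = 1 + single i j s := by
    simp only [mul_add, add_mul, mul_one, one_mul, e4, e6]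
    rw [← single_neg]
    abel
  rw [h1, h2, h3]

variable {ι : Type} [Fintype ι] [DecidableEq ι]
  (Q : (ι → F) → F) (θ : Matrix.SpecialLinearGroup (Fin m) F →* Matrix ι ι F)
  (hθ : ∀ g v, Q (θ g *ᵥ v) = Q v) (j : Fin m → ι) (hj : Function.Injective j)
  (hequiv : ∀ (g : Matrix.SpecialLinearGroup (Fin m) F) (x : Fin m → F),
    θ g *ᵥ ext0 j x = ext0 j (g.1 *ᵥ x))

/-- `SL_m → O(Q)` -/
noncomputable def toIso : Matrix.SpecialLinearGroup (Fin m) F →* Cfsg.isometryGroup F Q :=
  (θ.toHomUnits).codRestrict (Cfsg.isometryGroup F Q) (fun g => by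
    intro u v
    exact hθ g u)

/-- `O(Q) → M_ι(F)` -/
def isoRho : Cfsg.isometryGroup F Q →* Matrix ι ι F :=
  (Units.coeHom _).comp (Cfsg.isometryGroup F Q).subtype

include hj hequiv hθ in
theorem omega_bounds (w : FreeGroup ℕ) (hw : w ≠ 1) (hm : 3 ≤ m)
    (hlaw : LawModCenter w (Cfsg.Omega F Q)) :
    Fintype.card F ≤ lawDeg w + 1 ∧ (5 ≤ m → LawModCenter w (alternatingGroup (Fin m))) := by
  have h01 : (⟨0, by omega⟩ : Fin m) ≠ ⟨1, by omega⟩ := by
    intro h; simpa using congrArg Fin.val h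
  have h02 : (⟨0, by omega⟩ : Fin m) ≠ ⟨2, by omega⟩ := by
    intro h; simpa using congrArg Fin.val h
  have h12 : (⟨1, by omega⟩ : Fin m) ≠ ⟨2, by omega⟩ := by
    intro h; simpa using congrArg Fin.val h
  have hequiv' : ∀ (g : Matrix.SpecialLinearGroup (Fin m) F) (x : Fin m → F),
      isoRho Q (toIso Q θ hθ g) *ᵥ ext0 j x = ext0 j (g.1 *ᵥ x) := fun g x => hequiv g x
  have hcomm : ∀ a b : Matrix.SpecialLinearGroup (Fin m) F,
      toIso Q θ hθ ⁅a, b⁆ ∈ Cfsg.Omega F Q := by
    intro a b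
    rw [map_commutatorElement]
    exact Subgroup.commutator_mem_commutator (Subgroup.mem_top _) (Subgroup.mem_top _)
  refine ⟨card_field_le (isoRho Q) (toIso Q θ hθ) j hj hequiv' (Cfsg.Omega F Q) w hw h01 ?_ ?_ hlaw, ?_⟩
  · intro s
    rw [transvection_comm h01 h02 h12.symm s]
    exact hcomm _ _
  · intro s
    rw [transvection_comm h01.symm h12 h02.symm s]
    exact hcomm _ _
  · intro h5
    refine lawModCenter_alt (isoRho Q) (toIso Q θ hθ) j hj hequiv' (Cfsg.Omega F Q) w ?_ hlaw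
    intro σ
    have hσ : σ ∈ commutator (alternatingGroup (Fin m)) := by
      rw [commutator_alternatingGroup_eq_top (by simpa using h5)]
      exact Subgroup.mem_top _
    have h1 : ((toIso Q θ hθ).comp (permSL m F)) σ
        ∈ (commutator (alternatingGroup (Fin m))).map ((toIso Q θ hθ).comp (permSL m F)) :=
      Subgroup.mem_map_of_mem _ hσ
    rw [commutator_def, Subgroup.map_commutator] at h1
    exact Subgroup.commutator_mono le_top le_top h1

end Orthogonal

section Forms

variable {F : Type*} [Field F] [Fintype F] {m : ℕ}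

/-- `diag(1, θ g)` -/
noncomputable def blockR {G : Type*} [Group G] {a b : Type} [Fintype a] [DecidableEq a] [Fintype b]
    [DecidableEq b] (θ : G →* Matrix a a F) : G →* Matrix (b ⊕ a) (b ⊕ a) F where
  toFun g := fromBlocks 1 0 0 (θ g)
  map_one' := by simp [fromBlocks_one]
  map_mul' x y := by
    rw [fromBlocks_multiply]
    simp

/-- `diag(θ g, 1)` -/
noncomputable def blockL {G : Type*} [Group G] {a b : Type} [Fintype a] [DecidableEq a] [Fintype b]
    [DecidableEq b] (θ : G →* Matrix a a F) : G →* Matrix (a ⊕ b) (a ⊕ b) F where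
  toFun g := fromBlocks (θ g) 0 0 1
  map_one' := by simp [fromBlocks_one]
  map_mul' x y := by
    rw [fromBlocks_multiply]
    simp

theorem blockR_mulVec {G : Type*} [Group G] {a b : Type} [Fintype a] [DecidableEq a] [Fintype b]
    [DecidableEq b] (θ : G →* Matrix a a F) (g : G) (v : b ⊕ a → F) :
    blockR (b := b) θ g *ᵥ v = Sum.elim (v ∘ Sum.inl) (θ g *ᵥ (v ∘ Sum.inr)) := by
  show fromBlocks 1 0 0 (θ g) *ᵥ v = _
  conv_lhs => rw [← Sum.elim_comp_inl_inr v]
  rw [fromBlocks_mulVec]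
  simp

theorem blockL_mulVec {G : Type*} [Group G] {a b : Type} [Fintype a] [DecidableEq a] [Fintype b]
    [DecidableEq b] (θ : G →* Matrix a a F) (g : G) (v : a ⊕ b → F) :
    blockL (b := b) θ g *ᵥ v = Sum.elim (θ g *ᵥ (v ∘ Sum.inl)) (v ∘ Sum.inr) := by
  show fromBlocks (θ g) 0 0 1 *ᵥ v = _
  conv_lhs => rw [← Sum.elim_comp_inl_inr v]
  rw [fromBlocks_mulVec]
  simp

/-! #### plus type -/

theorem plus_bounds (w : FreeGroup ℕ) (hw : w ≠ 1) (hm : 3 ≤ m)
    (hlaw : LawModCenter w (Cfsg.Omega F (Cfsg.quadFormPlus m F))) :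
    Fintype.card F ≤ lawDeg w + 1 ∧ (5 ≤ m → LawModCenter w (alternatingGroup (Fin m))) := by
  refine omega_bounds (Cfsg.quadFormPlus m F) hypMat ?_ Sum.inl Sum.inl_injective hypMat_equiv w hw hm
    hlaw
  intro g v
  unfold Cfsg.quadFormPlus
  exact hypMat_pairing g v

/-! #### odd dimension -/

theorem ext0_inr_inl (x : Fin m → F) :
    ext0 (fun k : Fin m => (Sum.inr (Sum.inl k) : Unit ⊕ (Fin m ⊕ Fin m))) x
      = Sum.elim (0 : Unit → F) (Sum.elim x (0 : Fin m → F)) := by
  funext i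
  rcases i with i | i | i
  · exact ext0_of_not_range _ x _ (fun k => by simp)
  · exact ext0_apply _ (fun a b h => by simpa using h) x i
  · exact ext0_of_not_range _ x _ (fun k => by simp)

theorem odd_bounds (w : FreeGroup ℕ) (hw : w ≠ 1) (hm : 3 ≤ m)
    (hlaw : LawModCenter w (Cfsg.Omega F (Cfsg.quadFormOdd m F))) :
    Fintype.card F ≤ lawDeg w + 1 ∧ (5 ≤ m → LawModCenter w (alternatingGroup (Fin m))) := by
  refine omega_bounds (Cfsg.quadFormOdd m F) (blockR (b := Unit) hypMat) ?_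
    (fun k : Fin m => (Sum.inr (Sum.inl k) : Unit ⊕ (Fin m ⊕ Fin m)))
    (fun a b h => by simpa using h) ?_ w hw hm hlaw
  · intro g v
    unfold Cfsg.quadFormOdd
    rw [blockR_mulVec]
    simp only [Sum.elim_inl, Sum.elim_inr, Function.comp_apply]
    rw [hypMat_pairing g (v ∘ Sum.inr)]
    simp
  · intro g x
    rw [ext0_inr_inl, ext0_inr_inl, blockR_mulVec]
    have h1 : (Sum.elim (0 : Unit → F) (Sum.elim x (0 : Fin m → F))) ∘ Sum.inr = Sum.elim x 0 := by
      funext i; simp
    have h2 : (Sum.elim (0 : Unit → F) (Sum.elim x (0 : Fin m → F))) ∘ Sum.inl = 0 := by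
      funext i; simp
    rw [h1, h2, hypMat_mulVec]
    simp

/-! #### minus type -/

theorem ext0_inl_inl (x : Fin m → F) :
    ext0 (fun k : Fin m => (Sum.inl (Sum.inl k) : (Fin m ⊕ Fin m) ⊕ Fin 2)) x
      = Sum.elim (Sum.elim x (0 : Fin m → F)) (0 : Fin 2 → F) := by
  funext i
  rcases i with (i | i) | i
  · exact ext0_apply _ (fun a b h => by simpa using h) x i
  · exact ext0_of_not_range _ x _ (fun k => by simp)
  · exact ext0_of_not_range _ x _ (fun k => by simp)

theorem minus_bounds (w : FreeGroup ℕ) (hw : w ≠ 1) (hm : 3 ≤ m) (a b : F)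
    (hlaw : LawModCenter w (Cfsg.Omega F (Cfsg.quadFormMinus m F a b))) :
    Fintype.card F ≤ lawDeg w + 1 ∧ (5 ≤ m → LawModCenter w (alternatingGroup (Fin m))) := by
  refine omega_bounds (Cfsg.quadFormMinus m F a b) (blockL (b := Fin 2) hypMat) ?_
    (fun k : Fin m => (Sum.inl (Sum.inl k) : (Fin m ⊕ Fin m) ⊕ Fin 2))
    (fun a b h => by simpa using h) ?_ w hw hm hlaw
  · intro g v
    unfold Cfsg.quadFormMinus
    rw [blockL_mulVec]
    simp only [Sum.elim_inl, Sum.elim_inr, Function.comp_apply]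
    rw [hypMat_pairing g (v ∘ Sum.inl)]
    simp
  · intro g x
    rw [ext0_inl_inl, ext0_inl_inl, blockL_mulVec]
    have h1 : (Sum.elim (Sum.elim x (0 : Fin m → F)) (0 : Fin 2 → F)) ∘ Sum.inl = Sum.elim x 0 := by
      funext i; simp
    have h2 : (Sum.elim (Sum.elim x (0 : Fin m → F)) (0 : Fin 2 → F)) ∘ Sum.inr = 0 := by
      funext i; simp
    rw [h1, h2, hypMat_mulVec]
    simp

end Forms

end Cfsg.Agent.Lib.Helper66_LawHyp
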