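import Mathlib
import Cfsg.Prelude.Def_Classical
import Cfsg.Agent.Lib.Helper66_LawEmbed

/-!
# Laws: the special unitary groups `SU_n(q)` for the form `Σ u_i v_i^q`
-/

set_option autoImplicit false

namespace Cfsg.Agent.Lib.Helper66_LawUnitary

open Cfsg.Agent.Lib.Helper66_LawCore Cfsg.Agent.Lib.Helper66_LawGen Cfsg.Agent.Lib.Helper66_LawEmbed
open Matrix

section FieldFacts

variable {F : Type*} [Field F] [Fintype F] {q : ℕ}

theorem two_le_q (hF : Fintype.card F = q ^ 2) : 2 ≤ q := by
  have h1 : 1 < Fintype.card F := Fintype.one_lt_card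
  rw [hF] at h1
  by_contra h
  have : q ≤ 1 := by omega
  have : q ^ 2 ≤ 1 := by
    calc q ^ 2 ≤ 1 ^ 2 := Nat.pow_le_pow_left this 2
      _ = 1 := by norm_num
  omega

theorem pow_q_pow_q (hF : Fintype.card F = q ^ 2) (x : F) : (x ^ q) ^ q = x := by
  rw [← pow_mul, ← sq, ← hF, FiniteField.pow_card]

theorem add_pow_q (hF : Fintype.card F = q ^ 2) (x y : F) : (x + y) ^ q = x ^ q + y ^ q := by
  obtain ⟨p, hp⟩ := CharP.exists F
  obtain ⟨n, hprime, hn⟩ := FiniteField.card F p
  have : Fact p.Prime := ⟨hprime⟩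
  have hq : q ∣ p ^ (n : ℕ) := by
    rw [← hn, hF]; exact Dvd.intro_left (q ^ 1) (by ring)
  obtain ⟨j, _, rfl⟩ := (Nat.dvd_prime_pow hprime).mp hq
  exact add_pow_char_pow x y p j

theorem neg_pow_q (hF : Fintype.card F = q ^ 2) (x : F) : (-x) ^ q = -(x ^ q) := by
  have h := add_pow_q hF (-x) x
  rw [neg_add_cancel, zero_pow (by have := two_le_q hF; omega)] at h
  exact eq_neg_of_add_eq_zero_left h.symm

theorem sum_pow_q (hF : Fintype.card F = q ^ 2) {ι : Type*} (s : Finset ι) (f : ι → F) :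
    (∑ i ∈ s, f i) ^ q = ∑ i ∈ s, (f i) ^ q := by
  classical
  induction s using Finset.induction_on with
  | empty => simp [zero_pow (by have := two_le_q hF; omega : q ≠ 0)]
  | insert a s ha ih => rw [Finset.sum_insert ha, Finset.sum_insert ha, add_pow_q hF, ih]

theorem card_units_eq (hF : Fintype.card F = q ^ 2) : Nat.card Fˣ = q ^ 2 - 1 := by
  rw [Nat.card_units, Nat.card_eq_fintype_card, hF]

theorem exists_root_of_pow_eq_one (hF : Fintype.card F = q ^ 2) {d e : ℕ} (hde : d * e = q ^ 2 - 1)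
    (he : 0 < e) (y : Fˣ) (hy : y ^ e = 1) : ∃ x : Fˣ, x ^ d = y := by
  obtain ⟨ζ, hζ⟩ := IsCyclic.exists_generator (α := Fˣ)
  have hord : orderOf ζ = q ^ 2 - 1 := by
    rw [orderOf_eq_card_of_forall_mem_zpowers hζ, card_units_eq hF]
  obtain ⟨k, hk⟩ := (mem_powers_iff_mem_zpowers).mpr (hζ y)
  have hk' : ζ ^ k = y := hk
  have h1 : ζ ^ (k * e) = 1 := by rw [pow_mul, hk', hy]
  have h2 : d * e ∣ k * e := by
    rw [hde, ← hord]; exact orderOf_dvd_of_pow_eq_one h1
  obtain ⟨k', rfl⟩ := Nat.dvd_of_mul_dvd_mul_right he h2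
  exact ⟨ζ ^ k', by rw [← pow_mul, mul_comm, hk']⟩

theorem q_sq_sub_one (hq : 2 ≤ q) : (q + 1) * (q - 1) = q ^ 2 - 1 := by
  obtain ⟨r, rfl⟩ : ∃ r, q = r + 1 := ⟨q - 1, by omega⟩
  have : (r + 1) ^ 2 = (r + 1 + 1) * r + 1 := by ring
  rw [this]
  simp

/-- every nonzero fixed element is a norm -/
theorem exists_norm_eq (hF : Fintype.card F = q ^ 2) (y : F) (hy0 : y ≠ 0) (hy : y ^ q = y) :
    ∃ x : F, x ≠ 0 ∧ x ^ (q + 1) = y := by
  have hq := two_le_q hF
  have hy1 : (Units.mk0 y hy0) ^ (q - 1) = 1 := by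
    apply Units.ext
    simp only [Units.val_pow_eq_pow_val, Units.val_mk0, Units.val_one]
    have : y ^ (q - 1) * y = y := by rw [← pow_succ, Nat.sub_add_cancel (by omega), hy]
    exact mul_right_cancel₀ hy0 (by rw [this, one_mul])
  obtain ⟨x, hx⟩ := exists_root_of_pow_eq_one hF (q_sq_sub_one hq) (by omega) _ hy1
  refine ⟨x, x.ne_zero, ?_⟩
  have := congrArg Units.val hx
  simpa using this

/-- a nonzero element of trace zero -/
theorem exists_tr0 (hF : Fintype.card F = q ^ 2) : ∃ ε : F, ε ≠ 0 ∧ ε ^ q = -ε := by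
  have hq := two_le_q hF
  have h1 : (-1 : Fˣ) ^ (q + 1) = 1 := by
    apply Units.ext
    simp only [Units.val_pow_eq_pow_val, Units.val_neg, Units.val_one]
    rw [pow_succ, neg_pow_q hF, one_pow]; simp
  have hde : (q - 1) * (q + 1) = q ^ 2 - 1 := by rw [mul_comm]; exact q_sq_sub_one hq
  obtain ⟨x, hx⟩ := exists_root_of_pow_eq_one hF hde (by omega) _ h1
  refine ⟨x, x.ne_zero, ?_⟩
  have h2 : (x : F) ^ (q - 1) = -1 := by
    have := congrArg Units.val hx
    simpa using this
  calc (x : F) ^ q = (x : F) ^ (q - 1) * x := by rw [← pow_succ, Nat.sub_add_cancel (by omega)]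
    _ = -x := by rw [h2]; ring

/-- a norm-one element different from `1` -/
theorem exists_norm_one (hF : Fintype.card F = q ^ 2) : ∃ κ : F, κ ≠ 1 ∧ κ ^ (q + 1) = 1 := by
  have hq := two_le_q hF
  obtain ⟨ζ, hζ⟩ := IsCyclic.exists_generator (α := Fˣ)
  have hord : orderOf ζ = q ^ 2 - 1 := by
    rw [orderOf_eq_card_of_forall_mem_zpowers hζ, card_units_eq hF]
  refine ⟨((ζ ^ (q - 1) : Fˣ) : F), ?_, ?_⟩
  · intro h
    have h' : ζ ^ (q - 1) = 1 := Units.ext (by simpa using h)
    have := orderOf_dvd_of_pow_eq_one h'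
    rw [hord, ← q_sq_sub_one hq] at this
    have h3 : (q + 1) * (q - 1) ≤ q - 1 := Nat.le_of_dvd (by omega) this
    have h4 : 3 * (q - 1) ≤ (q + 1) * (q - 1) := Nat.mul_le_mul_right _ (by omega)
    omega
  · have : (ζ ^ (q - 1)) ^ (q + 1) = 1 := by
      rw [← pow_mul, mul_comm, q_sq_sub_one hq, ← hord, pow_orderOf_eq_one]
    have := congrArg Units.val this
    simpa using this

/-- `q` elements fixed by `x ↦ x^q` -/
theorem exists_fixed_finset (hF : Fintype.card F = q ^ 2) :
    ∃ T : Finset F, (∀ x ∈ T, x ^ q = x) ∧ q ≤ T.card := by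
  classical
  have hq := two_le_q hF
  obtain ⟨ζ, hζ⟩ := IsCyclic.exists_generator (α := Fˣ)
  have hord : orderOf ζ = q ^ 2 - 1 := by
    rw [orderOf_eq_card_of_forall_mem_zpowers hζ, card_units_eq hF]
  let g : ℕ → F := fun k => ((ζ ^ ((q + 1) * k) : Fˣ) : F)
  have hginj : Set.InjOn g (Finset.range (q - 1) : Set ℕ) := by
    intro a ha b hb hab
    have ha' : a < q - 1 := by simpa using ha
    have hb' : b < q - 1 := by simpa using hb
    have h1 : ζ ^ ((q + 1) * a) = ζ ^ ((q + 1) * b) := Units.ext hab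
    have h2 : (q + 1) * a = (q + 1) * b := by
      apply pow_injOn_Iio_orderOf (x := ζ)
      · rw [Set.mem_Iio, hord, ← q_sq_sub_one hq]
        exact Nat.mul_lt_mul_of_pos_left ha' (by omega)
      · rw [Set.mem_Iio, hord, ← q_sq_sub_one hq]
        exact Nat.mul_lt_mul_of_pos_left hb' (by omega)
      · exact h1
    exact Nat.eq_of_mul_eq_mul_left (by omega) h2
  refine ⟨insert 0 ((Finset.range (q - 1)).image g), ?_, ?_⟩
  · intro x hx
    rw [Finset.mem_insert] at hx
    rcases hx with rfl | hx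
    · exact zero_pow (by omega)
    · obtain ⟨k, _, rfl⟩ := Finset.mem_image.mp hx
      have : (ζ ^ ((q + 1) * k)) ^ q = ζ ^ ((q + 1) * k) := by
        have h3 : (ζ ^ ((q + 1) * k)) ^ (q - 1) = 1 := by
          rw [← pow_mul, mul_comm (q + 1) k, mul_assoc, q_sq_sub_one hq, ← hord, pow_mul',
            pow_orderOf_eq_one, one_pow]
        calc (ζ ^ ((q + 1) * k)) ^ q = (ζ ^ ((q + 1) * k)) ^ (q - 1) * ζ ^ ((q + 1) * k) := by
              rw [← pow_succ, Nat.sub_add_cancel (by omega)]
          _ = ζ ^ ((q + 1) * k) := by rw [h3, one_mul]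
      have := congrArg Units.val this
      simpa [g] using this
  · rw [Finset.card_insert_of_notMem, Finset.card_image_of_injOn hginj, Finset.card_range]
    · omega
    · intro h0
      obtain ⟨k, _, hk⟩ := Finset.mem_image.mp h0
      exact (Units.ne_zero _) hk

end FieldFacts

section Herm

variable {F : Type*} [Field F] [Fintype F] {q n : ℕ}

theorem herm_add_left (x y z : Fin n → F) :
    Cfsg.hermForm n F q (x + y) z = Cfsg.hermForm n F q x z + Cfsg.hermForm n F q y z := by
  unfold Cfsg.hermForm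
  rw [← Finset.sum_add_distrib]
  exact Finset.sum_congr rfl (fun i _ => by simp [add_mul])

theorem herm_smul_left (a : F) (x z : Fin n → F) :
    Cfsg.hermForm n F q (a • x) z = a * Cfsg.hermForm n F q x z := by
  unfold Cfsg.hermForm
  rw [Finset.mul_sum]
  exact Finset.sum_congr rfl (fun i _ => by simp [mul_assoc])

theorem herm_add_right (hF : Fintype.card F = q ^ 2) (x y z : Fin n → F) :
    Cfsg.hermForm n F q x (y + z) = Cfsg.hermForm n F q x y + Cfsg.hermForm n F q x z := by
  unfold Cfsg.hermForm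
  rw [← Finset.sum_add_distrib]
  exact Finset.sum_congr rfl (fun i _ => by simp [add_pow_q hF, mul_add])

theorem herm_smul_right (a : F) (x z : Fin n → F) :
    Cfsg.hermForm n F q x (a • z) = a ^ q * Cfsg.hermForm n F q x z := by
  unfold Cfsg.hermForm
  rw [Finset.mul_sum]
  exact Finset.sum_congr rfl (fun i _ => by simp [mul_pow]; ring)

theorem herm_conj (hF : Fintype.card F = q ^ 2) (x y : Fin n → F) :
    (Cfsg.hermForm n F q x y) ^ q = Cfsg.hermForm n F q y x := by
  unfold Cfsg.hermForm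
  rw [sum_pow_q hF]
  exact Finset.sum_congr rfl (fun i _ => by rw [mul_pow, pow_q_pow_q hF, mul_comm])

theorem herm_single (hq : q ≠ 0) (i j : Fin n) :
    Cfsg.hermForm n F q (Pi.single i 1) (Pi.single j 1) = if i = j then 1 else 0 := by
  unfold Cfsg.hermForm
  rw [Finset.sum_eq_single i]
  · by_cases h : i = j
    · subst h; simp
    · simp [h, Pi.single_apply, hq]
  · intro k _ hk
    simp [Pi.single_apply, hk]
  · intro h; exact absurd (Finset.mem_univ i) h

/-- the unitary transvection matrix -/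
def tv (q : ℕ) (c : F) (v : Fin n → F) : Matrix (Fin n) (Fin n) F :=
  1 + c • vecMulVec v (fun i => v i ^ q)

theorem tv_mulVec (c : F) (v x : Fin n → F) :
    tv q c v *ᵥ x = x + (c * Cfsg.hermForm n F q x v) • v := by
  unfold tv
  rw [Matrix.add_mulVec, Matrix.one_mulVec, Matrix.smul_mulVec, vecMulVec_mulVec]
  congr 1
  have : (fun i => v i ^ q) ⬝ᵥ x = Cfsg.hermForm n F q x v := by
    unfold Cfsg.hermForm dotProduct
    exact Finset.sum_congr rfl (fun i _ => mul_comm _ _)
  rw [this]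
  ext i
  simp only [Pi.smul_apply, smul_eq_mul, MulOpposite.smul_eq_mul_unop, MulOpposite.unop_op]
  ring

theorem tv_det (c : F) (v : Fin n → F) (hv : Cfsg.hermForm n F q v v = 0) : (tv q c v).det = 1 := by
  have h1 : tv q c v = 1 + replicateCol Unit (c • v) * replicateRow Unit (fun i => v i ^ q) := by
    unfold tv
    rw [replicateCol_smul, Matrix.smul_mul, ← vecMulVec_eq]
  rw [h1, det_one_add_replicateCol_mul_replicateRow]
  have : (fun i => v i ^ q) ⬝ᵥ (c • v) = c * Cfsg.hermForm n F q v v := by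
    unfold Cfsg.hermForm dotProduct
    rw [Finset.mul_sum]
    exact Finset.sum_congr rfl (fun i _ => by simp; ring)
  rw [this, hv, mul_zero, add_zero]

theorem tv_preserve (hF : Fintype.card F = q ^ 2) (c : F) (v : Fin n → F)
    (hv : Cfsg.hermForm n F q v v = 0) (hc : c ^ q = -c) (x y : Fin n → F) :
    Cfsg.hermForm n F q (tv q c v *ᵥ x) (tv q c v *ᵥ y) = Cfsg.hermForm n F q x y := by
  rw [tv_mulVec, tv_mulVec, herm_add_left, herm_add_right hF, herm_add_right hF, herm_smul_left,
    herm_smul_right, herm_smul_right, herm_smul_left, hv, mul_pow, hc, herm_conj hF y v]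
  ring

/-- the unitary transvection in `SU_n(q)` -/
def tvSU (hF : Fintype.card F = q ^ 2) (c : F) (v : Fin n → F)
    (hv : Cfsg.hermForm n F q v v = 0) (hc : c ^ q = -c) : Cfsg.SU n F q :=
  ⟨⟨tv q c v, tv_det c v hv⟩, fun x y => tv_preserve hF c v hv hc x y⟩

/-- `SU_n(q) → M_n(F)` -/
def suRho (n : ℕ) (F : Type*) [Field F] (q : ℕ) : Cfsg.SU n F q →* Matrix (Fin n) (Fin n) F :=
  (slHom (Fin n) F).comp (Cfsg.SU n F q).subtype

theorem suRho_tvSU (hF : Fintype.card F = q ^ 2) (c : F) (v : Fin n → F)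
    (hv : Cfsg.hermForm n F q v v = 0) (hc : c ^ q = -c) :
    suRho n F q (tvSU hF c v hv hc) = tv q c v := rfl

theorem permSL_mem_SU (σ : alternatingGroup (Fin n)) : permSL n F σ ∈ Cfsg.SU n F q := by
  intro x y
  show Cfsg.hermForm n F q ((permSL n F σ).1 *ᵥ x) ((permSL n F σ).1 *ᵥ y) = Cfsg.hermForm n F q x y
  rw [permSL_mulVec, permSL_mulVec]
  unfold Cfsg.hermForm
  exact Equiv.sum_comp (σ.1)⁻¹ (fun i => x i * y i ^ q)

theorem ext0_id (x : Fin n → F) : ext0 (id : Fin n → Fin n) x = x := by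
  funext i
  exact ext0_apply id Function.injective_id x i

theorem herm_two (hq : q ≠ 0) {i0 i1 : Fin n} (h01 : i0 ≠ i1) (a b c d : F) :
    Cfsg.hermForm n F q (a • Pi.single i0 1 + b • Pi.single i1 1)
      (c • Pi.single i0 1 + d • Pi.single i1 1) = a * c ^ q + b * d ^ q := by
  unfold Cfsg.hermForm
  rw [Finset.sum_eq_add_of_mem i0 i1 (Finset.mem_univ _) (Finset.mem_univ _) h01]
  · simp [Pi.single_apply, h01, h01.symm]
  · intro k _ hk
    simp [Pi.single_apply, hk.1, hk.2, hq]

theorem su_rank (w : FreeGroup ℕ) (hlaw : LawModCenter w (Cfsg.SU n F q)) :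
    LawModCenter w (alternatingGroup (Fin n)) := by
  refine lawModCenter_alt (slHom (Fin n) F) (MonoidHom.id _) id Function.injective_id ?_
    (Cfsg.SU n F q) w (fun σ => permSL_mem_SU σ) hlaw
  intro g x
  rw [ext0_id, ext0_id]
  rfl

theorem su_field (w : FreeGroup ℕ) (hw : w ≠ 1) (hF : Fintype.card F = q ^ 2) (hn : 2 ≤ n)
    (hlaw : LawModCenter w (Cfsg.SU n F q)) : q ≤ lawDeg w + 1 := by
  classical
  by_contra hcon
  push Not at hcon
  have hq := two_le_q hF
  have hq0 : q ≠ 0 := by omega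
  have h01 : (⟨0, by omega⟩ : Fin n) ≠ ⟨1, by omega⟩ := by
    intro h; simpa using congrArg Fin.val h
  set i0 : Fin n := ⟨0, by omega⟩
  set i1 : Fin n := ⟨1, by omega⟩
  -- field elements
  obtain ⟨lam, hlam0, hlam⟩ := exists_norm_eq hF (-1 : F) (by simp)
    (by rw [neg_pow_q hF, one_pow])
  obtain ⟨kap, hkap1, hkap⟩ := exists_norm_one hF
  obtain ⟨eps, heps0, heps⟩ := exists_tr0 hF
  obtain ⟨T, hTfix, hTcard⟩ := exists_fixed_finset hF
  set mu : F := lam * kap with hmu
  have hmun : mu ^ (q + 1) = -1 := by rw [hmu, mul_pow, hlam, hkap, mul_one]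
  have hmulam : mu ≠ lam := by
    intro h
    have : lam * kap = lam * 1 := by rw [mul_one]; exact h
    exact hkap1 (mul_left_cancel₀ hlam0 this)
  -- vectors
  set v : Fin n → F := (1 : F) • Pi.single i0 1 + lam • Pi.single i1 1 with hvdef
  set u : Fin n → F := (1 : F) • Pi.single i0 1 + mu • Pi.single i1 1 with hudef
  have hvv : Cfsg.hermForm n F q v v = 0 := by
    rw [hvdef, herm_two hq0 h01, one_pow, one_mul, ← pow_succ', hlam]; ring
  have huu : Cfsg.hermForm n F q u u = 0 := by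
    rw [hudef, herm_two hq0 h01, one_pow, one_mul, ← pow_succ', hmun]; ring
  set β : F := Cfsg.hermForm n F q v u with hβdef
  have hβ : β = 1 + lam * mu ^ q := by
    rw [hβdef, hvdef, hudef, herm_two hq0 h01, one_pow, one_mul]
  have hβ0 : β ≠ 0 := by
    intro h0
    rw [hβ] at h0
    have h1 : lam * mu ^ q = lam * lam ^ q := by
      have e1 : lam * lam ^ q = -1 := by rw [← pow_succ', hlam]
      rw [e1]; exact eq_neg_of_add_eq_zero_right h0
    have h2 : mu ^ q = lam ^ q := mul_left_cancel₀ hlam0 h1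
    have h3 : (mu ^ q) ^ q = (lam ^ q) ^ q := by rw [h2]
    rw [pow_q_pow_q hF, pow_q_pow_q hF] at h3
    exact hmulam h3
  have huv : Cfsg.hermForm n F q u v = β ^ q := (herm_conj hF v u).symm
  set kp : F := eps * β ^ q with hkp
  have hkp0 : kp ≠ 0 := mul_ne_zero heps0 (pow_ne_zero _ hβ0)
  set v' : Fin n → F := kp • v with hv'
  set c0 : F := (eps * β * β ^ q)⁻¹ with hc0
  have hc0q : c0 ^ q = -c0 := by
    rw [hc0, inv_pow, mul_pow, mul_pow, heps, pow_q_pow_q hF]
    have : -eps * β ^ q * β = -(eps * β * β ^ q) := by ring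
    rw [this, inv_neg]
  have hd0 : eps * β * β ^ q ≠ 0 := mul_ne_zero (mul_ne_zero heps0 hβ0) (pow_ne_zero _ hβ0)
  -- families
  let P : Set F := {x | x ^ q = x}
  let A : F → Cfsg.SU n F q := fun s =>
    if hs : s ^ q = s then tvSU hF (eps * s) v hvv (by rw [mul_pow, heps, hs]; ring) else 1
  let B : F → Cfsg.SU n F q := fun s =>
    if hs : s ^ q = s then tvSU hF (s * c0) u huu (by rw [mul_pow, hc0q, hs]; ring) else 1
  have hind : ∀ a b : F, a • v' + b • u = 0 → a = 0 ∧ b = 0 := by
    intro a b hab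
    have e0 := congrFun hab i0
    have e1 := congrFun hab i1
    simp only [hv', hvdef, hudef, Pi.add_apply, Pi.smul_apply, Pi.single_apply, smul_eq_mul,
      if_true, if_neg h01, if_neg h01.symm, Pi.zero_apply, mul_one, mul_zero, add_zero, zero_add,
      one_mul] at e0 e1
    have hb : b * (mu - lam) = 0 := by
      have : b * (mu - lam) = (a * (kp * lam) + b * mu) - lam * (a * kp + b) := by ring
      rw [this, e0, e1]; ring
    have hb0 : b = 0 := (mul_eq_zero.mp hb).resolve_right (sub_ne_zero.mpr hmulam)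
    rw [hb0] at e0
    have : a * kp = 0 := by simpa using e0
    exact ⟨(mul_eq_zero.mp this).resolve_right hkp0, hb0⟩
  obtain ⟨f, h, hne⟩ := exists_not_commute w hw (suRho n F q) v' u hind P
    (fun a ha b hb => by
      show (a * b) ^ q = a * b
      rw [mul_pow, ha, hb]) T (fun x hx => hTfix x hx) (by omega) A B
    (fun s hs => by
      have hs' : s ^ q = s := hs
      simp only [A, dif_pos hs']
      rw [suRho_tvSU, tv_mulVec, tv_mulVec]
      constructor
      · rw [hv', herm_smul_left, hvv]; simp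
      · rw [huv, hv', hkp]
        congr 1
        rw [smul_smul]
        congr 1
        ring)
    (fun s hs => by
      have hs' : s ^ q = s := hs
      simp only [B, dif_pos hs']
      rw [suRho_tvSU, tv_mulVec, tv_mulVec]
      constructor
      · rw [hv', herm_smul_left, ← hβdef, hkp]
        congr 1
        have : s * c0 * (eps * β ^ q * β) = s := by
          rw [hc0]
          field_simp
        rw [this]
      · rw [huu]; simp)
  exact hne ((Subgroup.mem_center_iff.mp (hlaw f) h).symm)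

end Herm

end Cfsg.Agent.Lib.Helper66_LawUnitary
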