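import Mathlib
import Cfsg.Agent.Lib.Helper66_MI_SpDefs
import Cfsg.Agent.Lib.Helper94_MI_SpDecomp
import Cfsg.Agent.Lib.Helper94_MI_SpKiso
import Cfsg.Agent.Lib.Helper10_MISp_KTRANS

set_option autoImplicit false

/-!
# S2141, auxiliary lemmas for the packages O4c2 / O4c3 (helper66): `Sp_4(q)`, the Borel subgroup
`Bo(b) = Stab_K(F b)` of `K = Sp(W)`, `dim W = 2`.
-/

namespace Cfsg.Agent.Lib.Helper66_MISp_O4aux

open Cfsg.Agent.Lib.Helper94_Symp Cfsg.Agent.Lib.Helper94_SympTI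
  Cfsg.Agent.Lib.Helper94_SympPerfect Cfsg.Agent.Lib.Helper66_MI_SpDefs
  Cfsg.Agent.Lib.Helper94_MI_SpDecomp Cfsg.Agent.Lib.Helper94_MI_SpKiso
  Cfsg.Agent.Lib.Helper10_MISp_KTRANS

variable {F V : Type*} [Field F] [AddCommGroup V] [Module F V]
variable (B : LinearMap.BilinForm F V) (hB : B.IsAlt)

include hB in
/-- a partner of `b` inside `W` -/
theorem exists_partner_W (hN : B.Nondegenerate) {v v' : V} (hvv : B v v' = 1) {b : V}
    (hb : b ∈ Wsub B v v') (hb0 : b ≠ 0) : ∃ b' ∈ Wsub B v v', B b b' = 1 := by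
  obtain ⟨x, hx, hxb⟩ := Wsub_nondegOn B hB hN hvv b hb hb0
  have hbx : B b x ≠ 0 := alt_ne_zero_comm B hB hxb
  refine ⟨(B b x)⁻¹ • x, (Wsub B v v').smul_mem _ hx, ?_⟩
  rw [map_smul, smul_eq_mul, inv_mul_cancel₀ hbx]

include hB in
/-- coordinates in the plane `W` (when `dim V = 4`) -/
theorem W_coord [FiniteDimensional F V] {v v' : V} (hvv : B v v' = 1)
    (hdim : Module.finrank F V = 4) {b b' : V} (hb : b ∈ Wsub B v v') (hb' : b' ∈ Wsub B v v')
    (hbb : B b b' = 1) {w : V} (hw : w ∈ Wsub B v v') : w = B w b' • b - B w b • b' := by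
  set W := Wsub B v v' with hW
  set β := B.restrict W with hβ
  have hβalt : β.IsAlt := restrict_isAlt B hB v v'
  set bb : ↥W := ⟨b, hb⟩ with hbbd
  set bb' : ↥W := ⟨b', hb'⟩ with hbb'd
  have hββ : β bb bb' = 1 := hbb
  have h1 := finrank_Wsub_add_two B hB hvv
  have h2 := finrank_Wsub_add_two β hβalt hββ
  rw [hdim, ← hW] at h1
  have h3 : Module.finrank F ↥(Wsub β bb bb') = 0 := by omega
  have h4 : Wsub β bb bb' = ⊥ := Submodule.finrank_eq_zero.mp h3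
  have h5 : piV β bb bb' ⟨w, hw⟩ ∈ Wsub β bb bb' := piV_mem β hβalt hββ _
  rw [h4, Submodule.mem_bot, piV_apply] at h5
  have h6 := congrArg (Subtype.val : ↥W → V) h5
  simp only [Submodule.coe_add, Submodule.coe_sub, Submodule.coe_smul, Submodule.coe_zero] at h6
  have e1 : β ⟨w, hw⟩ bb' = B w b' := rfl
  have e2 : β ⟨w, hw⟩ bb = B w b := rfl
  rw [e1, e2] at h6
  have h7 : w = B w b' • b - B w b • b' := by
    have : w - B w b' • b + B w b • b' = 0 := h6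
    calc w = (w - B w b' • b + B w b • b') + (B w b' • b - B w b • b') := by abel
      _ = B w b' • b - B w b • b' := by rw [this, zero_add]
  exact h7

/-- the Borel subgroup `Bo(b) = Stab_K(F b)` -/
def Bo (v v' b : V) : Subgroup (V ≃ₗ[F] V) where
  carrier := {k | k ∈ Kv B v v' ∧ ∃ c : F, c ≠ 0 ∧ k b = c • b}
  mul_mem' := by
    rintro x y ⟨hx, c, hc, hxb⟩ ⟨hy, d, hd, hyb⟩
    refine ⟨(Kv B v v').mul_mem hx hy, d * c, mul_ne_zero hd hc, ?_⟩
    rw [LinearEquiv.mul_apply, hyb, map_smul, hxb, smul_smul]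
  one_mem' := ⟨(Kv B v v').one_mem, 1, one_ne_zero, by simp⟩
  inv_mem' := by
    rintro x ⟨hx, c, hc, hxb⟩
    refine ⟨(Kv B v v').inv_mem hx, c⁻¹, inv_ne_zero hc, ?_⟩
    have h1 : x⁻¹ (x b) = b := inv_apply_apply' x b
    rw [hxb, map_smul] at h1
    calc x⁻¹ b = c⁻¹ • (c • x⁻¹ b) := by rw [smul_smul, inv_mul_cancel₀ hc, one_smul]
      _ = c⁻¹ • b := by rw [h1]

theorem mem_Bo {v v' b : V} {k : V ≃ₗ[F] V} :
    k ∈ Bo B v v' b ↔ k ∈ Kv B v v' ∧ ∃ c : F, c ≠ 0 ∧ k b = c • b := Iff.rfl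

theorem mem_Bo_of_smul {v v' b : V} (hb0 : b ≠ 0) {k : V ≃ₗ[F] V} (hk : k ∈ Kv B v v') {c : F}
    (h : k b = c • b) : k ∈ Bo B v v' b := by
  refine ⟨hk, c, ?_, h⟩
  rintro rfl
  rw [zero_smul] at h
  exact hb0 (k.map_eq_zero_iff.mp h)

include hB in
/-- the action of `k ∈ Bo(b)` on `b'` -/
theorem Bo_apply_partner [FiniteDimensional F V] {v v' : V} (hvv : B v v' = 1)
    (hdim : Module.finrank F V = 4) {b b' : V} (hb : b ∈ Wsub B v v') (hb' : b' ∈ Wsub B v v')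
    (hbb : B b b' = 1) {k : V ≃ₗ[F] V} (hk : k ∈ Kv B v v') {c : F} (hc : c ≠ 0)
    (hkb : k b = c • b) : k b' = B (k b') b' • b + c⁻¹ • b' := by
  have hkb'W : k b' ∈ Wsub B v v' := Kv_map_mem B hk hb'
  have h1 := W_coord B hB hvv hdim hb hb' hbb hkb'W
  have h2 : B (k b') b = -c⁻¹ := by
    have h3 : B (k b') (k b) = B b' b := hk.1 b' b
    rw [hkb, map_smul, smul_eq_mul] at h3
    have h4 : B b' b = -1 := by rw [alt_swap B hB, hbb]
    rw [h4] at h3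
    field_simp
    linear_combination h3
  rw [h2, neg_smul, sub_neg_eq_add] at h1
  exact h1

include hB in
/-- an element of `Bo(b)` is determined by `(B (k b) b', B (k b') b')` -/
theorem Bo_inj [FiniteDimensional F V] {v v' : V} (hvv : B v v' = 1)
    (hdim : Module.finrank F V = 4) {b b' : V} (hb : b ∈ Wsub B v v') (hb' : b' ∈ Wsub B v v')
    (hbb : B b b' = 1) {k k' : V ≃ₗ[F] V} (hk : k ∈ Bo B v v' b) (hk' : k' ∈ Bo B v v' b)
    (h1 : B (k b) b' = B (k' b) b') (h2 : B (k b') b' = B (k' b') b') : k = k' := by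
  obtain ⟨hkK, c, hc, hkb⟩ := hk
  obtain ⟨hkK', c', hc', hkb'⟩ := hk'
  have hcc : c = c' := by
    rw [hkb, hkb', map_smul, map_smul, LinearMap.smul_apply, LinearMap.smul_apply, hbb] at h1
    simpa using h1
  subst hcc
  have e1 : k b = k' b := by rw [hkb, hkb']
  have e2 : k b' = k' b' := by
    rw [Bo_apply_partner B hB hvv hdim hb hb' hbb hkK hc hkb,
      Bo_apply_partner B hB hvv hdim hb hb' hbb hkK' hc hkb', h2]
  apply eq_of_agree B hB hvv
  · rw [hkK.2.1, hkK'.2.1]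
  · rw [hkK.2.2, hkK'.2.2]
  · intro w hw
    rw [W_coord B hB hvv hdim hb hb' hbb hw, map_sub, map_smul, map_smul, map_sub, map_smul,
      map_smul, e1, e2]

include hB in
/-- counting: a subset of `Bo(b)` whose eigenvalues on `b` lie in a finite set `Σ` has at most
`|Σ| q` elements -/
theorem card_le_of_eigen [Finite F] [FiniteDimensional F V] {v v' : V} (hvv : B v v' = 1)
    (hdim : Module.finrank F V = 4) {b b' : V} (hb : b ∈ Wsub B v v') (hb' : b' ∈ Wsub B v v')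
    (hbb : B b b' = 1) (K' : Subgroup (V ≃ₗ[F] V)) (hK' : K' ≤ Bo B v v' b) (Sg : Set F)
    (hSg : ∀ k ∈ K', B (k b) b' ∈ Sg) : Nat.card K' ≤ Nat.card Sg * Nat.card F := by
  rw [← Nat.card_prod]
  apply Nat.card_le_card_of_injective
    (fun k : ↥K' => ((⟨B ((k : V ≃ₗ[F] V) b) b', hSg k k.2⟩ : ↥Sg), B ((k : V ≃ₗ[F] V) b') b'))
  intro k k' h
  have h1 : B ((k : V ≃ₗ[F] V) b) b' = B ((k' : V ≃ₗ[F] V) b) b' :=
    congrArg (fun p : ↥Sg × F => (p.1 : F)) h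
  have h2 : B ((k : V ≃ₗ[F] V) b') b' = B ((k' : V ≃ₗ[F] V) b') b' :=
    congrArg (fun p : ↥Sg × F => p.2) h
  exact Subtype.ext (Bo_inj B hB hvv hdim hb hb' hbb (hK' k.2) (hK' k'.2) h1 h2)

/-- `Npts 2 q = (q + 1)(q² + 1)` -/
theorem Npts_two {q : ℕ} (hq : 2 ≤ q) : Npts 2 q = (q + 1) * (q ^ 2 + 1) := by
  unfold Npts
  have h1 : q ^ (2 * 2) - 1 = (q + 1) * (q ^ 2 + 1) * (q - 1) := by
    obtain ⟨k, rfl⟩ : ∃ k, q = k + 1 := ⟨q - 1, by omega⟩
    simp only [Nat.add_sub_cancel]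
    have : (k + 1) ^ (2 * 2) = (k + 1 + 1) * ((k + 1) ^ 2 + 1) * k + 1 := by ring
    rw [this, Nat.add_sub_cancel]
  rw [h1, Nat.mul_div_cancel _ (by omega)]

end Cfsg.Agent.Lib.Helper66_MISp_O4aux
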