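import Mathlib
import Cfsg.Agent.Lib.Helper66_MI_SpDefs
import Cfsg.Agent.Lib.Helper66_MISp_LOCAL
import Cfsg.Agent.Lib.Helper66_MISp_O4aux
import Cfsg.Agent.Lib.Helper32_MISp_L1
import Cfsg.Agent.Lib.Helper69_MISp_E2
import Cfsg.Agent.Lib.Helper70_MISp_O1

set_option autoImplicit false

/-!
# S2141 packages O4c2, O4c3 (helper66), in the form with `|K| = q (q² - 1)` as a hypothesis
-/

namespace Cfsg.Agent.Lib.Helper66_MISp_O4c

open Cfsg.Agent.Lib.Helper94_Symp Cfsg.Agent.Lib.Helper94_SympTI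
  Cfsg.Agent.Lib.Helper94_SympPerfect Cfsg.Agent.Lib.Helper66_MI_SpDefs
  Cfsg.Agent.Lib.Helper94_MI_SpDecomp Cfsg.Agent.Lib.Helper94_MI_SpKiso
  Cfsg.Agent.Lib.Helper10_MISp_KTRANS Cfsg.Agent.Lib.Helper66_MISp_LOCAL
  Cfsg.Agent.Lib.Helper66_MISp_O4aux Cfsg.Agent.Lib.Helper32_MISp_L1
  Cfsg.Agent.Lib.Helper69_MISp_E2 Cfsg.Agent.Lib.Helper70_MISp_O1

variable {F V : Type*} [Field F] [AddCommGroup V] [Module F V]
variable (B : LinearMap.BilinForm F V)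

theorem Zv_ne_top {hB : B.IsAlt} {H : Subgroup (V ≃ₗ[F] V)} (hNR : NoRoot B hB H) {v : V}
    (hv : v ≠ 0) : Zv B hB H v ≠ ⊤ := by
  intro h
  apply hNR v hv
  rintro _ ⟨t, rfl⟩
  have : t ∈ Zv B hB H v := by rw [h]; trivial
  exact this

/-- the numerical core of (L0) for `m = 2`:
`q⁴ (q-1)² (q+1) ≤ n |Bbar| |Z| |T_1| |K_H|` -/
theorem L0_two [Finite F] [FiniteDimensional F V] {q : ℕ} (S : Setting B 2 q)
    {v v' : V} (hvv : B v v' = 1) {H : Subgroup (V ≃ₗ[F] V)} (hH : H ≤ isoGroup B)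
    (hcardK : Nat.card (Kv B v v') = q * (q ^ 2 - 1)) :
    q ^ 2 * q * ((q - 1) * (q * (q ^ 2 - 1))) ≤
      H.relIndex (isoGroup B) *
        (Nat.card (Bbar B S.alt H v v') * Nat.card (Zv B S.alt H v) * Nat.card (T1 B H v v') *
          Nat.card (KH B H v v')) := by
  have h := L0 B S.alt hvv hH
  rw [card_Wsub B S.alt S hvv, S.card, hcardK] at h
  exact h

/-- arithmetic for (c2) -/
theorem arith_c2 (P g n a z t k : ℕ) (hP : 4 ≤ P) (hg : 1 ≤ g)
    (h0 : (P + 1) ^ 2 * (P + 1) * (P * ((P + 1) * (P * (P + 2)))) ≤ n * (a * z * t * k))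
    (ha : a * (g + 1) ≤ P + 1) (hz : 3 * z ≤ P + 1) (ht : t ≤ P) (hk : k ≤ g * (P + 1))
    (hn : n < (P + 2) * ((P + 1) ^ 2 + 1)) : False := by
  have h1 : (a * (g + 1)) * (3 * z) * t * k ≤ (P + 1) * (P + 1) * P * (g * (P + 1)) :=
    Nat.mul_le_mul (Nat.mul_le_mul (Nat.mul_le_mul ha hz) ht) hk
  have h2 : 3 * (g + 1) * ((P + 1) ^ 2 * (P + 1) * (P * ((P + 1) * (P * (P + 2))))) ≤
      n * ((P + 1) * (P + 1) * P * (g * (P + 1))) := by
    calc 3 * (g + 1) * ((P + 1) ^ 2 * (P + 1) * (P * ((P + 1) * (P * (P + 2)))))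
        ≤ 3 * (g + 1) * (n * (a * z * t * k)) := Nat.mul_le_mul_left _ h0
      _ = n * ((a * (g + 1)) * (3 * z) * t * k) := by ring
      _ ≤ n * ((P + 1) * (P + 1) * P * (g * (P + 1))) := Nat.mul_le_mul_left _ h1
  have h3 : ((P + 1) ^ 3 * P) * (3 * (g + 1) * ((P + 1) * P * (P + 2))) ≤
      ((P + 1) ^ 3 * P) * (n * g) := by
    calc ((P + 1) ^ 3 * P) * (3 * (g + 1) * ((P + 1) * P * (P + 2)))
        = 3 * (g + 1) * ((P + 1) ^ 2 * (P + 1) * (P * ((P + 1) * (P * (P + 2))))) := by ring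
      _ ≤ n * ((P + 1) * (P + 1) * P * (g * (P + 1))) := h2
      _ = ((P + 1) ^ 3 * P) * (n * g) := by ring
  have hpos : 0 < (P + 1) ^ 3 * P := by positivity
  have h4 : 3 * (g + 1) * ((P + 1) * P * (P + 2)) ≤ n * g := Nat.le_of_mul_le_mul_left h3 hpos
  have h5 : n * g < (P + 2) * ((P + 1) ^ 2 + 1) * g := Nat.mul_lt_mul_of_pos_right hn (by omega)
  nlinarith [Nat.zero_le (P * g), Nat.zero_le (P * P * g)]

/-- arithmetic for (c3), `Z = 0` -/
theorem arith_c3a (P n a t k : ℕ) (hP : 4 ≤ P)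
    (h0 : (P + 1) ^ 2 * (P + 1) * (P * ((P + 1) * (P * (P + 2)))) ≤ n * (a * 1 * t * k))
    (ha : a ≤ P + 1) (ht : t ≤ P) (hk : 2 * k ≤ P * (P + 1))
    (hn : n < (P + 2) * ((P + 1) ^ 2 + 1)) : False := by
  have h1 : a * t * (2 * k) ≤ (P + 1) * P * (P * (P + 1)) :=
    Nat.mul_le_mul (Nat.mul_le_mul ha ht) hk
  have h2 : 2 * ((P + 1) ^ 2 * (P + 1) * (P * ((P + 1) * (P * (P + 2))))) ≤
      n * ((P + 1) * P * (P * (P + 1))) := by
    calc 2 * ((P + 1) ^ 2 * (P + 1) * (P * ((P + 1) * (P * (P + 2)))))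
        ≤ 2 * (n * (a * 1 * t * k)) := Nat.mul_le_mul_left _ h0
      _ = n * (a * t * (2 * k)) := by ring
      _ ≤ n * ((P + 1) * P * (P * (P + 1))) := Nat.mul_le_mul_left _ h1
  have h3 : ((P + 1) ^ 2 * P ^ 2) * (2 * ((P + 1) ^ 2 * (P + 2))) ≤ ((P + 1) ^ 2 * P ^ 2) * n := by
    calc ((P + 1) ^ 2 * P ^ 2) * (2 * ((P + 1) ^ 2 * (P + 2)))
        = 2 * ((P + 1) ^ 2 * (P + 1) * (P * ((P + 1) * (P * (P + 2))))) := by ring
      _ ≤ n * ((P + 1) * P * (P * (P + 1))) := h2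
      _ = ((P + 1) ^ 2 * P ^ 2) * n := by ring
  have hpos : 0 < (P + 1) ^ 2 * P ^ 2 := by positivity
  have h4 : 2 * ((P + 1) ^ 2 * (P + 2)) ≤ n := Nat.le_of_mul_le_mul_left h3 hpos
  nlinarith

/-- arithmetic for (c3), `Z ≠ 0` -/
theorem arith_c3b (P g n a z t k : ℕ) (hP : 4 ≤ P) (hg : 1 ≤ g)
    (h0 : (P + 1) ^ 2 * (P + 1) * (P * ((P + 1) * (P * (P + 2)))) ≤ n * (a * z * t * k))
    (ha : a ≤ P + 1) (hz : z * (g + 1) ≤ P + 1) (ht : t ≤ 2 * g) (hff : (g + 1) * (g + 1) ≤ P + 1)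
    (hk : 2 * k ≤ P * (P + 1)) (hn : n < (P + 2) * ((P + 1) ^ 2 + 1)) : False := by
  have h1 : a * (z * (g + 1)) * t * (2 * k) ≤ (P + 1) * (P + 1) * (2 * g) * (P * (P + 1)) :=
    Nat.mul_le_mul (Nat.mul_le_mul (Nat.mul_le_mul ha hz) ht) hk
  have h2 : 2 * (g + 1) * ((P + 1) ^ 2 * (P + 1) * (P * ((P + 1) * (P * (P + 2))))) ≤
      n * ((P + 1) * (P + 1) * (2 * g) * (P * (P + 1))) := by
    calc 2 * (g + 1) * ((P + 1) ^ 2 * (P + 1) * (P * ((P + 1) * (P * (P + 2)))))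
        ≤ 2 * (g + 1) * (n * (a * z * t * k)) := Nat.mul_le_mul_left _ h0
      _ = n * (a * (z * (g + 1)) * t * (2 * k)) := by ring
      _ ≤ n * ((P + 1) * (P + 1) * (2 * g) * (P * (P + 1))) := Nat.mul_le_mul_left _ h1
  have h3 : (2 * (P + 1) ^ 3 * P) * ((g + 1) * ((P + 1) * P * (P + 2))) ≤
      (2 * (P + 1) ^ 3 * P) * (n * g) := by
    calc (2 * (P + 1) ^ 3 * P) * ((g + 1) * ((P + 1) * P * (P + 2)))
        = 2 * (g + 1) * ((P + 1) ^ 2 * (P + 1) * (P * ((P + 1) * (P * (P + 2))))) := by ring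
      _ ≤ n * ((P + 1) * (P + 1) * (2 * g) * (P * (P + 1))) := h2
      _ = (2 * (P + 1) ^ 3 * P) * (n * g) := by ring
  have hpos : 0 < 2 * (P + 1) ^ 3 * P := by positivity
  have h4 : (g + 1) * ((P + 1) * P * (P + 2)) ≤ n * g := Nat.le_of_mul_le_mul_left h3 hpos
  have h5 : n * g < (P + 2) * ((P + 1) ^ 2 + 1) * g := Nat.mul_lt_mul_of_pos_right hn (by omega)
  -- so `(g+1)(P+1)P < ((P+1)² + 1) g`, i.e. `(P+1) P < g (P+2)`, hence `g ≥ P`
  have h6 : (g + 1) * ((P + 1) * P) * (P + 2) < ((P + 1) ^ 2 + 1) * g * (P + 2) := by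
    calc (g + 1) * ((P + 1) * P) * (P + 2) = (g + 1) * ((P + 1) * P * (P + 2)) := by ring
      _ ≤ n * g := h4
      _ < (P + 2) * ((P + 1) ^ 2 + 1) * g := h5
      _ = ((P + 1) ^ 2 + 1) * g * (P + 2) := by ring
  have h7 : (g + 1) * ((P + 1) * P) < ((P + 1) ^ 2 + 1) * g := Nat.lt_of_mul_lt_mul_right h6
  have h8 : P ≤ g := by
    by_contra hlt
    push Not at hlt
    nlinarith
  nlinarith

/-- a proper subgroup has at most half the order -/
theorem two_mul_card_le_of_lt {G : Type*} [Group G] [Finite G] {A C : Subgroup G} (hAC : A ≤ C)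
    (hne : A ≠ C) : 2 * Nat.card A ≤ Nat.card C := by
  have h := Subgroup.card_mul_index (A.subgroupOf C)
  have e : Nat.card ↥(A.subgroupOf C) = Nat.card ↥A :=
    Nat.card_congr (Subgroup.subgroupOfEquivOfLe hAC).toEquiv
  rw [e] at h
  have hidx : (A.subgroupOf C).index ≠ 1 := by
    intro h1
    rw [Subgroup.index_eq_one, Subgroup.subgroupOf_eq_top] at h1
    exact hne (le_antisymm hAC h1)
  have hidx0 : (A.subgroupOf C).index ≠ 0 := Subgroup.index_ne_zero_of_finite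
  have h2 : 2 ≤ (A.subgroupOf C).index := by omega
  calc 2 * Nat.card A = Nat.card A * 2 := by ring
    _ ≤ Nat.card A * (A.subgroupOf C).index := Nat.mul_le_mul_left _ h2
    _ = Nat.card C := h

theorem finite_linearEquiv [Finite F] [FiniteDimensional F V] : Finite (V ≃ₗ[F] V) := by
  haveI : Finite V := Module.finite_of_finite F
  exact Finite.of_injective (fun g : V ≃ₗ[F] V => (g : V → V))
    (fun g g' h => LinearEquiv.ext (congrFun h))

/-- `K_H ≤ Bo(b)` when `Bbar ⊆ F b` -/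
theorem KH_le_Bo {hB : B.IsAlt} {v v' : V} (hvv : B v v' = 1) {H : Subgroup (V ≃ₗ[F] V)} {b : V}
    (hb : b ∈ Bbar B hB H v v') (hb0 : b ≠ 0)
    (hsub : ∀ w ∈ Bbar B hB H v v', ∃ c : F, w = c • b) :
    KH B H v v' ≤ Bo B v v' b := by
  intro k hk
  obtain ⟨c, hc⟩ := hsub _ (KH_Bbar B hB hvv hk hb)
  exact mem_Bo_of_smul B hb0 hk.2 hc

theorem card_ne_zero_set [Finite F] : Nat.card {x : F | x ≠ 0} = Nat.card F - 1 := by
  rw [← Nat.card_units]
  exact Nat.card_congr (unitsEquivNeZero (G₀ := F)).symm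

/-- (c2), with `|K| = q (q² - 1)` as a hypothesis -/
theorem O4c2_of [Finite F] [FiniteDimensional F V] {q : ℕ} (S : Setting B 2 q) (h2 : (2 : F) ≠ 0)
    (hq : 5 ≤ q) {v v' : V} (hvv : B v v' = 1) {H : Subgroup (V ≃ₗ[F] V)}
    (hH : Small B S.alt (Npts 2 q) H) (h0 : q ^ 2 * q * ((q - 1) * (q * (q ^ 2 - 1))) ≤
      H.relIndex (isoGroup B) *
        (Nat.card (Bbar B S.alt H v v') * Nat.card (Zv B S.alt H v) * Nat.card (T1 B H v v') *
          Nat.card (KH B H v v')))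
    {b : V} (hb : b ∈ Bbar B S.alt H v v') (hb0 : b ≠ 0)
    (hsub : ∀ w ∈ Bbar B S.alt H v v', ∃ c : F, w = c • b) (c : F) :
    c • b ∈ Bbar B S.alt H v v' := by
  classical
  have hB := S.alt
  have hv0 : v ≠ 0 := ne_zero_of_hyp B hvv
  have hZtop : Zv B S.alt H v ≠ ⊤ := Zv_ne_top B hH.noRoot hv0
  obtain ⟨-, -, hz3⟩ := O1 B S h2 hvv hZtop
  have hbW : b ∈ Wsub B v v' := hb.1
  obtain ⟨b', hb'W, hbb⟩ := exists_partner_W B hB S.nondeg hvv hbW hb0
  have hdim : Module.finrank F V = 4 := by rw [S.dim]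
  by_contra hc
  -- the additive subgroup `B' = {c : c • b ∈ Bbar}`
  set B' : AddSubgroup F :=
    (Bbar B S.alt H v v').comap (LinearMap.toSpanSingleton F V b).toAddMonoidHom with hB'
  have hmemB' : ∀ x : F, x ∈ B' ↔ x • b ∈ Bbar B S.alt H v v' := by
    intro x
    rw [hB', AddSubgroup.mem_comap]
    simp [LinearMap.toSpanSingleton_apply]
  have hB'top : B' ≠ ⊤ := by
    intro h
    apply hc
    rw [← hmemB', h]
    trivial
  have hf2 := two_le_card_mult B'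
  have haf := card_mul_card_mult_le hB'top
  rw [S.card] at haf
  -- `|Bbar| ≤ |B'|`
  have hcardB : Nat.card (Bbar B S.alt H v v') ≤ Nat.card B' := by
    apply Nat.card_le_card_of_surjective
      (fun x : ↥B' => (⟨(x : F) • b, (hmemB' x).1 x.2⟩ : ↥(Bbar B S.alt H v v')))
    rintro ⟨w, hw⟩
    obtain ⟨x, rfl⟩ := hsub w hw
    exact ⟨⟨x, (hmemB' x).2 hw⟩, rfl⟩
  -- eigenvalues of `K_H`
  have hKHBo : KH B H v v' ≤ Bo B v v' b := KH_le_Bo B hvv hb hb0 hsub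
  set Sg : Set F := {x | x ∈ mult B' ∧ x ≠ 0} with hSg
  have heig : ∀ k ∈ KH B H v v', B (k b) b' ∈ Sg := by
    intro k hk
    obtain ⟨c1, hc1⟩ := hsub _ (KH_Bbar B hB hvv hk hb)
    have hval : B (k b) b' = c1 := by
      rw [hc1, map_smul, LinearMap.smul_apply, hbb, smul_eq_mul, mul_one]
    rw [hval]
    refine ⟨?_, ?_⟩
    · intro z hz
      rw [hmemB'] at hz ⊢
      have h3 := KH_Bbar B hB hvv hk hz
      rw [map_smul, hc1, smul_smul, mul_comm] at h3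
      exact h3
    · rintro rfl
      rw [zero_smul] at hc1
      exact hb0 (k.map_eq_zero_iff.mp hc1)
  have hcardSg : Nat.card Sg ≤ Nat.card (mult B') - 1 := by
    have h1 : Sg = ((mult B' : Set F) \ {0}) := by
      ext x
      simp [hSg]
    have h2' : Nat.card Sg = Set.ncard Sg := Nat.card_coe_set_eq Sg
    have h3 : Nat.card (mult B') = Set.ncard (mult B' : Set F) :=
      Nat.card_coe_set_eq (mult B' : Set F)
    rw [h2', h3, h1, Set.ncard_sdiff_singleton_of_mem (mult B').zero_mem]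
  have hcardKH : Nat.card (KH B H v v') ≤ (Nat.card (mult B') - 1) * q := by
    have h1 := card_le_of_eigen B hB hvv hdim hbW hb'W hbb (KH B H v v') hKHBo Sg heig
    rw [S.card] at h1
    exact le_trans h1 (Nat.mul_le_mul_right _ hcardSg)
  have ht := card_T1_le B H v v'
  rw [S.card] at ht
  have hn := hH.idx
  rw [Npts_two (by omega)] at hn
  obtain ⟨P, rfl⟩ : ∃ P, q = P + 1 := ⟨q - 1, by omega⟩
  obtain ⟨g, hg⟩ : ∃ g, Nat.card (mult B') = g + 1 := ⟨Nat.card (mult B') - 1, by omega⟩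
  rw [hg] at haf hcardKH
  have e1 : (P + 1) ^ 2 - 1 = P * (P + 2) := by
    have : (P + 1) ^ 2 = P * (P + 2) + 1 := by ring
    rw [this, Nat.add_sub_cancel]
  rw [e1, Nat.add_sub_cancel] at h0
  rw [Nat.add_sub_cancel] at ht hcardKH
  have hP2 : P + 1 + 1 = P + 2 := rfl
  rw [hP2] at hn
  exact arith_c2 P g _ _ _ _ _ (by omega) (by omega) h0
    (le_trans (Nat.mul_le_mul_right _ hcardB) haf) hz3 ht hcardKH hn

/-- (c3), with the numerical form of (L0) as a hypothesis -/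
theorem O4c3_of [Finite F] [FiniteDimensional F V] {q : ℕ} (S : Setting B 2 q) (h2 : (2 : F) ≠ 0)
    (hq : 5 ≤ q) {v v' : V} (hvv : B v v' = 1) {H : Subgroup (V ≃ₗ[F] V)}
    (hH : Small B S.alt (Npts 2 q) H) (h0 : q ^ 2 * q * ((q - 1) * (q * (q ^ 2 - 1))) ≤
      H.relIndex (isoGroup B) *
        (Nat.card (Bbar B S.alt H v v') * Nat.card (Zv B S.alt H v) * Nat.card (T1 B H v v') *
          Nat.card (KH B H v v')))
    {b : V} (hbW : b ∈ Wsub B v v') (hb0 : b ≠ 0)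
    (hBbar : ∀ w, w ∈ Bbar B S.alt H v v' ↔ ∃ c : F, w = c • b) :
    ∀ k ∈ Kv B v v', (∃ c : F, k b = c • b) → k ∈ Dbar B H v v' := by
  classical
  have hB := S.alt
  haveI : Finite (V ≃ₗ[F] V) := finite_linearEquiv
  have hv0 : v ≠ 0 := ne_zero_of_hyp B hvv
  have hZtop : Zv B S.alt H v ≠ ⊤ := Zv_ne_top B hH.noRoot hv0
  obtain ⟨-, hsq, hz3⟩ := O1 B S h2 hvv hZtop
  obtain ⟨b', hb'W, hbb⟩ := exists_partner_W B hB S.nondeg hvv hbW hb0
  have hdim : Module.finrank F V = 4 := by rw [S.dim]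
  have hb : b ∈ Bbar B S.alt H v v' := (hBbar b).2 ⟨1, by rw [one_smul]⟩
  have hsub : ∀ w ∈ Bbar B S.alt H v v', ∃ c : F, w = c • b := fun w hw => (hBbar w).1 hw
  intro k0 hk0 hk0b
  by_contra hk0D
  obtain ⟨c0, hc0⟩ := hk0b
  have hk0Bo : k0 ∈ Bo B v v' b := mem_Bo_of_smul B hb0 hk0 hc0
  have hKHBo : KH B H v v' ≤ Bo B v v' b := KH_le_Bo B hvv hb hb0 hsub
  have hne : KH B H v v' ≠ Bo B v v' b := by
    intro h
    apply hk0D
    have : k0 ∈ KH B H v v' := by rw [h]; exact hk0Bo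
    exact this.1
  have h2k : 2 * Nat.card (KH B H v v') ≤ Nat.card (Bo B v v' b) :=
    two_mul_card_le_of_lt hKHBo hne
  have hBo : Nat.card (Bo B v v' b) ≤ (q - 1) * q := by
    have h1 := card_le_of_eigen B hB hvv hdim hbW hb'W hbb (Bo B v v' b) le_rfl {x | x ≠ 0}
      (by
        intro k hk
        obtain ⟨-, c1, hc1, hkb⟩ := hk
        show B (k b) b' ≠ 0
        rw [hkb, map_smul, LinearMap.smul_apply, hbb, smul_eq_mul, mul_one]
        exact hc1)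
    rw [card_ne_zero_set, S.card] at h1
    exact h1
  have ht := card_T1_le B H v v'
  rw [S.card] at ht
  have hn := hH.idx
  rw [Npts_two (by omega)] at hn
  have hW : Nat.card (Wsub B v v') = q ^ 2 := by
    rw [card_Wsub B hB S hvv]
  have ha : Nat.card (Bbar B S.alt H v v') ≤ q := by
    rw [hW] at hsq
    exact (Nat.pow_le_pow_iff_left (by norm_num : (2 : ℕ) ≠ 0)).mp hsq
  obtain ⟨P, rfl⟩ : ∃ P, q = P + 1 := ⟨q - 1, by omega⟩
  have e1 : (P + 1) ^ 2 - 1 = P * (P + 2) := by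
    have : (P + 1) ^ 2 = P * (P + 2) + 1 := by ring
    rw [this, Nat.add_sub_cancel]
  rw [e1, Nat.add_sub_cancel] at h0
  rw [Nat.add_sub_cancel] at ht hBo
  have hP2 : P + 1 + 1 = P + 2 := rfl
  rw [hP2] at hn
  have hk : 2 * Nat.card (KH B H v v') ≤ P * (P + 1) := le_trans h2k hBo
  by_cases hZ0 : Zv B S.alt H v = ⊥
  · have hz1 : Nat.card (Zv B S.alt H v) = 1 := by
      rw [hZ0]
      exact AddSubgroup.card_bot
    rw [hz1] at h0
    exact arith_c3a P _ _ _ _ (by omega) h0 ha ht hk hn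
  · obtain ⟨f, hf2, hff, htf, hzf⟩ := torus_ineq (Zv B S.alt H v) hZtop hZ0 (T1 B H v v')
      (fun c hc z hz => T1_Zv B hB hvv hc hz)
    rw [S.card] at hff hzf
    obtain ⟨g, rfl⟩ : ∃ g, f = g + 1 := ⟨f - 1, by omega⟩
    rw [Nat.add_sub_cancel] at htf
    exact arith_c3b P g _ _ _ _ _ (by omega) (by omega) h0 ha hzf htf hff hk hn

end Cfsg.Agent.Lib.Helper66_MISp_O4c
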