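import Mathlib
import Cfsg.Agent.Lib.Helper66_MI_SpDefs
import Cfsg.Agent.Lib.Helper94_MI_SpDecomp
import Cfsg.Agent.Lib.Helper94_MI_SpKiso
import Cfsg.Agent.Lib.Helper10_MISp_KTRANS
import Cfsg.Agent.Lib.Helper32_MISp_L1
import Cfsg.Agent.Lib.Helper66_MISp_LOCAL
import Cfsg.Agent.Lib.Helper70_MISp_O1

set_option autoImplicit false
set_option linter.style.haveILetI false
set_option linter.unusedSimpArgs false
set_option linter.unusedVariables false

/-!
# S2141 package O4c1 (architect helper66): `Sp_4(q)`, `q ≥ 5` odd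

`Bbar` does not contain two `F`-independent vectors `b, b2`: otherwise `2 B(b, b2) ∈ Z ∖ 0`, so
`2 ≤ |Z| ≤ q / 3`; the map `Dbar → Bbar × Bbar`, `l ↦ (c l b, c l b2)` (`c` the eigenvalue of `l` on
`v`) has fibres of size `≤ 2`, so `|Dbar| ≤ 2 |Bbar|² ≤ 2 q²`; `|K| ≥ q (q² - 1)` (transitivity on
`W ∖ 0` and the root group `X_b`); then (L0) gives `2 n ≥ 3 (q - 1)(q² - 1)`, impossible for
`n < (q + 1)(q² + 1)`, `q ≥ 6`.
-/

namespace Cfsg.Agent.Lib.Helper70_MISp_O4c1

open Cfsg.Agent.Lib.Helper94_Symp Cfsg.Agent.Lib.Helper94_SympTI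
  Cfsg.Agent.Lib.Helper94_SympPerfect Cfsg.Agent.Lib.Helper66_MI_SpDefs
  Cfsg.Agent.Lib.Helper94_MI_SpKiso Cfsg.Agent.Lib.Helper94_MI_SpDecomp
  Cfsg.Agent.Lib.Helper10_MISp_KTRANS Cfsg.Agent.Lib.Helper32_MISp_L1
  Cfsg.Agent.Lib.Helper66_MISp_LOCAL

variable {F V : Type*} [Field F] [AddCommGroup V] [Module F V]
variable (B : LinearMap.BilinForm F V) (hB : B.IsAlt)

/-- a map whose fibres have at most two elements -/
theorem card_le_two_mul {α β : Type*} [Finite α] [Finite β] (f : α → β)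
    (h : ∀ a b c : α, f a = f b → f a = f c → a = b ∨ a = c ∨ b = c) :
    Nat.card α ≤ 2 * Nat.card β := by
  classical
  haveI := Fintype.ofFinite α
  haveI := Fintype.ofFinite β
  rw [Nat.card_eq_fintype_card, Nat.card_eq_fintype_card]
  have h1 : (Finset.univ : Finset α).card ≤ 2 * ((Finset.univ : Finset α).image f).card := by
    apply Finset.card_le_mul_card_image
    intro y _
    by_contra hlt
    push Not at hlt
    obtain ⟨a, ha, b, hb, c, hc, hab, hac, hbc⟩ := Finset.two_lt_card.mp hlt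
    simp only [Finset.mem_filter, Finset.mem_univ, true_and] at ha hb hc
    rcases h a b c (ha.trans hb.symm) (ha.trans hc.symm) with h | h | h
    exacts [hab h, hac h, hbc h]
  calc Fintype.card α = (Finset.univ : Finset α).card := Finset.card_univ.symm
    _ ≤ 2 * ((Finset.univ : Finset α).image f).card := h1
    _ ≤ 2 * Fintype.card β := Nat.mul_le_mul_left _ (Finset.card_le_univ _)

include hB in
/-- in a 2-dimensional `W`, the vectors of `W` perpendicular to `b ≠ 0` are the multiples of `b` -/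
theorem ker_line [FiniteDimensional F V] (hN : B.Nondegenerate) {v v' : V} (hvv : B v v' = 1)
    (hdim : Module.finrank F V = 4) {b : V} (hbW : b ∈ Wsub B v v') (hb0 : b ≠ 0)
    {w : V} (hwW : w ∈ Wsub B v v') (hbw : B b w = 0) : ∃ c : F, w = c • b := by
  have hW2 : Module.finrank F (Wsub B v v') = 2 := by
    have := finrank_Wsub_add_two B hB hvv
    omega
  let f : Module.Dual F (Wsub B v v') := (B b).domRestrict (Wsub B v v')
  have hf_apply : ∀ x : Wsub B v v', f x = B b x := fun x => rfl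
  have hf : f ≠ 0 := by
    obtain ⟨x, hxW, hx⟩ := Wsub_nondegOn B hB hN hvv b hbW hb0
    intro h0
    apply hx
    have h1 : f ⟨x, hxW⟩ = 0 := by rw [h0]; rfl
    rw [hf_apply] at h1
    rw [alt_swap B hB, h1, neg_zero]
  have hker := Module.Dual.finrank_ker_add_one_of_ne_zero hf
  have hk1 : Module.finrank F (LinearMap.ker f) = 1 := by omega
  have hbk : (⟨b, hbW⟩ : Wsub B v v') ∈ LinearMap.ker f := by
    rw [LinearMap.mem_ker, hf_apply]
    exact hB b
  have hwk : (⟨w, hwW⟩ : Wsub B v v') ∈ LinearMap.ker f := by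
    rw [LinearMap.mem_ker, hf_apply]
    exact hbw
  have hne : (⟨⟨b, hbW⟩, hbk⟩ : LinearMap.ker f) ≠ 0 := by
    intro h
    apply hb0
    have := congrArg (fun z : LinearMap.ker f => ((z : Wsub B v v') : V)) h
    simpa using this
  obtain ⟨c, hc⟩ := (finrank_eq_one_iff_of_nonzero' _ hne).mp hk1 ⟨⟨w, hwW⟩, hwk⟩
  refine ⟨c, ?_⟩
  have := congrArg (fun z : LinearMap.ker f => ((z : Wsub B v v') : V)) hc
  simpa using this.symm

include hB in
/-- `b, b2` with `B b b2 ≠ 0` span the 2-dimensional `W` -/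
theorem span_pair [FiniteDimensional F V] (hN : B.Nondegenerate) {v v' : V} (hvv : B v v' = 1)
    (hdim : Module.finrank F V = 4) {b b2 : V} (hbW : b ∈ Wsub B v v') (hb2W : b2 ∈ Wsub B v v')
    (hβ : B b b2 ≠ 0) {w : V} (hwW : w ∈ Wsub B v v') :
    w = (B w b2 / B b b2) • b - (B w b / B b b2) • b2 := by
  have hb0 : b ≠ 0 := by
    rintro rfl
    apply hβ
    simp
  have hw'W : w - (B w b2 / B b b2) • b + (B w b / B b b2) • b2 ∈ Wsub B v v' :=
    (Wsub B v v').add_mem ((Wsub B v v').sub_mem hwW ((Wsub B v v').smul_mem _ hbW))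
      ((Wsub B v v').smul_mem _ hb2W)
  have h1 : B b (w - (B w b2 / B b b2) • b + (B w b / B b b2) • b2) = 0 := by
    simp only [map_add, map_sub, map_smul, smul_eq_mul, hB b, mul_zero, sub_zero]
    rw [div_mul_cancel₀ _ hβ, alt_swap B hB b w]
    ring
  obtain ⟨c, hc⟩ := ker_line B hB hN hvv hdim hbW hb0 hw'W h1
  have h2 : B (w - (B w b2 / B b b2) • b + (B w b / B b b2) • b2) b2 = 0 := by
    simp only [map_add, map_sub, map_smul, LinearMap.add_apply, LinearMap.sub_apply,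
      LinearMap.smul_apply, smul_eq_mul, hB b2, mul_zero, add_zero]
    rw [div_mul_cancel₀ _ hβ]
    ring
  rw [hc, map_smul, LinearMap.smul_apply, smul_eq_mul] at h2
  have hc0 : c = 0 := by
    rcases mul_eq_zero.mp h2 with h | h
    · exact h
    · exact absurd h hβ
  rw [hc0, zero_smul] at hc
  have := sub_eq_zero.mp (by rw [← hc]; abel :
    w - ((B w b2 / B b b2) • b - (B w b / B b b2) • b2) = 0)
  exact this

include hB in
/-- two elements of `L` with the same eigenvalue on `v` and the same values on `b`, `b2` agree -/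
theorem Lv_eq_of_agree [FiniteDimensional F V] (hN : B.Nondegenerate) {v v' : V}
    (hvv : B v v' = 1) (hdim : Module.finrank F V = 4) {b b2 : V} (hbW : b ∈ Wsub B v v')
    (hb2W : b2 ∈ Wsub B v v') (hβ : B b b2 ≠ 0) {l l' : V ≃ₗ[F] V} (hl : l ∈ Lv B v v')
    (hl' : l' ∈ Lv B v v') {c : F} (hlv : l v = c • v) (hl'v : l' v = c • v)
    (h1 : l b = l' b) (h2 : l b2 = l' b2) : l = l' := by
  obtain ⟨hli, -, d, hd, hlv'⟩ := (mem_Lv B).1 hl
  obtain ⟨hl'i, -, d', hd', hl'v'⟩ := (mem_Lv B).1 hl'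
  have e1 : c * d = 1 := by
    have := hli v v'
    rw [hlv, hlv', map_smul, map_smul, LinearMap.smul_apply, smul_eq_mul, smul_eq_mul, hvv] at this
    rw [← this]; ring
  have e2 : c * d' = 1 := by
    have := hl'i v v'
    rw [hl'v, hl'v', map_smul, map_smul, LinearMap.smul_apply, smul_eq_mul, smul_eq_mul, hvv]
      at this
    rw [← this]; ring
  have hc : c ≠ 0 := by
    rintro rfl
    rw [zero_mul] at e1
    exact zero_ne_one e1
  have hdd : d = d' := mul_left_cancel₀ hc (e1.trans e2.symm)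
  apply eq_of_agree B hB hvv
  · rw [hlv, hl'v]
  · rw [hlv', hl'v', hdd]
  · intro w hw
    rw [span_pair B hB hN hvv hdim hbW hb2W hβ hw]
    simp only [map_sub, map_smul, h1, h2]

include hB in
/-- `|K| ≥ (|W| - 1) q`: transitivity on `W ∖ 0` and the root group `X_b` -/
theorem card_Kv_ge [Finite F] [FiniteDimensional F V] (hN : B.Nondegenerate) {v v' : V}
    (hvv : B v v' = 1) {b : V} (hbW : b ∈ Wsub B v v') (hb0 : b ≠ 0) :
    (Nat.card (Wsub B v v') - 1) * Nat.card F ≤ Nat.card (Kv B v v') := by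
  classical
  haveI : Finite V := Module.finite_of_finite F
  haveI : Finite (V ≃ₗ[F] V) := Finite.of_injective (fun g : V ≃ₗ[F] V => (g : V → V))
    (fun g g' h => LinearEquiv.ext (congrFun h))
  have hcard : Nat.card {w : Wsub B v v' // w ≠ 0} = Nat.card (Wsub B v v') - 1 := by
    haveI := Fintype.ofFinite (Wsub B v v')
    rw [Nat.card_eq_fintype_card, Nat.card_eq_fintype_card, Fintype.card_subtype_compl,
      Fintype.card_subtype_eq]
  have hne : ∀ w : {w : Wsub B v v' // w ≠ 0}, ((w : Wsub B v v') : V) ≠ 0 :=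
    fun w h => w.2 (Subtype.ext h)
  have hex : ∀ w : {w : Wsub B v v' // w ≠ 0}, ∃ k ∈ Kv B v v', k b = ((w : Wsub B v v') : V) :=
    fun w => Kv_trans B hB hN hvv hbW w.1.2 hb0 (hne w)
  choose kk hkk hkkb using hex
  obtain ⟨x, hx⟩ : ∃ x, B x b ≠ 0 := by
    by_contra hcon
    push Not at hcon
    exact hb0 (hN.2 b hcon)
  let ψ : {w : Wsub B v v' // w ≠ 0} × F → Kv B v v' := fun p =>
    ⟨kk p.1 * stv B hB b p.2, (Kv B v v').mul_mem (hkk p.1) (stv_mem_Kv B hB hbW p.2)⟩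
  have hψ : Function.Injective ψ := by
    rintro ⟨w, c⟩ ⟨w', c'⟩ h
    have h0 : kk w * stv B hB b c = kk w' * stv B hB b c' := congrArg Subtype.val h
    have hb1 : ∀ c'' : F, stv B hB b c'' b = b := fun c'' => stv_fix B hB c'' (hB b)
    have hw : w = w' := by
      have := congrArg (fun g : V ≃ₗ[F] V => g b) h0
      simp only [LinearEquiv.mul_apply, hb1, hkkb] at this
      exact Subtype.ext (Subtype.ext this)
    subst hw
    have h3 : stv B hB b c = stv B hB b c' := mul_left_cancel h0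
    have h4 := congrArg (fun g : V ≃ₗ[F] V => g x) h3
    simp only [stv_apply] at h4
    have h5 : (c * B x b) • b = (c' * B x b) • b := add_left_cancel h4
    have h6 : c * B x b = c' * B x b := smul_left_injective F hb0 h5
    have h7 : c = c' := mul_right_cancel₀ hx h6
    rw [h7]
  have := Nat.card_le_card_of_injective ψ hψ
  rwa [Nat.card_prod, hcard] at this

/-- the arithmetic at the end of (O4c1) -/
theorem arith_O4c1 (q n bB z d kK nW : ℕ) (hq : 6 ≤ q) (hW : nW = q ^ 2)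
    (hK : (nW - 1) * q ≤ kK) (hb : bB ^ 2 ≤ nW) (hz : 3 * z ≤ q) (hd : d ≤ 2 * bB ^ 2)
    (hL0 : nW * q * ((q - 1) * kK) ≤ n * (bB * z * d)) (hn : n < Npts 2 q) : False := by
  obtain ⟨s, rfl⟩ : ∃ s, q = s + 1 := ⟨q - 1, by omega⟩
  have hs : 5 ≤ s := by omega
  subst hW
  have hN : Npts 2 (s + 1) = (s + 1) ^ 3 + (s + 1) ^ 2 + (s + 1) + 1 := by
    unfold Npts
    rw [Nat.add_sub_cancel]
    apply Nat.div_eq_of_eq_mul_left (by omega)
    have : (s + 1) ^ (2 * 2) = ((s + 1) ^ 3 + (s + 1) ^ 2 + (s + 1) + 1) * s + 1 := by ring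
    rw [this, Nat.add_sub_cancel]
  rw [hN] at hn
  rw [Nat.add_sub_cancel] at hL0
  have e1 : (s + 1) ^ 2 - 1 = s * (s + 2) := by
    have : (s + 1) ^ 2 = s * (s + 2) + 1 := by ring
    rw [this, Nat.add_sub_cancel]
  rw [e1] at hK
  have hbq : bB ≤ s + 1 := by
    by_contra hlt
    push Not at hlt
    have := Nat.pow_lt_pow_left hlt (n := 2) (by norm_num)
    omega
  -- upper bound for the right-hand side
  have h1 : bB * z * d ≤ (s + 1) * z * (2 * (s + 1) ^ 2) :=
    Nat.mul_le_mul (Nat.mul_le_mul hbq le_rfl) (hd.trans (Nat.mul_le_mul_left _ hb))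
  have h2 : 3 * (bB * z * d) ≤ 2 * (s + 1) ^ 4 := by
    calc 3 * (bB * z * d) ≤ 3 * ((s + 1) * z * (2 * (s + 1) ^ 2)) := Nat.mul_le_mul_left _ h1
      _ = (3 * z) * (2 * (s + 1) ^ 3) := by ring
      _ ≤ (s + 1) * (2 * (s + 1) ^ 3) := Nat.mul_le_mul_right _ hz
      _ = 2 * (s + 1) ^ 4 := by ring
  -- lower bound for the left-hand side
  have h3 : (s + 1) ^ 2 * (s + 1) * (s * (s * (s + 2) * (s + 1))) ≤
      (s + 1) ^ 2 * (s + 1) * (s * kK) :=
    Nat.mul_le_mul_left _ (Nat.mul_le_mul_left _ hK)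
  have h4 : 3 * ((s + 1) ^ 2 * (s + 1) * (s * (s * (s + 2) * (s + 1)))) ≤
      n * (2 * (s + 1) ^ 4) := by
    calc 3 * ((s + 1) ^ 2 * (s + 1) * (s * (s * (s + 2) * (s + 1))))
        ≤ 3 * ((s + 1) ^ 2 * (s + 1) * (s * kK)) := Nat.mul_le_mul_left _ h3
      _ ≤ 3 * (n * (bB * z * d)) := Nat.mul_le_mul_left _ hL0
      _ = n * (3 * (bB * z * d)) := by ring
      _ ≤ n * (2 * (s + 1) ^ 4) := Nat.mul_le_mul_left _ h2
  have h5 : (s + 1) ^ 4 * (3 * (s * (s * (s + 2)))) ≤ (s + 1) ^ 4 * (2 * n) := by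
    calc (s + 1) ^ 4 * (3 * (s * (s * (s + 2))))
        = 3 * ((s + 1) ^ 2 * (s + 1) * (s * (s * (s + 2) * (s + 1)))) := by ring
      _ ≤ n * (2 * (s + 1) ^ 4) := h4
      _ = (s + 1) ^ 4 * (2 * n) := by ring
  have h6 : 3 * (s * (s * (s + 2))) ≤ 2 * n :=
    Nat.le_of_mul_le_mul_left h5 (by positivity)
  nlinarith [Nat.mul_le_mul hs hs, Nat.mul_le_mul (Nat.mul_le_mul hs hs) hs]

theorem O4c1 [Finite F] [FiniteDimensional F V] {q : ℕ} (S : Setting B 2 q) (h2 : (2 : F) ≠ 0)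
    (hq : 5 ≤ q) {v v' : V} (hvv : B v v' = 1) {H : Subgroup (V ≃ₗ[F] V)}
    (hH : Small B S.alt (Npts 2 q) H) {b b2 : V} (hb : b ∈ Bbar B S.alt H v v')
    (hb2 : b2 ∈ Bbar B S.alt H v v') (hb0 : b ≠ 0) (hind : ∀ c : F, b2 ≠ c • b) : False := by
  classical
  have hB := S.alt
  have hN := S.nondeg
  have hdim : Module.finrank F V = 4 := S.dim
  haveI : Finite V := Module.finite_of_finite F
  haveI : Finite (V ≃ₗ[F] V) := Finite.of_injective (fun g : V ≃ₗ[F] V => (g : V → V))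
    (fun g g' h => LinearEquiv.ext (congrFun h))
  have hbW : b ∈ Wsub B v v' := hb.1
  have hb2W : b2 ∈ Wsub B v v' := hb2.1
  -- Step A
  have hβ : B b b2 ≠ 0 := by
    intro h0
    obtain ⟨c, hc⟩ := ker_line B hB hN hvv hdim hbW hb0 hb2W h0
    exact hind c hc
  -- Step B
  have hv0 : v ≠ 0 := ne_zero_of_hyp B hvv
  have hZtop : Zv B S.alt H v ≠ ⊤ := Cfsg.Agent.Lib.Helper70_MISp_O1.Zv_ne_top B hH.noRoot hv0
  obtain ⟨p1, p2, p3⟩ := Cfsg.Agent.Lib.Helper70_MISp_O1.O1 B S h2 hvv hZtop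
  have hZbot : Zv B S.alt H v ≠ ⊥ := by
    intro hbot
    have h1 := p1 b hb b2 hb2
    rw [hbot, AddSubgroup.mem_bot] at h1
    rcases mul_eq_zero.mp h1 with h | h
    · exact h2 h
    · exact hβ h
  have hz2 : 2 ≤ Nat.card (Zv B S.alt H v) := by
    have := (AddSubgroup.one_lt_card_iff_ne_bot (Zv B S.alt H v)).mpr hZbot
    omega
  -- Step C
  have hDL : ∀ l : Dbar B H v v', ∃ c : F, c ≠ 0 ∧ (l : V ≃ₗ[F] V) v = c • v :=
    fun l => ((mem_Lv B).1 (Dbar_le_Lv B H v v' l.2)).2.1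
  choose cc hcc0 hccv using hDL
  let Φ : Dbar B H v v' → Bbar B S.alt H v v' × Bbar B S.alt H v v' := fun l =>
    (⟨cc l • (l : V ≃ₗ[F] V) b, L1_Bbar B S.alt hvv l.2 (hccv l) hb⟩,
      ⟨cc l • (l : V ≃ₗ[F] V) b2, L1_Bbar B S.alt hvv l.2 (hccv l) hb2⟩)
  have hΦ1 : ∀ l l' : Dbar B H v v', Φ l = Φ l' →
      cc l • (l : V ≃ₗ[F] V) b = cc l' • (l' : V ≃ₗ[F] V) b := by
    intro l l' h
    exact congrArg (fun p : Bbar B S.alt H v v' × Bbar B S.alt H v v' => (p.1 : V)) h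
  have hΦ2 : ∀ l l' : Dbar B H v v', Φ l = Φ l' →
      cc l • (l : V ≃ₗ[F] V) b2 = cc l' • (l' : V ≃ₗ[F] V) b2 := by
    intro l l' h
    exact congrArg (fun p : Bbar B S.alt H v v' × Bbar B S.alt H v v' => (p.2 : V)) h
  have hsame : ∀ l l' : Dbar B H v v', Φ l = Φ l' → cc l = cc l' → l = l' := by
    intro l l' h hc
    apply Subtype.ext
    have e1 := hΦ1 l l' h
    have e2 := hΦ2 l l' h
    rw [← hc] at e1 e2
    refine Lv_eq_of_agree B hB hN hvv hdim hbW hb2W hβ (Dbar_le_Lv B H v v' l.2)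
      (Dbar_le_Lv B H v v' l'.2) (hccv l) (by rw [hccv l', hc]) ?_ ?_
    · exact smul_right_injective V (hcc0 l) e1
    · exact smul_right_injective V (hcc0 l) e2
  have hsign : ∀ l l' : Dbar B H v v', Φ l = Φ l' → cc l' = cc l ∨ cc l' = -cc l := by
    intro l l' h
    have e1 := hΦ1 l l' h
    have e2 := hΦ2 l l' h
    have hli : (l : V ≃ₗ[F] V) ∈ isoGroup B := ((mem_Lv B).1 (Dbar_le_Lv B H v v' l.2)).1
    have hl'i : (l' : V ≃ₗ[F] V) ∈ isoGroup B := ((mem_Lv B).1 (Dbar_le_Lv B H v v' l'.2)).1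
    have e3 : B (cc l • (l : V ≃ₗ[F] V) b) (cc l • (l : V ≃ₗ[F] V) b2) =
        B (cc l' • (l' : V ≃ₗ[F] V) b) (cc l' • (l' : V ≃ₗ[F] V) b2) := by rw [e1, e2]
    simp only [map_smul, LinearMap.smul_apply, smul_eq_mul, hli b b2, hl'i b b2] at e3
    have e4 : cc l' * cc l' = cc l * cc l := by
      have : (cc l' * cc l') * B b b2 = (cc l * cc l) * B b b2 := by
        rw [mul_assoc, mul_assoc, ← e3]
      exact mul_right_cancel₀ hβ this
    exact mul_self_eq_mul_self_iff.mp e4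
  have hDbar : Nat.card (Dbar B H v v') ≤
      2 * (Nat.card (Bbar B S.alt H v v') * Nat.card (Bbar B S.alt H v v')) := by
    have := card_le_two_mul Φ (by
      intro l1 l2 l3 h12 h13
      rcases hsign l1 l2 h12 with h | h
      · exact Or.inl (hsame l1 l2 h12 h.symm)
      · rcases hsign l1 l3 h13 with h' | h'
        · exact Or.inr (Or.inl (hsame l1 l3 h13 h'.symm))
        · exact Or.inr (Or.inr (hsame l2 l3 (h12.symm.trans h13) (h.trans h'.symm))))
    rwa [Nat.card_prod] at this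
  -- Step D, E
  have hK := card_Kv_ge B hB hN hvv hbW hb0
  have hWc : Nat.card (Wsub B v v') = q ^ 2 := by
    have := card_Wsub B hB S hvv
    simpa using this
  have hFc : Nat.card F = q := S.card
  have hL0 := L0 B S.alt hvv hH.le
  rw [hFc] at hL0 hK
  have hq6 : 6 ≤ q := by omega
  refine arith_O4c1 q (H.relIndex (isoGroup B)) (Nat.card (Bbar B S.alt H v v'))
    (Nat.card (Zv B S.alt H v)) (Nat.card (Dbar B H v v')) (Nat.card (Kv B v v'))
    (Nat.card (Wsub B v v')) hq6 hWc hK p2 p3 ?_ ?_ hH.idx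
  · rw [pow_two]; exact hDbar
  · rw [card_Dbar B hB hvv H]
    calc _ ≤ _ := hL0
      _ = _ := by ring

end Cfsg.Agent.Lib.Helper70_MISp_O4c1
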