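import Mathlib
import Cfsg.Agent.Lib.Helper66_MISp_O4c
import Cfsg.Agent.Lib.Helper70_MISp_O4c1

set_option autoImplicit false

/-!
# S2141 packages O4c2, O4c3 (helper66), verbatim statements
-/

namespace Cfsg.Agent.Lib.Helper66_MISp_O4c23

open Cfsg.Agent.Lib.Helper94_Symp Cfsg.Agent.Lib.Helper94_SympTI
  Cfsg.Agent.Lib.Helper94_SympPerfect Cfsg.Agent.Lib.Helper66_MI_SpDefs
  Cfsg.Agent.Lib.Helper66_MISp_LOCAL Cfsg.Agent.Lib.Helper66_MISp_O4c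

variable {F V : Type*} [Field F] [AddCommGroup V] [Module F V]
variable (B : LinearMap.BilinForm F V)

/-- `|K| = q (q² - 1)` is only needed as a lower bound; we package the consequence `L0_two`
directly from `card_Kv_ge` (helper70). -/
theorem L0_two' [Finite F] [FiniteDimensional F V] {q : ℕ} (S : Setting B 2 q)
    {v v' : V} (hvv : B v v' = 1) {H : Subgroup (V ≃ₗ[F] V)} (hH : H ≤ isoGroup B) {b : V}
    (hbW : b ∈ Wsub B v v') (hb0 : b ≠ 0) :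
    q ^ 2 * q * ((q - 1) * (q * (q ^ 2 - 1))) ≤
      H.relIndex (isoGroup B) *
        (Nat.card (Bbar B S.alt H v v') * Nat.card (Zv B S.alt H v) * Nat.card (T1 B H v v') *
          Nat.card (KH B H v v')) := by
  have h := L0 B S.alt hvv hH
  have hK := Cfsg.Agent.Lib.Helper70_MISp_O4c1.card_Kv_ge B S.alt S.nondeg hvv hbW hb0
  rw [card_Wsub B S.alt S hvv, S.card] at h hK
  have e : 2 * 2 - 2 = 2 := rfl
  rw [e] at h hK
  refine le_trans ?_ h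
  apply Nat.mul_le_mul_left
  apply Nat.mul_le_mul_left
  rw [mul_comm q]
  exact hK

/-- (c2) if `Bbar ⊆ F b` then `Bbar = F b` -/
theorem O4c2 [Finite F] [FiniteDimensional F V] {q : ℕ} (S : Setting B 2 q) (h2 : (2 : F) ≠ 0)
    (hq : 5 ≤ q) {v v' : V} (hvv : B v v' = 1) {H : Subgroup (V ≃ₗ[F] V)}
    (hH : Small B S.alt (Npts 2 q) H) {b : V} (hb : b ∈ Bbar B S.alt H v v') (hb0 : b ≠ 0)
    (hsub : ∀ w ∈ Bbar B S.alt H v v', ∃ c : F, w = c • b) (c : F) :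
    c • b ∈ Bbar B S.alt H v v' :=
  O4c2_of B S h2 hq hvv hH (L0_two' B S hvv hH.le hb.1 hb0) hb hb0 hsub c

/-- (c3) if `Bbar = F b` then `Dbar ⊇ Bo(b) = Stab_K(F b)` -/
theorem O4c3 [Finite F] [FiniteDimensional F V] {q : ℕ} (S : Setting B 2 q) (h2 : (2 : F) ≠ 0)
    (hq : 5 ≤ q) {v v' : V} (hvv : B v v' = 1) {H : Subgroup (V ≃ₗ[F] V)}
    (hH : Small B S.alt (Npts 2 q) H) {b : V} (hbW : b ∈ Wsub B v v') (hb0 : b ≠ 0)
    (hBbar : ∀ w, w ∈ Bbar B S.alt H v v' ↔ ∃ c : F, w = c • b) :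
    ∀ k ∈ Kv B v v', (∃ c : F, k b = c • b) → k ∈ Dbar B H v v' :=
  O4c3_of B S h2 hq hvv hH (L0_two' B S hvv hH.le hbW hb0) hbW hb0 hBbar

end Cfsg.Agent.Lib.Helper66_MISp_O4c23
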