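import Mathlib
import Cfsg.Agent.Lib.Helper66_MI_SpDefs
import Cfsg.Agent.Lib.Helper94_MI_SpKiso
import Cfsg.Agent.Lib.Helper10_MISp_KTRANS
import Cfsg.Agent.Lib.Helper10_MISp_GV

set_option autoImplicit false
set_option linter.unusedVariables false
set_option linter.unusedSectionVars false
set_option linter.unusedSimpArgs false

/-!
# S2141 (min index of `PSp_{2m}(q)`, architect helper66), package C1:
the stabiliser in `Sp(V)` of a proper nonzero subspace has index at least `N_m = (q^(2m) - 1)/(q - 1)`.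

Proof (induction on `m`): `H = G_U`.  For a nonzero `v` and a subgroup `K ≤ G` fixing `v`:
`|v^G| * [K : K ∩ H] ≤ [G : H] * |v^H|` (`chain_ineq`), and `|v^G| = q^(2m) - 1`.
* `R = U ∩ U^⊥ ≠ 0`: `v ∈ R`, `v^H ⊆ R ∖ 0`; if `R = F v` take `K = 1`; otherwise `K = K_v ≅ Sp(W)`,
  `W = ⟨v, v'⟩^⊥`, and the induction hypothesis for `U ∩ W ⊆ W`.
* `R = 0`: `v, v' ∈ U` with `B v v' = 1`, `v^H ⊆ U ∖ 0`; if `U ∩ W = 0` take `K = Q_v`
  (`[Q_v : Q_v ∩ H] ≥ |W|`); otherwise `K = K_v` and the induction hypothesis.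
-/

namespace Cfsg.Agent.Lib.Helper71_MISp_C1

open Module Cfsg.Agent.Lib.Helper94_Symp Cfsg.Agent.Lib.Helper94_SympTI
  Cfsg.Agent.Lib.Helper94_SympPerfect Cfsg.Agent.Lib.Helper66_MI_SpDefs
  Cfsg.Agent.Lib.Helper94_MI_SpKiso

universe u

/-! ### Generic group actions -/

theorem stab_subgroupOf {Γ X : Type*} [Group Γ] [MulAction Γ X] (G : Subgroup Γ) (x : X) :
    (MulAction.stabilizer Γ x).subgroupOf G = MulAction.stabilizer ↥G x := by
  ext g
  rw [Subgroup.mem_subgroupOf, MulAction.mem_stabilizer_iff, MulAction.mem_stabilizer_iff]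
  rfl

/-- `|x^G| * [K : K ∩ H] ≤ [G : H] * |x^H|` for `H, K ≤ G`, `K` fixing `x`. -/
theorem chain_ineq {Γ X : Type*} [Group Γ] [MulAction Γ X] [Finite Γ] (G H K : Subgroup Γ)
    (hHG : H ≤ G) (hKG : K ≤ G) (x : X) (hK : ∀ g ∈ K, g • x = x) :
    (MulAction.orbit ↥G x).ncard * H.relIndex K ≤
      H.relIndex G * (MulAction.orbit ↥H x).ncard := by
  set Sx := MulAction.stabilizer Γ x with hSx
  have h1 : Sx.relIndex G = (MulAction.orbit ↥G x).ncard := by
    rw [Subgroup.relIndex, stab_subgroupOf, MulAction.index_stabilizer]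
  have h2 : Sx.relIndex H = (MulAction.orbit ↥H x).ncard := by
    rw [Subgroup.relIndex, stab_subgroupOf, MulAction.index_stabilizer]
  have hKS : K ≤ Sx ⊓ G := by
    intro g hg
    exact ⟨MulAction.mem_stabilizer_iff.mpr (hK g hg), hKG hg⟩
  have hne : H.relIndex (Sx ⊓ G) ≠ 0 := by
    rw [Subgroup.relIndex]
    exact Subgroup.index_ne_zero_of_finite
  have h3 : H.relIndex K ≤ H.relIndex (Sx ⊓ G) := Subgroup.relIndex_le_of_le_right hKS hne
  have h4 : (H ⊓ (Sx ⊓ G)).relIndex (Sx ⊓ G) * (Sx ⊓ G).relIndex G = (H ⊓ (Sx ⊓ G)).relIndex G :=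
    Subgroup.relIndex_mul_relIndex _ _ _ inf_le_right inf_le_right
  have h5 : (Sx ⊓ H).relIndex H * H.relIndex G = (Sx ⊓ H).relIndex G :=
    Subgroup.relIndex_mul_relIndex _ _ _ inf_le_right hHG
  have h6 : H ⊓ (Sx ⊓ G) = Sx ⊓ H := by
    rw [← inf_assoc, inf_comm H Sx, inf_assoc, inf_eq_left.mpr hHG]
  rw [Subgroup.inf_relIndex_right, Subgroup.inf_relIndex_right, h6] at h4
  rw [Subgroup.inf_relIndex_right] at h5
  rw [← h1, ← h2]
  calc Sx.relIndex G * H.relIndex K ≤ Sx.relIndex G * H.relIndex (Sx ⊓ G) :=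
        Nat.mul_le_mul_left _ h3
    _ = H.relIndex (Sx ⊓ G) * Sx.relIndex G := Nat.mul_comm _ _
    _ = (Sx ⊓ H).relIndex G := h4
    _ = Sx.relIndex H * H.relIndex G := h5.symm
    _ = H.relIndex G * Sx.relIndex H := Nat.mul_comm _ _

/-! ### Numerics -/

theorem Npts_mul (m q : ℕ) : Npts m q * (q - 1) = q ^ (2 * m) - 1 := by
  unfold Npts
  have h : q - 1 ∣ q ^ (2 * m) - 1 := Nat.sub_one_dvd_pow_sub_one q (2 * m)
  exact Nat.div_mul_cancel h

/-- the final arithmetic step -/
theorem Npts_le_of {m q X j c c' : ℕ} (hq : 2 ≤ q) (h1 : (q ^ (2 * m) - 1) * j ≤ X * c)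
    (hc : 0 < c) (hcc : c ≤ c') (h2 : c' ≤ j * (q - 1)) : Npts m q ≤ X := by
  have hq1 : 0 < q - 1 := by omega
  have h3 : (q ^ (2 * m) - 1) * c ≤ X * (q - 1) * c := by
    calc (q ^ (2 * m) - 1) * c ≤ (q ^ (2 * m) - 1) * (j * (q - 1)) :=
          Nat.mul_le_mul_left _ (le_trans hcc h2)
      _ = (q ^ (2 * m) - 1) * j * (q - 1) := by ring
      _ ≤ X * c * (q - 1) := Nat.mul_le_mul_right _ h1
      _ = X * (q - 1) * c := by ring
  have h4 : q ^ (2 * m) - 1 ≤ X * (q - 1) := Nat.le_of_mul_le_mul_right h3 hc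
  rw [← Npts_mul] at h4
  exact Nat.le_of_mul_le_mul_right h4 hq1

/-! ### The symplectic setting -/

variable {F : Type*} [Field F]

section basics

variable {V : Type*} [AddCommGroup V] [Module F V]
variable (B : LinearMap.BilinForm F V) (hB : B.IsAlt)

theorem finite_linearEquiv [Finite F] [FiniteDimensional F V] : Finite (V ≃ₗ[F] V) := by
  have : Finite V := Module.finite_of_finite F
  exact Finite.of_injective (fun g : V ≃ₗ[F] V => (g : V → V)) DFunLike.coe_injective

include hB in
theorem nondegOn_top (hN : B.Nondegenerate) : NondegOn B (⊤ : Submodule F V) := by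
  intro w _ hw0
  by_contra hcon
  push Not at hcon
  apply hw0
  apply hN.2 w
  intro y
  exact hcon y Submodule.mem_top

include hB in
/-- `Sp(V)` is transitive on nonzero vectors. -/
theorem orbit_isoGroup (hN : B.Nondegenerate) {v : V} (hv : v ≠ 0) :
    MulAction.orbit ↥(isoGroup B) v = {x : V | x ≠ 0} := by
  ext x
  constructor
  · rintro ⟨g, rfl⟩
    show (g : V ≃ₗ[F] V) v ≠ 0
    intro h
    apply hv
    have := (g : V ≃ₗ[F] V).injective (h.trans (map_zero (g : V ≃ₗ[F] V)).symm)
    exact this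
  · intro hx
    obtain ⟨a, -, c, a', -, c', h⟩ := exists_move B hB (nondegOn_top B hB hN)
      (Submodule.mem_top : v ∈ (⊤ : Submodule F V)) (Submodule.mem_top : x ∈ (⊤ : Submodule F V))
      hv hx
    exact ⟨⟨stv B hB a' c' * stv B hB a c,
      (isoGroup B).mul_mem (stv_mem_isoGroup B hB a' c') (stv_mem_isoGroup B hB a c)⟩, h⟩

include hB in
theorem ncard_orbit_isoGroup [Finite F] [FiniteDimensional F V] {m q : ℕ} (S : Setting B m q)
    {v : V} (hv : v ≠ 0) : (MulAction.orbit ↥(isoGroup B) v).ncard = q ^ (2 * m) - 1 := by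
  have : Finite V := Module.finite_of_finite F
  rw [orbit_isoGroup B hB S.nondeg hv]
  have h1 : {x : V | x ≠ 0} = ({0} : Set V)ᶜ := by
    ext x
    simp
  rw [h1, Set.ncard_compl, Set.ncard_singleton, Module.natCard_eq_pow_finrank (K := F) (V := V),
    S.card, S.dim]

/-- a bound for the orbit of a vector under a subgroup preserving a subspace -/
theorem ncard_orbit_le [Finite F] [FiniteDimensional F V] (H : Subgroup (V ≃ₗ[F] V))
    (R : Submodule F V) (hR : ∀ g ∈ H, ∀ x ∈ R, g x ∈ R) {v : V} (hv : v ≠ 0) (hvR : v ∈ R) :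
    0 < (MulAction.orbit ↥H v).ncard ∧
      (MulAction.orbit ↥H v).ncard ≤ Nat.card F ^ finrank F ↥R - 1 := by
  have : Finite V := Module.finite_of_finite F
  constructor
  · rw [Set.ncard_pos (Set.toFinite _)]
    exact MulAction.nonempty_orbit v
  · have hsub : MulAction.orbit ↥H v ⊆ (R : Set V) \ {0} := by
      rintro x ⟨g, rfl⟩
      refine ⟨hR g.1 g.2 v hvR, ?_⟩
      intro h
      apply hv
      have h' : (g : V ≃ₗ[F] V) v = 0 := h
      exact (g : V ≃ₗ[F] V).injective (h'.trans (map_zero (g : V ≃ₗ[F] V)).symm)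
    have h1 := Set.ncard_le_ncard hsub (Set.toFinite _)
    have h2 : ((R : Set V) \ {0}).ncard = (R : Set V).ncard - 1 :=
      Set.ncard_sdiff_singleton_of_mem R.zero_mem
    have h3 : (R : Set V).ncard = Nat.card ↥R := (Nat.card_coe_set_eq (R : Set V)).symm
    have h4 : Nat.card ↥R = Nat.card F ^ finrank F ↥R := Module.natCard_eq_pow_finrank
    rw [h2, h3, h4] at h1
    exact h1

/-- the stabiliser of `U` in `Sp(V)` preserves `U^⊥` -/
theorem stab_map_orth {U : Submodule F V} {g : V ≃ₗ[F] V} (hg : g ∈ stab U ⊓ isoGroup B)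
    {x : V} (hx : x ∈ B.orthogonal U) : g x ∈ B.orthogonal U := by
  rw [mem_orth] at hx ⊢
  intro n hn
  have h1 : g (g⁻¹ n) = n := by
    rw [← LinearEquiv.mul_apply, mul_inv_cancel]; rfl
  have h2 : g⁻¹ n ∈ U := by
    rw [hg.1 (g⁻¹ n), h1]; exact hn
  have h3 := hg.2 (g⁻¹ n) x
  rw [h1] at h3
  rw [h3]
  exact hx _ h2

theorem stab_map_mem {U : Submodule F V} {g : V ≃ₗ[F] V} (hg : g ∈ stab U ⊓ isoGroup B)
    {x : V} (hx : x ∈ U) : g x ∈ U := (hg.1 x).mp hx

theorem setting_Wsub [Finite F] [FiniteDimensional F V] {m q : ℕ} (S : Setting B (m + 1) q)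
    {v v' : V} (hvv : B v v' = 1) : Setting (B.restrict (Wsub B v v')) m q := by
  refine ⟨restrict_isAlt B S.alt v v', Wsub_restrict_nondeg B S.alt hvv S.nondeg, S.card, ?_⟩
  have := finrank_Wsub_add_two B S.alt hvv
  rw [S.dim] at this
  omega

include hB in
/-- transport of the index through `K_v ≅ Sp(W)` -/
theorem relIndex_Kv_ge [Finite F] [FiniteDimensional F V] {v v' : V} (hvv : B v v' = 1)
    (U : Submodule F V) :
    (stab (Submodule.comap (Wsub B v v').subtype U) ⊓
        isoGroup (B.restrict (Wsub B v v'))).relIndex (isoGroup (B.restrict (Wsub B v v'))) ≤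
      (stab U ⊓ isoGroup B).relIndex (Kv B v v') := by
  have hfin : Finite (V ≃ₗ[F] V) := finite_linearEquiv
  obtain ⟨e, he⟩ := Kiso B hB hvv
  set S := stab (Submodule.comap (Wsub B v v').subtype U) ⊓ isoGroup (B.restrict (Wsub B v v'))
    with hS
  have h1 : ((S.subgroupOf (isoGroup (B.restrict (Wsub B v v')))).comap e.toMonoidHom).index =
      (S.subgroupOf (isoGroup (B.restrict (Wsub B v v')))).index :=
    Subgroup.index_comap_of_surjective _ e.surjective
  have h2 : (stab U ⊓ isoGroup B).subgroupOf (Kv B v v') ≤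
      (S.subgroupOf (isoGroup (B.restrict (Wsub B v v')))).comap e.toMonoidHom := by
    intro g hg
    rw [Subgroup.mem_subgroupOf] at hg
    rw [Subgroup.mem_comap, Subgroup.mem_subgroupOf]
    refine ⟨?_, (e g).2⟩
    intro w
    rw [Submodule.mem_comap, Submodule.mem_comap]
    show (w : V) ∈ U ↔ (((e g : ↥(isoGroup (B.restrict (Wsub B v v')))) :
      ↥(Wsub B v v') ≃ₗ[F] ↥(Wsub B v v')) w : V) ∈ U
    rw [he g w]
    exact hg.1 (w : V)
  have h3 := Subgroup.index_antitone h2
  rw [h1] at h3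
  exact h3

end basics

/-! ### The induction step -/

section step

variable [Finite F] {V : Type u} [AddCommGroup V] [Module F V] [FiniteDimensional F V]
  (B : LinearMap.BilinForm F V)

/-- the induction hypothesis at level `n` (all spaces in universe `u`) -/
def IHyp (F : Type*) [Field F] (q n : ℕ) : Prop :=
  ∀ (V : Type u) [AddCommGroup V] [Module F V] [FiniteDimensional F V]
    (B : LinearMap.BilinForm F V), Setting B n q → ∀ U : Submodule F V, U ≠ ⊥ → U ≠ ⊤ →
      Npts n q ≤ (stab U ⊓ isoGroup B).relIndex (isoGroup B)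

/-- the `K_v`-step: if `U ∩ W` is a proper nonzero subspace of `W`, the induction hypothesis bounds
`[K_v : K_v ∩ H]` from below. -/
theorem Kv_step {n q : ℕ} (S : Setting B (n + 1) q) (ih : 1 ≤ n → IHyp.{u} F q n) {v v' : V}
    (hvv : B v v' = 1) (U : Submodule F V)
    (hne : ∃ w ∈ Wsub B v v', w ∈ U ∧ w ≠ 0) (hnt : ∃ w ∈ Wsub B v v', w ∉ U) :
    1 ≤ n ∧ Npts n q ≤ (stab U ⊓ isoGroup B).relIndex (Kv B v v') := by
  have hSW := setting_Wsub B S hvv
  have hn : 1 ≤ n := by
    obtain ⟨w, hwW, -, hw0⟩ := hne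
    have h1 : 0 < finrank F ↥(Wsub B v v') := by
      rw [Module.finrank_pos_iff_exists_ne_zero]
      exact ⟨⟨w, hwW⟩, fun h => hw0 (congrArg Subtype.val h)⟩
    rw [hSW.dim] at h1
    omega
  refine ⟨hn, ?_⟩
  have h1 := ih hn ↥(Wsub B v v') (B.restrict (Wsub B v v')) hSW
    (Submodule.comap (Wsub B v v').subtype U) ?_ ?_
  · exact le_trans h1 (relIndex_Kv_ge B S.alt hvv U)
  · obtain ⟨w, hwW, hwU, hw0⟩ := hne
    intro h
    have : (⟨w, hwW⟩ : ↥(Wsub B v v')) ∈ Submodule.comap (Wsub B v v').subtype U := hwU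
    rw [h, Submodule.mem_bot] at this
    exact hw0 (congrArg Subtype.val this)
  · obtain ⟨w, hwW, hwU⟩ := hnt
    intro h
    have : (⟨w, hwW⟩ : ↥(Wsub B v v')) ∈ Submodule.comap (Wsub B v v').subtype U := by
      rw [h]; exact Submodule.mem_top
    exact hwU this

theorem pow_sub_one_le {q a b : ℕ} (hq : 1 ≤ q) (hab : a ≤ b) : q ^ a - 1 ≤ q ^ b - 1 :=
  Nat.sub_le_sub_right (Nat.pow_le_pow_right hq hab) 1

/-- the induction step -/
theorem C1_step {n q : ℕ} (S : Setting B (n + 1) q) (ih : 1 ≤ n → IHyp.{u} F q n)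
    (U : Submodule F V) (hU0 : U ≠ ⊥) (hUt : U ≠ ⊤) :
    Npts (n + 1) q ≤ (stab U ⊓ isoGroup B).relIndex (isoGroup B) := by
  classical
  have hB := S.alt
  have hN := S.nondeg
  have hfinV : Finite V := Module.finite_of_finite F
  have hfin : Finite (V ≃ₗ[F] V) := finite_linearEquiv
  have hq2 : 2 ≤ q := by
    rw [← S.card]
    have : Fintype F := Fintype.ofFinite F
    rw [Nat.card_eq_fintype_card]
    exact Fintype.one_lt_card
  have hq1 : 1 ≤ q := by omega
  set H := stab U ⊓ isoGroup B with hH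
  have hHG : H ≤ isoGroup B := inf_le_right
  set R := U ⊓ B.orthogonal U with hR
  have hRinv : ∀ g ∈ H, ∀ x ∈ R, g x ∈ R := fun g hg x hx =>
    ⟨stab_map_mem B hg hx.1, stab_map_orth B hg hx.2⟩
  have hUinv : ∀ g ∈ H, ∀ x ∈ U, g x ∈ U := fun g hg x hx => stab_map_mem B hg hx
  have hdimU := LinearMap.BilinForm.finrank_orthogonal hN U
  have hUlt : finrank F ↥U < finrank F V := by
    exact Submodule.finrank_lt hUt
  rw [S.dim] at hdimU hUlt
  by_cases hR0 : R = ⊥
  · ----- Case II: `U` nondegenerate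
    obtain ⟨v, hvU, hv0⟩ := (Submodule.ne_bot_iff U).mp hU0
    have hvo : v ∉ B.orthogonal U := by
      intro h
      have : v ∈ R := ⟨hvU, h⟩
      rw [hR0, Submodule.mem_bot] at this
      exact hv0 this
    rw [mem_orth] at hvo
    push Not at hvo
    obtain ⟨u, huU, huv⟩ := hvo
    have hvu : B v u ≠ 0 := alt_ne_zero_comm B hB huv
    set v' : V := (B v u)⁻¹ • u with hv'
    have hv'U : v' ∈ U := U.smul_mem _ huU
    have hvv : B v v' = 1 := by
      rw [hv', map_smul, smul_eq_mul, inv_mul_cancel₀ hvu]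
    have horb := ncard_orbit_le H U hUinv hv0 hvU
    have hG := ncard_orbit_isoGroup B hB S hv0
    rw [S.card] at horb
    -- `U^⊥` has dimension at least two
    have hk : finrank F ↥U + 2 ≤ 2 * (n + 1) := by
      have h0 : finrank F ↥(B.orthogonal U) ≠ 0 := by omega
      have h1 : finrank F ↥(B.orthogonal U) ≠ 1 := by
        intro h1
        obtain ⟨y, hy0, hy⟩ := finrank_eq_one_iff'.mp h1
        have hyo : (y : V) ∈ B.orthogonal (B.orthogonal U) := by
          rw [mem_orth]
          intro z hz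
          obtain ⟨c, hc⟩ := hy ⟨z, hz⟩
          have : z = c • (y : V) := by
            have := congrArg Subtype.val hc
            simpa using this.symm
          rw [this, map_smul, LinearMap.smul_apply, hB, smul_zero]
        rw [LinearMap.BilinForm.orthogonal_orthogonal hN hB.isRefl] at hyo
        have : (y : V) ∈ R := ⟨hyo, y.2⟩
        rw [hR0, Submodule.mem_bot] at this
        exact hy0 (Subtype.ext this)
      omega
    by_cases hUW : ∃ w ∈ Wsub B v v', w ∈ U ∧ w ≠ 0
    · -- II.b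
      have hnt : ∃ w ∈ Wsub B v v', w ∉ U := by
        by_contra hcon
        push Not at hcon
        apply hUt
        rw [eq_top_iff]
        intro x _
        rw [decomp B v v' x]
        exact U.add_mem (U.sub_mem (U.smul_mem _ hvU) (U.smul_mem _ hv'U))
          (hcon _ (piV_mem B hB hvv x))
      obtain ⟨hn, hj⟩ := Kv_step B S ih hvv U hUW hnt
      have hch := chain_ineq (isoGroup B) H (Kv B v v') hHG (Kv_le B v v') v
        (fun g hg => hg.2.1)
      rw [hG] at hch
      refine Npts_le_of hq2 hch horb.1 horb.2 ?_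
      calc q ^ finrank F ↥U - 1 ≤ q ^ (2 * n) - 1 := pow_sub_one_le hq1 (by omega)
        _ = Npts n q * (q - 1) := (Npts_mul n q).symm
        _ ≤ (stab U ⊓ isoGroup B).relIndex (Kv B v v') * (q - 1) := Nat.mul_le_mul_right _ hj
    · -- II.a
      push Not at hUW
      have hUW0 : ∀ w ∈ Wsub B v v', w ∈ U → w = 0 := hUW
      -- `|U| ≤ q^2`
      have hcardU : Nat.card ↥U ≤ q ^ 2 := by
        have hinj : Function.Injective (fun x : ↥U => (B (x : V) v', B (x : V) v)) := by
          intro x y hxy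
          have h1 : B ((x : V) - (y : V)) v' = 0 := by
            rw [map_sub, LinearMap.sub_apply, (Prod.mk.inj hxy).1, sub_self]
          have h2 : B ((x : V) - (y : V)) v = 0 := by
            rw [map_sub, LinearMap.sub_apply, (Prod.mk.inj hxy).2, sub_self]
          have := hUW0 _ ⟨h2, h1⟩ (U.sub_mem x.2 y.2)
          exact Subtype.ext (sub_eq_zero.mp this)
        have := Nat.card_le_card_of_injective _ hinj
        rw [Nat.card_prod, S.card] at this
        calc Nat.card ↥U ≤ q * q := this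
          _ = q ^ 2 := by ring
      have hcU : Nat.card ↥U = q ^ finrank F ↥U := by
        rw [Module.natCard_eq_pow_finrank (K := F) (V := ↥U), S.card]
      -- `W ≠ 0`, hence `n ≥ 1`
      have hn : 1 ≤ n := by
        by_contra hcon
        have hn0 : n = 0 := by omega
        apply hUt
        rw [eq_top_iff]
        intro x _
        have hW0 : finrank F ↥(Wsub B v v') = 0 := by
          have := finrank_Wsub_add_two B hB hvv
          rw [S.dim, hn0] at this
          omega
        have hpi : piV B v v' x = 0 := by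
          have h1 : (⟨piV B v v' x, piV_mem B hB hvv x⟩ : ↥(Wsub B v v')) = 0 := by
            have := Module.finrank_zero_iff.mp hW0
            exact Subsingleton.elim _ _
          exact congrArg Subtype.val h1
        rw [decomp B v v' x, hpi, add_zero]
        exact U.sub_mem (U.smul_mem _ hvU) (U.smul_mem _ hv'U)
      -- `[Q_v : Q_v ∩ H] ≥ |W|`
      have hj : Nat.card ↥(Wsub B v v') ≤ H.relIndex (Qv B v) := by
        let φ : ↥(Wsub B v v') → ↥(Qv B v) ⧸ (H.subgroupOf (Qv B v)) := fun w =>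
          QuotientGroup.mk ⟨gv B hB v (w : V) 0, gv_mem_Qv B hB
            (by rw [alt_swap B hB, w.2.1, neg_zero]) 0⟩
        have hφ : Function.Injective φ := by
          intro w w' hww
          have h1 := QuotientGroup.eq.mp hww
          rw [Subgroup.mem_subgroupOf] at h1
          have hw1 : B v (w : V) = 0 := by rw [alt_swap B hB, w.2.1, neg_zero]
          have hw2 : B v (w' : V) = 0 := by rw [alt_swap B hB, w'.2.1, neg_zero]
          have hw3 : B v (-(w : V)) = 0 := by rw [map_neg, hw1, neg_zero]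
          have h2 : (gv B hB v (w : V) 0)⁻¹ * gv B hB v (w' : V) 0 ∈ H := h1
          rw [gv_inv B hB hw1, gv_mul B hB hw3 hw2] at h2
          have hmem : -(w : V) + (w' : V) ∈ Wsub B v v' :=
            (Wsub B v v').add_mem ((Wsub B v v').neg_mem w.2) w'.2
          have h3 := hUinv _ h2 v' hv'U
          rw [Cfsg.Agent.Lib.Helper10_MISp_GV.gv_apply_snd B hB hvv hmem] at h3
          have h4 : -(w : V) + (w' : V) ∈ U := by
            have h5 := U.sub_mem (U.sub_mem hv'U h3) (U.smul_mem (-0 + 0 + B (w' : V) (-(w : V))) hvU)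
            have e : v' - (v' - (-(w : V) + (w' : V)) - (-0 + 0 + B (w' : V) (-(w : V))) • v) -
                (-0 + 0 + B (w' : V) (-(w : V))) • v = -(w : V) + (w' : V) := by abel
            rw [e] at h5
            exact h5
          have h6 := hUW0 _ hmem h4
          apply Subtype.ext
          have : (w' : V) = (w : V) := by
            have := eq_neg_of_add_eq_zero_right h6
            rw [this, neg_neg]
          exact this.symm
        have := Nat.card_le_card_of_injective φ hφ
        rw [Subgroup.relIndex, Subgroup.index]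
        exact this
      have hcW : Nat.card ↥(Wsub B v v') = q ^ (2 * n) := by
        rw [Module.natCard_eq_pow_finrank (K := F) (V := ↥(Wsub B v v')), S.card,
          (setting_Wsub B S hvv).dim]
      have hch := chain_ineq (isoGroup B) H (Qv B v) hHG (Qv_le B v) v
        (fun g hg => hg.2.1)
      rw [hG] at hch
      refine Npts_le_of hq2 hch horb.1 horb.2 ?_
      have h1 : q ^ finrank F ↥U - 1 ≤ q ^ 2 - 1 := by
        rw [← hcU]; exact Nat.sub_le_sub_right hcardU 1
      have h2 : q ^ 2 ≤ q ^ (2 * n) := Nat.pow_le_pow_right hq1 (by omega)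
      have h3 : q ^ 2 - 1 ≤ q ^ 2 * (q - 1) := by
        have : 1 ≤ q - 1 := by omega
        calc q ^ 2 - 1 ≤ q ^ 2 * 1 := by omega
          _ ≤ q ^ 2 * (q - 1) := Nat.mul_le_mul_left _ this
      calc q ^ finrank F ↥U - 1 ≤ q ^ 2 - 1 := h1
        _ ≤ q ^ 2 * (q - 1) := h3
        _ ≤ q ^ (2 * n) * (q - 1) := Nat.mul_le_mul_right _ h2
        _ = Nat.card ↥(Wsub B v v') * (q - 1) := by rw [hcW]
        _ ≤ H.relIndex (Qv B v) * (q - 1) := Nat.mul_le_mul_right _ hj
  · ----- Case I: `R ≠ 0`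
    obtain ⟨v, hvR, hv0⟩ := (Submodule.ne_bot_iff R).mp hR0
    have hvU : v ∈ U := hvR.1
    have hvo : ∀ n ∈ U, B n v = 0 := (mem_orth B).mp hvR.2
    have horb := ncard_orbit_le H R hRinv hv0 hvR
    have hG := ncard_orbit_isoGroup B hB S hv0
    rw [S.card] at horb
    -- `dim R ≤ n + 1`
    have hr : finrank F ↥R ≤ n + 1 := by
      have h1 : finrank F ↥R ≤ finrank F ↥U := Submodule.finrank_mono inf_le_left
      have h2 : finrank F ↥R ≤ finrank F ↥(B.orthogonal U) := Submodule.finrank_mono inf_le_right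
      omega
    by_cases hline : ∀ x ∈ R, x ∈ Submodule.span F {v}
    · -- I.a
      have hr1 : finrank F ↥R ≤ 1 := by
        have hle : R ≤ Submodule.span F {v} := hline
        have := Submodule.finrank_mono hle
        rwa [finrank_span_singleton hv0] at this
      have hch := chain_ineq (isoGroup B) H ⊥ hHG bot_le v
        (fun g hg => by rw [Subgroup.mem_bot.mp hg]; rfl)
      rw [hG, Subgroup.relIndex_bot_right] at hch
      refine Npts_le_of hq2 hch horb.1 horb.2 ?_
      calc q ^ finrank F ↥R - 1 ≤ q ^ 1 - 1 := pow_sub_one_le hq1 hr1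
        _ = 1 * (q - 1) := by rw [pow_one, one_mul]
    · -- I.b
      push Not at hline
      obtain ⟨x, hxR, hxv⟩ := hline
      obtain ⟨v', hvv⟩ := Cfsg.Agent.Lib.Helper10_MISp_KTRANS.exists_hyp B hB hN hv0
      set x₁ : V := x - B x v' • v with hx₁
      have hx₁R : x₁ ∈ R := R.sub_mem hxR (R.smul_mem _ hvR)
      have hx₁W : x₁ ∈ Wsub B v v' := by
        refine ⟨?_, ?_⟩
        · show B x₁ v = 0
          exact hvo _ hx₁R.1
        · show B x₁ v' = 0
          rw [hx₁, map_sub, LinearMap.sub_apply, map_smul, LinearMap.smul_apply, hvv, smul_eq_mul,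
            mul_one, sub_self]
      have hx₁0 : x₁ ≠ 0 := by
        intro h
        apply hxv
        rw [Submodule.mem_span_singleton]
        exact ⟨B x v', (sub_eq_zero.mp h).symm⟩
      have hne : ∃ w ∈ Wsub B v v', w ∈ U ∧ w ≠ 0 := ⟨x₁, hx₁W, hx₁R.1, hx₁0⟩
      have hnt : ∃ w ∈ Wsub B v v', w ∉ U := by
        by_contra hcon
        push Not at hcon
        obtain ⟨y, hyW, hy⟩ := Cfsg.Agent.Lib.Helper10_MISp_KTRANS.Wsub_nondegOn B hB hN hvv
          x₁ hx₁W hx₁0
        exact hy ((mem_orth B).mp hx₁R.2 y (hcon y hyW))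
      obtain ⟨hn, hj⟩ := Kv_step B S ih hvv U hne hnt
      have hch := chain_ineq (isoGroup B) H (Kv B v v') hHG (Kv_le B v v') v
        (fun g hg => hg.2.1)
      rw [hG] at hch
      refine Npts_le_of hq2 hch horb.1 horb.2 ?_
      calc q ^ finrank F ↥R - 1 ≤ q ^ (2 * n) - 1 := pow_sub_one_le hq1 (by omega)
        _ = Npts n q * (q - 1) := (Npts_mul n q).symm
        _ ≤ (stab U ⊓ isoGroup B).relIndex (Kv B v v') * (q - 1) := Nat.mul_le_mul_right _ hj

end step

/-- **Package C1**: the stabiliser of a proper nonzero subspace has index at least `N_m`. -/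
theorem C1 {F : Type*} [Field F] [Finite F] (q : ℕ) :
    ∀ m : ℕ, 1 ≤ m → ∀ (V : Type u) [AddCommGroup V] [Module F V] [FiniteDimensional F V]
      (B : LinearMap.BilinForm F V), Setting B m q → ∀ U : Submodule F V, U ≠ ⊥ → U ≠ ⊤ →
        Npts m q ≤ (stab U ⊓ isoGroup B).relIndex (isoGroup B) := by
  intro m
  induction m with
  | zero => intro h; omega
  | succ n ih =>
    intro _ V _ _ _ B S U hU0 hUt
    exact C1_step B S (fun hn => ih hn) U hU0 hUt

end Cfsg.Agent.Lib.Helper71_MISp_C1
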