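import Mathlib
import Cfsg.Agent.Lib.Helper66_MI_SpDefs
import Cfsg.Agent.Lib.Helper10_MISp_KTRANS
import Cfsg.Agent.Lib.Helper32_MISp_L1
import Cfsg.Agent.Lib.Helper32_MISp_CONJ
import Cfsg.Agent.Lib.Helper70_MISp_O1
import Cfsg.Agent.Lib.Helper66_MISp_LOCAL
import Cfsg.Agent.Lib.Helper69_MISp_E2
import Cfsg.Agent.Lib.Helper94_MI_SpDecomp
import Cfsg.Agent.Lib.Helper79_MISp_T2

/-!
# S2141 package E3 (architect helper66): in Case II, `q` even, `K_H ≠ K`  (helper73)
-/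

set_option autoImplicit false

namespace Cfsg.Agent.Lib.Helper73_MISp_E3

open Cfsg.Agent.Lib.Helper94_Symp Cfsg.Agent.Lib.Helper94_SympTI
  Cfsg.Agent.Lib.Helper94_SympPerfect Cfsg.Agent.Lib.Helper66_MI_SpDefs

variable {F V : Type*} [Field F] [AddCommGroup V] [Module F V]
variable (B : LinearMap.BilinForm F V) (hB : B.IsAlt)

/-- case (i): `Bbar = W` and `K_H = K` force `X_v ≤ H` (characteristic 2, `|F| ≥ 4`) -/
theorem root_of_Bbar_top (hN : B.Nondegenerate) [FiniteDimensional F V]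
    (hdim : 4 ≤ Module.finrank F V) (h2 : (2 : F) = 0)
    (hF : ∃ a : F, a ≠ 0 ∧ a ≠ 1) {v v' : V} (hvv : B v v' = 1) {H : Subgroup (V ≃ₗ[F] V)}
    (hK : KH B H v v' = Kv B v v')
    (hall : ∀ w ∈ Wsub B v v', w ∈ Bbar B hB H v v') : Xv B hB v ≤ H := by
  have hvW : ∀ w ∈ Wsub B v v', B v w = 0 := by
    intro w hw
    rw [alt_swap B hB, hw.1, neg_zero]
  -- transport along `K`
  have claim1 : ∀ w ∈ Wsub B v v', ∀ w' ∈ Wsub B v v', w ≠ 0 → w' ≠ 0 → ∀ t : F,
      gv B hB v w t ∈ H → gv B hB v w' t ∈ H := by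
    intro w hw w' hw' h0 h0' t ht
    obtain ⟨k, hk, hkw⟩ := Cfsg.Agent.Lib.Helper10_MISp_KTRANS.Kv_trans B hB hN hvv hw hw' h0 h0'
    rw [← hK] at hk
    have := Cfsg.Agent.Lib.Helper32_MISp_L1.E1 B hB h2 hvv hk hw ht
    rwa [hkw] at this
  have htt : ∀ t : F, t + t = 0 := by
    intro t
    rw [← two_mul, h2, zero_mul]
  -- all `g_v(w,0)` lie in `H`
  have claim2 : ∀ w ∈ Wsub B v v', gv B hB v w 0 ∈ H := by
    intro w hw
    by_cases h0 : w = 0
    · rw [h0, gv_zero_zero]; exact H.one_mem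
    obtain ⟨-, t, ht⟩ := hall w hw
    obtain ⟨lam, hl0, hl1⟩ := hF
    have hw' : lam • w ∈ Wsub B v v' := (Wsub B v v').smul_mem lam hw
    have h0' : lam • w ≠ 0 := smul_ne_zero hl0 h0
    have ht' := claim1 w hw _ hw' h0 h0' t ht
    have hprod := H.mul_mem ht ht'
    rw [gv_mul B hB (hvW w hw) (hvW _ hw')] at hprod
    have e1 : t + t + B (lam • w) w = 0 := by
      rw [htt, map_smul, LinearMap.smul_apply, hB w, smul_zero, add_zero]
    have e2 : w + lam • w = (1 + lam) • w := by rw [add_smul, one_smul]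
    rw [e1, e2] at hprod
    have hl2 : (1 + lam) ≠ 0 := by
      intro h
      apply hl1
      have : lam = -1 := by linear_combination h
      rw [this]
      linear_combination -h2
    exact claim1 _ ((Wsub B v v').smul_mem _ hw) w hw (smul_ne_zero hl2 h0) h0 0 hprod
  obtain ⟨b, hbW, b', hb'W, hbb⟩ := Cfsg.Agent.Lib.Helper10_MISp_KTRANS.exists_Wsub_pair B hB hN hvv hdim
  rintro _ ⟨c, rfl⟩
  have hx : b' + c • b ∈ Wsub B v v' :=
    (Wsub B v v').add_mem hb'W ((Wsub B v v').smul_mem c hbW)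
  have h1 := H.mul_mem (claim2 b' hb'W) (claim2 (c • b) ((Wsub B v v').smul_mem c hbW))
  rw [gv_mul B hB (hvW _ hb'W) (hvW _ ((Wsub B v v').smul_mem c hbW))] at h1
  have e1 : (0 : F) + 0 + B (c • b) b' = c := by
    rw [map_smul, LinearMap.smul_apply, hbb, smul_eq_mul, mul_one, add_zero, zero_add]
  rw [e1] at h1
  have h3 := H.mul_mem h1 (H.inv_mem (claim2 _ hx))
  rw [gv_inv B hB (hvW _ hx), gv_mul B hB (hvW _ hx) (hvW _ ((Wsub B v v').neg_mem hx))] at h3
  have e2 : b' + c • b + -(b' + c • b) = 0 := add_neg_cancel _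
  have e3 : c + -0 + B (-(b' + c • b)) (b' + c • b) = c := by
    rw [map_neg, LinearMap.neg_apply, hB]; ring
  rw [e2, e3, gv_zero] at h3
  exact h3

theorem E3 [Finite F] [FiniteDimensional F V] {m q : ℕ} (S : Setting B m q) (h2 : (2 : F) = 0)
    (hq : 4 ≤ q) (hm : 2 ≤ m) {v v' : V} (hvv : B v v' = 1) {H : Subgroup (V ≃ₗ[F] V)}
    (hH : Small B S.alt (Npts m q) H) : KH B H v v' ≠ Kv B v v' := by
  intro hK
  have hB := S.alt
  have hNR := hH.noRoot
  have hv : v ≠ 0 := by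
    rintro rfl
    rw [map_zero, LinearMap.zero_apply] at hvv
    exact zero_ne_one hvv
  have hdim : 4 ≤ Module.finrank F V := by rw [S.dim]; omega
  have hcardF : Nat.card F = q := S.card
  -- an element different from 0 and 1
  have hF : ∃ a : F, a ≠ 0 ∧ a ≠ 1 := by
    by_contra hcon
    push Not at hcon
    have : Nat.card F ≤ 2 := by
      have hfin : Fintype F := Fintype.ofFinite F
      rw [Nat.card_eq_fintype_card]
      classical
      calc Fintype.card F = (Finset.univ : Finset F).card := rfl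
        _ ≤ ({0, 1} : Finset F).card := by
          apply Finset.card_le_card
          intro a _
          by_cases ha : a = 0
          · simp [ha]
          · simp [hcon a ha]
        _ ≤ 2 := Finset.card_le_two
    omega
  obtain ⟨b, hbW, b', hb'W, hbb⟩ := Cfsg.Agent.Lib.Helper10_MISp_KTRANS.exists_Wsub_pair B hB S.nondeg hvv hdim
  have hb0 : b ≠ 0 := by
    rintro rfl
    rw [map_zero, LinearMap.zero_apply] at hbb
    exact zero_ne_one hbb
  have hinv : ∀ k ∈ Kv B v v', ∀ a ∈ Bbar B hB H v v', k a ∈ Bbar B hB H v v' := by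
    intro k hk a ha
    rw [← hK] at hk
    exact Cfsg.Agent.Lib.Helper32_MISp_L1.KH_Bbar B hB hvv hk ha
  rcases Cfsg.Agent.Lib.Helper10_MISp_KTRANS.Kv_invariant_addSubgroup B hB S.nondeg hvv (Bbar B hB H v v') hinv with h0 | hall
  swap
  · -- case (i)
    exact hNR v hv (root_of_Bbar_top B hB S.nondeg hdim h2 hF hvv hK hall)
  -- `Bbar = 0`
  have hBbar : Nat.card (Bbar B hB H v v') = 1 := by
    have : Bbar B hB H v v' = ⊥ := by
      rw [eq_bot_iff]
      intro a ha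
      rw [AddSubgroup.mem_bot]
      exact h0 a ha ha.1
    rw [this]
    exact AddSubgroup.card_bot
  have hZtop : Zv B hB H v ≠ ⊤ := Cfsg.Agent.Lib.Helper70_MISp_O1.Zv_ne_top B hNR hv
  have hL0 := Cfsg.Agent.Lib.Helper66_MISp_LOCAL.L0' B hB hvv hH.le
  rw [hK, Subgroup.relIndex_self, mul_one, hBbar, one_mul, hcardF, Cfsg.Agent.Lib.Helper66_MISp_LOCAL.card_Wsub B hB S hvv] at hL0
  have hidx := hH.idx
  set n := H.relIndex (isoGroup B) with hn
  set Wc := q ^ (2 * m - 2) with hWc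
  have hWc1 : 1 ≤ Wc := Nat.one_le_pow _ _ (by omega)
  have hNp : Npts m q * (q - 1) + 1 ≤ Wc * q ^ 2 := by
    have h1 : Npts m q * (q - 1) ≤ q ^ (2 * m) - 1 := Nat.div_mul_le_self _ _
    have h3 : q ^ (2 * m) = Wc * q ^ 2 := by
      rw [hWc, ← pow_add]; congr 1; omega
    have h4 : 1 ≤ q ^ (2 * m) := Nat.one_le_pow _ _ (by omega)
    omega
  have hTineq := Cfsg.Agent.Lib.Helper69_MISp_E2.torus_ineq_char2 h2 (Zv B hB H v) hZtop (T1 B H v v')
    (fun c hc z hz => Cfsg.Agent.Lib.Helper32_MISp_L1.T1_Zv B hB hvv hc hz)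
  obtain ⟨q', rfl⟩ : ∃ q', q = q' + 1 := ⟨q - 1, by omega⟩
  simp only [Nat.add_sub_cancel] at hL0 hNp
  by_cases hZ0 : Zv B hB H v = ⊥
  · -- case (iii)
    have hZ1 : Nat.card (Zv B hB H v) = 1 := by rw [hZ0]; exact AddSubgroup.card_bot
    rw [hZ1, one_mul] at hL0
    have hT1le := Cfsg.Agent.Lib.Helper66_MISp_LOCAL.card_T1_le B H v v'
    rw [hcardF, Nat.add_sub_cancel] at hT1le
    have hT1 : Nat.card (T1 B H v v') = q' := by
      by_contra hne
      have hlt : Nat.card (T1 B H v v') + 1 ≤ q' := by omega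
      -- Wc (q'+1) q' ≤ n |T1| ≤ n (q'-1)
      have h1 : Wc * (q' + 1) * q' ≤ n * (q' - 1) :=
        hL0.trans (Nat.mul_le_mul_left _ (by omega))
      have h2' : (n + 1) * q' ≤ Wc * (q' + 1) ^ 2 := by
        calc (n + 1) * q' ≤ Npts m (q' + 1) * q' := Nat.mul_le_mul_right _ hidx
          _ ≤ Wc * (q' + 1) ^ 2 := by omega
      obtain ⟨r, rfl⟩ : ∃ r, q' = r + 1 := ⟨q' - 1, by omega⟩
      simp only [Nat.add_sub_cancel] at h1
      nlinarith [Nat.mul_le_mul_right (r + 1) h1, Nat.mul_le_mul_right r h2']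
    have hTtop : T1 B H v v' = ⊤ := by
      apply Subgroup.eq_top_of_card_eq
      rw [hT1, Nat.card_units, hcardF, Nat.add_sub_cancel]
    obtain ⟨c, hc0, hc1⟩ := hF
    have hcmem : Units.mk0 c hc0 ∈ T1 B H v v' := by rw [hTtop]; exact Subgroup.mem_top _
    obtain ⟨l, hlD, hlv⟩ := hcmem
    rw [Units.val_mk0] at hlv
    obtain ⟨h, hhT, k, hkK, hlhk⟩ := Cfsg.Agent.Lib.Helper94_MI_SpDecomp.Lv_decomp B hB hvv (Dbar_le_Lv B H v v' hlD)
    have hkD : k ∈ Dbar B H v v' := by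
      have : k ∈ KH B H v v' := by rw [hK]; exact hkK
      exact this.1
    have hhD : h ∈ Dbar B H v v' := by
      have : h = l * k⁻¹ := by rw [hlhk]; group
      rw [this]
      exact (Dbar B H v v').mul_mem hlD ((Dbar B H v v').inv_mem hkD)
    have hhv : h v = c • v := by
      have : l v = h (k v) := by rw [hlhk]; rfl
      rw [hkK.2.1] at this
      rw [← this, hlv]
    have hc2 : c * c ≠ 1 := by
      intro hcc
      apply hc1
      have h3 : (c + 1) * (c + 1) = 0 := by linear_combination hcc + (c + 1) * h2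
      have h4 : c + 1 = 0 := by
        rcases mul_eq_zero.1 h3 with h | h <;> exact h
      linear_combination h4 - h2
    obtain ⟨x, hxQ, hDle⟩ := Cfsg.Agent.Lib.Helper79_MISp_T2.T2 B hB hvv hhT hhD hhv hc2
    have hroot : Xv B hB b ≤ conjSub x H := by
      rintro _ ⟨s, rfl⟩
      apply hDle
      have : stv B hB b s ∈ KH B H v v' := by
        rw [hK]; exact Cfsg.Agent.Lib.Helper10_MISp_KTRANS.stv_mem_Kv B hB hbW s
      exact this.1
    exact Cfsg.Agent.Lib.Helper32_MISp_CONJ.noRoot_conjSub B hB (Qv_le B v hxQ) hNR b hb0 hroot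
  · -- case (ii)
    obtain ⟨-, hf⟩ := hTineq
    obtain ⟨f, hf2, hff, hfineq⟩ := hf hZ0
    rw [hcardF] at hff hfineq
    obtain ⟨f', rfl⟩ : ∃ f', f = f' + 1 := ⟨f - 1, by omega⟩
    simp only [Nat.add_sub_cancel] at hfineq
    -- Wc (q'+1) q' ≤ n |Z| |T1|
    have h1 : Wc * (q' + 1) * q' * (f' + 1) ≤ n * (f' * (q' + 1)) := by
      calc Wc * (q' + 1) * q' * (f' + 1)
          ≤ n * (Nat.card (Zv B hB H v) * Nat.card (T1 B H v v')) * (f' + 1) :=
            Nat.mul_le_mul_right _ hL0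
        _ = n * (Nat.card (T1 B H v v') * Nat.card (Zv B hB H v) * (f' + 1)) := by ring
        _ ≤ n * (f' * (q' + 1)) := Nat.mul_le_mul_left _ hfineq
    have h1' : Wc * q' * (f' + 1) ≤ n * f' := by
      have : (q' + 1) * (Wc * q' * (f' + 1)) ≤ (q' + 1) * (n * f') := by
        calc (q' + 1) * (Wc * q' * (f' + 1)) = Wc * (q' + 1) * q' * (f' + 1) := by ring
          _ ≤ n * (f' * (q' + 1)) := h1
          _ = (q' + 1) * (n * f') := by ring
      exact Nat.le_of_mul_le_mul_left this (by omega)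
    have h2' : (n + 1) * q' ≤ Wc * (q' + 1) ^ 2 := by
      calc (n + 1) * q' ≤ Npts m (q' + 1) * q' := Nat.mul_le_mul_right _ hidx
        _ ≤ Wc * (q' + 1) ^ 2 := by omega
    -- (q-1)^2 f < q^2 (f-1)
    have h3 : Wc * q' * q' * (f' + 1) + f' * q' ≤ Wc * (q' + 1) ^ 2 * f' := by
      calc Wc * q' * q' * (f' + 1) + f' * q' = (Wc * q' * (f' + 1)) * q' + f' * q' := by ring
        _ ≤ (n * f') * q' + f' * q' := by
          exact Nat.add_le_add_right (Nat.mul_le_mul_right _ h1') _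
        _ = (n + 1) * q' * f' := by ring
        _ ≤ Wc * (q' + 1) ^ 2 * f' := Nat.mul_le_mul_right _ h2'
    -- 2 f ≤ q
    have h4 : 2 * (f' + 1) ≤ q' + 1 := by nlinarith
    have hf'1 : 1 ≤ f' := by omega
    have hq'3 : 3 ≤ q' := by omega
    -- contradiction: Wc q'^2 (f'+1) + f' q' ≤ Wc (q'+1)^2 f'
    -- i.e. Wc (q'^2 + ...) : q'^2 f' + q'^2 + ... ≤ (q'^2 + 2q' + 1) f'  => Wc q'^2 + f' q' ≤ Wc (2 q' + 1) f'
    have h5 : Wc * q' * q' + f' * q' ≤ Wc * (2 * q' + 1) * f' := by nlinarith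
    -- 2 f' + 2 ≤ q' + 1 → (2q'+1) f' ≤ ... < q'^2
    have h6 : (2 * q' + 1) * f' * 2 ≤ (2 * q' + 1) * (q' - 1) := by
      have : f' * 2 ≤ q' - 1 := by omega
      calc (2 * q' + 1) * f' * 2 = (2 * q' + 1) * (f' * 2) := by ring
        _ ≤ (2 * q' + 1) * (q' - 1) := Nat.mul_le_mul_left _ this
    obtain ⟨r, rfl⟩ : ∃ r, q' = r + 1 := ⟨q' - 1, by omega⟩
    simp only [Nat.add_sub_cancel] at h6
    nlinarith

end Cfsg.Agent.Lib.Helper73_MISp_E3
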