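import Mathlib
import Cfsg.Agent.Lib.Helper66_MI_SpDefs
import Cfsg.Agent.Lib.Helper94_MI_SpDecomp
import Cfsg.Agent.Lib.Helper94_MI_SpKiso
import Cfsg.Agent.Lib.Helper32_MISp_CONJ
import Cfsg.Agent.Lib.Helper10_MISp_GV
import Cfsg.Agent.Lib.Helper10_MISp_KTRANS

set_option autoImplicit false

/-!
# S2141 package O4d (architect helper66): the weight argument in `Sp_4(q)`, `q ≥ 5` odd.

If `Bbar = F b` and `Dbar ⊇ Stab_K(F b)` then a `Q_v`-conjugate of `H` contains the root group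
`X_b`.  Proof: conjugate `H` by an element of `Q_v` so that it contains the torus
`h(μ) : b ↦ μ b, b' ↦ μ⁻¹ b'` (all `μ`); the element `h(-1)` shows that every element of
`H ∩ Q_v U_b` lies in the abelian group `{g_v(α b, t) t_b(c)} ≅ F³`, on which `h(μ)` acts by
`(t, α, c) ↦ (t, μ α, μ² c)`; summing over all `μ ∈ Fˣ` kills the last two coordinates.
-/

namespace Cfsg.Agent.Lib.Helper93_MISp_O4d

open Module Cfsg.Agent.Lib.Helper94_Symp Cfsg.Agent.Lib.Helper94_SympTI
  Cfsg.Agent.Lib.Helper94_SympPerfect Cfsg.Agent.Lib.Helper66_MI_SpDefs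
  Cfsg.Agent.Lib.Helper94_MI_SpKiso Cfsg.Agent.Lib.Helper94_MI_SpDecomp

variable {F V : Type*} [Field F] [AddCommGroup V] [Module F V]
variable (B : LinearMap.BilinForm F V) (hB : B.IsAlt)

/-! ### the torus `h(c)` -/

lemma torE_congr {v v' : V} (hvv : B v v' = 1) {c d : F} (hc : c ≠ 0) (hd : d ≠ 0) (h : c = d) :
    torE B hB hvv hc = torE B hB hvv hd := by
  subst h; rfl

lemma torE_mul {v v' : V} (hvv : B v v' = 1) {c d : F} (hc : c ≠ 0) (hd : d ≠ 0) :
    torE B hB hvv hc * torE B hB hvv hd = torE B hB hvv (mul_ne_zero hc hd) := by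
  apply eq_of_agree B hB hvv
  · rw [LinearEquiv.mul_apply, torE_v, map_smul, torE_v, torE_v, smul_smul, mul_comm]
  · rw [LinearEquiv.mul_apply, torE_v', map_smul, torE_v', torE_v', smul_smul, mul_inv, mul_comm]
  · intro w hw
    rw [LinearEquiv.mul_apply, torE_of_mem B hB hvv hd hw, torE_of_mem B hB hvv hc hw,
      torE_of_mem B hB hvv _ hw]

lemma torE_one {v v' : V} (hvv : B v v' = 1) : torE B hB hvv (one_ne_zero : (1 : F) ≠ 0) = 1 := by
  apply eq_of_agree B hB hvv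
  · rw [torE_v, one_smul]; rfl
  · rw [torE_v', inv_one, one_smul]; rfl
  · intro w hw
    rw [torE_of_mem B hB hvv _ hw]; rfl

lemma torE_pow {v v' : V} (hvv : B v v' = 1) {c : F} (hc : c ≠ 0) (n : ℕ) :
    torE B hB hvv hc ^ n = torE B hB hvv (pow_ne_zero n hc) := by
  induction n with
  | zero =>
    rw [pow_zero, ← torE_one B hB hvv]
    exact torE_congr B hB hvv _ _ (pow_zero c).symm
  | succ n ih =>
    rw [pow_succ, ih, torE_mul]
    exact torE_congr B hB hvv _ _ (pow_succ c n).symm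

lemma stv_zero_right (v : V) : stv B hB v 0 = 1 := by
  ext x; simp

lemma stv_pow (v : V) (c : F) (n : ℕ) : stv B hB v c ^ n = stv B hB v (n * c) := by
  induction n with
  | zero => rw [pow_zero, Nat.cast_zero, zero_mul, stv_zero_right]
  | succ n ih =>
    rw [pow_succ, ih, stv_mul]
    congr 1
    push_cast; ring

/-! ### the second hyperbolic pair `(b, b')` inside `W` -/

section pair

variable {v v' b b' : V} (hvv : B v v' = 1) (hb : b ∈ Wsub B v v') (hb' : b' ∈ Wsub B v v')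
  (hbb : B b b' = 1)

include hB hb hb' in
lemma v_mem_Wsub : v ∈ Wsub B b b' ∧ v' ∈ Wsub B b b' := by
  have h1 := W_swap B hB hb
  have h2 := W_swap B hB hb'
  exact ⟨⟨h1.1, h2.1⟩, ⟨h1.2, h2.2⟩⟩

include hb hb' in
lemma torE_mem_Kv {c : F} (hc : c ≠ 0) : torE B hB hbb hc ∈ Kv B v v' := by
  have h := v_mem_Wsub B hB hb hb'
  exact ⟨torE_mem_isoGroup B hB hbb hc, torE_of_mem B hB hbb hc h.1, torE_of_mem B hB hbb hc h.2⟩

include hB hvv hb hb' hbb in
/-- in dimension 4, `W = ⟨b, b'⟩` -/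
lemma W_decomp [FiniteDimensional F V] (hdim : finrank F V = 4) {w : V}
    (hw : w ∈ Wsub B v v') : w = B w b' • b - B w b • b' := by
  have hW2 : finrank F ↥(Wsub B v v') = 2 := by
    have := finrank_Wsub_add_two B hB hvv
    omega
  set B' := B.restrict (Wsub B v v') with hB'
  have hB'alt : B'.IsAlt := restrict_isAlt B hB v v'
  have hbb' : B' ⟨b, hb⟩ ⟨b', hb'⟩ = 1 := hbb
  have h0 : finrank F ↥(Wsub B' ⟨b, hb⟩ ⟨b', hb'⟩) = 0 := by
    have := finrank_Wsub_add_two B' hB'alt hbb'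
    omega
  have hbot : Wsub B' ⟨b, hb⟩ ⟨b', hb'⟩ = ⊥ := Submodule.finrank_eq_zero.1 h0
  have hbb1 : B b' b = -1 := swap_one B hB hbb
  have hmem : (⟨w - (B w b' • b - B w b • b'), (Wsub B v v').sub_mem hw
      ((Wsub B v v').sub_mem ((Wsub B v v').smul_mem _ hb) ((Wsub B v v').smul_mem _ hb'))⟩ :
        ↥(Wsub B v v')) ∈ Wsub B' ⟨b, hb⟩ ⟨b', hb'⟩ := by
    constructor
    · show B (w - (B w b' • b - B w b • b')) b = 0
      simp only [map_sub, map_smul, LinearMap.sub_apply, LinearMap.smul_apply, smul_eq_mul,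
        hB b, hbb1]
      ring
    · show B (w - (B w b' • b - B w b • b')) b' = 0
      simp only [map_sub, map_smul, LinearMap.sub_apply, LinearMap.smul_apply, smul_eq_mul,
        hB b', hbb]
      ring
  rw [hbot, Submodule.mem_bot] at hmem
  have := congrArg Subtype.val hmem
  exact sub_eq_zero.1 this

end pair

/-! ### the abelian group `{g_v(α b, t) t_b(c)} ≅ F³` -/

/-- `φ(t, α, c) = g_v(α b, t) t_b(c)` -/
def phi (v b : V) (p : F × F × F) : V ≃ₗ[F] V :=
  gv B hB v (p.2.1 • b) p.1 * stv B hB b p.2.2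

section main

variable {v v' b b' : V} (hvv : B v v' = 1) (hb : b ∈ Wsub B v v') (hb' : b' ∈ Wsub B v v')
  (hbb : B b b' = 1)

include hb in
lemma stv_comm_gv (α t c : F) :
    stv B hB b c * gv B hB v (α • b) t = gv B hB v (α • b) t * stv B hB b c := by
  have h1 := (W_swap B hB hb).1
  have h := conj_gv B hB (stv_mem_isoGroup B hB b c) v (α • b) t
  rw [stv_fix B hB c h1, stv_fix B hB c (by rw [map_smul, LinearMap.smul_apply, hB b, smul_zero])]
    at h
  exact mul_inv_eq_iff_eq_mul.1 h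

include hb in
lemma phi_add (p p' : F × F × F) :
    phi B hB v b (p + p') = phi B hB v b p * phi B hB v b p' := by
  obtain ⟨t, α, c⟩ := p
  obtain ⟨t', α', c'⟩ := p'
  have h1 := (W_swap B hB hb).1
  have e1 : B v (α • b) = 0 := by rw [map_smul, h1, smul_zero]
  have e2 : B v (α' • b) = 0 := by rw [map_smul, h1, smul_zero]
  show gv B hB v ((α + α') • b) (t + t') * stv B hB b (c + c') =
    gv B hB v (α • b) t * stv B hB b c * (gv B hB v (α' • b) t' * stv B hB b c')
  have e3 : gv B hB v (α • b) t * stv B hB b c * (gv B hB v (α' • b) t' * stv B hB b c') =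
      gv B hB v (α • b) t * (stv B hB b c * gv B hB v (α' • b) t') * stv B hB b c' := by group
  rw [e3, stv_comm_gv B hB hb]
  have e4 : gv B hB v (α • b) t * (gv B hB v (α' • b) t' * stv B hB b c) * stv B hB b c' =
      gv B hB v (α • b) t * gv B hB v (α' • b) t' * (stv B hB b c * stv B hB b c') := by group
  rw [e4, gv_mul B hB e1 e2, stv_mul]
  have e5 : B (α' • b) (α • b) = 0 := by
    simp only [map_smul, LinearMap.smul_apply, hB b, smul_zero]
  rw [e5, add_zero, add_smul]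

lemma phi_zero : phi B hB v b 0 = 1 := by
  show gv B hB v ((0 : F) • b) 0 * stv B hB b 0 = 1
  rw [zero_smul, gv_zero_zero, stv_zero_right, one_mul]

/-- the additive subgroup `{p : φ(p) ∈ H}` of `F³` -/
def Sgrp (H : Subgroup (V ≃ₗ[F] V)) (v b : V) (hb : b ∈ Wsub B v v') : AddSubgroup (F × F × F) where
  carrier := {p | phi B hB v b p ∈ H}
  add_mem' := by
    intro p p' hp hp'
    show phi B hB v b (p + p') ∈ H
    rw [phi_add B hB hb]
    exact H.mul_mem hp hp'
  zero_mem' := by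
    show phi B hB v b 0 ∈ H
    rw [phi_zero]
    exact H.one_mem
  neg_mem' := by
    intro p hp
    show phi B hB v b (-p) ∈ H
    have : phi B hB v b (-p) = (phi B hB v b p)⁻¹ := by
      apply eq_inv_of_mul_eq_one_left
      rw [← phi_add B hB hb, neg_add_cancel, phi_zero]
    rw [this]
    exact H.inv_mem hp

lemma mem_Sgrp {H : Subgroup (V ≃ₗ[F] V)} {p : F × F × F} :
    p ∈ Sgrp B hB H v b hb ↔ phi B hB v b p ∈ H := Iff.rfl

include hb hb' in
/-- the torus acts on `F³` by `(t, α, c) ↦ (t, μ α, μ² c)` -/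
lemma torE_conj_phi {μ : F} (hμ : μ ≠ 0) (t α c : F) :
    torE B hB hbb hμ * phi B hB v b (t, α, c) * (torE B hB hbb hμ)⁻¹ =
      phi B hB v b (t, μ * α, μ * μ * c) := by
  have hK := torE_mem_Kv B hB hb hb' hbb hμ (v := v) (v' := v')
  show torE B hB hbb hμ * (gv B hB v (α • b) t * stv B hB b c) * (torE B hB hbb hμ)⁻¹ =
    gv B hB v ((μ * α) • b) t * stv B hB b (μ * μ * c)
  have e : torE B hB hbb hμ * (gv B hB v (α • b) t * stv B hB b c) * (torE B hB hbb hμ)⁻¹ =
      (torE B hB hbb hμ * gv B hB v (α • b) t * (torE B hB hbb hμ)⁻¹) *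
        (torE B hB hbb hμ * stv B hB b c * (torE B hB hbb hμ)⁻¹) := by group
  rw [e, conj_gv B hB hK.1, conj_stv B hB hK.1, hK.2.1, map_smul, torE_v, stv_smul, smul_smul,
    mul_comm α μ]

include hb hb' in
/-- killing the `t`-coordinate: sum over all `μ ∈ Fˣ` -/
lemma Sgrp_kill [Finite F] (hq : 5 ≤ Nat.card F) {H : Subgroup (V ≃ₗ[F] V)}
    (hT : ∀ (μ : F) (hμ : μ ≠ 0), torE B hB hbb hμ ∈ H) {t α c : F}
    (h : (t, α, c) ∈ Sgrp B hB H v b hb) : (0, α, c) ∈ Sgrp B hB H v b hb := by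
  classical
  haveI : Fintype F := Fintype.ofFinite F
  have hcard : Fintype.card F = Nat.card F := Nat.card_eq_fintype_card.symm
  have hq' : 5 ≤ Fintype.card F := by rw [hcard]; exact hq
  have hs1 : (∑ μ : Fˣ, (μ : F)) = 0 := by
    have := FiniteField.sum_pow_units F 1
    simp only [pow_one] at this
    rw [this, if_neg]
    intro hdvd
    have := Nat.le_of_dvd one_pos hdvd
    omega
  have hs2 : (∑ μ : Fˣ, (μ : F) * (μ : F)) = 0 := by
    have := FiniteField.sum_pow_units F 2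
    simp only [pow_two] at this
    rw [this, if_neg]
    intro hdvd
    have := Nat.le_of_dvd two_pos hdvd
    omega
  have hs0 : ((Fintype.card Fˣ : ℕ) : F) = -1 := by
    rw [Fintype.card_units, Nat.cast_sub (by omega), FiniteField.cast_card_eq_zero, Nat.cast_one,
      zero_sub]
  -- invariance
  have hinv : ∀ μ : Fˣ, (t, (μ : F) * α, (μ : F) * (μ : F) * c) ∈ Sgrp B hB H v b hb := by
    intro μ
    rw [mem_Sgrp, ← torE_conj_phi B hB hb hb' hbb μ.ne_zero]
    exact H.mul_mem (H.mul_mem (hT _ μ.ne_zero) h) (H.inv_mem (hT _ μ.ne_zero))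
  have hsum : (∑ μ : Fˣ, (t, (μ : F) * α, (μ : F) * (μ : F) * c)) ∈ Sgrp B hB H v b hb :=
    AddSubgroup.sum_mem _ (fun μ _ => hinv μ)
  have hval : (∑ μ : Fˣ, (t, (μ : F) * α, (μ : F) * (μ : F) * c)) = (-t, 0, 0) := by
    refine Prod.ext ?_ (Prod.ext ?_ ?_)
    · rw [Prod.fst_sum]
      simp only [Finset.sum_const, Finset.card_univ, nsmul_eq_mul, hs0]
      ring
    · rw [Prod.snd_sum, Prod.fst_sum]
      simp only
      rw [← Finset.sum_mul, hs1, zero_mul]
    · rw [Prod.snd_sum, Prod.snd_sum]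
      simp only
      rw [← Finset.sum_mul, hs2, zero_mul]
  rw [hval] at hsum
  have := (Sgrp B hB H v b hb).add_mem h hsum
  have e : ((t, α, c) : F × F × F) + (-t, 0, 0) = (0, α, c) := by
    refine Prod.ext ?_ (Prod.ext ?_ ?_) <;> simp
  rwa [e] at this

include hB hvv hb hb' hbb in
/-- the main lemma: if `H` contains the torus `h(μ)`, all `μ`, then `X_b ≤ H` -/
theorem main_lemma [Finite F] [FiniteDimensional F V] (hdim : finrank F V = 4) (h2 : (2 : F) ≠ 0)
    (hq : 5 ≤ Nat.card F) (H : Subgroup (V ≃ₗ[F] V))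
    (hT : ∀ (μ : F) (hμ : μ ≠ 0), torE B hB hbb hμ ∈ H)
    (hBbar1 : ∀ w ∈ Wsub B v v', ∀ t : F, gv B hB v w t ∈ H → ∃ c : F, w = c • b)
    (hBbar2 : ∀ α : F, ∃ t : F, gv B hB v (α • b) t ∈ H)
    (hBo : ∀ c : F, ∃ g ∈ Qv B v, g * stv B hB b c ∈ H) (c : F) :
    stv B hB b c ∈ H := by
  obtain ⟨g, hg, hgH⟩ := hBo c
  obtain ⟨w, hw, t, rfl⟩ := Qv_param B hB hvv hg
  have hvw := (W_swap B hB hw).1
  -- the involution `h(-1)`
  have hm1 : (-1 : F) ≠ 0 := neg_ne_zero.2 one_ne_zero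
  have hK := torE_mem_Kv B hB hb hb' hbb hm1 (v := v) (v' := v')
  have hhw : torE B hB hbb hm1 w = -w := by
    have hwd := W_decomp B hB hvv hb hb' hbb hdim hw
    have h3 : torE B hB hbb hm1 w = B w b' • (-1 : F) • b - B w b • (-1 : F)⁻¹ • b' := by
      conv_lhs => rw [hwd]
      rw [map_sub, map_smul, map_smul, torE_v, torE_v']
    rw [h3]
    conv_rhs => rw [hwd]
    rw [inv_neg_one]
    module
  have hk : torE B hB hbb hm1 * (gv B hB v w t * stv B hB b c) * (torE B hB hbb hm1)⁻¹ =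
      gv B hB v (-w) t * stv B hB b c := by
    have e : torE B hB hbb hm1 * (gv B hB v w t * stv B hB b c) * (torE B hB hbb hm1)⁻¹ =
        (torE B hB hbb hm1 * gv B hB v w t * (torE B hB hbb hm1)⁻¹) *
          (torE B hB hbb hm1 * stv B hB b c * (torE B hB hbb hm1)⁻¹) := by group
    rw [e, conj_gv B hB hK.1, conj_stv B hB hK.1, hK.2.1, hhw, torE_v, stv_smul]
    congr 2
    ring
  have hkH : gv B hB v (-w) t * stv B hB b c ∈ H := by
    rw [← hk]
    exact H.mul_mem (H.mul_mem (hT _ hm1) hgH) (H.inv_mem (hT _ hm1))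
  have hvnw : B v (-w) = 0 := by rw [map_neg, hvw, neg_zero]
  have h2w : gv B hB v (w + w) 0 ∈ H := by
    have e : gv B hB v (w + w) 0 =
        (gv B hB v w t * stv B hB b c) * (gv B hB v (-w) t * stv B hB b c)⁻¹ := by
      have e1 : (gv B hB v w t * stv B hB b c) * (gv B hB v (-w) t * stv B hB b c)⁻¹ =
          gv B hB v w t * (gv B hB v (-w) t)⁻¹ := by group
      rw [e1, gv_inv B hB hvnw, neg_neg, gv_mul B hB hvw hvw, hB w]
      congr 1
      ring
    rw [e]
    exact H.mul_mem hgH (H.inv_mem hkH)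
  obtain ⟨c', hc'⟩ := hBbar1 (w + w) ((Wsub B v v').add_mem hw hw) 0 h2w
  have hwα : w = (c' / 2) • b := by
    have : (2 : F) • w = c' • b := by rw [two_smul, hc']
    calc w = (2 : F)⁻¹ • ((2 : F) • w) := by rw [smul_smul, inv_mul_cancel₀ h2, one_smul]
      _ = (c' / 2) • b := by rw [this, smul_smul]; congr 1; field_simp
  -- now everything happens in `F³`
  have h1 : (t, c' / 2, c) ∈ Sgrp B hB H v b hb := by
    rw [mem_Sgrp]
    show gv B hB v ((c' / 2) • b) t * stv B hB b c ∈ H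
    rw [← hwα]
    exact hgH
  have h1' := Sgrp_kill B hB hb hb' hbb hq hT h1
  obtain ⟨t', ht'⟩ := hBbar2 (c' / 2)
  have h3 : (t', c' / 2, 0) ∈ Sgrp B hB H v b hb := by
    rw [mem_Sgrp]
    show gv B hB v ((c' / 2) • b) t' * stv B hB b 0 ∈ H
    rw [stv_zero_right, mul_one]
    exact ht'
  have h3' := Sgrp_kill B hB hb hb' hbb hq hT h3
  have h4 := (Sgrp B hB H v b hb).sub_mem h1' h3'
  have e : ((0, c' / 2, c) : F × F × F) - (0, c' / 2, 0) = (0, 0, c) := by
    refine Prod.ext ?_ (Prod.ext ?_ ?_) <;> simp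
  rw [e, mem_Sgrp] at h4
  have e2 : phi B hB v b (0, 0, c) = stv B hB b c := by
    show gv B hB v ((0 : F) • b) 0 * stv B hB b c = stv B hB b c
    rw [zero_smul, gv_zero_zero, one_mul]
  rwa [e2] at h4

include hvv hb hb' in
/-- Step A: a lift `g_v(w,t) h(μ)` of a torus element with `μ ≠ 1` is `Q_v`-conjugate to
`t_v(t') h(μ)` -/
lemma lift_conj [FiniteDimensional F V] (hdim : finrank F V = 4) {μ : F} (hμ : μ ≠ 0)
    (hμ1 : μ ≠ 1) {w : V} (hw : w ∈ Wsub B v v') (t : F) :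
    ∃ a ∈ Wsub B v v', ∃ t' : F,
      (gv B hB v (-a) 0)⁻¹ * (stv B hB v t' * torE B hB hbb hμ) * gv B hB v (-a) 0 =
        gv B hB v w t * torE B hB hbb hμ := by
  have hK := torE_mem_Kv B hB hb hb' hbb hμ (v := v) (v' := v')
  have hwd := W_decomp B hB hvv hb hb' hbb hdim hw
  have h1 : (1 : F) - μ ≠ 0 := sub_ne_zero.2 (Ne.symm hμ1)
  have h1' : (1 : F) - μ⁻¹ ≠ 0 := by
    intro h
    apply hμ1
    have : μ⁻¹ = 1 := (sub_eq_zero.1 h).symm
    rw [← inv_inv μ, this, inv_one]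
  set a : V := (B w b' / (1 - μ)) • b - (B w b / (1 - μ⁻¹)) • b' with ha
  have haW : a ∈ Wsub B v v' :=
    (Wsub B v v').sub_mem ((Wsub B v v').smul_mem _ hb) ((Wsub B v v').smul_mem _ hb')
  have hha : torE B hB hbb hμ a = (B w b' / (1 - μ)) • μ • b - (B w b / (1 - μ⁻¹)) • μ⁻¹ • b' := by
    rw [ha, map_sub, map_smul, map_smul, torE_v, torE_v']
  have hdiff : a + -(torE B hB hbb hμ a) = w := by
    rw [hha]
    conv_rhs => rw [hwd]
    rw [ha]
    have e1 : B w b' / (1 - μ) - B w b' / (1 - μ) * μ = B w b' := by field_simp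
    have e2 : B w b / (1 - μ⁻¹) - B w b / (1 - μ⁻¹) * μ⁻¹ = B w b := by
      field_simp
    calc (B w b' / (1 - μ)) • b - (B w b / (1 - μ⁻¹)) • b' +
          -((B w b' / (1 - μ)) • μ • b - (B w b / (1 - μ⁻¹)) • μ⁻¹ • b')
        = (B w b' / (1 - μ) - B w b' / (1 - μ) * μ) • b -
          (B w b / (1 - μ⁻¹) - B w b / (1 - μ⁻¹) * μ⁻¹) • b' := by module
      _ = B w b' • b - B w b • b' := by rw [e1, e2]
  have hva := (W_swap B hB haW).1
  have hvna : B v (-a) = 0 := by rw [map_neg, hva, neg_zero]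
  have hvha : B v (-(torE B hB hbb hμ a)) = 0 := by
    have := (W_swap B hB (Kv_map_mem B hK haW)).1
    rw [map_neg, this, neg_zero]
  have hv0 : B v (0 : V) = 0 := by simp
  refine ⟨a, haW, t + B (torE B hB hbb hμ a) a, ?_⟩
  have hinv : (gv B hB v (-a) 0)⁻¹ = gv B hB v a 0 := by
    rw [gv_inv B hB hvna, neg_neg, neg_zero]
  have hconj : torE B hB hbb hμ * gv B hB v (-a) 0 =
      gv B hB v (-(torE B hB hbb hμ a)) 0 * torE B hB hbb hμ := by
    have := conj_gv B hB hK.1 v (-a) 0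
    rw [hK.2.1, map_neg] at this
    rw [← this]
    group
  rw [hinv, ← gv_zero]
  calc gv B hB v a 0 * (gv B hB v 0 (t + B (torE B hB hbb hμ a) a) * torE B hB hbb hμ) *
        gv B hB v (-a) 0
      = gv B hB v a 0 * gv B hB v 0 (t + B (torE B hB hbb hμ a) a) *
          (torE B hB hbb hμ * gv B hB v (-a) 0) := by group
    _ = gv B hB v a 0 * gv B hB v 0 (t + B (torE B hB hbb hμ a) a) *
          gv B hB v (-(torE B hB hbb hμ a)) 0 * torE B hB hbb hμ := by rw [hconj]; group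
    _ = gv B hB v w t * torE B hB hbb hμ := by
      have hva0 : B v (a + 0) = 0 := by rw [add_zero]; exact hva
      rw [gv_mul B hB hva hv0, gv_mul B hB hva0 hvha]
      congr 2
      · rw [add_zero]; exact hdiff
      · simp only [map_neg, LinearMap.neg_apply, map_zero, LinearMap.zero_apply, map_add]
        ring

end main

/-- **package O4d** -/
theorem O4d [Finite F] [FiniteDimensional F V] {q : ℕ} (S : Setting B 2 q) (h2 : (2 : F) ≠ 0)
    (hq : 5 ≤ q) {v v' : V} (hvv : B v v' = 1) {H : Subgroup (V ≃ₗ[F] V)}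
    (hHle : H ≤ isoGroup B) {b : V} (hbW : b ∈ Wsub B v v') (hb0 : b ≠ 0)
    (hBbar : ∀ w, w ∈ Bbar B S.alt H v v' ↔ ∃ c : F, w = c • b)
    (hBo : ∀ k ∈ Kv B v v', (∃ c : F, k b = c • b) → k ∈ Dbar B H v v') :
    ∃ x ∈ Qv B v, Xv B S.alt b ≤ conjSub x H := by
  classical
  have hB := S.alt
  have hdim : finrank F V = 4 := by rw [S.dim]
  have hqF : 5 ≤ Nat.card F := by rw [S.card]; exact hq
  -- the partner `b'`
  obtain ⟨b', hb', hbb⟩ : ∃ b' ∈ Wsub B v v', B b b' = 1 := by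
    obtain ⟨x, hx, hxb⟩ :=
      Cfsg.Agent.Lib.Helper10_MISp_KTRANS.Wsub_nondegOn B hB S.nondeg hvv b hbW hb0
    refine ⟨(-(B x b)⁻¹) • x, (Wsub B v v').smul_mem _ hx, ?_⟩
    rw [map_smul, smul_eq_mul, alt_swap B hB b x]
    field_simp
  -- a generator of `Fˣ`
  obtain ⟨g, hg⟩ := IsCyclic.exists_generator (α := Fˣ)
  have hg1 : (g : F) ≠ 1 := by
    intro h
    have hg' : g = 1 := Units.ext h
    obtain ⟨n, hn⟩ := hg (-1)
    rw [hg'] at hn
    simp only [one_zpow] at hn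
    have h3 : (1 : F) = -1 := by
      have := congrArg Units.val hn
      simpa using this
    apply h2
    linear_combination h3
  -- a lift of `h(g)`
  have hK0 := torE_mem_Kv B hB hbW hb' hbb g.ne_zero (v := v) (v' := v')
  obtain ⟨-, y, hy, hyH⟩ := (mem_Dbar B).1 (hBo _ hK0 ⟨(g : F), torE_v B hB hbb g.ne_zero⟩)
  obtain ⟨w, hw, t, rfl⟩ := Qv_param B hB hvv hy
  obtain ⟨a, haW, t', hat⟩ := lift_conj B hB hvv hbW hb' hbb hdim g.ne_zero hg1 hw t
  have hva := (W_swap B hB haW).1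
  have hvna : B v (-a) = 0 := by rw [map_neg, hva, neg_zero]
  have hxQ : gv B hB v (-a) 0 ∈ Qv B v := gv_mem_Qv B hB hvna 0
  refine ⟨gv B hB v (-a) 0, hxQ, ?_⟩
  -- `t_v(t') h(g)` lies in the conjugate
  have hz : stv B hB v t' * torE B hB hbb g.ne_zero ∈ conjSub (gv B hB v (-a) 0) H := by
    rw [mem_conjSub, hat]
    exact hyH
  -- its `q`-th power is `h(g)`
  haveI : Fintype F := Fintype.ofFinite F
  have hcard : Fintype.card F = Nat.card F := Nat.card_eq_fintype_card.symm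
  have hcomm : Commute (stv B hB v t') (torE B hB hbb g.ne_zero) := by
    have := conj_stv B hB hK0.1 v t'
    rw [hK0.2.1] at this
    exact (mul_inv_eq_iff_eq_mul.1 this).symm
  have hpow : (stv B hB v t' * torE B hB hbb g.ne_zero) ^ Fintype.card F =
      torE B hB hbb g.ne_zero := by
    rw [hcomm.mul_pow, stv_pow, FiniteField.cast_card_eq_zero, zero_mul, stv_zero_right, one_mul,
      torE_pow]
    exact torE_congr B hB hbb _ _ (FiniteField.pow_card _)
  have hh0 : torE B hB hbb g.ne_zero ∈ conjSub (gv B hB v (-a) 0) H := by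
    rw [← hpow]
    exact (conjSub _ H).pow_mem hz _
  -- the whole torus
  have hT : ∀ (μ : F) (hμ : μ ≠ 0), torE B hB hbb hμ ∈ conjSub (gv B hB v (-a) 0) H := by
    intro μ hμ
    have hmem := hg (Units.mk0 μ hμ)
    rw [← mem_powers_iff_mem_zpowers] at hmem
    obtain ⟨n, hn⟩ := hmem
    have hn' : (g : F) ^ n = μ := by
      have := congrArg Units.val hn
      simpa using this
    have : torE B hB hbb hμ = torE B hB hbb g.ne_zero ^ n := by
      rw [torE_pow]
      exact torE_congr B hB hbb _ _ hn'.symm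
    rw [this]
    exact (conjSub _ H).pow_mem hh0 _
  -- local data of the conjugate
  have hBb := Cfsg.Agent.Lib.Helper32_MISp_CONJ.Bbar_conjSub_Qv B hB hvv hxQ H
  have hDb := Cfsg.Agent.Lib.Helper32_MISp_CONJ.Dbar_conjSub_Qv B hB hvv hxQ H
  rintro _ ⟨c, rfl⟩
  refine main_lemma B hB hvv hbW hb' hbb hdim h2 hqF _ hT ?_ ?_ ?_ c
  · intro w hw t ht
    have : w ∈ Bbar B hB (conjSub (gv B hB v (-a) 0) H) v v' := (mem_Bbar B hB).2 ⟨hw, t, ht⟩
    rw [hBb] at this
    exact (hBbar w).1 this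
  · intro α
    have : α • b ∈ Bbar B hB (conjSub (gv B hB v (-a) 0) H) v v' := by
      rw [hBb]
      exact (hBbar _).2 ⟨α, rfl⟩
    exact ((mem_Bbar B hB).1 this).2
  · intro c
    have hk : stv B hB b c ∈ Kv B v v' := Cfsg.Agent.Lib.Helper10_MISp_KTRANS.stv_mem_Kv B hB hbW c
    have : stv B hB b c ∈ Dbar B (conjSub (gv B hB v (-a) 0) H) v v' := by
      rw [hDb]
      refine hBo _ hk ⟨1, ?_⟩
      rw [stv_fix B hB c (hB b), one_smul]
    exact ((mem_Dbar B).1 this).2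

end Cfsg.Agent.Lib.Helper93_MISp_O4d
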