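import Mathlib
import Cfsg.Agent.Lib.Helper66_MI_SpDefs
import Cfsg.Agent.Lib.Helper73_MISp_O2
import Cfsg.Agent.Lib.Helper10_MISp_O4b
import Cfsg.Agent.Lib.Helper66_MISp_LOCAL
import Cfsg.Agent.Lib.Helper70_MISp_O1
import Cfsg.Agent.Lib.Helper70_MISp_O4c1
import Cfsg.Agent.Lib.Helper66_MISp_O4c23
import Cfsg.Agent.Lib.Helper93_MISp_O4d
import Cfsg.Agent.Lib.Helper32_MISp_CONJ

/-!
# S2141 / MISp-O4 (architect helper66): assembly of Case II for `Sp_4(q)`, `q ≥ 5` odd.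

`caseII_odd_two_of` takes the statements of the packages O2, O4b, O4c1, O4c2, O4c3, O4d and
`noRoot_conjSub` (specialised to the given `H`, `v`, `v'`) as explicit hypotheses.
-/

set_option autoImplicit false
set_option linter.unusedSectionVars false
set_option linter.unusedVariables false

namespace Cfsg.Agent.Lib.Helper84_MISp_O4

open Cfsg.Agent.Lib.Helper94_Symp Cfsg.Agent.Lib.Helper94_SympTI
  Cfsg.Agent.Lib.Helper94_SympPerfect Cfsg.Agent.Lib.Helper66_MI_SpDefs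

variable {F V : Type*} [Field F] [AddCommGroup V] [Module F V]
variable (B : LinearMap.BilinForm F V) (hB : B.IsAlt)

theorem caseII_odd_two_of {H : Subgroup (V ≃ₗ[F] V)} {v v' : V}
    (hO2 : KH B H v v' = Kv B v v' → False)
    (hO4b : KH B H v v' ≠ Kv B v v' → Bbar B hB H v v' ≠ ⊥)
    (hO4c1 : ∀ {b b2 : V}, b ∈ Bbar B hB H v v' → b2 ∈ Bbar B hB H v v' → b ≠ 0 →
      (∀ c : F, b2 ≠ c • b) → False)
    (hO4c2 : ∀ {b : V}, b ∈ Bbar B hB H v v' → b ≠ 0 →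
      (∀ w ∈ Bbar B hB H v v', ∃ c : F, w = c • b) → ∀ c : F, c • b ∈ Bbar B hB H v v')
    (hO4c3 : ∀ {b : V}, b ∈ Wsub B v v' → b ≠ 0 →
      (∀ w, w ∈ Bbar B hB H v v' ↔ ∃ c : F, w = c • b) →
      ∀ k ∈ Kv B v v', (∃ c : F, k b = c • b) → k ∈ Dbar B H v v')
    (hO4d : ∀ {b : V}, b ∈ Wsub B v v' → b ≠ 0 →
      (∀ w, w ∈ Bbar B hB H v v' ↔ ∃ c : F, w = c • b) →
      (∀ k ∈ Kv B v v', (∃ c : F, k b = c • b) → k ∈ Dbar B H v v') →
      ∃ x ∈ Qv B v, Xv B hB b ≤ conjSub x H)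
    (hconj : ∀ {x : V ≃ₗ[F] V}, x ∈ isoGroup B → NoRoot B hB (conjSub x H)) : False := by
  have hKH : KH B H v v' ≠ Kv B v v' := fun h => hO2 h
  have hne := hO4b hKH
  obtain ⟨b, hb, hb0⟩ : ∃ b ∈ Bbar B hB H v v', b ≠ 0 := by
    by_contra hcon
    push Not at hcon
    apply hne
    rw [eq_bot_iff]
    intro w hw
    rw [AddSubgroup.mem_bot]
    exact hcon w hw
  have hsub : ∀ w ∈ Bbar B hB H v v', ∃ c : F, w = c • b := by
    intro w hw
    by_contra hcon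
    push Not at hcon
    exact hO4c1 hb hw hb0 hcon
  have hall := hO4c2 hb hb0 hsub
  have hBbar : ∀ w, w ∈ Bbar B hB H v v' ↔ ∃ c : F, w = c • b := by
    intro w
    constructor
    · exact hsub w
    · rintro ⟨c, rfl⟩
      exact hall c
  have hbW : b ∈ Wsub B v v' := ((mem_Bbar B hB).mp hb).1
  have hBo := hO4c3 hbW hb0 hBbar
  obtain ⟨x, hx, hX⟩ := hO4d hbW hb0 hBbar hBo
  exact hconj (Qv_le B v hx) b hb0 hX

/-- package O4b (verbatim statement), wired from helper10's `O4b_of`, LOCAL (`L0'`, `card_T1_le`,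
`card_Wsub`) and O1. -/
theorem O4b [Finite F] [FiniteDimensional F V] {q : ℕ} (S : Setting B 2 q) (h2 : (2 : F) ≠ 0)
    (hq : 5 ≤ q) {v v' : V} (hvv : B v v' = 1) {H : Subgroup (V ≃ₗ[F] V)}
    (hH : Small B S.alt (Npts 2 q) H) (hK : KMin B v v' (sl2min q))
    (hKH : KH B H v v' ≠ Kv B v v') : Bbar B S.alt H v v' ≠ ⊥ :=
  Cfsg.Agent.Lib.Helper10_MISp_O4b.O4b_of B S hq hH hK hKH
    (Cfsg.Agent.Lib.Helper70_MISp_O1.O1 B S h2 hvv
      (Cfsg.Agent.Lib.Helper70_MISp_O1.Zv_ne_top B hH.noRoot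
        (Cfsg.Agent.Lib.Helper66_MISp_LOCAL.ne_zero_of_hyp B hvv))).2.2
    (Cfsg.Agent.Lib.Helper66_MISp_LOCAL.L0' B S.alt hvv hH.le)
    (Cfsg.Agent.Lib.Helper66_MISp_LOCAL.card_T1_le B H v v')
    (Cfsg.Agent.Lib.Helper66_MISp_LOCAL.card_Wsub B S.alt S hvv)

/-- **Package O4** (final form, verbatim statement): Case II for `Sp_4(q)`, `q ≥ 5` odd. -/
theorem caseII_odd_two [Finite F] [FiniteDimensional F V] {q : ℕ} (S : Setting B 2 q)
    (h2 : (2 : F) ≠ 0) (hq : 5 ≤ q) {H : Subgroup (V ≃ₗ[F] V)}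
    (hH : Small B S.alt (Npts 2 q) H) {v v' : V} (hvv : B v v' = 1)
    (hK : KMin B v v' (sl2min q)) (hperf : KPerfect B v v') : False :=
  caseII_odd_two_of B S.alt
    (fun hKH => Cfsg.Agent.Lib.Helper73_MISp_O2.O2 B S h2 (le_refl 2) hvv hH.noRoot hKH hperf)
    (fun hKH => O4b B S h2 hq hvv hH hK hKH)
    (fun hb hb2 hb0 hind =>
      Cfsg.Agent.Lib.Helper70_MISp_O4c1.O4c1 B S h2 hq hvv hH hb hb2 hb0 hind)
    (fun hb hb0 hsub c => Cfsg.Agent.Lib.Helper66_MISp_O4c23.O4c2 B S h2 hq hvv hH hb hb0 hsub c)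
    (fun hbW hb0 hBbar => Cfsg.Agent.Lib.Helper66_MISp_O4c23.O4c3 B S h2 hq hvv hH hbW hb0 hBbar)
    (fun hbW hb0 hBbar hBo =>
      Cfsg.Agent.Lib.Helper93_MISp_O4d.O4d B S h2 hq hvv hH.le hbW hb0 hBbar hBo)
    (fun hx => Cfsg.Agent.Lib.Helper32_MISp_CONJ.noRoot_conjSub B S.alt hx hH.noRoot)

end Cfsg.Agent.Lib.Helper84_MISp_O4
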