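import Mathlib
import Cfsg.Agent.Lib.Helper66_MI_SpDefs

set_option autoImplicit false

/-!
# S2141 package COPOLAR (architect helper66): a connected, spanning set of vectors of an
alternating space which is closed under scalars and under addition of non-orthogonal pairs is
everything (needs `|F| ≥ 3`).
-/

namespace Cfsg.Agent.Lib.Helper93_MISp_COPOLAR

open Cfsg.Agent.Lib.Helper94_Symp Cfsg.Agent.Lib.Helper94_SympTI
  Cfsg.Agent.Lib.Helper94_SympPerfect Cfsg.Agent.Lib.Helper66_MI_SpDefs

variable {F V : Type*} [Field F] [AddCommGroup V] [Module F V]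
variable (B : LinearMap.BilinForm F V)

/-- hyperbolic lines: `u, w ∈ T`, `B u w ≠ 0` gives `a • u + b • w ∈ T` -/
theorem hyp_line (T : Set V) (hsmul : ∀ (a : F) (x : V), x ∈ T → a • x ∈ T)
    (hadd : ∀ x y : V, x ∈ T → y ∈ T → B x y ≠ 0 → x + y ∈ T) {u w : V} (hu : u ∈ T)
    (hw : w ∈ T) (huw : B u w ≠ 0) (a b : F) : a • u + b • w ∈ T := by
  by_cases ha : a = 0
  · subst ha
    rw [zero_smul, zero_add]
    exact hsmul b w hw
  by_cases hb : b = 0
  · subst hb
    rw [zero_smul, add_zero]
    exact hsmul a u hu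
  apply hadd _ _ (hsmul a u hu) (hsmul b w hw)
  have e : B (a • u) (b • w) = a * (b * B u w) := by
    simp only [map_smul, LinearMap.smul_apply, smul_eq_mul]
    ring
  rw [e]
  exact mul_ne_zero ha (mul_ne_zero hb huw)

/-- the plane lemma -/
theorem plane (hB : B.IsAlt) (T : Set V) (hsmul : ∀ (a : F) (x : V), x ∈ T → a • x ∈ T)
    (hadd : ∀ x y : V, x ∈ T → y ∈ T → B x y ≠ 0 → x + y ∈ T) {x y z : V} (hx : x ∈ T)
    (hy : y ∈ T) (hz : z ∈ T) (hxy : B x y = 0) (hzx : B z x ≠ 0) (hzy : B z y ≠ 0)
    (hp : B z (x + y) ≠ 0) : x + y ∈ T := by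
  -- x + y = (x + g z) + (y - g z)
  have hxz : B x z = - B z x := alt_swap B hB x z
  have hyz : B y z = - B z y := alt_swap B hB y z
  have hzz : B z z = 0 := hB z
  have key : ∀ g : F, B (x + g • z) (y + (-g) • z) ≠ 0 → x + y ∈ T := by
    intro g hg
    have h1 : x + g • z ∈ T := by
      have := hyp_line B T hsmul hadd hx hz (by rw [hxz]; exact neg_ne_zero.2 hzx) 1 g
      rwa [one_smul] at this
    have h2 : y + (-g) • z ∈ T := by
      have := hyp_line B T hsmul hadd hy hz (by rw [hyz]; exact neg_ne_zero.2 hzy) 1 (-g)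
      rwa [one_smul] at this
    have := hadd _ _ h1 h2 hg
    have e : x + g • z + (y + (-g) • z) = x + y := by module
    rwa [e] at this
  have hval : ∀ g : F, B (x + g • z) (y + (-g) • z) = g * B z (x + y) := by
    intro g
    simp only [map_add, map_smul, LinearMap.add_apply, LinearMap.smul_apply, smul_eq_mul, hxy,
      hxz, hzz]
    ring
  apply key 1
  rw [hval, one_mul]
  exact hp

/-- diameter at most two -/
theorem diam (T : Set V)
    (hadd : ∀ x y : V, x ∈ T → y ∈ T → B x y ≠ 0 → x + y ∈ T) {x y : V}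
    (h : Relation.ReflTransGen (fun a b : V => a ∈ T ∧ b ∈ T ∧ B a b ≠ 0) x y) :
    x = y ∨ B x y ≠ 0 ∨ ∃ z ∈ T, B x z ≠ 0 ∧ B z y ≠ 0 := by
  induction h with
  | refl => exact Or.inl rfl
  | @tail b c _ hbc ih =>
    obtain ⟨hbT, hcT, hbc⟩ := hbc
    by_cases hxc : B x c = 0
    swap
    · exact Or.inr (Or.inl hxc)
    right; right
    rcases ih with rfl | hxb | ⟨z, hzT, hxz, hzb⟩
    · exact absurd hxc hbc
    · exact ⟨b, hbT, hxb, hbc⟩
    · by_cases hxb : B x b = 0
      swap
      · exact ⟨b, hbT, hxb, hbc⟩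
      by_cases hzc : B z c = 0
      swap
      · exact ⟨z, hzT, hxz, hzc⟩
      refine ⟨z + b, hadd z b hzT hbT hzb, ?_, ?_⟩
      · rw [map_add, hxb, add_zero]
        exact hxz
      · rw [map_add, LinearMap.add_apply, hzc, zero_add]
        exact hbc

theorem copolar (hB : B.IsAlt) (hN : B.Nondegenerate) (hF : ∃ a : F, a ≠ 0 ∧ a ≠ 1)
    (T : Set V) (h0 : (0 : V) ∈ T) (hsmul : ∀ (a : F) (x : V), x ∈ T → a • x ∈ T)
    (hadd : ∀ x y : V, x ∈ T → y ∈ T → B x y ≠ 0 → x + y ∈ T)
    (hconn : ∀ x y : V, x ∈ T → y ∈ T → x ≠ 0 → y ≠ 0 →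
      Relation.ReflTransGen (fun a b : V => a ∈ T ∧ b ∈ T ∧ B a b ≠ 0) x y)
    (hspan : Submodule.span F T = ⊤) : T = Set.univ := by
  -- asymmetric step
  have step : ∀ x y w : V, x ∈ T → y ∈ T → w ∈ T → B x y = 0 → x ≠ y → x ≠ 0 → y ≠ 0 →
      B w (x + y) ≠ 0 → B w x ≠ 0 → B w y = 0 → x + y ∈ T := by
    intro x y w hx hy hw hxy hne hx0 hy0 hwp hwx hwy
    -- common neighbour z
    obtain ⟨z, hzT, hxz, hzy⟩ : ∃ z ∈ T, B x z ≠ 0 ∧ B z y ≠ 0 := by
      rcases diam B T hadd (hconn x y hx hy hx0 hy0) with h | h | h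
      · exact absurd h hne
      · exact absurd hxy h
      · exact h
    have hzx : B z x ≠ 0 := by rw [alt_swap B hB]; exact neg_ne_zero.2 hxz
    by_cases hzp : B z (x + y) = 0
    swap
    · exact plane B hB T hsmul hadd hx hy hzT hxy hzx hzy hzp
    -- choose c with B w (z + c x) ≠ 0
    obtain ⟨c, hc⟩ : ∃ c : F, B w (z + c • x) ≠ 0 := by
      by_cases hwz : B w z = 0
      · refine ⟨1, ?_⟩
        rw [one_smul, map_add, hwz, zero_add]
        exact hwx
      · refine ⟨0, ?_⟩
        rw [zero_smul, add_zero]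
        exact hwz
    -- choose d ∉ {0, - B w x / B z x}
    obtain ⟨d, hd0, hd⟩ : ∃ d : F, d ≠ 0 ∧ B w x + d * B z x ≠ 0 := by
      obtain ⟨a, ha0, ha1⟩ := hF
      by_cases h1 : B w x + 1 * B z x = 0
      · refine ⟨a, ha0, ?_⟩
        intro h2
        have : (a - 1) * B z x = 0 := by linear_combination h2 - h1
        rcases mul_eq_zero.1 this with h | h
        · exact ha1 (sub_eq_zero.1 h)
        · exact hzx h
      · exact ⟨1, one_ne_zero, h1⟩
    have huT : z + c • x ∈ T := by
      have := hyp_line B T hsmul hadd hzT hx hzx 1 c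
      rwa [one_smul] at this
    have hz'T : w + d • (z + c • x) ∈ T := by
      have := hyp_line B T hsmul hadd hw huT hc 1 d
      rwa [one_smul] at this
    have hxx : B x x = 0 := hB x
    have hyx : B y x = 0 := by rw [alt_swap B hB, hxy, neg_zero]
    apply plane B hB T hsmul hadd hx hy hz'T hxy
    · simp only [map_add, map_smul, LinearMap.add_apply, LinearMap.smul_apply, smul_eq_mul, hxx,
        mul_zero, add_zero]
      exact hd
    · simp only [map_add, map_smul, LinearMap.add_apply, LinearMap.smul_apply, smul_eq_mul, hxy,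
        hwy, mul_zero, add_zero, zero_add]
      exact mul_ne_zero hd0 hzy
    · have e : B (w + d • (z + c • x)) (x + y) = B w (x + y) + d * B z (x + y) := by
        simp only [map_add, map_smul, LinearMap.add_apply, LinearMap.smul_apply, smul_eq_mul,
          hxx, hxy]
        ring
      rw [e, hzp, mul_zero, add_zero]
      exact hwp
  -- closure under addition
  have hclosed : ∀ x y : V, x ∈ T → y ∈ T → x + y ∈ T := by
    intro x y hx hy
    by_cases hxy : B x y = 0
    swap
    · exact hadd x y hx hy hxy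
    by_cases hx0 : x = 0
    · rw [hx0, zero_add]; exact hy
    by_cases hy0 : y = 0
    · rw [hy0, add_zero]; exact hx
    by_cases hne : x = y
    · rw [← hne, ← two_smul F x]
      exact hsmul 2 x hx
    by_cases hp0 : x + y = 0
    · rw [hp0]; exact h0
    -- some w ∈ T with B w (x+y) ≠ 0
    obtain ⟨w, hwT, hwp⟩ : ∃ w ∈ T, B w (x + y) ≠ 0 := by
      by_contra hcon
      push Not at hcon
      apply hp0
      apply hN.2 (x + y)
      intro u
      have hu : u ∈ Submodule.span F T := by rw [hspan]; trivial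
      induction hu using Submodule.span_induction with
      | mem u hu => exact hcon u hu
      | zero => simp
      | add a b _ _ ha hb =>
        have e : B (a + b) (x + y) = B a (x + y) + B b (x + y) := by
          simp only [map_add, LinearMap.add_apply]
          ring
        rw [e, ha, hb, add_zero]
      | smul c a _ ha =>
        have e : B (c • a) (x + y) = c * B a (x + y) := by
          simp only [map_smul, LinearMap.smul_apply, smul_eq_mul]
        rw [e, ha, mul_zero]
    have hyx : B y x = 0 := by rw [alt_swap B hB, hxy, neg_zero]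
    by_cases hwx : B w x = 0
    · -- then B w y ≠ 0
      have hwy : B w y ≠ 0 := by
        intro h
        apply hwp
        rw [map_add, hwx, h, add_zero]
      have := step y x w hy hx hwT hyx (Ne.symm hne) hy0 hx0 (by rwa [add_comm]) hwy hwx
      rwa [add_comm] at this
    · by_cases hwy : B w y = 0
      · exact step x y w hx hy hwT hxy hne hx0 hy0 hwp hwx hwy
      · exact plane B hB T hsmul hadd hx hy hwT hxy hwx hwy hwp
  -- conclusion
  apply Set.eq_univ_of_forall
  intro u
  have hu : u ∈ Submodule.span F T := by rw [hspan]; trivial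
  induction hu using Submodule.span_induction with
  | mem u hu => exact hu
  | zero => exact h0
  | add a b _ _ ha hb => exact hclosed a b ha hb
  | smul c a _ ha => exact hsmul c a ha

end Cfsg.Agent.Lib.Helper93_MISp_COPOLAR
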