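import Mathlib
import Cfsg.Agent.Lib.Helper66_MI_SpDefs
import Cfsg.Agent.Lib.Helper66_MISp_LOCAL
import Cfsg.Agent.Lib.Helper66_MISp_O4c23
import Cfsg.Agent.Lib.Helper94_MI_SpKiso
import Cfsg.Agent.Lib.Helper10_MISp_KTRANS
import Cfsg.Agent.Lib.Helper10_MISp_IH
import Cfsg.Agent.Lib.Helper10_MISp_O4b
import Cfsg.Agent.Lib.Helper32_MISp_CONJ
import Cfsg.Agent.Lib.Helper32_MISp_SL2
import Cfsg.Agent.Lib.Helper58_MISp_PERF
import Cfsg.Agent.Lib.Helper17_MISp_E5
import Cfsg.Agent.Lib.Helper17_MISp_EVEN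
import Cfsg.Agent.Lib.Helper17_MISp_O3
import Cfsg.Agent.Lib.Helper73_MISp_E3
import Cfsg.Agent.Lib.Helper73_MISp_O2
import Cfsg.Agent.Lib.Helper12_MISp_E5b
import Cfsg.Agent.Lib.Helper12_MISp_E5c
import Cfsg.Agent.Lib.Helper63_MISp_E6
import Cfsg.Agent.Lib.Helper70_MISp_O1
import Cfsg.Agent.Lib.Helper70_MISp_O4c1
import Cfsg.Agent.Lib.Helper93_MISp_O4d
import Cfsg.Agent.Lib.Helper93_MISp_COPOLAR
import Cfsg.Agent.Lib.Helper84_MISp_O4
import Cfsg.Agent.Lib.Helper84_MISp_CASEI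
import Cfsg.Agent.Lib.Helper71_MISp_C1
import Cfsg.Agent.Lib.Helper42_MISp_C2
import Cfsg.Agent.Lib.Helper47_MISp_O5

set_option autoImplicit false

/-!
# S2141 (architect helper66): the abstract theorem.  Every proper subgroup of the isometry group of a
nondegenerate alternating space of dimension `2m ≥ 4` over `F_q`, `q ≥ 3`, has index at least
`Nmin m q` (`= (q^(2m) - 1)/(q - 1)`, or `27` for `Sp_4(3)`).

Assembly of the packages of `pending/helper66/S2141_packages.lean.txt` (paper proof: finding 176).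
-/

namespace Cfsg.Agent.Lib.Helper66_MISp_MAIN

open Cfsg.Agent.Lib.Helper94_Symp Cfsg.Agent.Lib.Helper94_SympTI
  Cfsg.Agent.Lib.Helper94_SympPerfect Cfsg.Agent.Lib.Helper66_MI_SpDefs
  Cfsg.Agent.Lib.Helper66_MISp_LOCAL

universe u

section Wrappers

variable {F : Type*} [Field F] [Finite F] {V : Type u} [AddCommGroup V] [Module F V]
  [FiniteDimensional F V] (B : LinearMap.BilinForm F V)

theorem Wsub_setting {m q : ℕ} (S : Setting B (m + 1) q) {v v' : V}
    (hvv : B v v' = 1) : Setting (B.restrict (Wsub B v v')) m q where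
  alt := Cfsg.Agent.Lib.Helper94_MI_SpKiso.restrict_isAlt B S.alt v v'
  nondeg := Cfsg.Agent.Lib.Helper94_MI_SpKiso.Wsub_restrict_nondeg B S.alt hvv S.nondeg
  card := S.card
  dim := by
    have h := Cfsg.Agent.Lib.Helper94_MI_SpKiso.finrank_Wsub_add_two B S.alt hvv
    rw [S.dim] at h
    omega

theorem caseI {m q : ℕ} (S : Setting B m q)
    (hq : 3 ≤ q) (hm : 2 ≤ m) {H : Subgroup (V ≃ₗ[F] V)} (hH : H ≤ isoGroup B)
    (hne : H ≠ isoGroup B) {u : V} (hu : u ≠ 0) (hX : Xv B S.alt u ≤ H) :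
    Npts m q ≤ H.relIndex (isoGroup B) :=
  Cfsg.Agent.Lib.Helper84_MISp_CASEI.caseI_of S hq hm hH hne hu hX
    (fun T h0 hsmul hadd hconn hspan =>
      Cfsg.Agent.Lib.Helper93_MISp_COPOLAR.copolar B S.alt S.nondeg
        (Cfsg.Agent.Lib.Helper84_MISp_CASEI.exists_ne_zero_one S.card hq) T h0 hsmul hadd hconn
        hspan)
    (fun U h1 h2 => Cfsg.Agent.Lib.Helper71_MISp_C1.C1 q m (by omega) V B S U h1 h2)
    (fun U h1 h2 h3 => Cfsg.Agent.Lib.Helper42_MISp_C2.C2 q hq m hm V B S U h1 h2 h3)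

theorem caseII_23 (S : Setting B 2 3) {v v' : V}
    (hvv : B v v' = 1) {H : Subgroup (V ≃ₗ[F] V)} (hH : H ≤ isoGroup B)
    (hNR : NoRoot B S.alt H) : 27 ≤ H.relIndex (isoGroup B) :=
  Cfsg.Agent.Lib.Helper47_MISp_O5.caseII_23_of B S hvv hNR (L0 B S.alt hvv hH)
    (card_Dbar B S.alt hvv H)

theorem O4b {q : ℕ} (S : Setting B 2 q) (h2 : (2 : F) ≠ 0)
    (hq : 5 ≤ q) {v v' : V} (hvv : B v v' = 1) {H : Subgroup (V ≃ₗ[F] V)}
    (hH : Small B S.alt (Npts 2 q) H) (hK : KMin B v v' (sl2min q))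
    (hKH : KH B H v v' ≠ Kv B v v') : Bbar B S.alt H v v' ≠ ⊥ :=
  Cfsg.Agent.Lib.Helper10_MISp_O4b.O4b_of B S hq hH hK hKH
    (Cfsg.Agent.Lib.Helper70_MISp_O1.O1 B S h2 hvv
      (Cfsg.Agent.Lib.Helper70_MISp_O1.Zv_ne_top B hH.noRoot (ne_zero_of_hyp B hvv))).2.2
    (L0' B S.alt hvv hH.le) (card_T1_le B H v v') (card_Wsub B S.alt S hvv)

theorem caseII_odd_two {q : ℕ} (S : Setting B 2 q)
    (h2 : (2 : F) ≠ 0) (hq : 5 ≤ q) {H : Subgroup (V ≃ₗ[F] V)}
    (hH : Small B S.alt (Npts 2 q) H) {v v' : V} (hvv : B v v' = 1)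
    (hK : KMin B v v' (sl2min q)) (hperf : KPerfect B v v') : False :=
  Cfsg.Agent.Lib.Helper84_MISp_O4.caseII_odd_two_of B S.alt
    (fun hKH => Cfsg.Agent.Lib.Helper73_MISp_O2.O2 B S h2 (le_refl 2) hvv hH.noRoot hKH hperf)
    (fun hKH => O4b B S h2 hq hvv hH hK hKH)
    (fun hb hb2 hb0 hind =>
      Cfsg.Agent.Lib.Helper70_MISp_O4c1.O4c1 B S h2 hq hvv hH hb hb2 hb0 hind)
    (fun hb hb0 hsub c => Cfsg.Agent.Lib.Helper66_MISp_O4c23.O4c2 B S h2 hq hvv hH hb hb0 hsub c)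
    (fun hbW hb0 hBbar => Cfsg.Agent.Lib.Helper66_MISp_O4c23.O4c3 B S h2 hq hvv hH hbW hb0 hBbar)
    (fun hbW hb0 hBbar hBo =>
      Cfsg.Agent.Lib.Helper93_MISp_O4d.O4d B S h2 hq hvv hH.le hbW hb0 hBbar hBo)
    (fun hx => Cfsg.Agent.Lib.Helper32_MISp_CONJ.noRoot_conjSub B S.alt hx hH.noRoot)

theorem E5 {m q : ℕ} (S : Setting B m q) (h2 : (2 : F) = 0)
    (hq : 4 ≤ q) (hm : 2 ≤ m) {v v' : V} (hvv : B v v' = 1) {H : Subgroup (V ≃ₗ[F] V)}
    (hH : Small B S.alt (Npts m q) H) (hK : KMin B v v' (Npts (m - 1) q)) :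
    ∀ w ∈ Wsub B v v', w ∈ Bbar B S.alt H v v' :=
  Cfsg.Agent.Lib.Helper17_MISp_E5.E5_of B S
    (Cfsg.Agent.Lib.Helper73_MISp_E3.E3 B S h2 hq hm hvv hH)
    (fun hKH hne => Cfsg.Agent.Lib.Helper12_MISp_E5b.E5b B S h2 hq hm hvv hH hK hKH hne)
    (fun a ha ha0 hBbar hKH hZ hT =>
      Cfsg.Agent.Lib.Helper12_MISp_E5c.E5c B S h2 hq hm hvv hH ha ha0 hBbar hKH hZ hT)

theorem caseII_even {m q : ℕ} (S : Setting B m q)
    (h2 : (2 : F) = 0) (hq : 4 ≤ q) (hm : 2 ≤ m) {H : Subgroup (V ≃ₗ[F] V)}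
    (hH : Small B S.alt (Npts m q) H)
    (hK : ∀ v v' : V, B v v' = 1 → KMin B v v' (Npts (m - 1) q)) : False :=
  Cfsg.Agent.Lib.Helper17_MISp_EVEN.caseII_even_of B S h2 hH.noRoot
    (fun v v' hvv => E5 B S h2 hq hm hvv hH (hK v v' hvv))
    (fun hall => Cfsg.Agent.Lib.Helper63_MISp_E6.E6 B S h2 hq hm hall)

end Wrappers

/-! ### MAIN: the abstract theorem -/

theorem Nmin_le_Npts (m q : ℕ) : Nmin m q ≤ Npts m q := by
  unfold Nmin
  split_ifs with h
  · obtain ⟨rfl, rfl⟩ := h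
    decide
  · exact le_rfl

theorem Npts_one {q : ℕ} (hq : 2 ≤ q) : Npts 1 q = q + 1 := by
  unfold Npts
  have h1 : q ^ (2 * 1) - 1 = (q + 1) * (q - 1) := by
    obtain ⟨k, rfl⟩ : ∃ k, q = k + 1 := ⟨q - 1, by omega⟩
    simp only [mul_one, Nat.add_sub_cancel]
    ring_nf
    omega
  rw [h1, Nat.mul_div_cancel _ (by omega)]

theorem even_card_of_two_eq_zero {F : Type*} [Field F] [Finite F] (h2 : (2 : F) = 0) :
    2 ∣ Nat.card F := by
  have h1 : addOrderOf (1 : F) = 2 := by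
    apply addOrderOf_eq_prime
    · rw [two_nsmul]
      have : (1 : F) + 1 = 2 := by norm_num
      rw [this, h2]
    · exact one_ne_zero
  rw [← h1]
  exact addOrderOf_dvd_natCard 1

theorem two_eq_zero_of_even_card {F : Type*} [Field F] [Finite F] (h : 2 ∣ Nat.card F) :
    (2 : F) = 0 := by
  haveI : Fintype F := Fintype.ofFinite F
  rw [Nat.card_eq_fintype_card] at h
  obtain ⟨x, hx⟩ := exists_prime_addOrderOf_dvd_card 2 h
  have hx0 : x ≠ 0 := by
    intro h0
    rw [h0, addOrderOf_zero] at hx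
    omega
  have h2x : (2 : ℕ) • x = 0 := by
    rw [← hx]
    exact addOrderOf_nsmul_eq_zero x
  rw [two_nsmul, ← two_mul] at h2x
  rcases mul_eq_zero.mp h2x with h | h
  · exact h
  · exact absurd h hx0

theorem exists_ne_zero_of_setting {F : Type*} [Field F] {V : Type u} [AddCommGroup V] [Module F V]
    [FiniteDimensional F V] (B : LinearMap.BilinForm F V) {m q : ℕ} (S : Setting B m q)
    (hm : 1 ≤ m) : ∃ v : V, v ≠ 0 := by
  have hpos : 0 < Module.finrank F V := by rw [S.dim]; omega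
  have : Nontrivial V := Module.finrank_pos_iff.mp hpos
  exact exists_ne 0

/-- the inductive step -/
theorem main_step {F : Type*} [Field F] [Finite F] (q : ℕ) (hq : 3 ≤ q) (m : ℕ) (hm : 2 ≤ m)
    (ih : 3 ≤ m → ∀ (V : Type u) [AddCommGroup V] [Module F V] [FiniteDimensional F V]
      (B : LinearMap.BilinForm F V), Setting B (m - 1) q → ∀ H : Subgroup (V ≃ₗ[F] V),
        H ≤ isoGroup B → H ≠ isoGroup B → Nmin (m - 1) q ≤ H.relIndex (isoGroup B)) :
    ∀ (V : Type u) [AddCommGroup V] [Module F V] [FiniteDimensional F V]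
      (B : LinearMap.BilinForm F V), Setting B m q → ∀ H : Subgroup (V ≃ₗ[F] V),
        H ≤ isoGroup B → H ≠ isoGroup B → Nmin m q ≤ H.relIndex (isoGroup B) := by
  intro V _ _ _ B S H hH hne
  by_contra hlt
  push Not at hlt
  have hNle := Nmin_le_Npts m q
  by_cases hroot : ∃ u : V, u ≠ 0 ∧ Xv B S.alt u ≤ H
  · obtain ⟨u, hu, hX⟩ := hroot
    have := caseI B S hq hm hH hne hu hX
    omega
  · have hNR : NoRoot B S.alt H := fun u hu hX => hroot ⟨u, hu, hX⟩
    obtain ⟨v, hv⟩ := exists_ne_zero_of_setting B S (by omega)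
    obtain ⟨v', hvv⟩ := Cfsg.Agent.Lib.Helper10_MISp_KTRANS.exists_hyp B S.alt S.nondeg hv
    by_cases h23 : m = 2 ∧ q = 3
    · obtain ⟨rfl, rfl⟩ := h23
      have := caseII_23 B S hvv hH hNR
      have h27 : Nmin 2 3 = 27 := by simp [Nmin]
      omega
    · have hNm : Nmin m q = Npts m q := by
        unfold Nmin
        rw [if_neg h23]
      have hsmall : Small B S.alt (Npts m q) H := ⟨hH, hNR, by omega⟩
      -- the induction hypothesis for `K`
      have hKIH : ∀ w w' : V, B w w' = 1 → 3 ≤ m → KMin B w w' (Nmin (m - 1) q) := by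
        intro w w' hww hm3
        obtain ⟨m', rfl⟩ : ∃ m', m = m' + 1 := ⟨m - 1, by omega⟩
        refine Cfsg.Agent.Lib.Helper10_MISp_IH.KMin_of_IH B S.alt hww _ ?_
        intro K'' hle hne''
        exact ih hm3 _ (B.restrict (Wsub B w w')) (Wsub_setting B S hww) K'' hle hne''
      by_cases h2 : (2 : F) = 0
      · -- `q` even
        have heven : 2 ∣ q := by
          have := even_card_of_two_eq_zero h2
          rwa [S.card] at this
        have hq4 : 4 ≤ q := by omega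
        refine caseII_even B S h2 hq4 hm hsmall ?_
        intro w w' hww
        by_cases hm2 : m = 2
        · subst hm2
          have h := Cfsg.Agent.Lib.Helper32_MISp_SL2.KMin_two B S hq4 hww
          have hsl : sl2min q = Npts (2 - 1) q := by
            rw [show (2 : ℕ) - 1 = 1 from rfl, Npts_one (by omega)]
            unfold sl2min
            rw [if_neg (by omega)]
          rwa [hsl] at h
        · have hm3 : 3 ≤ m := by omega
          have h := hKIH w w' hww hm3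
          have : Nmin (m - 1) q = Npts (m - 1) q := by
            unfold Nmin
            rw [if_neg (by omega)]
          rwa [this] at h
      · -- `q` odd
        have hodd : ¬ 2 ∣ q := by
          intro h
          apply h2
          apply two_eq_zero_of_even_card
          rwa [S.card]
        have hperf : KPerfect B v v' :=
          Cfsg.Agent.Lib.Helper58_MISp_PERF.KPerfect_of B S hm hq h23 hvv
        by_cases hm2 : m = 2
        · subst hm2
          have hq5 : 5 ≤ q := by omega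
          exact caseII_odd_two B S h2 hq5 hsmall hvv
            (Cfsg.Agent.Lib.Helper32_MISp_SL2.KMin_two B S (by omega) hvv) hperf
        · have hm3 : 3 ≤ m := by omega
          exact Cfsg.Agent.Lib.Helper17_MISp_O3.caseII_odd_ge3 B S h2 hq hm3 hsmall hvv
            (hKIH v v' hvv hm3) hperf

theorem main_index {F : Type*} [Field F] [Finite F] (q : ℕ) (hq : 3 ≤ q) :
    ∀ m : ℕ, 2 ≤ m → ∀ (V : Type u) [AddCommGroup V] [Module F V] [FiniteDimensional F V]
      (B : LinearMap.BilinForm F V), Setting B m q → ∀ H : Subgroup (V ≃ₗ[F] V),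
        H ≤ isoGroup B → H ≠ isoGroup B → Nmin m q ≤ H.relIndex (isoGroup B) := by
  intro m hm
  induction m, hm using Nat.le_induction with
  | base =>
    exact main_step q hq 2 le_rfl (fun h => absurd h (by omega))
  | succ m hm ih =>
    refine main_step q hq (m + 1) (by omega) (fun _ => ?_)
    rw [Nat.add_sub_cancel]
    exact ih

end Cfsg.Agent.Lib.Helper66_MISp_MAIN
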