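import Mathlib

set_option autoImplicit false

/-!
# Arithmetic for the Schur multiplier of metacyclic groups
-/

namespace Cfsg.Agent.Lib.Helper66_MetaArith

open Finset

theorem dvd_gcd_mul_gcd (m x y : ℕ) (h : m ∣ x * y) : m ∣ Nat.gcd m x * Nat.gcd m y := by
  rw [← Nat.gcd_mul_right]
  apply Nat.dvd_gcd
  · exact dvd_mul_right _ _
  · rw [← Nat.gcd_mul_left]
    exact Nat.dvd_gcd (dvd_mul_left _ _) h

variable (m n r l : ℕ)

/-- `d = gcd(m, r - 1)` -/
abbrev dd : ℕ := Nat.gcd m (r - 1)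
/-- `S = 1 + r + ⋯ + r ^ (n - 1)` -/
abbrev SS : ℕ := ∑ i ∈ range n, r ^ i
/-- `g = gcd(m, S)` -/
abbrev gg : ℕ := Nat.gcd m (SS n r)
/-- `h = d g / m` -/
abbrev hh : ℕ := dd m r * gg m n r / m
/-- `e = gcd(l, h)` -/
abbrev ee : ℕ := Nat.gcd l (hh m n r)
/-- `t = m l / d` -/
abbrev tt : ℕ := m * l / dd m r

theorem geom (R : ℕ) (hR : 0 < R) : SS n R * (R - 1) + 1 = R ^ n := by
  have := geom_sum_mul_add (R - 1) n
  have h1 : R - 1 + 1 = R := Nat.sub_add_cancel hR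
  rwa [h1] at this

section
variable {m n r}
variable (hm : 0 < m) (hn : 0 < n) (hr : 0 < r) (hrn : r ^ n ≡ 1 [MOD m])

include hm in
theorem dd_pos : 0 < dd m r := Nat.gcd_pos_of_pos_left _ hm

theorem dd_dvd_m : dd m r ∣ m := Nat.gcd_dvd_left _ _

theorem dd_dvd_r : dd m r ∣ r - 1 := Nat.gcd_dvd_right _ _

include hm in
theorem gg_pos : 0 < gg m n r := Nat.gcd_pos_of_pos_left _ hm

theorem gg_dvd_m : gg m n r ∣ m := Nat.gcd_dvd_left _ _

include hr hrn in
theorem m_dvd_S_mul : m ∣ SS n r * (r - 1) := by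
  have h1 := geom n r hr
  have h2 : m ∣ r ^ n - 1 := (Nat.modEq_iff_dvd' (Nat.one_le_pow _ _ hr)).mp hrn.symm
  rw [← h1] at h2
  simpa using h2

include hr hrn in
theorem m_dvd_dg : m ∣ dd m r * gg m n r := by
  apply dvd_gcd_mul_gcd
  rw [mul_comm]
  exact m_dvd_S_mul hr hrn

include hr hrn in
theorem hh_mul_m : hh m n r * m = dd m r * gg m n r := Nat.div_mul_cancel (m_dvd_dg hr hrn)

include hm hr hrn in
theorem md_mul_hh : m / dd m r * hh m n r = gg m n r := by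
  have h1 := hh_mul_m (n := n) hr hrn
  have h2 : m / dd m r * dd m r = m := Nat.div_mul_cancel dd_dvd_m
  have h3 : (m / dd m r * hh m n r) * dd m r = gg m n r * dd m r := by
    calc (m / dd m r * hh m n r) * dd m r = hh m n r * (m / dd m r * dd m r) := by ring
      _ = hh m n r * m := by rw [h2]
      _ = dd m r * gg m n r := h1
      _ = gg m n r * dd m r := by ring
  exact Nat.eq_of_mul_eq_mul_right (dd_pos hm) h3

include hm hr hrn in
theorem hh_dvd_dd : hh m n r ∣ dd m r := by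
  have h1 := hh_mul_m (n := n) hr hrn
  have h2 : m / gg m n r * gg m n r = m := Nat.div_mul_cancel gg_dvd_m
  refine ⟨m / gg m n r, ?_⟩
  have h3 : (hh m n r * (m / gg m n r)) * gg m n r = dd m r * gg m n r := by
    calc (hh m n r * (m / gg m n r)) * gg m n r = hh m n r * (m / gg m n r * gg m n r) := by ring
      _ = hh m n r * m := by rw [h2]
      _ = dd m r * gg m n r := h1
  exact (Nat.eq_of_mul_eq_mul_right (gg_pos hm) h3).symm

include hm hr hrn in
theorem hh_pos : 0 < hh m n r := by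
  have h1 := hh_mul_m (n := n) hr hrn
  rcases Nat.eq_zero_or_pos (hh m n r) with h | h
  · rw [h, zero_mul] at h1
    have := Nat.mul_pos (dd_pos (r := r) hm) (gg_pos (n := n) (r := r) hm)
    omega
  · exact h

include hm hr hrn in
theorem ee_pos : 0 < ee m n r l := Nat.gcd_pos_of_pos_right _ (hh_pos hm hr hrn)

theorem ee_dvd_l : ee m n r l ∣ l := Nat.gcd_dvd_left _ _

theorem ee_dvd_hh : ee m n r l ∣ hh m n r := Nat.gcd_dvd_right _ _

include hm hr hrn in
theorem ee_dvd_dd : ee m n r l ∣ dd m r := (ee_dvd_hh l).trans (hh_dvd_dd hm hr hrn)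

theorem tt_eq : tt m r l = m / dd m r * l := by
  rw [tt, Nat.mul_comm m l, Nat.mul_div_assoc _ dd_dvd_m, Nat.mul_comm]

include hm in
theorem coprime_md : Nat.Coprime (m / dd m r) ((r - 1) / dd m r) :=
  Nat.coprime_div_gcd_div_gcd (dd_pos hm)

include hn hrn in
theorem coprime_r_m : Nat.Coprime r m := by
  apply Nat.coprime_of_mul_modEq_one (r ^ (n - 1))
  rw [← pow_succ', Nat.sub_add_cancel hn]
  exact hrn

end

/-! ### parameters of the models -/

/-- the modulus of the model -/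
abbrev MM (e' : ℕ) : ℕ := m * e'
/-- the multiplier of the model -/
abbrev RR (k : ℕ) : ℕ := r + m * k
/-- `(R - 1) / d` -/
abbrev uu (k : ℕ) : ℕ := (r - 1) / dd m r + m / dd m r * k

section
variable {m n r l}
variable (hm : 0 < m) (hn : 0 < n) (hr : 0 < r) (hrn : r ^ n ≡ 1 [MOD m])
variable (e' k : ℕ) (he' : e' ∣ ee m n r l)

include hr in
theorem RR_eq : RR m r k = 1 + dd m r * uu m r k := by
  have h1 : r - 1 + 1 = r := Nat.sub_add_cancel hr
  have h2 : dd m r * ((r - 1) / dd m r) = r - 1 := Nat.mul_div_cancel' dd_dvd_r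
  have h3 : dd m r * (m / dd m r) = m := Nat.mul_div_cancel' dd_dvd_m
  rw [RR, uu, mul_add, h2, ← mul_assoc, h3]
  omega

include hr in
theorem RR_pos : 0 < RR m r k := by
  rw [RR]; omega

include hr in
theorem RR_sub : RR m r k - 1 = dd m r * uu m r k := by
  rw [RR_eq hr]; omega

include hm hr hrn he' in
theorem MM_dvd_m : MM m e' ∣ dd m r * uu m r k * m := by
  obtain ⟨q, hq⟩ := he'.trans (ee_dvd_dd (l := l) hm hr hrn)
  rw [MM, hq]
  exact ⟨q * uu m r k, by ring⟩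

include he' in
theorem MM_dvd_t : MM m e' ∣ dd m r * uu m r k * tt m r l := by
  obtain ⟨q, hq⟩ := he'.trans (ee_dvd_l (m := m) (n := n) (r := r) l)
  have h3 : dd m r * (m / dd m r) = m := Nat.mul_div_cancel' dd_dvd_m
  rw [tt_eq, MM]
  have : dd m r * uu m r k * (m / dd m r * l) = (dd m r * (m / dd m r)) * (uu m r k * l) := by ring
  rw [this, h3]
  conv_rhs => rw [hq]
  exact ⟨uu m r k * q, by ring⟩

theorem SS_modEq : SS n (RR m r k) ≡ SS n r [MOD m] := by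
  rw [← ZMod.natCast_eq_natCast_iff]
  simp [SS, RR]

include hm hr hrn he' in
theorem MM_dvd_S : MM m e' ∣ SS n (RR m r k) * (dd m r * uu m r k) := by
  have h1 : gg m n r ∣ SS n (RR m r k) := by
    have h2 : SS n (RR m r k) ≡ SS n r [MOD gg m n r] := (SS_modEq (n := n) k).of_dvd gg_dvd_m
    exact (h2.dvd_iff (dvd_refl _)).mpr (Nat.gcd_dvd_right _ _)
  obtain ⟨q, hq⟩ := he'.trans (ee_dvd_hh (m := m) (n := n) (r := r) l)
  have h3 : m / dd m r * e' ∣ gg m n r := by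
    rw [← md_mul_hh hm hr hrn, hq]
    exact ⟨q, by ring⟩
  obtain ⟨q2, hq2⟩ := h3.trans h1
  have h4 : dd m r * (m / dd m r) = m := Nat.mul_div_cancel' dd_dvd_m
  rw [hq2, MM]
  refine ⟨q2 * uu m r k, ?_⟩
  calc m / dd m r * e' * q2 * (dd m r * uu m r k)
      = (dd m r * (m / dd m r)) * e' * (q2 * uu m r k) := by ring
    _ = m * e' * (q2 * uu m r k) := by rw [h4]

include hm hr hrn he' in
theorem RR_pow_modEq : RR m r k ^ n ≡ 1 [MOD MM m e'] := by
  have h1 := geom n (RR m r k) (RR_pos hr k)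
  rw [RR_sub hr] at h1
  rw [← h1]
  have h2 := MM_dvd_S hm hr hrn e' k he'
  have h3 : SS n (RR m r k) * (dd m r * uu m r k) ≡ 0 [MOD MM m e'] :=
    (Nat.modEq_zero_iff_dvd).mpr h2
  simpa using h3.add_right 1

include hm hn hr hrn he' in
theorem coprime_RR : Nat.Coprime (RR m r k) (MM m e') := by
  apply Nat.coprime_of_mul_modEq_one (RR m r k ^ (n - 1))
  rw [← pow_succ', Nat.sub_add_cancel hn]
  exact RR_pow_modEq hm hr hrn e' k he'

/-- the unit of `ZMod M` given by `R` -/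
noncomputable def vv : (ZMod (MM m e'))ˣ :=
  ZMod.unitOfCoprime (RR m r k) (coprime_RR hm hn hr hrn e' k he')

theorem vv_coe : ((vv hm hn hr hrn e' k he' : (ZMod (MM m e'))ˣ) : ZMod (MM m e')) =
    (RR m r k : ZMod (MM m e')) := ZMod.coe_unitOfCoprime _ _

theorem vv_coe' : ((vv hm hn hr hrn e' k he' : (ZMod (MM m e'))ˣ) : ZMod (MM m e')) =
    1 + ((dd m r * uu m r k : ℕ) : ZMod (MM m e')) := by
  rw [vv_coe, RR_eq hr]
  push_cast
  ring

theorem vv_mul_m : ((vv hm hn hr hrn e' k he' : (ZMod (MM m e'))ˣ) : ZMod (MM m e')) * (m : ZMod (MM m e'))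
    = (m : ZMod (MM m e')) := by
  rw [vv_coe', add_mul, one_mul, ← Nat.cast_mul,
    (ZMod.natCast_eq_zero_iff _ _).mpr (MM_dvd_m hm hr hrn e' k he'), add_zero]

theorem vv_mul_t : ((vv hm hn hr hrn e' k he' : (ZMod (MM m e'))ˣ) : ZMod (MM m e')) *
    (tt m r l : ZMod (MM m e')) = (tt m r l : ZMod (MM m e')) := by
  rw [vv_coe', add_mul, one_mul, ← Nat.cast_mul,
    (ZMod.natCast_eq_zero_iff _ _).mpr (MM_dvd_t e' k he'), add_zero]

theorem vv_pow : vv hm hn hr hrn e' k he' ^ n = 1 := by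
  apply Units.ext
  rw [Units.val_pow_eq_pow_val, vv_coe, Units.val_one, ← Nat.cast_pow, ← Nat.cast_one,
    ZMod.natCast_eq_natCast_iff]
  exact RR_pow_modEq hm hr hrn e' k he'

theorem vv_sub_r : ((vv hm hn hr hrn e' k he' : (ZMod (MM m e'))ˣ) : ZMod (MM m e')) - (r : ZMod (MM m e'))
    = (m : ZMod (MM m e')) * (k : ZMod (MM m e')) := by
  rw [vv_coe, RR]
  push_cast
  ring

theorem vv_mul_sub : ((vv hm hn hr hrn e' k he' : (ZMod (MM m e'))ˣ) : ZMod (MM m e')) *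
    (((vv hm hn hr hrn e' k he' : (ZMod (MM m e'))ˣ) : ZMod (MM m e')) - (r : ZMod (MM m e'))) =
    ((vv hm hn hr hrn e' k he' : (ZMod (MM m e'))ˣ) : ZMod (MM m e')) - (r : ZMod (MM m e')) := by
  rw [vv_sub_r, ← mul_assoc, vv_mul_m]

theorem vv_sub_one : ((vv hm hn hr hrn e' k he' : (ZMod (MM m e'))ˣ) : ZMod (MM m e')) - 1
    = ((dd m r * uu m r k : ℕ) : ZMod (MM m e')) := by
  rw [vv_coe']
  ring

include hm in
theorem lower_ne (p : ℕ) (hp : p.Prime) (hpe : p ∣ e') (hpos : 0 < e') (hu : ¬ p ∣ uu m r k) :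
    ((m / dd m r * (e' / p) : ℕ) : ZMod (MM m e')) *
      (((vv hm hn hr hrn e' k he' : (ZMod (MM m e'))ˣ) : ZMod (MM m e')) - 1) ≠ 0 := by
  rw [vv_sub_one, ← Nat.cast_mul, Ne, ZMod.natCast_eq_zero_iff]
  intro hdvd
  apply hu
  have h3 : dd m r * (m / dd m r) = m := Nat.mul_div_cancel' dd_dvd_m
  have h4 : p * (e' / p) = e' := Nat.mul_div_cancel' hpe
  have h5 : 0 < e' / p := Nat.div_pos (Nat.le_of_dvd hpos hpe) hp.pos
  have h6 : m / dd m r * (e' / p) * (dd m r * uu m r k) = (m * (e' / p)) * uu m r k := by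
    calc m / dd m r * (e' / p) * (dd m r * uu m r k)
        = (dd m r * (m / dd m r)) * (e' / p) * uu m r k := by ring
      _ = (m * (e' / p)) * uu m r k := by rw [h3]
  have h7 : MM m e' = (m * (e' / p)) * p := by
    rw [MM]
    conv_lhs => rw [← h4]
    ring
  rw [h6, h7] at hdvd
  exact Nat.dvd_of_mul_dvd_mul_left (Nat.mul_pos hm h5) hdvd

include hm in
theorem exists_k (p : ℕ) (hp : p.Prime) : ∃ k : ℕ, ¬ p ∣ uu m r k := by
  by_cases h : p ∣ (r - 1) / dd m r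
  · refine ⟨1, fun h2 => ?_⟩
    rw [uu, mul_one] at h2
    have h3 : p ∣ m / dd m r := (Nat.dvd_add_right h).mp h2
    have h4 : p ∣ Nat.gcd (m / dd m r) ((r - 1) / dd m r) := Nat.dvd_gcd h3 h
    rw [(coprime_md (r := r) hm).gcd_eq_one] at h4
    exact hp.one_lt.ne' (Nat.dvd_one.mp h4)
  · exact ⟨0, by simpa [uu] using h⟩

include hm in
theorem order_cond (kk : ℤ)
    (h : (kk : ZMod (MM m 1)) *
      (((vv hm hn hr hrn 1 0 (one_dvd (ee m n r l)) : (ZMod (MM m 1))ˣ) : ZMod (MM m 1)) - 1) = 0) :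
    ((m / dd m r : ℕ) : ℤ) ∣ kk := by
  rw [vv_sub_one] at h
  have h2 : dd m r * ((r - 1) / dd m r) = r - 1 := Nat.mul_div_cancel' dd_dvd_r
  have h3 : dd m r * (m / dd m r) = m := Nat.mul_div_cancel' dd_dvd_m
  have h1 : dd m r * uu m r 0 = r - 1 := by rw [uu, mul_zero, add_zero, h2]
  rw [h1] at h
  have h4 : ((kk * ((r - 1 : ℕ) : ℤ) : ℤ) : ZMod (MM m 1)) = 0 := by
    push_cast
    exact h
  rw [ZMod.intCast_zmod_eq_zero_iff_dvd] at h4
  have h5 : ((MM m 1 : ℕ) : ℤ) = (dd m r : ℤ) * ((m / dd m r : ℕ) : ℤ) := by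
    rw [MM, mul_one, ← Nat.cast_mul, h3]
  have h6 : ((r - 1 : ℕ) : ℤ) = (dd m r : ℤ) * (((r - 1) / dd m r : ℕ) : ℤ) := by
    rw [← Nat.cast_mul, h2]
  rw [h5, h6] at h4
  have h7 : (dd m r : ℤ) * ((m / dd m r : ℕ) : ℤ) ∣
      (dd m r : ℤ) * (kk * (((r - 1) / dd m r : ℕ) : ℤ)) := by
    have : kk * ((dd m r : ℤ) * (((r - 1) / dd m r : ℕ) : ℤ)) =
        (dd m r : ℤ) * (kk * (((r - 1) / dd m r : ℕ) : ℤ)) := by ring
    rwa [this] at h4
  have hdpos : (dd m r : ℤ) ≠ 0 := by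
    have := dd_pos (r := r) hm
    exact_mod_cast this.ne'
  have h8 := (mul_dvd_mul_iff_left hdpos).mp h7
  have hcop : IsCoprime (((m / dd m r : ℕ) : ℤ)) ((((r - 1) / dd m r : ℕ) : ℤ)) :=
    Nat.isCoprime_iff_coprime.mpr (coprime_md hm)
  exact hcop.dvd_of_dvd_mul_right h8

end

end Cfsg.Agent.Lib.Helper66_MetaArith
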