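import Mathlib
import Cfsg.Agent.Lib.Helper66_SchurCore

set_option autoImplicit false

/-!
# Homomorphisms out of `F / [F, R]` for a presented group `F / R`

If the relators are mapped to central elements of `Y` by `FreeGroup.lift f`, then `f` induces a
homomorphism `F / [F, R] → Y`.
-/

namespace Cfsg.Agent.Lib.Helper66_MetaLift

open Cfsg.Agent.Lib.Helper66_SchurCore

universe w

variable {X : Type w} (rels : Set (FreeGroup X)) {Y : Type*} [Group Y] (f : X → Y)

theorem ker_mk : (PresentedGroup.mk rels).ker = Subgroup.normalClosure rels :=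
  QuotientGroup.ker_mk' _

/-- the image of `ker π` lies in any normal subgroup containing the images of the relators -/
theorem lift_mem_of_mem_ker (K : Subgroup Y) [K.Normal] (h : ∀ r ∈ rels, FreeGroup.lift f r ∈ K)
    (x : FreeGroup X) (hx : x ∈ (PresentedGroup.mk rels).ker) : FreeGroup.lift f x ∈ K := by
  rw [ker_mk] at hx
  have h1 : Subgroup.normalClosure rels ≤ K.comap (FreeGroup.lift f) :=
    Subgroup.normalClosure_le_normal (fun r hr => h r hr)
  exact h1 hx

theorem C_le_ker_lift (h : ∀ r ∈ rels, FreeGroup.lift f r ∈ Subgroup.center Y) :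
    C (PresentedGroup.mk rels) ≤ (FreeGroup.lift f).ker := by
  rw [Subgroup.commutator_le]
  intro g _ x hx
  rw [MonoidHom.mem_ker, map_commutatorElement, commutatorElement_eq_one_iff_mul_comm]
  have := lift_mem_of_mem_ker rels f (Subgroup.center Y) h x hx
  exact Subgroup.mem_center_iff.mp this _

/-- the induced homomorphism `F / [F, R] → Y` -/
def liftE (h : ∀ r ∈ rels, FreeGroup.lift f r ∈ Subgroup.center Y) :
    E (PresentedGroup.mk rels) →* Y :=
  QuotientGroup.lift (C (PresentedGroup.mk rels)) (FreeGroup.lift f)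
    (fun _ hx => C_le_ker_lift rels f h hx)

@[simp]
theorem liftE_mk (h : ∀ r ∈ rels, FreeGroup.lift f r ∈ Subgroup.center Y) (x : FreeGroup X) :
    liftE rels f h (QuotientGroup.mk x) = FreeGroup.lift f x := rfl

/-- `ker ρ` is mapped into any normal subgroup containing the images of the relators -/
theorem liftE_mem_of_mem_ker (h : ∀ r ∈ rels, FreeGroup.lift f r ∈ Subgroup.center Y)
    (K : Subgroup Y) [K.Normal] (hK : ∀ r ∈ rels, FreeGroup.lift f r ∈ K)
    (z : E (PresentedGroup.mk rels)) (hz : z ∈ (ρ (PresentedGroup.mk rels)).ker) :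
    liftE rels f h z ∈ K := by
  obtain ⟨x, rfl⟩ := QuotientGroup.mk_surjective z
  rw [liftE_mk]
  exact lift_mem_of_mem_ker rels f K hK x hz

end Cfsg.Agent.Lib.Helper66_MetaLift
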