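import Mathlib

set_option autoImplicit false

/-!
# A model of metacyclic-type central extensions: `ZMod M ⋊ ℤ`

For a unit `v` of `ZMod M` we form the semidirect product `Multiplicative (ZMod M) ⋊ Multiplicative ℤ`
in which the generator of `ℤ` acts as multiplication by `v`.
-/

namespace Cfsg.Agent.Lib.Helper66_MetaModel

open Multiplicative

variable (M : ℕ)

/-- multiplication by a unit, as an automorphism of `Multiplicative (ZMod M)` -/
def unitAut (v : (ZMod M)ˣ) : MulAut (Multiplicative (ZMod M)) where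
  toFun x := ofAdd ((v : ZMod M) * toAdd x)
  invFun x := ofAdd (((v⁻¹ : (ZMod M)ˣ) : ZMod M) * toAdd x)
  left_inv x := by
    simp only [toAdd_ofAdd, ← mul_assoc, Units.inv_mul, one_mul, ofAdd_toAdd]
  right_inv x := by
    simp only [toAdd_ofAdd, ← mul_assoc, Units.mul_inv, one_mul, ofAdd_toAdd]
  map_mul' x y := by
    simp only [toAdd_mul, mul_add, ofAdd_add]

@[simp]
theorem unitAut_apply (v : (ZMod M)ˣ) (x : Multiplicative (ZMod M)) :
    unitAut M v x = ofAdd ((v : ZMod M) * toAdd x) := rfl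

/-- `unitAut` as a homomorphism -/
def unitAutHom : (ZMod M)ˣ →* MulAut (Multiplicative (ZMod M)) where
  toFun := unitAut M
  map_one' := by
    ext x
    simp
  map_mul' v w := by
    ext x
    simp [mul_assoc]

/-- the action of `ℤ` through powers of `v` -/
def φ (v : (ZMod M)ˣ) : Multiplicative ℤ →* MulAut (Multiplicative (ZMod M)) :=
  (unitAutHom M).comp (zpowersHom (ZMod M)ˣ v)

theorem φ_apply (v : (ZMod M)ˣ) (j : ℤ) (x : ZMod M) :
    φ M v (ofAdd j) (ofAdd x) = ofAdd (((v ^ j : (ZMod M)ˣ) : ZMod M) * x) := by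
  simp [φ, unitAutHom]

/-- the model group -/
abbrev Δ (v : (ZMod M)ˣ) : Type := Multiplicative (ZMod M) ⋊[φ M v] Multiplicative ℤ

variable {M}
variable (v : (ZMod M)ˣ)

/-- the generator of the normal cyclic subgroup -/
def al : Δ M v := SemidirectProduct.inl (ofAdd 1)

/-- the generator of the infinite cyclic complement -/
def be : Δ M v := SemidirectProduct.inr (ofAdd 1)

theorem al_zpow (i : ℤ) : al v ^ i = SemidirectProduct.inl (ofAdd (i : ZMod M)) := by
  rw [al, ← map_zpow, ← ofAdd_zsmul]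
  simp

theorem al_pow (i : ℕ) : al v ^ i = SemidirectProduct.inl (ofAdd (i : ZMod M)) := by
  rw [al, ← map_pow, ← ofAdd_nsmul]
  simp

theorem be_zpow (j : ℤ) : be v ^ j = SemidirectProduct.inr (ofAdd j) := by
  rw [be, ← map_zpow, ← ofAdd_zsmul]
  simp

theorem be_pow (j : ℕ) : be v ^ j = SemidirectProduct.inr (ofAdd (j : ℤ)) := by
  rw [be, ← map_pow, ← ofAdd_nsmul]
  simp

/-- conjugation of `inl x` by `inr j` -/
theorem inr_mul_inl_mul_inv (j : ℤ) (x : ZMod M) :
    (SemidirectProduct.inr (ofAdd j) : Δ M v) * SemidirectProduct.inl (ofAdd x) *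
      (SemidirectProduct.inr (ofAdd j))⁻¹ =
    SemidirectProduct.inl (ofAdd (((v ^ j : (ZMod M)ˣ) : ZMod M) * x)) := by
  rw [← map_inv, ← SemidirectProduct.inl_aut, φ_apply]

theorem be_al_be_inv : be v * al v * (be v)⁻¹ = SemidirectProduct.inl (ofAdd (v : ZMod M)) := by
  rw [be, al, inr_mul_inl_mul_inv]
  simp

/-- every element is `inl x * inr j` -/
theorem eq_inl_mul_inr (g : Δ M v) :
    g = SemidirectProduct.inl (ofAdd (toAdd g.left)) * SemidirectProduct.inr (ofAdd (toAdd g.right)) := by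
  simp

theorem zpow_mul_eq (x : ZMod M) (hx : (v : ZMod M) * x = x) (j : ℤ) :
    ((v ^ j : (ZMod M)ˣ) : ZMod M) * x = x := by
  have h1 : ∀ j : ℕ, ((v ^ j : (ZMod M)ˣ) : ZMod M) * x = x := by
    intro j
    induction j with
    | zero => simp
    | succ j ih => rw [pow_succ, Units.val_mul, mul_assoc, hx, ih]
  have h2 : ∀ j : ℕ, (((v ^ j)⁻¹ : (ZMod M)ˣ) : ZMod M) * x = x := by
    intro j
    have := h1 j
    calc (((v ^ j)⁻¹ : (ZMod M)ˣ) : ZMod M) * x
        = (((v ^ j)⁻¹ : (ZMod M)ˣ) : ZMod M) * (((v ^ j : (ZMod M)ˣ) : ZMod M) * x) := by rw [this]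
      _ = x := by rw [← mul_assoc, Units.inv_mul, one_mul]
  rcases Int.eq_nat_or_neg j with ⟨k, rfl | rfl⟩
  · simpa using h1 k
  · simpa using h2 k

theorem φ_apply' (g : Multiplicative ℤ) (x : ZMod M) :
    φ M v g (ofAdd x) = ofAdd (((v ^ (toAdd g) : (ZMod M)ˣ) : ZMod M) * x) := by
  have := φ_apply M v (toAdd g) x
  rwa [ofAdd_toAdd] at this

/-- a criterion for centrality -/
theorem mk_mem_center (y : ZMod M) (k : ℤ) (hy : (v : ZMod M) * y = y) (hk : v ^ k = 1) :
    (⟨ofAdd y, ofAdd k⟩ : Δ M v) ∈ Subgroup.center (Δ M v) := by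
  rw [Subgroup.mem_center_iff]
  intro g
  apply SemidirectProduct.ext
  · simp only [SemidirectProduct.mul_left]
    have h1 : φ M v g.right (ofAdd y) = ofAdd y := by
      rw [φ_apply', zpow_mul_eq v y hy]
    have h2 : φ M v (ofAdd k) g.left = g.left := by
      have := φ_apply M v k (toAdd g.left)
      rw [ofAdd_toAdd] at this
      rw [this, hk]
      simp
    rw [h1, h2, mul_comm]
  · simp only [SemidirectProduct.mul_right]
    rw [mul_comm]

/-- `inl x` is central as soon as `v * x = x` -/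
theorem inl_mem_center (x : ZMod M) (hx : (v : ZMod M) * x = x) :
    (SemidirectProduct.inl (ofAdd x) : Δ M v) ∈ Subgroup.center (Δ M v) := by
  have := mk_mem_center v x 0 hx (zpow_zero v)
  exact this

theorem al_pow_mem_center (m : ℕ) (h : (v : ZMod M) * m = m) :
    al v ^ m ∈ Subgroup.center (Δ M v) := by
  rw [al_pow]
  exact inl_mem_center v _ h

theorem rel2_eq (n t : ℕ) :
    be v ^ n * (al v ^ t)⁻¹ =
      (⟨ofAdd (((v ^ (n : ℤ) : (ZMod M)ˣ) : ZMod M) * (-(t : ZMod M))), ofAdd (n : ℤ)⟩ : Δ M v) := by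
  rw [be_pow, al_pow, ← map_inv, ← ofAdd_neg]
  apply SemidirectProduct.ext
  · simp only [SemidirectProduct.mul_left, SemidirectProduct.left_inr, SemidirectProduct.right_inr,
      SemidirectProduct.left_inl, one_mul]
    rw [φ_apply]
  · simp

theorem rel2_mem_center (n t : ℕ) (hn : v ^ n = 1) (ht : (v : ZMod M) * t = t) :
    be v ^ n * (al v ^ t)⁻¹ ∈ Subgroup.center (Δ M v) := by
  rw [rel2_eq]
  apply mk_mem_center
  · rw [zpow_natCast, hn]
    simp only [Units.val_one, one_mul, mul_neg, ht]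
  · rw [zpow_natCast, hn]

theorem rel3_eq (r : ℕ) :
    be v * al v * (be v)⁻¹ * (al v ^ r)⁻¹ =
      SemidirectProduct.inl (ofAdd ((v : ZMod M) - (r : ZMod M))) := by
  rw [be_al_be_inv, al_pow, ← map_inv, ← map_mul, ← ofAdd_neg, ← ofAdd_add, sub_eq_add_neg]

theorem c_eq :
    be v * al v * (be v)⁻¹ * (al v)⁻¹ =
      SemidirectProduct.inl (ofAdd ((v : ZMod M) - 1)) := by
  have := rel3_eq v 1
  simpa using this

theorem c_pow (N : ℕ) :
    (be v * al v * (be v)⁻¹ * (al v)⁻¹) ^ N =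
      SemidirectProduct.inl (ofAdd ((N : ZMod M) * ((v : ZMod M) - 1))) := by
  rw [c_eq, ← map_pow, ← ofAdd_nsmul, nsmul_eq_mul]

theorem c_zpow (N : ℤ) :
    (be v * al v * (be v)⁻¹ * (al v)⁻¹) ^ N =
      SemidirectProduct.inl (ofAdd ((N : ZMod M) * ((v : ZMod M) - 1))) := by
  rw [c_eq, ← map_zpow, ← ofAdd_zsmul, zsmul_eq_mul]

theorem inl_eq_one_iff (x : ZMod M) :
    (SemidirectProduct.inl (ofAdd x) : Δ M v) = 1 ↔ x = 0 := by
  rw [← map_one (SemidirectProduct.inl : Multiplicative (ZMod M) →* Δ M v),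
    SemidirectProduct.inl_inj]
  exact ofAdd_eq_one

theorem rightHom_al : SemidirectProduct.rightHom (al v) = 1 := by
  simp [al]

theorem rightHom_be : SemidirectProduct.rightHom (be v) = ofAdd (1 : ℤ) := by
  simp [be]

/-- an element of the normal cyclic subgroup lying in the cyclic group generated by the second
relator is trivial -/
theorem eq_zero_of_inl_mem_zpowers (n t : ℕ) (hn : 0 < n) (x : ZMod M)
    (h : (SemidirectProduct.inl (ofAdd x) : Δ M v) ∈
      Subgroup.zpowers (be v ^ n * (al v ^ t)⁻¹)) : x = 0 := by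
  obtain ⟨i, hi⟩ := Subgroup.mem_zpowers_iff.mp h
  have h1 := congrArg (SemidirectProduct.rightHom : Δ M v →* Multiplicative ℤ) hi
  rw [map_zpow, map_mul, map_inv, map_pow, map_pow, rightHom_al, rightHom_be, one_pow, inv_one,
    mul_one, SemidirectProduct.rightHom_inl, ← ofAdd_nsmul, ← ofAdd_zsmul] at h1
  have h2 : i • (n • (1 : ℤ)) = 0 := ofAdd_eq_one.mp h1
  have h3 : i = 0 := by
    simp only [smul_eq_mul, mul_one, nsmul_eq_mul] at h2
    rcases mul_eq_zero.mp h2 with h | h
    · exact h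
    · have : (n : ℤ) ≠ 0 := by exact_mod_cast hn.ne'
      exact absurd h this
  rw [h3, zpow_zero] at hi
  exact (inl_eq_one_iff v x).mp hi.symm

end Cfsg.Agent.Lib.Helper66_MetaModel
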