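import Mathlib
import Cfsg.Agent.Lib.Helper66_Stem

set_option autoImplicit false

/-!
# Metacyclic-type central extensions: the commutator `c = β α β⁻¹ α⁻¹`

Let `α, β` be elements of a group such that `α ^ m`, `β ^ n * (α ^ t)⁻¹` and
`β * α * β⁻¹ * (α ^ r)⁻¹` are central.  Then `c = β α β⁻¹ α⁻¹` satisfies
`c ^ m = c ^ t = c ^ (1 + r + ⋯ + r ^ (n-1)) = 1`, `β c β⁻¹ = c ^ r`, and `c` commutes with `α`.
-/

namespace Cfsg.Agent.Lib.Helper66_MetaUpper

open Finset

variable {Γ : Type*} [Group Γ] (α β : Γ) (m n r t : ℕ)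

/-- `c ^ N = 1` when `β` centralizes `α ^ N` and `β α β⁻¹` commutes with `α` -/
theorem c_pow_eq_one (hγ : Commute (β * α * β⁻¹) α) (N : ℕ) (hN : β * α ^ N * β⁻¹ = α ^ N) :
    (β * α * β⁻¹ * α⁻¹) ^ N = 1 := by
  rw [(hγ.inv_right).mul_pow, conj_pow, hN, inv_pow, mul_inv_cancel]

section

theorem gamma_eq : β * α * β⁻¹ = (β * α * β⁻¹ * (α ^ r)⁻¹) * α ^ r := by group

variable (hz3 : β * α * β⁻¹ * (α ^ r)⁻¹ ∈ Subgroup.center Γ)
include hz3

theorem commute_gamma : Commute (β * α * β⁻¹) α := by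
  rw [gamma_eq α β r]
  have h1 : Commute (β * α * β⁻¹ * (α ^ r)⁻¹) α := (Subgroup.mem_center_iff.mp hz3 α).symm
  exact h1.mul_left ((Commute.refl α).pow_left r)

theorem commute_c : Commute (β * α * β⁻¹ * α⁻¹) α :=
  (commute_gamma α β r hz3).mul_left (Commute.refl α).inv_left

/-- `β c β⁻¹ = c ^ r` -/
theorem conj_c : β * (β * α * β⁻¹ * α⁻¹) * β⁻¹ = (β * α * β⁻¹ * α⁻¹) ^ r := by
  set γ := β * α * β⁻¹ with hγdef
  set z := γ * (α ^ r)⁻¹ with hzdef
  have hzc : ∀ g : Γ, Commute z g := fun g => (Subgroup.mem_center_iff.mp hz3 g).symm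
  have hγα : Commute γ α := commute_gamma α β r hz3
  have hγ : γ = z * α ^ r := by rw [hzdef]; group
  -- conjugate of γ
  have h1 : β * γ * β⁻¹ = z * γ ^ r := by
    calc β * γ * β⁻¹ = β * (z * α ^ r) * β⁻¹ := by rw [← hγ]
      _ = (β * z) * α ^ r * β⁻¹ := by group
      _ = (z * β) * α ^ r * β⁻¹ := by rw [(hzc β).eq]
      _ = z * (β * α ^ r * β⁻¹) := by group
      _ = z * γ ^ r := by rw [hγdef, conj_pow]
  have h2 : β * (γ * α⁻¹) * β⁻¹ = (β * γ * β⁻¹) * γ⁻¹ := by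
    rw [hγdef]; group
  rw [h2, h1, (hγα.inv_right).mul_pow, inv_pow]
  -- z * γ ^ r * γ⁻¹ = γ ^ r * (α ^ r)⁻¹
  have h3 : Commute ((α ^ r)⁻¹) (γ ^ r * γ⁻¹) := by
    have h0 : Commute ((α ^ r)⁻¹) γ := ((hγα.symm).pow_left r).inv_left
    exact (h0.pow_right r).mul_right h0.inv_right
  calc z * γ ^ r * γ⁻¹ = γ * ((α ^ r)⁻¹ * (γ ^ r * γ⁻¹)) := by rw [hzdef]; group
    _ = γ * ((γ ^ r * γ⁻¹) * (α ^ r)⁻¹) := by rw [h3.eq]
    _ = γ ^ r * (α ^ r)⁻¹ := by group

theorem conj_pow_c (j : ℕ) :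
    β ^ j * (β * α * β⁻¹ * α⁻¹) * (β ^ j)⁻¹ = (β * α * β⁻¹ * α⁻¹) ^ (r ^ j) := by
  induction j with
  | zero => simp
  | succ j ih =>
    have h : β ^ (j + 1) * (β * α * β⁻¹ * α⁻¹) * (β ^ (j + 1))⁻¹ =
        β * (β ^ j * (β * α * β⁻¹ * α⁻¹) * (β ^ j)⁻¹) * β⁻¹ := by
      rw [pow_succ']; group
    rw [h, ih, ← conj_pow, conj_c α β r hz3, ← pow_mul, pow_succ']

theorem conj_pow_alpha (j : ℕ) :
    β ^ j * α * (β ^ j)⁻¹ * α⁻¹ = (β * α * β⁻¹ * α⁻¹) ^ (∑ i ∈ range j, r ^ i) := by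
  induction j with
  | zero => simp
  | succ j ih =>
    have h : β ^ (j + 1) * α * (β ^ (j + 1))⁻¹ * α⁻¹ =
        (β ^ j * (β * α * β⁻¹ * α⁻¹) * (β ^ j)⁻¹) * (β ^ j * α * (β ^ j)⁻¹ * α⁻¹) := by
      rw [pow_succ]; group
    rw [h, ih, conj_pow_c α β r hz3, sum_range_succ, ← pow_add, add_comm]

end

section

variable (hz1 : α ^ m ∈ Subgroup.center Γ)
  (hz2 : β ^ n * (α ^ t)⁻¹ ∈ Subgroup.center Γ)
  (hz3 : β * α * β⁻¹ * (α ^ r)⁻¹ ∈ Subgroup.center Γ)

include hz1 hz3 in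
theorem c_pow_m : (β * α * β⁻¹ * α⁻¹) ^ m = 1 := by
  apply c_pow_eq_one α β (commute_gamma α β r hz3)
  have := Subgroup.mem_center_iff.mp hz1 β
  rw [this]; group

include hz2 hz3 in
theorem c_pow_t : (β * α * β⁻¹ * α⁻¹) ^ t = 1 := by
  apply c_pow_eq_one α β (commute_gamma α β r hz3)
  set z := β ^ n * (α ^ t)⁻¹ with hzdef
  have hzc : ∀ g : Γ, Commute z g := fun g => (Subgroup.mem_center_iff.mp hz2 g).symm
  have h1 : α ^ t = z⁻¹ * β ^ n := by rw [hzdef]; group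
  have hzi : Commute z⁻¹ β := (hzc β).inv_left
  calc β * α ^ t * β⁻¹ = β * (z⁻¹ * β ^ n) * β⁻¹ := by rw [h1]
    _ = (β * z⁻¹) * β ^ n * β⁻¹ := by group
    _ = (z⁻¹ * β) * β ^ n * β⁻¹ := by rw [hzi.eq]
    _ = z⁻¹ * β ^ n := by group
    _ = α ^ t := h1.symm

include hz2 hz3 in
theorem c_pow_sum : (β * α * β⁻¹ * α⁻¹) ^ (∑ i ∈ range n, r ^ i) = 1 := by
  rw [← conj_pow_alpha α β r hz3 n]
  set z := β ^ n * (α ^ t)⁻¹ with hzdef
  have hzc : ∀ g : Γ, Commute z g := fun g => (Subgroup.mem_center_iff.mp hz2 g).symm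
  have h1 : β ^ n = z * α ^ t := by rw [hzdef]; group
  have h2 : Commute (β ^ n) α := by
    rw [h1]
    exact (hzc α).mul_left ((Commute.refl α).pow_left t)
  rw [h2.eq]; group

end

theorem mem_normalizer_zpowers' (g c : Γ)
    (h : Subgroup.zpowers (g * c * g⁻¹) = Subgroup.zpowers c) :
    g ∈ Subgroup.normalizer ((Subgroup.zpowers c : Subgroup Γ) : Set Γ) := by
  rw [Subgroup.mem_normalizer_iff_map_conj_eq, MonoidHom.map_zpowers]
  exact h

/-- the commutator subgroup is generated by `c` -/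
theorem commutator_le_zpowers (K : Subgroup Γ) (hK : K ≤ Subgroup.center Γ)
    (hgen : Subgroup.closure (({α, β} : Set Γ) ∪ (K : Set Γ)) = ⊤)
    (hz1 : α ^ m ∈ Subgroup.center Γ)
    (hz3 : β * α * β⁻¹ * (α ^ r)⁻¹ ∈ Subgroup.center Γ) (hrm : Nat.Coprime r m) :
    commutator Γ ≤ Subgroup.zpowers (β * α * β⁻¹ * α⁻¹) := by
  set c := β * α * β⁻¹ * α⁻¹ with hcdef
  have hcm : c ^ m = 1 := c_pow_m α β m r hz1 hz3
  have hαc : α * c * α⁻¹ = c := by
    have := (commute_c α β r hz3).eq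
    rw [← hcdef] at this
    rw [← this]; group
  have hβc : β * c * β⁻¹ = c ^ r := conj_c α β r hz3
  have hcr : Subgroup.zpowers (c ^ r) = Subgroup.zpowers c := by
    apply le_antisymm
    · rw [Subgroup.zpowers_le]
      exact Subgroup.pow_mem _ (Subgroup.mem_zpowers c) r
    · rw [Subgroup.zpowers_le]
      have hb := Nat.gcd_eq_gcd_ab r m
      rw [hrm.gcd_eq_one] at hb
      have : c = (c ^ r) ^ (Nat.gcdA r m) := by
        have h1 : c = c ^ ((r : ℤ) * Nat.gcdA r m + (m : ℤ) * Nat.gcdB r m) := by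
          rw [← hb]; simp
        rw [zpow_add, zpow_mul, zpow_mul, zpow_natCast, zpow_natCast, hcm, one_zpow, mul_one] at h1
        exact h1
      have h2 : (c ^ r) ^ (Nat.gcdA r m) ∈ Subgroup.zpowers (c ^ r) :=
        Subgroup.zpow_mem _ (Subgroup.mem_zpowers (c ^ r)) _
      rwa [← this] at h2
  have hnorm : (Subgroup.zpowers c).Normal := by
    rw [← Subgroup.normalizer_eq_top_iff, eq_top_iff, ← hgen, Subgroup.closure_le]
    rintro g (hg | hg)
    · rcases hg with rfl | hg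
      · exact Helper66_Stem.mem_normalizer_zpowers _ _ (Or.inl hαc)
      · rw [Set.mem_singleton_iff] at hg
        subst hg
        exact mem_normalizer_zpowers' g c (by rw [hβc, hcr])
    · apply Helper66_Stem.mem_normalizer_zpowers _ _ (Or.inl _)
      have := Subgroup.mem_center_iff.mp (hK hg) c
      rw [← this]; group
  have := hnorm
  apply Helper66_Stem.commutator_le_of_closure (Subgroup.zpowers c) _ hgen
  have hcen : ∀ z ∈ (K : Set Γ), ∀ b : Γ, z * b * z⁻¹ * b⁻¹ = 1 ∧ b * z * b⁻¹ * z⁻¹ = 1 := by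
    intro z hz b
    have := Subgroup.mem_center_iff.mp (hK hz) b
    constructor
    · rw [← this]; group
    · rw [this]; group
  rintro a (ha | ha) b (hb | hb)
  · rcases ha with rfl | ha <;> rcases hb with rfl | hb
    · simp
    · rw [Set.mem_singleton_iff] at hb
      subst hb
      have : a * b * a⁻¹ * b⁻¹ = (b * a * b⁻¹ * a⁻¹)⁻¹ := by group
      rw [this]
      exact Subgroup.inv_mem _ (Subgroup.mem_zpowers _)
    · rw [Set.mem_singleton_iff] at ha
      subst ha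
      exact Subgroup.mem_zpowers _
    · rw [Set.mem_singleton_iff] at ha hb
      subst ha; subst hb
      simp
  · rw [(hcen b hb a).2]; exact Subgroup.one_mem _
  · rw [(hcen a ha b).1]; exact Subgroup.one_mem _
  · rw [(hcen a ha b).1]; exact Subgroup.one_mem _

theorem zpowers_pow_eq (c : Γ) (hcm : c ^ m = 1) (hrm : Nat.Coprime r m) :
    Subgroup.zpowers (c ^ r) = Subgroup.zpowers c := by
  apply le_antisymm
  · rw [Subgroup.zpowers_le]
    exact Subgroup.pow_mem _ (Subgroup.mem_zpowers c) r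
  · rw [Subgroup.zpowers_le]
    have hb := Nat.gcd_eq_gcd_ab r m
    rw [hrm.gcd_eq_one] at hb
    have : c = (c ^ r) ^ (Nat.gcdA r m) := by
      have h1 : c = c ^ ((r : ℤ) * Nat.gcdA r m + (m : ℤ) * Nat.gcdB r m) := by
        rw [← hb]; simp
      rw [zpow_add, zpow_mul, zpow_mul, zpow_natCast, zpow_natCast, hcm, one_zpow, mul_one] at h1
      exact h1
    have h2 : (c ^ r) ^ (Nat.gcdA r m) ∈ Subgroup.zpowers (c ^ r) :=
      Subgroup.zpow_mem _ (Subgroup.mem_zpowers (c ^ r)) _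
    rwa [← this] at h2

open scoped Pointwise in
/-- a group generated by `a, b` with `a ^ m = 1`, `b ^ n = a ^ t`, `b a b⁻¹ = a ^ r` is finite -/
theorem finite_of_metacyclic {G : Type*} [Group G] (a b : G) (hm : 0 < m) (hn : 0 < n)
    (hgen : Subgroup.closure ({a, b} : Set G) = ⊤) (h1 : a ^ m = 1) (h2 : b ^ n = a ^ t)
    (h3 : b * a * b⁻¹ = a ^ r) (hrm : Nat.Coprime r m) : Finite G := by
  have hA : (Subgroup.zpowers a).Normal := by
    rw [← Subgroup.normalizer_eq_top_iff, eq_top_iff, ← hgen, Subgroup.closure_le]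
    rintro g (rfl | hg)
    · exact mem_normalizer_zpowers' g g (by simp)
    · rw [Set.mem_singleton_iff] at hg
      subst hg
      exact mem_normalizer_zpowers' g a (by rw [h3, zpowers_pow_eq m r a h1 hrm])
  have hfa : IsOfFinOrder a := isOfFinOrder_iff_pow_eq_one.mpr ⟨m, hm, h1⟩
  have hfb : IsOfFinOrder b := by
    refine isOfFinOrder_iff_pow_eq_one.mpr ⟨n * m, Nat.mul_pos hn hm, ?_⟩
    rw [pow_mul, h2, ← pow_mul, mul_comm, pow_mul, h1, one_pow]
  have hfinA : (Subgroup.zpowers a : Set G).Finite := by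
    rw [← hfa.powers_eq_zpowers]; exact hfa.finite_powers
  have hfinB : (Subgroup.zpowers b : Set G).Finite := by
    rw [← hfb.powers_eq_zpowers]; exact hfb.finite_powers
  have htop : (⊤ : Subgroup G) = Subgroup.zpowers a ⊔ Subgroup.zpowers b := by
    rw [← hgen, Subgroup.zpowers_eq_closure, Subgroup.zpowers_eq_closure, ← Subgroup.closure_union]
    rfl
  have hset : ((⊤ : Subgroup G) : Set G) = (Subgroup.zpowers a : Set G) * (Subgroup.zpowers b : Set G) := by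
    rw [htop, Subgroup.normal_mul]
  have hfin : (Set.univ : Set G).Finite := by
    rw [← Subgroup.coe_top, hset]
    exact hfinA.mul hfinB
  exact Set.finite_univ_iff.mp hfin

end Cfsg.Agent.Lib.Helper66_MetaUpper
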