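import Mathlib

set_option autoImplicit false

/-!
# Monomial (induced) representations from a character of a central subgroup
-/

namespace Cfsg.Agent.Lib.Helper66_ProjRepA

open Matrix

section Induced

variable {G : Type*} [Group G] (K : Subgroup G)

theorem cocycle_mem (g : G) (i : G ⧸ K) :
    (Quotient.out (g • i))⁻¹ * (g * Quotient.out i) ∈ K := by
  rw [← QuotientGroup.eq, QuotientGroup.out_eq']
  have : ((g * Quotient.out i : G) : G ⧸ K) = g • ((Quotient.out i : G) : G ⧸ K) := rfl
  rw [this, QuotientGroup.out_eq']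

/-- the cocycle `s(g i)⁻¹ g s(i)` -/
noncomputable def kk (g : G) (i : G ⧸ K) : K := ⟨_, cocycle_mem K g i⟩

theorem kk_mul (g h : G) (i : G ⧸ K) : kk K (g * h) i = kk K g (h • i) * kk K h i := by
  apply Subtype.ext
  simp only [kk, Subgroup.coe_mul, mul_smul]
  group

theorem kk_one (i : G ⧸ K) : kk K 1 i = 1 := by
  apply Subtype.ext
  simp [kk]

variable {K}

theorem smul_eq_of_mem_center (hK : K ≤ Subgroup.center G) {x : G} (hx : x ∈ K) (i : G ⧸ K) :
    x • i = i := by
  induction i using QuotientGroup.induction_on with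
  | H a =>
    have h1 : x • (a : G ⧸ K) = ((x * a : G) : G ⧸ K) := rfl
    rw [h1, ← Subgroup.mem_center_iff.mp (hK hx) a]
    exact QuotientGroup.mk_mul_of_mem a hx

theorem kk_of_mem_center (hK : K ≤ Subgroup.center G) {x : G} (hx : x ∈ K) (i : G ⧸ K) :
    kk K x i = ⟨x, hx⟩ := by
  apply Subtype.ext
  simp only [kk, smul_eq_of_mem_center hK hx]
  rw [← Subgroup.mem_center_iff.mp (hK hx) (Quotient.out i), inv_mul_cancel_left]

variable (K)
variable (lam : K →* ℂˣ) [Fintype (G ⧸ K)] [DecidableEq (G ⧸ K)]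

/-- the monomial matrix of `g` -/
noncomputable def MM (g : G) : Matrix (G ⧸ K) (G ⧸ K) ℂ :=
  fun j i => if j = g • i then ((lam (kk K g i) : ℂˣ) : ℂ) else 0

omit [Fintype (G ⧸ K)] in
theorem MM_one : MM K lam 1 = 1 := by
  ext j i
  simp only [MM, one_smul, kk_one, map_one, Units.val_one, Matrix.one_apply]

theorem MM_mul (g h : G) : MM K lam (g * h) = MM K lam g * MM K lam h := by
  ext j i
  rw [Matrix.mul_apply, Finset.sum_eq_single (h • i)]
  · simp only [MM, if_true, mul_smul, kk_mul, map_mul, Units.val_mul]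
    split_ifs <;> simp
  · intro l _ hl
    simp only [MM]
    rw [if_neg hl, mul_zero]
  · intro h1
    exact absurd (Finset.mem_univ _) h1

/-- the monomial representation as a monoid homomorphism -/
noncomputable def MMhom : G →* Matrix (G ⧸ K) (G ⧸ K) ℂ where
  toFun := MM K lam
  map_one' := MM_one K lam
  map_mul' := MM_mul K lam

theorem MM_of_mem_center (hK : K ≤ Subgroup.center G) {x : G} (hx : x ∈ K) :
    MM K lam x = Matrix.scalar (G ⧸ K) ((lam ⟨x, hx⟩ : ℂˣ) : ℂ) := by
  ext j i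
  simp only [MM, smul_eq_of_mem_center hK hx, kk_of_mem_center hK hx, Matrix.scalar_apply,
    Matrix.diagonal_apply]

end Induced

/-- **Induced representation**: a character `lam` of a central subgroup `K` of finite index `m`
extends to a representation of degree `m` in which `K` acts by the scalars `lam`. -/
theorem exists_rep_of_central_character {G : Type*} [Group G] (K : Subgroup G)
    (hK : K ≤ Subgroup.center G) [K.FiniteIndex] (lam : K →* ℂˣ) :
    ∃ ρ : G →* GL (Fin K.index) ℂ, ∀ x : K,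
      ρ x = Matrix.GeneralLinearGroup.scalar (Fin K.index) (lam x) := by
  classical
  have : Finite (G ⧸ K) := Subgroup.finite_quotient_of_finiteIndex
  have : Fintype (G ⧸ K) := Fintype.ofFinite _
  let e : (G ⧸ K) ≃ Fin K.index := Finite.equivFinOfCardEq (Subgroup.index_eq_card K).symm
  let R : (Matrix (G ⧸ K) (G ⧸ K) ℂ)ˣ ≃* (Matrix (Fin K.index) (Fin K.index) ℂ)ˣ :=
    Units.mapEquiv (Matrix.reindexAlgEquiv ℂ ℂ e).toMulEquiv
  refine ⟨R.toMonoidHom.comp (MMhom K lam).toHomUnits, ?_⟩
  intro x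
  apply Units.ext
  change (Matrix.reindexAlgEquiv ℂ ℂ e) (MM K lam (x : G)) = _
  rw [MM_of_mem_center K lam hK x.2]
  ext a b
  simp [Matrix.scalar_apply, Matrix.diagonal_apply, Matrix.GeneralLinearGroup.scalar]

/-- the scalar embedding is injective in positive degree -/
theorem scalar_injective (n : ℕ) (hn : 0 < n) :
    Function.Injective (Matrix.GeneralLinearGroup.scalar (Fin n) : ℂˣ →* GL (Fin n) ℂ) := by
  intro a b hab
  have h1 := congrArg (fun g : GL (Fin n) ℂ => (g : Matrix (Fin n) (Fin n) ℂ) ⟨0, hn⟩ ⟨0, hn⟩) hab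
  simp only [Matrix.GeneralLinearGroup.coe_scalar, Matrix.scalar_apply, Matrix.diagonal_apply_eq] at h1
  exact Units.ext h1

/-- scalar matrices are in the kernel of the map to the projective group -/
theorem mk_scalar_eq_one (n : ℕ) (c : ℂˣ) :
    (QuotientGroup.mk' (Subgroup.center (GL (Fin n) ℂ))) (Matrix.GeneralLinearGroup.scalar (Fin n) c) = 1 := by
  rw [QuotientGroup.mk'_apply, QuotientGroup.eq_one_iff,
    Matrix.GeneralLinearGroup.center_eq_range_scalar]
  exact ⟨c, rfl⟩

/-- two linear representations inducing the same projective representation agree on the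
commutator subgroup, up to the value at ... : more precisely, if `mk ∘ ρ₁ = mk ∘ ρ₂` then
`ρ₁ g * (ρ₂ g)⁻¹` is a homomorphism into the centre, hence trivial on commutators. -/
theorem eq_on_commutator_of_proj_eq {G : Type*} [Group G] (n : ℕ) (ρ₁ ρ₂ : G →* GL (Fin n) ℂ)
    (h : (QuotientGroup.mk' (Subgroup.center (GL (Fin n) ℂ))).comp ρ₁ =
      (QuotientGroup.mk' (Subgroup.center (GL (Fin n) ℂ))).comp ρ₂) {g : G}
    (hg : g ∈ commutator G) : ρ₁ g = ρ₂ g := by
  have hd : ∀ g, (ρ₁ g)⁻¹ * ρ₂ g ∈ Subgroup.center (GL (Fin n) ℂ) := by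
    intro g
    have := DFunLike.congr_fun h g
    simp only [MonoidHom.comp_apply, QuotientGroup.mk'_apply] at this
    rw [QuotientGroup.eq] at this
    exact this
  let d : G →* GL (Fin n) ℂ := MonoidHom.mk' (fun g => (ρ₁ g)⁻¹ * ρ₂ g) (by
    intro a b
    have ha := Subgroup.mem_center_iff.mp (hd a)
    calc (ρ₁ (a * b))⁻¹ * ρ₂ (a * b) = (ρ₁ b)⁻¹ * ((ρ₁ a)⁻¹ * ρ₂ a) * ρ₂ b := by
          rw [map_mul, map_mul]; group
      _ = ((ρ₁ a)⁻¹ * ρ₂ a) * (ρ₁ b)⁻¹ * ρ₂ b := by rw [ha]
      _ = (ρ₁ a)⁻¹ * ρ₂ a * ((ρ₁ b)⁻¹ * ρ₂ b) := by group)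
  have h1 : commutator G ≤ d.ker := by
    rw [commutator_def, Subgroup.commutator_le]
    intro a _ b _
    rw [MonoidHom.mem_ker, map_commutatorElement, commutatorElement_eq_one_iff_mul_comm]
    exact (Subgroup.mem_center_iff.mp (hd a) (d b)).symm
  have h2 : d g = 1 := h1 hg
  exact inv_mul_eq_one.mp h2

end Cfsg.Agent.Lib.Helper66_ProjRepA
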