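import Mathlib

set_option autoImplicit false

/-!
# Extending characters with values in a divisible group
-/

namespace Cfsg.Agent.Lib.Helper66_ProjRepB

/-- **Extension of characters**: if `K ∩ P' = 1` then every homomorphism from `K` to a
divisible commutative group `D` extends to `P`. -/
theorem exists_extension_of_rootable {P : Type*} [Group P] (K : Subgroup P)
    (hK : K ⊓ commutator P = ⊥) {D : Type*} [CommGroup D]
    (hD : ∀ (d : D) (m : ℕ), 0 < m → ∃ d', d' ^ m = d) (lam : K →* D) :
    ∃ χ : P →* D, ∀ k : K, χ k = lam k := by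
  classical
  -- divisibility of `Additive D`
  have hsurj : ∀ {n : ℤ}, n ≠ 0 → Function.Surjective (fun a : Additive D => n • a) := by
    intro n hn a
    rcases Int.lt_or_gt_of_ne hn with hneg | hpos
    · obtain ⟨d', hd'⟩ := hD (Additive.toMul a)⁻¹ n.natAbs (Int.natAbs_pos.mpr hn)
      refine ⟨Additive.ofMul d', ?_⟩
      change Additive.ofMul (d' ^ n) = a
      have hn' : n = -(n.natAbs : ℤ) := by omega
      rw [hn', zpow_neg, zpow_natCast, hd', inv_inv]
      rfl
    · obtain ⟨d', hd'⟩ := hD (Additive.toMul a) n.natAbs (Int.natAbs_pos.mpr hn)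
      refine ⟨Additive.ofMul d', ?_⟩
      change Additive.ofMul (d' ^ n) = a
      have hn' : n = (n.natAbs : ℤ) := by omega
      rw [hn', zpow_natCast, hd']
      rfl
  let _ : DivisibleBy (Additive D) ℤ := divisibleByOfSMulRightSurj (Additive D) ℤ hsurj
  -- the image of `K` in the abelianization
  let ι : K →* Abelianization P := Abelianization.of.comp K.subtype
  have hι : Function.Injective ι := by
    rw [injective_iff_map_eq_one]
    intro k hk
    have h1 : (k : P) ∈ Abelianization.of.ker := hk
    rw [Abelianization.ker_of] at h1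
    have h2 : (k : P) ∈ K ⊓ commutator P := Subgroup.mem_inf.mpr ⟨k.2, h1⟩
    rw [hK, Subgroup.mem_bot] at h2
    exact Subtype.ext h2
  let e : K ≃* ι.range := MulEquiv.ofBijective ι.rangeRestrict
    ⟨by
      intro a b hab
      exact hι (congrArg Subtype.val hab), ι.rangeRestrict_surjective⟩
  let lam' : ι.range →* D := lam.comp e.symm.toMonoidHom
  obtain ⟨h, hh⟩ := (Module.Baer.of_divisible (Additive D)).extension_property_addMonoidHom
    (MonoidHom.toAdditive ι.range.subtype) (fun a b hab => Subtype.ext (by exact hab))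
    (MonoidHom.toAdditive lam')
  refine ⟨(MonoidHom.toAdditive.symm h).comp Abelianization.of, ?_⟩
  intro k
  have h1 := DFunLike.congr_fun hh (Additive.ofMul (e k))
  have h2 : lam' (e k) = lam k := by
    change lam (e.symm (e k)) = lam k
    rw [e.symm_apply_apply]
  rw [← h2]
  exact congrArg Additive.toMul h1

open scoped IsMulCommutative in
/-- the centre of `GL n ℂ` is divisible -/
theorem center_GL_rootable (n : ℕ) (d : Subgroup.center (GL (Fin n) ℂ)) (m : ℕ) (hm : 0 < m) :
    ∃ d' : Subgroup.center (GL (Fin n) ℂ), d' ^ m = d := by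
  have hd : ∀ x ∈ Subgroup.center (GL (Fin n) ℂ),
      x ∈ (Matrix.GeneralLinearGroup.scalar (Fin n) : ℂˣ →* GL (Fin n) ℂ).range := by
    intro x hx
    rw [Matrix.GeneralLinearGroup.center_eq_range_scalar] at hx
    exact hx
  obtain ⟨c, hc⟩ := hd _ d.2
  obtain ⟨w, hw⟩ := IsAlgClosed.exists_pow_nat_eq (c : ℂ) hm
  have hw0 : w ≠ 0 := by
    rintro rfl
    rw [zero_pow hm.ne'] at hw
    exact c.ne_zero hw.symm
  have hmem : Matrix.GeneralLinearGroup.scalar (Fin n) (Units.mk0 w hw0) ∈
      Subgroup.center (GL (Fin n) ℂ) := by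
    rw [Matrix.GeneralLinearGroup.center_eq_range_scalar]
    exact ⟨_, rfl⟩
  refine ⟨⟨_, hmem⟩, Subtype.ext ?_⟩
  rw [Subgroup.coe_pow, ← map_pow, ← hc]
  congr 1
  exact Units.ext (by simpa using hw)

end Cfsg.Agent.Lib.Helper66_ProjRepB
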