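import Mathlib
import Cfsg.Prelude.Def_KGroupFacts
import Cfsg.Agent.Lib.Helper66_Stem

set_option autoImplicit false
open Cfsg

namespace Cfsg.Agent.Lib.Helper66_QuaternionStem

open Cfsg.Agent.Lib.Helper66_Stem

theorem inv_a {n : ℕ} (i : ZMod (2 * n)) :
    (QuaternionGroup.a i : QuaternionGroup n)⁻¹ = QuaternionGroup.a (-i) := rfl

theorem inv_xa {n : ℕ} (i : ZMod (2 * n)) :
    (QuaternionGroup.xa i : QuaternionGroup n)⁻¹ = QuaternionGroup.xa ((n : ZMod (2 * n)) + i) := rfl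

theorem two_n_zero (n : ℕ) : (n : ZMod (2 * n)) + n = 0 := by
  have : ((2 * n : ℕ) : ZMod (2 * n)) = 0 := ZMod.natCast_self (2 * n)
  rw [← this]
  push_cast
  ring

/-- In a stem extension of a generalized quaternion group the kernel consists of powers of one
element `c` with `c ^ n = 1` which maps to `a (-2)`. -/
theorem quaternion_stem {n : ℕ} [NeZero n] {Γ : Type*} [Group Γ] (σ : Γ →* QuaternionGroup n)
    (hσ : IsStemExtension σ) :
    ∃ c : Γ, (∀ z ∈ σ.ker, ∃ j : ℤ, z = c ^ j) ∧ c ^ n = 1 ∧ σ c = QuaternionGroup.a (-2) := by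
  have : NeZero (2 * n) := ⟨by have := NeZero.ne n; omega⟩
  obtain ⟨hsurj, hcen, hcomm⟩ := hσ
  obtain ⟨α, hα⟩ := hsurj (QuaternionGroup.a 1)
  obtain ⟨ξ, hξ⟩ := hsurj (QuaternionGroup.xa 0)
  have h2n := two_n_zero n
  -- generation
  have hgen : Subgroup.closure (({α, ξ} : Set Γ) ∪ (σ.ker : Set Γ)) = ⊤ := by
    rw [eq_top_iff]
    intro g _
    have hα' : α ∈ Subgroup.closure (({α, ξ} : Set Γ) ∪ (σ.ker : Set Γ)) :=
      Subgroup.subset_closure (Or.inl (by simp))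
    have hξ' : ξ ∈ Subgroup.closure (({α, ξ} : Set Γ) ∪ (σ.ker : Set Γ)) :=
      Subgroup.subset_closure (Or.inl (by simp))
    have hK' : ∀ z, σ z = 1 → z ∈ Subgroup.closure (({α, ξ} : Set Γ) ∪ (σ.ker : Set Γ)) :=
      fun z hz => Subgroup.subset_closure (Or.inr (MonoidHom.mem_ker.mpr hz))
    rcases hg : σ g with i | i
    · have hi : ((i.val : ℕ) : ZMod (2 * n)) = i := ZMod.natCast_zmod_val i
      have h1 : σ ((α ^ i.val)⁻¹ * g) = 1 := by
        rw [map_mul, map_inv, map_pow, hα, hg, QuaternionGroup.a_one_pow, hi]; group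
      have : g = α ^ i.val * ((α ^ i.val)⁻¹ * g) := by group
      rw [this]
      exact Subgroup.mul_mem _ (Subgroup.pow_mem _ hα' _) (hK' _ h1)
    · have hi : ((i.val : ℕ) : ZMod (2 * n)) = i := ZMod.natCast_zmod_val i
      have h1 : σ ((ξ * α ^ i.val)⁻¹ * g) = 1 := by
        rw [map_mul, map_inv, map_mul, map_pow, hα, hξ, hg, QuaternionGroup.a_one_pow, hi,
          QuaternionGroup.xa_mul_a, zero_add]; group
      have : g = ξ * α ^ i.val * ((ξ * α ^ i.val)⁻¹ * g) := by group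
      rw [this]
      exact Subgroup.mul_mem _ (Subgroup.mul_mem _ hξ' (Subgroup.pow_mem _ hα' _)) (hK' _ h1)
  have hk : ξ * α * ξ⁻¹ * α ∈ Subgroup.center Γ := by
    apply hcen
    rw [MonoidHom.mem_ker, map_mul, map_mul, map_mul, map_inv, hα, hξ, inv_xa,
      QuaternionGroup.xa_mul_a, QuaternionGroup.xa_mul_xa, QuaternionGroup.a_mul_a,
      QuaternionGroup.one_def]
    congr 1
    linear_combination h2n
  have hc := commutator_le_zpowers_of_dihedral_type σ.ker hcen α ξ hgen hk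
  -- `α ^ n` equals `ξ ^ 2` up to a central element
  have hαn : (ξ ^ 2)⁻¹ * α ^ n ∈ Subgroup.center Γ := by
    apply hcen
    rw [MonoidHom.mem_ker, map_mul, map_inv, map_pow, map_pow, hα, hξ, QuaternionGroup.a_one_pow,
      QuaternionGroup.xa_sq, inv_mul_cancel]
  have hN : ξ * α ^ n * ξ⁻¹ = α ^ n := by
    have h1 := Subgroup.mem_center_iff.mp hαn ξ
    have e1 : α ^ n = ξ ^ 2 * ((ξ ^ 2)⁻¹ * α ^ n) := by group
    rw [e1]
    calc ξ * (ξ ^ 2 * ((ξ ^ 2)⁻¹ * α ^ n)) * ξ⁻¹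
        = ξ ^ 2 * (ξ * ((ξ ^ 2)⁻¹ * α ^ n)) * ξ⁻¹ := by group
      _ = ξ ^ 2 * (((ξ ^ 2)⁻¹ * α ^ n) * ξ) * ξ⁻¹ := by rw [h1]
      _ = ξ ^ 2 * ((ξ ^ 2)⁻¹ * α ^ n) := by group
  refine ⟨ξ * α * ξ⁻¹ * α⁻¹, ?_, dihedral_type_pow_eq_one α ξ hk n hN, ?_⟩
  · intro z hz
    obtain ⟨j, hj⟩ := Subgroup.mem_zpowers_iff.mp (hc (hcomm hz))
    exact ⟨j, hj.symm⟩
  · rw [map_mul, map_mul, map_mul, map_inv, map_inv, hα, hξ, inv_xa, inv_a,
      QuaternionGroup.xa_mul_a, QuaternionGroup.xa_mul_xa, QuaternionGroup.a_mul_a]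
    congr 1
    linear_combination h2n

end Cfsg.Agent.Lib.Helper66_QuaternionStem
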