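import Mathlib
import Cfsg.Agent.Lib.Helper66_S92Defs

set_option autoImplicit false

/-! SPLIT (S2092): a `CSt` family in `E` lifting the model family gives a section of `π`. -/

namespace Cfsg.Agent.Lib.Helper66_S92

open Cfsg.Agent.Lib.Helper5_SteinbergA

section transfer

variable {ι : Type*} {K : Type*} [Field K] {G H : Type*} [Group G] [Group H]

omit [Group G] [Group H] in
theorem pairC_comp (f : G → H) (X : ι ⊕ ι → ι ⊕ ι → K → G) (a c : ι ⊕ ι) (b : Bool) (t : K) :
    pairC (fun a c t => f (X a c t)) a c b t = f (pairC X a c b t) := by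
  cases b <;> rfl

/-- the Steinberg relations can be checked after an injective homomorphism -/
theorem cSt_of_map_injective (f : G →* H) (hf : Function.Injective f)
    {X : ι ⊕ ι → ι ⊕ ι → K → G} (h : CSt (fun a c t => f (X a c t))) : CSt X where
  symm a c t := hf (h.symm a c t)
  opp a t := hf (by rw [map_one]; exact h.opp a t)
  add a c t u := hf (by rw [map_mul]; exact h.add a c t u)
  comm a c d e t u h1 h2 h3 h4 := hf (by
    rw [map_mul, map_mul]; exact h.comm a c d e t u h1 h2 h3 h4)
  a2 a c e t u h1 h2 h3 h4 h5 h6 := hf (by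
    rw [map_mul, map_mul, map_mul, map_inv, map_inv]; exact h.a2 a c e t u h1 h2 h3 h4 h5 h6)
  ssl a c t u h1 h2 := hf (by
    rw [map_mul, map_mul, map_mul, map_inv, map_inv]; exact h.ssl a c t u h1 h2)
  ls a e t u h1 h2 := hf (by
    rw [map_mul, map_mul, map_mul, map_mul, map_inv, map_inv]; exact h.ls a e t u h1 h2)
  rank1 a c hac := by
    have hr := h.rank1 a c hac
    constructor
    · intro b t u
      apply hf
      rw [map_mul, ← pairC_comp (⇑f) X, ← pairC_comp (⇑f) X, ← pairC_comp (⇑f) X]
      exact hr.add b t u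
    · intro b t u ht
      apply hf
      simp only [map_mul, map_inv, ← pairC_comp (⇑f) X]
      exact hr.conj b t u ht

end transfer

/-- SPLIT, with the two ingredients (`injective_of_cSt`, `XM_closure`) as hypotheses -/
theorem split_of_lift_aux {K : Type*} [Field K] {ι : Type*} [Fintype ι] [DecidableEq ι]
    {E : Type*} [Group E] (π : E →* Matrix.symplecticGroup ι K)
    (hgenM : Subgroup.closure {g | ∃ a c t, g = XM ι K a c t} = ⊤)
    (hinj : ∀ (G : Subgroup E) (X : ι ⊕ ι → ι ⊕ ι → K → G), CSt X →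
      Subgroup.closure {g | ∃ a c t, g = X a c t} = ⊤ →
      ∀ φ : G →* Matrix.symplecticGroup ι K, (∀ a c t, φ (X a c t) = XM ι K a c t) →
        Function.Injective φ)
    (hY : ∃ Y : ι ⊕ ι → ι ⊕ ι → K → E, CSt Y ∧ ∀ a c t, π (Y a c t) = XM ι K a c t) :
    ∃ s : Matrix.symplecticGroup ι K →* E, π.comp s = MonoidHom.id _ := by
  obtain ⟨Y, hY, hπY⟩ := hY
  set G : Subgroup E := Subgroup.closure {g | ∃ a c t, g = Y a c t} with hG
  have hmem : ∀ a c t, Y a c t ∈ G := fun a c t => Subgroup.subset_closure ⟨a, c, t, rfl⟩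
  set X : ι ⊕ ι → ι ⊕ ι → K → G := fun a c t => ⟨Y a c t, hmem a c t⟩ with hX
  have hcX : CSt X := cSt_of_map_injective G.subtype G.subtype_injective hY
  have hgenX : Subgroup.closure {g | ∃ a c t, g = X a c t} = ⊤ := by
    rw [eq_top_iff]
    rintro ⟨g, hg⟩ -
    have key : ∀ x (hx : x ∈ G), (⟨x, hx⟩ : G) ∈ Subgroup.closure {g | ∃ a c t, g = X a c t} := by
      intro x hx
      induction hx using Subgroup.closure_induction with
      | mem x hx =>
        obtain ⟨a, c, t, rfl⟩ := hx
        exact Subgroup.subset_closure ⟨a, c, t, rfl⟩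
      | one => exact Subgroup.one_mem _
      | mul x y hx hy ihx ihy => exact Subgroup.mul_mem _ ihx ihy
      | inv x hx ihx => exact Subgroup.inv_mem _ ihx
    exact key g hg
  set φ : G →* Matrix.symplecticGroup ι K := π.comp G.subtype with hφ
  have hφX : ∀ a c t, φ (X a c t) = XM ι K a c t := fun a c t => hπY a c t
  have hφinj : Function.Injective φ := hinj G X hcX hgenX φ hφX
  have hφsurj : Function.Surjective φ := by
    rw [← MonoidHom.range_eq_top, eq_top_iff, ← hgenM, Subgroup.closure_le]
    rintro g ⟨a, c, t, rfl⟩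
    exact ⟨X a c t, hφX a c t⟩
  let e : G ≃* Matrix.symplecticGroup ι K := MulEquiv.ofBijective φ ⟨hφinj, hφsurj⟩
  refine ⟨G.subtype.comp e.symm.toMonoidHom, ?_⟩
  ext1 x
  show π (G.subtype (e.symm x)) = x
  have : φ (e.symm x) = x := e.apply_symm_apply x
  exact this

end Cfsg.Agent.Lib.Helper66_S92
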