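import Mathlib
import Cfsg.Agent.Lib.Helper66_S92Defs
import Cfsg.Agent.Lib.Helper66_S92Calc

/-!
# S2092 (architect helper66), package WCJ_A

Conjugation by the Weyl element of a short root: roots with one index outside `{a, a', c, c'}`
(type `A` computations).
-/

set_option autoImplicit false
set_option linter.unusedVariables false
set_option linter.unusedSectionVars false

namespace Cfsg.Agent.Lib.Helper66_S92

open Cfsg.Agent.Lib.Helper5_SteinbergA

variable {ι : Type*} [DecidableEq ι] {K : Type*} [Field K] {G : Type*} [Group G]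
  {X : ι ⊕ ι → ι ⊕ ι → K → G}

/-- conjugation by `WC` as a composition of three conjugations -/
theorem WC_conj8 (X : ι ⊕ ι → ι ⊕ ι → K → G) (a c : ι ⊕ ι) (s : K) (g : G) :
    WC X a c s * g * (WC X a c s)⁻¹ =
      MulAut.conj (X a c (-(om K a * s))) (MulAut.conj (X (ng a) (ng c) (om K c * -s⁻¹))
        (MulAut.conj (X a c (-(om K a * s))) g)) := by
  rw [WC_eq]
  simp only [MulAut.conj_apply]
  group

theorem ng_ne_ng8 {a c : ι ⊕ ι} (h : a ≠ c) : ng a ≠ ng c := fun h' => h (ng_injective h')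

theorem ng_ne_of8 {a c : ι ⊕ ι} (h : a ≠ ng c) : ng a ≠ c := fun h' => h (by rw [← h', ng_ng])

theorem ne_ng_of8 {a c : ι ⊕ ι} (h : a ≠ ng c) : c ≠ ng a := fun h' => h (by rw [h', ng_ng])

/-- collapse of a sandwich in a commuting pair of root subgroups -/
theorem sandwich8 (h : CStAB X) (a c d e : ι ⊕ ι) (t v t' : K)
    (h1 : d ≠ ng a) (h2 : d ≠ ng c) (h3 : e ≠ ng a) (h4 : e ≠ ng c) (ht : t + t' = 0) :
    X a c t * X d e v * X a c t' = X d e v := by
  rw [h.comm a c d e t v h1 h2 h3 h4, mul_assoc, h.add, ht, h.X_zero, mul_one]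

theorem wcj_disj (h : CStAB X) (a c d e : ι ⊕ ι) (s u : K)
    (hd1 : d ≠ a) (hd2 : d ≠ ng a) (hd3 : d ≠ c) (hd4 : d ≠ ng c)
    (he1 : e ≠ a) (he2 : e ≠ ng a) (he3 : e ≠ c) (he4 : e ≠ ng c) :
    WC X a c s * X d e u * (WC X a c s)⁻¹ = X d e u := by
  have s1 : MulAut.conj (X a c (-(om K a * s))) (X d e u) = X d e u := by
    rw [MulAut.conj_apply]
    exact h.cj_comm a c d e _ u hd2 hd4 he2 he4
  have s2 : MulAut.conj (X (ng a) (ng c) (om K c * -s⁻¹)) (X d e u) = X d e u := by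
    rw [MulAut.conj_apply]
    exact h.cj_comm (ng a) (ng c) d e _ u (by rwa [ng_ng]) (by rwa [ng_ng]) (by rwa [ng_ng])
      (by rwa [ng_ng])
  rw [WC_conj8, s1, s2, s1]

theorem wcj_A1 (h : CStAB X) (a c e : ι ⊕ ι) (s u : K) (hs : s ≠ 0) (hac : a ≠ c) (hac' : a ≠ ng c)
    (he1 : e ≠ a) (he2 : e ≠ ng a) (he3 : e ≠ c) (he4 : e ≠ ng c) :
    WC X a c s * X (ng a) e u * (WC X a c s)⁻¹ = X c e (s * u) := by
  have hoa := om_mul_self (K := K) a
  have hoc := om_mul_self (K := K) c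
  -- step 1 : `x1 = X c a p` on `X (ng a) e u`
  have s1 : MulAut.conj (X a c (-(om K a * s))) (X (ng a) e u) =
      X c e (s * u) * X (ng a) e u := by
    rw [MulAut.conj_apply, h.symm a c, h.cj_a2 c a e _ u hac.symm (ne_ng_of8 hac') he3.symm
      (fun h' => he4 (by rw [h', ng_ng])) he1.symm (fun h' => he2 (by rw [h', ng_ng]))]
    congr 2
    linear_combination (s * u) * hoa
  -- step 2 : `x2 = X (ng a) (ng c) r`
  have s2a : MulAut.conj (X (ng a) (ng c) (om K c * -s⁻¹)) (X c e (s * u)) =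
      X (ng a) e (-u) * X c e (s * u) := by
    have := h.cj_a2 (ng a) (ng c) e (om K c * -s⁻¹) (s * u) (ng_ne_ng8 hac)
      (by rw [ng_ng]; exact ng_ne_of8 hac') he2.symm (ng_ne_ng8 he1.symm) he4.symm
      (ng_ne_ng8 he3.symm)
    rw [ng_ng] at this
    rw [MulAut.conj_apply, this]
    congr 2
    rw [om_ng]
    have : s⁻¹ * s = 1 := inv_mul_cancel₀ hs
    linear_combination (-u * om K c * om K c) * this + (-u) * hoc
  have s2b : MulAut.conj (X (ng a) (ng c) (om K c * -s⁻¹)) (X (ng a) e u) = X (ng a) e u := by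
    rw [MulAut.conj_apply]
    exact h.cj_comm (ng a) (ng c) (ng a) e _ u (by rw [ng_ng]; exact ng_ne a)
      (by rw [ng_ng]; exact ng_ne_of8 hac') (by rwa [ng_ng]) (by rwa [ng_ng])
  -- step 3
  have s3 : MulAut.conj (X a c (-(om K a * s))) (X c e (s * u)) = X c e (s * u) := by
    rw [MulAut.conj_apply]
    exact h.cj_comm a c c e _ _ (ne_ng_of8 hac') (ne_ng c) he2 he4
  rw [WC_conj8, s1, map_mul, s2a, s2b,
    sandwich8 h (ng a) e c e (-u) (s * u) u (by rw [ng_ng]; exact hac.symm)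
      (fun h' => he4 (by rw [h', ng_ng])) (by rw [ng_ng]; exact he1) (ne_ng e)
      (neg_add_cancel u), s3]

theorem wcj_A2 (h : CStAB X) (a c e : ι ⊕ ι) (s u : K) (hs : s ≠ 0) (hac : a ≠ c) (hac' : a ≠ ng c)
    (he1 : e ≠ a) (he2 : e ≠ ng a) (he3 : e ≠ c) (he4 : e ≠ ng c) :
    WC X a c s * X c e u * (WC X a c s)⁻¹ = X (ng a) e (-(s⁻¹ * u)) := by
  have hoa := om_mul_self (K := K) a
  have hoc := om_mul_self (K := K) c
  have hss : s * s⁻¹ = 1 := mul_inv_cancel₀ hs
  have s1 : ∀ v : K, MulAut.conj (X a c (-(om K a * s))) (X c e v) = X c e v := by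
    intro v
    rw [MulAut.conj_apply]
    exact h.cj_comm a c c e _ _ (ne_ng_of8 hac') (ne_ng c) he2 he4
  have s2 : MulAut.conj (X (ng a) (ng c) (om K c * -s⁻¹)) (X c e u) =
      X (ng a) e (-(s⁻¹ * u)) * X c e u := by
    have := h.cj_a2 (ng a) (ng c) e (om K c * -s⁻¹) u (ng_ne_ng8 hac)
      (by rw [ng_ng]; exact ng_ne_of8 hac') he2.symm (ng_ne_ng8 he1.symm) he4.symm
      (ng_ne_ng8 he3.symm)
    rw [ng_ng] at this
    rw [MulAut.conj_apply, this]
    congr 2
    rw [om_ng]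
    linear_combination (-(s⁻¹ * u)) * hoc
  have s3 : MulAut.conj (X a c (-(om K a * s))) (X (ng a) e (-(s⁻¹ * u))) =
      X c e (-u) * X (ng a) e (-(s⁻¹ * u)) := by
    rw [MulAut.conj_apply, h.symm a c, h.cj_a2 c a e _ _ hac.symm (ne_ng_of8 hac') he3.symm
      (fun h' => he4 (by rw [h', ng_ng])) he1.symm (fun h' => he2 (by rw [h', ng_ng]))]
    congr 2
    linear_combination (-u * om K a * om K a) * hss + (-u) * hoa
  rw [WC_conj8, s1, s2, map_mul, s3, s1,
    sandwich8 h c e (ng a) e (-u) _ u (ng_ne_ng8 hac) (ng_ne_ng8 he1.symm) he4 (ne_ng e)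
      (neg_add_cancel u)]

theorem wcj_A3 (h : CStAB X) (a c e : ι ⊕ ι) (s u : K) (hs : s ≠ 0) (hac : a ≠ c) (hac' : a ≠ ng c)
    (he1 : e ≠ a) (he2 : e ≠ ng a) (he3 : e ≠ c) (he4 : e ≠ ng c) :
    WC X a c s * X (ng c) e u * (WC X a c s)⁻¹ = X a e (s * om K a * om K c * u) := by
  have hoa := om_mul_self (K := K) a
  have hoc := om_mul_self (K := K) c
  have hss : s⁻¹ * s = 1 := inv_mul_cancel₀ hs
  have s1 : MulAut.conj (X a c (-(om K a * s))) (X (ng c) e u) =
      X a e (s * om K a * om K c * u) * X (ng c) e u := by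
    rw [MulAut.conj_apply, h.cj_a2 a c e _ u hac hac' he1.symm
      (fun h' => he2 (by rw [h', ng_ng])) he3.symm (fun h' => he4 (by rw [h', ng_ng]))]
    congr 2
    ring
  have s2a : MulAut.conj (X (ng a) (ng c) (om K c * -s⁻¹)) (X a e (s * om K a * om K c * u)) =
      X (ng c) e (-u) * X a e (s * om K a * om K c * u) := by
    have := h.cj_a2 (ng c) (ng a) e (om K c * -s⁻¹) (s * om K a * om K c * u)
      (ng_ne_ng8 hac.symm) (by rw [ng_ng]; exact hac'.symm) he4.symm (ng_ne_ng8 he3.symm)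
      he2.symm (ng_ne_ng8 he1.symm)
    rw [ng_ng] at this
    rw [MulAut.conj_apply, h.symm (ng a) (ng c), this]
    congr 2
    rw [om_ng]
    linear_combination (-u * om K a * om K a * om K c * om K c) * hss +
      (-u * om K c * om K c) * hoa + (-u) * hoc
  have s2b : MulAut.conj (X (ng a) (ng c) (om K c * -s⁻¹)) (X (ng c) e u) = X (ng c) e u := by
    rw [MulAut.conj_apply]
    exact h.cj_comm (ng a) (ng c) (ng c) e _ u (by rw [ng_ng]; exact hac'.symm)
      (by rw [ng_ng]; exact ng_ne c) (by rwa [ng_ng]) (by rwa [ng_ng])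
  have s3 : MulAut.conj (X a c (-(om K a * s))) (X a e (s * om K a * om K c * u)) =
      X a e (s * om K a * om K c * u) := by
    rw [MulAut.conj_apply]
    exact h.cj_comm a c a e _ _ (ne_ng a) hac' he2 he4
  rw [WC_conj8, s1, map_mul, s2a, s2b,
    sandwich8 h (ng c) e a e (-u) _ u (by rw [ng_ng]; exact hac)
      (fun h' => he2 (by rw [h', ng_ng])) (by rw [ng_ng]; exact he3) (ne_ng e)
      (neg_add_cancel u), s3]

theorem wcj_A4 (h : CStAB X) (a c e : ι ⊕ ι) (s u : K) (hs : s ≠ 0) (hac : a ≠ c) (hac' : a ≠ ng c)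
    (he1 : e ≠ a) (he2 : e ≠ ng a) (he3 : e ≠ c) (he4 : e ≠ ng c) :
    WC X a c s * X a e u * (WC X a c s)⁻¹ = X (ng c) e (-(s⁻¹ * om K a * om K c * u)) := by
  have hoa := om_mul_self (K := K) a
  have hoc := om_mul_self (K := K) c
  have hss : s * s⁻¹ = 1 := mul_inv_cancel₀ hs
  have s1 : ∀ v : K, MulAut.conj (X a c (-(om K a * s))) (X a e v) = X a e v := by
    intro v
    rw [MulAut.conj_apply]
    exact h.cj_comm a c a e _ _ (ne_ng a) hac' he2 he4
  have s2 : MulAut.conj (X (ng a) (ng c) (om K c * -s⁻¹)) (X a e u) =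
      X (ng c) e (-(s⁻¹ * om K a * om K c * u)) * X a e u := by
    have := h.cj_a2 (ng c) (ng a) e (om K c * -s⁻¹) u
      (ng_ne_ng8 hac.symm) (by rw [ng_ng]; exact hac'.symm) he4.symm (ng_ne_ng8 he3.symm)
      he2.symm (ng_ne_ng8 he1.symm)
    rw [ng_ng] at this
    rw [MulAut.conj_apply, h.symm (ng a) (ng c), this]
    congr 2
    rw [om_ng]
    ring
  have s3 : MulAut.conj (X a c (-(om K a * s))) (X (ng c) e (-(s⁻¹ * om K a * om K c * u))) =
      X a e (-u) * X (ng c) e (-(s⁻¹ * om K a * om K c * u)) := by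
    rw [MulAut.conj_apply, h.cj_a2 a c e _ _ hac hac' he1.symm
      (fun h' => he2 (by rw [h', ng_ng])) he3.symm (fun h' => he4 (by rw [h', ng_ng]))]
    congr 2
    linear_combination (-u * om K a * om K a * om K c * om K c) * hss +
      (-u * om K c * om K c) * hoa + (-u) * hoc
  rw [WC_conj8, s1, s2, map_mul, s3, s1,
    sandwich8 h a e (ng c) e (-u) _ u (ng_ne_ng8 hac.symm) (ng_ne_ng8 he3.symm) he2 (ne_ng e)
      (neg_add_cancel u)]

end Cfsg.Agent.Lib.Helper66_S92
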