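import Mathlib
import Cfsg.Agent.Lib.Helper66_S92Defs
import Cfsg.Agent.Lib.Helper66_S92Calc
import Cfsg.Agent.Lib.Helper8_S92_WCJ_A

/-!
# S2092 (architect helper66), package WCJ_B

Conjugation by the Weyl element of a short root `e_a + e_c`: the two short roots orthogonal to it
(`C₂` computation in the abelian three-term string groups).
-/

set_option autoImplicit false
set_option linter.unusedVariables false
set_option linter.unusedSectionVars false

namespace Cfsg.Agent.Lib.Helper66_S92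

open Cfsg.Agent.Lib.Helper5_SteinbergA

variable {ι : Type*} [DecidableEq ι] {K : Type*} [Field K] {G : Type*} [Group G]
  {X : ι ⊕ ι → ι ⊕ ι → K → G}

theorem om_eq8 (a : ι ⊕ ι) : om K a = 1 ∨ om K a = -1 := by
  cases a <;> simp

/-- reordering a five-term product in an abelian group of root elements -/
theorem five8 {A1 L1 M L2 A2 : G} (h1 : M * L2 = L2 * M) (h2 : M * A2 = A2 * M)
    (h3 : L1 * A2 = A2 * L1) (h4 : L2 * A2 = A2 * L2) :
    A1 * L1 * M * (L2 * A2) = (A1 * A2) * (L1 * L2) * M := by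
  calc A1 * L1 * M * (L2 * A2) = A1 * L1 * (M * L2) * A2 := by group
    _ = A1 * L1 * (L2 * M) * A2 := by rw [h1]
    _ = A1 * L1 * L2 * (M * A2) := by group
    _ = A1 * L1 * L2 * (A2 * M) := by rw [h2]
    _ = A1 * L1 * (L2 * A2) * M := by group
    _ = A1 * L1 * (A2 * L2) * M := by rw [h4]
    _ = A1 * (L1 * A2) * L2 * M := by group
    _ = A1 * (A2 * L1) * L2 * M := by rw [h3]
    _ = (A1 * A2) * (L1 * L2) * M := by group

theorem wcj_B1 (h : CStAB X) (a c : ι ⊕ ι) (s u : K) (hs : s ≠ 0) (hac : a ≠ c) (hac' : a ≠ ng c) :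
    WC X a c s * X a (ng c) u * (WC X a c s)⁻¹ = X a (ng c) (-u) := by
  have hca' : ng c ≠ a := hac'.symm
  have hcna : ng c ≠ ng a := ng_ne_ng8 hac.symm
  -- (F1)
  have F1 : ∀ v : K, MulAut.conj (X a c (-(om K a * s))) (X a (ng c) v) =
      X a a (-(2 * om K c * -(om K a * s) * v)) * X a (ng c) v := by
    intro v
    rw [MulAut.conj_apply, h.symm a (ng c), h.cj_ssl a c _ v hac hac']
  -- (F2)
  have F2 : ∀ k : K, MulAut.conj (X a c (-(om K a * s))) (X a a k) = X a a k := by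
    intro k
    rw [MulAut.conj_apply]
    exact h.cj_comm a c a a _ _ (ne_ng a) hac' (ne_ng a) hac'
  -- (F3)
  have F3 : ∀ k : K, MulAut.conj (X (ng a) (ng c) (om K c * -s⁻¹)) (X a a k) =
      X a (ng c) (om K a * k * (om K c * -s⁻¹)) * X (ng c) (ng c) (k * (om K c * -s⁻¹) ^ 2) *
        X a a k := by
    intro k
    rw [MulAut.conj_apply]
    exact h.cj_ls' a (ng c) k _ hca' hcna
  -- (F4)
  have F4 : ∀ v : K, MulAut.conj (X (ng a) (ng c) (om K c * -s⁻¹)) (X a (ng c) v) =
      X (ng c) (ng c) (2 * om K a * (om K c * -s⁻¹) * v) * X a (ng c) v := by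
    intro v
    have := h.cj_ssl (ng c) (ng a) (om K c * -s⁻¹) v hcna (by rw [ng_ng]; exact hca')
    rw [ng_ng] at this
    rw [MulAut.conj_apply, h.symm (ng a) (ng c), this]
    congr 2
    rw [om_ng]; ring
  -- commutations
  have c1 : ∀ t v : K, X a a t * X (ng c) (ng c) v = X (ng c) (ng c) v * X a a t :=
    fun t v => h.comm a a (ng c) (ng c) t v hcna hcna hcna hcna
  have c2 : ∀ t v : K, X a a t * X a (ng c) v = X a (ng c) v * X a a t :=
    fun t v => h.comm a a a (ng c) t v (ne_ng a) (ne_ng a) hcna hcna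
  have c3 : ∀ t v : K, X (ng c) (ng c) t * X a (ng c) v = X a (ng c) v * X (ng c) (ng c) t :=
    fun t v => h.comm (ng c) (ng c) a (ng c) t v (by rw [ng_ng]; exact hac) (by rw [ng_ng]; exact hac)
      (ne_ng (ng c)) (ne_ng (ng c))
  rw [WC_conj8, F1, map_mul, F3, F4, five8 (c1 _ _) (c2 _ _) (c3 _ _) (c3 _ _), h.add, h.add]
  have e1 : om K a * -(2 * om K c * -(om K a * s) * u) * (om K c * -s⁻¹) + u = -u := by
    rcases om_eq8 (K := K) a with ha | ha <;> rcases om_eq8 (K := K) c with hc | hc <;>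
      rw [ha, hc] <;> field_simp <;> ring
  have e2 : -(2 * om K c * -(om K a * s) * u) * (om K c * -s⁻¹) ^ 2 +
      2 * om K a * (om K c * -s⁻¹) * u = 0 := by
    rcases om_eq8 (K := K) a with ha | ha <;> rcases om_eq8 (K := K) c with hc | hc <;>
      rw [ha, hc] <;> field_simp <;> ring
  rw [e1, e2, h.X_zero, mul_one, map_mul, F1, F2,
    sandwich8 h a a a (ng c) _ (-u) _ (ne_ng a) (ne_ng a) hcna hcna (by ring)]

theorem wcj_B2 (h : CStAB X) (a c : ι ⊕ ι) (s u : K) (hs : s ≠ 0) (hac : a ≠ c) (hac' : a ≠ ng c) :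
    WC X a c s * X (ng a) c u * (WC X a c s)⁻¹ = X (ng a) c (-u) := by
  have hca : c ≠ ng a := ne_ng_of8 hac'
  have hnac : ng a ≠ c := hca.symm
  have hnanc : ng a ≠ ng c := ng_ne_ng8 hac
  -- (G1)
  have G1 : ∀ v : K, MulAut.conj (X a c (-(om K a * s))) (X (ng a) c v) =
      X c c (-(2 * om K a * -(om K a * s) * v)) * X (ng a) c v := by
    intro v
    rw [MulAut.conj_apply, h.symm a c, h.cj_ssl c a _ v hac.symm hca]
  -- (G2)
  have G2 : ∀ k : K, MulAut.conj (X a c (-(om K a * s))) (X c c k) = X c c k := by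
    intro k
    rw [MulAut.conj_apply]
    exact h.cj_comm a c c c _ _ hca (ne_ng c) hca (ne_ng c)
  -- (G3)
  have G3 : ∀ k : K, MulAut.conj (X (ng a) (ng c) (om K c * -s⁻¹)) (X c c k) =
      X (ng a) c (om K c * k * (om K c * -s⁻¹)) * X (ng a) (ng a) (k * (om K c * -s⁻¹) ^ 2) *
        X c c k := by
    intro k
    rw [MulAut.conj_apply, h.symm (ng a) (ng c), h.cj_ls' c (ng a) k _ hnac hnanc, h.symm c (ng a)]
  -- (G4)
  have G4 : ∀ v : K, MulAut.conj (X (ng a) (ng c) (om K c * -s⁻¹)) (X (ng a) c v) =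
      X (ng a) (ng a) (2 * om K c * (om K c * -s⁻¹) * v) * X (ng a) c v := by
    intro v
    have := h.cj_ssl (ng a) (ng c) (om K c * -s⁻¹) v hnanc (by rw [ng_ng]; exact hnac)
    rw [ng_ng] at this
    rw [MulAut.conj_apply, h.symm (ng a) c, this]
    congr 2
    rw [om_ng]; ring
  -- commutations
  have c1 : ∀ t v : K, X c c t * X (ng a) (ng a) v = X (ng a) (ng a) v * X c c t :=
    fun t v => h.comm c c (ng a) (ng a) t v hnanc hnanc hnanc hnanc
  have c2 : ∀ t v : K, X c c t * X (ng a) c v = X (ng a) c v * X c c t :=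
    fun t v => h.comm c c (ng a) c t v hnanc hnanc (ne_ng c) (ne_ng c)
  have c3 : ∀ t v : K, X (ng a) (ng a) t * X (ng a) c v = X (ng a) c v * X (ng a) (ng a) t :=
    fun t v => h.comm (ng a) (ng a) (ng a) c t v (ne_ng (ng a)) (ne_ng (ng a))
      (by rw [ng_ng]; exact hac.symm) (by rw [ng_ng]; exact hac.symm)
  rw [WC_conj8, G1, map_mul, G3, G4, five8 (c1 _ _) (c2 _ _) (c3 _ _) (c3 _ _), h.add, h.add]
  have e1 : om K c * -(2 * om K a * -(om K a * s) * u) * (om K c * -s⁻¹) + u = -u := by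
    rcases om_eq8 (K := K) a with ha | ha <;> rcases om_eq8 (K := K) c with hc | hc <;>
      rw [ha, hc] <;> field_simp <;> ring
  have e2 : -(2 * om K a * -(om K a * s) * u) * (om K c * -s⁻¹) ^ 2 +
      2 * om K c * (om K c * -s⁻¹) * u = 0 := by
    rcases om_eq8 (K := K) a with ha | ha <;> rcases om_eq8 (K := K) c with hc | hc <;>
      rw [ha, hc] <;> field_simp <;> ring
  rw [e1, e2, h.X_zero, mul_one, map_mul, G1, G2,
    sandwich8 h c c (ng a) c _ (-u) _ hnanc hnanc (ne_ng c) (ne_ng c) (by ring)]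

end Cfsg.Agent.Lib.Helper66_S92
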