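import Mathlib
import Cfsg.Agent.Lib.Helper66_S92Rank
import Cfsg.Agent.Lib.Helper8_S92_WCJ_A
import Cfsg.Agent.Lib.Helper8_S92_WCJ_B
import Cfsg.Agent.Lib.Helper60_S92_WCJ_C
import Cfsg.Agent.Lib.Helper60_S92_WCJ_D
import Cfsg.Agent.Lib.Helper58_S92_WCJ_ALL
import Cfsg.Agent.Lib.Helper58_S92_TOR
import Cfsg.Agent.Lib.Helper81_S92_T1RC2

set_option autoImplicit false

/-! Assembly of the conjugation calculus of the Weyl and torus elements (S2092). -/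

namespace Cfsg.Agent.Lib.Helper66_S92

variable {ι : Type*} [DecidableEq ι] {K : Type*} [Field K] {G : Type*} [Group G]
  {X : ι ⊕ ι → ι ⊕ ι → K → G}

theorem wcjParts_of_cSt (h : CSt X) : WCJParts X where
  disj := wcj_disj h.toCStAB
  A1 := wcj_A1 h.toCStAB
  A2 := wcj_A2 h.toCStAB
  A3 := wcj_A3 h.toCStAB
  A4 := wcj_A4 h.toCStAB
  B1 := wcj_B1 h.toCStAB
  B2 := wcj_B2 h.toCStAB
  C1 := wcj_C1 h.toCStAB
  C2 := wcj_C2 h.toCStAB
  C3 := wcj_C3 h.toCStAB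
  C4 := wcj_C4 h.toCStAB
  D1 := wcj_D1 h.toCStAB
  D2 := wcj_D2 h.toCStAB

theorem wc_conj_of_cSt (h : CSt X) (a c : ι ⊕ ι) (hac : c ≠ ng a) (s : K) (hs : s ≠ 0)
    (d e : ι ⊕ ι) (u : K) :
    WC X a c s * X d e u * (WC X a c s)⁻¹ =
      X (sgC a c d) (sgC a c e) (muC a c s d * muC a c s e * u) :=
  wc_conj_all h (wcjParts_of_cSt h) a c hac s hs d e u

theorem hc_conj_of_cSt (h : CSt X) (a c : ι ⊕ ι) (hac : c ≠ ng a) (s : K) (hs : s ≠ 0)
    (d e : ι ⊕ ι) (u : K) :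
    HC X a c s * X d e u * (HC X a c s)⁻¹ = X d e (chC a c s d * chC a c s e * u) :=
  hc_conj_all h (wc_conj_of_cSt h) a c hac s hs d e u

theorem t1_of_cSt [Finite K] (h : CSt X) (a c : ι ⊕ ι) (hca : c ≠ a) (hac : c ≠ ng a) (s : K)
    (hs : s ≠ 0) : HC X a c s = HC X a a s * HC X c c s :=
  t1_all h (wc_conj_of_cSt h) (hc_conj_of_cSt h) a c hca hac s hs

/-- the calculus of the Weyl and torus elements holds in every group with a `CSt` family -/
theorem wCalc_of_cSt [Finite K] (h : CSt X) : WCalc X where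
  wc_conj := wc_conj_of_cSt h
  hc_conj := hc_conj_of_cSt h
  wc_inv := h.wc_inv
  wc_mul_inv := h.wc_mul_inv
  wc_mul_hc := h.wc_mul_hc
  hc_mul_wc := h.hc_mul_wc
  hc_mul := h.hc_mul
  wc_ng := h.wc_ng
  wc_symm := fun a c _ s _ => h.wc_symm a c s
  hc_ng := h.hc_ng
  hc_symm := h.hc_symm
  t1 := fun a c hca hac s hs => t1_of_cSt h a c hca hac s hs
  rc2 := fun a c hca hac t u ht hu =>
    rc2_all h (wc_conj_of_cSt h) (hc_conj_of_cSt h)
      (fun a c hca hac s hs => t1_of_cSt h a c hca hac s hs) a c hca hac t u ht hu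

end Cfsg.Agent.Lib.Helper66_S92
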