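import Mathlib
import Cfsg.Agent.Lib.Helper66_S92Calc

set_option autoImplicit false
set_option linter.unusedVariables false
set_option linter.unusedSectionVars false

/-!
Package HEIS of the S2092 market (architect helper66): the abstract unipotent radical `Qs X j`
splits off the root group `X j e`, and an element of `Qs X j` fixing `b_{ng j}` is trivial.
-/

namespace Cfsg.Agent.Lib.Helper66_S92

variable {ι : Type*} [DecidableEq ι] {K : Type*} [Field K] {G : Type*} [Group G]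
  {X : ι ⊕ ι → ι ⊕ ι → K → G}

/-- the subgroup generated by the `X j c t`, `c ≠ e`, `P c` is normalised by `X j e t` -/
theorem heis_norm (h : CStAB X) (j e : ι ⊕ ι) (he : e ≠ j) (he' : e ≠ ng j)
    (P : ι ⊕ ι → Prop) (hP : P j) (t : K) {n : G}
    (hn : n ∈ Subgroup.closure {g | ∃ c u, c ≠ ng j ∧ c ≠ e ∧ P c ∧ g = X j c u}) :
    X j e t * n * (X j e t)⁻¹ ∈
      Subgroup.closure {g | ∃ c u, c ≠ ng j ∧ c ≠ e ∧ P c ∧ g = X j c u} := by
  induction hn using Subgroup.closure_induction with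
  | mem x hx =>
    obtain ⟨c, u, hc1, hc2, hc3, rfl⟩ := hx
    by_cases hce : c = ng e
    · subst hce
      have e1 : X j (ng e) u = X (ng e) j u := h.symm _ _ _
      rw [e1, h.cj_ssl j e t u he.symm (fun h' => he' (by rw [h', ng_ng]))]
      refine mul_mem (Subgroup.subset_closure ⟨j, _, ne_ng j, he.symm, hP, rfl⟩) ?_
      exact Subgroup.subset_closure ⟨ng e, u, hc1, hc2, hc3, e1.symm⟩
    · rw [h.cj_comm j e j c t u (ne_ng j) (fun h' => he' (by rw [h', ng_ng])) hc1 hce]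
      exact Subgroup.subset_closure ⟨c, u, hc1, hc2, hc3, rfl⟩
  | one => simp
  | mul x y _ _ ihx ihy =>
    have : X j e t * (x * y) * (X j e t)⁻¹ =
        (X j e t * x * (X j e t)⁻¹) * (X j e t * y * (X j e t)⁻¹) := by group
    rw [this]
    exact mul_mem ihx ihy
  | inv x _ ihx =>
    have : X j e t * x⁻¹ * (X j e t)⁻¹ = (X j e t * x * (X j e t)⁻¹)⁻¹ := by group
    rw [this]
    exact inv_mem ihx

/-- splitting off the root group `X j e` from a subgroup of `Qs X j` containing the centre -/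
theorem heis_split (h : CStAB X) (j e : ι ⊕ ι) (he : e ≠ j) (he' : e ≠ ng j)
    (P : ι ⊕ ι → Prop) (hP : P j) {q : G}
    (hq : q ∈ Subgroup.closure {g | ∃ c t, c ≠ ng j ∧ (c = e ∨ P c) ∧ g = X j c t}) :
    ∃ q₂ ∈ Subgroup.closure {g | ∃ c t, c ≠ ng j ∧ c ≠ e ∧ P c ∧ g = X j c t}, ∃ β : K,
      q = q₂ * X j e β := by
  have key : ∀ c t, c ≠ ng j → (c = e ∨ P c) → ∀ y : G,
      (∃ q₂ ∈ Subgroup.closure {g | ∃ c t, c ≠ ng j ∧ c ≠ e ∧ P c ∧ g = X j c t}, ∃ β : K,
        y = q₂ * X j e β) →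
      ∃ q₂ ∈ Subgroup.closure {g | ∃ c t, c ≠ ng j ∧ c ≠ e ∧ P c ∧ g = X j c t}, ∃ β : K,
        X j c t * y = q₂ * X j e β := by
    rintro c t hc1 hc2 y ⟨q₂, hq₂, β, rfl⟩
    by_cases hce : c = e
    · subst hce
      refine ⟨X j c t * q₂ * (X j c t)⁻¹, heis_norm h j c he he' P hP t hq₂, t + β, ?_⟩
      rw [← h.add]
      group
    · have hPc : P c := hc2.resolve_left hce
      refine ⟨X j c t * q₂, mul_mem (Subgroup.subset_closure ⟨c, t, hc1, hce, hPc, rfl⟩) hq₂,
        β, ?_⟩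
      rw [mul_assoc]
  induction hq using Subgroup.closure_induction_left with
  | one => exact ⟨1, one_mem _, 0, by rw [h.X_zero, one_mul]⟩
  | mul_left x hx y _ ih =>
    obtain ⟨c, t, hc1, hc2, rfl⟩ := hx
    exact key c t hc1 hc2 y ih
  | inv_mul_cancel x hx y _ ih =>
    obtain ⟨c, t, hc1, hc2, rfl⟩ := hx
    rw [h.X_inv]
    exact key c (-t) hc1 hc2 y ih

theorem Qs_split (h : CStAB X) (j e : ι ⊕ ι) (he : e ≠ j) (he' : e ≠ ng j) {q : G}
    (hq : q ∈ Qs X j) :
    ∃ q₂ ∈ Subgroup.closure {g | ∃ c t, c ≠ ng j ∧ c ≠ e ∧ g = X j c t}, ∃ β : K,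
      q = q₂ * X j e β := by
  have hq' : q ∈ Subgroup.closure
      {g | ∃ c t, c ≠ ng j ∧ (c = e ∨ (fun _ : ι ⊕ ι => True) c) ∧ g = X j c t} := by
    refine Subgroup.closure_mono ?_ hq
    rintro _ ⟨c, t, hc, rfl⟩
    exact ⟨c, t, hc, Or.inr trivial, rfl⟩
  obtain ⟨q₂, hq₂, β, hqe⟩ := heis_split h j e he he' (fun _ => True) trivial hq'
  refine ⟨q₂, ?_, β, hqe⟩
  refine Subgroup.closure_mono ?_ hq₂
  rintro _ ⟨c, t, hc1, hc2, -, rfl⟩
  exact ⟨c, t, hc1, hc2, rfl⟩

/-- the generators `X j c t` with `c ≠ e` do not change the coordinate `e ≠ j` -/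
theorem heis_act_ne (ρ : G →* Module.End K (ι ⊕ ι → K)) (hρ : IsAct X ρ)
    (j e : ι ⊕ ι) (hej : e ≠ j) {q : G}
    (hq : q ∈ Subgroup.closure {g | ∃ c t, c ≠ ng j ∧ c ≠ e ∧ g = X j c t}) (v : ι ⊕ ι → K) :
    ρ q v e = v e := by
  induction hq using Subgroup.closure_induction generalizing v with
  | mem x hx =>
    obtain ⟨c, t, hc1, hc2, rfl⟩ := hx
    rw [hρ]
    unfold xact
    rw [if_neg hc1]
    by_cases hjc : j = c
    · rw [if_pos hjc]
      simp [hej]
    · rw [if_neg hjc]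
      simp [hej, Ne.symm hc2]
  | one => simp
  | mul x y _ _ ihx ihy =>
    rw [map_mul, Module.End.mul_apply, ihx, ihy]
  | inv x _ ihx =>
    have e1 : ρ x (ρ x⁻¹ v) = v := by
      rw [← Module.End.mul_apply, ← map_mul, mul_inv_cancel, map_one, Module.End.one_apply]
    rw [← ihx (ρ x⁻¹ v), e1]

/-- the centre of `Qs X j` acts faithfully -/
theorem heis_base (h : CStAB X) (ρ : G →* Module.End K (ι ⊕ ι → K)) (hρ : IsAct X ρ)
    (j : ι ⊕ ι) {q : G}
    (hq : q ∈ Subgroup.closure {g | ∃ t, g = X j j t})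
    (hfix : ρ q (Pi.single (ng j) 1) = Pi.single (ng j) 1) : q = 1 := by
  have hr : ∃ α : K, q = X j j α := by
    clear hfix
    induction hq using Subgroup.closure_induction with
    | mem x hx => exact hx
    | one => exact ⟨0, (h.X_zero j j).symm⟩
    | mul x y _ _ ihx ihy =>
      obtain ⟨α, rfl⟩ := ihx
      obtain ⟨β, rfl⟩ := ihy
      exact ⟨α + β, h.add _ _ _ _⟩
    | inv x _ ihx =>
      obtain ⟨α, rfl⟩ := ihx
      exact ⟨-α, h.X_inv _ _ _⟩
  obtain ⟨α, rfl⟩ := hr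
  rw [hρ] at hfix
  unfold xact at hfix
  rw [if_neg (ne_ng j), if_pos rfl] at hfix
  have e1 := congrFun hfix j
  simp [ne_ng j, om_ne_zero] at e1
  rw [e1, h.X_zero]

theorem heis_inj_aux (h : CStAB X) (ρ : G →* Module.End K (ι ⊕ ι → K)) (hρ : IsAct X ρ)
    (j : ι ⊕ ι) (T : Finset (ι ⊕ ι)) : ∀ {q : G},
    q ∈ Subgroup.closure {g | ∃ c t, c ≠ ng j ∧ (c = j ∨ c ∈ T) ∧ g = X j c t} →
    ρ q (Pi.single (ng j) 1) = Pi.single (ng j) 1 → q = 1 := by
  induction T using Finset.induction_on with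
  | empty =>
    intro q hq hfix
    refine heis_base h ρ hρ j (Subgroup.closure_mono ?_ hq) hfix
    rintro _ ⟨c, t, hc1, hc2, rfl⟩
    simp only [Finset.notMem_empty, or_false] at hc2
    subst hc2
    exact ⟨t, rfl⟩
  | insert e T heT ih =>
    intro q hq hfix
    by_cases he : e = j ∨ e = ng j
    · refine ih (Subgroup.closure_mono ?_ hq) hfix
      rintro _ ⟨c, t, hc1, hc2, rfl⟩
      refine ⟨c, t, hc1, ?_, rfl⟩
      rcases hc2 with hc2 | hc2
      · exact Or.inl hc2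
      · rcases Finset.mem_insert.mp hc2 with hc2 | hc2
        · subst hc2
          rcases he with he | he
          · exact Or.inl he
          · exact absurd he hc1
        · exact Or.inr hc2
    · push Not at he
      obtain ⟨he1, he2⟩ := he
      have hq' : q ∈ Subgroup.closure
          {g | ∃ c t, c ≠ ng j ∧ (c = e ∨ (fun c => c = j ∨ c ∈ T) c) ∧ g = X j c t} := by
        refine Subgroup.closure_mono ?_ hq
        rintro _ ⟨c, t, hc1, hc2, rfl⟩
        refine ⟨c, t, hc1, ?_, rfl⟩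
        rcases hc2 with hc2 | hc2
        · exact Or.inr (Or.inl hc2)
        · rcases Finset.mem_insert.mp hc2 with hc2 | hc2
          · exact Or.inl hc2
          · exact Or.inr (Or.inr hc2)
      obtain ⟨q₂, hq₂, β, rfl⟩ :=
        heis_split h j e he1 he2 (fun c => c = j ∨ c ∈ T) (Or.inl rfl) hq'
      have hq₂' : q₂ ∈ Subgroup.closure {g | ∃ c t, c ≠ ng j ∧ c ≠ e ∧ g = X j c t} := by
        refine Subgroup.closure_mono ?_ hq₂
        rintro _ ⟨c, t, hc1, hc2, -, rfl⟩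
        exact ⟨c, t, hc1, hc2, rfl⟩
      have hβ : β = 0 := by
        have e1 := congrFun hfix e
        rw [map_mul, Module.End.mul_apply, heis_act_ne ρ hρ j e he1 hq₂', hρ] at e1
        unfold xact at e1
        rw [if_neg he2, if_neg (Ne.symm he1)] at e1
        simp [Pi.single_apply, he1, he2, om_ne_zero] at e1
        exact e1
      subst hβ
      rw [h.X_zero, mul_one] at hfix ⊢
      refine ih (Subgroup.closure_mono ?_ hq₂) hfix
      rintro _ ⟨c, t, hc1, hc2, hc3, rfl⟩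
      exact ⟨c, t, hc1, hc3, rfl⟩

theorem Qs_inj [Fintype ι] (h : CStAB X) (ρ : G →* Module.End K (ι ⊕ ι → K)) (hρ : IsAct X ρ)
    (j : ι ⊕ ι) {q : G} (hq : q ∈ Qs X j)
    (hfix : ρ q (Pi.single (ng j) 1) = Pi.single (ng j) 1) : q = 1 := by
  refine heis_inj_aux h ρ hρ j Finset.univ (Subgroup.closure_mono ?_ hq) hfix
  rintro _ ⟨c, t, hc, rfl⟩
  exact ⟨c, t, hc, Or.inr (Finset.mem_univ _), rfl⟩

end Cfsg.Agent.Lib.Helper66_S92
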