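import Mathlib
import Cfsg.Agent.Lib.Helper66_S92Rank
import Cfsg.Agent.Lib.Helper60_S92_FACT
import Cfsg.Agent.Lib.Helper81_S92_T1RC2

set_option autoImplicit false
set_option linter.unusedVariables false
set_option linter.unusedSectionVars false
set_option linter.unusedSimpArgs false

/-!
Packages PIV_L and PIV_S of helper66's `s92_packages` market (S2092): change of pivot, the base
cases `pivot_long` and `pivot_short`.  A root element `X(k',k2;β)` is written `y * n * y` with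
`n` a Weyl element and `y ∈ Qs X k2'` (rank one identity); `y` is pushed through the monomial
representative with `factE`, and `n * dC X o k s` is rewritten as `dC X o k2 s' * γ` with
`γ ∈ Gs X o` by the Weyl calculus `WCalc`.
-/

namespace Cfsg.Agent.Lib.Helper89_S92_PIV

open Cfsg.Agent.Lib.Helper5_SteinbergA Cfsg.Agent.Lib.Helper66_S92

variable {ι : Type*} [DecidableEq ι] {K : Type*} [Field K] {G : Type*} [Group G]
  {X : ι ⊕ ι → ι ⊕ ι → K → G}

/-- the rank one identity: `X(a',c'; om c * -t⁻¹) = y * WC X a c t * y` with `y = X a c (om a * t)` -/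
theorem rank1_id (h : CStAB X) (a c : ι ⊕ ι) (t : K) :
    X (ng a) (ng c) (om K c * -t⁻¹) =
      X a c (om K a * t) * WC X a c t * X a c (om K a * t) := by
  rw [WC_eq]
  have e1 : X a c (om K a * t) * X a c (-(om K a * t)) = 1 := h.X_mul_neg a c _
  have e2 : X a c (-(om K a * t)) * X a c (om K a * t) = 1 := h.X_neg_mul a c _
  calc X (ng a) (ng c) (om K c * -t⁻¹)
      = (X a c (om K a * t) * X a c (-(om K a * t))) * X (ng a) (ng c) (om K c * -t⁻¹) *
          (X a c (-(om K a * t)) * X a c (om K a * t)) := by rw [e1, e2, one_mul, mul_one]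
    _ = _ := by group

/-- generic assembly of the pivot step -/
theorem Rk_of_parts (o k2 : ι ⊕ ι) {y n d γ1 : G} {s' : K} (hs' : s' ≠ 0) {γ0 : G}
    (hy : y ∈ Qs X (ng k2)) (hγ1 : γ1 ∈ Gs X o) (hγ0 : γ0 ∈ Gs X o)
    (hyd : y * d = d * γ1) (hnd : n * d = dC X o k2 s' * γ0) :
    Rk X o k2 (y * n * y * d) := by
  refine ⟨y, hy, s', hs', γ0 * γ1, (Gs X o).mul_mem hγ0 hγ1, ?_⟩
  calc y * n * y * d = y * n * (y * d) := by group
    _ = y * (n * d) * γ1 := by rw [hyd]; group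
    _ = y * dC X o k2 s' * (γ0 * γ1) := by rw [hnd]; group

/-- conjugation distributes over a triple product -/
theorem conj_triple (n a b c : G) :
    n * (a * b * c) * n⁻¹ = (n * a * n⁻¹) * (n * b * n⁻¹) * (n * c * n⁻¹) := by group

omit [DecidableEq ι] in
theorem triple_congr {a b c d : ι ⊕ ι} {u1 u2 v1 v2 : K} (h1 : u1 = v1) (h2 : u2 = v2) :
    X a b u1 * X c d u2 * X a b u1 = X a b v1 * X c d v2 * X a b v1 := by rw [h1, h2]

omit [DecidableEq ι] in
theorem WC_mem_Gs (o a c : ι ⊕ ι) (t : K) (h1 : a ≠ o) (h2 : a ≠ ng o) (h3 : c ≠ o)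
    (h4 : c ≠ ng o) : WC X a c t ∈ Gs X o := by
  rw [WC_eq]
  have h5 : ng a ≠ ng o := fun e => h1 (ng_injective e)
  have h6 : ng c ≠ ng o := fun e => h3 (ng_injective e)
  exact (Gs X o).mul_mem ((Gs X o).mul_mem (CStAB.X_mem_Gs o a c _ h2 h4)
    (CStAB.X_mem_Gs o (ng a) (ng c) _ h5 h6)) (CStAB.X_mem_Gs o a c _ h2 h4)

omit [DecidableEq ι] in
theorem HC_mem_Gs (o a c : ι ⊕ ι) (t : K) (h1 : a ≠ o) (h2 : a ≠ ng o) (h3 : c ≠ o)
    (h4 : c ≠ ng o) : HC X a c t ∈ Gs X o := by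
  unfold HC
  exact (Gs X o).mul_mem (WC_mem_Gs o a c t h1 h2 h3 h4)
    ((Gs X o).inv_mem (WC_mem_Gs o a c 1 h1 h2 h3 h4))

/-- long Weyl elements of orthogonal long roots commute -/
theorem WC_long_comm (C : WCalc X) (a b : ι ⊕ ι) (hab : b ≠ a) (hab' : b ≠ ng a) (x y : K)
    (hx : x ≠ 0) : WC X a a x * WC X b b y = WC X b b y * WC X a a x := by
  have h3 : ng b ≠ ng a := fun e => hab (ng_injective e)
  have h4 : ng b ≠ a := fun e => hab' (by rw [← e, ng_ng])
  have key : WC X a a x * WC X b b y * (WC X a a x)⁻¹ = WC X b b y := by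
    rw [WC_eq X b b y, conj_triple, C.wc_conj a a (ne_ng a) x hx, C.wc_conj a a (ne_ng a) x hx,
      h81_sgC_other a a b hab' hab hab' hab, h81_sgC_other a a (ng b) h3 h4 h3 h4,
      h81_muC_other a a x b hab' hab hab' hab, h81_muC_other a a x (ng b) h3 h4 h3 h4]
    simp only [one_mul]
  calc WC X a a x * WC X b b y = (WC X a a x * WC X b b y * (WC X a a x)⁻¹) * WC X a a x := by
        group
    _ = _ := by rw [key]

end Cfsg.Agent.Lib.Helper89_S92_PIV

namespace Cfsg.Agent.Lib.Helper66_S92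

open Cfsg.Agent.Lib.Helper5_SteinbergA Cfsg.Agent.Lib.Helper89_S92_PIV

variable {ι : Type*} [DecidableEq ι] {K : Type*} [Field K] {G : Type*} [Group G]
  {X : ι ⊕ ι → ι ⊕ ι → K → G}

theorem pivot_long (h : CStAB X) (C : WCalc X) (hr : ∀ a c, c ≠ ng a → Rel (pairC X a c))
    (o k : ι ⊕ ι) (α s : K) (hα : α ≠ 0) (hs : s ≠ 0) :
    Rk X o (ng k) (X (ng k) (ng k) α * dC X o k s) := by
  have ok0 := om_ne_zero (K := K) k
  have ok1 := om_mul_self (K := K) k
  have ht : -(om K k * α⁻¹) ≠ 0 := neg_ne_zero.mpr (mul_ne_zero ok0 (inv_ne_zero hα))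
  have hα' : om K k * -(-(om K k * α⁻¹))⁻¹ = α := by
    rw [inv_neg, neg_neg, mul_inv, inv_inv, ← mul_assoc, om_inv, ok1, one_mul]
  generalize -(om K k * α⁻¹) = t at ht hα'
  rw [← hα', rank1_id h k k t]
  have hy : X k k (om K k * t) ∈ Qs X (ng (ng k)) := by
    rw [ng_ng]; exact h.X_mem_Qs k k _
  have hγ1 : (dC X o k s)⁻¹ * X k k (om K k * t) * dC X o k s ∈ Gs X o :=
    factE h C o k s hs k k _ (ng_ne k) (ng_ne k)
  have hyd : X k k (om K k * t) * dC X o k s =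
      dC X o k s * ((dC X o k s)⁻¹ * X k k (om K k * t) * dC X o k s) := by group
  by_cases hko : k = o
  · -- `k = o`
    subst hko
    have hs' : -(t * s⁻¹)⁻¹ ≠ 0 := neg_ne_zero.mpr (inv_ne_zero (mul_ne_zero ht (inv_ne_zero hs)))
    refine Rk_of_parts k (ng k) hs' hy hγ1 (one_mem _) hyd ?_
    unfold dC
    rw [if_pos rfl, if_neg (ng_ne k), C.wc_mul_hc k k (ne_ng k) t s ht hs,
      C.wc_ng k k (ne_ng k) _ hs', mul_one, ok1, one_mul, inv_neg, neg_neg, inv_inv]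
  by_cases hko' : k = ng o
  · -- `k = ng o`
    subst hko'
    have hx : t * (-s)⁻¹ ≠ 0 := mul_ne_zero ht (inv_ne_zero (neg_ne_zero.mpr hs))
    have hs' : (t * (-s)⁻¹)⁻¹ ≠ 0 := inv_ne_zero hx
    refine Rk_of_parts o (ng (ng o)) hs' hy hγ1 (one_mem _) hyd ?_
    unfold dC
    rw [if_neg (ng_ne o), if_pos (ng_ng o), mul_one]
    have e1 : WC X (ng o) (ng o) s = (WC X (ng o) (ng o) (-s))⁻¹ := by
      rw [C.wc_inv (ng o) (ng o) (ne_ng _), neg_neg]
    rw [e1, C.wc_mul_inv (ng o) (ng o) (ne_ng _) t (-s) ht (neg_ne_zero.mpr hs),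
      C.hc_ng o o (ne_ng o) _ hx]
  · -- the generic case
    have h3 : ng o ≠ ng k := fun e => hko (ng_injective e).symm
    have h4 : ng o ≠ k := fun e => hko' e.symm
    have h5 : o ≠ ng k := fun e => hko' (by rw [e, ng_ng])
    have h6 : o ≠ k := fun e => hko e.symm
    have hs' : -(t⁻¹ * s) ≠ 0 := neg_ne_zero.mpr (mul_ne_zero (inv_ne_zero ht) hs)
    have hn : WC X k k t ∈ Gs X o := WC_mem_Gs o k k t hko hko' hko hko'
    refine Rk_of_parts o (ng k) hs' hy hγ1 hn hyd ?_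
    have key : WC X k k t * dC X o k s * (WC X k k t)⁻¹ = dC X o (ng k) (-(t⁻¹ * s)) := by
      unfold dC
      rw [if_neg hko, if_neg (fun e => h5 e.symm), WC_eq X (ng o) k, WC_eq X (ng o) (ng k),
        conj_triple, C.wc_conj k k (ne_ng k) t ht, C.wc_conj k k (ne_ng k) t ht]
      unfold sgC muC
      simp only [ng_ng, if_neg h3, if_neg h4, if_neg h5, if_neg h6, if_neg (ne_ng k), if_true,
        if_neg (ng_ne k), om_ng]
      have e1 : (1 * -t⁻¹ * -(-om K o * s)) = -(-om K o * -(t⁻¹ * s)) := by ring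
      have e2 : (1 * t * (om K k * -s⁻¹)) = -om K k * -(-(t⁻¹ * s))⁻¹ := by
        rw [inv_neg, mul_inv, inv_inv]; ring
      rw [e1, e2]
    rw [← key]
    group

theorem pivot_short (h : CStAB X) (C : WCalc X) (hr : ∀ a c, c ≠ ng a → Rel (pairC X a c))
    (o k k2 : ι ⊕ ι) (hk2 : k2 ≠ k) (hk2' : k2 ≠ ng k)
    (β s : K) (hβ : β ≠ 0) (hs : s ≠ 0) : Rk X o k2 (X (ng k) k2 β * dC X o k s) := by
  have o2 := om_ne_zero (K := K) k2
  have ht : om K k2 * β⁻¹ ≠ 0 := mul_ne_zero o2 (inv_ne_zero hβ)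
  have hβ' : om K (ng k2) * -(om K k2 * β⁻¹)⁻¹ = β := by
    rw [om_ng, mul_inv, inv_inv, om_inv, neg_mul_neg, ← mul_assoc, om_mul_self, one_mul]
  generalize om K k2 * β⁻¹ = t at ht hβ'
  have hid := rank1_id h k (ng k2) t
  rw [ng_ng, hβ'] at hid
  rw [hid]
  have hy : X k (ng k2) (om K k * t) ∈ Qs X (ng k2) := h.X_mem_Qs' (ng k2) k _
  have hγ1 : (dC X o k s)⁻¹ * X k (ng k2) (om K k * t) * dC X o k s ∈ Gs X o :=
    factE h C o k s hs k (ng k2) _ (ng_ne k) (fun e => hk2 (ng_injective e).symm)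
  have hyd : X k (ng k2) (om K k * t) * dC X o k s =
      dC X o k s * ((dC X o k s)⁻¹ * X k (ng k2) (om K k * t) * dC X o k s) := by group
  by_cases hko : o = k
  · -- (b) `k = o`
    subst hko
    have hac : k2 ≠ ng (ng o) := by rw [ng_ng]; exact hk2
    have e1 := C.wc_ng (ng o) k2 hac t ht
    rw [ng_ng] at e1
    have ht' : -(om K (ng o) * om K k2 * t⁻¹) ≠ 0 :=
      neg_ne_zero.mpr (mul_ne_zero (mul_ne_zero (om_ne_zero _) o2) (inv_ne_zero ht))
    generalize -(om K (ng o) * om K k2 * t⁻¹) = t' at e1 ht'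
    have hsi : s⁻¹ ≠ 0 := inv_ne_zero hs
    have e2 := C.t1 (ng o) k2 hk2' hac s⁻¹ hsi
    rw [C.hc_ng o o (ne_ng o) s⁻¹ hsi, inv_inv] at e2
    have e3 : HC X o o s = HC X (ng o) k2 s⁻¹ * (HC X k2 k2 s⁻¹)⁻¹ := by
      rw [e2]; group
    have hs' : t' * (s⁻¹)⁻¹ ≠ 0 := mul_ne_zero ht' (inv_ne_zero hsi)
    refine Rk_of_parts o k2 hs' hy hγ1
      ((Gs X o).inv_mem (HC_mem_Gs o k2 k2 s⁻¹ hk2 hk2' hk2 hk2')) hyd ?_
    unfold dC
    rw [if_pos rfl, if_neg hk2, e1, e3, ← mul_assoc, C.wc_mul_hc (ng o) k2 hac t' s⁻¹ ht' hsi]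
  by_cases hko' : k = ng o
  · -- (d) `k = ng o`
    subst hko'
    rw [ng_ng] at hk2'
    have hac : k2 ≠ ng (ng o) := by rw [ng_ng]; exact hk2'
    have oo := om_ne_zero (K := K) (ng o)
    have hc0 : om K (ng o) * om K k2 * t ≠ 0 := mul_ne_zero (mul_ne_zero oo o2) ht
    have ht1 : -(om K (ng o) * om K k2 * t)⁻¹ * s ≠ 0 :=
      mul_ne_zero (neg_ne_zero.mpr (inv_ne_zero hc0)) hs
    have hA : om K (ng o) * om K k2 * t * (-(om K (ng o) * om K k2 * t)⁻¹ * s) = -s := by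
      field_simp
    generalize -(om K (ng o) * om K k2 * t)⁻¹ * s = t1 at ht1 hA
    have e1 := C.rc2 (ng o) k2 hk2 hac t1 t ht1 ht
    rw [hA] at e1
    have e2 : WC X (ng o) (ng k2) t =
        WC X (ng o) k2 (-t1) * WC X (ng o) (ng o) (-s) * WC X (ng k2) (ng k2) (t * t1⁻¹) := by
      rw [← C.wc_inv (ng o) k2 hac t1, mul_assoc, ← e1]; group
    have h5 : ng o ≠ ng k2 := fun e => hk2' (ng_injective e).symm
    have h6 : ng o ≠ ng (ng k2) := by rw [ng_ng]; exact fun e => hk2 e.symm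
    have hB : t * t1⁻¹ ≠ 0 := mul_ne_zero ht (inv_ne_zero ht1)
    have e3 := WC_long_comm C (ng k2) (ng o) h5 h6 (t * t1⁻¹) s hB
    have e4 : WC X (ng o) (ng o) (-s) * WC X (ng o) (ng o) s = 1 := by
      rw [← C.wc_inv (ng o) (ng o) (ne_ng _) s, inv_mul_cancel]
    have hs' : -t1 ≠ 0 := neg_ne_zero.mpr ht1
    refine Rk_of_parts o k2 hs' hy hγ1
      (WC_mem_Gs o (ng k2) (ng k2) (t * t1⁻¹) (fun e => hk2 (by rw [← e, ng_ng]))
        (fun e => hk2' (ng_injective e)) (fun e => hk2 (by rw [← e, ng_ng]))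
        (fun e => hk2' (ng_injective e))) hyd ?_
    unfold dC
    rw [if_neg (ng_ne o), if_neg hk2', e2]
    calc WC X (ng o) k2 (-t1) * WC X (ng o) (ng o) (-s) * WC X (ng k2) (ng k2) (t * t1⁻¹) *
          WC X (ng o) (ng o) s
        = WC X (ng o) k2 (-t1) * WC X (ng o) (ng o) (-s) *
            (WC X (ng k2) (ng k2) (t * t1⁻¹) * WC X (ng o) (ng o) s) := by group
      _ = WC X (ng o) k2 (-t1) * (WC X (ng o) (ng o) (-s) * WC X (ng o) (ng o) s) *
            WC X (ng k2) (ng k2) (t * t1⁻¹) := by rw [e3]; group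
      _ = _ := by rw [e4, mul_one]
  have hko2 : k ≠ o := fun e => hko e.symm
  by_cases hk2o : k2 = o
  · -- (c) `k2 = o`
    subst hk2o
    have hac : ng k2 ≠ ng k := fun e => hk2 (ng_injective e)
    have ok := om_ne_zero (K := K) k
    have oo := om_ne_zero (K := K) (ng k2)
    have e1 := C.wc_symm k (ng k2) hac s hs
    have hx : om K k * om K (ng k2) * s ≠ 0 := mul_ne_zero (mul_ne_zero ok oo) hs
    generalize om K k * om K (ng k2) * s = x at e1 hx
    have e2 : WC X k (ng k2) x = (WC X k (ng k2) (-x))⁻¹ := by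
      rw [C.wc_inv k (ng k2) hac, neg_neg]
    have hz : t * (-x)⁻¹ ≠ 0 := mul_ne_zero ht (inv_ne_zero (neg_ne_zero.mpr hx))
    have e3 := C.wc_mul_inv k (ng k2) hac t (-x) ht (neg_ne_zero.mpr hx)
    generalize t * (-x)⁻¹ = z at e3 hz
    have hac2 : k ≠ ng (ng k2) := by rw [ng_ng]; exact hko2
    have e4 := C.hc_symm (ng k2) k hac2 z hz
    have e5 := C.t1 (ng k2) k hko' hac2 z hz
    rw [C.hc_ng k2 k2 (ne_ng k2) z hz] at e5
    refine Rk_of_parts k2 k2 (inv_ne_zero hz) hy hγ1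
      (HC_mem_Gs k2 k k z hko2 hko' hko2 hko') hyd ?_
    unfold dC
    rw [if_neg hko2, if_pos rfl, e1, e2, e3, e4, e5]
  by_cases hk2o' : k2 = ng o
  · -- (e) `k2 = ng o`
    have e0 : ng k2 = o := by rw [hk2o', ng_ng]
    have hk2a : ng o ≠ k := hk2o' ▸ hk2
    have hk2b : ng o ≠ ng k := hk2o' ▸ hk2'
    have ok := om_ne_zero (K := K) (ng k)
    have oo := om_ne_zero (K := K) (ng o)
    have hac1 : ng o ≠ ng (ng k) := by rw [ng_ng]; exact hk2a
    have e1 := C.wc_ng (ng k) (ng o) hac1 t ht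
    rw [ng_ng, ng_ng] at e1
    have hx1 : -(om K (ng k) * om K (ng o) * t⁻¹) ≠ 0 :=
      neg_ne_zero.mpr (mul_ne_zero (mul_ne_zero ok oo) (inv_ne_zero ht))
    generalize -(om K (ng k) * om K (ng o) * t⁻¹) = x1 at e1 hx1
    have hac2 : ng k ≠ ng (ng o) := by
      rw [ng_ng]; exact fun e => hko' ((ng_eq_iff k o).mp e)
    have e2 := C.wc_symm (ng o) (ng k) hac2 x1 hx1
    have ht1 : om K (ng o) * om K (ng k) * x1 ≠ 0 := mul_ne_zero (mul_ne_zero oo ok) hx1
    generalize om K (ng o) * om K (ng k) * x1 = t1 at e2 ht1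
    have e3 := C.rc2 (ng o) (ng k) (fun e => hk2b e.symm) hac2 t1 s ht1 hs
    rw [ng_ng] at e3
    have hs' : om K (ng o) * om K (ng k) * s * t1 ≠ 0 :=
      mul_ne_zero (mul_ne_zero (mul_ne_zero oo ok) hs) ht1
    refine Rk_of_parts o k2 hs' hy hγ1
      (WC_mem_Gs o k k (s * t1⁻¹) hko2 hko' hko2 hko') hyd ?_
    rw [e0, hk2o']
    unfold dC
    rw [if_neg hko2, if_neg (ng_ne o), e1, e2, e3]
  · -- (a) the generic case
    have hac : ng k2 ≠ ng k := fun e => hk2 (ng_injective e)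
    have ok := om_ne_zero (K := K) k
    have hs' : t⁻¹ * om K k * om K k2 * s ≠ 0 :=
      mul_ne_zero (mul_ne_zero (mul_ne_zero (inv_ne_zero ht) ok) o2) hs
    have hn : WC X k (ng k2) t ∈ Gs X o :=
      WC_mem_Gs o k (ng k2) t hko2 hko' (fun e => hk2o' (by rw [← e, ng_ng]))
        (fun e => hk2o (ng_injective e))
    refine Rk_of_parts o k2 hs' hy hγ1 hn hyd ?_
    have b1 : ng o ≠ ng k := fun e => hko (ng_injective e)
    have b2 : ng o ≠ ng k2 := fun e => hk2o (ng_injective e).symm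
    have b3 : ng o ≠ ng (ng k2) := by rw [ng_ng]; exact fun e => hk2o' e.symm
    have b4 : ng o ≠ k := fun e => hko' e.symm
    have c1 : o ≠ ng k := fun e => hko' (by rw [e, ng_ng])
    have c2 : o ≠ ng k2 := fun e => hk2o' (by rw [e, ng_ng])
    have c3 : o ≠ ng (ng k2) := by rw [ng_ng]; exact fun e => hk2o e.symm
    have d1 : k ≠ ng k2 := fun e => hk2' (by rw [e, ng_ng])
    have d2 : k ≠ ng (ng k2) := by rw [ng_ng]; exact fun e => hk2 e.symm
    have key : WC X k (ng k2) t * dC X o k s * (WC X k (ng k2) t)⁻¹ =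
        dC X o k2 (t⁻¹ * om K k * om K k2 * s) := by
      unfold dC
      rw [if_neg hko2, if_neg hk2o, WC_eq X (ng o) k, WC_eq X (ng o) k2, ng_ng,
        conj_triple, C.wc_conj k (ng k2) hac t ht, C.wc_conj k (ng k2) hac t ht,
        h81_sgC_other k (ng k2) (ng o) b1 b2 b3 b4, h81_sgC_l, h81_sgC_ngl,
        h81_sgC_other k (ng k2) o c1 c2 c3 hko,
        h81_muC_other k (ng k2) t (ng o) b1 b2 b3 b4, h81_muC_l k (ng k2) t d1 d2,
        h81_muC_ngl, h81_muC_other k (ng k2) t o c1 c2 c3 hko, ng_ng]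
      apply triple_congr
      · rw [om_ng]; ring
      · rw [mul_inv, mul_inv, mul_inv, inv_inv, om_inv, om_inv]
        have := om_mul_self (K := K) k2
        linear_combination (t * om K k * s⁻¹) * this
    rw [← key]
    group

end Cfsg.Agent.Lib.Helper66_S92
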