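import Mathlib
import Cfsg.Agent.Lib.Helper66_S92Rank
import Cfsg.Agent.Lib.Helper74_S92_HEIS
import Cfsg.Agent.Lib.Helper89_S92_EVAL
import Cfsg.Agent.Lib.Helper89_S92_NORM
import Cfsg.Agent.Lib.Helper43_S92_E12
import Cfsg.Agent.Lib.Helper60_S92_FACT
import Cfsg.Agent.Lib.Helper89_S92_PIV

set_option autoImplicit false
set_option linter.unusedVariables false
set_option linter.unusedSectionVars false

/-!
Package LEMW of the S2092 market (architect helper66): change of pivot in the coset relation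
`Rk X o k g`.
-/

namespace Cfsg.Agent.Lib.Helper66_S92

open Cfsg.Agent.Lib.Helper5_SteinbergA Cfsg.Agent.Lib.Helper66_StCalc

variable {ι : Type*} [DecidableEq ι] {K : Type*} [Field K] {G : Type*} [Group G]
  {X : ι ⊕ ι → ι ⊕ ι → K → G}

/-- the vector of an element of `Q d Γ` -/
theorem lemw_vec (ρ : G →* Module.End K (ι ⊕ ι → K)) (hρ : IsAct X ρ) (o k : ι ⊕ ι) (q : G)
    (s : K) (hs : s ≠ 0) {γ : G} (hγ : γ ∈ Gs X o) :
    ρ (q * dC X o k s * γ) (Pi.single o 1) = s • ρ q (Pi.single k 1) := by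
  rw [map_mul, map_mul, Module.End.mul_apply, Module.End.mul_apply, act_Gs ρ hρ o hγ,
    act_dC ρ hρ o k s hs, map_smul]

/-- the coset relation is stable under right multiplication by the stabiliser -/
theorem Rk_mul_Gs (o k : ι ⊕ ι) {g γ : G} (hR : Rk X o k g) (hγ : γ ∈ Gs X o) :
    Rk X o k (g * γ) := by
  obtain ⟨q, hq, s, hs, γ', hγ', rfl⟩ := hR
  exact ⟨q, hq, s, hs, γ' * γ, mul_mem hγ' hγ, by rw [mul_assoc]⟩

/-- the coset relation with pivot `k2` is stable under left multiplication by the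
`X (ng k) c t`, `c ≠ k`, `c ≠ k2` -/
theorem lemw_left (h : CStAB X) (C : WCalc X) (o k k2 : ι ⊕ ι) (hk2 : k2 ≠ k) (hk2' : k2 ≠ ng k)
    {n : G} (hn : n ∈ Subgroup.closure {g | ∃ c t, c ≠ ng (ng k) ∧ c ≠ k2 ∧ g = X (ng k) c t})
    {y : G} (hy : Rk X o k2 y) : Rk X o k2 (n * y) := by
  have key : ∀ c t, c ≠ ng (ng k) → c ≠ k2 → ∀ y : G, Rk X o k2 y →
      Rk X o k2 (X (ng k) c t * y) := by
    intro c t hc1 hc2 y hy
    by_cases hc : ng k2 = c
    · exact Rk_E1 h o k2 (ng k) c t (Or.inr hc) hy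
    · refine Rk_E2 h C o k2 (ng k) c t hk2' (Ne.symm hc2) ?_ hc hy
      intro h'
      exact hk2 (ng_injective h')
  induction hn using Subgroup.closure_induction_left generalizing y with
  | one => rwa [one_mul]
  | mul_left x hx z _ ih =>
    obtain ⟨c, t, hc1, hc2, rfl⟩ := hx
    rw [mul_assoc]
    exact key c t hc1 hc2 _ (ih hy)
  | inv_mul_cancel x hx z _ ih =>
    obtain ⟨c, t, hc1, hc2, rfl⟩ := hx
    rw [mul_assoc, h.X_inv]
    exact key c (-t) hc1 hc2 _ (ih hy)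

/-- elements of `Qs X j` are determined by their effect on `b_{ng j}` -/
theorem Qs_eq_of_act [Fintype ι] (h : CStAB X) (ρ : G →* Module.End K (ι ⊕ ι → K))
    (hρ : IsAct X ρ) (j : ι ⊕ ι) {q q' : G} (hq : q ∈ Qs X j) (hq' : q' ∈ Qs X j)
    (he : ρ q (Pi.single (ng j) 1) = ρ q' (Pi.single (ng j) 1)) : q = q' := by
  have e3 : q'⁻¹ * q = 1 := by
    apply Qs_inj h ρ hρ j (mul_mem (inv_mem hq') hq)
    rw [map_mul, Module.End.mul_apply, he, ← Module.End.mul_apply, ← map_mul,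
      inv_mul_cancel, map_one, Module.End.one_apply]
  rw [inv_mul_eq_one] at e3
  exact e3.symm

/-- change of pivot, the case `k2 ≠ ng k` -/
theorem lemw_short (h : CSt X) (C : WCalc X) (ρ : G →* Module.End K (ι ⊕ ι → K))
    (hρ : IsAct X ρ) (o k k2 : ι ⊕ ι) (hk2 : k2 ≠ k) (hk2' : k2 ≠ ng k) {g : G}
    (hR : Rk X o k g) (hv : ρ g (Pi.single o 1) k2 ≠ 0) : Rk X o k2 g := by
  obtain ⟨q, hq, s, hs, γ, hγ, rfl⟩ := hR
  have hk2'' : k2 ≠ ng (ng k) := by rwa [ng_ng]
  obtain ⟨q₂, hq₂, β, rfl⟩ := Qs_split h.toCStAB (ng k) k2 hk2' hk2'' hq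
  rw [lemw_vec ρ hρ o k _ s hs hγ, map_mul, Module.End.mul_apply, Pi.smul_apply,
    act_Qs_ne ρ hρ (ng k) k2 hk2' hq₂, hρ] at hv
  have hβ : β ≠ 0 := by
    rintro rfl
    apply hv
    unfold xact
    rw [if_neg hk2'', if_neg (Ne.symm hk2')]
    simp [Pi.single_apply, hk2]
  have hp := pivot_short h.toCStAB C h.rank1 o k k2 hk2 hk2' β s hβ hs
  have e1 : q₂ * X (ng k) k2 β * dC X o k s * γ = q₂ * (X (ng k) k2 β * dC X o k s * γ) := by
    group
  rw [e1]
  exact lemw_left h.toCStAB C o k k2 hk2 hk2' hq₂ (Rk_mul_Gs o k2 hp hγ)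

theorem lemW [Fintype ι] (h : CSt X) (C : WCalc X) (ρ : G →* Module.End K (ι ⊕ ι → K))
    (hρ : IsAct X ρ) (o k k2 : ι ⊕ ι) {g : G} (hR : Rk X o k g)
    (hv : ρ g (Pi.single o 1) k2 ≠ 0) : Rk X o k2 g := by
  by_cases hk : k2 = k
  · rw [hk]; exact hR
  by_cases hk' : k2 = ng k
  swap
  · exact lemw_short h C ρ hρ o k k2 hk hk' hR hv
  subst hk'
  by_cases hex : ∃ e, e ≠ k ∧ e ≠ ng k ∧ ρ g (Pi.single o 1) e ≠ 0
  · obtain ⟨e, he1, he2, he3⟩ := hex
    have h1 := lemw_short h C ρ hρ o k e he1 he2 hR he3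
    refine lemw_short h C ρ hρ o e (ng k) (Ne.symm he2) ?_ h1 hv
    intro h'
    exact he1 (ng_injective h').symm
  · push Not at hex
    obtain ⟨q, hq, s, hs, γ, hγ, rfl⟩ := hR
    rw [lemw_vec ρ hρ o k _ s hs hγ] at hv hex
    -- the vector `ρ q b_k`
    set w := ρ q (Pi.single k 1) with hw
    have hwk : w k = 1 := by
      have := act_Qs_ng ρ hρ (ng k) hq (Pi.single k 1)
      rw [ng_ng] at this
      rw [hw, this, Pi.single_eq_same]
    have hwe : ∀ e, e ≠ k → e ≠ ng k → w e = 0 := by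
      intro e he1 he2
      have := hex e he1 he2
      rw [Pi.smul_apply, smul_eq_mul] at this
      exact (mul_eq_zero.mp this).resolve_left hs
    have hμ : w (ng k) ≠ 0 := by
      intro h0
      apply hv
      rw [Pi.smul_apply, h0, smul_zero]
    set α : K := -(w (ng k) * om K (ng k)) with hα
    have hα0 : α ≠ 0 := by
      rw [hα]
      exact neg_ne_zero.mpr (mul_ne_zero hμ (om_ne_zero _))
    -- `X (ng k) (ng k) α` has the same effect on `b_k`
    have e2 : ρ (X (ng k) (ng k) α) (Pi.single k 1) = w := by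
      rw [hρ]
      unfold xact
      rw [if_neg (ne_ng (ng k)), if_pos rfl]
      funext e
      by_cases he1 : e = k
      · subst he1
        simp [hwk, ne_ng]
      by_cases he2 : e = ng k
      · subst he2
        simp [ng_ne, hα, mul_assoc, om_mul_self]
      · simp [he1, he2, hwe e he1 he2]
    have e4 : q = X (ng k) (ng k) α := by
      apply Qs_eq_of_act h.toCStAB ρ hρ (ng k) hq (h.toCStAB.X_mem_Qs (ng k) (ng k) α)
      rw [ng_ng, e2]
    rw [e4]
    exact Rk_mul_Gs o (ng k) (pivot_long h.toCStAB C h.rank1 o k α s hα0 hs) hγ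

end Cfsg.Agent.Lib.Helper66_S92
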