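import Mathlib
import Cfsg.Agent.Lib.Helper74_S92_LEMW

set_option autoImplicit false
set_option linter.unusedVariables false
set_option linter.unusedSectionVars false

/-!
Package STEP of the S2092 market (architect helper66): the coset relation `RR X o` is stable under
left multiplication by root elements, the abstract stabiliser of a vector, and the kernel of the
action.
-/

namespace Cfsg.Agent.Lib.Helper66_S92

open Cfsg.Agent.Lib.Helper5_SteinbergA Cfsg.Agent.Lib.Helper66_StCalc

variable {ι : Type*} [DecidableEq ι] {K : Type*} [Field K] {G : Type*} [Group G]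
  {X : ι ⊕ ι → ι ⊕ ι → K → G}

/-- the step when the vector of `g` is supported on `{a, c}` and the pivot is `a` -/
theorem rr_step_aux [Fintype ι] (h : CSt X) (C : WCalc X) (ρ : G →* Module.End K (ι ⊕ ι → K))
    (hρ : IsAct X ρ) (o a c : ι ⊕ ι) (hca : c ≠ ng a) (t : K) {g : G} (hR : Rk X o a g)
    (hsupp : ∀ e, e ≠ a → e ≠ c → ρ g (Pi.single o 1) e = 0) : Rk X o a (X a c t * g) := by
  obtain ⟨q, hq, s, hs, γ, hγ, rfl⟩ := hR
  rw [lemw_vec ρ hρ o a _ s hs hγ] at hsupp
  set w := ρ q (Pi.single a 1) with hw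
  have hwa : w a = 1 := by
    have := act_Qs_ng ρ hρ (ng a) hq (Pi.single a 1)
    rw [ng_ng] at this
    rw [hw, this, Pi.single_eq_same]
  have hwe : ∀ e, e ≠ a → e ≠ c → w e = 0 := by
    intro e he1 he2
    have := hsupp e he1 he2
    rw [Pi.smul_apply, smul_eq_mul] at this
    exact (mul_eq_zero.mp this).resolve_left hs
  have hnaa : ng (ng a) ≠ a → False := fun h' => h' (ng_ng a)
  -- moving `X a c t` across `d`
  have hfact := factE h.toCStAB C o a s hs a c t (ng_ne a) (Ne.symm hca)
  have hmove : X a c t * dC X o a s = dC X o a s * ((dC X o a s)⁻¹ * X a c t * dC X o a s) := by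
    group
  by_cases hac : a = c
  · subst hac
    have hq1 : q = 1 := by
      apply Qs_eq_of_act h.toCStAB ρ hρ (ng a) hq (one_mem _)
      rw [ng_ng, map_one, Module.End.one_apply, ← hw]
      funext e
      by_cases he : e = a
      · subst he
        simp [hwa]
      · simp [he, hwe e he he]
    subst hq1
    refine ⟨1, one_mem _, s, hs, ((dC X o a s)⁻¹ * X a a t * dC X o a s) * γ,
      mul_mem hfact hγ, ?_⟩
    rw [one_mul, ← mul_assoc, hmove]
    group
  · set μ' : K := -(w c * om K (ng a)) with hμ'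
    have hq' : X (ng a) c μ' ∈ Qs X (ng a) := h.toCStAB.X_mem_Qs (ng a) c μ'
    have e2 : ρ (X (ng a) c μ') (Pi.single a 1) = w := by
      rw [hρ]
      unfold xact
      have hc1 : c ≠ ng (ng a) := by rw [ng_ng]; exact Ne.symm hac
      rw [if_neg hc1, if_neg (Ne.symm hca)]
      funext e
      by_cases he1 : e = a
      · subst he1
        simp [hwa, ne_ng, hac]
      by_cases he2 : e = c
      · subst he2
        have : ng e ≠ a := fun h' => hca (by rw [← h', ng_ng])
        simp [Ne.symm hac, this, hμ', mul_assoc, om_mul_self]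
      · have hce : c ≠ e := Ne.symm he2
        by_cases he3 : e = ng a
        · subst he3
          have : ng c ≠ a := fun h' => hca (by rw [← h', ng_ng])
          simp [hce, hwe (ng a) he1 he2, Ne.symm he1, this]
        · simp [he1, he2, he3, hwe e he1 he2]
    have hqe : q = X (ng a) c μ' := by
      apply Qs_eq_of_act h.toCStAB ρ hρ (ng a) hq hq'
      rw [ng_ng, e2]
    rw [hqe]
    -- commute `X a c t` past `X (ng a) c μ'`
    have hssl := h.toCStAB.cj_ssl c a t μ' (Ne.symm hac) hca
    have hsy : X a c t = X c a t := h.symm _ _ _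
    have hcomm : X a c t * X (ng a) c μ' =
        X c c (-(2 * om K a * t * μ')) * X (ng a) c μ' * X a c t := by
      rw [hsy, ← hssl]
      group
    have e5 : X a c t * (X (ng a) c μ' * dC X o a s * γ) =
        X c c (-(2 * om K a * t * μ')) * (X (ng a) c μ' * dC X o a s *
          (((dC X o a s)⁻¹ * X a c t * dC X o a s) * γ)) := by
      calc X a c t * (X (ng a) c μ' * dC X o a s * γ)
          = (X a c t * X (ng a) c μ') * dC X o a s * γ := by group
        _ = X c c (-(2 * om K a * t * μ')) * X (ng a) c μ' * X a c t * dC X o a s * γ := by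
            rw [hcomm]
        _ = _ := by group
    rw [e5]
    refine Rk_E2 h.toCStAB C o a c c _ hac hac (Ne.symm hca) (Ne.symm hca) ?_
    exact ⟨X (ng a) c μ', hq', s, hs, _, mul_mem hfact hγ, rfl⟩

theorem RR_step [Fintype ι] (h : CSt X) (C : WCalc X) (ρ : G →* Module.End K (ι ⊕ ι → K))
    (hρ : IsAct X ρ) (o a c : ι ⊕ ι) (t : K) {g : G} (hR : RR X o g) :
    RR X o (X a c t * g) := by
  by_cases hca : c = ng a
  · subst hca
    rwa [h.opp, one_mul]
  obtain ⟨k, hRk⟩ := hR
  by_cases hex : ∃ k2, k2 ≠ a ∧ k2 ≠ c ∧ ρ g (Pi.single o 1) k2 ≠ 0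
  · obtain ⟨k2, h1, h2, h3⟩ := hex
    have hR2 := lemW h C ρ hρ o k k2 hRk h3
    refine ⟨k2, ?_⟩
    by_cases hE : ng k2 = a ∨ ng k2 = c
    · exact Rk_E1 h.toCStAB o k2 a c t hE hR2
    · push Not at hE
      exact Rk_E2 h.toCStAB C o k2 a c t h1 h2 hE.1 hE.2 hR2
  · push Not at hex
    -- the pivot is `a` or `c`
    have hvk : ρ g (Pi.single o 1) k ≠ 0 := by
      obtain ⟨q, hq, s, hs, γ, hγ, rfl⟩ := hRk
      rw [lemw_vec ρ hρ o k _ s hs hγ, Pi.smul_apply]
      have := act_Qs_ng ρ hρ (ng k) hq (Pi.single k 1)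
      rw [ng_ng] at this
      rw [this, Pi.single_eq_same, smul_eq_mul, mul_one]
      exact hs
    have hk : k = a ∨ k = c := by
      by_contra hk
      push Not at hk
      exact hvk (hex k hk.1 hk.2)
    rcases hk with rfl | rfl
    · exact ⟨k, rr_step_aux h C ρ hρ o k c hca t hRk hex⟩
    · refine ⟨k, ?_⟩
      rw [h.symm]
      refine rr_step_aux h C ρ hρ o k a ?_ t hRk (fun e he1 he2 => hex e he2 he1)
      intro h'
      exact hca (by rw [h', ng_ng])

/-- the coset relation holds for all elements -/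
theorem RR_all [Fintype ι] (h : CSt X) (C : WCalc X) (ρ : G →* Module.End K (ι ⊕ ι → K))
    (hρ : IsAct X ρ) (hgen : Subgroup.closure {g | ∃ a c t, g = X a c t} = ⊤) (o : ι ⊕ ι) (g : G) :
    RR X o g := by
  have hg : g ∈ Subgroup.closure {g | ∃ a c t, g = X a c t} := by
    rw [hgen]; exact Subgroup.mem_top g
  induction hg using Subgroup.closure_induction_left with
  | one =>
    refine ⟨o, 1, one_mem _, 1, one_ne_zero, 1, one_mem _, ?_⟩
    unfold dC
    rw [if_pos rfl, HC_one, one_mul, one_mul]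
  | mul_left x hx y _ ih =>
    obtain ⟨a, c, t, rfl⟩ := hx
    exact RR_step h C ρ hρ o a c t ih
  | inv_mul_cancel x hx y _ ih =>
    obtain ⟨a, c, t, rfl⟩ := hx
    rw [h.toCStAB.X_inv]
    exact RR_step h C ρ hρ o a c (-t) ih

theorem stab [Fintype ι] (h : CSt X) (C : WCalc X) (ρ : G →* Module.End K (ι ⊕ ι → K))
    (hρ : IsAct X ρ) (hgen : Subgroup.closure {g | ∃ a c t, g = X a c t} = ⊤) (o : ι ⊕ ι) (g : G)
    (hg : ρ g (Pi.single o 1) = Pi.single o 1) : g ∈ Gs X o := by
  obtain ⟨k, q, hq, s, hs, γ, hγ, rfl⟩ := RR_all h C ρ hρ hgen o g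
  rw [lemw_vec ρ hρ o k _ s hs hγ] at hg
  have hqk : ρ q (Pi.single k 1) k = 1 := by
    have := act_Qs_ng ρ hρ (ng k) hq (Pi.single k 1)
    rw [ng_ng] at this
    rw [this, Pi.single_eq_same]
  have hko : k = o := by
    by_contra hko
    have := congrFun hg k
    rw [Pi.smul_apply, hqk, smul_eq_mul, mul_one, Pi.single_eq_of_ne hko] at this
    exact hs this
  subst hko
  have hs1 : s = 1 := by
    have := congrFun hg k
    rwa [Pi.smul_apply, hqk, smul_eq_mul, mul_one, Pi.single_eq_same] at this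
  subst hs1
  rw [one_smul] at hg
  have hq1 : q = 1 := by
    apply Qs_eq_of_act h.toCStAB ρ hρ (ng k) hq (one_mem _)
    rw [ng_ng, map_one, Module.End.one_apply, hg]
  subst hq1
  unfold dC
  rw [if_pos rfl, HC_one, one_mul, one_mul]
  exact hγ

theorem ker_le_Ls [Fintype ι] (h : CSt X) (C : WCalc X) (ρ : G →* Module.End K (ι ⊕ ι → K))
    (hρ : IsAct X ρ) (hgen : Subgroup.closure {g | ∃ a c t, g = X a c t} = ⊤) (o : ι ⊕ ι) (g : G)
    (hg : ρ g = 1) : g ∈ Ls X o := by
  have hgs : g ∈ Gs X o := by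
    apply stab h C ρ hρ hgen o g
    rw [hg, Module.End.one_apply]
  obtain ⟨q, hq, l, hl, rfl⟩ := Gs_eq h.toCStAB o hgs
  have hq1 : q = 1 := by
    apply Qs_inj h.toCStAB ρ hρ o hq
    have := congrArg (fun f => f (Pi.single (ng o) 1)) hg
    simp only [map_mul, Module.End.mul_apply, Module.End.one_apply] at this
    rwa [act_Ls ρ hρ o hl] at this
  subst hq1
  rwa [one_mul]

end Cfsg.Agent.Lib.Helper66_S92
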