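import Mathlib
import Cfsg.Agent.Lib.Helper66_S92Defs
import Cfsg.Agent.Lib.Helper66_StModel
import Cfsg.Agent.Lib.Helper5_S92_MODEL_A

set_option autoImplicit false
set_option linter.unusedVariables false
set_option linter.unusedSectionVars false
set_option linter.unusedSimpArgs false

/-!
Package GEMB of helper66's `s92_packages` market (S2092): the embedding
`Sp(κ) → Sp(ι)` along an injective map `f : κ → ι`, `m ↦ 1 + U (m - 1) Uᵀ` with
`U = incl K (Sum.map f f)`, compatible with the root elements `XM`.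
-/

namespace Cfsg.Agent.Lib.Helper89_S92_GEMB

open Matrix Cfsg.Agent.Lib.Helper66_S92 Cfsg.Agent.Lib.Helper66_StCalc

variable {ι : Type*} [Fintype ι] [DecidableEq ι] {κ : Type*} [Fintype κ] [DecidableEq κ]
  {K : Type*} [Field K]

theorem map_ng (f : κ → ι) (a : κ ⊕ κ) : Sum.map f f (ng a) = ng (Sum.map f f a) := by
  cases a <;> rfl

theorem om_map (f : κ → ι) (a : κ ⊕ κ) : om K (Sum.map f f a) = om K a := by
  cases a <;> rfl

theorem map_inj (f : κ → ι) (hf : Function.Injective f) :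
    Function.Injective (Sum.map f f) := hf.sumMap hf

theorem incl_map_eq (f : κ → ι) :
    incl K (Sum.map f f) = Matrix.fromBlocks (incl K f) 0 0 (incl K f) := by
  ext r c
  rcases r with r | r <;> rcases c with c | c <;> simp [incl]

/-- `J U = U J` -/
theorem J_mul_incl (f : κ → ι) :
    Matrix.J ι K * incl K (Sum.map f f) = incl K (Sum.map f f) * Matrix.J κ K := by
  rw [incl_map_eq]
  unfold Matrix.J
  rw [Matrix.fromBlocks_multiply, Matrix.fromBlocks_multiply]
  simp

/-- `Uᵀ J = J Uᵀ` -/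
theorem inclT_mul_J (f : κ → ι) :
    (incl K (Sum.map f f))ᵀ * Matrix.J ι K = Matrix.J κ K * (incl K (Sum.map f f))ᵀ := by
  have h := congrArg Matrix.transpose (J_mul_incl (K := K) f)
  rw [Matrix.transpose_mul, Matrix.transpose_mul, Matrix.J_transpose, Matrix.J_transpose,
    Matrix.mul_neg, Matrix.neg_mul] at h
  exact neg_injective h

theorem gemb0_symp (f : κ → ι) (hf : Function.Injective f) (m : Matrix (κ ⊕ κ) (κ ⊕ κ) K)
    (hm : m ∈ Matrix.symplecticGroup κ K) :
    gemb0 (incl K (Sum.map f f)) (incl K (Sum.map f f))ᵀ m ∈ Matrix.symplecticGroup ι K := by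
  rw [SymplecticGroup.mem_iff] at hm ⊢
  set U := incl K (Sum.map f f) with hU
  have hVU : Uᵀ * U = 1 := inclT_mul_incl _ (map_inj f hf)
  have h1 : Matrix.J ι K * U = U * Matrix.J κ K := J_mul_incl f
  have h2 : Uᵀ * Matrix.J ι K = Matrix.J κ K * Uᵀ := inclT_mul_J f
  set n := m - 1 with hn
  have hmn : m = 1 + n := by rw [hn]; abel
  have hn0 : n * Matrix.J κ K + Matrix.J κ K * nᵀ + n * Matrix.J κ K * nᵀ = 0 := by
    rw [hmn, Matrix.transpose_add, Matrix.transpose_one] at hm
    have : (1 + n) * Matrix.J κ K * (1 + nᵀ) =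
        Matrix.J κ K + (n * Matrix.J κ K + Matrix.J κ K * nᵀ + n * Matrix.J κ K * nᵀ) := by
      noncomm_ring
    rw [this] at hm
    exact left_eq_add.mp hm.symm |>.symm ▸ rfl
  unfold gemb0
  rw [← hn, Matrix.transpose_add, Matrix.transpose_one, Matrix.transpose_mul, Matrix.transpose_mul,
    Matrix.transpose_transpose]
  have e1 : U * n * Uᵀ * Matrix.J ι K = U * (n * Matrix.J κ K) * Uᵀ := by
    rw [Matrix.mul_assoc (U * n), h2]
    simp only [Matrix.mul_assoc]
  have e2 : Matrix.J ι K * (U * (nᵀ * Uᵀ)) = U * (Matrix.J κ K * nᵀ) * Uᵀ := by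
    rw [← Matrix.mul_assoc, h1]
    simp only [Matrix.mul_assoc]
  have e3 : U * n * Uᵀ * Matrix.J ι K * (U * (nᵀ * Uᵀ)) = U * (n * Matrix.J κ K * nᵀ) * Uᵀ := by
    rw [e1]
    calc U * (n * Matrix.J κ K) * Uᵀ * (U * (nᵀ * Uᵀ))
        = U * (n * Matrix.J κ K) * (Uᵀ * U) * (nᵀ * Uᵀ) := by simp only [Matrix.mul_assoc]
      _ = U * (n * Matrix.J κ K * nᵀ) * Uᵀ := by
        rw [hVU, Matrix.mul_one]
        simp only [Matrix.mul_assoc]
  calc (1 + U * n * Uᵀ) * Matrix.J ι K * (1 + U * (nᵀ * Uᵀ))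
      = Matrix.J ι K + (U * n * Uᵀ * Matrix.J ι K + Matrix.J ι K * (U * (nᵀ * Uᵀ))
          + U * n * Uᵀ * Matrix.J ι K * (U * (nᵀ * Uᵀ))) := by noncomm_ring
    _ = Matrix.J ι K + U * (n * Matrix.J κ K + Matrix.J κ K * nᵀ + n * Matrix.J κ K * nᵀ) * Uᵀ := by
        rw [e3, e1, e2, Matrix.mul_add, Matrix.mul_add, Matrix.add_mul, Matrix.add_mul]
    _ = Matrix.J ι K := by
        rw [hn0, Matrix.mul_zero, Matrix.zero_mul, add_zero]

/-- the embedding -/
noncomputable def gembC (K : Type*) [Field K] (f : κ → ι) (hf : Function.Injective f) :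
    Matrix.symplecticGroup κ K →* Matrix.symplecticGroup ι K where
  toFun m := ⟨gemb0 (incl K (Sum.map f f)) (incl K (Sum.map f f))ᵀ m.1, gemb0_symp f hf m.1 m.2⟩
  map_one' := Subtype.ext (gemb0_one _ _)
  map_mul' m m' := Subtype.ext
    (gemb0_mul _ _ (inclT_mul_incl _ (map_inj f hf)) m.1 m'.1)

theorem gembC_coe (f : κ → ι) (hf : Function.Injective f) (m : Matrix.symplecticGroup κ K) :
    (gembC K f hf m : Matrix (ι ⊕ ι) (ι ⊕ ι) K) =
      gemb0 (incl K (Sum.map f f)) (incl K (Sum.map f f))ᵀ m.1 := rfl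

theorem gembC_injective (f : κ → ι) (hf : Function.Injective f) :
    Function.Injective (gembC K f hf) := by
  intro m m' h
  have hVU := inclT_mul_incl (K := K) _ (map_inj f hf)
  set U := incl K (Sum.map f f) with hU
  have h0 : gemb0 U Uᵀ m.1 = gemb0 U Uᵀ m'.1 := congrArg Subtype.val h
  unfold gemb0 at h0
  have h1 : U * (m.1 - 1) * Uᵀ = U * (m'.1 - 1) * Uᵀ := add_left_cancel h0
  have h2 : Uᵀ * (U * (m.1 - 1) * Uᵀ) * U = Uᵀ * (U * (m'.1 - 1) * Uᵀ) * U := by rw [h1]
  have h3 : ∀ y : Matrix (κ ⊕ κ) (κ ⊕ κ) K, Uᵀ * (U * y * Uᵀ) * U = y := by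
    intro y
    calc Uᵀ * (U * y * Uᵀ) * U = (Uᵀ * U) * y * (Uᵀ * U) := by simp only [Matrix.mul_assoc]
      _ = y := by rw [hVU, Matrix.one_mul, Matrix.mul_one]
  rw [h3, h3] at h2
  apply Subtype.ext
  exact sub_left_injective h2

theorem incl_single_inclT (f : κ → ι) (a b : κ ⊕ κ) (x : K) :
    incl K (Sum.map f f) * Matrix.single a b x * (incl K (Sum.map f f))ᵀ =
      Matrix.single (Sum.map f f a) (Sum.map f f b) x := by
  have e1 : Matrix.single a b x = x • vecMulVec (Pi.single a (1 : K)) (Pi.single b (1 : K)) := by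
    rw [← Matrix.single_eq_single_vecMulVec_single, Matrix.smul_single, smul_eq_mul, mul_one]
  have e2 : Matrix.single (Sum.map f f a) (Sum.map f f b) x =
      x • vecMulVec (Pi.single (Sum.map f f a) (1 : K)) (Pi.single (Sum.map f f b) (1 : K)) := by
    rw [← Matrix.single_eq_single_vecMulVec_single, Matrix.smul_single, smul_eq_mul, mul_one]
  rw [e1, e2, Matrix.mul_smul, Matrix.smul_mul, Matrix.mul_vecMulVec, Matrix.vecMulVec_mul,
    incl_mulVec_single, single_vecMul_inclT]

theorem gemb0_XMat (f : κ → ι) (hf : Function.Injective f) (a c : κ ⊕ κ) (t : K) :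
    gemb0 (incl K (Sum.map f f)) (incl K (Sum.map f f))ᵀ (XMat a c t) =
      XMat (Sum.map f f a) (Sum.map f f c) t := by
  have hF := map_inj f hf
  unfold gemb0 XMat
  by_cases h1 : c = ng a
  · have h1' : Sum.map f f c = ng (Sum.map f f a) := by rw [h1, map_ng]
    rw [if_pos h1, if_pos h1', sub_self, Matrix.mul_zero, Matrix.zero_mul, add_zero]
  · have h1' : ¬ Sum.map f f c = ng (Sum.map f f a) := by
      rw [← map_ng]
      exact fun h => h1 (hF h)
    rw [if_neg h1, if_neg h1']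
    by_cases h2 : a = c
    · have h2' : Sum.map f f a = Sum.map f f c := by rw [h2]
      rw [if_pos h2, if_pos h2', sub_sub_cancel_left, Matrix.mul_neg, Matrix.neg_mul,
        incl_single_inclT, map_ng, om_map, sub_eq_add_neg]
    · have h2' : ¬ Sum.map f f a = Sum.map f f c := fun h => h2 (hF h)
      rw [if_neg h2, if_neg h2']
      have : (1 : Matrix (κ ⊕ κ) (κ ⊕ κ) K) - Matrix.single c (ng a) (t * om K a)
          - Matrix.single a (ng c) (t * om K c) - 1 =
          -(Matrix.single c (ng a) (t * om K a)) - Matrix.single a (ng c) (t * om K c) := by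
        abel
      rw [this, Matrix.mul_sub, Matrix.sub_mul, Matrix.mul_neg, Matrix.neg_mul,
        incl_single_inclT, incl_single_inclT, map_ng, map_ng, om_map, om_map]
      abel

end Cfsg.Agent.Lib.Helper89_S92_GEMB

namespace Cfsg.Agent.Lib.Helper66_S92

open Cfsg.Agent.Lib.Helper89_S92_GEMB

section model

variable {ι : Type*} [Fintype ι] [DecidableEq ι] {κ : Type*} [Fintype κ] [DecidableEq κ]
  {K : Type*} [Field K]

theorem exists_gembC (f : κ → ι) (hf : Function.Injective f) :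
    ∃ φ : Matrix.symplecticGroup κ K →* Matrix.symplecticGroup ι K, Function.Injective φ ∧
      ∀ a c t, φ (XM κ K a c t) = XM ι K (Sum.map f f a) (Sum.map f f c) t := by
  refine ⟨gembC K f hf, gembC_injective f hf, ?_⟩
  intro a c t
  apply Subtype.ext
  rw [gembC_coe, XM_coe, XM_coe]
  exact gemb0_XMat f hf a c t

end model

end Cfsg.Agent.Lib.Helper66_S92
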