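import Mathlib
import Cfsg.Agent.Lib.Helper74_S92_STEP
import Cfsg.Agent.Lib.Helper66_S92WCalc
import Cfsg.Agent.Lib.Helper5_S92_MODEL_C
import Cfsg.Agent.Lib.Helper89_S92_GEMB

set_option autoImplicit false
set_option linter.unusedVariables false
set_option linter.unusedSectionVars false

/-!
Package MAIN of the S2092 market (architect helper66): the universal group of a Steinberg family of
type `C` over a finite field embeds in the symplectic group, by induction on the number of indices.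
-/

namespace Cfsg.Agent.Lib.Helper66_S92

open Cfsg.Agent.Lib.Helper5_SteinbergA Cfsg.Agent.Lib.Helper66_StCalc

section univ

variable {ι : Type*} {K : Type*} [Field K]

/-- free generators -/
def cfx (a c : ι ⊕ ι) (t : K) : FreeGroup ((ι ⊕ ι) × (ι ⊕ ι) × K) := FreeGroup.of (a, c, t)

/-- the Steinberg relators of type `C` -/
def cstRels (ι : Type*) (K : Type*) [Field K] : Set (FreeGroup ((ι ⊕ ι) × (ι ⊕ ι) × K)) :=
  {r | (∃ (a c : ι ⊕ ι) (t : K), r = cfx a c t * (cfx c a t)⁻¹) ∨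
    (∃ (a : ι ⊕ ι) (t : K), r = cfx a (ng a) t) ∨
    (∃ (a c : ι ⊕ ι) (t u : K), r = cfx a c t * cfx a c u * (cfx a c (t + u))⁻¹) ∨
    (∃ (a c d e : ι ⊕ ι) (t u : K), d ≠ ng a ∧ d ≠ ng c ∧ e ≠ ng a ∧ e ≠ ng c ∧
      r = cfx a c t * cfx d e u * (cfx a c t)⁻¹ * (cfx d e u)⁻¹) ∨
    (∃ (a c e : ι ⊕ ι) (t u : K), a ≠ c ∧ a ≠ ng c ∧ a ≠ e ∧ a ≠ ng e ∧ c ≠ e ∧ c ≠ ng e ∧
      r = cfx a c t * cfx (ng c) e u * (cfx a c t)⁻¹ * (cfx (ng c) e u)⁻¹ *
        (cfx a e (-(om K c * t * u)))⁻¹) ∨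
    (∃ (a c : ι ⊕ ι) (t u : K), a ≠ c ∧ a ≠ ng c ∧
      r = cfx a c t * cfx (ng c) a u * (cfx a c t)⁻¹ * (cfx (ng c) a u)⁻¹ *
        (cfx a a (-(2 * om K c * t * u)))⁻¹) ∨
    (∃ (a e : ι ⊕ ι) (t u : K), e ≠ a ∧ e ≠ ng a ∧
      r = cfx a a t * cfx (ng a) e u * (cfx a a t)⁻¹ * (cfx (ng a) e u)⁻¹ *
        (cfx a e (-(om K a * t * u)) * cfx e e (-(t * u ^ 2)))⁻¹) ∨
    (∃ (a c : ι ⊕ ι) (b : Bool) (t u : K), c ≠ ng a ∧ t ≠ 0 ∧
      r = (pairC cfx a c b t * pairC cfx a c (!b) (-t⁻¹) * pairC cfx a c b t) * pairC cfx a c b u *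
        (pairC cfx a c b t * pairC cfx a c (!b) (-t⁻¹) * pairC cfx a c b t)⁻¹ *
        (pairC cfx a c (!b) (-(t⁻¹ ^ 2 * u)))⁻¹)}

/-- the universal group -/
abbrev CStGrp (ι : Type*) (K : Type*) [Field K] := PresentedGroup (cstRels ι K)

/-- the generators of the universal group -/
def csgen (a c : ι ⊕ ι) (t : K) : CStGrp ι K := PresentedGroup.of (a, c, t)

theorem mk_cfx (a c : ι ⊕ ι) (t : K) :
    PresentedGroup.mk (cstRels ι K) (cfx a c t) = csgen a c t := rfl

/-- `pairC` commutes with homomorphisms -/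
theorem map_pairC {G H : Type*} [Group G] [Group H] (φ : G →* H) (X : ι ⊕ ι → ι ⊕ ι → K → G)
    (a c : ι ⊕ ι) (b : Bool) (t : K) :
    φ (pairC X a c b t) = pairC (fun a c t => φ (X a c t)) a c b t := by
  cases b <;> rfl

/-- the additive part of the rank one relations is automatic -/
theorem pairC_add {G : Type*} [Group G] {X : ι ⊕ ι → ι ⊕ ι → K → G}
    (hadd : ∀ a c t u, X a c t * X a c u = X a c (t + u)) (a c : ι ⊕ ι) (b : Bool) (t u : K) :
    pairC X a c b t * pairC X a c b u = pairC X a c b (t + u) := by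
  cases b
  · rw [pairC_false, pairC_false, pairC_false, hadd]
    congr 1
    ring
  · rw [pairC_true, pairC_true, pairC_true, hadd]
    congr 1
    ring

theorem cSt_csgen : CSt (csgen : ι ⊕ ι → ι ⊕ ι → K → CStGrp ι K) := by
  have key : ∀ r ∈ cstRels ι K, PresentedGroup.mk (cstRels ι K) r = 1 :=
    fun r hr => PresentedGroup.one_of_mem hr
  have hadd : ∀ (a c : ι ⊕ ι) (t u : K),
      (csgen a c t : CStGrp ι K) * csgen a c u = csgen a c (t + u) := by
    intro a c t u
    have := key _ (Or.inr (Or.inr (Or.inl ⟨a, c, t, u, rfl⟩)))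
    simp only [map_mul, map_inv, mk_cfx] at this
    exact mul_inv_eq_one.mp this
  refine { toCStAB := ⟨?_, ?_, hadd, ?_, ?_, ?_, ?_⟩, rank1 := ?_ }
  · intro a c t
    have := key _ (Or.inl ⟨a, c, t, rfl⟩)
    simp only [map_mul, map_inv, mk_cfx] at this
    exact mul_inv_eq_one.mp this
  · intro a t
    have := key _ (Or.inr (Or.inl ⟨a, t, rfl⟩))
    rwa [mk_cfx] at this
  · intro a c d e t u h1 h2 h3 h4
    have := key _ (Or.inr (Or.inr (Or.inr (Or.inl ⟨a, c, d, e, t, u, h1, h2, h3, h4, rfl⟩))))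
    simp only [map_mul, map_inv, mk_cfx] at this
    rw [mul_inv_eq_one, mul_inv_eq_iff_eq_mul] at this
    exact this
  · intro a c e t u h1 h2 h3 h4 h5 h6
    have := key _ (Or.inr (Or.inr (Or.inr (Or.inr (Or.inl
      ⟨a, c, e, t, u, h1, h2, h3, h4, h5, h6, rfl⟩)))))
    simp only [map_mul, map_inv, mk_cfx] at this
    exact mul_inv_eq_one.mp this
  · intro a c t u h1 h2
    have := key _ (Or.inr (Or.inr (Or.inr (Or.inr (Or.inr (Or.inl
      ⟨a, c, t, u, h1, h2, rfl⟩))))))
    simp only [map_mul, map_inv, mk_cfx] at this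
    exact mul_inv_eq_one.mp this
  · intro a e t u h1 h2
    have := key _ (Or.inr (Or.inr (Or.inr (Or.inr (Or.inr (Or.inr (Or.inl
      ⟨a, e, t, u, h1, h2, rfl⟩)))))))
    simp only [map_mul, map_inv, mk_cfx] at this
    exact mul_inv_eq_one.mp this
  · intro a c hac
    refine ⟨pairC_add hadd a c, ?_⟩
    intro b t u ht
    have := key _ (Or.inr (Or.inr (Or.inr (Or.inr (Or.inr (Or.inr (Or.inr
      ⟨a, c, b, t, u, hac, ht, rfl⟩)))))))
    simp only [map_mul, map_inv, map_pairC, mk_cfx] at this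
    exact mul_inv_eq_one.mp this

theorem csgen_closure :
    Subgroup.closure {g : CStGrp ι K | ∃ a c t, g = csgen a c t} = ⊤ := by
  rw [eq_top_iff, ← PresentedGroup.closure_range_of (cstRels ι K), Subgroup.closure_le]
  rintro _ ⟨⟨a, c, t⟩, rfl⟩
  exact Subgroup.subset_closure ⟨a, c, t, rfl⟩

variable {G : Type*} [Group G] {X : ι ⊕ ι → ι ⊕ ι → K → G}

theorem lift_cstRels (h : CSt X) :
    ∀ r ∈ cstRels ι K,
      FreeGroup.lift (fun p : (ι ⊕ ι) × (ι ⊕ ι) × K => X p.1 p.2.1 p.2.2) r = 1 := by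
  have hX : (fun a c t => FreeGroup.lift (fun p : (ι ⊕ ι) × (ι ⊕ ι) × K => X p.1 p.2.1 p.2.2)
      (cfx a c t)) = X := by
    funext a c t
    simp only [cfx, FreeGroup.lift_apply_of]
  rintro r (⟨a, c, t, rfl⟩ | ⟨a, t, rfl⟩ | ⟨a, c, t, u, rfl⟩ |
    ⟨a, c, d, e, t, u, h1, h2, h3, h4, rfl⟩ | ⟨a, c, e, t, u, h1, h2, h3, h4, h5, h6, rfl⟩ |
    ⟨a, c, t, u, h1, h2, rfl⟩ | ⟨a, e, t, u, h1, h2, rfl⟩ | ⟨a, c, b, t, u, hac, ht, rfl⟩)
  · simp only [cfx, map_mul, map_inv, FreeGroup.lift_apply_of]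
    rw [h.symm a c t, mul_inv_cancel]
  · simp only [cfx, FreeGroup.lift_apply_of]
    exact h.opp a t
  · simp only [cfx, map_mul, map_inv, FreeGroup.lift_apply_of]
    rw [h.add, mul_inv_cancel]
  · simp only [cfx, map_mul, map_inv, FreeGroup.lift_apply_of]
    rw [h.comm a c d e t u h1 h2 h3 h4]
    group
  · simp only [cfx, map_mul, map_inv, FreeGroup.lift_apply_of]
    rw [h.a2 a c e t u h1 h2 h3 h4 h5 h6, mul_inv_cancel]
  · simp only [cfx, map_mul, map_inv, FreeGroup.lift_apply_of]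
    rw [h.ssl a c t u h1 h2, mul_inv_cancel]
  · simp only [cfx, map_mul, map_inv, FreeGroup.lift_apply_of]
    rw [h.ls a e t u h1 h2, mul_inv_cancel]
  · simp only [map_mul, map_inv, map_pairC, hX]
    rw [(h.rank1 a c hac).conj b t u ht, mul_inv_cancel]

/-- the universal property -/
def cstLift (h : CSt X) : CStGrp ι K →* G := PresentedGroup.toGroup (lift_cstRels h)

theorem cstLift_csgen (h : CSt X) (a c : ι ⊕ ι) (t : K) : cstLift h (csgen a c t) = X a c t :=
  PresentedGroup.toGroup.of (lift_cstRels h)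

theorem smap_ng {κ : Type*} (f : κ → ι) (a : κ ⊕ κ) :
    Sum.map f f (ng a) = ng (Sum.map f f a) := by
  cases a <;> rfl

theorem om_smap {κ : Type*} (f : κ → ι) (a : κ ⊕ κ) : om K (Sum.map f f a) = om K a := by
  cases a <;> rfl

theorem CSt.comap {κ : Type*} (h : CSt X) (f : κ → ι) (hf : Function.Injective f) :
    CSt (fun (a c : κ ⊕ κ) (t : K) => X (Sum.map f f a) (Sum.map f f c) t) := by
  have hF : Function.Injective (Sum.map f f) := hf.sumMap hf
  have hne : ∀ {a c : κ ⊕ κ}, a ≠ ng c → Sum.map f f a ≠ ng (Sum.map f f c) := by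
    intro a c hac
    rw [← smap_ng]
    exact hF.ne hac
  refine { toCStAB := ⟨?_, ?_, ?_, ?_, ?_, ?_, ?_⟩, rank1 := ?_ }
  · intro a c t
    exact h.symm _ _ t
  · intro a t
    show X (Sum.map f f a) (Sum.map f f (ng a)) t = 1
    rw [smap_ng]
    exact h.opp _ t
  · intro a c t u
    exact h.add _ _ t u
  · intro a c d e t u h1 h2 h3 h4
    exact h.comm _ _ _ _ t u (hne h1) (hne h2) (hne h3) (hne h4)
  · intro a c e t u h1 h2 h3 h4 h5 h6
    show X (Sum.map f f a) (Sum.map f f c) t * X (Sum.map f f (ng c)) (Sum.map f f e) u *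
      (X (Sum.map f f a) (Sum.map f f c) t)⁻¹ * (X (Sum.map f f (ng c)) (Sum.map f f e) u)⁻¹ =
      X (Sum.map f f a) (Sum.map f f e) (-(om K c * t * u))
    rw [smap_ng, ← om_smap (K := K) f c]
    exact h.a2 _ _ _ t u (hF.ne h1) (hne h2) (hF.ne h3) (hne h4) (hF.ne h5) (hne h6)
  · intro a c t u h1 h2
    show X (Sum.map f f a) (Sum.map f f c) t * X (Sum.map f f (ng c)) (Sum.map f f a) u *
      (X (Sum.map f f a) (Sum.map f f c) t)⁻¹ * (X (Sum.map f f (ng c)) (Sum.map f f a) u)⁻¹ =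
      X (Sum.map f f a) (Sum.map f f a) (-(2 * om K c * t * u))
    rw [smap_ng, ← om_smap (K := K) f c]
    exact h.ssl _ _ t u (hF.ne h1) (hne h2)
  · intro a e t u h1 h2
    show X (Sum.map f f a) (Sum.map f f a) t * X (Sum.map f f (ng a)) (Sum.map f f e) u *
      (X (Sum.map f f a) (Sum.map f f a) t)⁻¹ * (X (Sum.map f f (ng a)) (Sum.map f f e) u)⁻¹ =
      X (Sum.map f f a) (Sum.map f f e) (-(om K a * t * u)) *
        X (Sum.map f f e) (Sum.map f f e) (-(t * u ^ 2))
    rw [smap_ng, ← om_smap (K := K) f a]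
    exact h.ls _ _ t u (hF.ne h1) (hne h2)
  · intro a c hac
    have e1 : pairC (fun (a c : κ ⊕ κ) (t : K) => X (Sum.map f f a) (Sum.map f f c) t) a c =
        pairC X (Sum.map f f a) (Sum.map f f c) := by
      funext b t
      cases b
      · show X (Sum.map f f (ng a)) (Sum.map f f (ng c)) (om K c * t) =
          X (ng (Sum.map f f a)) (ng (Sum.map f f c)) (om K (Sum.map f f c) * t)
        rw [smap_ng, smap_ng, om_smap]
      · show X (Sum.map f f a) (Sum.map f f c) (-(om K a * t)) =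
          X (Sum.map f f a) (Sum.map f f c) (-(om K (Sum.map f f a) * t))
        rw [om_smap]
    rw [e1]
    exact h.rank1 _ _ (hne hac)

end univ

section main

/-- the natural map to the symplectic group -/
noncomputable def piC (ι : Type*) [Fintype ι] [DecidableEq ι] (K : Type*) [Field K] :
    CStGrp ι K →* Matrix.symplecticGroup ι K :=
  cstLift (cSt_XM (ι := ι) (K := K))

variable {ι : Type*} [Fintype ι] [DecidableEq ι] {K : Type*} [Field K]

theorem piC_csgen (a c : ι ⊕ ι) (t : K) : piC ι K (csgen a c t) = XM ι K a c t :=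
  cstLift_csgen _ a c t

/-- injectivity of the natural map, by induction on the number of indices -/
theorem piC_injective_aux (K : Type*) [Field K] [Finite K] :
    ∀ (n : ℕ) (ι : Type) [Fintype ι] [DecidableEq ι], Fintype.card ι = n →
      Function.Injective (piC ι K) := by
  intro n
  induction n with
  | zero =>
    intro ι _ _ hcard
    have hemp : IsEmpty ι := Fintype.card_eq_zero_iff.mp hcard
    have hbot : (⊤ : Subgroup (CStGrp ι K)) = ⊥ := by
      rw [← PresentedGroup.closure_range_of (cstRels ι K)]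
      have : Set.range (PresentedGroup.of (rels := cstRels ι K)) = ∅ := Set.range_eq_empty _
      rw [this, Subgroup.closure_empty]
    intro g₁ g₂ _
    have h1 : g₁ ∈ (⊥ : Subgroup (CStGrp ι K)) := hbot ▸ Subgroup.mem_top g₁
    have h2 : g₂ ∈ (⊥ : Subgroup (CStGrp ι K)) := hbot ▸ Subgroup.mem_top g₂
    rw [Subgroup.mem_bot] at h1 h2
    rw [h1, h2]
  | succ n ih =>
    intro ι _ _ hcard
    have hne : Nonempty ι := Fintype.card_pos_iff.mp (by omega)
    obtain ⟨o0⟩ := hne
    have hcard' : Fintype.card {i : ι // i ≠ o0} = n := by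
      have := Fintype.card_subtype_compl (fun i : ι => i = o0)
      rw [Fintype.card_subtype_eq] at this
      rw [this]
      omega
    have ih' := ih {i : ι // i ≠ o0} hcard'
    have hval : Function.Injective (Subtype.val : {i : ι // i ≠ o0} → ι) :=
      Subtype.val_injective
    let ψ : CStGrp {i : ι // i ≠ o0} K →* CStGrp ι K :=
      cstLift ((cSt_csgen (ι := ι) (K := K)).comap Subtype.val hval)
    have hψ : ∀ (a c : {i : ι // i ≠ o0} ⊕ {i : ι // i ≠ o0}) (t : K),
        ψ (csgen a c t) = csgen (Sum.map Subtype.val Subtype.val a)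
          (Sum.map Subtype.val Subtype.val c) t :=
      fun a c t => cstLift_csgen _ a c t
    obtain ⟨φ, hφinj, hφ⟩ := exists_gembC (K := K) (Subtype.val : {i : ι // i ≠ o0} → ι) hval
    have hcomp : (piC ι K).comp ψ = φ.comp (piC {i : ι // i ≠ o0} K) := by
      apply PresentedGroup.ext
      rintro ⟨a, c, t⟩
      show piC ι K (ψ (csgen a c t)) = φ (piC _ K (csgen a c t))
      rw [hψ, piC_csgen, piC_csgen, hφ]
    rw [injective_iff_map_eq_one]
    intro g hg
    set o : ι ⊕ ι := Sum.inl o0 with ho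
    have hact : IsAct (csgen : ι ⊕ ι → ι ⊕ ι → K → CStGrp ι K)
        ((actM ι K).comp (piC ι K)) := by
      intro a c t v
      rw [MonoidHom.comp_apply, piC_csgen]
      exact isAct_XM a c t v
    have hL : g ∈ Ls (csgen : ι ⊕ ι → ι ⊕ ι → K → CStGrp ι K) o := by
      apply ker_le_Ls (cSt_csgen (ι := ι) (K := K)) (wCalc_of_cSt cSt_csgen)
        ((actM ι K).comp (piC ι K)) hact csgen_closure o g
      rw [MonoidHom.comp_apply, hg, map_one]
    have hrange : Ls (csgen : ι ⊕ ι → ι ⊕ ι → K → CStGrp ι K) o ≤ ψ.range := by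
      unfold Ls
      rw [Subgroup.closure_le]
      rintro _ ⟨a, c, t, ha, ha', hc, hc', rfl⟩
      have hpre : ∀ d : ι ⊕ ι, d ≠ o → d ≠ ng o →
          ∃ d' : {i : ι // i ≠ o0} ⊕ {i : ι // i ≠ o0},
            Sum.map Subtype.val Subtype.val d' = d := by
        intro d hd hd'
        rcases d with i | i
        · refine ⟨Sum.inl ⟨i, ?_⟩, rfl⟩
          rintro rfl
          exact hd rfl
        · refine ⟨Sum.inr ⟨i, ?_⟩, rfl⟩
          rintro rfl
          exact hd' rfl
      obtain ⟨a', rfl⟩ := hpre a ha ha'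
      obtain ⟨c', rfl⟩ := hpre c hc hc'
      exact ⟨csgen a' c' t, hψ _ _ _⟩
    obtain ⟨z, rfl⟩ := hrange hL
    have h1 : φ (piC _ K z) = 1 := by
      have := DFunLike.congr_fun hcomp z
      simp only [MonoidHom.comp_apply] at this
      rw [← this]
      exact hg
    have h2 : piC _ K z = 1 := hφinj (by rw [h1, map_one])
    have h3 : z = 1 := ih' (by rw [h2, map_one])
    rw [h3, map_one]

/-- the natural map from the universal Steinberg group of type `C` over a finite field to the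
symplectic group is injective -/
theorem piC_injective (K : Type*) [Field K] [Finite K] (ι : Type) [Fintype ι] [DecidableEq ι] :
    Function.Injective (piC ι K) :=
  piC_injective_aux K (Fintype.card ι) ι rfl

end main

theorem injective_of_cSt (K : Type*) [Field K] [Finite K] (ι : Type) [Fintype ι] [DecidableEq ι]
    {G : Type*} [Group G] {X : ι ⊕ ι → ι ⊕ ι → K → G} (h : CSt X)
    (hgen : Subgroup.closure {g | ∃ a c t, g = X a c t} = ⊤)
    (π : G →* Matrix.symplecticGroup ι K) (hπ : ∀ a c t, π (X a c t) = XM ι K a c t) :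
    Function.Injective π := by
  have hs : Function.Surjective (cstLift h) := by
    rw [← MonoidHom.range_eq_top, eq_top_iff, ← hgen, Subgroup.closure_le]
    rintro _ ⟨a, c, t, rfl⟩
    exact ⟨csgen a c t, cstLift_csgen h a c t⟩
  have hcomp : π.comp (cstLift h) = piC ι K := by
    apply PresentedGroup.ext
    rintro ⟨a, c, t⟩
    show π (cstLift h (csgen a c t)) = piC ι K (csgen a c t)
    rw [cstLift_csgen, hπ, piC_csgen]
  rw [injective_iff_map_eq_one]
  intro g hg
  obtain ⟨z, rfl⟩ := hs g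
  have h1 : piC ι K z = 1 := by
    rw [← hcomp]
    exact hg
  have h2 : z = 1 := piC_injective K ι (by rw [h1, map_one])
  rw [h2, map_one]

end Cfsg.Agent.Lib.Helper66_S92
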