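import Mathlib
import Cfsg.Agent.Lib.Helper66_S92LiftDefs
import Cfsg.Agent.Lib.Helper66_S92Lift2Defs
import Cfsg.Agent.Lib.Helper66_S92WCalc
import Cfsg.Agent.Lib.Helper66_S92Split
import Cfsg.Agent.Lib.Helper43_S92_GEN
import Cfsg.Agent.Lib.Helper74_S92_STEP
import Cfsg.Agent.Lib.Helper74_S92_MAIN
import Cfsg.Agent.Lib.Helper5_S92_MODEL_A
import Cfsg.Agent.Lib.Helper5_S92_MODEL_C
import Cfsg.Agent.Lib.Helper41_S92_L2_NORM
import Cfsg.Agent.Lib.Helper58_S92_L2REL

set_option autoImplicit false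

/-! Final assemblies for S2092: `split_of_lift`, `exists_cSt_lift2`. -/

namespace Cfsg.Agent.Lib.Helper66_S92

open Cfsg.Agent.Lib.Helper81_UceA

theorem h66_exists_sq_ne_one {F : Type*} [Field F] [Fintype F] (h4 : 4 ≤ Fintype.card F) :
    ∃ l : F, l ≠ 0 ∧ l ^ 2 ≠ 1 := by
  classical
  by_contra hcon
  have hsub : (Finset.univ : Finset F) ⊆ {0, 1, -1} := by
    intro l _
    by_cases h0 : l = 0
    · simp [h0]
    · have h1 : l ^ 2 = 1 := by
        by_contra h1
        exact hcon ⟨l, h0, h1⟩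
      have h2 : (l - 1) * (l + 1) = 0 := by ring_nf; rw [h1]; ring
      rcases mul_eq_zero.mp h2 with h | h
      · have : l = 1 := by linear_combination h
        simp [this]
      · have : l = -1 := by linear_combination h
        simp [this]
  have hc := Finset.card_le_card hsub
  have h3 : ({0, 1, -1} : Finset F).card ≤ 3 := Finset.card_le_three
  rw [Finset.card_univ] at hc
  omega

/-- SPLIT -/
theorem split_of_lift {K : Type*} [Field K] [Finite K] (n : ℕ) {E : Type*} [Group E]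
    (π : E →* Matrix.symplecticGroup (Fin n) K)
    (hY : ∃ Y : Fin n ⊕ Fin n → Fin n ⊕ Fin n → K → E, CSt Y ∧
      ∀ a c t, π (Y a c t) = XM (Fin n) K a c t) :
    ∃ s : Matrix.symplecticGroup (Fin n) K →* E, π.comp s = MonoidHom.id _ :=
  split_of_lift_aux π (XM_closure n K)
    (fun _ _ hX hgen φ hφ => injective_of_cSt K (Fin n) hX hgen φ hφ) hY

theorem exists_cSt_lift2_abs {ι : Type*} [DecidableEq ι] [Fintype ι] {K : Type*} [Field K]
    {S E : Type*} [Group S] [Group E] {π : E →* S} {XM : ι ⊕ ι → ι ⊕ ι → K → S}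
    (hXM : CSt XM) (hπ : CExt π) (ρ : S →* Module.End K (ι ⊕ ι → K))
    (hρ : IsAct XM ρ) (hgen : Subgroup.closure {g | ∃ a c t, g = XM a c t} = ⊤)
    (hcard : Nat.card K = 2)
    (h4 : 4 ≤ Fintype.card ι) (hinj : Function.Injective ρ) (o : ι ⊕ ι)
    (hstab : ∀ g : S, ρ g (Pi.single o 1) = Pi.single o 1 → g ∈ Gs XM o) :
    ∃ Y : ι ⊕ ι → ι ⊕ ι → K → E, CSt Y ∧ ∀ a c t, π (Y a c t) = XM a c t := by
  obtain ⟨τ, h1, h2, h3, h7⟩ := exists_tau_norm (E := E) hXM hπ ρ hρ hgen hcard h4 o hinj hstab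
  exact cSt_of_tau hXM hπ ρ hρ hcard hinj τ h1 h2 h3 h7

/-- LIFT2 -/
theorem exists_cSt_lift2 {K : Type*} [Field K] (hcard : Nat.card K = 2) (n : ℕ) (hn : 4 ≤ n)
    {E : Type*} [Group E]
    (π : E →* Matrix.symplecticGroup (Fin n) K) (hπ : CExt π) :
    ∃ Y : Fin n ⊕ Fin n → Fin n ⊕ Fin n → K → E, CSt Y ∧
      ∀ a c t, π (Y a c t) = XM (Fin n) K a c t := by
  have : Finite K := Nat.finite_of_card_ne_zero (by omega)
  have hXM : CSt (XM (Fin n) K) := cSt_XM
  have C : WCalc (XM (Fin n) K) := wCalc_of_cSt hXM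
  have o : Fin n ⊕ Fin n := Sum.inl ⟨0, by omega⟩
  exact exists_cSt_lift2_abs hXM hπ (actM (Fin n) K) isAct_XM (XM_closure n K) hcard
    (by rw [Fintype.card_fin]; exact hn) actM_injective o
    (fun g hg => stab hXM C (actM (Fin n) K) isAct_XM (XM_closure n K) o g hg)

end Cfsg.Agent.Lib.Helper66_S92

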