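import Mathlib
import Cfsg.Agent.Lib.Helper74_S94Defs
import Cfsg.Agent.Lib.Helper39_S96_TRANSFER

set_option autoImplicit false
set_option linter.unusedVariables false
set_option linter.unusedSectionVars false

/-!
The relations `BStAB` under homomorphisms, products and subgroups; naturality of `WS`, `HS`, `zS`
(helper66, S2094 / S2099).
-/

namespace Cfsg.Agent.Lib.Helper66_S94

open Cfsg.Agent.Lib.Helper5_SteinbergA Cfsg.Agent.Lib.Helper66_S92 Cfsg.Agent.Lib.Helper66_S96
  Cfsg.Agent.Lib.Helper74_S94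

section generic

variable {ι : Type*} [DecidableEq ι] {K : Type*} [Field K] {V0 : Type*} [AddCommGroup V0]
  [Module K V0] {Q0 : QuadraticForm K V0} {G : Type*} [Group G]
  {X : ι ⊕ ι → ι ⊕ ι → K → G} {XS : ι ⊕ ι → V0 → G}

theorem bStAB_map {H : Type*} [Group H] (f : G →* H) (h : BStAB Q0 X XS) :
    BStAB Q0 (fun a c t => f (X a c t)) (fun a v => f (XS a v)) := by
  refine ⟨dStAB_map f h.long, ?_, ?_, ?_, ?_⟩
  · intro a v w
    rw [← map_mul, h.sadd]
  · intro a d e v t h1 h2
    rw [← map_mul, ← map_mul, h.scomm a d e v t h1 h2]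
  · intro a c v w h1 h2
    rw [← map_inv, ← map_inv, ← map_mul, ← map_mul, ← map_mul, h.ss a c v w h1 h2]
  · intro a c t v h1 h2
    rw [← map_inv, ← map_inv, ← map_mul, ← map_mul, ← map_mul, ← map_mul, h.ls a c t v h1 h2]

theorem bStAB_of_map_injective {H : Type*} [Group H] (f : G →* H) (hf : Function.Injective f)
    (h : BStAB Q0 (fun a c t => f (X a c t)) (fun a v => f (XS a v))) : BStAB Q0 X XS := by
  refine ⟨dStAB_of_map_injective f hf h.long, ?_, ?_, ?_, ?_⟩
  · intro a v w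
    apply hf
    rw [map_mul]
    exact h.sadd a v w
  · intro a d e v t h1 h2
    apply hf
    rw [map_mul, map_mul]
    exact h.scomm a d e v t h1 h2
  · intro a c v w h1 h2
    apply hf
    rw [map_mul, map_mul, map_mul, map_inv, map_inv]
    exact h.ss a c v w h1 h2
  · intro a c t v h1 h2
    apply hf
    rw [map_mul, map_mul, map_mul, map_mul, map_inv, map_inv]
    exact h.ls a c t v h1 h2

theorem bStAB_prod {G' : Type*} [Group G'] {X' : ι ⊕ ι → ι ⊕ ι → K → G'} {XS' : ι ⊕ ι → V0 → G'}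
    (h : BStAB Q0 X XS) (h' : BStAB Q0 X' XS') :
    BStAB Q0 (fun a c t => ((X a c t, X' a c t) : G × G'))
      (fun a v => ((XS a v, XS' a v) : G × G')) := by
  refine ⟨dStAB_prod h.long h'.long, ?_, ?_, ?_, ?_⟩
  · intro a v w
    exact Prod.ext (h.sadd a v w) (h'.sadd a v w)
  · intro a d e v t h1 h2
    exact Prod.ext (h.scomm a d e v t h1 h2) (h'.scomm a d e v t h1 h2)
  · intro a c v w h1 h2
    exact Prod.ext (h.ss a c v w h1 h2) (h'.ss a c v w h1 h2)
  · intro a c t v h1 h2
    exact Prod.ext (h.ls a c t v h1 h2) (h'.ls a c t v h1 h2)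

end generic

section field

variable {ι : Type*} [DecidableEq ι] {K : Type*} [Field K] {L : Type*} [Field L] [Algebra K L]
  {G : Type*} [Group G]

theorem map_WS {H : Type*} [Group H] (f : G →* H) (σ : L → L) (XS : ι ⊕ ι → L → G) (a : ι ⊕ ι)
    (w : L) : f (WS σ XS a w) = WS σ (fun a v => f (XS a v)) a w := by
  rw [WS_eq, WS_eq, map_mul, map_mul]

theorem map_HS {H : Type*} [Group H] (f : G →* H) (σ : L → L) (XS : ι ⊕ ι → L → G) (a : ι ⊕ ι)
    (w : L) : f (HS σ XS a w) = HS σ (fun a v => f (XS a v)) a w := by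
  unfold HS
  rw [map_mul, map_inv, map_WS, map_WS]

theorem map_zS {H : Type*} [Group H] (f : G →* H) (σ : L → L) (XS : ι ⊕ ι → L → G) (a : ι ⊕ ι) :
    f (zS σ XS a) = zS σ (fun a v => f (XS a v)) a := by
  unfold zS
  rw [map_HS]

theorem zS_eq_one_of_neg_one_eq (σ : L → L) (XS : ι ⊕ ι → L → G) (h : (-1 : L) = 1)
    (a : ι ⊕ ι) : zS σ XS a = 1 := by
  unfold zS HS
  rw [h, mul_inv_cancel]

theorem rel_pairS_map {H : Type*} [Group H] (f : G →* H) (σ : L → L) (XS : ι ⊕ ι → L → G)
    (a : ι ⊕ ι) (h : Rel (pairS σ XS a)) : Rel (pairS σ (fun a v => f (XS a v)) a) := by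
  have e : pairS σ (fun a v => f (XS a v)) a = fun b w => f (pairS σ XS a b w) := by
    funext b w
    cases b <;> rfl
  rw [e]
  constructor
  · intro b t u
    rw [← map_mul, h.add]
  · intro b t u ht
    rw [← map_mul, ← map_mul, ← map_mul, ← map_inv, ← map_mul, h.conj b t u ht]

end field

end Cfsg.Agent.Lib.Helper66_S94
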