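import Mathlib
import Cfsg.Agent.Lib.Helper74_S94Defs2
import Cfsg.Agent.Lib.Helper66_S96Asm
import Cfsg.Agent.Lib.Helper66_S96Rank
import Cfsg.Agent.Lib.Helper5_SLPresA
import Cfsg.Agent.Lib.Helper58_S96_EVALA

set_option autoImplicit false
set_option linter.unusedVariables false
set_option linter.unusedSectionVars false
set_option linter.unusedSimpArgs false

/-!
Package B_EVAL_A of helper74's `s94_packages` market (S2094 / S2099, types `B_m` / `²D_l`): the short root
elements of the model preserve the quadratic form `qB`, and evaluation of an action `ρ` with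
`IsActB Q0 X XS ρ` on the subgroups `GsB`, `LsB`, `QsB`.  Port of `Helper58_S96_EVALA`.
-/

namespace Cfsg.Agent.Lib.Helper74_S94

open Cfsg.Agent.Lib.Helper5_SteinbergA Cfsg.Agent.Lib.Helper5_SLPresA Cfsg.Agent.Lib.Helper66_StCalc
  Cfsg.Agent.Lib.Helper66_S92 Cfsg.Agent.Lib.Helper66_S96

section generic

variable {ι : Type*} [DecidableEq ι] {K : Type*} [Field K] {V0 : Type*} [AddCommGroup V0]
  [Module K V0] {G : Type*} [Group G] {Q0 : QuadraticForm K V0}
  {X : ι ⊕ ι → ι ⊕ ι → K → G} {XS : ι ⊕ ι → V0 → G}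

theorem xactS_qB [Fintype ι] (a : ι ⊕ ι) (v : V0) (x : (ι ⊕ ι → K) × V0) :
    qB Q0 (xactS Q0 a v x) = qB Q0 x := by
  unfold qB xactS
  simp only
  rw [h58_qD_add_single]
  have e : x.2 - x.1 (ng a) • v = x.2 + (-(x.1 (ng a))) • v := by
    rw [neg_smul, sub_eq_add_neg]
  rw [e, QuadraticMap.map_add Q0, QuadraticMap.map_smul, QuadraticMap.polar_smul_right]
  simp only [smul_eq_mul]
  ring

/-- the first component of the model action of a short root element -/
theorem h88_xactS_fst (a : ι ⊕ ι) (v : V0) (x : (ι ⊕ ι → K) × V0) (e : ι ⊕ ι) (he : e ≠ a) :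
    (xactS Q0 a v x).1 e = x.1 e := by
  unfold xactS
  simp [Pi.single_apply, he]

/-- a short root element of the model fixes the vectors with vanishing `ng a` coordinate and `V0` part -/
theorem h88_xactS_fix (a : ι ⊕ ι) (v : V0) (y : ι ⊕ ι → K) (hy : y (ng a) = 0) :
    xactS Q0 a v (y, (0 : V0)) = (y, 0) := by
  unfold xactS
  simp [hy]

/-- the first component of the model action of a long root element, away from the two moved coordinates -/
theorem h88_xactD_apply_ne (a c : ι ⊕ ι) (t : K) (y : ι ⊕ ι → K) (e : ι ⊕ ι) (hea : e ≠ a)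
    (hec : e ≠ c) : xactD a c t y e = y e := by
  unfold xactD
  split_ifs
  · rfl
  · simp [Pi.single_apply, hea, hec]

section eval

variable (ρ : G →* Module.End K ((ι ⊕ ι → K) × V0)) (hρ : IsActB Q0 X XS ρ)
include hρ

theorem act_qB [Fintype ι] {g : G}
    (hg : g ∈ Subgroup.closure ({g | ∃ a c t, g = X a c t} ∪ {g | ∃ a v, g = XS a v}))
    (x : (ι ⊕ ι → K) × V0) : qB Q0 (ρ g x) = qB Q0 x := by
  induction hg using Subgroup.closure_induction generalizing x with
  | mem y hy =>
    rcases hy with ⟨a, c, t, rfl⟩ | ⟨a, v, rfl⟩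
    · rw [hρ.long]
      unfold qB
      simp only
      rw [xactD_qD]
    · rw [hρ.short, xactS_qB]
  | one => simp
  | mul y z _ _ hy hz => rw [map_mul, Module.End.mul_apply, hy, hz]
  | inv y _ hy =>
    have := hy (ρ y⁻¹ x)
    rw [← Module.End.mul_apply, ← map_mul, mul_inv_cancel, map_one] at this
    exact this.symm

theorem act_GsB (o : ι ⊕ ι) {g : G} (hg : g ∈ GsB X XS o) : ρ g (bB o) = bB o := by
  unfold GsB at hg
  induction hg using Subgroup.closure_induction with
  | mem y hy =>
    rcases hy with ⟨a, c, t, ha, hc, rfl⟩ | ⟨a, v, ha, rfl⟩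
    · rw [hρ.long]
      have ha' : ng a ≠ o := fun h => ha (by rw [← h, ng_ng])
      have hc' : ng c ≠ o := fun h => hc (by rw [← h, ng_ng])
      unfold bB
      simp only
      congr 1
      unfold xactD
      split_ifs
      · rfl
      · simp [Pi.single_apply, ha', hc']
    · rw [hρ.short]
      have ha' : ng a ≠ o := fun h => ha (by rw [← h, ng_ng])
      unfold bB
      exact h88_xactS_fix a v _ (by simp [Pi.single_apply, ha'])
  | one => simp
  | mul y z _ _ hy hz => rw [map_mul, Module.End.mul_apply, hz, hy]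
  | inv y _ hy =>
    have := congrArg (ρ y⁻¹) hy
    rw [← Module.End.mul_apply, ← map_mul, inv_mul_cancel, map_one] at this
    exact this.symm

theorem act_LsB (o : ι ⊕ ι) {g : G} (hg : g ∈ LsB X XS o) : ρ g (bB (ng o)) = bB (ng o) := by
  unfold LsB at hg
  induction hg using Subgroup.closure_induction with
  | mem y hy =>
    rcases hy with ⟨a, c, t, ha, ha2, hc, hc2, rfl⟩ | ⟨a, v, ha, ha2, rfl⟩
    · rw [hρ.long]
      have ha' : ng a ≠ ng o := fun h => ha (ng_injective h)
      have hc' : ng c ≠ ng o := fun h => hc (ng_injective h)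
      unfold bB
      simp only
      congr 1
      unfold xactD
      split_ifs
      · rfl
      · simp [Pi.single_apply, ha', hc']
    · rw [hρ.short]
      have ha' : ng a ≠ ng o := fun h => ha (ng_injective h)
      unfold bB
      exact h88_xactS_fix a v _ (by simp [Pi.single_apply, ha'])
  | one => simp
  | mul y z _ _ hy hz => rw [map_mul, Module.End.mul_apply, hz, hy]
  | inv y _ hy =>
    have := congrArg (ρ y⁻¹) hy
    rw [← Module.End.mul_apply, ← map_mul, inv_mul_cancel, map_one] at this
    exact this.symm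

/-- elements of `QsB X XS j` do not change the coordinate `ng j` -/
theorem act_QsB_ng (j : ι ⊕ ι) {q : G} (hq : q ∈ QsB X XS j) (x : (ι ⊕ ι → K) × V0) :
    (ρ q x).1 (ng j) = x.1 (ng j) := by
  unfold QsB at hq
  induction hq using Subgroup.closure_induction generalizing x with
  | mem y hy =>
    rcases hy with ⟨c, t, hc, rfl⟩ | ⟨v, rfl⟩
    · rw [hρ.long]
      exact h88_xactD_apply_ne j c t x.1 (ng j) (ng_ne j) hc.symm
    · rw [hρ.short]
      exact h88_xactS_fst j v x (ng j) (ng_ne j)
  | one => simp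
  | mul y z _ _ hy hz => rw [map_mul, Module.End.mul_apply, hy, hz]
  | inv y _ hy =>
    have := hy (ρ y⁻¹ x)
    rw [← Module.End.mul_apply, ← map_mul, mul_inv_cancel, map_one] at this
    exact this.symm

/-- the generators `X j c t` with `c ≠ e` and `XS j v` do not change the coordinate `e ≠ j` -/
theorem act_QsB_ne (j e : ι ⊕ ι) (hej : e ≠ j) {q : G}
    (hq : q ∈ Subgroup.closure ({g | ∃ c t, c ≠ ng j ∧ c ≠ e ∧ g = X j c t} ∪
      {g | ∃ v, g = XS j v})) (x : (ι ⊕ ι → K) × V0) :
    (ρ q x).1 e = x.1 e := by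
  induction hq using Subgroup.closure_induction generalizing x with
  | mem y hy =>
    rcases hy with ⟨c, t, hc, hce, rfl⟩ | ⟨v, rfl⟩
    · rw [hρ.long]
      exact h88_xactD_apply_ne j c t x.1 e hej hce.symm
    · rw [hρ.short]
      exact h88_xactS_fst j v x e hej
  | one => simp
  | mul y z _ _ hy hz => rw [map_mul, Module.End.mul_apply, hy, hz]
  | inv y _ hy =>
    have := hy (ρ y⁻¹ x)
    rw [← Module.End.mul_apply, ← map_mul, mul_inv_cancel, map_one] at this
    exact this.symm

end eval

end generic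

end Cfsg.Agent.Lib.Helper74_S94
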