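import Mathlib
import Cfsg.Agent.Lib.Helper52_S94_QS
import Cfsg.Agent.Lib.Helper88_S94_EVALA
import Cfsg.Agent.Lib.Helper55_S94_EVALB
import Cfsg.Agent.Lib.Helper65_S94_E12
import Cfsg.Agent.Lib.Helper39_S94_NORM
import Cfsg.Agent.Lib.Helper78_S94_FACT
import Cfsg.Agent.Lib.Helper46_S96_PIV
import Cfsg.Agent.Lib.Helper95_S96_FACT

set_option autoImplicit false
set_option linter.unusedVariables false
set_option linter.unusedSectionVars false

/-!
Package B_LEMW of the market `s94_packages` (helper74): change of pivot in the coset relation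
`RkB X XS o k g` (type `B` / `²D`).
-/

namespace Cfsg.Agent.Lib.Helper74_S94

open Cfsg.Agent.Lib.Helper5_SteinbergA Cfsg.Agent.Lib.Helper66_S92 Cfsg.Agent.Lib.Helper66_S96

variable {ι : Type*} [DecidableEq ι] {K : Type*} [Field K] {V0 : Type*} [AddCommGroup V0]
  [Module K V0] {G : Type*} [Group G] {Q0 : QuadraticForm K V0}
  {X : ι ⊕ ι → ι ⊕ ι → K → G} {XS : ι ⊕ ι → V0 → G}

/-- `Rk_E2B_L` (package B_E12) from the hypothesis form of helper65 and B_NORM -/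
theorem h74_Rk_E2B_L (h : BStAB Q0 X XS) (C : WCalcD X) (o k a c : ι ⊕ ι) (t : K) (h1 : k ≠ a)
    (h2 : k ≠ c) (h3 : ng k ≠ a) (h4 : ng k ≠ c) {g : G} (hR : RkB X XS o k g) :
    RkB X XS o k (X a c t * g) :=
  h65_Rk_E2B_L_of h C (fun j a c t h1 h2 _ hq => conj_mem_QsB_L h j a c t h1 h2 hq)
    o k a c t h1 h2 h3 h4 hR

/-- `Rk_E2B_S` (package B_E12) from the hypothesis form of helper65 and B_NORM -/
theorem h74_Rk_E2B_S (h : BStAB Q0 X XS) (C : WCalcD X) (CS : WCalcS X XS) (o k a : ι ⊕ ι) (v : V0)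
    (h1 : k ≠ a) (h3 : ng k ≠ a) {g : G} (hR : RkB X XS o k g) :
    RkB X XS o k (XS a v * g) :=
  h65_Rk_E2B_S_of' C CS (fun j a v h1 _ hq => conj_mem_QsB_S h j a v h1 hq) o k a v h1 h3 hR

/-- the vector of an element of `Q d P` -/
theorem h74_lemwB_vec (ρ : G →* Module.End K ((ι ⊕ ι → K) × V0)) (hρ : IsActB Q0 X XS ρ)
    (o k : ι ⊕ ι) (q : G) {d : G} (hd : IsRepD X o k d) {p : G} (hp : p ∈ PsB X XS o) :
    ∃ s : K, s ≠ 0 ∧ ρ (q * d * p) (bB o) = s • ρ q (bB k) := by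
  obtain ⟨s₁, hs₁, e₁⟩ := act_PsB ρ hρ o hp
  obtain ⟨s₂, hs₂, e₂⟩ := act_RepB ρ hρ o k hd
  refine ⟨s₁ * s₂, mul_ne_zero hs₁ hs₂, ?_⟩
  rw [map_mul, map_mul, Module.End.mul_apply, Module.End.mul_apply, e₁, map_smul, e₂, map_smul,
    map_smul, smul_smul]

/-- the coset relation with pivot `k2` is stable under left multiplication by the
`X (ng k) c t`, `c ≠ k`, `c ≠ k2`, and the `XS (ng k) v` -/
theorem h74_lemwB_left (h : BStAB Q0 X XS) (C : WCalcD X) (CS : WCalcS X XS) (o k k2 : ι ⊕ ι)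
    (hk2 : k2 ≠ k) (hk2' : k2 ≠ ng k) {n : G}
    (hn : n ∈ Subgroup.closure ({g | ∃ c t, c ≠ ng (ng k) ∧ c ≠ k2 ∧ g = X (ng k) c t} ∪
      {g | ∃ v, g = XS (ng k) v}))
    {y : G} (hy : RkB X XS o k2 y) : RkB X XS o k2 (n * y) := by
  have key : ∀ c t, c ≠ ng (ng k) → c ≠ k2 → ∀ y : G, RkB X XS o k2 y →
      RkB X XS o k2 (X (ng k) c t * y) := by
    intro c t hc1 hc2 y hy
    by_cases hc : ng k2 = c
    · exact Rk_E1B_L h o k2 (ng k) c t (Or.inr hc) hy
    · refine h74_Rk_E2B_L h C o k2 (ng k) c t hk2' (Ne.symm hc2) ?_ hc hy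
      intro h'
      exact hk2 (ng_injective h')
  have keyS : ∀ v, ∀ y : G, RkB X XS o k2 y → RkB X XS o k2 (XS (ng k) v * y) := by
    intro v y hy
    refine h74_Rk_E2B_S h C CS o k2 (ng k) v hk2' ?_ hy
    intro h'
    exact hk2 (ng_injective h')
  induction hn using Subgroup.closure_induction_left generalizing y with
  | one => rwa [one_mul]
  | mul_left x hx z _ ih =>
    rw [mul_assoc]
    rcases hx with ⟨c, t, hc1, hc2, rfl⟩ | ⟨v, rfl⟩
    · exact key c t hc1 hc2 _ (ih hy)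
    · exact keyS v _ (ih hy)
  | inv_mul_cancel x hx z _ ih =>
    rw [mul_assoc]
    rcases hx with ⟨c, t, hc1, hc2, rfl⟩ | ⟨v, rfl⟩
    · rw [h.long.X_inv]
      exact key c (-t) hc1 hc2 _ (ih hy)
    · rw [h.XS_inv]
      exact keyS (-v) _ (ih hy)

/-- change of pivot, the case `k2 ≠ ng k` -/
theorem h74_lemwB_short (h : BStAB Q0 X XS) (hD : DSt X) (C : WCalcD X) (CS : WCalcS X XS)
    (ρ : G →* Module.End K ((ι ⊕ ι → K) × V0)) (hρ : IsActB Q0 X XS ρ) (o k k2 : ι ⊕ ι)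
    (hk2 : k2 ≠ k) (hk2' : k2 ≠ ng k) {g : G}
    (hR : RkB X XS o k g) (hv : (ρ g (bB o)).1 k2 ≠ 0) : RkB X XS o k2 g := by
  obtain ⟨q, hq, d, hd, p, hp, rfl⟩ := hR
  have hk2'' : k2 ≠ ng (ng k) := by rwa [ng_ng]
  obtain ⟨q₂, hq₂, β, rfl⟩ := QsB_split h (ng k) k2 hk2' hk2'' hq
  obtain ⟨s, hs, e⟩ := h74_lemwB_vec ρ hρ o k (q₂ * X (ng k) k2 β) hd hp
  rw [e, map_mul, Module.End.mul_apply, Prod.smul_fst, Pi.smul_apply,
    act_QsB_ne ρ hρ (ng k) k2 hk2' hq₂, hρ.long] at hv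
  have hβ : β ≠ 0 := by
    rintro rfl
    apply hv
    show s • (xactD (ng k) k2 0 (bB (K := K) (V0 := V0) k).1) k2 = 0
    unfold xactD bB
    rw [if_neg hk2'']
    simp [Pi.single_apply, hk2]
  have hpv := RkB_of_RkD (XS := XS) o k2 (pivotD hD C o k k2 hk2 hk2' β hβ hd)
  have e1 : q₂ * X (ng k) k2 β * d * p = q₂ * (X (ng k) k2 β * d * p) := by
    group
  rw [e1]
  exact h74_lemwB_left h C CS o k k2 hk2 hk2' hq₂ (RkB_mul_PsB o k2 hpv hp)

/-- `QsB X XS j` consists of products of root elements -/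
theorem h74_QsB_le_closure (j : ι ⊕ ι) :
    QsB X XS j ≤ Subgroup.closure ({g | ∃ a c t, g = X a c t} ∪ {g | ∃ a v, g = XS a v}) := by
  unfold QsB
  apply Subgroup.closure_mono
  rintro _ (⟨c, t, -, rfl⟩ | ⟨v, rfl⟩)
  · exact Or.inl ⟨j, c, t, rfl⟩
  · exact Or.inr ⟨j, v, rfl⟩

/-- the quadratic form of a vector supported on `{k, ng k}` -/
theorem h74_qD_twoB [Fintype ι] (k : ι ⊕ ι) (w : ι ⊕ ι → K)
    (hw : ∀ e, e ≠ k → e ≠ ng k → w e = 0) : qD w = w k * w (ng k) := by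
  unfold qD
  rcases k with i | i
  · rw [Finset.sum_eq_single i]
    · rfl
    · intro b _ hb
      rw [hw (Sum.inl b) (by simpa using hb) (by simp), zero_mul]
    · intro hi
      exact absurd (Finset.mem_univ i) hi
  · rw [Finset.sum_eq_single i]
    · rw [mul_comm]; rfl
    · intro b _ hb
      rw [hw (Sum.inl b) (by simp) (by simpa using hb), zero_mul]
    · intro hi
      exact absurd (Finset.mem_univ i) hi

/-- elements of `QsB X XS j` are determined by their effect on `b_{ng j}` -/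
theorem h74_QsB_eq_of_act [Fintype ι] (h : BStAB Q0 X XS)
    (ρ : G →* Module.End K ((ι ⊕ ι → K) × V0)) (hρ : IsActB Q0 X XS ρ) (j : ι ⊕ ι) {q q' : G}
    (hq : q ∈ QsB X XS j) (hq' : q' ∈ QsB X XS j)
    (he : ρ q (bB (ng j)) = ρ q' (bB (ng j))) : q = q' := by
  have e3 : q'⁻¹ * q = 1 := by
    apply QsB_inj h ρ hρ j (mul_mem (inv_mem hq') hq)
    rw [map_mul, Module.End.mul_apply, he, ← Module.End.mul_apply, ← map_mul,
      inv_mul_cancel, map_one, Module.End.one_apply]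
  rw [inv_mul_eq_one] at e3
  exact e3.symm

/-- an index outside `{k, ng k}` -/
theorem h74_exists_other [Fintype ι] (h2 : 2 ≤ Fintype.card ι) (k : ι ⊕ ι) :
    ∃ e : ι ⊕ ι, e ≠ k ∧ e ≠ ng k := by
  rcases k with i | i
  · obtain ⟨j, hj⟩ := Fintype.exists_ne_of_one_lt_card (by omega : 1 < Fintype.card ι) i
    exact ⟨Sum.inl j, fun e => hj (Sum.inl_injective e), by simp [ng]⟩
  · obtain ⟨j, hj⟩ := Fintype.exists_ne_of_one_lt_card (by omega : 1 < Fintype.card ι) i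
    exact ⟨Sum.inl j, by simp, fun e => hj (Sum.inl_injective e)⟩

/-- the case `k2 = ng k` when the vector of `g` is supported on `{k, ng k}` and `V0` -/
theorem h74_lemwB_opp [Fintype ι] (h : BStAB Q0 X XS) (hD : DSt X) (C : WCalcD X)
    (CS : WCalcS X XS) (ρ : G →* Module.End K ((ι ⊕ ι → K) × V0)) (hρ : IsActB Q0 X XS ρ)
    (h2 : 2 ≤ Fintype.card ι) (o k : ι ⊕ ι) {g : G} (hR : RkB X XS o k g)
    (hv : (ρ g (bB o)).1 (ng k) ≠ 0)
    (hex : ∀ e, e ≠ k → e ≠ ng k → (ρ g (bB o)).1 e = 0) : RkB X XS o (ng k) g := by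
  obtain ⟨e, he1, he2⟩ := h74_exists_other h2 k
  have hne1 : ng e ≠ k := fun h' => he2 (by rw [← h', ng_ng])
  have hne2 : ng e ≠ ng k := fun h' => he1 (ng_injective h')
  obtain ⟨q, hq, d, hd, p, hp, rfl⟩ := hR
  obtain ⟨s, hs, ev⟩ := h74_lemwB_vec ρ hρ o k q hd hp
  rw [ev] at hv hex
  -- the vector `ρ q b_k`
  set w := ρ q (bB k) with hw
  have hwk : w.1 k = 1 := by
    have := act_QsB_ng ρ hρ (ng k) hq (bB k)
    rw [ng_ng] at this
    rw [hw, this]
    show (Pi.single k (1 : K) : ι ⊕ ι → K) k = 1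
    rw [Pi.single_eq_same]
  have hwe : ∀ e, e ≠ k → e ≠ ng k → w.1 e = 0 := by
    intro e he1 he2
    have := hex e he1 he2
    rw [Prod.smul_fst, Pi.smul_apply, smul_eq_mul] at this
    exact (mul_eq_zero.mp this).resolve_left hs
  have hμ : w.1 (ng k) ≠ 0 := by
    intro h0
    apply hv
    rw [Prod.smul_fst, Pi.smul_apply, h0, smul_zero]
  have hq0 : w.1 (ng k) + Q0 w.2 = 0 := by
    have e1 : qB Q0 w = 0 := by
      rw [hw, act_qB ρ hρ (h74_QsB_le_closure (ng k) hq)]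
      show qD (Pi.single k (1 : K)) + Q0 (0 : V0) = 0
      rw [h74_qD_twoB k _ (by
        intro e he1 he2
        rw [Pi.single_eq_of_ne he1]), Pi.single_eq_of_ne (ng_ne k), mul_zero, map_zero, add_zero]
    unfold qB at e1
    rwa [h74_qD_twoB k w.1 hwe, hwk, one_mul] at e1
  -- `q` is a short root element
  have hq' : XS (ng k) (-w.2) ∈ QsB X XS (ng k) := XS_mem_QsB (ng k) _
  have hqe : q = XS (ng k) (-w.2) := by
    apply h74_QsB_eq_of_act h ρ hρ (ng k) hq hq'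
    rw [ng_ng, ← hw, hρ.short]
    unfold xactS bB
    refine Prod.ext ?_ ?_
    · funext e'
      show w.1 e' = ((Pi.single k (1 : K) + Pi.single (ng k)
        (QuadraticMap.polar Q0 (0 : V0) (-w.2) - Q0 (-w.2) * (Pi.single k (1 : K) : ι ⊕ ι → K)
          (ng (ng k))) : ι ⊕ ι → K)) e'
      rw [ng_ng, Pi.single_eq_same, mul_one, QuadraticMap.polar_zero_left, zero_sub,
        QuadraticMap.map_neg, Pi.add_apply]
      by_cases h1 : e' = k
      · subst h1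
        rw [hwk, Pi.single_eq_same, Pi.single_eq_of_ne (ne_ng e'), add_zero]
      by_cases h3 : e' = ng k
      · subst h3
        rw [Pi.single_eq_of_ne (ng_ne k), Pi.single_eq_same, zero_add]
        linear_combination hq0
      · rw [hwe e' h1 h3, Pi.single_eq_of_ne h1, Pi.single_eq_of_ne h3, add_zero]
    · show w.2 = (0 : V0) - (Pi.single k (1 : K) : ι ⊕ ι → K) (ng (ng k)) • (-w.2)
      rw [ng_ng, Pi.single_eq_same, one_smul, zero_sub, neg_neg]
  -- move `x = X k (ng e) 1` into the coset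
  set x := X k (ng e) 1 with hx
  have hfact := factD h.long C o k hd k (ng e) 1 (ng_ne k) (Ne.symm hne2)
  have hxq : x * q = XS (ng e) ((-1 : K) • (-w.2)) * (X (ng e) (ng k) (-1 * Q0 (-w.2)) *
      (q * x)) := by
    have e1 : x = X (ng e) k (-1) := by
      rw [hx, h.long.anti (ng e) k 1]
    have e2 := h.cj_ls (ng e) k (-1) (-w.2) (Ne.symm hne1) (by rw [ng_ng]; exact Ne.symm he1)
    rw [← hqe, ← e1] at e2
    calc x * q = (x * q * x⁻¹) * x := by group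
      _ = _ := by rw [e2]; group
  have hA : RkB X XS o k (x * (q * d * p)) := by
    have e1 : x * (q * d * p) = XS (ng e) ((-1 : K) • (-w.2)) *
        (X (ng e) (ng k) (-1 * Q0 (-w.2)) * (q * d * ((d⁻¹ * x * d) * p))) := by
      calc x * (q * d * p) = (x * q) * d * p := by group
        _ = _ := by rw [hxq]; group
    rw [e1]
    refine h74_Rk_E2B_S h C CS o k (ng e) _ (Ne.symm hne1) (Ne.symm hne2) ?_
    refine Rk_E1B_L h o k (ng e) (ng k) _ (Or.inr rfl) ?_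
    exact ⟨q, hq, d, hd, (d⁻¹ * x * d) * p,
      mul_mem (GsB_le_PsB o (Gs_le_GsB o hfact)) hp, rfl⟩
  -- the vector of `x * g`
  have hvec : ρ (x * (q * d * p)) (bB o) = s • (xactD k (ng e) 1 w.1, w.2) := by
    rw [map_mul, Module.End.mul_apply, ev, map_smul, hx, hρ.long]
  have hxd : ∀ f, xactD k (ng e) (1 : K) w.1 f =
      ((w.1 + Pi.single k (1 * w.1 (ng (ng e))) - Pi.single (ng e) (1 * w.1 (ng k)) :
        ι ⊕ ι → K)) f := by
    intro f
    unfold xactD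
    rw [if_neg hne2]
  have hB : (ρ (x * (q * d * p)) (bB o)).1 (ng e) ≠ 0 := by
    rw [hvec, Prod.smul_fst, Pi.smul_apply]
    show s • xactD k (ng e) 1 w.1 (ng e) ≠ 0
    rw [hxd, Pi.sub_apply, Pi.add_apply,
      Pi.single_eq_of_ne hne1, Pi.single_eq_same, hwe (ng e) hne1 hne2, one_mul, add_zero, zero_sub,
      smul_eq_mul]
    exact mul_ne_zero hs (neg_ne_zero.mpr hμ)
  have hC : (ρ (x * (q * d * p)) (bB o)).1 (ng k) ≠ 0 := by
    rw [hvec, Prod.smul_fst, Pi.smul_apply]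
    show s • xactD k (ng e) 1 w.1 (ng k) ≠ 0
    rw [hxd, Pi.sub_apply, Pi.add_apply,
      Pi.single_eq_of_ne (ng_ne k), Pi.single_eq_of_ne (Ne.symm hne2), add_zero, sub_zero, smul_eq_mul]
    exact mul_ne_zero hs hμ
  have h1 := h74_lemwB_short h hD C CS ρ hρ o k (ng e) hne1 hne2 hA hB
  have h3 := h74_lemwB_short h hD C CS ρ hρ o (ng e) (ng k) (Ne.symm hne2)
    (by rw [ng_ng]; exact Ne.symm he2) h1 hC
  have h4 := Rk_E1B_L h o (ng k) k (ng e) (-1) (Or.inl (ng_ng k)) h3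
  have e5 : X k (ng e) (-1) * (x * (q * d * p)) = q * d * p := by
    rw [← mul_assoc, hx, h.long.add, neg_add_cancel, h.long.X_zero, one_mul]
  rwa [e5] at h4

theorem lemWB [Fintype ι] (h : BStAB Q0 X XS) (hD : DSt X) (C : WCalcD X) (CS : WCalcS X XS)
    (hQ0 : ∀ v, Q0 v = 0 → v = 0) (ρ : G →* Module.End K ((ι ⊕ ι → K) × V0))
    (hρ : IsActB Q0 X XS ρ) (h2 : 2 ≤ Fintype.card ι) (o k k2 : ι ⊕ ι) {g : G}
    (hR : RkB X XS o k g) (hv : (ρ g (bB o)).1 k2 ≠ 0) : RkB X XS o k2 g := by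
  by_cases hk : k2 = k
  · rw [hk]; exact hR
  by_cases hk' : k2 = ng k
  swap
  · exact h74_lemwB_short h hD C CS ρ hρ o k k2 hk hk' hR hv
  subst hk'
  by_cases hex : ∃ e, e ≠ k ∧ e ≠ ng k ∧ (ρ g (bB o)).1 e ≠ 0
  · obtain ⟨e, he1, he2, he3⟩ := hex
    have h1 := h74_lemwB_short h hD C CS ρ hρ o k e he1 he2 hR he3
    refine h74_lemwB_short h hD C CS ρ hρ o e (ng k) (Ne.symm he2) ?_ h1 hv
    intro h'
    exact he1 (ng_injective h').symm
  · push Not at hex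
    exact h74_lemwB_opp h hD C CS ρ hρ h2 o k hR hv hex

end Cfsg.Agent.Lib.Helper74_S94
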