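import Mathlib
import Cfsg.Agent.Lib.Helper74_S94_LEMW

set_option autoImplicit false
set_option linter.unusedVariables false
set_option linter.unusedSectionVars false

/-!
Package B_STEP of the market `s94_packages` (helper74): the coset relation `RRB X XS o` is stable
under left multiplication by root elements, and the abstract stabiliser of a line (type `B` / `²D`).
-/

namespace Cfsg.Agent.Lib.Helper74_S94

open Cfsg.Agent.Lib.Helper5_SteinbergA Cfsg.Agent.Lib.Helper66_S92 Cfsg.Agent.Lib.Helper66_S96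

variable {ι : Type*} [DecidableEq ι] {K : Type*} [Field K] {V0 : Type*} [AddCommGroup V0]
  [Module K V0] {G : Type*} [Group G] {Q0 : QuadraticForm K V0}
  {X : ι ⊕ ι → ι ⊕ ι → K → G} {XS : ι ⊕ ι → V0 → G}

/-- the hyperbolic part of the form vanishes on vectors without a pair of opposite nonzero
coordinates -/
theorem h74_qD_zero [Fintype ι] (w : ι ⊕ ι → K) (hw : ∀ e, w e = 0 ∨ w (ng e) = 0) : qD w = 0 := by
  unfold qD
  apply Finset.sum_eq_zero
  intro i _
  rcases hw (Sum.inl i) with h' | h'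
  · rw [h', zero_mul]
  · have : w (Sum.inr i) = 0 := h'
    rw [this, mul_zero]

/-- the vector `ρ q b_k` of `q ∈ QsB X XS (ng k)`: its `V0`-part vanishes when the hyperbolic part
has no pair of opposite nonzero coordinates -/
theorem h74_snd_zero [Fintype ι] (hQ0 : ∀ v, Q0 v = 0 → v = 0)
    (ρ : G →* Module.End K ((ι ⊕ ι → K) × V0)) (hρ : IsActB Q0 X XS ρ) (k : ι ⊕ ι) {q : G}
    (hq : q ∈ QsB X XS (ng k)) (hw : ∀ e, (ρ q (bB k)).1 e = 0 ∨ (ρ q (bB k)).1 (ng e) = 0) :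
    (ρ q (bB k)).2 = 0 := by
  apply hQ0
  have e1 : qB Q0 (ρ q (bB k)) = 0 := by
    rw [act_qB ρ hρ (h74_QsB_le_closure (ng k) hq)]
    show qD (Pi.single k (1 : K)) + Q0 (0 : V0) = 0
    rw [h74_qD_twoB k _ (by
      intro e he1 he2
      rw [Pi.single_eq_of_ne he1]), Pi.single_eq_of_ne (ng_ne k), mul_zero, map_zero, add_zero]
  unfold qB at e1
  rwa [h74_qD_zero _ hw, zero_add] at e1

/-- the step when the vector of `g` is supported on `{a, c}` and `V0`, and the pivot is `a` -/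
theorem h74_rr_stepB_aux [Fintype ι] (h : BStAB Q0 X XS) (C : WCalcD X)
    (hQ0 : ∀ v, Q0 v = 0 → v = 0)
    (ρ : G →* Module.End K ((ι ⊕ ι → K) × V0)) (hρ : IsActB Q0 X XS ρ) (o a c : ι ⊕ ι)
    (hca : c ≠ ng a) (hac : c ≠ a) (t : K) {g : G} (hR : RkB X XS o a g)
    (hsupp : ∀ e, e ≠ a → e ≠ c → (ρ g (bB o)).1 e = 0) : RkB X XS o a (X a c t * g) := by
  obtain ⟨q, hq, d, hd, p, hp, rfl⟩ := hR
  obtain ⟨s, hs, e⟩ := h74_lemwB_vec ρ hρ o a q hd hp
  rw [e] at hsupp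
  set w := ρ q (bB a) with hw
  have hwa : w.1 a = 1 := by
    have := act_QsB_ng ρ hρ (ng a) hq (bB a)
    rw [ng_ng] at this
    rw [hw, this]
    show (Pi.single a (1 : K) : ι ⊕ ι → K) a = 1
    rw [Pi.single_eq_same]
  have hwe : ∀ e, e ≠ a → e ≠ c → w.1 e = 0 := by
    intro e he1 he2
    have := hsupp e he1 he2
    rw [Prod.smul_fst, Pi.smul_apply, smul_eq_mul] at this
    exact (mul_eq_zero.mp this).resolve_left hs
  have hnca : ng c ≠ a := fun h' => hca (by rw [← h', ng_ng])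
  have hw2 : w.2 = 0 := by
    apply h74_snd_zero hQ0 ρ hρ a hq
    intro f
    by_cases he1 : f = a
    · rw [he1]
      exact Or.inr (hwe (ng a) (ng_ne a) (Ne.symm hca))
    by_cases he2 : f = c
    · rw [he2]
      exact Or.inr (hwe (ng c) hnca (ng_ne c))
    · exact Or.inl (hwe f he1 he2)
  -- moving `X a c t` across `d`
  have hfact := factD h.long C o a hd a c t (ng_ne a) (Ne.symm hca)
  have hq' : X (ng a) c (-(w.1 c)) ∈ QsB X XS (ng a) := h.X_mem_QsB (ng a) c (-(w.1 c))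
  have e2 : ρ (X (ng a) c (-(w.1 c))) (bB a) = w := by
    rw [hρ.long]
    refine Prod.ext ?_ hw2.symm
    show xactD (ng a) c (-(w.1 c)) (Pi.single a (1 : K)) = w.1
    unfold xactD
    have hc1 : c ≠ ng (ng a) := by rw [ng_ng]; exact hac
    rw [if_neg hc1]
    funext e
    by_cases he1 : e = a
    · subst he1
      simp [hwa, ne_ng, Ne.symm hac]
    by_cases he2 : e = c
    · subst he2
      simp [hac, hnca]
    · have hce : c ≠ e := Ne.symm he2
      by_cases he3 : e = ng a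
      · subst he3
        simp [hce, hwe (ng a) he1 he2, Ne.symm he1, hnca]
      · simp [he1, he2, he3, hwe e he1 he2]
  have hqe : q = X (ng a) c (-(w.1 c)) := by
    apply h74_QsB_eq_of_act h ρ hρ (ng a) hq hq'
    rw [ng_ng, e2]
  refine ⟨q, hq, d, hd, (d⁻¹ * X a c t * d) * p,
    mul_mem (GsB_le_PsB o (Gs_le_GsB o hfact)) hp, ?_⟩
  have hcomm : X a c t * q = q * X a c t := by
    rw [hqe]
    exact h.long.comm2 a c t _
  calc X a c t * (q * d * p) = (X a c t * q) * d * p := by group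
    _ = q * X a c t * d * p := by rw [hcomm]
    _ = _ := by group

/-- the pivot coordinate of the vector of `g` does not vanish -/
theorem h74_pivot_ne (ρ : G →* Module.End K ((ι ⊕ ι → K) × V0)) (hρ : IsActB Q0 X XS ρ)
    (o k : ι ⊕ ι) {g : G} (hRk : RkB X XS o k g) : (ρ g (bB o)).1 k ≠ 0 := by
  obtain ⟨q, hq, d, hd, p, hp, rfl⟩ := hRk
  obtain ⟨s, hs, e⟩ := h74_lemwB_vec ρ hρ o k q hd hp
  rw [e, Prod.smul_fst, Pi.smul_apply]
  have := act_QsB_ng ρ hρ (ng k) hq (bB k)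
  rw [ng_ng] at this
  rw [this]
  show s • (Pi.single k (1 : K) : ι ⊕ ι → K) k ≠ 0
  rw [Pi.single_eq_same, smul_eq_mul, mul_one]
  exact hs

theorem RR_stepB_L [Fintype ι] (h : BStAB Q0 X XS) (hD : DSt X) (C : WCalcD X)
    (CS : WCalcS X XS) (hQ0 : ∀ v, Q0 v = 0 → v = 0)
    (ρ : G →* Module.End K ((ι ⊕ ι → K) × V0)) (hρ : IsActB Q0 X XS ρ)
    (h2 : 2 ≤ Fintype.card ι) (o a c : ι ⊕ ι) (t : K) {g : G} (hR : RRB X XS o g) :
    RRB X XS o (X a c t * g) := by
  by_cases hca : c = ng a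
  · subst hca
    rwa [h.long.opp, one_mul]
  by_cases hac : c = a
  · subst hac
    rwa [h.long.diag, one_mul]
  obtain ⟨k, hRk⟩ := hR
  by_cases hex : ∃ k2, k2 ≠ a ∧ k2 ≠ c ∧ (ρ g (bB o)).1 k2 ≠ 0
  · obtain ⟨k2, h1, h2', h3⟩ := hex
    have hR2 := lemWB h hD C CS hQ0 ρ hρ h2 o k k2 hRk h3
    refine ⟨k2, ?_⟩
    by_cases hE : ng k2 = a ∨ ng k2 = c
    · exact Rk_E1B_L h o k2 a c t hE hR2
    · push Not at hE
      exact h74_Rk_E2B_L h C o k2 a c t h1 h2' hE.1 hE.2 hR2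
  · push Not at hex
    -- the pivot is `a` or `c`
    have hvk := h74_pivot_ne ρ hρ o k hRk
    have hk : k = a ∨ k = c := by
      by_contra hk
      push Not at hk
      exact hvk (hex k hk.1 hk.2)
    rcases hk with rfl | rfl
    · exact ⟨k, h74_rr_stepB_aux h C hQ0 ρ hρ o k c hca hac t hRk hex⟩
    · refine ⟨k, ?_⟩
      rw [h.long.anti]
      refine h74_rr_stepB_aux h C hQ0 ρ hρ o k a ?_ (Ne.symm hac) (-t) hRk
        (fun e he1 he2 => hex e he2 he1)
      intro h'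
      exact hca (by rw [h', ng_ng])

theorem RR_stepB_S [Fintype ι] (h : BStAB Q0 X XS) (hD : DSt X) (C : WCalcD X)
    (CS : WCalcS X XS) (hQ0 : ∀ v, Q0 v = 0 → v = 0)
    (ρ : G →* Module.End K ((ι ⊕ ι → K) × V0)) (hρ : IsActB Q0 X XS ρ)
    (h2 : 2 ≤ Fintype.card ι) (o a : ι ⊕ ι) (v : V0) {g : G} (hR : RRB X XS o g) :
    RRB X XS o (XS a v * g) := by
  obtain ⟨k, hRk⟩ := hR
  by_cases hex : ∃ k2, k2 ≠ a ∧ (ρ g (bB o)).1 k2 ≠ 0
  · obtain ⟨k2, h1, h3⟩ := hex
    have hR2 := lemWB h hD C CS hQ0 ρ hρ h2 o k k2 hRk h3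
    refine ⟨k2, ?_⟩
    by_cases hE : ng k2 = a
    · subst hE
      exact Rk_E1B_S o k2 v hR2
    · exact h74_Rk_E2B_S h C CS o k2 a v h1 hE hR2
  · push Not at hex
    have hvk := h74_pivot_ne ρ hρ o k hRk
    have hk : k = a := by
      by_contra hk
      exact hvk (hex k hk)
    subst hk
    refine ⟨k, ?_⟩
    obtain ⟨q, hq, d, hd, p, hp, rfl⟩ := hRk
    obtain ⟨s, hs, e⟩ := h74_lemwB_vec ρ hρ o k q hd hp
    rw [e] at hex
    set w := ρ q (bB k) with hw
    have hwk : w.1 k = 1 := by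
      have := act_QsB_ng ρ hρ (ng k) hq (bB k)
      rw [ng_ng] at this
      rw [hw, this]
      show (Pi.single k (1 : K) : ι ⊕ ι → K) k = 1
      rw [Pi.single_eq_same]
    have hwe : ∀ e, e ≠ k → w.1 e = 0 := by
      intro e he1
      have := hex e he1
      rw [Prod.smul_fst, Pi.smul_apply, smul_eq_mul] at this
      exact (mul_eq_zero.mp this).resolve_left hs
    have hw2 : w.2 = 0 := by
      apply h74_snd_zero hQ0 ρ hρ k hq
      intro f
      by_cases he1 : f = k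
      · rw [he1]
        exact Or.inr (hwe (ng k) (ng_ne k))
      · exact Or.inl (hwe f he1)
    have hq1 : q = 1 := by
      apply QsB_inj h ρ hρ (ng k) hq
      rw [ng_ng, ← hw]
      refine Prod.ext ?_ hw2
      funext e
      show w.1 e = (Pi.single k (1 : K) : ι ⊕ ι → K) e
      by_cases he1 : e = k
      · subst he1
        rw [hwk, Pi.single_eq_same]
      · rw [hwe e he1, Pi.single_eq_of_ne he1]
    have hfact := factB_S C CS o k hd k v (ng_ne k)
    refine ⟨1, one_mem _, d, hd, (d⁻¹ * XS k v * d) * p, mul_mem (GsB_le_PsB o hfact) hp, ?_⟩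
    rw [hq1]
    group

/-- the coset relation holds for all elements -/
theorem h74_RRB_all [Fintype ι] (h : BStAB Q0 X XS) (hD : DSt X) (C : WCalcD X)
    (CS : WCalcS X XS) (hQ0 : ∀ v, Q0 v = 0 → v = 0)
    (ρ : G →* Module.End K ((ι ⊕ ι → K) × V0)) (hρ : IsActB Q0 X XS ρ)
    (h2 : 2 ≤ Fintype.card ι)
    (hgen : Subgroup.closure ({g | ∃ a c t, g = X a c t} ∪ {g | ∃ a v, g = XS a v}) = ⊤)
    (o : ι ⊕ ι) (g : G) : RRB X XS o g := by
  have hg : g ∈ Subgroup.closure ({g | ∃ a c t, g = X a c t} ∪ {g | ∃ a v, g = XS a v}) := by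
    rw [hgen]; exact Subgroup.mem_top g
  induction hg using Subgroup.closure_induction_left with
  | one =>
    refine ⟨o, 1, one_mem _, 1, Or.inl ⟨rfl, rfl⟩, 1, one_mem _, ?_⟩
    rw [one_mul, one_mul]
  | mul_left x hx y _ ih =>
    rcases hx with ⟨a, c, t, rfl⟩ | ⟨a, v, rfl⟩
    · exact RR_stepB_L h hD C CS hQ0 ρ hρ h2 o a c t ih
    · exact RR_stepB_S h hD C CS hQ0 ρ hρ h2 o a v ih
  | inv_mul_cancel x hx y _ ih =>
    rcases hx with ⟨a, c, t, rfl⟩ | ⟨a, v, rfl⟩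
    · rw [h.long.X_inv]
      exact RR_stepB_L h hD C CS hQ0 ρ hρ h2 o a c (-t) ih
    · rw [h.XS_inv]
      exact RR_stepB_S h hD C CS hQ0 ρ hρ h2 o a (-v) ih

theorem stabB [Fintype ι] (h : BStAB Q0 X XS) (hD : DSt X) (C : WCalcD X) (CS : WCalcS X XS)
    (hQ0 : ∀ v, Q0 v = 0 → v = 0) (ρ : G →* Module.End K ((ι ⊕ ι → K) × V0))
    (hρ : IsActB Q0 X XS ρ) (h2 : 2 ≤ Fintype.card ι)
    (hgen : Subgroup.closure ({g | ∃ a c t, g = X a c t} ∪ {g | ∃ a v, g = XS a v}) = ⊤)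
    (o : ι ⊕ ι) (g : G) (s : K) (hs : s ≠ 0) (hg : ρ g (bB o) = s • bB o) :
    g ∈ PsB X XS o := by
  obtain ⟨k, hRk⟩ := h74_RRB_all h hD C CS hQ0 ρ hρ h2 hgen o g
  have hvk := h74_pivot_ne ρ hρ o k hRk
  have hko : k = o := by
    by_contra hko
    apply hvk
    rw [hg, Prod.smul_fst, Pi.smul_apply]
    show s • (Pi.single o (1 : K) : ι ⊕ ι → K) k = 0
    rw [Pi.single_eq_of_ne hko, smul_zero]
  subst hko
  obtain ⟨q, hq, d, hd, p, hp, rfl⟩ := hRk
  obtain ⟨s', hs', e⟩ := h74_lemwB_vec ρ hρ k k q hd hp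
  rw [e] at hg
  have hqk : (ρ q (bB k)).1 k = 1 := by
    have := act_QsB_ng ρ hρ (ng k) hq (bB k)
    rw [ng_ng] at this
    rw [this]
    show (Pi.single k (1 : K) : ι ⊕ ι → K) k = 1
    rw [Pi.single_eq_same]
  have hs1 : s' = s := by
    have := congrArg (fun x : (ι ⊕ ι → K) × V0 => x.1 k) hg
    simp only [Prod.smul_fst, Pi.smul_apply, hqk, smul_eq_mul, mul_one] at this
    rw [this]
    show s * (Pi.single k (1 : K) : ι ⊕ ι → K) k = s
    rw [Pi.single_eq_same, mul_one]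
  subst hs1
  have hg' : ρ q (bB k) = bB k := by
    have := congrArg (fun v => s'⁻¹ • v) hg
    simpa only [smul_smul, inv_mul_cancel₀ hs', one_smul] using this
  have hq1 : q = 1 := by
    apply QsB_inj h ρ hρ (ng k) hq
    rw [ng_ng, hg']
  have hd1 : d = 1 := by
    rcases hd with ⟨-, rfl⟩ | ⟨hk1, -, -⟩ | ⟨hk1, -⟩
    · rfl
    · exact absurd rfl hk1
    · exact absurd hk1 (ne_ng k)
  subst hq1 hd1
  rw [one_mul, one_mul]
  exact hp

end Cfsg.Agent.Lib.Helper74_S94
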