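import Mathlib
import Cfsg.Agent.Lib.Helper74_S94Defs2
import Cfsg.Agent.Lib.Helper66_S96Asm
import Cfsg.Agent.Lib.Helper66_S96Rank
import Cfsg.Agent.Lib.Helper5_SLPresA
import Cfsg.Agent.Lib.Helper26_S94_RESTRICT

/-!
# s94 market (helper74), package B_MAIN, core form (helper7)

The kernel of the action of a group with a Steinberg family of type `B` / `2D` over a finite field
on the natural module has at most two elements: induction on the number of indices.  Port of
`Helper46_S96_MAIN`.  The packages B_BASE1 (`ker_cases_one`) and B_KER (`ker_le_LsB`) enter as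
hypotheses `hBASE`, `hKER`; B_RESTRICT (`exists_restrictB`, landed) is imported.
-/

set_option autoImplicit false
set_option linter.unusedVariables false
set_option linter.unusedSectionVars false

namespace Cfsg.Agent.Lib.Helper74_S94

open Cfsg.Agent.Lib.Helper5_SteinbergA Cfsg.Agent.Lib.Helper5_SLPresA Cfsg.Agent.Lib.Helper66_StCalc
  Cfsg.Agent.Lib.Helper66_S92 Cfsg.Agent.Lib.Helper66_S96

theorem h7_smap_ng {ι κ : Type*} (f : κ → ι) (a : κ ⊕ κ) :
    Sum.map f f (ng a) = ng (Sum.map f f a) := by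
  cases a <;> rfl

/-- the kernel candidate of a family with values in a subgroup -/
theorem h7_coe_zS {ι κ : Type*} {L : Type*} [Field L] {G : Type*} [Group G] (M : Subgroup G)
    (f : κ → ι) (σ : L → L) (XS : ι ⊕ ι → L → G) (XS' : κ ⊕ κ → L → M)
    (hXS : ∀ a v, ((XS' a v : M) : G) = XS (Sum.map f f a) v) (a : κ ⊕ κ) :
    ((zS σ XS' a : M) : G) = zS σ XS (Sum.map f f a) := by
  unfold zS HS
  rw [Subgroup.coe_mul, Subgroup.coe_inv, WS_eq, WS_eq, WS_eq, WS_eq]
  simp only [Subgroup.coe_mul, hXS, h7_smap_ng]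

universe uι uG

/-- the induction -/
theorem h7_ker_cases_aux (K : Type*) [Field K] [Finite K] (L : Type*) [Field L] [Finite L]
    [Algebra K L] (Q0 : QuadraticForm K L) (σ : L → L) (hN : IsNrm Q0 σ)
    (hBASE : ∀ (ι : Type uι) [Fintype ι] [DecidableEq ι] (G : Type uG) [Group G]
      (X : ι ⊕ ι → ι ⊕ ι → K → G) (XS : ι ⊕ ι → L → G), BSt Q0 σ X XS →
      Subgroup.closure ({g | ∃ a c t, g = X a c t} ∪ {g | ∃ a v, g = XS a v}) = ⊤ →
      ∀ ρ : G →* Module.End K ((ι ⊕ ι → K) × L), IsActB Q0 X XS ρ →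
      Fintype.card ι = 1 → ∀ g : G, ρ g = 1 → g = 1 ∨ ∃ a, g = zS σ XS a)
    (hKER : ∀ (ι : Type uι) [Fintype ι] [DecidableEq ι] (G : Type uG) [Group G]
      (X : ι ⊕ ι → ι ⊕ ι → K → G) (XS : ι ⊕ ι → L → G), BSt Q0 σ X XS →
      ∀ ρ : G →* Module.End K ((ι ⊕ ι → K) × L), IsActB Q0 X XS ρ →
      Subgroup.closure ({g | ∃ a c t, g = X a c t} ∪ {g | ∃ a v, g = XS a v}) = ⊤ →
      2 ≤ Fintype.card ι → ∀ (o : ι ⊕ ι) (g : G), ρ g = 1 → g ∈ LsB X XS o) :
    ∀ (n : ℕ) (ι : Type uι) [Fintype ι] [DecidableEq ι], Fintype.card ι = n → 1 ≤ n →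
      ∀ (G : Type uG) [Group G] (X : ι ⊕ ι → ι ⊕ ι → K → G) (XS : ι ⊕ ι → L → G),
        BSt Q0 σ X XS →
        Subgroup.closure ({g | ∃ a c t, g = X a c t} ∪ {g | ∃ a v, g = XS a v}) = ⊤ →
        ∀ ρ : G →* Module.End K ((ι ⊕ ι → K) × L), IsActB Q0 X XS ρ → ∀ g : G, ρ g = 1 →
          g = 1 ∨ ∃ a, g = zS σ XS a := by
  intro n
  induction n with
  | zero =>
    intro ι _ _ _ h1
    omega
  | succ n ih =>
    intro ι _ _ hcard h1 G _ X XS h hgen ρ hρ g hg
    by_cases hn : n + 1 = 1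
    · exact hBASE ι G X XS h hgen ρ hρ (hcard.trans hn) g hg
    · have h2 : 2 ≤ Fintype.card ι := by omega
      have hne : Nonempty ι := Fintype.card_pos_iff.mp (by omega)
      obtain ⟨o0⟩ := hne
      have hcard' : Fintype.card {i : ι // i ≠ o0} = n := by
        have := Fintype.card_subtype_compl (fun i : ι => i = o0)
        rw [Fintype.card_subtype_eq] at this
        rw [this]
        omega
      have hL : g ∈ LsB X XS (Sum.inl o0) := hKER ι G X XS h ρ hρ hgen h2 (Sum.inl o0) g hg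
      obtain ⟨X', XS', ρ', hX', hgen', hρ', hcoe, hcoeS, hker⟩ := exists_restrictB h ρ hρ o0
      have hg' : ρ' ⟨g, hL⟩ = 1 := hker ⟨g, hL⟩ hg
      rcases ih {i : ι // i ≠ o0} hcard' (by omega) (LsB X XS (Sum.inl o0)) X' XS' hX' hgen' ρ' hρ'
        ⟨g, hL⟩ hg' with h1 | ⟨a, hz⟩
      · left
        exact congrArg Subtype.val h1
      · right
        refine ⟨Sum.map Subtype.val Subtype.val a, ?_⟩
        have := congrArg Subtype.val hz
        rw [h7_coe_zS (LsB X XS (Sum.inl o0)) Subtype.val σ XS XS' hcoeS] at this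
        exact this

end Cfsg.Agent.Lib.Helper74_S94
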