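import Mathlib
import Cfsg.Agent.Lib.Helper74_S94Defs2
import Cfsg.Agent.Lib.Helper66_S96Asm
import Cfsg.Agent.Lib.Helper66_S96Rank
import Cfsg.Agent.Lib.Helper5_SLPresA
import Cfsg.Agent.Lib.Helper17_S94_B_TS
import Cfsg.Agent.Lib.Helper52_S94_QS
import Cfsg.Agent.Lib.Helper88_S94_EVALA

set_option autoImplicit false
set_option linter.unusedVariables false
set_option linter.unusedSectionVars false

/-!
Package B_KER of helper74's `s94_packages` market (S2094 / S2099), hypothesis form: the kernel of the action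
lies in the Levi factor `LsB X XS o`, with the conclusions of `stabB` (B_STEP), `torus_fixB` (B_TL) and
`GsB_eq` (B_NORM) at the index `o` as hypotheses.  Port of `Helper46_S96_KER`.
-/

namespace Cfsg.Agent.Lib.Helper74_S94

open Cfsg.Agent.Lib.Helper5_SteinbergA Cfsg.Agent.Lib.Helper5_SLPresA Cfsg.Agent.Lib.Helper66_StCalc
  Cfsg.Agent.Lib.Helper66_S92 Cfsg.Agent.Lib.Helper66_S96

section generic

variable {ι : Type*} [DecidableEq ι] {K : Type*} [Field K] {V0 : Type*} [AddCommGroup V0]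
  [Module K V0] {G : Type*} [Group G] {Q0 : QuadraticForm K V0}
  {X : ι ⊕ ι → ι ⊕ ι → K → G} {XS : ι ⊕ ι → V0 → G}

/-- `ker_le_LsB` with the conclusions of `stabB`, `torus_fixB`, `GsB_eq` at `o` as hypotheses -/
theorem h88_ker_le_LsB_aux [Fintype ι] (h : BStAB Q0 X XS) (C : WCalcD X) (CS : WCalcS X XS)
    (ρ : G →* Module.End K ((ι ⊕ ι → K) × V0)) (hρ : IsActB Q0 X XS ρ) (o : ι ⊕ ι)
    (hstab : ∀ (g : G) (s : K), s ≠ 0 → ρ g (bB o) = s • bB o → g ∈ PsB X XS o)
    (htor : ∀ {t : G}, t ∈ Ts X → ρ t (bB o) = bB o → t ∈ GsB X XS o)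
    (hGs : ∀ {g : G}, g ∈ GsB X XS o → ∃ q ∈ QsB X XS o, ∃ l ∈ LsB X XS o, g = q * l)
    (g : G) (hg : ρ g = 1) : g ∈ LsB X XS o := by
  have hgp : g ∈ PsB X XS o := by
    apply hstab g 1 one_ne_zero
    rw [hg, Module.End.one_apply, one_smul]
  obtain ⟨γ, hγ, t, ht, rfl⟩ := PsB_eq C CS o hgp
  have htfix : ρ t (bB o) = bB o := by
    have h1 := congrArg (fun f => f (bB o)) hg
    simp only [map_mul, Module.End.mul_apply, Module.End.one_apply] at h1
    have hγinv : ρ γ⁻¹ (bB o) = bB o :=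
      act_GsB ρ hρ o ((GsB X XS o).inv_mem hγ)
    calc ρ t (bB o) = ρ γ⁻¹ (ρ γ (ρ t (bB o))) := by
          rw [← Module.End.mul_apply, ← map_mul, inv_mul_cancel, map_one, Module.End.one_apply]
      _ = ρ γ⁻¹ (bB o) := by rw [h1]
      _ = bB o := hγinv
  have htG : t ∈ GsB X XS o := htor ht htfix
  have hgs : γ * t ∈ GsB X XS o := (GsB X XS o).mul_mem hγ htG
  obtain ⟨q, hq, l, hl, hql⟩ := hGs hgs
  have hq1 : q = 1 := by
    apply QsB_inj h ρ hρ o hq
    have h1 := congrArg (fun f => f (bB (ng o))) hg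
    rw [hql] at h1
    simp only [map_mul, Module.End.mul_apply, Module.End.one_apply] at h1
    rwa [act_LsB ρ hρ o hl] at h1
  rw [hql, hq1, one_mul]
  exact hl

end generic

end Cfsg.Agent.Lib.Helper74_S94
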