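import Mathlib
import Cfsg.Agent.Lib.Helper74_S94Defs2
import Cfsg.Agent.Lib.Helper74_S94Calc
import Cfsg.Agent.Lib.Helper66_S96Asm
import Cfsg.Agent.Lib.Helper17_S96_TL

set_option autoImplicit false
set_option linter.unusedVariables false
set_option linter.unusedSectionVars false

/-!
Package `B_TL` of helper74's market `s94_packages` (S2094 / S2099), helper96: a long torus element fixing `b_o` lies in
`GsB X XS o` (two indices suffice, by the `B₂` torus relation `t1S`).  AUX form: the statements of the packages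
`B_T1S` (`t1S`), `B_RANKS` (`HS_mem_LsB`), `B_EVAL_A` (`act_GsB`), `B_EVAL_B` (`act_HDB`) are hypotheses.
Port of `Helper17_S96_TL`: every `t ∈ Ts X` is `HD X o j s₁ * HD X o (ng j) s₂ * t'` with `t' ∈ Tso X o`.
-/

namespace Cfsg.Agent.Lib.Helper74_S94

open Cfsg.Agent.Lib.Helper5_SteinbergA Cfsg.Agent.Lib.Helper66_StCalc
  Cfsg.Agent.Lib.Helper66_S92 Cfsg.Agent.Lib.Helper66_S96

section long

variable {ι : Type*} [DecidableEq ι] {K : Type*} [Field K] {G : Type*} [Group G]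
  {X : ι ⊕ ι → ι ⊕ ι → K → G}

/-- the form `HD X o j s₁ * HD X o (ng j) s₂ * t'` with `t'` in the torus of the Levi factor -/
def h96_P (X : ι ⊕ ι → ι ⊕ ι → K → G) (o j : ι ⊕ ι) (t : G) : Prop :=
  ∃ s1 s2 : K, s1 ≠ 0 ∧ s2 ≠ 0 ∧ ∃ t' ∈ Tso X o, t = HD X o j s1 * HD X o (ng j) s2 * t'

/-- the generators `HD X o c u` -/
theorem h96_P_gen_o (C : WCalcD X) (o j : ι ⊕ ι) (hj : h17_idx j ≠ h17_idx o) (c : ι ⊕ ι)
    (hc : h17_idx c ≠ h17_idx o) (u : K) (hu : u ≠ 0) : h96_P X o j (HD X o c u) := by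
  obtain ⟨hj1, hj2⟩ := h17_ne_of_idx hj
  obtain ⟨hc1, hc2⟩ := h17_ne_of_idx hc
  have hoj1 : o ≠ j := hj1.symm
  have hoj2 : o ≠ ng j := fun e => hj2 (by rw [e, ng_ng])
  by_cases hcj : h17_idx c = h17_idx j
  · by_cases hcj0 : c = j
    · subst hcj0
      exact ⟨u, 1, hu, one_ne_zero, 1, one_mem _, by rw [HD_one, mul_one, mul_one]⟩
    · have hcj' : c = ng j := by
        cases c <;> cases j <;> simp_all [h17_idx, ng]
      subst hcj'
      exact ⟨1, u, one_ne_zero, hu, 1, one_mem _, by rw [HD_one, one_mul, mul_one]⟩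
  · obtain ⟨hcj1, hcj2⟩ := h17_ne_of_idx hcj
    have gen : HD X o c u = HD X o j u * HD X (ng j) c u := by
      rw [C.hd_symm j o hoj1 hoj2 u hu]
      exact (C.t1 j o c hoj1 hoj2 hcj1 hcj2 hc1 hc2 u hu).symm
    have memTso : HD X (ng j) c u ∈ Tso X o := by
      refine HD_mem_Tso o (ng j) c u ?_ ?_ ?_ ?_ hc1 hc2 hu
      · exact hcj2
      · rw [ng_ng]; exact hcj1
      · exact fun e => hoj2 e.symm
      · exact fun e => hj1 (ng_injective e)
    exact ⟨u, 1, hu, one_ne_zero, _, memTso, by rw [HD_one, mul_one]; exact gen⟩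

theorem h96_P_all (C : WCalcD X) (o j : ι ⊕ ι) (hj : h17_idx j ≠ h17_idx o) {t : G}
    (ht : t ∈ Ts X) : h96_P X o j t := by
  obtain ⟨hj1, hj2⟩ := h17_ne_of_idx hj
  have hj1' : ng j ≠ o := fun e => hj2 (by rw [← e, ng_ng])
  have hj2' : ng j ≠ ng o := fun e => hj1 (ng_injective e)
  have hA : ∀ s : K, s ≠ 0 → HD X o j s ∈ Ts X := fun s hs => HD_mem_Ts o j s hj1 hj2 hs
  have hB : ∀ s : K, s ≠ 0 → HD X o (ng j) s ∈ Ts X :=
    fun s hs => HD_mem_Ts o (ng j) s hj1' hj2' hs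
  unfold Ts at ht
  induction ht using Subgroup.closure_induction with
  | mem x hx =>
    obtain ⟨a, c, u, h1, h2, hu, rfl⟩ := hx
    have key : ∀ (a c : ι ⊕ ι) (u : K), u ≠ 0 → c ≠ a → c ≠ ng a →
        (a = o ∨ a = ng o) → h96_P X o j (HD X a c u) := by
      intro a c u hu h1 h2 ha
      rcases ha with rfl | rfl
      · exact h96_P_gen_o C a j hj c (h17_idx_eq h1 h2) u hu
      · have h1' : ng c ≠ o := fun e => h1 (by rw [← e, ng_ng])
        have h2' : ng c ≠ ng o := fun e => h2 (by rw [ng_ng]; exact ng_injective e)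
        have e := C.hd_ng o (ng c) h1' h2' u hu
        rw [ng_ng] at e
        rw [e]
        refine h96_P_gen_o C o j hj (ng c) ?_ u⁻¹ (inv_ne_zero hu)
        rw [h17_idx_ng]
        have := h17_idx_eq h1 h2
        rwa [h17_idx_ng] at this
    by_cases ha : a = o ∨ a = ng o
    · exact key a c u hu h1 h2 ha
    · by_cases hc : c = o ∨ c = ng o
      · rw [C.hd_symm c a (Ne.symm h1) (fun e => h2 (by rw [e, ng_ng])) u hu]
        exact key c a u hu (Ne.symm h1) (fun e => h2 (by rw [e, ng_ng])) hc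
      · push Not at ha hc
        exact ⟨1, 1, one_ne_zero, one_ne_zero, HD X a c u,
          HD_mem_Tso o a c u h1 h2 ha.1 ha.2 hc.1 hc.2 hu, by rw [HD_one, HD_one, one_mul, one_mul]⟩
  | one =>
    exact ⟨1, 1, one_ne_zero, one_ne_zero, 1, one_mem _, by rw [HD_one, HD_one, one_mul, one_mul]⟩
  | mul x y _ _ hx hy =>
    obtain ⟨s1, s2, hs1, hs2, t1, ht1, rfl⟩ := hx
    obtain ⟨r1, r2, hr1, hr2, t2, ht2, rfl⟩ := hy
    refine ⟨s1 * r1, s2 * r2, mul_ne_zero hs1 hr1, mul_ne_zero hs2 hr2, t1 * t2,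
      (Tso X o).mul_mem ht1 ht2, ?_⟩
    rw [← C.hd_mul o j hj1 hj2 s1 r1 hs1 hr1, ← C.hd_mul o (ng j) hj1' hj2' s2 r2 hs2 hr2]
    have e1 := Ts_comm C (Tso_le_Ts o ht1) ((Ts X).mul_mem (hA r1 hr1) (hB r2 hr2))
    have e2 := Ts_comm C (hB s2 hs2) (hA r1 hr1)
    calc HD X o j s1 * HD X o (ng j) s2 * t1 * (HD X o j r1 * HD X o (ng j) r2 * t2)
        = HD X o j s1 * HD X o (ng j) s2 * (t1 * (HD X o j r1 * HD X o (ng j) r2)) * t2 := by group
      _ = HD X o j s1 * HD X o (ng j) s2 * ((HD X o j r1 * HD X o (ng j) r2) * t1) * t2 := by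
          rw [e1]
      _ = HD X o j s1 * (HD X o (ng j) s2 * HD X o j r1) * HD X o (ng j) r2 * (t1 * t2) := by group
      _ = HD X o j s1 * (HD X o j r1 * HD X o (ng j) s2) * HD X o (ng j) r2 * (t1 * t2) := by
          rw [e2]
      _ = HD X o j s1 * HD X o j r1 * (HD X o (ng j) s2 * HD X o (ng j) r2) * (t1 * t2) := by group
  | inv x _ hx =>
    obtain ⟨s1, s2, hs1, hs2, t1, ht1, rfl⟩ := hx
    refine ⟨s1⁻¹, s2⁻¹, inv_ne_zero hs1, inv_ne_zero hs2, t1⁻¹, (Tso X o).inv_mem ht1, ?_⟩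
    rw [← h17_hd_inv C o j hj1 hj2 s1 hs1, ← h17_hd_inv C o (ng j) hj1' hj2' s2 hs2]
    have e1 := Ts_comm C (Tso_le_Ts o ht1) ((Ts X).mul_mem (hA s1 hs1) (hB s2 hs2))
    have e2 := Ts_comm C (hB s2 hs2) (hA s1 hs1)
    have e3 : HD X o j s1 * HD X o (ng j) s2 * t1 = t1 * HD X o (ng j) s2 * HD X o j s1 := by
      rw [← e1, mul_assoc t1, e2]
    rw [e3, mul_inv_rev, mul_inv_rev, mul_assoc]

end long

section field

variable {ι : Type*} [DecidableEq ι] {K : Type*} [Field K] {L : Type*} [Field L] [Algebra K L]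
  {G : Type*} [Group G] {Q0 : QuadraticForm K L} {σ : L → L}
  {X : ι ⊕ ι → ι ⊕ ι → K → G} {XS : ι ⊕ ι → L → G}

/-- `torus_fixB` with the statements of `t1S`, `HS_mem_LsB`, `act_GsB`, `act_HDB` as hypotheses -/
theorem torus_fixB_aux [Fintype ι] [Finite K] (h : BSt Q0 σ X XS)
    (ρ : G →* Module.End K ((ι ⊕ ι → K) × L))
    (hT1S : ∀ o j : ι ⊕ ι, j ≠ o → j ≠ ng o → ∀ s : K, s ≠ 0 →
      HS σ XS j (algebraMap K L s) = HD X (ng o) j s * HD X o j s)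
    (hHS : ∀ (o a : ι ⊕ ι) (w : L), a ≠ o → a ≠ ng o → HS σ XS a w ∈ LsB X XS o)
    (hactG : ∀ (o : ι ⊕ ι) {g : G}, g ∈ GsB X XS o → ρ g (bB o) = bB o)
    (hactH : ∀ a c : ι ⊕ ι, c ≠ a → c ≠ ng a → ∀ s : K, s ≠ 0 → ∀ d : ι ⊕ ι,
      ρ (HD X a c s) (bB d) = chD a c s d • bB d)
    (h2 : 2 ≤ Fintype.card ι) (o : ι ⊕ ι) {t : G} (ht : t ∈ Ts X)
    (hfix : ρ t (bB o) = bB o) : t ∈ GsB X XS o := by
  have hD : DSt X := ⟨h.long, h.rank1⟩
  have C : WCalcD X := wCalcD_of_dSt hD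
  -- a second index
  obtain ⟨j1, hj1⟩ : ∃ j1 : ι, j1 ≠ h17_idx o :=
    Fintype.exists_ne_of_one_lt_card (by omega) _
  have hj : h17_idx (Sum.inl j1 : ι ⊕ ι) ≠ h17_idx o := hj1
  obtain ⟨hjo1, hjo2⟩ := h17_ne_of_idx hj
  have hjo1' : ng (Sum.inl j1 : ι ⊕ ι) ≠ o := fun e => hjo2 (by rw [← e, ng_ng])
  have hjo2' : ng (Sum.inl j1 : ι ⊕ ι) ≠ ng o := fun e => hjo1 (ng_injective e)
  obtain ⟨s1, s2, hs1, hs2, t', ht', rfl⟩ := h96_P_all C o (Sum.inl j1) hj ht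
  have ht'G : t' ∈ GsB X XS o := LsB_le_GsB o (Ls_le_LsB o (h17_Tso_le_Ls o ht'))
  have e1 : ρ t' (bB o) = bB o := hactG o ht'G
  have e2 := hactH o (ng (Sum.inl j1)) hjo1' hjo2' s2 hs2 o
  have e3 := hactH o (Sum.inl j1) hjo1 hjo2 s1 hs1 o
  have c2 : chD o (ng (Sum.inl j1)) s2 o = s2 := by
    unfold chD
    rw [if_pos (Or.inl rfl)]
  have c1 : chD o (Sum.inl j1) s1 o = s1 := by
    unfold chD
    rw [if_pos (Or.inl rfl)]
  rw [c2] at e2
  rw [c1] at e3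
  rw [map_mul, map_mul, Module.End.mul_apply, Module.End.mul_apply, e1, e2, map_smul, e3] at hfix
  have e4 := congrFun (congrArg Prod.fst hfix) o
  unfold bB at e4
  simp only [Prod.smul_fst, Pi.smul_apply, Pi.single_eq_same, smul_eq_mul, mul_one] at e4
  -- `s2 = s1⁻¹`
  have hs21 : s2 = s1⁻¹ := eq_inv_of_mul_eq_one_left e4
  subst hs21
  -- `HD X o (ng j) s1⁻¹ = HD X (ng o) j s1`
  have e5 := C.hd_ng o (ng (Sum.inl j1)) hjo1' hjo2' s1 hs1
  rw [ng_ng] at e5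
  rw [← e5]
  have e6 := hT1S o (Sum.inl j1) hjo1 hjo2 s1 hs1
  have e7 := Ts_comm C (HD_mem_Ts o (Sum.inl j1) s1 hjo1 hjo2 hs1)
    (HD_mem_Ts (ng o) (Sum.inl j1) s1 (fun e => hjo2 e) (by rw [ng_ng]; exact hjo1) hs1)
  rw [e7, ← e6]
  exact (GsB X XS o).mul_mem (LsB_le_GsB o (hHS o (Sum.inl j1) _ hjo1 hjo2)) ht'G

end field

end Cfsg.Agent.Lib.Helper74_S94
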