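import Mathlib
import Cfsg.Agent.Lib.Helper74_S94Defs2
import Cfsg.Agent.Lib.Helper66_S96Asm
import Cfsg.Agent.Lib.Helper66_S96Rank
import Cfsg.Agent.Lib.Helper5_SLPresA
import Cfsg.Agent.Lib.Helper74_S94_RANKS

set_option autoImplicit false
set_option linter.unusedVariables false
set_option linter.unusedSectionVars false

/-!
Package B_T1S of the market `s94_packages` (helper9, for helper74): the torus relation of type `B₂`,
`HS j s = HD (ng o) j s * HD o j s` for `s ∈ K`, in the form with the statements of `wsL1`, `wsL2`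
(package B_WSL) and `WCalcS` (package B_WCALCS) as hypotheses.
-/

namespace Cfsg.Agent.Lib.Helper74_S94

open Cfsg.Agent.Lib.Helper5_SteinbergA Cfsg.Agent.Lib.Helper5_SLPresA Cfsg.Agent.Lib.Helper66_StCalc
  Cfsg.Agent.Lib.Helper66_S92 Cfsg.Agent.Lib.Helper66_S96

section field

variable {ι : Type*} [DecidableEq ι] {K : Type*} [Field K] {L : Type*} [Field L] [Algebra K L]
  {G : Type*} [Group G] {Q0 : QuadraticForm K L} {σ : L → L}
  {X : ι ⊕ ι → ι ⊕ ι → K → G} {XS : ι ⊕ ι → L → G}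

theorem h9_Q0_one (hN : IsNrm Q0 σ) : Q0 (1 : L) = 1 := by
  have e := hN.nrm 1
  rw [hN.map_one, mul_one] at e
  exact (algebraMap K L).injective (by rw [e, map_one])

theorem h9_conj3 (n a b c : G) : n * (a * b * c) * n⁻¹ = (n * a * n⁻¹) * (n * b * n⁻¹) * (n * c * n⁻¹) := by
  group

/-- the form of `t1S` with the dependencies as hypotheses -/
theorem h9_t1S_aux [Finite K] [Finite L] (h : BSt Q0 σ X XS) (hN : IsNrm Q0 σ)
    (hL1 : ∀ (a c : ι ⊕ ι) (w : L), Q0 w ≠ 0 → ∀ t : K, c ≠ a → c ≠ ng a →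
      WSg Q0 XS a w * X a c t * (WSg Q0 XS a w)⁻¹ = X (ng a) c (-((Q0 w)⁻¹ * t)))
    (hL2 : ∀ (a c : ι ⊕ ι) (w : L), Q0 w ≠ 0 → ∀ t : K, c ≠ a → c ≠ ng a →
      WSg Q0 XS a w * X (ng a) c t * (WSg Q0 XS a w)⁻¹ = X a c (-(Q0 w * t)))
    (CS : WCalcS X XS)
    (o j : ι ⊕ ι) (h1 : j ≠ o) (h2 : j ≠ ng o) (s : K) (hs : s ≠ 0) :
    HS σ XS j (algebraMap K L s) = HD X (ng o) j s * HD X o j s := by
  have hD : DSt X := ⟨h.long, h.rank1⟩
  have C : WCalcD X := wCalcD_of_dSt hD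
  have hq1 : Q0 (1 : L) = 1 := h9_Q0_one hN
  have hq1' : Q0 (1 : L) ≠ 0 := by rw [hq1]; exact one_ne_zero
  -- index facts
  have oj : o ≠ j := fun e => h1 e.symm
  have onj : o ≠ ng j := fun e => h2 (by rw [e, ng_ng])
  have noj : ng o ≠ j := fun e => h2 e.symm
  have nonj : ng o ≠ ng j := fun e => oj (ng_injective e)
  have njo : ng j ≠ o := fun e => onj e.symm
  have njno : ng j ≠ ng o := fun e => nonj e.symm
  -- the general statement for a nonzero parameter
  have key : ∀ r : K, r ≠ 0 →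
      HS σ XS j (algebraMap K L r⁻¹) = HD X o j r⁻¹ * HD X o (ng j) r := by
    intro r hr
    have hri : r⁻¹ ≠ 0 := inv_ne_zero hr
    obtain ⟨n, hn⟩ : ∃ n : G, n = WS σ XS j 1 := ⟨_, rfl⟩
    have hn' : n = WSg Q0 XS j 1 := by rw [hn, WS_eq_WSg hN j 1 one_ne_zero]
    -- conjugation of the long root elements by `n`
    have c1 : ∀ t : K, n * X o j t * n⁻¹ = X o (ng j) (-t) := by
      intro t
      rw [h.long.anti j o t, hn', hL1 j o 1 hq1' (-t) oj onj, hq1, inv_one, one_mul, neg_neg]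
      exact h.long.anti o (ng j) t
    have c2 : ∀ t : K, n * X (ng o) (ng j) t * n⁻¹ = X (ng o) j (-t) := by
      intro t
      rw [h.long.anti (ng j) (ng o) t, hn', hL2 j (ng o) 1 hq1' (-t) noj nonj, hq1, one_mul, neg_neg]
      exact h.long.anti (ng o) j t
    have c3 : ∀ t : K, n * WD X o j t * n⁻¹ = WD X o (ng j) (-t) := by
      intro t
      rw [WD_eq, WD_eq, h9_conj3, c1, c2, ng_ng, inv_neg]
    have c4 : n * HD X o j r * n⁻¹ = HD X o (ng j) r := by
      have e : n * HD X o j r * n⁻¹ = (n * WD X o j r * n⁻¹) * (n * WD X o j 1 * n⁻¹)⁻¹ := by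
        unfold HD; group
      rw [e, c3, c3, C.wd_mul_inv o (ng j) njo njno (-r) (-1) (neg_ne_zero.mpr hr)
        (neg_ne_zero.mpr one_ne_zero), inv_neg, inv_one, neg_mul_neg, mul_one]
    -- conjugation of `n` by the torus element
    have hinv : (HD X o j r)⁻¹ = HD X o j r⁻¹ := hD.hd_inv o j h1 h2 r hr
    have d1 : ∀ (d : ι ⊕ ι) (v : L), (HD X o j r)⁻¹ * XS d v * HD X o j r =
        XS d (chD o j r⁻¹ d • v) := by
      intro d v
      have := CS.hd_conjS o j h1 h2 r⁻¹ hri d v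
      rw [← hinv, inv_inv] at this
      exact this
    have ch1 : chD o j r⁻¹ j = r⁻¹ := by
      unfold chD
      rw [if_pos (Or.inr rfl)]
    have ch2 : chD o j r⁻¹ (ng j) = r := by
      unfold chD
      rw [if_neg (by rintro (e | e); exacts [njo e, ng_ne j e]), if_pos (Or.inr rfl), inv_inv]
    have d2 : (HD X o j r)⁻¹ * n * HD X o j r = WS σ XS j (algebraMap K L r⁻¹) := by
      have e : (HD X o j r)⁻¹ * n * HD X o j r =
          ((HD X o j r)⁻¹ * XS j 1 * HD X o j r) *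
          ((HD X o j r)⁻¹ * XS (ng j) (-σ (-(1 : L)⁻¹)) * HD X o j r) *
          ((HD X o j r)⁻¹ * XS j 1 * HD X o j r) := by
        rw [hn, WS_eq]; group
      rw [e, d1, d1, ch1, ch2, WS_eq]
      have e1 : r⁻¹ • (1 : L) = algebraMap K L r⁻¹ := by
        rw [Algebra.smul_def, mul_one]
      have e2 : r • (-σ (-(1 : L)⁻¹)) = -σ (-(algebraMap K L r⁻¹)⁻¹) := by
        rw [inv_one, hN.map_neg, hN.map_one, neg_neg, Algebra.smul_def, mul_one, map_inv₀, inv_inv,
          hN.map_neg, hN.fix, neg_neg]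
      rw [e1, e2]
    -- assemble
    have e3 : HS σ XS j (algebraMap K L r⁻¹) = (HD X o j r)⁻¹ * (n * HD X o j r * n⁻¹) := by
      unfold HS
      rw [← d2, ← hn]
      group
    rw [e3, c4, hinv]
  have k := key s⁻¹ (inv_ne_zero hs)
  rw [inv_inv] at k
  rw [k]
  have e4 : HD X o (ng j) s⁻¹ = HD X (ng o) j s := by
    have := hD.hd_ng o (ng j) njo njno s hs
    rw [ng_ng] at this
    exact this.symm
  rw [e4]
  exact C.hh_comm o j h1 h2 s hs (ng o) j (fun e => noj e.symm) (by rw [ng_ng]; exact h1) s hs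

end field

end Cfsg.Agent.Lib.Helper74_S94
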