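import Mathlib
import Cfsg.Agent.Lib.Helper74_S94Defs2
import Cfsg.Agent.Lib.Helper66_S96Asm
import Cfsg.Agent.Lib.Helper66_S96Rank
import Cfsg.Agent.Lib.Helper5_SLPresA
import Cfsg.Agent.Lib.Helper9_S94_T1Saux
import Cfsg.Agent.Lib.Helper30_S94_WSL
import Cfsg.Agent.Lib.Helper77_S94_WCJS_A
import Cfsg.Agent.Lib.Helper77_S94_WCJS_B
import Cfsg.Agent.Lib.Helper78_S94_WCALCSaux

set_option autoImplicit false
set_option linter.unusedVariables false
set_option linter.unusedSectionVars false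

/-!
Package B_T1S of the market `s94_packages` (helper9, for helper74): the torus relation of type `B₂`,
`HS j s = HD (ng o) j s * HD o j s` for `s ∈ K` (verbatim statement).
-/

namespace Cfsg.Agent.Lib.Helper74_S94

open Cfsg.Agent.Lib.Helper5_SteinbergA Cfsg.Agent.Lib.Helper5_SLPresA Cfsg.Agent.Lib.Helper66_StCalc
  Cfsg.Agent.Lib.Helper66_S92 Cfsg.Agent.Lib.Helper66_S96

section field

variable {ι : Type*} [DecidableEq ι] {K : Type*} [Field K] {L : Type*} [Field L] [Algebra K L]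
  {G : Type*} [Group G] {Q0 : QuadraticForm K L} {σ : L → L}
  {X : ι ⊕ ι → ι ⊕ ι → K → G} {XS : ι ⊕ ι → L → G}

/-- `WCalcS` from the landed packages B_WCJS_A, B_WCJS_B and the core of B_WCALCS -/
theorem h9_wCalcS (h : BStAB Q0 X XS) (hD : DSt X) : WCalcS X XS :=
  h78_wCalcS_aux hD
    (fun a c d s v hd1 hd2 hd3 hd4 => wcjS_out h a c d s v hd1 hd2 hd3 hd4)
    (fun a c s v hs h1 h2 => wcjS_1 h a c s v hs h1 h2)
    (fun a c s v hs h1 h2 => wcjS_2 h a c s v hs h1 h2)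
    (fun a c s v hs h1 h2 => wcjS_3 h a c s v hs h1 h2)
    (fun a c s v hs h1 h2 => wcjS_4 h a c s v hs h1 h2)

theorem t1S [Finite K] [Finite L] (h : BSt Q0 σ X XS) (hN : IsNrm Q0 σ) (o j : ι ⊕ ι) (h1 : j ≠ o)
    (h2 : j ≠ ng o) (s : K) (hs : s ≠ 0) :
    HS σ XS j (algebraMap K L s) = HD X (ng o) j s * HD X o j s :=
  h9_t1S_aux h hN
    (fun a c w hw t h1 h2 => wsL1 h.toBStAB a c w hw t h1 h2)
    (fun a c w hw t h1 h2 => wsL2 h.toBStAB a c w hw t h1 h2)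
    (h9_wCalcS h.toBStAB ⟨h.long, h.rank1⟩) o j h1 h2 s hs

end field

end Cfsg.Agent.Lib.Helper74_S94
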