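import Mathlib
import Cfsg.Agent.Lib.Helper74_S94_STEP
import Cfsg.Agent.Lib.Helper9_S94_T1S
import Cfsg.Agent.Lib.Helper96_S94_TLaux
import Cfsg.Agent.Lib.Helper88_S94_KERaux
import Cfsg.Agent.Lib.Helper7_S94_MAINaux
import Cfsg.Agent.Lib.Helper20_S94_BASE1
import Cfsg.Agent.Lib.Helper17_S94_B_TS

set_option autoImplicit false
set_option linter.unusedVariables false
set_option linter.unusedSectionVars false

/-!
Assembly of the presentation theorem of type `B` / `²D` (market `s94_packages`, helper74) from the landed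
packages, under private names (`h74_*`): the verbatim names `torus_fixB`, `ker_le_LsB`, `ker_cases_of_bSt`
belong to the package holders (helper96, helper88, helper7).
-/

namespace Cfsg.Agent.Lib.Helper74_S94

open Cfsg.Agent.Lib.Helper5_SteinbergA Cfsg.Agent.Lib.Helper5_SLPresA Cfsg.Agent.Lib.Helper66_StCalc
  Cfsg.Agent.Lib.Helper66_S92 Cfsg.Agent.Lib.Helper66_S96

section field

variable {ι : Type*} [DecidableEq ι] {K : Type*} [Field K] {L : Type*} [Field L] [Algebra K L]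
  {G : Type*} [Group G] {Q0 : QuadraticForm K L} {σ : L → L}
  {X : ι ⊕ ι → ι ⊕ ι → K → G} {XS : ι ⊕ ι → L → G}

theorem h74_torus_fixB [Fintype ι] [Finite K] [Finite L] (h : BSt Q0 σ X XS) (hN : IsNrm Q0 σ)
    (ρ : G →* Module.End K ((ι ⊕ ι → K) × L)) (hρ : IsActB Q0 X XS ρ)
    (h2 : 2 ≤ Fintype.card ι) (o : ι ⊕ ι) {t : G} (ht : t ∈ Ts X)
    (hfix : ρ t (bB o) = bB o) : t ∈ GsB X XS o :=
  torus_fixB_aux h ρ (fun o j h1 h2 s hs => t1S h hN o j h1 h2 s hs)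
    (fun o a w ha ha2 => HS_mem_LsB o a w ha ha2) (fun o g hg => act_GsB ρ hρ o hg)
    (fun a c h1 h2 s hs d => act_HDB ρ hρ a c h1 h2 s hs d) h2 o ht hfix

theorem h74_ker_le_LsB [Fintype ι] [Finite K] [Finite L] (h : BSt Q0 σ X XS) (hN : IsNrm Q0 σ)
    (ρ : G →* Module.End K ((ι ⊕ ι → K) × L)) (hρ : IsActB Q0 X XS ρ)
    (hgen : Subgroup.closure ({g | ∃ a c t, g = X a c t} ∪ {g | ∃ a v, g = XS a v}) = ⊤)
    (h2 : 2 ≤ Fintype.card ι) (o : ι ⊕ ι) (g : G) (hg : ρ g = 1) : g ∈ LsB X XS o := by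
  have hD : DSt X := ⟨h.long, h.rank1⟩
  have C : WCalcD X := wCalcD_of_dSt hD
  have CS : WCalcS X XS := h9_wCalcS h.toBStAB hD
  exact h88_ker_le_LsB_aux h.toBStAB C CS ρ hρ o
    (fun g s hs hg => stabB h.toBStAB hD C CS hN.aniso ρ hρ h2 hgen o g s hs hg)
    (fun ht hfix => h74_torus_fixB h hN ρ hρ h2 o ht hfix)
    (fun hg => GsB_eq h.toBStAB o hg) g hg

end field

theorem h74_ker_cases_of_bSt {K : Type*} [Field K] [Finite K] {L : Type*} [Field L] [Finite L]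
    [Algebra K L] {ι : Type*} [Fintype ι] [DecidableEq ι] (h1 : 1 ≤ Fintype.card ι)
    {G : Type*} [Group G] {Q0 : QuadraticForm K L} {σ : L → L} (hN : IsNrm Q0 σ)
    {X : ι ⊕ ι → ι ⊕ ι → K → G} {XS : ι ⊕ ι → L → G} (h : BSt Q0 σ X XS)
    (hgen : Subgroup.closure ({g | ∃ a c t, g = X a c t} ∪ {g | ∃ a v, g = XS a v}) = ⊤)
    (ρ : G →* Module.End K ((ι ⊕ ι → K) × L)) (hρ : IsActB Q0 X XS ρ) (g : G) (hg : ρ g = 1) :
    g = 1 ∨ ∃ a, g = zS σ XS a :=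
  h7_ker_cases_aux K L Q0 σ hN
    (fun ι _ _ G _ X XS h hgen ρ hρ h1 g hg => ker_cases_one h hN hgen ρ hρ h1 g hg)
    (fun ι _ _ G _ X XS h ρ hρ hgen h2 o g hg => h74_ker_le_LsB h hN ρ hρ hgen h2 o g hg)
    (Fintype.card ι) ι rfl h1 G X XS h hgen ρ hρ g hg

end Cfsg.Agent.Lib.Helper74_S94
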