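import Mathlib
import Cfsg.Agent.Lib.Helper66_S94CoverDefs

set_option autoImplicit false
set_option linter.unusedVariables false

/-!
helper89 — package B_COV2 of helper66's market `s96_packages` (COVER block of S2094 / S2099):
the short torus element `zS σ YS a = HS a (-1)` equals `-1` in a Clifford system, when the short
root elements are `YS a v = 1 + e a * ε v`.
-/

namespace Cfsg.Agent.Lib.Helper66_S94

open Cfsg.Agent.Lib.Helper5_SteinbergA Cfsg.Agent.Lib.Helper66_S92 Cfsg.Agent.Lib.Helper66_S96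
  Cfsg.Agent.Lib.Helper74_S94

/-- the ring computation: with `u² = u'² = 0` and `u u' + u' u = -1` one has
`(1 + u)(1 + u')(1 + u) = u + u'` -/
theorem h89_w_eq {A : Type*} [Ring A] {u u' : A} (hu : u * u = 0) (hs : u * u' + u' * u = -1) :
    (1 + u) * (1 + u') * (1 + u) = u + u' := by
  have h1 : u' * u = -1 - u * u' := by rw [← hs]; abel
  have h3 : u * u' * u = -u := by
    rw [mul_assoc, h1, mul_sub, mul_neg, mul_one, ← mul_assoc, hu, zero_mul, sub_zero]
  calc (1 + u) * (1 + u') * (1 + u)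
      = 1 + u + u + u' + (u * u' + u' * u) + u * u + u * u' * u := by noncomm_ring
    _ = u + u' := by rw [hs, hu, h3]; abel

theorem zS_cliff {K : Type*} [Field K] {ι : Type*} [DecidableEq ι] {L : Type*} [Field L]
    [Algebra K L] (Q0 : QuadraticForm K L) (σ : L → L) (hσ : IsNrm Q0 σ) {A : Type*} [Ring A]
    [Algebra K A] (e : ι ⊕ ι → A) (ε : L →ₗ[K] A) (he : IsCliffSysB Q0 e ε)
    (YS : ι ⊕ ι → L → Aˣ) (hYS : ∀ a v, ((YS a v : Aˣ) : A) = 1 + e a * ε v) (a : ι ⊕ ι) :
    ((zS σ YS a : Aˣ) : A) = -1 := by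
  -- field facts
  have hσ1 : σ (1 : L) = 1 := by
    have := hσ.fix 1
    rwa [map_one] at this
  have hσm1 : σ (-1 : L) = -1 := by
    have := hσ.fix (-1)
    rwa [map_neg, map_one] at this
  have hQ1 : Q0 (1 : L) = 1 := by
    have h := hσ.nrm 1
    rw [hσ1, mul_one] at h
    apply (algebraMap K L).injective
    rw [h, map_one]
  -- the elements of the algebra
  set E : A := e a with hE
  set E' : A := e (ng a) with hE'
  set η : A := ε 1 with hη
  have hηη : η * η = 1 := by
    rw [hη, he.eps_sq, hQ1, map_one]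
  have hηE : η * E = -(E * η) := he.eps_anti a 1
  have hηE' : η * E' = -(E' * η) := he.eps_anti (ng a) 1
  have hEE : E * E = 0 := he.sq a
  have hE'E' : E' * E' = 0 := he.sq (ng a)
  have hopp : E * E' + E' * E = 1 := he.opp a
  have hm1 : ε (-1 : L) = -η := by rw [map_neg]
  -- `u = E η`, `u' = E' η`
  have hu : (E * η) * (E * η) = 0 := by
    rw [mul_assoc, ← mul_assoc η, hηE, neg_mul, mul_neg, ← mul_assoc, ← mul_assoc, hEE, zero_mul,
      zero_mul, neg_zero]
  have hu' : (E' * η) * (E' * η) = 0 := by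
    rw [mul_assoc, ← mul_assoc η, hηE', neg_mul, mul_neg, ← mul_assoc, ← mul_assoc, hE'E',
      zero_mul, zero_mul, neg_zero]
  have huu' : (E * η) * (E' * η) = -(E * E') := by
    rw [mul_assoc, ← mul_assoc η, hηE', neg_mul, mul_neg, mul_assoc E' η η, hηη, mul_one]
  have hu'u : (E' * η) * (E * η) = -(E' * E) := by
    rw [mul_assoc, ← mul_assoc η, hηE, neg_mul, mul_neg, mul_assoc E η η, hηη, mul_one]
  have hs : (E * η) * (E' * η) + (E' * η) * (E * η) = -1 := by
    rw [huu', hu'u, ← neg_add, hopp]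
  have hs' : (-(E * η)) * (-(E' * η)) + (-(E' * η)) * (-(E * η)) = -1 := by
    rw [neg_mul_neg, neg_mul_neg, hs]
  have hum : (-(E * η)) * (-(E * η)) = 0 := by rw [neg_mul_neg, hu]
  -- the two Weyl elements
  have hW1 : ((WS σ YS a 1 : Aˣ) : A) = E * η + E' * η := by
    rw [WS_eq, Units.val_mul, Units.val_mul, hYS, hYS]
    have h1 : -σ (-(1 : L)⁻¹) = 1 := by rw [inv_one, hσm1, neg_neg]
    rw [h1]
    exact h89_w_eq hu hs
  have hWm : ((WS σ YS a (-1) : Aˣ) : A) = -(E * η + E' * η) := by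
    rw [WS_eq, Units.val_mul, Units.val_mul, hYS, hYS]
    have h1 : -σ (-(-1 : L)⁻¹) = -1 := by rw [inv_neg, inv_one, neg_neg, hσ1]
    rw [h1, hm1, mul_neg, mul_neg]
    rw [h89_w_eq hum hs']
    abel
  have hW : WS σ YS a (-1) = -WS σ YS a 1 := by
    apply Units.ext
    rw [Units.val_neg, hWm, hW1]
  show ((WS σ YS a (-1) * (WS σ YS a 1)⁻¹ : Aˣ) : A) = -1
  rw [hW, neg_mul, mul_inv_cancel, Units.val_neg, Units.val_one]

end Cfsg.Agent.Lib.Helper66_S94
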