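import Mathlib
import Cfsg.Agent.Lib.Helper66_S94CoverDefs
import Cfsg.Agent.Lib.Helper73_S96_CLIFFINST

set_option autoImplicit false
set_option linter.unusedVariables false

/-!
helper89 — package B_COV3 of helper66's market `s96_packages` (COVER block of S2094 / S2099):
Mathlib's Clifford algebra of `(h73_Q m F).prod Q0` on `F^(Fin m ⊕ Fin m) × V0` is a Clifford system
in the sense of `IsCliffSysB`, and `-1 ≠ 1` in it when `2 ≠ 0`.
-/

namespace Cfsg.Agent.Lib.Helper66_S94

open Cfsg.Agent.Lib.Helper5_SteinbergA Cfsg.Agent.Lib.Helper66_S92 Cfsg.Agent.Lib.Helper66_S96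
  Cfsg.Agent.Lib.Helper74_S94

universe u

theorem exists_cliffSysB (m : ℕ) (F : Type u) [Field F] {V0 : Type u} [AddCommGroup V0]
    [Module F V0] (Q0 : QuadraticForm F V0) :
    ∃ (A : Type u) (_ : Ring A) (_ : Algebra F A) (e : Fin m ⊕ Fin m → A) (ε : V0 →ₗ[F] A),
      IsCliffSysB Q0 e ε ∧ ((2 : F) ≠ 0 → (-1 : A) ≠ 1) := by
  refine ⟨CliffordAlgebra ((h73_Q m F).prod Q0), inferInstance, inferInstance,
    fun a => CliffordAlgebra.ι ((h73_Q m F).prod Q0) (Pi.single a 1, 0),
    (CliffordAlgebra.ι ((h73_Q m F).prod Q0)).comp (LinearMap.inr F (Fin m ⊕ Fin m → F) V0),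
    ⟨⟨?_, ?_, ?_⟩, ?_, ?_⟩, ?_⟩
  · intro a
    rw [CliffordAlgebra.ι_sq_scalar, QuadraticMap.prod_apply, h73_Q_single, map_zero, add_zero,
      map_zero]
  · intro a c hc
    apply eq_neg_of_add_eq_zero_left
    rw [CliffordAlgebra.ι_mul_ι_add_swap, QuadraticMap.polar_prod, h73_polar_single, if_neg hc]
    simp [QuadraticMap.polar]
  · intro a
    rw [CliffordAlgebra.ι_mul_ι_add_swap, QuadraticMap.polar_prod, h73_polar_single, if_pos rfl]
    simp [QuadraticMap.polar]
  · intro v
    show CliffordAlgebra.ι ((h73_Q m F).prod Q0) (0, v) *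
      CliffordAlgebra.ι ((h73_Q m F).prod Q0) (0, v) = _
    rw [CliffordAlgebra.ι_sq_scalar, QuadraticMap.prod_apply, map_zero, zero_add]
  · intro a v
    show CliffordAlgebra.ι ((h73_Q m F).prod Q0) (0, v) *
      CliffordAlgebra.ι ((h73_Q m F).prod Q0) (Pi.single a 1, 0) =
      -(CliffordAlgebra.ι ((h73_Q m F).prod Q0) (Pi.single a 1, 0) *
        CliffordAlgebra.ι ((h73_Q m F).prod Q0) (0, v))
    apply eq_neg_of_add_eq_zero_left
    rw [CliffordAlgebra.ι_mul_ι_add_swap, QuadraticMap.polar_prod]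
    simp [QuadraticMap.polar]
  · intro h2 hneg
    have : Invertible (2 : F) := invertibleOfNonzero h2
    have h0 : (2 : CliffordAlgebra ((h73_Q m F).prod Q0)) = 0 := by
      have : (1 : CliffordAlgebra ((h73_Q m F).prod Q0)) + 1 = 0 := by
        nth_rewrite 1 [← hneg]
        exact neg_add_cancel 1
      rw [← one_add_one_eq_two]
      exact this
    have h1 : (1 : CliffordAlgebra ((h73_Q m F).prod Q0)) = 0 := by
      have e1 : algebraMap F (CliffordAlgebra ((h73_Q m F).prod Q0)) (⅟(2 : F) * 2) = 1 := by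
        rw [invOf_mul_self, map_one]
      rw [← e1, map_mul, map_ofNat, h0, mul_zero]
    exact one_ne_zero h1

end Cfsg.Agent.Lib.Helper66_S94
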