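import Mathlib
import Cfsg.Prelude.Def_KGroupFacts
import Cfsg.Agent.Lib.Helper66_GenUCE
import Cfsg.Agent.Lib.Helper66_S94ModelDefs
import Cfsg.Agent.Lib.Helper66_S94Transfer
import Cfsg.Agent.Lib.Helper74_S94_WRAP
import Cfsg.Agent.Lib.Helper20_S94_ACTW
import Cfsg.Agent.Lib.Helper14_S94_RANK1S
import Cfsg.Agent.Lib.Helper14_S94_NEGMINUS
import Cfsg.Agent.Lib.Helper22_S94_MODG1
import Cfsg.Agent.Lib.Helper22_S94_MODMINUS
import Cfsg.Agent.Lib.Helper66_S96Asm
import Cfsg.Agent.Lib.Helper66_S96Final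
import Cfsg.Agent.Lib.Helper14_S94_LIFT
import Cfsg.Agent.Lib.Helper14_S94_TORUSHYP
import Cfsg.Agent.Lib.Helper14_S94_PERFB
import Cfsg.Agent.Lib.Helper74_S94_RANKS
import Cfsg.Agent.Lib.Helper44_S94_COV1
import Cfsg.Agent.Lib.Helper89_S94_B_COV2
import Cfsg.Agent.Lib.Helper89_S94_B_COV3
import Cfsg.Agent.Lib.Helper73_S96_SMALLGRP

set_option autoImplicit false
set_option linter.unusedVariables false
set_option linter.unusedSectionVars false

/-!
The final assembly for the Schur multipliers of `PΩ_{2m+1}(q)` and `PΩ⁻_{2l}(q)` (helper66, S2094 / S2099).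
-/

namespace Cfsg.Agent.Lib.Helper66_S94

open Cfsg.Agent.Lib.Helper5_SteinbergA Cfsg.Agent.Lib.Helper66_S92 Cfsg.Agent.Lib.Helper66_S96
  Cfsg.Agent.Lib.Helper74_S94 Cfsg.Agent.Lib.Helper81_UceA

universe u v

/-! ### the abstract universal central extension theorem for type `B` / `²D` -/

section uce

variable {ι : Type*} [Fintype ι] [DecidableEq ι] {K : Type*} [Field K] [Finite K]
  {L : Type*} [Field L] [Algebra K L] [Finite L] {Q0 : QuadraticForm K L} {σ : L → L}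

/-- the elements `zS` act trivially -/
theorem act_zS {G : Type*} [Group G] {X : ι ⊕ ι → ι ⊕ ι → K → G} {XS : ι ⊕ ι → L → G}
    (hσ : IsNrm Q0 σ) (ρ : G →* Module.End K ((ι ⊕ ι → K) × L)) (hρ : IsActB Q0 X XS ρ)
    (a : ι ⊕ ι) : ρ (zS σ XS a) = 1 := by
  have h1 : (1 : L) ≠ 0 := one_ne_zero
  have hm1 : (-1 : L) ≠ 0 := neg_ne_zero.mpr one_ne_zero
  have hq1 : Q0 (1 : L) ≠ 0 := hσ.nrm_ne_zero h1
  have hqm : Q0 (-1 : L) = Q0 1 := QuadraticMap.map_neg Q0 1
  have e : ρ (WS σ XS a (-1)) = ρ (WS σ XS a 1) := by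
    apply LinearMap.ext
    intro x
    rw [WS_eq_WSg hσ a (-1) hm1, WS_eq_WSg hσ a 1 h1, act_WSg ρ hρ a (-1) (by rw [hqm]; exact hq1) x,
      act_WSg ρ hρ a 1 hq1 x, hqm, QuadraticMap.polar_neg_right, smul_neg, mul_neg, neg_smul, neg_neg]
  unfold zS HS
  rw [map_mul, e, ← map_mul, mul_inv_cancel, map_one]

/-- the index type of the generators -/
abbrev IxB (ι : Type*) (K : Type*) (L : Type*) : Type _ :=
  ((ι ⊕ ι) × (ι ⊕ ι) × K) ⊕ ((ι ⊕ ι) × L)

/-- the long part of a family of generators -/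
def famX {H : Type*} (f : IxB ι K L → H) : ι ⊕ ι → ι ⊕ ι → K → H := fun a c t => f (Sum.inl (a, c, t))

/-- the short part of a family of generators -/
def famS {H : Type*} (f : IxB ι K L → H) : ι ⊕ ι → L → H := fun a v => f (Sum.inr (a, v))

/-- the family of generators -/
def famJoin {H : Type*} (X : ι ⊕ ι → ι ⊕ ι → K → H) (XS : ι ⊕ ι → L → H) : IxB ι K L → H :=
  Sum.elim (fun p => X p.1 p.2.1 p.2.2) (fun p => XS p.1 p.2)

theorem range_fam {H : Type*} (f : IxB ι K L → H) :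
    Set.range f = {g | ∃ a c t, g = famX f a c t} ∪ {g | ∃ a v, g = famS f a v} := by
  ext g
  constructor
  · rintro ⟨i, rfl⟩
    rcases i with ⟨a, c, t⟩ | ⟨a, v⟩
    · exact Or.inl ⟨a, c, t, rfl⟩
    · exact Or.inr ⟨a, v, rfl⟩
  · rintro (⟨a, c, t, rfl⟩ | ⟨a, v, rfl⟩)
    · exact ⟨_, rfl⟩
    · exact ⟨_, rfl⟩

theorem range_famJoin {H : Type*} (X : ι ⊕ ι → ι ⊕ ι → K → H) (XS : ι ⊕ ι → L → H) :
    Set.range (famJoin X XS) = {g | ∃ a c t, g = X a c t} ∪ {g | ∃ a v, g = XS a v} :=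
  range_fam (famJoin X XS)

theorem hasSchurMultiplier_of_bSt (hσ : IsNrm Q0 σ) (h3 : 3 ≤ Fintype.card ι)
    {Gh : Type u} [Group Gh] {Y : ι ⊕ ι → ι ⊕ ι → K → Gh} {YS : ι ⊕ ι → L → Gh}
    (hY : BStAB Q0 Y YS)
    (hgen : Subgroup.closure ({g | ∃ a c t, g = Y a c t} ∪ {g | ∃ a v, g = YS a v}) = ⊤)
    (ρ : Gh →* Module.End K ((ι ⊕ ι → K) × L)) (hρ : IsActB Q0 Y YS ρ)
    (hzc : ∀ a, zS σ YS a ∈ Subgroup.center Gh)
    (hz : (-1 : L) = 1 ∨ ∀ a, zS σ YS a ≠ 1)
    {G : Type u} [Group G] [Finite G] (θ : Gh →* G) (hθ : Function.Surjective θ)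
    (hker : ∀ g, θ g = 1 ↔ (ρ g = 1 ∨ ρ g = -1))
    (hlift : ∀ {Γ : Type u} [Group Γ] (π : Γ →* G), CExt π →
      ∃ (Z : ι ⊕ ι → ι ⊕ ι → K → Γ) (ZS : ι ⊕ ι → L → Γ), (∀ a c t, π (Z a c t) = θ (Y a c t)) ∧
        (∀ a v, π (ZS a v) = θ (YS a v)) ∧ BStAB Q0 Z ZS)
    {A : Type v} [CommGroup A] (e : A ≃* θ.ker) : Cfsg.HasSchurMultiplier G A := by
  refine Cfsg.Agent.Lib.Helper66_GenUCE.hasSchurMultiplier_of_pres
    (I := IxB ι K L) (J := ι ⊕ ι) (M := Module.End K ((ι ⊕ ι → K) × L))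
    (Rl := fun {H} _ f => BStAB Q0 (famX f) (famS f))
    (zs := fun {H} _ f j => zS σ (famS f) j)
    (act := fun i => ρ (famJoin Y YS i))
    ?_ ?_ ?_ ?_ (Y := famJoin Y YS) ?_ ?_ ρ (fun i => rfl) ?_ ?_ ?_ θ hθ hker ?_ e
  · -- products
    intro H H' _ _ f f' hf hf'
    exact bStAB_prod hf hf'
  · -- subgroups
    intro H _ S f hf
    exact bStAB_of_map_injective S.subtype S.subtype_injective hf
  · -- naturality of `zS`
    intro H H' _ _ φ f j
    exact map_zS φ σ (famS f) j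
  · -- the presentation theorem
    intro H _ f hf hfgen ρ' hρ' g hg
    have hB : BSt Q0 σ (famX f) (famS f) := bSt_of_bStAB hf hσ h3
    have hgen' : Subgroup.closure ({g | ∃ a c t, g = famX f a c t} ∪
        {g | ∃ a v, g = famS f a v}) = ⊤ := by
      rw [← range_fam]
      exact hfgen
    have hact : IsActB Q0 (famX f) (famS f) ρ' := by
      constructor
      · intro a c t x
        have e1 : ρ' (famX f a c t) = ρ (Y a c t) := hρ' (Sum.inl (a, c, t))
        rw [e1]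
        exact hρ.long a c t x
      · intro a v x
        have e1 : ρ' (famS f a v) = ρ (YS a v) := hρ' (Sum.inr (a, v))
        rw [e1]
        exact hρ.short a v x
    exact h74_ker_cases_of_bSt (by omega) hσ hB hgen' ρ' hact g hg
  · exact hY
  · rw [range_famJoin]
    exact hgen
  · exact hzc
  · exact commutator_eq_top_of_bStAB hY h3 hgen
  · rcases hz with hz | hz
    · right
      intro H _ f j
      exact zS_eq_one_of_neg_one_eq σ (famS f) hz j
    · left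
      exact hz
  · intro Γ _ π hπ
    obtain ⟨Z, ZS, h1, h2, hZ⟩ := hlift π hπ
    refine ⟨famJoin Z ZS, ?_, hZ⟩
    rintro (⟨a, c, t⟩ | ⟨a, v⟩)
    · exact h1 a c t
    · exact h2 a v

end uce

/-! ### the cover: the subgroup of `Aˣ × Ω(Q)` generated by the pairs of root elements -/

section cover

variable {κ : Type} [Fintype κ] [DecidableEq κ] (F : Type u) [Field F] [Fintype F]
  (Q : (κ → F) → F) (n : ℕ) {L : Type u} [Field L] [Algebra F L] [Finite L]
  (Q0 : QuadraticForm F L) (σ : L → L)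

theorem zS_model (hσ : IsNrm Q0 σ)
    {act : ↥(Cfsg.Omega F Q) →* Module.End F ((Fin n ⊕ Fin n → F) × L)}
    {XO : Fin n ⊕ Fin n → Fin n ⊕ Fin n → F → ↥(Cfsg.Omega F Q)}
    {XSO : Fin n ⊕ Fin n → L → ↥(Cfsg.Omega F Q)} (hM : IsModelB Q Q0 act XO XSO)
    (a : Fin n ⊕ Fin n) : zS σ XSO a = 1 := by
  apply hM.inj
  rw [map_one]
  exact act_zS hσ act hM.isAct a

theorem exists_coverB (hn : 3 ≤ n) (hσ : IsNrm Q0 σ)
    {act : ↥(Cfsg.Omega F Q) →* Module.End F ((Fin n ⊕ Fin n → F) × L)}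
    {XO : Fin n ⊕ Fin n → Fin n ⊕ Fin n → F → ↥(Cfsg.Omega F Q)}
    {XSO : Fin n ⊕ Fin n → L → ↥(Cfsg.Omega F Q)} (hM : IsModelB Q Q0 act XO XSO) :
    ∃ (Gh : Type u) (_ : Group Gh) (Y : Fin n ⊕ Fin n → Fin n ⊕ Fin n → F → Gh)
      (YS : Fin n ⊕ Fin n → L → Gh) (p : Gh →* ↥(Cfsg.Omega F Q)) (z : Gh),
      BStAB Q0 Y YS ∧
      Subgroup.closure ({g | ∃ a c t, g = Y a c t} ∪ {g | ∃ a v, g = YS a v}) = ⊤ ∧
      (∀ a c t, p (Y a c t) = XO a c t) ∧ (∀ a v, p (YS a v) = XSO a v) ∧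
      (∀ a, zS σ YS a = z) ∧ z ∈ Subgroup.center Gh ∧ z * z = 1 ∧ ((2 : F) ≠ 0 → z ≠ 1) := by
  obtain ⟨A, _, _, e, ε, he, hneg⟩ := exists_cliffSysB n F Q0
  obtain ⟨Yc, YSc, hYc, -, hYSc, -⟩ := exists_cliff_familyB (K := F) Q0 e ε he
  have hXO : BStAB Q0 XO XSO := bStAB_of_isActB hn Q0 XO XSO act hM.isAct hM.inj
  let P : Fin n ⊕ Fin n → Fin n ⊕ Fin n → F → Aˣ × ↥(Cfsg.Omega F Q) :=
    fun a c t => (Yc a c t, XO a c t)
  let PS : Fin n ⊕ Fin n → L → Aˣ × ↥(Cfsg.Omega F Q) := fun a v => (YSc a v, XSO a v)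
  let S : Subgroup (Aˣ × ↥(Cfsg.Omega F Q)) :=
    Subgroup.closure ({g | ∃ a c t, g = P a c t} ∪ {g | ∃ a v, g = PS a v})
  have hmem : ∀ a c t, P a c t ∈ S := fun a c t => Subgroup.subset_closure (Or.inl ⟨a, c, t, rfl⟩)
  have hmemS : ∀ a v, PS a v ∈ S := fun a v => Subgroup.subset_closure (Or.inr ⟨a, v, rfl⟩)
  let Y : Fin n ⊕ Fin n → Fin n ⊕ Fin n → F → ↥S := fun a c t => ⟨P a c t, hmem a c t⟩
  let YS : Fin n ⊕ Fin n → L → ↥S := fun a v => ⟨PS a v, hmemS a v⟩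
  have hP : BStAB Q0 P PS := bStAB_prod hYc hXO
  have hYd : BStAB Q0 Y YS := bStAB_of_map_injective S.subtype S.subtype_injective hP
  have hgen : Subgroup.closure ({g | ∃ a c t, g = Y a c t} ∪ {g | ∃ a v, g = YS a v}) = ⊤ := by
    have hset : ({g | ∃ a c t, g = Y a c t} ∪ {g | ∃ a v, g = YS a v} : Set ↥S) =
        ((↑) : ↥S → Aˣ × ↥(Cfsg.Omega F Q)) ⁻¹'
          ({g | ∃ a c t, g = P a c t} ∪ {g | ∃ a v, g = PS a v}) := by
      ext g
      simp only [Set.mem_union, Set.mem_ofPred_eq, Set.mem_preimage]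
      constructor
      · rintro (⟨a, c, t, rfl⟩ | ⟨a, v, rfl⟩)
        · exact Or.inl ⟨a, c, t, rfl⟩
        · exact Or.inr ⟨a, v, rfl⟩
      · rintro (⟨a, c, t, hg⟩ | ⟨a, v, hg⟩)
        · exact Or.inl ⟨a, c, t, Subtype.ext hg⟩
        · exact Or.inr ⟨a, v, Subtype.ext hg⟩
    rw [hset]
    exact Subgroup.closure_closure_coe_preimage
  -- the element `z`
  have hzP : ∀ a, zS σ PS a = ((-1 : Aˣ), 1) := by
    intro a
    apply Prod.ext
    · have e1 := map_zS (MonoidHom.fst Aˣ ↥(Cfsg.Omega F Q)) σ PS a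
      rw [MonoidHom.coe_fst] at e1
      rw [e1]
      apply Units.ext
      rw [Units.val_neg, Units.val_one]
      exact zS_cliff Q0 σ hσ e ε he (fun a v => (PS a v).1) hYSc a
    · have e1 := map_zS (MonoidHom.snd Aˣ ↥(Cfsg.Omega F Q)) σ PS a
      rw [MonoidHom.coe_snd] at e1
      rw [e1]
      exact zS_model F Q n Q0 σ hσ hM a
  have hzY : ∀ a, ((zS σ YS a : ↥S) : Aˣ × ↥(Cfsg.Omega F Q)) = ((-1 : Aˣ), 1) := by
    intro a
    have e1 : ((zS σ YS a : ↥S) : Aˣ × ↥(Cfsg.Omega F Q)) = zS σ PS a := map_zS S.subtype σ YS a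
    rw [e1, hzP]
  have h0 : 0 < n := by omega
  let a0 : Fin n ⊕ Fin n := Sum.inl ⟨0, h0⟩
  refine ⟨↥S, inferInstance, Y, YS, (MonoidHom.snd Aˣ ↥(Cfsg.Omega F Q)).comp S.subtype,
    zS σ YS a0, hYd, hgen, fun a c t => rfl, fun a v => rfl, ?_, ?_, ?_, ?_⟩
  · intro a
    apply Subtype.ext
    rw [hzY a, hzY a0]
  · rw [Subgroup.mem_center_iff]
    intro g
    apply Subtype.ext
    rw [Subgroup.coe_mul, Subgroup.coe_mul, hzY a0]
    apply Prod.ext
    · apply Units.ext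
      simp
    · simp
  · apply Subtype.ext
    rw [Subgroup.coe_mul, hzY a0, Subgroup.coe_one]
    apply Prod.ext
    · apply Units.ext
      simp
    · simp
  · intro h2 hz1
    have e2 := hzY a0
    rw [hz1, Subgroup.coe_one] at e2
    have e5 : (1 : Aˣ) = -1 := congrArg Prod.fst e2
    have e6 : ((1 : Aˣ) : A) = -1 := by
      rw [e5, Units.val_neg, Units.val_one]
    rw [Units.val_one] at e6
    exact hneg h2 e6.symm

end cover

/-! ### the main theorems -/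

section main

variable {κ : Type} [Fintype κ] [DecidableEq κ] (F : Type u) [Field F] [Fintype F]
  (Q : (κ → F) → F) (n : ℕ) {L : Type u} [Field L] [Algebra F L] [Finite L]
  (Q0 : QuadraticForm F L) (σ : L → L)

/-- the hypothesis that Steinberg families of type `B_n` / `²D_{n+1}` lift to central extensions of `P` -/
def LiftHypB (P : Type u) [Group P] : Prop :=
  ∀ {Gh : Type u} [Group Gh] (Y : Fin n ⊕ Fin n → Fin n ⊕ Fin n → F → Gh)
    (YS : Fin n ⊕ Fin n → L → Gh) (θ : Gh →* P), BSt Q0 σ Y YS →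
    ∀ {Γ : Type u} [Group Γ] (π : Γ →* P), CExt π →
      ∃ (Z : Fin n ⊕ Fin n → Fin n ⊕ Fin n → F → Γ) (ZS : Fin n ⊕ Fin n → L → Γ),
        (∀ a c t, π (Z a c t) = θ (Y a c t)) ∧ (∀ a v, π (ZS a v) = θ (YS a v)) ∧ BStAB Q0 Z ZS

theorem liftHypB_of_four (P : Type u) [Group P] (h4 : 4 ≤ n)
    (hB : ∃ v w : L, QuadraticMap.polar Q0 v w = 1) : LiftHypB F n Q0 σ P := by
  intro Gh _ Y YS θ hY Γ _ π hπ
  exact exists_bStAB_lift_four (by rw [Fintype.card_fin]; exact h4) hB hπ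
    (bStAB_map θ hY.toBStAB)

theorem bSt_map {ι : Type*} [DecidableEq ι] {K : Type*} [Field K] {L : Type*} [Field L]
    [Algebra K L] {Q0 : QuadraticForm K L} {σ : L → L} {G H : Type*} [Group G] [Group H]
    (f : G →* H) {X : ι ⊕ ι → ι ⊕ ι → K → G} {XS : ι ⊕ ι → L → G} (h : BSt Q0 σ X XS) :
    BSt Q0 σ (fun a c t => f (X a c t)) (fun a v => f (XS a v)) where
  toBStAB := bStAB_map f h.toBStAB
  rank1 a c h1 h2 := by
    have e : pairD (fun a c t => f (X a c t)) a c = fun b w => f (pairD X a c b w) := by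
      funext b w
      cases b <;> rfl
    rw [e]
    have hr := h.rank1 a c h1 h2
    constructor
    · intro b t u
      rw [← map_mul, hr.add]
    · intro b t u ht
      rw [← map_mul, ← map_mul, ← map_mul, ← map_inv, ← map_mul, hr.conj b t u ht]
  rank1S a := rel_pairS_map f σ XS a (h.rank1S a)

theorem liftHypB_of_three (P : Type u) [Group P] (h3 : 3 ≤ n) (hσ : IsNrm Q0 σ)
    (hB : ∃ v w : L, QuadraticMap.polar Q0 v w = 1) (hL : 3 < Nat.card L) :
    LiftHypB F n Q0 σ P := by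
  intro Gh _ Y YS θ hY Γ _ π hπ
  have hY' := bSt_map θ hY
  exact exists_bStAB_lift_three (by rw [Fintype.card_fin]; exact h3) hB hπ hY'.toBStAB
    (fun d => torus_hyp_of_bSt hσ hY' hL d)

theorem h66_neg_one_eq_one' {K : Type*} [Field K] (h2 : (2 : K) = 0) : (-1 : K) = 1 := by
  have : (1 : K) + 1 = 0 := by rw [one_add_one_eq_two, h2]
  exact (eq_neg_of_add_eq_zero_left this).symm

theorem schur_commonB (hn : 3 ≤ n) (hσ : IsNrm Q0 σ)
    {act : ↥(Cfsg.Omega F Q) →* Module.End F ((Fin n ⊕ Fin n → F) × L)}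
    {XO : Fin n ⊕ Fin n → Fin n ⊕ Fin n → F → ↥(Cfsg.Omega F Q)}
    {XSO : Fin n ⊕ Fin n → L → ↥(Cfsg.Omega F Q)} (hM : IsModelB Q Q0 act XO XSO)
    (hlift : LiftHypB F n Q0 σ (Cfsg.POmega F Q)) :
    ∃ (Gh : Type u) (_ : Group Gh) (Y : Fin n ⊕ Fin n → Fin n ⊕ Fin n → F → Gh)
      (YS : Fin n ⊕ Fin n → L → Gh) (p : Gh →* ↥(Cfsg.Omega F Q))
      (θ : Gh →* Cfsg.POmega F Q) (z : Gh),
      BSt Q0 σ Y YS ∧
      Subgroup.closure ({g | ∃ a c t, g = Y a c t} ∪ {g | ∃ a v, g = YS a v}) = ⊤ ∧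
      IsActB Q0 Y YS (act.comp p) ∧ Function.Surjective p ∧
      (∀ g, θ g = 1 ↔ (act (p g) = 1 ∨ act (p g) = -1)) ∧
      (∀ a, zS σ YS a = z) ∧ z ∈ Subgroup.center Gh ∧ z * z = 1 ∧ ((2 : F) ≠ 0 → z ≠ 1) ∧
      (∀ g, act (p g) = 1 → g = 1 ∨ g = z) ∧ act (p z) = 1 ∧
      (∀ {A : Type} [CommGroup A], Nonempty (A ≃* θ.ker) →
        Cfsg.HasSchurMultiplier (Cfsg.POmega F Q) A) := by
  obtain ⟨Gh, _, Y, YS, p, z, hYd, hgen, hpY, hpYS, hz, hzc, hzz, hz1⟩ :=
    exists_coverB F Q n Q0 σ hn hσ hM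
  have hcard3 : 3 ≤ Fintype.card (Fin n) := by rw [Fintype.card_fin]; exact hn
  have hY : BSt Q0 σ Y YS := bSt_of_bStAB hYd hσ hcard3
  have hps : Function.Surjective p := by
    rw [← MonoidHom.range_eq_top, eq_top_iff, ← hM.gen, Subgroup.closure_le]
    rintro g (⟨a, c, t, rfl⟩ | ⟨a, v, rfl⟩)
    · exact ⟨Y a c t, hpY a c t⟩
    · exact ⟨YS a v, hpYS a v⟩
  have hρ : IsActB Q0 Y YS (act.comp p) := by
    constructor
    · intro a c t x
      rw [MonoidHom.comp_apply, hpY]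
      exact hM.isAct.long a c t x
    · intro a v x
      rw [MonoidHom.comp_apply, hpYS]
      exact hM.isAct.short a v x
  set θ : Gh →* Cfsg.POmega F Q :=
    (QuotientGroup.mk' (Subgroup.center ↥(Cfsg.Omega F Q))).comp p with hθdef
  have hθ : Function.Surjective θ := (QuotientGroup.mk'_surjective _).comp hps
  have hker : ∀ g, θ g = 1 ↔ (act (p g) = 1 ∨ act (p g) = -1) := by
    intro g
    rw [hθdef, MonoidHom.comp_apply, QuotientGroup.mk'_apply, QuotientGroup.eq_one_iff]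
    exact hM.center (p g)
  have hk1 : ∀ g, act (p g) = 1 → g = 1 ∨ g = z := by
    intro g hg
    rcases h74_ker_cases_of_bSt (by omega) hσ hY hgen (act.comp p) hρ g hg with h | ⟨a, h⟩
    · exact Or.inl h
    · right
      rw [h, hz a]
  have h0 : 0 < n := by omega
  have hρz : act (p z) = 1 := by
    rw [← hz (Sum.inl ⟨0, h0⟩)]
    exact act_zS hσ (act.comp p) hρ _
  refine ⟨Gh, inferInstance, Y, YS, p, θ, z, hY, hgen, hρ, hps, hker, hz, hzc, hzz, hz1, hk1, hρz,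
    ?_⟩
  rintro A _ ⟨e⟩
  have hzz' : (-1 : L) = 1 ∨ ∀ a, zS σ YS a ≠ 1 := by
    by_cases h2 : (2 : F) = 0
    · left
      have h2L : (2 : L) = 0 := by
        have := congrArg (algebraMap F L) h2
        rwa [map_ofNat, map_zero] at this
      exact h66_neg_one_eq_one' h2L
    · right
      intro a
      rw [hz a]
      exact hz1 h2
  exact hasSchurMultiplier_of_bSt hσ hcard3 hYd hgen (act.comp p) hρ
    (fun a => by rw [hz a]; exact hzc) hzz' θ hθ hker
    (fun π hπ => hlift Y YS θ hY π hπ) e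

end main

/-! ### the multipliers -/

section final

theorem h66_neg_end_ne {K : Type*} [Field K] {V W : Type*} [AddCommGroup V] [Module K V]
    [AddCommGroup W] [Module K W] (h2 : (2 : K) = 0) :
    (-1 : Module.End K (V × W)) = 1 := by
  apply LinearMap.ext
  intro x
  rw [LinearMap.neg_apply, Module.End.one_apply]
  have : (-1 : K) • x = x := by rw [h66_neg_one_eq_one' h2, one_smul]
  rw [neg_one_smul] at this
  exact this

theorem isNrm_sq (F : Type*) [Field F] : IsNrm (QuadraticMap.sq (R := F)) (id : F → F) where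
  map_add _ _ := rfl
  map_mul _ _ := rfl
  invol _ := rfl
  fix _ := rfl
  nrm _ := rfl

theorem ker_cases_negB {Gh : Type*} [Group Gh] {M : Type*} [Ring M] (ρ : Gh →* M) (z : Gh)
    (hk1 : ∀ g, ρ g = 1 → g = 1 ∨ g = z) (c : Gh) (hc : ρ c = -1) (g : Gh)
    (hg : ρ g = 1 ∨ ρ g = -1) : g = 1 ∨ g = z ∨ g = c ∨ g = c * z := by
  rcases hg with hg | hg
  · rcases hk1 g hg with h | h
    · exact Or.inl h
    · exact Or.inr (Or.inl h)
  · have h1 : ρ (c⁻¹ * g) = 1 := by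
      rw [map_mul, Cfsg.Agent.Lib.Helper66_GenUCE.act_inv_neg ρ c hc, hg, neg_one_mul, neg_neg]
    rcases hk1 _ h1 with h | h
    · right; right; left
      rw [← mul_right_inj c⁻¹, h, inv_mul_cancel]
    · right; right; right
      rw [← h]; group

/-- S2094, from a model -/
theorem schur_odd_dim_of (m : ℕ) (hm : 3 ≤ m) (F : Type u) [Field F] [Fintype F]
    (hq : Odd (Fintype.card F)) (hexc : ¬ (m = 3 ∧ Fintype.card F = 3))
    (hmodel : ∃ (act : ↥(Cfsg.Omega F (Cfsg.quadFormOdd m F)) →*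
        Module.End F ((Fin m ⊕ Fin m → F) × F))
      (XO : Fin m ⊕ Fin m → Fin m ⊕ Fin m → F → ↥(Cfsg.Omega F (Cfsg.quadFormOdd m F)))
      (XSO : Fin m ⊕ Fin m → F → ↥(Cfsg.Omega F (Cfsg.quadFormOdd m F))),
      IsModelB (Cfsg.quadFormOdd m F) (QuadraticMap.sq (R := F)) act XO XSO ∧
      ∀ g, act g ≠ -1) :
    Cfsg.HasSchurMultiplier (Cfsg.POmega F (Cfsg.quadFormOdd m F)) (Multiplicative (ZMod 2)) := by
  obtain ⟨act, XO, XSO, hM, hnoneg⟩ := hmodel
  have hσ := isNrm_sq F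
  have h2 : (2 : F) ≠ 0 := by
    intro h
    have := (Cfsg.Agent.Lib.Helper66_S96.h66_two_eq_zero_iff F).mp h
    obtain ⟨k, hk⟩ := hq
    omega
  have hB : ∃ v w : F, QuadraticMap.polar (QuadraticMap.sq (R := F)) v w = 1 := by
    refine ⟨2⁻¹, 1, ?_⟩
    simp only [QuadraticMap.polar, QuadraticMap.sq_apply]
    field_simp
    ring
  have hlift : LiftHypB F m (QuadraticMap.sq (R := F)) id
      (Cfsg.POmega F (Cfsg.quadFormOdd m F)) := by
    by_cases h4 : 4 ≤ m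
    · exact liftHypB_of_four F m _ _ _ h4 hB
    · have hm3 : m = 3 := by omega
      have hc3 : Fintype.card F ≠ 3 := fun h => hexc ⟨hm3, h⟩
      have hc1 : 1 < Fintype.card F := Fintype.one_lt_card
      have hL : 3 < Nat.card F := by
        rw [Nat.card_eq_fintype_card]
        obtain ⟨k, hk⟩ := hq
        omega
      exact liftHypB_of_three F m _ _ _ hm hσ hB hL
  obtain ⟨Gh, _, Y, YS, p, θ, z, hY, hgen, hρ, hps, hker, hz, hzc, hzz, hz1, hk1, hρz, key⟩ :=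
    schur_commonB F (Cfsg.quadFormOdd m F) m (QuadraticMap.sq (R := F)) id hm hσ hM hlift
  apply key
  have hzmem : z ∈ θ.ker := by
    rw [MonoidHom.mem_ker, hker]
    exact Or.inl hρz
  apply mulEquiv_zmod2_of θ.ker z hzmem (hz1 h2)
  intro g hg
  rw [MonoidHom.mem_ker, hker] at hg
  rcases hg with hg | hg
  · exact hk1 g hg
  · exact absurd hg (hnoneg (p g))

theorem h66_gcd4_add_even {q l : ℕ} (hq : q % 2 = 0) (hl : 1 ≤ l) : Nat.gcd 4 (q ^ l + 1) = 1 := by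
  have h1 : q ^ l % 2 = 0 := by
    rw [Nat.pow_mod, hq, zero_pow (by omega)]; rfl
  have h3 : (q ^ l + 1) % 4 = 1 ∨ (q ^ l + 1) % 4 = 3 := by omega
  rw [Cfsg.Agent.Lib.Helper66_S96.h66_gcd4]
  rcases h3 with h3 | h3 <;> rw [h3] <;> rfl

theorem h66_pow_mod4 {q : ℕ} (hq : q % 2 = 1) (m : ℕ) :
    q ^ (m + 1) % 4 = 3 ↔ (Even m ∧ q % 4 = 3) := by
  have hq4 : q % 4 = 1 ∨ q % 4 = 3 := by omega
  rw [Nat.pow_mod]
  rcases hq4 with h | h
  · rw [h]; simp
  · rw [h]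
    rcases Nat.even_or_odd m with hm | hm
    · obtain ⟨k, rfl⟩ := hm
      have : 3 ^ (k + k + 1) % 4 = 3 := by
        rw [pow_succ, ← two_mul, pow_mul, Nat.mul_mod, Nat.pow_mod]; norm_num
      rw [this]
      simp
    · obtain ⟨k, rfl⟩ := hm
      have : 3 ^ (2 * k + 1 + 1) % 4 = 1 := by
        rw [show 2 * k + 1 + 1 = 2 * (k + 1) by ring, pow_mul, Nat.pow_mod]; norm_num
      rw [this]
      simp

theorem h66_pow_mod4' {q : ℕ} (hq : q % 2 = 1) (l : ℕ) : q ^ l % 4 = 1 ∨ q ^ l % 4 = 3 := by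
  have h1 : q ^ l % 2 = 1 := by
    rw [Nat.pow_mod, hq, one_pow]; rfl
  omega

theorem h66_gcd4_add_two {q m : ℕ} (hq : q % 2 = 1) (h : ¬ (Even m ∧ q % 4 = 3)) :
    Nat.gcd 4 (q ^ (m + 1) + 1) = 2 := by
  have h1 : q ^ (m + 1) % 4 ≠ 3 := fun h' => h ((h66_pow_mod4 hq m).mp h')
  have h2 := h66_pow_mod4' hq (m + 1)
  have h3 : (q ^ (m + 1) + 1) % 4 = 2 := by omega
  rw [Cfsg.Agent.Lib.Helper66_S96.h66_gcd4, h3]; rfl

theorem h66_gcd4_add_four {q m : ℕ} (hq : q % 2 = 1) (h : Even m ∧ q % 4 = 3) :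
    Nat.gcd 4 (q ^ (m + 1) + 1) = 4 := by
  have h1 : q ^ (m + 1) % 4 = 3 := (h66_pow_mod4 hq m).mpr h
  have h3 : (q ^ (m + 1) + 1) % 4 = 0 := by omega
  rw [Cfsg.Agent.Lib.Helper66_S96.h66_gcd4, h3]; rfl

/-- the norm of an element `lam` with `σ lam = -lam` is a square in `F` when `-1` is not -/
theorem exists_mu {F : Type*} [Field F] [Fintype F] {L : Type*} [Field L] [Algebra F L]
    {Q0 : QuadraticForm F L} {σ : L → L} (hσ : IsNrm Q0 σ) (h3 : Fintype.card F % 4 = 3)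
    (lam : L) (hlam : lam ≠ 0) (hs : σ lam = -lam) : ∃ mu : F, mu * mu = Q0 lam := by
  classical
  have h2 : ringChar F ≠ 2 := by
    intro h
    have := FiniteField.even_card_iff_char_two.mp h
    omega
  have h2F : (2 : F) ≠ 0 := by
    intro h
    apply h2
    exact CharP.ringChar_of_prime_eq_zero Nat.prime_two (by exact_mod_cast h)
  have hneg : ¬ IsSquare (-1 : F) := by
    rw [FiniteField.isSquare_neg_one_iff]
    omega
  by_contra hcon
  have hns : ¬ IsSquare (Q0 lam) := by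
    rintro ⟨mu, hmu⟩
    exact hcon ⟨mu, hmu.symm⟩
  have hN0 : Q0 lam ≠ 0 := by
    intro h
    apply hns
    rw [h]
    exact ⟨0, by simp⟩
  have hsq : IsSquare (-1 * Q0 lam) := by
    have e1 := (quadraticChar_neg_one_iff_not_isSquare (F := F)).mpr hneg
    have e2 := (quadraticChar_neg_one_iff_not_isSquare (F := F)).mpr hns
    have e3 : quadraticChar F (-1 * Q0 lam) = 1 := by
      rw [map_mul, e1, e2]; norm_num
    exact (quadraticChar_one_iff_isSquare (mul_ne_zero (neg_ne_zero.mpr one_ne_zero) hN0)).mp e3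
  obtain ⟨s, hs'⟩ := hsq
  -- `lam ^ 2 = s ^ 2` in `L`
  have e1 : algebraMap F L (Q0 lam) = lam * σ lam := hσ.nrm lam
  have e2 : lam * lam = algebraMap F L s * algebraMap F L s := by
    rw [← map_mul, ← hs', map_mul, map_neg, map_one, e1, hs]
    ring
  have e3 : (lam - algebraMap F L s) * (lam + algebraMap F L s) = 0 := by
    linear_combination e2
  have hfix : σ lam = lam := by
    rcases mul_eq_zero.mp e3 with h | h
    · rw [sub_eq_zero.mp h, hσ.fix]
    · have : lam = algebraMap F L (-s) := by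
        rw [map_neg]
        exact eq_neg_of_add_eq_zero_left h
      rw [this, hσ.fix]
  rw [hs] at hfix
  have e4 : (2 : L) * lam = 0 := by linear_combination -hfix
  have h2L : (2 : L) ≠ 0 := by
    intro h
    apply h2F
    have : algebraMap F L 2 = algebraMap F L 0 := by rw [map_ofNat, map_zero, h]
    exact (algebraMap F L).injective this
  rcases mul_eq_zero.mp e4 with h | h
  · exact h2L h
  · exact hlam h

/-- S2099 -/
theorem schur_minus (n : ℕ) (hn : 3 ≤ n) (F : Type u) [Field F] [Fintype F] (a b : F)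
    (hab : ∀ z₁ z₂ : F, z₁ ^ 2 + a * z₁ * z₂ + b * z₂ ^ 2 = 0 → z₁ = 0 ∧ z₂ = 0) :
    Cfsg.HasSchurMultiplier (Cfsg.POmega F (Cfsg.quadFormMinus n F a b))
      (Multiplicative (ZMod (Nat.gcd 4 (Fintype.card F ^ (n + 1) + 1)))) := by
  obtain ⟨L, _, _, _, Q0, σ, act, XO, XSO, hσ, hM, hB, hL, hlam, hnoneg, hneg⟩ :=
    exists_model_minus n hn F a b hab
  have hlift : LiftHypB F n Q0 σ (Cfsg.POmega F (Cfsg.quadFormMinus n F a b)) :=
    liftHypB_of_three F n _ _ _ hn hσ hB hL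
  obtain ⟨Gh, _, Y, YS, p, θ, z, hY, hgen, hρ, hps, hker, hz, hzc, hzz, hz1, hk1, hρz, key⟩ :=
    schur_commonB F (Cfsg.quadFormMinus n F a b) n Q0 σ hn hσ hM hlift
  by_cases h2 : (2 : F) = 0
  · have hq : Fintype.card F % 2 = 0 := (Cfsg.Agent.Lib.Helper66_S96.h66_two_eq_zero_iff F).mp h2
    rw [h66_gcd4_add_even hq (by omega)]
    apply key
    refine (mulEquiv_zmod1_of θ.ker ?_).1
    intro g hg
    rw [MonoidHom.mem_ker, hker] at hg
    have hg1 : act (p g) = 1 := by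
      rcases hg with hg | hg
      · exact hg
      · rw [hg, h66_neg_end_ne h2]
    rcases hk1 g hg1 with h | h
    · exact h
    · rw [h, ← hz (Sum.inl ⟨0, by omega⟩)]
      have h2L : (2 : L) = 0 := by
        have := congrArg (algebraMap F L) h2
        rwa [map_ofNat, map_zero] at this
      exact zS_eq_one_of_neg_one_eq σ YS (h66_neg_one_eq_one' h2L) _
  · have hq : Fintype.card F % 2 = 1 := by
      have := (Cfsg.Agent.Lib.Helper66_S96.h66_two_eq_zero_iff F).not.mp h2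
      omega
    have hqodd : Odd (Fintype.card F) := Nat.odd_iff.mpr hq
    have hzmem : z ∈ θ.ker := by
      rw [MonoidHom.mem_ker, hker]
      exact Or.inl hρz
    by_cases hcase : Even n ∧ Fintype.card F % 4 = 3
    · rw [h66_gcd4_add_four hq hcase]
      obtain ⟨lam, hlam0, hlams⟩ := hlam h2
      obtain ⟨mu, hmu⟩ := exists_mu hσ hcase.2 lam hlam0 hlams
      obtain ⟨c, hρc, hcc⟩ := exists_neg_minus hσ hY hgen (act.comp p) hρ
        (by rw [Fintype.card_fin]; exact hcase.1) (by rw [Fintype.card_fin]; exact hn)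
        lam hlam0 hlams mu hmu z hz hk1
      have hcmem : c ∈ θ.ker := by
        rw [MonoidHom.mem_ker, hker]
        exact Or.inr hρc
      apply key
      apply mulEquiv_zmod4_of θ.ker z c hcmem (hz1 h2) hcc hzz
      intro g hg
      rw [MonoidHom.mem_ker, hker] at hg
      exact ker_cases_negB (act.comp p) z hk1 c hρc g hg
    · rw [h66_gcd4_add_two hq hcase]
      apply key
      apply mulEquiv_zmod2_of θ.ker z hzmem (hz1 h2)
      intro g hg
      rw [MonoidHom.mem_ker, hker] at hg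
      rcases hg with hg | hg
      · exact hk1 g hg
      · exact absurd hg (hnoneg hqodd hcase (p g))

end final

end Cfsg.Agent.Lib.Helper66_S94
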