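import Mathlib
import Cfsg.Agent.Lib.Helper66_S94OddDefs
import Cfsg.Agent.S0821

set_option autoImplicit false
set_option linter.unusedVariables false

/-!
ODD MODEL of S2094 (helper66), package ODD_CENTER (helper74): the centre of `Ω_{2m+1}(F)` is trivial
(`Cfsg.Agent.S0821.center_omega_odd`), so an element acts as `±1` on the model space iff it is `1`, and no
element acts as `-1`.
-/

namespace Cfsg.Agent.Lib.Helper66_S94

open Matrix Cfsg.Agent.Lib.Helper66_S92 Cfsg.Agent.Lib.Helper66_S96 Cfsg.Agent.Lib.Helper74_S94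
  Cfsg.Agent.Lib.Helper68_StOoDefs

variable {m : ℕ} {F : Type*} [Field F] [Fintype F] [NeZero (2 : F)]

theorem h74_odd_card : Odd (Fintype.card F) := by
  rw [← Nat.not_even_iff_odd]
  intro hev
  have h1 : ringChar F = 2 := FiniteField.even_card_iff_char_two.mpr (Nat.even_iff.mp hev)
  have h2 := CharP.cast_eq_zero F (ringChar F)
  rw [h1] at h2
  have h3 : (2 : F) = 0 := by exact_mod_cast h2
  exact two_ne_zero h3

theorem h74_act_ne_neg (hm : 3 ≤ m) (g : GO m F) : actOdd m F g ≠ -1 := by
  intro hg
  have hcen : g ∈ Subgroup.center (GO m F) := by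
    rw [Subgroup.mem_center_iff]
    intro h
    apply actOdd_injective m F
    rw [map_mul, map_mul, hg]
    apply LinearMap.ext
    intro x
    simp only [Module.End.mul_apply, LinearMap.neg_apply, Module.End.one_apply, map_neg]
  rw [Cfsg.Agent.S0821.center_omega_odd h74_odd_card m hm, Subgroup.mem_bot] at hcen
  rw [hcen, map_one] at hg
  have h1 := LinearMap.congr_fun hg ((0 : Fin m ⊕ Fin m → F), (1 : F))
  have h2 := congrArg Prod.snd h1
  simp only [Module.End.one_apply, LinearMap.neg_apply, Prod.snd_neg] at h2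
  have h3 : (2 : F) = 0 := by linear_combination h2
  exact two_ne_zero h3

theorem center_odd (hm : 3 ≤ m) (g : GO m F) :
    (g ∈ Subgroup.center (GO m F) ↔ (actOdd m F g = 1 ∨ actOdd m F g = -1)) ∧
      actOdd m F g ≠ -1 := by
  refine ⟨⟨?_, ?_⟩, h74_act_ne_neg hm g⟩
  · intro hg
    rw [Cfsg.Agent.S0821.center_omega_odd h74_odd_card m hm, Subgroup.mem_bot] at hg
    left
    rw [hg, map_one]
  · rintro (hg | hg)
    · have : g = 1 := actOdd_injective m F (by rw [hg, map_one])
      rw [this]
      exact one_mem _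
    · exact absurd hg (h74_act_ne_neg hm g)

end Cfsg.Agent.Lib.Helper66_S94
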