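import Mathlib
import Cfsg.Agent.Lib.Helper66_S94OddDefs
import Cfsg.Agent.Lib.Helper14_S94_ODDACT
import Cfsg.Agent.Lib.Helper74_S94_ODDCENTER
import Cfsg.Agent.Lib.Helper22_S94_ODDGEN
import Cfsg.Agent.Lib.Helper44_FinSq

set_option autoImplicit false
set_option linter.unusedVariables false

/-!
The model of the Steinberg relations of type `B_m` in `Ω_{2m+1}(F)` (helper66, S2094): assembly of the
packages ODD_ACT, ODD_GEN, ODD_CENTER.
-/

namespace Cfsg.Agent.Lib.Helper66_S94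

open Matrix Cfsg.Agent.Lib.Helper66_S92 Cfsg.Agent.Lib.Helper66_S96 Cfsg.Agent.Lib.Helper74_S94
  Cfsg.Agent.Lib.Helper68_StOoDefs

universe u

theorem exists_model_odd (m : ℕ) (hm : 3 ≤ m) (F : Type u) [Field F] [Fintype F]
    (hq : Odd (Fintype.card F)) :
    ∃ (act : ↥(Cfsg.Omega F (Cfsg.quadFormOdd m F)) →*
        Module.End F ((Fin m ⊕ Fin m → F) × F))
      (XO : Fin m ⊕ Fin m → Fin m ⊕ Fin m → F → ↥(Cfsg.Omega F (Cfsg.quadFormOdd m F)))
      (XSO : Fin m ⊕ Fin m → F → ↥(Cfsg.Omega F (Cfsg.quadFormOdd m F))),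
      IsModelB (Cfsg.quadFormOdd m F) (QuadraticMap.sq (R := F)) act XO XSO ∧
      ∀ g, act g ≠ -1 := by
  have h2 : (2 : F) ≠ 0 := Cfsg.Agent.Lib.Helper44_FinSq.two_ne_zero_of_odd_card hq
  have : NeZero (2 : F) := ⟨h2⟩
  refine ⟨actOdd m F, XOo, XSOo, ⟨actOdd_injective m F, isActB_odd, gen_odd (by omega), ?_⟩, ?_⟩
  · intro g
    exact (center_odd hm g).1
  · intro g
    exact (center_odd hm g).2

end Cfsg.Agent.Lib.Helper66_S94
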