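import Mathlib
import Cfsg.Agent.Lib.Helper66_S96Final
import Cfsg.Agent.Lib.Helper14_S96_STEIN4

set_option autoImplicit false

/-!
The lifting hypothesis for `D_4(q)`, `q ≥ 3` (helper66, S2097), from helper14's
`exists_dStAB_lift_four`.
-/

namespace Cfsg.Agent.Lib.Helper66_S96

open Cfsg.Agent.Lib.Helper5_SteinbergA Cfsg.Agent.Lib.Helper66_S92 Cfsg.Agent.Lib.Helper81_UceA

universe u

theorem liftHyp_of_four (F : Type u) [Field F] [Fintype F] (hq : 3 ≤ Fintype.card F) :
    LiftHyp 4 F := by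
  intro Gh _ Y θ hY Γ _ σ hσ
  have hXS : DStAB (fun a c t => θ (Y a c t)) := dStAB_map θ hY
  have hD : DSt (fun a c t => θ (Y a c t)) := dSt_of_dStAB hXS (by rw [Fintype.card_fin]; omega)
  have C : WCalcD (fun a c t => θ (Y a c t)) := wCalcD_of_dSt hD
  exact exists_dStAB_lift_four (by rw [Fintype.card_fin]) hq hσ hXS C

end Cfsg.Agent.Lib.Helper66_S96
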