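import Mathlib
import Cfsg.Prelude.Def_KGroupFacts
import Cfsg.Agent.Lib.Helper66_S96Model
import Cfsg.Agent.Lib.Helper14_S96_STEIN4

set_option autoImplicit false

/-!
Definitions for S2098 (helper66): the Schur multiplier of `PΩ⁺₈(2)` is a four-group.

* Upper bound: for a central extension `σ : Γ →* PΩ⁺₈(F)` the central commutators
  `h14q_C hσ (XS4 F) p q p2 q2 t u` of lifts of two orthogonal root elements with disjoint supports generate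
  the subgroup `Z1 F hσ`; modulo `Z1` the root elements lift to a `DStAB` family, so `ker σ = Z1`, and by
  Weyl group invariance `Z1` is generated by two involutions.
* Lower bound: two projective representations `GL₈(𝔽₃) / {±1}` of `Ω⁺₈(2)` (the embedding into
  `W(E₈)' / {±1}` and its twist by triality), given by tables `XA`, `XB` of `24` involutory matrices.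

Index codes: `cd (inl i) = i`, `cd (inr i) = i + 4`.  `rA k`, `rB k` (`k < 24`) are the matrices of the
`k`-th pair `(a, c)` (`cd a < cd c`, different supports, lexicographic order), `rA 24 = rB 24 = 1`.
-/

namespace Cfsg.Agent.Lib.Helper66_S98

open Cfsg.Agent.Lib.Helper66_S92 Cfsg.Agent.Lib.Helper66_S96 Cfsg.Agent.Lib.Helper81_UceA
  Cfsg.Agent.Lib.Helper35_SteinAbs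

universe u v

/-- the index set of the `D₄` root elements -/
abbrev I4 : Type := Fin 4 ⊕ Fin 4

/-- `8 × 8` matrices over `𝔽₃` -/
abbrev M8 : Type := Matrix (Fin 8) (Fin 8) (ZMod 3)

/-- four indices with pairwise distinct supports -/
def Dist4 (p q p2 q2 : I4) : Prop :=
  h14_sp p ≠ h14_sp q ∧ h14_sp p ≠ h14_sp p2 ∧ h14_sp p ≠ h14_sp q2 ∧ h14_sp q ≠ h14_sp p2 ∧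
    h14_sp q ≠ h14_sp q2 ∧ h14_sp p2 ≠ h14_sp q2

/-! ### the upper bound -/

section upper

variable (F : Type u) [Field F]

/-- `PΩ⁺₈(F)` -/
abbrev S4 : Type u := Cfsg.POmega F (Cfsg.quadFormPlus 4 F)

/-- the projection `Ω⁺₈(F) → PΩ⁺₈(F)` -/
def qm4 : OmP 4 F →* S4 F := QuotientGroup.mk' (Subgroup.center (OmP 4 F))

/-- the root elements of `PΩ⁺₈(F)` -/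
noncomputable def XS4 (a c : I4) (t : F) : S4 F := qm4 F (XO 4 F a c t)

variable {F} {Γ : Type v} [Group Γ] {σ : Γ →* S4 F}

/-- the subgroup generated by the central commutators of lifts of orthogonal root elements with
disjoint supports -/
def Z1 (hσ : CExt σ) : Subgroup Γ :=
  Subgroup.closure {g | ∃ p q p2 q2 t u, Dist4 p q p2 q2 ∧ g = h14q_C hσ (XS4 F) p q p2 q2 t u}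

/-- the first generator of `Z1` -/
noncomputable def cPlus (hσ : CExt σ) : Γ :=
  h14q_C hσ (XS4 F) (Sum.inl 0) (Sum.inl 1) (Sum.inl 2) (Sum.inl 3) 1 1

/-- the second generator of `Z1` -/
noncomputable def cMinus (hσ : CExt σ) : Γ :=
  h14q_C hσ (XS4 F) (Sum.inl 0) (Sum.inl 1) (Sum.inl 2) (Sum.inr 3) 1 1

end upper

/-! ### the lower bound: the tables -/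

/-- the code of an index -/
def cd : I4 → Fin 8 := Sum.elim (Fin.castAdd 4) (Fin.natAdd 4)

def rA : Fin 25 → M8 := ![
  !![2, 1, 2, 0, 0, 0, 0, 0; 0, 0, 2, 0, 0, 0, 0, 0; 0, 2, 0, 0, 0, 0, 0, 0; 0, 0, 1, 1, 2, 0, 0, 0; 0, 2, 1, 0, 2, 0, 0, 0; 0, 0, 0, 0, 2, 0, 0, 1; 0, 1, 2, 0, 2, 0, 1, 0; 0, 2, 1, 0, 2, 1, 0, 0],
  !![1, 0, 0, 1, 2, 0, 0, 0; 2, 2, 0, 1, 2, 0, 0, 0; 2, 0, 1, 2, 0, 0, 0, 0; 1, 0, 0, 1, 1, 0, 0, 0; 1, 0, 0, 2, 0, 0, 0, 0; 0, 0, 0, 0, 2, 1, 2, 0; 2, 0, 0, 1, 2, 0, 2, 0; 1, 0, 0, 2, 1, 0, 2, 1],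
  !![2, 0, 0, 0, 0, 0, 0, 0; 1, 2, 0, 0, 1, 0, 0, 0; 1, 0, 2, 0, 1, 0, 0, 0; 2, 0, 0, 2, 2, 0, 0, 0; 2, 0, 0, 0, 1, 0, 0, 0; 0, 0, 0, 0, 0, 1, 0, 0; 1, 0, 0, 0, 0, 0, 1, 0; 2, 0, 0, 0, 0, 0, 0, 1],
  !![2, 1, 2, 0, 0, 0, 0, 0; 0, 0, 2, 0, 0, 0, 0, 0; 0, 2, 0, 0, 0, 0, 0, 0; 0, 0, 1, 1, 2, 0, 0, 0; 0, 2, 1, 0, 2, 0, 0, 0; 0, 0, 0, 0, 2, 0, 1, 2; 0, 1, 2, 0, 2, 0, 1, 0; 0, 2, 1, 0, 0, 2, 1, 0],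
  !![1, 1, 1, 2, 0, 0, 0, 0; 2, 0, 1, 2, 0, 0, 0, 0; 2, 2, 0, 1, 2, 0, 0, 0; 1, 0, 2, 2, 2, 0, 0, 0; 1, 2, 2, 1, 2, 0, 0, 0; 0, 0, 0, 0, 2, 1, 2, 0; 2, 1, 1, 2, 0, 0, 2, 0; 1, 2, 2, 1, 0, 0, 2, 1],
  !![2, 2, 0, 0, 2, 0, 0, 0; 0, 0, 0, 0, 1, 0, 0, 0; 0, 1, 2, 0, 1, 0, 0, 0; 0, 0, 0, 2, 0, 0, 0, 0; 0, 1, 0, 0, 0, 0, 0, 0; 0, 0, 0, 0, 0, 1, 0, 0; 0, 2, 0, 0, 1, 0, 1, 0; 0, 1, 0, 0, 2, 0, 0, 1],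
  !![1, 0, 0, 0, 1, 2, 0, 0; 2, 2, 0, 0, 1, 2, 0, 0; 2, 2, 0, 0, 0, 0, 0, 1; 0, 1, 0, 0, 2, 1, 1, 0; 2, 1, 0, 0, 0, 1, 0, 0; 2, 1, 0, 0, 1, 0, 0, 0; 1, 1, 0, 1, 1, 2, 0, 0; 0, 2, 1, 0, 2, 1, 0, 0],
  !![2, 0, 0, 0, 0, 0, 0, 0; 1, 0, 1, 0, 2, 1, 0, 2; 1, 1, 0, 0, 2, 1, 0, 2; 0, 0, 0, 1, 1, 2, 0, 1; 1, 0, 0, 0, 2, 2, 0, 1; 1, 0, 0, 0, 0, 1, 0, 1; 2, 0, 0, 0, 0, 0, 1, 1; 0, 0, 0, 0, 0, 0, 0, 2],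
  !![2, 1, 2, 0, 0, 0, 0, 0; 0, 0, 2, 0, 0, 0, 0, 0; 0, 2, 0, 0, 0, 0, 0, 0; 0, 0, 1, 0, 0, 1, 2, 0; 0, 1, 0, 0, 0, 1, 0, 2; 0, 2, 2, 0, 0, 1, 0, 0; 0, 1, 2, 2, 0, 1, 0, 0; 0, 2, 1, 0, 2, 1, 0, 0],
  !![1, 0, 0, 0, 0, 0, 0, 1; 2, 2, 0, 0, 0, 0, 0, 1; 2, 2, 0, 0, 1, 2, 0, 0; 0, 1, 0, 0, 1, 2, 1, 1; 2, 1, 0, 0, 1, 0, 0, 2; 2, 2, 2, 0, 1, 0, 0, 0; 1, 2, 2, 1, 0, 0, 0, 1; 0, 0, 0, 0, 0, 0, 0, 2],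
  !![2, 1, 2, 0, 1, 2, 0, 1; 0, 1, 1, 0, 2, 1, 0, 2; 0, 2, 0, 0, 2, 1, 0, 2; 0, 2, 1, 1, 0, 0, 0, 0; 0, 2, 2, 0, 0, 1, 0, 2; 0, 1, 0, 0, 0, 1, 0, 1; 0, 1, 1, 0, 2, 1, 1, 0; 0, 1, 2, 0, 1, 2, 0, 0],
  !![1, 0, 0, 0, 0, 0, 0, 0; 1, 2, 0, 1, 0, 0, 2, 0; 2, 0, 2, 1, 0, 0, 2, 0; 2, 0, 0, 1, 0, 0, 1, 0; 2, 0, 0, 0, 1, 0, 1, 0; 2, 0, 0, 0, 0, 1, 1, 0; 2, 0, 0, 0, 0, 0, 2, 0; 1, 0, 0, 0, 0, 0, 0, 2],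
  !![1, 0, 0, 0, 0, 1, 2, 0; 2, 2, 0, 0, 0, 1, 2, 0; 2, 0, 1, 2, 0, 0, 0, 0; 1, 0, 0, 2, 0, 2, 1, 0; 0, 0, 0, 2, 1, 2, 0, 0; 2, 0, 0, 0, 0, 0, 2, 0; 2, 0, 0, 0, 0, 1, 1, 0; 1, 0, 0, 0, 0, 2, 0, 1],
  !![1, 0, 0, 0, 1, 2, 0, 0; 2, 2, 0, 0, 1, 2, 0, 0; 2, 2, 0, 0, 0, 0, 1, 2; 0, 1, 0, 0, 2, 1, 1, 0; 2, 1, 0, 0, 0, 1, 0, 0; 2, 1, 0, 0, 1, 0, 0, 0; 1, 1, 0, 1, 1, 2, 0, 0; 1, 2, 2, 1, 2, 1, 0, 0],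
  !![2, 0, 0, 2, 0, 0, 1, 0; 2, 1, 0, 1, 0, 0, 2, 0; 1, 1, 2, 1, 0, 0, 2, 0; 2, 2, 0, 2, 0, 0, 0, 0; 1, 2, 0, 2, 1, 0, 2, 0; 0, 2, 0, 0, 0, 1, 1, 0; 2, 2, 0, 1, 0, 0, 1, 0; 1, 1, 0, 2, 0, 0, 1, 2],
  !![2, 0, 0, 0, 0, 0, 0, 0; 1, 2, 0, 1, 0, 2, 1, 0; 1, 0, 2, 1, 0, 2, 1, 0; 2, 0, 0, 1, 0, 1, 2, 0; 0, 0, 0, 0, 1, 1, 2, 0; 1, 0, 0, 0, 0, 2, 2, 0; 1, 0, 0, 0, 0, 0, 1, 0; 2, 0, 0, 0, 0, 0, 0, 1],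
  !![2, 0, 0, 0, 0, 0, 0, 0; 1, 0, 1, 0, 2, 1, 2, 1; 1, 1, 0, 0, 2, 1, 2, 1; 0, 0, 0, 1, 1, 2, 1, 2; 1, 0, 0, 0, 2, 2, 1, 2; 1, 0, 0, 0, 0, 1, 1, 2; 2, 0, 0, 0, 0, 0, 2, 2; 2, 0, 0, 0, 0, 0, 0, 1],
  !![1, 0, 0, 0, 0, 0, 0, 0; 1, 0, 1, 2, 0, 0, 1, 0; 2, 1, 0, 2, 0, 0, 1, 0; 0, 0, 0, 2, 0, 0, 2, 0; 2, 0, 0, 0, 2, 0, 2, 0; 1, 0, 0, 0, 0, 2, 2, 0; 0, 0, 0, 0, 0, 0, 1, 0; 0, 0, 0, 0, 0, 0, 0, 1],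
  !![2, 1, 2, 0, 0, 0, 0, 0; 0, 0, 2, 0, 0, 0, 0, 0; 0, 2, 0, 0, 0, 0, 0, 0; 0, 0, 1, 0, 0, 1, 2, 0; 0, 1, 0, 0, 0, 1, 2, 1; 0, 2, 2, 0, 0, 1, 0, 0; 0, 1, 2, 2, 0, 1, 0, 0; 0, 2, 1, 2, 1, 0, 0, 0],
  !![1, 1, 1, 2, 0, 0, 0, 0; 2, 0, 1, 2, 0, 0, 0, 0; 2, 2, 0, 0, 0, 1, 2, 0; 1, 0, 2, 1, 0, 1, 2, 0; 0, 1, 0, 0, 1, 0, 2, 0; 2, 2, 1, 0, 0, 0, 2, 0; 2, 1, 1, 2, 0, 0, 2, 0; 1, 2, 2, 1, 0, 0, 2, 1],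
  !![2, 2, 0, 2, 0, 1, 2, 0; 0, 0, 0, 1, 0, 2, 1, 0; 0, 1, 2, 1, 0, 2, 1, 0; 0, 0, 0, 2, 0, 0, 0, 0; 0, 2, 0, 2, 1, 2, 1, 0; 0, 1, 0, 0, 0, 2, 2, 0; 0, 2, 0, 1, 0, 2, 2, 0; 0, 1, 0, 2, 0, 1, 2, 1],
  !![1, 0, 0, 0, 0, 0, 1, 2; 2, 2, 0, 0, 0, 0, 1, 2; 2, 2, 0, 0, 1, 2, 0, 0; 0, 1, 0, 0, 1, 2, 2, 2; 2, 1, 0, 0, 1, 0, 2, 1; 2, 2, 2, 0, 1, 0, 0, 0; 1, 2, 2, 1, 0, 0, 1, 2; 1, 2, 2, 1, 0, 0, 2, 1],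
  !![2, 1, 2, 0, 1, 2, 1, 2; 0, 1, 1, 0, 2, 1, 2, 1; 0, 2, 0, 0, 2, 1, 2, 1; 0, 2, 1, 1, 0, 0, 0, 0; 0, 2, 2, 0, 0, 1, 2, 1; 0, 1, 0, 0, 0, 1, 1, 2; 0, 1, 1, 0, 2, 1, 1, 0; 0, 0, 2, 0, 1, 2, 1, 0],
  !![2, 2, 2, 1, 0, 0, 2, 0; 2, 2, 1, 2, 0, 0, 1, 0; 1, 2, 0, 2, 0, 0, 1, 0; 2, 1, 1, 1, 0, 0, 0, 0; 1, 1, 2, 1, 2, 0, 1, 0; 0, 1, 0, 0, 0, 2, 2, 0; 2, 1, 1, 2, 0, 0, 2, 0; 1, 2, 2, 1, 0, 0, 2, 1],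
  !![1, 0, 0, 0, 0, 0, 0, 0; 0, 1, 0, 0, 0, 0, 0, 0; 0, 0, 1, 0, 0, 0, 0, 0; 0, 0, 0, 1, 0, 0, 0, 0; 0, 0, 0, 0, 1, 0, 0, 0; 0, 0, 0, 0, 0, 1, 0, 0; 0, 0, 0, 0, 0, 0, 1, 0; 0, 0, 0, 0, 0, 0, 0, 1]]

def rB : Fin 25 → M8 := ![
  !![2, 1, 2, 0, 0, 0, 0, 0; 0, 0, 2, 0, 0, 0, 0, 0; 0, 2, 0, 0, 0, 0, 0, 0; 0, 0, 1, 1, 2, 0, 0, 0; 0, 2, 1, 0, 2, 0, 0, 0; 0, 0, 0, 0, 2, 0, 0, 1; 0, 1, 2, 0, 2, 0, 1, 0; 0, 2, 1, 0, 2, 1, 0, 0],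
  !![1, 0, 0, 1, 2, 0, 0, 0; 2, 2, 0, 1, 2, 0, 0, 0; 2, 0, 1, 2, 0, 0, 0, 0; 1, 0, 0, 1, 1, 0, 0, 0; 1, 0, 0, 2, 0, 0, 0, 0; 0, 0, 0, 0, 2, 1, 2, 0; 2, 0, 0, 1, 2, 0, 2, 0; 1, 0, 0, 2, 1, 0, 2, 1],
  !![2, 2, 0, 0, 2, 0, 0, 0; 0, 0, 0, 0, 1, 0, 0, 0; 0, 1, 2, 0, 1, 0, 0, 0; 0, 0, 0, 2, 0, 0, 0, 0; 0, 1, 0, 0, 0, 0, 0, 0; 0, 0, 0, 0, 0, 1, 0, 0; 0, 2, 0, 0, 1, 0, 1, 0; 0, 1, 0, 0, 2, 0, 0, 1],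
  !![2, 0, 0, 2, 0, 0, 1, 0; 2, 1, 0, 1, 0, 0, 2, 0; 1, 1, 2, 1, 0, 0, 2, 0; 2, 2, 0, 2, 0, 0, 0, 0; 1, 2, 0, 2, 1, 0, 2, 0; 0, 2, 0, 0, 0, 1, 1, 0; 2, 2, 0, 1, 0, 0, 1, 0; 1, 1, 0, 2, 0, 0, 1, 2],
  !![2, 1, 2, 0, 1, 2, 0, 1; 0, 1, 1, 0, 2, 1, 0, 2; 0, 2, 0, 0, 2, 1, 0, 2; 0, 2, 1, 1, 0, 0, 0, 0; 0, 2, 2, 0, 0, 1, 0, 2; 0, 1, 0, 0, 0, 1, 0, 1; 0, 1, 1, 0, 2, 1, 1, 0; 0, 1, 2, 0, 1, 2, 0, 0],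
  !![1, 0, 0, 0, 1, 2, 0, 0; 2, 2, 0, 0, 1, 2, 0, 0; 2, 2, 0, 0, 0, 0, 0, 1; 0, 1, 0, 0, 2, 1, 1, 0; 2, 1, 0, 0, 0, 1, 0, 0; 2, 1, 0, 0, 1, 0, 0, 0; 1, 1, 0, 1, 1, 2, 0, 0; 0, 2, 1, 0, 2, 1, 0, 0],
  !![2, 0, 0, 0, 0, 0, 0, 0; 1, 2, 0, 0, 1, 0, 0, 0; 1, 0, 2, 0, 1, 0, 0, 0; 2, 0, 0, 2, 2, 0, 0, 0; 2, 0, 0, 0, 1, 0, 0, 0; 0, 0, 0, 0, 0, 1, 0, 0; 1, 0, 0, 0, 0, 0, 1, 0; 2, 0, 0, 0, 0, 0, 0, 1],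
  !![1, 1, 1, 2, 0, 0, 0, 0; 2, 0, 1, 2, 0, 0, 0, 0; 2, 2, 0, 1, 2, 0, 0, 0; 1, 0, 2, 2, 2, 0, 0, 0; 1, 2, 2, 1, 2, 0, 0, 0; 0, 0, 0, 0, 2, 1, 2, 0; 2, 1, 1, 2, 0, 0, 2, 0; 1, 2, 2, 1, 0, 0, 2, 1],
  !![1, 0, 0, 0, 0, 0, 0, 0; 1, 0, 1, 2, 0, 0, 1, 0; 2, 1, 0, 2, 0, 0, 1, 0; 0, 0, 0, 2, 0, 0, 2, 0; 2, 0, 0, 0, 2, 0, 2, 0; 1, 0, 0, 0, 0, 2, 2, 0; 0, 0, 0, 0, 0, 0, 1, 0; 0, 0, 0, 0, 0, 0, 0, 1],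
  !![1, 0, 0, 0, 0, 0, 0, 1; 2, 2, 0, 0, 0, 0, 0, 1; 2, 2, 0, 0, 1, 2, 0, 0; 0, 1, 0, 0, 1, 2, 1, 1; 2, 1, 0, 0, 1, 0, 0, 2; 2, 2, 2, 0, 1, 0, 0, 0; 1, 2, 2, 1, 0, 0, 0, 1; 0, 0, 0, 0, 0, 0, 0, 2],
  !![2, 0, 0, 0, 0, 0, 0, 0; 1, 0, 1, 0, 2, 1, 0, 2; 1, 1, 0, 0, 2, 1, 0, 2; 0, 0, 0, 1, 1, 2, 0, 1; 1, 0, 0, 0, 2, 2, 0, 1; 1, 0, 0, 0, 0, 1, 0, 1; 2, 0, 0, 0, 0, 0, 1, 1; 0, 0, 0, 0, 0, 0, 0, 2],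
  !![2, 1, 2, 0, 0, 0, 0, 0; 0, 0, 2, 0, 0, 0, 0, 0; 0, 2, 0, 0, 0, 0, 0, 0; 0, 0, 1, 1, 2, 0, 0, 0; 0, 2, 1, 0, 2, 0, 0, 0; 0, 0, 0, 0, 2, 0, 1, 2; 0, 1, 2, 0, 2, 0, 1, 0; 0, 2, 1, 0, 0, 2, 1, 0],
  !![2, 0, 0, 0, 0, 0, 0, 0; 1, 0, 1, 0, 2, 1, 2, 1; 1, 1, 0, 0, 2, 1, 2, 1; 0, 0, 0, 1, 1, 2, 1, 2; 1, 0, 0, 0, 2, 2, 1, 2; 1, 0, 0, 0, 0, 1, 1, 2; 2, 0, 0, 0, 0, 0, 2, 2; 2, 0, 0, 0, 0, 0, 0, 1],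
  !![1, 0, 0, 0, 1, 2, 0, 0; 2, 2, 0, 0, 1, 2, 0, 0; 2, 2, 0, 0, 0, 0, 1, 2; 0, 1, 0, 0, 2, 1, 1, 0; 2, 1, 0, 0, 0, 1, 0, 0; 2, 1, 0, 0, 1, 0, 0, 0; 1, 1, 0, 1, 1, 2, 0, 0; 1, 2, 2, 1, 2, 1, 0, 0],
  !![1, 0, 0, 0, 0, 0, 0, 0; 1, 2, 0, 1, 0, 0, 2, 0; 2, 0, 2, 1, 0, 0, 2, 0; 2, 0, 0, 1, 0, 0, 1, 0; 2, 0, 0, 0, 1, 0, 1, 0; 2, 0, 0, 0, 0, 1, 1, 0; 2, 0, 0, 0, 0, 0, 2, 0; 1, 0, 0, 0, 0, 0, 0, 2],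
  !![1, 0, 0, 0, 0, 0, 1, 2; 2, 2, 0, 0, 0, 0, 1, 2; 2, 2, 0, 0, 1, 2, 0, 0; 0, 1, 0, 0, 1, 2, 2, 2; 2, 1, 0, 0, 1, 0, 2, 1; 2, 2, 2, 0, 1, 0, 0, 0; 1, 2, 2, 1, 0, 0, 1, 2; 1, 2, 2, 1, 0, 0, 2, 1],
  !![2, 1, 2, 0, 1, 2, 1, 2; 0, 1, 1, 0, 2, 1, 2, 1; 0, 2, 0, 0, 2, 1, 2, 1; 0, 2, 1, 1, 0, 0, 0, 0; 0, 2, 2, 0, 0, 1, 2, 1; 0, 1, 0, 0, 0, 1, 1, 2; 0, 1, 1, 0, 2, 1, 1, 0; 0, 0, 2, 0, 1, 2, 1, 0],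
  !![2, 2, 2, 1, 0, 0, 2, 0; 2, 2, 1, 2, 0, 0, 1, 0; 1, 2, 0, 2, 0, 0, 1, 0; 2, 1, 1, 1, 0, 0, 0, 0; 1, 1, 2, 1, 2, 0, 1, 0; 0, 1, 0, 0, 0, 2, 2, 0; 2, 1, 1, 2, 0, 0, 2, 0; 1, 2, 2, 1, 0, 0, 2, 1],
  !![2, 1, 2, 0, 0, 0, 0, 0; 0, 0, 2, 0, 0, 0, 0, 0; 0, 2, 0, 0, 0, 0, 0, 0; 0, 0, 1, 0, 0, 1, 2, 0; 0, 1, 0, 0, 0, 1, 2, 1; 0, 2, 2, 0, 0, 1, 0, 0; 0, 1, 2, 2, 0, 1, 0, 0; 0, 2, 1, 2, 1, 0, 0, 0],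
  !![1, 1, 1, 2, 0, 0, 0, 0; 2, 0, 1, 2, 0, 0, 0, 0; 2, 2, 0, 0, 0, 1, 2, 0; 1, 0, 2, 1, 0, 1, 2, 0; 0, 1, 0, 0, 1, 0, 2, 0; 2, 2, 1, 0, 0, 0, 2, 0; 2, 1, 1, 2, 0, 0, 2, 0; 1, 2, 2, 1, 0, 0, 2, 1],
  !![2, 0, 0, 0, 0, 0, 0, 0; 1, 2, 0, 1, 0, 2, 1, 0; 1, 0, 2, 1, 0, 2, 1, 0; 2, 0, 0, 1, 0, 1, 2, 0; 0, 0, 0, 0, 1, 1, 2, 0; 1, 0, 0, 0, 0, 2, 2, 0; 1, 0, 0, 0, 0, 0, 1, 0; 2, 0, 0, 0, 0, 0, 0, 1],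
  !![2, 2, 0, 2, 0, 1, 2, 0; 0, 0, 0, 1, 0, 2, 1, 0; 0, 1, 2, 1, 0, 2, 1, 0; 0, 0, 0, 2, 0, 0, 0, 0; 0, 2, 0, 2, 1, 2, 1, 0; 0, 1, 0, 0, 0, 2, 2, 0; 0, 2, 0, 1, 0, 2, 2, 0; 0, 1, 0, 2, 0, 1, 2, 1],
  !![1, 0, 0, 0, 0, 1, 2, 0; 2, 2, 0, 0, 0, 1, 2, 0; 2, 0, 1, 2, 0, 0, 0, 0; 1, 0, 0, 2, 0, 2, 1, 0; 0, 0, 0, 2, 1, 2, 0, 0; 2, 0, 0, 0, 0, 0, 2, 0; 2, 0, 0, 0, 0, 1, 1, 0; 1, 0, 0, 0, 0, 2, 0, 1],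
  !![2, 1, 2, 0, 0, 0, 0, 0; 0, 0, 2, 0, 0, 0, 0, 0; 0, 2, 0, 0, 0, 0, 0, 0; 0, 0, 1, 0, 0, 1, 2, 0; 0, 1, 0, 0, 0, 1, 0, 2; 0, 2, 2, 0, 0, 1, 0, 0; 0, 1, 2, 2, 0, 1, 0, 0; 0, 2, 1, 0, 2, 1, 0, 0],
  !![1, 0, 0, 0, 0, 0, 0, 0; 0, 1, 0, 0, 0, 0, 0, 0; 0, 0, 1, 0, 0, 0, 0, 0; 0, 0, 0, 1, 0, 0, 0, 0; 0, 0, 0, 0, 1, 0, 0, 0; 0, 0, 0, 0, 0, 1, 0, 0; 0, 0, 0, 0, 0, 0, 1, 0; 0, 0, 0, 0, 0, 0, 0, 1]]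

def ridx : Fin 8 → Fin 8 → Fin 25 := ![
  ![24, 0, 1, 2, 24, 3, 4, 5],
  ![0, 24, 6, 7, 8, 24, 9, 10],
  ![1, 6, 24, 11, 12, 13, 24, 14],
  ![2, 7, 11, 24, 15, 16, 17, 24],
  ![24, 8, 12, 15, 24, 18, 19, 20],
  ![3, 24, 13, 16, 18, 24, 21, 22],
  ![4, 9, 24, 17, 19, 21, 24, 23],
  ![5, 10, 14, 24, 20, 22, 23, 24]]

/-- the first table -/
def XA (a c : I4) : M8 := rA (ridx (cd a) (cd c))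

/-- the second table (the first one twisted by triality) -/
def XB (a c : I4) : M8 := rB (ridx (cd a) (cd c))

/-- the properties of a table of matrices that make it a `DStAB` family modulo `±1` over `𝔽₂` -/
structure TabOK (X : I4 → I4 → M8) : Prop where
  sq : ∀ a c, X a c * X a c = 1
  symm : ∀ a c, X c a = X a c
  opp : ∀ a, X a (ng a) = 1
  diag : ∀ a, X a a = 1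
  comm : ∀ a c d e, d ≠ ng a → d ≠ ng c → e ≠ ng a → e ≠ ng c →
    X a c * X d e = X d e * X a c ∨ X a c * X d e = -(X d e * X a c)
  comm2 : ∀ a c, X a c * X (ng a) c = X (ng a) c * X a c ∨ X a c * X (ng a) c = -(X (ng a) c * X a c)
  a2 : ∀ a c e, a ≠ c → a ≠ ng c → a ≠ e → a ≠ ng e → c ≠ e → c ≠ ng e →
    X a c * X (ng c) e * X a c * X (ng c) e = X a e ∨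
      X a c * X (ng c) e * X a c * X (ng c) e = -X a e

/-- the subgroup `{1, -1}` of `GL₈(𝔽₃)` -/
def PM : Subgroup M8ˣ where
  carrier := {m | m = 1 ∨ m = -1}
  one_mem' := Or.inl rfl
  mul_mem' := by
    rintro a b (rfl | rfl) (rfl | rfl)
    · left; rw [mul_one]
    · right; rw [one_mul]
    · right; rw [mul_one]
    · left; rw [neg_mul_neg, mul_one]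
  inv_mem' := by
    rintro a (rfl | rfl)
    · left; rw [inv_one]
    · right; rw [inv_neg, inv_one]

theorem mem_PM (m : M8ˣ) : m ∈ PM ↔ m = 1 ∨ m = -1 := Iff.rfl

instance PM_normal : PM.Normal where
  conj_mem := by
    rintro n (rfl | rfl) g
    · left; rw [mul_one, mul_inv_cancel]
    · right; rw [mul_neg, mul_one, neg_mul, mul_inv_cancel]

/-- `GL₈(𝔽₃) / {±1}` -/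
abbrev PG8 : Type := M8ˣ ⧸ PM

open Classical in
/-- the unit of an involutory matrix of the table (`1` otherwise) -/
noncomputable def UX (X : I4 → I4 → M8) (a c : I4) : M8ˣ :=
  if h : X a c * X a c = 1 then ⟨X a c, X a c, h, h⟩ else 1

open Classical in
/-- the root elements of `GL₈(𝔽₃) / {±1}` over a field with two elements -/
noncomputable def ZX (X : I4 → I4 → M8) (F : Type u) [Zero F] (a c : I4) (t : F) : PG8 :=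
  if t = 0 then 1 else QuotientGroup.mk (UX X a c)

end Cfsg.Agent.Lib.Helper66_S98
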