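import Cfsg.Prelude.Def_KGroupFacts
import Cfsg.Agent.Lib.Helper66_SchurCore
import Mathlib

set_option autoImplicit false

/-!
# Schur multiplier: existence of covers and uniqueness of the multiplier
-/

open Cfsg
open scoped commutatorElement

namespace Cfsg.Agent.Lib.Helper66_SchurMain

open Cfsg.Agent.Lib.Helper66_SchurCore

universe u v w

/-- the identity is a stem extension -/
theorem isStemExtension_id (Q : Type*) [Group Q] : IsStemExtension (MonoidHom.id Q) := by
  refine ⟨fun q => ⟨q, rfl⟩, ?_, ?_⟩ <;>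
  · intro x hx
    rw [MonoidHom.mem_ker, MonoidHom.id_apply] at hx
    rw [hx]
    exact Subgroup.one_mem _

/-- every finite stem extension `τ` of `Q` is a quotient of a Schur cover built from `π` -/
theorem exists_cover_over {X : Type w} {Q : Type u} [Group Q] [Finite X] [Finite Q]
    (π : FreeGroup X →* Q) (hπ : Function.Surjective π) {Δ : Type*} [Group Δ]
    (τ : Δ →* Q) (hτ : IsStemExtension τ) :
    ∃ (Γ : Type w) (_ : Group Γ) (_ : Finite Γ) (σ : Γ →* Q), IsStemExtension σ ∧
      Nonempty (σ.ker ≃* T π) ∧ ∃ β : Γ →* Δ, Function.Surjective β ∧ τ.comp β = σ := by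
  obtain ⟨β, hβ⟩ := exists_lift π τ hτ.1 hτ.2.1
  obtain ⟨S, hS1, hS2, hS3, hS4⟩ := exists_complement π hπ τ hτ β hβ
  have hSn : S.Normal := normal_of_le_center (hS1.trans (ρ_ker_le_center π))
  have hstem := quotHom_isStem (ρ π) (ρ_surjective π hπ) (ρ_ker_le_center π) S hS1 hS4
  obtain ⟨e⟩ := quotHom_ker_equiv (ρ π) (ρ_ker_le_center π) S hS1 hS3 hS4
  have hfin : Finite (quotHom (ρ π) S hS1).ker := Finite.of_equiv (T π) e.toEquiv
  have hfinΓ : Finite (E π ⧸ S) := finite_of_ker_of_range (quotHom (ρ π) S hS1)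
  refine ⟨E π ⧸ S, inferInstance, hfinΓ, quotHom (ρ π) S hS1, hstem, ⟨e.symm⟩,
    QuotientGroup.lift S β (fun _ hx => hS2 hx), ?_, ?_⟩
  · intro d
    obtain ⟨x, rfl⟩ := surjective_of_stem (ρ π) (ρ_surjective π hπ) τ hτ β hβ d
    exact ⟨QuotientGroup.mk x, rfl⟩
  · apply MonoidHom.ext
    intro x
    obtain ⟨y, rfl⟩ := QuotientGroup.mk_surjective x
    exact DFunLike.congr_fun hβ y

/-- existence of a Schur cover built from `π` -/
theorem exists_cover {X : Type w} {Q : Type u} [Group Q] [Finite X] [Finite Q]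
    (π : FreeGroup X →* Q) (hπ : Function.Surjective π) :
    ∃ (Γ : Type w) (_ : Group Γ) (_ : Finite Γ) (σ : Γ →* Q), IsStemExtension σ ∧
      Nonempty (σ.ker ≃* T π) := by
  obtain ⟨Γ, i1, i2, σ, h1, h2, _⟩ := exists_cover_over π hπ (MonoidHom.id Q) (isStemExtension_id Q)
  exact ⟨Γ, i1, i2, σ, h1, h2⟩

/-- a finite group has an isomorphic copy in every universe -/
theorem exists_mulEquiv_universe (Γ : Type w) [Group Γ] [Finite Γ] :
    ∃ (Γ' : Type u) (_ : Group Γ') (_ : Finite Γ'), Nonempty (Γ' ≃* Γ) := by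
  obtain ⟨n, ⟨e⟩⟩ := Finite.exists_equiv_fin Γ
  let e' : ULift.{u} (Fin n) ≃ Γ := Equiv.ulift.trans e.symm
  let _ : Group (ULift.{u} (Fin n)) := e'.group
  exact ⟨ULift.{u} (Fin n), inferInstance, inferInstance, ⟨e'.mulEquiv⟩⟩

/-- precomposition with an isomorphism preserves stem extensions -/
theorem isStemExtension_comp_equiv {Γ : Type*} {Γ' : Type*} {Q : Type*} [Group Γ] [Group Γ'] [Group Q]
    (σ : Γ →* Q) (hσ : IsStemExtension σ) (e : Γ' ≃* Γ) :
    IsStemExtension (σ.comp e.toMonoidHom) := by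
  refine ⟨hσ.1.comp e.surjective, ?_, ?_⟩
  · intro x hx
    have h1 : e x ∈ σ.ker := hx
    have h2 := Subgroup.mem_center_iff.mp (hσ.2.1 h1)
    rw [Subgroup.mem_center_iff]
    intro g
    apply e.injective
    rw [map_mul, map_mul]
    exact h2 (e g)
  · intro x hx
    have h1 : e x ∈ σ.ker := hx
    have h2 : e x ∈ commutator Γ := hσ.2.2 h1
    have h3 : (commutator Γ).map e.symm.toMonoidHom ≤ commutator Γ' := by
      rw [commutator_def, Subgroup.map_commutator, commutator_def]
      exact Subgroup.commutator_mono le_top le_top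
    have h4 := h3 (Subgroup.mem_map_of_mem _ h2)
    simpa using h4

/-- kernel of a composite with an isomorphism -/
theorem ker_comp_equiv {Γ : Type*} {Γ' : Type*} {Q : Type*} [Group Γ] [Group Γ'] [Group Q]
    (σ : Γ →* Q) (e : Γ' ≃* Γ) : Nonempty ((σ.comp e.toMonoidHom).ker ≃* σ.ker) := by
  refine ⟨{ toFun := fun x => ⟨e x, x.2⟩
            invFun := fun y => ⟨e.symm y, by
              have h1 : σ (y : Γ) = 1 := y.2
              rw [MonoidHom.mem_ker, MonoidHom.comp_apply]
              simpa using h1⟩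
            left_inv := fun x => Subtype.ext (by simp)
            right_inv := fun y => Subtype.ext (by simp)
            map_mul' := fun x y => Subtype.ext (by
              change e ((x : Γ') * (y : Γ')) = e x * e y
              exact map_mul _ _ _) }⟩

/-- `T π` is the Schur multiplier of `Q` -/
theorem hasSchurMultiplier_T {X : Type u} {Q : Type u} [Group Q] [Finite X] [Finite Q]
    (π : FreeGroup X →* Q) (hπ : Function.Surjective π) : HasSchurMultiplier Q (T π) := by
  constructor
  · exact exists_cover π hπ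
  · intro Γ _ _ σ hσ
    exact exists_T_surjective π hπ σ hσ

/-- a group with a Schur multiplier is finite -/
theorem finite_of_hasSchurMultiplier {Q : Type u} [Group Q] {A : Type v} [CommGroup A]
    (hA : HasSchurMultiplier Q A) : Finite Q := by
  obtain ⟨Γ, _, _, σ, hσ, _⟩ := hA.1
  exact Finite.of_surjective σ hσ.1

/-- the Schur multiplier is finite -/
theorem finite_multiplier {Q : Type u} [Group Q] {A : Type v} [CommGroup A]
    (hA : HasSchurMultiplier Q A) : Finite A := by
  obtain ⟨Γ, _, _, σ, _, ⟨e⟩⟩ := hA.1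
  exact Finite.of_equiv _ e.toEquiv

/-- the multiplier maps onto the kernel of every finite stem extension, in any universe -/
theorem HasSchurMultiplier_surj_any {Q : Type u} [Group Q] {A : Type v} [CommGroup A]
    (hA : HasSchurMultiplier Q A) {Δ : Type w} [Group Δ] [Finite Δ] (τ : Δ →* Q)
    (hτ : IsStemExtension τ) : ∃ f : A →* τ.ker, Function.Surjective f := by
  obtain ⟨Δ', _, _, ⟨e⟩⟩ := exists_mulEquiv_universe.{u, w} Δ
  obtain ⟨f, hf⟩ := hA.2 Δ' (τ.comp e.toMonoidHom) (isStemExtension_comp_equiv τ hτ e)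
  obtain ⟨k⟩ := ker_comp_equiv τ e
  exact ⟨k.toMonoidHom.comp f, k.surjective.comp hf⟩

/-- mutually surjective finite groups are isomorphic -/
theorem mulEquiv_of_surjective_of_surjective {A : Type*} {B : Type*} [Group A] [Group B] [Finite A]
    (f : A →* B) (hf : Function.Surjective f) (g : B →* A) (hg : Function.Surjective g) :
    Function.Bijective f := by
  have : Finite B := Finite.of_surjective f hf
  have h1 : Nat.card B ≤ Nat.card A := Nat.card_le_card_of_surjective f hf
  have h2 : Nat.card A ≤ Nat.card B := Nat.card_le_card_of_surjective g hg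
  have h3 : Nat.card A = Nat.card B := le_antisymm h2 h1
  exact (Nat.bijective_iff_surjective_and_card f).mpr ⟨hf, h3⟩

/-- uniqueness: any Schur multiplier of `Q` is isomorphic to `T π`, for any finite free
presentation `π` -/
theorem mulEquiv_T_of_hasSchurMultiplier {X : Type w} {Q : Type u} [Group Q] [Finite X]
    (π : FreeGroup X →* Q) (hπ : Function.Surjective π) {A : Type v} [CommGroup A]
    (hA : HasSchurMultiplier Q A) : Nonempty (T π ≃* A) := by
  have hQ : Finite Q := finite_of_hasSchurMultiplier hA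
  have hAf : Finite A := finite_multiplier hA
  obtain ⟨Γ₀, _, _, σ₀, hσ₀, ⟨e₀⟩⟩ := hA.1
  obtain ⟨f, hf⟩ := exists_T_surjective π hπ σ₀ hσ₀
  obtain ⟨Γ, _, _, σ, hσ, ⟨e⟩⟩ := exists_cover π hπ
  obtain ⟨g, hg⟩ := HasSchurMultiplier_surj_any hA σ hσ
  have hbij := mulEquiv_of_surjective_of_surjective (e₀.toMonoidHom.comp f) (e₀.surjective.comp hf)
    (e.toMonoidHom.comp g) (e.surjective.comp hg)
  exact ⟨MulEquiv.ofBijective _ hbij⟩

/-- transport of `HasSchurMultiplier` along an isomorphism of the multiplier -/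
theorem hasSchurMultiplier_congr {Q : Type u} [Group Q] {A : Type v} {B : Type w} [CommGroup A]
    [CommGroup B] (hA : HasSchurMultiplier Q A) (e : A ≃* B) : HasSchurMultiplier Q B := by
  constructor
  · obtain ⟨Γ, i1, i2, σ, hσ, ⟨k⟩⟩ := hA.1
    exact ⟨Γ, i1, i2, σ, hσ, ⟨k.trans e⟩⟩
  · intro Γ _ _ σ hσ
    obtain ⟨f, hf⟩ := hA.2 Γ σ hσ
    exact ⟨f.comp e.symm.toMonoidHom, hf.comp e.symm.surjective⟩

/-- the standard free presentation of `Q` on the set `Q` -/
def stdπ (Q : Type u) [Group Q] : FreeGroup Q →* Q := FreeGroup.lift id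

theorem stdπ_surjective (Q : Type u) [Group Q] : Function.Surjective (stdπ Q) := fun q =>
  ⟨FreeGroup.of q, by simp [stdπ]⟩

/-- a canonical model of the Schur multiplier of a finite group -/
abbrev M (Q : Type u) [Group Q] : Type u := T (stdπ Q)

theorem hasSchurMultiplier_M (Q : Type u) [Group Q] [Finite Q] : HasSchurMultiplier Q (M Q) :=
  hasSchurMultiplier_T (stdπ Q) (stdπ_surjective Q)

/-- `HasSchurMultiplier Q A` iff `A` is isomorphic to `T π` -/
theorem hasSchurMultiplier_iff {X : Type w} {Q : Type u} [Group Q] [Finite X] [Finite Q]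
    (π : FreeGroup X →* Q) (hπ : Function.Surjective π) {A : Type v} [CommGroup A] :
    HasSchurMultiplier Q A ↔ Nonempty (T π ≃* A) := by
  constructor
  · exact mulEquiv_T_of_hasSchurMultiplier π hπ
  · rintro ⟨e⟩
    obtain ⟨e'⟩ := mulEquiv_T_of_hasSchurMultiplier π hπ (hasSchurMultiplier_M Q)
    exact hasSchurMultiplier_congr (hasSchurMultiplier_M Q) (e'.symm.trans e)

/-- two Schur multipliers of the same group are isomorphic -/
theorem hasSchurMultiplier_unique {Q : Type u} [Group Q] {A : Type v} {B : Type w} [CommGroup A]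
    [CommGroup B] (hA : HasSchurMultiplier Q A) (hB : HasSchurMultiplier Q B) :
    Nonempty (A ≃* B) := by
  have hQ : Finite Q := finite_of_hasSchurMultiplier hA
  obtain ⟨e1⟩ := mulEquiv_T_of_hasSchurMultiplier (stdπ Q) (stdπ_surjective Q) hA
  obtain ⟨e2⟩ := mulEquiv_T_of_hasSchurMultiplier (stdπ Q) (stdπ_surjective Q) hB
  exact ⟨e1.symm.trans e2⟩

end Cfsg.Agent.Lib.Helper66_SchurMain
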