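import Cfsg.Prelude.Def_KGroupFacts
import Cfsg.Agent.Lib.Helper66_SchurMain
import Mathlib

set_option autoImplicit false

/-!
# Groups with trivial Schur multiplier
-/

open Cfsg
open scoped commutatorElement

namespace Cfsg.Agent.Lib.Helper66_SchurTriv

open Cfsg.Agent.Lib.Helper66_SchurCore Cfsg.Agent.Lib.Helper66_SchurMain

universe u v w

/-- if the multiplier is trivial then `T π = ⊥` -/
theorem T_eq_bot_of_trivial {X : Type w} [Finite X] {G : Type u} [Group G]
    (π : FreeGroup X →* G) (hπ : Function.Surjective π) (hG : HasCyclicSchurMultiplier G 1) :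
    T π = ⊥ := by
  obtain ⟨e⟩ := mulEquiv_T_of_hasSchurMultiplier π hπ hG
  rw [eq_bot_iff]
  intro x hx
  have h1 : e ⟨x, hx⟩ = e 1 := Subsingleton.elim _ _
  have h2 := e.injective h1
  rw [Subgroup.mem_bot]
  exact congrArg Subtype.val h2

/-- if `T π = ⊥` then the multiplier is trivial -/
theorem hasCyclicSchurMultiplier_one_of_T_eq_bot {X : Type w} [Finite X] {G : Type u} [Group G]
    [Finite G] (π : FreeGroup X →* G) (hπ : Function.Surjective π) (hT : T π = ⊥) :
    HasCyclicSchurMultiplier G 1 := by
  rw [HasCyclicSchurMultiplier, hasSchurMultiplier_iff π hπ]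
  have : Subsingleton (T π) := by
    constructor
    intro a b
    have key : ∀ x ∈ T π, x = 1 := fun x hx => by
      rw [hT, Subgroup.mem_bot] at hx
      exact hx
    have ha : (a : E π) = 1 := key _ a.2
    have hb : (b : E π) = 1 := key _ b.2
    exact Subtype.ext (ha.trans hb.symm)
  exact ⟨{ toFun := fun _ => 1
           invFun := fun _ => 1
           left_inv := fun _ => Subsingleton.elim _ _
           right_inv := fun _ => Subsingleton.elim _ _
           map_mul' := fun _ _ => Subsingleton.elim _ _ }⟩

/-- for a group with trivial multiplier, every central extension `p : P → G` has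
`ker p ∩ P' = 1` -/
theorem ker_inf_commutator_eq_bot {G : Type u} [Group G] (hG : HasCyclicSchurMultiplier G 1)
    {P : Type*} [Group P] (p : P →* G) (hp : Function.Surjective p)
    (hpc : p.ker ≤ Subgroup.center P) : p.ker ⊓ commutator P = ⊥ := by
  have hfin : Finite G := finite_of_hasSchurMultiplier hG
  obtain ⟨β, hβ⟩ := exists_lift (stdπ G) p hp hpc
  have h1 := map_ker_inf_commutator (ρ (stdπ G)) (ρ_surjective _ (stdπ_surjective G)) p hpc β hβ
  have h2 : (ρ (stdπ G)).ker ⊓ commutator (E (stdπ G)) = ⊥ :=
    T_eq_bot_of_trivial (stdπ G) (stdπ_surjective G) hG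
  rw [← h1, h2, Subgroup.map_bot]

end Cfsg.Agent.Lib.Helper66_SchurTriv
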