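import Cfsg.Prelude.Def_KGroupFacts
import Cfsg.Agent.Lib.Helper66_SchurTriv
import Cfsg.Agent.S3962
import Mathlib

set_option autoImplicit false

/-!
# Universal central extensions of finite perfect groups
-/

open Cfsg
open scoped commutatorElement

namespace Cfsg.Agent.Lib.Helper66_SchurPerfect

open Cfsg.Agent.Lib.Helper66_SchurCore Cfsg.Agent.Lib.Helper66_SchurMain
  Cfsg.Agent.Lib.Helper66_SchurTriv

universe u v w

/-- a homomorphism from a perfect group with central image is trivial -/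
theorem eq_one_of_perfect_of_central {G X : Type*} [Group G] [Group X] (hG : Group.IsPerfect G)
    (f : G →* X) (hf : ∀ g, f g ∈ Subgroup.center X) : f = 1 := by
  have h1 : commutator G ≤ f.ker := by
    rw [commutator_def, Subgroup.commutator_le]
    intro a _ b _
    rw [MonoidHom.mem_ker, map_commutatorElement, commutatorElement_eq_one_iff_mul_comm]
    exact (Subgroup.mem_center_iff.mp (hf a) (f b)).symm
  rw [Group.isPerfect_def.mp hG] at h1
  ext g
  exact MonoidHom.mem_ker.mp (h1 (Subgroup.mem_top g))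

/-- two homomorphisms from a perfect group which agree modulo a central extension are equal -/
theorem hom_eq_of_perfect {G X Q : Type*} [Group G] [Group X] [Group Q] (hG : Group.IsPerfect G)
    (ξ : X →* Q) (hξ : ξ.ker ≤ Subgroup.center X) (η₁ η₂ : G →* X)
    (h : ξ.comp η₁ = ξ.comp η₂) : η₁ = η₂ := by
  have hd : ∀ g, η₁ g * (η₂ g)⁻¹ ∈ Subgroup.center X := by
    intro g
    apply hξ
    rw [MonoidHom.mem_ker, map_mul, map_inv, ← MonoidHom.comp_apply, ← MonoidHom.comp_apply, h,
      mul_inv_cancel]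
  let d : G →* X := MonoidHom.mk' (fun g => η₁ g * (η₂ g)⁻¹) (by
    intro a b
    have hb := Subgroup.mem_center_iff.mp (hd b)
    calc η₁ (a * b) * (η₂ (a * b))⁻¹ = η₁ a * ((η₁ b * (η₂ b)⁻¹) * (η₂ a)⁻¹) := by
          rw [map_mul, map_mul]; group
      _ = η₁ a * ((η₂ a)⁻¹ * (η₁ b * (η₂ b)⁻¹)) := by rw [hb]
      _ = η₁ a * (η₂ a)⁻¹ * (η₁ b * (η₂ b)⁻¹) := by group)
  have hd1 : d = 1 := eq_one_of_perfect_of_central hG d hd
  ext g
  have : d g = 1 := by rw [hd1]; rfl
  have h2 : η₁ g * (η₂ g)⁻¹ = 1 := this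
  exact mul_inv_eq_one.mp h2

section

variable {X : Type w} {Q : Type u} [Group Q] (π : FreeGroup X →* Q)

/-- the restriction of `ρ` to the commutator subgroup of `E` -/
def ρ' : commutator (E π) →* Q := (ρ π).comp (commutator (E π)).subtype

theorem ρ'_apply (x : commutator (E π)) : ρ' π x = ρ π x := rfl

theorem ρ'_surjective (hQ : Group.IsPerfect Q) (hπ : Function.Surjective π) :
    Function.Surjective (ρ' π) := by
  intro q
  have h1 : (commutator (E π)).map (ρ π) = commutator Q := by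
    rw [commutator_def, commutator_def, Subgroup.map_commutator, ← MonoidHom.range_eq_map,
      MonoidHom.range_eq_top_of_surjective _ (ρ_surjective π hπ)]
  have h2 : q ∈ commutator Q := by
    rw [Group.isPerfect_def.mp hQ]
    exact Subgroup.mem_top q
  rw [← h1] at h2
  obtain ⟨x, hx, rfl⟩ := h2
  exact ⟨⟨x, hx⟩, rfl⟩

theorem ρ'_ker_le_center : (ρ' π).ker ≤ Subgroup.center (commutator (E π)) := by
  intro x hx
  have h1 : (x : E π) ∈ (ρ π).ker := hx
  have h2 := Subgroup.mem_center_iff.mp (ρ_ker_le_center π h1)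
  rw [Subgroup.mem_center_iff]
  intro y
  exact Subtype.ext (h2 y)

theorem mem_ρ'_ker_iff (x : commutator (E π)) : x ∈ (ρ' π).ker ↔ (x : E π) ∈ T π := by
  constructor
  · intro hx
    exact Subgroup.mem_inf.mpr ⟨hx, x.2⟩
  · intro hx
    exact (Subgroup.mem_inf.mp hx).1

theorem isPerfect_commutator_E (hQ : Group.IsPerfect Q) (hπ : Function.Surjective π) :
    Group.IsPerfect (commutator (E π)) := by
  rw [Subgroup.isPerfect_iff]
  apply le_antisymm
  · exact Subgroup.commutator_le_left _ _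
  · conv_lhs => rw [commutator_def]
    rw [Subgroup.commutator_le]
    intro g₁ _ g₂ _
    obtain ⟨c₁, hc₁⟩ := ρ'_surjective π hQ hπ (ρ π g₁)
    obtain ⟨c₂, hc₂⟩ := ρ'_surjective π hQ hπ (ρ π g₂)
    have hz₁ : (c₁ : E π)⁻¹ * g₁ ∈ Subgroup.center (E π) := by
      apply ρ_ker_le_center π
      rw [MonoidHom.mem_ker, map_mul, map_inv, ← ρ'_apply, hc₁, inv_mul_cancel]
    have hz₂ : (c₂ : E π)⁻¹ * g₂ ∈ Subgroup.center (E π) := by
      apply ρ_ker_le_center π
      rw [MonoidHom.mem_ker, map_mul, map_inv, ← ρ'_apply, hc₂, inv_mul_cancel]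
    have e₁ : g₁ = (c₁ : E π) * ((c₁ : E π)⁻¹ * g₁) := by group
    have e₂ : g₂ = (c₂ : E π) * ((c₂ : E π)⁻¹ * g₂) := by group
    rw [e₁, e₂, commutatorElement_mul_center _ _ _ _ hz₁ hz₂]
    exact Subgroup.commutator_mem_commutator c₁.2 c₂.2

theorem finite_commutator_E' [Finite Q] : Finite (commutator (E π)) := finite_commutator_E π

/-- lifting property of `E'` -/
theorem exists_lift_ρ' {Y : Type*} [Group Y] (ξ : Y →* Q) (hξ : Function.Surjective ξ)
    (hξc : ξ.ker ≤ Subgroup.center Y) : ∃ η : commutator (E π) →* Y, ξ.comp η = ρ' π := by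
  obtain ⟨β, hβ⟩ := exists_lift π ξ hξ hξc
  refine ⟨β.comp (commutator (E π)).subtype, ?_⟩
  rw [← MonoidHom.comp_assoc, hβ]
  rfl

end

/-- if `Γ` is perfect, `σ : Γ → G` is surjective with central kernel and `π : G → Q` has central
kernel, then `π ∘ σ` has central kernel -/
theorem ker_comp_le_center {Γ G Q : Type*} [Group Γ] [Group G] [Group Q] (hΓ : Group.IsPerfect Γ)
    (σ : Γ →* G) (hσ : Function.Surjective σ) (hσc : σ.ker ≤ Subgroup.center Γ) (π : G →* Q)
    (hπc : π.ker ≤ Subgroup.center G) : (π.comp σ).ker ≤ Subgroup.center Γ := by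
  intro k hk
  have h1 : σ k ∈ Subgroup.center G := hπc hk
  rw [← Cfsg.Agent.S3962.result hΓ σ hσ hσc] at h1
  obtain ⟨z, hz, hzk⟩ := h1
  have h2 : z⁻¹ * k ∈ Subgroup.center Γ := by
    apply hσc
    rw [MonoidHom.mem_ker, map_mul, map_inv, hzk, inv_mul_cancel]
  have : k = z * (z⁻¹ * k) := by group
  rw [this]
  exact mul_mem hz h2

end Cfsg.Agent.Lib.Helper66_SchurPerfect
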