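import Cfsg.Prelude.Def_KGroupFacts
import Cfsg.Agent.Lib.Helper66_SchurMain
import Mathlib

set_option autoImplicit false

/-!
# Stem extensions of a direct product
-/

open Cfsg
open scoped commutatorElement

namespace Cfsg.Agent.Lib.Helper66_SchurProd

open Cfsg.Agent.Lib.Helper66_SchurCore Cfsg.Agent.Lib.Helper66_SchurMain

universe u v w

section

variable {Q₁ : Type*} {Q₂ : Type*} [Group Q₁] [Group Q₂] {Γ : Type*} [Group Γ]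
  (σ : Γ →* Q₁ × Q₂)

/-- the preimage of `Q₁ × 1` -/
abbrev Γ₁ : Subgroup Γ := ((MonoidHom.snd Q₁ Q₂).comp σ).ker

/-- the preimage of `1 × Q₂` -/
abbrev Γ₂ : Subgroup Γ := ((MonoidHom.fst Q₁ Q₂).comp σ).ker

theorem mem_Γ₁ {g : Γ} : g ∈ Γ₁ σ ↔ (σ g).2 = 1 := Iff.rfl

theorem mem_Γ₂ {g : Γ} : g ∈ Γ₂ σ ↔ (σ g).1 = 1 := Iff.rfl

theorem ker_le_Γ₁ : σ.ker ≤ Γ₁ σ := fun g hg => by
  rw [mem_Γ₁, MonoidHom.mem_ker.mp hg]; rfl

theorem ker_le_Γ₂ : σ.ker ≤ Γ₂ σ := fun g hg => by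
  rw [mem_Γ₂, MonoidHom.mem_ker.mp hg]; rfl

theorem mem_ker_of_mem_mem {g : Γ} (h₁ : g ∈ Γ₁ σ) (h₂ : g ∈ Γ₂ σ) : g ∈ σ.ker := by
  rw [MonoidHom.mem_ker]
  exact Prod.ext h₂ h₁

theorem commutator_Γ₁_Γ₂_le_ker : ⁅Γ₁ σ, Γ₂ σ⁆ ≤ σ.ker := by
  rw [Subgroup.commutator_le]
  intro x hx y hy
  rw [MonoidHom.mem_ker, map_commutatorElement, commutatorElement_eq_one_iff_mul_comm]
  apply Prod.ext
  · rw [Prod.fst_mul, Prod.fst_mul, (mem_Γ₂ σ).mp hy, mul_one, one_mul]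
  · rw [Prod.snd_mul, Prod.snd_mul, (mem_Γ₁ σ).mp hx, mul_one, one_mul]

theorem commutator_Γ₁_le : ⁅Γ₁ σ, Γ₁ σ⁆ ≤ Γ₁ σ := Subgroup.commutator_le_left _ _

theorem commutator_Γ₂_le : ⁅Γ₂ σ, Γ₂ σ⁆ ≤ Γ₂ σ := Subgroup.commutator_le_left _ _

/-- every element is a product of an element of `Γ₁` and one of `Γ₂` -/
theorem exists_mul_eq (hσ : Function.Surjective σ) (g : Γ) :
    ∃ g₁ ∈ Γ₁ σ, ∃ g₂ ∈ Γ₂ σ, g = g₁ * g₂ := by
  obtain ⟨g₁, hg₁⟩ := hσ ((σ g).1, 1)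
  refine ⟨g₁, ?_, g₁⁻¹ * g, ?_, by group⟩
  · rw [mem_Γ₁, hg₁]
  · rw [mem_Γ₂, map_mul, map_inv, hg₁]
    simp

/-- the commutator subgroup of `Γ` is generated by `Γ₁'`, `Γ₂'` and `[Γ₁, Γ₂]` -/
theorem commutator_le_sup (hσ : Function.Surjective σ) :
    commutator Γ ≤ ⁅Γ₁ σ, Γ₁ σ⁆ ⊔ ⁅Γ₂ σ, Γ₂ σ⁆ ⊔ ⁅Γ₁ σ, Γ₂ σ⁆ := by
  set N := ⁅Γ₁ σ, Γ₁ σ⁆ ⊔ ⁅Γ₂ σ, Γ₂ σ⁆ ⊔ ⁅Γ₁ σ, Γ₂ σ⁆ with hN
  have h11 : ⁅Γ₁ σ, Γ₁ σ⁆ ≤ N := le_sup_left.trans le_sup_left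
  have h22 : ⁅Γ₂ σ, Γ₂ σ⁆ ≤ N := le_sup_right.trans le_sup_left
  have h12 : ⁅Γ₁ σ, Γ₂ σ⁆ ≤ N := le_sup_right
  have hNn : N.Normal := inferInstance
  -- commutation in the quotient
  have key : ∀ a b : Γ, ⁅a, b⁆ ∈ N → (QuotientGroup.mk a : Γ ⧸ N) * QuotientGroup.mk b =
      QuotientGroup.mk b * QuotientGroup.mk a := by
    intro a b hab
    rw [← commutatorElement_eq_one_iff_mul_comm, ← QuotientGroup.mk'_apply,
      ← QuotientGroup.mk'_apply, ← map_commutatorElement, QuotientGroup.mk'_apply,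
      QuotientGroup.eq_one_iff]
    exact hab
  rw [commutator_def, Subgroup.commutator_le]
  intro g _ h _
  obtain ⟨g₁, hg₁, g₂, hg₂, rfl⟩ := exists_mul_eq σ hσ g
  obtain ⟨h₁, hh₁, h₂, hh₂, rfl⟩ := exists_mul_eq σ hσ h
  rw [← QuotientGroup.eq_one_iff (N := N), ← QuotientGroup.mk'_apply, map_commutatorElement,
    commutatorElement_eq_one_iff_mul_comm]
  simp only [QuotientGroup.mk'_apply, QuotientGroup.mk_mul]
  have c1 := key g₁ h₁ (h11 (Subgroup.commutator_mem_commutator hg₁ hh₁))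
  have c2 := key g₁ h₂ (h12 (Subgroup.commutator_mem_commutator hg₁ hh₂))
  have c3 := key h₁ g₂ (h12 (Subgroup.commutator_mem_commutator hh₁ hg₂))
  have c4 := key g₂ h₂ (h22 (Subgroup.commutator_mem_commutator hg₂ hh₂))
  generalize (QuotientGroup.mk g₁ : Γ ⧸ N) = A at *
  generalize (QuotientGroup.mk g₂ : Γ ⧸ N) = B at *
  generalize (QuotientGroup.mk h₁ : Γ ⧸ N) = C at *
  generalize (QuotientGroup.mk h₂ : Γ ⧸ N) = D at *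
  calc A * B * (C * D) = A * (B * C) * D := by group
    _ = A * (C * B) * D := by rw [c3]
    _ = (A * C) * (B * D) := by group
    _ = (C * A) * (D * B) := by rw [c1, c4]
    _ = C * (A * D) * B := by group
    _ = C * (D * A) * B := by rw [c2]
    _ = C * D * (A * B) := by group

/-- membership in a join with a normal subgroup -/
theorem mem_sup_of_normal {G : Type*} [Group G] {H N : Subgroup G} [N.Normal] {x : G} :
    x ∈ H ⊔ N ↔ ∃ h ∈ H, ∃ n ∈ N, h * n = x := by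
  rw [← SetLike.mem_coe, Subgroup.mul_normal, Set.mem_mul]
  simp only [SetLike.mem_coe]

/-- decomposition of the kernel of a stem extension of `Q₁ × Q₂` -/
theorem ker_decomp (hσ : IsStemExtension σ) {k : Γ} (hk : k ∈ σ.ker) :
    ∃ a ∈ σ.ker ⊓ ⁅Γ₁ σ, Γ₁ σ⁆, ∃ b ∈ σ.ker ⊓ ⁅Γ₂ σ, Γ₂ σ⁆, ∃ c ∈ ⁅Γ₁ σ, Γ₂ σ⁆,
      k = a * b * c := by
  have h1 := commutator_le_sup σ hσ.1 (hσ.2.2 hk)
  obtain ⟨ab, hab, c, hc, rfl⟩ := mem_sup_of_normal.mp h1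
  obtain ⟨a, ha, b, hb, rfl⟩ := mem_sup_of_normal.mp hab
  have hc' : σ c = 1 := commutator_Γ₁_Γ₂_le_ker σ hc
  have ha1 : (σ a).2 = 1 := commutator_Γ₁_le σ ha
  have hb1 : (σ b).1 = 1 := commutator_Γ₂_le σ hb
  have hk' : σ a * σ b = 1 := by
    have : σ (a * b * c) = 1 := hk
    rwa [map_mul, map_mul, hc', mul_one] at this
  have ha2 : (σ a).1 = 1 := by
    have := congrArg Prod.fst hk'
    rwa [Prod.fst_mul, hb1, mul_one] at this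
  have hb2 : (σ b).2 = 1 := by
    have := congrArg Prod.snd hk'
    rwa [Prod.snd_mul, ha1, one_mul] at this
  exact ⟨a, Subgroup.mem_inf.mpr ⟨Prod.ext ha2 ha1, ha⟩, b,
    Subgroup.mem_inf.mpr ⟨Prod.ext hb1 hb2, hb⟩, c, hc, rfl⟩

/-- the restriction of `σ` to `Γ₁`, as a map to `Q₁` -/
def σ₁ : ↥(Γ₁ σ) →* Q₁ := ((MonoidHom.fst Q₁ Q₂).comp σ).comp (Γ₁ σ).subtype

/-- the restriction of `σ` to `Γ₂`, as a map to `Q₂` -/
def σ₂ : ↥(Γ₂ σ) →* Q₂ := ((MonoidHom.snd Q₁ Q₂).comp σ).comp (Γ₂ σ).subtype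

theorem σ₁_apply (x : Γ₁ σ) : σ₁ σ x = (σ x).1 := rfl

theorem σ₂_apply (x : Γ₂ σ) : σ₂ σ x = (σ x).2 := rfl

theorem σ₁_surjective (hσ : Function.Surjective σ) : Function.Surjective (σ₁ σ) := by
  intro q
  obtain ⟨g, hg⟩ := hσ (q, 1)
  refine ⟨⟨g, ?_⟩, ?_⟩
  · rw [mem_Γ₁, hg]
  · rw [σ₁_apply, hg]

theorem σ₂_surjective (hσ : Function.Surjective σ) : Function.Surjective (σ₂ σ) := by
  intro q
  obtain ⟨g, hg⟩ := hσ (1, q)
  refine ⟨⟨g, ?_⟩, ?_⟩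
  · rw [mem_Γ₂, hg]
  · rw [σ₂_apply, hg]

theorem mem_ker_σ₁ {x : Γ₁ σ} : x ∈ (σ₁ σ).ker ↔ (x : Γ) ∈ σ.ker := by
  constructor
  · intro hx
    exact mem_ker_of_mem_mem σ x.2 hx
  · intro hx
    rw [MonoidHom.mem_ker, σ₁_apply, MonoidHom.mem_ker.mp hx]
    rfl

theorem mem_ker_σ₂ {x : Γ₂ σ} : x ∈ (σ₂ σ).ker ↔ (x : Γ) ∈ σ.ker := by
  constructor
  · intro hx
    exact mem_ker_of_mem_mem σ hx x.2
  · intro hx
    rw [MonoidHom.mem_ker, σ₂_apply, MonoidHom.mem_ker.mp hx]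
    rfl

theorem ker_σ₁_le_center (hc : σ.ker ≤ Subgroup.center Γ) :
    (σ₁ σ).ker ≤ Subgroup.center (Γ₁ σ) := by
  intro x hx
  have h2 := Subgroup.mem_center_iff.mp (hc ((mem_ker_σ₁ σ).mp hx))
  rw [Subgroup.mem_center_iff]
  intro y
  exact Subtype.ext (h2 y)

theorem ker_σ₂_le_center (hc : σ.ker ≤ Subgroup.center Γ) :
    (σ₂ σ).ker ≤ Subgroup.center (Γ₂ σ) := by
  intro x hx
  have h2 := Subgroup.mem_center_iff.mp (hc ((mem_ker_σ₂ σ).mp hx))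
  rw [Subgroup.mem_center_iff]
  intro y
  exact Subtype.ext (h2 y)

/-- the part of `ker σ` inside `Γ₁'` is an image of the multiplier of `Q₁` -/
theorem exists_hom_T₁ {X₁ : Type*} (π₁ : FreeGroup X₁ →* Q₁) (hπ₁ : Function.Surjective π₁)
    (hσ : Function.Surjective σ) (hc : σ.ker ≤ Subgroup.center Γ) :
    ∃ f : T π₁ →* Γ, (∀ t, f t ∈ σ.ker) ∧ ∀ a ∈ σ.ker ⊓ ⁅Γ₁ σ, Γ₁ σ⁆, ∃ t, f t = a := by
  obtain ⟨β, hβ⟩ := exists_lift π₁ (σ₁ σ) (σ₁_surjective σ hσ) (ker_σ₁_le_center σ hc)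
  have hmap := map_ker_inf_commutator (ρ π₁) (ρ_surjective π₁ hπ₁) (σ₁ σ)
    (ker_σ₁_le_center σ hc) β hβ
  refine ⟨(Γ₁ σ).subtype.comp (β.comp (T π₁).subtype), ?_, ?_⟩
  · intro t
    have h1 : β t ∈ (σ₁ σ).ker ⊓ commutator (Γ₁ σ) := by
      rw [← hmap]
      exact Subgroup.mem_map_of_mem β t.2
    exact (mem_ker_σ₁ σ).mp h1.1
  · intro a ha
    have ha2 : a ∈ (commutator (Γ₁ σ)).map (Γ₁ σ).subtype := by
      rw [Subgroup.map_subtype_commutator]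
      exact ha.2
    obtain ⟨a', ha', rfl⟩ := ha2
    have h1 : a' ∈ (σ₁ σ).ker ⊓ commutator (Γ₁ σ) :=
      Subgroup.mem_inf.mpr ⟨(mem_ker_σ₁ σ).mpr ha.1, ha'⟩
    rw [← hmap] at h1
    obtain ⟨t, ht, rfl⟩ := h1
    exact ⟨⟨t, ht⟩, rfl⟩

/-- the part of `ker σ` inside `Γ₂'` is an image of the multiplier of `Q₂` -/
theorem exists_hom_T₂ {X₂ : Type*} (π₂ : FreeGroup X₂ →* Q₂) (hπ₂ : Function.Surjective π₂)
    (hσ : Function.Surjective σ) (hc : σ.ker ≤ Subgroup.center Γ) :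
    ∃ f : T π₂ →* Γ, (∀ t, f t ∈ σ.ker) ∧ ∀ a ∈ σ.ker ⊓ ⁅Γ₂ σ, Γ₂ σ⁆, ∃ t, f t = a := by
  obtain ⟨β, hβ⟩ := exists_lift π₂ (σ₂ σ) (σ₂_surjective σ hσ) (ker_σ₂_le_center σ hc)
  have hmap := map_ker_inf_commutator (ρ π₂) (ρ_surjective π₂ hπ₂) (σ₂ σ)
    (ker_σ₂_le_center σ hc) β hβ
  refine ⟨(Γ₂ σ).subtype.comp (β.comp (T π₂).subtype), ?_, ?_⟩
  · intro t
    have h1 : β t ∈ (σ₂ σ).ker ⊓ commutator (Γ₂ σ) := by
      rw [← hmap]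
      exact Subgroup.mem_map_of_mem β t.2
    exact (mem_ker_σ₂ σ).mp h1.1
  · intro a ha
    have ha2 : a ∈ (commutator (Γ₂ σ)).map (Γ₂ σ).subtype := by
      rw [Subgroup.map_subtype_commutator]
      exact ha.2
    obtain ⟨a', ha', rfl⟩ := ha2
    have h1 : a' ∈ (σ₂ σ).ker ⊓ commutator (Γ₂ σ) :=
      Subgroup.mem_inf.mpr ⟨(mem_ker_σ₂ σ).mpr ha.1, ha'⟩
    rw [← hmap] at h1
    obtain ⟨t, ht, rfl⟩ := h1
    exact ⟨⟨t, ht⟩, rfl⟩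

/-- a homomorphism to a commutative group which kills the kernel of a surjection onto `Q` has
values of order dividing `|Qᵃᵇ|` -/
theorem pow_card_abelianization_eq_one {H Q Z : Type*} [Group H] [Group Q] [CommGroup Z]
    (τ : H →* Q) (hτ : Function.Surjective τ) (f : H →* Z) (hf : τ.ker ≤ f.ker) (x : H) :
    f x ^ Nat.card (Abelianization Q) = 1 := by
  let f' : Q →* Z := τ.liftOfRightInverse (Function.surjInv hτ)
    (Function.rightInverse_surjInv hτ) ⟨f, hf⟩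
  have h1 : ∀ x, f' (τ x) = f x := fun x =>
    MonoidHom.liftOfRightInverse_comp_apply τ _ (Function.rightInverse_surjInv hτ) ⟨f, hf⟩ x
  let f'' : Abelianization Q →* Z := Abelianization.lift f'
  have h2 : f x = f'' (Abelianization.of (τ x)) := by
    rw [Abelianization.lift_apply_of, h1]
  rw [h2, ← map_pow, pow_card_eq_one', map_one]

open scoped IsMulCommutative in
/-- `x ↦ [x, y]` as a homomorphism `Γ₁ → Z(Γ)` -/
def commR (hc : σ.ker ≤ Subgroup.center Γ) (y : Γ₂ σ) : ↥(Γ₁ σ) →* Subgroup.center Γ :=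
  MonoidHom.mk' (fun x => ⟨⁅(x : Γ), (y : Γ)⁆, hc (commutator_Γ₁_Γ₂_le_ker σ
    (Subgroup.commutator_mem_commutator x.2 y.2))⟩) (by
    intro a b
    apply Subtype.ext
    have hb := Subgroup.mem_center_iff.mp (hc (commutator_Γ₁_Γ₂_le_ker σ
      (Subgroup.commutator_mem_commutator b.2 y.2)))
    change ⁅(a : Γ) * (b : Γ), (y : Γ)⁆ = ⁅(a : Γ), (y : Γ)⁆ * ⁅(b : Γ), (y : Γ)⁆
    have e1 : ⁅(a : Γ) * (b : Γ), (y : Γ)⁆ = (a : Γ) * ⁅(b : Γ), (y : Γ)⁆ * (a : Γ)⁻¹ * ⁅(a : Γ), (y : Γ)⁆ := by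
      simp only [commutatorElement_def]; group
    rw [e1, hb (a : Γ), mul_inv_cancel_right]
    exact (hb _).symm)

open scoped IsMulCommutative in
/-- `y ↦ [x, y]` as a homomorphism `Γ₂ → Z(Γ)` -/
def commL (hc : σ.ker ≤ Subgroup.center Γ) (x : Γ₁ σ) : ↥(Γ₂ σ) →* Subgroup.center Γ :=
  MonoidHom.mk' (fun y => ⟨⁅(x : Γ), (y : Γ)⁆, hc (commutator_Γ₁_Γ₂_le_ker σ
    (Subgroup.commutator_mem_commutator x.2 y.2))⟩) (by
    intro a b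
    apply Subtype.ext
    have hb := Subgroup.mem_center_iff.mp (hc (commutator_Γ₁_Γ₂_le_ker σ
      (Subgroup.commutator_mem_commutator x.2 b.2)))
    change ⁅(x : Γ), (a : Γ) * (b : Γ)⁆ = ⁅(x : Γ), (a : Γ)⁆ * ⁅(x : Γ), (b : Γ)⁆
    have e1 : ⁅(x : Γ), (a : Γ) * (b : Γ)⁆ = ⁅(x : Γ), (a : Γ)⁆ * ((a : Γ) * ⁅(x : Γ), (b : Γ)⁆ * (a : Γ)⁻¹) := by
      simp only [commutatorElement_def]; group
    rw [e1, hb (a : Γ), mul_inv_cancel_right])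

theorem commR_apply (hc : σ.ker ≤ Subgroup.center Γ) (y : Γ₂ σ) (x : Γ₁ σ) :
    ((commR σ hc y x : Subgroup.center Γ) : Γ) = ⁅(x : Γ), (y : Γ)⁆ := rfl

theorem commL_apply (hc : σ.ker ≤ Subgroup.center Γ) (x : Γ₁ σ) (y : Γ₂ σ) :
    ((commL σ hc x y : Subgroup.center Γ) : Γ) = ⁅(x : Γ), (y : Γ)⁆ := rfl

theorem ker_σ₁_le_ker_commR (hc : σ.ker ≤ Subgroup.center Γ) (y : Γ₂ σ) :
    (σ₁ σ).ker ≤ (commR σ hc y).ker := by
  intro x hx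
  have h2 := Subgroup.mem_center_iff.mp (hc ((mem_ker_σ₁ σ).mp hx)) (y : Γ)
  rw [MonoidHom.mem_ker]
  apply Subtype.ext
  rw [commR_apply, Subgroup.coe_one, commutatorElement_eq_one_iff_mul_comm]
  exact h2.symm

theorem ker_σ₂_le_ker_commL (hc : σ.ker ≤ Subgroup.center Γ) (x : Γ₁ σ) :
    (σ₂ σ).ker ≤ (commL σ hc x).ker := by
  intro y hy
  have h2 := Subgroup.mem_center_iff.mp (hc ((mem_ker_σ₂ σ).mp hy)) (x : Γ)
  rw [MonoidHom.mem_ker]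
  apply Subtype.ext
  rw [commL_apply, Subgroup.coe_one, commutatorElement_eq_one_iff_mul_comm]
  exact h2

open scoped IsMulCommutative in
/-- if the abelianizations have coprime orders then `[Γ₁, Γ₂] = 1` -/
theorem commutator_Γ₁_Γ₂_eq_bot (hσ : Function.Surjective σ) (hc : σ.ker ≤ Subgroup.center Γ)
    (hcop : Nat.Coprime (Nat.card (Abelianization Q₁)) (Nat.card (Abelianization Q₂))) :
    ⁅Γ₁ σ, Γ₂ σ⁆ = ⊥ := by
  rw [eq_bot_iff, Subgroup.commutator_le]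
  intro x hx y hy
  have h1 := pow_card_abelianization_eq_one (σ₁ σ) (σ₁_surjective σ hσ) (commR σ hc ⟨y, hy⟩)
    (ker_σ₁_le_ker_commR σ hc ⟨y, hy⟩) ⟨x, hx⟩
  have h2 := pow_card_abelianization_eq_one (σ₂ σ) (σ₂_surjective σ hσ) (commL σ hc ⟨x, hx⟩)
    (ker_σ₂_le_ker_commL σ hc ⟨x, hx⟩) ⟨y, hy⟩
  have h1' : ⁅x, y⁆ ^ Nat.card (Abelianization Q₁) = 1 := by
    have := congrArg Subtype.val h1
    rw [Subgroup.coe_pow, commR_apply, Subgroup.coe_one] at this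
    exact this
  have h2' : ⁅x, y⁆ ^ Nat.card (Abelianization Q₂) = 1 := by
    have := congrArg Subtype.val h2
    rw [Subgroup.coe_pow, commL_apply, Subgroup.coe_one] at this
    exact this
  have h3 := orderOf_dvd_of_pow_eq_one h1'
  have h4 := orderOf_dvd_of_pow_eq_one h2'
  have h5 : orderOf ⁅x, y⁆ = 1 := Nat.eq_one_of_dvd_coprimes hcop h3 h4
  rw [Subgroup.mem_bot]
  exact orderOf_eq_one_iff.mp h5

end

section ProdMap

variable {G₁ G₂ R₁ R₂ : Type*} [Group G₁] [Group G₂] [Group R₁] [Group R₂]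

theorem mem_ker_prodMap (τ₁ : G₁ →* R₁) (τ₂ : G₂ →* R₂) {x : G₁ × G₂} :
    x ∈ (MonoidHom.prodMap τ₁ τ₂).ker ↔ x.1 ∈ τ₁.ker ∧ x.2 ∈ τ₂.ker := by
  rw [MonoidHom.mem_ker, MonoidHom.mem_ker, MonoidHom.mem_ker, MonoidHom.prodMap_def,
    MonoidHom.prod_apply, Prod.ext_iff]
  rfl

/-- the kernel of a product map -/
def kerProdMapEquiv (τ₁ : G₁ →* R₁) (τ₂ : G₂ →* R₂) :
    (MonoidHom.prodMap τ₁ τ₂).ker ≃* τ₁.ker × τ₂.ker where
  toFun x := (⟨x.1.1, ((mem_ker_prodMap τ₁ τ₂).mp x.2).1⟩, ⟨x.1.2, ((mem_ker_prodMap τ₁ τ₂).mp x.2).2⟩)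
  invFun y := ⟨(y.1.1, y.2.1), (mem_ker_prodMap τ₁ τ₂).mpr ⟨y.1.2, y.2.2⟩⟩
  left_inv _ := rfl
  right_inv _ := rfl
  map_mul' _ _ := rfl

theorem isStemExtension_prodMap (τ₁ : G₁ →* R₁) (τ₂ : G₂ →* R₂) (h₁ : IsStemExtension τ₁)
    (h₂ : IsStemExtension τ₂) : IsStemExtension (MonoidHom.prodMap τ₁ τ₂) := by
  refine ⟨Prod.map_surjective.mpr ⟨h₁.1, h₂.1⟩, ?_, ?_⟩
  · intro x hx
    obtain ⟨hx1, hx2⟩ := (mem_ker_prodMap τ₁ τ₂).mp hx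
    have c1 := Subgroup.mem_center_iff.mp (h₁.2.1 hx1)
    have c2 := Subgroup.mem_center_iff.mp (h₂.2.1 hx2)
    rw [Subgroup.mem_center_iff]
    intro y
    exact Prod.ext (c1 y.1) (c2 y.2)
  · intro x hx
    obtain ⟨hx1, hx2⟩ := (mem_ker_prodMap τ₁ τ₂).mp hx
    have i1 : (commutator G₁).map (MonoidHom.inl G₁ G₂) ≤ commutator (G₁ × G₂) := by
      rw [commutator_def, Subgroup.map_commutator, commutator_def]
      exact Subgroup.commutator_mono le_top le_top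
    have i2 : (commutator G₂).map (MonoidHom.inr G₁ G₂) ≤ commutator (G₁ × G₂) := by
      rw [commutator_def, Subgroup.map_commutator, commutator_def]
      exact Subgroup.commutator_mono le_top le_top
    have e : x = (MonoidHom.inl G₁ G₂ x.1) * (MonoidHom.inr G₁ G₂ x.2) := by
      apply Prod.ext <;> simp
    rw [e]
    exact mul_mem (i1 (Subgroup.mem_map_of_mem _ (h₁.2.2 hx1)))
      (i2 (Subgroup.mem_map_of_mem _ (h₂.2.2 hx2)))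

end ProdMap

end Cfsg.Agent.Lib.Helper66_SchurProd
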