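import Mathlib
import Cfsg.Prelude.Def_KGroupFacts
import Cfsg.Agent.Lib.Helper66_BiMulExtG

set_option autoImplicit false
open Cfsg
open scoped TensorProduct

/-! A stem extension of `Q₁ × Q₂` with kernel `ker τ₁ × ker τ₂ × (Q₁ᵃᵇ ⊗ Q₂ᵃᵇ)` from stem
extensions `τ₁`, `τ₂` of the factors. -/

namespace Cfsg.Agent.Lib.Helper66_SchurProdCover

open Cfsg.Agent.Lib.Helper66_BiMulExtG

universe u v u' v'

/-- the tensor product of the abelianizations -/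
abbrev Tens (Q₁ : Type u) (Q₂ : Type v) [Group Q₁] [Group Q₂] : Type (max u v) :=
  (Additive (Abelianization Q₁)) ⊗[ℤ] (Additive (Abelianization Q₂))

section Finite

variable (Q₁ : Type u) (Q₂ : Type v) [Group Q₁] [Group Q₂]

theorem card_smul_tens [Finite Q₁] (t : Tens Q₁ Q₂) :
    (Nat.card (Abelianization Q₁) : ℤ) • t = 0 := by
  induction t using TensorProduct.induction_on with
  | zero => rw [smul_zero]
  | tmul a b =>
    rw [TensorProduct.smul_tmul', Nat.cast_smul_eq_nsmul]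
    have h1 : Nat.card (Abelianization Q₁) • a = 0 := by
      have := card_nsmul_eq_zero' (G := Additive (Abelianization Q₁)) (x := a)
      rwa [Nat.card_congr Additive.toMul] at this
    rw [h1, TensorProduct.zero_tmul]
  | add x y hx hy => rw [smul_add, hx, hy, add_zero]

instance finite_tens [Finite Q₁] [Finite Q₂] : Finite (Tens Q₁ Q₂) := by
  have h0 : Module.Finite ℤ (Tens Q₁ Q₂) := Module.Finite.tensorProduct ℤ _ _
  refine Module.finite_of_fg_torsion (Tens Q₁ Q₂) ?_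
  intro t
  refine ⟨⟨(Nat.card (Abelianization Q₁) : ℤ), ?_⟩, ?_⟩
  · rw [mem_nonZeroDivisors_iff_ne_zero]
    exact_mod_cast Nat.card_pos.ne'
  · exact card_smul_tens Q₁ Q₂ t

end Finite

section

variable {G₁ : Type u'} {G₂ : Type v'} {Q₁ : Type u} {Q₂ : Type v} [Group G₁] [Group G₂]
  [Group Q₁] [Group Q₂] (τ₁ : G₁ →* Q₁) (τ₂ : G₂ →* Q₂)

/-- the class of `g` in the additive abelianization of the quotient -/
def cls {G Q : Type*} [Group G] [Group Q] (τ : G →* Q) (g : G) : Additive (Abelianization Q) :=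
  Additive.ofMul (Abelianization.of (τ g))

theorem cls_mul {G Q : Type*} [Group G] [Group Q] (τ : G →* Q) (g h : G) :
    cls τ (g * h) = cls τ g + cls τ h := by
  unfold cls
  rw [map_mul, map_mul]
  rfl

theorem cls_one {G Q : Type*} [Group G] [Group Q] (τ : G →* Q) : cls τ 1 = 0 := by
  unfold cls
  rw [map_one, map_one]
  rfl

theorem cls_of_mem_ker {G Q : Type*} [Group G] [Group Q] (τ : G →* Q) {g : G} (hg : g ∈ τ.ker) :
    cls τ g = 0 := by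
  unfold cls
  rw [MonoidHom.mem_ker.mp hg, map_one]
  rfl

theorem cls_surjective {G Q : Type*} [Group G] [Group Q] (τ : G →* Q)
    (hτ : Function.Surjective τ) : Function.Surjective (cls τ) := by
  intro a
  obtain ⟨q, hq⟩ := QuotientGroup.mk_surjective (s := commutator Q) (Additive.toMul a)
  obtain ⟨g, rfl⟩ := hτ q
  exact ⟨g, by unfold cls; exact congrArg Additive.ofMul hq⟩

/-- the bimultiplicative map `((g₁, g₂), (h₁, h₂)) ↦ [g₁] ⊗ [h₂]` -/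
def β : BiAdd (G₁ × G₂) (Tens Q₁ Q₂) where
  toFun := fun g h => cls τ₁ g.1 ⊗ₜ[ℤ] cls τ₂ h.2
  map_mul_left := by
    intro g g' h
    rw [Prod.fst_mul, cls_mul, TensorProduct.add_tmul]
  map_mul_right := by
    intro g h h'
    rw [Prod.snd_mul, cls_mul, TensorProduct.tmul_add]

theorem β_apply (g h : G₁ × G₂) : (β τ₁ τ₂).toFun g h = cls τ₁ g.1 ⊗ₜ[ℤ] cls τ₂ h.2 := rfl

/-- the covering group of the product -/
abbrev Cov : Type (max (max u' v') (max u v)) := CExt (β τ₁ τ₂)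

/-- the covering map -/
def cov : Cov τ₁ τ₂ →* Q₁ × Q₂ := (MonoidHom.prodMap τ₁ τ₂).comp (CExt.proj (β τ₁ τ₂))

theorem cov_apply (x : Cov τ₁ τ₂) : cov τ₁ τ₂ x = (τ₁ x.1.1, τ₂ x.1.2) := rfl

theorem mem_ker_cov {x : Cov τ₁ τ₂} : x ∈ (cov τ₁ τ₂).ker ↔ x.1.1 ∈ τ₁.ker ∧ x.1.2 ∈ τ₂.ker := by
  rw [MonoidHom.mem_ker, cov_apply, Prod.mk_eq_one]
  rfl

theorem cov_surjective (h₁ : Function.Surjective τ₁) (h₂ : Function.Surjective τ₂) :
    Function.Surjective (cov τ₁ τ₂) := by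
  rintro ⟨q₁, q₂⟩
  obtain ⟨g₁, rfl⟩ := h₁ q₁
  obtain ⟨g₂, rfl⟩ := h₂ q₂
  exact ⟨CExt.mk _ (g₁, g₂) 0, rfl⟩

theorem ker_cov_le_center (h₁ : τ₁.ker ≤ Subgroup.center G₁) (h₂ : τ₂.ker ≤ Subgroup.center G₂) :
    (cov τ₁ τ₂).ker ≤ Subgroup.center (Cov τ₁ τ₂) := by
  intro x hx
  obtain ⟨hx1, hx2⟩ := (mem_ker_cov τ₁ τ₂).mp hx
  rw [Subgroup.mem_center_iff]
  intro y
  have e1 := Subgroup.mem_center_iff.mp (h₁ hx1) y.1.1
  have e2 := Subgroup.mem_center_iff.mp (h₂ hx2) y.1.2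
  rw [← CExt.mk_eta _ x, ← CExt.mk_eta _ y, CExt.mk_mul_mk, CExt.mk_mul_mk, β_apply, β_apply,
    cls_of_mem_ker τ₁ hx1, cls_of_mem_ker τ₂ hx2, TensorProduct.zero_tmul, TensorProduct.tmul_zero,
    add_comm y.2 x.2]
  congr 1
  exact Prod.ext e1 e2

/-- the embedding of the first factor -/
def in₁ : G₁ →* Cov τ₁ τ₂ :=
  CExt.liftHom (β τ₁ τ₂) (MonoidHom.inl G₁ G₂) (by
    intro a b
    rw [β_apply]
    show cls τ₁ a ⊗ₜ[ℤ] cls τ₂ 1 = 0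
    rw [cls_one, TensorProduct.tmul_zero])

/-- the embedding of the second factor -/
def in₂ : G₂ →* Cov τ₁ τ₂ :=
  CExt.liftHom (β τ₁ τ₂) (MonoidHom.inr G₁ G₂) (by
    intro a b
    rw [β_apply]
    show cls τ₁ 1 ⊗ₜ[ℤ] cls τ₂ b = 0
    rw [cls_one, TensorProduct.zero_tmul])

theorem in₁_apply (g : G₁) : in₁ τ₁ τ₂ g = CExt.mk _ (g, 1) 0 := rfl

theorem in₂_apply (g : G₂) : in₂ τ₁ τ₂ g = CExt.mk _ (1, g) 0 := rfl

open scoped commutatorElement in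
theorem commutator_in₁_in₂ (g₁ : G₁) (g₂ : G₂) :
    ⁅in₁ τ₁ τ₂ g₁, in₂ τ₁ τ₂ g₂⁆ = CExt.mk _ 1 (cls τ₁ g₁ ⊗ₜ[ℤ] cls τ₂ g₂) := by
  rw [in₁_apply, in₂_apply, CExt.commutator_mk]
  · rw [β_apply, β_apply]
    show CExt.mk _ 1 (cls τ₁ g₁ ⊗ₜ[ℤ] cls τ₂ g₂ - cls τ₁ 1 ⊗ₜ[ℤ] cls τ₂ 1) = _
    rw [cls_one, TensorProduct.zero_tmul, sub_zero]
  · exact Prod.ext (by simp) (by simp)

theorem mk_one_mem_commutator (h₁ : Function.Surjective τ₁) (h₂ : Function.Surjective τ₂)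
    (w : Tens Q₁ Q₂) : CExt.mk (β τ₁ τ₂) 1 w ∈ commutator (Cov τ₁ τ₂) := by
  induction w using TensorProduct.induction_on with
  | zero => exact Subgroup.one_mem _
  | tmul a b =>
    obtain ⟨g₁, rfl⟩ := cls_surjective τ₁ h₁ a
    obtain ⟨g₂, rfl⟩ := cls_surjective τ₂ h₂ b
    rw [← commutator_in₁_in₂]
    exact Subgroup.commutator_mem_commutator (Subgroup.mem_top _) (Subgroup.mem_top _)
  | add x y hx hy =>
    have : CExt.mk (β τ₁ τ₂) 1 (x + y) = CExt.mk (β τ₁ τ₂) 1 x * CExt.mk (β τ₁ τ₂) 1 y := by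
      rw [CExt.mk_mul_mk, (β τ₁ τ₂).map_one_left, add_zero, mul_one]
    rw [this]
    exact Subgroup.mul_mem _ hx hy

theorem map_commutator_le {H G : Type*} [Group H] [Group G] (f : H →* G) :
    (commutator H).map f ≤ commutator G := by
  rw [commutator_def, commutator_def, Subgroup.map_commutator]
  exact Subgroup.commutator_mono le_top le_top

theorem ker_cov_le_commutator (h₁ : IsStemExtension τ₁) (h₂ : IsStemExtension τ₂) :
    (cov τ₁ τ₂).ker ≤ commutator (Cov τ₁ τ₂) := by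
  intro x hx
  obtain ⟨hx1, hx2⟩ := (mem_ker_cov τ₁ τ₂).mp hx
  have e : x = in₁ τ₁ τ₂ x.1.1 * in₂ τ₁ τ₂ x.1.2 * CExt.mk (β τ₁ τ₂) 1 x.2 := by
    rw [in₁_apply, in₂_apply, CExt.mk_mul_mk, CExt.mk_mul_mk, β_apply, β_apply]
    show x = CExt.mk (β τ₁ τ₂) ((x.1.1, 1) * (1, x.1.2) * 1)
      (0 + 0 + cls τ₁ x.1.1 ⊗ₜ[ℤ] cls τ₂ x.1.2 + x.2 + cls τ₁ ((x.1.1, 1) * (1, x.1.2)).1 ⊗ₜ[ℤ] cls τ₂ 1)
    rw [cls_of_mem_ker τ₁ hx1, TensorProduct.zero_tmul, cls_one, TensorProduct.tmul_zero]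
    simp only [add_zero, zero_add, mul_one, Prod.mk_mul_mk, one_mul]
    rfl
  rw [e]
  refine Subgroup.mul_mem _ (Subgroup.mul_mem _ ?_ ?_) (mk_one_mem_commutator τ₁ τ₂ h₁.1 h₂.1 _)
  · exact map_commutator_le (in₁ τ₁ τ₂) (Subgroup.mem_map_of_mem (in₁ τ₁ τ₂) (h₁.2.2 hx1))
  · exact map_commutator_le (in₂ τ₁ τ₂) (Subgroup.mem_map_of_mem (in₂ τ₁ τ₂) (h₂.2.2 hx2))

theorem isStemExtension_cov (h₁ : IsStemExtension τ₁) (h₂ : IsStemExtension τ₂) :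
    IsStemExtension (cov τ₁ τ₂) :=
  ⟨cov_surjective τ₁ τ₂ h₁.1 h₂.1, ker_cov_le_center τ₁ τ₂ h₁.2.1 h₂.2.1,
    ker_cov_le_commutator τ₁ τ₂ h₁ h₂⟩

/-- the kernel of the covering map -/
def kerCovEquiv : (cov τ₁ τ₂).ker ≃* τ₁.ker × τ₂.ker × Multiplicative (Tens Q₁ Q₂) where
  toFun x := (⟨x.1.1.1, ((mem_ker_cov τ₁ τ₂).mp x.2).1⟩, ⟨x.1.1.2, ((mem_ker_cov τ₁ τ₂).mp x.2).2⟩,
    Multiplicative.ofAdd x.1.2)
  invFun y := ⟨CExt.mk _ (y.1.1, y.2.1.1) (Multiplicative.toAdd y.2.2),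
    (mem_ker_cov τ₁ τ₂).mpr ⟨y.1.2, y.2.1.2⟩⟩
  left_inv := fun x => rfl
  right_inv := fun y => rfl
  map_mul' := by
    rintro ⟨x, hx⟩ ⟨y, hy⟩
    obtain ⟨hx1, hx2⟩ := (mem_ker_cov τ₁ τ₂).mp hx
    refine Prod.ext rfl (Prod.ext rfl ?_)
    show Multiplicative.ofAdd (x.2 + y.2 + cls τ₁ x.1.1 ⊗ₜ[ℤ] cls τ₂ y.1.2) =
      Multiplicative.ofAdd x.2 * Multiplicative.ofAdd y.2
    rw [cls_of_mem_ker τ₁ hx1, TensorProduct.zero_tmul, add_zero]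
    rfl

end

end Cfsg.Agent.Lib.Helper66_SchurProdCover
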