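import Mathlib
import Cfsg.Prelude.Def_KGroupFacts
import Cfsg.Agent.Lib.Helper66_SchurCore
import Cfsg.Agent.Lib.Helper66_SchurProd

set_option autoImplicit false
open Cfsg
open scoped TensorProduct commutatorElement

/-! The kernel of a stem extension of `Q₁ × Q₂` is an image of
`T π₁ × T π₂ × (Q₁ᵃᵇ ⊗ Q₂ᵃᵇ)`. -/

namespace Cfsg.Agent.Lib.Helper66_SchurProdUpper

open Cfsg.Agent.Lib.Helper66_SchurCore Cfsg.Agent.Lib.Helper66_SchurProd

/-- a bimultiplicative map on `H₁ × H₂` which is trivial on the kernels of surjections `τᵢ : Hᵢ → Rᵢ`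
induces a homomorphism on `R₁ᵃᵇ ⊗ R₂ᵃᵇ` -/
theorem exists_tensor_hom {H₁ H₂ R₁ R₂ Z : Type*} [Group H₁] [Group H₂] [Group R₁] [Group R₂]
    [CommGroup Z] (τ₁ : H₁ →* R₁) (hτ₁ : Function.Surjective τ₁) (τ₂ : H₂ →* R₂)
    (hτ₂ : Function.Surjective τ₂) (c : H₁ → H₂ → Z)
    (hl : ∀ x x' y, c (x * x') y = c x y * c x' y) (hr : ∀ x y y', c x (y * y') = c x y * c x y')
    (hk₁ : ∀ x ∈ τ₁.ker, ∀ y, c x y = 1) (hk₂ : ∀ x, ∀ y ∈ τ₂.ker, c x y = 1) :
    ∃ F : Multiplicative ((Additive (Abelianization R₁)) ⊗[ℤ] (Additive (Abelianization R₂))) →* Z,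
      ∀ x y, F (Multiplicative.ofAdd ((Additive.ofMul (Abelianization.of (τ₁ x))) ⊗ₜ[ℤ]
        (Additive.ofMul (Abelianization.of (τ₂ y))))) = c x y := by
  -- for fixed x, y ↦ c x y as a hom H₂ →* Z
  let cL : H₁ → (H₂ →* Z) := fun x => MonoidHom.mk' (c x) (hr x)
  have hcL : ∀ x, τ₂.ker ≤ (cL x).ker := fun x y hy => hk₂ x y hy
  -- descend to R₂ᵃᵇ
  let dL : H₁ → (Abelianization R₂ →* Z) := fun x =>
    Abelianization.lift (τ₂.liftOfRightInverse (Function.surjInv hτ₂)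
      (Function.rightInverse_surjInv hτ₂) ⟨cL x, hcL x⟩)
  have hdL : ∀ x y, dL x (Abelianization.of (τ₂ y)) = c x y := by
    intro x y
    show Abelianization.lift _ (Abelianization.of (τ₂ y)) = c x y
    rw [Abelianization.lift_apply_of, MonoidHom.liftOfRightInverse_comp_apply]
    rfl
  have hsurj₂ : ∀ b : Abelianization R₂, ∃ y, Abelianization.of (τ₂ y) = b := by
    intro b
    obtain ⟨q, rfl⟩ := QuotientGroup.mk_surjective (s := commutator R₂) b
    obtain ⟨y, rfl⟩ := hτ₂ q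
    exact ⟨y, rfl⟩
  have hsurj₁ : ∀ a : Abelianization R₁, ∃ x, Abelianization.of (τ₁ x) = a := by
    intro a
    obtain ⟨q, rfl⟩ := QuotientGroup.mk_surjective (s := commutator R₁) a
    obtain ⟨x, rfl⟩ := hτ₁ q
    exact ⟨x, rfl⟩
  -- x ↦ dL x is a hom
  let D : H₁ →* (Abelianization R₂ →* Z) := MonoidHom.mk' dL (by
    intro x x'
    refine MonoidHom.ext fun b => ?_
    obtain ⟨y, rfl⟩ := hsurj₂ b
    rw [MonoidHom.mul_apply, hdL, hdL, hdL, hl])
  have hD : τ₁.ker ≤ D.ker := by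
    intro x hx
    rw [MonoidHom.mem_ker]
    refine MonoidHom.ext fun b => ?_
    obtain ⟨y, rfl⟩ := hsurj₂ b
    show dL x _ = 1
    rw [hdL]
    exact hk₁ x hx y
  let E : Abelianization R₁ →* (Abelianization R₂ →* Z) :=
    Abelianization.lift (τ₁.liftOfRightInverse (Function.surjInv hτ₁)
      (Function.rightInverse_surjInv hτ₁) ⟨D, hD⟩)
  have hE : ∀ x y, E (Abelianization.of (τ₁ x)) (Abelianization.of (τ₂ y)) = c x y := by
    intro x y
    have h1 : E (Abelianization.of (τ₁ x)) = D x := by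
      show Abelianization.lift _ (Abelianization.of (τ₁ x)) = D x
      rw [Abelianization.lift_apply_of, MonoidHom.liftOfRightInverse_comp_apply]
    rw [h1]
    exact hdL x y
  -- additive version
  let f : Additive (Abelianization R₁) →+ Additive (Abelianization R₂) →+ Additive Z :=
    AddMonoidHom.mk' (fun a => MonoidHom.toAdditive (E (Additive.toMul a))) (by
      intro a b
      refine AddMonoidHom.ext fun t => ?_
      show Additive.ofMul (E (Additive.toMul a * Additive.toMul b) (Additive.toMul t)) = _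
      rw [map_mul]
      rfl)
  have hf : ∀ (r : ℤ) (m : Additive (Abelianization R₁)) (n : Additive (Abelianization R₂)),
      f (r • m) n = f m (r • n) := by
    intro r m n
    rw [map_zsmul, map_zsmul, AddMonoidHom.zsmul_apply]
  refine ⟨AddMonoidHom.toMultiplicativeLeft (TensorProduct.liftAddHom f hf), ?_⟩
  intro x y
  change Additive.toMul (TensorProduct.liftAddHom f hf
    ((Additive.ofMul (Abelianization.of (τ₁ x))) ⊗ₜ[ℤ]
        (Additive.ofMul (Abelianization.of (τ₂ y))))) = c x y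
  rw [TensorProduct.liftAddHom_tmul]
  exact hE x y

/-- the kernel of a stem extension of `Q₁ × Q₂` is an image of `T π₁ × T π₂ × (Q₁ᵃᵇ ⊗ Q₂ᵃᵇ)` -/
theorem exists_surjective_ker_prod {Q₁ Q₂ Γ : Type*} [Group Q₁] [Group Q₂] [Group Γ]
    (σ : Γ →* Q₁ × Q₂) (hσ : IsStemExtension σ) {X₁ X₂ : Type*}
    (π₁ : FreeGroup X₁ →* Q₁) (hπ₁ : Function.Surjective π₁)
    (π₂ : FreeGroup X₂ →* Q₂) (hπ₂ : Function.Surjective π₂) :
    ∃ F : T π₁ × T π₂ × Multiplicative ((Additive (Abelianization Q₁)) ⊗[ℤ]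
        (Additive (Abelianization Q₂))) →* σ.ker, Function.Surjective F := by
  have hc := hσ.2.1
  let _ : CommGroup σ.ker :=
    { (inferInstance : Group σ.ker) with
      mul_comm := fun a b => Subtype.ext (Subgroup.mem_center_iff.mp (hc b.2) a) }
  obtain ⟨f₁, hf₁, hf₁'⟩ := exists_hom_T₁ σ π₁ hπ₁ hσ.1 hc
  obtain ⟨f₂, hf₂, hf₂'⟩ := exists_hom_T₂ σ π₂ hπ₂ hσ.1 hc
  let c : Γ₁ σ → Γ₂ σ → σ.ker := fun x y => ⟨⁅(x : Γ), (y : Γ)⁆,
    commutator_Γ₁_Γ₂_le_ker σ (Subgroup.commutator_mem_commutator x.2 y.2)⟩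
  have hl : ∀ x x' y, c (x * x') y = c x y * c x' y := by
    intro x x' y
    apply Subtype.ext
    have h := congrArg Subtype.val (map_mul (commR σ hc y) x x')
    exact h
  have hr : ∀ x y y', c x (y * y') = c x y * c x y' := by
    intro x y y'
    apply Subtype.ext
    have h := congrArg Subtype.val (map_mul (commL σ hc x) y y')
    exact h
  have hk₁ : ∀ x ∈ (σ₁ σ).ker, ∀ y, c x y = 1 := by
    intro x hx y
    apply Subtype.ext
    have h := congrArg Subtype.val (MonoidHom.mem_ker.mp (ker_σ₁_le_ker_commR σ hc y hx))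
    exact h
  have hk₂ : ∀ x, ∀ y ∈ (σ₂ σ).ker, c x y = 1 := by
    intro x y hy
    apply Subtype.ext
    have h := congrArg Subtype.val (MonoidHom.mem_ker.mp (ker_σ₂_le_ker_commL σ hc x hy))
    exact h
  obtain ⟨F₃, hF₃⟩ := exists_tensor_hom (σ₁ σ) (σ₁_surjective σ hσ.1) (σ₂ σ)
    (σ₂_surjective σ hσ.1) c hl hr hk₁ hk₂
  let f₁' : T π₁ →* σ.ker := f₁.codRestrict σ.ker hf₁
  let f₂' : T π₂ →* σ.ker := f₂.codRestrict σ.ker hf₂
  refine ⟨f₁'.coprod (f₂'.coprod F₃), ?_⟩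
  have h3 : ⁅Γ₁ σ, Γ₂ σ⁆ ≤ (F₃.range).map σ.ker.subtype := by
    rw [Subgroup.commutator_le]
    intro x hx y hy
    refine ⟨c ⟨x, hx⟩ ⟨y, hy⟩, ⟨_, hF₃ ⟨x, hx⟩ ⟨y, hy⟩⟩, rfl⟩
  rintro ⟨k, hk⟩
  obtain ⟨a, ha, b, hb, d, hd, rfl⟩ := ker_decomp σ hσ hk
  obtain ⟨t₁, rfl⟩ := hf₁' a ha
  obtain ⟨t₂, rfl⟩ := hf₂' b hb
  obtain ⟨_, ⟨w, rfl⟩, rfl⟩ := h3 hd
  refine ⟨(t₁, t₂, w), ?_⟩
  apply Subtype.ext
  rw [MonoidHom.coprod_apply, MonoidHom.coprod_apply, ← mul_assoc]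
  rfl

end Cfsg.Agent.Lib.Helper66_SchurProdUpper
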