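import Cfsg.Prelude.Def_KGroupFacts
import Mathlib

set_option autoImplicit false

/-!
# Pullbacks of two extensions of the same group
-/

open Cfsg

namespace Cfsg.Agent.Lib.Helper66_SchurPullback

variable {Γ Δ Q : Type*} [Group Γ] [Group Δ] [Group Q] (σ : Γ →* Q) (τ : Δ →* Q)

/-- the pullback `Γ ×_Q Δ` -/
def PB : Subgroup (Γ × Δ) := (σ.comp (MonoidHom.fst Γ Δ)).eqLocus (τ.comp (MonoidHom.snd Γ Δ))

/-- first projection -/
def p₁ : PB σ τ →* Γ := (MonoidHom.fst Γ Δ).comp (PB σ τ).subtype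

/-- second projection -/
def p₂ : PB σ τ →* Δ := (MonoidHom.snd Γ Δ).comp (PB σ τ).subtype

theorem comm (x : PB σ τ) : σ (p₁ σ τ x) = τ (p₂ σ τ x) := x.2

theorem comp_p₁_eq : σ.comp (p₁ σ τ) = τ.comp (p₂ σ τ) := MonoidHom.ext (comm σ τ)

theorem p₁_surjective (hτ : Function.Surjective τ) : Function.Surjective (p₁ σ τ) := by
  intro g
  obtain ⟨d, hd⟩ := hτ (σ g)
  exact ⟨⟨(g, d), hd.symm⟩, rfl⟩

theorem p₂_surjective (hσ : Function.Surjective σ) : Function.Surjective (p₂ σ τ) := by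
  intro d
  obtain ⟨g, hg⟩ := hσ (τ d)
  exact ⟨⟨(g, d), hg⟩, rfl⟩

theorem ext {x y : PB σ τ} (h₁ : p₁ σ τ x = p₁ σ τ y) (h₂ : p₂ σ τ x = p₂ σ τ y) : x = y :=
  Subtype.ext (Prod.ext h₁ h₂)

theorem ker_p₁_le_center (hτc : τ.ker ≤ Subgroup.center Δ) :
    (p₁ σ τ).ker ≤ Subgroup.center (PB σ τ) := by
  intro x hx
  have h1 : p₁ σ τ x = 1 := hx
  have h2 : p₂ σ τ x ∈ τ.ker := by
    rw [MonoidHom.mem_ker, ← comm, h1, map_one]
  have h3 := Subgroup.mem_center_iff.mp (hτc h2)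
  rw [Subgroup.mem_center_iff]
  intro y
  apply ext σ τ
  · rw [map_mul, map_mul, h1, mul_one, one_mul]
  · rw [map_mul, map_mul]
    exact h3 _

theorem ker_comp_le_center (hσc : σ.ker ≤ Subgroup.center Γ) (hτc : τ.ker ≤ Subgroup.center Δ) :
    (σ.comp (p₁ σ τ)).ker ≤ Subgroup.center (PB σ τ) := by
  intro x hx
  have h1 : p₁ σ τ x ∈ σ.ker := hx
  have h2 : p₂ σ τ x ∈ τ.ker := by
    rw [MonoidHom.mem_ker, ← comm]
    exact hx
  have h3 := Subgroup.mem_center_iff.mp (hσc h1)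
  have h4 := Subgroup.mem_center_iff.mp (hτc h2)
  rw [Subgroup.mem_center_iff]
  intro y
  apply ext σ τ
  · rw [map_mul, map_mul]
    exact h3 _
  · rw [map_mul, map_mul]
    exact h4 _

/-- a surjective homomorphism maps the commutator subgroup onto the commutator subgroup -/
theorem map_commutator_of_surjective {G H : Type*} [Group G] [Group H] (f : G →* H)
    (hf : Function.Surjective f) : (commutator G).map f = commutator H := by
  rw [commutator_def, commutator_def, Subgroup.map_commutator, ← MonoidHom.range_eq_map,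
    MonoidHom.range_eq_top_of_surjective _ hf]

/-- if the pullback of two stem extensions has `ker p₁ ∩ P' = 1` then `ker σ` maps onto
`ker τ` -/
theorem exists_surjective_ker (hσ : IsStemExtension σ) (hτ : IsStemExtension τ)
    (htriv : (p₁ σ τ).ker ⊓ commutator (PB σ τ) = ⊥) :
    ∃ π : σ.ker →* τ.ker, Function.Surjective π := by
  have hm₁ := map_commutator_of_surjective (p₁ σ τ) (p₁_surjective σ τ hτ.1)
  have hm₂ := map_commutator_of_surjective (p₂ σ τ) (p₂_surjective σ τ hσ.1)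
  let W : Subgroup (PB σ τ) := commutator (PB σ τ) ⊓ (σ.comp (p₁ σ τ)).ker
  let f₁ : W →* σ.ker := ((p₁ σ τ).comp W.subtype).codRestrict σ.ker (fun w => w.2.2)
  let f₂ : W →* τ.ker := ((p₂ σ τ).comp W.subtype).codRestrict τ.ker (fun w => by
    rw [MonoidHom.mem_ker]
    change τ (p₂ σ τ w) = 1
    rw [← comm]
    exact w.2.2)
  have hf₁i : Function.Injective f₁ := by
    rw [injective_iff_map_eq_one]
    intro w hw
    have h1 : p₁ σ τ (w : PB σ τ) = 1 := congrArg Subtype.val hw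
    have h2 : (w : PB σ τ) ∈ (p₁ σ τ).ker ⊓ commutator (PB σ τ) :=
      Subgroup.mem_inf.mpr ⟨h1, w.2.1⟩
    rw [htriv, Subgroup.mem_bot] at h2
    exact Subtype.ext h2
  have hf₁s : Function.Surjective f₁ := by
    rintro ⟨g, hg⟩
    have h1 : g ∈ commutator Γ := hσ.2.2 hg
    rw [← hm₁] at h1
    obtain ⟨y, hy, rfl⟩ := h1
    exact ⟨⟨y, Subgroup.mem_inf.mpr ⟨hy, hg⟩⟩, rfl⟩
  have hf₂s : Function.Surjective f₂ := by
    rintro ⟨d, hd⟩
    have h1 : d ∈ commutator Δ := hτ.2.2 hd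
    rw [← hm₂] at h1
    obtain ⟨y, hy, rfl⟩ := h1
    refine ⟨⟨y, Subgroup.mem_inf.mpr ⟨hy, ?_⟩⟩, rfl⟩
    rw [MonoidHom.mem_ker, MonoidHom.comp_apply, comm]
    exact hd
  let e := MulEquiv.ofBijective f₁ ⟨hf₁i, hf₁s⟩
  exact ⟨f₂.comp e.symm.toMonoidHom, hf₂s.comp e.symm.surjective⟩

end Cfsg.Agent.Lib.Helper66_SchurPullback
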