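import Mathlib

set_option autoImplicit false

/-!
# Generators of the kernel of a map from a finitely generated abelian group to a free one
-/

namespace Cfsg.Agent.Lib.Helper66_SchurRank

/-- If `M` is spanned by `card ι` elements and `ψ : M → B` has torsion cokernel with `B` free of
finite rank, then `ker ψ` is spanned by `card ι - rank B` elements. -/
theorem exists_generators_ker {M B : Type*} [AddCommGroup M] [AddCommGroup B] [Module.Free ℤ B]
    [Module.Finite ℤ B] (ψ : M →ₗ[ℤ] B)
    (htors : ∀ b : B, ∃ a : ℤ, a ≠ 0 ∧ a • b ∈ LinearMap.range ψ)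
    {ι : Type*} [Fintype ι] (z : ι → M) (hz : Submodule.span ℤ (Set.range z) = ⊤) :
    ∃ (k : ℕ) (s : Fin k → M), k + Module.finrank ℤ B = Fintype.card ι ∧
      (∀ i, s i ∈ LinearMap.ker ψ) ∧ LinearMap.ker ψ ≤ Submodule.span ℤ (Set.range s) := by
  classical
  let Φ : (ι → ℤ) →ₗ[ℤ] M := Fintype.linearCombination ℤ z
  have hΦr : LinearMap.range Φ = ⊤ := by
    rw [Fintype.range_linearCombination, hz]
  have hΦ : Function.Surjective Φ := LinearMap.range_eq_top.mp hΦr
  let Θ : (ι → ℤ) →ₗ[ℤ] B := ψ ∘ₗ Φ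
  let K := LinearMap.ker Θ
  have h1 := Submodule.finrank_quotient_add_finrank K
  rw [Module.finrank_fintype_fun_eq_card] at h1
  have h2 : Module.finrank ℤ ((ι → ℤ) ⧸ K) = Module.finrank ℤ (LinearMap.range Θ) :=
    LinearEquiv.finrank_eq (LinearMap.quotKerEquivRange Θ)
  have h3 : LinearMap.range Θ = LinearMap.range ψ := LinearMap.range_comp_of_range_eq_top ψ hΦr
  have h4 := Submodule.finrank_quotient_add_finrank (LinearMap.range ψ)
  have h5 : Module.finrank ℤ (B ⧸ LinearMap.range ψ) = 0 := by
    rw [Module.finrank_eq_zero_iff]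
    intro x
    obtain ⟨b, rfl⟩ := Submodule.Quotient.mk_surjective _ x
    obtain ⟨a, ha, hab⟩ := htors b
    refine ⟨a, ha, ?_⟩
    rw [← Submodule.Quotient.mk_smul, Submodule.Quotient.mk_eq_zero]
    exact hab
  have h6 : Module.finrank ℤ K + Module.finrank ℤ B = Fintype.card ι := by
    rw [h3] at h2
    omega
  let b := Module.finBasis ℤ K
  refine ⟨Module.finrank ℤ K, fun i => Φ (b i : ι → ℤ), h6, ?_, ?_⟩
  · intro i
    have : (b i : ι → ℤ) ∈ K := (b i).2
    exact this
  · intro m hm
    obtain ⟨c, rfl⟩ := hΦ m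
    have hc : c ∈ K := hm
    have h7 : (⟨c, hc⟩ : K) ∈ Submodule.span ℤ (Set.range b) := by
      rw [b.span_eq]
      exact Submodule.mem_top
    have h8 := Submodule.apply_mem_span_image_of_mem_span (Φ ∘ₗ K.subtype) h7
    have h9 : (Φ ∘ₗ K.subtype) '' Set.range b = Set.range (fun i => Φ (b i : ι → ℤ)) := by
      ext x
      constructor
      · rintro ⟨_, ⟨i, rfl⟩, rfl⟩
        exact ⟨i, rfl⟩
      · rintro ⟨i, rfl⟩
        exact ⟨b i, ⟨i, rfl⟩, rfl⟩
    rw [h9] at h8
    exact h8

/-- from `ℤ`-spans to subgroup closures, multiplicatively -/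
theorem mem_closure_of_mem_span {Z : Type*} [CommGroup Z] (S : Set Z) (z : Additive Z)
    (h : z ∈ Submodule.span ℤ (Additive.ofMul '' S)) : Additive.toMul z ∈ Subgroup.closure S := by
  induction h using Submodule.span_induction with
  | mem x hx =>
    obtain ⟨s, hs, rfl⟩ := hx
    exact Subgroup.subset_closure hs
  | zero => exact Subgroup.one_mem _
  | add x y _ _ hx hy => exact Subgroup.mul_mem _ hx hy
  | smul a x _ hx => exact Subgroup.zpow_mem _ hx a

/-- from subgroup closures to `ℤ`-spans -/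
theorem mem_span_of_mem_closure {Z : Type*} [CommGroup Z] (S : Set Z) (z : Z)
    (h : z ∈ Subgroup.closure S) : Additive.ofMul z ∈ Submodule.span ℤ (Additive.ofMul '' S) := by
  induction h using Subgroup.closure_induction with
  | mem x hx => exact Submodule.subset_span ⟨x, hx, rfl⟩
  | one => exact Submodule.zero_mem _
  | mul x y _ _ hx hy => exact Submodule.add_mem _ hx hy
  | inv x _ hx => exact Submodule.neg_mem _ hx

end Cfsg.Agent.Lib.Helper66_SchurRank
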