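import Mathlib

set_option autoImplicit false

/-!
# Transfer into the commutator subgroup of a subgroup; subquotients of finite abelian groups
-/

open scoped commutatorElement

namespace Cfsg.Agent.Lib.Helper66_SchurSub

/-- transfer: a central element of `Γ'` has its `|Γ : H|`-th power in `H'` -/
theorem pow_index_mem_commutator {Γ : Type*} [Group Γ] (H : Subgroup Γ) [H.FiniteIndex] (z : Γ)
    (hzc : z ∈ Subgroup.center Γ) (hz' : z ∈ commutator Γ) : z ^ H.index ∈ ⁅H, H⁆ := by
  have key : ∀ (k : ℕ) (g₀ : Γ), g₀⁻¹ * z ^ k * g₀ ∈ H → g₀⁻¹ * z ^ k * g₀ = z ^ k := by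
    intro k g₀ _
    have h1 : z ^ k ∈ Subgroup.center Γ := Subgroup.pow_mem _ hzc k
    rw [Subgroup.mem_center_iff] at h1
    rw [mul_assoc, ← h1 g₀]; group
  have h1 := MonoidHom.transfer_eq_pow (Abelianization.of : H →* Abelianization H) z key
  have h2 : MonoidHom.transfer (Abelianization.of : H →* Abelianization H) z = 1 := by
    have := Abelianization.commutator_subset_ker
      (MonoidHom.transfer (Abelianization.of : H →* Abelianization H)) hz'
    exact MonoidHom.mem_ker.mp this
  rw [h2] at h1
  have h3 : (⟨z ^ H.index, MonoidHom.transfer_eq_pow_aux z key⟩ : H) ∈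
      (Abelianization.of : H →* Abelianization H).ker := MonoidHom.mem_ker.mpr h1.symm
  rw [Abelianization.ker_of] at h3
  rw [← Subgroup.map_subtype_commutator]
  exact ⟨_, h3, rfl⟩

/-- for a finite commutative group, there is an injective homomorphism from any homomorphic
image back into the group -/
theorem exists_injective_of_surjective {B D : Type*} [CommGroup B] [Finite B] [CommGroup D]
    (f : B →* D) (hf : Function.Surjective f) : ∃ j : D →* B, Function.Injective j := by
  have : Finite D := Finite.of_surjective f hf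
  have hB0 : Monoid.exponent B ≠ 0 := Monoid.exponent_ne_zero_of_finite
  have hD0 : Monoid.exponent D ≠ 0 := Monoid.exponent_ne_zero_of_finite
  have : NeZero ((Monoid.exponent B : ℕ) : ℂ) := ⟨by exact_mod_cast hB0⟩
  have : NeZero ((Monoid.exponent D : ℕ) : ℂ) := ⟨by exact_mod_cast hD0⟩
  obtain ⟨eB⟩ := CommGroup.monoidHom_mulEquiv_of_hasEnoughRootsOfUnity B ℂ
  obtain ⟨eD⟩ := CommGroup.monoidHom_mulEquiv_of_hasEnoughRootsOfUnity D ℂ
  let r : (D →* ℂˣ) →* (B →* ℂˣ) := MonoidHom.compHom' f
  have hr : Function.Injective r := by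
    intro χ₁ χ₂ h
    ext d
    obtain ⟨b, rfl⟩ := hf d
    have := DFunLike.congr_fun h b
    exact congrArg Units.val this
  exact ⟨(eB.toMonoidHom.comp r).comp eD.symm.toMonoidHom,
    (eB.injective.comp hr).comp eD.symm.injective⟩

/-- a subgroup of a quotient of a finite abelian group is isomorphic to a subgroup -/
theorem exists_subgroup_equiv {B D : Type*} [CommGroup B] [Finite B] [CommGroup D]
    (f : B →* D) (hf : Function.Surjective f) (Y : Subgroup D) :
    ∃ C : Subgroup B, Nonempty (Y ≃* C) := by
  obtain ⟨j, hj⟩ := exists_injective_of_surjective f hf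
  exact ⟨Y.map j, ⟨Y.equivMapOfInjective j hj⟩⟩

end Cfsg.Agent.Lib.Helper66_SchurSub
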