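import Mathlib
import Cfsg.Prelude.Def_KGroupFacts
import Cfsg.Agent.Lib.Helper66_SchurCore

set_option autoImplicit false
open Cfsg
open scoped commutatorElement

/-! The transfer `M(Q) → M(U)` for a subgroup `U` of finite index, in terms of the Hopf formula,
with `cor ∘ tr = |Q : U|`-th power. -/

namespace Cfsg.Agent.Lib.Helper66_SchurTransfer

open Cfsg.Agent.Lib.Helper66_SchurCore

universe u

/-- a finitely generated free group has a finite basis -/
theorem finite_of_fg_freeGroup (Y : Type*) [Group.FG (FreeGroup Y)] : Finite Y := by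
  have h1 : Group.FG (Abelianization (FreeGroup Y)) := QuotientGroup.fg _
  have e : Additive (Abelianization (FreeGroup Y)) ≃+ (Y →₀ ℤ) := FreeAbelianGroup.equivFinsupp Y
  have h2 : AddGroup.FG (Additive (Abelianization (FreeGroup Y))) := GroupFG.iff_add_fg.mp h1
  have h3 : AddGroup.FG (Y →₀ ℤ) := AddGroup.fg_of_surjective (f := e.toAddMonoidHom) e.surjective
  have h4 : Module.Finite ℤ (Y →₀ ℤ) := Module.Finite.iff_addGroup_fg.mpr h3
  rcases Module.finite_finsupp_self_iff.mp h4 with h | h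
  · exact absurd h (not_subsingleton ℤ)
  · exact h

/-- Nielsen–Schreier with finiteness: a subgroup of finite index in a free group of finite rank is
free of finite rank -/
theorem exists_free_basis {X : Type u} [Finite X] (V : Subgroup (FreeGroup X)) [V.FiniteIndex] :
    ∃ (Y : Type u) (_ : Finite Y), Nonempty (FreeGroup Y ≃* V) := by
  have h1 : Group.FG V := Subgroup.fg_of_index_ne_zero V
  let ι : V ≃* FreeGroup (IsFreeGroup.Generators V) := IsFreeGroup.toFreeGroup V
  have h2 : Group.FG (FreeGroup (IsFreeGroup.Generators V)) :=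
    Group.fg_of_surjective (f := ι.toMonoidHom) ι.surjective
  exact ⟨IsFreeGroup.Generators V, finite_of_fg_freeGroup _, ⟨ι.symm⟩⟩

section Setup

variable {X Y : Type*} {Q : Type*} [Group Q] (π : FreeGroup X →* Q) (U : Subgroup Q)
  (ι : FreeGroup Y ≃* ↥(U.comap π))

/-- the inclusion of the free subgroup -/
def j : FreeGroup Y →* FreeGroup X := (U.comap π).subtype.comp ι.toMonoidHom

theorem j_apply (w : FreeGroup Y) : j π U ι w = (ι w : FreeGroup X) := rfl

theorem j_injective : Function.Injective (j π U ι) :=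
  (Subgroup.subtype_injective _).comp ι.injective

theorem j_mem (w : FreeGroup Y) : π (j π U ι w) ∈ U := (ι w).2

theorem j_symm (v : FreeGroup X) (hv : v ∈ U.comap π) : j π U ι (ι.symm ⟨v, hv⟩) = v := by
  rw [j_apply, ι.apply_symm_apply]

/-- the induced presentation of `U` -/
def πU : FreeGroup Y →* U := (π.subgroupComap U).comp ι.toMonoidHom

theorem πU_apply (w : FreeGroup Y) : ((πU π U ι w : U) : Q) = π (j π U ι w) := rfl

theorem πU_surjective (hπ : Function.Surjective π) : Function.Surjective (πU π U ι) := by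
  rintro ⟨u, hu⟩
  obtain ⟨f, rfl⟩ := hπ u
  have hu' : f ∈ U.comap π := hu
  refine ⟨ι.symm ⟨f, hu'⟩, Subtype.ext ?_⟩
  rw [πU_apply, j_symm]

theorem mem_ker_πU {w : FreeGroup Y} : w ∈ (πU π U ι).ker ↔ j π U ι w ∈ π.ker := by
  rw [MonoidHom.mem_ker, MonoidHom.mem_ker, ← πU_apply, Subtype.ext_iff]
  rfl

theorem map_C_le : (C (πU π U ι)).map (j π U ι) ≤ C π := by
  rw [Subgroup.map_commutator]
  apply Subgroup.commutator_mono le_top
  rintro _ ⟨w, hw, rfl⟩
  exact (mem_ker_πU π U ι).mp hw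

/-- corestriction `E(U) → E(Q)` -/
def cor : E (πU π U ι) →* E π :=
  QuotientGroup.lift (C (πU π U ι)) ((QuotientGroup.mk' (C π)).comp (j π U ι)) (fun w hw => by
    rw [MonoidHom.mem_ker, MonoidHom.comp_apply, QuotientGroup.mk'_apply, QuotientGroup.eq_one_iff]
    exact map_C_le π U ι (Subgroup.mem_map_of_mem _ hw))

theorem cor_mk (w : FreeGroup Y) :
    cor π U ι (QuotientGroup.mk w) = QuotientGroup.mk (j π U ι w) := rfl

theorem ρ_cor (e : E (πU π U ι)) : ρ π (cor π U ι e) = ((ρ (πU π U ι) e : U) : Q) := by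
  obtain ⟨w, rfl⟩ := QuotientGroup.mk_surjective e
  rfl

theorem cor_mem_T {e : E (πU π U ι)} (he : e ∈ T (πU π U ι)) : cor π U ι e ∈ T π := by
  refine Subgroup.mem_inf.mpr ⟨?_, ?_⟩
  · rw [MonoidHom.mem_ker, ρ_cor, MonoidHom.mem_ker.mp he.1]
    rfl
  · have h1 : (commutator (E (πU π U ι))).map (cor π U ι) ≤ commutator (E π) := by
      rw [commutator_def, commutator_def, Subgroup.map_commutator]
      exact Subgroup.commutator_mono le_top le_top
    exact h1 (Subgroup.mem_map_of_mem _ he.2)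

end Setup

/-- the kernel of `ρ` is commutative -/
instance instCommGroupKer {X' Q' : Type*} [Group Q'] (π' : FreeGroup X' →* Q') :
    CommGroup (ρ π').ker :=
  { (ρ π').ker.toGroup with
    mul_comm := fun a b => Subtype.ext (by
      have := Subgroup.mem_center_iff.mp (ρ_ker_le_center π' a.2) b
      exact this.symm) }

section Transfer

variable {X Y : Type*} {Q : Type*} [Group Q] (π : FreeGroup X →* Q) (U : Subgroup Q)
  (ι : FreeGroup Y ≃* ↥(U.comap π))

theorem conj_mem (t : FreeGroup X) (r : π.ker) : t⁻¹ * (r : FreeGroup X) * t ∈ U.comap π := by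
  rw [Subgroup.mem_comap, map_mul, map_mul, map_inv, MonoidHom.mem_ker.mp r.2, mul_one,
    inv_mul_cancel]
  exact U.one_mem

/-- conjugation by `t⁻¹` as a homomorphism from `R` to `V` -/
def conjHom (t : FreeGroup X) : π.ker →* ↥(U.comap π) :=
  MonoidHom.mk' (fun r => ⟨t⁻¹ * (r : FreeGroup X) * t, conj_mem π U t r⟩) (by
    intro a b
    apply Subtype.ext
    show t⁻¹ * ((a : FreeGroup X) * (b : FreeGroup X)) * t =
      t⁻¹ * (a : FreeGroup X) * t * (t⁻¹ * (b : FreeGroup X) * t)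
    group)

theorem conjHom_apply (t : FreeGroup X) (r : π.ker) :
    ((conjHom π U t r : ↥(U.comap π)) : FreeGroup X) = t⁻¹ * (r : FreeGroup X) * t := rfl

/-- `r ↦ [t⁻¹ r t]` as a homomorphism `R → ker ρ_U` -/
def cHom (t : FreeGroup X) : π.ker →* (ρ (πU π U ι)).ker :=
  ((QuotientGroup.mk' (C (πU π U ι))).comp (ι.symm.toMonoidHom.comp (conjHom π U t))).codRestrict _
    (fun r => by
      rw [MonoidHom.mem_ker]
      show ρ (πU π U ι) (QuotientGroup.mk (ι.symm (conjHom π U t r))) = 1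
      rw [ρ_mk]
      apply Subtype.ext
      rw [πU_apply, j_apply, ι.apply_symm_apply, conjHom_apply, map_mul, map_mul, map_inv,
        MonoidHom.mem_ker.mp r.2, mul_one, inv_mul_cancel]
      rfl)

theorem cHom_apply (t : FreeGroup X) (r : π.ker) :
    ((cHom π U ι t r : (ρ (πU π U ι)).ker) : E (πU π U ι)) =
      QuotientGroup.mk (ι.symm (conjHom π U t r)) := rfl

/-- `cHom` only depends on the left coset of `t` -/
theorem cHom_mul (t v : FreeGroup X) (hv : v ∈ U.comap π) : cHom π U ι (t * v) = cHom π U ι t := by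
  ext r
  rw [cHom_apply, cHom_apply]
  have h1 : conjHom π U (t * v) r = (⟨v, hv⟩ : ↥(U.comap π))⁻¹ * conjHom π U t r * ⟨v, hv⟩ := by
    apply Subtype.ext
    rw [Subgroup.coe_mul, Subgroup.coe_mul, Subgroup.coe_inv, conjHom_apply, conjHom_apply]
    show (t * v)⁻¹ * (r : FreeGroup X) * (t * v) = v⁻¹ * (t⁻¹ * (r : FreeGroup X) * t) * v
    group
  rw [h1, map_mul, map_mul, map_inv, QuotientGroup.mk_mul, QuotientGroup.mk_mul,
    QuotientGroup.mk_inv]
  have hc := Subgroup.mem_center_iff.mp (ρ_ker_le_center (πU π U ι) (cHom π U ι t r).2)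
    (QuotientGroup.mk (ι.symm ⟨v, hv⟩) : E (πU π U ι))
  rw [cHom_apply] at hc
  rw [mul_assoc, ← hc, inv_mul_cancel_left]

theorem cHom_conj (t x : FreeGroup X) (r : π.ker) (hr : x * (r : FreeGroup X) * x⁻¹ ∈ π.ker) :
    cHom π U ι t ⟨x * (r : FreeGroup X) * x⁻¹, hr⟩ = cHom π U ι (x⁻¹ * t) r := by
  apply Subtype.ext
  rw [cHom_apply, cHom_apply]
  congr 2
  apply Subtype.ext
  rw [conjHom_apply, conjHom_apply]
  show t⁻¹ * (x * (r : FreeGroup X) * x⁻¹) * t = (x⁻¹ * t)⁻¹ * (r : FreeGroup X) * (x⁻¹ * t)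
  group

/-- `cor` on the kernels -/
def corK : (ρ (πU π U ι)).ker →* (ρ π).ker :=
  ((cor π U ι).comp (ρ (πU π U ι)).ker.subtype).codRestrict _ (fun z => by
    rw [MonoidHom.mem_ker]
    show ρ π (cor π U ι (z : E (πU π U ι))) = 1
    rw [ρ_cor, MonoidHom.mem_ker.mp z.2]
    rfl)

theorem corK_apply (z : (ρ (πU π U ι)).ker) :
    ((corK π U ι z : (ρ π).ker) : E π) = cor π U ι (z : E (πU π U ι)) := rfl

/-- the class of `r ∈ R` in `ker ρ` -/
def θ : π.ker →* (ρ π).ker :=
  ((QuotientGroup.mk' (C π)).comp π.ker.subtype).codRestrict _ (fun r => by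
    rw [MonoidHom.mem_ker]
    exact r.2)

theorem θ_apply (r : π.ker) : ((θ π r : (ρ π).ker) : E π) = QuotientGroup.mk (r : FreeGroup X) := rfl

theorem θ_surjective : Function.Surjective (θ π) := by
  rintro ⟨z, hz⟩
  obtain ⟨f, rfl⟩ := QuotientGroup.mk_surjective z
  exact ⟨⟨f, hz⟩, rfl⟩

theorem corK_cHom (t : FreeGroup X) (r : π.ker) : corK π U ι (cHom π U ι t r) = θ π r := by
  apply Subtype.ext
  rw [corK_apply, cHom_apply, cor_mk, j_apply, ι.apply_symm_apply, conjHom_apply, θ_apply,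
    QuotientGroup.mk_mul, QuotientGroup.mk_mul, QuotientGroup.mk_inv]
  have hc := Subgroup.mem_center_iff.mp (ρ_ker_le_center π (θ π r).2) (QuotientGroup.mk t : E π)
  rw [θ_apply] at hc
  rw [mul_assoc, ← hc, inv_mul_cancel_left]

variable [Fintype (FreeGroup X ⧸ U.comap π)]

/-- the norm map `R → ker ρ_U` -/
noncomputable def Nm : π.ker →* (ρ (πU π U ι)).ker :=
  ∏ q : FreeGroup X ⧸ U.comap π, cHom π U ι q.out

theorem Nm_apply (r : π.ker) :
    Nm π U ι r = ∏ q : FreeGroup X ⧸ U.comap π, cHom π U ι q.out r := by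
  unfold Nm
  rw [MonoidHom.finsetProd_apply]

theorem Nm_conj (x : FreeGroup X) (r : π.ker) (hr : x * (r : FreeGroup X) * x⁻¹ ∈ π.ker) :
    Nm π U ι ⟨x * (r : FreeGroup X) * x⁻¹, hr⟩ = Nm π U ι r := by
  rw [Nm_apply, Nm_apply]
  have h1 : ∀ q : FreeGroup X ⧸ U.comap π,
      cHom π U ι q.out ⟨x * (r : FreeGroup X) * x⁻¹, hr⟩ = cHom π U ι ((x⁻¹ • q).out) r := by
    intro q
    rw [cHom_conj]
    have h2 : x⁻¹ • q = QuotientGroup.mk (x⁻¹ * q.out) := by
      conv_lhs => rw [← QuotientGroup.out_eq' q]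
      rfl
    obtain ⟨v, hv⟩ := QuotientGroup.mk_out_eq_mul (U.comap π) (x⁻¹ * q.out)
    rw [h2, hv, cHom_mul π U ι _ _ v.2]
  rw [Finset.prod_congr rfl (fun q _ => h1 q)]
  exact Fintype.prod_equiv (MulAction.toPerm x⁻¹) _ _ (fun q => rfl)

theorem corK_Nm (r : π.ker) :
    corK π U ι (Nm π U ι r) = θ π r ^ Fintype.card (FreeGroup X ⧸ U.comap π) := by
  rw [Nm_apply, map_prod, Finset.prod_congr rfl (fun q _ => corK_cHom π U ι q.out r),
    Finset.prod_const, Finset.card_univ]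

theorem ker_θ_le : (θ π).ker ≤ (Nm π U ι).ker := by
  have h1 : C π ≤ (Nm π U ι).ker.map π.ker.subtype := by
    rw [Subgroup.commutator_le]
    intro x _ r hr
    have hr' : x * r * x⁻¹ ∈ π.ker := (inferInstance : π.ker.Normal).conj_mem r hr x
    refine ⟨⟨x * r * x⁻¹, hr'⟩ * (⟨r, hr⟩ : π.ker)⁻¹, ?_, ?_⟩
    · rw [SetLike.mem_coe, MonoidHom.mem_ker, map_mul, map_inv]
      rw [Nm_conj π U ι x ⟨r, hr⟩ hr', mul_inv_cancel]
    · rfl
  intro r hr
  have h2 : (r : FreeGroup X) ∈ C π := by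
    have := congrArg Subtype.val (MonoidHom.mem_ker.mp hr)
    rw [θ_apply] at this
    exact (QuotientGroup.eq_one_iff _).mp this
  obtain ⟨r', hr', hrr⟩ := h1 h2
  have : r' = r := Subtype.ext hrr
  rw [← this]
  exact hr'

/-- the transfer on kernels -/
noncomputable def trK : (ρ π).ker →* (ρ (πU π U ι)).ker :=
  (θ π).liftOfRightInverse (Function.surjInv (θ_surjective π))
    (Function.rightInverse_surjInv (θ_surjective π)) ⟨Nm π U ι, ker_θ_le π U ι⟩

theorem trK_θ (r : π.ker) : trK π U ι (θ π r) = Nm π U ι r :=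
  MonoidHom.liftOfRightInverse_comp_apply (θ π) _ (Function.rightInverse_surjInv (θ_surjective π))
    ⟨Nm π U ι, ker_θ_le π U ι⟩ r

theorem corK_trK (z : (ρ π).ker) :
    corK π U ι (trK π U ι z) = z ^ Fintype.card (FreeGroup X ⧸ U.comap π) := by
  obtain ⟨r, rfl⟩ := θ_surjective π z
  rw [trK_θ, corK_Nm]

/-- the transfer `T(Q) → T(U)` with `cor ∘ tr` the `|Q : U|`-th power map -/
theorem exists_tr [Finite Q] (hπ : Function.Surjective π) :
    ∃ g : T π →* T (πU π U ι), ∀ z : T π,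
      cor π U ι ((g z : T (πU π U ι)) : E (πU π U ι)) = (z : E π) ^ U.index := by
  have hcard : Fintype.card (FreeGroup X ⧸ U.comap π) = U.index := by
    rw [← Nat.card_eq_fintype_card, ← Subgroup.index_eq_card,
      Subgroup.index_comap_of_surjective U hπ]
  have hmem : ∀ z : T π, ((trK π U ι ⟨z, T_le_ker π z.2⟩ : (ρ (πU π U ι)).ker) : E (πU π U ι)) ∈
      T (πU π U ι) := by
    intro z
    have hn : 0 < Nat.card (T π) := Nat.card_pos
    apply T_torsionFree_quot (πU π U ι) _ (Nat.card (T π)) hn (SetLike.coe_mem _)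
    have h1 : (⟨z, T_le_ker π z.2⟩ : (ρ π).ker) ^ Nat.card (T π) = 1 := by
      apply Subtype.ext
      rw [Subgroup.coe_pow, Subgroup.coe_one]
      have h2 : z ^ Nat.card (T π) = 1 := pow_card_eq_one'
      have h3 := congrArg Subtype.val h2
      rwa [Subgroup.coe_pow] at h3
    have h4 : (trK π U ι ⟨z, T_le_ker π z.2⟩) ^ Nat.card (T π) = 1 := by
      rw [← map_pow, h1, map_one]
    have h5 := congrArg Subtype.val h4
    rw [Subgroup.coe_pow, Subgroup.coe_one] at h5
    rw [h5]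
    exact Subgroup.one_mem _
  let g : T π →* T (πU π U ι) := MonoidHom.mk' (fun z => ⟨_, hmem z⟩) (by
    intro a b
    apply Subtype.ext
    show ((trK π U ι ⟨((a * b : T π) : E π), _⟩ : (ρ (πU π U ι)).ker) : E (πU π U ι)) =
      ((trK π U ι ⟨(a : E π), _⟩ : (ρ (πU π U ι)).ker) : E (πU π U ι)) *
      ((trK π U ι ⟨(b : E π), _⟩ : (ρ (πU π U ι)).ker) : E (πU π U ι))
    rw [← Subgroup.coe_mul, ← map_mul]
    rfl)
  refine ⟨g, fun z => ?_⟩
  show cor π U ι ((trK π U ι ⟨z, T_le_ker π z.2⟩ : (ρ (πU π U ι)).ker) : E (πU π U ι)) = _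
  rw [← corK_apply, corK_trK, hcard, Subgroup.coe_pow]

end Transfer

/-- a retraction up to an invertible power gives a direct factor -/
theorem exists_direct_factor {A B : Type*} [CommGroup A] [CommGroup B] [Finite A]
    (p : ℕ) [Fact p.Prime] (m : ℕ) (hm : ¬ p ∣ m) (hB : IsPGroup p B)
    (f : B →* A) (g : A →* B) (hfg : ∀ a, f (g a) = a ^ m) :
    ∃ C D : Subgroup B, C ⊓ D = ⊥ ∧ C ⊔ D = ⊤ ∧
      Nonempty (CommGroup.primaryComponent A p ≃* C) := by
  have hp : p.Prime := Fact.out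
  have hcop : ∀ n : ℕ, Nat.Coprime (p ^ n) m := fun n =>
    Nat.Coprime.pow_left n ((Nat.Prime.coprime_iff_not_dvd hp).mpr hm)
  -- elements of the primary component killed by `m` are trivial
  have hkey : ∀ a : A, a ∈ CommGroup.primaryComponent A p → a ^ m = 1 → a = 1 := by
    intro a ha ham
    obtain ⟨n, hn⟩ := ha
    have h1 : orderOf a ∣ m := orderOf_dvd_of_pow_eq_one ham
    have h2 : orderOf a ∣ p ^ n := orderOf_dvd_of_pow_eq_one hn
    have h3 : orderOf a = 1 := Nat.eq_one_of_dvd_coprimes (hcop n) h2 h1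
    exact orderOf_eq_one_iff.mp h3
  let g' : CommGroup.primaryComponent A p →* B := g.comp (CommGroup.primaryComponent A p).subtype
  have hg' : Function.Injective g' := by
    rw [injective_iff_map_eq_one]
    intro a ha
    have h1 : f (g (a : A)) = 1 := by
      have : g (a : A) = 1 := ha
      rw [this, map_one]
    rw [hfg] at h1
    exact Subtype.ext (hkey a a.2 h1)
  refine ⟨g'.range, f.ker, ?_, ?_, ⟨MonoidHom.ofInjective hg'⟩⟩
  · rw [eq_bot_iff]
    rintro x ⟨⟨a, rfl⟩, hx⟩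
    have h1 : f (g (a : A)) = 1 := hx
    rw [hfg] at h1
    have h2 : a = 1 := Subtype.ext (hkey a a.2 h1)
    rw [h2, map_one]
    exact Subgroup.one_mem _
  · rw [eq_top_iff]
    intro b _
    obtain ⟨k, hk⟩ := hB b
    have hfb : (f b) ^ p ^ k = 1 := by rw [← map_pow, hk, map_one]
    obtain ⟨u, v, huv⟩ : ∃ u v : ℤ, (m : ℤ) * u + ((p ^ k : ℕ) : ℤ) * v = 1 := by
      have := Int.gcd_eq_gcd_ab (m : ℤ) ((p ^ k : ℕ) : ℤ)
      rw [Int.gcd_natCast_natCast, (hcop k).symm, Nat.cast_one] at this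
      exact ⟨_, _, this.symm⟩
    have ha : (f b) ^ u ∈ CommGroup.primaryComponent A p := by
      refine ⟨k, ?_⟩
      rw [← zpow_natCast, ← zpow_mul, mul_comm, zpow_mul, zpow_natCast, hfb, one_zpow]
    have h1 : ((f b) ^ u) ^ m = f b := by
      rw [← zpow_natCast, ← zpow_mul]
      have : u * (m : ℤ) = 1 - ((p ^ k : ℕ) : ℤ) * v := by linarith
      rw [this, zpow_sub, zpow_one, zpow_mul, zpow_natCast, hfb, one_zpow, inv_one, mul_one]
    rw [Subgroup.mem_sup]
    refine ⟨g ((f b) ^ u), ⟨⟨_, ha⟩, rfl⟩, (g ((f b) ^ u))⁻¹ * b, ?_, by group⟩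
    rw [MonoidHom.mem_ker, map_mul, map_inv, hfg, h1, inv_mul_cancel]

end Cfsg.Agent.Lib.Helper66_SchurTransfer
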