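import Mathlib
import Cfsg.Prelude.Def_KGroupFacts
import Cfsg.Agent.Lib.Helper66_SchurCore
import Cfsg.Agent.Lib.Helper66_SchurAb
import Cfsg.Agent.Lib.Helper66_SchurMain

set_option autoImplicit false
open Cfsg

/-! Uniqueness of Schur covers over `Q` when `|Qᵃᵇ|` and `|M(Q)|` are coprime, and
non-uniqueness otherwise. -/

namespace Cfsg.Agent.Lib.Helper66_SchurUnique

open Cfsg.Agent.Lib.Helper66_SchurCore Cfsg.Agent.Lib.Helper66_SchurMain

/-- extension of homomorphisms in the coprime case -/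
theorem exists_extension_of_coprime {E Z : Type*} [Group E] [CommGroup Z] (S : Subgroup E)
    (hS : S ⊓ commutator E = ⊥) (k m : ℕ) (hkm : Nat.Coprime k m) (hZ : ∀ z : Z, z ^ m = 1)
    (hk : ∀ x : E, ∃ c ∈ commutator E, ∃ s ∈ S, x ^ k = c * s) (t : S →* Z) :
    ∃ μ : E →* Z, ∀ s : S, μ s = t s := by
  let f : S →* Abelianization E := (Abelianization.of).comp S.subtype
  have hf : Function.Injective f := by
    rw [injective_iff_map_eq_one]
    intro s hs
    have h1 : (s : E) ∈ commutator E := by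
      rw [← Abelianization.ker_of]
      exact hs
    have h2 : (s : E) ∈ S ⊓ commutator E := Subgroup.mem_inf.mpr ⟨s.2, h1⟩
    rw [hS, Subgroup.mem_bot] at h2
    exact Subtype.ext h2
  let ι : S ≃* f.range := MonoidHom.ofInjective hf
  have hP : ∀ x : Abelianization E, powMonoidHom k x ∈ f.range := by
    intro x
    obtain ⟨x, rfl⟩ := QuotientGroup.mk_surjective x
    obtain ⟨c, hc, s, hs, hx⟩ := hk x
    refine ⟨⟨s, hs⟩, ?_⟩
    show Abelianization.of s = (Abelianization.of x) ^ k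
    rw [← map_pow, hx, map_mul]
    have : Abelianization.of c = 1 := by
      rw [← MonoidHom.mem_ker, Abelianization.ker_of]
      exact hc
    rw [this, one_mul]
  let P : Abelianization E →* f.range := (powMonoidHom k).codRestrict f.range hP
  obtain ⟨a, b, hab⟩ : ∃ a b : ℤ, (k : ℤ) * a + (m : ℤ) * b = 1 := by
    have := Int.gcd_eq_gcd_ab k m
    rw [Int.gcd_natCast_natCast, hkm, Nat.cast_one] at this
    exact ⟨_, _, this.symm⟩
  refine ⟨(zpowGroupHom a).comp ((t.comp ι.symm.toMonoidHom).comp (P.comp Abelianization.of)), ?_⟩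
  intro s
  have h1 : P (Abelianization.of (s : E)) = ι s ^ k := by
    apply Subtype.ext
    show (Abelianization.of (s : E)) ^ k = ((ι s ^ k : f.range) : Abelianization E)
    rw [Subgroup.coe_pow]
    rfl
  show (t (ι.symm (P (Abelianization.of (s : E))))) ^ a = t s
  rw [h1, map_pow, ι.symm_apply_apply, map_pow, ← zpow_natCast, ← zpow_mul]
  have h2 : (k : ℤ) * a = 1 - (m : ℤ) * b := by linarith
  rw [h2, zpow_sub, zpow_one, zpow_mul, zpow_natCast, hZ, one_zpow, inv_one, mul_one]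

/-- the order of a finite extension -/
theorem card_eq_card_ker_mul {Γ Q : Type*} [Group Γ] [Group Q] (σ : Γ →* Q)
    (hσ : Function.Surjective σ) : Nat.card Γ = Nat.card σ.ker * Nat.card Q := by
  rw [← σ.ker.card_mul_index, Subgroup.index_ker, MonoidHom.range_eq_top_of_surjective σ hσ,
    Subgroup.card_top]

/-- in a stem extension of `Q`, `|Qᵃᵇ|`-th powers are products of commutators -/
theorem pow_card_mem_commutator {Γ Q : Type*} [Group Γ] [Group Q] [Finite Q] (σ : Γ →* Q)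
    (hσ : IsStemExtension σ) (g : Γ) : g ^ Nat.card (Abelianization Q) ∈ commutator Γ := by
  have h1 : (Abelianization.of (σ g)) ^ Nat.card (Abelianization Q) = 1 := pow_card_eq_one'
  rw [← map_pow, ← MonoidHom.mem_ker, Abelianization.ker_of, ← map_pow] at h1
  have h2 : commutator Q = (commutator Γ).map σ := by
    rw [commutator_def, commutator_def, Subgroup.map_commutator, ← MonoidHom.range_eq_map,
      MonoidHom.range_eq_top_of_surjective σ hσ.1]
  rw [h2] at h1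
  obtain ⟨c, hc, hcg⟩ := h1
  have h3 : c⁻¹ * g ^ Nat.card (Abelianization Q) ∈ σ.ker := by
    rw [MonoidHom.mem_ker, map_mul, map_inv, hcg, inv_mul_cancel]
  have h4 := Subgroup.mul_mem _ hc (hσ.2.2 h3)
  rwa [mul_inv_cancel_left] at h4

/-- two finite stem extensions of `Q` whose kernels have the order of the multiplier are
isomorphic over `Q` when `|Qᵃᵇ|` is prime to that order -/
theorem exists_iso_over_of_coprime {X : Type*} {Q : Type*} [Group Q] [Finite Q]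
    (π : FreeGroup X →* Q) (hπ : Function.Surjective π)
    {Γ₁ Γ₂ : Type*} [Group Γ₁] [Group Γ₂] [Finite Γ₁] [Finite Γ₂]
    (σ₁ : Γ₁ →* Q) (σ₂ : Γ₂ →* Q) (h₁ : IsStemExtension σ₁) (h₂ : IsStemExtension σ₂)
    (hc₁ : Nat.card σ₁.ker = Nat.card (T π)) (hc₂ : Nat.card σ₂.ker = Nat.card (T π))
    (hcop : Nat.Coprime (Nat.card (Abelianization Q)) (Nat.card (T π))) :
    ∃ e : Γ₁ ≃* Γ₂, σ₂.comp e.toMonoidHom = σ₁ := by
  have hρ := ρ_surjective π hπ
  obtain ⟨β₁, hβ₁⟩ := exists_lift π σ₁ h₁.1 h₁.2.1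
  obtain ⟨β₂, hβ₂⟩ := exists_lift π σ₂ h₂.1 h₂.2.1
  have hs₁ := surjective_of_stem (ρ π) hρ σ₁ h₁ β₁ hβ₁
  have hβ₁' : ∀ x, σ₁ (β₁ x) = ρ π x := fun x => by rw [← hβ₁]; rfl
  have hβ₂' : ∀ x, σ₂ (β₂ x) = ρ π x := fun x => by rw [← hβ₂]; rfl
  -- `S₁ = ker β₁`
  have hS₁K : β₁.ker ≤ (ρ π).ker := by
    intro s hs
    rw [MonoidHom.mem_ker, ← hβ₁', MonoidHom.mem_ker.mp hs, map_one]
  -- `β₁` is injective on `T`
  have hT : β₁.ker ⊓ T π = ⊥ := by
    obtain ⟨f, hf, hfx⟩ := exists_surjective_of_stem (ρ π) hρ σ₁ h₁ β₁ hβ₁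
    have hfin : Finite ↥((ρ π).ker ⊓ commutator (E π)) := finite_T π
    have hbij : Function.Bijective f :=
      hf.bijective_of_nat_card_le (le_of_eq hc₁.symm)
    rw [eq_bot_iff]
    intro x hx
    have h1 : f ⟨x, hx.2⟩ = 1 := by
      apply Subtype.ext
      rw [hfx]
      exact hx.1
    have h2 := hbij.1 (h1.trans (map_one f).symm)
    rw [Subgroup.mem_bot]
    exact congrArg Subtype.val h2
  have hS₁c : β₁.ker ⊓ commutator (E π) = ⊥ := by
    rw [eq_bot_iff, ← hT]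
    intro x hx
    exact Subgroup.mem_inf.mpr ⟨hx.1, Subgroup.mem_inf.mpr ⟨hS₁K hx.1, hx.2⟩⟩
  -- `k`-th powers
  have hk : ∀ x : E π, ∃ c ∈ commutator (E π), ∃ s ∈ β₁.ker,
      x ^ Nat.card (Abelianization Q) = c * s := by
    intro x
    have h1 := pow_card_mem_commutator σ₁ h₁ (β₁ x)
    rw [← map_commutator_eq (ρ π) hρ σ₁ h₁.2.1 β₁ hβ₁, ← map_pow] at h1
    obtain ⟨c, hc, hcx⟩ := h1
    refine ⟨c, hc, c⁻¹ * x ^ Nat.card (Abelianization Q), ?_, by group⟩
    rw [MonoidHom.mem_ker, map_mul, map_inv, hcx, inv_mul_cancel]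
  -- the target group
  let _ : CommGroup σ₂.ker :=
    { (inferInstance : Group σ₂.ker) with
      mul_comm := fun a b => Subtype.ext (Subgroup.mem_center_iff.mp (h₂.2.1 b.2) a) }
  have hZ : ∀ z : σ₂.ker, z ^ Nat.card (T π) = 1 := by
    intro z
    rw [← hc₂]
    exact pow_card_eq_one'
  let t₀ : β₁.ker →* σ₂.ker := (β₂.comp β₁.ker.subtype).codRestrict σ₂.ker (fun s => by
    rw [MonoidHom.mem_ker]
    show σ₂ (β₂ (s : E π)) = 1
    rw [hβ₂']
    exact hS₁K s.2)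
  let t : β₁.ker →* σ₂.ker := (MonoidHom.id _)⁻¹ |>.comp t₀
  have ht : ∀ s : β₁.ker, ((t s : σ₂.ker) : Γ₂) = (β₂ (s : E π))⁻¹ := fun s => rfl
  obtain ⟨μ, hμ⟩ := exists_extension_of_coprime β₁.ker hS₁c _ _ hcop hZ hk t
  -- the corrected lift
  have hμc : ∀ x : E π, ∀ g : Γ₂, g * (μ x : Γ₂) = (μ x : Γ₂) * g := fun x g =>
    Subgroup.mem_center_iff.mp (h₂.2.1 (μ x).2) g
  let β₂' : E π →* Γ₂ := MonoidHom.mk' (fun x => β₂ x * (μ x : Γ₂)) (by
    intro x y
    show β₂ (x * y) * ((μ (x * y) : σ₂.ker) : Γ₂) = β₂ x * (μ x : Γ₂) * (β₂ y * (μ y : Γ₂))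
    rw [map_mul, map_mul, Subgroup.coe_mul, mul_assoc, mul_assoc, ← mul_assoc (β₂ y),
      hμc x (β₂ y), mul_assoc])
  have hβ₂'' : ∀ x, σ₂ (β₂' x) = ρ π x := by
    intro x
    show σ₂ (β₂ x * (μ x : Γ₂)) = ρ π x
    rw [map_mul, hβ₂', MonoidHom.mem_ker.mp (μ x).2, mul_one]
  have hker : β₁.ker ≤ β₂'.ker := by
    intro s hs
    rw [MonoidHom.mem_ker]
    show β₂ s * ((μ s : σ₂.ker) : Γ₂) = 1
    have := hμ ⟨s, hs⟩
    rw [show μ s = μ ((⟨s, hs⟩ : β₁.ker) : E π) from rfl, this, ht, mul_inv_cancel]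
  let ē : Γ₁ →* Γ₂ := β₁.liftOfRightInverse (Function.surjInv hs₁)
    (Function.rightInverse_surjInv hs₁) ⟨β₂', hker⟩
  have hē : ∀ x, ē (β₁ x) = β₂' x := fun x =>
    MonoidHom.liftOfRightInverse_comp_apply β₁ _ (Function.rightInverse_surjInv hs₁) ⟨β₂', hker⟩ x
  have hcomp : σ₂.comp ē = σ₁ := by
    ext g
    obtain ⟨x, rfl⟩ := hs₁ g
    rw [MonoidHom.comp_apply, hē, hβ₂'', hβ₁']
  have hsurj : Function.Surjective ē := surjective_of_stem σ₁ h₁.1 σ₂ h₂ ē hcomp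
  have hcard : Nat.card Γ₁ = Nat.card Γ₂ := by
    rw [card_eq_card_ker_mul σ₁ h₁.1, card_eq_card_ker_mul σ₂ h₂.1, hc₁, hc₂]
  have hbij : Function.Bijective ē := hsurj.bijective_of_nat_card_le (le_of_eq hcard)
  refine ⟨MulEquiv.ofBijective ē hbij, ?_⟩
  rw [← hcomp]
  rfl

/-- a finite commutative group of order divisible by `p` has a cyclic direct factor of order
divisible by `p` -/
theorem exists_cyclic_factor (G : Type*) [CommGroup G] [Finite G] (p : ℕ) (hp : p.Prime)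
    (hpG : p ∣ Nat.card G) :
    ∃ n : ℕ, p ∣ n ∧ 0 < n ∧ ∃ χ : G →* Multiplicative (ZMod n), ∃ y : G,
      χ y = Multiplicative.ofAdd (1 : ZMod n) ∧ y ^ n = 1 := by
  classical
  obtain ⟨ι, _, n, hn, ⟨e⟩⟩ := CommGroup.equiv_prod_multiplicative_zmod_of_finite G
  have hcard : Nat.card G = ∏ i, n i := by
    rw [Nat.card_congr e.toEquiv, Nat.card_pi]
    apply Finset.prod_congr rfl
    intro i _
    rw [Nat.card_congr Multiplicative.toAdd, Nat.card_zmod]
  rw [hcard] at hpG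
  obtain ⟨i, -, hi⟩ := (Prime.dvd_finsetProd_iff hp.prime _).mp hpG
  refine ⟨n i, hi, by linarith [hn i], (Pi.evalMonoidHom _ i).comp e.toMonoidHom,
    e.symm (Pi.mulSingle i (Multiplicative.ofAdd (1 : ZMod (n i)))), ?_, ?_⟩
  · simp
  · apply e.injective
    rw [map_pow, e.apply_symm_apply, ← Pi.mulSingle_pow, ← ofAdd_nsmul]
    simp

/-- in a finite commutative group of order divisible by `p` some element is not a `p`-th power -/
theorem exists_not_pow (G : Type*) [CommGroup G] [Finite G] (p : ℕ) (hp : p.Prime)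
    (hpG : p ∣ Nat.card G) : ∃ u : G, ∀ v : G, v ^ p ≠ u := by
  have : Fact p.Prime := ⟨hp⟩
  obtain ⟨x, hx⟩ := exists_prime_orderOf_dvd_card' p hpG
  have h1 : ¬ Function.Injective (powMonoidHom p : G →* G) := by
    intro hinj
    have h2 : (powMonoidHom p : G →* G) x = (powMonoidHom p : G →* G) 1 := by
      rw [map_one, powMonoidHom_apply, ← hx, pow_orderOf_eq_one]
    have h3 := hinj h2
    rw [h3, orderOf_one] at hx
    exact hp.one_lt.ne hx
  rw [Finite.injective_iff_surjective] at h1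
  by_contra hcon
  push Not at hcon
  exact h1 (fun u => by obtain ⟨v, hv⟩ := hcon u; exact ⟨v, hv⟩)

section Twist

variable {X : Type*} {Q : Type*} [Group Q] (π : FreeGroup X →* Q)

/-- the quotient of `E` by a complement of `T` in `ker ρ` is a Schur cover -/
theorem cover_of_complement [Finite Q] (hπ : Function.Surjective π) (S : Subgroup (E π)) [S.Normal]
    (hS : S ≤ (ρ π).ker) (h0 : S ⊓ T π = ⊥) (h1 : S ⊔ T π = (ρ π).ker) :
    IsStemExtension (quotHom (ρ π) S hS) ∧ Nonempty ((quotHom (ρ π) S hS).ker ≃* T π) ∧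
      Finite (E π ⧸ S) := by
  have hst := quotHom_isStem (ρ π) (ρ_surjective π hπ) (ρ_ker_le_center π) S hS h1
  obtain ⟨k⟩ := quotHom_ker_equiv (ρ π) (ρ_ker_le_center π) S hS h0 h1
  refine ⟨hst, ⟨k.symm⟩, ?_⟩
  have hfin : Finite ↥((ρ π).ker ⊓ commutator (E π)) := finite_T π
  have : Finite (quotHom (ρ π) S hS).ker := Finite.of_equiv _ k.toEquiv
  exact finite_of_ker_of_range (quotHom (ρ π) S hS)

/-- twisting a complement by a homomorphism `ker ρ → T` -/
theorem twist_complement (S : Subgroup (E π)) (hS : S ≤ (ρ π).ker) (h0 : S ⊓ T π = ⊥)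
    (h1 : S ⊔ T π = (ρ π).ker) (t₀ : (ρ π).ker →* T π) :
    ∃ S₂ : Subgroup (E π), S₂ ≤ (ρ π).ker ∧ S₂ ⊓ T π = ⊥ ∧ S₂ ⊔ T π = (ρ π).ker ∧
      ∀ s (hs : s ∈ S), s * (t₀ ⟨s, hS hs⟩ : E π) ∈ S₂ := by
  have hcen : ∀ (k : (ρ π).ker) (g : E π), g * (t₀ k : E π) = (t₀ k : E π) * g := fun k g =>
    Subgroup.mem_center_iff.mp (T_le_center π (t₀ k).2) g
  let ψ : (ρ π).ker →* E π := MonoidHom.mk' (fun k => (k : E π) * (t₀ k : E π)) (by
    intro a b
    show ((a * b : (ρ π).ker) : E π) * ((t₀ (a * b) : T π) : E π) =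
      (a : E π) * (t₀ a : E π) * ((b : E π) * (t₀ b : E π))
    rw [map_mul, Subgroup.coe_mul, Subgroup.coe_mul, mul_assoc, mul_assoc,
      ← mul_assoc (b : E π), hcen a (b : E π), mul_assoc])
  have hψ : ∀ k : (ρ π).ker, ψ k = (k : E π) * (t₀ k : E π) := fun k => rfl
  refine ⟨(S.subgroupOf (ρ π).ker).map ψ, ?_, ?_, ?_, ?_⟩
  · rintro _ ⟨k, -, rfl⟩
    rw [hψ]
    exact Subgroup.mul_mem _ k.2 (T_le_ker π (t₀ k).2)
  · rw [eq_bot_iff]
    rintro _ ⟨⟨k, hk, rfl⟩, hx⟩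
    rw [hψ] at hx ⊢
    have hk' : (k : E π) ∈ S := Subgroup.mem_subgroupOf.mp hk
    have h2 : (k : E π) ∈ T π := by
      have := Subgroup.mul_mem _ hx (Subgroup.inv_mem _ (t₀ k).2)
      rwa [mul_inv_cancel_right] at this
    have h3 : (k : E π) ∈ S ⊓ T π := Subgroup.mem_inf.mpr ⟨hk', h2⟩
    rw [h0, Subgroup.mem_bot] at h3
    have h4 : k = 1 := Subtype.ext h3
    rw [h4, map_one]
    simp
  · apply le_antisymm
    · apply sup_le _ (T_le_ker π)
      rintro _ ⟨k, -, rfl⟩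
      rw [hψ]
      exact Subgroup.mul_mem _ k.2 (T_le_ker π (t₀ k).2)
    · intro k hk
      rw [← h1] at hk
      obtain ⟨s, hs, τ, hτ, rfl⟩ :=
        (Cfsg.Agent.Lib.Helper66_SchurAb.mem_sup_of_le_center (T_le_center π)).mp hk
      have e1 : s * τ = ψ ⟨s, hS hs⟩ * ((t₀ ⟨s, hS hs⟩ : E π)⁻¹ * τ) := by
        rw [hψ]
        group
      rw [e1]
      refine Subgroup.mul_mem _ (Subgroup.mem_sup_left ⟨⟨s, hS hs⟩, ?_, rfl⟩)
        (Subgroup.mem_sup_right (Subgroup.mul_mem _ (Subgroup.inv_mem _ (t₀ _).2) hτ))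
      exact Subgroup.mem_subgroupOf.mpr hs
  · intro s hs
    exact ⟨⟨s, hS hs⟩, Subgroup.mem_subgroupOf.mpr hs, rfl⟩

end Twist

end Cfsg.Agent.Lib.Helper66_SchurUnique
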