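import Mathlib
import Cfsg.Prelude.Def_KGroupFacts
import Cfsg.Agent.Lib.Helper66_SchurCore
import Cfsg.Agent.Lib.Helper66_SchurAb
import Cfsg.Agent.Lib.Helper66_SchurMain
import Cfsg.Agent.Lib.Helper66_SchurUnique

set_option autoImplicit false
open Cfsg

/-! Non-uniqueness of Schur covers over `Q` when `|Qᵃᵇ|` and `|M(Q)|` are not coprime. -/

namespace Cfsg.Agent.Lib.Helper66_SchurUnique2

open Cfsg.Agent.Lib.Helper66_SchurCore Cfsg.Agent.Lib.Helper66_SchurMain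
  Cfsg.Agent.Lib.Helper66_SchurUnique

universe u

variable {Q : Type u} [Group Q] [Finite Q] {X : Type u} [Finite X] (π : FreeGroup X →* Q)

omit [Finite Q] [Finite X] in
/-- a homomorphism `E → ℤ` lifting a character `Qᵃᵇ → ℤ/n` -/
theorem exists_lam (n : ℕ) (χ : Abelianization Q →* Multiplicative (ZMod n)) :
    ∃ lam : E π →* Multiplicative ℤ, ∀ z : E π,
      ((Multiplicative.toAdd (lam z) : ℤ) : ZMod n) =
        Multiplicative.toAdd (χ (Abelianization.of (ρ π z))) := by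
  choose a ha using fun x : X => ZMod.intCast_surjective
    (Multiplicative.toAdd (χ (Abelianization.of (π (FreeGroup.of x)))))
  let lam₀ : FreeGroup X →* Multiplicative ℤ := FreeGroup.lift (fun x => Multiplicative.ofAdd (a x))
  let lam : E π →* Multiplicative ℤ := QuotientGroup.lift (C π) lam₀ (fun x hx =>
    Abelianization.commutator_subset_ker lam₀ (C_le_commutator π hx))
  let cst : Multiplicative ℤ →* Multiplicative (ZMod n) :=
    AddMonoidHom.toMultiplicative (Int.castAddHom (ZMod n))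
  have hcst : cst.comp lam₀ = (χ.comp Abelianization.of).comp π := by
    ext x
    show Multiplicative.ofAdd ((Multiplicative.toAdd (lam₀ (FreeGroup.of x)) : ℤ) : ZMod n) = _
    rw [show lam₀ (FreeGroup.of x) = Multiplicative.ofAdd (a x) from FreeGroup.lift_apply_of]
    rw [toAdd_ofAdd, ha]
    rfl
  refine ⟨lam, ?_⟩
  intro z
  obtain ⟨f, rfl⟩ := QuotientGroup.mk_surjective z
  exact congrArg Multiplicative.toAdd (DFunLike.congr_fun hcst f)

/-- if any two Schur covers of `Q` are isomorphic over `Q` then `|Qᵃᵇ|` and `|M(Q)|` are coprime -/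
theorem coprime_of_unique (hπ : Function.Surjective π)
    (huniq : ∀ (Γ₁ Γ₂ : Type u) [Group Γ₁] [Finite Γ₁] [Group Γ₂] [Finite Γ₂] (σ₁ : Γ₁ →* Q)
      (σ₂ : Γ₂ →* Q), IsStemExtension σ₁ → IsStemExtension σ₂ → Nonempty (σ₁.ker ≃* T π) →
      Nonempty (σ₂.ker ≃* T π) → ∃ e : Γ₁ ≃* Γ₂, σ₂.comp e.toMonoidHom = σ₁) :
    Nat.Coprime (Nat.card (Abelianization Q)) (Nat.card (T π)) := by
  by_contra hncop
  obtain ⟨p, hp, hpQ, hpT⟩ := Nat.Prime.not_coprime_iff_dvd.mp hncop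
  have hρ := ρ_surjective π hπ
  obtain ⟨S₁, hS₁K, -, h0, h1⟩ := exists_complement π hπ (MonoidHom.id Q) (isStemExtension_id Q)
    (ρ π) (MonoidHom.id_comp _)
  obtain ⟨n, hpn, hn0, χ, ybar, hχy, hyn⟩ := exists_cyclic_factor (Abelianization Q) p hp hpQ
  obtain ⟨u, hu⟩ := exists_not_pow (T π) p hp hpT
  obtain ⟨lam, hlam⟩ := exists_lam π n χ
  have hlamK : ∀ z ∈ (ρ π).ker, (n : ℤ) ∣ Multiplicative.toAdd (lam z) := by
    intro z hz
    have := hlam z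
    rw [MonoidHom.mem_ker.mp hz, map_one, map_one, toAdd_one] at this
    exact (ZMod.intCast_zmod_eq_zero_iff_dvd _ n).mp this
  have hlamc : ∀ c ∈ commutator (E π), lam c = 1 := fun c hc =>
    Abelianization.commutator_subset_ker lam hc
  -- the twisting homomorphism
  let t₀ : (ρ π).ker →* T π := MonoidHom.mk' (fun k => u ^ (Multiplicative.toAdd (lam k) / (n : ℤ)))
    (by
      intro a b
      show u ^ (Multiplicative.toAdd (lam ((a * b : (ρ π).ker) : E π)) / (n : ℤ)) = _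
      rw [Subgroup.coe_mul, map_mul, toAdd_mul, Int.add_ediv_of_dvd_left (hlamK a a.2), zpow_add])
  have ht₀ : ∀ k : (ρ π).ker, t₀ k = u ^ (Multiplicative.toAdd (lam k) / (n : ℤ)) := fun k => rfl
  obtain ⟨S₂, hS₂K, h0', h1', hS₂⟩ := twist_complement π S₁ hS₁K h0 h1 t₀
  have hN₁ : S₁.Normal := normal_of_le_center (hS₁K.trans (ρ_ker_le_center π))
  have hN₂ : S₂.Normal := normal_of_le_center (hS₂K.trans (ρ_ker_le_center π))
  obtain ⟨hst₁, hk₁, hf₁⟩ := cover_of_complement π hπ S₁ hS₁K h0 h1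
  obtain ⟨hst₂, hk₂, hf₂⟩ := cover_of_complement π hπ S₂ hS₂K h0' h1'
  obtain ⟨e, he⟩ := huniq (E π ⧸ S₁) (E π ⧸ S₂) (quotHom (ρ π) S₁ hS₁K) (quotHom (ρ π) S₂ hS₂K)
    hst₁ hst₂ hk₁ hk₂
  have he' : ∀ g, quotHom (ρ π) S₂ hS₂K (e g) = quotHom (ρ π) S₁ hS₁K g := fun g => by
    rw [← he]; rfl
  -- the difference homomorphism
  let σ₂ := quotHom (ρ π) S₂ hS₂K
  let _ : CommGroup σ₂.ker :=
    { (inferInstance : Group σ₂.ker) with
      mul_comm := fun a b => Subtype.ext (Subgroup.mem_center_iff.mp (hst₂.2.1 b.2) a) }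
  let mk₁ : E π →* E π ⧸ S₁ := QuotientGroup.mk' S₁
  let mk₂ : E π →* E π ⧸ S₂ := QuotientGroup.mk' S₂
  have hdmem : ∀ x : E π, (mk₂ x)⁻¹ * e (mk₁ x) ∈ σ₂.ker := by
    intro x
    rw [MonoidHom.mem_ker, map_mul, map_inv, he']
    show (ρ π x)⁻¹ * ρ π x = 1
    rw [inv_mul_cancel]
  let d : E π →* σ₂.ker := MonoidHom.mk' (fun x => ⟨(mk₂ x)⁻¹ * e (mk₁ x), hdmem x⟩) (by
    intro x y
    apply Subtype.ext
    show (mk₂ (x * y))⁻¹ * e (mk₁ (x * y)) = (mk₂ x)⁻¹ * e (mk₁ x) * ((mk₂ y)⁻¹ * e (mk₁ y))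
    have hc := Subgroup.mem_center_iff.mp (hst₂.2.1 (hdmem x)) (mk₂ y)⁻¹
    rw [map_mul, map_mul, map_mul]
    calc (mk₂ x * mk₂ y)⁻¹ * (e (mk₁ x) * e (mk₁ y))
        = ((mk₂ y)⁻¹ * ((mk₂ x)⁻¹ * e (mk₁ x))) * e (mk₁ y) := by group
      _ = (mk₂ x)⁻¹ * e (mk₁ x) * ((mk₂ y)⁻¹ * e (mk₁ y)) := by rw [hc]; group)
  have hd : ∀ x : E π, ((d x : σ₂.ker) : E π ⧸ S₂) = (mk₂ x)⁻¹ * e (mk₁ x) := fun x => rfl
  have hdc : ∀ c ∈ commutator (E π), d c = 1 := fun c hc =>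
    Abelianization.commutator_subset_ker d hc
  -- the element `y'`
  obtain ⟨q, hq⟩ := QuotientGroup.mk_surjective (s := commutator Q) ybar
  obtain ⟨y', hy'⟩ := hρ q
  have hyq : Abelianization.of (ρ π y') = ybar := by rw [hy']; exact hq
  obtain ⟨c, hc, s, hs, hycs⟩ : ∃ c ∈ commutator (E π), ∃ s ∈ S₁, y' ^ n = c * s := by
    have h2 : ρ π (y' ^ n) ∈ commutator Q := by
      rw [← Abelianization.ker_of, MonoidHom.mem_ker, map_pow, map_pow, hyq, hyn]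
    have h3 : commutator Q = (commutator (E π)).map (ρ π) := by
      rw [commutator_def, commutator_def, Subgroup.map_commutator, ← MonoidHom.range_eq_map,
        MonoidHom.range_eq_top_of_surjective _ hρ]
    rw [h3] at h2
    obtain ⟨c, hc, hcy⟩ := h2
    have h4 : c⁻¹ * y' ^ n ∈ (ρ π).ker := by
      rw [MonoidHom.mem_ker, map_mul, map_inv, hcy, inv_mul_cancel]
    rw [← h1] at h4
    obtain ⟨s, hs, τ, hτ, hsτ⟩ :=
      (Cfsg.Agent.Lib.Helper66_SchurAb.mem_sup_of_le_center (T_le_center π)).mp h4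
    refine ⟨c * τ, Subgroup.mul_mem _ hc (T_le_commutator π hτ), s, hs, ?_⟩
    have hτc := Subgroup.mem_center_iff.mp (T_le_center π hτ) s
    rw [mul_assoc, ← hτc, hsτ]
    group
  -- `λ(y') = 1 + n a`
  obtain ⟨a, ha⟩ : ∃ a : ℤ, Multiplicative.toAdd (lam y') = 1 + (n : ℤ) * a := by
    have h2 := hlam y'
    rw [hyq, hχy, toAdd_ofAdd] at h2
    have h3 : ((Multiplicative.toAdd (lam y') : ℤ) : ZMod n) = ((1 : ℤ) : ZMod n) := by
      rw [h2, Int.cast_one]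
    rw [ZMod.intCast_eq_intCast_iff_dvd_sub] at h3
    obtain ⟨a, ha⟩ := h3
    exact ⟨-a, by linarith⟩
  -- `λ(s) = n λ(y')`
  have hlams : Multiplicative.toAdd (lam s) = (n : ℤ) * Multiplicative.toAdd (lam y') := by
    have h2 : lam (y' ^ n) = lam c * lam s := by rw [hycs, map_mul]
    rw [hlamc c hc, one_mul, map_pow] at h2
    rw [← h2, toAdd_pow, nsmul_eq_mul]
  -- `d(s) = mk₂(t₀ s)`
  have hds : ((d s : σ₂.ker) : E π ⧸ S₂) = mk₂ ((t₀ ⟨s, hS₁K hs⟩ : T π) : E π) := by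
    rw [hd]
    have h2 : mk₁ s = 1 := (QuotientGroup.eq_one_iff s).mpr hs
    have h3 : mk₂ (s * ((t₀ ⟨s, hS₁K hs⟩ : T π) : E π)) = 1 :=
      (QuotientGroup.eq_one_iff _).mpr (hS₂ s hs)
    rw [h2, map_one, mul_one]
    rw [map_mul] at h3
    exact inv_eq_of_mul_eq_one_right h3
  -- `d(y') = mk₂ τ`
  obtain ⟨τ, hτ, hdτ⟩ : ∃ τ ∈ T π, ((d y' : σ₂.ker) : E π ⧸ S₂) = mk₂ τ := by
    have h2 : ((d y' : σ₂.ker) : E π ⧸ S₂) ∈ (ρ π).ker.map (QuotientGroup.mk' S₂) := by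
      rw [← quotHom_ker (ρ π) S₂ hS₂K]
      exact (d y').2
    obtain ⟨κ, hκ, hκd⟩ := h2
    rw [← h1'] at hκ
    obtain ⟨s₂, hs₂, τ, hτ, rfl⟩ :=
      (Cfsg.Agent.Lib.Helper66_SchurAb.mem_sup_of_le_center (T_le_center π)).mp hκ
    refine ⟨τ, hτ, ?_⟩
    have h3 : (QuotientGroup.mk' S₂) s₂ = 1 := (QuotientGroup.eq_one_iff s₂).mpr hs₂
    rw [← hκd, map_mul, h3, one_mul]
  -- compare
  have hpow : ((d y' : σ₂.ker) : E π ⧸ S₂) ^ n = ((d s : σ₂.ker) : E π ⧸ S₂) := by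
    have h2 : d (y' ^ n) = d c * d s := by rw [hycs, map_mul]
    rw [hdc c hc, one_mul, map_pow] at h2
    rw [← h2, Subgroup.coe_pow]
  rw [hdτ, hds, ← map_pow, ht₀] at hpow
  have hexp : Multiplicative.toAdd (lam ((⟨s, hS₁K hs⟩ : (ρ π).ker) : E π)) / (n : ℤ) =
      1 + (n : ℤ) * a := by
    show Multiplicative.toAdd (lam s) / (n : ℤ) = 1 + (n : ℤ) * a
    rw [hlams, Int.mul_ediv_cancel_left _ (by exact_mod_cast hn0.ne'), ha]
  rw [hexp] at hpow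
  have h5 : τ ^ n * (((u ^ (1 + (n : ℤ) * a) : T π) : E π))⁻¹ ∈ S₂ ⊓ T π := by
    refine Subgroup.mem_inf.mpr ⟨?_, ?_⟩
    · rw [← QuotientGroup.eq_one_iff, QuotientGroup.mk_mul, QuotientGroup.mk_inv]
      have : mk₂ (τ ^ n) = (τ ^ n : E π) := rfl
      rw [← this, hpow]
      exact mul_inv_cancel _
    · exact Subgroup.mul_mem _ (Subgroup.pow_mem _ hτ n) (Subgroup.inv_mem _ (SetLike.coe_mem _))
  rw [h0', Subgroup.mem_bot, mul_inv_eq_one] at h5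
  have h6 : (⟨τ, hτ⟩ : T π) ^ n = u ^ (1 + (n : ℤ) * a) := Subtype.ext (by
    rw [Subgroup.coe_pow]
    exact h5)
  obtain ⟨n', rfl⟩ := hpn
  apply hu (((⟨τ, hτ⟩ : T π) * u ^ (-a)) ^ n')
  rw [← pow_mul, mul_comm n' p, mul_pow, h6, ← zpow_natCast (u ^ (-a)), ← zpow_mul, ← zpow_add]
  have : 1 + ((p * n' : ℕ) : ℤ) * a + -a * ((p * n' : ℕ) : ℤ) = 1 := by ring
  rw [this, zpow_one]

end Cfsg.Agent.Lib.Helper66_SchurUnique2
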