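import Mathlib
import Cfsg.Prelude.Def_KGroupFacts
import Cfsg.Agent.Lib.Helper66_Stem

set_option autoImplicit false
open Cfsg

namespace Cfsg.Agent.Lib.Helper66_Stem2

open Cfsg.Agent.Lib.Helper66_Stem

/-- generation of the covering group by lifts of generators together with the kernel -/
theorem closure_union_ker_eq_top {Γ Q : Type*} [Group Γ] [Group Q] (σ : Γ →* Q) (T : Set Γ)
    (hT : Subgroup.closure (σ '' T) = ⊤) :
    Subgroup.closure (T ∪ (σ.ker : Set Γ)) = ⊤ := by
  rw [eq_top_iff]
  intro g _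
  have h1 : σ g ∈ Subgroup.map σ (Subgroup.closure T) := by
    rw [MonoidHom.map_closure, hT]; exact Subgroup.mem_top _
  obtain ⟨g', hg', hgg'⟩ := h1
  have h2 : g = g' * (g'⁻¹ * g) := by group
  rw [h2]
  apply Subgroup.mul_mem
  · exact Subgroup.closure_mono Set.subset_union_left hg'
  · apply Subgroup.subset_closure
    right
    rw [SetLike.mem_coe, MonoidHom.mem_ker, map_mul, map_inv, hgg', inv_mul_cancel]

/-- **Stem extensions of two-generator abelian groups.**  If `Q` is abelian, generated by `a` and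
`b`, and `b ^ n = 1`, then the kernel of any stem extension of `Q` is cyclic, generated by an
element killed by `n`. -/
theorem abelian_two_generator_stem {Γ Q : Type*} [Group Γ] [CommGroup Q] (σ : Γ →* Q)
    (hσ : IsStemExtension σ) (a b : Q) (hab : Subgroup.closure ({a, b} : Set Q) = ⊤) (n : ℕ)
    (hb : b ^ n = 1) :
    ∃ w ∈ σ.ker, (∀ z ∈ σ.ker, z ∈ Subgroup.zpowers w) ∧ w ^ n = 1 := by
  obtain ⟨hsurj, hcen, hcomm⟩ := hσ
  obtain ⟨x, hx⟩ := hsurj a
  obtain ⟨y, hy⟩ := hsurj b
  have hgen : Subgroup.closure (({x, y} : Set Γ) ∪ (σ.ker : Set Γ)) = ⊤ := by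
    apply closure_union_ker_eq_top
    rw [Set.image_pair, hx, hy]; exact hab
  set c := x * y * x⁻¹ * y⁻¹ with hcdef
  have hcK : c ∈ σ.ker := by
    rw [MonoidHom.mem_ker, hcdef, map_mul, map_mul, map_mul, map_inv, map_inv, hx, hy]
    rw [mul_comm a b]; group
  have hcc : ∀ g : Γ, g * c = c * g := Subgroup.mem_center_iff.mp (hcen hcK)
  have hnorm : (Subgroup.zpowers c).Normal := by
    constructor
    intro z hz g
    obtain ⟨k, rfl⟩ := Subgroup.mem_zpowers_iff.mp hz
    have : g * c ^ k * g⁻¹ = c ^ k := by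
      have h1 : Commute g c := hcc g
      rw [(h1.zpow_right k).eq]; group
    rw [this]
    exact Subgroup.zpow_mem_zpowers c k
  have hle : commutator Γ ≤ Subgroup.zpowers c := by
    apply commutator_le_of_closure (Subgroup.zpowers c) _ hgen
    have hcenK : ∀ z ∈ (σ.ker : Set Γ), ∀ d : Γ, z * d * z⁻¹ * d⁻¹ = 1 ∧ d * z * d⁻¹ * z⁻¹ = 1 := by
      intro z hz d
      have := Subgroup.mem_center_iff.mp (hcen hz) d
      constructor
      · rw [← this]; group
      · rw [this]; group
    rintro u (hu | hu) v (hv | hv)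
    · rcases hu with rfl | hu <;> rcases hv with rfl | hv
      · simp
      · rw [Set.mem_singleton_iff] at hv
        subst hv
        exact Subgroup.mem_zpowers _
      · rw [Set.mem_singleton_iff] at hu
        subst hu
        have : u * v * u⁻¹ * v⁻¹ = (v * u * v⁻¹ * u⁻¹)⁻¹ := by group
        rw [this]
        exact Subgroup.inv_mem _ (Subgroup.mem_zpowers _)
      · rw [Set.mem_singleton_iff] at hu hv
        subst hu; subst hv
        simp
    · rw [(hcenK v hv u).2]; exact Subgroup.one_mem _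
    · rw [(hcenK u hu v).1]; exact Subgroup.one_mem _
    · rw [(hcenK u hu v).1]; exact Subgroup.one_mem _
  refine ⟨c, hcK, fun z hz => hle (hcomm hz), ?_⟩
  -- `c ^ n = 1`
  have hyn : y ^ n ∈ Subgroup.center Γ := by
    apply hcen
    rw [MonoidHom.mem_ker, map_pow, hy, hb]
  have h1 : x * y * x⁻¹ = c * y := by rw [hcdef]; group
  have h2 : x * y ^ n * x⁻¹ = c ^ n * y ^ n := by
    rw [← conj_pow, h1]
    have : Commute c y := (hcc y).symm
    exact this.mul_pow n
  have h3 : x * y ^ n * x⁻¹ = y ^ n := by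
    have := Subgroup.mem_center_iff.mp hyn x
    rw [this]; group
  rw [h3] at h2
  exact (right_eq_mul.mp h2)

end Cfsg.Agent.Lib.Helper66_Stem2
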