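import Mathlib

set_option autoImplicit false

namespace Cfsg.Agent.Lib.Helper66_TI

open scoped Pointwise

/-- membership in a conjugate subgroup, elementwise -/
theorem mem_conj_smul {G : Type*} [Group G] (g x : G) (H : Subgroup G) :
    x ∈ MulAut.conj g • H ↔ g⁻¹ * x * g ∈ H := by
  rw [Subgroup.mem_pointwise_smul_iff_inv_smul_mem, ← map_inv, MulAut.smul_def,
    MulAut.conj_apply, inv_inv]

/-- the trivial intersection property, elementwise -/
def IsTI {G : Type*} [Group G] (P : Subgroup G) : Prop :=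
  ∀ g x : G, x ∈ P → g⁻¹ * x * g ∈ P → x ≠ 1 → g ∈ Subgroup.normalizer (P : Set G)

theorem isTI_iff {G : Type*} [Group G] (P : Subgroup G) :
    (∀ g : G, g ∉ Subgroup.normalizer (P : Set G) → P ⊓ (MulAut.conj g • P) = ⊥) ↔ IsTI P := by
  constructor
  · intro h g x hx hgx hx1
    by_contra hg
    have h1 := h g hg
    have h2 : x ∈ P ⊓ (MulAut.conj g • P) := ⟨hx, (mem_conj_smul g x P).mpr hgx⟩
    rw [h1] at h2
    exact hx1 (Subgroup.mem_bot.mp h2)
  · intro h g hg
    rw [eq_bot_iff]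
    intro x hx
    rw [Subgroup.mem_bot]
    by_contra hx1
    exact hg (h g x hx.1 ((mem_conj_smul g x P).mp hx.2) hx1)

/-- membership of a conjugate in the normalizer of a conjugate -/
theorem mem_normalizer_conj_smul {G : Type*} [Group G] (h g : G) (P : Subgroup G) :
    g ∈ Subgroup.normalizer ((MulAut.conj h • P : Subgroup G) : Set G) ↔
      h⁻¹ * g * h ∈ Subgroup.normalizer (P : Set G) := by
  rw [Subgroup.mem_normalizer_iff, Subgroup.mem_normalizer_iff]
  constructor
  · intro H x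
    have := H (h * x * h⁻¹)
    rw [mem_conj_smul, mem_conj_smul] at this
    have e1 : h⁻¹ * (h * x * h⁻¹) * h = x := by group
    have e2 : h⁻¹ * (g * (h * x * h⁻¹) * g⁻¹) * h = h⁻¹ * g * h * x * (h⁻¹ * g * h)⁻¹ := by group
    rw [e1, e2] at this
    exact this
  · intro H x
    rw [mem_conj_smul, mem_conj_smul]
    have := H (h⁻¹ * x * h)
    have e2 : h⁻¹ * g * h * (h⁻¹ * x * h) * (h⁻¹ * g * h)⁻¹ = h⁻¹ * (g * x * g⁻¹) * h := by group
    rw [e2] at this
    exact this

/-- the TI property passes to conjugates -/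
theorem IsTI.conj {G : Type*} [Group G] {P : Subgroup G} (hP : IsTI P) (h : G) :
    IsTI (MulAut.conj h • P) := by
  intro g x hx hgx hx1
  rw [mem_normalizer_conj_smul]
  rw [mem_conj_smul] at hx hgx
  apply hP (h⁻¹ * g * h) (h⁻¹ * x * h) hx
  · have : (h⁻¹ * g * h)⁻¹ * (h⁻¹ * x * h) * (h⁻¹ * g * h) = h⁻¹ * (g⁻¹ * x * g) * h := by group
    rw [this]; exact hgx
  · intro h1
    apply hx1
    have : x = h * (h⁻¹ * x * h) * h⁻¹ := by group
    rw [this, h1]; group

end Cfsg.Agent.Lib.Helper66_TI
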