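import Mathlib
import Cfsg.Prelude.Def_Solvable
import Cfsg.Agent.Lib.Helper66_FrobK
import Cfsg.Agent.Lib.Helper1_Thompson
import Cfsg.Agent.Lib.Helper1_FPF
import Cfsg.Agent.Lib.Helper25_CNFrob
import Cfsg.Agent.Lib.Helper25_CNSolv
import Cfsg.Agent.Lib.Helper95_FrobAction

set_option autoImplicit false
open Cfsg
open scoped Pointwise

/-! Structure of 2-Frobenius groups. -/

namespace Cfsg.Agent.Lib.Helper66_TwoFrob

open Cfsg.Agent.Lib.Helper66_FrobK Cfsg.Agent.Lib.Helper25_CNFrob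

/-- in a nilpotent subgroup `H` with `p ∣ |H|` there is an element of order `p` central in `H` -/
theorem exists_central_of_order {G : Type*} [Group G] [Finite G] (H : Subgroup G)
    (hnil : Group.IsNilpotent H) (p : ℕ) [hp : Fact p.Prime] (hpH : p ∣ Nat.card H) :
    ∃ z ∈ H, orderOf z = p ∧ ∀ h ∈ H, h * z = z * h := by
  obtain ⟨P⟩ : Nonempty (Sylow p H) := inferInstance
  have hP1 : (P : Subgroup H) ≠ ⊥ := by
    intro h
    have h1 := P.card_eq_multiplicity
    rw [h, Subgroup.card_bot] at h1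
    have h2 : (Nat.card H).factorization p = 0 := by
      by_contra h0
      have : 1 < p ^ (Nat.card H).factorization p :=
        Nat.one_lt_pow h0 hp.out.one_lt
      omega
    have h3 := (Nat.factorization_eq_zero_iff _ _).mp h2
    rcases h3 with h3 | h3 | h3
    · exact h3 hp.out
    · exact h3 hpH
    · exact Nat.card_pos.ne' h3
  have : Nontrivial (P : Subgroup H) := (Subgroup.nontrivial_iff_ne_bot _).mpr hP1
  have hcn := P.2.center_nontrivial
  have hpc : p ∣ Nat.card (Subgroup.center (P : Subgroup H)) := by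
    rcases (P.2.to_subgroup (Subgroup.center (P : Subgroup H))).card_eq_or_dvd with h | h
    · exact absurd h (Finite.one_lt_card (α := Subgroup.center (P : Subgroup H))).ne'
    · exact h
  obtain ⟨z, hz⟩ := exists_prime_orderOf_dvd_card' p hpc
  -- `z : center P`; view it in `G`
  have hzo : orderOf (((z : (P : Subgroup H)) : H) : G) = p := by
    rw [Subgroup.orderOf_coe, Subgroup.orderOf_coe, Subgroup.orderOf_coe]
    exact hz
  have hzp : (((z : (P : Subgroup H)) : H) : G) ^ p = 1 := by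
    have := pow_orderOf_eq_one ((((z : (P : Subgroup H)) : H) : G))
    rwa [hzo] at this
  refine ⟨_, (((z : (P : Subgroup H)) : H)).2, hzo, ?_⟩
  -- the centralizer of `z` in `H` contains a Sylow subgroup for each prime
  let W : Subgroup H := Subgroup.centralizer {((z : (P : Subgroup H)) : H)}
  have hW : W = ⊤ := by
    apply Cfsg.Agent.Lib.Helper1_Thompson.eq_top_of_forall_sylow_le
    intro r hr
    have : Fact r.Prime := ⟨hr⟩
    by_cases hrp : r = p
    · subst hrp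
      refine ⟨P, ?_⟩
      intro x hx
      rw [Subgroup.mem_centralizer_singleton_iff]
      have h1 := Subgroup.mem_center_iff.mp z.2 ⟨x, hx⟩
      have h2 := congrArg Subtype.val h1
      exact h2
    · obtain ⟨R⟩ : Nonempty (Sylow r H) := inferInstance
      refine ⟨R, ?_⟩
      intro x hx
      rw [Subgroup.mem_centralizer_singleton_iff]
      obtain ⟨k, hk⟩ := R.2 ⟨x, hx⟩
      have hxk : (x : G) ^ r ^ k = 1 := by
        have h1 := congrArg Subtype.val hk
        have h2 := congrArg Subtype.val h1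
        simpa using h2
      have hcop : Nat.Coprime (r ^ k) p :=
        Nat.Coprime.pow_left k ((Nat.coprime_primes hr hp.out).mpr hrp)
      have h3 := Cfsg.Agent.Lib.Helper25_CNSolv.commute_in_nilpotent H hnil (x : G)
        (((z : (P : Subgroup H)) : H) : G) x.2 (((z : (P : Subgroup H)) : H)).2 (r ^ k) p hxk hzp hcop
      exact Subtype.ext h3
  intro h hh
  have h1 : (⟨h, hh⟩ : H) ∈ W := by rw [hW]; exact Subgroup.mem_top _
  rw [Subgroup.mem_centralizer_singleton_iff] at h1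
  exact congrArg Subtype.val h1

section Main

variable {G : Type*} [Group G]

instance normal_map_mk (H K : Subgroup G) [H.Normal] [K.Normal] :
    (K.map (QuotientGroup.mk' H)).Normal :=
  Subgroup.Normal.map inferInstance _ (QuotientGroup.mk'_surjective H)

/-- the hypotheses of a 2-Frobenius group -/
structure Hyp (H K : Subgroup G) [H.Normal] [K.Normal] (C₁ : Subgroup ↥K)
    (C₂ : Subgroup (G ⧸ H)) : Prop where
  lt : H < K
  c₁ : IsFrobeniusComplement C₁
  k₁ : frobeniusKernel C₁ = (H.subgroupOf K : Set ↥K)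
  c₂ : IsFrobeniusComplement C₂
  k₂ : frobeniusKernel C₂ = (K.map (QuotientGroup.mk' H) : Set (G ⧸ H))

variable [Finite G] {H K : Subgroup G} [H.Normal] [K.Normal] {C₁ : Subgroup ↥K}
  {C₂ : Subgroup (G ⧸ H)}

theorem isNilpotent_H (h : Hyp H K C₁ C₂) : Group.IsNilpotent H := by
  have h1 := isNilpotent_kernel (H.subgroupOf K) C₁ h.c₁ h.k₁
  exact Group.nilpotent_of_mulEquiv (Subgroup.subgroupOfEquivOfLe h.lt.le)

omit [Finite G] in
theorem card_subgroupOf (h : Hyp H K C₁ C₂) : Nat.card (H.subgroupOf K) = Nat.card H :=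
  Nat.card_congr (Subgroup.subgroupOfEquivOfLe h.lt.le).toEquiv

/-- `K/H ≃ C₁` -/
theorem nonempty_equiv₁ (h : Hyp H K C₁ C₂) : Nonempty (C₁ ≃* ↥K ⧸ H.subgroupOf K) :=
  nonempty_quotient_equiv (H.subgroupOf K) C₁ h.c₁ h.k₁

omit [Finite G] in
/-- `K/H ≃ N₂` -/
theorem nonempty_equiv_map (H K : Subgroup G) [H.Normal] [K.Normal] :
    Nonempty (↥K ⧸ H.subgroupOf K ≃* ↥(K.map (QuotientGroup.mk' H))) := by
  let ψ : ↥K →* ↥(K.map (QuotientGroup.mk' H)) :=
    ((QuotientGroup.mk' H).comp K.subtype).codRestrict _ (fun k =>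
      Subgroup.mem_map_of_mem _ k.2)
  have hψs : Function.Surjective ψ := by
    rintro ⟨_, ⟨k, hk, rfl⟩⟩
    exact ⟨⟨k, hk⟩, rfl⟩
  have hψk : ψ.ker = H.subgroupOf K := by
    ext k
    rw [MonoidHom.mem_ker, Subgroup.mem_subgroupOf, Subtype.ext_iff]
    show ((k : G) : G ⧸ H) = 1 ↔ _
    rw [QuotientGroup.eq_one_iff]
  exact ⟨(QuotientGroup.quotientMulEquivOfEq hψk.symm).trans
    (QuotientGroup.quotientKerEquivOfSurjective ψ hψs)⟩

/-- `G/K ≃ C₂` -/
theorem nonempty_equiv₂ (h : Hyp H K C₁ C₂) : Nonempty (C₂ ≃* G ⧸ K) := by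
  obtain ⟨e⟩ := nonempty_quotient_equiv (K.map (QuotientGroup.mk' H)) C₂ h.c₂ h.k₂
  exact ⟨e.trans (QuotientGroup.quotientQuotientEquivQuotient H K h.lt.le)⟩

theorem card_C₁ (h : Hyp H K C₁ C₂) : Nat.card C₁ = Nat.card (↥K ⧸ H.subgroupOf K) := by
  obtain ⟨e⟩ := nonempty_equiv₁ h
  exact Nat.card_congr e.toEquiv

omit [Finite G] in
theorem card_map (H K : Subgroup G) [H.Normal] [K.Normal] :
    Nat.card (K.map (QuotientGroup.mk' H)) = Nat.card (↥K ⧸ H.subgroupOf K) := by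
  obtain ⟨e⟩ := nonempty_equiv_map H K
  exact (Nat.card_congr e.toEquiv).symm

theorem card_C₂ (h : Hyp H K C₁ C₂) : Nat.card C₂ = Nat.card (G ⧸ K) := by
  obtain ⟨e⟩ := nonempty_equiv₂ h
  exact Nat.card_congr e.toEquiv

theorem coprime_H (h : Hyp H K C₁ C₂) :
    (Nat.card (↥K ⧸ H.subgroupOf K)).Coprime (Nat.card H) := by
  have := coprime_card (H.subgroupOf K) C₁ h.c₁ h.k₁
  rw [card_subgroupOf h, card_C₁ h] at this
  exact this.symm

theorem coprime_GK (h : Hyp H K C₁ C₂) :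
    (Nat.card (↥K ⧸ H.subgroupOf K)).Coprime (Nat.card (G ⧸ K)) := by
  have := coprime_card (K.map (QuotientGroup.mk' H)) C₂ h.c₂ h.k₂
  rw [card_map H K, card_C₂ h] at this
  exact this

theorem card_G (h : Hyp H K C₁ C₂) :
    Nat.card G = Nat.card H * Nat.card (↥K ⧸ H.subgroupOf K) * Nat.card (G ⧸ K) := by
  have h1 := card_mul_card (H.subgroupOf K) C₁ h.c₁ h.k₁
  rw [card_subgroupOf h, card_C₁ h] at h1
  rw [h1, ← Subgroup.index_eq_card K]
  exact K.card_mul_index.symm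

/-- `C₁ ≃ N₂` -/
theorem nonempty_equiv_C₁_map (h : Hyp H K C₁ C₂) :
    Nonempty (C₁ ≃* ↥(K.map (QuotientGroup.mk' H))) := by
  obtain ⟨e1⟩ := nonempty_equiv₁ h
  obtain ⟨e2⟩ := nonempty_equiv_map H K
  exact ⟨e1.trans e2⟩

theorem isNilpotent_C₁ (h : Hyp H K C₁ C₂) : Group.IsNilpotent C₁ := by
  have h1 := isNilpotent_kernel (K.map (QuotientGroup.mk' H)) C₂ h.c₂ h.k₂
  obtain ⟨e⟩ := nonempty_equiv_C₁_map h
  exact Group.nilpotent_of_mulEquiv e.symm

theorem propC_C₁ (h : Hyp H K C₁ C₂) : PropC C₁ :=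
  propC_complement (H.subgroupOf K) C₁ h.c₁ h.k₁

theorem odd_card (h : Hyp H K C₁ C₂) : Odd (Nat.card (↥K ⧸ H.subgroupOf K)) := by
  obtain ⟨e⟩ := nonempty_equiv_C₁_map h
  have hP : PropC ↥(K.map (QuotientGroup.mk' H)) :=
    Cfsg.Agent.Lib.Helper25_CNSolv.PropC.of_injective e.symm.toMonoidHom e.symm.injective
      (propC_C₁ h)
  have := odd_card_kernel (K.map (QuotientGroup.mk' H)) C₂ h.c₂ h.k₂ hP
  rwa [card_map H K] at this

theorem isCyclic_C₁ (h : Hyp H K C₁ C₂) : IsCyclic C₁ :=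
  Cfsg.Agent.Lib.Helper25_CNSolv.isCyclic_of_odd (propC_C₁ h) (isNilpotent_C₁ h)
    (by rw [card_C₁ h]; exact odd_card h)

theorem isCyclic_KH (h : Hyp H K C₁ C₂) : IsCyclic (↥K ⧸ H.subgroupOf K) := by
  obtain ⟨e⟩ := nonempty_equiv₁ h
  have := isCyclic_C₁ h
  exact e.isCyclic.mp this

theorem isCyclic_map (h : Hyp H K C₁ C₂) : IsCyclic ↥(K.map (QuotientGroup.mk' H)) := by
  obtain ⟨e⟩ := nonempty_equiv_C₁_map h
  have := isCyclic_C₁ h
  exact e.isCyclic.mp this

theorem isCyclic_C₂ (h : Hyp H K C₁ C₂) : IsCyclic C₂ :=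
  isCyclic_complement (K.map (QuotientGroup.mk' H)) C₂ h.c₂ h.k₂ (isCyclic_map h)

theorem isCyclic_GK (h : Hyp H K C₁ C₂) : IsCyclic (G ⧸ K) := by
  obtain ⟨e⟩ := nonempty_equiv₂ h
  have := isCyclic_C₂ h
  exact e.isCyclic.mp this

theorem isSolvable (h : Hyp H K C₁ C₂) : Group.IsSolvable G := by
  have hH : Group.IsNilpotent (H.subgroupOf K) :=
    isNilpotent_kernel (H.subgroupOf K) C₁ h.c₁ h.k₁
  have hHs : Group.IsSolvable (H.subgroupOf K) := inferInstance
  have h1 := isCyclic_KH h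
  have hKHs : Group.IsSolvable (↥K ⧸ H.subgroupOf K) :=
    Group.isSolvable_of_comm (fun a b => IsMulCommutative.is_comm.comm a b)
  have hK : Group.IsSolvable K :=
    Group.isSolvable_of_ker_le_range (H.subgroupOf K).subtype (QuotientGroup.mk' (H.subgroupOf K))
      (by rw [QuotientGroup.ker_mk', Subgroup.range_subtype])
  have h2 := isCyclic_GK h
  have hGK : Group.IsSolvable (G ⧸ K) :=
    Group.isSolvable_of_comm (fun a b => IsMulCommutative.is_comm.comm a b)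
  exact Group.isSolvable_of_ker_le_range K.subtype (QuotientGroup.mk' K)
    (by rw [QuotientGroup.ker_mk', Subgroup.range_subtype])

end Main

section Omega

variable {G : Type*} [Group G]

/-- `Ω₁` of the `p`-part of the centre of `H`, as a subgroup of `G` -/
def omegaCenter (H : Subgroup G) (p : ℕ) : Subgroup G where
  carrier := {g | g ∈ H ∧ (∀ h ∈ H, h * g = g * h) ∧ g ^ p = 1}
  one_mem' := ⟨H.one_mem, fun h _ => by rw [mul_one, one_mul], one_pow p⟩
  mul_mem' := by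
    rintro a b ⟨ha, hac, hap⟩ ⟨hb, hbc, hbp⟩
    refine ⟨H.mul_mem ha hb, fun h hh => ?_, ?_⟩
    · rw [← mul_assoc, hac h hh, mul_assoc, hbc h hh, mul_assoc]
    · have hab : Commute a b := hbc a ha
      rw [hab.mul_pow, hap, hbp, one_mul]
  inv_mem' := by
    rintro a ⟨ha, hac, hap⟩
    refine ⟨H.inv_mem ha, fun h hh => ?_, by rw [inv_pow, hap, inv_one]⟩
    have := hac h hh
    calc h * a⁻¹ = a⁻¹ * (a * h) * a⁻¹ := by group
      _ = a⁻¹ * (h * a) * a⁻¹ := by rw [this]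
      _ = a⁻¹ * h := by group

theorem mem_omegaCenter {H : Subgroup G} {p : ℕ} {g : G} :
    g ∈ omegaCenter H p ↔ g ∈ H ∧ (∀ h ∈ H, h * g = g * h) ∧ g ^ p = 1 := Iff.rfl

instance omegaCenter_normal (H : Subgroup G) [hH : H.Normal] (p : ℕ) :
    (omegaCenter H p).Normal := by
  constructor
  rintro a ⟨ha, hac, hap⟩ x
  refine ⟨hH.conj_mem a ha x, fun h hh => ?_, ?_⟩
  · have h1 : x⁻¹ * h * x ∈ H := by
      have := hH.conj_mem h hh x⁻¹
      rwa [inv_inv] at this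
    have h2 := hac _ h1
    calc h * (x * a * x⁻¹) = x * ((x⁻¹ * h * x) * a) * x⁻¹ := by group
      _ = x * (a * (x⁻¹ * h * x)) * x⁻¹ := by rw [h2]
      _ = x * a * x⁻¹ * h := by group
  · rw [conj_pow, hap]; group

instance omegaCenter_commGroup (H : Subgroup G) (p : ℕ) : CommGroup ↥(omegaCenter H p) :=
  { (inferInstance : Group ↥(omegaCenter H p)) with
    mul_comm := fun a b => Subtype.ext ((mem_omegaCenter.mp b.2).2.1 a (mem_omegaCenter.mp a.2).1) }

/-- the conjugation action of `G ⧸ H` on `Ω₁(Z(H)_p)` -/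
noncomputable def omegaAction (H : Subgroup G) [H.Normal] (p : ℕ) :
    G ⧸ H →* MulAut ↥(omegaCenter H p) :=
  QuotientGroup.lift H (MulAut.conjNormal (H := omegaCenter H p)) (by
    intro h hh
    rw [MonoidHom.mem_ker]
    ext v
    show h * (v : G) * h⁻¹ = v
    rw [(mem_omegaCenter.mp v.2).2.1 h hh]
    group)

theorem omegaAction_mk (H : Subgroup G) [H.Normal] (p : ℕ) (g : G) (v : ↥(omegaCenter H p)) :
    ((omegaAction H p (g : G ⧸ H) v : ↥(omegaCenter H p)) : G) = g * v * g⁻¹ := rfl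

end Omega

section Graph

variable {G : Type*} [Group G] [Finite G] {H K : Subgroup G} [H.Normal] [K.Normal]
  {C₁ : Subgroup ↥K} {C₂ : Subgroup (G ⧸ H)}

theorem exists_orderOf_cyclic {X : Type*} [Group X] [Finite X] [IsCyclic X] (d : ℕ)
    (hd : d ∣ Nat.card X) : ∃ g : X, orderOf g = d := by
  obtain ⟨g, hg⟩ := IsCyclic.exists_ofOrder_eq_natCard (α := X)
  have hN : 0 < Nat.card X := Nat.card_pos
  obtain ⟨e, he⟩ := hd
  have he0 : e ≠ 0 := by
    rintro rfl
    simp at he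
    omega
  refine ⟨g ^ e, ?_⟩
  rw [orderOf_pow_of_dvd he0 (by rw [hg, he]; exact dvd_mul_left e d), hg, he]
  exact Nat.mul_div_cancel _ (Nat.pos_of_ne_zero he0)

theorem exists_order_of_dvd_b (h : Hyp H K C₁ C₂) (d : ℕ)
    (hd : d ∣ Nat.card (↥K ⧸ H.subgroupOf K)) : ∃ g : G, orderOf g = d := by
  have := isCyclic_C₁ h
  obtain ⟨x, hx⟩ := exists_orderOf_cyclic (X := C₁) d (by rw [card_C₁ h]; exact hd)
  refine ⟨((x : ↥K) : G), ?_⟩
  rw [Subgroup.orderOf_coe, Subgroup.orderOf_coe]; exact hx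

theorem exists_order_of_dvd_c (h : Hyp H K C₁ C₂) (d : ℕ)
    (hd : d ∣ Nat.card (G ⧸ K)) : ∃ g : G, orderOf g = d := by
  have := isCyclic_GK h
  obtain ⟨x, hx⟩ := exists_orderOf_cyclic (X := G ⧸ K) d hd
  obtain ⟨g, rfl⟩ := QuotientGroup.mk_surjective x
  have hdvd : d ∣ orderOf g := by
    rw [← hx]; exact orderOf_map_dvd (QuotientGroup.mk' K) g
  exact ⟨g ^ (orderOf g / d), orderOf_pow_orderOf_div (orderOf_pos g).ne' hdvd⟩

theorem exists_order_of_dvd_a (h : Hyp H K C₁ C₂) (p q : ℕ) (hp : p.Prime) (hq : q.Prime)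
    (hpq : p ≠ q) (hpa : p ∣ Nat.card H) (hqa : q ∣ Nat.card H) :
    ∃ g : G, orderOf g = p * q := by
  have : Fact p.Prime := ⟨hp⟩
  have : Fact q.Prime := ⟨hq⟩
  obtain ⟨x, hx⟩ := exists_prime_orderOf_dvd_card' p hpa
  obtain ⟨y, hy⟩ := exists_prime_orderOf_dvd_card' q hqa
  have hcop : p.Coprime q := (Nat.coprime_primes hp hq).mpr hpq
  have hxo : orderOf (x : G) = p := by rw [Subgroup.orderOf_coe]; exact hx
  have hyo : orderOf (y : G) = q := by rw [Subgroup.orderOf_coe]; exact hy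
  have hcomm : (x : G) * y = y * x :=
    Cfsg.Agent.Lib.Helper25_CNSolv.commute_in_nilpotent H (isNilpotent_H h) x y x.2 y.2 p q
      (by rw [← hxo]; exact pow_orderOf_eq_one _) (by rw [← hyo]; exact pow_orderOf_eq_one _) hcop
  refine ⟨x * y, ?_⟩
  have hc : Commute (x : G) y := hcomm
  rw [hc.orderOf_mul_eq_mul_orderOf_of_coprime (by rw [hxo, hyo]; exact hcop), hxo, hyo]

/-- a nontrivial element of `Ω₁(Z(H)_p)` centralized by (the preimage of) `C₂` -/
theorem exists_fixed (h : Hyp H K C₁ C₂) (p : ℕ) [hp : Fact p.Prime] (hpa : p ∣ Nat.card H) :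
    ∃ v ∈ H, orderOf v = p ∧ ∀ g : G, (g : G ⧸ H) ∈ C₂ → g * v = v * g := by
  by_contra hcon
  push Not at hcon
  obtain ⟨z, hzH, hzo, hzc⟩ := exists_central_of_order H (isNilpotent_H h) p hpa
  have hzp : z ^ p = 1 := by rw [← hzo]; exact pow_orderOf_eq_one z
  have hzV : z ∈ omegaCenter H p := ⟨hzH, hzc, hzp⟩
  have hVH : omegaCenter H p ≤ H := fun v hv => hv.1
  have hcop : (Nat.card ↥(omegaCenter H p)).Coprime (Nat.card ↥(K.map (QuotientGroup.mk' H))) := by
    rw [card_map H K]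
    exact Nat.Coprime.coprime_dvd_left (Subgroup.card_dvd_of_le hVH) (coprime_H h).symm
  have hfrob : ∀ g : G ⧸ H, g ∉ C₂ → ∀ x ∈ C₂, g * x * g⁻¹ ∈ C₂ → x = 1 := by
    intro g hg x hx hgx
    by_contra hx1
    apply hg
    have h1 : g⁻¹ ∈ C₂ :=
      Cfsg.Agent.Lib.Helper63_Frobenius.mem_of_conj_mem h.c₂ hx hx1 (by rwa [inv_inv])
    have := C₂.inv_mem h1
    rwa [inv_inv] at this
  have hfixN : ∀ v : ↥(omegaCenter H p),
      (∀ n ∈ K.map (QuotientGroup.mk' H), omegaAction H p n v = v) → v = 1 := by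
    intro v hv
    obtain ⟨c, hcC, hc1⟩ : ∃ c ∈ C₁, c ≠ 1 := by
      by_contra h'
      push Not at h'
      exact h.c₁.1 (by rw [eq_bot_iff]; intro x hx; exact h' x hx)
    have h1 := hv ((c : G) : G ⧸ H) (Subgroup.mem_map_of_mem _ c.2)
    have h2 : (c : G) * v * (c : G)⁻¹ = v := by
      have := congrArg Subtype.val h1
      rwa [omegaAction_mk] at this
    have hvK : (v : G) ∈ K := h.lt.le (hVH v.2)
    have h3 : c * (⟨v, hvK⟩ : ↥K) = ⟨v, hvK⟩ * c := by
      apply Subtype.ext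
      show (c : G) * v = v * c
      calc (c : G) * v = ((c : G) * v * (c : G)⁻¹) * c := by group
        _ = v * c := by rw [h2]
    have h4 := fpf (H.subgroupOf K) C₁ h.c₁ h.k₁ hcC hc1
      (show (⟨v, hvK⟩ : ↥K) ∈ H.subgroupOf K from Subgroup.mem_subgroupOf.mpr (hVH v.2)) h3
    have h5 : ((⟨v, hvK⟩ : ↥K) : G) = ((1 : ↥K) : G) := congrArg Subtype.val h4
    exact Subtype.ext h5
  have hfixH : ∀ v : ↥(omegaCenter H p), (∀ x ∈ C₂, omegaAction H p x v = v) → v = 1 := by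
    intro v hv
    by_contra hv1
    have hvo : orderOf (v : G) = p := by
      apply orderOf_eq_prime (mem_omegaCenter.mp v.2).2.2
      intro h'
      exact hv1 (Subtype.ext h')
    obtain ⟨g, hgC, hgv⟩ := hcon v (hVH v.2) hvo
    apply hgv
    have h1 := hv (g : G ⧸ H) hgC
    have h2 : g * (v : G) * g⁻¹ = v := by
      have := congrArg Subtype.val h1
      rwa [omegaAction_mk] at this
    calc g * (v : G) = (g * (v : G) * g⁻¹) * g := by group
      _ = v * g := by rw [h2]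
  have hw := Cfsg.Agent.Lib.Helper95_FrobAction.eq_one_of_frobenius_action (omegaAction H p)
    (K.map (QuotientGroup.mk' H)) C₂
    (isComplement' (K.map (QuotientGroup.mk' H)) C₂ h.c₂ h.k₂) hfrob hcop hfixN hfixH ⟨z, hzV⟩
  have hz1 : z = 1 := congrArg Subtype.val hw
  rw [hz1, orderOf_one] at hzo
  exact hp.out.one_lt.ne hzo

theorem exists_order_mixed (h : Hyp H K C₁ C₂) (p q : ℕ) (hp : p.Prime) (hq : q.Prime)
    (hpq : p ≠ q) (hpa : p ∣ Nat.card H) (hqc : q ∣ Nat.card (G ⧸ K)) :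
    ∃ g : G, orderOf g = p * q := by
  have : Fact p.Prime := ⟨hp⟩
  have : Fact q.Prime := ⟨hq⟩
  obtain ⟨v, hvH, hvo, hvc⟩ := exists_fixed h p hpa
  have hqC₂ : q ∣ Nat.card C₂ := by rw [card_C₂ h]; exact hqc
  obtain ⟨x, hx⟩ := exists_prime_orderOf_dvd_card' q hqC₂
  obtain ⟨g, hg⟩ := QuotientGroup.mk_surjective (x : G ⧸ H)
  have hgC : (g : G ⧸ H) ∈ C₂ := by rw [hg]; exact x.2
  have hgv := hvc g hgC
  have hdvd : q ∣ orderOf g := by
    have h1 : orderOf ((QuotientGroup.mk' H) g) ∣ orderOf g := orderOf_map_dvd _ g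
    have h2 : orderOf ((QuotientGroup.mk' H) g) = q := by
      show orderOf (g : G ⧸ H) = q
      rw [hg, Subgroup.orderOf_coe]; exact hx
    rwa [h2] at h1
  have hg'o : orderOf (g ^ (orderOf g / q)) = q :=
    orderOf_pow_orderOf_div (orderOf_pos g).ne' hdvd
  have hc0 : Commute v g := hgv.symm
  have hcomm : Commute v (g ^ (orderOf g / q)) := hc0.pow_right _
  have hcop : p.Coprime q := (Nat.coprime_primes hp hq).mpr hpq
  refine ⟨v * g ^ (orderOf g / q), ?_⟩
  rw [hcomm.orderOf_mul_eq_mul_orderOf_of_coprime (by rw [hvo, hg'o]; exact hcop), hvo, hg'o]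

/-- no element of order `p * q` when `p ∣ |K/H|` and `q ∤ |K/H|` -/
theorem false_of_order (h : Hyp H K C₁ C₂) (p q : ℕ) (hp : p.Prime) (hq : q.Prime)
    (hpb : p ∣ Nat.card (↥K ⧸ H.subgroupOf K)) (hqb : ¬ q ∣ Nat.card (↥K ⧸ H.subgroupOf K))
    (g : G) (hg : orderOf g = p * q) : False := by
  have huo : orderOf (g ^ q) = p := by
    rw [orderOf_pow_of_dvd hq.ne_zero (by rw [hg]; exact dvd_mul_left q p), hg,
      Nat.mul_div_cancel _ hq.pos]
  have hwo : orderOf (g ^ p) = q := by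
    rw [orderOf_pow_of_dvd hp.ne_zero (by rw [hg]; exact dvd_mul_right p q), hg,
      Nat.mul_div_cancel_left _ hp.pos]
  have huw : g ^ q * g ^ p = g ^ p * g ^ q := by rw [← pow_add, ← pow_add, add_comm]
  have hu1 : g ^ q ≠ 1 := by
    intro h'
    rw [h', orderOf_one] at huo
    exact hp.one_lt.ne huo
  have hpa : ¬ p ∣ Nat.card H :=
    (Nat.Prime.coprime_iff_not_dvd hp).mp (Nat.Coprime.coprime_dvd_left hpb (coprime_H h))
  have hpc : ¬ p ∣ Nat.card (G ⧸ K) :=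
    (Nat.Prime.coprime_iff_not_dvd hp).mp (Nat.Coprime.coprime_dvd_left hpb (coprime_GK h))
  -- `u = g ^ q ∈ K ∖ H`
  have huK : g ^ q ∈ K := by
    have h1 : orderOf ((QuotientGroup.mk' K) (g ^ q)) ∣ p := by
      rw [← huo]; exact orderOf_map_dvd _ _
    have h2 : orderOf ((QuotientGroup.mk' K) (g ^ q)) ∣ Nat.card (G ⧸ K) := orderOf_dvd_natCard _
    rcases (Nat.dvd_prime hp).mp h1 with h3 | h3
    · rw [orderOf_eq_one_iff] at h3
      exact (QuotientGroup.eq_one_iff _).mp h3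
    · rw [h3] at h2
      exact absurd h2 hpc
  have huH : g ^ q ∉ H := by
    intro h'
    apply hpa
    rw [← huo]
    exact Subgroup.orderOf_dvd_natCard H h'
  by_cases hwK : g ^ p ∈ K
  · -- conjugate `u` into `C₁`
    have huK' : (⟨g ^ q, huK⟩ : ↥K) ∉ H.subgroupOf K := fun h' => huH (Subgroup.mem_subgroupOf.mp h')
    obtain ⟨k, hk⟩ := exists_conj_mem (H.subgroupOf K) C₁ h.k₁ huK'
    have hk1 : k⁻¹ * (⟨g ^ q, huK⟩ : ↥K) * k ≠ 1 := by
      intro h'
      apply hu1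
      have h2 : (⟨g ^ q, huK⟩ : ↥K) = k * (k⁻¹ * (⟨g ^ q, huK⟩ : ↥K) * k) * k⁻¹ := by group
      rw [h'] at h2
      have h3 : (⟨g ^ q, huK⟩ : ↥K) = 1 := by rw [h2]; group
      exact congrArg Subtype.val h3
    have hcomm : (k⁻¹ * (⟨g ^ p, hwK⟩ : ↥K) * k) * (k⁻¹ * (⟨g ^ q, huK⟩ : ↥K) * k) =
        (k⁻¹ * (⟨g ^ q, huK⟩ : ↥K) * k) * (k⁻¹ * (⟨g ^ p, hwK⟩ : ↥K) * k) := by
      have h1 : (⟨g ^ p, hwK⟩ : ↥K) * ⟨g ^ q, huK⟩ = ⟨g ^ q, huK⟩ * ⟨g ^ p, hwK⟩ :=
        Subtype.ext huw.symm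
      calc (k⁻¹ * (⟨g ^ p, hwK⟩ : ↥K) * k) * (k⁻¹ * (⟨g ^ q, huK⟩ : ↥K) * k)
          = k⁻¹ * ((⟨g ^ p, hwK⟩ : ↥K) * ⟨g ^ q, huK⟩) * k := by group
        _ = k⁻¹ * ((⟨g ^ q, huK⟩ : ↥K) * ⟨g ^ p, hwK⟩) * k := by rw [h1]
        _ = _ := by group
    have hwC : k⁻¹ * (⟨g ^ p, hwK⟩ : ↥K) * k ∈ C₁ :=
      Cfsg.Agent.Lib.Helper63_Frobenius.mem_of_commute h.c₁ hk hk1 hcomm
    have ho : orderOf (k⁻¹ * (⟨g ^ p, hwK⟩ : ↥K) * k) = q := by
      have h1 := MulEquiv.orderOf_eq (MulAut.conj k⁻¹) (⟨g ^ p, hwK⟩ : ↥K)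
      rw [MulAut.conj_apply, inv_inv] at h1
      rw [h1, ← Subgroup.orderOf_coe]
      exact hwo
    apply hqb
    rw [← card_C₁ h, ← ho]
    exact Subgroup.orderOf_dvd_natCard C₁ hwC
  · -- `w ∉ K`: contradiction in `G ⧸ H`
    have hwN : ((g ^ p : G) : G ⧸ H) ∉ K.map (QuotientGroup.mk' H) := by
      rintro ⟨k, hkK, hk⟩
      apply hwK
      have h1 : k⁻¹ * g ^ p ∈ H := QuotientGroup.eq.mp hk
      have h2 : g ^ p = k * (k⁻¹ * g ^ p) := by group
      rw [h2]
      exact K.mul_mem hkK (h.lt.le h1)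
    have huN : ((g ^ q : G) : G ⧸ H) ∈ K.map (QuotientGroup.mk' H) :=
      Subgroup.mem_map_of_mem _ huK
    have huN1 : ((g ^ q : G) : G ⧸ H) ≠ 1 := by
      intro h'
      exact huH ((QuotientGroup.eq_one_iff _).mp h')
    apply not_commute (K.map (QuotientGroup.mk' H)) C₂ h.c₂ h.k₂ hwN huN huN1
    rw [← QuotientGroup.mk_mul, ← QuotientGroup.mk_mul, huw]

theorem prime_graph (h : Hyp H K C₁ C₂) (p q : ℕ) (hp : p.Prime) (hq : q.Prime) (hpq : p ≠ q)
    (hpG : p ∣ Nat.card G) (hqG : q ∣ Nat.card G) :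
    (∃ g : G, orderOf g = p * q) ↔
      (p ∣ Nat.card (↥K ⧸ H.subgroupOf K) ↔ q ∣ Nat.card (↥K ⧸ H.subgroupOf K)) := by
  have hcop : p.Coprime q := (Nat.coprime_primes hp hq).mpr hpq
  constructor
  · rintro ⟨g, hg⟩
    by_cases hpb : p ∣ Nat.card (↥K ⧸ H.subgroupOf K)
    · by_cases hqb : q ∣ Nat.card (↥K ⧸ H.subgroupOf K)
      · exact iff_of_true hpb hqb
      · exact (false_of_order h p q hp hq hpb hqb g hg).elim
    · by_cases hqb : q ∣ Nat.card (↥K ⧸ H.subgroupOf K)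
      · exact (false_of_order h q p hq hp hqb hpb g (by rw [hg, mul_comm])).elim
      · exact iff_of_false hpb hqb
  · intro hiff
    by_cases hpb : p ∣ Nat.card (↥K ⧸ H.subgroupOf K)
    · have hqb := hiff.mp hpb
      exact exists_order_of_dvd_b h (p * q) (Nat.Coprime.mul_dvd_of_dvd_of_dvd hcop hpb hqb)
    · have hqb : ¬ q ∣ Nat.card (↥K ⧸ H.subgroupOf K) := fun hq' => hpb (hiff.mpr hq')
      rw [card_G h] at hpG hqG
      have hp' : p ∣ Nat.card H ∨ p ∣ Nat.card (G ⧸ K) := by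
        rcases hp.dvd_mul.mp hpG with h1 | h1
        · rcases hp.dvd_mul.mp h1 with h2 | h2
          · exact Or.inl h2
          · exact absurd h2 hpb
        · exact Or.inr h1
      have hq' : q ∣ Nat.card H ∨ q ∣ Nat.card (G ⧸ K) := by
        rcases hq.dvd_mul.mp hqG with h1 | h1
        · rcases hq.dvd_mul.mp h1 with h2 | h2
          · exact Or.inl h2
          · exact absurd h2 hqb
        · exact Or.inr h1
      rcases hp' with hpa | hpc <;> rcases hq' with hqa | hqc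
      · exact exists_order_of_dvd_a h p q hp hq hpq hpa hqa
      · exact exists_order_mixed h p q hp hq hpq hpa hqc
      · obtain ⟨g, hg⟩ := exists_order_mixed h q p hq hp hpq.symm hqa hpc
        exact ⟨g, by rw [hg, mul_comm]⟩
      · exact exists_order_of_dvd_c h (p * q) (Nat.Coprime.mul_dvd_of_dvd_of_dvd hcop hpc hqc)

end Graph

end Cfsg.Agent.Lib.Helper66_TwoFrob
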