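import Mathlib
import Cfsg.Agent.Lib.Helper67_SymSylow

/-!
Helper67_AMax1: arithmetic and index computations in `Equiv.Perm (Fin n)` used for S2245
(Sylow 2-subgroups of symmetric / alternating groups lying in a unique maximal subgroup).
-/

set_option autoImplicit false

namespace Cfsg.Agent.Lib.Helper67_AMax1

open MulAction Equiv
open scoped Pointwise

/-! ### parity of binomial coefficients -/

theorem even_choose_two_pow {k i : ℕ} (h0 : i ≠ 0) (h1 : i ≠ 2 ^ k) : Even ((2 ^ k).choose i) :=
  even_iff_two_dvd.mpr (Nat.Prime.dvd_choose_pow Nat.prime_two h0 h1)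

theorem even_choose_two_pow_succ {k j : ℕ} (h2 : 2 ≤ j) (hj : j + 1 ≤ 2 ^ k) :
    Even ((2 ^ k + 1).choose j) := by
  obtain ⟨j', rfl⟩ : ∃ j', j = j' + 1 := ⟨j - 1, by omega⟩
  rw [Nat.choose_succ_succ]
  exact (even_choose_two_pow (by omega) (by omega)).add (even_choose_two_pow (by omega) (by omega))

theorem odd_choose_top : ∀ (t n : ℕ), 2 ^ t ≤ n → n < 2 ^ (t + 1) → Odd (n.choose (2 ^ t))
  | 0, n, h1, h2 => by
    have : n = 1 := by simp at h1 h2; omega
    subst this; simp
  | t + 1, n, h1, h2 => by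
    have : Fact (Nat.Prime 2) := ⟨Nat.prime_two⟩
    have hl := @Choose.choose_modEq_choose_mod_mul_choose_div_nat n (2 ^ (t + 1)) 2 _
    have e1 : 2 ^ (t + 1) % 2 = 0 := by rw [pow_succ]; simp
    have e2 : 2 ^ (t + 1) / 2 = 2 ^ t := by rw [pow_succ]; simp
    rw [e1, e2, Nat.choose_zero_right, one_mul] at hl
    have ih := odd_choose_top t (n / 2) (by rw [pow_succ] at h1; omega)
      (by rw [pow_succ] at h2; omega)
    rw [Nat.odd_iff] at ih ⊢
    have hl' : n.choose (2 ^ (t + 1)) % 2 = (n / 2).choose (2 ^ t) % 2 := hl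
    rw [hl', ih]

theorem odd_choose_pred_two_pow (t : ℕ) : ∀ j, j ≤ 2 ^ t - 1 → Odd ((2 ^ t - 1).choose j)
  | 0, _ => by simp
  | j + 1, hj => by
    have ih := odd_choose_pred_two_pow t j (by omega)
    have hp : 0 < 2 ^ t := by positivity
    have hE : Even ((2 ^ t).choose (j + 1)) := even_choose_two_pow (by omega) (by omega)
    have hpas : (2 ^ t).choose (j + 1) = (2 ^ t - 1).choose j + (2 ^ t - 1).choose (j + 1) := by
      conv_lhs => rw [show 2 ^ t = (2 ^ t - 1) + 1 by omega]
      rw [Nat.choose_succ_succ]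
    rw [hpas] at hE
    by_contra hcon
    rw [Nat.not_odd_iff_even] at hcon
    have := (Nat.even_add.mp hE).mpr hcon
    exact (Nat.not_even_iff_odd.mpr ih) this

theorem choose_half (t : ℕ) : ∃ m, Odd m ∧ (2 ^ (t + 1)).choose (2 ^ t) = 2 * m := by
  refine ⟨(2 ^ (t + 1) - 1).choose (2 ^ t), odd_choose_pred_two_pow (t + 1) _ ?_, ?_⟩
  · rw [pow_succ]; have : 0 < 2 ^ t := by positivity
    omega
  · have hp : 0 < 2 ^ t := by positivity
    have h1 : (2 ^ (t + 1) - 1) + 1 = 2 ^ (t + 1) := by rw [pow_succ]; omega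
    have h2 : (2 ^ t - 1) + 1 = 2 ^ t := by omega
    have hpas := Nat.choose_succ_succ (2 ^ (t + 1) - 1) (2 ^ t - 1)
    rw [Nat.succ_eq_add_one, Nat.succ_eq_add_one, h1, h2] at hpas
    rw [hpas]
    have hs : (2 ^ (t + 1) - 1).choose (2 ^ t - 1) = (2 ^ (t + 1) - 1).choose (2 ^ t) := by
      rw [← Nat.choose_symm (n := 2 ^ (t + 1) - 1) (k := 2 ^ t) (by rw [pow_succ]; omega)]
      congr 1
      rw [pow_succ]; omega
    rw [hs]; ring

/-! ### index of a set stabilizer -/

section SetStab

variable {n : ℕ} {G : Type*} [Group G] [MulAction G (Fin n)]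

theorem index_stabilizer_finset
    (hsub : ∀ k, IsPretransitive G (Set.powersetCard (Fin n) k)) (s : Finset (Fin n)) :
    (stabilizer G (s : Set (Fin n))).index = n.choose s.card := by
  have := hsub s.card
  let s' : Set.powersetCard (Fin n) s.card := ⟨s, rfl⟩
  have h1 := index_stabilizer_of_transitive G s'
  rw [Set.powersetCard.stabilizer_coe, Set.powersetCard.card, Nat.card_fin] at h1
  exact h1

end SetStab


/-! ### a fixed-point-free involution with centralizer of odd index -/

section Centralizer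

variable {n : ℕ}

theorem exists_fpf_involution (hn : Even n) (hn0 : 0 < n) :
    ∃ z : Perm (Fin n), (∀ x, z x ≠ x) ∧ z * z = 1 ∧
      ¬ 2 ∣ (Subgroup.centralizer {z}).index := by
  classical
  obtain ⟨m, hm⟩ := hn
  have hm0 : m ≠ 0 := by omega
  obtain ⟨z, hz⟩ := (Equiv.Perm.exists_with_cycleType_iff (Fin n)
    (m := Multiset.replicate m 2)).mpr
      ⟨by simp [hm]; omega, by intro a ha; rw [Multiset.eq_of_mem_replicate ha]⟩
  have hord : orderOf z ∣ 2 := by
    rw [← Equiv.Perm.lcm_cycleType, Multiset.lcm_dvd]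
    intro b hb
    rw [hz] at hb
    rw [Multiset.eq_of_mem_replicate hb]
  have hzz : z * z = 1 := by
    rw [← pow_two]; exact orderOf_dvd_iff_pow_eq_one.mp hord
  have hsupp : z.support = Finset.univ := by
    apply Finset.eq_univ_of_card
    rw [← Equiv.Perm.sum_cycleType, hz, Multiset.sum_replicate, Fintype.card_fin]
    simp; omega
  refine ⟨z, fun x => ?_, hzz, ?_⟩
  · have : x ∈ z.support := by rw [hsupp]; exact Finset.mem_univ x
    exact Equiv.Perm.mem_support.mp this
  · have hcard := Equiv.Perm.nat_card_centralizer z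
    rw [hz, Multiset.sum_replicate, Multiset.prod_replicate, Multiset.toFinset_replicate,
      if_neg hm0, Finset.prod_singleton, Multiset.count_replicate_self, Fintype.card_fin] at hcard
    have h0 : n - m • 2 = 0 := by simp; omega
    rw [h0, Nat.factorial_zero, one_mul] at hcard
    have hidx := Subgroup.index_mul_card (Subgroup.centralizer {z})
    rw [hcard, Nat.card_perm, Nat.card_fin] at hidx
    have : Fact (Nat.Prime 2) := ⟨Nat.prime_two⟩
    have hv := Cfsg.Agent.Lib.Helper67_SymSylow.val_fact 2 n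
    have hn2 : n / 2 = m := by omega
    rw [hn2, ← hidx] at hv
    have hi0 : (Subgroup.centralizer {z}).index ≠ 0 := Subgroup.index_ne_zero_of_finite
    rw [padicValNat.mul hi0 (by positivity), padicValNat.mul (by positivity)
      (Nat.factorial_ne_zero m), padicValNat.prime_pow] at hv
    have hv0 : padicValNat 2 (Subgroup.centralizer {z}).index = 0 := by omega
    rcases padicValNat.eq_zero_iff.mp hv0 with h | h | h
    · omega
    · exact absurd h hi0
    · exact h

end Centralizer

/-! ### the stabilizer of an unordered pair `{A, Aᶜ}` -/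

section PairStab

variable {Ω : Type*} {G : Type*} [Group G] [MulAction G Ω]

/-- the subgroup of elements mapping `A` to `A` or to `Aᶜ` -/
def pairStab (G : Type*) [Group G] [MulAction G Ω] (A : Set Ω) : Subgroup G where
  carrier := {g | g • A = A ∨ g • A = Aᶜ}
  one_mem' := Or.inl (one_smul _ _)
  mul_mem' := by
    rintro g h hg hh
    simp only [Set.mem_ofPred_eq] at hg hh ⊢
    rw [mul_smul]
    rcases hh with hh | hh <;> rw [hh]
    · exact hg
    · rw [Set.smul_set_compl]
      rcases hg with hg | hg <;> rw [hg]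
      · right; rfl
      · left; exact compl_compl A
  inv_mem' := by
    rintro g hg
    simp only [Set.mem_ofPred_eq] at hg ⊢
    rcases hg with hg | hg
    · left
      rw [inv_smul_eq_iff, hg]
    · right
      rw [inv_smul_eq_iff, Set.smul_set_compl, hg, compl_compl]

theorem mem_pairStab {A : Set Ω} {g : G} : g ∈ pairStab G A ↔ g • A = A ∨ g • A = Aᶜ := Iff.rfl

theorem stabilizer_le_pairStab (A : Set Ω) : stabilizer G A ≤ pairStab G A :=
  fun _ hg => Or.inl hg

theorem relIndex_pairStab {A : Set Ω} (hA : A.Nonempty) (w : G) (hw : w • A = Aᶜ) :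
    (stabilizer G A).relIndex (pairStab G A) = 2 := by
  have hne : A ≠ Aᶜ := by
    intro h
    obtain ⟨a, ha⟩ := hA
    have : a ∈ Aᶜ := h ▸ ha
    exact this ha
  rw [Subgroup.relIndex, Subgroup.index_eq_two_iff]
  refine ⟨⟨w, Or.inr hw⟩, fun b => ?_⟩
  have hb := b.2
  rw [mem_pairStab] at hb
  simp only [Subgroup.mem_subgroupOf, Subgroup.coe_mul, mem_stabilizer_iff, mul_smul, hw,
    Set.smul_set_compl]
  rcases hb with hb | hb
  · right
    refine ⟨hb, ?_⟩
    rw [hb]; exact fun h => hne h.symm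
  · left
    refine ⟨by rw [hb, compl_compl], ?_⟩
    rw [hb]; exact fun h => hne h.symm

end PairStab

section PairStabIndex

variable {n : ℕ}

theorem odd_index_pairStab (t : ℕ) (hn : n = 2 ^ (t + 1)) (A : Finset (Fin n))
    (hA : A.card = 2 ^ t) :
    ¬ 2 ∣ (pairStab (Perm (Fin n)) (A : Set (Fin n))).index := by
  classical
  have hsub : ∀ k, IsPretransitive (Perm (Fin n)) (Set.powersetCard (Fin n) k) :=
    fun k => Set.powersetCard.isPretransitive
  have hidx := index_stabilizer_finset hsub A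
  have hAc : (Aᶜ : Finset (Fin n)).card = 2 ^ t := by
    rw [Finset.card_compl, Fintype.card_fin, hA, hn, pow_succ]; omega
  -- an element swapping `A` and its complement
  obtain ⟨w, hw⟩ : ∃ w : Perm (Fin n), w • (A : Set (Fin n)) = (A : Set (Fin n))ᶜ := by
    have := hsub (2 ^ t)
    obtain ⟨w, hw⟩ := MulAction.exists_smul_eq (Perm (Fin n))
      (⟨A, hA⟩ : Set.powersetCard (Fin n) (2 ^ t)) ⟨Aᶜ, hAc⟩
    refine ⟨w, ?_⟩
    have h2 := congrArg (fun s : Set.powersetCard (Fin n) (2 ^ t) => ((s : Finset (Fin n)) :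
      Set (Fin n))) hw
    simpa using h2
  have hAne : (A : Set (Fin n)).Nonempty := by
    rw [Finset.coe_nonempty, ← Finset.card_pos, hA]; positivity
  have hrel := relIndex_pairStab hAne w hw
  have hmul := Subgroup.relIndex_mul_index (stabilizer_le_pairStab (G := Perm (Fin n))
    (A : Set (Fin n)))
  rw [hrel, hidx, hA] at hmul
  have hc : n.choose (2 ^ t) = (2 ^ (t + 1)).choose (2 ^ t) := by rw [hn]
  obtain ⟨m, hm, hm2⟩ := choose_half t
  rw [hc, hm2] at hmul
  have : (pairStab (Perm (Fin n)) (A : Set (Fin n))).index = m := by omega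
  rw [this]
  exact hm.not_two_dvd_nat

end PairStabIndex

/-! ### odd index subgroups contain a conjugate of any 2-subgroup -/

section OddIndex

variable {G₀ : Type*} [Group G₀]

theorem exists_conj_mem_of_odd_index (K : Subgroup G₀) [K.FiniteIndex] (hK : ¬ 2 ∣ K.index)
    (P : Subgroup G₀) (hP : IsPGroup 2 P) :
    ∃ σ : G₀, ∀ g ∈ P, σ⁻¹ * g * σ ∈ K := by
  have : Fact (Nat.Prime 2) := ⟨Nat.prime_two⟩
  have hfix := hP.nonempty_fixed_point_of_prime_not_dvd_card (G₀ ⧸ K)
    (by rw [← Subgroup.index_eq_card]; exact hK)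
  obtain ⟨q, hq⟩ := hfix
  induction q using QuotientGroup.induction_on with
  | H σ =>
    refine ⟨σ, fun g hg => ?_⟩
    have h1 : ((g * σ : G₀) : G₀ ⧸ K) = (σ : G₀ ⧸ K) := hq ⟨g, hg⟩
    rw [QuotientGroup.eq] at h1
    have h2 := K.inv_mem h1
    simpa [mul_assoc] using h2

end OddIndex

end Cfsg.Agent.Lib.Helper67_AMax1
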