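import Mathlib
import Cfsg.Agent.Lib.Helper67_AMax1

/-!
Helper67_AMax2: explicit permutations commuting with a fixed-point-free involution, and the
generic setting (a finite group `G` acting on `Fin n`, containing the alternating group) for S2245.
-/

set_option autoImplicit false

namespace Cfsg.Agent.Lib.Helper67_AMax2

open MulAction Equiv
open scoped Pointwise

/-! ### explicit permutations -/

section Explicit

variable {α : Type*} [DecidableEq α]

theorem swap_swap_comm {x y z t : α} (h : [x, y, z, t].Nodup) :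
    swap x y * swap z t = swap z t * swap x y :=
  (Equiv.Perm.disjoint_swap_swap h).commute

/-- `(x y)(zx zy)` commutes with the involution `z`. -/
theorem comm_dswap (z : Perm α) (hz : z * z = 1) {x y : α} (h : [x, y, z x, z y].Nodup) :
    (swap x y * swap (z x) (z y)) * z = z * (swap x y * swap (z x) (z y)) := by
  have hzz : ∀ a, z (z a) = a := fun a => by
    have := congrArg (fun f : Perm α => f a) hz
    simpa using this
  have h1 : z * swap x y = swap (z x) (z y) * z := Equiv.mul_swap_eq_swap_mul z x y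
  have h2 : z * swap (z x) (z y) = swap x y * z := by
    rw [Equiv.mul_swap_eq_swap_mul z (z x) (z y), hzz, hzz]
  calc swap x y * swap (z x) (z y) * z = swap (z x) (z y) * swap x y * z := by
        rw [swap_swap_comm h]
    _ = swap (z x) (z y) * (z * swap (z x) (z y)) := by rw [h2, mul_assoc]
    _ = z * (swap x y * swap (z x) (z y)) := by rw [← mul_assoc, ← h1, mul_assoc]

/-- `(x zx)(w zw)` commutes with the involution `z`. -/
theorem comm_pswap (z : Perm α) (hz : z * z = 1) (x w : α) :
    (swap x (z x) * swap w (z w)) * z = z * (swap x (z x) * swap w (z w)) := by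
  have hzz : ∀ a, z (z a) = a := fun a => by
    have := congrArg (fun f : Perm α => f a) hz
    simpa using this
  have h1 : ∀ a, z * swap a (z a) = swap a (z a) * z := fun a => by
    rw [Equiv.mul_swap_eq_swap_mul z a (z a), hzz, swap_comm]
  rw [mul_assoc, ← h1 w, ← mul_assoc, ← h1 x, mul_assoc]

variable [Fintype α]

theorem dswap_mem_alt {a b c d : α} (hab : a ≠ b) (hcd : c ≠ d) :
    swap a b * swap c d ∈ alternatingGroup α := by
  rw [Equiv.Perm.mem_alternatingGroup, Equiv.Perm.sign_mul, Equiv.Perm.sign_swap hab,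
    Equiv.Perm.sign_swap hcd]
  rfl

end Explicit


/-! ### the generic setting -/

open Cfsg.Agent.Lib.Helper67_AMax1

/-- Hypotheses on the ambient group `G` (to be instantiated with `Perm (Fin n)` and with
`alternatingGroup (Fin n)`). -/
structure Amb (n : ℕ) (G : Type*) [Group G] [MulAction G (Fin n)] : Prop where
  inj : Function.Injective (toPermHom G (Fin n))
  alt : ∀ σ : Perm (Fin n), σ ∈ alternatingGroup (Fin n) → ∃ g : G, toPermHom G (Fin n) g = σ
  coatom : ∀ s : Set (Fin n), s.Nonempty → sᶜ.Nonempty → n ≠ 2 * s.ncard →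
    IsCoatom (stabilizer G s)
  block : ∀ (K : Subgroup G) (s B : Set (Fin n)), s.Nontrivial → B ⊂ sᶜ → stabilizer G s ≤ K →
    IsBlock K B → B.Subsingleton
  mt : ∀ k, k + 2 ≤ n → IsMultiplyPretransitive G (Fin n) k
  sub : ∀ k, IsPretransitive G (Set.powersetCard (Fin n) k)
  jordan : ∀ K : Subgroup G, IsPreprimitive K (Fin n) →
    (∃ g ∈ K, (toPermHom G (Fin n) g).IsThreeCycle) → ¬ 2 ∣ K.index → K = ⊤

section Generic

variable {n : ℕ} {G : Type*} [Group G] [MulAction G (Fin n)]

theorem smul_set_eq (g : G) (S : Set (Fin n)) : g • S = (toPermHom G (Fin n) g) • S := rfl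

/-- the centralizer in `G` of a permutation `z` -/
def centG (G : Type*) [Group G] [MulAction G (Fin n)] (z : Perm (Fin n)) : Subgroup G :=
  (Subgroup.centralizer {z}).comap (toPermHom G (Fin n))

theorem mem_centG {z : Perm (Fin n)} {g : G} :
    g ∈ centG G z ↔ toPermHom G (Fin n) g * z = z * toPermHom G (Fin n) g := by
  rw [centG, Subgroup.mem_comap, Subgroup.mem_centralizer_singleton_iff]

theorem exists_centG (hn : Even n) (hn0 : 0 < n) (P : Subgroup G) (hP : IsPGroup 2 P) :
    ∃ z : Perm (Fin n), (∀ x, z x ≠ x) ∧ z * z = 1 ∧ P ≤ centG G z := by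
  obtain ⟨z₀, hfpf, hzz, hidx⟩ := exists_fpf_involution hn hn0
  obtain ⟨σ, hσ⟩ := exists_conj_mem_of_odd_index (Subgroup.centralizer {z₀}) hidx
    (P.map (toPermHom G (Fin n))) (hP.map _)
  refine ⟨σ * z₀ * σ⁻¹, fun x hx => ?_, ?_, fun g hg => ?_⟩
  · apply hfpf (σ⁻¹ x)
    have := congrArg (fun y => σ⁻¹ y) hx
    simpa using this
  · rw [show σ * z₀ * σ⁻¹ * (σ * z₀ * σ⁻¹) = σ * (z₀ * z₀) * σ⁻¹ by group, hzz]; group
  · rw [mem_centG]
    have h := hσ _ (Subgroup.mem_map_of_mem _ hg)
    rw [Subgroup.mem_centralizer_singleton_iff] at h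
    set a := toPermHom G (Fin n) g
    have e1 : a * (σ * z₀ * σ⁻¹) = σ * (σ⁻¹ * a * σ * z₀) * σ⁻¹ := by group
    rw [e1, h]; group

theorem exists_pairStab (t : ℕ) (hn : n = 2 ^ (t + 1)) (P : Subgroup G) (hP : IsPGroup 2 P) :
    ∃ A : Finset (Fin n), A.card = 2 ^ t ∧ P ≤ pairStab G (A : Set (Fin n)) := by
  classical
  obtain ⟨A₀, -, hA₀⟩ := Finset.exists_subset_card_eq (s := (Finset.univ : Finset (Fin n)))
    (n := 2 ^ t) (by rw [Finset.card_univ, Fintype.card_fin, hn, pow_succ]; omega)
  have hidx := odd_index_pairStab t hn A₀ hA₀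
  obtain ⟨σ, hσ⟩ := exists_conj_mem_of_odd_index _ hidx
    (P.map (toPermHom G (Fin n))) (hP.map _)
  refine ⟨A₀.image σ, ?_, fun g hg => ?_⟩
  · rw [Finset.card_image_of_injective _ σ.injective, hA₀]
  · have h := hσ _ (Subgroup.mem_map_of_mem _ hg)
    rw [mem_pairStab] at h ⊢
    have hcoe : ((A₀.image σ : Finset (Fin n)) : Set (Fin n)) = σ • (A₀ : Set (Fin n)) := by
      rw [Finset.coe_image]; rfl
    rw [hcoe, smul_set_eq]
    set a := toPermHom G (Fin n) g
    rw [mul_smul, mul_smul] at h
    rcases h with h | h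
    · left
      rw [inv_smul_eq_iff] at h
      exact h
    · right
      rw [inv_smul_eq_iff, Set.smul_set_compl] at h
      exact h

theorem exists_fixed_finset (k : ℕ) (hodd : Odd (n.choose k)) (P : Subgroup G)
    (hP : IsPGroup 2 P) :
    ∃ s : Finset (Fin n), s.card = k ∧ P ≤ stabilizer G (s : Set (Fin n)) := by
  classical
  have : Fact (Nat.Prime 2) := ⟨Nat.prime_two⟩
  have hfix := hP.nonempty_fixed_point_of_prime_not_dvd_card (Set.powersetCard (Fin n) k)
    (by rw [Set.powersetCard.card, Nat.card_fin]; exact hodd.not_two_dvd_nat)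
  obtain ⟨s, hs⟩ := hfix
  refine ⟨s, s.2, fun g hg => ?_⟩
  have h1 : g ∈ stabilizer G s := hs ⟨g, hg⟩
  rw [Set.powersetCard.stabilizer_coe] at h1
  exact h1

theorem odd_choose_of_invariant [Finite G] (h : Amb n G) (R : Sylow 2 G) (s : Set (Fin n))
    (hs : (R : Subgroup G) ≤ stabilizer G s) : Odd (n.choose s.ncard) := by
  classical
  have : Fact (Nat.Prime 2) := ⟨Nat.prime_two⟩
  have hidx := index_stabilizer_finset h.sub s.toFinset
  rw [Set.coe_toFinset, ← Set.ncard_eq_toFinset_card'] at hidx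
  have hdvd := Subgroup.index_dvd_of_le hs
  rw [hidx] at hdvd
  have hR := R.not_dvd_index
  rw [← Nat.not_even_iff_odd, even_iff_two_dvd]
  exact fun h2 => hR (h2.trans hdvd)

end Generic

end Cfsg.Agent.Lib.Helper67_AMax2
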