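import Mathlib
import Cfsg.Agent.Lib.Helper67_AMax2

/-!
Helper67_AMax3: the generic "only if" direction for S2245: if a Sylow 2-subgroup lies in a
unique maximal subgroup then `n = 2 ^ k + 1`.
-/

set_option autoImplicit false

namespace Cfsg.Agent.Lib.Helper67_AMax3

open MulAction Equiv
open scoped Pointwise
open Cfsg.Agent.Lib.Helper67_AMax1 Cfsg.Agent.Lib.Helper67_AMax2

section Generic

variable {n : ℕ} {G : Type*} [Group G] [MulAction G (Fin n)]

theorem exists_notMem (S : Finset (Fin n)) (h : S.card < n) : ∃ x, x ∉ S := by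
  by_contra hcon
  push Not at hcon
  have : S = Finset.univ := Finset.eq_univ_iff_forall.mpr hcon
  rw [this, Finset.card_univ, Fintype.card_fin] at h
  exact lt_irrefl _ h

theorem act_eq (g : G) (x : Fin n) : g • x = toPermHom G (Fin n) g x := rfl

theorem centG_ne_top (h : Amb n G) (hn : 3 ≤ n) (z : Perm (Fin n)) (hfpf : ∀ x, z x ≠ x)
    (hzz : z * z = 1) : centG G z ≠ ⊤ := by
  intro htop
  have hz2 : ∀ a, z (z a) = a := fun a => by
    have := congrArg (fun f : Perm (Fin n) => f a) hzz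
    simpa using this
  let a : Fin n := ⟨0, by omega⟩
  obtain ⟨d, hd⟩ := exists_notMem ({a, z a} : Finset (Fin n))
    (lt_of_le_of_lt (Finset.card_insert_le _ _) (by simp; omega))
  simp only [Finset.mem_insert, Finset.mem_singleton, not_or] at hd
  obtain ⟨hda, hdb⟩ := hd
  have hab : a ≠ z a := (hfpf a).symm
  have h3 : (swap a (z a) * swap a d).IsThreeCycle :=
    Equiv.Perm.isThreeCycle_swap_mul_swap_same hab (Ne.symm hda) (Ne.symm hdb)
  obtain ⟨g, hg⟩ := h.alt _ h3.mem_alternatingGroup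
  have hmem : g ∈ centG G z := by rw [htop]; trivial
  rw [mem_centG, hg] at hmem
  have h1 := congrArg (fun f : Perm (Fin n) => f d) hmem
  simp only [Equiv.Perm.mul_apply] at h1
  -- `c (z d) = z (c d)`
  have hzd_a : z d ≠ a := fun e => hdb (by rw [← hz2 d, e])
  have hzd_b : z d ≠ z a := fun e => hda (z.injective e)
  have hzd_d : z d ≠ d := hfpf d
  rw [swap_apply_of_ne_of_ne hzd_a hzd_d, swap_apply_of_ne_of_ne hzd_a hzd_b,
    swap_apply_right, swap_apply_left, hz2] at h1
  exact hzd_a h1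

theorem centG_trans (h : Amb n G) (hn : 3 ≤ n) (z : Perm (Fin n)) (hfpf : ∀ x, z x ≠ x)
    (hzz : z * z = 1) (x y : Fin n) (hxy : x ≠ y) :
    ∃ g ∈ centG G z, g • x = y ∧ ∃ S : Finset (Fin n), S.card ≤ 4 ∧ y ∈ S ∧
      ∀ c, c ∉ S → g • c = c := by
  have hz2 : ∀ a, z (z a) = a := fun a => by
    have := congrArg (fun f : Perm (Fin n) => f a) hzz
    simpa using this
  by_cases hy : y = z x
  · subst hy
    obtain ⟨w, hw⟩ := exists_notMem ({x, z x} : Finset (Fin n))
      (lt_of_le_of_lt (Finset.card_insert_le _ _) (by simp; omega))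
    simp only [Finset.mem_insert, Finset.mem_singleton, not_or] at hw
    obtain ⟨hwx, hwzx⟩ := hw
    obtain ⟨g, hg⟩ := h.alt _ (dswap_mem_alt (a := x) (b := z x) (c := w) (d := z w)
      (hfpf x).symm (hfpf w).symm)
    refine ⟨g, ?_, ?_, {x, z x, w, z w}, ?_, by simp, fun c hc => ?_⟩
    · rw [mem_centG, hg]; exact comm_pswap z hzz x w
    · rw [act_eq, hg, Equiv.Perm.mul_apply, swap_apply_of_ne_of_ne (Ne.symm hwx)
        (fun e => hwzx (by rw [e, hz2])), swap_apply_left]
    · exact (Finset.card_le_four)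
    · simp only [Finset.mem_insert, Finset.mem_singleton, not_or] at hc
      rw [act_eq, hg, Equiv.Perm.mul_apply, swap_apply_of_ne_of_ne hc.2.2.1 hc.2.2.2,
        swap_apply_of_ne_of_ne hc.1 hc.2.1]
  · have hnd : [x, y, z x, z y].Nodup := by
      simp only [List.nodup_cons, List.mem_cons, List.not_mem_nil, or_false, not_or,
        List.nodup_nil, and_true, not_false_eq_true]
      refine ⟨⟨hxy, (hfpf x).symm, fun e => hy (by rw [e, hz2])⟩, ⟨hy, (hfpf y).symm⟩,
        fun e => hxy (z.injective e)⟩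
    obtain ⟨g, hg⟩ := h.alt _ (dswap_mem_alt (a := x) (b := y) (c := z x) (d := z y)
      hxy (fun e => hxy (z.injective e)))
    refine ⟨g, ?_, ?_, {x, y, z x, z y}, ?_, by simp, fun c hc => ?_⟩
    · rw [mem_centG, hg]; exact comm_dswap z hzz hnd
    · rw [act_eq, hg, Equiv.Perm.mul_apply, swap_apply_of_ne_of_ne (hfpf x).symm
        (fun e => hy (by rw [e, hz2])), swap_apply_left]
    · exact (Finset.card_le_four)
    · simp only [Finset.mem_insert, Finset.mem_singleton, not_or] at hc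
      rw [act_eq, hg, Equiv.Perm.mul_apply, swap_apply_of_ne_of_ne hc.2.2.1 hc.2.2.2,
        swap_apply_of_ne_of_ne hc.1 hc.2.1]


theorem pairStab_ne_top (h : Amb n G) (A : Finset (Fin n)) (h2 : 2 ≤ A.card) (hn : A.card < n) :
    pairStab G (A : Set (Fin n)) ≠ ⊤ := by
  intro htop
  obtain ⟨a, ha, b, hb, hab⟩ := Finset.one_lt_card.mp (by omega : 1 < A.card)
  obtain ⟨c, hc⟩ := exists_notMem A hn
  have hca : c ≠ a := fun e => hc (e ▸ ha)
  have hcb : c ≠ b := fun e => hc (e ▸ hb)
  have h3 : (swap c a * swap c b).IsThreeCycle :=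
    Equiv.Perm.isThreeCycle_swap_mul_swap_same hca hcb hab
  obtain ⟨g, hg⟩ := h.alt _ h3.mem_alternatingGroup
  have hmem : g ∈ pairStab G (A : Set (Fin n)) := by rw [htop]; trivial
  have hga : g • a = c := by
    rw [act_eq, hg, Equiv.Perm.mul_apply, swap_apply_of_ne_of_ne (Ne.symm hca) hab,
      swap_apply_right]
  have hgb : g • b = a := by
    rw [act_eq, hg, Equiv.Perm.mul_apply, swap_apply_right, swap_apply_left]
  rcases hmem with h1 | h1
  · apply hc
    have : g • a ∈ g • (A : Set (Fin n)) := Set.smul_mem_smul_set ha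
    rw [h1, hga] at this
    exact this
  · have : g • b ∈ g • (A : Set (Fin n)) := Set.smul_mem_smul_set hb
    rw [h1, hgb] at this
    exact this ha

theorem not_isBlock_of_centG_le (h : Amb n G) (hn : 3 ≤ n) (z : Perm (Fin n))
    (hfpf : ∀ x, z x ≠ x) (hzz : z * z = 1) (M : Subgroup G) (hzM : centG G z ≤ M)
    (B₀ : Set (Fin n)) (h4 : 4 ≤ B₀.ncard) (hne : B₀ ≠ Set.univ) : ¬ IsBlock M B₀ := by
  classical
  intro hB
  have hne0 : B₀.Nonempty := by
    rw [← Set.ncard_pos]; omega
  obtain ⟨x, hx⟩ := hne0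
  obtain ⟨y, hy⟩ : ∃ y, y ∉ B₀ := by
    by_contra hcon; push Not at hcon
    exact hne (Set.eq_univ_of_forall hcon)
  obtain ⟨g, hg, hgx, S, hS4, hyS, hfix⟩ := centG_trans h hn z hfpf hzz x y
    (by rintro rfl; exact hy hx)
  obtain ⟨c, hcB, hcS⟩ : ∃ c ∈ B₀, c ∉ S := by
    by_contra hcon; push Not at hcon
    have hsub : B₀ ⊆ ((S.erase y : Finset (Fin n)) : Set (Fin n)) := by
      intro c hc
      rw [Finset.mem_coe, Finset.mem_erase]
      exact ⟨fun e => hy (e ▸ hc), hcon c hc⟩
    have h1 := Set.ncard_le_ncard hsub (Finset.finite_toSet _)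
    rw [Set.ncard_coe_finset, Finset.card_erase_of_mem hyS] at h1
    omega
  have hb := (isBlock_iff_smul_eq_or_disjoint.mp hB) ⟨g, hzM hg⟩
  have e1 : (⟨g, hzM hg⟩ : M) • B₀ = g • B₀ := rfl
  rw [e1] at hb
  rcases hb with hb | hb
  · apply hy
    have : g • x ∈ g • B₀ := Set.smul_mem_smul_set hx
    rw [hb, hgx] at this
    exact this
  · have : g • c ∈ g • B₀ := Set.smul_mem_smul_set hcB
    rw [hfix c hcS] at this
    exact Set.disjoint_left.mp hb this hcB

theorem forward [Finite G] (hn : 5 ≤ n) (h : Amb n G) (R : Sylow 2 G)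
    (hU : ∃! M : Subgroup G, IsCoatom M ∧ (R : Subgroup G) ≤ M) :
    ∃ k, 2 ≤ k ∧ n = 2 ^ k + 1 := by
  classical
  have : Fact (Nat.Prime 2) := ⟨Nat.prime_two⟩
  by_contra hno
  obtain ⟨M, ⟨hM, hRM⟩, huniq⟩ := hU
  have hRp : IsPGroup 2 (R : Subgroup G) := R.isPGroup'
  have hle : ∀ H : Subgroup G, (R : Subgroup G) ≤ H → H ≠ ⊤ → H ≤ M := by
    intro H hRH hH
    rcases eq_top_or_exists_le_coatom H with h1 | ⟨M', hM', hHM'⟩
    · exact absurd h1 hH
    · have := huniq M' ⟨hM', hRH.trans hHM'⟩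
      rw [← this]; exact hHM'
  have hcoat : ∀ H : Subgroup G, IsCoatom H → (R : Subgroup G) ≤ H → H = M :=
    fun H h1 h2 => huniq H ⟨h1, h2⟩
  have hMidx : ¬ 2 ∣ M.index := fun hd =>
    R.not_dvd_index (hd.trans (Subgroup.index_dvd_of_le hRM))
  obtain ⟨t, h2t, hlt⟩ : ∃ t, 2 ^ t ≤ n ∧ n < 2 ^ (t + 1) :=
    ⟨Nat.log 2 n, Nat.pow_log_le_self 2 (by omega), Nat.lt_pow_succ_log_self (by norm_num) n⟩
  have ht2 : 2 ≤ t := by
    by_contra hcon; push Not at hcon
    have : 2 ^ (t + 1) ≤ 2 ^ 2 := Nat.pow_le_pow_right (by norm_num) (by omega)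
    omega
  have h4t : 4 ≤ 2 ^ t := by
    have : 2 ^ 2 ≤ 2 ^ t := Nat.pow_le_pow_right (by norm_num) ht2
    omega
  by_cases hpow : n = 2 ^ t
  · -- `n` is a power of two
    obtain ⟨t', rfl⟩ : ∃ t', t = t' + 1 := ⟨t - 1, by omega⟩
    have h4t' : 4 ≤ 2 ^ t' := by
      rw [pow_succ] at hpow
      by_contra hcon; push Not at hcon
      have : t' < 2 := by
        by_contra h2; push Not at h2
        have : 2 ^ 2 ≤ 2 ^ t' := Nat.pow_le_pow_right (by norm_num) h2
        omega
      interval_cases t' <;> omega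
    have hn2 : n = 2 ^ t' * 2 := by rw [hpow, pow_succ]
    obtain ⟨A, hA, hRA⟩ := exists_pairStab t' hpow (R : Subgroup G) hRp
    obtain ⟨z, hfpf, hzz, hRz⟩ := exists_centG (n := n) ⟨2 ^ t', by omega⟩ (by omega)
      (R : Subgroup G) hRp
    have hzM : centG G z ≤ M := hle _ hRz (centG_ne_top h (by omega) z hfpf hzz)
    have hAM : pairStab G (A : Set (Fin n)) ≤ M :=
      hle _ hRA (pairStab_ne_top h A (by omega) (by omega))
    have hSM : stabilizer G (A : Set (Fin n)) ≤ M := (stabilizer_le_pairStab _).trans hAM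
    have hSM' : stabilizer G (A : Set (Fin n))ᶜ ≤ M := by rw [stabilizer_compl]; exact hSM
    have hAn : (A : Set (Fin n)).ncard = 2 ^ t' := by rw [Set.ncard_coe_finset, hA]
    have hAcn : (A : Set (Fin n))ᶜ.ncard = 2 ^ t' := by
      rw [Set.ncard_compl, Nat.card_fin, hAn]; omega
    have hAnt : (A : Set (Fin n)).Nontrivial := by
      rw [← Set.one_lt_ncard_iff_nontrivial, hAn]; omega
    have hAcnt : (A : Set (Fin n))ᶜ.Nontrivial := by
      rw [← Set.one_lt_ncard_iff_nontrivial, hAcn]; omega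
    have htrans : IsPretransitive M (Fin n) := by
      refine ⟨fun x y => ?_⟩
      by_cases hxy : x = y
      · exact ⟨1, by rw [one_smul, hxy]⟩
      · obtain ⟨g, hg, hgx, -⟩ := centG_trans h (by omega) z hfpf hzz x y hxy
        exact ⟨⟨g, hzM hg⟩, hgx⟩
    have hnb : ∀ B₀ : Set (Fin n), B₀.ncard = 2 ^ t' → ¬ IsBlock M B₀ := by
      intro B₀ hB₀
      apply not_isBlock_of_centG_le h (by omega) z hfpf hzz M hzM B₀ (by omega)
      intro e
      rw [e, Set.ncard_univ, Nat.card_fin] at hB₀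
      omega
    have hprim : IsPreprimitive M (Fin n) := by
      apply IsPreprimitive.mk
      intro B hB
      unfold IsTrivialBlock
      rw [or_iff_not_imp_left]
      intro hB'
      have hsub1 : ∀ B' : Set (Fin n), IsBlock M B' → B' ⊆ (A : Set (Fin n))ᶜ →
          B'.Subsingleton := fun B' hB1 hsub =>
        h.block M A B' hAnt (hsub.ssubset_of_ne (fun e => hnb _ hAcn (e ▸ hB1))) hSM hB1
      have hsub2 : ∀ B' : Set (Fin n), IsBlock M B' → B' ⊆ (A : Set (Fin n)) →
          B'.Subsingleton := fun B' hB1 hsub =>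
        h.block M (A : Set (Fin n))ᶜ B' hAcnt
          (by rw [compl_compl]; exact hsub.ssubset_of_ne (fun e => hnb _ hAn (e ▸ hB1))) hSM' hB1
      have h1 : ¬ B ⊆ (A : Set (Fin n)) := fun hh => hB' (hsub2 B hB hh)
      have h2 : ¬ B ⊆ (A : Set (Fin n))ᶜ := fun hh => hB' (hsub1 B hB hh)
      have hmt1 : IsMultiplyPretransitive G (Fin n) ((A : Set (Fin n)).ncard + 1) :=
        h.mt _ (by rw [hAn]; omega)
      have hmt2 : IsMultiplyPretransitive G (Fin n) ((A : Set (Fin n))ᶜ.ncard + 1) :=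
        h.mt _ (by rw [hAcn]; omega)
      have hc1 : (A : Set (Fin n))ᶜ ⊆ B :=
        hB.compl_subset_of_stabilizer_le_of_not_subset_of_not_subset_compl hSM h1 h2
      have hc2 : (A : Set (Fin n))ᶜᶜ ⊆ B :=
        hB.compl_subset_of_stabilizer_le_of_not_subset_of_not_subset_compl hSM' h2
          (by rw [compl_compl]; exact h1)
      rw [compl_compl] at hc2
      apply Set.eq_univ_of_forall
      intro x
      by_cases hx : x ∈ (A : Set (Fin n))
      · exact hc2 hx
      · exact hc1 hx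
    obtain ⟨σ, hσ, h3⟩ := Equiv.Perm.exists_mem_stabilizer_isThreeCycle_of_two_lt_ncard
      (s := (A : Set (Fin n))) (by rw [hAn]; omega)
    obtain ⟨g, hg⟩ := h.alt _ h3.mem_alternatingGroup
    have hgA : g ∈ stabilizer G (A : Set (Fin n)) := by
      rw [mem_stabilizer_iff, smul_set_eq, hg]
      exact hσ
    have := h.jordan M hprim ⟨g, hSM hgA, by rw [hg]; exact h3⟩ hMidx
    exact hM.1 this
  · -- `n` is not a power of two
    have h2tn : 2 ^ t < n := lt_of_le_of_ne h2t (Ne.symm hpow)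
    obtain ⟨s, hs, hRs⟩ := exists_fixed_finset (2 ^ t) (odd_choose_top t n h2t hlt)
      (R : Subgroup G) hRp
    have hsne : (s : Set (Fin n)).Nonempty := by
      rw [Finset.coe_nonempty, ← Finset.card_pos, hs]; positivity
    have hscne : (s : Set (Fin n))ᶜ.Nonempty := by
      obtain ⟨x, hx⟩ := exists_notMem s (by omega)
      exact ⟨x, hx⟩
    have hMs : stabilizer G (s : Set (Fin n)) = M :=
      hcoat _ (h.coatom _ hsne hscne (by
        rw [Set.ncard_coe_finset, hs]; rw [pow_succ] at hlt; omega)) hRs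
    rcases Nat.even_or_odd n with hev | hodd
    · obtain ⟨z, hfpf, hzz, hRz⟩ := exists_centG hev (by omega) (R : Subgroup G) hRp
      have hzM : centG G z ≤ M := hle _ hRz (centG_ne_top h (by omega) z hfpf hzz)
      obtain ⟨x, hx⟩ := hsne
      obtain ⟨y, hy⟩ := hscne
      obtain ⟨g, hg, hgx, -⟩ := centG_trans h (by omega) z hfpf hzz x y
        (by rintro rfl; exact hy hx)
      have hgs : g ∈ stabilizer G (s : Set (Fin n)) := by rw [hMs]; exact hzM hg
      rw [mem_stabilizer_iff] at hgs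
      apply hy
      have : g • x ∈ g • (s : Set (Fin n)) := Set.smul_mem_smul_set hx
      rw [hgs, hgx] at this
      exact this
    · obtain ⟨a, ha⟩ := hRp.nonempty_fixed_point_of_prime_not_dvd_card (Fin n)
        (by rw [Nat.card_fin]; exact hodd.not_two_dvd_nat)
      have hRa : (R : Subgroup G) ≤ stabilizer G ({a} : Set (Fin n)) := by
        intro g hg
        rw [stabilizer_singleton, mem_stabilizer_iff]
        exact ha ⟨g, hg⟩
      have hMa : stabilizer G ({a} : Set (Fin n)) = M :=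
        hcoat _ (h.coatom _ (Set.singleton_nonempty a) (by
          obtain ⟨x, hx⟩ := exists_notMem ({a} : Finset (Fin n)) (by simp; omega)
          exact ⟨x, by simpa using hx⟩) (by simp; omega)) hRa
      have hn1 : n ≠ 2 ^ t + 1 := fun e => hno ⟨t, ht2, e⟩
      have hn3 : 2 ^ t + 2 ≤ n := by omega
      obtain ⟨x, hxs, hxa⟩ := Finset.exists_mem_ne (s := s) (by omega) a
      obtain ⟨y, hys, hya⟩ := Finset.exists_mem_ne (s := sᶜ)
        (by rw [Finset.card_compl, Fintype.card_fin, hs]; omega) a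
      rw [Finset.mem_compl] at hys
      have hyx : y ≠ x := fun e => hys (e ▸ hxs)
      obtain ⟨w, hw⟩ := exists_notMem ({a, x, y} : Finset (Fin n))
        (lt_of_le_of_lt Finset.card_le_three (by omega))
      simp only [Finset.mem_insert, Finset.mem_singleton, not_or] at hw
      obtain ⟨hwa, hwx, hwy⟩ := hw
      have h3 : (swap y x * swap y w).IsThreeCycle :=
        Equiv.Perm.isThreeCycle_swap_mul_swap_same hyx (Ne.symm hwy) (Ne.symm hwx)
      obtain ⟨g, hg⟩ := h.alt _ h3.mem_alternatingGroup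
      have hga : g • a = a := by
        rw [act_eq, hg, Equiv.Perm.mul_apply, swap_apply_of_ne_of_ne (Ne.symm hya) (Ne.symm hwa),
          swap_apply_of_ne_of_ne (Ne.symm hya) (Ne.symm hxa)]
      have hgx : g • x = y := by
        rw [act_eq, hg, Equiv.Perm.mul_apply, swap_apply_of_ne_of_ne (Ne.symm hyx) (Ne.symm hwx),
          swap_apply_right]
      have hgs : g ∈ stabilizer G (s : Set (Fin n)) := by
        rw [hMs, ← hMa, stabilizer_singleton, mem_stabilizer_iff]; exact hga
      rw [mem_stabilizer_iff] at hgs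
      apply hys
      have : g • x ∈ g • (s : Set (Fin n)) := Set.smul_mem_smul_set hxs
      rw [hgs, hgx] at this
      exact this

end Generic

end Cfsg.Agent.Lib.Helper67_AMax3
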