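import Mathlib
import Cfsg.Agent.Lib.Helper67_AMax2

/-!
Helper67_AMax4: double transpositions, Klein four-groups on blocks of size four, and the
production of 3-cycles (for S2245).
-/

set_option autoImplicit false
set_option linter.unusedSimpArgs false

namespace Cfsg.Agent.Lib.Helper67_AMax4

open MulAction Equiv
open scoped Pointwise
open Cfsg.Agent.Lib.Helper67_AMax1 Cfsg.Agent.Lib.Helper67_AMax2

section Swaps

variable {α : Type*}

theorem nodup4 {a b c d : α} (hab : a ≠ b) (hac : a ≠ c) (had : a ≠ d) (hbc : b ≠ c)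
    (hbd : b ≠ d) (hcd : c ≠ d) : [a, b, c, d].Nodup := by
  simp only [List.nodup_cons, List.mem_cons, List.not_mem_nil, or_false, not_or,
    List.nodup_nil, and_true, not_false_eq_true]
  exact ⟨⟨hab, hac, had⟩, ⟨hbc, hbd⟩, hcd⟩

theorem nodup4_iff {a b c d : α} : [a, b, c, d].Nodup ↔
    a ≠ b ∧ a ≠ c ∧ a ≠ d ∧ b ≠ c ∧ b ≠ d ∧ c ≠ d := by
  simp only [List.nodup_cons, List.mem_cons, List.not_mem_nil, or_false, not_or,
    List.nodup_nil, and_true, not_false_eq_true, ne_eq]
  tauto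

variable [DecidableEq α]

/-- `(ab)(cd) * (ac)(bd) = (ad)(bc)` -/
theorem dt_mul {a b c d : α} (h : [a, b, c, d].Nodup) :
    (swap a b * swap c d) * (swap a c * swap b d) = swap a d * swap b c := by
  obtain ⟨hab, hac, had, hbc, hbd, hcd⟩ := nodup4_iff.mp h
  ext x
  simp only [Equiv.Perm.mul_apply]
  by_cases hxa : x = a
  · subst hxa
    simp [swap_apply_def, hab, hac, had, hbc, hbd, hcd, hab.symm, hac.symm, had.symm, hbc.symm,
      hbd.symm, hcd.symm]
  by_cases hxb : x = b
  · subst hxb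
    simp [swap_apply_def, hab, hac, had, hbc, hbd, hcd, hab.symm, hac.symm, had.symm, hbc.symm,
      hbd.symm, hcd.symm]
  by_cases hxc : x = c
  · subst hxc
    simp [swap_apply_def, hab, hac, had, hbc, hbd, hcd, hab.symm, hac.symm, had.symm, hbc.symm,
      hbd.symm, hcd.symm]
  by_cases hxd : x = d
  · subst hxd
    simp [swap_apply_def, hab, hac, had, hbc, hbd, hcd, hab.symm, hac.symm, had.symm, hbc.symm,
      hbd.symm, hcd.symm]
  simp [swap_apply_def, hxa, hxb, hxc, hxd]


theorem dt_forms {a b c d : α} (h : [a, b, c, d].Nodup) (p q : α)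
    (hp : p = a ∨ p = b ∨ p = c ∨ p = d) (hq : q = a ∨ q = b ∨ q = c ∨ q = d) (hpq : p ≠ q) :
    ∃ r s, [p, q, r, s].Nodup ∧ ({p, q, r, s} : Finset α) = {a, b, c, d} ∧
      (swap p q * swap r s = swap a b * swap c d ∨ swap p q * swap r s = swap a c * swap b d ∨
       swap p q * swap r s = swap a d * swap b c) := by
  obtain ⟨hab, hac, had, hbc, hbd, hcd⟩ := nodup4_iff.mp h
  rcases hp with hp | hp | hp | hp <;> rcases hq with hq | hq | hq | hq <;>
    have hp' := hp.symm <;> have hq' := hq.symm <;> subst hp' <;> subst hq' <;> clear hp hq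
  · exact absurd rfl hpq
  · exact ⟨c, d, nodup4 hab hac had hbc hbd hcd,
      by ext x; simp only [Finset.mem_insert, Finset.mem_singleton]; (try tauto),
      Or.inl (rfl)⟩
  · exact ⟨b, d, nodup4 hac hab had hbc.symm hcd hbd,
      by ext x; simp only [Finset.mem_insert, Finset.mem_singleton]; (try tauto),
      (Or.inr ∘ Or.inl) (rfl)⟩
  · exact ⟨b, c, nodup4 had hab hac hbd.symm hcd.symm hbc,
      by ext x; simp only [Finset.mem_insert, Finset.mem_singleton]; (try tauto),
      (Or.inr ∘ Or.inr) (rfl)⟩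
  · exact ⟨c, d, nodup4 hab.symm hbc hbd hac had hcd,
      by ext x; simp only [Finset.mem_insert, Finset.mem_singleton]; (try tauto),
      Or.inl (by rw [swap_comm b a])⟩
  · exact absurd rfl hpq
  · exact ⟨a, d, nodup4 hbc hab.symm hbd hac.symm hcd had,
      by ext x; simp only [Finset.mem_insert, Finset.mem_singleton]; (try tauto),
      (Or.inr ∘ Or.inr) (by rw [swap_swap_comm (nodup4 hbc hab.symm hbd hac.symm hcd had)])⟩
  · exact ⟨a, c, nodup4 hbd hab.symm hbc had.symm hcd.symm hac,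
      by ext x; simp only [Finset.mem_insert, Finset.mem_singleton]; (try tauto),
      (Or.inr ∘ Or.inl) (by rw [swap_swap_comm (nodup4 hbd hab.symm hbc had.symm hcd.symm hac)])⟩
  · exact ⟨b, d, nodup4 hac.symm hbc.symm hcd hab had hbd,
      by ext x; simp only [Finset.mem_insert, Finset.mem_singleton]; (try tauto),
      (Or.inr ∘ Or.inl) (by rw [swap_comm c a])⟩
  · exact ⟨a, d, nodup4 hbc.symm hac.symm hcd hab.symm hbd had,
      by ext x; simp only [Finset.mem_insert, Finset.mem_singleton]; (try tauto),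
      (Or.inr ∘ Or.inr) (by rw [swap_swap_comm (nodup4 hbc.symm hac.symm hcd hab.symm hbd had), swap_comm c b])⟩
  · exact absurd rfl hpq
  · exact ⟨a, b, nodup4 hcd hac.symm hbc.symm had.symm hbd.symm hab,
      by ext x; simp only [Finset.mem_insert, Finset.mem_singleton]; (try tauto),
      Or.inl (by rw [swap_swap_comm (nodup4 hcd hac.symm hbc.symm had.symm hbd.symm hab)])⟩
  · exact ⟨b, c, nodup4 had.symm hbd.symm hcd.symm hab hac hbc,
      by ext x; simp only [Finset.mem_insert, Finset.mem_singleton]; (try tauto),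
      (Or.inr ∘ Or.inr) (by rw [swap_comm d a])⟩
  · exact ⟨a, c, nodup4 hbd.symm had.symm hcd.symm hab.symm hbc hac,
      by ext x; simp only [Finset.mem_insert, Finset.mem_singleton]; (try tauto),
      (Or.inr ∘ Or.inl) (by rw [swap_swap_comm (nodup4 hbd.symm had.symm hcd.symm hab.symm hbc hac), swap_comm d b])⟩
  · exact ⟨a, b, nodup4 hcd.symm had.symm hbd.symm hac.symm hbc.symm hab,
      by ext x; simp only [Finset.mem_insert, Finset.mem_singleton]; (try tauto),
      Or.inl (by rw [swap_swap_comm (nodup4 hcd.symm had.symm hbd.symm hac.symm hbc.symm hab), swap_comm d c])⟩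
  · exact absurd rfl hpq

theorem swap_commute {x y z t : α} (h : [x, y, z, t].Nodup) : Commute (swap x y) (swap z t) :=
  (Equiv.Perm.disjoint_swap_swap h).commute

variable [Fintype α]

theorem three_cycle_inter_one {p a b c d e f : α} (h1 : [p, a, b, c].Nodup)
    (h2 : [p, d, e, f].Nodup)
    (hx : ∀ x, (x = a ∨ x = b ∨ x = c) → ∀ y, (y = d ∨ y = e ∨ y = f) → x ≠ y) :
    (((swap p a * swap b c) * (swap p d * swap e f)) ^ 2).IsThreeCycle := by
  obtain ⟨hpa, hpb, hpc, hab, hac, hbc⟩ := nodup4_iff.mp h1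
  obtain ⟨hpd, hpe, hpf, hde, hdf, hef⟩ := nodup4_iff.mp h2
  have had := hx a (Or.inl rfl) d (Or.inl rfl)
  have hbd := hx b (Or.inr (Or.inl rfl)) d (Or.inl rfl)
  have hcd := hx c (Or.inr (Or.inr rfl)) d (Or.inl rfl)
  have hae := hx a (Or.inl rfl) e (Or.inr (Or.inl rfl))
  have hbe := hx b (Or.inr (Or.inl rfl)) e (Or.inr (Or.inl rfl))
  have hce := hx c (Or.inr (Or.inr rfl)) e (Or.inr (Or.inl rfl))
  have haf := hx a (Or.inl rfl) f (Or.inr (Or.inr rfl))
  have hbf := hx b (Or.inr (Or.inl rfl)) f (Or.inr (Or.inr rfl))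
  have hcf := hx c (Or.inr (Or.inr rfl)) f (Or.inr (Or.inr rfl))
  have c21 : Commute (swap b c) (swap p a) :=
    swap_commute (nodup4 hbc hpb.symm hab.symm hpc.symm hac.symm hpa)
  have c23 : Commute (swap b c) (swap p d) :=
    swap_commute (nodup4 hbc hpb.symm hbd hpc.symm hcd hpd)
  have c24 : Commute (swap b c) (swap e f) :=
    swap_commute (nodup4 hbc hbe hbf hce hcf hef)
  have c41 : Commute (swap e f) (swap p a) :=
    swap_commute (nodup4 hef hpe.symm hae.symm hpf.symm haf.symm hpa)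
  have c43 : Commute (swap e f) (swap p d) :=
    swap_commute (nodup4 hef hpe.symm hde.symm hpf.symm hdf.symm hpd)
  have e1 : (swap p a * swap b c) * (swap p d * swap e f) =
      (swap p a * swap p d) * (swap b c * swap e f) := by
    rw [mul_assoc, ← mul_assoc (swap b c), c23.eq, mul_assoc, ← mul_assoc]
  have c5 : Commute (swap p a * swap p d) (swap b c * swap e f) :=
    ((c21.symm.mul_left c23.symm)).mul_right (c41.symm.mul_left c43.symm)
  have e2 : (swap b c * swap e f) ^ 2 = 1 := by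
    rw [c24.mul_pow, pow_two, pow_two, swap_mul_self, swap_mul_self, one_mul]
  rw [e1, c5.mul_pow, e2, mul_one, pow_two]
  exact (Equiv.Perm.isThreeCycle_swap_mul_swap_same hpa hpd had).isThreeCycle_sq

theorem three_cycle_inter_three {p q r a b : α} (h1 : [p, q, r, a].Nodup) (hrb : r ≠ b)
    (hab : a ≠ b) :
    ((swap p q * swap r a) * (swap p q * swap r b)).IsThreeCycle := by
  obtain ⟨hpq, hpr, hpa, hqr, hqa, hra⟩ := nodup4_iff.mp h1
  have c1 : Commute (swap p q) (swap r a) := swap_commute h1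
  have e1 : (swap p q * swap r a) * (swap p q * swap r b) = swap r a * swap r b := by
    rw [c1.eq, mul_assoc, ← mul_assoc (swap p q), swap_mul_self, one_mul]
  rw [e1]
  exact Equiv.Perm.isThreeCycle_swap_mul_swap_same hra hrb hab

end Swaps

/-! ### the standard blocks of size four in `Fin (4 * m + 1)` -/

section Blocks

variable {n m : ℕ}

/-- the `j`-th point of the `i`-th block -/
def pt (hn : n = 4 * m + 1) (i : Fin m) (j : Fin 4) : Fin n :=
  ⟨4 * i.val + j.val, by have := i.isLt; have := j.isLt; omega⟩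

theorem pt_val (hn : n = 4 * m + 1) (i : Fin m) (j : Fin 4) :
    (pt hn i j).val = 4 * i.val + j.val := rfl

theorem pt_inj (hn : n = 4 * m + 1) {i i' : Fin m} {j j' : Fin 4} :
    pt hn i j = pt hn i' j' ↔ i = i' ∧ j = j' := by
  constructor
  · intro h
    have h1 := congrArg Fin.val h
    simp only [pt_val] at h1
    have := j.isLt; have := j'.isLt
    constructor <;> ext <;> omega
  · rintro ⟨rfl, rfl⟩; rfl

theorem exists_pt (hn : n = 4 * m + 1) (x : Fin n) (hx : x.val ≠ 4 * m) :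
    ∃ i j, x = pt hn i j := by
  have := x.isLt
  refine ⟨⟨x.val / 4, by omega⟩, ⟨x.val % 4, by omega⟩, ?_⟩
  ext
  simp only [pt_val]
  omega

theorem pt_val_ne (hn : n = 4 * m + 1) (i : Fin m) (j : Fin 4) : (pt hn i j).val ≠ 4 * m := by
  rw [pt_val]; have := i.isLt; have := j.isLt; omega

/-- the `i`-th block -/
def blk (hn : n = 4 * m + 1) (i : Fin m) : Finset (Fin n) := Finset.univ.image (pt hn i)

theorem mem_blk {hn : n = 4 * m + 1} {i : Fin m} {x : Fin n} :
    x ∈ blk hn i ↔ ∃ j, x = pt hn i j := by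
  simp only [blk, Finset.mem_image, Finset.mem_univ, true_and]
  constructor
  · rintro ⟨j, rfl⟩; exact ⟨j, rfl⟩
  · rintro ⟨j, rfl⟩; exact ⟨j, rfl⟩

theorem pt_mem_blk (hn : n = 4 * m + 1) (i : Fin m) (j : Fin 4) : pt hn i j ∈ blk hn i :=
  mem_blk.mpr ⟨j, rfl⟩

theorem pt_mem_blk_iff (hn : n = 4 * m + 1) {i i' : Fin m} {j : Fin 4} :
    pt hn i' j ∈ blk hn i ↔ i' = i := by
  rw [mem_blk]
  constructor
  · rintro ⟨j', h⟩; exact ((pt_inj hn).mp h).1
  · rintro rfl; exact ⟨j, rfl⟩

theorem card_blk (hn : n = 4 * m + 1) (i : Fin m) : (blk hn i).card = 4 := by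
  rw [blk, Finset.card_image_of_injective _ (fun j j' h => ((pt_inj hn).mp h).2)]
  simp

theorem mem_blk_cases {hn : n = 4 * m + 1} {i : Fin m} {x : Fin n} (hx : x ∈ blk hn i) :
    x = pt hn i 0 ∨ x = pt hn i 1 ∨ x = pt hn i 2 ∨ x = pt hn i 3 := by
  obtain ⟨j, rfl⟩ := mem_blk.mp hx
  fin_cases j <;> simp

theorem pt_nodup (hn : n = 4 * m + 1) (i : Fin m) :
    [pt hn i 0, pt hn i 1, pt hn i 2, pt hn i 3].Nodup := by
  apply nodup4 <;> · rw [Ne, pt_inj]; simp

theorem blk_eq (hn : n = 4 * m + 1) (i : Fin m) :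
    blk hn i = {pt hn i 0, pt hn i 1, pt hn i 2, pt hn i 3} := by
  ext x
  simp only [Finset.mem_insert, Finset.mem_singleton]
  constructor
  · exact mem_blk_cases
  · rintro (rfl | rfl | rfl | rfl) <;> exact pt_mem_blk hn i _

theorem pt_nodup' (hn : n = 4 * m + 1) {i i' : Fin m} (hii : i ≠ i') {j1 j2 j1' j2' : Fin 4}
    (h : j1 ≠ j2) (h' : j1' ≠ j2') :
    [pt hn i j1, pt hn i j2, pt hn i' j1', pt hn i' j2'].Nodup := by
  apply nodup4 <;> · rw [Ne, pt_inj]; simp [hii, h, h']

/-- the three double transpositions on the `i`-th block -/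
def uu (hn : n = 4 * m + 1) (i : Fin m) : Perm (Fin n) :=
  swap (pt hn i 0) (pt hn i 1) * swap (pt hn i 2) (pt hn i 3)

def vv (hn : n = 4 * m + 1) (i : Fin m) : Perm (Fin n) :=
  swap (pt hn i 0) (pt hn i 2) * swap (pt hn i 1) (pt hn i 3)

def ww (hn : n = 4 * m + 1) (i : Fin m) : Perm (Fin n) :=
  swap (pt hn i 0) (pt hn i 3) * swap (pt hn i 1) (pt hn i 2)

theorem uu_mul_vv (hn : n = 4 * m + 1) (i : Fin m) : uu hn i * vv hn i = ww hn i :=
  dt_mul (pt_nodup hn i)

theorem vv_mul_uu (hn : n = 4 * m + 1) (i : Fin m) : vv hn i * uu hn i = ww hn i := by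
  obtain ⟨h01, h02, h03, h12, h13, h23⟩ := nodup4_iff.mp (pt_nodup hn i)
  have := dt_mul (nodup4 h02 h01 h03 h12.symm h23 h13)
  rw [uu, vv, ww, this, swap_comm (pt hn i 2) (pt hn i 1)]

theorem dswap_commute {α : Type*} [DecidableEq α] {a b c d a' b' c' d' : α}
    (h1 : [a, b, a', b'].Nodup) (h2 : [a, b, c', d'].Nodup)
    (h3 : [c, d, a', b'].Nodup) (h4 : [c, d, c', d'].Nodup) :
    Commute (swap a b * swap c d) (swap a' b' * swap c' d') :=
  ((swap_commute h1).mul_right (swap_commute h2)).mul_left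
    ((swap_commute h3).mul_right (swap_commute h4))

/-- the generating set -/
def genSet (hn : n = 4 * m + 1) : Set (Perm (Fin n)) := {σ | ∃ i, σ = uu hn i ∨ σ = vv hn i}

/-- the elementary abelian group generated by the double transpositions on the blocks -/
def EE (hn : n = 4 * m + 1) : Subgroup (Perm (Fin n)) := Subgroup.closure (genSet hn)

theorem genSet_comm (hn : n = 4 * m + 1) :
    ∀ x ∈ genSet hn, ∀ y ∈ genSet hn, x * y = y * x := by
  rintro x ⟨i, hx⟩ y ⟨i', hy⟩
  by_cases hii : i = i'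
  · subst hii
    rcases hx with rfl | rfl <;> rcases hy with rfl | rfl
    · rfl
    · rw [uu_mul_vv, vv_mul_uu]
    · rw [uu_mul_vv, vv_mul_uu]
    · rfl
  · rcases hx with rfl | rfl <;> rcases hy with rfl | rfl
    all_goals
      refine (dswap_commute ?_ ?_ ?_ ?_).eq <;>
      · apply pt_nodup' hn hii <;> decide

theorem genSet_sq (hn : n = 4 * m + 1) : ∀ x ∈ genSet hn, x * x = 1 := by
  rintro x ⟨i, hx⟩
  obtain ⟨h01, h02, h03, h12, h13, h23⟩ := nodup4_iff.mp (pt_nodup hn i)
  rcases hx with rfl | rfl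
  · have c := swap_commute (pt_nodup hn i)
    rw [uu, c.symm.mul_mul_mul_comm, swap_mul_self, swap_mul_self, one_mul]
  · have c := swap_commute (nodup4 h02 h01 h03 h12.symm h23 h13)
    rw [vv, c.symm.mul_mul_mul_comm, swap_mul_self, swap_mul_self, one_mul]

theorem EE_comm (hn : n = 4 * m + 1) : ∀ x ∈ EE hn, ∀ y ∈ EE hn, x * y = y * x := by
  intro x hx y hy
  have := Subgroup.isMulCommutative_closure (genSet_comm hn)
  have h2 := mul_comm' (⟨x, hx⟩ : Subgroup.closure (genSet hn)) ⟨y, hy⟩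
  exact congrArg Subtype.val h2

theorem EE_sq (hn : n = 4 * m + 1) : ∀ x ∈ EE hn, x * x = 1 := by
  intro x hx
  induction hx using Subgroup.closure_induction with
  | mem x hx => exact genSet_sq hn x hx
  | one => simp
  | mul x y hx hy ihx ihy =>
    have c : Commute x y := EE_comm hn x hx y hy
    rw [c.symm.mul_mul_mul_comm, ihx, ihy, one_mul]
  | inv x hx ih =>
    rw [← mul_inv_rev, ih, inv_one]

theorem EE_isPGroup (hn : n = 4 * m + 1) : IsPGroup 2 (EE hn) := by
  intro x
  refine ⟨1, ?_⟩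
  rw [pow_one, pow_two]
  exact Subtype.ext (EE_sq hn x.1 x.2)

theorem uu_mem (hn : n = 4 * m + 1) (i : Fin m) : uu hn i ∈ EE hn :=
  Subgroup.subset_closure ⟨i, Or.inl rfl⟩

theorem vv_mem (hn : n = 4 * m + 1) (i : Fin m) : vv hn i ∈ EE hn :=
  Subgroup.subset_closure ⟨i, Or.inr rfl⟩

theorem ww_mem (hn : n = 4 * m + 1) (i : Fin m) : ww hn i ∈ EE hn := by
  rw [← uu_mul_vv]; exact (EE hn).mul_mem (uu_mem hn i) (vv_mem hn i)

end Blocks

end Cfsg.Agent.Lib.Helper67_AMax4
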