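import Mathlib
import Cfsg.Agent.Lib.Helper67_AMax4

/-!
Helper67_AMax5: the generic "if" direction for S2245: for `n = 2 ^ k + 1` a Sylow 2-subgroup lies
in a unique maximal subgroup (a point stabilizer).
-/

set_option autoImplicit false
set_option linter.unusedSimpArgs false

namespace Cfsg.Agent.Lib.Helper67_AMax5

open MulAction Equiv
open scoped Pointwise
open Cfsg.Agent.Lib.Helper67_AMax1 Cfsg.Agent.Lib.Helper67_AMax2 Cfsg.Agent.Lib.Helper67_AMax4

section Generic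

variable {n m : ℕ} {G : Type*} [Group G] [MulAction G (Fin n)]

/-- `M` contains (elements acting as) all double transpositions on the 4-set `D` -/
def HasDT (M : Subgroup G) (D : Finset (Fin n)) : Prop :=
  ∀ p ∈ D, ∀ q ∈ D, p ≠ q → ∃ g ∈ M, ∃ r s, D = {p, q, r, s} ∧ [p, q, r, s].Nodup ∧
    toPermHom G (Fin n) g = swap p q * swap r s

theorem hasDT_blk (h : Amb n G) (hn : n = 4 * m + 1) (M : Subgroup G)
    (hM : (EE hn).comap (toPermHom G (Fin n)) ≤ M) (i : Fin m) : HasDT M (blk hn i) := by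
  intro p hp q hq hpq
  obtain ⟨r, s, hnd, hset, hform⟩ := dt_forms (pt_nodup hn i) p q (mem_blk_cases hp)
    (mem_blk_cases hq) hpq
  have hmemE : swap p q * swap r s ∈ EE hn := by
    rcases hform with e | e | e <;> rw [e]
    · exact uu_mem hn i
    · exact vv_mem hn i
    · exact ww_mem hn i
  obtain ⟨hpq', -, -, -, -, hrs⟩ := nodup4_iff.mp hnd
  obtain ⟨g, hg⟩ := h.alt _ (dswap_mem_alt hpq' hrs)
  refine ⟨g, hM (by rw [Subgroup.mem_comap, hg]; exact hmemE), r, s, ?_, hnd, hg⟩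
  rw [hset, blk_eq]

theorem hasDT_smul (M : Subgroup G) (D : Finset (Fin n)) (hD : HasDT M D) (g : G) (hg : g ∈ M) :
    HasDT M (D.image (fun x => g • x)) := by
  intro p hp q hq hpq
  rw [Finset.mem_image] at hp hq
  obtain ⟨p₀, hp₀, rfl⟩ := hp
  obtain ⟨q₀, hq₀, rfl⟩ := hq
  have hpq₀ : p₀ ≠ q₀ := fun e => hpq (by rw [e])
  obtain ⟨k, hk, r₀, s₀, hset, hnd, hk'⟩ := hD p₀ hp₀ q₀ hq₀ hpq₀
  refine ⟨g * k * g⁻¹, M.mul_mem (M.mul_mem hg hk) (M.inv_mem hg), g • r₀, g • s₀, ?_, ?_, ?_⟩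
  · rw [hset]
    simp only [Finset.image_insert, Finset.image_singleton]
  · exact List.Nodup.map (MulAction.injective g) hnd
  · rw [map_mul, map_mul, map_inv, hk']
    show toPermHom G (Fin n) g * (swap p₀ q₀ * swap r₀ s₀) * (toPermHom G (Fin n) g)⁻¹ =
      swap (toPermHom G (Fin n) g p₀) (toPermHom G (Fin n) g q₀) *
        swap (toPermHom G (Fin n) g r₀) (toPermHom G (Fin n) g s₀)
    rw [swap_apply_apply, swap_apply_apply]
    group

theorem normalize_dt {p q r s c : Fin n} {D : Finset (Fin n)} (hD : D = {p, q, r, s})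
    (hnd : [p, q, r, s].Nodup) (hc : c ∈ D) (hcp : c ≠ p) (hcq : c ≠ q) :
    ∃ o, [p, q, c, o].Nodup ∧ D = {p, q, c, o} ∧ swap p q * swap r s = swap p q * swap c o := by
  obtain ⟨hpq, hpr, hps, hqr, hqs, hrs⟩ := nodup4_iff.mp hnd
  rw [hD] at hc
  simp only [Finset.mem_insert, Finset.mem_singleton] at hc
  rcases hc with hc | hc | hc | hc
  · exact absurd hc hcp
  · exact absurd hc hcq
  · subst hc
    exact ⟨s, hnd, hD, rfl⟩
  · subst hc
    refine ⟨r, nodup4 hpq hps hpr hqs hqr hrs.symm, ?_, by rw [swap_comm r c]⟩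
    rw [hD]
    ext x
    simp only [Finset.mem_insert, Finset.mem_singleton]
    tauto

theorem exists_three_cycle_of_hasDT (M : Subgroup G) (D₁ D₂ : Finset (Fin n))
    (h1 : HasDT M D₁) (h2 : HasDT M D₂) (c1 : D₁.card = 4) (c2 : D₂.card = 4)
    (hi : (D₁ ∩ D₂).card = 1 ∨ (D₁ ∩ D₂).card = 3) :
    ∃ g ∈ M, (toPermHom G (Fin n) g).IsThreeCycle := by
  rcases hi with hi | hi
  · obtain ⟨p, hp⟩ := Finset.card_eq_one.mp hi
    have hpm : p ∈ D₁ ∩ D₂ := by rw [hp]; exact Finset.mem_singleton_self p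
    have hp1 : p ∈ D₁ := (Finset.mem_inter.mp hpm).1
    have hp2 : p ∈ D₂ := (Finset.mem_inter.mp hpm).2
    obtain ⟨q₁, hq₁, hq₁p⟩ := Finset.exists_mem_ne (by omega : 1 < D₁.card) p
    obtain ⟨q₂, hq₂, hq₂p⟩ := Finset.exists_mem_ne (by omega : 1 < D₂.card) p
    obtain ⟨g₁, hg₁, r₁, s₁, hset₁, hnd₁, hφ₁⟩ := h1 p hp1 q₁ hq₁ hq₁p.symm
    obtain ⟨g₂, hg₂, r₂, s₂, hset₂, hnd₂, hφ₂⟩ := h2 p hp2 q₂ hq₂ hq₂p.symm
    refine ⟨(g₁ * g₂) ^ 2, M.pow_mem (M.mul_mem hg₁ hg₂) 2, ?_⟩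
    rw [map_pow, map_mul, hφ₁, hφ₂]
    apply three_cycle_inter_one hnd₁ hnd₂
    intro x hx y hy hxy
    obtain ⟨hpq₁, hpr₁, hps₁, -, -, -⟩ := nodup4_iff.mp hnd₁
    have hx1 : x ∈ D₁ := by
      rw [hset₁]; simp only [Finset.mem_insert, Finset.mem_singleton]; tauto
    have hy2 : y ∈ D₂ := by
      rw [hset₂]; simp only [Finset.mem_insert, Finset.mem_singleton]; tauto
    have hxp : x = p := by
      have : x ∈ D₁ ∩ D₂ := Finset.mem_inter.mpr ⟨hx1, hxy ▸ hy2⟩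
      rw [hp] at this
      exact Finset.mem_singleton.mp this
    rcases hx with e | e | e
    · exact hpq₁ (by rw [← hxp, e])
    · exact hpr₁ (by rw [← hxp, e])
    · exact hps₁ (by rw [← hxp, e])
  · obtain ⟨p, q, c, hpq, hpc, hqc, hset⟩ := Finset.card_eq_three.mp hi
    have hmem : ∀ x, x ∈ D₁ ∩ D₂ ↔ x = p ∨ x = q ∨ x = c := by
      intro x; rw [hset]; simp only [Finset.mem_insert, Finset.mem_singleton]
    have hp12 := Finset.mem_inter.mp ((hmem p).mpr (Or.inl rfl))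
    have hq12 := Finset.mem_inter.mp ((hmem q).mpr (Or.inr (Or.inl rfl)))
    have hc12 := Finset.mem_inter.mp ((hmem c).mpr (Or.inr (Or.inr rfl)))
    obtain ⟨g₁, hg₁, r₁, s₁, hset₁, hnd₁, hφ₁⟩ := h1 p hp12.1 q hq12.1 hpq
    obtain ⟨g₂, hg₂, r₂, s₂, hset₂, hnd₂, hφ₂⟩ := h2 p hp12.2 q hq12.2 hpq
    obtain ⟨o₁, hn1, hD1, e1⟩ := normalize_dt hset₁ hnd₁ hc12.1 hpc.symm hqc.symm
    obtain ⟨o₂, hn2, hD2, e2⟩ := normalize_dt hset₂ hnd₂ hc12.2 hpc.symm hqc.symm
    obtain ⟨-, -, hpo₁, -, hqo₁, hco₁⟩ := nodup4_iff.mp hn1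
    obtain ⟨-, -, hpo₂, -, hqo₂, hco₂⟩ := nodup4_iff.mp hn2
    refine ⟨g₁ * g₂, M.mul_mem hg₁ hg₂, ?_⟩
    rw [map_mul, hφ₁, hφ₂, e1, e2]
    apply three_cycle_inter_three hn1 hco₂
    intro e
    have ho : o₁ ∈ D₁ ∩ D₂ := by
      rw [Finset.mem_inter]
      constructor
      · rw [hD1]; simp
      · rw [hD2, e]; simp
    rcases (hmem o₁).mp ho with e' | e' | e'
    · exact hpo₁ e'.symm
    · exact hqo₁ e'.symm
    · exact hco₁ e'.symm

theorem exists_three_cycle (h : Amb n G) (hn : n = 4 * m + 1) (hm : 0 < m) (M : Subgroup G)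
    (hQ : (EE hn).comap (toPermHom G (Fin n)) ≤ M)
    (htr : ∀ x y : Fin n, ∃ g ∈ M, g • x = y) :
    ∃ g ∈ M, (toPermHom G (Fin n) g).IsThreeCycle := by
  classical
  let a' : Fin n := ⟨4 * m, by omega⟩
  let i₀ : Fin m := ⟨0, hm⟩
  obtain ⟨g, hg, hga⟩ := htr (pt hn i₀ 0) a'
  set D' := (blk hn i₀).image (fun x => g • x) with hD'
  have hDT' : HasDT M D' := hasDT_smul M _ (hasDT_blk h hn M hQ i₀) g hg
  have hc' : D'.card = 4 := by
    rw [Finset.card_image_of_injective _ (MulAction.injective g), card_blk]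
  have ha' : a' ∈ D' := Finset.mem_image.mpr ⟨_, pt_mem_blk hn i₀ 0, hga⟩
  let f : Fin n → Fin m := fun x => if hx : x.val < 4 * m then ⟨x.val / 4, by omega⟩ else i₀
  have hf : ∀ i j, f (pt hn i j) = i := by
    intro i j
    have h1 : (pt hn i j).val < 4 * m := by
      rw [pt_val]; have := i.isLt; have := j.isLt; omega
    simp only [f, dif_pos h1]
    ext
    simp only [pt_val]
    have := j.isLt
    omega
  have hcard : (D'.erase a').card = 3 := by rw [Finset.card_erase_of_mem ha', hc']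
  have hsum := Finset.card_eq_sum_card_fiberwise (f := f) (s := D'.erase a')
    (t := Finset.univ) (fun x _ => Finset.mem_coe.mpr (Finset.mem_univ _))
  have hfib : ∀ i, (D'.erase a').filter (fun x => f x = i) = D' ∩ blk hn i := by
    intro i
    ext x
    simp only [Finset.mem_filter, Finset.mem_erase, Finset.mem_inter]
    constructor
    · rintro ⟨⟨hxa, hxD⟩, hfx⟩
      refine ⟨hxD, ?_⟩
      obtain ⟨i', j', rfl⟩ := exists_pt hn x (fun e => hxa (Fin.ext e))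
      rw [hf] at hfx
      rw [pt_mem_blk_iff]; exact hfx
    · rintro ⟨hxD, hxb⟩
      obtain ⟨j, rfl⟩ := mem_blk.mp hxb
      refine ⟨⟨fun e => pt_val_ne hn i j (congrArg Fin.val e), hxD⟩, hf i j⟩
  obtain ⟨i, hi⟩ : ∃ i, Odd ((D' ∩ blk hn i).card) := by
    by_contra hcon
    push Not at hcon
    have hev : Even (∑ i, ((D'.erase a').filter (fun x => f x = i)).card) :=
      Finset.even_sum _ (fun i _ => by rw [hfib]; exact Nat.not_odd_iff_even.mp (hcon i))
    rw [← hsum, hcard] at hev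
    exact absurd hev (by decide)
  have hle : (D' ∩ blk hn i).card ≤ 3 := by
    rw [← hfib, ← hcard]; exact Finset.card_filter_le _ _
  have h13 : (D' ∩ blk hn i).card = 1 ∨ (D' ∩ blk hn i).card = 3 := by
    obtain ⟨k, hk⟩ := hi; omega
  exact exists_three_cycle_of_hasDT M D' (blk hn i) hDT' (hasDT_blk h hn M hQ i) hc'
    (card_blk hn i) h13

end Generic

end Cfsg.Agent.Lib.Helper67_AMax5
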