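import Mathlib
import Cfsg.Agent.Lib.Helper67_AMax3
import Cfsg.Agent.Lib.Helper67_AMax5

/-!
Helper67_AMax6: the generic main theorem for S2245 (`G` a finite group acting on `Fin n` and
satisfying `Amb n G`): a Sylow 2-subgroup of `G` lies in a unique maximal subgroup iff
`n = 2 ^ k + 1` with `k ≥ 2`.
-/

set_option autoImplicit false

namespace Cfsg.Agent.Lib.Helper67_AMax6

open MulAction Equiv
open scoped Pointwise
open Cfsg.Agent.Lib.Helper67_AMax1 Cfsg.Agent.Lib.Helper67_AMax2 Cfsg.Agent.Lib.Helper67_AMax3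
  Cfsg.Agent.Lib.Helper67_AMax4 Cfsg.Agent.Lib.Helper67_AMax5

theorem unique_coatom_conj {G : Type*} [Group G] (R : Subgroup G) (g : G)
    (hU : ∃! M : Subgroup G, IsCoatom M ∧ R ≤ M) :
    ∃! M : Subgroup G, IsCoatom M ∧ (MulAut.conj g • R) ≤ M := by
  set e := (MulAut.conj g).mapSubgroup with he
  have hsm : MulAut.conj g • R = e R := rfl
  rw [hsm]
  obtain ⟨M, ⟨hM, hRM⟩, huniq⟩ := hU
  refine ⟨e M, ⟨(e.isCoatom_iff M).mpr hM, e.monotone hRM⟩, ?_⟩
  rintro M' ⟨hM', hRM'⟩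
  have h1 : IsCoatom (e.symm M') := (e.symm.isCoatom_iff M').mpr hM'
  have h2 : R ≤ e.symm M' := (e.le_symm_apply).mpr hRM'
  have := huniq (e.symm M') ⟨h1, h2⟩
  rw [← this, OrderIso.apply_symm_apply]

section Generic

variable {n : ℕ} {G : Type*} [Group G] [MulAction G (Fin n)]

theorem inv_card [Finite G] (h : Amb n G) {k : ℕ} (hnk : n = 2 ^ k + 1) (R : Sylow 2 G)
    (s : Set (Fin n)) (hs : (R : Subgroup G) ≤ stabilizer G s) :
    s.ncard = 0 ∨ s.ncard = 1 ∨ s.ncard = 2 ^ k ∨ s.ncard = n := by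
  have hodd := odd_choose_of_invariant h R s hs
  have hle : s.ncard ≤ n := by
    have := Set.ncard_le_card s
    rwa [Nat.card_fin] at this
  by_contra hcon
  push Not at hcon
  have h2 : 2 ≤ s.ncard := by omega
  have h3 : s.ncard + 1 ≤ 2 ^ k := by omega
  have hev := even_choose_two_pow_succ h2 h3
  rw [← hnk] at hev
  exact (Nat.not_even_iff_odd.mpr hodd) hev

theorem backward_exists [Finite G] (h : Amb n G) {k : ℕ} (hk : 2 ≤ k) (hnk : n = 2 ^ k + 1) :
    ∃ R₀ : Sylow 2 G, ∃! M : Subgroup G, IsCoatom M ∧ (R₀ : Subgroup G) ≤ M := by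
  classical
  have : Fact (Nat.Prime 2) := ⟨Nat.prime_two⟩
  obtain ⟨m, hm4⟩ : ∃ m, 2 ^ k = 4 * m := by
    refine ⟨2 ^ (k - 2), ?_⟩
    conv_lhs => rw [show k = 2 + (k - 2) by omega, pow_add]
    norm_num
  have h4 : 4 ≤ 2 ^ k := by
    have : 2 ^ 2 ≤ 2 ^ k := Nat.pow_le_pow_right (by norm_num) hk
    omega
  have hn : n = 4 * m + 1 := by omega
  have hm : 0 < m := by omega
  have hQp : IsPGroup 2 ((EE hn).comap (toPermHom G (Fin n))) :=
    (EE_isPGroup hn).comap_of_injective _ h.inj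
  obtain ⟨R₀, hQR⟩ := hQp.exists_le_sylow
  refine ⟨R₀, ?_⟩
  have hRp : IsPGroup 2 (R₀ : Subgroup G) := R₀.isPGroup'
  have hnodd : ¬ 2 ∣ Nat.card (Fin n) := by rw [Nat.card_fin, hn]; omega
  obtain ⟨a', ha'⟩ := hRp.nonempty_fixed_point_of_prime_not_dvd_card (Fin n) hnodd
  have hfix : ∀ g ∈ (R₀ : Subgroup G), g • a' = a' := fun g hg => ha' ⟨g, hg⟩
  have hM₀ : IsCoatom (stabilizer G ({a'} : Set (Fin n))) :=
    h.coatom _ (Set.singleton_nonempty _) (by
      obtain ⟨x, hx⟩ := exists_notMem ({a'} : Finset (Fin n)) (by simp; omega)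
      exact ⟨x, by simpa using hx⟩) (by simp; omega)
  have hRa : (R₀ : Subgroup G) ≤ stabilizer G ({a'} : Set (Fin n)) := by
    intro g hg
    rw [stabilizer_singleton, mem_stabilizer_iff]
    exact hfix g hg
  refine ⟨_, ⟨hM₀, hRa⟩, ?_⟩
  rintro M ⟨hM, hRM⟩
  by_contra hne
  have hMidx : ¬ 2 ∣ M.index := fun hd =>
    R₀.not_dvd_index (hd.trans (Subgroup.index_dvd_of_le hRM))
  obtain ⟨g₀, hg₀, hg₀a⟩ : ∃ g₀ ∈ M, g₀ • a' ≠ a' := by
    by_contra hcon
    push Not at hcon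
    have hle : M ≤ stabilizer G ({a'} : Set (Fin n)) := fun g hg => by
      rw [stabilizer_singleton, mem_stabilizer_iff]; exact hcon g hg
    rcases eq_or_lt_of_le hle with e | hlt
    · exact hne e
    · exact hM₀.1 (hM.2 _ hlt)
  -- `R₀`-invariant sets through `a'` with at least two elements are everything
  have key : ∀ X : Set (Fin n), (R₀ : Subgroup G) ≤ stabilizer G X → a' ∈ X → 2 ≤ X.ncard →
      X = Set.univ := by
    intro X hX haX h2
    have hc := inv_card h hnk R₀ X hX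
    have hX' : (R₀ : Subgroup G) ≤ stabilizer G (X \ {a'}) := by
      intro g hg
      rw [mem_stabilizer_iff, Set.smul_set_sdiff, mem_stabilizer_iff.mp (hX hg),
        mem_stabilizer_iff.mp (hRa hg)]
    have hc' := inv_card h hnk R₀ (X \ {a'}) hX'
    have hcard : (X \ {a'}).ncard = X.ncard - 1 := Set.ncard_sdiff_singleton_of_mem haX
    rw [Set.eq_univ_iff_ncard, Nat.card_fin]
    omega
  -- `M` is transitive
  have hRO : (R₀ : Subgroup G) ≤ stabilizer G (orbit M a') := by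
    intro g hg
    rw [mem_stabilizer_iff]
    exact smul_orbit (⟨g, hRM hg⟩ : M) a'
  have hO : orbit M a' = Set.univ := by
    apply key _ hRO (mem_orbit_self a')
    have h1 : (1 : ℕ) < (orbit M a').ncard := by
      rw [Set.one_lt_ncard]
      exact ⟨a', mem_orbit_self a', g₀ • a', ⟨⟨g₀, hg₀⟩, rfl⟩, fun e => hg₀a e.symm⟩
    omega
  have htr : ∀ x y : Fin n, ∃ g ∈ M, g • x = y := by
    intro x y
    have hx : x ∈ orbit M a' := by rw [hO]; trivial
    have hy : y ∈ orbit M a' := by rw [hO]; trivial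
    obtain ⟨⟨g₁, hg₁⟩, rfl⟩ := hx
    obtain ⟨⟨g₂, hg₂⟩, rfl⟩ := hy
    refine ⟨g₂ * g₁⁻¹, M.mul_mem hg₂ (M.inv_mem hg₁), ?_⟩
    show (g₂ * g₁⁻¹) • (g₁ • a') = g₂ • a'
    rw [smul_smul, inv_mul_cancel_right]
  have htrans : IsPretransitive M (Fin n) := by
    refine ⟨fun x y => ?_⟩
    obtain ⟨g, hg, hgx⟩ := htr x y
    exact ⟨⟨g, hg⟩, hgx⟩
  have hprim : IsPreprimitive M (Fin n) := by
    apply IsPreprimitive.of_isTrivialBlock_base a'
    intro B haB hB
    have hRB : (R₀ : Subgroup G) ≤ stabilizer G B := by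
      intro g hg
      rw [mem_stabilizer_iff]
      rcases (isBlock_iff_smul_eq_or_disjoint.mp hB) ⟨g, hRM hg⟩ with h1 | h1
      · exact h1
      · exfalso
        have : g • a' ∈ g • B := Set.smul_mem_smul_set haB
        rw [hfix g hg] at this
        exact Set.disjoint_left.mp h1 this haB
    by_cases hsub : B.Subsingleton
    · exact Or.inl hsub
    · right
      apply key B hRB haB
      have : 1 < B.ncard := by
        rw [Set.one_lt_ncard_iff_nontrivial]
        exact Set.not_subsingleton_iff.mp hsub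
      omega
  obtain ⟨g, hg, h3⟩ := exists_three_cycle h hn hm M (hQR.trans hRM) htr
  exact hM.1 (h.jordan M hprim ⟨g, hg, h3⟩ hMidx)

theorem main [Finite G] (hn : 5 ≤ n) (h : Amb n G) (R : Sylow 2 G) :
    (∃! M : Subgroup G, IsCoatom M ∧ (R : Subgroup G) ≤ M) ↔ ∃ k, 2 ≤ k ∧ n = 2 ^ k + 1 := by
  have : Fact (Nat.Prime 2) := ⟨Nat.prime_two⟩
  constructor
  · exact forward hn h R
  · rintro ⟨k, hk, hnk⟩
    obtain ⟨R₀, hR₀⟩ := backward_exists h hk hnk
    obtain ⟨g, rfl⟩ := MulAction.exists_smul_eq G R₀ R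
    have e : ((g • R₀ : Sylow 2 G) : Subgroup G) = MulAut.conj g • (R₀ : Subgroup G) := by
      rw [Sylow.smul_def, Sylow.pointwise_smul_def]
    simp only [e]
    exact unique_coatom_conj _ g hR₀

end Generic

end Cfsg.Agent.Lib.Helper67_AMax6
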