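import Cfsg.Agent.Lib.Helper69_AppCDefs

/-!
# B-G Appendix C, package PK-8 (iteration): `TriStmt → EInvStmt`

`φ w := (τ 3 w)⁻¹` maps `E_U` to itself (by the `E`-triangle), and `φ^p w = w⁻¹` because `t^(3p) = 1`
and `p` is odd.
-/

set_option autoImplicit false
set_option linter.unusedSectionVars false

namespace Cfsg.Agent.Lib.Helper67_AppC_PK8

open Cfsg.Agent.Lib.Helper69_AppCDefs

variable {G : Type*} [Group G] [Finite G] {F : Type*} [Field F] {p : ℕ}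

/-- membership in `E_U` -/
def InE (c : Cfg G F p) (w : G) : Prop := w ∈ c.U ∧ ∃ w' ∈ c.U, c.ψ w' + c.ψ w = 2

/-- the map `φ w = (τ 3 w)⁻¹` -/
def phi (c : Cfg G F p) (w : G) : G := (c.τ 3 w)⁻¹

theorem tau_inv (c : Cfg G F p) (k : ℤ) (u : G) : c.τ k u⁻¹ = (c.τ k u)⁻¹ := by
  unfold Cfg.τ; group

theorem phi_phi (c : Cfg G F p) (w : G) : phi c (phi c w) = c.τ 6 w := by
  unfold phi
  rw [tau_inv, inv_inv, c.τ_τ]
  norm_num

theorem phi_iter_even (c : Cfg G F p) (w : G) (n : ℕ) :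
    (phi c)^[2 * n] w = c.τ (6 * (n : ℤ)) w := by
  induction n with
  | zero => simp [c.τ_zero]
  | succ n ih =>
    have e : 2 * (n + 1) = (2 * n).succ.succ := by omega
    rw [e, Function.iterate_succ_apply', Function.iterate_succ_apply', ih, phi_phi, c.τ_τ]
    congr 1
    push_cast
    ring

theorem phi_iter_odd (c : Cfg G F p) (w : G) (n : ℕ) :
    (phi c)^[2 * n + 1] w = (c.τ (3 * ((2 * n + 1 : ℕ) : ℤ)) w)⁻¹ := by
  rw [Function.iterate_succ_apply', phi_iter_even]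
  unfold phi
  rw [c.τ_τ]
  congr 2
  push_cast
  ring

theorem tau_three_p (c : Cfg G F p) (w : G) : c.τ (3 * (p : ℤ)) w = w := by
  unfold Cfg.τ
  have h : c.t ^ (3 * (p : ℤ)) = 1 := by
    rw [mul_comm, zpow_mul, zpow_natCast, c.t_pow_p, one_zpow]
  rw [h]; group

theorem phi_mem (c : Cfg G F p) (hT : c.TriStmt) {w : G} (hw : InE c w) : InE c (phi c w) := by
  obtain ⟨hwU, w', hw'U, hsum⟩ := hw
  obtain ⟨w₃, hw₃U, h₃⟩ := hT w' hw'U w hwU hsum
  have hτ : c.τ 3 w ∈ c.U := c.τ_mem hwU 3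
  refine ⟨c.U.inv_mem hτ, w₃ * (c.τ 3 w)⁻¹, c.U.mul_mem hw₃U (c.U.inv_mem hτ), ?_⟩
  unfold phi
  rw [c.ψ_mul _ hw₃U _ (c.U.inv_mem hτ), c.ψ_inv hτ, ← h₃]
  have hne : c.ψ (c.τ 3 w) ≠ 0 := c.ψ_ne _ hτ
  field_simp
  ring

theorem phi_iter_mem (c : Cfg G F p) (hT : c.TriStmt) {w : G} (hw : InE c w) (n : ℕ) :
    InE c ((phi c)^[n] w) := by
  induction n with
  | zero => simpa using hw
  | succ n ih =>
    rw [Function.iterate_succ_apply']
    exact phi_mem c hT ih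

/-- PK-8. -/
theorem PK8 (c : Cfg G F p) (hT : c.TriStmt) : c.EInvStmt := by
  intro w hw hex
  have hE : InE c w := ⟨hw, hex⟩
  obtain ⟨n, hn⟩ := c.hp.odd_of_ne_two c.hp2
  have h1 := phi_iter_mem c hT hE (2 * n + 1)
  rw [phi_iter_odd, ← hn, tau_three_p] at h1
  exact h1.2

end Cfsg.Agent.Lib.Helper67_AppC_PK8
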