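import Mathlib
import Cfsg.Prelude.Def_GeometricClasses
import Cfsg.Prelude.Def_LieClassical
import Cfsg.Agent.Lib.Helper94_Bridge
import Cfsg.Agent.Lib.Helper94_SLBridge
import Cfsg.Agent.Lib.Helper94_HermBridge
import Cfsg.Agent.Lib.Helper67_Fr10Main

set_option autoImplicit false

/-!
# Unitary decomposition stabilisers are maximal in `SU_n(q)`: prelude form, with the bound
`13 ≤ n` of S5655 needed only for blocks of dimension one and relaxed there to `9 ≤ n`, `4 ∤ n`
(helper67; the bridge is copied from `Cfsg/Agent/S5655.lean` of helper83).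
-/

namespace Cfsg.Agent.Lib.Helper67_Fr10Bridge

open Cfsg.Agent.Lib.Helper94_Symp Cfsg.Agent.Lib.Helper94_Bridge Cfsg.Agent.Lib.Helper94_SLBridge
  Cfsg.Agent.Lib.Helper94_Herm Cfsg.Agent.Lib.Helper94_HermBridge
  Cfsg.Agent.Lib.Helper13_PSUSimple Cfsg.Agent.Lib.Helper67_Fr10Main

/-- Let `F` be the field with `q²` elements. Let `D` be a decomposition of `F^n` into `t ≥ 2`
pairwise orthogonal non-degenerate subspaces of equal dimension `k` spanning `F^n`; if `k = 1`
assume `9 ≤ n` and `4 ∤ n`. Unless `k = 2` and `q = 2`, the elements of `SU_n(q)` permuting the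
members of `D` form a maximal subgroup of `SU_n(q)`. -/
theorem decomp_maximal9 {F : Type*} [Field F] [Fintype F] (n q : ℕ)
    (hF : Fintype.card F = q ^ 2) {t : ℕ} (k : ℕ) (hn : k = 1 → 9 ≤ n ∧ ¬ 4 ∣ n)
    (D : Fin t → Submodule F (Fin n → F))
    (hD : Cfsg.Geo.IsNondegenerateMDecomposition (Cfsg.hermForm n F q) k D)
    (hex : ¬ (k = 2 ∧ q = 2)) :
    Cfsg.Geo.IsMaximalIn (Cfsg.GU n F q ⊓ Cfsg.Geo.specialLinear (Fin n) F)
      (Cfsg.Geo.decompositionStabilizer D ⊓
        (Cfsg.GU n F q ⊓ Cfsg.Geo.specialLinear (Fin n) F)) := by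
  obtain ⟨σ, hσq, hσ⟩ := exists_frob hF
  let S : Subgroup ((Fin n → F) ≃ₗ[F] (Fin n → F)) :=
    (Cfsg.Geo.decompositionStabilizer D).comap (glEquiv (Fin n) F).symm.toMonoidHom
  have hSeq : Cfsg.Geo.decompositionStabilizer D = S.comap (glEquiv (Fin n) F).toMonoidHom :=
    (comap_symm_comap (glEquiv (Fin n) F) _).symm
  have hSU : SUg (hermB n σ hσq) = uG (hermB n σ hσq) ⊓ slK (Fin n) F := by
    ext g
    rw [mem_SUg, Subgroup.mem_inf, mem_slK]
  rw [hSeq, GU_eq σ hσq, specialLinear_eq, ← Subgroup.comap_inf, ← Subgroup.comap_inf, ← hSU]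
  apply isMaximalIn_comap
  have hfr : Module.finrank F (Fin n → F) = n := by simp
  apply maximal_udstab_all9 hσ (hermB_isHerm σ hσq hσ) (hermB_nondeg σ hσq) q hσq hF
    k (by rw [hfr]; exact hn) D hD.decomp.two_le hD.decomp.pos hD.decomp.finrank_eq
    hD.decomp.iSup_eq_top
  · intro i w hw hw0
    obtain ⟨x, hx, hxw⟩ := (hD.nondegenerate i w hw hw0).2
    exact ⟨x, hx, by rw [hermB_apply]; exact hxw⟩
  · intro i j hij u hu v hv
    rw [hermB_apply]
    exact hD.orthogonal i j hij u hu v hv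
  · exact hex
  · intro g
    have key : Matrix.toLin' (((glEquiv (Fin n) F).symm g :
        Matrix.GeneralLinearGroup (Fin n) F) : Matrix (Fin n) (Fin n) F) =
        (g : (Fin n → F) →ₗ[F] (Fin n → F)) := by
      refine LinearMap.ext fun x => ?_
      rw [Matrix.toLin'_apply, ← glEquiv_apply, MulEquiv.apply_symm_apply]
      rfl
    constructor
    · rintro ⟨π, hπ⟩
      refine ⟨π, fun i => ?_⟩
      have := hπ i
      simp only [MulEquiv.toMonoidHom_eq_coe, MonoidHom.coe_coe] at this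
      rw [key] at this
      exact this
    · rintro ⟨π, hπ⟩
      refine ⟨π, fun i => ?_⟩
      simp only [MulEquiv.toMonoidHom_eq_coe, MonoidHom.coe_coe]
      rw [key]
      exact hπ i

end Cfsg.Agent.Lib.Helper67_Fr10Bridge
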