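import Cfsg.Agent.Lib.Helper67_SLSylow

set_option autoImplicit false
set_option linter.unusedSectionVars false

namespace Cfsg.Agent.Lib.Helper67_GL2Normal

open Matrix Cfsg.Agent.Lib.Helper67_SymSylow Cfsg.Agent.Lib.Helper67_SpSylow
  Cfsg.Agent.Lib.Helper67_WreathModel Cfsg.Agent.Lib.Helper67_GLSylow
  Cfsg.Agent.Lib.Helper67_WreathDet Cfsg.Agent.Lib.Helper67_SLSylow

section MatrixFacts

variable {F : Type*} [Field F]

/-- an involution of determinant one in `M₂(F)`, `2 ≠ 0`, is `±1` -/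
theorem eq_one_or_neg_one_of_sq (h2 : (2 : F) ≠ 0) (x : Matrix (Fin 2) (Fin 2) F)
    (hx : x * x = 1) (hdet : det x = 1) : x = 1 ∨ x = -1 := by
  have h00 := congrFun (congrFun hx 0) 0
  have h01 := congrFun (congrFun hx 0) 1
  have h10 := congrFun (congrFun hx 1) 0
  have h11 := congrFun (congrFun hx 1) 1
  simp only [Matrix.mul_apply, Fin.sum_univ_two, Matrix.one_apply_eq, Matrix.one_apply_ne,
    ne_eq, Fin.isValue, zero_ne_one, one_ne_zero, not_false_eq_true] at h00 h01 h10 h11
  rw [Matrix.det_fin_two] at hdet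
  -- trace t := x00 + x11 ; t * x01 = 0, t * x10 = 0
  have ht : (x 0 0 + x 1 1) * (x 0 0 + x 1 1) = 4 := by
    linear_combination h00 + h11 + 2 * hdet
  have ht0 : x 0 0 + x 1 1 ≠ 0 := by
    intro h
    rw [h, mul_zero] at ht
    have : (4 : F) = 2 * 2 := by norm_num
    rw [this] at ht
    exact mul_ne_zero h2 h2 ht.symm
  have hb : x 0 1 = 0 := by
    have : (x 0 0 + x 1 1) * x 0 1 = 0 := by linear_combination h01
    exact (mul_eq_zero.mp this).resolve_left ht0
  have hc : x 1 0 = 0 := by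
    have : (x 0 0 + x 1 1) * x 1 0 = 0 := by linear_combination h10
    exact (mul_eq_zero.mp this).resolve_left ht0
  rw [hb, hc] at h00 h11 hdet
  simp only [mul_zero, add_zero, zero_mul, zero_add, sub_zero] at h00 h11 hdet
  have ha : x 0 0 = 1 ∨ x 0 0 = -1 := mul_self_eq_one_iff.mp h00
  rcases ha with ha | ha
  · left
    have hd : x 1 1 = 1 := by rw [ha, one_mul] at hdet; exact hdet
    ext i j
    fin_cases i <;> fin_cases j <;> simp [ha, hb, hc, hd]
  · right
    have hd : x 1 1 = -1 := by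
      rw [ha] at hdet
      linear_combination -hdet
    ext i j
    fin_cases i <;> fin_cases j <;> simp [ha, hb, hc, hd]

/-- trace zero for `x` with `x² = c • 1`, `det x = -c`, `x ≠ 0`-like: here direct statement -/
theorem isSquare_neg_one_of_commuting (h2 : (2 : F) ≠ 0) (x u : Matrix (Fin 2) (Fin 2) F)
    (hu : u * u = 1) (hdu : det u = -1) (hx : x * x = -1) (hdx : det x = 1)
    (hxu : x * u = u * x) : IsSquare (-1 : F) := by
  have u00 := congrFun (congrFun hu 0) 0
  have u01 := congrFun (congrFun hu 0) 1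
  have u10 := congrFun (congrFun hu 1) 0
  have u11 := congrFun (congrFun hu 1) 1
  have x00 := congrFun (congrFun hx 0) 0
  have x01 := congrFun (congrFun hx 0) 1
  have x10 := congrFun (congrFun hx 1) 0
  have x11 := congrFun (congrFun hx 1) 1
  have c00 := congrFun (congrFun hxu 0) 0
  have c01 := congrFun (congrFun hxu 0) 1
  have c10 := congrFun (congrFun hxu 1) 0
  have c11 := congrFun (congrFun hxu 1) 1
  simp only [Matrix.mul_apply, Fin.sum_univ_two, Matrix.one_apply_eq, Matrix.one_apply_ne,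
    Matrix.neg_apply, ne_eq, Fin.isValue, zero_ne_one, one_ne_zero, not_false_eq_true, neg_zero]
    at u00 u01 u10 u11 x00 x01 x10 x11 c00 c01 c10 c11
  rw [Matrix.det_fin_two] at hdu hdx
  -- traces vanish
  have htu : (u 0 0 + u 1 1) * (u 0 0 + u 1 1) = 0 := by
    linear_combination u00 + u11 + 2 * hdu
  have htu0 : u 0 0 + u 1 1 = 0 := mul_self_eq_zero.mp htu
  have htx : (x 0 0 + x 1 1) * (x 0 0 + x 1 1) = 0 := by
    linear_combination x00 + x11 + 2 * hdx
  have htx0 : x 0 0 + x 1 1 = 0 := mul_self_eq_zero.mp htx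
  have hd : u 1 1 = -u 0 0 := by linear_combination htu0
  have ht : x 1 1 = -x 0 0 := by linear_combination htx0
  refine ⟨x 0 0 * u 0 0 + x 0 1 * u 1 0, ?_⟩
  -- relations: rc = bs ; 2 p b = 2 a r ; 2 s a = 2 p c
  have r1 : x 0 1 * u 1 0 = u 0 1 * x 1 0 := by linear_combination c00
  have r2 : 2 * (x 0 0 * u 0 1 - u 0 0 * x 0 1) = 0 := by
    linear_combination c01 - x 0 1 * hd + u 0 1 * ht
  have r3 : 2 * (x 1 0 * u 0 0 - x 0 0 * u 1 0) = 0 := by
    linear_combination c10 - u 1 0 * ht + x 1 0 * hd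
  have r2' : x 0 0 * u 0 1 = u 0 0 * x 0 1 := by
    have := (mul_eq_zero.mp r2).resolve_left h2
    linear_combination this
  have r3' : x 1 0 * u 0 0 = x 0 0 * u 1 0 := by
    have := (mul_eq_zero.mp r3).resolve_left h2
    linear_combination this
  -- (pa + rc)^2 = (p^2 + rs)(a^2 + bc) = -1
  have e1 : x 0 0 * x 0 0 + x 0 1 * x 1 0 = -1 := x00
  have e2 : u 0 0 * u 0 0 + u 0 1 * u 1 0 = 1 := u00
  have key : (x 0 0 * u 0 0 + x 0 1 * u 1 0) * (x 0 0 * u 0 0 + x 0 1 * u 1 0) =
      (x 0 0 * x 0 0 + x 0 1 * x 1 0) * (u 0 0 * u 0 0 + u 0 1 * u 1 0) := by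
    linear_combination (x 0 1 * u 1 0) * r1 - (x 0 0 * u 1 0) * r2' - (x 0 1 * u 0 0) * r3'
  rw [key, e1, e2]
  ring

end MatrixFacts


section ClaimU

variable {F : Type*} [Field F] [Fintype F]

theorem two_ne_zero_of_odd (hF : Odd (Fintype.card F)) : (2 : F) ≠ 0 := by
  have h := neg_one_ne_one_of_odd' hF
  intro h2
  apply h
  have : (1 : F) + 1 = 0 := by rw [one_add_one_eq_two]; exact h2
  linear_combination -this

omit [Fintype F] in
theorem negOne_sq : (-1 : GL (Fin 2) F) ^ 2 = 1 := by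
  rw [neg_one_sq]

omit [Fintype F] in
theorem det_negOne : Matrix.GeneralLinearGroup.det (-1 : GL (Fin 2) F) = 1 := by
  apply Units.ext
  simp [Matrix.det_neg]

omit [Fintype F] in
/-- an involution of determinant one in `GL₂(F)` is `±1` -/
theorem eq_one_or_neg_one (h2 : (2 : F) ≠ 0) (g : GL (Fin 2) F)
    (hdet : Matrix.GeneralLinearGroup.det g = 1) (hg : g ^ 2 = 1) : g = 1 ∨ g = -1 := by
  have h1 : (g : Matrix (Fin 2) (Fin 2) F) * (g : Matrix (Fin 2) (Fin 2) F) = 1 := by
    have := congrArg Units.val hg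
    rwa [pow_two] at this
  have h3 : det (g : Matrix (Fin 2) (Fin 2) F) = 1 := by
    have := congrArg Units.val hdet
    simpa using this
  rcases eq_one_or_neg_one_of_sq h2 _ h1 h3 with h | h
  · left
    exact Units.ext h
  · right
    apply Units.ext
    rw [h]
    simp

omit [Fintype F] in
theorem card_le_two_of_forall [Finite F] (H : Subgroup (GL (Fin 2) F))
    (h : ∀ g ∈ H, g = 1 ∨ g = -1) : Nat.card H ≤ 2 := by
  have hle : H ≤ Subgroup.zpowers (-1 : GL (Fin 2) F) := by
    intro g hg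
    rcases h g hg with rfl | rfl
    · exact one_mem _
    · exact Subgroup.mem_zpowers _
  have h1 := Subgroup.card_le_of_le hle
  rw [Nat.card_zpowers] at h1
  have h2 : orderOf (-1 : GL (Fin 2) F) ∣ 2 := orderOf_dvd_of_pow_eq_one negOne_sq
  have := Nat.le_of_dvd (by norm_num) h2
  omega

omit [Fintype F] in
/-- a `2`-subgroup of order at least `4` inside `SL₂` contains a square root of `-1` -/
theorem exists_sq_eq_negOne [Finite F] (h2 : (2 : F) ≠ 0) (H : Subgroup (GL (Fin 2) F))
    (hdet : ∀ g ∈ H, Matrix.GeneralLinearGroup.det g = 1) (hH : IsPGroup 2 H)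
    (hcard : 4 ≤ Nat.card H) : ∃ x ∈ H, x ^ 2 = -1 := by
  obtain ⟨h, hhH, hh⟩ : ∃ h ∈ H, ¬ (h = 1 ∨ h = -1) := by
    by_contra hcon
    have hcon' : ∀ g ∈ H, g = 1 ∨ g = -1 := fun g hg => by
      by_contra hne
      exact hcon ⟨g, hg, hne⟩
    have := card_le_two_of_forall H hcon'
    omega
  obtain ⟨j, hj⟩ := (IsPGroup.iff_orderOf.mp hH) ⟨h, hhH⟩
  rw [Subgroup.orderOf_mk] at hj
  have hpow : h ^ (2 ^ j) = 1 := by
    have := pow_orderOf_eq_one h
    rwa [hj] at this
  have hj2 : 2 ≤ j := by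
    by_contra hlt
    have hj' : j = 0 ∨ j = 1 := by omega
    rcases hj' with rfl | rfl
    · rw [pow_zero, pow_one] at hpow
      exact hh (Or.inl hpow)
    · rw [pow_one] at hpow
      exact hh (eq_one_or_neg_one h2 h (hdet h hhH) hpow)
  obtain ⟨j', rfl⟩ : ∃ j', j = j' + 2 := ⟨j - 2, by omega⟩
  refine ⟨h ^ 2 ^ j', pow_mem hhH _, ?_⟩
  have hx4 : ((h ^ 2 ^ j') ^ 2) ^ 2 = 1 := by
    rw [← pow_mul, ← pow_mul, ← hpow]
    congr 1
    ring
  have hx2 : (h ^ 2 ^ j') ^ 2 ≠ 1 := by
    intro hcon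
    rw [← pow_mul] at hcon
    have h1 := orderOf_dvd_of_pow_eq_one hcon
    rw [hj, show 2 ^ j' * 2 = 2 ^ (j' + 1) by ring] at h1
    have h2' := (Nat.pow_dvd_pow_iff_le_right (by norm_num : 1 < 2)).mp h1
    omega
  have hdet2 : Matrix.GeneralLinearGroup.det ((h ^ 2 ^ j') ^ 2) = 1 := by
    rw [map_pow, map_pow, hdet h hhH, one_pow, one_pow]
  rcases eq_one_or_neg_one h2 _ hdet2 hx4 with h3 | h3
  · exact absurd h3 hx2
  · exact h3


/-- if every `Q`-conjugate of `u` is `u` or `z * u` (`z` central), the centralizer of `u` in `Q`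
has index at most two -/
theorem card_le_two_mul_centralizer {G : Type*} [Group G] [Finite G] (Q : Subgroup G) (u z : G)
    (hz : ∀ g : G, z * g = g * z) (hzz : z * z = 1)
    (h : ∀ y ∈ Q, y * u * y⁻¹ = u ∨ y * u * y⁻¹ = z * u) :
    Nat.card Q ≤ 2 * Nat.card (Q ⊓ Subgroup.centralizer {u} : Subgroup G) := by
  classical
  by_cases hall : ∀ y ∈ Q, y * u * y⁻¹ = u
  · have : Q ⊓ Subgroup.centralizer {u} = Q := by
      apply inf_eq_left.mpr
      intro y hy
      rw [Subgroup.mem_centralizer_iff]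
      intro w hw
      rw [Set.mem_singleton_iff] at hw
      subst hw
      have := hall y hy
      rw [mul_inv_eq_iff_eq_mul] at this
      exact this.symm
    rw [this]
    omega
  · push Not at hall
    obtain ⟨y₁, hy₁Q, hy₁⟩ := hall
    have hy₁' : y₁ * u * y₁⁻¹ = z * u := (h y₁ hy₁Q).resolve_left hy₁
    have hmem : ∀ y ∈ Q, y * u * y⁻¹ = u → y ∈ Q ⊓ Subgroup.centralizer {u} := by
      intro y hy hyu
      rw [Subgroup.mem_inf]
      refine ⟨hy, ?_⟩
      rw [Subgroup.mem_centralizer_iff]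
      intro w hw
      rw [Set.mem_singleton_iff] at hw
      subst hw
      rw [mul_inv_eq_iff_eq_mul] at hyu
      exact hyu.symm
    have hmem2 : ∀ y ∈ Q, y * u * y⁻¹ = z * u → y₁⁻¹ * y ∈ Q ⊓ Subgroup.centralizer {u} := by
      intro y hy hyu
      apply hmem _ (mul_mem (inv_mem hy₁Q) hy)
      have h1 : y₁⁻¹ * (z * u) * y₁ = u := by
        rw [← hy₁']
        group
      calc y₁⁻¹ * y * u * (y₁⁻¹ * y)⁻¹ = y₁⁻¹ * (y * u * y⁻¹) * y₁ := by group
        _ = u := by rw [hyu, h1]
    let φ : Q → (Q ⊓ Subgroup.centralizer {u} : Subgroup G) × Bool := fun y =>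
      if hy : (y : G) * u * (y : G)⁻¹ = u then (⟨y, hmem y y.2 hy⟩, false)
      else (⟨y₁⁻¹ * y, hmem2 y y.2 ((h y y.2).resolve_left hy)⟩, true)
    have hφ : Function.Injective φ := by
      intro a b hab
      by_cases ha : (a : G) * u * (a : G)⁻¹ = u <;> by_cases hb : (b : G) * u * (b : G)⁻¹ = u
      · simp only [φ, dif_pos ha, dif_pos hb, Prod.mk.injEq, Subtype.mk.injEq, and_true] at hab
        exact Subtype.ext hab
      · simp [φ, dif_pos ha, dif_neg hb] at hab
      · simp [φ, dif_neg ha, dif_pos hb] at hab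
      · simp only [φ, dif_neg ha, dif_neg hb, Prod.mk.injEq, Subtype.mk.injEq, and_true] at hab
        exact Subtype.ext (mul_left_cancel hab)
    have := Nat.card_le_card_of_injective φ hφ
    rw [Nat.card_prod, Nat.card_eq_fintype_card (α := Bool), Fintype.card_bool] at this
    omega

theorem card_inf_ker_ge (hF : Odd (Fintype.card F)) (T : Sylow 2 (GL (Fin 2) F)) :
    2 ^ eExp F ≤ Nat.card ((T : Subgroup (GL (Fin 2) F)) ⊓
      (Matrix.GeneralLinearGroup.det (n := Fin 2) (R := F)).ker : Subgroup (GL (Fin 2) F)) := by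
  have hcardT := card_eq_card_inf_ker_mul_card_map (T : Subgroup (GL (Fin 2) F))
    (Matrix.GeneralLinearGroup.det (n := Fin 2) (R := F))
  have hD := card_two_subgroup_units_le hF _ (T.isPGroup'.map Matrix.GeneralLinearGroup.det)
  have hT2 : Nat.card (T : Subgroup (GL (Fin 2) F)) =
      2 ^ (Fintype.card F - 1).factorization 2 * 2 ^ eExp F := by
    rw [T.card_eq_multiplicity, val_card_GL_two hF, gExp, pow_add]
  have h1 : 2 ^ (Fintype.card F - 1).factorization 2 * 2 ^ eExp F ≤
      Nat.card ((T : Subgroup (GL (Fin 2) F)) ⊓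
      (Matrix.GeneralLinearGroup.det (n := Fin 2) (R := F)).ker : Subgroup (GL (Fin 2) F)) *
        2 ^ (Fintype.card F - 1).factorization 2 := by
    rw [← hT2, hcardT]
    exact Nat.mul_le_mul_left _ hD
  rw [mul_comm] at h1
  exact Nat.le_of_mul_le_mul_right h1 (by positivity)

theorem three_le_eExp (hq : 4 ∣ Fintype.card F + 1) : 3 ≤ eExp F := by
  unfold eExp
  rw [val_sub_one_of_four_dvd _ hq]
  have : 2 ≤ (Fintype.card F + 1).factorization 2 := by
    apply (Nat.prime_two.pow_dvd_iff_le_factorization (by omega)).mp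
    exact hq
  omega

/-- **Claim U**: a normal elementary abelian subgroup of a Sylow 2-subgroup of `GL₂(F)`,
`|F| ≡ 3 mod 4`, has order at most two. -/
theorem card_normal_elementary_le_two (hF : Odd (Fintype.card F))
    (hq : 4 ∣ Fintype.card F + 1) (T : Sylow 2 (GL (Fin 2) F)) (U : Subgroup (GL (Fin 2) F))
    (hnorm : ∀ y ∈ (T : Subgroup (GL (Fin 2) F)), ∀ a ∈ U, y * a * y⁻¹ ∈ U)
    (hexp : ∀ a ∈ U, a ^ 2 = 1) :
    Nat.card U ≤ 2 := by
  classical
  have h2 := two_ne_zero_of_odd hF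
  by_contra hcard
  -- an element of determinant -1
  obtain ⟨u, huU, hudet⟩ : ∃ u ∈ U, Matrix.GeneralLinearGroup.det u ≠ 1 := by
    by_contra hcon
    have hcon' : ∀ g ∈ U, Matrix.GeneralLinearGroup.det g = 1 := fun g hg => by
      by_contra hne
      exact hcon ⟨g, hg, hne⟩
    exact hcard (card_le_two_of_forall U fun g hg =>
      eq_one_or_neg_one h2 g (hcon' g hg) (hexp g hg))
  have husq : u ^ 2 = 1 := hexp u huU
  have huinv : u⁻¹ = u := by
    rw [inv_eq_iff_mul_eq_one, ← pow_two]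
    exact husq
  -- conjugates of u
  have hconj : ∀ y ∈ (T : Subgroup (GL (Fin 2) F)),
      y * u * y⁻¹ = u ∨ y * u * y⁻¹ = (-1 : GL (Fin 2) F) * u := by
    intro y hy
    set v := y * u * y⁻¹ with hv
    have hvU : v ∈ U := hnorm y hy u huU
    have hvu : v * u ∈ U := mul_mem hvU huU
    have hdetvu : Matrix.GeneralLinearGroup.det (v * u) = 1 := by
      rw [hv, map_mul, map_mul, map_mul, map_inv, mul_comm (Matrix.GeneralLinearGroup.det y),
        mul_assoc, mul_assoc, mul_inv_cancel_left, ← map_mul, ← pow_two, husq, map_one]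
    rcases eq_one_or_neg_one h2 _ hdetvu (hexp _ hvu) with h3 | h3
    · left
      rw [mul_eq_one_iff_eq_inv, huinv] at h3
      exact h3
    · right
      rw [← huinv, ← h3]
      group
  -- the centralizer in Q₂
  set Q₂ : Subgroup (GL (Fin 2) F) := (T : Subgroup (GL (Fin 2) F)) ⊓
      (Matrix.GeneralLinearGroup.det (n := Fin 2) (R := F)).ker with hQ₂
  have hQcard : 8 ≤ Nat.card Q₂ := by
    have h1 := card_inf_ker_ge hF T
    have h3 := three_le_eExp (F := F) hq
    calc 8 = 2 ^ 3 := by norm_num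
      _ ≤ 2 ^ eExp F := Nat.pow_le_pow_right (by norm_num) h3
      _ ≤ _ := h1
  have hC := card_le_two_mul_centralizer Q₂ u (-1 : GL (Fin 2) F)
    (fun g => by rw [neg_one_mul, mul_neg_one])
    (by rw [neg_one_mul, neg_neg])
    (fun y hy => hconj y (Subgroup.mem_inf.mp hy).1)
  set C' : Subgroup (GL (Fin 2) F) := Q₂ ⊓ Subgroup.centralizer {u} with hC'
  have hC'card : 4 ≤ Nat.card C' := by omega
  have hC'det : ∀ g ∈ C', Matrix.GeneralLinearGroup.det g = 1 := by
    intro g hg
    have := (Subgroup.mem_inf.mp (Subgroup.mem_inf.mp hg).1).2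
    rwa [MonoidHom.mem_ker] at this
  have hC'p : IsPGroup 2 C' := T.isPGroup'.to_le (inf_le_left.trans inf_le_left)
  obtain ⟨x, hxC, hx⟩ := exists_sq_eq_negOne h2 C' hC'det hC'p hC'card
  -- matrix lemma
  have hsq : IsSquare (-1 : F) := by
    apply isSquare_neg_one_of_commuting h2 (x : Matrix (Fin 2) (Fin 2) F)
      (u : Matrix (Fin 2) (Fin 2) F)
    · have := congrArg Units.val husq
      rwa [pow_two] at this
    · have h1 : (Matrix.GeneralLinearGroup.det u) * (Matrix.GeneralLinearGroup.det u) = 1 := by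
        rw [← map_mul, ← pow_two, husq, map_one]
      have h3 : ((Matrix.GeneralLinearGroup.det u : Fˣ) : F) *
          ((Matrix.GeneralLinearGroup.det u : Fˣ) : F) = 1 := by
        have := congrArg Units.val h1
        simpa using this
      rcases mul_self_eq_one_iff.mp h3 with h4 | h4
      · exfalso
        apply hudet
        exact Units.ext h4
      · simpa using h4
    · have := congrArg Units.val hx
      rw [pow_two] at this
      simpa using this
    · have := congrArg Units.val (hC'det x hxC)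
      simpa using this
    · have hxc := (Subgroup.mem_inf.mp hxC).2
      rw [Subgroup.mem_centralizer_iff] at hxc
      have := hxc u (Set.mem_singleton u)
      have h5 := congrArg Units.val this
      simp only [Units.val_mul] at h5
      exact h5.symm
  rw [FiniteField.isSquare_neg_one_iff] at hsq
  obtain ⟨c, hc⟩ := hq
  omega

end ClaimU

end Cfsg.Agent.Lib.Helper67_GL2Normal
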