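import Cfsg.Agent.Lib.Helper67_WreathDet
import Cfsg.Prelude.Def_Transfer

set_option autoImplicit false
set_option linter.unusedSectionVars false
set_option linter.style.haveILetI false

namespace Cfsg.Agent.Lib.Helper67_NormalRank

open Cfsg.Agent.Lib.Helper67_SymSylow Cfsg.Agent.Lib.Helper67_SpSylow
  Cfsg.Agent.Lib.Helper67_WreathModel Cfsg.Agent.Lib.Helper67_WreathDet

section NEA

variable {G G' : Type*} [Group G] [Group G']

/-- `E` is an elementary abelian 2-subgroup of `S`, normalized by `S` -/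
def NEA (S E : Subgroup G) : Prop :=
  E ≤ S ∧ (∀ y ∈ S, ∀ a ∈ E, y * a * y⁻¹ ∈ E) ∧ (∀ a ∈ E, ∀ b ∈ E, a * b = b * a) ∧
    ∀ a ∈ E, a ^ 2 = 1

theorem NEA.map {S E : Subgroup G} (h : NEA S E) (f : G →* G') : NEA (S.map f) (E.map f) := by
  obtain ⟨h1, h2, h3, h4⟩ := h
  refine ⟨Subgroup.map_mono h1, ?_, ?_, ?_⟩
  · rintro _ ⟨y, hy, rfl⟩ _ ⟨a, ha, rfl⟩
    rw [← map_inv, ← map_mul, ← map_mul]
    exact Subgroup.mem_map_of_mem f (h2 y hy a ha)
  · rintro _ ⟨a, ha, rfl⟩ _ ⟨b, hb, rfl⟩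
    rw [← map_mul, ← map_mul, h3 a ha b hb]
  · rintro _ ⟨a, ha, rfl⟩
    rw [← map_pow, h4 a ha, map_one]

/-- from a subgroup of `↥S` to a subgroup of `G` -/
theorem nea_of_normal (S : Subgroup G) (E : Subgroup S) (hn : E.Normal)
    (hE : Cfsg.IsElementaryAbelian 2 E) : NEA S (E.map S.subtype) := by
  refine ⟨?_, ?_, ?_, ?_⟩
  · rintro _ ⟨a, -, rfl⟩
    exact a.2
  · rintro y hy _ ⟨a, ha, rfl⟩
    exact ⟨⟨y, hy⟩ * a * ⟨y, hy⟩⁻¹, hn.conj_mem a ha ⟨y, hy⟩, rfl⟩
  · rintro _ ⟨a, ha, rfl⟩ _ ⟨b, hb, rfl⟩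
    have := (isMulCommutative_iff.mp hE.1) (⟨a, ha⟩ : E) ⟨b, hb⟩
    have h2 := congrArg (fun x : E => ((x : S) : G)) this
    exact h2
  · rintro _ ⟨a, ha, rfl⟩
    rw [← map_pow, hE.2 a ha, map_one]

/-- from a subgroup of `G` to a subgroup of `↥S` -/
theorem normal_of_nea {S E : Subgroup G} (h : NEA S E) :
    (E.subgroupOf S).Normal ∧ Cfsg.IsElementaryAbelian 2 (E.subgroupOf S) ∧
      Nat.card (E.subgroupOf S) = Nat.card E := by
  obtain ⟨h1, h2, h3, h4⟩ := h
  refine ⟨?_, ⟨?_, ?_⟩, ?_⟩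
  · constructor
    intro a ha y
    rw [Subgroup.mem_subgroupOf] at ha ⊢
    exact h2 y y.2 a ha
  · rw [isMulCommutative_iff]
    rintro ⟨a, ha⟩ ⟨b, hb⟩
    rw [Subgroup.mem_subgroupOf] at ha hb
    apply Subtype.ext
    apply Subtype.ext
    exact h3 a ha b hb
  · intro a ha
    rw [Subgroup.mem_subgroupOf] at ha
    apply Subtype.ext
    rw [Subgroup.coe_pow, Subgroup.coe_one]
    exact h4 a ha
  · exact Nat.card_congr (Subgroup.subgroupOfEquivOfLe h1).toEquiv

/-- transfer between a large `2`-subgroup and an arbitrary Sylow `2`-subgroup -/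
theorem exists_equiv_of_large [Finite G] (p : ℕ) [Fact p.Prime] (W : Subgroup G)
    (hW : IsPGroup p W) (hcard : p ^ (Nat.card G).factorization p ≤ Nat.card W) (S : Sylow p G) :
    ∃ φ : G ≃* G, (S : Subgroup G) = W.map φ.toMonoidHom := by
  obtain ⟨Q, hQ⟩ := hW.exists_le_sylow
  have hWQ : W = Q := by
    apply Subgroup.eq_of_le_of_card_ge hQ
    rw [Q.card_eq_multiplicity]
    exact hcard
  obtain ⟨g, rfl⟩ := MulAction.exists_smul_eq G Q S
  refine ⟨MulAut.conj g, ?_⟩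
  rw [Sylow.coe_subgroup_smul, Subgroup.pointwise_smul_def, ← hWQ]
  rfl

/-- The normal-rank statement for every Sylow `2`-subgroup, from the statement for one large
`2`-subgroup. -/
theorem normal_rank_of_large [Finite G] (W : Subgroup G) (hW : IsPGroup 2 W)
    (hcard : 2 ^ (Nat.card G).factorization 2 ≤ Nat.card W) (N : ℕ)
    (hlow : ∃ E, NEA W E ∧ N ≤ Nat.card E) (hup : ∀ E, NEA W E → Nat.card E ≤ N)
    (S : Sylow 2 G) :
    (∃ E : Subgroup (S : Subgroup G), E.Normal ∧ Cfsg.IsElementaryAbelian 2 E ∧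
        N ≤ Nat.card E) ∧
      ∀ E : Subgroup (S : Subgroup G), E.Normal → Cfsg.IsElementaryAbelian 2 E →
        Nat.card E ≤ N := by
  obtain ⟨φ, hφ⟩ := exists_equiv_of_large 2 W hW hcard S
  constructor
  · obtain ⟨E, hE, hN⟩ := hlow
    have h1 : NEA (S : Subgroup G) (E.map φ.toMonoidHom) := by
      rw [hφ]
      exact hE.map _
    obtain ⟨h2, h3, h4⟩ := normal_of_nea h1
    refine ⟨_, h2, h3, ?_⟩
    rw [h4, Subgroup.card_map_of_injective φ.injective]
    exact hN
  · intro E hn hE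
    have h1 := nea_of_normal (S : Subgroup G) E hn hE
    have h2 := h1.map φ.symm.toMonoidHom
    have h3 : (S : Subgroup G).map φ.symm.toMonoidHom = W := by
      rw [hφ, Subgroup.map_map]
      have : φ.symm.toMonoidHom.comp φ.toMonoidHom = MonoidHom.id G := by
        ext x
        simp
      rw [this, Subgroup.map_id]
    rw [h3] at h2
    have h4 := hup _ h2
    rwa [Subgroup.card_map_of_injective φ.symm.injective,
      Subgroup.card_map_of_injective (Subgroup.subtype_injective _)] at h4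

end NEA


section Commute

variable {G : Type*} [Group G]

/-- elements of the join of two elementwise commuting subgroups are products -/
theorem mem_sup_of_commute (H K : Subgroup G) (hc : ∀ h ∈ H, ∀ k ∈ K, h * k = k * h) (x : G) :
    x ∈ H ⊔ K ↔ ∃ h ∈ H, ∃ k ∈ K, x = h * k := by
  constructor
  · intro hx
    let M₀ : Subgroup G :=
      { carrier := {x | ∃ h ∈ H, ∃ k ∈ K, x = h * k}
        one_mem' := ⟨1, one_mem _, 1, one_mem _, by simp⟩
        mul_mem' := by
          rintro _ _ ⟨h₁, hh₁, k₁, hk₁, rfl⟩ ⟨h₂, hh₂, k₂, hk₂, rfl⟩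
          refine ⟨h₁ * h₂, mul_mem hh₁ hh₂, k₁ * k₂, mul_mem hk₁ hk₂, ?_⟩
          calc h₁ * k₁ * (h₂ * k₂) = h₁ * (k₁ * h₂) * k₂ := by group
            _ = h₁ * (h₂ * k₁) * k₂ := by rw [hc h₂ hh₂ k₁ hk₁]
            _ = h₁ * h₂ * (k₁ * k₂) := by group
        inv_mem' := by
          rintro _ ⟨h, hh, k, hk, rfl⟩
          refine ⟨h⁻¹, inv_mem hh, k⁻¹, inv_mem hk, ?_⟩
          rw [mul_inv_rev, hc h⁻¹ (inv_mem hh) k⁻¹ (inv_mem hk)] }
    have hle : H ⊔ K ≤ M₀ := by
      apply sup_le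
      · intro h hh
        exact ⟨h, hh, 1, one_mem _, by simp⟩
      · intro k hk
        exact ⟨1, one_mem _, k, hk, by simp⟩
    exact hle hx
  · rintro ⟨h, hh, k, hk, rfl⟩
    exact mul_mem (le_sup_left (a := H) hh) (le_sup_right (a := H) hk)

/-- a strictly larger subgroup has at least twice as many elements -/
theorem two_mul_card_le_of_lt [Finite G] {H K : Subgroup G} (hle : H ≤ K) {x : G} (hxK : x ∈ K)
    (hxH : x ∉ H) : 2 * Nat.card H ≤ Nat.card K := by
  obtain ⟨c, hc⟩ := Subgroup.card_dvd_of_le hle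
  have hc1 : c ≠ 1 := by
    rintro rfl
    rw [mul_one] at hc
    have := Subgroup.eq_of_le_of_card_ge hle hc.le
    apply hxH
    rw [this]
    exact hxK
  have hc0 : c ≠ 0 := by
    rintro rfl
    rw [mul_zero] at hc
    exact Nat.card_pos.ne' hc
  rw [hc, mul_comm]
  exact Nat.mul_le_mul_left _ (by omega)

end Commute


section Model

variable {X G : Type*} [Group X] [Group G] {m : ℕ} (d : WData X G m) (z : G)

/-- the extended model `model T P × ⟨z⟩` -/
def extModel (T : Subgroup X) (P : Subgroup (Equiv.Perm (Fin m))) : Subgroup G :=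
  d.model T P ⊔ Subgroup.zpowers z

variable (hz2 : z ^ 2 = 1) (hzb : ∀ g, z * d.base g = d.base g * z)
  (hzt : ∀ σ, z * d.top σ = d.top σ * z)

include hzb hzt in
theorem z_comm_model (T : Subgroup X) (P : Subgroup (Equiv.Perm (Fin m))) :
    ∀ w ∈ d.model T P, ∀ k ∈ Subgroup.zpowers z, w * k = k * w := by
  intro w hw k hk
  obtain ⟨τ, σ, -, rfl⟩ := (mem_model_iff d T P w).mp hw
  obtain ⟨j, rfl⟩ := Subgroup.mem_zpowers_iff.mp hk
  have h1 : Commute z (d.baseT T τ * d.top σ) := by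
    apply Commute.mul_right
    · exact hzb _
    · exact hzt _
  exact (h1.zpow_left j).symm.eq

include hzb hzt in
theorem mem_extModel_iff (T : Subgroup X) (P : Subgroup (Equiv.Perm (Fin m))) (x : G) :
    x ∈ extModel d z T P ↔ ∃ (τ : Fin m → T) (σ : Equiv.Perm (Fin m)) (j : ℤ),
      σ ∈ P ∧ x = d.baseT T τ * d.top σ * z ^ j := by
  unfold extModel
  rw [mem_sup_of_commute _ _ (z_comm_model d z hzb hzt T P)]
  constructor
  · rintro ⟨w, hw, k, hk, rfl⟩
    obtain ⟨τ, σ, hσ, rfl⟩ := (mem_model_iff d T P w).mp hw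
    obtain ⟨j, rfl⟩ := Subgroup.mem_zpowers_iff.mp hk
    exact ⟨τ, σ, j, hσ, rfl⟩
  · rintro ⟨τ, σ, j, hσ, rfl⟩
    exact ⟨_, (mem_model_iff d T P _).mpr ⟨τ, σ, hσ, rfl⟩, _, Subgroup.zpow_mem_zpowers z j, rfl⟩

include hz2 in
theorem isPGroup_zpowers : IsPGroup 2 (Subgroup.zpowers z) := by
  intro ⟨k, hk⟩
  refine ⟨1, ?_⟩
  apply Subtype.ext
  obtain ⟨j, rfl⟩ := Subgroup.mem_zpowers_iff.mp hk
  show (z ^ j) ^ 2 ^ 1 = 1
  rw [pow_one, ← zpow_natCast, ← zpow_mul, mul_comm, zpow_mul, zpow_natCast, hz2, one_zpow]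

include hz2 hzb hzt in
theorem isPGroup_extModel [Finite G] (T : Subgroup X) [Finite T]
    (P : Subgroup (Equiv.Perm (Fin m))) (hT : IsPGroup 2 T) (hP : IsPGroup 2 P) :
    IsPGroup 2 (extModel d z T P) := by
  unfold extModel
  apply IsPGroup.to_sup_of_normal_left' (d.isPGroup_model 2 T P hT hP) (isPGroup_zpowers z hz2)
  intro k hk
  apply Subgroup.mem_normalizer_fintype
  intro w hw
  rw [SetLike.mem_coe] at hw ⊢
  rw [← z_comm_model d z hzb hzt T P w hw k hk, mul_inv_cancel_right]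
  exact hw

include hz2 in
theorem card_zpowers_le_two [Finite G] : Nat.card (Subgroup.zpowers z) ≤ 2 := by
  rw [Nat.card_zpowers]
  exact Nat.le_of_dvd (by norm_num) (orderOf_dvd_of_pow_eq_one hz2)

include hz2 in
/-- cardinality of a join with `⟨z⟩` when `z = 1` or `z ∉ K` for some `K ≥ H` -/
theorem card_sup_zpowers_ge [Finite G] (H K : Subgroup G) (hHK : H ≤ K)
    (hzK : z = 1 ∨ z ∉ K) :
    Nat.card H * Nat.card (Subgroup.zpowers z) ≤ Nat.card (H ⊔ Subgroup.zpowers z : Subgroup G) := by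
  rcases hzK with rfl | hzK
  · rw [Subgroup.zpowers_one_eq_bot, sup_bot_eq, Subgroup.card_bot, mul_one]
  · have h1 := two_mul_card_le_of_lt (le_sup_left : H ≤ H ⊔ Subgroup.zpowers z)
      (le_sup_right (a := H) (Subgroup.mem_zpowers z)) (fun h => hzK (hHK h))
    have h2 := card_zpowers_le_two z hz2
    calc Nat.card H * Nat.card (Subgroup.zpowers z) ≤ Nat.card H * 2 := Nat.mul_le_mul_left _ h2
      _ = 2 * Nat.card H := mul_comm _ _
      _ ≤ _ := h1

include hz2 in
theorem card_extModel_ge [Finite G] (T : Subgroup X) (P : Subgroup (Equiv.Perm (Fin m)))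
    (hzK : z = 1 ∨ z ∉ d.model ⊤ ⊤) :
    Nat.card T ^ m * Nat.card P * Nat.card (Subgroup.zpowers z) ≤
      Nat.card (extModel d z T P) := by
  have hle : d.model T P ≤ d.model ⊤ ⊤ := by
    unfold WData.model
    apply sup_le_sup
    · rintro _ ⟨τ, rfl⟩
      exact ⟨fun i => ⟨τ i, Subgroup.mem_top _⟩, rfl⟩
    · exact Subgroup.map_mono le_top
  exact (Nat.mul_le_mul_right _ (d.card_model_ge T P)).trans
    (card_sup_zpowers_ge z hz2 _ _ hle hzK)

end Model


section Lower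

variable {X G : Type*} [Group X] [Group G] {m : ℕ} (d : WData X G m) (z : G)
  (hz2 : z ^ 2 = 1) (hzb : ∀ g, z * d.base g = d.base g * z)
  (hzt : ∀ σ, z * d.top σ = d.top σ * z)

include hz2 hzb hzt in
/-- the central diagonal subgroup is a normal elementary abelian subgroup of the model -/
theorem nea_lower (T : Subgroup X) (P : Subgroup (Equiv.Perm (Fin m))) (Z : Subgroup X)
    (hZT : Z ≤ T) (hZc : ∀ t ∈ T, ∀ c ∈ Z, t * c = c * t) (hZ2 : ∀ c ∈ Z, c ^ 2 = 1) :
    NEA (extModel d z T P) ((d.baseT Z).range ⊔ Subgroup.zpowers z) := by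
  have hcomm : ∀ h ∈ (d.baseT Z).range, ∀ k ∈ Subgroup.zpowers z, h * k = k * h := by
    intro h hh k hk
    exact z_comm_model d z hzb hzt T P h (baseT_range_le_model d hZT P hh) k hk
  have hmemD : ∀ a, a ∈ (d.baseT Z).range ⊔ Subgroup.zpowers z ↔
      ∃ (ζ : Fin m → Z) (i : ℤ), a = d.baseT Z ζ * z ^ i := by
    intro a
    rw [mem_sup_of_commute _ _ hcomm]
    constructor
    · rintro ⟨_, ⟨ζ, rfl⟩, k, hk, rfl⟩
      obtain ⟨i, rfl⟩ := Subgroup.mem_zpowers_iff.mp hk
      exact ⟨ζ, i, rfl⟩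
    · rintro ⟨ζ, i, rfl⟩
      exact ⟨_, ⟨ζ, rfl⟩, _, Subgroup.zpow_mem_zpowers z i, rfl⟩
  refine ⟨?_, ?_, ?_, ?_⟩
  · unfold extModel
    exact sup_le_sup_right (baseT_range_le_model d hZT P) _
  · intro y hy a ha
    obtain ⟨τ, σ, j, hσ, rfl⟩ := (mem_extModel_iff d z hzb hzt T P y).mp hy
    obtain ⟨ζ, i, rfl⟩ := (hmemD a).mp ha
    rw [hmemD]
    refine ⟨fun k => ζ (σ⁻¹ k), i, ?_⟩
    -- z-powers commute with everything in sight
    have hzc : ∀ (w : G) (k : ℤ), w ∈ d.model T P → w * z ^ k = z ^ k * w := fun w k hw =>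
      z_comm_model d z hzb hzt T P w hw _ (Subgroup.zpow_mem_zpowers z k)
    have hbζ : d.baseT Z ζ ∈ d.model T P := baseT_range_le_model d hZT P ⟨ζ, rfl⟩
    have hbτ : d.baseT T τ ∈ d.model T P := baseT_mem_model d T P τ
    have htσ : d.top σ ∈ d.model T P := top_mem_model d T P hσ
    have hw : d.baseT T τ * d.top σ ∈ d.model T P := mul_mem hbτ htσ
    -- conjugation of the base part
    have h1 : d.top σ * d.baseT Z ζ * (d.top σ)⁻¹ = d.baseT Z (fun k => ζ (σ⁻¹ k)) :=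
      d.top_conj_baseT Z σ ζ
    have h2 : d.baseT T τ * d.baseT Z (fun k => ζ (σ⁻¹ k)) * (d.baseT T τ)⁻¹ =
        d.baseT Z (fun k => ζ (σ⁻¹ k)) := by
      rw [mul_inv_eq_iff_eq_mul]
      show d.base _ * d.base _ = d.base _ * d.base _
      rw [← map_mul, ← map_mul]
      congr 1
      funext k
      exact hZc _ (τ k).2 _ (ζ (σ⁻¹ k)).2
    have hwζ : d.baseT T τ * d.top σ * d.baseT Z ζ * (d.baseT T τ * d.top σ)⁻¹ =
        d.baseT Z (fun k => ζ (σ⁻¹ k)) := by
      rw [← h2, ← h1]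
      group
    calc d.baseT T τ * d.top σ * z ^ j * (d.baseT Z ζ * z ^ i) *
          (d.baseT T τ * d.top σ * z ^ j)⁻¹
        = (d.baseT T τ * d.top σ) * (z ^ j * d.baseT Z ζ) * z ^ i * (z ^ j)⁻¹ *
          (d.baseT T τ * d.top σ)⁻¹ := by group
      _ = (d.baseT T τ * d.top σ) * (d.baseT Z ζ * z ^ j) * z ^ i * (z ^ j)⁻¹ *
          (d.baseT T τ * d.top σ)⁻¹ := by rw [hzc _ j hbζ]
      _ = (d.baseT T τ * d.top σ) * d.baseT Z ζ * (z ^ i * (d.baseT T τ * d.top σ)⁻¹) := by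
          have : z ^ j * z ^ i * (z ^ j)⁻¹ = z ^ i := by
            rw [← zpow_add, ← zpow_neg, ← zpow_add]
            congr 1
            ring
          calc _ = (d.baseT T τ * d.top σ) * d.baseT Z ζ * (z ^ j * z ^ i * (z ^ j)⁻¹) *
                (d.baseT T τ * d.top σ)⁻¹ := by group
            _ = _ := by rw [this]; group
      _ = (d.baseT T τ * d.top σ) * d.baseT Z ζ * ((d.baseT T τ * d.top σ)⁻¹ * z ^ i) := by
          rw [← hzc _ i (inv_mem hw)]
      _ = d.baseT Z (fun k => ζ (σ⁻¹ k)) * z ^ i := by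
          rw [← hwζ]
          group
  · intro a ha b hb
    obtain ⟨ζ, i, rfl⟩ := (hmemD a).mp ha
    obtain ⟨ζ', i', rfl⟩ := (hmemD b).mp hb
    have hzc : ∀ (ξ : Fin m → Z) (k : ℤ), d.baseT Z ξ * z ^ k = z ^ k * d.baseT Z ξ :=
      fun ξ k => hcomm _ ⟨ξ, rfl⟩ _ (Subgroup.zpow_mem_zpowers z k)
    have hbb : d.baseT Z ζ * d.baseT Z ζ' = d.baseT Z ζ' * d.baseT Z ζ := by
      rw [← map_mul, ← map_mul]
      congr 1
      funext k
      apply Subtype.ext
      exact hZc _ (hZT (ζ k).2) _ (ζ' k).2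
    have hzz : z ^ i * z ^ i' = z ^ i' * z ^ i := by
      rw [← zpow_add, ← zpow_add, add_comm]
    calc d.baseT Z ζ * z ^ i * (d.baseT Z ζ' * z ^ i')
        = d.baseT Z ζ * (z ^ i * d.baseT Z ζ') * z ^ i' := by group
      _ = d.baseT Z ζ * (d.baseT Z ζ' * z ^ i) * z ^ i' := by rw [hzc ζ' i]
      _ = (d.baseT Z ζ * d.baseT Z ζ') * (z ^ i * z ^ i') := by group
      _ = (d.baseT Z ζ' * d.baseT Z ζ) * (z ^ i' * z ^ i) := by rw [hbb, hzz]
      _ = d.baseT Z ζ' * (d.baseT Z ζ * z ^ i') * z ^ i := by group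
      _ = d.baseT Z ζ' * (z ^ i' * d.baseT Z ζ) * z ^ i := by rw [hzc ζ i']
      _ = _ := by group
  · intro a ha
    obtain ⟨ζ, i, rfl⟩ := (hmemD a).mp ha
    have hzc : d.baseT Z ζ * z ^ i = z ^ i * d.baseT Z ζ :=
      hcomm _ ⟨ζ, rfl⟩ _ (Subgroup.zpow_mem_zpowers z i)
    have h1 : (d.baseT Z ζ) ^ 2 = 1 := by
      rw [← map_pow]
      have : ζ ^ 2 = 1 := by
        funext k
        apply Subtype.ext
        exact hZ2 _ (ζ k).2
      rw [this, map_one]
    have h2 : (z ^ i) ^ 2 = 1 := by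
      rw [← zpow_natCast, ← zpow_mul, mul_comm, zpow_mul, zpow_natCast, hz2, one_zpow]
    rw [pow_two]
    calc d.baseT Z ζ * z ^ i * (d.baseT Z ζ * z ^ i)
        = d.baseT Z ζ * (z ^ i * d.baseT Z ζ) * z ^ i := by group
      _ = d.baseT Z ζ * (d.baseT Z ζ * z ^ i) * z ^ i := by rw [hzc]
      _ = (d.baseT Z ζ * d.baseT Z ζ) * (z ^ i * z ^ i) := by simp only [mul_assoc]
      _ = 1 := by rw [← pow_two, ← pow_two, h1, h2, mul_one]

include hz2 in
theorem card_lower_ge [Finite G] (Z : Subgroup X) (hzK : z = 1 ∨ z ∉ d.model ⊤ ⊤) :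
    Nat.card Z ^ m * Nat.card (Subgroup.zpowers z) ≤
      Nat.card ((d.baseT Z).range ⊔ Subgroup.zpowers z : Subgroup G) := by
  have h1 : Nat.card (d.baseT Z).range = Nat.card Z ^ m := by
    rw [← Nat.card_congr (MonoidHom.ofInjective (d.baseT_injective Z)).toEquiv, Nat.card_fun,
      Nat.card_fin]
  rw [← h1]
  exact card_sup_zpowers_ge z hz2 _ _ (baseT_range_le_model d le_top ⊤) hzK

end Lower


section Upper

variable {X G : Type*} [Group X] [Group G] {m : ℕ} (d : WData X G m) (z : G)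
  (hz2 : z ^ 2 = 1) (hzb : ∀ g, z * d.base g = d.base g * z)
  (hzt : ∀ σ, z * d.top σ = d.top σ * z)

theorem base_mem_extModel (T : Subgroup X) (P : Subgroup (Equiv.Perm (Fin m))) (g : Fin m → X)
    (hg : ∀ i, g i ∈ T) : d.base g ∈ extModel d z T P := by
  unfold extModel
  apply le_sup_left (a := d.model T P)
  have : d.base g = d.baseT T (fun i => ⟨g i, hg i⟩) := rfl
  rw [this]
  exact baseT_mem_model d T P _

include hzb in
theorem zpow_comm_base (j : ℤ) (g : Fin m → X) : z ^ j * d.base g = d.base g * z ^ j :=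
  ((show Commute z (d.base g) from hzb g).zpow_left j).eq

include hzt in
theorem zpow_comm_top (j : ℤ) (σ : Equiv.Perm (Fin m)) : z ^ j * d.top σ = d.top σ * z ^ j :=
  ((show Commute z (d.top σ) from hzt σ).zpow_left j).eq

include hzb in
theorem conj_base_formula (g h : Fin m → X) (σ : Equiv.Perm (Fin m)) (j : ℤ) :
    (d.base g * d.top σ * z ^ j) * d.base h * (d.base g * d.top σ * z ^ j)⁻¹ =
      d.base (g * (fun k => h (σ⁻¹ k)) * g⁻¹) := by
  rw [mul_inv_eq_iff_eq_mul]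
  calc d.base g * d.top σ * z ^ j * d.base h
      = d.base g * d.top σ * (z ^ j * d.base h) := by group
    _ = d.base g * d.top σ * (d.base h * z ^ j) := by rw [zpow_comm_base d z hzb]
    _ = d.base g * (d.top σ * d.base h) * z ^ j := by group
    _ = d.base g * (d.base (fun k => h (σ⁻¹ k)) * d.top σ) * z ^ j := by rw [d.top_mul_base]
    _ = d.base (g * (fun k => h (σ⁻¹ k)) * g⁻¹) * (d.base g * d.top σ * z ^ j) := by
        rw [map_mul, map_mul, map_inv]
        group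

include hzb in
/-- (C): elements of a normal elementary abelian subgroup have trivial permutation part -/
theorem perm_eq_one_of_mem (T : Subgroup X) (P : Subgroup (Equiv.Perm (Fin m))) (E : Subgroup G)
    (hE : NEA (extModel d z T P) E) (y : X) (hyT : y ∈ T) (hy2 : y ^ 2 ≠ 1) (g : Fin m → X)
    (σ : Equiv.Perm (Fin m)) (j : ℤ) (hx : d.base g * d.top σ * z ^ j ∈ E) : σ = 1 := by
  classical
  by_contra hσ
  obtain ⟨i, hi⟩ : ∃ i, σ i ≠ i := by
    by_contra hcon
    push Not at hcon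
    exact hσ (Equiv.ext hcon)
  obtain ⟨hEW, hnorm, -, hexp⟩ := hE
  have hβT : ∀ k, (Pi.mulSingle i y : Fin m → X) k ∈ T := by
    intro k
    by_cases hk : k = i
    · subst hk
      rw [Pi.mulSingle_eq_same]
      exact hyT
    · rw [Pi.mulSingle_eq_of_ne hk]
      exact one_mem _
  have hb : d.base (Pi.mulSingle i y) ∈ extModel d z T P :=
    base_mem_extModel d z T P _ hβT
  have hu : d.base (Pi.mulSingle i y) * (d.base g * d.top σ * z ^ j) *
      (d.base (Pi.mulSingle i y))⁻¹ * (d.base g * d.top σ * z ^ j)⁻¹ ∈ E :=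
    mul_mem (hnorm _ hb _ hx) (inv_mem hx)
  have hform : d.base (Pi.mulSingle i y) * (d.base g * d.top σ * z ^ j) *
      (d.base (Pi.mulSingle i y))⁻¹ * (d.base g * d.top σ * z ^ j)⁻¹ =
      d.base (Pi.mulSingle i y * (g * (fun k => (Pi.mulSingle i y : Fin m → X)⁻¹ (σ⁻¹ k)) * g⁻¹)) := by
    have := conj_base_formula d z hzb g (Pi.mulSingle i y : Fin m → X)⁻¹ σ j
    rw [map_mul, ← this, map_inv]
    group
  rw [hform] at hu
  have h2 := hexp _ hu
  rw [← map_pow] at h2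
  have h3 := d.base_inj (h2.trans (map_one _).symm)
  have h4 := congrFun h3 i
  have hσi : σ⁻¹ i ≠ i := by
    intro h
    exact hi (Equiv.Perm.inv_eq_iff_eq.mp h).symm
  simp only [Pi.pow_apply, Pi.mul_apply, Pi.inv_apply, Pi.one_apply] at h4
  rw [Pi.mulSingle_eq_same, Pi.mulSingle_eq_of_ne hσi] at h4
  apply hy2
  simpa using h4

/-- the subgroup of base vectors occurring in `E` -/
def baseSub (hzb : ∀ g, z * d.base g = d.base g * z) (T : Subgroup X) (E : Subgroup G) :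
    Subgroup (Fin m → X) where
  carrier := {g | (∀ i, g i ∈ T) ∧ ∃ j : ℤ, d.base g * z ^ j ∈ E}
  one_mem' := ⟨fun i => one_mem _, 0, by
    rw [map_one, zpow_zero, mul_one]
    exact one_mem _⟩
  mul_mem' := by
    rintro g g' ⟨hg, j, hj⟩ ⟨hg', j', hj'⟩
    refine ⟨fun i => mul_mem (hg i) (hg' i), j + j', ?_⟩
    have : d.base (g * g') * z ^ (j + j') = (d.base g * z ^ j) * (d.base g' * z ^ j') := by
      rw [map_mul, zpow_add]
      calc d.base g * d.base g' * (z ^ j * z ^ j')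
          = d.base g * (d.base g' * z ^ j) * z ^ j' := by group
        _ = d.base g * (z ^ j * d.base g') * z ^ j' := by rw [zpow_comm_base d z hzb]
        _ = _ := by group
    rw [this]
    exact mul_mem hj hj'
  inv_mem' := by
    rintro g ⟨hg, j, hj⟩
    refine ⟨fun i => inv_mem (hg i), -j, ?_⟩
    have : d.base g⁻¹ * z ^ (-j) = (d.base g * z ^ j)⁻¹ := by
      rw [mul_inv_rev, ← zpow_neg, ← map_inv, zpow_comm_base d z hzb]
    rw [this]
    exact inv_mem hj

theorem mem_baseSub (T : Subgroup X) (E : Subgroup G) (g : Fin m → X) :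
    g ∈ baseSub d z hzb T E ↔ (∀ i, g i ∈ T) ∧ ∃ j : ℤ, d.base g * z ^ j ∈ E := Iff.rfl

theorem baseSub_conj (T : Subgroup X) (P : Subgroup (Equiv.Perm (Fin m))) (E : Subgroup G)
    (hE : NEA (extModel d z T P) E) (μ : Fin m → X) (hμ : ∀ i, μ i ∈ T) (g : Fin m → X)
    (hg : g ∈ baseSub d z hzb T E) : μ * g * μ⁻¹ ∈ baseSub d z hzb T E := by
  obtain ⟨hgT, j, hj⟩ := hg
  refine ⟨fun i => mul_mem (mul_mem (hμ i) (hgT i)) (inv_mem (hμ i)), j, ?_⟩
  have : d.base (μ * g * μ⁻¹) * z ^ j = d.base μ * (d.base g * z ^ j) * (d.base μ)⁻¹ := by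
    rw [map_mul, map_mul, map_inv]
    calc d.base μ * d.base g * (d.base μ)⁻¹ * z ^ j
        = d.base μ * d.base g * ((d.base μ⁻¹) * z ^ j) := by rw [map_inv]; group
      _ = d.base μ * d.base g * (z ^ j * (d.base μ⁻¹)) := by rw [zpow_comm_base d z hzb]
      _ = _ := by rw [map_inv]; group
  rw [this]
  exact hE.2.1 _ (base_mem_extModel d z T P μ hμ) _ hj

include hz2 in
theorem baseSub_sq (T : Subgroup X) (P : Subgroup (Equiv.Perm (Fin m))) (E : Subgroup G)
    (hE : NEA (extModel d z T P) E) (g : Fin m → X)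
    (hg : g ∈ baseSub d z hzb T E) : g ^ 2 = 1 := by
  obtain ⟨hgT, j, hj⟩ := hg
  have h1 := hE.2.2.2 _ hj
  have h2 : (d.base g * z ^ j) ^ 2 = d.base (g ^ 2) := by
    have hzj : z ^ j * z ^ j = 1 := by
      rw [← zpow_add, ← two_mul, zpow_mul, zpow_ofNat, hz2, one_zpow]
    rw [pow_two, map_pow, pow_two]
    calc d.base g * z ^ j * (d.base g * z ^ j)
        = d.base g * (z ^ j * d.base g) * z ^ j := by group
      _ = d.base g * (d.base g * z ^ j) * z ^ j := by rw [zpow_comm_base d z hzb]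
      _ = d.base g * d.base g * (z ^ j * z ^ j) := by group
      _ = _ := by rw [hzj, mul_one]
  rw [h2] at h1
  exact d.base_inj (h1.trans (map_one _).symm)

include hz2 hzb hzt in
/-- **Upper bound** for normal elementary abelian subgroups of the extended model. -/
theorem card_nea_le [Finite X] [Finite G] (T : Subgroup X) (P : Subgroup (Equiv.Perm (Fin m)))
    (hy : ∃ y ∈ T, y ^ 2 ≠ 1)
    (hU : ∀ U : Subgroup X, U ≤ T → (∀ y ∈ T, ∀ a ∈ U, y * a * y⁻¹ ∈ U) →
      (∀ a ∈ U, a ^ 2 = 1) → Nat.card U ≤ 2)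
    (E : Subgroup G) (hE : NEA (extModel d z T P) E) :
    Nat.card E ≤ 2 ^ m * Nat.card (Subgroup.zpowers z) := by
  classical
  obtain ⟨y, hyT, hy2⟩ := hy
  set A := baseSub d z hzb T E with hA
  -- coordinates
  have hUi : ∀ i : Fin m, Nat.card (A.map (Pi.evalMonoidHom (fun _ => X) i)) ≤ 2 := by
    intro i
    apply hU
    · rintro _ ⟨g, hg, rfl⟩
      exact hg.1 i
    · rintro t ht _ ⟨g, hg, rfl⟩
      have hμ : ∀ k, (Pi.mulSingle i t : Fin m → X) k ∈ T := by
        intro k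
        by_cases hk : k = i
        · subst hk
          rw [Pi.mulSingle_eq_same]
          exact ht
        · rw [Pi.mulSingle_eq_of_ne hk]
          exact one_mem _
      refine ⟨_, baseSub_conj d z hzb T P E hE _ hμ g hg, ?_⟩
      simp [Pi.mulSingle_eq_same]
    · rintro _ ⟨g, hg, rfl⟩
      have := baseSub_sq d z hz2 hzb T P E hE g hg
      have h := congrFun this i
      simpa using h
  have hAcard : Nat.card A ≤ 2 ^ m := by
    let φ : A → ∀ i : Fin m, A.map (Pi.evalMonoidHom (fun _ => X) i) := fun g i =>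
      ⟨(g : Fin m → X) i, ⟨g, g.2, rfl⟩⟩
    have hφ : Function.Injective φ := by
      intro g g' h
      apply Subtype.ext
      funext i
      have := congrFun h i
      exact congrArg Subtype.val this
    have h1 := Nat.card_le_card_of_injective φ hφ
    rw [Nat.card_pi] at h1
    calc Nat.card A ≤ ∏ i : Fin m, Nat.card (A.map (Pi.evalMonoidHom (fun _ => X) i)) := h1
      _ ≤ ∏ _i : Fin m, 2 := Finset.prod_le_prod' fun i _ => hUi i
      _ = 2 ^ m := by simp
  -- every element of E is `base g * z ^ j` with `g ∈ A`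
  have hdecomp : ∀ x : E, ∃ p : A × Subgroup.zpowers z,
      (x : G) = d.base (p.1 : Fin m → X) * (p.2 : G) := by
    rintro ⟨x, hx⟩
    obtain ⟨τ, σ, j, -, rfl⟩ := (mem_extModel_iff d z hzb hzt T P x).mp (hE.1 hx)
    have hbase : d.baseT T τ = d.base (fun i => (τ i : X)) := rfl
    rw [hbase] at hx
    have hσ := perm_eq_one_of_mem d z hzb T P E hE y hyT hy2 _ σ j hx
    subst hσ
    rw [map_one, mul_one] at hx
    refine ⟨(⟨fun i => (τ i : X), fun i => (τ i).2, j, hx⟩, ⟨z ^ j, Subgroup.zpow_mem_zpowers z j⟩), ?_⟩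
    show d.baseT T τ * d.top 1 * z ^ j = _
    rw [map_one, mul_one]
    rfl
  choose f hf using hdecomp
  have hfinj : Function.Injective f := by
    intro x x' h
    apply Subtype.ext
    rw [hf x, hf x', h]
  have hAfin : Finite A := by
    have : Finite (Fin m → X) := inferInstance
    infer_instance
  have h1 := Nat.card_le_card_of_injective f hfinj
  rw [Nat.card_prod] at h1
  exact h1.trans (Nat.mul_le_mul_right _ hAcard)

end Upper

end Cfsg.Agent.Lib.Helper67_NormalRank
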