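import Cfsg.Agent.Lib.Helper67_GL2Normal
import Cfsg.Agent.Lib.Helper67_NormalRank
import Cfsg.Agent.S2233

/-!
# Normal 2-rank of `GLₙ(F)`, `|F|` odd (helper67)

* `normal_rank_GL_three` : `|F| ≡ 3 mod 4`, every normal elementary abelian subgroup of a Sylow
  2-subgroup of `GLₙ(F)` has order at most `2^((n+1)/2)` and this is attained.
* `normal_rank_GL_one` : `|F| ≡ 1 mod 4`, the bound is `2ⁿ`.
-/

set_option autoImplicit false
set_option linter.unusedSectionVars false
set_option linter.style.haveILetI false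

namespace Cfsg.Agent.Lib.Helper67_GLNormalRank

open Matrix Cfsg.Agent.Lib.Helper67_SymSylow Cfsg.Agent.Lib.Helper67_SpSylow
  Cfsg.Agent.Lib.Helper67_WreathModel Cfsg.Agent.Lib.Helper67_GLSylow
  Cfsg.Agent.Lib.Helper67_WreathDet Cfsg.Agent.Lib.Helper67_SLSylow
  Cfsg.Agent.Lib.Helper67_GL2Normal Cfsg.Agent.Lib.Helper67_NormalRank

section Embed

variable {F : Type*} [Field F] {ι κ : Type*} [Fintype ι] [DecidableEq ι] [Fintype κ]
  [DecidableEq κ]

/-- reindexing `GL` along an equivalence of index types -/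
def reindexGL (e : ι ≃ κ) : GL ι F ≃* GL κ F :=
  Units.mapEquiv (Matrix.reindexAlgEquiv F F e).toMulEquiv

/-- block diagonal `(M, c) ↦ diag(M, c)` -/
def extHom : Matrix ι ι F × F →* Matrix (ι ⊕ Unit) (ι ⊕ Unit) F where
  toFun p := fromBlocks p.1 0 0 (diagonal fun _ => p.2)
  map_one' := by
    simp [← fromBlocks_one]
  map_mul' p q := by
    simp [fromBlocks_multiply]

theorem extHom_injective : Function.Injective (extHom (F := F) (ι := ι)) := by
  intro p q h
  have h1 := congrArg Matrix.toBlocks₁₁ h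
  have h2 := congrArg (fun M : Matrix (ι ⊕ Unit) (ι ⊕ Unit) F => M (Sum.inr ()) (Sum.inr ())) h
  simp only [extHom, MonoidHom.coe_mk, OneHom.coe_mk, toBlocks_fromBlocks₁₁,
    fromBlocks_apply₂₂, diagonal_apply_eq] at h1 h2
  exact Prod.ext h1 h2

/-- `(g, c) ↦ diag(g, c)` on general linear groups -/
def extGL : GL ι F × Fˣ →* GL (ι ⊕ Unit) F :=
  (Units.map extHom).comp MulEquiv.prodUnits.symm.toMonoidHom

theorem extGL_injective : Function.Injective (extGL (F := F) (ι := ι)) := by
  unfold extGL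
  rw [MonoidHom.coe_comp]
  exact (Units.map_injective extHom_injective).comp (MulEquiv.injective _)

end Embed

section GL2

variable {F : Type*} [Field F] [Fintype F]

theorem negOne_ne_one (hF : Odd (Fintype.card F)) : (-1 : GL (Fin 2) F) ≠ 1 := by
  intro h
  have h1 := congrArg (fun g : GL (Fin 2) F => (g : Matrix (Fin 2) (Fin 2) F) 0 0) h
  simp at h1
  exact neg_one_ne_one_of_odd' hF h1

theorem exists_sq_eq_negOne_sylow (hF : Odd (Fintype.card F)) (hq : 4 ∣ Fintype.card F + 1)
    (T : Sylow 2 (GL (Fin 2) F)) : ∃ x ∈ (T : Subgroup (GL (Fin 2) F)), x ^ 2 = -1 := by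
  have h2 := two_ne_zero_of_odd hF
  have hQcard : 8 ≤ Nat.card ((T : Subgroup (GL (Fin 2) F)) ⊓
      (Matrix.GeneralLinearGroup.det (n := Fin 2) (R := F)).ker : Subgroup (GL (Fin 2) F)) := by
    have h1 := card_inf_ker_ge hF T
    have h3 := three_le_eExp (F := F) hq
    calc 8 = 2 ^ 3 := by norm_num
      _ ≤ 2 ^ eExp F := Nat.pow_le_pow_right (by norm_num) h3
      _ ≤ _ := h1
  obtain ⟨x, hxQ, hx⟩ := exists_sq_eq_negOne h2 _
    (fun g hg => MonoidHom.mem_ker.mp (Subgroup.mem_inf.mp hg).2)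
    (T.isPGroup'.to_le inf_le_left) (by omega)
  exact ⟨x, (Subgroup.mem_inf.mp hxQ).1, hx⟩

theorem mem_zpowers_negOne (c : GL (Fin 2) F)
    (hc : c ∈ Subgroup.zpowers (-1 : GL (Fin 2) F)) : c = 1 ∨ c = -1 := by
  obtain ⟨k, rfl⟩ := Subgroup.mem_zpowers_iff.mp hc
  rcases Int.even_or_odd k with hk | hk
  · left
    exact Even.neg_one_zpow hk
  · right
    exact Odd.neg_one_zpow hk

/-- The normal-rank statement from an abstract wreath datum of the right size. -/
theorem normal_rank_of_data (hF : Odd (Fintype.card F)) (hq : 4 ∣ Fintype.card F + 1)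
    {Y : Type*} [Group Y] [Finite Y] {m : ℕ} (d : WData (GL (Fin 2) F) Y m) (z : Y)
    (hz2 : z ^ 2 = 1) (hzb : ∀ g, z * d.base g = d.base g * z)
    (hzt : ∀ σ, z * d.top σ = d.top σ * z) (hzK : z = 1 ∨ z ∉ d.model ⊤ ⊤) (c : ℕ)
    (hc : Nat.card (Subgroup.zpowers z) = 2 ^ c)
    (hcard : (Nat.card Y).factorization 2 = m * gExp F + (m.factorial).factorization 2 + c)
    (S : Sylow 2 Y) :
    (∃ E : Subgroup (S : Subgroup Y), E.Normal ∧ Cfsg.IsElementaryAbelian 2 E ∧
        2 ^ (m + c) ≤ Nat.card E) ∧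
      ∀ E : Subgroup (S : Subgroup Y), E.Normal → Cfsg.IsElementaryAbelian 2 E →
        Nat.card E ≤ 2 ^ (m + c) := by
  classical
  let T : Sylow 2 (GL (Fin 2) F) := default
  let P : Sylow 2 (Equiv.Perm (Fin m)) := default
  obtain ⟨x, hxT, hx⟩ := exists_sq_eq_negOne_sylow hF hq T
  have hne := negOne_ne_one (F := F) hF
  have hnegT : (-1 : GL (Fin 2) F) ∈ (T : Subgroup (GL (Fin 2) F)) := by
    rw [← hx]
    exact pow_mem hxT 2
  have hZT : Subgroup.zpowers (-1 : GL (Fin 2) F) ≤ (T : Subgroup (GL (Fin 2) F)) := by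
    rw [Subgroup.zpowers_le]
    exact hnegT
  have hZc : ∀ t ∈ (T : Subgroup (GL (Fin 2) F)), ∀ c ∈ Subgroup.zpowers (-1 : GL (Fin 2) F),
      t * c = c * t := by
    intro t _ c hc
    rcases mem_zpowers_negOne c hc with rfl | rfl
    · rw [mul_one, one_mul]
    · rw [neg_one_mul, mul_neg_one]
  have hZ2 : ∀ c ∈ Subgroup.zpowers (-1 : GL (Fin 2) F), c ^ 2 = 1 := by
    intro c hc
    rcases mem_zpowers_negOne c hc with rfl | rfl
    · rw [one_pow]
    · exact negOne_sq
  have hZcard : Nat.card (Subgroup.zpowers (-1 : GL (Fin 2) F)) = 2 := by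
    rw [Nat.card_zpowers]
    exact orderOf_eq_prime negOne_sq hne
  apply normal_rank_of_large (extModel d z (T : Subgroup (GL (Fin 2) F))
    (P : Subgroup (Equiv.Perm (Fin m))))
  · exact isPGroup_extModel d z hz2 hzb hzt _ _ T.isPGroup' P.isPGroup'
  · refine le_trans ?_ (card_extModel_ge d z hz2 _ _ hzK)
    rw [hcard, card_sylow_GL2 hF, card_sylow_perm, hc,
      ← Nat.factorization_def _ Nat.prime_two, pow_add, pow_add, ← pow_mul, mul_comm m]
  · refine ⟨_, nea_lower d z hz2 hzb hzt _ _ _ hZT hZc hZ2, ?_⟩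
    refine le_trans ?_ (card_lower_ge d z hz2 _ hzK)
    rw [hZcard, hc, pow_add]
  · intro E hE
    have := card_nea_le d z hz2 hzb hzt (T : Subgroup (GL (Fin 2) F))
      (P : Subgroup (Equiv.Perm (Fin m))) ⟨x, hxT, by rw [hx]; exact hne⟩
      (fun U _ hUn hU2 => card_normal_elementary_le_two hF hq T U hUn hU2) E hE
    rw [hc, ← pow_add] at this
    exact this


/-- **Normal 2-rank of `GLₙ(F)`, `|F| ≡ 3 mod 4`.** -/
theorem normal_rank_GL_three (hF : Odd (Fintype.card F)) (hq : 4 ∣ Fintype.card F + 1) (n : ℕ)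
    (S : Sylow 2 (GL (Fin n) F)) :
    (∃ E : Subgroup (S : Subgroup (GL (Fin n) F)), E.Normal ∧ Cfsg.IsElementaryAbelian 2 E ∧
        2 ^ ((n + 1) / 2) ≤ Nat.card E) ∧
      ∀ E : Subgroup (S : Subgroup (GL (Fin n) F)), E.Normal → Cfsg.IsElementaryAbelian 2 E →
        Nat.card E ≤ 2 ^ ((n + 1) / 2) := by
  classical
  rcases Nat.even_or_odd' n with ⟨m, rfl | rfl⟩
  · let e : Fin m ⊕ Fin m ≃ Fin (2 * m) := Fintype.equivOfCardEq (by simp; ring)
    let d : WData (GL (Fin 2) F) (GL (Fin (2 * m)) F) m :=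
      (glData m).comp (reindexGL e).toMonoidHom (reindexGL e).injective
    have := normal_rank_of_data hF hq d 1 (one_pow 2) (fun g => by rw [one_mul, mul_one])
      (fun σ => by rw [one_mul, mul_one]) (Or.inl rfl) 0
      (by rw [Subgroup.zpowers_one_eq_bot, Subgroup.card_bot, pow_zero])
      (by rw [val_card_GL_even hF, add_zero]) S
    have h : (2 * m + 1) / 2 = m + 0 := by omega
    rw [h]
    exact this
  · let e : (Fin m ⊕ Fin m) ⊕ Unit ≃ Fin (2 * m + 1) := Fintype.equivOfCardEq (by simp; ring)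
    let f₁ : GL (Fin m ⊕ Fin m) F →* GL ((Fin m ⊕ Fin m) ⊕ Unit) F :=
      extGL.comp (MonoidHom.inl _ _)
    have hf₁ : ∀ w, f₁ w = extGL (w, 1) := fun w => rfl
    let f : GL (Fin m ⊕ Fin m) F →* GL (Fin (2 * m + 1)) F := (reindexGL e).toMonoidHom.comp f₁
    have hfdef : ∀ w, f w = reindexGL e (extGL (w, 1)) := fun w => rfl
    have hf : Function.Injective f := by
      intro w w' h
      rw [hfdef, hfdef] at h
      have := extGL_injective ((reindexGL e).injective h)
      exact (Prod.ext_iff.mp this).1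
    let d : WData (GL (Fin 2) F) (GL (Fin (2 * m + 1)) F) m := (glData m).comp f hf
    let z : GL (Fin (2 * m + 1)) F := reindexGL e (extGL (1, -1))
    have hz2 : z ^ 2 = 1 := by
      show (reindexGL e (extGL (1, -1))) ^ 2 = 1
      rw [← map_pow, ← map_pow, Prod.pow_mk, one_pow, neg_one_sq, ← Prod.one_eq_mk, map_one,
        map_one]
    have hzf : ∀ w, z * f w = f w * z := by
      intro w
      show reindexGL e (extGL (1, -1)) * f w = f w * reindexGL e (extGL (1, -1))
      rw [hfdef, ← map_mul, ← map_mul, ← map_mul, ← map_mul, Prod.mk_mul_mk, Prod.mk_mul_mk,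
        one_mul, mul_one, one_mul, mul_one]
    have hnot : ∀ w, z ≠ f w := by
      intro w h
      have h1 : reindexGL e (extGL (1, -1)) = reindexGL e (extGL (w, 1)) := h
      have h2 := extGL_injective ((reindexGL e).injective h1)
      have h3 := (Prod.ext_iff.mp h2).2
      have h4 : (-1 : F) = 1 := by
        have := congrArg Units.val h3
        simpa using this
      exact neg_one_ne_one_of_odd' hF h4
    have hzK : z ∉ d.model ⊤ ⊤ := by
      intro hz
      obtain ⟨τ, σ, -, h⟩ := (mem_model_iff d ⊤ ⊤ z).mp hz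
      have : d.baseT ⊤ τ * d.top σ = f ((glData m).base (fun i => (τ i : GL (Fin 2) F)) *
          (glData m).top σ) := by
        rw [map_mul]
        rfl
      rw [this] at h
      exact hnot _ h
    have hz1 : z ≠ 1 := by
      intro h
      apply hzK
      rw [h]
      exact one_mem _
    have := normal_rank_of_data hF hq d z hz2 (fun g => hzf _) (fun σ => hzf _) (Or.inr hzK) 1
      (by rw [Nat.card_zpowers, orderOf_eq_prime hz2 hz1, pow_one])
      (by rw [val_card_GL_odd hF, val_sub_one_of_four_dvd _ hq]) S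
    have h : (2 * m + 1 + 1) / 2 = m + 1 := by omega
    rw [h]
    exact this

end GL2

section Monomial

variable {F : Type*} [Field F] (n : ℕ)

/-- diagonal matrices as a monoid homomorphism -/
def dgHom : (Fin n → F) →* Matrix (Fin n) (Fin n) F where
  toFun a := diagonal a
  map_one' := diagonal_one
  map_mul' a b := (diagonal_mul_diagonal a b).symm

/-- diagonal matrices in `GLₙ(F)` -/
def dgGL : (Fin n → Fˣ) →* GL (Fin n) F :=
  (Units.map (dgHom n)).comp (MulEquiv.piUnits (M := fun _ : Fin n => F)).symm.toMonoidHom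

theorem dgGL_val (u : Fin n → Fˣ) :
    ((dgGL n u : GL (Fin n) F) : Matrix (Fin n) (Fin n) F) = diagonal fun i => (u i : F) := rfl

/-- permutation matrices as a monoid homomorphism -/
def pmHom : Equiv.Perm (Fin n) →* Matrix (Fin n) (Fin n) F where
  toFun σ := pMat n σ
  map_one' := pMat_one n
  map_mul' σ τ := pMat_mul n σ τ

/-- permutation matrices in `GLₙ(F)` -/
def pmGL : Equiv.Perm (Fin n) →* GL (Fin n) F := (pmHom n).toHomUnits

theorem pmGL_val (σ : Equiv.Perm (Fin n)) :
    ((pmGL n σ : GL (Fin n) F) : Matrix (Fin n) (Fin n) F) = pMat n σ := rfl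

/-- the monomial wreath datum `Fˣ ≀ Sₙ → GLₙ(F)` -/
def monData : WData Fˣ (GL (Fin n) F) n where
  base := dgGL n
  top := pmGL n
  top_mul_base σ g := by
    apply Units.ext
    rw [Units.val_mul, Units.val_mul, dgGL_val, dgGL_val, pmGL_val]
    exact pMat_mul_diagonal n σ _
  base_inj := by
    intro g h hgh
    have h1 : (diagonal fun i => (g i : F)) = diagonal fun i => (h i : F) := by
      rw [← dgGL_val, ← dgGL_val, hgh]
    funext i
    apply Units.ext
    exact congrFun (diagonal_injective h1) i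
  eq_one_of_base_eq_top g ρ h := by
    have hm : (diagonal fun i => (g i : F)) = pMat n ρ := by
      rw [← dgGL_val, ← pmGL_val, h]
    ext j
    by_contra hne
    have hne' : ρ j ≠ j := fun e => hne (by simp [e])
    have h1 := congrFun (congrFun hm (ρ j)) j
    simp [pMat, diagonal_apply_ne _ hne'] at h1

end Monomial

section Val

theorem val_add_one_of_four_dvd (q : ℕ) (hq : 4 ∣ q - 1) (hq3 : 3 ≤ q) :
    (q + 1).factorization 2 = 1 := by
  obtain ⟨c, hc⟩ := hq
  have h1 : q + 1 = 2 * (2 * c + 1) := by omega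
  have h2 : ¬ 2 ∣ 2 * c + 1 := by omega
  rw [h1, Nat.factorization_mul (by norm_num) (by omega), Finsupp.add_apply,
    Nat.factorization_eq_zero_of_not_dvd h2, Nat.prime_two.factorization_self]

theorem val_pow_sub_one_of_four_dvd (q : ℕ) (hq : 4 ∣ q - 1) (hq3 : 3 ≤ q) (k : ℕ) (hk : k ≠ 0) :
    (q ^ k - 1).factorization 2 = (q - 1).factorization 2 + k.factorization 2 := by
  have hodd : Odd q := by
    obtain ⟨c, hc⟩ := hq
    exact ⟨2 * c, by omega⟩
  rcases Nat.even_or_odd' k with ⟨j, rfl | rfl⟩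
  · have hj : j ≠ 0 := by
      rintro rfl
      exact hk rfl
    rw [val_pow_sub_one q hodd hq3 j hj, val_add_one_of_four_dvd q hq hq3,
      Nat.factorization_mul (by norm_num) hj, Finsupp.add_apply,
      Nat.prime_two.factorization_self]
    ring
  · rw [val_odd_pow q hodd hq3 (2 * j + 1) ⟨j, rfl⟩,
      Nat.factorization_eq_zero_of_not_dvd (by omega : ¬ 2 ∣ 2 * j + 1), add_zero]

theorem val_GL_of_four_dvd (q : ℕ) (hq : 4 ∣ q - 1) (hq3 : 3 ≤ q) (n : ℕ) :
    (∏ i : Fin n, (q ^ n - q ^ (i : ℕ))).factorization 2 =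
      n * (q - 1).factorization 2 + (n.factorial).factorization 2 := by
  have hodd : Odd q := by
    obtain ⟨c, hc⟩ := hq
    exact ⟨2 * c, by omega⟩
  rw [val_prod_GL q hodd hq3, val_factorial]
  have hpt : ∀ k ∈ Finset.range n, (q ^ (k + 1) - 1).factorization 2 =
      (q - 1).factorization 2 + (k + 1).factorization 2 := by
    intro k _
    exact val_pow_sub_one_of_four_dvd q hq hq3 (k + 1) (by omega)
  rw [Finset.sum_congr rfl hpt, Finset.sum_add_distrib, Finset.sum_const, Finset.card_range,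
    smul_eq_mul]

end Val

section GLOne

variable {F : Type*} [Field F] [Fintype F]

theorem val_card_GL_of_four_dvd (hF : Odd (Fintype.card F)) (hq : 4 ∣ Fintype.card F - 1)
    (n : ℕ) :
    (Nat.card (GL (Fin n) F)).factorization 2 =
      n * (Fintype.card F - 1).factorization 2 + (n.factorial).factorization 2 := by
  rw [Matrix.card_GL_field, val_GL_of_four_dvd _ hq (three_le_card hF)]

/-- elementary abelian `2`-subgroups of `GLₙ(F)` have order at most `2ⁿ` -/
theorem card_elementary_GL_le (hF : Odd (Fintype.card F)) (n : ℕ) (E : Subgroup (GL (Fin n) F))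
    (hcomm : ∀ a ∈ E, ∀ b ∈ E, a * b = b * a) (hexp : ∀ a ∈ E, a ^ 2 = 1) :
    Nat.card E ≤ 2 ^ n := by
  classical
  let e : Fin n ⊕ Unit ≃ Fin (n + 1) := Fintype.equivOfCardEq (by simp)
  let f : GL (Fin n) F →* Matrix.SpecialLinearGroup (Fin (n + 1)) F :=
    (reindexSL e).comp glToSL
  have hf : Function.Injective f := (reindexSL_injective e).comp glToSL_injective
  have h1 := Cfsg.Agent.S2233.upper hF (n + 1) (by omega) (E.map f)
    ⟨⟨by
      rintro ⟨_, a, ha, rfl⟩ ⟨_, b, hb, rfl⟩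
      apply Subtype.ext
      show f a * f b = f b * f a
      rw [← map_mul, ← map_mul, hcomm a ha b hb]⟩⟩
    (by
      rintro _ ⟨a, ha, rfl⟩
      rw [← map_pow, hexp a ha, map_one])
  rw [Subgroup.card_map_of_injective hf] at h1
  exact h1

theorem negOneU_ne_one (hF : Odd (Fintype.card F)) : (-1 : Fˣ) ≠ 1 := by
  intro h
  have := congrArg Units.val h
  exact neg_one_ne_one_of_odd' hF (by simpa using this)

theorem mem_zpowers_negOneU (c : Fˣ) (hc : c ∈ Subgroup.zpowers (-1 : Fˣ)) : c = 1 ∨ c = -1 := by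
  obtain ⟨k, rfl⟩ := Subgroup.mem_zpowers_iff.mp hc
  rcases Int.even_or_odd k with hk | hk
  · left
    exact Even.neg_one_zpow hk
  · right
    exact Odd.neg_one_zpow hk

/-- **Normal 2-rank of `GLₙ(F)`, `|F| ≡ 1 mod 4`.** -/
theorem normal_rank_GL_one (hF : Odd (Fintype.card F)) (hq : 4 ∣ Fintype.card F - 1) (n : ℕ)
    (S : Sylow 2 (GL (Fin n) F)) :
    (∃ E : Subgroup (S : Subgroup (GL (Fin n) F)), E.Normal ∧ Cfsg.IsElementaryAbelian 2 E ∧
        2 ^ n ≤ Nat.card E) ∧
      ∀ E : Subgroup (S : Subgroup (GL (Fin n) F)), E.Normal → Cfsg.IsElementaryAbelian 2 E →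
        Nat.card E ≤ 2 ^ n := by
  classical
  have hne := negOneU_ne_one (F := F) hF
  have hZ2 : ∀ c ∈ Subgroup.zpowers (-1 : Fˣ), c ^ 2 = 1 := by
    intro c hc
    rcases mem_zpowers_negOneU c hc with rfl | rfl
    · rw [one_pow]
    · exact neg_one_sq
  have hZp : IsPGroup 2 (Subgroup.zpowers (-1 : Fˣ)) := by
    intro ⟨c, hc⟩
    refine ⟨1, ?_⟩
    apply Subtype.ext
    show c ^ 2 ^ 1 = 1
    rw [pow_one]
    exact hZ2 c hc
  obtain ⟨T, hZT⟩ := hZp.exists_le_sylow
  let P : Sylow 2 (Equiv.Perm (Fin n)) := default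
  have hZcard : Nat.card (Subgroup.zpowers (-1 : Fˣ)) = 2 := by
    rw [Nat.card_zpowers]
    exact orderOf_eq_prime neg_one_sq hne
  have hTcard : Nat.card T = 2 ^ (Fintype.card F - 1).factorization 2 := by
    rw [T.card_eq_multiplicity, Nat.card_units, Nat.card_eq_fintype_card]
  let d : WData Fˣ (GL (Fin n) F) n := monData n
  have hz2 : (1 : GL (Fin n) F) ^ 2 = 1 := one_pow 2
  have hzb : ∀ g, (1 : GL (Fin n) F) * d.base g = d.base g * 1 := fun g => by
    rw [one_mul, mul_one]
  have hzt : ∀ σ, (1 : GL (Fin n) F) * d.top σ = d.top σ * 1 := fun σ => by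
    rw [one_mul, mul_one]
  have hc1 : Nat.card (Subgroup.zpowers (1 : GL (Fin n) F)) = 1 := by
    rw [Subgroup.zpowers_one_eq_bot, Subgroup.card_bot]
  apply normal_rank_of_large (extModel d 1 (T : Subgroup Fˣ) (P : Subgroup (Equiv.Perm (Fin n))))
  · exact isPGroup_extModel d 1 hz2 hzb hzt _ _ T.isPGroup' P.isPGroup'
  · refine le_trans ?_ (card_extModel_ge d 1 hz2 _ _ (Or.inl rfl))
    rw [val_card_GL_of_four_dvd hF hq, hTcard, card_sylow_perm, hc1, mul_one,
      ← Nat.factorization_def _ Nat.prime_two, pow_add, ← pow_mul, mul_comm n]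
  · refine ⟨_, nea_lower d 1 hz2 hzb hzt _ _ _ hZT (fun t _ c _ => mul_comm t c) hZ2, ?_⟩
    refine le_trans ?_ (card_lower_ge d 1 hz2 _ (Or.inl rfl))
    rw [hZcard, hc1, mul_one]
  · intro E hE
    exact card_elementary_GL_le hF n E hE.2.2.1 hE.2.2.2

end GLOne

end Cfsg.Agent.Lib.Helper67_GLNormalRank
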