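import Mathlib
import Cfsg.Agent.Lib.Helper67_SymSylow
import Cfsg.Agent.Lib.Helper5_SpOrder
import Cfsg.Agent.Lib.Helper35_PSL2Card
import Cfsg.Agent.S0261

/-!
# Sylow 2-subgroups of `Sp₂ₙ(q)`, `q` odd (helper67)

Monomial model `Tⁿ ⋊ P` inside `Matrix.symplecticGroup (Fin n) F`, with `T` a Sylow 2-subgroup of
`SL₂(F)` and `P` a Sylow 2-subgroup of `Perm (Fin n)`.
-/

set_option autoImplicit false
set_option linter.style.haveILetI false
set_option linter.unusedSectionVars false

namespace Cfsg.Agent.Lib.Helper67_SpSylow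

open Cfsg.Agent.Lib.Helper67_SymSylow

section EPred

variable {G G' : Type*} [Group G] [Group G']

/-- type-level: the abelianization has exponent dividing `p` -/
def ET (p : ℕ) (X : Type*) [Group X] : Prop := ∀ x : X, x ^ p ∈ commutator X

/-- subgroup-level version -/
def ESub (p : ℕ) (H : Subgroup G) : Prop := ∀ x ∈ H, x ^ p ∈ ⁅H, H⁆

theorem eSub_iff_eT (p : ℕ) (H : Subgroup G) : ESub p H ↔ ET p H := by
  constructor
  · intro h x
    have hx := h x.1 x.2
    rw [← Subgroup.map_subtype_commutator] at hx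
    obtain ⟨y, hy, hyx⟩ := hx
    have : y = x ^ p := Subtype.ext (by simpa using hyx)
    rwa [← this]
  · intro h x hx
    have := h ⟨x, hx⟩
    rw [← Subgroup.map_subtype_commutator]
    exact ⟨_, this, by simp⟩

theorem ET.of_surjective {p : ℕ} {X Y : Type*} [Group X] [Group Y] (f : X →* Y)
    (hf : Function.Surjective f) (h : ET p X) : ET p Y := by
  intro y
  obtain ⟨x, rfl⟩ := hf y
  rw [← map_pow]
  have h1 : (commutator X).map f ≤ commutator Y := by
    rw [commutator_def, commutator_def, Subgroup.map_commutator]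
    exact Subgroup.commutator_mono le_top le_top
  exact h1 (Subgroup.mem_map_of_mem f (h x))

theorem ET.of_mulEquiv {p : ℕ} {X Y : Type*} [Group X] [Group Y] (e : X ≃* Y) (h : ET p X) :
    ET p Y :=
  ET.of_surjective e.toMonoidHom e.surjective h

theorem ET.pi {p : ℕ} {ι : Type*} [Finite ι] {X : ι → Type*} [∀ i, Group (X i)]
    (h : ∀ i, ET p (X i)) : ET p (∀ i, X i) := by
  intro x
  have h1 : commutator (∀ i, X i) = Subgroup.pi Set.univ fun i => commutator (X i) := by
    have := Subgroup.commutator_pi_pi_of_finite (fun i => (⊤ : Subgroup (X i)))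
      (fun i => (⊤ : Subgroup (X i)))
    simpa [commutator_def, Subgroup.pi_top] using this
  rw [h1, Subgroup.mem_pi]
  intro i _
  exact h i (x i)

theorem ESub.map {p : ℕ} {H : Subgroup G} (h : ESub p H) (f : G →* G') : ESub p (H.map f) := by
  rintro _ ⟨x, hx, rfl⟩
  rw [← map_pow, ← Subgroup.map_commutator]
  exact Subgroup.mem_map_of_mem f (h x hx)

/-- a subgroup generated by subgroups with property `E` has property `E` -/
theorem eSub_of_le_sSup {p : ℕ} (L : Subgroup G) (𝒮 : Set (Subgroup G))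
    (h𝒮 : ∀ H ∈ 𝒮, H ≤ L ∧ ESub p H) (hL : L ≤ sSup 𝒮) : ESub p L := by
  -- kernel of `x ↦ (of x)^p` on `L`
  let φ : L →* Abelianization L := (powMonoidHom p).comp Abelianization.of
  have hker : ∀ y : L, y ∈ φ.ker ↔ y ^ p ∈ commutator L := by
    intro y
    simp only [φ, MonoidHom.mem_ker, MonoidHom.comp_apply, powMonoidHom_apply]
    rw [← map_pow, ← MonoidHom.mem_ker, Abelianization.ker_of]
  have h1 : sSup 𝒮 ≤ φ.ker.map L.subtype := by
    apply sSup_le
    intro H hH x hx
    obtain ⟨hHL, hE⟩ := h𝒮 H hH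
    refine ⟨⟨x, hHL hx⟩, ?_, rfl⟩
    rw [SetLike.mem_coe, hker]
    have h2 := hE x hx
    have h3 : ⁅H, H⁆ ≤ ⁅L, L⁆ := Subgroup.commutator_mono hHL hHL
    have h4 := h3 h2
    rw [← Subgroup.map_subtype_commutator] at h4
    obtain ⟨y, hy, hyx⟩ := h4
    have : y = (⟨x, hHL hx⟩ : L) ^ p := Subtype.ext (by simpa using hyx)
    rwa [← this]
  intro x hx
  obtain ⟨y, hy, hyx⟩ := h1 (hL hx)
  rw [SetLike.mem_coe, hker] at hy
  rw [← Subgroup.map_subtype_commutator]
  exact ⟨_, hy, by simp [← hyx]⟩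

theorem ESub.sup {p : ℕ} {H K : Subgroup G} (hH : ESub p H) (hK : ESub p K) :
    ESub p (H ⊔ K) := by
  apply eSub_of_le_sSup (H ⊔ K) {H, K}
  · intro X hX
    rcases hX with rfl | rfl
    · exact ⟨le_sup_left, hH⟩
    · exact ⟨le_sup_right, hK⟩
  · rw [sSup_pair]

theorem GenPowSub.eSub {p : ℕ} {H : Subgroup G} (h : GenPowSub p H) : ESub p H := by
  rw [eSub_iff_eT]
  intro x
  exact h.pow_mem_commutator x

/-- transfer from one large `p`-subgroup to all Sylow `p`-subgroups -/
theorem eSub_sylow_of_large [Finite G] (p : ℕ) [Fact p.Prime]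
    (H : Subgroup G) (hH : IsPGroup p H)
    (hcard : p ^ (Nat.card G).factorization p ≤ Nat.card H) (hE : ESub p H)
    (P : Sylow p G) : ESub p (P : Subgroup G) := by
  obtain ⟨Q, hQ⟩ := hH.exists_le_sylow
  have hHQ : H = Q := by
    apply Subgroup.eq_of_le_of_card_ge hQ
    rw [Q.card_eq_multiplicity]
    exact hcard
  obtain ⟨g, rfl⟩ := MulAction.exists_smul_eq G Q P
  rw [Sylow.coe_subgroup_smul, Subgroup.pointwise_smul_def, ← hHQ]
  exact hE.map _

end EPred

section Quaternion

open scoped commutatorElement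

theorem eT_quaternion (m : ℕ) : ET 2 (QuaternionGroup (2 * m)) := by
  intro x
  have hmem : ∀ i : ZMod (2 * (2 * m)),
      QuaternionGroup.a (2 * i) ∈ commutator (QuaternionGroup (2 * m)) := by
    intro i
    have : QuaternionGroup.a (2 * i) =
        ⁅(QuaternionGroup.a i : QuaternionGroup (2 * m)), QuaternionGroup.xa 0⁆ := by
      have h1 : (QuaternionGroup.a (2 * i) : QuaternionGroup (2 * m)) *
          (QuaternionGroup.xa 0 * QuaternionGroup.a i)
          = QuaternionGroup.a i * QuaternionGroup.xa 0 := by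
        rw [QuaternionGroup.xa_mul_a, QuaternionGroup.a_mul_xa, QuaternionGroup.a_mul_xa]
        congr 1
        ring
      rw [commutatorElement_def, ← h1]
      group
    rw [this]
    exact Subgroup.commutator_mem_commutator (Subgroup.mem_top _) (Subgroup.mem_top _)
  cases x with
  | a i =>
    have : (QuaternionGroup.a i : QuaternionGroup (2 * m)) ^ 2 = QuaternionGroup.a (2 * i) := by
      rw [pow_two, QuaternionGroup.a_mul_a]
      congr 1
      ring
    rw [this]
    exact hmem i
  | xa i =>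
    have : (QuaternionGroup.xa i : QuaternionGroup (2 * m)) ^ 2 =
        QuaternionGroup.a (2 * (m : ZMod (2 * (2 * m)))) := by
      rw [QuaternionGroup.xa_sq]
      congr 1
      push_cast
      ring
    rw [this]
    exact hmem _

end Quaternion


open Matrix

section Model

variable {F : Type*} [Field F] (n : ℕ)

/-- the block matrix of a family of `2 × 2` matrices -/
def baseMat (g : Fin n → Matrix.SpecialLinearGroup (Fin 2) F) :
    Matrix (Fin n ⊕ Fin n) (Fin n ⊕ Fin n) F :=
  fromBlocks (diagonal fun i => (g i : Matrix (Fin 2) (Fin 2) F) 0 0)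
    (diagonal fun i => (g i : Matrix (Fin 2) (Fin 2) F) 0 1)
    (diagonal fun i => (g i : Matrix (Fin 2) (Fin 2) F) 1 0)
    (diagonal fun i => (g i : Matrix (Fin 2) (Fin 2) F) 1 1)

theorem baseMat_mem (g : Fin n → Matrix.SpecialLinearGroup (Fin 2) F) :
    baseMat n g ∈ symplecticGroup (Fin n) F := by
  unfold baseMat
  rw [SymplecticGroup.fromBlocks_mem_iff]
  refine ⟨?_, ?_, ?_⟩
  · simp only [diagonal_transpose, diagonal_mul_diagonal]
    congr 1
    funext i
    ring
  · simp only [diagonal_transpose, diagonal_mul_diagonal]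
    congr 1
    funext i
    ring
  · simp only [diagonal_transpose, diagonal_mul_diagonal]
    ext i j
    by_cases hij : i = j
    · subst hij
      have := (g i).det_coe
      rw [Matrix.det_fin_two] at this
      simp only [Matrix.sub_apply, Matrix.diagonal_apply_eq, Matrix.one_apply_eq]
      linear_combination this
    · simp [Matrix.sub_apply, Matrix.diagonal_apply_ne _ hij, Matrix.one_apply_ne hij]

theorem baseMat_mul (g h : Fin n → Matrix.SpecialLinearGroup (Fin 2) F) :
    baseMat n (g * h) = baseMat n g * baseMat n h := by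
  unfold baseMat
  rw [fromBlocks_multiply]
  simp only [diagonal_mul_diagonal, diagonal_add, Pi.mul_apply, Matrix.SpecialLinearGroup.coe_mul,
    Matrix.mul_apply, Fin.sum_univ_two]

theorem baseMat_one : baseMat n (1 : Fin n → Matrix.SpecialLinearGroup (Fin 2) F) = 1 := by
  unfold baseMat
  simp [← fromBlocks_one]

/-- the base homomorphism `SL₂(F)ⁿ → Sp₂ₙ(F)` -/
def baseHom : (Fin n → Matrix.SpecialLinearGroup (Fin 2) F) →* symplecticGroup (Fin n) F where
  toFun g := ⟨baseMat n g, baseMat_mem n g⟩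
  map_one' := Subtype.ext (baseMat_one n)
  map_mul' g h := Subtype.ext (baseMat_mul n g h)

/-- permutation matrix sending `e_j` to `e_{σ j}` -/
def pMat (σ : Equiv.Perm (Fin n)) : Matrix (Fin n) (Fin n) F :=
  Matrix.of fun i j => if σ j = i then 1 else 0

theorem pMat_mul (σ τ : Equiv.Perm (Fin n)) : (pMat n (σ * τ) : Matrix (Fin n) (Fin n) F) = pMat n σ * pMat n τ := by
  ext i j
  simp only [pMat, Matrix.of_apply, Matrix.mul_apply, Equiv.Perm.coe_mul, Function.comp_apply]
  rw [Finset.sum_eq_single (τ j)]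
  · by_cases h : σ (τ j) = i <;> simp [h]
  · intro k _ hk
    simp [hk.symm]
  · simp

theorem pMat_one : (pMat n 1 : Matrix (Fin n) (Fin n) F) = 1 := by
  ext i j
  simp [pMat, Matrix.one_apply, eq_comm]

theorem pMat_transpose_mul (σ : Equiv.Perm (Fin n)) :
    (pMat n σ : Matrix (Fin n) (Fin n) F)ᵀ * pMat n σ = 1 := by
  ext i j
  simp only [pMat, Matrix.mul_apply, Matrix.transpose_apply, Matrix.of_apply, Matrix.one_apply]
  rw [Finset.sum_eq_single (σ i)]
  · simp [eq_comm]
  · intro k _ hk
    simp [hk.symm]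
  · simp

def topMat (σ : Equiv.Perm (Fin n)) : Matrix (Fin n ⊕ Fin n) (Fin n ⊕ Fin n) F :=
  fromBlocks (pMat n σ) 0 0 (pMat n σ)

theorem topMat_mem (σ : Equiv.Perm (Fin n)) : (topMat n σ : Matrix _ _ F) ∈ symplecticGroup (Fin n) F := by
  unfold topMat
  rw [SymplecticGroup.fromBlocks_mem_iff]
  refine ⟨by simp, by simp, ?_⟩
  simp [pMat_transpose_mul]

/-- the top homomorphism `Sₙ → Sp₂ₙ(F)` -/
def topHom : Equiv.Perm (Fin n) →* symplecticGroup (Fin n) F where
  toFun σ := ⟨topMat n σ, topMat_mem n σ⟩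
  map_one' := by
    apply Subtype.ext
    simp [topMat, pMat_one, fromBlocks_one]
  map_mul' σ τ := by
    apply Subtype.ext
    simp [topMat, pMat_mul, fromBlocks_multiply]

theorem pMat_mul_diagonal (σ : Equiv.Perm (Fin n)) (a : Fin n → F) :
    pMat n σ * diagonal a = diagonal (fun i => a (σ⁻¹ i)) * pMat n σ := by
  ext i j
  simp only [pMat, Matrix.mul_diagonal, Matrix.diagonal_mul, Matrix.of_apply]
  by_cases h : σ j = i
  · subst h
    simp
  · simp [h]

theorem top_mul_base (σ : Equiv.Perm (Fin n)) (g : Fin n → Matrix.SpecialLinearGroup (Fin 2) F) :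
    topHom n σ * baseHom n g = baseHom n (fun i => g (σ⁻¹ i)) * topHom n σ := by
  apply Subtype.ext
  simp only [Submonoid.coe_mul, topHom, baseHom, MonoidHom.coe_mk, OneHom.coe_mk, topMat, baseMat,
    fromBlocks_multiply, Matrix.zero_mul, Matrix.mul_zero, add_zero, zero_add, pMat_mul_diagonal]


theorem baseHom_injective : Function.Injective (baseHom (F := F) n) := by
  intro g h hgh
  have hm : baseMat n g = baseMat n h := congrArg Subtype.val hgh
  funext i
  apply Matrix.SpecialLinearGroup.ext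
  intro a b
  have h00 := congrFun (congrFun hm (Sum.inl i)) (Sum.inl i)
  have h01 := congrFun (congrFun hm (Sum.inl i)) (Sum.inr i)
  have h10 := congrFun (congrFun hm (Sum.inr i)) (Sum.inl i)
  have h11 := congrFun (congrFun hm (Sum.inr i)) (Sum.inr i)
  simp only [baseMat, fromBlocks_apply₁₁, fromBlocks_apply₁₂, fromBlocks_apply₂₁,
    fromBlocks_apply₂₂, diagonal_apply_eq] at h00 h01 h10 h11
  fin_cases a <;> fin_cases b <;> assumption

theorem eq_one_of_base_eq_top (g : Fin n → Matrix.SpecialLinearGroup (Fin 2) F)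
    (ρ : Equiv.Perm (Fin n)) (h : baseHom n g = topHom n ρ) : ρ = 1 := by
  have hm : baseMat n g = topMat n ρ := congrArg Subtype.val h
  ext j
  by_contra hne
  have hne' : ρ j ≠ j := fun e => hne (by simp [e])
  have h1 := congrFun (congrFun hm (Sum.inl (ρ j))) (Sum.inl j)
  simp [baseMat, topMat, pMat, diagonal_apply_ne _ hne'] at h1

/-- the base homomorphism restricted to a subgroup `T` of `SL₂(F)` -/
def baseHomT (T : Subgroup (Matrix.SpecialLinearGroup (Fin 2) F)) :
    (Fin n → T) →* symplecticGroup (Fin n) F where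
  toFun t := baseHom n fun i => (t i : Matrix.SpecialLinearGroup (Fin 2) F)
  map_one' := by
    rw [← map_one (baseHom n)]
    rfl
  map_mul' t t' := by
    rw [← map_mul (baseHom n)]
    rfl

theorem baseHomT_injective (T : Subgroup (Matrix.SpecialLinearGroup (Fin 2) F)) :
    Function.Injective (baseHomT n T) := by
  intro t t' h
  have := baseHom_injective n h
  funext i
  exact Subtype.ext (congrFun this i)

/-- the model subgroup `Tⁿ ⋊ P` of `Sp₂ₙ(F)` -/
def modelSub (T : Subgroup (Matrix.SpecialLinearGroup (Fin 2) F))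
    (P : Subgroup (Equiv.Perm (Fin n))) : Subgroup (symplecticGroup (Fin n) F) :=
  (baseHomT n T).range ⊔ P.map (topHom n)

theorem top_conj_baseT (T : Subgroup (Matrix.SpecialLinearGroup (Fin 2) F))
    (σ : Equiv.Perm (Fin n)) (t : Fin n → T) :
    topHom n σ * baseHomT n T t * (topHom n σ)⁻¹ = baseHomT n T (fun i => t (σ⁻¹ i)) := by
  rw [mul_inv_eq_iff_eq_mul]
  exact top_mul_base n σ _

theorem card_modelSub_ge [Finite F] (T : Subgroup (Matrix.SpecialLinearGroup (Fin 2) F))
    (P : Subgroup (Equiv.Perm (Fin n))) :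
    Nat.card T ^ n * Nat.card P ≤ Nat.card (modelSub n T P) := by
  classical
  let φ : (Fin n → T) × P → modelSub n T P := fun x =>
    ⟨baseHomT n T x.1 * topHom n x.2,
      mul_mem (le_sup_left (a := (baseHomT n T).range) (b := P.map (topHom n)) ⟨x.1, rfl⟩)
        (le_sup_right (a := (baseHomT n T).range) (b := P.map (topHom n))
          (Subgroup.mem_map_of_mem _ x.2.2))⟩
  have hφ : Function.Injective φ := by
    rintro ⟨t, ⟨σ, hσ⟩⟩ ⟨t', ⟨σ', hσ'⟩⟩ h
    have h1 : baseHomT n T t * topHom n σ = baseHomT n T t' * topHom n σ' := by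
      simpa [φ] using congrArg Subtype.val h
    have h2 : baseHomT n T (t'⁻¹ * t) = topHom n (σ' * σ⁻¹) := by
      rw [map_mul, map_mul, map_inv, map_inv]
      rw [inv_mul_eq_iff_eq_mul, ← mul_assoc, eq_mul_inv_iff_mul_eq]
      exact h1
    have h3 : σ' * σ⁻¹ = 1 := eq_one_of_base_eq_top n _ _ h2
    have h4 : σ' = σ := by
      rw [mul_inv_eq_one] at h3
      exact h3
    subst h4
    have h5 : t = t' := by
      apply baseHomT_injective n T
      exact mul_right_cancel h1
    subst h5
    rfl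
  haveI : Finite (symplecticGroup (Fin n) F) := by
    haveI : Finite (Matrix (Fin n ⊕ Fin n) (Fin n ⊕ Fin n) F) := Matrix.instFinite _
    exact Subtype.finite
  have := Nat.card_le_card_of_injective φ hφ
  rwa [Nat.card_prod, Nat.card_fun, Nat.card_fin] at this

end Model

section Val

/-- 2-adic valuation of `q^(2k) - 1` for odd `q` -/
theorem val_pow_sub_one (q : ℕ) (hq : Odd q) (hq3 : 3 ≤ q) (k : ℕ) (hk : k ≠ 0) :
    (q ^ (2 * k) - 1).factorization 2 =
      (q - 1).factorization 2 + (q + 1).factorization 2 + k.factorization 2 := by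
  simp only [Nat.factorization_def _ Nat.prime_two]
  have h2q : ¬ 2 ∣ q := by
    rcases hq with ⟨r, rfl⟩
    omega
  have hd : 2 ∣ q - 1 := by
    rcases hq with ⟨r, rfl⟩
    omega
  have h := padicValNat.pow_two_sub_pow (x := q) (y := 1) (by omega) hd h2q
    (n := 2 * k) (by omega) (even_two_mul k)
  rw [one_pow] at h
  have h2 : padicValNat 2 (2 * k) = 1 + padicValNat 2 k := by
    rw [padicValNat.mul two_ne_zero hk, padicValNat_self]
  rw [h2] at h
  omega

theorem val_factorial (n : ℕ) :
    (n.factorial).factorization 2 = ∑ i ∈ Finset.range n, (i + 1).factorization 2 := by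
  rw [← Finset.prod_range_add_one_eq_factorial, Nat.factorization_prod_apply]
  intro x _
  omega

theorem val_card_sp (q : ℕ) (hq : Odd q) (hq3 : 3 ≤ q) (n : ℕ) :
    (q ^ (n ^ 2) * ∏ i ∈ Finset.range n, (q ^ (2 * (i + 1)) - 1)).factorization 2 =
      n * ((q - 1).factorization 2 + (q + 1).factorization 2) + (n.factorial).factorization 2 := by
  have hq0 : q ≠ 0 := by omega
  have hne : ∀ i ∈ Finset.range n, q ^ (2 * (i + 1)) - 1 ≠ 0 := by
    intro i _
    have : 1 < q ^ (2 * (i + 1)) := Nat.one_lt_pow (by omega) (by omega)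
    omega
  have hprod : (∏ i ∈ Finset.range n, (q ^ (2 * (i + 1)) - 1)) ≠ 0 :=
    Finset.prod_ne_zero_iff.mpr hne
  rw [Nat.factorization_mul (pow_ne_zero _ hq0) hprod, Finsupp.add_apply,
    Nat.factorization_pow, Finsupp.smul_apply, Nat.factorization_prod_apply hne, val_factorial]
  have hq2 : q.factorization 2 = 0 := by
    apply Nat.factorization_eq_zero_of_not_dvd
    rcases hq with ⟨r, rfl⟩
    omega
  rw [hq2, smul_zero, zero_add]
  rw [Finset.sum_congr rfl (fun i _ => val_pow_sub_one q hq hq3 (i + 1) (by omega))]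
  rw [Finset.sum_add_distrib, Finset.sum_const, Finset.card_range, smul_eq_mul]

end Val


section Main

variable {F : Type*} [Field F] [Fintype F]

instance finite_sp (n : ℕ) : Finite (symplecticGroup (Fin n) F) := by
  haveI : Finite (Matrix (Fin n ⊕ Fin n) (Fin n ⊕ Fin n) F) := Matrix.instFinite _
  exact Subtype.finite

theorem three_le_card (hF : Odd (Fintype.card F)) : 3 ≤ Fintype.card F := by
  have h1 : 1 < Fintype.card F := Fintype.one_lt_card
  rcases hF with ⟨r, hr⟩
  omega

/-- the exponent `e = ν₂(q² - 1)` -/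
noncomputable def eExp (F : Type*) [Fintype F] : ℕ :=
  (Fintype.card F - 1).factorization 2 + (Fintype.card F + 1).factorization 2

theorem val_card_SL2 (hF : Odd (Fintype.card F)) :
    (Nat.card (Matrix.SpecialLinearGroup (Fin 2) F)).factorization 2 = eExp F := by
  have hq3 := three_le_card hF
  set q := Fintype.card F with hq
  have h1 := Cfsg.Agent.Lib.Helper35_PSL2Card.card_SL2_mul (F := F)
  rw [← hq] at h1
  have h2 : q ^ 2 - q = q * (q - 1) := by
    rw [Nat.mul_sub_one, sq]
  have h3 : Nat.card (Matrix.SpecialLinearGroup (Fin 2) F) = (q ^ 2 - 1) * q := by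
    rw [h2, ← mul_assoc] at h1
    exact Nat.eq_of_mul_eq_mul_right (by omega) h1
  rw [h3]
  have hne : q ^ 2 - 1 ≠ 0 := by
    have : 1 < q ^ 2 := Nat.one_lt_pow (by omega) (by omega)
    omega
  rw [Nat.factorization_mul hne (by omega), Finsupp.add_apply]
  have hq2 : q.factorization 2 = 0 := by
    apply Nat.factorization_eq_zero_of_not_dvd
    rcases hF with ⟨r, hr⟩
    omega
  have := val_pow_sub_one q hF hq3 1 one_ne_zero
  rw [mul_one] at this
  rw [hq2, this]
  simp [eExp, hq]

theorem card_sylow_SL2 (hF : Odd (Fintype.card F))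
    (T : Sylow 2 (Matrix.SpecialLinearGroup (Fin 2) F)) : Nat.card T = 2 ^ eExp F := by
  rw [T.card_eq_multiplicity, val_card_SL2 hF]

theorem val_card_Sp (hF : Odd (Fintype.card F)) (n : ℕ) :
    (Nat.card (symplecticGroup (Fin n) F)).factorization 2 =
      n * eExp F + (n.factorial).factorization 2 := by
  rw [Cfsg.Agent.Lib.Helper5_SpOrder.card_sp rfl n, val_card_sp _ hF (three_le_card hF)]
  rfl

theorem eT_sylow_SL2 (hF : Odd (Fintype.card F))
    (T : Sylow 2 (Matrix.SpecialLinearGroup (Fin 2) F)) :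
    ET 2 (T : Subgroup (Matrix.SpecialLinearGroup (Fin 2) F)) := by
  obtain ⟨k, hk, ⟨e⟩⟩ := Cfsg.Agent.S0261.result hF T
  obtain ⟨k', rfl⟩ : ∃ k', k = k' + 1 := ⟨k - 1, by omega⟩
  have h := eT_quaternion (2 ^ k')
  rw [← pow_succ'] at h
  exact ET.of_mulEquiv e.symm h

theorem isPGroup_modelSub (n : ℕ) (T : Subgroup (Matrix.SpecialLinearGroup (Fin 2) F))
    (P : Subgroup (Equiv.Perm (Fin n))) (hT : IsPGroup 2 T) (hP : IsPGroup 2 P) :
    IsPGroup 2 (modelSub n T P) := by
  unfold modelSub
  apply IsPGroup.to_sup_of_normal_left'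
  · obtain ⟨k, hk⟩ := (IsPGroup.iff_card (p := 2) (G := T)).mp hT
    have h1 : IsPGroup 2 (Fin n → T) := by
      apply IsPGroup.of_card (n := k * n)
      rw [Nat.card_fun, Nat.card_fin, hk, ← pow_mul]
    rw [MonoidHom.range_eq_map]
    exact (h1.to_subgroup ⊤).map _
  · exact hP.map _
  · rintro _ ⟨σ, -, rfl⟩
    apply Subgroup.mem_normalizer_fintype
    rintro _ ⟨t, rfl⟩
    rw [top_conj_baseT]
    exact ⟨_, rfl⟩

theorem eSub_modelSub (n : ℕ) (T : Subgroup (Matrix.SpecialLinearGroup (Fin 2) F))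
    (P : Subgroup (Equiv.Perm (Fin n))) (hT : ET 2 T) (hP : ESub 2 P) :
    ESub 2 (modelSub n T P) := by
  unfold modelSub
  apply ESub.sup
  · rw [eSub_iff_eT]
    exact ET.of_surjective (baseHomT n T).rangeRestrict
      (MonoidHom.rangeRestrict_surjective _) (ET.pi fun _ => hT)
  · exact hP.map _

/-- the model is large enough to be a Sylow 2-subgroup -/
theorem card_modelSub_sylow (hF : Odd (Fintype.card F)) (n : ℕ)
    (T : Sylow 2 (Matrix.SpecialLinearGroup (Fin 2) F)) (P : Sylow 2 (Equiv.Perm (Fin n))) :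
    2 ^ (Nat.card (symplecticGroup (Fin n) F)).factorization 2 ≤
      Nat.card (modelSub n (T : Subgroup (Matrix.SpecialLinearGroup (Fin 2) F))
        (P : Subgroup (Equiv.Perm (Fin n)))) := by
  have h1 := card_modelSub_ge n (T : Subgroup (Matrix.SpecialLinearGroup (Fin 2) F))
    (P : Subgroup (Equiv.Perm (Fin n)))
  rw [card_sylow_SL2 hF, card_sylow_perm, ← Nat.factorization_def _ Nat.prime_two] at h1
  rw [val_card_Sp hF, pow_add, pow_mul']
  rw [← pow_mul] at h1 ⊢
  exact h1

/-- Every Sylow 2-subgroup `S` of `Sp₂ₙ(F)`, `|F|` odd, satisfies `x² ∈ S'` for all `x ∈ S`. -/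
theorem eSub_sylow_sp (hF : Odd (Fintype.card F)) (n : ℕ)
    (S : Sylow 2 (symplecticGroup (Fin n) F)) :
    ESub 2 (S : Subgroup (symplecticGroup (Fin n) F)) := by
  let T : Sylow 2 (Matrix.SpecialLinearGroup (Fin 2) F) := default
  let P : Sylow 2 (Equiv.Perm (Fin n)) := default
  exact eSub_sylow_of_large 2 (modelSub n (T : Subgroup (Matrix.SpecialLinearGroup (Fin 2) F))
      (P : Subgroup (Equiv.Perm (Fin n))))
    (isPGroup_modelSub n _ _ T.isPGroup' P.isPGroup')
    (card_modelSub_sylow hF n T P)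
    (eSub_modelSub n _ _ (eT_sylow_SL2 hF T) (GenPowSub.eSub (genPowSub_sylow_perm 2 n P))) S

end Main

end Cfsg.Agent.Lib.Helper67_SpSylow
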