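import Mathlib
import Cfsg.Agent.Lib.Helper67_SpSylow

/-!
# Abstract wreath models `Tⁿ ⋊ P` inside a group (helper67)

`WData X Y n` packages homomorphisms `base : (Fin n → X) →* Y` and `top : Perm (Fin n) →* Y`
satisfying the wreath relation.  For `T ≤ X`, `P ≤ Perm (Fin n)` the subgroup
`model T P = base(Tⁿ) ⊔ top(P)` has at least `|T|ⁿ |P|` elements, is a `p`-group when `T`, `P` are,
and inherits the property "`p`-th powers lie in the derived subgroup".
-/

set_option autoImplicit false
set_option linter.style.haveILetI false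
set_option linter.unusedSectionVars false

namespace Cfsg.Agent.Lib.Helper67_WreathModel

open Cfsg.Agent.Lib.Helper67_SymSylow Cfsg.Agent.Lib.Helper67_SpSylow

/-- abstract wreath data -/
structure WData (X Y : Type*) [Group X] [Group Y] (n : ℕ) where
  /-- the base homomorphism -/
  base : (Fin n → X) →* Y
  /-- the top homomorphism -/
  top : Equiv.Perm (Fin n) →* Y
  top_mul_base : ∀ (σ : Equiv.Perm (Fin n)) (g : Fin n → X),
    top σ * base g = base (fun i => g (σ⁻¹ i)) * top σ
  base_inj : Function.Injective base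
  eq_one_of_base_eq_top : ∀ (g : Fin n → X) (ρ : Equiv.Perm (Fin n)), base g = top ρ → ρ = 1

namespace WData

variable {X Y Y' : Type*} [Group X] [Group Y] [Group Y'] {n : ℕ} (d : WData X Y n)

/-- the base homomorphism restricted to a subgroup `T` of `X` -/
def baseT (T : Subgroup X) : (Fin n → T) →* Y where
  toFun t := d.base fun i => (t i : X)
  map_one' := by
    rw [← map_one d.base]
    rfl
  map_mul' t t' := by
    rw [← map_mul d.base]
    rfl

theorem baseT_injective (T : Subgroup X) : Function.Injective (d.baseT T) := by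
  intro t t' h
  have := d.base_inj h
  funext i
  exact Subtype.ext (congrFun this i)

/-- the model subgroup `Tⁿ ⋊ P` -/
def model (T : Subgroup X) (P : Subgroup (Equiv.Perm (Fin n))) : Subgroup Y :=
  (d.baseT T).range ⊔ P.map d.top

theorem top_conj_baseT (T : Subgroup X) (σ : Equiv.Perm (Fin n)) (t : Fin n → T) :
    d.top σ * d.baseT T t * (d.top σ)⁻¹ = d.baseT T (fun i => t (σ⁻¹ i)) := by
  rw [mul_inv_eq_iff_eq_mul]
  exact d.top_mul_base σ _

theorem card_model_ge [Finite Y] (T : Subgroup X) (P : Subgroup (Equiv.Perm (Fin n))) :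
    Nat.card T ^ n * Nat.card P ≤ Nat.card (d.model T P) := by
  classical
  let φ : (Fin n → T) × P → d.model T P := fun x =>
    ⟨d.baseT T x.1 * d.top x.2,
      mul_mem (le_sup_left (a := (d.baseT T).range) (b := P.map d.top) ⟨x.1, rfl⟩)
        (le_sup_right (a := (d.baseT T).range) (b := P.map d.top)
          (Subgroup.mem_map_of_mem _ x.2.2))⟩
  have hφ : Function.Injective φ := by
    rintro ⟨t, ⟨σ, hσ⟩⟩ ⟨t', ⟨σ', hσ'⟩⟩ h
    have h1 : d.baseT T t * d.top σ = d.baseT T t' * d.top σ' := by
      simpa [φ] using congrArg Subtype.val h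
    have h2 : d.baseT T (t'⁻¹ * t) = d.top (σ' * σ⁻¹) := by
      rw [map_mul, map_mul, map_inv, map_inv]
      rw [inv_mul_eq_iff_eq_mul, ← mul_assoc, eq_mul_inv_iff_mul_eq]
      exact h1
    have h3 : σ' * σ⁻¹ = 1 := d.eq_one_of_base_eq_top _ _ h2
    have h4 : σ' = σ := by
      rw [mul_inv_eq_one] at h3
      exact h3
    subst h4
    have h5 : t = t' := by
      apply d.baseT_injective T
      exact mul_right_cancel h1
    subst h5
    rfl
  have := Nat.card_le_card_of_injective φ hφ
  rwa [Nat.card_prod, Nat.card_fun, Nat.card_fin] at this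

theorem isPGroup_model [Finite Y] (p : ℕ) [Fact p.Prime] (T : Subgroup X) [Finite T]
    (P : Subgroup (Equiv.Perm (Fin n))) (hT : IsPGroup p T) (hP : IsPGroup p P) :
    IsPGroup p (d.model T P) := by
  unfold model
  apply IsPGroup.to_sup_of_normal_left'
  · obtain ⟨k, hk⟩ := (IsPGroup.iff_card (p := p) (G := T)).mp hT
    have h1 : IsPGroup p (Fin n → T) := by
      apply IsPGroup.of_card (n := k * n)
      rw [Nat.card_fun, Nat.card_fin, hk, ← pow_mul]
    rw [MonoidHom.range_eq_map]
    exact (h1.to_subgroup ⊤).map _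
  · exact hP.map _
  · rintro _ ⟨σ, -, rfl⟩
    apply Subgroup.mem_normalizer_fintype
    rintro _ ⟨t, rfl⟩
    rw [top_conj_baseT]
    exact ⟨_, rfl⟩

theorem eSub_model (p : ℕ) (T : Subgroup X) (P : Subgroup (Equiv.Perm (Fin n)))
    (hT : ET p T) (hP : ESub p P) : ESub p (d.model T P) := by
  unfold model
  apply ESub.sup
  · rw [eSub_iff_eT]
    exact ET.of_surjective (d.baseT T).rangeRestrict
      (MonoidHom.rangeRestrict_surjective _) (ET.pi fun _ => hT)
  · exact hP.map _

/-- push a wreath datum along an injective homomorphism -/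
def comp (f : Y →* Y') (hf : Function.Injective f) : WData X Y' n where
  base := f.comp d.base
  top := f.comp d.top
  top_mul_base σ g := by
    simp only [MonoidHom.comp_apply, ← map_mul, d.top_mul_base]
  base_inj := hf.comp d.base_inj
  eq_one_of_base_eq_top g ρ h := d.eq_one_of_base_eq_top g ρ (hf h)

include d in
/-- Main transfer: if the model is as large as a Sylow `p`-subgroup of `Y`, every Sylow
`p`-subgroup of `Y` has the `E`-property. -/
theorem eSub_sylow [Finite Y] (p : ℕ) [Fact p.Prime] (T : Subgroup X) [Finite T]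
    (P : Subgroup (Equiv.Perm (Fin n))) (hT : IsPGroup p T) (hP : IsPGroup p P)
    (hTE : ET p T) (hPE : ESub p P)
    (hcard : p ^ (Nat.card Y).factorization p ≤ Nat.card T ^ n * Nat.card P)
    (S : Sylow p Y) : ESub p (S : Subgroup Y) :=
  eSub_sylow_of_large p (d.model T P) (d.isPGroup_model p T P hT hP)
    (hcard.trans (d.card_model_ge T P)) (d.eSub_model p T P hTE hPE) S

end WData

end Cfsg.Agent.Lib.Helper67_WreathModel
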