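import Mathlib
import Cfsg.Agent.Lib.Helper67_WreathModel
import Cfsg.Agent.Lib.Helper5_SLCard

/-!
# Sylow 2-subgroups of `GLₙ(q)` / `SLₙ(q)`, `q` odd (helper67)

* `glData n : WData (GL (Fin 2) F) (GL (Fin n ⊕ Fin n) F) n` : the wreath model `GL₂(F) ≀ Sₙ`.
* `glToSL : GL ι F →* SL (ι ⊕ Unit) F`, `reindexSL`.
* 2-adic valuations of `|GLₙ(q)|`, `|SLₙ(q)|`.
* Sylow 2-subgroups of `GL₂(F)`, `|F| ≡ 3 mod 4`: squares lie in the derived subgroup.
-/

set_option autoImplicit false
set_option linter.style.haveILetI false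
set_option linter.unusedSectionVars false

namespace Cfsg.Agent.Lib.Helper67_GLSylow

open Matrix Cfsg.Agent.Lib.Helper67_SymSylow Cfsg.Agent.Lib.Helper67_SpSylow
  Cfsg.Agent.Lib.Helper67_WreathModel

section GLModel

variable {F : Type*} [Field F] (n : ℕ)

/-- block matrix of a family of `2 × 2` matrices -/
def bMat (g : Fin n → Matrix (Fin 2) (Fin 2) F) : Matrix (Fin n ⊕ Fin n) (Fin n ⊕ Fin n) F :=
  fromBlocks (diagonal fun i => g i 0 0) (diagonal fun i => g i 0 1)
    (diagonal fun i => g i 1 0) (diagonal fun i => g i 1 1)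

theorem bMat_mul (g h : Fin n → Matrix (Fin 2) (Fin 2) F) :
    bMat n (g * h) = bMat n g * bMat n h := by
  unfold bMat
  rw [fromBlocks_multiply]
  simp only [diagonal_mul_diagonal, diagonal_add, Pi.mul_apply, Matrix.mul_apply, Fin.sum_univ_two]

theorem bMat_one : bMat n (1 : Fin n → Matrix (Fin 2) (Fin 2) F) = 1 := by
  unfold bMat
  simp [← fromBlocks_one]

/-- `bMat` as a monoid homomorphism -/
def bMonHom : (Fin n → Matrix (Fin 2) (Fin 2) F) →* Matrix (Fin n ⊕ Fin n) (Fin n ⊕ Fin n) F where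
  toFun := bMat n
  map_one' := bMat_one n
  map_mul' := bMat_mul n

/-- the base homomorphism `GL₂(F)ⁿ → GL₂ₙ(F)` -/
def baseGL : (Fin n → GL (Fin 2) F) →* GL (Fin n ⊕ Fin n) F :=
  (Units.map (bMonHom n)).comp (MulEquiv.piUnits (M := fun _ : Fin n => Matrix (Fin 2) (Fin 2) F)).symm.toMonoidHom

theorem baseGL_val (g : Fin n → GL (Fin 2) F) :
    ((baseGL n g : GL (Fin n ⊕ Fin n) F) : Matrix (Fin n ⊕ Fin n) (Fin n ⊕ Fin n) F) =
      bMat n fun i => (g i : Matrix (Fin 2) (Fin 2) F) := rfl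

/-- `topMat` as a monoid homomorphism -/
def tMonHom : Equiv.Perm (Fin n) →* Matrix (Fin n ⊕ Fin n) (Fin n ⊕ Fin n) F where
  toFun σ := topMat n σ
  map_one' := by simp [topMat, pMat_one, fromBlocks_one]
  map_mul' σ τ := by simp [topMat, pMat_mul, fromBlocks_multiply]

/-- the top homomorphism `Sₙ → GL₂ₙ(F)` -/
def topGL : Equiv.Perm (Fin n) →* GL (Fin n ⊕ Fin n) F :=
  (tMonHom n).toHomUnits

theorem topGL_val (σ : Equiv.Perm (Fin n)) :
    ((topGL n σ : GL (Fin n ⊕ Fin n) F) : Matrix (Fin n ⊕ Fin n) (Fin n ⊕ Fin n) F) =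
      topMat n σ := rfl

theorem topGL_mul_baseGL (σ : Equiv.Perm (Fin n)) (g : Fin n → GL (Fin 2) F) :
    topGL n σ * baseGL n g = baseGL n (fun i => g (σ⁻¹ i)) * topGL n σ := by
  apply Units.ext
  rw [Units.val_mul, Units.val_mul, baseGL_val, baseGL_val, topGL_val]
  simp only [topMat, bMat, fromBlocks_multiply, Matrix.zero_mul, Matrix.mul_zero, add_zero,
    zero_add, pMat_mul_diagonal]

theorem baseGL_injective : Function.Injective (baseGL (F := F) n) := by
  intro g h hgh
  have hm : bMat n (fun i => (g i : Matrix (Fin 2) (Fin 2) F)) =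
      bMat n (fun i => (h i : Matrix (Fin 2) (Fin 2) F)) := by
    rw [← baseGL_val, ← baseGL_val, hgh]
  funext i
  apply Units.ext
  ext a b
  have h00 := congrFun (congrFun hm (Sum.inl i)) (Sum.inl i)
  have h01 := congrFun (congrFun hm (Sum.inl i)) (Sum.inr i)
  have h10 := congrFun (congrFun hm (Sum.inr i)) (Sum.inl i)
  have h11 := congrFun (congrFun hm (Sum.inr i)) (Sum.inr i)
  simp only [bMat, fromBlocks_apply₁₁, fromBlocks_apply₁₂, fromBlocks_apply₂₁,
    fromBlocks_apply₂₂, diagonal_apply_eq] at h00 h01 h10 h11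
  fin_cases a <;> fin_cases b <;> assumption

theorem eq_one_of_baseGL_eq_topGL (g : Fin n → GL (Fin 2) F)
    (ρ : Equiv.Perm (Fin n)) (h : baseGL n g = topGL n ρ) : ρ = 1 := by
  have hm : bMat n (fun i => (g i : Matrix (Fin 2) (Fin 2) F)) = topMat n ρ := by
    rw [← baseGL_val, ← topGL_val, h]
  ext j
  by_contra hne
  have hne' : ρ j ≠ j := fun e => hne (by simp [e])
  have h1 := congrFun (congrFun hm (Sum.inl (ρ j))) (Sum.inl j)
  simp [bMat, topMat, pMat, diagonal_apply_ne _ hne'] at h1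

/-- the wreath datum `GL₂(F) ≀ Sₙ → GL₂ₙ(F)` -/
def glData : WData (GL (Fin 2) F) (GL (Fin n ⊕ Fin n) F) n where
  base := baseGL n
  top := topGL n
  top_mul_base := topGL_mul_baseGL n
  base_inj := baseGL_injective n
  eq_one_of_base_eq_top := eq_one_of_baseGL_eq_topGL n

end GLModel

section Embed

variable {F : Type*} [Field F] {ι κ : Type*} [Fintype ι] [DecidableEq ι] [Fintype κ] [DecidableEq κ]

theorem det_of_unit (c : F) : det (Matrix.of fun (_ _ : Unit) => c) = c := by
  rw [det_unique]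
  rfl

/-- the matrix `diag(M, (det M)⁻¹)` -/
def extMat (M : Matrix ι ι F) : Matrix (ι ⊕ Unit) (ι ⊕ Unit) F :=
  fromBlocks M 0 0 (Matrix.of fun _ _ => (det M)⁻¹)

theorem extMat_mul (M N : Matrix ι ι F) : extMat (M * N) = extMat M * extMat N := by
  unfold extMat
  rw [fromBlocks_multiply]
  simp only [Matrix.zero_mul, Matrix.mul_zero, add_zero, zero_add, det_mul, mul_inv]
  congr 1
  ext i j
  simp [Matrix.mul_apply]

theorem extMat_one : extMat (1 : Matrix ι ι F) = 1 := by
  unfold extMat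
  rw [← fromBlocks_one]
  congr 1
  ext i j
  simp

/-- `GL(ι) → SL(ι ⊕ Unit)`, `g ↦ diag(g, (det g)⁻¹)` -/
def glToSL : GL ι F →* Matrix.SpecialLinearGroup (ι ⊕ Unit) F where
  toFun g := ⟨extMat (g : Matrix ι ι F), by
    unfold extMat
    rw [det_fromBlocks_zero₂₁, det_of_unit]
    exact mul_inv_cancel₀ ((Matrix.isUnits_det_units g).ne_zero)⟩
  map_one' := by
    apply Subtype.ext
    exact extMat_one
  map_mul' g h := by
    apply Subtype.ext
    exact extMat_mul _ _

theorem glToSL_injective : Function.Injective (glToSL (F := F) (ι := ι)) := by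
  intro g h hgh
  have h1 := congrArg Subtype.val hgh
  simp only [glToSL, MonoidHom.coe_mk, OneHom.coe_mk, extMat] at h1
  exact Units.ext (fromBlocks_inj.mp h1).1

/-- reindexing of special linear groups -/
def reindexSL (e : ι ≃ κ) : Matrix.SpecialLinearGroup ι F →* Matrix.SpecialLinearGroup κ F where
  toFun g := ⟨Matrix.reindex e e (g : Matrix ι ι F), by
    rw [det_reindex_self]
    exact g.2⟩
  map_one' := by
    apply Subtype.ext
    simp
  map_mul' g h := by
    apply Subtype.ext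
    show Matrix.reindex e e ((g : Matrix ι ι F) * (h : Matrix ι ι F)) =
      Matrix.reindex e e (g : Matrix ι ι F) * Matrix.reindex e e (h : Matrix ι ι F)
    simp [Matrix.submatrix_mul_equiv]

theorem reindexSL_injective (e : ι ≃ κ) : Function.Injective (reindexSL (F := F) e) := by
  intro g h hgh
  have h1 := congrArg Subtype.val hgh
  simp only [reindexSL, MonoidHom.coe_mk, OneHom.coe_mk] at h1
  exact Subtype.ext ((Matrix.reindex e e).injective h1)

end Embed

section Val

theorem val_odd_pow (q : ℕ) (hq : Odd q) (hq3 : 3 ≤ q) (k : ℕ) (hk : Odd k) :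
    (q ^ k - 1).factorization 2 = (q - 1).factorization 2 := by
  have h1 := geom_sum_mul_add (q - 1) k
  have hq1 : q - 1 + 1 = q := by omega
  rw [hq1] at h1
  have h2 : q ^ k - 1 = (∑ i ∈ Finset.range k, q ^ i) * (q - 1) := by omega
  have hS : Odd (∑ i ∈ Finset.range k, q ^ i) := by
    rw [Finset.odd_sum_iff_odd_card_odd]
    have : (Finset.range k).filter (fun i => Odd (q ^ i)) = Finset.range k := by
      apply Finset.filter_true_of_mem
      intro i _
      exact hq.pow
    rw [this, Finset.card_range]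
    exact hk
  have hS2 : ¬ 2 ∣ ∑ i ∈ Finset.range k, q ^ i := by
    rcases hS with ⟨r, hr⟩
    omega
  rw [h2, Nat.factorization_mul (by rcases hS with ⟨r, hr⟩; omega) (by omega), Finsupp.add_apply,
    Nat.factorization_eq_zero_of_not_dvd hS2, zero_add]

/-- `ν₂` of the order formula of `GLₙ(q)` -/
theorem val_prod_GL (q : ℕ) (hq : Odd q) (hq3 : 3 ≤ q) (n : ℕ) :
    (∏ i : Fin n, (q ^ n - q ^ (i : ℕ))).factorization 2 =
      ∑ k ∈ Finset.range n, (q ^ (k + 1) - 1).factorization 2 := by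
  rw [Fin.prod_univ_eq_prod_range (fun i => q ^ n - q ^ i) n]
  have hne : ∀ i ∈ Finset.range n, q ^ n - q ^ i ≠ 0 := by
    intro i hi
    have : q ^ i < q ^ n := Nat.pow_lt_pow_right (by omega) (Finset.mem_range.mp hi)
    omega
  rw [Nat.factorization_prod_apply hne, ← Finset.sum_range_reflect]
  apply Finset.sum_congr rfl
  intro i hi
  have hi' := Finset.mem_range.mp hi
  have h1 : q ^ n - q ^ (n - 1 - i) = q ^ (n - 1 - i) * (q ^ (i + 1) - 1) := by
    have : n = (n - 1 - i) + (i + 1) := by omega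
    conv_lhs => rw [this, pow_add]
    rw [Nat.mul_sub_one]
    congr 3
    omega
  have hq2 : (q ^ (n - 1 - i)).factorization 2 = 0 := by
    apply Nat.factorization_eq_zero_of_not_dvd
    intro h2
    have := Nat.prime_two.dvd_of_dvd_pow h2
    rcases hq with ⟨r, rfl⟩
    omega
  have h3 : q ^ (i + 1) - 1 ≠ 0 := by
    have : 1 < q ^ (i + 1) := Nat.one_lt_pow (by omega) (by omega)
    omega
  rw [h1, Nat.factorization_mul (pow_ne_zero _ (by omega)) h3, Finsupp.add_apply, hq2, zero_add]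

theorem sum_range_two_mul (f : ℕ → ℕ) (m : ℕ) :
    ∑ k ∈ Finset.range (2 * m), f k = ∑ j ∈ Finset.range m, (f (2 * j) + f (2 * j + 1)) := by
  induction m with
  | zero => simp
  | succ m ih =>
    rw [show 2 * (m + 1) = 2 * m + 1 + 1 by ring, Finset.sum_range_succ, Finset.sum_range_succ, ih,
      Finset.sum_range_succ]
    ring

theorem val_GL_even (q : ℕ) (hq : Odd q) (hq3 : 3 ≤ q) (m : ℕ) :
    (∏ i : Fin (2 * m), (q ^ (2 * m) - q ^ (i : ℕ))).factorization 2 =
      m * ((q - 1).factorization 2 + ((q - 1).factorization 2 + (q + 1).factorization 2)) +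
        (m.factorial).factorization 2 := by
  rw [val_prod_GL q hq hq3, sum_range_two_mul, val_factorial]
  have hpt : ∀ j ∈ Finset.range m, (q ^ (2 * j + 1) - 1).factorization 2 +
      (q ^ (2 * j + 1 + 1) - 1).factorization 2 =
      ((q - 1).factorization 2 + ((q - 1).factorization 2 + (q + 1).factorization 2)) +
        (j + 1).factorization 2 := by
    intro j _
    rw [val_odd_pow q hq hq3 (2 * j + 1) ⟨j, rfl⟩, show 2 * j + 1 + 1 = 2 * (j + 1) by ring,
      val_pow_sub_one q hq hq3 (j + 1) (by omega)]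
    ring
  rw [Finset.sum_congr rfl hpt, Finset.sum_add_distrib, Finset.sum_const, Finset.card_range,
    smul_eq_mul]

theorem val_GL_odd (q : ℕ) (hq : Odd q) (hq3 : 3 ≤ q) (m : ℕ) :
    (∏ i : Fin (2 * m + 1), (q ^ (2 * m + 1) - q ^ (i : ℕ))).factorization 2 =
      m * ((q - 1).factorization 2 + ((q - 1).factorization 2 + (q + 1).factorization 2)) +
        (m.factorial).factorization 2 + (q - 1).factorization 2 := by
  rw [val_prod_GL q hq hq3, Finset.sum_range_succ, val_odd_pow q hq hq3 (2 * m + 1) ⟨m, rfl⟩,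
    ← val_prod_GL q hq hq3, val_GL_even q hq hq3]

variable {F : Type*} [Field F] [Fintype F]

/-- `ν₂ |GL₂(F)|` -/
noncomputable def gExp (F : Type*) [Fintype F] : ℕ :=
  (Fintype.card F - 1).factorization 2 + eExp F

theorem val_card_GL_even (hF : Odd (Fintype.card F)) (m : ℕ) :
    (Nat.card (GL (Fin (2 * m)) F)).factorization 2 =
      m * gExp F + (m.factorial).factorization 2 := by
  rw [Matrix.card_GL_field, val_GL_even _ hF (three_le_card hF)]
  rfl

theorem val_card_GL_odd (hF : Odd (Fintype.card F)) (m : ℕ) :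
    (Nat.card (GL (Fin (2 * m + 1)) F)).factorization 2 =
      m * gExp F + (m.factorial).factorization 2 + (Fintype.card F - 1).factorization 2 := by
  rw [Matrix.card_GL_field, val_GL_odd _ hF (three_le_card hF)]
  rfl

theorem val_card_GL_two (hF : Odd (Fintype.card F)) :
    (Nat.card (GL (Fin 2) F)).factorization 2 = gExp F := by
  have := val_card_GL_even hF 1
  simpa using this

theorem val_card_SL (hF : Odd (Fintype.card F)) (n : ℕ) (hn : 1 ≤ n) :
    (Nat.card (Matrix.SpecialLinearGroup (Fin n) F)).factorization 2 +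
      (Fintype.card F - 1).factorization 2 = (Nat.card (GL (Fin n) F)).factorization 2 := by
  have h3 := three_le_card hF
  rw [Cfsg.Agent.Lib.Helper5_SLCard.card_GL_eq_card_SL_mul n hn,
    Nat.factorization_mul Nat.card_pos.ne' (by omega), Finsupp.add_apply]

theorem val_card_SL_odd (hF : Odd (Fintype.card F)) (m : ℕ) :
    (Nat.card (Matrix.SpecialLinearGroup (Fin (2 * m + 1)) F)).factorization 2 =
      m * gExp F + (m.factorial).factorization 2 := by
  have h1 := val_card_SL hF (2 * m + 1) (by omega)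
  rw [val_card_GL_odd hF] at h1
  omega

theorem val_card_SL_even (hF : Odd (Fintype.card F)) (m : ℕ) (hm : 1 ≤ m) :
    (Nat.card (Matrix.SpecialLinearGroup (Fin (2 * m)) F)).factorization 2 +
      (Fintype.card F - 1).factorization 2 = m * gExp F + (m.factorial).factorization 2 := by
  have h1 := val_card_SL hF (2 * m) (by omega)
  rw [val_card_GL_even hF] at h1
  exact h1

end Val

section GL2

variable {F : Type*} [Field F] [Fintype F]

/-- the embedding `SL₂(F) → GL₂(F)` -/
abbrev slToGL : Matrix.SpecialLinearGroup (Fin 2) F →* GL (Fin 2) F :=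
  Matrix.SpecialLinearGroup.toGL

omit [Fintype F] in
theorem mem_range_slToGL_iff (g : GL (Fin 2) F) :
    g ∈ (slToGL (F := F)).range ↔ Matrix.GeneralLinearGroup.det g = 1 := by
  constructor
  · rintro ⟨s, rfl⟩
    apply Units.ext
    simp
  · intro h
    have h1 : det (g : Matrix (Fin 2) (Fin 2) F) = 1 := by
      have := congrArg Units.val h
      simpa using this
    refine ⟨⟨(g : Matrix (Fin 2) (Fin 2) F), h1⟩, ?_⟩
    apply Units.ext
    rfl

/-- the reflection `diag(1, -1)` -/
def refl2 : GL (Fin 2) F where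
  val := !![1, 0; 0, -1]
  inv := !![1, 0; 0, -1]
  val_inv := by
    ext i j
    fin_cases i <;> fin_cases j <;> simp [Matrix.mul_apply, Fin.sum_univ_two]
  inv_val := by
    ext i j
    fin_cases i <;> fin_cases j <;> simp [Matrix.mul_apply, Fin.sum_univ_two]

omit [Fintype F] in
theorem refl2_sq : (refl2 (F := F)) ^ 2 = 1 := by
  rw [pow_two]
  exact Units.ext refl2.val_inv

omit [Fintype F] in
theorem det_refl2 : ((Matrix.GeneralLinearGroup.det (refl2 (F := F)) : Fˣ) : F) = -1 := by
  simp [refl2, Matrix.det_fin_two]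

theorem neg_one_ne_one_of_odd' (hF : Odd (Fintype.card F)) : (-1 : F) ≠ 1 := by
  intro h
  have h2 : (2 : F) = 0 := by
    have : (1 : F) + 1 = 0 := by linear_combination -h
    rw [← one_add_one_eq_two]; exact this
  have h3 : ringChar F = 2 := by
    apply CharP.ringChar_of_prime_eq_zero Nat.prime_two
    exact_mod_cast h2
  have := FiniteField.even_card_of_char_two h3
  rcases hF with ⟨r, hr⟩
  omega

/-- every Sylow 2-subgroup of `GL₂(F)` contains an involution of determinant `-1` -/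
theorem exists_refl_mem (hF : Odd (Fintype.card F)) (T : Sylow 2 (GL (Fin 2) F)) :
    ∃ t ∈ (T : Subgroup (GL (Fin 2) F)), t ^ 2 = 1 ∧ Matrix.GeneralLinearGroup.det t ≠ 1 := by
  have hne := neg_one_ne_one_of_odd' hF
  have hdet : Matrix.GeneralLinearGroup.det (refl2 (F := F)) ≠ 1 := by
    intro h
    have := det_refl2 (F := F)
    rw [h] at this
    exact hne this.symm
  have h1 : (refl2 (F := F)) ≠ 1 := by
    intro h
    rw [h, map_one] at hdet
    exact hdet rfl
  have hord : orderOf (refl2 (F := F)) = 2 := orderOf_eq_prime refl2_sq h1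
  have hz : IsPGroup 2 (Subgroup.zpowers (refl2 (F := F))) := by
    apply IsPGroup.of_card (n := 1)
    rw [Nat.card_zpowers, hord, pow_one]
  obtain ⟨T', hT'⟩ := hz.exists_le_sylow
  obtain ⟨g, rfl⟩ := MulAction.exists_smul_eq (GL (Fin 2) F) T' T
  refine ⟨g * refl2 * g⁻¹, ?_, ?_, ?_⟩
  · rw [Sylow.coe_subgroup_smul]
    have := Subgroup.smul_mem_pointwise_smul refl2 (MulAut.conj g) (T' : Subgroup (GL (Fin 2) F))
      (hT' (Subgroup.mem_zpowers _))
    simpa [MulAut.smul_def] using this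
  · rw [conj_pow, refl2_sq, mul_one, mul_inv_cancel]
  · rw [map_mul, map_mul, map_inv, mul_comm, inv_mul_cancel_left]
    exact hdet

theorem val_sub_one_of_four_dvd (q : ℕ) (hq : 4 ∣ q + 1) : (q - 1).factorization 2 = 1 := by
  obtain ⟨c, hc⟩ := hq
  have h1 : q - 1 = 2 * (2 * c - 1) := by omega
  have h2 : ¬ 2 ∣ 2 * c - 1 := by omega
  rw [h1, Nat.factorization_mul (by norm_num) (by omega), Finsupp.add_apply,
    Nat.factorization_eq_zero_of_not_dvd h2, Nat.prime_two.factorization_self]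

/-- a `2`-subgroup of `SL₂(F)` of Sylow order satisfies `E` -/
theorem eSub_large_SL2 (hF : Odd (Fintype.card F))
    (Q : Subgroup (Matrix.SpecialLinearGroup (Fin 2) F)) (hQ : IsPGroup 2 Q)
    (hcard : 2 ^ eExp F ≤ Nat.card Q) : ESub 2 Q := by
  obtain ⟨Q₀, hQ₀⟩ := hQ.exists_le_sylow
  have hQQ : Q = Q₀ := by
    apply Subgroup.eq_of_le_of_card_ge hQ₀
    rw [card_sylow_SL2 hF]
    exact hcard
  rw [hQQ, eSub_iff_eT]
  exact eT_sylow_SL2 hF Q₀

/-- Sylow 2-subgroups of `GL₂(F)`, `|F| ≡ 3 mod 4`: squares lie in the derived subgroup. -/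
theorem eSub_sylow_GL2 (hF : Odd (Fintype.card F)) (hq : 4 ∣ Fintype.card F + 1)
    (T : Sylow 2 (GL (Fin 2) F)) : ESub 2 (T : Subgroup (GL (Fin 2) F)) := by
  classical
  obtain ⟨t, htT, htsq, htdet⟩ := exists_refl_mem hF T
  set N : Subgroup (GL (Fin 2) F) := (slToGL (F := F)).range with hN
  set Q₂ : Subgroup (GL (Fin 2) F) := (T : Subgroup (GL (Fin 2) F)) ⊓ N with hQ₂
  -- the determinant image
  set D : Subgroup Fˣ := (T : Subgroup (GL (Fin 2) F)).map Matrix.GeneralLinearGroup.det with hD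
  have hDp : IsPGroup 2 D := T.isPGroup'.map _
  have hDcard : Nat.card D ≤ 2 := by
    obtain ⟨j, hj⟩ := (IsPGroup.iff_card (p := 2)).mp hDp
    have h1 : Nat.card D ∣ Nat.card Fˣ := Subgroup.card_subgroup_dvd_card D
    rw [Nat.card_eq_fintype_card (α := Fˣ), Fintype.card_units, hj] at h1
    rw [hj]
    rcases j with _ | _ | j
    · norm_num
    · norm_num
    · exfalso
      have h4 : 4 ∣ Fintype.card F - 1 := by
        refine dvd_trans ?_ h1
        exact ⟨2 ^ j, by ring⟩
      obtain ⟨c, hc⟩ := hq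
      obtain ⟨c', hc'⟩ := h4
      have := three_le_card hF
      omega
  -- |T| = |Q₂| * |D|
  let φ : (T : Subgroup (GL (Fin 2) F)) →* Fˣ :=
    Matrix.GeneralLinearGroup.det.comp (T : Subgroup (GL (Fin 2) F)).subtype
  have hker : φ.ker.map (T : Subgroup (GL (Fin 2) F)).subtype = Q₂ := by
    ext x
    rw [hQ₂, Subgroup.mem_inf, hN, mem_range_slToGL_iff]
    constructor
    · rintro ⟨y, hy, rfl⟩
      exact ⟨y.2, hy⟩
    · rintro ⟨hxT, hxN⟩
      exact ⟨⟨x, hxT⟩, hxN, rfl⟩
  have hrange : Nat.card φ.range = Nat.card D := by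
    have : φ.range = D := by
      rw [hD, MonoidHom.range_comp, Subgroup.range_subtype]
    rw [this]
  have hcardT : Nat.card (T : Subgroup (GL (Fin 2) F)) = Nat.card Q₂ * Nat.card D := by
    rw [← hker, Subgroup.card_map_of_injective (Subgroup.subtype_injective _), ← hrange,
      ← Subgroup.index_ker, Subgroup.card_mul_index]
  have hT2 : Nat.card (T : Subgroup (GL (Fin 2) F)) = 2 * 2 ^ eExp F := by
    rw [T.card_eq_multiplicity, val_card_GL_two hF, gExp, val_sub_one_of_four_dvd _ hq, pow_add,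
      pow_one]
  have hQ₂card : 2 ^ eExp F ≤ Nat.card Q₂ := by
    have : 2 * 2 ^ eExp F ≤ Nat.card Q₂ * 2 := by
      rw [← hT2, hcardT]
      exact Nat.mul_le_mul_left _ hDcard
    omega
  -- `E` for `Q₂`
  have hQ₂p : IsPGroup 2 Q₂ := T.isPGroup'.to_le inf_le_left
  have hQ₂E : ESub 2 Q₂ := by
    have h1 : (Q₂.comap (slToGL (F := F))).map (slToGL (F := F)) = Q₂ :=
      Subgroup.map_comap_eq_self inf_le_right
    rw [← h1]
    apply ESub.map
    apply eSub_large_SL2 hF _ (hQ₂p.comap_of_injective _ Matrix.SpecialLinearGroup.toGL_injective)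
    rw [← Subgroup.card_map_of_injective (f := slToGL (F := F))
      Matrix.SpecialLinearGroup.toGL_injective, h1]
    exact hQ₂card
  -- `T = Q₂ ⊔ ⟨t⟩`
  have htQ : t ∉ Q₂ := by
    rw [hQ₂, Subgroup.mem_inf, hN, mem_range_slToGL_iff]
    rintro ⟨-, h⟩
    exact htdet h
  have hK : Q₂ ⊔ Subgroup.zpowers t = (T : Subgroup (GL (Fin 2) F)) := by
    have hle : Q₂ ⊔ Subgroup.zpowers t ≤ (T : Subgroup (GL (Fin 2) F)) :=
      sup_le inf_le_left ((Subgroup.zpowers_le).mpr htT)
    apply Subgroup.eq_of_le_of_card_ge hle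
    obtain ⟨c, hc⟩ := Subgroup.card_dvd_of_le (le_sup_left : Q₂ ≤ Q₂ ⊔ Subgroup.zpowers t)
    have hc1 : c ≠ 1 := by
      rintro rfl
      rw [mul_one] at hc
      have := Subgroup.eq_of_le_of_card_ge (le_sup_left : Q₂ ≤ Q₂ ⊔ Subgroup.zpowers t) hc.le
      apply htQ
      rw [this]
      exact le_sup_right (a := Q₂) (Subgroup.mem_zpowers t)
    have hc0 : c ≠ 0 := by
      rintro rfl
      rw [mul_zero] at hc
      exact Nat.card_pos.ne' hc
    rw [hc, hcardT]
    have : 2 ≤ c := by omega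
    calc Nat.card Q₂ * Nat.card D ≤ Nat.card Q₂ * 2 := Nat.mul_le_mul_left _ hDcard
      _ ≤ Nat.card Q₂ * c := Nat.mul_le_mul_left _ this
  rw [← hK]
  apply ESub.sup hQ₂E
  intro x hx
  obtain ⟨k, rfl⟩ := Subgroup.mem_zpowers_iff.mp hx
  have : (t ^ k) ^ 2 = 1 := by
    rw [← zpow_natCast, ← _root_.zpow_mul, mul_comm, _root_.zpow_mul, zpow_natCast, htsq, _root_.one_zpow]
  rw [this]
  exact one_mem _

end GL2

section Main

variable {F : Type*} [Field F] [Fintype F]

theorem card_sylow_GL2 (hF : Odd (Fintype.card F)) (T : Sylow 2 (GL (Fin 2) F)) :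
    Nat.card T = 2 ^ gExp F := by
  rw [T.card_eq_multiplicity, val_card_GL_two hF]

/-- Sylow 2-subgroups of `SL_{2m+1}(F)`, `|F| ≡ 3 mod 4`: squares lie in the derived subgroup. -/
theorem eSub_sylow_SL_odd (hF : Odd (Fintype.card F)) (hq : 4 ∣ Fintype.card F + 1) (m : ℕ)
    (S : Sylow 2 (Matrix.SpecialLinearGroup (Fin (2 * m + 1)) F)) :
    ESub 2 (S : Subgroup (Matrix.SpecialLinearGroup (Fin (2 * m + 1)) F)) := by
  classical
  let e : (Fin m ⊕ Fin m) ⊕ Unit ≃ Fin (2 * m + 1) :=
    Fintype.equivOfCardEq (by simp; ring)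
  let f : GL (Fin m ⊕ Fin m) F →* Matrix.SpecialLinearGroup (Fin (2 * m + 1)) F :=
    (reindexSL e).comp glToSL
  have hf : Function.Injective f := (reindexSL_injective e).comp glToSL_injective
  let d : WData (GL (Fin 2) F) (Matrix.SpecialLinearGroup (Fin (2 * m + 1)) F) m :=
    (glData m).comp f hf
  let T : Sylow 2 (GL (Fin 2) F) := default
  let P : Sylow 2 (Equiv.Perm (Fin m)) := default
  have hTE : ET 2 (T : Subgroup (GL (Fin 2) F)) := by
    rw [← eSub_iff_eT]
    exact eSub_sylow_GL2 hF hq T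
  refine d.eSub_sylow 2 (T : Subgroup (GL (Fin 2) F)) (P : Subgroup (Equiv.Perm (Fin m)))
    T.isPGroup' P.isPGroup' hTE (GenPowSub.eSub (genPowSub_sylow_perm 2 m P)) ?_ S
  rw [val_card_SL_odd hF, card_sylow_GL2 hF, card_sylow_perm,
    ← Nat.factorization_def _ Nat.prime_two, pow_add, ← pow_mul, mul_comm m]

end Main

end Cfsg.Agent.Lib.Helper67_GLSylow
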