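import Cfsg.Agent.Lib.Helper67_NormalRank

set_option autoImplicit false
set_option linter.unusedSectionVars false
set_option linter.style.haveILetI false

namespace Cfsg.Agent.Lib.Helper67_GenInv

open Cfsg.Agent.Lib.Helper67_SymSylow Cfsg.Agent.Lib.Helper67_SpSylow
  Cfsg.Agent.Lib.Helper67_NormalRank

section Klein

variable {Q : Type*} [Group Q]

theorem mem_zpowers_of_sq {a : Q} (ha : a ^ 2 = 1) (x : Q) (hx : x ∈ Subgroup.zpowers a) :
    x = 1 ∨ x = a := by
  obtain ⟨k, rfl⟩ := Subgroup.mem_zpowers_iff.mp hx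
  rcases Int.even_or_odd' k with ⟨j, rfl | rfl⟩
  · left
    rw [zpow_mul, zpow_ofNat, ha, one_zpow]
  · right
    rw [zpow_add, zpow_mul, zpow_ofNat, ha, one_zpow, one_mul, zpow_one]

/-- elements of the group generated by two commuting involutions -/
theorem mem_closure_pair_cases {a b : Q} (ha : a ^ 2 = 1) (hb : b ^ 2 = 1) (hab : a * b = b * a)
    (x : Q) (hx : x ∈ Subgroup.closure ({a, b} : Set Q)) :
    x = 1 ∨ x = a ∨ x = b ∨ x = a * b := by
  have hcl : Subgroup.closure ({a, b} : Set Q) = Subgroup.zpowers a ⊔ Subgroup.zpowers b := by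
    rw [Subgroup.zpowers_eq_closure, Subgroup.zpowers_eq_closure, ← Subgroup.closure_union]
    rfl
  rw [hcl, mem_sup_of_commute] at hx
  · obtain ⟨h, hh, k, hk, rfl⟩ := hx
    rcases mem_zpowers_of_sq ha h hh with rfl | rfl <;>
      rcases mem_zpowers_of_sq hb k hk with rfl | rfl
    · left; rw [one_mul]
    · right; right; left; rw [one_mul]
    · right; left; rw [mul_one]
    · right; right; right; rfl
  · intro h hh k hk
    obtain ⟨i, rfl⟩ := Subgroup.mem_zpowers_iff.mp hh
    obtain ⟨j, rfl⟩ := Subgroup.mem_zpowers_iff.mp hk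
    exact ((show Commute a b from hab).zpow_zpow i j).eq

end Klein

section Main

variable {Y A : Type*} [Group Y] [CommGroup A]

/-- **Generation by involutions.**  `W` is generated by involutions `R s` (sorted into pairwise
commuting "slots") and further involutions `Tp ⊆ ker χ`; `χ` takes two independent values on the
`R s`, and every element of some `R s` has a partner in another slot with the same `χ`-value.
Then `W ∩ ker χ` is generated by involutions. -/
theorem genPowSub_inf_ker (χ : Y →* A) {S : Type*} (R : S → Set Y) (Tp : Set Y)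
    (hR2 : ∀ s, ∀ x ∈ R s, x ^ 2 = 1)
    (hcomm : ∀ s s', s ≠ s' → ∀ x ∈ R s, ∀ y ∈ R s', x * y = y * x)
    (hTp2 : ∀ x ∈ Tp, x ^ 2 = 1) (hTpχ : ∀ x ∈ Tp, χ x = 1)
    (c₁ c₂ : A) (hc₁ : c₁ ≠ 1) (hc₂ : c₂ ≠ 1) (hc₁₂ : c₁ ≠ c₂) (hc₁sq : c₁ ^ 2 = 1)
    (hRχ : ∀ s, ∀ x ∈ R s, χ x = c₁ ∨ χ x = c₂)
    (hpartner : ∀ s, ∀ x ∈ R s, ∃ s', s' ≠ s ∧ ∃ t ∈ R s', χ t = χ x)
    (hex₁ : ∃ s, ∃ x ∈ R s, χ x = c₁) (hex₂ : ∃ s, ∃ x ∈ R s, χ x = c₂) :
    GenPowSub 2 (Subgroup.closure ((⋃ s, R s) ∪ Tp) ⊓ χ.ker) := by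
  classical
  set W : Subgroup Y := Subgroup.closure ((⋃ s, R s) ∪ Tp) with hW
  have hRW : ∀ s, ∀ x ∈ R s, x ∈ W := fun s x hx =>
    Subgroup.subset_closure (Or.inl (Set.mem_iUnion.mpr ⟨s, hx⟩))
  have hTpW : ∀ x ∈ Tp, x ∈ W := fun x hx => Subgroup.subset_closure (Or.inr hx)
  -- the involutions of `W ∩ ker χ` inside the group `W`
  let χW : W →* A := χ.comp W.subtype
  let I₀ : Set W := {w | χW w = 1 ∧ w ^ 2 = 1}
  let N₀ : Subgroup W := Subgroup.normalClosure I₀
  have hI₀conj : ∀ (g w : W), w ∈ I₀ → g * w * g⁻¹ ∈ I₀ := by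
    rintro g w ⟨h1, h2⟩
    refine ⟨?_, ?_⟩
    · rw [map_mul, map_mul, map_inv, h1, mul_one, mul_inv_cancel]
    · rw [conj_pow, h2, mul_one, mul_inv_cancel]
  have hN₀cl : N₀ = Subgroup.closure I₀ := by
    apply le_antisymm
    · show Subgroup.normalClosure I₀ ≤ _
      unfold Subgroup.normalClosure
      apply Subgroup.closure_mono
      intro x hx
      rw [Group.mem_conjugatesOfSet_iff] at hx
      obtain ⟨w, hw, hc⟩ := hx
      rw [isConj_iff] at hc
      obtain ⟨g, rfl⟩ := hc
      exact hI₀conj g w hw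
    · exact Subgroup.closure_le_normalClosure
  have hN₀ker : N₀ ≤ χW.ker := by
    apply Subgroup.normalClosure_le_normal
    intro w hw
    exact MonoidHom.mem_ker.mpr hw.1
  -- the quotient
  let π : W →* W ⧸ N₀ := QuotientGroup.mk' N₀
  let χq : W ⧸ N₀ →* A := QuotientGroup.lift N₀ χW hN₀ker
  have hχq : ∀ w : W, χq (π w) = χ w := fun w => rfl
  have hπeq : ∀ x y : W, x * y ∈ I₀ → x ^ 2 = 1 → π x = π y := by
    intro x y hxy hx2
    have h1 : π (x * y) = 1 := by
      rw [QuotientGroup.mk'_apply, QuotientGroup.eq_one_iff]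
      exact Subgroup.subset_normalClosure hxy
    rw [map_mul] at h1
    have h2 : π x * π x = 1 := by rw [← map_mul, ← pow_two, hx2, map_one]
    calc π x = π x * (π x * π y) := by rw [h1, mul_one]
      _ = π y := by rw [← mul_assoc, h2, one_mul]
  -- elements of `R` as elements of `W`
  have key : ∀ s s', ∀ x (hx : x ∈ R s) y (hy : y ∈ R s'), χ x = χ y →
      π ⟨x, hRW s x hx⟩ = π ⟨y, hRW s' y hy⟩ := by
    -- different slots first
    have key0 : ∀ s s', s ≠ s' → ∀ x (hx : x ∈ R s) y (hy : y ∈ R s'), χ x = χ y →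
        π ⟨x, hRW s x hx⟩ = π ⟨y, hRW s' y hy⟩ := by
      intro s s' hss x hx y hy hχ
      apply hπeq
      · refine ⟨?_, ?_⟩
        · show χ (x * y) = 1
          rw [map_mul, hχ, ← pow_two]
          rcases hRχ s' y hy with h | h
          · rw [h, hc₁sq]
          · rw [← map_pow, hR2 s' y hy, map_one]
        · apply Subtype.ext
          show (x * y) ^ 2 = 1
          rw [pow_two]
          calc x * y * (x * y) = x * (y * x) * y := by group
            _ = x * (x * y) * y := by rw [hcomm s s' hss x hx y hy]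
            _ = (x * x) * (y * y) := by group
            _ = 1 := by rw [← pow_two, ← pow_two, hR2 s x hx, hR2 s' y hy, mul_one]
      · apply Subtype.ext
        exact hR2 s x hx
    intro s s' x hx y hy hχ
    by_cases hss : s = s'
    · subst hss
      obtain ⟨s'', hs'', t, ht, htχ⟩ := hpartner s x hx
      rw [key0 s s'' hs''.symm x hx t ht htχ.symm]
      exact (key0 s s'' hs''.symm y hy t ht (htχ.trans hχ).symm).symm
    · exact key0 s s' hss x hx y hy hχ
  -- the final argument
  unfold GenPowSub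
  apply le_antisymm
  · rw [Subgroup.closure_le]
    intro x hx
    exact hx.1
  · intro w hw
    rw [Subgroup.mem_inf, MonoidHom.mem_ker] at hw
    obtain ⟨hwW, hwχ⟩ := hw
    -- it suffices that `π w = 1`
    suffices hπw : π ⟨w, hwW⟩ = 1 by
      have h1 : (⟨w, hwW⟩ : W) ∈ N₀ := by
        rw [QuotientGroup.mk'_apply, QuotientGroup.eq_one_iff] at hπw
        exact hπw
      rw [hN₀cl] at h1
      have h2 : Subgroup.closure I₀ ≤ (Subgroup.closure
          {x : Y | x ∈ W ⊓ χ.ker ∧ x ^ 2 = 1}).comap W.subtype := by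
        rw [Subgroup.closure_le]
        intro v hv
        apply Subgroup.subset_closure
        refine ⟨?_, ?_⟩
        · rw [Subgroup.mem_inf, MonoidHom.mem_ker]
          exact ⟨v.2, hv.1⟩
        · have := congrArg Subtype.val hv.2
          simpa using this
      exact h2 h1
    -- representatives
    · obtain ⟨s₁, r₁, hr₁, hχ₁⟩ := hex₁
      obtain ⟨s₂, r₂', hr₂', hχ₂'⟩ := hex₂
      -- choose r₂ in a different slot
      obtain ⟨s₂, hs₂, r₂, hr₂, hχ₂⟩ : ∃ s₂, s₂ ≠ s₁ ∧ ∃ r₂ ∈ R s₂, χ r₂ = c₂ := by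
        by_cases h : s₂ = s₁
        · subst h
          obtain ⟨s', hs', t, ht, htχ⟩ := hpartner s₂ r₂' hr₂'
          exact ⟨s', hs', t, ht, htχ.trans hχ₂'⟩
        · exact ⟨s₂, h, r₂', hr₂', hχ₂'⟩
      set a : W ⧸ N₀ := π ⟨r₁, hRW s₁ r₁ hr₁⟩ with ha
      set b : W ⧸ N₀ := π ⟨r₂, hRW s₂ r₂ hr₂⟩ with hb
      have ha2 : a ^ 2 = 1 := by
        rw [ha, ← map_pow]
        have : (⟨r₁, hRW s₁ r₁ hr₁⟩ : W) ^ 2 = 1 := Subtype.ext (hR2 s₁ r₁ hr₁)
        rw [this, map_one]
      have hb2 : b ^ 2 = 1 := by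
        rw [hb, ← map_pow]
        have : (⟨r₂, hRW s₂ r₂ hr₂⟩ : W) ^ 2 = 1 := Subtype.ext (hR2 s₂ r₂ hr₂)
        rw [this, map_one]
      have hab : a * b = b * a := by
        rw [ha, hb, ← map_mul, ← map_mul]
        congr 1
        apply Subtype.ext
        exact hcomm s₁ s₂ hs₂.symm r₁ hr₁ r₂ hr₂
      have hrange : ∀ v : W, π v ∈ Subgroup.closure ({a, b} : Set (W ⧸ N₀)) := by
        intro v
        have hv : v ∈ Subgroup.closure ((Subtype.val : W → Y) ⁻¹' ((⋃ s, R s) ∪ Tp)) := by
          have := Subgroup.closure_closure_coe_preimage (k := (⋃ s, R s) ∪ Tp)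
          rw [← hW] at this
          rw [this]
          exact Subgroup.mem_top v
        induction hv using Subgroup.closure_induction with
        | mem x hx =>
          rcases hx with hx | hx
          · obtain ⟨s, hxs⟩ := Set.mem_iUnion.mp hx
            rcases hRχ s x hxs with h | h
            · have := key s s₁ x hxs r₁ hr₁ (h.trans hχ₁.symm)
              have hx' : x = (⟨(x : Y), hRW s x hxs⟩ : W) := rfl
              rw [hx', this]
              exact Subgroup.subset_closure (Or.inl rfl)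
            · have := key s s₂ x hxs r₂ hr₂ (h.trans hχ₂.symm)
              have hx' : x = (⟨(x : Y), hRW s x hxs⟩ : W) := rfl
              rw [hx', this]
              exact Subgroup.subset_closure (Or.inr rfl)
          · have : π x = 1 := by
              rw [QuotientGroup.mk'_apply, QuotientGroup.eq_one_iff]
              apply Subgroup.subset_normalClosure
              refine ⟨hTpχ _ hx, ?_⟩
              apply Subtype.ext
              exact hTp2 _ hx
            rw [this]
            exact one_mem _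
        | one => rw [map_one]; exact one_mem _
        | mul x y _ _ hx hy => rw [map_mul]; exact mul_mem hx hy
        | inv x _ hx => rw [map_inv]; exact inv_mem hx
      have hχa : χq a = c₁ := by rw [ha, hχq]; exact hχ₁
      have hχb : χq b = c₂ := by rw [hb, hχq]; exact hχ₂
      have hw1 : χq (π ⟨w, hwW⟩) = 1 := by rw [hχq]; exact hwχ
      rcases mem_closure_pair_cases ha2 hb2 hab _ (hrange ⟨w, hwW⟩) with h | h | h | h
      · exact h
      · rw [h, hχa] at hw1
        exact absurd hw1 hc₁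
      · rw [h, hχb] at hw1
        exact absurd hw1 hc₂
      · rw [h, map_mul, hχa, hχb] at hw1
        exfalso
        apply hc₁₂
        calc c₁ = c₁ * (c₁ * c₂) := by rw [hw1, mul_one]
          _ = c₂ := by rw [← mul_assoc, ← pow_two, hc₁sq, one_mul]

end Main

end Cfsg.Agent.Lib.Helper67_GenInv
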