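import Cfsg.Agent.Lib.Helper67_OrthFinal
import Cfsg.Agent.Lib.Helper14_NegOne

set_option autoImplicit false
set_option linter.unusedSectionVars false
set_option linter.style.haveILetI false

namespace Cfsg.Agent.Lib.Helper67_OrthEven

open Matrix Module Cfsg.Agent.Lib.Helper44_Orth Cfsg.Agent.Lib.Helper44_Refl
  Cfsg.Agent.Lib.Helper44_Index
  Cfsg.Agent.Lib.Helper67_SymSylow Cfsg.Agent.Lib.Helper67_SpSylow
  Cfsg.Agent.Lib.Helper67_WreathDet
  Cfsg.Agent.Lib.Helper67_OrthModel Cfsg.Agent.Lib.Helper67_OrthSylow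
  Cfsg.Agent.Lib.Helper67_OrthMain Cfsg.Agent.Lib.Helper67_OrthTransport
  Cfsg.Agent.Lib.Helper67_OrthPlane Cfsg.Agent.Lib.Helper67_OrthFinal

section Frame

variable {F : Type*} [Field F] {V : Type*} [AddCommGroup V] [Module F V]

/-- a frame whose last norm is a square can be rescaled to an orthonormal frame -/
theorem exists_unit_frame (Q : QuadraticForm F V) {n : ℕ} (x : Fin (n + 1) → V)
    (hortho : ∀ i j, i ≠ j → QuadraticMap.polar (⇑Q) (x i) (x j) = 0)
    (hone : ∀ i, i ≠ Fin.last n → Q (x i) = 1) (hlast : Q (x (Fin.last n)) ≠ 0)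
    (hsq : IsSquare (Q (x (Fin.last n)))) :
    ∃ x' : Fin (n + 1) → V, (∀ i j, i ≠ j → QuadraticMap.polar (⇑Q) (x' i) (x' j) = 0) ∧
      ∀ i, Q (x' i) = 1 := by
  obtain ⟨s, hs⟩ := hsq
  have hs0 : s ≠ 0 := by
    rintro rfl
    rw [mul_zero] at hs
    exact hlast hs
  refine ⟨fun i => (if i = Fin.last n then s⁻¹ else 1) • x i, ?_, ?_⟩
  · intro i j hij
    rw [QuadraticMap.polar_smul_left, QuadraticMap.polar_smul_right, hortho i j hij, smul_zero,
      smul_zero]
  · intro i
    rw [QuadraticMap.map_smul]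
    by_cases hi : i = Fin.last n
    · rw [if_pos hi, hi, hs, smul_eq_mul]
      field_simp
    · rw [if_neg hi, hone i hi, smul_eq_mul]
      ring

end Frame

section Final

variable {F : Type*} [Field F] [Fintype F] {ι : Type} [Fintype ι] [DecidableEq ι]

/-- even dimension `2m`: the two cases according to whether `-1 ∈ Ω` -/
theorem eSub_sylow_omega_even_dim (hF : Odd (Fintype.card F)) (Q : QuadraticForm F (ι → F))
    (hQ : (QuadraticMap.polarBilin Q).Nondegenerate) (m : ℕ) (hm : 2 ≤ m)
    (hcard : Fintype.card ι = m + m)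
    (hordA : (Nat.card ↥(Cfsg.isometryGroup F (⇑Q))).factorization 2 ≤
      m * tExp F + (m.factorial).factorization 2)
    (hordB : Cfsg.Agent.Lib.Helper44_Spinor.negOne Q ∉ Cfsg.Omega F (⇑Q) → 3 ≤ m ∧
      (Nat.card ↥(Cfsg.isometryGroup F (⇑Q))).factorization 2 ≤
        (m - 1) * tExp F + ((m - 1).factorial).factorization 2 + 2)
    (S : Sylow 2 ↥(Cfsg.Omega F (⇑Q))) :
    ∀ x : (S : Subgroup ↥(Cfsg.Omega F (⇑Q))), x ^ 2 ∈ commutator (S : Subgroup ↥(Cfsg.Omega F (⇑Q))) := by
  have h2 : (2 : F) ≠ 0 := Cfsg.Agent.Lib.Helper67_GL2Normal.two_ne_zero_of_odd hF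
  have hcard' : Fintype.card ι = (m + m - 1) + 1 := by omega
  have hfr : finrank F (ι → F) = (m + m - 1) + 1 := by
    rw [Module.finrank_fintype_fun_eq_card]
    exact hcard'
  obtain ⟨x, hortho, hone, hlast⟩ :=
    Cfsg.Agent.Lib.Helper14_TwoRank.exists_frame h2 (m + m - 1) (ι → F) Q hfr hQ
  by_cases hsq : IsSquare (Q (x (Fin.last (m + m - 1))))
  · -- orthonormal frame
    obtain ⟨x', hortho', hone'⟩ := exists_unit_frame Q x hortho hone hlast hsq
    have hidx : m + m + 0 = (m + m - 1) + 1 := by omega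
    apply eSub_sylow_omega hF Q hQ m 0 hm (fun j => j.elim0) (fun j => j.elim0)
      (fun a => x' (Fin.cast hidx (eJ m 0 a))) (by omega)
    · intro a b hab
      apply hortho'
      intro h
      exact hab ((eJ m 0).injective (Fin.cast_injective _ h))
    · intro a
      rw [hone']
      rcases a with a | j
      · rfl
      · exact j.elim0
    · simpa using hordA
  · -- last norm a non-square
    have hneg : Cfsg.Agent.Lib.Helper44_Spinor.negOne Q ∉ Cfsg.Omega F (⇑Q) := fun h =>
      hsq (Cfsg.Agent.Lib.Helper14_TwoRank.isSquare_last_of_negOne_mem h2 Q hcard' x hortho hone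
        hlast h)
    obtain ⟨hm3, hord⟩ := hordB hneg
    have hidx : (m - 1) + (m - 1) + 2 = (m + m - 1) + 1 := by omega
    set d : F := Q (x (Fin.last (m + m - 1))) with hd
    apply eSub_sylow_omega hF Q hQ (m - 1) 2 (by omega) ![1, d]
      (by
        intro j
        fin_cases j
        · exact one_ne_zero
        · exact hlast)
      (fun a => x (Fin.cast hidx (eJ (m - 1) 2 a))) (by omega)
    · intro a b hab
      apply hortho
      intro h
      exact hab ((eJ (m - 1) 2).injective (Fin.cast_injective _ h))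
    · intro a
      rcases a with a | j
      · rw [eJ_inl]
        show _ = (1 : F)
        apply hone
        intro h
        have := congrArg Fin.val h
        simp only [Fin.val_cast, Fin.val_castAdd, Fin.val_last] at this
        have h' := (finSumFinEquiv a).2
        omega
      · rw [eJ_inr]
        fin_cases j
        · show _ = (1 : F)
          apply hone
          intro h
          have := congrArg Fin.val h
          simp only [Fin.val_cast, Fin.val_natAdd, Fin.val_last] at this
          change m - 1 + (m - 1) + 0 = m + m - 1 at this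
          omega
        · show _ = d
          rw [hd]
          congr 2
          apply Fin.ext
          simp only [Fin.val_cast, Fin.val_natAdd, Fin.val_last]
          show m - 1 + (m - 1) + 1 = m + m - 1
          omega
    · exact hord

end Final

section Arith

/-- `ν₂(q^m - 1) + ν₂(q^m + 1) = ν₂(q - 1) + ν₂(q + 1) + ν₂(m)` -/
theorem val_pow_sub_add (q : ℕ) (hq : Odd q) (hq3 : 3 ≤ q) (m : ℕ) (hm : m ≠ 0) :
    (q ^ m - 1).factorization 2 + (q ^ m + 1).factorization 2 =
      (q - 1).factorization 2 + (q + 1).factorization 2 + m.factorization 2 := by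
  have h1 : 1 < q ^ m := Nat.one_lt_pow hm (by omega)
  have hmul : (q ^ m - 1) * (q ^ m + 1) = q ^ (2 * m) - 1 := by
    have : q ^ (2 * m) = q ^ m * q ^ m := by rw [two_mul, pow_add]
    rw [this]
    obtain ⟨a, ha⟩ : ∃ a, q ^ m = a + 1 := ⟨q ^ m - 1, by omega⟩
    rw [ha]
    have : (a + 1) * (a + 1) = a * (a + 1 + 1) + 1 := by ring
    rw [this]
    simp
  rw [← val_pow_sub_one q hq hq3 m hm, ← hmul, Nat.factorization_mul (by omega) (by omega),
    Finsupp.add_apply]

theorem one_le_val_of_even (n : ℕ) (hn : n ≠ 0) (he : Even n) : 1 ≤ n.factorization 2 := by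
  have : 2 ∣ n := he.two_dvd
  exact (Nat.Prime.dvd_iff_one_le_factorization Nat.prime_two hn).mp this

/-- the `2`-part of an order of shape `2 q^a X ∏_{i<n} (q^{2(i+1)} - 1)` -/
theorem val_card_orth (q : ℕ) (hq : Odd q) (hq3 : 3 ≤ q) (a n X : ℕ) (hX : X ≠ 0) :
    (2 * q ^ a * X * ∏ i ∈ Finset.range n, (q ^ (2 * (i + 1)) - 1)).factorization 2 =
      1 + X.factorization 2 +
        (n * ((q - 1).factorization 2 + (q + 1).factorization 2) + (n.factorial).factorization 2) := by
  have hq0 : q ≠ 0 := by omega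
  have hne : ∀ i ∈ Finset.range n, q ^ (2 * (i + 1)) - 1 ≠ 0 := by
    intro i _
    have : 1 < q ^ (2 * (i + 1)) := Nat.one_lt_pow (by omega) (by omega)
    omega
  have hprod : (∏ i ∈ Finset.range n, (q ^ (2 * (i + 1)) - 1)) ≠ 0 :=
    Finset.prod_ne_zero_iff.mpr hne
  have hq2 : ∀ b, (q ^ b).factorization 2 = 0 := by
    intro b
    rw [Nat.factorization_pow, Finsupp.smul_apply]
    have : q.factorization 2 = 0 := by
      apply Nat.factorization_eq_zero_of_not_dvd
      rcases hq with ⟨r, rfl⟩
      omega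
    rw [this, smul_zero]
  have hsp := val_card_sp q hq hq3 n
  rw [Nat.factorization_mul (pow_ne_zero _ hq0) hprod, Finsupp.add_apply, hq2, zero_add] at hsp
  rw [mul_assoc, mul_assoc, val_two_mul _ (mul_ne_zero (pow_ne_zero _ hq0) (mul_ne_zero hX hprod)),
    Nat.factorization_mul (pow_ne_zero _ hq0) (mul_ne_zero hX hprod), Finsupp.add_apply, hq2,
    zero_add, Nat.factorization_mul hX hprod, Finsupp.add_apply, hsp]
  omega

theorem val_factorial_succ (j : ℕ) :
    ((j + 1).factorial).factorization 2 = (j.factorial).factorization 2 + (j + 1).factorization 2 := by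
  rw [Nat.factorial_succ, Nat.factorization_mul (by omega) (Nat.factorial_ne_zero j),
    Finsupp.add_apply, add_comm]

end Arith

end Cfsg.Agent.Lib.Helper67_OrthEven
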