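import Cfsg.Agent.Lib.Helper67_OrthMain
import Cfsg.Agent.Lib.Helper67_GLNormalRank
import Cfsg.Agent.S2679
import Cfsg.Agent.S0287
import Cfsg.Agent.S0288

set_option autoImplicit false
set_option linter.unusedSectionVars false
set_option linter.style.haveILetI false

namespace Cfsg.Agent.Lib.Helper67_OrthPlane

open Matrix Module Cfsg.Agent.Lib.Helper44_Orth Cfsg.Agent.Lib.Helper44_Refl
  Cfsg.Agent.Lib.Helper67_OrthModel Cfsg.Agent.Lib.Helper67_OrthSylow
  Cfsg.Agent.Lib.Helper67_OrthMain Cfsg.Agent.Lib.Helper67_GLSylow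
  Cfsg.Agent.Lib.Helper67_GLNormalRank Cfsg.Agent.Lib.Helper67_SpSylow

section PlaneOrder

variable {F : Type*} [Field F] [Fintype F]

/-- `q ≡ 3 mod 4`: the plane `x² + y²` is the anisotropic plane -/
theorem card_XP_minus (hq : 4 ∣ Fintype.card F + 1) :
    2 * (Fintype.card F + 1) ∣ Nat.card (XP F) := by
  have hns : ¬ IsSquare (-1 : F) := by
    rw [FiniteField.isSquare_neg_one_iff]
    obtain ⟨t, ht⟩ := hq
    omega
  have hab : ∀ z₁ z₂ : F, z₁ ^ 2 + 0 * z₁ * z₂ + 1 * z₂ ^ 2 = 0 → z₁ = 0 ∧ z₂ = 0 := by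
    intro z₁ z₂ h
    have hz₂ : z₂ = 0 := by
      by_contra hne
      apply hns
      refine ⟨z₁ / z₂, ?_⟩
      field_simp
      linear_combination -h
    subst hz₂
    refine ⟨?_, rfl⟩
    have : z₁ ^ 2 = 0 := by linear_combination h
    exact pow_eq_zero_iff (two_ne_zero) |>.mp this
  have hcard : Nat.card ↥(Cfsg.isometryGroup F (Cfsg.quadFormMinus 0 F 0 1)) =
      2 * (Fintype.card F + 1) := by
    have := Cfsg.Agent.S0288.result (F := F) rfl 1 (le_refl 1) 0 1 hab
    simp only [Nat.sub_self, mul_zero, pow_zero, mul_one, pow_one, Finset.range_zero,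
      Finset.prod_empty] at this
    exact this
  -- reindexing
  let P : Matrix (Fin 2) ((Fin 0 ⊕ Fin 0) ⊕ Fin 2) F :=
    Matrix.of fun r s => if s = Sum.inr r then 1 else 0
  let P' : Matrix ((Fin 0 ⊕ Fin 0) ⊕ Fin 2) (Fin 2) F :=
    Matrix.of fun s r => if s = Sum.inr r then 1 else 0
  have hPu : ∀ (u : (Fin 0 ⊕ Fin 0) ⊕ Fin 2 → F) (r : Fin 2), (P *ᵥ u) r = u (Sum.inr r) := by
    intro u r
    simp only [P, Matrix.mulVec, dotProduct, Matrix.of_apply]
    rw [Finset.sum_eq_single (Sum.inr r)]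
    · simp
    · intro s _ hs
      simp [hs]
    · simp
  have h1 : P * P' = 1 := by
    ext r r'
    simp only [P, P', Matrix.mul_apply, Matrix.of_apply, Matrix.one_apply]
    rw [Finset.sum_eq_single (Sum.inr r)]
    · simp
    · intro s _ hs
      simp [hs]
    · simp
  have h2 : P' * P = 1 := by
    ext s s'
    rcases s with (s | s) | s
    · exact s.elim0
    · exact s.elim0
    rcases s' with (s' | s') | s'
    · exact s'.elim0
    · exact s'.elim0
    simp only [P, P', Matrix.mul_apply, Matrix.of_apply, Matrix.one_apply]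
    rw [Finset.sum_eq_single s]
    · simp [eq_comm]
    · intro r _ hr
      simp [Ne.symm hr]
    · simp
  obtain ⟨φ, hφ⟩ := Cfsg.Agent.S2679.transport (Cfsg.quadFormMinus 0 F 0 1)
    (⇑(piForm F)) P P' h1 h2 (by
      intro u
      rw [piForm_apply, hPu, hPu]
      simp [Cfsg.quadFormMinus]
      ring)
  have := Subgroup.card_dvd_of_injective φ hφ
  rw [hcard] at this
  exact this


/-- `q ≡ 1 mod 4`: the plane `x² + y²` is hyperbolic -/
theorem card_XP_plus (hq : 4 ∣ Fintype.card F - 1) (hF : Odd (Fintype.card F)) :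
    2 * (Fintype.card F - 1) ∣ Nat.card (XP F) := by
  have h2 : (2 : F) ≠ 0 := Cfsg.Agent.Lib.Helper67_GL2Normal.two_ne_zero_of_odd hF
  have hsq : IsSquare (-1 : F) := by
    rw [FiniteField.isSquare_neg_one_iff]
    obtain ⟨t, ht⟩ := hq
    have h3 := three_le_card hF
    omega
  obtain ⟨i, hi⟩ := hsq
  have hi0 : i ≠ 0 := by
    rintro rfl
    simp at hi
  have hcard : Nat.card ↥(Cfsg.isometryGroup F (Cfsg.quadFormPlus 1 F)) =
      2 * (Fintype.card F - 1) := by
    have := Cfsg.Agent.S0287.result (F := F) rfl 1 (le_refl 1)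
    simp only [Nat.sub_self, mul_zero, pow_zero, mul_one, pow_one, Finset.range_zero,
      Finset.prod_empty] at this
    exact this
  let P : Matrix (Fin 2) (Fin 1 ⊕ Fin 1) F :=
    Matrix.of fun r s => if r = 0 then 2⁻¹ else Sum.elim (fun _ => (2 * i)⁻¹) (fun _ => -(2 * i)⁻¹) s
  let P' : Matrix (Fin 1 ⊕ Fin 1) (Fin 2) F :=
    Matrix.of fun s r => Sum.elim (fun _ => if r = 0 then 1 else i) (fun _ => if r = 0 then 1 else -i) s
  have hPu0 : ∀ (u : Fin 1 ⊕ Fin 1 → F), (P *ᵥ u) 0 = 2⁻¹ * (u (Sum.inl 0) + u (Sum.inr 0)) := by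
    intro u
    simp only [P, Matrix.mulVec, dotProduct, Matrix.of_apply, Fintype.sum_sum_type,
      Finset.univ_unique, Finset.sum_singleton]
    simp
    ring
  have hPu1 : ∀ (u : Fin 1 ⊕ Fin 1 → F), (P *ᵥ u) 1 = (2 * i)⁻¹ * (u (Sum.inl 0) - u (Sum.inr 0)) := by
    intro u
    simp only [P, Matrix.mulVec, dotProduct, Matrix.of_apply, Fintype.sum_sum_type,
      Finset.univ_unique, Finset.sum_singleton]
    simp
    ring
  have h1 : P * P' = 1 := by
    ext r r'
    simp only [P, P', Matrix.mul_apply, Matrix.of_apply, Fintype.sum_sum_type,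
      Finset.univ_unique, Finset.sum_singleton, Sum.elim_inl, Sum.elim_inr]
    fin_cases r <;> fin_cases r' <;> simp <;> field_simp <;> ring
  have h2' : P' * P = 1 := by
    ext s s'
    simp only [P, P', Matrix.mul_apply, Matrix.of_apply, Fin.sum_univ_two]
    rcases s with s | s <;> rcases s' with s' | s' <;>
      simp [Matrix.one_apply, Subsingleton.elim s s'] <;> field_simp <;> ring
  obtain ⟨φ, hφ⟩ := Cfsg.Agent.S2679.transport (Cfsg.quadFormPlus 1 F)
    (⇑(piForm F)) P P' h1 h2' (by
      intro u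
      rw [piForm_apply, hPu0, hPu1]
      simp only [Cfsg.quadFormPlus, Finset.univ_unique, Finset.sum_singleton]
      have : (default : Fin 1) = 0 := rfl
      rw [this]
      field_simp
      linear_combination (-(u (Sum.inl 0) - u (Sum.inr 0)) ^ 2) * hi)
  have := Subgroup.card_dvd_of_injective φ hφ
  rw [hcard] at this
  exact this


theorem val_two_mul (n : ℕ) (hn : n ≠ 0) : (2 * n).factorization 2 = 1 + n.factorization 2 := by
  rw [Nat.factorization_mul (by norm_num) hn, Finsupp.add_apply, Nat.prime_two.factorization_self]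

/-- the `2`-part of the order of the plane group -/
theorem val_card_XP_ge (hF : Odd (Fintype.card F)) :
    (Fintype.card F - 1).factorization 2 + (Fintype.card F + 1).factorization 2 ≤
      (Nat.card (XP F)).factorization 2 := by
  have h3 := three_le_card hF
  have hpos : Nat.card (XP F) ≠ 0 := Nat.card_pos.ne'
  have hcases : 4 ∣ Fintype.card F + 1 ∨ 4 ∣ Fintype.card F - 1 := by
    obtain ⟨t, ht⟩ := hF
    rcases Nat.even_or_odd' t with ⟨s, rfl | rfl⟩
    · right
      exact ⟨s, by omega⟩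
    · left
      exact ⟨s + 1, by omega⟩
  rcases hcases with hq | hq
  · have hd := card_XP_minus (F := F) hq
    have hle := (Nat.factorization_le_iff_dvd (by omega) hpos).mpr hd 2
    rw [val_two_mul _ (by omega)] at hle
    rw [val_sub_one_of_four_dvd _ hq]
    exact hle
  · have hd := card_XP_plus (F := F) hq hF
    have hle := (Nat.factorization_le_iff_dvd (by omega) hpos).mpr hd 2
    rw [val_two_mul _ (by omega)] at hle
    rw [val_add_one_of_four_dvd _ hq h3]
    omega

end PlaneOrder

end Cfsg.Agent.Lib.Helper67_OrthPlane
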