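import Cfsg.Agent.Lib.Helper67_OrthTransport
import Cfsg.Agent.Lib.Helper67_OrthPlane
import Cfsg.Agent.Lib.Helper14_TwoRank

set_option autoImplicit false
set_option linter.unusedSectionVars false
set_option linter.style.haveILetI false

namespace Cfsg.Agent.Lib.Helper67_OrthFinal

open Matrix Module Cfsg.Agent.Lib.Helper44_Orth Cfsg.Agent.Lib.Helper44_Refl
  Cfsg.Agent.Lib.Helper44_Index
  Cfsg.Agent.Lib.Helper67_SymSylow Cfsg.Agent.Lib.Helper67_SpSylow
  Cfsg.Agent.Lib.Helper67_WreathDet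
  Cfsg.Agent.Lib.Helper67_OrthModel Cfsg.Agent.Lib.Helper67_OrthSylow
  Cfsg.Agent.Lib.Helper67_OrthMain Cfsg.Agent.Lib.Helper67_OrthTransport
  Cfsg.Agent.Lib.Helper67_OrthPlane

section Final

variable {F : Type*} [Field F] [Fintype F] {ι : Type} [Fintype ι] [DecidableEq ι]

/-- the `2`-adic exponent of `|O(x² + y²)|` -/
noncomputable def tExp (F : Type*) [Fintype F] : ℕ :=
  (Fintype.card F - 1).factorization 2 + (Fintype.card F + 1).factorization 2

/-- **General transfer**: a frame of the right shape and the right `2`-part of `|O(Q)|` give the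
`E`-property for every Sylow `2`-subgroup of `Ω(Q)`. -/
theorem eSub_sylow_omega (hF : Odd (Fintype.card F)) (Q : QuadraticForm F (ι → F))
    (hQ : (QuadraticMap.polarBilin Q).Nondegenerate) (k l : ℕ) (hk : 2 ≤ k)
    (c : Fin l → F) (hc : ∀ j, c j ≠ 0) (y : JJ k l → (ι → F))
    (hcard : Fintype.card ι = k + k + l)
    (hortho : ∀ a b, a ≠ b → QuadraticMap.polar (⇑Q) (y a) (y b) = 0)
    (hnorm : ∀ a, Q (y a) = wt k l c a)
    (hord : (Nat.card ↥(Cfsg.isometryGroup F (⇑Q))).factorization 2 ≤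
      k * tExp F + (k.factorial).factorization 2 + l)
    (S : Sylow 2 ↥(Cfsg.Omega F (⇑Q))) :
    ∀ x : (S : Subgroup ↥(Cfsg.Omega F (⇑Q))), x ^ 2 ∈ commutator (S : Subgroup ↥(Cfsg.Omega F (⇑Q))) := by
  classical
  have h2 : (2 : F) ≠ 0 := Cfsg.Agent.Lib.Helper67_GL2Normal.two_ne_zero_of_odd hF
  let T : Sylow 2 (XP F) := default
  let P : Sylow 2 (Equiv.Perm (Fin k)) := default
  obtain ⟨H, hHΩ, hHp, hHE, hHcard⟩ := exists_large_eSub h2 k l c hc T P hk
  obtain ⟨φ, hφ⟩ := exists_transport h2 Q k l (by omega) c hc y hcard hortho hnorm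
  -- the image inside `Ω(Q)`
  set K : Subgroup ↥(Cfsg.isometryGroup F (⇑Q)) := H.map φ with hK
  have hKΩ : K ≤ Cfsg.Omega F (⇑Q) := by
    rintro _ ⟨x, hx, rfl⟩
    exact map_mem_commutator φ (hHΩ hx)
  have hKE : ESub 2 K := hHE.map φ
  have hKcard : Nat.card K = Nat.card H := Subgroup.card_map_of_injective hφ
  set K' : Subgroup ↥(Cfsg.Omega F (⇑Q)) := K.subgroupOf (Cfsg.Omega F (⇑Q)) with hK'
  have hK'map : K'.map (Cfsg.Omega F (⇑Q)).subtype = K := by
    rw [hK', Subgroup.subgroupOf_map_subtype]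
    exact inf_eq_left.mpr hKΩ
  have hK'E : ESub 2 K' := by
    apply eSub_of_map_injective (Cfsg.Omega F (⇑Q)).subtype (Subgroup.subtype_injective _)
    rw [hK'map]
    exact hKE
  have hK'card : Nat.card K' = Nat.card H := by
    rw [← hKcard, ← hK'map, Subgroup.card_map_of_injective (Subgroup.subtype_injective _)]
  have hK'p : IsPGroup 2 K' := by
    obtain ⟨n, hn⟩ := (IsPGroup.iff_card (p := 2)).mp hHp
    apply IsPGroup.of_card (n := n)
    rw [hK'card, hn]
  -- orders
  have hidx := index_omega_odd h2 Q hQ (by omega)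
  have hmul := Subgroup.card_mul_index (Cfsg.Omega F (⇑Q))
  rw [hidx] at hmul
  have hΩpos : Nat.card ↥(Cfsg.Omega F (⇑Q)) ≠ 0 := Nat.card_pos.ne'
  have hval : (Nat.card ↥(Cfsg.isometryGroup F (⇑Q))).factorization 2 =
      (Nat.card ↥(Cfsg.Omega F (⇑Q))).factorization 2 + 2 := by
    rw [← hmul, Nat.factorization_mul hΩpos (by norm_num), Finsupp.add_apply]
    congr 1
    have : (4 : ℕ) = 2 ^ 2 := by norm_num
    rw [this, Nat.Prime.factorization_pow Nat.prime_two, Finsupp.single_eq_same]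
  have hTcard : 2 ^ tExp F ≤ Nat.card (T : Subgroup (XP F)) := by
    rw [T.card_eq_multiplicity]
    exact Nat.pow_le_pow_right (by norm_num) (val_card_XP_ge hF)
  have hPcard : Nat.card (P : Subgroup (Equiv.Perm (Fin k))) = 2 ^ (k.factorial).factorization 2 := by
    rw [card_sylow_perm, ← Nat.factorization_def _ Nat.prime_two]
  have hbig : 2 ^ (Nat.card ↥(Cfsg.Omega F (⇑Q))).factorization 2 ≤ Nat.card K' := by
    rw [hK'card]
    have h4 : 2 ^ ((Nat.card ↥(Cfsg.Omega F (⇑Q))).factorization 2 + 2) ≤ 4 * Nat.card H := by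
      rw [← hval]
      calc 2 ^ (Nat.card ↥(Cfsg.isometryGroup F (⇑Q))).factorization 2
          ≤ 2 ^ (k * tExp F + (k.factorial).factorization 2 + l) :=
            Nat.pow_le_pow_right (by norm_num) hord
        _ = (2 ^ tExp F) ^ k * 2 ^ (k.factorial).factorization 2 * 2 ^ l := by
            rw [pow_add, pow_add, ← pow_mul, mul_comm k]
        _ ≤ Nat.card (T : Subgroup (XP F)) ^ k * Nat.card (P : Subgroup (Equiv.Perm (Fin k))) *
            2 ^ l := by
            rw [hPcard]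
            exact Nat.mul_le_mul_right _ (Nat.mul_le_mul_right _ (Nat.pow_le_pow_left hTcard k))
        _ ≤ 4 * Nat.card H := hHcard
    rw [pow_add] at h4
    omega
  have hS := eSub_sylow_of_large 2 K' hK'p hbig hK'E S
  rw [eSub_iff_eT] at hS
  exact hS


/-- the index equivalence `(Fin k ⊕ Fin k) ⊕ Fin l ≃ Fin (k + k + l)` -/
def eJ (k l : ℕ) : JJ k l ≃ Fin (k + k + l) :=
  (Equiv.sumCongr finSumFinEquiv (Equiv.refl (Fin l))).trans finSumFinEquiv

theorem eJ_inl (k l : ℕ) (a : Fin k ⊕ Fin k) :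
    eJ k l (Sum.inl a) = Fin.castAdd l (finSumFinEquiv a) := by
  simp [eJ]

theorem eJ_inr (k l : ℕ) (j : Fin l) : eJ k l (Sum.inr j) = Fin.natAdd (k + k) j := by
  simp [eJ]

/-- odd dimension `2m + 1` -/
theorem eSub_sylow_omega_odd_dim (hF : Odd (Fintype.card F)) (Q : QuadraticForm F (ι → F))
    (hQ : (QuadraticMap.polarBilin Q).Nondegenerate) (m : ℕ) (hm : 2 ≤ m)
    (hcard : Fintype.card ι = m + m + 1)
    (hord : (Nat.card ↥(Cfsg.isometryGroup F (⇑Q))).factorization 2 ≤
      m * tExp F + (m.factorial).factorization 2 + 1)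
    (S : Sylow 2 ↥(Cfsg.Omega F (⇑Q))) :
    ∀ x : (S : Subgroup ↥(Cfsg.Omega F (⇑Q))), x ^ 2 ∈ commutator (S : Subgroup ↥(Cfsg.Omega F (⇑Q))) := by
  have h2 : (2 : F) ≠ 0 := Cfsg.Agent.Lib.Helper67_GL2Normal.two_ne_zero_of_odd hF
  have hfr : finrank F (ι → F) = (m + m) + 1 := by
    rw [Module.finrank_fintype_fun_eq_card]
    exact hcard
  obtain ⟨x, hortho, hone, hlast⟩ :=
    Cfsg.Agent.Lib.Helper14_TwoRank.exists_frame h2 (m + m) (ι → F) Q hfr hQ
  apply eSub_sylow_omega hF Q hQ m 1 hm (fun _ => Q (x (Fin.last (m + m)))) (fun _ => hlast)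
    (fun a => x (eJ m 1 a)) hcard
  · intro a b hab
    exact hortho _ _ (fun h => hab ((eJ m 1).injective h))
  · intro a
    rcases a with a | j
    · rw [eJ_inl]
      show _ = (1 : F)
      apply hone
      intro h
      have := congrArg Fin.val h
      simp only [Fin.val_castAdd, Fin.val_last] at this
      have h' := (finSumFinEquiv a).2
      omega
    · rw [eJ_inr]
      show _ = Q (x (Fin.last (m + m)))
      congr 2
      apply Fin.ext
      simp only [Fin.val_natAdd, Fin.val_last]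
      have := j.2
      omega
  · exact hord

end Final

end Cfsg.Agent.Lib.Helper67_OrthFinal
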