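import Cfsg.Agent.Lib.Helper67_OrthSylow

set_option autoImplicit false
set_option linter.unusedSectionVars false
set_option linter.style.haveILetI false

namespace Cfsg.Agent.Lib.Helper67_OrthMain

open Matrix Cfsg.Agent.Lib.Helper44_Orth Cfsg.Agent.Lib.Helper44_Refl
  Cfsg.Agent.Lib.Helper44_Spinor Cfsg.Agent.Lib.Helper44_Index
  Cfsg.Agent.Lib.Helper44_OmegaOdd
  Cfsg.Agent.Lib.Helper67_SymSylow Cfsg.Agent.Lib.Helper67_SpSylow
  Cfsg.Agent.Lib.Helper67_WreathModel Cfsg.Agent.Lib.Helper67_GLSylow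
  Cfsg.Agent.Lib.Helper67_WreathDet Cfsg.Agent.Lib.Helper67_SLSylow
  Cfsg.Agent.Lib.Helper67_OrthModel Cfsg.Agent.Lib.Helper67_GenInv
  Cfsg.Agent.Lib.Helper67_OrthSylow Cfsg.Agent.Lib.Helper67_NormalRank

section General

variable {G A : Type*} [Group G] [Group A]

/-- a subgroup is generated by the complement of a proper kernel -/
theorem closure_not_ker (T : Subgroup G) (f : G →* A) (hs : ∃ s ∈ T, f s ≠ 1) :
    Subgroup.closure {t | t ∈ T ∧ f t ≠ 1} = T := by
  obtain ⟨s, hsT, hfs⟩ := hs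
  apply le_antisymm
  · rw [Subgroup.closure_le]
    intro t ht
    exact ht.1
  · intro t ht
    by_cases hft : f t = 1
    · have h1 : t * s ∈ Subgroup.closure {t | t ∈ T ∧ f t ≠ 1} := by
        apply Subgroup.subset_closure
        refine ⟨mul_mem ht hsT, ?_⟩
        rw [map_mul, hft, one_mul]
        exact hfs
      have h2 : s ∈ Subgroup.closure {t | t ∈ T ∧ f t ≠ 1} :=
        Subgroup.subset_closure ⟨hsT, hfs⟩
      have := mul_mem h1 (inv_mem h2)
      rwa [mul_inv_cancel_right] at this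
    · exact Subgroup.subset_closure ⟨ht, hft⟩

/-- a Sylow `2`-subgroup maps onto a `2`-group quotient -/
theorem sylow_map_surjective [Finite G] (f : G →* A) (hf : Function.Surjective f) (n : ℕ)
    (hA : Nat.card A = 2 ^ n) (T : Sylow 2 G) (a : A) : ∃ g ∈ (T : Subgroup G), f g = a := by
  have : Finite A := Nat.finite_of_card_ne_zero (by rw [hA]; positivity)
  have h1 : Nat.card (T.mapSurjective hf : Subgroup A) = 2 ^ n := by
    rw [(T.mapSurjective hf).card_eq_multiplicity, hA, Nat.Prime.factorization_pow Nat.prime_two,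
      Finsupp.single_eq_same]
  have h2 : ((T.mapSurjective hf : Sylow 2 A) : Subgroup A) = ⊤ := by
    rw [← Subgroup.card_eq_iff_eq_top, h1, hA]
  have h3 : a ∈ ((T.mapSurjective hf : Sylow 2 A) : Subgroup A) := by
    rw [h2]
    exact Subgroup.mem_top a
  rw [Sylow.coe_mapSurjective] at h3
  obtain ⟨g, hg, rfl⟩ := h3
  exact ⟨g, hg, rfl⟩

end General


section Main

variable {F : Type*} [Field F] [Fintype F] (h2 : (2 : F) ≠ 0) (k l : ℕ) (c : Fin l → F)
  (hc : ∀ j, c j ≠ 0) (T : Sylow 2 (XP F)) (P : Sylow 2 (Equiv.Perm (Fin k)))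

/-- the determinant character of the plane group -/
noncomputable def detP : XP F →* ℤˣ := detZ h2 (piForm F) (nondeg_QP h2)

theorem blockHom_val (i : Fin k) (g : XP F) :
    ((blockHom k l c i g : YS k l c) : GL (JJ k l) F) =
      embGL k l (baseGL k (Pi.mulSingle i (g : GL (Fin 2) F))) := by
  show embGL k l (baseGL k _) = _
  congr 2
  funext i'
  show ((Pi.mulSingle (M := fun _ : Fin k => XP F) i g i' : XP F) : GL (Fin 2) F) = _
  by_cases hi : i' = i
  · subst hi
    rw [Pi.mulSingle_eq_same, Pi.mulSingle_eq_same]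
  · rw [Pi.mulSingle_eq_of_ne hi, Pi.mulSingle_eq_of_ne hi]
    rfl

theorem chi_blockHom_fst (i : Fin k) (g : XP F) :
    (chi h2 k l c hc (blockHom k l c i g)).1 = detP h2 g := by
  have h1 : (chi h2 k l c hc (blockHom k l c i g)).1 = 1 ↔ detP h2 g = 1 := by
    show detZ h2 _ _ (blockHom k l c i g) = 1 ↔ _
    rw [detZ_eq_one_iff, detP, detZ_eq_one_iff, blockHom_val, det_embGL_baseGL_mulSingle]
  rcases Int.units_eq_one_or (chi h2 k l c hc (blockHom k l c i g)).1 with h | h <;>
    rcases Int.units_eq_one_or (detP h2 g) with h' | h'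
  · rw [h, h']
  · rw [h1.mp h] at h'
    exact absurd h' (by decide)
  · rw [h1.mpr h'] at h
    exact absurd h (by decide)
  · rw [h, h']

theorem card_units_prod : Nat.card (ℤˣ × ℤˣ) = 2 ^ 2 := by
  rw [Nat.card_prod, Nat.card_eq_fintype_card, Fintype.card_units_int]
  norm_num

/-- every pair of signs is attained on the Sylow subgroup of a block -/
theorem exists_mem_T_chi (i : Fin k) (a : ℤˣ × ℤˣ) :
    ∃ g ∈ (T : Subgroup (XP F)), chi h2 k l c hc (blockHom k l c i g) = a :=
  sylow_map_surjective _ (chi_blockHom_surjective h2 k l c hc i) 2 card_units_prod T a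

/-- the generating involutions, sorted into slots -/
def Rset : Fin k ⊕ Fin l → Set (YS k l c)
  | Sum.inl i => {x | ∃ g ∈ (T : Subgroup (XP F)), detP h2 g = -1 ∧ x = blockHom k l c i g}
  | Sum.inr j => {rho k l c hc j}

/-- the involutions of the top group -/
def Tpset : Set (YS k l c) :=
  {x | ∃ σ ∈ (P : Subgroup (Equiv.Perm (Fin k))), σ ^ 2 = 1 ∧ x = (oData k l c).top σ}

theorem det_of_detP {g : XP F} (h : detP h2 g = -1) :
    det ((g : GL (Fin 2) F) : Matrix (Fin 2) (Fin 2) F) = -1 := by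
  rcases det_eq_one_or h2 (piForm F) (nondeg_QP h2) g with h' | h'
  · have := (detZ_eq_one_iff h2 (piForm F) (nondeg_QP h2) g).mpr h'
    rw [detP] at h
    rw [h] at this
    exact absurd this (by decide)
  · exact h'

theorem Rset_sq (s : Fin k ⊕ Fin l) (x : YS k l c) (hx : x ∈ Rset h2 k l c hc T s) :
    x ^ 2 = 1 := by
  rcases s with i | j
  · obtain ⟨g, -, hg, rfl⟩ := hx
    rw [← map_pow, plane_sq_eq_one h2 g (det_of_detP h2 hg), map_one]
  · rw [Set.mem_singleton_iff.mp hx]
    exact rho_sq k l c hc j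

theorem blockHom_comm_rho (i : Fin k) (g : XP F) (j : Fin l) :
    blockHom k l c i g * rho k l c hc j = rho k l c hc j * blockHom k l c i g := by
  apply Subtype.ext
  apply Units.ext
  show ((blockHom k l c i g : YS k l c) : GL (JJ k l) F).1 *
    ((rho k l c hc j : YS k l c) : GL (JJ k l) F).1 = _ * _
  rw [blockHom_val, rho_val]
  exact embGL_comm_sgnM k l _ j

theorem rho_comm (j j' : Fin l) :
    rho k l c hc j * rho k l c hc j' = rho k l c hc j' * rho k l c hc j := by
  apply Subtype.ext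
  apply Units.ext
  show ((rho k l c hc j : YS k l c) : GL (JJ k l) F).1 *
    ((rho k l c hc j' : YS k l c) : GL (JJ k l) F).1 = _ * _
  rw [rho_val, rho_val]
  exact sgnM_comm _ _

theorem blockHom_comm (i i' : Fin k) (hi : i ≠ i') (g g' : XP F) :
    blockHom k l c i g * blockHom k l c i' g' = blockHom k l c i' g' * blockHom k l c i g := by
  unfold blockHom
  rw [MonoidHom.comp_apply, MonoidHom.comp_apply, ← map_mul, ← map_mul]
  congr 1
  exact (Pi.mulSingle_commute (f := fun _ : Fin k => XP F) hi g g').eq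

theorem Rset_comm (s s' : Fin k ⊕ Fin l) (hss : s ≠ s') (x : YS k l c)
    (hx : x ∈ Rset h2 k l c hc T s) (y : YS k l c) (hy : y ∈ Rset h2 k l c hc T s') :
    x * y = y * x := by
  rcases s with i | j <;> rcases s' with i' | j'
  · obtain ⟨g, -, -, rfl⟩ := hx
    obtain ⟨g', -, -, rfl⟩ := hy
    exact blockHom_comm k l c i i' (fun h => hss (by rw [h])) g g'
  · obtain ⟨g, -, -, rfl⟩ := hx
    rw [Set.mem_singleton_iff.mp hy]
    exact blockHom_comm_rho k l c hc i g j'
  · obtain ⟨g', -, -, rfl⟩ := hy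
    rw [Set.mem_singleton_iff.mp hx]
    exact (blockHom_comm_rho k l c hc i' g' j).symm
  · rw [Set.mem_singleton_iff.mp hx, Set.mem_singleton_iff.mp hy]
    exact rho_comm k l c hc j j'

theorem Tpset_sq (x : YS k l c) (hx : x ∈ Tpset k l c P) : x ^ 2 = 1 := by
  obtain ⟨σ, -, hσ, rfl⟩ := hx
  rw [← map_pow, hσ, map_one]

theorem Tpset_chi (x : YS k l c) (hx : x ∈ Tpset k l c P) : chi h2 k l c hc x = 1 := by
  obtain ⟨σ, -, -, rfl⟩ := hx
  exact chi_top h2 k l c hc σ

theorem Rset_chi (s : Fin k ⊕ Fin l) (x : YS k l c) (hx : x ∈ Rset h2 k l c hc T s) :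
    chi h2 k l c hc x = (-1, -1) ∨ chi h2 k l c hc x = (-1, 1) := by
  have hfst : (chi h2 k l c hc x).1 = -1 := by
    rcases s with i | j
    · obtain ⟨g, -, hg, rfl⟩ := hx
      rw [chi_blockHom_fst, hg]
    · rw [Set.mem_singleton_iff.mp hx, chi_rho]
  rcases Int.units_eq_one_or (chi h2 k l c hc x).2 with h | h
  · right
    exact Prod.ext hfst h
  · left
    exact Prod.ext hfst h

/-- conjugating a block into another one -/
theorem chi_blockHom_eq (i i' : Fin k) (g : XP F) :
    chi h2 k l c hc (blockHom k l c i g) = chi h2 k l c hc (blockHom k l c i' g) := by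
  classical
  have h1 := (oData k l c).top_mul_base (Equiv.swap i i') (Pi.mulSingle i g)
  have h2' : (fun a => (Pi.mulSingle (M := fun _ : Fin k => XP F) i g) ((Equiv.swap i i')⁻¹ a)) =
      Pi.mulSingle i' g := by
    funext a
    rw [Equiv.swap_inv]
    by_cases ha : a = i'
    · subst ha
      rw [Equiv.swap_apply_right, Pi.mulSingle_eq_same, Pi.mulSingle_eq_same]
    · rw [Pi.mulSingle_eq_of_ne ha]
      by_cases ha' : a = i
      · subst ha'
        rw [Equiv.swap_apply_left, Pi.mulSingle_eq_of_ne (Ne.symm ha)]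
      · rw [Equiv.swap_apply_of_ne_of_ne ha' ha, Pi.mulSingle_eq_of_ne ha']
  rw [h2'] at h1
  have h3 := congrArg (chi h2 k l c hc) h1
  rw [map_mul, map_mul, chi_top, one_mul, mul_one] at h3
  exact h3

theorem Rset_partner (hk : 2 ≤ k) (s : Fin k ⊕ Fin l) (x : YS k l c)
    (hx : x ∈ Rset h2 k l c hc T s) :
    ∃ s', s' ≠ s ∧ ∃ t ∈ Rset h2 k l c hc T s', chi h2 k l c hc t = chi h2 k l c hc x := by
  rcases s with i | j
  · obtain ⟨g, hgT, hg, rfl⟩ := hx
    obtain ⟨i', hi'⟩ : ∃ i' : Fin k, i' ≠ i := by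
      by_cases h0 : i = ⟨0, by omega⟩
      · exact ⟨⟨1, by omega⟩, by rw [h0]; intro h; simpa using congrArg Fin.val h⟩
      · exact ⟨⟨0, by omega⟩, fun h => h0 h.symm⟩
    refine ⟨Sum.inl i', fun h => hi' (Sum.inl.inj h), blockHom k l c i' g, ⟨g, hgT, hg, rfl⟩, ?_⟩
    exact chi_blockHom_eq h2 k l c hc i' i g
  · rw [Set.mem_singleton_iff.mp hx]
    obtain ⟨g, hgT, hg⟩ := exists_mem_T_chi h2 k l c hc T ⟨0, by omega⟩
      (chi h2 k l c hc (rho k l c hc j))
    refine ⟨Sum.inl ⟨0, by omega⟩, by simp, blockHom k l c ⟨0, by omega⟩ g, ⟨g, hgT, ?_, rfl⟩, hg⟩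
    rw [← chi_blockHom_fst h2 k l c hc ⟨0, by omega⟩ g, hg, chi_rho]

/-- **the `Ω`-part of the model group is generated by involutions** -/
theorem genPowSub_Wgen (hk : 2 ≤ k) :
    GenPowSub 2 (Subgroup.closure ((⋃ s, Rset h2 k l c hc T s) ∪ Tpset k l c P) ⊓
      (chi h2 k l c hc).ker) := by
  apply genPowSub_inf_ker (chi h2 k l c hc) (Rset h2 k l c hc T) (Tpset k l c P)
    (Rset_sq h2 k l c hc T) (Rset_comm h2 k l c hc T) (Tpset_sq k l c P)
    (Tpset_chi h2 k l c hc P) (-1, -1) (-1, 1) (by decide) (by decide) (by decide) (by decide)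
    (Rset_chi h2 k l c hc T) (Rset_partner h2 k l c hc T hk)
  · obtain ⟨g, hgT, hg⟩ := exists_mem_T_chi h2 k l c hc T ⟨0, by omega⟩ (-1, -1)
    refine ⟨Sum.inl ⟨0, by omega⟩, blockHom k l c ⟨0, by omega⟩ g, ⟨g, hgT, ?_, rfl⟩, hg⟩
    rw [← chi_blockHom_fst h2 k l c hc ⟨0, by omega⟩ g, hg]
  · obtain ⟨g, hgT, hg⟩ := exists_mem_T_chi h2 k l c hc T ⟨0, by omega⟩ (-1, 1)
    refine ⟨Sum.inl ⟨0, by omega⟩, blockHom k l c ⟨0, by omega⟩ g, ⟨g, hgT, ?_, rfl⟩, hg⟩
    rw [← chi_blockHom_fst h2 k l c hc ⟨0, by omega⟩ g, hg]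


/-! ### structure of the generated group -/

/-- the subgroup of block matrices `diag(A, 1)` -/
def BL : Subgroup (YS k l c) :=
  ((embGL (F := F) k l).range).comap (Cfsg.isometryGroup F (⇑(dForm (wt k l c)))).subtype

theorem base_mem_BL (g : Fin k → XP F) : (oData k l c).base g ∈ BL k l c :=
  ⟨_, (oData_base_val k l c g).symm⟩

theorem top_mem_BL (σ : Equiv.Perm (Fin k)) : (oData k l c).top σ ∈ BL k l c :=
  ⟨topGL k σ, rfl⟩

theorem model_le_BL : (oData k l c).model (T : Subgroup (XP F))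
    (P : Subgroup (Equiv.Perm (Fin k))) ≤ BL k l c := by
  unfold WData.model
  apply sup_le
  · rintro _ ⟨τ, rfl⟩
    exact base_mem_BL k l c _
  · rintro _ ⟨σ, -, rfl⟩
    exact top_mem_BL k l c σ

theorem BL_comm_rho (x : YS k l c) (hx : x ∈ BL k l c) (j : Fin l) :
    x * rho k l c hc j = rho k l c hc j * x := by
  obtain ⟨A, hA⟩ := hx
  apply Subtype.ext
  apply Units.ext
  show ((x : YS k l c) : GL (JJ k l) F).1 * ((rho k l c hc j : YS k l c) : GL (JJ k l) F).1 = _ * _
  rw [rho_val]
  have hA' : ((x : YS k l c) : GL (JJ k l) F) = embGL k l A := hA.symm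
  rw [hA']
  exact embGL_comm_sgnM k l A j

/-- the stabilizer of the `j`-th leftover basis vector -/
def stab (j : Fin l) : Subgroup (YS k l c) where
  carrier := {x | ((x : GL (JJ k l) F) : Matrix (JJ k l) (JJ k l) F) *ᵥ
    (Pi.single (Sum.inr j) 1 : JJ k l → F) = Pi.single (Sum.inr j) 1}
  one_mem' := by
    show (1 : Matrix (JJ k l) (JJ k l) F) *ᵥ _ = _
    rw [one_mulVec]
  mul_mem' := by
    intro x y hx hy
    show (((x : GL (JJ k l) F) : Matrix (JJ k l) (JJ k l) F) *
      ((y : GL (JJ k l) F) : Matrix (JJ k l) (JJ k l) F)) *ᵥ _ = _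
    rw [← mulVec_mulVec, hy, hx]
  inv_mem' := by
    intro x hx
    have h1 : (((x⁻¹ : YS k l c) : GL (JJ k l) F) : Matrix (JJ k l) (JJ k l) F) *
        ((x : GL (JJ k l) F) : Matrix (JJ k l) (JJ k l) F) = 1 := by
      have : (x⁻¹ * x : YS k l c) = 1 := inv_mul_cancel x
      have := congrArg (fun y : YS k l c => ((y : GL (JJ k l) F) : Matrix (JJ k l) (JJ k l) F)) this
      exact this
    show ((x⁻¹ : YS k l c) : GL (JJ k l) F).1 *ᵥ _ = _
    have hx' : ((x : GL (JJ k l) F) : Matrix (JJ k l) (JJ k l) F) *ᵥ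
      (Pi.single (Sum.inr j) 1 : JJ k l → F) = Pi.single (Sum.inr j) 1 := hx
    conv_lhs => rw [← hx']
    rw [mulVec_mulVec, h1, one_mulVec]

theorem BL_le_stab (j : Fin l) : BL k l c ≤ stab k l c j := by
  rintro x ⟨A, hA⟩
  have hA' : ((x : YS k l c) : GL (JJ k l) F) = embGL k l A := hA.symm
  show ((x : GL (JJ k l) F) : Matrix (JJ k l) (JJ k l) F) *ᵥ _ = _
  rw [hA']
  exact embGL_mulVec_single k l A j

theorem rho_mem_stab (j j' : Fin l) (hj : j' ≠ j) : rho k l c hc j' ∈ stab k l c j := by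
  show ((rho k l c hc j' : YS k l c) : GL (JJ k l) F).1 *ᵥ _ = _
  rw [rho_val, sgnM_mulVec_single, if_neg]
  intro h
  exact hj (Sum.inr.inj h).symm

include h2 in
theorem rho_not_mem_stab (j : Fin l) : rho k l c hc j ∉ stab k l c j := by
  intro h
  have h' : ((rho k l c hc j : YS k l c) : GL (JJ k l) F).1 *ᵥ
      (Pi.single (Sum.inr j) 1 : JJ k l → F) = Pi.single (Sum.inr j) 1 := h
  rw [rho_val, sgnM_mulVec_single, if_pos rfl] at h'
  have := congrFun h' (Sum.inr j)
  rw [Pi.neg_apply, Pi.single_eq_same] at this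
  apply h2
  linear_combination -this

/-- the group generated by the leftover reflections indexed by `s` -/
def ES (s : Finset (Fin l)) : Subgroup (YS k l c) :=
  Subgroup.closure ((rho k l c hc) '' (s : Set (Fin l)))

theorem ES_insert (s : Finset (Fin l)) (j : Fin l) :
    ES k l c hc (insert j s) = ES k l c hc s ⊔ Subgroup.zpowers (rho k l c hc j) := by
  unfold ES
  rw [Finset.coe_insert, Set.image_insert_eq, Set.insert_eq, Subgroup.closure_union,
    Subgroup.zpowers_eq_closure, sup_comm]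

theorem ES_le_stab (s : Finset (Fin l)) (j : Fin l) (hj : j ∉ s) :
    ES k l c hc s ≤ stab k l c j := by
  unfold ES
  rw [Subgroup.closure_le]
  rintro _ ⟨j', hj', rfl⟩
  apply rho_mem_stab
  rintro rfl
  exact hj hj'

theorem ES_comm_rho (s : Finset (Fin l)) (j : Fin l) (x : YS k l c) (hx : x ∈ ES k l c hc s) :
    x * rho k l c hc j = rho k l c hc j * x := by
  have : ES k l c hc s ≤ Subgroup.centralizer {rho k l c hc j} := by
    unfold ES
    rw [Subgroup.closure_le]
    rintro _ ⟨j', -, rfl⟩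
    rw [SetLike.mem_coe, Subgroup.mem_centralizer_iff]
    intro y hy
    rw [Set.mem_singleton_iff.mp hy]
    exact rho_comm k l c hc j j'
  have h1 := this hx
  rw [Subgroup.mem_centralizer_iff] at h1
  exact (h1 _ rfl).symm

include h2 in
/-- the model times the leftover reflections: a `2`-group of the expected order -/
theorem isPGroup_card_sup (s : Finset (Fin l)) :
    IsPGroup 2 ((oData k l c).model (T : Subgroup (XP F)) (P : Subgroup (Equiv.Perm (Fin k))) ⊔
      ES k l c hc s : Subgroup (YS k l c)) ∧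
    Nat.card ((oData k l c).model (T : Subgroup (XP F)) (P : Subgroup (Equiv.Perm (Fin k)))) *
      2 ^ s.card ≤ Nat.card ((oData k l c).model (T : Subgroup (XP F))
        (P : Subgroup (Equiv.Perm (Fin k))) ⊔ ES k l c hc s : Subgroup (YS k l c)) := by
  classical
  induction s using Finset.induction_on with
  | empty =>
    have : ES k l c hc ∅ = ⊥ := by
      unfold ES
      simp
    rw [this, sup_bot_eq, Finset.card_empty, pow_zero, mul_one]
    exact ⟨(oData k l c).isPGroup_model 2 _ _ T.isPGroup' P.isPGroup', le_refl _⟩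
  | insert j s hj ih =>
    obtain ⟨ih1, ih2⟩ := ih
    rw [ES_insert, ← sup_assoc, Finset.card_insert_of_notMem hj]
    set H := (oData k l c).model (T : Subgroup (XP F)) (P : Subgroup (Equiv.Perm (Fin k))) ⊔
      ES k l c hc s with hH
    have hcommH : ∀ x ∈ H, x * rho k l c hc j = rho k l c hc j * x := by
      intro x hx
      have hle : H ≤ Subgroup.centralizer {rho k l c hc j} := by
        apply sup_le
        · intro y hy
          rw [Subgroup.mem_centralizer_iff]
          intro z hz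
          rw [Set.mem_singleton_iff.mp hz]
          exact (BL_comm_rho k l c hc y (model_le_BL k l c T P hy) j).symm
        · intro y hy
          rw [Subgroup.mem_centralizer_iff]
          intro z hz
          rw [Set.mem_singleton_iff.mp hz]
          exact (ES_comm_rho k l c hc s j y hy).symm
      have h1 := hle hx
      rw [Subgroup.mem_centralizer_iff] at h1
      exact (h1 _ rfl).symm
    have hz2 : rho k l c hc j ^ 2 = 1 := rho_sq k l c hc j
    constructor
    · apply IsPGroup.to_sup_of_normal_left' ih1 (isPGroup_zpowers _ hz2)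
      intro z hz
      obtain ⟨n, rfl⟩ := Subgroup.mem_zpowers_iff.mp hz
      apply Subgroup.mem_normalizer_fintype
      intro w hw
      rw [SetLike.mem_coe] at hw ⊢
      have hc' : Commute (rho k l c hc j) w := (hcommH w hw).symm
      have : rho k l c hc j ^ n * w * (rho k l c hc j ^ n)⁻¹ = w := by
        rw [(hc'.zpow_left n).eq, mul_inv_cancel_right]
      rw [this]
      exact hw
    · have hHK : H ≤ stab k l c j :=
        sup_le ((model_le_BL k l c T P).trans (BL_le_stab k l c j)) (ES_le_stab k l c hc s j hj)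
      have h3 := card_sup_zpowers_ge (rho k l c hc j) hz2 H (stab k l c j) hHK
        (Or.inr (rho_not_mem_stab h2 k l c hc j))
      have h4 : Nat.card (Subgroup.zpowers (rho k l c hc j)) = 2 := by
        rw [Nat.card_zpowers]
        apply orderOf_eq_prime hz2
        intro h1
        apply rho_not_mem_stab h2 k l c hc j
        rw [h1]
        exact one_mem _
      rw [h4] at h3
      calc _ = Nat.card ((oData k l c).model (T : Subgroup (XP F))
            (P : Subgroup (Equiv.Perm (Fin k)))) * 2 ^ s.card * 2 := by ring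
        _ ≤ Nat.card H * 2 := Nat.mul_le_mul_right _ ih2
        _ ≤ _ := h3


/-- the group generated by the involutions -/
def Wgen : Subgroup (YS k l c) :=
  Subgroup.closure ((⋃ s, Rset h2 k l c hc T s) ∪ Tpset k l c P)

theorem blockHom_eq_baseT (i : Fin k) (g : XP F) (hg : g ∈ (T : Subgroup (XP F))) :
    blockHom k l c i g = (oData k l c).baseT (T : Subgroup (XP F))
      (Pi.mulSingle i ⟨g, hg⟩) := by
  show (oData k l c).base _ = (oData k l c).base _
  congr 1
  funext i'
  by_cases hi : i' = i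
  · subst hi
    show Pi.mulSingle (M := fun _ : Fin k => XP F) i' g i' = _
    rw [Pi.mulSingle_eq_same, Pi.mulSingle_eq_same]
  · show Pi.mulSingle (M := fun _ : Fin k => XP F) i g i' = _
    rw [Pi.mulSingle_eq_of_ne hi, Pi.mulSingle_eq_of_ne hi]
    rfl

theorem Wgen_le : Wgen h2 k l c hc T P ≤
    (oData k l c).model (T : Subgroup (XP F)) (P : Subgroup (Equiv.Perm (Fin k))) ⊔
      ES k l c hc Finset.univ := by
  unfold Wgen
  rw [Subgroup.closure_le]
  rintro x (hx | hx)
  · obtain ⟨s, hs⟩ := Set.mem_iUnion.mp hx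
    rcases s with i | j
    · obtain ⟨g, hgT, -, rfl⟩ := hs
      apply le_sup_left (a := (oData k l c).model (T : Subgroup (XP F))
        (P : Subgroup (Equiv.Perm (Fin k))))
      rw [blockHom_eq_baseT k l c T i g hgT]
      exact baseT_mem_model _ _ _ _
    · rw [Set.mem_singleton_iff.mp hs]
      apply le_sup_right (a := (oData k l c).model (T : Subgroup (XP F))
        (P : Subgroup (Equiv.Perm (Fin k))))
      exact Subgroup.subset_closure ⟨j, by simp, rfl⟩
  · obtain ⟨σ, hσ, -, rfl⟩ := hx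
    apply le_sup_left (a := (oData k l c).model (T : Subgroup (XP F))
      (P : Subgroup (Equiv.Perm (Fin k))))
    exact top_mem_model _ _ _ hσ

theorem blockHom_mem_Wgen (hk : 1 ≤ k) (i : Fin k) (g : XP F) (hg : g ∈ (T : Subgroup (XP F))) :
    blockHom k l c i g ∈ Wgen h2 k l c hc T P := by
  have hcl := closure_not_ker (T : Subgroup (XP F)) (detP h2) (by
    obtain ⟨g₀, hg₀T, hg₀⟩ := exists_mem_T_chi h2 k l c hc T ⟨0, by omega⟩ (-1, 1)
    refine ⟨g₀, hg₀T, ?_⟩
    rw [← chi_blockHom_fst h2 k l c hc ⟨0, by omega⟩ g₀, hg₀]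
    decide)
  have hle : (T : Subgroup (XP F)) ≤ (Wgen h2 k l c hc T P).comap (blockHom k l c i) := by
    conv_lhs => rw [← hcl]
    rw [Subgroup.closure_le]
    rintro t ⟨htT, ht⟩
    rw [SetLike.mem_coe, Subgroup.mem_comap]
    apply Subgroup.subset_closure
    left
    apply Set.mem_iUnion.mpr
    refine ⟨Sum.inl i, t, htT, ?_, rfl⟩
    rcases Int.units_eq_one_or (detP h2 t) with h | h
    · exact absurd h ht
    · exact h
  exact hle hg

theorem le_Wgen (hk : 1 ≤ k) :
    (oData k l c).model (T : Subgroup (XP F)) (P : Subgroup (Equiv.Perm (Fin k))) ⊔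
      ES k l c hc Finset.univ ≤ Wgen h2 k l c hc T P := by
  classical
  apply sup_le
  · unfold WData.model
    apply sup_le
    · -- the base part
      have hpi : Subgroup.pi Set.univ (fun _ : Fin k => (T : Subgroup (XP F))) ≤
          (Wgen h2 k l c hc T P).comap (oData k l c).base := by
        rw [Subgroup.pi_le_iff]
        intro i
        rintro _ ⟨t, ht, rfl⟩
        rw [Subgroup.mem_comap]
        exact blockHom_mem_Wgen h2 k l c hc T P hk i t ht
      rintro _ ⟨τ, rfl⟩
      have : (fun i => ((τ i : (T : Subgroup (XP F))) : XP F)) ∈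
          Subgroup.pi Set.univ (fun _ : Fin k => (T : Subgroup (XP F))) := by
        rw [Subgroup.mem_pi]
        intro i _
        exact (τ i).2
      exact hpi this
    · have hP := genPowSub_sylow_perm 2 k P
      unfold GenPowSub at hP
      conv_lhs => rw [← hP]
      rw [MonoidHom.map_closure, Subgroup.closure_le]
      rintro _ ⟨σ, ⟨hσP, hσ⟩, rfl⟩
      apply Subgroup.subset_closure
      right
      exact ⟨σ, hσP, hσ, rfl⟩
  · unfold ES
    rw [Subgroup.closure_le]
    rintro _ ⟨j, -, rfl⟩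
    apply Subgroup.subset_closure
    left
    exact Set.mem_iUnion.mpr ⟨Sum.inr j, rfl⟩

include h2 hc in
/-- **The model**: a large `2`-subgroup of `Ω` of the model form with the `E`-property. -/
theorem exists_large_eSub (hk : 2 ≤ k) :
    ∃ H : Subgroup (YS k l c), H ≤ Cfsg.Omega F (⇑(dForm (wt k l c))) ∧ IsPGroup 2 H ∧
      ESub 2 H ∧
      Nat.card (T : Subgroup (XP F)) ^ k * Nat.card (P : Subgroup (Equiv.Perm (Fin k))) * 2 ^ l ≤
        4 * Nat.card H := by
  have hWeq : Wgen h2 k l c hc T P =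
      (oData k l c).model (T : Subgroup (XP F)) (P : Subgroup (Equiv.Perm (Fin k))) ⊔
        ES k l c hc Finset.univ :=
    le_antisymm (Wgen_le h2 k l c hc T P) (le_Wgen h2 k l c hc T P (by omega))
  obtain ⟨hp, hcard⟩ := isPGroup_card_sup h2 k l c hc T P Finset.univ
  rw [← hWeq, Finset.card_univ, Fintype.card_fin] at hcard
  rw [← hWeq] at hp
  refine ⟨Wgen h2 k l c hc T P ⊓ (chi h2 k l c hc).ker, ?_, ?_, ?_, ?_⟩
  · rw [chi_ker]
    exact inf_le_right
  · exact hp.to_le inf_le_left
  · exact GenPowSub.eSub (genPowSub_Wgen h2 k l c hc T P hk)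
  · have h1 := card_eq_card_inf_ker_mul_card_map (Wgen h2 k l c hc T P) (chi h2 k l c hc)
    have h3 : Nat.card ((Wgen h2 k l c hc T P).map (chi h2 k l c hc)) ≤ 4 := by
      have := Subgroup.card_le_card_group ((Wgen h2 k l c hc T P).map (chi h2 k l c hc))
      rw [card_units_prod] at this
      exact this
    have h4 := (oData k l c).card_model_ge (T : Subgroup (XP F))
      (P : Subgroup (Equiv.Perm (Fin k)))
    calc Nat.card (T : Subgroup (XP F)) ^ k * Nat.card (P : Subgroup (Equiv.Perm (Fin k))) * 2 ^ l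
        ≤ Nat.card ((oData k l c).model (T : Subgroup (XP F))
          (P : Subgroup (Equiv.Perm (Fin k)))) * 2 ^ l := Nat.mul_le_mul_right _ h4
      _ ≤ Nat.card (Wgen h2 k l c hc T P) := hcard
      _ = Nat.card (Wgen h2 k l c hc T P ⊓ (chi h2 k l c hc).ker : Subgroup (YS k l c)) *
          Nat.card ((Wgen h2 k l c hc T P).map (chi h2 k l c hc)) := h1
      _ ≤ Nat.card (Wgen h2 k l c hc T P ⊓ (chi h2 k l c hc).ker : Subgroup (YS k l c)) * 4 :=
          Nat.mul_le_mul_left _ h3
      _ = _ := mul_comm _ _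

end Main

end Cfsg.Agent.Lib.Helper67_OrthMain
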