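import Mathlib
import Cfsg.Agent.Lib.Helper67_WreathModel

/-!
# Wreath models with a determinant (helper67)

For wreath data `d : WData X Y n` with compatible "determinants" `δX : X →* C`, `δY : Y →* C`,
the determinant-one part `model T P ⊓ ker δY` of the model: cardinality bound and generation.
-/

set_option autoImplicit false
set_option linter.style.haveILetI false
set_option linter.unusedSectionVars false

namespace Cfsg.Agent.Lib.Helper67_WreathDet

open Cfsg.Agent.Lib.Helper67_SymSylow Cfsg.Agent.Lib.Helper67_SpSylow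
  Cfsg.Agent.Lib.Helper67_WreathModel

section General

variable {G G' C : Type*} [Group G] [Group G'] [Group C]

theorem card_eq_card_inf_ker_mul_card_map [Finite G] (H : Subgroup G) (f : G →* C) :
    Nat.card H = Nat.card (H ⊓ f.ker : Subgroup G) * Nat.card (H.map f) := by
  let φ : H →* C := f.comp H.subtype
  have hker : φ.ker.map H.subtype = H ⊓ f.ker := by
    ext x
    rw [Subgroup.mem_inf]
    constructor
    · rintro ⟨y, hy, rfl⟩
      exact ⟨y.2, hy⟩
    · rintro ⟨hxH, hxk⟩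
      exact ⟨⟨x, hxH⟩, hxk, rfl⟩
  have hrange : φ.range = H.map f := by
    rw [MonoidHom.range_comp, Subgroup.range_subtype]
  rw [← hker, Subgroup.card_map_of_injective (Subgroup.subtype_injective _), ← hrange,
    ← Subgroup.index_ker, Subgroup.card_mul_index]

theorem eSub_of_map_injective {p : ℕ} {H : Subgroup G} (f : G →* G')
    (hf : Function.Injective f) (h : ESub p (H.map f)) : ESub p H := by
  intro x hx
  have h1 := h (f x) (Subgroup.mem_map_of_mem f hx)
  rw [← map_pow, ← Subgroup.map_commutator] at h1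
  obtain ⟨y, hy, hyx⟩ := h1
  rwa [← hf hyx]

end General

section Det

variable {X Y C : Type*} [Group X] [Group Y] [CommGroup C] {n : ℕ} (d : WData X Y n)

theorem baseT_mem_model (T : Subgroup X) (P : Subgroup (Equiv.Perm (Fin n))) (τ : Fin n → T) :
    d.baseT T τ ∈ d.model T P :=
  le_sup_left (a := (d.baseT T).range) (b := P.map d.top) ⟨τ, rfl⟩

theorem top_mem_model (T : Subgroup X) (P : Subgroup (Equiv.Perm (Fin n)))
    {σ : Equiv.Perm (Fin n)} (hσ : σ ∈ P) : d.top σ ∈ d.model T P :=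
  le_sup_right (a := (d.baseT T).range) (b := P.map d.top) (Subgroup.mem_map_of_mem _ hσ)

theorem mem_model_iff (T : Subgroup X) (P : Subgroup (Equiv.Perm (Fin n))) (x : Y) :
    x ∈ d.model T P ↔
      ∃ (τ : Fin n → T) (σ : Equiv.Perm (Fin n)), σ ∈ P ∧ x = d.baseT T τ * d.top σ := by
  constructor
  · intro hx
    let M₀ : Subgroup Y :=
      { carrier := {x | ∃ (τ : Fin n → T) (σ : Equiv.Perm (Fin n)),
          σ ∈ P ∧ x = d.baseT T τ * d.top σ}
        one_mem' := ⟨1, 1, one_mem _, by simp⟩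
        mul_mem' := by
          rintro _ _ ⟨τ₁, σ₁, h₁, rfl⟩ ⟨τ₂, σ₂, h₂, rfl⟩
          refine ⟨τ₁ * (fun i => τ₂ (σ₁⁻¹ i)), σ₁ * σ₂, mul_mem h₁ h₂, ?_⟩
          rw [map_mul, map_mul, ← d.top_conj_baseT T σ₁ τ₂]
          group
        inv_mem' := by
          rintro _ ⟨τ, σ, h, rfl⟩
          refine ⟨fun i => (τ (σ⁻¹⁻¹ i))⁻¹, σ⁻¹, inv_mem h, ?_⟩
          have h1 : (fun i => (τ (σ⁻¹⁻¹ i))⁻¹) = fun i => (τ⁻¹) (σ⁻¹⁻¹ i) := rfl
          rw [h1, ← d.top_conj_baseT T σ⁻¹ τ⁻¹, map_inv, map_inv]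
          group }
    have hle : d.model T P ≤ M₀ := by
      unfold WData.model
      apply sup_le
      · rintro _ ⟨τ, rfl⟩
        exact ⟨τ, 1, one_mem _, by simp⟩
      · rintro _ ⟨σ, hσ, rfl⟩
        exact ⟨1, σ, hσ, by simp⟩
    exact hle hx
  · rintro ⟨τ, σ, hσ, rfl⟩
    exact mul_mem (baseT_mem_model d T P τ) (top_mem_model d T P hσ)

variable (δY : Y →* C) (δX : X →* C)
  (hbase : ∀ g : Fin n → X, δY (d.base g) = ∏ i, δX (g i))
  (htop : ∀ σ : Equiv.Perm (Fin n), δY (d.top σ) = 1)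

include hbase htop in
theorem map_model_le (T : Subgroup X) (P : Subgroup (Equiv.Perm (Fin n))) :
    (d.model T P).map δY ≤ T.map δX := by
  rintro _ ⟨x, hx, rfl⟩
  obtain ⟨τ, σ, -, rfl⟩ := (mem_model_iff d T P x).mp hx
  rw [map_mul, htop, mul_one]
  show δY (d.base fun i => (τ i : X)) ∈ _
  rw [hbase]
  apply Subgroup.prod_mem
  intro i _
  exact Subgroup.mem_map_of_mem _ (τ i).2

include hbase htop in
theorem card_model_inf_ker_ge [Finite Y] (T : Subgroup X) [Finite T]
    (P : Subgroup (Equiv.Perm (Fin n))) :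
    Nat.card T ^ n * Nat.card P ≤
      Nat.card (d.model T P ⊓ δY.ker : Subgroup Y) * Nat.card (T.map δX) := by
  have h1 := d.card_model_ge T P
  rw [card_eq_card_inf_ker_mul_card_map (d.model T P) δY] at h1
  haveI : Finite (T.map δX) :=
    Finite.of_surjective (fun t : T => (⟨δX t, Subgroup.mem_map_of_mem _ t.2⟩ : T.map δX)) (by
      rintro ⟨_, t, ht, rfl⟩
      exact ⟨⟨t, ht⟩, rfl⟩)
  exact h1.trans (Nat.mul_le_mul_left _
    (Subgroup.card_le_of_le (map_model_le d δY δX hbase htop T P)))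


include hbase htop in
/-- generation of the determinant-one part of the model -/
theorem model_inf_ker_le (T : Subgroup X) (P : Subgroup (Equiv.Perm (Fin n)))
    (δ₀ : X) (hδ₀ : δ₀ ∈ T) (hgen : ∀ x ∈ T, ∃ z : ℤ, δX x = (δX δ₀) ^ z)
    (M : Subgroup Y) (h1 : (d.baseT (T ⊓ δX.ker)).range ≤ M) (h2 : P.map d.top ≤ M)
    (h3 : ∀ z : Fin n → ℤ, δY (d.base fun i => δ₀ ^ z i) = 1 →
      d.base (fun i => δ₀ ^ z i) ∈ M) :
    d.model T P ⊓ δY.ker ≤ M := by
  intro x hx
  rw [Subgroup.mem_inf, MonoidHom.mem_ker] at hx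
  obtain ⟨hxW, hxk⟩ := hx
  obtain ⟨τ, σ, hσ, rfl⟩ := (mem_model_iff d T P x).mp hxW
  rw [map_mul, htop, mul_one] at hxk
  choose z hz using fun i => hgen (τ i) (τ i).2
  have hq : ∀ i, (τ i : X) * (δ₀ ^ z i)⁻¹ ∈ T ⊓ δX.ker := by
    intro i
    rw [Subgroup.mem_inf, MonoidHom.mem_ker]
    refine ⟨mul_mem (τ i).2 (inv_mem (zpow_mem hδ₀ _)), ?_⟩
    rw [map_mul, map_inv, map_zpow, hz i, mul_inv_cancel]
  have hdecomp : d.baseT T τ =
      d.baseT (T ⊓ δX.ker) (fun i => ⟨_, hq i⟩) * d.base (fun i => δ₀ ^ z i) := by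
    show d.base _ = d.base _ * d.base _
    rw [← map_mul]
    congr 1
    funext i
    simp
  have hz1 : δY (d.base fun i => δ₀ ^ z i) = 1 := by
    have h4 : δY (d.baseT (T ⊓ δX.ker) (fun i => ⟨_, hq i⟩)) = 1 := by
      show δY (d.base _) = 1
      rw [hbase]
      apply Finset.prod_eq_one
      intro i _
      have := hq i
      rw [Subgroup.mem_inf, MonoidHom.mem_ker] at this
      exact this.2
    have h5 := hxk
    rw [hdecomp, map_mul, h4, one_mul] at h5
    exact h5
  rw [hdecomp]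
  exact mul_mem (mul_mem (h1 ⟨_, rfl⟩) (h3 z hz1)) (h2 (Subgroup.mem_map_of_mem _ hσ))

/-- `z ↦ base (δ₀ ^ z)` -/
def lamHom (δ₀ : X) : Multiplicative (Fin n → ℤ) →* Y where
  toFun z := d.base fun i => δ₀ ^ (Multiplicative.toAdd z i)
  map_one' := by
    rw [← map_one d.base]
    congr 1
    funext i
    simp
  map_mul' z z' := by
    rw [← map_mul]
    congr 1
    funext i
    simp [zpow_add]

theorem lamHom_apply (δ₀ : X) (z : Fin n → ℤ) :
    lamHom d δ₀ (Multiplicative.ofAdd z) = d.base fun i => δ₀ ^ z i := rfl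

theorem lamHom_mem_model (T : Subgroup X) (P : Subgroup (Equiv.Perm (Fin n)))
    (δ₀ : X) (hδ₀ : δ₀ ∈ T) (z : Multiplicative (Fin n → ℤ)) :
    lamHom d δ₀ z ∈ d.model T P :=
  baseT_mem_model d T P fun i => ⟨δ₀ ^ (Multiplicative.toAdd z i), zpow_mem hδ₀ _⟩

theorem baseT_range_le_model {T' T : Subgroup X} (hT : T' ≤ T)
    (P : Subgroup (Equiv.Perm (Fin n))) : (d.baseT T').range ≤ d.model T P := by
  rintro _ ⟨τ, rfl⟩
  exact baseT_mem_model d T P fun i => ⟨τ i, hT (τ i).2⟩

include hbase in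
theorem baseT_ker_range_le_ker (T : Subgroup X) : (d.baseT (T ⊓ δX.ker)).range ≤ δY.ker := by
  rintro _ ⟨τ, rfl⟩
  rw [MonoidHom.mem_ker]
  show δY (d.base _) = 1
  rw [hbase]
  apply Finset.prod_eq_one
  intro i _
  have := (τ i).2
  rw [Subgroup.mem_inf, MonoidHom.mem_ker] at this
  exact this.2

include htop in
theorem map_top_le_ker (P : Subgroup (Equiv.Perm (Fin n))) : P.map d.top ≤ δY.ker := by
  rintro _ ⟨σ, -, rfl⟩
  rw [MonoidHom.mem_ker]
  exact htop σ

theorem eSub_baseT_range (p : ℕ) (T : Subgroup X) (hT : ET p T) :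
    ESub p (d.baseT T).range := by
  rw [eSub_iff_eT]
  exact ET.of_surjective (d.baseT T).rangeRestrict
    (MonoidHom.rangeRestrict_surjective _) (ET.pi fun _ => hT)

include hbase htop in
/-- Case of an involution `δ₀` generating the determinant image: the determinant-one part of
the model has the `E`-property. -/
theorem eSub_model_inf_ker_of_involution (T : Subgroup X) (P : Subgroup (Equiv.Perm (Fin n)))
    (δ₀ : X) (hδ₀ : δ₀ ∈ T) (hgen : ∀ x ∈ T, ∃ z : ℤ, δX x = (δX δ₀) ^ z)
    (hsq : δ₀ ^ 2 = 1) (hQ : ET 2 (T ⊓ δX.ker : Subgroup X)) (hP : ESub 2 P) :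
    ESub 2 (d.model T P ⊓ δY.ker : Subgroup Y) := by
  set E : Subgroup Y := (lamHom d δ₀).range ⊓ δY.ker with hE
  apply eSub_of_le_sSup _ {(d.baseT (T ⊓ δX.ker)).range, P.map d.top, E}
  · intro H hH
    rcases hH with rfl | rfl | rfl
    · exact ⟨le_inf (baseT_range_le_model d inf_le_left P) (baseT_ker_range_le_ker d δY δX hbase T),
        eSub_baseT_range d 2 _ hQ⟩
    · exact ⟨le_inf (le_sup_right (a := (d.baseT T).range) (b := P.map d.top))
        (map_top_le_ker d δY htop P), hP.map _⟩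
    · refine ⟨?_, ?_⟩
      · rw [hE]
        apply inf_le_inf_right
        rintro _ ⟨z, rfl⟩
        exact lamHom_mem_model d T P δ₀ hδ₀ z
      · intro x hx
        rw [hE, Subgroup.mem_inf] at hx
        obtain ⟨⟨z, rfl⟩, -⟩ := hx
        have : (lamHom d δ₀ z) ^ 2 = 1 := by
          rw [← map_pow]
          show d.base _ = 1
          rw [← map_one d.base]
          congr 1
          funext i
          show δ₀ ^ ((Multiplicative.toAdd (z ^ 2 : Multiplicative (Fin n → ℤ))) i) = 1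
          rw [toAdd_pow, Pi.smul_apply, nsmul_eq_mul, Nat.cast_ofNat, zpow_mul, zpow_ofNat, hsq, one_zpow]
        rw [this]
        exact one_mem _
  · apply model_inf_ker_le d δY δX hbase htop T P δ₀ hδ₀ hgen
    · exact le_sSup (by simp)
    · exact le_sSup (by simp)
    · intro z hz
      have : E ≤ sSup {(d.baseT (T ⊓ δX.ker)).range, P.map d.top, E} := le_sSup (by simp)
      apply this
      rw [hE, Subgroup.mem_inf, MonoidHom.mem_ker]
      exact ⟨⟨Multiplicative.ofAdd z, rfl⟩, hz⟩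


theorem prod_zpow_eq {ι : Type*} (a : C) (v : ι → ℤ) (s : Finset ι) :
    ∏ j ∈ s, a ^ v j = a ^ ∑ j ∈ s, v j := by
  classical
  induction s using Finset.induction_on with
  | empty => simp
  | insert i s hi ih => rw [Finset.prod_insert hi, Finset.sum_insert hi, ih, zpow_add]

include hbase in
theorem δY_lamHom (δ₀ : X) (z : Fin n → ℤ) :
    δY (lamHom d δ₀ (Multiplicative.ofAdd z)) = (δX δ₀) ^ ∑ i, z i := by
  rw [lamHom_apply, hbase, ← prod_zpow_eq]
  simp [map_zpow]

theorem top_conj_lamHom (δ₀ : X) (σ : Equiv.Perm (Fin n)) (z : Fin n → ℤ) :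
    d.top σ * lamHom d δ₀ (Multiplicative.ofAdd z) * (d.top σ)⁻¹ =
      lamHom d δ₀ (Multiplicative.ofAdd fun i => z (σ⁻¹ i)) := by
  rw [mul_inv_eq_iff_eq_mul]
  exact d.top_mul_base σ _

theorem link_comp (τ : Equiv.Perm (Fin n)) (hτ : τ * τ = 1) (i : Fin n) :
    (fun j => (Pi.single i 1 - Pi.single (τ i) 1 : Fin n → ℤ) (τ⁻¹ j)) =
      -(Pi.single i 1 - Pi.single (τ i) 1) := by
  have hinv : τ⁻¹ = τ := inv_eq_of_mul_eq_one_right hτ
  have hττ : ∀ j, τ (τ j) = j := fun j => by
    have := congrArg (fun σ : Equiv.Perm (Fin n) => σ j) hτ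
    simpa using this
  funext j
  simp only [Pi.sub_apply, Pi.neg_apply, Pi.single_apply, hinv]
  have h1 : (τ j = i) ↔ (j = τ i) := by
    constructor
    · intro h
      rw [← h, hττ]
    · intro h
      rw [h, hττ]
  have h2 : (τ j = τ i) ↔ (j = i) := τ.injective.eq_iff
  rw [if_congr h1 rfl rfl, if_congr h2 rfl rfl]
  split_ifs <;> ring

theorem sq_eq_one_of_mem_zpowers {G : Type*} [Group G] {x : G} (hx : x ^ 2 = 1) :
    ∀ y ∈ Subgroup.zpowers x, y ^ 2 = 1 := by
  intro y hy
  obtain ⟨k, rfl⟩ := Subgroup.mem_zpowers_iff.mp hy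
  rw [← zpow_natCast, ← zpow_mul, mul_comm, zpow_mul, zpow_natCast, hx, one_zpow]

include hbase htop in
/-- Case of a transitive top group generated by involutions. -/
theorem eSub_model_inf_ker_of_transitive (T : Subgroup X) (P : Subgroup (Equiv.Perm (Fin n)))
    (δ₀ : X) (hδ₀ : δ₀ ∈ T) (hgen : ∀ x ∈ T, ∃ z : ℤ, δX x = (δX δ₀) ^ z)
    (hQ : ET 2 (T ⊓ δX.ker : Subgroup X)) (hPgen : GenPowSub 2 P)
    (htrans : ∀ i k : Fin n, ∃ σ ∈ P, σ i = k) :
    ESub 2 (d.model T P ⊓ δY.ker : Subgroup Y) := by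
  classical
  -- the linking elements and subgroups
  let v : Fin n → Fin n → (Fin n → ℤ) := fun i k => Pi.single i 1 - Pi.single k 1
  let c : Fin n → Equiv.Perm (Fin n) → Y := fun i τ =>
    lamHom d δ₀ (Multiplicative.ofAdd (v i (τ i)))
  let Hs : Fin n → Equiv.Perm (Fin n) → Subgroup Y := fun i τ =>
    Subgroup.zpowers (d.top τ) ⊔ Subgroup.zpowers (d.top τ * c i τ)
  let 𝒮 : Set (Subgroup Y) := {(d.baseT (T ⊓ δX.ker)).range, P.map d.top} ∪
    {H | ∃ i τ, τ ∈ P ∧ τ * τ = 1 ∧ H = Hs i τ}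
  have hs_sq : ∀ τ : Equiv.Perm (Fin n), τ * τ = 1 → (d.top τ) ^ 2 = 1 := by
    intro τ hτ
    rw [← map_pow, pow_two, hτ, map_one]
  have hs_inv : ∀ τ : Equiv.Perm (Fin n), τ * τ = 1 → (d.top τ)⁻¹ = d.top τ := by
    intro τ hτ
    rw [← map_inv, inv_eq_of_mul_eq_one_right hτ]
  have hconj : ∀ (i : Fin n) (τ : Equiv.Perm (Fin n)), τ * τ = 1 →
      d.top τ * c i τ * d.top τ = (c i τ)⁻¹ := by
    intro i τ hτ
    have h1 := top_conj_lamHom d δ₀ τ (v i (τ i))
    rw [hs_inv τ hτ] at h1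
    rw [h1, link_comp τ hτ i, ofAdd_neg, map_inv]
  have hsc_sq : ∀ (i : Fin n) (τ : Equiv.Perm (Fin n)), τ * τ = 1 →
      (d.top τ * c i τ) ^ 2 = 1 := by
    intro i τ hτ
    rw [pow_two]
    calc d.top τ * c i τ * (d.top τ * c i τ) = (d.top τ * c i τ * d.top τ) * c i τ := by group
      _ = 1 := by rw [hconj i τ hτ, inv_mul_cancel]
  have hc_mem : ∀ (i : Fin n) (τ : Equiv.Perm (Fin n)), c i τ ∈ Hs i τ := by
    intro i τ
    have h1 : (d.top τ)⁻¹ ∈ Hs i τ :=
      le_sup_left (a := Subgroup.zpowers (d.top τ)) (inv_mem (Subgroup.mem_zpowers _))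
    have h2 : d.top τ * c i τ ∈ Hs i τ :=
      le_sup_right (a := Subgroup.zpowers (d.top τ)) (Subgroup.mem_zpowers _)
    have := mul_mem h1 h2
    rwa [inv_mul_cancel_left] at this
  have hsumv : ∀ i k : Fin n, ∑ j, v i k j = 0 := by
    intro i k
    simp [v, Finset.sum_sub_distrib]
  apply eSub_of_le_sSup _ 𝒮
  · intro H hH
    rcases hH with (rfl | rfl) | ⟨i, τ, hτP, hτ, rfl⟩
    · exact ⟨le_inf (baseT_range_le_model d inf_le_left P) (baseT_ker_range_le_ker d δY δX hbase T),
        eSub_baseT_range d 2 _ hQ⟩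
    · exact ⟨le_inf (le_sup_right (a := (d.baseT T).range) (b := P.map d.top))
        (map_top_le_ker d δY htop P), (GenPowSub.eSub hPgen).map _⟩
    · refine ⟨?_, ?_⟩
      · apply sup_le
        · rw [Subgroup.zpowers_le, Subgroup.mem_inf, MonoidHom.mem_ker]
          exact ⟨top_mem_model d T P hτP, htop τ⟩
        · rw [Subgroup.zpowers_le, Subgroup.mem_inf, MonoidHom.mem_ker]
          refine ⟨mul_mem (top_mem_model d T P hτP) (lamHom_mem_model d T P δ₀ hδ₀ _), ?_⟩
          rw [map_mul, htop, one_mul, δY_lamHom d δY δX hbase, hsumv, zpow_zero]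
      · apply GenPowSub.eSub
        apply GenPowSub.sup
        · exact genPowSub_of_forall 2 _ (sq_eq_one_of_mem_zpowers (hs_sq τ hτ))
        · exact genPowSub_of_forall 2 _ (sq_eq_one_of_mem_zpowers (hsc_sq i τ hτ))
  · set M : Subgroup Y := sSup 𝒮 with hM
    have hG1 : (d.baseT (T ⊓ δX.ker)).range ≤ M := le_sSup (Or.inl (by simp))
    have hG2 : P.map d.top ≤ M := le_sSup (Or.inl (by simp))
    have hHs : ∀ (i : Fin n) (τ : Equiv.Perm (Fin n)), τ ∈ P → τ * τ = 1 → Hs i τ ≤ M :=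
      fun i τ hτP hτ => le_sSup (Or.inr ⟨i, τ, hτP, hτ, rfl⟩)
    apply model_inf_ker_le d δY δX hbase htop T P δ₀ hδ₀ hgen M hG1 hG2
    -- the generation argument
    let Good : (Fin n → ℤ) → Prop := fun z => lamHom d δ₀ (Multiplicative.ofAdd z) ∈ M
    have good_add : ∀ a b, Good a → Good b → Good (a + b) := by
      intro a b ha hb
      show lamHom d δ₀ (Multiplicative.ofAdd (a + b)) ∈ M
      rw [ofAdd_add, map_mul]
      exact mul_mem ha hb
    have good_zero : Good 0 := by
      show lamHom d δ₀ (Multiplicative.ofAdd 0) ∈ M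
      rw [ofAdd_zero, map_one]
      exact one_mem _
    have good_neg : ∀ a, Good a → Good (-a) := by
      intro a ha
      show lamHom d δ₀ (Multiplicative.ofAdd (-a)) ∈ M
      rw [ofAdd_neg, map_inv]
      exact inv_mem ha
    let rel : Fin n → Fin n → Prop := fun i k => ∀ w : ℤ, Good (Pi.single i w - Pi.single k w)
    have rel_refl : ∀ i, rel i i := by
      intro i w
      rw [sub_self]
      exact good_zero
    have rel_symm : ∀ i k, rel i k → rel k i := by
      intro i k h w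
      have := good_neg _ (h w)
      rwa [neg_sub] at this
    have rel_trans : ∀ i k l, rel i k → rel k l → rel i l := by
      intro i k l h1 h2 w
      have := good_add _ _ (h1 w) (h2 w)
      rwa [sub_add_sub_cancel] at this
    have rel_inv : ∀ (τ : Equiv.Perm (Fin n)), τ ∈ P → τ * τ = 1 → ∀ i, rel i (τ i) := by
      intro τ hτP hτ i w
      have h1 : c i τ ∈ M := hHs i τ hτP hτ (hc_mem i τ)
      have h2 : (c i τ) ^ w ∈ M := zpow_mem h1 w
      have h3 : (c i τ) ^ w = lamHom d δ₀ (Multiplicative.ofAdd (Pi.single i w - Pi.single (τ i) w)) := by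
        show (lamHom d δ₀ (Multiplicative.ofAdd (v i (τ i)))) ^ w = _
        rw [← map_zpow, ← ofAdd_zsmul]
        congr 2
        show w • (Pi.single i 1 - Pi.single (τ i) 1 : Fin n → ℤ) = _
        rw [smul_sub, ← Pi.single_smul, ← Pi.single_smul, smul_eq_mul, mul_one]
      rw [h3] at h2
      exact h2
    let S₀ : Subgroup (Equiv.Perm (Fin n)) :=
      { carrier := {σ | ∀ i, rel i (σ i)}
        one_mem' := fun i => rel_refl i
        mul_mem' := by
          intro σ σ' h h' i
          exact rel_trans _ _ _ (h' i) (h (σ' i))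
        inv_mem' := by
          intro σ h i
          have := h (σ⁻¹ i)
          rw [← Equiv.Perm.mul_apply, mul_inv_cancel, Equiv.Perm.one_apply] at this
          exact rel_symm _ _ this }
    have hPS : P ≤ S₀ := by
      have h1 : Subgroup.closure {x : Equiv.Perm (Fin n) | x ∈ P ∧ x ^ 2 = 1} ≤ S₀ := by
        rw [Subgroup.closure_le]
        rintro τ ⟨hτP, hτ⟩
        rw [pow_two] at hτ
        exact rel_inv τ hτP hτ
      rwa [hPgen] at h1
    have rel_all : ∀ i k, rel i k := by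
      intro i k
      obtain ⟨σ, hσ, rfl⟩ := htrans i k
      exact hPS hσ i
    intro z hz
    show Good z
    rcases isEmpty_or_nonempty (Fin n) with hn | hn
    · have : z = 0 := Subsingleton.elim _ _
      rw [this]
      exact good_zero
    · obtain ⟨i₀⟩ := hn
      have hzdec : z = ∑ i, (Pi.single i (z i) - Pi.single i₀ (z i)) + Pi.single i₀ (∑ i, z i) := by
        funext k
        simp only [Pi.add_apply, Finset.sum_apply, Pi.sub_apply, Finset.sum_sub_distrib,
          Pi.single_apply]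
        by_cases hk : k = i₀
        · subst hk
          simp
        · simp [hk]
      rw [hzdec]
      apply good_add
      · apply Finset.sum_induction _ Good good_add good_zero
        intro i _
        exact rel_all i i₀ (z i)
      · -- supported at `i₀`, determinant one
        have hw : (δX δ₀) ^ (∑ i, z i) = 1 := by
          rw [← δY_lamHom d δY δX hbase, ← hz]
          rfl
        apply hG1
        refine ⟨fun j => ⟨δ₀ ^ ((Pi.single i₀ (∑ i, z i) : Fin n → ℤ) j), ?_⟩, rfl⟩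
        rw [Subgroup.mem_inf, MonoidHom.mem_ker]
        refine ⟨zpow_mem hδ₀ _, ?_⟩
        rw [map_zpow]
        by_cases hj : j = i₀
        · subst hj
          simpa using hw
        · simp [hj]

end Det

end Cfsg.Agent.Lib.Helper67_WreathDet
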