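import Mathlib
import Cfsg.Agent.Lib.Helper67_GLSylow
import Cfsg.Agent.Lib.Helper67_WreathDet

/-!
# Sylow 2-subgroups of `SL_{2m}(q)`, `q` odd (helper67)

The determinant-one part of the model `T ≀ P ≤ GL_{2m}(F)`.
-/

set_option autoImplicit false
set_option linter.style.haveILetI false
set_option linter.unusedSectionVars false

namespace Cfsg.Agent.Lib.Helper67_SLSylow

open Matrix Cfsg.Agent.Lib.Helper67_SymSylow Cfsg.Agent.Lib.Helper67_SpSylow
  Cfsg.Agent.Lib.Helper67_WreathModel Cfsg.Agent.Lib.Helper67_GLSylow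
  Cfsg.Agent.Lib.Helper67_WreathDet

section DetFacts

variable {F : Type*} [Field F] (n : ℕ)

/-- reindexing `Fin n ⊕ Fin n ≃ Fin 2 × Fin n` -/
def sumEquivProd : Fin n ⊕ Fin n ≃ Fin 2 × Fin n where
  toFun := Sum.elim (fun i => (0, i)) (fun i => (1, i))
  invFun p := if p.1 = 0 then Sum.inl p.2 else Sum.inr p.2
  left_inv := by
    rintro (i | i) <;> simp
  right_inv := by
    rintro ⟨a, i⟩
    fin_cases a <;> simp

theorem bMat_eq_submatrix (g : Fin n → Matrix (Fin 2) (Fin 2) F) :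
    bMat n g = (blockDiagonal g).submatrix (sumEquivProd n) (sumEquivProd n) := by
  ext (i | i) (j | j) <;>
    simp [bMat, sumEquivProd, blockDiagonal_apply, diagonal_apply]

theorem det_bMat (g : Fin n → Matrix (Fin 2) (Fin 2) F) : det (bMat n g) = ∏ i, det (g i) := by
  rw [bMat_eq_submatrix, det_submatrix_equiv_self, det_blockDiagonal]

theorem det_baseGL (g : Fin n → GL (Fin 2) F) :
    Matrix.GeneralLinearGroup.det (baseGL n g) = ∏ i, Matrix.GeneralLinearGroup.det (g i) := by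
  apply Units.ext
  rw [Units.coe_prod]
  show det (bMat n fun i => (g i : Matrix (Fin 2) (Fin 2) F)) = _
  rw [det_bMat]
  rfl

theorem det_topMat (σ : Equiv.Perm (Fin n)) : det (topMat n σ : Matrix _ _ F) = 1 := by
  unfold topMat
  rw [det_fromBlocks_zero₂₁]
  have := congrArg det (pMat_transpose_mul (F := F) n σ)
  rw [det_mul, det_transpose, det_one] at this
  exact this

theorem det_topGL (σ : Equiv.Perm (Fin n)) :
    Matrix.GeneralLinearGroup.det (topGL (F := F) n σ) = 1 := by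
  apply Units.ext
  show det (topMat n σ : Matrix _ _ F) = 1
  exact det_topMat n σ

end DetFacts


section GL2Struct

variable {F : Type*} [Field F] [Fintype F]

/-- a `2`-subgroup of `Fˣ` has at most `2 ^ ν₂(q - 1)` elements -/
theorem card_two_subgroup_units_le (hF : Odd (Fintype.card F)) (D : Subgroup Fˣ)
    (hD : IsPGroup 2 D) : Nat.card D ≤ 2 ^ (Fintype.card F - 1).factorization 2 := by
  classical
  obtain ⟨j, hj⟩ := (IsPGroup.iff_card (p := 2)).mp hD
  have h1 : Nat.card D ∣ Nat.card Fˣ := Subgroup.card_subgroup_dvd_card D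
  rw [Nat.card_eq_fintype_card (α := Fˣ), Fintype.card_units, hj] at h1
  have h3 := three_le_card hF
  rw [hj]
  apply Nat.pow_le_pow_right (by norm_num)
  exact (Nat.prime_two.pow_dvd_iff_le_factorization (by omega)).mp h1

theorem inf_ker_le_range (T : Subgroup (GL (Fin 2) F)) :
    T ⊓ (Matrix.GeneralLinearGroup.det (n := Fin 2) (R := F)).ker ≤ (slToGL (F := F)).range := by
  intro x hx
  rw [Subgroup.mem_inf, MonoidHom.mem_ker] at hx
  rw [mem_range_slToGL_iff]
  exact hx.2

/-- `T ∩ SL₂(F)` for a Sylow 2-subgroup `T` of `GL₂(F)`: squares lie in the derived subgroup -/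
theorem eSub_sylow_GL2_inf_ker (hF : Odd (Fintype.card F)) (T : Sylow 2 (GL (Fin 2) F)) :
    ESub 2 ((T : Subgroup (GL (Fin 2) F)) ⊓
      (Matrix.GeneralLinearGroup.det (n := Fin 2) (R := F)).ker : Subgroup (GL (Fin 2) F)) := by
  set Q₂ : Subgroup (GL (Fin 2) F) := (T : Subgroup (GL (Fin 2) F)) ⊓
      (Matrix.GeneralLinearGroup.det (n := Fin 2) (R := F)).ker with hQ₂
  have hcardT := card_eq_card_inf_ker_mul_card_map (T : Subgroup (GL (Fin 2) F))
    (Matrix.GeneralLinearGroup.det (n := Fin 2) (R := F))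
  rw [← hQ₂] at hcardT
  have hD := card_two_subgroup_units_le hF _ (T.isPGroup'.map Matrix.GeneralLinearGroup.det)
  have hT2 : Nat.card (T : Subgroup (GL (Fin 2) F)) =
      2 ^ (Fintype.card F - 1).factorization 2 * 2 ^ eExp F := by
    rw [T.card_eq_multiplicity, val_card_GL_two hF, gExp, pow_add]
  have hQ₂card : 2 ^ eExp F ≤ Nat.card Q₂ := by
    have h1 : 2 ^ (Fintype.card F - 1).factorization 2 * 2 ^ eExp F ≤
        Nat.card Q₂ * 2 ^ (Fintype.card F - 1).factorization 2 := by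
      rw [← hT2, hcardT]
      exact Nat.mul_le_mul_left _ hD
    rw [mul_comm] at h1
    exact Nat.le_of_mul_le_mul_right h1 (by positivity)
  have hQ₂p : IsPGroup 2 Q₂ := T.isPGroup'.to_le inf_le_left
  have h1 : (Q₂.comap (slToGL (F := F))).map (slToGL (F := F)) = Q₂ :=
    Subgroup.map_comap_eq_self (inf_ker_le_range _)
  rw [← h1]
  apply ESub.map
  apply eSub_large_SL2 hF _ (hQ₂p.comap_of_injective _ Matrix.SpecialLinearGroup.toGL_injective)
  rw [← Subgroup.card_map_of_injective (f := slToGL (F := F))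
    Matrix.SpecialLinearGroup.toGL_injective, h1]
  exact hQ₂card

/-- existence of `δ₀ ∈ T` whose determinant generates `det T` -/
theorem exists_det_generator (T : Sylow 2 (GL (Fin 2) F)) :
    ∃ δ₀ ∈ (T : Subgroup (GL (Fin 2) F)), ∀ x ∈ (T : Subgroup (GL (Fin 2) F)),
      ∃ z : ℤ, Matrix.GeneralLinearGroup.det x = (Matrix.GeneralLinearGroup.det δ₀) ^ z := by
  set D : Subgroup Fˣ := (T : Subgroup (GL (Fin 2) F)).map Matrix.GeneralLinearGroup.det with hD
  obtain ⟨g, hg⟩ := IsCyclic.exists_generator (α := D)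
  obtain ⟨δ₀, hδ₀, hδg⟩ := g.2
  refine ⟨δ₀, hδ₀, ?_⟩
  intro x hx
  have hxD : Matrix.GeneralLinearGroup.det x ∈ D := Subgroup.mem_map_of_mem _ hx
  obtain ⟨z, hz⟩ := Subgroup.mem_zpowers_iff.mp (hg ⟨_, hxD⟩)
  refine ⟨z, ?_⟩
  have := congrArg Subtype.val hz
  rw [Subgroup.coe_zpow] at this
  rw [hδg]
  exact this.symm

/-- for `q ≡ 3 mod 4` the generator can be taken to be an involution -/
theorem exists_det_generator_involution (hF : Odd (Fintype.card F))
    (hq : 4 ∣ Fintype.card F + 1) (T : Sylow 2 (GL (Fin 2) F)) :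
    ∃ δ₀ ∈ (T : Subgroup (GL (Fin 2) F)), δ₀ ^ 2 = 1 ∧
      ∀ x ∈ (T : Subgroup (GL (Fin 2) F)),
      ∃ z : ℤ, Matrix.GeneralLinearGroup.det x = (Matrix.GeneralLinearGroup.det δ₀) ^ z := by
  obtain ⟨t, htT, htsq, htdet⟩ := exists_refl_mem hF T
  refine ⟨t, htT, htsq, ?_⟩
  set D : Subgroup Fˣ := (T : Subgroup (GL (Fin 2) F)).map Matrix.GeneralLinearGroup.det with hD
  have hDcard : Nat.card D ≤ 2 := by
    have := card_two_subgroup_units_le hF D (T.isPGroup'.map _)
    rwa [val_sub_one_of_four_dvd _ hq, pow_one] at this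
  have htD : Matrix.GeneralLinearGroup.det t ∈ D := Subgroup.mem_map_of_mem _ htT
  have hle : Subgroup.zpowers (Matrix.GeneralLinearGroup.det t) ≤ D :=
    Subgroup.zpowers_le.mpr htD
  have heq : Subgroup.zpowers (Matrix.GeneralLinearGroup.det t) = D := by
    apply Subgroup.eq_of_le_of_card_ge hle
    rw [Nat.card_zpowers]
    have h1 : orderOf (Matrix.GeneralLinearGroup.det t) ≠ 1 := by
      rw [Ne, orderOf_eq_one_iff]
      exact htdet
    have h0 : 0 < orderOf (Matrix.GeneralLinearGroup.det t) := orderOf_pos _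
    omega
  intro x hx
  have hxD : Matrix.GeneralLinearGroup.det x ∈ D := Subgroup.mem_map_of_mem _ hx
  rw [← heq] at hxD
  obtain ⟨z, hz⟩ := Subgroup.mem_zpowers_iff.mp hxD
  exact ⟨z, hz.symm⟩

end GL2Struct

section Transitive

/-- for `n = 2 ^ j` some Sylow 2-subgroup of `Perm (Fin n)` is transitive -/
theorem exists_transitive_sylow (n j : ℕ) (hn : n = 2 ^ j) :
    ∃ P : Sylow 2 (Equiv.Perm (Fin n)), ∀ i k : Fin n,
      ∃ σ ∈ (P : Subgroup (Equiv.Perm (Fin n))), σ i = k := by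
  rcases Nat.lt_or_ge n 2 with h2 | h2
  · refine ⟨default, fun i k => ⟨1, one_mem _, ?_⟩⟩
    have : Subsingleton (Fin n) := by
      apply Fin.subsingleton_iff_le_one.mpr
      omega
    exact Subsingleton.elim _ _
  · have hcyc := isCycle_finRotate_of_le h2
    have hsupp := support_finRotate_of_le h2
    have hord : orderOf (finRotate n) = 2 ^ j := by
      rw [hcyc.orderOf, hsupp, Finset.card_univ, Fintype.card_fin, hn]
    have hz : IsPGroup 2 (Subgroup.zpowers (finRotate n)) := by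
      apply IsPGroup.of_card (n := j)
      rw [Nat.card_zpowers, hord]
    obtain ⟨P, hP⟩ := hz.exists_le_sylow
    refine ⟨P, fun i k => ?_⟩
    have hi : finRotate n i ≠ i := by
      rw [← Equiv.Perm.mem_support, hsupp]
      exact Finset.mem_univ _
    have hk : finRotate n k ≠ k := by
      rw [← Equiv.Perm.mem_support, hsupp]
      exact Finset.mem_univ _
    obtain ⟨z, hz⟩ := hcyc.exists_zpow_eq hi hk
    exact ⟨finRotate n ^ z, hP (Subgroup.zpow_mem_zpowers _ _), hz⟩

end Transitive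


section Main

variable {F : Type*} [Field F] [Fintype F]

/-- `Fin m ⊕ Fin m ≃ Fin (2 * m)` -/
def sumEquivFin (m : ℕ) : Fin m ⊕ Fin m ≃ Fin (2 * m) :=
  finSumFinEquiv.trans (finCongr (two_mul m).symm)

/-- the embedding `SL(Fin (2m)) → GL(Fin m ⊕ Fin m)` -/
def slToGLm (m : ℕ) : Matrix.SpecialLinearGroup (Fin (2 * m)) F →* GL (Fin m ⊕ Fin m) F :=
  (Matrix.SpecialLinearGroup.toGL).comp (reindexSL (sumEquivFin m).symm)

omit [Fintype F] in
theorem slToGLm_injective (m : ℕ) : Function.Injective (slToGLm (F := F) m) :=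
  Matrix.SpecialLinearGroup.toGL_injective.comp (reindexSL_injective _)

omit [Fintype F] in
theorem ker_det_le_range (m : ℕ) :
    (Matrix.GeneralLinearGroup.det (n := Fin m ⊕ Fin m) (R := F)).ker ≤
      (slToGLm (F := F) m).range := by
  intro x hx
  rw [MonoidHom.mem_ker] at hx
  have h1 : det (x : Matrix (Fin m ⊕ Fin m) (Fin m ⊕ Fin m) F) = 1 := by
    have := congrArg Units.val hx
    simpa using this
  refine ⟨reindexSL (sumEquivFin m) ⟨(x : Matrix (Fin m ⊕ Fin m) (Fin m ⊕ Fin m) F), h1⟩, ?_⟩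
  apply Units.ext
  show Matrix.reindex (sumEquivFin m).symm (sumEquivFin m).symm
    (Matrix.reindex (sumEquivFin m) (sumEquivFin m)
      (x : Matrix (Fin m ⊕ Fin m) (Fin m ⊕ Fin m) F)) = _
  simp

/-- Sylow 2-subgroups of `SL_{2m}(F)`: squares lie in the derived subgroup, provided
`|F| ≡ 3 mod 4`, or `|F| ≡ 1 mod 4` and `m` is a power of `2`. -/
theorem eSub_sylow_SL_even (hF : Odd (Fintype.card F)) (m : ℕ) (hm : 1 ≤ m)
    (hq : 4 ∣ Fintype.card F + 1 ∨ (4 ∣ Fintype.card F - 1 ∧ ∃ j : ℕ, m = 2 ^ j))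
    (S : Sylow 2 (Matrix.SpecialLinearGroup (Fin (2 * m)) F)) :
    ESub 2 (S : Subgroup (Matrix.SpecialLinearGroup (Fin (2 * m)) F)) := by
  classical
  let d : WData (GL (Fin 2) F) (GL (Fin m ⊕ Fin m) F) m := glData m
  let δY : GL (Fin m ⊕ Fin m) F →* Fˣ := Matrix.GeneralLinearGroup.det
  let δX : GL (Fin 2) F →* Fˣ := Matrix.GeneralLinearGroup.det
  have hbase : ∀ g : Fin m → GL (Fin 2) F, δY (d.base g) = ∏ i, δX (g i) := det_baseGL m
  have htop : ∀ σ : Equiv.Perm (Fin m), δY (d.top σ) = 1 := det_topGL m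
  let T : Sylow 2 (GL (Fin 2) F) := default
  have hQ : ET 2 ((T : Subgroup (GL (Fin 2) F)) ⊓ δX.ker : Subgroup (GL (Fin 2) F)) := by
    rw [← eSub_iff_eT]
    exact eSub_sylow_GL2_inf_ker hF T
  obtain ⟨P, hR⟩ : ∃ P : Sylow 2 (Equiv.Perm (Fin m)),
      ESub 2 (d.model (T : Subgroup (GL (Fin 2) F)) (P : Subgroup (Equiv.Perm (Fin m))) ⊓
        δY.ker : Subgroup (GL (Fin m ⊕ Fin m) F)) := by
    rcases hq with hq | ⟨-, j, hj⟩
    · obtain ⟨δ₀, hδ₀, hsq, hgen⟩ := exists_det_generator_involution hF hq T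
      let P : Sylow 2 (Equiv.Perm (Fin m)) := default
      exact ⟨P, eSub_model_inf_ker_of_involution d δY δX hbase htop _ _ δ₀ hδ₀ hgen hsq hQ
        (GenPowSub.eSub (genPowSub_sylow_perm 2 m P))⟩
    · obtain ⟨δ₀, hδ₀, hgen⟩ := exists_det_generator T
      obtain ⟨P, htrans⟩ := exists_transitive_sylow m j hj
      exact ⟨P, eSub_model_inf_ker_of_transitive d δY δX hbase htop _ _ δ₀ hδ₀ hgen hQ
        (genPowSub_sylow_perm 2 m P) htrans⟩
  set R : Subgroup (GL (Fin m ⊕ Fin m) F) :=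
    d.model (T : Subgroup (GL (Fin 2) F)) (P : Subgroup (Equiv.Perm (Fin m))) ⊓ δY.ker with hRdef
  have hRrange : R ≤ (slToGLm (F := F) m).range := inf_le_right.trans (ker_det_le_range m)
  have hmap : (R.comap (slToGLm (F := F) m)).map (slToGLm (F := F) m) = R :=
    Subgroup.map_comap_eq_self hRrange
  have hRp : IsPGroup 2 R :=
    (d.isPGroup_model 2 _ _ T.isPGroup' P.isPGroup').to_le inf_le_left
  have hcardR : 2 ^ (Nat.card (Matrix.SpecialLinearGroup (Fin (2 * m)) F)).factorization 2 ≤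
      Nat.card R := by
    have h1 := card_model_inf_ker_ge d δY δX hbase htop (T : Subgroup (GL (Fin 2) F))
      (P : Subgroup (Equiv.Perm (Fin m)))
    rw [← hRdef] at h1
    have h2 := card_two_subgroup_units_le hF _
      (T.isPGroup'.map (Matrix.GeneralLinearGroup.det (n := Fin 2) (R := F)))
    have h3 := val_card_SL_even hF m hm
    rw [card_sylow_GL2 hF, card_sylow_perm, ← Nat.factorization_def _ Nat.prime_two,
      ← pow_mul, ← pow_add, mul_comm (gExp F) m, ← h3, pow_add] at h1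
    have h4 := h1.trans (Nat.mul_le_mul_left _ h2)
    exact Nat.le_of_mul_le_mul_right h4 (by positivity)
  apply eSub_sylow_of_large 2 (R.comap (slToGLm (F := F) m))
    (hRp.comap_of_injective _ (slToGLm_injective m)) ?_ ?_ S
  · rw [← Subgroup.card_map_of_injective (slToGLm_injective (F := F) m), hmap]
    exact hcardR
  · apply eSub_of_map_injective _ (slToGLm_injective (F := F) m)
    rw [hmap]
    exact hR

end Main

end Cfsg.Agent.Lib.Helper67_SLSylow
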