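import Cfsg.Agent.Lib.Helper44_Index
import Cfsg.Agent.Lib.Helper67_SLSylow

set_option autoImplicit false
set_option linter.unusedSectionVars false
set_option linter.style.haveILetI false

namespace Cfsg.Agent.Lib.Helper67_OrthModel

open Matrix Cfsg.Agent.Lib.Helper44_Orth Cfsg.Agent.Lib.Helper44_Refl
  Cfsg.Agent.Lib.Helper44_Spinor Cfsg.Agent.Lib.Helper44_Index

section Diag

variable {J : Type} [Fintype J] [DecidableEq J] {F : Type*} [Field F]

/-- diagonal quadratic form `∑ wⱼ xⱼ²` -/
def dForm (w : J → F) : QuadraticForm F (J → F) := QuadraticMap.weightedSumSquares F w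

theorem dForm_apply (w : J → F) (v : J → F) : dForm w v = ∑ j, w j * (v j * v j) := by
  simp [dForm, QuadraticMap.weightedSumSquares_apply]

theorem polar_dForm (w : J → F) (x y : J → F) :
    QuadraticMap.polar (⇑(dForm w)) x y = ∑ j, 2 * w j * (x j * y j) := by
  unfold QuadraticMap.polar
  rw [dForm_apply, dForm_apply, dForm_apply, ← Finset.sum_sub_distrib, ← Finset.sum_sub_distrib]
  apply Finset.sum_congr rfl
  intro j _
  simp only [Pi.add_apply]
  ring

theorem polar_dForm_single (w : J → F) (x : J → F) (j : J) (c : F) :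
    QuadraticMap.polar (⇑(dForm w)) x (Pi.single j c) = 2 * w j * (x j * c) := by
  rw [polar_dForm, Finset.sum_eq_single j]
  · rw [Pi.single_eq_same]
  · intro i _ hij
    rw [Pi.single_eq_of_ne hij, mul_zero, mul_zero]
  · intro h
    exact absurd (Finset.mem_univ j) h

theorem dForm_single (w : J → F) (j : J) (c : F) : dForm w (Pi.single j c) = w j * (c * c) := by
  rw [dForm_apply, Finset.sum_eq_single j]
  · rw [Pi.single_eq_same]
  · intro i _ hij
    rw [Pi.single_eq_of_ne hij, mul_zero, mul_zero]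
  · intro h
    exact absurd (Finset.mem_univ j) h

theorem nondegenerate_dForm (h2 : (2 : F) ≠ 0) (w : J → F) (hw : ∀ j, w j ≠ 0) :
    (QuadraticMap.polarBilin (dForm w)).Nondegenerate := by
  constructor
  · intro x hx
    funext j
    have := hx (Pi.single j 1)
    rw [QuadraticMap.polarBilin_apply_apply, polar_dForm_single, mul_one] at this
    rcases mul_eq_zero.mp this with h | h
    · exact absurd h (mul_ne_zero h2 (hw j))
    · exact h
  · intro y hy
    funext j
    have := hy (Pi.single j 1)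
    rw [QuadraticMap.polarBilin_apply_apply, QuadraticMap.polar_comm, polar_dForm_single,
      mul_one] at this
    rcases mul_eq_zero.mp this with h | h
    · exact absurd h (mul_ne_zero h2 (hw j))
    · exact h

/-- permutation matrix sending `e_j` to `e_{π j}` -/
def pM (π : Equiv.Perm J) : Matrix J J F := Matrix.of fun i j => if π j = i then 1 else 0

theorem pM_mulVec (π : Equiv.Perm J) (u : J → F) : (pM π : Matrix J J F) *ᵥ u = fun i => u (π⁻¹ i) := by
  funext i
  simp only [pM, Matrix.mulVec, dotProduct, Matrix.of_apply]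
  rw [Finset.sum_eq_single (π⁻¹ i)]
  · simp
  · intro j _ hj
    have : π j ≠ i := by
      intro h
      apply hj
      rw [← h]
      simp
    simp [this]
  · simp

theorem pM_mul (π ρ : Equiv.Perm J) : (pM (π * ρ) : Matrix J J F) = pM π * pM ρ := by
  apply matrix_ext_mulVec
  intro u
  rw [← Matrix.mulVec_mulVec, pM_mulVec, pM_mulVec, pM_mulVec]
  funext i
  simp [_root_.mul_inv_rev]

theorem pM_one : (pM (1 : Equiv.Perm J) : Matrix J J F) = 1 := by
  apply matrix_ext_mulVec
  intro u
  rw [pM_mulVec, Matrix.one_mulVec]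
  simp

/-- permutation matrices as a hom to `GL` -/
def pMHom : Equiv.Perm J →* GL J F :=
  ({ toFun := fun π => (pM π : Matrix J J F)
     map_one' := pM_one
     map_mul' := pM_mul } : Equiv.Perm J →* Matrix J J F).toHomUnits

theorem pMHom_val (π : Equiv.Perm J) : ((pMHom π : GL J F) : Matrix J J F) = pM π := rfl

theorem pMHom_mem (w : J → F) (π : Equiv.Perm J) (hπ : ∀ j, w (π j) = w j) :
    (pMHom π : GL J F) ∈ Cfsg.isometryGroup F (⇑(dForm w)) := by
  rw [mem_isometryGroup_iff]
  intro u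
  rw [pMHom_val, pM_mulVec, dForm_apply, dForm_apply]
  rw [← Equiv.sum_comp π]
  apply Finset.sum_congr rfl
  intro j _
  simp [hπ j]

/-- diagonal sign matrix: `-1` at `j`, `1` elsewhere -/
def sgnM (j : J) : Matrix J J F := Matrix.diagonal fun i => if i = j then -1 else 1

theorem sgnM_mul_self (j : J) : (sgnM j : Matrix J J F) * sgnM j = 1 := by
  unfold sgnM
  rw [Matrix.diagonal_mul_diagonal, ← Matrix.diagonal_one]
  congr 1
  funext i
  split_ifs <;> simp

/-- coordinate reflections in `GL` -/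
def sgnGL (j : J) : GL J F := ⟨sgnM j, sgnM j, sgnM_mul_self j, sgnM_mul_self j⟩

theorem sgnGL_val (j : J) : ((sgnGL j : GL J F) : Matrix J J F) = sgnM j := rfl

theorem sgnM_eq_reflection (w : J → F) (j : J) (hw : w j ≠ 0) :
    (sgnM j : Matrix J J F) = Cfsg.reflectionMatrix (⇑(dForm w)) (Pi.single j 1) := by
  apply matrix_ext_mulVec
  intro u
  rw [reflectionMatrix_mulVec, QuadraticMap.polar_comm, polar_dForm_single, dForm_single]
  funext i
  unfold sgnM
  rw [Matrix.mulVec_diagonal]
  simp only [Pi.sub_apply, Pi.smul_apply, smul_eq_mul, Pi.single_apply]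
  by_cases hij : i = j
  · subst hij
    simp only [if_true]
    field_simp
    ring
  · simp [hij]

end Diag


section Blocks

open Cfsg.Agent.Lib.Helper67_SpSylow Cfsg.Agent.Lib.Helper67_WreathModel
  Cfsg.Agent.Lib.Helper67_GLSylow Cfsg.Agent.Lib.Helper67_SLSylow

variable {F : Type*} [Field F] (k l : ℕ)

/-- the index type of the model form -/
abbrev JJ (k l : ℕ) : Type := (Fin k ⊕ Fin k) ⊕ Fin l

/-- weights of the model form: `1` on the blocks, `c` on the leftover coordinates -/
def wt (c : Fin l → F) : JJ k l → F := Sum.elim (fun _ => 1) c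

/-- the plane form `x² + y²` -/
def piForm (F : Type*) [Field F] : QuadraticForm F (Fin 2 → F) := dForm fun _ => 1

theorem piForm_apply (v : Fin 2 → F) : piForm F v = v 0 * v 0 + v 1 * v 1 := by
  unfold piForm
  rw [dForm_apply, Fin.sum_univ_two, one_mul, one_mul]

theorem dForm_wt_apply (c : Fin l → F) (v : JJ k l → F) :
    dForm (wt k l c) v = (∑ i : Fin k, (v (Sum.inl (Sum.inl i)) * v (Sum.inl (Sum.inl i)) +
      v (Sum.inl (Sum.inr i)) * v (Sum.inl (Sum.inr i)))) +
      ∑ j : Fin l, c j * (v (Sum.inr j) * v (Sum.inr j)) := by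
  rw [dForm_apply, Fintype.sum_sum_type, Fintype.sum_sum_type, Finset.sum_add_distrib]
  simp [wt]

theorem bMat_mulVec_inl (g : Fin k → Matrix (Fin 2) (Fin 2) F) (u : Fin k ⊕ Fin k → F) (i : Fin k) :
    (bMat k g *ᵥ u) (Sum.inl i) = g i 0 0 * u (Sum.inl i) + g i 0 1 * u (Sum.inr i) := by
  unfold bMat
  rw [fromBlocks_mulVec, Sum.elim_inl, Pi.add_apply, mulVec_diagonal, mulVec_diagonal]
  rfl

theorem bMat_mulVec_inr (g : Fin k → Matrix (Fin 2) (Fin 2) F) (u : Fin k ⊕ Fin k → F) (i : Fin k) :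
    (bMat k g *ᵥ u) (Sum.inr i) = g i 1 0 * u (Sum.inl i) + g i 1 1 * u (Sum.inr i) := by
  unfold bMat
  rw [fromBlocks_mulVec, Sum.elim_inr, Pi.add_apply, mulVec_diagonal, mulVec_diagonal]
  rfl

/-- block diagonal embedding `GL(Fin k ⊕ Fin k) → GL(JJ k l)` -/
def embGL : GL (Fin k ⊕ Fin k) F →* GL (JJ k l) F :=
  Units.map (blockLeftHom (Fin k ⊕ Fin k) (Fin l) F)

theorem embGL_val (g : GL (Fin k ⊕ Fin k) F) :
    ((embGL k l g : GL (JJ k l) F) : Matrix (JJ k l) (JJ k l) F) =
      fromBlocks (g : Matrix (Fin k ⊕ Fin k) (Fin k ⊕ Fin k) F) 0 0 1 := rfl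

theorem embGL_injective : Function.Injective (embGL (F := F) k l) := by
  intro g h hgh
  apply Units.ext
  have := congrArg (fun x : GL (JJ k l) F => (x : Matrix (JJ k l) (JJ k l) F).toBlocks₁₁) hgh
  simpa [embGL_val] using this

theorem embGL_mulVec_inl (g : GL (Fin k ⊕ Fin k) F) (u : JJ k l → F) (j : Fin k ⊕ Fin k) :
    (((embGL k l g : GL (JJ k l) F) : Matrix (JJ k l) (JJ k l) F) *ᵥ u) (Sum.inl j) =
      ((g : Matrix (Fin k ⊕ Fin k) (Fin k ⊕ Fin k) F) *ᵥ (u ∘ Sum.inl)) j := by
  rw [embGL_val, fromBlocks_mulVec, Sum.elim_inl, zero_mulVec, add_zero]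

theorem embGL_mulVec_inr (g : GL (Fin k ⊕ Fin k) F) (u : JJ k l → F) (j : Fin l) :
    (((embGL k l g : GL (JJ k l) F) : Matrix (JJ k l) (JJ k l) F) *ᵥ u) (Sum.inr j) =
      u (Sum.inr j) := by
  rw [embGL_val, fromBlocks_mulVec, Sum.elim_inr, zero_mulVec, zero_add, one_mulVec]
  rfl

/-- the base map lands in the isometry group -/
theorem embGL_baseGL_mem (c : Fin l → F) (g : Fin k → GL (Fin 2) F)
    (hg : ∀ i, g i ∈ Cfsg.isometryGroup F (⇑(piForm F))) :
    embGL k l (baseGL k g) ∈ Cfsg.isometryGroup F (⇑(dForm (wt k l c))) := by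
  rw [mem_isometryGroup_iff]
  intro u
  rw [dForm_wt_apply, dForm_wt_apply]
  congr 1
  · apply Finset.sum_congr rfl
    intro i _
    rw [embGL_mulVec_inl, embGL_mulVec_inl, baseGL_val, bMat_mulVec_inl, bMat_mulVec_inr]
    have h := (mem_isometryGroup_iff _ _).mp (hg i) ![u (Sum.inl (Sum.inl i)), u (Sum.inl (Sum.inr i))]
    rw [piForm_apply, piForm_apply] at h
    simp only [Matrix.mulVec, dotProduct, Fin.sum_univ_two, Matrix.cons_val_zero,
      Matrix.cons_val_one] at h
    simp only [Function.comp_apply]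
    exact h
  · apply Finset.sum_congr rfl
    intro j _
    rw [embGL_mulVec_inr]


/-! ### permutation isometries -/

/-- `σ` acting on both halves -/
def permBoth : Equiv.Perm (Fin k) →* Equiv.Perm (JJ k l) :=
  (Equiv.Perm.sumCongrHom (Fin k ⊕ Fin k) (Fin l)).comp
    ((MonoidHom.inl _ _).comp ((Equiv.Perm.sumCongrHom (Fin k) (Fin k)).comp
      ((MonoidHom.id _).prod (MonoidHom.id _))))

/-- `σ` acting on the first half -/
def permLeft : Equiv.Perm (Fin k) →* Equiv.Perm (JJ k l) :=
  (Equiv.Perm.sumCongrHom (Fin k ⊕ Fin k) (Fin l)).comp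
    ((MonoidHom.inl _ _).comp ((Equiv.Perm.sumCongrHom (Fin k) (Fin k)).comp
      (MonoidHom.inl _ _)))

/-- `σ` acting on the second half -/
def permRight : Equiv.Perm (Fin k) →* Equiv.Perm (JJ k l) :=
  (Equiv.Perm.sumCongrHom (Fin k ⊕ Fin k) (Fin l)).comp
    ((MonoidHom.inl _ _).comp ((Equiv.Perm.sumCongrHom (Fin k) (Fin k)).comp
      (MonoidHom.inr _ _)))

/-- exchange of the two halves -/
def swapAll : Equiv.Perm (JJ k l) :=
  Equiv.sumCongr (Equiv.sumComm (Fin k) (Fin k)) (Equiv.refl (Fin l))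

theorem permBoth_apply_ll (σ : Equiv.Perm (Fin k)) (i : Fin k) :
    permBoth k l σ (Sum.inl (Sum.inl i)) = Sum.inl (Sum.inl (σ i)) := rfl

theorem permBoth_apply_lr (σ : Equiv.Perm (Fin k)) (i : Fin k) :
    permBoth k l σ (Sum.inl (Sum.inr i)) = Sum.inl (Sum.inr (σ i)) := rfl

theorem permBoth_apply_r (σ : Equiv.Perm (Fin k)) (j : Fin l) :
    permBoth k l σ (Sum.inr j) = Sum.inr j := rfl

theorem permBoth_eq (σ : Equiv.Perm (Fin k)) :
    permBoth k l σ = permLeft k l σ * permRight k l σ := by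
  ext j
  rcases j with (i | i) | j <;> rfl

theorem swapAll_conj (σ : Equiv.Perm (Fin k)) :
    swapAll k l * permLeft k l σ * (swapAll k l)⁻¹ = permRight k l σ := by
  ext j
  rcases j with (i | i) | j <;> rfl

theorem wt_permLeft (c : Fin l → F) (σ : Equiv.Perm (Fin k)) (j : JJ k l) :
    wt k l c (permLeft k l σ j) = wt k l c j := by
  rcases j with (i | i) | j <;> rfl

theorem wt_permRight (c : Fin l → F) (σ : Equiv.Perm (Fin k)) (j : JJ k l) :
    wt k l c (permRight k l σ j) = wt k l c j := by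
  rcases j with (i | i) | j <;> rfl

theorem wt_permBoth (c : Fin l → F) (σ : Equiv.Perm (Fin k)) (j : JJ k l) :
    wt k l c (permBoth k l σ j) = wt k l c j := by
  rcases j with (i | i) | j <;> rfl

theorem wt_swapAll (c : Fin l → F) (j : JJ k l) :
    wt k l c (swapAll k l j) = wt k l c j := by
  rcases j with (i | i) | j <;> rfl

theorem embGL_topGL (σ : Equiv.Perm (Fin k)) :
    embGL k l (topGL (F := F) k σ) = pMHom (permBoth k l σ) := by
  apply Units.ext
  rw [embGL_val, topGL_val, pMHom_val]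
  ext i j
  rcases i with (i | i) | i <;> rcases j with (j | j) | j <;>
    simp [topMat, pMat, pM, permBoth_apply_ll, permBoth_apply_lr, permBoth_apply_r,
      Matrix.one_apply, eq_comm]


/-! ### embedded reflections -/

theorem polar_piForm (v x : Fin 2 → F) :
    QuadraticMap.polar (⇑(piForm F)) v x = 2 * (v 0 * x 0 + v 1 * x 1) := by
  unfold piForm
  rw [polar_dForm, Fin.sum_univ_two]
  ring

/-- the embedding of a plane vector into the `i`-th block -/
def iota (i : Fin k) (v : Fin 2 → F) : JJ k l → F :=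
  Pi.single (Sum.inl (Sum.inl i)) (v 0) + Pi.single (Sum.inl (Sum.inr i)) (v 1)

theorem iota_ll (i i' : Fin k) (v : Fin 2 → F) :
    iota k l i v (Sum.inl (Sum.inl i')) = if i' = i then v 0 else 0 := by
  unfold iota
  rw [Pi.add_apply, Pi.single_apply, Pi.single_apply]
  simp

theorem iota_lr (i i' : Fin k) (v : Fin 2 → F) :
    iota k l i v (Sum.inl (Sum.inr i')) = if i' = i then v 1 else 0 := by
  unfold iota
  rw [Pi.add_apply, Pi.single_apply, Pi.single_apply]
  simp

theorem iota_r (i : Fin k) (v : Fin 2 → F) (j : Fin l) :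
    iota k l i v (Sum.inr j) = 0 := by
  unfold iota
  rw [Pi.add_apply, Pi.single_apply, Pi.single_apply]
  simp

theorem dForm_iota (c : Fin l → F) (i : Fin k) (v : Fin 2 → F) :
    dForm (wt k l c) (iota k l i v) = piForm F v := by
  rw [dForm_wt_apply, piForm_apply, Finset.sum_eq_single i]
  · simp [iota_ll, iota_lr, iota_r]
  · intro i' _ hi'
    simp [iota_ll, iota_lr, hi']
  · intro h
    exact absurd (Finset.mem_univ i) h

theorem polar_iota (c : Fin l → F) (i : Fin k) (v : Fin 2 → F) (u : JJ k l → F) :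
    QuadraticMap.polar (⇑(dForm (wt k l c))) (iota k l i v) u =
      2 * (v 0 * u (Sum.inl (Sum.inl i)) + v 1 * u (Sum.inl (Sum.inr i))) := by
  unfold iota
  rw [QuadraticMap.polar_add_left, QuadraticMap.polar_comm, polar_dForm_single,
    QuadraticMap.polar_comm _ (Pi.single _ _), polar_dForm_single]
  simp only [wt, Sum.elim_inl]
  ring

theorem embGL_baseGL_reflection (c : Fin l → F) (i : Fin k) (v : Fin 2 → F)
    (hv : piForm F v ≠ 0) :
    ((embGL k l (baseGL k (Pi.mulSingle i (reflGL (piForm F) v hv))) : GL (JJ k l) F) :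
      Matrix (JJ k l) (JJ k l) F) =
      Cfsg.reflectionMatrix (⇑(dForm (wt k l c))) (iota k l i v) := by
  classical
  apply matrix_ext_mulVec
  intro u
  rw [reflectionMatrix_mulVec, dForm_iota, polar_iota]
  -- the action of the plane reflection
  have hR : ∀ x : Fin 2 → F, Cfsg.reflectionMatrix (⇑(piForm F)) v *ᵥ x =
      x - ((piForm F v)⁻¹ * (2 * (v 0 * x 0 + v 1 * x 1))) • v := by
    intro x
    rw [reflectionMatrix_mulVec, polar_piForm]
  have hR0 : ∀ x y : F, Cfsg.reflectionMatrix (⇑(piForm F)) v 0 0 * x +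
      Cfsg.reflectionMatrix (⇑(piForm F)) v 0 1 * y =
      x - ((piForm F v)⁻¹ * (2 * (v 0 * x + v 1 * y))) * v 0 := by
    intro x y
    have := congrFun (hR ![x, y]) 0
    simpa [Matrix.mulVec, dotProduct, Fin.sum_univ_two] using this
  have hR1 : ∀ x y : F, Cfsg.reflectionMatrix (⇑(piForm F)) v 1 0 * x +
      Cfsg.reflectionMatrix (⇑(piForm F)) v 1 1 * y =
      y - ((piForm F v)⁻¹ * (2 * (v 0 * x + v 1 * y))) * v 1 := by
    intro x y
    have := congrFun (hR ![x, y]) 1
    simpa [Matrix.mulVec, dotProduct, Fin.sum_univ_two] using this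
  funext j
  rcases j with (i' | i') | j
  · rw [embGL_mulVec_inl, baseGL_val, bMat_mulVec_inl]
    simp only [Function.comp_apply, Pi.sub_apply, Pi.smul_apply, smul_eq_mul, iota_ll]
    by_cases hi : i' = i
    · subst hi
      rw [Pi.mulSingle_eq_same, if_pos rfl]
      exact hR0 _ _
    · rw [Pi.mulSingle_eq_of_ne hi, if_neg hi]
      simp
  · rw [embGL_mulVec_inl, baseGL_val, bMat_mulVec_inr]
    simp only [Function.comp_apply, Pi.sub_apply, Pi.smul_apply, smul_eq_mul, iota_lr]
    by_cases hi : i' = i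
    · subst hi
      rw [Pi.mulSingle_eq_same, if_pos rfl]
      exact hR1 _ _
    · rw [Pi.mulSingle_eq_of_ne hi, if_neg hi]
      simp
  · rw [embGL_mulVec_inr]
    simp [iota_r]

end Blocks

end Cfsg.Agent.Lib.Helper67_OrthModel
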