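import Cfsg.Agent.Lib.Helper67_OrthModel
import Cfsg.Agent.Lib.Helper67_GenInv

set_option autoImplicit false
set_option linter.unusedSectionVars false
set_option linter.style.haveILetI false

namespace Cfsg.Agent.Lib.Helper67_OrthSylow

open Matrix Cfsg.Agent.Lib.Helper44_Orth Cfsg.Agent.Lib.Helper44_Refl
  Cfsg.Agent.Lib.Helper44_Spinor Cfsg.Agent.Lib.Helper44_Index
  Cfsg.Agent.Lib.Helper44_OmegaOdd
  Cfsg.Agent.Lib.Helper67_SymSylow Cfsg.Agent.Lib.Helper67_SpSylow
  Cfsg.Agent.Lib.Helper67_WreathModel Cfsg.Agent.Lib.Helper67_GLSylow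
  Cfsg.Agent.Lib.Helper67_WreathDet Cfsg.Agent.Lib.Helper67_SLSylow
  Cfsg.Agent.Lib.Helper67_OrthModel Cfsg.Agent.Lib.Helper67_GenInv

section WDataOps

variable {X X' Y : Type*} [Group X] [Group X'] [Group Y] {n : ℕ}

/-- restrict the base group along an injective homomorphism -/
def precompW (d : WData X Y n) (φ : X' →* X) (hφ : Function.Injective φ) : WData X' Y n where
  base := d.base.comp (φ.compLeft (Fin n))
  top := d.top
  top_mul_base σ g := d.top_mul_base σ _
  base_inj := by
    intro g h hgh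
    have := d.base_inj hgh
    funext i
    exact hφ (congrFun this i)
  eq_one_of_base_eq_top g ρ h := d.eq_one_of_base_eq_top _ ρ h

/-- restrict the target to a subgroup containing the images -/
def codRestrictW (d : WData X Y n) (H : Subgroup Y) (hb : ∀ g, d.base g ∈ H)
    (ht : ∀ σ, d.top σ ∈ H) : WData X H n where
  base := d.base.codRestrict H hb
  top := d.top.codRestrict H ht
  top_mul_base σ g := Subtype.ext (d.top_mul_base σ g)
  base_inj := by
    intro g h hgh
    exact d.base_inj (congrArg Subtype.val hgh)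
  eq_one_of_base_eq_top g ρ h := d.eq_one_of_base_eq_top g ρ (congrArg Subtype.val h)

end WDataOps

section Model

variable {F : Type*} [Field F] (k l : ℕ) (c : Fin l → F)

/-- the isometry group of the plane `x² + y²` -/
abbrev XP (F : Type*) [Field F] : Type _ := ↥(Cfsg.isometryGroup F (⇑(piForm F)))

/-- the isometry group of the model form -/
abbrev YS : Type _ := ↥(Cfsg.isometryGroup F (⇑(dForm (wt k l c))))

/-- the wreath datum `O(Π) ≀ S_k → O(Π^k ⊥ ⟨c⟩)` -/
def oData : WData (XP F) (YS k l c) k :=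
  codRestrictW (precompW ((glData k).comp (embGL k l) (embGL_injective k l))
      (Cfsg.isometryGroup F (⇑(piForm F))).subtype Subtype.val_injective)
    (Cfsg.isometryGroup F (⇑(dForm (wt k l c))))
    (fun g => embGL_baseGL_mem k l c _ fun i => (g i).2)
    (fun σ => by
      show embGL k l (topGL k σ) ∈ _
      rw [embGL_topGL]
      exact pMHom_mem _ _ (wt_permBoth k l c σ))

theorem oData_base_val (g : Fin k → XP F) :
    (((oData k l c).base g : YS k l c) : GL (JJ k l) F) =
      embGL k l (baseGL k fun i => ((g i : XP F) : GL (Fin 2) F)) := rfl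

theorem oData_top_val (σ : Equiv.Perm (Fin k)) :
    (((oData k l c).top σ : YS k l c) : GL (JJ k l) F) = pMHom (permBoth k l σ) :=
  embGL_topGL k l σ

end Model


section Chars

variable {F : Type*} [Field F] [Fintype F] (h2 : (2 : F) ≠ 0) (k l : ℕ) (c : Fin l → F)
  (hc : ∀ j, c j ≠ 0)

theorem wt_ne_zero (hc : ∀ j, c j ≠ 0) (j : JJ k l) : wt k l c j ≠ 0 := by
  rcases j with j | j
  · exact one_ne_zero
  · exact hc j

include h2 hc in
theorem nondeg_QS : (QuadraticMap.polarBilin (dForm (wt k l c))).Nondegenerate :=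
  nondegenerate_dForm h2 _ (wt_ne_zero k l c hc)

include h2 in
theorem nondeg_QP : (QuadraticMap.polarBilin (piForm F)).Nondegenerate :=
  nondegenerate_dForm h2 _ (fun _ => one_ne_zero)

/-- the pair of characters `(det, θ)` on the model isometry group -/
noncomputable def chi : YS k l c →* ℤˣ × ℤˣ :=
  (detZ h2 (dForm (wt k l c)) (nondeg_QS h2 k l c hc)).prod (theta (dForm (wt k l c)))

theorem chi_ker : (chi h2 k l c hc).ker = Cfsg.Omega F (⇑(dForm (wt k l c))) := by
  ext g
  rw [MonoidHom.mem_ker, mem_omega_iff_det_theta h2 _ (nondeg_QS h2 k l c hc), chi,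
    MonoidHom.prod_apply, Prod.mk_eq_one, detZ_eq_one_iff]

theorem units_sq (a : ℤˣ × ℤˣ) : a * a = 1 := by
  obtain ⟨a, b⟩ := a
  rw [Prod.mk_mul_mk, Int.units_mul_self, Int.units_mul_self]
  rfl

/-- the spinor value attached to a norm -/
noncomputable def thetaVal (a : F) : ℤˣ := by
  classical
  exact if IsSquare a then -1 else 1

theorem thetaVal_of_sq {a : F} (h : IsSquare a) : thetaVal a = -1 := by
  unfold thetaVal
  rw [if_pos h]

theorem thetaVal_of_not_sq {a : F} (h : ¬ IsSquare a) : thetaVal a = 1 := by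
  unfold thetaVal
  rw [if_neg h]

/-- value of `chi` on a reflection -/
theorem chi_refl (v : JJ k l → F) (hv : dForm (wt k l c) v ≠ 0) :
    chi h2 k l c hc (refl (dForm (wt k l c)) v hv) = (-1, thetaVal (dForm (wt k l c) v)) := by
  rw [chi, MonoidHom.prod_apply, detZ_refl]
  by_cases hs : IsSquare (dForm (wt k l c) v)
  · rw [thetaVal_of_sq hs, (theta_refl _ h2 v hv).1 hs]
  · rw [thetaVal_of_not_sq hs, (theta_refl _ h2 v hv).2 hs]

/-- permutation isometries -/
def pY (π : Equiv.Perm (JJ k l)) (hπ : ∀ j, wt k l c (π j) = wt k l c j) : YS k l c :=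
  ⟨pMHom π, pMHom_mem _ π hπ⟩

theorem chi_top (σ : Equiv.Perm (Fin k)) : chi h2 k l c hc ((oData k l c).top σ) = 1 := by
  have h1 : (oData k l c).top σ = pY k l c (permLeft k l σ) (wt_permLeft k l c σ) *
      pY k l c (permRight k l σ) (wt_permRight k l c σ) := by
    apply Subtype.ext
    rw [oData_top_val, permBoth_eq, map_mul]
    rfl
  have h3 : pY k l c (permRight k l σ) (wt_permRight k l c σ) =
      pY k l c (swapAll k l) (wt_swapAll k l c) * pY k l c (permLeft k l σ) (wt_permLeft k l c σ) *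
        (pY k l c (swapAll k l) (wt_swapAll k l c))⁻¹ := by
    rw [eq_mul_inv_iff_mul_eq]
    apply Subtype.ext
    show pMHom (permRight k l σ) * pMHom (swapAll k l) = pMHom (swapAll k l) * pMHom (permLeft k l σ)
    rw [← map_mul, ← map_mul, ← swapAll_conj, inv_mul_cancel_right]
  rw [h1, h3, map_mul, map_mul, map_mul, map_inv, mul_comm (chi h2 k l c hc (pY k l c (swapAll k l) _)),
    mul_inv_cancel_right, units_sq]

/-- the leftover coordinate reflections -/
noncomputable def rho (j : Fin l) : YS k l c :=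
  refl (dForm (wt k l c)) (Pi.single (Sum.inr j) 1) (by
    rw [dForm_single]
    simp only [wt, Sum.elim_inr, mul_one]
    exact hc j)

theorem rho_val (j : Fin l) :
    ((rho k l c hc j : GL (JJ k l) F) : Matrix (JJ k l) (JJ k l) F) = sgnM (Sum.inr j) := by
  rw [sgnM_eq_reflection (wt k l c) (Sum.inr j) (wt_ne_zero k l c hc _)]
  rfl

theorem chi_rho (j : Fin l) :
    chi h2 k l c hc (rho k l c hc j) = (-1, thetaVal (c j)) := by
  unfold rho
  rw [chi_refl, dForm_single]
  simp only [wt, Sum.elim_inr, mul_one]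

theorem rho_sq (j : Fin l) : rho k l c hc j ^ 2 = 1 := by
  rw [pow_two]
  exact refl_mul_self _ _ _

/-- the embedding of the plane group into the `i`-th block -/
def blockHom (i : Fin k) : XP F →* YS k l c :=
  (oData k l c).base.comp (MonoidHom.mulSingle (fun _ : Fin k => XP F) i)

theorem blockHom_refl (i : Fin k) (v : Fin 2 → F) (hv : piForm F v ≠ 0) :
    blockHom k l c i (refl (piForm F) v hv) =
      refl (dForm (wt k l c)) (iota k l i v) (by rw [dForm_iota]; exact hv) := by
  apply Subtype.ext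
  apply Units.ext
  rw [refl_coe, ← embGL_baseGL_reflection k l c i v hv]
  show ((embGL k l (baseGL k _) : GL (JJ k l) F) : Matrix (JJ k l) (JJ k l) F) = _
  congr 3
  funext i'
  show ((Pi.mulSingle (M := fun _ : Fin k => XP F) i (refl (piForm F) v hv) i' : XP F) :
    GL (Fin 2) F) = _
  by_cases hi : i' = i
  · subst hi
    rw [Pi.mulSingle_eq_same, Pi.mulSingle_eq_same]
    rfl
  · rw [Pi.mulSingle_eq_of_ne hi, Pi.mulSingle_eq_of_ne hi]
    rfl

theorem chi_blockHom_refl (i : Fin k) (v : Fin 2 → F) (hv : piForm F v ≠ 0) :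
    chi h2 k l c hc (blockHom k l c i (refl (piForm F) v hv)) =
      (-1, thetaVal (piForm F v)) := by
  rw [blockHom_refl, chi_refl, dForm_iota]

/-- the characters on a block are onto -/
theorem chi_blockHom_surjective (i : Fin k) :
    Function.Surjective ((chi h2 k l c hc).comp (blockHom k l c i)) := by
  have hQP := nondeg_QP (F := F) h2
  have hfin : 2 ≤ Module.finrank F (Fin 2 → F) := by simp
  obtain ⟨u, hu⟩ := Cfsg.Agent.Lib.Helper44_Universal.exists_norm_eq_of_nondegenerate h2
    (piForm F) hQP hfin 1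
  obtain ⟨d, hd⟩ := FiniteField.exists_nonsquare
    (Cfsg.Agent.Lib.Helper44_FinSq.ringChar_ne_two_of_two_ne_zero h2)
  obtain ⟨v, hv⟩ := Cfsg.Agent.Lib.Helper44_Universal.exists_norm_eq_of_nondegenerate h2
    (piForm F) hQP hfin d
  have hu0 : piForm F u ≠ 0 := by rw [hu]; exact one_ne_zero
  have hv0 : piForm F v ≠ 0 := by
    rw [hv]; intro h0; apply hd; rw [h0]; exact ⟨0, by ring⟩
  have husq : IsSquare (piForm F u) := by rw [hu]; exact ⟨1, by ring⟩
  have hvsq : ¬ IsSquare (piForm F v) := by rw [hv]; exact hd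
  have hψu : (chi h2 k l c hc).comp (blockHom k l c i) (refl (piForm F) u hu0) = (-1, -1) := by
    rw [MonoidHom.comp_apply, chi_blockHom_refl, thetaVal_of_sq husq]
  have hψv : (chi h2 k l c hc).comp (blockHom k l c i) (refl (piForm F) v hv0) = (-1, 1) := by
    rw [MonoidHom.comp_apply, chi_blockHom_refl, thetaVal_of_not_sq hvsq]
  rintro ⟨a, b⟩
  rcases Int.units_eq_one_or a with rfl | rfl <;> rcases Int.units_eq_one_or b with rfl | rfl
  · exact ⟨1, map_one _⟩
  · refine ⟨refl (piForm F) u hu0 * refl (piForm F) v hv0, ?_⟩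
    rw [map_mul, hψu, hψv]; rfl
  · exact ⟨refl (piForm F) v hv0, hψv⟩
  · exact ⟨refl (piForm F) u hu0, hψu⟩

end Chars


section MatrixFacts

variable {F : Type*} [Field F] (k l : ℕ)

theorem det_embGL (x : GL (Fin k ⊕ Fin k) F) :
    det ((embGL k l x : GL (JJ k l) F) : Matrix (JJ k l) (JJ k l) F) =
      det (x : Matrix (Fin k ⊕ Fin k) (Fin k ⊕ Fin k) F) := by
  rw [embGL_val, det_fromBlocks_one₂₂, Matrix.zero_mul, sub_zero]

theorem det_embGL_baseGL_mulSingle (i : Fin k) (g : GL (Fin 2) F) :
    det ((embGL k l (baseGL k (Pi.mulSingle i g)) : GL (JJ k l) F) :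
      Matrix (JJ k l) (JJ k l) F) = det (g : Matrix (Fin 2) (Fin 2) F) := by
  classical
  rw [det_embGL]
  have h := det_baseGL k (Pi.mulSingle i g)
  have h' := congrArg Units.val h
  rw [Units.coe_prod] at h'
  have h3 : ∀ i', ((Matrix.GeneralLinearGroup.det (Pi.mulSingle (M := fun _ : Fin k => GL (Fin 2) F)
      i g i') : Fˣ) : F) = if i' = i then det (g : Matrix (Fin 2) (Fin 2) F) else 1 := by
    intro i'
    by_cases hi : i' = i
    · subst hi
      rw [Pi.mulSingle_eq_same, if_pos rfl]
      rfl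
    · rw [Pi.mulSingle_eq_of_ne hi, if_neg hi, map_one, Units.val_one]
  simp only [h3, Finset.prod_ite_eq', Finset.mem_univ, if_true] at h'
  exact h'

theorem sgnM_inr_eq (j : Fin l) :
    (sgnM (Sum.inr j) : Matrix (JJ k l) (JJ k l) F) =
      fromBlocks 1 0 0 (diagonal fun i => if i = j then -1 else 1) := by
  unfold sgnM
  rw [← Matrix.diagonal_one, Matrix.fromBlocks_diagonal]
  congr 1
  funext i
  rcases i with i | i
  · simp
  · simp

theorem embGL_comm_sgnM (x : GL (Fin k ⊕ Fin k) F) (j : Fin l) :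
    ((embGL k l x : GL (JJ k l) F) : Matrix (JJ k l) (JJ k l) F) * sgnM (Sum.inr j) =
      sgnM (Sum.inr j) * ((embGL k l x : GL (JJ k l) F) : Matrix (JJ k l) (JJ k l) F) := by
  rw [embGL_val, sgnM_inr_eq, fromBlocks_multiply, fromBlocks_multiply]
  simp

theorem sgnM_comm {J : Type} [Fintype J] [DecidableEq J] (i j : J) :
    (sgnM i : Matrix J J F) * sgnM j = sgnM j * sgnM i := by
  unfold sgnM
  rw [diagonal_mul_diagonal, diagonal_mul_diagonal]
  congr 1
  funext a
  exact mul_comm _ _

theorem embGL_mulVec_single (x : GL (Fin k ⊕ Fin k) F) (j : Fin l) :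
    ((embGL k l x : GL (JJ k l) F) : Matrix (JJ k l) (JJ k l) F) *ᵥ
      (Pi.single (Sum.inr j) 1 : JJ k l → F) = Pi.single (Sum.inr j) 1 := by
  funext a
  rcases a with a | a
  · rw [embGL_mulVec_inl]
    have : ((Pi.single (Sum.inr j) 1 : JJ k l → F) ∘ Sum.inl) = 0 := by
      funext b
      simp
    rw [this, mulVec_zero]
    simp
  · rw [embGL_mulVec_inr]

theorem sgnM_mulVec_single {J : Type} [Fintype J] [DecidableEq J] (i j : J) :
    (sgnM i : Matrix J J F) *ᵥ (Pi.single j 1 : J → F) =
      if j = i then -(Pi.single j 1 : J → F) else Pi.single j 1 := by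
  unfold sgnM
  funext a
  rw [mulVec_diagonal]
  by_cases hji : j = i
  · subst hji
    rw [if_pos rfl]
    by_cases ha : a = j
    · subst ha
      simp
    · simp [ha]
  · rw [if_neg hji]
    by_cases ha : a = j
    · subst ha
      simp [hji]
    · simp [ha]

end MatrixFacts


section Plane

variable {F : Type*} [Field F]

/-- an isometry of the plane `x² + y²` of determinant `-1` is an involution -/
theorem plane_sq_eq_one (h2 : (2 : F) ≠ 0) (g : XP F)
    (hdet : det ((g : GL (Fin 2) F) : Matrix (Fin 2) (Fin 2) F) = -1) : g ^ 2 = 1 := by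
  have hiso := (mem_isometryGroup_iff _ _).mp g.2
  set M : Matrix (Fin 2) (Fin 2) F := ((g : GL (Fin 2) F) : Matrix (Fin 2) (Fin 2) F) with hM
  have e1 := hiso ![1, 0]
  have e2 := hiso ![0, 1]
  have e12 := hiso ![1, 1]
  rw [piForm_apply, piForm_apply] at e1 e2 e12
  simp only [Matrix.mulVec, dotProduct, Fin.sum_univ_two, Matrix.cons_val_zero,
    Matrix.cons_val_one, mul_one, mul_zero, add_zero, zero_add] at e1 e2 e12
  rw [Matrix.det_fin_two] at hdet
  have e3 : M 0 0 * M 0 1 + M 1 0 * M 1 1 = 0 := by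
    have : 2 * (M 0 0 * M 0 1 + M 1 0 * M 1 1) = 0 := by linear_combination e12 - e1 - e2
    exact (mul_eq_zero.mp this).resolve_left h2
  have hb : M 0 1 = M 1 0 := by
    linear_combination (-(M 0 1)) * e1 + M 0 0 * e3 + (-(M 1 0)) * hdet
  have hd : M 1 1 = -(M 0 0) := by
    linear_combination (-(M 1 1)) * e1 + M 0 0 * hdet + M 1 0 * e3
  apply Subtype.ext
  apply Units.ext
  show M ^ 2 = 1
  rw [pow_two]
  ext i j
  fin_cases i <;> fin_cases j
  · simp only [Matrix.mul_apply, Fin.sum_univ_two, Fin.zero_eta, Fin.isValue, Matrix.one_apply_eq]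
    rw [hb]
    linear_combination e1
  · simp only [Matrix.mul_apply, Fin.sum_univ_two, Fin.zero_eta, Fin.mk_one, Fin.isValue, ne_eq,
      zero_ne_one, not_false_eq_true, Matrix.one_apply_ne]
    rw [hd]
    ring
  · simp only [Matrix.mul_apply, Fin.sum_univ_two, Fin.zero_eta, Fin.mk_one, Fin.isValue, ne_eq,
      one_ne_zero, not_false_eq_true, Matrix.one_apply_ne]
    rw [hd]
    ring
  · simp only [Matrix.mul_apply, Fin.sum_univ_two, Fin.mk_one, Fin.isValue, Matrix.one_apply_eq]
    rw [hd, hb]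
    linear_combination e1

end Plane

end Cfsg.Agent.Lib.Helper67_OrthSylow
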