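import Cfsg.Agent.Lib.Helper67_OrthMain
import Cfsg.Agent.S2679

set_option autoImplicit false
set_option linter.unusedSectionVars false
set_option linter.style.haveILetI false

namespace Cfsg.Agent.Lib.Helper67_OrthTransport

open Matrix Module Cfsg.Agent.Lib.Helper44_Orth Cfsg.Agent.Lib.Helper44_Refl
  Cfsg.Agent.Lib.Helper67_OrthModel Cfsg.Agent.Lib.Helper67_OrthSylow
  Cfsg.Agent.Lib.Helper67_OrthMain

section Transport

variable {F : Type*} [Field F] [Fintype F] {ι : Type} [Fintype ι] [DecidableEq ι]

/-- An orthogonal frame with the norms of the model form gives an embedding of the model isometry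
group. -/
theorem exists_transport (h2 : (2 : F) ≠ 0) (Q : QuadraticForm F (ι → F)) (k l : ℕ)
    (hk : 1 ≤ k) (c : Fin l → F) (hc : ∀ j, c j ≠ 0) (y : JJ k l → (ι → F))
    (hcard : Fintype.card ι = k + k + l)
    (hortho : ∀ a b, a ≠ b → QuadraticMap.polar (⇑Q) (y a) (y b) = 0)
    (hnorm : ∀ a, Q (y a) = wt k l c a) :
    ∃ φ : YS k l c →* ↥(Cfsg.isometryGroup F (⇑Q)), Function.Injective φ := by
  classical
  have : Invertible (2 : F) := invertibleOfNonzero h2
  haveI : Nonempty (JJ k l) := ⟨Sum.inl (Sum.inl ⟨0, hk⟩)⟩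
  have hli : LinearIndependent F y := by
    apply LinearMap.BilinForm.linearIndependent_of_iIsOrtho (B := QuadraticMap.polarBilin Q)
    · rw [LinearMap.BilinForm.iIsOrtho_def]
      intro a b hab
      rw [QuadraticMap.polarBilin_apply_apply]
      exact hortho a b hab
    · intro a
      rw [QuadraticMap.polarBilin_apply_apply, Helper44_Refl.polar_self, hnorm]
      exact mul_ne_zero h2 (wt_ne_zero k l c hc a)
  have hcardJ : Fintype.card (JJ k l) = finrank F (ι → F) := by
    rw [Module.finrank_fintype_fun_eq_card, hcard]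
    simp
  set b : Basis (JJ k l) F (ι → F) := basisOfLinearIndependentOfCardEqFinrank hli hcardJ with hb
  have hby : ⇑b = y := coe_basisOfLinearIndependentOfCardEqFinrank _ _
  set P : Matrix ι (JJ k l) F := (Pi.basisFun F ι).toMatrix b with hP
  set P' : Matrix (JJ k l) ι F := b.toMatrix (Pi.basisFun F ι) with hP'
  have h1 : P * P' = 1 := Basis.toMatrix_mul_toMatrix_flip _ _
  have h2' : P' * P = 1 := Basis.toMatrix_mul_toMatrix_flip _ _
  have hPu : ∀ u : JJ k l → F, P *ᵥ u = ∑ a, u a • b a := by
    intro u
    have h3 := Basis.toMatrix_mulVec_repr b (Pi.basisFun F ι) (∑ a, u a • b a)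
    have h4 : b.repr (∑ a, u a • b a) = Finsupp.equivFunOnFinite.symm u := by
      apply b.repr.symm.injective
      rw [LinearEquiv.symm_apply_apply]
      rw [Basis.repr_symm_apply, Finsupp.linearCombination_apply, Finsupp.sum_fintype]
      · simp
      · intro a
        simp
    rw [h4] at h3
    have h5 : (⇑(Finsupp.equivFunOnFinite.symm u) : JJ k l → F) = u := by
      funext a
      simp
    rw [h5] at h3
    rw [h3]
    funext i
    rw [Pi.basisFun_repr]
  have hQ : ∀ u, Q (P *ᵥ u) = dForm (wt k l c) u := by
    intro u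
    rw [hPu, ← QuadraticMap.basisRepr_apply, QuadraticMap.basisRepr_eq_of_iIsOrtho]
    · rw [dForm, QuadraticMap.weightedSumSquares_apply, QuadraticMap.weightedSumSquares_apply]
      apply Finset.sum_congr rfl
      intro a _
      rw [hby, hnorm]
    · intro a b' hab
      show (QuadraticMap.associated (R := F) Q) (b a) (b b') = 0
      rw [QuadraticMap.associated_apply, hby]
      have := hortho a b' hab
      unfold QuadraticMap.polar at this
      rw [this]
      simp
  exact Cfsg.Agent.S2679.transport (⇑(dForm (wt k l c))) (⇑Q) P P' h1 h2' hQ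

end Transport

end Cfsg.Agent.Lib.Helper67_OrthTransport
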