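import Mathlib
import Cfsg.Prelude.Def_HallClasses
import Cfsg.Agent.Lib.Helper33_Conj
import Cfsg.Agent.Lib.Helper84_RelSylow
import Cfsg.Agent.Lib.Helper72_SylowNum

/-!
# Pronormal subgroups: basic transfer lemmas

* `PronIn H M`: `H` and `gHg⁻¹` are conjugate in their join for all `g ∈ M`.
* `IsPronormal.map`: images of pronormal subgroups under surjections are pronormal.
* `isPronormal_of_map`: converse when the kernel lies in `H`.
* `isPronormal_subgroupOf_iff`: pronormality in a subgroup `M` (as a group) is `PronIn H M`.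
* `isPronormal_of_sup`: `HN` pronormal in `G` and `H` pronormal in `N_G(HN)` give `H` pronormal.
-/

set_option autoImplicit false

namespace Cfsg.Agent.Lib.Helper71_Pronormal

open Cfsg Cfsg.Agent.Lib.Helper33_Conj

variable {G : Type*} [Group G]

/-- `H` is pronormal with respect to conjugation by the elements of `M`. -/
def PronIn (H M : Subgroup G) : Prop :=
  ∀ g ∈ M, ∃ x ∈ H ⊔ cj g H, cj g H = cj x H

theorem isPronormal_iff_pronIn_top (H : Subgroup G) : IsPronormal H ↔ PronIn H ⊤ :=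
  ⟨fun h g _ => h g, fun h g => h g (Subgroup.mem_top g)⟩

theorem PronIn.mono {H M M' : Subgroup G} (h : PronIn H M) (hM : M' ≤ M) : PronIn H M' :=
  fun g hg => h g (hM hg)

theorem IsPronormal.pronIn {H : Subgroup G} (h : IsPronormal H) (M : Subgroup G) : PronIn H M :=
  fun g _ => h g

/-- images of conjugates. -/
theorem map_cj {G' : Type*} [Group G'] (f : G →* G') (g : G) (H : Subgroup G) :
    (cj g H).map f = cj (f g) (H.map f) := by
  ext y
  constructor
  · rintro ⟨_, ⟨x, hx, rfl⟩, rfl⟩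
    refine ⟨f x, ⟨x, hx, rfl⟩, ?_⟩
    simp
  · rintro ⟨_, ⟨x, hx, rfl⟩, rfl⟩
    refine ⟨g * x * g⁻¹, ⟨x, hx, by simp⟩, ?_⟩
    simp

theorem IsPronormal.map {G' : Type*} [Group G'] {H : Subgroup G} (h : IsPronormal H)
    (f : G →* G') (hf : Function.Surjective f) : IsPronormal (H.map f) := by
  intro g'
  obtain ⟨g, rfl⟩ := hf g'
  obtain ⟨x, hx, hgx⟩ := h g
  change x ∈ H ⊔ cj g H at hx
  change cj g H = cj x H at hgx
  refine ⟨f x, ?_, ?_⟩
  · have h1 : f x ∈ (H ⊔ cj g H).map f := ⟨x, hx, rfl⟩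
    rw [Subgroup.map_sup, map_cj] at h1
    exact h1
  · change cj (f g) (H.map f) = cj (f x) (H.map f)
    rw [← map_cj, ← map_cj, hgx]

theorem isPronormal_of_map {G' : Type*} [Group G'] {H : Subgroup G}
    (f : G →* G') (hker : f.ker ≤ H) (h : IsPronormal (H.map f)) : IsPronormal H := by
  intro g
  obtain ⟨x', hx', hgx⟩ := h (f g)
  change x' ∈ H.map f ⊔ cj (f g) (H.map f) at hx'
  change cj (f g) (H.map f) = cj x' (H.map f) at hgx
  rw [← map_cj, ← Subgroup.map_sup] at hx'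
  obtain ⟨x, hx, rfl⟩ := hx'
  refine ⟨x, hx, ?_⟩
  change cj g H = cj x H
  rw [← map_cj, ← map_cj] at hgx
  have hk : ∀ y : G, f.ker ≤ cj y H := by
    intro y k hk
    rw [mem_cj]
    apply hker
    exact f.normal_ker.conj_mem' _ hk y
  have h1 := congrArg (Subgroup.comap f) hgx
  rw [Subgroup.comap_map_eq, Subgroup.comap_map_eq, sup_eq_left.mpr (hk g),
    sup_eq_left.mpr (hk x)] at h1
  exact h1

theorem isPronormal_subgroupOf_iff {H M : Subgroup G} (hHM : H ≤ M) :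
    IsPronormal (H.subgroupOf M) ↔ PronIn H M := by
  have hmap : (H.subgroupOf M).map M.subtype = H := by
    rw [Subgroup.subgroupOf_map_subtype, inf_eq_left.mpr hHM]
  constructor
  · intro h g hg
    obtain ⟨x', hx', hgx⟩ := h ⟨g, hg⟩
    change x' ∈ H.subgroupOf M ⊔ cj (⟨g, hg⟩ : M) (H.subgroupOf M) at hx'
    change cj (⟨g, hg⟩ : M) (H.subgroupOf M) = cj x' (H.subgroupOf M) at hgx
    refine ⟨(x' : G), ?_, ?_⟩
    · have h1 : (x' : G) ∈ (H.subgroupOf M ⊔ cj (⟨g, hg⟩ : M) (H.subgroupOf M)).map M.subtype :=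
        ⟨x', hx', rfl⟩
      rw [Subgroup.map_sup, map_cj, hmap] at h1
      exact h1
    · have h1 := congrArg (Subgroup.map M.subtype) hgx
      rw [map_cj, map_cj, hmap] at h1
      exact h1
  · intro h g
    obtain ⟨x, hx, hgx⟩ := h g g.2
    have hle : H ⊔ cj (g : G) H ≤ M := by
      apply sup_le hHM
      intro y hy
      rw [mem_cj] at hy
      have : y = (g : G) * ((g : G)⁻¹ * y * g) * (g : G)⁻¹ := by group
      rw [this]
      exact M.mul_mem (M.mul_mem g.2 (hHM hy)) (M.inv_mem g.2)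
    have hxM : x ∈ M := hle hx
    refine ⟨⟨x, hxM⟩, ?_, ?_⟩
    · change (⟨x, hxM⟩ : M) ∈ H.subgroupOf M ⊔ cj g (H.subgroupOf M)
      have h1 : x ∈ (H.subgroupOf M ⊔ cj g (H.subgroupOf M)).map M.subtype := by
        rw [Subgroup.map_sup, map_cj, hmap]
        exact hx
      obtain ⟨y, hy, hyx⟩ := h1
      have : y = ⟨x, hxM⟩ := Subtype.ext hyx
      rw [← this]; exact hy
    · change cj g (H.subgroupOf M) = cj (⟨x, hxM⟩ : M) (H.subgroupOf M)
      apply Subgroup.map_injective M.subtype_injective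
      rw [map_cj, map_cj, hmap]
      exact hgx

theorem cj_normal (g : G) (N : Subgroup G) [hN : N.Normal] : cj g N = N := by
  apply mem_normalizer_iff_cj.mp
  rw [Subgroup.normalizer_eq_top]
  exact Subgroup.mem_top g

theorem cj_sup (g : G) (H K : Subgroup G) : cj g (H ⊔ K) = cj g H ⊔ cj g K :=
  Subgroup.map_sup H K _

theorem cj_sup_normal (g : G) (H N : Subgroup G) [N.Normal] : cj g (H ⊔ N) = cj g H ⊔ N := by
  rw [cj_sup, cj_normal g N]

/-- a conjugate of a subgroup of `J` by an element of `J` lies in `J`. -/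
theorem cj_le_of_mem {J K : Subgroup G} {u : G} (hu : u ∈ J) (hK : K ≤ J) : cj u K ≤ J := by
  have h1 : cj u K ≤ cj u J := cj_mono hK
  rwa [cj_of_mem hu] at h1

/-- **de Giovanni–Vincenzi**: if `HN` is pronormal in `G` and `H` is pronormal in `N_G(HN)`,
then `H` is pronormal in `G`. -/
theorem isPronormal_of_sup {H N : Subgroup G} [N.Normal] (h1 : IsPronormal (H ⊔ N))
    (h2 : PronIn H (Subgroup.normalizer ((H ⊔ N : Subgroup G) : Set G))) : IsPronormal H := by
  intro g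
  change ∃ x ∈ H ⊔ cj g H, cj g H = cj x H
  obtain ⟨x, hx, hgx⟩ := h1 g
  change x ∈ (H ⊔ N) ⊔ cj g (H ⊔ N) at hx
  change cj g (H ⊔ N) = cj x (H ⊔ N) at hgx
  rw [cj_sup_normal g H N] at hx
  have hx' : x ∈ (H ⊔ cj g H) ⊔ N := by
    have : (H ⊔ N) ⊔ (cj g H ⊔ N) = (H ⊔ cj g H) ⊔ N := by
      rw [sup_sup_sup_comm, sup_idem]
    rwa [this] at hx
  have hx'' : x ∈ (((H ⊔ cj g H) ⊔ N : Subgroup G) : Set G) := hx'
  rw [Subgroup.mul_normal] at hx''
  obtain ⟨y, hy, n, hn, rfl⟩ := hx''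
  have hy' : y ∈ H ⊔ cj g H := hy
  have hn' : n ∈ N := hn
  -- `y⁻¹ g` normalizes `H ⊔ N`
  have h3 : cj (y⁻¹ * g) (H ⊔ N) = H ⊔ N := by
    rw [cj_mul, hgx, cj_mul, cj_of_mem (Subgroup.mem_sup_right hn'), cj_inv_cj]
  obtain ⟨z, hz, hgz⟩ := h2 (y⁻¹ * g) (mem_normalizer_iff_cj.mpr h3)
  refine ⟨y * z, ?_, ?_⟩
  · apply Subgroup.mul_mem _ hy'
    have h4 : H ⊔ cj (y⁻¹ * g) H ≤ H ⊔ cj g H := by
      apply sup_le le_sup_left
      rw [cj_mul]
      exact cj_le_of_mem (Subgroup.inv_mem _ hy') le_sup_right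
    exact h4 hz
  · rw [cj_mul y z, ← hgz, ← cj_mul]
    congr 1
    group

section sylow

open Cfsg.Agent.Lib.Helper84_RelSylow

variable {p : ℕ}

/-- the intersection of a Sylow subgroup with a normal subgroup is a Sylow subgroup of it. -/
theorem isSylowIn_inf_normal [Finite G] [Fact p.Prime] (P : Sylow p G) (A : Subgroup G)
    [A.Normal] : IsSylowIn p ((P : Subgroup G) ⊓ A) A := by
  refine ⟨inf_le_right, P.isPGroup'.to_le inf_le_left, ?_⟩
  rw [Subgroup.inf_relIndex_right,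
    ← Cfsg.Agent.Lib.Helper72_SylowNum.relIndex_sup_eq' (P : Subgroup G) A]
  intro h
  exact P.not_dvd_index (h.trans (Subgroup.relIndex_dvd_index_of_le le_sup_left))

/-- two Sylow subgroups of `B` are conjugate under `B`. -/
theorem exists_cj_eq_of_isSylowIn [Finite G] [Fact p.Prime] {T T₂ B : Subgroup G}
    (h : IsSylowIn p T B) (h2 : IsSylowIn p T₂ B) : ∃ b ∈ B, cj b T₂ = T := by
  obtain ⟨b, hb, hbT⟩ := h.exists_conj_le h2.le h2.isPGroup
  refine ⟨b, hb, ?_⟩
  have h3 : IsSylowIn p (cj b T₂) B := by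
    have := h2.conj b
    change IsSylowIn p (cj b T₂) (cj b B) at this
    rwa [cj_of_mem hb] at this
  have h4 : cj b T₂ ≤ T := by
    rintro _ ⟨x, hx, rfl⟩
    exact hbT x hx
  exact (h3.eq_of_le h4 h.le h.isPGroup).symm

/-- Frattini argument, elementwise. -/
theorem exists_mul_mem_normalizer_of_isSylowIn [Finite G] [Fact p.Prime] {T B : Subgroup G}
    (h : IsSylowIn p T B) {g : G} (hg : g ∈ Subgroup.normalizer (B : Set G)) :
    ∃ b ∈ B, b * g ∈ Subgroup.normalizer (T : Set G) := by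
  have h2 : IsSylowIn p (cj g T) B := by
    have := h.conj g
    change IsSylowIn p (cj g T) (cj g B) at this
    rwa [mem_normalizer_iff_cj.mp hg] at this
  obtain ⟨b, hb, hbT⟩ := exists_cj_eq_of_isSylowIn h h2
  refine ⟨b, hb, ?_⟩
  rw [mem_normalizer_iff_cj, cj_mul, hbT]

/-- **Key step**: if `T` is a Sylow subgroup of the normal subgroup `A` contained in `K`,
`K ∩ A` is pronormal in `A` and `N_K(T)` is pronormal in `N_G(T)`, then `K` and `aKa⁻¹` are conjugate
in their join for all `a ∈ A`. -/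
theorem pronIn_normal_of_frattini [Finite G] [Fact p.Prime] (A : Subgroup G) [A.Normal]
    (T K : Subgroup G) (hTA : IsSylowIn p T A) (hTK : T ≤ K)
    (hB : PronIn (K ⊓ A) A)
    (hK₀ : PronIn (K ⊓ Subgroup.normalizer (T : Set G)) (Subgroup.normalizer (T : Set G))) :
    PronIn K A := by
  intro a ha
  have hTB : IsSylowIn p T (K ⊓ A) := hTA.mono (le_inf hTK hTA.le) inf_le_right
  have hKNB : K ≤ Subgroup.normalizer ((K ⊓ A : Subgroup G) : Set G) := by
    intro k hk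
    rw [mem_normalizer_iff_cj, cj_inf, cj_of_mem hk, cj_normal k A]
  -- step a: move `a` into the normalizer of `K ⊓ A`
  obtain ⟨y, hy, hay⟩ := hB a ha
  have hyJ : y ∈ K ⊔ cj a K := (sup_le_sup inf_le_left (cj_mono inf_le_left)) hy
  have hyA : y ∈ A := by
    have h1 : cj a (K ⊓ A) ≤ A := by
      have h2 : cj a (K ⊓ A) ≤ cj a A := cj_mono inf_le_right
      rwa [cj_normal a A] at h2
    exact (sup_le inf_le_right h1) hy
  have ha₁A : y⁻¹ * a ∈ A := A.mul_mem (A.inv_mem hyA) ha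
  have ha₁B : cj (y⁻¹ * a) (K ⊓ A) = K ⊓ A := by rw [cj_mul, hay, cj_inv_cj]
  -- step b: Frattini
  obtain ⟨b, hb, hbn⟩ :=
    exists_mul_mem_normalizer_of_isSylowIn hTB (mem_normalizer_iff_cj.mpr ha₁B)
  have hnB : cj (b * (y⁻¹ * a)) (K ⊓ A) = K ⊓ A := by rw [cj_mul, ha₁B, cj_of_mem hb]
  have huJ : y * b⁻¹ ∈ K ⊔ cj a K :=
    Subgroup.mul_mem _ hyJ (Subgroup.inv_mem _ (Subgroup.mem_sup_left hb.1))
  have hau : a = (y * b⁻¹) * (b * (y⁻¹ * a)) := by group
  -- step c: `K = (K ⊓ A) (K ⊓ N(T))`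
  have hKBK₀ : K = (K ⊓ A) ⊔ (K ⊓ Subgroup.normalizer (T : Set G)) := by
    apply le_antisymm
    · intro k hk
      obtain ⟨b', hb', hb'k⟩ := exists_mul_mem_normalizer_of_isSylowIn hTB (hKNB hk)
      have h1 : k = b'⁻¹ * (b' * k) := by group
      rw [h1]
      exact Subgroup.mul_mem _ (Subgroup.mem_sup_left (Subgroup.inv_mem _ hb'))
        (Subgroup.mem_sup_right ⟨K.mul_mem hb'.1 hk, hb'k⟩)
    · exact sup_le inf_le_left inf_le_left
  -- step d
  obtain ⟨x, hx, hnx⟩ := hK₀ (b * (y⁻¹ * a)) hbn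
  -- step e
  have hK₀NB : K ⊓ Subgroup.normalizer (T : Set G) ≤
      Subgroup.normalizer ((K ⊓ A : Subgroup G) : Set G) := inf_le_left.trans hKNB
  have hxNB : x ∈ Subgroup.normalizer ((K ⊓ A : Subgroup G) : Set G) := by
    have h1 : (K ⊓ Subgroup.normalizer (T : Set G)) ⊔
        cj (b * (y⁻¹ * a)) (K ⊓ Subgroup.normalizer (T : Set G)) ≤
        Subgroup.normalizer ((K ⊓ A : Subgroup G) : Set G) := by
      apply sup_le hK₀NB
      have h2 : cj (b * (y⁻¹ * a)) (K ⊓ Subgroup.normalizer (T : Set G)) ≤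
          cj (b * (y⁻¹ * a)) (Subgroup.normalizer ((K ⊓ A : Subgroup G) : Set G)) := cj_mono hK₀NB
      rwa [cj_normalizer, hnB] at h2
    exact h1 hx
  have hmK₀ : cj (x⁻¹ * (b * (y⁻¹ * a))) (K ⊓ Subgroup.normalizer (T : Set G)) =
      K ⊓ Subgroup.normalizer (T : Set G) := by rw [cj_mul, hnx, cj_inv_cj]
  have hmB : cj (x⁻¹ * (b * (y⁻¹ * a))) (K ⊓ A) = K ⊓ A := by
    rw [cj_mul, hnB]
    exact mem_normalizer_iff_cj.mp (Subgroup.inv_mem _ hxNB)
  have hmK : cj (x⁻¹ * (b * (y⁻¹ * a))) K = K := by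
    conv_lhs => rw [hKBK₀]
    rw [cj_sup, hmB, hmK₀, ← hKBK₀]
  have hnK : cj (b * (y⁻¹ * a)) K = cj x K := by
    have h1 : b * (y⁻¹ * a) = x * (x⁻¹ * (b * (y⁻¹ * a))) := by group
    rw [h1, cj_mul, hmK]
  -- conclusion
  refine ⟨(y * b⁻¹) * x, ?_, ?_⟩
  · apply Subgroup.mul_mem _ huJ
    have h1 : cj (b * (y⁻¹ * a)) K ≤ K ⊔ cj a K := by
      have h2 : b * (y⁻¹ * a) = (y * b⁻¹)⁻¹ * a := by group
      rw [h2, cj_mul]
      exact cj_le_of_mem (Subgroup.inv_mem _ huJ) le_sup_right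
    exact (sup_le (inf_le_left.trans le_sup_left) ((cj_mono inf_le_left).trans h1)) hx
  · conv_lhs => rw [hau]
    rw [cj_mul, hnK, ← cj_mul]

/-- reduction to conjugation by elements of the normal subgroup. -/
theorem isPronormal_of_pronIn_normal {K A : Subgroup G} [A.Normal] (h1 : IsPronormal (K ⊔ A))
    (hN : Subgroup.normalizer ((K ⊔ A : Subgroup G) : Set G) ≤ Subgroup.normalizer (K : Set G) ⊔ A)
    (h4 : PronIn K A) : IsPronormal K := by
  apply isPronormal_of_sup h1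
  intro g hg
  have hg' : g ∈ (((Subgroup.normalizer (K : Set G)) ⊔ A : Subgroup G) : Set G) := hN hg
  rw [Subgroup.mul_normal] at hg'
  obtain ⟨n, hn, a', ha', rfl⟩ := hg'
  have hn' : n ∈ Subgroup.normalizer (K : Set G) := hn
  have ha'' : a' ∈ A := ha'
  have h2 : cj (n * a') K = cj (n * a' * n⁻¹) K := by
    have h3 : n * a' = (n * a' * n⁻¹) * n := by group
    conv_lhs => rw [h3]
    rw [cj_mul, mem_normalizer_iff_cj.mp hn']
  rw [h2]
  exact h4 _ (Subgroup.Normal.conj_mem inferInstance a' ha'' n)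

end sylow

end Cfsg.Agent.Lib.Helper71_Pronormal
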