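import Mathlib
import Cfsg.Prelude.Def_HallClasses
import Cfsg.Agent.Lib.Helper71_Pronormal

/-!
# Pronormality criteria (helper67)

* `isPronormal_of_normalizer_le`: a subgroup containing the normalizer of a Sylow subgroup is
  pronormal.
* `isPronormal_of_isSylowIn_top`: Sylow subgroups are pronormal.
* `isPronormal_of_index_prime`: subgroups of prime index are pronormal.
* `isPronormal_of_normal`: normal subgroups are pronormal.
-/

set_option autoImplicit false

namespace Cfsg.Agent.Lib.Helper67_Pron1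

open Cfsg Cfsg.Agent.Lib.Helper33_Conj Cfsg.Agent.Lib.Helper84_RelSylow
  Cfsg.Agent.Lib.Helper71_Pronormal

variable {G : Type*} [Group G] {p : ℕ}

theorem isSylowIn_cj_sup [Fact p.Prime] {S H : Subgroup G} (hS : IsSylowIn p S ⊤) (hSH : S ≤ H)
    (g : G) : IsSylowIn p (cj g S) (H ⊔ cj g H) := by
  have h1 := hS.conj g
  have h2 : (⊤ : Subgroup G).map (MulAut.conj g).toMonoidHom = ⊤ := by
    rw [← MonoidHom.range_eq_map, MonoidHom.range_eq_top]
    exact (MulAut.conj g).surjective
  rw [h2] at h1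
  exact h1.mono ((cj_mono hSH).trans le_sup_right) le_top

/-- a subgroup containing the normalizer of a Sylow subgroup is pronormal. -/
theorem isPronormal_of_normalizer_le [Finite G] [Fact p.Prime] {S H : Subgroup G}
    (hS : IsSylowIn p S ⊤) (hSH : S ≤ H) (hN : Subgroup.normalizer (S : Set G) ≤ H) :
    IsPronormal H := by
  intro g
  have h1 : IsSylowIn p S (H ⊔ cj g H) := hS.mono (hSH.trans le_sup_left) le_top
  have h2 : IsSylowIn p (cj g S) (H ⊔ cj g H) := isSylowIn_cj_sup hS hSH g
  obtain ⟨b, hb, hbT⟩ := exists_cj_eq_of_isSylowIn h1 h2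
  have h3 : b * g ∈ H := hN (by rw [mem_normalizer_iff_cj, cj_mul, hbT])
  refine ⟨b⁻¹, Subgroup.inv_mem _ hb, ?_⟩
  show cj g H = cj b⁻¹ H
  have h4 : g = b⁻¹ * (b * g) := by group
  conv_lhs => rw [h4, cj_mul, cj_of_mem h3]

/-- Sylow subgroups are pronormal. -/
theorem isPronormal_of_isSylowIn_top [Finite G] [Fact p.Prime] {S : Subgroup G}
    (hS : IsSylowIn p S ⊤) : IsPronormal S := by
  intro g
  have h1 : IsSylowIn p S (S ⊔ cj g S) := hS.mono le_sup_left le_top
  have h2 : IsSylowIn p (cj g S) (S ⊔ cj g S) := isSylowIn_cj_sup hS le_rfl g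
  obtain ⟨b, hb, hbT⟩ := exists_cj_eq_of_isSylowIn h1 h2
  refine ⟨b⁻¹, Subgroup.inv_mem _ hb, ?_⟩
  show cj g S = cj b⁻¹ S
  conv_rhs => rw [← hbT]
  rw [cj_inv_cj]

/-- normal subgroups are pronormal. -/
theorem isPronormal_of_normal (H : Subgroup G) [H.Normal] : IsPronormal H := by
  intro g
  refine ⟨1, Subgroup.one_mem _, ?_⟩
  show cj g H = cj 1 H
  rw [cj_normal, cj_one]

/-- subgroups of prime index are pronormal. -/
theorem isPronormal_of_index_prime [Finite G] {H : Subgroup G} (hH : H.index.Prime) :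
    IsPronormal H := by
  intro g
  show ∃ x ∈ H ⊔ cj g H, cj g H = cj x H
  have h1 := Subgroup.relIndex_mul_index (le_sup_left : H ≤ H ⊔ cj g H)
  have h2 : (H ⊔ cj g H).index ∣ H.index := Dvd.intro_left _ h1
  rcases (Nat.dvd_prime hH).mp h2 with h | h
  · rw [Subgroup.index_eq_one] at h
    exact ⟨g, h ▸ Subgroup.mem_top g, rfl⟩
  · rw [h] at h1
    have h3 : H.relIndex (H ⊔ cj g H) = 1 := by
      have hpos : 0 < H.index := hH.pos
      exact Nat.eq_of_mul_eq_mul_right hpos (by rw [h1, one_mul])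
    rw [Subgroup.relIndex_eq_one] at h3
    have h4 : cj g H ≤ H := le_sup_right.trans h3
    have h5 : cj g H = H := by
      apply Subgroup.eq_of_le_of_card_ge h4
      rw [Subgroup.card_map_of_injective (MulAut.conj g).injective]
    exact ⟨1, Subgroup.one_mem _, by rw [h5, cj_one]⟩

end Cfsg.Agent.Lib.Helper67_Pron1
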