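import Mathlib
import Cfsg.Agent.Lib.Helper84_RelSylow
import Cfsg.Agent.Lib.Helper33_Conj

/-!
# Sylow 2-subgroups of symmetric and alternating groups: orbit counting (helper67)

`amb e α` is the symmetric (`e = false`) or alternating (`e = true`) group on `α`.
For a Sylow 2-subgroup `P` of `amb e α` we relate the orbit sizes of `P` with the
2-part of the degree, and restrict `P` to a point stabilizer.
-/

set_option autoImplicit false
set_option linter.unusedSectionVars false

namespace Cfsg.Agent.Lib.Helper67_Pron2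

open Equiv MulAction Cfsg.Agent.Lib.Helper84_RelSylow

universe u

section General

variable {G β : Type*} [Group G] [MulAction G β]

theorem dvd_card_of_forall_orbit [Fintype β] (d : ℕ)
    (h : ∀ b : β, d ∣ (orbit G b).ncard) : d ∣ Fintype.card β := by
  classical
  rw [Fintype.card_congr (selfEquivSigmaOrbits G β), Fintype.card_sigma]
  apply Finset.dvd_sum
  intro ω _
  rw [← Nat.card_eq_fintype_card, Nat.card_coe_set_eq]
  exact h _

/-- orbit sizes of a subgroup as a relative index. -/
theorem ncard_orbit_subgroup (P : Subgroup G) (b : β) :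
    (orbit P b).ncard = (stabilizer G b).relIndex P := by
  rw [← index_stabilizer, Subgroup.relIndex]
  congr 1

end General

section Arith

theorem arith_point {o m r n : ℕ} (hm : Odd m) (h : o * m = r * n) (hn : n ≠ 0) :
    2 ^ (n.factorization 2) ∣ o ∧ (o = 2 ^ (n.factorization 2) → ¬ 2 ∣ r) := by
  have hcop : Nat.Coprime (2 ^ (n.factorization 2)) m :=
    Nat.Coprime.pow_left _ (Nat.coprime_two_left.mpr hm)
  have h1 : 2 ^ (n.factorization 2) ∣ o * m := by
    rw [h]; exact Dvd.dvd.mul_left (Nat.ordProj_dvd n 2) r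
  refine ⟨hcop.dvd_of_dvd_mul_right h1, fun ho2 h2 => ?_⟩
  have h3 := Nat.ordProj_mul_ordCompl_eq_self n 2
  have h4 : ¬ 2 ∣ n / 2 ^ n.factorization 2 := Nat.not_dvd_ordCompl Nat.prime_two hn
  set q := 2 ^ n.factorization 2 with hq'
  set n' := n / q
  rw [ho2] at h
  have hq : 0 < q := by positivity
  have h5 : m = r * n' := by
    apply Nat.eq_of_mul_eq_mul_left hq
    rw [h, ← h3]; ring
  have h6 : 2 ∣ m := h5 ▸ Dvd.dvd.mul_right h2 _
  exact (Nat.not_even_iff_odd.mpr hm) (even_iff_two_dvd.mpr h6)

end Arith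

section Perm

variable {α : Type u} [Fintype α] [DecidableEq α]

/-- the symmetric (`e = false`) or alternating (`e = true`) group. -/
def amb (e : Bool) (α : Type u) [Fintype α] [DecidableEq α] : Subgroup (Perm α) :=
  if e then alternatingGroup α else ⊤

theorem amb_false : amb false α = ⊤ := rfl

theorem amb_true : amb true α = alternatingGroup α := rfl

theorem mem_amb {e : Bool} {g : Perm α} : g ∈ amb e α ↔ (e = true → Perm.sign g = 1) := by
  cases e
  · simp [amb_false]
  · simp [amb_true, Perm.mem_alternatingGroup]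

theorem relIndex_stabilizer_amb (e : Bool) (he : e = true → 3 ≤ Fintype.card α) (a : α) :
    (stabilizer (Perm α) a).relIndex (amb e α) = Fintype.card α := by
  rw [← ncard_orbit_subgroup]
  have : orbit (amb e α) a = Set.univ := by
    cases e
    · ext b
      simp only [Set.mem_univ, iff_true]
      exact ⟨⟨swap a b, by simp [amb_false]⟩, swap_apply_left a b⟩
    · have h3 : 3 ≤ Nat.card α := by rw [Nat.card_eq_fintype_card]; exact he rfl
      have := alternatingGroup.isPretransitive_of_three_le_card α h3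
      exact orbit_eq_univ (alternatingGroup α) a
  rw [this, Set.ncard_univ, Nat.card_eq_fintype_card]

/-- the fundamental orbit identity. -/
theorem orbit_mul_relIndex (e : Bool) (he : e = true → 3 ≤ Fintype.card α) {P : Subgroup (Perm α)}
    (hP : P ≤ amb e α) (a : α) :
    (orbit P a).ncard * P.relIndex (amb e α) =
      P.relIndex (amb e α ⊓ stabilizer (Perm α) a) * Fintype.card α := by
  set S := stabilizer (Perm α) a
  have h1 := Subgroup.relIndex_mul_relIndex (P ⊓ S) P (amb e α) inf_le_left hP
  have h2 := Subgroup.relIndex_mul_relIndex (P ⊓ S) (amb e α ⊓ S) (amb e α)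
    (inf_le_inf_right S hP) inf_le_left
  rw [Subgroup.inf_relIndex_left] at h1
  rw [Subgroup.inf_relIndex_left, relIndex_stabilizer_amb e he a] at h2
  have h3 : P ⊓ S = P ⊓ (amb e α ⊓ S) := by
    rw [← inf_assoc, inf_eq_left.mpr hP]
  have h4 : (P ⊓ S).relIndex (amb e α ⊓ S) = P.relIndex (amb e α ⊓ S) := by
    rw [h3, Subgroup.inf_relIndex_right]
  rw [h4] at h2
  rw [ncard_orbit_subgroup, h1, h2]

omit [DecidableEq α] in
theorem ncard_orbit_pow {P : Subgroup (Perm α)} (hP : IsPGroup 2 P) (a : α) :
    ∃ i, (orbit P a).ncard = 2 ^ i := by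
  have : Fact (Nat.Prime 2) := ⟨Nat.prime_two⟩
  obtain ⟨i, hi⟩ := hP.card_orbit a
  exact ⟨i, by rw [← hi, Nat.card_coe_set_eq]⟩

/-- extension by the identity from the complement of a point. -/
abbrev ext1 (a : α) : Perm {x // x ≠ a} →* Perm α := Perm.ofSubtype

theorem ext1_injective (a : α) : Function.Injective (ext1 a) := Perm.ofSubtype_injective

theorem ext1_apply_self (a : α) (f : Perm {x // x ≠ a}) : ext1 a f a = a :=
  Perm.ofSubtype_apply_of_not_mem f (by simp)

theorem sign_ext1 (a : α) (f : Perm {x // x ≠ a}) : Perm.sign (ext1 a f) = Perm.sign f :=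
  Perm.sign_ofSubtype f

theorem ne_iff_of_fix {g : Perm α} {a : α} (hg : g a = a) (x : α) : g x ≠ a ↔ x ≠ a := by
  constructor
  · intro h hx; exact h (hx ▸ hg)
  · intro h hx; exact h (g.injective (hx.trans hg.symm))

theorem ext1_subtypePerm {g : Perm α} {a : α} (hg : g a = a) :
    ext1 a (g.subtypePerm (ne_iff_of_fix hg)) = g := by
  apply Perm.ofSubtype_subtypePerm
  intro x hx h
  exact hx (h ▸ hg)

theorem comap_amb (e : Bool) (a : α) : (amb e α).comap (ext1 a) = amb e {x // x ≠ a} := by
  ext f
  rw [Subgroup.mem_comap, mem_amb, mem_amb, sign_ext1]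

theorem map_amb (e : Bool) (a : α) :
    (amb e {x // x ≠ a}).map (ext1 a) = amb e α ⊓ stabilizer (Perm α) a := by
  ext g
  rw [Subgroup.mem_map, Subgroup.mem_inf, mem_stabilizer_iff]
  constructor
  · rintro ⟨f, hf, rfl⟩
    refine ⟨?_, ext1_apply_self a f⟩
    rw [← comap_amb] at hf
    exact hf
  · rintro ⟨hg, hga⟩
    refine ⟨g.subtypePerm (ne_iff_of_fix hga), ?_, ext1_subtypePerm hga⟩
    rw [← comap_amb, Subgroup.mem_comap, ext1_subtypePerm hga]
    exact hg

theorem relIndex_comap_point (e : Bool) (P : Subgroup (Perm α)) (a : α) :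
    (P.comap (ext1 a)).relIndex (amb e {x // x ≠ a}) =
      P.relIndex (amb e α ⊓ stabilizer (Perm α) a) := by
  rw [Subgroup.relIndex_comap, map_amb]

/-- **Point step**: orbit sizes of a Sylow 2-subgroup are divisible by the 2-part of the degree,
and when equality holds the point stabilizer is a Sylow 2-subgroup one degree down. -/
theorem point_step (e : Bool) (he : e = true → 3 ≤ Fintype.card α) {P : Subgroup (Perm α)}
    (hP : IsSylowIn 2 P (amb e α)) (a : α) :
    2 ^ ((Fintype.card α).factorization 2) ∣ (orbit P a).ncard ∧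
    ((orbit P a).ncard = 2 ^ ((Fintype.card α).factorization 2) →
      IsSylowIn 2 (P.comap (ext1 a)) (amb e {x // x ≠ a})) := by
  have h := orbit_mul_relIndex e he hP.le a
  have hm : Odd (P.relIndex (amb e α)) := by
    rw [← Nat.not_even_iff_odd, even_iff_two_dvd]; exact hP.not_dvd
  have hn : Fintype.card α ≠ 0 := by
    have : Nonempty α := ⟨a⟩
    exact Fintype.card_ne_zero
  obtain ⟨h1, h2⟩ := arith_point hm h hn
  refine ⟨h1, fun ho => ⟨?_, hP.isPGroup.comap_of_injective _ (ext1_injective a), ?_⟩⟩
  · rw [← comap_amb]; exact Subgroup.comap_mono hP.le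
  · rw [relIndex_comap_point]; exact h2 ho

/-- some orbit has exactly the minimal size. -/
theorem exists_min_orbit (e : Bool) (he : e = true → 3 ≤ Fintype.card α) [Nonempty α]
    {P : Subgroup (Perm α)} (hP : IsSylowIn 2 P (amb e α)) :
    ∃ a : α, (orbit P a).ncard = 2 ^ ((Fintype.card α).factorization 2) := by
  by_contra hcon
  push Not at hcon
  have hn : Fintype.card α ≠ 0 := Fintype.card_ne_zero
  apply Nat.pow_succ_factorization_not_dvd hn Nat.prime_two
  apply dvd_card_of_forall_orbit (G := P)
  intro b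
  obtain ⟨i, hi⟩ := ncard_orbit_pow hP.isPGroup b
  have h1 := (point_step e he hP b).1
  rw [hi] at h1 ⊢
  have h2 : (Fintype.card α).factorization 2 ≤ i := (Nat.pow_dvd_pow_iff_le_right (by norm_num)).mp h1
  have h3 : (Fintype.card α).factorization 2 ≠ i := fun h => hcon b (by rw [hi, h])
  exact pow_dvd_pow 2 (by omega)

end Perm

end Cfsg.Agent.Lib.Helper67_Pron2
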