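import Mathlib
import Cfsg.Agent.Lib.Helper67_Pron2

/-!
# Sylow 2-subgroups of symmetric and alternating groups: invariant sets (helper67)
-/

set_option autoImplicit false
set_option linter.unusedSectionVars false

namespace Cfsg.Agent.Lib.Helper67_Pron3

open Equiv MulAction Cfsg.Agent.Lib.Helper84_RelSylow Cfsg.Agent.Lib.Helper67_Pron2
open scoped Pointwise

universe u

variable {α : Type u} [Fintype α] [DecidableEq α]

theorem index_stabilizer_set {G : Type*} [Group G] [MulAction G α]
    (hsub : ∀ k, IsPretransitive G (Set.powersetCard α k)) (s : Finset α) :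
    (stabilizer G (s : Set α)).index = (Fintype.card α).choose s.card := by
  have := hsub s.card
  let s' : Set.powersetCard α s.card := ⟨s, rfl⟩
  have h1 := index_stabilizer_of_transitive G s'
  rw [Set.powersetCard.stabilizer_coe, Set.powersetCard.card, Nat.card_eq_fintype_card] at h1
  exact h1

theorem relIndex_stabilizer_set (e : Bool) (he : e = true → 3 ≤ Fintype.card α) (s : Finset α) :
    (stabilizer (Perm α) (s : Set α)).relIndex (amb e α) = (Fintype.card α).choose s.card := by
  cases e
  · rw [amb_false, Subgroup.relIndex_top_right]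
    exact index_stabilizer_set (fun k => Set.powersetCard.isPretransitive) s
  · rw [amb_true, Subgroup.relIndex]
    have h3 : 3 ≤ Nat.card α := by rw [Nat.card_eq_fintype_card]; exact he rfl
    rw [← index_stabilizer_set (G := alternatingGroup α)
      (fun k => Set.powersetCard.isPretransitive_alternatingGroup h3) s]
    congr 1

/-- (T): an invariant set of a Sylow 2-subgroup has an odd binomial coefficient. -/
theorem odd_choose_of_invariant (e : Bool) (he : e = true → 3 ≤ Fintype.card α)
    {P : Subgroup (Perm α)} (hP : IsSylowIn 2 P (amb e α)) (s : Finset α)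
    (hs : P ≤ stabilizer (Perm α) (s : Set α)) : Odd ((Fintype.card α).choose s.card) := by
  rw [← relIndex_stabilizer_set e he s, ← Nat.not_even_iff_odd, even_iff_two_dvd]
  intro h
  exact hP.not_dvd (h.trans (Subgroup.relIndex_dvd_of_le_left _ hs))

/-- restriction of a subgroup of the set stabilizer to the set. -/
theorem res_general {G : Type*} [Group G] [MulAction G α] (U : Set α)
    (hsurj : Function.Surjective (toPermHom (stabilizer G U) U)) (H : Subgroup G)
    (hH : H ≤ stabilizer G U) (hodd : ¬ 2 ∣ H.index) (h2 : IsPGroup 2 H) :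
    IsSylowIn 2 ((H.subgroupOf (stabilizer G U)).map (toPermHom (stabilizer G U) U)) ⊤ := by
  refine ⟨le_top, (h2.comap_subtype).map _, ?_⟩
  rw [Subgroup.relIndex_top_right]
  intro h
  apply hodd
  refine (h.trans (Subgroup.index_map_dvd _ hsurj)).trans ?_
  exact Subgroup.relIndex_dvd_index_of_le hH

theorem mem_res_general {G : Type*} [Group G] [MulAction G α] (U : Set α) (H : Subgroup G)
    (q : Perm U) :
    q ∈ (H.subgroupOf (stabilizer G U)).map (toPermHom (stabilizer G U) U) ↔
      ∃ g ∈ H, ∀ x : U, (q x : α) = g • (x : α) := by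
  rw [Subgroup.mem_map]
  constructor
  · rintro ⟨x, hx, rfl⟩
    exact ⟨x.1, hx, fun u => rfl⟩
  · rintro ⟨g, hg, hq⟩
    have hgU : g ∈ stabilizer G U := by
      rw [mem_stabilizer_set_iff_smul_set_subset U.toFinite]
      rintro _ ⟨x, hx, rfl⟩
      have := hq ⟨x, hx⟩
      simp only at this
      show g • x ∈ U
      rw [← this]
      exact (q ⟨x, hx⟩).2
    refine ⟨⟨g, hgU⟩, hg, ?_⟩
    ext u
    exact (hq u).symm

/-- **Restriction**: the image of a Sylow 2-subgroup on an invariant set `U` is a Sylow
2-subgroup of the symmetric group on `U`. -/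
theorem exists_res_sylow (e : Bool) (U : Set α) (hU : e = true → Uᶜ.Nontrivial)
    {P : Subgroup (Perm α)} (hP : IsSylowIn 2 P (amb e α))
    (hPU : P ≤ stabilizer (Perm α) U) :
    ∃ Q : Subgroup (Perm U), IsSylowIn 2 Q ⊤ ∧
      ∀ q, q ∈ Q ↔ ∃ p ∈ P, ∀ x : U, (q x : α) = p x := by
  cases e
  · refine ⟨_, res_general (G := Perm α) U ?_ P hPU ?_ hP.isPGroup, fun q => ?_⟩
    · intro f
      obtain ⟨x, hx⟩ := Equiv.Perm.stabilizer.surjective_toPerm U f
      exact ⟨x, hx⟩
    · have := hP.not_dvd
      rwa [amb_false, Subgroup.relIndex_top_right] at this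
    · rw [mem_res_general]
      rfl
  · refine ⟨_, res_general (G := alternatingGroup α) U ?_ (P.subgroupOf (alternatingGroup α))
      ?_ hP.not_dvd (hP.isPGroup.comap_subtype), fun q => ?_⟩
    · intro f
      obtain ⟨x, hx⟩ := alternatingGroup.stabilizer.surjective_toPerm (hU rfl) f
      exact ⟨x, hx⟩
    · intro g hg
      rw [Subgroup.mem_subgroupOf] at hg
      have := hPU hg
      rw [mem_stabilizer_iff] at this ⊢
      exact this
    · rw [mem_res_general]
      constructor
      · rintro ⟨g, hg, hq⟩
        exact ⟨g.1, hg, hq⟩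
      · rintro ⟨p, hp, hq⟩
        exact ⟨⟨p, hP.le hp⟩, hp, hq⟩

/-- (T) for sets. -/
theorem odd_choose_of_invariant_set (e : Bool) (he : e = true → 3 ≤ Fintype.card α)
    {P : Subgroup (Perm α)} (hP : IsSylowIn 2 P (amb e α)) (s : Set α)
    (hs : P ≤ stabilizer (Perm α) s) : Odd ((Fintype.card α).choose s.ncard) := by
  have h := odd_choose_of_invariant e he hP s.toFinite.toFinset
    (by rw [Set.Finite.coe_toFinset]; exact hs)
  rwa [← Set.ncard_eq_toFinset_card s] at h

theorem subgroup_le_stabilizer_orbit (P : Subgroup (Perm α)) (a : α) :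
    P ≤ stabilizer (Perm α) (orbit P a) := by
  intro p hp
  rw [mem_stabilizer_iff]
  exact smul_orbit (⟨p, hp⟩ : P) a

theorem card_subtype_ne (a : α) : Fintype.card {x // x ≠ a} = Fintype.card α - 1 := by
  rw [Fintype.card_subtype_compl, Fintype.card_subtype_eq]

theorem even_choose_double {s : ℕ} (hs : 0 < s) : Even ((2 * s).choose s) := by
  rw [← Nat.centralBinom_eq_two_mul_choose, even_iff_two_dvd]
  exact Nat.two_dvd_centralBinom_of_one_le hs

/-- (F), case of fixed points: a Sylow 2-subgroup in odd degree fixes at most one point. -/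
theorem fixed_unique (e : Bool) (he : e = true → 4 ≤ Fintype.card α)
    {P : Subgroup (Perm α)} (hP : IsSylowIn 2 P (amb e α))
    (h0 : (Fintype.card α).factorization 2 = 0) (a b : α)
    (ha : ∀ p ∈ P, p a = a) (hb : ∀ p ∈ P, p b = b) : a = b := by
  by_contra hab
  have hoa : (orbit P a).ncard = 2 ^ ((Fintype.card α).factorization 2) := by
    rw [h0, pow_zero, Set.ncard_eq_one]
    refine ⟨a, Set.eq_singleton_iff_unique_mem.mpr ⟨mem_orbit_self a, ?_⟩⟩
    rintro _ ⟨p, rfl⟩
    exact ha p.1 p.2
  have he3 : e = true → 3 ≤ Fintype.card α := fun h => by have := he h; omega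
  have hP' := (point_step e he3 hP a).2 hoa
  have he3' : e = true → 3 ≤ Fintype.card {x // x ≠ a} := fun h => by
    have := he h; rw [card_subtype_ne]; omega
  let b' : {x // x ≠ a} := ⟨b, fun h => hab h.symm⟩
  have hob : (orbit (P.comap (ext1 a)) b').ncard = 1 := by
    rw [Set.ncard_eq_one]
    refine ⟨b', Set.eq_singleton_iff_unique_mem.mpr ⟨mem_orbit_self b', ?_⟩⟩
    rintro _ ⟨f, rfl⟩
    have h1 : ext1 a f.1 b = b := hb _ f.2
    have h2 : ext1 a f.1 b = f.1 b' := Perm.ofSubtype_apply_coe f.1 b'
    apply Subtype.ext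
    show ((f.1 b' : {x // x ≠ a}) : α) = b
    rw [← h2, h1]
  have h3 := (point_step e he3' hP' b').1
  rw [hob, Nat.dvd_one, Nat.pow_eq_one] at h3
  replace h3 : (Fintype.card {x // x ≠ a}).factorization 2 = 0 := by
    rcases h3 with h3 | h3
    · omega
    · exact h3
  rw [card_subtype_ne] at h3
  have hn : Fintype.card α ≠ 0 := by
    have : Nonempty α := ⟨a⟩
    exact Fintype.card_ne_zero
  have hn2 : 2 ≤ Fintype.card α := by
    have h1 : ({a, b} : Finset α).card = 2 := Finset.card_pair hab
    have h2 := Finset.card_le_univ ({a, b} : Finset α)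
    omega
  rcases (Nat.factorization_eq_zero_iff _ _).mp h0 with h | h | h
  · exact h Nat.prime_two
  · rcases (Nat.factorization_eq_zero_iff _ _).mp h3 with h' | h' | h'
    · exact h' Nat.prime_two
    · omega
    · omega
  · exact hn h

/-- (F), even case: the orbit of minimal size is unique. -/
theorem min_orbit_unique_even (e : Bool) (he : e = true → 3 ≤ Fintype.card α)
    {P : Subgroup (Perm α)} (hP : IsSylowIn 2 P (amb e α))
    (h0 : (Fintype.card α).factorization 2 ≠ 0) (a b : α)
    (ha : (orbit P a).ncard = 2 ^ ((Fintype.card α).factorization 2))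
    (hb : (orbit P b).ncard = 2 ^ ((Fintype.card α).factorization 2)) :
    b ∈ orbit P a := by
  classical
  by_contra hba
  set s := 2 ^ ((Fintype.card α).factorization 2) with hs
  have hs2 : 2 ≤ s := by
    have : 2 ^ 1 ≤ 2 ^ ((Fintype.card α).factorization 2) :=
      Nat.pow_le_pow_right (by norm_num) (by omega)
    simpa using this
  set U : Set α := (orbit P a)ᶜ with hU
  have hPU : P ≤ stabilizer (Perm α) U := by
    rw [hU, stabilizer_compl]; exact subgroup_le_stabilizer_orbit P a
  have hnt : Uᶜ.Nontrivial := by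
    rw [hU, compl_compl]
    exact Set.one_lt_ncard_iff_nontrivial.mp (by omega)
  obtain ⟨Q, hQ, hQmem⟩ := exists_res_sylow e U (fun _ => hnt) hP hPU
  have hdisj : orbit P b ⊆ U := by
    intro x hx hxa
    apply hba
    rw [← orbit_eq_iff] at hx hxa
    rw [← orbit_eq_iff, ← hx, hxa]
  set O₂ : Set U := Subtype.val ⁻¹' (orbit P b) with hO₂
  have hcard : O₂.ncard = s := by
    rw [← hb]
    exact Set.ncard_preimage_of_injective_subset_range Subtype.val_injective
      (by rwa [Subtype.range_coe])
  have hQO : Q ≤ stabilizer (Perm U) O₂ := by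
    intro q hq
    obtain ⟨p, hp, hqp⟩ := (hQmem q).mp hq
    rw [mem_stabilizer_set_iff_smul_set_subset O₂.toFinite]
    rintro _ ⟨x, hx, rfl⟩
    show ((q x : U) : α) ∈ orbit P b
    rw [hqp]
    have hx' : (x : α) ∈ orbit P b := hx
    rw [← orbit_eq_iff] at hx' ⊢
    rw [← hx']
    exact orbit_smul (⟨p, hp⟩ : P) (x : α)
  have h1 := odd_choose_of_invariant_set (α := U) false (by simp)
    (by rw [amb_false]; exact hQ) O₂ hQO
  have h2 := odd_choose_of_invariant_set e he hP (orbit P a) (subgroup_le_stabilizer_orbit P a)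
  rw [hcard] at h1
  rw [ha] at h2
  have hcU : Fintype.card U = Fintype.card α - s := by
    rw [← Nat.card_eq_fintype_card, Nat.card_coe_set_eq, hU, Set.ncard_compl, ha,
      Nat.card_eq_fintype_card]
  rw [hcU] at h1
  have h2s : 2 * s ≤ Fintype.card α := by
    have h3 : (orbit P a ∪ orbit P b).ncard = s + s := by
      rw [Set.ncard_union_eq, ha, hb]
      rw [Set.disjoint_left]
      intro x hxa hxb
      exact hdisj hxb hxa
    have h4 := Set.ncard_le_card (orbit P a ∪ orbit P b)
    rw [Nat.card_eq_fintype_card] at h4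
    omega
  have h5 := Nat.choose_mul (n := Fintype.card α) (k := 2 * s) (s := s) (by omega)
  have h6 : 2 * s - s = s := by omega
  rw [h6] at h5
  have h7 : Odd ((Fintype.card α).choose (2 * s) * (2 * s).choose s) := by
    rw [h5]; exact h2.mul h1
  have h8 := (Nat.odd_mul.mp h7).2
  exact (Nat.not_even_iff_odd.mpr h8) (even_choose_double (by omega))

/-- (F): the orbit of minimal size is unique. -/
theorem min_orbit_unique (e : Bool) (he : e = true → 4 ≤ Fintype.card α)
    {P : Subgroup (Perm α)} (hP : IsSylowIn 2 P (amb e α)) (a b : α)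
    (ha : (orbit P a).ncard = 2 ^ ((Fintype.card α).factorization 2))
    (hb : (orbit P b).ncard = 2 ^ ((Fintype.card α).factorization 2)) :
    b ∈ orbit P a := by
  by_cases h0 : (Fintype.card α).factorization 2 = 0
  · rw [h0, pow_zero, Set.ncard_eq_one] at ha hb
    obtain ⟨a', ha'⟩ := ha
    obtain ⟨b', hb'⟩ := hb
    have haa : a = a' := by
      have := mem_orbit_self (M := P) a
      rwa [ha', Set.mem_singleton_iff] at this
    have hbb : b = b' := by
      have := mem_orbit_self (M := P) b
      rwa [hb', Set.mem_singleton_iff] at this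
    subst haa
    subst hbb
    have hfa : ∀ p ∈ P, p a = a := fun p hp => by
      have : (⟨p, hp⟩ : P) • a ∈ orbit P a := mem_orbit a _
      rwa [ha', Set.mem_singleton_iff] at this
    have hfb : ∀ p ∈ P, p b = b := fun p hp => by
      have : (⟨p, hp⟩ : P) • b ∈ orbit P b := mem_orbit b _
      rwa [hb', Set.mem_singleton_iff] at this
    rw [fixed_unique e he hP h0 a b hfa hfb]
    exact mem_orbit_self b
  · exact min_orbit_unique_even e (fun h => by have := he h; omega) hP h0 a b ha hb

end Cfsg.Agent.Lib.Helper67_Pron3
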