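import Mathlib
import Cfsg.Agent.Lib.Helper67_Pron3

/-!
# Normalizers of Sylow 2-subgroups of symmetric and alternating groups are 2-groups (helper67)
-/

set_option autoImplicit false
set_option linter.unusedSectionVars false

namespace Cfsg.Agent.Lib.Helper67_Pron4

open Equiv MulAction Cfsg.Agent.Lib.Helper84_RelSylow Cfsg.Agent.Lib.Helper67_Pron2
  Cfsg.Agent.Lib.Helper67_Pron3
open scoped Pointwise

universe u

section General

variable {G : Type*} [Group G]

/-- one-sided normalizing condition. -/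
def Nzes (y : G) (P : Subgroup G) : Prop := ∀ p ∈ P, y * p * y⁻¹ ∈ P

theorem Nzes.inv [Finite G] {y : G} {P : Subgroup G} (h : Nzes y P) : Nzes y⁻¹ P := by
  intro p hp
  let f : P → P := fun q => ⟨y * q * y⁻¹, h q q.2⟩
  have hf : Function.Injective f := by
    intro q q' hqq
    have : y * q * y⁻¹ = y * q' * y⁻¹ := congrArg Subtype.val hqq
    apply Subtype.ext
    simpa using this
  obtain ⟨q, hq⟩ := (Finite.injective_iff_surjective.mp hf) ⟨p, hp⟩
  have h1 : y * q * y⁻¹ = p := congrArg Subtype.val hq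
  have h2 : y⁻¹ * p * y⁻¹⁻¹ = q := by rw [← h1]; group
  rw [h2]; exact q.2

theorem Nzes.mul {y z : G} {P : Subgroup G} (hy : Nzes y P) (hz : Nzes z P) : Nzes (y * z) P := by
  intro p hp
  have := hy _ (hz p hp)
  have h2 : y * z * p * (y * z)⁻¹ = y * (z * p * z⁻¹) * y⁻¹ := by group
  rw [h2]; exact this

theorem nzes_of_mem {y : G} {P : Subgroup G} (hy : y ∈ P) : Nzes y P :=
  fun _ hp => P.mul_mem (P.mul_mem hy hp) (P.inv_mem hy)

theorem Nzes.mem_normalizer [Finite G] {y : G} {P : Subgroup G} (h : Nzes y P) :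
    y ∈ Subgroup.normalizer (P : Set G) := by
  rw [Subgroup.mem_normalizer_iff]
  intro p
  refine ⟨h p, fun hp => ?_⟩
  have := h.inv _ hp
  convert this using 1
  group

theorem isPGroup_zpowers {y : G} {k : ℕ} (hk : y ^ (2 ^ k) = 1) :
    IsPGroup 2 (Subgroup.zpowers y) := by
  rintro ⟨g, hg⟩
  obtain ⟨j, rfl⟩ := Subgroup.mem_zpowers_iff.mp hg
  refine ⟨k, Subtype.ext ?_⟩
  show (y ^ j) ^ (2 ^ k) = 1
  rw [← zpow_natCast, ← zpow_mul, mul_comm, zpow_mul, zpow_natCast, hk, one_zpow]

/-- a product of an element of a 2-group `P` and a 2-element normalizing `P` is a 2-element. -/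
theorem two_elt_mul [Finite G] {P : Subgroup G} (hP : IsPGroup 2 P) {p y : G} (hp : p ∈ P)
    (hy : Nzes y P) {k : ℕ} (hk : y ^ (2 ^ k) = 1) : ∃ k', (p * y) ^ (2 ^ k') = 1 := by
  have hz : IsPGroup 2 (Subgroup.zpowers y) := isPGroup_zpowers hk
  have hle : Subgroup.zpowers y ≤ Subgroup.normalizer (P : Set G) := by
    rw [Subgroup.zpowers_le]; exact hy.mem_normalizer
  have hsup := hz.to_sup_of_normal_right' hP hle
  have hmem : p * y ∈ Subgroup.zpowers y ⊔ P :=
    Subgroup.mul_mem _ (Subgroup.mem_sup_right hp)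
      (Subgroup.mem_sup_left (Subgroup.mem_zpowers y))
  obtain ⟨k', hk'⟩ := hsup ⟨p * y, hmem⟩
  exact ⟨k', congrArg Subtype.val hk'⟩

end General

section Perm

variable {α : Type u} [Fintype α] [DecidableEq α]

/-- a normalizing permutation maps orbits to orbits. -/
theorem orbit_apply_eq_image {y : Perm α} {P : Subgroup (Perm α)} (hy : Nzes y P) (a : α) :
    orbit P (y a) = y '' (orbit P a) := by
  ext x
  constructor
  · rintro ⟨⟨p, hp⟩, rfl⟩
    refine ⟨(y⁻¹ * p * y) a, ⟨⟨y⁻¹ * p * y, ?_⟩, rfl⟩, ?_⟩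
    · have := hy.inv p hp
      rwa [inv_inv] at this
    · simp [Perm.mul_apply]
  · rintro ⟨_, ⟨⟨p, hp⟩, rfl⟩, rfl⟩
    refine ⟨⟨y * p * y⁻¹, hy p hp⟩, ?_⟩
    show (y * p * y⁻¹) (y a) = y (p a)
    simp [Perm.mul_apply]

theorem ncard_orbit_apply {y : Perm α} {P : Subgroup (Perm α)} (hy : Nzes y P) (a : α) :
    (orbit P (y a)).ncard = (orbit P a).ncard := by
  rw [orbit_apply_eq_image hy, Set.ncard_image_of_injective _ y.injective]

/-- transfer of the normalizing condition to a point stabilizer. -/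
theorem nzes_point {y : Perm α} {P : Subgroup (Perm α)} (hy : Nzes y P) {a : α} (hya : y a = a) :
    Nzes (y.subtypePerm (ne_iff_of_fix hya)) (P.comap (ext1 a)) := by
  intro f hf
  rw [Subgroup.mem_comap] at hf ⊢
  rw [map_mul, map_mul, map_inv, ext1_subtypePerm hya]
  exact hy _ hf

/-- transfer of the normalizing condition to an invariant set. -/
theorem nzes_res {y : Perm α} {P : Subgroup (Perm α)} (hy : Nzes y P) {U : Set α}
    (hyU : ∀ x, y x ∈ U ↔ x ∈ U) {Q : Subgroup (Perm U)}
    (hQ : ∀ q, q ∈ Q ↔ ∃ p ∈ P, ∀ x : U, (q x : α) = p x) :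
    Nzes (y.subtypePerm hyU) Q := by
  intro q hq
  obtain ⟨p, hp, hqp⟩ := (hQ q).mp hq
  refine (hQ _).mpr ⟨y * p * y⁻¹, hy p hp, fun x => ?_⟩
  simp only [Perm.mul_apply, Perm.subtypePerm_apply]
  rw [hqp]
  congr 2

/-- a permutation fixing all but two points squares to the identity. -/
theorem sq_eq_one_of_fix {z : Perm α} {O : Set α} (hO : O.ncard = 2)
    (hfix : ∀ x ∉ O, z x = x) : z ^ 2 = 1 := by
  obtain ⟨a, b, hab, rfl⟩ := Set.ncard_eq_two.mp hO
  have hmem : ∀ x, x ∈ ({a, b} : Set α) → z x ∈ ({a, b} : Set α) := by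
    intro x hx
    by_contra h
    have h1 := hfix _ h
    have h2 := z.injective h1
    exact h (by rw [h2]; exact hx)
  have ha := hmem a (by simp)
  have hb := hmem b (by simp)
  simp only [Set.mem_insert_iff, Set.mem_singleton_iff] at ha hb
  ext x
  rw [pow_two, Perm.mul_apply, Perm.one_apply]
  by_cases hx : x ∈ ({a, b} : Set α)
  · simp only [Set.mem_insert_iff, Set.mem_singleton_iff] at hx
    rcases hx with rfl | rfl
    · rcases ha with h | h
      · rw [h, h]
      · rw [h]
        rcases hb with h' | h'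
        · exact h'
        · exact absurd (z.injective (h.trans h'.symm)) hab
    · rcases hb with h | h
      · rw [h]
        rcases ha with h' | h'
        · exact absurd (z.injective (h.trans h'.symm)) (Ne.symm hab)
        · exact h'
      · rw [h, h]
  · rw [hfix x hx, hfix x hx]

theorem factorization_six : (6 : ℕ).factorization 2 = 1 := by
  rw [Nat.factorization_def _ Nat.prime_two]
  have : (6 : ℕ) = 2 ^ 1 * 3 := by norm_num
  rw [this, padicValNat.mul (by norm_num) (by norm_num), padicValNat.prime_pow]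
  simp [padicValNat.eq_zero_of_not_dvd]

end Perm

/-- **Main theorem**: a permutation normalizing a Sylow 2-subgroup of the symmetric group, or of
the alternating group of degree at least 6, is a 2-element. -/
theorem normalizer_two (m : ℕ) : ∀ (α : Type u) [Fintype α] [DecidableEq α], Fintype.card α = m →
    ∀ (e : Bool), (e = true → 6 ≤ m) → ∀ (P : Subgroup (Perm α)), IsSylowIn 2 P (amb e α) →
    ∀ y : Perm α, Nzes y P → ∃ k, y ^ (2 ^ k) = 1 := by
  induction m using Nat.strong_induction_on with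
  | _ m ih =>
  intro α _ _ hm e he P hP y hy
  rcases Nat.eq_zero_or_pos m with h0 | hpos
  · have : IsEmpty α := Fintype.card_eq_zero_iff.mp (hm.trans h0)
    exact ⟨0, Subsingleton.elim _ _⟩
  have hne : Nonempty α := Fintype.card_pos_iff.mp (hm ▸ hpos)
  have he3 : e = true → 3 ≤ Fintype.card α := fun h => by have := he h; omega
  have he4 : e = true → 4 ≤ Fintype.card α := fun h => by have := he h; omega
  obtain ⟨a, ha⟩ := exists_min_orbit e he3 hP
  have hya : y a ∈ orbit P a :=
    min_orbit_unique e he4 hP a (y a) ha (by rw [ncard_orbit_apply hy, ha])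
  obtain ⟨⟨p, hp⟩, hpa⟩ := hya
  have hpa' : p a = y a := hpa
  have hy'a : (p⁻¹ * y) a = a := by
    rw [Perm.mul_apply, ← hpa']; simp
  have hy' : Nzes (p⁻¹ * y) P := (nzes_of_mem (P.inv_mem hp)).mul hy
  suffices h : ∃ k, (p⁻¹ * y) ^ (2 ^ k) = 1 by
    obtain ⟨k, hk⟩ := h
    have := two_elt_mul hP.isPGroup hp hy' hk
    rwa [mul_inv_cancel_left] at this
  by_cases h6 : e = true ∧ m = 6
  · -- base case: restrict to the complement of the orbit of size two
    obtain ⟨rfl, rfl⟩ := h6
    classical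
    rw [hm, factorization_six, pow_one] at ha
    set y' := p⁻¹ * y with hy'def
    set U : Set α := (orbit P a)ᶜ with hU
    have hPU : P ≤ stabilizer (Perm α) U := by
      rw [hU, stabilizer_compl]; exact subgroup_le_stabilizer_orbit P a
    have hnt : Uᶜ.Nontrivial := by
      rw [hU, compl_compl]
      exact Set.one_lt_ncard_iff_nontrivial.mp (by omega)
    obtain ⟨Q, hQ, hQmem⟩ := exists_res_sylow true U (fun _ => hnt) hP hPU
    have hyO : ∀ x, y' x ∈ orbit P a ↔ x ∈ orbit P a := by
      have himg : y' '' (orbit P a) = orbit P a := by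
        rw [← orbit_apply_eq_image hy', hy'a]
      intro x
      constructor
      · intro hx
        rw [← himg] at hx
        obtain ⟨x', hx', hxx⟩ := hx
        rwa [← y'.injective hxx]
      · intro hx
        rw [← himg]
        exact ⟨x, hx, rfl⟩
    have hyU : ∀ x, y' x ∈ U ↔ x ∈ U := fun x => by
      rw [hU, Set.mem_compl_iff, Set.mem_compl_iff, hyO]
    have hcU : Fintype.card U = 4 := by
      rw [← Nat.card_eq_fintype_card, Nat.card_coe_set_eq, hU, Set.ncard_compl, ha,
        Nat.card_eq_fintype_card, hm]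
    obtain ⟨k, hk⟩ := ih 4 (by norm_num) U hcU false (by simp) Q
      (by rw [amb_false]; exact hQ) (y'.subtypePerm hyU) (nzes_res hy' hyU hQmem)
    refine ⟨k + 1, ?_⟩
    rw [pow_succ, pow_mul]
    apply sq_eq_one_of_fix ha
    intro x hx
    have hxU : x ∈ U := hx
    rw [Perm.subtypePerm_pow] at hk
    have := congrArg (fun f : Perm U => ((f ⟨x, hxU⟩ : U) : α)) hk
    simpa using this
  · -- point step
    have hP' := (point_step e he3 hP a).2 ha
    have hm' : Fintype.card {x // x ≠ a} = m - 1 := by rw [card_subtype_ne, hm]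
    obtain ⟨k, hk⟩ := ih (m - 1) (by omega) {x // x ≠ a} hm' e
      (fun h => by
        have := he h
        have : m ≠ 6 := fun h' => h6 ⟨h, h'⟩
        omega) _ hP' _ (nzes_point hy' hy'a)
    refine ⟨k, ?_⟩
    rw [← ext1_subtypePerm hy'a, ← map_pow, hk, map_one]

end Cfsg.Agent.Lib.Helper67_Pron4
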