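import Mathlib
import Cfsg.Agent.Lib.Helper97_SpTensBasic
import Cfsg.Agent.Lib.Helper73_Tens_TP2

set_option autoImplicit false
set_option linter.unusedSectionVars false
set_option linter.unusedVariables false

/-!
# SP3 package NOEX: a Kronecker isometry conjugate to a root element `1 + c N_x` is a root element
-/

namespace Cfsg.Agent.Lib.Helper67_SP3_NOEX

open Matrix Module
open Cfsg.Agent.Lib.Helper98_ExtDefs Cfsg.Agent.Lib.Helper97_TensDefs
  Cfsg.Agent.Lib.Helper97_SpTensDefs Cfsg.Agent.Lib.Helper97_SpTensBasic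
  Cfsg.Agent.Lib.Helper13_Symp Cfsg.Agent.Lib.Helper13_SympTrans

variable {F : Type*} [Field F] [Fintype F] {m : ℕ}

local notation "V" => Matrix (Fin m ⊕ Fin m) (Fin 3) F

/-- a vector of `F^3` which is not a multiple of `y` is separated from `y` by a functional -/
theorem exists_dot (y w : Fin 3 → F) (h : ∀ a : F, w ≠ a • y) :
    ∃ η : Fin 3 → F, y ⬝ᵥ η = 0 ∧ w ⬝ᵥ η ≠ 0 := by
  by_contra hcon
  push Not at hcon
  by_cases hy : y = 0
  · apply h 0
    rw [hy, smul_zero]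
    funext j
    have := hcon (Pi.single j 1) (by rw [hy, zero_dotProduct])
    simpa using this
  · obtain ⟨k, hk⟩ : ∃ k, y k ≠ 0 := by
      by_contra hc
      push Not at hc
      exact hy (funext hc)
    apply h (w k / y k)
    funext j
    have h1 : y ⬝ᵥ (y k • Pi.single j 1 - y j • Pi.single k 1) = 0 := by
      simp [dotProduct_sub, mul_comm]
    have h2 := hcon _ h1
    simp only [dotProduct_sub, dotProduct_smul, dotProduct_single, mul_one, smul_eq_mul] at h2
    simp only [Pi.smul_apply, smul_eq_mul]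
    field_simp
    linear_combination h2

/-- a `be`-skew square-zero operator on `F^3` vanishes -/
theorem skew_sq_zero (h2 : (2 : F) ≠ 0) (R : Matrix (Fin 3) (Fin 3) F)
    (hS : ∀ y y' : Fin 3 → F, be (R *ᵥ y) y' + be y (R *ᵥ y') = 0)
    (hN : ∀ y : Fin 3 → F, R *ᵥ (R *ᵥ y) = 0) : R = 0 := by
  have e00 := hS e0 e0
  have e11 := hS e1 e1
  have e22 := hS e2 e2
  have e01 := hS e0 e1
  have e02 := hS e0 e2
  have e12 := hS e1 e2
  simp only [be, e0, e1, e2, Matrix.mulVec, dotProduct, Fin.sum_univ_three, Matrix.cons_val_zero,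
    Matrix.cons_val_one, Matrix.cons_val_two, Matrix.head_cons, Matrix.tail_cons,
    mul_one, mul_zero, add_zero, zero_add, one_mul, zero_mul] at e00 e11 e22 e01 e02 e12
  have n02 := congrFun (hN e2) 0
  have n20 := congrFun (hN e0) 2
  have n00 := congrFun (hN e0) 0
  simp only [e0, e2, Matrix.mulVec, dotProduct, Fin.sum_univ_three, Matrix.cons_val_zero,
    Matrix.cons_val_one, Matrix.cons_val_two, Matrix.head_cons, Matrix.tail_cons,
    mul_one, mul_zero, add_zero, zero_add, Pi.zero_apply] at n02 n20 n00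
  have r20 : R 2 0 = 0 := by
    have : (2 : F) * R 2 0 = 0 := by linear_combination e00
    exact (mul_eq_zero.mp this).resolve_left h2
  have r11 : R 1 1 = 0 := by
    have : (2 : F) * R 1 1 = 0 := by linear_combination e11
    exact (mul_eq_zero.mp this).resolve_left h2
  have r02 : R 0 2 = 0 := by
    have : (2 : F) * R 0 2 = 0 := by linear_combination e22
    exact (mul_eq_zero.mp this).resolve_left h2
  have r01 : R 0 1 = 0 := by
    have : R 0 1 * R 0 1 = 0 := by linear_combination (-1 : F) * n02 + R 0 0 * r02 + R 0 1 * e12 + R 2 2 * r02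
    exact mul_self_eq_zero.mp this
  have r10 : R 1 0 = 0 := by
    have : R 1 0 * R 1 0 = 0 := by linear_combination (-1 : F) * n20 + R 0 0 * r20 + R 1 0 * e01 + R 2 2 * r20
    exact mul_self_eq_zero.mp this
  have r00 : R 0 0 = 0 := by
    have : R 0 0 * R 0 0 = 0 := by linear_combination n00 - R 0 1 * r10 - R 0 2 * r20
    exact mul_self_eq_zero.mp this
  have r12 : R 1 2 = 0 := by linear_combination e12 - r01
  have r21 : R 2 1 = 0 := by linear_combination e01 - r10
  have r22 : R 2 2 = 0 := by linear_combination e02 - r00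
  ext i j
  fin_cases i <;> fin_cases j <;> simp [r00, r01, r02, r10, r11, r12, r20, r21, r22]

/-- the identity map is forced by trivial action on pure tensors -/
theorem eq_self_of_pure (t : V ≃ₗ[F] V)
    (h : ∀ (x : Fin m ⊕ Fin m → F) (y : Fin 3 → F), t (vecMulVec x y) = vecMulVec x y) (X : V) :
    t X = X := by
  conv_lhs => rw [eq_sum_cols X]
  rw [map_add, map_add, h, h, h, ← eq_sum_cols X]

/-- **NOEX**. -/
theorem noex (h2 : (2 : F) ≠ 0) (t g₀ : V ≃ₗ[F] V) (ht : IsKron t)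
    (hsp : ∀ X Y, tf m (t X) (t Y) = tf m X Y)
    (x₁ : Fin m ⊕ Fin m → F) (hx₁ : x₁ ≠ 0) (c : F) (hc : c ≠ 0)
    (hconj : ∀ X, t (g₀ X) = g₀ (X + c • nA m x₁ X)) :
    ∃ x₃ : Fin m ⊕ Fin m → F, x₃ ≠ 0 ∧ ∃ c' : F, ∀ X, t X = X + c' • nA m x₃ X := by
  obtain ⟨P, Q, hPQ⟩ := ht
  -- a partner `x'` of `x₁`
  obtain ⟨x', hx'⟩ : ∃ x' : Fin m ⊕ Fin m → F, Cfsg.sympForm m F x' x₁ = 1 := by
    obtain ⟨w₀, hw₀⟩ := exists_sympForm_ne_zero m hx₁
    have hw₀' : Cfsg.sympForm m F w₀ x₁ ≠ 0 := by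
      rw [sympForm_swap]; exact neg_ne_zero.mpr hw₀
    refine ⟨(Cfsg.sympForm m F w₀ x₁)⁻¹ • w₀, ?_⟩
    rw [sympForm_smul_left, inv_mul_cancel₀ hw₀']
  -- `(t - 1)^2 = 0`
  have hquad : ∀ Y, t (t Y) = (2 : F) • t Y - Y := by
    intro Y
    obtain ⟨X, rfl⟩ := g₀.surjective Y
    rw [hconj, hconj]
    simp only [map_add, map_smul, nA_nA, smul_zero, add_zero]
    module
  -- the range of `t - 1`
  have hL1 : ∀ Y, t Y - Y ∈ (bfib x₁).map g₀.toLinearMap := by
    intro Y
    obtain ⟨X, rfl⟩ := g₀.surjective Y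
    rw [hconj]
    refine ⟨c • nA m x₁ X, (bfib x₁).smul_mem c (nA_mem_bfib x₁ X), ?_⟩
    simp only [LinearEquiv.coe_coe, map_add, map_smul]
    abel
  -- `t ≠ 1`
  have hne : ∃ Y, t Y ≠ Y := by
    refine ⟨g₀ (vecMulVec x' e0), fun h => ?_⟩
    rw [hconj] at h
    have h' := g₀.injective h
    rw [nA_vecMulVec, hx', one_smul] at h'
    have h'' : c • vecMulVec x₁ (e0 : Fin 3 → F) = 0 := by
      have := h'
      rwa [add_eq_left] at this
    have h3 : vecMulVec x₁ (e0 : Fin 3 → F) = 0 := by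
      rcases smul_eq_zero.mp h'' with h4 | h4
      · exact absurd h4 hc
      · exact h4
    exact e0_ne_zero (vecMulVec_eq_zero_left hx₁ h3)
  have hpure : ∀ (x : Fin m ⊕ Fin m → F) (y : Fin 3 → F),
      t (vecMulVec x y) = vecMulVec (P *ᵥ x) (Q *ᵥ y) := by
    intro x y
    rw [hPQ, kron_vecMulVec]
  have hPinj : ∀ x : Fin m ⊕ Fin m → F, P *ᵥ x = 0 → x = 0 := by
    intro x hx
    have h0 : t (vecMulVec x (e0 : Fin 3 → F)) = 0 := by
      rw [hpure, hx, zero_vecMulVec]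
    have h1 : vecMulVec x (e0 : Fin 3 → F) = 0 := by
      have := t.injective (h0.trans (map_zero t).symm)
      exact this
    exact (Cfsg.Agent.Lib.Helper97_TensBasic.vecMulVec_eq_zero_iff e0_ne_zero).mp h1
  have hstar : ∀ (x : Fin m ⊕ Fin m → F) (y η : Fin 3 → F),
      ((Q *ᵥ (Q *ᵥ y)) ⬝ᵥ η) • (P *ᵥ (P *ᵥ x))
        = ((2 : F) * ((Q *ᵥ y) ⬝ᵥ η)) • (P *ᵥ x) - (y ⬝ᵥ η) • x := by
    intro x y η
    have h := hquad (vecMulVec x y)
    rw [hpure, hpure] at h
    have h' := congrArg (fun Z : V => Z *ᵥ η) h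
    simp only [Matrix.sub_mulVec, Matrix.smul_mulVec,
      Cfsg.Agent.Lib.Helper97_TensBasic.vecMulVec_mulVec'] at h'
    rw [h', smul_smul]
  by_cases hQ : ∀ y : Fin 3 → F, ∃ a : F, Q *ᵥ y = a • y
  · -- Case B: `Q` is scalar
    obtain ⟨μ, rfl⟩ := Cfsg.Agent.Lib.Helper73_Tens_TP2.scalar_of_forall_eigen Q hQ
    have htX : ∀ X : V, t X = (μ • P) * X := by
      intro X
      rw [hPQ, transpose_smul, transpose_one, Matrix.mul_smul, Matrix.mul_one, Matrix.smul_mul]
    set R₁ : Matrix (Fin m ⊕ Fin m) (Fin m ⊕ Fin m) F := μ • P - 1 with hR₁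
    have hR : ∀ X : V, t X - X = R₁ * X := by
      intro X
      rw [htX, hR₁, Matrix.sub_mul, Matrix.one_mul]
    have hR1 : ∀ (a : Fin m ⊕ Fin m → F) (y : Fin 3 → F),
        t (vecMulVec a y) - vecMulVec a y = vecMulVec (R₁ *ᵥ a) y := by
      intro a y
      rw [hR, mul_vecMulVec]
    obtain ⟨a, ha⟩ : ∃ a : Fin m ⊕ Fin m → F, R₁ *ᵥ a ≠ 0 := by
      by_contra hcon
      push Not at hcon
      have hR0 : R₁ = 0 := by
        ext i j
        have := congrFun (hcon (Pi.single j 1)) i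
        rw [mulVec_single_one] at this
        simpa using this
      obtain ⟨Y, hY⟩ := hne
      apply hY
      have := hR Y
      rw [hR0, Matrix.zero_mul] at this
      exact sub_eq_zero.mp this
    set x₃ := R₁ *ᵥ a with hx₃
    have hle : bfib x₃ ≤ (bfib x₁).map g₀.toLinearMap := by
      rintro Z ⟨y, rfl⟩
      rw [← hR1 a y]
      exact hL1 _
    have heq : bfib x₃ = (bfib x₁).map g₀.toLinearMap :=
      Submodule.eq_of_le_of_finrank_eq hle (by rw [finrank_bfib ha, finrank_map_bfib g₀ hx₁])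
    have hprop : ∀ a' : Fin m ⊕ Fin m → F, ∃ l : F, R₁ *ᵥ a' = l • x₃ := by
      intro a'
      have hmem : vecMulVec (R₁ *ᵥ a') (e1 : Fin 3 → F) ∈ bfib x₃ := by
        rw [heq, ← hR1]
        exact hL1 _
      obtain ⟨y, hy⟩ := hmem
      refine ⟨y 1, ?_⟩
      funext i
      have := congrFun (congrFun hy i) 1
      have he : (e1 : Fin 3 → F) 1 = 1 := by simp [e1]
      rw [vecMulVec_apply, vecMulVec_apply, he, mul_one] at this
      rw [this, Pi.smul_apply, smul_eq_mul, mul_comm]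
    obtain ⟨b₀, hb₀⟩ : ∃ b₀ : Fin m ⊕ Fin m → F, Cfsg.sympForm m F x₃ b₀ = 1 := by
      obtain ⟨w₀, hw₀⟩ := exists_sympForm_ne_zero m ha
      refine ⟨(Cfsg.sympForm m F x₃ w₀)⁻¹ • w₀, ?_⟩
      rw [sympForm_smul_right, inv_mul_cancel₀ hw₀]
    have hφ : ∀ a' : Fin m ⊕ Fin m → F, R₁ *ᵥ a' = Cfsg.sympForm m F (R₁ *ᵥ a') b₀ • x₃ := by
      intro a'
      obtain ⟨l, hl⟩ := hprop a'
      rw [hl, sympForm_smul_left, hb₀, mul_one]
    have hskew : ∀ a' b' : Fin m ⊕ Fin m → F,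
        Cfsg.sympForm m F (R₁ *ᵥ a') b' + Cfsg.sympForm m F a' (R₁ *ᵥ b') = 0 := by
      intro a' b'
      have h := hsp (vecMulVec a' e1) (vecMulVec b' e1)
      have e1 : ∀ a'' : Fin m ⊕ Fin m → F,
          t (vecMulVec a'' (e1 : Fin 3 → F)) = vecMulVec (a'' + R₁ *ᵥ a'') e1 := by
        intro a''
        rw [add_vecMulVec, ← hR1]
        abel
      rw [e1, e1, tf_vecMulVec, tf_vecMulVec, be_e1_e1, mul_one, mul_one] at h
      obtain ⟨l, hl⟩ := hprop a'
      obtain ⟨l', hl'⟩ := hprop b'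
      have h0 : Cfsg.sympForm m F (R₁ *ᵥ a') (R₁ *ᵥ b') = 0 := by
        rw [hl, hl', sympForm_smul_left, sympForm_smul_right, sympForm_self, mul_zero, mul_zero]
      rw [sympForm_add_left, sympForm_add_right, sympForm_add_right, h0] at h
      linear_combination h
    refine ⟨x₃, ha, - Cfsg.sympForm m F (R₁ *ᵥ b₀) b₀, fun X => ?_⟩
    have hRX : t X = X + R₁ * X := by
      rw [← hR X]; abel
    rw [hRX]
    congr 1
    ext i k
    have hik : (R₁ * X) i k = (R₁ *ᵥ colv X k) i := rfl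
    rw [hik, hφ (colv X k)]
    have hs := hskew (colv X k) b₀
    rw [hφ b₀, sympForm_smul_right] at hs
    simp only [Pi.smul_apply, smul_eq_mul, Matrix.smul_apply, nA_apply, vecMulVec_apply, ctr_apply]
    have hs' : Cfsg.sympForm m F (R₁ *ᵥ colv X k) b₀
        = - Cfsg.sympForm m F (R₁ *ᵥ b₀) b₀ * Cfsg.sympForm m F (colv X k) x₃ := by
      linear_combination hs
    rw [hs']
    ring
  · -- Case A: `Q` is not scalar: impossible
    exfalso
    push Not at hQ
    obtain ⟨y, hy⟩ := hQ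
    obtain ⟨η, hη1, hη2⟩ := exists_dot y (Q *ᵥ y) hy
    set b := (Q *ᵥ y) ⬝ᵥ η with hb
    set a_ := (Q *ᵥ (Q *ᵥ y)) ⬝ᵥ η with ha_
    have h1 : ∀ x : Fin m ⊕ Fin m → F, a_ • (P *ᵥ x) = ((2 : F) * b) • x := by
      intro x
      have h := hstar x y η
      rw [hη1, zero_smul, sub_zero] at h
      have h0 : P *ᵥ (a_ • (P *ᵥ x) - ((2 : F) * b) • x) = 0 := by
        rw [Matrix.mulVec_sub, Matrix.mulVec_smul, Matrix.mulVec_smul, h, sub_self]
      exact sub_eq_zero.mp (hPinj _ h0)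
    have h2b : (2 : F) * b ≠ 0 := mul_ne_zero h2 hη2
    have ha0 : a_ ≠ 0 := by
      intro h0
      have := h1 x₁
      rw [h0, zero_smul] at this
      rcases smul_eq_zero.mp this.symm with h4 | h4
      · exact h2b h4
      · exact hx₁ h4
    set p := (2 : F) * b / a_ with hp
    have hP : ∀ x : Fin m ⊕ Fin m → F, P *ᵥ x = p • x := by
      intro x
      have := h1 x
      rw [hp, div_eq_inv_mul, ← smul_smul, ← this, smul_smul, inv_mul_cancel₀ ha0, one_smul]
    set Q' : Matrix (Fin 3) (Fin 3) F := p • Q with hQ'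
    have hpure' : ∀ (x : Fin m ⊕ Fin m → F) (y : Fin 3 → F),
        t (vecMulVec x y) = vecMulVec x (Q' *ᵥ y) := by
      intro x y
      rw [hpure, hP, smul_vecMulVec, ← vecMulVec_smul, hQ', Matrix.smul_mulVec]
    have hiso : ∀ y y' : Fin 3 → F, be (Q' *ᵥ y) (Q' *ᵥ y') = be y y' := by
      intro y y'
      have h := hsp (vecMulVec x' y) (vecMulVec x₁ y')
      rw [hpure', hpure', tf_vecMulVec, tf_vecMulVec, hx', one_mul, one_mul] at h
      exact h
    have hnil : ∀ y : Fin 3 → F, Q' *ᵥ (Q' *ᵥ y) = (2 : F) • (Q' *ᵥ y) - y := by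
      intro y
      have h := hquad (vecMulVec x₁ y)
      simp only [hpure'] at h
      have h0 : vecMulVec x₁ (Q' *ᵥ (Q' *ᵥ y) - ((2 : F) • (Q' *ᵥ y) - y)) = 0 := by
        rw [vecMulVec_sub, vecMulVec_sub, vecMulVec_smul, h]
        abel
      exact sub_eq_zero.mp (vecMulVec_eq_zero_left hx₁ h0)
    set R : Matrix (Fin 3) (Fin 3) F := Q' - 1 with hR
    have hRy : ∀ y : Fin 3 → F, R *ᵥ y = Q' *ᵥ y - y := by
      intro y
      rw [hR, Matrix.sub_mulVec, Matrix.one_mulVec]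
    have hN : ∀ y : Fin 3 → F, R *ᵥ (R *ᵥ y) = 0 := by
      intro y
      rw [hRy, hRy, Matrix.mulVec_sub, hnil]
      module
    have hS' : ∀ y y' : Fin 3 → F,
        be (R *ᵥ y) y' + be y (R *ᵥ y') + be (R *ᵥ y) (R *ᵥ y') = 0 := by
      intro y y'
      have h := hiso y y'
      have e1 : Q' *ᵥ y = y + R *ᵥ y := by rw [hRy]; abel
      have e2 : Q' *ᵥ y' = y' + R *ᵥ y' := by rw [hRy]; abel
      rw [e1, e2, be_add_left, be_add_right, be_add_right] at h
      linear_combination h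
    have hT : ∀ y y' : Fin 3 → F, be (R *ᵥ y) (R *ᵥ y') = 0 := by
      intro y y'
      have h := hS' (R *ᵥ y) y'
      rw [hN] at h
      simpa using h
    have hS : ∀ y y' : Fin 3 → F, be (R *ᵥ y) y' + be y (R *ᵥ y') = 0 := by
      intro y y'
      have h := hS' y y'
      rw [hT, add_zero] at h
      exact h
    have hR0 := skew_sq_zero h2 R hS hN
    obtain ⟨Y, hY⟩ := hne
    apply hY
    apply eq_self_of_pure
    intro x y
    have : Q' *ᵥ y = y := by
      have := hRy y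
      rw [hR0, Matrix.zero_mulVec] at this
      exact (sub_eq_zero.mp this.symm)
    rw [hpure', this]

end Cfsg.Agent.Lib.Helper67_SP3_NOEX
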