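import Mathlib
import Cfsg.Agent.Lib.Helper37_UTDefs
import Cfsg.Agent.Lib.Helper37_UTPairDefs

set_option autoImplicit false
set_option linter.unusedSectionVars false
set_option linter.unusedVariables false

/-!
# STENS (`Sp_a ⊗ O_b` maximal in `Sp_{ab}`, `q` odd, `a ≥ 4`, `b ≥ 4`): shared definitions (helper67)

Transplant of helper37's UTENS (`Helper37_UTDefs`, `Helper37_UTPairDefs`) to bilinear forms:
`σ := RingHom.id F`, `α` alternating nondegenerate on `A = ι → F`, `β` symmetric nondegenerate on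
`B = κ → F`, `V = Matrix ι κ F`, `f = tf α β` (alternating).  All the definitions of
`Helper37_UTDefs` / `Helper37_UTPairDefs` that do not mention `Invol`, `IsHerm`, `SUg` or skew
scalars are reused at `σ = id` (`tf`, `tm`, `tmE`, `ctrA`, `ctrB`, `fibB`, `nII`, `RadStdII`,
`orthS`, `PairGeo`, `PairGeoU`, `Lg`, `Ng`, `rtE`, `InQ`, `StabII`, `MaxD`, `IsPair`, `subB`).

New here:
* `STBase α β M`, `STCtx α β M` : the standing hypotheses (`N ≤ M ≤ Sp(V)`).
* `IsRootOpS f ℓ N` : `N` is `f`-skew with image `ℓ` and kernel `ℓ^⊥`, `ℓ` totally isotropic.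
* `RootLineS f M ℓ N` : moreover `M ∩ Z(ℓ) = {1 + s N | s ∈ F}`.
* `GamS N N'` : the group generated by the two root groups (all `s ∈ F`).
-/

namespace Cfsg.Agent.Lib.Helper67_STDefs

open Matrix Module
open Cfsg.Agent.Lib.Helper98_ExtDefs Cfsg.Agent.Lib.Helper97_TensDefs
open Cfsg.Agent.Lib.Helper94_Herm Cfsg.Agent.Lib.Helper13_PSUSimple
open Cfsg.Agent.Lib.Helper67_UT2Defs Cfsg.Agent.Lib.Helper37_UTDefs
open Cfsg.Agent.Lib.Helper37_UTPairDefs

section Abstract

variable {F : Type*} [Field F] {V : Type*} [AddCommGroup V] [Module F V]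

/-- `N` is a (skew) root operator of the totally isotropic subspace `ℓ` -/
structure IsRootOpS (f : LinearMap.BilinForm F V) (ℓ : Submodule F V) (N : V →ₗ[F] V) : Prop where
  range_eq : LinearMap.range N = ℓ
  ker_eq : LinearMap.ker N = orthS f ℓ
  sk : ∀ u v, f (N u) v = - f u (N v)
  ti : ℓ ≤ orthS f ℓ

/-- `ℓ` is a root line of `M` with root operator `N` : `M ∩ Z(ℓ) = {1 + s N | s ∈ F}` -/
structure RootLineS (f : LinearMap.BilinForm F V) (M : Subgroup (V ≃ₗ[F] V)) (ℓ : Submodule F V)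
    (N : V →ₗ[F] V) : Prop extends IsRootOpS f ℓ N where
  mem : ∀ s : F, ∃ g ∈ M, ∀ v, g v = v + s • N v
  std : ∀ g ∈ M, (∀ v, g v - v ∈ ℓ) → ∃ s : F, ∀ v, g v = v + s • N v

/-- the group generated by the root groups `{1 + s N}`, `{1 + s N'}` (`s ∈ F`) -/
def GamS (N N' : V →ₗ[F] V) : Subgroup (V ≃ₗ[F] V) :=
  Subgroup.closure {g | ∃ s : F, (∀ v, g v = v + s • N v) ∨ (∀ v, g v = v + s • N' v)}

theorem GamS_comm (N N' : V →ₗ[F] V) : GamS N N' = GamS N' N := by
  unfold GamS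
  congr 1
  ext g
  constructor
  · rintro ⟨s, h | h⟩
    · exact ⟨s, Or.inr h⟩
    · exact ⟨s, Or.inl h⟩
  · rintro ⟨s, h | h⟩
    · exact ⟨s, Or.inr h⟩
    · exact ⟨s, Or.inl h⟩

end Abstract

section Model

variable {F : Type*} [Field F] {ι κ : Type*} [Fintype ι] [Fintype κ] [DecidableEq ι]
  [DecidableEq κ]

/-- the standing hypotheses without the dimension hypotheses: `2 ≠ 0`, `α` alternating and `β`
symmetric, both nondegenerate, and `N ≤ M ≤ Sp(V)` where `N` is the set of Kronecker isometries -/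
structure STBase (α : LinearMap.BilinForm F (ι → F)) (β : LinearMap.BilinForm F (κ → F))
    (M : Subgroup (Matrix ι κ F ≃ₗ[F] Matrix ι κ F)) : Prop where
  h2 : (2 : F) ≠ 0
  hα : ∀ x, α x x = 0
  hαN : NondegOn α ⊤
  hβ : ∀ u v, β u v = β v u
  hβN : NondegOn β ⊤
  hM : M ≤ uG (tf α β)
  hN : ∀ g ∈ uG (tf α β), IsKron g → g ∈ M

/-- the standing hypotheses: `STBase`, `a ≥ 4`, `b ≥ 4` -/
structure STCtx (α : LinearMap.BilinForm F (ι → F)) (β : LinearMap.BilinForm F (κ → F))
    (M : Subgroup (Matrix ι κ F ≃ₗ[F] Matrix ι κ F)) : Prop extends STBase α β M where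
  ha : 4 ≤ Fintype.card ι
  hb : 4 ≤ Fintype.card κ

theorem STBase.skew {α : LinearMap.BilinForm F (ι → F)} {β : LinearMap.BilinForm F (κ → F)}
    {M : Subgroup (Matrix ι κ F ≃ₗ[F] Matrix ι κ F)} (hB : STBase α β M) (x y : ι → F) :
    α x y = - α y x := by
  have h := hB.hα (x + y)
  have e : α (x + y) (x + y) = α x x + α x y + (α y x + α y y) := by
    simp only [map_add, LinearMap.add_apply]
    ring
  rw [e, hB.hα x, hB.hα y, zero_add, add_zero] at h
  exact eq_neg_of_add_eq_zero_left h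

end Model

end Cfsg.Agent.Lib.Helper67_STDefs
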