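import Mathlib
import Cfsg.Agent.Lib.Helper94_Herm
import Cfsg.Agent.Lib.Helper94_HermOrth
import Cfsg.Agent.Lib.Helper94_HermWitt
import Cfsg.Agent.Lib.Helper94_HermTrans
import Cfsg.Agent.Lib.Helper94_HermTI
import Cfsg.Agent.Lib.Helper94_HermDecomp

set_option autoImplicit false

/-!
Symplectic rational structures in a hermitian space: an additive subgroup `V₀` of `V`, stable
under the fixed field of the involution, with `V = V₀ ⊕ θ V₀`, on which `ζ B` is an alternating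
form with values in the fixed field.  The stabiliser (up to scalars) of such a structure in the
special unitary group is a maximal subgroup.
-/

namespace Cfsg.Agent.Lib.Helper94_HermSub

open Module Cfsg.Agent.Lib.Helper94_Symp Cfsg.Agent.Lib.Helper94_Herm
  Cfsg.Agent.Lib.Helper94_HermOrth Cfsg.Agent.Lib.Helper94_HermWitt
  Cfsg.Agent.Lib.Helper94_HermTrans Cfsg.Agent.Lib.Helper94_HermTI
  Cfsg.Agent.Lib.Helper94_HermDecomp

variable {F V : Type*} [Field F] [AddCommGroup V] [Module F V]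
variable {σ : F →+* F} {B : V →ₗ[F] V →ₛₗ[σ] F}

/-- A symplectic rational structure. -/
structure SpForm (B : V →ₗ[F] V →ₛₗ[σ] F) (V₀ : AddSubgroup V) (ζ : F) : Prop where
  smul_mem : ∀ (c : F) (v : V), σ c = c → v ∈ V₀ → c • v ∈ V₀
  indep : ∀ (θ : F) (v : V), σ θ ≠ θ → v ∈ V₀ → θ • v ∈ V₀ → v = 0
  span : ∀ θ : F, σ θ ≠ θ → ∀ x : V, ∃ x₁ ∈ V₀, ∃ x₂ ∈ V₀, x = x₁ + θ • x₂
  zeta_ne : ζ ≠ 0
  zeta_skew : σ ζ = -ζ
  val : ∀ u ∈ V₀, ∀ v ∈ V₀, σ (ζ * B u v) = ζ * B u v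
  alt : ∀ u ∈ V₀, B u u = 0

/-- Rational points. -/
def IsRat (F : Type*) {V : Type*} [Field F] [AddCommGroup V] [Module F V] (V₀ : AddSubgroup V)
    (x : V) : Prop := ∃ μ : F, ∃ y ∈ V₀, x = μ • y

variable {V₀ : AddSubgroup V} {ζ : F}

namespace SpForm

variable (R : SpForm B V₀ ζ)

include R in
lemma skew {u v : V} (hu : u ∈ V₀) (hv : v ∈ V₀) : σ (B u v) = -(B u v) := by
  have h := R.val u hu v hv
  rw [map_mul, R.zeta_skew] at h
  have h2 : ζ * (σ (B u v) + B u v) = 0 := by linear_combination -h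
  rcases mul_eq_zero.mp h2 with h0 | h0
  · exact absurd h0 R.zeta_ne
  · linear_combination h0

include R in
lemma swap (hB : IsHerm B) {u v : V} (hu : u ∈ V₀) (hv : v ∈ V₀) : B v u = -(B u v) := by
  rw [hB u v, R.skew hu hv]

include R in
lemma fix_mul {c : F} (hc : σ c = -c) {u v : V} (hu : u ∈ V₀) (hv : v ∈ V₀) :
    σ (c * B u v) = c * B u v := by
  rw [map_mul, hc, R.skew hu hv]; ring

include R in
lemma utv_mem {v : V} (hv : v ∈ V₀) {c : F} (hc : σ c = -c) {x : V} (hx : x ∈ V₀) :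
    utv B v c x ∈ V₀ := by
  rw [utv_apply B (R.alt v hv)]
  exact V₀.add_mem hx (R.smul_mem _ _ (R.fix_mul hc hx hv) hv)

include R in
lemma utv_mem_setStab {v : V} (hv : v ∈ V₀) {c : F} (hc : σ c = -c) :
    utv B v c ∈ setStab (V₀ : Set V) := by
  intro x
  constructor
  · intro hx
    exact R.utv_mem hv hc hx
  · intro hy
    have hc' : σ (-c) = -(-c) := by rw [map_neg, hc]
    have h1 := R.utv_mem hv hc' hy
    have h2 : utv B v (-c) (utv B v c x) = x := by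
      have hvv := R.alt v hv
      rw [utv_apply B hvv, utv_apply B hvv]
      simp only [map_add, map_smul, LinearMap.add_apply, LinearMap.smul_apply, smul_eq_mul, hvv,
        mul_zero, add_zero]
      module
    rw [h2] at h1
    exact h1

include R in
lemma self_decomp (hB : IsHerm B) {x₁ x₂ : V} (h₁ : x₁ ∈ V₀) (h₂ : x₂ ∈ V₀) (θ : F) :
    B (x₁ + θ • x₂) (x₁ + θ • x₂) = (σ θ - θ) * B x₁ x₂ := by
  simp only [map_add, map_smul, map_smulₛₗ, LinearMap.add_apply, LinearMap.smul_apply,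
    smul_eq_mul]
  rw [R.alt x₁ h₁, R.alt x₂ h₂, R.swap hB h₁ h₂]
  ring

include R in
lemma perp_comp {θ : F} (hθ : σ θ ≠ θ) {z₁ z₂ x : V} (hz₁ : z₁ ∈ V₀) (hz₂ : z₂ ∈ V₀)
    (hx : x ∈ V₀) (h : B (z₁ + θ • z₂) x = 0) : B z₁ x = 0 ∧ B z₂ x = 0 := by
  rw [map_add, map_smul, LinearMap.add_apply, LinearMap.smul_apply, smul_eq_mul] at h
  by_cases hb : B z₂ x = 0
  · rw [hb, mul_zero, add_zero] at h
    exact ⟨h, hb⟩
  · exfalso
    apply hθ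
    have hζ := R.zeta_ne
    have hθeq : θ = -(ζ * B z₁ x) / (ζ * B z₂ x) := by
      field_simp
      linear_combination h
    rw [hθeq, map_div₀, map_neg, R.val z₁ hz₁ x hx, R.val z₂ hz₂ x hx]

include R in
lemma decomp_unique {θ : F} (hθ : σ θ ≠ θ) {a₁ a₂ b₁ b₂ : V} (ha₁ : a₁ ∈ V₀) (ha₂ : a₂ ∈ V₀)
    (hb₁ : b₁ ∈ V₀) (hb₂ : b₂ ∈ V₀) (h : a₁ + θ • a₂ = b₁ + θ • b₂) : a₁ = b₁ ∧ a₂ = b₂ := by
  have h1 : θ • (a₂ - b₂) = b₁ - a₁ := by
    rw [smul_sub, sub_eq_sub_iff_add_eq_add]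
    rw [add_comm, h, add_comm]
  have h2 : a₂ - b₂ = 0 :=
    R.indep θ _ hθ (V₀.sub_mem ha₂ hb₂) (by rw [h1]; exact V₀.sub_mem hb₁ ha₁)
  rw [h2, smul_zero] at h1
  exact ⟨(sub_eq_zero.mp h1.symm).symm, sub_eq_zero.mp h2⟩

include R in
lemma not_rat_comp {θ : F} {x₁ x₂ : V} (h₁ : x₁ ∈ V₀) (h₂ : x₂ ∈ V₀)
    (h : ¬ IsRat F V₀ (x₁ + θ • x₂)) : x₁ ≠ 0 ∧ ∀ l : F, σ l = l → x₂ ≠ l • x₁ := by
  constructor
  · intro h0
    apply h
    exact ⟨θ, x₂, h₂, by rw [h0, zero_add]⟩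
  · intro l _ hl
    apply h
    refine ⟨1 + θ * l, x₁, h₁, ?_⟩
    rw [hl, add_smul, one_smul, mul_smul]

include R in
lemma not_rat_of (hσ : Invol σ) {θ : F} (hθ : σ θ ≠ θ) {w₁ w₂ : V} (h₁ : w₁ ∈ V₀)
    (h₂ : w₂ ∈ V₀) (hw₁ : w₁ ≠ 0) (hw₂ : ∀ l : F, σ l = l → w₂ ≠ l • w₁) :
    ¬ IsRat F V₀ (w₁ + θ • w₂) := by
  rintro ⟨μ, y, hy, h⟩
  obtain ⟨α, β, hα, hβ, hμ⟩ := decomp hσ hθ μ
  have h' : w₁ + θ • w₂ = α • y + θ • (β • y) := by
    rw [h, hμ, add_smul, smul_smul, mul_comm]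
  obtain ⟨e1, e2⟩ := R.decomp_unique hθ h₁ h₂ (R.smul_mem _ _ hα hy) (R.smul_mem _ _ hβ hy) h'
  have hα0 : α ≠ 0 := by
    intro h0
    apply hw₁
    rw [e1, h0, zero_smul]
  apply hw₂ (β / α) (by rw [map_div₀, hα, hβ])
  rw [e2, e1, smul_smul, div_mul_cancel₀ _ hα0]

end SpForm

section Main

variable (R : SpForm B V₀ ζ)

include R in
/-- An invertible map sending every rational vector to a rational point scales the structure. -/
lemma exists_scalar (hσ : Invol σ) (g : V ≃ₗ[F] V) (h : ∀ v ∈ V₀, IsRat F V₀ (g v)) :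
    ∃ μ : F, μ ≠ 0 ∧ ∀ v ∈ V₀, ∃ w ∈ V₀, g v = μ • w := by
  by_cases hex : ∃ v₀ ∈ V₀, v₀ ≠ 0
  · obtain ⟨v₀, hv₀, hv₀0⟩ := hex
    obtain ⟨μ₀, w₀, hw₀, hg₀⟩ := h v₀ hv₀
    have hgv₀ : g v₀ ≠ 0 := fun h0 => hv₀0 (by simpa using h0)
    have hμ₀ : μ₀ ≠ 0 := by
      intro h0
      rw [h0, zero_smul] at hg₀
      exact hgv₀ hg₀
    have hw₀0 : w₀ ≠ 0 := by
      intro h0
      rw [h0, smul_zero] at hg₀
      exact hgv₀ hg₀
    refine ⟨μ₀, hμ₀, ?_⟩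
    intro v hv
    by_cases hv0 : v = 0
    · exact ⟨0, V₀.zero_mem, by rw [hv0, map_zero, smul_zero]⟩
    obtain ⟨μ', w', hw', hg'⟩ := h v hv
    have hgv : g v ≠ 0 := fun h0 => hv0 (by simpa using h0)
    have hw'0 : w' ≠ 0 := by
      intro h0
      rw [h0, smul_zero] at hg'
      exact hgv hg'
    by_cases hρ : σ (μ' / μ₀) = μ' / μ₀
    · refine ⟨(μ' / μ₀) • w', R.smul_mem _ _ hρ hw', ?_⟩
      rw [hg', smul_smul, mul_div_cancel₀ _ hμ₀]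
    · exfalso
      obtain ⟨μ'', w'', hw'', hg''⟩ := h (v + v₀) (V₀.add_mem hv hv₀)
      obtain ⟨α, β, hα, hβ, hdec⟩ := decomp hσ hρ (μ'' / μ₀)
      have hμ'' : μ'' = α * μ₀ + β * μ' := by
        field_simp at hdec
        linear_combination hdec
      rw [map_add, hg', hg₀, hμ'', add_smul, mul_smul, mul_smul] at hg''
      -- μ' w' + μ₀ w₀ = μ₀ (α w'') + μ' (β w'')
      have h1 : (μ' / μ₀) • (β • w'' - w') = w₀ - α • w'' := by
        have h2 : μ₀ • ((μ' / μ₀) • (β • w'' - w')) = μ₀ • (w₀ - α • w'') := by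
          rw [smul_smul, mul_div_cancel₀ _ hμ₀, smul_sub, smul_sub, smul_comm μ₀ α w'',
            sub_eq_sub_iff_add_eq_add]
          rw [smul_comm μ' β w'', add_comm (β • μ' • w''), ← hg'', add_comm]
        exact smul_right_injective V hμ₀ h2
      have hm1 : β • w'' - w' ∈ V₀ := V₀.sub_mem (R.smul_mem _ _ hβ hw'') hw'
      have hm2 : w₀ - α • w'' ∈ V₀ := V₀.sub_mem hw₀ (R.smul_mem _ _ hα hw'')
      have h3 : β • w'' - w' = 0 := R.indep _ _ hρ hm1 (by rw [h1]; exact hm2)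
      rw [h3, smul_zero] at h1
      have e1 : w' = β • w'' := (sub_eq_zero.mp h3).symm
      have e0 : w₀ = α • w'' := sub_eq_zero.mp h1.symm
      have hα0 : α ≠ 0 := by
        intro h0
        rw [h0, zero_smul] at e0
        exact hw₀0 e0
      have hβ0 : β ≠ 0 := by
        intro h0
        rw [h0, zero_smul] at e1
        exact hw'0 e1
      -- v = κ v₀
      have hκ : g v = g ((μ' * β / (μ₀ * α)) • v₀) := by
        rw [map_smul, hg', hg₀, e1, e0, smul_smul, smul_smul, smul_smul]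
        congr 1
        field_simp
      have hv' : v = (μ' * β / (μ₀ * α)) • v₀ := g.injective hκ
      by_cases hκf : σ (μ' * β / (μ₀ * α)) = μ' * β / (μ₀ * α)
      · apply hρ
        have : μ' / μ₀ = (μ' * β / (μ₀ * α)) * (α / β) := by
          field_simp
        rw [this, map_mul, hκf, map_div₀, hα, hβ]
      · exact hv₀0 (R.indep _ _ hκf hv₀ (by rw [← hv']; exact hv))
  · push Not at hex
    refine ⟨1, one_ne_zero, ?_⟩
    intro v hv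
    refine ⟨0, V₀.zero_mem, ?_⟩
    rw [hex v hv, map_zero, smul_zero]

variable [Finite F] [FiniteDimensional F V]

include R in
lemma exists_perp_ne (hσ : Invol σ) (hB : IsHerm B) (hN : NondegOn B ⊤) {x₁ u : V}
    (hx₁ : x₁ ∈ V₀) (hu : u ∈ V₀) (hul : ∀ l : F, σ l = l → u ≠ l • x₁) :
    ∃ z ∈ V₀, B x₁ z = 0 ∧ B u z ≠ 0 := by
  by_contra hcon
  push Not at hcon
  obtain ⟨θ, hθ⟩ := hσ.ne_id
  have hmem : u ∈ orthS B (orthS B (Submodule.span F {x₁})) := by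
    rw [mem_orthS]
    intro z hz
    have hzx : B x₁ z = 0 := hz x₁ (Submodule.mem_span_singleton_self _)
    obtain ⟨z₁, hz₁, z₂, hz₂, rfl⟩ := R.span θ hθ z
    obtain ⟨e1, e2⟩ := R.perp_comp hθ hz₁ hz₂ hx₁ (herm_eq_zero hB hzx)
    have f1 : B z₁ u = 0 := herm_eq_zero hB (hcon z₁ hz₁ (herm_eq_zero hB e1))
    have f2 : B z₂ u = 0 := herm_eq_zero hB (hcon z₂ hz₂ (herm_eq_zero hB e2))
    rw [map_add, map_smul, LinearMap.add_apply, LinearMap.smul_apply, f1, f2, smul_zero, add_zero]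
  rw [orthS_orthS hB hN] at hmem
  obtain ⟨l, hl⟩ := Submodule.mem_span_singleton.mp hmem
  by_cases hl' : σ l = l
  · exact hul l hl' hl.symm
  · have h0 : x₁ = 0 := R.indep l x₁ hl' hx₁ (by rw [hl]; exact hu)
    apply hul 0 (map_zero σ)
    rw [← hl, h0, smul_zero, smul_zero]

variable (K0 : Subgroup (V ≃ₗ[F] V))

include R in
lemma rat_utv_mem (hB : IsHerm B)
    (hK1 : ∀ (φ : Dual F V) (v : V) (h : φ v = 0), LinearEquiv.transvection h ∈ K0)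
    {v : V} (hv : v ∈ V₀) {c : F} (hc : σ c = -c) :
    utv B v c ∈ setStab (V₀ : Set V) ⊓ (uG B ⊓ K0) := by
  refine ⟨R.utv_mem_setStab hv hc, utv_mem_uG hB v hc, ?_⟩
  rw [utv, dif_pos (R.alt v hv)]
  exact hK1 _ _ _

include R in
lemma move (hB : IsHerm B)
    (hK1 : ∀ (φ : Dual F V) (v : V) (h : φ v = 0), LinearEquiv.transvection h ∈ K0)
    {u u' : V} (hu : u ∈ V₀) (hu' : u' ∈ V₀) (h : B u u' ≠ 0) :
    ∃ t ∈ setStab (V₀ : Set V) ⊓ (uG B ⊓ K0), t u = u' ∧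
      ∀ x, B x u = 0 → B x u' = 0 → t x = x := by
  have hc : σ (B u u')⁻¹ = -(B u u')⁻¹ := by
    rw [map_inv₀, R.skew hu hu', inv_neg]
  have hm : u' - u ∈ V₀ := V₀.sub_mem hu' hu
  refine ⟨utv B (u' - u) (B u u')⁻¹, rat_utv_mem R K0 hB hK1 hm hc, ?_, ?_⟩
  · rw [utv_apply B (R.alt _ hm), map_sub, R.alt u hu, sub_zero, inv_mul_cancel₀ h, one_smul]
    abel
  · intro x h1 h2
    apply utv_fix
    rw [map_sub, h1, h2, sub_zero]

include R in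
lemma trans2 (hσ : Invol σ) (hB : IsHerm B) (hN : NondegOn B ⊤)
    (hK1 : ∀ (φ : Dual F V) (v : V) (h : φ v = 0), LinearEquiv.transvection h ∈ K0)
    {x₁ u u' : V} (hx₁ : x₁ ∈ V₀) (hu : u ∈ V₀) (hu' : u' ∈ V₀) (h1 : B x₁ u = 0)
    (h2 : B x₁ u' = 0) (hul : ∀ l : F, σ l = l → u ≠ l • x₁)
    (hul' : ∀ l : F, σ l = l → u' ≠ l • x₁) :
    ∃ t ∈ setStab (V₀ : Set V) ⊓ (uG B ⊓ K0), t x₁ = x₁ ∧ t u = u' := by
  by_cases h : B u u' = 0
  · obtain ⟨z₁, hz₁, hxz₁, huz₁⟩ := exists_perp_ne R hσ hB hN hx₁ hu hul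
    obtain ⟨z₂, hz₂, hxz₂, huz₂⟩ := exists_perp_ne R hσ hB hN hx₁ hu' hul'
    have huz₂' : B z₂ u' ≠ 0 := herm_ne_zero hσ hB huz₂
    obtain ⟨z, hz, hxz, huz, hzu'⟩ : ∃ z ∈ V₀, B x₁ z = 0 ∧ B u z ≠ 0 ∧ B z u' ≠ 0 := by
      by_cases c1 : B z₁ u' = 0
      · by_cases c2 : B u z₂ = 0
        · refine ⟨z₁ + z₂, V₀.add_mem hz₁ hz₂, ?_, ?_, ?_⟩
          · rw [map_add, hxz₁, hxz₂, add_zero]
          · rw [map_add, c2, add_zero]; exact huz₁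
          · rw [map_add, LinearMap.add_apply, c1, zero_add]; exact huz₂'
        · exact ⟨z₂, hz₂, hxz₂, c2, huz₂'⟩
      · exact ⟨z₁, hz₁, hxz₁, huz₁, c1⟩
    obtain ⟨t₁, ht₁, ht₁u, ht₁f⟩ := move R K0 hB hK1 hu hz huz
    obtain ⟨t₂, ht₂, ht₂u, ht₂f⟩ := move R K0 hB hK1 hz hu' hzu'
    refine ⟨t₂ * t₁, Subgroup.mul_mem _ ht₂ ht₁, ?_, ?_⟩
    · rw [LinearEquiv.mul_apply, ht₁f x₁ h1 hxz, ht₂f x₁ hxz h2]
    · rw [LinearEquiv.mul_apply, ht₁u, ht₂u]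
  · obtain ⟨t, ht, htu, htf⟩ := move R K0 hB hK1 hu hu' h
    exact ⟨t, ht, htf x₁ h1 h2, htu⟩

include R in
/-- The stabiliser of the rational structure is transitive on the isotropic points which are
not rational. -/
lemma trans_nonrat (hσ : Invol σ) (hB : IsHerm B) (hN : NondegOn B ⊤)
    (hK1 : ∀ (φ : Dual F V) (v : V) (h : φ v = 0), LinearEquiv.transvection h ∈ K0)
    {w x : V} (hw : B w w = 0) (hx : B x x = 0) (hwn : ¬ IsRat F V₀ w) (hxn : ¬ IsRat F V₀ x) :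
    ∃ t ∈ setStab (V₀ : Set V) ⊓ (uG B ⊓ K0), t w = x := by
  obtain ⟨θ, hθ⟩ := hσ.ne_id
  have hθ' : σ θ - θ ≠ 0 := fun h => hθ (sub_eq_zero.mp h)
  obtain ⟨w₁, hw₁, w₂, hw₂, rfl⟩ := R.span θ hθ w
  obtain ⟨x₁, hx₁, x₂, hx₂, rfl⟩ := R.span θ hθ x
  rw [R.self_decomp hB hw₁ hw₂] at hw
  rw [R.self_decomp hB hx₁ hx₂] at hx
  have hw12 : B w₁ w₂ = 0 := (mul_eq_zero.mp hw).resolve_left hθ'
  have hx12 : B x₁ x₂ = 0 := (mul_eq_zero.mp hx).resolve_left hθ'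
  obtain ⟨hw₁0, hw₂l⟩ := R.not_rat_comp hw₁ hw₂ hwn
  obtain ⟨hx₁0, hx₂l⟩ := R.not_rat_comp hx₁ hx₂ hxn
  -- first step
  obtain ⟨t₁, ht₁, -, ht₁w⟩ := trans2 R K0 hσ hB hN hK1 (x₁ := 0) V₀.zero_mem hw₁ hx₁
    (by simp) (by simp) (fun l _ h => hw₁0 (by rw [h, smul_zero]))
    (fun l _ h => hx₁0 (by rw [h, smul_zero]))
  have ht₁U : t₁ ∈ uG B := ht₁.2.1
  have hw₂' : t₁ w₂ ∈ V₀ := (mem_setStab.mp ht₁.1 w₂).mp hw₂
  have hxw₂' : B x₁ (t₁ w₂) = 0 := by rw [← ht₁w, ht₁U, hw12]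
  have hw₂'l : ∀ l : F, σ l = l → t₁ w₂ ≠ l • x₁ := by
    intro l hl h
    apply hw₂l l hl
    apply t₁.injective
    rw [h, map_smul, ht₁w]
  obtain ⟨t₂, ht₂, ht₂x, ht₂w⟩ := trans2 R K0 hσ hB hN hK1 hx₁ hw₂' hx₂ hxw₂' hx12 hw₂'l hx₂l
  refine ⟨t₂ * t₁, Subgroup.mul_mem _ ht₂ ht₁, ?_⟩
  rw [LinearEquiv.mul_apply, map_add, map_smul, ht₁w, map_add, map_smul, ht₂x, ht₂w]

include R in
/-- The stabiliser (up to scalars) of a symplectic rational structure is a maximal subgroup of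
the special unitary group. -/
theorem maximal_spsub (hσ : Invol σ) (hB : IsHerm B) (hN : NondegOn B ⊤)
    (hK1 : ∀ (φ : Dual F V) (v : V) (h : φ v = 0), LinearEquiv.transvection h ∈ K0)
    (hgen : uG B ⊓ K0 ≤ tvGroup B ⊤) (h4 : 4 ≤ finrank F V)
    (S : Subgroup (V ≃ₗ[F] V))
    (hS : ∀ g, g ∈ S ↔ ∃ μ : F, μ ≠ 0 ∧ ∀ v ∈ V₀, ∃ w ∈ V₀, g v = μ • w) :
    (S ⊓ (uG B ⊓ K0) < uG B ⊓ K0) ∧
      ∀ M : Subgroup (V ≃ₗ[F] V), S ⊓ (uG B ⊓ K0) ≤ M → M ≤ uG B ⊓ K0 →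
        M = S ⊓ (uG B ⊓ K0) ∨ M = uG B ⊓ K0 := by
  obtain ⟨θ, hθ⟩ := hσ.ne_id
  have hθ' : σ θ - θ ≠ 0 := fun h => hθ (sub_eq_zero.mp h)
  have hH1 : setStab (V₀ : Set V) ⊓ (uG B ⊓ K0) ≤ S ⊓ (uG B ⊓ K0) := by
    intro g hg
    exact ⟨(hS g).mpr ⟨1, one_ne_zero, fun v hv =>
      ⟨g v, (mem_setStab.mp hg.1 v).mp hv, (one_smul _ _).symm⟩⟩, hg.2⟩
  have hutvG : ∀ a c, B a a = 0 → σ c = -c → utv B a c ∈ uG B ⊓ K0 := by
    intro a c haa hc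
    refine ⟨utv_mem_uG hB a hc, ?_⟩
    rw [utv, dif_pos haa]
    exact hK1 _ _ _
  -- a nonrational isotropic vector
  have hexw : ∃ w, B w w = 0 ∧ ¬ IsRat F V₀ w := by
    have h1 : ∃ w₁ ∈ V₀, w₁ ≠ 0 := by
      obtain ⟨v, hv⟩ : ∃ v : V, v ≠ 0 := by
        have : Nontrivial V := Module.nontrivial_of_finrank_pos (R := F) (by omega)
        exact exists_ne 0
      obtain ⟨v₁, hv₁, v₂, hv₂, rfl⟩ := R.span θ hθ v
      by_cases h1 : v₁ = 0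
      · refine ⟨v₂, hv₂, ?_⟩
        intro h2
        apply hv
        rw [h1, h2, smul_zero, add_zero]
      · exact ⟨v₁, hv₁, h1⟩
    obtain ⟨w₁, hw₁, hw₁0⟩ := h1
    have hfr := finrank_orthS hB hN (Submodule.span F {w₁})
    have hsp : finrank F (Submodule.span F {w₁}) = 1 := finrank_span_singleton hw₁0
    obtain ⟨z, hz, hzn⟩ := exists_notMem_span1 (U := orthS B (Submodule.span F {w₁}))
      (by omega) w₁
    have hzw : B w₁ z = 0 := hz w₁ (Submodule.mem_span_singleton_self _)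
    obtain ⟨z₁, hz₁, z₂, hz₂, rfl⟩ := R.span θ hθ z
    obtain ⟨e1, e2⟩ := R.perp_comp hθ hz₁ hz₂ hw₁ (herm_eq_zero hB hzw)
    have h2 : ∃ w₂ ∈ V₀, B w₁ w₂ = 0 ∧ ∀ l : F, σ l = l → w₂ ≠ l • w₁ := by
      by_contra hcon
      push Not at hcon
      obtain ⟨l₁, -, hl₁⟩ := hcon z₁ hz₁ (herm_eq_zero hB e1)
      obtain ⟨l₂, -, hl₂⟩ := hcon z₂ hz₂ (herm_eq_zero hB e2)
      apply hzn
      rw [hl₁, hl₂, smul_smul, ← add_smul]
      exact Submodule.smul_mem _ _ (Submodule.mem_span_singleton_self _)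
    obtain ⟨w₂, hw₂, hw12, hw₂l⟩ := h2
    refine ⟨w₁ + θ • w₂, ?_, R.not_rat_of hσ hθ hw₁ hw₂ hw₁0 hw₂l⟩
    rw [R.self_decomp hB hw₁ hw₂, hw12, mul_zero]
  constructor
  · refine lt_of_le_of_ne inf_le_right ?_
    intro heq
    obtain ⟨w, hww, hwn⟩ := hexw
    obtain ⟨c, hc0, hc⟩ := exists_skew hσ
    have ht : utv B w c ∈ S ⊓ (uG B ⊓ K0) := by rw [heq]; exact hutvG w c hww hc
    obtain ⟨μ, hμ0, hμ⟩ := (hS _).mp ht.1
    obtain ⟨w₁, hw₁, w₂, hw₂, rfl⟩ := R.span θ hθ w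
    have hw12 : B w₁ w₂ = 0 := by
      have h := hww
      rw [R.self_decomp hB hw₁ hw₂] at h
      exact (mul_eq_zero.mp h).resolve_left hθ'
    obtain ⟨hw₁0, -⟩ := R.not_rat_comp hw₁ hw₂ hwn
    have hfix : utv B (w₁ + θ • w₂) c w₁ = w₁ := by
      apply utv_fix
      rw [map_add, map_smulₛₗ, R.alt w₁ hw₁, hw12, smul_zero, add_zero]
    obtain ⟨y, hy, hy'⟩ := hμ w₁ hw₁
    rw [hfix] at hy'
    have hμf : σ μ = μ := by
      by_contra hμf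
      have h0 := R.indep μ y hμf hy (by rw [← hy']; exact hw₁)
      rw [h0, smul_zero] at hy'
      exact hw₁0 hy'
    have h3 : ∃ v ∈ V₀, B v (w₁ + θ • w₂) ≠ 0 := by
      by_contra hcon
      push Not at hcon
      have hw0 : w₁ + θ • w₂ ≠ 0 := fun h0 => hwn ⟨0, 0, V₀.zero_mem, by rw [h0, smul_zero]⟩
      obtain ⟨y, -, hy⟩ := hN _ Submodule.mem_top hw0
      apply herm_ne_zero hσ hB hy
      obtain ⟨y₁, hy₁, y₂, hy₂, rfl⟩ := R.span θ hθ y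
      rw [LinearMap.map_add₂, LinearMap.map_smul₂, hcon y₁ hy₁, hcon y₂ hy₂, smul_zero,
        add_zero]
    obtain ⟨v, hv, hvw⟩ := h3
    obtain ⟨y', hy'm, hy''⟩ := hμ v hv
    rw [utv_apply B hww] at hy''
    apply hwn
    refine ⟨(c * B v (w₁ + θ • w₂))⁻¹, μ • y' - v,
      V₀.sub_mem (R.smul_mem _ _ hμf hy'm) hv, ?_⟩
    rw [← hy'', add_sub_cancel_left, smul_smul, inv_mul_cancel₀ (mul_ne_zero hc0 hvw), one_smul]
  · intro M hHM hMK
    by_cases hMS : M ≤ S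
    · left
      exact le_antisymm (fun g hg => ⟨hMS hg, hMK hg⟩) hHM
    · right
      obtain ⟨g, hgM, hgS⟩ := SetLike.not_le_iff_exists.mp hMS
      have hgU : g ∈ uG B := (hMK hgM).1
      have hrat : ∀ v ∈ V₀, v ∈ UTV B M := fun v hv c hc =>
        hHM (hH1 (rat_utv_mem R K0 hB hK1 hv hc))
      have h5 : ∃ v ∈ V₀, ¬ IsRat F V₀ (g v) := by
        by_contra hcon
        push Not at hcon
        exact hgS ((hS g).mpr (exists_scalar R hσ g hcon))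
      obtain ⟨v, hv, hgv⟩ := h5
      have hw : g v ∈ UTV B M := UTV_map hgM hgU (hrat v hv)
      have hww : B (g v) (g v) = 0 := by rw [hgU, R.alt v hv]
      have hall : ∀ x, B x x = 0 → x ∈ UTV B M := by
        intro x hx
        by_cases hxr : IsRat F V₀ x
        · obtain ⟨μ, y, hy, rfl⟩ := hxr
          exact UTV_smul hσ μ (hrat y hy)
        · obtain ⟨t, ht, htw⟩ := trans_nonrat R K0 hσ hB hN hK1 hww hx hgv hxr
          rw [← htw]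
          exact UTV_map (hHM (hH1 ht)) ht.2.1 hw
      apply le_antisymm hMK
      refine le_trans hgen (tvGroup_le ⊤ M ?_)
      intro a _ haa c hc
      exact hall a haa c hc

end Main

end Cfsg.Agent.Lib.Helper94_HermSub
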