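import Mathlib
import Cfsg.Agent.Lib.Helper94_Herm
import Cfsg.Agent.Lib.Helper94_HermOrth
import Cfsg.Agent.Lib.Helper94_HermEich
import Cfsg.Agent.Lib.Helper94_HermPara
import Cfsg.Agent.Lib.Helper94_HermTI
import Cfsg.Agent.Lib.Helper94_HermDecomp
import Cfsg.Agent.Lib.Helper94_HermSub
import Cfsg.Agent.Lib.Helper94_QuadGen

set_option autoImplicit false

/-!
Orthogonal rational structures in a hermitian space (odd characteristic): an additive subgroup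
`V₀` of `V`, stable under the fixed field of the involution, with `V = V₀ ⊕ θ V₀`, on which `B`
takes values in the fixed field (so it is a symmetric bilinear form there).  This file sets up the
quadratic space over the fixed field and transfers the general position lemmas for singular
vectors.
-/

namespace Cfsg.Agent.Lib.Helper94_HermOSub

open Module Cfsg.Agent.Lib.Helper94_Symp Cfsg.Agent.Lib.Helper94_Herm
  Cfsg.Agent.Lib.Helper94_HermOrth Cfsg.Agent.Lib.Helper94_HermEich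
  Cfsg.Agent.Lib.Helper94_HermPara Cfsg.Agent.Lib.Helper94_HermTI
  Cfsg.Agent.Lib.Helper94_HermDecomp Cfsg.Agent.Lib.Helper94_HermSub

variable {F V : Type*} [Field F] [AddCommGroup V] [Module F V]
variable {σ : F →+* F} {B : V →ₗ[F] V →ₛₗ[σ] F}

/-- An orthogonal rational structure. -/
structure OForm (B : V →ₗ[F] V →ₛₗ[σ] F) (V₀ : AddSubgroup V) : Prop where
  smul_mem : ∀ (c : F) (v : V), σ c = c → v ∈ V₀ → c • v ∈ V₀
  indep : ∀ (θ : F) (v : V), σ θ ≠ θ → v ∈ V₀ → θ • v ∈ V₀ → v = 0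
  span : ∀ θ : F, σ θ ≠ θ → ∀ x : V, ∃ x₁ ∈ V₀, ∃ x₂ ∈ V₀, x = x₁ + θ • x₂
  val : ∀ u ∈ V₀, ∀ v ∈ V₀, σ (B u v) = B u v

/-- The fixed field of a ring endomorphism of a field. -/
abbrev Fx (σ : F →+* F) : Subfield F := RingHom.eqLocusField σ (RingHom.id F)

lemma mem_Fx {x : F} : x ∈ Fx σ ↔ σ x = x := Iff.rfl

variable {V₀ : AddSubgroup V}

namespace OForm

variable (R : OForm B V₀)

include R in
lemma symm (hB : IsHerm B) {u v : V} (hu : u ∈ V₀) (hv : v ∈ V₀) : B v u = B u v := by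
  rw [hB u v, R.val u hu v hv]

include R in
lemma perp_comp {θ : F} (hθ : σ θ ≠ θ) {z₁ z₂ x : V} (hz₁ : z₁ ∈ V₀) (hz₂ : z₂ ∈ V₀)
    (hx : x ∈ V₀) (h : B (z₁ + θ • z₂) x = 0) : B z₁ x = 0 ∧ B z₂ x = 0 := by
  rw [map_add, map_smul, LinearMap.add_apply, LinearMap.smul_apply, smul_eq_mul] at h
  by_cases hb : B z₂ x = 0
  · rw [hb, mul_zero, add_zero] at h
    exact ⟨h, hb⟩
  · exfalso
    apply hθ
    have hθeq : θ = -(B z₁ x) / (B z₂ x) := by
      field_simp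
      linear_combination h
    rw [hθeq, map_div₀, map_neg, R.val z₁ hz₁ x hx, R.val z₂ hz₂ x hx]

include R in
lemma perp_comp' (hB : IsHerm B) {θ : F} (hθ : σ θ ≠ θ) {z₁ z₂ x : V} (hz₁ : z₁ ∈ V₀)
    (hz₂ : z₂ ∈ V₀) (hx : x ∈ V₀) (h : B x (z₁ + θ • z₂) = 0) : B x z₁ = 0 ∧ B x z₂ = 0 := by
  obtain ⟨h1, h2⟩ := R.perp_comp hθ hz₁ hz₂ hx (herm_eq_zero hB h)
  exact ⟨herm_eq_zero hB h1, herm_eq_zero hB h2⟩

include R in
lemma decomp_unique {θ : F} (hθ : σ θ ≠ θ) {a₁ a₂ b₁ b₂ : V} (ha₁ : a₁ ∈ V₀) (ha₂ : a₂ ∈ V₀)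
    (hb₁ : b₁ ∈ V₀) (hb₂ : b₂ ∈ V₀) (h : a₁ + θ • a₂ = b₁ + θ • b₂) : a₁ = b₁ ∧ a₂ = b₂ := by
  have h1 : θ • (a₂ - b₂) = b₁ - a₁ := by
    rw [smul_sub, sub_eq_sub_iff_add_eq_add]
    rw [add_comm, h, add_comm]
  have h2 : a₂ - b₂ = 0 :=
    R.indep θ _ hθ (V₀.sub_mem ha₂ hb₂) (by rw [h1]; exact V₀.sub_mem hb₁ ha₁)
  rw [h2, smul_zero] at h1
  exact ⟨(sub_eq_zero.mp h1.symm).symm, sub_eq_zero.mp h2⟩

omit R in
lemma not_rat_comp {θ : F} {x₁ x₂ : V} (h₁ : x₁ ∈ V₀) (h₂ : x₂ ∈ V₀)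
    (h : ¬ IsRat F V₀ (x₁ + θ • x₂)) : x₁ ≠ 0 ∧ ∀ l : F, σ l = l → x₂ ≠ l • x₁ := by
  constructor
  · intro h0
    apply h
    exact ⟨θ, x₂, h₂, by rw [h0, zero_add]⟩
  · intro l _ hl
    apply h
    refine ⟨1 + θ * l, x₁, h₁, ?_⟩
    rw [hl, add_smul, one_smul, mul_smul]

include R in
/-- Compatibility of the scalars of two rational points whose sum is a rational point. -/
lemma scalar_step (hσ : Invol σ) (g : V ≃ₗ[F] V) {v₀ v w₀ : V} {μ₀ : F} (hv₀ : v₀ ∈ V₀)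
    (hv : v ∈ V₀) (hv₀0 : v₀ ≠ 0) (hw₀ : w₀ ∈ V₀) (hg₀ : g v₀ = μ₀ • w₀)
    (h : IsRat F V₀ (g v)) (h' : IsRat F V₀ (g (v + v₀))) : ∃ w ∈ V₀, g v = μ₀ • w := by
  have hgv₀ : g v₀ ≠ 0 := fun h0 => hv₀0 (by simpa using h0)
  have hμ₀ : μ₀ ≠ 0 := by
    intro h0
    rw [h0, zero_smul] at hg₀
    exact hgv₀ hg₀
  have hw₀0 : w₀ ≠ 0 := by
    intro h0
    rw [h0, smul_zero] at hg₀
    exact hgv₀ hg₀
  by_cases hv0 : v = 0
  · exact ⟨0, V₀.zero_mem, by rw [hv0, map_zero, smul_zero]⟩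
  obtain ⟨μ', w', hw', hg'⟩ := h
  have hgv : g v ≠ 0 := fun h0 => hv0 (by simpa using h0)
  have hw'0 : w' ≠ 0 := by
    intro h0
    rw [h0, smul_zero] at hg'
    exact hgv hg'
  by_cases hρ : σ (μ' / μ₀) = μ' / μ₀
  · refine ⟨(μ' / μ₀) • w', R.smul_mem _ _ hρ hw', ?_⟩
    rw [hg', smul_smul, mul_div_cancel₀ _ hμ₀]
  · exfalso
    obtain ⟨μ'', w'', hw'', hg''⟩ := h'
    obtain ⟨α, β, hα, hβ, hdec⟩ := decomp hσ hρ (μ'' / μ₀)
    have hμ'' : μ'' = α * μ₀ + β * μ' := by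
      field_simp at hdec
      linear_combination hdec
    rw [map_add, hg', hg₀, hμ'', add_smul, mul_smul, mul_smul] at hg''
    have h1 : (μ' / μ₀) • (β • w'' - w') = w₀ - α • w'' := by
      have h2 : μ₀ • ((μ' / μ₀) • (β • w'' - w')) = μ₀ • (w₀ - α • w'') := by
        rw [smul_smul, mul_div_cancel₀ _ hμ₀, smul_sub, smul_sub, smul_comm μ₀ α w'',
          sub_eq_sub_iff_add_eq_add]
        rw [smul_comm μ' β w'', add_comm (β • μ' • w''), ← hg'', add_comm]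
      exact smul_right_injective V hμ₀ h2
    have hm1 : β • w'' - w' ∈ V₀ := V₀.sub_mem (R.smul_mem _ _ hβ hw'') hw'
    have hm2 : w₀ - α • w'' ∈ V₀ := V₀.sub_mem hw₀ (R.smul_mem _ _ hα hw'')
    have h3 : β • w'' - w' = 0 := R.indep _ _ hρ hm1 (by rw [h1]; exact hm2)
    rw [h3, smul_zero] at h1
    have e1 : w' = β • w'' := (sub_eq_zero.mp h3).symm
    have e0 : w₀ = α • w'' := sub_eq_zero.mp h1.symm
    have hα0 : α ≠ 0 := by
      intro h0
      rw [h0, zero_smul] at e0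
      exact hw₀0 e0
    have hβ0 : β ≠ 0 := by
      intro h0
      rw [h0, zero_smul] at e1
      exact hw'0 e1
    have hκ : g v = g ((μ' * β / (μ₀ * α)) • v₀) := by
      rw [map_smul, hg', hg₀, e1, e0, smul_smul, smul_smul, smul_smul]
      congr 1
      field_simp
    have hv' : v = (μ' * β / (μ₀ * α)) • v₀ := g.injective hκ
    by_cases hκf : σ (μ' * β / (μ₀ * α)) = μ' * β / (μ₀ * α)
    · apply hρ
      have : μ' / μ₀ = (μ' * β / (μ₀ * α)) * (α / β) := by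
        field_simp
      rw [this, map_mul, hκf, map_div₀, hα, hβ]
    · exact hv₀0 (R.indep _ _ hκf hv₀ (by rw [← hv']; exact hv))

/-- The rational vectors as a vector space over the fixed field. -/
def ratSub : Submodule (Fx σ) V where
  carrier := V₀
  add_mem' := V₀.add_mem
  zero_mem' := V₀.zero_mem
  smul_mem' := fun c v hv => R.smul_mem (c : F) v c.2 hv

lemma mem_ratSub {v : V} : v ∈ R.ratSub ↔ v ∈ V₀ := Iff.rfl

/-- The quadratic form on the rational vectors. -/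
def q0 (w : R.ratSub) : Fx σ := ⟨2⁻¹ * B (w : V) (w : V), by
  show σ (2⁻¹ * B (w : V) (w : V)) = 2⁻¹ * B (w : V) (w : V)
  rw [map_mul, map_inv₀, map_ofNat, R.val _ w.2 _ w.2]⟩

/-- The symmetric bilinear form on the rational vectors. -/
def b0 : LinearMap.BilinForm (Fx σ) R.ratSub :=
  LinearMap.mk₂ (Fx σ) (fun u v => (⟨B (u : V) (v : V), R.val _ u.2 _ v.2⟩ : Fx σ))
    (by intro u u' v; apply Subtype.ext; simp)
    (by
      intro c u v
      apply Subtype.ext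
      show B ((c : F) • (u : V)) (v : V) = (c : F) * B (u : V) (v : V)
      rw [map_smul, LinearMap.smul_apply, smul_eq_mul])
    (by intro u v v'; apply Subtype.ext; simp)
    (by
      intro c u v
      apply Subtype.ext
      have hc : σ (c : F) = c := c.2
      show B (u : V) ((c : F) • (v : V)) = (c : F) * B (u : V) (v : V)
      rw [map_smulₛₗ, hc, smul_eq_mul])

lemma b0_apply (u v : R.ratSub) : ((R.b0 u v : Fx σ) : F) = B (u : V) (v : V) := rfl

lemma q0_apply (w : R.ratSub) : ((R.q0 w : Fx σ) : F) = 2⁻¹ * B (w : V) (w : V) := rfl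

lemma q0_smul (c : Fx σ) (w : R.ratSub) : R.q0 (c • w) = c * c * R.q0 w := by
  apply Subtype.ext
  have hc : σ (c : F) = c := c.2
  rw [q0_apply]
  simp only [Submodule.coe_smul, MulMemClass.coe_mul, q0_apply]
  rw [show (c • (w : V)) = (c : F) • (w : V) from rfl]
  simp only [map_smul, map_smulₛₗ, LinearMap.smul_apply, smul_eq_mul, hc]
  ring

lemma q0_add (hB : IsHerm B) (h2 : (2 : F) ≠ 0) (u v : R.ratSub) :
    R.q0 (u + v) = R.q0 u + R.q0 v + R.b0 u v := by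
  apply Subtype.ext
  have hs : B (v : V) (u : V) = B (u : V) (v : V) := R.symm hB u.2 v.2
  simp only [q0_apply, AddMemClass.coe_add, b0_apply, map_add,
    LinearMap.add_apply, hs]
  field_simp
  ring

end OForm

end Cfsg.Agent.Lib.Helper94_HermOSub
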