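import Mathlib
import Cfsg.Agent.Lib.Helper94_HermOSub

set_option autoImplicit false

/-!
Orthogonal rational structures in a hermitian space: general position lemmas for rational
singular vectors, obtained from the quadratic space over the fixed field, and the rational
Eichler elements.
-/

namespace Cfsg.Agent.Lib.Helper94_HermOSub

open Module Cfsg.Agent.Lib.Helper94_Symp Cfsg.Agent.Lib.Helper94_Herm
  Cfsg.Agent.Lib.Helper94_HermOrth Cfsg.Agent.Lib.Helper94_HermEich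
  Cfsg.Agent.Lib.Helper94_HermPara Cfsg.Agent.Lib.Helper94_HermTI
  Cfsg.Agent.Lib.Helper94_HermDecomp Cfsg.Agent.Lib.Helper94_HermSub

variable {F V : Type*} [Field F] [AddCommGroup V] [Module F V]
variable {σ : F →+* F} {B : V →ₗ[F] V →ₛₗ[σ] F} {V₀ : AddSubgroup V}

namespace OForm

variable (R : OForm B V₀)

include R in
lemma b0_nondeg (hσ : Invol σ) (hB : IsHerm B) (hN : NondegOn B ⊤) :
    (R.b0).Nondegenerate := by
  obtain ⟨θ, hθ⟩ := hσ.ne_id
  have key : ∀ w : R.ratSub, (∀ v : R.ratSub, B (w : V) (v : V) = 0) → w = 0 := by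
    intro w hw
    by_contra hw0
    have hw0' : (w : V) ≠ 0 := fun h => hw0 (Subtype.ext h)
    obtain ⟨y, -, hy⟩ := hN _ Submodule.mem_top hw0'
    apply hy
    obtain ⟨y₁, hy₁, y₂, hy₂, rfl⟩ := R.span θ hθ y
    rw [map_add, map_smulₛₗ, hw ⟨y₁, hy₁⟩, hw ⟨y₂, hy₂⟩, smul_zero, add_zero]
  constructor
  · intro w hw
    apply key w
    intro v
    have := congrArg Subtype.val (hw v)
    exact this
  · intro w hw
    apply key w
    intro v
    have := congrArg Subtype.val (hw v)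
    rw [b0_apply] at this
    rw [R.symm hB v.2 w.2]
    exact this

variable [Finite F] [FiniteDimensional F V]

include R in
lemma finrank_le (hσ : Invol σ) : finrank F V ≤ finrank (Fx σ) R.ratSub := by
  haveI : Finite V := Module.finite_of_finite F
  obtain ⟨θ, hθ⟩ := hσ.ne_id
  let b := Module.finBasis (Fx σ) R.ratSub
  have hspan : Submodule.span F (Set.range (fun i => ((b i : R.ratSub) : V))) = ⊤ := by
    rw [eq_top_iff]
    intro x _
    have hmem : ∀ y : R.ratSub, (y : V) ∈ Submodule.span F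
        (Set.range (fun i => ((b i : R.ratSub) : V))) := by
      intro y
      have h1 := b.sum_repr y
      have h2 : (y : V) = ∑ i, ((b.repr y i : Fx σ) : F) • ((b i : R.ratSub) : V) := by
        conv_lhs => rw [← h1]
        rw [Submodule.coe_sum]
        rfl
      rw [h2]
      apply Submodule.sum_mem
      intro i _
      exact Submodule.smul_mem _ _ (Submodule.subset_span ⟨i, rfl⟩)
    obtain ⟨x₁, hx₁, x₂, hx₂, rfl⟩ := R.span θ hθ x
    exact Submodule.add_mem _ (hmem ⟨x₁, hx₁⟩) (Submodule.smul_mem _ _ (hmem ⟨x₂, hx₂⟩))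
  have h1 := finrank_range_le_card (R := F) (fun i => ((b i : R.ratSub) : V))
  rw [Set.finrank, hspan, finrank_top, Fintype.card_fin] at h1
  exact h1

include R in
/-- A nonzero rational singular vector orthogonal to a given list of rational vectors. -/
lemma rat_sing_perp (hσ : Invol σ) (hB : IsHerm B) (h2 : (2 : F) ≠ 0) (l : List V)
    (hl : ∀ x ∈ l, x ∈ V₀) (hlen : l.length + 3 ≤ finrank F V) :
    ∃ w ∈ V₀, w ≠ 0 ∧ B w w = 0 ∧ ∀ p ∈ l, B w p = 0 := by
  have : Finite V := Module.finite_of_finite F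
  have hfr := R.finrank_le hσ
  have hl' : ∀ x ∈ l, x ∈ R.ratSub := hl
  obtain ⟨w, -, hw0, hQw, hlw⟩ := Cfsg.Agent.Lib.Helper94_OrthUni.exists_sing_perp R.q0 R.b0
    R.q0_smul (R.q0_add hB h2)
    (l.pmap (fun x (hx : x ∈ R.ratSub) => (⟨x, hx⟩ : R.ratSub)) hl') ⊤
    (by rw [List.length_pmap, finrank_top]; omega)
  refine ⟨w.1, w.2, fun h => hw0 (Subtype.ext h), ?_, ?_⟩
  · have h3 := congrArg Subtype.val hQw
    rw [q0_apply] at h3
    rcases mul_eq_zero.mp h3 with h | h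
    · exact absurd (inv_eq_zero.mp h) h2
    · exact h
  · intro p hp
    have h3 := hlw ⟨p, hl' p hp⟩ (List.mem_pmap.mpr ⟨p, hp, rfl⟩)
    exact congrArg Subtype.val h3

include R in
/-- A rational singular vector orthogonal to `u` and not to `z`. -/
lemma rat_sno (hσ : Invol σ) (hB : IsHerm B) (hN : NondegOn B ⊤) (h2 : (2 : F) ≠ 0)
    (h5 : 5 ≤ finrank F V) {u z : V} (hu : u ∈ V₀) (hz : z ∈ V₀)
    (h : ∀ t : F, σ t = t → z ≠ t • u) :
    ∃ s ∈ V₀, B s s = 0 ∧ B s u = 0 ∧ B s z ≠ 0 := by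
  have : Finite V := Module.finite_of_finite F
  have hfr := R.finrank_le hσ
  have hW : finrank (Fx σ) (Submodule.span (Fx σ) ({(⟨u, hu⟩ : R.ratSub)} : Set R.ratSub)) ≤ 1 :=
    (finrank_span_le_card ({(⟨u, hu⟩ : R.ratSub)} : Set R.ratSub)).trans (by simp)
  have hb : (⟨z, hz⟩ : R.ratSub) ∉
      Submodule.span (Fx σ) ({(⟨u, hu⟩ : R.ratSub)} : Set R.ratSub) := by
    intro hmem
    obtain ⟨t, ht⟩ := Submodule.mem_span_singleton.mp hmem
    apply h (t : F) t.2
    have h3 := congrArg Subtype.val ht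
    exact h3.symm
  obtain ⟨s, hQs, hsW, hsb⟩ := Cfsg.Agent.Lib.Helper94_QuadGen.sno_gen R.q0 R.b0 R.q0_smul
    (R.q0_add hB h2) (R.b0_nondeg hσ hB hN) _ (by omega) hb
  refine ⟨s.1, s.2, ?_, ?_, ?_⟩
  · have h3 := congrArg Subtype.val hQs
    rw [q0_apply] at h3
    rcases mul_eq_zero.mp h3 with h | h
    · exact absurd (inv_eq_zero.mp h) h2
    · exact h
  · have h3 := hsW ⟨u, hu⟩ (Submodule.mem_span_singleton_self _)
    exact congrArg Subtype.val h3
  · intro h0
    apply hsb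
    apply Subtype.ext
    exact h0

include R in
lemma rat_sno0 (hσ : Invol σ) (hB : IsHerm B) (hN : NondegOn B ⊤) (h2 : (2 : F) ≠ 0)
    (h5 : 5 ≤ finrank F V) {z : V} (hz : z ∈ V₀) (hz0 : z ≠ 0) :
    ∃ s ∈ V₀, B s s = 0 ∧ B s z ≠ 0 := by
  obtain ⟨s, hs, hss, -, hsz⟩ := R.rat_sno hσ hB hN h2 h5 V₀.zero_mem hz
    (fun t _ h => hz0 (by rw [h, smul_zero]))
  exact ⟨s, hs, hss, hsz⟩

include R in
/-- A rational vector orthogonal to a rational singular vector `u` is the sum of two rational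
singular vectors orthogonal to `u`. -/
lemma rat_two_sing (hσ : Invol σ) (hB : IsHerm B) (hN : NondegOn B ⊤) (h2 : (2 : F) ≠ 0)
    (h5 : 5 ≤ finrank F V) {u z : V} (hu : u ∈ V₀) (hz : z ∈ V₀) (huu : B u u = 0)
    (hzu : B z u = 0) :
    ∃ s₁ ∈ V₀, ∃ s₂ ∈ V₀, B s₁ s₁ = 0 ∧ B s₂ s₂ = 0 ∧ B s₁ u = 0 ∧ B s₂ u = 0 ∧
      z = s₁ + s₂ := by
  by_cases hz' : ∃ t : F, σ t = t ∧ z = t • u
  · obtain ⟨t, -, rfl⟩ := hz'
    refine ⟨t • u, hz, 0, V₀.zero_mem, ?_, by simp, hzu, by simp, by simp⟩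
    rw [self_smul, huu, mul_zero]
  · push Not at hz'
    obtain ⟨s, hs, hss, hsu, hsz⟩ := R.rat_sno hσ hB hN h2 h5 hu hz hz'
    have hzs : B z s = B s z := R.symm hB hs hz
    obtain ⟨t, ht⟩ : ∃ t : F, t = 2⁻¹ * B z z / B s z := ⟨_, rfl⟩
    have hσt : σ t = t := by
      rw [ht, map_div₀, map_mul, map_inv₀, map_ofNat, R.val z hz z hz, R.val s hs z hz]
    refine ⟨z - t • s, V₀.sub_mem hz (R.smul_mem _ _ hσt hs), t • s, R.smul_mem _ _ hσt hs,
      ?_, ?_, ?_, ?_, by abel⟩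
    · simp only [map_sub, map_smul, map_smulₛₗ, LinearMap.sub_apply, LinearMap.smul_apply,
        smul_eq_mul, hss, hzs, hσt, mul_zero, sub_zero]
      rw [ht]
      field_simp
      ring
    · rw [self_smul, hss, mul_zero]
    · rw [map_sub, LinearMap.sub_apply, hzu, map_smul, LinearMap.smul_apply, hsu, smul_zero,
        sub_zero]
    · rw [map_smul, LinearMap.smul_apply, hsu, smul_zero]


end OForm

end Cfsg.Agent.Lib.Helper94_HermOSub
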