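import Mathlib
import Cfsg.Agent.Lib.Helper94_HermOSub2

set_option autoImplicit false

/-!
Orthogonal rational structures in a hermitian space: rational Eichler elements, transitivity on
rational singular vectors, and the unipotent radical of a rational singular point.
-/

namespace Cfsg.Agent.Lib.Helper94_HermOSub

open Module Cfsg.Agent.Lib.Helper94_Symp Cfsg.Agent.Lib.Helper94_Herm
  Cfsg.Agent.Lib.Helper94_HermOrth Cfsg.Agent.Lib.Helper94_HermEich
  Cfsg.Agent.Lib.Helper94_HermPara Cfsg.Agent.Lib.Helper94_HermTI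
  Cfsg.Agent.Lib.Helper94_HermDecomp Cfsg.Agent.Lib.Helper94_HermSub

variable {F V : Type*} [Field F] [AddCommGroup V] [Module F V]
variable {σ : F →+* F} {B : V →ₗ[F] V →ₛₗ[σ] F} {V₀ : AddSubgroup V}

lemma eich_neg_apply {w y : V} (hw : B w w = 0) (hy : B y w = 0) (hy' : B w y = 0)
    (hyy : B y y = 0) (x : V) : eich B w (-y) 0 (eich B w y 0 x) = x := by
  have h1 : B (-y) w = 0 := by rw [map_neg, LinearMap.neg_apply, hy, neg_zero]
  have h2 : B w (-y) = 0 := by rw [map_neg, hy', neg_zero]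
  rw [eich_apply B hw hy hy', eich_apply B hw h1 h2]
  simp only [map_add, map_sub, map_smul, map_neg, LinearMap.add_apply, LinearMap.sub_apply,
    LinearMap.smul_apply, LinearMap.neg_apply, smul_eq_mul, hw, hy, hy', hyy, mul_zero, zero_mul,
    add_zero, sub_zero, zero_smul, neg_zero]
  module

lemma eich_inv {w y : V} (hw : B w w = 0) (hy : B y w = 0) (hy' : B w y = 0)
    (hyy : B y y = 0) : (eich B w y 0)⁻¹ = eich B w (-y) 0 := by
  symm
  apply eq_inv_of_mul_eq_one_left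
  ext x
  rw [LinearEquiv.mul_apply, eich_neg_apply hw hy hy' hyy]
  rfl

lemma utv_zero (c : F) : utv B (0 : V) c = 1 := by
  ext x
  rw [utv_apply B (by simp)]
  simp

namespace OForm

variable (R : OForm B V₀)

include R in
lemma eich_maps {p r : V} (hp : p ∈ V₀) (hr : r ∈ V₀) (hpp : B p p = 0) (hrp : B r p = 0)
    (hpr : B p r = 0) {x : V} (hx : x ∈ V₀) : eich B p r 0 x ∈ V₀ := by
  rw [eich_apply B hpp hrp hpr, zero_mul, zero_smul, add_zero]
  exact V₀.sub_mem (V₀.add_mem hx (R.smul_mem _ _ (R.val x hx p hp) hr))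
    (R.smul_mem _ _ (R.val x hx r hr) hp)

variable (K0 : Subgroup (V ≃ₗ[F] V))

include R in
/-- Rational Eichler elements stabilise the rational structure. -/
lemma rat_eich_mem (hB : IsHerm B)
    (hK1 : ∀ (φ : Dual F V) (v : V) (h : φ v = 0), LinearEquiv.transvection h ∈ K0)
    {p r : V} (hp : p ∈ V₀) (hr : r ∈ V₀) (hpp : B p p = 0) (hrr : B r r = 0)
    (hrp : B r p = 0) : eich B p r 0 ∈ setStab (V₀ : Set V) ⊓ (uG B ⊓ K0) := by
  have hpr : B p r = 0 := herm_eq_zero hB hrp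
  refine ⟨?_, eich_mem_uG hB (by rw [hrr]; simp), eich_mem_of_transvections B K0 hK1⟩
  intro x
  constructor
  · intro hx
    exact R.eich_maps hp hr hpp hrp hpr hx
  · intro hy
    have h1 : B (-r) p = 0 := by rw [map_neg, LinearMap.neg_apply, hrp, neg_zero]
    have h2 : B p (-r) = 0 := by rw [map_neg, hpr, neg_zero]
    have h3 := R.eich_maps hp (V₀.neg_mem hr) hpp h1 h2 hy
    rw [eich_neg_apply hpp hrp hpr hrr] at h3
    exact h3

variable [Finite F] [FiniteDimensional F V]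

include R in
/-- Two orthogonal, independent rational singular vectors are conjugate under the stabiliser. -/
lemma trans_orth (hσ : Invol σ) (hB : IsHerm B) (hN : NondegOn B ⊤) (h2 : (2 : F) ≠ 0)
    (h5 : 5 ≤ finrank F V)
    (hK1 : ∀ (φ : Dual F V) (v : V) (h : φ v = 0), LinearEquiv.transvection h ∈ K0)
    {p p' : V} (hp : p ∈ V₀) (hp' : p' ∈ V₀) (hpp : B p p = 0) (hp'p' : B p' p' = 0)
    (hpp' : B p p' = 0) (hind : ∀ t : F, σ t = t → p ≠ t • (p' - p)) :
    ∃ m ∈ setStab (V₀ : Set V) ⊓ (uG B ⊓ K0), m p = p' := by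
  have hp'p : B p' p = 0 := herm_eq_zero hB hpp'
  have hd : p' - p ∈ V₀ := V₀.sub_mem hp' hp
  have hdd : B (p' - p) (p' - p) = 0 := by
    simp only [map_sub, LinearMap.sub_apply, hpp, hp'p', hpp', hp'p, sub_zero]
  obtain ⟨s, hs, hss, hsd, hsp⟩ := R.rat_sno hσ hB hN h2 h5 hd hp hind
  have hps : B p s = B s p := R.symm hB hs hp
  have hds : B (p' - p) s = 0 := herm_eq_zero hB hsd
  have hσt : σ (B s p)⁻¹ = (B s p)⁻¹ := by rw [map_inv₀, R.val s hs p hp]
  have hts : (B s p)⁻¹ • s ∈ V₀ := R.smul_mem _ _ hσt hs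
  have h1 : B ((B s p)⁻¹ • s) ((B s p)⁻¹ • s) = 0 := by rw [self_smul, hss, mul_zero]
  have h3 : B (p' - p) ((B s p)⁻¹ • s) = 0 := by rw [map_smulₛₗ, hds, smul_zero]
  have h4 : B ((B s p)⁻¹ • s) (p' - p) = 0 := herm_eq_zero hB h3
  refine ⟨eich B ((B s p)⁻¹ • s) (p' - p) 0, R.rat_eich_mem K0 hB hK1 hts hd h1 hdd h3, ?_⟩
  rw [eich_apply B h1 h3 h4, zero_mul, zero_smul, add_zero, map_smulₛₗ, hσt, hps, smul_eq_mul,
    inv_mul_cancel₀ hsp, one_smul, map_sub, hpp', hpp, sub_zero, zero_smul, sub_zero]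
  abel

variable {M : Subgroup (V ≃ₗ[F] V)}

include R in
/-- If one nonzero rational singular vector has its transvections in `M`, all of them do. -/
lemma rat_sing_UTV (hσ : Invol σ) (hB : IsHerm B) (hN : NondegOn B ⊤) (h2 : (2 : F) ≠ 0)
    (h7 : 7 ≤ finrank F V)
    (hK1 : ∀ (φ : Dual F V) (v : V) (h : φ v = 0), LinearEquiv.transvection h ∈ K0)
    (hHM : setStab (V₀ : Set V) ⊓ (uG B ⊓ K0) ≤ M)
    {p₀ : V} (hp₀ : p₀ ∈ V₀) (hp₀0 : p₀ ≠ 0) (hp₀p₀ : B p₀ p₀ = 0) (hU : p₀ ∈ UTV B M)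
    {p : V} (hp : p ∈ V₀) (hpp : B p p = 0) : p ∈ UTV B M := by
  by_cases hp0 : p = 0
  · intro c _
    rw [hp0, utv_zero]
    exact M.one_mem
  obtain ⟨s₀, hs₀, -, hs₀p⟩ := R.rat_sno0 hσ hB hN h2 (by omega) hp₀ hp₀0
  obtain ⟨s, hs, -, hsp⟩ := R.rat_sno0 hσ hB hN h2 (by omega) hp hp0
  obtain ⟨q, hq, hq0, hqq, hql⟩ := R.rat_sing_perp hσ hB h2 [p₀, p, s₀, s]
    (by
      intro x hx
      simp only [List.mem_cons, List.not_mem_nil, or_false] at hx
      rcases hx with rfl | rfl | rfl | rfl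
      · exact hp₀
      · exact hp
      · exact hs₀
      · exact hs)
    (by simp only [List.length_cons, List.length_nil]; omega)
  have hq1 : B q p₀ = 0 := hql p₀ (by simp)
  have hq2 : B q p = 0 := hql p (by simp)
  have hq3 : B q s₀ = 0 := hql s₀ (by simp)
  have hq4 : B q s = 0 := hql s (by simp)
  -- p₀ to q
  obtain ⟨m₁, hm₁, hm₁p⟩ := R.trans_orth K0 hσ hB hN h2 (by omega) hK1 hp₀ hq hp₀p₀ hqq
    (herm_eq_zero hB hq1) (by
      intro t ht h
      -- (1 + t) p₀ = t q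
      have h1 : (1 + t) • p₀ = t • q := by
        rw [add_smul, one_smul]
        nth_rewrite 1 [h]
        rw [smul_sub]
        abel
      have h3 := congrArg (fun x => B s₀ x) h1
      simp only [map_smulₛₗ, smul_eq_mul, herm_eq_zero hB hq3, mul_zero] at h3
      have h4 : σ (1 + t) = 0 := (mul_eq_zero.mp h3).resolve_right hs₀p
      have h5 : (1 + t) = 0 := by
        have := congrArg σ h4
        rwa [hσ.invol, map_zero] at this
      rw [h5, zero_smul] at h1
      have ht0 : t ≠ 0 := by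
        intro h0
        rw [h0, zero_smul] at h
        exact hp₀0 h
      exact hq0 ((smul_eq_zero.mp h1.symm).resolve_left ht0))
  obtain ⟨m₂, hm₂, hm₂p⟩ := R.trans_orth K0 hσ hB hN h2 (by omega) hK1 hq hp hqq hpp hq2 (by
      intro t ht h
      have h1 : (1 + t) • q = t • p := by
        rw [add_smul, one_smul]
        nth_rewrite 1 [h]
        rw [smul_sub]
        abel
      have h3 := congrArg (fun x => B s x) h1
      simp only [map_smulₛₗ, smul_eq_mul, herm_eq_zero hB hq4, mul_zero] at h3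
      have h4 : σ t = 0 := (mul_eq_zero.mp h3.symm).resolve_right hsp
      have h5 : t = 0 := by
        have := congrArg σ h4
        rwa [hσ.invol, map_zero] at this
      rw [h5, zero_smul] at h
      exact hq0 h)
  have h1 : q ∈ UTV B M := by
    rw [← hm₁p]
    exact UTV_map (hHM hm₁) hm₁.2.1 hU
  rw [← hm₂p]
  exact UTV_map (hHM hm₂) hm₂.2.1 h1

end OForm

end Cfsg.Agent.Lib.Helper94_HermOSub
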