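import Mathlib
import Cfsg.Agent.Lib.Helper94_HermOSub3

set_option autoImplicit false

/-!
Orthogonal rational structures in a hermitian space: once the transvections with rational
singular centres lie in an overgroup `M` of the stabiliser, the full unipotent radical of every
rational singular point lies in `M`, and then all unitary transvections do.
-/

namespace Cfsg.Agent.Lib.Helper94_HermOSub

open Module Cfsg.Agent.Lib.Helper94_Symp Cfsg.Agent.Lib.Helper94_Herm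
  Cfsg.Agent.Lib.Helper94_HermOrth Cfsg.Agent.Lib.Helper94_HermEich
  Cfsg.Agent.Lib.Helper94_HermPara Cfsg.Agent.Lib.Helper94_HermTI
  Cfsg.Agent.Lib.Helper94_HermDecomp Cfsg.Agent.Lib.Helper94_HermSub

variable {F V : Type*} [Field F] [AddCommGroup V] [Module F V]
variable {σ : F →+* F} {B : V →ₗ[F] V →ₛₗ[σ] F} {V₀ : AddSubgroup V}

/-- All Eichler elements with the given pair of vectors lie in `M`. -/
def InQ (B : V →ₗ[F] V →ₛₗ[σ] F) (M : Subgroup (V ≃ₗ[F] V)) (u z : V) : Prop :=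
  ∀ c, c + σ c = -(B z z) → eich B u z c ∈ M

variable {M : Subgroup (V ≃ₗ[F] V)}

lemma InQ_of_one {u z : V} (hu : u ∈ UTV B M) (huu : B u u = 0) (hzu : B z u = 0)
    (huz : B u z = 0) {c₀ : F} (hc₀ : c₀ + σ c₀ = -(B z z)) (h : eich B u z c₀ ∈ M) :
    InQ B M u z := by
  intro c hc
  have hd : σ (c - c₀) = -(c - c₀) := by
    rw [map_sub]
    linear_combination hc - hc₀
  have h1 := eich_mul_utv huu hzu huz c₀ (c - c₀)
  rw [add_sub_cancel] at h1
  rw [← h1]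
  exact M.mul_mem h (hu _ hd)

lemma InQ_add (hσ : Invol σ) (hB : IsHerm B) {u z₁ z₂ : V} (hu : u ∈ UTV B M)
    (huu : B u u = 0) (h1 : B z₁ u = 0) (h2 : B z₂ u = 0) (hq1 : InQ B M u z₁)
    (hq2 : InQ B M u z₂) : InQ B M u (z₁ + z₂) := by
  have h1' : B u z₁ = 0 := herm_eq_zero hB h1
  have h2' : B u z₂ = 0 := herm_eq_zero hB h2
  obtain ⟨c₁, hc₁⟩ := tr_surj hσ (-(B z₁ z₁)) (by rw [map_neg, herm_self hB])
  obtain ⟨c₂, hc₂⟩ := tr_surj hσ (-(B z₂ z₂)) (by rw [map_neg, herm_self hB])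
  have hm := M.mul_mem (hq1 c₁ hc₁) (hq2 c₂ hc₂)
  rw [eich_mul huu h1 h1' h2 h2'] at hm
  refine InQ_of_one hu huu (by rw [map_add, LinearMap.add_apply, h1, h2, add_zero])
    (by rw [map_add, h1', h2', add_zero]) ?_ hm
  rw [self_add hB, map_sub, map_add, hB z₁ z₂, hσ.invol]
  linear_combination hc₁ + hc₂

lemma eich_skew_eq (hB : IsHerm B) {u s : V} (huu : B u u = 0) (hss : B s s = 0)
    (hsu : B s u = 0) {l : F} (hl : σ l = -l) :
    eich B u (l • s) 0 = utv B (u + s) l * (utv B u (-l) * utv B s (-l)) := by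
  have hus : B u s = 0 := herm_eq_zero hB hsu
  have h1 : B (l • s) u = 0 := by rw [map_smul, LinearMap.smul_apply, hsu, smul_zero]
  have h2 : B u (l • s) = 0 := by rw [map_smulₛₗ, hus, smul_zero]
  have h3 : B (u + s) (u + s) = 0 := by
    simp only [map_add, LinearMap.add_apply, huu, hss, hsu, hus, add_zero]
  ext x
  rw [LinearEquiv.mul_apply, LinearEquiv.mul_apply, eich_apply B huu h1 h2, utv_apply B hss,
    utv_apply B huu, utv_apply B h3]
  simp only [map_add, map_smul, map_smulₛₗ, LinearMap.add_apply, LinearMap.smul_apply,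
    smul_eq_mul, huu, hss, hsu, hus, hl, mul_zero, add_zero, zero_mul, zero_smul]
  module

namespace OForm

variable (R : OForm B V₀) (K0 : Subgroup (V ≃ₗ[F] V)) [Finite F] [FiniteDimensional F V]

include R in
/-- The unipotent radical of a rational singular point lies in `M`. -/
lemma InQ_all (hσ : Invol σ) (hB : IsHerm B) (hN : NondegOn B ⊤) (h2 : (2 : F) ≠ 0)
    (h5 : 5 ≤ finrank F V)
    (hK1 : ∀ (φ : Dual F V) (v : V) (h : φ v = 0), LinearEquiv.transvection h ∈ K0)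
    (hHM : setStab (V₀ : Set V) ⊓ (uG B ⊓ K0) ≤ M)
    (hrs : ∀ p ∈ V₀, B p p = 0 → p ∈ UTV B M)
    {u : V} (hu : u ∈ V₀) (huu : B u u = 0) {z : V} (hzu : B z u = 0) : InQ B M u z := by
  have huU : u ∈ UTV B M := hrs u hu huu
  obtain ⟨θ, hθ0, hθ⟩ := exists_skew hσ
  have hθ' : σ θ ≠ θ := by
    rw [hθ]
    intro h
    apply hθ0
    have h3 : (2 : F) * θ = 0 := by linear_combination -h
    exact (mul_eq_zero.mp h3).resolve_left h2
  -- rational singular vectors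
  have hsing : ∀ s ∈ V₀, B s s = 0 → B s u = 0 → InQ B M u s := by
    intro s hs hss hsu
    refine InQ_of_one huU huu hsu (herm_eq_zero hB hsu) (c₀ := 0) (by rw [hss]; simp) ?_
    exact hHM (R.rat_eich_mem K0 hB hK1 hu hs huu hss hsu)
  have hskew : ∀ s ∈ V₀, B s s = 0 → B s u = 0 → InQ B M u (θ • s) := by
    intro s hs hss hsu
    have hus : B u s = 0 := herm_eq_zero hB hsu
    have h1 : B (θ • s) u = 0 := by rw [map_smul, LinearMap.smul_apply, hsu, smul_zero]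
    have h3 : B (u + s) (u + s) = 0 := by
      simp only [map_add, LinearMap.add_apply, huu, hss, hsu, hus, add_zero]
    refine InQ_of_one huU huu h1 (herm_eq_zero hB h1) (c₀ := 0)
      (by rw [self_smul, hss]; simp) ?_
    rw [eich_skew_eq hB huu hss hsu hθ]
    have hθn : σ (-θ) = -(-θ) := by rw [map_neg, hθ]
    exact M.mul_mem (hrs _ (V₀.add_mem hu hs) h3 _ hθ)
      (M.mul_mem (huU _ hθn) (hrs s hs hss _ hθn))
  have hrat : ∀ r ∈ V₀, B r u = 0 → InQ B M u r := by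
    intro r hr hru
    obtain ⟨s₁, hs₁, s₂, hs₂, h11, h22, h1u, h2u, rfl⟩ :=
      R.rat_two_sing hσ hB hN h2 h5 hu hr huu hru
    exact InQ_add hσ hB huU huu h1u h2u (hsing s₁ hs₁ h11 h1u) (hsing s₂ hs₂ h22 h2u)
  have hrat' : ∀ r ∈ V₀, B r u = 0 → InQ B M u (θ • r) := by
    intro r hr hru
    obtain ⟨s₁, hs₁, s₂, hs₂, h11, h22, h1u, h2u, rfl⟩ :=
      R.rat_two_sing hσ hB hN h2 h5 hu hr huu hru
    rw [smul_add]
    exact InQ_add hσ hB huU huu
      (by rw [map_smul, LinearMap.smul_apply, h1u, smul_zero])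
      (by rw [map_smul, LinearMap.smul_apply, h2u, smul_zero])
      (hskew s₁ hs₁ h11 h1u) (hskew s₂ hs₂ h22 h2u)
  obtain ⟨z₁, hz₁, z₂, hz₂, rfl⟩ := R.span θ hθ' z
  obtain ⟨e1, e2⟩ := R.perp_comp hθ' hz₁ hz₂ hu hzu
  exact InQ_add hσ hB huU huu e1 (by rw [map_smul, LinearMap.smul_apply, e2, smul_zero])
    (hrat z₁ hz₁ e1) (hrat' z₂ hz₂ e2)

include R in
/-- An isotropic vector which is not orthogonal to some rational singular vector has its
transvections in `M`. -/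
lemma iso_UTV_of_ne (hσ : Invol σ) (hB : IsHerm B) (hN : NondegOn B ⊤) (h2 : (2 : F) ≠ 0)
    (h5 : 5 ≤ finrank F V)
    (hK1 : ∀ (φ : Dual F V) (v : V) (h : φ v = 0), LinearEquiv.transvection h ∈ K0)
    (hHM : setStab (V₀ : Set V) ⊓ (uG B ⊓ K0) ≤ M)
    (hrs : ∀ p ∈ V₀, B p p = 0 → p ∈ UTV B M)
    {u : V} (hu : u ∈ V₀) (huu : B u u = 0) {y : V} (hyy : B y y = 0) (hyu : B y u ≠ 0) :
    y ∈ UTV B M := by
  have hu0 : u ≠ 0 := by
    intro h
    apply hyu
    rw [h, map_zero]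
  obtain ⟨s, hs, hss, hsu⟩ := R.rat_sno0 hσ hB hN h2 h5 hu hu0
  have hσt : σ (B s u)⁻¹ = (B s u)⁻¹ := by rw [map_inv₀, R.val s hs u hu]
  obtain ⟨u', hu'def⟩ : ∃ u', u' = (B s u)⁻¹ • s := ⟨_, rfl⟩
  have hu' : u' ∈ V₀ := by rw [hu'def]; exact R.smul_mem _ _ hσt hs
  have hu'u' : B u' u' = 0 := by rw [hu'def, self_smul, hss, mul_zero]
  have hu'u : B u' u = 1 := by
    rw [hu'def, map_smul, LinearMap.smul_apply, smul_eq_mul, inv_mul_cancel₀ hsu]
  obtain ⟨y', hy'def⟩ : ∃ y', y' = (B y u)⁻¹ • y := ⟨_, rfl⟩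
  have hy'y' : B y' y' = 0 := by rw [hy'def, self_smul, hyy, mul_zero]
  have hy'u : B y' u = 1 := by
    rw [hy'def, map_smul, LinearMap.smul_apply, smul_eq_mul, inv_mul_cancel₀ hyu]
  have hzu : B (y' - u') u = 0 := by
    rw [map_sub, LinearMap.sub_apply, hy'u, hu'u, sub_self]
  have huz : B u (y' - u') = 0 := herm_eq_zero hB hzu
  have hc : B u' y' + σ (B u' y') = -(B (y' - u') (y' - u')) := by
    simp only [map_sub, LinearMap.sub_apply, hy'y', hu'u', hB u' y']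
    ring
  have hE : eich B u (y' - u') (B u' y') ∈ M :=
    R.InQ_all K0 hσ hB hN h2 h5 hK1 hHM hrs hu huu hzu _ hc
  have hEU : eich B u (y' - u') (B u' y') ∈ uG B := eich_mem_uG hB hc
  have hEu' : eich B u (y' - u') (B u' y') u' = y' := by
    rw [eich_apply B huu hzu huz, hu'u, map_sub, hu'u', sub_zero, one_smul, mul_one]
    abel
  have h1 : y' ∈ UTV B M := by
    rw [← hEu']
    exact UTV_map hE hEU (hrs u' hu' hu'u')
  have h3 : y = (B y u) • y' := by
    rw [hy'def, smul_smul, mul_inv_cancel₀ hyu, one_smul]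
  rw [h3]
  exact UTV_smul hσ _ h1

include R in
/-- All isotropic vectors have their transvections in `M`. -/
lemma iso_UTV_all (hσ : Invol σ) (hB : IsHerm B) (hN : NondegOn B ⊤) (h2 : (2 : F) ≠ 0)
    (h5 : 5 ≤ finrank F V)
    (hK1 : ∀ (φ : Dual F V) (v : V) (h : φ v = 0), LinearEquiv.transvection h ∈ K0)
    (hHM : setStab (V₀ : Set V) ⊓ (uG B ⊓ K0) ≤ M)
    (hrs : ∀ p ∈ V₀, B p p = 0 → p ∈ UTV B M)
    {y : V} (hyy : B y y = 0) : y ∈ UTV B M := by
  by_cases hy0 : y = 0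
  · intro c _
    rw [hy0, utv_zero]
    exact M.one_mem
  obtain ⟨θ, hθ'⟩ := hσ.ne_id
  obtain ⟨y₁, hy₁, y₂, hy₂, hy⟩ := R.span θ hθ' y
  have hex : ∃ s ∈ V₀, B s s = 0 ∧ B y s ≠ 0 := by
    by_cases h1 : y₁ = 0
    · have h20 : y₂ ≠ 0 := by
        intro h20
        apply hy0
        rw [hy, h1, h20, smul_zero, add_zero]
      obtain ⟨s, hs, hss, hsy⟩ := R.rat_sno0 hσ hB hN h2 h5 hy₂ h20
      refine ⟨s, hs, hss, ?_⟩
      intro h0
      rw [hy] at h0
      obtain ⟨-, e2⟩ := R.perp_comp hθ' hy₁ hy₂ hs h0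
      exact hsy (herm_eq_zero hB e2)
    · obtain ⟨s, hs, hss, hsy⟩ := R.rat_sno0 hσ hB hN h2 h5 hy₁ h1
      refine ⟨s, hs, hss, ?_⟩
      intro h0
      rw [hy] at h0
      obtain ⟨e1, -⟩ := R.perp_comp hθ' hy₁ hy₂ hs h0
      exact hsy (herm_eq_zero hB e1)
  obtain ⟨s, hs, hss, hys⟩ := hex
  exact R.iso_UTV_of_ne K0 hσ hB hN h2 h5 hK1 hHM hrs hs hss hyy hys

end OForm

end Cfsg.Agent.Lib.Helper94_HermOSub
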