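import Mathlib
import Cfsg.Agent.Lib.Helper94_HermOSub4
import Cfsg.Agent.Lib.Helper94_HermTrans

set_option autoImplicit false

/-!
Orthogonal rational structures in a hermitian space: an element of the special unitary group
which does not stabilise the structure up to scalars generates, together with the stabiliser,
the transvections with a rational singular centre.  The stabiliser is a maximal subgroup.
-/

namespace Cfsg.Agent.Lib.Helper94_HermOSub

open Module Cfsg.Agent.Lib.Helper94_Symp Cfsg.Agent.Lib.Helper94_Herm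
  Cfsg.Agent.Lib.Helper94_HermOrth Cfsg.Agent.Lib.Helper94_HermEich
  Cfsg.Agent.Lib.Helper94_HermPara Cfsg.Agent.Lib.Helper94_HermTI
  Cfsg.Agent.Lib.Helper94_HermDecomp Cfsg.Agent.Lib.Helper94_HermSub
  Cfsg.Agent.Lib.Helper94_HermTrans

variable {F V : Type*} [Field F] [AddCommGroup V] [Module F V]
variable {σ : F →+* F} {B : V →ₗ[F] V →ₛₗ[σ] F} {V₀ : AddSubgroup V}

namespace OForm

variable (R : OForm B V₀) (K0 : Subgroup (V ≃ₗ[F] V)) [Finite F] [FiniteDimensional F V]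

include R in
/-- An invertible map sending every rational singular vector to a rational point scales the
structure. -/
lemma exists_scalar_sing (hσ : Invol σ) (hB : IsHerm B) (hN : NondegOn B ⊤) (h2 : (2 : F) ≠ 0)
    (h5 : 5 ≤ finrank F V) (g : V ≃ₗ[F] V)
    (h : ∀ s ∈ V₀, B s s = 0 → IsRat F V₀ (g s)) :
    ∃ μ : F, μ ≠ 0 ∧ ∀ v ∈ V₀, ∃ w ∈ V₀, g v = μ • w := by
  obtain ⟨s₀, hs₀, hs₀0, hs₀s₀, -⟩ := R.rat_sing_perp hσ hB h2 [] (by simp)
    (by simp only [List.length_nil]; omega)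
  obtain ⟨μ₀, w₀, hw₀, hg₀⟩ := h s₀ hs₀ hs₀s₀
  have hgs₀ : g s₀ ≠ 0 := fun h0 => hs₀0 (by simpa using h0)
  have hμ₀ : μ₀ ≠ 0 := by
    intro h0
    rw [h0, zero_smul] at hg₀
    exact hgs₀ hg₀
  have step : ∀ t ∈ V₀, t ≠ 0 → B t t = 0 → (∃ w ∈ V₀, g t = μ₀ • w) →
      ∀ s ∈ V₀, B s s = 0 → B s t = 0 → ∃ w ∈ V₀, g s = μ₀ • w := by
    intro t ht ht0 htt ⟨wt, hwt, hgt⟩ s hs hss hst
    have hts : B t s = 0 := herm_eq_zero hB hst
    have hsum : B (s + t) (s + t) = 0 := by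
      simp only [map_add, LinearMap.add_apply, hss, htt, hst, hts, add_zero]
    exact R.scalar_step hσ g ht hs ht0 hwt hgt (h s hs hss) (h _ (V₀.add_mem hs ht) hsum)
  have hsing : ∀ s ∈ V₀, B s s = 0 → ∃ w ∈ V₀, g s = μ₀ • w := by
    intro s hs hss
    obtain ⟨t, ht, ht0, htt, htl⟩ := R.rat_sing_perp hσ hB h2 [s, s₀]
      (by
        intro x hx
        simp only [List.mem_cons, List.not_mem_nil, or_false] at hx
        rcases hx with rfl | rfl
        · exact hs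
        · exact hs₀)
      (by simp only [List.length_cons, List.length_nil]; omega)
    have hts : B t s = 0 := htl s (by simp)
    have hts₀ : B t s₀ = 0 := htl s₀ (by simp)
    have h1 := step s₀ hs₀ hs₀0 hs₀s₀ ⟨w₀, hw₀, hg₀⟩ t ht htt hts₀
    exact step t ht ht0 htt h1 s hs hss (herm_eq_zero hB hts)
  refine ⟨μ₀, hμ₀, ?_⟩
  intro v hv
  obtain ⟨s₁, hs₁, s₂, hs₂, h11, h22, -, -, rfl⟩ :=
    R.rat_two_sing hσ hB hN h2 h5 V₀.zero_mem hv (by simp) (by simp)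
  obtain ⟨w₁, hw₁, hg₁⟩ := hsing s₁ hs₁ h11
  obtain ⟨w₂, hw₂, hg₂⟩ := hsing s₂ hs₂ h22
  exact ⟨w₁ + w₂, V₀.add_mem hw₁ hw₂, by rw [map_add, hg₁, hg₂, smul_add]⟩

variable {M : Subgroup (V ≃ₗ[F] V)}

include R in
/-- The descent: from an element moving a rational singular vector to a nonrational point to the
transvections with a rational singular centre. -/
lemma stepA (hσ : Invol σ) (hB : IsHerm B) (hN : NondegOn B ⊤) (h2 : (2 : F) ≠ 0)
    (h9 : 9 ≤ finrank F V)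
    (hK1 : ∀ (φ : Dual F V) (v : V) (h : φ v = 0), LinearEquiv.transvection h ∈ K0)
    (hHM : setStab (V₀ : Set V) ⊓ (uG B ⊓ K0) ≤ M)
    {g : V ≃ₗ[F] V} (hgM : g ∈ M) (hgU : g ∈ uG B) {u : V} (hu : u ∈ V₀) (huu : B u u = 0)
    (hgu : ¬ IsRat F V₀ (g u)) : ∃ p ∈ V₀, p ≠ 0 ∧ B p p = 0 ∧ p ∈ UTV B M := by
  obtain ⟨θ, hθ0, hθ⟩ := exists_skew hσ
  have hθ' : σ θ ≠ θ := by
    rw [hθ]
    intro h
    apply hθ0
    have h3 : (2 : F) * θ = 0 := by linear_combination -h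
    exact (mul_eq_zero.mp h3).resolve_left h2
  obtain ⟨a, ha⟩ : ∃ a, a = g u := ⟨_, rfl⟩
  rw [← ha] at hgu
  have haa : B a a = 0 := by rw [ha, hgU, huu]
  obtain ⟨a₁, ha₁, a₂, ha₂, hadec⟩ := R.span θ hθ' a
  -- the vector r
  obtain ⟨r, hr, hr0, hrr, hrl⟩ := R.rat_sing_perp hσ hB h2 [a₁, a₂]
    (by
      intro x hx
      simp only [List.mem_cons, List.not_mem_nil, or_false] at hx
      rcases hx with rfl | rfl
      · exact ha₁
      · exact ha₂)
    (by simp only [List.length_cons, List.length_nil]; omega)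
  have hra₁ : B r a₁ = 0 := hrl a₁ (by simp)
  have hra₂ : B r a₂ = 0 := hrl a₂ (by simp)
  have hra : B r a = 0 := by
    rw [hadec, map_add, map_smulₛₗ, hra₁, hra₂, smul_zero, add_zero]
  have har : B a r = 0 := herm_eq_zero hB hra
  -- its preimage
  obtain ⟨ρ, hρ⟩ : ∃ ρ, ρ = g⁻¹ r := ⟨_, rfl⟩
  have hgρ : g ρ = r := by rw [hρ, apply_inv_apply']
  have hρu : B ρ u = 0 := by
    rw [← hgU, hgρ, ← ha]
    exact hra
  obtain ⟨ρ₁, hρ₁, ρ₂, hρ₂, hρdec⟩ := R.span θ hθ' ρ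
  have hnot : ¬ ((∃ t : F, σ t = t ∧ ρ₁ = t • u) ∧ (∃ t : F, σ t = t ∧ ρ₂ = t • u)) := by
    rintro ⟨⟨t₁, -, h1⟩, ⟨t₂, -, h2'⟩⟩
    have hρ' : ρ = (t₁ + θ * t₂) • u := by rw [hρdec, h1, h2', add_smul, mul_smul]
    have hr' : r = (t₁ + θ * t₂) • a := by rw [← hgρ, hρ', map_smul, ha]
    have hμ : (t₁ + θ * t₂) ≠ 0 := by
      intro h0
      rw [h0, zero_smul] at hr'
      exact hr0 hr'
    apply hgu
    exact ⟨(t₁ + θ * t₂)⁻¹, r, hr, by rw [hr', smul_smul, inv_mul_cancel₀ hμ, one_smul]⟩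
  have hexw : ∃ w ∈ V₀, B w w = 0 ∧ B w u = 0 ∧ B w ρ ≠ 0 := by
    by_cases c1 : ∃ t : F, σ t = t ∧ ρ₁ = t • u
    · have c2 : ¬ ∃ t : F, σ t = t ∧ ρ₂ = t • u := fun c2 => hnot ⟨c1, c2⟩
      push Not at c2
      obtain ⟨w, hw, hww, hwu, hwρ⟩ := R.rat_sno hσ hB hN h2 (by omega) hu hρ₂ c2
      refine ⟨w, hw, hww, hwu, ?_⟩
      intro h0
      rw [hρdec] at h0
      exact hwρ (R.perp_comp' hB hθ' hρ₁ hρ₂ hw h0).2
    · push Not at c1
      obtain ⟨w, hw, hww, hwu, hwρ⟩ := R.rat_sno hσ hB hN h2 (by omega) hu hρ₁ c1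
      refine ⟨w, hw, hww, hwu, ?_⟩
      intro h0
      rw [hρdec] at h0
      exact hwρ (R.perp_comp' hB hθ' hρ₁ hρ₂ hw h0).1
  obtain ⟨w, hw, hww, hwu, hwρ⟩ := hexw
  obtain ⟨b, hb⟩ : ∃ b, b = g w := ⟨_, rfl⟩
  have hbb : B b b = 0 := by rw [hb, hgU, hww]
  have hba : B b a = 0 := by rw [hb, ha, hgU, hwu]
  have hab : B a b = 0 := herm_eq_zero hB hba
  have hbr : B b r ≠ 0 := by
    rw [hb, ← hgρ, hgU]
    exact hwρ
  -- the first Eichler element
  have hE : eich B a b 0 ∈ M := by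
    have h1 := hHM (R.rat_eich_mem K0 hB hK1 hu hw huu hww hwu)
    have h3 := conj_eich hgU u w 0
    rw [ha, hb, ← h3]
    exact M.mul_mem (M.mul_mem hgM h1) (M.inv_mem hgM)
  obtain ⟨lam, hlam⟩ : ∃ l, l = -(B b r) := ⟨_, rfl⟩
  have hlam0 : lam ≠ 0 := by
    rw [hlam]
    exact neg_ne_zero.mpr hbr
  have hσlam0 : σ lam ≠ 0 := (map_ne_zero σ).mpr hlam0
  obtain ⟨a', ha'⟩ : ∃ a', a' = (-(σ lam)) • a := ⟨_, rfl⟩
  obtain ⟨a'₁, ha'₁, a'₂, ha'₂, ha'dec⟩ := R.span θ hθ' a'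
  have ha'₂0 : a'₂ ≠ 0 := by
    intro h0
    apply hgu
    refine ⟨(-(σ lam))⁻¹, a'₁, ha'₁, ?_⟩
    have h3 : a' = a'₁ := by rw [ha'dec, h0, smul_zero, add_zero]
    rw [← h3, ha', smul_smul, inv_mul_cancel₀ (neg_ne_zero.mpr hσlam0), one_smul]
  obtain ⟨xs, hxs, -, hxsa⟩ := R.rat_sno0 hσ hB hN h2 (by omega) ha'₂ ha'₂0
  obtain ⟨b₁, hb₁, b₂, hb₂, hbdec⟩ := R.span θ hθ' b
  obtain ⟨p, hp, hp0, hpp, hpl⟩ := R.rat_sing_perp hσ hB h2 [a₁, a₂, b₁, b₂, r, xs]
    (by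
      intro x hx
      simp only [List.mem_cons, List.not_mem_nil, or_false] at hx
      rcases hx with rfl | rfl | rfl | rfl | rfl | rfl
      · exact ha₁
      · exact ha₂
      · exact hb₁
      · exact hb₂
      · exact hr
      · exact hxs)
    (by simp only [List.length_cons, List.length_nil]; omega)
  have hpa : B p a = 0 := by
    rw [hadec, map_add, map_smulₛₗ, hpl a₁ (by simp), hpl a₂ (by simp), smul_zero, add_zero]
  have hpb : B p b = 0 := by
    rw [hbdec, map_add, map_smulₛₗ, hpl b₁ (by simp), hpl b₂ (by simp), smul_zero, add_zero]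
  have hpr : B p r = 0 := hpl r (by simp)
  have hpxs : B p xs = 0 := hpl xs (by simp)
  have hap : B a p = 0 := herm_eq_zero hB hpa
  have hbp : B b p = 0 := herm_eq_zero hB hpb
  have hrp : B r p = 0 := herm_eq_zero hB hpr
  -- conjugating by a rational Eichler element
  have hh := R.rat_eich_mem K0 hB hK1 hp hr hpp hrr hrp
  have hhU : eich B p r 0 ∈ uG B := hh.2.1
  have hha : eich B p r 0 a = a := by
    rw [eich_apply B hpp hrp hpr, hap, har]
    simp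
  have hhb : eich B p r 0 b = b + lam • p := by
    rw [eich_apply B hpp hrp hpr, hbp, hlam]
    simp only [zero_smul, add_zero, mul_zero, neg_smul]
    abel
  have hconj : eich B a (b + lam • p) 0 ∈ M := by
    have h3 := conj_eich hhU a b 0
    rw [hha, hhb] at h3
    rw [← h3]
    exact M.mul_mem (M.mul_mem (hHM hh) hE) (M.inv_mem (hHM hh))
  have hlpa : B (lam • p) a = 0 := by rw [map_smul, LinearMap.smul_apply, hpa, smul_zero]
  have halp : B a (lam • p) = 0 := herm_eq_zero hB hlpa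
  have hE₁ : eich B a (lam • p) 0 ∈ M := by
    have hnba : B (-b) a = 0 := by rw [map_neg, LinearMap.neg_apply, hba, neg_zero]
    have hanb : B a (-b) = 0 := by rw [map_neg, hab, neg_zero]
    have hsa : B (b + lam • p) a = 0 := by rw [map_add, LinearMap.add_apply, hba, hlpa, add_zero]
    have has : B a (b + lam • p) = 0 := herm_eq_zero hB hsa
    have e1 : -b + (b + lam • p) = lam • p := by abel
    have e2 : (0 : F) + 0 - B (b + lam • p) (-b) = 0 := by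
      rw [map_neg, map_add, LinearMap.add_apply, hbb, map_smul, LinearMap.smul_apply, hpb]
      simp
    have h3 : (eich B a b 0)⁻¹ * eich B a (b + lam • p) 0 = eich B a (lam • p) 0 := by
      rw [eich_inv haa hba hab hbb, eich_mul haa hnba hanb hsa has, e1, e2]
    rw [← h3]
    exact M.mul_mem (M.inv_mem hE) hconj
  have ha'p : B a' p = 0 := by rw [ha', map_smul, LinearMap.smul_apply, hap, smul_zero]
  have hpa' : B p a' = 0 := herm_eq_zero hB ha'p
  have hswap : eich B a (lam • p) 0 = eich B p a' 0 := by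
    ext x
    rw [eich_apply B haa hlpa halp, eich_apply B hpp ha'p hpa', ha']
    simp only [map_smulₛₗ, map_neg, hσ.invol, smul_eq_mul, zero_mul, zero_smul, add_zero]
    module
  have hE₁' : eich B p a' 0 ∈ M := by
    rw [← hswap]
    exact hE₁
  -- the second commutator
  obtain ⟨r', hr', hr'r', hr'p, hr'a⟩ := R.rat_sno hσ hB hN h2 (by omega) hp ha'₂ (by
    intro t _ h
    apply hxsa
    rw [h, map_smulₛₗ, herm_eq_zero hB hpxs, smul_zero])
  have hpr' : B p r' = 0 := herm_eq_zero hB hr'p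
  refine ⟨p, hp, hp0, hpp, ?_⟩
  intro c hc
  obtain ⟨β, hβ⟩ : ∃ β, β = B r' a'₂ := ⟨_, rfl⟩
  have hβ0 : β ≠ 0 := by rw [hβ]; exact hr'a
  have hσβ : σ β = β := by rw [hβ, R.val r' hr' a'₂ ha'₂]
  obtain ⟨τ, hτ⟩ : ∃ τ, τ = -c / (2 * θ * β) := ⟨_, rfl⟩
  have hστ : σ τ = τ := by
    rw [hτ, map_div₀, map_neg, hc, map_mul, map_mul, map_ofNat, hθ, hσβ]
    field_simp
  have hτr' : τ • r' ∈ V₀ := R.smul_mem _ _ hστ hr'
  have hτr'2 : B (τ • r') (τ • r') = 0 := by rw [self_smul, hr'r', mul_zero]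
  have hτr'p : B (τ • r') p = 0 := by rw [map_smul, LinearMap.smul_apply, hr'p, smul_zero]
  have hpτr' : B p (τ • r') = 0 := herm_eq_zero hB hτr'p
  have hh' := R.rat_eich_mem K0 hB hK1 hp hτr' hpp hτr'2 hτr'p
  have hh'U : eich B p (τ • r') 0 ∈ uG B := hh'.2.1
  obtain ⟨κ, hκ⟩ : ∃ κ, κ = -(τ * B a' r') := ⟨_, rfl⟩
  have hh'p : eich B p (τ • r') 0 p = p := by
    rw [eich_apply B hpp hτr'p hpτr', hpp, hpτr']
    simp
  have hh'a : eich B p (τ • r') 0 a' = a' + κ • p := by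
    rw [eich_apply B hpp hτr'p hpτr', ha'p, map_smulₛₗ, hστ, hκ]
    simp only [zero_smul, add_zero, mul_zero, smul_eq_mul, neg_smul]
    abel
  have h3 := conj_eich hh'U p a' 0
  rw [hh'p, hh'a, eich_add_smul hpp ha'p hpa'] at h3
  have h4 : utv B p (κ - σ κ) =
      (eich B p a' 0)⁻¹ * (eich B p (τ • r') 0 * eich B p a' 0 * (eich B p (τ • r') 0)⁻¹) := by
    rw [h3, inv_mul_cancel_left]
  have h5 : κ - σ κ = c := by
    have e1 : B a' r' = B a'₁ r' + θ * B a'₂ r' := by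
      rw [ha'dec, map_add, LinearMap.add_apply, map_smul, LinearMap.smul_apply, smul_eq_mul]
    have e2 : B a'₂ r' = β := by rw [hβ]; exact R.symm hB hr' ha'₂
    rw [hκ, map_neg, map_mul, hστ, e1, map_add, map_mul, hθ, R.val a'₁ ha'₁ r' hr',
      R.val a'₂ ha'₂ r' hr', e2, hτ]
    field_simp
    ring
  rw [← h5, h4]
  exact M.mul_mem (M.inv_mem hE₁')
    (M.mul_mem (M.mul_mem (hHM hh') hE₁') (M.inv_mem (hHM hh')))

end OForm

end Cfsg.Agent.Lib.Helper94_HermOSub
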