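import Mathlib
import Cfsg.Agent.Lib.Helper94_HermOSub5

set_option autoImplicit false

/-!
The stabiliser (up to scalars) of an orthogonal rational structure is a maximal subgroup of the
special unitary group (odd characteristic, dimension at least nine).
-/

namespace Cfsg.Agent.Lib.Helper94_HermOSub

open Module Cfsg.Agent.Lib.Helper94_Symp Cfsg.Agent.Lib.Helper94_Herm
  Cfsg.Agent.Lib.Helper94_HermOrth Cfsg.Agent.Lib.Helper94_HermEich
  Cfsg.Agent.Lib.Helper94_HermPara Cfsg.Agent.Lib.Helper94_HermTI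
  Cfsg.Agent.Lib.Helper94_HermDecomp Cfsg.Agent.Lib.Helper94_HermSub
  Cfsg.Agent.Lib.Helper94_HermTrans

variable {F V : Type*} [Field F] [AddCommGroup V] [Module F V]
variable {σ : F →+* F} {B : V →ₗ[F] V →ₛₗ[σ] F} {V₀ : AddSubgroup V}

variable (R : OForm B V₀) (K0 : Subgroup (V ≃ₗ[F] V)) [Finite F] [FiniteDimensional F V]

include R in
/-- The stabiliser (up to scalars) of an orthogonal rational structure is a maximal subgroup of
the special unitary group. -/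
theorem maximal_osub (hσ : Invol σ) (hB : IsHerm B) (hN : NondegOn B ⊤) (h2 : (2 : F) ≠ 0)
    (hK1 : ∀ (φ : Dual F V) (v : V) (h : φ v = 0), LinearEquiv.transvection h ∈ K0)
    (hgen : uG B ⊓ K0 ≤ tvGroup B ⊤) (h9 : 9 ≤ finrank F V)
    (S : Subgroup (V ≃ₗ[F] V))
    (hS : ∀ g, g ∈ S ↔ ∃ μ : F, μ ≠ 0 ∧ ∀ v ∈ V₀, ∃ w ∈ V₀, g v = μ • w) :
    (S ⊓ (uG B ⊓ K0) < uG B ⊓ K0) ∧
      ∀ M : Subgroup (V ≃ₗ[F] V), S ⊓ (uG B ⊓ K0) ≤ M → M ≤ uG B ⊓ K0 →
        M = S ⊓ (uG B ⊓ K0) ∨ M = uG B ⊓ K0 := by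
  have hH1 : setStab (V₀ : Set V) ⊓ (uG B ⊓ K0) ≤ S ⊓ (uG B ⊓ K0) := by
    intro g hg
    exact ⟨(hS g).mpr ⟨1, one_ne_zero, fun v hv =>
      ⟨g v, (mem_setStab.mp hg.1 v).mp hv, (one_smul _ _).symm⟩⟩, hg.2⟩
  have hutvG : ∀ a c, B a a = 0 → σ c = -c → utv B a c ∈ uG B ⊓ K0 := by
    intro a c haa hc
    refine ⟨utv_mem_uG hB a hc, ?_⟩
    rw [utv, dif_pos haa]
    exact hK1 _ _ _
  constructor
  · refine lt_of_le_of_ne inf_le_right ?_
    intro heq
    obtain ⟨p, hp, hp0, hpp, -⟩ := R.rat_sing_perp hσ hB h2 [] (by simp)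
      (by simp only [List.length_nil]; omega)
    obtain ⟨c, hc0, hc⟩ := exists_skew hσ
    have ht : utv B p c ∈ S ⊓ (uG B ⊓ K0) := by rw [heq]; exact hutvG p c hpp hc
    obtain ⟨μ, hμ0, hμ⟩ := (hS _).mp ht.1
    obtain ⟨y, hy, hy'⟩ := hμ p hp
    rw [utv_self] at hy'
    have hμf : σ μ = μ := by
      by_contra hμf
      have h0 := R.indep μ y hμf hy (by rw [← hy']; exact hp)
      rw [h0, smul_zero] at hy'
      exact hp0 hy'
    obtain ⟨s, hs, -, hsp⟩ := R.rat_sno0 hσ hB hN h2 (by omega) hp hp0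
    obtain ⟨y', hy'm, hy''⟩ := hμ s hs
    rw [utv_apply B hpp] at hy''
    have h3 : (c * B s p) • p ∈ V₀ := by
      have h4 : (c * B s p) • p = μ • y' - s := by rw [← hy'']; abel
      rw [h4]
      exact V₀.sub_mem (R.smul_mem _ _ hμf hy'm) hs
    have h5 : σ (c * B s p) ≠ c * B s p := by
      rw [map_mul, hc, R.val s hs p hp]
      intro h
      have h6 : (2 : F) * (c * B s p) = 0 := by linear_combination -h
      rcases mul_eq_zero.mp h6 with h7 | h7
      · exact h2 h7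
      · rcases mul_eq_zero.mp h7 with h8 | h8
        · exact hc0 h8
        · exact hsp h8
    exact hp0 (R.indep _ p h5 hp h3)
  · intro M hHM hMK
    by_cases hMS : M ≤ S
    · left
      exact le_antisymm (fun g hg => ⟨hMS hg, hMK hg⟩) hHM
    · right
      obtain ⟨g, hgM, hgS⟩ := SetLike.not_le_iff_exists.mp hMS
      have hgU : g ∈ uG B := (hMK hgM).1
      have hHM' : setStab (V₀ : Set V) ⊓ (uG B ⊓ K0) ≤ M := le_trans hH1 hHM
      have h5 : ∃ u ∈ V₀, B u u = 0 ∧ ¬ IsRat F V₀ (g u) := by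
        by_contra hcon
        push Not at hcon
        exact hgS ((hS g).mpr (R.exists_scalar_sing hσ hB hN h2 (by omega) g hcon))
      obtain ⟨u, hu, huu, hgu⟩ := h5
      obtain ⟨p, hp, hp0, hpp, hpU⟩ := R.stepA K0 hσ hB hN h2 h9 hK1 hHM' hgM hgU hu huu hgu
      have hrs : ∀ p' ∈ V₀, B p' p' = 0 → p' ∈ UTV B M := fun p' hp' hp'p' =>
        R.rat_sing_UTV K0 hσ hB hN h2 (by omega) hK1 hHM' hp hp0 hpp hpU hp' hp'p'
      apply le_antisymm hMK
      refine le_trans hgen (tvGroup_le ⊤ M ?_)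
      intro a _ haa c hc
      exact R.iso_UTV_all K0 hσ hB hN h2 (by omega) hK1 hHM' hrs haa c hc

end Cfsg.Agent.Lib.Helper94_HermOSub
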