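import Mathlib
import Cfsg.Prelude.Def_GeometricClasses
import Cfsg.Agent.Lib.Helper94_Bridge
import Cfsg.Agent.Lib.Helper94_HermBridge
import Cfsg.Agent.Lib.Helper94_HermOSub
import Cfsg.Agent.Lib.Helper94_SubfieldBridge

set_option autoImplicit false

/-!
Bridge for the orthogonal subfield subgroups of the special unitary groups: a rational structure
on which the standard hermitian form takes values in the fixed field is an orthogonal rational
structure.
-/

namespace Cfsg.Agent.Lib.Helper94_HermOSubBridge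

open Matrix Cfsg.Agent.Lib.Helper94_Bridge Cfsg.Agent.Lib.Helper94_Herm
  Cfsg.Agent.Lib.Helper94_HermBridge Cfsg.Agent.Lib.Helper94_HermOSub
  Cfsg.Agent.Lib.Helper94_SubfieldBridge

variable {F : Type*} [Field F] [Fintype F]

variable {n q : ℕ} {σ : F →+* F} (hσq : ∀ x, σ x = x ^ q)

include hσq in
/-- A rational structure on which the standard hermitian form takes values in the fixed field is
an orthogonal rational structure. -/
theorem oForm_of (hσ : Invol σ) (F₀ : Subfield F) (hfix : ∀ x : F, x ∈ F₀ ↔ σ x = x)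
    (P : GL (Fin n) F)
    (hP : Cfsg.Geo.IsFormRationalStructure (Cfsg.hermForm n F q) F₀ 1 P) :
    OForm (hermB n σ hσq) (ratV F₀ (P : Matrix (Fin n) (Fin n) F)) := by
  have hPP : ((P⁻¹ : GL (Fin n) F) : Matrix (Fin n) (Fin n) F) *
      (P : Matrix (Fin n) (Fin n) F) = 1 := by
    rw [← Units.val_mul, inv_mul_cancel, Units.val_one]
  have hPP' : (P : Matrix (Fin n) (Fin n) F) *
      ((P⁻¹ : GL (Fin n) F) : Matrix (Fin n) (Fin n) F) = 1 := by
    rw [← Units.val_mul, mul_inv_cancel, Units.val_one]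
  have hinj : ∀ u u' : Fin n → F, (P : Matrix (Fin n) (Fin n) F) *ᵥ u =
      (P : Matrix (Fin n) (Fin n) F) *ᵥ u' → u = u' := by
    intro u u' h
    have := congrArg (fun x => ((P⁻¹ : GL (Fin n) F) : Matrix (Fin n) (Fin n) F) *ᵥ x) h
    simpa [Matrix.mulVec_mulVec, hPP] using this
  refine ⟨?_, ?_, ?_, ?_⟩
  · rintro c _ hc ⟨u, hu, rfl⟩
    refine ⟨c • u, fun i => F₀.mul_mem ((hfix c).mpr hc) (hu i), ?_⟩
    rw [Matrix.mulVec_smul]
  · rintro θ _ hθ ⟨u, hu, rfl⟩ ⟨u', hu', h⟩
    rw [← Matrix.mulVec_smul] at h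
    have h1 := hinj _ _ h
    have hu0 : u = 0 := by
      funext i
      by_contra hi
      apply hθ
      apply (hfix θ).mp
      have h2 : θ * u i = u' i := congrFun h1 i
      have h3 : θ = u' i / u i := by
        rw [← h2, mul_div_assoc, div_self hi, mul_one]
      rw [h3]
      exact F₀.div_mem (hu' i) (hu i)
    rw [hu0, Matrix.mulVec_zero]
  · intro θ hθ x
    have hdec : ∀ i, ∃ r s : F, σ r = r ∧ σ s = s ∧
        (((P⁻¹ : GL (Fin n) F) : Matrix (Fin n) (Fin n) F) *ᵥ x) i = r + s * θ :=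
      fun i => decomp hσ hθ _
    choose r s hr hs hrs using hdec
    refine ⟨(P : Matrix (Fin n) (Fin n) F) *ᵥ r, ⟨r, fun i => (hfix _).mpr (hr i), rfl⟩,
      (P : Matrix (Fin n) (Fin n) F) *ᵥ s, ⟨s, fun i => (hfix _).mpr (hs i), rfl⟩, ?_⟩
    rw [← Matrix.mulVec_smul, ← Matrix.mulVec_add]
    have h1 : ((P⁻¹ : GL (Fin n) F) : Matrix (Fin n) (Fin n) F) *ᵥ x = r + θ • s := by
      funext i
      rw [hrs i, Pi.add_apply, Pi.smul_apply, smul_eq_mul, mul_comm]
    rw [← h1, Matrix.mulVec_mulVec, hPP', Matrix.one_mulVec]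
  · rintro _ ⟨u, hu, rfl⟩ _ ⟨v, hv, rfl⟩
    rw [hermB_apply]
    have h1 := hP u v hu hv
    rw [one_mul] at h1
    exact (hfix _).mp h1

end Cfsg.Agent.Lib.Helper94_HermOSubBridge
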