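import Mathlib
import Cfsg.Prelude.Def_GeometricClasses
import Cfsg.Agent.Lib.Helper94_Bridge
import Cfsg.Agent.Lib.Helper94_HermBridge
import Cfsg.Agent.Lib.Helper94_HermSub
import Cfsg.Agent.Lib.Helper94_SubfieldBridge

set_option autoImplicit false

/-!
Bridge for the symplectic subfield subgroups of the special unitary groups: the subfield of
index two is the fixed field of the Frobenius involution, and a rational structure on which `ζ`
times the hermitian form is alternating is a symplectic rational structure.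
-/

namespace Cfsg.Agent.Lib.Helper94_HermSubBridge

open Matrix Polynomial Cfsg.Agent.Lib.Helper94_Bridge Cfsg.Agent.Lib.Helper94_Herm
  Cfsg.Agent.Lib.Helper94_HermBridge Cfsg.Agent.Lib.Helper94_HermSub
  Cfsg.Agent.Lib.Helper94_SubfieldBridge

variable {F : Type*} [Field F] [Fintype F]

/-- The subfield with `q` elements of a field with `q ^ 2` elements is the set of fixed points
of `x ↦ x ^ q`. -/
theorem mem_iff_frob {q : ℕ} (hF : Fintype.card F = q ^ 2) (F₀ : Subfield F)
    (hcard : Fintype.card F = Nat.card F₀ ^ 2) (x : F) : x ∈ F₀ ↔ x ^ q = x := by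
  classical
  have hq : Nat.card F₀ = q := by
    have h := hcard.symm.trans hF
    exact Nat.pow_left_injective (n := 2) (by norm_num) h
  have hq1 : 1 < q := by
    have h1 : 1 < Fintype.card F := Fintype.one_lt_card
    rw [hF] at h1
    by_contra hlt
    push Not at hlt
    interval_cases q <;> simp at h1
  have hfwd : ∀ y : F, y ∈ F₀ → y ^ q = y := by
    intro y hy
    haveI : Fintype F₀ := Fintype.ofFinite F₀
    have h1 : Fintype.card F₀ = q := by rw [← Nat.card_eq_fintype_card, hq]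
    have h2 := FiniteField.pow_card (⟨y, hy⟩ : F₀)
    rw [h1] at h2
    have h3 := congrArg (fun z : F₀ => (z : F)) h2
    simpa using h3
  refine ⟨hfwd x, ?_⟩
  intro hx
  have hp0 : (X ^ q - X : F[X]) ≠ 0 := FiniteField.X_pow_card_sub_X_ne_zero F hq1
  have hdeg : (X ^ q - X : F[X]).natDegree = q := FiniteField.X_pow_card_sub_X_natDegree_eq F hq1
  let s : Finset F := (X ^ q - X : F[X]).roots.toFinset
  let t : Finset F := Finset.univ.filter (fun y => y ∈ F₀)
  have hts : t ⊆ s := by
    intro y hy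
    have hy' : y ∈ F₀ := (Finset.mem_filter.mp hy).2
    rw [Multiset.mem_toFinset, mem_roots hp0, IsRoot.def, eval_sub, eval_pow, eval_X, hfwd y hy',
      sub_self]
  have hscard : s.card ≤ q := by
    calc s.card ≤ Multiset.card (X ^ q - X : F[X]).roots := Multiset.toFinset_card_le _
      _ ≤ (X ^ q - X : F[X]).natDegree := card_roots' _
      _ = q := hdeg
  have htcard : t.card = q := by
    rw [← hq, Nat.card_eq_fintype_card, Fintype.card_subtype]
  have hst : t = s := Finset.eq_of_subset_of_card_le hts (by rw [htcard]; exact hscard)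
  have hxs : x ∈ s := by
    rw [Multiset.mem_toFinset, mem_roots hp0, IsRoot.def, eval_sub, eval_pow, eval_X, hx, sub_self]
  rw [← hst] at hxs
  exact (Finset.mem_filter.mp hxs).2

variable {n q : ℕ} {σ : F →+* F} (hσq : ∀ x, σ x = x ^ q)

include hσq in
/-- A rational structure on which `ζ` times the standard hermitian form is alternating with
values in the fixed field is a symplectic rational structure. -/
theorem spForm_of (hσ : Invol σ) (F₀ : Subfield F) (hfix : ∀ x : F, x ∈ F₀ ↔ σ x = x)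
    {ζ : F} (hζ0 : ζ ≠ 0) (hζ : σ ζ = -ζ) (P : GL (Fin n) F)
    (hP : Cfsg.Geo.IsFormRationalStructure (Cfsg.hermForm n F q) F₀ ζ P)
    (halt : ∀ u : Fin n → F, (∀ i, u i ∈ F₀) →
      Cfsg.hermForm n F q (Matrix.mulVec (P : Matrix (Fin n) (Fin n) F) u)
        (Matrix.mulVec (P : Matrix (Fin n) (Fin n) F) u) = 0) :
    SpForm (hermB n σ hσq) (ratV F₀ (P : Matrix (Fin n) (Fin n) F)) ζ := by
  have hPP : ((P⁻¹ : GL (Fin n) F) : Matrix (Fin n) (Fin n) F) *
      (P : Matrix (Fin n) (Fin n) F) = 1 := by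
    rw [← Units.val_mul, inv_mul_cancel, Units.val_one]
  have hPP' : (P : Matrix (Fin n) (Fin n) F) *
      ((P⁻¹ : GL (Fin n) F) : Matrix (Fin n) (Fin n) F) = 1 := by
    rw [← Units.val_mul, mul_inv_cancel, Units.val_one]
  have hinj : ∀ u u' : Fin n → F, (P : Matrix (Fin n) (Fin n) F) *ᵥ u =
      (P : Matrix (Fin n) (Fin n) F) *ᵥ u' → u = u' := by
    intro u u' h
    have := congrArg (fun x => ((P⁻¹ : GL (Fin n) F) : Matrix (Fin n) (Fin n) F) *ᵥ x) h
    simpa [Matrix.mulVec_mulVec, hPP] using this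
  refine ⟨?_, ?_, ?_, hζ0, hζ, ?_, ?_⟩
  · rintro c _ hc ⟨u, hu, rfl⟩
    refine ⟨c • u, fun i => F₀.mul_mem ((hfix c).mpr hc) (hu i), ?_⟩
    rw [Matrix.mulVec_smul]
  · rintro θ _ hθ ⟨u, hu, rfl⟩ ⟨u', hu', h⟩
    rw [← Matrix.mulVec_smul] at h
    have h1 := hinj _ _ h
    have hu0 : u = 0 := by
      funext i
      by_contra hi
      apply hθ
      apply (hfix θ).mp
      have h2 : θ * u i = u' i := congrFun h1 i
      have h3 : θ = u' i / u i := by
        rw [← h2, mul_div_assoc, div_self hi, mul_one]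
      rw [h3]
      exact F₀.div_mem (hu' i) (hu i)
    rw [hu0, Matrix.mulVec_zero]
  · intro θ hθ x
    have hdec : ∀ i, ∃ r s : F, σ r = r ∧ σ s = s ∧
        (((P⁻¹ : GL (Fin n) F) : Matrix (Fin n) (Fin n) F) *ᵥ x) i = r + s * θ :=
      fun i => decomp hσ hθ _
    choose r s hr hs hrs using hdec
    refine ⟨(P : Matrix (Fin n) (Fin n) F) *ᵥ r, ⟨r, fun i => (hfix _).mpr (hr i), rfl⟩,
      (P : Matrix (Fin n) (Fin n) F) *ᵥ s, ⟨s, fun i => (hfix _).mpr (hs i), rfl⟩, ?_⟩
    rw [← Matrix.mulVec_smul, ← Matrix.mulVec_add]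
    have h1 : ((P⁻¹ : GL (Fin n) F) : Matrix (Fin n) (Fin n) F) *ᵥ x = r + θ • s := by
      funext i
      rw [hrs i, Pi.add_apply, Pi.smul_apply, smul_eq_mul, mul_comm]
    rw [← h1, Matrix.mulVec_mulVec, hPP', Matrix.one_mulVec]
  · rintro _ ⟨u, hu, rfl⟩ _ ⟨v, hv, rfl⟩
    rw [hermB_apply]
    exact (hfix _).mp (hP u v hu hv)
  · rintro _ ⟨u, hu, rfl⟩
    rw [hermB_apply]
    exact halt u hu

end Cfsg.Agent.Lib.Helper94_HermSubBridge
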