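import Mathlib
import Cfsg.Agent.Lib.Helper94_Herm
import Cfsg.Agent.Lib.Helper94_HermWitt
import Cfsg.Agent.Lib.Helper94_HermTrans
import Cfsg.Agent.Lib.Helper94_HermIrr
import Cfsg.Agent.Lib.Helper98_SubfBase

set_option autoImplicit false
set_option linter.style.haveILetI false
set_option linter.unusedSectionVars false

/-!
Unitary rational structures: a hermitian space `(V, B)` over `F` with involution `σ`, a subfield
`F₀` stable under `σ` on which `σ` is not the identity, and the `F₀`-span `V₀` of an `F`-basis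
of `V` on which `B` takes values in `F₀`.  We set up the hermitian space `(V₀, B₀)` over `F₀`
so that the general theory of hermitian spaces over finite fields applies to it, and prove the
basic rationality lemmas.
-/

namespace Cfsg.Agent.Lib.Helper98_UFBase

open Module Cfsg.Agent.Lib.Helper94_Herm Cfsg.Agent.Lib.Helper94_HermWitt
  Cfsg.Agent.Lib.Helper94_HermTrans Cfsg.Agent.Lib.Helper94_HermIrr
  Cfsg.Agent.Lib.Helper98_SubfBase

variable {F V : Type*} [Field F] [AddCommGroup V] [Module F V]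
variable {σ : F →+* F}

/-- A unitary rational structure. -/
structure UForm (B : V →ₗ[F] V →ₛₗ[σ] F) (V₀ : AddSubgroup V) (F₀ : Subfield F) (n : ℕ) :
    Prop where
  sigma_mem : ∀ c ∈ F₀, σ c ∈ F₀
  sigma_ne : ∃ θ ∈ F₀, σ θ ≠ θ
  basis : ∃ b : Basis (Fin n) F V, ∀ v, v ∈ V₀ ↔ ∀ i, b.repr v i ∈ F₀
  val : ∀ u ∈ V₀, ∀ v ∈ V₀, B u v ∈ F₀

variable {B : V →ₗ[F] V →ₛₗ[σ] F} {V₀ : AddSubgroup V} {F₀ : Subfield F} {n : ℕ}

namespace UForm

variable (R : UForm B V₀ F₀ n)

include R in
lemma smul_mem {c : F} (hc : c ∈ F₀) {v : V} (hv : v ∈ V₀) : c • v ∈ V₀ := by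
  obtain ⟨b, hb⟩ := R.basis
  rw [hb] at hv ⊢
  intro i
  rw [map_smul, Finsupp.smul_apply, smul_eq_mul]
  exact F₀.mul_mem hc (hv i)

/-- The rational lattice as a vector space over the subfield. -/
def lat (R : UForm B V₀ F₀ n) : Submodule F₀ V where
  carrier := V₀
  add_mem' := V₀.add_mem
  zero_mem' := V₀.zero_mem
  smul_mem' := fun c _ hv => R.smul_mem c.2 hv

lemma mem_lat {v : V} : v ∈ R.lat ↔ v ∈ V₀ := Iff.rfl

/-- The involution restricted to the subfield. -/
def sig0 (R : UForm B V₀ F₀ n) : F₀ →+* F₀ :=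
  (σ.comp F₀.subtype).codRestrict F₀ (fun x => R.sigma_mem x x.2)

lemma sig0_coe (x : F₀) : ((R.sig0 x : F₀) : F) = σ (x : F) := rfl

/-- The hermitian form restricted to the rational lattice. -/
def B0 (R : UForm B V₀ F₀ n) : R.lat →ₗ[F₀] R.lat →ₛₗ[R.sig0] F₀ :=
  LinearMap.mk₂'ₛₗ (RingHom.id F₀) R.sig0
    (fun u v => ⟨B (u : V) (v : V), R.val u u.2 v v.2⟩)
    (by
      intro u₁ u₂ v
      apply Subtype.ext
      simp)
    (by
      intro c u v
      apply Subtype.ext
      simp [Subfield.smul_def])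
    (by
      intro u v₁ v₂
      apply Subtype.ext
      simp)
    (by
      intro c u v
      apply Subtype.ext
      simp [Subfield.smul_def, sig0_coe])

lemma B0_coe (u v : R.lat) : ((R.B0 u v : F₀) : F) = B (u : V) (v : V) := rfl

lemma B0_eq_zero {u v : R.lat} : R.B0 u v = 0 ↔ B (u : V) (v : V) = 0 := by
  rw [← R.B0_coe, ZeroMemClass.coe_eq_zero]

lemma B0_eq_one {u v : R.lat} : R.B0 u v = 1 ↔ B (u : V) (v : V) = 1 := by
  rw [← R.B0_coe, OneMemClass.coe_eq_one]

include R in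
lemma invol0 (hσ : Invol σ) : Invol R.sig0 := by
  refine ⟨fun a => ?_, ?_⟩
  · apply Subtype.ext
    rw [sig0_coe, sig0_coe, hσ.invol]
  · obtain ⟨θ, hθ, hne⟩ := R.sigma_ne
    refine ⟨⟨θ, hθ⟩, fun h => hne ?_⟩
    have := congrArg (fun x : F₀ => (x : F)) h
    simpa [sig0_coe] using this

include R in
lemma herm0 (hB : IsHerm B) : IsHerm R.B0 := by
  intro x y
  apply Subtype.ext
  rw [sig0_coe, B0_coe, B0_coe]
  exact hB x y

include R in
/-- `B x · = 0` on the lattice forces `x = 0`. -/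
lemma eq_zero_of_forall (hN : NondegOn B ⊤) {x : V} (h : ∀ y ∈ V₀, B x y = 0) : x = 0 := by
  obtain ⟨b, hb⟩ := R.basis
  by_contra hx
  obtain ⟨y, -, hy⟩ := hN x Submodule.mem_top hx
  apply hy
  rw [← b.sum_repr y, map_sum]
  apply Finset.sum_eq_zero
  intro i _
  rw [map_smulₛₗ]
  have : b i ∈ V₀ := by
    rw [hb]
    intro j
    rw [b.repr_self, Finsupp.single_apply]
    split_ifs
    · exact F₀.one_mem
    · exact F₀.zero_mem
  rw [h _ this, smul_zero]

include R in
lemma nondeg0 (hN : NondegOn B ⊤) : NondegOn R.B0 ⊤ := by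
  intro x _ hx
  by_contra hcon
  push Not at hcon
  apply hx
  apply Subtype.ext
  apply R.eq_zero_of_forall hN
  intro y hy
  have := hcon ⟨y, hy⟩ Submodule.mem_top
  rwa [B0_eq_zero] at this

/-- The coordinate isomorphism of the lattice. -/
lemma exists_equiv : Nonempty (R.lat ≃ₗ[F₀] (Fin n → F₀)) := by
  obtain ⟨b, hb⟩ := R.basis
  let f : R.lat →ₗ[F₀] (Fin n → F₀) :=
    { toFun := fun v i => ⟨b.repr (v : V) i, (hb v).mp v.2 i⟩
      map_add' := by
        intro u v
        funext i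
        apply Subtype.ext
        simp
      map_smul' := by
        intro c v
        funext i
        apply Subtype.ext
        simp [Subfield.smul_def] }
  refine ⟨LinearEquiv.ofBijective f ⟨?_, ?_⟩⟩
  · intro u v huv
    apply Subtype.ext
    apply b.repr.injective
    ext i
    have := congrArg (fun x : Fin n → F₀ => ((x i : F₀) : F)) huv
    exact this
  · intro x
    have hv : (∑ i, (x i : F) • b i) ∈ V₀ := by
      rw [hb]
      intro j
      rw [map_sum, Finsupp.finsetSum_apply]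
      apply F₀.sum_mem
      intro i _
      rw [map_smul, Finsupp.smul_apply, b.repr_self, Finsupp.single_apply, smul_eq_mul]
      split_ifs
      · rw [mul_one]; exact (x i).2
      · rw [mul_zero]; exact F₀.zero_mem
    refine ⟨⟨_, hv⟩, ?_⟩
    funext j
    apply Subtype.ext
    show b.repr (∑ i, (x i : F) • b i) j = x j
    rw [map_sum, Finsupp.finsetSum_apply]
    simp [Finsupp.single_apply]

include R in
lemma finiteDimensional0 : FiniteDimensional F₀ R.lat := by
  obtain ⟨e⟩ := R.exists_equiv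
  exact Module.Finite.equiv e.symm

include R in
lemma finrank0 : finrank F₀ R.lat = n := by
  obtain ⟨e⟩ := R.exists_equiv
  rw [e.finrank_eq, Module.finrank_fin_fun]

include R in
lemma finrankV : finrank F V = n := by
  obtain ⟨b, -⟩ := R.basis
  rw [Module.finrank_eq_card_basis b, Fintype.card_fin]

/-! ### Rationality lemmas -/

include R in
lemma rat_of_smul {μ : F} {v : V} (hv : v ∈ V₀) (hv0 : v ≠ 0) (h : μ • v ∈ V₀) : μ ∈ F₀ := by
  obtain ⟨b, hb⟩ := R.basis
  have hex : ∃ i, b.repr v i ≠ 0 := by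
    by_contra hcon
    push Not at hcon
    apply hv0
    apply b.repr.injective
    ext i
    rw [hcon i, map_zero, Finsupp.zero_apply]
  obtain ⟨i, hi⟩ := hex
  have h1 := (hb _).mp h i
  rw [map_smul, Finsupp.smul_apply, smul_eq_mul] at h1
  have h2 : μ = μ * b.repr v i / b.repr v i := by field_simp
  rw [h2]
  exact F₀.div_mem h1 ((hb v).mp hv i)

include R in
/-- The coefficients of a rational vector with respect to two independent rational vectors are
rational. -/
lemma coef2 {w₁ w₂ : V} (h₁ : w₁ ∈ V₀) (h₂ : w₂ ∈ V₀) (h0 : w₁ ≠ 0)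
    (hind : w₂ ∉ Submodule.span F {w₁}) {α β : F} (h : α • w₁ + β • w₂ ∈ V₀) :
    α ∈ F₀ ∧ β ∈ F₀ := by
  obtain ⟨b, hb⟩ := R.basis
  have hx := (hb w₁).mp h₁
  have hy := (hb w₂).mp h₂
  have hz := (hb _).mp h
  have hex : ∃ i, b.repr w₁ i ≠ 0 := by
    by_contra hcon
    push Not at hcon
    apply h0
    apply b.repr.injective
    ext i
    rw [hcon i, map_zero, Finsupp.zero_apply]
  obtain ⟨i, hi⟩ := hex
  have hex2 : ∃ j, b.repr w₁ i * b.repr w₂ j - b.repr w₁ j * b.repr w₂ i ≠ 0 := by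
    by_contra hcon
    push Not at hcon
    apply hind
    rw [Submodule.mem_span_singleton]
    refine ⟨b.repr w₂ i / b.repr w₁ i, ?_⟩
    apply b.repr.injective
    ext j
    rw [map_smul, Finsupp.smul_apply, smul_eq_mul]
    have := hcon j
    field_simp
    linear_combination -this
  obtain ⟨j, hj⟩ := hex2
  have hzi : b.repr (α • w₁ + β • w₂) i = α * b.repr w₁ i + β * b.repr w₂ i := by
    simp
  have hzj : b.repr (α • w₁ + β • w₂) j = α * b.repr w₁ j + β * b.repr w₂ j := by
    simp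
  have hd := F₀.sub_mem (F₀.mul_mem (hx i) (hy j)) (F₀.mul_mem (hx j) (hy i))
  constructor
  · have : α = (b.repr (α • w₁ + β • w₂) i * b.repr w₂ j -
        b.repr (α • w₁ + β • w₂) j * b.repr w₂ i) /
        (b.repr w₁ i * b.repr w₂ j - b.repr w₁ j * b.repr w₂ i) := by
      rw [hzi, hzj, eq_div_iff hj]
      ring
    rw [this]
    exact F₀.div_mem (F₀.sub_mem (F₀.mul_mem (hz i) (hy j)) (F₀.mul_mem (hz j) (hy i))) hd
  · have : β = (b.repr w₁ i * b.repr (α • w₁ + β • w₂) j -
        b.repr w₁ j * b.repr (α • w₁ + β • w₂) i) /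
        (b.repr w₁ i * b.repr w₂ j - b.repr w₁ j * b.repr w₂ i) := by
      rw [hzi, hzj, eq_div_iff hj]
      ring
    rw [this]
    exact F₀.div_mem (F₀.sub_mem (F₀.mul_mem (hx i) (hz j)) (F₀.mul_mem (hx j) (hz i))) hd

include R in
/-- The lattice is self-dual: a vector all of whose products with rational vectors are rational
is rational. -/
lemma rat_of_val (hN : NondegOn B ⊤) {x : V} (h : ∀ y ∈ V₀, B x y ∈ F₀) : x ∈ V₀ := by
  classical
  obtain ⟨b, hb⟩ := R.basis
  have hbm : ∀ i, b i ∈ V₀ := by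
    intro i
    rw [hb]
    intro j
    rw [b.repr_self, Finsupp.single_apply]
    split_ifs
    · exact F₀.one_mem
    · exact F₀.zero_mem
  set J : Matrix (Fin n) (Fin n) F := fun i k => B (b i) (b k) with hJ
  have hJr : RatM F₀ J := fun i k => R.val _ (hbm i) _ (hbm k)
  have hexp : ∀ (y : V) (k : Fin n), B y (b k) = Matrix.vecMul (fun i => b.repr y i) J k := by
    intro y k
    conv_lhs => rw [← b.sum_repr y]
    rw [map_sum, LinearMap.sum_apply, Matrix.vecMul, dotProduct]
    apply Finset.sum_congr rfl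
    intro i _
    rw [map_smul, LinearMap.smul_apply, smul_eq_mul]
  have hdet : J.det ≠ 0 := by
    intro h0
    obtain ⟨v, hv0, hv⟩ := Matrix.exists_vecMul_eq_zero_iff.mpr h0
    have hy0 : (∑ i, v i • b i) ≠ 0 := by
      intro hy
      apply hv0
      funext i
      have := congrArg (fun z => b.repr z i) hy
      simpa [Finsupp.single_apply] using this
    apply hy0
    apply R.eq_zero_of_forall hN
    intro y hy
    rw [← b.sum_repr y, map_sum]
    apply Finset.sum_eq_zero
    intro k _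
    rw [map_smulₛₗ, hexp]
    have hrep : (fun i => b.repr (∑ i, v i • b i) i) = v := by
      funext i
      simp [Finsupp.single_apply]
    rw [hrep, hv]
    simp
  have hφ : RatV F₀ (Matrix.vecMul (fun i => b.repr x i) J) := by
    intro k
    rw [← hexp]
    exact h _ (hbm k)
  have hx : (fun i => b.repr x i) =
      (J.det)⁻¹ • Matrix.vecMul (Matrix.vecMul (fun i => b.repr x i) J) J.adjugate := by
    rw [Matrix.vecMul_vecMul, Matrix.mul_adjugate, Matrix.vecMul_smul, Matrix.vecMul_one,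
      smul_smul, inv_mul_cancel₀ hdet, one_smul]
  rw [hb]
  intro i
  have := congrFun hx i
  rw [this]
  exact (RatV.smul (hJr.adjugate.vecMul hφ) (F₀.inv_mem hJr.det_mem)) i

/-! ### Rational existence lemmas -/

section Exist

variable [Finite F] (hσ : Invol σ) (hB : IsHerm B) (hN : NondegOn B ⊤)

/-- The common orthogonal of a list of rational vectors, inside the lattice. -/
def perp0 (R : UForm B V₀ F₀ n) (l : List R.lat) : Submodule F₀ R.lat :=
  l.foldr (fun x U => U ⊓ orthV R.B0 x) ⊤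

lemma mem_perp0 (l : List R.lat) (u : R.lat) :
    u ∈ R.perp0 l ↔ ∀ x ∈ l, B (u : V) (x : V) = 0 := by
  induction l with
  | nil => simp [perp0]
  | cons x l ih =>
    have : R.perp0 (x :: l) = R.perp0 l ⊓ orthV R.B0 x := rfl
    rw [this, Submodule.mem_inf, ih, mem_orthV, B0_eq_zero]
    constructor
    · rintro ⟨h1, h2⟩ y hy
      rcases List.mem_cons.mp hy with rfl | hy
      · exact h2
      · exact h1 y hy
    · intro h
      exact ⟨fun y hy => h y (List.mem_cons_of_mem _ hy), h x List.mem_cons_self⟩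

include R in
lemma finrank_perp0 (l : List R.lat) : n ≤ finrank F₀ (R.perp0 l) + l.length := by
  haveI := R.finiteDimensional0
  induction l with
  | nil =>
    have h1 : R.perp0 [] = ⊤ := rfl
    rw [h1, finrank_top, R.finrank0]
    simp
  | cons x l ih =>
    have h1 : R.perp0 (x :: l) = R.perp0 l ⊓ orthV R.B0 x := rfl
    have h2 := finrank_le_inf_orthV_add_one (B := R.B0) (R.perp0 l) x
    rw [h1, List.length_cons]
    omega

include R hσ hB in
/-- A nonzero rational isotropic vector orthogonal to a short list of rational vectors. -/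
lemma exists_iso_perp (l : List R.lat) (hlen : l.length + 2 ≤ n) :
    ∃ u ∈ V₀, u ≠ 0 ∧ B u u = 0 ∧ ∀ x ∈ l, B u (x : V) = 0 := by
  haveI := R.finiteDimensional0
  haveI : Finite F₀ := Finite.of_injective (fun x : F₀ => (x : F)) Subtype.val_injective
  have hfr : 2 ≤ finrank F₀ (R.perp0 l) := by
    have := R.finrank_perp0 l
    omega
  obtain ⟨x, hxU, hx0⟩ := exists_ne_zero_of_finrank_pos (U := R.perp0 l) (by omega)
  obtain ⟨y, hyU, hy⟩ := exists_notMem_span1 hfr x
  obtain ⟨a, b, hne, hiso⟩ := exists_iso (R.invol0 hσ) (R.herm0 hB) hx0 hy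
  have huU : a • x + b • y ∈ R.perp0 l :=
    Submodule.add_mem _ (Submodule.smul_mem _ _ hxU) (Submodule.smul_mem _ _ hyU)
  refine ⟨((a • x + b • y : R.lat) : V), (a • x + b • y : R.lat).2, ?_, ?_, ?_⟩
  · intro h
    apply hne
    exact Subtype.ext h
  · exact R.B0_eq_zero.mp hiso
  · exact (R.mem_perp0 l _).mp huU

include R hσ hB hN in
/-- Rational hyperbolic partners. -/
lemma exists_partner_rat {p : V} (hp : p ∈ V₀) (hp0 : p ≠ 0) (hpp : B p p = 0) :
    ∃ f ∈ V₀, B f f = 0 ∧ B p f = 1 := by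
  obtain ⟨f, -, hf, hpf⟩ := exists_partner (R.invol0 hσ) (R.herm0 hB) (R.nondeg0 hN)
    (u := (⟨p, hp⟩ : R.lat)) Submodule.mem_top (fun h => hp0 (congrArg Subtype.val h))
    (R.B0_eq_zero.mpr hpp)
  exact ⟨f, f.2, R.B0_eq_zero.mp hf, R.B0_eq_one.mp hpf⟩

/-- The orthogonal complement in the lattice of a rational hyperbolic pair. -/
def pairPerp (R : UForm B V₀ F₀ n) (e f : R.lat) : Submodule F₀ R.lat :=
  (⊤ : Submodule F₀ R.lat) ⊓ orthV R.B0 e ⊓ orthV R.B0 f

lemma mem_pairPerp {e f u : R.lat} :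
    u ∈ R.pairPerp e f ↔ B (u : V) (e : V) = 0 ∧ B (u : V) (f : V) = 0 := by
  simp [pairPerp, B0_eq_zero]

include R hB hN in
lemma nondeg_pairPerp {e f : R.lat} (he : B (e : V) (e : V) = 0) (hf : B (f : V) (f : V) = 0)
    (hef : B (e : V) (f : V) = 1) : NondegOn R.B0 (R.pairPerp e f) :=
  nondegOn_pair (R.herm0 hB) (R.nondeg0 hN) Submodule.mem_top Submodule.mem_top
    (R.B0_eq_zero.mpr he) (R.B0_eq_zero.mpr hf) (R.B0_eq_one.mpr hef)

include R in
lemma finrank_pairPerp (e f : R.lat) : n ≤ finrank F₀ (R.pairPerp e f) + 2 := by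
  haveI := R.finiteDimensional0
  have h1 := finrank_le_inf_orthV_add_one (B := R.B0) (⊤ : Submodule F₀ R.lat) e
  have h2 := finrank_le_inf_orthV_add_one (B := R.B0)
    ((⊤ : Submodule F₀ R.lat) ⊓ orthV R.B0 e) f
  have h3 : finrank F₀ (⊤ : Submodule F₀ R.lat) = n := by rw [finrank_top, R.finrank0]
  unfold pairPerp
  omega

include R hσ hB hN in
/-- Hyperbolic partners inside the orthogonal complement of a rational hyperbolic pair. -/
lemma exists_partner_perp {e f : V} (he : e ∈ V₀) (hf : f ∈ V₀) (hee : B e e = 0)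
    (hff : B f f = 0) (hef : B e f = 1) {u : V} (hu : u ∈ V₀) (hu0 : u ≠ 0) (huu : B u u = 0)
    (hue : B u e = 0) (huf : B u f = 0) :
    ∃ f' ∈ V₀, B f' f' = 0 ∧ B u f' = 1 ∧ B f' e = 0 ∧ B f' f = 0 := by
  have hU := R.nondeg_pairPerp hB hN (e := ⟨e, he⟩) (f := ⟨f, hf⟩) hee hff hef
  obtain ⟨f', hf'U, hf', huf'⟩ := exists_partner (R.invol0 hσ) (R.herm0 hB) hU
    (u := (⟨u, hu⟩ : R.lat)) (R.mem_pairPerp.mpr ⟨hue, huf⟩)
    (fun h => hu0 (congrArg Subtype.val h)) (R.B0_eq_zero.mpr huu)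
  obtain ⟨h1, h2⟩ := R.mem_pairPerp.mp hf'U
  exact ⟨f', f'.2, R.B0_eq_zero.mp hf', R.B0_eq_one.mp huf', h1, h2⟩

include R hσ hB hN in
/-- Every rational vector is the sum of two rational isotropic vectors. -/
lemma exists_two_iso_rat (h2 : 2 ≤ n) {y : V} (hy : y ∈ V₀) :
    ∃ y₁ ∈ V₀, B y₁ y₁ = 0 ∧ B (y - y₁) (y - y₁) = 0 := by
  haveI := R.finiteDimensional0
  haveI : Finite F₀ := Finite.of_injective (fun x : F₀ => (x : F)) Subtype.val_injective
  obtain ⟨d1, -, h1, h2⟩ := exists_two_iso (R.invol0 hσ) (R.herm0 hB) (R.nondeg0 hN)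
    (D := ⊤) (by rw [finrank_top, R.finrank0]; exact h2) (d := (⟨y, hy⟩ : R.lat))
    Submodule.mem_top
  exact ⟨d1, d1.2, R.B0_eq_zero.mp h1, R.B0_eq_zero.mp h2⟩

include R hσ hB hN in
/-- Every rational vector orthogonal to a rational hyperbolic pair is the sum of two rational
isotropic vectors orthogonal to the pair. -/
lemma exists_two_iso_perp (h4 : 4 ≤ n) {e f : V} (he : e ∈ V₀) (hf : f ∈ V₀) (hee : B e e = 0)
    (hff : B f f = 0) (hef : B e f = 1) {y : V} (hy : y ∈ V₀) (hye : B y e = 0)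
    (hyf : B y f = 0) :
    ∃ y₁ ∈ V₀, B y₁ y₁ = 0 ∧ B (y - y₁) (y - y₁) = 0 ∧ B y₁ e = 0 ∧ B y₁ f = 0 := by
  haveI := R.finiteDimensional0
  haveI : Finite F₀ := Finite.of_injective (fun x : F₀ => (x : F)) Subtype.val_injective
  have hU := R.nondeg_pairPerp hB hN (e := ⟨e, he⟩) (f := ⟨f, hf⟩) hee hff hef
  have hfr := R.finrank_pairPerp ⟨e, he⟩ ⟨f, hf⟩
  obtain ⟨d1, hd1U, h1, h2⟩ := exists_two_iso (R.invol0 hσ) (R.herm0 hB) hU (by omega)
    (d := (⟨y, hy⟩ : R.lat)) (R.mem_pairPerp.mpr ⟨hye, hyf⟩)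
  obtain ⟨h3, h4⟩ := R.mem_pairPerp.mp hd1U
  exact ⟨d1, d1.2, R.B0_eq_zero.mp h1, R.B0_eq_zero.mp h2, h3, h4⟩

include R hσ hB in
/-- Two independent rational vectors span a rational isotropic vector. -/
lemma exists_iso_rat {x y : V} (hx : x ∈ V₀) (hy : y ∈ V₀) (hx0 : x ≠ 0)
    (hind : y ∉ Submodule.span F {x}) :
    ∃ a ∈ F₀, ∃ b ∈ F₀, a • x + b • y ≠ 0 ∧ B (a • x + b • y) (a • x + b • y) = 0 := by
  haveI : Finite F₀ := Finite.of_injective (fun x : F₀ => (x : F)) Subtype.val_injective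
  have hind0 : (⟨y, hy⟩ : R.lat) ∉ Submodule.span F₀ {(⟨x, hx⟩ : R.lat)} := by
    intro h
    apply hind
    obtain ⟨c, hc⟩ := Submodule.mem_span_singleton.mp h
    rw [Submodule.mem_span_singleton]
    refine ⟨(c : F), ?_⟩
    have := congrArg Subtype.val hc
    exact this
  obtain ⟨a, b, hne, hiso⟩ := exists_iso (R.invol0 hσ) (R.herm0 hB)
    (x := (⟨x, hx⟩ : R.lat)) (fun h => hx0 (congrArg Subtype.val h)) hind0
  refine ⟨a, a.2, b, b.2, ?_, ?_⟩
  · intro h
    apply hne
    exact Subtype.ext h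
  · exact R.B0_eq_zero.mp hiso

end Exist

end UForm

end Cfsg.Agent.Lib.Helper98_UFBase
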