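import Mathlib
import Cfsg.Agent.Lib.Helper94_Herm
import Cfsg.Agent.Lib.Helper94_HermWitt
import Cfsg.Agent.Lib.Helper94_HermTrans
import Cfsg.Agent.Lib.Helper94_HermIrr
import Cfsg.Agent.Lib.Helper98_UFBase

set_option autoImplicit false
set_option linter.style.haveILetI false
set_option linter.unusedSectionVars false
set_option linter.unusedSimpArgs false

/-!
Short root elements `x ↦ x + a B(x,w) v - σ(a) B(x,v) w` of a unitary group, for a totally
isotropic pair `v`, `w`, and their relations with the unitary transvections.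
-/

namespace Cfsg.Agent.Lib.Helper98_UFRoot

open Module Cfsg.Agent.Lib.Helper94_Symp Cfsg.Agent.Lib.Helper94_Herm Cfsg.Agent.Lib.Helper94_HermWitt
  Cfsg.Agent.Lib.Helper94_HermTrans Cfsg.Agent.Lib.Helper94_HermIrr
  Cfsg.Agent.Lib.Helper98_UFBase

variable {F V : Type*} [Field F] [AddCommGroup V] [Module F V]
variable {σ : F →+* F} (B : V →ₗ[F] V →ₛₗ[σ] F)

/-- A totally isotropic pair of vectors. -/
def TI (v w : V) : Prop := B v v = 0 ∧ B w w = 0 ∧ B v w = 0 ∧ B w v = 0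

variable {B}

lemma TI.symm {v w : V} (h : TI B v w) : TI B w v := ⟨h.2.1, h.1, h.2.2.2, h.2.2.1⟩

lemma TI.of (hB : IsHerm B) {v w : V} (hv : B v v = 0) (hw : B w w = 0) (hvw : B v w = 0) :
    TI B v w := ⟨hv, hw, hvw, herm_eq_zero hB hvw⟩

lemma TI.smul_left {v w : V} (h : TI B v w) (l : F) : TI B (l • v) w := by
  refine ⟨?_, h.2.1, ?_, ?_⟩
  · rw [self_smul, h.1, mul_zero]
  · rw [map_smul, LinearMap.smul_apply, h.2.2.1, smul_zero]
  · rw [map_smulₛₗ, h.2.2.2, smul_zero]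

lemma TI.smul_right {v w : V} (h : TI B v w) (l : F) : TI B v (l • w) :=
  (h.symm.smul_left l).symm

lemma TI.add_left {v₁ v₂ w : V} (h₁ : TI B v₁ w) (h₂ : TI B v₂ w) (h₁₂ : TI B v₁ v₂) :
    TI B (v₁ + v₂) w := by
  refine ⟨?_, h₁.2.1, ?_, ?_⟩
  · simp only [map_add, LinearMap.add_apply, h₁.1, h₂.1, h₁₂.2.2.1, h₁₂.2.2.2, add_zero]
  · simp only [map_add, LinearMap.add_apply, h₁.2.2.1, h₂.2.2.1, add_zero]
  · simp only [map_add, h₁.2.2.2, h₂.2.2.2, add_zero]

lemma TI.map {g : V ≃ₗ[F] V} (hg : g ∈ uG B) {v w : V} (h : TI B v w) : TI B (g v) (g w) := by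
  refine ⟨?_, ?_, ?_, ?_⟩
  · rw [hg, h.1]
  · rw [hg, h.2.1]
  · rw [hg, h.2.2.1]
  · rw [hg, h.2.2.2]

variable (B)

/-- The underlying linear map of a short root element. -/
def srtMap (v w : V) (a : F) : V →ₗ[F] V :=
  LinearMap.id + a • (B.flip w).smulRight v - σ a • (B.flip v).smulRight w

lemma srtMap_apply (v w : V) (a : F) (x : V) :
    srtMap B v w a x = x + (a * B x w) • v - (σ a * B x v) • w := by
  simp [srtMap, smul_smul]

lemma srtMap_comp {v w : V} (h : TI B v w) (a b : F) :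
    srtMap B v w a ∘ₗ srtMap B v w b = srtMap B v w (a + b) := by
  ext x
  rw [LinearMap.comp_apply, srtMap_apply, srtMap_apply, srtMap_apply]
  simp only [map_add, map_sub, map_smul, LinearMap.add_apply, LinearMap.sub_apply,
    LinearMap.smul_apply, smul_eq_mul, h.1, h.2.1, h.2.2.1, h.2.2.2, mul_zero, add_zero,
    sub_zero]
  module

lemma srtMap_zero (v w : V) : srtMap B v w 0 = LinearMap.id := by
  ext x
  rw [srtMap_apply]
  simp

open Classical in
/-- The short root element attached to a totally isotropic pair (the identity otherwise). -/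
noncomputable def srt (v w : V) (a : F) : V ≃ₗ[F] V :=
  if h : TI B v w then
    LinearEquiv.ofLinearMap (srtMap B v w a) (srtMap B v w (-a))
      (by rw [srtMap_comp B h, add_neg_cancel, srtMap_zero])
      (by rw [srtMap_comp B h, neg_add_cancel, srtMap_zero])
  else 1

variable {B}

lemma srt_apply {v w : V} (h : TI B v w) (a : F) (x : V) :
    srt B v w a x = x + (a * B x w) • v - (σ a * B x v) • w := by
  rw [srt, dif_pos h]
  exact srtMap_apply B v w a x

lemma srt_of_not {v w : V} (h : ¬ TI B v w) (a : F) : srt B v w a = 1 := by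
  rw [srt, dif_neg h]

lemma srt_mem_uG (hσ : Invol σ) (hB : IsHerm B) {v w : V} (h : TI B v w) (a : F) :
    srt B v w a ∈ uG B := by
  intro x y
  rw [srt_apply h, srt_apply h]
  simp only [map_add, map_sub, map_smul, map_smulₛₗ, LinearMap.add_apply, LinearMap.sub_apply,
    LinearMap.smul_apply, smul_eq_mul, h.1, h.2.1, h.2.2.1, h.2.2.2, map_mul, hσ.invol]
  rw [hB y v, hB y w]
  ring

lemma conj_srt {g : V ≃ₗ[F] V} (hg : g ∈ uG B) (v w : V) (a : F) :
    g * srt B v w a * g⁻¹ = srt B (g v) (g w) a := by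
  by_cases h : TI B v w
  · have h' : TI B (g v) (g w) := h.map hg
    ext x
    rw [LinearEquiv.mul_apply, LinearEquiv.mul_apply, srt_apply h, srt_apply h', map_sub,
      map_add, map_smul, map_smul, apply_inv_apply', uG_inv_apply B hg, uG_inv_apply B hg]
  · have h' : ¬ TI B (g v) (g w) := by
      intro h'
      apply h
      refine ⟨?_, ?_, ?_, ?_⟩
      · rw [← hg, h'.1]
      · rw [← hg, h'.2.1]
      · rw [← hg, h'.2.2.1]
      · rw [← hg, h'.2.2.2]
    rw [srt_of_not h, srt_of_not h', mul_one, mul_inv_cancel]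

lemma srt_mul {v w : V} (h : TI B v w) (a b : F) :
    srt B v w a * srt B v w b = srt B v w (a + b) := by
  ext x
  rw [LinearEquiv.mul_apply, srt_apply h, srt_apply h, srt_apply h]
  simp only [map_add, map_sub, map_smul, LinearMap.add_apply, LinearMap.sub_apply,
    LinearMap.smul_apply, smul_eq_mul, h.1, h.2.1, h.2.2.1, h.2.2.2, mul_zero, add_zero,
    sub_zero]
  module

lemma srt_zero (v w : V) : srt B v w 0 = 1 := by
  by_cases h : TI B v w
  · ext x
    rw [srt_apply h]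
    simp
  · exact srt_of_not h 0

lemma srt_inv {v w : V} (a : F) : (srt B v w a)⁻¹ = srt B v w (-a) := by
  by_cases h : TI B v w
  · apply inv_eq_of_mul_eq_one_right
    rw [srt_mul h, add_neg_cancel, srt_zero]
  · rw [srt_of_not h, srt_of_not h, inv_one]

lemma srt_add_left {v₁ v₂ w : V} (h₁ : TI B v₁ w) (h₂ : TI B v₂ w) (h₁₂ : TI B v₁ v₂) (a : F) :
    srt B (v₁ + v₂) w a = srt B v₁ w a * srt B v₂ w a := by
  ext x
  rw [LinearEquiv.mul_apply, srt_apply (h₁.add_left h₂ h₁₂), srt_apply h₁, srt_apply h₂]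
  simp only [map_add, map_sub, map_smul, map_smulₛₗ, LinearMap.add_apply, LinearMap.sub_apply,
    LinearMap.smul_apply, smul_eq_mul, h₁.1, h₁.2.1, h₁.2.2.1, h₁.2.2.2, h₂.1, h₂.2.2.1,
    h₂.2.2.2, h₁₂.2.2.1, h₁₂.2.2.2, mul_zero, add_zero, sub_zero]
  module

lemma srt_smul_left {v w : V} (h : TI B v w) (l a : F) :
    srt B (l • v) w a = srt B v w (l * a) := by
  ext x
  rw [srt_apply (h.smul_left l), srt_apply h]
  simp only [map_smulₛₗ, smul_eq_mul, map_mul]
  module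

lemma srt_smul_right (hσ : Invol σ) {v w : V} (h : TI B v w) (l a : F) :
    srt B v (l • w) a = srt B v w (a * σ l) := by
  ext x
  rw [srt_apply (h.smul_right l), srt_apply h]
  simp only [map_smulₛₗ, smul_eq_mul, map_mul, hσ.invol]
  module

lemma srt_swap (hσ : Invol σ) {v w : V} (h : TI B v w) (a : F) :
    srt B w v a = srt B v w (-σ a) := by
  ext x
  rw [srt_apply h.symm, srt_apply h]
  simp only [map_neg, hσ.invol]
  module

/-- A short root element is a product of three unitary transvections. -/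
lemma srt_decomp (hσ : Invol σ) {v w : V} (h : TI B v w) {c : F} (hc : σ c = -c) (l : F) :
    srt B v w (c * σ l) = utv B (v + l • w) c * utv B v (-c) * utv B (l • w) (-c) := by
  have h1 : B (v + l • w) (v + l • w) = 0 := by
    simp only [map_add, map_smul, map_smulₛₗ, LinearMap.add_apply, LinearMap.smul_apply,
      smul_eq_mul, h.1, h.2.1, h.2.2.1, h.2.2.2, mul_zero, add_zero]
  have h2 : B (l • w) (l • w) = 0 := by rw [self_smul, h.2.1, mul_zero]
  ext x
  rw [LinearEquiv.mul_apply, LinearEquiv.mul_apply, srt_apply h, utv_apply B h2,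
    utv_apply B h.1, utv_apply B h1]
  simp only [map_add, map_smul, map_smulₛₗ, LinearMap.add_apply, LinearMap.smul_apply,
    smul_eq_mul, h.1, h.2.1, h.2.2.1, h.2.2.2, mul_zero, add_zero, map_mul, hσ.invol, hc,
    map_neg]
  module

/-- The quotient of two transvections with orthogonal centres differing by a multiple of an
isotropic vector. -/
lemma utv_mul_utv (hσ : Invol σ) {y v : V} (h : TI B y v) {c : F} (hc : σ c = -c) (γ : F) :
    utv B y (-c) * utv B (y + γ • v) c = srt B y v (c * σ γ) * utv B v (c * γ * σ γ) := by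
  have h1 : B (y + γ • v) (y + γ • v) = 0 := by
    simp only [map_add, map_smul, map_smulₛₗ, LinearMap.add_apply, LinearMap.smul_apply,
      smul_eq_mul, h.1, h.2.1, h.2.2.1, h.2.2.2, mul_zero, add_zero]
  ext x
  rw [LinearEquiv.mul_apply, LinearEquiv.mul_apply, srt_apply h, utv_apply B h.2.1,
    utv_apply B h.1, utv_apply B h1]
  simp only [map_add, map_smul, map_smulₛₗ, LinearMap.add_apply, LinearMap.smul_apply,
    smul_eq_mul, h.1, h.2.1, h.2.2.1, h.2.2.2, mul_zero, add_zero, map_mul, hσ.invol, hc,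
    map_neg]
  module

/-- Changing the first vector of a short root element by a multiple of the second one. -/
lemma srt_add_smul {a p : V} (h : TI B a p) (α β : F) :
    srt B (a + β • p) p α = srt B a p α * utv B p (α * β - σ (α * β)) := by
  have h1 : TI B (a + β • p) p := by
    refine ⟨?_, h.2.1, ?_, ?_⟩
    · simp only [map_add, map_smul, map_smulₛₗ, LinearMap.add_apply, LinearMap.smul_apply,
        smul_eq_mul, h.1, h.2.1, h.2.2.1, h.2.2.2, mul_zero, add_zero]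
    · simp only [map_add, map_smul, LinearMap.add_apply, LinearMap.smul_apply, smul_eq_mul,
        h.2.1, h.2.2.1, mul_zero, add_zero]
    · simp only [map_add, map_smulₛₗ, smul_eq_mul, h.2.1, h.2.2.2, mul_zero, add_zero]
  ext x
  rw [LinearEquiv.mul_apply, srt_apply h1, srt_apply h, utv_apply B h.2.1]
  simp only [map_add, map_smul, map_smulₛₗ, LinearMap.add_apply, LinearMap.smul_apply,
    smul_eq_mul, h.1, h.2.1, h.2.2.1, h.2.2.2, mul_zero, add_zero, map_mul]
  module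

/-! ### Determinants -/

lemma utv_mul (a : V) (c c' : F) : utv B a c * utv B a c' = utv B a (c + c') := by
  by_cases haa : B a a = 0
  · ext y
    rw [LinearEquiv.mul_apply, utv_apply B haa, utv_apply B haa, utv_apply B haa]
    simp only [map_add, map_smul, LinearMap.add_apply, LinearMap.smul_apply, haa, smul_eq_mul,
      mul_zero, add_zero]
    module
  · simp [utv, haa]

lemma utv_zero (a : V) : utv B a 0 = 1 := by
  by_cases haa : B a a = 0
  · ext y
    rw [utv_apply B haa]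
    simp
  · simp [utv, haa]

lemma utv_inv (a : V) (c : F) : (utv B a c)⁻¹ = utv B a (-c) := by
  apply inv_eq_of_mul_eq_one_right
  rw [utv_mul, add_neg_cancel, utv_zero]

lemma utv_zero_left (c : F) : utv B (0 : V) c = 1 := by
  ext y
  rw [utv_apply B (by simp)]
  simp

lemma utv_det (a : V) (c : F) : LinearEquiv.det (utv B a c) = 1 := by
  unfold utv
  split_ifs
  · exact LinearEquiv.transvection.det_eq_one _
  · exact map_one _

lemma srt_det (hσ : Invol σ) (v w : V) (a : F) : LinearEquiv.det (srt B v w a) = 1 := by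
  by_cases h : TI B v w
  · obtain ⟨c, hc0, hc⟩ := exists_skew hσ
    have ha : a = c * σ (σ (a / c)) := by
      rw [hσ.invol]
      field_simp
    rw [ha, srt_decomp hσ h hc, map_mul, map_mul, utv_det, utv_det, utv_det, mul_one, mul_one]
  · rw [srt_of_not h, map_one]

/-! ### Hyperbolic extensions and transitivity on totally isotropic pairs -/

section General

variable (hσ : Invol σ) (hB : IsHerm B)

include hσ hB in
/-- A totally isotropic pair of independent vectors extends to two orthogonal hyperbolic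
pairs. -/
lemma exists_hyp_ext {U : Submodule F V} (hU : NondegOn B U) {v w : V} (hvU : v ∈ U)
    (hwU : w ∈ U) (h : TI B v w) (hv0 : v ≠ 0) (hind : w ∉ Submodule.span F {v}) :
    ∃ fv ∈ U, ∃ fw ∈ U, B fv fv = 0 ∧ B fw fw = 0 ∧ B v fv = 1 ∧ B w fw = 1 ∧ B v fw = 0 ∧
      B w fv = 0 ∧ B fv fw = 0 := by
  obtain ⟨f0, hf0U, hf0, hvf0⟩ := exists_partner hσ hB hU hvU hv0 h.1
  have hf0v : B f0 v = 1 := by rw [hB v f0, hvf0, map_one]
  have hU' := nondegOn_pair hB hU hvU hf0U h.1 hf0 hvf0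
  set w1 := w - B w f0 • v with hw1
  have hw1v : B w1 v = 0 := by
    rw [hw1, map_sub, map_smul, LinearMap.sub_apply, LinearMap.smul_apply, h.2.2.2, h.1,
      smul_zero, sub_zero]
  have hw1f : B w1 f0 = 0 := by
    rw [hw1, map_sub, map_smul, LinearMap.sub_apply, LinearMap.smul_apply, hvf0, smul_eq_mul,
      mul_one, sub_self]
  have hw1U' : w1 ∈ U ⊓ orthV B v ⊓ orthV B f0 :=
    Submodule.mem_inf.mpr ⟨Submodule.mem_inf.mpr
      ⟨U.sub_mem hwU (U.smul_mem _ hvU), mem_orthV.mpr hw1v⟩, mem_orthV.mpr hw1f⟩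
  have hw10 : w1 ≠ 0 := by
    intro h0
    apply hind
    rw [Submodule.mem_span_singleton]
    exact ⟨B w f0, (sub_eq_zero.mp h0).symm⟩
  have hw1w1 : B w1 w1 = 0 := by
    rw [hw1]
    simp only [map_sub, map_smul, map_smulₛₗ, LinearMap.sub_apply, LinearMap.smul_apply,
      smul_eq_mul, h.1, h.2.1, h.2.2.1, h.2.2.2, mul_zero, sub_zero]
  obtain ⟨f1, hf1U', hf1, hw1f1⟩ := exists_partner hσ hB hU' hw1U' hw10 hw1w1
  have hf1U : f1 ∈ U := hf1U'.1.1
  have hf1v : B f1 v = 0 := mem_orthV.mp hf1U'.1.2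
  have hf1f0 : B f1 f0 = 0 := mem_orthV.mp hf1U'.2
  have hvf1 : B v f1 = 0 := herm_eq_zero hB hf1v
  have hf0f1 : B f0 f1 = 0 := herm_eq_zero hB hf1f0
  have hwf1 : B w f1 = 1 := by
    have : w = w1 + B w f0 • v := by rw [hw1]; abel
    rw [this, map_add, map_smul, LinearMap.add_apply, LinearMap.smul_apply, hw1f1, hvf1,
      smul_zero, add_zero]
  have hf1w : B f1 w = 1 := by rw [hB w f1, hwf1, map_one]
  refine ⟨f0 - B f0 w • f1, U.sub_mem hf0U (U.smul_mem _ hf1U), f1, hf1U, ?_, hf1, ?_, hwf1, hvf1,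
    ?_, ?_⟩
  · simp only [map_sub, map_smul, map_smulₛₗ, LinearMap.sub_apply, LinearMap.smul_apply,
      smul_eq_mul, hf0, hf1, hf1f0, hf0f1, mul_zero, sub_zero]
  · simp only [map_sub, map_smulₛₗ, hvf0, hvf1, smul_zero, sub_zero]
  · apply herm_eq_zero hB
    simp only [map_sub, map_smul, LinearMap.sub_apply, LinearMap.smul_apply, smul_eq_mul, hf1w,
      mul_one, sub_self]
  · simp only [map_sub, map_smul, LinearMap.sub_apply, LinearMap.smul_apply, smul_eq_mul,
      hf0f1, hf1, mul_zero, sub_zero]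

include hσ hB in
/-- Transitivity of the group generated by the transvections on the totally isotropic pairs of
independent vectors. -/
lemma ti_pair_trans [Finite F] [FiniteDimensional F V] (hN : NondegOn B ⊤)
    (h6 : 6 ≤ finrank F V) {v w v' w' : V} (h : TI B v w) (hv0 : v ≠ 0)
    (hind : w ∉ Submodule.span F {v}) (h' : TI B v' w') (hv'0 : v' ≠ 0)
    (hind' : w' ∉ Submodule.span F {v'}) :
    ∃ t ∈ tvGroup B ⊤, t v = v' ∧ t w = w' := by
  obtain ⟨fv, -, fw, -, hfv, hfw, hvfv, hwfw, hvfw, hwfv, hfvfw⟩ :=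
    exists_hyp_ext hσ hB hN (v := v) (w := w) Submodule.mem_top Submodule.mem_top h hv0 hind
  obtain ⟨fv', -, fw', -, hfv', hfw', hvfv', hwfw', hvfw', hwfv', hfvfw'⟩ :=
    exists_hyp_ext hσ hB hN (v := v') (w := w') Submodule.mem_top Submodule.mem_top h' hv'0 hind'
  obtain ⟨t1, ht1, ht1v, ht1f⟩ := pair_trans hσ hB hN (by rw [finrank_top]; omega)
    Submodule.mem_top Submodule.mem_top Submodule.mem_top Submodule.mem_top h.1 hfv hvfv h'.1
    hfv' hvfv'
  have ht1U : t1 ∈ uG B := tvGroup_le_uG hB ⊤ ht1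
  have hU' := nondegOn_pair hB hN (e := v') (f := fv') Submodule.mem_top Submodule.mem_top h'.1
    hfv' hvfv'
  have hfr : 4 ≤ finrank F (⊤ ⊓ orthV B v' ⊓ orthV B fv' : Submodule F V) := by
    have h1 := finrank_le_inf_orthV_add_one (B := B) (⊤ : Submodule F V) v'
    have h2 := finrank_le_inf_orthV_add_one (B := B) ((⊤ : Submodule F V) ⊓ orthV B v') fv'
    rw [finrank_top] at h1
    omega
  have mem : ∀ x : V, B x v' = 0 → B x fv' = 0 →
      x ∈ (⊤ ⊓ orthV B v' ⊓ orthV B fv' : Submodule F V) := by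
    intro x h1 h2
    exact Submodule.mem_inf.mpr ⟨Submodule.mem_inf.mpr ⟨Submodule.mem_top, mem_orthV.mpr h1⟩,
      mem_orthV.mpr h2⟩
  have m1 : t1 w ∈ (⊤ ⊓ orthV B v' ⊓ orthV B fv' : Submodule F V) := by
    apply mem
    · rw [← ht1v, ht1U, h.2.2.2]
    · rw [← ht1f, ht1U, hwfv]
  have m2 : t1 fw ∈ (⊤ ⊓ orthV B v' ⊓ orthV B fv' : Submodule F V) := by
    apply mem
    · rw [← ht1v, ht1U]; exact herm_eq_zero hB hvfw
    · rw [← ht1f, ht1U]; exact herm_eq_zero hB hfvfw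
  have m3 : w' ∈ (⊤ ⊓ orthV B v' ⊓ orthV B fv' : Submodule F V) := mem _ h'.2.2.2 hwfv'
  have m4 : fw' ∈ (⊤ ⊓ orthV B v' ⊓ orthV B fv' : Submodule F V) :=
    mem _ (herm_eq_zero hB hvfw') (herm_eq_zero hB hfvfw')
  obtain ⟨t2, ht2, ht2w, -⟩ := pair_trans hσ hB hU' hfr m1 m2 m3 m4
    (by rw [ht1U, h.2.1]) (by rw [ht1U, hfw]) (by rw [ht1U, hwfw]) h'.2.1 hfw' hwfw'
  have ht2v : t2 v' = v' := by
    apply tvGroup_fix _ ht2
    intro a ha
    exact herm_eq_zero hB (mem_orthV.mp ha.1.2)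
  refine ⟨t2 * t1, (tvGroup B ⊤).mul_mem (tvGroup_mono le_top ht2) ht1, ?_, ?_⟩
  · rw [LinearEquiv.mul_apply, ht1v, ht2v]
  · rw [LinearEquiv.mul_apply, ht2w]

end General

/-! ### The group generated by the rational transvections -/

/-- The group generated by the rational unitary transvections. -/
def RT (B : V →ₗ[F] V →ₛₗ[σ] F) (V₀ : AddSubgroup V) (F₀ : Subfield F) :
    Subgroup (V ≃ₗ[F] V) :=
  Subgroup.closure {g | ∃ a ∈ V₀, ∃ c ∈ F₀, B a a = 0 ∧ σ c = -c ∧ g = utv B a c}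

variable {V₀ : AddSubgroup V} {F₀ : Subfield F} {n : ℕ}

lemma utv_mem_RT {a : V} (ha : a ∈ V₀) {c : F} (hc : c ∈ F₀) (haa : B a a = 0)
    (hcs : σ c = -c) : utv B a c ∈ RT B V₀ F₀ :=
  Subgroup.subset_closure ⟨a, ha, c, hc, haa, hcs, rfl⟩

lemma RT_le (M : Subgroup (V ≃ₗ[F] V))
    (hM : ∀ a ∈ V₀, ∀ c ∈ F₀, B a a = 0 → σ c = -c → utv B a c ∈ M) : RT B V₀ F₀ ≤ M := by
  rw [RT, Subgroup.closure_le]
  rintro g ⟨a, ha, c, hc, haa, hcs, rfl⟩
  exact hM a ha c hc haa hcs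

lemma RT_le_uG (hB : IsHerm B) : RT B V₀ F₀ ≤ uG B :=
  RT_le _ (fun a _ _ _ _ hcs => utv_mem_uG hB a hcs)

section Lift

variable (R : UForm B V₀ F₀ n)

include R in
/-- Rational transvections preserve the lattice. -/
lemma utv_map_mem {a : V} (ha : a ∈ V₀) {c : F} (hc : c ∈ F₀) (haa : B a a = 0) {x : V}
    (hx : x ∈ V₀) : utv B a c x ∈ V₀ := by
  rw [utv_apply B haa]
  exact V₀.add_mem hx (R.smul_mem (F₀.mul_mem hc (R.val x hx a ha)) ha)

include R in
/-- The rational transvection group preserves the lattice. -/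
lemma RT_map_mem {g : V ≃ₗ[F] V} (hg : g ∈ RT B V₀ F₀) : ∀ x ∈ V₀, g x ∈ V₀ := by
  have key : ∀ g ∈ RT B V₀ F₀, (∀ x ∈ V₀, g x ∈ V₀) ∧ (∀ x ∈ V₀, g⁻¹ x ∈ V₀) := by
    intro g hg
    induction hg using Subgroup.closure_induction with
    | mem g hg =>
      obtain ⟨a, ha, c, hc, haa, hcs, rfl⟩ := hg
      refine ⟨fun x hx => utv_map_mem R ha hc haa hx, fun x hx => ?_⟩
      have hinv : (utv B a c)⁻¹ = utv B a (-c) := by
        apply inv_eq_of_mul_eq_one_right
        ext y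
        rw [LinearEquiv.mul_apply, utv_apply B haa, utv_apply B haa]
        simp only [map_add, map_smul, LinearMap.add_apply, LinearMap.smul_apply, haa, smul_eq_mul,
          mul_zero, add_zero, LinearEquiv.coe_one, id_eq]
        module
      rw [hinv]
      exact utv_map_mem R ha (F₀.neg_mem hc) haa hx
    | one => exact ⟨fun x hx => hx, fun x hx => by simpa using hx⟩
    | mul g₁ g₂ _ _ h₁ h₂ =>
      refine ⟨fun x hx => ?_, fun x hx => ?_⟩
      · rw [LinearEquiv.mul_apply]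
        exact h₁.1 _ (h₂.1 x hx)
      · rw [_root_.mul_inv_rev, LinearEquiv.mul_apply]
        exact h₂.2 _ (h₁.2 x hx)
    | inv g _ h =>
      refine ⟨h.2, ?_⟩
      rw [inv_inv]
      exact h.1
  exact (key g hg).1

/-- Lifting the transvection group of the lattice to the rational transvection group. -/
lemma lift {t : R.lat ≃ₗ[F₀] R.lat} (ht : t ∈ tvGroup R.B0 ⊤) :
    ∃ g ∈ RT B V₀ F₀, ∀ x : R.lat, g (x : V) = ((t x : R.lat) : V) := by
  induction ht using Subgroup.closure_induction with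
  | mem t ht =>
    obtain ⟨a, -, c, haa, hc, rfl⟩ := ht
    have haa' : B (a : V) (a : V) = 0 := R.B0_eq_zero.mp haa
    have hc' : σ (c : F) = -(c : F) := by
      have := congrArg (fun x : F₀ => (x : F)) hc
      simpa [UForm.sig0_coe] using this
    refine ⟨utv B (a : V) (c : F), utv_mem_RT a.2 c.2 haa' hc', fun x => ?_⟩
    rw [utv_apply B haa', utv_apply R.B0 haa]
    rfl
  | one => exact ⟨1, Subgroup.one_mem _, fun x => rfl⟩
  | mul t₁ t₂ _ _ h₁ h₂ =>
    obtain ⟨g₁, hg₁, e₁⟩ := h₁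
    obtain ⟨g₂, hg₂, e₂⟩ := h₂
    refine ⟨g₁ * g₂, Subgroup.mul_mem _ hg₁ hg₂, fun x => ?_⟩
    rw [LinearEquiv.mul_apply, LinearEquiv.mul_apply, e₂, e₁]
  | inv t _ h =>
    obtain ⟨g, hg, e⟩ := h
    refine ⟨g⁻¹, Subgroup.inv_mem _ hg, fun x => ?_⟩
    have := e (t⁻¹ x)
    rw [apply_inv_apply'] at this
    rw [← this]
    exact inv_apply_apply' g _


include R in
lemma not_mem_span0 {x y : V} (hx : x ∈ V₀) (hy : y ∈ V₀)
    (hind : y ∉ Submodule.span F {x}) :
    (⟨y, hy⟩ : R.lat) ∉ Submodule.span F₀ {(⟨x, hx⟩ : R.lat)} := by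
  intro h
  apply hind
  obtain ⟨c, hc⟩ := Submodule.mem_span_singleton.mp h
  rw [Submodule.mem_span_singleton]
  refine ⟨(c : F), ?_⟩
  have := congrArg Subtype.val hc
  exact this

section Trans

variable [Finite F] (hσ : Invol σ) (hB : IsHerm B) (hN : NondegOn B ⊤)

include R hσ hB hN in
/-- The rational transvection group is transitive on the nonzero rational isotropic vectors. -/
lemma trans_iso (h3 : 3 ≤ n) {u u' : V} (hu : u ∈ V₀) (hu' : u' ∈ V₀) (hu0 : u ≠ 0)
    (hu'0 : u' ≠ 0) (huu : B u u = 0) (hu'u' : B u' u' = 0) :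
    ∃ g ∈ RT B V₀ F₀, g u = u' := by
  haveI := R.finiteDimensional0
  haveI : Finite F₀ := Finite.of_injective (fun x : F₀ => (x : F)) Subtype.val_injective
  obtain ⟨t, ht, htu⟩ := exists_tv_iso (R.invol0 hσ) (R.herm0 hB) (R.nondeg0 hN) (U := ⊤)
    (by rw [finrank_top, R.finrank0]; exact h3) (b := (⟨u, hu⟩ : R.lat))
    (b' := (⟨u', hu'⟩ : R.lat)) Submodule.mem_top Submodule.mem_top
    (fun h => hu0 (congrArg Subtype.val h)) (fun h => hu'0 (congrArg Subtype.val h))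
    (R.B0_eq_zero.mpr huu) (R.B0_eq_zero.mpr hu'u')
  obtain ⟨g, hg, e⟩ := lift R ht
  refine ⟨g, hg, ?_⟩
  have := e ⟨u, hu⟩
  rw [htu] at this
  exact this

include R hσ hB hN in
/-- The rational transvection group is transitive on the rational totally isotropic pairs of
independent vectors. -/
lemma trans_pair (h6 : 6 ≤ n) {v w v' w' : V} (hv : v ∈ V₀) (hw : w ∈ V₀) (hv' : v' ∈ V₀)
    (hw' : w' ∈ V₀) (h : TI B v w) (hv0 : v ≠ 0) (hind : w ∉ Submodule.span F {v})
    (h' : TI B v' w') (hv'0 : v' ≠ 0) (hind' : w' ∉ Submodule.span F {v'}) :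
    ∃ g ∈ RT B V₀ F₀, g v = v' ∧ g w = w' := by
  haveI := R.finiteDimensional0
  haveI : Finite F₀ := Finite.of_injective (fun x : F₀ => (x : F)) Subtype.val_injective
  have hti : ∀ {x y : V} (hx : x ∈ V₀) (hy : y ∈ V₀), TI B x y →
      TI R.B0 (⟨x, hx⟩ : R.lat) (⟨y, hy⟩ : R.lat) := by
    intro x y hx hy hxy
    exact ⟨R.B0_eq_zero.mpr hxy.1, R.B0_eq_zero.mpr hxy.2.1, R.B0_eq_zero.mpr hxy.2.2.1,
      R.B0_eq_zero.mpr hxy.2.2.2⟩
  obtain ⟨t, ht, htv, htw⟩ := ti_pair_trans (R.invol0 hσ) (R.herm0 hB) (R.nondeg0 hN)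
    (by rw [R.finrank0]; exact h6) (hti hv hw h) (fun h => hv0 (congrArg Subtype.val h))
    (not_mem_span0 R hv hw hind) (hti hv' hw' h') (fun h => hv'0 (congrArg Subtype.val h))
    (not_mem_span0 R hv' hw' hind')
  obtain ⟨g, hg, e⟩ := lift R ht
  refine ⟨g, hg, ?_, ?_⟩
  · have := e ⟨v, hv⟩
    rw [htv] at this
    exact this
  · have := e ⟨w, hw⟩
    rw [htw] at this
    exact this

include R hσ in
/-- Rational short root elements lie in the rational transvection group. -/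
lemma srt_mem_RT {v w : V} (hv : v ∈ V₀) (hw : w ∈ V₀) (h : TI B v w) {a : F} (ha : a ∈ F₀) :
    srt B v w a ∈ RT B V₀ F₀ := by
  obtain ⟨c, hc0, hc⟩ := exists_skew (R.invol0 hσ)
  have hc' : σ (c : F) = -(c : F) := by
    have := congrArg (fun x : F₀ => (x : F)) hc
    simpa [UForm.sig0_coe] using this
  have hc0' : (c : F) ≠ 0 := fun h0 => hc0 (Subtype.ext h0)
  have hl : σ (a / (c : F)) ∈ F₀ := R.sigma_mem _ (F₀.div_mem ha c.2)
  have ha' : a = (c : F) * σ (σ (a / (c : F))) := by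
    rw [hσ.invol]
    field_simp
  have h1 : B (v + σ (a / (c : F)) • w) (v + σ (a / (c : F)) • w) = 0 := by
    simp only [map_add, map_smul, map_smulₛₗ, LinearMap.add_apply, LinearMap.smul_apply,
      smul_eq_mul, h.1, h.2.1, h.2.2.1, h.2.2.2, mul_zero, add_zero]
  rw [ha', srt_decomp hσ h hc']
  refine Subgroup.mul_mem _ (Subgroup.mul_mem _ ?_ ?_) ?_
  · exact utv_mem_RT (V₀.add_mem hv (R.smul_mem hl hw)) c.2 h1 hc'
  · exact utv_mem_RT hv (F₀.neg_mem c.2) h.1 (by rw [map_neg, hc'])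
  · exact utv_mem_RT (R.smul_mem hl hw) (F₀.neg_mem c.2)
      (by rw [self_smul, h.2.1, mul_zero]) (by rw [map_neg, hc'])

end Trans

/-! ### Rational frames -/

/-- Three mutually orthogonal rational hyperbolic pairs. -/
structure Frame (B : V →ₗ[F] V →ₛₗ[σ] F) (V₀ : AddSubgroup V) where
  e : Fin 3 → V
  f : Fin 3 → V
  he : ∀ i, e i ∈ V₀
  hf : ∀ i, f i ∈ V₀
  ee : ∀ i j, B (e i) (e j) = 0
  ff : ∀ i j, B (f i) (f j) = 0
  ef : ∀ i j, B (e i) (f j) = if i = j then 1 else 0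

lemma Frame.fe (hB : IsHerm B) (Φ : Frame B V₀) (i j : Fin 3) :
    B (Φ.f i) (Φ.e j) = if i = j then 1 else 0 := by
  rw [hB (Φ.e j) (Φ.f i), Φ.ef]
  by_cases h : i = j
  · subst h
    simp
  · have : ¬ j = i := fun h' => h h'.symm
    simp [h, this]

/-- A rational totally isotropic pair of independent vectors. -/
def GP (B : V →ₗ[F] V →ₛₗ[σ] F) (V₀ : AddSubgroup V) (v w : V) : Prop :=
  v ∈ V₀ ∧ w ∈ V₀ ∧ TI B v w ∧ v ≠ 0 ∧ w ∉ Submodule.span F {v}

lemma gp_of {v w fv : V} (hv : v ∈ V₀) (hw : w ∈ V₀) (h : TI B v w)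
    (h1 : B v fv = 1) (h2 : B w fv = 0) (hw0 : w ≠ 0) : GP B V₀ v w := by
  refine ⟨hv, hw, h, ?_, ?_⟩
  · rintro rfl
    simp at h1
  · intro hmem
    obtain ⟨c, rfl⟩ := Submodule.mem_span_singleton.mp hmem
    rw [map_smul, LinearMap.smul_apply, h1, smul_eq_mul, mul_one] at h2
    apply hw0
    rw [h2, zero_smul]

section Frame

variable (hB : IsHerm B) (Φ : Frame B V₀)

lemma Frame.e_ne (i : Fin 3) : Φ.e i ≠ 0 := by
  intro h
  have := Φ.ef i i
  rw [h] at this
  simp at this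

include hB in
lemma Frame.f_ne (i : Fin 3) : Φ.f i ≠ 0 := by
  intro h
  have := Φ.fe hB i i
  rw [h] at this
  simp at this

lemma Frame.ti_ee (i j : Fin 3) : TI B (Φ.e i) (Φ.e j) :=
  ⟨Φ.ee i i, Φ.ee j j, Φ.ee i j, Φ.ee j i⟩

lemma Frame.ti_ff (i j : Fin 3) : TI B (Φ.f i) (Φ.f j) :=
  ⟨Φ.ff i i, Φ.ff j j, Φ.ff i j, Φ.ff j i⟩

include hB in
lemma Frame.ti_ef {i j : Fin 3} (hij : i ≠ j) : TI B (Φ.e i) (Φ.f j) := by
  refine ⟨Φ.ee i i, Φ.ff j j, ?_, ?_⟩
  · rw [Φ.ef, if_neg hij]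
  · rw [Φ.fe hB, if_neg hij.symm]

include hB in
lemma Frame.ti_fe {i j : Fin 3} (hij : i ≠ j) : TI B (Φ.f i) (Φ.e j) :=
  (Φ.ti_ef hB hij.symm).symm

include hB in
lemma Frame.gp_ee {i j : Fin 3} (hij : i ≠ j) : GP B V₀ (Φ.e i) (Φ.e j) :=
  gp_of (fv := Φ.f i) (Φ.he i) (Φ.he j) (Φ.ti_ee i j) (by rw [Φ.ef, if_pos rfl])
    (by rw [Φ.ef, if_neg hij.symm]) (Φ.e_ne j)

include hB in
lemma Frame.gp_ef {i j : Fin 3} (hij : i ≠ j) : GP B V₀ (Φ.e i) (Φ.f j) :=
  gp_of (fv := Φ.f i) (Φ.he i) (Φ.hf j) (Φ.ti_ef hB hij) (by rw [Φ.ef, if_pos rfl])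
    (Φ.ff j i) (Φ.f_ne hB j)

include hB in
lemma Frame.gp_fe {i j : Fin 3} (hij : i ≠ j) : GP B V₀ (Φ.f i) (Φ.e j) :=
  gp_of (fv := Φ.e i) (Φ.hf i) (Φ.he j) (Φ.ti_fe hB hij) (by rw [Φ.fe hB, if_pos rfl])
    (Φ.ee j i) (Φ.e_ne j)

end Frame

include R in
lemma exists_frame [Finite F] (hσ : Invol σ) (hB : IsHerm B) (hN : NondegOn B ⊤)
    (h6 : 6 ≤ n) : Nonempty (Frame B V₀) := by
  haveI := R.finiteDimensional0
  haveI : Finite F₀ := Finite.of_injective (fun x : F₀ => (x : F)) Subtype.val_injective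
  have hσ₀ := R.invol0 hσ
  have hB₀ := R.herm0 hB
  have hN₀ := R.nondeg0 hN
  have hfr0 : finrank F₀ (⊤ : Submodule F₀ R.lat) = n := by rw [finrank_top, R.finrank0]
  obtain ⟨e1, -, f1, -, he1, hf1, hef1⟩ := exists_pair hσ₀ hB₀ hN₀
    (exists_notMem_span1 (by omega))
  have hU1 := nondegOn_pair hB₀ hN₀ (e := e1) (f := f1) Submodule.mem_top Submodule.mem_top
    he1 hf1 hef1
  have hfr1 : n ≤ finrank F₀ (⊤ ⊓ orthV R.B0 e1 ⊓ orthV R.B0 f1 : Submodule F₀ R.lat) + 2 := by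
    have h1 := finrank_le_inf_orthV_add_one (B := R.B0) (⊤ : Submodule F₀ R.lat) e1
    have h2 := finrank_le_inf_orthV_add_one (B := R.B0)
      ((⊤ : Submodule F₀ R.lat) ⊓ orthV R.B0 e1) f1
    omega
  obtain ⟨e2, he2U, f2, hf2U, he2, hf2, hef2⟩ := exists_pair hσ₀ hB₀ hU1
    (exists_notMem_span1 (by omega))
  have hU2 := nondegOn_pair hB₀ hU1 he2U hf2U he2 hf2 hef2
  have hfr2 : n ≤ finrank F₀ (⊤ ⊓ orthV R.B0 e1 ⊓ orthV R.B0 f1 ⊓ orthV R.B0 e2 ⊓
      orthV R.B0 f2 : Submodule F₀ R.lat) + 4 := by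
    have h1 := finrank_le_inf_orthV_add_one (B := R.B0)
      (⊤ ⊓ orthV R.B0 e1 ⊓ orthV R.B0 f1 : Submodule F₀ R.lat) e2
    have h2 := finrank_le_inf_orthV_add_one (B := R.B0)
      (⊤ ⊓ orthV R.B0 e1 ⊓ orthV R.B0 f1 ⊓ orthV R.B0 e2 : Submodule F₀ R.lat) f2
    omega
  obtain ⟨e3, he3U, f3, hf3U, he3, hf3, hef3⟩ := exists_pair hσ₀ hB₀ hU2
    (exists_notMem_span1 (by omega))
  -- relations
  have z : ∀ {x y : R.lat}, R.B0 x y = 0 → B (x : V) (y : V) = 0 := fun h => R.B0_eq_zero.mp h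
  have z' : ∀ {x y : R.lat}, R.B0 x y = 0 → B (y : V) (x : V) = 0 :=
    fun h => herm_eq_zero hB (R.B0_eq_zero.mp h)
  have o : ∀ {x y : R.lat}, R.B0 x y = 1 → B (x : V) (y : V) = 1 := fun h => R.B0_eq_one.mp h
  have a21 : R.B0 e2 e1 = 0 := mem_orthV.mp he2U.1.2
  have a21' : R.B0 e2 f1 = 0 := mem_orthV.mp he2U.2
  have b21 : R.B0 f2 e1 = 0 := mem_orthV.mp hf2U.1.2
  have b21' : R.B0 f2 f1 = 0 := mem_orthV.mp hf2U.2
  have a31 : R.B0 e3 e1 = 0 := mem_orthV.mp he3U.1.1.1.2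
  have a31' : R.B0 e3 f1 = 0 := mem_orthV.mp he3U.1.1.2
  have a32 : R.B0 e3 e2 = 0 := mem_orthV.mp he3U.1.2
  have a32' : R.B0 e3 f2 = 0 := mem_orthV.mp he3U.2
  have b31 : R.B0 f3 e1 = 0 := mem_orthV.mp hf3U.1.1.1.2
  have b31' : R.B0 f3 f1 = 0 := mem_orthV.mp hf3U.1.1.2
  have b32 : R.B0 f3 e2 = 0 := mem_orthV.mp hf3U.1.2
  have b32' : R.B0 f3 f2 = 0 := mem_orthV.mp hf3U.2
  refine ⟨⟨![(e1 : V), e2, e3], ![(f1 : V), f2, f3], ?_, ?_, ?_, ?_, ?_⟩⟩
  · intro i
    fin_cases i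
    · exact e1.2
    · exact e2.2
    · exact e3.2
  · intro i
    fin_cases i
    · exact f1.2
    · exact f2.2
    · exact f3.2
  · intro i j
    fin_cases i <;> fin_cases j
    · exact z he1
    · exact z' a21
    · exact z' a31
    · exact z a21
    · exact z he2
    · exact z' a32
    · exact z a31
    · exact z a32
    · exact z he3
  · intro i j
    fin_cases i <;> fin_cases j
    · exact z hf1
    · exact z' b21'
    · exact z' b31'
    · exact z b21'
    · exact z hf2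
    · exact z' b32'
    · exact z b31'
    · exact z b32'
    · exact z hf3
  · intro i j
    fin_cases i <;> fin_cases j
    · simpa using o hef1
    · simpa using z' b21
    · simpa using z' b31
    · simpa using z a21'
    · simpa using o hef2
    · simpa using z' b32
    · simpa using z a31'
    · simpa using z a32'
    · simpa using o hef3

end Lift

end Cfsg.Agent.Lib.Helper98_UFRoot

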