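import Mathlib
import Cfsg.Agent.Lib.Helper98_UFRoot

set_option autoImplicit false
set_option linter.style.haveILetI false
set_option linter.unusedSectionVars false
set_option linter.unusedSimpArgs false

/-!
The dichotomy for the overgroups `K` of the rational transvection group of a unitary rational
structure: either `K` contains all unitary transvections, or all its root elements at rational
vectors have rational parameters.
-/

namespace Cfsg.Agent.Lib.Helper98_UFDich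

open Module Cfsg.Agent.Lib.Helper94_Symp Cfsg.Agent.Lib.Helper94_Herm
  Cfsg.Agent.Lib.Helper94_HermWitt Cfsg.Agent.Lib.Helper94_HermTrans
  Cfsg.Agent.Lib.Helper94_HermIrr Cfsg.Agent.Lib.Helper98_UFBase Cfsg.Agent.Lib.Helper98_UFRoot

variable {F V : Type*} [Field F] [AddCommGroup V] [Module F V]
variable {σ : F →+* F} {B : V →ₗ[F] V →ₛₗ[σ] F}
variable {V₀ : AddSubgroup V} {F₀ : Subfield F} {n : ℕ}

section Main

variable (R : UForm B V₀ F₀ n) [Finite F] (hσ : Invol σ) (hB : IsHerm B) (hN : NondegOn B ⊤)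
  (hn : 6 ≤ n) (K : Subgroup (V ≃ₗ[F] V)) (hRT : RT B V₀ F₀ ≤ K) (hKU : K ≤ uG B)
  (Φ : Frame B V₀)

/-- The parameters of the short root elements of `K` at the reference pair. -/
def Aset (K : Subgroup (V ≃ₗ[F] V)) (Φ : Frame B V₀) : Set F :=
  {a | srt B (Φ.e 0) (Φ.e 1) a ∈ K}

/-- The parameters of the long root elements of `K` at the reference vector. -/
def Uset (K : Subgroup (V ≃ₗ[F] V)) (Φ : Frame B V₀) : Set F :=
  {c | σ c = -c ∧ utv B (Φ.e 0) c ∈ K}

include R hσ hB hN hn hRT hKU in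
lemma srt_mem_iff {v w : V} (h : GP B V₀ v w) (a : F) :
    srt B v w a ∈ K ↔ a ∈ Aset K Φ := by
  have gp := Φ.gp_ee hB (i := 0) (j := 1) (by decide)
  obtain ⟨g, hg, hgv, hgw⟩ := trans_pair R hσ hB hN hn (Φ.he 0) (Φ.he 1) h.1 h.2.1 gp.2.2.1
    gp.2.2.2.1 gp.2.2.2.2 h.2.2.1 h.2.2.2.1 h.2.2.2.2
  have hgK := hRT hg
  have hgU := hKU hgK
  have key := conj_srt hgU (Φ.e 0) (Φ.e 1) a
  rw [hgv, hgw] at key
  constructor
  · intro h1
    show srt B (Φ.e 0) (Φ.e 1) a ∈ K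
    have : srt B (Φ.e 0) (Φ.e 1) a = g⁻¹ * srt B v w a * g := by
      rw [← key]
      group
    rw [this]
    exact K.mul_mem (K.mul_mem (K.inv_mem hgK) h1) hgK
  · intro h1
    rw [← key]
    exact K.mul_mem (K.mul_mem hgK h1) (K.inv_mem hgK)

include R hσ hB hN hn hRT hKU in
lemma utv_mem_iff {v : V} (hv : v ∈ V₀) (hv0 : v ≠ 0) (hvv : B v v = 0) {c : F}
    (hc : σ c = -c) : utv B v c ∈ K ↔ c ∈ Uset K Φ := by
  obtain ⟨g, hg, hgv⟩ := trans_iso R hσ hB hN (by omega) (Φ.he 0) hv (Φ.e_ne 0) hv0 (Φ.ee 0 0)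
    hvv
  have hgK := hRT hg
  have hgU := hKU hgK
  have key := conj_utv hgU (Φ.e 0) c
  rw [hgv] at key
  constructor
  · intro h1
    refine ⟨hc, ?_⟩
    have : utv B (Φ.e 0) c = g⁻¹ * utv B v c * g := by
      rw [← key]
      group
    rw [this]
    exact K.mul_mem (K.mul_mem (K.inv_mem hgK) h1) hgK
  · intro h1
    rw [← key]
    exact K.mul_mem (K.mul_mem hgK h1.2) (K.inv_mem hgK)

include R hσ hB hN hn hRT hKU in
lemma A_mul {a b : F} (ha : a ∈ Aset K Φ) (hb : b ∈ Aset K Φ) : a * b ∈ Aset K Φ := by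
  have h1 : srt B (Φ.e 0) (Φ.f 2) a ∈ K :=
    (srt_mem_iff R hσ hB hN hn K hRT hKU Φ (Φ.gp_ef hB (by decide)) a).mpr ha
  have h2 : srt B (Φ.e 2) (Φ.e 1) b ∈ K :=
    (srt_mem_iff R hσ hB hN hn K hRT hKU Φ (Φ.gp_ee hB (by decide)) b).mpr hb
  have hti : TI B (Φ.e 0) (Φ.f 2) := Φ.ti_ef hB (by decide)
  have hSe : srt B (Φ.e 0) (Φ.f 2) a (Φ.e 2) = Φ.e 2 + a • Φ.e 0 := by
    rw [srt_apply hti, Φ.ef, if_pos rfl, Φ.ee, mul_one, mul_zero, zero_smul, sub_zero]
  have hSw : srt B (Φ.e 0) (Φ.f 2) a (Φ.e 1) = Φ.e 1 := by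
    rw [srt_apply hti, Φ.ef, if_neg (by decide), Φ.ee, mul_zero, mul_zero, zero_smul, zero_smul,
      add_zero, sub_zero]
  have key := conj_srt (hKU h1) (Φ.e 2) (Φ.e 1) b
  rw [hSe, hSw, srt_add_left (Φ.ti_ee 2 1) ((Φ.ti_ee 0 1).smul_left a)
    ((Φ.ti_ee 2 0).smul_right a), srt_smul_left (Φ.ti_ee 0 1)] at key
  show srt B (Φ.e 0) (Φ.e 1) (a * b) ∈ K
  have : srt B (Φ.e 0) (Φ.e 1) (a * b) = (srt B (Φ.e 2) (Φ.e 1) b)⁻¹ *
      (srt B (Φ.e 0) (Φ.f 2) a * srt B (Φ.e 2) (Φ.e 1) b * (srt B (Φ.e 0) (Φ.f 2) a)⁻¹) := by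
    rw [key]
    group
  rw [this]
  exact K.mul_mem (K.inv_mem h2) (K.mul_mem (K.mul_mem h1 h2) (K.inv_mem h1))

lemma A_add {a b : F} (ha : a ∈ Aset K Φ) (hb : b ∈ Aset K Φ) : a + b ∈ Aset K Φ := by
  show srt B (Φ.e 0) (Φ.e 1) (a + b) ∈ K
  rw [← srt_mul (Φ.ti_ee 0 1)]
  exact K.mul_mem ha hb

include R hσ hRT in
lemma A_rat {a : F} (ha : a ∈ F₀) : a ∈ Aset K Φ :=
  hRT (srt_mem_RT R hσ (Φ.he 0) (Φ.he 1) (Φ.ti_ee 0 1) ha)

include R hσ hB hN hn hRT hKU in
/-- The relation between the long and the short root parameters. -/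
lemma rel {γ c : F} (hγ : γ ∈ Aset K Φ) (hc : c ∈ Uset K Φ) :
    c * σ γ ∈ Aset K Φ ↔ c * γ * σ γ ∈ Uset K Φ := by
  have hti : TI B (Φ.e 0) (Φ.e 1) := Φ.ti_ee 0 1
  have hSy : srt B (Φ.e 0) (Φ.e 1) γ (Φ.f 1) = Φ.f 1 + γ • Φ.e 0 := by
    rw [srt_apply hti, Φ.fe hB, if_pos rfl, Φ.fe hB, if_neg (by decide), mul_one, mul_zero,
      zero_smul, sub_zero]
  have hf1 : utv B (Φ.f 1) c ∈ K :=
    (utv_mem_iff R hσ hB hN hn K hRT hKU Φ (Φ.hf 1) (Φ.f_ne hB 1) (Φ.ff 1 1) hc.1).mpr hc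
  have key := conj_utv (hKU hγ) (Φ.f 1) c
  rw [hSy] at key
  have h1 : utv B (Φ.f 1 + γ • Φ.e 0) c ∈ K := by
    rw [← key]
    exact K.mul_mem (K.mul_mem hγ hf1) (K.inv_mem hγ)
  have h2 := utv_mul_utv hσ (Φ.ti_fe hB (i := 1) (j := 0) (by decide)) hc.1 γ
  have hP : srt B (Φ.f 1) (Φ.e 0) (c * σ γ) * utv B (Φ.e 0) (c * γ * σ γ) ∈ K := by
    rw [← h2, ← utv_inv]
    exact K.mul_mem (K.inv_mem hf1) h1
  have hskew : σ (c * γ * σ γ) = -(c * γ * σ γ) := by
    rw [map_mul, map_mul, hσ.invol, hc.1]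
    ring
  have hiff := srt_mem_iff R hσ hB hN hn K hRT hKU Φ (Φ.gp_fe hB (i := 1) (j := 0) (by decide))
    (c * σ γ)
  constructor
  · intro h
    have h3 := hiff.mpr h
    refine ⟨hskew, ?_⟩
    have : utv B (Φ.e 0) (c * γ * σ γ) = (srt B (Φ.f 1) (Φ.e 0) (c * σ γ))⁻¹ *
        (srt B (Φ.f 1) (Φ.e 0) (c * σ γ) * utv B (Φ.e 0) (c * γ * σ γ)) := by group
    rw [this]
    exact K.mul_mem (K.inv_mem h3) hP
  · intro h
    apply hiff.mp
    have : srt B (Φ.f 1) (Φ.e 0) (c * σ γ) =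
        (srt B (Φ.f 1) (Φ.e 0) (c * σ γ) * utv B (Φ.e 0) (c * γ * σ γ)) *
        (utv B (Φ.e 0) (c * γ * σ γ))⁻¹ := by group
    rw [this]
    exact K.mul_mem hP (K.inv_mem h.2)

/-! ### Generation -/

section Gen

variable (hA : ∀ v w, GP B V₀ v w → ∀ a, srt B v w a ∈ K)
  (hU : ∀ v ∈ V₀, B v v = 0 → ∀ c, σ c = -c → utv B v c ∈ K)

include R hσ hB hN hKU hA hU in
/-- With all root elements at rational vectors, `K` moves the second vector of a rational
hyperbolic pair to any isotropic vector having product one with the first. -/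
lemma gen_step (h4 : 4 ≤ n) {e f : V} (he : e ∈ V₀) (hf : f ∈ V₀) (hee : B e e = 0)
    (hff : B f f = 0) (hef : B e f = 1) {x : V} (hxx : B x x = 0) (hxe : B x e = 1) :
    ∃ g ∈ K, g f = x := by
  classical
  have hfe : B f e = 1 := by rw [hB e f, hef, map_one]
  have step : ∀ (y' : V) (g : V ≃ₗ[F] V) (γ' : F), g ∈ K → B y' e = 0 →
      g f = f + y' + γ' • e → ∀ w : V, w ∈ V₀ → B w w = 0 → B w e = 0 → B w f = 0 → ∀ l : F,
      ∃ g' ∈ K, ∃ γ'' : F, g' f = f + (y' + l • w) + γ'' • e := by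
    intro y' g γ' hg hy'e hgf w hw hww hwe hwf l
    by_cases hw0 : w = 0
    · subst hw0
      exact ⟨g, hg, γ', by rw [smul_zero, add_zero]; exact hgf⟩
    have hew : B e w = 0 := herm_eq_zero hB hwe
    have hti : TI B e w := ⟨hee, hww, hew, hwe⟩
    have hgp : GP B V₀ e w := gp_of he hw hti hef hwf hw0
    have hS := hA e w hgp (-σ l)
    refine ⟨srt B e w (-σ l) * g, K.mul_mem hS hg,
      γ' + (-σ l) * B (f + y' + γ' • e) w, ?_⟩
    rw [LinearEquiv.mul_apply, hgf, srt_apply hti]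
    have h1 : B (f + y' + γ' • e) e = 1 := by
      simp only [map_add, map_smul, LinearMap.add_apply, LinearMap.smul_apply, hfe, hy'e, hee,
        smul_zero, add_zero]
    rw [h1, map_neg, hσ.invol]
    module
  obtain ⟨b, hb⟩ := R.basis
  have hbm : ∀ i, b i ∈ V₀ := by
    intro i
    rw [hb]
    intro j
    rw [b.repr_self, Finsupp.single_apply]
    split_ifs
    · exact F₀.one_mem
    · exact F₀.zero_mem
  -- the projection to the orthogonal complement of the pair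
  set π : V →ₗ[F] V := LinearMap.id - (B.flip f).smulRight e - (B.flip e).smulRight f with hπ
  have hπa : ∀ u, π u = u - B u f • e - B u e • f := by
    intro u
    simp [hπ]
  have hπm : ∀ i, π (b i) ∈ V₀ := by
    intro i
    rw [hπa]
    exact V₀.sub_mem (V₀.sub_mem (hbm i) (R.smul_mem (R.val _ (hbm i) _ hf) he))
      (R.smul_mem (R.val _ (hbm i) _ he) hf)
  have hπe : ∀ u, B (π u) e = 0 := by
    intro u
    rw [hπa]
    simp only [map_sub, map_smul, LinearMap.sub_apply, LinearMap.smul_apply, smul_eq_mul, hee,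
      hfe]
    ring
  have hπf : ∀ u, B (π u) f = 0 := by
    intro u
    rw [hπa]
    simp only [map_sub, map_smul, LinearMap.sub_apply, LinearMap.smul_apply, smul_eq_mul, hff,
      hef]
    ring
  have hdec : ∀ i, ∃ y₁ ∈ V₀, B y₁ y₁ = 0 ∧ B (π (b i) - y₁) (π (b i) - y₁) = 0 ∧ B y₁ e = 0 ∧
      B y₁ f = 0 := fun i =>
    R.exists_two_iso_perp hσ hB hN h4 he hf hee hff hef (hπm i) (hπe _) (hπf _)
  choose w hw hww hww' hwe hwf using hdec
  set γ := B x f with hγ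
  set y := x - f - γ • e with hy
  have hye : B y e = 0 := by
    rw [hy]
    simp only [map_sub, map_smul, LinearMap.sub_apply, LinearMap.smul_apply, smul_eq_mul, hxe,
      hfe, hee]
    ring
  have hyf : B y f = 0 := by
    rw [hy]
    simp only [map_sub, map_smul, LinearMap.sub_apply, LinearMap.smul_apply, smul_eq_mul, hff,
      hef, ← hγ]
    ring
  have hey : B e y = 0 := herm_eq_zero hB hye
  have hfy : B f y = 0 := herm_eq_zero hB hyf
  -- the sum
  have hsum : ∀ s : Finset (Fin n), ∃ g ∈ K, ∃ γ' : F,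
      B (∑ i ∈ s, (b.repr y i • w i + b.repr y i • (π (b i) - w i))) e = 0 ∧
      g f = f + (∑ i ∈ s, (b.repr y i • w i + b.repr y i • (π (b i) - w i))) + γ' • e := by
    intro s
    induction s using Finset.induction_on with
    | empty =>
      refine ⟨1, K.one_mem, 0, ?_, ?_⟩
      · simp
      · simp
    | insert i s hi ih =>
      obtain ⟨g, hg, γ', h0, hgf⟩ := ih
      obtain ⟨g₁, hg₁, γ₁, hgf₁⟩ := step _ g γ' hg h0 hgf (w i) (hw i) (hww i) (hwe i) (hwf i)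
        (b.repr y i)
      have h0' : B (∑ i ∈ s, (b.repr y i • w i + b.repr y i • (π (b i) - w i)) +
          b.repr y i • w i) e = 0 := by
        rw [map_add, LinearMap.add_apply, h0, map_smul, LinearMap.smul_apply, hwe, smul_zero,
          add_zero]
      have hm : π (b i) - w i ∈ V₀ := V₀.sub_mem (hπm i) (hw i)
      have hme : B (π (b i) - w i) e = 0 := by
        rw [map_sub, LinearMap.sub_apply, hπe, hwe, sub_zero]
      have hmf : B (π (b i) - w i) f = 0 := by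
        rw [map_sub, LinearMap.sub_apply, hπf, hwf, sub_zero]
      obtain ⟨g₂, hg₂, γ₂, hgf₂⟩ := step _ g₁ γ₁ hg₁ h0' hgf₁ _ hm (hww' i) hme hmf
        (b.repr y i)
      refine ⟨g₂, hg₂, γ₂, ?_, ?_⟩
      · rw [Finset.sum_insert hi, map_add, LinearMap.add_apply, h0, map_add, LinearMap.add_apply,
          map_smul, LinearMap.smul_apply, hwe, map_smul, LinearMap.smul_apply, hme]
        simp
      · rw [hgf₂, Finset.sum_insert hi]
        abel
  obtain ⟨g₁, hg₁, γ', -, hgf⟩ := hsum Finset.univ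
  have hsumy : ∑ i, (b.repr y i • w i + b.repr y i • (π (b i) - w i)) = y := by
    have h1 : ∀ i, b.repr y i • w i + b.repr y i • (π (b i) - w i) = b.repr y i • π (b i) := by
      intro i
      module
    simp only [h1]
    have h2 : π y = y := by
      rw [hπa, hye, hyf, zero_smul, zero_smul, sub_zero, sub_zero]
    conv_rhs => rw [← h2, ← b.sum_repr y]
    rw [map_sum]
    apply Finset.sum_congr rfl
    intro i _
    rw [map_smul]
  rw [hsumy] at hgf
  have hexp : ∀ δ : F, B (f + y + δ • e) (f + y + δ • e) = B y y + δ + σ δ := by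
    intro δ
    simp only [map_add, map_smul, map_smulₛₗ, LinearMap.add_apply, LinearMap.smul_apply,
      smul_eq_mul, hee, hff, hef, hfe, hye, hyf, hey, hfy]
    ring
  have hx : x = f + y + γ • e := by
    rw [hy]
    abel
  have e1 : B y y + γ + σ γ = 0 := by
    rw [← hexp, ← hx, hxx]
  have e2 : B y y + γ' + σ γ' = 0 := by
    rw [← hexp, ← hgf, hKU hg₁, hff]
  have hskew : σ (γ - γ') = -(γ - γ') := by
    rw [map_sub]
    linear_combination e1 - e2
  refine ⟨utv B e (γ - γ') * g₁, K.mul_mem (hU e he hee _ hskew) hg₁, ?_⟩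
  rw [LinearEquiv.mul_apply, hgf, utv_apply B hee]
  have h1 : B (f + y + γ' • e) e = 1 := by
    simp only [map_add, map_smul, LinearMap.add_apply, LinearMap.smul_apply, hfe, hye, hee,
      smul_zero, add_zero]
  rw [h1, hx]
  module

include R hσ hB hN hKU hA hU in
/-- With all root elements at rational vectors, `K` contains all unitary transvections. -/
lemma gen (h4 : 4 ≤ n) {x : V} (hxx : B x x = 0) {c : F} (hc : σ c = -c) : utv B x c ∈ K := by
  by_cases hx0 : x = 0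
  · rw [hx0, utv_zero_left]
    exact K.one_mem
  obtain ⟨e, he, hee, hxe⟩ : ∃ e ∈ V₀, B e e = 0 ∧ B x e ≠ 0 := by
    by_contra hcon
    push Not at hcon
    apply hx0
    apply R.eq_zero_of_forall hN
    intro y hy
    obtain ⟨y₁, hy₁, h1, h2⟩ := R.exists_two_iso_rat hσ hB hN (by omega) hy
    have e1 := hcon y₁ hy₁ h1
    have e2 := hcon (y - y₁) (V₀.sub_mem hy hy₁) h2
    have : y = y₁ + (y - y₁) := by abel
    rw [this, map_add, e1, e2, add_zero]
  have he0 : e ≠ 0 := by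
    rintro rfl
    simp at hxe
  obtain ⟨f, hf, hff, hef⟩ := R.exists_partner_rat hσ hB hN he he0 hee
  set μ := B x e with hμ
  have hx' : B (μ⁻¹ • x) (μ⁻¹ • x) = 0 := by rw [self_smul, hxx, mul_zero]
  have hx'e : B (μ⁻¹ • x) e = 1 := by
    rw [map_smul, LinearMap.smul_apply, smul_eq_mul, ← hμ, inv_mul_cancel₀ hxe]
  obtain ⟨g, hg, hgf⟩ := gen_step R hσ hB hN K hKU hA hU h4 he hf hee hff hef hx' hx'e
  have hxs : x = μ • (μ⁻¹ • x) := by rw [smul_smul, mul_inv_cancel₀ hxe, one_smul]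
  rw [hxs, utv_smul, ← hgf, ← conj_utv (hKU hg)]
  refine K.mul_mem (K.mul_mem hg (hU f hf hff _ ?_)) (K.inv_mem hg)
  rw [map_mul, map_mul, hσ.invol, hc]
  ring

end Gen

/-! ### The dichotomy -/

include R hσ hB hN hn hRT hKU in
theorem dichotomy (hp : (finrank F₀ F).Prime) :
    tvGroup B ⊤ ≤ K ∨
      ((∀ v w, GP B V₀ v w → ∀ a, srt B v w a ∈ K → a ∈ F₀) ∧
        (∀ v ∈ V₀, v ≠ 0 → B v v = 0 → ∀ c, σ c = -c → utv B v c ∈ K → c ∈ F₀)) := by
  haveI := Subalgebra.isSimpleOrder_of_finrank_prime F₀ F hp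
  obtain ⟨Φ⟩ := exists_frame R hσ hB hN hn
  let S : Subalgebra F₀ F :=
    { carrier := Aset K Φ
      mul_mem' := fun ha hb => A_mul R hσ hB hN hn K hRT hKU Φ ha hb
      add_mem' := fun ha hb => A_add K Φ ha hb
      algebraMap_mem' := fun r => A_rat R hσ K hRT Φ r.2 }
  have hS : ∀ a, a ∈ S ↔ a ∈ Aset K Φ := fun a => Iff.rfl
  obtain ⟨c₀, hc₀0, hc₀⟩ := exists_skew (R.invol0 hσ)
  have hc₀' : σ (c₀ : F) = -(c₀ : F) := by
    have := congrArg (fun x : F₀ => (x : F)) hc₀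
    simpa [UForm.sig0_coe] using this
  have hc₀0' : (c₀ : F) ≠ 0 := fun h0 => hc₀0 (Subtype.ext h0)
  have hc₀U : (c₀ : F) ∈ Uset K Φ :=
    ⟨hc₀', hRT (utv_mem_RT (Φ.he 0) c₀.2 (Φ.ee 0 0) hc₀')⟩
  rcases eq_bot_or_eq_top S with hbot | htop
  · right
    have hAF : ∀ a ∈ Aset K Φ, a ∈ F₀ := by
      intro a ha
      have : a ∈ S := (hS a).mpr ha
      rw [hbot, Algebra.mem_bot] at this
      obtain ⟨r, hr⟩ := this
      rw [← hr]
      exact r.2
    have hUF : ∀ c ∈ Uset K Φ, c ∈ F₀ := by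
      intro c hc
      have h1 : (1 : F) ∈ Aset K Φ := A_rat R hσ K hRT Φ F₀.one_mem
      have h2 := (rel R hσ hB hN hn K hRT hKU Φ h1 hc).mpr (by
        rw [map_one, mul_one, mul_one]; exact hc)
      rw [map_one, mul_one] at h2
      exact hAF c h2
    refine ⟨fun v w h a ha => hAF a ((srt_mem_iff R hσ hB hN hn K hRT hKU Φ h a).mp ha),
      fun v hv hv0 hvv c hc h => hUF c ((utv_mem_iff R hσ hB hN hn K hRT hKU Φ hv hv0 hvv hc).mp h)⟩
  · left
    have hAall : ∀ a, a ∈ Aset K Φ := by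
      intro a
      rw [← hS, htop]
      exact Algebra.mem_top
    have hUall : ∀ t, σ t = -t → t ∈ Uset K Φ := by
      intro t ht
      have hκ : σ (t / (c₀ : F)) = t / (c₀ : F) := by
        rw [map_div₀, ht, hc₀', neg_div_neg_eq]
      obtain ⟨γ, hγ⟩ := norm_surj hσ _ hκ
      have h1 := (rel R hσ hB hN hn K hRT hKU Φ (hAall γ) hc₀U).mp (hAall _)
      have h2 : (c₀ : F) * γ * σ γ = t := by
        rw [mul_assoc, hγ]
        field_simp
      rwa [h2] at h1
    apply tvGroup_le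
    intro x _ hxx c hc
    apply gen R hσ hB hN K hKU _ _ (by omega) hxx hc
    · intro v w h a
      exact (srt_mem_iff R hσ hB hN hn K hRT hKU Φ h a).mpr (hAall a)
    · intro v hv hvv c hc
      by_cases hv0 : v = 0
      · rw [hv0, utv_zero_left]
        exact K.one_mem
      · exact (utv_mem_iff R hσ hB hN hn K hRT hKU Φ hv hv0 hvv hc).mpr (hUall c hc)

end Main

end Cfsg.Agent.Lib.Helper98_UFDich
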