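import Mathlib
import Cfsg.Agent.Lib.Helper98_UFDich

set_option autoImplicit false
set_option linter.style.haveILetI false
set_option linter.unusedSectionVars false
set_option linter.unusedSimpArgs false

/-!
Total skewness for the overgroups of the rational transvection group of a unitary rational
structure all of whose root elements at rational vectors have rational parameters: an element
mapping some rational isotropic vector to a vector orthogonal to a rational isotropic vector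
stabilises the rational structure up to a scalar.
-/

namespace Cfsg.Agent.Lib.Helper98_UFTS

open Module Cfsg.Agent.Lib.Helper94_Symp Cfsg.Agent.Lib.Helper94_Herm
  Cfsg.Agent.Lib.Helper94_HermWitt Cfsg.Agent.Lib.Helper94_HermTrans
  Cfsg.Agent.Lib.Helper94_HermIrr Cfsg.Agent.Lib.Helper98_UFBase Cfsg.Agent.Lib.Helper98_UFRoot
  Cfsg.Agent.Lib.Helper98_UFDich

variable {F V : Type*} [Field F] [AddCommGroup V] [Module F V]
variable {σ : F →+* F} {B : V →ₗ[F] V →ₛₗ[σ] F}
variable {V₀ : AddSubgroup V} {F₀ : Subfield F} {n : ℕ}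

/-- Rational points. -/
def IsRatPt (F : Type*) {V : Type*} [Field F] [AddCommGroup V] [Module F V]
    (V₀ : AddSubgroup V) (x : V) : Prop := ∃ μ : F, ∃ y ∈ V₀, x = μ • y

section Field

variable (R : UForm B V₀ F₀ n) (hσ : Invol σ)

include R hσ in
/-- An element all of whose twisted traces are rational is rational. -/
lemma rat_of_tr {z : F} (h : ∀ b ∈ F₀, b * z + σ b * σ z ∈ F₀) : z ∈ F₀ := by
  obtain ⟨θ, hθ, hne⟩ := R.sigma_ne
  have h1 := h 1 F₀.one_mem
  have h2 := h θ hθ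
  rw [map_one, one_mul, one_mul] at h1
  have hd : θ - σ θ ≠ 0 := fun h0 => hne (sub_eq_zero.mp h0).symm
  have : z = ((θ * z + σ θ * σ z) - σ θ * (z + σ z)) / (θ - σ θ) := by
    rw [eq_div_iff hd]
    ring
  rw [this]
  exact F₀.div_mem (F₀.sub_mem h2 (F₀.mul_mem (R.sigma_mem θ hθ) h1))
    (F₀.sub_mem hθ (R.sigma_mem θ hθ))

include R hσ in
lemma exists_skew_rat : ∃ c ∈ F₀, c ≠ 0 ∧ σ c = -c := by
  obtain ⟨c₀, hc₀0, hc₀⟩ := exists_skew (R.invol0 hσ)
  refine ⟨c₀, c₀.2, fun h0 => hc₀0 (Subtype.ext h0), ?_⟩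
  have := congrArg (fun x : F₀ => (x : F)) hc₀
  simpa [UForm.sig0_coe] using this

end Field

section Main

variable (R : UForm B V₀ F₀ n) [Finite F] (hσ : Invol σ) (hB : IsHerm B) (hN : NondegOn B ⊤)
  (hn : 8 ≤ n) (K : Subgroup (V ≃ₗ[F] V)) (hRT : RT B V₀ F₀ ≤ K) (hKU : K ≤ uG B)
  (hAr : ∀ v w, GP B V₀ v w → ∀ a, srt B v w a ∈ K → a ∈ F₀)
  (hUr : ∀ v ∈ V₀, v ≠ 0 → B v v = 0 → ∀ c, σ c = -c → utv B v c ∈ K → c ∈ F₀)

include R hσ hB hRT hKU hUr in
/-- The key rationality statement behind total skewness. -/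
lemma ts_key {a p r y' : V} (haa : B a a = 0)
    (haK : ∀ c ∈ F₀, σ c = -c → utv B a c ∈ K) (hp : p ∈ V₀) (hp0 : p ≠ 0) (hpp : B p p = 0)
    (hap : B a p = 0) (hr : r ∈ V₀) (hrr : B r r = 0) (hrp : B r p = 0) (hy' : y' ∈ V₀)
    (hy'y' : B y' y' = 0) (hy'p : B y' p = 0) : σ (B a r) * B a y' ∈ F₀ := by
  have hpa : B p a = 0 := herm_eq_zero hB hap
  have hpr : B p r = 0 := herm_eq_zero hB hrp
  have hpy' : B p y' = 0 := herm_eq_zero hB hy'p
  have tiap : TI B a p := ⟨haa, hpp, hap, hpa⟩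
  have tipr : TI B p r := ⟨hpp, hrr, hpr, hrp⟩
  have tipy : TI B p y' := ⟨hpp, hy'y', hpy', hy'p⟩
  apply rat_of_tr R hσ
  intro b hb
  obtain ⟨c, hcF, hc0, hc⟩ := exists_skew_rat R hσ
  set β := B a r with hβ
  set β' := B a y' with hβ'
  have hh : srt B p r 1 ∈ K := hRT (srt_mem_RT R hσ hp hr tipr F₀.one_mem)
  have hha : srt B p r 1 a = a + β • p := by
    rw [srt_apply tipr, map_one, one_mul, one_mul, hap, zero_smul, sub_zero]
  have h1 : utv B (a + β • p) c ∈ K := by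
    rw [← hha, ← conj_utv (hKU hh)]
    exact K.mul_mem (K.mul_mem hh (haK c hcF hc)) (K.inv_mem hh)
  have hE := utv_mul_utv hσ tiap hc β
  have hEK : srt B a p (c * σ β) * utv B p (c * β * σ β) ∈ K := by
    rw [← hE, ← utv_inv]
    exact K.mul_mem (K.inv_mem (haK c hcF hc)) h1
  have hg : srt B p y' b ∈ K := hRT (srt_mem_RT R hσ hp hy' tipy hb)
  have hgp : srt B p y' b p = p := by
    rw [srt_apply tipy, hpy', hpp, mul_zero, mul_zero, zero_smul, zero_smul, add_zero, sub_zero]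
  have hga : srt B p y' b a = a + (b * β') • p := by
    rw [srt_apply tipy, hap, mul_zero, zero_smul, sub_zero]
  have e1 := conj_srt (hKU hg) a p (c * σ β)
  have e2 := conj_utv (hKU hg) p (c * β * σ β)
  rw [hga, hgp, srt_add_smul tiap] at e1
  rw [hgp] at e2
  have hconj : srt B p y' b * (srt B a p (c * σ β) * utv B p (c * β * σ β)) *
      (srt B p y' b)⁻¹ = srt B a p (c * σ β) *
        utv B p (c * σ β * (b * β') - σ (c * σ β * (b * β'))) * utv B p (c * β * σ β) := by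
    have e3 : srt B p y' b * (srt B a p (c * σ β) * utv B p (c * β * σ β)) *
        (srt B p y' b)⁻¹ = (srt B p y' b * srt B a p (c * σ β) * (srt B p y' b)⁻¹) *
        (srt B p y' b * utv B p (c * β * σ β) * (srt B p y' b)⁻¹) := by group
    rw [e3, e1, e2]
  have hδ : utv B p (c * σ β * (b * β') - σ (c * σ β * (b * β'))) ∈ K := by
    have : utv B p (c * σ β * (b * β') - σ (c * σ β * (b * β'))) =
        (srt B a p (c * σ β) * utv B p (c * β * σ β))⁻¹ *
        (srt B p y' b * (srt B a p (c * σ β) * utv B p (c * β * σ β)) *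
          (srt B p y' b)⁻¹) := by
      rw [hconj]
      calc utv B p (c * σ β * (b * β') - σ (c * σ β * (b * β')))
          = utv B p (-(c * β * σ β)) *
            (utv B p (c * σ β * (b * β') - σ (c * σ β * (b * β'))) *
              utv B p (c * β * σ β)) := by
            rw [utv_mul, utv_mul]
            congr 1
            ring
        _ = _ := by
            rw [← utv_inv]
            group
    rw [this]
    exact K.mul_mem (K.inv_mem hEK) (K.mul_mem (K.mul_mem hg hEK) (K.inv_mem hg))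
  have hskew : σ (c * σ β * (b * β') - σ (c * σ β * (b * β'))) =
      -(c * σ β * (b * β') - σ (c * σ β * (b * β'))) := by
    rw [map_sub, hσ.invol]
    ring
  have hmem := hUr p hp hp0 hpp _ hskew hδ
  have heq : c * σ β * (b * β') - σ (c * σ β * (b * β')) =
      c * (b * (σ β * β') + σ b * σ (σ β * β')) := by
    simp only [map_mul, hσ.invol, hc]
    ring
  rw [heq] at hmem
  have : b * (σ β * β') + σ b * σ (σ β * β') =
      c * (b * (σ β * β') + σ b * σ (σ β * β')) / c := by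
    field_simp
  rw [this]
  exact F₀.div_mem hmem hcF

include R hσ hB hN hn hRT hKU hAr hUr in
/-- **Total skewness, first form.**  If `k ∈ K` maps a rational isotropic vector to a vector
orthogonal to a nonzero rational isotropic vector, the image is a rational point. -/
lemma ts1 {k : V ≃ₗ[F] V} (hk : k ∈ K) {v p : V} (hv : v ∈ V₀) (hvv : B v v = 0) (hp : p ∈ V₀)
    (hp0 : p ≠ 0) (hpp : B p p = 0) (hkp : B (k v) p = 0) : IsRatPt F V₀ (k v) := by
  set a := k v with ha_def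
  have hkU := hKU hk
  have haa : B a a = 0 := by rw [ha_def, hkU, hvv]
  have haK : ∀ c ∈ F₀, σ c = -c → utv B a c ∈ K := by
    intro c hc hcs
    rw [ha_def, ← conj_utv hkU]
    exact K.mul_mem (K.mul_mem hk (hRT (utv_mem_RT hv hc hvv hcs))) (K.inv_mem hk)
  obtain ⟨f, hf, hff, hpf⟩ := R.exists_partner_rat hσ hB hN hp hp0 hpp
  have hfp : B f p = 1 := by rw [hB p f, hpf, map_one]
  have hpa : B p a = 0 := herm_eq_zero hB hkp
  set γ := B a f with hγ
  set aD := a - γ • p with haD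
  have haDp : B aD p = 0 := by
    rw [haD, map_sub, LinearMap.sub_apply, map_smul, LinearMap.smul_apply, hkp, hpp, smul_zero,
      sub_zero]
  have haDf : B aD f = 0 := by
    rw [haD, map_sub, LinearMap.sub_apply, map_smul, LinearMap.smul_apply, hpf, smul_eq_mul,
      mul_one, ← hγ, sub_self]
  have haDaD : B aD aD = 0 := by
    rw [haD]
    simp only [map_sub, map_smul, map_smulₛₗ, LinearMap.sub_apply, LinearMap.smul_apply,
      smul_eq_mul, haa, hkp, hpa, hpp, mul_zero, sub_zero]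
  have key : ∀ r ∈ V₀, B r r = 0 → B r p = 0 → ∀ y' ∈ V₀, B y' y' = 0 → B y' p = 0 →
      σ (B a r) * B a y' ∈ F₀ := fun r hr hrr hrp y' hy' hy'y' hy'p =>
    ts_key R hσ hB K hRT hKU hUr haa haK hp hp0 hpp hkp hr hrr hrp hy' hy'y' hy'p
  have hBa : ∀ y : V, B y p = 0 → B aD y = B a y := by
    intro y hyp
    rw [haD, map_sub, LinearMap.sub_apply, map_smul, LinearMap.smul_apply,
      herm_eq_zero hB hyp, smul_zero, sub_zero]
  have hdec : ∀ y ∈ V₀, ∃ y₁ ∈ V₀, ∃ y₂ ∈ V₀, B y₁ y₁ = 0 ∧ B y₂ y₂ = 0 ∧ B y₁ p = 0 ∧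
      B y₂ p = 0 ∧ B y₁ f = 0 ∧ B y₂ f = 0 ∧ B aD y = B a y₁ + B a y₂ := by
    intro y hy
    set yD := y - B y f • p - B y p • f with hyD_def
    have hyD : yD ∈ V₀ := V₀.sub_mem (V₀.sub_mem hy (R.smul_mem (R.val y hy f hf) hp))
      (R.smul_mem (R.val y hy p hp) hf)
    have hyDp : B yD p = 0 := by
      rw [hyD_def]
      simp only [map_sub, map_smul, LinearMap.sub_apply, LinearMap.smul_apply, smul_eq_mul, hpp,
        hfp]
      ring
    have hyDf : B yD f = 0 := by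
      rw [hyD_def]
      simp only [map_sub, map_smul, LinearMap.sub_apply, LinearMap.smul_apply, smul_eq_mul, hff,
        hpf]
      ring
    obtain ⟨y₁, hy₁, h1, h2, h3, h4⟩ := R.exists_two_iso_perp hσ hB hN (by omega) hp hf hpp hff
      hpf hyD hyDp hyDf
    have h3' : B (yD - y₁) p = 0 := by rw [map_sub, LinearMap.sub_apply, hyDp, h3, sub_zero]
    have h4' : B (yD - y₁) f = 0 := by rw [map_sub, LinearMap.sub_apply, hyDf, h4, sub_zero]
    refine ⟨y₁, hy₁, yD - y₁, V₀.sub_mem hyD hy₁, h1, h2, h3, h3', h4, h4', ?_⟩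
    have hy_eq : y = (y₁ + (yD - y₁)) + B y f • p + B y p • f := by
      rw [hyD_def]
      abel
    conv_lhs => rw [hy_eq]
    rw [map_add, map_add, map_add, map_smulₛₗ, map_smulₛₗ, haDp, haDf, smul_zero, smul_zero,
      add_zero, add_zero, hBa _ h3, hBa _ h3']
  by_cases hall : ∀ r ∈ V₀, B r r = 0 → B r p = 0 → B r f = 0 → B a r = 0
  · have h0 : aD = 0 := by
      apply R.eq_zero_of_forall hN
      intro y hy
      obtain ⟨y₁, hy₁, y₂, hy₂, h1, h2, h3, h4, h5, h6, h⟩ := hdec y hy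
      rw [h, hall y₁ hy₁ h1 h3 h5, hall y₂ hy₂ h2 h4 h6, add_zero]
    exact ⟨γ, p, hp, sub_eq_zero.mp h0⟩
  · push Not at hall
    obtain ⟨r₀, hr₀, hr₀r₀, hr₀p, hr₀f, hβ₀⟩ := hall
    set β₀ := B a r₀ with hβ₀_def
    have hN₀ : σ β₀ * β₀ ∈ F₀ := key r₀ hr₀ hr₀r₀ hr₀p r₀ hr₀ hr₀r₀ hr₀p
    have hσβ₀ : σ β₀ ≠ 0 := (map_ne_zero σ).mpr hβ₀
    have hN₀0 : σ β₀ * β₀ ≠ 0 := mul_ne_zero hσβ₀ hβ₀
    have ha₀ : β₀⁻¹ • aD ∈ V₀ := by
      apply R.rat_of_val hN
      intro y hy
      obtain ⟨y₁, hy₁, y₂, hy₂, h1, h2, h3, h4, -, -, h⟩ := hdec y hy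
      rw [map_smul, LinearMap.smul_apply, smul_eq_mul, h]
      have e1 := key r₀ hr₀ hr₀r₀ hr₀p y₁ hy₁ h1 h3
      have e2 := key r₀ hr₀ hr₀r₀ hr₀p y₂ hy₂ h2 h4
      have : β₀⁻¹ * (B a y₁ + B a y₂) = (σ β₀ * B a y₁ + σ β₀ * B a y₂) / (σ β₀ * β₀) := by
        field_simp
      rw [this]
      exact F₀.div_mem (F₀.add_mem e1 e2) hN₀
    set a₀ := β₀⁻¹ • aD with ha₀_def
    have ha₀p : B a₀ p = 0 := by
      rw [ha₀_def, map_smul, LinearMap.smul_apply, haDp, smul_zero]
    have ha₀f : B a₀ f = 0 := by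
      rw [ha₀_def, map_smul, LinearMap.smul_apply, haDf, smul_zero]
    have ha₀a₀ : B a₀ a₀ = 0 := by rw [ha₀_def, self_smul, haDaD, mul_zero]
    have haD_eq : aD = β₀ • a₀ := by
      rw [ha₀_def, smul_smul, mul_inv_cancel₀ hβ₀, one_smul]
    by_cases ha₀0 : a₀ = 0
    · refine ⟨γ, p, hp, ?_⟩
      have : aD = 0 := by rw [haD_eq, ha₀0, smul_zero]
      exact sub_eq_zero.mp this
    · set γ' := β₀⁻¹ * γ with hγ'
      have ha : a = β₀ • (a₀ + γ' • p) := by
        rw [smul_add, ← haD_eq, smul_smul, hγ', ← mul_assoc, mul_inv_cancel₀ hβ₀, one_mul, haD]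
        abel
      obtain ⟨c, hcF, hc0, hc⟩ := exists_skew_rat R hσ
      have hpa₀ : B p a₀ = 0 := herm_eq_zero hB ha₀p
      have tia₀p : TI B a₀ p := ⟨ha₀a₀, hpp, ha₀p, hpa₀⟩
      have h1 : utv B (a₀ + γ' • p) c ∈ K := by
        have hsk : σ (c / (σ β₀ * β₀)) = -(c / (σ β₀ * β₀)) := by
          rw [map_div₀, map_mul, hσ.invol, hc, mul_comm β₀, neg_div]
        have h2 := haK (c / (σ β₀ * β₀)) (F₀.div_mem hcF hN₀) hsk
        rw [ha, utv_smul] at h2
        have h3 : β₀ * σ β₀ * (c / (σ β₀ * β₀)) = c := by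
          field_simp
        rwa [h3] at h2
      have hE := utv_mul_utv hσ tia₀p hc γ'
      have hEK : srt B a₀ p (c * σ γ') * utv B p (c * γ' * σ γ') ∈ K := by
        rw [← hE, ← utv_inv]
        exact K.mul_mem (K.inv_mem (hRT (utv_mem_RT ha₀ hcF ha₀a₀ hc))) h1
      obtain ⟨f₀, hf₀, hf₀f₀, ha₀f₀, hf₀p, hf₀f⟩ := R.exists_partner_perp hσ hB hN hp hf hpp hff
        hpf ha₀ ha₀0 ha₀a₀ ha₀p ha₀f
      obtain ⟨a'', ha'', ha''0, ha''a'', hperp⟩ := R.exists_iso_perp hσ hB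
        [⟨p, hp⟩, ⟨f, hf⟩, ⟨a₀, ha₀⟩, ⟨f₀, hf₀⟩] (by simp; omega)
      have h_p : B a'' p = 0 := hperp ⟨p, hp⟩ (by simp)
      have h_f : B a'' f = 0 := hperp ⟨f, hf⟩ (by simp)
      have h_a₀ : B a'' a₀ = 0 := hperp ⟨a₀, ha₀⟩ (by simp)
      have h_f₀ : B a'' f₀ = 0 := hperp ⟨f₀, hf₀⟩ (by simp)
      have h_p' : B p a'' = 0 := herm_eq_zero hB h_p
      have h_a₀' : B a₀ a'' = 0 := herm_eq_zero hB h_a₀
      have h_f₀' : B f₀ a'' = 0 := herm_eq_zero hB h_f₀
      have hpf₀ : B p f₀ = 0 := herm_eq_zero hB hf₀p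
      have tia''f₀ : TI B a'' f₀ := ⟨ha''a'', hf₀f₀, h_f₀, h_f₀'⟩
      have tia''p : TI B a'' p := ⟨ha''a'', hpp, h_p, h_p'⟩
      have tia₀a'' : TI B a₀ a'' := ⟨ha₀a₀, ha''a'', h_a₀', h_a₀⟩
      have hg : srt B a'' f₀ 1 ∈ K := hRT (srt_mem_RT R hσ ha'' hf₀ tia''f₀ F₀.one_mem)
      have hga₀ : srt B a'' f₀ 1 a₀ = a₀ + a'' := by
        rw [srt_apply tia''f₀, map_one, one_mul, one_mul, ha₀f₀, one_smul, h_a₀', zero_smul,
          sub_zero]
      have hgp : srt B a'' f₀ 1 p = p := by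
        rw [srt_apply tia''f₀, hpf₀, h_p', mul_zero, mul_zero, zero_smul, zero_smul, add_zero,
          sub_zero]
      have e1 := conj_srt (hKU hg) a₀ p (c * σ γ')
      have e2 := conj_utv (hKU hg) p (c * γ' * σ γ')
      rw [hga₀, hgp, srt_add_left tia₀p tia''p tia₀a''] at e1
      rw [hgp] at e2
      have hconj : srt B a'' f₀ 1 * (srt B a₀ p (c * σ γ') * utv B p (c * γ' * σ γ')) *
          (srt B a'' f₀ 1)⁻¹ = srt B a₀ p (c * σ γ') * srt B a'' p (c * σ γ') *
            utv B p (c * γ' * σ γ') := by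
        have e3 : srt B a'' f₀ 1 * (srt B a₀ p (c * σ γ') * utv B p (c * γ' * σ γ')) *
            (srt B a'' f₀ 1)⁻¹ = (srt B a'' f₀ 1 * srt B a₀ p (c * σ γ') *
              (srt B a'' f₀ 1)⁻¹) * (srt B a'' f₀ 1 * utv B p (c * γ' * σ γ') *
              (srt B a'' f₀ 1)⁻¹) := by group
        rw [e3, e1, e2]
      have hs : srt B a₀ p (c * σ γ') ∈ uG B := srt_mem_uG hσ hB tia₀p _
      have hsa'' : srt B a₀ p (c * σ γ') a'' = a'' := by
        rw [srt_apply tia₀p, h_p, h_a₀, mul_zero, mul_zero, zero_smul, zero_smul, add_zero,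
          sub_zero]
      have hsp : srt B a₀ p (c * σ γ') p = p := by
        rw [srt_apply tia₀p, hpp, hpa₀, mul_zero, mul_zero, zero_smul, zero_smul, add_zero,
          sub_zero]
      have e3 := conj_srt hs a'' p (c * σ γ')
      rw [hsa'', hsp] at e3
      have hs''K : srt B a'' p (c * σ γ') ∈ K := by
        have : srt B a'' p (c * σ γ') =
            (srt B a'' f₀ 1 * (srt B a₀ p (c * σ γ') * utv B p (c * γ' * σ γ')) *
              (srt B a'' f₀ 1)⁻¹) *
            (srt B a₀ p (c * σ γ') * utv B p (c * γ' * σ γ'))⁻¹ := by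
          rw [hconj]
          conv_lhs => rw [← e3]
          group
        rw [this]
        exact K.mul_mem (K.mul_mem (K.mul_mem hg hEK) (K.inv_mem hg)) (K.inv_mem hEK)
      rw [srt_swap hσ tia''p.symm] at hs''K
      have hgp' : GP B V₀ p a'' := gp_of hp ha'' tia''p.symm hpf h_f ha''0
      have hm := hAr p a'' hgp' _ hs''K
      have hm2 : c * σ γ' ∈ F₀ := by
        have h5 := R.sigma_mem _ (F₀.neg_mem hm)
        rwa [neg_neg, hσ.invol] at h5
      have hm3 : σ γ' ∈ F₀ := by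
        have : σ γ' = c * σ γ' / c := by field_simp
        rw [this]
        exact F₀.div_mem hm2 hcF
      have hm4 : γ' ∈ F₀ := by
        have := R.sigma_mem _ hm3
        rwa [hσ.invol] at this
      exact ⟨β₀, a₀ + γ' • p, V₀.add_mem ha₀ (R.smul_mem hm4 hp), ha⟩

include R hσ hB hN hn in
/-- **Scaling lemma.**  A linear automorphism mapping every rational isotropic vector to a
rational point maps the rational structure into a scalar multiple of itself. -/
lemma scaling (g : V ≃ₗ[F] V) (h : ∀ v ∈ V₀, B v v = 0 → IsRatPt F V₀ (g v)) :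
    ∃ μ : F, μ ≠ 0 ∧ ∀ v ∈ V₀, ∃ w ∈ V₀, g v = μ • w := by
  obtain ⟨v₁, hv₁, hv₁0, hv₁v₁, -⟩ := R.exists_iso_perp hσ hB [] (by simp; omega)
  obtain ⟨μ, w₁, hw₁, hgv₁⟩ := h v₁ hv₁ hv₁v₁
  have hgv₁0 : g v₁ ≠ 0 := fun h0 => hv₁0 (by simpa using h0)
  have hμ0 : μ ≠ 0 := by
    rintro rfl
    rw [zero_smul] at hgv₁
    exact hgv₁0 hgv₁
  have hw₁0 : w₁ ≠ 0 := by
    rintro rfl
    rw [smul_zero] at hgv₁
    exact hgv₁0 hgv₁
  obtain ⟨c, hcF, hc0, hc⟩ := exists_skew_rat R hσ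
  have hiso : ∀ v ∈ V₀, B v v = 0 → ∃ w ∈ V₀, g v = μ • w := by
    intro v hv hvv
    by_cases hind : v ∈ Submodule.span F {v₁}
    · obtain ⟨t, rfl⟩ := Submodule.mem_span_singleton.mp hind
      have ht : t ∈ F₀ := R.rat_of_smul hv₁ hv₁0 hv
      refine ⟨t • w₁, R.smul_mem ht hw₁, ?_⟩
      rw [map_smul, hgv₁, smul_comm]
    · have hv0 : v ≠ 0 := by
        rintro rfl
        exact hind (Submodule.zero_mem _)
      -- a rational multiple `t v` with `v₁ + t v` isotropic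
      obtain ⟨t, htF, ht0, htiso⟩ : ∃ t ∈ F₀, t ≠ 0 ∧ B (v₁ + t • v) (v₁ + t • v) = 0 := by
        by_cases h0 : B v₁ v = 0
        · refine ⟨1, F₀.one_mem, one_ne_zero, ?_⟩
          rw [one_smul, self_add hB, hv₁v₁, hvv, h0, map_zero]
          ring
        · refine ⟨σ (c / B v₁ v), R.sigma_mem _ (F₀.div_mem hcF (R.val _ hv₁ _ hv)),
            (map_ne_zero σ).mpr (div_ne_zero hc0 h0), ?_⟩
          rw [self_add hB, hv₁v₁, self_smul, hvv, map_smulₛₗ, hσ.invol, smul_eq_mul,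
            div_mul_cancel₀ _ h0, hc]
          ring
      have hu : v₁ + t • v ∈ V₀ := V₀.add_mem hv₁ (R.smul_mem htF hv)
      obtain ⟨μu, wu, hwu, hgu⟩ := h _ hu htiso
      obtain ⟨μv, wv, hwv, hgv⟩ := h v hv hvv
      have hgv0 : g v ≠ 0 := fun h0 => hv0 (by simpa using h0)
      have hμv0 : μv ≠ 0 := by
        rintro rfl
        rw [zero_smul] at hgv
        exact hgv0 hgv
      have hu0 : v₁ + t • v ≠ 0 := by
        intro h0
        apply hind
        rw [Submodule.mem_span_singleton]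
        refine ⟨-t⁻¹, ?_⟩
        have : t • v = -v₁ := by
          rw [eq_neg_iff_add_eq_zero, add_comm]
          exact h0
        calc -t⁻¹ • v₁ = t⁻¹ • (-v₁) := by simp
          _ = t⁻¹ • (t • v) := by rw [this]
          _ = v := by rw [smul_smul, inv_mul_cancel₀ ht0, one_smul]
      have hgu0 : g (v₁ + t • v) ≠ 0 := fun h0 =>
        hu0 (g.injective (by rw [h0, map_zero]))
      have hμu0 : μu ≠ 0 := by
        rintro rfl
        rw [zero_smul] at hgu
        exact hgu0 hgu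
      -- independence of `w₁`, `wv`
      have hindw : wv ∉ Submodule.span F {w₁} := by
        intro hmem
        obtain ⟨s, hs⟩ := Submodule.mem_span_singleton.mp hmem
        apply hind
        rw [Submodule.mem_span_singleton]
        refine ⟨μv * s * μ⁻¹, ?_⟩
        apply g.injective
        rw [map_smul, hgv₁, hgv, ← hs, smul_smul, smul_smul]
        congr 1
        field_simp
      have hrel : (μ / μu) • w₁ + (t * μv / μu) • wv ∈ V₀ := by
        have : (μ / μu) • w₁ + (t * μv / μu) • wv = wu := by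
          have e1 : g (v₁ + t • v) = μ • w₁ + (t * μv) • wv := by
            rw [map_add, map_smul, hgv₁, hgv, smul_smul]
          rw [hgu] at e1
          have e2 : wu = μu⁻¹ • (μ • w₁ + (t * μv) • wv) := by
            rw [← e1, smul_smul, inv_mul_cancel₀ hμu0, one_smul]
          rw [e2, smul_add, smul_smul, smul_smul]
          congr 2
          · rw [div_eq_inv_mul]
          · rw [div_eq_inv_mul]
        rw [this]
        exact hwu
      obtain ⟨c1, c2⟩ := R.coef2 hw₁ hwv hw₁0 hindw hrel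
      have hc10 : μ / μu ≠ 0 := div_ne_zero hμ0 hμu0
      have hratio : μv / μ ∈ F₀ := by
        have : μv / μ = (t * μv / μu) / (μ / μu) / t := by
          field_simp
        rw [this]
        exact F₀.div_mem (F₀.div_mem c2 c1) htF
      refine ⟨(μv / μ) • wv, R.smul_mem hratio hwv, ?_⟩
      rw [hgv, smul_smul, mul_div_cancel₀ _ hμ0]
  refine ⟨μ, hμ0, fun v hv => ?_⟩
  obtain ⟨y₁, hy₁, h1, h2⟩ := R.exists_two_iso_rat hσ hB hN (by omega) hv
  obtain ⟨w, hw, e1⟩ := hiso y₁ hy₁ h1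
  obtain ⟨w', hw', e2⟩ := hiso (v - y₁) (V₀.sub_mem hv hy₁) h2
  refine ⟨w + w', V₀.add_mem hw hw', ?_⟩
  have : v = y₁ + (v - y₁) := by abel
  rw [this, map_add, e1, e2, smul_add]

include R hσ hB hN hn hRT hKU hAr hUr in
/-- **Total skewness, second form.**  If `k ∈ K` maps a nonzero rational isotropic vector to
a rational point, then `k` stabilises the rational structure up to a scalar. -/
lemma ts2 {k : V ≃ₗ[F] V} (hk : k ∈ K) {v₀ : V} (hv₀ : v₀ ∈ V₀) (hv₀0 : v₀ ≠ 0)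
    (hv₀v₀ : B v₀ v₀ = 0) (hrat : IsRatPt F V₀ (k v₀)) :
    ∃ μ : F, μ ≠ 0 ∧ ∀ v ∈ V₀, ∃ w ∈ V₀, k v = μ • w := by
  have hkU := hKU hk
  -- vectors orthogonal to a vector mapped to a rational point
  have stepA : ∀ u ∈ V₀, u ≠ 0 → B u u = 0 → IsRatPt F V₀ (k u) →
      ∀ v ∈ V₀, B v v = 0 → B v u = 0 → IsRatPt F V₀ (k v) := by
    intro u hu hu0 huu ⟨l, p, hp, hku⟩ v hv hvv hvu
    have hku0 : k u ≠ 0 := fun h0 => hu0 (by simpa using h0)
    have hl0 : l ≠ 0 := by
      rintro rfl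
      rw [zero_smul] at hku
      exact hku0 hku
    have hp0 : p ≠ 0 := by
      rintro rfl
      rw [smul_zero] at hku
      exact hku0 hku
    have hpp : B p p = 0 := by
      have h1 : B (k u) (k u) = 0 := by rw [hkU, huu]
      rw [hku, self_smul] at h1
      rcases mul_eq_zero.mp h1 with h2 | h2
      · exfalso
        rcases mul_eq_zero.mp h2 with h3 | h3
        · exact hl0 h3
        · exact hl0 ((map_eq_zero σ).mp h3)
      · exact h2
    have hkvp : B (k v) p = 0 := by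
      have h1 : B (k v) (k u) = 0 := by rw [hkU, hvu]
      rw [hku, map_smulₛₗ, smul_eq_mul] at h1
      rcases mul_eq_zero.mp h1 with h2 | h2
      · exact absurd ((map_eq_zero σ).mp h2) hl0
      · exact h2
    exact ts1 R hσ hB hN hn K hRT hKU hAr hUr hk hv hvv hp hp0 hpp hkvp
  apply scaling R hσ hB hN hn
  intro v hv hvv
  obtain ⟨u, hu, hu0, huu, hperp⟩ := R.exists_iso_perp hσ hB [⟨v, hv⟩, ⟨v₀, hv₀⟩]
    (by simp; omega)
  have huv : B u v = 0 := hperp ⟨v, hv⟩ (by simp)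
  have huv₀ : B u v₀ = 0 := hperp ⟨v₀, hv₀⟩ (by simp)
  have hku := stepA v₀ hv₀ hv₀0 hv₀v₀ hrat u hu huu huv₀
  exact stepA u hu hu0 huu hku v hv hvv (herm_eq_zero hB huv)

end Main

end Cfsg.Agent.Lib.Helper98_UFTS
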