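import Mathlib
import Cfsg.Agent.Lib.Helper98_UFTS

set_option autoImplicit false
set_option linter.style.haveILetI false
set_option linter.unusedSectionVars false
set_option linter.unusedSimpArgs false
set_option linter.unusedVariables false

/-!
The dihedral argument for the unitary subfield groups: an overgroup of the stabiliser of a
unitary rational structure without irrational root elements stabilises the structure.
-/

namespace Cfsg.Agent.Lib.Helper98_UFInv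

open Module Cfsg.Agent.Lib.Helper94_Symp Cfsg.Agent.Lib.Helper94_Herm
  Cfsg.Agent.Lib.Helper94_HermWitt Cfsg.Agent.Lib.Helper94_HermTrans
  Cfsg.Agent.Lib.Helper94_HermIrr Cfsg.Agent.Lib.Helper98_UFBase Cfsg.Agent.Lib.Helper98_UFRoot
  Cfsg.Agent.Lib.Helper98_UFDich Cfsg.Agent.Lib.Helper98_UFTS

/-! ### Two involutions in a finite group -/

/-- **Dihedral lemma, refined.**  For two involutions `a`, `b` of a finite group, either `a` is
conjugate to `b`, or the cyclic group generated by `a b` contains an involution `z` commuting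
with `a` and `b` such that `a` is conjugate to `z a` or to `z b`; the conjugating elements are
powers of `a b`. -/
theorem dihedral2 {G : Type*} [Group G] [Finite G] (a b : G) (ha : a * a = 1) (hb : b * b = 1) :
    (∃ g ∈ Subgroup.zpowers (a * b), g * a * g⁻¹ = b) ∨
    (∃ z ∈ Subgroup.zpowers (a * b), z ≠ 1 ∧ z * z = 1 ∧ z * a = a * z ∧ z * b = b * z ∧
      ∃ g ∈ Subgroup.zpowers (a * b), g * a * g⁻¹ = z * a ∨ g * a * g⁻¹ = z * b) := by
  set c : G := a * b with hc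
  have hainv : a⁻¹ = a := inv_eq_of_mul_eq_one_right ha
  have hbinv : b⁻¹ = b := inv_eq_of_mul_eq_one_right hb
  have hcinv : c⁻¹ = b * a := by rw [hc, _root_.mul_inv_rev, hainv, hbinv]
  have haca : a * c * a⁻¹ = c⁻¹ := by
    rw [hcinv, hainv, hc, ← mul_assoc, ha, one_mul]
  have hinvp : ∀ j : ℕ, a * c ^ j * a = (c ^ j)⁻¹ := by
    intro j
    have := conj_pow (i := j) (a := a) (b := c)
    rw [haca, hainv] at this
    rw [← this, inv_pow]
  have hinvp' : ∀ j : ℕ, a * (c ^ j)⁻¹ = c ^ j * a := by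
    intro j
    have h1 := hinvp j
    have h2 : (a * c ^ j * a)⁻¹ = c ^ j := by rw [h1, inv_inv]
    rw [_root_.mul_inv_rev, _root_.mul_inv_rev, hainv] at h2
    calc a * (c ^ j)⁻¹ = a * (c ^ j)⁻¹ * a * a := by rw [mul_assoc _ a a, ha, mul_one]
      _ = (a * ((c ^ j)⁻¹ * a)) * a := by rw [mul_assoc a]
      _ = c ^ j * a := by rw [h2]
  have hconj : ∀ j : ℕ, c ^ j * a * (c ^ j)⁻¹ = c ^ (2 * j) * a := by
    intro j
    rw [mul_assoc, hinvp', ← mul_assoc, ← pow_add, two_mul]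
  have hbc : b = c⁻¹ * a := by rw [hcinv, mul_assoc, ha, mul_one]
  have hbc' : b = a * c := by rw [hc, ← mul_assoc, ha, one_mul]
  have hm : 0 < orderOf c := orderOf_pos c
  obtain ⟨l, hl | hl⟩ := Nat.even_or_odd' (orderOf c)
  · right
    have hl0 : l ≠ 0 := by omega
    have hz2 : c ^ l * c ^ l = 1 := by rw [← pow_add, ← two_mul, ← hl, pow_orderOf_eq_one]
    have hz1 : c ^ l ≠ 1 := pow_ne_one_of_lt_orderOf hl0 (by omega)
    have hzinv : (c ^ l)⁻¹ = c ^ l := inv_eq_of_mul_eq_one_right hz2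
    have hza : c ^ l * a = a * c ^ l := by
      have := hinvp' l
      rw [hzinv] at this
      exact this.symm
    have hzb : c ^ l * b = b * c ^ l := by
      rw [hbc', ← mul_assoc, hza, mul_assoc, mul_assoc, ← pow_succ', ← pow_succ]
    refine ⟨c ^ l, Subgroup.npow_mem_zpowers c l, hz1, hz2, hza, hzb, ?_⟩
    obtain ⟨j, hj | hj⟩ := Nat.even_or_odd' l
    · refine ⟨c ^ j, Subgroup.npow_mem_zpowers c j, Or.inl ?_⟩
      rw [hconj, ← hj]
    · refine ⟨c ^ j, Subgroup.npow_mem_zpowers c j, Or.inr ?_⟩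
      rw [hconj, hbc, ← mul_assoc]
      congr 1
      rw [hj, pow_succ, mul_assoc, mul_inv_cancel, mul_one]
  · left
    refine ⟨c ^ l, Subgroup.npow_mem_zpowers c l, ?_⟩
    rw [hconj, hbc]
    congr 1
    have : c ^ (2 * l) * c = 1 := by rw [← pow_succ, ← hl, pow_orderOf_eq_one]
    exact eq_inv_of_mul_eq_one_left this

variable {F V : Type*} [Field F] [AddCommGroup V] [Module F V]

/-! ### Ranks -/

/-- The rank of `g - s`. -/
noncomputable def rk (s : F) (g : V ≃ₗ[F] V) : ℕ :=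
  finrank F (LinearMap.range ((g : V →ₗ[F] V) - s • LinearMap.id))

section Rank

variable [FiniteDimensional F V]

lemma rk_conj (s : F) (h g : V ≃ₗ[F] V) : rk s (h * g * h⁻¹) = rk s g := by
  unfold rk
  have e1 : ((h * g * h⁻¹ : V ≃ₗ[F] V) : V →ₗ[F] V) - s • LinearMap.id =
      (h : V →ₗ[F] V) ∘ₗ (((g : V →ₗ[F] V) - s • LinearMap.id) ∘ₗ (h⁻¹ : V ≃ₗ[F] V)) := by
    ext x
    simp only [LinearMap.sub_apply, LinearEquiv.coe_coe, LinearEquiv.mul_apply,
      LinearMap.smul_apply, LinearMap.id_coe, id_eq, LinearMap.coe_comp, Function.comp_apply,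
      map_sub, map_smul, apply_inv_apply']
  rw [e1, LinearMap.range_comp, LinearMap.range_comp]
  have e2 : LinearMap.range ((h⁻¹ : V ≃ₗ[F] V) : V →ₗ[F] V) = ⊤ := LinearEquiv.range _
  rw [e2, Submodule.map_top]
  exact LinearEquiv.finrank_map_eq h _

lemma rk_mul_le (s : F) (z a : V ≃ₗ[F] V) : rk s (z * a) ≤ rk s z + rk 1 a := by
  unfold rk
  have e1 : ((z * a : V ≃ₗ[F] V) : V →ₗ[F] V) - s • LinearMap.id =
      ((z : V →ₗ[F] V) - s • LinearMap.id) ∘ₗ (a : V →ₗ[F] V) +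
        s • ((a : V →ₗ[F] V) - (1 : F) • LinearMap.id) := by
    ext x
    simp only [LinearMap.sub_apply, LinearEquiv.coe_coe, LinearEquiv.mul_apply,
      LinearMap.smul_apply, LinearMap.id_coe, id_eq, LinearMap.coe_comp, Function.comp_apply,
      LinearMap.add_apply, one_smul, smul_sub]
    abel
  rw [e1]
  have h1 := LinearMap.range_add_le
    (((z : V →ₗ[F] V) - s • LinearMap.id) ∘ₗ (a : V →ₗ[F] V))
    (s • ((a : V →ₗ[F] V) - (1 : F) • LinearMap.id))
  have h2 := Submodule.finrank_mono h1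
  have h3 := Submodule.finrank_add_le_finrank_add_finrank
    (LinearMap.range (((z : V →ₗ[F] V) - s • LinearMap.id) ∘ₗ (a : V →ₗ[F] V)))
    (LinearMap.range (s • ((a : V →ₗ[F] V) - (1 : F) • LinearMap.id)))
  have h4 : finrank F (LinearMap.range
      (((z : V →ₗ[F] V) - s • LinearMap.id) ∘ₗ (a : V →ₗ[F] V))) ≤
      finrank F (LinearMap.range ((z : V →ₗ[F] V) - s • LinearMap.id)) :=
    Submodule.finrank_mono (LinearMap.range_comp_le_range _ _)
  have h5 : finrank F (LinearMap.range (s • ((a : V →ₗ[F] V) - (1 : F) • LinearMap.id))) ≤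
      finrank F (LinearMap.range ((a : V →ₗ[F] V) - (1 : F) • LinearMap.id)) := by
    apply Submodule.finrank_mono
    rintro _ ⟨x, rfl⟩
    exact ⟨s • x, by simp⟩
  omega

/-- An upper bound for `rk` from a small subspace containing the range. -/
lemma rk_le_of_range (s : F) (g : V ≃ₗ[F] V) (U : Submodule F V) (k : ℕ) (hU : finrank F U ≤ k)
    (h : ∀ x, g x - s • x ∈ U) : rk s g ≤ k := by
  unfold rk
  refine le_trans (Submodule.finrank_mono ?_) hU
  rintro _ ⟨x, rfl⟩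
  simpa using h x

/-- A lower bound for `rk` from a small subspace containing the kernel. -/
lemma le_rk_of_ker (s : F) (g : V ≃ₗ[F] V) (U : Submodule F V) (k : ℕ) (hU : finrank F U ≤ k)
    (h : ∀ x, g x = s • x → x ∈ U) : finrank F V ≤ rk s g + k := by
  unfold rk
  have h1 := LinearMap.finrank_range_add_finrank_ker ((g : V →ₗ[F] V) - s • LinearMap.id)
  have h2 : finrank F (LinearMap.ker ((g : V →ₗ[F] V) - s • LinearMap.id)) ≤ k := by
    refine le_trans (Submodule.finrank_mono ?_) hU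
    intro x hx
    apply h
    have : g x - s • x = 0 := by simpa using hx
    exact sub_eq_zero.mp this
  omega

/-- A lower bound for the dimension of a subspace containing independent vectors. -/
lemma le_finrank_of_li {U : Submodule F V} {k : ℕ} (v : Fin k → V) (hv : ∀ i, v i ∈ U)
    (hli : LinearIndependent F v) : k ≤ finrank F U := by
  have h1 : LinearIndependent F (fun i => (⟨v i, hv i⟩ : U)) := by
    apply LinearIndependent.of_comp U.subtype
    exact hli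
  simpa using h1.fintype_card_le_finrank

lemma span_pair_finrank_le (x y : V) : finrank F (Submodule.span F {x, y}) ≤ 2 := by
  classical
  have h1 := finrank_span_finset_le_card (R := F) ({x, y} : Finset V)
  have h2 : (({x, y} : Finset V) : Set V) = {x, y} := by simp
  rw [h2, Set.finrank] at h1
  have := Finset.card_le_two (a := x) (b := y)
  omega

lemma span_single_finrank_le (x : V) : finrank F (Submodule.span F {x}) ≤ 1 := by
  classical
  have h1 := finrank_span_finset_le_card (R := F) ({x} : Finset V)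
  have h2 : (({x} : Finset V) : Set V) = {x} := by simp
  rw [h2, Set.finrank] at h1
  have : ({x} : Finset V).card = 1 := Finset.card_singleton x
  omega

/-- An involution of determinant one, different from the identity, of a space of odd
characteristic has `rk 1` at least two. -/
lemma two_le_rk_of_invol (h2 : (2 : F) ≠ 0) {z : V ≃ₗ[F] V} (hdet : LinearEquiv.det z = 1)
    (hz2 : z * z = 1) (hz1 : z ≠ 1) : 2 ≤ rk 1 z := by
  by_contra hlt
  push Not at hlt
  have h1 : finrank F (LinearMap.range ((z : V →ₗ[F] V) - LinearMap.id)) ≤ 1 := by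
    have : rk 1 z ≤ 1 := by omega
    unfold rk at this
    rwa [one_smul] at this
  obtain ⟨f, v, hfv⟩ := LinearEquiv.mem_dilatransvections_iff_finrank.mpr h1
  have hd : LinearMap.det (z : V →ₗ[F] V) = 1 := by
    rw [← LinearEquiv.coe_det, hdet, Units.val_one]
  rw [hfv, LinearMap.transvection.det] at hd
  have hfv0 : f v = 0 := by linear_combination hd
  apply hz1
  ext x
  have hzx : ∀ y, z y = y + f y • v := by
    intro y
    have := congrArg (fun T : V →ₗ[F] V => T y) hfv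
    simpa [LinearMap.transvection.apply] using this
  have h3 : z (z x) = x := by
    rw [← LinearEquiv.mul_apply, hz2]
    rfl
  rw [hzx (z x), hzx x] at h3
  simp only [map_add, map_smul, hfv0, smul_eq_mul, mul_zero, add_zero] at h3
  have h4 : (2 * f x) • v = 0 := by
    have : x + f x • v + f x • v = x + (2 * f x) • v := by module
    rw [this] at h3
    simpa using h3
  rcases smul_eq_zero.mp h4 with h5 | h5
  · have : f x = 0 := by
      rcases mul_eq_zero.mp h5 with h6 | h6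
      · exact absurd h6 h2
      · exact h6
    rw [hzx, this, zero_smul, add_zero]
    rfl
  · rw [hzx, h5, smul_zero, add_zero]
    rfl

end Rank

/-! ### Hyperbolic involutions -/

section Hinv

variable {σ : F →+* F} (B : V →ₗ[F] V →ₛₗ[σ] F)

/-- Hyperbolic pairs. -/
def HP (e f : V) : Prop := B e e = 0 ∧ B f f = 0 ∧ B e f = 1 ∧ B f e = 1

/-- The linear map `-1` on a hyperbolic plane and `1` on its orthogonal complement. -/
def hinvMap (e f : V) : V →ₗ[F] V :=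
  LinearMap.id - (2 : F) • (B.flip f).smulRight e - (2 : F) • (B.flip e).smulRight f

lemma hinvMap_apply (e f x : V) :
    hinvMap B e f x = x - (2 * B x f) • e - (2 * B x e) • f := by
  simp [hinvMap, smul_smul]

variable {B}

lemma hinvMap_comp {e f : V} (h : HP B e f) :
    hinvMap B e f ∘ₗ hinvMap B e f = LinearMap.id := by
  ext x
  rw [LinearMap.comp_apply, hinvMap_apply, hinvMap_apply]
  simp only [map_sub, map_smul, LinearMap.sub_apply, LinearMap.smul_apply, smul_eq_mul, h.1,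
    h.2.1, h.2.2.1, h.2.2.2, mul_zero, mul_one, sub_zero, LinearMap.id_coe, id_eq]
  module

variable (B)

open Classical in
/-- The involution `-1` on a hyperbolic plane and `1` on its orthogonal complement. -/
noncomputable def hinv (e f : V) : V ≃ₗ[F] V :=
  if h : HP B e f then
    LinearEquiv.ofLinearMap (hinvMap B e f) (hinvMap B e f) (hinvMap_comp h) (hinvMap_comp h)
  else 1

variable {B}

lemma hinv_apply {e f : V} (h : HP B e f) (x : V) :
    hinv B e f x = x - (2 * B x f) • e - (2 * B x e) • f := by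
  rw [hinv, dif_pos h]
  exact hinvMap_apply B e f x

lemma hinv_mul_self {e f : V} (h : HP B e f) : hinv B e f * hinv B e f = 1 := by
  ext x
  rw [LinearEquiv.mul_apply, hinv_apply h, hinv_apply h]
  simp only [map_sub, map_smul, LinearMap.sub_apply, LinearMap.smul_apply, smul_eq_mul, h.1,
    h.2.1, h.2.2.1, h.2.2.2, mul_zero, mul_one, sub_zero, LinearEquiv.coe_one, id_eq]
  module

lemma hinv_mem_uG (hB : IsHerm B) {e f : V} (h : HP B e f) : hinv B e f ∈ uG B := by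
  intro x y
  rw [hinv_apply h, hinv_apply h]
  simp only [map_sub, map_smul, map_smulₛₗ, LinearMap.sub_apply, LinearMap.smul_apply,
    smul_eq_mul, h.1, h.2.1, h.2.2.1, h.2.2.2, map_mul, map_ofNat]
  rw [hB y e, hB y f]
  ring

lemma hinv_fix {e f : V} (h : HP B e f) {x : V} (hxe : B x e = 0) (hxf : B x f = 0) :
    hinv B e f x = x := by
  rw [hinv_apply h, hxe, hxf]
  simp


lemma hinv_left {e f : V} (h : HP B e f) : hinv B e f e = -e := by
  rw [hinv_apply h, h.1, h.2.2.1, mul_zero, zero_smul, sub_zero, mul_one]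
  module

lemma hinv_right {e f : V} (h : HP B e f) : hinv B e f f = -f := by
  rw [hinv_apply h, h.2.1, h.2.2.2, mul_zero, zero_smul, sub_zero, mul_one]
  module

lemma hinv_det [FiniteDimensional F V] {e f : V} (h : HP B e f) :
    LinearEquiv.det (hinv B e f) = 1 := by
  apply Units.ext
  rw [LinearEquiv.coe_det, Units.val_one]
  have e1 : ((hinv B e f : V ≃ₗ[F] V) : V →ₗ[F] V) =
      LinearMap.transvection ((-2 : F) • B.flip f) e ∘ₗ
        LinearMap.transvection ((-2 : F) • B.flip e) f := by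
    ext x
    rw [LinearEquiv.coe_coe, hinv_apply h, LinearMap.comp_apply, LinearMap.transvection.apply,
      LinearMap.transvection.apply]
    simp only [LinearMap.smul_apply, LinearMap.flip_apply, map_add, map_smul,
      LinearMap.add_apply, smul_eq_mul, h.2.1, mul_zero, add_zero]
    module
  rw [e1, LinearMap.det_comp, LinearMap.transvection.det, LinearMap.transvection.det]
  simp only [LinearMap.smul_apply, LinearMap.flip_apply, h.2.2.1, h.2.2.2, smul_eq_mul, mul_one]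
  ring

lemma conj_hinv {g : V ≃ₗ[F] V} (hg : g ∈ uG B) {e f : V} (h : HP B e f) :
    g * hinv B e f * g⁻¹ = hinv B (g e) (g f) := by
  have h' : HP B (g e) (g f) := by
    refine ⟨?_, ?_, ?_, ?_⟩
    · rw [hg, h.1]
    · rw [hg, h.2.1]
    · rw [hg, h.2.2.1]
    · rw [hg, h.2.2.2]
  ext x
  rw [LinearEquiv.mul_apply, LinearEquiv.mul_apply, hinv_apply h, hinv_apply h', map_sub,
    map_sub, map_smul, map_smul, apply_inv_apply', uG_inv_apply B hg, uG_inv_apply B hg]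

lemma rk_one_hinv_le [FiniteDimensional F V] {e f : V} (h : HP B e f) :
    rk 1 (hinv B e f) ≤ 2 := by
  apply rk_le_of_range 1 _ (Submodule.span F {e, f}) 2 (span_pair_finrank_le e f)
  intro x
  rw [hinv_apply h, one_smul]
  have : x - (2 * B x f) • e - (2 * B x e) • f - x = (-(2 * B x f)) • e + (-(2 * B x e)) • f := by
    module
  rw [this]
  exact Submodule.add_mem _ (Submodule.smul_mem _ _ (Submodule.subset_span (by simp)))
    (Submodule.smul_mem _ _ (Submodule.subset_span (by simp)))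

lemma le_rk_neg_one_hinv [FiniteDimensional F V] (h2 : (2 : F) ≠ 0) {e f : V}
    (h : HP B e f) : finrank F V ≤ rk (-1) (hinv B e f) + 2 := by
  apply le_rk_of_ker (-1) _ (Submodule.span F {e, f}) 2 (span_pair_finrank_le e f)
  intro x hx
  rw [hinv_apply h] at hx
  have h3 : (2 : F) • x = (2 * B x f) • e + (2 * B x e) • f := by
    have h4 : x - (2 * B x f) • e - (2 * B x e) • f - (-1 : F) • x = 0 := sub_eq_zero.mpr hx
    have h5 : (2 : F) • x - ((2 * B x f) • e + (2 * B x e) • f) =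
        x - (2 * B x f) • e - (2 * B x e) • f - (-1 : F) • x := by module
    exact sub_eq_zero.mp (h5.trans h4)
  have h4 : x = (2 : F)⁻¹ • ((2 * B x f) • e + (2 * B x e) • f) := by
    rw [← h3, smul_smul, inv_mul_cancel₀ h2, one_smul]
  rw [h4]
  exact Submodule.smul_mem _ _ (Submodule.add_mem _
    (Submodule.smul_mem _ _ (Submodule.subset_span (by simp)))
    (Submodule.smul_mem _ _ (Submodule.subset_span (by simp))))

end Hinv

/-! ### The stabiliser of the rational structure -/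

section Final

variable {σ : F →+* F} {B : V →ₗ[F] V →ₛₗ[σ] F} {V₀ : AddSubgroup V} {F₀ : Subfield F} {n : ℕ}

variable (R : UForm B V₀ F₀ n) [Finite F] [FiniteDimensional F V] (hσ : Invol σ)
  (hB : IsHerm B) (hN : NondegOn B ⊤) (hn : 8 ≤ n)
  (K0 : Subgroup (V ≃ₗ[F] V)) (hK0 : ∀ g, g ∈ K0 ↔ LinearEquiv.det g = 1)
  (S : Subgroup (V ≃ₗ[F] V))
  (hS : ∀ g, g ∈ S ↔ ∃ μ : F, μ ≠ 0 ∧ ∀ v ∈ V₀, ∃ w ∈ V₀, g v = μ • w)

include hS in
lemma mem_S_of_map (g : V ≃ₗ[F] V) (h : ∀ v ∈ V₀, g v ∈ V₀) : g ∈ S :=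
  (hS g).mpr ⟨1, one_ne_zero, fun v hv => ⟨g v, h v hv, (one_smul _ _).symm⟩⟩

include R hB hK0 hS in
lemma RT_le_H : RT B V₀ F₀ ≤ S ⊓ (uG B ⊓ K0) := by
  apply RT_le
  intro a ha c hc haa hcs
  exact ⟨mem_S_of_map S hS _ (fun x hx => utv_map_mem R ha hc haa hx), utv_mem_uG hB a hcs,
    (hK0 _).mpr (utv_det a c)⟩

include R hB hK0 hS in
lemma hinv_mem_H {e f : V} (he : e ∈ V₀) (hf : f ∈ V₀) (h : HP B e f) :
    hinv B e f ∈ S ⊓ (uG B ⊓ K0) := by
  refine ⟨mem_S_of_map S hS _ ?_, hinv_mem_uG hB h, (hK0 _).mpr (hinv_det h)⟩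
  intro x hx
  rw [hinv_apply h]
  have h2 : (2 : F) ∈ F₀ := by
    rw [← one_add_one_eq_two]
    exact F₀.add_mem F₀.one_mem F₀.one_mem
  exact V₀.sub_mem (V₀.sub_mem hx (R.smul_mem (F₀.mul_mem h2 (R.val x hx f hf)) he))
    (R.smul_mem (F₀.mul_mem h2 (R.val x hx e he)) hf)

include R hσ hB hn hS in
/-- An involution stabilising the rational structure up to a scalar stabilises it. -/
lemma rat_of_invol (hsq : ∀ μ : F, μ * μ ∈ F₀ → μ ∈ F₀) {z : V ≃ₗ[F] V} (hzS : z ∈ S)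
    (hz2 : z * z = 1) : ∀ v ∈ V₀, z v ∈ V₀ := by
  obtain ⟨μ, hμ0, hμ⟩ := (hS z).mp hzS
  obtain ⟨v₁, hv₁, hv₁0, -, -⟩ := R.exists_iso_perp hσ hB [] (by simp; omega)
  obtain ⟨w, hw, hzv⟩ := hμ v₁ hv₁
  obtain ⟨w', hw', hzw⟩ := hμ w hw
  have h1 : v₁ = (μ * μ) • w' := by
    have : z (z v₁) = v₁ := by
      rw [← LinearEquiv.mul_apply, hz2]
      rfl
    rw [← this, hzv, map_smul, hzw, smul_smul]
  have hw'0 : w' ≠ 0 := by
    rintro rfl
    rw [smul_zero] at h1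
    exact hv₁0 h1
  have h2 : μ * μ ∈ F₀ := R.rat_of_smul hw' hw'0 (h1 ▸ hv₁)
  have hμF := hsq μ h2
  intro v hv
  obtain ⟨y, hy, hzy⟩ := hμ v hv
  rw [hzy]
  exact R.smul_mem hμF hy

include R in
/-- Two rational vectors with independent images under `g - s` when this map has rank at least
two. -/
lemma exists_indep_of_rk (s : F) (g : V ≃ₗ[F] V) (h : 2 ≤ rk s g) :
    ∃ u₁ ∈ V₀, ∃ u₂ ∈ V₀, g u₁ - s • u₁ ≠ 0 ∧
      g u₂ - s • u₂ ∉ Submodule.span F {g u₁ - s • u₁} := by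
  obtain ⟨b, hb⟩ := R.basis
  have hbm : ∀ i, b i ∈ V₀ := by
    intro i
    rw [hb]
    intro j
    rw [b.repr_self, Finsupp.single_apply]
    split_ifs
    · exact F₀.one_mem
    · exact F₀.zero_mem
  by_contra hcon
  push Not at hcon
  obtain ⟨y, hy⟩ : ∃ y : V, ∀ u ∈ V₀, g u - s • u ∈ Submodule.span F {y} := by
    by_cases hA : ∃ u₁ ∈ V₀, g u₁ - s • u₁ ≠ 0
    · obtain ⟨u₁, hu₁, hne⟩ := hA
      exact ⟨g u₁ - s • u₁, fun u hu => hcon u₁ hu₁ u hu hne⟩
    · push Not at hA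
      exact ⟨0, fun u hu => by rw [hA u hu]; exact Submodule.zero_mem _⟩
  have hle : rk s g ≤ 1 := by
    apply rk_le_of_range s g (Submodule.span F {y}) 1 (span_single_finrank_le y)
    intro x
    rw [← b.sum_repr x, map_sum, Finset.smul_sum, ← Finset.sum_sub_distrib]
    apply Submodule.sum_mem
    intro i _
    rw [map_smul, smul_comm, ← smul_sub]
    exact Submodule.smul_mem _ _ (hy _ (hbm i))
  omega

lemma frame_li3 (hB : IsHerm B) (Φ : Frame B V₀) :
    LinearIndependent F ![Φ.e 1, Φ.f 1, Φ.e 2] := by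
  rw [Fintype.linearIndependent_iff]
  intro g hg
  rw [Fin.sum_univ_three] at hg
  simp only [Matrix.cons_val_zero, Matrix.cons_val_one, Matrix.cons_val_two,
    Matrix.head_cons, Matrix.tail_cons] at hg
  have h0 : g 0 = 0 := by
    have := congrArg (fun x => B x (Φ.f 1)) hg
    simpa [Φ.ef, Φ.ff] using this
  have h1 : g 1 = 0 := by
    have := congrArg (fun x => B x (Φ.e 1)) hg
    simpa [Φ.ee, Φ.fe hB] using this
  have h2 : g 2 = 0 := by
    have := congrArg (fun x => B x (Φ.f 2)) hg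
    simpa [Φ.ef, Φ.ff] using this
  intro i
  fin_cases i
  · exact h0
  · exact h1
  · exact h2

lemma frame_li2 (c : F) (hc : c ≠ 0) (Φ : Frame B V₀) :
    LinearIndependent F ![c • Φ.e 1, c • Φ.e 2] := by
  rw [Fintype.linearIndependent_iff]
  intro g hg
  rw [Fin.sum_univ_two] at hg
  simp only [Matrix.cons_val_zero, Matrix.cons_val_one, Matrix.head_cons] at hg
  have h0 : g 0 = 0 := by
    have := congrArg (fun x => B x (Φ.f 1)) hg
    simpa [Φ.ef, hc] using this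
  have h1 : g 1 = 0 := by
    have := congrArg (fun x => B x (Φ.f 2)) hg
    simpa [Φ.ef, hc] using this
  intro i
  fin_cases i
  · exact h0
  · exact h1

/-- The key orthogonality behind the final contradiction. -/
lemma orth_of_invol (hB : IsHerm B) {z : V ≃ₗ[F] V} (hzU : z ∈ uG B) (hz2 : z * z = 1)
    (w u : V) : B (z w + w) (z u - u) = 0 := by
  have h1 : B w (z u) = B (z w) u := by
    have : z (z u) = u := by
      rw [← LinearEquiv.mul_apply, hz2]
      rfl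
    rw [← hzU w (z u), this]
  simp only [map_add, map_sub, LinearMap.add_apply, LinearMap.sub_apply, hzU w u, h1]
  ring

include R in
lemma exists_moved {z : V ≃ₗ[F] V} (hz1 : z ≠ 1) : ∃ u ∈ V₀, z u - u ≠ 0 := by
  obtain ⟨b, hb⟩ := R.basis
  have hbm : ∀ i, b i ∈ V₀ := by
    intro i
    rw [hb]
    intro j
    rw [b.repr_self, Finsupp.single_apply]
    split_ifs
    · exact F₀.one_mem
    · exact F₀.zero_mem
  by_contra hcon
  push Not at hcon
  apply hz1
  apply LinearEquiv.toLinearMap_injective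
  apply b.ext
  intro i
  have := hcon (b i) (hbm i)
  exact sub_eq_zero.mp this

lemma neg_eq_self_of_two (h2 : (2 : F) = 0) (u : V) : -u = u := by
  have : u + u = 0 := by rw [← two_smul F u, h2, zero_smul]
  exact neg_eq_of_add_eq_zero_left this

include R hσ hB hN hn hK0 hS in
/-- **No skew elements.**  An overgroup of the stabiliser of the rational structure all of whose
root elements at rational vectors have rational parameters stabilises the rational structure. -/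
theorem le_S (hsq : ∀ μ : F, μ * μ ∈ F₀ → μ ∈ F₀) (M : Subgroup (V ≃ₗ[F] V))
    (hHM : S ⊓ (uG B ⊓ K0) ≤ M) (hMG : M ≤ uG B ⊓ K0)
    (hAr : ∀ v w, GP B V₀ v w → ∀ a, srt B v w a ∈ M → a ∈ F₀)
    (hUr : ∀ v ∈ V₀, v ≠ 0 → B v v = 0 → ∀ c, σ c = -c → utv B v c ∈ M → c ∈ F₀) :
    M ≤ S := by
  classical
  intro k hkM
  by_contra hkS
  have hRT : RT B V₀ F₀ ≤ M := le_trans (RT_le_H R hB K0 hK0 S hS) hHM
  have hKU : M ≤ uG B := fun g hg => (hMG hg).1
  haveI : Finite V := Module.finite_of_finite F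
  haveI : Finite (V ≃ₗ[F] V) :=
    Finite.of_injective (fun g : V ≃ₗ[F] V => (g : V → V)) DFunLike.coe_injective
  obtain ⟨Φ⟩ := exists_frame R hσ hB hN (by omega)
  have ts1' : ∀ {g : V ≃ₗ[F] V}, g ∈ M → ∀ {v p : V}, v ∈ V₀ → B v v = 0 → p ∈ V₀ → p ≠ 0 →
      B p p = 0 → B (g v) p = 0 → IsRatPt F V₀ (g v) := fun hg _ _ hv hvv hp hp0 hpp h =>
    ts1 R hσ hB hN hn M hRT hKU hAr hUr hg hv hvv hp hp0 hpp h
  have ts2' : ∀ {g : V ≃ₗ[F] V}, g ∈ M → ∀ {v₀ : V}, v₀ ∈ V₀ → v₀ ≠ 0 → B v₀ v₀ = 0 →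
      IsRatPt F V₀ (g v₀) → g ∈ S := fun hg _ hv hv0 hvv h =>
    (hS _).mpr (ts2 R hσ hB hN hn M hRT hKU hAr hUr hg hv hv0 hvv h)
  have final : ∀ z ∈ M, z * z = 1 → z ∈ S → (k⁻¹ * z * k) ∈ S →
      (∃ u ∈ V₀, z u - u ≠ 0 ∧ B (z u - u) (z u - u) = 0) →
      (∃ u' ∈ V₀, (k⁻¹ * z * k) u' + u' ≠ 0 ∧
        B ((k⁻¹ * z * k) u' + u') ((k⁻¹ * z * k) u' + u') = 0) → False := by
    intro z hzM hz2 hzS hz'S ⟨u, hu, hp0, hpp⟩ ⟨u', hu', hv0, hvv⟩
    have hz'2 : (k⁻¹ * z * k) * (k⁻¹ * z * k) = 1 := by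
      calc (k⁻¹ * z * k) * (k⁻¹ * z * k) = k⁻¹ * (z * z) * k := by group
        _ = 1 := by rw [hz2]; group
    have hzr := rat_of_invol R hσ hB hn S hS hsq hzS hz2
    have hz'r := rat_of_invol R hσ hB hn S hS hsq hz'S hz'2
    have hp : z u - u ∈ V₀ := V₀.sub_mem (hzr u hu) hu
    have hv : (k⁻¹ * z * k) u' + u' ∈ V₀ := V₀.add_mem (hz'r u' hu') hu'
    have hkv : k ((k⁻¹ * z * k) u' + u') = z (k u') + k u' := by
      rw [map_add, LinearEquiv.mul_apply, LinearEquiv.mul_apply, apply_inv_apply']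
    have horth : B (k ((k⁻¹ * z * k) u' + u')) (z u - u) = 0 := by
      rw [hkv]
      exact orth_of_invol hB (hKU hzM) hz2 _ _
    have hrat := ts1' hkM hv hvv hp hp0 hpp horth
    exact hkS (ts2' hkM hv hv0 hvv hrat)
  have hfin : finrank F V = n := R.finrankV
  by_cases h2 : (2 : F) = 0
  · -- characteristic two
    obtain ⟨c, hcF, hc0, hc⟩ := exists_skew_rat R hσ
    have hcc : c + c = 0 := by rw [← two_mul, h2, zero_mul]
    have ha₁M : utv B (Φ.e 0) c ∈ M := hRT (utv_mem_RT (Φ.he 0) hcF (Φ.ee 0 0) hc)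
    have ht1M : utv B (Φ.e 1) c ∈ M := hRT (utv_mem_RT (Φ.he 1) hcF (Φ.ee 1 1) hc)
    have ht2M : utv B (Φ.e 2) c ∈ M := hRT (utv_mem_RT (Φ.he 2) hcF (Φ.ee 2 2) hc)
    have ha₂M : utv B (Φ.e 1) c * utv B (Φ.e 2) c ∈ M := M.mul_mem ht1M ht2M
    have ha₁2 : utv B (Φ.e 0) c * utv B (Φ.e 0) c = 1 := by rw [utv_mul, hcc, utv_zero]
    have hcomm : utv B (Φ.e 2) c * utv B (Φ.e 1) c = utv B (Φ.e 1) c * utv B (Φ.e 2) c := by
      have h3 := conj_utv (hKU ht2M) (Φ.e 1) c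
      rw [utv_fix B (Φ.e 2) c (Φ.ee 1 2)] at h3
      calc utv B (Φ.e 2) c * utv B (Φ.e 1) c
          = (utv B (Φ.e 2) c * utv B (Φ.e 1) c * (utv B (Φ.e 2) c)⁻¹) * utv B (Φ.e 2) c := by
            group
        _ = utv B (Φ.e 1) c * utv B (Φ.e 2) c := by rw [h3]
    have ha₂2 : (utv B (Φ.e 1) c * utv B (Φ.e 2) c) * (utv B (Φ.e 1) c * utv B (Φ.e 2) c) = 1 := by
      calc (utv B (Φ.e 1) c * utv B (Φ.e 2) c) * (utv B (Φ.e 1) c * utv B (Φ.e 2) c)
          = utv B (Φ.e 1) c * (utv B (Φ.e 2) c * utv B (Φ.e 1) c) * utv B (Φ.e 2) c := by group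
        _ = utv B (Φ.e 1) c * (utv B (Φ.e 1) c * utv B (Φ.e 2) c) * utv B (Φ.e 2) c := by
            rw [hcomm]
        _ = (utv B (Φ.e 1) c * utv B (Φ.e 1) c) * (utv B (Φ.e 2) c * utv B (Φ.e 2) c) := by group
        _ = 1 := by rw [utv_mul, utv_mul, hcc, utv_zero, utv_zero, mul_one]
    set a₁ := utv B (Φ.e 0) c with ha₁
    set a₂ := utv B (Φ.e 1) c * utv B (Φ.e 2) c with ha₂
    set b := k * a₂ * k⁻¹ with hb
    have hbM : b ∈ M := M.mul_mem (M.mul_mem hkM ha₂M) (M.inv_mem hkM)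
    have hb2 : b * b = 1 := by
      calc b * b = k * (a₂ * a₂) * k⁻¹ := by rw [hb]; group
        _ = 1 := by rw [ha₂2]; group
    have hrk_a₁ : rk 1 a₁ ≤ 1 := by
      apply rk_le_of_range 1 _ (Submodule.span F {Φ.e 0}) 1 (span_single_finrank_le _)
      intro x
      rw [ha₁, utv_apply B (Φ.ee 0 0), one_smul, add_sub_cancel_left]
      exact Submodule.smul_mem _ _ (Submodule.subset_span rfl)
    have ha₂f1 : a₂ (Φ.f 1) = Φ.f 1 + c • Φ.e 1 := by
      rw [ha₂, LinearEquiv.mul_apply, utv_fix B (Φ.e 2) c (by rw [Φ.fe hB]; simp),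
        utv_apply B (Φ.ee 1 1), Φ.fe hB, if_pos rfl, mul_one]
    have ha₂f2 : a₂ (Φ.f 2) = Φ.f 2 + c • Φ.e 2 := by
      rw [ha₂, LinearEquiv.mul_apply, utv_apply B (Φ.ee 2 2), Φ.fe hB, if_pos rfl, mul_one,
        utv_fix B (Φ.e 1) c]
      rw [map_add, LinearMap.add_apply, map_smul, LinearMap.smul_apply, Φ.fe hB, Φ.ee]
      simp
    have hrk_a₂ : 2 ≤ rk 1 a₂ := by
      unfold rk
      apply le_finrank_of_li ![c • Φ.e 1, c • Φ.e 2] _ (frame_li2 c hc0 Φ)
      intro i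
      fin_cases i
      · exact ⟨Φ.f 1, by simp [ha₂f1]⟩
      · exact ⟨Φ.f 2, by simp [ha₂f2]⟩
    rcases dihedral2 a₁ b ha₁2 hb2 with ⟨g, hg, hgab⟩ | ⟨z, hz, hz1, hz2, hza, hzb, -⟩
    · have e1 : rk 1 b = rk 1 a₁ := by rw [← hgab, rk_conj]
      have e2 : rk 1 b = rk 1 a₂ := rk_conj 1 k a₂
      omega
    · have hcM : a₁ * b ∈ M := M.mul_mem ha₁M hbM
      have hzM : z ∈ M := (Subgroup.zpowers_le.mpr hcM) hz
      have hzS : z ∈ S := by
        have h3 : z (a₁ (Φ.f 0)) = a₁ (z (Φ.f 0)) := by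
          rw [← LinearEquiv.mul_apply, hza, LinearEquiv.mul_apply]
        rw [ha₁, utv_apply B (Φ.ee 0 0), utv_apply B (Φ.ee 0 0), Φ.fe hB, if_pos rfl, mul_one,
          map_add, map_smul] at h3
        have h4 : c • z (Φ.e 0) = (c * B (z (Φ.f 0)) (Φ.e 0)) • Φ.e 0 := add_left_cancel h3
        have h5 : z (Φ.e 0) = B (z (Φ.f 0)) (Φ.e 0) • Φ.e 0 := by
          have := congrArg (fun x => c⁻¹ • x) h4
          simpa [smul_smul, hc0] using this
        exact ts2' hzM (Φ.he 0) (Φ.e_ne 0) (Φ.ee 0 0) ⟨_, Φ.e 0, Φ.he 0, h5⟩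
      have hz'M : k⁻¹ * z * k ∈ M := M.mul_mem (M.mul_mem (M.inv_mem hkM) hzM) hkM
      have hz'a₂ : (k⁻¹ * z * k) * a₂ = a₂ * (k⁻¹ * z * k) := by
        have h3 : z * (k * a₂ * k⁻¹) = (k * a₂ * k⁻¹) * z := hzb
        calc (k⁻¹ * z * k) * a₂ = k⁻¹ * (z * (k * a₂ * k⁻¹)) * k := by group
          _ = k⁻¹ * ((k * a₂ * k⁻¹) * z) * k := by rw [h3]
          _ = a₂ * (k⁻¹ * z * k) := by group
      have hz'S : k⁻¹ * z * k ∈ S := by
        have ha₂e1 : a₂ (Φ.e 1) = Φ.e 1 := by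
          rw [ha₂, LinearEquiv.mul_apply, utv_fix B _ c (Φ.ee 1 2), utv_self]
        have h3 : (k⁻¹ * z * k) (a₂ (Φ.f 1)) = a₂ ((k⁻¹ * z * k) (Φ.f 1)) := by
          rw [← LinearEquiv.mul_apply, hz'a₂, LinearEquiv.mul_apply]
        rw [ha₂f1, map_add, map_smul] at h3
        have h4 : B (a₂ ((k⁻¹ * z * k) (Φ.f 1))) (Φ.e 1) = B ((k⁻¹ * z * k) (Φ.f 1)) (Φ.e 1) := by
          have := hKU ha₂M ((k⁻¹ * z * k) (Φ.f 1)) (Φ.e 1)
          rwa [ha₂e1] at this
        have horth : B ((k⁻¹ * z * k) (Φ.e 1)) (Φ.e 1) = 0 := by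
          rw [← h3, map_add, LinearMap.add_apply, map_smul, LinearMap.smul_apply, smul_eq_mul] at h4
          have : c * B ((k⁻¹ * z * k) (Φ.e 1)) (Φ.e 1) = 0 := by linear_combination h4
          exact (mul_eq_zero.mp this).resolve_left hc0
        exact ts2' hz'M (Φ.he 1) (Φ.e_ne 1) (Φ.ee 1 1)
          (ts1' hz'M (Φ.he 1) (Φ.ee 1 1) (Φ.he 1) (Φ.e_ne 1) (Φ.ee 1 1) horth)
      have hz'2 : (k⁻¹ * z * k) * (k⁻¹ * z * k) = 1 := by
        calc (k⁻¹ * z * k) * (k⁻¹ * z * k) = k⁻¹ * (z * z) * k := by group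
          _ = 1 := by rw [hz2]; group
      have hz'1 : k⁻¹ * z * k ≠ 1 := by
        intro h1
        apply hz1
        calc z = k * (k⁻¹ * z * k) * k⁻¹ := by group
          _ = 1 := by rw [h1]; group
      apply final z hzM hz2 hzS hz'S
      · obtain ⟨u, hu, hne⟩ := exists_moved R hz1
        refine ⟨u, hu, hne, ?_⟩
        have h3 := orth_of_invol hB (hKU hzM) hz2 u u
        have e : z u + u = z u - u := by rw [sub_eq_add_neg, neg_eq_self_of_two h2]
        rwa [e] at h3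
      · obtain ⟨u, hu, hne⟩ := exists_moved R hz'1
        have e : (k⁻¹ * z * k) u + u = (k⁻¹ * z * k) u - u := by
          rw [sub_eq_add_neg, neg_eq_self_of_two h2]
        refine ⟨u, hu, by rw [e]; exact hne, ?_⟩
        have h3 := orth_of_invol hB (hKU hz'M) hz'2 u u
        rwa [← e] at h3
  · -- odd characteristic
    have hp0 : HP B (Φ.e 0) (Φ.f 0) :=
      ⟨Φ.ee 0 0, Φ.ff 0 0, by rw [Φ.ef, if_pos rfl], by rw [Φ.fe hB, if_pos rfl]⟩
    have hp1 : HP B (Φ.e 1) (Φ.f 1) :=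
      ⟨Φ.ee 1 1, Φ.ff 1 1, by rw [Φ.ef, if_pos rfl], by rw [Φ.fe hB, if_pos rfl]⟩
    have hp2 : HP B (Φ.e 2) (Φ.f 2) :=
      ⟨Φ.ee 2 2, Φ.ff 2 2, by rw [Φ.ef, if_pos rfl], by rw [Φ.fe hB, if_pos rfl]⟩
    have ha₁M : hinv B (Φ.e 0) (Φ.f 0) ∈ M :=
      hHM (hinv_mem_H R hB K0 hK0 S hS (Φ.he 0) (Φ.hf 0) hp0)
    have hh1M : hinv B (Φ.e 1) (Φ.f 1) ∈ M :=
      hHM (hinv_mem_H R hB K0 hK0 S hS (Φ.he 1) (Φ.hf 1) hp1)
    have hh2M : hinv B (Φ.e 2) (Φ.f 2) ∈ M :=
      hHM (hinv_mem_H R hB K0 hK0 S hS (Φ.he 2) (Φ.hf 2) hp2)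
    have ha₂M : hinv B (Φ.e 1) (Φ.f 1) * hinv B (Φ.e 2) (Φ.f 2) ∈ M := M.mul_mem hh1M hh2M
    have ha₁2 := hinv_mul_self hp0
    have hcomm : hinv B (Φ.e 2) (Φ.f 2) * hinv B (Φ.e 1) (Φ.f 1) =
        hinv B (Φ.e 1) (Φ.f 1) * hinv B (Φ.e 2) (Φ.f 2) := by
      have h3 := conj_hinv (hKU hh2M) hp1
      rw [hinv_fix hp2 (Φ.ee 1 2) (by rw [Φ.ef]; simp),
        hinv_fix hp2 (by rw [Φ.fe hB]; simp) (Φ.ff 1 2)] at h3
      calc hinv B (Φ.e 2) (Φ.f 2) * hinv B (Φ.e 1) (Φ.f 1)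
          = (hinv B (Φ.e 2) (Φ.f 2) * hinv B (Φ.e 1) (Φ.f 1) * (hinv B (Φ.e 2) (Φ.f 2))⁻¹) *
            hinv B (Φ.e 2) (Φ.f 2) := by group
        _ = hinv B (Φ.e 1) (Φ.f 1) * hinv B (Φ.e 2) (Φ.f 2) := by rw [h3]
    have ha₂2 : (hinv B (Φ.e 1) (Φ.f 1) * hinv B (Φ.e 2) (Φ.f 2)) *
        (hinv B (Φ.e 1) (Φ.f 1) * hinv B (Φ.e 2) (Φ.f 2)) = 1 := by
      calc (hinv B (Φ.e 1) (Φ.f 1) * hinv B (Φ.e 2) (Φ.f 2)) *
            (hinv B (Φ.e 1) (Φ.f 1) * hinv B (Φ.e 2) (Φ.f 2))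
          = hinv B (Φ.e 1) (Φ.f 1) * (hinv B (Φ.e 2) (Φ.f 2) * hinv B (Φ.e 1) (Φ.f 1)) *
            hinv B (Φ.e 2) (Φ.f 2) := by group
        _ = hinv B (Φ.e 1) (Φ.f 1) * (hinv B (Φ.e 1) (Φ.f 1) * hinv B (Φ.e 2) (Φ.f 2)) *
            hinv B (Φ.e 2) (Φ.f 2) := by rw [hcomm]
        _ = (hinv B (Φ.e 1) (Φ.f 1) * hinv B (Φ.e 1) (Φ.f 1)) *
            (hinv B (Φ.e 2) (Φ.f 2) * hinv B (Φ.e 2) (Φ.f 2)) := by group
        _ = 1 := by rw [hinv_mul_self hp1, hinv_mul_self hp2, mul_one]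
    have hrk_a₁ : rk 1 (hinv B (Φ.e 0) (Φ.f 0)) ≤ 2 := rk_one_hinv_le hp0
    have hrk_a₂ : rk 1 (hinv B (Φ.e 1) (Φ.f 1) * hinv B (Φ.e 2) (Φ.f 2)) ≤ 4 :=
      le_trans (rk_mul_le 1 _ _) (add_le_add (rk_one_hinv_le hp1) (rk_one_hinv_le hp2))
    have hn_a₁ : finrank F V ≤ rk (-1) (hinv B (Φ.e 0) (Φ.f 0)) + 2 := le_rk_neg_one_hinv h2 hp0
    set a₁ := hinv B (Φ.e 0) (Φ.f 0) with ha₁
    set a₂ := hinv B (Φ.e 1) (Φ.f 1) * hinv B (Φ.e 2) (Φ.f 2) with ha₂
    have ha₂e1 : a₂ (Φ.e 1) = -Φ.e 1 := by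
      rw [ha₂, LinearEquiv.mul_apply, hinv_fix hp2 (Φ.ee 1 2) (by rw [Φ.ef]; simp),
        hinv_left hp1]
    have ha₂f1 : a₂ (Φ.f 1) = -Φ.f 1 := by
      rw [ha₂, LinearEquiv.mul_apply, hinv_fix hp2 (by rw [Φ.fe hB]; simp) (Φ.ff 1 2),
        hinv_right hp1]
    have ha₂e2 : a₂ (Φ.e 2) = -Φ.e 2 := by
      rw [ha₂, LinearEquiv.mul_apply, hinv_left hp2, map_neg,
        hinv_fix hp1 (Φ.ee 2 1) (by rw [Φ.ef]; simp)]
    have ha₂e0 : a₂ (Φ.e 0) = Φ.e 0 := by
      rw [ha₂, LinearEquiv.mul_apply, hinv_fix hp2 (Φ.ee 0 2) (by rw [Φ.ef]; simp),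
        hinv_fix hp1 (Φ.ee 0 1) (by rw [Φ.ef]; simp)]
    have hrk_a₂' : 3 ≤ rk 1 a₂ := by
      unfold rk
      apply le_finrank_of_li ![Φ.e 1, Φ.f 1, Φ.e 2] _ (frame_li3 hB Φ)
      have key : ∀ x : V, a₂ x = -x →
          x ∈ LinearMap.range ((a₂ : V →ₗ[F] V) - (1 : F) • LinearMap.id) := by
        intro x hx
        refine ⟨(-(2 : F)⁻¹) • x, ?_⟩
        simp only [LinearMap.sub_apply, LinearEquiv.coe_coe, map_smul, hx, LinearMap.smul_apply,
          LinearMap.id_coe, id_eq, one_smul]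
        have : (-(2 : F)⁻¹) • (-x - x) = ((2 : F)⁻¹ * 2) • x := by module
        rw [this, inv_mul_cancel₀ h2, one_smul]
      intro i
      fin_cases i
      · exact key _ ha₂e1
      · exact key _ ha₂f1
      · exact key _ ha₂e2
    set b := k * a₂ * k⁻¹ with hb
    have hbM : b ∈ M := M.mul_mem (M.mul_mem hkM ha₂M) (M.inv_mem hkM)
    have hb2 : b * b = 1 := by
      calc b * b = k * (a₂ * a₂) * k⁻¹ := by rw [hb]; group
        _ = 1 := by rw [ha₂2]; group
    have hrk_b : rk 1 b = rk 1 a₂ := rk_conj 1 k a₂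
    rcases dihedral2 a₁ b ha₁2 hb2 with ⟨g, hg, hgab⟩ | ⟨z, hz, hz1, hz2, hza, hzb, g, hg, hgz⟩
    · have e1 : rk 1 b = rk 1 a₁ := by rw [← hgab, rk_conj]
      omega
    · have hcM : a₁ * b ∈ M := M.mul_mem ha₁M hbM
      have hzM : z ∈ M := (Subgroup.zpowers_le.mpr hcM) hz
      have hdz : LinearEquiv.det z = 1 := (hK0 z).mp (hMG hzM).2
      have hr1 : 2 ≤ rk 1 z := two_le_rk_of_invol h2 hdz hz2 hz1
      have hr2 : 2 ≤ rk (-1) z := by
        by_contra hlt
        push Not at hlt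
        rcases hgz with hgz | hgz
        · have e1 : rk (-1) (z * a₁) = rk (-1) a₁ := by rw [← hgz, rk_conj]
          have e2 := rk_mul_le (-1) z a₁
          omega
        · have e1 : rk (-1) (z * b) = rk (-1) a₁ := by rw [← hgz, rk_conj]
          have e2 := rk_mul_le (-1) z b
          omega
      have hzS : z ∈ S := by
        have horth : B (z (Φ.e 0)) (Φ.e 1) = 0 := by
          have h3 : a₁ (z (Φ.e 0)) = -(z (Φ.e 0)) := by
            rw [← LinearEquiv.mul_apply, ← hza, LinearEquiv.mul_apply, ha₁, hinv_left hp0, map_neg]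
          have h4 : a₁ (Φ.e 1) = Φ.e 1 := hinv_fix hp0 (Φ.ee 1 0) (by rw [Φ.ef]; simp)
          have h5 := hKU ha₁M (z (Φ.e 0)) (Φ.e 1)
          rw [h3, h4, map_neg, LinearMap.neg_apply] at h5
          have : (2 : F) * B (z (Φ.e 0)) (Φ.e 1) = 0 := by linear_combination -h5
          exact (mul_eq_zero.mp this).resolve_left h2
        exact ts2' hzM (Φ.he 0) (Φ.e_ne 0) (Φ.ee 0 0)
          (ts1' hzM (Φ.he 0) (Φ.ee 0 0) (Φ.he 1) (Φ.e_ne 1) (Φ.ee 1 1) horth)
      have hz'M : k⁻¹ * z * k ∈ M := M.mul_mem (M.mul_mem (M.inv_mem hkM) hzM) hkM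
      have hz'a₂ : (k⁻¹ * z * k) * a₂ = a₂ * (k⁻¹ * z * k) := by
        have h3 : z * (k * a₂ * k⁻¹) = (k * a₂ * k⁻¹) * z := hzb
        calc (k⁻¹ * z * k) * a₂ = k⁻¹ * (z * (k * a₂ * k⁻¹)) * k := by group
          _ = k⁻¹ * ((k * a₂ * k⁻¹) * z) * k := by rw [h3]
          _ = a₂ * (k⁻¹ * z * k) := by group
      have hz'S : k⁻¹ * z * k ∈ S := by
        have horth : B ((k⁻¹ * z * k) (Φ.e 1)) (Φ.e 0) = 0 := by
          have h3 : a₂ ((k⁻¹ * z * k) (Φ.e 1)) = -((k⁻¹ * z * k) (Φ.e 1)) := by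
            rw [← LinearEquiv.mul_apply, ← hz'a₂, LinearEquiv.mul_apply, ha₂e1, map_neg]
          have h5 := hKU ha₂M ((k⁻¹ * z * k) (Φ.e 1)) (Φ.e 0)
          rw [h3, ha₂e0, map_neg, LinearMap.neg_apply] at h5
          have : (2 : F) * B ((k⁻¹ * z * k) (Φ.e 1)) (Φ.e 0) = 0 := by linear_combination -h5
          exact (mul_eq_zero.mp this).resolve_left h2
        exact ts2' hz'M (Φ.he 1) (Φ.e_ne 1) (Φ.ee 1 1)
          (ts1' hz'M (Φ.he 1) (Φ.ee 1 1) (Φ.he 0) (Φ.e_ne 0) (Φ.ee 0 0) horth)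
      have hz'2 : (k⁻¹ * z * k) * (k⁻¹ * z * k) = 1 := by
        calc (k⁻¹ * z * k) * (k⁻¹ * z * k) = k⁻¹ * (z * z) * k := by group
          _ = 1 := by rw [hz2]; group
      have hzr := rat_of_invol R hσ hB hn S hS hsq hzS hz2
      have hz'r := rat_of_invol R hσ hB hn S hS hsq hz'S hz'2
      apply final z hzM hz2 hzS hz'S
      · obtain ⟨u₁, hu₁, u₂, hu₂, hne, hind⟩ := exists_indep_of_rk R 1 z hr1
        rw [one_smul] at hne
        rw [one_smul, one_smul] at hind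
        have hx₁ : z u₁ - u₁ ∈ V₀ := V₀.sub_mem (hzr u₁ hu₁) hu₁
        have hx₂ : z u₂ - u₂ ∈ V₀ := V₀.sub_mem (hzr u₂ hu₂) hu₂
        obtain ⟨α, hα, β, hβ, hne', hiso⟩ := R.exists_iso_rat hσ hB hx₁ hx₂ hne hind
        have e : z (α • u₁ + β • u₂) - (α • u₁ + β • u₂) =
            α • (z u₁ - u₁) + β • (z u₂ - u₂) := by
          rw [map_add, map_smul, map_smul]
          module
        refine ⟨α • u₁ + β • u₂, V₀.add_mem (R.smul_mem hα hu₁) (R.smul_mem hβ hu₂), ?_, ?_⟩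
        · rw [e]; exact hne'
        · rw [e]; exact hiso
      · have hr2' : 2 ≤ rk (-1) (k⁻¹ * z * k) := by
          have e1 : k⁻¹ * z * k = k⁻¹ * z * (k⁻¹)⁻¹ := by rw [inv_inv]
          rw [e1, rk_conj]
          exact hr2
        obtain ⟨u₁, hu₁, u₂, hu₂, hne, hind⟩ := exists_indep_of_rk R (-1) (k⁻¹ * z * k) hr2'
        have e0 : ∀ u : V, (k⁻¹ * z * k) u - (-1 : F) • u = (k⁻¹ * z * k) u + u := by
          intro u
          rw [neg_one_smul, sub_neg_eq_add]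
        rw [e0] at hne
        rw [e0, e0] at hind
        have hx₁ : (k⁻¹ * z * k) u₁ + u₁ ∈ V₀ := V₀.add_mem (hz'r u₁ hu₁) hu₁
        have hx₂ : (k⁻¹ * z * k) u₂ + u₂ ∈ V₀ := V₀.add_mem (hz'r u₂ hu₂) hu₂
        obtain ⟨α, hα, β, hβ, hne', hiso⟩ := R.exists_iso_rat hσ hB hx₁ hx₂ hne hind
        have e : (k⁻¹ * z * k) (α • u₁ + β • u₂) + (α • u₁ + β • u₂) =
            α • ((k⁻¹ * z * k) u₁ + u₁) + β • ((k⁻¹ * z * k) u₂ + u₂) := by
          rw [map_add, map_smul, map_smul]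
          module
        refine ⟨α • u₁ + β • u₂, V₀.add_mem (R.smul_mem hα hu₁) (R.smul_mem hβ hu₂), ?_, ?_⟩
        · rw [e]; exact hne'
        · rw [e]; exact hiso

end Final

end Cfsg.Agent.Lib.Helper98_UFInv
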