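import Mathlib
import Cfsg.Agent.Lib.Helper98_UFInv

set_option autoImplicit false
set_option linter.style.haveILetI false
set_option linter.unusedSectionVars false
set_option linter.unusedSimpArgs false
set_option linter.unusedVariables false

/-!
The stabiliser of a unitary rational structure over a subfield of odd prime degree is a maximal
subgroup of the special unitary group.
-/

namespace Cfsg.Agent.Lib.Helper98_UFMax

open Module Cfsg.Agent.Lib.Helper94_Symp Cfsg.Agent.Lib.Helper94_Herm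
  Cfsg.Agent.Lib.Helper94_HermWitt Cfsg.Agent.Lib.Helper94_HermTrans
  Cfsg.Agent.Lib.Helper94_HermIrr Cfsg.Agent.Lib.Helper98_UFBase Cfsg.Agent.Lib.Helper98_UFRoot
  Cfsg.Agent.Lib.Helper98_UFDich Cfsg.Agent.Lib.Helper98_UFTS Cfsg.Agent.Lib.Helper98_UFInv

/-- the degree of `F` over `F₀` -/
lemma finrank_eq {F : Type*} [Field F] [Fintype F] (F₀ : Subfield F) (r : ℕ)
    (hcard : Fintype.card F = Nat.card F₀ ^ r) : Module.finrank F₀ F = r := by
  classical
  letI : Fintype F₀ := Fintype.ofFinite F₀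
  have h1 := Module.card_eq_pow_finrank (K := F₀) (V := F)
  rw [hcard, Nat.card_eq_fintype_card] at h1
  have h2 : 2 ≤ Fintype.card F₀ := Fintype.one_lt_card
  exact (Nat.pow_right_injective h2 h1).symm

/-- square roots of elements of `F₀` lie in `F₀` when the degree is an odd prime -/
lemma sq_mem {F : Type*} [Field F] (F₀ : Subfield F)
    (hp : (Module.finrank F₀ F).Prime) (h2 : Module.finrank F₀ F ≠ 2) (ν : F)
    (h : ν * ν ∈ F₀) : ν ∈ F₀ := by
  classical
  haveI := Subalgebra.isSimpleOrder_of_finrank_prime F₀ F hp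
  let S : Subalgebra F₀ F :=
    { carrier := {x | ∃ a b : F, a ∈ F₀ ∧ b ∈ F₀ ∧ x = a + b * ν}
      mul_mem' := by
        rintro x y ⟨a, b, ha, hb, rfl⟩ ⟨a', b', ha', hb', rfl⟩
        refine ⟨a * a' + b * b' * (ν * ν), a * b' + a' * b,
          F₀.add_mem (F₀.mul_mem ha ha') (F₀.mul_mem (F₀.mul_mem hb hb') h),
          F₀.add_mem (F₀.mul_mem ha hb') (F₀.mul_mem ha' hb), ?_⟩
        ring
      add_mem' := by
        rintro x y ⟨a, b, ha, hb, rfl⟩ ⟨a', b', ha', hb', rfl⟩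
        exact ⟨a + a', b + b', F₀.add_mem ha ha', F₀.add_mem hb hb', by ring⟩
      algebraMap_mem' := fun r => ⟨r, 0, r.2, F₀.zero_mem, by simp; rfl⟩ }
  have hνS : ν ∈ S := ⟨0, 1, F₀.zero_mem, F₀.one_mem, by ring⟩
  rcases eq_bot_or_eq_top S with hb | ht
  · rw [hb, Algebra.mem_bot] at hνS
    obtain ⟨r, hr⟩ := hνS
    rw [← hr]
    exact r.2
  · exfalso
    have hspan : Submodule.span F₀ (({1, ν} : Finset F) : Set F) = ⊤ := by
      rw [Submodule.eq_top_iff']
      intro x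
      have hx : x ∈ S := by rw [ht]; exact Algebra.mem_top
      obtain ⟨a, b, ha, hb, rfl⟩ := hx
      apply Submodule.add_mem
      · have : a = (⟨a, ha⟩ : F₀) • (1 : F) := by
          rw [Subfield.smul_def, smul_eq_mul, mul_one]
        rw [this]
        exact Submodule.smul_mem _ _ (Submodule.subset_span (by simp))
      · have : b * ν = (⟨b, hb⟩ : F₀) • ν := by
          rw [Subfield.smul_def, smul_eq_mul]
        rw [this]
        exact Submodule.smul_mem _ _ (Submodule.subset_span (by simp))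
    have h3 := finrank_span_finset_le_card (R := F₀) ({1, ν} : Finset F)
    unfold Set.finrank at h3
    rw [hspan, finrank_top] at h3
    have h4 : ({1, ν} : Finset F).card ≤ 2 := Finset.card_le_two
    have h5 := hp.two_le
    omega

variable {F V : Type*} [Field F] [AddCommGroup V] [Module F V]
variable {σ : F →+* F} {B : V →ₗ[F] V →ₛₗ[σ] F} {V₀ : AddSubgroup V} {F₀ : Subfield F} {n : ℕ}

/-- a skew element outside a proper subfield -/
lemma exists_skew_not_mem (R : UForm B V₀ F₀ n) [Finite F] (hσ : Invol σ)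
    (hne : ∃ x : F, x ∉ F₀) : ∃ c : F, σ c = -c ∧ c ∉ F₀ := by
  obtain ⟨c₀, hc₀F, hc₀0, hc₀⟩ := exists_skew_rat R hσ
  obtain ⟨θ, hθF, hθ⟩ := R.sigma_ne
  obtain ⟨x, hx⟩ := hne
  obtain ⟨r, s, hr, hs, hxrs⟩ := decomp hσ hθ x
  have hκ : ∃ κ : F, σ κ = κ ∧ κ ∉ F₀ := by
    by_cases hrF : r ∈ F₀
    · by_cases hsF : s ∈ F₀
      · exfalso
        apply hx
        rw [hxrs]
        exact F₀.add_mem hrF (F₀.mul_mem hsF hθF)
      · exact ⟨s, hs, hsF⟩
    · exact ⟨r, hr, hrF⟩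
  obtain ⟨κ, hκ, hκF⟩ := hκ
  refine ⟨c₀ * κ, by rw [map_mul, hc₀, hκ, neg_mul], ?_⟩
  intro h
  apply hκF
  have : κ = c₀⁻¹ * (c₀ * κ) := by field_simp
  rw [this]
  exact F₀.mul_mem (F₀.inv_mem hc₀F) h

/-- **Maximality of the stabiliser of a unitary rational structure.** -/
theorem maximal_usub (R : UForm B V₀ F₀ n) [Finite F] [FiniteDimensional F V] (hσ : Invol σ)
    (hB : IsHerm B) (hN : NondegOn B ⊤) (hn : 8 ≤ n)
    (K0 : Subgroup (V ≃ₗ[F] V)) (hK0 : ∀ g, g ∈ K0 ↔ LinearEquiv.det g = 1)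
    (hgen : uG B ⊓ K0 ≤ tvGroup B ⊤)
    (hp : (finrank F₀ F).Prime) (h2 : finrank F₀ F ≠ 2)
    (S : Subgroup (V ≃ₗ[F] V))
    (hS : ∀ g, g ∈ S ↔ ∃ μ : F, μ ≠ 0 ∧ ∀ v ∈ V₀, ∃ w ∈ V₀, g v = μ • w) :
    (S ⊓ (uG B ⊓ K0) < uG B ⊓ K0) ∧
      ∀ M : Subgroup (V ≃ₗ[F] V), S ⊓ (uG B ⊓ K0) ≤ M → M ≤ uG B ⊓ K0 →
        M = S ⊓ (uG B ⊓ K0) ∨ M = uG B ⊓ K0 := by
  have hRTH : RT B V₀ F₀ ≤ S ⊓ (uG B ⊓ K0) := RT_le_H R hB K0 hK0 S hS
  have htvG : tvGroup B ⊤ ≤ uG B ⊓ K0 := by
    unfold tvGroup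
    rw [Subgroup.closure_le]
    rintro g ⟨a, -, c, haa, hc, rfl⟩
    exact ⟨utv_mem_uG hB a hc, (hK0 _).mpr (utv_det a c)⟩
  constructor
  · refine lt_of_le_of_ne inf_le_right ?_
    intro heq
    obtain ⟨Φ⟩ := exists_frame R hσ hB hN (by omega)
    have hne : ∃ x : F, x ∉ F₀ := by
      by_contra hcon
      push Not at hcon
      have hle : finrank F₀ F ≤ 1 := by
        have h3 := finrank_span_finset_le_card (R := F₀) ({1} : Finset F)
        unfold Set.finrank at h3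
        have hspan : Submodule.span F₀ (({1} : Finset F) : Set F) = ⊤ := by
          rw [Submodule.eq_top_iff']
          intro x
          have : x = (⟨x, hcon x⟩ : F₀) • (1 : F) := by
            rw [Subfield.smul_def, smul_eq_mul, mul_one]
          rw [this]
          exact Submodule.smul_mem _ _ (Submodule.subset_span (by simp))
        rw [hspan, finrank_top] at h3
        simpa using h3
      have := hp.two_le
      omega
    obtain ⟨c, hc, hcF⟩ := exists_skew_not_mem R hσ hne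
    have hmem : utv B (Φ.e 0) c ∈ uG B ⊓ K0 :=
      ⟨utv_mem_uG hB _ hc, (hK0 _).mpr (utv_det _ c)⟩
    rw [← heq] at hmem
    obtain ⟨μ, hμ0, hμ⟩ := (hS _).mp hmem.1
    have hee : B (Φ.e 0) (Φ.e 0) = 0 := Φ.ee 0 0
    obtain ⟨w, hw, hwe⟩ := hμ _ (Φ.he 0)
    rw [utv_apply B hee, hee, mul_zero, zero_smul, add_zero] at hwe
    have he0 : Φ.e 0 ≠ 0 := Φ.e_ne 0
    have hw0 : w ≠ 0 := by
      rintro rfl
      rw [smul_zero] at hwe
      exact he0 hwe
    have hμinv : μ⁻¹ ∈ F₀ := by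
      apply R.rat_of_smul (Φ.he 0) he0
      have : μ⁻¹ • Φ.e 0 = w := by
        rw [hwe, smul_smul, inv_mul_cancel₀ hμ0, one_smul]
      rw [this]
      exact hw
    have hμF : μ ∈ F₀ := by
      have := F₀.inv_mem hμinv
      rwa [inv_inv] at this
    obtain ⟨w', hw', hwf⟩ := hμ _ (Φ.hf 0)
    rw [utv_apply B hee, Φ.fe hB] at hwf
    simp only [if_true, mul_one] at hwf
    have h3 : c • Φ.e 0 ∈ V₀ := by
      have : c • Φ.e 0 = μ • w' - Φ.f 0 := by rw [← hwf]; abel
      rw [this]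
      exact V₀.sub_mem (R.smul_mem hμF hw') (Φ.hf 0)
    exact hcF (R.rat_of_smul (Φ.he 0) he0 h3)
  · intro M hHM hMG
    have hRT : RT B V₀ F₀ ≤ M := le_trans hRTH hHM
    have hKU : M ≤ uG B := fun g hg => (hMG hg).1
    rcases dichotomy R hσ hB hN (by omega) M hRT hKU hp with htv | ⟨hAr, hUr⟩
    · right
      exact le_antisymm hMG (le_trans hgen htv)
    · left
      refine le_antisymm ?_ hHM
      have hle := le_S R hσ hB hN hn K0 hK0 S hS (sq_mem F₀ hp h2) M hHM hMG hAr hUr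
      exact le_inf hle hMG

end Cfsg.Agent.Lib.Helper98_UFMax
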