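import Mathlib
import Cfsg.Prelude.Def_GeometricClasses
import Cfsg.Prelude.Def_LieClassical
import Cfsg.Agent.Lib.Helper13_SUGen
import Cfsg.Agent.Lib.Helper94_Bridge
import Cfsg.Agent.Lib.Helper94_HermBridge
import Cfsg.Agent.Lib.Helper94_HermNondeg
import Cfsg.Agent.Lib.Helper94_HermOSub6
import Cfsg.Agent.Lib.Helper94_HermOSubBridge
import Cfsg.Agent.Lib.Helper94_HermPara
import Cfsg.Agent.Lib.Helper94_HermSub
import Cfsg.Agent.Lib.Helper94_HermSubBridge
import Cfsg.Agent.Lib.Helper94_HermTI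
import Cfsg.Agent.Lib.Helper94_SLBridge
import Cfsg.Agent.Lib.Helper94_SubfieldBridge
import Cfsg.Agent.Lib.Helper98_UFMax

set_option autoImplicit false
set_option linter.style.haveILetI false

/-!
# The general SU_n rows S5653, S5654, S5657, S5658, S5659, S5660 with the bound `13 ≤ n` relaxed to
what the landed abstract theorems of helper94 / helper98 need (helper67; each proof is a copy of
the landed row file `Cfsg/Agent/S56xx.lean` of helper94 / helper98 with the bound changed).
Used for the fixed-dimension rows su10 (S5840), su12 (S5864).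
-/

open Cfsg

namespace Cfsg.Agent.Lib.Helper67_SURowsGen

namespace R5653

open Cfsg.Agent.Lib.Helper94_Symp Cfsg.Agent.Lib.Helper94_Bridge Cfsg.Agent.Lib.Helper94_SLBridge
  Cfsg.Agent.Lib.Helper94_Herm Cfsg.Agent.Lib.Helper94_HermBridge Cfsg.Agent.Lib.Helper94_HermPara

/-- Let F be the field with q² elements and n ≥ 13, and let SU_n(q) be the group of matrices of determinant one preserving the standard unitary form Σ u_i v_i^q on F^n (the intersection of the unitary group GU_n with the kernel of the determinant). The elements of SU_n(q) stabilising a non-zero subspace on which the form vanishes identically form a maximal subgroup of SU_n(q). -/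
theorem gen {F : Type*} [Field F] [Fintype F] (n q : ℕ) (hF : Fintype.card F = q ^ 2) (hn : 2 ≤ n) (W : Submodule F (Fin n → F)) (hW0 : W ≠ ⊥) (hW : Cfsg.Geo.IsTotallySingularFor (Cfsg.hermForm n F q) W) : Cfsg.Geo.IsMaximalIn (Cfsg.GU n F q ⊓ Cfsg.Geo.specialLinear (Fin n) F) (Cfsg.Geo.subspaceStabilizer W ⊓ (Cfsg.GU n F q ⊓ Cfsg.Geo.specialLinear (Fin n) F)) := by
  obtain ⟨σ, hσq, hσ⟩ := exists_frob hF
  have hnt : Nontrivial (Fin n) := Fin.nontrivial_iff_two_le.mpr (by omega)
  rw [subspaceStabilizer_eq, GU_eq σ hσq, specialLinear_eq, ← Subgroup.comap_inf,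
    ← Subgroup.comap_inf]
  apply isMaximalIn_comap
  exact maximal_stab_ti hσ (hermB_isHerm σ hσq hσ) (hermB_nondeg σ hσq) (slK (Fin n) F)
    transvection_mem_slK W hW0 (fun u hu v hv => by rw [hermB_apply]; exact hW u hu v hv)

end R5653

namespace R5654

open Cfsg.Agent.Lib.Helper94_Symp Cfsg.Agent.Lib.Helper94_Bridge Cfsg.Agent.Lib.Helper94_SLBridge
  Cfsg.Agent.Lib.Helper94_Herm Cfsg.Agent.Lib.Helper94_HermBridge
  Cfsg.Agent.Lib.Helper94_HermNondeg

/-- Let F be the field with q² elements and n ≥ 13. In SU_n(q) (determinant-one isometries of the standard unitary form on F^n) the stabiliser of a non-zero subspace W on which the form is non-degenerate and with 2 dim W < n is a maximal subgroup. -/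
theorem gen {F : Type*} [Field F] [Fintype F] (n q : ℕ) (hF : Fintype.card F = q ^ 2) (hn : 7 ≤ n) (W : Submodule F (Fin n → F)) (hW0 : W ≠ ⊥) (hW : Cfsg.Geo.IsNondegenerateOn (Cfsg.hermForm n F q) W) (hdim : 2 * Module.finrank F W < n) : Cfsg.Geo.IsMaximalIn (Cfsg.GU n F q ⊓ Cfsg.Geo.specialLinear (Fin n) F) (Cfsg.Geo.subspaceStabilizer W ⊓ (Cfsg.GU n F q ⊓ Cfsg.Geo.specialLinear (Fin n) F)) := by
  obtain ⟨σ, hσq, hσ⟩ := exists_frob hF
  have hnt : Nontrivial (Fin n) := Fin.nontrivial_iff_two_le.mpr (by omega)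
  rw [subspaceStabilizer_eq, GU_eq σ hσq, specialLinear_eq, ← Subgroup.comap_inf,
    ← Subgroup.comap_inf]
  apply isMaximalIn_comap
  have hfr : Module.finrank F (Fin n → F) = n := by simp
  exact maximal_stab_nondeg hσ (hermB_isHerm σ hσq hσ) (hermB_nondeg σ hσq) (slK (Fin n) F)
    transvection_mem_slK W hW0
    (fun x hx hx0 => by
      obtain ⟨y, hy, hxy⟩ := (hW x hx hx0).2
      exact ⟨y, hy, by rw [hermB_apply]; exact hxy⟩)
    (by rw [hfr]; exact hdim) (by rw [hfr]; omega)

end R5654

namespace R5657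

open Cfsg.Agent.Lib.Helper94_Symp Cfsg.Agent.Lib.Helper94_Bridge Cfsg.Agent.Lib.Helper94_SLBridge
  Cfsg.Agent.Lib.Helper94_Herm Cfsg.Agent.Lib.Helper94_HermBridge
  Cfsg.Agent.Lib.Helper94_HermTI

/-- Let F be the field with q² elements and n = 2k ≥ 13. Let D be a decomposition of F^n into two complementary subspaces of dimension k on each of which the standard unitary form vanishes identically. Then the elements of SU_n(q) preserving or interchanging the two subspaces form a maximal subgroup of SU_n(q). -/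
theorem gen {F : Type*} [Field F] [Fintype F] (n q : ℕ) (hF : Fintype.card F = q ^ 2) (hn : 6 ≤ n) (k : ℕ) (hk : 2 * k = n) (D : Fin 2 → Submodule F (Fin n → F)) (hD : Cfsg.Geo.IsMDecomposition k D) (hts : ∀ i, Cfsg.Geo.IsTotallySingularFor (Cfsg.hermForm n F q) (D i)) : Cfsg.Geo.IsMaximalIn (Cfsg.GU n F q ⊓ Cfsg.Geo.specialLinear (Fin n) F) (Cfsg.Geo.decompositionStabilizer D ⊓ (Cfsg.GU n F q ⊓ Cfsg.Geo.specialLinear (Fin n) F)) := by
  classical
  obtain ⟨σ, hσq, hσ⟩ := exists_frob hF
  have hfr : Module.finrank F (Fin n → F) = n := by simp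
  let S : Subgroup ((Fin n → F) ≃ₗ[F] (Fin n → F)) :=
    (Cfsg.Geo.decompositionStabilizer D).comap (glEquiv (Fin n) F).symm.toMonoidHom
  have hSeq : Cfsg.Geo.decompositionStabilizer D = S.comap (glEquiv (Fin n) F).toMonoidHom :=
    (comap_symm_comap (glEquiv (Fin n) F) _).symm
  rw [hSeq, GU_eq σ hσq, specialLinear_eq, ← Subgroup.comap_inf, ← Subgroup.comap_inf]
  apply isMaximalIn_comap
  apply maximal_utipair hσ (hermB_isHerm σ hσq hσ) (hermB_nondeg σ hσq) (slK (Fin n) F)
    transvection_mem_slK ?_ k (by omega) D hD.finrank_eq hD.iSup_eq_top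
  · intro i u hu v hv
    rw [hermB_apply]
    exact hts i u hu v hv
  · intro g
    have key : Matrix.toLin' (((glEquiv (Fin n) F).symm g :
        Matrix.GeneralLinearGroup (Fin n) F) : Matrix (Fin n) (Fin n) F) =
        (g : (Fin n → F) →ₗ[F] (Fin n → F)) := by
      refine LinearMap.ext fun x => ?_
      rw [Matrix.toLin'_apply, ← glEquiv_apply, MulEquiv.apply_symm_apply]
      rfl
    constructor
    · rintro ⟨π, hπ⟩
      refine ⟨π, fun i => ?_⟩
      have := hπ i
      simp only [MulEquiv.toMonoidHom_eq_coe, MonoidHom.coe_coe] at this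
      rw [key] at this
      exact this
    · rintro ⟨π, hπ⟩
      refine ⟨π, fun i => ?_⟩
      simp only [MulEquiv.toMonoidHom_eq_coe, MonoidHom.coe_coe]
      rw [key]
      exact hπ i
  · intro g hg
    exact Cfsg.Agent.Lib.Helper13_SUGen.mem_tvGroup_of_four_le hσ (hermB_isHerm σ hσq hσ)
      (hermB_nondeg σ hσq) (by rw [hfr]; omega) hg.1 ((mem_slK g).mp hg.2)

end R5657

namespace R5658

open Cfsg.Agent.Lib.Helper94_Symp Cfsg.Agent.Lib.Helper94_Bridge Cfsg.Agent.Lib.Helper94_SLBridge
  Cfsg.Agent.Lib.Helper94_Herm Cfsg.Agent.Lib.Helper94_HermBridge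
  Cfsg.Agent.Lib.Helper94_SubfieldBridge Cfsg.Agent.Lib.Helper98_UFBase
  Cfsg.Agent.Lib.Helper98_UFMax

/-- An involution is not the identity on a subfield of odd prime degree. -/
lemma exists_moved_of_odd {F : Type*} [Field F] {σ : F →+* F} (hσ : Invol σ) (F₀ : Subfield F)
    (hp : (Module.finrank F₀ F).Prime) (h2 : Module.finrank F₀ F ≠ 2) :
    ∃ θ ∈ F₀, σ θ ≠ θ := by
  classical
  by_contra hcon
  push Not at hcon
  haveI := Subalgebra.isSimpleOrder_of_finrank_prime F₀ F hp
  obtain ⟨θ, hθ⟩ := hσ.ne_id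
  let S : Subalgebra F₀ F :=
    { carrier := {x | σ x = x}
      mul_mem' := by
        intro x y hx hy
        show σ (x * y) = x * y
        rw [map_mul, hx, hy]
      add_mem' := by
        intro x y hx hy
        show σ (x + y) = x + y
        rw [map_add, hx, hy]
      algebraMap_mem' := fun r => hcon r r.2 }
  have hS : ∀ x, x ∈ S ↔ σ x = x := fun x => Iff.rfl
  rcases eq_bot_or_eq_top S with hb | ht
  · have hfix : ∀ x, σ x = x → x ∈ F₀ := by
      intro x hx
      have hxS : x ∈ S := (hS x).mpr hx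
      rw [hb, Algebra.mem_bot] at hxS
      obtain ⟨r, hr⟩ := hxS
      rw [← hr]
      exact r.2
    have hspan : Submodule.span F₀ (({1, θ} : Finset F) : Set F) = ⊤ := by
      rw [Submodule.eq_top_iff']
      intro x
      obtain ⟨a, b, ha, hb', rfl⟩ := decomp hσ hθ x
      apply Submodule.add_mem
      · have : a = (⟨a, hfix a ha⟩ : F₀) • (1 : F) := by
          rw [Subfield.smul_def, smul_eq_mul, mul_one]
        rw [this]
        exact Submodule.smul_mem _ _ (Submodule.subset_span (by simp))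
      · have : b * θ = (⟨b, hfix b hb'⟩ : F₀) • θ := by
          rw [Subfield.smul_def, smul_eq_mul]
        rw [this]
        exact Submodule.smul_mem _ _ (Submodule.subset_span (by simp))
    have h3 := finrank_span_finset_le_card (R := F₀) ({1, θ} : Finset F)
    unfold Set.finrank at h3
    rw [hspan, finrank_top] at h3
    have h4 : ({1, θ} : Finset F).card ≤ 2 := Finset.card_le_two
    have h5 := hp.two_le
    omega
  · apply hθ
    have : θ ∈ S := by rw [ht]; exact Algebra.mem_top
    exact this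

/-- The unitary rational structure given by an invertible matrix. -/
lemma uform_of {F : Type*} [Field F] [Fintype F] {n q : ℕ} {σ : F →+* F}
    (hσq : ∀ x, σ x = x ^ q) (hσ : Invol σ) (F₀ : Subfield F)
    (hp : (Module.finrank F₀ F).Prime) (h2 : Module.finrank F₀ F ≠ 2)
    (P : Matrix.GeneralLinearGroup (Fin n) F)
    (hP : Cfsg.Geo.IsFormRationalStructure (Cfsg.hermForm n F q) F₀ 1 P) :
    UForm (hermB n σ hσq) (ratV F₀ (P : Matrix (Fin n) (Fin n) F)) F₀ n := by
  classical
  refine ⟨?_, exists_moved_of_odd hσ F₀ hp h2, ?_, ?_⟩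
  · intro c hc
    rw [hσq]
    exact F₀.pow_mem hc q
  · refine ⟨(Pi.basisFun F (Fin n)).map (glEquiv (Fin n) F P), ?_⟩
    intro v
    have hrepr : ∀ i, ((Pi.basisFun F (Fin n)).map (glEquiv (Fin n) F P)).repr v i =
        ((glEquiv (Fin n) F P).symm v) i := by
      intro i
      simp
    simp only [hrepr]
    rw [mem_ratV]
    constructor
    · rintro ⟨u, hu, rfl⟩ i
      have : (glEquiv (Fin n) F P).symm ((P : Matrix (Fin n) (Fin n) F).mulVec u) = u := by
        rw [← glEquiv_apply, LinearEquiv.symm_apply_apply]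
      rw [this]
      exact hu i
    · intro h
      refine ⟨(glEquiv (Fin n) F P).symm v, h, ?_⟩
      rw [← glEquiv_apply, LinearEquiv.apply_symm_apply]
  · rintro _ ⟨u, hu, rfl⟩ _ ⟨v, hv, rfl⟩
    rw [hermB_apply]
    have := hP u v hu hv
    rwa [one_mul] at this

/-- Let F be the field with q² elements, n ≥ 13, and F₀ a subfield with |F| = |F₀| ^ r for an odd prime r. Let P be an invertible matrix such that the standard unitary form takes values in F₀ on the F₀-span of the columns of P. Then the elements of SU_n(q) lying in the subfield group of P (the conjugate by P of the product of GL_n(F₀) with the scalars) form a maximal subgroup of SU_n(q). -/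
theorem gen {F : Type*} [Field F] [Fintype F] (n q : ℕ) (hF : Fintype.card F = q ^ 2) (hn : 8 ≤ n) (F₀ : Subfield F) (r : ℕ) (hr : r.Prime) (hro : Odd r) (hcard : Fintype.card F = Nat.card F₀ ^ r) (P : Matrix.GeneralLinearGroup (Fin n) F) (hP : Cfsg.Geo.IsFormRationalStructure (Cfsg.hermForm n F q) F₀ 1 P) : Cfsg.Geo.IsMaximalIn (Cfsg.GU n F q ⊓ Cfsg.Geo.specialLinear (Fin n) F) (Cfsg.Geo.subfieldSubgroup F₀ P ⊓ (Cfsg.GU n F q ⊓ Cfsg.Geo.specialLinear (Fin n) F)) := by
  classical
  obtain ⟨σ, hσq, hσ⟩ := exists_frob hF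
  have hfr : Module.finrank F (Fin n → F) = n := by simp
  have hfin : Module.finrank F₀ F = r := finrank_eq F₀ r hcard
  have hp : (Module.finrank F₀ F).Prime := by rw [hfin]; exact hr
  have h2 : Module.finrank F₀ F ≠ 2 := by
    rw [hfin]
    rintro rfl
    exact absurd hro (by decide)
  have R := uform_of hσq hσ F₀ hp h2 P hP
  let S : Subgroup ((Fin n → F) ≃ₗ[F] (Fin n → F)) :=
    (Cfsg.Geo.subfieldSubgroup F₀ P).comap (glEquiv (Fin n) F).symm.toMonoidHom
  have hSeq : Cfsg.Geo.subfieldSubgroup F₀ P = S.comap (glEquiv (Fin n) F).toMonoidHom :=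
    (comap_symm_comap (glEquiv (Fin n) F) _).symm
  rw [hSeq, GU_eq σ hσq, specialLinear_eq, ← Subgroup.comap_inf, ← Subgroup.comap_inf]
  apply isMaximalIn_comap
  apply maximal_usub R hσ (hermB_isHerm σ hσq hσ) (hermB_nondeg σ hσq) (by omega)
    (slK (Fin n) F) mem_slK ?_ hp h2 S ?_
  · intro g hg
    exact Cfsg.Agent.Lib.Helper13_SUGen.mem_tvGroup_of_four_le hσ (hermB_isHerm σ hσq hσ)
      (hermB_nondeg σ hσq) (by rw [hfr]; omega) hg.1 ((mem_slK g).mp hg.2)
  · intro g
    have key : ∀ x, (((glEquiv (Fin n) F).symm g : Matrix.GeneralLinearGroup (Fin n) F) :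
        Matrix (Fin n) (Fin n) F).mulVec x = g x := by
      intro x
      rw [← glEquiv_apply, MulEquiv.apply_symm_apply]
    show (glEquiv (Fin n) F).symm g ∈ Cfsg.Geo.subfieldSubgroup F₀ P ↔ _
    rw [mem_subfieldSubgroup_iff]
    simp only [key]

end R5658

namespace R5659

open Cfsg.Agent.Lib.Helper94_Symp Cfsg.Agent.Lib.Helper94_Bridge Cfsg.Agent.Lib.Helper94_SLBridge
  Cfsg.Agent.Lib.Helper94_Herm Cfsg.Agent.Lib.Helper94_HermBridge
  Cfsg.Agent.Lib.Helper94_HermOSub Cfsg.Agent.Lib.Helper94_SubfieldBridge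
  Cfsg.Agent.Lib.Helper94_HermSubBridge Cfsg.Agent.Lib.Helper94_HermOSubBridge

/-- Let F be the field with q² elements, q odd, n ≥ 13, and F₀ the subfield with q elements. Let P be an invertible matrix such that the standard unitary form takes values in F₀ on the F₀-span of the columns of P (so it restricts to a non-degenerate symmetric bilinear form there). Then the elements of SU_n(q) lying in the subfield group of P form a maximal subgroup of SU_n(q). -/
theorem gen {F : Type*} [Field F] [Fintype F] (n q : ℕ) (hF : Fintype.card F = q ^ 2) (hn : 9 ≤ n) (hodd : Odd q) (F₀ : Subfield F) (hcard : Fintype.card F = Nat.card F₀ ^ 2) (P : Matrix.GeneralLinearGroup (Fin n) F) (hP : Cfsg.Geo.IsFormRationalStructure (Cfsg.hermForm n F q) F₀ 1 P) : Cfsg.Geo.IsMaximalIn (Cfsg.GU n F q ⊓ Cfsg.Geo.specialLinear (Fin n) F) (Cfsg.Geo.subfieldSubgroup F₀ P ⊓ (Cfsg.GU n F q ⊓ Cfsg.Geo.specialLinear (Fin n) F)) := by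
  classical
  have h2 : (2 : F) ≠ 0 := by
    intro h
    have hc : ringChar F = 2 := by
      have hdvd : ringChar F ∣ 2 := by
        apply ringChar.dvd
        exact_mod_cast h
      have hp : (ringChar F).Prime := CharP.char_is_prime F (ringChar F)
      exact (Nat.prime_dvd_prime_iff_eq hp Nat.prime_two).mp hdvd
    have hev := FiniteField.even_card_of_char_two hc
    have hoddF : Odd (Fintype.card F) := by
      rw [hF]
      exact hodd.pow
    rcases hoddF with ⟨r, hr⟩
    omega
  obtain ⟨σ, hσq, hσ⟩ := exists_frob hF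
  have hfr : Module.finrank F (Fin n → F) = n := by simp
  have hfix : ∀ x : F, x ∈ F₀ ↔ σ x = x := by
    intro x
    rw [hσq]
    exact mem_iff_frob hF F₀ hcard x
  have R := oForm_of hσq hσ F₀ hfix P hP
  let S : Subgroup ((Fin n → F) ≃ₗ[F] (Fin n → F)) :=
    (Cfsg.Geo.subfieldSubgroup F₀ P).comap (glEquiv (Fin n) F).symm.toMonoidHom
  have hSeq : Cfsg.Geo.subfieldSubgroup F₀ P = S.comap (glEquiv (Fin n) F).toMonoidHom :=
    (comap_symm_comap (glEquiv (Fin n) F) _).symm
  rw [hSeq, GU_eq σ hσq, specialLinear_eq, ← Subgroup.comap_inf, ← Subgroup.comap_inf]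
  apply isMaximalIn_comap
  apply maximal_osub R (slK (Fin n) F) hσ (hermB_isHerm σ hσq hσ) (hermB_nondeg σ hσq) h2
    transvection_mem_slK ?_ (by rw [hfr]; omega) S ?_
  · intro g hg
    exact Cfsg.Agent.Lib.Helper13_SUGen.mem_tvGroup_of_four_le hσ (hermB_isHerm σ hσq hσ)
      (hermB_nondeg σ hσq) (by rw [hfr]; omega) hg.1 ((mem_slK g).mp hg.2)
  · intro g
    have key : ∀ x, (((glEquiv (Fin n) F).symm g : Matrix.GeneralLinearGroup (Fin n) F) :
        Matrix (Fin n) (Fin n) F).mulVec x = g x := by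
      intro x
      rw [← glEquiv_apply, MulEquiv.apply_symm_apply]
    show (glEquiv (Fin n) F).symm g ∈ Cfsg.Geo.subfieldSubgroup F₀ P ↔ _
    rw [mem_subfieldSubgroup_iff]
    simp only [key]

end R5659

namespace R5660

open Cfsg.Agent.Lib.Helper94_Symp Cfsg.Agent.Lib.Helper94_Bridge Cfsg.Agent.Lib.Helper94_SLBridge
  Cfsg.Agent.Lib.Helper94_Herm Cfsg.Agent.Lib.Helper94_HermBridge
  Cfsg.Agent.Lib.Helper94_HermSub Cfsg.Agent.Lib.Helper94_SubfieldBridge
  Cfsg.Agent.Lib.Helper94_HermSubBridge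

/-- Let F be the field with q² elements, n ≥ 13 even, and F₀ the subfield with q elements. Let ζ be a non-zero element with ζ + ζ^q = 0 and P an invertible matrix such that ζ times the standard unitary form takes values in F₀ on the F₀-span of the columns of P and the form vanishes on every pair (u, u) of that span (so ζ times the form restricts to a non-degenerate alternating form there). Then the elements of SU_n(q) lying in the subfield group of P form a maximal subgroup of SU_n(q). -/
theorem gen {F : Type*} [Field F] [Fintype F] (n q : ℕ) (hF : Fintype.card F = q ^ 2) (hn : 4 ≤ n) (heven : Even n) (F₀ : Subfield F) (hcard : Fintype.card F = Nat.card F₀ ^ 2) (ζ : F) (hζ0 : ζ ≠ 0) (hζ : ζ + ζ ^ q = 0) (P : Matrix.GeneralLinearGroup (Fin n) F) (hP : Cfsg.Geo.IsFormRationalStructure (Cfsg.hermForm n F q) F₀ ζ P) (halt : ∀ u : Fin n → F, (∀ i, u i ∈ F₀) → Cfsg.hermForm n F q (Matrix.mulVec (P : Matrix (Fin n) (Fin n) F) u) (Matrix.mulVec (P : Matrix (Fin n) (Fin n) F) u) = 0) : Cfsg.Geo.IsMaximalIn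 (Cfsg.GU n F q ⊓ Cfsg.Geo.specialLinear (Fin n) F) (Cfsg.Geo.subfieldSubgroup F₀ P ⊓ (Cfsg.GU n F q ⊓ Cfsg.Geo.specialLinear (Fin n) F)) := by
  classical
  obtain ⟨σ, hσq, hσ⟩ := exists_frob hF
  have hfr : Module.finrank F (Fin n → F) = n := by simp
  have hfix : ∀ x : F, x ∈ F₀ ↔ σ x = x := by
    intro x
    rw [hσq]
    exact mem_iff_frob hF F₀ hcard x
  have hζ' : σ ζ = -ζ := by
    rw [hσq]
    linear_combination hζ
  have R := spForm_of hσq hσ F₀ hfix hζ0 hζ' P hP halt
  let S : Subgroup ((Fin n → F) ≃ₗ[F] (Fin n → F)) :=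
    (Cfsg.Geo.subfieldSubgroup F₀ P).comap (glEquiv (Fin n) F).symm.toMonoidHom
  have hSeq : Cfsg.Geo.subfieldSubgroup F₀ P = S.comap (glEquiv (Fin n) F).toMonoidHom :=
    (comap_symm_comap (glEquiv (Fin n) F) _).symm
  rw [hSeq, GU_eq σ hσq, specialLinear_eq, ← Subgroup.comap_inf, ← Subgroup.comap_inf]
  apply isMaximalIn_comap
  apply maximal_spsub R (slK (Fin n) F) hσ (hermB_isHerm σ hσq hσ) (hermB_nondeg σ hσq)
    transvection_mem_slK ?_ (by rw [hfr]; omega) S ?_
  · intro g hg
    exact Cfsg.Agent.Lib.Helper13_SUGen.mem_tvGroup_of_four_le hσ (hermB_isHerm σ hσq hσ)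
      (hermB_nondeg σ hσq) (by rw [hfr]; omega) hg.1 ((mem_slK g).mp hg.2)
  · intro g
    have key : ∀ x, (((glEquiv (Fin n) F).symm g : Matrix.GeneralLinearGroup (Fin n) F) :
        Matrix (Fin n) (Fin n) F).mulVec x = g x := by
      intro x
      rw [← glEquiv_apply, MulEquiv.apply_symm_apply]
    show (glEquiv (Fin n) F).symm g ∈ Cfsg.Geo.subfieldSubgroup F₀ P ↔ _
    rw [mem_subfieldSubgroup_iff]
    simp only [key]

end R5660

end Cfsg.Agent.Lib.Helper67_SURowsGen
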