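import Mathlib
import Cfsg.Prelude.Def_GeometricClasses
import Cfsg.Agent.Lib.Helper67_SpAschArith

/-!
helper67: the maximal subgroups of `Sp_12(q)` (row S5868) from the structure theorem for subgroups of the
symplectic group, taken as the hypothesis `SpAschHyp 6 F`.
-/

set_option autoImplicit false

namespace Cfsg.Agent.Lib.Helper67_Sp12

open Matrix Module Cfsg.Geo
open Cfsg.Agent.Lib.Helper67_SpAschMax Cfsg.Agent.Lib.Helper67_SpAschMaxB Cfsg.Agent.Lib.Helper67_SpAschRows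
  Cfsg.Agent.Lib.Helper67_SpAschC3 Cfsg.Agent.Lib.Helper67_SpAschArith

theorem sp12 {F : Type*} [Field F] [Fintype F] (hA : SpAschHyp 6 F) (H : Subgroup (Matrix.GeneralLinearGroup (Fin 6 ⊕ Fin 6) F)) (hH : Cfsg.Geo.IsMaximalIn (Cfsg.spGL 6 F) H) :
    (∃ W : Submodule F (Fin 6 ⊕ Fin 6 → F), W ≠ ⊥ ∧ Cfsg.Geo.IsTotallySingularFor (Cfsg.sympForm 6 F) W ∧ H = Cfsg.Geo.subspaceStabilizer W ⊓ Cfsg.spGL 6 F) ∨
    (∃ W : Submodule F (Fin 6 ⊕ Fin 6 → F), W ≠ ⊥ ∧ Cfsg.Geo.IsNondegenerateOn (Cfsg.sympForm 6 F) W ∧ Module.finrank F W < 6 ∧ H = Cfsg.Geo.subspaceStabilizer W ⊓ Cfsg.spGL 6 F) ∨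
    (3 ≤ Fintype.card F ∧ ∃ D : Fin 6 → Submodule F (Fin 6 ⊕ Fin 6 → F), Cfsg.Geo.IsNondegenerateMDecomposition (Cfsg.sympForm 6 F) 2 D ∧ H = Cfsg.Geo.decompositionStabilizer D ⊓ Cfsg.spGL 6 F) ∨
    (∃ D : Fin 3 → Submodule F (Fin 6 ⊕ Fin 6 → F), Cfsg.Geo.IsNondegenerateMDecomposition (Cfsg.sympForm 6 F) 4 D ∧ H = Cfsg.Geo.decompositionStabilizer D ⊓ Cfsg.spGL 6 F) ∨
    (∃ D : Fin 2 → Submodule F (Fin 6 ⊕ Fin 6 → F), Cfsg.Geo.IsNondegenerateMDecomposition (Cfsg.sympForm 6 F) 6 D ∧ H = Cfsg.Geo.decompositionStabilizer D ⊓ Cfsg.spGL 6 F) ∨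
    (Odd (Fintype.card F) ∧ ∃ D : Fin 2 → Submodule F (Fin 6 ⊕ Fin 6 → F), Cfsg.Geo.IsMDecomposition 6 D ∧ (∀ i, Cfsg.Geo.IsTotallySingularFor (Cfsg.sympForm 6 F) (D i)) ∧ H = Cfsg.Geo.decompositionStabilizer D ⊓ Cfsg.spGL 6 F) ∨
    (∃ K : Subalgebra F (Matrix (Fin 6 ⊕ Fin 6) (Fin 6 ⊕ Fin 6) F), Cfsg.Geo.IsFieldSubalgebra 2 K ∧ Cfsg.Geo.IsSelfAdjointFor (Cfsg.sympForm 6 F) K ∧ (∀ k ∈ K, ∀ v : (Fin 6 ⊕ Fin 6 → F), (Cfsg.sympForm 6 F) (Matrix.mulVec k v) v = 0) ∧ H = Cfsg.Geo.subalgebraNormalizer K ⊓ Cfsg.spGL 6 F) ∨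
    (∃ K : Subalgebra F (Matrix (Fin 6 ⊕ Fin 6) (Fin 6 ⊕ Fin 6) F), Cfsg.Geo.IsFieldSubalgebra 3 K ∧ Cfsg.Geo.IsSelfAdjointFor (Cfsg.sympForm 6 F) K ∧ (∀ k ∈ K, ∀ v : (Fin 6 ⊕ Fin 6 → F), (Cfsg.sympForm 6 F) (Matrix.mulVec k v) v = 0) ∧ H = Cfsg.Geo.subalgebraNormalizer K ⊓ Cfsg.spGL 6 F) ∨
    (Odd (Fintype.card F) ∧ ∃ K : Subalgebra F (Matrix (Fin 6 ⊕ Fin 6) (Fin 6 ⊕ Fin 6) F), Cfsg.Geo.IsFieldSubalgebra 2 K ∧ Cfsg.Geo.IsAdjointClosedFor (Cfsg.sympForm 6 F) K ∧ ¬ Cfsg.Geo.IsSelfAdjointFor (Cfsg.sympForm 6 F) K ∧ H = Cfsg.Geo.subalgebraNormalizer K ⊓ Cfsg.spGL 6 F) ∨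
    (Odd (Fintype.card F) ∧ ∃ (e : (Fin 6 ⊕ Fin 6) ≃ Fin 2 × Fin 6) (P : Matrix.GeneralLinearGroup (Fin 6 ⊕ Fin 6) F) (f₁ : (Fin 2 → F) → (Fin 2 → F) → F) (f₂ : (Fin 6 → F) → (Fin 6 → F) → F), Cfsg.Geo.IsSymplecticForm f₁ ∧ Cfsg.Geo.IsSymmetricForm f₂ ∧ Cfsg.Geo.IsTensorFormStructure id (Cfsg.sympForm 6 F) f₁ f₂ e P ∧ H = Cfsg.Geo.tensorProductSubgroup 2 6 e P ⊓ Cfsg.spGL 6 F) ∨
    (Odd (Fintype.card F) ∧ 5 ≤ Fintype.card F ∧ ∃ (e : (Fin 6 ⊕ Fin 6) ≃ Fin 4 × Fin 3) (P : Matrix.GeneralLinearGroup (Fin 6 ⊕ Fin 6) F) (f₁ : (Fin 4 → F) → (Fin 4 → F) → F) (f₂ : (Fin 3 → F) → (Fin 3 → F) → F), Cfsg.Geo.IsSymplecticForm f₁ ∧ Cfsg.Geo.IsSymmetricForm f₂ ∧ Cfsg.Geo.IsTensorFormStructure id (Cfsg.sympForm 6 F) f₁ f₂ e P ∧ H = Cfsg.Geo.tensorProductSubgroup 4 3 e P ⊓ Cfsg.spGL 6 F) ∨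
    (∃ (F₀ : Subfield F) (r : ℕ) (P : Matrix.GeneralLinearGroup (Fin 6 ⊕ Fin 6) F) (ζ : F), r.Prime ∧ Fintype.card F = Nat.card F₀ ^ r ∧ ζ ≠ 0 ∧ Cfsg.Geo.IsFormRationalStructure (Cfsg.sympForm 6 F) F₀ ζ P ∧ H = Cfsg.Geo.subfieldSubgroup F₀ P ⊓ Cfsg.spGL 6 F) ∨
    (¬ Odd (Fintype.card F) ∧ ∃ Q : (Fin 6 ⊕ Fin 6 → F) → F, Cfsg.Geo.IsNondegenerateQuadraticForm Q ∧ (∀ u v : (Fin 6 ⊕ Fin 6 → F), QuadraticMap.polar Q u v = (Cfsg.sympForm 6 F) u v) ∧ H = Cfsg.Geo.quadSimilarityGroup Q ⊓ Cfsg.spGL 6 F) ∨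
    Cfsg.Geo.InSymplecticResidualClass H := by
  have hex : ¬ ((6 : ℕ) = 2 ∧ Fintype.card F = 2) := by
    rintro ⟨h, -⟩; omega
  have hno6 : ∀ (R : Subgroup (GL (Fin 6 ⊕ Fin 6) F)) (p k : ℕ), ¬ IsClass6 6 F R p k := by
    intro R p k h
    have hd := class6_dim (by norm_num) h
    have hk : k < 4 := by
      by_contra hk
      push Not at hk
      have : 2 ^ 4 ≤ 2 ^ k := Nat.pow_le_pow_right (by norm_num) hk
      omega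
    interval_cases k <;> omega
  have h6 : ∀ (R : Subgroup (GL (Fin 6 ⊕ Fin 6) F)) (p k : ℕ), IsClass6 6 F R p k →
      ¬ Cfsg.spGL 6 F ≤ subgroupNormalizer R := fun R p k h => absurd h (hno6 R p k)
  rcases max_cases (by norm_num) hex hA h6 hH with hM | hres
  swap
  · exact Or.inr (Or.inr (Or.inr (Or.inr (Or.inr (Or.inr (Or.inr (Or.inr (Or.inr (Or.inr (Or.inr (Or.inr (Or.inr (hres)))))))))))))
  rcases hM with (⟨W, hW0, hWs, hMX⟩ | ⟨W, hW0, hWn, hWr, hMX⟩ | ⟨t, k, D, hD, hMX⟩ | ⟨D, hodd, hD, hDs, hMX⟩ |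
      ⟨F₀, r, P, ζ, hr, hcard, hζ, hrat, hMX⟩ | ⟨R, p, k, h1, h2, h3, h4', h5, h6', h7, h8, h9, hMX⟩ |
      ⟨Q, heven', hQ, hpol, hMX⟩) |
    ⟨r, K, hr, hK, hsa, hkv, hMX⟩ | ⟨K, hodd, hK, hac, hnsa, hMX⟩ |
    ⟨n₁, n₂, e, P, f₁, f₂, hodd, hn₂, hf₁, hf₂, hT, hMX⟩ | ⟨k, t, e, P, f₁, hodd, htodd, ht, hne32, hf₁, hT, hMX⟩
  · exact Or.inl ⟨W, hW0, hWs, hMX⟩
  · exact Or.inr (Or.inl ⟨W, hW0, hWn, hWr, hMX⟩)
  · have hc := decomp_card hD.decomp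
    obtain ⟨a, ha⟩ := decomp_even hD
    have hk := hD.decomp.pos
    have ht := hD.decomp.two_le
    have hta : t * a = 6 := by rw [ha] at hc; nlinarith
    have ha6 : a ≤ 3 := by nlinarith
    have ha0 : 0 < a := by omega
    interval_cases a
    · have hk2 : k = 2 := by omega
      have ht6 : t = 6 := by omega
      subst hk2 ht6
      by_cases hq : 3 ≤ Fintype.card F
      · exact Or.inr (Or.inr (Or.inl ⟨hq, D, hD, hMX⟩))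
      · obtain ⟨hev, Q, hQ, hpol, hHQ⟩ := decomp_two_case (by norm_num) hq hD hH hMX
        exact Or.inr (Or.inr (Or.inr (Or.inr (Or.inr (Or.inr (Or.inr (Or.inr (Or.inr (Or.inr (Or.inr (Or.inr (Or.inl ⟨hev, Q, hQ, hpol, hHQ⟩))))))))))))
    · have hk4 : k = 4 := by omega
      have ht3 : t = 3 := by omega
      subst hk4 ht3
      exact Or.inr (Or.inr (Or.inr (Or.inl ⟨D, hD, hMX⟩)))
    · have hk6 : k = 6 := by omega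
      have ht2 : t = 2 := by omega
      subst hk6 ht2
      exact Or.inr (Or.inr (Or.inr (Or.inr (Or.inl ⟨D, hD, hMX⟩))))
  · exact Or.inr (Or.inr (Or.inr (Or.inr (Or.inr (Or.inl ⟨hodd, D, hD, hDs, hMX⟩)))))
  · exact Or.inr (Or.inr (Or.inr (Or.inr (Or.inr (Or.inr (Or.inr (Or.inr (Or.inr (Or.inr (Or.inr (Or.inl ⟨F₀, r, P, ζ, hr, hcard, hζ, hrat, hMX⟩)))))))))))
  · exact absurd ⟨h1, h2, h3, h4', h5, h6', h7, h8, h9⟩ (hno6 R p k)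
  · exact Or.inr (Or.inr (Or.inr (Or.inr (Or.inr (Or.inr (Or.inr (Or.inr (Or.inr (Or.inr (Or.inr (Or.inr (Or.inl ⟨heven', Q, hQ, hpol, hMX⟩))))))))))))
  · have hdvd := fieldSubalgebra_selfAdjoint_dvd (by norm_num) hK hsa hkv
    have hr6 : r ≤ 6 := Nat.le_of_dvd (by norm_num) hdvd
    have hr2 := hr.two_le
    interval_cases r
    · exact Or.inr (Or.inr (Or.inr (Or.inr (Or.inr (Or.inr (Or.inl ⟨K, hK, hsa, hkv, hMX⟩))))))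
    · exact Or.inr (Or.inr (Or.inr (Or.inr (Or.inr (Or.inr (Or.inr (Or.inl ⟨K, hK, hsa, hkv, hMX⟩)))))))
    · exact absurd hr (by decide)
    · omega
    · exact absurd hr (by decide)
  · exact Or.inr (Or.inr (Or.inr (Or.inr (Or.inr (Or.inr (Or.inr (Or.inr (Or.inl ⟨hodd, K, hK, hac, hnsa, hMX⟩))))))))
  · have hc := tensor_card e
    obtain ⟨a, ha⟩ := even_of_isSymplecticForm hf₁
    have han : a * n₂ = 6 := by rw [ha] at hc; nlinarith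
    have ha2 : a ≤ 2 := by nlinarith
    have ha0 : 0 < a := by
      rcases Nat.eq_zero_or_pos a with h | h
      · subst h; omega
      · exact h
    interval_cases a
    · have hn1 : n₁ = 2 := by omega
      have hn2 : n₂ = 6 := by omega
      subst hn1 hn2
      exact Or.inr (Or.inr (Or.inr (Or.inr (Or.inr (Or.inr (Or.inr (Or.inr (Or.inr (Or.inl ⟨hodd, e, P, f₁, f₂, hf₁, hf₂, hT, hMX⟩)))))))))
    · have hn1 : n₁ = 4 := by omega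
      have hn2 : n₂ = 3 := by omega
      subst hn1 hn2
      by_cases hq : 5 ≤ Fintype.card F
      · exact Or.inr (Or.inr (Or.inr (Or.inr (Or.inr (Or.inr (Or.inr (Or.inr (Or.inr (Or.inr (Or.inl ⟨hodd, hq, e, P, f₁, f₂, hf₁, hf₂, hT, hMX⟩))))))))))
      · exact (tensor3_case hq hodd (by norm_num) e P f₁ f₂ hf₁ hf₂ hT hH hMX).elim
  · exfalso
    have hc := wreath_card e
    obtain ⟨a, ha⟩ := even_of_isSymplecticForm hf₁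
    have h8 : 2 ^ 3 ∣ k ^ t := by
      have : (2 : ℕ) ∣ k := ⟨a, by omega⟩
      exact (pow_dvd_pow_of_dvd this 3).trans (pow_dvd_pow k ht)
    rw [hc] at h8
    omega

end Cfsg.Agent.Lib.Helper67_Sp12
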