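import Mathlib
import Cfsg.Agent.Lib.Helper67_Sp4Defs
import Cfsg.Agent.Lib.Helper2_Ext_TA
import Cfsg.Agent.Lib.Helper43_Ext_SK
import Cfsg.Agent.Lib.Helper61_Sp4E_EC0

set_option autoImplicit false
set_option linter.unusedSectionVars false

/-!
# S5789 package EC3: if the vector stabilisers of `X` preserve the `K`-lines, then `X` consists of
`K`-semilinear maps.
-/

open Cfsg.Agent.Lib.Helper94_Symp Cfsg.Agent.Lib.Helper98_ExtDefs Cfsg.Agent.Lib.Helper67_Sp4Defs

namespace Cfsg.Agent.Lib.Helper67_Sp4E_EC3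

variable {F K V : Type*} [Field F] [Field K] [Algebra F K] [AddCommGroup V] [Module F V]
  [Module K V] [IsScalarTower F K V] [Finite F] [Finite K] [Module.Finite K V] [CharP F 2]
variable {B : LinearMap.BilinForm F V} (hB : B.IsAlt) (hN : B.Nondegenerate)
  (hFK : Module.finrank F K = 2) (hKV : Module.finrank K V = 2)
  (hsa : ∀ (k : K) (u v : V), B (k • u) v = B u (k • v))
  (halt : ∀ (k : K) (v : V), B (k • v) v = 0)

include hB hN hFK hKV hsa halt

variable {X : Subgroup (V ≃ₗ[F] V)} (hNX : semiIso F K V B ≤ X) (hXI : X ≤ isoGroup B)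

include hNX hXI

/-- the core: elements of `X` map `K`-lines into `K`-lines -/
theorem line_into (hktv : KtvHyp F K V (semiIso F K V B))
    (h : ∀ x ∈ X, ∀ w : V, w ≠ 0 → x w = w → ∀ k : K, ∃ k' : K, x (k • w) = k' • w)
    {x : V ≃ₗ[F] V} (hx : x ∈ X) {v : V} (hv : v ≠ 0) (k : K) :
    ∃ k' : K, x (k • v) = k' • x v := by
  have hxv : x v ≠ 0 := fun h0 => hv (x.injective (by rw [h0, map_zero]))
  obtain ⟨g, hg, hgv⟩ := Cfsg.Agent.Lib.Helper2_Ext_TA.exists_move (F := F) (K := K) (V := V)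
    (by omega) hktv (x v) v hxv hv
  have hgx : g * x ∈ X := X.mul_mem (hNX hg) hx
  have hfix : (g * x) v = v := by rw [LinearEquiv.mul_apply, hgv]
  obtain ⟨k', hk'⟩ := h (g * x) hgx v hv hfix k
  rw [LinearEquiv.mul_apply] at hk'
  have hginv : g⁻¹ ∈ semiIso F K V B := (semiIso F K V B).inv_mem hg
  obtain ⟨-, σ, hσ⟩ := hginv
  have h1 : g⁻¹ v = x v := by
    have h0 := inv_apply_apply' g (x v)
    rw [hgv] at h0
    exact h0
  refine ⟨σ k', ?_⟩
  calc x (k • v) = g⁻¹ (g (x (k • v))) := (inv_apply_apply' g _).symm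
    _ = g⁻¹ (k' • v) := by rw [hk']
    _ = σ k' • g⁻¹ v := hσ k' v
    _ = σ k' • x v := by rw [h1]

theorem le_semiIso_of_stab_of (hktv : KtvHyp F K V (semiIso F K V B))
    (h : ∀ x ∈ X, ∀ w : V, w ≠ 0 → x w = w → ∀ k : K, ∃ k' : K, x (k • w) = k' • w) :
    X ≤ semiIso F K V B := by
  intro x hx
  refine ⟨hXI hx, ?_⟩
  apply Cfsg.Agent.Lib.Helper43_Ext_SK.SK (by omega)
  intro v
  by_cases hv : v = 0
  · subst hv
    rw [map_zero]
    have h0 : kline F K V (0 : V) = ⊥ := by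
      ext z
      rw [mem_kline, Submodule.mem_bot]
      constructor
      · rintro ⟨k, rfl⟩
        exact smul_zero k
      · rintro rfl
        exact ⟨0, smul_zero _⟩
    rw [h0, Submodule.map_bot]
  · apply le_antisymm
    · rintro _ ⟨z, hz, rfl⟩
      obtain ⟨k, rfl⟩ := mem_kline.mp hz
      obtain ⟨k', hk'⟩ := line_into hB hN hFK hKV hsa halt hNX hXI hktv h hx hv k
      exact mem_kline.mpr ⟨k', hk'.symm⟩
    · intro z hz
      obtain ⟨c, rfl⟩ := mem_kline.mp hz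
      have hxv : x v ≠ 0 := fun h0 => hv (x.injective (by rw [h0, map_zero]))
      obtain ⟨k', hk'⟩ := line_into hB hN hFK hKV hsa halt hNX hXI hktv h (X.inv_mem hx) hxv c
      rw [inv_apply_apply'] at hk'
      refine Submodule.mem_map.mpr ⟨k' • v, mem_kline.mpr ⟨k', rfl⟩, ?_⟩
      have : x (x⁻¹ (c • x v)) = c • x v := apply_inv_apply' x _
      rw [← this, hk']
      rfl

/-- **EC3** -/
theorem le_semiIso_of_stab
    (h : ∀ x ∈ X, ∀ w : V, w ≠ 0 → x w = w → ∀ k : K, ∃ k' : K, x (k • w) = k' • w) :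
    X ≤ semiIso F K V B :=
  le_semiIso_of_stab_of hB hN hFK hKV hsa halt hNX hXI
    (Cfsg.Agent.Lib.Helper61_Sp4E_EC0.ktv_semiIso hB hN hFK hKV hsa halt) h

end Cfsg.Agent.Lib.Helper67_Sp4E_EC3
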