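import Mathlib
import Cfsg.Agent.Lib.Helper67_Sp4Defs
import Cfsg.Agent.Lib.Helper2_Ext_Common

/-!
# S5789, geometry of `w^⊥` for a `K`-structure on a 4-dimensional symplectic space (helper83)

* `two_dim_coords`: coordinates with respect to two independent vectors of a 2-dimensional space;
* `perp_decomp`: if `E ∈ w^⊥ \ K w` then `w^⊥ = K w + F E`;
* `field_coords`: `K = F k₀ + F` for `k₀ ∉ F`.
-/

set_option autoImplicit false
set_option linter.unusedSectionVars false
set_option linter.unusedVariables false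

namespace Cfsg.Agent.Lib.Helper83_Sp4E_Geo

open Cfsg.Agent.Lib.Helper94_Symp Cfsg.Agent.Lib.Helper2_Ext_Common

/-- coordinates in a two-dimensional space -/
theorem two_dim_coords {k M : Type*} [Field k] [AddCommGroup M] [Module k M]
    (h2 : Module.finrank k M = 2) {x y : M} (hx : x ≠ 0) (hy : y ∉ Submodule.span k {x}) (v : M) :
    ∃ a b : k, v = a • x + b • y := by
  have hli : LinearIndependent k ![x, y] := by
    rw [LinearIndependent.pair_iff]
    intro s t hst
    have ht : t = 0 := by
      by_contra ht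
      apply hy
      rw [Submodule.mem_span_singleton]
      refine ⟨-(t⁻¹ * s), ?_⟩
      have : t • y = -(s • x) := eq_neg_of_add_eq_zero_right hst
      calc (-(t⁻¹ * s)) • x = t⁻¹ • (-(s • x)) := by rw [neg_smul, mul_smul, smul_neg]
        _ = t⁻¹ • (t • y) := by rw [this]
        _ = y := by rw [smul_smul, inv_mul_cancel₀ ht, one_smul]
    subst ht
    rw [zero_smul, add_zero] at hst
    rcases smul_eq_zero.mp hst with h | h
    · exact ⟨h, rfl⟩
    · exact absurd h hx
  have hfd : FiniteDimensional k M := Module.finite_of_finrank_pos (by omega)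
  have htop := hli.span_eq_top_of_card_eq_finrank' (by simp [h2])
  have hv : v ∈ Submodule.span k (Set.range ![x, y]) := by rw [htop]; trivial
  obtain ⟨c, hc⟩ := (Submodule.mem_span_range_iff_exists_fun k).mp hv
  refine ⟨c 0, c 1, ?_⟩
  rw [← hc, Fin.sum_univ_two]
  simp

section Ext

variable {F K V : Type*} [Field F] [Field K] [Algebra F K] [AddCommGroup V] [Module F V]
  [Module K V] [IsScalarTower F K V]

/-- `K = F k₀ + F` for `k₀ ∉ F` -/
theorem field_coords (hFK : Module.finrank F K = 2) {k₀ : K} (hk₀ : ∀ s : F, k₀ ≠ algebraMap F K s)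
    (k : K) : ∃ s s' : F, k = s • k₀ + s' • (1 : K) := by
  have h1 : k₀ ∉ Submodule.span F {(1 : K)} := by
    intro h
    obtain ⟨s, hs⟩ := Submodule.mem_span_singleton.mp h
    apply hk₀ s
    rw [← hs, Algebra.smul_def, mul_one]
  obtain ⟨a, b, hab⟩ := two_dim_coords hFK one_ne_zero h1 k
  exact ⟨b, a, by rw [hab, add_comm]⟩

variable {B : LinearMap.BilinForm F V} (hB : B.IsAlt) (hN : B.Nondegenerate)
  (hFK : Module.finrank F K = 2) (hKV : Module.finrank K V = 2)
  (hsa : ∀ (k : K) (u v : V), B (k • u) v = B u (k • v))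
  (halt : ∀ (k : K) (v : V), B (k • v) v = 0)

include hB hN hFK hKV hsa halt

/-- `w^⊥ = K w + F E` for `E ∈ w^⊥ \ K w` -/
theorem perp_decomp {w E : V} (hw : w ≠ 0) (hE : E ∉ Submodule.span K {w}) (hEw : B E w = 0)
    {v : V} (hv : B v w = 0) : ∃ (k : K) (f : F), v = k • w + f • E := by
  obtain ⟨k, k', hkk⟩ := two_dim_coords hKV hw hE v
  -- an element of `K` outside `F`
  obtain ⟨k₁, hk₁⟩ := exists_notMem_span_singleton (k := F) (V := K) (by omega) (1 : K)
  obtain ⟨a, b, hab⟩ := two_dim_coords hFK one_ne_zero hk₁ k'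
  have hkw : ∀ κ : K, B (κ • w) w = 0 := fun κ => halt κ w
  have e1 : k' • E = a • E + b • (k₁ • E) := by
    rw [hab, add_smul, smul_assoc, smul_assoc, one_smul]
  have h0 : b * B (k₁ • E) w = 0 := by
    have := hv
    rw [hkk, map_add, LinearMap.add_apply, hkw, zero_add, e1, map_add, LinearMap.add_apply,
      map_smul, map_smul, LinearMap.smul_apply, LinearMap.smul_apply, hEw, smul_zero, zero_add,
      smul_eq_mul] at this
    exact this
  rcases mul_eq_zero.mp h0 with hb | hb
  · refine ⟨k, a, ?_⟩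
    rw [hkk, e1, hb, zero_smul, add_zero]
  · exfalso
    apply hw
    apply hN.2
    intro z
    obtain ⟨κ₁, κ₂, hz⟩ := two_dim_coords hKV hw hE z
    obtain ⟨a', b', hab'⟩ := two_dim_coords hFK one_ne_zero hk₁ κ₂
    have e2 : κ₂ • E = a' • E + b' • (k₁ • E) := by
      rw [hab', add_smul, smul_assoc, smul_assoc, one_smul]
    rw [hz, map_add, LinearMap.add_apply, hkw, zero_add, e2, map_add, LinearMap.add_apply,
      map_smul, map_smul, LinearMap.smul_apply, LinearMap.smul_apply, hEw, hb, smul_zero,
      smul_zero, add_zero]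

end Ext

end Cfsg.Agent.Lib.Helper83_Sp4E_Geo
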