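import Mathlib
import Cfsg.Agent.Lib.Helper67_Sp4Defs
import Cfsg.Agent.Lib.Helper61_Sp4E_EC0
import Cfsg.Agent.Lib.Helper83_Sp4E_Geo

/-!
# S5789 package EC4a (architect helper67): transitivity of `X_w` on `w^⊥ / F w` (helper83)

If some `x ∈ X` fixing `w` does not preserve the `K`-line `K w`, then the stabiliser of `w` in `X`
is transitive on the nonzero vectors of `w^⊥ / F w`: with `E1 = k₀ w`, `E2 = x E1` the
`K`-transvections `v ↦ v + k χ(v) w` (`χ w = 0`, `χ E2 = 1`) and their conjugates under `x` induce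
the two families of elementary matrices on `w^⊥ / F w = ⟨E1, E2⟩`.
-/

set_option autoImplicit false
set_option linter.unusedSectionVars false
set_option linter.unusedVariables false

open Cfsg.Agent.Lib.Helper94_Symp Cfsg.Agent.Lib.Helper38_SpSub1 Cfsg.Agent.Lib.Helper38_SpSub2
  Cfsg.Agent.Lib.Helper98_ExtDefs Cfsg.Agent.Lib.Helper67_Sp4Defs
  Cfsg.Agent.Lib.Helper2_Ext_Common Cfsg.Agent.Lib.Helper83_Sp4E_Geo

namespace Cfsg.Agent.Lib.Helper83_Sp4E_EC4a

section Reach

variable {F V : Type*} [Field F] [AddCommGroup V] [Module F V]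

/-- reachability inside the stabiliser of `w` in `X`, modulo `F w` -/
def Reach (X : Subgroup (V ≃ₗ[F] V)) (w a b : V) : Prop :=
  ∃ g ∈ X, g w = w ∧ ∃ s : F, g a = b + s • w

variable {X : Subgroup (V ≃ₗ[F] V)} {w : V}

theorem Reach.shift (b : V) (s : F) : Reach X w (b + s • w) b :=
  ⟨1, X.one_mem, rfl, s, rfl⟩

theorem Reach.trans {a b c : V} (h1 : Reach X w a b) (h2 : Reach X w b c) : Reach X w a c := by
  obtain ⟨g, hg, hgw, s, hs⟩ := h1
  obtain ⟨g', hg', hgw', s', hs'⟩ := h2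
  refine ⟨g' * g, X.mul_mem hg' hg, by rw [LinearEquiv.mul_apply, hgw, hgw'], s' + s, ?_⟩
  rw [LinearEquiv.mul_apply, hs, map_add, map_smul, hs', hgw', add_smul, add_assoc]

theorem Reach.symm {a b : V} (h : Reach X w a b) : Reach X w b a := by
  obtain ⟨g, hg, hgw, s, hs⟩ := h
  have hgw' : g⁻¹ w = w := by
    conv_lhs => rw [← hgw]
    exact inv_apply_apply' g w
  refine ⟨g⁻¹, X.inv_mem hg, hgw', -s, ?_⟩
  have h1 : g⁻¹ (g a) = a := inv_apply_apply' g a
  rw [hs, map_add, map_smul, hgw'] at h1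
  rw [← h1, add_assoc, ← add_smul, add_neg_cancel, zero_smul, add_zero]

end Reach

section Ext

variable {F K V : Type*} [Field F] [Field K] [Algebra F K] [AddCommGroup V] [Module F V]
  [Module K V] [IsScalarTower F K V] [Finite F] [Finite K] [Module.Finite K V] [CharP F 2]
variable {B : LinearMap.BilinForm F V} (hB : B.IsAlt) (hN : B.Nondegenerate)
  (hFK : Module.finrank F K = 2) (hKV : Module.finrank K V = 2)
  (hsa : ∀ (k : K) (u v : V), B (k • u) v = B u (k • v))
  (halt : ∀ (k : K) (v : V), B (k • v) v = 0)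

include hB hN hFK hKV hsa halt

variable {X : Subgroup (V ≃ₗ[F] V)} (hNX : semiIso F K V B ≤ X) (hXI : X ≤ isoGroup B)

include hNX hXI

/-! ### EC4a : transitivity of `X_w` on `w^⊥ / F w` -/
theorem exists_move_perp {x : V ≃ₗ[F] V} (hx : x ∈ X) {w : V} (hw : w ≠ 0) (hxw : x w = w)
    (k₀ : K) (hk₀ : ∀ k' : K, x (k₀ • w) ≠ k' • w) {a a' : V} (ha : B a w = 0) (ha' : B a' w = 0)
    (hna : ∀ s : F, a ≠ s • w) (hna' : ∀ s : F, a' ≠ s • w) :
    ∃ g ∈ X, g w = w ∧ ∃ s : F, g a = a' + s • w := by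
  have hxI : x ∈ isoGroup B := hXI hx
  have hxinvw : x⁻¹ w = w := by
    conv_lhs => rw [← hxw]
    exact inv_apply_apply' x w
  obtain ⟨E1, hE1⟩ : ∃ E1 : V, E1 = k₀ • w := ⟨_, rfl⟩
  obtain ⟨E2, hE2⟩ : ∃ E2 : V, E2 = x E1 := ⟨_, rfl⟩
  have hE2span : E2 ∉ Submodule.span K {w} := by
    intro h
    obtain ⟨k', hk'⟩ := Submodule.mem_span_singleton.mp h
    exact hk₀ k' (by rw [← hE1, ← hE2, hk'])
  have hk₀F : ∀ s : F, k₀ ≠ algebraMap F K s := by
    intro s hs
    apply hk₀ (algebraMap F K s)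
    rw [hs, algebraMap_smul, map_smul, hxw]
  have hE1w : B E1 w = 0 := by rw [hE1]; exact halt k₀ w
  have hE2w : B E2 w = 0 := by
    have := hxI E1 w
    rw [hxw] at this
    rw [hE2, this, hE1w]
  obtain ⟨χ, hχE2, hχspan⟩ := exists_dual_eq (Submodule.span K {w}) hE2span (1 : K)
  have hχw : χ w = 0 := hχspan w (Submodule.mem_span_singleton_self w)
  have hχE1 : χ E1 = 0 := by rw [hE1, map_smul, hχw, smul_zero]
  -- the first family
  have hU1 : ∀ s s' : F, ∃ g ∈ X, ∀ v, g v = v + ((s • k₀ + s' • (1 : K)) * χ v) • w := by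
    intro s s'
    have h0 : ((s • k₀ + s' • (1 : K)) • χ) w = 0 := by
      rw [LinearMap.smul_apply, hχw, smul_zero]
    obtain ⟨g, hg, hgx⟩ := Cfsg.Agent.Lib.Helper61_Sp4E_EC0.ktv_semiIso hB hN hFK hKV hsa halt
      ((s • k₀ + s' • (1 : K)) • χ) w h0
    refine ⟨g, hNX hg, fun v => ?_⟩
    rw [hgx v]
    simp only [LinearMap.smul_apply, smul_eq_mul]
  have hsmulw : ∀ s s' : F, (s • k₀ + s' • (1 : K)) • w = s • E1 + s' • w := by
    intro s s'
    rw [add_smul, smul_assoc, smul_assoc, one_smul, hE1]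
  -- the inverse image of `E1`
  have hxinvE1w : B (x⁻¹ E1) w = 0 := by
    rw [isoGroup_inv_apply hxI, hxw, hE1w]
  obtain ⟨κ, γ, hκγ⟩ := perp_decomp hB hN hFK hKV hsa halt hw hE2span hE2w hxinvE1w
  obtain ⟨t₀, t₀', hκ⟩ := field_coords hFK hk₀F κ
  have hxE1 : x (x⁻¹ E1) = E1 := apply_inv_apply' x E1
  have hxsmul : ∀ s s' : F, x (s • E1 + s' • w) = s • E2 + s' • w := by
    intro s s'
    rw [map_add, map_smul, map_smul, hxw, hE2]
  have hγ : γ ≠ 0 := by
    intro h0
    rw [h0, zero_smul, add_zero, hκ, hsmulw] at hκγ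
    have h1 : E1 = t₀ • E2 + t₀' • w := by
      rw [← hxE1, hκγ, hxsmul]
    by_cases ht : t₀ = 0
    · rw [ht, zero_smul, zero_add] at h1
      apply hk₀F t₀'
      have h2 : (k₀ - algebraMap F K t₀') • w = 0 := by
        rw [sub_smul, algebraMap_smul, ← hE1, h1, sub_self]
      rcases smul_eq_zero.mp h2 with h3 | h3
      · exact sub_eq_zero.mp h3
      · exact absurd h3 hw
    · apply hE2span
      rw [Submodule.mem_span_singleton]
      refine ⟨t₀⁻¹ • (k₀ - algebraMap F K t₀'), ?_⟩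
      rw [smul_assoc, sub_smul, algebraMap_smul, ← hE1]
      have : E1 - t₀' • w = t₀ • E2 := by rw [h1]; abel
      rw [this, smul_smul, inv_mul_cancel₀ ht, one_smul]
  have hχxinv : χ (x⁻¹ E1) = algebraMap F K γ := by
    rw [hκγ, map_add, map_smul, hχw, smul_zero, zero_add, LinearMap.map_smul_of_tower, hχE2,
      Algebra.smul_def, mul_one]
  -- the two steps
  have step1 : ∀ t f t' s₁ : F, Reach X w (t • E1 + f • E2 + t' • w)
      ((t + f * s₁) • E1 + f • E2 + t' • w) := by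
    intro t f t' s₁
    obtain ⟨g, hg, hgv⟩ := hU1 s₁ 0
    have hgw : g w = w := by rw [hgv, hχw, mul_zero, zero_smul, add_zero]
    have hgE1 : g E1 = E1 := by rw [hgv, hχE1, mul_zero, zero_smul, add_zero]
    have hgE2 : g E2 = E2 + s₁ • E1 := by
      rw [hgv, hχE2, mul_one, hsmulw, zero_smul, add_zero]
    refine ⟨g, hg, hgw, 0, ?_⟩
    rw [map_add, map_add, map_smul, map_smul, map_smul, hgw, hgE1, hgE2, zero_smul, add_zero]
    module
  have step2 : ∀ t f t' s₂ : F, Reach X w (t • E1 + f • E2 + t' • w)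
      (t • E1 + (f + t * γ * s₂) • E2 + t' • w) := by
    intro t f t' s₂
    obtain ⟨g, hg, hgv⟩ := hU1 s₂ 0
    have hgw : g w = w := by rw [hgv, hχw, mul_zero, zero_smul, add_zero]
    have hgE1 : g E1 = E1 := by rw [hgv, hχE1, mul_zero, zero_smul, add_zero]
    have hcw : (x * g * x⁻¹) w = w := by
      rw [LinearEquiv.mul_apply, LinearEquiv.mul_apply, hxinvw, hgw, hxw]
    have hcE2 : (x * g * x⁻¹) E2 = E2 := by
      rw [LinearEquiv.mul_apply, LinearEquiv.mul_apply, hE2, inv_apply_apply', hgE1]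
    have hcE1 : (x * g * x⁻¹) E1 = E1 + (γ * s₂) • E2 := by
      rw [LinearEquiv.mul_apply, LinearEquiv.mul_apply, hgv, hχxinv, map_add, hxE1]
      congr 1
      have e : ((s₂ • k₀ + (0 : F) • (1 : K)) * algebraMap F K γ) • w = (γ * s₂) • E1 := by
        rw [zero_smul, add_zero, mul_comm, ← Algebra.smul_def, smul_assoc, smul_assoc, ← hE1,
          smul_smul]
      rw [e, map_smul, hE2]
    refine ⟨x * g * x⁻¹, X.mul_mem (X.mul_mem hx hg) (X.inv_mem hx), hcw, 0, ?_⟩
    rw [map_add, map_add, map_smul, map_smul, map_smul, hcw, hcE1, hcE2, zero_smul, add_zero]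
    module
  -- coordinates
  have hcoord : ∀ v : V, B v w = 0 → ∃ t f t' : F, v = t • E1 + f • E2 + t' • w := by
    intro v hv
    obtain ⟨κ', f, hκf⟩ := perp_decomp hB hN hFK hKV hsa halt hw hE2span hE2w hv
    obtain ⟨t, t', hκ'⟩ := field_coords hFK hk₀F κ'
    refine ⟨t, f, t', ?_⟩
    rw [hκf, hκ', hsmulw]
    abel
  -- normal form, first case
  have norm1 : ∀ t f t' : F, f ≠ 0 → Reach X w (t • E1 + f • E2 + t' • w) E1 := by
    intro t f t' hf
    have h1 := step1 t f t' ((1 + t) / f)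
    have e1 : t + f * ((1 + t) / f) = 1 := by
      rw [mul_div_cancel₀ _ hf, add_comm 1 t, ← add_assoc, CharTwo.add_self_eq_zero, zero_add]
    rw [e1, one_smul] at h1
    have h2 := step2 1 f t' (f / γ)
    have e2 : f + 1 * γ * (f / γ) = 0 := by
      rw [one_mul, mul_div_cancel₀ _ hγ, CharTwo.add_self_eq_zero]
    rw [e2, zero_smul, add_zero, one_smul] at h2
    exact (h1.trans h2).trans (Reach.shift E1 t')
  have norm : ∀ v : V, B v w = 0 → (∀ s : F, v ≠ s • w) → Reach X w v E1 := by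
    intro v hv hnv
    obtain ⟨t, f, t', hvc⟩ := hcoord v hv
    rw [hvc]
    by_cases hf : f = 0
    · have ht : t ≠ 0 := by
        intro ht
        apply hnv t'
        rw [hvc, hf, ht, zero_smul, zero_smul, zero_add, zero_add]
      have h1 := step2 t f t' 1
      have hf' : f + t * γ * 1 ≠ 0 := by
        rw [hf, zero_add, mul_one]
        exact mul_ne_zero ht hγ
      exact h1.trans (norm1 t _ t' hf')
    · exact norm1 t f t' hf
  exact (norm a ha hna).trans (norm a' ha' hna').symm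

end Ext

end Cfsg.Agent.Lib.Helper83_Sp4E_EC4a
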