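import Mathlib
import Cfsg.Agent.Lib.Helper67_Sp4Defs
import Cfsg.Agent.Lib.Helper64_Sp4E_XQ

/-!
# S5789 package EC4b (architect helper67): transitivity + seed give a transvection (helper83)
-/

set_option autoImplicit false
set_option linter.unusedSectionVars false
set_option linter.unusedVariables false

open Cfsg.Agent.Lib.Helper94_Symp Cfsg.Agent.Lib.Helper38_SpSub1 Cfsg.Agent.Lib.Helper38_SpSub2
  Cfsg.Agent.Lib.Helper98_ExtDefs Cfsg.Agent.Lib.Helper67_Sp4Defs Cfsg.Agent.Lib.Helper64_Sp4E_XQ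

namespace Cfsg.Agent.Lib.Helper83_Sp4E_EC4b

section Ext

variable {F K V : Type*} [Field F] [Field K] [Algebra F K] [AddCommGroup V] [Module F V]
  [Module K V] [IsScalarTower F K V] [Finite F] [Finite K] [Module.Finite K V] [CharP F 2]
variable {B : LinearMap.BilinForm F V} (hB : B.IsAlt) (hN : B.Nondegenerate)
  (hFK : Module.finrank F K = 2) (hKV : Module.finrank K V = 2)
  (hsa : ∀ (k : K) (u v : V), B (k • u) v = B u (k • v))
  (halt : ∀ (k : K) (v : V), B (k • v) v = 0)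

include hB hN hFK hKV hsa halt

variable {X : Subgroup (V ≃ₗ[F] V)} (hNX : semiIso F K V B ≤ X) (hXI : X ≤ isoGroup B)

include hNX hXI

/-- two vectors of `w^⊥` pairing to one -/
theorem exists_pair_perp {w a : V} (hw : w ≠ 0) (ha : B a w = 0) (hna : ∀ s : F, a ≠ s • w) :
    ∃ a' : V, B a' w = 0 ∧ B a a' = 1 := by
  have hsym : ∀ u v : V, B u v = B v u := by
    intro u v
    rw [alt_swap B hB u v, CharTwo.neg_eq]
  -- a partner of `w`
  obtain ⟨w₀, hw₀⟩ : ∃ w₀, B w₀ w ≠ 0 := by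
    by_contra h
    push Not at h
    exact hw (hN.2 w h)
  obtain ⟨w', hw'⟩ : ∃ w', B w' w = 1 := ⟨(B w₀ w)⁻¹ • w₀, by
    rw [map_smul, LinearMap.smul_apply, smul_eq_mul, inv_mul_cancel₀ hw₀]⟩
  have hww' : B w w' = 1 := by rw [hsym, hw']
  obtain ⟨a₁, ha₁⟩ : ∃ a₁, a₁ = a + B a w' • w := ⟨_, rfl⟩
  have ha₁w : B a₁ w = 0 := by
    rw [ha₁, map_add, LinearMap.add_apply, map_smul, LinearMap.smul_apply, ha, hB w, smul_zero,
      add_zero]
  have ha₁w' : B a₁ w' = 0 := by
    rw [ha₁, map_add, LinearMap.add_apply, map_smul, LinearMap.smul_apply, hww', smul_eq_mul,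
      mul_one, CharTwo.add_self_eq_zero]
  have ha₁0 : a₁ ≠ 0 := by
    intro h
    apply hna (B a w')
    have : a = a₁ + B a w' • w := by
      rw [ha₁, add_assoc, ← add_smul, CharTwo.add_self_eq_zero, zero_smul, add_zero]
    conv_lhs => rw [this, h, zero_add]
  obtain ⟨z, hz⟩ : ∃ z, B a₁ z ≠ 0 := by
    by_contra h
    push Not at h
    exact ha₁0 (hN.1 a₁ h)
  obtain ⟨z', hz'⟩ : ∃ z', z' = z + B z w • w' + B z w' • w := ⟨_, rfl⟩
  have hz'w : B z' w = 0 := by
    rw [hz', map_add, map_add, LinearMap.add_apply, LinearMap.add_apply, map_smul, map_smul,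
      LinearMap.smul_apply, LinearMap.smul_apply, hw', hB w, smul_zero, add_zero, smul_eq_mul,
      mul_one, CharTwo.add_self_eq_zero]
  have ha₁z' : B a₁ z' = B a₁ z := by
    rw [hz', map_add, map_add, map_smul, map_smul, ha₁w, ha₁w', smul_zero, smul_zero, add_zero,
      add_zero]
  refine ⟨(B a₁ z)⁻¹ • z', ?_, ?_⟩
  · rw [map_smul, LinearMap.smul_apply, hz'w, smul_zero]
  · have e : B a z' = B a₁ z' := by
      rw [ha₁, map_add, LinearMap.add_apply, map_smul, LinearMap.smul_apply, hsym w z', hz'w,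
        smul_zero, add_zero]
    rw [map_smul, e, ha₁z', smul_eq_mul, inv_mul_cancel₀ hz]

/-! ### EC4b : transitivity + seed give a transvection -/
theorem exists_tv_of_move (h3 : 3 ≤ Nat.card F) {w : V} (hw : w ≠ 0)
    (hmove : ∀ a a' : V, B a w = 0 → B a' w = 0 → (∀ s : F, a ≠ s • w) → (∀ s : F, a' ≠ s • w) →
      ∃ g ∈ X, g w = w ∧ ∃ s : F, g a = a' + s • w)
    (hseed : ∃ (a : V) (c : F), B a w = 0 ∧ (∀ s : F, a ≠ s • w) ∧ xq B hB w a c ∈ X) :
    ∃ c : F, c ≠ 0 ∧ stv B hB w c ∈ X := by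
  obtain ⟨a₀, c₀, ha₀, hna₀, hx₀⟩ := hseed
  have hsym : ∀ u v : V, B u v = B v u := by
    intro u v
    rw [alt_swap B hB u v, CharTwo.neg_eq]
  -- all the elements `xq w a c₀`
  have hall : ∀ a : V, B a w = 0 → (∀ s : F, a ≠ s • w) → xq B hB w a c₀ ∈ X := by
    intro a ha hna
    obtain ⟨g, hgX, hgw, s, hgs⟩ := hmove a₀ a ha₀ ha hna₀ hna
    have h1 : g * xq B hB w a₀ c₀ * g⁻¹ ∈ X := X.mul_mem (X.mul_mem hgX hx₀) (X.inv_mem hgX)
    rw [conj_xq B hB (hXI hgX), hgw, hgs, xq_add_smul B hB ha] at h1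
    exact h1
  obtain ⟨a', ha'w, haa'⟩ := exists_pair_perp hB hN hFK hKV hsa halt hNX hXI hw ha₀ hna₀
  -- a scalar different from `0` and `c₀`
  obtain ⟨s, hs0, hsc⟩ : ∃ s : F, s ≠ 0 ∧ s ≠ c₀ := by
    classical
    by_contra h
    push Not at h
    have : Fintype F := Fintype.ofFinite F
    have hsub : (Finset.univ : Finset F) ⊆ {0, c₀} := by
      intro x _
      by_cases hx : x = 0
      · simp [hx]
      · simp [h x hx]
    have h1 := Finset.card_le_card hsub
    have h2 : ({0, c₀} : Finset F).card ≤ 2 := Finset.card_le_two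
    rw [Finset.card_univ, ← Nat.card_eq_fintype_card] at h1
    omega
  have hsa'w : B (s • a') w = 0 := by rw [map_smul, LinearMap.smul_apply, ha'w, smul_zero]
  have hna' : ∀ t : F, s • a' ≠ t • w := by
    intro t h
    have : B a₀ (s • a') = s := by rw [map_smul, haa', smul_eq_mul, mul_one]
    rw [h, map_smul, ha₀, smul_zero] at this
    exact hs0 this.symm
  have hsum_w : B (a₀ + s • a') w = 0 := by rw [map_add, LinearMap.add_apply, ha₀, hsa'w, add_zero]
  have hnsum : ∀ t : F, a₀ + s • a' ≠ t • w := by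
    intro t h
    have h1 : B (a₀ + s • a') a' = 1 := by
      rw [map_add, LinearMap.add_apply, haa', map_smul, LinearMap.smul_apply, hB a', smul_zero,
        add_zero]
    rw [h, map_smul, LinearMap.smul_apply, hsym, ha'w, smul_zero] at h1
    exact zero_ne_one h1
  have h1 := hall a₀ ha₀ hna₀
  have h2 := hall (s • a') hsa'w hna'
  have h3 := hall (a₀ + s • a') hsum_w hnsum
  have hprod := X.mul_mem (X.mul_mem h1 h2) h3
  rw [xq_mul B hB ha₀ hsa'w, xq_mul B hB hsum_w hsum_w] at hprod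
  have e1 : a₀ + s • a' + (a₀ + s • a') = 0 := by
    rw [← one_smul F (a₀ + s • a'), ← add_smul, CharTwo.add_self_eq_zero, zero_smul]
  have e2 : c₀ + c₀ + B a₀ (s • a') + c₀ + B (a₀ + s • a') (a₀ + s • a') = s + c₀ := by
    rw [hB, add_zero, CharTwo.add_self_eq_zero, zero_add, map_smul, haa', smul_eq_mul, mul_one]
  rw [e1, e2, xq_zero] at hprod
  refine ⟨s + c₀, ?_, hprod⟩
  intro h
  apply hsc
  calc s = s + c₀ + c₀ := by rw [add_assoc, CharTwo.add_self_eq_zero, add_zero]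
    _ = c₀ := by rw [h, zero_add]

end Ext

end Cfsg.Agent.Lib.Helper83_Sp4E_EC4b
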