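import Mathlib
import Cfsg.Agent.Lib.Helper67_Sp4Defs
import Cfsg.Agent.Lib.Helper64_Sp4E_XQ
import Cfsg.Agent.Lib.Helper61_Sp4E_EC0
import Cfsg.Agent.Lib.Helper83_Sp4E_Geo

/-!
# S5789 package EC4s (architect helper67): a seed in the radical (helper83)
-/

set_option autoImplicit false
set_option linter.unusedSectionVars false
set_option linter.unusedVariables false

open Cfsg.Agent.Lib.Helper94_Symp Cfsg.Agent.Lib.Helper38_SpSub1 Cfsg.Agent.Lib.Helper38_SpSub2
  Cfsg.Agent.Lib.Helper98_ExtDefs Cfsg.Agent.Lib.Helper67_Sp4Defs Cfsg.Agent.Lib.Helper64_Sp4E_XQ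
  Cfsg.Agent.Lib.Helper2_Ext_Common Cfsg.Agent.Lib.Helper83_Sp4E_Geo

namespace Cfsg.Agent.Lib.Helper83_Sp4E_EC4s

section Ext

variable {F K V : Type*} [Field F] [Field K] [Algebra F K] [AddCommGroup V] [Module F V]
  [Module K V] [IsScalarTower F K V] [Finite F] [Finite K] [Module.Finite K V] [CharP F 2]
variable {B : LinearMap.BilinForm F V} (hB : B.IsAlt) (hN : B.Nondegenerate)
  (hFK : Module.finrank F K = 2) (hKV : Module.finrank K V = 2)
  (hsa : ∀ (k : K) (u v : V), B (k • u) v = B u (k • v))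
  (halt : ∀ (k : K) (v : V), B (k • v) v = 0)

include hB hN hFK hKV hsa halt

/-- a vector of `w^⊥` outside `K w` -/
theorem exists_perp_notMem {w : V} (hw : w ≠ 0) :
    ∃ E : V, B E w = 0 ∧ E ∉ Submodule.span K {w} := by
  have hcharK : CharP K 2 := charP_of_injective_algebraMap (algebraMap F K).injective 2
  have hBsmul : ∀ (f : F) (y : V), B (f • y) w = f * B y w := by
    intro f y
    rw [map_smul, LinearMap.smul_apply, smul_eq_mul]
  obtain ⟨E₀, hE₀⟩ := exists_notMem_span_singleton (k := K) (V := V) (by omega) w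
  -- an element of `K` outside `F`
  obtain ⟨k₁, hk₁⟩ := exists_notMem_span_singleton (k := F) (V := K) (by omega) (1 : K)
  have hmem : ∀ κ : K, κ ≠ 0 → κ • E₀ ∉ Submodule.span K {w} := by
    intro κ hκ h
    apply hE₀
    have := (Submodule.span K {w}).smul_mem κ⁻¹ h
    rwa [smul_smul, inv_mul_cancel₀ hκ, one_smul] at this
  by_cases h1 : B E₀ w = 0
  · exact ⟨E₀, h1, hE₀⟩
  · -- `κ = B (k₁ E₀) w • 1 + B E₀ w • k₁` kills the pairing
    have hk₁0 : k₁ ≠ 0 := by
      rintro rfl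
      exact hk₁ (Submodule.zero_mem _)
    obtain ⟨κ, hκ⟩ : ∃ κ : K, κ = B (k₁ • E₀) w • (1 : K) + B E₀ w • k₁ := ⟨_, rfl⟩
    have hκ0 : κ ≠ 0 := by
      intro h0
      apply hk₁
      rw [Submodule.mem_span_singleton]
      refine ⟨(B E₀ w)⁻¹ * B (k₁ • E₀) w, ?_⟩
      have h2 : B E₀ w • k₁ = B (k₁ • E₀) w • (1 : K) := by
        have h3 : B (k₁ • E₀) w • (1 : K) + B E₀ w • k₁ = 0 := by rw [← hκ, h0]
        have h4 := eq_neg_of_add_eq_zero_right h3
        rw [h4, CharTwo.neg_eq]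
      rw [mul_smul, ← h2, smul_smul, inv_mul_cancel₀ h1, one_smul]
    refine ⟨κ • E₀, ?_, hmem κ hκ0⟩
    have e : κ • E₀ = B (k₁ • E₀) w • E₀ + B E₀ w • (k₁ • E₀) := by
      rw [hκ, add_smul, smul_assoc, smul_assoc, one_smul]
    rw [e, map_add, LinearMap.add_apply, hBsmul, hBsmul, mul_comm, CharTwo.add_self_eq_zero]

/-! ### EC4s : a seed in the radical -/
theorem exists_seed {w : V} (hw : w ≠ 0) :
    ∃ (a : V) (c : F), B a w = 0 ∧ (∀ s : F, a ≠ s • w) ∧ xq B hB w a c ∈ semiIso F K V B := by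
  have hfd : FiniteDimensional F V := finiteDimensional_of_tower (F := F) (K := K) (V := V)
  obtain ⟨E, hEw, hE⟩ := exists_perp_notMem hB hN hFK hKV hsa halt hw
  obtain ⟨χ, hχE, hχw⟩ := exists_dual_eq (Submodule.span K {w}) hE (1 : K)
  have hχw' : χ w = 0 := hχw w (Submodule.mem_span_singleton_self w)
  obtain ⟨g, hg, hgx⟩ := Cfsg.Agent.Lib.Helper61_Sp4E_EC0.ktv_semiIso hB hN hFK hKV hsa halt χ w hχw'
  have hgx : ∀ x, g x = x + χ x • w := hgx
  have hgiso : g ∈ isoGroup B := hg.1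
  have hgw : g w = w := by rw [hgx, hχw', zero_smul, add_zero]
  have htriv : ∀ v, B v w = 0 → ∃ s : F, g v = v + s • w := by
    intro v hv
    obtain ⟨k, f, hkf⟩ := perp_decomp hB hN hFK hKV hsa halt hw hE hEw hv
    refine ⟨f, ?_⟩
    rw [hgx]
    congr 1
    have : χ v = algebraMap F K f := by
      rw [hkf, map_add, map_smul, hχw', smul_zero, zero_add, LinearMap.map_smul_of_tower, hχE,
        Algebra.smul_def, mul_one]
    rw [this, algebraMap_smul]
  obtain ⟨a, c, haw, hgeq⟩ := exists_xq_of_trivial B hB hN hw hgiso hgw htriv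
  refine ⟨a, c, haw, ?_, ?_⟩
  · intro s hs
    have h1 : g E = E := by
      rw [hgeq, hs]
      have h0 : B (0 : V) w = 0 := by simp
      have : xq B hB w (s • w) c = xq B hB w 0 c := by
        have := xq_add_smul B hB h0 s c
        rwa [zero_add] at this
      rw [this, xq_zero, stv_apply, hEw, mul_zero, zero_smul, add_zero]
    rw [hgx, hχE, one_smul] at h1
    exact hw (by simpa using h1)
  · rw [← hgeq]
    exact hg

end Ext

end Cfsg.Agent.Lib.Helper83_Sp4E_EC4s
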