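import Mathlib
import Cfsg.Agent.Lib.Helper67_Sp4Defs
import Cfsg.Agent.Lib.Helper61_Sp4E_EC0
import Cfsg.Agent.Lib.Helper61_Sp4E_EC5
import Cfsg.Agent.Lib.Helper61_Sp4E_EC6
import Cfsg.Agent.Lib.Helper67_Sp4E_EC3
import Cfsg.Agent.Lib.Helper83_Sp4E_EC4a
import Cfsg.Agent.Lib.Helper83_Sp4E_EC4s
import Cfsg.Agent.Lib.Helper83_Sp4E_EC4b

set_option autoImplicit false
set_option linter.unusedSectionVars false
set_option linter.unusedVariables false

open Cfsg.Agent.Lib.Helper94_Symp Cfsg.Agent.Lib.Helper98_ExtDefs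
  Cfsg.Agent.Lib.Helper67_Sp4Defs Cfsg.Agent.Lib.Helper61_Sp4E_EC0 Cfsg.Agent.Lib.Helper61_Sp4E_EC5
  Cfsg.Agent.Lib.Helper61_Sp4E_EC6 Cfsg.Agent.Lib.Helper67_Sp4E_EC3 Cfsg.Agent.Lib.Helper83_Sp4E_EC4a
  Cfsg.Agent.Lib.Helper83_Sp4E_EC4s Cfsg.Agent.Lib.Helper83_Sp4E_EC4b

/-!
# S5789, part (3): the `K`-semilinear isometries form a maximal subgroup of `Sp_4(F)`
(`K` a quadratic extension field, self-adjoint, `B (k v) v = 0`, characteristic two); abstract version.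
-/

namespace Cfsg.Agent.Lib.Helper67_Sp4E_Main3

variable {F K V : Type*} [Field F] [Field K] [Algebra F K] [AddCommGroup V] [Module F V]
  [Module K V] [IsScalarTower F K V] [Finite F] [Finite K] [Module.Finite K V] [CharP F 2]
variable {B : LinearMap.BilinForm F V} (hB : B.IsAlt) (hN : B.Nondegenerate)
  (hFK : Module.finrank F K = 2) (hKV : Module.finrank K V = 2)
  (hsa : ∀ (k : K) (u v : V), B (k • u) v = B u (k • v))
  (halt : ∀ (k : K) (v : V), B (k • v) v = 0)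

include hB hN hFK hKV hsa halt in
theorem maximal_semiIso (h3 : 3 ≤ Nat.card F) :
    semiIso F K V B < isoGroup B ∧
      ∀ X : Subgroup (V ≃ₗ[F] V), semiIso F K V B ≤ X → X ≤ isoGroup B →
        X = semiIso F K V B ∨ X = isoGroup B := by
  refine ⟨semiIso_lt hB hN hFK hKV hsa halt, fun X hNX hXI => ?_⟩
  by_cases hc : ∀ x ∈ X, ∀ w : V, w ≠ 0 → x w = w → ∀ k : K, ∃ k' : K, x (k • w) = k' • w
  · left
    exact le_antisymm (le_semiIso_of_stab hB hN hFK hKV hsa halt hNX hXI hc) hNX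
  · right
    push Not at hc
    obtain ⟨x, hx, w, hw, hxw, k₀, hk₀⟩ := hc
    have hmove : ∀ a a' : V, B a w = 0 → B a' w = 0 → (∀ s : F, a ≠ s • w) →
        (∀ s : F, a' ≠ s • w) → ∃ g ∈ X, g w = w ∧ ∃ s : F, g a = a' + s • w :=
      fun a a' ha ha' hna hna' =>
        exists_move_perp hB hN hFK hKV hsa halt hNX hXI hx hw hxw k₀ hk₀ ha ha' hna hna'
    have hseed : ∃ (a : V) (c : F), B a w = 0 ∧ (∀ s : F, a ≠ s • w) ∧ xq B hB w a c ∈ X := by
      obtain ⟨a, c, ha, hna, hmem⟩ := exists_seed hB hN hFK hKV hsa halt hw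
      exact ⟨a, c, ha, hna, hNX hmem⟩
    obtain ⟨c, hc0, hc⟩ := exists_tv_of_move hB hN hFK hKV hsa halt hNX hXI h3 hw hmove hseed
    exact le_antisymm hXI (iso_le_of_tv hB hN hFK hKV hsa halt hNX hXI hw hc0 hc)

end Cfsg.Agent.Lib.Helper67_Sp4E_Main3
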