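import Mathlib
import Cfsg.Agent.Lib.Helper67_Sp4Defs
import Cfsg.Agent.Lib.Helper64_Sp4E_XQ
import Cfsg.Agent.Lib.Helper50_Sp4E_RW1
import Cfsg.Agent.Lib.Helper50_Sp4E_RW2

set_option autoImplicit false
set_option linter.unusedSectionVars false
set_option linter.unusedVariables false

/-!
# S5789 package RA1a (architect helper67): `fix_e1`

If every element `xq e₁ a c` of `X` lies in the rational group `S`, then every element of `X` fixing `e₁` lies in `S`.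
-/

open Cfsg.Agent.Lib.Helper94_Symp Cfsg.Agent.Lib.Helper38_SpSub1 Cfsg.Agent.Lib.Helper38_SpSub2
  Cfsg.Agent.Lib.Helper98_ExtDefs Cfsg.Agent.Lib.Helper67_Sp4Defs
  Cfsg.Agent.Lib.Helper64_Sp4E_XQ Cfsg.Agent.Lib.Helper50_Sp4E_RW1 Cfsg.Agent.Lib.Helper50_Sp4E_RW2

namespace Cfsg.Agent.Lib.Helper81_Sp4E_RA1a

variable {F V : Type*} [Field F] [AddCommGroup V] [Module F V] [CharP F 2] [Finite F]
variable {B : LinearMap.BilinForm F V} (hB : B.IsAlt)
variable {F₀ : Subfield F}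
variable {b : Module.Basis (Fin 2 ⊕ Fin 2) F V} (hb : IsSymp B b)
variable {S : Subgroup (V ≃ₗ[F] V)} (hS : IsRatGroup b B F₀ S)

include hB hb hS

omit [Finite F] hB hS in
/-- In characteristic 2 the pairings of a symplectic basis. -/
theorem pair_eq (x y : Fin 2 ⊕ Fin 2) : B (b x) (b y) = if y = x.swap then 1 else 0 := by
  rw [hb x y]
  split_ifs
  · cases x
    · rfl
    · show (-1 : F) = 1
      exact CharTwo.neg_eq 1
  · rfl

omit [Finite F] hB hS in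
/-- Expansion of a vector in the symplectic basis (characteristic 2: no signs). -/
theorem expand4 (v : V) :
    v = B v (b (Sum.inr 0)) • b (Sum.inl 0) + B v (b (Sum.inr 1)) • b (Sum.inl 1)
      + B v (b (Sum.inl 0)) • b (Sum.inr 0) + B v (b (Sum.inl 1)) • b (Sum.inr 1) := by
  have h := expand hb v
  rw [Fintype.sum_sum_type, Fin.sum_univ_two, Fin.sum_univ_two] at h
  have hm : (-1 : F) = 1 := CharTwo.neg_eq 1
  simp only [sg, Sum.elim_inl, Sum.elim_inr, Sum.swap_inl, Sum.swap_inr, one_mul, hm] at h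
  rw [h]
  simp only [map_add, map_smul, LinearMap.add_apply, LinearMap.smul_apply, pair_eq hb, smul_eq_mul]
  simp
  abel

variable {X : Subgroup (V ≃ₗ[F] V)} (hSX : S ⊓ isoGroup B ≤ X) (hXI : X ≤ isoGroup B)

include hSX hXI

omit hSX in
/-- Step 1: for a rational `a ⊥ e₁`, the vector `k a` is rational modulo `F e₁`. -/
theorem rat_mod_e1 (hSX : S ⊓ isoGroup B ≤ X) (hyp : ∀ (a : V) (c : F), B a (b (Sum.inl 0)) = 0 →
      xq B hB (b (Sum.inl 0)) a c ∈ X → xq B hB (b (Sum.inl 0)) a c ∈ S)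
    {k : V ≃ₗ[F] V} (hk : k ∈ X) (hke : k (b (Sum.inl 0)) = b (Sum.inl 0))
    {a : V} (ha : Rat b B F₀ a) (ha1 : B a (b (Sum.inl 0)) = 0) :
    Rat b B F₀ (k a + B (b (Sum.inr 0)) (k a) • b (Sum.inl 0)) := by
  have hkI : k ∈ isoGroup B := hXI hk
  have hkB : ∀ u v, B (k u) (k v) = B u v := hkI
  have h1 : xq B hB (b (Sum.inl 0)) a 0 ∈ X := by
    apply hSX
    exact (S ⊓ isoGroup B).mul_mem (T_rat_mem hB hb hS ha (rat_basis hb F₀ _))
      (stv_rat_mem hB hb hS (rat_basis hb F₀ _) F₀.zero_mem)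
  have h2 : k * xq B hB (b (Sum.inl 0)) a 0 * k⁻¹ ∈ X := X.mul_mem (X.mul_mem hk h1) (X.inv_mem hk)
  rw [conj_xq B hB hkI, hke] at h2
  have h3 : B (k a) (b (Sum.inl 0)) = 0 := by
    have := hkB a (b (Sum.inl 0))
    rw [hke] at this
    rw [this]
    exact ha1
  have h4 := hyp (k a) 0 h3 h2
  have h5 := rat_of_mem_S hB hb hS h4 (xq_mem_isoGroup B hB _ _ _) (rat_basis hb F₀ (Sum.inr 0))
  rw [xq_apply B hB h3] at h5
  have h6 := rat_sub F₀ h5 (rat_basis hb F₀ (Sum.inr 0))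
  have h7 : B (b (Sum.inr 0)) (b (Sum.inl 0)) = 1 := by
    rw [pair_eq hb]
    simp
  rw [h7] at h6
  convert h6 using 1
  module

omit hSX in
/-- Step 2: the `⟨e₂, f₂⟩`-part of `k a` is rational, orthogonal to `e₁`, `f₁`, and `k a` is it plus a multiple of
`e₁`. -/
theorem exists_part (hSX : S ⊓ isoGroup B ≤ X) (hyp : ∀ (a : V) (c : F), B a (b (Sum.inl 0)) = 0 →
      xq B hB (b (Sum.inl 0)) a c ∈ X → xq B hB (b (Sum.inl 0)) a c ∈ S)
    {k : V ≃ₗ[F] V} (hk : k ∈ X) (hke : k (b (Sum.inl 0)) = b (Sum.inl 0))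
    {a : V} (ha : Rat b B F₀ a) (ha1 : B a (b (Sum.inl 0)) = 0) :
    ∃ (a2 : V) (s : F), Rat b B F₀ a2 ∧ B a2 (b (Sum.inl 0)) = 0 ∧ B a2 (b (Sum.inr 0)) = 0 ∧
      k a = a2 + s • b (Sum.inl 0) := by
  have hkI : k ∈ isoGroup B := hXI hk
  have hkB : ∀ u v, B (k u) (k v) = B u v := hkI
  have hr := rat_mod_e1 hB hb hS hXI hSX hyp hk hke ha ha1
  have h3 : B (k a) (b (Sum.inl 0)) = 0 := by
    have := hkB a (b (Sum.inl 0))
    rw [hke] at this
    rw [this]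
    exact ha1
  have hα : B (k a) (b (Sum.inr 1)) ∈ F₀ := by
    have := hr (Sum.inr 1)
    rw [map_add, LinearMap.add_apply, map_smul, LinearMap.smul_apply, pair_eq hb] at this
    simpa using this
  have hβ : B (k a) (b (Sum.inl 1)) ∈ F₀ := by
    have := hr (Sum.inl 1)
    rw [map_add, LinearMap.add_apply, map_smul, LinearMap.smul_apply, pair_eq hb] at this
    simpa using this
  refine ⟨B (k a) (b (Sum.inr 1)) • b (Sum.inl 1) + B (k a) (b (Sum.inl 1)) • b (Sum.inr 1),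
    B (k a) (b (Sum.inr 0)), ?_, ?_, ?_, ?_⟩
  · exact rat_add F₀ (rat_smul F₀ hα (rat_basis hb F₀ _)) (rat_smul F₀ hβ (rat_basis hb F₀ _))
  · simp [pair_eq hb]
  · simp [pair_eq hb]
  · conv_lhs => rw [expand4 hb (k a)]
    rw [h3, zero_smul]
    abel

theorem fix_e1 (hyp : ∀ (a : V) (c : F), B a (b (Sum.inl 0)) = 0 →
      xq B hB (b (Sum.inl 0)) a c ∈ X → xq B hB (b (Sum.inl 0)) a c ∈ S)
    {k : V ≃ₗ[F] V} (hk : k ∈ X) (hke : k (b (Sum.inl 0)) = b (Sum.inl 0)) : k ∈ S := by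
  have hkI : k ∈ isoGroup B := hXI hk
  have hkB : ∀ u v, B (k u) (k v) = B u v := hkI
  have he2 : B (b (Sum.inl 1)) (b (Sum.inl 0)) = 0 := by simp [pair_eq hb]
  have hf2 : B (b (Sum.inr 1)) (b (Sum.inl 0)) = 0 := by simp [pair_eq hb]
  obtain ⟨a2, s, ha2, ha2e, ha2f, hka2⟩ :=
    exists_part hB hb hS hXI hSX hyp hk hke (rat_basis hb F₀ (Sum.inl 1)) he2
  obtain ⟨a2', s', ha2', ha2e', ha2f', hka2'⟩ :=
    exists_part hB hb hS hXI hSX hyp hk hke (rat_basis hb F₀ (Sum.inr 1)) hf2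
  have haa : B a2 a2' = 1 := by
    have h1 := hkB (b (Sum.inl 1)) (b (Sum.inr 1))
    rw [hka2, hka2'] at h1
    simp only [map_add, map_smul, LinearMap.add_apply, LinearMap.smul_apply, smul_eq_mul, ha2e,
      alt_zero B hB ha2e', hB (b (Sum.inl 0)), mul_zero, add_zero] at h1
    rw [h1, pair_eq hb]
    simp
  obtain ⟨h, hh, hh1, hh2, hh3, hh4⟩ := exists_rat_plane hB hb hS ha2 ha2' ha2e ha2f ha2e' ha2f' haa
  have hhX : h ∈ X := hSX hh
  have hk'X : h⁻¹ * k ∈ X := X.mul_mem (X.inv_mem hhX) hk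
  have hk'I : h⁻¹ * k ∈ isoGroup B := hXI hk'X
  have hk'e : (h⁻¹ * k) (b (Sum.inl 0)) = b (Sum.inl 0) := by
    rw [LinearEquiv.mul_apply, hke]
    conv_lhs => rw [← hh1]
    exact inv_apply_apply' h _
  have hk'e2 : (h⁻¹ * k) (b (Sum.inl 1)) = b (Sum.inl 1) + s • b (Sum.inl 0) := by
    rw [LinearEquiv.mul_apply, hka2, ← hh3]
    conv_lhs => rw [← hh1]
    rw [← map_smul, ← map_add]
    exact inv_apply_apply' h _
  have hk'f2 : (h⁻¹ * k) (b (Sum.inr 1)) = b (Sum.inr 1) + s' • b (Sum.inl 0) := by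
    rw [LinearEquiv.mul_apply, hka2', ← hh4]
    conv_lhs => rw [← hh1]
    rw [← map_smul, ← map_add]
    exact inv_apply_apply' h _
  have htriv : ∀ v, B v (b (Sum.inl 0)) = 0 → ∃ t : F, (h⁻¹ * k) v = v + t • b (Sum.inl 0) := by
    intro v hv
    have hexp := expand4 hb v
    rw [hv, zero_smul, add_zero] at hexp
    obtain ⟨x1, x2, x3, hx⟩ : ∃ x1 x2 x3 : F,
        v = x1 • b (Sum.inl 0) + x2 • b (Sum.inl 1) + x3 • b (Sum.inr 1) := ⟨_, _, _, hexp⟩
    refine ⟨x2 * s + x3 * s', ?_⟩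
    rw [hx, map_add, map_add, map_smul, map_smul, map_smul, hk'e, hk'e2, hk'f2]
    module
  have hfd : FiniteDimensional F V := Module.Finite.of_basis b
  have hN : B.Nondegenerate := nondeg hB hb
  have hw : b (Sum.inl 0) ≠ 0 := b.ne_zero _
  obtain ⟨a, c, ha, hxa⟩ := exists_xq_of_trivial B hB hN hw hk'I hk'e htriv
  have hk'S : h⁻¹ * k ∈ S := by
    rw [hxa]
    apply hyp a c ha
    rw [← hxa]
    exact hk'X
  have : k = h * (h⁻¹ * k) := by group
  rw [this]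
  exact S.mul_mem hh.1 hk'S

end Cfsg.Agent.Lib.Helper81_Sp4E_RA1a
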