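import Mathlib
import Cfsg.Agent.Lib.Helper67_Sp4Defs
import Cfsg.Agent.Lib.Helper94_Symp
import Cfsg.Agent.Lib.Helper38_SpSub1
import Cfsg.Agent.Lib.Helper38_SpSub2
import Cfsg.Agent.Lib.Helper64_Sp4E_XQ
import Cfsg.Agent.Lib.Helper50_Sp4E_RW1
import Cfsg.Agent.Lib.Helper50_Sp4E_RW2

/-!
# S5789 package RA2a (helper88, architect helper67): an irrational element of the radical
`Q_{e₁}` gives an irrational root element (`radical_split`, `irrational_of_radical`).
-/

set_option autoImplicit false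
set_option linter.unusedSectionVars false
set_option linter.unusedVariables false

open Cfsg.Agent.Lib.Helper94_Symp Cfsg.Agent.Lib.Helper38_SpSub1 Cfsg.Agent.Lib.Helper38_SpSub2
  Cfsg.Agent.Lib.Helper98_ExtDefs Cfsg.Agent.Lib.Helper67_Sp4Defs
  Cfsg.Agent.Lib.Helper64_Sp4E_XQ Cfsg.Agent.Lib.Helper50_Sp4E_RW1 Cfsg.Agent.Lib.Helper50_Sp4E_RW2

namespace Cfsg.Agent.Lib.Helper88_Sp4E_RA2a

variable {F V : Type*} [Field F] [AddCommGroup V] [Module F V] [CharP F 2] [Finite F]
variable {B : LinearMap.BilinForm F V} (hB : B.IsAlt)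
variable {F₀ : Subfield F}
variable {b : Module.Basis (Fin 2 ⊕ Fin 2) F V} (hb : IsSymp B b)
variable {S : Subgroup (V ≃ₗ[F] V)} (hS : IsRatGroup b B F₀ S)

include hB hb hS

variable {X : Subgroup (V ≃ₗ[F] V)} (hSX : S ⊓ isoGroup B ≤ X) (hXI : X ≤ isoGroup B)

include hSX hXI

/-- the three-fold product `x (g x g⁻¹) (g² x g⁻²)` for an isometry `g` fixing `w` with
`g² a = a + g a` -/
theorem triple_prod {w a : V} {c : F} (haw : B a w = 0) {g : V ≃ₗ[F] V} (hg : g ∈ isoGroup B)
    (hgw : g w = w) (hgg : g (g a) = a + g a) :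
    xq B hB w a c * (g * xq B hB w a c * g⁻¹) * (g * (g * xq B hB w a c * g⁻¹) * g⁻¹) =
      stv B hB w (c + B a (g a)) := by
  have h1 : B (g a) w = 0 := by
    have := hg a w
    rw [hgw] at this
    rw [this, haw]
  have h2 : B (a + g a) w = 0 := by
    rw [map_add, LinearMap.add_apply, haw, h1, add_zero]
  rw [conj_xq B hB hg, conj_xq B hB hg, hgw, hgw, hgg, xq_mul B hB haw h1, xq_mul B hB h2 h2,
    two_smul_zero' F (a + g a), hB (a + g a), CharTwo.add_self_eq_zero, xq_zero, zero_add,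
    add_zero, add_comm]

/-- one half of `radical_split` -/
theorem half {α β c : F}
    (hx : xq B hB (b (Sum.inl 0)) (α • b (Sum.inl 1) + β • b (Sum.inr 1)) c ∈ X) :
    c + (α * α + α * β + β * β) ∈ longSet B hB b X ∧
      stv B hB (b (Sum.inl 1) + α • b (Sum.inl 0)) 1 ∈ X ∧
      xq B hB (b (Sum.inl 0)) (β • b (Sum.inl 1) + α • b (Sum.inr 1)) c ∈ X := by
  have G := gram (F := F) hb
  -- Gram values
  have g01 : B (b (Sum.inl 1)) (b (Sum.inl 0)) = 0 := by rw [G]; simp
  have g10 : B (b (Sum.inl 0)) (b (Sum.inl 1)) = 0 := by rw [G]; simp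
  have g21 : B (b (Sum.inr 1)) (b (Sum.inl 0)) = 0 := by rw [G]; simp
  have g0f : B (b (Sum.inl 1)) (b (Sum.inr 0)) = 0 := by rw [G]; simp
  have g2f : B (b (Sum.inr 1)) (b (Sum.inr 0)) = 0 := by rw [G]; simp
  have gef : B (b (Sum.inl 1)) (b (Sum.inr 1)) = 1 := by rw [G]; simp
  have gfe : B (b (Sum.inr 1)) (b (Sum.inl 1)) = 1 := by rw [G]; simp
  have gee : B (b (Sum.inl 1)) (b (Sum.inl 1)) = 0 := hB _
  have gff : B (b (Sum.inr 1)) (b (Sum.inr 1)) = 0 := hB _
  have r0 : Rat b B F₀ (b (Sum.inl 1)) := rat_basis hb F₀ _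
  have r1 : Rat b B F₀ (b (Sum.inr 1)) := rat_basis hb F₀ _
  -- the rational element of order three
  obtain ⟨g, hgSI, hg1, hg2, hg3, hg4⟩ := exists_rat_plane hB hb hS (a := b (Sum.inr 1))
    (a' := b (Sum.inl 1) + b (Sum.inr 1)) r1 (rat_add F₀ r0 r1) g21 g2f
    (by rw [map_add, LinearMap.add_apply, g01, g21, add_zero])
    (by rw [map_add, LinearMap.add_apply, g0f, g2f, add_zero])
    (by rw [map_add, gfe, gff, add_zero])
  -- the rational swap
  obtain ⟨s, hsSI, hs1, hs2, hs3, hs4⟩ := exists_rat_plane hB hb hS (a := b (Sum.inr 1))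
    (a' := b (Sum.inl 1)) r1 r0 g21 g2f g01 g0f gfe
  have hgX : g ∈ X := hSX hgSI
  have hsX : s ∈ X := hSX hsSI
  have hgI : g ∈ isoGroup B := hgSI.2
  have hsI : s ∈ isoGroup B := hsSI.2
  set e1 := b (Sum.inl 0) with he1
  set e2 := b (Sum.inl 1) with he2
  set f2 := b (Sum.inr 1) with hf2
  set a : V := α • e2 + β • f2 with ha
  have haw : B a e1 = 0 := by
    rw [ha, map_add, LinearMap.add_apply, map_smul, map_smul, LinearMap.smul_apply,
      LinearMap.smul_apply, g01, g21, smul_zero, smul_zero, add_zero]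
  have hga : g a = α • f2 + β • (e2 + f2) := by
    rw [ha, map_add, map_smul, map_smul, hg3, hg4]
  have hgga : g (g a) = α • (e2 + f2) + β • (f2 + (e2 + f2)) := by
    rw [hga, map_add, map_smul, map_smul, map_add, hg3, hg4]
  have hgg : g (g a) = a + g a := by
    rw [hgga, hga, ha]
    module
  have hN : B a (g a) = α * α + α * β + β * β := by
    rw [hga, ha]
    simp only [map_add, map_smul, LinearMap.add_apply, LinearMap.smul_apply, smul_eq_mul, gef, gfe,
      gee, gff]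
    ring
  -- (1) the long root parameter
  have hx1 : g * xq B hB e1 a c * g⁻¹ ∈ X := X.mul_mem (X.mul_mem hgX hx) (X.inv_mem hgX)
  have hx2 : g * (g * xq B hB e1 a c * g⁻¹) * g⁻¹ ∈ X :=
    X.mul_mem (X.mul_mem hgX hx1) (X.inv_mem hgX)
  have hlong : stv B hB e1 (c + (α * α + α * β + β * β)) ∈ X := by
    rw [← hN, ← triple_prod hB hb hS hSX hXI haw hgI hg1 hgg]
    exact X.mul_mem (X.mul_mem hx hx1) hx2
  -- x' = xq e1 a N
  have hx' : xq B hB e1 a (α * α + α * β + β * β) ∈ X := by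
    have h0 : B (0 : V) e1 = 0 := by rw [map_zero, LinearMap.zero_apply]
    have := X.mul_mem hx hlong
    rw [← xq_zero B hB, xq_mul B hB haw h0, add_zero, map_zero, add_zero, ← add_assoc,
      CharTwo.add_self_eq_zero, zero_add] at this
    exact this
  -- conjugates of x'
  have hsa : s a = α • f2 + β • e2 := by
    rw [ha, map_add, map_smul, map_smul, hs3, hs4]
  have hy1 : xq B hB e1 (s a) (α * α + α * β + β * β) ∈ X := by
    have := X.mul_mem (X.mul_mem hsX hx') (X.inv_mem hsX)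
    rwa [conj_xq B hB hsI, hs1] at this
  have hy2 : xq B hB e1 (g (g a)) (α * α + α * β + β * β) ∈ X := by
    have h1 := X.mul_mem (X.mul_mem hgX hx') (X.inv_mem hgX)
    have h2 := X.mul_mem (X.mul_mem hgX h1) (X.inv_mem hgX)
    rwa [conj_xq B hB hgI, conj_xq B hB hgI, hg1, hg1] at h2
  have hsaw : B (s a) e1 = 0 := by
    have := hsI a e1
    rw [hs1] at this
    rw [this, haw]
  have hggaw : B (g (g a)) e1 = 0 := by
    have h1 := hgI (g a) e1
    have h2 := hgI a e1
    rw [hg1] at h1 h2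
    rw [h1, h2, haw]
  have hsum : s a + g (g a) = α • e2 := by
    rw [hsa, hgga]
    have h1 := two_smul_zero α f2
    have h2 := two_smul_zero β e2
    have h3 := two_smul_zero β f2
    linear_combination (norm := module) h1 + h2 + h3
  have hB2 : B (s a) (g (g a)) = α * α := by
    rw [hsa, hgga]
    simp only [map_add, map_smul, LinearMap.add_apply, LinearMap.smul_apply, smul_eq_mul, gef, gfe,
      gee, gff]
    have h2 : (2 : F) = 0 := CharTwo.two_eq_zero
    linear_combination (α * β + β * β) * h2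
  have hy : xq B hB e1 (α • e2) (α * α) ∈ X := by
    have := X.mul_mem hy1 hy2
    rwa [xq_mul B hB hsaw hggaw, hsum, hB2, CharTwo.add_self_eq_zero, zero_add] at this
  -- the transvection
  have hstv2 : stv B hB e2 1 ∈ X := hSX (stv_rat_mem hB hb hS r0 F₀.one_mem)
  have hkey : stv B hB (e2 + α • e1) 1 * stv B hB e2 1 = xq B hB e1 (α • e2) (α * α) := by
    rw [stv_add_eq B hB g10 α 1, one_mul, T_smul_swap B hB g10, T_comm B hB
      (by rw [map_smul, smul_eq_mul, g10, mul_zero] : B e1 (α • e2) = 0)]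
    rfl
  refine ⟨hlong, ?_, ?_⟩
  · have := X.mul_mem hy (X.inv_mem hstv2)
    rwa [← hkey, mul_inv_cancel_right] at this
  · have := X.mul_mem (X.mul_mem hsX hx) (X.inv_mem hsX)
    rw [conj_xq B hB hsI, hs1, hsa, add_comm] at this
    exact this

/-- `N(α, β) = α² + αβ + β²`; the `S₃`-projections in the radical `Q_{e₁}` -/
theorem radical_split {α β c : F}
    (hx : xq B hB (b (Sum.inl 0)) (α • b (Sum.inl 1) + β • b (Sum.inr 1)) c ∈ X) :
    c + (α * α + α * β + β * β) ∈ longSet B hB b X ∧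
      stv B hB (b (Sum.inl 1) + α • b (Sum.inl 0)) 1 ∈ X ∧
      stv B hB (b (Sum.inl 1) + β • b (Sum.inl 0)) 1 ∈ X := by
  obtain ⟨h1, h2, h3⟩ := half hB hb hS hSX hXI hx
  obtain ⟨-, h4, -⟩ := half hB hb hS hSX hXI h3
  exact ⟨h1, h2, h4⟩

theorem irrational_of_radical {a : V} {c : F} (ha : B a (b (Sum.inl 0)) = 0)
    (hx : xq B hB (b (Sum.inl 0)) a c ∈ X) (hns : xq B hB (b (Sum.inl 0)) a c ∉ S) :
    (∃ c' ∈ longSet B hB b X, c' ∉ F₀) ∨
      ∃ α : F, α ∉ F₀ ∧ stv B hB (b (Sum.inl 1) + α • b (Sum.inl 0)) 1 ∈ X := by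
  have G := gram (F := F) hb
  have g01 : B (b (Sum.inl 1)) (b (Sum.inl 0)) = 0 := by rw [G]; simp
  have g21 : B (b (Sum.inr 1)) (b (Sum.inl 0)) = 0 := by rw [G]; simp
  -- coordinates of `a`
  have hexp := expand hb a
  rw [Fintype.sum_sum_type, Fin.sum_univ_two, Fin.sum_univ_two] at hexp
  simp only [sg_eq_one, one_mul, Sum.swap_inl, Sum.swap_inr, ha, zero_smul] at hexp
  set α := B a (b (Sum.inr 1)) with hα
  set β := B a (b (Sum.inl 1)) with hβ
  set γ := B a (b (Sum.inr 0)) with hγ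
  set a' : V := α • b (Sum.inl 1) + β • b (Sum.inr 1) with ha'
  have ha'w : B a' (b (Sum.inl 0)) = 0 := by
    rw [ha', map_add, LinearMap.add_apply, map_smul, map_smul, LinearMap.smul_apply,
      LinearMap.smul_apply, g01, g21, smul_zero, smul_zero, add_zero]
  have haa' : a = a' + γ • b (Sum.inl 0) := by
    rw [ha']
    conv_lhs => rw [hexp]
    module
  have hxq : xq B hB (b (Sum.inl 0)) a c = xq B hB (b (Sum.inl 0)) a' c := by
    rw [haa', xq_add_smul B hB ha'w]
  rw [hxq] at hx hns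
  obtain ⟨h1, h2, h3⟩ := radical_split hB hb hS hSX hXI hx
  by_cases hc : c + (α * α + α * β + β * β) ∈ F₀
  · by_cases hαF : α ∈ F₀
    · by_cases hβF : β ∈ F₀
      · exfalso
        apply hns
        have hNF : α * α + α * β + β * β ∈ F₀ :=
          F₀.add_mem (F₀.add_mem (F₀.mul_mem hαF hαF) (F₀.mul_mem hαF hβF)) (F₀.mul_mem hβF hβF)
        have hcF : c ∈ F₀ := by
          have := F₀.sub_mem hc hNF
          rwa [add_sub_cancel_right] at this
        have hra' : Rat b B F₀ a' :=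
          rat_add F₀ (rat_smul F₀ hαF (rat_basis hb F₀ _)) (rat_smul F₀ hβF (rat_basis hb F₀ _))
        have hre : Rat b B F₀ (b (Sum.inl 0)) := rat_basis hb F₀ _
        apply mem_S_of_rat hB hb hS
        intro v hv
        rw [xq_apply B hB ha'w]
        exact rat_add F₀ (rat_add F₀ (rat_add F₀ hv (rat_smul F₀ (rat_pair hb F₀ hv hra') hre))
          (rat_smul F₀ (rat_pair hb F₀ hv hre) hra'))
          (rat_smul F₀ (F₀.mul_mem hcF (rat_pair hb F₀ hv hre)) hre)
      · exact Or.inr ⟨β, hβF, h3⟩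
    · exact Or.inr ⟨α, hαF, h2⟩
  · exact Or.inl ⟨_, h1, hc⟩

end Cfsg.Agent.Lib.Helper88_Sp4E_RA2a
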