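import Mathlib
import Cfsg.Agent.Lib.Helper67_Sp4Defs
import Cfsg.Agent.Lib.Helper38_SpSub9
import Cfsg.Agent.Lib.Helper64_Sp4E_RALG
import Cfsg.Agent.Lib.Helper63_Sp4E_RRA
import Cfsg.Agent.Lib.Helper63_Sp4E_RA1c
import Cfsg.Agent.Lib.Helper81_Sp4E_RA1a
import Cfsg.Agent.Lib.Helper58_Sp4E_RRB
import Cfsg.Agent.Lib.Helper58_Sp4E_RA2b
import Cfsg.Agent.Lib.Helper88_Sp4E_RA2a

set_option autoImplicit false
set_option linter.unusedSectionVars false
set_option linter.unusedVariables false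

open Cfsg.Agent.Lib.Helper94_Symp Cfsg.Agent.Lib.Helper38_SpSub1 Cfsg.Agent.Lib.Helper38_SpSub2
  Cfsg.Agent.Lib.Helper38_SpSub3 Cfsg.Agent.Lib.Helper38_SpSub4 Cfsg.Agent.Lib.Helper38_SpSub9
  Cfsg.Agent.Lib.Helper67_Sp4Defs Cfsg.Agent.Lib.Helper64_Sp4E_RALG Cfsg.Agent.Lib.Helper63_Sp4E_RRA
  Cfsg.Agent.Lib.Helper63_Sp4E_RA1c Cfsg.Agent.Lib.Helper81_Sp4E_RA1a Cfsg.Agent.Lib.Helper58_Sp4E_RRB
  Cfsg.Agent.Lib.Helper58_Sp4E_RA2b Cfsg.Agent.Lib.Helper88_Sp4E_RA2a

/-!
# S5789, part (4): the rational symplectic group `Sp_4(F₀)` is maximal in `Sp_4(F)`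
(characteristic two, `[F : F₀]` prime); abstract version in the setting of `Helper38_SpSub`.
-/

namespace Cfsg.Agent.Lib.Helper67_Sp4E_Main4

variable {F V : Type*} [Field F] [AddCommGroup V] [Module F V] [CharP F 2] [Finite F]
variable {B : LinearMap.BilinForm F V} (hB : B.IsAlt)
variable {F₀ : Subfield F}
variable {b : Module.Basis (Fin 2 ⊕ Fin 2) F V} (hb : IsSymp B b)
variable {S : Subgroup (V ≃ₗ[F] V)} (hS : IsRatGroup b B F₀ S)

include hB hb hS in
theorem maximal_rat2 (hp : (Module.finrank F₀ F).Prime) :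
    (S ⊓ isoGroup B < isoGroup B) ∧
      ∀ X : Subgroup (V ≃ₗ[F] V), S ⊓ isoGroup B ≤ X → X ≤ isoGroup B →
        X = S ⊓ isoGroup B ∨ X = isoGroup B := by
  constructor
  · have hex : ∃ l : F, l ∉ F₀ := by
      by_contra hcon
      push Not at hcon
      have := Subalgebra.isSimpleOrder_of_finrank_prime F₀ F hp
      have : (⊥ : Subalgebra F₀ F) = ⊤ := by
        ext x
        simp only [Algebra.mem_bot, Algebra.mem_top, iff_true]
        exact ⟨⟨x, hcon x⟩, rfl⟩
      exact bot_ne_top this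
    obtain ⟨l, hl⟩ := hex
    exact proper hB hb hS hl
  · intro X hSX hXI
    by_cases hyp : ∀ (a : V) (c : F), B a (b (Sum.inl 0)) = 0 →
        xq B hB (b (Sum.inl 0)) a c ∈ X → xq B hB (b (Sum.inl 0)) a c ∈ S
    · left
      apply le_antisymm _ hSX
      have h1 : X ≤ S := le_S_of_fix hB hb hS hSX hXI
        (fun k hk hke => fix_e1 hB hb hS hSX hXI hyp hk hke)
      exact le_inf h1 hXI
    · right
      push Not at hyp
      obtain ⟨a, c, ha, hx, hns⟩ := hyp
      have hirr : ∃ c ∈ shortSet B hB b X, c ∉ F₀ := by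
        rcases irrational_of_radical hB hb hS hSX hXI ha hx hns with ⟨c', hc', hc'0⟩ | ⟨α, hα, hst⟩
        · exact ⟨c', long_le_short hB hb hS hSX hXI hc', hc'0⟩
        · exact irrational_of_skew hB hb hS hSX hXI hα hst
      have hall : ∀ c : F, c ∈ shortSet B hB b X :=
        alg_core F₀ hp (shortSet B hB b X) (longSet B hB b X)
          (fun c hc => long_rat hB hb hS hSX hXI hc)
          (fun c hc d hd => short_add hB hb hS hSX hXI hc hd)
          (fun μ hμ c hc => short_smul hB hb hS hSX hXI hμ hc)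
          (fun t ht => long_le_short hB hb hS hSX hXI ht)
          (fun s hs => sq_short_long hB hb hS hSX hXI hs)
          (fun s hs t ht => rel1 hB hb hS hSX hXI hs ht) hirr
      have hR : ∀ c : F, c ∈ Rset hB b X := fun c x z hxz =>
        (short_iff hB hb hS hSX hXI x z hxz c).mpr (hall c)
      exact le_antisymm hXI (iso_le_of_Rset hB hb hS hSX hR (by simp))

end Cfsg.Agent.Lib.Helper67_Sp4E_Main4
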