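import Mathlib
import Cfsg.Prelude.Def_GeometricClasses
import Cfsg.Agent.Lib.Helper67_SpAschRows

set_option autoImplicit false

namespace Cfsg.Agent.Lib.Helper67_Sp4Even

open Matrix Module Cfsg.Geo
open Cfsg.Agent.Lib.Helper67_SpAschMax Cfsg.Agent.Lib.Helper67_SpAschMaxB Cfsg.Agent.Lib.Helper67_SpAschRows

theorem sp4_even {F : Type*} [Field F] [Fintype F] (hA : SpAschHyp 2 F)
    (heven : ¬ Odd (Fintype.card F)) (h4 : 4 ≤ Fintype.card F) (H : Subgroup (Matrix.GeneralLinearGroup (Fin 2 ⊕ Fin 2) F)) (hH : Cfsg.Geo.IsMaximalIn (Cfsg.spGL 2 F) H) :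
    (∃ W : Submodule F (Fin 2 ⊕ Fin 2 → F), W ≠ ⊥ ∧ Cfsg.Geo.IsTotallySingularFor (Cfsg.sympForm 2 F) W ∧ H = Cfsg.Geo.subspaceStabilizer W ⊓ Cfsg.spGL 2 F) ∨
    (∃ D : Fin 2 → Submodule F (Fin 2 ⊕ Fin 2 → F), Cfsg.Geo.IsNondegenerateMDecomposition (Cfsg.sympForm 2 F) 2 D ∧ H = Cfsg.Geo.decompositionStabilizer D ⊓ Cfsg.spGL 2 F) ∨
    (∃ K : Subalgebra F (Matrix (Fin 2 ⊕ Fin 2) (Fin 2 ⊕ Fin 2) F), Cfsg.Geo.IsFieldSubalgebra 2 K ∧ Cfsg.Geo.IsSelfAdjointFor (Cfsg.sympForm 2 F) K ∧ (∀ k ∈ K, ∀ v : (Fin 2 ⊕ Fin 2 → F), (Cfsg.sympForm 2 F) (Matrix.mulVec k v) v = 0) ∧ H = Cfsg.Geo.subalgebraNormalizer K ⊓ Cfsg.spGL 2 F) ∨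
    (∃ (F₀ : Subfield F) (r : ℕ) (P : Matrix.GeneralLinearGroup (Fin 2 ⊕ Fin 2) F) (ζ : F), r.Prime ∧ Fintype.card F = Nat.card F₀ ^ r ∧ ζ ≠ 0 ∧ Cfsg.Geo.IsFormRationalStructure (Cfsg.sympForm 2 F) F₀ ζ P ∧ H = Cfsg.Geo.subfieldSubgroup F₀ P ⊓ Cfsg.spGL 2 F) ∨
    (∃ Q : (Fin 2 ⊕ Fin 2 → F) → F, Cfsg.Geo.IsNondegenerateQuadraticForm Q ∧ (∀ u v : (Fin 2 ⊕ Fin 2 → F), QuadraticMap.polar Q u v = (Cfsg.sympForm 2 F) u v) ∧ H = Cfsg.Geo.quadSimilarityGroup Q ⊓ Cfsg.spGL 2 F) ∨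
    Cfsg.Geo.InSymplecticResidualClass H := by
  have hex : ¬ ((2 : ℕ) = 2 ∧ Fintype.card F = 2) := by
    rintro ⟨-, h⟩; omega
  have h6 : ∀ (R : Subgroup (GL (Fin 2 ⊕ Fin 2) F)) (p k : ℕ), IsClass6 2 F R p k →
      ¬ Cfsg.spGL 2 F ≤ subgroupNormalizer R := by
    rintro R p k ⟨-, -, -, -, hp, hc, -⟩
    exact absurd (hc ▸ hp) heven
  rcases max_cases (le_refl 2) hex hA h6 hH with hM | hres
  swap
  · exact Or.inr (Or.inr (Or.inr (Or.inr (Or.inr hres))))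
  rcases hM with (⟨W, hW0, hWs, hMX⟩ | ⟨W, hW0, hWn, hWr, hMX⟩ | ⟨t, k, D, hD, hMX⟩ | ⟨D, hodd, hD, hDs, hMX⟩ |
      ⟨F₀, r, P, ζ, hr, hcard, hζ, hrat, hMX⟩ | ⟨R, p, k, h1, h2, h3, h4', h5, h6', h7, h8, h9, hMX⟩ |
      ⟨Q, heven', hQ, hpol, hMX⟩) |
    ⟨r, K, hr, hK, hsa, hkv, hMX⟩ | ⟨K, hodd, hK, hac, hnsa, hMX⟩ |
    ⟨n₁, n₂, e, P, f₁, f₂, hodd, hn₂, hf₁, hf₂, hT, hMX⟩ | ⟨k, t, e, P, f₁, hodd, htodd, ht, hne32, hf₁, hT, hMX⟩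
  · exact Or.inl ⟨W, hW0, hWs, hMX⟩
  · exact absurd (eq_bot_of_nondegenerateOn_of_lt_two hWn hWr) hW0
  · have hc := decomp_card hD.decomp
    obtain ⟨a, ha⟩ := decomp_even hD
    have hk := hD.decomp.pos
    have ht := hD.decomp.two_le
    have hk2' : 2 ≤ k := by omega
    have hk2 : k = 2 := by nlinarith
    have ht2 : t = 2 := by subst hk2; omega
    subst hk2 ht2
    exact Or.inr (Or.inl ⟨D, hD, hMX⟩)
  · exact absurd hodd heven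
  · exact Or.inr (Or.inr (Or.inr (Or.inl ⟨F₀, r, P, ζ, hr, hcard, hζ, hrat, hMX⟩)))
  · exact absurd (h6' ▸ h5) heven
  · exact Or.inr (Or.inr (Or.inr (Or.inr (Or.inl ⟨Q, hQ, hpol, hMX⟩))))
  · have hdvd := fieldSubalgebra_dvd (by norm_num) hK
    have hr2 : r = 2 := by
      have : r ∣ 2 ^ 2 := by simpa using hdvd
      exact (Nat.prime_dvd_prime_iff_eq hr Nat.prime_two).mp (hr.dvd_of_dvd_pow this)
    subst hr2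
    exact Or.inr (Or.inr (Or.inl ⟨K, hK, hsa, hkv, hMX⟩))
  · exact absurd hodd heven
  · exact absurd hodd heven
  · exact absurd hodd heven

end Cfsg.Agent.Lib.Helper67_Sp4Even
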