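import Mathlib
import Cfsg.Prelude.Def_GeometricClasses
import Cfsg.Agent.Lib.Helper67_SpAschMax
import Cfsg.Agent.Lib.Helper67_SpAschRows
import Cfsg.Agent.Lib.Helper39_QSDefs
import Cfsg.Agent.Lib.Helper52_SUG_G7

/-!
helper67: the symplectic group `spGL m F` has the abstract properties `QS` of helper39's vocabulary
(perfect, normalized subgroups are scalar or everything, irreducible, contains a transvection); hence it is
contained in no normalizer of an irreducible subgroup of the similarity group that does not contain it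
(class 6 of the symplectic case).
-/

set_option autoImplicit false

namespace Cfsg.Agent.Lib.Helper67_SpQS

open Matrix Cfsg.Geo
open Cfsg.Agent.Lib.Helper13_Symp Cfsg.Agent.Lib.Helper13_SympTrans Cfsg.Agent.Lib.Helper67_SpAschMax
  Cfsg.Agent.Lib.Helper39_QSDefs Cfsg.Agent.Lib.Helper5_PSpSimple
open scoped commutatorElement

variable {F : Type*} [Field F] {m : ℕ}

/-- the inclusion of Mathlib's symplectic group into `GL` -/
noncomputable def sympHom (m : ℕ) (F : Type*) [Field F] :
    Matrix.symplecticGroup (Fin m) F →* GL (Fin m ⊕ Fin m) F :=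
  (Cfsg.spGL m F).subtype.comp (toSpGL m)

lemma sympHom_apply (A : Matrix.symplecticGroup (Fin m) F) : sympHom m F A = sympToGL A := rfl

lemma range_sympHom : (sympHom m F).range = Cfsg.spGL m F := spGL_eq_range.symm

lemma sympHom_injective : Function.Injective (sympHom m F) := by
  intro A B h
  apply Subtype.ext
  have := congrArg (fun g : GL (Fin m ⊕ Fin m) F => (g : Matrix (Fin m ⊕ Fin m) (Fin m ⊕ Fin m) F)) h
  exact this

/-- an element of `GL` commuting with all symplectic transvections is a scalar -/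
lemma mem_scalars_of_commute_tvSp (hm : 0 < m) (x : GL (Fin m ⊕ Fin m) F)
    (h : ∀ u : Fin m ⊕ Fin m → F, tvSp u 1 * x = x * tvSp u 1) : x ∈ scalars (Fin m ⊕ Fin m) F := by
  have : Nonempty (Fin m ⊕ Fin m) := ⟨Sum.inl ⟨0, hm⟩⟩
  obtain ⟨c, hc⟩ := eq_smul_one_of_commute_tvSp hm (x : Matrix (Fin m ⊕ Fin m) (Fin m ⊕ Fin m) F)
    (fun u => by
      have := congrArg (fun g : GL (Fin m ⊕ Fin m) F => (g : Matrix (Fin m ⊕ Fin m) (Fin m ⊕ Fin m) F)) (h u)
      simpa [Units.val_mul] using this)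
  have hc0 : c ≠ 0 := by
    rintro rfl
    rw [zero_smul] at hc
    exact (Units.ne_zero x) hc
  rw [mem_scalars_iff]
  exact ⟨Units.mk0 c hc0, hc⟩

/-- a subgroup of `Sp_2m(F)` normalized by `Sp_2m(F)` is scalar or everything -/
theorem le_scalars_or_eq [Fintype F] (hm : 2 ≤ m) (hq : m = 2 → 3 ≤ Fintype.card F)
    {K : Subgroup (GL (Fin m ⊕ Fin m) F)} (hK : K ≤ Cfsg.spGL m F)
    (hnorm : ∀ s ∈ Cfsg.spGL m F, ∀ x ∈ K, s * x * s⁻¹ ∈ K) :
    K ≤ scalars (Fin m ⊕ Fin m) F ∨ K = Cfsg.spGL m F := by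
  classical
  let K' : Subgroup (Matrix.symplecticGroup (Fin m) F) := K.comap (sympHom m F)
  have hK'n : K'.Normal := ⟨fun x hx g => by
    show sympHom m F (g * x * g⁻¹) ∈ K
    rw [map_mul, map_mul, map_inv]
    exact hnorm _ (sympToGL_mem g) _ hx⟩
  have hsimple := psp_simple (F := F) m hm hq
  have hperf : commutator (Matrix.symplecticGroup (Fin m) F) = ⊤ := by
    apply Cfsg.Agent.Lib.Helper5_SpPerfect.sp_perfect
    rcases Nat.lt_or_ge 2 m with h3 | h3
    · left; omega
    · right; left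
      have : m = 2 := by omega
      exact ⟨this, hq this⟩
  have hmapn : (K'.map (QuotientGroup.mk' (Subgroup.center (Matrix.symplecticGroup (Fin m) F)))).Normal :=
    Subgroup.Normal.map hK'n _ (QuotientGroup.mk'_surjective _)
  rcases hmapn.eq_bot_or_eq_top with h | h
  · left
    have hle : K' ≤ Subgroup.center (Matrix.symplecticGroup (Fin m) F) := by
      rw [Subgroup.map_eq_bot_iff, QuotientGroup.ker_mk'] at h
      exact h
    intro x hx
    obtain ⟨A, rfl⟩ : ∃ A, sympHom m F A = x := by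
      have := hK hx
      rw [← range_sympHom] at this
      exact this
    have hA : A ∈ Subgroup.center (Matrix.symplecticGroup (Fin m) F) := hle hx
    apply mem_scalars_of_commute_tvSp (by omega)
    intro u
    have := Subgroup.mem_center_iff.mp hA (transv m u 1)
    have h2 := congrArg (sympHom m F) this
    rw [map_mul, map_mul] at h2
    exact h2
  · right
    have hsup : K' ⊔ Subgroup.center (Matrix.symplecticGroup (Fin m) F) = ⊤ := by
      have := congrArg (Subgroup.comap
        (QuotientGroup.mk' (Subgroup.center (Matrix.symplecticGroup (Fin m) F)))) h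
      rw [Subgroup.comap_map_eq, QuotientGroup.ker_mk', Subgroup.comap_top] at this
      exact this
    have hcomm : ⁅(⊤ : Subgroup (Matrix.symplecticGroup (Fin m) F)), ⊤⁆ ≤ K' :=
      Cfsg.Agent.Lib.Helper30_AschMax.commutator_le_of_le_sup_central
        (Z := Subgroup.center (Matrix.symplecticGroup (Fin m) F))
        (fun z hz g => (Subgroup.mem_center_iff.mp hz g).symm) (by rw [hsup])
    rw [← commutator_def, hperf] at hcomm
    apply le_antisymm hK
    rw [← range_sympHom]
    rintro _ ⟨A, rfl⟩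
    exact hcomm (Subgroup.mem_top A)

/-- `Sp_2m(F)` has the abstract properties `QS` -/
theorem qs_spGL [Fintype F] (hm : 2 ≤ m) (hex : ¬ (m = 2 ∧ Fintype.card F = 2)) : QS (Cfsg.spGL m F) := by
  classical
  have hq : m = 2 → 3 ≤ Fintype.card F := by
    intro h2
    have := Fintype.one_lt_card (α := F)
    by_contra hlt
    exact hex ⟨h2, by omega⟩
  have hperf : 3 ≤ m ∨ (m = 2 ∧ 3 ≤ Fintype.card F) ∨ 4 ≤ Fintype.card F := by
    by_cases h3 : 3 ≤ m
    · exact Or.inl h3
    · right; left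
      have h2 : m = 2 := by omega
      exact ⟨h2, hq h2⟩
  let u₀ : Fin m ⊕ Fin m → F := Pi.single (Sum.inl ⟨0, by omega⟩) 1
  have hu₀ : u₀ ≠ 0 := by
    intro h
    have := congrFun h (Sum.inl ⟨0, by omega⟩)
    simp [u₀] at this
  refine ⟨commutator_spGL hperf, fun K hK hn => le_scalars_or_eq hm hq hK hn, ?_, ?_⟩
  · intro W hW
    by_cases hW0 : W = ⊥
    · exact Or.inl hW0
    right
    rw [eq_top_iff]
    intro y _
    by_cases hy : y = 0
    · rw [hy]; exact W.zero_mem
    obtain ⟨w, hwW, hw0⟩ := Submodule.exists_mem_ne_zero_of_ne_bot hW0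
    obtain ⟨g, hg, hgw⟩ := exists_spGL_map w y hw0 hy
    rw [← hgw]
    exact hW g hg w hwW
  · refine ⟨tvSp u₀ 1, tvSp_mem u₀ 1, ?_, formLin u₀, ?_, ?_⟩
    · intro hsc
      obtain ⟨c, hc⟩ := (mem_scalars_iff _).mp hsc
      obtain ⟨x, hx⟩ := exists_form_eq_one hu₀
      have h1 := tvSp_mulVec u₀ 1 x
      rw [hc, Matrix.smul_mulVec, Matrix.one_mulVec, hx, one_mul, one_smul] at h1
      -- apply the form against `u₀`
      have h2 := congrArg (fun v => Cfsg.sympForm m F v u₀) h1
      simp only [sympForm_smul_left, sympForm_add_left, sympForm_self, hx, add_zero, mul_one] at h2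
      -- so `c = 1`, hence `u₀ = 0`
      rw [h2, one_smul] at h1
      exact hu₀ (by simpa using h1)
    · intro h
      obtain ⟨x, hx⟩ := exists_form_eq_one hu₀
      have := congrArg (fun φ : (Fin m ⊕ Fin m → F) →ₗ[F] F => φ x) h
      simp only [formLin_apply, hx, LinearMap.zero_apply] at this
      exact one_ne_zero this
    · intro x hx
      rw [formLin_apply] at hx
      rw [tvSp_mulVec, hx, mul_zero, zero_smul, add_zero]

/-- similarities of the symplectic form normalize the symplectic group -/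
lemma similarity_normalizes {x : GL (Fin m ⊕ Fin m) F} (hx : x ∈ similarityGroup (Cfsg.sympForm m F))
    {s : GL (Fin m ⊕ Fin m) F} (hs : s ∈ Cfsg.spGL m F) : x * s * x⁻¹ ∈ Cfsg.spGL m F := by
  obtain ⟨c, hc⟩ := hx
  obtain ⟨d, hd⟩ := (similarityGroup (Cfsg.sympForm m F)).inv_mem ⟨c, hc⟩
  intro u v
  show Cfsg.sympForm m F (((x * s * x⁻¹ : GL (Fin m ⊕ Fin m) F) : Matrix _ _ F) *ᵥ u)
    (((x * s * x⁻¹ : GL (Fin m ⊕ Fin m) F) : Matrix _ _ F) *ᵥ v) = _
  have hxx : ∀ w, ((x : Matrix (Fin m ⊕ Fin m) (Fin m ⊕ Fin m) F) *ᵥ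
      (((x⁻¹ : GL (Fin m ⊕ Fin m) F) : Matrix (Fin m ⊕ Fin m) (Fin m ⊕ Fin m) F) *ᵥ w)) = w := by
    intro w
    rw [Matrix.mulVec_mulVec, ← Units.val_mul, mul_inv_cancel, Units.val_one, Matrix.one_mulVec]
  have hs' := (mem_spGL_iff s).mp hs
  by_cases hne : ∃ u₁ u₂, Cfsg.sympForm m F u₁ u₂ ≠ 0
  · obtain ⟨u₁, u₂, hne⟩ := hne
    have hcd : (c : F) * (d : F) = 1 := by
      have h1 := hc (((x⁻¹ : GL (Fin m ⊕ Fin m) F) : Matrix _ _ F) *ᵥ u₁)
        (((x⁻¹ : GL (Fin m ⊕ Fin m) F) : Matrix _ _ F) *ᵥ u₂)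
      rw [hxx, hxx, hd] at h1
      have : ((c : F) * (d : F) - 1) * Cfsg.sympForm m F u₁ u₂ = 0 := by linear_combination -h1
      rcases mul_eq_zero.mp this with h | h
      · exact sub_eq_zero.mp h
      · exact absurd h hne
    simp only [Units.val_mul, ← Matrix.mulVec_mulVec]
    rw [hc, hs', hd, ← mul_assoc, hcd, one_mul]
  · push Not at hne
    rw [hne, hne]

lemma tvSp_pow_mulVec (u : Fin m ⊕ Fin m → F) (n : ℕ) (x : Fin m ⊕ Fin m → F) :
    (((tvSp u 1) ^ n : GL (Fin m ⊕ Fin m) F) : Matrix (Fin m ⊕ Fin m) (Fin m ⊕ Fin m) F) *ᵥ x =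
      x + ((n : F) * Cfsg.sympForm m F x u) • u := by
  induction n generalizing x with
  | zero => simp
  | succ n ih =>
    rw [pow_succ, Units.val_mul, ← Matrix.mulVec_mulVec, tvSp_mulVec, ih, sympForm_add_left,
      sympForm_smul_left, sympForm_self, mul_zero, add_zero, one_mul, add_assoc, ← add_smul]
    congr 2
    push_cast
    ring

open Cfsg.Agent.Lib.Helper67_SpAschRows in
/-- **class 6**: the symplectic group is not contained in the normalizer of a class-6 group -/
theorem class6_not_le [Fintype F] (hm : 2 ≤ m) (hex : ¬ (m = 2 ∧ Fintype.card F = 2))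
    {R : Subgroup (GL (Fin m ⊕ Fin m) F)} {p k : ℕ} (h : IsClass6 m F R p k) :
    ¬ Cfsg.spGL m F ≤ subgroupNormalizer R := by
  obtain ⟨hsymp, hirr, hsim, hp, hodd, hcard, -, -, -⟩ := h
  refine Cfsg.Agent.Lib.Helper52_SUG_G7.G7 (qs_spGL hm hex) hirr.1
    (fun x hx s hs => similarity_normalizes (hsim hx) hs) ?_
  intro hle
  let u₀ : Fin m ⊕ Fin m → F := Pi.single (Sum.inl ⟨0, by omega⟩) 1
  have hu₀ : u₀ ≠ 0 := by
    intro h
    have := congrFun h (Sum.inl ⟨0, by omega⟩)
    simp [u₀] at this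
  obtain ⟨j, hj⟩ := hsymp.pGroup ⟨tvSp u₀ 1, hle (tvSp_mem u₀ 1)⟩
  have hj' : (tvSp u₀ 1 : GL (Fin m ⊕ Fin m) F) ^ 2 ^ j = 1 := by
    have := congrArg (Subtype.val : R → GL (Fin m ⊕ Fin m) F) hj
    simpa using this
  obtain ⟨x, hx⟩ := exists_form_eq_one hu₀
  have h1 := tvSp_pow_mulVec u₀ (2 ^ j) x
  rw [hj', Units.val_one, Matrix.one_mulVec, hx, mul_one] at h1
  have h2 : ((2 ^ j : ℕ) : F) • u₀ = 0 := by
    have := h1.symm
    rwa [add_eq_left] at this
  have h3 : ((2 ^ j : ℕ) : F) = 0 := by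
    rcases smul_eq_zero.mp h2 with h | h
    · exact h
    · exact absurd h hu₀
  have h4 : (2 : F) = 0 := by
    push_cast at h3
    exact pow_eq_zero_iff (n := j) (by
      rintro rfl
      simp at h3) |>.mp h3
  -- characteristic two contradicts `|F| = p` odd
  have hchar : CharP F 2 := CharTwo.of_one_ne_zero_of_two_eq_zero one_ne_zero h4
  have h5 : (2 : ℕ) ∣ Fintype.card F := by
    have := FiniteField.even_card_of_char_two (F := F) (by
      exact (ringChar.eq F 2))
    omega
  rw [hcard] at h5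
  obtain ⟨a, ha⟩ := hodd
  omega

end Cfsg.Agent.Lib.Helper67_SpQS
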