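import Mathlib
import Cfsg.Agent.Lib.Helper29_SpExtBridge
import Cfsg.Agent.Lib.Helper29_SpExtDefs
import Cfsg.Agent.Lib.Helper29_SpExtMain
import Cfsg.Agent.Lib.Helper29_SpExtTrace
import Cfsg.Agent.Lib.Helper67_SpAschMax
import Cfsg.Agent.Lib.Helper94_Bridge
import Cfsg.Agent.Lib.Helper94_SLBridge
import Cfsg.Agent.Lib.Helper94_Symp
import Cfsg.Agent.Lib.Helper94_SympDecomp
import Cfsg.Agent.Lib.Helper94_SympNondeg
import Cfsg.Agent.Lib.Helper94_SympQuad
import Cfsg.Agent.Lib.Helper94_SympTI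
import Cfsg.Agent.Lib.Helper98_ExtDefs

set_option autoImplicit false
set_option linter.unusedVariables false

/-!
# Symplectic geometric rows with the dimension hypotheses of the underlying libraries (helper67)

Copies of the proofs of S5645, S5646, S5647, S5649, S5664, S5652 (generic rows, stated there for
`7 ≤ m`) with `hm` weakened to what the libraries need; used for the small rows (`Sp_10`, `Sp_12`).
-/

namespace Cfsg.Agent.Lib.Helper67_SpRowsGen

namespace R5645

open Cfsg


open Cfsg.Agent.Lib.Helper94_Symp Cfsg.Agent.Lib.Helper94_Bridge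

/-- For a finite field F and m ≥ 7, in the symplectic group Sp_2m(F) of the standard alternating form on F^(2m) (as a subgroup of GL_2m(F)), the stabiliser of any non-zero subspace on which the form vanishes identically is a maximal subgroup. -/
theorem sing_stab {F : Type*} [Field F] [Fintype F] (m : ℕ) (hm : 1 ≤ m) (W : Submodule F (Fin m ⊕ Fin m → F)) (hW0 : W ≠ ⊥) (hW : Cfsg.Geo.IsTotallySingularFor (Cfsg.sympForm m F) W) : Cfsg.Geo.IsMaximalIn (Cfsg.spGL m F) (Cfsg.Geo.subspaceStabilizer W ⊓ Cfsg.spGL m F) := by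
  rw [spGL_eq, subspaceStabilizer_eq, ← Subgroup.comap_inf]
  apply isMaximalIn_comap
  apply maximal_stab_totally_isotropic (Bsymp m F) (Bsymp_isAlt m) (Bsymp_nondegenerate m) W hW0
  intro u hu v hv
  rw [Bsymp_apply]
  exact hW u hu v hv


end R5645

namespace R5646

open Cfsg


open Cfsg.Agent.Lib.Helper94_Symp Cfsg.Agent.Lib.Helper94_Bridge Cfsg.Agent.Lib.Helper94_SympNondeg

/-- For a finite field F and m ≥ 7, in the symplectic group Sp_2m(F) of the standard alternating form on F^(2m), the stabiliser of any non-zero subspace W on which the form is non-degenerate and with dim W < m is a maximal subgroup. -/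
theorem nondeg_stab {F : Type*} [Field F] [Fintype F] (m : ℕ) (hm : 1 ≤ m) (W : Submodule F (Fin m ⊕ Fin m → F)) (hW0 : W ≠ ⊥) (hW : Cfsg.Geo.IsNondegenerateOn (Cfsg.sympForm m F) W) (hdim : Module.finrank F W < m) : Cfsg.Geo.IsMaximalIn (Cfsg.spGL m F) (Cfsg.Geo.subspaceStabilizer W ⊓ Cfsg.spGL m F) := by
  rw [spGL_eq, subspaceStabilizer_eq, ← Subgroup.comap_inf]
  apply isMaximalIn_comap
  apply maximal_stab_nondegenerate (Bsymp m F) (Bsymp_isAlt m) (Bsymp_nondegenerate m) W hW0
  · intro w hw hw0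
    obtain ⟨x, hx, hxw⟩ := (hW w hw hw0).1
    exact ⟨x, hx, by rw [Bsymp_apply]; exact hxw⟩
  · have : Module.finrank F (Fin m ⊕ Fin m → F) = m + m := by
      rw [Module.finrank_fintype_fun_eq_card, Fintype.card_sum, Fintype.card_fin]
    rw [this]
    omega


end R5646

namespace R5647

open Cfsg


open Cfsg.Agent.Lib.Helper94_Symp Cfsg.Agent.Lib.Helper94_Bridge Cfsg.Agent.Lib.Helper94_SLBridge
  Cfsg.Agent.Lib.Helper94_SympDecomp

/-- For a finite field F with q elements and m ≥ 7, let D be a decomposition of F^(2m) into t ≥ 2 pairwise orthogonal subspaces of equal dimension k on each of which the standard alternating form is non-degenerate, spanning F^(2m). Unless k = 2 and q = 2, the elements of Sp_2m(F) permuting the members of D form a maximal subgroup of Sp_2m(F). -/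
theorem nondeg_decomp {F : Type*} [Field F] [Fintype F] (m : ℕ) (hm : 2 ≤ m) {t : ℕ} (k : ℕ) (D : Fin t → Submodule F (Fin m ⊕ Fin m → F)) (hD : Cfsg.Geo.IsNondegenerateMDecomposition (Cfsg.sympForm m F) k D) (hex : ¬ (k = 2 ∧ Fintype.card F = 2)) : Cfsg.Geo.IsMaximalIn (Cfsg.spGL m F) (Cfsg.Geo.decompositionStabilizer D ⊓ Cfsg.spGL m F) := by
  classical
  let S : Subgroup ((Fin m ⊕ Fin m → F) ≃ₗ[F] (Fin m ⊕ Fin m → F)) :=
    (Cfsg.Geo.decompositionStabilizer D).comap (glEquiv (Fin m ⊕ Fin m) F).symm.toMonoidHom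
  have hSeq : Cfsg.Geo.decompositionStabilizer D = S.comap (glEquiv (Fin m ⊕ Fin m) F).toMonoidHom :=
    (comap_symm_comap (glEquiv (Fin m ⊕ Fin m) F) _).symm
  rw [hSeq, spGL_eq, ← Subgroup.comap_inf]
  apply isMaximalIn_comap
  apply maximal_dstab (Bsymp m F) (Bsymp_isAlt m) (Bsymp_nondegenerate m) k D hD.decomp.two_le
    hD.decomp.pos hD.decomp.finrank_eq hD.decomp.iSup_eq_top
  · intro i w hw hw0
    obtain ⟨x, hx, hxw⟩ := (hD.nondegenerate i w hw hw0).1
    exact ⟨x, hx, by rw [Bsymp_apply]; exact hxw⟩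
  · intro i j hij u hu v hv
    rw [Bsymp_apply]
    exact hD.orthogonal i j hij u hu v hv
  · intro hk2
    by_contra hcon
    push Not at hcon
    apply hex
    refine ⟨hk2, le_antisymm ?_ Fintype.one_lt_card⟩
    have hsub : (Finset.univ : Finset F) ⊆ {0, 1} := by
      intro c _
      by_cases hc : c = 0
      · simp [hc]
      · simp [hcon c hc]
    calc Fintype.card F = (Finset.univ : Finset F).card := rfl
      _ ≤ ({0, 1} : Finset F).card := Finset.card_le_card hsub
      _ ≤ 2 := Finset.card_le_two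
  · intro g
    have key : Matrix.toLin' (((glEquiv (Fin m ⊕ Fin m) F).symm g :
        Matrix.GeneralLinearGroup (Fin m ⊕ Fin m) F) : Matrix (Fin m ⊕ Fin m) (Fin m ⊕ Fin m) F) =
        (g : (Fin m ⊕ Fin m → F) →ₗ[F] (Fin m ⊕ Fin m → F)) := by
      refine LinearMap.ext fun x => ?_
      rw [Matrix.toLin'_apply, ← glEquiv_apply, MulEquiv.apply_symm_apply]
      rfl
    constructor
    · rintro ⟨σ, hσ⟩
      refine ⟨σ, fun i => ?_⟩
      have := hσ i
      simp only [MulEquiv.toMonoidHom_eq_coe, MonoidHom.coe_coe] at this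
      rw [key] at this
      exact this
    · rintro ⟨σ, hσ⟩
      refine ⟨σ, fun i => ?_⟩
      simp only [MulEquiv.toMonoidHom_eq_coe, MonoidHom.coe_coe]
      rw [key]
      exact hσ i


end R5647

namespace R5649

open Cfsg Cfsg.Agent.Lib.Helper94_Symp Cfsg.Agent.Lib.Helper94_Bridge Cfsg.Agent.Lib.Helper94_SLBridge
  Cfsg.Agent.Lib.Helper94_SympTI


/-- For a finite field F of odd order and m ≥ 7, let D be a decomposition of F^(2m) into two complementary subspaces of dimension m on each of which the standard alternating form vanishes identically. Then the elements of Sp_2m(F) preserving or interchanging the two subspaces form a maximal subgroup of Sp_2m(F). -/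
theorem ti_pair {F : Type*} [Field F] [Fintype F] (m : ℕ) (hm : 3 ≤ m) (hodd : Odd (Fintype.card F)) (D : Fin 2 → Submodule F (Fin m ⊕ Fin m → F)) (hD : Cfsg.Geo.IsMDecomposition m D) (hts : ∀ i, Cfsg.Geo.IsTotallySingularFor (Cfsg.sympForm m F) (D i)) : Cfsg.Geo.IsMaximalIn (Cfsg.spGL m F) (Cfsg.Geo.decompositionStabilizer D ⊓ Cfsg.spGL m F) := by
  classical
  have h2 : (2 : F) ≠ 0 := by
    intro h
    have hc : ringChar F = 2 := by
      have hdvd : ringChar F ∣ 2 := by
        apply ringChar.dvd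
        exact_mod_cast h
      have hp : (ringChar F).Prime := CharP.char_is_prime F (ringChar F)
      exact (Nat.prime_dvd_prime_iff_eq hp Nat.prime_two).mp hdvd
    have hev := FiniteField.even_card_of_char_two hc
    rcases hodd with ⟨r, hr⟩
    omega
  let S : Subgroup ((Fin m ⊕ Fin m → F) ≃ₗ[F] (Fin m ⊕ Fin m → F)) :=
    (Cfsg.Geo.decompositionStabilizer D).comap (glEquiv (Fin m ⊕ Fin m) F).symm.toMonoidHom
  have hSeq : Cfsg.Geo.decompositionStabilizer D = S.comap (glEquiv (Fin m ⊕ Fin m) F).toMonoidHom :=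
    (comap_symm_comap (glEquiv (Fin m ⊕ Fin m) F) _).symm
  rw [hSeq, spGL_eq, ← Subgroup.comap_inf]
  apply isMaximalIn_comap
  apply maximal_tipair (Bsymp_isAlt m) (Bsymp_nondegenerate m) h2 m (by omega) D hD.finrank_eq
    hD.iSup_eq_top
  · intro i u hu v hv
    rw [Bsymp_apply]
    exact hts i u hu v hv
  · intro g
    have key : Matrix.toLin' (((glEquiv (Fin m ⊕ Fin m) F).symm g :
        Matrix.GeneralLinearGroup (Fin m ⊕ Fin m) F) : Matrix (Fin m ⊕ Fin m) (Fin m ⊕ Fin m) F) =
        (g : (Fin m ⊕ Fin m → F) →ₗ[F] (Fin m ⊕ Fin m → F)) := by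
      refine LinearMap.ext fun x => ?_
      rw [Matrix.toLin'_apply, ← glEquiv_apply, MulEquiv.apply_symm_apply]
      rfl
    constructor
    · rintro ⟨σ, hσ⟩
      refine ⟨σ, fun i => ?_⟩
      have := hσ i
      simp only [MulEquiv.toMonoidHom_eq_coe, MonoidHom.coe_coe] at this
      rw [key] at this
      exact this
    · rintro ⟨σ, hσ⟩
      refine ⟨σ, fun i => ?_⟩
      simp only [MulEquiv.toMonoidHom_eq_coe, MonoidHom.coe_coe]
      rw [key]
      exact hσ i


end R5649

namespace R5664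

open Cfsg


open Matrix Cfsg.Geo Cfsg.Agent.Lib.Helper98_ExtDefs Cfsg.Agent.Lib.Helper29_SpExtDefs
  Cfsg.Agent.Lib.Helper29_SpExtBridge Cfsg.Agent.Lib.Helper29_SpExtTrace
  Cfsg.Agent.Lib.Helper94_Bridge

theorem isField_of {F : Type*} [Field F] {ι : Type} [Fintype ι] [DecidableEq ι] [Nonempty ι]
    {r : ℕ} {K : Subalgebra F (Matrix ι ι F)} (hK : Cfsg.Geo.IsFieldSubalgebra r K) :
    IsField ↥K :=
  { exists_pair_ne := ⟨0, 1, fun h => by
      have h1 : ((0 : ↥K) : Matrix ι ι F) = ((1 : ↥K) : Matrix ι ι F) := congrArg Subtype.val h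
      rw [ZeroMemClass.coe_zero, OneMemClass.coe_one] at h1
      exact zero_ne_one h1⟩
    mul_comm := fun x y => Subtype.ext (hK.comm x.1 x.2 y.1 y.2)
    mul_inv_cancel := fun {a} ha => by
      obtain ⟨y, hy, hxy⟩ := hK.inv a.1 a.2 (fun h => ha (Subtype.ext h))
      exact ⟨⟨y, hy⟩, Subtype.ext hxy⟩ }

/-- For a finite field F and m ≥ 7, let K be a subfield of the algebra of 2m × 2m matrices over F containing the scalars, of prime degree r over F, whose elements k are self-adjoint for the standard alternating form f on F^(2m) (f(k u, v) = f(u, k v)) and satisfy f(k v, v) = 0 for all v. Then the elements of Sp_2m(F) normalising K form a maximal subgroup of Sp_2m(F). -/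
theorem ext_field {F : Type*} [Field F] [Fintype F] (m : ℕ) (hm : 3 ≤ m) (r : ℕ) (hr : r.Prime) (K : Subalgebra F (Matrix (Fin m ⊕ Fin m) (Fin m ⊕ Fin m) F)) (hK : Cfsg.Geo.IsFieldSubalgebra r K) (hsa : Cfsg.Geo.IsSelfAdjointFor (Cfsg.sympForm m F) K) (halt : ∀ k ∈ K, ∀ v : (Fin m ⊕ Fin m → F), Cfsg.sympForm m F (Matrix.mulVec k v) v = 0) : Cfsg.Geo.IsMaximalIn (Cfsg.spGL m F) (Cfsg.Geo.subalgebraNormalizer K ⊓ Cfsg.spGL m F) := by
  classical
  have hr2 : 2 ≤ r := hr.two_le
  haveI : Nonempty (Fin m ⊕ Fin m) := ⟨Sum.inl ⟨0, by omega⟩⟩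
  letI : Field ↥K := (isField_of hK).toField
  have hfr : Module.finrank F ↥K = r := hK.finrank_eq
  have hfrp : (Module.finrank F ↥K).Prime := by rw [hfr]; exact hr
  haveI : Finite ↥K := Finite.of_injective (fun x : ↥K => x.1) Subtype.val_injective
  haveI : Module.Finite ↥K (Fin m ⊕ Fin m → F) := Module.Finite.of_restrictScalars_finite F ↥K _
  -- dimensions
  have hdim : r * Module.finrank ↥K (Fin m ⊕ Fin m → F) = 2 * m := by
    have h3 := Module.finrank_mul_finrank F ↥K (Fin m ⊕ Fin m → F)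
    rw [hfr, Module.finrank_fintype_fun_eq_card, Fintype.card_sum, Fintype.card_fin] at h3
    omega
  have hmK : 2 ≤ Module.finrank ↥K (Fin m ⊕ Fin m → F) := by
    by_contra h
    push Not at h
    interval_cases hm' : Module.finrank ↥K (Fin m ⊕ Fin m → F)
    · omega
    · rw [mul_one] at hdim
      rw [hdim] at hr
      have := (Nat.prime_mul_iff.mp hr)
      omega
  have h22 : Nat.card F = 2 → Module.finrank F ↥K = 2 →
      3 ≤ Module.finrank ↥K (Fin m ⊕ Fin m → F) := by
    intro _ h2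
    rw [hfr] at h2
    rw [h2] at hdim
    omega
  have hKL : ∀ k : Matrix (Fin m ⊕ Fin m) (Fin m ⊕ Fin m) F,
      k ∈ K ↔ ∃ x : ↥K, ∀ v : Fin m ⊕ Fin m → F, k *ᵥ v = x • v := by
    intro k
    constructor
    · intro hk
      exact ⟨⟨k, hk⟩, fun v => rfl⟩
    · rintro ⟨x, hx⟩
      have : k = x.1 := by
        rw [Matrix.ext_iff_mulVec]
        intro v
        rw [hx v]
        rfl
      rw [this]
      exact x.2
  -- the `K`-form
  have hsa' : ∀ (k : ↥K) (u v : Fin m ⊕ Fin m → F), Bsymp m F (k • u) v = Bsymp m F u (k • v) := by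
    intro k u v
    rw [Bsymp_apply, Bsymp_apply]
    exact hsa k.1 k.2 u v
  have halt' : ∀ (k : ↥K) (v : Fin m ⊕ Fin m → F), Bsymp m F (k • v) v = 0 := by
    intro k v
    rw [Bsymp_apply]
    exact halt k.1 k.2 v
  set B : LinearMap.BilinForm ↥K (Fin m ⊕ Fin m → F) := trB (Bsymp m F) hsa' with hB
  have Balt : B.IsAlt := trB_isAlt (Bsymp m F) hsa' halt'
  have Bnd : B.Nondegenerate := trB_nondegenerate (Bsymp m F) hsa' halt' (Bsymp_nondegenerate m).1
  have hfB : ∀ u v : Fin m ⊕ Fin m → F, fF F B u v = Cfsg.sympForm m F u v := by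
    intro u v
    rw [hB, fF_trB, Bsymp_apply]
  -- the main lemma in matrix form
  have key : ∀ M : Subgroup (GL (Fin m ⊕ Fin m) F),
      subalgebraNormalizer K ⊓ Cfsg.spGL m F ≤ M → M ≤ Cfsg.spGL m F →
      ∀ g₀ ∈ M, g₀ ∉ subalgebraNormalizer K → Cfsg.spGL m F ≤ M := by
    intro M hHM hMS g₀ hg₀ hg₀N
    apply spGL_le_of_tv
    have hall : AllFtv F B (M.map (glEquiv (Fin m ⊕ Fin m) F).toMonoidHom) := by
      apply Cfsg.Agent.Lib.Helper29_SpExtMain.main_abstract hfrp hmK h22 B Balt Bnd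
        (M.map (glEquiv (Fin m ⊕ Fin m) F).toMonoidHom) ?_ ?_
        (glEquiv (Fin m ⊕ Fin m) F g₀) ⟨g₀, hg₀, rfl⟩ ?_
      · -- `M` preserves `f`
        rintro e ⟨g, hg, rfl⟩ x y
        rw [hfB, hfB]
        show Cfsg.sympForm m F (glEquiv (Fin m ⊕ Fin m) F g x) (glEquiv (Fin m ⊕ Fin m) F g y) = _
        rw [glEquiv_apply, glEquiv_apply]
        exact hMS hg x y
      · -- `Sp(V, B) ≤ M`
        intro g hg
        refine ⟨g.restrictScalars F, ?_, fun x => rfl⟩
        rw [mem_map_glEquiv_iff]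
        apply hHM
        refine ⟨?_, ?_⟩
        · apply mem_normalizer_of_isSemilin K hKL
          rw [MulEquiv.apply_symm_apply]
          exact ⟨RingEquiv.refl _, fun k v => g.map_smul k v⟩
        · show _ ∈ Cfsg.spGL m F
          rw [Cfsg.Agent.Lib.Helper67_SpAschMax.mem_spGL_iff]
          intro x y
          rw [glEquiv_symm_mulVec, glEquiv_symm_mulVec, ← hfB, ← hfB]
          show Algebra.trace F ↥K (B (g x) (g y)) = Algebra.trace F ↥K (B x y)
          rw [hg]
      · intro hsl
        exact hg₀N (mem_normalizer_of_isSemilin K hKL g₀ hsl)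
    intro a v
    obtain ⟨g, hg, hgx⟩ := (hasMap_map_iff M _).mp (hall a v)
    exact ⟨g, hg, fun x => by rw [hgx x, hfB]⟩
  -- properness
  have hnot : ¬ Cfsg.spGL m F ≤ subalgebraNormalizer K :=
    Cfsg.Agent.Lib.Helper67_SpAschMax.not_le_subalgebraNormalizer (by omega) (by omega) hK
  refine ⟨?_, ?_⟩
  · refine lt_of_le_of_ne inf_le_right ?_
    intro heq
    apply hnot
    rw [← heq]
    exact inf_le_left
  · intro M hHM hMS
    by_cases hMN : M ≤ subalgebraNormalizer K
    · left
      exact le_antisymm (le_inf hMN hMS) hHM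
    · right
      obtain ⟨g₀, hg₀M, hg₀N⟩ := SetLike.not_le_iff_exists.mp hMN
      exact le_antisymm hMS (key M hHM hMS g₀ hg₀M hg₀N)


end R5664

namespace R5652

open Cfsg


open Cfsg.Agent.Lib.Helper94_Symp Cfsg.Agent.Lib.Helper94_Bridge Cfsg.Agent.Lib.Helper94_SympQuad

/-- For a finite field F of characteristic two and m ≥ 7, let Q be a non-degenerate quadratic form on F^(2m) whose polar form is the standard alternating form. Then the elements of Sp_2m(F) that are similarities of Q (they are exactly the isometries of Q) form a maximal subgroup of Sp_2m(F). -/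
theorem quad_group {F : Type*} [Field F] [Fintype F] (m : ℕ) (hm : 4 ≤ m) (heven : ¬ Odd (Fintype.card F)) (Q : (Fin m ⊕ Fin m → F) → F) (hQ : Cfsg.Geo.IsNondegenerateQuadraticForm Q) (hpol : ∀ u v, QuadraticMap.polar Q u v = Cfsg.sympForm m F u v) : Cfsg.Geo.IsMaximalIn (Cfsg.spGL m F) (Cfsg.Geo.quadSimilarityGroup Q ⊓ Cfsg.spGL m F) := by
  have hchar : ringChar F = 2 := by
    rw [FiniteField.even_card_iff_char_two]
    rcases Nat.even_or_odd (Fintype.card F) with h | h
    · exact Nat.even_iff.mp h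
    · exact absurd h heven
  have : CharP F 2 := ringChar.of_eq hchar
  have hsq : ∀ a : F, ∃ b : F, b * b = a := by
    intro a
    obtain ⟨r, hr⟩ := FiniteField.isSquare_of_char_two hchar a
    exact ⟨r, hr.symm⟩
  have hQs : ∀ (c : F) (v : Fin m ⊕ Fin m → F), Q (c • v) = c * c * Q v := by
    intro c v
    rw [hQ.smul, sq]
  have hQp : ∀ u v : Fin m ⊕ Fin m → F, Q (u + v) = Q u + Q v + Bsymp m F u v := by
    intro u v
    have := hpol u v
    simp only [QuadraticMap.polar] at this
    rw [Bsymp_apply]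
    linear_combination this
  have hdim : 8 ≤ Module.finrank F (Fin m ⊕ Fin m → F) := by
    rw [Module.finrank_fintype_fun_eq_card, Fintype.card_sum, Fintype.card_fin]
    omega
  have hHeq : Cfsg.Geo.quadSimilarityGroup Q ⊓ Cfsg.spGL m F =
      (oGroup (Bsymp m F) Q).comap (glEquiv (Fin m ⊕ Fin m) F).toMonoidHom := by
    ext g
    rw [Subgroup.mem_inf, spGL_eq, Subgroup.mem_comap, Subgroup.mem_comap, mem_oGroup]
    simp only [MulEquiv.toMonoidHom_eq_coe, MonoidHom.coe_coe]
    constructor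
    · rintro ⟨⟨c, hc⟩, hsp⟩
      refine ⟨hsp, fun v => ?_⟩
      rw [glEquiv_apply, hc]
      -- the multiplier is one
      obtain ⟨u, w, huw⟩ : ∃ u w : Fin m ⊕ Fin m → F, Bsymp m F u w ≠ 0 := by
        have hpos : 0 < Module.finrank F (Fin m ⊕ Fin m → F) := by omega
        obtain ⟨w, hw⟩ := Module.finrank_pos_iff_exists_ne_zero.mp hpos
        by_contra hcon
        push Not at hcon
        exact hw ((Bsymp_nondegenerate m).2 w (fun u => hcon u w))
      have h1 := hQp (glEquiv (Fin m ⊕ Fin m) F g u) (glEquiv (Fin m ⊕ Fin m) F g w)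
      rw [← map_add, hsp u w] at h1
      simp only [glEquiv_apply] at h1
      rw [hc, hc, hc, hQp u w] at h1
      have h2 : ((c : F) - 1) * Bsymp m F u w = 0 := by linear_combination h1
      rcases mul_eq_zero.mp h2 with h3 | h3
      · rw [sub_eq_zero.mp h3, one_mul]
      · exact absurd h3 huw
    · rintro ⟨hsp, hq⟩
      refine ⟨⟨1, fun v => ?_⟩, hsp⟩
      rw [Units.val_one, one_mul, ← glEquiv_apply]
      exact hq v
  rw [hHeq, spGL_eq]
  apply isMaximalIn_comap
  exact maximal_oGroup (Bsymp m F) (Bsymp_isAlt m) Q hsq hQs hQp (Bsymp_nondegenerate m) hdim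


end R5652

end Cfsg.Agent.Lib.Helper67_SpRowsGen
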