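import Mathlib
import Cfsg.Agent.Lib.Helper67_T2ODefs
import Cfsg.Agent.Lib.Helper94_OrthNondeg
import Cfsg.Agent.Lib.Helper82_T2_KR
import Cfsg.Agent.Lib.Helper9_T2_BR
import Cfsg.Agent.Lib.Helper78_UT2_NEXA
import Cfsg.Agent.Lib.Helper79_T2_NDG

set_option autoImplicit false
set_option linter.unusedSectionVars false
set_option linter.unusedVariables false

/-!
# TENS2O package KAPEA (architect helper67; helper77): the structure of `L = g G0`:
`L = (D × 0) ⊕ {(l • v', v') | v' ∈ E}`, `D = DI g` nondegenerate of codimension 2, `E = D^⊥ = ⟨e, f⟩`.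
Also the common geometric tools for KAPEB (`perp_eq_pair`, `inter_zero`).
-/

open Module
open Cfsg.Agent.Lib.Helper94_Symp Cfsg.Agent.Lib.Helper94_OrthSmall
  Cfsg.Agent.Lib.Helper94_OrthSiegel Cfsg.Agent.Lib.Helper94_OrthNondeg
  Cfsg.Agent.Lib.Helper67_Tens2Defs Cfsg.Agent.Lib.Helper67_T2ODefs

namespace Cfsg.Agent.Lib.Helper77_T2O_KAPEA

variable {F W : Type*} [Field F] [Finite F] [AddCommGroup W] [Module F W] [FiniteDimensional F W]
variable {ω : LinearMap.BilinForm F W}

/-- a hyperbolic pair is linearly independent -/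
theorem pair_indep (halt : ω.IsAlt) (e f : W) (hef : ω e f = 1) :
    LinearIndependent F ![e, f] := by
  rw [LinearIndependent.pair_iff]
  intro s t hst
  have h1 : ω (s • e + t • f) f = 0 := by rw [hst]; simp
  have h2 : ω e (s • e + t • f) = 0 := by rw [hst]; simp
  simp only [map_add, map_smul, LinearMap.add_apply, LinearMap.smul_apply, smul_eq_mul, hef,
    halt e, halt f, mul_zero, mul_one, add_zero, zero_add] at h1 h2
  exact ⟨h1, h2⟩

/-- the orthogonal complement of a subspace of codimension at most two containing a hyperbolic pair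
is spanned by that pair -/
theorem perp_eq_pair (halt : ω.IsAlt) (hN : ω.Nondegenerate) (D : Submodule F W)
    (hdim : finrank F W ≤ finrank F D + 2) (e f : W) (hef : ω e f = 1)
    (hperp : ∀ u ∈ D, ω u e = 0 ∧ ω u f = 0) (x : W) (hx : ∀ u ∈ D, ω u x = 0) :
    x = ω x f • e + ω e x • f := by
  have hfrE : finrank F (ω.orthogonal D) = finrank F W - finrank F D :=
    LinearMap.BilinForm.finrank_orthogonal hN D
  have hli := pair_indep halt e f hef
  have hP : finrank F (Submodule.span F (Set.range ![e, f])) = 2 := by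
    rw [finrank_span_eq_card hli]
    rfl
  have hle : Submodule.span F (Set.range ![e, f]) ≤ ω.orthogonal D := by
    rw [Submodule.span_le]
    rintro _ ⟨i, rfl⟩
    rw [SetLike.mem_coe, mem_orth]
    intro n hn
    fin_cases i
    · exact (hperp n hn).1
    · exact (hperp n hn).2
  have heq : Submodule.span F (Set.range ![e, f]) = ω.orthogonal D := by
    apply Submodule.eq_of_le_of_finrank_le hle
    rw [hP, hfrE]
    omega
  have hxE : x ∈ ω.orthogonal D := (mem_orth ω).mpr hx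
  rw [← heq, Submodule.mem_span_range_iff_exists_fun] at hxE
  obtain ⟨c, hc⟩ := hxE
  rw [Fin.sum_univ_two] at hc
  simp only [Matrix.cons_val_zero, Matrix.cons_val_one] at hc
  have h1 : ω x f = c 0 := by
    rw [← hc]
    simp only [map_add, map_smul, LinearMap.add_apply, LinearMap.smul_apply, smul_eq_mul, hef,
      halt f, mul_zero, mul_one, add_zero]
  have h2 : ω e x = c 1 := by
    rw [← hc]
    simp only [map_add, map_smul, smul_eq_mul, hef, halt e, mul_zero, mul_one, zero_add]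
  rw [h1, h2, hc]

/-- a vector of a nondegenerate subspace orthogonal to it vanishes -/
theorem inter_zero {D : Submodule F W} (hD : NondegOn ω D) {x : W} (hx : x ∈ D)
    (hxE : ∀ u ∈ D, ω u x = 0) : x = 0 := by
  by_contra h0
  obtain ⟨y, hy, hne⟩ := hD x hx h0
  exact hne (hxE y hy)

/-- `qf ω` vanishes on `g G0` -/
theorem qf_Lg_zero {g : (W × W) ≃ₗ[F] (W × W)} (hg : g ∈ oG (qf ω)) {x : W × W}
    (hx : x ∈ Lg g) : ω x.1 x.2 = 0 := by
  obtain ⟨u, rfl⟩ := mem_Lg.mp hx
  have h := hg (u, 0)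
  simpa using h

/-- isometries of `qf ω` preserve its polar form -/
theorem mem_iso_of_mem_oG (halt : ω.IsAlt) {g : (W × W) ≃ₗ[F] (W × W)} (hg : g ∈ oG (qf ω)) :
    g ∈ isoGroup (tf ω) :=
  fun x y => oG_B (qf ω) (tf ω) (qf_add ω halt) hg x y

/-- KAPEA : the structure of `L = g G0`: `L = (D × 0) ⊕ {(l • v', v') | v' ∈ E}`, `D = DI g`
nondegenerate of codimension 2, `E = D^⊥ = ⟨e, f⟩` -/
theorem kapea (halt : ω.IsAlt) (hN : ω.Nondegenerate)
    (M : Subgroup ((W × W) ≃ₗ[F] (W × W))) (hM : HypO ω M)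
    (g : (W × W) ≃ₗ[F] (W × W)) (hg : g ∈ M) (hne : Lg g ≠ (G0 : Submodule F (W × W)))
    (hD : NondegOn ω (DI g)) (hdim : finrank F W ≤ finrank F (DI g) + 2) :
    ∃ e f : W, ω e f = 1 ∧ (∀ u ∈ DI g, ω u e = 0 ∧ ω u f = 0) ∧
      ∃ l : F, ∀ a b : F, (l • (a • e + b • f), a • e + b • f) ∈ Lg g := by
  classical
  have hgO : g ∈ oG (qf ω) := hM.le_oG hg
  have hgiso : g ∈ isoGroup (tf ω) := mem_iso_of_mem_oG halt hgO
  obtain ⟨E, hEdef⟩ : ∃ E : Submodule F W, E = ω.orthogonal (DI g) := ⟨_, rfl⟩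
  have hEmem : ∀ z, z ∈ E ↔ ∀ n ∈ DI g, ω n z = 0 := fun z => by
    rw [hEdef]
    exact mem_orth ω
  have hfrE : finrank F E = finrank F W - finrank F (DI g) := by
    rw [hEdef]
    exact LinearMap.BilinForm.finrank_orthogonal hN (DI g)
  have hdle : finrank F (DI g) ≤ finrank F W := Submodule.finrank_le _
  have hinf : DI g ⊓ E = ⊥ := by
    rw [eq_bot_iff]
    intro x hx
    rw [Submodule.mem_bot]
    exact inter_zero hD hx.1 ((hEmem x).mp hx.2)
  have hsup : DI g ⊔ E = ⊤ := by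
    apply Submodule.eq_top_of_finrank_eq
    have h := Submodule.finrank_sup_add_finrank_inf_eq (DI g) E
    rw [hinf, finrank_bot, add_zero, hfrE] at h
    omega
  -- `D ≠ ⊤`
  have hDtop : DI g ≠ ⊤ := by
    intro htop
    apply hne
    symm
    apply Submodule.eq_of_le_of_finrank_eq
    · intro x hx
      have hx' : x = (x.1, 0) := Prod.ext rfl (mem_G0.mp hx)
      rw [hx']
      apply mem_DI.mp
      rw [htop]
      trivial
    · exact (LinearEquiv.finrank_map_eq g G0).symm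
  have hEbot : E ≠ ⊥ := by
    intro h
    apply hDtop
    rw [h, sup_bot_eq] at hsup
    exact hsup
  -- the hyperbolic pair
  obtain ⟨e, heE, he0⟩ := Submodule.exists_mem_ne_zero_of_ne_bot hEbot
  have hperpE : ∀ z ∈ E, ∀ n ∈ DI g, ω z n = 0 := by
    intro z hz n hn
    rw [alt_swap ω halt, (hEmem z).mp hz n hn, neg_zero]
  obtain ⟨f₀, hf₀E, hf₀⟩ : ∃ f₀ ∈ E, ω e f₀ ≠ 0 := by
    by_contra hcon
    push Not at hcon
    apply he0
    apply hN.1 e
    intro y
    have hy : y ∈ DI g ⊔ E := by rw [hsup]; trivial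
    obtain ⟨d, hd, e', he', rfl⟩ := Submodule.mem_sup.mp hy
    rw [map_add, hperpE e heE d hd, hcon e' he', add_zero]
  obtain ⟨f, hfdef⟩ : ∃ f : W, f = (ω e f₀)⁻¹ • f₀ := ⟨_, rfl⟩
  have hfE : f ∈ E := by
    rw [hfdef]
    exact E.smul_mem _ hf₀E
  have hef : ω e f = 1 := by
    rw [hfdef, map_smul, smul_eq_mul, inv_mul_cancel₀ hf₀]
  have hperp : ∀ u ∈ DI g, ω u e = 0 ∧ ω u f = 0 :=
    fun u hu => ⟨(hEmem e).mp heE u hu, (hEmem f).mp hfE u hu⟩
  -- the second projection of `L` is onto `E`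
  obtain ⟨T, hTdef⟩ : ∃ T : W →ₗ[F] W,
      T = (LinearMap.snd F W W) ∘ₗ g.toLinearMap ∘ₗ (LinearMap.inl F W W) := ⟨_, rfl⟩
  obtain ⟨T1, hT1def⟩ : ∃ T1 : W →ₗ[F] W,
      T1 = (LinearMap.fst F W W) ∘ₗ g.toLinearMap ∘ₗ (LinearMap.inl F W W) := ⟨_, rfl⟩
  have hT : ∀ u, g (u, 0) = (T1 u, T u) := by
    intro u
    rw [hTdef, hT1def]
    rfl
  have hTL : ∀ u, (T1 u, T u) ∈ Lg g := fun u => mem_Lg.mpr ⟨u, hT u⟩
  have hTE : ∀ u, T u ∈ E := by
    intro u
    rw [hEdef]
    exact Cfsg.Agent.Lib.Helper79_T2_NDG.snd_mem_orth ω hgiso (hTL u)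
  have hker : finrank F (LinearMap.ker T) ≤ finrank F (DI g) := by
    have hmem : ∀ u : LinearMap.ker T, T1 u.1 ∈ DI g := by
      intro u
      rw [mem_DI]
      have h1 : T u.1 = 0 := LinearMap.mem_ker.mp u.2
      have h2 := hTL u.1
      rw [h1] at h2
      exact h2
    let ι : LinearMap.ker T →ₗ[F] DI g :=
      LinearMap.codRestrict (DI g) (T1 ∘ₗ (LinearMap.ker T).subtype) hmem
    have hι : Function.Injective ι := by
      rw [injective_iff_map_eq_zero]
      intro u hu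
      have h1 : T1 u.1 = 0 := congrArg Subtype.val hu
      have h2 : T u.1 = 0 := LinearMap.mem_ker.mp u.2
      have h3 : g (u.1, 0) = 0 := by
        rw [hT, h1, h2]
        rfl
      have h4 : ((u.1, 0) : W × W) = 0 := by
        apply g.injective
        rw [h3, map_zero]
      exact Subtype.ext (congrArg Prod.fst h4)
    exact LinearMap.finrank_le_finrank_of_injective hι
  have hrange : LinearMap.range T = E := by
    apply Submodule.eq_of_le_of_finrank_le
    · rintro _ ⟨u, rfl⟩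
      exact hTE u
    · have h := LinearMap.finrank_range_add_finrank_ker T
      rw [hfrE]
      omega
  -- for `v' ∈ E` a vector `(x, v') ∈ L` with `x ∈ E`
  have hlift : ∀ v' ∈ E, ∃ x ∈ E, (x, v') ∈ Lg g := by
    intro v' hv'
    rw [← hrange] at hv'
    obtain ⟨u, rfl⟩ := hv'
    have hy : T1 u ∈ DI g ⊔ E := by rw [hsup]; trivial
    obtain ⟨d, hd, x, hx, hdx⟩ := Submodule.mem_sup.mp hy
    refine ⟨x, hx, ?_⟩
    have h1 : ((x, T u) : W × W) = (T1 u, T u) - (d, 0) := by
      rw [← hdx]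
      ext <;> simp
    rw [h1]
    exact (Lg g).sub_mem (hTL u) (mem_DI.mp hd)
  obtain ⟨xe, hxeE, hxeL⟩ := hlift e heE
  obtain ⟨xf, hxfE, hxfL⟩ := hlift f hfE
  have hxe := perp_eq_pair halt hN (DI g) hdim e f hef hperp xe ((hEmem xe).mp hxeE)
  have hxf := perp_eq_pair halt hN (DI g) hdim e f hef hperp xf ((hEmem xf).mp hxfE)
  -- `L` is totally singular
  have q1 : ω xe e = 0 := qf_Lg_zero hgO hxeL
  have q2 : ω xf f = 0 := qf_Lg_zero hgO hxfL
  have q3 : ω xe f - ω e xf = 0 := by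
    have h := Cfsg.Agent.Lib.Helper79_T2_NDG.tf_Lg_zero ω hgiso hxeL hxfL
    rw [tf_apply] at h
    exact h
  have q1' : ω e xe = 0 := by rw [alt_swap ω halt, q1, neg_zero]
  rw [q1', zero_smul, add_zero] at hxe
  rw [q2, zero_smul, zero_add] at hxf
  have q3' : ω e xf = ω xe f := (sub_eq_zero.mp q3).symm
  rw [q3'] at hxf
  refine ⟨e, f, hef, hperp, ω xe f, ?_⟩
  intro a b
  have h1 : ((ω xe f • (a • e + b • f), a • e + b • f) : W × W) =
      a • (xe, e) + b • (xf, f) := by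
    ext
    · simp only [Prod.fst_add, Prod.smul_fst]
      conv_rhs => rw [hxe, hxf]
      module
    · simp
  rw [h1]
  exact (Lg g).add_mem ((Lg g).smul_mem a hxeL) ((Lg g).smul_mem b hxfL)

end Cfsg.Agent.Lib.Helper77_T2O_KAPEA
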