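import Mathlib
import Cfsg.Agent.Lib.Helper67_T2ODefs
import Cfsg.Agent.Lib.Helper94_OrthNondeg
import Cfsg.Agent.Lib.Helper82_T2_KR
import Cfsg.Agent.Lib.Helper9_T2_BR
import Cfsg.Agent.Lib.Helper78_UT2_NEXA
import Cfsg.Agent.Lib.Helper79_T2_NDG
import Cfsg.Agent.Lib.Helper93_T2_KAP2
import Cfsg.Agent.Lib.Helper77_T2O_KAPEA

set_option autoImplicit false
set_option linter.unusedSectionVars false
set_option linter.unusedVariables false

/-!
# TENS2O package KAPEB (architect helper67; helper77): the action of `g (ux (c • 1)) g⁻¹` on `E × E`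
when `0 × E ≤ g G0`: it is `lx (c μ)` with `μ ≠ 0`.
-/

open Module
open Cfsg.Agent.Lib.Helper94_Symp Cfsg.Agent.Lib.Helper94_OrthSmall
  Cfsg.Agent.Lib.Helper94_OrthSiegel Cfsg.Agent.Lib.Helper94_OrthNondeg
  Cfsg.Agent.Lib.Helper67_Tens2Defs Cfsg.Agent.Lib.Helper67_T2ODefs

namespace Cfsg.Agent.Lib.Helper77_T2O_KAPEB

open Cfsg.Agent.Lib.Helper93_T2_KAP2 Cfsg.Agent.Lib.Helper77_T2O_KAPEA

variable {F W : Type*} [Field F] [Finite F] [AddCommGroup W] [Module F W] [FiniteDimensional F W]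
variable {ω : LinearMap.BilinForm F W}

/-- KAPEB : the action of `g (ux (c • 1)) g⁻¹` on `E × E` when `0 × E ≤ g G0` -/
theorem kapeb (halt : ω.IsAlt) (hN : ω.Nondegenerate)
    (M : Subgroup ((W × W) ≃ₗ[F] (W × W))) (hM : HypO ω M)
    (g : (W × W) ≃ₗ[F] (W × W)) (hg : g ∈ M)
    (hD : NondegOn ω (DI g)) (hdim : finrank F W ≤ finrank F (DI g) + 2)
    (e f : W) (hef : ω e f = 1) (hperp : ∀ u ∈ DI g, ω u e = 0 ∧ ω u f = 0)
    (hE : ∀ a b : F, ((0 : W), a • e + b • f) ∈ Lg g)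
    (ν : F) (hν : ∀ c : F, ∀ u ∈ DI g, ∀ u' ∈ DI g,
      (g * ux (c • (LinearMap.id : W →ₗ[F] W)) * g⁻¹) (u, u') = (u + (c * ν) • u', u')) :
    ∃ μ : F, μ ≠ 0 ∧ ∀ c a b a' b' : F,
      (g * ux (c • (LinearMap.id : W →ₗ[F] W)) * g⁻¹) (a • e + b • f, a' • e + b' • f) =
        (a • e + b • f, a' • e + b' • f + (c * μ) • (a • e + b • f)) := by
  classical
  have hgO : g ∈ oG (qf ω) := hM.le_oG hg
  have hgiso : g ∈ isoGroup (tf ω) := mem_iso_of_mem_oG halt hgO
  have hCL : ∀ x, Cmap g x ∈ Lg g := Cmap_mem_Lg g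
  have hC0 : ∀ x ∈ Lg g, Cmap g x = 0 := fun x hx => (Cmap_eq_zero_iff g x).mpr hx
  -- `C` on `D × D`
  have hC_DD : ∀ u ∈ DI g, ∀ u' ∈ DI g, Cmap g (u, u') = (ν • u', 0) := by
    intro u hu u' hu'
    have h := hν 1 u hu u' hu'
    rw [conj_apply, one_smul, one_mul] at h
    have h' : Cmap g (u, u') = (u + ν • u', u') - (u, u') := by
      rw [← h]; abel
    rw [h']
    ext <;> simp
  -- the quadratic identity
  have hx1O : g * ux ((1 : F) • (LinearMap.id : W →ₗ[F] W)) * g⁻¹ ∈ oG (qf ω) :=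
    hM.le_oG (M.mul_mem (M.mul_mem hg (hM.ux_mem 1)) (M.inv_mem hg))
  have hquad : ∀ x, tf ω x (Cmap g x) = 0 := by
    intro x
    have h := hx1O x
    rw [conj_apply, one_smul, qf_add ω halt] at h
    have h2 : qf ω (Cmap g x) = 0 := qf_Lg_zero hgO (hCL x)
    rw [h2, add_zero] at h
    exact add_eq_left.mp h
  have hpol : ∀ x y, tf ω x (Cmap g y) + tf ω y (Cmap g x) = 0 := by
    intro x y
    have h := hquad (x + y)
    simp only [map_add, LinearMap.add_apply] at h
    linear_combination h - hquad x - hquad y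
  -- `C` preserves `E × E`
  have hCE : ∀ x : W × W, (∀ u ∈ DI g, ω u x.1 = 0) → (∀ u ∈ DI g, ω u x.2 = 0) →
      (∀ u ∈ DI g, ω u (Cmap g x).1 = 0) ∧ (∀ u ∈ DI g, ω u (Cmap g x).2 = 0) := by
    intro x hx1 hx2
    constructor
    · intro u' hu'
      have h := hpol x (0, u')
      rw [hC_DD 0 (zero_mem _) u' hu'] at h
      simp only [tf_apply, map_zero, LinearMap.zero_apply, map_smul, smul_eq_mul, zero_sub,
        sub_zero] at h
      have h3 : ω x.2 u' = 0 := by rw [alt_swap ω halt, hx2 u' hu', neg_zero]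
      rw [h3, mul_zero, neg_zero, zero_add] at h
      exact neg_eq_zero.mp h
    · intro u hu
      have h := hpol x (u, 0)
      rw [hC0 (u, 0) (mem_DI.mp hu)] at h
      simp only [tf_apply, map_zero, LinearMap.zero_apply, Prod.fst_zero, Prod.snd_zero,
        sub_zero, zero_add] at h
      exact h
  -- `C (E × E) ⊆ 0 × E`
  have hCE1 : ∀ x : W × W, (∀ u ∈ DI g, ω u x.1 = 0) → (∀ u ∈ DI g, ω u x.2 = 0) →
      (Cmap g x).1 = 0 := by
    intro x hx1 hx2
    obtain ⟨h1, h2⟩ := hCE x hx1 hx2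
    have h3 := perp_eq_pair halt hN (DI g) hdim e f hef hperp _ h2
    have h4 : ((0 : W), (Cmap g x).2) ∈ Lg g := by
      rw [h3]
      exact hE _ _
    have h5 : ((Cmap g x).1, (0 : W)) ∈ Lg g := by
      have e1 : (((Cmap g x).1, (0 : W)) : W × W) = Cmap g x - ((0 : W), (Cmap g x).2) := by
        ext <;> simp
      rw [e1]
      exact (Lg g).sub_mem (hCL x) h4
    exact inter_zero hD (mem_DI.mpr h5) h1
  -- the map `φ`
  obtain ⟨φ, hφdef⟩ : ∃ φ : W →ₗ[F] W,
      φ = (LinearMap.snd F W W) ∘ₗ (Cmap g) ∘ₗ (LinearMap.inl F W W) := ⟨_, rfl⟩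
  have hφa : ∀ u, φ u = (Cmap g (u, 0)).2 := fun u => by rw [hφdef]; rfl
  have hEperp : ∀ a b : F, ∀ u ∈ DI g, ω u (a • e + b • f) = 0 := by
    intro a b u hu
    rw [map_add, map_smul, map_smul, (hperp u hu).1, (hperp u hu).2, smul_zero, smul_zero,
      add_zero]
  have hCv : ∀ a b : F, Cmap g (a • e + b • f, 0) = (0, φ (a • e + b • f)) := by
    intro a b
    have h1 := hCE1 (a • e + b • f, 0) (hEperp a b) (fun u hu => by simp)
    exact Prod.ext h1 (hφa _).symm
  have hφE : ∀ a b : F, ∀ u ∈ DI g, ω u (φ (a • e + b • f)) = 0 := by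
    intro a b
    have h := (hCE (a • e + b • f, 0) (hEperp a b) (fun u hu => by simp)).2
    rw [← hφa] at h
    exact h
  have hφalt : ∀ a b : F, ω (a • e + b • f) (φ (a • e + b • f)) = 0 := by
    intro a b
    have h := hquad (a • e + b • f, 0)
    rw [hCv a b] at h
    simpa using h
  have hφe : ∀ u ∈ DI g, ω u (φ e) = 0 := by
    have h := hφE 1 0
    rw [one_smul, zero_smul, add_zero] at h
    exact h
  have hφf : ∀ u ∈ DI g, ω u (φ f) = 0 := by
    have h := hφE 0 1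
    rw [one_smul, zero_smul, zero_add] at h
    exact h
  have he1 := perp_eq_pair halt hN (DI g) hdim e f hef hperp (φ e) hφe
  have hf1 := perp_eq_pair halt hN (DI g) hdim e f hef hperp (φ f) hφf
  have a1 : ω e (φ e) = 0 := by
    have h := hφalt 1 0
    rw [one_smul, zero_smul, add_zero] at h
    exact h
  have a2 : ω f (φ f) = 0 := by
    have h := hφalt 0 1
    rw [one_smul, zero_smul, zero_add] at h
    exact h
  have a3 : ω e (φ f) + ω f (φ e) = 0 := by
    have h := hφalt 1 1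
    rw [one_smul, one_smul, map_add, map_add, map_add, LinearMap.add_apply, LinearMap.add_apply,
      a1, a2] at h
    rw [← h]
    ring
  have a2' : ω (φ f) f = 0 := by rw [alt_swap ω halt, a2, neg_zero]
  have a3' : ω e (φ f) = ω (φ e) f := by
    rw [alt_swap ω halt (φ e) f]
    exact eq_neg_of_add_eq_zero_left a3
  rw [a1, zero_smul, add_zero] at he1
  rw [a2', zero_smul, zero_add, a3'] at hf1
  obtain ⟨μ, hμdef⟩ : ∃ μ : F, μ = ω (φ e) f := ⟨_, rfl⟩
  rw [← hμdef] at he1 hf1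
  have hφv : ∀ a b : F, φ (a • e + b • f) = μ • (a • e + b • f) := by
    intro a b
    rw [map_add, map_smul, map_smul, he1, hf1]
    module
  refine ⟨μ, ?_, ?_⟩
  · intro hμ0
    have h1 := hCv 1 0
    rw [one_smul, zero_smul, add_zero, he1, hμ0, zero_smul] at h1
    have h2 : ((e, 0) : W × W) ∈ Lg g := (Cmap_eq_zero_iff g (e, 0)).mp h1
    have h3 : e = 0 := inter_zero hD (mem_DI.mpr h2) (fun u hu => (hperp u hu).1)
    rw [h3, map_zero, LinearMap.zero_apply] at hef
    exact zero_ne_one hef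
  · intro c a b a' b'
    rw [conj_apply]
    have h1 : ((a • e + b • f, a' • e + b' • f) : W × W) =
        (a • e + b • f, 0) + (0, a' • e + b' • f) := by
      ext <;> simp
    have h2 : Cmap g (a • e + b • f, a' • e + b' • f) = (0, μ • (a • e + b • f)) := by
      rw [h1, map_add, hCv a b, hC0 _ (hE a' b'), add_zero, hφv]
    rw [h2]
    apply Prod.ext
    · simp only [Prod.fst_add, Prod.smul_fst, smul_zero, add_zero]
    · simp only [Prod.snd_add, Prod.smul_snd, smul_smul]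

end Cfsg.Agent.Lib.Helper77_T2O_KAPEB
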