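import Mathlib
import Cfsg.Agent.Lib.Helper67_T2ODefs
import Cfsg.Agent.Lib.Helper94_OrthNondeg
import Cfsg.Agent.Lib.Helper82_T2_KR
import Cfsg.Agent.Lib.Helper9_T2_BR
import Cfsg.Agent.Lib.Helper78_UT2_NEXA

set_option autoImplicit false
set_option linter.unusedSectionVars false
set_option linter.unusedVariables false

/-!
# TENS2O package PAIRO (helper80, for helper67): some `g ∈ M` has `g G0 ≠ G0` with
# `dim (G0 ∩ g G0) ≥ b - 2`, maximal.
-/

open Module
open Cfsg.Agent.Lib.Helper94_Symp Cfsg.Agent.Lib.Helper94_OrthSmall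
  Cfsg.Agent.Lib.Helper94_OrthSiegel Cfsg.Agent.Lib.Helper94_OrthNondeg
  Cfsg.Agent.Lib.Helper67_Tens2Defs Cfsg.Agent.Lib.Helper67_T2ODefs

namespace Cfsg.Agent.Lib.Helper80_T2O_PAIRO

variable {F W : Type*} [Field F] [Finite F] [AddCommGroup W] [Module F W] [FiniteDimensional F W]
variable {ω : LinearMap.BilinForm F W}

/-- the range of `1 ⊗ (transvection) - 1` lies in the span of `(y, 0)` and `(0, y)` -/
theorem oE_stv_sub_mem (halt : ω.IsAlt) (y : W) (s : F) (x : W × W) :
    oE (stv ω halt y s) x - x ∈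
      Submodule.span F ({((y, 0) : W × W), ((0, y) : W × W)} : Set (W × W)) := by
  have h : oE (stv ω halt y s) x - x =
      (s * ω x.1 y) • ((y, 0) : W × W) + (s * ω x.2 y) • ((0, y) : W × W) := by
    ext
    · simp [oE_apply, stv_apply]
    · simp [oE_apply, stv_apply]
  rw [h]
  apply Submodule.add_mem
  · exact Submodule.smul_mem _ _ (Submodule.subset_span (by simp))
  · exact Submodule.smul_mem _ _ (Submodule.subset_span (by simp))

/-- PAIRO : then some `g ∈ M` has `g G0 ≠ G0` with `dim (G0 ∩ g G0) ≥ b - 2`, maximal -/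
theorem pairo (halt : ω.IsAlt) (hN : ω.Nondegenerate)
    (M : Subgroup ((W × W) ≃ₗ[F] (W × W))) (hM : HypO ω M)
    (g0 : (W × W) ≃ₗ[F] (W × W)) (hg0 : g0 ∈ M) (y : W) (s : F)
    (hns : ¬ ∀ x ∈ Lg g0, oE (stv ω halt y s) x ∈ Lg g0) :
    ∃ g ∈ M, Lg g ≠ (G0 : Submodule F (W × W)) ∧ finrank F W ≤ finrank F (DI g) + 2 ∧
      ∀ g' ∈ M, Lg g' ≠ (G0 : Submodule F (W × W)) → finrank F (DI g') ≤ finrank F (DI g) := by
  classical
  set R : (W × W) ≃ₗ[F] (W × W) := oE (stv ω halt y s) with hR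
  have hRM : R ∈ M := hM.oE_mem _ (stv_mem_isoGroup ω halt y s)
  set g1 : (W × W) ≃ₗ[F] (W × W) := g0⁻¹ * R * g0 with hg1
  have hg1M : g1 ∈ M := M.mul_mem (M.mul_mem (M.inv_mem hg0) hRM) hg0
  have hg0g1 : ∀ x, g0 (g1 x) = R (g0 x) := by
    intro x
    rw [hg1, LinearEquiv.mul_apply, LinearEquiv.mul_apply, apply_inv_apply']
  -- (a)
  have ha : Lg g1 ≠ (G0 : Submodule F (W × W)) := by
    intro heq
    apply hns
    intro x hx
    obtain ⟨u, rfl⟩ := mem_Lg.mp hx
    have h1 : g1 (u, 0) ∈ Lg g1 := mem_Lg.mpr ⟨u, rfl⟩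
    rw [heq, mem_G0] at h1
    rw [← hg0g1]
    refine mem_Lg.mpr ⟨(g1 (u, 0)).1, ?_⟩
    congr 1
    exact Prod.ext rfl h1.symm
  -- (b)
  have hb : finrank F W ≤ finrank F (DI g1) + 2 := by
    set φ : W →ₗ[F] W × W :=
      ((R : (W × W) →ₗ[F] (W × W)) - LinearMap.id) ∘ₗ (g0 : (W × W) →ₗ[F] (W × W)) ∘ₗ
        LinearMap.inl F W W
      with hφ
    have hφa : ∀ u, φ u = R (g0 (u, 0)) - g0 (u, 0) := by
      intro u
      rfl
    have hrange : LinearMap.range φ ≤
        Submodule.span F ({((y, 0) : W × W), ((0, y) : W × W)} : Set (W × W)) := by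
      rintro _ ⟨u, rfl⟩
      rw [hφa]
      exact oE_stv_sub_mem halt y s _
    have hr2 : finrank F (LinearMap.range φ) ≤ 2 := by
      have h1 := Submodule.finrank_mono hrange
      have h3 : finrank F (Submodule.span F
          ({((y, 0) : W × W), ((0, y) : W × W)} : Set (W × W))) ≤ 2 := by
        have := finrank_span_le_card (R := F) ({((y, 0) : W × W), ((0, y) : W × W)} : Set (W × W))
        have hc : ({((y, 0) : W × W), ((0, y) : W × W)} : Set (W × W)).toFinset.card ≤ 2 := by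
          have : ({((y, 0) : W × W), ((0, y) : W × W)} : Set (W × W)).toFinset =
              ({((y, 0) : W × W), ((0, y) : W × W)} : Finset (W × W)) := by
            ext z
            simp
          rw [this]
          exact Finset.card_le_two
        omega
      omega
    have hker : LinearMap.ker φ ≤ DI g1 := by
      intro u hu
      rw [LinearMap.mem_ker, hφa, sub_eq_zero] at hu
      rw [mem_DI]
      refine mem_Lg.mpr ⟨u, ?_⟩
      have h1 : g0 (g1 (u, 0)) = g0 (u, 0) := by rw [hg0g1, hu]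
      exact g0.injective h1
    have hrn := LinearMap.finrank_range_add_finrank_ker φ
    have hk := Submodule.finrank_mono hker
    omega
  -- (c)
  set P : ℕ → Prop := fun n =>
    ∃ g' ∈ M, Lg g' ≠ (G0 : Submodule F (W × W)) ∧ finrank F (DI g') = n with hP
  have hle : ∀ g' : (W × W) ≃ₗ[F] (W × W), finrank F (DI g') ≤ finrank F W := fun g' =>
    Submodule.finrank_le _
  have hP1 : P (finrank F (DI g1)) := ⟨g1, hg1M, ha, rfl⟩
  have hspec := Nat.findGreatest_spec (P := P) (hle g1) hP1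
  obtain ⟨g, hgM, hgne, hgn⟩ := hspec
  refine ⟨g, hgM, hgne, ?_, ?_⟩
  · have := Nat.le_findGreatest (P := P) (hle g1) hP1
    omega
  · intro g' hg'M hg'ne
    have := Nat.le_findGreatest (P := P) (hle g') ⟨g', hg'M, hg'ne, rfl⟩
    omega

end Cfsg.Agent.Lib.Helper80_T2O_PAIRO
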