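import Mathlib
import Cfsg.Agent.Lib.Helper67_T2ODefs
import Cfsg.Agent.Lib.Helper94_OrthNondeg
import Cfsg.Agent.Lib.Helper82_T2_KR
import Cfsg.Agent.Lib.Helper9_T2_BR
import Cfsg.Agent.Lib.Helper78_UT2_NEXA

set_option autoImplicit false
set_option linter.unusedSectionVars false
set_option linter.unusedVariables false

/-!
# TENS2O package AWNS (architect helper67): `aw ω y w` is not scalar for independent `y`, `w`
with `ω y w = 0`.
-/

open Module
open Cfsg.Agent.Lib.Helper94_Symp Cfsg.Agent.Lib.Helper94_OrthSmall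
  Cfsg.Agent.Lib.Helper94_OrthSiegel Cfsg.Agent.Lib.Helper94_OrthNondeg
  Cfsg.Agent.Lib.Helper67_Tens2Defs Cfsg.Agent.Lib.Helper67_T2ODefs

namespace Cfsg.Agent.Lib.Helper8_T2O_AWNS

variable {F W : Type*} [Field F] [Finite F] [AddCommGroup W] [Module F W] [FiniteDimensional F W]
variable {ω : LinearMap.BilinForm F W}

/-- AWNS : `aw ω y w` is not scalar for independent `y`, `w` with `ω y w = 0` -/
theorem aw_not_scalar (halt : ω.IsAlt) (hN : ω.Nondegenerate) (y w : W) (hy : y ≠ 0)
    (hw : w ∉ Submodule.span F {y}) (hyw : ω y w = 0) :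
    ¬ ∃ c : F, aw ω y w = c • (LinearMap.id : W →ₗ[F] W) := by
  rintro ⟨c, hc⟩
  -- a vector `v` with `ω v y ≠ 0`
  obtain ⟨v, hv⟩ : ∃ v : W, ω v y ≠ 0 := by
    by_contra hcon
    push Not at hcon
    exact hy (hN.2 y hcon)
  have hwy : ω w y = 0 := by
    have := halt.neg_eq w y
    rw [hyw, neg_eq_zero] at this
    exact this
  have hyy : ω y y = 0 := halt y
  -- pair `aw y w v = c • v` with `y` on the right
  have key : ∀ v : W, ω v w • y - ω v y • w = c • v := by
    intro v
    have := congrArg (fun T : W →ₗ[F] W => T v) hc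
    simpa using this
  have hc0 : c = 0 := by
    have h := congrArg (fun x : W => ω x y) (key v)
    simp only [map_sub, map_smul, LinearMap.sub_apply, LinearMap.smul_apply, smul_eq_mul,
      hyy, hwy, mul_zero, sub_zero] at h
    rcases mul_eq_zero.mp h.symm with h | h
    · exact h
    · exact absurd h hv
  apply hw
  have h := key v
  rw [hc0, zero_smul, sub_eq_zero] at h
  rw [Submodule.mem_span_singleton]
  refine ⟨(ω v y)⁻¹ * ω v w, ?_⟩
  rw [← smul_smul, h, smul_smul, inv_mul_cancel₀ hv, one_smul]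

end Cfsg.Agent.Lib.Helper8_T2O_AWNS
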