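import Mathlib
import Cfsg.Agent.Lib.Helper67_T2ODefs
import Cfsg.Agent.Lib.Helper94_OrthNondeg
import Cfsg.Agent.Lib.Helper82_T2_KR

set_option autoImplicit false
set_option linter.unusedSectionVars false
set_option linter.unusedVariables false

/-!
# TENS2O package ORBO, auxiliary form (helper91, for helper67): the statement of LAGO (`lag_fibre`)
is a hypothesis `hLAG`.  The final `orbo` is
`orbo_aux halt hN (fun L hL hinv => <LAGO>.lag_fibre halt hN L hL hinv) M hM hST g0 hg0 hnk`.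
-/

open Module
open Cfsg.Agent.Lib.Helper94_Symp Cfsg.Agent.Lib.Helper94_OrthSmall
  Cfsg.Agent.Lib.Helper94_OrthSiegel Cfsg.Agent.Lib.Helper94_OrthNondeg
  Cfsg.Agent.Lib.Helper67_Tens2Defs Cfsg.Agent.Lib.Helper67_T2ODefs

namespace Cfsg.Agent.Lib.Helper91_T2O_ORBOa

variable {F W : Type*} [Field F] [Finite F] [AddCommGroup W] [Module F W] [FiniteDimensional F W]
variable {ω : LinearMap.BilinForm F W}

theorem G0_eq_range : (G0 : Submodule F (W × W)) = LinearMap.range (LinearMap.inl F W W) := by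
  ext x
  rw [mem_G0, LinearMap.mem_range]
  constructor
  · intro h
    exact ⟨x.1, Prod.ext rfl h.symm⟩
  · rintro ⟨u, rfl⟩
    rfl

theorem finrank_G0 : finrank F (G0 : Submodule F (W × W)) = finrank F W := by
  rw [G0_eq_range]
  exact LinearMap.finrank_range_of_inj LinearMap.inl_injective

theorem finrank_Lg (g : (W × W) ≃ₗ[F] (W × W)) : finrank F (Lg g) = finrank F W := by
  unfold Lg
  rw [LinearEquiv.finrank_map_eq, finrank_G0]

/-- if `k G0 = g0 G0` with `k` Kronecker in `M` then `g0` is Kronecker -/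
theorem kron_of_same_image
    (M : Subgroup ((W × W) ≃ₗ[F] (W × W)))
    (hST : ∀ h ∈ M, (∀ x ∈ (G0 : Submodule F (W × W)), h x ∈ (G0 : Submodule F (W × W))) →
      IsKron2 h)
    (g0 k : (W × W) ≃ₗ[F] (W × W)) (hg0 : g0 ∈ M) (hk : k ∈ M) (hkK : IsKron2 k)
    (himg : ∀ x ∈ Lg g0, (k⁻¹ x).2 = 0) : IsKron2 g0 := by
  have h1 : IsKron2 (k⁻¹ * g0) := by
    apply hST _ (M.mul_mem (M.inv_mem hk) hg0)
    intro x hx
    rw [mem_G0, LinearEquiv.mul_apply]
    apply himg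
    exact ⟨x, hx, rfl⟩
  have h2 : g0 = k * (k⁻¹ * g0) := by group
  rw [h2]
  exact Cfsg.Agent.Lib.Helper82_T2_KR.isKron2_mul k (k⁻¹ * g0) hkK h1

/-- ORBO with the statement of LAGO as a hypothesis -/
theorem orbo_aux (halt : ω.IsAlt) (hN : ω.Nondegenerate)
    (hLAG : ∀ L : Submodule F (W × W), finrank F L = finrank F W →
      (∀ (y : W) (s : F), ∀ x ∈ L, oE (stv ω halt y s) x ∈ L) →
      ∃ a c : F, (a ≠ 0 ∨ c ≠ 0) ∧ ∀ x : W × W, x ∈ L ↔ ∃ u : W, x = (a • u, c • u))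
    (M : Subgroup ((W × W) ≃ₗ[F] (W × W))) (hM : HypO ω M)
    (hST : ∀ h ∈ M, (∀ x ∈ (G0 : Submodule F (W × W)), h x ∈ (G0 : Submodule F (W × W))) →
      IsKron2 h)
    (g0 : (W × W) ≃ₗ[F] (W × W)) (hg0 : g0 ∈ M) (hnk : ¬ IsKron2 g0) :
    ∃ (y : W) (s : F), ¬ ∀ x ∈ Lg g0, oE (stv ω halt y s) x ∈ Lg g0 := by
  by_contra hcon
  push Not at hcon
  apply hnk
  obtain ⟨a, c, hac, hL⟩ := hLAG (Lg g0) (finrank_Lg g0) hcon
  by_cases ha : a = 0
  · -- `L = 0 × W`, `k = jE`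
    apply kron_of_same_image M hST g0 (jE : (W × W) ≃ₗ[F] (W × W)) hg0 hM.jE_mem
      Cfsg.Agent.Lib.Helper82_T2_KR.isKron2_jE
    intro x hx
    obtain ⟨u, rfl⟩ := (hL x).mp hx
    have e : (jE : (W × W) ≃ₗ[F] (W × W))⁻¹ (a • u, c • u) = (-(c • u), a • u) := by
      rfl
    rw [e, ha, zero_smul]
  · -- `k = lx ((c / a) • 1)`
    apply kron_of_same_image M hST g0 (lx ((c / a) • (LinearMap.id : W →ₗ[F] W))) hg0
      (hM.lx_mem _) (Cfsg.Agent.Lib.Helper82_T2_KR.isKron2_lx _)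
    intro x hx
    obtain ⟨u, rfl⟩ := (hL x).mp hx
    have e : (lx ((c / a) • (LinearMap.id : W →ₗ[F] W)))⁻¹ (a • u, c • u) =
        (a • u, c • u - ((c / a) • (LinearMap.id : W →ₗ[F] W)) (a • u)) := by
      rfl
    rw [e]
    simp only [LinearMap.smul_apply, LinearMap.id_coe, id_eq, smul_smul]
    rw [div_mul_cancel₀ c ha, sub_self]

end Cfsg.Agent.Lib.Helper91_T2O_ORBOa
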