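import Mathlib
import Cfsg.Agent.Lib.Helper67_T2ODefs
import Cfsg.Agent.Lib.Helper94_OrthNondeg
import Cfsg.Agent.Lib.Helper82_T2_KR
import Cfsg.Agent.Lib.Helper9_T2_BR
import Cfsg.Agent.Lib.Helper78_UT2_NEXA
import Cfsg.Agent.Lib.Helper91_T2O_ORBOa
import Cfsg.Agent.Lib.Helper63_T2O_LAGO

set_option autoImplicit false
set_option linter.unusedSectionVars false
set_option linter.unusedVariables false

/-!
# TENS2O package ORBO (helper91, for helper67): a non-Kronecker `g0 ∈ M` moves `G0` to a subspace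
not stabilised by some `1 ⊗ (symplectic transvection)`
-/

open Module
open Cfsg.Agent.Lib.Helper94_Symp Cfsg.Agent.Lib.Helper94_OrthSmall
  Cfsg.Agent.Lib.Helper94_OrthSiegel Cfsg.Agent.Lib.Helper94_OrthNondeg
  Cfsg.Agent.Lib.Helper67_Tens2Defs Cfsg.Agent.Lib.Helper67_T2ODefs

namespace Cfsg.Agent.Lib.Helper91_T2O_ORBO

variable {F W : Type*} [Field F] [Finite F] [AddCommGroup W] [Module F W] [FiniteDimensional F W]
variable {ω : LinearMap.BilinForm F W}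

/-- ORBO : a non-Kronecker `g0 ∈ M` moves `G0` to a subspace not stabilised by some
`1 ⊗ (symplectic transvection)` -/
theorem orbo (halt : ω.IsAlt) (hN : ω.Nondegenerate)
    (M : Subgroup ((W × W) ≃ₗ[F] (W × W))) (hM : HypO ω M)
    (hST : ∀ h ∈ M, (∀ x ∈ (G0 : Submodule F (W × W)), h x ∈ (G0 : Submodule F (W × W))) →
      IsKron2 h)
    (g0 : (W × W) ≃ₗ[F] (W × W)) (hg0 : g0 ∈ M) (hnk : ¬ IsKron2 g0) :
    ∃ (y : W) (s : F), ¬ ∀ x ∈ Lg g0, oE (stv ω halt y s) x ∈ Lg g0 :=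
  Cfsg.Agent.Lib.Helper91_T2O_ORBOa.orbo_aux halt hN
    (fun L hL hinv => Cfsg.Agent.Lib.Helper63_T2O_LAGO.lag_fibre halt hN L hL hinv)
    M hM hST g0 hg0 hnk

end Cfsg.Agent.Lib.Helper91_T2O_ORBO
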