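import Mathlib
import Cfsg.Agent.Lib.Helper67_T2ODefs
import Cfsg.Agent.Lib.Helper94_OrthNondeg
import Cfsg.Agent.Lib.Helper82_T2_KR
import Cfsg.Agent.Lib.Helper9_T2_BR
import Cfsg.Agent.Lib.Helper78_UT2_NEXA

set_option autoImplicit false
set_option linter.unusedSectionVars false
set_option linter.unusedVariables false

/-!
# TENS2O package COMMO (helper92, architect helper67)

`1 ⊗ t` (`t` a symplectic transvection with centre `y ∈ DI g`) commutes with `g (ux (c • 1)) g⁻¹`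
(twin of `Helper42_UT2_COMMU`; uses helper78's NEXA `kron_quad`).
-/

open Module
open Cfsg.Agent.Lib.Helper94_Symp Cfsg.Agent.Lib.Helper94_OrthSmall
  Cfsg.Agent.Lib.Helper94_OrthSiegel Cfsg.Agent.Lib.Helper94_OrthNondeg
  Cfsg.Agent.Lib.Helper67_Tens2Defs Cfsg.Agent.Lib.Helper67_T2ODefs

namespace Cfsg.Agent.Lib.Helper92_T2O_COMMO

variable {F W : Type*} [Field F] [Finite F] [AddCommGroup W] [Module F W] [FiniteDimensional F W]
variable {ω : LinearMap.BilinForm F W}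

/-- `(t - 1)² = 0` for a symplectic transvection `t` -/
theorem stv_quad (halt : ω.IsAlt) (y : W) (s : F) (v : W) :
    stv ω halt y s (stv ω halt y s v) - stv ω halt y s v = stv ω halt y s v - v := by
  rw [stv_apply ω halt y s (stv ω halt y s v), stv_apply ω halt y s v]
  simp only [map_add, map_smul, LinearMap.add_apply, LinearMap.smul_apply, halt y, smul_eq_mul,
    mul_zero, add_zero]
  abel

/-- the shape `(1 + N) ⊗ !![1, τ; 0, 1]` commutes with `ux (c • 1)` -/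
theorem comm_of_shape (h : (W × W) ≃ₗ[F] (W × W)) (τ : F) (N : W →ₗ[F] W)
    (hform : ∀ u u' : W, h (u, u') = (u + N u + τ • (u' + N u'), u' + N u')) (c : F) :
    h * ux (c • (LinearMap.id : W →ₗ[F] W)) = ux (c • (LinearMap.id : W →ₗ[F] W)) * h := by
  apply LinearEquiv.ext
  rintro ⟨u, u'⟩
  simp only [LinearEquiv.mul_apply, ux_apply, hform, LinearMap.smul_apply, LinearMap.id_apply]
  ext
  · simp only [map_add, map_smul, smul_add]
    abel
  · rfl

/-- COMMO : `1 ⊗ t` (`t` a symplectic transvection with centre `y ∈ DI g`) commutes with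
`g (ux (c • 1)) g⁻¹` -/
theorem commo (halt : ω.IsAlt) (hN : ω.Nondegenerate)
    (M : Subgroup ((W × W) ≃ₗ[F] (W × W))) (hM : HypO ω M)
    (hST : ∀ h ∈ M, (∀ x ∈ (G0 : Submodule F (W × W)), h x ∈ (G0 : Submodule F (W × W))) →
      IsKron2 h)
    (g : (W × W) ≃ₗ[F] (W × W)) (hg : g ∈ M)
    (y : W) (hyD : y ∈ DI g) (s c : F) :
    oE (stv ω halt y s) * (g * ux (c • (LinearMap.id : W →ₗ[F] W)) * g⁻¹) =
      (g * ux (c • (LinearMap.id : W →ₗ[F] W)) * g⁻¹) * oE (stv ω halt y s) := by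
  have hRM : oE (stv ω halt y s) ∈ M := hM.oE_mem _ (stv_mem_isoGroup ω halt y s)
  obtain ⟨R, hR⟩ : ∃ R : (W × W) ≃ₗ[F] (W × W), R = oE (stv ω halt y s) := ⟨_, rfl⟩
  rw [← hR] at hRM ⊢
  obtain ⟨h, hh⟩ : ∃ h : (W × W) ≃ₗ[F] (W × W), h = g⁻¹ * R * g := ⟨_, rfl⟩
  have hhM : h ∈ M := by
    rw [hh]
    exact M.mul_mem (M.mul_mem (M.inv_mem hg) hRM) hg
  have hgoG : g ∈ oG (qf ω) := hM.le_oG hg
  -- the second components of `Lg g` are orthogonal to `y`
  have h2nd : ∀ x ∈ Lg g, ω x.2 y = 0 := by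
    intro x hx
    obtain ⟨u, rfl⟩ := mem_Lg.mp hx
    obtain ⟨v, hv⟩ := mem_Lg.mp (mem_DI.mp hyD)
    have h1 := oG_B (qf ω) (tf ω) (qf_add ω halt) hgoG (u, 0) (v, 0)
    rw [hv] at h1
    simp only [tf_apply, map_zero, LinearMap.zero_apply, sub_zero, zero_sub] at h1
    exact neg_eq_zero.mp h1
  -- `R` stabilises `Lg g`
  have hRL : ∀ x ∈ Lg g, R x ∈ Lg g := by
    intro x hx
    have e : R x = x + (s * ω x.1 y) • (y, (0 : W)) := by
      rw [hR, oE_apply, stv_apply, stv_apply, h2nd x hx]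
      ext <;> simp
    rw [e]
    exact (Lg g).add_mem hx ((Lg g).smul_mem _ (mem_DI.mp hyD))
  have hstab : ∀ x ∈ (G0 : Submodule F (W × W)), h x ∈ (G0 : Submodule F (W × W)) := by
    intro x hx
    rw [mem_G0, hh, LinearEquiv.mul_apply, LinearEquiv.mul_apply, ← mem_Lg']
    exact hRL _ ⟨x, hx, rfl⟩
  have hk : IsKron2 h := hST h hhM hstab
  have hRsq : ∀ v : W × W, R (R v) - R v = R v - v := by
    intro v
    rw [hR]
    simp only [oE_apply]
    exact Prod.ext (stv_quad halt y s v.1) (stv_quad halt y s v.2)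
  have hsq : ∀ x, h (h x) - h x = h x - x := by
    intro x
    rw [hh]
    simp only [LinearEquiv.mul_apply]
    rw [apply_inv_apply']
    have h1 := congrArg (g⁻¹ : (W × W) ≃ₗ[F] (W × W)) (hRsq (g x))
    rw [map_sub, map_sub, inv_apply_apply'] at h1
    exact h1
  obtain ⟨τ, N, -, -, hform⟩ := Cfsg.Agent.Lib.Helper78_UT2_NEXA.kron_quad h hk hstab hsq
  have hcomm := comm_of_shape h τ N hform c
  have hRg : R = g * h * g⁻¹ := by rw [hh]; group
  rw [hRg]
  calc g * h * g⁻¹ * (g * ux (c • (LinearMap.id : W →ₗ[F] W)) * g⁻¹)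
      = g * (h * ux (c • (LinearMap.id : W →ₗ[F] W))) * g⁻¹ := by group
    _ = g * (ux (c • (LinearMap.id : W →ₗ[F] W)) * h) * g⁻¹ := by rw [hcomm]
    _ = g * ux (c • (LinearMap.id : W →ₗ[F] W)) * g⁻¹ * (g * h * g⁻¹) := by group

end Cfsg.Agent.Lib.Helper92_T2O_COMMO
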