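import Mathlib
import Cfsg.Agent.Lib.Helper67_T2ODefs
import Cfsg.Agent.Lib.Helper94_OrthNondeg
import Cfsg.Agent.Lib.Helper82_T2_KR
import Cfsg.Agent.Lib.Helper9_T2_BR
import Cfsg.Agent.Lib.Helper78_UT2_NEXA

set_option autoImplicit false
set_option linter.unusedSectionVars false
set_option linter.unusedVariables false

/-!
helper93: TENS2O package GENO1B (architect helper67): connectivity: from one root group
`ux (t • aw ω y₀ w₀)` to all `ux (aw ω y w)`, `ω y w = 0` (`b ≥ 4`).
-/

open Module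
open Cfsg.Agent.Lib.Helper94_Symp Cfsg.Agent.Lib.Helper94_OrthSmall
  Cfsg.Agent.Lib.Helper94_OrthSiegel Cfsg.Agent.Lib.Helper94_OrthNondeg
  Cfsg.Agent.Lib.Helper67_Tens2Defs Cfsg.Agent.Lib.Helper67_T2ODefs

namespace Cfsg.Agent.Lib.Helper93_T2O_GENO1B

variable {F W : Type*} [Field F] [Finite F] [AddCommGroup W] [Module F W] [FiniteDimensional F W]
variable {ω : LinearMap.BilinForm F W}

/-- a vector orthogonal to `y₀` and `y` outside the lines `⟨y₀⟩`, `⟨y⟩` (`b ≥ 4`) -/
theorem exists_perp_avoid {F W : Type*} [Field F] [AddCommGroup W] [Module F W]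
    [FiniteDimensional F W] (ω : LinearMap.BilinForm F W) (h4 : 4 ≤ finrank F W) (y₀ y : W) :
    ∃ z : W, ω z y₀ = 0 ∧ ω z y = 0 ∧ z ∉ Submodule.span F {y₀} ∧ z ∉ Submodule.span F {y} := by
  let φ : W →ₗ[F] F × F := LinearMap.prod (ω.flip y₀) (ω.flip y)
  have hφ : ∀ v, φ v = (ω v y₀, ω v y) := fun v => rfl
  have hK : 2 ≤ finrank F (LinearMap.ker φ) := by
    have h2 : finrank F (LinearMap.range φ) + finrank F (LinearMap.ker φ) = finrank F W :=
      LinearMap.finrank_range_add_finrank_ker φ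
    have h3 : finrank F (LinearMap.range φ) ≤ 2 := by
      have := Submodule.finrank_le (LinearMap.range φ)
      rwa [Module.finrank_prod, Module.finrank_self] at this
    omega
  have hline : ∀ x : W, ∃ a ∈ LinearMap.ker φ, a ∉ Submodule.span F {x} := by
    intro x
    have hnle : ¬ LinearMap.ker φ ≤ Submodule.span F {x} := by
      intro hle
      have h1 := Submodule.finrank_mono hle
      have h2 : finrank F (Submodule.span F {x}) ≤ 1 := by
        by_cases hx : x = 0
        · rw [hx, Submodule.span_zero_singleton, finrank_bot]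
          omega
        · exact (finrank_span_singleton hx).le
      omega
    exact SetLike.not_le_iff_exists.mp hnle
  obtain ⟨a, haK, ha⟩ := hline y₀
  obtain ⟨b, hbK, hb⟩ := hline y
  have hmem : ∀ v ∈ LinearMap.ker φ, ω v y₀ = 0 ∧ ω v y = 0 := by
    intro v hv
    have h := LinearMap.mem_ker.mp hv
    rw [hφ] at h
    exact ⟨congrArg Prod.fst h, congrArg Prod.snd h⟩
  by_cases ha' : a ∈ Submodule.span F {y}
  · by_cases hb' : b ∈ Submodule.span F {y₀}
    · refine ⟨a + b, (hmem _ (Submodule.add_mem _ haK hbK)).1,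
        (hmem _ (Submodule.add_mem _ haK hbK)).2, ?_, ?_⟩
      · intro hab
        apply ha
        have : a = (a + b) - b := by abel
        rw [this]
        exact Submodule.sub_mem _ hab hb'
      · intro hab
        apply hb
        have : b = (a + b) - a := by abel
        rw [this]
        exact Submodule.sub_mem _ hab ha'
    · exact ⟨b, (hmem b hbK).1, (hmem b hbK).2, hb', hb⟩
  · exact ⟨a, (hmem a haK).1, (hmem a haK).2, ha, ha'⟩

/-- GENO1b : connectivity: all root groups `ux (aw ω y w)`, `ω y w = 0` (`b ≥ 4`) -/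
theorem aw_all (halt : ω.IsAlt) (hN : ω.Nondegenerate) (h4 : 4 ≤ finrank F W)
    (M : Subgroup ((W × W) ≃ₗ[F] (W × W))) (hM : HypO ω M)
    (hfix : ∀ y w : W, y ≠ 0 → w ∉ Submodule.span F {y} → ω y w = 0 →
      (∀ t : F, ux (t • aw ω y w) ∈ M) → ∀ z : W, ω y z = 0 → ∀ t : F, ux (t • aw ω y z) ∈ M)
    (y₀ w₀ : W) (hy₀ : y₀ ≠ 0) (hw₀ : w₀ ∉ Submodule.span F {y₀}) (h0 : ω y₀ w₀ = 0)
    (h : ∀ t : F, ux (t • aw ω y₀ w₀) ∈ M) :
    ∀ y w : W, ω y w = 0 → ux (aw ω y w) ∈ M := by
  intro y w hyw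
  have hux0 : ux (0 : W →ₗ[F] W) ∈ M := by
    have := hM.ux_mem 0
    rwa [zero_smul] at this
  by_cases hy : y = 0
  · have : aw ω y w = 0 := by
      apply LinearMap.ext
      intro v
      simp [hy]
    rw [this]
    exact hux0
  by_cases hw : w ∈ Submodule.span F {y}
  · obtain ⟨c, rfl⟩ := Submodule.mem_span_singleton.mp hw
    have : aw ω y (c • y) = 0 := by
      apply LinearMap.ext
      intro v
      simp only [aw_apply, map_smul, smul_eq_mul, LinearMap.zero_apply, smul_smul]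
      rw [mul_comm, sub_self]
    rw [this]
    exact hux0
  obtain ⟨z, hzy₀, hzy, hz₀, hz⟩ := exists_perp_avoid ω h4 y₀ y
  have hz0 : z ≠ 0 := by
    intro h0
    apply hz
    rw [h0]
    exact Submodule.zero_mem _
  have hy₀z : ω y₀ z = 0 := by rw [alt_swap ω halt, hzy₀, neg_zero]
  have hyz : ω y z = 0 := by rw [alt_swap ω halt, hzy, neg_zero]
  -- (1) all multiples of `aw y₀ z`
  have s1 : ∀ t : F, ux (t • aw ω y₀ z) ∈ M := hfix y₀ w₀ hy₀ hw₀ h0 h z hy₀z
  -- (2) all multiples of `aw z y₀`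
  have s2 : ∀ t : F, ux (t • aw ω z y₀) ∈ M := by
    intro t
    rw [aw_swap ω y₀ z, smul_neg, ← neg_smul]
    exact s1 (-t)
  -- `y₀ ∉ ⟨z⟩`
  have hy₀z' : y₀ ∉ Submodule.span F {z} := by
    intro hmem
    obtain ⟨c, hc⟩ := Submodule.mem_span_singleton.mp hmem
    apply hz₀
    have hc0 : c ≠ 0 := by
      intro h0
      apply hy₀
      rw [← hc, h0, zero_smul]
    have : z = c⁻¹ • y₀ := by rw [← hc, smul_smul, inv_mul_cancel₀ hc0, one_smul]
    rw [this]
    exact Submodule.smul_mem _ _ (Submodule.mem_span_singleton_self y₀)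
  -- (3) all multiples of `aw z y`
  have s3 : ∀ t : F, ux (t • aw ω z y) ∈ M := hfix z y₀ hz0 hy₀z' hzy₀ s2 y hzy
  -- (4) all multiples of `aw y z`
  have s4 : ∀ t : F, ux (t • aw ω y z) ∈ M := by
    intro t
    rw [aw_swap ω z y, smul_neg, ← neg_smul]
    exact s3 (-t)
  -- (5)
  have s5 := hfix y z hy hz hyz s4 w hyw 1
  rwa [one_smul] at s5

end Cfsg.Agent.Lib.Helper93_T2O_GENO1B
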