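import Mathlib
import Cfsg.Agent.Lib.Helper67_T2ODefs

set_option autoImplicit false
set_option linter.unusedSectionVars false
set_option linter.unusedVariables false

/-!
helper93: TENS2O package ST2O (architect helper67): under `RadStdO`, the stabiliser of
`G0 = W × 0` in `M` consists of Kronecker elements.  This file: `st2o_aux`, with the EIGO input
(`eig_all` for `D = ⊤`) as a hypothesis; the verbatim `st2o` is in `Helper93_T2O_ST2O`.
(Symplectic twin of `Helper53_UT2_ST2Uaux` / `Helper41_T2_ST2aux`.)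
-/

open Module
open Cfsg.Agent.Lib.Helper94_Symp Cfsg.Agent.Lib.Helper94_OrthSmall
  Cfsg.Agent.Lib.Helper94_OrthSiegel
  Cfsg.Agent.Lib.Helper67_Tens2Defs Cfsg.Agent.Lib.Helper67_T2ODefs

namespace Cfsg.Agent.Lib.Helper93_T2O_ST2Oaux

variable {F W : Type*} [Field F] [AddCommGroup W] [Module F W] [FiniteDimensional F W]
variable {ω : LinearMap.BilinForm F W}

/-- ST2O with the EIGO input (`eig_all` for `D = ⊤`) as a hypothesis -/
theorem st2o_aux (halt : ω.IsAlt) (hN : ω.Nondegenerate) (h3 : 3 ≤ finrank F W)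
    (hEIG : ∀ T : W →ₗ[F] W, (∀ y : W, ∃ l : F, T y = l • y) →
      ∃ c : F, ∀ u : W, T u = c • u)
    (M : Subgroup ((W × W) ≃ₗ[F] (W × W))) (hM : HypO ω M) (hR : RadStdO ω M)
    (g : (W × W) ≃ₗ[F] (W × W)) (hg : g ∈ M)
    (hg0 : ∀ x ∈ (G0 : Submodule F (W × W)), g x ∈ (G0 : Submodule F (W × W))) :
    IsKron2 g := by
  classical
  -- the components of `g`
  let α : W →ₗ[F] W := (LinearMap.fst F W W) ∘ₗ g.toLinearMap ∘ₗ (LinearMap.inl F W W)
  let γ : W →ₗ[F] W := (LinearMap.fst F W W) ∘ₗ g.toLinearMap ∘ₗ (LinearMap.inr F W W)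
  let δ : W →ₗ[F] W := (LinearMap.snd F W W) ∘ₗ g.toLinearMap ∘ₗ (LinearMap.inr F W W)
  have hg1 : ∀ u, g (u, 0) = (α u, 0) := by
    intro u
    have h := hg0 (u, 0) rfl
    exact Prod.ext rfl (mem_G0.mp h)
  have hg2 : ∀ u', g (0, u') = (γ u', δ u') := fun u' => rfl
  have hgf : ∀ u u', g (u, u') = (α u + γ u', δ u') := by
    intro u u'
    have h : ((u, u') : W × W) = (u, 0) + (0, u') := by simp
    rw [h, map_add, hg1, hg2]
    simp
  have hiso : ∀ x, qf ω (g x) = qf ω x := hM.le_oG hg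
  have h1 : ∀ u u', ω (α u) (δ u') = ω u u' := by
    intro u u'
    have h := hiso (u, u')
    have h0 := hiso (0, u')
    rw [hgf] at h
    rw [hg2] at h0
    simp only [qf_apply, map_add, LinearMap.add_apply, map_zero, LinearMap.zero_apply] at h h0
    rw [h0, add_zero] at h
    exact h
  have hαinj : Function.Injective α := by
    rw [injective_iff_map_eq_zero]
    intro u hu
    apply hN.1 u
    intro u'
    rw [← h1 u u', hu]
    simp
  have hδinj : Function.Injective δ := by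
    rw [injective_iff_map_eq_zero]
    intro u' hu'
    apply hN.2 u'
    intro u
    rw [← h1 u u', hu']
    simp
  let αe : W ≃ₗ[F] W := LinearEquiv.ofInjectiveEndo α hαinj
  let δe : W ≃ₗ[F] W := LinearEquiv.ofInjectiveEndo δ hδinj
  have hαe : ∀ u, αe u = α u := fun u => congrFun (LinearEquiv.coe_ofInjectiveEndo α hαinj) u
  have hδe : ∀ u, δe u = δ u := fun u => congrFun (LinearEquiv.coe_ofInjectiveEndo δ hδinj) u
  have hδs : ∀ u, δe.symm (δ u) = u := by
    intro u
    rw [← hδe, LinearEquiv.symm_apply_apply]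
  have hαs : ∀ u, αe.symm (α u) = u := by
    intro u
    rw [← hαe, LinearEquiv.symm_apply_apply]
  have hαs' : ∀ u, α (αe.symm u) = u := by
    intro u
    rw [← hαe, LinearEquiv.apply_symm_apply]
  -- STEP A
  let S : W →ₗ[F] W := α ∘ₗ (δe.symm : W →ₗ[F] W)
  have hSδ : ∀ w, S (δ w) = α w := by
    intro w
    show α (δe.symm (δ w)) = α w
    rw [hδs]
  have hA : g * ux ((1 : F) • (LinearMap.id : W →ₗ[F] W)) * g⁻¹ = ux S := by
    rw [mul_inv_eq_iff_eq_mul]
    apply LinearEquiv.ext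
    rintro ⟨u, u'⟩
    simp only [LinearEquiv.mul_apply, ux_apply, hgf, LinearMap.id_apply, map_add, one_smul]
    rw [hSδ]
    ext
    · simp only []
      abel
    · rfl
  have hSM : ux S ∈ M := by
    rw [← hA]
    exact M.mul_mem (M.mul_mem hg (hM.ux_mem 1)) (M.inv_mem hg)
  obtain ⟨c', hc'⟩ := hR S (isAltMap_of_ux_mem ω S (hM.le_oG hSM)) hSM
  have hαδ : ∀ w, α w = c' • δ w := by
    intro w
    have h := LinearMap.congr_fun hc' (δ w)
    rw [hSδ, LinearMap.smul_apply, LinearMap.id_apply] at h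
    exact h
  obtain ⟨x0, hx0⟩ : ∃ x : W, x ≠ 0 := by
    exact (Module.finrank_pos_iff_exists_ne_zero (R := F) (M := W)).mp (by omega)
  have hc'0 : c' ≠ 0 := by
    intro h0
    apply hx0
    apply hαinj
    rw [hαδ, h0, zero_smul, map_zero]
  have hδα : ∀ w, δ w = c'⁻¹ • α w := by
    intro w
    rw [hαδ, smul_smul, inv_mul_cancel₀ hc'0, one_smul]
  have h3' : ∀ u u', ω (α u) (α u') = c' * ω u u' := by
    intro u u'
    rw [hαδ u', map_smul, smul_eq_mul, h1]
  -- STEP B
  let S'' : W →ₗ[F] W := (αe.symm : W →ₗ[F] W) ∘ₗ γ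
  have hγS : ∀ w, γ w = α (S'' w) := by
    intro w
    show γ w = α (αe.symm (γ w))
    rw [hαs']
  have hcomm : ∀ (y : W) (s : F), ∀ v, S'' (stv ω halt y s v) = stv ω halt y s (S'' v) := by
    intro y s
    set Q : W ≃ₗ[F] W := stv ω halt y s with hQdef
    have hQSU : Q ∈ isoGroup ω := stv_mem_isoGroup ω halt y s
    have hQiso : ∀ u v, ω (Q u) (Q v) = ω u v := hQSU
    let Q' : W ≃ₗ[F] W := αe * Q * αe⁻¹
    have hQ'α : ∀ u, Q' (α u) = α (Q u) := by
      intro u
      show αe (Q (αe⁻¹ (α u))) = α (Q u)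
      have : αe⁻¹ (α u) = u := by
        rw [← hαe]
        exact inv_apply_apply' αe u
      rw [this, hαe]
    have hQ'SU : Q' ∈ isoGroup ω := by
      intro u v
      obtain ⟨u1, rfl⟩ : ∃ u1, α u1 = u := ⟨αe.symm u, hαs' u⟩
      obtain ⟨v1, rfl⟩ : ∃ v1, α v1 = v := ⟨αe.symm v, hαs' v⟩
      rw [hQ'α, hQ'α, h3', h3', hQiso]
    let T : W →ₗ[F] W :=
      (γ - (Q' : W →ₗ[F] W) ∘ₗ γ ∘ₗ (Q.symm : W →ₗ[F] W)) ∘ₗ (δe.symm : W →ₗ[F] W)
    have hTδ : ∀ w, T (δ w) = γ w - Q' (γ (Q.symm w)) := by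
      intro w
      show γ (δe.symm (δ w)) - Q' (γ (Q.symm (δe.symm (δ w)))) = _
      rw [hδs]
    have hQ'δ : ∀ w, Q' (δ w) = δ (Q w) := by
      intro w
      rw [hδα, map_smul, hQ'α, ← hδα]
    have hB : g * oE Q * g⁻¹ * (oE Q')⁻¹ = ux T := by
      rw [mul_inv_eq_iff_eq_mul, mul_inv_eq_iff_eq_mul]
      apply LinearEquiv.ext
      rintro ⟨u, u'⟩
      simp only [LinearEquiv.mul_apply, ux_apply, oE_apply, hgf, map_add]
      rw [hQ'α, hQ'δ, hTδ, LinearEquiv.symm_apply_apply]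
      ext
      · simp only []
        abel
      · rfl
    have hTM : ux T ∈ M := by
      rw [← hB]
      exact M.mul_mem (M.mul_mem (M.mul_mem hg (hM.oE_mem Q hQSU)) (M.inv_mem hg))
        (M.inv_mem (hM.oE_mem Q' hQ'SU))
    obtain ⟨t, ht⟩ := hR T (isAltMap_of_ux_mem ω T (hM.le_oG hTM)) hTM
    have hkey : ∀ w, S'' w - Q (S'' (Q.symm w)) = (t * c'⁻¹) • w := by
      intro w
      apply hαinj
      have h := LinearMap.congr_fun ht (δ w)
      rw [hTδ, LinearMap.smul_apply, LinearMap.id_apply, hγS w, hγS (Q.symm w), hQ'α, hδα,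
        smul_smul] at h
      rw [map_sub, map_smul]
      exact h
    -- a nonzero vector orthogonal to `y` with `S'' w ⊥ y`
    let φ : W →ₗ[F] F × F := LinearMap.prod (ω.flip y) ((ω.flip y) ∘ₗ S'')
    have hker : LinearMap.ker φ ≠ ⊥ := by
      apply LinearMap.ker_ne_bot_of_finrank_lt
      rw [Module.finrank_prod, Module.finrank_self]
      omega
    obtain ⟨w0, hw0ker, hw0⟩ := (Submodule.ne_bot_iff _).mp hker
    have hφ : φ w0 = 0 := hw0ker
    have hw0y : ω w0 y = 0 := by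
      have := congrArg Prod.fst hφ
      simpa [φ] using this
    have hSw0y : ω (S'' w0) y = 0 := by
      have := congrArg Prod.snd hφ
      simpa [φ] using this
    have hQw0 : Q w0 = w0 := stv_fix ω halt s hw0y
    have hQsw0 : Q.symm w0 = w0 := by
      rw [LinearEquiv.symm_apply_eq, hQw0]
    have hQSw0 : Q (S'' w0) = S'' w0 := stv_fix ω halt s hSw0y
    have ht0 : t * c'⁻¹ = 0 := by
      have h := hkey w0
      rw [hQsw0, hQSw0, sub_self] at h
      rcases smul_eq_zero.mp h.symm with h' | h'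
      · exact h'
      · exact absurd h' hw0
    intro v
    have h := hkey (Q v)
    rw [ht0, zero_smul, LinearEquiv.symm_apply_apply, sub_eq_zero] at h
    exact h
  -- every vector is an eigenvector of `S''`
  have heig : ∀ y : W, ∃ l : F, S'' y = l • y := by
    intro y
    by_cases hy0 : y = 0
    · exact ⟨0, by rw [hy0, map_zero, smul_zero]⟩
    have hv : ∃ v, ω v y ≠ 0 := by
      by_contra hcon
      push Not at hcon
      exact hy0 (hN.2 y hcon)
    obtain ⟨v, hv'⟩ := hv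
    have h := hcomm y 1 v
    rw [stv_apply, stv_apply, map_add, map_smul, add_right_inj, one_mul, one_mul] at h
    refine ⟨(ω v y)⁻¹ * ω (S'' v) y, ?_⟩
    rw [mul_smul, ← h, smul_smul, inv_mul_cancel₀ hv', one_smul]
  obtain ⟨r, hr⟩ := hEIG S'' heig
  refine ⟨!![1, r; 0, c'⁻¹], α, ?_⟩
  intro u u'
  rw [hgf, hγS, hr, hδα, map_smul]
  simp

end Cfsg.Agent.Lib.Helper93_T2O_ST2Oaux
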