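import Mathlib
import Cfsg.Agent.Lib.Helper67_T2ODefs
import Cfsg.Agent.Lib.Helper94_OrthNondeg
import Cfsg.Agent.Lib.Helper82_T2_KR
import Cfsg.Agent.Lib.Helper9_T2_BR
import Cfsg.Agent.Lib.Helper78_UT2_NEXA
import Cfsg.Agent.Lib.Helper93_T2O_ST2Oaux

set_option autoImplicit false
set_option linter.unusedSectionVars false
set_option linter.unusedVariables false

/-!
helper93: TENS2O package ST2O (architect helper67), verbatim: under `RadStdO`, the stabiliser of
`G0 = W × 0` in `M` consists of Kronecker elements.  (`st2o_aux` + the elementary fact that a linear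
map having every vector as an eigenvector is scalar, proved here as `eig_top`, so that the file does
not wait for EIGO.)
-/

open Module
open Cfsg.Agent.Lib.Helper94_Symp Cfsg.Agent.Lib.Helper94_OrthSmall
  Cfsg.Agent.Lib.Helper94_OrthSiegel Cfsg.Agent.Lib.Helper94_OrthNondeg
  Cfsg.Agent.Lib.Helper67_Tens2Defs Cfsg.Agent.Lib.Helper67_T2ODefs

namespace Cfsg.Agent.Lib.Helper93_T2O_ST2O

variable {F W : Type*} [Field F] [Finite F] [AddCommGroup W] [Module F W] [FiniteDimensional F W]
variable {ω : LinearMap.BilinForm F W}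

/-- a linear map having every vector as an eigenvector is scalar -/
theorem eig_top {F W : Type*} [Field F] [AddCommGroup W] [Module F W] (T : W →ₗ[F] W)
    (hT : ∀ y : W, ∃ l : F, T y = l • y) : ∃ c : F, ∀ u : W, T u = c • u := by
  by_cases h : ∃ x0 : W, x0 ≠ 0
  · obtain ⟨x0, hx0⟩ := h
    obtain ⟨c, hc⟩ := hT x0
    refine ⟨c, ?_⟩
    intro u
    obtain ⟨a, ha⟩ := hT u
    obtain ⟨b, hb⟩ := hT (u + x0)
    have e : (a - b) • u = (b - c) • x0 := by
      rw [map_add, ha, hc, smul_add] at hb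
      rw [sub_smul, sub_smul, sub_eq_sub_iff_add_eq_add, hb, add_comm]
    by_cases hab : a = b
    · subst hab
      rw [sub_self, zero_smul] at e
      rcases smul_eq_zero.mp e.symm with h' | h'
      · have : a = c := sub_eq_zero.mp h'
        rw [ha, this]
      · exact absurd h' hx0
    · have hab' : a - b ≠ 0 := sub_ne_zero.mpr hab
      have hu : u = ((a - b)⁻¹ * (b - c)) • x0 := by
        rw [mul_smul, ← e, smul_smul, inv_mul_cancel₀ hab', one_smul]
      rw [hu, map_smul, hc, smul_comm]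
  · push Not at h
    refine ⟨0, ?_⟩
    intro u
    rw [h u, map_zero, smul_zero]

/-- ST2O : under `RadStdO`, the stabiliser of `G0` in `M` is Kronecker (`b ≥ 3`) -/
theorem st2o (halt : ω.IsAlt) (hN : ω.Nondegenerate) (h3 : 3 ≤ finrank F W)
    (M : Subgroup ((W × W) ≃ₗ[F] (W × W))) (hM : HypO ω M) (hR : RadStdO ω M)
    (g : (W × W) ≃ₗ[F] (W × W)) (hg : g ∈ M)
    (hg0 : ∀ x ∈ (G0 : Submodule F (W × W)), g x ∈ (G0 : Submodule F (W × W))) :
    IsKron2 g :=
  Cfsg.Agent.Lib.Helper93_T2O_ST2Oaux.st2o_aux halt hN h3 eig_top M hM hR g hg hg0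

end Cfsg.Agent.Lib.Helper93_T2O_ST2O
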