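import Mathlib
import Cfsg.Agent.Lib.Helper67_T2ODefs
import Cfsg.Agent.Lib.Helper94_OrthNondeg
import Cfsg.Agent.Lib.Helper82_T2_KR
import Cfsg.Agent.Lib.Helper9_T2_BR
import Cfsg.Agent.Lib.Helper78_UT2_NEXA
import Cfsg.Agent.Lib.Helper58_T2O_HYPP
import Cfsg.Agent.Lib.Helper60_T2O_SSO

set_option autoImplicit false
set_option linter.unusedSectionVars false
set_option linter.unusedVariables false
set_option linter.unusedSimpArgs false

/-!
# TENS2O package GENO3 (architect helper67, formaliser helper9)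

The mixed Siegel element at `(e, 0)` with parameter `(0, t • g)` (`ω e g = 0`, `b ≥ 6`) is the
commutator of `ux (aw ω e (-t • v))` and `lx (aw ω g w)` for a hyperbolic pair `v, w`
orthogonal to `e, g`.
-/

open Module
open Cfsg.Agent.Lib.Helper94_Symp Cfsg.Agent.Lib.Helper94_OrthSmall
  Cfsg.Agent.Lib.Helper94_OrthSiegel Cfsg.Agent.Lib.Helper94_OrthNondeg
  Cfsg.Agent.Lib.Helper67_Tens2Defs Cfsg.Agent.Lib.Helper67_T2ODefs

namespace Cfsg.Agent.Lib.Helper9_T2O_GENO3

variable {F W : Type*} [Field F] [Finite F] [AddCommGroup W] [Module F W] [FiniteDimensional F W]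
variable {ω : LinearMap.BilinForm F W}

theorem h9_lx_mul (S S' : W →ₗ[F] W) : lx S * lx S' = lx (S + S') := by
  apply LinearEquiv.ext
  intro x
  simp only [LinearEquiv.mul_apply, lx_apply, LinearMap.add_apply]
  ext
  · rfl
  · simp only []; abel

theorem h9_lx_zero : lx (0 : W →ₗ[F] W) = 1 := by
  apply LinearEquiv.ext
  intro x
  simp

theorem h9_lx_inv (S : W →ₗ[F] W) : (lx S)⁻¹ = lx (-S) := by
  rw [inv_eq_iff_mul_eq_one, h9_lx_mul, add_neg_cancel, h9_lx_zero]

/-- the commutator of `ux A` and `lx C` when `A C A = 0 = C A C` -/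
theorem h9_comm_apply (A C : W →ₗ[F] W) (hACA : ∀ u, A (C (A u)) = 0)
    (hCAC : ∀ u, C (A (C u)) = 0) (x : W × W) :
    (ux A * lx C * (ux A)⁻¹ * (lx C)⁻¹) x = (x.1 + A (C x.1), x.2 - C (A x.2)) := by
  rw [ux_inv, h9_lx_inv]
  simp only [LinearEquiv.mul_apply, ux_apply, lx_apply, LinearMap.neg_apply, map_add, map_neg,
    neg_neg, hACA, hCAC, neg_zero, add_zero]
  ext
  · simp only []; abel
  · simp only []; abel

/-- GENO3 : the mixed Siegel elements at `(e, 0)` with parameter `(0, t • g)`, `ω e g = 0`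
(`b ≥ 6`) -/
theorem sieg_mixed (halt : ω.IsAlt) (hN : ω.Nondegenerate) (h6 : 6 ≤ finrank F W)
    (M : Subgroup ((W × W) ≃ₗ[F] (W × W))) (hM : HypO ω M)
    (haw : ∀ y w : W, ω y w = 0 → ux (aw ω y w) ∈ M) :
    ∀ e g : W, ω e g = 0 → ∀ t : F,
      sieg (qf ω) (tf ω) (e, (0 : W)) ((0 : W), t • g) ∈ M := by
  intro e g heg t
  obtain ⟨v, w, hvw, hve, hvg, hwe, hwg⟩ :=
    Cfsg.Agent.Lib.Helper58_T2O_HYPP.exists_hyp_perp halt hN h6 e g heg
  have hge : ω g e = 0 := by rw [alt_swap ω halt g e, heg, neg_zero]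
  have hev : ω e v = 0 := by rw [alt_swap ω halt e v, hve, neg_zero]
  have hgv : ω g v = 0 := by rw [alt_swap ω halt g v, hvg, neg_zero]
  have hew : ω e w = 0 := by rw [alt_swap ω halt e w, hwe, neg_zero]
  have hgw : ω g w = 0 := by rw [alt_swap ω halt g w, hwg, neg_zero]
  have hwv : ω w v = -1 := by rw [alt_swap ω halt w v, hvw]
  -- the two alternating maps
  have hA : ux (aw ω e ((-t) • v)) ∈ M := haw e ((-t) • v) (by rw [map_smul, hev, smul_zero])
  have hC : ux (aw ω g w) ∈ M := haw g w hgw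
  have hlC : lx (aw ω g w) ∈ M := Cfsg.Agent.Lib.Helper60_T2O_SSO.lx_of_ux M hM _ hC
  -- the products `A C` and `C A`
  have hAC : ∀ u : W, aw ω e ((-t) • v) (aw ω g w u) = (-(t * ω u g)) • e := by
    intro u
    simp only [aw_apply, map_sub, map_smul, LinearMap.sub_apply, LinearMap.smul_apply,
      smul_eq_mul, hgv, hge, hwv, hwe, mul_zero, zero_smul, sub_zero, smul_zero, smul_sub,
      smul_smul]
    module
  have hCA : ∀ u : W, aw ω g w (aw ω e ((-t) • v) u) = (t * ω u e) • g := by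
    intro u
    simp only [aw_apply, map_sub, map_smul, LinearMap.sub_apply, LinearMap.smul_apply,
      smul_eq_mul, hew, heg, hvw, hvg, mul_zero, zero_smul, sub_zero, smul_zero, smul_sub,
      smul_smul]
    module
  have hACA : ∀ u : W, aw ω e ((-t) • v) (aw ω g w (aw ω e ((-t) • v) u)) = 0 := by
    intro u
    rw [hAC]
    simp only [aw_apply, map_sub, map_smul, LinearMap.sub_apply, LinearMap.smul_apply,
      smul_eq_mul, hev, halt e, heg, hvg, hve, hge, hwe, hwg, hew, hgw, mul_zero, zero_mul,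
      zero_smul, sub_zero, smul_zero, neg_zero]
  have hCAC : ∀ u : W, aw ω g w (aw ω e ((-t) • v) (aw ω g w u)) = 0 := by
    intro u
    rw [hCA]
    simp only [aw_apply, map_sub, map_smul, LinearMap.sub_apply, LinearMap.smul_apply,
      smul_eq_mul, hgw, halt g, hge, heg, hve, hvg, hev, hwe, hwg, hew, mul_zero, zero_mul,
      zero_smul, sub_zero, smul_zero, neg_zero]
  have hkey : sieg (qf ω) (tf ω) (e, (0 : W)) ((0 : W), t • g) =
      ux (aw ω e ((-t) • v)) * lx (aw ω g w) * (ux (aw ω e ((-t) • v)))⁻¹ *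
        (lx (aw ω g w))⁻¹ := by
    apply LinearEquiv.ext
    intro x
    rw [h9_comm_apply _ _ hACA hCAC,
      sieg_apply (qf ω) (tf ω) (qf_smul ω) (qf_add ω halt) (by simp) (by simp [heg]),
      hAC, hCA]
    simp only [tf_apply, qf_apply, map_zero, LinearMap.zero_apply, zero_sub, sub_zero, map_smul,
      smul_eq_mul, Prod.smul_mk, smul_zero, zero_mul, zero_smul, mul_zero]
    ext
    · simp only [Prod.fst_add, Prod.fst_sub, smul_smul]
      module
    · simp only [Prod.snd_add, Prod.snd_sub, smul_smul]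
      module
  rw [hkey]
  exact M.mul_mem (M.mul_mem (M.mul_mem hA hlC) (M.inv_mem hA)) (M.inv_mem hlC)

end Cfsg.Agent.Lib.Helper9_T2O_GENO3
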