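import Mathlib
import Cfsg.Agent.Lib.Helper67_T2ODefs
import Cfsg.Agent.Lib.Helper26_T2O_KAP1O
import Cfsg.Agent.Lib.Helper39_T2O_END2
import Cfsg.Agent.Lib.Helper39_T2O_NDGO
import Cfsg.Agent.Lib.Helper3_T2O_GENO4
import Cfsg.Agent.Lib.Helper43_T2O_SEMIO
import Cfsg.Agent.Lib.Helper57_T2O_GENO1A
import Cfsg.Agent.Lib.Helper58_T2O_RSO
import Cfsg.Agent.Lib.Helper60_T2O_GENO5
import Cfsg.Agent.Lib.Helper61_T2O_END3
import Cfsg.Agent.Lib.Helper65_T2O_END1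
import Cfsg.Agent.Lib.Helper77_T2O_KAPEA
import Cfsg.Agent.Lib.Helper77_T2O_KAPEB
import Cfsg.Agent.Lib.Helper80_T2O_PAIRO
import Cfsg.Agent.Lib.Helper8_T2O_AWNS
import Cfsg.Agent.Lib.Helper91_T2O_ORBO
import Cfsg.Agent.Lib.Helper92_T2O_COMMO
import Cfsg.Agent.Lib.Helper93_T2O_GENO1B
import Cfsg.Agent.Lib.Helper93_T2O_ST2O
import Cfsg.Agent.Lib.Helper9_T2O_GENO3
import Cfsg.Agent.Lib.Helper94_OrthVec

set_option autoImplicit false

/-!
# `Sp_2(q) ⊗ Sp_b(q)` is maximal in `Ω^+_{2b}(q)`, all `q ≥ 3`, `b ≥ 6`: the abstract theorem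
(architect helper67, project TENS2O; packages by helpers 3, 8, 9, 25, 26, 39, 43, 45, 57, 58, 60,
61, 63, 65, 77, 80, 90, 91, 92, 93)
-/

namespace Cfsg.Agent.Lib.Helper67_T2OMain

open Module
open Cfsg.Agent.Lib.Helper94_Symp Cfsg.Agent.Lib.Helper94_OrthSmall
  Cfsg.Agent.Lib.Helper94_OrthSiegel
  Cfsg.Agent.Lib.Helper67_Tens2Defs Cfsg.Agent.Lib.Helper67_T2ODefs

variable {F W : Type*} [Field F] [Finite F] [AddCommGroup W] [Module F W] [FiniteDimensional F W]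
variable {ω : LinearMap.BilinForm F W}

/-- membership in `Lg (ux (c • 1) * g)` -/
theorem mem_Lg_ux_mul (c : F) (g : (W × W) ≃ₗ[F] (W × W)) (x : W × W) :
    x ∈ Lg (ux (c • (LinearMap.id : W →ₗ[F] W)) * g) ↔
      ux ((-c) • (LinearMap.id : W →ₗ[F] W)) x ∈ Lg g := by
  have hinv : (ux (c • (LinearMap.id : W →ₗ[F] W)))⁻¹ = ux ((-c) • (LinearMap.id : W →ₗ[F] W)) := by
    rw [ux_inv, neg_smul]
  rw [mem_Lg, mem_Lg]
  constructor
  · rintro ⟨u, rfl⟩
    refine ⟨u, ?_⟩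
    rw [LinearEquiv.mul_apply, ← hinv, inv_apply_apply']
  · rintro ⟨u, hu⟩
    refine ⟨u, ?_⟩
    rw [LinearEquiv.mul_apply, hu, ← hinv, apply_inv_apply']

theorem DI_ux_mul (c : F) (g : (W × W) ≃ₗ[F] (W × W)) :
    DI (ux (c • (LinearMap.id : W →ₗ[F] W)) * g) = DI g := by
  ext u
  rw [mem_DI, mem_DI, mem_Lg_ux_mul]
  simp

theorem Lg_ux_mul_ne (c : F) (g : (W × W) ≃ₗ[F] (W × W))
    (hne : Lg g ≠ (G0 : Submodule F (W × W))) :
    Lg (ux (c • (LinearMap.id : W →ₗ[F] W)) * g) ≠ (G0 : Submodule F (W × W)) := by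
  intro h
  apply hne
  ext x
  have h1 := mem_Lg_ux_mul c g (ux (c • (LinearMap.id : W →ₗ[F] W)) x)
  rw [h, mem_G0] at h1
  have h2 : ux ((-c) • (LinearMap.id : W →ₗ[F] W)) (ux (c • (LinearMap.id : W →ₗ[F] W)) x) = x := by
    rw [← LinearEquiv.mul_apply, ux_mul, ← add_smul, neg_add_cancel, zero_smul, ux_zero]
    rfl
  rw [h2] at h1
  rw [← h1, mem_G0]
  simp

/-- `InX` at `l • d` -/
theorem inX_smul_d (M : Subgroup ((W × W) ≃ₗ[F] (W × W))) (e d : W) (l x11 x12 x21 x22 : F)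
    (h : InX ω M e (l • d) x11 x12 x21 x22) :
    InX ω M e d (l * x11) (l * x12) (l * x21) (l * x22) := by
  obtain ⟨m, hm, hmf⟩ := h
  refine ⟨m, hm, ?_⟩
  intro u u'
  rw [hmf]
  simp only [map_smul, smul_eq_mul, smul_smul]
  ext
  · simp only []
    module
  · simp only []
    module

/-- the abstract theorem -/
theorem main_abstract (halt : ω.IsAlt) (hN : ω.Nondegenerate) (hb : 6 ≤ finrank F W)
    (hq : ∃ a : F, a ≠ 0 ∧ a ≠ 1)
    (hG3 : ∀ M' : Subgroup ((W × W) ≃ₗ[F] (W × W)),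
      (∀ u z, qf ω u = 0 → tf ω u z = 0 → sieg (qf ω) (tf ω) u z ∈ M') → Om ω ≤ M')
    (M : Subgroup ((W × W) ≃ₗ[F] (W × W))) (hM : HypO ω M) :
    (∀ g ∈ M, IsKron2 g) ∨ M = Om ω := by
  by_cases hR : RadStdO ω M
  · left
    by_contra hcon
    push Not at hcon
    obtain ⟨g0, hg0, hnk⟩ := hcon
    have hST : ∀ h ∈ M, (∀ x ∈ (G0 : Submodule F (W × W)), h x ∈ (G0 : Submodule F (W × W))) →
        IsKron2 h := fun h hh h0 => Cfsg.Agent.Lib.Helper93_T2O_ST2O.st2o halt hN (by omega) M hM hR h hh h0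
    have hSEMI : ∀ g ∈ M,
        (∀ c : F, ∀ x ∈ Lg g, ux (c • (LinearMap.id : W →ₗ[F] W)) x ∈ Lg g) →
        Lg g = (G0 : Submodule F (W × W)) :=
      fun g hg hstab => Cfsg.Agent.Lib.Helper43_T2O_SEMIO.semio halt hN (by omega) hq M hM hR hST g hg hstab
    obtain ⟨y, s, hns⟩ := Cfsg.Agent.Lib.Helper91_T2O_ORBO.orbo halt hN M hM hST g0 hg0 hnk
    obtain ⟨g, hg, hne, hdim, hmax⟩ := Cfsg.Agent.Lib.Helper80_T2O_PAIRO.pairo halt hN M hM g0 hg0 y s hns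
    have hD : NondegOn ω (DI g) := Cfsg.Agent.Lib.Helper39_T2O_NDGO.ndgo halt hN M hM hSEMI g hg hne hmax
    obtain ⟨e, f, hef, hperp, l, hl⟩ := Cfsg.Agent.Lib.Helper77_T2O_KAPEA.kapea halt hN M hM g hg hne hD hdim
    -- normalise: `0 × E ≤ g₁ G0`
    set g₁ : (W × W) ≃ₗ[F] (W × W) := ux ((-l) • (LinearMap.id : W →ₗ[F] W)) * g with hg₁def
    have hg₁ : g₁ ∈ M := M.mul_mem (hM.ux_mem _) hg
    have hDI : DI g₁ = DI g := DI_ux_mul _ g
    have hD₁ : NondegOn ω (DI g₁) := by rw [hDI]; exact hD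
    have hdim₁ : finrank F W ≤ finrank F (DI g₁) + 2 := by rw [hDI]; exact hdim
    have hperp₁ : ∀ u ∈ DI g₁, ω u e = 0 ∧ ω u f = 0 := by rw [hDI]; exact hperp
    have hE₁ : ∀ a b : F, ((0 : W), a • e + b • f) ∈ Lg g₁ := by
      intro a b
      rw [hg₁def, mem_Lg_ux_mul, neg_neg]
      have := hl a b
      simpa using this
    have hCOMM : ∀ y ∈ DI g₁, ∀ s c : F,
        oE (stv ω halt y s) * (g₁ * ux (c • (LinearMap.id : W →ₗ[F] W)) * g₁⁻¹) =
          (g₁ * ux (c • (LinearMap.id : W →ₗ[F] W)) * g₁⁻¹) * oE (stv ω halt y s) :=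
      fun y hyD s c => Cfsg.Agent.Lib.Helper92_T2O_COMMO.commo halt hN M hM hST g₁ hg₁ y hyD s c
    obtain ⟨ν, hν⟩ := Cfsg.Agent.Lib.Helper26_T2O_KAP1O.kap1o halt hN M hM g₁ hg₁ hCOMM
    obtain ⟨μ, hμ0, hμ⟩ := Cfsg.Agent.Lib.Helper77_T2O_KAPEB.kapeb halt hN M hM g₁ hg₁ hD₁ hdim₁ e f hef hperp₁ hE₁ ν hν
    obtain ⟨κ, hκ, hκf⟩ := Cfsg.Agent.Lib.Helper65_T2O_END1.end1 halt hN M hM g₁ hg₁ hD₁ hdim₁ e f hef hperp₁ ν hν μ hμ
    -- a nonzero vector of `D`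
    have hDpos : 0 < finrank F (DI g₁) := by omega
    obtain ⟨d, hdD, hd0⟩ : ∃ d ∈ DI g₁, d ≠ 0 := by
      by_contra hcon
      push Not at hcon
      have : DI g₁ = ⊥ := by
        rw [Submodule.eq_bot_iff]
        exact hcon
      rw [this, finrank_bot] at hDpos
      exact lt_irrefl _ hDpos
    have hde : ω d e = 0 := (hperp₁ d hdD).1
    have hdf : ω d f = 0 := (hperp₁ d hdD).2
    have hed : ω e d = 0 := by rw [alt_swap ω halt, hde, neg_zero]
    -- the scalable element of `InX`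
    have hX : ∀ t : F, InX ω M e d (t * (μ * ν)) (t * (-ν)) (t * μ) (t * 0) := by
      intro t
      apply inX_smul_d
      have h := Cfsg.Agent.Lib.Helper39_T2O_END2.end2 halt M hM e f (t • d) hef
        (by rw [map_smul, LinearMap.smul_apply, hde, smul_zero])
        (by rw [map_smul, LinearMap.smul_apply, hdf, smul_zero])
        0 (-ν) μ (-(μ * ν)) (by ring) κ hκ (by
          intro u u'
          rw [hκf]
          ext
          · simp only []
            module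
          · simp only []
            module)
      simpa using h
    have hux : ux (aw ω e d) ∈ M :=
      Cfsg.Agent.Lib.Helper61_T2O_END3.end3 halt hq M hM e d hed (μ * ν) (-ν) μ 0 (fun h => hμ0 h.2.1) hX
    obtain ⟨c, hc⟩ := hR _ (aw_isAltMap ω halt e d) hux
    have he0 : e ≠ 0 := by
      intro h
      rw [h, map_zero, LinearMap.zero_apply] at hef
      exact zero_ne_one hef
    have hdspan : d ∉ Submodule.span F {e} := by
      intro h
      obtain ⟨a, rfl⟩ := Submodule.mem_span_singleton.mp h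
      rw [map_smul, LinearMap.smul_apply, hef, smul_eq_mul, mul_one] at hdf
      apply hd0
      rw [hdf, zero_smul]
    exact Cfsg.Agent.Lib.Helper8_T2O_AWNS.aw_not_scalar halt hN e d he0 hdspan hed ⟨c, hc⟩
  · right
    unfold RadStdO at hR
    push Not at hR
    obtain ⟨S, hSalt, hSM, hns⟩ := hR
    obtain ⟨y, w, hy, hw, h0, h⟩ := Cfsg.Agent.Lib.Helper58_T2O_RSO.rso halt hN M hM S hSM (by
      rintro ⟨c, hc⟩; exact hns c hc)
    have haw := Cfsg.Agent.Lib.Helper93_T2O_GENO1B.aw_all halt hN (by omega) M hM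
      (fun y w hy hw h0 h => Cfsg.Agent.Lib.Helper57_T2O_GENO1A.aw_fix halt hN M hM y w hy hw h0 h) y w hy hw h0 h
    have hmix := Cfsg.Agent.Lib.Helper9_T2O_GENO3.sieg_mixed halt hN hb M hM haw
    have hl := Cfsg.Agent.Lib.Helper3_T2O_GENO4.sieg_left halt hN (by omega) M hM haw hmix
    have hr := Cfsg.Agent.Lib.Helper60_T2O_GENO5.sieg_right halt M hM hl
    -- a non-orthogonal pair
    have hWpos : 0 < finrank F W := by omega
    obtain ⟨e, he⟩ : ∃ e : W, e ≠ 0 := by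
      haveI : Nontrivial W := Module.finrank_pos_iff.mp hWpos
      exact exists_ne 0
    obtain ⟨f, hf⟩ : ∃ f : W, ω e f ≠ 0 := by
      by_contra hcon
      push Not at hcon
      exact he (hN.1 e hcon)
    have hall := Cfsg.Agent.Lib.Helper94_OrthVec.all_of_pair (qf ω) (tf ω) (qf_smul ω)
      (qf_add ω halt) (tf_nondegenerate ω hN) M hM.le_oG
      (w1 := (e, 0)) (w2 := (0, f)) ⟨by simp, hl e⟩ ⟨by simp, hr f⟩ (by simpa using hf)
    exact le_antisymm hM.le (hG3 M hall)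

end Cfsg.Agent.Lib.Helper67_T2OMain
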