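import Mathlib
import Cfsg.Agent.Lib.Helper67_T2ODefs
import Cfsg.Agent.Lib.Helper94_OrthNondeg
import Cfsg.Agent.Lib.Helper82_T2_KR
import Cfsg.Agent.Lib.Helper9_T2_BR
import Cfsg.Agent.Lib.Helper78_UT2_NEXA

set_option autoImplicit false
set_option linter.unusedSectionVars false
set_option linter.unusedVariables false

/-!
# TENS2O package KRO (architect helper67): if `ux S` is Kronecker then `S` is scalar.
-/

open Module
open Cfsg.Agent.Lib.Helper94_Symp Cfsg.Agent.Lib.Helper94_OrthSmall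
  Cfsg.Agent.Lib.Helper94_OrthSiegel Cfsg.Agent.Lib.Helper94_OrthNondeg
  Cfsg.Agent.Lib.Helper67_Tens2Defs Cfsg.Agent.Lib.Helper67_T2ODefs

namespace Cfsg.Agent.Lib.Helper8_T2O_KRO

variable {F W : Type*} [Field F] [Finite F] [AddCommGroup W] [Module F W] [FiniteDimensional F W]
variable {ω : LinearMap.BilinForm F W}

/-- KRO : if `ux S` is Kronecker then `S` is scalar -/
theorem scalar_of_isKron2_ux (S : W →ₗ[F] W) (h : IsKron2 (ux S)) :
    ∃ c : F, S = c • (LinearMap.id : W →ₗ[F] W) := by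
  obtain ⟨p, Q, hpQ⟩ := h
  have h1 : ∀ u : W, u = p 0 0 • Q u := by
    intro u
    have := congrArg Prod.fst (hpQ u 0)
    simpa using this
  have h2 : ∀ u' : W, S u' = p 0 1 • Q u' := by
    intro u'
    have := congrArg Prod.fst (hpQ 0 u')
    simpa using this
  by_cases hW : ∀ u : W, u = 0
  · refine ⟨0, ?_⟩
    apply LinearMap.ext
    intro u
    rw [hW (S u), hW u]
    simp
  · push Not at hW
    obtain ⟨ε, hε⟩ := hW
    have h00 : p 0 0 ≠ 0 := by
      intro h0
      apply hε
      have := h1 ε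
      rwa [h0, zero_smul] at this
    have hQ : ∀ u : W, Q u = (p 0 0)⁻¹ • u := by
      intro u
      conv_rhs => rw [h1 u]
      rw [smul_smul, inv_mul_cancel₀ h00, one_smul]
    refine ⟨p 0 1 * (p 0 0)⁻¹, ?_⟩
    apply LinearMap.ext
    intro u
    rw [h2 u, hQ u, smul_smul]
    simp

end Cfsg.Agent.Lib.Helper8_T2O_KRO
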