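import Mathlib
import Cfsg.Agent.Lib.Helper67_T2ODefs
import Cfsg.Agent.Lib.Helper94_OrthNondeg
import Cfsg.Agent.Lib.Helper82_T2_KR
import Cfsg.Agent.Lib.Helper9_T2_BR
import Cfsg.Agent.Lib.Helper78_UT2_NEXA

set_option autoImplicit false
set_option linter.unusedSectionVars false
set_option linter.unusedVariables false

/-!
# TENS2O market (architect helper67), package BROM (helper90)
Transport of `Ω = ⁅oG Q, oG Q⁆` and of "`Ω` is generated by the Siegel elements" along a linear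
isometry.
-/

open Module
open Cfsg.Agent.Lib.Helper94_Symp Cfsg.Agent.Lib.Helper94_OrthSmall
  Cfsg.Agent.Lib.Helper94_OrthSiegel Cfsg.Agent.Lib.Helper94_OrthNondeg
  Cfsg.Agent.Lib.Helper67_Tens2Defs Cfsg.Agent.Lib.Helper67_T2ODefs

namespace Cfsg.Agent.Lib.Helper90_T2O_BROM

variable {F W : Type*} [Field F] [Finite F] [AddCommGroup W] [Module F W] [FiniteDimensional F W]
variable {ω : LinearMap.BilinForm F W}

open Cfsg.Agent.Lib.Helper70_Tens_TP10b in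
/-- the image of `oG Q₀` under conjugation with a linear isometry -/
theorem map_oG {V₀ V : Type*} [AddCommGroup V₀] [Module F V₀] [AddCommGroup V]
    [Module F V] (θ : V₀ ≃ₗ[F] V) (Q₀ : V₀ → F) (Q : V → F) (hQ : ∀ v, Q₀ v = Q (θ v)) :
    (oG Q₀).map (conjE θ).toMonoidHom = oG Q := by
  ext h
  constructor
  · rintro ⟨g, hg, rfl⟩
    intro v
    show Q (conjE θ g v) = Q v
    rw [conjE_apply, ← hQ, hg (θ.symm v), hQ, LinearEquiv.apply_symm_apply]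
  · intro hh
    refine ⟨(conjE θ).symm h, ?_, ?_⟩
    · intro v
      have h1 : (conjE θ).symm h v = θ.symm (h (θ v)) := rfl
      rw [h1, hQ, LinearEquiv.apply_symm_apply, hh (θ v), ← hQ]
    · exact (conjE θ).apply_symm_apply h

/-- BROM : transport of `Ω` along a linear isometry -/
theorem map_commutator_oG {V₀ V : Type*} [AddCommGroup V₀] [Module F V₀] [AddCommGroup V]
    [Module F V] (θ : V₀ ≃ₗ[F] V) (Q₀ : V₀ → F) (Q : V → F) (hQ : ∀ v, Q₀ v = Q (θ v)) :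
    (⁅oG Q₀, oG Q₀⁆).map (Cfsg.Agent.Lib.Helper70_Tens_TP10b.conjE θ).toMonoidHom =
      ⁅oG Q, oG Q⁆ := by
  rw [Subgroup.map_commutator, map_oG θ Q₀ Q hQ]

/-- BROM : transport of "`Ω` is generated by the Siegel elements" along a linear isometry -/
theorem transport_hG3 {V₀ V : Type*} [AddCommGroup V₀] [Module F V₀] [AddCommGroup V]
    [Module F V] (θ : V₀ ≃ₗ[F] V) (Q₀ : V₀ → F) (B₀ : LinearMap.BilinForm F V₀) (Q : V → F)
    (B : LinearMap.BilinForm F V) (hQ : ∀ v, Q₀ v = Q (θ v)) (hB : ∀ v w, B₀ v w = B (θ v) (θ w))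
    (hQs₀ : ∀ (c : F) (v : V₀), Q₀ (c • v) = c * c * Q₀ v)
    (hQp₀ : ∀ u v : V₀, Q₀ (u + v) = Q₀ u + Q₀ v + B₀ u v)
    (hQs : ∀ (c : F) (v : V), Q (c • v) = c * c * Q v)
    (hQp : ∀ u v : V, Q (u + v) = Q u + Q v + B u v)
    (h : ∀ M₀ : Subgroup (V₀ ≃ₗ[F] V₀),
      (∀ u z, Q₀ u = 0 → B₀ u z = 0 → sieg Q₀ B₀ u z ∈ M₀) → ⁅oG Q₀, oG Q₀⁆ ≤ M₀) :
    ∀ M' : Subgroup (V ≃ₗ[F] V),
      (∀ u z, Q u = 0 → B u z = 0 → sieg Q B u z ∈ M') → ⁅oG Q, oG Q⁆ ≤ M' := by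
  intro M' hM'
  have key : ∀ u z, Q₀ u = 0 → B₀ u z = 0 →
      Cfsg.Agent.Lib.Helper70_Tens_TP10b.conjE θ (sieg Q₀ B₀ u z) = sieg Q B (θ u) (θ z) := by
    intro u z hu huz
    have hu' : Q (θ u) = 0 := by rw [← hQ, hu]
    have huz' : B (θ u) (θ z) = 0 := by rw [← hB, huz]
    apply LinearEquiv.ext
    intro x
    rw [Cfsg.Agent.Lib.Helper70_Tens_TP10b.conjE_apply, sieg_apply Q₀ B₀ hQs₀ hQp₀ hu huz,
      sieg_apply Q B hQs hQp hu' huz', hB, hB, hQ]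
    simp only [map_add, map_sub, map_smul, LinearEquiv.apply_symm_apply]
  have h1 := h (M'.comap (Cfsg.Agent.Lib.Helper70_Tens_TP10b.conjE θ).toMonoidHom) (by
    intro u z hu huz
    show Cfsg.Agent.Lib.Helper70_Tens_TP10b.conjE θ (sieg Q₀ B₀ u z) ∈ M'
    rw [key u z hu huz]
    exact hM' _ _ (by rw [← hQ, hu]) (by rw [← hB, huz]))
  rw [← map_commutator_oG θ Q₀ Q hQ]
  exact Subgroup.map_le_iff_le_comap.mpr h1

end Cfsg.Agent.Lib.Helper90_T2O_BROM
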