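import Mathlib
import Cfsg.Prelude.Def_GeometricClasses
import Cfsg.Agent.Lib.Helper94_Bridge
import Cfsg.Agent.Lib.Helper94_SLBridge
import Cfsg.Agent.Lib.Helper94_OrthFinal
import Cfsg.Agent.Lib.Helper29_OmegaMaxMain
import Cfsg.Agent.Lib.Helper29_ODDefs
import Cfsg.Agent.Lib.Helper14_SiegelOmega2

set_option autoImplicit false

/-!
Row-level bridge for the orthogonal decomposition stabilisers (rows S5692 / S5694): from the frozen
vocabulary (`IsOrthogonalMDecomposition`, `decompositionStabilizer`, `omegaGL`, `IsPlusTypeOn`) to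
the abstract setting of `Helper29_ODDefs` (`ODec`, `IsDStab`, `⁅oG Q, oG Q⁆`).  (helper94)
-/

namespace Cfsg.Agent.Lib.Helper94_ODRows

open Matrix Module Cfsg.Agent.Lib.Helper94_Symp Cfsg.Agent.Lib.Helper94_Bridge
  Cfsg.Agent.Lib.Helper94_SLBridge
  Cfsg.Agent.Lib.Helper94_OrthSmall Cfsg.Agent.Lib.Helper94_OrthBridge
  Cfsg.Agent.Lib.Helper94_OrthSiegel Cfsg.Agent.Lib.Helper94_OrthSiegel2
  Cfsg.Agent.Lib.Helper94_OrthGenBridge Cfsg.Agent.Lib.Helper94_OrthFinal
  Cfsg.Agent.Lib.Helper29_ODDefs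

variable {F : Type*} [Field F] [Fintype F] {n : ℕ}

/-- The abstract decomposition from the frozen one. -/
theorem odec_of (Q : (Fin n → F) → F) (hQ : Cfsg.Geo.IsNondegenerateQuadraticForm Q) {t k : ℕ}
    {D : Fin t → Submodule F (Fin n → F)} (hD : Cfsg.Geo.IsOrthogonalMDecomposition Q k D) :
    ODec Q (polarForm Q hQ) k D := by
  refine ⟨hD.decomp.decomp.finrank_eq, hD.decomp.decomp.iSup_eq_top, ?_, ?_, hD.isometric⟩
  · intro i a ha ha0
    obtain ⟨x, hx, hxa⟩ := (hD.decomp.nondegenerate i a ha ha0).1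
    exact ⟨x, hx, by rw [polarForm_apply]; exact hxa⟩
  · intro i j hij u hu v hv
    rw [polarForm_apply]
    exact hD.decomp.orthogonal i j hij u hu v hv

/-- The decomposition stabiliser, transported to linear equivalences. -/
noncomputable def dS {t : ℕ} (D : Fin t → Submodule F (Fin n → F)) :
    Subgroup ((Fin n → F) ≃ₗ[F] (Fin n → F)) :=
  (Cfsg.Geo.decompositionStabilizer D).comap (glEquiv (Fin n) F).symm.toMonoidHom

theorem isDStab_dS {t : ℕ} (D : Fin t → Submodule F (Fin n → F)) : IsDStab D (dS D) := by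
  intro g
  have key : Matrix.toLin' (((glEquiv (Fin n) F).symm g :
      Matrix.GeneralLinearGroup (Fin n) F) : Matrix (Fin n) (Fin n) F) =
      (g : (Fin n → F) →ₗ[F] (Fin n → F)) := by
    refine LinearMap.ext fun x => ?_
    rw [Matrix.toLin'_apply, ← glEquiv_apply, MulEquiv.apply_symm_apply]
    rfl
  constructor
  · rintro ⟨σ, hσ⟩
    refine ⟨σ, fun i => ?_⟩
    have := hσ i
    simp only [MulEquiv.toMonoidHom_eq_coe, MonoidHom.coe_coe] at this
    rw [key] at this
    exact this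
  · rintro ⟨σ, hσ⟩
    refine ⟨σ, fun i => ?_⟩
    simp only [MulEquiv.toMonoidHom_eq_coe, MonoidHom.coe_coe]
    rw [key]
    exact hσ i

/-- Siegel elements are commutators (`n ≥ 7`). -/
theorem hG2_gen (Q : (Fin n → F) → F) (hQ : Cfsg.Geo.IsNondegenerateQuadraticForm Q)
    (hn : 7 ≤ n) : ∀ u z, Q u = 0 → polarForm Q hQ u z = 0 →
      sieg Q (polarForm Q hQ) u z ∈ ⁅oG Q, oG Q⁆ := by
  intro u z hu huz
  exact sieg_mem_commutator' Q _ (gen_hQs Q hQ) (gen_hQp Q hQ) (gen_hN Q hQ)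
    (by simp only [Module.finrank_fintype_fun_eq_card, Fintype.card_fin]; exact hn) hu huz

/-- `Ω` is generated by the Siegel elements (`n ≥ 5`; every characteristic). -/
theorem hG3_gen (Q : (Fin n → F) → F) (hQ : Cfsg.Geo.IsNondegenerateQuadraticForm Q)
    (hn : 5 ≤ n) : ∀ M : Subgroup ((Fin n → F) ≃ₗ[F] (Fin n → F)),
      (∀ u z, Q u = 0 → polarForm Q hQ u z = 0 → sieg Q (polarForm Q hQ) u z ∈ M) →
        ⁅oG Q, oG Q⁆ ≤ M := by
  classical
  have hc2 : (2 : F) = 0 →
      commutator ↥(Cfsg.isometryGroup F (⇑(qfOf Q hQ))) ≤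
        Cfsg.Agent.Lib.Helper14_Siegel.siegelGroup (qfOf Q hQ) :=
    fun h2 => Cfsg.Agent.Lib.Helper14_SiegelOmega2.commutator_le_siegelGroup_two h2 _
      (polarBilin_qfOf_nondeg Q hQ) (by rw [Fintype.card_fin]; omega)
  exact gen_hG3 Q hQ hc2 (by rw [Fintype.card_fin]; exact hn)

/-- The bridge: the abstract maximality statement for `dS D` gives the frozen conclusion. -/
theorem rows_bridge (Q : (Fin n → F) → F) {t : ℕ} (D : Fin t → Submodule F (Fin n → F))
    (h : (dS D ⊓ ⁅oG Q, oG Q⁆ < ⁅oG Q, oG Q⁆) ∧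
      ∀ M : Subgroup ((Fin n → F) ≃ₗ[F] (Fin n → F)), dS D ⊓ ⁅oG Q, oG Q⁆ ≤ M →
        M ≤ ⁅oG Q, oG Q⁆ → M = dS D ⊓ ⁅oG Q, oG Q⁆ ∨ M = ⁅oG Q, oG Q⁆) :
    Cfsg.Geo.IsMaximalIn (Cfsg.Geo.omegaGL Q)
      (Cfsg.Geo.decompositionStabilizer D ⊓ Cfsg.Geo.omegaGL Q) := by
  have hSeq : Cfsg.Geo.decompositionStabilizer D =
      (dS D).comap (glEquiv (Fin n) F).toMonoidHom :=
    (comap_symm_comap (glEquiv (Fin n) F) _).symm
  rw [hSeq, omegaGL_eq, ← Subgroup.comap_inf]
  exact isMaximalIn_comap _ _ _ h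

/-- `t * k = n`. -/
theorem card_eq {Q : (Fin n → F) → F} {t k : ℕ} {D : Fin t → Submodule F (Fin n → F)}
    (hD : Cfsg.Geo.IsOrthogonalMDecomposition Q k D) : t * k = n := by
  have := Cfsg.Agent.Lib.Helper29_OmegaMaxMain.decomp_card hD.decomp.decomp
  rwa [Fintype.card_fin] at this

/-- A plane which is not of plus type is anisotropic. -/
theorem ani_of_not_plus (Q : (Fin n → F) → F) (hQ : Cfsg.Geo.IsNondegenerateQuadraticForm Q)
    (W : Submodule F (Fin n → F)) (hW : finrank F W = 2) (hnp : ¬ Cfsg.Geo.IsPlusTypeOn Q W) :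
    ∀ x ∈ W, Q x = 0 → x = 0 := by
  intro x hx hQx
  by_contra hx0
  apply hnp
  refine ⟨Submodule.span F {x}, ?_, ?_, ?_⟩
  · rw [Submodule.span_le]
    intro y hy
    rw [Set.mem_singleton_iff.mp hy]
    exact hx
  · intro w hw
    obtain ⟨c, rfl⟩ := Submodule.mem_span_singleton.mp hw
    rw [gen_hQs Q hQ, hQx, mul_zero]
  · rw [finrank_span_singleton hx0, hW]

/-- In a block of dimension four which is not of plus type, two orthogonal singular vectors are
linearly dependent. -/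
theorem dep_of_not_plus (Q : (Fin n → F) → F) (hQ : Cfsg.Geo.IsNondegenerateQuadraticForm Q)
    (W : Submodule F (Fin n → F)) (hW : finrank F W = 4) (hnp : ¬ Cfsg.Geo.IsPlusTypeOn Q W)
    {u v : Fin n → F} (hu : u ∈ W) (hv : v ∈ W) (hQu : Q u = 0) (hQv : Q v = 0)
    (huv : polarForm Q hQ u v = 0) : u = 0 ∨ ∃ c : F, v = c • u := by
  by_contra hcon
  push Not at hcon
  obtain ⟨hu0, hvc⟩ := hcon
  apply hnp
  have hli : LinearIndependent F ![u, v] := by
    rw [LinearIndependent.pair_iff' hu0]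
    intro c hc
    exact hvc c hc.symm
  refine ⟨Submodule.span F (Set.range ![u, v]), ?_, ?_, ?_⟩
  · rw [Submodule.span_le]
    rintro y ⟨i, rfl⟩
    fin_cases i
    · exact hu
    · exact hv
  · intro w hw
    rw [Matrix.range_cons, Matrix.range_cons, Matrix.range_empty, Set.union_empty,
      Set.singleton_union, Submodule.mem_span_pair] at hw
    obtain ⟨a, b, rfl⟩ := hw
    rw [gen_hQp Q hQ, gen_hQs Q hQ, gen_hQs Q hQ, hQu, hQv]
    simp only [map_smul, LinearMap.smul_apply, huv]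
    simp
  · rw [finrank_span_eq_card hli, hW]
    simp

/-- Plus type is invariant under isometries. -/
theorem plus_of_isometric (Q : (Fin n → F) → F) {W W' : Submodule F (Fin n → F)}
    (h : Cfsg.Geo.AreIsometricFor Q W W') (hp : Cfsg.Geo.IsPlusTypeOn Q W) :
    Cfsg.Geo.IsPlusTypeOn Q W' := by
  obtain ⟨e, he⟩ := h
  obtain ⟨U, hUW, hU, hfr⟩ := hp
  -- the image of `U` under `e`
  let U₀ : Submodule F W := U.comap W.subtype
  let U₁ : Submodule F W' := U₀.map (e : W →ₗ[F] W')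
  refine ⟨U₁.map W'.subtype, ?_, ?_, ?_⟩
  · rintro _ ⟨y, -, rfl⟩
    exact y.2
  · rintro _ ⟨y, ⟨x, hx, rfl⟩, rfl⟩
    have := he x
    simp only [Submodule.subtype_apply, LinearEquiv.coe_coe]
    rw [this]
    exact hU _ hx
  · have h1 : finrank F (U₁.map W'.subtype) = finrank F U₁ :=
      LinearEquiv.finrank_eq (Submodule.equivMapOfInjective _ W'.injective_subtype U₁).symm
    have h2 : finrank F U₁ = finrank F U₀ :=
      LinearEquiv.finrank_eq (Submodule.equivMapOfInjective _ e.injective U₀).symm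
    have h3 : finrank F U₀ = finrank F U := by
      have h4 : U₀.map W.subtype = U := by
        rw [Submodule.map_comap_subtype]
        exact inf_eq_right.mpr hUW
      rw [← h4]
      exact LinearEquiv.finrank_eq (Submodule.equivMapOfInjective _ W.injective_subtype U₀)
    rw [h1, h2, h3, hfr]
    exact LinearEquiv.finrank_eq e

end Cfsg.Agent.Lib.Helper94_ODRows
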