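import Mathlib
import Cfsg.Agent.Lib.Helper67_T2OMain
import Cfsg.Agent.Lib.Helper9_T2_BR
import Cfsg.Agent.Lib.Helper45_T2O_BRFORM
import Cfsg.Agent.Lib.Helper58_T2O_HYPP
import Cfsg.Agent.Lib.Helper61_T2O_BRGEN
import Cfsg.Agent.Lib.Helper8_T2O_AWNS
import Cfsg.Agent.Lib.Helper8_T2O_KRO
import Cfsg.Agent.Lib.Helper90_T2O_BROM
import Cfsg.Agent.Lib.Helper94_ODRows

set_option autoImplicit false

/-!
# `Sp_2(q) ⊗ Sp_{n₂}(q)` is maximal in `Ω^+_{2 n₂}(q)`: all `q ≥ 3`, `n₂ ≥ 6` (prelude statement;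
clause (17) of omega12plus S5870 and the `n₁ = 2` case of S5704)
(architect helper67; bridge packages by helpers 25, 45, 61, 90; reuses helper9's `Helper9_T2_BR`)
-/

namespace Cfsg.Agent.Lib.Helper67_T2OFinal

open Module Matrix Cfsg.Geo
open Cfsg.Agent.Lib.Helper94_Symp Cfsg.Agent.Lib.Helper94_OrthSmall
  Cfsg.Agent.Lib.Helper94_OrthSiegel Cfsg.Agent.Lib.Helper94_OrthBridge
  Cfsg.Agent.Lib.Helper94_OrthGenBridge
  Cfsg.Agent.Lib.Helper67_Tens2Defs Cfsg.Agent.Lib.Helper67_T2ODefs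
  Cfsg.Agent.Lib.Helper94_Bridge Cfsg.Agent.Lib.Helper9_T2_BR

/-- `Sp_2(q) ⊗ Sp_{n₂}(q)` is maximal in `Ω^+_{2 n₂}(q)`: all `q ≥ 3`, `n₂ ≥ 6` -/
theorem maximal_tens2o {F : Type*} [Field F] [Fintype F] (n n₂ : ℕ) (hq : 3 ≤ Fintype.card F)
    (h6 : 6 ≤ n₂) (Q : (Fin n → F) → F) (hQ : Cfsg.Geo.IsNondegenerateQuadraticForm Q)
    (e : Fin n ≃ Fin 2 × Fin n₂) (P : Matrix.GeneralLinearGroup (Fin n) F)
    (f₁ : (Fin 2 → F) → (Fin 2 → F) → F) (f₂ : (Fin n₂ → F) → (Fin n₂ → F) → F)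
    (hf1 : Cfsg.Geo.IsSymplecticForm f₁) (hf2 : Cfsg.Geo.IsSymplecticForm f₂)
    (hT : Cfsg.Geo.IsTensorFormStructure id (QuadraticMap.polar Q) f₁ f₂ e P)
    (hpure : ∀ (x₁ : Fin 2 → F) (x₂ : Fin n₂ → F),
      Q (Matrix.mulVec (P : Matrix (Fin n) (Fin n) F)
        ((fun a : Fin 2 × Fin n₂ => x₁ a.1 * x₂ a.2) ∘ e)) = 0) :
    Cfsg.Geo.IsMaximalIn (Cfsg.Geo.omegaGL Q)
      (Cfsg.Geo.tensorProductSubgroup 2 n₂ e P ⊓ Cfsg.Geo.omegaGL Q) := by
  classical
  have hn1 : 1 ≤ n₂ := by omega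
  obtain ⟨ω, halt, hN, hQω⟩ := Cfsg.Agent.Lib.Helper45_T2O_BRFORM.form_data n n₂ hn1 Q hQ e P f₁ f₂ hf1 hf2 hT hpure
  -- `q ≥ 3`
  have hq' : ∃ a : F, a ≠ 0 ∧ a ≠ 1 := by
    by_contra hcon
    push Not at hcon
    have hall : ∀ a : F, a = 0 ∨ a = 1 := fun a => by
      by_cases h : a = 0
      · exact Or.inl h
      · exact Or.inr (hcon a h)
    have : Fintype.card F ≤ 2 := by
      calc Fintype.card F ≤ ({0, 1} : Finset F).card := by
            apply Finset.card_le_card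
            intro a _
            rcases hall a with h | h <;> simp [h]
        _ ≤ 2 := Finset.card_le_two
    omega
  have hn : n = 2 * n₂ := by
    have := Fintype.card_congr e
    simpa using this
  have hfr : finrank F (Fin n₂ → F) = n₂ := by simp
  -- the polar form
  have hB : ∀ v w, polarForm Q hQ v w = tf ω (Theta e P v) (Theta e P w) := by
    intro v w
    rw [polarForm_apply, QuadraticMap.polar, hQω, hQω, hQω, map_add, qf_add ω halt]
    ring
  -- `Ω`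
  have hmapOm : (⁅oG Q, oG Q⁆).map (Cfsg.Agent.Lib.Helper70_Tens_TP10b.conjE (Theta e P)).toMonoidHom = Om ω :=
    Cfsg.Agent.Lib.Helper90_T2O_BROM.map_commutator_oG (Theta e P) Q (qf ω) hQω
  have hK : Cfsg.Geo.omegaGL Q = (Om ω).comap (Phi e P).toMonoidHom := by
    rw [omegaGL_eq, ← hmapOm]
    ext g
    simp only [Subgroup.mem_comap, Subgroup.mem_map, MulEquiv.coe_toMonoidHom]
    constructor
    · intro hg
      exact ⟨glEquiv (Fin n) F g, hg, rfl⟩
    · rintro ⟨x, hx, hxg⟩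
      have : x = glEquiv (Fin n) F g := (Cfsg.Agent.Lib.Helper70_Tens_TP10b.conjE (Theta e P)).injective hxg
      rw [← this]
      exact hx
  -- `hG3`
  have hG3 : ∀ M' : Subgroup (((Fin n₂ → F) × (Fin n₂ → F)) ≃ₗ[F] ((Fin n₂ → F) × (Fin n₂ → F))),
      (∀ u z, qf ω u = 0 → tf ω u z = 0 → sieg (qf ω) (tf ω) u z ∈ M') → Om ω ≤ M' :=
    Cfsg.Agent.Lib.Helper90_T2O_BROM.transport_hG3 (Theta e P) Q (polarForm Q hQ) (qf ω) (tf ω) hQω hB
      (gen_hQs Q hQ) (gen_hQp Q hQ) (qf_smul ω) (qf_add ω halt)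
      (Cfsg.Agent.Lib.Helper94_ODRows.hG3_gen Q hQ (by omega))
  set H' : Subgroup (((Fin n₂ → F) × (Fin n₂ → F)) ≃ₗ[F] ((Fin n₂ → F) × (Fin n₂ → F))) :=
    (Cfsg.Geo.tensorProductSubgroup 2 n₂ e P ⊓ Cfsg.Geo.omegaGL Q).map (Phi e P).toMonoidHom
    with hH'
  have hmemH : ∀ x, x ∈ H' ↔ x ∈ Om ω ∧ IsKron2 x := by
    intro x
    constructor
    · rintro ⟨g, ⟨hgT, hgS⟩, rfl⟩
      refine ⟨?_, isKron2_of_mem e P g hgT⟩
      rw [hK] at hgS
      exact hgS
    · rintro ⟨hx1, hx2⟩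
      refine ⟨(Phi e P).symm x, ⟨?_, ?_⟩, (Phi e P).apply_symm_apply x⟩
      · apply mem_of_isKron2 hn1 e P
        rw [MulEquiv.apply_symm_apply]
        exact hx2
      · show (Phi e P).symm x ∈ Cfsg.Geo.omegaGL Q
        rw [hK, Subgroup.mem_comap]
        show (Phi e P) ((Phi e P).symm x) ∈ Om ω
        rw [MulEquiv.apply_symm_apply]
        exact hx1
  have hmax : H' < Om ω ∧ ∀ M' : Subgroup _, H' ≤ M' → M' ≤ Om ω →
      M' = H' ∨ M' = Om ω := by
    constructor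
    · refine lt_of_le_of_ne (fun x hx => ((hmemH x).mp hx).1) ?_
      intro heq
      -- a root element which is not Kronecker
      set y : Fin n₂ → F := Pi.single ⟨0, by omega⟩ 1 with hy
      have hy0 : y ≠ 0 := by
        intro h
        have := congrFun h ⟨0, by omega⟩
        simp [hy] at this
      obtain ⟨f, e₂, f₂', hyf, he₂f₂, hye₂, hyf₂, hfe₂, hff₂⟩ :=
        Cfsg.Agent.Lib.Helper58_T2O_HYPP.exists_hyp2 halt hN (by rw [hfr]; omega) y hy0
      have he₂span : e₂ ∉ Submodule.span F {y} := by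
        intro h
        obtain ⟨a, rfl⟩ := Submodule.mem_span_singleton.mp h
        rw [map_smul, LinearMap.smul_apply, hyf₂, smul_zero] at he₂f₂
        exact zero_ne_one he₂f₂
      have hmem : ux (aw ω y e₂) ∈ Om ω := Cfsg.Agent.Lib.Helper61_T2O_BRGEN.ux_aw_mem_Om halt hN hq' y e₂
      rw [← heq] at hmem
      exact Cfsg.Agent.Lib.Helper8_T2O_AWNS.aw_not_scalar halt hN y e₂ hy0 he₂span hye₂
        (Cfsg.Agent.Lib.Helper8_T2O_KRO.scalar_of_isKron2_ux _ ((hmemH _).mp hmem).2)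
    · intro M' hHM hMK
      have hyp : HypO ω M' := by
        refine ⟨hMK, ?_, ?_, ?_, ?_, ?_⟩
        · intro c'
          apply hHM
          rw [hmemH]
          exact ⟨Cfsg.Agent.Lib.Helper61_T2O_BRGEN.ux_mem_Om halt hN hq' c', isKron2_ux c'⟩
        · intro c'
          apply hHM
          rw [hmemH]
          exact ⟨Cfsg.Agent.Lib.Helper61_T2O_BRGEN.lx_mem_Om halt hN hq' c', Cfsg.Agent.Lib.Helper82_T2_KR.isKron2_lx c'⟩
        · intro a
          apply hHM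
          rw [hmemH]
          exact ⟨Cfsg.Agent.Lib.Helper61_T2O_BRGEN.hE_mem_Om halt hN hq' a, isKron2_hE a⟩
        · apply hHM
          rw [hmemH]
          exact ⟨Cfsg.Agent.Lib.Helper61_T2O_BRGEN.jE_mem_Om halt hN hq', Cfsg.Agent.Lib.Helper82_T2_KR.isKron2_jE⟩
        · intro T hT'
          apply hHM
          rw [hmemH]
          exact ⟨Cfsg.Agent.Lib.Helper61_T2O_BRGEN.oE_mem_Om halt hN hq' T hT', isKron2_oE T⟩
      rcases Cfsg.Agent.Lib.Helper67_T2OMain.main_abstract halt hN (by rw [hfr]; exact h6) hq' hG3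
        M' hyp with hall | heq
      · left
        apply le_antisymm _ hHM
        intro x hx
        rw [hmemH]
        exact ⟨hMK hx, hall x hx⟩
      · exact Or.inr heq
  have hfin := isMaximalIn_comap (Phi e P) (Om ω) H' hmax
  rw [← hK, hH', Subgroup.comap_map_eq_self_of_injective (Phi e P).injective] at hfin
  exact hfin

end Cfsg.Agent.Lib.Helper67_T2OFinal
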