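import Mathlib
import Cfsg.Agent.Lib.Helper67_Tens2Defs

set_option autoImplicit false

/-!
# TENS2 package FIN (helper67): from `1 + X ⊗ ε ε^♭ ∈ M` to a transvection
-/

namespace Cfsg.Agent.Lib.Helper67_T2_FIN

open Module
open Cfsg.Agent.Lib.Helper94_Symp Cfsg.Agent.Lib.Helper67_Tens2Defs

variable {F B : Type*} [Field F] [AddCommGroup B] [Module F B]

/-- `g` acts as `1 + Y ⊗ ε ε^♭` -/
def IsXR (β : LinearMap.BilinForm F B) (ε : B) (g : (B × B) ≃ₗ[F] (B × B))
    (y11 y12 y21 y22 : F) : Prop :=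
  ∀ u u' : B, g (u, u') =
    (u + (y11 * β u ε + y12 * β u' ε) • ε, u' + (y21 * β u ε + y22 * β u' ε) • ε)

theorem isXR_mul (β : LinearMap.BilinForm F B) (ε : B) (hε : β ε ε = 0)
    (g g' : (B × B) ≃ₗ[F] (B × B)) (y11 y12 y21 y22 z11 z12 z21 z22 : F)
    (hg : IsXR β ε g y11 y12 y21 y22) (hg' : IsXR β ε g' z11 z12 z21 z22) :
    IsXR β ε (g * g') (y11 + z11) (y12 + z12) (y21 + z21) (y22 + z22) := by
  intro u u'
  rw [LinearEquiv.mul_apply, hg', hg]
  simp only [map_add, map_smul, LinearMap.add_apply, LinearMap.smul_apply, hε, smul_eq_mul,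
    mul_zero, add_zero]
  ext
  · simp only []
    rw [add_assoc, ← add_smul]
    congr 2
    ring
  · simp only []
    rw [add_assoc, ← add_smul]
    congr 2
    ring

theorem isXR_inv (β : LinearMap.BilinForm F B) (ε : B) (hε : β ε ε = 0)
    (g : (B × B) ≃ₗ[F] (B × B)) (y11 y12 y21 y22 : F)
    (hg : IsXR β ε g y11 y12 y21 y22) :
    IsXR β ε g⁻¹ (-y11) (-y12) (-y21) (-y22) := by
  intro u u'
  have h := hg (u + (-y11 * β u ε + -y12 * β u' ε) • ε) (u' + (-y21 * β u ε + -y22 * β u' ε) • ε)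
  simp only [map_add, map_smul, LinearMap.add_apply, LinearMap.smul_apply, hε, smul_eq_mul,
    mul_zero, add_zero] at h
  have h' : g (u + (-y11 * β u ε + -y12 * β u' ε) • ε, u' + (-y21 * β u ε + -y22 * β u' ε) • ε)
      = (u, u') := by
    rw [h]
    ext
    · simp only []
      rw [add_assoc, ← add_smul]
      have : -y11 * β u ε + -y12 * β u' ε + (y11 * β u ε + y12 * β u' ε) = 0 := by ring
      rw [this, zero_smul, add_zero]
    · simp only []
      rw [add_assoc, ← add_smul]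
      have : -y21 * β u ε + -y22 * β u' ε + (y21 * β u ε + y22 * β u' ε) = 0 := by ring
      rw [this, zero_smul, add_zero]
  rw [← h', inv_apply_apply']

theorem isXR_conj (β : LinearMap.BilinForm F B) (ε : B)
    (g : (B × B) ≃ₗ[F] (B × B)) (y11 y12 y21 y22 t : F)
    (hg : IsXR β ε g y11 y12 y21 y22) :
    IsXR β ε (ux (t • (LinearMap.id : B →ₗ[F] B)) * g * ux ((-t) • (LinearMap.id : B →ₗ[F] B)))
      (y11 + t * y21) (y12 + t * (y22 - y11) - t * t * y21) y21 (y22 - t * y21) := by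
  intro u u'
  rw [LinearEquiv.mul_apply, LinearEquiv.mul_apply, ux_apply]
  simp only [LinearMap.smul_apply, LinearMap.id_apply]
  rw [hg, ux_apply]
  simp only [LinearMap.smul_apply, LinearMap.id_apply, map_add, map_smul, LinearMap.add_apply,
    LinearMap.smul_apply, smul_eq_mul, smul_add, smul_smul, neg_smul, map_neg,
    LinearMap.neg_apply]
  ext
  · simp only []
    match_scalars <;> ring
  · simp only []
    congr 2
    ring

theorem fin {F B : Type*} [Field F] [AddCommGroup B] [Module F B]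
    (β : LinearMap.BilinForm F B) (hs : ∀ u v, β u v = β v u)
    (M : Subgroup ((B × B) ≃ₗ[F] (B × B))) (hM : HypM β M)
    (ε : B) (hε : β ε ε = 0) (x11 x12 x21 x22 : F)
    (m : (B × B) ≃ₗ[F] (B × B)) (hm : m ∈ M)
    (hmf : ∀ u u' : B, m (u, u') =
      (u + (x11 * β u ε + x12 * β u' ε) • ε, u' + (x21 * β u ε + x22 * β u' ε) • ε)) :
    ux ((-2 * x21) • rk1 β ε) ∈ M := by
  have h0 : IsXR β ε m x11 x12 x21 x22 := hmf
  have h1 := isXR_conj β ε m x11 x12 x21 x22 1 h0
  have h2 := isXR_conj β ε m x11 x12 x21 x22 (-1) h0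
  have hi := isXR_inv β ε hε m x11 x12 x21 x22 h0
  have h12 := isXR_mul β ε hε _ _ _ _ _ _ _ _ _ _ h1 h2
  have h123 := isXR_mul β ε hε _ _ _ _ _ _ _ _ _ _ h12 hi
  have h1234 := isXR_mul β ε hε _ _ _ _ _ _ _ _ _ _ h123 hi
  have hmem : (ux ((1 : F) • (LinearMap.id : B →ₗ[F] B)) * m *
      ux ((-(1 : F)) • (LinearMap.id : B →ₗ[F] B))) *
      (ux ((-1 : F) • (LinearMap.id : B →ₗ[F] B)) * m *
      ux ((-(-1 : F)) • (LinearMap.id : B →ₗ[F] B))) * m⁻¹ * m⁻¹ ∈ M := by
    refine M.mul_mem (M.mul_mem (M.mul_mem ?_ ?_) (M.inv_mem hm)) (M.inv_mem hm)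
    · exact M.mul_mem (M.mul_mem (hM.ux_mem _) hm) (hM.ux_mem _)
    · exact M.mul_mem (M.mul_mem (hM.ux_mem _) hm) (hM.ux_mem _)
  convert hmem using 1
  apply LinearEquiv.ext
  rintro ⟨u, u'⟩
  rw [h1234 u u']
  simp only [ux_apply, LinearMap.smul_apply, rk1_apply]
  ext
  · simp only [smul_smul]
    congr 2
    ring
  · simp only []
    have : x21 + x21 + -x21 + -x21 = 0 := by ring
    have h' : x22 - 1 * x21 + (x22 - -1 * x21) + -x22 + -x22 = 0 := by ring
    rw [this, h', zero_mul, zero_mul, add_zero, zero_smul, add_zero]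

end Cfsg.Agent.Lib.Helper67_T2_FIN
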