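import Mathlib
import Cfsg.Agent.Lib.Helper67_Tens2Defs

set_option autoImplicit false
set_option linter.unusedSimpArgs false

/-!
# TENS2 package SIEG (helper67): the Siegel commutator trick

For `κ ∈ M` fixing `(ε, 0)` and `(0, ε)` (`ε` singular) and `z ⊥ ε`, with `ρ = ρ_{ε,z}` the Siegel
element, `c(z) = (1 ⊗ ρ) κ (1 ⊗ ρ)⁻¹ κ⁻¹` satisfies `c(z) c(-z) = 1 + X ⊗ ε ε^♭`, where `X` is the
`2 × 2` matrix of `(1 ⊗ z^♭) (κ - κ⁻¹) (1 ⊗ z)`.
-/

namespace Cfsg.Agent.Lib.Helper67_T2_SIEG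

open Module
open Cfsg.Agent.Lib.Helper94_Symp Cfsg.Agent.Lib.Helper67_Tens2Defs

/-- the identity in an abstract ring -/
theorem ring_key {A : Type*} [Ring A] (k k' P Q H : A)
    (hkk' : k * k' = 1) (hk'k : k' * k = 1)
    (hkP : k * P = P) (hk'P : k' * P = P) (hkH : k * H = H) (hk'H : k' * H = H)
    (hQk : Q * k = Q) (hQk' : Q * k' = Q) (hHk : H * k = H) (hHk' : H * k' = H)
    (hPP : P * P = 0) (hQQ : Q * Q = 0) (hHH : H * H = 0) (hPQ : P * Q = H + H) (hQP : Q * P = 0)
    (hHP : H * P = 0) (hPH : P * H = 0) (hHQ : H * Q = 0) (hQH : Q * H = 0) :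
    ((1 + P - Q - H) * k * (1 - P + Q - H) * k') * ((1 - P + Q - H) * k * (1 + P - Q - H) * k')
      = 1 + P * (k - k') * Q := by
  have a1 : ∀ x, k * (k' * x) = x := fun x => by rw [← mul_assoc, hkk', one_mul]
  have a2 : ∀ x, k' * (k * x) = x := fun x => by rw [← mul_assoc, hk'k, one_mul]
  have a3 : ∀ x, k * (P * x) = P * x := fun x => by rw [← mul_assoc, hkP]
  have a4 : ∀ x, k' * (P * x) = P * x := fun x => by rw [← mul_assoc, hk'P]
  have a5 : ∀ x, k * (H * x) = H * x := fun x => by rw [← mul_assoc, hkH]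
  have a6 : ∀ x, k' * (H * x) = H * x := fun x => by rw [← mul_assoc, hk'H]
  have a7 : ∀ x, Q * (k * x) = Q * x := fun x => by rw [← mul_assoc, hQk]
  have a8 : ∀ x, Q * (k' * x) = Q * x := fun x => by rw [← mul_assoc, hQk']
  have a9 : ∀ x, H * (k * x) = H * x := fun x => by rw [← mul_assoc, hHk]
  have a10 : ∀ x, H * (k' * x) = H * x := fun x => by rw [← mul_assoc, hHk']
  have a11 : ∀ x, P * (P * x) = 0 := fun x => by rw [← mul_assoc, hPP, zero_mul]
  have a12 : ∀ x, Q * (Q * x) = 0 := fun x => by rw [← mul_assoc, hQQ, zero_mul]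
  have a13 : ∀ x, H * (H * x) = 0 := fun x => by rw [← mul_assoc, hHH, zero_mul]
  have a14 : ∀ x, P * (Q * x) = H * x + H * x := fun x => by rw [← mul_assoc, hPQ, add_mul]
  have a15 : ∀ x, Q * (P * x) = 0 := fun x => by rw [← mul_assoc, hQP, zero_mul]
  have a16 : ∀ x, H * (P * x) = 0 := fun x => by rw [← mul_assoc, hHP, zero_mul]
  have a17 : ∀ x, P * (H * x) = 0 := fun x => by rw [← mul_assoc, hPH, zero_mul]
  have a18 : ∀ x, H * (Q * x) = 0 := fun x => by rw [← mul_assoc, hHQ, zero_mul]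
  have a19 : ∀ x, Q * (H * x) = 0 := fun x => by rw [← mul_assoc, hQH, zero_mul]
  simp only [mul_add, add_mul, mul_sub, sub_mul, mul_one, one_mul, mul_assoc,
    hkk', hk'k, hkP, hk'P, hkH, hk'H, hQk, hQk', hHk, hHk', hPP, hQQ, hHH, hPQ, hQP, hHP, hPH,
    hHQ, hQH, a1, a2, a3, a4, a5, a6, a7, a8, a9, a10, a11, a12, a13, a14, a15, a16, a17, a18, a19,
    mul_zero, zero_mul, sub_zero, add_zero, zero_add, zero_sub]
  abel

variable {F B : Type*} [Field F] [AddCommGroup B] [Module F B]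

/-- `x ↦ (a x.1 • w, a x.2 • w)`, the operator `1 ⊗ w a` -/
def opr (a : B →ₗ[F] F) (w : B) : Module.End F (B × B) :=
  LinearMap.prodMap (a.smulRight w) (a.smulRight w)

@[simp] theorem opr_apply (a : B →ₗ[F] F) (w : B) (x : B × B) :
    opr a w x = (a x.1 • w, a x.2 • w) := by
  simp [opr]

theorem opr_mul_opr (a a' : B →ₗ[F] F) (w w' : B) :
    opr a w * opr a' w' = a w' • opr a' w := by
  apply LinearMap.ext
  intro x
  simp only [Module.End.mul_apply, opr_apply, LinearMap.smul_apply, map_smul, smul_eq_mul,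
    Prod.smul_mk, smul_smul]
  ext <;> simp only [] <;> congr 1 <;> ring

theorem opr_mul_opr_zero (a a' : B →ₗ[F] F) (w w' : B) (h : a w' = 0) :
    opr a w * opr a' w' = 0 := by
  rw [opr_mul_opr, h, zero_smul]

theorem opr_neg_left (β : LinearMap.BilinForm F B) (z w : B) :
    opr (β.flip (-z)) w = - opr (β.flip z) w := by
  apply LinearMap.ext
  intro x
  simp only [opr_apply, LinearMap.BilinForm.flip_apply, map_neg, neg_smul, LinearMap.neg_apply]
  rfl

theorem opr_neg_right (a : B →ₗ[F] F) (w : B) : opr a (-w) = - opr a w := by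
  apply LinearMap.ext
  intro x
  simp only [opr_apply, smul_neg, LinearMap.neg_apply]
  rfl

theorem oE_siegel_eq (β : LinearMap.BilinForm F B) (hs : ∀ u v, β u v = β v u) (h2 : (2 : F) ≠ 0)
    (ε z : B) (hε : β ε ε = 0) (hεz : β ε z = 0) :
    (oE (siegel β hs h2 ε z hε hεz)).toLinearMap =
      1 + opr (β.flip z) ε - opr (β.flip ε) z - ((2 : F)⁻¹ * β z z) • opr (β.flip ε) ε := by
  apply LinearMap.ext
  intro x
  simp only [LinearEquiv.coe_coe, oE_apply, siegel_apply, LinearMap.sub_apply,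
    LinearMap.add_apply, Module.End.one_apply, opr_apply, LinearMap.smul_apply,
    LinearMap.BilinForm.flip_apply, Prod.smul_mk, smul_smul]
  rfl

theorem sieg {F B : Type*} [Field F] [AddCommGroup B] [Module F B]
    (β : LinearMap.BilinForm F B) (hs : ∀ u v, β u v = β v u) (h2 : (2 : F) ≠ 0)
    (M : Subgroup ((B × B) ≃ₗ[F] (B × B))) (hM : HypM β M)
    (κ : (B × B) ≃ₗ[F] (B × B)) (hκ : κ ∈ M) (ε z : B) (hε : β ε ε = 0) (hεz : β ε z = 0)
    (hf1 : κ (ε, 0) = (ε, 0)) (hf2 : κ (0, ε) = (0, ε)) :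
    ∃ m ∈ M, ∀ u u' : B, m (u, u') =
      (u + (β ((κ (z, 0) - κ⁻¹ (z, 0)).1) z * β u ε + β ((κ (0, z) - κ⁻¹ (0, z)).1) z * β u' ε) • ε,
       u' + (β ((κ (z, 0) - κ⁻¹ (z, 0)).2) z * β u ε + β ((κ (0, z) - κ⁻¹ (0, z)).2) z * β u' ε) • ε) := by
  have hzε : β z ε = 0 := by rw [hs]; exact hεz
  have hεz' : β ε (-z) = 0 := by rw [map_neg, hεz, neg_zero]
  have hκi : κ ∈ isoGroup (tf β) := hM.le hκ
  have hκ'i : κ⁻¹ ∈ isoGroup (tf β) := (isoGroup (tf β)).inv_mem hκi
  have hf1' : κ⁻¹ (ε, 0) = (ε, 0) := by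
    conv_lhs => rw [← hf1]
    exact inv_apply_apply' κ _
  have hf2' : κ⁻¹ (0, ε) = (0, ε) := by
    conv_lhs => rw [← hf2]
    exact inv_apply_apply' κ _
  -- the Siegel elements
  set ρ := siegel β hs h2 ε z hε hεz with hρ
  set ρ' := siegel β hs h2 ε (-z) hε hεz' with hρ'
  have hρM : oE ρ ∈ M := hM.oE_mem ρ (siegel_mem_isoGroup β hs h2 ε z hε hεz)
  have hρ'M : oE ρ' ∈ M := hM.oE_mem ρ' (siegel_mem_isoGroup β hs h2 ε (-z) hε hεz')
  have hinv1 : ∀ v, ρ' (ρ v) = v := fun v => siegelL_inv β hs h2 ε z hε hεz v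
  have hinv2 : ∀ v, ρ (ρ' v) = v := fun v => by
    have := siegelL_inv β hs h2 ε (-z) hε hεz' v
    rw [neg_neg] at this
    exact this
  have hoinv : (oE ρ)⁻¹ = oE ρ' := by
    rw [inv_eq_iff_mul_eq_one]
    apply LinearEquiv.ext
    intro x
    simp only [LinearEquiv.mul_apply, oE_apply, hinv2]
    rfl
  have hoinv' : (oE ρ')⁻¹ = oE ρ := by
    rw [inv_eq_iff_mul_eq_one]
    apply LinearEquiv.ext
    intro x
    simp only [LinearEquiv.mul_apply, oE_apply, hinv1]
    rfl
  refine ⟨(oE ρ * κ * (oE ρ)⁻¹ * κ⁻¹) * (oE ρ' * κ * (oE ρ')⁻¹ * κ⁻¹), ?_, ?_⟩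
  · exact M.mul_mem
      (M.mul_mem (M.mul_mem (M.mul_mem hρM hκ) (M.inv_mem hρM)) (M.inv_mem hκ))
      (M.mul_mem (M.mul_mem (M.mul_mem hρ'M hκ) (M.inv_mem hρ'M)) (M.inv_mem hκ))
  -- operators
  set k : Module.End F (B × B) := κ.toLinearMap with hk
  set k' : Module.End F (B × B) := (κ⁻¹).toLinearMap with hk'
  set P : Module.End F (B × B) := opr (β.flip z) ε with hP
  set Q : Module.End F (B × B) := opr (β.flip ε) z with hQ
  set H : Module.End F (B × B) := ((2 : F)⁻¹ * β z z) • opr (β.flip ε) ε with hH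
  have eR : (oE ρ).toLinearMap = 1 + P - Q - H := oE_siegel_eq β hs h2 ε z hε hεz
  have eR' : (oE ρ').toLinearMap = 1 - P + Q - H := by
    rw [hρ', oE_siegel_eq β hs h2 ε (-z) hε hεz', opr_neg_left, opr_neg_right, hP, hQ, hH]
    simp only [map_neg, LinearMap.neg_apply, neg_neg]
    abel
  -- the relations
  have hkk' : k * k' = 1 := by
    apply LinearMap.ext; intro x
    simp only [hk, hk', Module.End.mul_apply, LinearEquiv.coe_coe, Module.End.one_apply]
    exact apply_inv_apply' κ x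
  have hk'k : k' * k = 1 := by
    apply LinearMap.ext; intro x
    simp only [hk, hk', Module.End.mul_apply, LinearEquiv.coe_coe, Module.End.one_apply]
    exact inv_apply_apply' κ x
  have fixk : ∀ a c : F, κ (a • ε, c • ε) = (a • ε, c • ε) := by
    intro a c
    have : ((a • ε, c • ε) : B × B) = a • (ε, 0) + c • (0, ε) := by
      ext <;> simp
    rw [this, map_add, map_smul, map_smul, hf1, hf2]
  have fixk' : ∀ a c : F, κ⁻¹ (a • ε, c • ε) = (a • ε, c • ε) := by
    intro a c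
    have : ((a • ε, c • ε) : B × B) = a • (ε, 0) + c • (0, ε) := by
      ext <;> simp
    rw [this, map_add, map_smul, map_smul, hf1', hf2']
  have ebk : ∀ (g : (B × B) ≃ₗ[F] (B × B)), g ∈ isoGroup (tf β) → g (ε, 0) = (ε, 0) →
      g (0, ε) = (0, ε) → ∀ x, β (g x).1 ε = β x.1 ε ∧ β (g x).2 ε = β x.2 ε := by
    intro g hg h1 h2' x
    constructor
    · have := hg x (0, ε)
      rw [h2'] at this
      simpa using this
    · have := hg x (ε, 0)
      rw [h1] at this
      simpa using this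
  have hkP : k * P = P := by
    apply LinearMap.ext; intro x
    simp only [hk, hP, Module.End.mul_apply, LinearEquiv.coe_coe, opr_apply, fixk]
  have hk'P : k' * P = P := by
    apply LinearMap.ext; intro x
    simp only [hk', hP, Module.End.mul_apply, LinearEquiv.coe_coe, opr_apply, fixk']
  have hkH : k * H = H := by
    apply LinearMap.ext; intro x
    simp only [hk, hH, Module.End.mul_apply, LinearEquiv.coe_coe, opr_apply, LinearMap.smul_apply,
      Prod.smul_mk, smul_smul, fixk]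
  have hk'H : k' * H = H := by
    apply LinearMap.ext; intro x
    simp only [hk', hH, Module.End.mul_apply, LinearEquiv.coe_coe, opr_apply, LinearMap.smul_apply,
      Prod.smul_mk, smul_smul, fixk']
  have hQk : Q * k = Q := by
    apply LinearMap.ext; intro x
    obtain ⟨e1, e2⟩ := ebk κ hκi hf1 hf2 x
    simp only [hk, hQ, Module.End.mul_apply, LinearEquiv.coe_coe, opr_apply,
      LinearMap.BilinForm.flip_apply, e1, e2]
  have hQk' : Q * k' = Q := by
    apply LinearMap.ext; intro x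
    obtain ⟨e1, e2⟩ := ebk κ⁻¹ hκ'i hf1' hf2' x
    simp only [hk', hQ, Module.End.mul_apply, LinearEquiv.coe_coe, opr_apply,
      LinearMap.BilinForm.flip_apply, e1, e2]
  have hHk : H * k = H := by
    apply LinearMap.ext; intro x
    obtain ⟨e1, e2⟩ := ebk κ hκi hf1 hf2 x
    simp only [hk, hH, Module.End.mul_apply, LinearEquiv.coe_coe, opr_apply, LinearMap.smul_apply,
      LinearMap.BilinForm.flip_apply, e1, e2]
  have hHk' : H * k' = H := by
    apply LinearMap.ext; intro x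
    obtain ⟨e1, e2⟩ := ebk κ⁻¹ hκ'i hf1' hf2' x
    simp only [hk', hH, Module.End.mul_apply, LinearEquiv.coe_coe, opr_apply, LinearMap.smul_apply,
      LinearMap.BilinForm.flip_apply, e1, e2]
  have hPP : P * P = 0 := opr_mul_opr_zero _ _ _ _ (by simpa using hεz)
  have hQQ : Q * Q = 0 := opr_mul_opr_zero _ _ _ _ (by simpa using hzε)
  have hQP : Q * P = 0 := opr_mul_opr_zero _ _ _ _ (by simpa using hε)
  have hEE : opr (β.flip ε) ε * opr (β.flip ε) ε = 0 :=
    opr_mul_opr_zero _ _ _ _ (by simpa using hε)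
  have hHH : H * H = 0 := by
    rw [hH, smul_mul_smul_comm, hEE, smul_zero]
  have hHP : H * P = 0 := by
    rw [hH, hP, smul_mul_assoc, opr_mul_opr_zero _ _ _ _ (by simpa using hε), smul_zero]
  have hPH : P * H = 0 := by
    rw [hH, hP, mul_smul_comm, opr_mul_opr_zero _ _ _ _ (by simpa using hεz), smul_zero]
  have hHQ : H * Q = 0 := by
    rw [hH, hQ, smul_mul_assoc, opr_mul_opr_zero _ _ _ _ (by simpa using hzε), smul_zero]
  have hQH : Q * H = 0 := by
    rw [hH, hQ, mul_smul_comm, opr_mul_opr_zero _ _ _ _ (by simpa using hε), smul_zero]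
  have hPQ : P * Q = H + H := by
    rw [hP, hQ, hH, opr_mul_opr, ← add_smul]
    congr 1
    simp only [LinearMap.BilinForm.flip_apply]
    field_simp
    ring
  have key := ring_key k k' P Q H hkk' hk'k hkP hk'P hkH hk'H hQk hQk' hHk hHk' hPP hQQ hHH hPQ hQP
    hHP hPH hHQ hQH
  intro u u'
  have hm : ((oE ρ * κ * (oE ρ)⁻¹ * κ⁻¹) * (oE ρ' * κ * (oE ρ')⁻¹ * κ⁻¹)) (u, u') =
      (((1 + P - Q - H) * k * (1 - P + Q - H) * k') *
        ((1 - P + Q - H) * k * (1 + P - Q - H) * k')) (u, u') := by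
    rw [hoinv, hoinv', ← eR, ← eR']
    rfl
  rw [hm, key]
  simp only [LinearMap.add_apply, Module.End.one_apply, Module.End.mul_apply, LinearMap.sub_apply,
    hP, hQ, hk, hk', opr_apply, LinearEquiv.coe_coe, LinearMap.BilinForm.flip_apply]
  have e1 : ((β u ε • z, β u' ε • z) : B × B) = β u ε • (z, 0) + β u' ε • (0, z) := by
    ext <;> simp
  rw [e1]
  simp only [map_add, map_smul, Prod.fst_add, Prod.snd_add, Prod.fst_sub, Prod.snd_sub,
    Prod.smul_fst, Prod.smul_snd, map_sub, LinearMap.add_apply, LinearMap.sub_apply,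
    LinearMap.smul_apply, smul_eq_mul]
  ext
  · simp only [Prod.fst_add]
    congr 2
    ring
  · simp only [Prod.snd_add]
    congr 2
    ring

end Cfsg.Agent.Lib.Helper67_T2_SIEG
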