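import Mathlib
import Cfsg.Prelude.Def_GeometricClasses
import Cfsg.Agent.Lib.Helper67_Tens2Defs

/-!
# TENS2-COMM, aux form with INV as an explicit hypothesis (architect helper67): `1 ⊗ r_y` (`y ∈ DI g` nonsingular, `DI g` nondegenerate)
commutes with `g (ux (c • 1)) g⁻¹`.
-/

set_option autoImplicit false
set_option linter.unusedSectionVars false
set_option linter.unusedVariables false

open Module
open Cfsg.Agent.Lib.Helper94_Symp Cfsg.Agent.Lib.Helper67_Tens2Defs

namespace Cfsg.Agent.Lib.Helper86_T2_COMMa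

section

variable {F B : Type*} [Field F] [AddCommGroup B] [Module F B]

theorem reflE_reflE (β : LinearMap.BilinForm F B) (y v : B) :
    reflE β y (reflE β y v) = v := (reflE β y).left_inv v

theorem reflE_of_ortho (β : LinearMap.BilinForm F B) (y v : B) (h : β v y = 0) :
    reflE β y v = v := by
  rw [reflE_apply, h, mul_zero, zero_mul, zero_smul, sub_zero]

theorem reflE_smul_self (β : LinearMap.BilinForm F B) (y : B) (hy : β y y ≠ 0) (a : F) :
    reflE β y (a • y) = -(a • y) := by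
  rw [reflE_apply, map_smul, LinearMap.smul_apply, smul_eq_mul]
  have : 2 * (a * β y y) * (β y y)⁻¹ = 2 * a := by field_simp
  rw [this, mul_smul, two_smul]
  abel

/-- a vector negated by the reflection in `y` is a multiple of `y` -/
theorem eq_smul_of_reflE_eq_neg (β : LinearMap.BilinForm F B) (h2 : (2 : F) ≠ 0) (y u : B)
    (h : reflE β y u = -u) : u = (β u y * (β y y)⁻¹) • y := by
  rw [reflE_apply] at h
  have h' : (2 : F) • u = (2 : F) • ((β u y * (β y y)⁻¹) • y) := by
    rw [two_smul, smul_smul]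
    have e : 2 * (β u y * (β y y)⁻¹) = 2 * β u y * (β y y)⁻¹ := by ring
    rw [e]
    have : u + u = (u - (2 * β u y * (β y y)⁻¹) • y) + u + (2 * β u y * (β y y)⁻¹) • y := by abel
    rw [this, h]
    abel
  exact smul_right_injective B h2 h'

theorem oE_reflE_sq (β : LinearMap.BilinForm F B) (y : B) (z : B × B) :
    oE (reflE β y) (oE (reflE β y) z) = z := by
  rw [oE_apply, oE_apply]
  exact Prod.ext (reflE_reflE β y _) (reflE_reflE β y _)

end

section

variable {F B : Type*} [Field F] [AddCommGroup B] [Module F B] [FiniteDimensional F B]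

/-- `B = D ⊕ D^⊥` for a nondegenerate subspace `D` -/
theorem exists_decomp (β : LinearMap.BilinForm F B) (hs : ∀ u v, β u v = β v u)
    (D : Submodule F B) (hD : ∀ u ∈ D, (∀ w ∈ D, β u w = 0) → u = 0) (u : B) :
    ∃ d ∈ D, ∃ e : B, (∀ w ∈ D, β w e = 0) ∧ u = d + e := by
  have hrefl : β.IsRefl := fun x y h => by rw [hs]; exact h
  have hdisj : Disjoint D (β.orthogonal D) := by
    rw [Submodule.disjoint_def]
    intro x hx hx'
    apply hD x hx
    intro w hw
    rw [hs]
    exact hx' w hw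
  have hnd := β.nondegenerate_restrict_of_disjoint_orthogonal hrefl hdisj
  have hc := LinearMap.BilinForm.isCompl_orthogonal_of_restrict_nondegenerate hrefl hnd
  have hu : u ∈ D ⊔ β.orthogonal D := by rw [hc.sup_eq_top]; exact Submodule.mem_top
  obtain ⟨d, hd, e, he, hde⟩ := Submodule.mem_sup.mp hu
  exact ⟨d, hd, e, fun w hw => he w hw, hde.symm⟩

/-- `1 ⊗ r_y` stabilises `Lg g` for `y ∈ DI g` when `DI g` is nondegenerate -/
theorem refl_stab_Lg (β : LinearMap.BilinForm F B) (hs : ∀ u v, β u v = β v u)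
    (g : (B × B) ≃ₗ[F] (B × B)) (hg : g ∈ isoGroup (tf β))
    (hD : ∀ u ∈ DI g, (∀ w ∈ DI g, β u w = 0) → u = 0)
    (y : B) (hyD : y ∈ DI g) (x : B × B) (hx : x ∈ Lg g) : oE (reflE β y) x ∈ Lg g := by
  -- `Lg g` is totally isotropic
  have hiso : ∀ x ∈ Lg g, ∀ z ∈ Lg g, tf β x z = 0 := by
    intro x hx z hz
    obtain ⟨u, rfl⟩ := mem_Lg.mp hx
    obtain ⟨v, rfl⟩ := mem_Lg.mp hz
    rw [mem_isoGroup.mp hg]
    simp
  -- second components are orthogonal to `DI g`
  have h2nd : ∀ w ∈ DI g, β w x.2 = 0 := by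
    intro w hw
    have := hiso (w, 0) (mem_DI.mp hw) x hx
    simpa using this
  obtain ⟨d, hd, e, he, hde⟩ := exists_decomp β hs (DI g) hD x.1
  have hxe : (e, x.2) ∈ Lg g := by
    have h1 : (e, x.2) = x - (d, 0) := by
      ext
      · simp only [Prod.fst_sub]; rw [hde]; abel
      · simp
    rw [h1]
    exact (Lg g).sub_mem hx (mem_DI.mp hd)
  have hrd : reflE β y d ∈ DI g := by
    rw [reflE_apply]
    exact (DI g).sub_mem hd ((DI g).smul_mem _ hyD)
  have hre : reflE β y e = e := reflE_of_ortho β y e (by rw [hs]; exact he y hyD)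
  have hr2 : reflE β y x.2 = x.2 := reflE_of_ortho β y x.2 (by rw [hs]; exact h2nd y hyD)
  have e1 : oE (reflE β y) x = (reflE β y d, 0) + (e, x.2) := by
    rw [oE_apply, hr2, hde, map_add, hre]
    ext <;> simp
  rw [e1]
  exact (Lg g).add_mem (mem_DI.mp hrd) hxe

/-- the `(-1)`-eigenspace of `g⁻¹ (1 ⊗ r_y) g` has dimension `2` -/
theorem finrank_ker_conj (β : LinearMap.BilinForm F B) (h2 : (2 : F) ≠ 0)
    (g : (B × B) ≃ₗ[F] (B × B)) (y : B) (hy : β y y ≠ 0) :
    finrank F (LinearMap.ker ((g⁻¹ * oE (reflE β y) * g).toLinearMap + LinearMap.id)) = 2 := by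
  have hy0 : y ≠ 0 := by
    rintro rfl
    simp at hy
  let φ : (F × F) →ₗ[F] (B × B) :=
    (g⁻¹ : (B × B) ≃ₗ[F] (B × B)).toLinearMap ∘ₗ
      (LinearMap.prodMap (LinearMap.toSpanSingleton F B y) (LinearMap.toSpanSingleton F B y))
  have hφ : ∀ p : F × F, φ p = g⁻¹ (p.1 • y, p.2 • y) := fun p => rfl
  have hinj : Function.Injective φ := by
    intro p p' h
    rw [hφ, hφ] at h
    have h' := (g⁻¹ : (B × B) ≃ₗ[F] (B × B)).injective h
    have h1 := congrArg Prod.fst h'
    have h2 := congrArg Prod.snd h'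
    simp only at h1 h2
    exact Prod.ext (smul_left_injective F hy0 h1) (smul_left_injective F hy0 h2)
  have hrange : LinearMap.range φ =
      LinearMap.ker ((g⁻¹ * oE (reflE β y) * g).toLinearMap + LinearMap.id) := by
    ext x
    rw [LinearMap.mem_range, LinearMap.mem_ker]
    simp only [LinearMap.add_apply, LinearEquiv.coe_coe, LinearMap.id_coe, id_eq,
      LinearEquiv.mul_apply]
    constructor
    · rintro ⟨p, rfl⟩
      rw [hφ, apply_inv_apply', oE_apply, reflE_smul_self β y hy, reflE_smul_self β y hy]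
      have : ((-(p.1 • y), -(p.2 • y)) : B × B) = -(p.1 • y, p.2 • y) := rfl
      rw [this, map_neg, neg_add_cancel]
    · intro h
      have h1 : g⁻¹ (oE (reflE β y) (g x)) = -x := eq_neg_of_add_eq_zero_left h
      have h3 : oE (reflE β y) (g x) = -(g x) := by
        have := congrArg g h1
        rwa [apply_inv_apply', map_neg] at this
      rw [oE_apply] at h3
      have ha := congrArg Prod.fst h3
      have hc := congrArg Prod.snd h3
      simp only [Prod.fst_neg, Prod.snd_neg] at ha hc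
      refine ⟨(β (g x).1 y * (β y y)⁻¹, β (g x).2 y * (β y y)⁻¹), ?_⟩
      rw [hφ]
      simp only
      rw [← eq_smul_of_reflE_eq_neg β h2 y _ ha, ← eq_smul_of_reflE_eq_neg β h2 y _ hc]
      exact inv_apply_apply' g x
  rw [← hrange, LinearMap.finrank_range_of_inj hinj, Module.finrank_prod, Module.finrank_self]

theorem comm_aux (β : LinearMap.BilinForm F B) (hs : ∀ u v, β u v = β v u)
    (hn : β.Nondegenerate) (h2 : (2 : F) ≠ 0) (h3 : 3 ≤ finrank F B)
    (hINV : ∀ h : (B × B) ≃ₗ[F] (B × B), h ∈ isoGroup (tf β) → IsKron2 h →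
      (∀ x ∈ (G0 : Submodule F (B × B)), h x ∈ (G0 : Submodule F (B × B))) →
      (∀ x, h (h x) = x) →
      finrank F (LinearMap.ker (h.toLinearMap + LinearMap.id)) = 2 →
      ∀ c : F, h * ux (c • (LinearMap.id : B →ₗ[F] B)) =
        ux (c • (LinearMap.id : B →ₗ[F] B)) * h)
    (M : Subgroup ((B × B) ≃ₗ[F] (B × B))) (hM : HypM β M)
    (hST : ∀ h ∈ M, (∀ x ∈ (G0 : Submodule F (B × B)), h x ∈ (G0 : Submodule F (B × B))) →
      IsKron2 h)
    (g : (B × B) ≃ₗ[F] (B × B)) (hg : g ∈ M)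
    (hD : ∀ u ∈ DI g, (∀ w ∈ DI g, β u w = 0) → u = 0)
    (y : B) (hyD : y ∈ DI g) (hy : β y y ≠ 0) (c : F) :
    oE (reflE β y) * (g * ux (c • (LinearMap.id : B →ₗ[F] B)) * g⁻¹) =
      (g * ux (c • (LinearMap.id : B →ₗ[F] B)) * g⁻¹) * oE (reflE β y) := by
  have hRM : oE (reflE β y) ∈ M := hM.oE_mem _ (reflE_mem_isoGroup β hs y)
  set R := oE (reflE β y) with hR
  set h := g⁻¹ * R * g with hh
  have hhM : h ∈ M := M.mul_mem (M.mul_mem (M.inv_mem hg) hRM) hg
  have hstab : ∀ x ∈ (G0 : Submodule F (B × B)), h x ∈ (G0 : Submodule F (B × B)) := by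
    intro x hx
    rw [mem_G0, hh, LinearEquiv.mul_apply, LinearEquiv.mul_apply, ← mem_Lg']
    exact refl_stab_Lg β hs g (hM.le hg) hD y hyD _ ⟨x, hx, rfl⟩
  have hk : IsKron2 h := hST h hhM hstab
  have hsq : ∀ x, h (h x) = x := by
    intro x
    rw [hh]
    simp only [LinearEquiv.mul_apply]
    rw [apply_inv_apply', hR, oE_reflE_sq, inv_apply_apply']
  have hrk : finrank F (LinearMap.ker (h.toLinearMap + LinearMap.id)) = 2 :=
    finrank_ker_conj β h2 g y hy
  have hcomm := hINV h (hM.le hhM) hk hstab hsq hrk c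
  have hRg : R = g * h * g⁻¹ := by rw [hh]; group
  rw [hRg]
  calc g * h * g⁻¹ * (g * ux (c • (LinearMap.id : B →ₗ[F] B)) * g⁻¹)
      = g * (h * ux (c • (LinearMap.id : B →ₗ[F] B))) * g⁻¹ := by group
    _ = g * (ux (c • (LinearMap.id : B →ₗ[F] B)) * h) * g⁻¹ := by rw [hcomm]
    _ = g * ux (c • (LinearMap.id : B →ₗ[F] B)) * g⁻¹ * (g * h * g⁻¹) := by group

end

end Cfsg.Agent.Lib.Helper86_T2_COMMa
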