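import Mathlib
import Cfsg.Agent.Lib.Helper94_Symp
import Cfsg.Agent.Lib.Helper67_Tens2Defs

/-!
# TENS2 package INV (architect helper67)

A Kronecker involution stabilising `G0` whose `(-1)`-eigenspace has dimension two commutes with the
elements `ux (c • 1)`.
-/

set_option autoImplicit false
set_option linter.unusedVariables false

namespace Cfsg.Agent.Lib.Helper89_T2_INV

open Module
open Cfsg.Agent.Lib.Helper94_Symp Cfsg.Agent.Lib.Helper67_Tens2Defs

theorem inv_kron {F B : Type*} [Field F] [AddCommGroup B] [Module F B]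
    [FiniteDimensional F B] (β : LinearMap.BilinForm F B) (hs : ∀ u v, β u v = β v u)
    (hn : β.Nondegenerate) (h2 : (2 : F) ≠ 0) (h3 : 3 ≤ finrank F B)
    (h : (B × B) ≃ₗ[F] (B × B)) (hiso : h ∈ isoGroup (tf β)) (hk : IsKron2 h)
    (h0 : ∀ x ∈ (G0 : Submodule F (B × B)), h x ∈ (G0 : Submodule F (B × B)))
    (hsq : ∀ x, h (h x) = x)
    (hrk : finrank F (LinearMap.ker (h.toLinearMap + LinearMap.id)) = 2) :
    ∀ c : F, h * ux (c • (LinearMap.id : B →ₗ[F] B)) =
      ux (c • (LinearMap.id : B →ₗ[F] B)) * h := by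
  obtain ⟨p, Q, hpQ⟩ := hk
  have hnt : Nontrivial B := by
    apply Module.nontrivial_of_finrank_pos (R := F)
    omega
  obtain ⟨u0, hu0⟩ := exists_ne (0 : B)
  -- `p 1 0 = 0`
  have h10 : p 1 0 = 0 := by
    by_contra hne
    have hQ0 : ∀ u, Q u = 0 := by
      intro u
      have := h0 (u, 0) rfl
      rw [mem_G0, hpQ] at this
      simp only [map_zero, smul_zero, add_zero] at this
      exact (smul_eq_zero.mp this).resolve_left hne
    have e1 : h (u0, 0) = 0 := by
      rw [hpQ]
      simp [hQ0]
    have e2 : ((u0, 0) : B × B) = 0 := h.injective (by rw [e1, map_zero])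
    exact hu0 (congrArg Prod.fst e2)
  obtain ⟨a, ha⟩ : ∃ a : F, a = p 0 0 := ⟨_, rfl⟩
  obtain ⟨d, hd⟩ : ∃ d : F, d = p 1 1 := ⟨_, rfl⟩
  obtain ⟨t, ht⟩ : ∃ t : F, t = p 0 1 := ⟨_, rfl⟩
  have hf : ∀ u u' : B, h (u, u') = (a • Q u + t • Q u', d • Q u') := by
    intro u u'
    rw [hpQ, h10, zero_smul, zero_add, ha, hd, ht]
  -- the two diagonal equations from `h² = 1`
  have e1 : ∀ u, (a * a) • Q (Q u) = u := by
    intro u
    have := hsq (u, 0)
    rw [hf, hf] at this
    have := congrArg Prod.fst this
    simp only [map_zero, smul_zero, add_zero, map_smul, smul_smul] at this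
    exact this
  have e2 : ∀ u, (d * d) • Q (Q u) = u := by
    intro u
    have := hsq (0, u)
    rw [hf, hf] at this
    have := congrArg Prod.snd this
    simp only [map_smul, smul_smul] at this
    exact this
  have ha0 : a ≠ 0 := by
    intro h
    apply hu0
    rw [← e1 u0, h, zero_mul, zero_smul]
  have hQQ0 : Q (Q u0) ≠ 0 := by
    intro h
    apply hu0
    rw [← e1 u0, h, smul_zero]
  have hsq' : a * a = d * d := by
    have : (a * a - d * d) • Q (Q u0) = 0 := by
      rw [sub_smul, e1, e2, sub_self]
    have := (smul_eq_zero.mp this).resolve_right hQQ0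
    exact sub_eq_zero.mp this
  have hcases : d = a ∨ d = -a := by
    have : (d - a) * (d + a) = 0 := by linear_combination -hsq'
    rcases mul_eq_zero.mp this with h | h
    · left; exact sub_eq_zero.mp h
    · right; exact eq_neg_of_add_eq_zero_left h
  rcases hcases with hda | hda
  · -- `d = a`: direct check
    intro c
    apply LinearEquiv.ext
    rintro ⟨u, u'⟩
    simp only [LinearEquiv.mul_apply, ux_apply, hf, hda, LinearMap.smul_apply, LinearMap.id_coe,
      id_eq, map_add, map_smul]
    ext
    · simp only []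
      module
    · rfl
  · -- `d = -a`: the `(-1)`-eigenspace is too large
    exfalso
    have hQQ : ∀ u, Q (Q u) = (a * a)⁻¹ • u := by
      intro u
      rw [eq_inv_smul_iff₀ (mul_ne_zero ha0 ha0)]
      exact e1 u
    obtain ⟨φ, hφ⟩ : ∃ φ : B →ₗ[F] B × B, φ = LinearMap.prod
        ((2 * a) • LinearMap.id - (2 * a * a) • Q - t • LinearMap.id - (t * a) • Q)
        ((2 * a) • LinearMap.id + (2 * a * a) • Q) := ⟨_, rfl⟩
    have hφa : ∀ v, φ v = ((2 * a) • v - (2 * a * a) • Q v - t • v - (t * a) • Q v,
        (2 * a) • v + (2 * a * a) • Q v) := by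
      intro v
      rw [hφ]
      simp
    have hφk : ∀ v, φ v ∈ LinearMap.ker (h.toLinearMap + LinearMap.id) := by
      intro v
      rw [LinearMap.mem_ker, LinearMap.add_apply, LinearMap.id_apply, hφa]
      change h _ + _ = 0
      rw [hf, hda]
      simp only [map_add, map_sub, map_smul, hQQ]
      ext
      · simp only [Prod.fst_add, Prod.fst_zero]
        match_scalars <;> field_simp <;> ring
      · simp only [Prod.snd_add, Prod.snd_zero]
        match_scalars <;> field_simp <;> ring
    have hinj : Function.Injective (φ.codRestrict _ hφk) := by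
      rw [← LinearMap.ker_eq_bot, LinearMap.ker_codRestrict, LinearMap.ker_eq_bot]
      rw [injective_iff_map_eq_zero]
      intro v hv
      rw [hφa] at hv
      have s2 := congrArg Prod.fst hv
      have s1 := congrArg Prod.snd hv
      simp only [Prod.fst_zero, Prod.snd_zero] at s1 s2
      have : (8 * a * a) • v = 0 := by
        linear_combination (norm := module) (2 * a) • s2 + (2 * a + t) • s1
      have h8 : (8 : F) * a * a ≠ 0 := by
        have : (8 : F) = 2 * 2 * 2 := by norm_num
        rw [this]
        exact mul_ne_zero (mul_ne_zero (mul_ne_zero (mul_ne_zero h2 h2) h2) ha0) ha0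
      exact (smul_eq_zero.mp this).resolve_left h8
    have := LinearMap.finrank_le_finrank_of_injective hinj
    omega

end Cfsg.Agent.Lib.Helper89_T2_INV
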