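import Mathlib
import Cfsg.Prelude.Def_GeometricClasses
import Cfsg.Agent.Lib.Helper67_Tens2Defs
import Cfsg.Agent.Lib.Helper86_T2_COMMa
import Cfsg.Agent.Lib.Helper89_T2_INV

/-!
# TENS2-COMM (architect helper67): `1 ⊗ r_y` (`y ∈ DI g` nonsingular, `DI g` nondegenerate)
commutes with `g (ux (c • 1)) g⁻¹`.  (`Helper86_T2_COMMa.comm_aux` + helper89's INV.)
-/

set_option autoImplicit false
set_option linter.unusedSectionVars false
set_option linter.unusedVariables false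

open Module
open Cfsg.Agent.Lib.Helper94_Symp Cfsg.Agent.Lib.Helper67_Tens2Defs

namespace Cfsg.Agent.Lib.Helper86_T2_COMM

theorem comm {F B : Type*} [Field F] [AddCommGroup B] [Module F B]
    [FiniteDimensional F B] (β : LinearMap.BilinForm F B) (hs : ∀ u v, β u v = β v u)
    (hn : β.Nondegenerate) (h2 : (2 : F) ≠ 0) (h3 : 3 ≤ finrank F B)
    (M : Subgroup ((B × B) ≃ₗ[F] (B × B))) (hM : HypM β M)
    (hST : ∀ h ∈ M, (∀ x ∈ (G0 : Submodule F (B × B)), h x ∈ (G0 : Submodule F (B × B))) →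
      IsKron2 h)
    (g : (B × B) ≃ₗ[F] (B × B)) (hg : g ∈ M)
    (hD : ∀ u ∈ DI g, (∀ w ∈ DI g, β u w = 0) → u = 0)
    (y : B) (hyD : y ∈ DI g) (hy : β y y ≠ 0) (c : F) :
    oE (reflE β y) * (g * ux (c • (LinearMap.id : B →ₗ[F] B)) * g⁻¹) =
      (g * ux (c • (LinearMap.id : B →ₗ[F] B)) * g⁻¹) * oE (reflE β y) :=
  Cfsg.Agent.Lib.Helper86_T2_COMMa.comm_aux β hs hn h2 h3
    (fun h hiso hk h0 hsq hrk =>
      Cfsg.Agent.Lib.Helper89_T2_INV.inv_kron β hs hn h2 h3 h hiso hk h0 hsq hrk)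
    M hM hST g hg hD y hyD hy c

end Cfsg.Agent.Lib.Helper86_T2_COMM
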