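import Mathlib
import Cfsg.Prelude.Def_GeometricClasses
import Cfsg.Agent.Lib.Helper67_Tens2Defs
import Cfsg.Agent.Lib.Helper82_T2_KR

/-!
# TENS2-ORB, aux form with LAG1 as an explicit hypothesis (architect helper67): a non-Kronecker `g0 ∈ M` moves `G0` to a Lagrangian that is not
stabilised by some `1 ⊗ reflection`.
-/

set_option autoImplicit false
set_option linter.unusedSectionVars false
set_option linter.unusedVariables false

open Module
open Cfsg.Agent.Lib.Helper94_Symp Cfsg.Agent.Lib.Helper67_Tens2Defs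

namespace Cfsg.Agent.Lib.Helper86_T2_ORBa

theorem G0_eq_range {F B : Type*} [Field F] [AddCommGroup B] [Module F B] :
    (G0 : Submodule F (B × B)) = LinearMap.range (LinearMap.inl F B B) := by
  ext x
  rw [mem_G0, LinearMap.mem_range]
  constructor
  · intro h
    exact ⟨x.1, Prod.ext rfl h.symm⟩
  · rintro ⟨u, rfl⟩
    rfl

theorem finrank_G0 {F B : Type*} [Field F] [AddCommGroup B] [Module F B] :
    finrank F (G0 : Submodule F (B × B)) = finrank F B := by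
  rw [G0_eq_range]
  exact LinearMap.finrank_range_of_inj LinearMap.inl_injective

theorem finrank_Lg {F B : Type*} [Field F] [AddCommGroup B] [Module F B]
    (g : (B × B) ≃ₗ[F] (B × B)) : finrank F (Lg g) = finrank F B := by
  unfold Lg
  rw [LinearEquiv.finrank_map_eq, finrank_G0]

theorem Lg_isotropic {F B : Type*} [Field F] [AddCommGroup B] [Module F B]
    (β : LinearMap.BilinForm F B) (g : (B × B) ≃ₗ[F] (B × B)) (hg : g ∈ isoGroup (tf β)) :
    ∀ x ∈ Lg g, ∀ y ∈ Lg g, tf β x y = 0 := by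
  intro x hx y hy
  obtain ⟨u, rfl⟩ := mem_Lg.mp hx
  obtain ⟨v, rfl⟩ := mem_Lg.mp hy
  rw [mem_isoGroup.mp hg]
  simp

/-- if `k G0 = g0 G0` with `k` Kronecker in `M` then `g0` is Kronecker -/
theorem kron_of_same_image {F B : Type*} [Field F] [AddCommGroup B] [Module F B]
    (M : Subgroup ((B × B) ≃ₗ[F] (B × B)))
    (hST : ∀ h ∈ M, (∀ x ∈ (G0 : Submodule F (B × B)), h x ∈ (G0 : Submodule F (B × B))) →
      IsKron2 h)
    (g0 k : (B × B) ≃ₗ[F] (B × B)) (hg0 : g0 ∈ M) (hk : k ∈ M) (hkK : IsKron2 k)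
    (himg : ∀ x ∈ Lg g0, (k⁻¹ x).2 = 0) : IsKron2 g0 := by
  have h1 : IsKron2 (k⁻¹ * g0) := by
    apply hST _ (M.mul_mem (M.inv_mem hk) hg0)
    intro x hx
    rw [mem_G0, LinearEquiv.mul_apply]
    apply himg
    exact ⟨x, hx, rfl⟩
  have h2 : g0 = k * (k⁻¹ * g0) := by group
  rw [h2]
  exact Cfsg.Agent.Lib.Helper82_T2_KR.isKron2_mul k (k⁻¹ * g0) hkK h1

theorem orb_aux {F B : Type*} [Field F] [Fintype F] [AddCommGroup B] [Module F B]
    [FiniteDimensional F B] (β : LinearMap.BilinForm F B) (hs : ∀ u v, β u v = β v u)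
    (hn : β.Nondegenerate) (h2 : (2 : F) ≠ 0) (h3 : 3 ≤ finrank F B)
    (hLAG : ∀ L : Submodule F (B × B), finrank F L = finrank F B →
      (∀ x ∈ L, ∀ y ∈ L, tf β x y = 0) →
      (∀ y : B, β y y ≠ 0 → ∀ x ∈ L, oE (reflE β y) x ∈ L) →
      ∃ a c : F, (a ≠ 0 ∨ c ≠ 0) ∧ ∀ x : B × B, x ∈ L ↔ ∃ u : B, x = (a • u, c • u))
    (M : Subgroup ((B × B) ≃ₗ[F] (B × B))) (hM : HypM β M)
    (hST : ∀ h ∈ M, (∀ x ∈ (G0 : Submodule F (B × B)), h x ∈ (G0 : Submodule F (B × B))) →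
      IsKron2 h)
    (g0 : (B × B) ≃ₗ[F] (B × B)) (hg0 : g0 ∈ M) (hnk : ¬ IsKron2 g0) :
    ∃ y : B, β y y ≠ 0 ∧ ¬ ∀ x ∈ Lg g0, oE (reflE β y) x ∈ Lg g0 := by
  by_contra hcon
  push Not at hcon
  apply hnk
  obtain ⟨a, c, hac, hL⟩ := hLAG (Lg g0)
    (finrank_Lg g0) (Lg_isotropic β g0 (hM.le hg0)) hcon
  by_cases ha : a = 0
  · -- `L = 0 × B`, `k = jE`
    apply kron_of_same_image M hST g0 jE hg0 hM.jE_mem
      Cfsg.Agent.Lib.Helper82_T2_KR.isKron2_jE
    intro x hx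
    obtain ⟨u, rfl⟩ := (hL x).mp hx
    have e : (jE : (B × B) ≃ₗ[F] (B × B))⁻¹ (a • u, c • u) = (-(c • u), a • u) := by
      rfl
    rw [e, ha, zero_smul]
  · -- `k = lx ((c / a) • 1)`
    apply kron_of_same_image M hST g0 (lx ((c / a) • (LinearMap.id : B →ₗ[F] B))) hg0
      (hM.lx_mem _) (Cfsg.Agent.Lib.Helper82_T2_KR.isKron2_lx _)
    intro x hx
    obtain ⟨u, rfl⟩ := (hL x).mp hx
    have e : (lx ((c / a) • (LinearMap.id : B →ₗ[F] B)))⁻¹ (a • u, c • u) =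
        (a • u, c • u - ((c / a) • (LinearMap.id : B →ₗ[F] B)) (a • u)) := by
      rfl
    rw [e]
    simp only [LinearMap.smul_apply, LinearMap.id_coe, id_eq, smul_smul]
    rw [div_mul_cancel₀ c ha, sub_self]

end Cfsg.Agent.Lib.Helper86_T2_ORBa
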