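import Mathlib
import Cfsg.Agent.Lib.Helper94_Symp
import Cfsg.Agent.Lib.Helper67_Tens2Defs

/-!
# TENS2 package LAG1 (architect helper67, formaliser helper88)

A totally isotropic subspace `L` of `(B × B, tf β)` of dimension `dim B` that is stabilised by all
`1 ⊗ (reflection)` is of the form `x ⊗ B = {(a • u, c • u)}`.

Proof: (ii) for `(u, u') ∈ L` and `y` nonsingular, `(β u y • y, β u' y • y) ∈ L`; hence `L` contains
some `(a • y₀, c • y₀)` with `(a, c) ≠ 0`, `y₀` a member of an orthogonal basis; the subspace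
`S = {y | (a • y, c • y) ∈ L}` contains every nonsingular `y` not orthogonal to a member of `S`, and
a three term argument (`dim B ≥ 3`) shows that it contains the whole orthogonal basis.
-/

set_option autoImplicit false
set_option linter.unusedSectionVars false
set_option linter.unusedVariables false

open Module
open Cfsg.Agent.Lib.Helper94_Symp Cfsg.Agent.Lib.Helper67_Tens2Defs

namespace Cfsg.Agent.Lib.Helper88_T2_LAG1

/-- (ii) : for `(u, u') ∈ L` and `y` nonsingular, `(β u y • y, β u' y • y) ∈ L` -/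
theorem proj_mem {F B : Type*} [Field F] [AddCommGroup B] [Module F B]
    (β : LinearMap.BilinForm F B) (h2 : (2 : F) ≠ 0) (L : Submodule F (B × B))
    (hinv : ∀ y : B, β y y ≠ 0 → ∀ x ∈ L, oE (reflE β y) x ∈ L)
    (y : B) (hy : β y y ≠ 0) (x : B × B) (hx : x ∈ L) :
    (β x.1 y • y, β x.2 y • y) ∈ L := by
  have h1 := hinv y hy x hx
  have h3 : x - oE (reflE β y) x ∈ L := L.sub_mem hx h1
  have h4 : (β y y * (2 : F)⁻¹) • (x - oE (reflE β y) x) ∈ L := L.smul_mem _ h3
  have e : (β y y * (2 : F)⁻¹) • (x - oE (reflE β y) x) = (β x.1 y • y, β x.2 y • y) := by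
    rw [oE_apply, reflE_apply, reflE_apply]
    ext
    · simp only [Prod.smul_fst, Prod.fst_sub, sub_sub_cancel, smul_smul]
      congr 1
      field_simp
    · simp only [Prod.smul_snd, Prod.snd_sub, sub_sub_cancel, smul_smul]
      congr 1
      field_simp
  rw [e] at h4
  exact h4

/-- a subspace containing, with a vector `y₁`, every nonsingular `y` with `β y₁ y ≠ 0`, and
containing one member of an orthogonal basis (`dim ≥ 3`), contains the whole basis -/
theorem basis_mem {F B : Type*} [Field F] [AddCommGroup B] [Module F B]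
    (β : LinearMap.BilinForm F B) (hs : ∀ u v, β u v = β v u) (h2 : (2 : F) ≠ 0)
    {n : ℕ} (hn3 : 3 ≤ n) (v : Fin n → B) (hort : ∀ i j, i ≠ j → β (v i) (v j) = 0)
    (hne : ∀ i, β (v i) (v i) ≠ 0) (S : Submodule F B)
    (hP : ∀ y₁ ∈ S, ∀ y : B, β y y ≠ 0 → β y₁ y ≠ 0 → y ∈ S)
    (i : Fin n) (hi : v i ∈ S) (j : Fin n) : v j ∈ S := by
  by_cases hij : j = i
  · rw [hij]; exact hi
  have hij' : i ≠ j := fun h => hij h.symm
  -- norms of sums
  have n2 : ∀ a b : Fin n, a ≠ b →
      β (v a + v b) (v a + v b) = β (v a) (v a) + β (v b) (v b) := by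
    intro a b hab
    simp only [map_add, LinearMap.add_apply]
    rw [hort a b hab, hort b a hab.symm]; ring
  have p2 : ∀ a b : Fin n, a ≠ b → β (v a) (v a + v b) = β (v a) (v a) := by
    intro a b hab
    rw [map_add, hort a b hab, add_zero]
  by_cases h1 : β (v i) (v i) + β (v j) (v j) ≠ 0
  · have hmem : v i + v j ∈ S := by
      apply hP (v i) hi
      · rw [n2 i j hij']; exact h1
      · rw [p2 i j hij']; exact hne i
    have : v j = (v i + v j) - v i := by abel
    rw [this]
    exact S.sub_mem hmem hi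
  rw [not_not] at h1
  -- a third index
  obtain ⟨k, hki, hkj⟩ : ∃ k : Fin n, k ≠ i ∧ k ≠ j := by
    by_contra hcon
    have hall : ∀ k : Fin n, k = i ∨ k = j := by
      intro k
      by_contra hk
      rw [not_or] at hk
      exact hcon ⟨k, hk.1, hk.2⟩
    have hcard : Fintype.card (Fin n) ≤ 2 := by
      calc Fintype.card (Fin n) = (Finset.univ : Finset (Fin n)).card := rfl
        _ ≤ ({i, j} : Finset (Fin n)).card := by
          apply Finset.card_le_card
          intro k _
          rcases hall k with h | h <;> simp [h]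
        _ ≤ 2 := Finset.card_le_two
    rw [Fintype.card_fin] at hcard
    omega
  have hik : i ≠ k := fun h => hki h.symm
  have hjk : j ≠ k := fun h => hkj h.symm
  -- `v i + v j + v k ∈ S`
  have hmem3 : v i + v j + v k ∈ S := by
    apply hP (v i) hi
    · simp only [map_add, LinearMap.add_apply]
      rw [hort i j hij', hort j i hij, hort i k hik, hort k i hki, hort j k hjk, hort k j hkj]
      have : β (v i) (v i) + 0 + 0 + (0 + β (v j) (v j) + 0) + (0 + 0 + β (v k) (v k))
          = (β (v i) (v i) + β (v j) (v j)) + β (v k) (v k) := by ring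
      rw [this, h1, zero_add]
      exact hne k
    · simp only [map_add]
      rw [hort i j hij', hort i k hik, add_zero, add_zero]
      exact hne i
  have hjk_mem : v j + v k ∈ S := by
    have : v j + v k = (v i + v j + v k) - v i := by abel
    rw [this]
    exact S.sub_mem hmem3 hi
  by_cases h3 : β (v j) (v j) + β (v k) (v k) ≠ 0
  · apply hP (v j + v k) hjk_mem (v j) (hne j)
    rw [map_add, LinearMap.add_apply, hort k j hkj, add_zero]
    exact hne j
  rw [not_not] at h3
  -- then `n_k = n_i`, so `v i + v k` is nonsingular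
  have hk_mem : v k ∈ S := by
    have hmem : v i + v k ∈ S := by
      apply hP (v i) hi
      · rw [n2 i k hik]
        have : β (v i) (v i) + β (v k) (v k) = 2 * β (v i) (v i) := by
          linear_combination h3 - h1
        rw [this]
        exact mul_ne_zero h2 (hne i)
      · rw [p2 i k hik]; exact hne i
    have : v k = (v i + v k) - v i := by abel
    rw [this]
    exact S.sub_mem hmem hi
  have : v j = (v j + v k) - v k := by abel
  rw [this]
  exact S.sub_mem hjk_mem hk_mem

/-- LAG1 : a Lagrangian of `B × B` stabilised by all `1 ⊗ (reflection)` is some `x ⊗ B` -/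
theorem lag1 {F B : Type*} [Field F] [Fintype F] [AddCommGroup B] [Module F B]
    [FiniteDimensional F B] (β : LinearMap.BilinForm F B) (hs : ∀ u v, β u v = β v u)
    (hn : β.Nondegenerate) (h2 : (2 : F) ≠ 0) (h3 : 3 ≤ finrank F B)
    (L : Submodule F (B × B)) (hL : finrank F L = finrank F B)
    (hiso : ∀ x ∈ L, ∀ y ∈ L, tf β x y = 0)
    (hinv : ∀ y : B, β y y ≠ 0 → ∀ x ∈ L, oE (reflE β y) x ∈ L) :
    ∃ a c : F, (a ≠ 0 ∨ c ≠ 0) ∧ ∀ x : B × B, x ∈ L ↔ ∃ u : B, x = (a • u, c • u) := by
  have hinv2 : Invertible (2 : F) := invertibleOfNonzero h2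
  have hsymm : LinearMap.BilinForm.IsSymm β := by
    rw [LinearMap.BilinForm.isSymm_def]
    intro x y
    exact hs x y
  obtain ⟨v, hv⟩ := LinearMap.BilinForm.exists_orthogonal_basis
    (LinearMap.BilinForm.isSymm_iff.1 hsymm)
  have hne : ∀ i, β (v i) (v i) ≠ 0 := by
    intro i h0
    exact hv.not_isOrtho_basis_self_of_separatingLeft hn.1 i h0
  have hort : ∀ i j, i ≠ j → β (v i) (v j) = 0 := fun i j hij => hv hij
  -- a nonzero element of `L`
  have hLne : ∃ x ∈ L, x ≠ 0 := by
    by_contra hcon
    have hbot : L = ⊥ := by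
      rw [eq_bot_iff]
      intro x hx
      by_contra hx0
      exact hcon ⟨x, hx, hx0⟩
    rw [hbot, finrank_bot] at hL
    omega
  obtain ⟨x0, hx0L, hx0⟩ := hLne
  -- a basis vector seeing `x0`
  have hsee : ∃ i, β x0.1 (v i) ≠ 0 ∨ β x0.2 (v i) ≠ 0 := by
    by_contra hcon
    have hall : ∀ i, β x0.1 (v i) = 0 ∧ β x0.2 (v i) = 0 := by
      intro i
      by_contra hi
      apply hcon
      refine ⟨i, ?_⟩
      by_contra hh
      rw [not_or, not_not, not_not] at hh
      exact hi hh
    have hz : ∀ w : B, (∀ i, β w (v i) = 0) → w = 0 := by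
      intro w hw
      apply hn.1
      intro y
      have : β w = 0 := by
        apply v.ext
        intro i
        rw [hw i, LinearMap.zero_apply]
      rw [this, LinearMap.zero_apply]
    apply hx0
    exact Prod.ext (hz _ (fun i => (hall i).1)) (hz _ (fun i => (hall i).2))
  obtain ⟨i0, hi0⟩ := hsee
  set a : F := β x0.1 (v i0) with ha
  set c : F := β x0.2 (v i0) with hc
  have hac : a ≠ 0 ∨ c ≠ 0 := hi0
  -- the linear map `u ↦ (a u, c u)`
  let φ : B →ₗ[F] (B × B) := LinearMap.prod (a • LinearMap.id) (c • LinearMap.id)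
  have hφ : ∀ u : B, φ u = (a • u, c • u) := fun u => rfl
  set S : Submodule F B := L.comap φ with hS
  have hSmem : ∀ u : B, u ∈ S ↔ (a • u, c • u) ∈ L := fun u => Iff.rfl
  have h0S : v i0 ∈ S := by
    rw [hSmem]
    exact proj_mem β h2 L hinv (v i0) (hne i0) x0 hx0L
  have hP : ∀ y₁ ∈ S, ∀ y : B, β y y ≠ 0 → β y₁ y ≠ 0 → y ∈ S := by
    intro y₁ hy₁ y hy hy1y
    rw [hSmem] at hy₁ ⊢
    have := proj_mem β h2 L hinv y hy _ hy₁
    simp only [map_smul, LinearMap.smul_apply, smul_eq_mul] at this
    have e : ((a * β y₁ y) • y, (c * β y₁ y) • y) = (β y₁ y) • ((a • y, c • y) : B × B) := by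
      ext <;> simp [smul_smul, mul_comm]
    rw [e] at this
    have h5 := L.smul_mem (β y₁ y)⁻¹ this
    rw [smul_smul, inv_mul_cancel₀ hy1y, one_smul] at h5
    exact h5
  have hall : ∀ j, v j ∈ S :=
    fun j => basis_mem β hs h2 h3 v hort hne S hP i0 h0S j
  have hStop : S = ⊤ := by
    rw [eq_top_iff, ← v.span_eq, Submodule.span_le]
    rintro _ ⟨j, rfl⟩
    exact hall j
  -- `range φ = L`
  have hφinj : Function.Injective φ := by
    intro u u' huu
    rw [hφ, hφ] at huu
    have e1 := congrArg Prod.fst huu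
    have e2 := congrArg Prod.snd huu
    simp only at e1 e2
    rcases hac with h | h
    · exact smul_right_injective B h e1
    · exact smul_right_injective B h e2
  have hrange : LinearMap.range φ = L := by
    apply Submodule.eq_of_le_of_finrank_eq
    · rintro _ ⟨u, rfl⟩
      have : u ∈ S := by rw [hStop]; exact Submodule.mem_top
      exact this
    · rw [LinearMap.finrank_range_of_inj hφinj, hL]
  refine ⟨a, c, hac, ?_⟩
  intro x
  rw [← hrange]
  constructor
  · rintro ⟨u, rfl⟩
    exact ⟨u, rfl⟩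
  · rintro ⟨u, rfl⟩
    exact ⟨u, rfl⟩

end Cfsg.Agent.Lib.Helper88_T2_LAG1
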