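import Mathlib
import Cfsg.Prelude.Def_GeometricClasses
import Cfsg.Agent.Lib.Helper67_Tens2Defs
import Cfsg.Agent.Lib.Helper86_T2_ORBa
import Cfsg.Agent.Lib.Helper88_T2_LAG1

/-!
# TENS2-ORB (architect helper67): a non-Kronecker `g0 ∈ M` moves `G0` to a Lagrangian that is not
stabilised by some `1 ⊗ reflection`.  (`Helper86_T2_ORBa.orb_aux` + helper88's LAG1.)
-/

set_option autoImplicit false
set_option linter.unusedSectionVars false
set_option linter.unusedVariables false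

open Module
open Cfsg.Agent.Lib.Helper94_Symp Cfsg.Agent.Lib.Helper67_Tens2Defs

namespace Cfsg.Agent.Lib.Helper86_T2_ORB

theorem orb {F B : Type*} [Field F] [Fintype F] [AddCommGroup B] [Module F B]
    [FiniteDimensional F B] (β : LinearMap.BilinForm F B) (hs : ∀ u v, β u v = β v u)
    (hn : β.Nondegenerate) (h2 : (2 : F) ≠ 0) (h3 : 3 ≤ finrank F B)
    (M : Subgroup ((B × B) ≃ₗ[F] (B × B))) (hM : HypM β M)
    (hST : ∀ h ∈ M, (∀ x ∈ (G0 : Submodule F (B × B)), h x ∈ (G0 : Submodule F (B × B))) →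
      IsKron2 h)
    (g0 : (B × B) ≃ₗ[F] (B × B)) (hg0 : g0 ∈ M) (hnk : ¬ IsKron2 g0) :
    ∃ y : B, β y y ≠ 0 ∧ ¬ ∀ x ∈ Lg g0, oE (reflE β y) x ∈ Lg g0 :=
  Cfsg.Agent.Lib.Helper86_T2_ORBa.orb_aux β hs hn h2 h3
    (fun L hL hiso hinv => Cfsg.Agent.Lib.Helper88_T2_LAG1.lag1 β hs hn h2 h3 L hL hiso hinv)
    M hM hST g0 hg0 hnk

end Cfsg.Agent.Lib.Helper86_T2_ORB
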