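import Mathlib
import Cfsg.Agent.Lib.Helper94_Symp
import Cfsg.Agent.Lib.Helper67_Tens2Defs

/-!
# TENS2 package TRANS (architect helper67)

The isometry group of a nondegenerate symmetric bilinear form (characteristic not two) is transitive on the
nonzero singular vectors.
-/

set_option autoImplicit false

namespace Cfsg.Agent.Lib.Helper89_T2_TRANS

open Module
open Cfsg.Agent.Lib.Helper94_Symp Cfsg.Agent.Lib.Helper67_Tens2Defs

/-- the reflection in `p - p'` moves the singular vector `p` to the singular vector `p'` when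
`β p p' ≠ 0` -/
theorem reflE_move {F B : Type*} [Field F] [AddCommGroup B] [Module F B]
    (β : LinearMap.BilinForm F B) (hs : ∀ u v, β u v = β v u) (h2 : (2 : F) ≠ 0)
    (p p' : B) (hp : β p p = 0) (hp' : β p' p' = 0) (h : β p p' ≠ 0) :
    reflE β (p - p') p = p' := by
  have h1 : β (p - p') (p - p') = -2 * β p p' := by
    simp only [map_sub, LinearMap.sub_apply, hp, hp', hs p' p]
    ring
  have h3 : β p (p - p') = -β p p' := by
    simp only [map_sub, hp]
    ring
  rw [reflE_apply, h1, h3]
  have : 2 * -β p p' * (-2 * β p p')⁻¹ = 1 := by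
    field_simp
  rw [this, one_smul]
  abel

theorem exists_iso_singular {F B : Type*} [Field F] [AddCommGroup B] [Module F B]
    [FiniteDimensional F B] (β : LinearMap.BilinForm F B) (hs : ∀ u v, β u v = β v u)
    (hn : β.Nondegenerate) (h2 : (2 : F) ≠ 0) (ε ε' : B) (h0 : ε ≠ 0) (h0' : ε' ≠ 0)
    (hε : β ε ε = 0) (hε' : β ε' ε' = 0) : ∃ Q ∈ isoGroup β, Q ε = ε' := by
  by_cases h : β ε ε' = 0
  · -- find `x` with `β x ε ≠ 0` and `β x ε' ≠ 0`
    have e1 : ∃ x ∈ (⊤ : Submodule F B), β x ε ≠ 0 := by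
      by_contra hcon
      push Not at hcon
      exact h0 (hn.2 ε (fun x => hcon x Submodule.mem_top))
    have e2 : ∃ x ∈ (⊤ : Submodule F B), β x ε' ≠ 0 := by
      by_contra hcon
      push Not at hcon
      exact h0' (hn.2 ε' (fun x => hcon x Submodule.mem_top))
    obtain ⟨x, -, hx1, hx2⟩ := exists_both_ne_zero β ⊤ e1 e2
    obtain ⟨e, he⟩ : ∃ e : B, e = x - (β x x * (2 * β x ε)⁻¹) • ε := ⟨_, rfl⟩
    have hee : β e e = 0 := by
      rw [he]
      simp only [map_sub, map_smul, LinearMap.sub_apply, LinearMap.smul_apply, smul_eq_mul, hε,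
        hs ε x]
      field_simp
      ring
    have hεe : β ε e ≠ 0 := by
      rw [he]
      simp only [map_sub, map_smul, smul_eq_mul, hε, mul_zero, sub_zero, hs ε x]
      exact hx1
    have hee' : β e ε' ≠ 0 := by
      rw [he]
      simp only [map_sub, map_smul, LinearMap.sub_apply, LinearMap.smul_apply, smul_eq_mul, h,
        mul_zero, sub_zero]
      exact hx2
    refine ⟨reflE β (e - ε') * reflE β (ε - e),
      (isoGroup β).mul_mem (reflE_mem_isoGroup β hs _) (reflE_mem_isoGroup β hs _), ?_⟩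
    rw [LinearEquiv.mul_apply, reflE_move β hs h2 ε e hε hee hεe,
      reflE_move β hs h2 e ε' hee hε' hee']
  · exact ⟨reflE β (ε - ε'), reflE_mem_isoGroup β hs _, reflE_move β hs h2 ε ε' hε hε' h⟩

end Cfsg.Agent.Lib.Helper89_T2_TRANS
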