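import Mathlib
import Cfsg.Agent.Lib.Helper94_Symp
import Cfsg.Agent.Lib.Helper67_Tens2Defs
import Cfsg.Agent.Lib.Helper89_T2_TRANS

/-!
# TENS2 package GEN2 (architect helper67)

If `M` contains the full transvection group with centre `(ε, 0)`, `ε` singular and nonzero, then all
`(a • ε', c • ε')`, `ε'` singular, are centres of full transvection groups of `M`.
-/

set_option autoImplicit false

namespace Cfsg.Agent.Lib.Helper89_T2_GEN2

open Module
open Cfsg.Agent.Lib.Helper94_Symp Cfsg.Agent.Lib.Helper67_Tens2Defs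
open Cfsg.Agent.Lib.Helper89_T2_TRANS

theorem tv_singular {F B : Type*} [Field F] [AddCommGroup B] [Module F B]
    [FiniteDimensional F B] (β : LinearMap.BilinForm F B) (hs : ∀ u v, β u v = β v u)
    (hn : β.Nondegenerate) (h2 : (2 : F) ≠ 0)
    (M : Subgroup ((B × B) ≃ₗ[F] (B × B))) (hM : HypM β M)
    (ε : B) (hε0 : ε ≠ 0) (hε : β ε ε = 0) (h : ∀ c : F, ux (c • rk1 β ε) ∈ M) :
    ∀ ε' : B, β ε' ε' = 0 → ∀ a c : F, (a • ε', c • ε') ∈ TV (tf β) (tf_isAlt β hs) M := by
  -- `(ε, 0)`
  have h1 : ((ε, 0) : B × B) ∈ TV (tf β) (tf_isAlt β hs) M := by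
    intro c
    have := h (-c)
    rwa [ux_rk1 β hs, neg_neg] at this
  -- `(0, ε)`
  have h2' : ((0, ε) : B × B) ∈ TV (tf β) (tf_isAlt β hs) M := by
    have e1 := TV_map hM.jE_mem (jE_mem_isoGroup β) h1
    have e2 := TV_smul (-1 : F) e1
    have e3 : (-1 : F) • (jE : (B × B) ≃ₗ[F] (B × B)) (ε, 0) = (0, ε) := by
      rw [jE_apply]
      ext <;> simp
    rwa [e3] at e2
  -- `(a ε, c ε)`
  have h3 : ∀ a c : F, ((a • ε, c • ε) : B × B) ∈ TV (tf β) (tf_isAlt β hs) M := by
    intro a c
    by_cases hc : c = 0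
    · have e1 := TV_smul a h1
      have e2 : a • ((ε, 0) : B × B) = (a • ε, c • ε) := by
        rw [hc]
        ext <;> simp
      rwa [e2] at e1
    · have e1 := TV_map (hM.ux_mem (a * c⁻¹))
        (ux_mem_isoGroup β hs _ (by
          intro u v
          simp only [LinearMap.smul_apply, LinearMap.id_coe, id_eq, map_smul, smul_eq_mul])) h2'
      have e2 := TV_smul c e1
      have e3 : c • (ux ((a * c⁻¹) • (LinearMap.id : B →ₗ[F] B))) ((0, ε) : B × B) =
          (a • ε, c • ε) := by
        rw [ux_apply]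
        ext
        · simp only [zero_add, LinearMap.smul_apply, LinearMap.id_coe, id_eq, Prod.smul_mk,
            smul_smul]
          congr 1
          field_simp
        · simp
      rwa [e3] at e2
  intro ε' hε' a c
  by_cases h0' : ε' = 0
  · have : ((a • ε', c • ε') : B × B) = 0 := by
      rw [h0']
      ext <;> simp
    rw [this]
    exact TV_zero
  · obtain ⟨Q, hQ, hQε⟩ := exists_iso_singular β hs hn h2 ε ε' hε0 h0' hε hε'
    have e1 := TV_map (hM.oE_mem Q hQ) (oE_mem_isoGroup β Q hQ) (h3 a c)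
    have e2 : oE Q ((a • ε, c • ε) : B × B) = (a • ε', c • ε') := by
      rw [oE_apply]
      simp only [map_smul, hQε]
    rwa [e2] at e1

end Cfsg.Agent.Lib.Helper89_T2_GEN2
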