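import Mathlib
import Cfsg.Agent.Lib.Helper67_Tens2Defs
import Cfsg.Agent.Lib.Helper25_T2_EIG
import Cfsg.Agent.Lib.Helper93_T2_KAP2

set_option autoImplicit false
set_option linter.unusedSectionVars false
set_option linter.unusedVariables false

/-!
# TENS2 package KAP1 (helper93): `g (ux (c • 1)) g⁻¹` acts on `DI g × DI g` as `ux ((c * ν) • 1)`
-/

open Module
open Cfsg.Agent.Lib.Helper94_Symp Cfsg.Agent.Lib.Helper67_Tens2Defs
open Cfsg.Agent.Lib.Helper93_T2_KAP2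

namespace Cfsg.Agent.Lib.Helper93_T2_KAP1

/-- KAP1 : `g (ux (c • 1)) g⁻¹` acts on `DI g × DI g` as `ux ((c * ν) • 1)` -/
theorem kap1 {F B : Type*} [Field F] [Fintype F] [AddCommGroup B] [Module F B]
    [FiniteDimensional F B] (β : LinearMap.BilinForm F B) (hs : ∀ u v, β u v = β v u)
    (hn : β.Nondegenerate) (h2 : (2 : F) ≠ 0)
    (M : Subgroup ((B × B) ≃ₗ[F] (B × B))) (hM : HypM β M)
    (g : (B × B) ≃ₗ[F] (B × B)) (hg : g ∈ M)
    (hD : ∀ u ∈ DI g, (∀ w ∈ DI g, β u w = 0) → u = 0) (hd3 : 3 ≤ finrank F (DI g))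
    (hCOMM : ∀ y ∈ DI g, β y y ≠ 0 → ∀ c : F,
      oE (reflE β y) * (g * ux (c • (LinearMap.id : B →ₗ[F] B)) * g⁻¹) =
        (g * ux (c • (LinearMap.id : B →ₗ[F] B)) * g⁻¹) * oE (reflE β y)) :
    ∃ ν : F, ∀ c : F, ∀ u ∈ DI g, ∀ u' ∈ DI g,
      (g * ux (c • (LinearMap.id : B →ₗ[F] B)) * g⁻¹) (u, u') = (u + (c * ν) • u', u') := by
  classical
  have hgiso : g ∈ isoGroup (tf β) := hM.le hg
  -- `C` commutes with `1 ⊗ r_y`
  have hRC : ∀ y ∈ DI g, β y y ≠ 0 → ∀ x : B × B,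
      oE (reflE β y) (Cmap g x) = Cmap g (oE (reflE β y) x) := by
    intro y hy hny x
    have h := congrArg (fun f : (B × B) ≃ₗ[F] (B × B) => f x) (hCOMM y hy hny 1)
    simp only [LinearEquiv.mul_apply] at h
    have e1 := conj_apply g (1 : F) x
    have e2 := conj_apply g (1 : F) (oE (reflE β y) x)
    simp only [LinearEquiv.mul_apply] at e1 e2
    rw [e1, e2, map_add, one_smul, one_smul] at h
    exact add_left_cancel h
  -- `C (u, 0) = 0` for `u ∈ D`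
  have hC_D0 : ∀ u ∈ DI g, Cmap g (u, 0) = 0 := fun u hu =>
    (Cmap_eq_zero_iff g (u, 0)).mpr (mem_DI.mp hu)
  -- the two components of `u' ↦ C (0, u')`
  set T1 : B →ₗ[F] B := (LinearMap.fst F B B) ∘ₗ (Cmap g) ∘ₗ (LinearMap.inr F B B) with hT1
  set T2 : B →ₗ[F] B := (LinearMap.snd F B B) ∘ₗ (Cmap g) ∘ₗ (LinearMap.inr F B B) with hT2
  have hT1a : ∀ u, T1 u = (Cmap g (0, u)).1 := fun u => rfl
  have hT2a : ∀ u, T2 u = (Cmap g (0, u)).2 := fun u => rfl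
  have hcomm0 : ∀ y ∈ DI g, β y y ≠ 0 → ∀ v : B,
      Cmap g (0, reflE β y v) = oE (reflE β y) (Cmap g (0, v)) := by
    intro y hy hny v
    rw [hRC y hy hny]
    congr 1
    rw [oE_apply]
    ext
    · simp
    · rfl
  have hT1c : ∀ y ∈ DI g, β y y ≠ 0 → ∀ v, T1 (reflE β y v) = reflE β y (T1 v) := by
    intro y hy hny v
    rw [hT1a, hT1a, hcomm0 y hy hny v, oE_apply]
  have hT2c : ∀ y ∈ DI g, β y y ≠ 0 → ∀ v, T2 (reflE β y v) = reflE β y (T2 v) := by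
    intro y hy hny v
    rw [hT2a, hT2a, hcomm0 y hy hny v, oE_apply]
  obtain ⟨ν, hν⟩ := Cfsg.Agent.Lib.Helper25_T2_EIG.comm_refl_scalar β hs h2 (DI g) hD hd3 T1 hT1c
  obtain ⟨c₂, hc₂⟩ := Cfsg.Agent.Lib.Helper25_T2_EIG.comm_refl_scalar β hs h2 (DI g) hD hd3 T2 hT2c
  -- `T2 = 0` on `D`
  have hT2z : ∀ u' ∈ DI g, T2 u' = 0 := by
    intro u' hu'
    apply hD (T2 u')
    · rw [hc₂ u' hu']
      exact (DI g).smul_mem _ hu'
    · intro w hw
      have h := Cmap_skew β g hgiso (0, u') (w, 0)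
      rw [hC_D0 w hw] at h
      simp only [tf_apply, map_zero, LinearMap.zero_apply, Prod.fst_zero, Prod.snd_zero, zero_sub,
        sub_zero, neg_zero] at h
      rw [hT2a]
      exact neg_eq_zero.mp h
  refine ⟨ν, ?_⟩
  intro c u hu u' hu'
  rw [conj_apply]
  have hsplit : ((u, u') : B × B) = (u, 0) + (0, u') := by
    ext <;> simp
  have hC0u : Cmap g (0, u') = (ν • u', 0) := by
    ext
    · rw [← hT1a, hν u' hu']
    · rw [← hT2a, hT2z u' hu']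
  have hCuu : Cmap g (u, u') = (ν • u', 0) := by
    rw [hsplit, map_add, hC_D0 u hu, zero_add, hC0u]
  rw [hCuu]
  ext
  · simp [smul_smul]
  · simp

end Cfsg.Agent.Lib.Helper93_T2_KAP1
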