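import Mathlib
import Cfsg.Agent.Lib.Helper67_Tens2Defs
import Cfsg.Agent.Lib.Helper89_T2_SING
import Cfsg.Agent.Lib.Helper82_T2_SS
import Cfsg.Agent.Lib.Helper89_T2_GEN2
import Cfsg.Agent.Lib.Helper25_T2_GEN3
import Cfsg.Agent.Lib.Helper43_T2_RS1a
import Cfsg.Agent.Lib.Helper43_T2_RS1b
import Cfsg.Agent.Lib.Helper41_T2_ST2
import Cfsg.Agent.Lib.Helper88_T2_NEX
import Cfsg.Agent.Lib.Helper35_T2_SEMIa
import Cfsg.Agent.Lib.Helper86_T2_ORB
import Cfsg.Agent.Lib.Helper35_T2_PAIR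
import Cfsg.Agent.Lib.Helper79_T2_NDG
import Cfsg.Agent.Lib.Helper86_T2_COMM
import Cfsg.Agent.Lib.Helper93_T2_KAP1
import Cfsg.Agent.Lib.Helper93_T2_KAP2
import Cfsg.Agent.Lib.Helper67_T2_SIEG
import Cfsg.Agent.Lib.Helper67_T2_FIN

set_option autoImplicit false

/-!
# `Sp_2(q) ⊗ O_b(q)` is maximal in `Sp_{2b}(q)`, `q` odd, `b ≥ 5`, `4 ∤ b`: the abstract theorem
(architect helper67; packages by helpers 25, 35, 41, 43, 67, 79, 82, 86, 88, 89, 93)
-/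

namespace Cfsg.Agent.Lib.Helper67_Tens2Main

open Module
open Cfsg.Agent.Lib.Helper94_Symp Cfsg.Agent.Lib.Helper67_Tens2Defs

/-- GEN : a transvection `ux (c0 • rk1 β ε)` (`ε` singular, `c0 ≠ 0`) in `M` forces `M = Sp` -/
theorem gen {F B : Type*} [Field F] [Fintype F] [AddCommGroup B] [Module F B]
    [FiniteDimensional F B] (β : LinearMap.BilinForm F B) (hs : ∀ u v, β u v = β v u)
    (hn : β.Nondegenerate) (h2 : (2 : F) ≠ 0)
    (M : Subgroup ((B × B) ≃ₗ[F] (B × B))) (hM : HypM β M)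
    (ε : B) (hε0 : ε ≠ 0) (hε : β ε ε = 0) (c0 : F) (hc0 : c0 ≠ 0)
    (h : ux (c0 • rk1 β ε) ∈ M) : M = isoGroup (tf β) := by
  apply le_antisymm hM.le
  have hfull : ∀ c : F, ux (c • rk1 β ε) ∈ M := by
    intro c
    have := Helper82_T2_SS.ss_smul β h2 M hM (c0 • rk1 β ε) h (c * c0⁻¹)
    rwa [smul_smul, mul_assoc, inv_mul_cancel₀ hc0, mul_one] at this
  have hsing := Helper89_T2_GEN2.tv_singular β hs hn h2 M hM ε hε0 hε hfull
  have hall := Helper25_T2_GEN3.tv_all β hs hn h2 M hM ⟨ε, hε0, hε⟩ hsing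
  exact isoGroup_le_of_stv_mem (tf β) (tf_isAlt β hs) (tf_nondegenerate β hn) M
    (fun v c => hall v c)

/-- the abstract theorem -/
theorem main_abstract {F B : Type*} [Field F] [Fintype F] [AddCommGroup B] [Module F B]
    [FiniteDimensional F B] (β : LinearMap.BilinForm F B) (hs : ∀ u v, β u v = β v u)
    (hn : β.Nondegenerate) (h2 : (2 : F) ≠ 0) (h5 : 5 ≤ finrank F B) (hb4 : ¬ 4 ∣ finrank F B)
    (M : Subgroup ((B × B) ≃ₗ[F] (B × B))) (hM : HypM β M) :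
    (∀ g ∈ M, IsKron2 g) ∨ M = isoGroup (tf β) := by
  have h3 : 3 ≤ finrank F B := by omega
  by_cases hR : RadStd β M
  · by_cases hK : ∀ g ∈ M, IsKron2 g
    · exact Or.inl hK
    · right
      push Not at hK
      obtain ⟨g0, hg0, hnk⟩ := hK
      have hST : ∀ h ∈ M, (∀ x ∈ (G0 : Submodule F (B × B)), h x ∈ (G0 : Submodule F (B × B))) →
          IsKron2 h := fun h hh h0 => Helper41_T2_ST2.st2 β hs hn h2 h3 M hM hR h hh h0
      obtain ⟨y, hy, hns⟩ := Helper86_T2_ORB.orb β hs hn h2 h3 M hM hST g0 hg0 hnk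
      obtain ⟨g, hg, hne, hdim, hmax⟩ := Helper35_T2_PAIR.pair β hs hn h2 M hM g0 hg0 y hy hns
      have hSEMI : ∀ g ∈ M, ∀ c : F, c ≠ 0 →
          (∀ x ∈ Lg g, ux (c • (LinearMap.id : B →ₗ[F] B)) x ∈ Lg g) →
          Lg g = (G0 : Submodule F (B × B)) :=
        fun g hg c hc hstab => Helper35_T2_SEMIa.semi_aux β hs hn h2 h3 hb4
          (fun h hiso hk h0 hsq hrk => Helper88_T2_NEX.nex β hs hn h2 h3 hb4 h hiso hk h0 hsq hrk)
          M hM hST g hg c hc hstab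
      have hD := Helper79_T2_NDG.ndg β hs hn h2 M hM hSEMI g hg hne hmax
      have hd3 : 3 ≤ finrank F (DI g) := by omega
      have hCOMM : ∀ y ∈ DI g, β y y ≠ 0 → ∀ c : F,
          oE (reflE β y) * (g * ux (c • (LinearMap.id : B →ₗ[F] B)) * g⁻¹) =
            (g * ux (c • (LinearMap.id : B →ₗ[F] B)) * g⁻¹) * oE (reflE β y) :=
        fun y hyD hy c => Helper86_T2_COMM.comm β hs hn h2 h3 M hM hST g hg hD y hyD hy c
      obtain ⟨ν, hν⟩ := Helper93_T2_KAP1.kap1 β hs hn h2 M hM g hg hD hd3 hCOMM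
      obtain ⟨κ, hκ, hfix, z, hz, hX⟩ := Helper93_T2_KAP2.kap2 β hs hn h2 M hM g hg hne hD ν hν
      obtain ⟨ε, hεD, hε0, hε⟩ := Helper89_T2_SING.exists_singular β hs h2 (DI g) hD hd3
      have hεz : β ε z = 0 := by rw [hs]; exact hz ε hεD
      obtain ⟨m, hm, hmf⟩ := Helper67_T2_SIEG.sieg β hs h2 M hM κ hκ ε z hε hεz
        (hfix ε hεD 0 (Submodule.zero_mem _)) (hfix 0 (Submodule.zero_mem _) ε hεD)
      have hfin := Helper67_T2_FIN.fin β hs M hM ε hε _ _ _ _ m hm hmf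
      refine gen β hs hn h2 M hM ε hε0 hε _ ?_ hfin
      exact mul_ne_zero (neg_ne_zero.mpr h2) hX
  · right
    unfold RadStd at hR
    push Not at hR
    obtain ⟨S, hS, hSM, hns⟩ := hR
    obtain ⟨w, y, hw, hwy, hy, hwyM⟩ := Helper43_T2_RS1a.rs1a β hs hn h2 h3 M hM S hS hSM
      (fun ⟨c, hc⟩ => hns c hc)
    obtain ⟨ε, hε0, hε, c, hc, hcM⟩ := Helper43_T2_RS1b.rs1b β hs hn h2 h5 M hM w y hw hwy hy hwyM
    exact gen β hs hn h2 M hM ε hε0 hε c hc hcM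

end Cfsg.Agent.Lib.Helper67_Tens2Main
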