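import Mathlib
import Cfsg.Agent.Lib.Helper67_Tens2Main
import Cfsg.Agent.Lib.Helper9_T2_BR

set_option autoImplicit false

/-!
# `Sp_2(q) ⊗ O_b(q)` is maximal in `Sp_{2b}(q)`: `q` odd, `b ≥ 5`, `4 ∤ b` (prelude statement)
(architect helper67; bridge by helper9)
-/

namespace Cfsg.Agent.Lib.Helper67_Tens2Final

open Module
open Cfsg.Agent.Lib.Helper94_Symp Cfsg.Agent.Lib.Helper67_Tens2Defs

theorem two_ne_zero_of_odd {F : Type*} [Field F] [Fintype F] (hodd : Odd (Fintype.card F)) :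
    (2 : F) ≠ 0 := by
  intro h
  have hc : ringChar F = 2 := by
    have hdvd : ringChar F ∣ 2 := by
      apply ringChar.dvd
      exact_mod_cast h
    have hp : (ringChar F).Prime := CharP.char_is_prime F (ringChar F)
    exact (Nat.prime_dvd_prime_iff_eq hp Nat.prime_two).mp hdvd
  have hev := FiniteField.even_card_of_char_two hc
  rcases hodd with ⟨r, hr⟩
  omega

/-- `Sp_2(q) ⊗ O_b(q)` is maximal in `Sp_{2b}(q)`: `q` odd, `b ≥ 5`, `4 ∤ b` -/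
theorem maximal_tens2 {F : Type*} [Field F] [Fintype F] (m n₂ : ℕ) (hodd : Odd (Fintype.card F))
    (h5 : 5 ≤ n₂) (hb4 : ¬ 4 ∣ n₂)
    (e : (Fin m ⊕ Fin m) ≃ Fin 2 × Fin n₂) (P : Matrix.GeneralLinearGroup (Fin m ⊕ Fin m) F)
    (f₁ : (Fin 2 → F) → (Fin 2 → F) → F) (f₂ : (Fin n₂ → F) → (Fin n₂ → F) → F)
    (hf1 : Cfsg.Geo.IsSymplecticForm f₁) (hf2 : Cfsg.Geo.IsSymmetricForm f₂)
    (hT : Cfsg.Geo.IsTensorFormStructure id (Cfsg.sympForm m F) f₁ f₂ e P) :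
    Cfsg.Geo.IsMaximalIn (Cfsg.spGL m F)
      (Cfsg.Geo.tensorProductSubgroup 2 n₂ e P ⊓ Cfsg.spGL m F) := by
  have h2 : (2 : F) ≠ 0 := two_ne_zero_of_odd hodd
  refine Helper9_T2_BR.bridge m n₂ h2 (by omega) e P f₁ f₂ hf1 hf2 hT ?_
  intro β hs hn M hM
  have hfr : finrank F (Fin n₂ → F) = n₂ := by simp
  exact Helper67_Tens2Main.main_abstract β hs hn h2 (by rw [hfr]; exact h5)
    (by rw [hfr]; exact hb4) M hM

end Cfsg.Agent.Lib.Helper67_Tens2Final
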