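import Mathlib
import Cfsg.Agent.Lib.Helper67_UT2BrDefs
import Cfsg.Agent.Lib.Helper14_PSULocal1

set_option autoImplicit false
set_option linter.unusedSectionVars false
set_option linter.unusedVariables false

/-!
# UTENS2 bridge package BR-HYP2 (architect helper67; delivered by helper69)

`hyp2` : every nondegenerate unitary form on `F²` (`|F| = q²`) is a hyperbolic plane in suitable
coordinates.  Auxiliary: `exists_iso2` (an isotropic vector), `exists_hyp_pair`, `of_hyp_pair`.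
-/

open Module Matrix
open scoped Kronecker
open Cfsg.Agent.Lib.Helper94_Symp Cfsg.Agent.Lib.Helper94_Herm Cfsg.Agent.Lib.Helper13_PSUSimple
  Cfsg.Agent.Lib.Helper94_Bridge Cfsg.Agent.Lib.Helper94_SLBridge Cfsg.Agent.Lib.Helper94_HermBridge
  Cfsg.Agent.Lib.Helper94_TensorFrameU Cfsg.Agent.Lib.Helper70_Tens_TP10b
  Cfsg.Agent.Lib.Helper67_Tens2Defs Cfsg.Agent.Lib.Helper67_UT2Defs Cfsg.Agent.Lib.Helper67_UT2BrDefs
  Cfsg.Agent.Lib.Helper9_T2_BR

namespace Cfsg.Agent.Lib.Helper69_UT2_BRHYP2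

section AUX

variable {F : Type*} [Field F] {q : ℕ} {σ : F →+* F} {f : (Fin 2 → F) → (Fin 2 → F) → F}

theorem uf_zero_left (hf : Cfsg.Geo.IsUnitaryFormPow q f) (y : Fin 2 → F) : f 0 y = 0 := by
  have h := hf.smul_left 0 0 y
  simpa using h

theorem uf_herm (hσq : ∀ x, σ x = x ^ q) (hf : Cfsg.Geo.IsUnitaryFormPow q f) (x y : Fin 2 → F) :
    f x y = σ (f y x) := by
  rw [hσq]
  exact hf.herm x y

theorem uf_add_right (hσq : ∀ x, σ x = x ^ q) (hf : Cfsg.Geo.IsUnitaryFormPow q f)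
    (x y z : Fin 2 → F) : f x (y + z) = f x y + f x z := by
  rw [uf_herm hσq hf x (y + z), hf.add_left, map_add, ← uf_herm hσq hf, ← uf_herm hσq hf]

theorem uf_smul_right (hσq : ∀ x, σ x = x ^ q) (hf : Cfsg.Geo.IsUnitaryFormPow q f)
    (c : F) (x y : Fin 2 → F) : f x (c • y) = σ c * f x y := by
  rw [uf_herm hσq hf x (c • y), hf.smul_left, map_mul, ← uf_herm hσq hf]

theorem vec2_decomp (x : Fin 2 → F) :
    x = x 0 • (Pi.single 0 1 : Fin 2 → F) + x 1 • (Pi.single 1 1 : Fin 2 → F) := by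
  ext i
  fin_cases i <;> simp

theorem uf_expand_left (hf : Cfsg.Geo.IsUnitaryFormPow q f) (x y : Fin 2 → F) :
    f x y = x 0 * f (Pi.single 0 1) y + x 1 * f (Pi.single 1 1) y := by
  conv_lhs => rw [vec2_decomp x]
  rw [hf.add_left, hf.smul_left, hf.smul_left]

/-- a hyperbolic pair gives the hyperbolic coordinates -/
theorem of_hyp_pair (hσq : ∀ x, σ x = x ^ q) (hf : Cfsg.Geo.IsUnitaryFormPow q f)
    (v w : Fin 2 → F) (hvv : f v v = 0) (hww : f w w = 0) (hvw : f v w = 1) :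
    ∃ A A' : Matrix (Fin 2) (Fin 2) F, A * A' = 1 ∧ A' * A = 1 ∧
      ∀ i j, Cfsg.Geo.gramMatrix f i j = A 0 i * σ (A 1 j) + A 1 i * σ (A 0 j) := by
  have hwv : f w v = 1 := by rw [uf_herm hσq hf w v, hvw, map_one]
  set A : Matrix (Fin 2) (Fin 2) F :=
    Matrix.of ![fun i => f (Pi.single i 1) w, fun i => f (Pi.single i 1) v] with hA
  set A' : Matrix (Fin 2) (Fin 2) F := Matrix.of fun i => ![v i, w i] with hA'
  have hA0 : ∀ i, A 0 i = f (Pi.single i 1) w := fun i => rfl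
  have hA1 : ∀ i, A 1 i = f (Pi.single i 1) v := fun i => rfl
  have hA'0 : ∀ i, A' i 0 = v i := fun i => rfl
  have hA'1 : ∀ i, A' i 1 = w i := fun i => rfl
  have h1 : A * A' = 1 := by
    ext k l
    rw [Matrix.mul_apply, Fin.sum_univ_two]
    have e1 := uf_expand_left hf v w
    have e2 := uf_expand_left hf w w
    have e3 := uf_expand_left hf v v
    have e4 := uf_expand_left hf w v
    rw [hvw] at e1
    rw [hww] at e2
    rw [hvv] at e3
    rw [hwv] at e4
    fin_cases k <;> fin_cases l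
    · show A 0 0 * A' 0 0 + A 0 1 * A' 1 0 = (1 : Matrix (Fin 2) (Fin 2) F) 0 0
      rw [hA0, hA0, hA'0, hA'0, Matrix.one_apply_eq]
      linear_combination -e1
    · show A 0 0 * A' 0 1 + A 0 1 * A' 1 1 = (1 : Matrix (Fin 2) (Fin 2) F) 0 1
      rw [hA0, hA0, hA'1, hA'1, Matrix.one_apply_ne (by decide)]
      linear_combination -e2
    · show A 1 0 * A' 0 0 + A 1 1 * A' 1 0 = (1 : Matrix (Fin 2) (Fin 2) F) 1 0
      rw [hA1, hA1, hA'0, hA'0, Matrix.one_apply_ne (by decide)]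
      linear_combination -e3
    · show A 1 0 * A' 0 1 + A 1 1 * A' 1 1 = (1 : Matrix (Fin 2) (Fin 2) F) 1 1
      rw [hA1, hA1, hA'1, hA'1, Matrix.one_apply_eq]
      linear_combination -e4
  have h2 : A' * A = 1 := mul_eq_one_comm.mp h1
  refine ⟨A, A', h1, h2, ?_⟩
  intro i j
  have hei : (Pi.single i 1 : Fin 2 → F) = A 0 i • v + A 1 i • w := by
    ext k
    have := congrFun (congrFun h2 k) i
    rw [Matrix.mul_apply, Fin.sum_univ_two, hA'0, hA'1] at this
    simp only [Pi.add_apply, Pi.smul_apply, smul_eq_mul]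
    rw [Matrix.one_apply] at this
    rw [Pi.single_apply]
    rw [← this]
    ring
  show f (Pi.single i 1) (Pi.single j 1) = _
  conv_lhs => rw [hei]
  rw [hf.add_left, hf.smul_left, hf.smul_left, uf_herm hσq hf v, uf_herm hσq hf w, ← hA1, ← hA0]

theorem exists_iso2 [Finite F] (hσ : Invol σ) (hσq : ∀ x, σ x = x ^ q)
    (hf : Cfsg.Geo.IsUnitaryFormPow q f) : ∃ v : Fin 2 → F, v ≠ 0 ∧ f v v = 0 := by
  set e0 : Fin 2 → F := Pi.single 0 1 with he0
  set e1 : Fin 2 → F := Pi.single 1 1 with he1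
  have hfix : ∀ x, σ (f x x) = f x x := fun x => (uf_herm hσq hf x x).symm
  by_cases ha : f e0 e0 = 0
  · refine ⟨e0, ?_, ha⟩
    intro h
    have := congrFun h 0
    simp [he0] at this
  set a := f e0 e0 with haa
  obtain ⟨u, hu⟩ : ∃ u : Fin 2 → F, u = e1 + (-(f e1 e0 / a)) • e0 := ⟨_, rfl⟩
  have hue0 : f u e0 = 0 := by
    rw [hu, hf.add_left, hf.smul_left, ← haa]
    field_simp
    ring
  have he0u : f e0 u = 0 := by rw [uf_herm hσq hf, hue0, map_zero]
  have hu0 : u ≠ 0 := by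
    intro h
    have := congrFun h 1
    simp [hu, he0, he1] at this
  by_cases hc : f u u = 0
  · exact ⟨u, hu0, hc⟩
  set c := f u u with hcc
  have hfx : σ (-a / c) = -a / c := by
    rw [map_div₀, map_neg, hfix, hfix]
  obtain ⟨l, hl⟩ := norm_surj hσ (-a / c) hfx
  refine ⟨e0 + l • u, ?_, ?_⟩
  · intro h
    have h1 : f (e0 + l • u) e0 = a := by
      rw [hf.add_left, hf.smul_left, hue0, mul_zero, add_zero]
    rw [h, uf_zero_left hf] at h1
    exact ha h1.symm
  · rw [hf.add_left, hf.smul_left, uf_add_right hσq hf, uf_add_right hσq hf,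
      uf_smul_right hσq hf, uf_smul_right hσq hf, he0u, hue0, ← haa, ← hcc]
    have : l * σ l * c = -a := by
      rw [hl]
      field_simp
    linear_combination this

theorem exists_hyp_pair [Finite F] (hσ : Invol σ) (hσq : ∀ x, σ x = x ^ q)
    (hf : Cfsg.Geo.IsUnitaryFormPow q f) :
    ∃ v w : Fin 2 → F, f v v = 0 ∧ f w w = 0 ∧ f v w = 1 := by
  obtain ⟨v, hv0, hvv⟩ := exists_iso2 hσ hσq hf
  obtain ⟨x, hx⟩ := (hf.nondegenerate v hv0).2
  set c := f v x with hc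
  obtain ⟨u, hu⟩ : ∃ u : Fin 2 → F, u = (σ c⁻¹) • x := ⟨_, rfl⟩
  have hvu : f v u = 1 := by
    rw [hu, uf_smul_right hσq hf, hσ.invol, ← hc]
    field_simp
  have huv : f u v = 1 := by rw [uf_herm hσq hf, hvu, map_one]
  have hfix : σ (-(f u u)) = -(f u u) := by
    rw [map_neg, ← uf_herm hσq hf u u]
  obtain ⟨l, hl⟩ := tr_surj hσ (-(f u u)) hfix
  refine ⟨v, u + l • v, hvv, ?_, ?_⟩
  · rw [hf.add_left, hf.smul_left, uf_add_right hσq hf, uf_add_right hσq hf,
      uf_smul_right hσq hf, uf_smul_right hσq hf, hvv, hvu, huv]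
    linear_combination hl
  · rw [uf_add_right hσq hf, uf_smul_right hσq hf, hvv, hvu]
    ring

end AUX

section FORMS

variable {F : Type*} [Field F] [Fintype F] {q : ℕ}

/-- BR-HYP2 : a nondegenerate unitary form on `F²` is hyperbolic in suitable coordinates -/
theorem hyp2 (hF : Fintype.card F = q ^ 2) (σ : F →+* F) (hσq : ∀ x, σ x = x ^ q) (hσ : Invol σ)
    (f₁ : (Fin 2 → F) → (Fin 2 → F) → F) (hf1 : Cfsg.Geo.IsUnitaryFormPow q f₁) :
    ∃ A A' : Matrix (Fin 2) (Fin 2) F, A * A' = 1 ∧ A' * A = 1 ∧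
      ∀ i j, Cfsg.Geo.gramMatrix f₁ i j = A 0 i * σ (A 1 j) + A 1 i * σ (A 0 j) := by
  obtain ⟨v, w, hvv, hww, hvw⟩ := exists_hyp_pair hσ hσq hf1
  exact of_hyp_pair hσq hf1 v w hvv hww hvw

end FORMS

end Cfsg.Agent.Lib.Helper69_UT2_BRHYP2
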