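import Mathlib
import Cfsg.Agent.Lib.Helper67_UT2Defs
import Cfsg.Agent.Lib.Helper82_T2_KR

set_option autoImplicit false
set_option linter.unusedSectionVars false
set_option linter.unusedVariables false

/-!
# UTENS2 package KRU (architect helper67): three small Kronecker facts, hermitian setting
-/

open Module
open Cfsg.Agent.Lib.Helper94_Symp Cfsg.Agent.Lib.Helper94_Herm Cfsg.Agent.Lib.Helper13_PSUSimple
  Cfsg.Agent.Lib.Helper94_FrmDefs Cfsg.Agent.Lib.Helper94_HermEich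
  Cfsg.Agent.Lib.Helper67_Tens2Defs Cfsg.Agent.Lib.Helper67_UT2Defs

namespace Cfsg.Agent.Lib.Helper91_UT2_KRU

variable {F W : Type*} [Field F] [Finite F] [AddCommGroup W] [Module F W] [FiniteDimensional F W]
variable {σ : F →+* F} {β : W →ₗ[F] W →ₛₗ[σ] F}

/-- KRU -/
theorem isKron2_jU (s : Fˣ) : IsKron2 (jU s : (W × W) ≃ₗ[F] (W × W)) := by
  refine ⟨!![0, (s : F); -(((s⁻¹ : Fˣ) : F)), 0], LinearMap.id, ?_⟩
  intro u u'
  simp [jU_apply]

/-- some vector pairs nontrivially with a nonzero `ε` (on the left) -/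
theorem exists_pair_ne_zero (hσ : Invol σ) (hβ : IsHerm β) (hN : NondegOn β ⊤)
    (ε : W) (hε : ε ≠ 0) : ∃ u₀ : W, β u₀ ε ≠ 0 := by
  obtain ⟨y, -, hy⟩ := hN ε trivial hε
  exact ⟨y, herm_ne_zero hσ hβ hy⟩

/-- KRU : a unitary transvection with centre `(ε, 0)`, `ε ≠ 0`, is not Kronecker (`dim W ≥ 2`) -/
theorem not_isKron2_utv (hσ : Invol σ) (hβ : IsHerm β) (hN : NondegOn β ⊤) (hb : 2 ≤ finrank F W)
    (ε : W) (hε : ε ≠ 0) (c : F) (hc : c ≠ 0) : ¬ IsKron2 (ux (c • rk1h β ε)) := by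
  rintro ⟨p, Q, hpQ⟩
  have h1 : ∀ u : W, u = p 0 0 • Q u := by
    intro u
    have := congrArg Prod.fst (hpQ u 0)
    simpa using this
  have h2 : ∀ u' : W, (c * β u' ε) • ε = p 0 1 • Q u' := by
    intro u'
    have := congrArg Prod.fst (hpQ 0 u')
    simpa [smul_smul] using this
  have h00 : p 0 0 ≠ 0 := by
    intro h0
    apply hε
    have := h1 ε
    rwa [h0, zero_smul] at this
  have hQ : ∀ u : W, Q u = (p 0 0)⁻¹ • u := by
    intro u
    conv_rhs => rw [h1 u]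
    rw [smul_smul, inv_mul_cancel₀ h00, one_smul]
  obtain ⟨u₀, hu₀⟩ := exists_pair_ne_zero hσ hβ hN ε hε
  by_cases hk : p 0 1 = 0
  · have := h2 u₀
    rw [hk, zero_smul] at this
    rcases smul_eq_zero.mp this with h | h
    · rcases mul_eq_zero.mp h with h | h
      · exact hc h
      · exact hu₀ h
    · exact hε h
  · have hle : finrank F W ≤ 1 := by
      apply finrank_le_one ε
      intro w
      refine ⟨(p 0 1)⁻¹ * p 0 0 * (c * β w ε), ?_⟩
      rw [← smul_smul, h2 w, hQ w, smul_smul, smul_smul]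
      rw [show (p 0 1)⁻¹ * p 0 0 * p 0 1 * (p 0 0)⁻¹ = 1 by field_simp, one_smul]
    omega

/-- KRU : `c • rk1h β ε` is not scalar (`dim W ≥ 2`) -/
theorem rk1h_not_scalar (hσ : Invol σ) (hβ : IsHerm β) (hN : NondegOn β ⊤) (hb : 2 ≤ finrank F W)
    (ε : W) (hε : ε ≠ 0) (c : F) (hc : c ≠ 0) :
    ¬ ∃ c' : F, c • rk1h β ε = c' • (LinearMap.id : W →ₗ[F] W) := by
  rintro ⟨c', hc'⟩
  have h2 : ∀ v : W, (c * β v ε) • ε = c' • v := by
    intro v
    have := LinearMap.congr_fun hc' v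
    simpa [smul_smul] using this
  obtain ⟨u₀, hu₀⟩ := exists_pair_ne_zero hσ hβ hN ε hε
  have hc'0 : c' ≠ 0 := by
    intro h0
    have := h2 u₀
    rw [h0, zero_smul] at this
    rcases smul_eq_zero.mp this with h | h
    · rcases mul_eq_zero.mp h with h | h
      · exact hc h
      · exact hu₀ h
    · exact hε h
  have hle : finrank F W ≤ 1 := by
    apply finrank_le_one ε
    intro w
    refine ⟨c'⁻¹ * (c * β w ε), ?_⟩
    rw [← smul_smul, h2 w, smul_smul, inv_mul_cancel₀ hc'0, one_smul]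
  omega

end Cfsg.Agent.Lib.Helper91_UT2_KRU
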