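import Mathlib
import Cfsg.Agent.Lib.Helper67_UT2BrDefs
import Cfsg.Agent.Lib.Helper14_PSULocal1
import Cfsg.Agent.Lib.Helper91_UT2_KRU
import Cfsg.Agent.Lib.Helper2_UT2_ISOEX
import Cfsg.Agent.Lib.Helper69_UT2_BRHYP2
import Cfsg.Agent.Lib.Helper44_UT2_BR_FORM
import Cfsg.Agent.Lib.Helper44_UT2_BR_KA
import Cfsg.Agent.Lib.Helper44_UT2_BR_TR
import Cfsg.Agent.Lib.Helper89_UT2_BRSUMEM

set_option autoImplicit false
set_option linter.unusedSectionVars false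
set_option linter.unusedVariables false

/-!
# UTENS2 bridge (helper67): from the abstract theorem on `W × W` to
`IsMaximalIn (GU ⊓ SL) (tensorProductSubgroup 2 n₂ e P ⊓ (GU ⊓ SL))`
(packages by helpers 44, 69, 89; reuses helper9's `Helper9_T2_BR`)
-/

open Module Matrix
open scoped Kronecker
open Cfsg.Agent.Lib.Helper94_Symp Cfsg.Agent.Lib.Helper94_Herm Cfsg.Agent.Lib.Helper13_PSUSimple
  Cfsg.Agent.Lib.Helper94_Bridge Cfsg.Agent.Lib.Helper94_SLBridge Cfsg.Agent.Lib.Helper94_HermBridge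
  Cfsg.Agent.Lib.Helper94_TensorFrameU Cfsg.Agent.Lib.Helper70_Tens_TP10b
  Cfsg.Agent.Lib.Helper67_Tens2Defs Cfsg.Agent.Lib.Helper67_UT2Defs Cfsg.Agent.Lib.Helper67_UT2BrDefs
  Cfsg.Agent.Lib.Helper9_T2_BR

namespace Cfsg.Agent.Lib.Helper67_UT2Bridge

variable {F : Type*} [Field F] [Fintype F]

/-- conjugation by a Kronecker map with Kronecker inverse preserves `IsKron2` -/
theorem isKron2_conj_iff {W : Type*} [AddCommGroup W] [Module F W]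
    (k g : (W × W) ≃ₗ[F] (W × W)) (hk : IsKron2 k) (hk' : IsKron2 k⁻¹) :
    IsKron2 (k * g * k⁻¹) ↔ IsKron2 g := by
  constructor
  · intro h
    have h1 := Cfsg.Agent.Lib.Helper82_T2_KR.isKron2_mul _ _
      (Cfsg.Agent.Lib.Helper82_T2_KR.isKron2_mul _ _ hk' h) hk
    have : k⁻¹ * (k * g * k⁻¹) * k = g := by group
    rwa [this] at h1
  · intro h
    exact Cfsg.Agent.Lib.Helper82_T2_KR.isKron2_mul _ _
      (Cfsg.Agent.Lib.Helper82_T2_KR.isKron2_mul _ _ hk h) hk'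

/-- BR-MAIN : the bridge -/
theorem bridge (n q n₂ : ℕ) (hF : Fintype.card F = q ^ 2) (hn₂ : 2 ≤ n₂)
    (e : Fin n ≃ Fin 2 × Fin n₂) (P : GL (Fin n) F)
    (f₁ : (Fin 2 → F) → (Fin 2 → F) → F) (f₂ : (Fin n₂ → F) → (Fin n₂ → F) → F)
    (hf1 : Cfsg.Geo.IsUnitaryFormPow q f₁) (hf2 : Cfsg.Geo.IsUnitaryFormPow q f₂)
    (hT : Cfsg.Geo.IsTensorFormStructure (fun x : F => x ^ q) (Cfsg.hermForm n F q) f₁ f₂ e P)
    (hmain : ∀ (σ : F →+* F), (∀ x, σ x = x ^ q) → Invol σ →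
      ∀ (β : (Fin n₂ → F) →ₗ[F] (Fin n₂ → F) →ₛₗ[σ] F), IsHerm β → NondegOn β ⊤ →
      ∀ M : Subgroup (((Fin n₂ → F) × (Fin n₂ → F)) ≃ₗ[F] ((Fin n₂ → F) × (Fin n₂ → F))),
        HypU β M → (∀ g ∈ M, IsKron2 g) ∨ M = SUg (uf β)) :
    Cfsg.Geo.IsMaximalIn (Cfsg.GU n F q ⊓ Cfsg.Geo.specialLinear (Fin n) F)
      (Cfsg.Geo.tensorProductSubgroup 2 n₂ e P ⊓
        (Cfsg.GU n F q ⊓ Cfsg.Geo.specialLinear (Fin n) F)) := by
  obtain ⟨σ, hσq, hσ⟩ := exists_frob hF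
  obtain ⟨c, hc0, hc⟩ := hT
  set β : (Fin n₂ → F) →ₗ[F] (Fin n₂ → F) →ₛₗ[σ] F := sesqOf σ hσq f₂ hf2 with hβdef
  have hβ : IsHerm β := sesqOf_isHerm σ hσq f₂ hf2
  have hN : NondegOn β ⊤ := by
    intro x _ hx
    obtain ⟨y, hy⟩ := (hf2.nondegenerate x hx).2
    exact ⟨y, trivial, hy⟩
  have hfr : finrank F (Fin n₂ → F) = n₂ := by simp
  obtain ⟨A, A', hAA', hA'A, hG⟩ := Helper69_UT2_BRHYP2.hyp2 hF σ hσq hσ f₁ hf1
  set k : ((Fin n₂ → F) × (Fin n₂ → F)) ≃ₗ[F] ((Fin n₂ → F) × (Fin n₂ → F)) :=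
    kA A A' hAA' hA'A with hkdef
  have hkK : IsKron2 k := isKron2_kA A A' hAA' hA'A
  have hkK' : IsKron2 k⁻¹ := by
    rw [hkdef, kA_symm]
    exact isKron2_kA A' A hA'A hAA'
  set Θ' : (Fin n → F) ≃ₗ[F] ((Fin n₂ → F) × (Fin n₂ → F)) := (Theta e P).trans k with hΘ'
  have hform : ∀ v w : Fin n → F,
      hermB n σ hσq v w = c * uf β (Θ' v) (Θ' w) := by
    intro v w
    rw [hermB_apply, Helper44_UT2_BR_FORM.form_eq σ hσq n n₂ e P f₁ f₂ hf1 hf2 c hc v w,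
      Helper44_UT2_BR_KA.gf_kA σ β _ A A' hAA' hA'A hG]
    rfl
  set Φ' : GL (Fin n) F ≃* (((Fin n₂ → F) × (Fin n₂ → F)) ≃ₗ[F] ((Fin n₂ → F) × (Fin n₂ → F))) :=
    (glEquiv (Fin n) F).trans (conjE Θ') with hΦ'
  have hΦk : ∀ g : GL (Fin n) F, Φ' g = k * Cfsg.Agent.Lib.Helper9_T2_BR.Phi e P g * k⁻¹ := by
    intro g
    apply LinearEquiv.ext
    intro x
    show Θ' ((glEquiv (Fin n) F g) (Θ'.symm x)) = k (Phi e P g (k⁻¹ x))
    rw [Cfsg.Agent.Lib.Helper9_T2_BR.Phi_apply]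
    rfl
  -- membership in `SU`
  have hSU : ∀ g : GL (Fin n) F,
      g ∈ Cfsg.GU n F q ⊓ Cfsg.Geo.specialLinear (Fin n) F ↔ Φ' g ∈ SUg (uf β) := by
    intro g
    rw [Helper44_UT2_BR_TR.SU_eq σ hσq, Subgroup.mem_comap]
    exact (Helper44_UT2_BR_TR.conjE_mem_SUg Θ' (hermB n σ hσq) (uf β) c hc0 hform _).symm
  -- membership in the tensor product subgroup
  have hK : ∀ g : GL (Fin n) F,
      g ∈ Cfsg.Geo.tensorProductSubgroup 2 n₂ e P ↔ IsKron2 (Φ' g) := by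
    intro g
    rw [hΦk, isKron2_conj_iff k _ hkK hkK']
    exact ⟨isKron2_of_mem e P g, mem_of_isKron2 (by omega) e P g⟩
  -- Kronecker elements of `SU(uf β)` come from `H`
  have hpull : ∀ x : ((Fin n₂ → F) × (Fin n₂ → F)) ≃ₗ[F] ((Fin n₂ → F) × (Fin n₂ → F)),
      IsKron2 x → x ∈ SUg (uf β) →
      Φ'.symm x ∈ Cfsg.Geo.tensorProductSubgroup 2 n₂ e P ⊓
        (Cfsg.GU n F q ⊓ Cfsg.Geo.specialLinear (Fin n) F) := by
    intro x hxK hxS
    refine ⟨(hK _).mpr ?_, (hSU _).mpr ?_⟩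
    · rwa [MulEquiv.apply_symm_apply]
    · rwa [MulEquiv.apply_symm_apply]
  refine ⟨?_, ?_⟩
  · -- properness
    refine lt_of_le_of_ne inf_le_right ?_
    intro heq
    obtain ⟨ε, -, hε0, hε⟩ := Cfsg.Agent.Lib.Helper2_UT2_ISOEX.exists_iso_in hσ hβ ⊤ hN
      (by rw [finrank_top, hfr]; exact hn₂)
    obtain ⟨ζ, hζ0, hζ⟩ := exists_skew hσ
    set t : ((Fin n₂ → F) × (Fin n₂ → F)) ≃ₗ[F] ((Fin n₂ → F) × (Fin n₂ → F)) :=
      ux (ζ • rk1h β ε) with ht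
    have htS : t ∈ SUg (uf β) := by
      rw [ht, ux_rk1h]
      exact Cfsg.Agent.Lib.Helper14_PSULocal1.utv_mem_SUg (uf_isHerm hβ) _ hζ
    have htK : ¬ IsKron2 t :=
      Cfsg.Agent.Lib.Helper91_UT2_KRU.not_isKron2_utv hσ hβ hN (by rw [hfr]; exact hn₂) ε hε0 ζ hζ0
    have h1 : Φ'.symm t ∈ Cfsg.GU n F q ⊓ Cfsg.Geo.specialLinear (Fin n) F := by
      rw [hSU, MulEquiv.apply_symm_apply]; exact htS
    rw [← heq] at h1
    have h2 := (hK _).mp h1.1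
    rw [MulEquiv.apply_symm_apply] at h2
    exact htK h2
  · intro M hHM hMK
    set M' : Subgroup (((Fin n₂ → F) × (Fin n₂ → F)) ≃ₗ[F] ((Fin n₂ → F) × (Fin n₂ → F))) :=
      M.map Φ'.toMonoidHom with hM'
    have hmem : ∀ x, IsKron2 x → x ∈ SUg (uf β) → x ∈ M' := by
      intro x hxK hxS
      refine ⟨Φ'.symm x, hHM (hpull x hxK hxS), ?_⟩
      exact MulEquiv.apply_symm_apply Φ' x
    have hHyp : HypU β M' := by
      refine ⟨?_, ?_, ?_, ?_, ?_, ?_⟩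
      · rintro x ⟨g, hg, rfl⟩
        exact (hSU g).mp (hMK hg)
      · intro c' hc'
        refine hmem _ (isKron2_ux c') (Helper89_UT2_BRSUMEM.ux_mem_SUg hσ hβ _ ?_)
        intro u v
        simp only [LinearMap.smul_apply, LinearMap.id_apply, map_smul, map_smulₛₗ,
          LinearMap.smul_apply, smul_eq_mul, hc']
        ring
      · intro c' hc'
        refine hmem _ (Cfsg.Agent.Lib.Helper82_T2_KR.isKron2_lx c') (Helper89_UT2_BRSUMEM.lx_mem_SUg hσ hβ _ ?_)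
        intro u v
        simp only [LinearMap.smul_apply, LinearMap.id_apply, map_smul, map_smulₛₗ,
          LinearMap.smul_apply, smul_eq_mul, hc']
        ring
      · intro a ha
        exact hmem _ (isKron2_hE a) (Helper89_UT2_BRSUMEM.hE_mem_SUg hσ hβ a ha)
      · intro s hs
        exact hmem _ (Cfsg.Agent.Lib.Helper91_UT2_KRU.isKron2_jU s) (Helper89_UT2_BRSUMEM.jU_mem_SUg hσ hβ s hs)
      · intro Q hQ
        exact hmem _ (isKron2_oE Q) (Helper89_UT2_BRSUMEM.oE_mem_SUg hσ hβ Q hQ)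
    rcases hmain σ hσq hσ β hβ hN M' hHyp with hall | htop
    · left
      apply le_antisymm _ hHM
      intro g hg
      refine ⟨(hK g).mpr (hall _ ⟨g, hg, rfl⟩), hMK hg⟩
    · right
      apply le_antisymm hMK
      intro g hg
      have h1 : Φ' g ∈ M' := by rw [htop]; exact (hSU g).mp hg
      obtain ⟨g', hg', hgg'⟩ := h1
      have : g' = g := Φ'.injective hgg'
      rwa [← this]


end Cfsg.Agent.Lib.Helper67_UT2Bridge
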