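import Mathlib
import Cfsg.Agent.Lib.Helper67_UT2Defs
import Cfsg.Agent.Lib.Helper82_T2_KR
import Cfsg.Agent.Lib.Helper93_T2_KAP2
import Cfsg.Agent.Lib.Helper94_HermOrth

set_option autoImplicit false
set_option linter.unusedSectionVars false
set_option linter.unusedVariables false

/-!
# UTENS2 package KAP2U (architect helper67): the commutator `κ = [ux c₀, g (ux c₀) g⁻¹]`
(hermitian twin of `Helper93_T2_KAP2`, whose form independent lemmas on `Amap`, `Cmap` are reused).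
-/

open Module
open Cfsg.Agent.Lib.Helper94_Symp Cfsg.Agent.Lib.Helper94_Herm Cfsg.Agent.Lib.Helper13_PSUSimple
  Cfsg.Agent.Lib.Helper94_FrmDefs Cfsg.Agent.Lib.Helper94_HermEich
  Cfsg.Agent.Lib.Helper67_Tens2Defs Cfsg.Agent.Lib.Helper67_UT2Defs
  Cfsg.Agent.Lib.Helper93_T2_KAP2 Cfsg.Agent.Lib.Helper94_HermOrth

namespace Cfsg.Agent.Lib.Helper69_UT2_KAP2U

variable {F W : Type*} [Field F] [Finite F] [AddCommGroup W] [Module F W] [FiniteDimensional F W]
variable {σ : F →+* F} {β : W →ₗ[F] W →ₛₗ[σ] F}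

/-- `A` is `uf`-self-adjoint -/
theorem Amap_selfadj (β : W →ₗ[F] W →ₛₗ[σ] F) (x y : W × W) :
    uf β (Amap F W x) y = uf β x (Amap F W y) := by
  simp only [uf_apply, Amap_apply, map_zero, LinearMap.zero_apply, add_zero, zero_add]

/-- `C = g A g⁻¹` is `uf`-self-adjoint -/
theorem Cmap_selfadj (β : W →ₗ[F] W →ₛₗ[σ] F) (g : (W × W) ≃ₗ[F] (W × W))
    (hg : g ∈ uG (uf β)) (x y : W × W) :
    uf β (Cmap g x) y = uf β x (Cmap g y) := by
  rw [Cmap_apply, Cmap_apply]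
  have h1 : uf β (g (Amap F W (g⁻¹ x))) y = uf β (Amap F W (g⁻¹ x)) (g⁻¹ y) := by
    have := hg (Amap F W (g⁻¹ x)) (g⁻¹ y)
    rw [apply_inv_apply'] at this
    exact this
  have h2 : uf β x (g (Amap F W (g⁻¹ y))) = uf β (g⁻¹ x) (Amap F W (g⁻¹ y)) := by
    have := hg (g⁻¹ x) (Amap F W (g⁻¹ y))
    rw [apply_inv_apply'] at this
    exact this
  rw [h1, h2, Amap_selfadj]

/-- the commutator on vectors killed by `A` -/
theorem kappa_apply_t (g : (W × W) ≃ₗ[F] (W × W)) (t : F) (x : W × W) (hx : Amap F W x = 0) :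
    (ux (t • (LinearMap.id : W →ₗ[F] W)) *
      (g * ux (t • (LinearMap.id : W →ₗ[F] W)) * g⁻¹) *
      ux ((-t) • (LinearMap.id : W →ₗ[F] W)) *
      (g * ux ((-t) • (LinearMap.id : W →ₗ[F] W)) * g⁻¹)) x =
    x + (t * t) • Amap F W (Cmap g x) + (t * t * t) • Cmap g (Amap F W (Cmap g x)) +
      (t * t * t * t) • Amap F W (Cmap g (Amap F W (Cmap g x))) := by
  have e : ∀ (a b c d : (W × W) ≃ₗ[F] (W × W)) (x : W × W),
      (a * b * c * d) x = a (b (c (d x))) := fun _ _ _ _ _ => rfl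
  rw [e, conj_apply, ux_smul_id_apply, conj_apply, ux_smul_id_apply]
  simp only [map_add, map_smul, map_neg, smul_add, smul_neg, neg_smul,
    Cmap_Cmap, Amap_Amap, hx, smul_zero, neg_zero, add_zero, map_zero, smul_smul]
  module

theorem kappa_inv_apply_t (g : (W × W) ≃ₗ[F] (W × W)) (t : F) (x : W × W)
    (hx : Amap F W x = 0) :
    ((g * ux (t • (LinearMap.id : W →ₗ[F] W)) * g⁻¹) *
      ux (t • (LinearMap.id : W →ₗ[F] W)) *
      (g * ux ((-t) • (LinearMap.id : W →ₗ[F] W)) * g⁻¹) *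
      ux ((-t) • (LinearMap.id : W →ₗ[F] W))) x =
    x - (t * t) • Amap F W (Cmap g x) - (t * t * t) • Cmap g (Amap F W (Cmap g x)) := by
  have e : ∀ (a b c d : (W × W) ≃ₗ[F] (W × W)) (x : W × W),
      (a * b * c * d) x = a (b (c (d x))) := fun _ _ _ _ _ => rfl
  rw [e, conj_apply, ux_smul_id_apply, conj_apply, ux_smul_id_apply]
  simp only [map_add, map_smul, map_neg, smul_add, smul_neg, neg_smul,
    Cmap_Cmap, Amap_Amap, hx, smul_zero, neg_zero, add_zero, map_zero, smul_smul]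
  module

theorem conj_inv_t (g : (W × W) ≃ₗ[F] (W × W)) (t : F) :
    (g * ux (t • (LinearMap.id : W →ₗ[F] W)) * g⁻¹)⁻¹ =
      g * ux ((-t) • (LinearMap.id : W →ₗ[F] W)) * g⁻¹ := by
  rw [mul_inv_rev, mul_inv_rev, inv_inv, ux_inv, mul_assoc]
  congr 3
  rw [neg_smul]

theorem kappa_inv_t (g : (W × W) ≃ₗ[F] (W × W)) (t : F) :
    (ux (t • (LinearMap.id : W →ₗ[F] W)) *
      (g * ux (t • (LinearMap.id : W →ₗ[F] W)) * g⁻¹) *
      ux ((-t) • (LinearMap.id : W →ₗ[F] W)) *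
      (g * ux ((-t) • (LinearMap.id : W →ₗ[F] W)) * g⁻¹))⁻¹ =
    (g * ux (t • (LinearMap.id : W →ₗ[F] W)) * g⁻¹) *
      ux (t • (LinearMap.id : W →ₗ[F] W)) *
      (g * ux ((-t) • (LinearMap.id : W →ₗ[F] W)) * g⁻¹) *
      ux ((-t) • (LinearMap.id : W →ₗ[F] W)) := by
  have e2 : ux ((-t) • (LinearMap.id : W →ₗ[F] W)) =
      (ux (t • (LinearMap.id : W →ₗ[F] W)))⁻¹ := by
    rw [ux_inv]; congr 1; rw [neg_smul]
  have e3 := (conj_inv_t g t).symm
  exact comm_inv_aux _ _ _ _ e2 e3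

/-- KAP2U : the commutator `κ = [ux c₀, g (ux c₀) g⁻¹]` -/
theorem kap2u (hσ : Invol σ) (hβ : IsHerm β) (hN : NondegOn β ⊤)
    (M : Subgroup ((W × W) ≃ₗ[F] (W × W))) (hM : HypU β M)
    (g : (W × W) ≃ₗ[F] (W × W)) (hg : g ∈ M) (hne : Lg g ≠ (G0 : Submodule F (W × W)))
    (hD : NondegOn β (DI g))
    (ν : F) (hν : ∀ c : F, σ c = -c → ∀ u ∈ DI g, ∀ u' ∈ DI g,
      (g * ux (c • (LinearMap.id : W →ₗ[F] W)) * g⁻¹) (u, u') = (u + (c * ν) • u', u')) :
    ∃ κ ∈ M, (∀ u ∈ DI g, ∀ u' ∈ DI g, κ (u, u') = (u, u')) ∧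
      ∃ z z' : W, (∀ w ∈ DI g, β z w = 0) ∧ (∀ w ∈ DI g, β z' w = 0) ∧
        β ((κ⁻¹ (z', 0)).2) z - β ((κ (z, 0)).2) z' ≠ 0 := by
  classical
  obtain ⟨t, ht0, ht⟩ := exists_skew hσ
  have htn : σ (-t) = -(-t) := by rw [map_neg, ht]
  have hgiso : g ∈ uG (uf β) := (mem_SUg.mp (hM.le hg)).1
  -- `C` on `D × D`
  have hC_DD : ∀ u ∈ DI g, ∀ u' ∈ DI g, Cmap g (u, u') = (ν • u', 0) := by
    intro u hu u' hu'
    have h := hν t ht u hu u' hu'
    rw [conj_apply] at h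
    have h' : t • Cmap g (u, u') = t • ((ν • u', (0 : W)) : W × W) := by
      have e : ((u + (t * ν) • u', u') : W × W) = (u, u') + t • ((ν • u', (0 : W)) : W × W) := by
        ext <;> simp [smul_smul]
      rw [e] at h
      exact add_left_cancel h
    exact smul_right_injective _ ht0 h'
  have hC_D0 : ∀ u ∈ DI g, Cmap g (u, 0) = 0 := by
    intro u hu
    rw [hC_DD u hu 0 (zero_mem _), smul_zero]
    rfl
  have hC_0D : ∀ w ∈ DI g, Cmap g (0, w) = (ν • w, 0) :=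
    fun w hw => hC_DD 0 (zero_mem _) w hw
  -- components of `C x` against `D`
  have hC2 : ∀ x : W × W, ∀ w ∈ DI g, β (Cmap g x).2 w = 0 := by
    intro x w hw
    have h := Cmap_selfadj β g hgiso x (w, 0)
    rw [hC_D0 w hw] at h
    simpa using h
  have hC1 : ∀ x : W × W, (∀ w ∈ DI g, β x.2 w = 0) → ∀ w ∈ DI g, β (Cmap g x).1 w = 0 := by
    intro x hx w hw
    have h := Cmap_selfadj β g hgiso x (0, w)
    rw [hC_0D w hw] at h
    simp only [uf_apply, map_zero, add_zero, map_smulₛₗ, smul_eq_mul, hx w hw, mul_zero] at h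
    exact h
  -- the map `ψ`
  set ψ : W →ₗ[F] W := (LinearMap.snd F W W) ∘ₗ (Cmap g) ∘ₗ (LinearMap.inl F W W) with hψ
  have hψa : ∀ u, ψ u = (Cmap g (u, 0)).2 := fun u => rfl
  have hψsa : ∀ u w, β (ψ u) w = β u (ψ w) := by
    intro u w
    have h := Cmap_selfadj β g hgiso (u, 0) (w, 0)
    simp only [uf_apply, map_zero, LinearMap.zero_apply, zero_add, add_zero] at h
    rw [hψa, hψa]
    exact h
  -- the orthogonal complement
  set E : Submodule F W := orthS β (DI g) with hE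
  have hEmem : ∀ z, z ∈ E ↔ ∀ w ∈ DI g, β z w = 0 := fun z => mem_orthS' hβ
  have hψE : ∀ u, ψ u ∈ E := fun u => (hEmem _).mpr (fun w hw => hC2 _ w hw)
  -- `D ∩ E = 0`
  have hDE : ∀ u ∈ DI g, u ∈ E → u = 0 := by
    intro u hu huE
    by_contra hu0
    obtain ⟨w, hw, hne'⟩ := hD u hu hu0
    exact hne' ((hEmem u).mp huE w hw)
  have hψinj : ∀ u ∈ E, ψ u = 0 → u = 0 := by
    intro u hu h0
    have hp : (Cmap g (u, 0)).1 ∈ E :=
      (hEmem _).mpr (hC1 (u, 0) (fun w hw => by simp))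
    have hCx : Cmap g (u, 0) = ((Cmap g (u, 0)).1, 0) := Prod.ext rfl h0
    have hpD : (Cmap g (u, 0)).1 ∈ DI g := by
      rw [mem_DI, ← hCx]
      exact Cmap_mem_Lg g (u, 0)
    have hp0 : (Cmap g (u, 0)).1 = 0 := hDE _ hpD hp
    have hC0 : Cmap g (u, 0) = 0 := by
      rw [hCx, hp0]; rfl
    have huD : u ∈ DI g := by
      rw [mem_DI]
      exact (Cmap_eq_zero_iff g (u, 0)).mp hC0
    exact hDE u huD hu
  let ψE : E →ₗ[F] E := ψ.restrict (fun u _ => hψE u)
  have hψEinj : Function.Injective ψE := by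
    rw [injective_iff_map_eq_zero]
    intro u hu
    apply Subtype.ext
    apply hψinj u.1 u.2
    have := congrArg Subtype.val hu
    simpa [ψE] using this
  have hψEsurj : Function.Surjective ψE := LinearMap.injective_iff_surjective.mp hψEinj
  -- `D ≠ ⊤`, so `E ≠ 0`
  have hDtop : DI g ≠ ⊤ := by
    intro htop
    apply hne
    symm
    apply Submodule.eq_of_le_of_finrank_eq
    · intro x hx
      have hx' : x = (x.1, 0) := Prod.ext rfl (mem_G0.mp hx)
      rw [hx']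
      apply mem_DI.mp
      rw [htop]
      trivial
    · exact (LinearEquiv.finrank_map_eq g G0).symm
  have hEne : ∃ e ∈ E, e ≠ 0 := by
    by_contra hcon
    push Not at hcon
    have hEbot : E = ⊥ := by
      rw [eq_bot_iff]
      intro e he
      exact (Submodule.mem_bot F).mpr (hcon e he)
    have h1 := finrank_orthS hβ hN (DI g)
    rw [← hE, hEbot, finrank_bot, add_zero] at h1
    exact hDtop (Submodule.eq_top_of_finrank_eq h1)
  obtain ⟨e1, he1E, he10⟩ := hEne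
  -- a partner `e2 ∈ E` with `β e1 e2 ≠ 0`
  have hpart : ∃ e2 ∈ E, β e1 e2 ≠ 0 := by
    by_contra hcon
    push Not at hcon
    -- then `e1 ∈ orthS β E = D`
    have h1 : e1 ∈ orthS β E := by
      rw [mem_orthS' hβ]
      exact hcon
    rw [hE, orthS_orthS hβ hN] at h1
    exact he10 (hDE e1 h1 he1E)
  obtain ⟨e2, he2E, he12⟩ := hpart
  -- adjust to nonzero trace
  obtain ⟨θ, hθ⟩ := exists_tr_ne_zero hσ
  set l : F := θ / β e1 e2 with hl
  have hle : β (l • e1) e2 = θ := by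
    rw [map_smul, LinearMap.smul_apply, smul_eq_mul, hl, div_mul_cancel₀ _ he12]
  have hl1E : l • e1 ∈ E := E.smul_mem l he1E
  obtain ⟨⟨z, hzE⟩, hz⟩ := hψEsurj ⟨l • e1, hl1E⟩
  obtain ⟨⟨z', hz'E⟩, hz'⟩ := hψEsurj ⟨e2, he2E⟩
  have hψz : ψ z = l • e1 := by
    have := congrArg Subtype.val hz
    simpa [ψE] using this
  have hψz' : ψ z' = e2 := by
    have := congrArg Subtype.val hz'
    simpa [ψE] using this
  -- the commutator
  have hconjM : ∀ c : F, σ c = -c → g * ux (c • (LinearMap.id : W →ₗ[F] W)) * g⁻¹ ∈ M :=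
    fun c hc => M.mul_mem (M.mul_mem hg (hM.ux_mem c hc)) (M.inv_mem hg)
  refine ⟨ux (t • (LinearMap.id : W →ₗ[F] W)) *
      (g * ux (t • (LinearMap.id : W →ₗ[F] W)) * g⁻¹) *
      ux ((-t) • (LinearMap.id : W →ₗ[F] W)) *
      (g * ux ((-t) • (LinearMap.id : W →ₗ[F] W)) * g⁻¹),
    M.mul_mem (M.mul_mem (M.mul_mem (hM.ux_mem t ht) (hconjM t ht)) (hM.ux_mem (-t) htn))
      (hconjM (-t) htn),
    ?_, z, z', (hEmem z).mp hzE, (hEmem z').mp hz'E, ?_⟩
  · intro u hu u' hu'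
    have e : ∀ (a b c d : (W × W) ≃ₗ[F] (W × W)) (x : W × W),
        (a * b * c * d) x = a (b (c (d x))) := fun _ _ _ _ _ => rfl
    rw [e, hν (-t) htn u hu u' hu']
    have hw : u + (-t * ν) • u' - t • u' ∈ DI g :=
      (DI g).sub_mem ((DI g).add_mem hu ((DI g).smul_mem _ hu')) ((DI g).smul_mem _ hu')
    have e1 : ux ((-t) • (LinearMap.id : W →ₗ[F] W)) (u + (-t * ν) • u', u') =
        (u + (-t * ν) • u' - t • u', u') := by
      rw [ux_apply]
      ext
      · simp [sub_eq_add_neg]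
      · rfl
    rw [e1, hν t ht _ hw u' hu', ux_apply]
    ext
    · simp only [LinearMap.smul_apply, LinearMap.id_apply]
      module
    · rfl
  · rw [kappa_inv_t g t, kappa_apply_t g t (z, 0) rfl, kappa_inv_apply_t g t (z', 0) rfl]
    have hA1 : ∀ v : W, Amap F W (Cmap g (v, 0)) = (ψ v, 0) := fun v => rfl
    have hA2 : ∀ v : W, (Cmap g (ψ v, 0)).2 = ψ (ψ v) := fun v => rfl
    have hx1 : ((z', (0 : W)) - (t * t) • Amap F W (Cmap g (z', 0)) -
        (t * t * t) • Cmap g (Amap F W (Cmap g (z', 0)))).2 = -((t * t * t) • ψ (ψ z')) := by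
      rw [hA1]
      simp only [Prod.snd_sub, Prod.smul_snd, hA2, smul_zero, sub_zero, zero_sub]
    have hx2 : ((z, (0 : W)) + (t * t) • Amap F W (Cmap g (z, 0)) +
        (t * t * t) • Cmap g (Amap F W (Cmap g (z, 0))) +
        (t * t * t * t) • Amap F W (Cmap g (Amap F W (Cmap g (z, 0))))).2 =
        (t * t * t) • ψ (ψ z) := by
      rw [hA1]
      simp only [Prod.snd_add, Prod.smul_snd, hA2, Amap_apply, smul_zero, add_zero, zero_add]
    rw [hx1, hx2, map_neg, LinearMap.neg_apply, map_smul, map_smul, LinearMap.smul_apply,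
      LinearMap.smul_apply, smul_eq_mul, smul_eq_mul, hψsa, hψsa (ψ z), hψz, hψz']
    have h5 : β e2 (l • e1) = σ θ := by rw [hβ, hle]
    rw [h5, hle]
    intro hcon
    apply hθ
    have h6 : (t * t * t) * (θ + σ θ) = 0 := by linear_combination -hcon
    rcases mul_eq_zero.mp h6 with h | h
    · exfalso
      rcases mul_eq_zero.mp h with h | h
      · rcases mul_eq_zero.mp h with h | h <;> exact ht0 h
      · exact ht0 h
    · exact h

end Cfsg.Agent.Lib.Helper69_UT2_KAP2U
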