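import Mathlib
import Cfsg.Agent.Lib.Helper67_UT2Defs
import Cfsg.Agent.Lib.Helper82_T2_KR

set_option autoImplicit false
set_option linter.unusedSectionVars false
set_option linter.unusedVariables false

/-!
# UTENS2 package ORBU, auxiliary form (helper71, for helper67): the statement of LAGU
(`lag_fibre`) is a hypothesis `hLAG`.  The final `orbu` is
`orbu_aux hσ hβ hN h3 (fun L hL hinv => <LAGU>.lag_fibre hσ hβ hN h3 L hL hinv) M hM hST g0 hg0 hnk`.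
-/

open Module
open Cfsg.Agent.Lib.Helper94_Symp Cfsg.Agent.Lib.Helper94_Herm Cfsg.Agent.Lib.Helper13_PSUSimple
  Cfsg.Agent.Lib.Helper94_FrmDefs Cfsg.Agent.Lib.Helper94_HermEich
  Cfsg.Agent.Lib.Helper67_Tens2Defs Cfsg.Agent.Lib.Helper67_UT2Defs

namespace Cfsg.Agent.Lib.Helper71_UT2_ORBUa

variable {F W : Type*} [Field F] [Finite F] [AddCommGroup W] [Module F W] [FiniteDimensional F W]
variable {σ : F →+* F} {β : W →ₗ[F] W →ₛₗ[σ] F}

theorem G0_eq_range : (G0 : Submodule F (W × W)) = LinearMap.range (LinearMap.inl F W W) := by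
  ext x
  rw [mem_G0, LinearMap.mem_range]
  constructor
  · intro h
    exact ⟨x.1, Prod.ext rfl h.symm⟩
  · rintro ⟨u, rfl⟩
    rfl

theorem finrank_G0 : finrank F (G0 : Submodule F (W × W)) = finrank F W := by
  rw [G0_eq_range]
  exact LinearMap.finrank_range_of_inj LinearMap.inl_injective

theorem finrank_Lg (g : (W × W) ≃ₗ[F] (W × W)) : finrank F (Lg g) = finrank F W := by
  unfold Lg
  rw [LinearEquiv.finrank_map_eq, finrank_G0]

theorem Lg_isotropic (g : (W × W) ≃ₗ[F] (W × W)) (hg : g ∈ uG (uf β)) :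
    ∀ x ∈ Lg g, ∀ y ∈ Lg g, uf β x y = 0 := by
  intro x hx y hy
  obtain ⟨u, rfl⟩ := mem_Lg.mp hx
  obtain ⟨v, rfl⟩ := mem_Lg.mp hy
  rw [(mem_uG (uf β)).mp hg]
  simp

theorem isKron2_jU' (s : Fˣ) : IsKron2 (jU s : (W × W) ≃ₗ[F] (W × W)) := by
  refine ⟨!![0, (s : F); -((s⁻¹ : Fˣ) : F), 0], LinearMap.id, ?_⟩
  intro u u'
  simp [jU_apply]

/-- if `k G0 = g0 G0` with `k` Kronecker in `M` then `g0` is Kronecker -/
theorem kron_of_same_image
    (M : Subgroup ((W × W) ≃ₗ[F] (W × W)))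
    (hST : ∀ h ∈ M, (∀ x ∈ (G0 : Submodule F (W × W)), h x ∈ (G0 : Submodule F (W × W))) →
      IsKron2 h)
    (g0 k : (W × W) ≃ₗ[F] (W × W)) (hg0 : g0 ∈ M) (hk : k ∈ M) (hkK : IsKron2 k)
    (himg : ∀ x ∈ Lg g0, (k⁻¹ x).2 = 0) : IsKron2 g0 := by
  have h1 : IsKron2 (k⁻¹ * g0) := by
    apply hST _ (M.mul_mem (M.inv_mem hk) hg0)
    intro x hx
    rw [mem_G0, LinearEquiv.mul_apply]
    apply himg
    exact ⟨x, hx, rfl⟩
  have h2 : g0 = k * (k⁻¹ * g0) := by group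
  rw [h2]
  exact Cfsg.Agent.Lib.Helper82_T2_KR.isKron2_mul k (k⁻¹ * g0) hkK h1

/-- ORBU with the statement of LAGU as a hypothesis -/
theorem orbu_aux (hσ : Invol σ) (hβ : IsHerm β) (hN : NondegOn β ⊤) (h3 : 3 ≤ finrank F W)
    (hLAG : ∀ L : Submodule F (W × W), finrank F L = finrank F W →
      (∀ y : W, β y y = 0 → ∀ s : F, σ s = -s → ∀ x ∈ L, oE (utv β y s) x ∈ L) →
      ∃ a c : F, (a ≠ 0 ∨ c ≠ 0) ∧ ∀ x : W × W, x ∈ L ↔ ∃ u : W, x = (a • u, c • u))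
    (M : Subgroup ((W × W) ≃ₗ[F] (W × W))) (hM : HypU β M)
    (hST : ∀ h ∈ M, (∀ x ∈ (G0 : Submodule F (W × W)), h x ∈ (G0 : Submodule F (W × W))) →
      IsKron2 h)
    (g0 : (W × W) ≃ₗ[F] (W × W)) (hg0 : g0 ∈ M) (hnk : ¬ IsKron2 g0) :
    ∃ (y : W) (s : F), β y y = 0 ∧ σ s = -s ∧
      ¬ ∀ x ∈ Lg g0, oE (utv β y s) x ∈ Lg g0 := by
  by_contra hcon
  push Not at hcon
  apply hnk
  have hinv : ∀ y : W, β y y = 0 → ∀ s : F, σ s = -s → ∀ x ∈ Lg g0,
      oE (utv β y s) x ∈ Lg g0 := fun y hy s hs => hcon y s hy hs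
  obtain ⟨a, c, hac, hL⟩ := hLAG (Lg g0) (finrank_Lg g0) hinv
  have hiso := Lg_isotropic (β := β) g0 (mem_SUg.mp (hM.le hg0)).1
  -- `a σ c + c σ a = 0`
  have hW : ∃ v : W, v ≠ 0 := by
    have : 0 < finrank F W := by omega
    have : Nontrivial W := Module.finrank_pos_iff.mp this
    exact exists_ne 0
  obtain ⟨v, hv⟩ := hW
  obtain ⟨w, -, hvw⟩ := hN v trivial hv
  have hrel : a * σ c + c * σ a = 0 := by
    have h1 := hiso (a • v, c • v) ((hL _).mpr ⟨v, rfl⟩) (a • w, c • w) ((hL _).mpr ⟨w, rfl⟩)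
    simp only [uf_apply, map_smul, map_smulₛₗ, LinearMap.smul_apply, smul_eq_mul] at h1
    have h2 : (a * σ c + c * σ a) * β v w = 0 := by linear_combination h1
    exact (mul_eq_zero.mp h2).resolve_right hvw
  by_cases ha : a = 0
  · -- `L = 0 × W`, `k = jU s`
    obtain ⟨ζ, hζ0, hζ⟩ := exists_skew hσ
    apply kron_of_same_image M hST g0 (jU (Units.mk0 ζ hζ0)) hg0
      (hM.jU_mem (Units.mk0 ζ hζ0) (by simpa using hζ)) (isKron2_jU' _)
    intro x hx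
    obtain ⟨u, rfl⟩ := (hL x).mp hx
    have e : (jU (Units.mk0 ζ hζ0) : (W × W) ≃ₗ[F] (W × W))⁻¹ (a • u, c • u) =
        (-((Units.mk0 ζ hζ0 : F) • (c • u)), (((Units.mk0 ζ hζ0)⁻¹ : Fˣ) : F) • (a • u)) := by
      rfl
    rw [e, ha, zero_smul, smul_zero]
  · -- `k = lx ((c / a) • 1)`
    have hσa : σ a ≠ 0 := (map_ne_zero σ).mpr ha
    have hsk : σ (c / a) = -(c / a) := by
      rw [map_div₀]
      field_simp
      linear_combination hrel
    apply kron_of_same_image M hST g0 (lx ((c / a) • (LinearMap.id : W →ₗ[F] W))) hg0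
      (hM.lx_mem _ hsk) (Cfsg.Agent.Lib.Helper82_T2_KR.isKron2_lx _)
    intro x hx
    obtain ⟨u, rfl⟩ := (hL x).mp hx
    have e : (lx ((c / a) • (LinearMap.id : W →ₗ[F] W)))⁻¹ (a • u, c • u) =
        (a • u, c • u - ((c / a) • (LinearMap.id : W →ₗ[F] W)) (a • u)) := by
      rfl
    rw [e]
    simp only [LinearMap.smul_apply, LinearMap.id_coe, id_eq, smul_smul]
    rw [div_mul_cancel₀ c ha, sub_self]

end Cfsg.Agent.Lib.Helper71_UT2_ORBUa
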