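import Mathlib
import Cfsg.Agent.Lib.Helper67_UT2Defs
import Cfsg.Agent.Lib.Helper82_T2_KR
import Cfsg.Agent.Lib.Helper71_UT2_ORBUa
import Cfsg.Agent.Lib.Helper41_UT2_LAGU

set_option autoImplicit false
set_option linter.unusedSectionVars false
set_option linter.unusedVariables false

/-!
# UTENS2 package ORBU (helper71, for helper67): a non-Kronecker `g0 ∈ M` moves `G0` to a subspace
not stabilised by some `1 ⊗ (unitary transvection)`.  `Helper71_UT2_ORBUa.orbu_aux` + LAGU (helper41).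
-/

open Module
open Cfsg.Agent.Lib.Helper94_Symp Cfsg.Agent.Lib.Helper94_Herm Cfsg.Agent.Lib.Helper13_PSUSimple
  Cfsg.Agent.Lib.Helper94_FrmDefs Cfsg.Agent.Lib.Helper94_HermEich
  Cfsg.Agent.Lib.Helper67_Tens2Defs Cfsg.Agent.Lib.Helper67_UT2Defs

namespace Cfsg.Agent.Lib.Helper71_UT2_ORBU

variable {F W : Type*} [Field F] [Finite F] [AddCommGroup W] [Module F W] [FiniteDimensional F W]
variable {σ : F →+* F} {β : W →ₗ[F] W →ₛₗ[σ] F}

/-- ORBU : a non-Kronecker `g0 ∈ M` moves `G0` to a subspace not stabilised by some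
`1 ⊗ (unitary transvection)` -/
theorem orbu (hσ : Invol σ) (hβ : IsHerm β) (hN : NondegOn β ⊤) (h3 : 3 ≤ finrank F W)
    (M : Subgroup ((W × W) ≃ₗ[F] (W × W))) (hM : HypU β M)
    (hST : ∀ h ∈ M, (∀ x ∈ (G0 : Submodule F (W × W)), h x ∈ (G0 : Submodule F (W × W))) →
      IsKron2 h)
    (g0 : (W × W) ≃ₗ[F] (W × W)) (hg0 : g0 ∈ M) (hnk : ¬ IsKron2 g0) :
    ∃ (y : W) (s : F), β y y = 0 ∧ σ s = -s ∧
      ¬ ∀ x ∈ Lg g0, oE (utv β y s) x ∈ Lg g0 :=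
  Cfsg.Agent.Lib.Helper71_UT2_ORBUa.orbu_aux hσ hβ hN h3
    (fun L hL hinv => Cfsg.Agent.Lib.Helper41_UT2_LAGU.lag_fibre hσ hβ hN h3 L hL hinv)
    M hM hST g0 hg0 hnk

end Cfsg.Agent.Lib.Helper71_UT2_ORBU
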