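import Mathlib
import Cfsg.Agent.Lib.Helper67_UT2Defs
import Cfsg.Agent.Lib.Helper82_T2_KR

set_option autoImplicit false
set_option linter.unusedSectionVars false
set_option linter.unusedVariables false

/-!
# UTENS2 package SEMIU, auxiliary form (helper71, for helper67): the statements of NEXA
(`kron_quad`), NEXB (`nex_linear`) and NEXC (`nex_rank`) are hypotheses.  The final `semiu` is
```
semiu_aux hσ hβ hN h3 hq
  (fun h hk h0 hsq => <NEXA>.kron_quad h hk h0 hsq)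
  (fun n'' hfam => <NEXB>.nex_linear hσ hq n'' hfam)
  M hM hR
  (fun g hg X hX0 hXX hX => <NEXC>.nex_rank hσ hβ hN h3 hq M hM hR g hg X hX0 hXX hX)
  hST g hg hstab
```
-/

open Module
open Cfsg.Agent.Lib.Helper94_Symp Cfsg.Agent.Lib.Helper94_Herm Cfsg.Agent.Lib.Helper13_PSUSimple
  Cfsg.Agent.Lib.Helper94_FrmDefs Cfsg.Agent.Lib.Helper94_HermEich
  Cfsg.Agent.Lib.Helper67_Tens2Defs Cfsg.Agent.Lib.Helper67_UT2Defs

namespace Cfsg.Agent.Lib.Helper71_UT2_SEMIUa

variable {F W : Type*} [Field F] [Finite F] [AddCommGroup W] [Module F W] [FiniteDimensional F W]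
variable {σ : F →+* F} {β : W →ₗ[F] W →ₛₗ[σ] F}

/-- the nilpotent `n : (u, u') ↦ (u', 0)` -/
def n0 : (W × W) →ₗ[F] (W × W) := (LinearMap.inl F W W) ∘ₗ (LinearMap.snd F W W)

theorem n0_apply (x : W × W) : (n0 : (W × W) →ₗ[F] (W × W)) x = (x.2, 0) := rfl

/-- `g⁻¹ n g` -/
def ncj (g : (W × W) ≃ₗ[F] (W × W)) : (W × W) →ₗ[F] (W × W) :=
  (g⁻¹ : (W × W) ≃ₗ[F] (W × W)).toLinearMap ∘ₗ n0 ∘ₗ g.toLinearMap

theorem ncj_apply (g : (W × W) ≃ₗ[F] (W × W)) (x : W × W) :
    ncj g x = g⁻¹ (((g x).2, (0 : W))) := rfl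

theorem conj_ux_apply (g : (W × W) ≃ₗ[F] (W × W)) (c : F) (x : W × W) :
    (g⁻¹ * ux (c • (LinearMap.id : W →ₗ[F] W)) * g) x = x + c • ncj g x := by
  rw [LinearEquiv.mul_apply, LinearEquiv.mul_apply, ux_apply, ncj_apply]
  have e : ((g x).1 + (c • (LinearMap.id : W →ₗ[F] W)) (g x).2, (g x).2) =
      g x + c • (((g x).2, (0 : W)) : W × W) := by
    ext
    · simp
    · simp
  rw [e, map_add, map_smul, inv_apply_apply']

/-- SEMIU with the statements of NEXA, NEXB, NEXC as hypotheses -/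
theorem semiu_aux (hσ : Invol σ) (hβ : IsHerm β) (hN : NondegOn β ⊤) (h3 : 3 ≤ finrank F W)
    (hq : ∃ a : F, σ a = a ∧ a ≠ 0 ∧ a ≠ 1)
    (hNEXA : ∀ h : (W × W) ≃ₗ[F] (W × W), IsKron2 h →
      (∀ x ∈ (G0 : Submodule F (W × W)), h x ∈ (G0 : Submodule F (W × W))) →
      (∀ x, h (h x) - h x = h x - x) →
      ∃ (τ : F) (N : W →ₗ[F] W), (∀ u, N (N u) = 0) ∧ (∀ u, (2 * τ) • N u = 0) ∧
        ∀ u u' : W, h (u, u') = (u + N u + τ • (u' + N u'), u' + N u'))
    (hNEXB : ∀ n'' : (W × W) →ₗ[F] (W × W),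
      (∀ c : F, σ c = -c → ∃ (τ : F) (N : W →ₗ[F] W), (∀ u, N (N u) = 0) ∧
        (∀ u, (2 * τ) • N u = 0) ∧
        ∀ u u' : W, (u, u') + c • n'' (u, u') = (u + N u + τ • (u' + N u'), u' + N u')) →
      (∃ y₀ : F, ∀ u u' : W, n'' (u, u') = (y₀ • u', 0)) ∨
      (∃ X : W →ₗ[F] W, X ≠ 0 ∧ (∀ u, X (X u) = 0) ∧ ∀ u u' : W, n'' (u, u') = (X u, X u')))
    (M : Subgroup ((W × W) ≃ₗ[F] (W × W))) (hM : HypU β M) (hR : RadStdU M)
    (hNEXC : ∀ g : (W × W) ≃ₗ[F] (W × W), g ∈ M → ∀ X : W →ₗ[F] W, X ≠ 0 →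
      (∀ u, X (X u) = 0) →
      (∀ c : F, σ c = -c → ∀ u u' : W,
        (g⁻¹ * ux (c • (LinearMap.id : W →ₗ[F] W)) * g) (u, u') =
          (u + c • X u, u' + c • X u')) → False)
    (hST : ∀ h ∈ M, (∀ x ∈ (G0 : Submodule F (W × W)), h x ∈ (G0 : Submodule F (W × W))) →
      IsKron2 h)
    (g : (W × W) ≃ₗ[F] (W × W)) (hg : g ∈ M)
    (hstab : ∀ c : F, σ c = -c → ∀ x ∈ Lg g, ux (c • (LinearMap.id : W →ₗ[F] W)) x ∈ Lg g) :
    Lg g = (G0 : Submodule F (W × W)) := by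
  -- the family `h_c`
  have hfam : ∀ c : F, σ c = -c → ∃ (τ : F) (N : W →ₗ[F] W), (∀ u, N (N u) = 0) ∧
      (∀ u, (2 * τ) • N u = 0) ∧
      ∀ u u' : W, (u, u') + c • ncj g (u, u') = (u + N u + τ • (u' + N u'), u' + N u') := by
    intro c hc
    have hhM : g⁻¹ * ux (c • (LinearMap.id : W →ₗ[F] W)) * g ∈ M :=
      M.mul_mem (M.mul_mem (M.inv_mem hg) (hM.ux_mem c hc)) hg
    have h1 : ∀ x ∈ (G0 : Submodule F (W × W)),
        (g⁻¹ * ux (c • (LinearMap.id : W →ₗ[F] W)) * g) x ∈ (G0 : Submodule F (W × W)) := by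
      intro x hx
      have hgx : g x ∈ Lg g := by
        obtain ⟨u', hu'⟩ : ∃ u' : W, x = (u', 0) := ⟨x.1, Prod.ext rfl (mem_G0.mp hx)⟩
        rw [hu']
        exact mem_Lg.mpr ⟨u', rfl⟩
      have := hstab c hc (g x) hgx
      rw [mem_Lg'] at this
      rw [mem_G0]
      exact this
    have hnn : ∀ x : W × W, ncj g (ncj g x) = 0 := by
      intro x
      rw [ncj_apply g (ncj g x), ncj_apply g x, apply_inv_apply']
      exact map_zero _
    have h4 : ∀ x, (g⁻¹ * ux (c • (LinearMap.id : W →ₗ[F] W)) * g)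
        ((g⁻¹ * ux (c • (LinearMap.id : W →ₗ[F] W)) * g) x) -
          (g⁻¹ * ux (c • (LinearMap.id : W →ₗ[F] W)) * g) x =
        (g⁻¹ * ux (c • (LinearMap.id : W →ₗ[F] W)) * g) x - x := by
      intro x
      rw [conj_ux_apply g c (_), conj_ux_apply g c x, map_add, map_smul, hnn, smul_zero,
        add_zero]
      abel
    obtain ⟨τ, N, hNN, h2τ, hform⟩ := hNEXA _ (hST _ hhM h1) h1 h4
    refine ⟨τ, N, hNN, h2τ, ?_⟩
    intro u u'
    rw [← hform, conj_ux_apply]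
  have hW : ∃ v : W, v ≠ 0 := by
    have : 0 < finrank F W := by omega
    have : Nontrivial W := Module.finrank_pos_iff.mp this
    exact exists_ne 0
  obtain ⟨v, hv⟩ := hW
  rcases hNEXB (ncj g) hfam with ⟨y₀, hy₀⟩ | ⟨X, hX0, hXX, hX⟩
  · -- `n g = y₀ g n`
    have hrel : ∀ x : W × W, (((g x).2, (0 : W)) : W × W) = y₀ • g ((x.2, (0 : W))) := by
      intro x
      have h := hy₀ x.1 x.2
      rw [ncj_apply] at h
      have h' := congrArg g h
      rw [apply_inv_apply'] at h'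
      rw [h', ← map_smul]
      congr 1
      ext
      · simp
      · simp
    have hy0 : y₀ ≠ 0 := by
      rintro rfl
      have h := hrel (g⁻¹ (0, v))
      rw [apply_inv_apply', zero_smul] at h
      exact hv (congrArg Prod.fst h)
    have hiff : ∀ x : W × W,
        g x ∈ (G0 : Submodule F (W × W)) ↔ x ∈ (G0 : Submodule F (W × W)) := by
      intro x
      rw [mem_G0, mem_G0]
      constructor
      · intro hx
        have h := hrel x
        rw [hx] at h
        have h0 : g ((x.2, (0 : W))) = 0 := by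
          have h' : y₀ • g ((x.2, (0 : W))) = 0 := h.symm
          exact (smul_eq_zero.mp h').resolve_left hy0
        have h1 : ((x.2, (0 : W)) : W × W) = 0 := by
          have := congrArg (g⁻¹ : (W × W) ≃ₗ[F] (W × W)) h0
          rwa [inv_apply_apply', map_zero] at this
        exact congrArg Prod.fst h1
      · intro hx
        have h := hrel x
        rw [hx] at h
        have h1 : (((0 : W), (0 : W)) : W × W) = 0 := rfl
        rw [h1, map_zero, smul_zero] at h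
        exact congrArg Prod.fst h
    ext x
    constructor
    · intro hx
      obtain ⟨u', rfl⟩ := mem_Lg.mp hx
      rw [hiff]
      rfl
    · intro hx
      rw [mem_Lg']
      have h7 : g⁻¹ x ∈ (G0 : Submodule F (W × W)) := by
        rw [← hiff, apply_inv_apply']
        exact hx
      exact mem_G0.mp h7
  · exfalso
    apply hNEXC g hg X hX0 hXX
    intro c hc u u'
    rw [conj_ux_apply, hX]
    ext
    · simp
    · simp

end Cfsg.Agent.Lib.Helper71_UT2_SEMIUa
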