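import Mathlib
import Cfsg.Agent.Lib.Helper67_UT2Defs
import Cfsg.Agent.Lib.Helper82_T2_KR

set_option autoImplicit false
set_option linter.unusedSectionVars false
set_option linter.unusedVariables false

/-!
# UTENS2 package NEXB (architect helper67, formaliser helper78)

A family `1 + c n''` (`c` skew) of the shape of NEXA, LINEAR in `c`: `n''` is `y₀ • n` (`n (u, u') = (u', 0)`) or
`X × X` with `X ≠ 0`, `X² = 0`.
-/

open Module
open Cfsg.Agent.Lib.Helper94_Symp Cfsg.Agent.Lib.Helper94_Herm Cfsg.Agent.Lib.Helper13_PSUSimple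
  Cfsg.Agent.Lib.Helper94_FrmDefs Cfsg.Agent.Lib.Helper94_HermEich
  Cfsg.Agent.Lib.Helper67_Tens2Defs Cfsg.Agent.Lib.Helper67_UT2Defs

namespace Cfsg.Agent.Lib.Helper78_UT2_NEXB

variable {F W : Type*} [Field F] [Finite F] [AddCommGroup W] [Module F W] [FiniteDimensional F W]
variable {σ : F →+* F} {β : W →ₗ[F] W →ₛₗ[σ] F}

/-- NEXB : a family `1 + c n''` (`c` skew) of that shape, LINEAR in `c`: `n''` is `y₀ • n` or
`X × X` -/
theorem nex_linear (hσ : Invol σ) (hq : ∃ a : F, σ a = a ∧ a ≠ 0 ∧ a ≠ 1)
    (n'' : (W × W) →ₗ[F] (W × W))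
    (hfam : ∀ c : F, σ c = -c → ∃ (τ : F) (N : W →ₗ[F] W), (∀ u, N (N u) = 0) ∧
      (∀ u, (2 * τ) • N u = 0) ∧
      ∀ u u' : W, (u, u') + c • n'' (u, u') = (u + N u + τ • (u' + N u'), u' + N u')) :
    (∃ y₀ : F, ∀ u u' : W, n'' (u, u') = (y₀ • u', 0)) ∨
    (∃ X : W →ₗ[F] W, X ≠ 0 ∧ (∀ u, X (X u) = 0) ∧ ∀ u u' : W, n'' (u, u') = (X u, X u')) := by
  obtain ⟨c1, hc10, hc1⟩ := exists_skew hσ
  obtain ⟨a, ha, ha0, ha1⟩ := hq
  -- the blocks of `n''`
  set X : W →ₗ[F] W := (LinearMap.fst F W W) ∘ₗ n'' ∘ₗ (LinearMap.inl F W W) with hX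
  set Y : W →ₗ[F] W := (LinearMap.fst F W W) ∘ₗ n'' ∘ₗ (LinearMap.inr F W W) with hY
  have hXa : ∀ u : W, X u = (n'' (u, 0)).1 := fun u => rfl
  have hYa : ∀ u : W, Y u = (n'' (0, u)).1 := fun u => rfl
  -- the consequences of the shape for one skew `c`
  have key : ∀ c : F, σ c = -c → ∃ τ : F,
      (∀ u : W, c • (n'' (u, 0)).2 = 0) ∧
      (∀ u : W, c • (n'' (0, u)).2 = c • X u) ∧
      (∀ u : W, (c * c) • X (X u) = 0) ∧
      (∀ u : W, c • Y u = τ • (u + c • X u)) := by
    intro c hc
    obtain ⟨τ, N, hNN, -, hsh⟩ := hfam c hc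
    have hN : ∀ u : W, N u = c • X u := by
      intro u
      have := congrArg Prod.fst (hsh u 0)
      simp only [Prod.fst_add, Prod.smul_fst, map_zero, add_zero, smul_zero] at this
      rw [hXa]
      exact (add_left_cancel this).symm
    refine ⟨τ, ?_, ?_, ?_, ?_⟩
    · intro u
      have := congrArg Prod.snd (hsh u 0)
      simp only [Prod.snd_add, Prod.smul_snd, map_zero, add_zero, zero_add] at this
      exact this
    · intro u
      have := congrArg Prod.snd (hsh 0 u)
      simp only [Prod.snd_add, Prod.smul_snd] at this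
      rw [← hN]
      exact add_left_cancel this
    · intro u
      have := hNN u
      rw [hN, hN, map_smul, smul_smul] at this
      exact this
    · intro u
      have := congrArg Prod.fst (hsh 0 u)
      simp only [Prod.fst_add, Prod.smul_fst, map_zero, add_zero, zero_add] at this
      rw [hYa, this, hN]
  -- the skew element `c1`
  obtain ⟨τ1, k1, k2, k3, k4⟩ := key c1 hc1
  have h20 : ∀ u : W, (n'' (u, 0)).2 = 0 := by
    intro u
    rcases smul_eq_zero.mp (k1 u) with h | h
    · exact absurd h hc10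
    · exact h
  have h22 : ∀ u : W, (n'' (0, u)).2 = X u := by
    intro u
    have := k2 u
    exact smul_right_injective W hc10 this
  have hXX : ∀ u : W, X (X u) = 0 := by
    intro u
    rcases smul_eq_zero.mp (k3 u) with h | h
    · exact absurd h (mul_ne_zero hc10 hc10)
    · exact h
  have hform : ∀ u u' : W, n'' (u, u') = (X u + Y u', X u') := by
    intro u u'
    have e : ((u, u') : W × W) = (u, 0) + (0, u') := by simp
    rw [e, map_add]
    apply Prod.ext
    · simp only [Prod.fst_add]
      rw [← hXa, ← hYa]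
    · simp only [Prod.snd_add]
      rw [h20, h22, zero_add]
  by_cases hX0 : X = 0
  · left
    refine ⟨c1⁻¹ * τ1, ?_⟩
    intro u u'
    rw [hform, hX0]
    simp only [LinearMap.zero_apply, zero_add]
    have := k4 u'
    rw [hX0] at this
    simp only [LinearMap.zero_apply, smul_zero, add_zero] at this
    have e : Y u' = c1⁻¹ • (c1 • Y u') := by rw [smul_smul, inv_mul_cancel₀ hc10, one_smul]
    rw [e, this, smul_smul]
  · right
    refine ⟨X, hX0, hXX, ?_⟩
    -- a vector not killed by `X`
    obtain ⟨w, hw⟩ : ∃ w : W, X w ≠ 0 := by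
      by_contra hcon
      apply hX0
      apply LinearMap.ext
      intro w
      by_contra hw
      exact hcon ⟨w, hw⟩
    -- the second skew element
    have hc2 : σ (a * c1) = -(a * c1) := by rw [map_mul, ha, hc1]; ring
    obtain ⟨τ2, -, -, -, m4⟩ := key (a * c1) hc2
    -- the comparison
    have hcmp : ∀ u : W, (a * τ1 - τ2) • u + (a * τ1 * c1 - τ2 * (a * c1)) • X u = 0 := by
      intro u
      have e1 := k4 u
      have e2 := m4 u
      have e3 : (a * c1) • Y u = a • (c1 • Y u) := by rw [smul_smul]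
      rw [e3, e1] at e2
      have : a • τ1 • (u + c1 • X u) - τ2 • (u + (a * c1) • X u) = 0 := by rw [e2]; abel
      rw [← this]
      module
    have hτ2 : τ2 = a * τ1 := by
      have := hcmp (X w)
      rw [hXX, smul_zero, add_zero] at this
      rcases smul_eq_zero.mp this with h | h
      · exact (sub_eq_zero.mp h).symm
      · exact absurd h hw
    have hτ1 : τ1 = 0 := by
      have := hcmp w
      rw [hτ2, sub_self, zero_smul, zero_add] at this
      rcases smul_eq_zero.mp this with h | h
      · have h' : a * c1 * (1 - a) * τ1 = 0 := by linear_combination h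
        rcases mul_eq_zero.mp h' with h'' | h''
        · rcases mul_eq_zero.mp h'' with h3 | h3
          · exact absurd h3 (mul_ne_zero ha0 hc10)
          · exact absurd (sub_eq_zero.mp h3).symm ha1
        · exact h''
      · exact absurd h hw
    have hY0 : ∀ u : W, Y u = 0 := by
      intro u
      have := k4 u
      rw [hτ1, zero_smul] at this
      rcases smul_eq_zero.mp this with h | h
      · exact absurd h hc10
      · exact h
    intro u u'
    rw [hform, hY0, add_zero]

end Cfsg.Agent.Lib.Helper78_UT2_NEXB
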