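import Mathlib
import Cfsg.Agent.Lib.Helper67_UT2Defs
import Cfsg.Agent.Lib.Helper82_T2_KR
import Cfsg.Agent.Lib.Helper71_UT2_SEMIUa
import Cfsg.Agent.Lib.Helper78_UT2_NEXA
import Cfsg.Agent.Lib.Helper78_UT2_NEXB
import Cfsg.Agent.Lib.Helper69_UT2_NEXC

set_option autoImplicit false
set_option linter.unusedSectionVars false
set_option linter.unusedVariables false

/-!
# UTENS2 package SEMIU (helper71, for helper67): if ALL `ux (c • 1)`, `c` skew, stabilise `g G0`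
(`g ∈ M`) then `g G0 = G0`.  `Helper71_UT2_SEMIUa.semiu_aux` + NEXA, NEXB (helper78), NEXC (helper69).
-/

open Module
open Cfsg.Agent.Lib.Helper94_Symp Cfsg.Agent.Lib.Helper94_Herm Cfsg.Agent.Lib.Helper13_PSUSimple
  Cfsg.Agent.Lib.Helper94_FrmDefs Cfsg.Agent.Lib.Helper94_HermEich
  Cfsg.Agent.Lib.Helper67_Tens2Defs Cfsg.Agent.Lib.Helper67_UT2Defs

namespace Cfsg.Agent.Lib.Helper71_UT2_SEMIU

variable {F W : Type*} [Field F] [Finite F] [AddCommGroup W] [Module F W] [FiniteDimensional F W]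
variable {σ : F →+* F} {β : W →ₗ[F] W →ₛₗ[σ] F}

/-- SEMIU : if ALL `ux (c • 1)`, `c` skew, stabilise `g G0` (`g ∈ M`) then `g G0 = G0` -/
theorem semiu (hσ : Invol σ) (hβ : IsHerm β) (hN : NondegOn β ⊤) (h3 : 3 ≤ finrank F W)
    (hq : ∃ a : F, σ a = a ∧ a ≠ 0 ∧ a ≠ 1)
    (M : Subgroup ((W × W) ≃ₗ[F] (W × W))) (hM : HypU β M) (hR : RadStdU M)
    (hST : ∀ h ∈ M, (∀ x ∈ (G0 : Submodule F (W × W)), h x ∈ (G0 : Submodule F (W × W))) →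
      IsKron2 h)
    (g : (W × W) ≃ₗ[F] (W × W)) (hg : g ∈ M)
    (hstab : ∀ c : F, σ c = -c → ∀ x ∈ Lg g, ux (c • (LinearMap.id : W →ₗ[F] W)) x ∈ Lg g) :
    Lg g = (G0 : Submodule F (W × W)) :=
  Cfsg.Agent.Lib.Helper71_UT2_SEMIUa.semiu_aux hσ hβ hN h3 hq
    (fun h hk h0 hsq => Cfsg.Agent.Lib.Helper78_UT2_NEXA.kron_quad h hk h0 hsq)
    (fun n'' hfam => Cfsg.Agent.Lib.Helper78_UT2_NEXB.nex_linear hσ hq n'' hfam)
    M hM hR
    (fun g hg X hX0 hXX hX =>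
      Cfsg.Agent.Lib.Helper69_UT2_NEXC.nex_rank hσ hβ hN h3 hq M hM hR g hg X hX0 hXX hX)
    hST g hg hstab

end Cfsg.Agent.Lib.Helper71_UT2_SEMIU
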