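import Mathlib
import Cfsg.Agent.Lib.Helper67_UT2Defs
import Cfsg.Agent.Lib.Helper82_T2_KR

set_option autoImplicit false
set_option linter.unusedSectionVars false
set_option linter.unusedVariables false

/-!
# UTENS2 market (architect helper67), package GEN4

If the root groups of all `(w, 0)` and `(0, w)` lie in `M` then so do the root groups of all isotropic
vectors of `W × W` (closure of `UU` under hyperbolic lines, `UU_add`).
-/

open Module
open Cfsg.Agent.Lib.Helper94_Symp Cfsg.Agent.Lib.Helper94_Herm Cfsg.Agent.Lib.Helper13_PSUSimple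
  Cfsg.Agent.Lib.Helper94_FrmDefs Cfsg.Agent.Lib.Helper94_HermEich
  Cfsg.Agent.Lib.Helper67_Tens2Defs Cfsg.Agent.Lib.Helper67_UT2Defs
  Cfsg.Agent.Lib.Helper94_UDDefs

namespace Cfsg.Agent.Lib.Helper86_UT2_GEN4

variable {F W : Type*} [Field F] [Finite F] [AddCommGroup W] [Module F W] [FiniteDimensional F W]
variable {σ : F →+* F} {β : W →ₗ[F] W →ₛₗ[σ] F}

/-- the case `β u u' ≠ 0` -/
theorem uu_of_ne (hσ : Invol σ) (hβ : IsHerm β)
    (M : Subgroup ((W × W) ≃ₗ[F] (W × W))) (hM : M ≤ uG (uf β))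
    (hl : ∀ w : W, (w, (0 : W)) ∈ UU (uf β) M) (hr : ∀ w : W, ((0 : W), w) ∈ UU (uf β) M)
    (u u' : W) (hne : β u u' ≠ 0) (hiso : uf β (u, u') (u, u') = 0) :
    (u, u') ∈ UU (uf β) M := by
  have h1 : uf β (u, (0 : W)) ((0 : W), u') ≠ 0 := by
    simpa using hne
  have hsum : (u, (0 : W)) + ((0 : W), u') = (u, u') := by
    ext <;> simp
  have h2 : uf β ((u, (0 : W)) + ((0 : W), u')) ((u, (0 : W)) + ((0 : W), u')) = 0 := by
    rw [hsum]; exact hiso
  have := UU_add hσ (uf_isHerm hβ) hM (hl u) (hr u') h1 h2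
  rwa [hsum] at this

/-- GEN4 : every isotropic vector of `W × W` -/
theorem uu_all (hσ : Invol σ) (hβ : IsHerm β) (hN : NondegOn β ⊤)
    (M : Subgroup ((W × W) ≃ₗ[F] (W × W))) (hM : M ≤ uG (uf β))
    (hl : ∀ w : W, (w, (0 : W)) ∈ UU (uf β) M) (hr : ∀ w : W, ((0 : W), w) ∈ UU (uf β) M) :
    ∀ x : W × W, uf β x x = 0 → x ∈ UU (uf β) M := by
  rintro ⟨u, u'⟩ hx
  by_cases hne : β u u' = 0
  · by_cases hu : u = 0
    · rw [hu]
      exact hr u'
    · obtain ⟨w0, -, hw0⟩ := hN u trivial hu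
      obtain ⟨ζ, hζ0, hζ⟩ := exists_skew hσ
      set w : W := σ (ζ / β u w0) • w0 with hw
      have hbw : β u w = ζ := by
        rw [hw, map_smulₛₗ, hσ.invol, smul_eq_mul, div_mul_cancel₀ _ hw0]
      have hbw' : β w u = -ζ := by rw [hβ u w, hbw, hζ]
      have hbu'u : β u' u = 0 := by rw [hβ u u', hne, map_zero]
      -- first vector
      have hx1ne : β u (u' - w) ≠ 0 := by
        rw [map_sub, hne, hbw, zero_sub]
        exact neg_ne_zero.mpr hζ0
      have hx1iso : uf β (u, u' - w) (u, u' - w) = 0 := by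
        simp only [uf_apply, map_sub, LinearMap.sub_apply, hne, hbw, hbw', hbu'u]
        ring
      have hx1 := uu_of_ne hσ hβ M hM hl hr u (u' - w) hx1ne hx1iso
      have hx2 := hr w
      have h12 : uf β (u, u' - w) ((0 : W), w) ≠ 0 := by
        simp only [uf_apply, map_zero, add_zero, hbw]
        exact hζ0
      have hsum : (u, u' - w) + ((0 : W), w) = (u, u') := by
        ext <;> simp
      have h3 : uf β ((u, u' - w) + ((0 : W), w)) ((u, u' - w) + ((0 : W), w)) = 0 := by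
        rw [hsum]; exact hx
      have := UU_add hσ (uf_isHerm hβ) hM hx1 hx2 h12 h3
      rwa [hsum] at this
  · exact uu_of_ne hσ hβ M hM hl hr u u' hne hx

end Cfsg.Agent.Lib.Helper86_UT2_GEN4
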