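import Mathlib
import Cfsg.Agent.Lib.Helper67_UT2Defs
import Cfsg.Agent.Lib.Helper10_UT2_GEN1
import Cfsg.Agent.Lib.Helper10_UT2_RSA2
import Cfsg.Agent.Lib.Helper12_UT2_GEN3
import Cfsg.Agent.Lib.Helper2_UT2_ISOEX
import Cfsg.Agent.Lib.Helper2_UT2_SIEGU
import Cfsg.Agent.Lib.Helper31_UT2_RSA1
import Cfsg.Agent.Lib.Helper42_UT2_COMMU
import Cfsg.Agent.Lib.Helper42_UT2_KAP1U
import Cfsg.Agent.Lib.Helper53_UT2_ST2U
import Cfsg.Agent.Lib.Helper55_UT2_NDGU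
import Cfsg.Agent.Lib.Helper5_UT2_FINU
import Cfsg.Agent.Lib.Helper69_UT2_KAP2U
import Cfsg.Agent.Lib.Helper71_UT2_ORBU
import Cfsg.Agent.Lib.Helper71_UT2_SEMIU
import Cfsg.Agent.Lib.Helper86_UT2_GEN4
import Cfsg.Agent.Lib.Helper89_UT2_PAIRU
import Cfsg.Agent.Lib.Helper91_UT2_KRU

set_option autoImplicit false

/-!
# `GU_2(q) ⊗ GU_b(q)` is maximal in `SU_{2b}(q)`, all `q ≥ 3`, `b ≥ 4`: the abstract theorem
(architect helper67; packages by helpers 2, 5, 10, 12, 30, 31, 41, 42, 53, 55, 69, 71, 78, 86, 89, 91)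
-/

namespace Cfsg.Agent.Lib.Helper67_UT2Main

open Module
open Cfsg.Agent.Lib.Helper94_Symp Cfsg.Agent.Lib.Helper94_Herm Cfsg.Agent.Lib.Helper13_PSUSimple
  Cfsg.Agent.Lib.Helper67_Tens2Defs Cfsg.Agent.Lib.Helper67_UT2Defs

variable {F W : Type*} [Field F] [Finite F] [AddCommGroup W] [Module F W] [FiniteDimensional F W]
variable {σ : F →+* F} {β : W →ₗ[F] W →ₛₗ[σ] F}

/-- the abstract theorem -/
theorem main_abstract (hσ : Invol σ) (hβ : IsHerm β) (hN : NondegOn β ⊤) (hb : 4 ≤ finrank F W)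
    (hq : ∃ a : F, σ a = a ∧ a ≠ 0 ∧ a ≠ 1)
    (M : Subgroup ((W × W) ≃ₗ[F] (W × W))) (hM : HypU β M) :
    (∀ g ∈ M, IsKron2 g) ∨ M = SUg (uf β) := by
  by_cases hR : RadStdU M
  · left
    by_contra hcon
    push Not at hcon
    obtain ⟨g0, hg0, hnk⟩ := hcon
    have hST : ∀ h ∈ M, (∀ x ∈ (G0 : Submodule F (W × W)), h x ∈ (G0 : Submodule F (W × W))) →
        IsKron2 h := fun h hh h0 => Helper53_UT2_ST2U.st2u hσ hβ hN (by omega) M hM hR h hh h0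
    have hSEMI : ∀ g ∈ M,
        (∀ c : F, σ c = -c → ∀ x ∈ Lg g, ux (c • (LinearMap.id : W →ₗ[F] W)) x ∈ Lg g) →
        Lg g = (G0 : Submodule F (W × W)) :=
      fun g hg hstab => Helper71_UT2_SEMIU.semiu hσ hβ hN (by omega) hq M hM hR hST g hg hstab
    obtain ⟨y, s, hy, hs, hns⟩ := Helper71_UT2_ORBU.orbu hσ hβ hN (by omega) M hM hST g0 hg0 hnk
    obtain ⟨g, hg, hne, hdim, hmax⟩ := Helper89_UT2_PAIRU.pairu hσ hβ hN M hM g0 hg0 y s hy hs hns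
    have hD : NondegOn β (DI g) := Helper55_UT2_NDGU.ndgu hσ hβ hN M hM hSEMI g hg hne hmax
    have hd2 : 2 ≤ finrank F (DI g) := by omega
    have hCOMM : ∀ y ∈ DI g, β y y = 0 → ∀ s : F, σ s = -s → ∀ c : F, σ c = -c →
        oE (utv β y s) * (g * ux (c • (LinearMap.id : W →ₗ[F] W)) * g⁻¹) =
          (g * ux (c • (LinearMap.id : W →ₗ[F] W)) * g⁻¹) * oE (utv β y s) :=
      fun y hyD hy s hs c hc => Helper42_UT2_COMMU.commu hσ hβ hN M hM hST g hg y hyD hy s hs c hc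
    obtain ⟨ν, hν⟩ := Helper42_UT2_KAP1U.kap1u hσ hβ hN M hM g hg hD hd2 hCOMM
    obtain ⟨κ, hκ, hκD, z, z', hz, hz', hx21⟩ := Helper69_UT2_KAP2U.kap2u hσ hβ hN M hM g hg hne hD ν hν
    obtain ⟨ε, hεD, hε0, hε⟩ := Helper2_UT2_ISOEX.exists_iso_in hσ hβ (DI g) hD hd2
    have hf1 : κ (ε, 0) = (ε, 0) := hκD ε hεD 0 (Submodule.zero_mem _)
    have hf2 : κ (0, ε) = (0, ε) := hκD 0 (Submodule.zero_mem _) ε hεD
    obtain ⟨m, hm, hmf⟩ := Helper2_UT2_SIEGU.siegu hσ hβ M hM κ hκ ε z z' hε (hz ε hεD) (hz' ε hεD) hf1 hf2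
    obtain ⟨c, hc, hcM⟩ := Helper5_UT2_FINU.finu hσ hq M hM ε hε _ _ _ _ hx21 m hm hmf
    exact Helper91_UT2_KRU.rk1h_not_scalar hσ hβ hN (by omega) ε hε0 c hc (hR _ hcM)
  · right
    unfold RadStdU at hR
    push Not at hR
    obtain ⟨S, hSM, hns⟩ := hR
    obtain ⟨y, hy0, hy, h⟩ := Helper31_UT2_RSA1.rsa1 hσ hβ hN (by omega) hq M hM S hSM (by
      rintro ⟨c, hc⟩; exact hns c hc)
    obtain ⟨c, hc, hcM⟩ : ∃ c : F, c ≠ 0 ∧ ux (c • rk1h β y) ∈ M := by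
      rcases h with h | ⟨w, hwy, hw, s, hs0, hs, hsM⟩
      · exact h
      · exact Helper10_UT2_RSA2.rsa2 hσ hβ hN M hM y w hy0 hy hwy hw s hs0 hs hsM
    have hiso := Helper10_UT2_GEN1.uu_iso hσ hβ hN (by omega) M hM y hy0 hy c hc hcM
    have hl := Helper12_UT2_GEN3.uu_left hσ hβ hN (by omega) hq M hM hiso
    have hr := Helper12_UT2_GEN3.uu_right hσ hβ hN (by omega) hq M hM hiso
    have hMU : M ≤ uG (uf β) := fun g hg => (mem_SUg.mp (hM.le hg)).1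
    have hall := Helper86_UT2_GEN4.uu_all hσ hβ hN M hMU hl hr
    apply le_antisymm hM.le
    have h4 : 4 ≤ finrank F (W × W) := by
      rw [Module.finrank_prod]; omega
    exact Cfsg.Agent.Lib.Helper94_UDDefs.SUg_le_of_UU hσ (uf_isHerm hβ) (uf_nondeg hN) h4 hall

end Cfsg.Agent.Lib.Helper67_UT2Main
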