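import Mathlib
import Cfsg.Agent.Lib.Helper67_UT2Main
import Cfsg.Agent.Lib.Helper67_UT2Bridge
import Cfsg.Agent.Lib.Helper52_UT2_BRARITH

set_option autoImplicit false

/-!
# `GU_2(q) ⊗ GU_{n₂}(q)` is maximal in `SU_{2 n₂}(q)`: all `q ≥ 3`, `n₂ ≥ 4` (prelude statement)
(architect helper67; 30 packages by the UT2 market)
-/

namespace Cfsg.Agent.Lib.Helper67_UT2Final

open Module

/-- `GU_2(q) ⊗ GU_{n₂}(q)` is maximal in `SU_n(q)`: `q ≥ 3`, `n₂ ≥ 4` -/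
theorem maximal_utens2 {F : Type*} [Field F] [Fintype F] (n q : ℕ)
    (hF : Fintype.card F = q ^ 2) (hq : 3 ≤ q) (n₂ : ℕ) (hn₂ : 4 ≤ n₂)
    (e : Fin n ≃ Fin 2 × Fin n₂) (P : Matrix.GeneralLinearGroup (Fin n) F)
    (f₁ : (Fin 2 → F) → (Fin 2 → F) → F) (f₂ : (Fin n₂ → F) → (Fin n₂ → F) → F)
    (hf1 : Cfsg.Geo.IsUnitaryFormPow q f₁) (hf2 : Cfsg.Geo.IsUnitaryFormPow q f₂)
    (hT : Cfsg.Geo.IsTensorFormStructure (fun x : F => x ^ q) (Cfsg.hermForm n F q) f₁ f₂ e P) :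
    Cfsg.Geo.IsMaximalIn (Cfsg.GU n F q ⊓ Cfsg.Geo.specialLinear (Fin n) F)
      (Cfsg.Geo.tensorProductSubgroup 2 n₂ e P ⊓
        (Cfsg.GU n F q ⊓ Cfsg.Geo.specialLinear (Fin n) F)) := by
  refine Helper67_UT2Bridge.bridge n q n₂ hF (by omega) e P f₁ f₂ hf1 hf2 hT ?_
  intro σ hσq hσ β hβ hN M hM
  have hfr : finrank F (Fin n₂ → F) = n₂ := by simp
  exact Helper67_UT2Main.main_abstract hσ hβ hN (by rw [hfr]; exact hn₂)
    (Helper52_UT2_BRARITH.exists_fixed_ne hF hq σ hσq) M hM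

end Cfsg.Agent.Lib.Helper67_UT2Final
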