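import Cfsg.Agent.Lib.Helper77_BRDefs

/-!
# BR-BPOS (helper84; sub-package of helper77's S0999 architecture)
In the `Family` some member of `X` has degree `p - 1` (`hrel` at `g = 1`).
-/

set_option autoImplicit false

namespace Cfsg.Agent.Lib.Helper84_BR_BPOS

open Cfsg Cfsg.Agent.Lib.Helper80_CharBasic Cfsg.Agent.Lib.Helper77_BRDefs
open scoped ComplexConjugate

universe u

variable {G : Type u} [Group G] [Fintype G] {p : ℕ} [hp : Fact p.Prime]

/-- **BPOS** (S). In the `Family` some member of `X` has degree `p - 1` (`hrel` at `g = 1`). -/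
theorem BPOS (P : Sylow p G) (hP : Nat.card P = p) (D : PBData P) (L : LinData P)
    (hq2 : 2 ≤ qq P) (hq : 2 * qq P ≤ p - 1) (n : ℕ) (hF : Family P D L n) :
    ∃ χ ∈ D.X, (χ : G → ℂ) 1 = (p : ℂ) - 1 ∧ D.εX χ = -1 := by
  classical
  by_contra hcon
  push Not at hcon
  have hpprime : p.Prime := hp.out
  have hYpos : 0 < D.Y.card := by
    rcases Nat.eq_zero_or_pos D.Y.card with h | h
    · have := D.hYcard
      rw [h, zero_mul] at this
      omega
    · exact h
  obtain ⟨θ, hθ⟩ := Finset.card_pos.mp hYpos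
  have hreg : ¬ p ∣ orderOf (1 : G) := by
    rw [orderOf_one, Nat.dvd_one]
    exact hpprime.one_lt.ne'
  have h1 := D.hrel θ hθ 1 hreg
  rw [hF.hε, hF.hYdeg θ hθ] at h1
  -- the sign of the principal character
  have hone : D.εX (oneIrr G) = 1 := by
    rcases D.hεX _ D.hone with h | h
    · exact h
    · exfalso
      have h2 := D.hXdeg _ D.hone
      rw [h] at h2
      have h3 : charDegree ((oneIrr G : IrrCharacter G) : G → ℂ) = 1 := by
        unfold charDegree
        show ⌊((1 : ℂ)).re⌋₊ = 1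
        simp
      rw [h3] at h2
      have h4 : (p : ℤ) ∣ 2 := by
        have := (Int.modEq_iff_dvd.mp h2)
        have h5 : ((-1 : ℤ) - ((1 : ℕ) : ℤ)) = -2 := by norm_num
        rw [h5] at this
        exact (dvd_neg.mp this)
      have h6 : p ∣ 2 := by exact_mod_cast h4
      have := Nat.le_of_dvd (by norm_num) h6
      omega
  -- each term has real part at least one
  have hterm : ∀ χ ∈ D.X, (1 : ℝ) ≤ ((D.εX χ : ℂ) * (χ : G → ℂ) 1).re := by
    intro χ hχ
    by_cases hχ1 : χ = oneIrr G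
    · subst hχ1
      rw [hone]
      show (1 : ℝ) ≤ (((1 : ℤ) : ℂ) * (1 : ℂ)).re
      simp
    · rcases hF.hX χ hχ hχ1 with ⟨hd, hs⟩ | ⟨hd, hs⟩
      · rw [hd, hs]
        have : (((1 : ℤ) : ℂ) * (1 + (n : ℂ) * (p : ℂ))).re = 1 + (n : ℝ) * (p : ℝ) := by
          simp
        rw [this]
        have : (0 : ℝ) ≤ (n : ℝ) * (p : ℝ) := by positivity
        linarith
      · exact absurd hs (hcon χ hχ hd)
  have hsum : (D.X.card : ℝ) ≤ (∑ χ ∈ D.X, (D.εX χ : ℂ) * (χ : G → ℂ) 1).re := by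
    rw [Complex.re_sum]
    calc (D.X.card : ℝ) = ∑ _χ ∈ D.X, (1 : ℝ) := by simp
      _ ≤ _ := Finset.sum_le_sum hterm
  rw [← h1] at hsum
  have hre : ((((-1 : ℤ) : ℂ)) * ((p : ℂ) - (qq P : ℂ))).re = -((p : ℝ) - (qq P : ℝ)) := by
    simp
  rw [hre, D.hXcard] at hsum
  have hlt : (qq P : ℝ) < (p : ℝ) := by
    have : qq P < p := by omega
    exact_mod_cast this
  have hq0 : (0 : ℝ) ≤ (qq P : ℝ) := by positivity
  linarith

end Cfsg.Agent.Lib.Helper84_BR_BPOS
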