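import Cfsg.Agent.Lib.Helper77_BRDefs

/-!
# BR-VAN modulo LINSUM + LINVAL (helper84; sub-package of helper77's S0999 architecture)
Members of `X` of degree `p - 1` vanish on `N_G(P) \ P`.  `VAN_of` is the package statement `VAN`
with the instances of LINSUM and LINVAL for `χ` (and `σ`) as hypotheses.
-/

set_option autoImplicit false

namespace Cfsg.Agent.Lib.Helper84_BR_VANaux

open Cfsg Cfsg.Agent.Lib.Helper80_CharBasic Cfsg.Agent.Lib.Helper77_BRDefs
open scoped ComplexConjugate

universe u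

variable {G : Type u} [Group G] [Fintype G] {p : ℕ} [hp : Fact p.Prime]

/-- the sum of a function over a subgroup of order `p`, split off the identity -/
theorem finsum_subgroup_split (P : Subgroup G) (f : G → ℂ) :
    ∑ᶠ x ∈ (P : Set G), f x = f 1 + ∑ᶠ x ∈ {x : G | x ∈ P ∧ x ≠ 1}, f x := by
  classical
  have hfin : (P : Set G).Finite := Set.toFinite _
  have h1 : (P : Set G) = insert (1 : G) {x : G | x ∈ P ∧ x ≠ 1} := by
    ext x
    simp only [SetLike.mem_coe, Set.mem_insert_iff, Set.mem_ofPred_eq]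
    constructor
    · intro hx
      by_cases h : x = 1
      · exact Or.inl h
      · exact Or.inr ⟨hx, h⟩
    · rintro (h | h)
      · rw [h]; exact P.one_mem
      · exact h.1
  rw [h1, finsum_mem_insert f (by simp) (Set.toFinite _)]

/-- **VAN** modulo LINSUM and LINVAL. -/
theorem VAN_of (P : Sylow p G) (hP : Nat.card P = p)
    (D : PBData P) (L : LinData P)
    (χ : IrrCharacter G) (hχ : χ ∈ D.X) (hdeg : (χ : G → ℂ) 1 = (p : ℂ) - 1)
    (hε : D.εX χ = -1) (σ : G)
    (hLINSUM : ((∑ i : L.ι, L.a i χ : ℕ) : ℂ) * (p : ℂ) =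
      ∑ᶠ x ∈ ((P : Subgroup G) : Set G), (χ : G → ℂ) x)
    (hLINVAL : (χ : G → ℂ) σ = ∑ i : L.ι, (L.a i χ : ℂ) * L.μ i σ) :
    (χ : G → ℂ) σ = 0 := by
  classical
  have hpprime : p.Prime := hp.out
  have hval : ∀ x ∈ {x : G | x ∈ (P : Subgroup G) ∧ x ≠ 1}, (χ : G → ℂ) x = -1 := by
    intro x hx
    have h1 := D.hXval χ hχ x hx.1 hx.2 1 (Subgroup.one_mem _) (by
      rw [orderOf_one, Nat.dvd_one]; exact hpprime.one_lt.ne')
    rw [mul_one, hε] at h1
    rw [h1]; simp
  have hsum : ∑ᶠ x ∈ ((P : Subgroup G) : Set G), (χ : G → ℂ) x = 0 := by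
    rw [finsum_subgroup_split, finsum_mem_congr rfl hval, hdeg]
    rw [finsum_mem_eq_toFinset_sum (s := {x : G | x ∈ (P : Subgroup G) ∧ x ≠ 1})]
    rw [Finset.sum_const]
    have hcard : ({x : G | x ∈ (P : Subgroup G) ∧ x ≠ 1} : Set G).toFinset.card = p - 1 := by
      have h2 : ({x : G | x ∈ (P : Subgroup G) ∧ x ≠ 1} : Set G).toFinset =
          (((P : Subgroup G) : Set G).toFinset).erase 1 := by
        ext x
        simp only [Set.mem_toFinset, Set.mem_ofPred_eq, Finset.mem_erase, SetLike.mem_coe]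
        tauto
      rw [h2, Finset.card_erase_of_mem (by simp)]
      rw [Set.toFinset_card, ← Nat.card_eq_fintype_card]
      have : Nat.card ((P : Subgroup G) : Set G) = p := hP
      rw [this]
    rw [hcard, nsmul_eq_mul, Nat.cast_sub hpprime.one_lt.le]
    push_cast
    ring
  rw [hsum] at hLINSUM
  have hp0 : (p : ℂ) ≠ 0 := by exact_mod_cast hpprime.ne_zero
  have h0 : ((∑ i : L.ι, L.a i χ : ℕ) : ℂ) = 0 := by
    rcases mul_eq_zero.mp hLINSUM with h | h
    · exact h
    · exact absurd h hp0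
  have h0' : ∑ i : L.ι, L.a i χ = 0 := by exact_mod_cast h0
  have hall : ∀ i : L.ι, L.a i χ = 0 := by
    intro i
    exact (Finset.sum_eq_zero_iff.mp h0') i (Finset.mem_univ i)
  rw [hLINVAL]
  apply Finset.sum_eq_zero
  intro i _
  rw [hall i]
  simp

end Cfsg.Agent.Lib.Helper84_BR_VANaux
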