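import Cfsg.Agent.Lib.Helper77_BRDefs
import Cfsg.Agent.Lib.Helper75_BR_LINSUM
import Cfsg.Agent.Lib.Helper75_BR_LINVAL
import Cfsg.Agent.Lib.Helper84_BR_VANaux

/-!
# BR-VAN (helper84; sub-package of helper77's S0999 architecture)
Members of `X` of degree `p - 1` vanish on `N_G(P) \ P`.  Proof in `Helper84_BR_VANaux.VAN_of`, fed
with helper75's LINSUM and LINVAL.
-/

set_option autoImplicit false

namespace Cfsg.Agent.Lib.Helper84_BR_VAN

open Cfsg Cfsg.Agent.Lib.Helper80_CharBasic Cfsg.Agent.Lib.Helper77_BRDefs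
open scoped ComplexConjugate

universe u

variable {G : Type u} [Group G] [Fintype G] {p : ℕ} [hp : Fact p.Prime]

/-- **VAN** (S/M, from LINSUM + LINVAL). Members of `X` of degree `p - 1` vanish on
`N_G(P) \ P`. -/
theorem VAN (P : Sylow p G) (hP : Nat.card P = p)
    (hC : ∀ c ∈ Cen P, c ∈ (P : Subgroup G)) (D : PBData P) (L : LinData P)
    (χ : IrrCharacter G) (hχ : χ ∈ D.X) (hdeg : (χ : G → ℂ) 1 = (p : ℂ) - 1)
    (hε : D.εX χ = -1) (σ : G) (hσN : σ ∈ Nrm P) (hσP : σ ∉ (P : Subgroup G)) :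
    (χ : G → ℂ) σ = 0 :=
  Cfsg.Agent.Lib.Helper84_BR_VANaux.VAN_of P hP D L χ hχ hdeg hε σ
    (Cfsg.Agent.Lib.Helper75_BR_LINSUM.LINSUM P hP hC L χ)
    (Cfsg.Agent.Lib.Helper75_BR_LINVAL.LINVAL P hP hC L χ σ hσN hσP)

end Cfsg.Agent.Lib.Helper84_BR_VAN
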