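import Mathlib
import Cfsg.Agent.Lib.Helper77_BRDefs
import Cfsg.Agent.Lib.Helper3_CharColumn

/-!
# BR-FIX (helper8, sub-package of helper77's S0999 / S4701 plan)

In the `Family`, for `p`-regular `g ≠ 1`: `fix(g) = t (1 - B(g))`.
-/

set_option autoImplicit false
set_option linter.unusedVariables false
set_option linter.unusedSectionVars false

namespace Cfsg.Agent.Lib.Helper8_BR_FIX

open Cfsg Cfsg.Agent.Lib.Helper80_CharBasic Cfsg.Agent.Lib.Helper77_BRDefs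
open scoped ComplexConjugate

universe u

variable {G : Type u} [Group G] [Fintype G] {p : ℕ} [hp : Fact p.Prime]

omit [Fintype G] in
theorem charDegree_oneIrr : charDegree ((oneIrr G : IrrCharacter G) : G → ℂ) = 1 := by
  show ⌊((1 : ℂ)).re⌋₊ = 1
  simp

theorem FIX (P : Sylow p G) (hP : Nat.card P = p)
    (hC : ∀ c ∈ Cen P, c ∈ (P : Subgroup G)) (D : PBData P) (L : LinData P)
    (hq2 : 2 ≤ qq P) (hq : 2 * qq P ≤ p - 1) (n : ℕ) (hn1 : 1 ≤ n) (hF : Family P D L n)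
    (g : G) (hg : ¬ p ∣ orderOf g) (hg1 : g ≠ 1) :
    (fixS p g : ℂ) = (D.Y.card : ℂ) *
      (1 - Bfun D g) := by
  classical
  obtain ⟨t, ht⟩ : ∃ t : ℕ, t = D.Y.card := ⟨_, rfl⟩
  obtain ⟨q, hqdef⟩ : ∃ q : ℕ, q = qq P := ⟨_, rfl⟩
  rw [← ht]
  have htq : t * q = p - 1 := by rw [ht, hqdef]; exact D.hYcard
  rw [← hqdef] at hq2 hq
  have hp5 : 5 ≤ p := by omega
  have hqp : q ≤ p := by omega
  have hnn : 1 + n * p = t * (p - q) := by rw [ht, hqdef]; exact hF.hn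
  -- complex versions of the arithmetic
  have hpC : (p : ℂ) ≠ 0 := by exact_mod_cast (by omega : p ≠ 0)
  have htqC : (t : ℂ) * (q : ℂ) = (p : ℂ) - 1 := by
    have : ((t * q : ℕ) : ℂ) = ((p - 1 : ℕ) : ℂ) := by rw [htq]
    rw [Nat.cast_mul, Nat.cast_sub (by omega)] at this
    simpa using this
  have hnnC : 1 + (n : ℂ) * (p : ℂ) = (t : ℂ) * ((p : ℂ) - (q : ℂ)) := by
    have : ((1 + n * p : ℕ) : ℂ) = ((t * (p - q) : ℕ) : ℂ) := by rw [hnn]
    rw [Nat.cast_mul, Nat.cast_sub hqp] at this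
    simpa using this
  -- column orthogonality of `g` with `1`
  have hcol := Cfsg.Agent.Lib.Helper3_CharColumn.column_orthogonality g (1 : G)
  rw [if_neg (by
    intro h
    exact hg1 (isConj_one_right.1 h.symm))] at hcol
  have hconj : ∀ χ : IrrCharacter G, conj ((χ : G → ℂ) 1) = (χ : G → ℂ) 1 := by
    intro χ
    obtain ⟨m, _, hm⟩ := irr_apply_one χ
    rw [hm]
    simp
  simp_rw [hconj] at hcol
  -- split the sum
  obtain ⟨R, hR⟩ : ∃ R : Finset (IrrCharacter G), R = Finset.univ \ (D.X ∪ D.Y) := ⟨_, rfl⟩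
  have hsplit : ∑ χ : IrrCharacter G, (χ : G → ℂ) g * (χ : G → ℂ) 1 =
      ∑ χ ∈ R, (χ : G → ℂ) g * (χ : G → ℂ) 1 +
        (∑ χ ∈ D.X, (χ : G → ℂ) g * (χ : G → ℂ) 1 + ∑ χ ∈ D.Y, (χ : G → ℂ) g * (χ : G → ℂ) 1) := by
    rw [hR, ← Finset.sum_union D.hdisj]
    exact (Finset.sum_sdiff (Finset.subset_univ _)).symm
  rw [hsplit] at hcol
  -- the sum over `Y`
  obtain ⟨Sε, hSε⟩ : ∃ Sε : ℂ, Sε = ∑ χ ∈ D.X, (D.εX χ : ℂ) * (χ : G → ℂ) g := ⟨_, rfl⟩
  have hY : ∑ χ ∈ D.Y, (χ : G → ℂ) g * (χ : G → ℂ) 1 =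
      -((t : ℂ) * ((p : ℂ) - (q : ℂ)) * Sε) := by
    have h1 : ∀ θ ∈ D.Y, (θ : G → ℂ) g * (θ : G → ℂ) 1 = -(((p : ℂ) - (q : ℂ)) * Sε) := by
      intro θ hθ
      have h2 := D.hrel θ hθ g hg
      rw [hF.hε, ← hSε] at h2
      have h3 : (θ : G → ℂ) g = -Sε := by
        rw [← h2]; push_cast; ring
      rw [h3, hF.hYdeg θ hθ, ← hqdef]
      ring
    rw [Finset.sum_congr rfl h1, Finset.sum_const, ← ht, nsmul_eq_mul]
    ring
  -- the sign of the trivial character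
  have hε1 : D.εX (oneIrr G) = 1 := by
    rcases D.hεX _ D.hone with h | h
    · exact h
    · exfalso
      have h1 := D.hXdeg _ D.hone
      rw [charDegree_oneIrr, h] at h1
      have h2 := (Int.modEq_iff_dvd.1 h1)
      have h3 : (p : ℤ) ∣ 2 := by
        have : (-1 : ℤ) - ((1 : ℕ) : ℤ) = -2 := by norm_num
        rw [this] at h2
        exact (Int.dvd_neg).1 h2
      have h4 := Int.le_of_dvd (by norm_num) h3
      omega
  -- termwise identity on `X`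
  have hterm : ∀ χ ∈ D.X, (χ : G → ℂ) g * (χ : G → ℂ) 1 -
      (t : ℂ) * ((p : ℂ) - (q : ℂ)) * ((D.εX χ : ℂ) * (χ : G → ℂ) g) =
      (if χ = oneIrr G then 1 - (t : ℂ) * ((p : ℂ) - (q : ℂ)) else 0) +
        (if (χ : G → ℂ) 1 = (p : ℂ) - 1 then (t : ℂ) * (p : ℂ) * (χ : G → ℂ) g else 0) := by
    intro χ hχ
    by_cases h1 : χ = oneIrr G
    · subst h1
      have hne : ¬ ((oneIrr G : IrrCharacter G) : G → ℂ) 1 = (p : ℂ) - 1 := by
        show ¬ (1 : ℂ) = (p : ℂ) - 1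
        intro h
        have h2 : ((2 : ℕ) : ℂ) = (p : ℂ) := by push_cast; linear_combination h
        have h3 : 2 = p := by exact_mod_cast h2
        omega
      rw [if_pos rfl, if_neg hne, hε1]
      show (1 : ℂ) * 1 - (t : ℂ) * ((p : ℂ) - (q : ℂ)) * (((1 : ℤ) : ℂ) * 1) = _
      push_cast; ring
    · rw [if_neg h1]
      rcases hF.hX χ hχ h1 with ⟨hdeg, hε⟩ | ⟨hdeg, hε⟩
      · have hne : ¬ (χ : G → ℂ) 1 = (p : ℂ) - 1 := by
          rw [hdeg]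
          intro h
          have h2 : ((1 + n * p + 1 : ℕ) : ℂ) = ((p : ℕ) : ℂ) := by push_cast; linear_combination h
          have h3 : 1 + n * p + 1 = p := by exact_mod_cast h2
          have h4 : p ≤ n * p := Nat.le_mul_of_pos_left p (by omega)
          omega
        rw [if_neg hne, hdeg, hε, hnnC]
        push_cast; ring
      · rw [if_pos hdeg, hdeg, hε]
        push_cast
        have : (t : ℂ) * (p : ℂ) = (p : ℂ) - 1 + (t : ℂ) * ((p : ℂ) - (q : ℂ)) := by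
          rw [mul_sub, htqC]; ring
        rw [this]; ring
  have hX : ∑ χ ∈ D.X, (χ : G → ℂ) g * (χ : G → ℂ) 1 - (t : ℂ) * ((p : ℂ) - (q : ℂ)) * Sε =
      1 - (t : ℂ) * ((p : ℂ) - (q : ℂ)) + (t : ℂ) * (p : ℂ) * Bfun D g := by
    rw [hSε, Finset.mul_sum, ← Finset.sum_sub_distrib, Finset.sum_congr rfl hterm,
      Finset.sum_add_distrib, Finset.sum_ite_eq' D.X (oneIrr G), if_pos D.hone]
    congr 1
    rw [← Finset.sum_filter]
    unfold Bfun Bset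
    rw [Finset.mul_sum]
  -- conclude
  have hRsum : ∑ χ ∈ R, (χ : G → ℂ) g * (χ : G → ℂ) 1 =
      (p : ℂ) * ((t : ℂ) - 1 - (t : ℂ) * Bfun D g) := by
    have h1 : ∑ χ ∈ R, (χ : G → ℂ) g * (χ : G → ℂ) 1 =
        -(∑ χ ∈ D.X, (χ : G → ℂ) g * (χ : G → ℂ) 1 - (t : ℂ) * ((p : ℂ) - (q : ℂ)) * Sε) := by
      rw [hY] at hcol
      linear_combination hcol
    rw [h1, hX]
    have : (t : ℂ) * ((p : ℂ) - (q : ℂ)) = (t : ℂ) * (p : ℂ) - ((p : ℂ) - 1) := by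
      rw [mul_sub, htqC]
    rw [this]; ring
  rw [hF.hperm g, ← hR]
  have h2 : ∑ ψ ∈ R, (ψ : G → ℂ) 1 / (p : ℂ) * (ψ : G → ℂ) g =
      (∑ χ ∈ R, (χ : G → ℂ) g * (χ : G → ℂ) 1) / (p : ℂ) := by
    rw [Finset.sum_div]
    apply Finset.sum_congr rfl
    intro ψ _
    ring
  rw [h2, hRsum]
  field_simp
  ring

end Cfsg.Agent.Lib.Helper8_BR_FIX
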