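import Cfsg.Agent.Lib.Helper77_BRDefs
import Cfsg.Agent.Lib.Helper68_BR_FROBN
import Cfsg.Agent.Lib.Helper84_BR_VAN
import Cfsg.Agent.Lib.Helper84_BR_BPOS
import Cfsg.Agent.Lib.Helper8_BR_FIX
import Cfsg.Agent.Lib.Helper35_BR_GEO1
import Cfsg.Agent.Lib.Helper35_BR_GEO2

/-!
# Brauer-Reynolds: the assembly GEO (helper68) from FROBN, VAN, FIX, BPOS, GEO1, GEO2.
-/

set_option autoImplicit false

namespace Cfsg.Agent.Lib.Helper68_BR_GEO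

open Cfsg Cfsg.Agent.Lib.Helper80_CharBasic Cfsg.Agent.Lib.Helper77_BRDefs
open scoped ComplexConjugate

universe u

variable {G : Type u} [Group G] [Fintype G] {p : ℕ} [hp : Fact p.Prime]

theorem GEO (P : Sylow p G) (hP : Nat.card P = p)
    (hC : ∀ c ∈ Cen P, c ∈ (P : Subgroup G)) (D : PBData P) (L : LinData P) (h5 : 5 ≤ p)
    (hq2 : 2 ≤ qq P) (hq : 2 * qq P ≤ p - 1) (n : ℕ) (hn1 : 1 ≤ n)
    (hn : Nat.card (Sylow p G) = 1 + n * p) (hG : Nat.card G = p * qq P * (1 + n * p))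
    (hF : Family P D L n) :
    ∃ Q : Subgroup G, Q ≤ Nrm P ∧ Q ⊓ (P : Subgroup G) = ⊥ ∧ Nat.card Q = qq P ∧ IsCyclic Q ∧
      Nat.card (Subgroup.normalizer (Q : Set G)) = p - 1 ∧
      Subgroup.normalizer (Q : Set G) ⊓ Nrm P = Q ∧
      ∀ y ∈ Subgroup.normalizer (Q : Set G), ∃ g : G, g * y * g⁻¹ ∈ Q := by
  classical
  obtain ⟨Q, hQN, hQP, hQcard, hQcyc, hNcard, hQconj, hreg, hQnorm⟩ :=
    Cfsg.Agent.Lib.Helper68_BR_FROBN.FROBN P hP hC hq2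
  -- nontrivial elements of `Q` are outside `P`
  have hQnotP : ∀ σ ∈ Q, σ ≠ 1 → σ ∉ (P : Subgroup G) := by
    intro σ hσ hσ1 hσP
    have : σ ∈ Q ⊓ (P : Subgroup G) := ⟨hσ, hσP⟩
    rw [hQP, Subgroup.mem_bot] at this
    exact hσ1 this
  -- members of `Bset` have sign `-1`
  have hBsign : ∀ χ ∈ Bset D, χ ∈ D.X ∧ (χ : G → ℂ) 1 = (p : ℂ) - 1 ∧ D.εX χ = -1 := by
    intro χ hχ
    unfold Bset at hχ
    rw [Finset.mem_filter] at hχ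
    obtain ⟨hχX, hdeg⟩ := hχ
    refine ⟨hχX, hdeg, ?_⟩
    have hne : χ ≠ oneIrr G := by
      intro h
      rw [h] at hdeg
      have h1 : ((oneIrr G : IrrCharacter G) : G → ℂ) 1 = 1 := rfl
      rw [h1] at hdeg
      have : ((2 : ℕ) : ℂ) = ((p : ℕ) : ℂ) := by
        push_cast
        linear_combination hdeg
      have := Nat.cast_injective this
      omega
    rcases hF.hX χ hχX hne with ⟨h1, -⟩ | ⟨-, h2⟩
    · exfalso
      rw [hdeg] at h1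
      have : ((p : ℕ) : ℂ) = ((2 + n * p : ℕ) : ℂ) := by
        push_cast
        linear_combination h1
      have := Nat.cast_injective this
      nlinarith
    · exact h2
  -- `B` vanishes on `Q \ 1`
  have hB0 : ∀ σ ∈ Q, σ ≠ 1 → Bfun D σ = 0 := by
    intro σ hσ hσ1
    unfold Bfun
    apply Finset.sum_eq_zero
    intro χ hχ
    obtain ⟨hχX, hdeg, hε⟩ := hBsign χ hχ
    exact Cfsg.Agent.Lib.Helper84_BR_VAN.VAN P hP hC D L χ hχX hdeg hε σ (hQN hσ)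
      (hQnotP σ hσ hσ1)
  have hFIX : ∀ g : G, ¬ p ∣ orderOf g → g ≠ 1 → (fixS p g : ℂ) = (D.Y.card : ℂ) *
      (1 - Bfun D g) := fun g hg hg1 =>
    Cfsg.Agent.Lib.Helper8_BR_FIX.FIX P hP hC D L hq2 hq n hn1 hF g hg hg1
  have hfix : ∀ σ ∈ Q, σ ≠ 1 → fixS p σ = D.Y.card := by
    intro σ hσ hσ1
    have h1 := hFIX σ (hreg σ (hQN hσ) (hQnotP σ hσ hσ1)) hσ1
    rw [hB0 σ hσ hσ1, sub_zero, mul_one] at h1
    exact Nat.cast_injective h1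
  obtain ⟨hH, hHN⟩ := Cfsg.Agent.Lib.Helper35_BR_GEO1.GEO1 P hP hC hq2 D.Y.card Q hQN hQP hQcard
    hQcyc hNcard hQconj hQnorm hfix
  rw [D.hYcard] at hH
  obtain ⟨χ, hχX, hχdeg, -⟩ := Cfsg.Agent.Lib.Helper84_BR_BPOS.BPOS P hP D L hq2 hq n hF
  refine ⟨Q, hQN, hQP, hQcard, hQcyc, hH, hHN, ?_⟩
  exact Cfsg.Agent.Lib.Helper35_BR_GEO2.GEO2 P hP hC D hq2 hq ⟨χ, hχX, hχdeg⟩ hFIX Q hQN hQP hQcard
    hQconj hfix hH

end Cfsg.Agent.Lib.Helper68_BR_GEO
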