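import Mathlib

set_option autoImplicit false

/-!
# Möbius-type weights on finite subsets of a partial order (helper68)

For a finite set `A` in a partial order, `wt A x` is defined by downward recursion through
`wt A x = 1 - ∑_{y ∈ A, x < y} wt A y`, so that `∑_{y ∈ A, x ≤ y} wt A y = 1` for every `x ∈ A`.
-/

namespace Cfsg.Agent.Lib.Helper68_Weights

open Finset
open Classical

variable {α : Type*} [PartialOrder α]

theorem card_lt_of_lt (A : Finset α) {x y : α} (hy : y ∈ A) (hxy : x < y) :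
    (A.filter (fun z => y < z)).card < (A.filter (fun z => x < z)).card := by
  apply Finset.card_lt_card
  rw [Finset.ssubset_iff_of_subset]
  · exact ⟨y, Finset.mem_filter.mpr ⟨hy, hxy⟩,
      fun h => lt_irrefl _ (Finset.mem_filter.mp h).2⟩
  · intro z hz
    rw [Finset.mem_filter] at hz ⊢
    exact ⟨hz.1, lt_trans hxy hz.2⟩

/-- `wt A x = 1 - ∑_{y ∈ A, x < y} wt A y`. -/
noncomputable def wt (A : Finset α) (x : α) : ℤ :=
  1 - ∑ y ∈ (A.filter (fun y => x < y)).attach, wt A y.1
termination_by (A.filter (fun y => x < y)).card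
decreasing_by
  have hy := y.2
  rw [Finset.mem_filter] at hy
  exact card_lt_of_lt A hy.1 hy.2

theorem wt_eq (A : Finset α) (x : α) :
    wt A x = 1 - ∑ y ∈ A.filter (fun y => x < y), wt A y := by
  rw [wt]
  congr 1
  exact Finset.sum_attach _ (fun y => wt A y)

theorem filter_le_eq (A : Finset α) {x : α} (hx : x ∈ A) :
    A.filter (fun y => x ≤ y) = insert x (A.filter (fun y => x < y)) := by
  ext y
  simp only [Finset.mem_filter, Finset.mem_insert]
  constructor
  · rintro ⟨h1, h2⟩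
    rcases eq_or_lt_of_le h2 with h | h
    · exact Or.inl h.symm
    · exact Or.inr ⟨h1, h⟩
  · rintro (h | ⟨h1, h2⟩)
    · subst h; exact ⟨hx, le_refl _⟩
    · exact ⟨h1, h2.le⟩

theorem sum_wt (A : Finset α) {x : α} (hx : x ∈ A) :
    ∑ y ∈ A.filter (fun y => x ≤ y), wt A y = 1 := by
  rw [filter_le_eq A hx, Finset.sum_insert (by simp), wt_eq A x]
  ring

theorem wt_unique (A : Finset α) (v : α → ℤ)
    (hv : ∀ x ∈ A, ∑ y ∈ A.filter (fun y => x ≤ y), v y = 1) :
    ∀ x ∈ A, v x = wt A x := by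
  intro x
  induction' h : (A.filter (fun y => x < y)).card using Nat.strong_induction_on with n ih
    generalizing x
  intro hx
  have h1 := hv x hx
  rw [filter_le_eq A hx, Finset.sum_insert (by simp)] at h1
  rw [wt_eq A x]
  have h2 : ∑ y ∈ A.filter (fun y => x < y), v y = ∑ y ∈ A.filter (fun y => x < y), wt A y := by
    apply Finset.sum_congr rfl
    intro y hy
    rw [Finset.mem_filter] at hy
    exact ih _ (by rw [← h]; exact card_lt_of_lt A hy.1 hy.2) y rfl hy.1
  linarith

theorem wt_congr (A B : Finset α) (x : α) (h : ∀ y, x ≤ y → (y ∈ A ↔ y ∈ B)) :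
    wt A x = wt B x := by
  induction' hn : (A.filter (fun y => x < y)).card using Nat.strong_induction_on with n ih
    generalizing x
  rw [wt_eq A x, wt_eq B x]
  have hf : A.filter (fun y => x < y) = B.filter (fun y => x < y) := by
    ext y
    simp only [Finset.mem_filter]
    constructor
    · rintro ⟨h1, h2⟩; exact ⟨(h y h2.le).mp h1, h2⟩
    · rintro ⟨h1, h2⟩; exact ⟨(h y h2.le).mpr h1, h2⟩
  rw [← hf]
  congr 1
  apply Finset.sum_congr rfl
  intro y hy
  rw [Finset.mem_filter] at hy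
  exact ih _ (by rw [← hn]; exact card_lt_of_lt A hy.1 hy.2) y
    (fun z hz => h z (hy.2.le.trans hz)) rfl

theorem sum_wt_of_least (A : Finset α) (h x0 : α) (hx0 : x0 ∈ A) (hh : h ≤ x0)
    (hleast : ∀ y ∈ A, h ≤ y → x0 ≤ y) :
    ∑ y ∈ A.filter (fun y => h ≤ y), wt A y = 1 := by
  have : A.filter (fun y => h ≤ y) = A.filter (fun y => x0 ≤ y) := by
    ext y
    simp only [Finset.mem_filter]
    constructor
    · rintro ⟨h1, h2⟩; exact ⟨h1, hleast y h1 h2⟩
    · rintro ⟨h1, h2⟩; exact ⟨h1, hh.trans h2⟩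
  rw [this]
  exact sum_wt A hx0

theorem wt_of_maximal (A : Finset α) (x : α) (hmax : ∀ y ∈ A, ¬ x < y) : wt A x = 1 := by
  rw [wt_eq]
  have : A.filter (fun y => x < y) = ∅ := by
    apply Finset.filter_eq_empty_iff.mpr
    intro y hy
    exact hmax y hy
  rw [this]
  simp

/-- Retraction lemma: if `r` retracts the part of `A` above `x` onto `B ⊆ A`, with `r a ≤ a`,
`b ≤ a → b ≤ r a` for `b ∈ B`, and `r a = x` only for `a = x`, then the weights of `x` in `A` and
in `B` agree. -/
theorem wt_retract (A B : Finset α) (x : α) (r : α → α) (hBA : B ⊆ A) (hxB : x ∈ B)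
    (hrB : ∀ a ∈ A, x ≤ a → r a ∈ B) (hrx : ∀ a ∈ A, x ≤ a → x ≤ r a)
    (hrle : ∀ a ∈ A, x ≤ a → r a ≤ a)
    (hmono : ∀ a ∈ A, ∀ b ∈ B, x ≤ b → b ≤ a → b ≤ r a)
    (hrx' : ∀ a ∈ A, x ≤ a → r a = x → a = x) :
    wt A x = wt B x := by
  set B' := B.filter (fun y => x ≤ y) with hB'
  set A' := A.filter (fun y => x ≤ y) with hA'
  set v : α → ℤ := fun b => ∑ a ∈ A'.filter (fun a => r a = b), wt A a with hv
  have hxB' : x ∈ B' := Finset.mem_filter.mpr ⟨hxB, le_refl _⟩
  have hrxx : r x = x := le_antisymm (hrle x (hBA hxB) (le_refl _)) (hrx x (hBA hxB) (le_refl _))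
  have key : ∀ b' ∈ B', ∑ b ∈ B'.filter (fun y => b' ≤ y), v b = 1 := by
    intro b' hb'
    rw [hB', Finset.mem_filter] at hb'
    obtain ⟨hb'B, hxb'⟩ := hb'
    set s := A.filter (fun a => b' ≤ a) with hs
    have hmaps : ∀ a ∈ s, r a ∈ B'.filter (fun y => b' ≤ y) := by
      intro a ha
      rw [hs, Finset.mem_filter] at ha
      have hxa : x ≤ a := hxb'.trans ha.2
      rw [Finset.mem_filter, hB', Finset.mem_filter]
      exact ⟨⟨hrB a ha.1 hxa, hrx a ha.1 hxa⟩, hmono a ha.1 b' hb'B hxb' ha.2⟩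
    have h1 := Finset.sum_fiberwise_of_maps_to hmaps (fun a => wt A a)
    have h2 : ∑ b ∈ B'.filter (fun y => b' ≤ y), v b
        = ∑ b ∈ B'.filter (fun y => b' ≤ y), ∑ a ∈ s.filter (fun a => r a = b), wt A a := by
      apply Finset.sum_congr rfl
      intro b hb
      rw [Finset.mem_filter] at hb
      simp only [hv]
      apply Finset.sum_congr _ (fun _ _ => rfl)
      ext a
      simp only [hA', hs, Finset.mem_filter]
      constructor
      · rintro ⟨⟨h3, h4⟩, h5⟩
        refine ⟨⟨h3, ?_⟩, h5⟩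
        have : b' ≤ r a := by rw [h5]; exact hb.2
        exact this.trans (hrle a h3 h4)
      · rintro ⟨⟨h3, h4⟩, h5⟩
        exact ⟨⟨h3, hxb'.trans h4⟩, h5⟩
    rw [h2, h1, hs]
    exact sum_wt A (hBA hb'B)
  have h3 : v x = wt B' x := wt_unique B' v key x hxB'
  have h4 : wt B' x = wt B x := by
    apply wt_congr
    intro y hy
    rw [hB', Finset.mem_filter]
    exact ⟨fun h => h.1, fun h => ⟨h, hy⟩⟩
  have h5 : v x = wt A x := by
    simp only [hv]
    have : A'.filter (fun a => r a = x) = {x} := by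
      ext a
      simp only [hA', Finset.mem_filter, Finset.mem_singleton]
      constructor
      · rintro ⟨⟨h6, h7⟩, h8⟩
        exact hrx' a h6 h7 h8
      · rintro rfl
        exact ⟨⟨hBA hxB, le_refl _⟩, hrxx⟩
    rw [this, Finset.sum_singleton]
  rw [← h5, h3, h4]

end Cfsg.Agent.Lib.Helper68_Weights
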