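import Mathlib
import Cfsg.Agent.Lib.Helper68_Weights

set_option autoImplicit false

/-!
# Casolo's subnormalizer formula (helper68)

For a `p`-subgroup `H` of a finite group `G`, the number of `g` normalizing some `p`-subgroup
containing `H` equals the sum of `|N_G(Q)|` over the Sylow `p`-subgroups `Q ⊇ H`.
-/

namespace Cfsg.Agent.Lib.Helper68_Casolo

open Classical
open Cfsg.Agent.Lib.Helper68_Weights

variable {G : Type*} [Group G] [Finite G]

/-- the elements of a subgroup, as a finset -/
noncomputable def elts (M : Subgroup G) : Finset G := (Set.toFinite (M : Set G)).toFinset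

@[simp] theorem mem_elts (M : Subgroup G) (g : G) : g ∈ elts M ↔ g ∈ M := by
  simp [elts]

theorem card_elts (M : Subgroup G) : (elts M).card = Nat.card M := by
  rw [elts, ← Set.ncard_eq_toFinset_card (M : Set G) (Set.toFinite _)]
  rfl

variable (p : ℕ)

/-- the `p`-subgroups of `M`, as a finset of subgroups of `G` -/
noncomputable def psub (M : Subgroup G) : Finset (Subgroup G) :=
  (Set.toFinite {R : Subgroup G | R ≤ M ∧ IsPGroup p R}).toFinset

@[simp] theorem mem_psub (M R : Subgroup G) : R ∈ psub p M ↔ R ≤ M ∧ IsPGroup p R := by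
  simp [psub]

/-- the `p`-subgroups of `M` normalized by `g` -/
noncomputable def fam (M : Subgroup G) (g : G) : Finset (Subgroup G) :=
  (psub p M).filter (fun R => g ∈ Subgroup.normalizer (R : Set G))

@[simp] theorem mem_fam (M : Subgroup G) (g : G) (R : Subgroup G) :
    R ∈ fam p M g ↔ (R ≤ M ∧ IsPGroup p R) ∧ g ∈ Subgroup.normalizer (R : Set G) := by
  simp [fam]

/-- normalizers grow in `p`-groups -/
theorem eq_of_inf_normalizer_eq [Fact p.Prime] {R a : Subgroup G} (ha : IsPGroup p a) (hRa : R ≤ a)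
    (h : a ⊓ Subgroup.normalizer (R : Set G) = R) : a = R := by
  by_contra hne
  have hnil : Group.IsNilpotent a := ha.isNilpotent
  have hnc : NormalizerCondition a := Group.normalizerCondition_of_isNilpotent
  have hlt : R.subgroupOf a < ⊤ := by
    rw [lt_top_iff_ne_top]
    intro h1
    rw [Subgroup.subgroupOf_eq_top] at h1
    exact hne (le_antisymm h1 hRa)
  have h2 := hnc _ hlt
  rw [← Subgroup.subgroupOf_normalizer_eq hRa] at h2
  obtain ⟨x, hx1, hx2⟩ := SetLike.exists_of_lt h2
  apply hx2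
  rw [Subgroup.mem_subgroupOf] at hx1 ⊢
  rw [← h]
  exact ⟨x.2, hx1⟩


omit [Finite G] in
/-- if `g` normalizes `a` and `R` then it normalizes `a ⊓ N(R)` -/
theorem mem_normalizer_inf_normalizer {a R : Subgroup G} {g : G}
    (hga : g ∈ Subgroup.normalizer (a : Set G)) (hgR : g ∈ Subgroup.normalizer (R : Set G)) :
    g ∈ Subgroup.normalizer ((a ⊓ Subgroup.normalizer (R : Set G) : Subgroup G) : Set G) := by
  rw [Subgroup.mem_set_normalizer_iff] at hga ⊢
  intro x
  simp only [SetLike.mem_coe] at hga ⊢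
  rw [Subgroup.mem_inf, Subgroup.mem_inf, ← hga x]
  constructor
  · rintro ⟨h1, h2⟩
    exact ⟨h1, mul_mem (mul_mem hgR h2) (inv_mem hgR)⟩
  · rintro ⟨h1, h2⟩
    refine ⟨h1, ?_⟩
    have := mul_mem (mul_mem (inv_mem hgR) h2) hgR
    have he : g⁻¹ * (g * x * g⁻¹) * g = x := by group
    rwa [he] at this

/-- the retraction step: the weight of `R` among the `g`-invariant `p`-subgroups of `M` can be
computed inside `N_M(R)`. -/
theorem wt_fam_eq [Fact p.Prime] (M R : Subgroup G) (g : G) (hR : R ∈ fam p M g) :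
    wt (fam p M g) R = wt (fam p (M ⊓ Subgroup.normalizer (R : Set G)) g) R := by
  rw [mem_fam] at hR
  obtain ⟨⟨hRM, hRp⟩, hgR⟩ := hR
  apply wt_retract (fam p M g) (fam p (M ⊓ Subgroup.normalizer (R : Set G)) g) R
    (fun a => a ⊓ Subgroup.normalizer (R : Set G))
  · intro a ha
    rw [mem_fam] at ha ⊢
    exact ⟨⟨ha.1.1.trans inf_le_left, ha.1.2⟩, ha.2⟩
  · rw [mem_fam]
    exact ⟨⟨le_inf hRM Subgroup.le_normalizer, hRp⟩, hgR⟩
  · intro a ha hRa
    rw [mem_fam] at ha ⊢
    refine ⟨⟨inf_le_inf_right _ ha.1.1, ha.1.2.to_le inf_le_left⟩, ?_⟩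
    exact mem_normalizer_inf_normalizer ha.2 hgR
  · intro a _ hRa
    exact le_inf hRa Subgroup.le_normalizer
  · intro a _ _
    exact inf_le_left
  · intro a _ b hb _ hba
    rw [mem_fam] at hb
    exact le_inf hba (hb.1.1.trans inf_le_right)
  · intro a ha hRa h
    rw [mem_fam] at ha
    exact eq_of_inf_normalizer_eq p ha.1.2 hRa h

/-- the total weight of `R` computed in `N_M(R)` -/
noncomputable def W (M R : Subgroup G) : ℤ :=
  ∑ g ∈ elts (M ⊓ Subgroup.normalizer (R : Set G)),
    wt (fam p (M ⊓ Subgroup.normalizer (R : Set G)) g) R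

/-- double counting -/
theorem expand [Fact p.Prime] (M H : Subgroup G) :
    ∑ g ∈ elts M, ∑ R ∈ (fam p M g).filter (fun R => H ≤ R), wt (fam p M g) R
      = ∑ R ∈ (psub p M).filter (fun R => H ≤ R), W p M R := by
  rw [Finset.sum_comm' (t' := (psub p M).filter (fun R => H ≤ R))
    (s' := fun R => elts (M ⊓ Subgroup.normalizer (R : Set G)))]
  · apply Finset.sum_congr rfl
    intro R hR
    rw [W]
    apply Finset.sum_congr rfl
    intro g hg
    rw [mem_elts, Subgroup.mem_inf] at hg
    rw [Finset.mem_filter, mem_psub] at hR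
    exact wt_fam_eq p M R g ((mem_fam p M g R).mpr ⟨hR.1, hg.2⟩)
  · intro g R
    simp only [mem_elts, Finset.mem_filter, mem_fam, mem_psub, Subgroup.mem_inf]
    tauto


theorem card_lt {R R' : Subgroup G} (h : R < R') : Nat.card R < Nat.card R' := by
  have h1 := Set.ncard_lt_ncard (SetLike.coe_ssubset_coe.mpr h) (Set.toFinite _)
  rw [← Nat.card_coe_set_eq, ← Nat.card_coe_set_eq] at h1
  exact h1

theorem W_of_max [Fact p.Prime] (M R : Subgroup G)
    (hmax : ∀ R' ∈ psub p M, ¬ R < R') :
    W p M R = Nat.card ↥(M ⊓ Subgroup.normalizer (R : Set G)) := by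
  rw [W, ← card_elts, Finset.card_eq_sum_ones, Nat.cast_sum]
  apply Finset.sum_congr rfl
  intro g _
  rw [Nat.cast_one]
  apply wt_of_maximal
  intro y hy
  rw [mem_fam] at hy
  exact hmax y ((mem_psub p M y).mpr ⟨hy.1.1.trans inf_le_left, hy.1.2⟩)

/-- Sylow's theorem inside a subgroup `M`: the normalizers in `M` of the maximal `p`-subgroups of
`M` have total size `|M|`. -/
theorem sylow_count [Fact p.Prime] (M : Subgroup G) :
    ∑ R ∈ (psub p M).filter (fun R => ∀ R' ∈ psub p M, ¬ R < R'),
      (Nat.card ↥(M ⊓ Subgroup.normalizer (R : Set G)) : ℤ) = Nat.card M := by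
  have : Fintype (Sylow p M) := Fintype.ofFinite _
  let f : Sylow p M → Subgroup G := fun Q => (Q : Subgroup M).map M.subtype
  have hf_inj : Function.Injective f := by
    intro Q1 Q2 h
    exact Sylow.ext (Subgroup.map_injective M.subtype_injective h)
  have himage : (psub p M).filter (fun R => ∀ R' ∈ psub p M, ¬ R < R') = Finset.univ.image f := by
    ext R
    simp only [Finset.mem_filter, mem_psub, Finset.mem_image, Finset.mem_univ, true_and]
    constructor
    · rintro ⟨⟨hRM, hRp⟩, hmax⟩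
      have h1 : IsPGroup p (R.subgroupOf M) := hRp.comap_subtype
      obtain ⟨Q, hQ⟩ := h1.exists_le_sylow
      refine ⟨Q, ?_⟩
      have h2 : R ≤ f Q := by
        have := Subgroup.map_mono (f := M.subtype) hQ
        rwa [Subgroup.map_subgroupOf_eq_of_le hRM] at this
      by_contra hne
      exact hmax (f Q) ⟨Subgroup.map_subtype_le _, Q.isPGroup'.map _⟩
        (lt_of_le_of_ne h2 (Ne.symm hne))
    · rintro ⟨Q, rfl⟩
      refine ⟨⟨Subgroup.map_subtype_le _, Q.isPGroup'.map _⟩, ?_⟩
      intro R' hR' hlt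
      have h1 : IsPGroup p (R'.subgroupOf M) := hR'.2.comap_subtype
      have h2 : (Q : Subgroup M) ≤ R'.subgroupOf M := by
        intro x hx
        rw [Subgroup.mem_subgroupOf]
        exact hlt.le ⟨x, hx, rfl⟩
      have h3 := Q.is_maximal' h1 h2
      have : R' = f Q := by
        show R' = (Q : Subgroup M).map M.subtype
        rw [← h3, Subgroup.map_subgroupOf_eq_of_le hR'.1]
      exact absurd this (ne_of_gt hlt)
  rw [himage, Finset.sum_image (fun x _ y _ h => hf_inj h)]
  have hterm : ∀ Q : Sylow p M,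
      Nat.card ↥(M ⊓ Subgroup.normalizer ((f Q : Subgroup G) : Set G))
        = Nat.card (Subgroup.normalizer ((Q : Subgroup M) : Set M)) := by
    intro Q
    have h1 := Subgroup.subgroupOf_normalizer_eq (H := f Q) (N := M) (Subgroup.map_subtype_le _)
    have h2 : (f Q).subgroupOf M = (Q : Subgroup M) :=
      Subgroup.comap_map_eq_self_of_injective M.subtype_injective _
    rw [h2] at h1
    rw [← h1, inf_comm, ← Subgroup.inf_subgroupOf_right]
    exact (Nat.card_congr (Subgroup.subgroupOfEquivOfLe inf_le_right).toEquiv).symm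
  obtain ⟨Q0⟩ : Nonempty (Sylow p M) := inferInstance
  have hc : ∀ Q : Sylow p M, Nat.card (Subgroup.normalizer ((Q : Subgroup M) : Set M))
      = Nat.card (Subgroup.normalizer ((Q0 : Subgroup M) : Set M)) := by
    intro Q
    have e1 := Subgroup.card_mul_index (Subgroup.normalizer ((Q : Subgroup M) : Set M))
    have e2 := Subgroup.card_mul_index (Subgroup.normalizer ((Q0 : Subgroup M) : Set M))
    have e1' : Nat.card (Subgroup.normalizer ((Q : Subgroup M) : Set M)) * Nat.card (Sylow p M)
        = Nat.card M := by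
      rw [Q.card_eq_index_normalizer]; exact e1
    have e2' : Nat.card (Subgroup.normalizer ((Q0 : Subgroup M) : Set M)) * Nat.card (Sylow p M)
        = Nat.card M := by
      rw [Q0.card_eq_index_normalizer]; exact e2
    have hpos : 0 < Nat.card (Sylow p M) := Nat.card_pos
    exact Nat.eq_of_mul_eq_mul_right hpos (e1'.trans e2'.symm)
  have : ∀ Q ∈ (Finset.univ : Finset (Sylow p M)),
      (Nat.card ↥(M ⊓ Subgroup.normalizer ((f Q : Subgroup G) : Set G)) : ℤ)
        = (Nat.card (Subgroup.normalizer ((Q0 : Subgroup M) : Set M)) : ℤ) := by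
    intro Q _
    rw [hterm Q, hc Q]
  rw [Finset.sum_congr rfl this, Finset.sum_const, Finset.card_univ, ← Nat.card_eq_fintype_card,
    Q0.card_eq_index_normalizer, nsmul_eq_mul, mul_comm]
  exact_mod_cast Subgroup.card_mul_index (Subgroup.normalizer ((Q0 : Subgroup M) : Set M))

/-- the key vanishing statement: a non-maximal normal `p`-subgroup `R` of `M` has total weight `0` -/
theorem W_rel [Fact p.Prime] : ∀ (k : ℕ) (M R : Subgroup G), R ≤ M →
    M ≤ Subgroup.normalizer (R : Set G) → IsPGroup p R →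
    (∃ R' ∈ psub p M, R < R') → Nat.card M - Nat.card R = k → W p M R = 0 := by
  intro k
  induction' k using Nat.strong_induction_on with k ih
  intro M R hRM hMN hRp hnonmax hk
  have hexp := expand p M R
  have hL : ∑ g ∈ elts M, ∑ R' ∈ (fam p M g).filter (fun R' => R ≤ R'), wt (fam p M g) R'
      = Nat.card M := by
    rw [← card_elts, Finset.card_eq_sum_ones, Nat.cast_sum]
    apply Finset.sum_congr rfl
    intro g hg
    rw [mem_elts] at hg
    rw [Nat.cast_one]
    exact sum_wt _ ((mem_fam p M g R).mpr ⟨⟨hRM, hRp⟩, hMN hg⟩)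
  rw [hL] at hexp
  rw [← Finset.sum_filter_add_sum_filter_not _ (fun R' => ∀ R'' ∈ psub p M, ¬ R' < R'')] at hexp
  have h1 : ∑ R' ∈ ((psub p M).filter (fun R' => R ≤ R')).filter
      (fun R' => ∀ R'' ∈ psub p M, ¬ R' < R''), W p M R' = Nat.card M := by
    rw [← sylow_count p M]
    apply Finset.sum_congr
    · ext R'
      simp only [Finset.mem_filter, mem_psub]
      constructor
      · rintro ⟨⟨h, _⟩, h2⟩; exact ⟨h, h2⟩
      · rintro ⟨h, h2⟩
        refine ⟨⟨h, ?_⟩, h2⟩
        by_contra hle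
        have hsup : IsPGroup p (R' ⊔ R : Subgroup G) :=
          h.2.to_sup_of_normal_right' hRp (h.1.trans hMN)
        apply h2 (R' ⊔ R) ⟨sup_le h.1 hRM, hsup⟩
        exact lt_of_le_of_ne le_sup_left (fun he => hle (he ▸ le_sup_right))
    · intro R' hR'
      simp only [Finset.mem_filter] at hR'
      exact W_of_max p M R' hR'.2
  have h2 : ∑ R' ∈ ((psub p M).filter (fun R' => R ≤ R')).filter
      (fun R' => ¬ ∀ R'' ∈ psub p M, ¬ R' < R''), W p M R' = W p M R := by
    apply Finset.sum_eq_single R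
    · intro R' hR' hne
      simp only [Finset.mem_filter, mem_psub] at hR'
      obtain ⟨⟨⟨hR'M, hR'p⟩, hRR'⟩, hnm⟩ := hR'
      push Not at hnm
      obtain ⟨R'', hR'', hlt⟩ := hnm
      have hW : W p M R' = W p (M ⊓ Subgroup.normalizer (R' : Set G)) R' := by
        rw [W, W]
        have : M ⊓ Subgroup.normalizer (R' : Set G) ⊓ Subgroup.normalizer (R' : Set G)
            = M ⊓ Subgroup.normalizer (R' : Set G) := by
          rw [inf_assoc, inf_idem]
        rw [this]
      rw [hW]
      have hlt' : R < R' := lt_of_le_of_ne hRR' (Ne.symm hne)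
      apply ih (Nat.card ↥(M ⊓ Subgroup.normalizer (R' : Set G)) - Nat.card R') ?_ _ _
        (le_inf hR'M Subgroup.le_normalizer) inf_le_right hR'p ?_ rfl
      · have c1 : Nat.card ↥(M ⊓ Subgroup.normalizer (R' : Set G)) ≤ Nat.card M :=
          Subgroup.card_le_of_le inf_le_left
        have c2 : Nat.card R < Nat.card R' := card_lt hlt'
        have c3 : Nat.card R' ≤ Nat.card M := Subgroup.card_le_of_le hR'M
        omega
      · refine ⟨R'' ⊓ Subgroup.normalizer (R' : Set G), ?_, ?_⟩
        · rw [mem_psub]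
          exact ⟨inf_le_inf_right _ hR''.1, hR''.2.to_le inf_le_left⟩
        · apply lt_of_le_of_ne (le_inf hlt.le Subgroup.le_normalizer)
          intro he
          exact (ne_of_gt hlt) (eq_of_inf_normalizer_eq p hR''.2 hlt.le he.symm)
    · intro hnot
      exfalso
      apply hnot
      simp only [Finset.mem_filter, mem_psub]
      refine ⟨⟨⟨hRM, hRp⟩, le_refl _⟩, ?_⟩
      push Not
      obtain ⟨R', hR', hlt⟩ := hnonmax
      exact ⟨R', (mem_psub p M R').mp hR', hlt⟩
  rw [h1, h2] at hexp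
  linarith


/-- general vanishing: a non-maximal `p`-subgroup `R` of `M` has total weight `0` -/
theorem W_eq_zero [Fact p.Prime] (M R : Subgroup G) (hR : R ∈ psub p M)
    (hnm : ∃ R' ∈ psub p M, R < R') : W p M R = 0 := by
  rw [mem_psub] at hR
  obtain ⟨R'', hR'', hlt⟩ := hnm
  rw [mem_psub] at hR''
  have hW : W p M R = W p (M ⊓ Subgroup.normalizer (R : Set G)) R := by
    rw [W, W]
    have : M ⊓ Subgroup.normalizer (R : Set G) ⊓ Subgroup.normalizer (R : Set G)
        = M ⊓ Subgroup.normalizer (R : Set G) := by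
      rw [inf_assoc, inf_idem]
    rw [this]
  rw [hW]
  apply W_rel p _ _ _ (le_inf hR.1 Subgroup.le_normalizer) inf_le_right hR.2 ?_ rfl
  refine ⟨R'' ⊓ Subgroup.normalizer (R : Set G), ?_, ?_⟩
  · rw [mem_psub]
    exact ⟨inf_le_inf_right _ hR''.1, hR''.2.to_le inf_le_left⟩
  · apply lt_of_le_of_ne (le_inf hlt.le Subgroup.le_normalizer)
    intro he
    exact (ne_of_gt hlt) (eq_of_inf_normalizer_eq p hR''.2 hlt.le he.symm)

/-- the weights over the invariant `p`-subgroups containing `H` add up to the indicator of the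
subnormalizer -/
theorem indicator_eq [Fact p.Prime] (H : Subgroup G) (g : G) :
    ∑ R ∈ (fam p ⊤ g).filter (fun R => H ≤ R), wt (fam p ⊤ g) R
      = if (∃ R : Subgroup G, H ≤ R ∧ IsPGroup p R ∧ g ∈ Subgroup.normalizer (R : Set G))
        then 1 else 0 := by
  split_ifs with h
  · obtain ⟨R1, hHR1, hR1p, hgR1⟩ := h
    set 𝒮 : Set (Subgroup G) :=
      {R | H ≤ R ∧ IsPGroup p R ∧ g ∈ Subgroup.normalizer (R : Set G)} with h𝒮
    have hx0 : sInf 𝒮 ∈ fam p ⊤ g := by
      rw [mem_fam]
      refine ⟨⟨le_top, hR1p.to_le (sInf_le ⟨hHR1, hR1p, hgR1⟩)⟩, ?_⟩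
      rw [Subgroup.mem_set_normalizer_iff]
      intro x
      simp only [SetLike.mem_coe, Subgroup.mem_sInf]
      constructor
      · intro hx R hR
        exact ((Subgroup.mem_set_normalizer_iff.mp hR.2.2) x).mp (hx R hR)
      · intro hx R hR
        exact ((Subgroup.mem_set_normalizer_iff.mp hR.2.2) x).mpr (hx R hR)
    apply sum_wt_of_least _ H (sInf 𝒮) hx0
    · exact le_sInf (fun R hR => hR.1)
    · intro y hy hHy
      rw [mem_fam] at hy
      exact sInf_le ⟨hHy, hy.1.2, hy.2⟩
  · apply Finset.sum_eq_zero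
    intro R hR
    exfalso
    rw [Finset.mem_filter, mem_fam] at hR
    exact h ⟨R, hR.2, hR.1.1.2, hR.1.2⟩

/-- the maximal `p`-subgroups of `G` containing `H` -/
noncomputable def sylAbove (H : Subgroup G) : Finset (Subgroup G) :=
  ((psub p ⊤).filter (fun R => H ≤ R)).filter (fun R => ∀ R' ∈ psub p (⊤ : Subgroup G), ¬ R < R')

theorem mem_sylAbove (H R : Subgroup G) :
    R ∈ sylAbove p H ↔ (R ∈ psub p ⊤ ∧ H ≤ R) ∧ ∀ R' ∈ psub p (⊤ : Subgroup G), ¬ R < R' := by
  simp only [sylAbove, Finset.mem_filter]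

theorem casolo_int [Fact p.Prime] (H : Subgroup G) :
    (Nat.card {g : G // ∃ R : Subgroup G, H ≤ R ∧ IsPGroup p R ∧
        g ∈ Subgroup.normalizer (R : Set G)} : ℤ)
      = ∑ R ∈ sylAbove p H, (Nat.card (Subgroup.normalizer (R : Set G)) : ℤ) := by
  have hexp := expand p (⊤ : Subgroup G) H
  have hL : ∑ g ∈ elts (⊤ : Subgroup G), ∑ R ∈ (fam p ⊤ g).filter (fun R => H ≤ R),
      wt (fam p ⊤ g) R = (Nat.card {g : G // ∃ R : Subgroup G, H ≤ R ∧ IsPGroup p R ∧
        g ∈ Subgroup.normalizer (R : Set G)} : ℤ) := by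
    rw [Finset.sum_congr rfl (fun g _ => indicator_eq p H g), Finset.sum_boole]
    congr 1
    rw [← Fintype.card_coe, ← Nat.card_eq_fintype_card]
    apply Nat.card_congr
    apply Equiv.subtypeEquivRight
    intro g
    simp
  rw [hL] at hexp
  rw [hexp, ← Finset.sum_filter_add_sum_filter_not _ (fun R' => ∀ R'' ∈ psub p ⊤, ¬ R' < R'')]
  have h2 : ∑ R' ∈ ((psub p ⊤).filter (fun R' => H ≤ R')).filter
      (fun R' => ¬ ∀ R'' ∈ psub p (⊤ : Subgroup G), ¬ R' < R''), W p ⊤ R' = 0 := by
    apply Finset.sum_eq_zero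
    intro R' hR'
    simp only [Finset.mem_filter] at hR'
    obtain ⟨⟨hR'1, _⟩, hnm⟩ := hR'
    push Not at hnm
    exact W_eq_zero p ⊤ R' hR'1 hnm
  rw [h2, add_zero]
  refine Finset.sum_congr ?_ ?_
  · ext R
    simp only [sylAbove, Finset.mem_filter]
  · intro R' hR'
    rw [mem_sylAbove] at hR'
    rw [W_of_max p ⊤ R' hR'.2, top_inf_eq]

/-- **Casolo's formula**: the number of `g` normalizing some `p`-subgroup containing `H` is
the number of Sylow `p`-subgroups containing `H` times `|N_G(P)|`. -/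
theorem casolo [Fact p.Prime] (H : Subgroup G) (P : Sylow p G) :
    Nat.card {g : G // ∃ R : Subgroup G, H ≤ R ∧ IsPGroup p R ∧
        g ∈ Subgroup.normalizer (R : Set G)}
      = Nat.card {Q : Sylow p G // H ≤ (Q : Subgroup G)} *
        Nat.card (Subgroup.normalizer ((P : Subgroup G) : Set G)) := by
  have h := casolo_int p H
  have : Fintype {Q : Sylow p G // H ≤ (Q : Subgroup G)} := Fintype.ofFinite _
  let f : {Q : Sylow p G // H ≤ (Q : Subgroup G)} → Subgroup G := fun Q => (Q.1 : Subgroup G)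
  have hf_inj : Function.Injective f := by
    intro Q1 Q2 h
    exact Subtype.ext (Sylow.ext h)
  have himage : sylAbove p H = Finset.univ.image f := by
    ext R
    simp only [mem_sylAbove, mem_psub, Finset.mem_image, Finset.mem_univ, true_and]
    constructor
    · rintro ⟨⟨⟨_, hRp⟩, hHR⟩, hmax⟩
      obtain ⟨Q, hQ⟩ := hRp.exists_le_sylow
      have : R = (Q : Subgroup G) := by
        by_contra hne
        exact hmax Q ⟨le_top, Q.isPGroup'⟩ (lt_of_le_of_ne hQ hne)
      exact ⟨⟨Q, this ▸ hHR⟩, this.symm⟩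
    · rintro ⟨Q, rfl⟩
      refine ⟨⟨⟨le_top, Q.1.isPGroup'⟩, Q.2⟩, ?_⟩
      intro R' hR' hlt
      exact (ne_of_gt hlt) (Q.1.is_maximal' hR'.2 hlt.le)
  rw [himage, Finset.sum_image (fun x _ y _ h => hf_inj h)] at h
  have hc : ∀ Q : Sylow p G, Nat.card (Subgroup.normalizer ((Q : Subgroup G) : Set G))
      = Nat.card (Subgroup.normalizer ((P : Subgroup G) : Set G)) := by
    intro Q
    have e1 := Subgroup.card_mul_index (Subgroup.normalizer ((Q : Subgroup G) : Set G))
    have e2 := Subgroup.card_mul_index (Subgroup.normalizer ((P : Subgroup G) : Set G))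
    have e1' : Nat.card (Subgroup.normalizer ((Q : Subgroup G) : Set G)) * Nat.card (Sylow p G)
        = Nat.card G := by
      rw [Q.card_eq_index_normalizer]; exact e1
    have e2' : Nat.card (Subgroup.normalizer ((P : Subgroup G) : Set G)) * Nat.card (Sylow p G)
        = Nat.card G := by
      rw [P.card_eq_index_normalizer]; exact e2
    have hpos : 0 < Nat.card (Sylow p G) := Nat.card_pos
    exact Nat.eq_of_mul_eq_mul_right hpos (e1'.trans e2'.symm)
  have h3 : ∀ Q ∈ (Finset.univ : Finset {Q : Sylow p G // H ≤ (Q : Subgroup G)}),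
      (Nat.card (Subgroup.normalizer ((f Q : Subgroup G) : Set G)) : ℤ)
        = (Nat.card (Subgroup.normalizer ((P : Subgroup G) : Set G)) : ℤ) := by
    intro Q _
    rw [hc Q.1]
  rw [Finset.sum_congr rfl h3, Finset.sum_const, Finset.card_univ, ← Nat.card_eq_fintype_card,
    nsmul_eq_mul] at h
  exact_mod_cast h

end Cfsg.Agent.Lib.Helper68_Casolo
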