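import Mathlib
import Cfsg.Prelude.Def_SolvableStructure
import Cfsg.Agent.Lib.Helper9_Supersolvable
import Cfsg.Agent.Lib.Helper9_Supersolvable2
import Cfsg.Agent.Lib.Helper9_Supersolvable3

set_option autoImplicit false

namespace Cfsg.Agent.Lib.Helper9_Supersolvable6

open Subgroup (zpowers)
open Cfsg.Agent.Lib.Helper9_Supersolvable Cfsg.Agent.Lib.Helper9_Supersolvable2
  Cfsg.Agent.Lib.Helper9_Supersolvable3

universe u

variable {G : Type*} [Group G]

/-- A group of order `q * p` with `q < p` primes has a characteristic subgroup of order `p`. -/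
theorem exists_characteristic_card_eq {M : Type*} [Group M] [Finite M] (p q : ℕ) (hp : p.Prime)
    (hq : q.Prime) (hqp : q < p) (hM : Nat.card M = q * p) :
    ∃ P : Subgroup M, P.Characteristic ∧ Nat.card P = p := by
  have : Fact p.Prime := ⟨hp⟩
  let P : Sylow p M := default
  have hnd : ¬ p ∣ q := fun h => by
    have := (Nat.prime_dvd_prime_iff_eq hp hq).1 h
    omega
  have hfac : (Nat.card M).factorization p = 1 := by
    rw [hM, Nat.factorization_mul hq.ne_zero hp.ne_zero, Finsupp.add_apply,
      Nat.factorization_eq_zero_of_not_dvd hnd, hp.factorization_self]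
  have hcardP : Nat.card P = p := by
    rw [Sylow.card_eq_multiplicity, hfac, pow_one]
  have hidx : (P : Subgroup M).index = q := by
    have h1 : Nat.card (P : Subgroup M) * (P : Subgroup M).index = Nat.card M :=
      Subgroup.card_mul_index _
    rw [hcardP, hM, mul_comm q] at h1
    exact Nat.eq_of_mul_eq_mul_left hp.pos h1
  have h1 : Nat.card (Sylow p M) ∣ q := by
    rw [← hidx]
    exact P.card_dvd_index
  have h2 : Nat.card (Sylow p M) ≡ 1 [MOD p] := card_sylow_modEq_one p M
  have h3 : Nat.card (Sylow p M) = 1 := by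
    rcases (Nat.dvd_prime hq).1 h1 with h | h
    · exact h
    · exfalso
      rw [h] at h2
      have h4 : q % p = q := Nat.mod_eq_of_lt hqp
      have h5 : 1 % p = 1 := Nat.mod_eq_of_lt hp.one_lt
      unfold Nat.ModEq at h2
      rw [h4, h5] at h2
      exact hq.ne_one h2
  have : Subsingleton (Sylow p M) := (Nat.card_eq_one_iff_unique.1 h3).1
  exact ⟨P, Sylow.characteristic_of_subsingleton P, hcardP⟩

theorem exists_normal_card_eq_largest_prime_aux : ∀ (n : ℕ) (G : Type u) [Group G] [Finite G],
    Nat.card G = n → Cfsg.IsSupersolvable G → ∀ p : ℕ, p.Prime → p ∣ n →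
      (∀ q : ℕ, q.Prime → q ∣ n → q ≤ p) → ∃ N : Subgroup G, N.Normal ∧ Nat.card N = p := by
  intro n
  induction n using Nat.strong_induction_on with
  | _ n ih =>
    intro G _ _ hcard hG p hp hpn hmax
    have hnt : Nontrivial G := by
      rw [← Finite.one_lt_card_iff_nontrivial, hcard]
      exact lt_of_lt_of_le hp.one_lt (Nat.le_of_dvd (by rw [← hcard]; exact Nat.card_pos) hpn)
    obtain ⟨N₀, hN₀n, hN₀p⟩ := exists_normal_prime hG
    set q := Nat.card N₀ with hq
    have hmul : Nat.card G = Nat.card (G ⧸ N₀) * q :=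
      Subgroup.card_eq_card_quotient_mul_card_subgroup N₀
    have hqn : q ∣ n := by rw [← hcard, hmul]; exact dvd_mul_left _ _
    have hqle : q ≤ p := hmax q hN₀p hqn
    rcases eq_or_lt_of_le hqle with hqp | hqp
    · exact ⟨N₀, hN₀n, hqp⟩
    · have hlt : Nat.card (G ⧸ N₀) < n := by
        rw [← hcard]
        exact card_quotient_lt N₀ (ne_bot_of_card_prime hN₀p)
      have hpdvd : p ∣ Nat.card (G ⧸ N₀) := by
        rw [← hcard, hmul] at hpn
        have hcop : p.Coprime q := (Nat.coprime_primes hp hN₀p).2 (by omega)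
        exact hcop.dvd_of_dvd_mul_right hpn
      have hmax' : ∀ r : ℕ, r.Prime → r ∣ Nat.card (G ⧸ N₀) → r ≤ p := by
        intro r hr hrd
        apply hmax r hr
        rw [← hcard, hmul]
        exact dvd_mul_of_dvd_left hrd _
      obtain ⟨M', hM'n, hM'c⟩ := ih _ hlt (G ⧸ N₀) rfl (isSupersolvable_quotient N₀ hG) p hp
        hpdvd hmax'
      set M := M'.comap (QuotientGroup.mk' N₀) with hM
      have hMn : M.Normal := hM'n.comap _
      have hMc : Nat.card M = q * p := by rw [hM, card_comap_mk', hM'c]
      obtain ⟨P, hPc, hPcard⟩ := exists_characteristic_card_eq p q hp hN₀p hqp hMc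
      refine ⟨P.map M.subtype, inferInstance, ?_⟩
      rw [Subgroup.card_map_of_injective M.subtype_injective, hPcard]

/-- A finite supersolvable group has a normal subgroup whose order is the largest prime
dividing the group order. -/
theorem exists_normal_card_eq_largest_prime {G : Type u} [Group G] [Finite G]
    (hG : Cfsg.IsSupersolvable G) (p : ℕ) (hp : p.Prime) (hpn : p ∣ Nat.card G)
    (hmax : ∀ q : ℕ, q.Prime → q ∣ Nat.card G → q ≤ p) :
    ∃ N : Subgroup G, N.Normal ∧ Nat.card N = p :=
  exists_normal_card_eq_largest_prime_aux (Nat.card G) G rfl hG p hp hpn hmax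


/-! ### Chains with non-increasing prime indices -/

/-- `Up A b`: there is a chain of normal subgroups from `A` up to `⊤` whose steps have prime
index, the primes being non-increasing going up and all at most `b`. -/
inductive Up : Subgroup G → ℕ → Prop
  | top (b : ℕ) : Up ⊤ b
  | step (A B : Subgroup G) (b : ℕ) : A ≤ B → A.Normal → (A.relIndex B).Prime →
      A.relIndex B ≤ b → Up B (A.relIndex B) → Up A b

theorem Up.normal {A : Subgroup G} {b : ℕ} (h : Up A b) : A.Normal := by
  cases h with
  | top => infer_instance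
  | step A B b _ hn _ _ _ => exact hn

theorem Up.exists_chain {A : Subgroup G} {b : ℕ} (h : Up A b) :
    ∃ (n : ℕ) (H : Fin (n + 1) → Subgroup G), H 0 = A ∧ H (Fin.last n) = ⊤ ∧
      (∀ i, (H i).Normal) ∧
      (∀ i : Fin n, H i.castSucc ≤ H i.succ ∧ ((H i.castSucc).relIndex (H i.succ)).Prime) ∧
      (∀ i j : Fin n, i ≤ j →
        (H j.castSucc).relIndex (H j.succ) ≤ (H i.castSucc).relIndex (H i.succ)) ∧
      (∀ i : Fin n, (H i.castSucc).relIndex (H i.succ) ≤ b) := by
  induction h with
  | top b =>
    exact ⟨0, fun _ => ⊤, rfl, rfl, fun _ => inferInstance, fun i => i.elim0,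
      fun i => i.elim0, fun i => i.elim0⟩
  | step A B b hAB hAn hprime hle hB ih =>
    obtain ⟨n, H, h0, hl, hnorm, hstep, hmono, hbound⟩ := ih
    refine ⟨n + 1, Fin.cons A H, ?_, ?_, ?_, ?_, ?_, ?_⟩
    · rfl
    · have : Fin.last (n + 1) = (Fin.last n).succ := rfl
      rw [this, Fin.cons_succ, hl]
    · intro i
      refine Fin.cases ?_ (fun j => ?_) i
      · exact hAn
      · rw [Fin.cons_succ]; exact hnorm j
    · intro i
      refine Fin.cases ?_ (fun j => ?_) i
      · have e1 : (Fin.cons A H : Fin (n + 2) → Subgroup G) (Fin.castSucc (0 : Fin (n + 1))) = A :=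
          rfl
        have e2 : (Fin.cons A H : Fin (n + 2) → Subgroup G) (Fin.succ (0 : Fin (n + 1))) = B := by
          rw [Fin.cons_succ, h0]
        rw [e1, e2]
        exact ⟨hAB, hprime⟩
      · have e1 : (Fin.cons A H : Fin (n + 2) → Subgroup G) (Fin.castSucc j.succ) =
            H j.castSucc := by
          rw [← Fin.succ_castSucc, Fin.cons_succ]
        have e2 : (Fin.cons A H : Fin (n + 2) → Subgroup G) (Fin.succ j.succ) = H j.succ := by
          rw [Fin.cons_succ]
        rw [e1, e2]
        exact hstep j
    · intro i j hij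
      have e0c : (Fin.cons A H : Fin (n + 2) → Subgroup G) (Fin.castSucc (0 : Fin (n + 1))) = A :=
        rfl
      have e0s : (Fin.cons A H : Fin (n + 2) → Subgroup G) (Fin.succ (0 : Fin (n + 1))) = B := by
        rw [Fin.cons_succ, h0]
      have esc : ∀ k : Fin n, (Fin.cons A H : Fin (n + 2) → Subgroup G) (Fin.castSucc k.succ) =
          H k.castSucc := by
        intro k
        rw [← Fin.succ_castSucc, Fin.cons_succ]
      have ess : ∀ k : Fin n, (Fin.cons A H : Fin (n + 2) → Subgroup G) (Fin.succ k.succ) =
          H k.succ := by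
        intro k
        rw [Fin.cons_succ]
      revert hij
      refine Fin.cases ?_ (fun i' => ?_) i
      · refine Fin.cases ?_ (fun j' => ?_) j
        · intro _; exact le_rfl
        · intro _
          rw [e0c, e0s, esc, ess]
          exact hbound j'
      · refine Fin.cases ?_ (fun j' => ?_) j
        · intro hij
          exact absurd hij (by simp [Fin.succ_ne_zero])
        · intro hij
          rw [esc, ess, esc, ess]
          exact hmono i' j' (Fin.succ_le_succ_iff.1 hij)
    · intro i
      refine Fin.cases ?_ (fun j => ?_) i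
      · have e1 : (Fin.cons A H : Fin (n + 2) → Subgroup G) (Fin.castSucc (0 : Fin (n + 1))) = A :=
          rfl
        have e2 : (Fin.cons A H : Fin (n + 2) → Subgroup G) (Fin.succ (0 : Fin (n + 1))) = B := by
          rw [Fin.cons_succ, h0]
        rw [e1, e2]
        exact hle
      · have e1 : (Fin.cons A H : Fin (n + 2) → Subgroup G) (Fin.castSucc j.succ) =
            H j.castSucc := by
          rw [← Fin.succ_castSucc, Fin.cons_succ]
        have e2 : (Fin.cons A H : Fin (n + 2) → Subgroup G) (Fin.succ j.succ) = H j.succ := by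
          rw [Fin.cons_succ]
        rw [e1, e2]
        exact (hbound j).trans hle

theorem Up.comap_mk (N : Subgroup G) [N.Normal] {A : Subgroup (G ⧸ N)} {b : ℕ} (h : Up A b) :
    Up (A.comap (QuotientGroup.mk' N)) b := by
  induction h with
  | top b => rw [Subgroup.comap_top]; exact Up.top b
  | step A B b hAB hAn hprime hle hB ih =>
    have hrel : (A.comap (QuotientGroup.mk' N)).relIndex (B.comap (QuotientGroup.mk' N)) =
        A.relIndex B := by
      rw [Subgroup.relIndex_comap,
        Subgroup.map_comap_eq_self_of_surjective (QuotientGroup.mk'_surjective N)]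
    refine Up.step _ (B.comap (QuotientGroup.mk' N)) b (Subgroup.comap_mono hAB) (hAn.comap _)
      ?_ ?_ ?_
    · rw [hrel]; exact hprime
    · rw [hrel]; exact hle
    · rw [hrel]; exact ih

theorem up_bot_aux : ∀ (n : ℕ) (G : Type u) [Group G] [Finite G], Nat.card G = n →
    Cfsg.IsSupersolvable G → ∀ b : ℕ, (∀ q : ℕ, q.Prime → q ∣ n → q ≤ b) →
      Up (⊥ : Subgroup G) b := by
  intro n
  induction n using Nat.strong_induction_on with
  | _ n ih =>
    intro G _ _ hcard hG b hb
    rcases subsingleton_or_nontrivial G with hs | hnt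
    · have : (⊥ : Subgroup G) = ⊤ := Subsingleton.elim _ _
      rw [this]
      exact Up.top b
    · have hn1 : 1 < n := by
        rw [← hcard]; exact Finite.one_lt_card
      -- the largest prime divisor of `n`
      have hne : n.primeFactors.Nonempty := Nat.nonempty_primeFactors.2 hn1
      obtain ⟨p, hpmem, hpmax⟩ := Finset.exists_max_image n.primeFactors id hne
      have hp : p.Prime := Nat.prime_of_mem_primeFactors hpmem
      have hpn : p ∣ n := Nat.dvd_of_mem_primeFactors hpmem
      have hmax : ∀ q : ℕ, q.Prime → q ∣ n → q ≤ p := by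
        intro q hq hqn
        exact hpmax q (Nat.mem_primeFactors.2 ⟨hq, hqn, by omega⟩)
      obtain ⟨N, hNn, hNc⟩ := exists_normal_card_eq_largest_prime_aux n G hcard hG p hp hpn hmax
      have hNp : (Nat.card N).Prime := by rw [hNc]; exact hp
      have hlt : Nat.card (G ⧸ N) < n := by
        rw [← hcard]
        exact card_quotient_lt N (ne_bot_of_card_prime hNp)
      have hmul : Nat.card G = Nat.card (G ⧸ N) * Nat.card N :=
        Subgroup.card_eq_card_quotient_mul_card_subgroup N
      have hmax' : ∀ r : ℕ, r.Prime → r ∣ Nat.card (G ⧸ N) → r ≤ p := by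
        intro r hr hrd
        apply hmax r hr
        rw [← hcard, hmul]
        exact dvd_mul_of_dvd_left hrd _
      have h1 := ih _ hlt (G ⧸ N) rfl (isSupersolvable_quotient N hG) p hmax'
      have h2 := h1.comap_mk N
      rw [MonoidHom.comap_bot, QuotientGroup.ker_mk'] at h2
      have hrel : (⊥ : Subgroup G).relIndex N = p := by
        rw [Subgroup.relIndex_bot_left, hNc]
      refine Up.step ⊥ N b bot_le inferInstance ?_ ?_ ?_
      · rw [hrel]; exact hp
      · rw [hrel]; exact hb p hp hpn
      · rw [hrel]; exact h2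

/-- A finite supersolvable group has a chain of normal subgroups from `⊥` to `⊤` with steps of
prime index, the primes being non-increasing going up. -/
theorem exists_chain_decreasing_primes {G : Type u} [Group G] [Finite G]
    (hG : Cfsg.IsSupersolvable G) :
    ∃ (n : ℕ) (H : Fin (n + 1) → Subgroup G), H 0 = ⊥ ∧ H (Fin.last n) = ⊤ ∧
      (∀ i, (H i).Normal) ∧
      (∀ i : Fin n, H i.castSucc ≤ H i.succ ∧ ((H i.castSucc).relIndex (H i.succ)).Prime) ∧
      ∀ i j : Fin n, i ≤ j →
        (H j.castSucc).relIndex (H j.succ) ≤ (H i.castSucc).relIndex (H i.succ) := by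
  have h := up_bot_aux (Nat.card G) G rfl hG (Nat.card G)
    (fun q _ hq => Nat.le_of_dvd Nat.card_pos hq)
  obtain ⟨n, H, h0, hl, hn, hs, hm, _⟩ := h.exists_chain
  exact ⟨n, H, h0, hl, hn, hs, hm⟩

end Cfsg.Agent.Lib.Helper9_Supersolvable6
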