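import Mathlib
import Cfsg.Prelude.Def_SolvableStructure
import Cfsg.Agent.Lib.Helper9_Supersolvable
import Cfsg.Agent.Lib.Helper9_Supersolvable2
import Cfsg.Agent.Lib.Helper9_Supersolvable3
import Cfsg.Agent.Lib.Helper9_Supersolvable6
import Cfsg.Agent.Lib.Helper35_FrobeniusNPC
import Cfsg.Agent.S0580

/-!
# Groups all of whose proper subgroups are supersolvable are solvable

* `isSolvable_of_isSupersolvable`
* `hasNPC_of_isSupersolvable`: a supersolvable group has a normal `p`-complement for every prime
  `p` not exceeding the prime divisors of its order;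
* `isSolvable_of_proper_supersolvable` (Huppert–Doerk).
-/

set_option autoImplicit false

namespace Cfsg.Agent.Lib.Helper68_MinNonSup

open Cfsg.Agent.Lib.Helper9_Supersolvable Cfsg.Agent.Lib.Helper9_Supersolvable2
  Cfsg.Agent.Lib.Helper9_Supersolvable3 Cfsg.Agent.Lib.Helper9_Supersolvable6
  Cfsg.Agent.Lib.Helper35_FrobeniusNPC

universe u

theorem isSolvable_of_isSupersolvable {G : Type*} [Group G] [Finite G]
    (hG : Cfsg.IsSupersolvable G) : Group.IsSolvable G :=
  Cfsg.Agent.S0580.result (fun M hM => index_prime_of_isCoatom hG M hM)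

theorem hasNPC_of_isSupersolvable_aux (p : ℕ) [hp : Fact p.Prime] :
    ∀ (n : ℕ) (H : Type u) [Group H] [Finite H], Nat.card H = n → Cfsg.IsSupersolvable H →
      (∀ q : ℕ, q.Prime → q ∣ Nat.card H → p ≤ q) → HasNPC p H := by
  intro n
  induction n using Nat.strong_induction_on with
  | _ n ih => ?_
  intro H _ _ hn hH hmin
  by_cases hcop : (Nat.card H).Coprime p
  · exact ⟨⊤, inferInstance, by rwa [Subgroup.card_top], 0, by simp⟩
  have hpn : p ∣ Nat.card H := by
    by_contra h
    exact hcop ((Nat.Prime.coprime_iff_not_dvd hp.out).2 h).symm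
  have hn1 : 1 < Nat.card H :=
    lt_of_lt_of_le hp.out.one_lt (Nat.le_of_dvd Nat.card_pos hpn)
  have hne : (Nat.card H).primeFactors.Nonempty := Nat.nonempty_primeFactors.2 hn1
  obtain ⟨r, hrmem, hrmax⟩ := Finset.exists_max_image (Nat.card H).primeFactors id hne
  have hr : r.Prime := Nat.prime_of_mem_primeFactors hrmem
  have hrn : r ∣ Nat.card H := Nat.dvd_of_mem_primeFactors hrmem
  have hmax : ∀ q : ℕ, q.Prime → q ∣ Nat.card H → q ≤ r := by
    intro q hq hqn
    exact hrmax q (Nat.mem_primeFactors.2 ⟨hq, hqn, by omega⟩)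
  obtain ⟨N, hNn, hNr⟩ := exists_normal_card_eq_largest_prime hH r hr hrn hmax
  by_cases hrp : r = p
  · -- `H` is a `p`-group
    have hcard : Nat.card H = p ^ (Nat.card H).primeFactorsList.length := by
      apply Nat.eq_prime_pow_of_unique_prime_dvd (by omega)
      intro d hd hdn
      exact le_antisymm (hrp ▸ hmax d hd hdn) (hmin d hd hdn)
    refine ⟨⊥, inferInstance, by simp, (Nat.card H).primeFactorsList.length, ?_⟩
    rw [Subgroup.index_bot]
    exact hcard
  · have hpr : p < r := lt_of_le_of_ne (hmin r hr hrn) (Ne.symm hrp)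
    have hNcop : (Nat.card N).Coprime p := by
      rw [hNr]
      exact (Nat.coprime_primes hr hp.out).2 hrp
    have hN0 : N ≠ ⊥ := by
      intro h
      rw [h, Subgroup.card_bot] at hNr
      exact hr.ne_one hNr.symm
    have hlt : Nat.card (H ⧸ N) < n := by
      rw [← hn]; exact card_quotient_lt N hN0
    have hQ : Cfsg.IsSupersolvable (H ⧸ N) := isSupersolvable_quotient N hH
    have hminQ : ∀ q : ℕ, q.Prime → q ∣ Nat.card (H ⧸ N) → p ≤ q := by
      intro q hq hqn
      exact hmin q hq (hqn.trans (Subgroup.card_quotient_dvd_card N))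
    obtain ⟨K, hKn, hKc, m, hKi⟩ := ih _ hlt (H ⧸ N) rfl hQ hminQ
    refine ⟨K.comap (QuotientGroup.mk' N), hKn.comap _, ?_, m, ?_⟩
    · rw [card_comap_mk']
      exact Nat.Coprime.mul_left hNcop hKc
    · rw [Subgroup.index_comap_of_surjective _ (QuotientGroup.mk'_surjective N)]
      exact hKi

/-- a finite supersolvable group has a normal `p`-complement for the smallest prime divisor `p`
of its order (more generally for every prime below all prime divisors). -/
theorem hasNPC_of_isSupersolvable {H : Type u} [Group H] [Finite H] (p : ℕ) [Fact p.Prime]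
    (hH : Cfsg.IsSupersolvable H) (hmin : ∀ q : ℕ, q.Prime → q ∣ Nat.card H → p ≤ q) :
    HasNPC p H :=
  hasNPC_of_isSupersolvable_aux p _ H rfl hH hmin

/-- **Huppert–Doerk**: a finite group all of whose proper subgroups are supersolvable is
solvable. -/
theorem isSolvable_of_proper_supersolvable {G : Type u} [Group G] [Finite G]
    (h : ∀ H : Subgroup G, H ≠ ⊤ → Cfsg.IsSupersolvable H) : Group.IsSolvable G := by
  classical
  rcases subsingleton_or_nontrivial G with hsub | hnt
  · infer_instance
  have hn1 : Nat.card G ≠ 1 := by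
    have : 1 < Nat.card G := Finite.one_lt_card
    omega
  obtain ⟨p, hpdef⟩ : ∃ p, p = (Nat.card G).minFac := ⟨_, rfl⟩
  have hpp : p.Prime := hpdef ▸ Nat.minFac_prime hn1
  have hpG : p ∣ Nat.card G := hpdef ▸ Nat.minFac_dvd _
  have hpmin : ∀ q : ℕ, q.Prime → q ∣ Nat.card G → p ≤ q := by
    intro q hq hqn
    rw [hpdef]
    exact Nat.minFac_le_of_dvd hq.two_le hqn
  have : Fact p.Prime := ⟨hpp⟩
  by_cases hF : FrobHyp p G
  · obtain ⟨K, hKn, hKc, n, hKi⟩ := hasNPC_of_frobHyp hF
    have hKtop : K ≠ ⊤ := by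
      intro hK
      rw [hK, Subgroup.card_top] at hKc
      exact (Nat.Prime.coprime_iff_not_dvd hpp).1 hKc.symm hpG
    have hKs : Group.IsSolvable K := isSolvable_of_isSupersolvable (h K hKtop)
    have hQp : IsPGroup p (G ⧸ K) := by
      apply IsPGroup.of_card (n := n)
      rw [← Subgroup.index_eq_card, hKi]
    have hQs : Group.IsSolvable (G ⧸ K) := by
      have := hQp.isNilpotent
      infer_instance
    exact (Group.isSolvable_iff_subgroup_quotient K).2 ⟨hKs, hQs⟩
  · unfold FrobHyp at hF
    push Not at hF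
    obtain ⟨Q, hQ, g, hgN, hgo, hgC⟩ := hF
    by_cases hH : Q ⊔ Subgroup.zpowers g = ⊤
    · -- `Q` is normal and `G ⧸ Q` is cyclic
      have hQn : Q.Normal := by
        rw [← Subgroup.normalizer_eq_top_iff, eq_top_iff, ← hH]
        exact sup_le Subgroup.le_normalizer ((Subgroup.zpowers_le).2 hgN)
      have hQs : Group.IsSolvable Q := by
        have := hQ.isNilpotent
        infer_instance
      have hz : Subgroup.zpowers (QuotientGroup.mk' Q g) = ⊤ := by
        have h1 : (Q ⊔ Subgroup.zpowers g).map (QuotientGroup.mk' Q) = ⊤ := by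
          rw [hH]
          exact Subgroup.map_top_of_surjective _ (QuotientGroup.mk'_surjective Q)
        rw [Subgroup.map_sup, QuotientGroup.map_mk'_self, bot_sup_eq, MonoidHom.map_zpowers] at h1
        exact h1
      have hQq : Group.IsSolvable (G ⧸ Q) := by
        apply Group.isSolvable_of_comm
        intro a b
        have ha : a ∈ Subgroup.zpowers (QuotientGroup.mk' Q g) := by rw [hz]; trivial
        have hb : b ∈ Subgroup.zpowers (QuotientGroup.mk' Q g) := by rw [hz]; trivial
        obtain ⟨i, rfl⟩ := Subgroup.mem_zpowers_iff.1 ha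
        obtain ⟨j, rfl⟩ := Subgroup.mem_zpowers_iff.1 hb
        rw [← zpow_add, ← zpow_add, add_comm]
      exact (Group.isSolvable_iff_subgroup_quotient Q).2 ⟨hQs, hQq⟩
    · exfalso
      apply hgC
      have hHs := h _ hH
      have hle : Q ≤ Q ⊔ Subgroup.zpowers g := le_sup_left
      have hgH : g ∈ Q ⊔ Subgroup.zpowers g :=
        (le_sup_right : Subgroup.zpowers g ≤ _) (Subgroup.mem_zpowers g)
      have hminH : ∀ q : ℕ, q.Prime → q ∣ Nat.card ↥(Q ⊔ Subgroup.zpowers g) → p ≤ q := by
        intro q hq hqn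
        exact hpmin q hq (hqn.trans (Subgroup.card_subgroup_dvd_card _))
      have hnpc := hasNPC_of_isSupersolvable p hHs hminH
      have hFH := frobHyp_of_hasNPC hnpc
      have hQ' : IsPGroup p (Q.subgroupOf (Q ⊔ Subgroup.zpowers g)) := hQ.comap_subtype
      have hg' : (⟨g, hgH⟩ : ↥(Q ⊔ Subgroup.zpowers g)) ∈
          Subgroup.normalizer ((Q.subgroupOf (Q ⊔ Subgroup.zpowers g) :
            Subgroup ↥(Q ⊔ Subgroup.zpowers g)) : Set ↥(Q ⊔ Subgroup.zpowers g)) := by
        rw [Subgroup.mem_normalizer_iff]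
        intro x
        rw [Subgroup.mem_subgroupOf, Subgroup.mem_subgroupOf]
        have := (Subgroup.mem_normalizer_iff.1 hgN) (x : G)
        simpa using this
      have hgo' : (orderOf (⟨g, hgH⟩ : ↥(Q ⊔ Subgroup.zpowers g))).Coprime p := by
        rw [Subgroup.orderOf_mk]; exact hgo
      have hc := hFH _ hQ' _ hg' hgo'
      rw [Subgroup.mem_centralizer_iff] at hc ⊢
      intro x hx
      have := hc ⟨x, hle hx⟩ (by rw [SetLike.mem_coe, Subgroup.mem_subgroupOf]; exact hx)
      exact congrArg Subtype.val this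

end Cfsg.Agent.Lib.Helper68_MinNonSup
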