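import Mathlib
import Cfsg.Prelude.Def_SolvableStructure
import Cfsg.Agent.Lib.Helper9_Supersolvable
import Cfsg.Agent.Lib.Helper9_Supersolvable2

/-!
# Supersolvable linear groups all of whose prime-power-order elements are quasi-scalar

`main`: a finite supersolvable group acting faithfully and irreducibly on a finite vector space
over `ZMod s`, such that every element `x` of prime power order (prime `≠ s`) acts as a scalar on
the range of `ρ x - 1`, acts on a space spanned by one vector.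
-/

set_option autoImplicit false

namespace Cfsg.Agent.Lib.Helper68_QuasiScalar

open Cfsg.Agent.Lib.Helper9_Supersolvable Cfsg.Agent.Lib.Helper9_Supersolvable2

section F1

variable {M : Type*} [Group M] [Finite M]

theorem zpow_mem_submonoid (S : Submonoid M) {x : M} (hx : x ∈ S) (k : ℤ) : x ^ k ∈ S := by
  have hinv : x⁻¹ ∈ S := by
    have h1 : x⁻¹ = x ^ (orderOf x - 1) := by
      have h2 : x * x ^ (orderOf x - 1) = 1 := by
        rw [← pow_succ', Nat.sub_add_cancel (orderOf_pos x), pow_orderOf_eq_one]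
      exact (eq_inv_of_mul_eq_one_right h2).symm ▸ rfl
    rw [h1]
    exact S.pow_mem hx _
  cases k with
  | ofNat n => simpa using S.pow_mem hx n
  | negSucc n =>
    rw [zpow_negSucc, ← inv_pow]
    exact S.pow_mem hinv _

/-- A submonoid of a finite group containing all elements of prime power order is everything. -/
theorem submonoid_eq_top_of_primePow (S : Submonoid M)
    (h : ∀ x : M, ∀ r a : ℕ, r.Prime → orderOf x = r ^ a → x ∈ S) : S = ⊤ := by
  rw [eq_top_iff]
  rintro g -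
  suffices H : ∀ n : ℕ, ∀ g : M, orderOf g = n → g ∈ S from H _ g rfl
  intro n
  induction n using Nat.strong_induction_on with
  | _ n ih => ?_
  intro g hn
  by_cases h1 : n = 1
  · rw [h1] at hn
    rw [orderOf_eq_one_iff] at hn
    rw [hn]; exact S.one_mem
  have hn0 : n ≠ 0 := by rw [← hn]; exact (orderOf_pos g).ne'
  obtain ⟨r, hr, hrn⟩ := Nat.exists_prime_and_dvd h1
  obtain ⟨a, u, hru, hnu⟩ := Nat.exists_eq_pow_mul_and_not_dvd hn0 r hr.ne_one
  have ha : a ≠ 0 := by
    rintro rfl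
    rw [pow_zero, one_mul] at hnu
    exact hru (hnu ▸ hrn)
  have hu0 : u ≠ 0 := by
    rintro rfl
    simp at hnu; exact hn0 hnu
  -- g₁ = g ^ u has order r ^ a
  have ho1 : orderOf (g ^ u) = r ^ a := by
    rw [orderOf_pow' g hu0, hn, hnu, Nat.gcd_mul_left_left, Nat.mul_div_cancel _ (Nat.pos_of_ne_zero hu0)]
  have ho2 : orderOf (g ^ (r ^ a)) = u := by
    rw [orderOf_pow' g (pow_ne_zero _ hr.ne_zero), hn, hnu, Nat.gcd_mul_right_left,
      Nat.mul_div_cancel_left _ (pow_pos hr.pos _)]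
  have hm1 : g ^ u ∈ S := h _ r a hr ho1
  have hult : u < n := by
    rw [hnu]
    have : 1 < r ^ a := Nat.one_lt_pow ha hr.one_lt
    nlinarith [Nat.pos_of_ne_zero hu0]
  have hm2 : g ^ (r ^ a) ∈ S := ih u hult _ ho2
  have hcop : Nat.Coprime u (r ^ a) := by
    apply Nat.Coprime.pow_right
    exact (Nat.Coprime.symm ((Nat.Prime.coprime_iff_not_dvd hr).2 hru))
  have hb := Nat.gcd_eq_gcd_ab u (r ^ a)
  rw [hcop] at hb
  have hg : g = (g ^ u) ^ (Nat.gcdA u (r ^ a)) * (g ^ (r ^ a)) ^ (Nat.gcdB u (r ^ a)) := by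
    rw [← zpow_natCast, ← zpow_natCast, ← zpow_mul, ← zpow_mul, ← zpow_add]
    have : (u : ℤ) * Nat.gcdA u (r ^ a) + ((r ^ a : ℕ) : ℤ) * Nat.gcdB u (r ^ a) = 1 := by
      rw [← hb]; simp
    rw [this, zpow_one]
  rw [hg]
  exact S.mul_mem (zpow_mem_submonoid S hm1 _) (zpow_mem_submonoid S hm2 _)

end F1

section Linear

variable {s : ℕ} [hs : Fact s.Prime] {M V : Type*} [Group M]
  [AddCommGroup V] [Module (ZMod s) V]

/-- quasi-scalar hypothesis: every element of prime power order (prime `≠ s`) acts as a scalar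
on each vector of the range of `ρ x - 1`. -/
def QS (ρ : Representation (ZMod s) M V) : Prop :=
  ∀ x : M, ∀ r a : ℕ, r.Prime → r ≠ s → orderOf x = r ^ a →
    ∀ v : V, ∃ k : ZMod s, ρ x ((ρ x - 1) v) = k • ((ρ x - 1) v)

theorem rho_inv_apply (ρ : Representation (ZMod s) M V) (x : M) (v : V) :
    ρ x⁻¹ (ρ x v) = v := by
  rw [← Module.End.mul_apply, ← map_mul, inv_mul_cancel, map_one, Module.End.one_apply]

theorem rho_apply_inv (ρ : Representation (ZMod s) M V) (x : M) (v : V) :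
    ρ x (ρ x⁻¹ v) = v := by
  rw [← Module.End.mul_apply, ← map_mul, mul_inv_cancel, map_one, Module.End.one_apply]

theorem rho_injective (ρ : Representation (ZMod s) M V) (x : M) : Function.Injective (ρ x) := by
  intro v w h
  rw [← rho_inv_apply ρ x v, h, rho_inv_apply]

theorem mem_ker_sub_one (ρ : Representation (ZMod s) M V) (x : M) (v : V) :
    v ∈ LinearMap.ker (ρ x - 1) ↔ ρ x v = v := by
  rw [LinearMap.mem_ker, LinearMap.sub_apply, Module.End.one_apply, sub_eq_zero]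

theorem natCast_ne_zero_of_coprime {k : ℕ} (hk : k.Coprime s) : (k : ZMod s) ≠ 0 := by
  rw [Ne, ZMod.natCast_eq_zero_iff]
  intro h
  have := Nat.eq_one_of_dvd_coprimes hk h (dvd_refl s)
  exact hs.out.one_lt.ne' this

theorem ker_inf_range (ρ : Representation (ZMod s) M V) (x : M) (hx : (orderOf x).Coprime s) :
    LinearMap.ker (ρ x - 1) ⊓ LinearMap.range (ρ x - 1) = ⊥ := by
  rw [eq_bot_iff]
  rintro c ⟨hc1, v, hv⟩
  rw [SetLike.mem_coe, mem_ker_sub_one] at hc1
  rw [LinearMap.sub_apply, Module.End.one_apply] at hv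
  have hxv : ρ x v = v + c := by rw [← hv]; abel
  have key : ∀ i : ℕ, ρ (x ^ i) v = v + i • c := by
    intro i
    induction i with
    | zero => simp
    | succ i ih =>
      rw [pow_succ', map_mul, Module.End.mul_apply, ih, map_add, map_nsmul, hxv, hc1]
      rw [succ_nsmul]; abel
  have h1 := key (orderOf x)
  rw [pow_orderOf_eq_one, map_one, Module.End.one_apply] at h1
  have h2 : (orderOf x) • c = 0 := by
    have := h1.symm
    rwa [add_eq_left] at this
  rw [← Nat.cast_smul_eq_nsmul (ZMod s)] at h2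
  rcases smul_eq_zero.1 h2 with h3 | h3
  · exact absurd h3 (natCast_ne_zero_of_coprime hx)
  · simpa using h3

variable [Finite V]

theorem ker_sup_range (ρ : Representation (ZMod s) M V) (x : M) (hx : (orderOf x).Coprime s) :
    LinearMap.ker (ρ x - 1) ⊔ LinearMap.range (ρ x - 1) = ⊤ := by
  have : Module.Finite (ZMod s) V := Module.Finite.of_finite
  apply Submodule.eq_top_of_finrank_eq
  have h1 := LinearMap.finrank_range_add_finrank_ker (ρ x - 1)
  have h2 := Submodule.finrank_sup_add_finrank_inf_eq (LinearMap.ker (ρ x - 1))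
    (LinearMap.range (ρ x - 1))
  rw [ker_inf_range ρ x hx, finrank_bot] at h2
  omega

omit [Finite V] in
/-- a linear map having every vector of a submodule as an eigenvector is a scalar there -/
theorem exists_scalar (f : V →ₗ[ZMod s] V) (W : Submodule (ZMod s) V)
    (h : ∀ w ∈ W, ∃ k : ZMod s, f w = k • w) : ∃ e : ZMod s, ∀ w ∈ W, f w = e • w := by
  by_cases hW : ∀ w ∈ W, w = 0
  · exact ⟨0, fun w hw => by rw [hW w hw]; simp⟩
  push Not at hW
  obtain ⟨w₀, hw₀, hw₀0⟩ := hW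
  obtain ⟨e, he⟩ := h w₀ hw₀
  refine ⟨e, fun w hw => ?_⟩
  by_cases hdep : ∃ t : ZMod s, w = t • w₀
  · obtain ⟨t, rfl⟩ := hdep
    rw [map_smul, he, smul_comm]
  push Not at hdep
  obtain ⟨k, hk⟩ := h w hw
  obtain ⟨k', hk'⟩ := h (w + w₀) (W.add_mem hw hw₀)
  rw [map_add, hk, he, smul_add] at hk'
  have h1 : (k - k') • w = (k' - e) • w₀ := by
    rw [sub_smul, sub_smul, sub_eq_sub_iff_add_eq_add]
    rw [hk']; abel
  by_cases hkk : k - k' = 0
  · rw [hkk, zero_smul] at h1
    rcases smul_eq_zero.1 h1.symm with h2 | h2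
    · rw [hk, sub_eq_zero.1 hkk, sub_eq_zero.1 h2]
    · exact absurd h2 hw₀0
  · exfalso
    apply hdep ((k - k')⁻¹ * (k' - e))
    rw [mul_smul, ← h1, smul_smul, inv_mul_cancel₀ hkk, one_smul]

/-- the submodule of vectors fixed by all elements of a subgroup -/
def fixedSub (ρ : Representation (ZMod s) M V) (T : Subgroup M) : Submodule (ZMod s) V where
  carrier := {v | ∀ t ∈ T, ρ t v = v}
  add_mem' := by
    intro a b ha hb t ht
    rw [map_add, ha t ht, hb t ht]
  zero_mem' := by intro t _; simp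
  smul_mem' := by
    intro c v hv t ht
    rw [map_smul, hv t ht]

omit [Finite V] in
theorem mem_fixedSub (ρ : Representation (ZMod s) M V) (T : Subgroup M) (v : V) :
    v ∈ fixedSub ρ T ↔ ∀ t ∈ T, ρ t v = v := Iff.rfl

theorem card_V [Nontrivial V] : s ∣ Nat.card V := by
  have : Module.Finite (ZMod s) V := Module.Finite.of_finite
  have h1 : Nat.card V = Nat.card (ZMod s) ^ Module.finrank (ZMod s) V :=
    Module.natCard_eq_pow_finrank
  rw [h1, Nat.card_zmod]
  have h2 : 0 < Module.finrank (ZMod s) V := Module.finrank_pos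
  exact dvd_pow_self s h2.ne'

/-- P1: a normal `s`-subgroup of a group acting faithfully and irreducibly in characteristic
`s` is trivial. -/
theorem normal_sgroup_eq_bot [Nontrivial V] (ρ : Representation (ZMod s) M V)
    (hfaith : ∀ m : M, ρ m = 1 → m = 1)
    (hirr : ∀ W : Submodule (ZMod s) V, (∀ m : M, ∀ w ∈ W, ρ m w ∈ W) → W = ⊥ ∨ W = ⊤)
    (T : Subgroup M) [hTn : T.Normal] (hT : IsPGroup s T) : T = ⊥ := by
  let _ : MulAction T V :=
    { smul := fun t v => ρ (t : M) v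
      one_smul := by intro v; show ρ ((1 : T) : M) v = v; simp
      mul_smul := by
        intro a b v
        show ρ ((a * b : T) : M) v = ρ (a : M) (ρ (b : M) v)
        simp [map_mul] }
  have hsm : ∀ (t : T) (v : V), t • v = ρ (t : M) v := fun _ _ => rfl
  have h1 := hT.card_modEq_card_fixedPoints V
  have h2 : s ∣ Nat.card (MulAction.fixedPoints T V) := by
    have h3 : s ∣ Nat.card V := card_V
    exact (Nat.modEq_zero_iff_dvd.1 ((h1.symm).trans (Nat.modEq_zero_iff_dvd.2 h3)))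
  have h4 : 1 < Nat.card (MulAction.fixedPoints T V) := by
    have : 0 < Nat.card (MulAction.fixedPoints T V) := by
      have : Nonempty (MulAction.fixedPoints T V) := ⟨⟨0, fun t => by rw [hsm]; simp⟩⟩
      exact Nat.card_pos
    exact lt_of_lt_of_le hs.out.one_lt (Nat.le_of_dvd this h2)
  rw [Finite.one_lt_card_iff_nontrivial] at h4
  obtain ⟨⟨v, hv⟩, hv0⟩ := exists_ne (⟨0, fun t => by rw [hsm]; simp⟩ : MulAction.fixedPoints T V)
  have hv0' : v ≠ 0 := fun h => hv0 (Subtype.ext h)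
  have hvF : v ∈ fixedSub ρ T := fun t ht => hv ⟨t, ht⟩
  have hinv : ∀ m : M, ∀ w ∈ fixedSub ρ T, ρ m w ∈ fixedSub ρ T := by
    intro m w hw t ht
    have h5 : m⁻¹ * t * m ∈ T := by
      have := hTn.conj_mem t ht m⁻¹
      simpa using this
    have h6 := hw _ h5
    have h7 : ρ t (ρ m w) = ρ m (ρ (m⁻¹ * t * m) w) := by
      rw [← Module.End.mul_apply, ← Module.End.mul_apply, ← map_mul, ← map_mul]
      congr 2
      group
    rw [h7, h6]
  rcases hirr _ hinv with h | h
  · rw [h, Submodule.mem_bot] at hvF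
    exact absurd hvF hv0'
  · rw [eq_bot_iff]
    intro t ht
    rw [Subgroup.mem_bot]
    apply hfaith
    ext w
    have : w ∈ fixedSub ρ T := by rw [h]; trivial
    rw [this t ht, Module.End.one_apply]

/-- P2: central elements of prime power order (prime `≠ s`) act as scalars. -/
theorem central_scalar (ρ : Representation (ZMod s) M V)
    (hirr : ∀ W : Submodule (ZMod s) V, (∀ m : M, ∀ w ∈ W, ρ m w ∈ W) → W = ⊥ ∨ W = ⊤)
    (hqs : QS ρ) (z : M) (hz : z ∈ Subgroup.center M) (r a : ℕ) (hr : r.Prime) (hrs : r ≠ s)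
    (hza : orderOf z = r ^ a) : ∃ f : ZMod s, ∀ v : V, ρ z v = f • v := by
  have hinv : ∀ m : M, ∀ w ∈ LinearMap.ker (ρ z - 1), ρ m w ∈ LinearMap.ker (ρ z - 1) := by
    intro m w hw
    rw [mem_ker_sub_one] at hw ⊢
    have h1 : z * m = m * z := ((Subgroup.mem_center_iff.1 hz) m).symm
    rw [← Module.End.mul_apply, ← map_mul, h1, map_mul, Module.End.mul_apply, hw]
  rcases hirr _ hinv with h | h
  · -- injective, hence surjective
    have : Module.Finite (ZMod s) V := Module.Finite.of_finite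
    have hinj : Function.Injective ⇑(ρ z - 1 : V →ₗ[ZMod s] V) := LinearMap.ker_eq_bot.1 h
    have hsurj : Function.Surjective ⇑(ρ z - 1 : V →ₗ[ZMod s] V) :=
      LinearMap.injective_iff_surjective.1 hinj
    obtain ⟨e, he⟩ := exists_scalar (ρ z) ⊤ (by
      intro w _
      obtain ⟨u, rfl⟩ := hsurj w
      exact hqs z r a hr hrs hza u)
    exact ⟨e, fun v => he v trivial⟩
  · refine ⟨1, fun v => ?_⟩
    have : v ∈ LinearMap.ker (ρ z - 1) := by rw [h]; trivial
    rw [mem_ker_sub_one] at this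
    rw [this, one_smul]

theorem pow_coprime {q j : ℕ} (hq : q.Prime) (hqs : q ≠ s) : (q ^ j).Coprime s :=
  Nat.Coprime.pow_left j ((Nat.coprime_primes hq hs.out).2 hqs)

omit [Finite V] in
theorem eq_zero_of_mem_of_mem {W₁ W₂ : Submodule (ZMod s) V} (hdisj : W₁ ⊓ W₂ = ⊥) {w : V}
    (h1 : w ∈ W₁) (h2 : w ∈ W₂) : w = 0 := by
  have : w ∈ W₁ ⊓ W₂ := ⟨h1, h2⟩
  rwa [hdisj, Submodule.mem_bot] at this

/-- (6): a quasi-scalar element swapping two independent subspaces is an involution. -/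
theorem sq_eq_one_of_swap (ρ : Representation (ZMod s) M V)
    (hfaith : ∀ m : M, ρ m = 1 → m = 1) (hqs : QS ρ) (x : M) (q j : ℕ) (hq : q.Prime)
    (hqs' : q ≠ s) (hx : orderOf x = q ^ j) (W₁ W₂ : Submodule (ZMod s) V)
    (hdisj : W₁ ⊓ W₂ = ⊥) (hW₁ : W₁ ≠ ⊥)
    (h12 : ∀ w ∈ W₁, ρ x w ∈ W₂) (h21 : ∀ w ∈ W₂, ρ x w ∈ W₁) : x * x = 1 := by
  have hcop : (orderOf x).Coprime s := by rw [hx]; exact pow_coprime hq hqs'
  have hsup := ker_sup_range ρ x hcop
  obtain ⟨μ, hμ⟩ := exists_scalar (ρ x) (LinearMap.range (ρ x - 1)) (by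
    rintro w ⟨u, rfl⟩
    exact hqs x q j hq hqs' hx u)
  have hact : ∀ u ∈ LinearMap.ker (ρ x - 1), ∀ v ∈ LinearMap.range (ρ x - 1),
      ρ x (u + v) = u + μ • v := by
    intro u hu v hv
    rw [mem_ker_sub_one] at hu
    rw [map_add, hu, hμ v hv]
  have hact2 : ∀ u ∈ LinearMap.ker (ρ x - 1), ∀ v ∈ LinearMap.range (ρ x - 1),
      ρ x (ρ x (u + v)) = u + (μ * μ) • v := by
    intro u hu v hv
    rw [hact u hu v hv, hact u hu _ (Submodule.smul_mem _ _ hv), smul_smul]
  by_cases hμ2 : μ * μ = 1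
  · apply hfaith
    ext t
    have ht : t ∈ LinearMap.ker (ρ x - 1) ⊔ LinearMap.range (ρ x - 1) := by rw [hsup]; trivial
    obtain ⟨u, hu, v, hv, rfl⟩ := Submodule.mem_sup.1 ht
    rw [map_mul, Module.End.mul_apply, hact2 u hu v hv, hμ2, one_smul, Module.End.one_apply]
  · exfalso
    obtain ⟨w, hw, hw0⟩ := Submodule.exists_mem_ne_zero_of_ne_bot hW₁
    have ht : w ∈ LinearMap.ker (ρ x - 1) ⊔ LinearMap.range (ρ x - 1) := by rw [hsup]; trivial
    obtain ⟨u, hu, v, hv, rfl⟩ := Submodule.mem_sup.1 ht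
    have h1 : u + μ • v ∈ W₂ := by rw [← hact u hu v hv]; exact h12 _ hw
    have h2 : u + (μ * μ) • v ∈ W₁ := by
      rw [← hact2 u hu v hv]
      exact h21 _ (h12 _ hw)
    have h3 : (μ * μ - 1) • v ∈ W₁ := by
      have : (μ * μ - 1) • v = (u + (μ * μ) • v) - (u + v) := by
        rw [sub_smul, one_smul]; abel
      rw [this]
      exact W₁.sub_mem h2 hw
    have hne : μ * μ - 1 ≠ 0 := sub_ne_zero.2 hμ2
    have hv1 : v ∈ W₁ := by
      have : v = (μ * μ - 1)⁻¹ • ((μ * μ - 1) • v) := by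
        rw [smul_smul, inv_mul_cancel₀ hne, one_smul]
      rw [this]
      exact W₁.smul_mem _ h3
    have hu1 : u ∈ W₁ := by
      have : u = (u + v) - v := by abel
      rw [this]
      exact W₁.sub_mem hw hv1
    have h4 : u + μ • v ∈ W₁ := W₁.add_mem hu1 (W₁.smul_mem _ hv1)
    have h5 := eq_zero_of_mem_of_mem hdisj h4 h1
    rw [← hact u hu v hv] at h5
    have h6 : ρ x (u + v) = ρ x 0 := by rw [h5, map_zero]
    exact hw0 (rho_injective ρ x h6)

omit [Finite V] in
theorem eq_of_rho_eq (ρ : Representation (ZMod s) M V) (hfaith : ∀ m : M, ρ m = 1 → m = 1)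
    {x y : M} (h : ρ x = ρ y) : x = y := by
  have h1 : ρ (x * y⁻¹) = 1 := by
    rw [map_mul, h, ← map_mul, mul_inv_cancel, map_one]
  have h2 := hfaith _ h1
  exact mul_inv_eq_one.1 h2

theorem zmod_two_cases (t : ZMod 2) : t = 0 ∨ t = 1 := by
  revert t; decide

theorem conj_pow' {M : Type*} [Group M] (m b : M) (n : ℕ) :
    (m⁻¹ * b * m) ^ n = m⁻¹ * b ^ n * m := by
  have := conj_pow (a := m⁻¹) (b := b) (i := n)
  simpa using this

/-- the core contradiction -/
theorem core [Finite M] (ρ : Representation (ZMod s) M V)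
    (hfaith : ∀ m : M, ρ m = 1 → m = 1)
    (hirr : ∀ W : Submodule (ZMod s) V, (∀ m : M, ∀ w ∈ W, ρ m w ∈ W) → W = ⊥ ∨ W = ⊤)
    (hqs : QS ρ) (b : M) (r a : ℕ) (hr : r.Prime) (hrs : r ≠ s) (hb : orderOf b = r ^ a)
    (hbc : b ∉ Subgroup.center M)
    (hconj : ∀ m : M, ∃ z ∈ Subgroup.center M, ∃ i : ℕ, m⁻¹ * b * m = z * b ^ i) : False := by
  classical
  obtain ⟨W₁, hW₁def⟩ : ∃ W : Submodule (ZMod s) V, W = LinearMap.ker (ρ b - 1) := ⟨_, rfl⟩
  obtain ⟨W₂, hW₂def⟩ : ∃ W : Submodule (ZMod s) V, W = LinearMap.range (ρ b - 1) := ⟨_, rfl⟩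
  have hcop : (orderOf b).Coprime s := by rw [hb]; exact pow_coprime hr hrs
  have hdisj : W₁ ⊓ W₂ = ⊥ := by rw [hW₁def, hW₂def]; exact ker_inf_range ρ b hcop
  have hsup : W₁ ⊔ W₂ = ⊤ := by rw [hW₁def, hW₂def]; exact ker_sup_range ρ b hcop
  obtain ⟨e, he⟩ := exists_scalar (ρ b) W₂ (by
    rw [hW₂def]
    rintro w ⟨u, rfl⟩
    exact hqs b r a hr hrs hb u)
  have hfix : ∀ w ∈ W₁, ρ b w = w := fun w hw => by
    rw [hW₁def] at hw; exact (mem_ker_sub_one ρ b w).1 hw
  have hdecomp : ∀ v : V, ∃ u ∈ W₁, ∃ t ∈ W₂, u + t = v := by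
    intro v
    have hv : v ∈ W₁ ⊔ W₂ := by rw [hsup]; trivial
    exact Submodule.mem_sup.1 hv
  have hb1 : b ≠ 1 := fun h => hbc (h ▸ Subgroup.one_mem _)
  have hW₁top : W₁ ≠ ⊤ := by
    intro h; apply hb1; apply hfaith; ext v
    have : v ∈ W₁ := by rw [h]; trivial
    rw [hfix v this, Module.End.one_apply]
  have hW₂ : W₂ ≠ ⊥ := by
    intro h; apply hW₁top; rw [← hsup, h, sup_bot_eq]
  have hW₁ : W₁ ≠ ⊥ := by
    intro h
    have h2 : W₂ = ⊤ := by rw [← hsup, h, bot_sup_eq]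
    apply hbc
    rw [Subgroup.mem_center_iff]
    intro g
    apply eq_of_rho_eq ρ hfaith
    ext v
    rw [map_mul, map_mul, Module.End.mul_apply, Module.End.mul_apply,
      he v (by rw [h2]; trivial), he (ρ g v) (by rw [h2]; trivial), map_smul]
  have he1 : e ≠ 1 := by
    intro h
    obtain ⟨w, hw, hw0⟩ := Submodule.exists_mem_ne_zero_of_ne_bot hW₂
    have h1 : ρ b w = w := by rw [he w hw, h, one_smul]
    have h2 : w ∈ W₁ := by rw [hW₁def]; exact (mem_ker_sub_one ρ b w).2 h1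
    exact hw0 (eq_zero_of_mem_of_mem hdisj h2 hw)
  have he0 : e ≠ 0 := by
    intro h
    obtain ⟨w, hw, hw0⟩ := Submodule.exists_mem_ne_zero_of_ne_bot hW₂
    have h1 : ρ b w = ρ b 0 := by rw [he w hw, h, zero_smul, map_zero]
    exact hw0 (rho_injective ρ b h1)
  have hpowfix : ∀ i : ℕ, ∀ w ∈ W₁, ρ (b ^ i) w = w := by
    intro i w hw
    induction i with
    | zero => simp
    | succ i ih => rw [pow_succ', map_mul, Module.End.mul_apply, ih, hfix w hw]
  have hpow2 : ∀ i : ℕ, ∀ w ∈ W₂, ρ (b ^ i) w = e ^ i • w := by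
    intro i w hw
    induction i with
    | zero => simp
    | succ i ih =>
      rw [pow_succ', map_mul, Module.End.mul_apply, ih, map_smul, he w hw, smul_smul, pow_succ]
  have hconjact : ∀ (m : M) (v : V), ρ m (ρ (m⁻¹ * b * m) v) = ρ b (ρ m v) := by
    intro m v
    rw [← Module.End.mul_apply, ← Module.End.mul_apply, ← map_mul, ← map_mul]
    congr 2
    group
  have hzord : ∀ (m z : M) (i : ℕ), z ∈ Subgroup.center M → m⁻¹ * b * m = z * b ^ i →
      ∃ c : ℕ, orderOf z = r ^ c := by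
    intro m z i hz h
    have h1 : (m⁻¹ * b * m) ^ (r ^ a) = 1 := by
      rw [conj_pow', ← hb, pow_orderOf_eq_one]; group
    have hcz : Commute z (b ^ i) := (Subgroup.mem_center_iff.1 hz (b ^ i)).symm
    rw [h, hcz.mul_pow, ← pow_mul, mul_comm i, pow_mul, ← hb, pow_orderOf_eq_one, one_pow,
      mul_one] at h1
    have h2 : orderOf z ∣ r ^ a := by rw [← hb]; exact orderOf_dvd_of_pow_eq_one h1
    obtain ⟨c, -, hc⟩ := (Nat.dvd_prime_pow hr).1 h2
    exact ⟨c, hc⟩
  -- dichotomy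
  have dich : ∀ m : M, (∀ w ∈ W₁, ρ m w ∈ W₁) ∨
      ((∀ w ∈ W₁, ρ m w ∈ W₂) ∧ (∀ w ∈ W₂, ρ m w ∈ W₁) ∧
        (∀ w ∈ W₁, ρ (m⁻¹ * b * m) w = e • w) ∧ (∀ w ∈ W₂, ρ (m⁻¹ * b * m) w = w)) := by
    intro m
    obtain ⟨z, hz, i, hzi⟩ := hconj m
    obtain ⟨c, hc⟩ := hzord m z i hz hzi
    obtain ⟨f, hf⟩ := central_scalar ρ hirr hqs z hz r c hr hrs hc
    have hA1 : ∀ w ∈ W₁, ρ (m⁻¹ * b * m) w = f • w := by
      intro w hw
      rw [hzi, map_mul, Module.End.mul_apply, hpowfix i w hw, hf]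
    have hA2 : ∀ w ∈ W₂, ρ (m⁻¹ * b * m) w = (f * e ^ i) • w := by
      intro w hw
      rw [hzi, map_mul, Module.End.mul_apply, hpow2 i w hw, hf, smul_smul]
    have key1 : ∀ w : V, ρ (m⁻¹ * b * m) w = w → ρ m w ∈ W₁ := by
      intro w h
      rw [hW₁def, mem_ker_sub_one, ← hconjact, h]
    have key2 : ∀ (w : V) (k : ZMod s), k ≠ 1 → ρ (m⁻¹ * b * m) w = k • w → ρ m w ∈ W₂ := by
      intro w k hk h
      have h1 : (ρ b - 1) (ρ m w) = (k - 1) • ρ m w := by
        rw [LinearMap.sub_apply, Module.End.one_apply, ← hconjact, h, map_smul, sub_smul,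
          one_smul]
      have h2 : ρ m w = (ρ b - 1) ((k - 1)⁻¹ • ρ m w) := by
        rw [map_smul, h1, smul_smul, inv_mul_cancel₀ (sub_ne_zero.2 hk), one_smul]
      rw [h2, hW₂def]
      exact LinearMap.mem_range_self _ _
    by_cases hf1 : f = 1
    · left
      intro w hw
      apply key1
      rw [hA1 w hw, hf1, one_smul]
    · right
      have h12 : ∀ w ∈ W₁, ρ m w ∈ W₂ := fun w hw => key2 w f hf1 (hA1 w hw)
      by_cases hfe : f * e ^ i = 1
      · have h21 : ∀ w ∈ W₂, ρ m w ∈ W₁ := fun w hw =>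
          key1 w (by rw [hA2 w hw, hfe, one_smul])
        refine ⟨h12, h21, ?_, ?_⟩
        · obtain ⟨w, hw, hw0⟩ := Submodule.exists_mem_ne_zero_of_ne_bot hW₁
          have h3 : ρ (m⁻¹ * b * m) w = e • w := by
            apply rho_injective ρ m
            rw [hconjact, he _ (h12 w hw), map_smul]
          have h4 : f = e := by
            have h5 : (f - e) • w = 0 := by
              rw [sub_smul, ← hA1 w hw, ← h3, sub_self]
            rcases smul_eq_zero.1 h5 with h6 | h6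
            · exact sub_eq_zero.1 h6
            · exact absurd h6 hw0
          intro w' hw'
          rw [hA1 w' hw', h4]
        · intro w hw
          rw [hA2 w hw, hfe, one_smul]
      · exfalso
        have h22 : ∀ w ∈ W₂, ρ m w ∈ W₂ := fun w hw => key2 w _ hfe (hA2 w hw)
        have htop : W₂ = ⊤ := by
          rw [eq_top_iff]
          intro v _
          obtain ⟨u, hu, t, ht, hut⟩ := hdecomp (ρ m⁻¹ v)
          have : v = ρ m u + ρ m t := by rw [← map_add, hut, rho_apply_inv]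
          rw [this]
          exact W₂.add_mem (h12 u hu) (h22 t ht)
        apply hW₁
        rw [← inf_top_eq W₁, ← htop, hdisj]
  -- independence of `W₁` and `W₂`
  have indep : ∀ (u v : V) (α β : ZMod s), u ∈ W₁ → v ∈ W₂ → u ≠ 0 → v ≠ 0 →
      α • u + β • v = 0 → α = 0 ∧ β = 0 := by
    intro u v α β hu hv hu0 hv0 h
    have h1 : α • u = - (β • v) := eq_neg_of_add_eq_zero_left h
    have h2 : α • u ∈ W₂ := by rw [h1]; exact W₂.neg_mem (W₂.smul_mem _ hv)
    have h3 : α • u = 0 := eq_zero_of_mem_of_mem hdisj (W₁.smul_mem _ hu) h2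
    have h4 : β • v = 0 := by rw [h3, zero_add] at h; exact h
    refine ⟨?_, ?_⟩
    · rcases smul_eq_zero.1 h3 with h5 | h5
      · exact h5
      · exact absurd h5 hu0
    · rcases smul_eq_zero.1 h4 with h5 | h5
      · exact h5
      · exact absurd h5 hv0
  -- P7: some element of prime power order does not stabilise `W₁`
  let St : Submonoid M :=
    { carrier := {m | ∀ w ∈ W₁, ρ m w ∈ W₁}
      one_mem' := by intro w hw; simpa using hw
      mul_mem' := by
        intro x y hx hy w hw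
        rw [map_mul, Module.End.mul_apply]
        exact hx _ (hy w hw) }
  have hSt : ∀ m : M, m ∈ St ↔ ∀ w ∈ W₁, ρ m w ∈ W₁ := fun _ => Iff.rfl
  have hStne : St ≠ ⊤ := by
    intro h
    have hinv : ∀ m : M, ∀ w ∈ W₁, ρ m w ∈ W₁ := by
      intro m
      have : m ∈ St := by rw [h]; trivial
      exact (hSt m).1 this
    rcases hirr W₁ hinv with h1 | h1
    · exact hW₁ h1
    · exact hW₁top h1
  have hex : ∃ (m : M) (q j : ℕ), q.Prime ∧ orderOf m = q ^ j ∧ m ∉ St := by
    by_contra hcon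
    push Not at hcon
    exact hStne (submonoid_eq_top_of_primePow St (fun x q j hq hx => hcon x q j hq hx))
  obtain ⟨m, q, j, hq, hm, hmSt⟩ := hex
  obtain ⟨h12, h21, hae, ha1⟩ : (∀ w ∈ W₁, ρ m w ∈ W₂) ∧ (∀ w ∈ W₂, ρ m w ∈ W₁) ∧
        (∀ w ∈ W₁, ρ (m⁻¹ * b * m) w = e • w) ∧ (∀ w ∈ W₂, ρ (m⁻¹ * b * m) w = w) := by
    rcases dich m with h | h
    · exact absurd ((hSt m).2 h) hmSt
    · exact h
  obtain ⟨u₀, hu₀, hu₀0⟩ := Submodule.exists_mem_ne_zero_of_ne_bot hW₁
  obtain ⟨v₀, hv₀, hv₀0⟩ := Submodule.exists_mem_ne_zero_of_ne_bot hW₂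
  -- P8: `e * e = 1`
  have hee : e * e = 1 := by
    obtain ⟨z, hz, i, hzi⟩ := hconj m
    have hcomm : Commute b (m⁻¹ * b * m) := by
      rw [hzi]
      have h1 : Commute b z := Subgroup.mem_center_iff.1 hz b
      exact h1.mul_right (Commute.self_pow b i)
    have hxpow : (b * b * (m⁻¹ * b * m)) ^ (r ^ a) = 1 := by
      have hc2 : Commute (b * b) (m⁻¹ * b * m) := Commute.mul_left hcomm hcomm
      rw [hc2.mul_pow, conj_pow', ← pow_two, ← pow_mul, mul_comm, pow_mul, ← hb,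
        pow_orderOf_eq_one, one_pow]
      group
    have hxdvd : orderOf (b * b * (m⁻¹ * b * m)) ∣ r ^ a := orderOf_dvd_of_pow_eq_one hxpow
    obtain ⟨c, -, hc⟩ := (Nat.dvd_prime_pow hr).1 hxdvd
    have hx1 : ∀ w ∈ W₁, ρ (b * b * (m⁻¹ * b * m)) w = e • w := by
      intro w hw
      rw [map_mul, map_mul, Module.End.mul_apply, Module.End.mul_apply, hae w hw, map_smul,
        map_smul, hfix w hw, hfix w hw]
    have hx2 : ∀ w ∈ W₂, ρ (b * b * (m⁻¹ * b * m)) w = (e * e) • w := by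
      intro w hw
      rw [map_mul, map_mul, Module.End.mul_apply, Module.End.mul_apply, ha1 w hw, he w hw,
        map_smul, he w hw, smul_smul]
    obtain ⟨k, hk⟩ := hqs _ r c hr hrs hc (u₀ + v₀)
    have hy : (ρ (b * b * (m⁻¹ * b * m)) - 1) (u₀ + v₀) = (e - 1) • u₀ + (e * e - 1) • v₀ := by
      rw [LinearMap.sub_apply, Module.End.one_apply, map_add, hx1 u₀ hu₀, hx2 v₀ hv₀, sub_smul,
        sub_smul, one_smul, one_smul]
      abel
    rw [hy, map_add, map_smul, map_smul, hx1 u₀ hu₀, hx2 v₀ hv₀] at hk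
    have hk2 : ((e - 1) * e - k * (e - 1)) • u₀ + ((e * e - 1) * (e * e) - k * (e * e - 1)) • v₀
        = 0 := by
      linear_combination (norm := module) hk
    obtain ⟨h1, h2⟩ := indep u₀ v₀ _ _ hu₀ hv₀ hu₀0 hv₀0 hk2
    have hke : k = e := by
      have h3 : (e - k) * (e - 1) = 0 := by rw [← h1]; ring
      rcases mul_eq_zero.1 h3 with h4 | h4
      · exact (sub_eq_zero.1 h4).symm
      · exact absurd (sub_eq_zero.1 h4) he1
    by_contra hne
    have h3 : (e * e - k) * (e * e - 1) = 0 := by rw [← h2]; ring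
    rcases mul_eq_zero.1 h3 with h4 | h4
    · rw [hke] at h4
      have h5 : e * (e - 1) = 0 := by rw [← h4]; ring
      rcases mul_eq_zero.1 h5 with h6 | h6
      · exact he0 h6
      · exact he1 (sub_eq_zero.1 h6)
    · exact hne (sub_eq_zero.1 h4)
  -- `s ≠ 2`
  have hs2 : 2 ≠ s := by
    rintro rfl
    rcases zmod_two_cases e with h | h
    · exact he0 h
    · exact he1 h
  -- P9: `q = 2`
  have hmm : m * m ∈ St := by
    rw [hSt]
    intro w hw
    rw [map_mul, Module.End.mul_apply]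
    exact h21 _ (h12 w hw)
  have hq2 : q = 2 := by
    rcases hq.eq_two_or_odd' with h | h
    · exact h
    · exfalso
      apply hmSt
      have hodd : Odd (q ^ j) := h.pow
      obtain ⟨t, ht⟩ := hodd
      have h1 : m = (m * m) ^ (t + 1) := by
        rw [← pow_two, ← pow_mul, show 2 * (t + 1) = (2 * t + 1) + 1 by ring, ← ht, pow_succ,
          ← hm, pow_orderOf_eq_one, one_mul]
      rw [h1]
      exact St.pow_mem hmm _
  subst hq2
  have hm2 : m * m = 1 :=
    sq_eq_one_of_swap ρ hfaith hqs m 2 j Nat.prime_two hs2 hm W₁ W₂ hdisj hW₁ h12 h21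
  have hmm_apply : ∀ w : V, ρ m (ρ m w) = w := by
    intro w
    rw [← Module.End.mul_apply, ← map_mul, hm2, map_one, Module.End.one_apply]
  -- `b * m` swaps too
  have h12' : ∀ w ∈ W₁, ρ (b * m) w ∈ W₂ := by
    intro w hw
    rw [map_mul, Module.End.mul_apply, he _ (h12 w hw)]
    exact W₂.smul_mem _ (h12 w hw)
  have h21' : ∀ w ∈ W₂, ρ (b * m) w ∈ W₁ := by
    intro w hw
    rw [map_mul, Module.End.mul_apply, hfix _ (h21 w hw)]
    exact h21 w hw
  have hy1 : ∀ w ∈ W₁, ρ ((b * m) * (b * m)) w = e • w := by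
    intro w hw
    rw [map_mul, Module.End.mul_apply, map_mul, Module.End.mul_apply, Module.End.mul_apply,
      he _ (h12 w hw), map_smul, map_smul, hmm_apply, hfix w hw]
  have hy2 : ∀ w ∈ W₂, ρ ((b * m) * (b * m)) w = e • w := by
    intro w hw
    rw [map_mul, Module.End.mul_apply, map_mul, Module.End.mul_apply, Module.End.mul_apply,
      hfix _ (h21 w hw), hmm_apply, he w hw]
  have hy : ∀ v : V, ρ ((b * m) * (b * m)) v = e • v := by
    intro v
    obtain ⟨u, hu, t, ht, rfl⟩ := hdecomp v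
    rw [map_add, hy1 u hu, hy2 t ht, smul_add]
  have h4 : (b * m) ^ 4 = 1 := by
    apply hfaith
    ext v
    rw [show (4 : ℕ) = 2 + 2 by norm_num, pow_add, pow_two, map_mul, Module.End.mul_apply, hy,
      hy, smul_smul, hee, one_smul, Module.End.one_apply]
  have hdvd : orderOf (b * m) ∣ 2 ^ 2 := orderOf_dvd_of_pow_eq_one (by norm_num; exact h4)
  obtain ⟨c, -, hc⟩ := (Nat.dvd_prime_pow Nat.prime_two).1 hdvd
  have hbm2 : (b * m) * (b * m) = 1 :=
    sq_eq_one_of_swap ρ hfaith hqs (b * m) 2 c Nat.prime_two hs2 hc W₁ W₂ hdisj hW₁ h12' h21'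
  have h5 := hy u₀
  rw [hbm2, map_one, Module.End.one_apply] at h5
  have h6 : (e - 1) • u₀ = 0 := by rw [sub_smul, one_smul, ← h5, sub_self]
  rcases smul_eq_zero.1 h6 with h7 | h7
  · exact he1 (sub_eq_zero.1 h7)
  · exact hu₀0 h7

/-- the case `r = s` of the core contradiction -/
theorem core_s [Finite M] [Nontrivial V] (ρ : Representation (ZMod s) M V)
    (hfaith : ∀ m : M, ρ m = 1 → m = 1)
    (hirr : ∀ W : Submodule (ZMod s) V, (∀ m : M, ∀ w ∈ W, ρ m w ∈ W) → W = ⊥ ∨ W = ⊤)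
    (b : M) (a : ℕ) (hb : orderOf b = s ^ a)
    (hbc : b ∉ Subgroup.center M)
    (hconj : ∀ m : M, ∃ z ∈ Subgroup.center M, ∃ i : ℕ, m⁻¹ * b * m = z * b ^ i) : False := by
  have hb1 : b ≠ 1 := fun h => hbc (h ▸ Subgroup.one_mem _)
  -- central `s`-elements are trivial
  have hcz : ∀ z ∈ Subgroup.center M, z ^ (s ^ a) = 1 → z = 1 := by
    intro z hz hza
    have hn : (Subgroup.zpowers z).Normal := by
      refine ⟨fun t ht g => ?_⟩
      obtain ⟨k, rfl⟩ := Subgroup.mem_zpowers_iff.1 ht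
      have h1 : g * z ^ k * g⁻¹ = z ^ k := by
        have h2 : g * z ^ k = z ^ k * g :=
          Subgroup.mem_center_iff.1 (Subgroup.zpow_mem _ hz k) g
        rw [h2, mul_inv_cancel_right]
      rw [h1]
      exact Subgroup.zpow_mem _ (Subgroup.mem_zpowers z) k
    have hp : IsPGroup s (Subgroup.zpowers z) := by
      have h1 : orderOf z ∣ s ^ a := orderOf_dvd_of_pow_eq_one hza
      obtain ⟨c, -, hc⟩ := (Nat.dvd_prime_pow hs.out).1 h1
      exact IsPGroup.of_card (n := c) (by rw [Nat.card_zpowers, hc])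
    have h0 := normal_sgroup_eq_bot ρ hfaith hirr (Subgroup.zpowers z) hp
    have h1 : z ∈ Subgroup.zpowers z := Subgroup.mem_zpowers z
    rw [h0, Subgroup.mem_bot] at h1
    exact h1
  have hconj' : ∀ m : M, ∃ i : ℕ, m⁻¹ * b * m = b ^ i := by
    intro m
    obtain ⟨z, hz, i, hzi⟩ := hconj m
    have h1 : (m⁻¹ * b * m) ^ (s ^ a) = 1 := by
      rw [conj_pow', ← hb, pow_orderOf_eq_one]; group
    have hcomm : Commute z (b ^ i) := (Subgroup.mem_center_iff.1 hz (b ^ i)).symm
    rw [hzi, hcomm.mul_pow, ← pow_mul, mul_comm i, pow_mul, ← hb, pow_orderOf_eq_one, one_pow,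
      mul_one] at h1
    rw [hb] at h1
    have hz1 := hcz z hz h1
    exact ⟨i, by rw [hzi, hz1, one_mul]⟩
  have hn : (Subgroup.zpowers b).Normal := by
    refine ⟨fun t ht g => ?_⟩
    obtain ⟨k, rfl⟩ := Subgroup.mem_zpowers_iff.1 ht
    obtain ⟨i, hi⟩ := hconj' g⁻¹
    rw [inv_inv] at hi
    have h1 : g * b ^ k * g⁻¹ = (g * b * g⁻¹) ^ k := by
      rw [conj_zpow]
    rw [h1, hi]
    exact Subgroup.zpow_mem _ (Subgroup.pow_mem _ (Subgroup.mem_zpowers b) i) k
  have hp : IsPGroup s (Subgroup.zpowers b) :=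
    IsPGroup.of_card (n := a) (by rw [Nat.card_zpowers, hb])
  have h0 := normal_sgroup_eq_bot ρ hfaith hirr (Subgroup.zpowers b) hp
  have h1 : b ∈ Subgroup.zpowers b := Subgroup.mem_zpowers b
  rw [h0, Subgroup.mem_bot] at h1
  exact hb1 h1

/-- P3: the abelian case. -/
theorem center_top_case [Finite M] [Nontrivial V] (ρ : Representation (ZMod s) M V)
    (hfaith : ∀ m : M, ρ m = 1 → m = 1)
    (hirr : ∀ W : Submodule (ZMod s) V, (∀ m : M, ∀ w ∈ W, ρ m w ∈ W) → W = ⊥ ∨ W = ⊤)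
    (hqs : QS ρ) (hc : Subgroup.center M = ⊤) :
    ∃ v₀ : V, ∀ v : V, ∃ k : ZMod s, v = k • v₀ := by
  let Sc : Submonoid M :=
    { carrier := {m | ∃ f : ZMod s, ∀ v : V, ρ m v = f • v}
      one_mem' := ⟨1, fun v => by simp⟩
      mul_mem' := by
        rintro x y ⟨f, hf⟩ ⟨g, hg⟩
        refine ⟨f * g, fun v => ?_⟩
        rw [map_mul, Module.End.mul_apply, hg, map_smul, hf, smul_smul, mul_comm] }
  have hSc : ∀ m : M, m ∈ Sc ↔ ∃ f : ZMod s, ∀ v : V, ρ m v = f • v := fun _ => Iff.rfl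
  have hcen : ∀ m : M, m ∈ Subgroup.center M := fun m => by rw [hc]; trivial
  have htop : Sc = ⊤ := by
    apply submonoid_eq_top_of_primePow
    intro x r a hr hx
    rw [hSc]
    by_cases hrs : r = s
    · subst hrs
      have hn : (Subgroup.zpowers x).Normal := by
        refine ⟨fun t ht g => ?_⟩
        have h2 : g * t = t * g := Subgroup.mem_center_iff.1 (hcen t) g
        rw [h2, mul_inv_cancel_right]
        exact ht
      have hp : IsPGroup r (Subgroup.zpowers x) :=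
        IsPGroup.of_card (n := a) (by rw [Nat.card_zpowers, hx])
      have h0 := normal_sgroup_eq_bot ρ hfaith hirr (Subgroup.zpowers x) hp
      have h1 : x ∈ Subgroup.zpowers x := Subgroup.mem_zpowers x
      rw [h0, Subgroup.mem_bot] at h1
      exact ⟨1, fun v => by rw [h1]; simp⟩
    · exact central_scalar ρ hirr hqs x (hcen x) r a hr hrs hx
  obtain ⟨v₀, hv₀⟩ := exists_ne (0 : V)
  refine ⟨v₀, ?_⟩
  have hinv : ∀ m : M, ∀ w ∈ Submodule.span (ZMod s) {v₀}, ρ m w ∈ Submodule.span (ZMod s) {v₀} := by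
    intro m w hw
    have hm : m ∈ Sc := by rw [htop]; trivial
    obtain ⟨f, hf⟩ := (hSc m).1 hm
    rw [hf]
    exact Submodule.smul_mem _ _ hw
  rcases hirr _ hinv with h | h
  · exfalso
    have : v₀ ∈ Submodule.span (ZMod s) {v₀} := Submodule.mem_span_singleton_self v₀
    rw [h, Submodule.mem_bot] at this
    exact hv₀ this
  · intro v
    have : v ∈ Submodule.span (ZMod s) {v₀} := by rw [h]; trivial
    obtain ⟨k, hk⟩ := Submodule.mem_span_singleton.1 this
    exact ⟨k, hk.symm⟩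

end Linear

section GroupPart

variable {M : Type*} [Group M] [Finite M]

/-- P4: in a non-abelian supersolvable group there is a non-central element `b` of prime power
order all of whose conjugates lie in `Z(M) * ⟨b⟩`. -/
theorem exists_b (hM : Cfsg.IsSupersolvable M) (hc : Subgroup.center M ≠ ⊤) :
    ∃ (b : M) (r a : ℕ), r.Prime ∧ orderOf b = r ^ a ∧ b ∉ Subgroup.center M ∧
      ∀ m : M, ∃ z ∈ Subgroup.center M, ∃ i : ℕ, m⁻¹ * b * m = z * b ^ i := by
  classical
  have hQ : Cfsg.IsSupersolvable (M ⧸ Subgroup.center M) := isSupersolvable_quotient _ hM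
  have hnt : Nontrivial (M ⧸ Subgroup.center M) := by
    obtain ⟨g, hg⟩ : ∃ g : M, g ∉ Subgroup.center M := by
      by_contra h
      push Not at h
      exact hc (eq_top_iff.2 fun g _ => h g)
    refine ⟨⟨(g : M ⧸ Subgroup.center M), 1, ?_⟩⟩
    rwa [Ne, QuotientGroup.eq_one_iff]
  obtain ⟨P, hPn, hPr⟩ := exists_normal_prime hQ
  have hP1 : 1 < Nat.card P := hPr.one_lt
  rw [Finite.one_lt_card_iff_nontrivial] at hP1
  obtain ⟨⟨gbar, hgP⟩, hg1⟩ := exists_ne (1 : P)
  have hgbar1 : gbar ≠ 1 := fun h => hg1 (Subtype.ext h)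
  obtain ⟨g, rfl⟩ := QuotientGroup.mk_surjective gbar
  obtain ⟨r, hrdef⟩ : ∃ r : ℕ, r = Nat.card P := ⟨_, rfl⟩
  rw [← hrdef] at hPr
  have hordbar : orderOf (g : M ⧸ Subgroup.center M) = r := by
    have h1 : orderOf (⟨(g : M ⧸ Subgroup.center M), hgP⟩ : P) ∣ Nat.card P :=
      orderOf_dvd_natCard _
    rw [Subgroup.orderOf_mk, ← hrdef] at h1
    rcases (Nat.dvd_prime hPr).1 h1 with h | h
    · exact absurd (orderOf_eq_one_iff.1 h) hgbar1
    · exact h
  have hn0 : orderOf g ≠ 0 := (orderOf_pos g).ne'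
  obtain ⟨a, u, hru, hnu⟩ := Nat.exists_eq_pow_mul_and_not_dvd hn0 r hPr.ne_one
  have hu0 : u ≠ 0 := by
    rintro rfl
    exact hru (dvd_zero r)
  have hob : orderOf (g ^ u) = r ^ a := by
    rw [orderOf_pow' g hu0, hnu, Nat.gcd_mul_left_left,
      Nat.mul_div_cancel _ (Nat.pos_of_ne_zero hu0)]
  have hcop : Nat.Coprime r u := (Nat.Prime.coprime_iff_not_dvd hPr).2 hru
  have hobbar : orderOf ((g ^ u : M) : M ⧸ Subgroup.center M) = r := by
    rw [QuotientGroup.mk_pow, orderOf_pow' _ hu0, hordbar, hcop, Nat.div_one]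
  have hbP : ((g ^ u : M) : M ⧸ Subgroup.center M) ∈ P := by
    rw [QuotientGroup.mk_pow]
    exact P.pow_mem hgP u
  have hzp : Subgroup.zpowers ((g ^ u : M) : M ⧸ Subgroup.center M) = P := by
    apply Subgroup.eq_of_le_of_card_ge
    · rw [Subgroup.zpowers_le]; exact hbP
    · rw [Nat.card_zpowers, hobbar, hrdef]
  refine ⟨g ^ u, r, a, hPr, hob, ?_, ?_⟩
  · intro h
    have h1 : ((g ^ u : M) : M ⧸ Subgroup.center M) = 1 := (QuotientGroup.eq_one_iff _).2 h
    rw [h1, orderOf_one] at hobbar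
    exact hPr.ne_one hobbar.symm
  · intro m
    have h1 : ((m⁻¹ * g ^ u * m : M) : M ⧸ Subgroup.center M) ∈ P := by
      have := hPn.conj_mem _ hbP ((m : M ⧸ Subgroup.center M)⁻¹)
      rw [inv_inv] at this
      rw [QuotientGroup.mk_mul, QuotientGroup.mk_mul, QuotientGroup.mk_inv]
      exact this
    rw [← hzp, ← mem_powers_iff_mem_zpowers, Submonoid.mem_powers_iff] at h1
    obtain ⟨i, hi⟩ := h1
    rw [← QuotientGroup.mk_pow, QuotientGroup.eq] at hi
    refine ⟨((g ^ u) ^ i)⁻¹ * (m⁻¹ * g ^ u * m), hi, i, ?_⟩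
    have h2 := Subgroup.mem_center_iff.1 hi ((g ^ u) ^ i)
    rw [← h2]
    group

end GroupPart

section Main

variable {s : ℕ} [hs : Fact s.Prime] {M V : Type*} [Group M] [Finite M]
  [AddCommGroup V] [Module (ZMod s) V] [Finite V]

/-- **Main theorem**: a finite supersolvable group acting faithfully and irreducibly on a finite
`ZMod s`-vector space, all of whose elements of prime power order (prime `≠ s`) are quasi-scalar,
acts on a space spanned by a single vector. -/
theorem main (ρ : Representation (ZMod s) M V)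
    (hfaith : ∀ m : M, ρ m = 1 → m = 1)
    (hirr : ∀ W : Submodule (ZMod s) V, (∀ m : M, ∀ w ∈ W, ρ m w ∈ W) → W = ⊥ ∨ W = ⊤)
    (hM : Cfsg.IsSupersolvable M) (hqs : QS ρ) :
    ∃ v₀ : V, ∀ v : V, ∃ k : ZMod s, v = k • v₀ := by
  rcases subsingleton_or_nontrivial V with hV | hV
  · exact ⟨0, fun v => ⟨0, Subsingleton.elim _ _⟩⟩
  by_cases hc : Subgroup.center M = ⊤
  · exact center_top_case ρ hfaith hirr hqs hc
  · exfalso
    obtain ⟨b, r, a, hr, hb, hbc, hconj⟩ := exists_b hM hc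
    by_cases hrs : r = s
    · subst hrs
      exact core_s ρ hfaith hirr b a hb hbc hconj
    · exact core ρ hfaith hirr hqs b r a hr hrs hb hbc hconj

end Main

end Cfsg.Agent.Lib.Helper68_QuasiScalar
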