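import Mathlib
import Cfsg.Prelude.Def_SolvableStructure
import Cfsg.Agent.Lib.Helper9_Supersolvable
import Cfsg.Agent.Lib.Helper9_Supersolvable2
import Cfsg.Agent.Lib.Helper9_CLT2
import Cfsg.Agent.Lib.Helper1_MinNormal
import Cfsg.Agent.Lib.Helper68_QuasiScalar
import Cfsg.Agent.Lib.Helper68_MinNonSup

/-!
# Groups in which `⟨x, x^g⟩` has order not divisible by `q²`

Pieces for S3033: the hypothesis `Hyp`, its inheritance by subgroups and quotients, and the
core-free maximal subgroup case.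
-/

set_option autoImplicit false

namespace Cfsg.Agent.Lib.Helper68_ConjPair

open Cfsg.Agent.Lib.Helper9_Supersolvable Cfsg.Agent.Lib.Helper9_Supersolvable2
  Cfsg.Agent.Lib.Helper68_QuasiScalar

/-- the hypothesis of S3033 -/
def Hyp (G : Type*) [Group G] : Prop :=
  ∀ (p q : ℕ), p.Prime → q.Prime → p ≠ q → ∀ (x g : G), (∃ a : ℕ, orderOf x = p ^ a) →
    (∃ b : ℕ, orderOf g = q ^ b) →
      ¬ q ^ 2 ∣ Nat.card ↥(Subgroup.zpowers x ⊔ Subgroup.zpowers (g * x * g⁻¹))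

theorem map_pair {A G : Type*} [Group A] [Group G] (f : A →* G) (x g : A) :
    (Subgroup.zpowers x ⊔ Subgroup.zpowers (g * x * g⁻¹)).map f =
      Subgroup.zpowers (f x) ⊔ Subgroup.zpowers (f g * f x * (f g)⁻¹) := by
  rw [Subgroup.map_sup, MonoidHom.map_zpowers, MonoidHom.map_zpowers, map_mul, map_mul, map_inv]

theorem hyp_of_injective {A G : Type*} [Group A] [Group G] (f : A →* G)
    (hf : Function.Injective f) (h : Hyp G) : Hyp A := by
  intro p q hp hq hpq x g ⟨a, ha⟩ ⟨b, hb⟩ hdvd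
  apply h p q hp hq hpq (f x) (f g) ⟨a, by rw [orderOf_injective f hf, ha]⟩
    ⟨b, by rw [orderOf_injective f hf, hb]⟩
  rw [← map_pair, Subgroup.card_map_of_injective hf]
  exact hdvd

theorem exists_lift_primePow {G Q : Type*} [Group G] [Group Q] [Finite G] (f : G →* Q)
    (hf : Function.Surjective f) {p : ℕ} (hp : p.Prime) (y : Q) (a : ℕ)
    (hy : orderOf y = p ^ a) : ∃ x : G, f x = y ∧ ∃ b : ℕ, orderOf x = p ^ b := by
  obtain ⟨x₀, rfl⟩ := hf y
  have hn0 : orderOf x₀ ≠ 0 := (orderOf_pos x₀).ne'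
  obtain ⟨b, u, hpu, hnu⟩ := Nat.exists_eq_pow_mul_and_not_dvd hn0 p hp.ne_one
  by_cases ha : a = 0
  · subst ha
    rw [pow_zero, orderOf_eq_one_iff] at hy
    exact ⟨1, by rw [map_one, hy], 0, by simp⟩
  have h1 : 1 < p ^ a := Nat.one_lt_pow ha hp.one_lt
  have hcop : Nat.Coprime u (p ^ a) :=
    Nat.Coprime.pow_right a ((Nat.Prime.coprime_iff_not_dvd hp).2 hpu).symm
  obtain ⟨t, -, ht⟩ := Nat.exists_mul_mod_eq_one_of_coprime hcop h1
  refine ⟨x₀ ^ (u * t), ?_, ?_⟩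
  · rw [map_pow, ← pow_mod_orderOf, hy, ht, pow_one]
  · have h2 : (x₀ ^ (u * t)) ^ (p ^ b) = 1 := by
      rw [← pow_mul, mul_comm (u * t), ← mul_assoc, ← hnu, pow_mul, pow_orderOf_eq_one, one_pow]
    obtain ⟨c, -, hc⟩ := (Nat.dvd_prime_pow hp).1 (orderOf_dvd_of_pow_eq_one h2)
    exact ⟨c, hc⟩

theorem hyp_of_surjective {G Q : Type*} [Group G] [Group Q] [Finite G] (f : G →* Q)
    (hf : Function.Surjective f) (h : Hyp G) : Hyp Q := by
  intro p q hp hq hpq x g ⟨a, ha⟩ ⟨b, hb⟩ hdvd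
  obtain ⟨x', rfl, a', ha'⟩ := exists_lift_primePow f hf hp x a ha
  obtain ⟨g', rfl, b', hb'⟩ := exists_lift_primePow f hf hq g b hb
  apply h p q hp hq hpq x' g' ⟨a', ha'⟩ ⟨b', hb'⟩
  rw [← map_pair] at hdvd
  exact hdvd.trans (Subgroup.card_map_dvd _ f)

/-- group form of the main theorem of `Helper68_QuasiScalar`, module structure given -/
theorem card_le_of_qs_action_aux {s : ℕ} [hs : Fact s.Prime] {M A : Type*} [Group M] [Finite M]
    [CommGroup A] [Finite A] [Module (ZMod s) (Additive A)] (φ : M →* MulAut A)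
    (hfaith : ∀ m : M, φ m = 1 → m = 1)
    (hirr : ∀ B : Subgroup A, (∀ m : M, ∀ b ∈ B, φ m b ∈ B) → B = ⊥ ∨ B = ⊤)
    (hM : Cfsg.IsSupersolvable M)
    (hqs : ∀ (x : M) (r a : ℕ), r.Prime → r ≠ s → orderOf x = r ^ a → ∀ v : A,
      ∃ k : ℕ, φ x (φ x v / v) = (φ x v / v) ^ k) :
    Nat.card A ≤ s := by
  let ρ₀ : M →* Module.End (ZMod s) (Additive A) :=
    { toFun := fun m => AddMonoidHom.toZModLinearMap s (MonoidHom.toAdditive (φ m).toMonoidHom)
      map_one' := by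
        ext v
        rw [map_one]
        rfl
      map_mul' := by
        intro x y
        ext v
        rw [map_mul]
        rfl }
  let ρ : Representation (ZMod s) M (Additive A) := ρ₀
  have hρ : ∀ (m : M) (v : Additive A), ρ m v = Additive.ofMul (φ m (Additive.toMul v)) :=
    fun _ _ => rfl
  have hnat : ∀ (k : ℕ) (v : Additive A), (k : ZMod s) • v = Additive.ofMul ((Additive.toMul v : A) ^ k) := by
    intro k v
    rw [Nat.cast_smul_eq_nsmul]; rfl
  have hfaith' : ∀ m : M, ρ m = 1 → m = 1 := by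
    intro m hm
    apply hfaith
    ext a
    have := congrArg (fun f => f (Additive.ofMul a)) hm
    simp only [hρ, Module.End.one_apply] at this
    exact this
  have hirr' : ∀ W : Submodule (ZMod s) (Additive A), (∀ m : M, ∀ w ∈ W, ρ m w ∈ W) →
      W = ⊥ ∨ W = ⊤ := by
    intro W hW
    let B : Subgroup A :=
      { carrier := {a | Additive.ofMul a ∈ W}
        one_mem' := W.zero_mem
        mul_mem' := fun ha hb => W.add_mem ha hb
        inv_mem' := fun ha => W.neg_mem ha }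
    have hB : ∀ a : A, a ∈ B ↔ Additive.ofMul a ∈ W := fun _ => Iff.rfl
    have hBinv : ∀ m : M, ∀ b ∈ B, φ m b ∈ B := by
      intro m b hb
      rw [hB] at hb ⊢
      exact hW m _ hb
    rcases hirr B hBinv with h | h
    · left
      rw [eq_bot_iff]
      intro w hw
      have : Additive.toMul w ∈ B := hw
      rw [h, Subgroup.mem_bot] at this
      rw [Submodule.mem_bot]
      exact this
    · right
      rw [eq_top_iff]
      intro w _
      have : Additive.toMul w ∈ B := by rw [h]; trivial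
      exact this
  have hqs' : QS ρ := by
    intro x r a hr hrs hx v
    obtain ⟨k, hk⟩ := hqs x r a hr hrs hx (Additive.toMul v)
    refine ⟨(k : ZMod s), ?_⟩
    have h1 : (ρ x - 1) v = Additive.ofMul (φ x (Additive.toMul v) / Additive.toMul v) := by
      rw [LinearMap.sub_apply, Module.End.one_apply, hρ]; rfl
    rw [h1, hnat, hρ]
    exact congrArg Additive.ofMul hk
  obtain ⟨v₀, hv₀⟩ := main ρ hfaith' hirr' hM hqs'
  have hsurj : Function.Surjective (fun k : ZMod s => k • v₀) := by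
    intro v
    obtain ⟨k, hk⟩ := hv₀ v
    exact ⟨k, hk.symm⟩
  have h1 := Nat.card_le_card_of_surjective _ hsurj
  rw [Nat.card_zmod] at h1
  exact h1

theorem card_le_of_qs_action {s : ℕ} [hs : Fact s.Prime] {M A : Type*} [Group M] [Finite M]
    [CommGroup A] [Finite A] (hexp : ∀ a : A, a ^ s = 1) (φ : M →* MulAut A)
    (hfaith : ∀ m : M, φ m = 1 → m = 1)
    (hirr : ∀ B : Subgroup A, (∀ m : M, ∀ b ∈ B, φ m b ∈ B) → B = ⊥ ∨ B = ⊤)
    (hM : Cfsg.IsSupersolvable M)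
    (hqs : ∀ (x : M) (r a : ℕ), r.Prime → r ≠ s → orderOf x = r ^ a → ∀ v : A,
      ∃ k : ℕ, φ x (φ x v / v) = (φ x v / v) ^ k) :
    Nat.card A ≤ s := by
  have hsm : ∀ v : Additive A, s • v = 0 := by
    intro v
    have : s • v = Additive.ofMul ((Additive.toMul v : A) ^ s) := rfl
    rw [this, hexp]; rfl
  exact @card_le_of_qs_action_aux s hs M A _ _ _ _ (AddCommGroup.zmodModule hsm) φ hfaith hirr
    hM hqs


section CoreFree

variable {G : Type*} [Group G]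

theorem compl_max' (N M : Subgroup G) [hN : N.Normal]
    (hcomm : ∀ a ∈ N, ∀ b ∈ N, a * b = b * a)
    (hmin : ∀ X : Subgroup G, X.Normal → X ≤ N → X = ⊥ ∨ X = N) (hM : IsCoatom M)
    (hNM : ¬ N ≤ M) :
    N ⊔ M = ⊤ ∧ N ⊓ M = ⊥ ∧ ∀ g : G, ∃ a ∈ N, ∃ m ∈ M, g = a * m := by
  have h1 : N ⊔ M = ⊤ := by
    apply hM.2
    apply lt_of_le_of_ne le_sup_right
    intro h
    apply hNM
    rw [h]; exact le_sup_left
  have h3 : ∀ g : G, ∃ a ∈ N, ∃ m ∈ M, g = a * m := by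
    intro g
    have hg : g ∈ ((N ⊔ M : Subgroup G) : Set G) := by rw [h1]; exact Subgroup.mem_top g
    rw [Subgroup.normal_mul, Set.mem_mul] at hg
    obtain ⟨a, ha, m, hm, he⟩ := hg
    exact ⟨a, ha, m, hm, he.symm⟩
  refine ⟨h1, ?_, h3⟩
  have hnorm : (N ⊓ M).Normal := by
    refine ⟨fun x hx g => ?_⟩
    obtain ⟨a, ha, m, hm, rfl⟩ := h3 g
    have hy : m * x * m⁻¹ ∈ N ⊓ M :=
      ⟨hN.conj_mem x hx.1 m, M.mul_mem (M.mul_mem hm hx.2) (M.inv_mem hm)⟩
    have e : a * m * x * (a * m)⁻¹ = m * x * m⁻¹ := by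
      have hc := hcomm a ha _ hy.1
      calc a * m * x * (a * m)⁻¹ = (a * (m * x * m⁻¹)) * a⁻¹ := by group
        _ = ((m * x * m⁻¹) * a) * a⁻¹ := by rw [hc]
        _ = m * x * m⁻¹ := by group
    rw [e]; exact hy
  rcases hmin _ hnorm inf_le_left with h | h
  · exact h
  · exfalso
    apply hNM
    rw [← h]; exact inf_le_right

/-- the quasi-scalar property from `Hyp` -/
theorem qs_of_hyp [Finite G] (hyp : Hyp G) (N : Subgroup G) [hN : N.Normal] (s : ℕ)
    (hs : s.Prime) (hexp : ∀ a ∈ N, a ^ s = 1) (X : G) (r a : ℕ) (hr : r.Prime) (hrs : r ≠ s)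
    (hX : orderOf X = r ^ a) (V : G) (hV : V ∈ N) :
    ∃ k : ℕ, X * (X * V * X⁻¹ * V⁻¹) * X⁻¹ = (X * V * X⁻¹ * V⁻¹) ^ k := by
  classical
  by_cases hc1 : X * V * X⁻¹ * V⁻¹ = 1
  · exact ⟨0, by rw [hc1]; group⟩
  have : Fact s.Prime := ⟨hs⟩
  have hVord : ∃ b : ℕ, orderOf V = s ^ b := by
    have h1 : orderOf V ∣ s := orderOf_dvd_of_pow_eq_one (hexp V hV)
    rcases (Nat.dvd_prime hs).1 h1 with h | h
    · exact ⟨0, by rw [h, pow_zero]⟩
    · exact ⟨1, by rw [h, pow_one]⟩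
  have hT := hyp r s hr hs hrs X V ⟨a, hX⟩ hVord
  obtain ⟨T, hTdef⟩ : ∃ T : Subgroup G,
      T = Subgroup.zpowers X ⊔ Subgroup.zpowers (V * X * V⁻¹) := ⟨_, rfl⟩
  rw [← hTdef] at hT
  have hXT : X ∈ T := by
    rw [hTdef]
    exact (le_sup_left : Subgroup.zpowers X ≤ _) (Subgroup.mem_zpowers X)
  have hYT : V * X * V⁻¹ ∈ T := by
    rw [hTdef]
    exact (le_sup_right : Subgroup.zpowers (V * X * V⁻¹) ≤ _) (Subgroup.mem_zpowers _)
  have hcT : X * V * X⁻¹ * V⁻¹ ∈ T := by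
    have : X * V * X⁻¹ * V⁻¹ = X * (V * X * V⁻¹)⁻¹ := by group
    rw [this]
    exact T.mul_mem hXT (T.inv_mem hYT)
  have hcN : X * V * X⁻¹ * V⁻¹ ∈ N := N.mul_mem (hN.conj_mem V hV X) (N.inv_mem hV)
  have hcD : X * V * X⁻¹ * V⁻¹ ∈ T ⊓ N := ⟨hcT, hcN⟩
  have hcs : (X * V * X⁻¹ * V⁻¹) ^ s = 1 := hexp _ hcN
  have hord : orderOf (X * V * X⁻¹ * V⁻¹) = s := orderOf_eq_prime hcs hc1
  -- `T ⊓ N` is an `s`-group whose order divides `|T|`
  have hDp : IsPGroup s ↥(T ⊓ N) := by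
    intro g
    refine ⟨1, ?_⟩
    apply Subtype.ext
    rw [pow_one, Subgroup.coe_pow, Subgroup.coe_one]
    exact hexp _ g.2.2
  obtain ⟨j, hj⟩ := hDp.exists_card_eq
  have hdvd : Nat.card ↥(T ⊓ N) ∣ Nat.card T := Subgroup.card_dvd_of_le inf_le_left
  have hj1 : j ≤ 1 := by
    by_contra hlt
    push Not at hlt
    apply hT
    calc s ^ 2 ∣ s ^ j := pow_dvd_pow s hlt
      _ ∣ Nat.card T := hj ▸ hdvd
  have hDle : Nat.card ↥(T ⊓ N) ≤ s := by
    rw [hj]
    calc s ^ j ≤ s ^ 1 := Nat.pow_le_pow_right hs.pos hj1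
      _ = s := pow_one s
  have hzD : Subgroup.zpowers (X * V * X⁻¹ * V⁻¹) = T ⊓ N := by
    apply Subgroup.eq_of_le_of_card_ge
    · rw [Subgroup.zpowers_le]; exact hcD
    · rw [Nat.card_zpowers, hord]; exact hDle
  have hconj : X * (X * V * X⁻¹ * V⁻¹) * X⁻¹ ∈ T ⊓ N :=
    ⟨T.mul_mem (T.mul_mem hXT hcT) (T.inv_mem hXT), hN.conj_mem _ hcN X⟩
  rw [← hzD, ← mem_powers_iff_mem_zpowers, Submonoid.mem_powers_iff] at hconj
  obtain ⟨k, hk⟩ := hconj
  exact ⟨k, hk.symm⟩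

/-- a core-free maximal subgroup which is supersolvable, in a solvable group satisfying `Hyp`,
has prime index. -/
theorem index_prime_of_corefree [Finite G] (hG : Group.IsSolvable G) (hyp : Hyp G)
    (Mx : Subgroup G) (hMx : IsCoatom Mx) (hcore : Mx.normalCore = ⊥)
    (hMs : Cfsg.IsSupersolvable Mx) : Mx.index.Prime := by
  classical
  have htb : (⊤ : Subgroup G) ≠ ⊥ := by
    intro h
    apply hMx.1
    rw [eq_top_iff, h]; exact bot_le
  obtain ⟨N, hNn, hN0, -, hmin'⟩ :=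
    Cfsg.Agent.Lib.Helper9_CLT2.exists_minimal_normal_le (⊤ : Subgroup G) htb
  have hmin : ∀ X : Subgroup G, X.Normal → X ≤ N → X = ⊥ ∨ X = N := by
    intro X hX hXN
    by_cases h : X = ⊥
    · exact Or.inl h
    · exact Or.inr (hmin' X hX h hXN)
  have hNs : Group.IsSolvable N := inferInstance
  obtain ⟨hNc, s, hs, hexp⟩ :=
    Cfsg.Agent.Lib.Helper1_MinNormal.elementary_abelian_of_minimal N hNs hN0 hmin
  have : Fact s.Prime := ⟨hs⟩
  have hcomm : ∀ a ∈ N, ∀ b ∈ N, a * b = b * a := by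
    intro a ha b hb
    have := hNc.is_comm.comm (⟨a, ha⟩ : N) ⟨b, hb⟩
    exact congrArg Subtype.val this
  have hNM : ¬ N ≤ Mx := by
    intro h
    apply hN0
    rw [eq_bot_iff, ← hcore]
    exact (Subgroup.normal_le_normalCore).2 h
  obtain ⟨hsup, hinf, hdecomp⟩ := compl_max' N Mx hcomm hmin hMx hNM
  -- faithfulness
  have hfaith : ∀ m ∈ Mx, (∀ a ∈ N, m * a * m⁻¹ = a) → m = 1 := by
    let C : Subgroup G :=
      { carrier := {m | m ∈ Mx ∧ ∀ a ∈ N, m * a * m⁻¹ = a}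
        one_mem' := ⟨Mx.one_mem, fun a _ => by group⟩
        mul_mem' := by
          rintro x y ⟨hx, hx'⟩ ⟨hy, hy'⟩
          refine ⟨Mx.mul_mem hx hy, fun a ha => ?_⟩
          have : x * y * a * (x * y)⁻¹ = x * (y * a * y⁻¹) * x⁻¹ := by group
          rw [this, hy' a ha, hx' a ha]
        inv_mem' := by
          rintro x ⟨hx, hx'⟩
          refine ⟨Mx.inv_mem hx, fun a ha => ?_⟩
          have h1 := hx' a ha
          calc x⁻¹ * a * x⁻¹⁻¹ = x⁻¹ * (x * a * x⁻¹) * x := by rw [h1, inv_inv]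
            _ = a := by group }
    have hCmem : ∀ m, m ∈ C ↔ m ∈ Mx ∧ ∀ a ∈ N, m * a * m⁻¹ = a := fun _ => Iff.rfl
    have hCn : C.Normal := by
      refine ⟨fun c hc g => ?_⟩
      obtain ⟨hcM, hc'⟩ := (hCmem c).1 hc
      obtain ⟨a, ha, m, hm, rfl⟩ := hdecomp g
      -- `a * m * c * (a * m)⁻¹ = m * c * m⁻¹`
      have hmc : m * c * m⁻¹ ∈ C := by
        rw [hCmem]
        refine ⟨Mx.mul_mem (Mx.mul_mem hm hcM) (Mx.inv_mem hm), fun b hb => ?_⟩
        have hb' : m⁻¹ * b * m ∈ N := by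
          have := hNn.conj_mem b hb m⁻¹
          rwa [inv_inv] at this
        have h1 := hc' _ hb'
        calc m * c * m⁻¹ * b * (m * c * m⁻¹)⁻¹
            = m * (c * (m⁻¹ * b * m) * c⁻¹) * m⁻¹ := by group
          _ = m * (m⁻¹ * b * m) * m⁻¹ := by rw [h1]
          _ = b := by group
      have h2 : a * m * c * (a * m)⁻¹ = m * c * m⁻¹ := by
        have h3 := ((hCmem _).1 hmc).2 a⁻¹ (N.inv_mem ha)
        -- `(m c m⁻¹) a⁻¹ (m c m⁻¹)⁻¹ = a⁻¹`
        calc a * m * c * (a * m)⁻¹ = a * ((m * c * m⁻¹) * a⁻¹ * (m * c * m⁻¹)⁻¹) * (m * c * m⁻¹) := by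
              group
          _ = a * a⁻¹ * (m * c * m⁻¹) := by rw [h3]
          _ = m * c * m⁻¹ := by group
      rw [h2]; exact hmc
    have hCle : C ≤ Mx := fun m hm => ((hCmem m).1 hm).1
    have hCbot : C = ⊥ := by
      rw [eq_bot_iff, ← hcore]
      exact (Subgroup.normal_le_normalCore).2 hCle
    intro m hm hm'
    have : m ∈ C := (hCmem m).2 ⟨hm, hm'⟩
    rw [hCbot, Subgroup.mem_bot] at this
    exact this
  -- the action
  let inst : CommGroup N :=
    { (inferInstance : Group N) with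
      mul_comm := fun a b => Subtype.ext (hcomm a a.2 b b.2) }
  have hexp' : ∀ a : N, a ^ s = 1 := by
    intro a
    apply Subtype.ext
    rw [Subgroup.coe_pow, Subgroup.coe_one]
    exact hexp a a.2
  obtain ⟨φ, hφdef⟩ : ∃ φ : Mx →* MulAut N, φ = (MulAut.conjNormal (H := N)).comp Mx.subtype :=
    ⟨_, rfl⟩
  have hφ : ∀ (m : Mx) (v : N), ((φ m v : N) : G) = (m : G) * v * (m : G)⁻¹ := by
    intro m v
    rw [hφdef]
    rfl
  have hfaith' : ∀ m : Mx, φ m = 1 → m = 1 := by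
    intro m hm
    apply Subtype.ext
    apply hfaith m m.2
    intro a ha
    have := congrArg (fun f : MulAut N => ((f ⟨a, ha⟩ : N) : G)) hm
    simp only [hφ, MulAut.one_apply] at this
    exact this
  have hirr' : ∀ B : Subgroup N, (∀ m : Mx, ∀ b ∈ B, φ m b ∈ B) → B = ⊥ ∨ B = ⊤ := by
    intro B hB
    have hXn : (B.map N.subtype).Normal := by
      refine ⟨?_⟩
      rintro _ ⟨b, hb, rfl⟩ g
      obtain ⟨a, ha, m, hm, rfl⟩ := hdecomp g
      have h1 := hB ⟨m, hm⟩ b hb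
      refine ⟨φ ⟨m, hm⟩ b, h1, ?_⟩
      rw [Subgroup.coe_subtype, hφ]
      have h2 : m * (b : G) * m⁻¹ ∈ N := hNn.conj_mem _ b.2 m
      have h3 := hcomm a ha _ h2
      calc m * (b : G) * m⁻¹ = ((m * (b : G) * m⁻¹) * a) * a⁻¹ := by group
        _ = (a * (m * (b : G) * m⁻¹)) * a⁻¹ := by rw [h3]
        _ = a * m * (b : G) * (a * m)⁻¹ := by group
    have hXle : B.map N.subtype ≤ N := by
      rintro _ ⟨b, -, rfl⟩
      exact b.2
    rcases hmin _ hXn hXle with h | h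
    · left
      exact (Subgroup.map_eq_bot_iff_of_injective B N.subtype_injective).1 h
    · right
      rw [eq_top_iff]
      intro b _
      have hb : (b : G) ∈ B.map N.subtype := by rw [h]; exact b.2
      obtain ⟨b', hb', hbb'⟩ := hb
      have : b' = b := Subtype.ext hbb'
      rw [← this]; exact hb'
  have hqs' : ∀ (x : Mx) (r a : ℕ), r.Prime → r ≠ s → orderOf x = r ^ a → ∀ v : N,
      ∃ k : ℕ, φ x (φ x v / v) = (φ x v / v) ^ k := by
    intro x r a hr hrs hx v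
    have hx' : orderOf (x : G) = r ^ a := by rw [Subgroup.orderOf_coe, hx]
    obtain ⟨k, hk⟩ := qs_of_hyp hyp N s hs hexp (x : G) r a hr hrs hx' (v : G) v.2
    refine ⟨k, ?_⟩
    apply Subtype.ext
    rw [hφ, Subgroup.coe_pow, Subgroup.coe_div, hφ, div_eq_mul_inv]
    exact hk
  have hle : Nat.card N ≤ s :=
    @card_le_of_qs_action s _ Mx N _ _ inst _ hexp' φ hfaith' hirr' hMs hqs'
  -- `s ≤ |N|`
  have hge : s ≤ Nat.card N := by
    obtain ⟨⟨w, hwN⟩, hw1'⟩ := (Subgroup.ne_bot_iff_exists_ne_one).1 hN0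
    have hw1 : w ≠ 1 := fun h => hw1' (Subtype.ext h)
    have hord : orderOf w = s := orderOf_eq_prime (hexp w hwN) hw1
    have h1 := orderOf_dvd_natCard (⟨w, hwN⟩ : N)
    rw [Subgroup.orderOf_mk, hord] at h1
    exact Nat.le_of_dvd Nat.card_pos h1
  have hNcard : Nat.card N = s := le_antisymm hle hge
  -- index
  have h1 : Nat.card (Mx ⊔ N : Subgroup G) = Nat.card Mx * Nat.card N :=
    Cfsg.Agent.Lib.Helper9_CLT2.card_sup_of_inf_eq_bot Mx N (by rw [inf_comm]; exact hinf)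
  rw [sup_comm, hsup, Subgroup.card_top] at h1
  have h2 := Subgroup.card_mul_index Mx
  rw [h1] at h2
  have h3 : Mx.index = Nat.card N := Nat.eq_of_mul_eq_mul_left Nat.card_pos h2
  rw [h3, hNcard]
  exact hs

end CoreFree

end Cfsg.Agent.Lib.Helper68_ConjPair
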