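import Mathlib
import Cfsg.Agent.Lib.Helper68_EA2
import Cfsg.Agent.Lib.Helper68_EA2Peel
import Cfsg.Agent.Lib.Helper27_StOp_Asm

/-!
Helper68_EA2OpDefs: S4625 (market `ea2_packages`), the family `Ω⁺_{2m}`. Definitions for the packages OP-SUB, OP-COL,
OP-END and the Sylow wiring (`sylow_UUop`: the unitriangular subgroup of `GO m F = Ω⁺_{2m}(F)` is a Sylow `p`-subgroup).
helper68.
-/

set_option autoImplicit false
set_option linter.unusedSectionVars false
set_option linter.unusedVariables false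

namespace Cfsg.Agent.Lib.Helper68_EA2OpDefs

open Matrix Cfsg.Agent.Lib.Helper68_MatGrp Cfsg.Agent.Lib.Helper68_StOpDefs
  Cfsg.Agent.Lib.Helper27_StOp_Asm Cfsg.Agent.Lib.Helper68_EA2 Cfsg.Agent.Lib.Helper68_EA2Peel
  Cfsg.Agent.Lib.Helper79_StOp_CARDB

variable {m : ℕ} {F : Type*} [Field F] [Fintype F]

/-- the unitriangular subgroup of `Ω⁺_{2m}(F)` -/
abbrev UUop (m : ℕ) (F : Type*) [Field F] [Fintype F] : Subgroup (GO m F) :=
  UU (φ m F) (ht m) (ht_injective m)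

/-- the positive root elements `lx a c t`, `ht a < ht c` -/
def posSetOp (m : ℕ) (F : Type*) [Field F] [Fintype F] : Set (GO m F) :=
  {g | ∃ (a c : I m) (t : F), LxOK a c ∧ ht m a < ht m c ∧ g = lx a c t}

/-- the elements whose columns `e_i`, `f_i`, `i < k`, are identity columns -/
def CkOp (k : ℕ) : Set (GO m F) :=
  {g | ∀ i : Fin m, i.val < k → ∀ b : I m,
    φ m F g b (ie i) = (1 : Matrix (I m) (I m) F) b (ie i) ∧
    φ m F g b (jf i) = (1 : Matrix (I m) (I m) F) b (jf i)}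

theorem mem_CkOp_zero (g : GO m F) : g ∈ CkOp (m := m) (F := F) 0 := by
  intro i hi
  exact absurd hi (Nat.not_lt_zero _)

/-- **OP-SYL**: the unitriangular subgroup is a Sylow `p`-subgroup of `Ω⁺_{2m}(F)`, `m ≥ 3`. -/
theorem sylow_UUop (p : ℕ) [Fact p.Prime] [CharP F p] (hm : 3 ≤ m) :
    ∃ Q : Sylow p (GO m F), (Q : Subgroup (GO m F)) = UUop m F := by
  classical
  have hfin : Finite (GO m F) := Subtype.finite
  obtain ⟨k, hk⟩ := (Cfsg.Agent.Lib.Helper77_StOo_PGRP.isPGroup_UU (φ m F) φ_injective (ht m)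
    (ht_injective m) p).exists_card_eq
  have hBT : Nat.card ((opRDat (F := F) hm).B) =
      Nat.card ↥((opRDat (F := F) hm).B ⊓ (opRDat (F := F) hm).N) * p ^ k := by
    show Nat.card (Boo m F) = Nat.card ↥(Boo m F ⊓ Noo m F) * _
    rw [Boo_inf_Noo hm, ← hk]
    exact card_UT (φ m F) φ_injective (ht m) (ht_injective m) (Cfsg.Agent.Lib.Helper20_StOp_DIAGMEM.exists_diag_Too hm)
  have hT : ¬ p ∣ Nat.card ↥((opRDat (F := F) hm).B ⊓ (opRDat (F := F) hm).N) := by
    show ¬ p ∣ Nat.card ↥(Boo m F ⊓ Noo m F)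
    rw [Boo_inf_Noo hm]
    exact Cfsg.Agent.Lib.Helper9_StOo_TORUS.not_dvd_card_Diag (φ m F) φ_injective p
  exact exists_sylow_of_card p (UUop m F) k hk
    (Cfsg.Agent.Lib.Helper27_StSU_GENERIC.hG_of_hBT (opRDat (F := F) hm) p k hBT hT)

end Cfsg.Agent.Lib.Helper68_EA2OpDefs
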