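import Mathlib
import Cfsg.Agent.Lib.Helper68_EA2
import Cfsg.Agent.Lib.Helper68_EA2Peel
import Cfsg.Agent.Lib.Helper27_StSU_Asm
import Cfsg.Agent.Lib.Helper5_StSU_TU
import Cfsg.Agent.Lib.Helper88_StSU_GENB

/-!
Helper68_EA2SUDefs: S4625 (market `ea2_packages`), the unitary family. Definitions for the packages SU-PEEL, SU-EMSQ,
SU-END and the Sylow wiring (`sylow_Usu`: the unitriangular subgroup `Usu n σ` of `SUJ n σ` is a Sylow `p`-subgroup).
helper68.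
-/

set_option autoImplicit false
set_option linter.unusedSectionVars false
set_option linter.unusedVariables false

namespace Cfsg.Agent.Lib.Helper68_EA2SUDefs

open Matrix Cfsg.Agent.Lib.Helper68_MatGrp Cfsg.Agent.Lib.Helper27_StSUDefs
  Cfsg.Agent.Lib.Helper27_StSUBasic Cfsg.Agent.Lib.Helper5_StSU_TU Cfsg.Agent.Lib.Helper88_StSU_GENB
  Cfsg.Agent.Lib.Helper27_StSU_Asm Cfsg.Agent.Lib.Helper68_EA2 Cfsg.Agent.Lib.Helper68_EA2Peel

variable {n : ℕ} {F : Type*} [Field F] (σ : F →+* F)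

/-- the elements whose columns `y` with `y < k` or `rev y < k` are those of the identity matrix (they fix the basis
vectors `e_y`, `y < k` or `rev y < k`) -/
def CkSU (k : ℕ) : Set ↥(SUJ n σ) :=
  {g | ∀ y : Fin n, (y.val < k ∨ (Fin.rev y).val < k) → ∀ x, g.1.1 x y = (1 : Matrix (Fin n) (Fin n) F) x y}

/-- the Eichler elements in the unitriangular group: matrix `eM σ a w c` (helper88's `Helper88_StSU_GENB.eM`) with
`rev a < a` and `w` supported strictly between `rev a` and `a` -/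
def EiSU : Set ↥(SUJ n σ) :=
  {g | g ∈ Usu n σ ∧ ∃ (a : Fin n) (w : Fin n → F) (c : F), Fin.rev a < a ∧ (∀ x, a ≤ x → w x = 0) ∧
    (∀ x, x ≤ Fin.rev a → w x = 0) ∧ g.1.1 = eM σ a w c}

theorem mem_CkSU {k : ℕ} {g : ↥(SUJ n σ)} :
    g ∈ CkSU σ k ↔ ∀ y : Fin n, (y.val < k ∨ (Fin.rev y).val < k) → ∀ x,
      g.1.1 x y = (1 : Matrix (Fin n) (Fin n) F) x y := Iff.rfl

theorem mem_CkSU_zero (g : ↥(SUJ n σ)) : g ∈ CkSU σ 0 := by
  intro y hy
  rcases hy with h | h <;> exact absurd h (Nat.not_lt_zero _)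

/-- **SU-SYL**: the unitriangular subgroup is a Sylow `p`-subgroup of `SUJ n σ`. -/
theorem sylow_Usu [Fintype F] (hσ : ∀ x, σ (σ x) = x) (ε : F) (hε0 : ε ≠ 0) (hε : σ ε = -ε)
    (p : ℕ) [Fact p.Prime] [CharP F p] :
    ∃ Q : Sylow p ↥(SUJ n σ), (Q : Subgroup ↥(SUJ n σ)) = Usu n σ := by
  classical
  have hfin : Finite ↥(SUJ n σ) := by
    have : Finite (Matrix.SpecialLinearGroup (Fin n) F) := Subtype.finite
    exact Subtype.finite
  obtain ⟨k, hk⟩ := IsPGroup.iff_card.1 (isPGroup_Usu (n := n) σ p)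
  have hBT : Nat.card (suRDat (n := n) σ hσ ε hε0 hε).B =
      Nat.card ↥((suRDat (n := n) σ hσ ε hε0 hε).B ⊓ (suRDat (n := n) σ hσ ε hε0 hε).N) * p ^ k := by
    show Nat.card (Bsu n σ) = Nat.card ↥(Bsu n σ ⊓ Nsu n σ ε) * p ^ k
    rw [Bsu_inf_Nsu σ hσ ε hε0 hε, card_Bsu_eq σ hσ, hk]
  have hT : ¬ p ∣ Nat.card ↥((suRDat (n := n) σ hσ ε hε0 hε).B ⊓ (suRDat (n := n) σ hσ ε hε0 hε).N) := by
    show ¬ p ∣ Nat.card ↥(Bsu n σ ⊓ Nsu n σ ε)
    rw [Bsu_inf_Nsu σ hσ ε hε0 hε]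
    exact card_Tsu_coprime σ p
  exact exists_sylow_of_card p (Usu n σ) k hk (hG_of_hBT _ p k hBT hT)

end Cfsg.Agent.Lib.Helper68_EA2SUDefs
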