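import Mathlib
import Cfsg.Prelude.Def_GeometricClasses

/-!
# Eigenspaces of invertible matrices: conjugation, scalar shifts, independence (helper68)

Basic toolkit for S5877 (eigenspace bounds for normalisers of extraspecial groups).
-/

set_option autoImplicit false

namespace Cfsg.Agent.Lib.Helper68_ESBasic

open Matrix Module

variable {F : Type*} [Field F] {n : ℕ}

/-- The `c`-eigenspace of an invertible matrix. -/
def E (a : GL (Fin n) F) (c : F) : Submodule F (Fin n → F) :=
  Module.End.eigenspace (Matrix.toLin' (a : Matrix (Fin n) (Fin n) F)) c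

theorem mem_E {a : GL (Fin n) F} {c : F} {v : Fin n → F} :
    v ∈ E a c ↔ (a : Matrix (Fin n) (Fin n) F) *ᵥ v = c • v := by
  rw [E, Module.End.mem_eigenspace_iff, Matrix.toLin'_apply]

theorem mul_mulVec (a b : GL (Fin n) F) (v : Fin n → F) :
    ((a * b : GL (Fin n) F) : Matrix (Fin n) (Fin n) F) *ᵥ v
      = (a : Matrix (Fin n) (Fin n) F) *ᵥ ((b : Matrix (Fin n) (Fin n) F) *ᵥ v) := by
  rw [Units.val_mul, Matrix.mulVec_mulVec]

theorem inv_mulVec_cancel (a : GL (Fin n) F) (v : Fin n → F) :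
    ((a⁻¹ : GL (Fin n) F) : Matrix (Fin n) (Fin n) F) *ᵥ ((a : Matrix (Fin n) (Fin n) F) *ᵥ v) = v := by
  rw [← mul_mulVec, inv_mul_cancel, Units.val_one, Matrix.one_mulVec]

theorem mulVec_inv_cancel (a : GL (Fin n) F) (v : Fin n → F) :
    (a : Matrix (Fin n) (Fin n) F) *ᵥ (((a⁻¹ : GL (Fin n) F) : Matrix (Fin n) (Fin n) F) *ᵥ v) = v := by
  rw [← mul_mulVec, mul_inv_cancel, Units.val_one, Matrix.one_mulVec]

theorem mulVec_injective (a : GL (Fin n) F) :
    Function.Injective (Matrix.toLin' (a : Matrix (Fin n) (Fin n) F)) := by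
  intro v w h
  rw [Matrix.toLin'_apply, Matrix.toLin'_apply] at h
  have := congrArg (fun u => ((a⁻¹ : GL (Fin n) F) : Matrix (Fin n) (Fin n) F) *ᵥ u) h
  simpa [inv_mulVec_cancel] using this

theorem finrank_pi : Module.finrank F (Fin n → F) = n := by
  simp

/-- `x` maps the `c`-eigenspace of `a` into the `c`-eigenspace of `x a x⁻¹`. -/
theorem map_E_le (x a : GL (Fin n) F) (c : F) :
    (E a c).map (Matrix.toLin' (x : Matrix (Fin n) (Fin n) F)) ≤ E (x * a * x⁻¹) c := by
  rintro _ ⟨v, hv, rfl⟩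
  rw [SetLike.mem_coe, mem_E] at hv
  rw [mem_E, Matrix.toLin'_apply, mul_mulVec, mul_mulVec, inv_mulVec_cancel, hv,
    Matrix.mulVec_smul]

theorem finrank_E_conj_le (x a : GL (Fin n) F) (c : F) :
    Module.finrank F (E a c) ≤ Module.finrank F (E (x * a * x⁻¹) c) := by
  have h1 : Module.finrank F ((E a c).map (Matrix.toLin' (x : Matrix (Fin n) (Fin n) F)))
      = Module.finrank F (E a c) :=
    (Submodule.equivMapOfInjective _ (mulVec_injective x) (E a c)).finrank_eq.symm
  rw [← h1]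
  exact Submodule.finrank_mono (map_E_le x a c)

theorem finrank_E_conj (x a : GL (Fin n) F) (c : F) :
    Module.finrank F (E (x * a * x⁻¹) c) = Module.finrank F (E a c) := by
  apply le_antisymm _ (finrank_E_conj_le x a c)
  have := finrank_E_conj_le x⁻¹ (x * a * x⁻¹) c
  have h2 : x⁻¹ * (x * a * x⁻¹) * x⁻¹⁻¹ = a := by group
  rwa [h2] at this

/-- Eigenspace of a scalar multiple. -/
theorem E_sc_mul {z a : GL (Fin n) F} {l : F}
    (hz : (z : Matrix (Fin n) (Fin n) F) = l • (1 : Matrix (Fin n) (Fin n) F)) (hl : l ≠ 0) (c : F) :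
    E (z * a) c = E a (l⁻¹ * c) := by
  ext v
  rw [mem_E, mem_E, mul_mulVec, hz, Matrix.smul_mulVec, Matrix.one_mulVec]
  constructor
  · intro h
    have := congrArg (fun u => l⁻¹ • u) h
    simpa [smul_smul, inv_mul_cancel₀ hl] using this
  · intro h
    rw [h, smul_smul, mul_inv_cancel_left₀ hl]

theorem E_zero (a : GL (Fin n) F) : E a 0 = ⊥ := by
  rw [eq_bot_iff]
  intro v hv
  rw [mem_E, zero_smul] at hv
  have := congrArg (fun u => ((a⁻¹ : GL (Fin n) F) : Matrix (Fin n) (Fin n) F) *ᵥ u) hv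
  simp only [inv_mulVec_cancel, Matrix.mulVec_zero] at this
  simpa using this

/-- Relative independence of eigenspaces: the sum of the dimensions of the parts of `U` in finitely
many distinct eigenspaces is at most `dim U`. -/
theorem sum_finrank_inf_le (a : GL (Fin n) F) (U : Submodule F (Fin n → F)) (s : Finset F) :
    ∑ e ∈ s, Module.finrank F ↥(U ⊓ E a e) ≤ Module.finrank F ↥U := by
  classical
  have key : ∀ s : Finset F, ∑ e ∈ s, Module.finrank F ↥(U ⊓ E a e)
      ≤ Module.finrank F ↥(⨆ e ∈ s, U ⊓ E a e) := by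
    intro s
    induction s using Finset.induction_on with
    | empty => simp
    | insert e₀ s he₀ ih =>
      rw [Finset.sum_insert he₀, Finset.iSup_insert]
      have hdisj : (U ⊓ E a e₀) ⊓ (⨆ e ∈ s, U ⊓ E a e) = ⊥ := by
        have hind := Module.End.eigenspaces_iSupIndep
          (Matrix.toLin' (a : Matrix (Fin n) (Fin n) F))
        have h1 := hind e₀
        rw [disjoint_iff] at h1
        rw [eq_bot_iff, ← h1]
        refine inf_le_inf inf_le_right ?_
        refine iSup₂_le fun e he => ?_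
        have hne : e ≠ e₀ := fun h => he₀ (h ▸ he)
        exact le_trans inf_le_right (le_iSup₂_of_le e hne le_rfl)
      have h2 := Submodule.finrank_sup_add_finrank_inf_eq (U ⊓ E a e₀) (⨆ e ∈ s, U ⊓ E a e)
      rw [hdisj, finrank_bot, add_zero] at h2
      rw [h2]
      exact Nat.add_le_add_left ih _
  refine le_trans (key s) (Submodule.finrank_mono ?_)
  exact iSup₂_le fun e _ => inf_le_left

theorem sum_finrank_E_le (a : GL (Fin n) F) (s : Finset F) :
    ∑ e ∈ s, Module.finrank F ↥(E a e) ≤ n := by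
  have h := sum_finrank_inf_le a ⊤ s
  have e : ∀ e, Module.finrank F ↥(⊤ ⊓ E a e) = Module.finrank F ↥(E a e) := fun e => by
    rw [top_inf_eq]
  simp only [e, finrank_top] at h
  simpa using h

theorem finrank_E_add_le (a : GL (Fin n) F) {c₁ c₂ : F} (h : c₁ ≠ c₂) :
    Module.finrank F ↥(E a c₁) + Module.finrank F ↥(E a c₂) ≤ n := by
  classical
  have := sum_finrank_E_le a ({c₁, c₂} : Finset F)
  rwa [Finset.sum_pair h] at this

/-- Shift lemma: if `x a x⁻¹ = z a` with `z` the scalar `l`, the `c`- and `l⁻¹ c`-eigenspaces of `a`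
have the same dimension. -/
theorem finrank_E_shift {a x z : GL (Fin n) F} {l : F}
    (hz : (z : Matrix (Fin n) (Fin n) F) = l • (1 : Matrix (Fin n) (Fin n) F)) (hl : l ≠ 0)
    (h : x * a * x⁻¹ = z * a) (c : F) :
    Module.finrank F ↥(E a (l⁻¹ * c)) = Module.finrank F ↥(E a c) := by
  rw [← E_sc_mul hz hl, ← h, finrank_E_conj]

theorem finrank_E_shift_pow {a x z : GL (Fin n) F} {l : F}
    (hz : (z : Matrix (Fin n) (Fin n) F) = l • (1 : Matrix (Fin n) (Fin n) F)) (hl : l ≠ 0)
    (h : x * a * x⁻¹ = z * a) (c : F) (i : ℕ) :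
    Module.finrank F ↥(E a ((l⁻¹) ^ i * c)) = Module.finrank F ↥(E a c) := by
  induction i with
  | zero => rw [pow_zero, one_mul]
  | succ i ih =>
    rw [pow_succ', mul_assoc, finrank_E_shift hz hl h, ih]

/-- If `x a x⁻¹ = z a` with `z` a scalar of prime order `r`, every eigenspace of `a` has dimension
at most `n / r`. -/
theorem prime_mul_finrank_le {a x z : GL (Fin n) F} {l : F} {r : ℕ} (hr : r.Prime)
    (hz : (z : Matrix (Fin n) (Fin n) F) = l • (1 : Matrix (Fin n) (Fin n) F))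
    (hl1 : l ≠ 1) (hlr : l ^ r = 1)
    (h : x * a * x⁻¹ = z * a) (c : F) :
    r * Module.finrank F ↥(E a c) ≤ n := by
  classical
  have hl : l ≠ 0 := by
    rintro rfl
    rw [zero_pow hr.ne_zero] at hlr
    exact zero_ne_one hlr
  by_cases hc : c = 0
  · subst hc
    rw [E_zero, finrank_bot, mul_zero]
    exact Nat.zero_le _
  have := Fact.mk hr
  have hord : orderOf (l⁻¹) = r := by
    apply orderOf_eq_prime
    · rw [inv_pow, hlr, inv_one]
    · simpa using hl1
  have hinj : Set.InjOn (fun i : ℕ => (l⁻¹) ^ i * c) (Finset.range r : Set ℕ) := by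
    intro i hi j hj hij
    have h1 : (l⁻¹) ^ i = (l⁻¹) ^ j := mul_right_cancel₀ hc hij
    have hi' : i < orderOf (l⁻¹) := by rw [hord]; simpa using hi
    have hj' : j < orderOf (l⁻¹) := by rw [hord]; simpa using hj
    exact pow_injOn_Iio_orderOf hi' hj' h1
  have hsum := sum_finrank_E_le a ((Finset.range r).image (fun i : ℕ => (l⁻¹) ^ i * c))
  rw [Finset.sum_image hinj] at hsum
  have : ∑ i ∈ Finset.range r, Module.finrank F ↥(E a ((l⁻¹) ^ i * c))
      = r * Module.finrank F ↥(E a c) := by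
    rw [Finset.sum_congr rfl (fun i _ => finrank_E_shift_pow hz hl h c i)]
    simp
  rwa [this] at hsum

/-- If `w` is a `c`-eigenvector (`c ≠ 0`) of both `a` and `b`, then `b^j a^{-j}` fixes `w`. -/
theorem pow_mul_inv_pow_fix {a b : GL (Fin n) F} {c : F} (hc : c ≠ 0) {w : Fin n → F}
    (ha : w ∈ E a c) (hb : w ∈ E b c) (j : ℕ) :
    ((b ^ j * (a ^ j)⁻¹ : GL (Fin n) F) : Matrix (Fin n) (Fin n) F) *ᵥ w = w := by
  have hpow : ∀ (d : GL (Fin n) F), w ∈ E d c → ∀ j : ℕ,
      ((d ^ j : GL (Fin n) F) : Matrix (Fin n) (Fin n) F) *ᵥ w = c ^ j • w := by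
    intro d hd j
    induction j with
    | zero => simp
    | succ j ih =>
      rw [pow_succ, mul_mulVec, mem_E.mp hd, Matrix.mulVec_smul, ih, smul_smul, pow_succ']
  have h1 : ((a ^ j)⁻¹ : GL (Fin n) F).1 *ᵥ w = (c ^ j)⁻¹ • w := by
    have := hpow a ha j
    have h2 := congrArg (fun u => (((a ^ j)⁻¹ : GL (Fin n) F) : Matrix (Fin n) (Fin n) F) *ᵥ u) this
    simp only [inv_mulVec_cancel, Matrix.mulVec_smul] at h2
    have h3 := congrArg (fun u => (c ^ j)⁻¹ • u) h2
    simp only [smul_smul, inv_mul_cancel₀ (pow_ne_zero j hc), one_smul] at h3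
    exact h3.symm
  rw [mul_mulVec, h1, Matrix.mulVec_smul, hpow b hb j, smul_smul,
    inv_mul_cancel₀ (pow_ne_zero j hc), one_smul]

/-- Two elements with a scalar commutator `≠ 1` have no common nonzero fixed vector. -/
theorem eq_zero_of_fixed_of_comm {h₁ h₂ z : GL (Fin n) F} {l : F}
    (hz : (z : Matrix (Fin n) (Fin n) F) = l • (1 : Matrix (Fin n) (Fin n) F)) (hl1 : l ≠ 1)
    (hcomm : h₁ * h₂ = z * (h₂ * h₁)) {w : Fin n → F}
    (h1 : (h₁ : Matrix (Fin n) (Fin n) F) *ᵥ w = w) (h2 : (h₂ : Matrix (Fin n) (Fin n) F) *ᵥ w = w) :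
    w = 0 := by
  have e1 : ((h₁ * h₂ : GL (Fin n) F) : Matrix (Fin n) (Fin n) F) *ᵥ w = w := by
    rw [mul_mulVec, h2, h1]
  have e2 : ((z * (h₂ * h₁) : GL (Fin n) F) : Matrix (Fin n) (Fin n) F) *ᵥ w = l • w := by
    rw [mul_mulVec, mul_mulVec, h1, h2, hz, Matrix.smul_mulVec, Matrix.one_mulVec]
  rw [hcomm, e2] at e1
  have : (l - 1) • w = 0 := by rw [sub_smul, e1, one_smul, sub_self]
  rcases smul_eq_zero.mp this with h | h
  · exact absurd (sub_eq_zero.mp h) hl1
  · exact h

/-- Two subspaces of dimension `d` meeting trivially force `2 d ≤ n`. -/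
theorem two_mul_le_of_inf_eq_bot {U₁ U₂ : Submodule F (Fin n → F)} (h : U₁ ⊓ U₂ = ⊥) :
    Module.finrank F ↥U₁ + Module.finrank F ↥U₂ ≤ n := by
  have h2 := Submodule.finrank_sup_add_finrank_inf_eq U₁ U₂
  rw [h, finrank_bot, add_zero] at h2
  rw [← h2]
  have := Submodule.finrank_le (U₁ ⊔ U₂)
  simpa using this

theorem add_le_add_finrank_inf (U₁ U₂ : Submodule F (Fin n → F)) :
    Module.finrank F ↥U₁ + Module.finrank F ↥U₂ ≤ n + Module.finrank F ↥(U₁ ⊓ U₂) := by
  have h2 := Submodule.finrank_sup_add_finrank_inf_eq U₁ U₂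
  rw [← h2]
  have := Submodule.finrank_le (U₁ ⊔ U₂)
  simp only [Module.finrank_fintype_fun_eq_card, Fintype.card_fin] at this
  omega

end Cfsg.Agent.Lib.Helper68_ESBasic
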