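import Mathlib

/-!
# A fixed-point lemma for an element of order `r` acting on an abelian `r`-section (helper68)

`H/Z` abelian of exponent `r`, `g` normalising `H` with `g^r ∈ Z`, acting nontrivially on `H/Z`:
then some `x ∈ H` has `⁅x,g⁆ ∉ Z` but `⁅g,⁅x,g⁆⁆ ∈ Z`.
-/

set_option autoImplicit false

namespace Cfsg.Agent.Lib.Helper68_ESFix

open scoped commutatorElement

variable {G : Type*} [Group G]

theorem comm_mul_left_gen (x y g : G) : ⁅x * y, g⁆ = x * ⁅y, g⁆ * x⁻¹ * ⁅x, g⁆ := by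
  simp only [commutatorElement_def]; group

theorem comm_mem_of_norm {H : Subgroup G} {g : G} (hgH : ∀ a ∈ H, g * a * g⁻¹ ∈ H)
    {x : G} (hx : x ∈ H) : ⁅x, g⁆ ∈ H := by
  have : ⁅x, g⁆ = x * (g * x⁻¹ * g⁻¹) := by
    simp only [commutatorElement_def]; group
  rw [this]
  exact H.mul_mem hx (hgH _ (H.inv_mem hx))

variable (Z : Subgroup G) [Z.Normal]

/-- In `G/Z`: `π⁅x,g⁆ π⁅y,g⁆ = π⁅y x, g⁆` for `x, y ∈ H`. -/
theorem mk_comm_mul {H : Subgroup G} (habel : ∀ a ∈ H, ∀ b ∈ H, ⁅a, b⁆ ∈ Z)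
    {g : G} (hgH : ∀ a ∈ H, g * a * g⁻¹ ∈ H) {x y : G} (hx : x ∈ H) (hy : y ∈ H) :
    (QuotientGroup.mk ⁅x, g⁆ : G ⧸ Z) * QuotientGroup.mk ⁅y, g⁆ = QuotientGroup.mk ⁅y * x, g⁆ := by
  rw [comm_mul_left_gen y x g]
  have h1 : y * ⁅x, g⁆ * y⁻¹ = ⁅y, ⁅x, g⁆⁆ * ⁅x, g⁆ := by
    simp only [commutatorElement_def]; group
  rw [h1]
  have h2 : ⁅y, ⁅x, g⁆⁆ ∈ Z := habel y hy _ (comm_mem_of_norm hgH hx)
  rw [QuotientGroup.mk_mul, QuotientGroup.mk_mul, (QuotientGroup.eq_one_iff _).mpr h2, one_mul]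

/-- The subgroup `{π⁅x,g⁆ : x ∈ H}` of `G/Z`. -/
def commSub {H : Subgroup G} (habel : ∀ a ∈ H, ∀ b ∈ H, ⁅a, b⁆ ∈ Z)
    {g : G} (hgH : ∀ a ∈ H, g * a * g⁻¹ ∈ H) : Subgroup (G ⧸ Z) where
  carrier := {m | ∃ x ∈ H, m = QuotientGroup.mk ⁅x, g⁆}
  one_mem' := ⟨1, H.one_mem, by simp⟩
  mul_mem' := by
    rintro _ _ ⟨x, hx, rfl⟩ ⟨y, hy, rfl⟩
    exact ⟨y * x, H.mul_mem hy hx, mk_comm_mul Z habel hgH hx hy⟩
  inv_mem' := by
    rintro _ ⟨x, hx, rfl⟩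
    refine ⟨x⁻¹, H.inv_mem hx, ?_⟩
    have := mk_comm_mul Z habel hgH hx (H.inv_mem hx)
    rw [inv_mul_cancel, commutatorElement_one_left, QuotientGroup.mk_one] at this
    exact inv_eq_of_mul_eq_one_right this

theorem exists_fixed_comm [Finite G] (H : Subgroup G) (r : ℕ) [hr : Fact r.Prime]
    (habel : ∀ a ∈ H, ∀ b ∈ H, ⁅a, b⁆ ∈ Z)
    (hpow : ∀ a ∈ H, a ^ r ∈ Z)
    (g : G) (hgH : ∀ a ∈ H, g * a * g⁻¹ ∈ H) (hgr : g ^ r ∈ Z)
    (x₀ : G) (hx₀ : x₀ ∈ H) (hx₀' : ⁅x₀, g⁆ ∉ Z) :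
    ∃ x ∈ H, ⁅x, g⁆ ∉ Z ∧ ⁅g, ⁅x, g⁆⁆ ∈ Z := by
  classical
  set M := commSub Z habel hgH with hM
  have : Fintype ↥M := Fintype.ofFinite _
  -- conjugation by `π g` preserves `M`
  have hconj : ∀ m ∈ M, (QuotientGroup.mk g : G ⧸ Z) * m * (QuotientGroup.mk g)⁻¹ ∈ M := by
    rintro _ ⟨x, hx, rfl⟩
    refine ⟨g * x * g⁻¹, hgH x hx, ?_⟩
    rw [← QuotientGroup.mk_inv, ← QuotientGroup.mk_mul, ← QuotientGroup.mk_mul]
    congr 1
    simp only [commutatorElement_def]; group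
  let f : Function.End ↥M := fun m => ⟨(QuotientGroup.mk g : G ⧸ Z) * m.1 * (QuotientGroup.mk g)⁻¹,
    hconj m.1 m.2⟩
  have hfpow : ∀ k : ℕ, ∀ m : ↥M, ((f ^ k) m).1
      = (QuotientGroup.mk g : G ⧸ Z) ^ k * m.1 * ((QuotientGroup.mk g) ^ k)⁻¹ := by
    intro k
    induction k with
    | zero =>
      intro m
      change m.1 = _
      simp
    | succ k ih =>
      intro m
      rw [pow_succ']
      change (QuotientGroup.mk g : G ⧸ Z) * ((f ^ k) m).1 * (QuotientGroup.mk g)⁻¹ = _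
      rw [ih m, pow_succ']; group
  have hgr' : (QuotientGroup.mk g : G ⧸ Z) ^ r = 1 := by
    rw [← QuotientGroup.mk_pow]
    exact (QuotientGroup.eq_one_iff _).mpr hgr
  have hf : f ^ r ^ 1 = 1 := by
    funext m
    apply Subtype.ext
    rw [pow_one, hfpow r m, hgr']
    change _ = m.1
    simp
  have hmod := Equiv.Perm.card_fixedPoints_modEq (p := r) (n := 1) hf
  rw [Fintype.card_eq_nat_card, Fintype.card_eq_nat_card] at hmod
  -- `M` is a nontrivial `r`-group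
  have hMp : IsPGroup r ↥M := by
    rintro ⟨_, x, hx, rfl⟩
    refine ⟨1, Subtype.ext ?_⟩
    rw [pow_one, Subgroup.coe_pow, Subgroup.coe_one, ← QuotientGroup.mk_pow]
    exact (QuotientGroup.eq_one_iff _).mpr (hpow _ (comm_mem_of_norm hgH hx))
  obtain ⟨k, hk⟩ := IsPGroup.iff_card.mp hMp
  have hm₀ : (QuotientGroup.mk ⁅x₀, g⁆ : G ⧸ Z) ∈ M := ⟨x₀, hx₀, rfl⟩
  have hm₀1 : (QuotientGroup.mk ⁅x₀, g⁆ : G ⧸ Z) ≠ 1 := fun h => hx₀' ((QuotientGroup.eq_one_iff _).mp h)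
  have hk0 : k ≠ 0 := by
    rintro rfl
    rw [pow_zero] at hk
    have hsub : Subsingleton ↥M := (Nat.card_eq_one_iff_unique.mp hk).1
    have := Subsingleton.elim (⟨_, hm₀⟩ : ↥M) 1
    exact hm₀1 (congrArg Subtype.val this)
  have hdvd : r ∣ Nat.card ↥M := by
    rw [hk]
    exact dvd_pow_self r hk0
  have hdvd2 : r ∣ Nat.card (Function.fixedPoints f) := by
    have := (Nat.modEq_zero_iff_dvd.mpr hdvd).symm.trans hmod
    exact (Nat.modEq_zero_iff_dvd.mp this.symm)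
  -- two distinct fixed points
  have h1fix : (1 : ↥M) ∈ Function.fixedPoints f := by
    apply Subtype.ext
    change (QuotientGroup.mk g : G ⧸ Z) * ((1 : ↥M) : G ⧸ Z) * (QuotientGroup.mk g)⁻¹ = _
    simp
  have hcard : 1 < Nat.card (Function.fixedPoints f) := by
    have : Nonempty (Function.fixedPoints f) := ⟨⟨1, h1fix⟩⟩
    have hpos : 0 < Nat.card (Function.fixedPoints f) := Nat.card_pos
    have := Nat.le_of_dvd hpos hdvd2
    exact lt_of_lt_of_le hr.out.one_lt this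
  have : Nontrivial (Function.fixedPoints f) := Finite.one_lt_card_iff_nontrivial.mp hcard
  obtain ⟨⟨m, hmfix⟩, hne⟩ := exists_ne (⟨1, h1fix⟩ : Function.fixedPoints f)
  obtain ⟨x, hx, hmx⟩ := m.2
  refine ⟨x, hx, ?_, ?_⟩
  · intro hZ
    apply hne
    apply Subtype.ext
    apply Subtype.ext
    change m.1 = 1
    rw [hmx]
    exact (QuotientGroup.eq_one_iff _).mpr hZ
  · have h2 : (f m).1 = m.1 := congrArg Subtype.val hmfix
    change (QuotientGroup.mk g : G ⧸ Z) * m.1 * (QuotientGroup.mk g)⁻¹ = m.1 at h2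
    rw [← QuotientGroup.eq_one_iff, commutatorElement_def, QuotientGroup.mk_mul,
      QuotientGroup.mk_mul, QuotientGroup.mk_mul, QuotientGroup.mk_inv, QuotientGroup.mk_inv, ← hmx,
      h2, mul_inv_cancel]

end Cfsg.Agent.Lib.Helper68_ESFix
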