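import Mathlib
import Cfsg.Prelude.Def_GeometricClasses
import Cfsg.Agent.Lib.Helper68_ESBasic

/-!
# Commutator pairing on `R ⊔ Z` for an extraspecial-like matrix group (helper68)

Context for S5877: `R ≤ GL_n(F)` with scalar commutators of order dividing `r` and Schur's lemma.
Cases A, B-basic and B-refined of the eigenspace bounds.
-/

set_option autoImplicit false

namespace Cfsg.Agent.Lib.Helper68_ESKappa

open Matrix Module Cfsg.Agent.Lib.Helper68_ESBasic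
open scoped commutatorElement

variable {F : Type*} [Field F] {n : ℕ}

/-! ### Scalars -/

theorem sc_val {z : GL (Fin n) F} (hz : z ∈ Cfsg.Geo.scalars (Fin n) F) :
    ∃ l : F, l ≠ 0 ∧ (z : Matrix (Fin n) (Fin n) F) = l • (1 : Matrix (Fin n) (Fin n) F) := by
  obtain ⟨c, hc⟩ := (Cfsg.Geo.mem_scalars_iff z).mp hz
  exact ⟨c, c.ne_zero, hc⟩

theorem sc_central {z : GL (Fin n) F} (hz : z ∈ Cfsg.Geo.scalars (Fin n) F) (a : GL (Fin n) F) :
    z * a = a * z := by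
  obtain ⟨l, -, hl⟩ := sc_val hz
  apply Units.ext
  rw [Units.val_mul, Units.val_mul, hl, Matrix.smul_mul, Matrix.one_mul, Matrix.mul_smul,
    Matrix.mul_one]

theorem sc_le_center : Cfsg.Geo.scalars (Fin n) F ≤ Subgroup.center (GL (Fin n) F) := by
  intro z hz
  rw [Subgroup.mem_center_iff]
  intro a
  exact (sc_central hz a).symm

theorem sc_ne_one {z : GL (Fin n) F} {l : F}
    (h : (z : Matrix (Fin n) (Fin n) F) = l • (1 : Matrix (Fin n) (Fin n) F)) (hz1 : z ≠ 1) :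
    l ≠ 1 := by
  rintro rfl
  apply hz1
  apply Units.ext
  rw [h, one_smul, Units.val_one]

theorem sc_pow (hn : 0 < n) {z : GL (Fin n) F} {l : F}
    (h : (z : Matrix (Fin n) (Fin n) F) = l • (1 : Matrix (Fin n) (Fin n) F)) {r : ℕ}
    (hzr : z ^ r = 1) : l ^ r = 1 := by
  have h1 : ((z ^ r : GL (Fin n) F) : Matrix (Fin n) (Fin n) F)
      = (l ^ r) • (1 : Matrix (Fin n) (Fin n) F) := by
    rw [Units.val_pow_eq_pow_val, h, smul_pow, one_pow]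
  rw [hzr, Units.val_one] at h1
  have h2 := congrFun (congrFun h1 ⟨0, hn⟩) ⟨0, hn⟩
  simpa using h2.symm

/-! ### Commutators with central values -/

section Comm

variable {G : Type*} [Group G]

theorem comm_mul_left {a b d : G} (h : ⁅b, d⁆ ∈ Subgroup.center G) :
    ⁅a * b, d⁆ = ⁅a, d⁆ * ⁅b, d⁆ := by
  have hc : ⁅b, d⁆ * (d * a⁻¹ * d⁻¹) = (d * a⁻¹ * d⁻¹) * ⁅b, d⁆ :=
    (Subgroup.mem_center_iff.mp h _).symm
  have e1 : ⁅a * b, d⁆ = a * (⁅b, d⁆ * (d * a⁻¹ * d⁻¹)) := by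
    simp only [commutatorElement_def]; group
  rw [e1, hc]
  simp only [commutatorElement_def]; group

theorem comm_mul_right {a b d : G} (h : ⁅a, d⁆ ∈ Subgroup.center G) :
    ⁅a, b * d⁆ = ⁅a, b⁆ * ⁅a, d⁆ := by
  have hc : ⁅a, d⁆ * b⁻¹ = b⁻¹ * ⁅a, d⁆ := (Subgroup.mem_center_iff.mp h _).symm
  have e1 : ⁅a, b * d⁆ = a * b * a⁻¹ * (a * d * a⁻¹ * d⁻¹ * b⁻¹) := by
    simp only [commutatorElement_def]; group
  have e2 : a * d * a⁻¹ * d⁻¹ = ⁅a, d⁆ := (commutatorElement_def a d).symm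
  rw [e1, e2, hc]
  simp only [commutatorElement_def]; group

theorem comm_inv_left {a d : G} (h : ⁅a, d⁆ ∈ Subgroup.center G) : ⁅a⁻¹, d⁆ = ⁅a, d⁆⁻¹ := by
  have h1 : ⁅a⁻¹ * a, d⁆ = ⁅a⁻¹, d⁆ * ⁅a, d⁆ := comm_mul_left h
  rw [inv_mul_cancel, commutatorElement_one_left] at h1
  exact eq_inv_of_mul_eq_one_left h1.symm

theorem comm_inv_right {a d : G} (h : ⁅a, d⁆ ∈ Subgroup.center G) : ⁅a, d⁻¹⁆ = ⁅a, d⁆⁻¹ := by
  have h1 : ⁅a, d⁻¹ * d⁆ = ⁅a, d⁻¹⁆ * ⁅a, d⁆ := comm_mul_right h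
  rw [inv_mul_cancel, commutatorElement_one_right] at h1
  exact eq_inv_of_mul_eq_one_left h1.symm

theorem comm_conj_of_central {a b t : G} (h : ⁅a, b⁆ ∈ Subgroup.center G) :
    ⁅t * a * t⁻¹, t * b * t⁻¹⁆ = ⁅a, b⁆ := by
  rw [← conjugate_commutatorElement, Subgroup.mem_center_iff.mp h t, mul_inv_cancel_right]

theorem comm_central_left {z : G} (hz : z ∈ Subgroup.center G) (y b : G) :
    ⁅y * z, b⁆ = ⁅y, b⁆ := by
  have h1 : ⁅z, b⁆ = 1 := by
    rw [commutatorElement_eq_one_iff_mul_comm]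
    exact (Subgroup.mem_center_iff.mp hz b).symm
  rw [comm_mul_left (by rw [h1]; exact one_mem _), h1, mul_one]

theorem comm_central_right {z : G} (hz : z ∈ Subgroup.center G) (a y : G) :
    ⁅a, y * z⁆ = ⁅a, y⁆ := by
  have h1 : ⁅a, z⁆ = 1 := by
    rw [commutatorElement_eq_one_iff_mul_comm]
    exact Subgroup.mem_center_iff.mp hz a
  rw [comm_mul_right (by rw [h1]; exact one_mem _), h1, mul_one]

/-- `a b = ⁅a,b⁆ (b a)`. -/
theorem mul_eq_comm_mul (a b : G) : a * b = ⁅a, b⁆ * (b * a) := by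
  simp only [commutatorElement_def]; group

end Comm

/-! ### The context -/

/-- What we use about the extraspecial group `R`: scalar commutators of order dividing the prime
`r`, and Schur's lemma. -/
structure Ctx (R : Subgroup (GL (Fin n) F)) (r : ℕ) : Prop where
  hn : 0 < n
  hr : r.Prime
  comm_mem : ∀ x ∈ R, ∀ y ∈ R, ⁅x, y⁆ ∈ Cfsg.Geo.scalars (Fin n) F
  comm_pow : ∀ x ∈ R, ∀ y ∈ R, ⁅x, y⁆ ^ r = 1
  schur : ∀ u : GL (Fin n) F, (∀ y ∈ R, u * y = y * u) → u ∈ Cfsg.Geo.scalars (Fin n) F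

namespace Ctx

variable {R : Subgroup (GL (Fin n) F)} {r : ℕ}

theorem mem_H {h : GL (Fin n) F} :
    h ∈ R ⊔ Cfsg.Geo.scalars (Fin n) F ↔
      ∃ y ∈ R, ∃ z ∈ Cfsg.Geo.scalars (Fin n) F, y * z = h :=
  Subgroup.mem_sup_of_normal_right

theorem comm_eq (_hC : Ctx R r) {y y' z z' : GL (Fin n) F}
    (hz : z ∈ Cfsg.Geo.scalars (Fin n) F) (hz' : z' ∈ Cfsg.Geo.scalars (Fin n) F) :
    ⁅y * z, y' * z'⁆ = ⁅y, y'⁆ := by
  rw [comm_central_left (sc_le_center hz), comm_central_right (sc_le_center hz')]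

theorem comm_H_mem (hC : Ctx R r) {a b : GL (Fin n) F}
    (ha : a ∈ R ⊔ Cfsg.Geo.scalars (Fin n) F) (hb : b ∈ R ⊔ Cfsg.Geo.scalars (Fin n) F) :
    ⁅a, b⁆ ∈ Cfsg.Geo.scalars (Fin n) F := by
  obtain ⟨y, hy, z, hz, rfl⟩ := mem_H.mp ha
  obtain ⟨y', hy', z', hz', rfl⟩ := mem_H.mp hb
  rw [hC.comm_eq hz hz']
  exact hC.comm_mem y hy y' hy'

theorem comm_H_pow (hC : Ctx R r) {a b : GL (Fin n) F}
    (ha : a ∈ R ⊔ Cfsg.Geo.scalars (Fin n) F) (hb : b ∈ R ⊔ Cfsg.Geo.scalars (Fin n) F) :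
    ⁅a, b⁆ ^ r = 1 := by
  obtain ⟨y, hy, z, hz, rfl⟩ := mem_H.mp ha
  obtain ⟨y', hy', z', hz', rfl⟩ := mem_H.mp hb
  rw [hC.comm_eq hz hz']
  exact hC.comm_pow y hy y' hy'

theorem comm_H_center (hC : Ctx R r) {a b : GL (Fin n) F}
    (ha : a ∈ R ⊔ Cfsg.Geo.scalars (Fin n) F) (hb : b ∈ R ⊔ Cfsg.Geo.scalars (Fin n) F) :
    ⁅a, b⁆ ∈ Subgroup.center (GL (Fin n) F) :=
  sc_le_center (hC.comm_H_mem ha hb)

theorem R_le_H : R ≤ R ⊔ Cfsg.Geo.scalars (Fin n) F := le_sup_left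

theorem Z_le_H : Cfsg.Geo.scalars (Fin n) F ≤ R ⊔ Cfsg.Geo.scalars (Fin n) F := le_sup_right

/-- A non-scalar element of `H` fails to commute with some element of `R`. -/
theorem exists_noncomm (hC : Ctx R r) {k : GL (Fin n) F}
    (hkZ : k ∉ Cfsg.Geo.scalars (Fin n) F) : ∃ x ∈ R, ⁅x, k⁆ ≠ 1 := by
  by_contra hcon
  push Not at hcon
  apply hkZ
  apply hC.schur
  intro y hy
  have := hcon y hy
  rw [commutatorElement_eq_one_iff_mul_comm] at this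
  exact this.symm

/-- Eigenspaces of a non-scalar element of `H` have dimension at most `n / r`. -/
theorem prime_mul_finrank_le_of_mem (hC : Ctx R r) {k : GL (Fin n) F}
    (hk : k ∈ R ⊔ Cfsg.Geo.scalars (Fin n) F) (hkZ : k ∉ Cfsg.Geo.scalars (Fin n) F) (c : F) :
    r * Module.finrank F ↥(E k c) ≤ n := by
  obtain ⟨x, hx, hxk⟩ := hC.exists_noncomm hkZ
  have hzmem := hC.comm_H_mem (R_le_H hx) hk
  have hzpow := hC.comm_H_pow (R_le_H hx) hk
  obtain ⟨l, -, hl⟩ := sc_val hzmem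
  have hconj : x * k * x⁻¹ = ⁅x, k⁆ * k := by
    simp only [commutatorElement_def]; group
  exact prime_mul_finrank_le hC.hr hl (sc_ne_one hl hxk) (sc_pow hC.hn hl hzpow) hconj c

/-! ### Case A: `g` centralises `R` modulo scalars -/

theorem caseA (hC : Ctx R r) {g : GL (Fin n) F}
    (hA : ∀ y ∈ R, ⁅g, y⁆ ∈ Cfsg.Geo.scalars (Fin n) F)
    (hns : g ∉ Cfsg.Geo.scalars (Fin n) F) (c : F) :
    2 * Module.finrank F ↥(E g c) ≤ n := by
  by_cases hc : c = 0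
  · subst hc
    rw [E_zero, finrank_bot, mul_zero]
    exact Nat.zero_le _
  have hex : ∃ y ∈ R, ⁅g, y⁆ ≠ 1 := by
    by_contra hcon
    push Not at hcon
    apply hns
    apply hC.schur
    intro y hy
    have := hcon y hy
    rwa [commutatorElement_eq_one_iff_mul_comm] at this
  obtain ⟨y, hy, hgy⟩ := hex
  have hzmem := hA y hy
  obtain ⟨l, hl0, hl⟩ := sc_val hzmem
  have hl1 : l ≠ 1 := sc_ne_one hl hgy
  -- `y⁻¹ g y = ⁅g,y⁆ g`
  have hconj : y⁻¹ * g * y⁻¹⁻¹ = ⁅g, y⁆ * g := by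
    have hcen := sc_central hzmem (y⁻¹)
    have : ⁅g, y⁆ * g = y⁻¹ * ⁅g, y⁆ * y * g := by
      rw [← hcen]; group
    rw [this]
    simp only [commutatorElement_def]; group
  have hsh := finrank_E_shift hl hl0 hconj c
  have hne : l⁻¹ * c ≠ c := by
    intro h
    have : l⁻¹ = 1 := by
      have h2 : l⁻¹ * c = 1 * c := by rw [h, one_mul]
      exact mul_right_cancel₀ hc h2
    exact hl1 (by simpa using this)
  have := finrank_E_add_le g hne
  rw [hsh] at this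
  omega

/-! ### Case B, basic bound -/

theorem caseB_basic (hC : Ctx R r) {g : GL (Fin n) F}
    (hgH : ∀ a ∈ R ⊔ Cfsg.Geo.scalars (Fin n) F, g * a * g⁻¹ ∈ R ⊔ Cfsg.Geo.scalars (Fin n) F)
    {x₀ : GL (Fin n) F} (hx₀ : x₀ ∈ R) (hk : ⁅x₀, g⁆ ∉ Cfsg.Geo.scalars (Fin n) F) (c : F) :
    2 * r * Module.finrank F ↥(E g c) ≤ (r + 1) * n := by
  by_cases hc : c = 0
  · subst hc
    rw [E_zero, finrank_bot, mul_zero]
    exact Nat.zero_le _
  have hkH : ⁅x₀, g⁆ ∈ R ⊔ Cfsg.Geo.scalars (Fin n) F := by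
    have h1 : ⁅x₀, g⁆ = x₀ * (g * x₀⁻¹ * g⁻¹) := by
      simp only [commutatorElement_def]; group
    rw [h1]
    exact Subgroup.mul_mem _ (R_le_H hx₀) (hgH _ (Subgroup.inv_mem _ (R_le_H hx₀)))
  have hle : E g c ⊓ E (x₀ * g * x₀⁻¹) c ≤ E ⁅x₀, g⁆ 1 := by
    intro w hw
    have := pow_mul_inv_pow_fix hc hw.1 hw.2 1
    rw [pow_one, pow_one] at this
    rw [mem_E, one_smul]
    have e : ⁅x₀, g⁆ = x₀ * g * x₀⁻¹ * g⁻¹ := commutatorElement_def _ _
    rw [e]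
    exact this
  have h1 := add_le_add_finrank_inf (E g c) (E (x₀ * g * x₀⁻¹) c)
  rw [finrank_E_conj] at h1
  have h2 := Submodule.finrank_mono hle
  have h3 := hC.prime_mul_finrank_le_of_mem hkH hk 1
  have h4 : r * (Module.finrank F ↥(E g c) + Module.finrank F ↥(E g c)) ≤
      r * (n + Module.finrank F ↥(E ⁅x₀, g⁆ 1)) :=
    Nat.mul_le_mul_left r (le_trans h1 (Nat.add_le_add_left h2 n))
  nlinarith [h4, h3]

end Ctx

end Cfsg.Agent.Lib.Helper68_ESKappa
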