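import Mathlib
import Cfsg.Prelude.Def_GeometricClasses
import Cfsg.Agent.Lib.Helper68_ESBasic

/-!
# Quadratic-phase counting (helper68)

`g, k` commuting, `x g x⁻¹ = k g`, `x k x⁻¹ = ω' k`, `k^r = 1`, all eigenspaces of `k` of dimension at most `n/r`:
then every eigenspace of `g` has dimension at most `2n/r` (roughly).
-/

set_option autoImplicit false

namespace Cfsg.Agent.Lib.Helper68_ESQuad

open Matrix Module Cfsg.Agent.Lib.Helper68_ESBasic

variable {F : Type*} [Field F] {n : ℕ}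

theorem finrank_inf_conj_le (x a b : GL (Fin n) F) (c e : F) :
    Module.finrank F ↥(E a c ⊓ E b e) ≤
      Module.finrank F ↥(E (x * a * x⁻¹) c ⊓ E (x * b * x⁻¹) e) := by
  have h1 : Module.finrank F ((E a c ⊓ E b e).map (Matrix.toLin' (x : Matrix (Fin n) (Fin n) F)))
      = Module.finrank F ↥(E a c ⊓ E b e) :=
    (Submodule.equivMapOfInjective _ (mulVec_injective x) _).finrank_eq.symm
  rw [← h1]
  apply Submodule.finrank_mono
  exact le_inf (le_trans (Submodule.map_mono inf_le_left) (map_E_le x a c))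
    (le_trans (Submodule.map_mono inf_le_right) (map_E_le x b e))

theorem finrank_inf_conj (x a b : GL (Fin n) F) (c e : F) :
    Module.finrank F ↥(E (x * a * x⁻¹) c ⊓ E (x * b * x⁻¹) e) =
      Module.finrank F ↥(E a c ⊓ E b e) := by
  apply le_antisymm _ (finrank_inf_conj_le x a b c e)
  have := finrank_inf_conj_le x⁻¹ (x * a * x⁻¹) (x * b * x⁻¹) c e
  have h2 : x⁻¹ * (x * a * x⁻¹) * x⁻¹⁻¹ = a := by group
  have h3 : x⁻¹ * (x * b * x⁻¹) * x⁻¹⁻¹ = b := by group
  rwa [h2, h3] at this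

/-- One transport step. -/
theorem U_step {g k x z' : GL (Fin n) F} {ω' : F}
    (hgk : g * k = k * g) (hxg : x * g * x⁻¹ = k * g) (hxk : x * k * x⁻¹ = z' * k)
    (hz' : (z' : Matrix (Fin n) (Fin n) F) = ω' • (1 : Matrix (Fin n) (Fin n) F)) (hω' : ω' ≠ 0)
    {a : F} (ha : a ≠ 0) (e : F) :
    Module.finrank F ↥(E k (ω'⁻¹ * a) ⊓ E g (e * ω' * a⁻¹)) = Module.finrank F ↥(E k a ⊓ E g e) := by
  rw [← finrank_inf_conj x k g a e, hxk, hxg, E_sc_mul hz' hω']
  have ha' : ω'⁻¹ * a ≠ 0 := mul_ne_zero (inv_ne_zero hω') ha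
  have : E k (ω'⁻¹ * a) ⊓ E g (e * ω' * a⁻¹) = E k (ω'⁻¹ * a) ⊓ E (k * g) e := by
    ext v
    simp only [Submodule.mem_inf]
    refine and_congr_right fun hv => ?_
    rw [mem_E] at hv
    rw [mem_E, mem_E, ← hgk, mul_mulVec, hv, Matrix.mulVec_smul]
    constructor
    · intro h
      rw [h, smul_smul]
      congr 1
      field_simp
    · intro h
      have := congrArg (fun u => (ω'⁻¹ * a)⁻¹ • u) h
      simp only [smul_smul, inv_mul_cancel₀ ha', one_smul] at this
      rw [this]
      congr 1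
      field_simp
  rw [this]

/-- Iterated transport when `x` centralises `k`. -/
theorem U_iter_one {g k x : GL (Fin n) F}
    (hgk : g * k = k * g) (hxg : x * g * x⁻¹ = k * g) (hxk : x * k * x⁻¹ = k)
    {a : F} (ha : a ≠ 0) (e : F) (j : ℕ) :
    Module.finrank F ↥(E k a ⊓ E g (e * (a⁻¹) ^ j)) = Module.finrank F ↥(E k a ⊓ E g e) := by
  have hz' : ((1 : GL (Fin n) F) : Matrix (Fin n) (Fin n) F)
      = (1 : F) • (1 : Matrix (Fin n) (Fin n) F) := by simp
  have hxk' : x * k * x⁻¹ = 1 * k := by rw [one_mul, hxk]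
  induction j with
  | zero => rw [pow_zero, mul_one]
  | succ j ih =>
    have := U_step hgk hxg hxk' hz' one_ne_zero ha (e * (a⁻¹) ^ j)
    rw [inv_one, one_mul, mul_one] at this
    rw [pow_succ, ← mul_assoc, this, ih]

/-- Iterated transport in the quadratic-phase case. -/
theorem U_iter_quad {g k x z' : GL (Fin n) F} {ω' : F}
    (hgk : g * k = k * g) (hxg : x * g * x⁻¹ = k * g) (hxk : x * k * x⁻¹ = z' * k)
    (hz' : (z' : Matrix (Fin n) (Fin n) F) = ω' • (1 : Matrix (Fin n) (Fin n) F)) (hω' : ω' ≠ 0)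
    (s : ℕ) (e : F) :
    Module.finrank F ↥(E k (ω' ^ s) ⊓ E g e)
      = Module.finrank F ↥(E k 1 ⊓ E g (e * (ω'⁻¹) ^ (s.choose 2))) := by
  induction s generalizing e with
  | zero => rw [pow_zero, Nat.choose_zero_succ, pow_zero, mul_one]
  | succ s ih =>
    have h1 := U_step hgk hxg hxk hz' hω' (pow_ne_zero (s + 1) hω') e
    have e1 : ω'⁻¹ * ω' ^ (s + 1) = ω' ^ s := by
      rw [pow_succ]
      field_simp
    have e2 : e * ω' * (ω' ^ (s + 1))⁻¹ = e * (ω'⁻¹) ^ s := by
      rw [pow_succ, mul_inv, inv_pow]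
      field_simp
    rw [e1, e2] at h1
    rw [← h1, ih (e * (ω'⁻¹) ^ s)]
    have e3 : (s + 1).choose 2 = s + s.choose 2 := by
      rw [Nat.choose_succ_succ' s 1, Nat.choose_one_right]
    rw [e3, pow_add, mul_assoc]

theorem finrank_biSup_le {ι : Type*} (t : Finset ι) (p : ι → Submodule F (Fin n → F)) :
    Module.finrank F ↥(⨆ i ∈ t, p i) ≤ ∑ i ∈ t, Module.finrank F ↥(p i) := by
  classical
  induction t using Finset.induction_on with
  | empty => simp
  | insert i t hi ih =>
    rw [Finset.iSup_insert, Finset.sum_insert hi]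
    exact le_trans (Submodule.finrank_add_le_finrank_add_finrank _ _) (Nat.add_le_add_left ih _)

theorem pow_mulVec_mem_E {g k : GL (Fin n) F} (hgk : g * k = k * g) {c : F} {w : Fin n → F}
    (hw : w ∈ E g c) (j : ℕ) :
    ((k ^ j : GL (Fin n) F) : Matrix (Fin n) (Fin n) F) *ᵥ w ∈ E g c := by
  have hcomm : g * k ^ j = k ^ j * g := (Commute.pow_right (show Commute g k from hgk) j).eq
  rw [mem_E] at hw ⊢
  rw [← mul_mulVec, hcomm, mul_mulVec, hw, Matrix.mulVec_smul]

theorem natCast_ne_zero_of_root {r : ℕ} (hr : r.Prime) {ω : F} (hω1 : ω ≠ 1) (hωr : ω ^ r = 1) :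
    (r : F) ≠ 0 := by
  have hord : orderOf ω = r := by
    have := Fact.mk hr
    exact orderOf_eq_prime hωr hω1
  have hprim : IsPrimitiveRoot ω r := by
    rw [← hord]
    exact IsPrimitiveRoot.orderOf ω
  have := hr.pos
  have : NeZero r := ⟨hr.ne_zero⟩
  exact (hprim.neZero' (R := F)).out

/-- The eigenprojection of `k` (with `k^r = 1`) onto the `a`-eigenspace. -/
noncomputable def proj (k : GL (Fin n) F) (r : ℕ) (a : F) (w : Fin n → F) : Fin n → F :=
  (r : F)⁻¹ • ∑ j ∈ Finset.range r, (a⁻¹) ^ j • (((k ^ j : GL (Fin n) F) : Matrix (Fin n) (Fin n) F) *ᵥ w)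

theorem proj_mem_Eg {g k : GL (Fin n) F} (hgk : g * k = k * g) {c : F} {w : Fin n → F}
    (hw : w ∈ E g c) (r : ℕ) (a : F) : proj k r a w ∈ E g c := by
  unfold proj
  exact Submodule.smul_mem _ _ (Submodule.sum_mem _ fun j _ =>
    Submodule.smul_mem _ _ (pow_mulVec_mem_E hgk hw j))

theorem proj_mem_Ek {k : GL (Fin n) F} {r : ℕ} (hkr : k ^ r = 1) {a : F} (ha : a ≠ 0)
    (har : a ^ r = 1) (w : Fin n → F) : proj k r a w ∈ E k a := by
  rw [mem_E]
  unfold proj
  rw [Matrix.mulVec_smul, Matrix.mulVec_sum, smul_comm a]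
  congr 1
  set T : ℕ → (Fin n → F) := fun j =>
    (a⁻¹) ^ j • (((k ^ j : GL (Fin n) F) : Matrix (Fin n) (Fin n) F) *ᵥ w) with hT
  have h1 : ∀ j, (k : Matrix (Fin n) (Fin n) F) *ᵥ T j = a • T (j + 1) := by
    intro j
    simp only [hT]
    rw [Matrix.mulVec_smul, ← mul_mulVec, ← pow_succ', smul_smul]
    congr 1
    rw [pow_succ]
    field_simp
  have h2 : T r = T 0 := by
    simp only [hT]
    rw [hkr, inv_pow, har]
    simp
  rw [Finset.sum_congr rfl (fun j _ => h1 j), ← Finset.smul_sum]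
  congr 1
  have e1 := Finset.sum_range_succ T r
  have e2 := Finset.sum_range_succ' T r
  rw [e1, h2] at e2
  exact (add_right_cancel e2).symm

theorem sum_proj {k : GL (Fin n) F} {r : ℕ} (hr : r.Prime) {ω : F} (hω1 : ω ≠ 1) (hωr : ω ^ r = 1)
    (w : Fin n → F) : ∑ i ∈ Finset.range r, proj k r (ω ^ i) w = w := by
  have hr0 : (r : F) ≠ 0 := natCast_ne_zero_of_root hr hω1 hωr
  have hord : orderOf ω = r := by
    have := Fact.mk hr
    exact orderOf_eq_prime hωr hω1
  unfold proj
  rw [← Finset.smul_sum, Finset.sum_comm]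
  have h1 : ∀ j ∈ Finset.range r, ∑ i ∈ Finset.range r,
      ((ω ^ i)⁻¹) ^ j • (((k ^ j : GL (Fin n) F) : Matrix (Fin n) (Fin n) F) *ᵥ w)
      = (if j = 0 then (r : F) else 0) • (((k ^ j : GL (Fin n) F) : Matrix (Fin n) (Fin n) F) *ᵥ w) := by
    intro j hj
    rw [← Finset.sum_smul]
    congr 1
    have e : ∀ i, ((ω ^ i)⁻¹) ^ j = ((ω⁻¹) ^ j) ^ i := by
      intro i
      rw [← inv_pow, ← pow_mul, ← pow_mul, mul_comm]
    rw [Finset.sum_congr rfl (fun i _ => e i)]
    split_ifs with hj0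
    · subst hj0
      simp
    · have hne : (ω⁻¹) ^ j ≠ 1 := by
        rw [inv_pow]
        intro h
        have h' : ω ^ j = 1 := by simpa using h
        have hdvd := orderOf_dvd_of_pow_eq_one h'
        rw [hord] at hdvd
        have hjlt : j < r := Finset.mem_range.mp hj
        exact hj0 (Nat.eq_zero_of_dvd_of_lt hdvd hjlt)
      have hpow : ((ω⁻¹) ^ j) ^ r = 1 := by
        rw [← pow_mul, mul_comm, pow_mul, inv_pow, hωr, inv_one, one_pow]
      have hg := geom_sum_mul ((ω⁻¹) ^ j) r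
      rw [hpow, sub_self] at hg
      rcases mul_eq_zero.mp hg with h | h
      · exact h
      · exact absurd (sub_eq_zero.mp h) hne
  rw [Finset.sum_congr rfl h1, Finset.sum_eq_single 0]
  · simp [smul_smul, inv_mul_cancel₀ hr0]
  · intro j _ hj0
    rw [if_neg hj0, zero_smul]
  · intro h
    exact absurd (Finset.mem_range.mpr hr.pos) h

/-- Decomposition of an eigenspace of `g` along the eigenspaces of a commuting `k` with `k^r = 1`. -/
theorem decomp {g k : GL (Fin n) F} (hgk : g * k = k * g) {r : ℕ} (hr : r.Prime) (hkr : k ^ r = 1)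
    {ω : F} (hω1 : ω ≠ 1) (hωr : ω ^ r = 1) (c : F) :
    Module.finrank F ↥(E g c) ≤ ∑ i ∈ Finset.range r, Module.finrank F ↥(E k (ω ^ i) ⊓ E g c) := by
  have hω0 : ω ≠ 0 := by
    rintro rfl
    rw [zero_pow hr.ne_zero] at hωr
    exact zero_ne_one hωr
  refine le_trans (Submodule.finrank_mono ?_) (finrank_biSup_le (Finset.range r) _)
  intro w hw
  rw [← sum_proj (k := k) hr hω1 hωr w]
  refine Submodule.sum_mem _ fun i hi => ?_
  refine Submodule.mem_iSup_of_mem i (Submodule.mem_iSup_of_mem hi ?_)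
  refine ⟨proj_mem_Ek hkr (pow_ne_zero i hω0) ?_ w, proj_mem_Eg hgk hw r _⟩
  rw [← pow_mul, mul_comm, pow_mul, hωr, one_pow]

/-! ### Counting -/

theorem two_mul_choose_two_add (m : ℕ) : 2 * m.choose 2 + m = m * m := by
  induction m with
  | zero => simp
  | succ m ih =>
    have e3 : (m + 1).choose 2 = m + m.choose 2 := by
      rw [Nat.choose_succ_succ' m 1, Nat.choose_one_right]
    rw [e3]
    nlinarith [ih]

/-- The fibres of `s ↦ ν^(s choose 2)` on `range r` have at most two elements (`r` an odd prime). -/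
theorem fiber_card_le_two [DecidableEq F] {r : ℕ} (hr : r.Prime) (hr2 : r ≠ 2) {ν : F} (hν1 : ν ≠ 1)
    (hνr : ν ^ r = 1) {c : F} (hc : c ≠ 0) (e : F) :
    ((Finset.range r).filter (fun s : ℕ => c * ν ^ (s.choose 2) = e)).card ≤ 2 := by
  have := Fact.mk hr
  have hord : orderOf ν = r := orderOf_eq_prime hνr hν1
  have h2 : (2 : ZMod r) ≠ 0 := by
    intro h
    have : ((2 : ℕ) : ZMod r) = 0 := by exact_mod_cast h
    rw [ZMod.natCast_eq_zero_iff] at this
    have := (Nat.prime_dvd_prime_iff_eq hr Nat.prime_two).mp this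
    exact hr2 this
  by_cases hne : ((Finset.range r).filter (fun s : ℕ => c * ν ^ (s.choose 2) = e)).Nonempty
  swap
  · rw [Finset.not_nonempty_iff_eq_empty.mp hne]; simp
  obtain ⟨s₀, hs₀⟩ := hne
  rw [Finset.mem_filter, Finset.mem_range] at hs₀
  have hinj : Set.InjOn (fun s : ℕ => (s : ZMod r))
      ((Finset.range r).filter (fun s : ℕ => c * ν ^ (s.choose 2) = e) : Set ℕ) := by
    intro s hs t ht hst
    simp only [Finset.coe_filter, Finset.mem_range, Set.mem_ofPred_eq] at hs ht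
    have h1 := (ZMod.natCast_eq_natCast_iff' s t r).mp hst
    rw [Nat.mod_eq_of_lt hs.1, Nat.mod_eq_of_lt ht.1] at h1
    exact h1
  have hmaps : ∀ s ∈ (Finset.range r).filter (fun s : ℕ => c * ν ^ (s.choose 2) = e),
      (fun s : ℕ => (s : ZMod r)) s ∈ ({(s₀ : ZMod r), 1 - (s₀ : ZMod r)} : Finset (ZMod r)) := by
    intro s hs
    rw [Finset.mem_filter, Finset.mem_range] at hs
    have h1 : ν ^ (s.choose 2) = ν ^ (s₀.choose 2) := by
      have := hs.2.trans hs₀.2.symm
      exact mul_left_cancel₀ hc this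
    have hν0 : ν ≠ 0 := by
      rintro rfl
      rw [zero_pow hr.ne_zero] at hνr
      exact zero_ne_one hνr
    have h1' : (Units.mk0 ν hν0) ^ (s.choose 2) = (Units.mk0 ν hν0) ^ (s₀.choose 2) := by
      apply Units.ext
      simpa using h1
    rw [pow_eq_pow_iff_modEq, ← orderOf_units, Units.val_mk0, hord] at h1'
    have h1 := h1'
    have h3 : ((s.choose 2 : ℕ) : ZMod r) = ((s₀.choose 2 : ℕ) : ZMod r) :=
      (ZMod.natCast_eq_natCast_iff _ _ _).mpr h1
    have e1 : (2 : ZMod r) * (s.choose 2 : ℕ) + (s : ZMod r) = (s : ZMod r) * s := by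
      exact_mod_cast congrArg (Nat.cast : ℕ → ZMod r) (two_mul_choose_two_add s)
    have e2 : (2 : ZMod r) * (s₀.choose 2 : ℕ) + (s₀ : ZMod r) = (s₀ : ZMod r) * s₀ := by
      exact_mod_cast congrArg (Nat.cast : ℕ → ZMod r) (two_mul_choose_two_add s₀)
    rw [h3] at e1
    have h4 : ((s : ZMod r) - s₀) * ((s : ZMod r) + s₀ - 1) = 0 := by
      linear_combination e2 - e1
    rw [Finset.mem_insert, Finset.mem_singleton]
    rcases mul_eq_zero.mp h4 with h | h
    · left; exact sub_eq_zero.mp h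
    · right; linear_combination h
  exact le_trans (Finset.card_le_card_of_injOn _ hmaps hinj) Finset.card_le_two

/-- Sum bound in the quadratic-phase case. -/
theorem sum_quad_le {g k : GL (Fin n) F} {r : ℕ} (hr : r.Prime) (hr2 : r ≠ 2) {ν : F} (hν1 : ν ≠ 1)
    (hνr : ν ^ r = 1) {c : F} (hc : c ≠ 0) :
    ∑ s ∈ Finset.range r, Module.finrank F ↥(E k 1 ⊓ E g (c * ν ^ (s.choose 2)))
      ≤ 2 * Module.finrank F ↥(E k 1) := by
  classical
  rw [Finset.sum_comp (fun e => Module.finrank F ↥(E k 1 ⊓ E g e)) (fun s : ℕ => c * ν ^ (s.choose 2))]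
  have h1 : ∀ e ∈ (Finset.range r).image (fun s : ℕ => c * ν ^ (s.choose 2)),
      ((Finset.range r).filter (fun s : ℕ => c * ν ^ (s.choose 2) = e)).card •
        Module.finrank F ↥(E k 1 ⊓ E g e) ≤ 2 * Module.finrank F ↥(E k 1 ⊓ E g e) := by
    intro e _
    rw [smul_eq_mul]
    exact Nat.mul_le_mul_right _ (fiber_card_le_two hr hr2 hν1 hνr hc e)
  refine le_trans (Finset.sum_le_sum h1) ?_
  rw [← Finset.mul_sum]
  exact Nat.mul_le_mul_left 2 (sum_finrank_inf_le g (E k 1) _)

/-- The quadratic-phase bound. -/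
theorem quad_bound {g k x z' : GL (Fin n) F} {ω' ω : F} {r : ℕ} (hr : r.Prime) (hr5 : 5 ≤ r)
    (hgk : g * k = k * g) (hxg : x * g * x⁻¹ = k * g) (hxk : x * k * x⁻¹ = z' * k)
    (hz' : (z' : Matrix (Fin n) (Fin n) F) = ω' • (1 : Matrix (Fin n) (Fin n) F))
    (hω'r : ω' ^ r = 1) (hkr : k ^ r = 1)
    (hEk : ∀ a : F, r * Module.finrank F ↥(E k a) ≤ n)
    (hω1 : ω ≠ 1) (hωr : ω ^ r = 1) (c : F) :
    2 * Module.finrank F ↥(E g c) ≤ n := by
  classical
  by_cases hc : c = 0
  · subst hc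
    rw [E_zero, finrank_bot, mul_zero]
    exact Nat.zero_le _
  have hω'0 : ω' ≠ 0 := by
    rintro rfl
    rw [zero_pow hr.ne_zero] at hω'r
    exact zero_ne_one hω'r
  have hω0 : ω ≠ 0 := by
    rintro rfl
    rw [zero_pow hr.ne_zero] at hωr
    exact zero_ne_one hωr
  have := Fact.mk hr
  by_cases h1 : ω' = 1
  · -- `x` centralises `k`
    have hz1 : z' = 1 := by
      apply Units.ext
      rw [hz', h1, one_smul, Units.val_one]
    have hxk' : x * k * x⁻¹ = k := by rw [hxk, hz1, one_mul]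
    have hord : orderOf ω = r := orderOf_eq_prime hωr hω1
    have hdec := decomp hgk hr hkr hω1 hωr c
    have hb : ∀ i ∈ Finset.range r,
        r * r * Module.finrank F ↥(E k (ω ^ i) ⊓ E g c) ≤ n + (if i = 0 then (r - 1) * n else 0) := by
      intro i hi
      rw [Finset.mem_range] at hi
      split_ifs with hi0
      · subst hi0
        have h2 : Module.finrank F ↥(E k (ω ^ 0) ⊓ E g c) ≤ Module.finrank F ↥(E k (ω ^ 0)) :=
          Submodule.finrank_mono inf_le_left
        have h3 := hEk (ω ^ 0)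
        have h4 : r * (r * Module.finrank F ↥(E k (ω ^ 0) ⊓ E g c)) ≤ r * n :=
          Nat.mul_le_mul_left r (le_trans (Nat.mul_le_mul_left r h2) h3)
        have h5 : n + (r - 1) * n = r * n := by
          have : r = (r - 1) + 1 := by have := hr.pos; omega
          nth_rewrite 2 [this]
          ring
        rw [h5, mul_assoc]
        exact h4
      · set a := ω ^ i with ha
        have ha0 : a ≠ 0 := pow_ne_zero i hω0
        have har : a ^ r = 1 := by rw [ha, ← pow_mul, mul_comm, pow_mul, hωr, one_pow]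
        have ha1 : a ≠ 1 := by
          intro h
          have hdvd := orderOf_dvd_of_pow_eq_one h
          rw [hord] at hdvd
          exact hi0 (Nat.eq_zero_of_dvd_of_lt hdvd hi)
        have horda : orderOf (a⁻¹) = r := by
          apply orderOf_eq_prime
          · rw [inv_pow, har, inv_one]
          · simpa using ha1
        have hinj : Set.InjOn (fun j : ℕ => c * (a⁻¹) ^ j) (Finset.range r : Set ℕ) := by
          intro i hi j hj hij
          have h1 : (a⁻¹) ^ i = (a⁻¹) ^ j := mul_left_cancel₀ hc hij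
          have hi' : i < orderOf (a⁻¹) := by rw [horda]; simpa using hi
          have hj' : j < orderOf (a⁻¹) := by rw [horda]; simpa using hj
          exact pow_injOn_Iio_orderOf hi' hj' h1
        have hsum := sum_finrank_inf_le g (E k a)
          ((Finset.range r).image (fun j : ℕ => c * (a⁻¹) ^ j))
        rw [Finset.sum_image hinj,
          Finset.sum_congr rfl (fun j _ => U_iter_one hgk hxg hxk' ha0 c j)] at hsum
        simp only [Finset.sum_const, Finset.card_range, smul_eq_mul] at hsum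
        have h3 := hEk a
        rw [add_zero, mul_assoc]
        exact le_trans (Nat.mul_le_mul_left r hsum) h3
    have hsum2 : r * r * Module.finrank F ↥(E g c) ≤ r * n + (r - 1) * n := by
      calc r * r * Module.finrank F ↥(E g c)
          ≤ r * r * ∑ i ∈ Finset.range r, Module.finrank F ↥(E k (ω ^ i) ⊓ E g c) :=
            Nat.mul_le_mul_left _ hdec
        _ = ∑ i ∈ Finset.range r, r * r * Module.finrank F ↥(E k (ω ^ i) ⊓ E g c) := by
            rw [Finset.mul_sum]
        _ ≤ ∑ i ∈ Finset.range r, (n + (if i = 0 then (r - 1) * n else 0)) := Finset.sum_le_sum hb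
        _ = r * n + (r - 1) * n := by
            rw [Finset.sum_add_distrib, Finset.sum_ite_eq' (Finset.range r) 0 (fun _ => (r - 1) * n),
              if_pos (Finset.mem_range.mpr hr.pos)]
            simp
    by_contra hlt
    push Not at hlt
    have hr1 : (r - 1) + 1 = r := by have := hr.pos; omega
    obtain ⟨m, hm⟩ : ∃ m, r = m + 5 := ⟨r - 5, by omega⟩
    subst hm
    have e5 : m + 5 - 1 = m + 4 := by omega
    rw [e5] at hsum2
    have h6 : (m + 5) * (m + 5) * (n + 1) ≤ (m + 5) * (m + 5) * (2 * Module.finrank F ↥(E g c)) :=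
      Nat.mul_le_mul_left _ hlt
    nlinarith [hsum2, h6, Nat.zero_le (m * m * n), Nat.zero_le (m * n)]
  · -- quadratic phase
    have hν1 : ω'⁻¹ ≠ 1 := by simpa using h1
    have hνr : (ω'⁻¹) ^ r = 1 := by rw [inv_pow, hω'r, inv_one]
    have hr2 : r ≠ 2 := by omega
    have hdec := decomp hgk hr hkr h1 hω'r c
    rw [Finset.sum_congr rfl (fun s _ => U_iter_quad hgk hxg hxk hz' hω'0 s c)] at hdec
    have h2 := sum_quad_le (g := g) (k := k) hr hr2 hν1 hνr hc
    have h3 := hEk 1
    by_contra hlt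
    push Not at hlt
    obtain ⟨m, hm⟩ : ∃ m, r = m + 5 := ⟨r - 5, by omega⟩
    subst hm
    have h6 : (m + 5) * (n + 1) ≤ (m + 5) * (2 * Module.finrank F ↥(E g c)) :=
      Nat.mul_le_mul_left _ hlt
    have h7 : (m + 5) * Module.finrank F ↥(E g c) ≤ (m + 5) * (2 * Module.finrank F ↥(E k 1)) :=
      Nat.mul_le_mul_left _ (le_trans hdec h2)
    nlinarith [h6, h7, h3, Nat.zero_le (m * n)]

end Cfsg.Agent.Lib.Helper68_ESQuad
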