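import Mathlib
import Cfsg.Prelude.Def_GeometricClasses
import Cfsg.Agent.Lib.Helper68_ESBasic
import Cfsg.Agent.Lib.Helper68_ESKappa

/-!
# Case B, refined bound (order of `g` an odd prime different from `r`) (helper68)
-/

set_option autoImplicit false

namespace Cfsg.Agent.Lib.Helper68_ESRefined

open Matrix Module Cfsg.Agent.Lib.Helper68_ESBasic Cfsg.Agent.Lib.Helper68_ESKappa
open scoped commutatorElement

variable {F : Type*} [Field F] {n : ℕ}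

local notation "HH" R:max => (R ⊔ Cfsg.Geo.scalars (Fin n) F : Subgroup (GL (Fin n) F))

variable {R : Subgroup (GL (Fin n) F)} {r : ℕ}

theorem pow_conj_mem {g : GL (Fin n) F}
    (hgH : ∀ a ∈ HH R, g * a * g⁻¹ ∈ HH R) (j : ℕ) :
    ∀ a ∈ HH R, g ^ j * a * (g ^ j)⁻¹ ∈ HH R := by
  induction j with
  | zero => intro a ha; simpa using ha
  | succ j ih =>
    intro a ha
    have : g ^ (j + 1) * a * (g ^ (j + 1))⁻¹ = g * (g ^ j * a * (g ^ j)⁻¹) * g⁻¹ := by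
      rw [pow_succ']; group
    rw [this]
    exact hgH _ (ih a ha)

theorem hh_eq (g x : GL (Fin n) F) (j : ℕ) :
    (x * g * x⁻¹) ^ j * (g ^ j)⁻¹ = x * (g ^ j * x * (g ^ j)⁻¹)⁻¹ := by
  rw [conj_pow]; group

/-- Step (i): if `n < 2 dim E(g,c)` then all `x X_j⁻¹` commute. -/
theorem step_i (hC : Ctx R r) {g : GL (Fin n) F}
    (hgH : ∀ a ∈ HH R, g * a * g⁻¹ ∈ HH R)
    {c : F} (hlt : n < 2 * Module.finrank F ↥(E g c))
    {x : GL (Fin n) F} (hx : x ∈ HH R) (j k : ℕ) :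
    ⁅x * (g ^ j * x * (g ^ j)⁻¹)⁻¹, x * (g ^ k * x * (g ^ k)⁻¹)⁻¹⁆ = 1 := by
  have hc : c ≠ 0 := by
    rintro rfl
    rw [E_zero, finrank_bot] at hlt
    omega
  have hne : E g c ⊓ E (x * g * x⁻¹) c ≠ ⊥ := by
    intro h
    have := two_mul_le_of_inf_eq_bot h
    rw [finrank_E_conj] at this
    omega
  obtain ⟨w, hw, hw0⟩ := (Submodule.ne_bot_iff _).mp hne
  have hmem : ∀ j : ℕ, x * (g ^ j * x * (g ^ j)⁻¹)⁻¹ ∈ HH R := fun j =>
    Subgroup.mul_mem _ hx (Subgroup.inv_mem _ (pow_conj_mem hgH j x hx))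
  have hfix : ∀ j : ℕ,
      ((x * (g ^ j * x * (g ^ j)⁻¹)⁻¹ : GL (Fin n) F) : Matrix (Fin n) (Fin n) F) *ᵥ w = w := by
    intro j
    rw [← hh_eq]
    exact pow_mul_inv_pow_fix hc hw.1 hw.2 j
  by_contra hne1
  obtain ⟨l, -, hl⟩ := sc_val (hC.comm_H_mem (hmem j) (hmem k))
  exact hw0 (eq_zero_of_fixed_of_comm hl (sc_ne_one hl hne1) (mul_eq_comm_mul _ _)
    (hfix j) (hfix k))

/-- Step (ii): `x` commutes with `g x g⁻¹` for every `x ∈ H`. -/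
theorem step_ii (hC : Ctx R r) {g : GL (Fin n) F}
    (hgH : ∀ a ∈ HH R, g * a * g⁻¹ ∈ HH R)
    {ϖ : ℕ} (hcop : Nat.Coprime ϖ r) (hgϖ : g ^ ϖ = 1)
    {c : F} (hlt : n < 2 * Module.finrank F ↥(E g c))
    {x : GL (Fin n) F} (hx : x ∈ HH R) :
    ⁅x, g * x * g⁻¹⁆ = 1 := by
  set X : ℕ → GL (Fin n) F := fun i => g ^ i * x * (g ^ i)⁻¹ with hX
  have hXmem : ∀ i, X i ∈ HH R := fun i => pow_conj_mem hgH i x hx
  have hXsucc : ∀ i, X (1 + i) = g * X i * g⁻¹ := by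
    intro i
    simp only [hX]
    rw [pow_add, pow_one]; group
  have hX1 : X 1 = g * x * g⁻¹ := by simp only [hX, pow_one]
  have hX0 : X 0 = x := by simp [hX]
  have cen : ∀ {a b : GL (Fin n) F}, a ∈ HH R → b ∈ HH R →
      ⁅a, b⁆ ∈ Subgroup.center (GL (Fin n) F) := fun ha hb => hC.comm_H_center ha hb
  have hinv : ∀ {a : GL (Fin n) F}, a ∈ HH R → a⁻¹ ∈ HH R := fun ha => Subgroup.inv_mem _ ha
  -- additivity
  have hadd : ∀ i, ⁅x, X (1 + i)⁆ = ⁅x, X 1⁆ * ⁅x, X i⁆ := by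
    intro i
    have h1 := step_i hC hgH hlt hx 1 (1 + i)
    change ⁅x * (X 1)⁻¹, x * (X (1 + i))⁻¹⁆ = 1 at h1
    have hB := hinv (hXmem 1)
    have hCm := hinv (hXmem (1 + i))
    have h2 : ⁅X 1, X (1 + i)⁆ = ⁅x, X i⁆ := by
      rw [hXsucc i, hX1]
      exact comm_conj_of_central (cen hx (hXmem i))
    have hAC : ⁅x, (X (1 + i))⁻¹⁆ = ⁅x, X (1 + i)⁆⁻¹ :=
      comm_inv_right (cen hx (hXmem (1 + i)))
    have hBA : ⁅(X 1)⁻¹, x⁆ = ⁅x, X 1⁆ := by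
      rw [comm_inv_left (cen (hXmem 1) hx), commutatorElement_inv]
    have hBC : ⁅(X 1)⁻¹, (X (1 + i))⁻¹⁆ = ⁅x, X i⁆ := by
      rw [comm_inv_left (cen (hXmem 1) hCm), comm_inv_right (cen (hXmem 1) (hXmem (1 + i))),
        inv_inv, h2]
    have key : ⁅x * (X 1)⁻¹, x * (X (1 + i))⁻¹⁆
        = ⁅x, X (1 + i)⁆⁻¹ * (⁅x, X 1⁆ * ⁅x, X i⁆) := by
      rw [comm_mul_left (cen hB (Subgroup.mul_mem _ hx hCm)),
        comm_mul_right (cen hx hCm), comm_mul_right (cen hB hCm),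
        commutatorElement_self, one_mul, hAC, hBA, hBC]
    rw [key] at h1
    exact eq_of_inv_mul_eq_one h1
  have hpow : ∀ i, ⁅x, X i⁆ = ⁅x, X 1⁆ ^ i := by
    intro i
    induction i with
    | zero => rw [hX0, commutatorElement_self, pow_zero]
    | succ i ih => rw [show i + 1 = 1 + i from add_comm _ _, hadd i, ih, pow_add, pow_one]
  have hϖ1 : ⁅x, X 1⁆ ^ ϖ = 1 := by
    rw [← hpow ϖ]
    simp only [hX, hgϖ]
    simp
  have hr1 : ⁅x, X 1⁆ ^ r = 1 := hC.comm_H_pow hx (hXmem 1)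
  have hord : orderOf ⁅x, X 1⁆ ∣ Nat.gcd ϖ r :=
    Nat.dvd_gcd (orderOf_dvd_of_pow_eq_one hϖ1) (orderOf_dvd_of_pow_eq_one hr1)
  rw [hcop, Nat.dvd_one, orderOf_eq_one_iff] at hord
  rw [← hX1]
  exact hord

/-- Step (iii): polarisation; `g²` centralises `H` modulo scalars. -/
theorem step_iii (hC : Ctx R r) {g : GL (Fin n) F}
    (hgH : ∀ a ∈ HH R, g * a * g⁻¹ ∈ HH R) (hgH' : ∀ a ∈ HH R, g⁻¹ * a * g ∈ HH R)
    (hq : ∀ x ∈ HH R, ⁅x, g * x * g⁻¹⁆ = 1) :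
    ∀ y ∈ HH R, ⁅g ^ 2, y⁆ ∈ Cfsg.Geo.scalars (Fin n) F := by
  intro y hy
  have cen : ∀ {a b : GL (Fin n) F}, a ∈ HH R → b ∈ HH R →
      ⁅a, b⁆ ∈ Subgroup.center (GL (Fin n) F) := fun ha hb => hC.comm_H_center ha hb
  have hy' := hgH y hy
  have hy'' := hgH' y hy
  -- `u = (g y g⁻¹) (g⁻¹ y g)⁻¹` commutes with every `x ∈ H`
  have hu : ∀ x ∈ HH R, ⁅x, g * y * g⁻¹ * (g⁻¹ * y * g)⁻¹⁆ = 1 := by
    intro x hx
    have hx' := hgH x hx
    have h1 := hq (x * y) (Subgroup.mul_mem _ hx hy)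
    have e1 : g * (x * y) * g⁻¹ = g * x * g⁻¹ * (g * y * g⁻¹) := by group
    rw [e1, comm_mul_left (cen hy (Subgroup.mul_mem _ hx' hy')),
      comm_mul_right (cen hx hy'), comm_mul_right (cen hy hy'), hq x hx, hq y hy, one_mul,
      mul_one] at h1
    -- h1 : ⁅x, g y g⁻¹⁆ * ⁅y, g x g⁻¹⁆ = 1
    have e2 : ⁅y, g * x * g⁻¹⁆ = ⁅x, g⁻¹ * y * g⁆⁻¹ := by
      rw [commutatorElement_inv]
      have : ⁅g * (g⁻¹ * y * g) * g⁻¹, g * x * g⁻¹⁆ = ⁅g⁻¹ * y * g, x⁆ :=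
        comm_conj_of_central (cen hy'' hx)
      rw [← this]
      congr 1
      group
    rw [e2] at h1
    rw [comm_mul_right (cen hx (Subgroup.inv_mem _ hy'')), comm_inv_right (cen hx hy'')]
    exact h1
  have huZ : g * y * g⁻¹ * (g⁻¹ * y * g)⁻¹ ∈ Cfsg.Geo.scalars (Fin n) F := by
    apply hC.schur
    intro x hx
    have := hu x (Ctx.R_le_H hx)
    rw [commutatorElement_eq_one_iff_mul_comm] at this
    exact this.symm
  have e3 : ⁅g ^ 2, y⁆ = g * (g * y * g⁻¹ * (g⁻¹ * y * g)⁻¹) * g⁻¹ := by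
    simp only [commutatorElement_def, pow_two]; group
  rw [e3, ← sc_central huZ g, mul_inv_cancel_right]
  exact huZ

theorem caseB_refined (hC : Ctx R r) {g : GL (Fin n) F}
    (hgH : ∀ a ∈ HH R, g * a * g⁻¹ ∈ HH R) (hgH' : ∀ a ∈ HH R, g⁻¹ * a * g ∈ HH R)
    {ϖ : ℕ} (hodd : Odd ϖ) (hcop : Nat.Coprime ϖ r) (hgϖ : g ^ ϖ = 1)
    {x₀ : GL (Fin n) F} (hx₀ : x₀ ∈ R) (hk : ⁅x₀, g⁆ ∉ Cfsg.Geo.scalars (Fin n) F) (c : F) :
    2 * Module.finrank F ↥(E g c) ≤ n := by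
  by_contra hlt
  push Not at hlt
  have hq : ∀ x ∈ HH R, ⁅x, g * x * g⁻¹⁆ = 1 := fun x hx => step_ii hC hgH hcop hgϖ hlt hx
  have h2 := step_iii hC hgH hgH' hq
  -- powers of `g²`
  have hpow : ∀ k : ℕ, ∀ y ∈ HH R, ⁅(g ^ 2) ^ k, y⁆ ∈ Cfsg.Geo.scalars (Fin n) F := by
    intro k
    induction k with
    | zero => intro y _; rw [pow_zero, commutatorElement_one_left]; exact one_mem _
    | succ k ih =>
      intro y hy
      rw [pow_succ, comm_mul_left (sc_le_center (h2 y hy))]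
      exact Subgroup.mul_mem _ (ih y hy) (h2 y hy)
  obtain ⟨m, hm⟩ := hodd
  have hg : (g ^ 2) ^ (m + 1) = g := by
    rw [← pow_mul, show 2 * (m + 1) = ϖ + 1 by omega, pow_succ, hgϖ, one_mul]
  have := hpow (m + 1) x₀ (Ctx.R_le_H hx₀)
  rw [hg] at this
  apply hk
  rw [← commutatorElement_inv]
  exact Subgroup.inv_mem _ this

end Cfsg.Agent.Lib.Helper68_ESRefined
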