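import Mathlib
import Cfsg.Prelude.Def_GeometricClasses
import Cfsg.Agent.Lib.Helper68_ESBasic
import Cfsg.Agent.Lib.Helper68_ESKappa
import Cfsg.Agent.Lib.Helper68_ESRefined
import Cfsg.Agent.Lib.Helper68_ESFix
import Cfsg.Agent.Lib.Helper68_ESQuad

/-!
# Eigenspace bounds for elements normalising an extraspecial group: assembly (helper68)
-/

set_option autoImplicit false

namespace Cfsg.Agent.Lib.Helper68_ESMain

open Matrix Module Cfsg.Agent.Lib.Helper68_ESBasic Cfsg.Agent.Lib.Helper68_ESKappa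
open Cfsg.Agent.Lib.Helper68_ESRefined Cfsg.Agent.Lib.Helper68_ESFix Cfsg.Agent.Lib.Helper68_ESQuad
open scoped commutatorElement

variable {F : Type*} [Field F] {n : ℕ}

local notation "HH" R:max => (R ⊔ Cfsg.Geo.scalars (Fin n) F : Subgroup (GL (Fin n) F))

variable {R : Subgroup (GL (Fin n) F)} {r : ℕ}

theorem comm_pow_left {G : Type*} [Group G] {a d : G} (h : ⁅a, d⁆ ∈ Subgroup.center G) (j : ℕ) :
    ⁅a ^ j, d⁆ = ⁅a, d⁆ ^ j := by
  induction j with
  | zero => simp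
  | succ j ih => rw [pow_succ, comm_mul_left h, ih, pow_succ]

/-- If `g` has a scalar commutator `≠ 1` with some `y`, all eigenspaces of `g` have dimension `≤ n/2`. -/
theorem two_mul_le_of_comm_scalar {g y : GL (Fin n) F}
    (hmem : ⁅g, y⁆ ∈ Cfsg.Geo.scalars (Fin n) F) (hgy : ⁅g, y⁆ ≠ 1) (c : F) :
    2 * Module.finrank F ↥(E g c) ≤ n := by
  by_cases hc : c = 0
  · subst hc
    rw [E_zero, finrank_bot, mul_zero]
    exact Nat.zero_le _
  obtain ⟨l, hl0, hl⟩ := sc_val hmem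
  have hl1 : l ≠ 1 := sc_ne_one hl hgy
  have hconj : y⁻¹ * g * y⁻¹⁻¹ = ⁅g, y⁆ * g := by
    have hcen := sc_central hmem (y⁻¹)
    have : ⁅g, y⁆ * g = y⁻¹ * ⁅g, y⁆ * y * g := by
      rw [← hcen]; group
    rw [this]
    simp only [commutatorElement_def]; group
  have hsh := finrank_E_shift hl hl0 hconj c
  have hne : l⁻¹ * c ≠ c := by
    intro h
    have : l⁻¹ = 1 := by
      have h2 : l⁻¹ * c = 1 * c := by rw [h, one_mul]
      exact mul_right_cancel₀ hc h2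
    exact hl1 (by simpa using this)
  have := finrank_E_add_le g hne
  rw [hsh] at this
  omega

theorem pow_mem_scalars (hC : Ctx R r) {a : GL (Fin n) F} (ha : a ∈ HH R) :
    a ^ r ∈ Cfsg.Geo.scalars (Fin n) F := by
  apply hC.schur
  intro y hy
  have h1 := comm_pow_left (hC.comm_H_center ha (Ctx.R_le_H hy)) r
  rw [hC.comm_H_pow ha (Ctx.R_le_H hy), commutatorElement_eq_one_iff_mul_comm] at h1
  exact h1

/-- `r ∣ n` as soon as some element of `H` is not scalar. -/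
theorem dvd_of_nonscalar (hC : Ctx R r) {k : GL (Fin n) F} (hk : k ∈ HH R)
    (hkZ : k ∉ Cfsg.Geo.scalars (Fin n) F) : r ∣ n := by
  obtain ⟨x, hx, hxk⟩ := hC.exists_noncomm hkZ
  have hzmem := hC.comm_H_mem (Ctx.R_le_H hx) hk
  have hzpow := hC.comm_H_pow (Ctx.R_le_H hx) hk
  obtain ⟨l, hl0, hl⟩ := sc_val hzmem
  have hl1 := sc_ne_one hl hxk
  have hlr := sc_pow hC.hn hl hzpow
  have hconj : x * k * x⁻¹ = ⁅x, k⁆ * k := by
    simp only [commutatorElement_def]; group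
  have hdet := congrArg (fun a : GL (Fin n) F => (a : Matrix (Fin n) (Fin n) F).det) hconj
  simp only [Units.val_mul, Matrix.det_mul, hl, Matrix.det_smul, Matrix.det_one, mul_one,
    Fintype.card_fin] at hdet
  have hx1 : (x : Matrix (Fin n) (Fin n) F).det * ((x⁻¹ : GL (Fin n) F) : Matrix (Fin n) (Fin n) F).det = 1 := by
    rw [← Matrix.det_mul, ← Units.val_mul, mul_inv_cancel, Units.val_one, Matrix.det_one]
  have hk0 : (k : Matrix (Fin n) (Fin n) F).det ≠ 0 := by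
    have : (k : Matrix (Fin n) (Fin n) F).det * ((k⁻¹ : GL (Fin n) F) : Matrix (Fin n) (Fin n) F).det = 1 := by
      rw [← Matrix.det_mul, ← Units.val_mul, mul_inv_cancel, Units.val_one, Matrix.det_one]
    exact left_ne_zero_of_mul_eq_one this
  have hln : l ^ n = 1 := by
    have h2 : (k : Matrix (Fin n) (Fin n) F).det = l ^ n * (k : Matrix (Fin n) (Fin n) F).det := by
      calc (k : Matrix (Fin n) (Fin n) F).det
          = (x : Matrix (Fin n) (Fin n) F).det * (k : Matrix (Fin n) (Fin n) F).det *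
              ((x⁻¹ : GL (Fin n) F) : Matrix (Fin n) (Fin n) F).det := by
            rw [mul_right_comm, hx1, one_mul]
        _ = l ^ n * (k : Matrix (Fin n) (Fin n) F).det := hdet
    have h3 : (l ^ n - 1) * (k : Matrix (Fin n) (Fin n) F).det = 0 := by
      rw [sub_mul, one_mul, ← h2, sub_self]
    rcases mul_eq_zero.mp h3 with h | h
    · exact sub_eq_zero.mp h
    · exact absurd h hk0
  have := Fact.mk hC.hr
  have hord : orderOf l = r := orderOf_eq_prime hlr hl1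
  rw [← hord]
  exact orderOf_dvd_of_pow_eq_one hln

/-- Case B3: the order of `g` is `r ≥ 5`. -/
theorem caseB3 [Finite F] (hC : Ctx R r) {g : GL (Fin n) F}
    (hgH : ∀ a ∈ HH R, g * a * g⁻¹ ∈ HH R) (hgr : g ^ r = 1) (hr5 : 5 ≤ r)
    {x₀ : GL (Fin n) F} (hx₀ : x₀ ∈ R) (hk₀ : ⁅x₀, g⁆ ∉ Cfsg.Geo.scalars (Fin n) F) (c : F) :
    2 * Module.finrank F ↥(E g c) ≤ n := by
  have := Fact.mk hC.hr
  obtain ⟨x, hx, hkZ, hgk⟩ := exists_fixed_comm (Cfsg.Geo.scalars (Fin n) F) (HH R) r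
    (fun a ha b hb => hC.comm_H_mem ha hb) (fun a ha => pow_mem_scalars hC ha) g hgH
    (by rw [hgr]; exact one_mem _) x₀ (Ctx.R_le_H hx₀) hk₀
  have hkH : ⁅x, g⁆ ∈ HH R := comm_mem_of_norm hgH hx
  by_cases hne : ⁅g, ⁅x, g⁆⁆ = 1
  swap
  · exact two_mul_le_of_comm_scalar hgk hne c
  rw [commutatorElement_eq_one_iff_mul_comm] at hne
  have hxg : x * g * x⁻¹ = ⁅x, g⁆ * g := by
    simp only [commutatorElement_def]; group
  have hxk : x * ⁅x, g⁆ * x⁻¹ = ⁅x, ⁅x, g⁆⁆ * ⁅x, g⁆ := by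
    simp only [commutatorElement_def]; group
  have hz'mem := hC.comm_H_mem hx hkH
  have hz'pow := hC.comm_H_pow hx hkH
  obtain ⟨ω', -, hω'⟩ := sc_val hz'mem
  have hω'r := sc_pow hC.hn hω' hz'pow
  have hkr : ⁅x, g⁆ ^ r = 1 := by
    have h1 : (x * g * x⁻¹) ^ r = 1 := by rw [conj_pow, hgr]; group
    rw [hxg, (Commute.mul_pow (show Commute ⁅x, g⁆ g from hne.symm) r), hgr, mul_one] at h1
    exact h1
  obtain ⟨x', hx', hx'k⟩ := hC.exists_noncomm hkZ
  obtain ⟨ω, -, hω⟩ := sc_val (hC.comm_H_mem (Ctx.R_le_H hx') hkH)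
  have hω1 := sc_ne_one hω hx'k
  have hωr := sc_pow hC.hn hω (hC.comm_H_pow (Ctx.R_le_H hx') hkH)
  exact quad_bound hC.hr hr5 hne hxg hxk hω' hω'r hkr
    (fun a => hC.prime_mul_finrank_le_of_mem hkH hkZ a) hω1 hωr c

/-- The four eigenspace bounds. -/
theorem main [Finite F] (hC : Ctx R r) {g : GL (Fin n) F}
    (hgN : g ∈ Subgroup.normalizer ((HH R : Subgroup (GL (Fin n) F)) : Set (GL (Fin n) F)))
    {ϖ : ℕ} (hϖ : ϖ.Prime) (hord : orderOf g = ϖ)
    (hns : g ∉ Cfsg.Geo.scalars (Fin n) F) (c : F) :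
    (ϖ = 2 → 4 * Module.finrank F ↥(E g c) ≤ 3 * n) ∧
    (ϖ = 3 → 3 * Module.finrank F ↥(E g c) ≤ 2 * n) ∧
    (3 < ϖ → 2 * Module.finrank F ↥(E g c) ≤ n) ∧
    (ϖ = 3 → ¬ 3 ∣ n → 2 * Module.finrank F ↥(E g c) ≤ n) := by
  have hgH : ∀ a ∈ HH R, g * a * g⁻¹ ∈ HH R := fun a ha =>
    (Subgroup.mem_normalizer_iff.mp hgN a).mp ha
  have hgH' : ∀ a ∈ HH R, g⁻¹ * a * g ∈ HH R := by
    intro a ha
    rw [Subgroup.mem_normalizer_iff.mp hgN (g⁻¹ * a * g)]
    have : g * (g⁻¹ * a * g) * g⁻¹ = a := by group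
    rw [this]
    exact ha
  have hgϖ : g ^ ϖ = 1 := by rw [← hord]; exact pow_orderOf_eq_one g
  have hr := hC.hr
  by_cases hA : ∀ y ∈ R, ⁅g, y⁆ ∈ Cfsg.Geo.scalars (Fin n) F
  · have h := hC.caseA hA hns c
    refine ⟨fun _ => by omega, fun _ => by omega, fun _ => h, fun _ _ => h⟩
  push Not at hA
  obtain ⟨x₀, hx₀, hgx₀⟩ := hA
  have hk₀ : ⁅x₀, g⁆ ∉ Cfsg.Geo.scalars (Fin n) F := by
    intro h
    apply hgx₀
    rw [← commutatorElement_inv]
    exact Subgroup.inv_mem _ h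
  have hbasic := hC.caseB_basic hgH hx₀ hk₀ c
  have hkH : ⁅x₀, g⁆ ∈ HH R := comm_mem_of_norm hgH (Ctx.R_le_H hx₀)
  have hrn : r ∣ n := dvd_of_nonscalar hC hkH hk₀
  have hr2 : 2 ≤ r := hr.two_le
  have hrefined : ϖ ≠ 2 → ϖ ≠ r → 2 * Module.finrank F ↥(E g c) ≤ n := by
    intro h2 hne
    exact caseB_refined hC hgH hgH' (hϖ.odd_of_ne_two h2) ((Nat.coprime_primes hϖ hr).mpr hne)
      hgϖ hx₀ hk₀ c
  refine ⟨fun _ => ?_, fun h3 => ?_, fun h3 => ?_, fun h3 hn3 => ?_⟩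
  · -- `4 d ≤ 3 n`
    by_contra hlt
    push Not at hlt
    have h6 : r * (3 * n + 1) ≤ r * (4 * Module.finrank F ↥(E g c)) := Nat.mul_le_mul_left _ hlt
    have h7 : 2 * n ≤ r * n := Nat.mul_le_mul_right n hr2
    nlinarith [hbasic, h6, h7, hr.pos]
  · by_cases hr3 : r = 3
    · subst hr3
      omega
    · have := hrefined (by omega) (by omega)
      omega
  · by_cases hrϖ : ϖ = r
    · subst hrϖ
      have h4 : ϖ ≠ 4 := by
        rintro rfl
        exact absurd hϖ (by norm_num)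
      exact caseB3 hC hgH hgϖ (by omega) hx₀ hk₀ c
    · exact hrefined (by omega) hrϖ
  · by_cases hr3 : r = 3
    · subst hr3
      exact absurd hrn hn3
    · exact hrefined (by omega) (by omega)

/-- Schur's lemma in group form from absolute irreducibility. -/
theorem schur_of_absIrred (hn : 0 < n)
    (hirr : Cfsg.Geo.ActsAbsolutelyIrreducibly (Cfsg.Geo.matrixSet R)) (u : GL (Fin n) F)
    (hu : ∀ y ∈ R, u * y = y * u) : u ∈ Cfsg.Geo.scalars (Fin n) F := by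
  have h1 : ∀ s ∈ Cfsg.Geo.matrixSet R, (u : Matrix (Fin n) (Fin n) F) * s = s * u := by
    rintro _ ⟨y, hy, rfl⟩
    have := congrArg (fun a : GL (Fin n) F => (a : Matrix (Fin n) (Fin n) F)) (hu y hy)
    simpa [Units.val_mul] using this
  obtain ⟨c, hc⟩ := hirr.2 _ h1
  have : Nonempty (Fin n) := ⟨⟨0, hn⟩⟩
  have hc0 : c ≠ 0 := by
    rintro rfl
    rw [zero_smul] at hc
    exact (Units.ne_zero u) hc
  rw [Cfsg.Geo.mem_scalars_iff]
  exact ⟨Units.mk0 c hc0, hc⟩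

/-- The context from the hypotheses of S5877. -/
theorem ctx_of (hn : 0 < n) (hr : r.Prime)
    (hZ : Nat.card (Subgroup.center R) = r) (hext : commutator R = Subgroup.center R)
    (hirr : Cfsg.Geo.ActsAbsolutelyIrreducibly (Cfsg.Geo.matrixSet R)) : Ctx R r := by
  have hcen : ∀ (x : GL (Fin n) F) (hx : x ∈ R) (y : GL (Fin n) F) (hy : y ∈ R),
      (⁅(⟨x, hx⟩ : R), ⟨y, hy⟩⁆ : R) ∈ Subgroup.center R := by
    intro x hx y hy
    rw [← hext, commutator_def]
    exact Subgroup.commutator_mem_commutator (Subgroup.mem_top _) (Subgroup.mem_top _)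
  have hcomm : ∀ x ∈ R, ∀ y ∈ R, ∀ t ∈ R, ⁅x, y⁆ * t = t * ⁅x, y⁆ := by
    intro x hx y hy t ht
    have := Subgroup.mem_center_iff.mp (hcen x hx y hy) ⟨t, ht⟩
    have h2 := congrArg (Subtype.val : R → GL (Fin n) F) this
    simpa [commutatorElement_def] using h2.symm
  refine ⟨hn, hr, ?_, ?_, schur_of_absIrred hn hirr⟩
  · intro x hx y hy
    exact schur_of_absIrred hn hirr _ (hcomm x hx y hy)
  · intro x hx y hy
    have h1 : (⟨_, hcen x hx y hy⟩ : Subgroup.center R) ^ Nat.card (Subgroup.center R) = 1 :=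
      pow_card_eq_one'
    rw [hZ] at h1
    have h2 := congrArg (fun a : Subgroup.center R => ((a : R) : GL (Fin n) F)) h1
    simpa [commutatorElement_def] using h2

end Cfsg.Agent.Lib.Helper68_ESMain
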