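import Mathlib
import Cfsg.Agent.Lib.Helper38_BrauerWielandt
import Cfsg.Agent.Lib.Helper68_Casolo

set_option autoImplicit false
open scoped Pointwise

/-!
# A fixed-point inequality for coprime action of a `p`-group (helper68)

For a `p`-subgroup `P` normalizing a `p'`-subgroup `K`:
`(∏_{x ∈ P} |C_K(x)|)^p ≤ |K|^{|P|} · |C_K(P)|^{|P|(p-1)}`.
-/

namespace Cfsg.Agent.Lib.Helper68_FixedPointIneq

open Cfsg.Agent.Lib.Helper48_Generation
open Cfsg.Agent.Lib.Helper38_BrauerWielandt

variable {G : Type*} [Group G] {p : ℕ} [Fact p.Prime]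

omit [Fact p.Prime] in
theorem normAut_eq_one (P : Subgroup G) (g : Subgroup.normalizer (P : Set G))
    (h : (g : G) ∈ Subgroup.centralizer (P : Set G)) : normAut P g = 1 := by
  ext x
  rw [normAut_apply_coe, MulAut.one_apply]
  have h1 : (x : G) * (g : G) = (g : G) * x := (Subgroup.mem_centralizer_iff.mp h) x x.2
  rw [← h1]
  group

/-- Brauer–Wielandt, ambient nilpotent form, with `a^p, b^p, [a,b]` only assumed to centralize. -/
theorem bw_ambient_nilpotent' (P : Subgroup G) [Finite P] [Group.IsNilpotent P]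
    (hcop : ¬ p ∣ Nat.card P) (a b : G)
    (ha : a ∈ Subgroup.normalizer (P : Set G)) (hb : b ∈ Subgroup.normalizer (P : Set G))
    (hap : a ^ p ∈ Subgroup.centralizer (P : Set G))
    (hbp : b ^ p ∈ Subgroup.centralizer (P : Set G))
    (hab : a * b * a⁻¹ * b⁻¹ ∈ Subgroup.centralizer (P : Set G)) :
    Nat.card P * Nat.card ↥(P ⊓ Subgroup.centralizer ({a} : Set G) ⊓
        Subgroup.centralizer ({b} : Set G)) ^ p =
      ∏ o : Option (ZMod p), Nat.card ↥(P ⊓ Subgroup.centralizer ({ccG p a b o} : Set G)) := by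
  let a' : Subgroup.normalizer (P : Set G) := ⟨a, ha⟩
  let b' : Subgroup.normalizer (P : Set G) := ⟨b, hb⟩
  have hα : (normAut P a') ^ p = 1 := by
    rw [← map_pow]
    apply normAut_eq_one
    simpa using hap
  have hβ : (normAut P b') ^ p = 1 := by
    rw [← map_pow]
    apply normAut_eq_one
    simpa using hbp
  have hαβ : normAut P a' * normAut P b' = normAut P b' * normAut P a' := by
    have h1 : normAut P (a' * b' * a'⁻¹ * b'⁻¹) = 1 := by
      apply normAut_eq_one
      simpa using hab
    rw [map_mul, map_mul, map_mul, map_inv, map_inv] at h1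
    have h2 := congrArg (fun t => t * normAut P b' * normAut P a') h1
    simpa [mul_assoc] using h2
  have key := bw_nilpotent (p := p) P hcop (normAut P a') (normAut P b') hα hβ hαβ
  have h2 : Nat.card ↥(fixSub (normAut P a') ⊓ fixSub (normAut P b')) =
      Nat.card ↥(P ⊓ Subgroup.centralizer ({a} : Set G) ⊓ Subgroup.centralizer ({b} : Set G)) := by
    rw [← Subgroup.card_map_of_injective P.subtype_injective,
      Subgroup.map_inf _ _ _ P.subtype_injective, fixSub_normAut_map, fixSub_normAut_map]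
    congr 2
    rw [← inf_inf_distrib_left, inf_assoc]
  have ho : ∀ o : Option (ZMod p), Nat.card ↥(fixSub (cc p (normAut P a') (normAut P b') o)) =
      Nat.card ↥(P ⊓ Subgroup.centralizer ({ccG p a b o} : Set G)) := by
    intro o
    rw [cc_eq_ccG, ← ccG_map (normAut P) a' b' o, card_fixSub_normAut]
    have : ((ccG p a' b' o : Subgroup.normalizer (P : Set G)) : G) = ccG p a b o :=
      ccG_map (Subgroup.normalizer (P : Set G)).subtype a' b' o
    rw [this]
  rw [h2, Finset.prod_congr rfl (fun o _ => ho o)] at key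
  exact key

/-- Brauer–Wielandt for a `p'`-subgroup `K` and `a, b` in a `p`-subgroup `D ≤ N(K)` such that
`a^p, b^p, [a,b]` centralize `K`. -/
theorem bw_ambient' [Finite G] (K : Subgroup G) (hcop : ¬ p ∣ Nat.card K) (a b : G)
    (hD : IsPGroup p (Subgroup.zpowers a ⊔ Subgroup.zpowers b : Subgroup G))
    (ha : a ∈ Subgroup.normalizer (K : Set G)) (hb : b ∈ Subgroup.normalizer (K : Set G))
    (hap : a ^ p ∈ Subgroup.centralizer (K : Set G))
    (hbp : b ^ p ∈ Subgroup.centralizer (K : Set G))
    (hab : a * b * a⁻¹ * b⁻¹ ∈ Subgroup.centralizer (K : Set G)) :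
    Nat.card K * Nat.card ↥(K ⊓ Subgroup.centralizer ({a} : Set G) ⊓
        Subgroup.centralizer ({b} : Set G)) ^ p =
      ∏ o : Option (ZMod p), Nat.card ↥(K ⊓ Subgroup.centralizer ({ccG p a b o} : Set G)) := by
  have hp : p.Prime := Fact.out
  set D := Subgroup.zpowers a ⊔ Subgroup.zpowers b with hDdef
  have hDK : D ≤ Subgroup.normalizer (K : Set G) :=
    sup_le (Subgroup.zpowers_le.mpr ha) (Subgroup.zpowers_le.mpr hb)
  have haD : a ∈ D := (le_sup_left : Subgroup.zpowers a ≤ D) (Subgroup.mem_zpowers a)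
  have hbD : b ∈ D := (le_sup_right : Subgroup.zpowers b ≤ D) (Subgroup.mem_zpowers b)
  have hcopD : (Nat.card D).Coprime (Nat.card K) := by
    obtain ⟨n, hn⟩ := IsPGroup.iff_card.mp hD
    rw [hn]
    exact Nat.Coprime.pow_left n ((Nat.Prime.coprime_iff_not_dvd hp).mpr hcop)
  have hsolvD : Group.IsSolvable D ∨ Group.IsSolvable K := by
    left
    have : Group.IsNilpotent D := hD.isNilpotent
    infer_instance
  have hCD : Subgroup.centralizer (D : Set G) =
      Subgroup.centralizer ({a} : Set G) ⊓ Subgroup.centralizer ({b} : Set G) := by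
    rw [hDdef, Cfsg.Agent.Lib.Helper50_CD.centralizer_sup, centralizer_zpowers, centralizer_zpowers]
  have hne : ∀ L : Subgroup G, Nat.card L ≠ 0 := fun L => Nat.card_pos.ne'
  apply Nat.eq_of_factorization_eq
  · exact Nat.mul_ne_zero (hne _) (pow_ne_zero _ (hne _))
  · exact Finset.prod_ne_zero_iff.mpr (fun o _ => hne _)
  intro q
  by_cases hq : q.Prime
  swap
  · rw [Nat.factorization_eq_zero_of_not_prime _ hq, Nat.factorization_eq_zero_of_not_prime _ hq]
  have : Fact q.Prime := ⟨hq⟩
  obtain ⟨P, hP⟩ := Cfsg.Agent.S0023.result D K hDK hcopD hsolvD q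
  set R : Subgroup G := (P : Subgroup K).map K.subtype with hR
  have hRK : R ≤ K := Subgroup.map_subtype_le _
  have hRq : IsPGroup q R := P.2.map _
  have : Group.IsNilpotent R := hRq.isNilpotent
  have hRcop : ¬ p ∣ Nat.card R := fun h => hcop (h.trans (Subgroup.card_dvd_of_le hRK))
  have hcle : Subgroup.centralizer (K : Set G) ≤ Subgroup.centralizer (R : Set G) :=
    Subgroup.centralizer_le hRK
  have hR_bw := bw_ambient_nilpotent' R hRcop a b (hP haD) (hP hbD) (hcle hap) (hcle hbp) (hcle hab)
  have h1 : (Nat.card K).factorization q = (Nat.card R).factorization q := by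
    have : Nat.card R = q ^ (Nat.card K).factorization q := by
      rw [hR, Subgroup.card_map_of_injective K.subtype_injective]
      exact P.card_eq_multiplicity
    rw [this]
    simp [hq.factorization_self]
  have h2 : (Nat.card ↥(K ⊓ Subgroup.centralizer ({a} : Set G) ⊓
        Subgroup.centralizer ({b} : Set G))).factorization q =
      (Nat.card ↥(R ⊓ Subgroup.centralizer ({a} : Set G) ⊓
        Subgroup.centralizer ({b} : Set G))).factorization q := by
    have := factorization_centralizer_sylow D K hD hcop hDK q P hP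
    rw [hCD, ← inf_assoc, ← inf_assoc] at this
    exact this
  have h3 : ∀ o : Option (ZMod p),
      (Nat.card ↥(K ⊓ Subgroup.centralizer ({ccG p a b o} : Set G))).factorization q =
      (Nat.card ↥(R ⊓ Subgroup.centralizer ({ccG p a b o} : Set G))).factorization q := by
    intro o
    have hoD : Subgroup.zpowers (ccG p a b o) ≤ D :=
      Subgroup.zpowers_le.mpr (ccG_mem D haD hbD o)
    have := factorization_centralizer_sylow (Subgroup.zpowers (ccG p a b o)) K (hD.to_le hoD) hcop
      (hoD.trans hDK) q P (hoD.trans hP)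
    rw [centralizer_zpowers] at this
    exact this
  rw [Nat.factorization_mul (hne _) (pow_ne_zero _ (hne _)), Nat.factorization_pow,
    Nat.factorization_prod (fun o _ => hne _)]
  simp only [Finsupp.coe_add, Finsupp.coe_smul, Pi.add_apply, Pi.smul_apply, smul_eq_mul,
    Finsupp.coe_finsetSum, Finset.sum_apply]
  rw [h1, h2, Finset.sum_congr rfl (fun o _ => h3 o)]
  have h4 : (_ : ℕ).factorization q = (_ : ℕ).factorization q :=
    congrArg (fun n => n.factorization q) hR_bw
  rw [Nat.factorization_mul (hne _) (pow_ne_zero _ (hne _)), Nat.factorization_pow,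
    Nat.factorization_prod (fun o _ => hne _)] at h4
  simp only [Finsupp.coe_add, Finsupp.coe_smul, Pi.add_apply, Pi.smul_apply, smul_eq_mul,
    Finsupp.coe_finsetSum, Finset.sum_apply] at h4
  exact h4


omit [Fact p.Prime] in
theorem mem_centralizer_iff_normAut (K : Subgroup G) (g : Subgroup.normalizer (K : Set G)) (k : K) :
    (k : G) ∈ Subgroup.centralizer ({(g : G)} : Set G) ↔ normAut K g k = k := by
  rw [Subgroup.mem_centralizer_singleton_iff]
  constructor
  · intro h
    apply Subtype.ext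
    rw [normAut_apply_coe, ← h]
    group
  · intro h
    have h1 : (g : G) * k * (g : G)⁻¹ = k := by
      rw [← normAut_apply_coe, h]
    calc (k : G) * g = (g : G) * k * (g : G)⁻¹ * g := by rw [h1]
      _ = g * k := by group

omit [Fact p.Prime] in
theorem mem_centralizer_of_normAut_eq_one (K : Subgroup G) (g : Subgroup.normalizer (K : Set G))
    (h : normAut K g = 1) : (g : G) ∈ Subgroup.centralizer (K : Set G) := by
  rw [Subgroup.mem_centralizer_iff]
  intro k hk
  have h1 : normAut K g ⟨k, hk⟩ = ⟨k, hk⟩ := by rw [h]; rfl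
  have h2 := (mem_centralizer_iff_normAut K g ⟨k, hk⟩).mpr h1
  rw [Subgroup.mem_centralizer_singleton_iff] at h2
  exact h2

omit [Fact p.Prime] in
theorem relIndex_mul_card_inf (H K : Subgroup G) [Finite K] :
    H.relIndex K * Nat.card ↥(K ⊓ H) = Nat.card K := by
  rw [Subgroup.relIndex, ← Subgroup.index_mul_card (H.subgroupOf K), inf_comm,
    ← Subgroup.inf_subgroupOf_right H K]
  congr 1
  exact (Nat.card_congr (Subgroup.subgroupOfEquivOfLe inf_le_right).toEquiv).symm

/-- the local inequality -/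
theorem local_ineq [Finite G] (K : Subgroup G) (hcop : ¬ p ∣ Nat.card K) (x z : G)
    (hD : IsPGroup p (Subgroup.zpowers x ⊔ Subgroup.zpowers z : Subgroup G))
    (hx : x ∈ Subgroup.normalizer (K : Set G)) (hz : z ∈ Subgroup.normalizer (K : Set G))
    (hzp : z ^ p ∈ Subgroup.centralizer (K : Set G))
    (hxz : x * z * x⁻¹ * z⁻¹ ∈ Subgroup.centralizer (K : Set G)) :
    (∏ i : ZMod p, Nat.card ↥(K ⊓ Subgroup.centralizer ({x * z ^ i.val} : Set G))) *
        Nat.card ↥(K ⊓ Subgroup.centralizer ({z} : Set G))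
      ≤ Nat.card K * Nat.card ↥(K ⊓ Subgroup.centralizer ({x} : Set G) ⊓
        Subgroup.centralizer ({z} : Set G)) ^ p := by
  let x' : Subgroup.normalizer (K : Set G) := ⟨x, hx⟩
  let z' : Subgroup.normalizer (K : Set G) := ⟨z, hz⟩
  set α := normAut K x' with hα
  set β := normAut K z' with hβ
  have hβp : β ^ p = 1 := by
    rw [hβ, ← map_pow]
    apply normAut_eq_one
    simpa using hzp
  have hαβ : Commute α β := by
    have h1 : normAut K (x' * z' * x'⁻¹ * z'⁻¹) = 1 := by
      apply normAut_eq_one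
      simpa using hxz
    rw [map_mul, map_mul, map_mul, map_inv, map_inv] at h1
    have h2 := congrArg (fun t => t * normAut K z' * normAut K x') h1
    show α * β = β * α
    simpa [mul_assoc] using h2
  set y := x ^ p with hy
  have hyN : y ∈ Subgroup.normalizer (K : Set G) := pow_mem hx p
  let y' : Subgroup.normalizer (K : Set G) := ⟨y, hyN⟩
  have hy' : normAut K y' = α ^ p := by
    rw [hα, ← map_pow]
    rfl
  set K1 := K ⊓ Subgroup.centralizer ({y} : Set G) with hK1
  -- F1
  have F1 : ∀ i : ℕ, (α * β ^ i) ^ p = α ^ p := by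
    intro i
    rw [(hαβ.pow_right i).mul_pow, ← pow_mul, mul_comm i p, pow_mul, hβp, one_pow, mul_one]
  -- F2
  have F2 : ∀ i : ℕ, K ⊓ Subgroup.centralizer ({x * z ^ i} : Set G) ≤ K1 := by
    intro i k hk
    rw [Subgroup.mem_inf] at hk
    refine Subgroup.mem_inf.mpr ⟨hk.1, ?_⟩
    have hgN : x * z ^ i ∈ Subgroup.normalizer (K : Set G) := mul_mem hx (pow_mem hz i)
    have h1 := (mem_centralizer_iff_normAut K ⟨x * z ^ i, hgN⟩ ⟨k, hk.1⟩).mp hk.2
    have h2 : normAut K ⟨x * z ^ i, hgN⟩ = α * β ^ i := by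
      rw [hα, hβ, ← map_pow, ← map_mul]
      rfl
    rw [h2] at h1
    have h3 := fix_pow h1 p
    rw [F1 i, ← hy'] at h3
    exact (mem_centralizer_iff_normAut K y' ⟨k, hk.1⟩).mpr h3
  -- normalizer facts
  have key : ∀ (g : Subgroup.normalizer (K : Set G)), Commute (normAut K g) (α ^ p) →
      (g : G) ∈ Subgroup.normalizer (K1 : Set G) := by
    intro g hg
    rw [Subgroup.mem_normalizer_iff]
    intro k
    constructor
    · intro hk
      rw [hK1, Subgroup.mem_inf] at hk
      have hk2 : (g : G) * k * (g : G)⁻¹ ∈ K := (Subgroup.mem_normalizer_iff.mp g.2 k).mp hk.1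
      refine Subgroup.mem_inf.mpr ⟨hk2, ?_⟩
      have h1 := (mem_centralizer_iff_normAut K y' ⟨k, hk.1⟩).mp hk.2
      have h2 : normAut K y' (normAut K g ⟨k, hk.1⟩) = normAut K g ⟨k, hk.1⟩ := by
        rw [hy']
        have := congrArg (fun t => t ⟨k, hk.1⟩) hg.eq
        simp only [MulAut.mul_apply] at this
        rw [← this, ← hy', h1]
      exact (mem_centralizer_iff_normAut K y' (normAut K g ⟨k, hk.1⟩)).mpr h2
    · intro hk
      rw [hK1, Subgroup.mem_inf] at hk
      have hk1 : k ∈ K := (Subgroup.mem_normalizer_iff.mp g.2 k).mpr hk.1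
      refine Subgroup.mem_inf.mpr ⟨hk1, ?_⟩
      have h0 : (normAut K g ⟨k, hk1⟩ : K) = ⟨(g : G) * k * (g : G)⁻¹, hk.1⟩ := Subtype.ext rfl
      have h1 := (mem_centralizer_iff_normAut K y' ⟨(g : G) * k * (g : G)⁻¹, hk.1⟩).mp hk.2
      rw [← h0, hy'] at h1
      have := congrArg (fun t => t ⟨k, hk1⟩) hg.eq
      simp only [MulAut.mul_apply] at this
      rw [← this] at h1
      have h2 := (normAut K g).injective h1
      rw [← hy'] at h2
      exact (mem_centralizer_iff_normAut K y' ⟨k, hk1⟩).mpr h2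
  have hxK1 : x ∈ Subgroup.normalizer (K1 : Set G) :=
    key x' (Commute.pow_right (Commute.refl α) p)
  have hzK1 : z ∈ Subgroup.normalizer (K1 : Set G) :=
    key z' (hαβ.symm.pow_right p)
  have hK1K : K1 ≤ K := inf_le_left
  have hcop1 : ¬ p ∣ Nat.card K1 := fun h => hcop (h.trans (Subgroup.card_dvd_of_le hK1K))
  have hcle : Subgroup.centralizer (K : Set G) ≤ Subgroup.centralizer (K1 : Set G) :=
    Subgroup.centralizer_le hK1K
  have hyc : x ^ p ∈ Subgroup.centralizer (K1 : Set G) := by
    rw [Subgroup.mem_centralizer_iff]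
    intro k hk
    have := (Subgroup.mem_inf.mp hk).2
    rw [Subgroup.mem_centralizer_singleton_iff] at this
    exact this
  have bw := bw_ambient' K1 hcop1 x z hD hxK1 hzK1 hyc (hcle hzp) (hcle hxz)
  rw [Fintype.prod_option] at bw
  have e1 : ∀ i : ZMod p, K1 ⊓ Subgroup.centralizer ({ccG p x z (some i)} : Set G)
      = K ⊓ Subgroup.centralizer ({x * z ^ i.val} : Set G) := by
    intro i
    show K1 ⊓ Subgroup.centralizer ({x * z ^ i.val} : Set G) = _
    exact le_antisymm (inf_le_inf_right _ hK1K) (le_inf (F2 i.val) inf_le_right)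
  have e2 : K1 ⊓ Subgroup.centralizer ({x} : Set G) ⊓ Subgroup.centralizer ({z} : Set G)
      = K ⊓ Subgroup.centralizer ({x} : Set G) ⊓ Subgroup.centralizer ({z} : Set G) := by
    have h0 : K ⊓ Subgroup.centralizer ({x} : Set G) ≤ K1 := by
      have := F2 0
      simpa using this
    have : K1 ⊓ Subgroup.centralizer ({x} : Set G) = K ⊓ Subgroup.centralizer ({x} : Set G) :=
      le_antisymm (inf_le_inf_right _ hK1K) (le_inf h0 inf_le_right)
    rw [this]
  have e3 : ccG p x z none = z := rfl
  rw [e3, e2, Finset.prod_congr rfl (fun i _ => by rw [e1 i])] at bw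
  -- arithmetic
  have r1 := relIndex_mul_card_inf (Subgroup.centralizer ({z} : Set G)) K1
  have r := relIndex_mul_card_inf (Subgroup.centralizer ({z} : Set G)) K
  have hle : (Subgroup.centralizer ({z} : Set G)).relIndex K1
      ≤ (Subgroup.centralizer ({z} : Set G)).relIndex K := by
    apply Subgroup.relIndex_le_of_le_right hK1K
    intro h0
    rw [h0, zero_mul] at r
    exact Nat.card_pos.ne' r.symm
  set A := ∏ i : ZMod p, Nat.card ↥(K ⊓ Subgroup.centralizer ({x * z ^ i.val} : Set G)) with hA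
  set E := Nat.card ↥(K ⊓ Subgroup.centralizer ({x} : Set G) ⊓
    Subgroup.centralizer ({z} : Set G)) with hE
  set a1 := Nat.card ↥(K1 ⊓ Subgroup.centralizer ({z} : Set G)) with ha1
  set a := Nat.card ↥(K ⊓ Subgroup.centralizer ({z} : Set G)) with ha
  have ha1pos : 0 < a1 := Nat.card_pos
  -- bw : card K1 * E^p = a1 * A ; r1 : r1 * a1 = card K1 ; r : r * a = card K
  have hAeq : A = (Subgroup.centralizer ({z} : Set G)).relIndex K1 * E ^ p := by
    have : a1 * A = a1 * ((Subgroup.centralizer ({z} : Set G)).relIndex K1 * E ^ p) := by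
      rw [← bw, ← r1]; ring
    exact Nat.eq_of_mul_eq_mul_left ha1pos this
  rw [hAeq, ← r]
  calc (Subgroup.centralizer ({z} : Set G)).relIndex K1 * E ^ p * a
      ≤ (Subgroup.centralizer ({z} : Set G)).relIndex K * E ^ p * a :=
        Nat.mul_le_mul_right _ (Nat.mul_le_mul_right _ hle)
    _ = (Subgroup.centralizer ({z} : Set G)).relIndex K * a * E ^ p := by ring


omit [Fact p.Prime] in
theorem commute_normAut (K : Subgroup G) (x z : Subgroup.normalizer (K : Set G))
    (hxz : (x : G) * z * (x : G)⁻¹ * (z : G)⁻¹ ∈ Subgroup.centralizer (K : Set G)) :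
    Commute (normAut K x) (normAut K z) := by
  have h1 : normAut K (x * z * x⁻¹ * z⁻¹) = 1 := by
    apply normAut_eq_one
    simpa using hxz
  rw [map_mul, map_mul, map_mul, map_inv, map_inv] at h1
  have h2 := congrArg (fun t => t * normAut K z * normAut K x) h1
  show normAut K x * normAut K z = normAut K z * normAut K x
  simpa [mul_assoc] using h2

omit [Fact p.Prime] in
/-- if the actions of `g` and `y` on `K` commute then `g` normalizes `C_K(y)` -/
theorem mem_normalizer_inf_centralizer (K : Subgroup G) (g y : Subgroup.normalizer (K : Set G))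
    (hg : Commute (normAut K g) (normAut K y)) :
    (g : G) ∈ Subgroup.normalizer ((K ⊓ Subgroup.centralizer ({(y : G)} : Set G) : Subgroup G) : Set G) := by
  rw [Subgroup.mem_normalizer_iff]
  intro k
  constructor
  · intro hk
    rw [Subgroup.mem_inf] at hk
    have hk2 : (g : G) * k * (g : G)⁻¹ ∈ K := (Subgroup.mem_normalizer_iff.mp g.2 k).mp hk.1
    refine Subgroup.mem_inf.mpr ⟨hk2, ?_⟩
    have h1 := (mem_centralizer_iff_normAut K y ⟨k, hk.1⟩).mp hk.2
    have h2 : normAut K y (normAut K g ⟨k, hk.1⟩) = normAut K g ⟨k, hk.1⟩ := by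
      have := congrArg (fun t => t ⟨k, hk.1⟩) hg.eq
      simp only [MulAut.mul_apply] at this
      rw [← this, h1]
    exact (mem_centralizer_iff_normAut K y (normAut K g ⟨k, hk.1⟩)).mpr h2
  · intro hk
    rw [Subgroup.mem_inf] at hk
    have hk1 : k ∈ K := (Subgroup.mem_normalizer_iff.mp g.2 k).mpr hk.1
    refine Subgroup.mem_inf.mpr ⟨hk1, ?_⟩
    have h0 : (normAut K g ⟨k, hk1⟩ : K) = ⟨(g : G) * k * (g : G)⁻¹, hk.1⟩ := Subtype.ext rfl
    have h1 := (mem_centralizer_iff_normAut K y ⟨(g : G) * k * (g : G)⁻¹, hk.1⟩).mp hk.2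
    rw [← h0] at h1
    have := congrArg (fun t => t ⟨k, hk1⟩) hg.eq
    simp only [MulAut.mul_apply] at this
    rw [← this] at h1
    have h2 := (normAut K g).injective h1
    exact (mem_centralizer_iff_normAut K y ⟨k, hk1⟩).mpr h2

/-- a `p`-group acting nontrivially on `K` contains an element acting as a central element of
order `p` of the induced automorphism group -/
theorem exists_central_elt [Finite G] (K P : Subgroup G) (hP : IsPGroup p P)
    (hPK : P ≤ Subgroup.normalizer (K : Set G)) (hnot : ¬ P ≤ Subgroup.centralizer (K : Set G)) :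
    ∃ z ∈ P, z ∉ Subgroup.centralizer (K : Set G) ∧ z ^ p ∈ Subgroup.centralizer (K : Set G) ∧
      ∀ x ∈ P, x * z * x⁻¹ * z⁻¹ ∈ Subgroup.centralizer (K : Set G) := by
  have hp : p.Prime := Fact.out
  set ψ : ↥P →* MulAut ↥K := (normAut K).comp (Subgroup.inclusion hPK) with hψ
  have hψone : ∀ x : P, ψ x = 1 → (x : G) ∈ Subgroup.centralizer (K : Set G) := by
    intro x hx
    exact mem_centralizer_of_normAut_eq_one K (Subgroup.inclusion hPK x) hx
  have hfinA : Finite ψ.range := Finite.of_surjective ψ.rangeRestrict ψ.rangeRestrict_surjective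
  have hA : IsPGroup p ψ.range := hP.of_surjective ψ.rangeRestrict ψ.rangeRestrict_surjective
  have hnt : Nontrivial ψ.range := by
    obtain ⟨x, hxP, hxC⟩ := SetLike.not_le_iff_exists.mp hnot
    refine ⟨⟨⟨ψ ⟨x, hxP⟩, ⟨⟨x, hxP⟩, rfl⟩⟩, 1, ?_⟩⟩
    intro h
    apply hxC
    exact hψone ⟨x, hxP⟩ (congrArg Subtype.val h)
  have hZnt : Nontrivial (Subgroup.center ψ.range) := hA.center_nontrivial
  have hZp : IsPGroup p (Subgroup.center ψ.range) := hA.to_subgroup _
  have hdvd : p ∣ Nat.card (Subgroup.center ψ.range) := by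
    obtain ⟨k, hk⟩ := IsPGroup.iff_card.mp hZp
    have h1 : 1 < Nat.card (Subgroup.center ψ.range) := Finite.one_lt_card
    rw [hk] at h1 ⊢
    cases k with
    | zero => simp at h1
    | succ k => exact dvd_pow_self p (Nat.succ_ne_zero k)
  obtain ⟨ζ, hζ⟩ := exists_prime_orderOf_dvd_card' p hdvd
  obtain ⟨zP, hzP⟩ := ζ.1.2
  have hζp : (ζ.1.1 : MulAut K) ^ p = 1 := by
    have h1 : ζ ^ p = 1 := by rw [← hζ]; exact pow_orderOf_eq_one ζ
    have h2 := congrArg (fun t : Subgroup.center ψ.range => ((t : ψ.range) : MulAut K)) h1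
    simpa using h2
  have hζne : (ζ.1.1 : MulAut K) ≠ 1 := by
    intro h
    have : ζ = 1 := Subtype.ext (Subtype.ext h)
    rw [this, orderOf_one] at hζ
    exact hp.one_lt.ne hζ
  have hζc : ∀ x : P, ψ x * ζ.1.1 = ζ.1.1 * ψ x := by
    intro x
    have h1 := (Subgroup.mem_center_iff.mp ζ.2) ⟨ψ x, ⟨x, rfl⟩⟩
    exact congrArg Subtype.val h1
  refine ⟨(zP : G), zP.2, ?_, ?_, ?_⟩
  · intro hz
    apply hζne
    rw [← hzP]
    exact normAut_eq_one K (Subgroup.inclusion hPK zP) hz
  · have h1 : ψ (zP ^ p) = 1 := by rw [map_pow, hzP, hζp]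
    have := hψone (zP ^ p) h1
    simpa using this
  · intro x hx
    have h1 : ψ (⟨x, hx⟩ * zP * ⟨x, hx⟩⁻¹ * zP⁻¹) = 1 := by
      rw [map_mul, map_mul, map_mul, map_inv, map_inv, hzP, hζc ⟨x, hx⟩]
      group
    have := hψone _ h1
    simpa using this

open Cfsg.Agent.Lib.Helper68_Casolo in
/-- **Fixed-point inequality**: for a `p`-subgroup `P` normalizing a `p'`-subgroup `K`,
`(∏_{x ∈ P} |C_K(x)|)^p ≤ |K|^{|P|} |C_K(P)|^{|P|(p-1)}`. -/
theorem fixed_point_ineq [Finite G] : ∀ (n : ℕ) (K P : Subgroup G), Nat.card K = n →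
    ¬ p ∣ Nat.card K → IsPGroup p P → P ≤ Subgroup.normalizer (K : Set G) →
    (∏ x ∈ elts P, Nat.card ↥(K ⊓ Subgroup.centralizer ({x} : Set G))) ^ p ≤
      Nat.card K ^ Nat.card P *
        Nat.card ↥(K ⊓ Subgroup.centralizer (P : Set G)) ^ (Nat.card P * (p - 1)) := by
  have hp : p.Prime := Fact.out
  intro n
  induction' n using Nat.strong_induction_on with n ih
  intro K P hn hcop hP hPK
  by_cases htriv : P ≤ Subgroup.centralizer (K : Set G)
  · -- trivial action
    have h1 : ∀ x ∈ elts P, K ⊓ Subgroup.centralizer ({x} : Set G) = K := by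
      intro x hx
      rw [mem_elts] at hx
      apply inf_eq_left.mpr
      intro k hk
      rw [Subgroup.mem_centralizer_singleton_iff]
      exact ((Subgroup.mem_centralizer_iff.mp (htriv hx)) k hk)
    have h2 : K ⊓ Subgroup.centralizer (P : Set G) = K := by
      apply inf_eq_left.mpr
      intro k hk
      rw [Subgroup.mem_centralizer_iff]
      intro x hx
      exact ((Subgroup.mem_centralizer_iff.mp (htriv hx)) k hk).symm
    rw [h2, Finset.prod_congr rfl (fun x hx => by rw [h1 x hx]), Finset.prod_const, card_elts,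
      ← pow_mul, ← pow_add]
    apply le_of_eq
    congr 1
    have : 1 ≤ p := hp.one_lt.le
    obtain ⟨m, rfl⟩ : ∃ m, p = m + 1 := ⟨p - 1, by omega⟩
    simp only [Nat.add_sub_cancel]
    ring
  · obtain ⟨z, hzP, hzC, hzp, hcomm⟩ := exists_central_elt K P hP hPK htriv
    have hzN : z ∈ Subgroup.normalizer (K : Set G) := hPK hzP
    set K0 := K ⊓ Subgroup.centralizer ({z} : Set G) with hK0
    have hK0K : K0 ≤ K := inf_le_left
    have hK0lt : K0 < K := by
      apply lt_of_le_of_ne hK0K
      intro he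
      apply hzC
      rw [Subgroup.mem_centralizer_iff]
      intro k hk
      have : k ∈ K0 := he ▸ hk
      have := (Subgroup.mem_inf.mp this).2
      rw [Subgroup.mem_centralizer_singleton_iff] at this
      exact this
    have hcard : Nat.card K0 < n := hn ▸ card_lt hK0lt
    have hcop0 : ¬ p ∣ Nat.card K0 := fun h => hcop (h.trans (Subgroup.card_dvd_of_le hK0K))
    have hPK0 : P ≤ Subgroup.normalizer (K0 : Set G) := by
      intro x hx
      have := mem_normalizer_inf_centralizer K ⟨x, hPK hx⟩ ⟨z, hzN⟩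
        (commute_normAut K ⟨x, hPK hx⟩ ⟨z, hzN⟩ (hcomm x hx))
      exact this
    have IH := ih (Nat.card K0) hcard K0 P rfl hcop0 hP hPK0
    have e1 : K0 ⊓ Subgroup.centralizer (P : Set G) = K ⊓ Subgroup.centralizer (P : Set G) := by
      apply le_antisymm (inf_le_inf_right _ hK0K)
      apply le_inf _ inf_le_right
      apply le_inf inf_le_left
      intro k hk
      have := (Subgroup.mem_inf.mp hk).2
      rw [Subgroup.mem_centralizer_singleton_iff]
      exact ((Subgroup.mem_centralizer_iff.mp this) z hzP).symm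
    rw [e1] at IH
    -- local inequalities
    have hloc : ∀ x ∈ elts P,
        (∏ i : ZMod p, Nat.card ↥(K ⊓ Subgroup.centralizer ({x * z ^ i.val} : Set G))) *
          Nat.card K0 ≤ Nat.card K *
          Nat.card ↥(K0 ⊓ Subgroup.centralizer ({x} : Set G)) ^ p := by
      intro x hx
      rw [mem_elts] at hx
      have hD : IsPGroup p (Subgroup.zpowers x ⊔ Subgroup.zpowers z : Subgroup G) :=
        hP.to_le (sup_le (Subgroup.zpowers_le.mpr hx) (Subgroup.zpowers_le.mpr hzP))
      have := local_ineq K hcop x z hD (hPK hx) hzN hzp (hcomm x hx)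
      have e : K0 ⊓ Subgroup.centralizer ({x} : Set G)
          = K ⊓ Subgroup.centralizer ({x} : Set G) ⊓ Subgroup.centralizer ({z} : Set G) := by
        rw [hK0, inf_right_comm]
      rw [e]
      exact this
    have hprod := Finset.prod_le_prod' (s := elts P) hloc
    rw [Finset.prod_mul_distrib, Finset.prod_mul_distrib, Finset.prod_const, Finset.prod_const,
      card_elts, Finset.prod_pow, Finset.prod_comm] at hprod
    have hbij : ∀ i : ZMod p,
        ∏ x ∈ elts P, Nat.card ↥(K ⊓ Subgroup.centralizer ({x * z ^ i.val} : Set G))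
          = ∏ x ∈ elts P, Nat.card ↥(K ⊓ Subgroup.centralizer ({x} : Set G)) := by
      intro i
      apply Finset.prod_nbij' (fun x => x * z ^ i.val) (fun x => x * (z ^ i.val)⁻¹)
      · intro x hx
        rw [mem_elts] at hx ⊢
        exact mul_mem hx (pow_mem hzP _)
      · intro x hx
        rw [mem_elts] at hx ⊢
        exact mul_mem hx (inv_mem (pow_mem hzP _))
      · intro x _
        group
      · intro x _
        group
      · intro x _
        rfl
    rw [Finset.prod_congr rfl (fun i _ => hbij i), Finset.prod_const, Finset.card_univ,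
      ZMod.card] at hprod
    -- combine
    have hK0pos : 0 < Nat.card K0 ^ Nat.card P := pow_pos Nat.card_pos _
    apply Nat.le_of_mul_le_mul_right _ hK0pos
    calc (∏ x ∈ elts P, Nat.card ↥(K ⊓ Subgroup.centralizer ({x} : Set G))) ^ p
          * Nat.card K0 ^ Nat.card P
        ≤ Nat.card K ^ Nat.card P *
          (∏ x ∈ elts P, Nat.card ↥(K0 ⊓ Subgroup.centralizer ({x} : Set G))) ^ p := hprod
      _ ≤ Nat.card K ^ Nat.card P * (Nat.card K0 ^ Nat.card P *
          Nat.card ↥(K ⊓ Subgroup.centralizer (P : Set G)) ^ (Nat.card P * (p - 1))) :=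
        Nat.mul_le_mul_left _ IH
      _ = Nat.card K ^ Nat.card P *
          Nat.card ↥(K ⊓ Subgroup.centralizer (P : Set G)) ^ (Nat.card P * (p - 1))
          * Nat.card K0 ^ Nat.card P := by ring

end Cfsg.Agent.Lib.Helper68_FixedPointIneq
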