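import Mathlib
import Cfsg.Agent.Lib.Helper68_Casolo

set_option autoImplicit false

/-!
# AM–GM reduction for the number of `p`-elements (helper68)
-/

namespace Cfsg.Agent.Lib.Helper68_Gheri

open Cfsg.Agent.Lib.Helper68_Casolo

/-- weighted AM–GM with natural weights, applied to `1 / l i` with weights `l i` -/
theorem amgm_nat {ι : Type*} (s : Finset ι) (l : ι → ℕ) (hl : ∀ i ∈ s, 0 < l i) :
    (∑ i ∈ s, l i) ^ (∑ i ∈ s, l i) ≤ s.card ^ (∑ i ∈ s, l i) * ∏ i ∈ s, (l i) ^ (l i) := by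
  set W := ∑ i ∈ s, l i with hW
  by_cases hW0 : W = 0
  · rw [hW0]
    simp
    exact Finset.prod_pos (fun i hi => pow_pos (hl i hi) _)
  have hWpos : (0 : ℝ) < W := by exact_mod_cast Nat.pos_of_ne_zero hW0
  have hlpos : ∀ i ∈ s, (0 : ℝ) < l i := fun i hi => by exact_mod_cast hl i hi
  have h := Real.geom_mean_le_arith_mean_weighted s (fun i => (l i : ℝ) / W)
    (fun i => 1 / (l i : ℝ))
    (fun i hi => div_nonneg (hlpos i hi).le hWpos.le)
    (by rw [← Finset.sum_div, ← Nat.cast_sum, div_self hWpos.ne'])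
    (fun i hi => (one_div_pos.mpr (hlpos i hi)).le)
  have h2 : ∑ i ∈ s, (l i : ℝ) / W * (1 / (l i : ℝ)) = (s.card : ℝ) / W := by
    have h1 : ∀ i ∈ s, (l i : ℝ) / W * (1 / (l i : ℝ)) = 1 / (W : ℝ) := by
      intro i hi
      have := (hlpos i hi).ne'
      field_simp
    rw [Finset.sum_congr rfl h1, Finset.sum_const, nsmul_eq_mul, mul_one_div]
  rw [h2] at h
  have h3 : 0 ≤ ∏ i ∈ s, (1 / (l i : ℝ)) ^ ((l i : ℝ) / W) :=
    Finset.prod_nonneg (fun i hi => Real.rpow_nonneg (one_div_pos.mpr (hlpos i hi)).le _)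
  have h4 := pow_le_pow_left₀ h3 h W
  rw [← Finset.prod_pow] at h4
  have h5 : ∀ i ∈ s, ((1 / (l i : ℝ)) ^ ((l i : ℝ) / W)) ^ W = 1 / (l i : ℝ) ^ (l i) := by
    intro i hi
    rw [← Real.rpow_natCast, ← Real.rpow_mul (one_div_pos.mpr (hlpos i hi)).le,
      div_mul_cancel₀ _ hWpos.ne', Real.rpow_natCast, one_div, inv_pow, one_div]
  rw [Finset.prod_congr rfl h5, div_pow] at h4
  have h6 : ∏ i ∈ s, 1 / (l i : ℝ) ^ (l i) = 1 / ∏ i ∈ s, (l i : ℝ) ^ (l i) := by
    simp only [one_div, Finset.prod_inv_distrib]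
  rw [h6] at h4
  have hprodpos : (0 : ℝ) < ∏ i ∈ s, (l i : ℝ) ^ (l i) :=
    Finset.prod_pos (fun i hi => pow_pos (hlpos i hi) _)
  have hWW : (0 : ℝ) < (W : ℝ) ^ W := pow_pos hWpos _
  rw [div_le_div_iff₀ hprodpos hWW] at h4
  have h7 : ((W ^ W : ℕ) : ℝ) ≤ ((s.card ^ W * ∏ i ∈ s, (l i) ^ (l i) : ℕ) : ℝ) := by
    push_cast
    linarith
  exact_mod_cast h7


variable {G : Type*} [Group G]

theorem mem_smul_sylow_iff (p : ℕ) (g x : G) (P : Sylow p G) :
    x ∈ ((g • P : Sylow p G) : Subgroup G) ↔ g⁻¹ * x * g ∈ (P : Subgroup G) := by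
  rw [Sylow.coe_subgroup_smul, Subgroup.mem_pointwise_smul_iff_inv_smul_mem]
  simp only [MulAut.smul_def, MulAut.conj_inv_apply]

/-- number of Sylow `p`-subgroups containing `x` -/
noncomputable def lam (p : ℕ) (x : G) : ℕ := Nat.card {Q : Sylow p G // x ∈ (Q : Subgroup G)}

theorem lam_conj (p : ℕ) (g x : G) : lam p (g * x * g⁻¹) = lam p x := by
  unfold lam
  apply Nat.card_congr
  refine ⟨fun Q => ⟨g⁻¹ • Q.1, ?_⟩, fun Q => ⟨g • Q.1, ?_⟩, ?_, ?_⟩
  · rw [mem_smul_sylow_iff]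
    have := Q.2
    simpa [mul_assoc] using this
  · rw [mem_smul_sylow_iff]
    have := Q.2
    simpa [mul_assoc] using this
  · intro Q
    apply Subtype.ext
    simp
  · intro Q
    apply Subtype.ext
    simp

variable [Finite G] (p : ℕ) [Fact p.Prime]

theorem gheri_reduction (P : Sylow p G)
    (h : (∏ x ∈ elts (P : Subgroup G), lam p x) ^ p
      ≤ Nat.card (Sylow p G) ^ Nat.card (P : Subgroup G)) :
    Nat.card (P : Subgroup G) ^ p * Nat.card (Sylow p G) ^ (p - 1)
      ≤ Nat.card {g : G // ∃ k : ℕ, orderOf g = p ^ k} ^ p := by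
  classical
  have hp : p.Prime := Fact.out
  have : Fintype G := Fintype.ofFinite G
  have : Fintype (Sylow p G) := Fintype.ofFinite _
  set U : Finset G := Finset.univ.filter (fun g => ∃ k : ℕ, orderOf g = p ^ k) with hU
  set S : Finset (Sylow p G) := Finset.univ with hS
  set n := Nat.card (Sylow p G) with hn
  set a := Nat.card (P : Subgroup G) with ha
  set Λ := ∏ x ∈ elts (P : Subgroup G), lam p x with hΛ
  have hUcard : Nat.card {g : G // ∃ k : ℕ, orderOf g = p ^ k} = U.card := by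
    rw [Nat.card_eq_fintype_card, Fintype.card_subtype]
  have hlam : ∀ x : G, lam p x = (S.filter (fun Q : Sylow p G => x ∈ (Q : Subgroup G))).card := by
    intro x
    unfold lam
    rw [Nat.card_eq_fintype_card, Fintype.card_subtype]
  have hmemU : ∀ (Q : Sylow p G) (x : G), x ∈ (Q : Subgroup G) → x ∈ U := by
    intro Q x hx
    rw [hU, Finset.mem_filter]
    refine ⟨Finset.mem_univ _, ?_⟩
    obtain ⟨k, hk⟩ := Q.isPGroup' ⟨x, hx⟩
    have h1 : x ^ p ^ k = 1 := by
      have := congrArg Subtype.val hk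
      simpa using this
    exact (Nat.dvd_prime_pow hp).mp (orderOf_dvd_of_pow_eq_one h1) |>.imp (fun j hj => hj.2)
  have hpos : ∀ x ∈ U, 0 < lam p x := by
    intro x hx
    rw [hU, Finset.mem_filter] at hx
    obtain ⟨k, hk⟩ := hx.2
    have hz : IsPGroup p (Subgroup.zpowers x) := by
      apply IsPGroup.of_card (n := k)
      rw [Nat.card_zpowers, hk]
    obtain ⟨Q, hQ⟩ := hz.exists_le_sylow
    unfold lam
    exact Nat.card_pos_iff.mpr ⟨⟨⟨Q, hQ (Subgroup.mem_zpowers x)⟩⟩, inferInstance⟩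
  have hcardQ : ∀ Q : Sylow p G, (U.filter (fun x => x ∈ (Q : Subgroup G))).card = a := by
    intro Q
    have h1 : U.filter (fun x => x ∈ (Q : Subgroup G))
        = Finset.univ.filter (fun x => x ∈ (Q : Subgroup G)) := by
      ext x
      simp only [Finset.mem_filter, Finset.mem_univ, true_and]
      exact ⟨fun h => h.2, fun h => ⟨hmemU Q x h, h⟩⟩
    rw [h1, ha, Sylow.card_eq_multiplicity P, ← Sylow.card_eq_multiplicity Q,
      Nat.card_eq_fintype_card, Fintype.card_subtype]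
  have hsum : ∑ x ∈ U, lam p x = n * a := by
    rw [Finset.sum_congr rfl (fun x _ => hlam x)]
    have := Finset.sum_card_bipartiteAbove_eq_sum_card_bipartiteBelow (s := U) (t := S)
      (fun (x : G) (Q : Sylow p G) => x ∈ (Q : Subgroup G))
    simp only [Finset.bipartiteAbove, Finset.bipartiteBelow] at this
    rw [this, Finset.sum_congr rfl (fun Q _ => hcardQ Q), Finset.sum_const, smul_eq_mul, hS,
      Finset.card_univ, ← Nat.card_eq_fintype_card]
  have hprodQ : ∀ Q : Sylow p G, ∏ x ∈ U.filter (fun x => x ∈ (Q : Subgroup G)), lam p x = Λ := by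
    intro Q
    obtain ⟨g, hg⟩ := MulAction.exists_smul_eq G P Q
    rw [hΛ]
    symm
    apply Finset.prod_nbij' (fun x => g * x * g⁻¹) (fun x => g⁻¹ * x * g)
    · intro x hx
      rw [mem_elts] at hx
      have h1 : g * x * g⁻¹ ∈ (Q : Subgroup G) := by
        rw [← hg, mem_smul_sylow_iff]
        simpa [mul_assoc] using hx
      rw [Finset.mem_filter]
      exact ⟨hmemU Q _ h1, h1⟩
    · intro x hx
      rw [Finset.mem_filter] at hx
      rw [mem_elts]
      have := hx.2
      rw [← hg, mem_smul_sylow_iff] at this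
      exact this
    · intro x _
      group
    · intro x _
      group
    · intro x _
      exact (lam_conj p g x).symm
  have hprod : ∏ x ∈ U, (lam p x) ^ (lam p x) = Λ ^ n := by
    have h1 : ∀ x ∈ U, (lam p x) ^ (lam p x)
        = ∏ _Q ∈ S.filter (fun Q : Sylow p G => x ∈ (Q : Subgroup G)), lam p x := by
      intro x _
      rw [Finset.prod_const, ← hlam x]
    rw [Finset.prod_congr rfl h1]
    rw [Finset.prod_comm' (t' := S) (s' := fun Q => U.filter (fun x => x ∈ (Q : Subgroup G)))]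
    · rw [Finset.prod_congr rfl (fun Q _ => hprodQ Q), Finset.prod_const, hS, Finset.card_univ,
        ← Nat.card_eq_fintype_card]
    · intro x Q
      simp only [Finset.mem_filter, hS, Finset.mem_univ, true_and]
      tauto
  have hamgm := amgm_nat U (lam p) hpos
  rw [hsum, hprod] at hamgm
  -- arithmetic
  rw [hUcard]
  set u := U.card with hu
  have hnpos : 0 < n := Nat.card_pos
  have hapos : 0 < a := Nat.card_pos
  have hWpos : n * a ≠ 0 := (Nat.mul_pos hnpos hapos).ne'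
  -- hamgm : (n*a)^(n*a) ≤ u^(n*a) * Λ^n ; h : Λ^p ≤ n^a
  have h1 : ((n * a) ^ p) ^ (n * a) ≤ (u ^ p * n) ^ (n * a) := by
    calc ((n * a) ^ p) ^ (n * a) = ((n * a) ^ (n * a)) ^ p := by ring
      _ ≤ (u ^ (n * a) * Λ ^ n) ^ p := Nat.pow_le_pow_left hamgm p
      _ = (u ^ p) ^ (n * a) * (Λ ^ p) ^ n := by ring
      _ ≤ (u ^ p) ^ (n * a) * (n ^ a) ^ n := Nat.mul_le_mul_left _ (Nat.pow_le_pow_left h n)
      _ = (u ^ p * n) ^ (n * a) := by ring
  have h2 : (n * a) ^ p ≤ u ^ p * n := (Nat.pow_le_pow_iff_left hWpos).mp h1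
  have hp1 : p = (p - 1) + 1 := by have := hp.one_lt; omega
  have h3 : a ^ p * n ^ (p - 1) * n ≤ u ^ p * n := by
    calc a ^ p * n ^ (p - 1) * n = (n * a) ^ p := by
          rw [mul_pow, mul_assoc, ← pow_succ, ← hp1, mul_comm]
      _ ≤ u ^ p * n := h2
  exact Nat.le_of_mul_le_mul_right h3 hnpos

end Cfsg.Agent.Lib.Helper68_Gheri
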