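import Mathlib
import Cfsg.Agent.Lib.Helper47_Casolo
import Cfsg.Agent.Lib.Helper68_FixedPointIneq
import Cfsg.Agent.Lib.Helper68_Gheri

set_option autoImplicit false

/-!
# The factor inequality for a `p'`-section (helper68)
-/

namespace Cfsg.Agent.Lib.Helper68_GheriFac

open Cfsg.Agent.Lib.Helper68_Casolo
open Cfsg.Agent.Lib.Helper47_Casolo
open Cfsg.Agent.Lib.Helper68_FixedPointIneq

universe u

variable {G : Type u} [Group G]

/-- the factor for the section `B/1` is the order of the centralizer -/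
theorem fac_bot [Finite G] (p : ℕ) (H B : Subgroup G) (hcop : (Nat.card B).Coprime p) :
    fac p H ⊥ B = Nat.card ↥(B ⊓ Subgroup.centralizer (H : Set G)) := by
  unfold fac
  rw [Subgroup.relIndex_bot_left, if_pos hcop, Subgroup.card_bot, Nat.div_one]
  apply Nat.card_congr
  apply Equiv.subtypeEquivRight
  intro u
  rw [Subgroup.mem_inf, Subgroup.mem_centralizer_iff]
  constructor
  · rintro ⟨h1, h2⟩
    refine ⟨h1, fun h hh => ?_⟩
    have := h2 h hh
    rw [Subgroup.mem_bot] at this
    have h3 : h * u = u * h := by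
      calc h * u = (h * u * h⁻¹ * u⁻¹) * (u * h) := by group
        _ = u * h := by rw [this, one_mul]
    exact h3
  · rintro ⟨h1, h2⟩
    refine ⟨h1, fun h hh => ?_⟩
    rw [Subgroup.mem_bot, h2 h hh]
    group


/-- the factor inequality for a `p'`-section `B/A` -/
theorem fac_ineq [Finite G] (p : ℕ) [Fact p.Prime] (A B : Subgroup G) [hA : A.Normal]
    [hB : B.Normal] (hAB : A ≤ B) (hcop : (A.relIndex B).Coprime p) (P : Subgroup G)
    (hP : IsPGroup p P) :
    (∏ x ∈ elts P, fac p (Subgroup.zpowers x) A B) ^ p ≤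
      (A.relIndex B) ^ Nat.card P * (fac p P A B) ^ (Nat.card P * (p - 1)) := by
  classical
  have hp : p.Prime := Fact.out
  set f : G →* G ⧸ A := QuotientGroup.mk' A with hf_def
  have hf : Function.Surjective f := QuotientGroup.mk'_surjective A
  have hker : f.ker = A := QuotientGroup.ker_mk' A
  set Bb : Subgroup (G ⧸ A) := B.map f with hBb
  set Pb : Subgroup (G ⧸ A) := P.map f with hPb
  have hrel : Nat.card Bb = A.relIndex B := by
    rw [hBb, ← Subgroup.relIndex_ker, hker]
  have hcopB : (Nat.card Bb).Coprime p := by rw [hrel]; exact hcop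
  have hfacH : ∀ H : Subgroup G,
      fac p H A B = Nat.card ↥(Bb ⊓ Subgroup.centralizer ((H.map f : Subgroup (G ⧸ A)) : Set (G ⧸ A))) := by
    intro H
    rw [← fac_map p f hf H (le_of_eq hker) ((le_of_eq hker).trans hAB), QuotientGroup.map_mk'_self,
      fac_bot p _ _ hcopB]
  have hfacx : ∀ x : G, fac p (Subgroup.zpowers x) A B
      = Nat.card ↥(Bb ⊓ Subgroup.centralizer ({f x} : Set (G ⧸ A))) := by
    intro x
    rw [hfacH, MonoidHom.map_zpowers, Cfsg.Agent.Lib.Helper38_BrauerWielandt.centralizer_zpowers]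
  rw [Finset.prod_congr rfl (fun x _ => hfacx x), hfacH P]
  -- fibres
  set m := Nat.card (f.subgroupMap P).ker with hm
  have hsurj := f.subgroupMap_surjective P
  have hPm : Nat.card P = Nat.card Pb * m :=
    card_eq_mul_of_fiber (f.subgroupMap P) m (fun b => card_fiber_eq_card_ker _ hsurj b)
  have himage : (elts P).image f = elts Pb := by
    ext y
    simp only [Finset.mem_image, mem_elts, hPb, Subgroup.mem_map]
  have hfib : ∀ y ∈ elts Pb, ((elts P).filter (fun x => f x = y)).card = m := by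
    intro y hy
    rw [mem_elts] at hy
    rw [hm, ← card_fiber_eq_card_ker (f.subgroupMap P) hsurj ⟨y, hy⟩,
      ← Fintype.card_coe, ← Nat.card_eq_fintype_card]
    apply Nat.card_congr
    refine ⟨fun x => ⟨⟨x.1, ?_⟩, ?_⟩, fun g => ⟨g.1.1, ?_⟩, ?_, ?_⟩
    · have := x.2
      rw [Finset.mem_filter, mem_elts] at this
      exact this.1
    · have := x.2
      rw [Finset.mem_filter, mem_elts] at this
      exact Subtype.ext this.2
    · rw [Finset.mem_filter, mem_elts]
      exact ⟨g.1.2, congrArg Subtype.val g.2⟩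
    · intro x; rfl
    · intro g; rfl
  rw [Finset.prod_comp (fun y => Nat.card ↥(Bb ⊓ Subgroup.centralizer ({y} : Set (G ⧸ A)))) f,
    himage, Finset.prod_congr rfl (fun y hy => by rw [hfib y hy]), Finset.prod_pow]
  -- fixed point inequality in the quotient
  have hPbp : IsPGroup p Pb := hP.map f
  have hBbn : Bb.Normal := hB.map f hf
  have hPbN : Pb ≤ Subgroup.normalizer (Bb : Set (G ⧸ A)) := by
    rw [Subgroup.normalizer_eq_top]
    exact le_top
  have hcopB' : ¬ p ∣ Nat.card Bb := fun h => by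
    have := Nat.Coprime.eq_one_of_dvd hcopB.symm h
    exact hp.one_lt.ne' this
  have key := fixed_point_ineq (p := p) (Nat.card Bb) Bb Pb rfl hcopB' hPbp hPbN
  rw [hrel] at key
  calc ((∏ y ∈ elts Pb, Nat.card ↥(Bb ⊓ Subgroup.centralizer ({y} : Set (G ⧸ A)))) ^ m) ^ p
      = ((∏ y ∈ elts Pb, Nat.card ↥(Bb ⊓ Subgroup.centralizer ({y} : Set (G ⧸ A)))) ^ p) ^ m := by
        rw [← pow_mul, ← pow_mul, mul_comm]
    _ ≤ ((A.relIndex B) ^ Nat.card Pb *
          Nat.card ↥(Bb ⊓ Subgroup.centralizer (Pb : Set (G ⧸ A))) ^ (Nat.card Pb * (p - 1))) ^ m :=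
        Nat.pow_le_pow_left key m
    _ = (A.relIndex B) ^ Nat.card P *
          Nat.card ↥(Bb ⊓ Subgroup.centralizer (Pb : Set (G ⧸ A))) ^ (Nat.card P * (p - 1)) := by
        rw [hPm, mul_pow, ← pow_mul, ← pow_mul]
        ring_nf

end Cfsg.Agent.Lib.Helper68_GheriFac
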