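import Mathlib
import Cfsg.Agent.Lib.Helper4_HTDefs
import Cfsg.Prelude.Def_CaseTheorems

/-!
# S3371 package CYCQ (architect helper4, formalizer helper68)

Abelian and generalized quaternion groups are excluded when the common stabilizer order is not `1`.
-/

set_option autoImplicit false
set_option linter.unusedSectionVars false

namespace Cfsg.Agent.Lib.Helper68_HT_CYCQ

open Cfsg.Agent.Lib.Helper4_HTDefs

variable {q : ℕ} [Fact q.Prime] {V : Type*} [AddCommGroup V] [Module (ZMod q) V] [Finite V]
  {G : Type*} [Group G] [Finite G]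

theorem comm_false [Nontrivial V] (ρ : G →* (V ≃ₗ[ZMod q] V)) (s : ℕ) (hs : HalfT ρ s) (hs1 : s ≠ 1)
    (hcent : ∀ v : V, v ≠ 0 → ∀ g ∈ Subgroup.center G, ρ g v = v → g = 1)
    (hc : ∀ a b : G, a * b = b * a) : False := by
  obtain ⟨v, hv⟩ := exists_ne (0 : V)
  have hbot : stab ρ v = ⊥ := by
    rw [eq_bot_iff]
    intro g hg
    rw [Subgroup.mem_bot]
    refine hcent v hv g ?_ hg
    rw [Subgroup.mem_center_iff]
    intro h
    exact hc h g
  have h1 := hs v hv
  rw [hbot, Subgroup.card_bot] at h1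
  exact hs1 h1.symm

/-- an element of `QuaternionGroup n` (`n ≠ 0`) of order dividing 2 is `1` or the central `a n` -/
theorem quat_sq_eq_one {n : ℕ} (hn : n ≠ 0) (x : QuaternionGroup n) (hx : x * x = 1) (hx1 : x ≠ 1) :
    x = QuaternionGroup.a (n : ZMod (2 * n)) := by
  have hnz : ((n : ℕ) : ZMod (2 * n)) ≠ 0 := by
    intro h
    rw [ZMod.natCast_eq_zero_iff] at h
    have := Nat.le_of_dvd (Nat.pos_of_ne_zero hn) h
    omega
  rcases x with i | i
  · rw [QuaternionGroup.a_mul_a, QuaternionGroup.one_def] at hx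
    have h2 : i + i = 0 := by
      injection hx
    -- `i = 0` or `i = n`
    have hi0 : i ≠ 0 := by
      intro h
      apply hx1
      rw [h, QuaternionGroup.one_def]
    congr 1
    have : NeZero (2 * n) := ⟨by omega⟩
    have hval : (2 * n) ∣ 2 * i.val := by
      have h3 : ((2 * i.val : ℕ) : ZMod (2 * n)) = 0 := by
        have h4 : ((2 * i.val : ℕ) : ZMod (2 * n)) = i + i := by
          rw [Nat.cast_mul, ZMod.natCast_zmod_val, Nat.cast_ofNat]
          exact two_mul i
        rw [h4]
        exact h2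
      exact (ZMod.natCast_eq_zero_iff _ _).1 h3
    have hlt : i.val < 2 * n := ZMod.val_lt i
    have hpos : 0 < i.val := by
      rcases Nat.eq_zero_or_pos i.val with h | h
      · exact absurd ((ZMod.val_eq_zero i).1 h) hi0
      · exact h
    have hiv : i.val = n := by
      obtain ⟨k, hk⟩ := hval
      have : k = 1 := by
        rcases k with _ | _ | k
        · omega
        · rfl
        · nlinarith
      subst this
      omega
    calc i = ((i.val : ℕ) : ZMod (2 * n)) := (ZMod.natCast_zmod_val i).symm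
      _ = ((n : ℕ) : ZMod (2 * n)) := congrArg (Nat.cast) hiv
  · exfalso
    rw [QuaternionGroup.xa_mul_xa, QuaternionGroup.one_def] at hx
    have h2 : (n : ZMod (2 * n)) + i - i = 0 := by
      injection hx
    rw [add_sub_cancel_right] at h2
    exact hnz h2

theorem quat_an_central {n : ℕ} (y : QuaternionGroup n) :
    y * QuaternionGroup.a (n : ZMod (2 * n)) = QuaternionGroup.a (n : ZMod (2 * n)) * y := by
  have h2n : ((n : ℕ) : ZMod (2 * n)) + n = 0 := by
    have : ((2 * n : ℕ) : ZMod (2 * n)) = 0 := ZMod.natCast_self _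
    rw [Nat.cast_mul, Nat.cast_ofNat] at this
    calc ((n : ℕ) : ZMod (2 * n)) + n = 2 * (n : ZMod (2 * n)) := (two_mul _).symm
      _ = 0 := this
  rcases y with j | j
  · rw [QuaternionGroup.a_mul_a, QuaternionGroup.a_mul_a, add_comm]
  · rw [QuaternionGroup.xa_mul_a, QuaternionGroup.a_mul_xa]
    congr 1
    have : (n : ZMod (2 * n)) = -n := eq_neg_of_add_eq_zero_left h2n
    rw [sub_eq_add_neg, ← this]

theorem quat_false [Nontrivial V] (p : ℕ) [Fact p.Prime] (hG : IsPGroup p G)
    (ρ : G →* (V ≃ₗ[ZMod q] V)) (s : ℕ)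
    (hs : HalfT ρ s) (hs1 : s ≠ 1)
    (hcent : ∀ v : V, v ≠ 0 → ∀ g ∈ Subgroup.center G, ρ g v = v → g = 1)
    (n : ℕ) (e : G ≃* QuaternionGroup n) : False := by
  have hp : p.Prime := Fact.out
  -- `n ≠ 0`
  have hn : n ≠ 0 := by
    intro h
    subst h
    have : Infinite (QuaternionGroup 0) := by
      have hinj : Function.Injective (fun k : ℤ => (QuaternionGroup.a (k : ZMod (2 * 0)) : QuaternionGroup 0)) := by
        intro a b hab
        simp only at hab
        injection hab with h1
      exact Infinite.of_injective _ hinj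
    have hfin : Finite (QuaternionGroup 0) := Finite.of_equiv G e.toEquiv
    exact not_finite (QuaternionGroup 0)
  -- `p = 2`
  have hcard : Nat.card G = 4 * n := by
    have : NeZero n := ⟨hn⟩
    rw [Nat.card_congr e.toEquiv, Nat.card_eq_fintype_card, QuaternionGroup.card]
  have hp2 : p = 2 := by
    obtain ⟨k, hk⟩ := IsPGroup.iff_card.1 hG
    have h2 : 2 ∣ p ^ k := by
      rw [← hk, hcard]
      exact ⟨2 * n, by ring⟩
    exact ((Nat.prime_dvd_prime_iff_eq Nat.prime_two hp).1
      (Nat.Prime.dvd_of_dvd_pow Nat.prime_two h2)).symm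
  -- a nontrivial stabilizer
  obtain ⟨v, hv⟩ := exists_ne (0 : V)
  have hne : stab ρ v ≠ ⊥ := by
    intro h
    have h1 := hs v hv
    rw [h, Subgroup.card_bot] at h1
    exact hs1 h1.symm
  obtain ⟨⟨h, hh⟩, hh0⟩ := (Subgroup.ne_bot_iff_exists_ne_one).1 hne
  have hh1 : h ≠ 1 := fun hx1 => hh0 (Subtype.ext hx1)
  -- an involution in the stabilizer
  obtain ⟨k, hk⟩ := hG h
  have hk' : ∃ k : ℕ, h ^ 2 ^ k = 1 := ⟨k, by rw [← hp2]; exact hk⟩
  classical
  let k0 := Nat.find hk'
  have hk0 : h ^ 2 ^ k0 = 1 := Nat.find_spec hk'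
  have hk0pos : k0 ≠ 0 := by
    intro h0
    rw [h0, pow_zero, pow_one] at hk0
    exact hh1 hk0
  obtain ⟨j, hj⟩ := Nat.exists_eq_succ_of_ne_zero hk0pos
  set t : G := h ^ 2 ^ j with ht
  have ht1 : t ≠ 1 := by
    intro h1
    have := Nat.find_min hk' (m := j) (by omega)
    exact this h1
  have htt : t * t = 1 := by
    rw [ht, ← pow_add, ← two_mul, ← pow_succ', ← Nat.succ_eq_add_one, ← hj]
    exact hk0
  have htS : t ∈ stab ρ v := Subgroup.pow_mem _ hh _
  -- `e t = a n`, central
  have het : e t = QuaternionGroup.a (n : ZMod (2 * n)) := by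
    apply quat_sq_eq_one hn
    · rw [← map_mul, htt, map_one]
    · intro h1
      apply ht1
      rw [← e.map_one] at h1
      exact e.injective h1
  have htc : t ∈ Subgroup.center G := by
    rw [Subgroup.mem_center_iff]
    intro g
    apply e.injective
    rw [map_mul, map_mul, het]
    exact quat_an_central (e g)
  exact ht1 (hcent v hv t htc htS)

end Cfsg.Agent.Lib.Helper68_HT_CYCQ
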