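import Mathlib
import Cfsg.Agent.Lib.Helper50_NatDefs

/-!
# S3009 package BQ2 (architect helper50, formalizer helper68)

The Bruhat argument: `M = V0 ⊕ V0'` together with a non-zero vector `v₁ ∈ V0'` all of whose
images `A s v₁` lie in `V0` force the quadratic action.
-/

set_option autoImplicit false
set_option linter.unusedSimpArgs false

open Matrix Cfsg.Agent.Lib.Helper50_SL2Mat Cfsg.Agent.Lib.Helper50_NatDefs
open scoped MatrixGroups

namespace Cfsg.Agent.Lib.Helper68_Nat_BQ2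

variable {F : Type*} [Field F] {M : Type*} [AddCommGroup M] {ρ : SL(2, F) →* AddMonoid.End M}

/-- the vectors of `V0` all of whose images under the `C s` lie in `V0'` -/
def YY (ρ : SL(2, F) →* AddMonoid.End M) : AddSubgroup M where
  carrier := {y | y ∈ V0 ρ ∧ ∀ s : F, C ρ s y ∈ V0' ρ}
  zero_mem' := ⟨(V0 ρ).zero_mem, fun s => by rw [map_zero]; exact (V0' ρ).zero_mem⟩
  add_mem' := fun {a b} ha hb =>
    ⟨(V0 ρ).add_mem ha.1 hb.1, fun s => by rw [map_add]; exact (V0' ρ).add_mem (ha.2 s) (hb.2 s)⟩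
  neg_mem' := fun {a} ha =>
    ⟨(V0 ρ).neg_mem ha.1, fun s => by rw [map_neg]; exact (V0' ρ).neg_mem (ha.2 s)⟩

theorem mem_YY {y : M} : y ∈ YY ρ ↔ y ∈ V0 ρ ∧ ∀ s : F, C ρ s y ∈ V0' ρ := Iff.rfl

/-- lower triangular decomposition -/
theorem eq_lower {g : SL(2, F)} (h : g 0 1 = 0) (h0 : g 0 0 ≠ 0) :
    g = tL (g 1 0 / g 0 0) * hT (g 0 0) h0 := by
  have hd := det1 g
  rw [h, zero_mul, sub_zero] at hd
  have h11 : g 1 1 = (g 0 0)⁻¹ := eq_inv_of_mul_eq_one_right hd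
  apply ext4
  · simp [hT, mul00, mul01, mul10, mul11]
  · simp [hT, mul00, mul01, mul10, mul11, h]
  · simp [hT, mul00, mul01, mul10, mul11]; field_simp
  · simp [hT, mul00, mul01, mul10, mul11, h11]

/-- Bruhat big cell decomposition -/
theorem eq_big {g : SL(2, F)} (hb : g 0 1 ≠ 0) :
    g = tL (g 1 1 / g 0 1) * nW * hT (g 0 1)⁻¹ (inv_ne_zero hb) * tL (g 0 0 / g 0 1) := by
  have hd := det1 g
  apply ext4
  · simp [hT, nW, mul00, mul01, mul10, mul11]; field_simp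
  · simp [hT, nW, mul00, mul01, mul10, mul11]
  · simp [hT, nW, mul00, mul01, mul10, mul11]; field_simp; linear_combination (-1 : F) * hd
  · simp [hT, nW, mul00, mul01, mul10, mul11]; field_simp

theorem quad_of_decomp (hirr : Irr ρ)
    (hcap : ∀ m, m ∈ V0 ρ → m ∈ V0' ρ → m = 0)
    (hsup : ∀ m : M, ∃ v ∈ V0 ρ, ∃ v' ∈ V0' ρ, m = v + v')
    {v₁ : M} (hv₁ : v₁ ∈ V0' ρ) (hne : v₁ ≠ 0) (hA : ∀ s : F, A ρ s v₁ ∈ V0 ρ) : Quad ρ := by
  -- the claim
  have claim : ∀ g : SL(2, F), ρ g v₁ ∈ YY ρ ⊔ V0' ρ := by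
    intro g
    by_cases hb : g 0 1 = 0
    · have h0 : g 0 0 ≠ 0 := by
        intro h0
        have hd := det1 g
        rw [hb, h0] at hd
        simp at hd
      rw [eq_lower hb h0, Helper50_NatDefs.mul_apply' ρ]
      have h2 : ρ (hT (g 0 0) h0) v₁ ∈ V0' ρ := hT_V0' ρ _ h0 hv₁
      rw [h2 _]
      exact AddSubgroup.mem_sup_right h2
    · rw [eq_big hb, Helper50_NatDefs.mul_apply' ρ, Helper50_NatDefs.mul_apply' ρ, Helper50_NatDefs.mul_apply' ρ, hv₁ _]
      set e : F := (g 0 1)⁻¹ with he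
      have he0 : e ≠ 0 := inv_ne_zero hb
      set v₂ : M := ρ (hT e he0) v₁ with hv₂
      have hv₂' : v₂ ∈ V0' ρ := hT_V0' ρ _ he0 hv₁
      have hAv₂ : ∀ s : F, A ρ s v₂ ∈ V0 ρ := by
        intro s
        have hcomm : tU s * hT e he0 = hT e he0 * tU (e⁻¹ * e⁻¹ * s) := by
          have h1 := hT_conj_tU e he0 (e⁻¹ * e⁻¹ * s)
          have e1 : e * e * (e⁻¹ * e⁻¹ * s) = s := by field_simp
          rw [e1] at h1
          rw [← h1]; group
        have : A ρ s v₂ = ρ (hT e he0) (A ρ (e⁻¹ * e⁻¹ * s) v₁) := by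
          rw [A_apply, A_apply, hv₂, ← Helper50_NatDefs.mul_apply' ρ, hcomm, Helper50_NatDefs.mul_apply' ρ, map_sub]
        rw [this]
        exact hT_V0 ρ _ he0 (hA _)
      set y : M := ρ nW v₂ with hy
      have hyV0 : y ∈ V0 ρ := nW_V0' ρ hv₂'
      have hyY : y ∈ YY ρ := by
        refine ⟨hyV0, fun s => ?_⟩
        rw [C_eq_conj, hy, inv_apply_apply]
        exact nW_V0 ρ (hAv₂ _)
      rw [tL_apply]
      exact add_mem (AddSubgroup.mem_sup_left hyY)
        (AddSubgroup.mem_sup_right (hyY.2 _))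
  -- the additive closure of the orbit
  let K : AddSubgroup M := AddSubgroup.closure (Set.range fun g : SL(2, F) => ρ g v₁)
  have hKinv : ∀ g : SL(2, F), ∀ m ∈ K, ρ g m ∈ K := by
    intro g m hm
    induction hm using AddSubgroup.closure_induction with
    | mem x hx =>
      obtain ⟨h, rfl⟩ := hx
      apply AddSubgroup.subset_closure
      exact ⟨g * h, Helper50_NatDefs.mul_apply' ρ g h v₁⟩
    | zero => rw [map_zero]; exact K.zero_mem
    | add x y _ _ hx hy => rw [map_add]; exact K.add_mem hx hy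
    | neg x _ hx => rw [map_neg]; exact K.neg_mem hx
  have hv₁K : v₁ ∈ K := AddSubgroup.subset_closure ⟨1, one_apply' ρ v₁⟩
  have hKtop : K = ⊤ := by
    rcases hirr K hKinv with h | h
    · exfalso
      rw [h, AddSubgroup.mem_bot] at hv₁K
      exact hne hv₁K
    · exact h
  have hKle : K ≤ YY ρ ⊔ V0' ρ := by
    rw [AddSubgroup.closure_le]
    rintro _ ⟨g, rfl⟩
    exact claim g
  have htop : ∀ m : M, m ∈ YY ρ ⊔ V0' ρ := fun m => hKle (hKtop ▸ AddSubgroup.mem_top m)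
  -- `V0 = Y`
  have hV0Y : ∀ x ∈ V0 ρ, ∀ s : F, C ρ s x ∈ V0' ρ := by
    intro x hx
    obtain ⟨y, hy, v', hv', hxy⟩ := AddSubgroup.mem_sup.1 (htop x)
    have hv'0 : v' = 0 := by
      apply hcap v' _ hv'
      have : v' = x - y := by rw [← hxy]; abel
      rw [this]
      exact (V0 ρ).sub_mem hx hy.1
    rw [hv'0, add_zero] at hxy
    rw [← hxy]
    exact hy.2
  apply quad_of_C
  intro s t m
  obtain ⟨v, hv, v', hv', rfl⟩ := hsup m
  rw [map_add, C_of_mem_V0' ρ hv' t, add_zero]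
  exact C_of_mem_V0' ρ (hV0Y v hv t) s

end Cfsg.Agent.Lib.Helper68_Nat_BQ2
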