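import Mathlib
import Cfsg.Agent.Lib.Helper50_NatDefs
import Cfsg.Prelude.Def_BaumannBlocks

/-!
# S3009 package GLUE (architect helper50, formalizer helper68)

The statement of S3009 from the abstract theorem on `ρ : SL(2, F) →* AddMonoid.End M`:
`M = Additive V`, `ρ g` = conjugation by the preimage of `g` in `G`.
-/

set_option autoImplicit false
set_option linter.unusedSectionVars false
set_option linter.unusedVariables false

open Matrix Cfsg.Agent.Lib.Helper50_SL2Mat Cfsg.Agent.Lib.Helper50_NatDefs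
open scoped MatrixGroups
open scoped IsMulCommutative
open scoped commutatorElement

namespace Cfsg.Agent.Lib.Helper68_Nat_GLUE

universe u

section Conj

variable {X : Type u} [Group X] {G V : Subgroup X}

/-- conjugation by an element of `G ≤ N(V)` as an endomorphism of `V` -/
def cj (hGV : G ≤ Subgroup.normalizer (V : Set X)) (x : ↥G) : ↥V →* ↥V where
  toFun v := ⟨(x : X) * v * (x : X)⁻¹, (Subgroup.mem_normalizer_iff.1 (hGV x.2) v).1 v.2⟩
  map_one' := by ext; simp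
  map_mul' a b := by ext; simp

@[simp] theorem cj_coe (hGV : G ≤ Subgroup.normalizer (V : Set X)) (x : ↥G) (v : ↥V) :
    ((cj hGV x v : ↥V) : X) = (x : X) * v * (x : X)⁻¹ := rfl

theorem cj_one (hGV : G ≤ Subgroup.normalizer (V : Set X)) : cj hGV 1 = MonoidHom.id ↥V := by
  ext v; simp

theorem cj_mul (hGV : G ≤ Subgroup.normalizer (V : Set X)) (x y : ↥G) :
    cj hGV (x * y) = (cj hGV x).comp (cj hGV y) := by
  ext v; simp [mul_assoc]

variable [IsMulCommutative ↥V] {F : Type*} [Field F]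

/-- the action of `SL(2, F)` on `Additive V` through an isomorphism `G ≃* SL(2, F)` -/
def rho (hGV : G ≤ Subgroup.normalizer (V : Set X)) (e : ↥G ≃* SL(2, F)) :
    SL(2, F) →* AddMonoid.End (Additive ↥V) where
  toFun g := MonoidHom.toAdditive (cj hGV (e.symm g))
  map_one' := by
    rw [map_one, cj_one]; rfl
  map_mul' a b := by
    rw [map_mul, cj_mul]; rfl

theorem rho_apply (hGV : G ≤ Subgroup.normalizer (V : Set X)) (e : ↥G ≃* SL(2, F))
    (g : SL(2, F)) (m : Additive ↥V) :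
    rho hGV e g m = Additive.ofMul (cj hGV (e.symm g) m.toMul) := rfl

theorem rho_coe (hGV : G ≤ Subgroup.normalizer (V : Set X)) (e : ↥G ≃* SL(2, F))
    (g : SL(2, F)) (m : Additive ↥V) :
    (((rho hGV e g m).toMul : ↥V) : X) =
      ((e.symm g : ↥G) : X) * ((m.toMul : ↥V) : X) * ((e.symm g : ↥G) : X)⁻¹ := rfl

theorem rho_coe' (hGV : G ≤ Subgroup.normalizer (V : Set X)) (e : ↥G ≃* SL(2, F))
    (x : ↥G) (m : Additive ↥V) :
    (((rho hGV e (e x) m).toMul : ↥V) : X) =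
      (x : X) * ((m.toMul : ↥V) : X) * (x : X)⁻¹ := by
  rw [rho_coe, e.symm_apply_apply]

theorem A_coe (hGV : G ≤ Subgroup.normalizer (V : Set X)) (e : ↥G ≃* SL(2, F))
    (t : F) (m : Additive ↥V) :
    (((A (rho hGV e) t m).toMul : ↥V) : X) =
      ⁅((e.symm (tU t) : ↥G) : X), ((m.toMul : ↥V) : X)⁆ := by
  rw [A_apply, toMul_sub, Subgroup.coe_div, rho_coe, commutatorElement_def, div_eq_mul_inv]

theorem eq_zero_of_coe {m : Additive ↥V} (h : ((m.toMul : ↥V) : X) = 1) : m = 0 := by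
  have : (m.toMul : ↥V) = 1 := Subtype.ext h
  exact Additive.toMul.injective this

/-- irreducibility -/
theorem irr_rho (hGV : G ≤ Subgroup.normalizer (V : Set X)) (e : ↥G ≃* SL(2, F))
    (hirr : ∀ U : Subgroup X, U ≤ V → G ≤ Subgroup.normalizer (U : Set X) → U = ⊥ ∨ U = V) :
    Irr (rho hGV e) := by
  intro N hN
  set U : Subgroup X := (AddSubgroup.toSubgroup' N).map V.subtype with hU
  have hmemU : ∀ x : X, x ∈ U ↔ ∃ v : ↥V, Additive.ofMul v ∈ N ∧ (v : X) = x := by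
    intro x
    rw [hU, Subgroup.mem_map]
    exact Iff.rfl
  have hUV : U ≤ V := Subgroup.map_subtype_le _
  have key : ∀ x ∈ G, ∀ h ∈ U, x * h * x⁻¹ ∈ U := by
    intro x hx h hh
    obtain ⟨v, hv, rfl⟩ := (hmemU h).1 hh
    refine (hmemU _).2 ⟨(rho hGV e (e ⟨x, hx⟩) (Additive.ofMul v)).toMul, ?_, ?_⟩
    · exact hN _ _ hv
    · rw [rho_coe']; rfl
  have hnorm : G ≤ Subgroup.normalizer (U : Set X) := by
    intro x hx
    rw [Subgroup.mem_normalizer_iff]
    intro h
    refine ⟨key x hx h, fun hh => ?_⟩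
    have := key x⁻¹ (G.inv_mem hx) _ hh
    simpa [mul_assoc] using this
  rcases hirr U hUV hnorm with h | h
  · left
    rw [eq_bot_iff]
    intro m hm
    rw [AddSubgroup.mem_bot]
    apply eq_zero_of_coe
    have : ((m.toMul : ↥V) : X) ∈ U := (hmemU _).2 ⟨m.toMul, hm, rfl⟩
    rw [h, Subgroup.mem_bot] at this
    exact this
  · right
    rw [eq_top_iff]
    intro m _
    have : ((m.toMul : ↥V) : X) ∈ U := by rw [h]; exact (m.toMul : ↥V).2
    obtain ⟨v, hv, hvm⟩ := (hmemU _).1 this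
    have : v = m.toMul := Subtype.ext hvm
    rw [this] at hv
    exact hv

/-- non-triviality -/
theorem nonTriv_rho (hGV : G ≤ Subgroup.normalizer (V : Set X)) (e : ↥G ≃* SL(2, F))
    (hnt : ⁅V, G⁆ ≠ ⊥) : NonTriv (rho hGV e) := by
  by_contra hcon
  apply hnt
  rw [Subgroup.commutator_eq_bot_iff_le_centralizer]
  intro v hv
  rw [Subgroup.mem_centralizer_iff]
  intro g hg
  have h1 : rho hGV e (e ⟨g, hg⟩) (Additive.ofMul ⟨v, hv⟩) = Additive.ofMul ⟨v, hv⟩ := by
    by_contra h2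
    exact hcon ⟨_, _, h2⟩
  have h2 := congrArg (fun m : Additive ↥V => ((m.toMul : ↥V) : X)) h1
  simp only [rho_coe'] at h2
  have h3 : g * v * g⁻¹ = v := h2
  calc g * v = g * v * g⁻¹ * g := by group
    _ = v * g := by rw [h3]

/-- quadratic action -/
theorem quad_rho (hGV : G ≤ Subgroup.normalizer (V : Set X)) (e : ↥G ≃* SL(2, F))
    (S : Subgroup ↥G) (hS : ∀ s : F, e.symm (tU s) ∈ S)
    (h : ⁅⁅V, S.map G.subtype⁆, S.map G.subtype⁆ = ⊥) : Quad (rho hGV e) := by
  intro s t m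
  apply eq_zero_of_coe
  rw [A_coe, A_coe]
  have hmem : ∀ r : F, ((e.symm (tU r) : ↥G) : X) ∈ S.map G.subtype :=
    fun r => Subgroup.mem_map.2 ⟨_, hS r, rfl⟩
  have h1 : ⁅((e.symm (tU t) : ↥G) : X), ((m.toMul : ↥V) : X)⁆ ∈ ⁅V, S.map G.subtype⁆ := by
    rw [Subgroup.commutator_comm]
    exact Subgroup.commutator_mem_commutator (hmem t) (m.toMul : ↥V).2
  have h2 : ⁅((e.symm (tU s) : ↥G) : X), ⁅((e.symm (tU t) : ↥G) : X), ((m.toMul : ↥V) : X)⁆⁆ ∈
      ⁅⁅V, S.map G.subtype⁆, S.map G.subtype⁆ := by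
    rw [Subgroup.commutator_comm]
    exact Subgroup.commutator_mem_commutator (hmem s) h1
  rw [h, Subgroup.mem_bot] at h2
  exact h2

/-- the centralizer of `S` in `V` injects into `V0` -/
theorem card_cent_le (hGV : G ≤ Subgroup.normalizer (V : Set X)) (e : ↥G ≃* SL(2, F))
    (S : Subgroup ↥G) (hS : ∀ s : F, e.symm (tU s) ∈ S) [Finite X] :
    Nat.card ↥(V ⊓ Subgroup.centralizer ((S.map G.subtype : Subgroup X) : Set X)) ≤
      Nat.card (V0 (rho hGV e)) := by
  have hmem : ∀ x : ↥(V ⊓ Subgroup.centralizer ((S.map G.subtype : Subgroup X) : Set X)),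
      Additive.ofMul (⟨x.1, x.2.1⟩ : ↥V) ∈ V0 (rho hGV e) := by
    intro x s
    apply Additive.toMul.injective
    apply Subtype.ext
    rw [rho_coe]
    have hc : (x : X) ∈ Subgroup.centralizer ((S.map G.subtype : Subgroup X) : Set X) := x.2.2
    rw [Subgroup.mem_centralizer_iff] at hc
    have h1 : ((e.symm (tU s) : ↥G) : X) ∈ ((S.map G.subtype : Subgroup X) : Set X) :=
      Subgroup.mem_map.2 ⟨_, hS s, rfl⟩
    have h2 := hc _ h1
    change ((e.symm (tU s) : ↥G) : X) * (x : X) * ((e.symm (tU s) : ↥G) : X)⁻¹ = (x : X)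
    rw [h2]; group
  refine Nat.card_le_card_of_injective
    (fun x => (⟨Additive.ofMul (⟨x.1, x.2.1⟩ : ↥V), hmem x⟩ : V0 (rho hGV e))) ?_
  intro x y hxy
  have h1 := congrArg (fun m : V0 (rho hGV e) => (((m : Additive ↥V).toMul : ↥V) : X)) hxy
  exact Subtype.ext h1

end Conj

theorem glue {X : Type u} [Group X] [Finite X] {p : ℕ} [Fact p.Prime] (G V : Subgroup X)
    (hV : Cfsg.IsElementaryAbelian p V) (hGV : G ≤ Subgroup.normalizer (V : Set X)) (F : Type)
    [Field F] [Fintype F] (n : ℕ) (hF : Fintype.card F = p ^ n)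
    (hG : Nonempty (↥G ≃* Matrix.SpecialLinearGroup (Fin 2) F))
    (hirr : ∀ U : Subgroup X, U ≤ V → G ≤ Subgroup.normalizer (U : Set X) → U = ⊥ ∨ U = V)
    (hnt : ⁅V, G⁆ ≠ ⊥) (S : Sylow p ↥G)
    (hyp : ⁅⁅V, (S : Subgroup ↥G).map G.subtype⁆, (S : Subgroup ↥G).map G.subtype⁆ = ⊥ ∨
      Nat.card ↥V ≤ Nat.card ↥(V ⊓ Subgroup.centralizer
        (((S : Subgroup ↥G).map G.subtype : Subgroup X) : Set X)) ^ 2)
    (hsyl : CharP F p → ∀ e : ↥G ≃* SL(2, F),
      ∃ e' : ↥G ≃* SL(2, F), ∀ x : ↥G, x ∈ S ↔ ∃ s : F, e' x = tU s)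
    (habs : CharP F p → ∀ (M : Type u) [AddCommGroup M] [Finite M]
      (ρ : SL(2, F) →* AddMonoid.End M), (∃ k : ℕ, Nat.card M = p ^ k) →
      Irr ρ → NonTriv ρ → (Quad ρ ∨ Nat.card M ≤ Nat.card (V0 ρ) ^ 2) →
      ∃ ψ : M ≃+ (Fin 2 → F), ∀ (g : SL(2, F)) (m : M),
        ψ (ρ g m) = (g : Matrix (Fin 2) (Fin 2) F).mulVec (ψ m)) :
    Cfsg.ActsAsSL2OnSection F ⊤ G V ⊥ := by
  have hchar : CharP F p := charP_of_card_eq_prime_pow hF
  obtain ⟨e0⟩ := hG
  obtain ⟨e, he⟩ := hsyl hchar e0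
  have : IsMulCommutative ↥V := hV.1
  have hS : ∀ s : F, e.symm (tU s) ∈ (S : Subgroup ↥G) := fun s =>
    (he _).2 ⟨s, e.apply_symm_apply _⟩
  -- the cardinality of `M`
  have hcard : ∃ k : ℕ, Nat.card (Additive ↥V) = p ^ k := by
    have hp : IsPGroup p ↥V := by
      intro v
      refine ⟨1, ?_⟩
      apply Subtype.ext
      rw [pow_one, Subgroup.coe_pow, Subgroup.coe_one]
      exact hV.2 v.1 v.2
    obtain ⟨k, hk⟩ := IsPGroup.iff_card.1 hp
    exact ⟨k, by rw [← hk]; exact Nat.card_congr Additive.toMul⟩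
  have hquad : Quad (rho hGV e) ∨
      Nat.card (Additive ↥V) ≤ Nat.card (V0 (rho hGV e)) ^ 2 := by
    rcases hyp with h | h
    · exact Or.inl (quad_rho hGV e S hS h)
    · right
      calc Nat.card (Additive ↥V) = Nat.card ↥V := Nat.card_congr Additive.toMul
        _ ≤ _ := h
        _ ≤ _ := Nat.pow_le_pow_left (card_cent_le hGV e S hS) 2
  obtain ⟨ψ, hψ⟩ := habs hchar (Additive ↥V) (rho hGV e) hcard (irr_rho hGV e hirr)
    (nonTriv_rho hGV e hnt) hquad
  refine ⟨hGV, bot_le, e.toMonoidHom, AddMonoidHom.toMultiplicativeRight ψ.toAddMonoidHom,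
    MonoidHom.range_eq_top.2 e.surjective, ?_, ?_, ?_⟩
  · intro y
    obtain ⟨m, hm⟩ := ψ.surjective (Multiplicative.toAdd y)
    refine ⟨m.toMul, ?_⟩
    change Multiplicative.ofAdd (ψ m) = y
    rw [hm]; rfl
  · intro u
    rw [Subgroup.mem_bot]
    constructor
    · intro h
      have h1 : ψ (Additive.ofMul u) = 0 := by
        have : Multiplicative.ofAdd (ψ (Additive.ofMul u)) = 1 := h
        exact Multiplicative.ofAdd.injective this
      have h2 : Additive.ofMul u = 0 := by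
        rw [← ψ.map_zero] at h1
        exact ψ.injective h1
      have h3 : u = 1 := Additive.ofMul.injective h2
      rw [h3]; rfl
    · intro h
      have h3 : u = 1 := Subtype.ext h
      rw [h3, map_one]
  · intro x u
    refine ⟨(rho hGV e (e x) (Additive.ofMul u)).toMul, ?_, ?_⟩
    · rw [rho_coe']; rfl
    · exact hψ (e x) (Additive.ofMul u)

end Cfsg.Agent.Lib.Helper68_Nat_GLUE
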