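import Mathlib
import Cfsg.Agent.Lib.Helper20_PGroupOdd

set_option autoImplicit false

namespace Cfsg.Agent.Lib.Helper68_NormFix

open Finset

section ModuleLemma

variable {V : Type*} [CommGroup V] {R : Type*} [Group R] [MulDistribMulAction R V]

/-- Fixed points of one operator. -/
def fixSub (r : R) : Subgroup V where
  carrier := {v | r • v = v}
  one_mem' := smul_one r
  mul_mem' := by
    intro a b ha hb
    have ha' : r • a = a := ha
    have hb' : r • b = b := hb
    show r • (a * b) = a * b
    rw [smul_mul', ha', hb']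
  inv_mem' := by
    intro a ha
    have ha' : r • a = a := ha
    show r • a⁻¹ = a⁻¹
    rw [smul_inv', ha']

theorem mem_fixSub {r : R} {v : V} : v ∈ fixSub r ↔ r • v = v := Iff.rfl

/-- The norm map of length `n`. -/
def nu (n : ℕ) (b : R) : V →* V where
  toFun v := ∏ k ∈ range n, b ^ k • v
  map_one' := by simp
  map_mul' := by
    intro v w
    simp only [smul_mul', Finset.prod_mul_distrib]

theorem nu_apply (n : ℕ) (b : R) (v : V) : nu n b v = ∏ k ∈ range n, b ^ k • v := rfl

theorem smul_nu (n : ℕ) (c b : R) (v : V) : c • nu n b v = nu n (c * b * c⁻¹) (c • v) := by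
  rw [nu_apply, nu_apply, Finset.smul_prod']
  apply Finset.prod_congr rfl
  intro k _
  rw [conj_pow, smul_smul, smul_smul]
  congr 1
  group

theorem nu_mem_fixSub {n : ℕ} {b : R} (hb : b ^ n = 1) (v : V) : nu n b v ∈ fixSub b := by
  rw [mem_fixSub, nu_apply, Finset.smul_prod']
  have h1 : ∏ k ∈ range n, b • b ^ k • v = ∏ k ∈ range n, b ^ (k + 1) • v := by
    apply Finset.prod_congr rfl
    intro k _
    rw [smul_smul, pow_succ']
  rw [h1]
  have h2 := Finset.prod_range_succ' (fun k => b ^ k • v) n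
  have h3 := Finset.prod_range_succ (fun k => b ^ k • v) n
  simp only [pow_zero, one_smul, hb] at h2 h3
  rw [h3] at h2
  exact (mul_right_cancel h2).symm

theorem nu_of_fixed {n : ℕ} {b : R} {v : V} (hv : b • v = v) : nu n b v = v ^ n := by
  rw [nu_apply]
  have : ∀ k : ℕ, b ^ k • v = v := by
    intro k
    induction k with
    | zero => simp
    | succ k ih => rw [pow_succ, mul_smul, hv, ih]
  simp [this]

theorem nu_fixed_of_commute {n : ℕ} {a b : R} (hab : Commute a b) {v : V} (hv : a • v = v) :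
    a • nu n b v = nu n b v := by
  rw [smul_nu, hv]
  congr 1
  rw [hab.eq]; group

theorem smul_eq_of_mem_zpowers {g y : R} (hy : y ∈ Subgroup.zpowers g) {v : V} (hv : g • v = v) :
    y • v = v := by
  have h1 : Subgroup.zpowers g ≤ MulAction.stabilizer R v :=
    Subgroup.zpowers_le.mpr (MulAction.mem_stabilizer_iff.mpr hv)
  exact MulAction.mem_stabilizer_iff.mp (h1 hy)

/-- an element of `⟨z⟩ \ 1` has no nontrivial fixed points if `z` has none -/
theorem fix_trivial_of_mem_zpowers {p : ℕ} [Fact p.Prime] {z y : R} (hz : orderOf z = p)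
    (hfix : ∀ v : V, z • v = v → v = 1) (hy : y ∈ Subgroup.zpowers z) (hy1 : y ≠ 1) :
    ∀ v : V, y • v = v → v = 1 := by
  intro v hv
  apply hfix
  have h1 := Cfsg.Agent.Lib.Helper20_PGroupOdd.zpowers_eq_of_mem_of_ne_one hz hy hy1
  have h2 : z ∈ Subgroup.zpowers y := by rw [h1]; exact Subgroup.mem_zpowers z
  exact smul_eq_of_mem_zpowers h2 hv

theorem keyId {p : ℕ} [Fact p.Prime] (z h : R) (hzh : Commute z h) (hz : orderOf z = p)
    (hfix : ∀ v : V, z • v = v → v = 1) (v : V) :
    ∏ i ∈ range p, nu p (h * z ^ i) v = v ^ p := by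
  have hp : p.Prime := Fact.out
  have hzp : z ^ p = 1 := by rw [← hz]; exact pow_orderOf_eq_one z
  have h1 : ∀ i ∈ range p, nu p (h * z ^ i) v = ∏ k ∈ range p, h ^ k • ((z ^ k) ^ i • v) := by
    intro i _
    rw [nu_apply]
    apply Finset.prod_congr rfl
    intro k _
    have hc : Commute h (z ^ i) := (hzh.pow_left i).symm
    rw [hc.mul_pow, mul_smul, ← pow_mul, ← pow_mul, mul_comm i k]
  rw [Finset.prod_congr rfl h1, Finset.prod_comm]
  have h2 : ∀ k ∈ range p, ∏ i ∈ range p, h ^ k • ((z ^ k) ^ i • v) = h ^ k • nu p (z ^ k) v := by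
    intro k _
    rw [nu_apply, Finset.smul_prod']
  rw [Finset.prod_congr rfl h2]
  rw [Finset.prod_eq_single 0]
  · simp only [pow_zero, one_smul]
    exact nu_of_fixed (one_smul R v)
  · intro k hk hk0
    have hkp : k < p := Finset.mem_range.mp hk
    have hzk1 : z ^ k ≠ 1 := by
      intro h0
      have := orderOf_dvd_of_pow_eq_one h0
      rw [hz] at this
      exact hk0 (Nat.eq_zero_of_dvd_of_lt this hkp)
    have hzkp : (z ^ k) ^ p = 1 := by rw [← pow_mul, mul_comm, pow_mul, hzp, one_pow]
    have h3 := nu_mem_fixSub hzkp v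
    have h4 := fix_trivial_of_mem_zpowers hz hfix
      (Subgroup.pow_mem _ (Subgroup.mem_zpowers z) k) hzk1 _ (mem_fixSub.mp h3)
    rw [h4, smul_one]
  · intro h0
    exact absurd (Finset.mem_range.mpr hp.pos) h0


theorem eq_one_of_pow_eq_one [Finite V] {p : ℕ} (hcop : (Nat.card V).Coprime p) {u : V}
    (hu : u ^ p = 1) : u = 1 := by
  have h1 : orderOf u ∣ p := orderOf_dvd_of_pow_eq_one hu
  have h2 : orderOf u ∣ Nat.card V := orderOf_dvd_natCard u
  exact orderOf_eq_one_iff.mp (Nat.eq_one_of_dvd_coprimes hcop h2 h1)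

/-- if `c` moves `b` to `b * z'` with `z'` fixed-point-free of order `p`, the norm of `b` is
injective on the fixed points of `c`. -/
theorem pow_eq_one_of_nu_eq_one {p : ℕ} [Fact p.Prime] {c b z' : R} (hcb : c * b * c⁻¹ = b * z')
    (hzb : Commute z' b) (hzc : Commute z' c) (hz : orderOf z' = p)
    (hfix : ∀ v : V, z' • v = v → v = 1) {u : V} (hu : c • u = u) (hnu : nu p b u = 1) :
    u ^ p = 1 := by
  have h1 : ∀ t : ℕ, c ^ t * b * (c ^ t)⁻¹ = b * z' ^ t := by
    intro t
    induction t with
    | zero => simp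
    | succ t ih =>
      have hc' : Commute (z' ^ t) c := hzc.pow_left t
      calc c ^ (t + 1) * b * (c ^ (t + 1))⁻¹ = c * (c ^ t * b * (c ^ t)⁻¹) * c⁻¹ := by
            rw [pow_succ']; group
        _ = c * (b * z' ^ t) * c⁻¹ := by rw [ih]
        _ = (c * b * c⁻¹) * (c * z' ^ t * c⁻¹) := by group
        _ = (b * z') * (z' ^ t) := by
            rw [hcb]
            congr 1
            rw [← hc'.eq]; group
        _ = b * z' ^ (t + 1) := by rw [pow_succ', mul_assoc]
  have h2 : ∀ t : ℕ, c ^ t • u = u := by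
    intro t
    induction t with
    | zero => simp
    | succ t ih => rw [pow_succ, mul_smul, hu, ih]
  have h3 : ∀ t ∈ range p, nu p (b * z' ^ t) u = 1 := by
    intro t _
    have := smul_nu p (c ^ t) b u
    rw [h1 t, h2 t, hnu, smul_one] at this
    exact this.symm
  rw [← keyId z' b hzb hz hfix u, Finset.prod_congr rfl h3, Finset.prod_const_one]

theorem card_fixSub_le [Finite V] {p : ℕ} [Fact p.Prime] (hcop : (Nat.card V).Coprime p)
    {c b z' : R} (hcb : c * b * c⁻¹ = b * z')
    (hzb : Commute z' b) (hzc : Commute z' c) (hz : orderOf z' = p)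
    (hfix : ∀ v : V, z' • v = v → v = 1) (hbp : b ^ p = 1) :
    Nat.card (fixSub (V := V) c) ≤ Nat.card (fixSub (V := V) b) := by
  let f : fixSub (V := V) c →* fixSub (V := V) b :=
    { toFun := fun u => ⟨nu p b (u : V), nu_mem_fixSub hbp (u : V)⟩
      map_one' := by
        apply Subtype.ext
        simp
      map_mul' := by
        intro u w
        apply Subtype.ext
        simp }
  have hf : Function.Injective f := by
    rw [injective_iff_map_eq_one]
    intro u hu
    have h1 : nu p b (u : V) = 1 := congrArg Subtype.val hu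
    have h2 := pow_eq_one_of_nu_eq_one hcb hzb hzc hz hfix (mem_fixSub.mp u.2) h1
    exact Subtype.ext (eq_one_of_pow_eq_one hcop h2)
  exact Nat.card_le_card_of_injective f hf

/-- separation: the norm of `b` kills the fixed points of a commuting `b'` when `b⁻¹ b'` is
fixed-point-free. -/
theorem nu_eq_one_of_fixed {p : ℕ} {b b' : R} (hbb : Commute b' b) (hbp : b ^ p = 1)
    (hfix : ∀ v : V, (b⁻¹ * b') • v = v → v = 1) {w : V} (hw : b' • w = w) : nu p b w = 1 := by
  apply hfix
  have h1 : b • nu p b w = nu p b w := mem_fixSub.mp (nu_mem_fixSub hbp w)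
  have h2 : b' • nu p b w = nu p b w := nu_fixed_of_commute hbb hw
  rw [mul_smul, h2]
  calc b⁻¹ • nu p b w = b⁻¹ • (b • nu p b w) := by rw [h1]
    _ = nu p b w := by rw [smul_smul, inv_mul_cancel, one_smul]


theorem pow_eq_one_of_mul_eq_one {p : ℕ} {b b' b'' : R} (h1 : Commute b' b) (h2 : Commute b'' b)
    (hbp : b ^ p = 1) (hfix1 : ∀ v : V, (b⁻¹ * b') • v = v → v = 1)
    (hfix2 : ∀ v : V, (b⁻¹ * b'') • v = v → v = 1) {w w' w'' : V} (hw : b • w = w)
    (hw' : b' • w' = w') (hw'' : b'' • w'' = w'') (hprod : w * w' * w'' = 1) : w ^ p = 1 := by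
  have h3 := congrArg (nu p b) hprod
  rw [map_mul, map_mul, map_one, nu_of_fixed hw, nu_eq_one_of_fixed h1 hbp hfix1 hw',
    nu_eq_one_of_fixed h2 hbp hfix2 hw'', mul_one, mul_one] at h3
  exact h3

theorem card_mul_le_of_indep [Finite V] {p : ℕ} (hcop : (Nat.card V).Coprime p) {b0 b1 b2 : R}
    (h01 : Commute b0 b1) (h02 : Commute b0 b2) (h12 : Commute b1 b2)
    (hb0 : b0 ^ p = 1) (hb1 : b1 ^ p = 1) (hb2 : b2 ^ p = 1)
    (hf01 : ∀ v : V, (b0⁻¹ * b1) • v = v → v = 1) (hf02 : ∀ v : V, (b0⁻¹ * b2) • v = v → v = 1)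
    (hf10 : ∀ v : V, (b1⁻¹ * b0) • v = v → v = 1) (hf12 : ∀ v : V, (b1⁻¹ * b2) • v = v → v = 1)
    (hf20 : ∀ v : V, (b2⁻¹ * b0) • v = v → v = 1) (hf21 : ∀ v : V, (b2⁻¹ * b1) • v = v → v = 1) :
    Nat.card (fixSub (V := V) b0) * Nat.card (fixSub (V := V) b1) * Nat.card (fixSub (V := V) b2)
      ≤ Nat.card V := by
  let f : (fixSub (V := V) b0 × fixSub (V := V) b1) × fixSub (V := V) b2 →* V :=
    { toFun := fun x => (x.1.1 : V) * (x.1.2 : V) * (x.2 : V)
      map_one' := by simp
      map_mul' := by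
        intro x y
        simp only [Prod.fst_mul, Prod.snd_mul, Subgroup.coe_mul]
        ac_rfl }
  have hf : Function.Injective f := by
    rw [injective_iff_map_eq_one]
    rintro ⟨⟨⟨w0, hw0⟩, ⟨w1, hw1⟩⟩, ⟨w2, hw2⟩⟩ hx
    have hprod : w0 * w1 * w2 = 1 := hx
    have e0 : w0 = 1 := eq_one_of_pow_eq_one hcop
      (pow_eq_one_of_mul_eq_one h01.symm h02.symm hb0 hf01 hf02 hw0 hw1 hw2 hprod)
    have e1 : w1 = 1 := eq_one_of_pow_eq_one hcop
      (pow_eq_one_of_mul_eq_one h01 h12.symm hb1 hf10 hf12 hw1 hw0 hw2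
        (by rw [mul_comm w1 w0]; exact hprod))
    have e2 : w2 = 1 := eq_one_of_pow_eq_one hcop
      (pow_eq_one_of_mul_eq_one h02 h12 hb2 hf20 hf21 hw2 hw0 hw1
        (by rw [mul_assoc, mul_comm]; exact hprod))
    subst e0 e1 e2
    rfl
  have := Nat.card_le_card_of_injective f hf
  rwa [Nat.card_prod, Nat.card_prod] at this


end ModuleLemma

section ModuleMain

universe u

variable {V : Type*} [CommGroup V] [Finite V] {R : Type u} [Group R] [Finite R]
  [MulDistribMulAction R V]

theorem card_le_of_factorization {c d : R}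
    (hF : ∀ v : V, ∃ a b : V, c • a = a ∧ d • b = b ∧ v = a * b) :
    Nat.card V ≤ Nat.card (fixSub (V := V) c) * Nat.card (fixSub (V := V) d) := by
  rw [← Nat.card_prod]
  apply Nat.card_le_card_of_surjective
    (fun x : fixSub (V := V) c × fixSub (V := V) d => (x.1 : V) * (x.2 : V))
  intro v
  obtain ⟨a, b, ha, hb, rfl⟩ := hF v
  exact ⟨(⟨a, ha⟩, ⟨b, hb⟩), rfl⟩

theorem exists_mem_not_mem_of_closure_eq_top {C : Set R} (hC : Subgroup.closure C = ⊤)
    {K : Subgroup R} (hK : K ≠ ⊤) : ∃ c ∈ C, c ∉ K := by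
  by_contra hcon
  push Not at hcon
  apply hK
  rw [eq_top_iff, ← hC, Subgroup.closure_le]
  exact hcon

theorem module_lemma [Nontrivial V] [Nontrivial R] {p : ℕ} [Fact p.Prime] (hp3 : 3 ≤ p)
    (hR : IsPGroup p R) (hcop : (Nat.card V).Coprime p)
    (hfaith : ∀ r : R, (∀ v : V, r • v = v) → r = 1)
    (hirr : ∀ W : Subgroup V, (∀ r : R, ∀ w ∈ W, r • w ∈ W) → W = ⊥ ∨ W = ⊤)
    (C D : Set R) (hC : Subgroup.closure C = ⊤) (hD : Subgroup.closure D = ⊤)
    (hF : ∀ c ∈ C, ∀ d ∈ D, ∀ v : V, ∃ a b : V, c • a = a ∧ d • b = b ∧ v = a * b) : False := by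
  have hp : p.Prime := Fact.out
  have hp2 : p ≠ 2 := by omega
  have hVcard : 1 < Nat.card V := Finite.one_lt_card
  -- central nonidentity elements are fixed-point-free
  have key1 : ∀ r : R, r ∈ Subgroup.center R → r ≠ 1 → ∀ v : V, r • v = v → v = 1 := by
    intro r hrc hr1 v hv
    have hinv : ∀ s : R, ∀ w ∈ fixSub (V := V) r, s • w ∈ fixSub (V := V) r := by
      intro s w hw
      rw [mem_fixSub] at hw ⊢
      rw [smul_smul, ← (Subgroup.mem_center_iff.mp hrc s), mul_smul, hw]
    rcases hirr _ hinv with h | h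
    · have : v ∈ fixSub (V := V) r := hv
      rw [h] at this
      exact Subgroup.mem_bot.mp this
    · exfalso
      apply hr1
      apply hfaith
      intro w
      have : w ∈ fixSub (V := V) r := by rw [h]; trivial
      exact this
  have card_fix_one : ∀ r : R, (∀ v : V, r • v = v → v = 1) → Nat.card (fixSub (V := V) r) = 1 := by
    intro r hr
    rw [Nat.card_eq_one_iff_unique]
    refine ⟨⟨?_⟩, ⟨1⟩⟩
    intro a b
    apply Subtype.ext
    rw [hr a a.2, hr b b.2]
  by_cases hcomm : ∀ a b : R, a * b = b * a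
  · -- abelian case
    have hcen : ∀ r : R, r ∈ Subgroup.center R := by
      intro r
      rw [Subgroup.mem_center_iff]
      intro g
      exact hcomm g r
    obtain ⟨c, hcC, hc1⟩ := exists_mem_not_mem_of_closure_eq_top hC (bot_ne_top (α := Subgroup R))
    obtain ⟨d, hdD, hd1⟩ := exists_mem_not_mem_of_closure_eq_top hD (bot_ne_top (α := Subgroup R))
    rw [Subgroup.mem_bot] at hc1 hd1
    have h1 := card_le_of_factorization (hF c hcC d hdD)
    rw [card_fix_one c (key1 c (hcen c) hc1), card_fix_one d (key1 d (hcen d) hd1)] at h1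
    omega
  · -- nonabelian case
    have hncyc : ¬ IsCyclic (⊤ : Subgroup R) := by
      intro hcyc
      apply hcomm
      haveI : IsCyclic R := isCyclic_of_surjective (Subgroup.topEquiv (G := R))
        (Subgroup.topEquiv (G := R)).surjective
      intro a b
      exact (IsCyclic.isMulCommutative (α := R)).is_comm.comm a b
    obtain ⟨z, h, -, -, hzc, hz, hhp, hhz, hcomm_h⟩ :=
      Cfsg.Agent.Lib.Helper20_PGroupOdd.exists_good hp2 hR (⊤ : Subgroup R) hncyc
    have hz1 : z ≠ 1 := by
      intro h0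
      rw [h0, orderOf_one] at hz
      exact hp.one_lt.ne hz
    have hzp : z ^ p = 1 := by rw [← hz]; exact pow_orderOf_eq_one z
    have hfixz := key1 z hzc hz1
    have hzcomm : ∀ g : R, Commute z g := fun g => (Subgroup.mem_center_iff.mp hzc g).symm
    have hzpow_cen : ∀ y ∈ Subgroup.zpowers z, ∀ g : R, Commute y g := by
      intro y hy g
      obtain ⟨i, rfl⟩ := Subgroup.mem_zpowers_iff.mp hy
      exact (hzcomm g).zpow_left i
    have hbp : ∀ i : ℕ, (h * z ^ i) ^ p = 1 := by
      intro i
      have hc : Commute h (z ^ i) := ((hzcomm h).pow_left i).symm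
      rw [hc.mul_pow, hhp, ← pow_mul, mul_comm, pow_mul, hzp, one_pow, one_mul]
    by_cases hhc : ∀ g : R, g * h = h * g
    · -- `h` central: every `h z^i` is central and fixed-point-free
      have hall : ∀ v : V, v = 1 := by
        intro v
        apply eq_one_of_pow_eq_one hcop
        rw [← keyId z h (hzcomm h) hz hfixz v]
        apply Finset.prod_eq_one
        intro i _
        have hbc : h * z ^ i ∈ Subgroup.center R := by
          apply Subgroup.mul_mem
          · rw [Subgroup.mem_center_iff]; exact hhc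
          · exact Subgroup.pow_mem _ hzc i
        have hb1 : h * z ^ i ≠ 1 := by
          intro h0
          apply hhz
          have : h = (z ^ i)⁻¹ := eq_inv_of_mul_eq_one_left h0
          rw [this]
          exact Subgroup.inv_mem _ (Subgroup.pow_mem _ (Subgroup.mem_zpowers z) i)
        exact key1 _ hbc hb1 _ (mem_fixSub.mp (nu_mem_fixSub (hbp i) v))
      obtain ⟨v, w, hvw⟩ := exists_pair_ne V
      exact hvw (by rw [hall v, hall w])
    · -- `h` not central
      push Not at hhc
      obtain ⟨g, hg⟩ := hhc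
      have hK : Subgroup.centralizer ({h} : Set R) ≠ ⊤ := by
        intro h0
        have : g ∈ Subgroup.centralizer ({h} : Set R) := by rw [h0]; trivial
        rw [Subgroup.mem_centralizer_iff] at this
        exact hg (this h rfl).symm
      obtain ⟨c, hcC, hcK⟩ := exists_mem_not_mem_of_closure_eq_top hC hK
      obtain ⟨d, hdD, hdK⟩ := exists_mem_not_mem_of_closure_eq_top hD hK
      -- general bound for an element not commuting with `h`
      have bound : ∀ c : R, c ∉ Subgroup.centralizer ({h} : Set R) → ∀ i : ℕ,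
          Nat.card (fixSub (V := V) c) ≤ Nat.card (fixSub (V := V) (h * z ^ i)) := by
        intro c hcK i
        set z' := c * h * c⁻¹ * h⁻¹ with hz'
        have hz'mem : z' ∈ Subgroup.zpowers z := hcomm_h c
        have hz'1 : z' ≠ 1 := by
          intro h0
          apply hcK
          rw [Subgroup.mem_centralizer_iff]
          intro y hy
          rw [Set.mem_singleton_iff] at hy
          subst hy
          have : c * y = y * c := by
            calc c * y = (c * y * c⁻¹ * y⁻¹) * y * c := by group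
              _ = y * c := by rw [← hz', h0, one_mul]
          exact this.symm
        have hz'p : z' ^ p = 1 := by
          obtain ⟨j, hj⟩ := Subgroup.mem_zpowers_iff.mp hz'mem
          rw [← hj, ← zpow_natCast, ← zpow_mul, mul_comm, zpow_mul, zpow_natCast, hzp, one_zpow]
        have hoz' : orderOf z' = p := orderOf_eq_prime hz'p hz'1
        have hfixz' := fix_trivial_of_mem_zpowers hz hfixz hz'mem hz'1
        have hcb : c * (h * z ^ i) * c⁻¹ = (h * z ^ i) * z' := by
          have h1 : z ^ i * c⁻¹ = c⁻¹ * z ^ i := ((hzcomm c⁻¹).pow_left i).eq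
          have h2 : z' * (h * z ^ i) = (h * z ^ i) * z' := (hzpow_cen z' hz'mem _).eq
          calc c * (h * z ^ i) * c⁻¹ = c * h * (z ^ i * c⁻¹) := by group
            _ = c * h * (c⁻¹ * z ^ i) := by rw [h1]
            _ = (c * h * c⁻¹ * h⁻¹) * (h * z ^ i) := by group
            _ = (h * z ^ i) * z' := by rw [← hz', h2]
        exact card_fixSub_le hcop hcb (hzpow_cen z' hz'mem _) (hzpow_cen z' hz'mem _) hoz' hfixz'
          (hbp i)
      -- independence of three of the fixed point subgroups
      have hsep : ∀ i j : ℕ, i < p → j < p → i ≠ j →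
          ∀ v : V, ((h * z ^ i)⁻¹ * (h * z ^ j)) • v = v → v = 1 := by
        intro i j hi hj hij
        have hy : (h * z ^ i)⁻¹ * (h * z ^ j) = (z ^ i)⁻¹ * z ^ j := by group
        rw [hy]
        apply fix_trivial_of_mem_zpowers hz hfixz
        · exact Subgroup.mul_mem _ (Subgroup.inv_mem _ (Subgroup.pow_mem _ (Subgroup.mem_zpowers z) i))
            (Subgroup.pow_mem _ (Subgroup.mem_zpowers z) j)
        · intro h0
          have h1 : z ^ j = z ^ i := by
            calc z ^ j = z ^ i * ((z ^ i)⁻¹ * z ^ j) := by group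
              _ = z ^ i := by rw [h0, mul_one]
          rw [pow_eq_pow_iff_modEq, hz] at h1
          have := Nat.ModEq.eq_of_lt_of_lt h1 hj hi
          exact hij this.symm
      have hcomm_b : ∀ i j : ℕ, Commute (h * z ^ i) (h * z ^ j) := by
        intro i j
        have h1 : Commute (z ^ i) (h * z ^ j) := hzpow_cen _ (Subgroup.pow_mem _ (Subgroup.mem_zpowers z) i) _
        have h2 : Commute (z ^ j) h := hzpow_cen _ (Subgroup.pow_mem _ (Subgroup.mem_zpowers z) j) _
        have h3 : Commute h (h * z ^ j) := (Commute.refl h).mul_right h2.symm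
        exact h3.mul_left h1
      have h0p : 0 < p := by omega
      have h1p : 1 < p := by omega
      have h2p : 2 < p := by omega
      have hind := card_mul_le_of_indep (V := V) hcop (hcomm_b 0 1) (hcomm_b 0 2) (hcomm_b 1 2)
        (hbp 0) (hbp 1) (hbp 2)
        (hsep 0 1 h0p h1p (by omega)) (hsep 0 2 h0p h2p (by omega))
        (hsep 1 0 h1p h0p (by omega)) (hsep 1 2 h1p h2p (by omega))
        (hsep 2 0 h2p h0p (by omega)) (hsep 2 1 h2p h1p (by omega))
      have hV := card_le_of_factorization (hF c hcC d hdD)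
      set a := Nat.card (fixSub (V := V) c) with ha
      set b := Nat.card (fixSub (V := V) d) with hb
      have ha0 := bound c hcK 0
      have ha1 := bound c hcK 1
      have hb1 := bound d hdK 1
      have hb2 := bound d hdK 2
      have ha2 := bound c hcK 2
      have hb0 := bound d hdK 0
      rw [← ha] at ha0 ha1 ha2
      rw [← hb] at hb0 hb1 hb2
      set m0 := Nat.card (fixSub (V := V) (h * z ^ 0))
      set m1 := Nat.card (fixSub (V := V) (h * z ^ 1))
      set m2 := Nat.card (fixSub (V := V) (h * z ^ 2))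
      have hapos : 0 < a := Nat.card_pos
      have hbpos : 0 < b := Nat.card_pos
      have h1 : a * a * b ≤ m0 * m1 * m2 :=
        Nat.mul_le_mul (Nat.mul_le_mul ha0 ha1) hb2
      have h2 : a * b * b ≤ m0 * m1 * m2 :=
        Nat.mul_le_mul (Nat.mul_le_mul ha0 hb1) hb2
      have h3 : a * (a * b) ≤ 1 * (a * b) := by nlinarith
      have h4 : (a * b) * b ≤ (a * b) * 1 := by nlinarith
      have ha1' : a ≤ 1 := Nat.le_of_mul_le_mul_right h3 (Nat.mul_pos hapos hbpos)
      have hb1' : b ≤ 1 := Nat.le_of_mul_le_mul_left h4 (Nat.mul_pos hapos hbpos)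
      have : a * b ≤ 1 := by nlinarith
      omega

end ModuleMain


end Cfsg.Agent.Lib.Helper68_NormFix
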