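import Mathlib

/-!
Groups all of whose elements have order `1, 2, 3` or `4` (helper68): basic facts.
`O4 G` says every element satisfies `g ^ 3 = 1` or `g ^ 4 = 1`.
-/

set_option autoImplicit false

namespace Cfsg.Agent.Lib.Helper68_O4

open scoped commutatorElement

/-- Every element has order `1, 2, 3` or `4`. -/
def O4 (G : Type*) [Group G] : Prop := ∀ g : G, g ^ 3 = 1 ∨ g ^ 4 = 1

variable {G : Type*} [Group G]

theorem pow_three_eq (s : G) : s ^ 3 = s * s * s := by simp [pow_succ]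

theorem inv_mul_inv_mul_inv {s : G} (hs3 : s ^ 3 = 1) : s⁻¹ * s⁻¹ * s⁻¹ = 1 := by
  have : (s * s * s)⁻¹ = 1 := by rw [← pow_three_eq, hs3, inv_one]
  rw [← this]; group

theorem eq_one_of_pow_three_of_pow_four {x : G} (h3 : x ^ 3 = 1) (h4 : x ^ 4 = 1) : x = 1 := by
  have : x ^ 4 = x ^ 3 * x := pow_succ x 3
  rw [h3, h4, one_mul] at this
  exact this.symm

/-- A `3`-element and a `2`-element that commute: one of them is trivial. -/
theorem O4.eq_one_of_commute (h : O4 G) {x y : G} (hx : x ^ 3 = 1) (hy : y ^ 4 = 1)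
    (hxy : x * y = y * x) : x = 1 ∨ y = 1 := by
  have hc : Commute x y := hxy
  rcases h (x * y) with h3 | h4
  · right
    rw [hc.mul_pow, hx, one_mul] at h3
    exact eq_one_of_pow_three_of_pow_four h3 hy
  · left
    rw [hc.mul_pow, hy, mul_one] at h4
    exact eq_one_of_pow_three_of_pow_four hx h4

theorem O4.quotient (h : O4 G) (N : Subgroup G) [N.Normal] : O4 (G ⧸ N) := by
  intro g
  induction g using QuotientGroup.induction_on with
  | H x =>
    rcases h x with h3 | h4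
    · left
      rw [← QuotientGroup.mk_pow, h3, QuotientGroup.mk_one]
    · right
      rw [← QuotientGroup.mk_pow, h4, QuotientGroup.mk_one]

theorem O4.pow_four_of_mem (h : O4 G) {Q : Subgroup G} (hQ : IsPGroup 2 Q) {x : G} (hx : x ∈ Q) :
    x ^ 4 = 1 := by
  rcases h x with h3 | h4
  · obtain ⟨k, hk⟩ := hQ ⟨x, hx⟩
    have hk' : x ^ 2 ^ k = 1 := by
      have := congrArg Subtype.val hk
      simpa using this
    have h1 : orderOf x ∣ 3 := orderOf_dvd_of_pow_eq_one h3
    have h2 : orderOf x ∣ 2 ^ k := orderOf_dvd_of_pow_eq_one hk'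
    have hcop : Nat.Coprime 3 (2 ^ k) := Nat.Coprime.pow_right k (by norm_num)
    have : orderOf x = 1 := Nat.eq_one_of_dvd_coprimes hcop h1 h2
    rw [orderOf_eq_one_iff] at this
    rw [this, one_pow]
  · exact h4

theorem O4.pow_three_of_mem (h : O4 G) {P : Subgroup G} (hP : IsPGroup 3 P) {x : G} (hx : x ∈ P) :
    x ^ 3 = 1 := by
  rcases h x with h3 | h4
  · exact h3
  · obtain ⟨k, hk⟩ := hP ⟨x, hx⟩
    have hk' : x ^ 3 ^ k = 1 := by
      have := congrArg Subtype.val hk
      simpa using this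
    have h1 : orderOf x ∣ 4 := orderOf_dvd_of_pow_eq_one h4
    have h2 : orderOf x ∣ 3 ^ k := orderOf_dvd_of_pow_eq_one hk'
    have hcop : Nat.Coprime 4 (3 ^ k) := Nat.Coprime.pow_right k (by norm_num)
    have : orderOf x = 1 := Nat.eq_one_of_dvd_coprimes hcop h1 h2
    rw [orderOf_eq_one_iff] at this
    rw [this, one_pow]

/-- A nontrivial `3`-element does not lie in a `2`-subgroup. -/
theorem O4.not_mem (h : O4 G) {Q : Subgroup G} (hQ : IsPGroup 2 Q) {s : G} (hs3 : s ^ 3 = 1)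
    (hs1 : s ≠ 1) : s ∉ Q := fun hs =>
  hs1 (eq_one_of_pow_three_of_pow_four hs3 (h.pow_four_of_mem hQ hs))

/-- Conjugation `x ↦ s⁻¹ x s`. -/
def cj (s x : G) : G := s⁻¹ * x * s

@[simp] theorem cj_one (s : G) : cj s 1 = 1 := by simp [cj]

theorem cj_mul (s x y : G) : cj s (x * y) = cj s x * cj s y := by simp [cj]; group

theorem cj_inv (s x : G) : cj s x⁻¹ = (cj s x)⁻¹ := by simp [cj]; group

theorem cj_pow (s x : G) (n : ℕ) : cj s (x ^ n) = (cj s x) ^ n := by
  induction n with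
  | zero => simp
  | succ n ih => rw [pow_succ, cj_mul, ih, pow_succ]

theorem cj_comm (s x y : G) : cj s ⁅x, y⁆ = ⁅cj s x, cj s y⁆ := by
  simp only [commutatorElement_def, cj_mul, cj_inv]

theorem cj_mul_left (s g x : G) : cj (s * g) x = cj g (cj s x) := by simp [cj]; group

theorem cj_mem {Q : Subgroup G} [hn : Q.Normal] (s : G) {x : G} (hx : x ∈ Q) : cj s x ∈ Q := by
  have := hn.conj_mem x hx s⁻¹
  simpa [cj] using this

theorem cj_cj_cj {s : G} (hs3 : s ^ 3 = 1) (x : G) : cj s (cj s (cj s x)) = x := by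
  have h1 : s⁻¹ * s⁻¹ * s⁻¹ = 1 := inv_mul_inv_mul_inv hs3
  have h2 : s * s * s = 1 := by rw [← pow_three_eq, hs3]
  calc cj s (cj s (cj s x)) = (s⁻¹ * s⁻¹ * s⁻¹) * x * (s * s * s) := by simp [cj]; group
    _ = x := by rw [h1, h2, one_mul, mul_one]

theorem cj_injective (s : G) : Function.Injective (cj s) := by
  intro x y hxy
  simpa [cj] using hxy

theorem cj_eq_self_iff (s x : G) : cj s x = x ↔ x * s = s * x := by
  unfold cj
  constructor
  · intro h
    calc x * s = s * (s⁻¹ * x * s) := by group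
      _ = s * x := by rw [h]
  · intro h
    calc s⁻¹ * x * s = s⁻¹ * (x * s) := by group
      _ = x := by rw [h]; group

section normal

variable {Q : Subgroup G} [Q.Normal]

/-- If `s` has order `3` and `Q` is a normal `2`-subgroup then `(x s⁻¹)^3 = 1` for `x ∈ Q`,
that is `x · x^s · x^{s^2} = 1`. -/
theorem O4.prod_cj (h : O4 G) (hQ : IsPGroup 2 Q) {s : G} (hs3 : s ^ 3 = 1) (hs1 : s ≠ 1)
    {x : G} (hx : x ∈ Q) : x * cj s x * cj s (cj s x) = 1 := by
  have hsinv : s⁻¹ * s⁻¹ * s⁻¹ = 1 := inv_mul_inv_mul_inv hs3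
  set g := x * s⁻¹ with hg
  have hg3 : g ^ 3 = x * cj s x * cj s (cj s x) := by
    calc g ^ 3 = x * (s⁻¹ * x * s) * (s⁻¹ * (s⁻¹ * x * s) * s) * (s⁻¹ * s⁻¹ * s⁻¹) := by
          rw [hg, pow_three_eq]; group
      _ = x * cj s x * cj s (cj s x) := by rw [hsinv, mul_one]; rfl
  have hmem : x * cj s x * cj s (cj s x) ∈ Q :=
    Q.mul_mem (Q.mul_mem hx (cj_mem s hx)) (cj_mem s (cj_mem s hx))
  rcases h g with h3 | h4
  · rw [← hg3, h3]
  · exfalso
    have hgQ : g ∈ Q := by
      have : g = (g ^ 3)⁻¹ := by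
        have h43 : g ^ 4 = g ^ 3 * g := pow_succ g 3
        rw [h4] at h43
        exact eq_inv_of_mul_eq_one_right h43.symm
      rw [this, hg3]
      exact Q.inv_mem hmem
    have hsQ : s ∈ Q := by
      have : s = g⁻¹ * x := by rw [hg]; group
      rw [this]
      exact Q.mul_mem (Q.inv_mem hgQ) hx
    exact h.not_mem hQ hs3 hs1 hsQ

/-- `x` commutes with `x^s`. -/
theorem O4.commute_cj (h : O4 G) (hQ : IsPGroup 2 Q) {s : G} (hs3 : s ^ 3 = 1) (hs1 : s ≠ 1)
    {x : G} (hx : x ∈ Q) : Commute x (cj s x) := by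
  have h1 := h.prod_cj hQ hs3 hs1 hx
  have h2 := h.prod_cj hQ hs3 hs1 (Q.inv_mem hx)
  rw [cj_inv, cj_inv] at h2
  set y := cj s x
  set z := cj s y
  -- x y z = 1 and x⁻¹ y⁻¹ z⁻¹ = 1
  have e1 : x * y = z⁻¹ := eq_inv_of_mul_eq_one_left h1
  have e2 : y * x = z⁻¹ := by
    have : (z * y * x)⁻¹ = 1 := by rw [← h2]; group
    have h3 : z * y * x = 1 := by rwa [inv_eq_one] at this
    have : z * (y * x) = 1 := by rw [← mul_assoc]; exact h3
    exact (eq_inv_of_mul_eq_one_right this)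
  exact e1.trans e2.symm

/-- `s g` is again a nontrivial element with cube `1` when `g ∈ Q`. -/
theorem O4.mul_pow_three (h : O4 G) (hQ : IsPGroup 2 Q) {s : G} (hs3 : s ^ 3 = 1) (hs1 : s ≠ 1)
    {g : G} (hg : g ∈ Q) : (s * g) ^ 3 = 1 ∧ s * g ≠ 1 := by
  have hne : s * g ≠ 1 := by
    intro h1
    have : s = g⁻¹ := eq_inv_of_mul_eq_one_left h1
    exact h.not_mem hQ hs3 hs1 (this ▸ Q.inv_mem hg)
  refine ⟨?_, hne⟩
  have hs : s * s * s = 1 := by rw [← pow_three_eq, hs3]
  have hmem : (s * g) ^ 3 ∈ Q := by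
    have : (s * g) ^ 3 = (s * s * s) * (cj (s * s) g * cj s g * g) := by
      simp only [cj, pow_three_eq]; group
    rw [this, hs, one_mul]
    exact Q.mul_mem (Q.mul_mem (cj_mem _ hg) (cj_mem _ hg)) hg
  rcases h (s * g) with h3 | h4
  · exact h3
  · exfalso
    have hsg : s * g ∈ Q := by
      have : s * g = ((s * g) ^ 3)⁻¹ := by
        have h43 : (s * g) ^ 4 = (s * g) ^ 3 * (s * g) := pow_succ _ 3
        rw [h4] at h43
        exact eq_inv_of_mul_eq_one_right h43.symm
      rw [this]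
      exact Q.inv_mem hmem
    have : s ∈ Q := by
      have e : s = (s * g) * g⁻¹ := by group
      rw [e]
      exact Q.mul_mem hsg (Q.inv_mem hg)
    exact h.not_mem hQ hs3 hs1 this

/-- `Q` is a `2`-Engel group: every element commutes with all its `Q`-conjugates. -/
theorem O4.engel (h : O4 G) (hQ : IsPGroup 2 Q) {s : G} (hs3 : s ^ 3 = 1) (hs1 : s ≠ 1)
    {x g : G} (hx : x ∈ Q) (hg : g ∈ Q) : Commute x (cj g x) := by
  -- x commutes with cj g (cj s x) and cj g (cj (s*s) x)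
  have h1 : Commute x (cj g (cj s x)) := by
    obtain ⟨h3, hne⟩ := h.mul_pow_three hQ hs3 hs1 hg
    have := h.commute_cj hQ h3 hne hx
    rwa [cj_mul_left] at this
  have hss3 : (s * s) ^ 3 = 1 := by
    have : (s * s) ^ 3 = (s * s * s) * (s * s * s) := by rw [pow_three_eq]; group
    rw [this, ← pow_three_eq, hs3, one_mul]
  have hss1 : s * s ≠ 1 := by
    intro h1
    apply hs1
    rw [pow_three_eq, h1, one_mul] at hs3
    exact hs3
  have h2 : Commute x (cj g (cj (s * s) x)) := by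
    obtain ⟨h3, hne⟩ := h.mul_pow_three hQ hss3 hss1 hg
    have := h.commute_cj hQ h3 hne hx
    rwa [cj_mul_left] at this
  have hprod := h.prod_cj hQ hs3 hs1 hx
  have hinv : x⁻¹ = cj s x * cj (s * s) x := by
    have e : cj (s * s) x = cj s (cj s x) := cj_mul_left s s x
    rw [e]
    have : x * (cj s x * cj s (cj s x)) = 1 := by rw [← mul_assoc]; exact hprod
    exact (eq_inv_of_mul_eq_one_right this).symm ▸ rfl
  have h3 : Commute x (cj g x⁻¹) := by
    rw [hinv, cj_mul]
    exact h1.mul_right h2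
  rw [cj_inv] at h3
  exact (Commute.inv_right_iff.1 h3)

end normal

end Cfsg.Agent.Lib.Helper68_O4
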