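import Mathlib

/-!
Abstract commutator calculus (helper68): a group `P` with a central subgroup `Z` of exponent `2`
containing all triple commutators, which is `2`-Engel and has an automorphism `σ` of order `3`,
fixed-point-free on `Z`, with `x` commuting with `σ x`, has class at most `2`.
-/

set_option autoImplicit false

namespace Cfsg.Agent.Lib.Helper68_O4

open scoped commutatorElement

section abstractC

variable {P : Type*} [Group P] (Z : Subgroup P)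

/-- `k` central: `⁅k * g, c⁆ = ⁅g, c⁆`. -/
theorem comm_central_mul {k g c : P} (hk : ∀ x : P, k * x = x * k) : ⁅k * g, c⁆ = ⁅g, c⁆ := by
  rw [commutatorElement_def, commutatorElement_def]
  calc k * g * c * (k * g)⁻¹ * c⁻¹ = k * (g * c * g⁻¹) * k⁻¹ * c⁻¹ := by group
    _ = (g * c * g⁻¹) * k * k⁻¹ * c⁻¹ := by rw [hk (g * c * g⁻¹)]
    _ = g * c * g⁻¹ * c⁻¹ := by group

theorem conj_central {k c : P} (hk : ∀ x : P, k * x = x * k) : c * k * c⁻¹ = k := by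
  rw [← hk c]; group

variable (hZc : ∀ z ∈ Z, ∀ x : P, z * x = x * z) (hZ2 : ∀ z ∈ Z, z * z = 1)
  (hT : ∀ a b c : P, ⁅⁅a, b⁆, c⁆ ∈ Z)

include hZc hT in
theorem f_mul3 (a b c c' : P) : ⁅⁅a, b⁆, c * c'⁆ = ⁅⁅a, b⁆, c⁆ * ⁅⁅a, b⁆, c'⁆ := by
  have e : ⁅⁅a, b⁆, c * c'⁆ = ⁅⁅a, b⁆, c⁆ * (c * ⁅⁅a, b⁆, c'⁆ * c⁻¹) := by
    simp only [commutatorElement_def]; group
  rw [e, conj_central (hZc _ (hT a b c'))]

include hZc in
theorem comm_mul_of (u u' c : P) (hu : ⁅u, c⁆ ∈ Z) :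
    ⁅u' * u, c⁆ = ⁅u, c⁆ * ⁅u', c⁆ := by
  have e : ⁅u' * u, c⁆ = (u' * ⁅u, c⁆ * u'⁻¹) * ⁅u', c⁆ := by
    simp only [commutatorElement_def]; group
  rw [e, conj_central (hZc _ hu)]

include hZc hT in
theorem f_mul1 (a a' b c : P) : ⁅⁅a * a', b⁆, c⁆ = ⁅⁅a, b⁆, c⁆ * ⁅⁅a', b⁆, c⁆ := by
  have e : ⁅a * a', b⁆ = ⁅a, ⁅a', b⁆⁆ * (⁅a', b⁆ * ⁅a, b⁆) := by
    simp only [commutatorElement_def]; group
  have hk : ⁅a, ⁅a', b⁆⁆ ∈ Z := by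
    rw [← commutatorElement_inv]
    exact Z.inv_mem (hT a' b a)
  rw [e, comm_central_mul (hZc _ hk), comm_mul_of Z hZc _ _ _ (hT a b c)]

include hZc hT in
theorem f_mul2 (a b b' c : P) : ⁅⁅a, b * b'⁆, c⁆ = ⁅⁅a, b⁆, c⁆ * ⁅⁅a, b'⁆, c⁆ := by
  have e : ⁅a, b * b'⁆ = ⁅b, ⁅a, b'⁆⁆ * (⁅a, b⁆ * ⁅a, b'⁆) := by
    have hk : ⁅b, ⁅a, b'⁆⁆ ∈ Z := by
      rw [← commutatorElement_inv]
      exact Z.inv_mem (hT a b' b)
    have e1 : ⁅a, b * b'⁆ = ⁅a, b⁆ * (⁅b, ⁅a, b'⁆⁆ * ⁅a, b'⁆) := by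
      simp only [commutatorElement_def]; group
    rw [e1, ← mul_assoc, ← hZc _ hk ⁅a, b⁆, mul_assoc]
  have hk : ⁅b, ⁅a, b'⁆⁆ ∈ Z := by
    rw [← commutatorElement_inv]
    exact Z.inv_mem (hT a b' b)
  rw [e, comm_central_mul (hZc _ hk), comm_mul_of Z hZc _ _ _ (hT a b' c)]
  exact (hZc _ (hT a b' c) _)

include hZc hZ2 hT in
theorem f_swap12 (a b c : P) : ⁅⁅b, a⁆, c⁆ = ⁅⁅a, b⁆, c⁆ := by
  have e : ⁅⁅b, a⁆, c⁆ = ⁅a, b⁆⁻¹ * ⁅⁅a, b⁆, c⁆⁻¹ * ⁅a, b⁆ := by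
    rw [← commutatorElement_inv a b]
    simp only [commutatorElement_def]; group
  have hz := hT a b c
  have hinv : ⁅⁅a, b⁆, c⁆⁻¹ = ⁅⁅a, b⁆, c⁆ := inv_eq_of_mul_eq_one_left (hZ2 _ hz)
  rw [e, hinv, mul_assoc, hZc _ hz, ← mul_assoc, inv_mul_cancel, one_mul]

variable (σ : P ≃* P) (hσ3 : ∀ x, σ (σ (σ x)) = x) (hfix : ∀ z ∈ Z, σ z = z → z = 1)
  (hcomm : ∀ x, Commute x (σ x)) (hengel : ∀ x g : P, Commute x (g⁻¹ * x * g))

include hZc hZ2 hT hσ3 hfix hcomm hengel in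
/-- The abstract class-two theorem. -/
theorem class_two_abstract (a b c : P) : ⁅⁅a, b⁆, c⁆ = 1 := by
  have hinv : ∀ z ∈ Z, z⁻¹ = z := fun z hz => inv_eq_of_mul_eq_one_left (hZ2 z hz)
  -- (E) f a b a = 1
  have hE : ∀ a b : P, ⁅⁅a, b⁆, a⁆ = 1 := by
    intro a b
    rw [commutatorElement_eq_one_iff_commute]
    have h1 : Commute a (b * a * b⁻¹) := by
      have := hengel a b⁻¹
      rwa [inv_inv] at this
    have e : ⁅a, b⁆ = a * (b * a * b⁻¹)⁻¹ := by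
      simp only [commutatorElement_def]; group
    rw [e]
    exact ((Commute.refl a).mul_right h1.inv_right).symm
  -- (S13) f c b a = f a b c
  have hS : ∀ a b c : P, ⁅⁅c, b⁆, a⁆ = ⁅⁅a, b⁆, c⁆ := by
    intro a b c
    have h1 : ⁅⁅a * c, b⁆, a * c⁆ = 1 := hE (a * c) b
    rw [f_mul1 Z hZc hT, f_mul3 Z hZc hT, f_mul3 Z hZc hT, hE a b, hE c b, one_mul, mul_one] at h1
    have := eq_inv_of_mul_eq_one_right h1
    rw [this, hinv _ (hT a b c)]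
  -- (R) f (σ a) b c = f a (σ b) c
  have hR : ∀ a b c : P, ⁅⁅σ a, b⁆, c⁆ = ⁅⁅a, σ b⁆, c⁆ := by
    intro a b c
    have h0 : ∀ a : P, ⁅⁅a, σ a⁆, c⁆ = 1 := by
      intro a
      have : ⁅a, σ a⁆ = 1 := commutatorElement_eq_one_iff_commute.2 (hcomm a)
      rw [this, commutatorElement_one_left]
    have h1 : ⁅⁅a * b, σ (a * b)⁆, c⁆ = 1 := h0 (a * b)
    rw [map_mul, f_mul1 Z hZc hT, f_mul2 Z hZc hT, f_mul2 Z hZc hT, h0 a, h0 b, one_mul,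
      mul_one] at h1
    have := eq_inv_of_mul_eq_one_left h1
    rw [hinv _ (hT b (σ a) c)] at this
    rw [this, f_swap12 Z hZc hZ2 hT]
  -- moving σ from third to first
  have hR3 : ∀ a b c : P, ⁅⁅a, b⁆, σ c⁆ = ⁅⁅σ a, b⁆, c⁆ := by
    intro a b c
    rw [hS (σ c) b a, hR c b a, hS a (σ b) c, ← hR a b c]
  have hσf : σ ⁅⁅a, b⁆, c⁆ = ⁅⁅a, b⁆, c⁆ := by
    rw [map_commutatorElement, map_commutatorElement]
    rw [← hR (σ a) b (σ c), hR3 (σ (σ a)) b c, hσ3]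
  exact hfix _ (hT a b c) hσf

end abstractC

end Cfsg.Agent.Lib.Helper68_O4
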