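import Mathlib
import Cfsg.Agent.Lib.Helper68_O4Class

/-!
Abstract exponent-two theorem (helper68): a group `P` with a central subgroup `Z` of exponent `2`
containing all squares, with automorphisms `σ` (order `3`) and `τ` (order `2`, inverting `σ`) such
that `x · σ x · σ² x = 1`, `x` commutes with `σ x`, `(x · τ x)² = 1` and `σ` is fixed-point-free on
`Z`, has exponent `2`.
-/

set_option autoImplicit false

namespace Cfsg.Agent.Lib.Helper68_O4

open scoped commutatorElement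

section abstractK

variable {P : Type*} [Group P] (Z : Subgroup P)
  (hZc : ∀ z ∈ Z, ∀ x : P, z * x = x * z) (hZ2 : ∀ z ∈ Z, z * z = 1)
  (hsq : ∀ x : P, x * x ∈ Z)

include hsq in
theorem comm_mem_of_sq (x y : P) : ⁅x, y⁆ ∈ Z := by
  have e : ⁅x, y⁆ = (x * x) * ((x⁻¹ * y) * (x⁻¹ * y)) * (y⁻¹ * y⁻¹) := by
    simp only [commutatorElement_def]; group
  rw [e]
  exact Z.mul_mem (Z.mul_mem (hsq x) (hsq _)) (hsq _)

include hZc hsq in
theorem comm_mul_right (x y y' : P) : ⁅x, y * y'⁆ = ⁅x, y⁆ * ⁅x, y'⁆ := by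
  have e : ⁅x, y * y'⁆ = ⁅x, y⁆ * (y * ⁅x, y'⁆ * y⁻¹) := by
    simp only [commutatorElement_def]; group
  rw [e, conj_central (hZc _ (comm_mem_of_sq Z hsq x y'))]

include hZc hsq in
theorem comm_mul_left (x x' y : P) : ⁅x * x', y⁆ = ⁅x, y⁆ * ⁅x', y⁆ := by
  have e : ⁅x * x', y⁆ = (x * ⁅x', y⁆ * x⁻¹) * ⁅x, y⁆ := by
    simp only [commutatorElement_def]; group
  rw [e, conj_central (hZc _ (comm_mem_of_sq Z hsq x' y))]
  exact hZc _ (comm_mem_of_sq Z hsq x' y) _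

include hZc hsq in
theorem comm_inv_right (x y : P) : ⁅x, y⁻¹⁆ = ⁅x, y⁆⁻¹ := by
  have h := comm_mul_right Z hZc hsq x y y⁻¹
  rw [mul_inv_cancel, commutatorElement_one_right] at h
  exact (inv_eq_of_mul_eq_one_right h.symm).symm

include hZc hsq in
theorem sq_mul (x y : P) : (x * y) * (x * y) = ⁅y, x⁆ * (x * x) * (y * y) := by
  have hk := hZc _ (comm_mem_of_sq Z hsq y x)
  have e : (x * y) * (x * y) = x * ⁅y, x⁆ * x * y * y := by
    simp only [commutatorElement_def]; group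
  rw [e, ← hk x]
  group

variable (σ τ : P ≃* P) (hσ3 : ∀ x, σ (σ (σ x)) = x) (hτ2 : ∀ x, τ (τ x) = x)
  (hτσ : ∀ x, τ (σ x) = σ (σ (τ x)))
  (h1 : ∀ x, x * σ x * σ (σ x) = 1) (hc : ∀ x, Commute x (σ x))
  (h3 : ∀ x, (x * τ x) * (x * τ x) = 1)
  (hσZ : ∀ z ∈ Z, σ z ∈ Z) (hfix : ∀ z ∈ Z, σ z = z → z = 1)

include hZc hZ2 hτσ h1 h3 hσZ in
/-- Elements fixed by `τ` modulo `Z` are involutions. -/
theorem sq_eq_one_of_fixed {w : P} (hw : w⁻¹ * τ w ∈ Z) : w * w = 1 := by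
  set z := w⁻¹ * τ w with hz
  have hτw : τ w = w * z := by rw [hz]; group
  set z' := σ (σ z) with hz'
  have hz'Z : z' ∈ Z := hσZ _ (hσZ _ hw)
  have e1 : τ (σ w) = σ (σ w) * z' := by
    rw [hτσ, hτw, map_mul, map_mul]
  have e2 : σ w * σ (σ w) = w⁻¹ := by
    have := h1 w
    rw [mul_assoc] at this
    exact (eq_inv_of_mul_eq_one_right this).symm ▸ rfl
  have e3 : σ w * τ (σ w) = w⁻¹ * z' := by
    rw [e1, ← mul_assoc, e2]
  have h := h3 (σ w)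
  rw [e3] at h
  have h' : w⁻¹ * w⁻¹ * (z' * z') = 1 := by
    rw [← h]
    have := hZc _ hz'Z w⁻¹
    calc w⁻¹ * w⁻¹ * (z' * z') = w⁻¹ * (w⁻¹ * z') * z' := by group
      _ = w⁻¹ * (z' * w⁻¹) * z' := by rw [this]
      _ = w⁻¹ * z' * (w⁻¹ * z') := by group
  rw [hZ2 _ hz'Z, mul_one] at h'
  have : (w * w)⁻¹ = 1 := by rw [← h']; group
  rwa [inv_eq_one] at this

include hZc in
theorem fixed_mul {u u' : P} (hu : u⁻¹ * τ u ∈ Z) (hu' : u'⁻¹ * τ u' ∈ Z) :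
    (u * u')⁻¹ * τ (u * u') ∈ Z := by
  have e : (u * u')⁻¹ * τ (u * u') = (u⁻¹ * τ u) * (u'⁻¹ * τ u') := by
    rw [map_mul]
    have := hZc _ hu u'⁻¹
    calc (u * u')⁻¹ * (τ u * τ u') = u'⁻¹ * (u⁻¹ * τ u) * τ u' := by group
      _ = (u⁻¹ * τ u) * u'⁻¹ * τ u' := by rw [← this]
      _ = (u⁻¹ * τ u) * (u'⁻¹ * τ u') := by group
  rw [e]
  exact Z.mul_mem hu hu'

include hsq hτ2 in
theorem fixed_mul_tau (x : P) : (x * τ x)⁻¹ * τ (x * τ x) ∈ Z := by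
  have e : (x * τ x)⁻¹ * τ (x * τ x) = ⁅(τ x)⁻¹, x⁻¹⁆ := by
    rw [map_mul, hτ2]
    simp only [commutatorElement_def]; group
  rw [e]
  exact comm_mem_of_sq Z hsq _ _

include hZc hZ2 hτσ h1 h3 hσZ in
theorem fixed_commute {u u' : P} (hu : u⁻¹ * τ u ∈ Z) (hu' : u'⁻¹ * τ u' ∈ Z) : Commute u u' := by
  have a1 := sq_eq_one_of_fixed Z hZc hZ2 σ τ hτσ h1 h3 hσZ hu
  have a2 := sq_eq_one_of_fixed Z hZc hZ2 σ τ hτσ h1 h3 hσZ hu'
  have a3 := sq_eq_one_of_fixed Z hZc hZ2 σ τ hτσ h1 h3 hσZ (fixed_mul Z hZc τ hu hu')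
  have i1 : u⁻¹ = u := inv_eq_of_mul_eq_one_left a1
  have i2 : u'⁻¹ = u' := inv_eq_of_mul_eq_one_left a2
  have : u * u' = (u * u')⁻¹ := (inv_eq_of_mul_eq_one_left a3).symm
  rw [mul_inv_rev, i1, i2] at this
  exact this

include hZc hZ2 hsq hτσ h1 hc h3 hσZ hfix in
theorem fixed_comm_sigma {u u' : P} (hu : u⁻¹ * τ u ∈ Z) (hu' : u'⁻¹ * τ u' ∈ Z) :
    ⁅u, σ u'⁆ = 1 := by
  have hinv : ∀ z ∈ Z, z⁻¹ = z := fun z hz => inv_eq_of_mul_eq_one_left (hZ2 z hz)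
  have hcm := comm_mem_of_sq Z hsq
  set c := ⁅u, σ u'⁆ with hcdef
  have hcZ : c ∈ Z := hcm _ _
  -- step 1
  have s1 : ⁅u', σ u⁆ = c := by
    have h0 : ⁅u * u', σ (u * u')⁆ = 1 := commutatorElement_eq_one_iff_commute.2 (hc (u * u'))
    rw [map_mul, comm_mul_right Z hZc hsq, comm_mul_left Z hZc hsq, comm_mul_left Z hZc hsq,
      commutatorElement_eq_one_iff_commute.2 (hc u),
      commutatorElement_eq_one_iff_commute.2 (hc u'), one_mul, mul_one] at h0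
    have := eq_inv_of_mul_eq_one_left h0
    rw [this, hinv _ hcZ]
  -- step 2
  have s2 : σ c = c := by
    rw [hcdef, map_commutatorElement]
    have e : σ (σ u') = (u' * σ u')⁻¹ := (eq_inv_of_mul_eq_one_right (h1 u'))
    rw [e, comm_inv_right Z hZc hsq, comm_mul_right Z hZc hsq]
    have e2 : ⁅σ u, σ u'⁆ = 1 := by
      rw [← map_commutatorElement,
        commutatorElement_eq_one_iff_commute.2
          (fixed_commute Z hZc hZ2 σ τ hτσ h1 h3 hσZ hu hu'), map_one]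
    have e3 : ⁅σ u, u'⁆ = c := by
      rw [← commutatorElement_inv, s1, hinv _ hcZ]
    rw [e2, mul_one, e3, hinv _ hcZ]
  exact hfix c hcZ s2

include hZc hZ2 hsq hσ3 hτ2 hτσ h1 hc h3 hσZ hfix in
/-- The abstract exponent-two theorem. -/
theorem exponent_two_abstract (x : P) : x * x = 1 := by
  have hσinj : Function.Injective σ := σ.injective
  have hcm := comm_mem_of_sq Z hsq
  set y := τ x with hy
  -- the three fixed elements
  set u1 := x * τ x with hu1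
  set u2 := σ (σ x) * τ (σ (σ x)) with hu2
  set u3 := σ x * τ (σ x) with hu3
  have F1 : u1⁻¹ * τ u1 ∈ Z := fixed_mul_tau Z hsq τ hτ2 x
  have F2 : u2⁻¹ * τ u2 ∈ Z := fixed_mul_tau Z hsq τ hτ2 _
  have F3 : u3⁻¹ * τ u3 ∈ Z := fixed_mul_tau Z hsq τ hτ2 _
  have sq1 := sq_eq_one_of_fixed Z hZc hZ2 σ τ hτσ h1 h3 hσZ F1
  have sq2 := sq_eq_one_of_fixed Z hZc hZ2 σ τ hτσ h1 h3 hσZ F2
  have sq3 := sq_eq_one_of_fixed Z hZc hZ2 σ τ hτσ h1 h3 hσZ F3
  -- b1 = u1, b2 = σ u2 = x * σ (σ y), b3 = σ (σ u3) = x * σ y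
  have hb2 : σ u2 = x * σ (σ y) := by
    rw [hu2, map_mul, hσ3, hτσ, hτσ, hσ3]
  have hb3 : σ (σ u3) = x * σ y := by
    rw [hu3, map_mul, map_mul, hτσ, hσ3, hσ3]
  -- commutation
  have c12 : Commute u1 (σ u2) :=
    commutatorElement_eq_one_iff_commute.1
      (fixed_comm_sigma Z hZc hZ2 hsq σ τ hτσ h1 hc h3 hσZ hfix F1 F2)
  have c23 : Commute (σ u2) (σ (σ u3)) := by
    have := fixed_comm_sigma Z hZc hZ2 hsq σ τ hτσ h1 hc h3 hσZ hfix F2 F3
    rw [← commutatorElement_eq_one_iff_commute, ← map_commutatorElement, this, map_one]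
  have c31 : Commute (σ (σ u3)) u1 := by
    have := fixed_comm_sigma Z hZc hZ2 hsq σ τ hτσ h1 hc h3 hσZ hfix F3 F1
    rw [← commutatorElement_eq_one_iff_commute]
    apply hσinj
    rw [map_commutatorElement, hσ3, this, map_one]
  have q1 : u1 ^ 2 = 1 := by rw [pow_two]; exact sq1
  have q2 : (σ u2) ^ 2 = 1 := by rw [← map_pow, pow_two, sq2, map_one]
  have q3 : (σ (σ u3)) ^ 2 = 1 := by rw [← map_pow, ← map_pow, pow_two, sq3, map_one, map_one]
  set B := u1 * σ u2 * σ (σ u3) with hB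
  have hBB : B ^ 2 = 1 := by
    have hc' : Commute (u1 * σ u2) (σ (σ u3)) := Commute.mul_left c31.symm c23
    rw [hB, hc'.mul_pow, c12.mul_pow, q1, q2, q3, one_mul, one_mul]
  -- the exact relation
  have hyc1 : Commute y (σ y) := hc y
  have hyc2 : Commute (σ y) (σ (σ y)) := hc (σ y)
  have hy1 : y * σ y * σ (σ y) = 1 := h1 y
  have hy3 : y * σ (σ y) * σ y = 1 := by
    rw [mul_assoc, ← hyc2.eq, ← mul_assoc]; exact hy1
  set k1 := ⁅y, x⁆ with hk1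
  set k2 := ⁅y * σ (σ y), x⁆ with hk2
  have hk1Z : k1 ∈ Z := hcm _ _
  have hk2Z : k2 ∈ Z := hcm _ _
  have eB : B = x * k1 * x * k2 * x * (y * σ (σ y) * σ y) := by
    rw [hB, hb2, hb3, hu1, ← hy, hk1, hk2]
    simp only [commutatorElement_def]; group
  have e5 : B = k1 * k2 * (x * x * x) := by
    rw [eB, hy3, mul_one]
    calc x * k1 * x * k2 * x = (x * k1) * (x * k2) * x := by group
      _ = (k1 * x) * (k2 * x) * x := by rw [hZc k1 hk1Z x, hZc k2 hk2Z x]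
      _ = k1 * (x * k2) * x * x := by group
      _ = k1 * (k2 * x) * x * x := by rw [hZc k2 hk2Z x]
      _ = k1 * k2 * (x * x * x) := by group
  have hx4 : (x * x) * (x * x) = 1 := hZ2 _ (hsq x)
  have hx3 : x * x * x = x⁻¹ := by
    have : x * x * x * x = 1 := by rw [← hx4]; group
    exact eq_inv_of_mul_eq_one_left this
  set m := k1 * k2 with hm
  have hmZ : m ∈ Z := Z.mul_mem hk1Z hk2Z
  rw [hx3] at e5
  have hx : x = B⁻¹ * m := by rw [e5]; group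
  have hmm : m * m = 1 := hZ2 _ hmZ
  have hBB' : B * B = 1 := by rw [← pow_two]; exact hBB
  calc x * x = B⁻¹ * m * (B⁻¹ * m) := by rw [← hx]
    _ = B⁻¹ * (m * B⁻¹) * m := by group
    _ = B⁻¹ * (B⁻¹ * m) * m := by rw [hZc m hmZ B⁻¹]
    _ = (B * B)⁻¹ * (m * m) := by group
    _ = 1 := by rw [hBB', hmm, inv_one, one_mul]

end abstractK

end Cfsg.Agent.Lib.Helper68_O4
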