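import Mathlib
import Cfsg.Agent.Lib.Helper68_O4Basic
import Cfsg.Agent.Lib.Helper68_O4Class
import Cfsg.Agent.Lib.Helper68_O4Sym

/-!
Normal `2`-subgroups `Q` of a finite group all of whose elements have order at most `4`
(helper68): if `G` has an element of order `3` then `Q` has class at most `2`; if moreover an
involution inverts that element, `Q` is elementary abelian.
-/

set_option autoImplicit false

namespace Cfsg.Agent.Lib.Helper68_O4

open scoped commutatorElement

universe u

/-- `Ω₁(Z(Q))` for a nontrivial normal `2`-subgroup `Q`. -/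
theorem exists_central {G : Type*} [Group G] [Finite G] (h : O4 G) (Q : Subgroup G) [hn : Q.Normal]
    (hQ : IsPGroup 2 Q) (hne : Q ≠ ⊥) :
    ∃ Z : Subgroup G, Z.Normal ∧ Z ≤ Q ∧ Z ≠ ⊥ ∧ (∀ z ∈ Z, ∀ x ∈ Q, z * x = x * z) ∧
      (∀ z ∈ Z, z * z = 1) := by
  let Z : Subgroup G :=
    { carrier := {z | z ∈ Q ∧ (∀ x ∈ Q, z * x = x * z) ∧ z * z = 1}
      one_mem' := ⟨Q.one_mem, fun x _ => by simp, by simp⟩
      mul_mem' := by
        rintro a b ⟨ha, hac, ha2⟩ ⟨hb, hbc, hb2⟩
        refine ⟨Q.mul_mem ha hb, fun x hx => ?_, ?_⟩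
        · rw [mul_assoc, hbc x hx, ← mul_assoc, hac x hx, mul_assoc]
        · calc a * b * (a * b) = a * (b * a) * b := by group
            _ = a * (a * b) * b := by rw [hbc a ha]
            _ = (a * a) * (b * b) := by group
            _ = 1 := by rw [ha2, hb2, one_mul]
      inv_mem' := by
        rintro a ⟨ha, hac, ha2⟩
        refine ⟨Q.inv_mem ha, fun x hx => ?_, ?_⟩
        · have := hac x hx
          calc a⁻¹ * x = a⁻¹ * (x * a) * a⁻¹ := by group
            _ = a⁻¹ * (a * x) * a⁻¹ := by rw [this]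
            _ = x * a⁻¹ := by group
        · have : (a * a)⁻¹ = 1 := by rw [ha2, inv_one]
          rw [← this]; group }
  have hmem : ∀ z, z ∈ Z ↔ z ∈ Q ∧ (∀ x ∈ Q, z * x = x * z) ∧ z * z = 1 := fun z => Iff.rfl
  refine ⟨Z, ⟨?_⟩, fun z hz => hz.1, ?_, fun z hz => hz.2.1, fun z hz => hz.2.2⟩
  · rintro z ⟨hz, hzc, hz2⟩ g
    refine ⟨hn.conj_mem z hz g, fun x hx => ?_, ?_⟩
    · have hx' : g⁻¹ * x * g ∈ Q := by
        have := hn.conj_mem x hx g⁻¹
        simpa using this
      have := hzc _ hx'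
      calc g * z * g⁻¹ * x = g * (z * (g⁻¹ * x * g)) * g⁻¹ := by group
        _ = g * ((g⁻¹ * x * g) * z) * g⁻¹ := by rw [this]
        _ = x * (g * z * g⁻¹) := by group
    · calc g * z * g⁻¹ * (g * z * g⁻¹) = g * (z * z) * g⁻¹ := by group
        _ = 1 := by rw [hz2]; group
  · have : Nontrivial Q := (Subgroup.nontrivial_iff_ne_bot Q).2 hne
    have hc : Nontrivial (Subgroup.center Q) := hQ.center_nontrivial
    obtain ⟨⟨c, hcc⟩, hc1⟩ := exists_ne (1 : Subgroup.center Q)
    have hc1' : (c : G) ≠ 1 := by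
      intro h1
      apply hc1
      ext
      simpa using h1
    have hcomm : ∀ x ∈ Q, (c : G) * x = x * c := by
      intro x hx
      have := (Subgroup.mem_center_iff.1 hcc) ⟨x, hx⟩
      have := congrArg Subtype.val this
      simpa using this.symm
    have h4 : (c : G) ^ 4 = 1 := h.pow_four_of_mem hQ c.2
    by_cases h2 : (c : G) * c = 1
    · intro hZ
      have : (c : G) ∈ Z := ⟨c.2, hcomm, h2⟩
      rw [hZ, Subgroup.mem_bot] at this
      exact hc1' this
    · intro hZ
      have : (c : G) * c ∈ Z := by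
        refine ⟨Q.mul_mem c.2 c.2, fun x hx => ?_, ?_⟩
        · rw [mul_assoc, hcomm x hx, ← mul_assoc, hcomm x hx, mul_assoc]
        · have : (c : G) ^ 4 = (c : G) * c * (c * c) := by simp [pow_succ, mul_assoc]
          rw [← this, h4]
      rw [hZ, Subgroup.mem_bot] at this
      exact h2 this

/-- Cardinality drops when passing to the quotient by a nontrivial subgroup. -/
theorem card_quotient_lt {G : Type*} [Group G] [Finite G] (Z : Subgroup G) [Z.Normal]
    (hZ : Z ≠ ⊥) : Nat.card (G ⧸ Z) < Nat.card G := by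
  have h1 := Subgroup.card_eq_card_quotient_mul_card_subgroup Z
  have h2 : 1 < Nat.card Z := by
    rw [Subgroup.one_lt_card_iff_ne_bot]; exact hZ
  have h3 : 0 < Nat.card (G ⧸ Z) := Nat.card_pos
  rw [h1]
  nlinarith

/-- The automorphism `x ↦ s⁻¹ x s` of a normal subgroup. -/
noncomputable def sig {G : Type*} [Group G] (Q : Subgroup G) [Q.Normal] (s : G) : Q ≃* Q :=
  MulAut.conjNormal s⁻¹

theorem sig_coe {G : Type*} [Group G] (Q : Subgroup G) [Q.Normal] (s : G) (x : Q) :
    ((sig Q s x : Q) : G) = cj s x := by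
  simp [sig, cj]

theorem class_two_aux (n : ℕ) : ∀ (G : Type u) [Group G] [Finite G], Nat.card G = n → O4 G →
    ∀ (Q : Subgroup G) [Q.Normal], IsPGroup 2 Q → ∀ s : G, s ^ 3 = 1 → s ≠ 1 →
    ∀ a ∈ Q, ∀ b ∈ Q, ∀ c ∈ Q, ⁅⁅a, b⁆, c⁆ = 1 := by
  induction n using Nat.strong_induction_on with
  | _ n ih =>
  intro G _ _ hcard h Q hQn hQ s hs3 hs1
  by_cases hQb : Q = ⊥
  · intro a ha b hb c hc
    rw [hQb, Subgroup.mem_bot] at ha hb hc
    subst ha hb hc
    simp
  obtain ⟨Z, hZn, hZQ, hZne, hZc, hZ2⟩ := exists_central h Q hQ hQb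
  -- the quotient
  have hlt : Nat.card (G ⧸ Z) < n := hcard ▸ card_quotient_lt Z hZne
  have hsurj : Function.Surjective (QuotientGroup.mk' Z) := QuotientGroup.mk'_surjective Z
  have hQ'n : (Q.map (QuotientGroup.mk' Z)).Normal := hQn.map _ hsurj
  have hQ' : IsPGroup 2 (Q.map (QuotientGroup.mk' Z)) := hQ.map _
  have hsZ : s ∉ Z := fun hs => h.not_mem hQ hs3 hs1 (hZQ hs)
  have hs' : (QuotientGroup.mk' Z s) ≠ 1 := by
    intro h1
    exact hsZ ((QuotientGroup.eq_one_iff s).1 h1)
  have hs'3 : (QuotientGroup.mk' Z s) ^ 3 = 1 := by rw [← map_pow, hs3, map_one]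
  have hIH := ih _ hlt (G ⧸ Z) rfl (h.quotient Z) (Q.map (QuotientGroup.mk' Z)) hQ' _ hs'3 hs'
  have hT : ∀ a ∈ Q, ∀ b ∈ Q, ∀ c ∈ Q, ⁅⁅a, b⁆, c⁆ ∈ Z := by
    intro a ha b hb c hc
    have := hIH _ (Subgroup.mem_map_of_mem _ ha) _ (Subgroup.mem_map_of_mem _ hb) _
      (Subgroup.mem_map_of_mem _ hc)
    rw [← map_commutatorElement, ← map_commutatorElement] at this
    exact (QuotientGroup.eq_one_iff _).1 this
  -- apply the abstract theorem to `Q`
  intro a ha b hb c hc
  have key := class_two_abstract (P := Q) (Z.subgroupOf Q)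
    (by
      intro z hz x
      ext
      simpa using hZc z (Subgroup.mem_subgroupOf.1 hz) x x.2)
    (by
      intro z hz
      ext
      simpa using hZ2 z (Subgroup.mem_subgroupOf.1 hz))
    (by
      intro a b c
      rw [Subgroup.mem_subgroupOf]
      simpa [commutatorElement_def] using hT a a.2 b b.2 c c.2)
    (sig Q s)
    (by
      intro x
      ext
      rw [sig_coe, sig_coe, sig_coe]
      exact cj_cj_cj hs3 _)
    (by
      intro z hz hfix
      have h1 : cj s (z : G) = z := by rw [← sig_coe, hfix]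
      rw [cj_eq_self_iff] at h1
      rcases h.eq_one_of_commute hs3 (h.pow_four_of_mem hQ z.2) h1.symm with h2 | h2
      · exact absurd h2 hs1
      · ext; simpa using h2)
    (by
      intro x
      have := h.commute_cj hQ hs3 hs1 x.2
      have e : ((x * sig Q s x : Q) : G) = ((sig Q s x * x : Q) : G) := by
        rw [Subgroup.coe_mul, Subgroup.coe_mul, sig_coe]; exact this
      exact Subtype.ext e)
    (by
      intro x g
      have := h.engel hQ hs3 hs1 x.2 g.2
      have e : ((x * (g⁻¹ * x * g) : Q) : G) = ((g⁻¹ * x * g * x : Q) : G) := by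
        simp only [Subgroup.coe_mul, Subgroup.coe_inv]
        exact this
      exact Subtype.ext e)
    ⟨a, ha⟩ ⟨b, hb⟩ ⟨c, hc⟩
  have := congrArg Subtype.val key
  simpa [commutatorElement_def] using this

/-- The automorphism `x ↦ t x t⁻¹` of a normal subgroup. -/
noncomputable def tau {G : Type*} [Group G] (Q : Subgroup G) [Q.Normal] (t : G) : Q ≃* Q :=
  MulAut.conjNormal t

theorem tau_coe {G : Type*} [Group G] (Q : Subgroup G) [Q.Normal] (t : G) (x : Q) :
    ((tau Q t x : Q) : G) = t * x * t⁻¹ := by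
  simp [tau]

/-- An involution inverting an element of order `3` does not lie in a normal `2`-subgroup. -/
theorem not_mem_of_inverts {G : Type*} [Group G] (h : O4 G) (Q : Subgroup G) [hn : Q.Normal]
    (hQ : IsPGroup 2 Q) {s t : G} (hs3 : s ^ 3 = 1) (hs1 : s ≠ 1) (hts : t * s * t = s⁻¹) :
    t ∉ Q := by
  intro ht
  have h1 : s⁻¹ * s⁻¹ ∈ Q := by
    have e : s⁻¹ * s⁻¹ = t * (s * t * s⁻¹) := by
      calc s⁻¹ * s⁻¹ = (t * s * t) * s⁻¹ := by rw [hts]
        _ = t * (s * t * s⁻¹) := by group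
    rw [e]
    exact Q.mul_mem ht (hn.conj_mem t ht s)
  have h2 : s⁻¹ * s⁻¹ = s := by
    have := inv_mul_inv_mul_inv hs3
    calc s⁻¹ * s⁻¹ = (s⁻¹ * s⁻¹ * s⁻¹) * s := by group
      _ = s := by rw [this, one_mul]
  rw [h2] at h1
  exact h.not_mem hQ hs3 hs1 h1

theorem exponent_two_aux (n : ℕ) : ∀ (G : Type u) [Group G] [Finite G], Nat.card G = n → O4 G →
    ∀ (Q : Subgroup G) [Q.Normal], IsPGroup 2 Q → ∀ s t : G, s ^ 3 = 1 → s ≠ 1 → t * t = 1 →
    t * s * t = s⁻¹ → ∀ x ∈ Q, x * x = 1 := by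
  induction n using Nat.strong_induction_on with
  | _ n ih =>
  intro G _ _ hcard h Q hQn hQ s t hs3 hs1 ht2 hts
  by_cases hQb : Q = ⊥
  · intro x hx
    rw [hQb, Subgroup.mem_bot] at hx
    subst hx
    simp
  obtain ⟨Z, hZn, hZQ, hZne, hZc, hZ2⟩ := exists_central h Q hQ hQb
  have hlt : Nat.card (G ⧸ Z) < n := hcard ▸ card_quotient_lt Z hZne
  have hsurj : Function.Surjective (QuotientGroup.mk' Z) := QuotientGroup.mk'_surjective Z
  have hQ'n : (Q.map (QuotientGroup.mk' Z)).Normal := hQn.map _ hsurj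
  have hQ' : IsPGroup 2 (Q.map (QuotientGroup.mk' Z)) := hQ.map _
  have hsZ : s ∉ Z := fun hs => h.not_mem hQ hs3 hs1 (hZQ hs)
  have hs' : (QuotientGroup.mk' Z s) ≠ 1 := by
    intro h1
    exact hsZ ((QuotientGroup.eq_one_iff s).1 h1)
  have hs'3 : (QuotientGroup.mk' Z s) ^ 3 = 1 := by rw [← map_pow, hs3, map_one]
  have ht'2 : (QuotientGroup.mk' Z t) * (QuotientGroup.mk' Z t) = 1 := by
    rw [← map_mul, ht2, map_one]
  have hts' : (QuotientGroup.mk' Z t) * (QuotientGroup.mk' Z s) * (QuotientGroup.mk' Z t) =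
      (QuotientGroup.mk' Z s)⁻¹ := by
    rw [← map_mul, ← map_mul, hts, map_inv]
  have hIH := ih _ hlt (G ⧸ Z) rfl (h.quotient Z) (Q.map (QuotientGroup.mk' Z)) hQ' _ _ hs'3 hs'
    ht'2 hts'
  have hsq : ∀ x ∈ Q, x * x ∈ Z := by
    intro x hx
    have := hIH _ (Subgroup.mem_map_of_mem _ hx)
    rw [← map_mul] at this
    exact (QuotientGroup.eq_one_iff _).1 this
  have htQ : t ∉ Q := not_mem_of_inverts h Q hQ hs3 hs1 hts
  have htinv : t⁻¹ = t := inv_eq_of_mul_eq_one_left ht2
  have hts2 : t * s⁻¹ * t = s := by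
    have e : t * s⁻¹ * t = (t * s * t)⁻¹ := by
      have : (t * s * t)⁻¹ = t⁻¹ * s⁻¹ * t⁻¹ := by group
      rw [this, htinv]
    rw [e, hts, inv_inv]
  have hsinv2 : s⁻¹ * s⁻¹ = s := by
    have := inv_mul_inv_mul_inv hs3
    calc s⁻¹ * s⁻¹ = (s⁻¹ * s⁻¹ * s⁻¹) * s := by group
      _ = s := by rw [this, one_mul]
  have hs2 : s * s = s⁻¹ := by
    have : s * s * s = 1 := by rw [← pow_three_eq, hs3]
    exact eq_inv_of_mul_eq_one_left this
  intro x hx
  have key := exponent_two_abstract (P := Q) (Z.subgroupOf Q)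
    (by
      intro z hz x
      ext
      simpa using hZc z (Subgroup.mem_subgroupOf.1 hz) x x.2)
    (by
      intro z hz
      ext
      simpa using hZ2 z (Subgroup.mem_subgroupOf.1 hz))
    (by
      intro x
      rw [Subgroup.mem_subgroupOf]
      simpa using hsq x x.2)
    (sig Q s) (tau Q t)
    (by
      intro x
      ext
      rw [sig_coe, sig_coe, sig_coe]
      exact cj_cj_cj hs3 _)
    (by
      intro x
      ext
      rw [tau_coe, tau_coe, htinv]
      calc t * (t * (x : G) * t) * t = (t * t) * x * (t * t) := by group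
        _ = x := by rw [ht2, one_mul, mul_one])
    (by
      intro x
      ext
      rw [tau_coe, sig_coe, sig_coe, sig_coe, tau_coe, htinv]
      simp only [cj]
      calc t * (s⁻¹ * (x : G) * s) * t = (t * s⁻¹ * t) * (t⁻¹ * x * t⁻¹) * (t * s * t) := by group
        _ = s * (t * x * t) * s⁻¹ := by rw [hts2, hts, htinv]
        _ = (s⁻¹ * s⁻¹) * (t * x * t) * (s * s) := by rw [hsinv2, hs2]
        _ = s⁻¹ * (s⁻¹ * (t * x * t) * s) * s := by group)
    (by
      intro x
      have := h.prod_cj hQ hs3 hs1 x.2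
      ext
      simp only [Subgroup.coe_mul, sig_coe, Subgroup.coe_one]
      exact this)
    (by
      intro x
      have := h.commute_cj hQ hs3 hs1 x.2
      have e : ((x * sig Q s x : Q) : G) = ((sig Q s x * x : Q) : G) := by
        rw [Subgroup.coe_mul, Subgroup.coe_mul, sig_coe]; exact this
      exact Subtype.ext e)
    (by
      intro x
      ext
      simp only [Subgroup.coe_mul, tau_coe, Subgroup.coe_one, htinv]
      -- (x t)^4 = 1
      have e2 : ((x : G) * t) * (x * t) = x * (t * x * t) := by group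
      rcases h ((x : G) * t) with h3 | h4
      · exfalso
        apply htQ
        have hmem : (x : G) * (t * x * t) ∈ Q := by
          refine Q.mul_mem x.2 ?_
          have := hQn.conj_mem _ x.2 t
          rwa [htinv] at this
        have e3 : ((x : G) * t) ^ 3 = (x * (t * x * t)) * (x * t) := by
          rw [pow_three_eq, e2]
        rw [e3] at h3
        have : (x : G) * t ∈ Q := by
          have := eq_inv_of_mul_eq_one_right h3
          rw [this]
          exact Q.inv_mem hmem
        have e4 : t = (x : G)⁻¹ * (x * t) := by group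
        rw [e4]
        exact Q.mul_mem (Q.inv_mem x.2) this
      · have e4 : ((x : G) * t) ^ 4 = (x * (t * x * t)) * (x * (t * x * t)) := by
          rw [← e2]
          simp [pow_succ, mul_assoc]
        rw [← e4, h4])
    (by
      intro z hz
      rw [Subgroup.mem_subgroupOf] at hz ⊢
      rw [sig_coe]
      have := hZn.conj_mem _ hz s⁻¹
      simpa [cj] using this)
    (by
      intro z hz hfix
      have h1 : cj s (z : G) = z := by rw [← sig_coe, hfix]
      rw [cj_eq_self_iff] at h1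
      rcases h.eq_one_of_commute hs3 (h.pow_four_of_mem hQ z.2) h1.symm with h2 | h2
      · exact absurd h2 hs1
      · ext; simpa using h2)
    ⟨x, hx⟩
  have := congrArg Subtype.val key
  simpa using this

end Cfsg.Agent.Lib.Helper68_O4
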