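import Mathlib
import Cfsg.Prelude.Def_Transfer
import Cfsg.Prelude.Def_Solvable
import Cfsg.Agent.Lib.Helper68_O4Basic
import Cfsg.Agent.Lib.Helper68_O4Ind
import Cfsg.Agent.Lib.Helper1_FPF
import Cfsg.Agent.Lib.Helper55_Fitting

/-!
Groups with element orders at most `4`: the case of a self-centralizing `O_2(G)` (helper68).
-/

set_option autoImplicit false

namespace Cfsg.Agent.Lib.Helper68_O4

open scoped commutatorElement

variable {G : Type*} [Group G] [Finite G]

/-- A group of order six with a non-normal subgroup of order two is the symmetric group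
(copied from helper67's `S4062`). -/
theorem nonempty_mulEquiv_perm_fin_three' {K : Type*} [Group K] [Finite K]
    (hcard : Nat.card K = 6) (H : Subgroup K)
    (hH : Nat.card H = 2) (hnn : ¬ H.Normal) : Nonempty (K ≃* Equiv.Perm (Fin 3)) := by
  set φ := MulAction.toPermHom K (K ⧸ H) with hφ
  have hker : φ.ker = ⊥ := by
    rw [hφ, ← Subgroup.normalCore_eq_ker]
    have hle : H.normalCore ≤ H := Subgroup.normalCore_le H
    have hdvd : Nat.card H.normalCore ∣ 2 := by
      rw [← hH]; exact Subgroup.card_dvd_of_le hle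
    rcases (Nat.dvd_prime Nat.prime_two).1 hdvd with h1 | h2
    · exact Subgroup.card_eq_one.1 h1
    · exfalso
      apply hnn
      have : H.normalCore = H := Subgroup.eq_of_le_of_card_ge hle (by rw [h2, hH])
      rw [← this]
      infer_instance
  have hinj : Function.Injective φ := (MonoidHom.ker_eq_bot_iff φ).1 hker
  have hidx : Nat.card (K ⧸ H) = 3 := by
    have h1 := Subgroup.card_mul_index H
    rw [hH, hcard] at h1
    rw [← Subgroup.index_eq_card]
    omega
  have : Finite (K ⧸ H) := Nat.finite_of_card_ne_zero (by rw [hidx]; norm_num)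
  have e : (K ⧸ H) ≃ Fin 3 := Finite.equivFinOfCardEq hidx
  set ψ : K →* Equiv.Perm (Fin 3) := (e.permCongrHom.toMonoidHom).comp φ with hψ
  have hψinj : Function.Injective ψ := by
    rw [hψ]
    exact e.permCongrHom.injective.comp hinj
  have hcard2 : Nat.card (Equiv.Perm (Fin 3)) = 6 := by
    rw [Nat.card_eq_fintype_card, Fintype.card_perm, Fintype.card_fin]; rfl
  have hbij : Function.Bijective ψ :=
    Function.Injective.bijective_of_nat_card_le hψinj (by rw [hcard, hcard2])
  exact ⟨MulEquiv.ofBijective ψ hbij⟩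

/-- A Sylow `3`-subgroup has order `3` when `G` has a nontrivial normal `2`-subgroup. -/
theorem card_sylow_three (h : O4 G) (Q : Subgroup G) [hn : Q.Normal] (hQ : IsPGroup 2 Q)
    (hQb : Q ≠ ⊥) {s : G} (hs : orderOf s = 3) (S : Sylow 3 G) : Nat.card S = 3 := by
  have : Fact (Nat.Prime 3) := ⟨Nat.prime_three⟩
  have hS3 : ∀ x ∈ (S : Subgroup G), x ^ 3 = 1 := fun x hx => h.pow_three_of_mem S.2 hx
  have hfpf : ∀ x ∈ (S : Subgroup G), x ≠ 1 → Q ⊓ Subgroup.centralizer {x} = ⊥ := by
    intro x hx hx1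
    rw [eq_bot_iff]
    intro q hq
    rw [Subgroup.mem_inf, Subgroup.mem_centralizer_iff] at hq
    have hc : x * q = q * x := hq.2 x (Set.mem_singleton x)
    rcases h.eq_one_of_commute (hS3 x hx) (h.pow_four_of_mem hQ hq.1) hc with h1 | h1
    · exact absurd h1 hx1
    · rw [Subgroup.mem_bot]; exact h1
  have hSN : (S : Subgroup G) ≤ Subgroup.normalizer (Q : Set G) := by
    rw [Subgroup.normalizer_eq_top]; exact le_top
  have hord : ∀ x ∈ (S : Subgroup G), x ≠ 1 → Nat.card (Subgroup.zpowers x) = 3 := by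
    intro x hx hx1
    rw [Nat.card_zpowers]
    exact orderOf_eq_prime (hS3 x hx) hx1
  -- 3 divides |S|
  have h3G : 3 ∣ Nat.card G := hs ▸ orderOf_dvd_natCard s
  have hcardS := S.card_eq_multiplicity
  have hpos : 0 < (Nat.card G).factorization 3 :=
    Nat.Prime.factorization_pos_of_dvd Nat.prime_three Nat.card_pos.ne' h3G
  have h3S : 3 ∣ Nat.card S := by
    rw [hcardS]
    exact dvd_pow_self 3 hpos.ne'
  obtain ⟨x0, hx0⟩ := exists_prime_orderOf_dvd_card' (G := S) 3 h3S
  have hx01 : (x0 : G) ≠ 1 := by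
    intro h1
    have : x0 = 1 := by ext; simpa using h1
    rw [this, orderOf_one] at hx0
    omega
  have hle : (S : Subgroup G) ≤ Subgroup.zpowers (x0 : G) := by
    intro y hy
    by_cases hy1 : y = 1
    · rw [hy1]; exact Subgroup.one_mem _
    · have := Cfsg.Agent.Lib.Helper1_FPF.unique_subgroup_card_prime Q (S : Subgroup G) hSN hQb hfpf
        (p := 3) (S : Subgroup G) le_rfl S.2 (Subgroup.zpowers y) (Subgroup.zpowers (x0 : G))
        (by rw [Subgroup.zpowers_le]; exact hy) (by rw [Subgroup.zpowers_le]; exact x0.2)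
        (hord y hy hy1) (hord _ x0.2 hx01)
      rw [← this]
      exact Subgroup.mem_zpowers y
  have h1 : Nat.card S ≤ 3 := by
    have := Subgroup.card_le_of_le hle
    rwa [hord _ x0.2 hx01] at this
  have h2 : 3 ≤ Nat.card S := Nat.le_of_dvd Nat.card_pos h3S
  omega

/-- The quotient by `O_2(G)` has order `3` or `6`; in the latter case some element inverts
`s` modulo `Q`. -/
theorem quotient_structure [Group.IsSolvable G] (h : O4 G) (Q : Subgroup G) [hn : Q.Normal]
    (hQ : IsPGroup 2 Q) (hmax : ∀ N : Subgroup G, N.Normal → IsPGroup 2 N → N ≤ Q) (hQb : Q ≠ ⊥)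
    {s : G} (hs : orderOf s = 3) :
    Nat.card (G ⧸ Q) = 3 ∨ (Nat.card (G ⧸ Q) = 6 ∧ ∃ g : G, s * (g * s * g⁻¹) ∈ Q) := by
  have hp3 : Fact (Nat.Prime 3) := ⟨Nat.prime_three⟩
  have hs3 : s ^ 3 = 1 := hs ▸ pow_orderOf_eq_one s
  have hs1 : s ≠ 1 := by
    intro h1
    rw [h1, orderOf_one] at hs
    omega
  have hsQ : s ∉ Q := h.not_mem hQ hs3 hs1
  have hO4' := h.quotient Q
  have hmk : ∀ g : G, (QuotientGroup.mk' Q g) = 1 ↔ g ∈ Q := fun g => QuotientGroup.eq_one_iff g
  -- no nontrivial normal 2-subgroup in the quotient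
  have hno2 : ∀ N : Subgroup (G ⧸ Q), N.Normal → (∀ y ∈ N, y ^ 4 = 1) → N = ⊥ := by
    intro N hN hN4
    have hcn : (N.comap (QuotientGroup.mk' Q)).Normal := hN.comap _
    have hcp : IsPGroup 2 (N.comap (QuotientGroup.mk' Q)) := by
      intro ⟨n, hn'⟩
      refine ⟨4, ?_⟩
      have h1 : (QuotientGroup.mk' Q n) ^ 4 = 1 := hN4 _ hn'
      rw [← map_pow, hmk] at h1
      have h2 := h.pow_four_of_mem hQ h1
      ext
      simp only [Subgroup.coe_pow, Subgroup.coe_one]
      rw [show (2 : ℕ) ^ 4 = 4 * 4 by norm_num, pow_mul]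
      exact h2
    have hle := hmax _ hcn hcp
    rw [eq_bot_iff]
    intro y hy
    obtain ⟨g, rfl⟩ := QuotientGroup.mk'_surjective Q y
    rw [Subgroup.mem_bot, hmk]
    exact hle hy
  -- `O_{3'}` of the quotient is trivial
  have hpp : Cfsg.pPrimeCore 3 (G ⧸ Q) = ⊥ := by
    unfold Cfsg.pPrimeCore
    rw [eq_bot_iff]
    apply sSup_le
    rintro N ⟨hN, hcop⟩
    rw [hno2 N hN]
    intro y hy
    rcases hO4' y with h3 | h4
    · have h1 : orderOf y ∣ 3 := orderOf_dvd_of_pow_eq_one h3
      have h2 : orderOf y ∣ Nat.card N := by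
        have := orderOf_dvd_natCard (⟨y, hy⟩ : N)
        rwa [Subgroup.orderOf_mk] at this
      have : orderOf y = 1 := Nat.eq_one_of_dvd_coprimes hcop.symm h1 h2
      rw [orderOf_eq_one_iff] at this
      rw [this, one_pow]
    · exact h4
  set R := Cfsg.pCore 3 (G ⧸ Q) with hR
  have hRn : R.Normal := Cfsg.Agent.Lib.Helper1_Cores.pCore_normal 3
  have hRp : IsPGroup 3 R := Cfsg.Agent.Lib.Helper1_Cores.pCore_isPGroup 3
  have hCR : Subgroup.centralizer (R : Set (G ⧸ Q)) ≤ R :=
    Cfsg.Agent.Lib.Helper55_Fitting.centralizer_pCore_le 3 hpp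
  have hRb : R ≠ ⊥ := by
    intro hb
    rw [hb] at hCR
    have : QuotientGroup.mk' Q s ∈ (⊥ : Subgroup (G ⧸ Q)) := by
      apply hCR
      rw [Subgroup.mem_centralizer_iff]
      intro x hx
      rw [Subgroup.coe_bot, Set.mem_singleton_iff] at hx
      rw [hx, one_mul, mul_one]
    rw [Subgroup.mem_bot, hmk] at this
    exact hsQ this
  -- |R| = 3
  have hcardR : Nat.card R = 3 := by
    obtain ⟨k, hk⟩ := (IsPGroup.iff_card.1 hRp)
    obtain S : Sylow 3 G := default
    have hS := card_sylow_three h Q hQ hQb hs S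
    have hfac : (Nat.card G).factorization 3 = 1 := by
      have := S.card_eq_multiplicity
      rw [hS] at this
      have h31 : (3 : ℕ) ^ 1 = 3 ^ (Nat.card G).factorization 3 := by rw [pow_one]; exact this
      exact (Nat.pow_right_injective (by norm_num : 2 ≤ 3) h31).symm
    have hdvd : 3 ^ k ∣ Nat.card G := by
      rw [← hk]
      have h1 : Nat.card R ∣ Nat.card (G ⧸ Q) := Subgroup.card_subgroup_dvd_card R
      have h2 : Nat.card (G ⧸ Q) ∣ Nat.card G := by
        rw [Subgroup.card_eq_card_quotient_mul_card_subgroup Q]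
        exact dvd_mul_right _ _
      exact h1.trans h2
    have hk1 : k ≤ 1 := by
      rw [← hfac]
      exact (Nat.Prime.pow_dvd_iff_le_factorization Nat.prime_three Nat.card_pos.ne').1 hdvd
    have hk0 : k ≠ 0 := by
      intro h0
      rw [h0, pow_zero] at hk
      exact hRb (Subgroup.card_eq_one.1 hk)
    have : k = 1 := by omega
    rw [hk, this, pow_one]
  -- a generator
  obtain ⟨⟨r, hrR⟩, hr⟩ := exists_prime_orderOf_dvd_card' (G := R) 3 (by rw [hcardR])
  have hr3 : orderOf r = 3 := by rwa [Subgroup.orderOf_mk] at hr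
  have hr1 : r ≠ 1 := by
    intro h1
    rw [h1, orderOf_one] at hr3
    omega
  have hrpow : r ^ 3 = 1 := hr3 ▸ pow_orderOf_eq_one r
  have hRz : R = Subgroup.zpowers r := by
    symm
    apply Subgroup.eq_of_le_of_card_ge
    · rw [Subgroup.zpowers_le]; exact hrR
    · rw [Nat.card_zpowers, hr3, hcardR]
  have hRmem : ∀ y ∈ R, y = 1 ∨ y = r ∨ y = r⁻¹ := by
    intro y hy
    rw [hRz, Subgroup.mem_zpowers_iff] at hy
    obtain ⟨k, rfl⟩ := hy
    rw [← zpow_mod_orderOf, hr3]
    have h0 : 0 ≤ k % 3 := Int.emod_nonneg k (by norm_num)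
    have h3 : k % 3 < 3 := Int.emod_lt_of_pos k (by norm_num)
    have : k % ((3 : ℕ) : ℤ) = 0 ∨ k % ((3 : ℕ) : ℤ) = 1 ∨ k % ((3 : ℕ) : ℤ) = 2 := by
      push_cast; omega
    rcases this with h | h | h
    · left; rw [h, zpow_zero]
    · right; left; rw [h, zpow_one]
    · right; right
      rw [h, zpow_two]
      have : r * r * r = 1 := by rw [← pow_three_eq, hrpow]
      exact eq_inv_of_mul_eq_one_left this
  have hconj : ∀ g : G ⧸ Q, g * r * g⁻¹ = r ∨ g * r * g⁻¹ = r⁻¹ := by
    intro g
    rcases hRmem _ (hRn.conj_mem r hrR g) with h1 | h1 | h1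
    · exfalso
      apply hr1
      have : r = g⁻¹ * (g * r * g⁻¹) * g := by group
      rw [this, h1]; group
    · left; exact h1
    · right; exact h1
  set H := Subgroup.centralizer ({r} : Set (G ⧸ Q)) with hH
  have hHR : H = R := by
    apply le_antisymm
    · intro y hy
      apply hCR
      rw [Subgroup.mem_centralizer_iff]
      intro x hx
      rw [hH, Subgroup.mem_centralizer_iff] at hy
      have hyr : r * y = y * r := hy r (Set.mem_singleton r)
      rcases hRmem x hx with h1 | h1 | h1
      · rw [h1, one_mul, mul_one]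
      · rw [h1]; exact hyr
      · rw [h1]
        calc r⁻¹ * y = r⁻¹ * (y * r) * r⁻¹ := by group
          _ = r⁻¹ * (r * y) * r⁻¹ := by rw [hyr]
          _ = y * r⁻¹ := by group
    · intro y hy
      rw [hH, Subgroup.mem_centralizer_iff]
      intro x hx
      rw [Set.mem_singleton_iff] at hx
      rw [hx]
      rcases hRmem y hy with h1 | h1 | h1
      · rw [h1, one_mul, mul_one]
      · rw [h1]
      · rw [h1]; group
  have hcardH : Nat.card H = 3 := by rw [hHR, hcardR]
  have hHmem : ∀ g : G ⧸ Q, g ∈ H ↔ g * r * g⁻¹ = r := by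
    intro g
    rw [hH, Subgroup.mem_centralizer_iff]
    constructor
    · intro hg
      have := hg r (Set.mem_singleton r)
      rw [← this]; group
    · intro hg x hx
      rw [Set.mem_singleton_iff] at hx
      rw [hx]
      calc r * g = (g * r * g⁻¹) * g := by rw [hg]
        _ = g * r := by group
  by_cases hHtop : H = ⊤
  · left
    rw [← Subgroup.card_top (G := G ⧸ Q), ← hHtop, hcardH]
  · right
    obtain ⟨a, ha⟩ : ∃ a, a ∉ H := by
      by_contra hcon
      push Not at hcon
      exact hHtop (eq_top_iff.2 (fun x _ => hcon x))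
    have hainv : a * r * a⁻¹ = r⁻¹ := by
      rcases hconj a with h1 | h1
      · exact absurd ((hHmem a).2 h1) ha
      · exact h1
    have hidx : H.index = 2 := by
      rw [Subgroup.index_eq_two_iff]
      refine ⟨a, fun b => ?_⟩
      by_cases hb : b ∈ H
      · refine Or.inr ⟨hb, fun hba => ha ?_⟩
        have : a = b⁻¹ * (b * a) := by group
        rw [this]
        exact H.mul_mem (H.inv_mem hb) hba
      · refine Or.inl ⟨?_, hb⟩
        have hbinv : b * r * b⁻¹ = r⁻¹ := by
          rcases hconj b with h1 | h1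
          · exact absurd ((hHmem b).2 h1) hb
          · exact h1
        rw [hHmem]
        calc b * a * r * (b * a)⁻¹ = b * (a * r * a⁻¹) * b⁻¹ := by group
          _ = (b * r * b⁻¹)⁻¹ := by rw [hainv]; group
          _ = r := by rw [hbinv, inv_inv]
    have hcard6 : Nat.card (G ⧸ Q) = 6 := by
      have := Subgroup.card_mul_index H
      rw [hcardH, hidx] at this
      omega
    refine ⟨hcard6, ?_⟩
    -- `mk s ∈ R`
    have hsR : QuotientGroup.mk' Q s ∈ R := by
      rw [← hHR]
      have h2 := Subgroup.sq_mem_of_index_two hidx (QuotientGroup.mk' Q s)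
      have h3 : (QuotientGroup.mk' Q s) ^ 3 = 1 := by rw [← map_pow, hs3, map_one]
      have : QuotientGroup.mk' Q s = ((QuotientGroup.mk' Q s) ^ 2)⁻¹ := by
        have h32 : (QuotientGroup.mk' Q s) ^ 3 = (QuotientGroup.mk' Q s) ^ 2 * QuotientGroup.mk' Q s :=
          pow_succ _ 2
        rw [h3] at h32
        exact eq_inv_of_mul_eq_one_right h32.symm
      rw [this]
      exact H.inv_mem h2
    obtain ⟨g, rfl⟩ := QuotientGroup.mk'_surjective Q a
    refine ⟨g, ?_⟩
    rw [← hmk, map_mul, map_mul, map_mul, map_inv]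
    have hs1' : QuotientGroup.mk' Q s ≠ 1 := fun h1 => hsQ ((hmk s).1 h1)
    rcases hRmem _ hsR with h1 | h1 | h1
    · exact absurd h1 hs1'
    · rw [h1, hainv, mul_inv_cancel]
    · rw [h1]
      have : QuotientGroup.mk' Q g * r⁻¹ * (QuotientGroup.mk' Q g)⁻¹ =
          (QuotientGroup.mk' Q g * r * (QuotientGroup.mk' Q g)⁻¹)⁻¹ := by group
      rw [this, hainv, inv_inv, inv_mul_cancel]

/-- The case `O_3(G) = 1`: `Q = O_2(G)` is self-centralizing. -/
theorem two_core_case [Group.IsSolvable G] (h : O4 G) (Q : Subgroup G) [hn : Q.Normal]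
    (hQ : IsPGroup 2 Q) (hmax : ∀ N : Subgroup G, N.Normal → IsPGroup 2 N → N ≤ Q)
    (hCQ : Subgroup.centralizer (Q : Set G) ≤ Q) {s g4 : G} (hs : orderOf s = 3)
    (hg4 : orderOf g4 = 4) :
    (IsPGroup 2 Q ∧ Monoid.exponent Q = 4 ∧ Group.nilpotencyClass Q ≤ 2 ∧ Q.index = 3) ∨
    (Cfsg.IsElementaryAbelian 2 Q ∧ Nonempty (G ⧸ Q ≃* Equiv.Perm (Fin 3))) := by
  have hp2 : Fact (Nat.Prime 2) := ⟨Nat.prime_two⟩
  have hs3 : s ^ 3 = 1 := hs ▸ pow_orderOf_eq_one s
  have hs1 : s ≠ 1 := by
    intro h1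
    rw [h1, orderOf_one] at hs
    omega
  have hsQ : s ∉ Q := h.not_mem hQ hs3 hs1
  have hmk : ∀ g : G, (QuotientGroup.mk' Q g) = 1 ↔ g ∈ Q := fun g => QuotientGroup.eq_one_iff g
  have hQb : Q ≠ ⊥ := by
    intro hb
    apply hsQ
    apply hCQ
    rw [Subgroup.mem_centralizer_iff]
    intro x hx
    rw [hb, Subgroup.coe_bot, Set.mem_singleton_iff] at hx
    rw [hx, one_mul, mul_one]
  rcases quotient_structure h Q hQ hmax hQb hs with hc3 | ⟨hc6, g, hg⟩
  · left
    refine ⟨hQ, ?_, ?_, ?_⟩
    · -- exponent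
      have h1 : Monoid.exponent Q ∣ 4 := by
        apply Monoid.exponent_dvd_of_forall_pow_eq_one
        intro q
        ext
        simpa using h.pow_four_of_mem hQ q.2
      have hg4Q : g4 ∈ Q := by
        rw [← hmk]
        have h3 : (QuotientGroup.mk' Q g4) ^ 3 = 1 := by
          have := pow_card_eq_one' (x := QuotientGroup.mk' Q g4)
          rwa [hc3] at this
        have h4 : (QuotientGroup.mk' Q g4) ^ 4 = 1 := by
          rw [← map_pow, ← hg4, pow_orderOf_eq_one, map_one]
        exact eq_one_of_pow_three_of_pow_four h3 h4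
      have h2 : 4 ∣ Monoid.exponent Q := by
        have := Monoid.order_dvd_exponent (⟨g4, hg4Q⟩ : Q)
        rwa [Subgroup.orderOf_mk, hg4] at this
      exact Nat.dvd_antisymm h1 h2
    · -- class
      have hnil : Group.IsNilpotent Q := hQ.isNilpotent
      rw [← Subgroup.upperCentralSeries_eq_top_iff_nilpotencyClass_le, eq_top_iff]
      intro x _
      rw [show (2 : ℕ) = 1 + 1 by norm_num, Subgroup.mem_upperCentralSeries_succ_iff]
      intro y
      rw [Subgroup.upperCentralSeries_one, Subgroup.mem_center_iff]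
      intro z
      have key := class_two_aux (Nat.card G) G rfl h Q hQ s hs3 hs1 x x.2 y y.2 z z.2
      have hc : Commute (⁅(x : G), (y : G)⁆) (z : G) := commutatorElement_eq_one_iff_commute.1 key
      ext
      simp only [Subgroup.coe_mul, commutatorElement_def, Subgroup.coe_inv]
      rw [commutatorElement_def] at hc
      exact hc.eq.symm
    · rw [Subgroup.index_eq_card, hc3]
  · right
    -- construct the involution `t`
    have hq0 : s * (g * s * g⁻¹) ∈ Q := hg
    let ψ : Q → Q := fun q => ⟨s * ((q : G) * s⁻¹ * (q : G)⁻¹), by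
      have e : s * ((q : G) * s⁻¹ * (q : G)⁻¹) = (s * q * s⁻¹) * (q : G)⁻¹ := by group
      rw [e]
      exact Q.mul_mem (hn.conj_mem _ q.2 s) (Q.inv_mem q.2)⟩
    have hinj : Function.Injective ψ := by
      intro q q' hqq
      have e : s * ((q : G) * s⁻¹ * (q : G)⁻¹) = s * ((q' : G) * s⁻¹ * (q' : G)⁻¹) :=
        congrArg Subtype.val hqq
      have e' : (q : G) * s⁻¹ * (q : G)⁻¹ = (q' : G) * s⁻¹ * (q' : G)⁻¹ := mul_left_cancel e
      set w := (q' : G)⁻¹ * q with hw
      have hwQ : w ∈ Q := Q.mul_mem (Q.inv_mem q'.2) q.2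
      have hws : w * s⁻¹ = s⁻¹ * w := by
        calc w * s⁻¹ = (q' : G)⁻¹ * ((q : G) * s⁻¹ * (q : G)⁻¹) * q := by rw [hw]; group
          _ = (q' : G)⁻¹ * ((q' : G) * s⁻¹ * (q' : G)⁻¹) * q := by rw [e']
          _ = s⁻¹ * w := by rw [hw]; group
      have hsw : s * w = w * s := by
        calc s * w = s * (w * s⁻¹) * s := by group
          _ = s * (s⁻¹ * w) * s := by rw [hws]
          _ = w * s := by group
      rcases h.eq_one_of_commute hs3 (h.pow_four_of_mem hQ hwQ) hsw with h1 | h1
      · exact absurd h1 hs1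
      · ext
        have : (q' : G)⁻¹ * q = 1 := h1
        exact (inv_mul_eq_one.1 this).symm
    have hsurj : Function.Surjective ψ := Finite.injective_iff_surjective.1 hinj
    obtain ⟨q, hq⟩ := hsurj ⟨_, hq0⟩
    have hq' : (q : G) * s⁻¹ * (q : G)⁻¹ = g * s * g⁻¹ := by
      have := congrArg Subtype.val hq
      exact mul_left_cancel this
    set t := (q : G)⁻¹ * g with ht
    have hts0 : t * s * t⁻¹ = s⁻¹ := by
      calc t * s * t⁻¹ = (q : G)⁻¹ * (g * s * g⁻¹) * q := by rw [ht]; group
        _ = s⁻¹ := by rw [← hq']; group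
    have htt : (t * t) * s = s * (t * t) := by
      have : (t * t) * s * (t * t)⁻¹ = s := by
        calc (t * t) * s * (t * t)⁻¹ = t * (t * s * t⁻¹) * t⁻¹ := by group
          _ = t * s⁻¹ * t⁻¹ := by rw [hts0]
          _ = (t * s * t⁻¹)⁻¹ := by group
          _ = s := by rw [hts0, inv_inv]
      calc (t * t) * s = ((t * t) * s * (t * t)⁻¹) * (t * t) := by group
        _ = s * (t * t) := by rw [this]
    have ht3 : t ^ 3 ≠ 1 := by
      intro h3
      have e : t ^ 3 * s * (t ^ 3)⁻¹ = s⁻¹ := by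
        have : t ^ 3 * s * (t ^ 3)⁻¹ = t * ((t * t) * s * (t * t)⁻¹) * t⁻¹ := by
          rw [pow_three_eq]; group
        rw [this, htt]
        calc t * (s * (t * t) * (t * t)⁻¹) * t⁻¹ = t * s * t⁻¹ := by group
          _ = s⁻¹ := hts0
      rw [h3, one_mul, inv_one, mul_one] at e
      -- s = s⁻¹
      have hss : s * s = 1 := by
        calc s * s = s * s⁻¹ := by rw [← e]
          _ = 1 := mul_inv_cancel s
      apply hs1
      have : s ^ 3 = (s * s) * s := by rw [pow_three_eq]
      rw [this, hss, one_mul] at hs3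
      exact hs3
    have ht4 : t ^ 4 = 1 := by
      rcases h t with h3 | h4
      · exact absurd h3 ht3
      · exact h4
    have ht2 : t * t = 1 := by
      have h44 : (t * t) ^ 4 = 1 := by
        have : (t * t) ^ 4 = t ^ 4 * t ^ 4 := by simp [pow_succ, mul_assoc]
        rw [this, ht4, one_mul]
      rcases h.eq_one_of_commute hs3 h44 htt.symm with h1 | h1
      · exact absurd h1 hs1
      · exact h1
    have htinv : t⁻¹ = t := inv_eq_of_mul_eq_one_left ht2
    have hts : t * s * t = s⁻¹ := by
      have := hts0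
      rwa [htinv] at this
    have hexp := exponent_two_aux (Nat.card G) G rfl h Q hQ s t hs3 hs1 ht2 hts
    have htQ : t ∉ Q := not_mem_of_inverts h Q hQ hs3 hs1 hts
    refine ⟨⟨⟨⟨fun a b => ?_⟩⟩, fun a ha => by rw [pow_two]; exact hexp a ha⟩, ?_⟩
    · -- commutativity from exponent two
      have ha := hexp a a.2
      have hb := hexp b b.2
      have hab := hexp (a * b) (Q.mul_mem a.2 b.2)
      have i1 : (a : G)⁻¹ = a := inv_eq_of_mul_eq_one_left ha
      have i2 : (b : G)⁻¹ = b := inv_eq_of_mul_eq_one_left hb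
      have : (a : G) * b = ((a : G) * b)⁻¹ := (inv_eq_of_mul_eq_one_left hab).symm
      rw [mul_inv_rev, i1, i2] at this
      exact Subtype.ext this
    · -- the quotient is the symmetric group
      set t' := QuotientGroup.mk' Q t with ht'
      set s' := QuotientGroup.mk' Q s with hs'
      have ht'2 : t' * t' = 1 := by rw [ht', ← map_mul, ht2, map_one]
      have ht'1 : t' ≠ 1 := fun h1 => htQ ((hmk t).1 h1)
      have hs'1 : s' ≠ 1 := fun h1 => hsQ ((hmk s).1 h1)
      have hs'3 : s' ^ 3 = 1 := by rw [hs', ← map_pow, hs3, map_one]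
      have hts' : t' * s' * t' = s'⁻¹ := by
        rw [ht', hs', ← map_mul, ← map_mul, hts, map_inv]
      have hord : orderOf t' = 2 := orderOf_eq_prime (by rw [pow_two]; exact ht'2) ht'1
      apply nonempty_mulEquiv_perm_fin_three' hc6 (Subgroup.zpowers t')
      · rw [Nat.card_zpowers, hord]
      · intro hnorm
        have hmem := hnorm.conj_mem t' (Subgroup.mem_zpowers t') s'
        rw [Subgroup.mem_zpowers_iff] at hmem
        obtain ⟨k, hk⟩ := hmem
        rw [← zpow_mod_orderOf, hord] at hk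
        have h0 : 0 ≤ k % 2 := Int.emod_nonneg k (by norm_num)
        have h2 : k % 2 < 2 := Int.emod_lt_of_pos k (by norm_num)
        have : k % ((2 : ℕ) : ℤ) = 0 ∨ k % ((2 : ℕ) : ℤ) = 1 := by
          push_cast; omega
        rcases this with hk0 | hk1
        · rw [hk0, zpow_zero] at hk
          apply ht'1
          have : t' = s'⁻¹ * (s' * t' * s'⁻¹) * s' := by group
          rw [this, ← hk]; group
        · rw [hk1, zpow_one] at hk
          -- s' commutes with t'
          have hcomm : s' * t' = t' * s' := by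
            calc s' * t' = (s' * t' * s'⁻¹) * s' := by group
              _ = t' * s' := by rw [← hk]
          have : s'⁻¹ = s' := by
            rw [← hts', ← hcomm, mul_assoc, ht'2, mul_one]
          have hss : s' * s' = 1 := by
            calc s' * s' = s' * s'⁻¹ := by rw [this]
              _ = 1 := mul_inv_cancel s'
          apply hs'1
          have e : s' ^ 3 = (s' * s') * s' := by rw [pow_three_eq]
          rw [e, hss, one_mul] at hs'3
          exact hs'3

end Cfsg.Agent.Lib.Helper68_O4
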