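import Mathlib
import Cfsg.Prelude.Def_Transfer
import Cfsg.Agent.Lib.Helper68_O4Basic
import Cfsg.Agent.Lib.Helper50_UniqueInv2

/-!
Groups with element orders at most `4`: the case of a self-centralizing normal `3`-subgroup
(helper68).
-/

set_option autoImplicit false

namespace Cfsg.Agent.Lib.Helper68_O4

variable {G : Type*} [Group G] [Finite G]

/-- An involution inverts every element of a normal `3`-subgroup. -/
theorem inverts_of_involution (h : O4 G) (P : Subgroup G) [hn : P.Normal] (hP : IsPGroup 3 P)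
    {j : G} (hj2 : j * j = 1) (hj1 : j ≠ 1) : ∀ x ∈ P, j * x * j⁻¹ = x⁻¹ := by
  have hjinv : j⁻¹ = j := inv_eq_of_mul_eq_one_left hj2
  have hj4 : j ^ 4 = 1 := by
    have : j ^ 4 = (j * j) * (j * j) := by simp [pow_succ, mul_assoc]
    rw [this, hj2, one_mul]
  let φ : P → P := fun x => ⟨(x : G)⁻¹ * (j * x * j⁻¹), P.mul_mem (P.inv_mem x.2) (hn.conj_mem _ x.2 j)⟩
  have hinj : Function.Injective φ := by
    intro x y hxy
    have e : (x : G)⁻¹ * (j * x * j⁻¹) = (y : G)⁻¹ * (j * y * j⁻¹) := congrArg Subtype.val hxy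
    have hw : ((y : G) * (x : G)⁻¹) * j = j * ((y : G) * (x : G)⁻¹) := by
      calc ((y : G) * (x : G)⁻¹) * j = y * ((x : G)⁻¹ * (j * x * j⁻¹)) * j * (x : G)⁻¹ := by group
        _ = y * ((y : G)⁻¹ * (j * y * j⁻¹)) * j * (x : G)⁻¹ := by rw [e]
        _ = j * ((y : G) * (x : G)⁻¹) := by group
    have hw3 : ((y : G) * (x : G)⁻¹) ^ 3 = 1 :=
      h.pow_three_of_mem hP (P.mul_mem y.2 (P.inv_mem x.2))
    rcases h.eq_one_of_commute hw3 hj4 hw with h1 | h1
    · ext
      have := mul_inv_eq_one.1 h1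
      exact this.symm
    · exact absurd h1 hj1
  have hsurj : Function.Surjective φ := Finite.injective_iff_surjective.1 hinj
  intro x hx
  obtain ⟨y, hy⟩ := hsurj ⟨x, hx⟩
  have e : x = (y : G)⁻¹ * (j * y * j⁻¹) := (congrArg Subtype.val hy).symm
  rw [e, hjinv]
  calc j * ((y : G)⁻¹ * (j * y * j)) * j = j * (y : G)⁻¹ * j * y * (j * j) := by group
    _ = j * (y : G)⁻¹ * j * y := by rw [hj2, mul_one]
    _ = ((y : G)⁻¹ * (j * y * j))⁻¹ := by
      have : ((y : G)⁻¹ * (j * y * j))⁻¹ = j⁻¹ * (y : G)⁻¹ * j⁻¹ * y := by group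
      rw [this, hjinv]

/-- The case `O_2(G) = 1`: a self-centralizing normal `3`-subgroup `P`. -/
theorem three_core_case (h : O4 G) (P : Subgroup G) [hn : P.Normal] (hP : IsPGroup 3 P)
    (hCP : Subgroup.centralizer (P : Set G) ≤ P) {j g4 : G} (hj : orderOf j = 2)
    (hg4 : orderOf g4 = 4) :
    Cfsg.IsElementaryAbelian 3 P ∧
      ((IsCyclic (G ⧸ P) ∧ P.index = 4) ∨ Nonempty (G ⧸ P ≃* QuaternionGroup 2)) := by
  have hj2 : j * j = 1 := by
    have := pow_orderOf_eq_one j
    rwa [hj, pow_two] at this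
  have hj1 : j ≠ 1 := by
    intro h1
    rw [h1, orderOf_one] at hj
    omega
  -- involutions invert P
  have hinvt : ∀ i : G, i * i = 1 → i ≠ 1 → ∀ x ∈ P, i * x * i⁻¹ = x⁻¹ :=
    fun i hi2 hi1 => inverts_of_involution h P hP hi2 hi1
  -- P abelian
  have hcomm : ∀ x ∈ P, ∀ y ∈ P, x * y = y * x := by
    intro x hx y hy
    have h1 := hinvt j hj2 hj1 (x * y) (P.mul_mem hx hy)
    have h2 := hinvt j hj2 hj1 x hx
    have h3 := hinvt j hj2 hj1 y hy
    have : j * (x * y) * j⁻¹ = (j * x * j⁻¹) * (j * y * j⁻¹) := by group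
    rw [this, h2, h3] at h1
    have : (x⁻¹ * y⁻¹)⁻¹ = ((x * y)⁻¹)⁻¹ := by rw [h1]
    rw [inv_inv, mul_inv_rev, inv_inv, inv_inv] at this
    exact this.symm
  have hEA : Cfsg.IsElementaryAbelian 3 P :=
    ⟨⟨⟨fun a b => Subtype.ext (hcomm a a.2 b b.2)⟩⟩, fun a ha => h.pow_three_of_mem hP ha⟩
  refine ⟨hEA, ?_⟩
  -- product of two involutions lies in P
  have hprod : ∀ i1 i2 : G, i1 * i1 = 1 → i1 ≠ 1 → i2 * i2 = 1 → i2 ≠ 1 → i1 * i2 ∈ P := by
    intro i1 i2 h12 h11 h22 h21
    apply hCP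
    rw [Subgroup.mem_centralizer_iff]
    intro x hx
    have e1 := hinvt i2 h22 h21 x hx
    have e2 := hinvt i1 h12 h11 x⁻¹ (P.inv_mem hx)
    rw [inv_inv] at e2
    calc x * (i1 * i2) = (i1 * (i2 * x * i2⁻¹) * i1⁻¹)⁻¹⁻¹ * (i1 * i2) := by
          rw [e1, e2, inv_inv]
      _ = i1 * i2 * x := by group
  -- every 3-element lies in P
  have h3mem : ∀ g : G, g ^ 3 = 1 → g ∈ P := by
    intro g hg3
    have hjinv : j⁻¹ = j := inv_eq_of_mul_eq_one_left hj2
    set i' := g⁻¹ * j * g with hi'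
    have hi'2 : i' * i' = 1 := by
      calc i' * i' = g⁻¹ * (j * j) * g := by rw [hi']; group
        _ = 1 := by rw [hj2]; group
    have hi'1 : i' ≠ 1 := by
      intro h1
      apply hj1
      have : j = g * i' * g⁻¹ := by rw [hi']; group
      rw [this, h1]; group
    set c := j * i' with hc
    have hcP : c ∈ P := hprod j i' hj2 hj1 hi'2 hi'1
    have hc3 : c ^ 3 = 1 := h.pow_three_of_mem hP hcP
    set p := c * c with hp
    have hpP : p ∈ P := P.mul_mem hcP hcP
    -- p⁻¹ j p = j c = i'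
    have e1 : j * p * j⁻¹ = p⁻¹ := hinvt j hj2 hj1 p hpP
    have e2 : p⁻¹ * j * p = i' := by
      have : p⁻¹ * j = j * p := by
        calc p⁻¹ * j = (j * p * j⁻¹) * j := by rw [e1]
          _ = j * p := by group
      rw [this]
      have hc4 : p * p = c := by
        have : p * p = c ^ 3 * c := by rw [hp, pow_three_eq]; group
        rw [this, hc3, one_mul]
      calc j * p * p = j * (p * p) := by group
        _ = j * c := by rw [hc4]
        _ = (j * j) * i' := by rw [hc]; group
        _ = i' := by rw [hj2, one_mul]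
    set n := g * p⁻¹ with hn'
    have hnj : n * j = j * n := by
      have : n⁻¹ * j * n = j := by
        calc n⁻¹ * j * n = p * (g⁻¹ * j * g) * p⁻¹ := by rw [hn']; group
          _ = p * (p⁻¹ * j * p) * p⁻¹ := by rw [← hi', e2]
          _ = j := by group
      calc n * j = n * (n⁻¹ * j * n) := by rw [this]
        _ = j * n := by group
    have hj4 : j ^ 4 = 1 := by
      have : j ^ 4 = (j * j) * (j * j) := by simp [pow_succ, mul_assoc]
      rw [this, hj2, one_mul]
    have hn3P : n ^ 3 ∈ P := by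
      have hg3' : g * g * g = 1 := by rw [← pow_three_eq, hg3]
      have e : n ^ 3 = (g * g * g) * ((g⁻¹ * g⁻¹ * p⁻¹ * g * g) * (g⁻¹ * p⁻¹ * g) * p⁻¹) := by
        rw [hn', pow_three_eq]; group
      rw [e, hg3', one_mul]
      have hpi : p⁻¹ ∈ P := P.inv_mem hpP
      have c1 : g⁻¹ * p⁻¹ * g ∈ P := by
        have := hn.conj_mem _ hpi g⁻¹
        simpa using this
      have c2 : g⁻¹ * g⁻¹ * p⁻¹ * g * g ∈ P := by
        have := hn.conj_mem _ c1 g⁻¹
        have e : g⁻¹ * (g⁻¹ * p⁻¹ * g) * g⁻¹⁻¹ = g⁻¹ * g⁻¹ * p⁻¹ * g * g := by group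
        rwa [e] at this
      exact P.mul_mem (P.mul_mem c2 c1) hpi
    have hnP : n ∈ P := by
      rcases h n with h3 | h4
      · rcases h.eq_one_of_commute h3 hj4 hnj with h1 | h1
        · rw [h1]; exact P.one_mem
        · exact absurd h1 hj1
      · have : n = (n ^ 3)⁻¹ := by
          have h43 : n ^ 4 = n ^ 3 * n := pow_succ n 3
          rw [h4] at h43
          exact eq_inv_of_mul_eq_one_right h43.symm
        rw [this]
        exact P.inv_mem hn3P
    have : g = n * p := by rw [hn']; group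
    rw [this]
    exact P.mul_mem hnP hpP
  -- the quotient
  have hO4' := h.quotient P
  have hmk : ∀ g : G, (QuotientGroup.mk' P g) = 1 ↔ g ∈ P := fun g => QuotientGroup.eq_one_iff g
  -- every element of the quotient has fourth power one
  have hq4 : ∀ y : G ⧸ P, y ^ 4 = 1 := by
    intro y
    obtain ⟨g, rfl⟩ := QuotientGroup.mk'_surjective P y
    rcases h g with h3 | h4
    · have := h3mem g h3
      rw [(hmk g).2 this, one_pow]
    · rw [← map_pow, h4, map_one]
  have hPG : IsPGroup 2 (G ⧸ P) := by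
    intro y
    exact ⟨2, by rw [show (2 : ℕ) ^ 2 = 4 by norm_num]; exact hq4 y⟩
  -- unique involution
  have huniq : Cfsg.Agent.Lib.Helper50_UniqueInv.UniqueInvolution (G ⧸ P) := by
    have key : ∀ u : G ⧸ P, u ^ 2 = 1 → u ≠ 1 → u = QuotientGroup.mk' P j := by
      intro u hu2 hu1
      obtain ⟨g, rfl⟩ := QuotientGroup.mk'_surjective P u
      have hgP : g ∉ P := fun hg => hu1 ((hmk g).2 hg)
      have hg2P : g * g ∈ P := by
        rw [← hmk, map_mul, ← pow_two]; exact hu2
      have hg4 : g ^ 4 = 1 := by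
        rcases h g with h3 | h4
        · exact absurd (h3mem g h3) hgP
        · exact h4
      have hgg : g * g = 1 := by
        have h3 : (g * g) ^ 3 = 1 := h.pow_three_of_mem hP hg2P
        have h4 : (g * g) ^ 4 = 1 := by
          have : (g * g) ^ 4 = (g ^ 4) * (g ^ 4) := by simp [pow_succ, mul_assoc]
          rw [this, hg4, one_mul]
        exact eq_one_of_pow_three_of_pow_four h3 h4
      have hg1 : g ≠ 1 := fun h1 => hgP (h1 ▸ P.one_mem)
      have := hprod j g hj2 hj1 hgg hg1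
      rw [← hmk, map_mul] at this
      have hjq : (QuotientGroup.mk' P j) * (QuotientGroup.mk' P j) = 1 := by
        rw [← map_mul, hj2, map_one]
      calc QuotientGroup.mk' P g = ((QuotientGroup.mk' P j) * (QuotientGroup.mk' P j)) *
            QuotientGroup.mk' P g := by rw [hjq, one_mul]
        _ = QuotientGroup.mk' P j * ((QuotientGroup.mk' P j) * QuotientGroup.mk' P g) := by
            rw [mul_assoc]
        _ = QuotientGroup.mk' P j := by rw [this, mul_one]
    intro u v hu hv hu1 hv1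
    rw [key u hu hu1, key v hv hv1]
  -- an element of order 4 in the quotient
  have hg4' : orderOf (QuotientGroup.mk' P g4) = 4 := by
    have h4 : (QuotientGroup.mk' P g4) ^ 4 = 1 := hq4 _
    have h2 : (QuotientGroup.mk' P g4) ^ 2 ≠ 1 := by
      rw [← map_pow, Ne, hmk]
      intro hmem
      have h3 : (g4 ^ 2) ^ 3 = 1 := h.pow_three_of_mem hP hmem
      have h4' : (g4 ^ 2) ^ 4 = 1 := by
        rw [← pow_mul]
        have := pow_orderOf_eq_one g4
        rw [hg4] at this
        rw [show 2 * 4 = 4 * 2 by norm_num, pow_mul, this, one_pow]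
      have h1 := eq_one_of_pow_three_of_pow_four h3 h4'
      have := orderOf_dvd_of_pow_eq_one h1
      rw [hg4] at this
      omega
    have hd : orderOf (QuotientGroup.mk' P g4) ∣ 4 := orderOf_dvd_of_pow_eq_one h4
    have hnd : ¬ orderOf (QuotientGroup.mk' P g4) ∣ 2 := fun hd2 =>
      h2 (orderOf_dvd_iff_pow_eq_one.1 hd2)
    have : orderOf (QuotientGroup.mk' P g4) ∈ Nat.divisors 4 := by
      rw [Nat.mem_divisors]; exact ⟨hd, by norm_num⟩
    have hdiv : Nat.divisors 4 = {1, 2, 4} := by decide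
    rw [hdiv] at this
    simp only [Finset.mem_insert, Finset.mem_singleton] at this
    rcases this with h1 | h1 | h1
    · rw [h1] at hnd; exact absurd (by norm_num) hnd
    · rw [h1] at hnd; exact absurd (dvd_refl 2) hnd
    · exact h1
  rcases Cfsg.Agent.Lib.Helper50_UniqueInv2.isCyclic_or_quaternion hPG huniq with hcyc | ⟨k, hk, ⟨e⟩⟩
  · left
    refine ⟨hcyc, ?_⟩
    obtain ⟨c, hc⟩ := hcyc.exists_generator
    have hcard : Nat.card (G ⧸ P) = orderOf c := by
      rw [← Nat.card_zpowers]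
      have : Subgroup.zpowers c = ⊤ := by
        ext y; simp [hc y]
      rw [this, Subgroup.card_top]
    have h1 : Nat.card (G ⧸ P) ∣ 4 := by
      rw [hcard]; exact orderOf_dvd_of_pow_eq_one (hq4 c)
    have h2 : 4 ∣ Nat.card (G ⧸ P) := by
      rw [← hg4']; exact orderOf_dvd_natCard _
    rw [Subgroup.index_eq_card]
    exact Nat.dvd_antisymm h1 h2
  · right
    -- `a 1` has order `2 * 2^k`, which divides 4
    have ho : orderOf (e.symm (QuaternionGroup.a 1)) = 2 * 2 ^ k := by
      rw [MulEquiv.orderOf_eq, QuaternionGroup.orderOf_a_one]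
    have hd : 2 * 2 ^ k ∣ 4 := by
      rw [← ho]; exact orderOf_dvd_of_pow_eq_one (hq4 _)
    have hk1 : k = 1 := by
      have : 2 ^ k ∣ 2 ^ 1 := by
        have h4 : (4 : ℕ) = 2 * 2 ^ 1 := by norm_num
        rw [h4] at hd
        exact (Nat.mul_dvd_mul_iff_left (by norm_num)).1 hd
      have := (Nat.pow_dvd_pow_iff_le_right (by norm_num : 1 < 2)).1 this
      omega
    subst hk1
    exact ⟨e⟩

end Cfsg.Agent.Lib.Helper68_O4
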