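/-
OND-IDX_A (helper73, for helper68's S5989/S5991 market): the family of nondegenerate `m`-spaces
isometric to `W₀` is one orbit of the isometry group (Witt), hence orbit-stabiliser.
-/
import Mathlib
import Cfsg.Prelude.Def_GeometricClasses
import Cfsg.Agent.Lib.Helper40_OClasses
import Cfsg.Agent.Lib.Helper44_WittMat

set_option autoImplicit false

open Module Matrix
open Cfsg.Agent.Lib.Helper40_OClasses

namespace Cfsg.Agent.Lib.Helper73_OND_IDX_A

universe v

variable {F : Type v} [Field F] {ι : Type} [Fintype ι] [DecidableEq ι]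

/-- the action of the isometry group on subspaces, `g • W = g W` -/
noncomputable def act (Q : QuadraticForm F (ι → F)) :
    MulAction ↥(Cfsg.isometryGroup F ⇑Q) (Submodule F (ι → F)) where
  smul g W := W.map (Matrix.toLin' (mat Q g))
  one_smul W := by
    show W.map (Matrix.toLin' (mat Q 1)) = W
    rw [mat_one, Matrix.toLin'_one, Submodule.map_id]
  mul_smul g h W := by
    show W.map (Matrix.toLin' (mat Q (g * h))) =
      (W.map (Matrix.toLin' (mat Q h))).map (Matrix.toLin' (mat Q g))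
    have : mat Q (g * h) = mat Q g * mat Q h := rfl
    rw [this, Matrix.toLin'_mul, Submodule.map_comp]

theorem isom_apply (Q : QuadraticForm F (ι → F)) (g : ↥(Cfsg.isometryGroup F ⇑Q)) (v : ι → F) :
    Q (Matrix.toLin' (mat Q g) v) = Q v := by
  have h := g.2
  rw [Cfsg.Agent.Lib.Helper44_Orth.mem_isometryGroup_iff] at h
  rw [Matrix.toLin'_apply]
  exact h v

theorem toLin_injective (Q : QuadraticForm F (ι → F)) (g : ↥(Cfsg.isometryGroup F ⇑Q)) :
    Function.Injective (Matrix.toLin' (mat Q g)) := by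
  intro x y hxy
  have h1 := congrArg
    (fun z => (((g : Matrix.GeneralLinearGroup ι F)⁻¹ : Matrix.GeneralLinearGroup ι F) :
      Matrix ι ι F) *ᵥ z) hxy
  simp only [Matrix.toLin'_apply, Matrix.mulVec_mulVec] at h1
  rw [← Matrix.GeneralLinearGroup.coe_mul, inv_mul_cancel] at h1
  simpa using h1

theorem polar_isom (Q : QuadraticForm F (ι → F)) (g : ↥(Cfsg.isometryGroup F ⇑Q)) (x y : ι → F) :
    QuadraticMap.polar ⇑Q (Matrix.toLin' (mat Q g) x) (Matrix.toLin' (mat Q g) y) =
      QuadraticMap.polar ⇑Q x y := by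
  unfold QuadraticMap.polar
  rw [← map_add, isom_apply, isom_apply, isom_apply]

/-- membership in the family is membership in the orbit -/
theorem mem_family_iff (Q : QuadraticForm F (ι → F))
    (hQ : (QuadraticMap.polarBilin Q).Nondegenerate)
    (m : ℕ) (W₀ : Submodule F (ι → F))
    (hW₀ : finrank F W₀ = m ∧ Cfsg.Geo.IsNondegenerateOn (QuadraticMap.polar ⇑Q) W₀)
    (W : Submodule F (ι → F)) :
    (finrank F W = m ∧ Cfsg.Geo.IsNondegenerateOn (QuadraticMap.polar ⇑Q) W ∧
        Cfsg.Geo.AreIsometricFor ⇑Q W W₀) ↔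
      ∃ g : ↥(Cfsg.isometryGroup F ⇑Q), W₀.map (Matrix.toLin' (mat Q g)) = W := by
  constructor
  · rintro ⟨-, -, e, he⟩
    obtain ⟨g, -, hg⟩ := Cfsg.Agent.Lib.Helper44_WittMat.witt_matrix Q hQ W₀ W e.symm
      (fun x => by
        have := he (e.symm x)
        rw [LinearEquiv.apply_symm_apply] at this
        exact this.symm)
    refine ⟨g, ?_⟩
    rw [Matrix.toLin'_apply']
    exact hg
  · rintro ⟨g, rfl⟩
    set T := Matrix.toLin' (mat Q g) with hT
    have hinj : Function.Injective T := toLin_injective Q g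
    let e := Submodule.equivMapOfInjective T hinj W₀
    refine ⟨?_, ?_, ?_⟩
    · rw [← hW₀.1]
      exact e.finrank_eq.symm
    · rintro _ ⟨w, hw, rfl⟩ hne
      have hw0 : w ≠ 0 := by
        rintro rfl
        exact hne (map_zero T)
      obtain ⟨⟨x, hx, hx1⟩, ⟨y, hy, hy1⟩⟩ := hW₀.2 w hw hw0
      refine ⟨⟨T x, Submodule.mem_map_of_mem hx, ?_⟩, ⟨T y, Submodule.mem_map_of_mem hy, ?_⟩⟩
      · rw [hT, polar_isom]
        exact hx1
      · rw [hT, polar_isom]
        exact hy1
    · refine ⟨e.symm, fun w => ?_⟩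
      have h1 : ((e (e.symm w) : W₀.map T) : ι → F) = T ((e.symm w : W₀) : ι → F) :=
        Submodule.coe_equivMapOfInjective_apply T hinj W₀ (e.symm w)
      rw [LinearEquiv.apply_symm_apply] at h1
      rw [h1]
      exact (isom_apply Q g _).symm

/-- IDX_A: the family is one orbit of the isometry group (Witt) -/
theorem IDX_A [Fintype F] (Q : QuadraticForm F (ι → F))
    (hQ : (QuadraticMap.polarBilin Q).Nondegenerate)
    (m : ℕ) (W₀ : Submodule F (ι → F))
    (hW₀ : finrank F W₀ = m ∧ Cfsg.Geo.IsNondegenerateOn (QuadraticMap.polar ⇑Q) W₀) :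
    Nat.card {W : Submodule F (ι → F) // finrank F W = m ∧
        Cfsg.Geo.IsNondegenerateOn (QuadraticMap.polar ⇑Q) W ∧ Cfsg.Geo.AreIsometricFor ⇑Q W W₀} *
      Nat.card {g : ↥(Cfsg.isometryGroup F ⇑Q) // W₀.map (Matrix.toLin' (mat Q g)) = W₀} =
    Nat.card ↥(Cfsg.isometryGroup F ⇑Q) := by
  let _ : MulAction ↥(Cfsg.isometryGroup F ⇑Q) (Submodule F (ι → F)) := act Q
  have e1 : {W : Submodule F (ι → F) // finrank F W = m ∧
        Cfsg.Geo.IsNondegenerateOn (QuadraticMap.polar ⇑Q) W ∧ Cfsg.Geo.AreIsometricFor ⇑Q W W₀} ≃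
      ↥(MulAction.orbit ↥(Cfsg.isometryGroup F ⇑Q) W₀) :=
    Equiv.subtypeEquivRight (fun W => by
      rw [mem_family_iff Q hQ m W₀ hW₀ W, MulAction.mem_orbit_iff]
      exact Iff.rfl)
  have e2 : {g : ↥(Cfsg.isometryGroup F ⇑Q) // W₀.map (Matrix.toLin' (mat Q g)) = W₀} ≃
      ↥(MulAction.stabilizer ↥(Cfsg.isometryGroup F ⇑Q) W₀) :=
    Equiv.subtypeEquivRight (fun g => by
      rw [MulAction.mem_stabilizer_iff]
      exact Iff.rfl)
  rw [Nat.card_congr e1, Nat.card_congr e2, ← Nat.card_prod,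
    Nat.card_congr (MulAction.orbitProdStabilizerEquivGroup ↥(Cfsg.isometryGroup F ⇑Q) W₀)]

end Cfsg.Agent.Lib.Helper73_OND_IDX_A
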