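/-
OND-IDX_C (helper73, for helper68's S5989/S5991 market): arithmetic of the order formulas.
-/
import Mathlib

set_option autoImplicit false

namespace Cfsg.Agent.Lib.Helper73_OND_IDX_C

/-- each factor `q^(2(i+1)) - 1` is positive for `q ≥ 2` -/
theorem factor_pos (q : ℕ) (hq : 2 ≤ q) (i : ℕ) : 0 < q ^ (2 * (i + 1)) - 1 := by
  have h1 : 2 ^ (2 * (i + 1)) ≤ q ^ (2 * (i + 1)) := Nat.pow_le_pow_left hq _
  have h2 : 2 ≤ 2 ^ (2 * (i + 1)) := by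
    calc 2 = 2 ^ 1 := by norm_num
      _ ≤ 2 ^ (2 * (i + 1)) := Nat.pow_le_pow_right (by norm_num) (by omega)
  omega

theorem prod_pos (q : ℕ) (hq : 2 ≤ q) (b : ℕ) :
    0 < ∏ i ∈ Finset.range b, (q ^ (2 * (i + 1)) - 1) :=
  Finset.prod_pos fun i _ => factor_pos q hq i

/-- splitting the product at `b ≤ n` -/
theorem prod_split (q b n : ℕ) (hbn : b ≤ n) :
    ∏ i ∈ Finset.range n, (q ^ (2 * (i + 1)) - 1) =
      (∏ i ∈ Finset.range b, (q ^ (2 * (i + 1)) - 1)) *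
        ∏ i ∈ Finset.Ico b n, (q ^ (2 * (i + 1)) - 1) := by
  rw [Finset.range_eq_Ico, Finset.range_eq_Ico,
    Finset.prod_Ico_consecutive _ (Nat.zero_le b) hbn]

/-- the core: `r ∣ N`, `N * K * q^(b²) = q^(d(d-1)) * E * R` with `E ∣ q^(2d) - 1`. -/
theorem core (q d b N K E : ℕ) (hq : 2 ≤ q) (hd : 1 ≤ d) (hbd : b < d) {r : ℕ} (hr : r.Prime)
    (hrq : ¬ r ∣ q) (hrN : r ∣ N) (hE : E ∣ q ^ (2 * d) - 1)
    (h : N * K * (2 * q ^ (b ^ 2) * ∏ i ∈ Finset.range b, (q ^ (2 * (i + 1)) - 1)) =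
        2 * q ^ (d * (d - 1)) * E * ∏ i ∈ Finset.range (d - 1), (q ^ (2 * (i + 1)) - 1)) :
    ∃ j : ℕ, b < j ∧ j ≤ d ∧ r ∣ q ^ (2 * j) - 1 := by
  have hb1 : b ≤ d - 1 := by omega
  rw [prod_split q b (d - 1) hb1] at h
  set P := ∏ i ∈ Finset.range b, (q ^ (2 * (i + 1)) - 1) with hP
  set R := ∏ i ∈ Finset.Ico b (d - 1), (q ^ (2 * (i + 1)) - 1) with hR
  have hPpos : 0 < P := prod_pos q hq b
  have h' : (N * K * q ^ (b ^ 2)) * (2 * P) = (q ^ (d * (d - 1)) * E * R) * (2 * P) := by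
    calc (N * K * q ^ (b ^ 2)) * (2 * P) = N * K * (2 * q ^ (b ^ 2) * P) := by ring
      _ = 2 * q ^ (d * (d - 1)) * E * (P * R) := h
      _ = (q ^ (d * (d - 1)) * E * R) * (2 * P) := by ring
  have h'' : N * K * q ^ (b ^ 2) = q ^ (d * (d - 1)) * E * R :=
    Nat.eq_of_mul_eq_mul_right (by omega) h'
  have hdvd : r ∣ q ^ (d * (d - 1)) * E * R := by
    rw [← h'']
    exact Dvd.dvd.mul_right (Dvd.dvd.mul_right hrN _) _
  rcases (Nat.Prime.dvd_mul hr).1 hdvd with h1 | h1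
  · rcases (Nat.Prime.dvd_mul hr).1 h1 with h2 | h2
    · exact absurd (hr.dvd_of_dvd_pow h2) hrq
    · exact ⟨d, hbd, le_refl d, h2.trans hE⟩
  · rw [hR] at h1
    obtain ⟨i, hi, hri⟩ := (Prime.dvd_finsetProd_iff (Nat.Prime.prime hr) _).1 h1
    rw [Finset.mem_Ico] at hi
    exact ⟨i + 1, by omega, by omega, hri⟩

/-- IDX_C: arithmetic of the order formulas -/
theorem IDX_C (q d b N : ℕ) (hq : 2 ≤ q) (hd : 1 ≤ d) (hbd : b < d) {r : ℕ} (hr : r.Prime)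
    (hr2 : r ≠ 2) (hrq : ¬ r ∣ q) (hrN : r ∣ N) (K : ℕ)
    (h : N * K * (2 * q ^ (b ^ 2) * ∏ i ∈ Finset.range b, (q ^ (2 * (i + 1)) - 1)) =
        2 * q ^ (d * (d - 1)) * (q ^ d - 1) * ∏ i ∈ Finset.range (d - 1), (q ^ (2 * (i + 1)) - 1) ∨
      N * K * (2 * q ^ (b ^ 2) * ∏ i ∈ Finset.range b, (q ^ (2 * (i + 1)) - 1)) =
        2 * q ^ (d * (d - 1)) * (q ^ d + 1) * ∏ i ∈ Finset.range (d - 1), (q ^ (2 * (i + 1)) - 1)) :
    ∃ j : ℕ, b < j ∧ j ≤ d ∧ r ∣ q ^ (2 * j) - 1 := by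
  have _ := hr2
  have hqd : 1 ≤ q ^ d := Nat.one_le_pow _ _ (by omega)
  have hfac : q ^ (2 * d) - 1 = (q ^ d - 1) * (q ^ d + 1) := by
    have : q ^ (2 * d) = q ^ d * q ^ d := by rw [two_mul, pow_add]
    rw [this]
    zify [hqd, Nat.one_le_iff_ne_zero.2 (Nat.mul_ne_zero (by omega : q ^ d ≠ 0) (by omega : q ^ d ≠ 0))]
    ring
  rcases h with h | h
  · exact core q d b N K (q ^ d - 1) hq hd hbd hr hrq hrN (hfac ▸ Dvd.intro _ rfl) h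
  · exact core q d b N K (q ^ d + 1) hq hd hbd hr hrq hrN (hfac ▸ Dvd.intro_left _ rfl) h

end Cfsg.Agent.Lib.Helper73_OND_IDX_C
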