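import Mathlib
import Cfsg.Agent.Lib.Helper88_OrthNDDefs
import Cfsg.Agent.Lib.Helper99_SpAtoms
import Cfsg.Agent.Lib.Helper99_PrimeOrderSL

set_option autoImplicit false

/-!
Package R1 of S5974 / S5988 / S5990 (architect helper88): for an isometry `T` of prime order
`r ≠ p` of a quadratic space with nondegenerate polar form (any characteristic),
`V = Fix ⊥ [V, T]` with both summands nondegenerate.
-/

universe u

open Module Cfsg.Agent.Lib.Helper40_SpBasic Cfsg.Agent.Lib.Helper88_OrthNDDefs
  Cfsg.Agent.Lib.Helper99_SpAtoms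

namespace Cfsg.Agent.Lib.Helper82_OrthND_R1

section basic

variable {F : Type*} [Field F] {V : Type*} [AddCommGroup V] [Module F V]

theorem ker_eq_eigenspace (T : Module.End F V) :
    LinearMap.ker (T - 1) = Module.End.eigenspace T 1 := by
  ext v
  rw [LinearMap.mem_ker, Module.End.mem_eigenspace_iff, one_smul, LinearMap.sub_apply,
    Module.End.one_apply, sub_eq_zero]

theorem mem_ker_iff (T : Module.End F V) (v : V) : v ∈ LinearMap.ker (T - 1) ↔ T v = v := by
  rw [LinearMap.mem_ker, LinearMap.sub_apply, Module.End.one_apply, sub_eq_zero]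

/-- an isometry of `Q` preserves the polar form -/
theorem polar_iso {Q : QuadraticForm F V} {T : Module.End F V} (hT : ∀ v, Q (T v) = Q v)
    (x y : V) : QuadraticMap.polar (⇑Q) (T x) (T y) = QuadraticMap.polar (⇑Q) x y := by
  unfold QuadraticMap.polar
  rw [← map_add, hT, hT, hT]

theorem polarBilin_iso {Q : QuadraticForm F V} {T : Module.End F V} (hT : ∀ v, Q (T v) = Q v)
    (x y : V) : QuadraticMap.polarBilin Q (T x) (T y) = QuadraticMap.polarBilin Q x y :=
  polar_iso hT x y

/-- the fixed space is orthogonal to `[V, T]` -/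
theorem orth_ker_range {Q : QuadraticForm F V} {T : Module.End F V} (hT : ∀ v, Q (T v) = Q v) :
    Orth Q (LinearMap.ker (T - 1)) (LinearMap.range (T - 1)) := by
  intro u hu v hv
  rw [mem_ker_iff] at hu
  have h1 : QuadraticMap.polarBilin Q v u = 0 :=
    range_orthogonal_fix (B := QuadraticMap.polarBilin Q) (polarBilin_iso hT) hv hu
  rw [QuadraticMap.polar_comm]
  exact h1

theorem isCompl_ker_range {T : Module.End F V} {r : ℕ} (hr0 : 0 < r) (hrF : (r : F) ≠ 0)
    (hTr : T ^ r = 1) : IsCompl (LinearMap.ker (T - 1)) (LinearMap.range (T - 1)) := by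
  rw [ker_eq_eigenspace]
  exact ⟨disjoint_fix_range hrF hTr, codisjoint_iff.2 (fix_sup_range hr0 hrF hTr)⟩

/-- two mutually orthogonal subspaces spanning a nondegenerate subspace are nondegenerate -/
theorem ndOn_of_orth_sup {Q : QuadraticForm F V} {W A B : Submodule F V}
    (hW : NDOn (QuadraticMap.polarBilin Q) W) (hAB : A ⊔ B = W) (horth : Orth Q A B) :
    NDOn (QuadraticMap.polarBilin Q) A ∧ NDOn (QuadraticMap.polarBilin Q) B := by
  have hA : A ≤ W := hAB ▸ le_sup_left
  have hB : B ≤ W := hAB ▸ le_sup_right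
  constructor
  · intro x hx hxy
    apply hW x (hA hx)
    intro y hy
    rw [← hAB] at hy
    obtain ⟨a, ha, b, hb, rfl⟩ := Submodule.mem_sup.1 hy
    rw [map_add, hxy a ha, zero_add]
    exact horth x hx b hb
  · intro x hx hxy
    apply hW x (hB hx)
    intro y hy
    rw [← hAB] at hy
    obtain ⟨a, ha, b, hb, rfl⟩ := Submodule.mem_sup.1 hy
    rw [map_add, hxy b hb, add_zero]
    show QuadraticMap.polar (⇑Q) x a = 0
    rw [QuadraticMap.polar_comm]
    exact horth a ha x hx

theorem ndOn_top {Q : QuadraticForm F V} (hQ : (QuadraticMap.polarBilin Q).Nondegenerate) :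
    NDOn (QuadraticMap.polarBilin Q) ⊤ := by
  intro x _ hxy
  exact hQ.1 x (fun y => hxy y trivial)

end basic

section iso
variable {F : Type u} [Field F] [Fintype F] (p : ℕ) [Fact p.Prime] [CharP F p]
  {V : Type u} [AddCommGroup V] [Module F V] [FiniteDimensional F V]

/-- R1: `V = Fix ⊥ [V, T]` -/
theorem R1 (Q : QuadraticForm F V) (hQ : (QuadraticMap.polarBilin Q).Nondegenerate)
    (T : Module.End F V) (hT : ∀ v, Q (T v) = Q v) (r : ℕ) (hr : r.Prime) (hrp : r ≠ p)
    (hTr : T ^ r = 1) :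
    NDOn (QuadraticMap.polarBilin Q) (LinearMap.ker (T - 1)) ∧
    NDOn (QuadraticMap.polarBilin Q) (LinearMap.range (T - 1)) ∧
    Orth Q (LinearMap.ker (T - 1)) (LinearMap.range (T - 1)) ∧
    IsCompl (LinearMap.ker (T - 1)) (LinearMap.range (T - 1)) := by
  have hrF : ((r : ℕ) : F) ≠ 0 := Cfsg.Agent.Lib.Helper99_PrimeOrderSL.natCast_ne_zero (p := p) hr hrp
  have hc := isCompl_ker_range hr.pos hrF hTr
  have horth := orth_ker_range (Q := Q) hT
  obtain ⟨h1, h2⟩ := ndOn_of_orth_sup (ndOn_top hQ) hc.sup_eq_top horth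
  exact ⟨h1, h2, horth, hc⟩

end iso

end Cfsg.Agent.Lib.Helper82_OrthND_R1
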