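import Mathlib
import Cfsg.Agent.Lib.Helper88_OrthNDDefs
import Cfsg.Agent.Lib.Helper99_SpAtoms
import Cfsg.Agent.Lib.Helper99_PrimeOrderSL
import Cfsg.Agent.Lib.Helper99_DecompNec
import Cfsg.Agent.Lib.Helper82_OrthND_R1

set_option autoImplicit false

/-!
Package R2 of S5974 / S5988 / S5990 (architect helper88): an invariant nondegenerate subspace of
an isometry `T` of prime order `r ≠ p` splits along `Fix ⊥ [V, T]`.
-/

universe u

open Module Cfsg.Agent.Lib.Helper40_SpBasic Cfsg.Agent.Lib.Helper88_OrthNDDefs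
  Cfsg.Agent.Lib.Helper99_SpAtoms Cfsg.Agent.Lib.Helper82_OrthND_R1

namespace Cfsg.Agent.Lib.Helper82_OrthND_R2

section basic

variable {F : Type*} [Field F] {V : Type*} [AddCommGroup V] [Module F V]

/-- an invariant subspace splits along `Fix` and `[V, T]` -/
theorem inf_ker_sup_inf_range {T : Module.End F V} {r : ℕ} (hr0 : 0 < r) (hrF : (r : F) ≠ 0)
    (hTr : T ^ r = 1) {W : Submodule F V} (hW : Inv T W) :
    (W ⊓ LinearMap.ker (T - 1)) ⊔ (W ⊓ LinearMap.range (T - 1)) = W := by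
  apply le_antisymm (sup_le inf_le_left inf_le_left)
  intro v hv
  have hnW : Cfsg.Agent.Lib.Helper99_DecompNec.norm T r v ∈ W := by
    unfold Cfsg.Agent.Lib.Helper99_DecompNec.norm
    rw [LinearMap.sum_apply]
    exact Submodule.sum_mem _ (fun i _ => hW.pow_mem i hv)
  have hnK : Cfsg.Agent.Lib.Helper99_DecompNec.norm T r v ∈ LinearMap.ker (T - 1) := by
    rw [ker_eq_eigenspace]
    exact Cfsg.Agent.Lib.Helper99_DecompNec.norm_mem_eigenspace hr0 hTr v
  have h1 : v = (r : F)⁻¹ • Cfsg.Agent.Lib.Helper99_DecompNec.norm T r v +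
      (r : F)⁻¹ • ((r : F) • v - Cfsg.Agent.Lib.Helper99_DecompNec.norm T r v) := by
    rw [← smul_add, add_sub_cancel, smul_smul, inv_mul_cancel₀ hrF, one_smul]
  rw [h1]
  apply Submodule.add_mem_sup
  · exact Submodule.smul_mem _ _ ⟨hnW, hnK⟩
  · apply Submodule.smul_mem
    exact ⟨W.sub_mem (W.smul_mem _ hv) hnW, smul_sub_norm_mem T r v⟩

end basic

section iso
variable {F : Type u} [Field F] [Fintype F] (p : ℕ) [Fact p.Prime] [CharP F p]
  {V : Type u} [AddCommGroup V] [Module F V] [FiniteDimensional F V]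

/-- R2: an invariant nondegenerate subspace splits along `Fix ⊥ [V, T]` -/
theorem R2 (Q : QuadraticForm F V) (hQ : (QuadraticMap.polarBilin Q).Nondegenerate)
    (T : Module.End F V) (hT : ∀ v, Q (T v) = Q v) (r : ℕ) (hr : r.Prime) (hrp : r ≠ p)
    (hTr : T ^ r = 1) (W : Submodule F V) (hW : Inv T W)
    (hWnd : NDOn (QuadraticMap.polarBilin Q) W) :
    NDOn (QuadraticMap.polarBilin Q) (W ⊓ LinearMap.ker (T - 1)) ∧
    NDOn (QuadraticMap.polarBilin Q) (W ⊓ LinearMap.range (T - 1)) ∧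
    (W ⊓ LinearMap.ker (T - 1)) ⊔ (W ⊓ LinearMap.range (T - 1)) = W := by
  have hrF : ((r : ℕ) : F) ≠ 0 := Cfsg.Agent.Lib.Helper99_PrimeOrderSL.natCast_ne_zero (p := p) hr hrp
  have hsup := inf_ker_sup_inf_range hr.pos hrF hTr hW
  have horth : Orth Q (W ⊓ LinearMap.ker (T - 1)) (W ⊓ LinearMap.range (T - 1)) :=
    fun u hu v hv => orth_ker_range (Q := Q) hT u hu.2 v hv.2
  obtain ⟨h1, h2⟩ := ndOn_of_orth_sup hWnd hsup horth
  exact ⟨h1, h2, hsup⟩

end iso

end Cfsg.Agent.Lib.Helper82_OrthND_R2
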