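import Mathlib
import Cfsg.Agent.Lib.Helper88_OrthNDDefs
import Cfsg.Agent.Lib.Helper99_SpAtoms
import Cfsg.Agent.Lib.Helper99_SpNec
import Cfsg.Agent.Lib.Helper99_PrimeOrderSL
import Cfsg.Agent.Lib.Helper40_OConj
import Cfsg.Agent.Lib.Helper40_OEven
import Cfsg.Agent.Lib.Helper40_QuadStd
import Cfsg.Agent.Lib.Helper40_QuadIso
import Cfsg.Agent.Lib.Helper44_StdForms

set_option autoImplicit false

/-!
Package R3 of S5974 / S5988 / S5990 (architect helper88): an invariant nondegenerate subspace `U`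
of `[V, T]`, `T` an isometry of odd prime order `r ≠ p`: `atomDim F r ∣ dim U` and the type of `U`
is `SignPlus i (dim U / atomDim F r)`.
-/

universe u

open Polynomial Module Cfsg.Agent.Lib.Helper40_SpBasic Cfsg.Agent.Lib.Helper88_OrthNDDefs
  Cfsg.Agent.Lib.Helper99_SpAtoms Cfsg.Agent.Lib.Helper44_StdForms
  Cfsg.Agent.Lib.Helper40_OConj Cfsg.Agent.Lib.Helper40_OConj.OData
  Cfsg.Agent.Lib.Helper40_QuadIso Cfsg.Agent.Lib.Helper40_QuadStd

namespace Cfsg.Agent.Lib.Helper82_OrthND_R3

section basic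

variable {F : Type*} [Field F] {V : Type*} [AddCommGroup V] [Module F V]

/-- subspaces of every smaller dimension -/
theorem exists_le_finrank_eq' [FiniteDimensional F V] (U : Submodule F V) (n : ℕ)
    (hn : n ≤ finrank F U) : ∃ X : Submodule F V, X ≤ U ∧ finrank F X = n := by
  obtain ⟨f, hf⟩ := exists_linearIndependent_of_le_finrank hn
  have hf' : LinearIndependent F (fun i => (f i : V)) :=
    hf.map' U.subtype (Submodule.ker_subtype U)
  refine ⟨Submodule.span F (Set.range fun i => (f i : V)), ?_, ?_⟩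
  · rw [Submodule.span_le]
    rintro _ ⟨i, rfl⟩
    exact (f i).2
  · rw [finrank_span_eq_card hf', Fintype.card_fin]

/-- the plus type of a subspace in terms of the restricted form -/
theorem plusOn_iff_isHyp [FiniteDimensional F V] (Q : QuadraticForm F V) (U : Submodule F V)
    (he : Even (finrank F U)) : PlusOn Q U ↔ IsHyp (Q.comp U.subtype) := by
  constructor
  · rintro ⟨U', hU'U, hts, hdim⟩
    refine ⟨U'.comap U.subtype, ?_, ?_⟩
    · intro x hx
      exact hts _ hx
    · rw [(Submodule.comapSubtypeEquivOfLe hU'U).finrank_eq, hdim]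
  · rintro ⟨U'', hts, hdim⟩
    have hle : finrank F U / 2 ≤ finrank F U'' := by omega
    obtain ⟨X, hXU, hX⟩ := exists_le_finrank_eq' U'' (finrank F U / 2) hle
    refine ⟨X.map U.subtype, ?_, ?_, ?_⟩
    · rintro _ ⟨x, _, rfl⟩
      exact x.2
    · rintro _ ⟨x, hx, rfl⟩
      exact hts x (hXU hx)
    · rw [Submodule.finrank_map_subtype_eq, hX]
      exact Nat.two_mul_div_two_of_even he

/-- nondegeneracy of the restricted form -/
theorem nondegenerate_comp_subtype (Q : QuadraticForm F V) (U : Submodule F V)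
    (hU : NDOn (QuadraticMap.polarBilin Q) U) :
    (QuadraticMap.polarBilin (Q.comp U.subtype)).Nondegenerate := by
  constructor
  · intro x hx
    apply Subtype.ext
    apply hU x x.2
    intro y hy
    exact hx ⟨y, hy⟩
  · intro x hx
    apply Subtype.ext
    apply hU x x.2
    intro y hy
    have h1 : QuadraticMap.polar (⇑Q) y x = 0 := hx ⟨y, hy⟩
    show QuadraticMap.polar (⇑Q) x y = 0
    rw [QuadraticMap.polar_comm]
    exact h1

/-- a fixed-point-free endomorphism has no eigenvalue `1` -/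
theorem not_dvd_charpoly_of_fixedFree [FiniteDimensional F V] (a : Module.End F V)
    (hfix : ∀ v, a v = v → v = 0) : ¬ ((X : F[X]) - 1) ∣ a.charpoly := by
  intro hdvd
  have h1 : a.charpoly.IsRoot 1 := by
    rw [← dvd_iff_isRoot, C_1]
    exact hdvd
  have h2 := (Module.End.hasEigenvalue_iff_isRoot_charpoly a 1).2 h1
  obtain ⟨v, hv⟩ := h2.exists_hasEigenvector
  apply hv.2
  apply hfix
  have := hv.1
  rwa [Module.End.mem_eigenspace_iff, one_smul] at this

theorem even_atomDim (F : Type*) [Fintype F] (r : ℕ) : Even (atomDim F r) := by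
  unfold atomDim
  split_ifs with h
  · exact h
  · exact even_two_mul _

end basic

section iso
variable {F : Type u} [Field F] [Fintype F] (p : ℕ) [Fact p.Prime] [CharP F p]
  {V : Type u} [AddCommGroup V] [Module F V] [FiniteDimensional F V]

/-- R3: invariant nondegenerate subspaces of `[V, T]`: dimension and type -/
theorem R3 (Q : QuadraticForm F V) (hQ : (QuadraticMap.polarBilin Q).Nondegenerate)
    (T : Module.End F V) (hT : ∀ v, Q (T v) = Q v) (r : ℕ) (hr : r.Prime) (hr2 : r ≠ 2)
    (hrp : r ≠ p) (hTr : T ^ r = 1) (U : Submodule F V) (hUR : U ≤ LinearMap.range (T - 1))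
    (hU : Inv T U) (hUnd : NDOn (QuadraticMap.polarBilin Q) U) :
    atomDim F r ∣ finrank F U ∧
      (PlusOn Q U ↔ SignPlus (orderOf ((Fintype.card F : ℕ) : ZMod r))
        (finrank F U / atomDim F r)) := by
  classical
  have hrF : ((r : ℕ) : F) ≠ 0 :=
    Cfsg.Agent.Lib.Helper99_PrimeOrderSL.natCast_ne_zero (p := p) hr hrp
  have hodd : Odd r := hr.odd_of_ne_two hr2
  have hd : OData Q T r := ⟨hT, hTr, hodd, hrF⟩
  have hfixU : ∀ x ∈ U, T x = x → x = 0 := fun x hx h => hd.eq_zero_of_fixed x (hUR hx) h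
  -- the dimension
  have hndtw : NDOn (tw Q T r) U := by
    intro x hx hxy
    have hdx : del T r x ∈ U := by
      show (T - T ^ (r - 1)) x ∈ U
      rw [LinearMap.sub_apply]
      exact U.sub_mem (hU x hx) (hU.pow_mem (r - 1) hx)
    have h0 : del T r x = 0 := hUnd _ hdx (fun y hy => hxy y hy)
    exact hd.del_injOn x (hUR hx) h0
  have hbot : U ⊓ Module.End.eigenspace T 1 = ⊥ := by
    rw [eq_bot_iff]
    intro x hx
    rw [Submodule.mem_bot]
    apply hfixU x hx.1
    have h1 : x ∈ Module.End.eigenspace T 1 := hx.2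
    rwa [Module.End.mem_eigenspace_iff, one_smul] at h1
  have hdvd : atomDim F r ∣ finrank F U := by
    have h1 := Cfsg.Agent.Lib.Helper99_SpNec.dvd_sub_fix (p := p) hd.isoData hr hrp hU hndtw
    rw [hbot, finrank_bot, Nat.sub_zero] at h1
    exact h1
  refine ⟨hdvd, ?_⟩
  have heven : Even (finrank F U) := (even_atomDim F r).two_dvd.trans hdvd |> even_iff_two_dvd.2
  by_cases hn0 : finrank F U = 0
  · apply iff_of_true
    · refine ⟨⊥, bot_le, ?_, ?_⟩
      · intro u hu
        rw [(Submodule.mem_bot F).1 hu, map_zero]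
      · rw [finrank_bot, hn0]
    · right
      rw [hn0, Nat.zero_div]
      exact Even.zero
  obtain ⟨m, hm⟩ := heven.two_dvd
  have hm1 : 1 ≤ m := by omega
  -- the restricted data
  set Q' : QuadraticForm F U := Q.comp U.subtype with hQ'
  have hQ'nd := nondegenerate_comp_subtype Q U hUnd
  set T' : Module.End F U := T.restrict hU with hT'
  have hT'iso : ∀ x, Q' (T' x) = Q' x := fun x => hT x
  have hT'pow : T' ^ r = 1 := (hd.isoData.restrict hU).pow
  have hT'fix : ∀ x, T' x = x → x = 0 := by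
    intro x hx
    apply Subtype.ext
    exact hfixU x x.2 (congrArg Subtype.val hx)
  have hnd' := not_dvd_charpoly_of_fixedFree T' hT'fix
  obtain ⟨ζ, hζ⟩ := exists_aniso (F := F)
  rw [plusOn_iff_isHyp Q U heven]
  have hc0 : atomDim F r ≠ 0 := by
    intro h0
    rw [h0, zero_dvd_iff] at hdvd
    exact hn0 hdvd
  rcases iso_plus_or_minus m hm1 hm Q' hQ'nd 1 ζ hζ with hiso | hiso
  · -- plus type
    obtain ⟨g, hg1, hg2⟩ := Cfsg.Agent.Lib.Helper40_OEven.exists_of_iso (qfPlus m F) Q' hiso T'
      hT'iso r hr.pos hT'pow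
    obtain ⟨h1, h2⟩ := Cfsg.Agent.Lib.Helper40_OEven.plus_excl p m hm1 r hr hr2 hrp g hg1
      (by rw [hg2]; exact hnd')
    apply iff_of_true (IsHyp.of_iso hiso.symm (isHyp_qfPlus m))
    by_cases hio : Odd (orderOf ((Fintype.card F : ℕ) : ZMod r))
    · exact Or.inl hio
    · right
      have hie : Even (orderOf ((Fintype.card F : ℕ) : ZMod r)) := Nat.not_odd_iff_even.1 hio
      have hi1 : orderOf ((Fintype.card F : ℕ) : ZMod r) ≠ 1 := by
        intro h
        rw [h] at hie
        exact (by decide : ¬ Even 1) hie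
      obtain ⟨k, hk⟩ := h2 hi1
      have hc : atomDim F r = orderOf ((Fintype.card F : ℕ) : ZMod r) := by
        unfold atomDim
        rw [if_pos hie]
      rw [hc] at hc0 ⊢
      rw [hm, hk, ← mul_assoc, mul_comm 2, mul_assoc, Nat.mul_div_cancel_left _ (Nat.pos_of_ne_zero hc0)]
      exact even_two_mul k
  · -- minus type
    obtain ⟨g, hg1, hg2⟩ := Cfsg.Agent.Lib.Helper40_OEven.exists_of_iso (qfMinus (m - 1) F 1 ζ) Q'
      hiso T' hT'iso r hr.pos hT'pow
    obtain ⟨h1, h2, h3⟩ := Cfsg.Agent.Lib.Helper40_OEven.minus_excl p m hm1 r hr hr2 hrp 1 ζ hζ g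
      hg1 (by rw [hg2]; exact hnd')
    apply iff_of_false
    · intro hh
      exact not_isHyp_qfMinus (m - 1) 1 ζ hζ (IsHyp.of_iso hiso hh)
    · rintro (hio | hek)
      · exact h1 hio
      · have hie : Even (orderOf ((Fintype.card F : ℕ) : ZMod r)) := Nat.not_odd_iff_even.1 h1
        have hc : atomDim F r = orderOf ((Fintype.card F : ℕ) : ZMod r) := by
          unfold atomDim
          rw [if_pos hie]
        rw [hc, hm] at hek
        exact h3 (Cfsg.Agent.Lib.Helper40_OEven.dvd_of_even_div _ m h2 hek)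

end iso

end Cfsg.Agent.Lib.Helper82_OrthND_R3
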