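import Mathlib
import Cfsg.Agent.Lib.Helper40_SpBasic
import Cfsg.Agent.Lib.Helper99_SpAtoms
import Cfsg.Agent.Lib.Helper88_OrthNDDefs
import Cfsg.Agent.Lib.Helper40_QuadStd
import Cfsg.Agent.Lib.Helper40_QuadIso
import Cfsg.Agent.Lib.Helper82_OrthND_R1
import Cfsg.Agent.Lib.Helper82_OrthND_R2
import Cfsg.Agent.Lib.Helper82_OrthND_R3
import Cfsg.Agent.S0750
import Cfsg.Agent.Lib.Helper73_OTS_OW2
import Cfsg.Agent.Lib.Helper99_SubspaceCount

set_option autoImplicit false
universe u

open Module Cfsg.Agent.Lib.Helper40_SpBasic Cfsg.Agent.Lib.Helper88_OrthNDDefs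
  Cfsg.Agent.Lib.Helper99_SpAtoms

namespace Cfsg.Agent.Lib.Helper89_OrthND_CLEM

open Cfsg.Agent.Lib.Helper40_QuadIso Cfsg.Agent.Lib.Helper40_QuadStd

section restrict

variable {F : Type*} [Field F] {V : Type*} [AddCommGroup V] [Module F V]

/-- the restriction of a quadratic form to a subspace -/
noncomputable def Qr (Q : QuadraticForm F V) (W : Submodule F V) : QuadraticForm F W :=
  Q.comp W.subtype

theorem Qr_apply (Q : QuadraticForm F V) (W : Submodule F V) (w : W) : Qr Q W w = Q (w : V) := rfl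

theorem polar_Qr (Q : QuadraticForm F V) (W : Submodule F V) (x y : W) :
    QuadraticMap.polarBilin (Qr Q W) x y = QuadraticMap.polarBilin Q (x : V) (y : V) := by
  simp only [QuadraticMap.polarBilin_apply_apply, QuadraticMap.polar, Qr_apply]
  rfl

theorem polar_symm (Q : QuadraticForm F V) (x y : V) :
    QuadraticMap.polarBilin Q x y = QuadraticMap.polarBilin Q y x := by
  simp only [QuadraticMap.polarBilin_apply_apply]
  exact QuadraticMap.polar_comm Q x y

theorem nondeg_Qr {Q : QuadraticForm F V} {W : Submodule F V}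
    (hW : NDOn (QuadraticMap.polarBilin Q) W) : (QuadraticMap.polarBilin (Qr Q W)).Nondegenerate := by
  have hl : (QuadraticMap.polarBilin (Qr Q W)).SeparatingLeft := by
    intro x hx
    have := hW (x : V) x.2 (fun y hy => by
      have := hx ⟨y, hy⟩
      rwa [polar_Qr] at this)
    exact Subtype.ext this
  refine ⟨hl, ?_⟩
  intro y hy
  exact hl y (fun x => by rw [polar_symm]; exact hy x)

theorem ndOn_of_nondeg_Qr {Q : QuadraticForm F V} {W : Submodule F V}
    (h : (QuadraticMap.polarBilin (Qr Q W)).Nondegenerate) : NDOn (QuadraticMap.polarBilin Q) W := by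
  intro x hx hxy
  have := h.1 ⟨x, hx⟩ (fun y => by
    rw [polar_Qr]
    exact hxy y y.2)
  exact congrArg Subtype.val this

end restrict

section types

variable {F : Type u} [Field F] {V : Type u} [AddCommGroup V] [Module F V] [FiniteDimensional F V]

omit [FiniteDimensional F V] in
theorem isHyp_of_plusOn {Q : QuadraticForm F V} {W : Submodule F V} (h : PlusOn Q W) :
    IsHyp (Qr Q W) := by
  obtain ⟨U, hUW, hU, hdim⟩ := h
  refine ⟨U.comap W.subtype, ?_, ?_⟩
  · intro u hu
    exact hU _ hu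
  · rw [Cfsg.Agent.Lib.Helper99_SubspaceCount.finrank_comap_subtype hUW, hdim]

theorem plusOn_of_isHyp {Q : QuadraticForm F V} {W : Submodule F V}
    (hW : NDOn (QuadraticMap.polarBilin Q) W) (h : IsHyp (Qr Q W)) : PlusOn Q W := by
  obtain ⟨U, hU, hdim⟩ := h
  refine ⟨U.map W.subtype, Submodule.map_subtype_le W U, ?_, ?_⟩
  · rintro _ ⟨u, hu, rfl⟩
    exact hU u hu
  · have h1 : finrank F (U.map W.subtype) = finrank F U :=
      (Submodule.equivSubtypeMap W U).symm.finrank_eq
    have h2 : 2 * finrank F (U.map W.subtype) ≤ finrank F W :=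
      Cfsg.Agent.Lib.Helper73_OTS_OW2.OW2 Q W hW (U.map W.subtype) (Submodule.map_subtype_le W U)
        (by
          rintro _ ⟨u, hu, rfl⟩
          exact hU u hu)
    omega

/-- two nondegenerate subspaces of the same even dimension and the same type are isometric -/
theorem iso_of_same_type [Fintype F] {Q : QuadraticForm F V} {W W' : Submodule F V} (k : ℕ) (hk : 1 ≤ k)
    (hW : NDOn (QuadraticMap.polarBilin Q) W) (hW' : NDOn (QuadraticMap.polarBilin Q) W')
    (hd : finrank F W = 2 * k) (hd' : finrank F W' = 2 * k)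
    (ht : PlusOn Q W ↔ PlusOn Q W') : Iso (Qr Q W) (Qr Q W') := by
  obtain ⟨ζ, hζ⟩ := exists_aniso (F := F)
  rcases iso_plus_or_minus k hk hd (Qr Q W) (nondeg_Qr hW) 1 ζ hζ with h1 | h1 <;>
  rcases iso_plus_or_minus k hk hd' (Qr Q W') (nondeg_Qr hW') 1 ζ hζ with h2 | h2
  · exact h1.trans h2.symm
  · exfalso
    have hp : PlusOn Q W := plusOn_of_isHyp hW (IsHyp.of_iso h1.symm (isHyp_qfPlus k))
    have hp' : IsHyp (Qr Q W') := isHyp_of_plusOn (ht.1 hp)
    exact not_isHyp_qfMinus (k - 1) 1 ζ hζ (IsHyp.of_iso h2 hp')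
  · exfalso
    have hp : PlusOn Q W' := plusOn_of_isHyp hW' (IsHyp.of_iso h2.symm (isHyp_qfPlus k))
    have hp' : IsHyp (Qr Q W) := isHyp_of_plusOn (ht.2 hp)
    exact not_isHyp_qfMinus (k - 1) 1 ζ hζ (IsHyp.of_iso h1 hp')
  · exact h1.trans h2.symm

/-- Witt: the isometry group is transitive on nondegenerate subspaces of a given even dimension and
type -/
theorem exists_isometry_map [Fintype F] {Q : QuadraticForm F V}
    (hQ : (QuadraticMap.polarBilin Q).Nondegenerate) {W W' : Submodule F V} (k : ℕ) (hk : 1 ≤ k)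
    (hW : NDOn (QuadraticMap.polarBilin Q) W) (hW' : NDOn (QuadraticMap.polarBilin Q) W')
    (hd : finrank F W = 2 * k) (hd' : finrank F W' = 2 * k)
    (ht : PlusOn Q W ↔ PlusOn Q W') :
    ∃ g : V ≃ₗ[F] V, (∀ v, Q (g v) = Q v) ∧ W.map (g : V →ₗ[F] V) = W' := by
  obtain ⟨φ, hφ⟩ := iso_of_same_type k hk hW hW' hd hd' ht
  obtain ⟨g, hg, hgφ⟩ := Cfsg.Agent.S0750.result Q hQ W W' φ (fun x => hφ x)
  refine ⟨g, hg, ?_⟩
  apply le_antisymm
  · rintro _ ⟨w, hw, rfl⟩
    have := hgφ ⟨w, hw⟩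
    rw [LinearEquiv.coe_coe]
    simp only at this
    rw [this]
    exact (φ ⟨w, hw⟩).2
  · intro w' hw'
    refine ⟨(φ.symm ⟨w', hw'⟩ : V), (φ.symm ⟨w', hw'⟩).2, ?_⟩
    rw [LinearEquiv.coe_coe, hgφ, φ.apply_symm_apply]

end types

section action

variable {F : Type u} [Field F] {V : Type u} [AddCommGroup V] [Module F V]

/-- the isometry group of `Q` inside the group of linear automorphisms -/
def isoGrp (Q : QuadraticForm F V) : Subgroup (V ≃ₗ[F] V) where
  carrier := {g | ∀ v, Q (g v) = Q v}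
  mul_mem' := by
    intro g h hg hh v
    rw [LinearEquiv.mul_apply, hg, hh]
  one_mem' := fun v => rfl
  inv_mem' := by
    intro g hg v
    have := hg (g⁻¹ v)
    rw [← this]
    congr 1
    exact LinearEquiv.apply_symm_apply g v

theorem mem_isoGrp {Q : QuadraticForm F V} {g : V ≃ₗ[F] V} : g ∈ isoGrp Q ↔ ∀ v, Q (g v) = Q v :=
  Iff.rfl

theorem polar_isometry {Q : QuadraticForm F V} {g : V ≃ₗ[F] V} (hg : ∀ v, Q (g v) = Q v) (x y : V) :
    QuadraticMap.polarBilin Q (g x) (g y) = QuadraticMap.polarBilin Q x y := by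
  simp only [QuadraticMap.polarBilin_apply_apply, QuadraticMap.polar]
  rw [← map_add, hg, hg, hg]

theorem ndOn_map {Q : QuadraticForm F V} {g : V ≃ₗ[F] V} (hg : ∀ v, Q (g v) = Q v)
    {W : Submodule F V} (hW : NDOn (QuadraticMap.polarBilin Q) W) :
    NDOn (QuadraticMap.polarBilin Q) (W.map (g : V →ₗ[F] V)) := by
  rintro _ ⟨w, hw, rfl⟩ h
  have : w = 0 := hW w hw (fun y hy => by
    have := h (g y) ⟨y, hy, rfl⟩
    rw [LinearEquiv.coe_coe] at this
    rwa [polar_isometry hg] at this)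
  rw [this, map_zero]

theorem plusOn_map [FiniteDimensional F V] {Q : QuadraticForm F V} {g : V ≃ₗ[F] V}
    (hg : ∀ v, Q (g v) = Q v) {W : Submodule F V} (hW : PlusOn Q W) :
    PlusOn Q (W.map (g : V →ₗ[F] V)) := by
  obtain ⟨U, hUW, hU, hdim⟩ := hW
  refine ⟨U.map (g : V →ₗ[F] V), Submodule.map_mono hUW, ?_, ?_⟩
  · rintro _ ⟨u, hu, rfl⟩
    rw [LinearEquiv.coe_coe, hg]
    exact hU u hu
  · rw [LinearEquiv.finrank_map_eq, LinearEquiv.finrank_map_eq, hdim]

theorem map_symm_map (g : V ≃ₗ[F] V) (W : Submodule F V) :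
    (W.map (g : V →ₗ[F] V)).map ((g⁻¹ : V ≃ₗ[F] V) : V →ₗ[F] V) = W := by
  ext v
  constructor
  · rintro ⟨_, ⟨w, hw, rfl⟩, rfl⟩
    simp only [LinearEquiv.coe_coe]
    have : g⁻¹ (g w) = w := LinearEquiv.symm_apply_apply g w
    rw [this]
    exact hw
  · intro hv
    refine ⟨g v, ⟨v, hv, rfl⟩, ?_⟩
    exact LinearEquiv.symm_apply_apply g v

theorem plusOn_map_iff [FiniteDimensional F V] {Q : QuadraticForm F V} {g : V ≃ₗ[F] V}
    (hg : g ∈ isoGrp Q) (W : Submodule F V) :
    PlusOn Q (W.map (g : V →ₗ[F] V)) ↔ PlusOn Q W := by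
  constructor
  · intro h
    have := plusOn_map (g := g⁻¹) ((isoGrp Q).inv_mem hg) h
    rwa [map_symm_map] at this
  · exact plusOn_map hg

/-- the set of nondegenerate `m`-spaces of type `eta` -/
abbrev Om [FiniteDimensional F V] (Q : QuadraticForm F V) (m : ℕ) (eta : Prop) : Type u :=
  {W : Submodule F V // finrank F W = m ∧ NDOn (QuadraticMap.polarBilin Q) W ∧ (PlusOn Q W ↔ eta)}

variable [FiniteDimensional F V]

noncomputable instance actOm (Q : QuadraticForm F V) (m : ℕ) (eta : Prop) :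
    MulAction (isoGrp Q) (Om Q m eta) where
  smul g W := ⟨W.1.map ((g : V ≃ₗ[F] V) : V →ₗ[F] V), by
    rw [LinearEquiv.finrank_map_eq]; exact W.2.1, ndOn_map g.2 W.2.2.1,
    (plusOn_map_iff g.2 W.1).trans W.2.2.2⟩
  one_smul W := by
    apply Subtype.ext
    show W.1.map (((1 : isoGrp Q) : V ≃ₗ[F] V) : V →ₗ[F] V) = W.1
    ext v
    constructor
    · rintro ⟨w, hw, rfl⟩
      exact hw
    · intro hv
      exact ⟨v, hv, rfl⟩
  mul_smul g h W := by
    apply Subtype.ext
    show W.1.map (((g * h : isoGrp Q) : V ≃ₗ[F] V) : V →ₗ[F] V) =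
      (W.1.map ((h : V ≃ₗ[F] V) : V →ₗ[F] V)).map ((g : V ≃ₗ[F] V) : V →ₗ[F] V)
    ext v
    constructor
    · rintro ⟨w, hw, rfl⟩
      exact ⟨h.1 w, ⟨w, hw, rfl⟩, rfl⟩
    · rintro ⟨_, ⟨w, hw, rfl⟩, rfl⟩
      exact ⟨w, hw, rfl⟩

theorem smul_val {Q : QuadraticForm F V} {m : ℕ} {eta : Prop} (g : isoGrp Q) (W : Om Q m eta) :
    (g • W).1 = W.1.map ((g : V ≃ₗ[F] V) : V →ₗ[F] V) := rfl

end action

section counting

variable {F : Type u} [Field F] [Fintype F] {V : Type u} [AddCommGroup V] [Module F V]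
  [FiniteDimensional F V]

theorem finite_V (F : Type u) [Field F] [Fintype F] (V : Type u) [AddCommGroup V] [Module F V]
    [FiniteDimensional F V] : Finite V := Module.finite_of_finite F

theorem finite_aut : Finite (V ≃ₗ[F] V) := by
  have : Finite V := finite_V F V
  exact Finite.of_injective (fun g : V ≃ₗ[F] V => (g : V → V)) DFunLike.coe_injective

theorem finite_sub : Finite (Submodule F V) := by
  have : Finite V := finite_V F V
  exact Finite.of_injective (fun W : Submodule F V => (W : Set V)) SetLike.coe_injective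

theorem pretransitive {Q : QuadraticForm F V} (hQ : (QuadraticMap.polarBilin Q).Nondegenerate)
    (k : ℕ) (hk : 1 ≤ k) (eta : Prop) : MulAction.IsPretransitive (isoGrp Q) (Om Q (2 * k) eta) := by
  constructor
  intro W W'
  obtain ⟨g, hg, hgW⟩ := exists_isometry_map hQ k hk W.2.2.1 W'.2.2.1 W.2.1 W'.2.1
    (W.2.2.2.trans W'.2.2.2.symm)
  exact ⟨⟨g, hg⟩, Subtype.ext hgW⟩

/-- if `r` divides the number of `(2k, eta)`-spaces then there are isometries of order `r` -/
theorem exists_order {Q : QuadraticForm F V} (hQ : (QuadraticMap.polarBilin Q).Nondegenerate)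
    (k : ℕ) (hk : 1 ≤ k) (eta : Prop) (W₀ : Om Q (2 * k) eta) (r : ℕ) (hr : r.Prime)
    (hdvd : r ∣ Nat.card (Om Q (2 * k) eta)) : ∃ X : isoGrp Q, orderOf X = r := by
  have : Finite (V ≃ₗ[F] V) := finite_aut
  have := pretransitive hQ k hk eta
  have : Fact r.Prime := ⟨hr⟩
  have h1 : (MulAction.stabilizer (isoGrp Q) W₀).index = Nat.card (Om Q (2 * k) eta) :=
    MulAction.index_stabilizer_of_transitive (isoGrp Q) W₀
  have h2 : r ∣ Nat.card (isoGrp Q) := by
    refine hdvd.trans ?_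
    rw [← h1]
    exact Subgroup.index_dvd_card _
  exact exists_prime_orderOf_dvd_card' r h2

/-- the fixed point congruence for an isometry of prime order `r` -/
theorem card_fixed {Q : QuadraticForm F V} (m : ℕ) (eta : Prop) (r : ℕ) (hr : r.Prime)
    (X : isoGrp Q) (hX : orderOf X = r) :
    Nat.card (Om Q m eta) ≡ Nat.card {W : Om Q m eta // X • W = W} [MOD r] := by
  have : Finite (Submodule F V) := finite_sub
  have : Finite (Om Q m eta) := Subtype.finite
  have : Fact r.Prime := ⟨hr⟩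
  have hp : IsPGroup r (Subgroup.zpowers X) := by
    apply IsPGroup.of_card (n := 1)
    rw [Nat.card_zpowers, hX, pow_one]
  have h1 := hp.card_modEq_card_fixedPoints (Om Q m eta)
  have h2 : (MulAction.fixedPoints (Subgroup.zpowers X) (Om Q m eta)) = {W | X • W = W} := by
    ext W
    rw [MulAction.mem_fixedPoints, Set.mem_ofPred_eq]
    constructor
    · intro h
      exact h ⟨X, Subgroup.mem_zpowers X⟩
    · intro h g
      have hle : Subgroup.zpowers X ≤ MulAction.stabilizer (isoGrp Q) W := by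
        rw [Subgroup.zpowers_le]
        exact h
      exact hle g.2
  rw [h2] at h1
  exact h1

end counting

section fixed

variable {F : Type u} [Field F] [Fintype F] (p : ℕ) [Fact p.Prime] [CharP F p]
  {V : Type u} [AddCommGroup V] [Module F V] [FiniteDimensional F V]

omit [Fintype F] [FiniteDimensional F V] in
theorem coe_pow (x : V ≃ₗ[F] V) (n : ℕ) :
    ((x ^ n : V ≃ₗ[F] V) : V →ₗ[F] V) = ((x : V →ₗ[F] V) : Module.End F V) ^ n :=
  map_pow (LinearEquiv.automorphismGroup.toLinearMapMonoidHom (R := F) (M := V)) x n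

omit [Fintype F] [FiniteDimensional F V] in
theorem end_pow_eq_one {x : V ≃ₗ[F] V} {r : ℕ} (hxr : x ^ r = 1) :
    ((x : V →ₗ[F] V) : Module.End F V) ^ r = 1 := by
  rw [← coe_pow, hxr]
  rfl

/-- an invariant nondegenerate subspace of dimension less than the atom dimension is fixed pointwise -/
theorem le_ker_of_invariant (Q : QuadraticForm F V) (hQ : (QuadraticMap.polarBilin Q).Nondegenerate)
    (x : V ≃ₗ[F] V) (hx : ∀ v, Q (x v) = Q v) (r : ℕ) (hr : r.Prime) (hr2 : r ≠ 2) (hrp : r ≠ p)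
    (hxr : x ^ r = 1) (W : Submodule F V) (hWinv : W.map (x : V →ₗ[F] V) ≤ W)
    (hWnd : NDOn (QuadraticMap.polarBilin Q) W) (hlt : finrank F W < atomDim F r) :
    W ≤ LinearMap.ker (((x : V →ₗ[F] V) : Module.End F V) - 1) := by
  set T : Module.End F V := (x : V →ₗ[F] V) with hT
  have hTiso : ∀ v, Q (T v) = Q v := hx
  have hTr : T ^ r = 1 := end_pow_eq_one hxr
  have hInv : Inv T W := fun w hw => hWinv ⟨w, hw, rfl⟩
  obtain ⟨-, hnd2, hsup⟩ := Cfsg.Agent.Lib.Helper82_OrthND_R2.R2 p Q hQ T hTiso r hr hrp hTr W hInv hWnd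
  have hInvU : Inv T (W ⊓ LinearMap.range (T - 1)) := by
    rintro w ⟨hw, u, rfl⟩
    refine ⟨hInv _ hw, T u, ?_⟩
    simp only [LinearMap.sub_apply, Module.End.one_apply, map_sub]
  obtain ⟨hdvd, -⟩ := Cfsg.Agent.Lib.Helper82_OrthND_R3.R3 p Q hQ T hTiso r hr hr2 hrp hTr
    (W ⊓ LinearMap.range (T - 1)) inf_le_right hInvU hnd2
  have hle : finrank F ↥(W ⊓ LinearMap.range (T - 1)) ≤ finrank F W :=
    Submodule.finrank_mono inf_le_left
  have h0 : finrank F ↥(W ⊓ LinearMap.range (T - 1)) = 0 :=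
    Nat.eq_zero_of_dvd_of_lt hdvd (lt_of_le_of_lt hle hlt)
  have hbot : W ⊓ LinearMap.range (T - 1) = ⊥ := Submodule.finrank_eq_zero.1 h0
  rw [hbot, sup_bot_eq] at hsup
  rw [← hsup]
  exact inf_le_right

end fixed

section sub

variable {F : Type u} [Field F] {V : Type u} [AddCommGroup V] [Module F V] [FiniteDimensional F V]
variable (Q : QuadraticForm F V) (C : Submodule F V)

omit [FiniteDimensional F V] in
theorem ndOn_map_subtype (W' : Submodule F C) :
    NDOn (QuadraticMap.polarBilin Q) (W'.map C.subtype) ↔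
      NDOn (QuadraticMap.polarBilin (Qr Q C)) W' := by
  constructor
  · intro h x hx hxy
    have := h (x : V) ⟨x, hx, rfl⟩ (by
      rintro _ ⟨y, hy, rfl⟩
      have := hxy y hy
      rwa [polar_Qr] at this)
    exact Subtype.ext this
  · rintro h _ ⟨x, hx, rfl⟩ hxy
    have := h x hx (fun y hy => by
      rw [polar_Qr]
      exact hxy (y : V) ⟨y, hy, rfl⟩)
    rw [this]
    rfl

omit [FiniteDimensional F V] in
theorem finrank_map_subtype' (W' : Submodule F C) :
    finrank F (W'.map C.subtype) = finrank F W' :=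
  (Submodule.equivSubtypeMap C W').symm.finrank_eq

omit [FiniteDimensional F V] in
theorem plusOn_map_subtype (W' : Submodule F C) :
    PlusOn Q (W'.map C.subtype) ↔ PlusOn (Qr Q C) W' := by
  constructor
  · rintro ⟨U, hUW, hU, hdim⟩
    have hUC : U ≤ C := hUW.trans (Submodule.map_subtype_le C W')
    refine ⟨U.comap C.subtype, ?_, ?_, ?_⟩
    · intro u hu
      obtain ⟨w, hw, hwu⟩ := hUW hu
      have : w = u := Subtype.ext hwu
      rwa [← this]
    · intro u hu
      exact hU _ hu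
    · rw [Cfsg.Agent.Lib.Helper99_SubspaceCount.finrank_comap_subtype hUC, hdim,
        finrank_map_subtype']
  · rintro ⟨U, hUW, hU, hdim⟩
    refine ⟨U.map C.subtype, Submodule.map_mono hUW, ?_, ?_⟩
    · rintro _ ⟨u, hu, rfl⟩
      exact hU u hu
    · rw [finrank_map_subtype', finrank_map_subtype', hdim]

/-- members of `Om` inside `C` are the members of `Om` of the subspace `C` -/
noncomputable def subEquiv (m : ℕ) (eta : Prop) :
    Om (Qr Q C) m eta ≃ {W : Om Q m eta // W.1 ≤ C} where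
  toFun W' := ⟨⟨W'.1.map C.subtype, by rw [finrank_map_subtype']; exact W'.2.1,
    (ndOn_map_subtype Q C W'.1).2 W'.2.2.1, (plusOn_map_subtype Q C W'.1).trans W'.2.2.2⟩,
    Submodule.map_subtype_le C W'.1⟩
  invFun W := ⟨W.1.1.comap C.subtype, by
    have h : (W.1.1.comap C.subtype).map C.subtype = W.1.1 := by
      rw [Submodule.map_comap_subtype]
      exact inf_eq_right.2 W.2
    refine ⟨?_, ?_, ?_⟩
    · rw [← finrank_map_subtype', h]; exact W.1.2.1
    · rw [← ndOn_map_subtype, h]; exact W.1.2.2.1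
    · rw [← plusOn_map_subtype, h]; exact W.1.2.2.2⟩
  left_inv W' := by
    apply Subtype.ext
    exact Submodule.comap_map_eq_of_injective C.injective_subtype W'.1
  right_inv W := by
    apply Subtype.ext
    apply Subtype.ext
    show (W.1.1.comap C.subtype).map C.subtype = W.1.1
    rw [Submodule.map_comap_subtype]
    exact inf_eq_right.2 W.2

end sub

section extend

variable {F : Type u} [Field F] {V : Type u} [AddCommGroup V] [Module F V]
variable {C R : Submodule F V}

/-- extension of an automorphism of `C` by the identity on a complement `R` -/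
noncomputable def extend (h : IsCompl C R) (y : C ≃ₗ[F] C) : V ≃ₗ[F] V :=
  ((Submodule.prodEquivOfIsCompl C R h).symm.trans (y.prodCongr (LinearEquiv.refl F R))).trans
    (Submodule.prodEquivOfIsCompl C R h)

theorem extend_apply (h : IsCompl C R) (y : C ≃ₗ[F] C) (c : C) (ρ : R) :
    extend h y ((c : V) + (ρ : V)) = (y c : V) + (ρ : V) := by
  unfold extend
  have h1 : (Submodule.prodEquivOfIsCompl C R h).symm ((c : V) + (ρ : V)) = (c, ρ) := by
    rw [map_add, Submodule.prodEquivOfIsCompl_symm_apply_left,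
      Submodule.prodEquivOfIsCompl_symm_apply_right]
    simp
  simp only [LinearEquiv.trans_apply, h1]
  rfl

theorem exists_decomp (h : IsCompl C R) (v : V) : ∃ (c : C) (ρ : R), v = (c : V) + (ρ : V) := by
  refine ⟨((Submodule.prodEquivOfIsCompl C R h).symm v).1,
    ((Submodule.prodEquivOfIsCompl C R h).symm v).2, ?_⟩
  have := (Submodule.prodEquivOfIsCompl C R h).apply_symm_apply v
  rw [Submodule.coe_prodEquivOfIsCompl'] at this
  exact this.symm

theorem decomp_unique (h : IsCompl C R) {c c' : C} {ρ ρ' : R}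
    (he : (c : V) + (ρ : V) = (c' : V) + (ρ' : V)) : c = c' ∧ ρ = ρ' := by
  have h1 : ((c : V) - (c' : V)) = ((ρ' : V) - (ρ : V)) := by
    have : (c : V) - c' = ((c : V) + ρ) - c' - ρ := by abel
    rw [this, he]
    abel
  have h2 : ((c : V) - (c' : V)) ∈ C ⊓ R :=
    ⟨C.sub_mem c.2 c'.2, h1 ▸ R.sub_mem ρ'.2 ρ.2⟩
  rw [h.inf_eq_bot, Submodule.mem_bot] at h2
  have h3 : ((ρ' : V) - (ρ : V)) = 0 := by rw [← h1, h2]
  exact ⟨Subtype.ext (sub_eq_zero.1 h2), Subtype.ext (sub_eq_zero.1 h3).symm⟩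

theorem Q_add_of_orth {Q : QuadraticForm F V} (horth : Orth Q C R) (c : C) (ρ : R) :
    Q ((c : V) + (ρ : V)) = Q c + Q ρ := by
  have := horth c c.2 ρ ρ.2
  unfold QuadraticMap.polar at this
  have h2 : Q ((c : V) + (ρ : V)) = (Q ((c : V) + (ρ : V)) - Q c - Q ρ) + Q c + Q ρ := by ring
  rw [h2, this, zero_add]

theorem extend_isometry {Q : QuadraticForm F V} (h : IsCompl C R) (horth : Orth Q C R)
    (y : C ≃ₗ[F] C) (hy : ∀ c : C, Q (y c : V) = Q (c : V)) (v : V) :
    Q (extend h y v) = Q v := by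
  obtain ⟨c, ρ, rfl⟩ := exists_decomp h v
  rw [extend_apply, Q_add_of_orth horth, Q_add_of_orth horth, hy]

end extend


section glue

variable {F : Type u} [Field F] {V : Type u} [AddCommGroup V] [Module F V]
variable {C R : Submodule F V}

theorem extend_one (h : IsCompl C R) : extend h (1 : C ≃ₗ[F] C) = 1 := by
  apply LinearEquiv.ext
  intro v
  obtain ⟨c, ρ, rfl⟩ := exists_decomp h v
  rw [extend_apply]
  rfl

theorem extend_mul (h : IsCompl C R) (y y' : C ≃ₗ[F] C) :
    extend h (y * y') = extend h y * extend h y' := by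
  apply LinearEquiv.ext
  intro v
  obtain ⟨c, ρ, rfl⟩ := exists_decomp h v
  rw [LinearEquiv.mul_apply, extend_apply, extend_apply, extend_apply]
  rfl

theorem extend_pow (h : IsCompl C R) (y : C ≃ₗ[F] C) (n : ℕ) :
    extend h y ^ n = extend h (y ^ n) := by
  induction n with
  | zero => rw [pow_zero, pow_zero, extend_one]
  | succ n ih => rw [pow_succ, pow_succ, ih, extend_mul]

end glue

section main

variable {F : Type u} [Field F] [Fintype F] (p : ℕ) [Fact p.Prime] [CharP F p]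

/-- the glueing step -/
theorem glue {V : Type u} [AddCommGroup V] [Module F V] [FiniteDimensional F V]
    (Q : QuadraticForm F V) (hQ : (QuadraticMap.polarBilin Q).Nondegenerate)
    (r : ℕ) (hr : r.Prime) (hr2 : r ≠ 2) (hrp : r ≠ p) (m : ℕ) (hm : m < atomDim F r) (eta : Prop)
    (x₀ : V ≃ₗ[F] V) (hx₀ : ∀ v, Q (x₀ v) = Q v) (hx₀r : x₀ ^ r = 1) (hx₀1 : x₀ ≠ 1)
    (C R : Submodule F V)
    (hfixC : ∀ c : C, x₀ (c : V) = (c : V))
    (hinvR : ∀ ρ : R, x₀ (ρ : V) ∈ R)
    (hker : ∀ v : V, x₀ v = v → v ∈ C)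
    (hc : IsCompl C R)
    (horth : Orth Q C R)
    (y : C ≃ₗ[F] C)
    (hy : ∀ c : C, Q (y c : V) = Q (c : V)) (hyr : y ^ r = 1)
    (hyW : ∀ W' : Submodule F C,
      finrank F W' = m → NDOn (QuadraticMap.polarBilin (Qr Q C)) W' → (PlusOn (Qr Q C) W' ↔ eta) →
      ¬ W'.map (y : C →ₗ[F] C) ≤ W') :
    ∃ x : V ≃ₗ[F] V, (∀ v, Q (x v) = Q v) ∧ x ^ r = 1 ∧ x ≠ 1 ∧
      ∀ W : Submodule F V, finrank F W = m → NDOn (QuadraticMap.polarBilin Q) W →
        (PlusOn Q W ↔ eta) → ¬ W.map (x : V →ₗ[F] V) ≤ W := by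
  have he_iso : ∀ v, Q (extend hc y v) = Q v := extend_isometry hc horth y hy
  have hcomm : Commute x₀ (extend hc y) := by
    apply LinearEquiv.ext
    intro v
    obtain ⟨c, ρ, rfl⟩ := exists_decomp hc v
    rw [LinearEquiv.mul_apply, LinearEquiv.mul_apply, extend_apply, map_add, map_add, hfixC, hfixC]
    have := extend_apply hc y c ⟨x₀ (ρ : V), hinvR ρ⟩
    simp only at this
    rw [this]
  have hz_apply : ∀ (c : C) (ρ : R),
      (x₀ * extend hc y) ((c : V) + (ρ : V)) = (y c : V) + x₀ (ρ : V) := by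
    intro c ρ
    rw [LinearEquiv.mul_apply, extend_apply, map_add, hfixC]
  have hzr : (x₀ * extend hc y) ^ r = 1 := by
    rw [hcomm.mul_pow, hx₀r, one_mul, extend_pow, hyr, extend_one]
  have hz_iso : ∀ v, Q ((x₀ * extend hc y) v) = Q v := by
    intro v
    rw [LinearEquiv.mul_apply, hx₀, he_iso]
  refine ⟨x₀ * extend hc y, hz_iso, hzr, ?_, ?_⟩
  · intro h1
    apply hx₀1
    apply LinearEquiv.ext
    intro v
    obtain ⟨c, ρ, rfl⟩ := exists_decomp hc v
    have h2 := hz_apply 0 ρ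
    rw [h1] at h2
    simp only [map_zero, ZeroMemClass.coe_zero, zero_add] at h2
    rw [map_add, hfixC, ← h2]
    rfl
  · intro W hWm hWnd hWeta hWinv
    have hle := le_ker_of_invariant p Q hQ (x₀ * extend hc y) hz_iso r hr hr2 hrp hzr W hWinv hWnd
      (by rw [hWm]; exact hm)
    have hfixW : ∀ w ∈ W, (x₀ * extend hc y) w = w := by
      intro w hw
      have := hle hw
      rw [LinearMap.mem_ker, LinearMap.sub_apply, Module.End.one_apply, sub_eq_zero] at this
      exact this
    have hWC : ∀ w ∈ W, ∃ c : C, (c : V) = w ∧ y c = c := by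
      intro w hw
      obtain ⟨c, ρ, rfl⟩ := exists_decomp hc w
      have h1 := hfixW _ hw
      rw [hz_apply] at h1
      obtain ⟨h2, h3⟩ := decomp_unique hc (c := y c) (c' := c) (ρ := ⟨x₀ (ρ : V), hinvR ρ⟩)
        (ρ' := ρ) h1
      have h4 : (ρ : V) ∈ C ⊓ R := ⟨hker _ (congrArg Subtype.val h3), ρ.2⟩
      rw [hc.inf_eq_bot, Submodule.mem_bot] at h4
      exact ⟨c, by rw [h4, add_zero], h2⟩
    have hWleC : W ≤ C := by
      intro w hw
      obtain ⟨c, rfl, -⟩ := hWC w hw
      exact c.2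
    have key := hyW ((subEquiv Q C m eta).symm ⟨⟨W, hWm, hWnd, hWeta⟩, hWleC⟩).1
      ((subEquiv Q C m eta).symm ⟨⟨W, hWm, hWnd, hWeta⟩, hWleC⟩).2.1
      ((subEquiv Q C m eta).symm ⟨⟨W, hWm, hWnd, hWeta⟩, hWleC⟩).2.2.1
      ((subEquiv Q C m eta).symm ⟨⟨W, hWm, hWnd, hWeta⟩, hWleC⟩).2.2.2
    apply key
    rintro _ ⟨c', hc', rfl⟩
    have hc'W : (c' : V) ∈ W := hc'
    obtain ⟨c, hcc', hyc⟩ := hWC _ hc'W
    have : c = c' := Subtype.ext hcc'
    rw [LinearEquiv.coe_coe, ← this, hyc, this]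
    exact hc'

end main


section induction

variable {F : Type u} [Field F] [Fintype F] (p : ℕ) [Fact p.Prime] [CharP F p]

theorem main_aux (n : ℕ) : ∀ (V : Type u) [AddCommGroup V] [Module F V] [FiniteDimensional F V]
    (Q : QuadraticForm F V) (_ : (QuadraticMap.polarBilin Q).Nondegenerate), finrank F V = n →
    ∀ (r : ℕ), r.Prime → r ≠ 2 → r ≠ p → ∀ (m : ℕ), m < atomDim F r → Even m → ∀ (eta : Prop),
    Nonempty (Om Q m eta) → r ∣ Nat.card (Om Q m eta) →
    ∃ x : V ≃ₗ[F] V, (∀ v, Q (x v) = Q v) ∧ x ^ r = 1 ∧ x ≠ 1 ∧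
      ∀ W : Submodule F V, finrank F W = m → NDOn (QuadraticMap.polarBilin Q) W →
        (PlusOn Q W ↔ eta) → ¬ W.map (x : V →ₗ[F] V) ≤ W := by
  induction n using Nat.strong_induction_on with
  | _ n ih =>
    intro V _ _ _ Q hQ hn r hr hr2 hrp m hm hme eta hne hdvd
    obtain ⟨k, hk⟩ := hme
    rcases Nat.eq_zero_or_pos k with hk0 | hkpos
    · exfalso
      have hm0 : m = 0 := by omega
      have hsub : Subsingleton (Om Q m eta) := by
        constructor
        intro W W'
        apply Subtype.ext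
        have h1 : W.1 = ⊥ := Submodule.finrank_eq_zero.1 (by rw [W.2.1, hm0])
        have h2 : W'.1 = ⊥ := Submodule.finrank_eq_zero.1 (by rw [W'.2.1, hm0])
        rw [h1, h2]
      have hcard : Nat.card (Om Q m eta) = 1 := Nat.card_eq_one_iff_unique.2 ⟨hsub, hne⟩
      rw [hcard] at hdvd
      exact hr.one_lt.ne' (Nat.dvd_one.1 hdvd)
    · have hm2 : m = 2 * k := by omega
      subst hm2
      obtain ⟨W₀⟩ := hne
      obtain ⟨X₀, hX₀⟩ := exists_order hQ k hkpos eta W₀ r hr hdvd
      have hx₀ : ∀ v, Q ((X₀ : V ≃ₗ[F] V) v) = Q v := X₀.2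
      have hx₀r : (X₀ : V ≃ₗ[F] V) ^ r = 1 := by
        have := pow_orderOf_eq_one X₀
        rw [hX₀] at this
        have h2 := congrArg (Subtype.val) this
        simpa using h2
      have hx₀1 : (X₀ : V ≃ₗ[F] V) ≠ 1 := by
        intro h
        have : X₀ = 1 := Subtype.ext h
        rw [this, orderOf_one] at hX₀
        exact hr.one_lt.ne hX₀
      by_cases hfix : ∃ W : Om Q (2 * k) eta, X₀ • W = W
      · -- descend to the fixed space
        have hTr : (((X₀ : V ≃ₗ[F] V) : V →ₗ[F] V) : Module.End F V) ^ r = 1 := end_pow_eq_one hx₀r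
        obtain ⟨hCnd, hRnd, horth, hc⟩ := Cfsg.Agent.Lib.Helper82_OrthND_R1.R1 p Q hQ
          (((X₀ : V ≃ₗ[F] V) : V →ₗ[F] V) : Module.End F V) hx₀ r hr hrp hTr
        have hmemC : ∀ v : V, v ∈ LinearMap.ker
            ((((X₀ : V ≃ₗ[F] V) : V →ₗ[F] V) : Module.End F V) - 1) ↔ (X₀ : V ≃ₗ[F] V) v = v := by
          intro v
          rw [LinearMap.mem_ker, LinearMap.sub_apply, Module.End.one_apply, sub_eq_zero]
          rfl
        have hfixC : ∀ c : LinearMap.ker
            ((((X₀ : V ≃ₗ[F] V) : V →ₗ[F] V) : Module.End F V) - 1),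
            (X₀ : V ≃ₗ[F] V) (c : V) = (c : V) := fun c => (hmemC _).1 c.2
        have hinvR : ∀ ρ : LinearMap.range
            ((((X₀ : V ≃ₗ[F] V) : V →ₗ[F] V) : Module.End F V) - 1),
            (X₀ : V ≃ₗ[F] V) (ρ : V) ∈ LinearMap.range
            ((((X₀ : V ≃ₗ[F] V) : V →ₗ[F] V) : Module.End F V) - 1) := by
          rintro ⟨_, u, rfl⟩
          refine ⟨(X₀ : V ≃ₗ[F] V) u, ?_⟩
          simp only [LinearMap.sub_apply, Module.End.one_apply, map_sub]
          rfl
        have hker : ∀ v : V, (X₀ : V ≃ₗ[F] V) v = v → v ∈ LinearMap.ker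
            ((((X₀ : V ≃ₗ[F] V) : V →ₗ[F] V) : Module.End F V) - 1) := fun v hv => (hmemC v).2 hv
        -- the fixed points are the members inside `C`
        have hiff : ∀ W : Om Q (2 * k) eta, X₀ • W = W ↔ W.1 ≤ LinearMap.ker
            ((((X₀ : V ≃ₗ[F] V) : V →ₗ[F] V) : Module.End F V) - 1) := by
          intro W
          constructor
          · intro h
            have h1 : W.1.map ((X₀ : V ≃ₗ[F] V) : V →ₗ[F] V) ≤ W.1 := by
              have := congrArg Subtype.val h
              rw [smul_val] at this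
              exact this.le
            exact le_ker_of_invariant p Q hQ (X₀ : V ≃ₗ[F] V) hx₀ r hr hr2 hrp hx₀r W.1 h1 W.2.2.1
              (by rw [W.2.1]; exact hm)
          · intro h
            apply Subtype.ext
            rw [smul_val]
            ext v
            constructor
            · rintro ⟨w, hw, rfl⟩
              rw [LinearEquiv.coe_coe, (hmemC w).1 (h hw)]
              exact hw
            · intro hv
              exact ⟨v, hv, by rw [LinearEquiv.coe_coe, (hmemC v).1 (h hv)]⟩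
        have hcard1 := card_fixed (Q := Q) (2 * k) eta r hr X₀ hX₀
        have hcard2 : Nat.card {W : Om Q (2 * k) eta // X₀ • W = W} =
            Nat.card (Om (Qr Q (LinearMap.ker
              ((((X₀ : V ≃ₗ[F] V) : V →ₗ[F] V) : Module.End F V) - 1))) (2 * k) eta) :=
          Nat.card_congr ((Equiv.subtypeEquivRight hiff).trans (subEquiv Q _ (2 * k) eta).symm)
        have hdvd' : r ∣ Nat.card (Om (Qr Q (LinearMap.ker
              ((((X₀ : V ≃ₗ[F] V) : V →ₗ[F] V) : Module.End F V) - 1))) (2 * k) eta) := by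
          rw [← hcard2]
          exact (Nat.modEq_zero_iff_dvd.1 (hcard1.symm.trans (Nat.modEq_zero_iff_dvd.2 hdvd)))
        have hne' : Nonempty (Om (Qr Q (LinearMap.ker
              ((((X₀ : V ≃ₗ[F] V) : V →ₗ[F] V) : Module.End F V) - 1))) (2 * k) eta) := by
          obtain ⟨W, hW⟩ := hfix
          exact ⟨(subEquiv Q _ (2 * k) eta).symm ⟨W, (hiff W).1 hW⟩⟩
        have hlt : finrank F (LinearMap.ker
            ((((X₀ : V ≃ₗ[F] V) : V →ₗ[F] V) : Module.End F V) - 1)) < n := by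
          rw [← hn]
          apply Submodule.finrank_lt
          intro htop
          apply hx₀1
          apply LinearEquiv.ext
          intro v
          have : v ∈ LinearMap.ker
              ((((X₀ : V ≃ₗ[F] V) : V →ₗ[F] V) : Module.End F V) - 1) := by
            rw [htop]; exact Submodule.mem_top
          exact (hmemC v).1 this
        obtain ⟨y, hy, hyr, -, hyW⟩ := ih _ hlt _ (Qr Q _) (nondeg_Qr hCnd) rfl r hr hr2 hrp (2 * k) hm
          ⟨k, by ring⟩ eta hne' hdvd'
        exact glue p Q hQ r hr hr2 hrp (2 * k) hm eta (X₀ : V ≃ₗ[F] V) hx₀ hx₀r hx₀1 _ _ hfixC hinvR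
          hker hc horth y hy hyr hyW
      · refine ⟨(X₀ : V ≃ₗ[F] V), hx₀, hx₀r, hx₀1, ?_⟩
        intro W hWm hWnd hWeta hWinv
        apply hfix
        refine ⟨⟨W, hWm, hWnd, hWeta⟩, ?_⟩
        apply Subtype.ext
        rw [smul_val]
        apply Submodule.eq_of_le_of_finrank_eq hWinv
        exact LinearEquiv.finrank_map_eq _ _

end induction

section final

variable {F : Type u} [Field F] [Fintype F] (p : ℕ) [Fact p.Prime] [CharP F p]
  {V : Type u} [AddCommGroup V] [Module F V] [FiniteDimensional F V]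

theorem CLEM (Q : QuadraticForm F V) (hQ : (QuadraticMap.polarBilin Q).Nondegenerate)
    (r : ℕ) (hr : r.Prime) (hr2 : r ≠ 2) (hrp : r ≠ p) (m : ℕ) (hm : m < atomDim F r) (hme : Even m)
    (eta : Prop)
    (hne : ∃ W : Submodule F V, finrank F W = m ∧ NDOn (QuadraticMap.polarBilin Q) W ∧ (PlusOn Q W ↔ eta))
    (hdvd : r ∣ Nat.card {W : Submodule F V // finrank F W = m ∧ NDOn (QuadraticMap.polarBilin Q) W ∧ (PlusOn Q W ↔ eta)}) :
    ∃ x : V ≃ₗ[F] V, (∀ v, Q (x v) = Q v) ∧ x ^ r = 1 ∧ x ≠ 1 ∧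
      ∀ W : Submodule F V, finrank F W = m → NDOn (QuadraticMap.polarBilin Q) W →
        (PlusOn Q W ↔ eta) → ¬ W.map (x : V →ₗ[F] V) ≤ W := by
  obtain ⟨W, hW⟩ := hne
  exact main_aux p (finrank F V) V Q hQ rfl r hr hr2 hrp m hm hme eta ⟨⟨W, hW⟩⟩ hdvd

end final

end Cfsg.Agent.Lib.Helper89_OrthND_CLEM
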