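import Mathlib
import Cfsg.Prelude.Def_GeometricClasses
import Cfsg.Prelude.Def_Classical
import Cfsg.Agent.Lib.Helper40_OClasses
import Cfsg.Agent.Lib.Helper44_WittMat
import Cfsg.Agent.Lib.Helper44_Orth
import Cfsg.Agent.Lib.Helper73_OND_PERP
import Cfsg.Agent.Lib.Helper88_OrthNDDefs
import Cfsg.Agent.Lib.Helper89_OrthND_CLEM

set_option autoImplicit false

/-!
OND-IDX_B (helper89, for helper68's S5989/S5991; used by helper73's IDX): the isometry group of the
orthogonal complement of a nondegenerate subspace `W₀` embeds in the stabiliser of `W₀`.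
-/

namespace Cfsg.Agent.Lib.Helper89_OND_IDX_B

open Module Matrix Cfsg.Agent.Lib.Helper40_OClasses Cfsg.Agent.Lib.Helper44_WittMat
  Cfsg.Agent.Lib.Helper44_Orth Cfsg.Agent.Lib.Helper88_OrthNDDefs
  Cfsg.Agent.Lib.Helper89_OrthND_CLEM

universe v

section psi

variable {F : Type v} [Field F] {n : ℕ} {U : Type*} [AddCommGroup U] [Module F U]

/-- matrices acting on a space with a chosen coordinate system -/
noncomputable def psi (e : (Fin n → F) ≃ₗ[F] U) :
    Matrix.GeneralLinearGroup (Fin n) F ≃* (U ≃ₗ[F] U) :=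
  (Matrix.GeneralLinearGroup.toLin.trans (LinearMap.GeneralLinearGroup.congrLinearEquiv e)).trans
    (LinearMap.GeneralLinearGroup.generalLinearEquiv F U)

theorem psi_apply (e : (Fin n → F) ≃ₗ[F] U) (h : Matrix.GeneralLinearGroup (Fin n) F) (u : U) :
    psi e h u = e ((h : Matrix (Fin n) (Fin n) F).mulVec (e.symm u)) := rfl

end psi

section stab

variable {F : Type v} [Field F] {ι : Type} [Fintype ι] [DecidableEq ι]

theorem mat_mul (Q : QuadraticForm F (ι → F)) (g h : ↥(Cfsg.isometryGroup F ⇑Q)) :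
    mat Q (g * h) = mat Q g * mat Q h := rfl

theorem mat_inv_mul (Q : QuadraticForm F (ι → F)) (g : ↥(Cfsg.isometryGroup F ⇑Q)) :
    mat Q g⁻¹ * mat Q g = 1 := by
  rw [← mat_mul, inv_mul_cancel]
  rfl

/-- the stabiliser of a subspace in the isometry group -/
def stab (Q : QuadraticForm F (ι → F)) (W₀ : Submodule F (ι → F)) :
    Subgroup ↥(Cfsg.isometryGroup F ⇑Q) where
  carrier := {g | W₀.map (Matrix.toLin' (mat Q g)) = W₀}
  mul_mem' := by
    intro g h hg hh
    show W₀.map (Matrix.toLin' (mat Q (g * h))) = W₀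
    rw [mat_mul, Matrix.toLin'_mul, Submodule.map_comp]
    have hh' : W₀.map (Matrix.toLin' (mat Q h)) = W₀ := hh
    rw [hh']
    exact hg
  one_mem' := by
    show W₀.map (Matrix.toLin' (mat Q 1)) = W₀
    rw [mat_one, Matrix.toLin'_one]
    exact Submodule.map_id W₀
  inv_mem' := by
    intro g hg
    show W₀.map (Matrix.toLin' (mat Q g⁻¹)) = W₀
    have hg' : W₀.map (Matrix.toLin' (mat Q g)) = W₀ := hg
    conv_lhs => rw [← hg']
    rw [← Submodule.map_comp, ← Matrix.toLin'_mul, mat_inv_mul, Matrix.toLin'_one]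
    exact Submodule.map_id W₀

theorem mem_stab (Q : QuadraticForm F (ι → F)) (W₀ : Submodule F (ι → F))
    (g : ↥(Cfsg.isometryGroup F ⇑Q)) :
    g ∈ stab Q W₀ ↔ W₀.map (Matrix.toLin' (mat Q g)) = W₀ := Iff.rfl

theorem toLin'_isomOfEquiv (Q : QuadraticForm F (ι → F)) (g : (ι → F) ≃ₗ[F] (ι → F))
    (hg : ∀ v, Q (g v) = Q v) (v : ι → F) :
    Matrix.toLin' (mat Q (isomOfEquiv Q g hg)) v = g v := by
  rw [Matrix.toLin'_apply]
  exact isomOfEquiv_mulVec Q g hg v

end stab

section hom

variable {F : Type v} [Field F] {ι : Type} [Fintype ι] [DecidableEq ι]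
variable (Q : QuadraticForm F (ι → F)) {U W₀ : Submodule F (ι → F)} (hc : IsCompl U W₀)
  (horth : Orth Q U W₀) {n' : ℕ} (e : (Fin n' → F) ≃ₗ[F] U)

/-- the form on the complement, in coordinates -/
noncomputable def q1 : QuadraticForm F (Fin n' → F) :=
  Q.comp (U.subtype ∘ₗ (e : (Fin n' → F) →ₗ[F] U))

omit [Fintype ι] [DecidableEq ι] in
theorem q1_apply (x : Fin n' → F) : q1 Q e x = Q ((e x : U) : ι → F) := rfl

omit [Fintype ι] [DecidableEq ι] in
theorem polar_q1 (x y : Fin n' → F) :
    QuadraticMap.polarBilin (q1 Q e) x y =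
      QuadraticMap.polar ⇑Q ((e x : U) : ι → F) ((e y : U) : ι → F) := by
  simp only [QuadraticMap.polarBilin_apply_apply, QuadraticMap.polar, q1_apply, map_add]
  rfl

omit [Fintype ι] [DecidableEq ι] in
theorem psi_isometry (h : ↥(Cfsg.isometryGroup F ⇑(q1 Q e))) (c : U) :
    Q ((psi e (h : Matrix.GeneralLinearGroup (Fin n') F) c : U) : ι → F) = Q (c : ι → F) := by
  rw [psi_apply, ← q1_apply]
  have := (mem_isometryGroup_iff (⇑(q1 Q e)) (h : Matrix.GeneralLinearGroup (Fin n') F)).1 h.2
    (e.symm c)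
  rw [this, q1_apply, e.apply_symm_apply]

/-- the embedding of the isometry group of the complement -/
noncomputable def Phi : ↥(Cfsg.isometryGroup F ⇑(q1 Q e)) →* ↥(Cfsg.isometryGroup F ⇑Q) :=
  MonoidHom.mk'
    (fun h => isomOfEquiv Q (extend hc (psi e (h : Matrix.GeneralLinearGroup (Fin n') F)))
      (fun v => extend_isometry hc horth _ (psi_isometry Q e h) v))
    (by
      intro a b
      apply mat_injective Q
      apply Matrix.toLin'.injective
      apply LinearMap.ext
      intro v
      rw [mat_mul, Matrix.toLin'_mul, LinearMap.comp_apply, toLin'_isomOfEquiv, toLin'_isomOfEquiv,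
        toLin'_isomOfEquiv, Subgroup.coe_mul, map_mul, extend_mul, LinearEquiv.mul_apply])

theorem toLin'_Phi (h : ↥(Cfsg.isometryGroup F ⇑(q1 Q e))) (v : ι → F) :
    Matrix.toLin' (mat Q (Phi Q hc horth e h)) v =
      extend hc (psi e (h : Matrix.GeneralLinearGroup (Fin n') F)) v :=
  toLin'_isomOfEquiv Q (extend hc (psi e (h : Matrix.GeneralLinearGroup (Fin n') F)))
    (fun v => extend_isometry hc horth _ (psi_isometry Q e h) v) v

theorem Phi_injective : Function.Injective (Phi Q hc horth e) := by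
  rw [injective_iff_map_eq_one]
  intro a ha
  have h1 : ∀ v, extend hc (psi e (a : Matrix.GeneralLinearGroup (Fin n') F)) v = v := by
    intro v
    rw [← toLin'_Phi Q hc horth e a v, ha, mat_one, Matrix.toLin'_one]
    rfl
  have h2 : psi e (a : Matrix.GeneralLinearGroup (Fin n') F) = 1 := by
    apply LinearEquiv.ext
    intro u
    have h3 := extend_apply hc (psi e (a : Matrix.GeneralLinearGroup (Fin n') F)) u 0
    rw [h1] at h3
    simp only [ZeroMemClass.coe_zero, add_zero] at h3
    exact (Subtype.ext h3).symm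
  have h4 : (a : Matrix.GeneralLinearGroup (Fin n') F) = 1 := by
    have := (psi e).injective (h2.trans (map_one (psi e)).symm)
    exact this
  exact Subtype.ext h4

theorem Phi_mem_stab (h : ↥(Cfsg.isometryGroup F ⇑(q1 Q e))) : Phi Q hc horth e h ∈ stab Q W₀ := by
  rw [mem_stab]
  have hfix : ∀ w ∈ W₀, Matrix.toLin' (mat Q (Phi Q hc horth e h)) w = w := by
    intro w hw
    rw [toLin'_Phi]
    have h3 := extend_apply hc (psi e (h : Matrix.GeneralLinearGroup (Fin n') F)) 0 ⟨w, hw⟩
    simp only [ZeroMemClass.coe_zero, zero_add, map_zero] at h3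
    exact h3
  ext v
  constructor
  · rintro ⟨w, hw, rfl⟩
    rw [hfix w hw]
    exact hw
  · intro hv
    exact ⟨v, hv, hfix v hv⟩

end hom

section main

variable {F : Type v} [Field F] [Fintype F] {ι : Type} [Fintype ι] [DecidableEq ι]

/-- IDX_B: the isometry group of the orthogonal complement embeds in the stabiliser -/
theorem IDX_B (Q : QuadraticForm F (ι → F)) (hQ : (QuadraticMap.polarBilin Q).Nondegenerate)
    (W₀ : Submodule F (ι → F))
    (hW₀ : Cfsg.Geo.IsNondegenerateOn (QuadraticMap.polar ⇑Q) W₀) (n' : ℕ)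
    (hn' : finrank F W₀ + n' = Fintype.card ι) :
    ∃ q₁ : QuadraticForm F (Fin n' → F), (QuadraticMap.polarBilin q₁).Nondegenerate ∧
      Nat.card ↥(Cfsg.isometryGroup F ⇑q₁) ∣
        Nat.card {g : ↥(Cfsg.isometryGroup F ⇑Q) // W₀.map (Matrix.toLin' (mat Q g)) = W₀} := by
  obtain ⟨U, hc, horth, -, hUnd, hdim⟩ := Cfsg.Agent.Lib.Helper73_OND_PERP.PERP Q hQ W₀ hW₀
  have hU : finrank F U = n' := by omega
  have horth' : Orth Q U W₀ := by
    intro u hu w hw
    rw [QuadraticMap.polar_comm]
    exact horth w hw u hu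
  obtain ⟨e⟩ : Nonempty ((Fin n' → F) ≃ₗ[F] U) :=
    ⟨(Module.finBasisOfFinrankEq F U hU).equivFun.symm⟩
  refine ⟨q1 Q e, ?_, ?_⟩
  · have hl : (QuadraticMap.polarBilin (q1 Q e)).SeparatingLeft := by
      intro x hx
      by_contra hx0
      have hex : ((e x : U) : ι → F) ≠ 0 := by
        intro h0
        apply hx0
        have : e x = 0 := Subtype.ext h0
        exact e.map_eq_zero_iff.1 this
      obtain ⟨-, u, hu, hne⟩ := hUnd _ (e x).2 hex
      apply hne
      have := hx (e.symm ⟨u, hu⟩)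
      rw [polar_q1, e.apply_symm_apply] at this
      exact this
    refine ⟨hl, ?_⟩
    intro y hy
    apply hl y
    intro x
    have := hy x
    rw [polar_q1] at this ⊢
    rw [QuadraticMap.polar_comm]
    exact this
  · have h1 : Nat.card ↥(Cfsg.isometryGroup F ⇑(q1 Q e)) ∣ Nat.card ↥(stab Q W₀) :=
      Subgroup.card_dvd_of_injective
        ((Phi Q hc.symm horth' e).codRestrict (stab Q W₀) (Phi_mem_stab Q hc.symm horth' e))
        (by
          intro a b hab
          apply Phi_injective Q hc.symm horth' e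
          exact congrArg Subtype.val hab)
    exact h1

end main

end Cfsg.Agent.Lib.Helper89_OND_IDX_B
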