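import Mathlib
import Cfsg.Prelude.Def_GeometricClasses
import Cfsg.Agent.Lib.Helper40_OClasses
import Cfsg.Agent.Lib.Helper82_OrthExt_C3b
import Cfsg.Agent.Lib.Helper73_OND_IDX_A
import Cfsg.Agent.Lib.Helper73_OND_IDX_C
import Cfsg.Agent.Lib.Helper89_OND_IDX_B

set_option autoImplicit false

/-!
S5989 / S5991, package IDX (assembly of IDX_A, IDX_B, IDX_C and the order formulas): a prime
`r ∤ 2 q` dividing the number of nondegenerate `m`-spaces isometric to `W₀` divides `q^(2j) - 1`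
for some `2 d - m < 2 j ≤ 2 d`.
-/

open Polynomial Module Matrix
open scoped MatrixGroups
open Cfsg.Agent.Lib.Helper40_OClasses

namespace Cfsg.Agent.Lib.Helper68_OND_IDX

universe v

variable {F : Type v} [Field F] [Fintype F] {ι : Type} [Fintype ι] [DecidableEq ι]

theorem IDX (h2 : (2 : F) ≠ 0) (Q : QuadraticForm F (ι → F))
    (hQ : (QuadraticMap.polarBilin Q).Nondegenerate) (d m : ℕ) (hn : Fintype.card ι = 2 * d)
    (hmodd : Odd m) (hmd : m < 2 * d) (W₀ : Submodule F (ι → F))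
    (hW₀ : finrank F W₀ = m ∧ Cfsg.Geo.IsNondegenerateOn (QuadraticMap.polar ⇑Q) W₀)
    {r : ℕ} (hr : r.Prime) (hr2 : r ≠ 2) (hrq : ¬ r ∣ Fintype.card F)
    (hrΩ : r ∣ Nat.card {W : Submodule F (ι → F) // finrank F W = m ∧
      Cfsg.Geo.IsNondegenerateOn (QuadraticMap.polar ⇑Q) W ∧ Cfsg.Geo.AreIsometricFor ⇑Q W W₀}) :
    ∃ j : ℕ, 2 * d - m < 2 * j ∧ j ≤ d ∧ r ∣ Fintype.card F ^ (2 * j) - 1 := by
  obtain ⟨m', hm'⟩ := hmodd
  -- `2 d - m = 2 b + 1`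
  set b := d - m' - 1 with hb
  have hbm : m + (2 * b + 1) = 2 * d := by omega
  have hn' : finrank F W₀ + (2 * b + 1) = Fintype.card ι := by rw [hW₀.1, hn, hbm]
  have hA := Cfsg.Agent.Lib.Helper73_OND_IDX_A.IDX_A Q hQ m W₀ hW₀
  obtain ⟨q₁, hq₁, K, hK⟩ := Cfsg.Agent.Lib.Helper89_OND_IDX_B.IDX_B Q hQ W₀ hW₀.2 (2 * b + 1) hn'
  have hO₁ := Cfsg.Agent.Lib.Helper82_OrthExt_C3b.C3b_odd h2 (rfl : Fintype.card F = Fintype.card F)
    b (κ := Fin (2 * b + 1)) (Fintype.card_fin _) q₁ hq₁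
  have hd1 : 1 ≤ d := by omega
  have hO := Cfsg.Agent.Lib.Helper82_OrthExt_C3b.C3b_even h2
    (rfl : Fintype.card F = Fintype.card F) d hd1 hn Q hQ
  have hq2 : 2 ≤ Fintype.card F := Fintype.one_lt_card
  have hbd : b < d := by omega
  set N := Nat.card {W : Submodule F (ι → F) // finrank F W = m ∧
      Cfsg.Geo.IsNondegenerateOn (QuadraticMap.polar ⇑Q) W ∧ Cfsg.Geo.AreIsometricFor ⇑Q W W₀}
    with hN
  have hmain : N * K * (2 * Fintype.card F ^ (b ^ 2) *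
      ∏ i ∈ Finset.range b, (Fintype.card F ^ (2 * (i + 1)) - 1)) =
      Nat.card ↥(Cfsg.isometryGroup F ⇑Q) := by
    rw [← hO₁, ← hA, hK]
    ring
  have hC : ∃ j : ℕ, b < j ∧ j ≤ d ∧ r ∣ Fintype.card F ^ (2 * j) - 1 := by
    by_cases hh : Cfsg.Agent.Lib.Helper40_QuadIso.IsHyp Q
    · exact Cfsg.Agent.Lib.Helper73_OND_IDX_C.IDX_C (Fintype.card F) d b N hq2 hd1 hbd hr hr2 hrq hrΩ K
        (Or.inl (by rw [hmain, hO.1 hh]))
    · exact Cfsg.Agent.Lib.Helper73_OND_IDX_C.IDX_C (Fintype.card F) d b N hq2 hd1 hbd hr hr2 hrq hrΩ K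
        (Or.inr (by rw [hmain, hO.2 hh]))
  obtain ⟨j, hj1, hj2, hj3⟩ := hC
  exact ⟨j, by omega, hj2, hj3⟩

end Cfsg.Agent.Lib.Helper68_OND_IDX
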