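import Mathlib
import Cfsg.Prelude.Def_GeometricClasses
import Cfsg.Agent.Lib.Helper40_OClasses

set_option autoImplicit false

/-!
OND-CONJ (helper85, for helper68's S5989/S5991): an element of the isometry group with the same
characteristic polynomial as an element stabilising a nondegenerate subspace `W₀` stabilises a
nondegenerate subspace isometric to `W₀` (of the same dimension).
-/

namespace Cfsg.Agent.Lib.Helper85_OND_CONJ

open Polynomial Module Matrix Cfsg.Agent.Lib.Helper40_OClasses Cfsg.Agent.Lib.Helper44_Orth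

universe v

section

variable {F : Type v} [Field F] {ι : Type} [Fintype ι] [DecidableEq ι]

/-- the linear equivalence of `ι → F` given by an element of the isometry group -/
noncomputable def equivOf (Q : QuadraticForm F (ι → F)) (c : ↥(Cfsg.isometryGroup F ⇑Q)) :
    (ι → F) ≃ₗ[F] (ι → F) :=
  Matrix.toLin'OfInv (M := mat Q c⁻¹) (M' := mat Q c)
    (by
      show (((c⁻¹ : ↥(Cfsg.isometryGroup F ⇑Q)) : Matrix.GeneralLinearGroup ι F) : Matrix ι ι F)
        * ((c : Matrix.GeneralLinearGroup ι F) : Matrix ι ι F) = 1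
      rw [← Units.val_mul, ← Subgroup.coe_mul, inv_mul_cancel]
      rfl)
    (by
      show ((c : Matrix.GeneralLinearGroup ι F) : Matrix ι ι F)
        * (((c⁻¹ : ↥(Cfsg.isometryGroup F ⇑Q)) : Matrix.GeneralLinearGroup ι F) : Matrix ι ι F) = 1
      rw [← Units.val_mul, ← Subgroup.coe_mul, mul_inv_cancel]
      rfl)

theorem equivOf_apply (Q : QuadraticForm F (ι → F)) (c : ↥(Cfsg.isometryGroup F ⇑Q))
    (v : ι → F) : equivOf Q c v = Matrix.toLin' (mat Q c) v := rfl

theorem equivOf_coe (Q : QuadraticForm F (ι → F)) (c : ↥(Cfsg.isometryGroup F ⇑Q)) :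
    ((equivOf Q c : (ι → F) ≃ₗ[F] (ι → F)) : (ι → F) →ₗ[F] (ι → F)) = Matrix.toLin' (mat Q c) :=
  rfl

theorem equivOf_iso (Q : QuadraticForm F (ι → F)) (c : ↥(Cfsg.isometryGroup F ⇑Q))
    (v : ι → F) : Q (equivOf Q c v) = Q v := by
  rw [equivOf_apply, Matrix.toLin'_apply]
  exact (mem_isometryGroup_iff (⇑Q) (c : Matrix.GeneralLinearGroup ι F)).1 c.2 v

theorem equivOf_polar (Q : QuadraticForm F (ι → F)) (c : ↥(Cfsg.isometryGroup F ⇑Q))
    (x y : ι → F) :
    QuadraticMap.polar ⇑Q (equivOf Q c x) (equivOf Q c y) = QuadraticMap.polar ⇑Q x y := by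
  unfold QuadraticMap.polar
  rw [← map_add, equivOf_iso, equivOf_iso, equivOf_iso]

/-- the image of a subspace under an isometry: dimension, nondegeneracy, isometry type -/
theorem map_props (Q : QuadraticForm F (ι → F)) (c : ↥(Cfsg.isometryGroup F ⇑Q))
    (W₀ : Submodule F (ι → F)) (hW₀ : Cfsg.Geo.IsNondegenerateOn (QuadraticMap.polar ⇑Q) W₀) :
    finrank F (W₀.map (Matrix.toLin' (mat Q c))) = finrank F W₀ ∧
      Cfsg.Geo.IsNondegenerateOn (QuadraticMap.polar ⇑Q) (W₀.map (Matrix.toLin' (mat Q c))) ∧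
      Cfsg.Geo.AreIsometricFor ⇑Q (W₀.map (Matrix.toLin' (mat Q c))) W₀ := by
  rw [← equivOf_coe]
  refine ⟨((equivOf Q c).submoduleMap W₀).finrank_eq.symm, ?_, ?_⟩
  · rintro _ ⟨w₀, hw₀, rfl⟩ hne
    have hw0 : w₀ ≠ 0 := by
      rintro rfl
      exact hne (map_zero _)
    obtain ⟨⟨x, hx, hx1⟩, ⟨y, hy, hy1⟩⟩ := hW₀ w₀ hw₀ hw0
    refine ⟨⟨equivOf Q c x, Submodule.mem_map_of_mem hx, ?_⟩,
      ⟨equivOf Q c y, Submodule.mem_map_of_mem hy, ?_⟩⟩
    · show QuadraticMap.polar ⇑Q (equivOf Q c x) (equivOf Q c w₀) ≠ 0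
      rw [equivOf_polar]
      exact hx1
    · show QuadraticMap.polar ⇑Q (equivOf Q c w₀) (equivOf Q c y) ≠ 0
      rw [equivOf_polar]
      exact hy1
  · refine ⟨((equivOf Q c).submoduleMap W₀).symm, ?_⟩
    intro w
    obtain ⟨w₀, rfl⟩ := ((equivOf Q c).submoduleMap W₀).surjective w
    rw [LinearEquiv.symm_apply_apply, LinearEquiv.submoduleMap_apply, equivOf_iso]

/-- **OND-CONJ**: an element with the same characteristic polynomial as an element stabilising
`W₀` stabilises a member of the family of `W₀`. -/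
theorem CONJ [Fintype F] (Q : QuadraticForm F (ι → F))
    (hQ : (QuadraticMap.polarBilin Q).Nondegenerate)
    (g g' : ↥(Cfsg.isometryGroup F ⇑Q)) (r : ℕ) (hg : g ^ r = 1) (hg' : g' ^ r = 1)
    (hodd : Odd r) (hne : (r : F) ≠ 0) (hch : (mat Q g).charpoly = (mat Q g').charpoly)
    (W₀ : Submodule F (ι → F)) (hW₀ : Cfsg.Geo.IsNondegenerateOn (QuadraticMap.polar ⇑Q) W₀)
    (hinv : W₀.map (Matrix.toLin' (mat Q g')) ≤ W₀) :
    ∃ W : Submodule F (ι → F), (finrank F W = finrank F W₀ ∧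
      Cfsg.Geo.IsNondegenerateOn (QuadraticMap.polar ⇑Q) W ∧
      Cfsg.Geo.AreIsometricFor ⇑Q W W₀) ∧ W.map (Matrix.toLin' (mat Q g)) ≤ W := by
  classical
  have hconj : IsConj g' g := isConj_of_charpoly_eq Q hQ g' g r hg' hg hodd hne hch.symm
  rw [isConj_iff] at hconj
  obtain ⟨c, hc⟩ := hconj
  have hcg : g * c = c * g' := by
    rw [← hc]
    group
  have hmat : mat Q g * mat Q c = mat Q c * mat Q g' := by
    have h1 : mat Q (g * c) = mat Q (c * g') := by rw [hcg]
    exact h1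
  refine ⟨W₀.map (Matrix.toLin' (mat Q c)), map_props Q c W₀ hW₀, ?_⟩
  rintro _ ⟨_, ⟨w₀, hw₀, rfl⟩, rfl⟩
  rw [← Matrix.toLin'_mul_apply, hmat, Matrix.toLin'_mul_apply]
  exact Submodule.mem_map_of_mem (hinv (Submodule.mem_map_of_mem hw₀))

end

end Cfsg.Agent.Lib.Helper85_OND_CONJ
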