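import Mathlib
import Cfsg.Prelude.Def_GeometricClasses
import Cfsg.Agent.Lib.Helper40_OClasses

set_option autoImplicit false

/-!
OND-GLUE (helper85, for helper68's S5989/S5991): gluing isometries of two orthogonal complementary
subspaces of a quadratic space `ι → F` into an element of the matrix isometry group.
-/

namespace Cfsg.Agent.Lib.Helper85_OND_GLUE

open Polynomial Module Matrix Cfsg.Agent.Lib.Helper40_OClasses

universe v

section general

variable {F : Type v} [Field F]

/-- powers of a product map -/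
theorem prodMap_pow' {V₁ V₂ : Type*} [AddCommGroup V₁] [Module F V₁] [AddCommGroup V₂]
    [Module F V₂] (a₁ : Module.End F V₁) (a₂ : Module.End F V₂) (k : ℕ) :
    (LinearMap.prodMap a₁ a₂ : Module.End F (V₁ × V₂)) ^ k
      = LinearMap.prodMap (a₁ ^ k) (a₂ ^ k) := by
  induction k with
  | zero =>
    rw [pow_zero, pow_zero, pow_zero]
    exact LinearMap.prodMap_one.symm
  | succ k ih =>
    rw [pow_succ, pow_succ, pow_succ, ih]
    exact (LinearMap.prodMap_mul _ _ _ _).symm

/-- an endomorphism of finite order, as a linear equivalence -/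
noncomputable def equivOfPow {M : Type*} [AddCommGroup M] [Module F M] (a : Module.End F M)
    (r : ℕ) (hr : 0 < r) (h : a ^ r = 1) : M ≃ₗ[F] M :=
  LinearEquiv.ofLinear a (a ^ (r - 1))
    (by
      rw [← Module.End.mul_eq_comp, ← pow_succ', Nat.sub_add_cancel hr, h]
      rfl)
    (by
      rw [← Module.End.mul_eq_comp, ← pow_succ, Nat.sub_add_cancel hr, h]
      rfl)

theorem equivOfPow_apply {M : Type*} [AddCommGroup M] [Module F M] (a : Module.End F M)
    (r : ℕ) (hr : 0 < r) (h : a ^ r = 1) (x : M) : equivOfPow a r hr h x = a x := rfl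

theorem equivOfPow_coe {M : Type*} [AddCommGroup M] [Module F M] (a : Module.End F M)
    (r : ℕ) (hr : 0 < r) (h : a ^ r = 1) :
    ((equivOfPow a r hr h : M ≃ₗ[F] M) : M →ₗ[F] M) = a := rfl

end general

section

variable {F : Type v} [Field F] {ι : Type} [Fintype ι] [DecidableEq ι]

/-- the glued endomorphism `a₁ ⊕ a₂` of `W ⊕ U = ι → F` -/
noncomputable def glue (W U : Submodule F (ι → F)) (hc : IsCompl W U)
    (a₁ : Module.End F W) (a₂ : Module.End F U) : Module.End F (ι → F) :=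
  (Submodule.prodEquivOfIsCompl W U hc).conj (LinearMap.prodMap a₁ a₂)

theorem glue_apply (W U : Submodule F (ι → F)) (hc : IsCompl W U)
    (a₁ : Module.End F W) (a₂ : Module.End F U) (w : W) (u : U) :
    glue W U hc a₁ a₂ ((w : ι → F) + (u : ι → F)) = ((a₁ w : W) : ι → F) + ((a₂ u : U) : ι → F) := by
  have h1 : (w : ι → F) + (u : ι → F) = Submodule.prodEquivOfIsCompl W U hc (w, u) := by
    rw [Submodule.coe_prodEquivOfIsCompl']
  rw [h1, glue, LinearEquiv.conj_apply_apply, LinearEquiv.symm_apply_apply,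
    Submodule.coe_prodEquivOfIsCompl']
  rfl

theorem exists_decomp (W U : Submodule F (ι → F)) (hc : IsCompl W U) (v : ι → F) :
    ∃ (w : W) (u : U), v = (w : ι → F) + (u : ι → F) := by
  obtain ⟨⟨w, u⟩, rfl⟩ := (Submodule.prodEquivOfIsCompl W U hc).surjective v
  exact ⟨w, u, by rw [Submodule.coe_prodEquivOfIsCompl']⟩

theorem glue_pow (W U : Submodule F (ι → F)) (hc : IsCompl W U)
    (a₁ : Module.End F W) (a₂ : Module.End F U) (k : ℕ) :
    glue W U hc a₁ a₂ ^ k = glue W U hc (a₁ ^ k) (a₂ ^ k) := by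
  unfold glue
  rw [← prodMap_pow']
  exact (map_pow (Submodule.prodEquivOfIsCompl W U hc).conjRingEquiv _ k).symm

theorem glue_one (W U : Submodule F (ι → F)) (hc : IsCompl W U) :
    glue W U hc 1 1 = 1 := by
  unfold glue
  rw [LinearMap.prodMap_one]
  exact map_one (Submodule.prodEquivOfIsCompl W U hc).conjRingEquiv

theorem glue_charpoly (W U : Submodule F (ι → F)) (hc : IsCompl W U)
    (a₁ : Module.End F W) (a₂ : Module.End F U) :
    (glue W U hc a₁ a₂).charpoly = a₁.charpoly * a₂.charpoly := by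
  unfold glue
  rw [LinearEquiv.charpoly_conj, LinearMap.charpoly_prodMap]

/-- **OND-GLUE**: gluing isometries of two orthogonal complementary subspaces. -/
theorem GLUE (Q : QuadraticForm F (ι → F)) (W U : Submodule F (ι → F)) (hc : IsCompl W U)
    (horth : ∀ w ∈ W, ∀ u ∈ U, QuadraticMap.polar ⇑Q w u = 0)
    (a₁ : Module.End F W) (a₂ : Module.End F U)
    (h₁ : ∀ w : W, Q ((a₁ w : W) : ι → F) = Q (w : ι → F))
    (h₂ : ∀ u : U, Q ((a₂ u : U) : ι → F) = Q (u : ι → F))
    (r : ℕ) (hr : 0 < r) (hp₁ : a₁ ^ r = 1) (hp₂ : a₂ ^ r = 1) :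
    ∃ g : ↥(Cfsg.isometryGroup F ⇑Q), g ^ r = 1 ∧
      (mat Q g).charpoly = a₁.charpoly * a₂.charpoly ∧
      W.map (Matrix.toLin' (mat Q g)) ≤ W := by
  classical
  set T : Module.End F (ι → F) := glue W U hc a₁ a₂ with hT
  have hTr : T ^ r = 1 := by
    rw [hT, glue_pow, hp₁, hp₂, glue_one]
  have hiso : ∀ v, Q (T v) = Q v := by
    intro v
    obtain ⟨w, u, rfl⟩ := exists_decomp W U hc v
    rw [hT, glue_apply, QuadraticMap.map_add Q, QuadraticMap.map_add Q, h₁, h₂,
      horth _ (a₁ w).2 _ (a₂ u).2, horth _ w.2 _ u.2]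
  set G : (ι → F) ≃ₗ[F] (ι → F) := equivOfPow T r hr hTr with hG
  have hGiso : ∀ v, Q (G v) = Q v := fun v => hiso v
  set g : ↥(Cfsg.isometryGroup F ⇑Q) := Helper44_WittMat.isomOfEquiv Q G hGiso with hg
  have hmat : mat Q g = LinearMap.toMatrix' T := rfl
  have hlin : Matrix.toLin' (mat Q g) = T := by
    rw [hmat, Matrix.toLin'_toMatrix']
  refine ⟨g, ?_, ?_, ?_⟩
  · rw [← mat_pow_eq_one_iff]
    apply Matrix.toLin'.injective
    rw [Matrix.toLin'_pow, hlin, hTr, Matrix.toLin'_one]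
    rfl
  · rw [← Matrix.charpoly_toLin', hlin, hT, glue_charpoly]
  · rw [hlin]
    rintro _ ⟨w, hw, rfl⟩
    have h0 : T w = ((a₁ ⟨w, hw⟩ : W) : ι → F) + ((a₂ 0 : U) : ι → F) := by
      rw [hT, ← glue_apply, Submodule.coe_zero, add_zero]
    show T w ∈ W
    rw [h0, map_zero, Submodule.coe_zero, add_zero]
    exact (a₁ ⟨w, hw⟩).2

end

end Cfsg.Agent.Lib.Helper85_OND_GLUE
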