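import Mathlib
import Cfsg.Prelude.Def_GeometricClasses
import Cfsg.Agent.Lib.Helper40_OEven
import Cfsg.Agent.Lib.Helper99_SpElt
import Cfsg.Agent.Lib.Helper85_OND_GLUE
import Cfsg.Agent.Lib.Helper85_OND_CONJ
import Cfsg.Agent.Lib.Helper73_OND_PERP
import Cfsg.Agent.Lib.Helper51_OND_ATOMS
import Cfsg.Agent.Lib.Helper51_OND_FIXDIM
import Cfsg.Agent.Lib.Helper51_OND_REAL

set_option autoImplicit false

/-!
S5989 / S5991, package SUFF: an element of odd prime order `r ≠ p` whose fixed space is large enough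
stabilises a member of the family (conjugation into the stabiliser of `W₀`).
-/

open Polynomial Module Matrix
open scoped MatrixGroups
open Cfsg.Agent.Lib.Helper40_SpBasic Cfsg.Agent.Lib.Helper40_OConj Cfsg.Agent.Lib.Helper40_OConj.OData
  Cfsg.Agent.Lib.Helper99_SpAtoms Cfsg.Agent.Lib.Helper40_OClasses Cfsg.Agent.Lib.Helper44_StdForms
  Cfsg.Agent.Lib.Helper40_OEvenModel Cfsg.Agent.Lib.Helper40_PrimeOrderClasses
  Cfsg.Agent.Lib.Helper85_OND_GLUE Cfsg.Agent.Lib.Helper85_OND_CONJ Cfsg.Agent.Lib.Helper51_OND_ATOMS Cfsg.Agent.Lib.Helper51_OND_FIXDIM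
  Cfsg.Agent.Lib.Helper51_OND_REAL

namespace Cfsg.Agent.Lib.Helper68_OND_SUFF

universe v

section poly

variable {F : Type v} [Field F]

/-- the product of a list of atom polynomials -/
theorem pal_list (r c : ℕ) (L : List F[X])
    (hL : ∀ α ∈ L, α.Monic ∧ α.natDegree = c ∧ α.reverse = α ∧
      (∀ f, Irreducible f → f ∣ α → f ∣ X ^ r - 1) ∧ α.eval 1 ≠ 0) :
    L.prod.Monic ∧ L.prod.natDegree = c * L.length ∧ L.prod.reverse = L.prod ∧
      (∀ f, Irreducible f → f ∣ L.prod → f ∣ X ^ r - 1) ∧ L.prod.eval 1 ≠ 0 := by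
  induction L with
  | nil =>
    refine ⟨by simp, by simp, ?_, ?_, by simp⟩
    · rw [List.prod_nil, ← C_1, reverse_C]
    intro f hf hd
    rw [List.prod_nil] at hd
    exact absurd (isUnit_of_dvd_one hd) hf.not_isUnit
  | cons α L ih =>
    obtain ⟨h1, h2, h3, h4, h5⟩ := hL α (List.mem_cons_self)
    obtain ⟨i1, i2, i3, i4, i5⟩ := ih (fun β hβ => hL β (List.mem_cons_of_mem _ hβ))
    rw [List.prod_cons, List.length_cons]
    refine ⟨h1.mul i1, ?_, ?_, ?_, ?_⟩
    · rw [h1.natDegree_mul i1, h2, i2]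
      ring
    · rw [reverse_mul_of_domain, h3, i3]
    · intro f hf hd
      rcases hf.prime.dvd_or_dvd hd with h | h
      · exact h4 f hf h
      · exact i4 f hf h
    · rw [eval_mul]
      exact mul_ne_zero h5 i5

/-- multiplying a palindromic polynomial by an even power of `X - 1` -/
theorem pal_pow_mul (r : ℕ) (hr : r.Prime) (k : ℕ) (P : F[X]) (hP : Pal r k P) (j : ℕ) :
    Pal r (k + j) ((X - 1) ^ (2 * j) * P) := by
  induction j with
  | zero => simpa using hP
  | succ j ih =>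
    have := pal_mul r (k + j) hr _ ih
    have h1 : ((X : F[X]) - 1) ^ (2 * (j + 1)) * P = (X - 1) ^ 2 * ((X - 1) ^ (2 * j) * P) := by
      rw [← mul_assoc, ← pow_add]
      congr 2
      ring
    rw [h1]
    exact this

/-- the multiplicity of the root `1` -/
theorem rootMultiplicity_one (e : ℕ) (P : F[X]) (hP : P.eval 1 ≠ 0) :
    ((X - 1) ^ e * P).rootMultiplicity 1 = e := by
  have hP0 : P ≠ 0 := by
    rintro rfl
    simp at hP
  have hX1 : ((X : F[X]) - 1) = X - C 1 := by rw [map_one]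
  have h0 : ((X : F[X]) - 1) ^ e * P ≠ 0 := by
    apply mul_ne_zero _ hP0
    apply pow_ne_zero
    rw [hX1]
    exact X_sub_C_ne_zero 1
  rw [rootMultiplicity_mul h0, hX1, rootMultiplicity_X_sub_C_pow,
    rootMultiplicity_eq_zero (by exact hP), add_zero]

end poly

section main

variable {F : Type v} [Field F] [Fintype F] {p : ℕ} [Fact p.Prime] [CharP F p]
  {ι : Type} [Fintype ι] [DecidableEq ι]

theorem atomDim_pos_even {r : ℕ} (hr : r.Prime) (hrp : r ≠ p) :
    0 < atomDim F r ∧ Even (atomDim F r) := by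
  obtain ⟨hipos, -⟩ := exists_cyclotomic_factors (F := F) p r hr hrp
  refine ⟨atomDim_pos hipos, ?_⟩
  unfold atomDim
  split_ifs with h
  · exact h
  · exact even_two_mul _

omit [Fintype F] [Fact p.Prime] in
theorem natCast_ne_zero'' {r : ℕ} (hr : r.Prime) (hp : p.Prime) (hrp : r ≠ p) :
    ((r : ℕ) : F) ≠ 0 := by
  rw [Ne, CharP.cast_eq_zero_iff F p]
  intro hdvd
  exact hrp ((Nat.prime_dvd_prime_iff_eq hp hr).1 hdvd).symm

/-- SUFF: the criterion is sufficient. -/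
theorem SUFF (h2 : (2 : F) ≠ 0) (Q : QuadraticForm F (ι → F))
    (hQ : (QuadraticMap.polarBilin Q).Nondegenerate) {r : ℕ} (hr : r.Prime) (hr2 : r ≠ 2)
    (hrp : r ≠ p) (g : ↥(Cfsg.isometryGroup F ⇑Q)) (hg : g ^ r = 1) (m : ℕ) (hm : Odd m)
    (hn : Even (Fintype.card ι)) (hmn : m < Fintype.card ι) (W₀ : Submodule F (ι → F))
    (hW₀ : finrank F W₀ = m ∧ Cfsg.Geo.IsNondegenerateOn (QuadraticMap.polar ⇑Q) W₀)
    (hcrit : m % atomDim F r + (Fintype.card ι - m) % atomDim F r ≤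
      finrank F (LinearMap.ker (Matrix.toLin' (mat Q g) - 1))) :
    ∃ W : Submodule F (ι → F), (finrank F W = m ∧
      Cfsg.Geo.IsNondegenerateOn (QuadraticMap.polar ⇑Q) W ∧
      Cfsg.Geo.AreIsometricFor ⇑Q W W₀) ∧ W.map (Matrix.toLin' (mat Q g)) ≤ W := by
  have hp : p.Prime := Fact.out
  have hrodd : Odd r := hr.odd_of_ne_two hr2
  have hrF : ((r : ℕ) : F) ≠ 0 := natCast_ne_zero'' hr hp hrp
  obtain ⟨hcpos, hceven⟩ := atomDim_pos_even (F := F) hr hrp
  set c := atomDim F r with hcdef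
  set n := Fintype.card ι with hndef
  obtain ⟨e, L, hχ, hL⟩ := ATOMS h2 Q hQ hr hr2 hrp g hg
  obtain ⟨hLm, hLd, hLrev, hLf, hL1⟩ := pal_list r c L hL
  set A := L.length with hAdef
  -- `e` is the dimension of the fixed space
  have hd := oData_of_mem Q g r hg hrodd hrF
  have hfd := FIXDIM h2 hd hQ
  rw [Matrix.charpoly_toLin', hχ, rootMultiplicity_one e _ hL1] at hfd
  rw [hfd] at hcrit
  -- degrees
  have hX1m : (((X : F[X]) - 1) ^ e).Monic := X_sub_one_props.1.pow e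
  have hdeg : e + c * A = n := by
    have h1 := Matrix.charpoly_natDegree_eq_dim (mat Q g)
    rw [hχ, hX1m.natDegree_mul hLm, X_sub_one_props.1.natDegree_pow, natDegree_X_sub_one, hLd,
      mul_one] at h1
    exact h1
  -- the split
  set t := min A (m / c) with htdef
  have htA : t ≤ A := min_le_left _ _
  have htm : t ≤ m / c := min_le_right _ _
  obtain ⟨c', hc'⟩ := hceven
  have hc2 : c = 2 * c' := by omega
  obtain ⟨m', hm'⟩ := hm
  obtain ⟨n', hn'⟩ := hn
  have hct : c * t ≤ m - 1 := by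
    have h1 : c * t ≤ c * (m / c) := Nat.mul_le_mul_left c htm
    have h3 : c * (m / c) ≤ m := Nat.mul_div_le m c
    have h4 : c * t = 2 * (c' * t) := by rw [hc2]; ring
    omega
  have hsum : c * t + c * (A - t) = c * A := by
    rw [← Nat.mul_add, Nat.add_sub_cancel' htA]
  have hcAt : c * (A - t) ≤ n - m - 1 := by
    have h4 : c * (A - t) = 2 * (c' * (A - t)) := by rw [hc2]; ring
    rcases Nat.lt_or_ge (m / c) A with hlt | hge
    · have ht : t = m / c := min_eq_right hlt.le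
      have h5 := Nat.div_add_mod m c
      have h6 := Nat.div_add_mod (n - m) c
      -- `c A ≤ c (m / c) + c ((n - m) / c)`
      have h7 : c * A ≤ c * (m / c) + c * ((n - m) / c) := by omega
      have h8 : c * (A - t) ≤ c * ((n - m) / c) := by
        rw [ht] at hsum ⊢
        omega
      have h9 : c * ((n - m) / c) ≤ n - m := Nat.mul_div_le _ _
      omega
    · have ht : t = A := min_eq_left hge
      rw [ht, Nat.sub_self, Nat.mul_zero]
      exact Nat.zero_le _
  -- the two polynomials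
  have hct2 : c * t = 2 * (c' * t) := by rw [hc2]; ring
  have hcAt2 : c * (A - t) = 2 * (c' * (A - t)) := by rw [hc2]; ring
  have hL₁ := pal_list r c (L.take t) (fun α hα => hL α (List.mem_of_mem_take hα))
  have hL₂ := pal_list r c (L.drop t) (fun α hα => hL α (List.mem_of_mem_drop hα))
  have hlen₁ : (L.take t).length = t := by
    rw [List.length_take]
    exact min_eq_left htA
  have hlen₂ : (L.drop t).length = A - t := List.length_drop
  rw [hlen₁] at hL₁
  rw [hlen₂] at hL₂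
  have hpal₁ : Pal r (c' * t) (L.take t).prod :=
    ⟨hL₁.1, by rw [hL₁.2.1, hct2], hL₁.2.2.1, hL₁.2.2.2.1⟩
  have hpal₂ : Pal r (c' * (A - t)) (L.drop t).prod :=
    ⟨hL₂.1, by rw [hL₂.2.1, hcAt2], hL₂.2.2.1, hL₂.2.2.2.1⟩
  set j₁ := m' - c' * t with hj₁
  set j₂ := (n - m - 1) / 2 - c' * (A - t) with hj₂
  have hP₁ := pal_pow_mul r hr _ _ hpal₁ j₁
  have hP₂ := pal_pow_mul r hr _ _ hpal₂ j₂
  have hk₁ : c' * t + j₁ = m' := by omega
  have hk₂ : c' * (A - t) + j₂ = (n - m - 1) / 2 := by omega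
  rw [hk₁] at hP₁
  rw [hk₂] at hP₂
  -- realisations
  obtain ⟨U, hcompl, horth, -, hUnd, hdim⟩ := Cfsg.Agent.Lib.Helper73_OND_PERP.PERP Q hQ W₀ hW₀.2
  have hW₀d : finrank F W₀ = 2 * m' + 1 := by rw [hW₀.1, hm']
  have hUd : finrank F U = 2 * ((n - m - 1) / 2) + 1 := by
    rw [hW₀.1] at hdim
    omega
  obtain ⟨a₁, ha₁, hp₁, hch₁⟩ := REAL h2 Q W₀ hW₀.2 m' hW₀d r hrodd hrF _ hP₁
  obtain ⟨a₂, ha₂, hp₂, hch₂⟩ := REAL h2 Q U hUnd ((n - m - 1) / 2) hUd r hrodd hrF _ hP₂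
  obtain ⟨g', hg', hch', hinv'⟩ := GLUE Q W₀ U hcompl horth a₁ a₂ ha₁ ha₂ r hr.pos hp₁ hp₂
  have hch : (mat Q g).charpoly = (mat Q g').charpoly := by
    rw [hch', hch₁, hch₂, hχ, ← List.prod_take_mul_prod_drop L t]
    have he : e = 1 + 2 * j₁ + (1 + 2 * j₂) := by omega
    rw [he, pow_add, pow_add, pow_add, pow_one]
    ring
  obtain ⟨W, ⟨h1, h2', h3⟩, h4⟩ := CONJ Q hQ g g' r hg hg' hrodd hrF hch W₀ hW₀.2 hinv'
  exact ⟨W, ⟨h1.trans hW₀.1, h2', h3⟩, h4⟩

end main

end Cfsg.Agent.Lib.Helper68_OND_SUFF
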