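import Mathlib
import Cfsg.Prelude.Def_GeometricClasses
import Cfsg.Prelude.Def_Classical
import Cfsg.Agent.Lib.Helper88_OrthNDDefs
import Cfsg.Agent.Lib.Helper99_SpAtoms
import Cfsg.Agent.Lib.Helper99_SpElt
import Cfsg.Agent.Lib.Helper44_StdForms
import Cfsg.Agent.Lib.Helper40_OEven
import Cfsg.Agent.Lib.Helper14_POmegaSimple

set_option autoImplicit false

/-!
# Core for packages ORTHND-ELT_plus / ELT_minus (helper88, S5974 / S5988 / S5990)

Elements of odd prime order `r ≠ p` of `Ω^±_{2d}(q)` (ANY characteristic) with a prescribed number `a`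
of atoms: characteristic polynomial `(X - 1) ^ (2 d - c a) * α ^ a`.
-/

namespace Cfsg.Agent.Lib.Helper70_OrthND_ELTCore

open Polynomial Matrix Module
open scoped commutatorElement
open Cfsg.Agent.Lib.Helper40_Palindromic Cfsg.Agent.Lib.Helper40_SpPrimeOrder
  Cfsg.Agent.Lib.Helper40_PolyFactors Cfsg.Agent.Lib.Helper40_PrimeOrderClasses
  Cfsg.Agent.Lib.Helper99_PrimeOrderSL Cfsg.Agent.Lib.Helper99_SpAtoms
  Cfsg.Agent.Lib.Helper99_SpElt
  Cfsg.Agent.Lib.Helper40_OEvenModel Cfsg.Agent.Lib.Helper40_OEven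
  Cfsg.Agent.Lib.Helper40_OClasses Cfsg.Agent.Lib.Helper44_StdForms
  Cfsg.Agent.Lib.Helper88_OrthNDDefs

/-- elements of odd order prime to the characteristic of the isometry group of a nondegenerate
quadratic form lie in `Ω` (any characteristic): they are conjugate to their inverses -/
theorem mem_omegaGL_of_odd {F : Type*} [Field F] [Finite F] {ι : Type} [Fintype ι] [DecidableEq ι]
    (Q : QuadraticForm F (ι → F)) (hQ : (QuadraticMap.polarBilin Q).Nondegenerate)
    (g : ↥(Cfsg.isometryGroup F ⇑Q)) (N : ℕ) (hg : g ^ N = 1) (hodd : Odd N)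
    (hne : (N : F) ≠ 0) : (g : GL ι F) ∈ Cfsg.Geo.omegaGL (⇑Q) := by
  have hginv : g⁻¹ ^ N = 1 := by rw [inv_pow, hg, inv_one]
  have hconj : IsConj g g⁻¹ :=
    isConj_of_charpoly_eq Q hQ g g⁻¹ N hg hginv hodd hne (charpoly_inv Q hQ g).symm
  obtain ⟨c, hc⟩ := isConj_iff.1 hconj
  have h1 : ⁅c, g⁆ ∈ commutator ↥(Cfsg.isometryGroup F ⇑Q) :=
    Subgroup.commutator_mem_commutator (Subgroup.mem_top c) (Subgroup.mem_top g)
  have h2 : ⁅c, g⁆ = (g ^ 2)⁻¹ := by
    rw [commutatorElement_def, hc, pow_two, _root_.mul_inv_rev]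
  rw [h2] at h1
  have h3 : g ^ 2 ∈ commutator ↥(Cfsg.isometryGroup F ⇑Q) := by
    have := Subgroup.inv_mem _ h1
    rwa [inv_inv] at this
  obtain ⟨t, ht⟩ := hodd
  have h4 : (g ^ 2) ^ (t + 1) = g := by
    rw [← pow_mul, show 2 * (t + 1) = N + 1 by omega, pow_succ, hg, one_mul]
  have h5 : g ∈ commutator ↥(Cfsg.isometryGroup F ⇑Q) := by
    rw [← h4]
    exact Subgroup.pow_mem _ h3 _
  exact Subgroup.mem_map.2 ⟨g, h5, rfl⟩

/-- the dimension of the fixed space of a semisimple matrix is the multiplicity of `X - 1` -/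
theorem finrank_ker_sub_one {F : Type*} [Field F] {ι : Type} [Fintype ι] [DecidableEq ι]
    (A : Matrix ι ι F) (r : ℕ) (hrF : (r : F) ≠ 0) (hAr : A ^ r = 1) (α : F[X])
    (hα1 : α.eval 1 ≠ 0) (m s : ℕ) (hch : A.charpoly = (X - 1) ^ m * α ^ s) :
    finrank F (LinearMap.ker (Matrix.toLin' A - 1)) = m := by
  set T : Module.End F (ι → F) := Matrix.toLin' A with hT
  have hTr : T ^ r = 1 := by
    rw [hT, ← Matrix.toLin'_pow, hAr, Matrix.toLin'_one]
    rfl
  have hss : T.IsSemisimple := isSemisimple_of_pow_eq_one T r hrF hTr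
  have hker : LinearMap.ker (T - 1) = Module.End.eigenspace T 1 := by
    rw [Module.End.eigenspace_def, one_smul]
  have hX1 : ((X : F[X]) - 1) = X - C 1 := by rw [map_one]
  have hne : (X - 1 : F[X]) ^ m * α ^ s ≠ 0 := by
    rw [← hch]
    exact (Matrix.charpoly_monic A).ne_zero
  rw [hker, ← hss.isFinitelySemisimple.maxGenEigenspace_eq_eigenspace,
    LinearMap.finrank_maxGenEigenspace_eq, hT, Matrix.charpoly_toLin', hch,
    rootMultiplicity_mul hne, hX1, rootMultiplicity_X_sub_C_pow,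
    rootMultiplicity_eq_zero, add_zero]
  rw [IsRoot.def, eval_pow]
  exact pow_ne_zero _ hα1

/-- from an isometry of odd order `r` with characteristic polynomial `(X - 1) ^ m * α ^ s` to the
package conclusion -/
theorem finish {F : Type*} [Field F] [Finite F] {ι : Type} [Fintype ι] [DecidableEq ι]
    (Q : QuadraticForm F (ι → F)) (hQ : (QuadraticMap.polarBilin Q).Nondegenerate)
    (r : ℕ) (hrodd : Odd r) (hrF : (r : F) ≠ 0) (α : F[X]) (hα1 : α.eval 1 ≠ 0) (m s : ℕ)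
    (g₀ : ↥(Cfsg.isometryGroup F ⇑Q)) (hg1 : g₀ ^ r = 1)
    (hg2 : (mat Q g₀).charpoly = (X - 1) ^ m * α ^ s) :
    ∃ x : GL ι F, x ∈ Cfsg.Geo.omegaGL (⇑Q) ∧ x ^ r = 1 ∧
      finrank F (LinearMap.ker (Matrix.toLin' (x : Matrix ι ι F) - 1)) = m := by
  have hxr : (g₀ : GL ι F) ^ r = 1 := by
    rw [← SubgroupClass.coe_pow, hg1]; rfl
  exact ⟨(g₀ : GL ι F), mem_omegaGL_of_odd Q hQ g₀ r hg1 hrodd hrF, hxr,
    finrank_ker_sub_one (mat Q g₀) r hrF ((mat_pow_eq_one_iff Q g₀ r).2 hg1) α hα1 m s hg2⟩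

section poly

variable {F : Type*} [Field F] [Fintype F] (p : ℕ) [Fact p.Prime] [CharP F p]

omit [Field F] in
/-- `atomDim` is even -/
theorem even_atomDim (r : ℕ) : Even (atomDim F r) := by
  unfold atomDim
  split_ifs with h
  · exact h
  · exact even_two_mul _

/-- the test polynomial `(X - 1) ^ (2 d - c a) * α ^ a` -/
theorem exists_test_poly (d r : ℕ) (hr : r.Prime) (hr2 : r ≠ 2) (hrp : r ≠ p) (a : ℕ)
    (hle : atomDim F r * a ≤ 2 * d) :
    ∃ α : F[X], α.eval 1 ≠ 0 ∧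
      Pal r d ((X - 1) ^ (2 * d - atomDim F r * a) * α ^ a) ∧
      (atomDim F r * a < 2 * d → ((X : F[X]) - 1) ∣ (X - 1) ^ (2 * d - atomDim F r * a) * α ^ a) ∧
      (atomDim F r * a = 2 * d → ¬ ((X : F[X]) - 1) ∣ (X - 1) ^ (2 * d - atomDim F r * a) * α ^ a) := by
  classical
  obtain ⟨α, hαm, hαdeg, hαrev, hαd, hα1⟩ := exists_atom_poly (F := F) (p := p) hr hr2 hrp
  set c := atomDim F r with hc
  have hce : Even c := even_atomDim r
  set m := 2 * d - c * a with hm
  have hme : Even m := by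
    rw [hm, Nat.even_sub hle]
    exact ⟨fun _ => hce.mul_right a, fun _ => even_two_mul d⟩
  have hX1 : ((X : F[X]) - 1) = X - C 1 := by rw [map_one]
  have hX1m : ((X : F[X]) - 1).Monic := by rw [hX1]; exact monic_X_sub_C 1
  have hX1i : Irreducible ((X : F[X]) - 1) := by rw [hX1]; exact irreducible_X_sub_C 1
  have hX1d : ((X : F[X]) - 1) ∣ X ^ r - 1 := by
    have := sub_dvd_pow_sub_pow (X : F[X]) 1 r
    rwa [one_pow] at this
  refine ⟨α, hα1, ⟨(hX1m.pow m).mul (hαm.pow a), ?_, ?_, ?_⟩, ?_, ?_⟩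
  · rw [(hX1m.pow m).natDegree_mul (hαm.pow a), hX1m.natDegree_pow, hαm.natDegree_pow, hX1,
      natDegree_X_sub_C, hαdeg, mul_one]
    have := Nat.mul_comm a c
    omega
  · rw [reverse_mul_of_domain, reverse_X_sub_one_pow m hme, reverse_pow', hαrev]
  · intro g hg hgf
    rcases hg.prime.dvd_or_dvd hgf with h | h
    · exact (hg.prime.dvd_of_dvd_pow h).trans hX1d
    · exact (hg.prime.dvd_of_dvd_pow h).trans hαd
  · intro hlt
    have hm1 : m = (m - 1) + 1 := by omega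
    rw [hm1, pow_succ]
    exact Dvd.intro_left ((X - 1) ^ (m - 1) * α ^ a) (by ring)
  · intro heq hdvd
    have hm0 : m = 0 := by omega
    rw [hm0, pow_zero, one_mul] at hdvd
    have h1 := hX1i.prime.dvd_of_dvd_pow hdvd
    apply hα1
    rw [hX1] at h1
    exact (dvd_iff_isRoot.1 h1)

end poly

end Cfsg.Agent.Lib.Helper70_OrthND_ELTCore
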