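import Mathlib
import Cfsg.Agent.Lib.Helper70_OrthND_ELTCore

set_option autoImplicit false

/-!
# Package ORTHND-ELT_minus (helper88, S5974 / S5988 / S5990): test elements of odd prime order `r ≠ p`
in `Ω⁻_{2d}(q)` with `a` atoms, for every `Valid a` (any characteristic).
-/

namespace Cfsg.Agent.Lib.Helper70_OrthND_ELT_minus

open Polynomial Matrix Module
open Cfsg.Agent.Lib.Helper40_SpBasic Cfsg.Agent.Lib.Helper88_OrthNDDefs
  Cfsg.Agent.Lib.Helper99_SpAtoms Cfsg.Agent.Lib.Helper44_StdForms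
  Cfsg.Agent.Lib.Helper99_PrimeOrderSL
  Cfsg.Agent.Lib.Helper40_OEvenModel Cfsg.Agent.Lib.Helper40_OEven
  Cfsg.Agent.Lib.Helper40_OClasses Cfsg.Agent.Lib.Helper70_OrthND_ELTCore

/-- ELT (minus) -/
theorem ELT_minus {F : Type*} [Field F] [Fintype F] (p : ℕ) [Fact p.Prime] [CharP F p] (d : ℕ)
    (hd : 1 ≤ d) (a₀ b₀ : F)
    (hab : ∀ x y : F, x ^ 2 + a₀ * x * y + b₀ * y ^ 2 = 0 → x = 0 ∧ y = 0)
    (r : ℕ) (hr : r.Prime) (hr2 : r ≠ 2) (hrp : r ≠ p) (a : ℕ)
    (ha : Valid (orderOf ((Fintype.card F : ℕ) : ZMod r)) (atomDim F r) (2 * d) False a) :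
    ∃ x : GL ((Fin (d - 1) ⊕ Fin (d - 1)) ⊕ Fin 2) F,
      x ∈ Cfsg.Geo.omegaGL (Cfsg.quadFormMinus (d - 1) F a₀ b₀) ∧ x ^ r = 1 ∧
      finrank F (LinearMap.ker (Matrix.toLin'
        (x : Matrix ((Fin (d - 1) ⊕ Fin (d - 1)) ⊕ Fin 2) ((Fin (d - 1) ⊕ Fin (d - 1)) ⊕ Fin 2) F) - 1)) =
        2 * d - atomDim F r * a := by
  classical
  have hrodd : Odd r := hr.odd_of_ne_two hr2
  have hrF : ((r : ℕ) : F) ≠ 0 := natCast_ne_zero (p := p) hr hrp
  obtain ⟨ha1, hle, heq⟩ := ha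
  obtain ⟨α, hα1, hpal, hlt, hnd⟩ := exists_test_poly (F := F) p d r hr hr2 hrp a hle
  have hex : ∃ g₀ : ↥(Cfsg.isometryGroup F ⇑(qfMinus (d - 1) F a₀ b₀)),
      g₀ ^ r = 1 ∧ (mat (qfMinus (d - 1) F a₀ b₀) g₀).charpoly =
        (X - 1) ^ (2 * d - atomDim F r * a) * α ^ a := by
    rcases Nat.lt_or_ge (atomDim F r * a) (2 * d) with h | h
    · exact (real_of_dvd d hd r hrodd hrF _ hpal (hlt h) a₀ b₀ hab).2
    · have hca : atomDim F r * a = 2 * d := le_antisymm hle h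
      rcases real_of_not_dvd d hd r hrodd hrF _ hpal a₀ b₀ hab with ⟨g₀, hg1, hg2⟩ | h'
      · exfalso
        obtain ⟨-, hdvd⟩ := plus_excl p d hd r hr hr2 hrp g₀ hg1
          (by rw [hg2]; exact hnd hca)
        have hns : ¬ SignPlus (orderOf ((Fintype.card F : ℕ) : ZMod r)) a :=
          fun h => (heq hca).2 h
        have hnodd : ¬ Odd (orderOf ((Fintype.card F : ℕ) : ZMod r)) := fun h => hns (Or.inl h)
        have hnev : ¬ Even a := fun h => hns (Or.inr h)
        have hev : Even (orderOf ((Fintype.card F : ℕ) : ZMod r)) := Nat.not_odd_iff_even.1 hnodd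
        have hc : atomDim F r = orderOf ((Fintype.card F : ℕ) : ZMod r) := by
          unfold atomDim
          rw [if_pos hev]
        have hi1 : orderOf ((Fintype.card F : ℕ) : ZMod r) ≠ 1 := by
          intro h1
          rw [h1] at hnodd
          exact hnodd odd_one
        obtain ⟨k, hk⟩ := hdvd hi1
        apply hnev
        refine ⟨k, ?_⟩
        rw [hc] at hca
        have hipos : 0 < orderOf ((Fintype.card F : ℕ) : ZMod r) := by
          rcases Nat.eq_zero_or_pos (orderOf ((Fintype.card F : ℕ) : ZMod r)) with h0 | h0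
          · rw [h0, zero_mul] at hca
            omega
          · exact h0
        have h3 : orderOf ((Fintype.card F : ℕ) : ZMod r) * a =
            orderOf ((Fintype.card F : ℕ) : ZMod r) * (k + k) := by
          rw [hca, hk]; ring
        exact Nat.eq_of_mul_eq_mul_left hipos h3
      · exact h'
  obtain ⟨g₀, hg1, hg2⟩ := hex
  have := finish (qfMinus (d - 1) F a₀ b₀)
    (Cfsg.Agent.Lib.Helper14_POmegaSimple.nondegenerate_qfMinus (d - 1) a₀ b₀ hab)
    r hrodd hrF α hα1 _ a g₀ hg1 hg2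
  rwa [coe_qfMinus] at this

end Cfsg.Agent.Lib.Helper70_OrthND_ELT_minus
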