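import Mathlib
import Cfsg.Agent.Lib.Helper70_OrthND_ELTCore

set_option autoImplicit false

/-!
# Package ORTHND-ELT_plus (helper88, S5974 / S5988 / S5990): test elements of odd prime order `r ≠ p`
in `Ω⁺_{2d}(q)` with `a` atoms, for every `Valid a` (any characteristic).
-/

namespace Cfsg.Agent.Lib.Helper70_OrthND_ELT_plus

open Polynomial Matrix Module
open Cfsg.Agent.Lib.Helper40_SpBasic Cfsg.Agent.Lib.Helper88_OrthNDDefs
  Cfsg.Agent.Lib.Helper99_SpAtoms Cfsg.Agent.Lib.Helper44_StdForms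
  Cfsg.Agent.Lib.Helper99_PrimeOrderSL
  Cfsg.Agent.Lib.Helper40_OEvenModel Cfsg.Agent.Lib.Helper40_OEven
  Cfsg.Agent.Lib.Helper40_OClasses Cfsg.Agent.Lib.Helper70_OrthND_ELTCore

/-- ELT (plus) -/
theorem ELT_plus {F : Type*} [Field F] [Fintype F] (p : ℕ) [Fact p.Prime] [CharP F p] (d : ℕ)
    (hd : 1 ≤ d) (r : ℕ) (hr : r.Prime) (hr2 : r ≠ 2) (hrp : r ≠ p) (a : ℕ)
    (ha : Valid (orderOf ((Fintype.card F : ℕ) : ZMod r)) (atomDim F r) (2 * d) True a) :
    ∃ x : GL (Fin d ⊕ Fin d) F, x ∈ Cfsg.Geo.omegaGL (Cfsg.quadFormPlus d F) ∧ x ^ r = 1 ∧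
      finrank F (LinearMap.ker (Matrix.toLin' (x : Matrix (Fin d ⊕ Fin d) (Fin d ⊕ Fin d) F) - 1)) =
        2 * d - atomDim F r * a := by
  classical
  have hrodd : Odd r := hr.odd_of_ne_two hr2
  have hrF : ((r : ℕ) : F) ≠ 0 := natCast_ne_zero (p := p) hr hrp
  obtain ⟨ha1, hle, heq⟩ := ha
  obtain ⟨α, hα1, hpal, hlt, hnd⟩ := exists_test_poly (F := F) p d r hr hr2 hrp a hle
  obtain ⟨ζ, hζ⟩ := Cfsg.Agent.Lib.Helper40_QuadStd.exists_aniso (F := F)
  have hex : ∃ g₀ : ↥(Cfsg.isometryGroup F ⇑(qfPlus d F)),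
      g₀ ^ r = 1 ∧ (mat (qfPlus d F) g₀).charpoly =
        (X - 1) ^ (2 * d - atomDim F r * a) * α ^ a := by
    rcases Nat.lt_or_ge (atomDim F r * a) (2 * d) with h | h
    · exact (real_of_dvd d hd r hrodd hrF _ hpal (hlt h) 1 ζ hζ).1
    · have hca : atomDim F r * a = 2 * d := le_antisymm hle h
      rcases real_of_not_dvd d hd r hrodd hrF _ hpal 1 ζ hζ with h' | ⟨g₀, hg1, hg2⟩
      · exact h'
      · exfalso
        obtain ⟨hnodd, -, hndvd⟩ := minus_excl p d hd r hr hr2 hrp 1 ζ hζ g₀ hg1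
          (by rw [hg2]; exact hnd hca)
        rcases (heq hca).1 trivial with ho | he
        · exact hnodd ho
        · apply hndvd
          have hev : Even (orderOf ((Fintype.card F : ℕ) : ZMod r)) := Nat.not_odd_iff_even.1 hnodd
          have hc : atomDim F r = orderOf ((Fintype.card F : ℕ) : ZMod r) := by
            unfold atomDim
            rw [if_pos hev]
          obtain ⟨k, hk⟩ := he
          refine ⟨k, ?_⟩
          rw [hc, hk] at hca
          have : 2 * (orderOf ((Fintype.card F : ℕ) : ZMod r) * k) = 2 * d := by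
            rw [← hca]; ring
          omega
  obtain ⟨g₀, hg1, hg2⟩ := hex
  have := finish (qfPlus d F) (Cfsg.Agent.Lib.Helper14_POmegaSimple.nondegenerate_qfPlus d)
    r hrodd hrF α hα1 _ a g₀ hg1 hg2
  rwa [coe_qfPlus] at this

end Cfsg.Agent.Lib.Helper70_OrthND_ELT_plus
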