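import Mathlib
import Cfsg.Agent.Lib.Helper35_OTS_OS

/-!
# Package OND-NA of helper68 (S5989 / S5991): `atomDim ∣ dim [V,a]`

Direct consequence of helper35's `OS` (first conjunct).
-/

set_option autoImplicit false

open Polynomial Module
open Cfsg.Agent.Lib.Helper40_SpBasic Cfsg.Agent.Lib.Helper40_OConj Cfsg.Agent.Lib.Helper99_SpAtoms

namespace Cfsg.Agent.Lib.Helper73_OND_NA

universe v

theorem NA {F : Type v} [Field F] [Fintype F] {p : ℕ} [Fact p.Prime] [CharP F p]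
    {V : Type v} [AddCommGroup V] [Module F V] [FiniteDimensional F V] (h2 : (2 : F) ≠ 0)
    {Q : QuadraticForm F V} {a : Module.End F V} {r : ℕ}
    (h : OData Q a r) (hQ : (pol Q).Nondegenerate) (hr : r.Prime) (hr2 : r ≠ 2) (hrp : r ≠ p) :
    ∃ A : ℕ, atomDim F r * A + finrank F (LinearMap.ker (a - 1)) = finrank F V := by
  obtain ⟨cnt, h1, _⟩ := Cfsg.Agent.Lib.Helper35_OTS_OS.OS h2 h hQ hr hr2 hrp
  exact ⟨cnt, h1⟩

end Cfsg.Agent.Lib.Helper73_OND_NA
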