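import Mathlib
import Cfsg.Prelude.Def_GeometricClasses
import Cfsg.Agent.Lib.Helper40_OClasses
import Cfsg.Agent.Lib.Helper82_OrthND_R3
import Cfsg.Agent.Lib.Helper73_OND_NA
import Cfsg.Agent.Lib.Helper73_OND_PERP

/-!
# Package OND-NEC of helper68 (S5989 / S5991): necessity

An invariant nondegenerate subspace splits the fixed space and the atoms.
-/

set_option autoImplicit false

open Polynomial Module Matrix
open Cfsg.Agent.Lib.Helper40_SpBasic Cfsg.Agent.Lib.Helper40_OConj Cfsg.Agent.Lib.Helper99_SpAtoms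
  Cfsg.Agent.Lib.Helper40_OClasses

namespace Cfsg.Agent.Lib.Helper73_OND_NEC

universe v

section

variable {F : Type v} [Field F] [Fintype F] {p : ℕ} [Fact p.Prime] [CharP F p]
  {ι : Type} [Fintype ι] [DecidableEq ι]

/-- `IsNondegenerateOn` gives `NDOn`. -/
theorem ndOn_of_isNondegenerateOn (Q : QuadraticForm F (ι → F)) (X : Submodule F (ι → F))
    (hX : Cfsg.Geo.IsNondegenerateOn (QuadraticMap.polar ⇑Q) X) :
    NDOn (QuadraticMap.polarBilin Q) X := by
  intro x hx hxy
  by_contra hx0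
  obtain ⟨_, ⟨y, hy, hne⟩⟩ := hX x hx hx0
  exact hne (hxy y hy)

/-- `NA` applied to an invariant nondegenerate subspace. -/
theorem na_sub (h2 : (2 : F) ≠ 0) (Q : QuadraticForm F (ι → F)) {a : Module.End F (ι → F)} {r : ℕ}
    (h : OData Q a r) (hr : r.Prime) (hr2 : r ≠ 2) (hrp : r ≠ p)
    (X : Submodule F (ι → F)) (hX : Cfsg.Geo.IsNondegenerateOn (QuadraticMap.polar ⇑Q) X)
    (hinv : ∀ x ∈ X, a x ∈ X) :
    ∃ A : ℕ, atomDim F r * A + finrank F ↥(X ⊓ LinearMap.ker (a - 1)) = finrank F X := by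
  have hnd : (pol (Q.comp X.subtype)).Nondegenerate :=
    Cfsg.Agent.Lib.Helper82_OrthND_R3.nondegenerate_comp_subtype Q X
      (ndOn_of_isNondegenerateOn Q X hX)
  have hd : OData (Q.comp X.subtype) (a.restrict hinv) r :=
    { iso := fun x => h.iso (x : ι → F)
      pow := by
        rw [Module.End.pow_restrict]
        ext x
        have := h.pow
        simp [this]
      odd := h.odd
      ne := h.ne }
  obtain ⟨A, hA⟩ := Cfsg.Agent.Lib.Helper73_OND_NA.NA (p := p) h2 hd hnd hr hr2 hrp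
  refine ⟨A, ?_⟩
  rw [← hA]
  congr 1
  -- `ker (a' - 1)` maps onto `X ⊓ ker (a - 1)`
  have hmap : (LinearMap.ker (a.restrict hinv - 1)).map X.subtype = X ⊓ LinearMap.ker (a - 1) := by
    ext v
    constructor
    · intro hv
      obtain ⟨x, hx, rfl⟩ := Submodule.mem_map.1 hv
      refine Submodule.mem_inf.2 ⟨x.2, ?_⟩
      rw [LinearMap.mem_ker] at hx ⊢
      have := congrArg Subtype.val hx
      simpa using this
    · intro hv
      obtain ⟨hvX, hvk⟩ := Submodule.mem_inf.1 hv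
      refine Submodule.mem_map.2 ⟨⟨v, hvX⟩, ?_, rfl⟩
      rw [LinearMap.mem_ker] at hvk ⊢
      apply Subtype.ext
      simpa using hvk
  rw [← hmap, Submodule.finrank_map_subtype_eq]

theorem NEC (h2 : (2 : F) ≠ 0) (Q : QuadraticForm F (ι → F))
    (hQ : (QuadraticMap.polarBilin Q).Nondegenerate) {r : ℕ} (hr : r.Prime) (hr2 : r ≠ 2)
    (hrp : r ≠ p) (g : ↥(Cfsg.isometryGroup F ⇑Q)) (hg : g ^ r = 1)
    (W : Submodule F (ι → F)) (hW : Cfsg.Geo.IsNondegenerateOn (QuadraticMap.polar ⇑Q) W)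
    (hinv : W.map (Matrix.toLin' (mat Q g)) ≤ W) :
    ∃ e₁ e₂ A₁ A₂ : ℕ, atomDim F r * A₁ + e₁ = finrank F W ∧
      atomDim F r * A₂ + e₂ + finrank F W = Fintype.card ι ∧
      e₁ + e₂ = finrank F (LinearMap.ker (Matrix.toLin' (mat Q g) - 1)) := by
  classical
  have hodd : Odd r := hr.odd_of_ne_two hr2
  have hrF : ((r : ℕ) : F) ≠ 0 :=
    Cfsg.Agent.Lib.Helper99_PrimeOrderSL.natCast_ne_zero (p := p) hr hrp
  set a : Module.End F (ι → F) := Matrix.toLin' (mat Q g) with ha
  have hd : OData Q a r := oData_of_mem Q g r hg hodd hrF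
  obtain ⟨U, hWU, horth, hUmax, hUnd, hdim⟩ := Cfsg.Agent.Lib.Helper73_OND_PERP.PERP Q hQ W hW
  have hWinv : ∀ w ∈ W, a w ∈ W := fun w hw => hinv (Submodule.mem_map_of_mem hw)
  have hWpow : ∀ k : ℕ, ∀ w ∈ W, (a ^ k) w ∈ W := by
    intro k
    induction k with
    | zero => intro w hw; simpa using hw
    | succ k ih =>
      intro w hw
      rw [pow_succ', Module.End.mul_apply]
      exact hWinv _ (ih w hw)
  have hUinv : ∀ u ∈ U, a u ∈ U := by
    intro u hu
    apply hUmax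
    intro w hw
    have h1 : a ((a ^ (r - 1)) w) = w := by
      rw [← Module.End.mul_apply, ← pow_succ', Nat.sub_add_cancel hr.one_le, hd.pow,
        Module.End.one_apply]
    have hpiso : ∀ x y, QuadraticMap.polar (⇑Q) (a x) (a y) = QuadraticMap.polar (⇑Q) x y := by
      intro x y
      unfold QuadraticMap.polar
      rw [← map_add, hd.iso, hd.iso, hd.iso]
    rw [← h1, hpiso]
    exact horth _ (hWpow (r - 1) w hw) u hu
  obtain ⟨A₁, hA₁⟩ := na_sub (p := p) h2 Q hd hr hr2 hrp W hW hWinv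
  obtain ⟨A₂, hA₂⟩ := na_sub (p := p) h2 Q hd hr hr2 hrp U hUnd hUinv
  refine ⟨finrank F ↥(W ⊓ LinearMap.ker (a - 1)), finrank F ↥(U ⊓ LinearMap.ker (a - 1)), A₁, A₂,
    hA₁, by omega, ?_⟩
  -- the fixed space splits
  have hsup : (W ⊓ LinearMap.ker (a - 1)) ⊔ (U ⊓ LinearMap.ker (a - 1)) = LinearMap.ker (a - 1) := by
    apply le_antisymm (sup_le inf_le_right inf_le_right)
    intro v hv
    have hv' : a v = v := by
      rw [LinearMap.mem_ker, LinearMap.sub_apply, Module.End.one_apply, sub_eq_zero] at hv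
      exact hv
    have hvtop : v ∈ W ⊔ U := by rw [hWU.sup_eq_top]; exact Submodule.mem_top
    obtain ⟨w, hw, u, hu, rfl⟩ := Submodule.mem_sup.1 hvtop
    rw [map_add] at hv'
    -- `a w - w = u - a u ∈ W ⊓ U = ⊥`
    have h3 : a w - w = u - a u := by
      have : a w + a u - (w + a u) = w + u - (w + a u) := by rw [hv']
      have e1 : a w + a u - (w + a u) = a w - w := by abel
      have e2 : w + u - (w + a u) = u - a u := by abel
      rw [e1, e2] at this
      exact this
    have h4 : a w - w ∈ W ⊓ U := by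
      refine Submodule.mem_inf.2 ⟨W.sub_mem (hWinv w hw) hw, ?_⟩
      rw [h3]
      exact U.sub_mem hu (hUinv u hu)
    rw [hWU.inf_eq_bot, Submodule.mem_bot] at h4
    have hw1 : a w = w := sub_eq_zero.mp h4
    have hu1 : a u = u := by
      rw [h4] at h3
      exact (sub_eq_zero.mp h3.symm).symm
    apply Submodule.add_mem_sup
    · refine Submodule.mem_inf.2 ⟨hw, ?_⟩
      rw [LinearMap.mem_ker, LinearMap.sub_apply, Module.End.one_apply, hw1, sub_self]
    · refine Submodule.mem_inf.2 ⟨hu, ?_⟩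
      rw [LinearMap.mem_ker, LinearMap.sub_apply, Module.End.one_apply, hu1, sub_self]
  have hinf : (W ⊓ LinearMap.ker (a - 1)) ⊓ (U ⊓ LinearMap.ker (a - 1)) = ⊥ := by
    rw [eq_bot_iff]
    intro v hv
    have hv1 := (Submodule.mem_inf.1 (Submodule.mem_inf.1 hv).1).1
    have hv2 := (Submodule.mem_inf.1 (Submodule.mem_inf.1 hv).2).1
    have : v ∈ W ⊓ U := Submodule.mem_inf.2 ⟨hv1, hv2⟩
    rwa [hWU.inf_eq_bot] at this
  have h5 := Submodule.finrank_sup_add_finrank_inf_eq (W ⊓ LinearMap.ker (a - 1))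
    (U ⊓ LinearMap.ker (a - 1))
  rw [hsup, hinf, finrank_bot, add_zero] at h5
  exact h5.symm

end

end Cfsg.Agent.Lib.Helper73_OND_NEC
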