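import Mathlib
import Cfsg.Prelude.Def_GeometricClasses
import Cfsg.Agent.Lib.Helper99_OrthTSDefs
import Cfsg.Agent.Lib.Helper40_OClasses
import Cfsg.Agent.Lib.Helper44_OmegaAll

/-!
# Package RED of helper99's orthogonal core (S5973 / S5987)

From `Ω` modulo scalars to the elements of order `r` of the isometry group (`r` an odd prime).
-/

set_option autoImplicit false

open Polynomial Module Matrix
open Cfsg.Agent.Lib.Helper40_SpBasic Cfsg.Agent.Lib.Helper40_OConj Cfsg.Agent.Lib.Helper40_OClasses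

namespace Cfsg.Agent.Lib.Helper73_OrthTS_RED

universe u

variable {ι : Type} [Fintype ι] [DecidableEq ι]
variable {F : Type u} [Field F]

/-- a nondegenerate quadratic form on a nonzero space is not identically zero -/
theorem exists_ne_zero (Q₀ : QuadraticForm F (ι → F)) (hQ₀ : (pol Q₀).Nondegenerate)
    (hι : 0 < Fintype.card ι) : ∃ v : ι → F, Q₀ v ≠ 0 := by
  by_contra hcon
  push Not at hcon
  obtain ⟨i⟩ : Nonempty ι := Fintype.card_pos_iff.mp hι
  have h1 : (fun _ : ι => (1 : F)) = 0 := by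
    apply hQ₀.1
    intro y
    rw [pol_apply, hcon, hcon, hcon]
    ring
  have h2 := congrFun h1 i
  simp at h2

/-- a scalar isometry has square one -/
theorem sq_eq_one_of_scalar (Q₀ : QuadraticForm F (ι → F)) (hQ₀ : (pol Q₀).Nondegenerate)
    (hι : 0 < Fintype.card ι) (z : F)
    (h : ∀ v : ι → F, Q₀ ((z • (1 : Matrix ι ι F)) *ᵥ v) = Q₀ v) : z * z = 1 := by
  obtain ⟨v, hv⟩ := exists_ne_zero Q₀ hQ₀ hι
  have h1 := h v
  rw [Matrix.smul_mulVec, Matrix.one_mulVec, QuadraticMap.map_smul, smul_eq_mul] at h1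
  have h2 : z * z * Q₀ v = 1 * Q₀ v := by rw [h1, one_mul]
  exact mul_right_cancel₀ hv h2

theorem scalar_eq_one {z : F} (h2 : z * z = 1) {r : ℕ} (hodd : Odd r) (hr : z ^ r = 1) : z = 1 := by
  obtain ⟨k, rfl⟩ := hodd
  have h3 : z ^ (2 * k) = 1 := by rw [pow_mul, pow_two, h2, one_pow]
  rw [pow_succ, h3, one_mul] at hr
  exact hr

theorem RED [Fintype F] (Q₀ : QuadraticForm F (ι → F)) (hQ₀ : (pol Q₀).Nondegenerate)
    (hex : Fintype.card F ≠ 2 ∨ Fintype.card ι ≠ 4) (hι : 0 < Fintype.card ι)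
    {r : ℕ} (hr : r.Prime) (hr2 : r ≠ 2) (m : ℕ) :
    (∀ x : GL ι F, x ∈ Cfsg.Geo.omegaGL ⇑Q₀ →
      (∃ z : F, ((x ^ r : GL ι F) : Matrix ι ι F) = z • (1 : Matrix ι ι F)) →
      (∀ z : F, (x : Matrix ι ι F) ≠ z • (1 : Matrix ι ι F)) →
      ∃ W : Submodule F (ι → F), finrank F ↥W = m ∧ (∀ w ∈ W, Q₀ w = 0) ∧
        W.map (Matrix.toLin' (x : Matrix ι ι F)) ≤ W) ↔
    (∀ g : ↥(Cfsg.isometryGroup F ⇑Q₀), g ^ r = 1 → g ≠ 1 →
      ∃ W : Submodule F (ι → F), finrank F ↥W = m ∧ (∀ w ∈ W, Q₀ w = 0) ∧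
        W.map (Matrix.toLin' (mat Q₀ g)) ≤ W) := by
  have hodd : Odd r := hr.odd_of_ne_two hr2
  obtain ⟨i0⟩ : Nonempty ι := Fintype.card_pos_iff.mp hι
  constructor
  · intro hL g hgr hg1
    -- `g` is a square, hence in `Ω`
    have hgΩ : g ∈ Cfsg.Omega F ⇑Q₀ := by
      obtain ⟨k, hk⟩ := hodd
      have h1 : g = g ^ (k + 1) * g ^ (k + 1) := by
        rw [← pow_add]
        have : k + 1 + (k + 1) = r + 1 := by omega
        rw [this, pow_succ, hgr, one_mul]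
      rw [h1]
      exact Cfsg.Agent.Lib.Helper44_OmegaAll.mul_self_mem_omega Q₀ hQ₀ hex (g ^ (k + 1))
    have hxΩ : (g : GL ι F) ∈ Cfsg.Geo.omegaGL ⇑Q₀ := Subgroup.mem_map.mpr ⟨g, hgΩ, rfl⟩
    have hxr : ((g : GL ι F) ^ r : GL ι F) = 1 := by
      have := congrArg (fun h : ↥(Cfsg.isometryGroup F ⇑Q₀) => (h : GL ι F)) hgr
      simpa using this
    have hiso : ∀ v : ι → F, Q₀ (((g : GL ι F) : Matrix ι ι F) *ᵥ v) = Q₀ v :=
      (Cfsg.Agent.Lib.Helper44_Orth.mem_isometryGroup_iff (⇑Q₀) (g : GL ι F)).1 g.2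
    refine hL (g : GL ι F) hxΩ ⟨1, by rw [hxr, one_smul]; rfl⟩ ?_
    intro z hz
    -- `z • 1 = g` forces `z = 1`, so `g = 1`
    have hz2 : z * z = 1 := by
      apply sq_eq_one_of_scalar Q₀ hQ₀ hι z
      intro v
      rw [← hz]; exact hiso v
    have hzr : z ^ r = 1 := by
      have h1 : (((g : GL ι F) ^ r : GL ι F) : Matrix ι ι F) = 1 := by rw [hxr]; rfl
      rw [Units.val_pow_eq_pow_val, hz, _root_.smul_pow, one_pow] at h1
      have h2 := congrFun (congrFun h1 i0) i0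
      simpa using h2
    have hz1 : z = 1 := scalar_eq_one hz2 hodd hzr
    apply hg1
    apply Subtype.ext
    apply Units.ext
    rw [hz, hz1, one_smul]; rfl
  · intro hR x hxΩ hxr hxns
    obtain ⟨z, hz⟩ := hxr
    obtain ⟨g₀, _, hg₀⟩ := Subgroup.mem_map.mp hxΩ
    have hxiso : ∀ v : ι → F, Q₀ ((x : Matrix ι ι F) *ᵥ v) = Q₀ v := by
      have := (Cfsg.Agent.Lib.Helper44_Orth.mem_isometryGroup_iff (⇑Q₀) (g₀ : GL ι F)).1 g₀.2
      have hx : (g₀ : GL ι F) = x := hg₀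
      rwa [hx] at this
    -- `x ^ r = z • 1` is an isometry
    have hxriso : ∀ v : ι → F, Q₀ ((z • (1 : Matrix ι ι F)) *ᵥ v) = Q₀ v := by
      have hmem : x ^ r ∈ Cfsg.isometryGroup F ⇑Q₀ := by
        have hx : x ∈ Cfsg.isometryGroup F ⇑Q₀ :=
          (Cfsg.Agent.Lib.Helper44_Orth.mem_isometryGroup_iff (⇑Q₀) x).2 hxiso
        exact Subgroup.pow_mem _ hx r
      have := (Cfsg.Agent.Lib.Helper44_Orth.mem_isometryGroup_iff (⇑Q₀) (x ^ r)).1 hmem
      intro v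
      rw [← hz]; exact this v
    have hz2 : z * z = 1 := sq_eq_one_of_scalar Q₀ hQ₀ hι z hxriso
    have hz0 : z ≠ 0 := by
      intro h; rw [h, mul_zero] at hz2; exact zero_ne_one hz2
    have hzinv : z⁻¹ = z := by
      field_simp
      rw [← hz2]; ring
    -- the isometry `g' = z • x`
    let g'GL : GL ι F :=
      ⟨z • (x : Matrix ι ι F), z⁻¹ • ((x⁻¹ : GL ι F) : Matrix ι ι F),
        by rw [smul_mul_smul_comm, mul_inv_cancel₀ hz0, one_smul, Units.mul_inv],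
        by rw [smul_mul_smul_comm, inv_mul_cancel₀ hz0, one_smul, Units.inv_mul]⟩
    have hg'val : (g'GL : Matrix ι ι F) = z • (x : Matrix ι ι F) := rfl
    have hg'mem : g'GL ∈ Cfsg.isometryGroup F ⇑Q₀ := by
      rw [Cfsg.Agent.Lib.Helper44_Orth.mem_isometryGroup_iff]
      intro v
      rw [hg'val, Matrix.smul_mulVec, QuadraticMap.map_smul, hz2, one_smul, hxiso]
    let g' : ↥(Cfsg.isometryGroup F ⇑Q₀) := ⟨g'GL, hg'mem⟩
    have hg'r : g' ^ r = 1 := by
      apply Subtype.ext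
      apply Units.ext
      rw [SubgroupClass.coe_pow, Units.val_pow_eq_pow_val]
      change (z • (x : Matrix ι ι F)) ^ r = 1
      rw [_root_.smul_pow, ← Units.val_pow_eq_pow_val, hz, smul_smul, ← pow_succ]
      obtain ⟨k, hk⟩ := hodd
      have : r + 1 = 2 * (k + 1) := by omega
      rw [this, pow_mul, pow_two, hz2, one_pow, one_smul]
    have hg'1 : g' ≠ 1 := by
      intro h
      have h1 : (g'GL : Matrix ι ι F) = 1 := by
        have h0 : ((g' : GL ι F) : Matrix ι ι F) = ((1 : ↥(Cfsg.isometryGroup F ⇑Q₀)) : GL ι F) := by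
          rw [h]
        exact h0
      rw [hg'val] at h1
      apply hxns z⁻¹
      have h2 : (x : Matrix ι ι F) = z⁻¹ • (z • (x : Matrix ι ι F)) := by
        rw [smul_smul, inv_mul_cancel₀ hz0, one_smul]
      rw [h2, h1]
    obtain ⟨W, hWd, hWts, hWinv⟩ := hR g' hg'r hg'1
    refine ⟨W, hWd, hWts, ?_⟩
    intro y hy
    obtain ⟨w, hw, rfl⟩ := Submodule.mem_map.1 hy
    have h1 : Matrix.toLin' (mat Q₀ g') w ∈ W := hWinv (Submodule.mem_map_of_mem hw)
    have h2 : Matrix.toLin' (mat Q₀ g') w = z • Matrix.toLin' (x : Matrix ι ι F) w := by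
      change Matrix.toLin' (z • (x : Matrix ι ι F)) w = _
      rw [map_smul, LinearMap.smul_apply]
    rw [h2] at h1
    have h3 := W.smul_mem z⁻¹ h1
    rwa [smul_smul, inv_mul_cancel₀ hz0, one_smul] at h3

end Cfsg.Agent.Lib.Helper73_OrthTS_RED
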