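import Mathlib
import Cfsg.Prelude.Def_GeometricClasses
import Cfsg.Agent.Lib.Helper40_OClasses
import Cfsg.Agent.Lib.Helper44_OmegaOdd
import Cfsg.Agent.Lib.Helper73_OrthTS_RED

/-!
# Package OND-RED of helper68 (S5989 / S5991)

From `Ω` modulo scalars to the elements of odd prime order `r` of the isometry group, for an
arbitrary family `P` of subspaces (odd characteristic).
-/

set_option autoImplicit false

open Polynomial Module Matrix
open Cfsg.Agent.Lib.Helper40_SpBasic Cfsg.Agent.Lib.Helper40_OConj Cfsg.Agent.Lib.Helper40_OClasses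
open Cfsg.Agent.Lib.Helper73_OrthTS_RED

namespace Cfsg.Agent.Lib.Helper73_OND_RED

universe v

variable {F : Type v} [Field F] [Fintype F] {ι : Type} [Fintype ι] [DecidableEq ι]

theorem RED (h2 : (2 : F) ≠ 0) (Q : QuadraticForm F (ι → F))
    (hQ : (QuadraticMap.polarBilin Q).Nondegenerate) {r : ℕ} (hr : r.Prime) (hr2 : r ≠ 2)
    (P : Submodule F (ι → F) → Prop) :
    (∀ x : GL ι F, x ∈ Cfsg.Geo.omegaGL ⇑Q →
      (∃ z : F, ((x ^ r : GL ι F) : Matrix ι ι F) = z • (1 : Matrix ι ι F)) →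
      (∀ z : F, (x : Matrix ι ι F) ≠ z • (1 : Matrix ι ι F)) →
      ∃ W : Submodule F (ι → F), P W ∧ W.map (Matrix.toLin' (x : Matrix ι ι F)) ≤ W) ↔
    (∀ g : ↥(Cfsg.isometryGroup F ⇑Q), g ^ r = 1 → g ≠ 1 →
      ∃ W : Submodule F (ι → F), P W ∧ W.map (Matrix.toLin' (mat Q g)) ≤ W) := by
  have hodd : Odd r := hr.odd_of_ne_two hr2
  rcases isEmpty_or_nonempty ι with hemp | hne
  · -- everything is trivial
    constructor
    · intro _ g _ hg1
      exfalso
      apply hg1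
      apply Subtype.ext
      apply Units.ext
      exact Subsingleton.elim _ _
    · intro _ x _ _ hxns
      exfalso
      exact hxns 1 (Subsingleton.elim _ _)
  obtain ⟨i0⟩ := hne
  have hι : 0 < Fintype.card ι := Fintype.card_pos_iff.mpr ⟨i0⟩
  constructor
  · intro hL g hgr hg1
    have hgΩ : g ∈ Cfsg.Omega F ⇑Q :=
      Cfsg.Agent.Lib.Helper44_OmegaOdd.mem_omega_of_pow_eq_one h2 Q hQ g hodd hgr
    have hxΩ : (g : GL ι F) ∈ Cfsg.Geo.omegaGL ⇑Q := Subgroup.mem_map.mpr ⟨g, hgΩ, rfl⟩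
    have hxr : ((g : GL ι F) ^ r : GL ι F) = 1 := by
      have := congrArg (fun h : ↥(Cfsg.isometryGroup F ⇑Q) => (h : GL ι F)) hgr
      simpa using this
    have hiso : ∀ v : ι → F, Q (((g : GL ι F) : Matrix ι ι F) *ᵥ v) = Q v :=
      (Cfsg.Agent.Lib.Helper44_Orth.mem_isometryGroup_iff (⇑Q) (g : GL ι F)).1 g.2
    refine hL (g : GL ι F) hxΩ ⟨1, by rw [hxr, one_smul]; rfl⟩ ?_
    intro z hz
    have hz2 : z * z = 1 := by
      apply sq_eq_one_of_scalar Q hQ hι z
      intro v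
      rw [← hz]; exact hiso v
    have hzr : z ^ r = 1 := by
      have h1 : (((g : GL ι F) ^ r : GL ι F) : Matrix ι ι F) = 1 := by rw [hxr]; rfl
      rw [Units.val_pow_eq_pow_val, hz, _root_.smul_pow, one_pow] at h1
      have h3 := congrFun (congrFun h1 i0) i0
      simpa using h3
    have hz1 : z = 1 := scalar_eq_one hz2 hodd hzr
    apply hg1
    apply Subtype.ext
    apply Units.ext
    rw [hz, hz1, one_smul]; rfl
  · intro hR x hxΩ hxr hxns
    obtain ⟨z, hz⟩ := hxr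
    obtain ⟨g₀, _, hg₀⟩ := Subgroup.mem_map.mp hxΩ
    have hxiso : ∀ v : ι → F, Q ((x : Matrix ι ι F) *ᵥ v) = Q v := by
      have := (Cfsg.Agent.Lib.Helper44_Orth.mem_isometryGroup_iff (⇑Q) (g₀ : GL ι F)).1 g₀.2
      have hx : (g₀ : GL ι F) = x := hg₀
      rwa [hx] at this
    have hxriso : ∀ v : ι → F, Q ((z • (1 : Matrix ι ι F)) *ᵥ v) = Q v := by
      have hmem : x ^ r ∈ Cfsg.isometryGroup F ⇑Q := by
        have hx : x ∈ Cfsg.isometryGroup F ⇑Q :=
          (Cfsg.Agent.Lib.Helper44_Orth.mem_isometryGroup_iff (⇑Q) x).2 hxiso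
        exact Subgroup.pow_mem _ hx r
      have := (Cfsg.Agent.Lib.Helper44_Orth.mem_isometryGroup_iff (⇑Q) (x ^ r)).1 hmem
      intro v
      rw [← hz]; exact this v
    have hz2 : z * z = 1 := sq_eq_one_of_scalar Q hQ hι z hxriso
    have hz0 : z ≠ 0 := by
      intro h; rw [h, mul_zero] at hz2; exact zero_ne_one hz2
    let g'GL : GL ι F :=
      ⟨z • (x : Matrix ι ι F), z⁻¹ • ((x⁻¹ : GL ι F) : Matrix ι ι F),
        by rw [smul_mul_smul_comm, mul_inv_cancel₀ hz0, one_smul, Units.mul_inv],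
        by rw [smul_mul_smul_comm, inv_mul_cancel₀ hz0, one_smul, Units.inv_mul]⟩
    have hg'val : (g'GL : Matrix ι ι F) = z • (x : Matrix ι ι F) := rfl
    have hg'mem : g'GL ∈ Cfsg.isometryGroup F ⇑Q := by
      rw [Cfsg.Agent.Lib.Helper44_Orth.mem_isometryGroup_iff]
      intro v
      rw [hg'val, Matrix.smul_mulVec, QuadraticMap.map_smul, hz2, one_smul, hxiso]
    let g' : ↥(Cfsg.isometryGroup F ⇑Q) := ⟨g'GL, hg'mem⟩
    have hg'r : g' ^ r = 1 := by
      apply Subtype.ext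
      apply Units.ext
      rw [SubgroupClass.coe_pow, Units.val_pow_eq_pow_val]
      change (z • (x : Matrix ι ι F)) ^ r = 1
      rw [_root_.smul_pow, ← Units.val_pow_eq_pow_val, hz, smul_smul, ← pow_succ]
      obtain ⟨k, hk⟩ := hodd
      have : r + 1 = 2 * (k + 1) := by omega
      rw [this, pow_mul, pow_two, hz2, one_pow, one_smul]
    have hg'1 : g' ≠ 1 := by
      intro h
      have h1 : (g'GL : Matrix ι ι F) = 1 := by
        have h0 : ((g' : GL ι F) : Matrix ι ι F) = ((1 : ↥(Cfsg.isometryGroup F ⇑Q)) : GL ι F) := by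
          rw [h]
        exact h0
      rw [hg'val] at h1
      apply hxns z⁻¹
      have h3 : (x : Matrix ι ι F) = z⁻¹ • (z • (x : Matrix ι ι F)) := by
        rw [smul_smul, inv_mul_cancel₀ hz0, one_smul]
      rw [h3, h1]
    obtain ⟨W, hWP, hWinv⟩ := hR g' hg'r hg'1
    refine ⟨W, hWP, ?_⟩
    intro y hy
    obtain ⟨w, hw, rfl⟩ := Submodule.mem_map.1 hy
    have h1 : Matrix.toLin' (mat Q g') w ∈ W := hWinv (Submodule.mem_map_of_mem hw)
    have h3 : Matrix.toLin' (mat Q g') w = z • Matrix.toLin' (x : Matrix ι ι F) w := by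
      change Matrix.toLin' (z • (x : Matrix ι ι F)) w = _
      rw [map_smul, LinearMap.smul_apply]
    rw [h3] at h1
    have h4 := W.smul_mem z⁻¹ h1
    rwa [smul_smul, inv_mul_cancel₀ hz0, one_smul] at h4

end Cfsg.Agent.Lib.Helper73_OND_RED
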