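import Mathlib
import Cfsg.Prelude.Def_GeometricClasses
import Cfsg.Agent.Lib.Helper68_OND_IDX
import Cfsg.Agent.Lib.Helper68_OND_SUFF
import Cfsg.Agent.Lib.Helper73_OND_NA
import Cfsg.Agent.Lib.Helper73_OND_NEC
import Cfsg.Agent.Lib.Helper73_OND_RED
import Cfsg.Agent.Lib.Helper70_OrthND_ELT_plus
import Cfsg.Agent.Lib.Helper70_OrthND_ELT_minus
import Cfsg.Agent.Lib.Helper14_POmegaSimple

set_option autoImplicit false

/-!
S5989 / S5991, the case of an odd prime `r ≠ p`: the per-element criterion and the arithmetic.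
-/

open Polynomial Module Matrix
open scoped MatrixGroups
open Cfsg.Agent.Lib.Helper40_SpBasic Cfsg.Agent.Lib.Helper40_OConj Cfsg.Agent.Lib.Helper40_OConj.OData
  Cfsg.Agent.Lib.Helper99_SpAtoms Cfsg.Agent.Lib.Helper40_OClasses Cfsg.Agent.Lib.Helper44_StdForms
  Cfsg.Agent.Lib.Helper68_OND_IDX Cfsg.Agent.Lib.Helper68_OND_SUFF Cfsg.Agent.Lib.Helper73_OND_NA
  Cfsg.Agent.Lib.Helper73_OND_NEC Cfsg.Agent.Lib.Helper73_OND_RED

namespace Cfsg.Agent.Lib.Helper68_ONDMain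

universe v

/-! ## arithmetic -/

theorem sum_mod_of_lt (c n m : ℕ) (hmn : m ≤ n) (h : m % c < n % c) :
    m % c + (n - m) % c = n % c := by
  rcases Nat.eq_zero_or_pos c with rfl | hc
  · simp only [Nat.mod_zero] at h ⊢
    omega
  have h1 := Nat.div_add_mod n c
  have h2 := Nat.div_add_mod m c
  have hdiv : m / c ≤ n / c := Nat.div_le_div_right hmn
  have h3 : n - m = c * (n / c - m / c) + (n % c - m % c) := by
    rw [Nat.mul_sub]
    have : c * (m / c) ≤ c * (n / c) := Nat.mul_le_mul_left c hdiv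
    omega
  have h4 : n % c - m % c < c := lt_of_le_of_lt (Nat.sub_le _ _) (Nat.mod_lt _ hc)
  rw [h3, Nat.mul_add_mod, Nat.mod_eq_of_lt h4]
  omega

theorem sum_mod_of_gt (c n m : ℕ) (hmn : m ≤ n) (h : n % c < m % c) :
    m % c + (n - m) % c = n % c + c := by
  rcases Nat.eq_zero_or_pos c with rfl | hc
  · simp only [Nat.mod_zero] at h ⊢
    omega
  have h1 := Nat.div_add_mod n c
  have h2 := Nat.div_add_mod m c
  have hm' : m % c < c := Nat.mod_lt _ hc
  have hdiv : m / c < n / c := by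
    by_contra hcon
    have hle : n / c ≤ m / c := not_lt.1 hcon
    have : c * (n / c) ≤ c * (m / c) := Nat.mul_le_mul_left c hle
    omega
  have h3 : n - m = c * (n / c - m / c - 1) + (c + n % c - m % c) := by
    have h5 : n / c = (n / c - m / c - 1) + m / c + 1 := by omega
    have h6 : c * (n / c) = c * (n / c - m / c - 1) + c * (m / c) + c := by
      nth_rewrite 1 [h5]
      ring
    omega
  have h4 : c + n % c - m % c < c := by omega
  rw [h3, Nat.mul_add_mod, Nat.mod_eq_of_lt h4]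
  omega

/-! ## the per-element criterion -/

section generic

variable {F : Type v} [Field F] [Fintype F] {p : ℕ} [Fact p.Prime] [CharP F p]
  {ι : Type} [Fintype ι] [DecidableEq ι]

omit [Fintype F] [Fact p.Prime] in
theorem natCast_ne_zero' {r : ℕ} (hr : r.Prime) (hp : p.Prime) (hrp : r ≠ p) : ((r : ℕ) : F) ≠ 0 := by
  rw [Ne, CharP.cast_eq_zero_iff F p]
  intro hdvd
  exact hrp ((Nat.prime_dvd_prime_iff_eq hp hr).1 hdvd).symm

/-- the fixed-space dimension is congruent to the dimension modulo `atomDim` -/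
theorem fix_mod (h2 : (2 : F) ≠ 0) (Q : QuadraticForm F (ι → F))
    (hQ : (QuadraticMap.polarBilin Q).Nondegenerate) {r : ℕ} (hr : r.Prime) (hr2 : r ≠ 2)
    (hrp : r ≠ p) (g : ↥(Cfsg.isometryGroup F ⇑Q)) (hg : g ^ r = 1) :
    ∃ A : ℕ, atomDim F r * A + finrank F (LinearMap.ker (Matrix.toLin' (mat Q g) - 1)) =
      Fintype.card ι := by
  have hd := oData_of_mem Q g r hg (hr.odd_of_ne_two hr2) (natCast_ne_zero' hr Fact.out hrp)
  obtain ⟨A, hA⟩ := NA (p := p) h2 hd hQ hr hr2 hrp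
  refine ⟨A, ?_⟩
  rw [hA, Module.finrank_fintype_fun_eq_card]

/-- the per-element criterion -/
theorem crit (h2 : (2 : F) ≠ 0) (Q : QuadraticForm F (ι → F))
    (hQ : (QuadraticMap.polarBilin Q).Nondegenerate) {r : ℕ} (hr : r.Prime) (hr2 : r ≠ 2)
    (hrp : r ≠ p) (g : ↥(Cfsg.isometryGroup F ⇑Q)) (hg : g ^ r = 1) (m : ℕ) (hm : Odd m)
    (hn : Even (Fintype.card ι)) (hmn : m < Fintype.card ι) (W₀ : Submodule F (ι → F))
    (hW₀ : finrank F W₀ = m ∧ Cfsg.Geo.IsNondegenerateOn (QuadraticMap.polar ⇑Q) W₀) :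
    (∃ W : Submodule F (ι → F), (finrank F W = m ∧
      Cfsg.Geo.IsNondegenerateOn (QuadraticMap.polar ⇑Q) W ∧
      Cfsg.Geo.AreIsometricFor ⇑Q W W₀) ∧ W.map (Matrix.toLin' (mat Q g)) ≤ W) ↔
    m % atomDim F r + (Fintype.card ι - m) % atomDim F r ≤
      finrank F (LinearMap.ker (Matrix.toLin' (mat Q g) - 1)) := by
  constructor
  · rintro ⟨W, ⟨hWm, hWnd, -⟩, hinv⟩
    obtain ⟨e₁, e₂, A₁, A₂, h1, h2', h3⟩ := NEC h2 Q hQ hr hr2 hrp g hg W hWnd hinv
    rw [hWm] at h1 h2'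
    have h4 : m % atomDim F r ≤ e₁ := by
      rw [← h1, Nat.mul_add_mod]
      exact Nat.mod_le _ _
    have h5 : (Fintype.card ι - m) % atomDim F r ≤ e₂ := by
      have : Fintype.card ι - m = atomDim F r * A₂ + e₂ := by omega
      rw [this, Nat.mul_add_mod]
      exact Nat.mod_le _ _
    omega
  · intro hcrit
    exact SUFF h2 Q hQ hr hr2 hrp g hg m hm hn hmn W₀ hW₀ hcrit

/-- the left-hand side in terms of the elements of order `r` of the isometry group -/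
theorem lhs_iff (h2 : (2 : F) ≠ 0) (Q : QuadraticForm F (ι → F))
    (hQ : (QuadraticMap.polarBilin Q).Nondegenerate) {r : ℕ} (hr : r.Prime) (hr2 : r ≠ 2)
    (hrp : r ≠ p) (m : ℕ) (hm : Odd m)
    (hn : Even (Fintype.card ι)) (hmn : m < Fintype.card ι) (W₀ : Submodule F (ι → F))
    (hW₀ : finrank F W₀ = m ∧ Cfsg.Geo.IsNondegenerateOn (QuadraticMap.polar ⇑Q) W₀) :
    (∀ x : GL ι F, x ∈ Cfsg.Geo.omegaGL ⇑Q →
      (∃ z : F, ((x ^ r : GL ι F) : Matrix ι ι F) = z • (1 : Matrix ι ι F)) →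
      (∀ z : F, (x : Matrix ι ι F) ≠ z • (1 : Matrix ι ι F)) →
      ∃ W : Submodule F (ι → F), (finrank F W = m ∧
        Cfsg.Geo.IsNondegenerateOn (QuadraticMap.polar ⇑Q) W ∧
        Cfsg.Geo.AreIsometricFor ⇑Q W W₀) ∧ W.map (Matrix.toLin' (x : Matrix ι ι F)) ≤ W) ↔
    (∀ g : ↥(Cfsg.isometryGroup F ⇑Q), g ^ r = 1 → g ≠ 1 →
      m % atomDim F r + (Fintype.card ι - m) % atomDim F r ≤
        finrank F (LinearMap.ker (Matrix.toLin' (mat Q g) - 1))) := by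
  rw [RED h2 Q hQ hr hr2 (fun W => finrank F W = m ∧
        Cfsg.Geo.IsNondegenerateOn (QuadraticMap.polar ⇑Q) W ∧
        Cfsg.Geo.AreIsometricFor ⇑Q W W₀)]
  constructor
  · intro h g hg hg1
    exact (crit h2 Q hQ hr hr2 hrp g hg m hm hn hmn W₀ hW₀).1 (h g hg hg1)
  · intro h g hg hg1
    exact (crit h2 Q hQ hr hr2 hrp g hg m hm hn hmn W₀ hW₀).2 (h g hg hg1)

/-- `hrΩ` excludes `m < c` when `m % c < (2 d) % c` -/
theorem idx_c_le (h2 : (2 : F) ≠ 0) (Q : QuadraticForm F (ι → F))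
    (hQ : (QuadraticMap.polarBilin Q).Nondegenerate) (d m : ℕ) (hn : Fintype.card ι = 2 * d)
    (hmodd : Odd m) (hmd : m < 2 * d) (W₀ : Submodule F (ι → F))
    (hW₀ : finrank F W₀ = m ∧ Cfsg.Geo.IsNondegenerateOn (QuadraticMap.polar ⇑Q) W₀)
    {r : ℕ} (hr : r.Prime) (hr2 : r ≠ 2) (hrp : r ≠ p)
    (hrΩ : r ∣ Nat.card {W : Submodule F (ι → F) // finrank F W = m ∧
      Cfsg.Geo.IsNondegenerateOn (QuadraticMap.polar ⇑Q) W ∧ Cfsg.Geo.AreIsometricFor ⇑Q W W₀})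
    (hlt : m % atomDim F r < (2 * d) % atomDim F r) : atomDim F r ≤ m := by
  have hp : p.Prime := Fact.out
  by_contra hcon
  have hmc : m < atomDim F r := not_le.1 hcon
  have hrq : ¬ r ∣ Fintype.card F := by
    obtain ⟨k, -, hk⟩ := FiniteField.card F p
    rw [hk]
    intro h
    exact hrp ((Nat.prime_dvd_prime_iff_eq hr hp).1 (hr.dvd_of_dvd_pow h))
  obtain ⟨j, hj1, hj2, hj3⟩ := IDX h2 Q hQ d m hn hmodd hmd W₀ hW₀ hr hr2 hrq hrΩ
  have : Fact r.Prime := ⟨hr⟩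
  -- `i ∣ 2 j`
  have hpow : ((Fintype.card F : ℕ) : ZMod r) ^ (2 * j) = 1 := by
    have h1 : 1 ≤ Fintype.card F ^ (2 * j) := Nat.one_le_pow _ _ Fintype.card_pos
    have h3 : ((Fintype.card F ^ (2 * j) - 1 : ℕ) : ZMod r) = 0 :=
      (ZMod.natCast_eq_zero_iff _ _).2 hj3
    rw [Nat.cast_sub h1, Nat.cast_pow, Nat.cast_one, sub_eq_zero] at h3
    exact h3
  have hi := orderOf_dvd_of_pow_eq_one hpow
  -- `c ∣ 2 j`
  have hc : atomDim F r ∣ 2 * j := by
    unfold atomDim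
    split_ifs with he
    · exact hi
    · have hodd : Odd (orderOf ((Fintype.card F : ℕ) : ZMod r)) := Nat.not_even_iff_odd.1 he
      have hcop : Nat.Coprime (orderOf ((Fintype.card F : ℕ) : ZMod r)) 2 :=
        Nat.coprime_two_right.2 hodd
      have := hcop.dvd_of_dvd_mul_left hi
      exact Nat.mul_dvd_mul_left 2 this
  obtain ⟨t, ht⟩ := hc
  have hmod : m % atomDim F r = m := Nat.mod_eq_of_lt hmc
  rw [hmod] at hlt
  have h1 := Nat.div_add_mod (2 * d) (atomDim F r)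
  -- `c t ≤ 2 d` gives `t ≤ 2 d / c`
  have h2' : t ≤ 2 * d / atomDim F r := by
    by_contra hlt'
    have h3 : 2 * d / atomDim F r + 1 ≤ t := by omega
    have h4 : atomDim F r * (2 * d / atomDim F r + 1) ≤ atomDim F r * t :=
      Nat.mul_le_mul_left _ h3
    have h5 : (2 * d) % atomDim F r < atomDim F r := Nat.mod_lt _ (by omega)
    rw [Nat.mul_add, Nat.mul_one] at h4
    omega
  have h3 : atomDim F r * t ≤ atomDim F r * (2 * d / atomDim F r) := Nat.mul_le_mul_left _ h2'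
  omega

omit [Fintype F] [Fact p.Prime] [CharP F p] in
/-- no fixed vectors: `X - 1` does not divide the characteristic polynomial -/
theorem not_dvd_of_fix_zero (M : Matrix ι ι F)
    (h0 : finrank F (LinearMap.ker (Matrix.toLin' M - 1)) = 0) :
    ¬ ((X : F[X]) - 1) ∣ M.charpoly := by
  intro hdvd
  rw [← Matrix.charpoly_toLin'] at hdvd
  have h1 : (Matrix.toLin' M).charpoly.IsRoot 1 := by
    apply dvd_iff_isRoot.1
    rwa [C_1]
  have h2 := (Module.End.hasEigenvalue_iff_isRoot_charpoly (Matrix.toLin' M) 1).2 h1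
  obtain ⟨v, hv⟩ := h2.exists_hasEigenvector
  have h3 : v ∈ LinearMap.ker (Matrix.toLin' M - 1) := by
    rw [LinearMap.mem_ker, LinearMap.sub_apply, Module.End.one_apply, sub_eq_zero]
    have := hv.apply_eq_smul
    rwa [one_smul] at this
  have h4 : LinearMap.ker (Matrix.toLin' M - 1) = ⊥ := Submodule.finrank_eq_zero.1 h0
  rw [h4, Submodule.mem_bot] at h3
  exact hv.2 h3

omit [Fintype F] [Fact p.Prime] [CharP F p] in
/-- the identity has the whole space as fixed space -/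
theorem fix_one (Q : QuadraticForm F (ι → F)) :
    finrank F (LinearMap.ker (Matrix.toLin' (mat Q 1) - 1)) = Fintype.card ι := by
  rw [mat_one, Matrix.toLin'_one]
  have : ((LinearMap.id : (ι → F) →ₗ[F] (ι → F)) - 1) = 0 := sub_self _
  rw [this, LinearMap.ker_zero, finrank_top, Module.finrank_fintype_fun_eq_card]

/-- an element of `omegaGL` comes from the isometry group -/
theorem exists_of_mem_omegaGL (Q : QuadraticForm F (ι → F)) (x : GL ι F)
    (hx : x ∈ Cfsg.Geo.omegaGL ⇑Q) {r : ℕ} (hxr : x ^ r = 1) :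
    ∃ g : ↥(Cfsg.isometryGroup F ⇑Q), g ^ r = 1 ∧ mat Q g = (x : Matrix ι ι F) := by
  unfold Cfsg.Geo.omegaGL at hx
  obtain ⟨g, -, rfl⟩ := hx
  refine ⟨g, ?_, rfl⟩
  apply Subtype.ext
  exact hxr

/-- the common core of the two rows -/
theorem core (h2 : (2 : F) ≠ 0) (Q : QuadraticForm F (ι → F))
    (hQ : (QuadraticMap.polarBilin Q).Nondegenerate) (d m : ℕ) (hn : Fintype.card ι = 2 * d)
    (hm : Odd m) (hmd : m < 2 * d) (W₀ : Submodule F (ι → F))
    (hW₀ : finrank F W₀ = m ∧ Cfsg.Geo.IsNondegenerateOn (QuadraticMap.polar ⇑Q) W₀)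
    {r : ℕ} (hr : r.Prime) (hr2 : r ≠ 2) (hrp : r ≠ p)
    (hrΩ : r ∣ Nat.card {W : Submodule F (ι → F) // finrank F W = m ∧
      Cfsg.Geo.IsNondegenerateOn (QuadraticMap.polar ⇑Q) W ∧ Cfsg.Geo.AreIsometricFor ⇑Q W W₀})
    (hcpos : 0 < atomDim F r) (hceven : Even (atomDim F r)) (fpf : Prop)
    (hex : ∀ a : ℕ, 1 ≤ a → atomDim F r * a ≤ 2 * d → (atomDim F r * a = 2 * d → fpf) →
      ∃ g : ↥(Cfsg.isometryGroup F ⇑Q), g ^ r = 1 ∧
        finrank F (LinearMap.ker (Matrix.toLin' (mat Q g) - 1)) = 2 * d - atomDim F r * a)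
    (hexcl : ¬ fpf → ∀ g : ↥(Cfsg.isometryGroup F ⇑Q), g ^ r = 1 →
      finrank F (LinearMap.ker (Matrix.toLin' (mat Q g) - 1)) ≠ 0) :
    (∀ x : GL ι F, x ∈ Cfsg.Geo.omegaGL ⇑Q →
      (∃ z : F, ((x ^ r : GL ι F) : Matrix ι ι F) = z • (1 : Matrix ι ι F)) →
      (∀ z : F, (x : Matrix ι ι F) ≠ z • (1 : Matrix ι ι F)) →
      ∃ W : Submodule F (ι → F), (finrank F W = m ∧
        Cfsg.Geo.IsNondegenerateOn (QuadraticMap.polar ⇑Q) W ∧
        Cfsg.Geo.AreIsometricFor ⇑Q W W₀) ∧ W.map (Matrix.toLin' (x : Matrix ι ι F)) ≤ W) ↔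
    ((m % atomDim F r < (2 * d) % atomDim F r ∧ atomDim F r ≤ m) ∨
      ((2 * d) % atomDim F r = 0 ∧ ¬ fpf)) := by
  have hnE : Even (Fintype.card ι) := by rw [hn]; exact even_two_mul d
  have hmn : m < Fintype.card ι := by rw [hn]; exact hmd
  rw [lhs_iff h2 Q hQ hr hr2 hrp m hm hnE hmn W₀ hW₀, hn]
  set c := atomDim F r with hcdef
  have h2c : 2 ∣ c := hceven.two_dvd
  have hlodd : m % c % 2 = 1 := by
    rw [Nat.mod_mod_of_dvd m h2c]
    exact Nat.odd_iff.1 hm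
  have hkeven : (2 * d) % c % 2 = 0 := by
    rw [Nat.mod_mod_of_dvd (2 * d) h2c]
    omega
  have hmle : m ≤ 2 * d := hmd.le
  -- the fixed space dimension is at least `(2 d) % c`
  have hfix : ∀ g : ↥(Cfsg.isometryGroup F ⇑Q), g ^ r = 1 →
      ∃ A : ℕ, c * A + finrank F (LinearMap.ker (Matrix.toLin' (mat Q g) - 1)) = 2 * d := by
    intro g hg
    obtain ⟨A, hA⟩ := fix_mod h2 Q hQ hr hr2 hrp g hg
    exact ⟨A, by rw [hA, hn]⟩
  have hfixk : ∀ g : ↥(Cfsg.isometryGroup F ⇑Q), g ^ r = 1 →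
      (2 * d) % c ≤ finrank F (LinearMap.ker (Matrix.toLin' (mat Q g) - 1)) := by
    intro g hg
    obtain ⟨A, hA⟩ := hfix g hg
    rw [← hA, Nat.mul_add_mod]
    exact Nat.mod_le _ _
  have hdiv := Nat.div_add_mod (2 * d) c
  rcases Nat.lt_or_ge (m % c) ((2 * d) % c) with hlt | hge
  · -- all elements fix a member
    have hcm := idx_c_le h2 Q hQ d m hn hm hmd W₀ hW₀ hr hr2 hrp hrΩ hlt
    constructor
    · intro _
      exact Or.inl ⟨hlt, hcm⟩
    · intro _ g hg _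
      rw [sum_mod_of_lt c (2 * d) m hmle hlt]
      exact hfixk g hg
  · have hgt : (2 * d) % c < m % c := by omega
    rw [sum_mod_of_gt c (2 * d) m hmle hgt]
    have hc2d : c ≤ 2 * d := by
      by_contra hcon
      have h1 : (2 * d) % c = 2 * d := Nat.mod_eq_of_lt (not_le.1 hcon)
      have h3 : m % c ≤ m := Nat.mod_le _ _
      omega
    have ha1 : 1 ≤ 2 * d / c := (Nat.one_le_div_iff hcpos).2 hc2d
    have hca : c * (2 * d / c) ≤ 2 * d := Nat.mul_div_le _ _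
    -- a test element gives a non-identity element
    have hne1 : ∀ g : ↥(Cfsg.isometryGroup F ⇑Q),
        finrank F (LinearMap.ker (Matrix.toLin' (mat Q g) - 1)) = 2 * d - c * (2 * d / c) →
        g ≠ 1 := by
      rintro g hg rfl
      rw [fix_one, hn] at hg
      have : 0 < c * (2 * d / c) := Nat.mul_pos hcpos ha1
      omega
    by_cases hk : (2 * d) % c = 0
    · by_cases hf : fpf
      · constructor
        · intro h
          exfalso
          obtain ⟨g, hg, hge⟩ := hex (2 * d / c) ha1 hca (fun _ => hf)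
          have := h g hg (hne1 g hge)
          rw [hge] at this
          omega
        · rintro (⟨h1, -⟩ | ⟨-, h1⟩)
          · omega
          · exact absurd hf h1
      · constructor
        · intro _
          exact Or.inr ⟨hk, hf⟩
        · intro _ g hg _
          obtain ⟨A, hA⟩ := hfix g hg
          have h0 := hexcl hf g hg
          rw [hk, zero_add]
          -- `e = c (2d/c - A) ≠ 0`
          have h1 : c * A ≤ c * (2 * d / c) := by omega
          have h3 : A ≤ 2 * d / c := Nat.le_of_mul_le_mul_left h1 hcpos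
          have h4 : A ≠ 2 * d / c := by
            rintro rfl
            omega
          have h5 : A + 1 ≤ 2 * d / c := by omega
          have h6 : c * (A + 1) ≤ c * (2 * d / c) := Nat.mul_le_mul_left c h5
          rw [Nat.mul_add, Nat.mul_one] at h6
          omega
    · constructor
      · intro h
        exfalso
        obtain ⟨g, hg, hge⟩ := hex (2 * d / c) ha1 hca (fun h1 => by omega)
        have := h g hg (hne1 g hge)
        rw [hge] at this
        omega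
      · rintro (⟨h1, -⟩ | ⟨h1, -⟩)
        · omega
        · exact absurd h1 hk

end generic

/-! ## the two rows, `r` odd, `r ≠ p` -/

section rows

open Cfsg.Agent.Lib.Helper88_OrthNDDefs Cfsg.Agent.Lib.Helper14_POmegaSimple

theorem two_ne_zero_of_odd_card {F : Type*} [Field F] [Fintype F] (hodd : Odd (Fintype.card F)) :
    (2 : F) ≠ 0 := by
  intro h
  have hr : ringChar F = 2 := CharP.ringChar_of_prime_eq_zero Nat.prime_two (by exact_mod_cast h)
  have := FiniteField.even_card_of_char_two hr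
  rw [Nat.odd_iff] at hodd
  omega

theorem mod_pos_of_odd (m c : ℕ) (hm : Odd m) (hc : Even c) : 0 < m % c := by
  have h2c : 2 ∣ c := hc.two_dvd
  have h1 : m % c % 2 = 1 := by
    rw [Nat.mod_mod_of_dvd m h2c]
    exact Nat.odd_iff.1 hm
  omega

theorem S5989_odd {F : Type*} [Field F] [Fintype F] {p : ℕ} [Fact p.Prime] [CharP F p] {q : ℕ}
    (hq : Fintype.card F = q)
    (hodd : Odd q) (d m : ℕ) (hd : 4 ≤ d) (hm : Odd m) (hmd : m < d)
    (W₀ : Submodule F (Fin d ⊕ Fin d → F)) (hW₀ : Module.finrank F ↥W₀ = m ∧ Cfsg.Geo.IsNondegenerateOn (QuadraticMap.polar (Cfsg.quadFormPlus d F)) W₀)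
    (r : ℕ) [Fact r.Prime]
    (hrΩ : r ∣ Nat.card {W : Submodule F (Fin d ⊕ Fin d → F) // Module.finrank F ↥W = m ∧ Cfsg.Geo.IsNondegenerateOn (QuadraticMap.polar (Cfsg.quadFormPlus d F)) W ∧ Cfsg.Geo.AreIsometricFor (Cfsg.quadFormPlus d F) W W₀})
    (i c : ℕ) (hi : i = orderOf (q : ZMod r)) (hc : c = if Even i then i else 2 * i)
    (hr2 : r ≠ 2) (hrp : r ≠ p) :
    (∀ x : GL (Fin d ⊕ Fin d) F, x ∈ Cfsg.Geo.omegaGL (Cfsg.quadFormPlus d F) →
      (∃ z : F, ((x ^ r : GL (Fin d ⊕ Fin d) F) : Matrix (Fin d ⊕ Fin d) (Fin d ⊕ Fin d) F) = z • (1 : Matrix (Fin d ⊕ Fin d) (Fin d ⊕ Fin d) F)) →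
      (∀ z : F, (x : Matrix (Fin d ⊕ Fin d) (Fin d ⊕ Fin d) F) ≠ z • (1 : Matrix (Fin d ⊕ Fin d) (Fin d ⊕ Fin d) F)) →
      ∃ W : Submodule F (Fin d ⊕ Fin d → F), (Module.finrank F ↥W = m ∧ Cfsg.Geo.IsNondegenerateOn (QuadraticMap.polar (Cfsg.quadFormPlus d F)) W ∧ Cfsg.Geo.AreIsometricFor (Cfsg.quadFormPlus d F) W W₀) ∧ W.map (Matrix.toLin' (x : Matrix (Fin d ⊕ Fin d) (Fin d ⊕ Fin d) F)) ≤ W) ↔
    ((r = 2 ∧ Odd d ∧ q % 8 ≠ 1) ∨
     (r ≠ p ∧ 2 < r ∧ Odd i ∧ c ≤ m ∧ 0 < m % c ∧ m % c < (2 * d) % c) ∨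
     (r ≠ p ∧ 2 < r ∧ Even i ∧ (((2 * d) % c = 0 ∧ Odd ((2 * d) / i)) ∨ (i ≤ m ∧ 0 < m % c ∧ m % c < (2 * d) % c)))) := by
  have hr : r.Prime := Fact.out
  subst hq
  have h2 : (2 : F) ≠ 0 := two_ne_zero_of_odd_card hodd
  have hcA : atomDim F r = c := by
    rw [hc, hi]
    rfl
  have hQ := nondegenerate_qfPlus (F := F) d
  have hn : Fintype.card (Fin d ⊕ Fin d) = 2 * d := by
    rw [Fintype.card_sum, Fintype.card_fin, two_mul]
  obtain ⟨hcpos, hceven⟩ := Cfsg.Agent.Lib.Helper68_OND_SUFF.atomDim_pos_even (F := F) hr hrp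
  have hlpos : 0 < m % c := by
    rw [← hcA]
    exact mod_pos_of_odd m _ hm hceven
  have hr2lt : 2 < r := lt_of_le_of_ne hr.two_le (Ne.symm hr2)
  have hci : Even i → c = i := by
    intro he
    rw [hc, if_pos he]
  rw [← coe_qfPlus] at hW₀ hrΩ ⊢
  have hex : ∀ a : ℕ, 1 ≤ a → atomDim F r * a ≤ 2 * d →
      (atomDim F r * a = 2 * d → (Odd i ∨ Even (2 * d / c))) →
      ∃ g : ↥(Cfsg.isometryGroup F ⇑(qfPlus d F)), g ^ r = 1 ∧
        finrank F (LinearMap.ker (Matrix.toLin' (mat (qfPlus d F) g) - 1)) =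
          2 * d - atomDim F r * a := by
    intro a ha1 hle hf
    have hV : Valid (orderOf ((Fintype.card F : ℕ) : ZMod r)) (atomDim F r) (2 * d) True a := by
      refine ⟨ha1, hle, fun h => iff_of_true trivial ?_⟩
      rcases hf h with h1 | h1
      · left
        rw [← hi]
        exact h1
      · right
        have : 2 * d / c = a := by
          rw [← hcA]
          exact Nat.div_eq_of_eq_mul_right hcpos h.symm
        rwa [this] at h1
    obtain ⟨x, hx, hxr, hxf⟩ := Cfsg.Agent.Lib.Helper70_OrthND_ELT_plus.ELT_plus p d (by omega) r hr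
      hr2 hrp a hV
    rw [← coe_qfPlus] at hx
    obtain ⟨g, hg, hgx⟩ := exists_of_mem_omegaGL (qfPlus d F) x hx hxr
    exact ⟨g, hg, by rw [hgx]; exact hxf⟩
  have hexcl : ¬ (Odd i ∨ Even (2 * d / c)) → ∀ g : ↥(Cfsg.isometryGroup F ⇑(qfPlus d F)),
      g ^ r = 1 → finrank F (LinearMap.ker (Matrix.toLin' (mat (qfPlus d F) g) - 1)) ≠ 0 := by
    intro hnf g hg h0
    have hnd := not_dvd_of_fix_zero _ h0
    obtain ⟨-, h3⟩ := Cfsg.Agent.Lib.Helper40_OEven.plus_excl p d (by omega) r hr hr2 hrp g hg hnd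
    rw [← hi] at h3
    push Not at hnf
    obtain ⟨hno, hne⟩ := hnf
    have hie : Even i := Nat.not_odd_iff_even.1 hno
    have hi1 : i ≠ 1 := by
      rintro rfl
      exact hno odd_one
    obtain ⟨k, hk⟩ := h3 hi1
    apply hne
    rw [hci hie]
    have hipos : 0 < i := by
      rcases Nat.eq_zero_or_pos i with h | h
      · rw [hci hie] at hcA
        rw [h] at hcA
        omega
      · exact h
    have : 2 * d / i = 2 * k := by
      rw [hk]
      rw [show 2 * (i * k) = i * (2 * k) by ring]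
      exact Nat.mul_div_cancel_left _ hipos
    rw [this]
    exact even_two_mul k
  rw [core h2 (qfPlus d F) hQ d m hn hm (by omega) W₀ hW₀ hr hr2 hrp hrΩ hcpos hceven
    (Odd i ∨ Even (2 * d / c)) hex hexcl, hcA]
  constructor
  · rintro (⟨h1, h3⟩ | ⟨h1, h3⟩)
    · rcases Nat.even_or_odd i with he | ho
      · right; right
        exact ⟨hrp, hr2lt, he, Or.inr ⟨by rw [← hci he]; exact h3, hlpos, h1⟩⟩
      · right; left
        exact ⟨hrp, hr2lt, ho, h3, hlpos, h1⟩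
    · push Not at h3
      obtain ⟨hno, hne⟩ := h3
      have hie : Even i := Nat.not_odd_iff_even.1 hno
      right; right
      refine ⟨hrp, hr2lt, hie, Or.inl ⟨h1, ?_⟩⟩
      rw [hci hie] at hne
      exact Nat.not_even_iff_odd.1 hne
  · rintro (⟨h1, -⟩ | ⟨-, -, -, h3, -, h5⟩ | ⟨-, -, hie, (⟨h3, h4⟩ | ⟨h3, -, h5⟩)⟩)
    · exact absurd h1 hr2
    · exact Or.inl ⟨h5, h3⟩
    · right
      refine ⟨h3, ?_⟩
      rintro (ho | he)
      · exact (Nat.not_odd_iff_even.2 hie) ho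
      · rw [hci hie] at he
        exact (Nat.not_even_iff_odd.2 h4) he
    · left
      exact ⟨h5, by rw [hci hie]; exact h3⟩

theorem S5991_odd {F : Type*} [Field F] [Fintype F] {p : ℕ} [Fact p.Prime] [CharP F p] {q : ℕ}
    (hq : Fintype.card F = q)
    (hodd : Odd q) (d m : ℕ) (hd : 4 ≤ d) (hm : Odd m) (hmd : m < d) (a b : F) (hab : ∀ x y : F, x ^ 2 + a * x * y + b * y ^ 2 = 0 → x = 0 ∧ y = 0)
    (W₀ : Submodule F ((Fin (d - 1) ⊕ Fin (d - 1)) ⊕ Fin 2 → F)) (hW₀ : Module.finrank F ↥W₀ = m ∧ Cfsg.Geo.IsNondegenerateOn (QuadraticMap.polar (Cfsg.quadFormMinus (d - 1) F a b)) W₀)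
    (r : ℕ) [Fact r.Prime]
    (hrΩ : r ∣ Nat.card {W : Submodule F ((Fin (d - 1) ⊕ Fin (d - 1)) ⊕ Fin 2 → F) // Module.finrank F ↥W = m ∧ Cfsg.Geo.IsNondegenerateOn (QuadraticMap.polar (Cfsg.quadFormMinus (d - 1) F a b)) W ∧ Cfsg.Geo.AreIsometricFor (Cfsg.quadFormMinus (d - 1) F a b) W W₀})
    (i c : ℕ) (hi : i = orderOf (q : ZMod r)) (hc : c = if Even i then i else 2 * i)
    (hr2 : r ≠ 2) (hrp : r ≠ p) :
    (∀ x : GL ((Fin (d - 1) ⊕ Fin (d - 1)) ⊕ Fin 2) F, x ∈ Cfsg.Geo.omegaGL (Cfsg.quadFormMinus (d - 1) F a b) →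
      (∃ z : F, ((x ^ r : GL ((Fin (d - 1) ⊕ Fin (d - 1)) ⊕ Fin 2) F) : Matrix ((Fin (d - 1) ⊕ Fin (d - 1)) ⊕ Fin 2) ((Fin (d - 1) ⊕ Fin (d - 1)) ⊕ Fin 2) F) = z • (1 : Matrix ((Fin (d - 1) ⊕ Fin (d - 1)) ⊕ Fin 2) ((Fin (d - 1) ⊕ Fin (d - 1)) ⊕ Fin 2) F)) →
      (∀ z : F, (x : Matrix ((Fin (d - 1) ⊕ Fin (d - 1)) ⊕ Fin 2) ((Fin (d - 1) ⊕ Fin (d - 1)) ⊕ Fin 2) F) ≠ z • (1 : Matrix ((Fin (d - 1) ⊕ Fin (d - 1)) ⊕ Fin 2) ((Fin (d - 1) ⊕ Fin (d - 1)) ⊕ Fin 2) F)) →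
      ∃ W : Submodule F ((Fin (d - 1) ⊕ Fin (d - 1)) ⊕ Fin 2 → F), (Module.finrank F ↥W = m ∧ Cfsg.Geo.IsNondegenerateOn (QuadraticMap.polar (Cfsg.quadFormMinus (d - 1) F a b)) W ∧ Cfsg.Geo.AreIsometricFor (Cfsg.quadFormMinus (d - 1) F a b) W W₀) ∧ W.map (Matrix.toLin' (x : Matrix ((Fin (d - 1) ⊕ Fin (d - 1)) ⊕ Fin 2) ((Fin (d - 1) ⊕ Fin (d - 1)) ⊕ Fin 2) F)) ≤ W) ↔
    ((r = 2 ∧ (Even d ∨ q % 8 ≠ 7)) ∨
     (r ≠ p ∧ 2 < r ∧ Odd i ∧ ((2 * d) % c = 0 ∨ (c ≤ m ∧ 0 < m % c ∧ m % c < (2 * d) % c))) ∨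
     (r ≠ p ∧ 2 < r ∧ Even i ∧ (((2 * d) % c = 0 ∧ Even ((2 * d) / i)) ∨ (0 < (2 * d) % c ∧ i ≤ m ∧ 0 < m % c ∧ m % c < (2 * d) % c)))) := by
  have hr : r.Prime := Fact.out
  subst hq
  have h2 : (2 : F) ≠ 0 := two_ne_zero_of_odd_card hodd
  have hcA : atomDim F r = c := by
    rw [hc, hi]
    rfl
  have hQ := nondegenerate_qfMinus (F := F) (d - 1) a b hab
  have hn : Fintype.card ((Fin (d - 1) ⊕ Fin (d - 1)) ⊕ Fin 2) = 2 * d := by
    rw [Fintype.card_sum, Fintype.card_sum, Fintype.card_fin, Fintype.card_fin]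
    omega
  obtain ⟨hcpos, hceven⟩ := Cfsg.Agent.Lib.Helper68_OND_SUFF.atomDim_pos_even (F := F) hr hrp
  have hlpos : 0 < m % c := by
    rw [← hcA]
    exact mod_pos_of_odd m _ hm hceven
  have hr2lt : 2 < r := lt_of_le_of_ne hr.two_le (Ne.symm hr2)
  have hci : Even i → c = i := by
    intro he
    rw [hc, if_pos he]
  rw [← coe_qfMinus] at hW₀ hrΩ ⊢
  have hex : ∀ a' : ℕ, 1 ≤ a' → atomDim F r * a' ≤ 2 * d →
      (atomDim F r * a' = 2 * d → ¬ (Odd i ∨ Even (2 * d / c))) →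
      ∃ g : ↥(Cfsg.isometryGroup F ⇑(qfMinus (d - 1) F a b)), g ^ r = 1 ∧
        finrank F (LinearMap.ker (Matrix.toLin' (mat (qfMinus (d - 1) F a b) g) - 1)) =
          2 * d - atomDim F r * a' := by
    intro a' ha1 hle hf
    have hV : Valid (orderOf ((Fintype.card F : ℕ) : ZMod r)) (atomDim F r) (2 * d) False a' := by
      refine ⟨ha1, hle, fun h => iff_of_false not_false ?_⟩
      have hf' := hf h
      have : 2 * d / c = a' := by
        rw [← hcA]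
        exact Nat.div_eq_of_eq_mul_right hcpos h.symm
      rw [this, hi] at hf'
      exact hf'
    obtain ⟨x, hx, hxr, hxf⟩ := Cfsg.Agent.Lib.Helper70_OrthND_ELT_minus.ELT_minus p d (by omega) a b
      hab r hr hr2 hrp a' hV
    rw [← coe_qfMinus] at hx
    obtain ⟨g, hg, hgx⟩ := exists_of_mem_omegaGL (qfMinus (d - 1) F a b) x hx hxr
    exact ⟨g, hg, by rw [hgx]; exact hxf⟩
  have hexcl : ¬ ¬ (Odd i ∨ Even (2 * d / c)) →
      ∀ g : ↥(Cfsg.isometryGroup F ⇑(qfMinus (d - 1) F a b)),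
      g ^ r = 1 → finrank F (LinearMap.ker (Matrix.toLin' (mat (qfMinus (d - 1) F a b) g) - 1)) ≠ 0 := by
    intro hnf g hg h0
    have hsp : Odd i ∨ Even (2 * d / c) := not_not.1 hnf
    have hnd := not_dvd_of_fix_zero _ h0
    obtain ⟨h3, h4, h5⟩ := Cfsg.Agent.Lib.Helper40_OEven.minus_excl p d (by omega) r hr hr2 hrp a b
      hab g hg hnd
    rw [← hi] at h3 h4 h5
    rcases hsp with ho | he
    · exact h3 ho
    · have hie : Even i := Nat.not_odd_iff_even.1 h3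
      rw [hci hie] at he
      exact h5 (Cfsg.Agent.Lib.Helper40_OEven.dvd_of_even_div i d h4 he)
  rw [core h2 (qfMinus (d - 1) F a b) hQ d m hn hm (by omega) W₀ hW₀ hr hr2 hrp hrΩ hcpos hceven
    (¬ (Odd i ∨ Even (2 * d / c))) hex hexcl, hcA]
  constructor
  · rintro (⟨h1, h3⟩ | ⟨h1, h3⟩)
    · rcases Nat.even_or_odd i with he | ho
      · right; right
        exact ⟨hrp, hr2lt, he, Or.inr ⟨by omega, by rw [← hci he]; exact h3, hlpos, h1⟩⟩
      · right; left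
        exact ⟨hrp, hr2lt, ho, Or.inr ⟨h3, hlpos, h1⟩⟩
    · rcases not_not.1 h3 with ho | he
      · right; left
        exact ⟨hrp, hr2lt, ho, Or.inl h1⟩
      · rcases Nat.even_or_odd i with hie | ho
        · right; right
          refine ⟨hrp, hr2lt, hie, Or.inl ⟨h1, ?_⟩⟩
          rw [hci hie] at he
          exact he
        · right; left
          exact ⟨hrp, hr2lt, ho, Or.inl h1⟩
  · rintro (⟨h1, -⟩ | ⟨-, -, ho, (h3 | ⟨h3, -, h5⟩)⟩ | ⟨-, -, hie, (⟨h3, h4⟩ | ⟨-, h3, -, h5⟩)⟩)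
    · exact absurd h1 hr2
    · right
      exact ⟨h3, not_not.2 (Or.inl ho)⟩
    · exact Or.inl ⟨h5, h3⟩
    · right
      refine ⟨h3, not_not.2 (Or.inr ?_)⟩
      rw [hci hie]
      exact h4
    · left
      exact ⟨h5, by rw [hci hie]; exact h3⟩

end rows

end Cfsg.Agent.Lib.Helper68_ONDMain
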