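import Mathlib
import Cfsg.Agent.Lib.Helper50_UQAbsDefs
import Cfsg.Agent.Lib.Helper79_UQ_BINJ

set_option autoImplicit false

open Cfsg.Agent.Lib.Helper50_UQAbsDefs

/-!
S2151-COVER (architect helper68): covering count for a nonzero additive subgroup of `W`.
-/

namespace Cfsg.Agent.Lib.Helper79_S2151_COVER

open Cfsg.Agent.Lib.Helper79_UQ_BINJ

variable {G : Type*} [Group G] {W : Type*} [AddCommGroup W] {A : Type*} [AddCommGroup A]
  {D : UDat G W A}

theorem ρ_zero (hD : D.Ok) (k : G) (hk : k ∈ D.L) : D.ρ k 0 = 0 := by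
  have h := hD.L_conj_π k hk 1 (one_mem _)
  rw [mul_one, mul_inv_cancel, π_one hD] at h
  exact h.symm

/-- The action of `K` on subsets of `W` through `ρ`. -/
@[reducible] def actK (hD : D.Ok) : MulAction D.K (Set W) where
  smul k S := D.ρ k '' S
  one_smul S := by
    change D.ρ ((1 : D.K) : G) '' S = S
    have : D.ρ ((1 : D.K) : G) = id := by
      funext w; rw [Subgroup.coe_one]; exact ρ_one hD w
    rw [this, Set.image_id]
  mul_smul k k' S := by
    change D.ρ ((k * k' : D.K) : G) '' S = D.ρ k '' (D.ρ k' '' S)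
    rw [Set.image_image]
    congr 1
    funext w
    rw [Subgroup.coe_mul]
    exact ρ_mul hD k k' (hD.K_le k.2) (hD.K_le k'.2) w

/-- The number of `K`-translates of `A'` is at least `μ` when `A'` is not `K`-invariant. -/
theorem translates_ge (hD : D.Ok) [Finite W] (μ : ℕ)
    (hμ : ∀ E : Subgroup G, E ≤ D.K → E ≠ D.K → μ ≤ E.relIndex D.K)
    (A' : AddSubgroup W) (hninv : ¬ ∀ k ∈ D.K, ∀ w ∈ A', D.ρ k w ∈ A') :
    μ ≤ Nat.card {S : Set W // ∃ k ∈ D.K, S = D.ρ k '' (A' : Set W)} := by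
  classical
  let act : MulAction D.K (Set W) := actK hD
  set St : Subgroup D.K := MulAction.stabilizer D.K (A' : Set W) with hSt
  set E : Subgroup G := St.map D.K.subtype with hE
  have hEK : E ≤ D.K := Subgroup.map_subtype_le St
  have hstab : ∀ k : D.K, k ∈ St ↔ D.ρ k '' (A' : Set W) = (A' : Set W) :=
    fun k => MulAction.mem_stabilizer_iff
  have hEne : E ≠ D.K := by
    intro h
    apply hninv
    intro k hk w hw
    have hkE : k ∈ E := by rw [h]; exact hk
    obtain ⟨k', hst, rfl⟩ := Subgroup.mem_map.1 hkE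
    have := (hstab k').1 hst
    have hmem : D.ρ k' w ∈ D.ρ k' '' (A' : Set W) := Set.mem_image_of_mem _ hw
    rw [this] at hmem
    exact hmem
  have hm := hμ E hEK hEne
  have hrel : E.relIndex D.K = St.index := by
    unfold Subgroup.relIndex
    congr 1
    ext k
    rw [Subgroup.mem_subgroupOf, hE, Subgroup.mem_map]
    constructor
    · rintro ⟨k', hk', hkk'⟩
      have : k' = k := Subtype.ext hkk'
      rw [← this]; exact hk'
    · intro hk; exact ⟨k, hk, rfl⟩
  have hidx : St.index = Nat.card {S : Set W // ∃ k ∈ D.K, S = D.ρ k '' (A' : Set W)} := by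
    rw [hSt, MulAction.index_stabilizer, ← Nat.card_coe_set_eq]
    apply Nat.card_congr
    apply Equiv.subtypeEquivRight
    intro S
    constructor
    · rintro ⟨k, rfl⟩
      exact ⟨k, k.2, rfl⟩
    · rintro ⟨k, hk, rfl⟩
      exact ⟨⟨k, hk⟩, rfl⟩
  rw [hrel, hidx] at hm
  exact hm

theorem COVER [Finite G] [Finite W] [Finite A] (D : UDat G W A) (hD : D.Ok)
    (q d μ c0 T1 : ℕ) (hq : 2 ≤ q) (hW : Nat.card W = q ^ (2 * d))
    (hirr : ∀ I : AddSubgroup W, (∀ k ∈ D.K, ∀ w ∈ I, D.ρ k w ∈ I) → I = ⊥ ∨ I = ⊤)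
    (hμ : ∀ E : Subgroup G, E ≤ D.K → E ≠ D.K → μ ≤ E.relIndex D.K)
    (horb : ∀ w : W, w ≠ 0 → c0 ≤ Nat.card {w' : W // ∃ k ∈ D.K, D.ρ k w = w'})
    (h1 : T1 ≤ q ^ 2 * μ) (h2 : T1 * (q ^ 2 - 1) ≤ c0 * q ^ 2) (h3 : T1 ≤ q ^ (2 * d)) :
    ∀ A' : AddSubgroup W, A' ≠ ⊥ →
      T1 ≤ Nat.card A' * Nat.card {S : Set W // ∃ k ∈ D.K, S = D.ρ k '' (A' : Set W)} := by
  classical
  intro A' hA'
  let _ : Fintype W := Fintype.ofFinite W
  set Nfam : Finset (Set W) :=
    Finset.univ.filter (fun S => ∃ k ∈ D.K, S = D.ρ k '' (A' : Set W)) with hNfam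
  have hNcard : Nat.card {S : Set W // ∃ k ∈ D.K, S = D.ρ k '' (A' : Set W)} = Nfam.card :=
    Nat.subtype_card Nfam (by simp [hNfam])
  set Afin : Finset W := Finset.univ.filter (· ∈ A') with hAfin
  have hmemA : ∀ w, w ∈ Afin ↔ w ∈ A' := by intro w; simp [hAfin]
  have hAcard : Nat.card A' = Afin.card := Nat.subtype_card Afin hmemA
  have hN1 : 1 ≤ Nfam.card := by
    apply Finset.card_pos.2
    refine ⟨D.ρ 1 '' (A' : Set W), ?_⟩
    rw [hNfam, Finset.mem_filter]
    exact ⟨Finset.mem_univ _, 1, one_mem _, rfl⟩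
  by_cases htop : A' = ⊤
  · -- `A' = W`
    have : Nat.card A' = q ^ (2 * d) := by
      rw [htop, ← hW]
      exact AddSubgroup.card_top
    rw [this, hNcard]
    calc T1 ≤ q ^ (2 * d) := h3
      _ = q ^ (2 * d) * 1 := (mul_one _).symm
      _ ≤ q ^ (2 * d) * Nfam.card := Nat.mul_le_mul_left _ hN1
  · have hninv : ¬ ∀ k ∈ D.K, ∀ w ∈ A', D.ρ k w ∈ A' := by
      intro h
      rcases hirr A' h with h | h
      · exact hA' h
      · exact htop h
    have hμN : μ ≤ Nfam.card := by
      rw [← hNcard]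
      exact translates_ge hD μ hμ A' hninv
    rw [hNcard, hAcard]
    by_cases hbig : q ^ 2 ≤ Afin.card
    · calc T1 ≤ q ^ 2 * μ := h1
        _ ≤ Afin.card * Nfam.card := Nat.mul_le_mul hbig hμN
    · push Not at hbig
      -- pick a nonzero element
      obtain ⟨a₀, ha₀A, ha₀⟩ : ∃ a₀ ∈ A', a₀ ≠ 0 := by
        by_contra hcon
        push Not at hcon
        apply hA'
        rw [eq_bot_iff]
        intro w hw
        exact (AddSubgroup.mem_bot).2 (hcon w hw)
      set Tfin : Finset W := Finset.univ.filter (fun w' => ∃ k ∈ D.K, D.ρ k a₀ = w') with hTfin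
      have hTcard : Nat.card {w' : W // ∃ k ∈ D.K, D.ρ k a₀ = w'} = Tfin.card :=
        Nat.subtype_card Tfin (by simp [hTfin])
      have hc0 : c0 ≤ Tfin.card := by rw [← hTcard]; exact horb a₀ ha₀
      have hsub : Tfin ⊆ Nfam.biUnion (fun S => (Finset.univ.filter (· ∈ S)).erase 0) := by
        intro w' hw'
        rw [hTfin, Finset.mem_filter] at hw'
        obtain ⟨-, k, hk, rfl⟩ := hw'
        rw [Finset.mem_biUnion]
        refine ⟨D.ρ k '' (A' : Set W), ?_, ?_⟩
        · rw [hNfam, Finset.mem_filter]; exact ⟨Finset.mem_univ _, k, hk, rfl⟩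
        · rw [Finset.mem_erase, Finset.mem_filter]
          refine ⟨?_, Finset.mem_univ _, Set.mem_image_of_mem _ ha₀A⟩
          intro h0
          apply ha₀
          apply ρ_inj hD k (hD.K_le hk)
          rw [h0, ρ_zero hD k (hD.K_le hk)]
      have hcardS : ∀ S ∈ Nfam, ((Finset.univ.filter (· ∈ S)).erase (0 : W)).card + 1
          = Afin.card := by
        intro S hS
        rw [hNfam, Finset.mem_filter] at hS
        obtain ⟨-, k, hk, rfl⟩ := hS
        have e1 : Finset.univ.filter (· ∈ D.ρ k '' (A' : Set W)) = Afin.image (D.ρ k) := by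
          ext w
          simp only [Finset.mem_filter, Finset.mem_univ, true_and, Set.mem_image, SetLike.mem_coe,
            Finset.mem_image, hmemA]
        have e2 : (0 : W) ∈ Afin.image (D.ρ k) :=
          Finset.mem_image.2 ⟨0, (hmemA 0).2 A'.zero_mem, ρ_zero hD k (hD.K_le hk)⟩
        rw [e1, Finset.card_erase_of_mem e2,
          Finset.card_image_of_injective _ (ρ_inj hD k (hD.K_le hk))]
        have : 0 < Afin.card := Finset.card_pos.2 ⟨0, (hmemA 0).2 A'.zero_mem⟩
        omega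
      have hcov : Tfin.card + Nfam.card ≤ Nfam.card * Afin.card := by
        have h5 : Tfin.card ≤ ∑ S ∈ Nfam, ((Finset.univ.filter (· ∈ S)).erase (0 : W)).card :=
          (Finset.card_le_card hsub).trans Finset.card_biUnion_le
        have h6 : ∑ S ∈ Nfam, (((Finset.univ.filter (· ∈ S)).erase (0 : W)).card + 1)
            = Nfam.card * Afin.card := by
          rw [Finset.sum_congr rfl hcardS, Finset.sum_const, smul_eq_mul]
        rw [Finset.sum_add_distrib, Finset.sum_const, smul_eq_mul, mul_one] at h6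
        omega
      -- arithmetic
      have hq2 : 1 ≤ q ^ 2 := Nat.one_le_pow _ _ (by omega)
      obtain ⟨Q, hQ⟩ : ∃ Q, q ^ 2 = Q + 1 := ⟨q ^ 2 - 1, by omega⟩
      have hQ' : q ^ 2 - 1 = Q := by omega
      have hQpos : 0 < Q := by
        have : 2 ^ 2 ≤ q ^ 2 := Nat.pow_le_pow_left hq 2
        omega
      rw [hQ'] at h2
      rw [hQ] at h2 hbig
      -- `N a Q ≥ (N a - N) (Q+1) ≥ c0 (Q+1) ≥ T1 Q`
      have key : T1 * Q ≤ Afin.card * Nfam.card * Q := by
        have e1 : c0 * (Q + 1) ≤ Tfin.card * (Q + 1) := Nat.mul_le_mul_right _ hc0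
        have e2 : Tfin.card * (Q + 1) + Nfam.card * (Q + 1) ≤ Nfam.card * Afin.card * (Q + 1) := by
          rw [← add_mul]; exact Nat.mul_le_mul_right _ hcov
        have e3 : Nfam.card * Afin.card ≤ Nfam.card * (Q + 1) := Nat.mul_le_mul_left _ hbig.le
        nlinarith
      exact Nat.le_of_mul_le_mul_right key hQpos

end Cfsg.Agent.Lib.Helper79_S2151_COVER
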