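import Mathlib
import Cfsg.Agent.Lib.Helper50_UQAbsDefs
import Cfsg.Agent.Lib.Helper79_S2151_DUAL
import Cfsg.Agent.Lib.Helper79_S2151_COVER

/-!
# S2151: the covering hypothesis `hsub` of helper50's abstract core, without geometry (helper68)

`DUAL` (helper79) + `COVER` (helper79) give the hypothesis `hsub` of
`Helper50_UQAbsMain.abstract_core` from irreducibility, the index bound `μ` for `K` and a lower bound
`c0` for the `K`-orbits on `W - 0`.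
-/

set_option autoImplicit false

open Cfsg.Agent.Lib.Helper50_UQAbsDefs

namespace Cfsg.Agent.Lib.Helper68_S2151_HSUB

theorem hsub {G : Type*} [Group G] [Finite G] {W : Type*} [AddCommGroup W] [Finite W]
    {A : Type*} [AddCommGroup A] [Finite A] [Nontrivial A] (D : UDat G W A) (hD : D.Ok)
    (q d μ c0 T1 : ℕ) (hq : 2 ≤ q) (hW : Nat.card W = q ^ (2 * d))
    (hirr : ∀ I : AddSubgroup W, (∀ k ∈ D.K, ∀ w ∈ I, D.ρ k w ∈ I) → I = ⊥ ∨ I = ⊤)
    (hμ : ∀ E : Subgroup G, E ≤ D.K → E ≠ D.K → μ ≤ E.relIndex D.K)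
    (horb : ∀ w : W, w ≠ 0 → c0 ≤ Nat.card {w' : W // ∃ k ∈ D.K, D.ρ k w = w'})
    (h1 : T1 ≤ q ^ 2 * μ) (h2 : T1 * (q ^ 2 - 1) ≤ c0 * q ^ 2) (h3 : T1 ≤ q ^ (2 * d)) :
    ∀ J : AddSubgroup W, J ≠ ⊤ →
      T1 ≤ J.index * Nat.card {S : Set W // ∃ k ∈ D.K, S = D.ρ k '' (J : Set W)} := by
  intro J hJ
  obtain ⟨A', hA'card, hA'tr⟩ := Cfsg.Agent.Lib.Helper79_S2151_DUAL.DUAL D hD J
  have hA'ne : A' ≠ ⊥ := by
    intro h
    rw [h, AddSubgroup.card_bot] at hA'card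
    exact hJ (AddSubgroup.index_eq_one.1 hA'card.symm)
  have := Cfsg.Agent.Lib.Helper79_S2151_COVER.COVER D hD q d μ c0 T1 hq hW hirr hμ horb h1 h2 h3
    A' hA'ne
  rw [← hA'card, hA'tr]
  exact this

end Cfsg.Agent.Lib.Helper68_S2151_HSUB
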