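import Mathlib

/-!
# S2151: a semiregular subgroup with `|Ω| < 2 |Q|` is regular (helper68)
-/

set_option autoImplicit false

namespace Cfsg.Agent.Lib.Helper68_S2151_Reg

/-- A subgroup `Q` acting semiregularly on a nonempty finite set with fewer than `2 |Q|` points is
regular. -/
theorem regular_of_semiregular {G : Type*} [Group G] {Ω : Type*} [MulAction G Ω] [Finite Ω]
    (Q : Subgroup G)
    (hsemi : ∀ ω : Ω, ∀ g ∈ Q, g • ω = ω → g = 1) (hcard : Nat.card Ω < 2 * Nat.card Q) :
    ∀ ω ω' : Ω, ∃! g : G, g ∈ Q ∧ g • ω = ω' := by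
  have hinj : ∀ ω : Ω, ∀ g g' : Q, (g : G) • ω = (g' : G) • ω → g = g' := by
    intro ω g g' h
    have h2 : ((g : G)⁻¹ * (g' : G)) • ω = ω := by rw [mul_smul, ← h, inv_smul_smul]
    have h3 := hsemi ω _ (Q.mul_mem (Q.inv_mem g.2) g'.2) h2
    exact Subtype.ext (inv_mul_eq_one.1 h3)
  intro ω ω'
  have hsurj : ∃ g : Q, (g : G) • ω = ω' := by
    by_contra hns
    have hne' : ∀ g g' : Q, (g : G) • ω ≠ (g' : G) • ω' := by
      intro g g' h
      apply hns
      refine ⟨g'⁻¹ * g, ?_⟩
      rw [Subgroup.coe_mul, Subgroup.coe_inv, mul_smul, h, inv_smul_smul]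
    let F : Bool × ↥Q → Ω := fun x => if x.1 then (x.2 : G) • ω else (x.2 : G) • ω'
    have hF : Function.Injective F := by
      rintro ⟨b, g⟩ ⟨b', g'⟩ h
      cases b <;> cases b'
      · have h1 : (g : G) • ω' = (g' : G) • ω' := h
        rw [hinj ω' g g' h1]
      · have h1 : (g : G) • ω' = (g' : G) • ω := h
        exact absurd h1.symm (hne' g' g)
      · have h1 : (g : G) • ω = (g' : G) • ω' := h
        exact absurd h1 (hne' g g')
      · have h1 : (g : G) • ω = (g' : G) • ω := h
        rw [hinj ω g g' h1]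
    have hc := Nat.card_le_card_of_injective F hF
    rw [Nat.card_prod, Nat.card_eq_fintype_card (α := Bool), Fintype.card_bool] at hc
    omega
  obtain ⟨g, hg⟩ := hsurj
  refine ⟨(g : G), ⟨g.2, hg⟩, ?_⟩
  rintro g' ⟨hg'Q, hg'⟩
  have := hinj ω ⟨g', hg'Q⟩ g (by rw [hg, hg'])
  exact congrArg Subtype.val this

/-- In a field with four elements with an involution `σ ≠ id` there is `λ` with `λ σ(λ) = 1`,
`λ ≠ 1`, `λ^2 ≠ 1`, `λ^3 = 1`. -/
theorem exists_lam_four {F : Type*} [Field F] [Finite F] (hF : Nat.card F = 4) (σ : F →+* F)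
    (hinv : ∀ a, σ (σ a) = a) (hne : ∃ θ, σ θ ≠ θ) :
    ∃ lam : F, lam * σ lam = 1 ∧ lam ≠ 1 ∧ lam * lam ≠ 1 ∧ lam ^ 3 = 1 := by
  classical
  cases nonempty_fintype F
  obtain ⟨θ, hθ⟩ := hne
  have hθ0 : θ ≠ 0 := by
    rintro rfl
    exact hθ (map_zero σ)
  have hθ1 : θ ≠ 1 := by
    rintro rfl
    exact hθ (map_one σ)
  have hcard : Fintype.card F = 4 := by rw [← Nat.card_eq_fintype_card, hF]
  have h3 : θ ^ 3 = 1 := by
    have := FiniteField.pow_card_sub_one_eq_one θ hθ0
    rwa [hcard] at this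
  -- characteristic 2
  have h2 : (2 : F) = 0 := by
    have h4 : ((4 : ℕ) : F) = 0 := by
      rw [← hcard]
      exact Nat.cast_card_eq_zero F
    have h4' : (2 : F) * 2 = 0 := by
      have : ((4 : ℕ) : F) = 2 * 2 := by norm_num
      rw [← this, h4]
    exact mul_self_eq_zero.1 h4'
  have hsq : θ * θ ≠ 1 := by
    intro h
    have : (θ - 1) * (θ - 1) = 0 := by
      have e : (θ - 1) * (θ - 1) = θ * θ - 2 * θ + 1 := by ring
      rw [e, h, h2]
      linear_combination h2
    have := mul_self_eq_zero.1 this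
    exact hθ1 (sub_eq_zero.1 this)
  -- the norm is fixed and nonzero; it is a cube root of unity fixed by σ
  -- θ σθ : compute via θ^3 = 1: the only elements are 0, 1, θ, θ^2 and σ θ ∉ {0, 1, θ}
  have hσθ0 : σ θ ≠ 0 := by
    intro h
    have := congrArg σ h
    rw [hinv, map_zero] at this
    exact hθ0 this
  have hσθ1 : σ θ ≠ 1 := by
    intro h
    have := congrArg σ h
    rw [hinv, map_one] at this
    exact hθ1 this
  -- the four elements
  have hθθ0 : θ * θ ≠ 0 := mul_ne_zero hθ0 hθ0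
  have hθθθ : θ * θ ≠ θ := by
    intro h
    have : θ * (θ - 1) = 0 := by rw [mul_sub, h, mul_one, sub_self]
    rcases mul_eq_zero.1 this with h' | h'
    · exact hθ0 h'
    · exact hθ1 (sub_eq_zero.1 h')
  have huniv : ∀ x : F, x = 0 ∨ x = 1 ∨ x = θ ∨ x = θ * θ := by
    intro x
    by_contra hx
    push Not at hx
    obtain ⟨hx0, hx1, hxθ, hxθθ⟩ := hx
    have hcard5 : 5 ≤ Fintype.card F := by
      have hs : ({0, 1, θ, θ * θ, x} : Finset F).card = 5 := by
        rw [Finset.card_insert_of_notMem, Finset.card_insert_of_notMem,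
          Finset.card_insert_of_notMem, Finset.card_insert_of_notMem, Finset.card_singleton]
        · simp only [Finset.mem_singleton]
          exact fun h => hxθθ h.symm
        · simp only [Finset.mem_insert, Finset.mem_singleton, not_or]
          exact ⟨fun h => hθθθ h.symm, fun h => hxθ h.symm⟩
        · simp only [Finset.mem_insert, Finset.mem_singleton, not_or]
          exact ⟨fun h => hθ1 h.symm, fun h => hsq h.symm, fun h => hx1 h.symm⟩
        · simp only [Finset.mem_insert, Finset.mem_singleton, not_or]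
          exact ⟨fun h => one_ne_zero h.symm, fun h => hθ0 h.symm, fun h => hθθ0 h.symm,
            fun h => hx0 h.symm⟩
      calc 5 = ({0, 1, θ, θ * θ, x} : Finset F).card := hs.symm
        _ ≤ Fintype.card F := Finset.card_le_univ _
    omega
  have hσθ : σ θ = θ * θ := by
    rcases huniv (σ θ) with h | h | h | h
    · exact absurd h hσθ0
    · exact absurd h hσθ1
    · exact absurd h hθ
    · exact h
  refine ⟨θ, ?_, hθ1, hsq, h3⟩
  rw [hσθ, ← h3]
  ring

end Cfsg.Agent.Lib.Helper68_S2151_Reg
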