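import Mathlib
import Cfsg.Agent.Lib.Helper50_UQAbsMain
import Cfsg.Agent.Lib.Helper94_UQInst
import Cfsg.Agent.Lib.Helper94_UQPts
import Cfsg.Agent.Lib.Helper27_UQ_HYP
import Cfsg.Agent.Lib.Helper27_UQ_GEN
import Cfsg.Agent.Lib.Helper27_UQ_CARD
import Cfsg.Agent.Lib.Helper95_UQ_FLD
import Cfsg.Agent.Lib.Helper68_S2151_Reg
import Cfsg.Agent.Lib.Helper61_UQ_CARDQ

/-!
# S2151: the hypothesis `hpos` of the abstract core from STEP 4 (helper68)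

If no root group fixes a point of `Ω` and `|Ω| < N`, then by `Helper50_UQAbsMain.stepA` every `Q_u` is semiregular, hence
regular, on `Ω`.  So a refutation of "all `Q_u` are regular" (STEP 4, package `RMAIN`) yields `hpos`.
-/

set_option autoImplicit false
set_option linter.unusedSectionVars false
set_option linter.unusedVariables false

open Module Cfsg.Agent.Lib.Helper94_Symp Cfsg.Agent.Lib.Helper94_Herm
  Cfsg.Agent.Lib.Helper13_SUGen Cfsg.Agent.Lib.Helper13_PSUSimple Cfsg.Agent.Lib.Helper14_PSULocal1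
  Cfsg.Agent.Lib.Helper27_UQDefs Cfsg.Agent.Lib.Helper50_UQAbsDefs
  Cfsg.Agent.Lib.Helper94_UQInst Cfsg.Agent.Lib.Helper94_UQPts

namespace Cfsg.Agent.Lib.Helper68_S2151_Hpos

variable {F V : Type*} [Field F] [AddCommGroup V] [Module F V] {σ : F →+* F}
variable {B : V →ₗ[F] V →ₛₗ[σ] F}

theorem hpos_of_reg [Finite F] [FiniteDimensional F V] (hσ : Invol σ) (hB : IsHerm B)
    (hN : NondegOn B ⊤) {q : ℕ} (hF : Nat.card F = q ^ 2) (hq : 2 ≤ q) (n d : ℕ)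
    (hn : finrank F V = n) (hnd : n = d + 2) (hd3 : 3 ≤ d) (μ N : ℕ)
    (hN1 : N ≤ μ * q ^ (d + 1)) (hN2 : N ≤ q ^ (2 * d + 1) + 2 * q ^ (2 * d))
    (hN3 : N ≤ 2 * q ^ (2 * d + 1))
    (hμ : ∀ {v v' : V} (h : HypPair B v v'), ∀ E : Subgroup ↥(SUg B),
      E ≤ (udat hσ hB h).K → E ≠ (udat hσ hB h).K → μ ≤ E.relIndex (udat hσ hB h).K)
    {Ω : Type*} [MulAction ↥(SUg B) Ω] [Finite Ω] (hΩ : Nat.card Ω < N)
    (hfalse : (∀ u : IsoPt B, ∀ ω ω' : Ω, ∃! g : ↥(SUg B), g ∈ Qs B u ∧ g • ω = ω') → False) :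
    ∃ (u : IsoPt B) (ω : Ω), ∀ h ∈ Xs B u, h • ω = ω := by
  by_contra hcon
  push Not at hcon
  have : Finite V := Module.finite_of_finite F
  have : Finite (V ≃ₗ[F] V) := DFunLike.finite _
  apply hfalse
  intro u
  obtain ⟨v, hv0, hv, rfl⟩ := exists_eq_mkPt u
  obtain ⟨v', h⟩ := Cfsg.Agent.Lib.Helper27_UQ_GEN.exists_hypPair hσ hB hN hv0 hv
  have hWd : finrank F ↥(Wsub B v v') = d := by
    have := Cfsg.Agent.Lib.Helper27_UQ_CARD.finrank_Wsub h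
    omega
  have hD := udat_ok hσ hB hN h
  have hA : Nat.card ↥(skewA σ) = q := Cfsg.Agent.Lib.Helper95_UQ_FLD.card_skew hσ hF
  have hW : Nat.card ↥(Wsub B v v') = q ^ (2 * d) := by
    rw [Cfsg.Agent.Lib.Helper27_UQ_CARD.card_Wsub hF h, hn, hnd]
    congr 2
  have hQcard : Nat.card (Qs B (mkPt hv0 hv)) = q ^ (2 * d + 1) := by
    rw [Qs_mkPt_eq hσ hB h hv0, Cfsg.Agent.Lib.Helper61_UQ_CARDQ.cardQ (udat hσ hB h) hD, hW, hA,
      pow_succ]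
  have hsemi : ∀ ω : Ω, ∀ g ∈ Qs B (mkPt hv0 hv), g • ω = ω → g = 1 := by
    intro ω g hg hgω
    have hω : ∃ a, (udat hσ hB h).x a • ω ≠ ω := by
      obtain ⟨x, hx, hxω⟩ := hcon (mkPt hv0 hv) ω
      obtain ⟨a, rfl⟩ := (mem_Xs_mkPt_iff hσ hB h hv0 x).1 hx
      exact ⟨a, hxω⟩
    rcases Cfsg.Agent.Lib.Helper50_UQAbsMain.stepA (udat hσ hB h) hD q d μ N hq (by omega) hA hW hN1 hN2
      (Cfsg.Agent.Lib.Helper27_UQ_HYP.hirr_udat hσ hB hN h (by omega)) (hμ h)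
      (Cfsg.Agent.Lib.Helper27_UQ_HYP.htorus_udat hσ hB hN hF h (by omega)) ω hω with h1 | h1
    · omega
    · rw [Qs_mkPt_eq hσ hB h hv0] at hg
      exact h1.1 g hg hgω
  exact Cfsg.Agent.Lib.Helper68_S2151_Reg.regular_of_semiregular _ hsemi (by rw [hQcard]; omega)

end Cfsg.Agent.Lib.Helper68_S2151_Hpos
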