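import Mathlib

/-!
# S2151: arithmetic of `N_n = (q^n+1)(q^(n-1)-1)/(q^2-1)` for odd `n` (helper68)
-/

set_option autoImplicit false

namespace Cfsg.Agent.Lib.Helper68_S2151_NUM

/-- The number of isotropic points of a nondegenerate hermitian space of odd dimension `n`. -/
def Nodd (q n : ℕ) : ℕ := (q ^ n + 1) * (q ^ (n - 1) - 1) / (q ^ 2 - 1)

/-- `(q^2-1) N_n = (q^n+1)(q^(n-1)-1)` for odd `n`. -/
theorem Nodd_mul (q n : ℕ) (hodd : Odd n) :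
    (q ^ 2 - 1) * Nodd q n = (q ^ n + 1) * (q ^ (n - 1) - 1) := by
  obtain ⟨k, rfl⟩ := hodd
  have e : 2 * k + 1 - 1 = 2 * k := by omega
  have hdvd : q ^ 2 - 1 ∣ q ^ (2 * k) - 1 := by
    have := Nat.sub_one_dvd_pow_sub_one (q ^ 2) k
    rwa [← pow_mul] at this
  unfold Nodd
  rw [e]
  exact Nat.mul_div_cancel' (Dvd.dvd.mul_left hdvd _)

/-- The basic identity behind the recurrence, in terms of `y = q^(d-1)`. -/
theorem rec_aux (q y Nd : ℕ) (hq : 2 ≤ q) (hy : 1 ≤ y)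
    (hA : (q ^ 2 - 1) * Nd = (q * y + 1) * (y - 1)) :
    (q ^ 2 - 1) * (1 + q ^ 2 * Nd + q ^ 3 * y ^ 2) = (q ^ 3 * y + 1) * (q ^ 2 * y - 1) := by
  have h1 : 1 ≤ q ^ 2 := Nat.one_le_pow _ _ (by omega)
  have h2 : 1 ≤ q ^ 2 * y := Nat.one_le_iff_ne_zero.2 (by positivity)
  zify [h1, h2, hy] at hA ⊢
  linear_combination (q : ℤ) ^ 2 * hA

theorem pow_split (q d : ℕ) (hd : 1 ≤ d) :
    q ^ d = q * q ^ (d - 1) ∧ q ^ (d + 1) = q ^ 2 * q ^ (d - 1) ∧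
      q ^ (d + 2) = q ^ 3 * q ^ (d - 1) ∧ q ^ (2 * d + 1) = q ^ 3 * (q ^ (d - 1)) ^ 2 ∧
      q ^ (2 * d) = q ^ 2 * (q ^ (d - 1)) ^ 2 := by
  obtain ⟨e, rfl⟩ : ∃ e, d = e + 1 := ⟨d - 1, by omega⟩
  have e1 : e + 1 - 1 = e := by omega
  rw [e1]
  refine ⟨by ring, by ring, by ring, by ring, by ring⟩

/-- `N_(d+2) = 1 + q^2 N_d + q^(2d+1)` for odd `d`. -/
theorem Nodd_rec (q d : ℕ) (hq : 2 ≤ q) (hodd : Odd d) :
    Nodd q (d + 2) = 1 + q ^ 2 * Nodd q d + q ^ (2 * d + 1) := by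
  have hd : 1 ≤ d := hodd.pos
  obtain ⟨p1, p2, p3, p4, -⟩ := pow_split q d hd
  have hy : 1 ≤ q ^ (d - 1) := Nat.one_le_pow _ _ (by omega)
  have hA := Nodd_mul q d hodd
  rw [p1] at hA
  have h := rec_aux q (q ^ (d - 1)) (Nodd q d) hq hy hA
  have hodd2 : Odd (d + 2) := by
    obtain ⟨k, rfl⟩ := hodd
    exact ⟨k + 1, by ring⟩
  have hB := Nodd_mul q (d + 2) hodd2
  have e : d + 2 - 1 = d + 1 := by omega
  rw [e, p3, p2] at hB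
  have hpos : 0 < q ^ 2 - 1 := by
    have : 4 ≤ q ^ 2 := by nlinarith
    omega
  apply Nat.eq_of_mul_eq_mul_left hpos
  rw [hB, p4, ← h]

/-- `q^2 N_d ≤ q^(2d)`. -/
theorem sq_mul_Nodd_le (q d : ℕ) (hq : 2 ≤ q) (hodd : Odd d) :
    q ^ 2 * Nodd q d ≤ q ^ (2 * d) := by
  have hd : 1 ≤ d := hodd.pos
  obtain ⟨p1, -, -, -, p5⟩ := pow_split q d hd
  have hy : 1 ≤ q ^ (d - 1) := Nat.one_le_pow _ _ (by omega)
  have hA := Nodd_mul q d hodd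
  rw [p1] at hA
  rw [p5]
  set y := q ^ (d - 1) with hydef
  have h1 : 1 ≤ q ^ 2 := Nat.one_le_pow _ _ (by omega)
  have hpos : 0 < q ^ 2 - 1 := by
    have : 4 ≤ q ^ 2 := by nlinarith
    omega
  apply Nat.le_of_mul_le_mul_left _ hpos
  have hA' : (q ^ 2 - 1) * (q ^ 2 * Nodd q d) = q ^ 2 * ((q * y + 1) * (y - 1)) := by
    rw [← hA]; ring
  rw [hA']
  zify [h1, hy]
  have hq' : (2 : ℤ) ≤ q := by exact_mod_cast hq
  have hy' : (1 : ℤ) ≤ y := by exact_mod_cast hy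
  nlinarith [mul_nonneg (mul_nonneg (by positivity : (0 : ℤ) ≤ (q : ℤ) ^ 2) (by positivity : (0 : ℤ) ≤ (y : ℤ) ^ 2))
    (by nlinarith : (0 : ℤ) ≤ (q : ℤ) ^ 2 - q - 1), mul_nonneg (by positivity : (0 : ℤ) ≤ (q : ℤ) ^ 2) (by positivity : (0 : ℤ) ≤ (q : ℤ) * y)]

theorem Nodd_pos (q d : ℕ) (hq : 2 ≤ q) (hodd : Odd d) (hd : 3 ≤ d) : 0 < Nodd q d := by
  have hA := Nodd_mul q d hodd
  by_contra h0
  have h0' : Nodd q d = 0 := by omega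
  rw [h0', mul_zero] at hA
  have h1 : 2 ≤ q ^ (d - 1) := by
    calc 2 ≤ q := hq
      _ = q ^ 1 := (pow_one q).symm
      _ ≤ q ^ (d - 1) := Nat.pow_le_pow_right (by omega) (by omega)
  have h2 : 0 < (q ^ d + 1) * (q ^ (d - 1) - 1) := Nat.mul_pos (by positivity) (by omega)
  omega

/-- `1 + q^2 N_d ≤ 2 q^(2d)`. -/
theorem one_add_le (q d : ℕ) (hq : 2 ≤ q) (hodd : Odd d) :
    1 + q ^ 2 * Nodd q d ≤ 2 * q ^ (2 * d) := by
  have h := sq_mul_Nodd_le q d hq hodd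
  have h1 : 1 ≤ q ^ (2 * d) := Nat.one_le_pow _ _ (by omega)
  omega

/-- `N_(d+2) ≤ N_d q^(d+1)` for odd `d ≥ 5`. -/
theorem Nodd_le_mul (q d : ℕ) (hq : 2 ≤ q) (hodd : Odd d) (hd5 : 5 ≤ d) :
    Nodd q (d + 2) ≤ Nodd q d * q ^ (d + 1) := by
  have hd : 1 ≤ d := by omega
  obtain ⟨p1, p2, p3, -, -⟩ := pow_split q d hd
  have hy : 1 ≤ q ^ (d - 1) := Nat.one_le_pow _ _ (by omega)
  have hyq : q ^ 2 + 1 ≤ q ^ (d - 1) := by
    have h4 : q ^ 4 ≤ q ^ (d - 1) := Nat.pow_le_pow_right (by omega) (by omega)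
    have h5 : q ^ 2 + 1 ≤ q ^ 4 := by
      have : 4 ≤ q ^ 2 := by nlinarith
      have : q ^ 4 = q ^ 2 * q ^ 2 := by ring
      nlinarith
    omega
  have hA := Nodd_mul q d hodd
  rw [p1] at hA
  have hodd2 : Odd (d + 2) := by
    obtain ⟨k, rfl⟩ := hodd
    exact ⟨k + 1, by ring⟩
  have hB := Nodd_mul q (d + 2) hodd2
  have e : d + 2 - 1 = d + 1 := by omega
  rw [e, p3, p2] at hB
  rw [p2]
  set y := q ^ (d - 1) with hydef
  have h1 : 1 ≤ q ^ 2 := Nat.one_le_pow _ _ (by omega)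
  have h2 : 1 ≤ q ^ 2 * y := Nat.one_le_iff_ne_zero.2 (by positivity)
  have hpos : 0 < q ^ 2 - 1 := by
    have : 4 ≤ q ^ 2 := by nlinarith
    omega
  apply Nat.le_of_mul_le_mul_left _ hpos
  have hA' : (q ^ 2 - 1) * (Nodd q d * (q ^ 2 * y)) = (q * y + 1) * (y - 1) * (q ^ 2 * y) := by
    rw [← hA]; ring
  rw [hB, hA']
  zify [h1, h2, hy]
  have hq' : (2 : ℤ) ≤ q := by exact_mod_cast hq
  have hy' : (1 : ℤ) ≤ y := by exact_mod_cast hy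
  have hyq' : ((q : ℤ) ^ 2 + 1 : ℤ) ≤ y := by exact_mod_cast hyq
  have hy2 : (2 : ℤ) ≤ y := by nlinarith
  have t1 : (0 : ℤ) ≤ (q : ℤ) ^ 3 * (y : ℤ) ^ 2 * ((y : ℤ) - 1 - (q : ℤ) ^ 2) :=
    mul_nonneg (by positivity) (by linarith)
  have t2 : (0 : ℤ) ≤ (q : ℤ) ^ 2 * (y : ℤ) * ((y : ℤ) - 2) :=
    mul_nonneg (by positivity) (by linarith)
  have t3 : (0 : ℤ) ≤ (q : ℤ) ^ 3 * (y : ℤ) := by positivity
  nlinarith [t1, t2, t3]

/-- From the count of isotropic vectors to the count of isotropic points. -/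
theorem points_eq (q n cI cP : ℕ) (hq : 2 ≤ q) (hodd : Odd n)
    (hI : cI + q ^ n = q ^ (2 * n - 1) + q ^ (n - 1)) (hP : cI = 1 + (q ^ 2 - 1) * cP) :
    cP = Nodd q n := by
  have hn : 1 ≤ n := hodd.pos
  have hA := Nodd_mul q n hodd
  have hpos : 0 < q ^ 2 - 1 := by
    have : 4 ≤ q ^ 2 := by nlinarith
    omega
  apply Nat.eq_of_mul_eq_mul_left hpos
  rw [hA]
  have e1 : q ^ (2 * n - 1) = q ^ n * q ^ (n - 1) := by
    rw [← pow_add]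
    congr 1
    omega
  have hy : 1 ≤ q ^ (n - 1) := Nat.one_le_pow _ _ (by omega)
  rw [e1, hP] at hI
  zify [hy] at hI ⊢
  have h1 : 1 ≤ q ^ 2 := Nat.one_le_pow _ _ (by omega)
  zify [h1] at hI ⊢
  linear_combination hI

end Cfsg.Agent.Lib.Helper68_S2151_NUM
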