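import Mathlib
import Cfsg.Agent.Lib.Helper94_UQStep
import Cfsg.Agent.Lib.Helper9_S2151_CNT
import Cfsg.Agent.Lib.Helper91_S2151_PTS
import Cfsg.Agent.Lib.Helper32_S2151_ORBaux
import Cfsg.Agent.Lib.Helper68_S2151_NUM
import Cfsg.Agent.Lib.Helper68_S2151_HSUB
import Cfsg.Agent.Lib.Helper68_S2151_Hpos

/-!
# S2151: the induction (helper68)

`main_odd`: every proper subgroup of `SUg B` (`B` nondegenerate hermitian of odd dimension `n ≥ 5` over a field with `q^2`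
elements) has index at least `N_n = (q^n+1)(q^(n-1)-1)/(q^2-1)`, from
* the base case `n = 5` (hypothesis `T5`; helper85's market), and
* STEP 4 for `q = 2` (hypothesis `REG`: not all `Q_u` are regular; packages RCONF, RELT, RMAIN).
-/

set_option autoImplicit false
set_option linter.unusedSectionVars false
set_option linter.unusedVariables false

open Module Cfsg.Agent.Lib.Helper94_Symp Cfsg.Agent.Lib.Helper94_Herm
  Cfsg.Agent.Lib.Helper13_SUGen Cfsg.Agent.Lib.Helper13_PSUSimple Cfsg.Agent.Lib.Helper14_PSULocal1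
  Cfsg.Agent.Lib.Helper27_UQDefs Cfsg.Agent.Lib.Helper27_UQ_KISO Cfsg.Agent.Lib.Helper50_UQAbsDefs
  Cfsg.Agent.Lib.Helper94_UQInst Cfsg.Agent.Lib.Helper94_UQPts Cfsg.Agent.Lib.Helper94_UQStep
  Cfsg.Agent.Lib.Helper68_S2151_NUM

namespace Cfsg.Agent.Lib.Helper68_S2151_Main

universe u

variable {F : Type*} [Field F] {σ : F →+* F}

/-- The number of isotropic points in odd dimension. -/
theorem card_IsoPt_odd {V : Type u} [AddCommGroup V] [Module F V] [Finite F] [FiniteDimensional F V]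
    (B : V →ₗ[F] V →ₛₗ[σ] F) (hσ : Invol σ) (hB : IsHerm B) (hN : NondegOn B ⊤) {q : ℕ}
    (hF : Nat.card F = q ^ 2) (n : ℕ) (hn : finrank F V = n) (hodd : Odd n) :
    Nat.card (IsoPt B) = Nodd q n := by
  have hq : 2 ≤ q := two_le_q hF
  have h1 := (Cfsg.Agent.Lib.Helper9_S2151_CNT.CNT B hσ hB hN hF n hn hodd.pos).1
  have hne : ¬ Even n := Nat.not_even_iff_odd.mpr hodd
  rw [if_neg hne, if_neg hne] at h1
  have h2 := Cfsg.Agent.Lib.Helper91_S2151_PTS.PTS B hF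
  exact points_eq q n _ _ hq hodd h1 h2

/-- The induction step. -/
theorem step_odd {V : Type u} [AddCommGroup V] [Module F V] [Finite F] [FiniteDimensional F V]
    (B : V →ₗ[F] V →ₛₗ[σ] F) (hσ : Invol σ) (hB : IsHerm B) (hN : NondegOn B ⊤) {q : ℕ}
    (hF : Nat.card F = q ^ 2) (d : ℕ) (hd : finrank F V = d + 2) (hd5 : 5 ≤ d) (hodd : Odd d)
    (ih : ∀ {W : Type u} [AddCommGroup W] [Module F W] [FiniteDimensional F W]
      (C : W →ₗ[F] W →ₛₗ[σ] F), IsHerm C → NondegOn C ⊤ → finrank F W = d →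
      ∀ H : Subgroup ↥(SUg C), H ≠ ⊤ → Nodd q d ≤ H.index)
    (REG : q = 2 → ∀ {Ω : Type u} [MulAction ↥(SUg B) Ω] [Finite Ω] [Nonempty Ω],
      (∀ u : IsoPt B, ∀ ω ω' : Ω, ∃! g : ↥(SUg B), g ∈ Qs B u ∧ g • ω = ω') → False) :
    ∀ H : Subgroup ↥(SUg B), H ≠ ⊤ → Nodd q (d + 2) ≤ H.index := by
  have hq : 2 ≤ q := two_le_q hF
  obtain ⟨v, v', h⟩ := Cfsg.Agent.Lib.Helper9_S2151_CNT.exists_hypPair B hσ hB hN (by omega)
  have hWd : finrank F ↥(Wsub B v v') = d := finrank_W h hd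
  have hNW : NondegOn B (Wsub B v v') := by
    rw [Wsub_eq_Wp]
    exact nondegOn_Wp hB hN h
  have hodd2 : Odd (d + 2) := by
    obtain ⟨k, rfl⟩ := hodd
    exact ⟨k + 1, by ring⟩
  -- the bound for `K`
  have hμ := kv_bound_of_ih hσ hB h (Nodd q d)
    (ih (Bw B (Wsub B v v')) (isHerm_Bw hB _) (nondeg_Bw hNW) hWd)
  -- numerics
  have hP := card_IsoPt_odd B hσ hB hN hF (d + 2) hd hodd2
  have hNrec := Nodd_rec q d hq hodd
  have hT1 : 0 < q ^ 2 * Nodd q d := Nat.mul_pos (by positivity) (Nodd_pos q d hq hodd (by omega))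
  have hT2 := one_add_le q d hq hodd
  have hμN := Nodd_le_mul q d hq hodd hd5
  -- the covering hypothesis
  have hA : Nat.card ↥(skewA σ) = q := card_skewA hσ hF
  have hfinV : Finite V := Module.finite_of_finite F
  have hfinA : Finite ↥(skewA σ) := inferInstance
  have hntA : Nontrivial ↥(skewA σ) := by
    rw [← Finite.one_lt_card_iff_nontrivial, hA]
    omega
  have hfinG : Finite ↥(SUg B) := finite_SUg B
  have hW : Nat.card ↥(Wsub B v v') = q ^ (2 * d) := card_W hF h hd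
  have hCNT := Cfsg.Agent.Lib.Helper9_S2151_CNT.CNT (Bw B (Wsub B v v')) hσ (isHerm_Bw hB _)
    (nondeg_Bw hNW) hF d hWd (by omega)
  have horb := Cfsg.Agent.Lib.Helper32_S2151_ORBaux.ORB_aux hσ hB hN hF h d hWd (by omega) hodd hCNT
  have hirr := Cfsg.Agent.Lib.Helper27_UQ_HYP.hirr_udat hσ hB hN h (by omega : 3 ≤ finrank F ↥(Wsub B v v'))
  have h2 : q ^ 2 * Nodd q d * (q ^ 2 - 1) ≤ (q ^ d + 1) * (q ^ (d - 1) - 1) * q ^ 2 := by
    have := Nodd_mul q d hodd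
    rw [← this]
    exact le_of_eq (by ring)
  have hsub := Cfsg.Agent.Lib.Helper68_S2151_HSUB.hsub (udat hσ hB h) (udat_ok hσ hB hN h) q d (Nodd q d)
    ((q ^ d + 1) * (q ^ (d - 1) - 1)) (q ^ 2 * Nodd q d) hq hW hirr hμ horb le_rfl h2
    (sq_mul_Nodd_le q d hq hodd)
  by_cases hq3 : 3 ≤ q
  · exact step_geo_main_index hσ hB hN hF hq3 h d (Nodd q d) (Nodd q (d + 2)) (q ^ 2 * Nodd q d) hd
      (by omega) hP hNrec hT1 hT2 hμN hμ hsub
  · have hq2 : q = 2 := by omega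
    intro H hH
    by_contra hlt
    push Not at hlt
    have hnt : Nontrivial (↥(SUg B) ⧸ H) := nontrivial_quot H hH
    have hfinΩ : Finite (↥(SUg B) ⧸ H) := inferInstance
    have hΩ : Nat.card (↥(SUg B) ⧸ H) < Nodd q (d + 2) := hlt
    have hN2 : Nodd q (d + 2) ≤ q ^ (2 * d + 1) + 2 * q ^ (2 * d) := by
      rw [hNrec]; omega
    have hN3 : Nodd q (d + 2) ≤ 2 * q ^ (2 * d + 1) := by
      have : 2 * q ^ (2 * d) ≤ q ^ (2 * d + 1) := by
        rw [pow_succ, mul_comm]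
        exact Nat.mul_le_mul_left _ hq
      omega
    have hpos := Cfsg.Agent.Lib.Helper68_S2151_Hpos.hpos_of_reg hσ hB hN hF hq (d + 2) d hd rfl
      (by omega) (Nodd q d) (Nodd q (d + 2)) hμN hN2 hN3
      (fun {v v'} h' => kv_bound_of_ih hσ hB h' (Nodd q d)
        (ih (Bw B (Wsub B v v')) (isHerm_Bw hB _)
          (nondeg_Bw (by rw [Wsub_eq_Wp]; exact nondegOn_Wp hB hN h')) (finrank_W h' hd)))
      hΩ (fun hreg => REG hq2 hreg)
    have := step_geo_core_index hσ hB hN hF h d (Nodd q d) (Nodd q (d + 2)) (q ^ 2 * Nodd q d) hd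
      (by omega) hP hNrec hT1 hT2 hμN hμ hsub H hH hpos
    exact absurd this (by rw [Subgroup.index_eq_card]; omega)

/-- The induction over odd dimensions, from the base case `T5` and STEP 4 for `q = 2`. -/
theorem main_odd [Finite F] (hσ : Invol σ) {q : ℕ} (hF : Nat.card F = q ^ 2)
    (T5 : ∀ {V : Type u} [AddCommGroup V] [Module F V] [FiniteDimensional F V]
      (B : V →ₗ[F] V →ₛₗ[σ] F), IsHerm B → NondegOn B ⊤ → finrank F V = 5 →
      ∀ H : Subgroup ↥(SUg B), H ≠ ⊤ → Nodd q 5 ≤ H.index)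
    (REG : q = 2 → ∀ {V : Type u} [AddCommGroup V] [Module F V] [FiniteDimensional F V]
      (B : V →ₗ[F] V →ₛₗ[σ] F), IsHerm B → NondegOn B ⊤ → 7 ≤ finrank F V →
      ∀ {Ω : Type u} [MulAction ↥(SUg B) Ω] [Finite Ω] [Nonempty Ω],
      (∀ u : IsoPt B, ∀ ω ω' : Ω, ∃! g : ↥(SUg B), g ∈ Qs B u ∧ g • ω = ω') → False) :
    ∀ k : ℕ, ∀ {V : Type u} [AddCommGroup V] [Module F V] [FiniteDimensional F V]
      (B : V →ₗ[F] V →ₛₗ[σ] F), IsHerm B → NondegOn B ⊤ → finrank F V = 2 * k + 5 →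
      ∀ H : Subgroup ↥(SUg B), H ≠ ⊤ → Nodd q (2 * k + 5) ≤ H.index := by
  intro k
  induction k with
  | zero =>
    intro V _ _ _ B hB hN hn
    exact T5 B hB hN hn
  | succ k ih =>
    intro V _ _ _ B hB hN hn
    have hd : finrank F V = (2 * k + 5) + 2 := by rw [hn]; ring
    have hodd : Odd (2 * k + 5) := ⟨k + 2, by ring⟩
    have e : 2 * (k + 1) + 5 = (2 * k + 5) + 2 := by ring
    rw [e]
    exact step_odd B hσ hB hN hF (2 * k + 5) hd (by omega) hodd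
      (fun {W} _ _ _ C hC hNC hW => ih C hC hNC hW)
      (fun hq2 {Ω} _ _ _ hreg => REG hq2 B hB hN (by omega) hreg)

/-- The statement for every odd `n ≥ 5`. -/
theorem main_odd' [Finite F] (hσ : Invol σ) {q : ℕ} (hF : Nat.card F = q ^ 2)
    (T5 : ∀ {V : Type u} [AddCommGroup V] [Module F V] [FiniteDimensional F V]
      (B : V →ₗ[F] V →ₛₗ[σ] F), IsHerm B → NondegOn B ⊤ → finrank F V = 5 →
      ∀ H : Subgroup ↥(SUg B), H ≠ ⊤ → Nodd q 5 ≤ H.index)
    (REG : q = 2 → ∀ {V : Type u} [AddCommGroup V] [Module F V] [FiniteDimensional F V]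
      (B : V →ₗ[F] V →ₛₗ[σ] F), IsHerm B → NondegOn B ⊤ → 7 ≤ finrank F V →
      ∀ {Ω : Type u} [MulAction ↥(SUg B) Ω] [Finite Ω] [Nonempty Ω],
      (∀ u : IsoPt B, ∀ ω ω' : Ω, ∃! g : ↥(SUg B), g ∈ Qs B u ∧ g • ω = ω') → False)
    {V : Type u} [AddCommGroup V] [Module F V] [FiniteDimensional F V]
    (B : V →ₗ[F] V →ₛₗ[σ] F) (hB : IsHerm B) (hN : NondegOn B ⊤) (n : ℕ) (hn : finrank F V = n)
    (hn5 : 5 ≤ n) (hodd : Odd n) :
    ∀ H : Subgroup ↥(SUg B), H ≠ ⊤ → Nodd q n ≤ H.index := by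
  obtain ⟨j, rfl⟩ := hodd
  obtain ⟨k, rfl⟩ : ∃ k, j = k + 2 := ⟨j - 2, by omega⟩
  have e : 2 * (k + 2) + 1 = 2 * k + 5 := by ring
  rw [e] at hn ⊢
  exact main_odd hσ hF T5 REG k B hB hN hn

end Cfsg.Agent.Lib.Helper68_S2151_Main
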