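import Mathlib
import Cfsg.Agent.Lib.Helper68_S2151_NUM

/-!
# S2151: `N_5 = q^7+q^5+q^2+1` (helper68)
-/

set_option autoImplicit false

namespace Cfsg.Agent.Lib.Helper68_S2151_NUM5

open Cfsg.Agent.Lib.Helper68_S2151_NUM

/-- `N_5 = (q^5+1)(q^2+1) = q^7+q^5+q^2+1`. -/
theorem Nodd_five (q : ℕ) (hq : 2 ≤ q) : Nodd q 5 = q ^ 7 + q ^ 5 + q ^ 2 + 1 := by
  have hA := Nodd_mul q 5 ⟨2, by norm_num⟩
  have e : (5 : ℕ) - 1 = 4 := by norm_num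
  rw [e] at hA
  have hpos : 0 < q ^ 2 - 1 := by
    have : 4 ≤ q ^ 2 := by nlinarith
    omega
  apply Nat.eq_of_mul_eq_mul_left hpos
  rw [hA]
  have h1 : 1 ≤ q ^ 2 := Nat.one_le_pow _ _ (by omega)
  have h4 : 1 ≤ q ^ 4 := Nat.one_le_pow _ _ (by omega)
  zify [h1, h4]
  ring

theorem Nodd_five' (q : ℕ) (hq : 2 ≤ q) : Nodd q 5 = (q ^ 5 + 1) * (q ^ 2 + 1) := by
  rw [Nodd_five q hq]; ring

end Cfsg.Agent.Lib.Helper68_S2151_NUM5
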