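import Mathlib
import Cfsg.Agent.Lib.Helper64_S2151_RCONF
import Cfsg.Agent.Lib.Helper10_S2151_RELT
import Cfsg.Agent.Lib.Helper27_S2151_RMAIN
import Cfsg.Agent.Lib.Helper68_S2151_Reg

/-!
# S2151: STEP 4 for `q = 2` (helper68): not all `Q_u` are regular (packages RCONF, RELT, RMAIN)
-/

set_option autoImplicit false
set_option linter.unusedSectionVars false

open Module Cfsg.Agent.Lib.Helper94_Symp Cfsg.Agent.Lib.Helper94_Herm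
  Cfsg.Agent.Lib.Helper13_SUGen Cfsg.Agent.Lib.Helper13_PSUSimple
  Cfsg.Agent.Lib.Helper27_UQDefs Cfsg.Agent.Lib.Helper94_UQPts

namespace Cfsg.Agent.Lib.Helper68_S2151_REG

variable {F V : Type*} [Field F] [AddCommGroup V] [Module F V] {σ : F →+* F}
variable {B : V →ₗ[F] V →ₛₗ[σ] F}

theorem REG [Finite F] [FiniteDimensional F V] (hσ : Invol σ) (hB : IsHerm B) (hN : NondegOn B ⊤)
    {q : ℕ} (hF : Nat.card F = q ^ 2) (hq2 : q = 2) (h7 : 7 ≤ finrank F V)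
    {Ω : Type*} [MulAction ↥(SUg B) Ω] [Finite Ω] [Nonempty Ω]
    (hreg : ∀ u : IsoPt B, ∀ ω ω' : Ω, ∃! g : ↥(SUg B), g ∈ Qs B u ∧ g • ω = ω') : False := by
  obtain ⟨e1, f1, e2, f2, e3, f3, x0, h1, h2, h3, he2, hf2, he3, hf3, he3', hf3', hx1, hx2, hx3,
    hx0⟩ := Cfsg.Agent.Lib.Helper64_S2151_RCONF.RCONF hσ hB hN h7
  have hF4 : Nat.card F = 4 := by rw [hF, hq2]; norm_num
  obtain ⟨lam, hlam, hlam1, hlam2, hlam3⟩ :=
    Cfsg.Agent.Lib.Helper68_S2151_Reg.exists_lam_four hF4 σ hσ.invol hσ.ne_id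
  obtain ⟨s, hs1, hs1', hs2, hs2', hsfix, hsr⟩ :=
    Cfsg.Agent.Lib.Helper10_S2151_RELT.RELT hσ hB h1 h2 he2 hf2 hlam 3 hlam3
  exact Cfsg.Agent.Lib.Helper27_S2151_RMAIN.RMAIN hσ hB hN hF h1 h2 h3 he2 hf2 he3 hf3 he3' hf3'
    hx1 hx2 hx3 hx0 hlam hlam1 hlam2 s hs1 hs1' hs2 hs2' hsfix 3 Nat.prime_three
    (by rw [hq2]; norm_num) hsr hreg

end Cfsg.Agent.Lib.Helper68_S2151_REG
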