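import Mathlib
import Cfsg.Agent.Lib.Helper58_S5982Defs
import Cfsg.Agent.Lib.Helper68_S5982_Lin

set_option autoImplicit false

/-!
Package D1 of S5982: `(X - w)^(n-1) (X - wλ)` is admissible and not scaled self-dual.
-/

namespace Cfsg.Agent.Lib.Helper68_S5982_D1

open Polynomial Cfsg.Agent.Lib.Helper58_S5982Defs Cfsg.Agent.Lib.Helper40_UExist
  Cfsg.Agent.Lib.Helper68_S5982_Lin

theorem D1 {F : Type*} [Field F] [Fintype F] {q₀ : ℕ} (hK : Fintype.card F = q₀ ^ 2) (σ : F →+* F)
    (hσq : ∀ x, σ x = x ^ q₀) (r : ℕ) (hr : r.Prime) (hr2 : r ≠ 2) (hrq : r ∣ q₀ - 1) (n : ℕ) (hn : 3 ≤ n)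
    (l w : F) (hl : l ^ r = 1) (hl1 : l ≠ 1) (hw : w ^ n * l = 1) :
    Adm n r ((X - C w) ^ (n - 1) * (X - C (w * l))) ∧ ¬ SSD σ ((X - C w) ^ (n - 1) * (X - C (w * l))) := by
  classical
  have hq₀ : 0 < q₀ := by
    rcases Nat.eq_zero_or_pos q₀ with h | h
    · rw [h] at hK
      have := Fintype.card_pos (α := F)
      omega
    · exact h
  have hodd : Odd r := hr.odd_of_ne_two hr2
  have hw0 : w ≠ 0 := by
    rintro rfl
    rw [zero_pow (by omega), zero_mul] at hw
    exact zero_ne_one hw
  have hl0 : l ≠ 0 := by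
    rintro rfl
    rw [mul_zero] at hw
    exact zero_ne_one hw
  set M : Multiset F := Multiset.replicate (n - 1) w + {w * l} with hM
  have hc : (X - C w) ^ (n - 1) * (X - C (w * l)) = (M.map (fun a => X - C a)).prod := by
    rw [hM, Multiset.map_add, Multiset.prod_add, Multiset.map_replicate, Multiset.prod_replicate,
      Multiset.map_singleton, Multiset.prod_singleton]
  have hwl : w ≠ w * l := by
    intro h
    apply hl1
    have h1 : w * 1 = w * l := by rw [mul_one]; exact h
    exact (mul_left_cancel₀ hw0 h1).symm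
  have hwM : w ∈ M := by
    rw [hM, Multiset.mem_add]; left
    rw [Multiset.mem_replicate]; exact ⟨by omega, rfl⟩
  have hwlM : w * l ∈ M := by
    rw [hM, Multiset.mem_add]; right
    exact Multiset.mem_singleton_self _
  have hmem : ∀ a ∈ M, a = w ∨ a = w * l := by
    intro a ha
    rw [hM, Multiset.mem_add] at ha
    rcases ha with ha | ha
    · left; exact Multiset.eq_of_mem_replicate ha
    · right; exact Multiset.mem_singleton.1 ha
  have h0 : ∀ a ∈ M, a ≠ 0 := by
    intro a ha
    rcases hmem a ha with rfl | rfl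
    · exact hw0
    · exact mul_ne_zero hw0 hl0
  rw [hc]
  constructor
  · apply adm_of_multiset n r M ?_ ?_ (w ^ r) (pow_ne_zero _ hw0) ?_ w (w * l) hwM hwlM hwl
    · rw [hM, Multiset.card_add, Multiset.card_replicate, Multiset.card_singleton]; omega
    · rw [hM, Multiset.prod_add, Multiset.prod_replicate, Multiset.prod_singleton, ← mul_assoc,
        ← pow_succ]
      have : n - 1 + 1 = n := by omega
      rw [this, hw]
    · intro a ha
      rcases hmem a ha with rfl | rfl
      · rfl
      · rw [mul_pow, hl, mul_one]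
  · intro hssd
    obtain ⟨μ, hμ, hinv⟩ := multiset_of_ssd σ M h0 hssd
    set b₁ := w * μ with hb₁
    set b₂ := w * l * μ with hb₂
    have hb12 : b₁ ≠ b₂ := by
      intro h
      exact hwl (mul_right_cancel₀ hμ h)
    have hM' : M.map (fun a => a * μ) = Multiset.replicate (n - 1) b₁ + {b₂} := by
      rw [hM, Multiset.map_add, Multiset.map_replicate, Multiset.map_singleton]
    rw [hM'] at hinv
    have hcount : ∀ x, (Multiset.replicate (n - 1) b₁ + {b₂}).count x =
        (if x = b₁ then n - 1 else 0) + (if x = b₂ then 1 else 0) := by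
      intro x
      rw [Multiset.count_add, Multiset.count_replicate, Multiset.count_singleton]
      congr 1
      by_cases h : x = b₁
      · rw [if_pos h, if_pos h.symm]
      · rw [if_neg h, if_neg (fun h' => h h'.symm)]
    have h1 := count_of_invariant σ _ hinv b₁
    rw [hcount, hcount, if_pos rfl, if_neg hb12] at h1
    have hg1 : (σ b₁)⁻¹ = b₁ := by
      by_contra hne
      rw [if_neg hne] at h1
      split_ifs at h1 <;> omega
    have h2 := count_of_invariant σ _ hinv b₂
    rw [hcount, hcount, if_pos rfl, if_neg hb12.symm] at h2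
    have hg2 : (σ b₂)⁻¹ = b₂ := by
      by_contra hne
      rw [if_neg hne] at h2
      split_ifs at h2 <;> omega
    have hb10 : b₁ ≠ 0 := mul_ne_zero hw0 hμ
    have hσb1 : σ b₁ ≠ 0 := (map_ne_zero σ).2 hb10
    have e1 : b₁ * σ b₁ = 1 := by
      nth_rewrite 1 [← hg1]; exact inv_mul_cancel₀ hσb1
    have hb20 : b₂ ≠ 0 := mul_ne_zero (mul_ne_zero hw0 hl0) hμ
    have hσb2 : σ b₂ ≠ 0 := (map_ne_zero σ).2 hb20
    have e2 : b₂ * σ b₂ = 1 := by
      nth_rewrite 1 [← hg2]; exact inv_mul_cancel₀ hσb2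
    have hb21 : b₂ = b₁ * l := by rw [hb₁, hb₂]; ring
    have hσl : σ l = l := sigma_fix σ hσq hq₀ r hrq l hl
    rw [hb21, map_mul, hσl] at e2
    have e3 : l * l = 1 := by
      have : b₁ * l * (σ b₁ * l) = (b₁ * σ b₁) * (l * l) := by ring
      rw [this, e1, one_mul] at e2
      exact e2
    exact hl1 (eq_one_of_sq r hodd l hl e3)

end Cfsg.Agent.Lib.Helper68_S5982_D1
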