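import Mathlib
import Cfsg.Agent.Lib.Helper58_S5982Defs
import Cfsg.Agent.Lib.Helper68_S5982_Lin

set_option autoImplicit false

/-!
Package D3 of S5982: `(X - 1)^(n-3) (X - λ)² (X - λ⁻²)` is admissible and not scaled self-dual.
-/

namespace Cfsg.Agent.Lib.Helper68_S5982_D3

open Polynomial Cfsg.Agent.Lib.Helper58_S5982Defs Cfsg.Agent.Lib.Helper40_UExist
  Cfsg.Agent.Lib.Helper68_S5982_Lin

theorem D3 {F : Type*} [Field F] [Fintype F] {q₀ : ℕ} (hK : Fintype.card F = q₀ ^ 2) (σ : F →+* F)
    (hσq : ∀ x, σ x = x ^ q₀) (r : ℕ) (hr : r.Prime) (hr2 : r ≠ 2) (hrq : r ∣ q₀ - 1) (n : ℕ) (hn : 6 ≤ n)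
    (hgap : ¬ (n = 6 ∧ r = 3)) (l : F) (hl : l ^ r = 1) (hl1 : l ≠ 1) :
    Adm n r ((X - 1) ^ (n - 3) * (X - C l) ^ 2 * (X - C (l⁻¹ ^ 2))) ∧
      ¬ SSD σ ((X - 1) ^ (n - 3) * (X - C l) ^ 2 * (X - C (l⁻¹ ^ 2))) := by
  classical
  have hq₀ : 0 < q₀ := by
    rcases Nat.eq_zero_or_pos q₀ with h | h
    · rw [h] at hK
      have := Fintype.card_pos (α := F)
      omega
    · exact h
  have hodd : Odd r := hr.odd_of_ne_two hr2
  have : Fact r.Prime := ⟨hr⟩
  have hl0 : l ≠ 0 := by
    rintro rfl
    rw [zero_pow hr.ne_zero] at hl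
    exact zero_ne_one hl
  have hll : l * l ≠ 1 := fun h => hl1 (eq_one_of_sq r hodd l hl h)
  have hli1 : l⁻¹ ^ 2 ≠ 1 := by
    intro h
    apply hll
    rw [inv_pow, inv_eq_one, sq] at h
    exact h
  have hli0 : l⁻¹ ^ 2 ≠ 0 := pow_ne_zero _ (inv_ne_zero hl0)
  set M : Multiset F := Multiset.replicate (n - 3) 1 + Multiset.replicate 2 l + {l⁻¹ ^ 2} with hM
  have hc : (X - 1) ^ (n - 3) * (X - C l) ^ 2 * (X - C (l⁻¹ ^ 2)) =
      (M.map (fun a => X - C a)).prod := by
    rw [hM, Multiset.map_add, Multiset.prod_add, Multiset.map_add, Multiset.prod_add,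
      Multiset.map_replicate, Multiset.prod_replicate, Multiset.map_replicate,
      Multiset.prod_replicate, Multiset.map_singleton, Multiset.prod_singleton, C_1]
  have h1M : (1 : F) ∈ M := by
    rw [hM, Multiset.mem_add, Multiset.mem_add]; left; left
    rw [Multiset.mem_replicate]; exact ⟨by omega, rfl⟩
  have hlM : l ∈ M := by
    rw [hM, Multiset.mem_add, Multiset.mem_add]; left; right
    rw [Multiset.mem_replicate]; exact ⟨by omega, rfl⟩
  have hmem : ∀ a ∈ M, a = 1 ∨ a = l ∨ a = l⁻¹ ^ 2 := by
    intro a ha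
    rw [hM, Multiset.mem_add, Multiset.mem_add] at ha
    rcases ha with (ha | ha) | ha
    · left; exact Multiset.eq_of_mem_replicate ha
    · right; left; exact Multiset.eq_of_mem_replicate ha
    · right; right; exact Multiset.mem_singleton.1 ha
  have h0 : ∀ a ∈ M, a ≠ 0 := by
    intro a ha
    rcases hmem a ha with rfl | rfl | rfl
    · exact one_ne_zero
    · exact hl0
    · exact hli0
  rw [hc]
  constructor
  · apply adm_of_multiset n r M ?_ ?_ 1 one_ne_zero ?_ 1 l h1M hlM (Ne.symm hl1)
    · rw [hM, Multiset.card_add, Multiset.card_add, Multiset.card_replicate,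
        Multiset.card_replicate, Multiset.card_singleton]; omega
    · rw [hM, Multiset.prod_add, Multiset.prod_add, Multiset.prod_replicate,
        Multiset.prod_replicate, Multiset.prod_singleton, one_pow, one_mul, inv_pow]
      exact mul_inv_cancel₀ (pow_ne_zero _ hl0)
    · intro a ha
      rcases hmem a ha with rfl | rfl | rfl
      · exact one_pow _
      · exact hl
      · rw [← pow_mul, mul_comm, pow_mul, inv_pow, hl, inv_one, one_pow]
  · intro hssd
    obtain ⟨μ, hμ, hinv⟩ := multiset_of_ssd σ M h0 hssd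
    set b₁ := μ with hb₁
    set b₂ := l * μ with hb₂
    set b₃ := l⁻¹ ^ 2 * μ with hb₃
    have hb12 : b₁ ≠ b₂ := by
      intro h
      apply hl1
      have h1 : (1 : F) * μ = l * μ := by rw [one_mul]; exact h
      exact (mul_right_cancel₀ hμ h1).symm
    have hb13 : b₁ ≠ b₃ := by
      intro h
      apply hli1
      have h1 : (1 : F) * μ = l⁻¹ ^ 2 * μ := by rw [one_mul]; exact h
      exact (mul_right_cancel₀ hμ h1).symm
    have hM' : M.map (fun a => a * μ) =
        Multiset.replicate (n - 3) b₁ + Multiset.replicate 2 b₂ + {b₃} := by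
      rw [hM, Multiset.map_add, Multiset.map_add, Multiset.map_replicate, Multiset.map_replicate,
        Multiset.map_singleton, one_mul]
    rw [hM'] at hinv
    have hcount : ∀ x, (Multiset.replicate (n - 3) b₁ + Multiset.replicate 2 b₂ + {b₃}).count x =
        (if x = b₁ then n - 3 else 0) + (if x = b₂ then 2 else 0) + (if x = b₃ then 1 else 0) := by
      intro x
      rw [Multiset.count_add, Multiset.count_add, Multiset.count_replicate,
        Multiset.count_replicate, Multiset.count_singleton]
      congr 2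
      · by_cases h : x = b₁
        · rw [if_pos h, if_pos h.symm]
        · rw [if_neg h, if_neg (fun h' => h h'.symm)]
      · by_cases h : x = b₂
        · rw [if_pos h, if_pos h.symm]
        · rw [if_neg h, if_neg (fun h' => h h'.symm)]
    have h1 := count_of_invariant σ _ hinv b₁
    have h2 := count_of_invariant σ _ hinv b₂
    rw [hcount, hcount, if_pos rfl, if_neg hb12, if_neg hb13] at h1
    rw [hcount, hcount, if_pos rfl, if_neg hb12.symm] at h2
    have hfix : (σ b₁)⁻¹ = b₁ ∧ (σ b₂)⁻¹ = b₂ := by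
      by_cases h23 : b₂ = b₃
      · -- then `l ^ 3 = 1`, so `r = 3` and `n ≠ 6`
        have hl3 : l ^ 3 = 1 := by
          have h3 : l = l⁻¹ ^ 2 := mul_right_cancel₀ hμ h23
          have h4 : l ^ 3 = l * l ^ 2 := by ring
          rw [h4]
          nth_rewrite 1 [h3]
          rw [inv_pow]
          exact inv_mul_cancel₀ (pow_ne_zero _ hl0)
        have hord : orderOf l = r := orderOf_eq_prime hl hl1
        have hr3 : r = 3 := by
          have h5 : r ∣ 3 := by rw [← hord]; exact orderOf_dvd_of_pow_eq_one hl3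
          exact (Nat.prime_dvd_prime_iff_eq hr Nat.prime_three).1 h5
        have hn6 : n ≠ 6 := fun h => hgap ⟨h, hr3⟩
        rw [← h23] at h1 h2
        rw [if_pos rfl] at h2
        constructor
        · by_contra hne
          rw [if_neg hne] at h1
          split_ifs at h1 <;> omega
        · by_contra hne
          rw [if_neg hne] at h2
          split_ifs at h2 <;> omega
      · rw [if_neg h23] at h2
        constructor
        · by_contra hne
          rw [if_neg hne] at h1
          split_ifs at h1 with ha hb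
          · exact h23 (ha.symm.trans hb)
          · omega
          · omega
          · omega
        · by_contra hne
          rw [if_neg hne] at h2
          split_ifs at h2 with ha hb
          · exact hb13 (ha.symm.trans hb)
          · omega
          · omega
          · omega
    obtain ⟨hg1, hg2⟩ := hfix
    have hb10 : b₁ ≠ 0 := hμ
    have hσb1 : σ b₁ ≠ 0 := (map_ne_zero σ).2 hb10
    have e1 : b₁ * σ b₁ = 1 := by
      nth_rewrite 1 [← hg1]; exact inv_mul_cancel₀ hσb1
    have hb20 : b₂ ≠ 0 := mul_ne_zero hl0 hμ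
    have hσb2 : σ b₂ ≠ 0 := (map_ne_zero σ).2 hb20
    have e2 : b₂ * σ b₂ = 1 := by
      nth_rewrite 1 [← hg2]; exact inv_mul_cancel₀ hσb2
    have hb21 : b₂ = b₁ * l := by rw [hb₁, hb₂]; ring
    have hσl : σ l = l := sigma_fix σ hσq hq₀ r hrq l hl
    rw [hb21, map_mul, hσl] at e2
    have e3 : l * l = 1 := by
      have : b₁ * l * (σ b₁ * l) = (b₁ * σ b₁) * (l * l) := by ring
      rw [this, e1, one_mul] at e2
      exact e2
    exact hll e3

end Cfsg.Agent.Lib.Helper68_S5982_D3
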