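import Mathlib
import Cfsg.Agent.Lib.Helper58_S5982Defs
import Cfsg.Agent.Lib.Helper68_S5982_Lin
import Cfsg.Agent.Lib.Helper40_UCount
import Cfsg.Agent.Lib.Helper40_PrimeOrderClasses
import Cfsg.Agent.Lib.Helper99_PrimeOrderSL
import Cfsg.Agent.Lib.Helper94_HermBridge

set_option autoImplicit false

/-!
Package NEGC3 of S5982: for `ord_r(q₀) ≠ 1`, `≢ 2 (mod 4)`, the polynomial `g (X - 1)^(n - i)` with `g` an
irreducible factor of `X ^ r - 1` is admissible and not scaled self-dual.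
-/

namespace Cfsg.Agent.Lib.Helper68_S5982_NEGC3

open Polynomial Cfsg.Agent.Lib.Helper58_S5982Defs Cfsg.Agent.Lib.Helper40_UExist
  Cfsg.Agent.Lib.Helper68_S5982_Lin

universe v

section General

variable {F : Type v} [Field F] (σ : F →+* F)

/-- `udual` of a scaled polynomial -/
theorem udual_scaleRoots (f : F[X]) (h0 : f.coeff 0 ≠ 0) (μ : F) (hμ : μ ≠ 0) :
    udual σ (f.scaleRoots μ) = (udual σ f).scaleRoots (σ μ)⁻¹ := by
  have hd : (f.scaleRoots μ).natDegree = f.natDegree := natDegree_scaleRoots f μ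
  have hσμ : σ μ ≠ 0 := (map_ne_zero σ).2 hμ
  have h0' : (f.scaleRoots μ).coeff 0 ≠ 0 := by
    rw [coeff_scaleRoots]; exact mul_ne_zero h0 (pow_ne_zero _ hμ)
  ext k
  by_cases hk : k ≤ f.natDegree
  · rw [Cfsg.Agent.Lib.Helper40_UCount.udual_coeff σ _ k (hd ▸ hk), coeff_scaleRoots,
      coeff_scaleRoots, coeff_scaleRoots, Cfsg.Agent.Lib.Helper40_UCount.udual_coeff σ f k hk, hd,
      udual_natDegree σ f h0]
    obtain ⟨e, he⟩ : ∃ e, f.natDegree = e + k := ⟨f.natDegree - k, by omega⟩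
    have h1 : f.natDegree - (f.natDegree - k) = k := by omega
    have h2 : f.natDegree - k = e := by omega
    rw [h1, h2, Nat.sub_zero, he, map_mul, map_mul, map_pow, map_pow, pow_add, inv_pow]
    have hf0 : σ (f.coeff 0) ≠ 0 := (map_ne_zero σ).2 h0
    field_simp
  · have hk' : f.natDegree < k := by omega
    rw [coeff_eq_zero_of_natDegree_lt, coeff_eq_zero_of_natDegree_lt]
    · rw [natDegree_scaleRoots, udual_natDegree σ f h0]; exact hk'
    · rw [udual_natDegree σ _ h0', hd]; exact hk'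

end General

theorem NEGC3 {F : Type*} [Field F] [Fintype F] {p : ℕ} [Fact p.Prime] [CharP F p] {q₀ : ℕ}
    (hK : Fintype.card F = q₀ ^ 2) (σ : F →+* F) (hσq : ∀ x, σ x = x ^ q₀) (r : ℕ) (hr : r.Prime) (hr2 : r ≠ 2)
    (hrp : r ≠ p) (h1 : orderOf ((q₀ : ℕ) : ZMod r) ≠ 1) (h4 : orderOf ((q₀ : ℕ) : ZMod r) % 4 ≠ 2) (n : ℕ)
    (hin : orderOf ((q₀ ^ 2 : ℕ) : ZMod r) ≤ n) : ∃ c : F[X], Adm n r c ∧ ¬ SSD σ c := by
  classical
  have hp : p.Prime := Fact.out
  have : Fact r.Prime := ⟨hr⟩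
  have hq₀ : 0 < q₀ := by
    rcases Nat.eq_zero_or_pos q₀ with h | h
    · rw [h] at hK
      have := Fintype.card_pos (α := F)
      omega
    · exact h
  -- `σ` is an involution different from the identity
  obtain ⟨σ', hσ', hI⟩ := Cfsg.Agent.Lib.Helper94_HermBridge.exists_frob hK
  have hσσ' : σ = σ' := RingHom.ext (fun x => by rw [hσq, hσ'])
  have hσne : ∃ θ, σ θ ≠ θ := by rw [hσσ']; exact hI.ne_id
  -- the order `i` of `q₀ ^ 2`
  set i := orderOf ((q₀ ^ 2 : ℕ) : ZMod r) with hi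
  have hicard : orderOf ((Fintype.card F : ℕ) : ZMod r) = i := by rw [hK]
  obtain ⟨hipos, W, hWcard, hW1, -⟩ :=
    Cfsg.Agent.Lib.Helper40_PrimeOrderClasses.exists_cyclotomic_factors (F := F) p r hr hrp
  rw [hicard] at hWcard hW1 hipos
  -- `i ≠ 1`
  have hi1 : i ≠ 1 := by
    intro h
    have h2 : ((q₀ : ℕ) : ZMod r) ^ 2 = 1 := by
      have := orderOf_eq_one_iff.1 h
      rwa [Nat.cast_pow] at this
    have h3 : orderOf ((q₀ : ℕ) : ZMod r) ∣ 2 := orderOf_dvd_of_pow_eq_one h2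
    have h5 := Nat.le_of_dvd (by norm_num) h3
    have h6 : orderOf ((q₀ : ℕ) : ZMod r) ≠ 0 := by
      intro h0; rw [h0] at h3; omega
    interval_cases hh : orderOf ((q₀ : ℕ) : ZMod r) <;> omega
  have hi2 : 2 ≤ i := by omega
  have hi2' : 2 ≤ orderOf ((Fintype.card F : ℕ) : ZMod r) := by rw [hicard]; exact hi2
  have hrq : ¬ r ∣ Fintype.card F - 1 :=
    Cfsg.Agent.Lib.Helper99_PrimeOrderSL.not_dvd_card_sub_one hi2'
  -- `r ∤ q₀ - 1`
  have hrq₀ : ¬ r ∣ q₀ - 1 := by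
    intro h
    apply h1
    rw [orderOf_eq_one_iff]
    have h2 := (ZMod.natCast_eq_zero_iff _ _).2 h
    rw [Nat.cast_sub hq₀, Nat.cast_one, sub_eq_zero] at h2
    exact h2
  have hq0 : ((Fintype.card F : ℕ) : ZMod r) ≠ 0 := by
    rw [Ne, ZMod.natCast_eq_zero_iff]
    intro h
    obtain ⟨e, -, he⟩ := FiniteField.card F p
    rw [he] at h
    exact hrp ((Nat.prime_dvd_prime_iff_eq hr hp).1 (hr.dvd_of_dvd_pow h))
  have hidvd : i ∣ r - 1 := by
    rw [← hicard]; exact ZMod.orderOf_dvd_card_sub_one hq0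
  have hWne : W.Nonempty := by
    rw [← Finset.card_pos, hWcard]
    exact Nat.div_pos (Nat.le_of_dvd (by have := hr.two_le; omega) hidvd) hipos
  obtain ⟨g, hgW⟩ := hWne
  obtain ⟨hgm, hgi, hg1, hgd, hgdeg⟩ := hW1 g hgW
  have hX1 : ((X : F[X]) - 1) = X - C 1 := by rw [map_one]
  have hX1m : ((X : F[X]) - 1).Monic := by rw [hX1]; exact monic_X_sub_C 1
  have hX1i : Irreducible ((X : F[X]) - 1) := by rw [hX1]; exact irreducible_X_sub_C 1
  set c : F[X] := g * (X - 1) ^ (n - i) with hc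
  have hcm : c.Monic := hgm.mul (hX1m.pow _)
  have hcdeg : c.natDegree = n := by
    rw [hc, hgm.natDegree_mul (hX1m.pow _), hX1m.natDegree_pow, hgdeg, hX1, natDegree_X_sub_C,
      mul_one]
    omega
  have hgc : g ∣ c := dvd_mul_right _ _
  have hg0 : g.coeff 0 ≠ 0 := by
    intro h
    have hXg : (X : F[X]) ∣ g := X_dvd_iff.2 h
    have hXr : (X : F[X]) ∣ X ^ r - 1 := hXg.trans hgd
    have hXr' : (X : F[X]) ∣ 1 := by
      have h2 : (X : F[X]) ∣ X ^ r := dvd_pow_self _ hr.ne_zero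
      have h3 := dvd_sub h2 hXr
      rwa [sub_sub_cancel] at h3
    exact not_isUnit_X (isUnit_of_dvd_one hXr')
  have hfac : ∀ f : F[X], Irreducible f → f ∣ c → f ∣ X ^ r - 1 := by
    intro f hf hfc
    rcases hf.prime.dvd_or_dvd hfc with h | h
    · exact h.trans hgd
    · exact (hf.prime.dvd_of_dvd_pow h).trans
        (Cfsg.Agent.Lib.Helper40_PrimeOrderClasses.X_sub_one_dvd r hr)
  refine ⟨c, ⟨hcm, hcdeg, ?_, ⟨1, one_ne_zero, ?_⟩, ?_⟩, ?_⟩
  · -- the constant coefficient, via a matrix of order `r`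
    obtain ⟨A, hAc, -, hAkill⟩ :=
      Cfsg.Agent.Lib.Helper40_PrimeOrderClasses.exists_matrix_of_monic' n c hcm hcdeg
    have hAr : A ^ r = 1 := by
      have h2 : aeval A ((X : F[X]) ^ r - 1) = 0 := hAkill _ hfac
      rw [map_sub, map_pow, aeval_X, map_one] at h2
      exact sub_eq_zero.1 h2
    have hdet : A.det = 1 := by
      apply Cfsg.Agent.Lib.Helper99_PrimeOrderSL.eq_one_of_pow_eq_one hr hrq
      rw [← Matrix.det_pow, hAr, Matrix.det_one]
    have h3 := Matrix.det_eq_sign_charpoly_coeff A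
    rw [hdet, hAc, Fintype.card_fin] at h3
    have h5 : ((-1 : F) ^ n) * ((-1) ^ n * c.coeff 0) = c.coeff 0 := by
      rw [← mul_assoc, ← mul_pow]; simp
    rw [← h5, ← h3, mul_one]
  · intro f hf hfc
    rw [map_one]
    exact hfac f hf hfc
  · intro a ha
    have h2 : g ∣ (X - C a) ^ n := by rw [← ha]; exact hgc
    have h3 := hgi.prime.dvd_of_dvd_pow h2
    have h5 := natDegree_le_of_dvd h3 (X_sub_C_ne_zero a)
    rw [natDegree_X_sub_C, hgdeg] at h5
    omega
  · -- not scaled self-dual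
    rintro ⟨μ, hμ, hd⟩
    have hσμ : σ μ ≠ 0 := (map_ne_zero σ).2 hμ
    have hc0 : c.coeff 0 ≠ 0 := by
      rw [hc, mul_coeff_zero]
      refine mul_ne_zero hg0 ?_
      rw [coeff_zero_eq_eval_zero, eval_pow, eval_sub, eval_X, eval_one]
      exact pow_ne_zero _ (by simp)
    rw [udual_scaleRoots σ c hc0 μ hμ] at hd
    set ν := μ * σ μ with hν
    have hd' : udual σ c = c.scaleRoots ν := by
      have h2 := congrArg (fun f : F[X] => f.scaleRoots (σ μ)) hd
      simp only [← scaleRoots_mul] at h2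
      rw [inv_mul_cancel₀ hσμ, scaleRoots_one] at h2
      exact h2
    have hudc : udual σ c = udual σ g * (X - 1) ^ (n - i) := by
      rw [hc, udual_mul, Cfsg.Agent.Lib.Helper40_UPrimeOrder.udual_pow,
        Cfsg.Agent.Lib.Helper40_UPrimeOrder.udual_X_sub_one]
    have hudg : udual σ g ∣ X ^ r - 1 := by
      have h2 := udual_dvd σ hgd
      rwa [Cfsg.Agent.Lib.Helper40_UPrimeOrder.udual_X_pow_sub_one σ r hr.pos] at h2
    -- `ν ^ r = 1`
    have hgν : g.scaleRoots ν ∣ X ^ r - C (ν ^ r) := by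
      have h2 := scaleRoots_dvd g (X ^ r - 1) (r := ν) hgd
      have h3 := Cfsg.Agent.Lib.Helper40_ScalePoly.scaleRoots_X_pow_sub_C (K := F) r hr.pos 1 ν
      rw [map_one, one_mul] at h3
      rwa [h3] at h2
    have hgνdeg : (g.scaleRoots ν).natDegree = i := by rw [natDegree_scaleRoots, hgdeg]
    have hgνne : ¬ IsUnit (g.scaleRoots ν) := by
      intro hu
      have := natDegree_eq_zero_of_isUnit hu
      omega
    have hgν0 : g.scaleRoots ν ≠ 0 := scaleRoots_ne_zero hgm.ne_zero ν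
    obtain ⟨f, hfi, hfg⟩ := WfDvdMonoid.exists_irreducible_factor hgνne hgν0
    have hfc : f ∣ udual σ c := by
      rw [hd', hc, mul_scaleRoots_of_noZeroDivisors]
      exact hfg.trans (dvd_mul_right _ _)
    have hfX : f ∣ X ^ r - 1 := by
      rw [hudc] at hfc
      rcases hfi.prime.dvd_or_dvd hfc with h | h
      · exact h.trans hudg
      · exact (hfi.prime.dvd_of_dvd_pow h).trans
          (Cfsg.Agent.Lib.Helper40_PrimeOrderClasses.X_sub_one_dvd r hr)
    have hνr : ν ^ r = 1 := by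
      have h2 : f ∣ (X ^ r - 1) - (X ^ r - C (ν ^ r)) := dvd_sub hfX (hfg.trans hgν)
      have h3 : ((X : F[X]) ^ r - 1) - (X ^ r - C (ν ^ r)) = C (ν ^ r - 1) := by
        rw [map_sub, map_one]; ring
      rw [h3] at h2
      by_contra hne
      have h5 : IsUnit (C (ν ^ r - 1) : F[X]) := isUnit_C.2 (sub_ne_zero.2 hne).isUnit
      exact hfi.not_isUnit (isUnit_of_dvd_unit h2 h5)
    -- `ν ^ (q₀ - 1) = 1`
    have hνq : ν ^ (q₀ - 1) = 1 := by
      rw [hν, hσq]
      have h2 : μ * μ ^ q₀ = μ ^ (q₀ + 1) := by rw [pow_succ, mul_comm]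
      rw [h2, ← pow_mul]
      have h3 : (q₀ + 1) * (q₀ - 1) = Fintype.card F - 1 := by
        rw [hK]
        obtain ⟨m, rfl⟩ : ∃ m, q₀ = m + 1 := ⟨q₀ - 1, by omega⟩
        have : (m + 1) ^ 2 = (m + 1 + 1) * m + 1 := by ring
        rw [this]; simp
      rw [h3]
      exact FiniteField.pow_card_sub_one_eq_one μ hμ
    have hν1 : ν = 1 := by
      have h2 := pow_gcd_eq_one.2 ⟨hνr, hνq⟩
      rwa [(Nat.Prime.coprime_iff_not_dvd hr).2 hrq₀, pow_one] at h2
    -- `udual g = g`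
    rw [hν1, scaleRoots_one, hudc] at hd'
    have hne0 : ((X : F[X]) - 1) ^ (n - i) ≠ 0 := pow_ne_zero _ hX1m.ne_zero
    have hgg : udual σ g = g := by
      rw [hc] at hd'
      exact mul_right_cancel₀ hne0 hd'
    have h7 := Cfsg.Agent.Lib.Helper40_UPrimeOrder.mod4_of_udual_eq σ p hK hσq hσne r _ hr hr2 rfl
      g hgm hgi hg1 hgd hgg
    exact h4 h7

end Cfsg.Agent.Lib.Helper68_S5982_NEGC3
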