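import Mathlib
import Cfsg.Agent.Lib.Helper99_SUNDDefs
import Cfsg.Agent.Lib.Helper99_SUTIDefs
import Cfsg.Agent.Lib.Helper40_UHyperbolic
import Cfsg.Agent.Lib.Helper99_SpAtoms
import Cfsg.Agent.Lib.Helper99_SpTI
import Cfsg.Agent.Lib.Helper99_InvSub
import Cfsg.Agent.Lib.Helper99_PrimeOrderSL

set_option autoImplicit false

/-!
Package TS3 of S5953: an invariant totally isotropic subspace of an isometry of odd prime order
`r ≠ p` of a nondegenerate hermitian space over the field with `q²` elements has dimension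
`e' + ord_r(q²) * s'` with `2 e' ≤ dim Fix`.
-/

namespace Cfsg.Agent.Lib.Helper68_SUTI_TS3

open Polynomial Module
open Cfsg.Agent.Lib.Helper40_SpBasic Cfsg.Agent.Lib.Helper40_UBasic Cfsg.Agent.Lib.Helper99_SUNDDefs
  Cfsg.Agent.Lib.Helper99_SUTIDefs

universe u

/-- `ord_r(q²)` in terms of `ord_r(q)`. -/
theorem orderOf_sq_eq_uBlockDim (q r : ℕ) :
    orderOf (((q ^ 2 : ℕ) : ℕ) : ZMod r) = uBlockDim q r := by
  rw [Nat.cast_pow, orderOf_pow' _ two_ne_zero, uBlockDim_def]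
  split_ifs with he
  · rw [Nat.gcd_eq_right (even_iff_two_dvd.1 he)]
  · have h2 : ¬ 2 ∣ orderOf ((q : ℕ) : ZMod r) := fun h => he (even_iff_two_dvd.2 h)
    have hg : Nat.gcd (orderOf ((q : ℕ) : ZMod r)) 2 = 1 :=
      (Nat.Coprime.symm ((Nat.Prime.coprime_iff_not_dvd Nat.prime_two).2 h2))
    rw [hg, Nat.div_one]

/-- TS3: an invariant totally isotropic subspace = (at most half of the fixed space) + blocks of
dimension `ord_r(q²)`. -/
theorem TS3 {K : Type u} [Field K] [Fintype K] {p : ℕ} [Fact p.Prime] [CharP K p] {q : ℕ}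
    (hK : Fintype.card K = q ^ 2) {σ : K →+* K} (hσq : ∀ x, σ x = x ^ q)
    {V : Type u} [AddCommGroup V] [Module K V] [FiniteDimensional K V]
    {B : V →ₗ[K] V →ₛₗ[σ] K} {T : Module.End K V} {r : ℕ}
    (h : UData B T r) (hB : UND B) (hr : r.Prime) (hr2 : r ≠ 2) (hrp : r ≠ p)
    {W : Submodule K V} (hW : Inv T W) (hWti : UIsoOn B W) :
    ∃ e' s' : ℕ, finrank K W = e' + uBlockDim q r * s' ∧
      2 * e' ≤ finrank K (Module.End.eigenspace T 1) := by
  classical
  have hrF : ((r : ℕ) : K) ≠ 0 := Cfsg.Agent.Lib.Helper99_PrimeOrderSL.natCast_ne_zero hr hrp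
  have hss : T.IsSemisimple :=
    Cfsg.Agent.Lib.Helper99_PrimeOrderSL.isSemisimple_of_pow_eq_one T r hrF h.pow
  have H := Cfsg.Agent.Lib.Helper99_PrimeOrderSL.hasBlocks_of_pow_eq_one (p := p) T hr hrp h.pow
  have hord : orderOf ((Fintype.card K : ℕ) : ZMod r) = uBlockDim q r := by
    rw [hK]; exact orderOf_sq_eq_uBlockDim q r
  have hpos : 1 ≤ uBlockDim q r := by
    rw [← hord]
    exact Cfsg.Agent.Lib.Helper99_SpTI.ord_pos (F := K) (p := p) hr hrp
  rw [hord] at H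
  obtain ⟨t, ht⟩ := Cfsg.Agent.Lib.Helper99_InvSub.dvd_finrank_sub hss hpos H
    (Cfsg.Agent.Lib.Helper99_SpTI.inv_iff_mem.1 Cfsg.Agent.Lib.Helper99_SpTI.inv_eigenspace)
    (Cfsg.Agent.Lib.Helper99_SpTI.inv_iff_mem.1 hW)
  refine ⟨_, t, ht, ?_⟩
  -- `W ⊓ Fix` is totally isotropic, orthogonal to `range (T - 1)`
  set Fx := Module.End.eigenspace T 1 with hFx
  set R := LinearMap.range (T - 1) with hR
  have hsup : Fx ⊔ R = ⊤ := Cfsg.Agent.Lib.Helper99_SpAtoms.fix_sup_range hr.pos hrF h.pow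
  have hdisj : Disjoint Fx R := Cfsg.Agent.Lib.Helper99_SpAtoms.disjoint_fix_range hrF h.pow
  have hfixmem : ∀ x ∈ Fx, T x = x := by
    intro x hx
    rwa [hFx, Module.End.mem_eigenspace_iff, one_smul] at hx
  have horthRF : ∀ u ∈ R, ∀ v ∈ Fx, B u v = 0 := by
    rintro _ ⟨x, rfl⟩ v hv
    rw [LinearMap.sub_apply, Module.End.one_apply, map_sub, LinearMap.sub_apply]
    nth_rewrite 1 [← hfixmem v hv]
    rw [h.iso, sub_self]
  have hdim : finrank K Fx + finrank K R = finrank K V :=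
    Submodule.finrank_add_eq_of_isCompl ⟨hdisj, codisjoint_iff.2 hsup⟩
  set W' := W ⊓ Fx with hW'
  have hle : W' ⊔ R ≤ orth B W' := by
    apply sup_le
    · intro y hy
      rw [mem_orth]
      intro x hx
      exact hWti x hx.1 y hy.1
    · intro y hy
      rw [mem_orth]
      intro x hx
      exact h.eq_zero (horthRF y hy x hx.2)
  have hdisj' : Disjoint W' R := hdisj.mono_left inf_le_right
  have h1 : finrank K ↥(W' ⊔ R) = finrank K W' + finrank K R :=
    Cfsg.Agent.Lib.Helper99_InvSub.finrank_sup_of_disjoint hdisj'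
  have h2 := Submodule.finrank_mono hle
  have h3 := Cfsg.Agent.Lib.Helper40_UHyperbolic.finrank_orth h hB W'
  omega

end Cfsg.Agent.Lib.Helper68_SUTI_TS3
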