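import Mathlib
import Cfsg.Prelude.Def_GeometricClasses
import Cfsg.Agent.S0242
import Cfsg.Agent.Lib.Helper5_SpOrder
import Cfsg.Agent.Lib.Helper99_SpBridge
import Cfsg.Agent.Lib.Helper13_Symp

set_option autoImplicit false

/-!
The index in `SL_n(F)` of the similarity group of a nondegenerate alternating form:
a prime dividing it divides `q` or some `q ^ (2 i + 1) - 1` with `1 ≤ i < n / 2` (helper68).
-/

namespace Cfsg.Agent.Lib.Helper68_SpIdx

open Matrix

variable {F : Type*} [Field F]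

/-- the bilinear form attached to a symplectic form given as a function -/
noncomputable def formB {n : ℕ} (f : (Fin n → F) → (Fin n → F) → F)
    (hf : Cfsg.Geo.IsSymplecticForm f) : LinearMap.BilinForm F (Fin n → F) :=
  LinearMap.mk₂ F f hf.bilinear.add_left (fun c x v => by rw [hf.bilinear.smul_left]; rfl)
    hf.bilinear.add_right (fun c x v => by rw [hf.bilinear.smul_right]; rfl)

theorem formB_apply {n : ℕ} (f : (Fin n → F) → (Fin n → F) → F)
    (hf : Cfsg.Geo.IsSymplecticForm f) (u v : Fin n → F) : formB f hf u v = f u v := rfl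

theorem formB_isAlt {n : ℕ} (f : (Fin n → F) → (Fin n → F) → F)
    (hf : Cfsg.Geo.IsSymplecticForm f) : (formB f hf).IsAlt := fun v => hf.alternating v

theorem formB_nondegenerate {n : ℕ} (f : (Fin n → F) → (Fin n → F) → F)
    (hf : Cfsg.Geo.IsSymplecticForm f) : (formB f hf).Nondegenerate := by
  constructor
  · intro x hx
    by_contra hx0
    obtain ⟨y, hy⟩ := (hf.nondegenerate x hx0).2
    exact hy (hx y)
  · intro y hy
    by_contra hy0
    obtain ⟨x, hx⟩ := (hf.nondegenerate y hy0).1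
    exact hx (hy x)

/-- a symplectic form on `F ^ (2 m)` is the standard one after a change of coordinates -/
theorem exists_std {n m : ℕ} (hnm : n = 2 * m) (f : (Fin n → F) → (Fin n → F) → F)
    (hf : Cfsg.Geo.IsSymplecticForm f) :
    ∃ (P : Matrix (Fin m ⊕ Fin m) (Fin n) F) (P' : Matrix (Fin n) (Fin m ⊕ Fin m) F),
      P * P' = 1 ∧ P' * P = 1 ∧ ∀ u v, Cfsg.sympForm m F (P *ᵥ u) (P *ᵥ v) = f u v := by
  have hdim : Module.finrank F (Fin n → F) = 2 * m := by rw [Module.finrank_fin_fun, hnm]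
  obtain ⟨e, he⟩ := Cfsg.Agent.Lib.Helper99_SpBridge.exists_isometry_standard (formB f hf)
    (formB_isAlt f hf) (formB_nondegenerate f hf) m hdim
  refine ⟨LinearMap.toMatrix' (e : (Fin n → F) →ₗ[F] (Fin m ⊕ Fin m → F)),
    LinearMap.toMatrix' (e.symm : (Fin m ⊕ Fin m → F) →ₗ[F] (Fin n → F)), ?_, ?_, ?_⟩
  · rw [← LinearMap.toMatrix'_comp]
    have : (e : (Fin n → F) →ₗ[F] (Fin m ⊕ Fin m → F)).comp
        (e.symm : (Fin m ⊕ Fin m → F) →ₗ[F] (Fin n → F)) = LinearMap.id := by ext x : 1; simp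
    rw [this, LinearMap.toMatrix'_id]
  · rw [← LinearMap.toMatrix'_comp]
    have : (e.symm : (Fin m ⊕ Fin m → F) →ₗ[F] (Fin n → F)).comp
        (e : (Fin n → F) →ₗ[F] (Fin m ⊕ Fin m → F)) = LinearMap.id := by ext x : 1; simp
    rw [this, LinearMap.toMatrix'_id]
  · intro u v
    rw [LinearMap.toMatrix'_mulVec, LinearMap.toMatrix'_mulVec, ← formB_apply f hf, ← he,
      Cfsg.Agent.Lib.Helper94_Bridge.Bsymp_apply]
    rfl

/-- the embedding of the standard symplectic group into `SL_n(F)` attached to a change of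
coordinates -/
noncomputable def embSp {n m : ℕ} (P : Matrix (Fin m ⊕ Fin m) (Fin n) F)
    (P' : Matrix (Fin n) (Fin m ⊕ Fin m) F) (h1 : P * P' = 1) (h2 : P' * P = 1) :
    ↥(Matrix.symplecticGroup (Fin m) F) →* Matrix.SpecialLinearGroup (Fin n) F where
  toFun A := ⟨P' * (A : Matrix (Fin m ⊕ Fin m) (Fin m ⊕ Fin m) F) * P, by
    rw [Matrix.det_conj_of_mul_eq_one h2 h1]
    exact SymplecticGroup.det_eq_one A.2⟩
  map_one' := by
    apply Subtype.ext
    show P' * (1 : ↥(Matrix.symplecticGroup (Fin m) F)).1 * P = 1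
    rw [show (1 : ↥(Matrix.symplecticGroup (Fin m) F)).1 = 1 from rfl,
      Matrix.mul_one, h2]
  map_mul' A B := by
    apply Subtype.ext
    show P' * (A * B : ↥(Matrix.symplecticGroup (Fin m) F)).1 * P =
      (P' * A.1 * P) * (P' * B.1 * P)
    rw [show (A * B : ↥(Matrix.symplecticGroup (Fin m) F)).1 =
      A.1 * B.1 from rfl]
    calc P' * (A.1 * B.1) * P
        = P' * A.1 * ((P * P') * (B.1 * P)) := by
          rw [h1, Matrix.one_mul]; simp only [Matrix.mul_assoc]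
      _ = (P' * A.1 * P) * (P' * B.1 * P) := by simp only [Matrix.mul_assoc]

theorem embSp_coe {n m : ℕ} (P : Matrix (Fin m ⊕ Fin m) (Fin n) F)
    (P' : Matrix (Fin n) (Fin m ⊕ Fin m) F) (h1 : P * P' = 1) (h2 : P' * P = 1)
    (A : ↥(Matrix.symplecticGroup (Fin m) F)) :
    ((embSp P P' h1 h2 A : Matrix.SpecialLinearGroup (Fin n) F) : Matrix (Fin n) (Fin n) F) =
      P' * (A : Matrix (Fin m ⊕ Fin m) (Fin m ⊕ Fin m) F) * P := rfl

theorem embSp_injective {n m : ℕ} (P : Matrix (Fin m ⊕ Fin m) (Fin n) F)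
    (P' : Matrix (Fin n) (Fin m ⊕ Fin m) F) (h1 : P * P' = 1) (h2 : P' * P = 1) :
    Function.Injective (embSp P P' h1 h2) := by
  intro A B hAB
  have h := congrArg (fun x : Matrix.SpecialLinearGroup (Fin n) F =>
    P * (x : Matrix (Fin n) (Fin n) F) * P') hAB
  simp only [embSp_coe] at h
  apply Subtype.ext
  calc A.1 = (P * P') * A.1 * (P * P') := by
        rw [h1, Matrix.one_mul, Matrix.mul_one]
    _ = P * (P' * A.1 * P) * P' := by simp only [Matrix.mul_assoc]
    _ = P * (P' * B.1 * P) * P' := h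
    _ = (P * P') * B.1 * (P * P') := by simp only [Matrix.mul_assoc]
    _ = B.1 := by rw [h1, Matrix.one_mul, Matrix.mul_one]

/-- a prime dividing the index of the similarity group divides `|SL_n| / |Sp_n|` -/
theorem exists_index_factor [Fintype F] {n m : ℕ} (hnm : n = 2 * m)
    (f : (Fin n → F) → (Fin n → F) → F) (hf : Cfsg.Geo.IsSymplecticForm f) (r : ℕ)
    (h : r ∣ ((Cfsg.Geo.similarityGroup f).comap (Matrix.SpecialLinearGroup.toGL :
      Matrix.SpecialLinearGroup (Fin n) F →* GL (Fin n) F)).index) :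
    ∃ J : ℕ, r ∣ J ∧ J * Nat.card ↥(Matrix.symplecticGroup (Fin m) F) =
      Nat.card (Matrix.SpecialLinearGroup (Fin n) F) := by
  obtain ⟨P, P', h1, h2, hP⟩ := exists_std hnm f hf
  set φ := embSp P P' h1 h2 with hφ
  have hle : φ.range ≤ (Cfsg.Geo.similarityGroup f).comap (Matrix.SpecialLinearGroup.toGL :
      Matrix.SpecialLinearGroup (Fin n) F →* GL (Fin n) F) := by
    rintro _ ⟨A, rfl⟩
    rw [Subgroup.mem_comap]
    refine ⟨1, fun u v => ?_⟩
    rw [Units.val_one, one_mul]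
    show f (((φ A : Matrix.SpecialLinearGroup (Fin n) F) : Matrix (Fin n) (Fin n) F) *ᵥ u)
      (((φ A : Matrix.SpecialLinearGroup (Fin n) F) : Matrix (Fin n) (Fin n) F) *ᵥ v) = f u v
    rw [hφ, embSp_coe, ← hP, ← hP]
    have key : ∀ w : Fin n → F, P *ᵥ ((P' * A.1 * P) *ᵥ w) =
        A.1 *ᵥ (P *ᵥ w) := by
      intro w
      rw [Matrix.mulVec_mulVec, Matrix.mulVec_mulVec]
      congr 1
      calc P * (P' * A.1 * P) = (P * P') * A.1 * P := by
            simp only [Matrix.mul_assoc]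
        _ = A.1 * P := by rw [h1, Matrix.one_mul]
    rw [key, key]
    exact Cfsg.Agent.Lib.Helper13_Symp.sympForm_mulVec_mulVec_of_mem _ A.2 _ _
  have hdvd := Subgroup.index_dvd_of_le hle
  refine ⟨φ.range.index, h.trans hdvd, ?_⟩
  rw [Nat.card_congr (MonoidHom.ofInjective (embSp_injective P P' h1 h2)).toEquiv]
  exact Subgroup.index_mul_card φ.range

theorem prod_pow_sub (q n : ℕ) (hq : 1 ≤ q) :
    ∏ i ∈ Finset.range n, (q ^ n - q ^ i) =
      q ^ (∑ i ∈ Finset.range n, i) * ∏ i ∈ Finset.range n, (q ^ (i + 1) - 1) := by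
  have h1 : ∀ i ∈ Finset.range n, q ^ n - q ^ i = q ^ i * (q ^ (n - i) - 1) := by
    intro i hi
    rw [Finset.mem_range] at hi
    rw [Nat.mul_sub, mul_one, ← pow_add, Nat.add_sub_cancel' hi.le]
  rw [Finset.prod_congr rfl h1, Finset.prod_mul_distrib, Finset.prod_pow_eq_pow_sum]
  congr 1
  rw [← Finset.prod_range_reflect (fun j => q ^ (j + 1) - 1) n]
  apply Finset.prod_congr rfl
  intro i hi
  rw [Finset.mem_range] at hi
  have : n - 1 - i + 1 = n - i := by omega
  show q ^ (n - i) - 1 = q ^ (n - 1 - i + 1) - 1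
  rw [this]

theorem prod_split (q m : ℕ) :
    ∏ i ∈ Finset.range (2 * m), (q ^ (i + 1) - 1) =
      (∏ i ∈ Finset.range m, (q ^ (2 * (i + 1)) - 1)) *
        ∏ i ∈ Finset.range m, (q ^ (2 * i + 1) - 1) := by
  induction m with
  | zero => simp
  | succ k ih =>
    rw [show 2 * (k + 1) = 2 * k + 1 + 1 from by ring, Finset.prod_range_succ,
      Finset.prod_range_succ, ih, Finset.prod_range_succ, Finset.prod_range_succ]
    have : 2 * k + 1 + 1 = 2 * (k + 1) := by ring
    rw [this]; ring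

theorem arith (q k J r : ℕ) (hq : 2 ≤ q) (hr : r.Prime) (hrJ : r ∣ J)
    (h : (q - 1) * (J * (q ^ ((k + 1) ^ 2) *
        ∏ i ∈ Finset.range (k + 1), (q ^ (2 * (i + 1)) - 1))) =
      ∏ i ∈ Finset.range (2 * (k + 1)), (q ^ (2 * (k + 1)) - q ^ i)) :
    r ∣ q ∨ ∃ i, 1 ≤ i ∧ i < k + 1 ∧ r ∣ q ^ (2 * i + 1) - 1 := by
  rw [prod_pow_sub q _ (by omega), prod_split,
    Finset.prod_range_succ' (fun i => q ^ (2 * i + 1) - 1)] at h
  set E := ∏ i ∈ Finset.range (k + 1), (q ^ (2 * (i + 1)) - 1) with hE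
  set O' := ∏ i ∈ Finset.range k, (q ^ (2 * (i + 1) + 1) - 1) with hO
  set S := ∑ i ∈ Finset.range (2 * (k + 1)), i with hS
  have hq1 : q ^ (2 * 0 + 1) - 1 = q - 1 := by simp
  rw [hq1] at h
  have hEpos : 0 < E := Finset.prod_pos (fun i _ =>
    Nat.sub_pos_of_lt (Nat.one_lt_pow (by omega) (by omega)))
  have hq1pos : 0 < q - 1 := by omega
  have hcancel : J * q ^ ((k + 1) ^ 2) = q ^ S * O' := by
    have h2 : ((q - 1) * E) * (J * q ^ ((k + 1) ^ 2)) = ((q - 1) * E) * (q ^ S * O') := by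
      calc ((q - 1) * E) * (J * q ^ ((k + 1) ^ 2))
          = (q - 1) * (J * (q ^ ((k + 1) ^ 2) * E)) := by ring
        _ = q ^ S * (E * (O' * (q - 1))) := h
        _ = ((q - 1) * E) * (q ^ S * O') := by ring
    exact Nat.eq_of_mul_eq_mul_left (Nat.mul_pos hq1pos hEpos) h2
  have hdvd : r ∣ q ^ S * O' := hcancel ▸ Dvd.dvd.mul_right hrJ _
  rcases (Nat.Prime.dvd_mul hr).1 hdvd with h1 | h1
  · left; exact hr.dvd_of_dvd_pow h1
  · right
    rw [hO, Prime.dvd_finset_prod_iff hr.prime] at h1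
    obtain ⟨i, hi, hri⟩ := h1
    rw [Finset.mem_range] at hi
    exact ⟨i + 1, by omega, by omega, hri⟩

/-- a prime dividing the index of the similarity group of a symplectic form in `SL_n(F)`
divides `q` or `q ^ (2 i + 1) - 1` for some `1 ≤ i < n / 2` -/
theorem dvd_of_dvd_index [Fintype F] {q : ℕ} (hq : Fintype.card F = q) {n m : ℕ}
    (hnm : n = 2 * m) (hm : 1 ≤ m)
    (f : (Fin n → F) → (Fin n → F) → F) (hf : Cfsg.Geo.IsSymplecticForm f) (r : ℕ)
    (hr : r.Prime)
    (h : r ∣ ((Cfsg.Geo.similarityGroup f).comap (Matrix.SpecialLinearGroup.toGL :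
      Matrix.SpecialLinearGroup (Fin n) F →* GL (Fin n) F)).index) :
    r ∣ q ∨ ∃ i, 1 ≤ i ∧ i < m ∧ r ∣ q ^ (2 * i + 1) - 1 := by
  obtain ⟨J, hrJ, hJ⟩ := exists_index_factor hnm f hf r h
  obtain ⟨k, rfl⟩ : ∃ k, m = k + 1 := ⟨m - 1, by omega⟩
  subst hnm
  have h1 := Cfsg.Agent.S0242.result hq (2 * (k + 1)) (by omega)
  rw [← hJ, Cfsg.Agent.Lib.Helper5_SpOrder.card_sp hq (k + 1),
    Fin.prod_univ_eq_prod_range (fun i => q ^ (2 * (k + 1)) - q ^ i)] at h1
  exact arith q k J r (hq ▸ Fintype.one_lt_card) hr hrJ h1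

end Cfsg.Agent.Lib.Helper68_SpIdx
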