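import Mathlib
import Cfsg.Agent.Lib.Helper68_SpIdx
import Cfsg.Agent.Lib.Helper99_PrimeOrderSL
import Cfsg.Agent.Lib.Helper40_SpAdj

set_option autoImplicit false

/-!
Matrices which are not similarities of any nondegenerate alternating form (helper68):
a unipotent element with one Jordan block of size three, a diagonal element with eigenvalue
pattern `(l, l, l⁻², 1, …, 1)`, and semisimple elements with odd-dimensional fixed space.
-/

namespace Cfsg.Agent.Lib.Helper68_SpDer

open Matrix Module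

universe u

section transport

variable {F : Type u} [Field F] {n : ℕ}

/-- iterating a similarity -/
theorem sim_pow (B : LinearMap.BilinForm F (Fin n → F)) (x : Matrix (Fin n) (Fin n) F) (c : F)
    (h : ∀ u v, B (x *ᵥ u) (x *ᵥ v) = c * B u v) (k : ℕ) (u v : Fin n → F) :
    B ((x ^ k) *ᵥ u) ((x ^ k) *ᵥ v) = c ^ k * B u v := by
  induction k generalizing u v with
  | zero => simp
  | succ k ih =>
    rw [pow_succ, ← Matrix.mulVec_mulVec, ← Matrix.mulVec_mulVec, ih, h, pow_succ, mul_assoc]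

/-- a nondegenerate form does not vanish identically (`n ≥ 1`) -/
theorem exists_ne_zero (B : LinearMap.BilinForm F (Fin n → F)) (hN : B.Nondegenerate)
    (i0 : Fin n) : ∃ u v, B u v ≠ 0 := by
  by_contra hcon
  push Not at hcon
  have h0 : (Pi.single i0 (1 : F) : Fin n → F) = 0 := hN.1 _ (fun y => hcon _ y)
  have := congrFun h0 i0
  simp at this

/-- the multiplier of a similarity of finite order is a root of unity -/
theorem mult_pow_eq_one (B : LinearMap.BilinForm F (Fin n → F)) (hN : B.Nondegenerate)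
    (i0 : Fin n) (x : Matrix (Fin n) (Fin n) F) (c : F)
    (h : ∀ u v, B (x *ᵥ u) (x *ᵥ v) = c * B u v) (k : ℕ) (hk : x ^ k = 1) : c ^ k = 1 := by
  obtain ⟨u, v, huv⟩ := exists_ne_zero B hN i0
  have h1 := sim_pow B x c h k u v
  rw [hk, Matrix.one_mulVec, Matrix.one_mulVec] at h1
  have h2 : (c ^ k - 1) * B u v = 0 := by rw [sub_mul, one_mul, ← h1, sub_self]
  rcases mul_eq_zero.1 h2 with h3 | h3
  · exact sub_eq_zero.1 h3
  · exact absurd h3 huv

/-- reduction: a matrix which is not a similarity of any nondegenerate alternating form has no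
conjugate in the similarity group of a symplectic form -/
theorem not_conj_mem (X : Matrix.SpecialLinearGroup (Fin n) F)
    (hX : ∀ B : LinearMap.BilinForm F (Fin n → F), B.IsAlt → B.Nondegenerate → ∀ c : F,
      ¬ ∀ u v, B ((X : Matrix (Fin n) (Fin n) F) *ᵥ u) ((X : Matrix (Fin n) (Fin n) F) *ᵥ v) =
        c * B u v)
    (f : (Fin n → F) → (Fin n → F) → F) (hf : Cfsg.Geo.IsSymplecticForm f)
    (P : Matrix.SpecialLinearGroup (Fin n) F) :
    P⁻¹ * X * P ∉ ((Cfsg.Geo.similarityGroup f).comap (Matrix.SpecialLinearGroup.toGL :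
      Matrix.SpecialLinearGroup (Fin n) F →* GL (Fin n) F)) := by
  intro hmem
  rw [Subgroup.mem_comap] at hmem
  obtain ⟨c, hc⟩ := hmem
  set Q : Matrix (Fin n) (Fin n) F := (P : Matrix (Fin n) (Fin n) F) with hQ
  set Q' : Matrix (Fin n) (Fin n) F := ((P⁻¹ : Matrix.SpecialLinearGroup (Fin n) F) :
    Matrix (Fin n) (Fin n) F) with hQ'
  have hQQ' : Q * Q' = 1 := by
    have : ((P * P⁻¹ : Matrix.SpecialLinearGroup (Fin n) F) : Matrix (Fin n) (Fin n) F) = 1 := by
      rw [mul_inv_cancel]; rfl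
    exact this
  have hQ'Q : Q' * Q = 1 := by
    have : ((P⁻¹ * P : Matrix.SpecialLinearGroup (Fin n) F) : Matrix (Fin n) (Fin n) F) = 1 := by
      rw [inv_mul_cancel]; rfl
    exact this
  have hc' : ∀ u v, f ((Q' * (X : Matrix (Fin n) (Fin n) F) * Q) *ᵥ u)
      ((Q' * (X : Matrix (Fin n) (Fin n) F) * Q) *ᵥ v) = (c : F) * f u v := hc
  set B0 := Cfsg.Agent.Lib.Helper68_SpIdx.formB f hf with hB0
  set B : LinearMap.BilinForm F (Fin n → F) :=
    B0.comp (Matrix.toLin' Q') (Matrix.toLin' Q') with hB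
  have hBapp : ∀ u v, B u v = f (Q' *ᵥ u) (Q' *ᵥ v) := by
    intro u v
    rw [hB, LinearMap.BilinForm.comp_apply, Matrix.toLin'_apply, Matrix.toLin'_apply]
    rfl
  have hAlt : B.IsAlt := fun v => by rw [hBapp]; exact hf.alternating _
  have hQinj : ∀ w : Fin n → F, Q' *ᵥ w = 0 → w = 0 := by
    intro w hw
    have : (Q * Q') *ᵥ w = 0 := by rw [← Matrix.mulVec_mulVec, hw, Matrix.mulVec_zero]
    rwa [hQQ', Matrix.one_mulVec] at this
  have hND : B.Nondegenerate := by
    constructor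
    · intro x hx
      apply hQinj
      by_contra hx0
      obtain ⟨y, hy⟩ := (hf.nondegenerate _ hx0).2
      apply hy
      have := hx (Q *ᵥ y)
      rwa [hBapp, Matrix.mulVec_mulVec, hQ'Q, Matrix.one_mulVec] at this
    · intro y hy
      apply hQinj
      by_contra hy0
      obtain ⟨x, hx⟩ := (hf.nondegenerate _ hy0).1
      apply hx
      have := hy (Q *ᵥ x)
      rwa [hBapp, Matrix.mulVec_mulVec, hQ'Q, Matrix.one_mulVec] at this
  apply hX B hAlt hND (c : F)
  intro u v
  rw [hBapp, hBapp, ← hc']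
  have key : ∀ w : Fin n → F, (Q' * (X : Matrix (Fin n) (Fin n) F) * Q) *ᵥ (Q' *ᵥ w) =
      Q' *ᵥ ((X : Matrix (Fin n) (Fin n) F) *ᵥ w) := by
    intro w
    rw [Matrix.mulVec_mulVec, Matrix.mulVec_mulVec]
    congr 1
    rw [Matrix.mul_assoc, hQQ', Matrix.mul_one]
  rw [key, key]

end transport

section unip

variable {F : Type u} [Field F] {n : ℕ} (i0 i1 i2 : Fin n)

/-- the nilpotent matrix `E_{01} + E_{12}` -/
def nilM : Matrix (Fin n) (Fin n) F := Matrix.single i0 i1 1 + Matrix.single i1 i2 1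

variable {i0 i1 i2}

theorem nilM_sq (h01 : i0 ≠ i1) (h12 : i1 ≠ i2) (h02 : i0 ≠ i2) :
    (nilM i0 i1 i2 : Matrix (Fin n) (Fin n) F) * nilM i0 i1 i2 = Matrix.single i0 i2 1 := by
  unfold nilM
  rw [Matrix.add_mul, Matrix.mul_add, Matrix.mul_add]
  simp [h01.symm, h02.symm, h12.symm]

theorem nilM_cube (h01 : i0 ≠ i1) (h12 : i1 ≠ i2) (h02 : i0 ≠ i2) :
    (nilM i0 i1 i2 : Matrix (Fin n) (Fin n) F) * nilM i0 i1 i2 * nilM i0 i1 i2 = 0 := by
  rw [nilM_sq h01 h12 h02]
  unfold nilM
  rw [Matrix.mul_add]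
  simp [h02.symm, h12.symm]

theorem unip_pow {p : ℕ} [Fact p.Prime] [CharP F p] (hp3 : 3 ≤ p)
    (h01 : i0 ≠ i1) (h12 : i1 ≠ i2) (h02 : i0 ≠ i2) :
    ((1 : Matrix (Fin n) (Fin n) F) + nilM i0 i1 i2) ^ p = 1 := by
  have : Nonempty (Fin n) := ⟨i0⟩
  rw [add_pow_char_of_commute _ (Commute.one_left _), one_pow]
  have h3 : (nilM i0 i1 i2 : Matrix (Fin n) (Fin n) F) ^ 3 = 0 := by
    rw [pow_succ, pow_two, nilM_cube h01 h12 h02]
  have : (nilM i0 i1 i2 : Matrix (Fin n) (Fin n) F) ^ p = 0 := by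
    rw [show p = 3 + (p - 3) from by omega, pow_add, h3, zero_mul]
  rw [this, add_zero]

theorem unip_ne_scalar (h01 : i0 ≠ i1) (z : F) :
    ((1 : Matrix (Fin n) (Fin n) F) + nilM i0 i1 i2) ≠ z • (1 : Matrix (Fin n) (Fin n) F) := by
  intro h
  have := congrFun (congrFun h i0) i1
  simp [nilM, h01, h01.symm] at this

theorem unip_det {p : ℕ} [Fact p.Prime] [CharP F p] (hp3 : 3 ≤ p)
    (h01 : i0 ≠ i1) (h12 : i1 ≠ i2) (h02 : i0 ≠ i2) :
    ((1 : Matrix (Fin n) (Fin n) F) + nilM i0 i1 i2).det = 1 := by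
  have h1 := congrArg Matrix.det (unip_pow (F := F) (p := p) hp3 h01 h12 h02)
  rw [Matrix.det_pow, Matrix.det_one] at h1
  have h2 : (((1 : Matrix (Fin n) (Fin n) F) + nilM i0 i1 i2).det - 1) ^ p = 0 := by
    rw [sub_pow_char, h1, one_pow, sub_self]
  exact sub_eq_zero.1 (pow_eq_zero_iff (Fact.out : p.Prime).ne_zero |>.1 h2)

/-- a unipotent element with a single Jordan block of size three (and otherwise trivial) is not
a similarity of a nondegenerate alternating form in odd characteristic -/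
theorem unip_not_sim {p : ℕ} [Fact p.Prime] [CharP F p] (hp3 : 3 ≤ p)
    (h01 : i0 ≠ i1) (h12 : i1 ≠ i2) (h02 : i0 ≠ i2)
    (B : LinearMap.BilinForm F (Fin n → F)) (hA : B.IsAlt) (hN : B.Nondegenerate) (c : F) :
    ¬ ∀ u v, B (((1 : Matrix (Fin n) (Fin n) F) + nilM i0 i1 i2) *ᵥ u)
      (((1 : Matrix (Fin n) (Fin n) F) + nilM i0 i1 i2) *ᵥ v) = c * B u v := by
  intro h
  have hp : p.Prime := Fact.out
  set N : Matrix (Fin n) (Fin n) F := nilM i0 i1 i2 with hNdef
  set x : Matrix (Fin n) (Fin n) F := 1 + N with hxdef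
  have hcp : c ^ p = 1 := mult_pow_eq_one B hN i0 x c h p (unip_pow hp3 h01 h12 h02)
  have hc1 : c = 1 := by
    have h2 : (c - 1) ^ p = 0 := by rw [sub_pow_char, hcp, one_pow, sub_self]
    exact sub_eq_zero.1 (pow_eq_zero_iff hp.ne_zero |>.1 h2)
  have h2F : (2 : F) ≠ 0 := by
    intro h2
    have : ((2 : ℕ) : F) = 0 := by exact_mod_cast h2
    rw [CharP.cast_eq_zero_iff F p] at this
    have := Nat.le_of_dvd (by norm_num) this
    omega
  have hx : ∀ u, x *ᵥ u = u + N *ᵥ u := by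
    intro u; rw [hxdef, Matrix.add_mulVec, Matrix.one_mulVec]
  have h1 : ∀ u v, B (x *ᵥ u) (x *ᵥ v) = B u v := by
    intro u v; rw [h u v, hc1, one_mul]
  have star : ∀ u v, B (N *ᵥ u) v = - B (x *ᵥ u) (N *ᵥ v) := by
    intro u v
    have e1 := h1 u v
    rw [hx v, map_add] at e1
    have e2 : B (x *ᵥ u) v = B u v + B (N *ᵥ u) v := by
      rw [hx u, map_add, LinearMap.add_apply]
    linear_combination e1 - e2
  have hcomm : ∀ u, x *ᵥ (N *ᵥ u) = N *ᵥ (x *ᵥ u) := by
    intro u
    rw [Matrix.mulVec_mulVec, Matrix.mulVec_mulVec]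
    congr 1
    rw [hxdef, add_mul, mul_add, one_mul, mul_one]
  have hN3 : ∀ u, N *ᵥ (N *ᵥ (N *ᵥ u)) = 0 := by
    intro u
    rw [Matrix.mulVec_mulVec, Matrix.mulVec_mulVec, Matrix.mul_assoc, ← Matrix.mul_assoc,
      nilM_cube h01 h12 h02, Matrix.zero_mulVec]
  have key : ∀ a b, B (N *ᵥ (N *ᵥ a)) b = B a (N *ᵥ (N *ᵥ b)) := by
    intro a b
    rw [star (N *ᵥ a) b, hcomm a, star (x *ᵥ a) (N *ᵥ b), neg_neg]
    have e3 : x *ᵥ (x *ᵥ a) = a + N *ᵥ (a + a + N *ᵥ a) := by
      rw [hx (x *ᵥ a), hx a, Matrix.mulVec_add, Matrix.mulVec_add, Matrix.mulVec_add]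
      abel
    rw [e3, map_add, LinearMap.add_apply, star, hN3, map_zero, neg_zero, add_zero]
  have hzero : ∀ a, B (N *ᵥ (N *ᵥ a)) a = 0 := by
    intro a
    have e1 := key a a
    have e2 : B a (N *ᵥ (N *ᵥ a)) = - B (N *ᵥ (N *ᵥ a)) a := (hA.neg_eq _ _).symm
    have e3 : (2 : F) * B (N *ᵥ (N *ᵥ a)) a = 0 := by linear_combination e1 + e2
    exact (mul_eq_zero.1 e3).resolve_left h2F
  have hNN : ∀ a, N *ᵥ (N *ᵥ a) = a i2 • (Pi.single i0 (1 : F) : Fin n → F) := by
    intro a
    rw [Matrix.mulVec_mulVec, nilM_sq h01 h12 h02, Matrix.single_mulVec_eq, one_mul]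
  have hfin : ∀ a : Fin n → F, a i2 * B (Pi.single i0 (1 : F)) a = 0 := by
    intro a
    have := hzero a
    rwa [hNN, map_smul, LinearMap.smul_apply, smul_eq_mul] at this
  -- a vector pairing nontrivially with `e_{i0}`
  obtain ⟨y, hy⟩ : ∃ y, B (Pi.single i0 (1 : F)) y ≠ 0 := by
    by_contra hcon
    push Not at hcon
    have h0 : (Pi.single i0 (1 : F) : Fin n → F) = 0 := hN.1 _ hcon
    have := congrFun h0 i0
    simp at this
  by_cases hy2 : y i2 = 0
  · have h3 := hfin (Pi.single i2 (1 : F))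
    rw [Pi.single_eq_same, one_mul] at h3
    have h4 := hfin (y + Pi.single i2 (1 : F))
    rw [Pi.add_apply, hy2, Pi.single_eq_same, zero_add, one_mul, map_add, h3, add_zero] at h4
    exact hy h4
  · exact hy ((mul_eq_zero.1 (hfin y)).resolve_left hy2)

end unip

section diag

variable {F : Type u} [Field F] {n : ℕ}

/-- a diagonal similarity of a nondegenerate form pairs up its eigenvalues through a
permutation -/
theorem exists_perm_of_diag_sim (d : Fin n → F) (B : LinearMap.BilinForm F (Fin n → F))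
    (hN : B.Nondegenerate) (c : F)
    (h : ∀ u v, B (Matrix.diagonal d *ᵥ u) (Matrix.diagonal d *ᵥ v) = c * B u v) :
    ∃ σ : Equiv.Perm (Fin n), ∀ i, d (σ i) * d i = c := by
  classical
  set M := LinearMap.BilinForm.toMatrix' B with hM
  have hdet : M.det ≠ 0 := by
    rw [← Matrix.nondegenerate_iff_det_ne_zero]
    exact LinearMap.BilinForm.nondegenerate_toMatrix'_iff.2 hN
  rw [Matrix.det_apply] at hdet
  obtain ⟨σ, -, hσ⟩ := Finset.exists_ne_zero_of_sum_ne_zero hdet
  have hprod : ∏ i, M (σ i) i ≠ 0 := by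
    intro h0; apply hσ; rw [h0, smul_zero]
  rw [Finset.prod_ne_zero_iff] at hprod
  refine ⟨σ, fun i => ?_⟩
  have hi := hprod i (Finset.mem_univ i)
  rw [hM, LinearMap.BilinForm.toMatrix'_apply] at hi
  have e1 : ∀ (j : Fin n), Matrix.diagonal d *ᵥ (Pi.single j (1 : F) : Fin n → F) =
      d j • (Pi.single j (1 : F) : Fin n → F) := by
    intro j
    rw [Matrix.diagonal_mulVec_single, mul_one]
    ext k
    simp [Pi.single_apply]
  have h2 := h (Pi.single (σ i) 1) (Pi.single i 1)
  rw [e1, e1, map_smul, map_smul, LinearMap.smul_apply, smul_eq_mul, smul_eq_mul] at h2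
  have h3 : (d (σ i) * d i - c) * B (Pi.single (σ i) 1) (Pi.single i 1) = 0 := by
    linear_combination h2
  rcases mul_eq_zero.1 h3 with h4 | h4
  · exact sub_eq_zero.1 h4
  · exact absurd h4 hi

/-- the eigenvalue pattern `(l, l, l⁻², 1, …, 1)` -/
def dvec (n : ℕ) (l : F) (i : Fin n) : F :=
  if i.val < 2 then l else if i.val = 2 then (l ^ 2)⁻¹ else 1

theorem dvec_lt (l : F) (i : Fin n) (hi : i.val < 2) : dvec n l i = l := by
  unfold dvec; rw [if_pos hi]

theorem dvec_two (l : F) (i : Fin n) (hi : i.val = 2) : dvec n l i = (l ^ 2)⁻¹ := by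
  unfold dvec; rw [if_neg (by omega), if_pos hi]

theorem dvec_ge (l : F) (i : Fin n) (hi : 3 ≤ i.val) : dvec n l i = 1 := by
  unfold dvec; rw [if_neg (by omega), if_neg (by omega)]

theorem dvec_val (l : F) (i : Fin n) :
    dvec n l i = l ∨ dvec n l i = (l ^ 2)⁻¹ ∨ dvec n l i = 1 := by
  rcases lt_trichotomy i.val 2 with h | h | h
  · exact Or.inl (dvec_lt l i h)
  · exact Or.inr (Or.inl (dvec_two l i h))
  · exact Or.inr (Or.inr (dvec_ge l i h))

theorem dvec_ne_zero (l : F) (hl : l ≠ 0) (i : Fin n) : dvec n l i ≠ 0 := by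
  rcases dvec_val l i with h | h | h <;> rw [h]
  · exact hl
  · exact inv_ne_zero (pow_ne_zero 2 hl)
  · exact one_ne_zero

theorem dvec_prod (k : ℕ) (l : F) (hl : l ≠ 0) : ∏ i, dvec (k + 3) l i = 1 := by
  rw [Fin.prod_univ_succ, Fin.prod_univ_succ, Fin.prod_univ_succ]
  have h0 : dvec (k + 3) l 0 = l := dvec_lt l _ (by simp)
  have h1 : dvec (k + 3) l (Fin.succ 0) = l := dvec_lt l _ (by simp)
  have h2 : dvec (k + 3) l (Fin.succ (Fin.succ 0)) = (l ^ 2)⁻¹ := dvec_two l _ (by simp)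
  have h3 : ∀ i : Fin k, dvec (k + 3) l (Fin.succ (Fin.succ (Fin.succ i))) = 1 :=
    fun i => dvec_ge l _ (by simp)
  rw [h0, h1, h2, Finset.prod_congr rfl (fun i _ => h3 i), Finset.prod_const_one, mul_one]
  field_simp

theorem dvec_pow (l : F) {r : ℕ} (hlr : l ^ r = 1) (i : Fin n) : dvec n l i ^ r = 1 := by
  rcases dvec_val l i with h | h | h <;> rw [h]
  · exact hlr
  · rw [inv_pow, ← pow_mul, mul_comm, pow_mul, hlr, one_pow, inv_one]
  · exact one_pow r

/-- the pattern `(l, l, l⁻², 1, …, 1)` is not symmetric under any `t ↦ c / t` -/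
theorem no_perm {r : ℕ} (hn : 4 ≤ n) (he : Even n) (hr : r.Prime) (hr2 : r ≠ 2)
    (hgap : ¬ (n = 6 ∧ r = 3)) (l : F) (hl1 : l ≠ 1) (hlr : l ^ r = 1) (c : F)
    (σ : Equiv.Perm (Fin n)) (h : ∀ i, dvec n l (σ i) * dvec n l i = c) : False := by
  classical
  have : Fact r.Prime := ⟨hr⟩
  have hord : orderOf l = r := orderOf_eq_prime hlr hl1
  have hpow : ∀ k, l ^ k = 1 → r ∣ k := fun k hk => hord ▸ orderOf_dvd_of_pow_eq_one hk
  have hl0 : l ≠ 0 := by
    rintro rfl
    rw [zero_pow hr.ne_zero] at hlr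
    exact zero_ne_one hlr
  have hr3 : 3 ≤ r := by have := hr.two_le; omega
  have hl2 : l ^ 2 ≠ 1 := fun h2 => by
    have := Nat.le_of_dvd (by norm_num) (hpow 2 h2)
    omega
  have hl4 : l ^ 4 ≠ 1 := fun h4 => by
    have h5 : r ∣ 2 ^ 2 := by
      have := hpow 4 h4
      norm_num
      exact this
    have := Nat.le_of_dvd (by norm_num) (hr.dvd_of_dvd_pow h5)
    omega
  set j0 : Fin n := ⟨0, by omega⟩ with hj0
  set j1 : Fin n := ⟨1, by omega⟩ with hj1
  set j2 : Fin n := ⟨2, by omega⟩ with hj2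
  set j3 : Fin n := ⟨3, by omega⟩ with hj3
  have d0 : dvec n l j0 = l := dvec_lt l j0 (by simp [hj0])
  have d1 : dvec n l j1 = l := dvec_lt l j1 (by simp [hj1])
  have d2 : dvec n l j2 = (l ^ 2)⁻¹ := dvec_two l j2 (by simp [hj2])
  have d3 : dvec n l j3 = 1 := dvec_ge l j3 (by simp [hj3])
  have hc0 : c ≠ 0 := by
    rw [← h j0]
    exact mul_ne_zero (dvec_ne_zero l hl0 _) (dvec_ne_zero l hl0 _)
  set v := c * l⁻¹ with hv
  set A := Finset.univ.filter (fun i : Fin n => dvec n l i = l) with hA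
  set A' := Finset.univ.filter (fun i : Fin n => dvec n l i = v) with hA'
  have hcard : A.card = A'.card := by
    apply Finset.card_equiv σ
    intro i
    rw [hA, hA', Finset.mem_filter, Finset.mem_filter]
    simp only [Finset.mem_univ, true_and]
    constructor
    · intro hi
      have h1 := h i
      rw [hi] at h1
      rw [hv, ← h1, mul_assoc, mul_inv_cancel₀ hl0, mul_one]
    · intro hi
      have h1 := h i
      rw [hi, hv] at h1
      have h2 : c * (l⁻¹ * dvec n l i) = c * 1 := by rw [mul_one, ← mul_assoc]; exact h1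
      have h3 := mul_left_cancel₀ hc0 h2
      calc dvec n l i = l * (l⁻¹ * dvec n l i) := by
            rw [← mul_assoc, mul_inv_cancel₀ hl0, one_mul]
        _ = l := by rw [h3, mul_one]
  have hA2 : 2 ≤ A.card := by
    have hsub : ({j0, j1} : Finset (Fin n)) ⊆ A := by
      intro i hi
      rw [Finset.mem_insert, Finset.mem_singleton] at hi
      rw [hA, Finset.mem_filter]
      rcases hi with rfl | rfl
      · exact ⟨Finset.mem_univ _, d0⟩
      · exact ⟨Finset.mem_univ _, d1⟩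
    have h01 : j0 ≠ j1 := by
      intro h01
      have := congrArg Fin.val h01
      simp [hj0, hj1] at this
    calc 2 = ({j0, j1} : Finset (Fin n)).card := (Finset.card_pair h01).symm
      _ ≤ A.card := Finset.card_le_card hsub
  have hA3 : A ⊆ Finset.Iio j3 := by
    intro i hi
    rw [hA, Finset.mem_filter] at hi
    rw [Finset.mem_Iio]
    by_contra hge
    have h3 : 3 ≤ i.val := by
      have := not_lt.1 hge
      exact this
    rw [dvec_ge l i h3] at hi
    exact hl1 hi.2.symm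
  by_cases hvl : v = l
  · have hc : c = l ^ 2 := by
      rw [hv] at hvl
      calc c = c * l⁻¹ * l := by rw [mul_assoc, inv_mul_cancel₀ hl0, mul_one]
        _ = l ^ 2 := by rw [hvl, pow_two]
    have h3 := h j3
    rw [d3, mul_one, hc] at h3
    rcases dvec_val l (σ j3) with h1 | h1 | h1 <;> rw [h1] at h3
    · apply hl1
      have : l * 1 = l * l := by rw [mul_one, ← pow_two]; exact h3
      exact (mul_left_cancel₀ hl0 this).symm
    · apply hl4
      have h5 : l ^ 2 * (l ^ 2)⁻¹ = 1 := mul_inv_cancel₀ (pow_ne_zero 2 hl0)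
      rw [h3, ← pow_add] at h5
      exact h5
    · exact hl2 h3.symm
  · by_cases hv1 : v = 1
    · have hA'eq : A' = Finset.Ici j3 := by
        ext i
        rw [hA', Finset.mem_filter, Finset.mem_Ici]
        simp only [Finset.mem_univ, true_and]
        constructor
        · intro hi
          by_contra hlt
          have hlt3 : i.val < 3 := by
            have := not_le.1 hlt
            exact this
          rcases Nat.lt_or_ge i.val 2 with h2 | h2
          · rw [dvec_lt l i h2] at hi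
            exact hvl hi.symm
          · have h2' : i.val = 2 := by omega
            rw [dvec_two l i h2', hv1] at hi
            apply hl2
            have h5 : l ^ 2 * (l ^ 2)⁻¹ = 1 := mul_inv_cancel₀ (pow_ne_zero 2 hl0)
            rw [hi, mul_one] at h5
            exact h5
        · intro hi
          have h3 : 3 ≤ i.val := hi
          rw [dvec_ge l i h3, hv1]
      have hA'card : A'.card = n - 3 := by rw [hA'eq, Fin.card_Ici]
      have hle3 : A.card ≤ 3 := by
        calc A.card ≤ (Finset.Iio j3).card := Finset.card_le_card hA3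
          _ = 3 := by rw [Fin.card_Iio]
      have hn6 : n = 6 := by
        obtain ⟨k, hk⟩ := he
        omega
      have hAeq : A = Finset.Iio j3 :=
        Finset.eq_of_subset_of_card_le hA3 (by rw [Fin.card_Iio]; simp [hj3]; omega)
      have hj2A : j2 ∈ A := by
        rw [hAeq, Finset.mem_Iio]
        show (j2 : Fin n).val < (j3 : Fin n).val
        simp [hj2, hj3]
      rw [hA, Finset.mem_filter, d2] at hj2A
      have hl3 : l ^ 3 = 1 := by
        have h5 : l ^ 2 * (l ^ 2)⁻¹ = 1 := mul_inv_cancel₀ (pow_ne_zero 2 hl0)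
        rw [hj2A.2, ← pow_succ] at h5
        exact h5
      have h3 : r ∣ 3 := hpow 3 hl3
      have hr3' : r = 3 := (Nat.prime_dvd_prime_iff_eq hr Nat.prime_three).1 h3
      exact hgap ⟨hn6, hr3'⟩
    · have hsub : A' ⊆ {j2} := by
        intro i hi
        rw [hA', Finset.mem_filter] at hi
        rw [Finset.mem_singleton]
        rcases lt_trichotomy i.val 2 with hlt | heq | hgt
        · have := hi.2
          rw [dvec_lt l i hlt] at this
          exact absurd this.symm hvl
        · exact Fin.ext heq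
        · have := hi.2
          rw [dvec_ge l i hgt] at this
          exact absurd this.symm hv1
      have : A'.card ≤ 1 := (Finset.card_le_card hsub).trans (by simp)
      omega

end diag

section semis

open Polynomial Cfsg.Agent.Lib.Helper99_PrimeOrderSL

variable {F : Type u} [Field F] [Fintype F] {p : ℕ} [Fact p.Prime] [CharP F p]

/-- an element of order `r` of `SL_n(F)` with a single nontrivial irreducible block -/
theorem exists_one_block (n : ℕ) {r : ℕ} (hr : r.Prime) (hrp : r ≠ p)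
    (he2 : 2 ≤ orderOf ((Fintype.card F : ℕ) : ZMod r))
    (hen : orderOf ((Fintype.card F : ℕ) : ZMod r) ≤ n) :
    ∃ y : Matrix.SpecialLinearGroup (Fin n) F,
      (y : Matrix (Fin n) (Fin n) F) ^ r = 1 ∧
      finrank F (Module.End.eigenspace
        (Matrix.toLin' (y : Matrix (Fin n) (Fin n) F) : Module.End F (Fin n → F)) 1) =
        n - orderOf ((Fintype.card F : ℕ) : ZMod r) := by
  classical
  have hp : p.Prime := Fact.out
  set e := orderOf ((Fintype.card F : ℕ) : ZMod r) with he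
  obtain ⟨hepos, W, hWcard, hW1, hW2⟩ :=
    Cfsg.Agent.Lib.Helper40_PrimeOrderClasses.exists_cyclotomic_factors (F := F) p r hr hrp
  rw [← he] at hWcard hW1 hepos
  have hrq : ¬ r ∣ Fintype.card F - 1 := not_dvd_card_sub_one he2
  have hq0 : ((Fintype.card F : ℕ) : ZMod r) ≠ 0 := by
    rw [Ne, ZMod.natCast_eq_zero_iff]
    intro h
    obtain ⟨k, -, hk⟩ := FiniteField.card F p
    rw [hk] at h
    exact hrp ((Nat.prime_dvd_prime_iff_eq hr hp).1 (hr.dvd_of_dvd_pow h))
  have : Fact r.Prime := ⟨hr⟩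
  have hedvd : e ∣ r - 1 := ZMod.orderOf_dvd_card_sub_one hq0
  have hWne : W.Nonempty := by
    rw [← Finset.card_pos, hWcard]
    exact Nat.div_pos (Nat.le_of_dvd (by have := hr.two_le; omega) hedvd) hepos
  obtain ⟨g, hgW⟩ := hWne
  obtain ⟨hgm, hgi, hg1, hgd, hgdeg⟩ := hW1 g hgW
  set k := n - e with hk
  have hX1 : ((X : F[X]) - 1) = X - C 1 := by rw [map_one]
  have hX1m : ((X : F[X]) - 1).Monic := by rw [hX1]; exact monic_X_sub_C 1
  set c : F[X] := (X - 1) ^ k * g with hc
  have hcm : c.Monic := (hX1m.pow k).mul hgm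
  have hcdeg : c.natDegree = n := by
    rw [hc, (hX1m.pow k).natDegree_mul hgm, hX1m.natDegree_pow, hgdeg,
      hX1, natDegree_X_sub_C, mul_one, hk]
    omega
  obtain ⟨A, hAc, hAss, hAkill⟩ :=
    Cfsg.Agent.Lib.Helper40_PrimeOrderClasses.exists_matrix_of_monic' n c hcm hcdeg
  have hAr : A ^ r = 1 := by
    have h1 : aeval A ((X : F[X]) ^ r - 1) = 0 := by
      apply hAkill
      intro f hf hfc
      rcases hf.prime.dvd_or_dvd hfc with h | h
      · exact (hf.prime.dvd_of_dvd_pow h).trans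
          (Cfsg.Agent.Lib.Helper40_PrimeOrderClasses.X_sub_one_dvd r hr)
      · exact h.trans hgd
    rw [map_sub, map_pow, aeval_X, map_one] at h1
    exact sub_eq_zero.1 h1
  have hdet : A.det = 1 := by
    apply eq_one_of_pow_eq_one hr hrq
    rw [← Matrix.det_pow, hAr, Matrix.det_one]
  refine ⟨⟨A, hdet⟩, hAr, ?_⟩
  show finrank F (Module.End.eigenspace (Matrix.toLin' A : Module.End F (Fin n → F)) 1) = k
  have hss : Module.End.IsSemisimple (Matrix.toLin' A : Module.End F (Fin n → F)) := hAss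
  have hg1' : ¬ IsRoot g 1 := by
    intro h2
    have h3 : (X - C 1) ∣ g := dvd_iff_isRoot.2 h2
    have h4 : Associated (X - C 1) g := (irreducible_X_sub_C 1).associated_of_dvd hgi h3
    have h5 := eq_of_monic_of_associated (monic_X_sub_C 1) hgm h4
    rw [← hX1] at h5
    exact hg1 h5.symm
  rw [← hss.isFinitelySemisimple.maxGenEigenspace_eq_eigenspace 1,
    LinearMap.finrank_maxGenEigenspace_eq, Matrix.charpoly_toLin', hAc, hc,
    rootMultiplicity_mul (by rw [← hc]; exact hcm.ne_zero), rootMultiplicity_eq_zero hg1',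
    add_zero, hX1, rootMultiplicity_X_sub_C_pow]

/-- an element of order `r` (`r ≠ p`, `r ∤ q - 1`) with odd-dimensional fixed space is not a
similarity of a nondegenerate alternating form -/
theorem semis_not_sim {n : ℕ} {r : ℕ} (hr : r.Prime) (hrp : r ≠ p)
    (hrq : ¬ r ∣ Fintype.card F - 1) (hn : 0 < n)
    (y : Matrix (Fin n) (Fin n) F) (hy : y ^ r = 1)
    (hodd : Odd (finrank F (Module.End.eigenspace
      (Matrix.toLin' y : Module.End F (Fin n → F)) 1)))
    (B : LinearMap.BilinForm F (Fin n → F)) (hA : B.IsAlt) (hN : B.Nondegenerate) (c : F) :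
    ¬ ∀ u v, B (y *ᵥ u) (y *ᵥ v) = c * B u v := by
  intro h
  have hcr : c ^ r = 1 := mult_pow_eq_one B hN ⟨0, hn⟩ y c h r hy
  have hc1 : c = 1 := eq_one_of_pow_eq_one hr hrq hcr
  set a : Module.End F (Fin n → F) := Matrix.toLin' y with ha
  have hiso : Cfsg.Agent.Lib.Helper40_SpBasic.IsoData B a r :=
    { alt := hA
      iso := fun u v => by
        rw [ha, Matrix.toLin'_apply, Matrix.toLin'_apply, h, hc1, one_mul]
      pow := toLin'_pow_eq_one y hy
      pos := hr.pos }
  have hrF : ((r : ℕ) : F) ≠ 0 := natCast_ne_zero (p := p) hr hrp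
  have hnd := Cfsg.Agent.Lib.Helper40_SpAdj.ndOn_fixSpace hiso hN hrF
  have hev : Even (finrank F (Cfsg.Agent.Lib.Helper99_Singer.fixSpace a)) :=
    Cfsg.Agent.Lib.Helper43_AltEven.even_finrank_of_alt _
      (Cfsg.Agent.Lib.Helper99_Singer.fixSpace a)
      (B.restrict (Cfsg.Agent.Lib.Helper99_Singer.fixSpace a)) (fun x => hA x)
      (Cfsg.Agent.Lib.Helper40_SpBasic.nondegenerate_restrict hiso hnd) rfl
  have heq : Cfsg.Agent.Lib.Helper99_Singer.fixSpace a = Module.End.eigenspace a 1 := by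
    ext v
    rw [Cfsg.Agent.Lib.Helper99_Singer.mem_fixSpace, Module.End.mem_eigenspace_iff, one_smul]
  rw [heq] at hev
  exact (Nat.not_even_iff_odd.2 hodd) hev

end semis

section packaged

variable {F : Type u} [Field F]

/-- packaged unipotent derangement -/
theorem exists_unip {p : ℕ} [Fact p.Prime] [CharP F p] (hp3 : 3 ≤ p) {n : ℕ} (hn : 3 ≤ n) :
    ∃ X : Matrix.SpecialLinearGroup (Fin n) F,
      (X : Matrix (Fin n) (Fin n) F) ^ p = 1 ∧
      (∀ z : F, (X : Matrix (Fin n) (Fin n) F) ≠ z • (1 : Matrix (Fin n) (Fin n) F)) ∧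
      ∀ B : LinearMap.BilinForm F (Fin n → F), B.IsAlt → B.Nondegenerate → ∀ c : F,
        ¬ ∀ u v, B ((X : Matrix (Fin n) (Fin n) F) *ᵥ u)
          ((X : Matrix (Fin n) (Fin n) F) *ᵥ v) = c * B u v := by
  have h01 : (⟨0, by omega⟩ : Fin n) ≠ ⟨1, by omega⟩ := by
    intro h; have := congrArg Fin.val h; simp at this
  have h12 : (⟨1, by omega⟩ : Fin n) ≠ ⟨2, by omega⟩ := by
    intro h; have := congrArg Fin.val h; simp at this
  have h02 : (⟨0, by omega⟩ : Fin n) ≠ ⟨2, by omega⟩ := by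
    intro h; have := congrArg Fin.val h; simp at this
  exact ⟨⟨_, unip_det (p := p) hp3 h01 h12 h02⟩, unip_pow (p := p) hp3 h01 h12 h02,
    unip_ne_scalar h01, fun B hA hN c => unip_not_sim (p := p) hp3 h01 h12 h02 B hA hN c⟩

/-- packaged diagonal derangement -/
theorem exists_diag {n r : ℕ} (hn : 4 ≤ n) (he : Even n) (hr : r.Prime) (hr2 : r ≠ 2)
    (hgap : ¬ (n = 6 ∧ r = 3)) (l : F) (hl1 : l ≠ 1) (hlr : l ^ r = 1) :
    ∃ X : Matrix.SpecialLinearGroup (Fin n) F,
      (X : Matrix (Fin n) (Fin n) F) ^ r = 1 ∧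
      (∀ z : F, (X : Matrix (Fin n) (Fin n) F) ≠ z • (1 : Matrix (Fin n) (Fin n) F)) ∧
      ∀ B : LinearMap.BilinForm F (Fin n → F), B.IsAlt → B.Nondegenerate → ∀ c : F,
        ¬ ∀ u v, B ((X : Matrix (Fin n) (Fin n) F) *ᵥ u)
          ((X : Matrix (Fin n) (Fin n) F) *ᵥ v) = c * B u v := by
  have hl0 : l ≠ 0 := by
    rintro rfl
    rw [zero_pow hr.ne_zero] at hlr
    exact zero_ne_one hlr
  have hdet : (Matrix.diagonal (dvec n l)).det = 1 := by
    obtain ⟨k, rfl⟩ : ∃ k, n = k + 3 := ⟨n - 3, by omega⟩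
    rw [Matrix.det_diagonal]
    exact dvec_prod k l hl0
  refine ⟨⟨Matrix.diagonal (dvec n l), hdet⟩, ?_, ?_, ?_⟩
  · show Matrix.diagonal (dvec n l) ^ r = 1
    rw [Matrix.diagonal_pow, ← Matrix.diagonal_one]
    congr 1
    ext i
    exact dvec_pow l hlr i
  · intro z hz
    have hz' : Matrix.diagonal (dvec n l) = z • (1 : Matrix (Fin n) (Fin n) F) := hz
    have h0 := congrFun (congrFun hz' ⟨0, by omega⟩) ⟨0, by omega⟩
    have h3 := congrFun (congrFun hz' ⟨3, by omega⟩) ⟨3, by omega⟩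
    rw [Matrix.diagonal_apply_eq, Matrix.smul_apply, Matrix.one_apply_eq, smul_eq_mul,
      mul_one] at h0 h3
    rw [dvec_lt l _ (by simp)] at h0
    rw [dvec_ge l _ (by simp)] at h3
    exact hl1 (h0.trans h3.symm)
  · intro B _ hN c hsim
    obtain ⟨σ, hσ⟩ := exists_perm_of_diag_sim _ B hN c hsim
    exact no_perm hn he hr hr2 hgap l hl1 hlr c σ hσ

end packaged

end Cfsg.Agent.Lib.Helper68_SpDer
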