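import Mathlib
import Cfsg.Agent.Lib.Helper68_StOoDefs
import Cfsg.Agent.Lib.Helper69_BlockEmb

set_option autoImplicit false
set_option linter.unusedSectionVars false
set_option linter.unusedVariables false

/-!
# S2547 package R3L (architect helper68): the rank one relation for a long root of `Ω_{2m+1}(q)`.

Method: all matrices are block extensions (`Helper69_BlockEmb.blockExt`) of explicit 4x4 matrices on the indices
`ie i, ie k, jf k, jf i`.
-/

namespace Cfsg.Agent.Lib.Helper69_StOo_R3L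

open Matrix Cfsg.Agent.Lib.Helper68_MatGrp Cfsg.Agent.Lib.Helper68_StOoDefs
  Cfsg.Agent.Lib.Helper69_BlockEmb

variable {m : ℕ} {F : Type*} [Field F] [Fintype F] [NeZero (2 : F)]

/-- a block extension is upper triangular (w.r.t. a height function) if the small matrix vanishes at the pairs
`(p, q)` with `ht (f q) < ht (f p)` -/
theorem blockExt_upperH {ι κ : Type*} [Fintype ι] [DecidableEq ι] [Fintype κ] [DecidableEq κ]
    (h : ι → ℕ) (f : κ → ι) (hf : Function.Injective f) (M : Matrix κ κ F)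
    (hM : ∀ p q, h (f q) < h (f p) → M p q = 0) (r s : ι) (hsr : h s < h r) :
    blockExt f hf M r s = 0 := by
  have hne : r ≠ s := fun e => by rw [e] at hsr; exact lt_irrefl _ hsr
  by_cases hr : r ∈ Set.range f
  · by_cases hs : s ∈ Set.range f
    · obtain ⟨p, rfl⟩ := hr
      obtain ⟨q, rfl⟩ := hs
      rw [blockExt_apply]
      exact hM p q hsr
    · rw [blockExt_apply_right_notin f hf M r s hs, if_neg hne]
  · rw [blockExt_apply_left_notin f hf M r s hr, if_neg hne]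

/-- the four indices `e_i, e_k, f_k, f_i` -/
def idx (i k : Fin m) : Fin 4 → I m := ![ie i, ie k, jf k, jf i]

theorem idx_injective {i k : Fin m} (hik : i ≠ k) : Function.Injective (idx i k) := by
  have h1 : (ie i : I m) ≠ ie k := fun e => hik (ie_injective e)
  have h6 : (jf k : I m) ≠ jf i := fun e => hik (jf_injective e).symm
  intro p q h
  fin_cases p <;> fin_cases q <;> first
    | rfl
    | (exfalso; revert h
       simp [idx, h1, h6, h1.symm, h6.symm, ie_ne_jf, (ie_ne_jf _ _).symm])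

theorem notin_range_idx {i k : Fin m} {r : I m} (hr : r ∉ Set.range (idx i k)) :
    r ≠ ie i ∧ r ≠ ie k ∧ r ≠ jf k ∧ r ≠ jf i := by
  refine ⟨fun h => hr ⟨0, h.symm⟩, fun h => hr ⟨1, h.symm⟩, fun h => hr ⟨2, h.symm⟩,
    fun h => hr ⟨3, h.symm⟩⟩

theorem lxM_eq {i k : Fin m} (hik : i ≠ k) (t : F) :
    lxM (ie i) (ie k) t = blockExt (idx i k) (idx_injective hik)
      !![1, t, 0, 0; 0, 1, 0, 0; 0, 0, 1, -t; 0, 0, 0, 1] := by
  have h1 : (ie i : I m) ≠ ie k := fun e => hik (ie_injective e)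
  have h6 : (jf k : I m) ≠ jf i := fun e => hik (jf_injective e).symm
  apply eq_blockExt
  · intro p q
    fin_cases p <;> fin_cases q <;>
      simp [lxM, idx, Matrix.single_apply, Matrix.one_apply, h1, h6, h1.symm, h6.symm, ie_ne_jf,
        (ie_ne_jf _ _).symm]
  · intro r s hr
    obtain ⟨e1, e2, e3, e4⟩ := notin_range_idx hr
    simp [lxM, Matrix.single_apply, Matrix.one_apply, e1.symm, e2.symm, e3.symm, e4.symm]
  · intro r s hs
    obtain ⟨e1, e2, e3, e4⟩ := notin_range_idx hs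
    simp [lxM, Matrix.single_apply, Matrix.one_apply, e1.symm, e2.symm, e3.symm, e4.symm]

theorem wlM_eq {i k : Fin m} (hik : i ≠ k) :
    (wlM (ie i) (ie k) : Matrix (I m) (I m) F) = blockExt (idx i k) (idx_injective hik)
      !![0, 1, 0, 0; -1, 0, 0, 0; 0, 0, 0, -1; 0, 0, 1, 0] := by
  have h1 : (ie i : I m) ≠ ie k := fun e => hik (ie_injective e)
  have h6 : (jf k : I m) ≠ jf i := fun e => hik (jf_injective e).symm
  apply eq_blockExt
  · intro p q
    fin_cases p <;> fin_cases q <;>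
      simp [wlM, idx, Matrix.single_apply, Matrix.one_apply, h1, h6, h1.symm, h6.symm, ie_ne_jf,
        (ie_ne_jf _ _).symm]
  · intro r s hr
    obtain ⟨e1, e2, e3, e4⟩ := notin_range_idx hr
    simp [wlM, Matrix.single_apply, Matrix.one_apply, e1.symm, e2.symm, e3.symm, e4.symm]
  · intro r s hs
    obtain ⟨e1, e2, e3, e4⟩ := notin_range_idx hs
    simp [wlM, Matrix.single_apply, Matrix.one_apply, e1.symm, e2.symm, e3.symm, e4.symm]

/-- the 4x4 identity behind the rank one relation -/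
theorem four_identity (t t' : F) (e1 : t * t' = -1) :
    (!![-t', -1, 0, 0; 0, t, 0, 0; 0, 0, -t', 1; 0, 0, 0, t] : Matrix (Fin 4) (Fin 4) F) *
      ((!![0, 1, 0, 0; -1, 0, 0, 0; 0, 0, 0, -1; 0, 0, 1, 0] : Matrix (Fin 4) (Fin 4) F) *
        !![1, t', 0, 0; 0, 1, 0, 0; 0, 0, 1, -t'; 0, 0, 0, 1] *
        !![0, 1, 0, 0; -1, 0, 0, 0; 0, 0, 0, -1; 0, 0, 1, 0]) =
    (!![0, 1, 0, 0; -1, 0, 0, 0; 0, 0, 0, -1; 0, 0, 1, 0] : Matrix (Fin 4) (Fin 4) F) *
      !![1, t, 0, 0; 0, 1, 0, 0; 0, 0, 1, -t; 0, 0, 0, 1] := by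
  ext p q
  fin_cases p <;> fin_cases q <;>
    simp [Matrix.mul_apply, Fin.sum_univ_four]
  all_goals first
    | linear_combination e1
    | linear_combination -e1
    | ring

theorem r3L (i k : Fin m) (hlt : i < k) (t : F) (ht : t ≠ 0) :
    ∃ b ∈ Boo m F, ∃ t' : F, wl (ie i) (ie k) * lx (ie i) (ie k) t * (wl (ie i) (ie k))⁻¹ =
      b * wl (ie i) (ie k) * lx (ie i) (ie k) t' := by
  have hik : i ≠ k := hlt.ne
  have hok : LxOK (ie i : I m) (ie k) := lxOK_ie hik
  set w := wl (ie i : I m) (ie k) (F := F) with hw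
  set x := lx (ie i : I m) (ie k) t with hx
  set x' := lx (ie i : I m) (ie k) (-t⁻¹) with hx'
  have hwv : φ m F w = wlM (ie i) (ie k) := wl_val hok
  have hxv : φ m F x = lxM (ie i) (ie k) t := lx_val hok t
  have hxv' : φ m F x' = lxM (ie i) (ie k) (-t⁻¹) := lx_val hok _
  have heq : w * x * w⁻¹ = (w * x * w⁻¹) * (w * x')⁻¹ * w * x' := by group
  refine ⟨(w * x * w⁻¹) * (w * x')⁻¹, ?_, -t⁻¹, heq⟩
  have e1 : ((w * x * w⁻¹) * (w * x')⁻¹) * (w * x' * w) = w * x := by group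
  have e2 : φ m F ((w * x * w⁻¹) * (w * x')⁻¹) *
      (wlM (ie i) (ie k) * lxM (ie i) (ie k) (-t⁻¹) * wlM (ie i) (ie k)) =
      wlM (ie i) (ie k) * lxM (ie i) (ie k) t := by
    have := congrArg (φ m F) e1
    rw [map_mul, map_mul (φ m F) (w * x') w, map_mul (φ m F) w x', map_mul (φ m F) w x, hwv, hxv,
      hxv'] at this
    exact this
  have e3 : blockExt (idx i k) (idx_injective hik)
        (!![t⁻¹, -1, 0, 0; 0, t, 0, 0; 0, 0, t⁻¹, 1; 0, 0, 0, t] : Matrix (Fin 4) (Fin 4) F) *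
      (wlM (ie i) (ie k) * lxM (ie i) (ie k) (-t⁻¹) * wlM (ie i) (ie k)) =
      wlM (ie i) (ie k) * lxM (ie i) (ie k) t := by
    rw [wlM_eq hik, lxM_eq hik, lxM_eq hik, blockExt_mul, blockExt_mul, blockExt_mul, blockExt_mul]
    congr 1
    have := four_identity t (-t⁻¹) (by field_simp)
    simpa using this
  have e4 : (wlM (ie i) (ie k) * lxM (ie i) (ie k) (-t⁻¹) * wlM (ie i) (ie k)) *
      φ m F (w * x' * w)⁻¹ = 1 := by
    rw [← hwv, ← hxv', ← map_mul, ← map_mul, ← map_mul, mul_inv_cancel, map_one]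
  have key : φ m F ((w * x * w⁻¹) * (w * x')⁻¹) = blockExt (idx i k) (idx_injective hik)
        (!![t⁻¹, -1, 0, 0; 0, t, 0, 0; 0, 0, t⁻¹, 1; 0, 0, 0, t] : Matrix (Fin 4) (Fin 4) F) := by
    calc φ m F ((w * x * w⁻¹) * (w * x')⁻¹)
        = φ m F ((w * x * w⁻¹) * (w * x')⁻¹) *
            ((wlM (ie i) (ie k) * lxM (ie i) (ie k) (-t⁻¹) * wlM (ie i) (ie k)) *
              φ m F (w * x' * w)⁻¹) := by
          rw [e4, mul_one]
      _ = (wlM (ie i) (ie k) * lxM (ie i) (ie k) t) * φ m F (w * x' * w)⁻¹ := by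
          rw [← Matrix.mul_assoc, e2]
      _ = blockExt (idx i k) (idx_injective hik)
            (!![t⁻¹, -1, 0, 0; 0, t, 0, 0; 0, 0, t⁻¹, 1; 0, 0, 0, t] : Matrix (Fin 4) (Fin 4) F) *
            ((wlM (ie i) (ie k) * lxM (ie i) (ie k) (-t⁻¹) * wlM (ie i) (ie k)) *
              φ m F (w * x' * w)⁻¹) := by
          rw [← Matrix.mul_assoc, e3]
      _ = _ := by rw [e4, mul_one]
  rw [mem_Boo]
  intro r s hsr
  rw [key]
  apply blockExt_upperH (Cfsg.Agent.Lib.Helper68_StOoDefs.ht m) (idx i k) (idx_injective hik)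
  · intro p q hqp
    have hi := i.2
    have hk := k.2
    have hlt' : i.val < k.val := hlt
    fin_cases p <;> fin_cases q <;> first
      | rfl
      | (exfalso; simp [idx] at hqp; done)
      | (exfalso; simp [idx] at hqp; omega)
  · exact hsr

end Cfsg.Agent.Lib.Helper69_StOo_R3L
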