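import Mathlib
import Cfsg.Agent.Lib.Helper68_StOoDefs
import Cfsg.Agent.Lib.Helper69_BlockEmb
import Cfsg.Agent.Lib.Helper69_StOo_R3L

set_option autoImplicit false
set_option linter.unusedSectionVars false
set_option linter.unusedVariables false

/-!
# S2547 package R3S (architect helper68): the rank one relation for the short root of `Ω_{2m+1}(q)`.

Method: all matrices are block extensions (`Helper69_BlockEmb.blockExt`) of explicit 3x3 matrices on the indices
`ie i, z0, jf i`.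
-/

namespace Cfsg.Agent.Lib.Helper69_StOo_R3S

open Matrix Cfsg.Agent.Lib.Helper68_MatGrp Cfsg.Agent.Lib.Helper68_StOoDefs
  Cfsg.Agent.Lib.Helper69_BlockEmb

variable {m : ℕ} {F : Type*} [Field F] [Fintype F] [NeZero (2 : F)]

/-- the three indices `e_i, w₀, f_i` -/
def idx (i : Fin m) : Fin 3 → I m := ![ie i, z0, jf i]

theorem idx_injective (i : Fin m) : Function.Injective (idx i) := by
  intro p q h
  fin_cases p <;> fin_cases q <;> first
    | rfl
    | (exfalso; revert h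
       simp [idx, ie_ne_jf, (ie_ne_jf _ _).symm, ie_ne_z0, jf_ne_z0, (ie_ne_z0 _).symm,
         (jf_ne_z0 _).symm])

theorem notin_range_idx {i : Fin m} {r : I m} (hr : r ∉ Set.range (idx i)) :
    r ≠ ie i ∧ r ≠ z0 ∧ r ≠ jf i := by
  refine ⟨fun h => hr ⟨0, h.symm⟩, fun h => hr ⟨1, h.symm⟩, fun h => hr ⟨2, h.symm⟩⟩

theorem sxM_eq (i : Fin m) (t : F) :
    sxM (ie i) t = blockExt (idx i) (idx_injective i)
      !![1, -(2 * t), -t ^ 2; 0, 1, t; 0, 0, 1] := by
  apply eq_blockExt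
  · intro p q
    fin_cases p <;> fin_cases q <;>
      simp [sxM, idx, Matrix.single_apply, Matrix.one_apply, ie_ne_jf, (ie_ne_jf _ _).symm,
        ie_ne_z0, jf_ne_z0, (ie_ne_z0 _).symm, (jf_ne_z0 _).symm]
  · intro r s hr
    obtain ⟨e1, e2, e3⟩ := notin_range_idx hr
    simp [sxM, Matrix.single_apply, Matrix.one_apply, e1.symm, e2.symm, e3.symm]
  · intro r s hs
    obtain ⟨e1, e2, e3⟩ := notin_range_idx hs
    simp [sxM, Matrix.single_apply, Matrix.one_apply, e1.symm, e2.symm, e3.symm]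

theorem wsM_eq (i : Fin m) :
    (wsM (ie i) : Matrix (I m) (I m) F) = blockExt (idx i) (idx_injective i)
      !![0, 0, -1; 0, -1, 0; -1, 0, 0] := by
  apply eq_blockExt
  · intro p q
    fin_cases p <;> fin_cases q <;>
      simp [wsM, idx, Matrix.single_apply, Matrix.one_apply, ie_ne_jf, (ie_ne_jf _ _).symm,
        ie_ne_z0, jf_ne_z0, (ie_ne_z0 _).symm, (jf_ne_z0 _).symm]
    norm_num
  · intro r s hr
    obtain ⟨e1, e2, e3⟩ := notin_range_idx hr
    simp [wsM, Matrix.single_apply, Matrix.one_apply, e1.symm, e2.symm, e3.symm]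
  · intro r s hs
    obtain ⟨e1, e2, e3⟩ := notin_range_idx hs
    simp [wsM, Matrix.single_apply, Matrix.one_apply, e1.symm, e2.symm, e3.symm]

/-- the 3x3 identity behind the rank one relation -/
theorem three_identity (t t' : F) (e1 : t * t' = -1) :
    (!![t' ^ 2, -(2 * t'), -1; 0, 1, -t; 0, 0, t ^ 2] : Matrix (Fin 3) (Fin 3) F) *
      ((!![0, 0, -1; 0, -1, 0; -1, 0, 0] : Matrix (Fin 3) (Fin 3) F) *
        !![1, -(2 * t'), -t' ^ 2; 0, 1, t'; 0, 0, 1] * !![0, 0, -1; 0, -1, 0; -1, 0, 0]) =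
    (!![0, 0, -1; 0, -1, 0; -1, 0, 0] : Matrix (Fin 3) (Fin 3) F) *
      !![1, -(2 * t), -t ^ 2; 0, 1, t; 0, 0, 1] := by
  ext p q
  fin_cases p <;> fin_cases q <;>
    simp [Matrix.mul_apply, Fin.sum_univ_three]
  all_goals first
    | ring1
    | linear_combination e1
    | linear_combination (t') * e1
    | linear_combination (-t') * e1
    | linear_combination (2 : F) * e1
    | linear_combination (-2 : F) * e1
    | linear_combination (-(t * t' - 1)) * e1
    | linear_combination ((t * t' - 1)) * e1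
    | linear_combination (-2 * t) * e1
    | linear_combination (2 * t) * e1

theorem r3S (i : Fin m) (t : F) (ht : t ≠ 0) :
    ∃ b ∈ Boo m F, ∃ t' : F, ws (ie i) * sx (ie i) t * (ws (ie i))⁻¹ =
      b * ws (ie i) * sx (ie i) t' := by
  have hz : (ie i : I m) ≠ z0 := ie_ne_z0 i
  set w := ws (ie i : I m) (F := F) with hw
  set x := sx (ie i : I m) t with hx
  set x' := sx (ie i : I m) (-t⁻¹) with hx'
  have hwv : φ m F w = wsM (ie i) := ws_val hz
  have hxv : φ m F x = sxM (ie i) t := sx_val hz t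
  have hxv' : φ m F x' = sxM (ie i) (-t⁻¹) := sx_val hz _
  have heq : w * x * w⁻¹ = (w * x * w⁻¹) * (w * x')⁻¹ * w * x' := by group
  refine ⟨(w * x * w⁻¹) * (w * x')⁻¹, ?_, -t⁻¹, heq⟩
  have e1 : ((w * x * w⁻¹) * (w * x')⁻¹) * (w * x' * w) = w * x := by group
  have e2 : φ m F ((w * x * w⁻¹) * (w * x')⁻¹) *
      (wsM (ie i) * sxM (ie i) (-t⁻¹) * wsM (ie i)) = wsM (ie i) * sxM (ie i) t := by
    have := congrArg (φ m F) e1
    rw [map_mul, map_mul (φ m F) (w * x') w, map_mul (φ m F) w x', map_mul (φ m F) w x, hwv, hxv,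
      hxv'] at this
    exact this
  have e3 : blockExt (idx i) (idx_injective i)
        (!![(-t⁻¹) ^ 2, -(2 * -t⁻¹), -1; 0, 1, -t; 0, 0, t ^ 2] : Matrix (Fin 3) (Fin 3) F) *
      (wsM (ie i) * sxM (ie i) (-t⁻¹) * wsM (ie i)) = wsM (ie i) * sxM (ie i) t := by
    rw [wsM_eq i, sxM_eq i, sxM_eq i, blockExt_mul, blockExt_mul, blockExt_mul, blockExt_mul]
    congr 1
    exact three_identity t (-t⁻¹) (by field_simp)
  have e4 : (wsM (ie i) * sxM (ie i) (-t⁻¹) * wsM (ie i)) * φ m F (w * x' * w)⁻¹ = 1 := by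
    rw [← hwv, ← hxv', ← map_mul, ← map_mul, ← map_mul, mul_inv_cancel, map_one]
  have key : φ m F ((w * x * w⁻¹) * (w * x')⁻¹) = blockExt (idx i) (idx_injective i)
        (!![(-t⁻¹) ^ 2, -(2 * -t⁻¹), -1; 0, 1, -t; 0, 0, t ^ 2] : Matrix (Fin 3) (Fin 3) F) := by
    calc φ m F ((w * x * w⁻¹) * (w * x')⁻¹)
        = φ m F ((w * x * w⁻¹) * (w * x')⁻¹) *
            ((wsM (ie i) * sxM (ie i) (-t⁻¹) * wsM (ie i)) * φ m F (w * x' * w)⁻¹) := by
          rw [e4, mul_one]
      _ = (wsM (ie i) * sxM (ie i) t) * φ m F (w * x' * w)⁻¹ := by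
          rw [← Matrix.mul_assoc, e2]
      _ = blockExt (idx i) (idx_injective i)
            (!![(-t⁻¹) ^ 2, -(2 * -t⁻¹), -1; 0, 1, -t; 0, 0, t ^ 2] : Matrix (Fin 3) (Fin 3) F) *
            ((wsM (ie i) * sxM (ie i) (-t⁻¹) * wsM (ie i)) * φ m F (w * x' * w)⁻¹) := by
          rw [← Matrix.mul_assoc, e3]
      _ = _ := by rw [e4, mul_one]
  rw [mem_Boo]
  intro r s hsr
  rw [key]
  apply Cfsg.Agent.Lib.Helper69_StOo_R3L.blockExt_upperH (Cfsg.Agent.Lib.Helper68_StOoDefs.ht m)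
    (idx i) (idx_injective i)
  · intro p q hqp
    have hi := i.2
    fin_cases p <;> fin_cases q <;> first
      | rfl
      | (exfalso; simp [idx] at hqp; done)
      | (exfalso; simp [idx] at hqp; omega)
  · exact hsr

end Cfsg.Agent.Lib.Helper69_StOo_R3S
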