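import Mathlib
import Cfsg.Agent.Lib.Helper68_StOoDefs
import Cfsg.Agent.Lib.Helper68_StAbs

/-!
# S2547 package SQ (architect helper68): squares of the Weyl representatives are diagonal
-/

set_option autoImplicit false
set_option linter.unusedSimpArgs false

namespace Cfsg.Agent.Lib.Helper70_StOo_SQ

open Matrix Cfsg.Agent.Lib.Helper68_MatGrp Cfsg.Agent.Lib.Helper68_StOoDefs

variable {m : ℕ} {F : Type*} [Field F] [Fintype F] [NeZero (2 : F)]

omit [Fintype F] [NeZero (2 : F)] in
theorem wlM_sq {a c : I m} (h : LxOK a c) :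
    (wlM a c : Matrix (I m) (I m) F) * wlM a c =
      1 - single a a 2 - single c c 2 - single (op a) (op a) 2 - single (op c) (op c) 2 := by
  obtain ⟨ha, hc, hca, hca'⟩ := h
  have h1 : a ≠ op a := fun e => ha (op_eq_self_iff.mp e.symm)
  have h2 : c ≠ op c := fun e => hc (op_eq_self_iff.mp e.symm)
  have h3 : op a ≠ c := fun e => hca' e.symm
  have h4 : a ≠ c := fun e => hca e.symm
  have h5 : op c ≠ op a := fun e => hca (op_injective e)
  have h6 : op c ≠ a := fun e => hca' (by rw [← e, op_op])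
  unfold wlM
  simp only [Matrix.add_mul, Matrix.sub_mul, Matrix.mul_add, Matrix.mul_sub, Matrix.one_mul,
    Matrix.mul_one, Matrix.single_mul_single_same,
    Matrix.single_mul_single_of_ne _ _ _ _ h1, Matrix.single_mul_single_of_ne _ _ _ _ h1.symm,
    Matrix.single_mul_single_of_ne _ _ _ _ h2, Matrix.single_mul_single_of_ne _ _ _ _ h2.symm,
    Matrix.single_mul_single_of_ne _ _ _ _ h3, Matrix.single_mul_single_of_ne _ _ _ _ h3.symm,
    Matrix.single_mul_single_of_ne _ _ _ _ h4, Matrix.single_mul_single_of_ne _ _ _ _ h4.symm,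
    Matrix.single_mul_single_of_ne _ _ _ _ h5, Matrix.single_mul_single_of_ne _ _ _ _ h5.symm,
    Matrix.single_mul_single_of_ne _ _ _ _ h6, Matrix.single_mul_single_of_ne _ _ _ _ h6.symm,
    mul_one, mul_neg, neg_mul, ← Matrix.single_neg, neg_neg, Matrix.zero_mul, Matrix.mul_zero,
    Matrix.neg_mul, Matrix.mul_neg, sub_zero, add_zero, zero_add, zero_sub, neg_zero]
  obtain ⟨E, hE⟩ : ∃ E : I m → I m → Matrix (I m) (I m) F, ∀ i j (c : F), single i j c = c • E i j :=
    ⟨fun i j => single i j 1, fun i j c => by rw [Matrix.smul_single, smul_eq_mul, mul_one]⟩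
  simp only [hE]
  module

omit [Fintype F] [NeZero (2 : F)] in
theorem wsM_sq {a : I m} (ha : a ≠ z0) :
    (wsM a : Matrix (I m) (I m) F) * wsM a = 1 := by
  have h1 : a ≠ op a := fun e => ha (op_eq_self_iff.mp e.symm)
  have h3 : op a ≠ z0 := fun e => ha (op_eq_z0_iff.mp e)
  unfold wsM
  simp only [Matrix.add_mul, Matrix.sub_mul, Matrix.mul_add, Matrix.mul_sub, Matrix.one_mul,
    Matrix.mul_one, Matrix.single_mul_single_same,
    Matrix.single_mul_single_of_ne _ _ _ _ h1, Matrix.single_mul_single_of_ne _ _ _ _ h1.symm,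
    Matrix.single_mul_single_of_ne _ _ _ _ h3, Matrix.single_mul_single_of_ne _ _ _ _ h3.symm,
    Matrix.single_mul_single_of_ne _ _ _ _ ha, Matrix.single_mul_single_of_ne _ _ _ _ ha.symm,
    mul_one, mul_neg, neg_mul, ← Matrix.single_neg, neg_neg, Matrix.zero_mul, Matrix.mul_zero,
    Matrix.neg_mul, Matrix.mul_neg, sub_zero, add_zero, zero_add, zero_sub, neg_zero, one_pow]
  obtain ⟨E, hE⟩ : ∃ E : I m → I m → Matrix (I m) (I m) F, ∀ i j (c : F), single i j c = c • E i j :=
    ⟨fun i j => single i j 1, fun i j c => by rw [Matrix.smul_single, smul_eq_mul, mul_one]⟩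
  simp only [hE]
  module

omit [Fintype F] [NeZero (2 : F)] in
theorem single_diag_apply_ne (d x y : I m) (hxy : x ≠ y) (t : F) : single d d t x y = 0 := by
  rw [Matrix.single_apply, if_neg]
  rintro ⟨h1, h2⟩
  exact hxy (h1.symm.trans h2)

theorem wl_sq {a c : I m} (h : LxOK a c) : (wl a c : GO m F) * wl a c ∈ Too m F := by
  rw [mem_Too]
  intro x y hxy
  rw [map_mul, wl_val h, wlM_sq h]
  simp only [Matrix.sub_apply, Matrix.one_apply_ne hxy, single_diag_apply_ne _ _ _ hxy, sub_zero]

theorem ws_sq {a : I m} (ha : a ≠ z0) : (ws a : GO m F) * ws a ∈ Too m F := by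
  rw [mem_Too]
  intro x y hxy
  rw [map_mul, ws_val ha, wsM_sq ha, Matrix.one_apply_ne hxy]

end Cfsg.Agent.Lib.Helper70_StOo_SQ
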