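import Mathlib
import Cfsg.Agent.Lib.Helper68_StOoDefs
import Cfsg.Agent.Lib.Helper68_StAbs

/-!
stoo package OPPS (helper89, for helper68's S2547 market): conjugation of a short root element by its Weyl
representative.
-/

set_option autoImplicit false
set_option linter.unusedSimpArgs false
set_option linter.unusedSectionVars false

namespace Cfsg.Agent.Lib.Helper89_StOo_OPPS

open Matrix Cfsg.Agent.Lib.Helper68_MatGrp Cfsg.Agent.Lib.Helper68_StOoDefs

variable {m : ℕ} {F : Type*} [Field F] [Fintype F] [NeZero (2 : F)]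

/-- `x_a(t) w = w x_{op a}(t)` at the level of matrices. -/
theorem sxM_mul_wsM {a : I m} (ha : a ≠ z0) (t : F) :
    sxM a t * wsM a = wsM a * sxM (op a) t := by
  have h1 : a ≠ op a := fun e => ha (op_eq_self_iff.mp e.symm)
  have h3 : op a ≠ z0 := fun e => ha (op_eq_z0_iff.mp e)
  unfold sxM wsM
  rw [op_op]
  simp only [Matrix.add_mul, Matrix.sub_mul, Matrix.mul_add, Matrix.mul_sub, Matrix.one_mul,
    Matrix.mul_one, Matrix.single_mul_single_same,
    Matrix.single_mul_single_of_ne _ _ _ _ h1, Matrix.single_mul_single_of_ne _ _ _ _ h1.symm,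
    Matrix.single_mul_single_of_ne _ _ _ _ h3, Matrix.single_mul_single_of_ne _ _ _ _ h3.symm,
    Matrix.single_mul_single_of_ne _ _ _ _ ha, Matrix.single_mul_single_of_ne _ _ _ _ ha.symm,
    mul_one, one_mul, sub_zero, add_zero, zero_add, zero_sub]
  obtain ⟨E, hE⟩ : ∃ E : I m → I m → Matrix (I m) (I m) F, ∀ i j (c : F), single i j c = c • E i j :=
    ⟨fun i j => single i j 1, fun i j c => by rw [Matrix.smul_single, smul_eq_mul, mul_one]⟩
  simp only [hE]
  module

/-- `w x_a(t) = x_{op a}(t) w` at the level of matrices. -/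
theorem wsM_mul_sxM {a : I m} (ha : a ≠ z0) (t : F) :
    wsM a * sxM a t = sxM (op a) t * wsM a := by
  have h1 : a ≠ op a := fun e => ha (op_eq_self_iff.mp e.symm)
  have h3 : op a ≠ z0 := fun e => ha (op_eq_z0_iff.mp e)
  unfold sxM wsM
  rw [op_op]
  simp only [Matrix.add_mul, Matrix.sub_mul, Matrix.mul_add, Matrix.mul_sub, Matrix.one_mul,
    Matrix.mul_one, Matrix.single_mul_single_same,
    Matrix.single_mul_single_of_ne _ _ _ _ h1, Matrix.single_mul_single_of_ne _ _ _ _ h1.symm,
    Matrix.single_mul_single_of_ne _ _ _ _ h3, Matrix.single_mul_single_of_ne _ _ _ _ h3.symm,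
    Matrix.single_mul_single_of_ne _ _ _ _ ha, Matrix.single_mul_single_of_ne _ _ _ _ ha.symm,
    mul_one, one_mul, sub_zero, add_zero, zero_add, zero_sub]
  obtain ⟨E, hE⟩ : ∃ E : I m → I m → Matrix (I m) (I m) F, ∀ i j (c : F), single i j c = c • E i j :=
    ⟨fun i j => single i j 1, fun i j c => by rw [Matrix.smul_single, smul_eq_mul, mul_one]⟩
  simp only [hE]
  module

theorem oppS {a : I m} (ha : a ≠ z0) (t : F) : (ws a)⁻¹ * sx a t * ws a = sx (op a) t := by
  have h3 : op a ≠ z0 := fun e => ha (op_eq_z0_iff.mp e)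
  have key : sx a t * ws a = ws a * sx (op a) t := by
    apply φ_injective
    rw [map_mul, map_mul, ws_val ha, sx_val ha, sx_val h3]
    exact sxM_mul_wsM ha t
  rw [mul_assoc, key, ← mul_assoc, inv_mul_cancel, one_mul]

theorem oppS' {a : I m} (ha : a ≠ z0) (t : F) : ws a * sx a t * (ws a)⁻¹ = sx (op a) t := by
  have h3 : op a ≠ z0 := fun e => ha (op_eq_z0_iff.mp e)
  have key : ws a * sx a t = sx (op a) t * ws a := by
    apply φ_injective
    rw [map_mul, map_mul, ws_val ha, sx_val ha, sx_val h3]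
    exact wsM_mul_sxM ha t
  rw [key, mul_assoc, mul_inv_cancel, mul_one]

end Cfsg.Agent.Lib.Helper89_StOo_OPPS
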