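/- Helper68_StOo: assembly of the Steinberg character of POmega_(2m+1)(q), q odd (S2547), from the stoo market packages
   (helper9/22/31/36/38/54/55/61/69/70/77/88/89) + Helper68_StAbs (abstract BN-pair Steinberg) + Helper27_StSU_GENERIC.  helper68. -/
import Mathlib
import Cfsg.Agent.Lib.Helper68_StOoDefs
import Cfsg.Agent.Lib.Helper68_StAbs
import Cfsg.Agent.Lib.Helper27_StSU_GENERIC
import Cfsg.Agent.Lib.Helper31_StOo_SWAP
import Cfsg.Agent.Lib.Helper70_StOo_MONOW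
import Cfsg.Agent.Lib.Helper22_StOo_R1L
import Cfsg.Agent.Lib.Helper22_StOo_R1S
import Cfsg.Agent.Lib.Helper89_StOo_OPPL
import Cfsg.Agent.Lib.Helper89_StOo_OPPS
import Cfsg.Agent.Lib.Helper36_StOo_R2L
import Cfsg.Agent.Lib.Helper36_StOo_R2S
import Cfsg.Agent.Lib.Helper69_StOo_R3L
import Cfsg.Agent.Lib.Helper69_StOo_R3S
import Cfsg.Agent.Lib.Helper31_StOo_XB
import Cfsg.Agent.Lib.Helper70_StOo_SQ
import Cfsg.Agent.Lib.Helper55_StOo_INJ
import Cfsg.Agent.Lib.Helper70_StOo_JREV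
import Cfsg.Agent.Lib.Helper88_StOo_GENA
import Cfsg.Agent.Lib.Helper88_StOo_GENB
import Cfsg.Agent.Lib.Helper38_StOo_GEN
import Cfsg.Agent.Lib.Helper38_StOo_SIEGB
import Cfsg.Agent.Lib.Helper77_StOo_PGRP
import Cfsg.Agent.Lib.Helper9_StOo_TORUS
import Cfsg.Agent.Lib.Helper61_StOo_UMEM
import Cfsg.Agent.Lib.Helper54_StOo_CARDB
import Cfsg.Agent.Lib.Helper61_StOo_LOW

set_option autoImplicit false
set_option linter.unusedSectionVars false
set_option linter.unusedVariables false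

namespace Cfsg.Agent.Lib.Helper68_StOo

open Matrix Cfsg.Agent.Lib.Helper68_MatGrp Cfsg.Agent.Lib.Helper68_StOoDefs

variable {m : ℕ} {F : Type*} [Field F] [Fintype F] [NeZero (2 : F)]

/-! ## PACKAGES (statements) -/

/-- SWAP -/
theorem mono_op {n : GO m F} {σ : Equiv.Perm (I m)} (hn : IsMono (φ m F) n σ) (a : I m) :
    σ (op a) = op (σ a) :=
  Cfsg.Agent.Lib.Helper31_StOo_SWAP.mono_op hn a

/-- MONOW -/
theorem wl_isMono {a c : I m} (h : LxOK a c) :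
    IsMono (φ m F) (wl a c) (Equiv.swap a c * Equiv.swap (op a) (op c)) :=
  Cfsg.Agent.Lib.Helper70_StOo_MONOW.wl_isMono h

theorem ws_isMono {a : I m} (ha : a ≠ z0) : IsMono (φ m F) (ws a) (Equiv.swap a (op a)) :=
  Cfsg.Agent.Lib.Helper70_StOo_MONOW.ws_isMono ha

/-- R1L -/
theorem r1L (i k : Fin m) (hk : i.val + 1 = k.val) (b : GO m F) (hb : b ∈ Boo m F) :
    ∃ t : F, wl (ie i) (ie k) * (b * (lx (ie i) (ie k) t)⁻¹) * (wl (ie i) (ie k))⁻¹ ∈ Boo m F :=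
  Cfsg.Agent.Lib.Helper22_StOo_R1L.r1L i k hk b hb

/-- R1S -/
theorem r1S (i : Fin m) (hi : i.val + 1 = m) (b : GO m F) (hb : b ∈ Boo m F) :
    ∃ t : F, ws (ie i) * (b * (sx (ie i) t)⁻¹) * (ws (ie i))⁻¹ ∈ Boo m F :=
  Cfsg.Agent.Lib.Helper22_StOo_R1S.r1S i hi b hb

/-- OPPL -/
theorem oppL {a c : I m} (h : LxOK a c) (t : F) :
    (wl a c)⁻¹ * lx a c t * wl a c = lx c a (-t) :=
  Cfsg.Agent.Lib.Helper89_StOo_OPPL.oppL h t

theorem oppL' {a c : I m} (h : LxOK a c) (t : F) :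
    wl a c * lx a c t * (wl a c)⁻¹ = lx c a (-t) :=
  Cfsg.Agent.Lib.Helper89_StOo_OPPL.oppL' h t

/-- OPPS -/
theorem oppS {a : I m} (ha : a ≠ z0) (t : F) : (ws a)⁻¹ * sx a t * ws a = sx (op a) t :=
  Cfsg.Agent.Lib.Helper89_StOo_OPPS.oppS ha t

theorem oppS' {a : I m} (ha : a ≠ z0) (t : F) : ws a * sx a t * (ws a)⁻¹ = sx (op a) t :=
  Cfsg.Agent.Lib.Helper89_StOo_OPPS.oppS' ha t

/-- R2L -/
theorem r2L (i k : Fin m) (hik : i ≠ k) (n : GO m F) (σ : Equiv.Perm (I m))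
    (hn : IsMono (φ m F) n σ) (hsw : ∀ a, σ (op a) = op (σ a)) :
    (∀ t : F, n⁻¹ * lx (ie i) (ie k) t * n ∈ Boo m F) ∨
      (∀ t : F, n⁻¹ * lx (ie k) (ie i) t * n ∈ Boo m F) :=
  Cfsg.Agent.Lib.Helper36_StOo_R2L.r2L i k hik n σ hn hsw

/-- R2S -/
theorem r2S (i : Fin m) (n : GO m F) (σ : Equiv.Perm (I m))
    (hn : IsMono (φ m F) n σ) (hsw : ∀ a, σ (op a) = op (σ a)) :
    (∀ t : F, n⁻¹ * sx (ie i) t * n ∈ Boo m F) ∨ (∀ t : F, n⁻¹ * sx (jf i) t * n ∈ Boo m F) :=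
  Cfsg.Agent.Lib.Helper36_StOo_R2S.r2S i n σ hn hsw

/-- R3L -/
theorem r3L (i k : Fin m) (hlt : i < k) (t : F) (ht : t ≠ 0) :
    ∃ b ∈ Boo m F, ∃ t' : F, wl (ie i) (ie k) * lx (ie i) (ie k) t * (wl (ie i) (ie k))⁻¹ =
      b * wl (ie i) (ie k) * lx (ie i) (ie k) t' :=
  Cfsg.Agent.Lib.Helper69_StOo_R3L.r3L i k hlt t ht

/-- R3S -/
theorem r3S (i : Fin m) (t : F) (ht : t ≠ 0) :
    ∃ b ∈ Boo m F, ∃ t' : F, ws (ie i) * sx (ie i) t * (ws (ie i))⁻¹ =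
      b * ws (ie i) * sx (ie i) t' :=
  Cfsg.Agent.Lib.Helper69_StOo_R3S.r3S i t ht

/-- XB -/
theorem lx_mem_Boo (i k : Fin m) (hlt : i < k) (t : F) : lx (ie i) (ie k) t ∈ Boo m F :=
  Cfsg.Agent.Lib.Helper31_StOo_XB.lx_mem_Boo i k hlt t

theorem sx_mem_Boo (i : Fin m) (t : F) : sx (ie i) t ∈ Boo m F :=
  Cfsg.Agent.Lib.Helper31_StOo_XB.sx_mem_Boo i t

theorem lx_not_mem_Boo (i k : Fin m) (hlt : i < k) (t : F) (ht : t ≠ 0) :
    lx (ie k) (ie i) t ∉ Boo m F :=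
  Cfsg.Agent.Lib.Helper31_StOo_XB.lx_not_mem_Boo i k hlt t ht

theorem sx_not_mem_Boo (i : Fin m) (t : F) (ht : t ≠ 0) : sx (jf i) t ∉ Boo m F :=
  Cfsg.Agent.Lib.Helper31_StOo_XB.sx_not_mem_Boo i t ht

/-- SQ -/
theorem wl_sq {a c : I m} (h : LxOK a c) : (wl a c : GO m F) * wl a c ∈ Too m F :=
  Cfsg.Agent.Lib.Helper70_StOo_SQ.wl_sq h

theorem ws_sq {a : I m} (ha : a ≠ z0) : (ws a : GO m F) * ws a ∈ Too m F :=
  Cfsg.Agent.Lib.Helper70_StOo_SQ.ws_sq ha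

/-- INJ -/
theorem ss_inj (i j : Fin m) (h : (ss i : GO m F)⁻¹ * ss j ∈ Boo m F) : i = j :=
  Cfsg.Agent.Lib.Helper55_StOo_INJ.ss_inj i j h

/-- JREV -/
theorem exists_rev : ∃ n : GO m F, IsMono (φ m F) n opE :=
  Cfsg.Agent.Lib.Helper70_StOo_JREV.exists_rev

/-- GENA -/
theorem genA (hm : 0 < m) (a : I m) (ha : a ≠ z0) :
    ∃ n ∈ Subgroup.closure (Set.range (ss (m := m) (F := F))), ∃ ε : F,
      φ m F n *ᵥ (Pi.single (ie ⟨0, hm⟩) 1) = Pi.single a ε :=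
  Cfsg.Agent.Lib.Helper88_StOo_GENA.genA hm a ha

/-- GENB -/
theorem genB (w : I m → F) (hw : w ≠ 0) (hQ : Cfsg.quadFormOdd m F w = 0) :
    ∃ b ∈ Boo m F, ∃ a : I m, a ≠ z0 ∧ ∃ α : F, φ m F b *ᵥ (Pi.single a α) = w :=
  Cfsg.Agent.Lib.Helper88_StOo_GENB.genB w hw hQ

/-- GEN -/
theorem sup_eq_top_of_gen (hm : 2 ≤ m)
    (hA : ∀ a : I m, a ≠ z0 → ∃ n ∈ Subgroup.closure (Set.range (ss (m := m) (F := F))), ∃ ε : F,
      φ m F n *ᵥ (Pi.single (ie ⟨0, by omega⟩) 1) = Pi.single a ε)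
    (hB : ∀ w : I m → F, w ≠ 0 → Cfsg.quadFormOdd m F w = 0 →
      ∃ b ∈ Boo m F, ∃ a : I m, a ≠ z0 ∧ ∃ α : F, φ m F b *ᵥ (Pi.single a α) = w)
    (hX : ∀ g : GO m F, (∃ (v : I m → F) (β c : F), φ m F g =
      Cfsg.siegelMatrix (Cfsg.quadFormOdd m F) (Pi.single (ie ⟨0, by omega⟩) β) v c) → g ∈ Boo m F) :
    Boo m F ⊔ Noo m F = ⊤ :=
  Cfsg.Agent.Lib.Helper38_StOo_GEN.sup_eq_top_of_gen hm hA hB hX

/-- SIEGB -/
theorem siegel_mem_Boo (hm : 0 < m) (g : GO m F) (v : I m → F) (β c : F)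
    (hg : φ m F g = Cfsg.siegelMatrix (Cfsg.quadFormOdd m F) (Pi.single (ie ⟨0, hm⟩) β) v c) :
    g ∈ Boo m F :=
  Cfsg.Agent.Lib.Helper38_StOo_SIEGB.siegel_mem_Boo hm g v β c hg

/-- PGRP -/
theorem isPGroup_UO (p : ℕ) [Fact p.Prime] [CharP F p] : IsPGroup p (UO m F) :=
  Cfsg.Agent.Lib.Helper77_StOo_PGRP.isPGroup_UO p

/-- TORUS -/
theorem not_dvd_card_Too (p : ℕ) [Fact p.Prime] [CharP F p] : ¬ p ∣ Nat.card (Too m F) :=
  Cfsg.Agent.Lib.Helper9_StOo_TORUS.not_dvd_card_Too p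

/-- UMEM -/
theorem UO_le : UO m F ≤ Cfsg.Omega F (Cfsg.quadFormOdd m F) :=
  Cfsg.Agent.Lib.Helper61_StOo_UMEM.UO_le

/-- CARDB -/
theorem card_Boo (hU : UO m F ≤ Cfsg.Omega F (Cfsg.quadFormOdd m F)) :
    Nat.card (Boo m F) = Nat.card (Too m F) * Nat.card (UO m F) :=
  Cfsg.Agent.Lib.Helper54_StOo_CARDB.card_Boo hU

/-- LOW -/
theorem steinberg_low (p : ℕ) [Fact p.Prime] [CharP F p] (hodd : Odd (Fintype.card F))
    (hm : m = 1 ∨ m = 2) :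
    ∃ χ : Cfsg.POmega F (Cfsg.quadFormOdd m F) → ℂ,
      Cfsg.IsIrrCharacter (Cfsg.POmega F (Cfsg.quadFormOdd m F)) χ ∧
      ∀ P : Sylow p (Cfsg.POmega F (Cfsg.quadFormOdd m F)), χ 1 = Nat.card P ∧
        ∀ x : Cfsg.POmega F (Cfsg.quadFormOdd m F), x ∈ P → x ≠ 1 → χ x = 0 :=
  Cfsg.Agent.Lib.Helper61_StOo_LOW.steinberg_low p hodd hm


/-! ## ASSEMBLY -/

theorem ss_mem_Moo (j : Fin m) : (ss j : GO m F) ∈ Moo m F := by
  by_cases h : j.val + 1 < m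
  · rw [ss_of_lt j h]
    exact ⟨_, wl_isMono (lxOK_ie (succ_ne j h))⟩
  · rw [ss_of_not_lt j h]
    exact ⟨_, ws_isMono (ie_ne_z0 j)⟩

theorem Noo_le_Moo : Noo m F ≤ Moo m F := by
  unfold Noo
  apply sup_le
  · rw [Subgroup.closure_le]
    rintro _ ⟨j, rfl⟩
    exact ss_mem_Moo j
  · exact Diag_le_Mono _

theorem Boo_inf_Noo : Boo m F ⊓ Noo m F = Too m F := by
  apply le_antisymm
  · rintro g ⟨hB, hN⟩
    exact mem_Diag_of_mono_of_UT (φ m F) (ht m) (ht_injective m) (Noo_le_Moo hN) hB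
  · apply le_inf
    · exact Diag_le_UT _ _
    · exact le_sup_right

theorem sup_eq_top (hm : 2 ≤ m) : Boo m F ⊔ Noo m F = ⊤ :=
  sup_eq_top_of_gen hm (fun a ha => genA (by omega) a ha) genB
    (fun g ⟨v, β, c, hg⟩ => siegel_mem_Boo (by omega) g v β c hg)

theorem xs_mem_Boo (j : Fin m) (t : F) : xs j t ∈ Boo m F := by
  by_cases h : j.val + 1 < m
  · rw [xs_of_lt j h]
    exact lx_mem_Boo _ _ (by rw [Fin.lt_def]; simp) t
  · rw [xs_of_not_lt j h]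
    exact sx_mem_Boo j t

theorem lxM_apply_ne {a c : I m} (hac : a ≠ c) (h : LxOK a c) (t : F) : lxM a c t a c = t := by
  unfold lxM
  have h1 : ¬ (op c = a ∧ op a = c) := fun e => h.2.2.2 e.2.symm
  rw [Matrix.sub_apply, Matrix.add_apply, Matrix.one_apply_ne hac, Matrix.single_apply_same,
    Matrix.single_apply, if_neg h1, zero_add, sub_zero]

theorem xs_eq_one_iff (j : Fin m) (t : F) : xs j t = 1 ↔ t = 0 := by
  constructor
  · intro h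
    by_cases hj : j.val + 1 < m
    · rw [xs_of_lt j hj] at h
      have hok := lxOK_ie (succ_ne j hj)
      have hne : (ie j : I m) ≠ ie ⟨j.val + 1, hj⟩ := fun e => succ_ne j hj (ie_injective e)
      have h1 := lxM_apply_ne hne hok t
      rw [← lx_val (F := F) hok, h, map_one, Matrix.one_apply_ne hne] at h1
      exact h1.symm
    · rw [xs_of_not_lt j hj] at h
      have h1 : sxM (ie j) t (z0 : I m) (jf j) = t := by
        unfold sxM
        have e1 : ¬ ((ie j : I m) = z0 ∧ (z0 : I m) = jf j) := fun e => ie_ne_z0 j e.1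
        have e2 : ¬ ((ie j : I m) = z0 ∧ op (ie j) = jf j) := fun e => ie_ne_z0 j e.1
        rw [Matrix.sub_apply, Matrix.sub_apply, Matrix.add_apply,
          Matrix.one_apply_ne (fun e => jf_ne_z0 j e.symm), op_ie, Matrix.single_apply_same,
          Matrix.single_apply, Matrix.single_apply, if_neg e1, if_neg (by rw [op_ie] at e2; exact e2)]
        ring
      rw [← sx_val (F := F) (ie_ne_z0 j), h, map_one,
        Matrix.one_apply_ne (fun e => jf_ne_z0 j e.symm)] at h1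
      exact h1.symm
  · rintro rfl
    exact xs_zero j

/-- the root-subgroup data of `Ω_{2m+1}(F)` -/
noncomputable def ooRDat (hm : 2 ≤ m) : Cfsg.Agent.Lib.Helper68_StAbs.RDat (GO m F) m where
  B := Boo m F
  N := Noo m F
  s := ss
  U := Us
  sup_eq_top := sup_eq_top hm
  conj_mem := by
    intro n hn t ht
    rw [Boo_inf_Noo] at ht
    exact Diag_le_UT _ _ (conj_mem_Diag (φ m F) (Noo_le_Moo hn) ht)
  s_mem := fun j => (le_sup_left : _ ≤ Noo m F) (Subgroup.subset_closure ⟨j, rfl⟩)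
  sq_mem := by
    intro j
    by_cases h : j.val + 1 < m
    · rw [ss_of_lt j h]
      exact Diag_le_UT _ _ (wl_sq (lxOK_ie (succ_ne j h)))
    · rw [ss_of_not_lt j h]
      exact Diag_le_UT _ _ (ws_sq (ie_ne_z0 j))
  inj := ss_inj
  closure_sup := by
    rw [Boo_inf_Noo]
    rfl
  U_le := by
    rintro j _ ⟨t, rfl⟩
    exact xs_mem_Boo j t
  r1 := by
    intro j b hb
    by_cases h : j.val + 1 < m
    · obtain ⟨t, ht⟩ := r1L j ⟨j.val + 1, h⟩ rfl b hb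
      refine ⟨xs j t, ⟨t, rfl⟩, ?_⟩
      rw [xs_of_lt j h, ss_of_lt j h]
      exact ht
    · obtain ⟨t, ht⟩ := r1S j (by have := j.2; omega) b hb
      refine ⟨xs j t, ⟨t, rfl⟩, ?_⟩
      rw [xs_of_not_lt j h, ss_of_not_lt j h]
      exact ht
  r2 := by
    intro j n hn
    obtain ⟨σ, hσ⟩ := Noo_le_Moo hn
    have hsw := mono_op hσ
    by_cases h : j.val + 1 < m
    · rcases r2L j ⟨j.val + 1, h⟩ (succ_ne j h) n σ hσ hsw with h1 | h1
      · left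
        rintro _ ⟨t, rfl⟩
        rw [xs_of_lt j h]
        exact h1 t
      · right
        rintro _ ⟨t, rfl⟩
        rw [xs_of_lt j h, ss_of_lt j h, oppL (lxOK_ie (succ_ne j h))]
        exact h1 (-t)
    · rcases r2S j n σ hσ hsw with h1 | h1
      · left
        rintro _ ⟨t, rfl⟩
        rw [xs_of_not_lt j h]
        exact h1 t
      · right
        rintro _ ⟨t, rfl⟩
        rw [xs_of_not_lt j h, ss_of_not_lt j h, oppS (ie_ne_z0 j), op_ie]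
        exact h1 t
  r3 := by
    rintro j _ ⟨t, rfl⟩ hu
    have ht : t ≠ 0 := fun h0 => hu ((xs_eq_one_iff j t).2 h0)
    by_cases h : j.val + 1 < m
    · obtain ⟨b, hb, t', e⟩ := r3L j ⟨j.val + 1, h⟩ (by rw [Fin.lt_def]; simp) t ht
      refine ⟨b, hb, xs j t', ⟨t', rfl⟩, ?_⟩
      rw [xs_of_lt j h, xs_of_lt j h, ss_of_lt j h]
      exact e
    · obtain ⟨b, hb, t', e⟩ := r3S j t ht
      refine ⟨b, hb, xs j t', ⟨t', rfl⟩, ?_⟩
      rw [xs_of_not_lt j h, xs_of_not_lt j h, ss_of_not_lt j h]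
      exact e
  r4 := by
    intro j
    refine ⟨xs j 1, ⟨1, rfl⟩, ?_⟩
    by_cases h : j.val + 1 < m
    · rw [xs_of_lt j h, ss_of_lt j h, oppL' (lxOK_ie (succ_ne j h))]
      exact lx_not_mem_Boo j ⟨j.val + 1, h⟩ (by rw [Fin.lt_def]; simp) (-1) (by simp)
    · rw [xs_of_not_lt j h, ss_of_not_lt j h, oppS' (ie_ne_z0 j), op_ie]
      exact sx_not_mem_Boo j 1 one_ne_zero

/-- **The Steinberg character of `PΩ_{2m+1}(F)`**, `m ≥ 2`. -/
theorem exists_steinberg_high (p : ℕ) [Fact p.Prime] [CharP F p] (hm : 2 ≤ m) :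
    ∃ χ : Cfsg.POmega F (Cfsg.quadFormOdd m F) → ℂ,
      Cfsg.IsIrrCharacter (Cfsg.POmega F (Cfsg.quadFormOdd m F)) χ ∧
      ∀ P : Sylow p (Cfsg.POmega F (Cfsg.quadFormOdd m F)), χ 1 = Nat.card P ∧
        ∀ x : Cfsg.POmega F (Cfsg.quadFormOdd m F), x ∈ P → x ≠ 1 → χ x = 0 := by
  classical
  have hp : p.Prime := Fact.out
  have hfin : Finite (GO m F) := Subtype.finite
  obtain ⟨g₀, hg₀⟩ := exists_rev (m := m) (F := F)
  obtain ⟨k, hk⟩ := (isPGroup_UO (m := m) (F := F) p).exists_card_eq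
  have hBT : Nat.card ((ooRDat (F := F) hm).B) =
      Nat.card ↥((ooRDat (F := F) hm).B ⊓ (ooRDat (F := F) hm).N) * p ^ k := by
    show Nat.card (Boo m F) = Nat.card ↥(Boo m F ⊓ Noo m F) * _
    rw [Boo_inf_Noo, card_Boo UO_le, hk]
  have hT : ¬ p ∣ Nat.card ↥((ooRDat (F := F) hm).B ⊓ (ooRDat (F := F) hm).N) := by
    show ¬ p ∣ Nat.card ↥(Boo m F ⊓ Noo m F)
    rw [Boo_inf_Noo]
    exact not_dvd_card_Too p
  refine Cfsg.Agent.Lib.Helper68_StAbs.exists_steinberg (ooRDat (F := F) hm) p k hBT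
    g₀ ?_ (Cfsg.Agent.Lib.Helper27_StSU_GENERIC.hG_of_hBT (ooRDat (F := F) hm) p k hBT hT)
    (Subgroup.center _) le_rfl (Cfsg.Agent.Lib.Helper27_StSU_GENERIC.center_le_B (ooRDat (F := F) hm))
  · intro b hb hc
    have hD : b ∈ Too m F := by
      apply mem_Diag_of_conj_rev (φ m F) (ht m) (ht_injective m) hg₀ _ hb hc
      intro a c hac
      show ht m (op c) < ht m (op a)
      rw [ht_op, ht_op]
      have := ht_le a
      have := ht_le c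
      omega
    exact (le_sup_right : Too m F ≤ Noo m F) hD

/-- **The Steinberg character of `PΩ_{2m+1}(F)`** (S2547). -/
theorem exists_steinberg_pomega_odd (p : ℕ) [Fact p.Prime] [CharP F p]
    (hodd : Odd (Fintype.card F)) (hm : 1 ≤ m) :
    ∃ χ : Cfsg.POmega F (Cfsg.quadFormOdd m F) → ℂ,
      Cfsg.IsIrrCharacter (Cfsg.POmega F (Cfsg.quadFormOdd m F)) χ ∧
      ∀ P : Sylow p (Cfsg.POmega F (Cfsg.quadFormOdd m F)), χ 1 = Nat.card P ∧
        ∀ x : Cfsg.POmega F (Cfsg.quadFormOdd m F), x ∈ P → x ≠ 1 → χ x = 0 := by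
  by_cases h : m = 1 ∨ m = 2
  · exact steinberg_low p hodd h
  · exact exists_steinberg_high p (by omega)

end Cfsg.Agent.Lib.Helper68_StOo
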