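import Mathlib
import Cfsg.Agent.Lib.Helper68_StOpDefs
import Cfsg.Agent.Lib.Helper68_StAbs
import Cfsg.Agent.Lib.Helper61_StOo_LOW
import Cfsg.Agent.S0188
import Cfsg.Agent.S0299
import Cfsg.Agent.S2544

/-!
S2548 (Steinberg character of `PΩ⁺_{2m}(q)`), market StOp (architect helper27), package LOW2: the case `m = 2`, `q ≥ 3` by
`PΩ⁺_4(F) ≅ PSL_2(F) × PSL_2(F)` (S0299), and the GENERAL lemma `steinberg_prod`: the Steinberg conclusion passes to direct products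
(product of the two characters, S0188).  helper68.
-/

set_option autoImplicit false
set_option linter.unusedSectionVars false

namespace Cfsg.Agent.Lib.Helper68_StOp_LOW2

open Matrix Cfsg.Agent.Lib.Helper68_MatGrp Cfsg.Agent.Lib.Helper68_StOpDefs

variable {m : ℕ} {F : Type*} [Field F] [Fintype F]

/-- a `p`-element lies in a Sylow `p`-subgroup -/
theorem exists_sylow_of_pow {K : Type*} [Group K] [Finite K] (p : ℕ) [Fact p.Prime] (x : K) (k : ℕ)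
    (hx : x ^ (p ^ k) = 1) : ∃ Q : Sylow p K, x ∈ Q := by
  have hp : IsPGroup p (Subgroup.zpowers x) := by
    intro y
    obtain ⟨y, hy⟩ := y
    obtain ⟨n, rfl⟩ := Subgroup.mem_zpowers_iff.mp hy
    refine ⟨k, ?_⟩
    apply Subtype.ext
    show (x ^ n) ^ (p ^ k) = 1
    rw [← zpow_natCast, ← _root_.zpow_mul, mul_comm, _root_.zpow_mul, zpow_natCast, hx, _root_.one_zpow]
  obtain ⟨Q, hQ⟩ := hp.exists_le_sylow
  exact ⟨Q, hQ (Subgroup.mem_zpowers x)⟩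

/-- The Steinberg conclusion passes to direct products. -/
theorem steinberg_prod {K₁ K₂ : Type*} [Group K₁] [Group K₂] [Finite K₁] [Finite K₂] (p : ℕ) [Fact p.Prime]
    (h₁ : ∃ χ : K₁ → ℂ, Cfsg.IsIrrCharacter K₁ χ ∧ ∀ P : Sylow p K₁, χ 1 = Nat.card P ∧
      ∀ x : K₁, x ∈ P → x ≠ 1 → χ x = 0)
    (h₂ : ∃ χ : K₂ → ℂ, Cfsg.IsIrrCharacter K₂ χ ∧ ∀ P : Sylow p K₂, χ 1 = Nat.card P ∧
      ∀ x : K₂, x ∈ P → x ≠ 1 → χ x = 0) :
    ∃ χ : K₁ × K₂ → ℂ, Cfsg.IsIrrCharacter (K₁ × K₂) χ ∧ ∀ P : Sylow p (K₁ × K₂), χ 1 = Nat.card P ∧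
      ∀ x : K₁ × K₂, x ∈ P → x ≠ 1 → χ x = 0 := by
  classical
  obtain ⟨χ₁, hχ₁, hP₁⟩ := h₁
  obtain ⟨χ₂, hχ₂, hP₂⟩ := h₂
  refine ⟨fun x => χ₁ x.1 * χ₂ x.2, (Cfsg.Agent.S0188.result _).mpr ⟨χ₁, χ₂, hχ₁, hχ₂, rfl⟩, fun P => ⟨?_, ?_⟩⟩
  · obtain ⟨Q₁⟩ : Nonempty (Sylow p K₁) := inferInstance
    obtain ⟨Q₂⟩ : Nonempty (Sylow p K₂) := inferInstance
    show χ₁ 1 * χ₂ 1 = _
    rw [(hP₁ Q₁).1, (hP₂ Q₂).1]
    have e₁ := Sylow.card_eq_multiplicity Q₁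
    have e₂ := Sylow.card_eq_multiplicity Q₂
    have e := Sylow.card_eq_multiplicity P
    have h1 : Nat.card K₁ ≠ 0 := Nat.card_pos.ne'
    have h2 : Nat.card K₂ ≠ 0 := Nat.card_pos.ne'
    rw [Nat.card_prod, Nat.factorization_mul h1 h2, Finsupp.add_apply, pow_add] at e
    rw [e, e₁, e₂]
    push_cast
    rfl
  · intro x hx hx1
    obtain ⟨k, hk⟩ := (P.isPGroup' : IsPGroup p (P : Subgroup (K₁ × K₂))) ⟨x, hx⟩
    have hk' : x ^ (p ^ k) = 1 := congrArg Subtype.val hk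
    have hk1 : x.1 ^ (p ^ k) = 1 := by
      have := congrArg Prod.fst hk'
      simpa using this
    have hk2 : x.2 ^ (p ^ k) = 1 := by
      have := congrArg Prod.snd hk'
      simpa using this
    show χ₁ x.1 * χ₂ x.2 = 0
    by_cases h1 : x.1 = 1
    · have h2 : x.2 ≠ 1 := fun h2 => hx1 (Prod.ext h1 h2)
      obtain ⟨Q₂, hQ₂⟩ := exists_sylow_of_pow p x.2 k hk2
      rw [(hP₂ Q₂).2 x.2 hQ₂ h2, mul_zero]
    · obtain ⟨Q₁, hQ₁⟩ := exists_sylow_of_pow p x.1 k hk1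
      rw [(hP₁ Q₁).2 x.1 hQ₁ h1, zero_mul]

/-- LOW2 -/
theorem steinberg_low2 (p : ℕ) [Fact p.Prime] [CharP F p] (hF : 3 ≤ Fintype.card F) :
    ∃ χ : Cfsg.POmega F (Cfsg.quadFormPlus 2 F) → ℂ,
      Cfsg.IsIrrCharacter (Cfsg.POmega F (Cfsg.quadFormPlus 2 F)) χ ∧
      ∀ P : Sylow p (Cfsg.POmega F (Cfsg.quadFormPlus 2 F)), χ 1 = Nat.card P ∧
        ∀ x : Cfsg.POmega F (Cfsg.quadFormPlus 2 F), x ∈ P → x ≠ 1 → χ x = 0 := by
  obtain ⟨e⟩ := Cfsg.Agent.S0299.result (F := F) hF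
  have hS := Cfsg.Agent.S2544.result (F := F) p 2 le_rfl
  exact Cfsg.Agent.Lib.Helper61_StOo_LOW.transport_steinberg_equiv e p (steinberg_prod p hS hS)

end Cfsg.Agent.Lib.Helper68_StOp_LOW2
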