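import Mathlib
import Cfsg.Agent.Lib.Helper43_SubfieldSL2
import Cfsg.Agent.Lib.Helper40_SemisimpleCentralizer
import Cfsg.Agent.Lib.Helper40_ScalePoly
import Cfsg.Agent.Lib.Helper40_PrimeOrderClasses

set_option autoImplicit false

/-!
Criteria for an element of `SL_n(F)` to be conjugate into the subfield subgroup `GL_n(F₀) · F^*`
(used for S5965).
-/

namespace Cfsg.Agent.Lib.Helper68_SubfCrit

open Polynomial Matrix
open Cfsg.Agent.Lib.Helper40_SemisimpleGL

section Frob

variable {K : Type*} [Field K] (p : ℕ) [Fact p.Prime] [CharP K p]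
variable {n : Type*} [DecidableEq n] [Fintype n]

/-- characteristic polynomial of a `p ^ a`-th power in characteristic `p` -/
theorem charpoly_pow_char_pow (a : ℕ) (M : Matrix n n K) :
    (M ^ (p ^ a)).charpoly = M.charpoly.map (iterateFrobenius K p a) := by
  rcases isEmpty_or_nonempty n with hn | hn
  · have h1 : (M ^ (p ^ a)).charpoly = 1 := by
      unfold Matrix.charpoly; exact Matrix.det_isEmpty
    have h2 : M.charpoly = 1 := by
      unfold Matrix.charpoly; exact Matrix.det_isEmpty
    rw [h1, h2, Polynomial.map_one]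
  apply expand_injective (R := K) (pow_pos (Fact.out : p.Prime).pos a)
  have hR : expand K (p ^ a) (M.charpoly.map (iterateFrobenius K p a)) = M.charpoly ^ (p ^ a) := by
    rw [← map_expand, map_iterateFrobenius_expand]
  rw [hR]
  unfold Matrix.charpoly
  rw [AlgHom.map_det, ← coe_detMonoidHom, ← (detMonoidHom : Matrix n n K[X] →* K[X]).map_pow]
  apply congr_arg det
  refine matPolyEquiv.injective ?_
  rw [map_pow, matPolyEquiv_charmatrix, sub_pow_char_pow_of_commute, ← C_pow]
  · exact (id (matPolyEquiv_eq_X_pow_sub_C (p ^ a) M) :)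
  · exact (C M).commute_X

end Frob


section Sub

variable {F : Type*} [Field F] [Fintype F]

/-- an element fixed by the `|F₀|`-th power map lies in the subfield `F₀` -/
theorem mem_of_pow_card (F₀ : Subfield F) (a : F) (ha : a ^ Nat.card F₀ = a) : a ∈ F₀ := by
  classical
  have : Fintype F₀ := Fintype.ofFinite F₀
  set q₀ := Nat.card F₀ with hq₀
  have hq1 : 1 < q₀ := by
    rw [hq₀, Nat.card_eq_fintype_card]
    exact Fintype.one_lt_card
  set g : F[X] := X ^ q₀ - X with hg
  have hgdeg : g.natDegree = q₀ := by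
    rw [hg]; exact FiniteField.X_pow_card_sub_X_natDegree_eq F hq1
  have hg0 : g ≠ 0 := by
    intro h
    rw [h, natDegree_zero] at hgdeg
    omega
  set S : Finset F := Finset.univ.image (F₀.subtype : F₀ → F) with hS
  have hScard : S.card = q₀ := by
    rw [hS, Finset.card_image_of_injective _ F₀.subtype_injective, Finset.card_univ, hq₀,
      Nat.card_eq_fintype_card]
  have hSroots : S ⊆ g.roots.toFinset := by
    intro b hb
    rw [hS, Finset.mem_image] at hb
    obtain ⟨b₀, -, rfl⟩ := hb
    rw [Multiset.mem_toFinset, mem_roots hg0, IsRoot.def, hg, eval_sub, eval_pow, eval_X]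
    have h1 : b₀ ^ q₀ = b₀ := by
      rw [hq₀, Nat.card_eq_fintype_card]; exact FiniteField.pow_card b₀
    have h2 : (F₀.subtype b₀) ^ q₀ = F₀.subtype b₀ := by rw [← map_pow, h1]
    rw [h2, sub_self]
  have hle : g.roots.toFinset.card ≤ q₀ := by
    calc g.roots.toFinset.card ≤ Multiset.card g.roots := Multiset.toFinset_card_le _
      _ ≤ g.natDegree := card_roots' g
      _ = q₀ := hgdeg
  have heq : S = g.roots.toFinset := Finset.eq_of_subset_of_card_le hSroots (by rw [hScard]; exact hle)
  have ham : a ∈ g.roots.toFinset := by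
    rw [Multiset.mem_toFinset, mem_roots hg0, IsRoot.def, hg, eval_sub, eval_pow, eval_X, ha,
      sub_self]
  rw [← heq, hS, Finset.mem_image] at ham
  obtain ⟨b₀, -, rfl⟩ := ham
  exact b₀.2

/-- elements of the subfield are fixed by the `|F₀|`-th power map -/
theorem pow_card_of_mem (F₀ : Subfield F) (a : F₀) : (a : F) ^ Nat.card F₀ = a := by
  classical
  have : Fintype F₀ := Fintype.ofFinite F₀
  have h1 : a ^ Nat.card F₀ = a := by
    rw [Nat.card_eq_fintype_card]; exact FiniteField.pow_card a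
  have := congrArg (F₀.subtype) h1
  rwa [map_pow] at this

/-- a polynomial whose coefficients are fixed by the `|F₀|`-th power map has coefficients in `F₀` -/
theorem exists_lift_of_coeff_fixed (F₀ : Subfield F) (g : F[X])
    (hg : ∀ i, (g.coeff i) ^ Nat.card F₀ = g.coeff i) :
    ∃ g₀ : F₀[X], g₀.map F₀.subtype = g := by
  have h : g ∈ Polynomial.lifts F₀.subtype := by
    rw [Polynomial.lifts_iff_coeff_lifts]
    intro i
    exact ⟨⟨g.coeff i, mem_of_pow_card F₀ _ (hg i)⟩, rfl⟩
  obtain ⟨g₀, hg₀⟩ := h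
  exact ⟨g₀, hg₀⟩

/-- the cardinality of a subfield is a power of the characteristic -/
theorem exists_card_eq_pow (p : ℕ) [Fact p.Prime] [CharP F p] (F₀ : Subfield F) :
    ∃ a : ℕ, 0 < a ∧ Nat.card F₀ = p ^ a := by
  classical
  have : Fintype F₀ := Fintype.ofFinite F₀
  obtain ⟨a, -, ha⟩ := FiniteField.card F₀ p
  exact ⟨a, a.pos, by rw [Nat.card_eq_fintype_card, ha]⟩

/-- characteristic polynomial of the `|F₀|`-th power: coefficients are raised to the `|F₀|`-th power -/
theorem coeff_charpoly_pow_card (p : ℕ) [Fact p.Prime] [CharP F p] (F₀ : Subfield F)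
    {n : Type*} [DecidableEq n] [Fintype n] (M : Matrix n n F) (i : ℕ) :
    (M ^ Nat.card F₀).charpoly.coeff i = (M.charpoly.coeff i) ^ Nat.card F₀ := by
  obtain ⟨a, -, ha⟩ := exists_card_eq_pow p F₀
  rw [ha, charpoly_pow_char_pow p a M, coeff_map, iterateFrobenius_def]

end Sub


section Crit

universe v

variable {F : Type v} [Field F] [Fintype F] {n : ℕ}

/-- evaluating a mapped polynomial at a mapped matrix -/
theorem aeval_map_map {K L : Type*} [Field K] [Field L] (φ : K →+* L)
    (A : Matrix (Fin n) (Fin n) K) (g : K[X]) :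
    aeval (A.map φ) (g.map φ) = (aeval A g).map φ := by
  have h1 : (aeval A g).map φ = φ.mapMatrix (aeval A g) := rfl
  have h2 : A.map φ = φ.mapMatrix A := rfl
  rw [h1, h2, aeval_def, aeval_def, eval₂_map, hom_eval₂]
  congr 1
  ext a i j
  simp [Matrix.algebraMap_matrix_apply]
  split_ifs <;> simp

/-- **Sufficient criterion**: if `μ⁻¹ x` is semisimple with characteristic polynomial defined
over `F₀`, then `x` is conjugate under `SL_n(F)` into the subfield subgroup. -/
theorem conj_of_charpoly_lifts (hn : 0 < n) (F₀ : Subfield F)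
    (x : Matrix.SpecialLinearGroup (Fin n) F) (μ : F) (hμ : μ ≠ 0)
    (hss : IsSS (μ⁻¹ • (x : Matrix (Fin n) (Fin n) F)))
    (c₀ : F₀[X]) (hc : c₀.map F₀.subtype = (μ⁻¹ • (x : Matrix (Fin n) (Fin n) F)).charpoly) :
    ∃ P : Matrix.SpecialLinearGroup (Fin n) F, P⁻¹ * x * P ∈
      ((Cfsg.Geo.subfieldSubgroup F₀ 1).comap
        (Matrix.SpecialLinearGroup.toGL : Matrix.SpecialLinearGroup (Fin n) F →* GL (Fin n) F)) := by
  classical
  set y : Matrix (Fin n) (Fin n) F := μ⁻¹ • (x : Matrix (Fin n) (Fin n) F) with hy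
  have hc₀m : c₀.Monic := by
    apply monic_of_injective F₀.subtype_injective
    rw [hc]; exact Matrix.charpoly_monic y
  have hc₀d : c₀.natDegree = n := by
    rw [← natDegree_map (F₀.subtype), hc, Matrix.charpoly_natDegree_eq_dim, Fintype.card_fin]
  obtain ⟨A₀, hA₀c, -, hA₀k⟩ :=
    Cfsg.Agent.Lib.Helper40_PrimeOrderClasses.exists_matrix_of_monic' (F := F₀) n c₀ hc₀m hc₀d
  set B : Matrix (Fin n) (Fin n) F := A₀.map F₀.subtype with hB
  have hBc : B.charpoly = y.charpoly := by
    rw [hB, Matrix.charpoly_map, hA₀c, hc]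
  -- `B` is semisimple
  have hBss : IsSS B := by
    set m : F₀[X] := UniqueFactorizationMonoid.radical c₀ with hm
    have hm1 : aeval A₀ m = 0 := hA₀k m (fun g hg hgc =>
      (UniqueFactorizationMonoid.dvd_radical_iff_of_irreducible hg hc₀m.ne_zero).2 hgc)
    have hm2 : Squarefree m := UniqueFactorizationMonoid.squarefree_radical
    have hm3 : (m.map F₀.subtype).Separable :=
      (PerfectField.separable_iff_squarefree.2 hm2).map
    apply isSS_of_squarefree_aeval_eq_zero B (m.map F₀.subtype) hm3.squarefree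
    rw [hB, aeval_map_map, hm1]
    exact Matrix.map_zero _ (map_zero _)
  obtain ⟨P, hP⟩ := exists_GL_conj y B hss hBss hBc.symm
  set R' : Matrix (Fin n) (Fin n) F := ((P⁻¹ : GL (Fin n) F) : Matrix (Fin n) (Fin n) F) with hR'
  have hPR' : (P : Matrix (Fin n) (Fin n) F) * R' = 1 := by
    rw [hR', ← Units.val_mul, mul_inv_cancel, Units.val_one]
  have hR'P : R' * (P : Matrix (Fin n) (Fin n) F) = 1 := by
    rw [hR', ← Units.val_mul, inv_mul_cancel, Units.val_one]
  have hyR' : y * R' = R' * B := by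
    calc y * R' = (R' * (P : Matrix (Fin n) (Fin n) F)) * y * R' := by rw [hR'P, Matrix.one_mul]
      _ = R' * ((P : Matrix (Fin n) (Fin n) F) * y) * R' := by simp only [Matrix.mul_assoc]
      _ = R' * (B * (P : Matrix (Fin n) (Fin n) F)) * R' := by rw [hP]
      _ = R' * B * ((P : Matrix (Fin n) (Fin n) F) * R') := by simp only [Matrix.mul_assoc]
      _ = R' * B := by rw [hPR', Matrix.mul_one]
  have hR'det : R'.det ≠ 0 := by
    intro h0
    have := congrArg Matrix.det hPR'
    rw [Matrix.det_mul, h0, mul_zero, Matrix.det_one] at this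
    exact zero_ne_one this
  obtain ⟨C, hCy, hCdet⟩ :=
    Cfsg.Agent.Lib.Helper40_SemisimpleCentralizer.exists_commute_det_matrix hn y hss (R'.det)⁻¹
  have hydet : y.det ≠ 0 := by
    rw [hy, Matrix.det_smul, x.2, mul_one]
    exact pow_ne_zero _ (inv_ne_zero hμ)
  have hA₀det : A₀.det ≠ 0 := by
    intro h0
    have h1 : B.det = 0 := by
      rw [hB]
      have : (A₀.map F₀.subtype).det = F₀.subtype A₀.det := by
        rw [← RingHom.mapMatrix_apply, ← RingHom.map_det]
      rw [this, h0, map_zero]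
    have h2 : y.det * R'.det = R'.det * B.det := by
      rw [← Matrix.det_mul, hyR', Matrix.det_mul]
    rw [h1, mul_zero] at h2
    rcases mul_eq_zero.1 h2 with h | h
    · exact hydet h
    · exact hR'det h
  refine Cfsg.Agent.Lib.Helper43_SubfieldSL2.exists_P_of_conj F₀ x μ hμ (C * R') A₀ ?_ hA₀det ?_
  · rw [Matrix.det_mul, hCdet, inv_mul_cancel₀ hR'det]
  · show y * (C * R') = C * R' * B
    rw [← Matrix.mul_assoc, ← hCy, Matrix.mul_assoc, hyR', Matrix.mul_assoc]

end Crit


section Nec

variable {F : Type*} [Field F] [Fintype F] {n : ℕ}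

omit [Fintype F] in
/-- unpacking membership of a conjugate in the subfield subgroup -/
theorem exists_of_conj_mem (F₀ : Subfield F) (x P : Matrix.SpecialLinearGroup (Fin n) F)
    (h : P⁻¹ * x * P ∈ ((Cfsg.Geo.subfieldSubgroup F₀ 1).comap
        (Matrix.SpecialLinearGroup.toGL : Matrix.SpecialLinearGroup (Fin n) F →* GL (Fin n) F))) :
    ∃ (h₀ : GL (Fin n) F₀) (c : F), c ≠ 0 ∧
      (x : Matrix (Fin n) (Fin n) F) * (P : Matrix (Fin n) (Fin n) F) =
        (P : Matrix (Fin n) (Fin n) F) * (c • (h₀ : Matrix (Fin n) (Fin n) F₀).map F₀.subtype) := by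
  rw [Subgroup.mem_comap, Cfsg.Agent.Lib.Helper43_SubfieldSL.mem_subfieldSubgroup_one] at h
  obtain ⟨h₀, c, hc⟩ := h
  refine ⟨h₀, c, c.ne_zero, ?_⟩
  have h1 : ((P⁻¹ * x * P : Matrix.SpecialLinearGroup (Fin n) F) : Matrix (Fin n) (Fin n) F) =
      (c : F) • (h₀ : Matrix (Fin n) (Fin n) F₀).map F₀.subtype := hc
  have h2 : x * P = P * (P⁻¹ * x * P) := by group
  have h3 := congrArg (fun g : Matrix.SpecialLinearGroup (Fin n) F => (g : Matrix (Fin n) (Fin n) F)) h2
  simp only [Matrix.SpecialLinearGroup.coe_mul] at h3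
  rw [h3, ← h1]
  simp only [Matrix.SpecialLinearGroup.coe_mul]

omit [Fintype F] in
/-- `scaleRoots` of a product of linear factors -/
theorem scaleRoots_prod_X_sub_C (M : Multiset F) (s : F) :
    ((M.map (fun a => X - C a)).prod).scaleRoots s = (M.map (fun a => X - C (a * s))).prod := by
  induction M using Multiset.induction_on with
  | empty => simp
  | cons a M ih =>
    rw [Multiset.map_cons, Multiset.prod_cons, Multiset.map_cons, Multiset.prod_cons,
      mul_scaleRoots_of_noZeroDivisors, ih]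
    congr 1
    have h := Cfsg.Agent.Lib.Helper40_ScalePoly.scaleRoots_X_pow_sub_C (K := F) 1 one_pos a s
    rw [pow_one, pow_one] at h
    exact h

/-- **Necessary condition** (split case): if a matrix whose characteristic polynomial is
`∏ (X - a)` over a multiset `M` is similar to `c • B` with `B` defined over `F₀`, then `M` is
invariant under `a ↦ a ^ |F₀| / (c ^ |F₀| / c)`. -/
theorem multiset_invariant (p : ℕ) [Fact p.Prime] [CharP F p] (F₀ : Subfield F)
    (A : Matrix (Fin n) (Fin n) F) (M : Multiset F)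
    (hM : A.charpoly = (M.map (fun a => X - C a)).prod)
    (P : GL (Fin n) F) (h₀ : Matrix (Fin n) (Fin n) F₀) (c : F) (hc : c ≠ 0)
    (hP : A * (P : Matrix (Fin n) (Fin n) F) =
      (P : Matrix (Fin n) (Fin n) F) * (c • h₀.map F₀.subtype)) :
    M.map (fun a => a ^ Nat.card F₀ / (c ^ Nat.card F₀ / c)) = M := by
  classical
  obtain ⟨e, -, he⟩ := exists_card_eq_pow p F₀
  set q₀ := Nat.card F₀ with hq₀
  set B : Matrix (Fin n) (Fin n) F := h₀.map F₀.subtype with hB
  set y : Matrix (Fin n) (Fin n) F := c⁻¹ • A with hy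
  have hyP : y = (P : Matrix (Fin n) (Fin n) F) * B * ((P : Matrix (Fin n) (Fin n) F))⁻¹ := by
    have hPinv : (P : Matrix (Fin n) (Fin n) F) * ((P : Matrix (Fin n) (Fin n) F))⁻¹ = 1 :=
      Matrix.mul_nonsing_inv _ ((Matrix.isUnit_iff_isUnit_det _).1 P.isUnit)
    have h1 : y * (P : Matrix (Fin n) (Fin n) F) = (P : Matrix (Fin n) (Fin n) F) * B := by
      rw [hy, Matrix.smul_mul, hP, Matrix.mul_smul, smul_smul, inv_mul_cancel₀ hc, one_smul]
    calc y = y * ((P : Matrix (Fin n) (Fin n) F) * ((P : Matrix (Fin n) (Fin n) F))⁻¹) := by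
          rw [hPinv, Matrix.mul_one]
      _ = (y * (P : Matrix (Fin n) (Fin n) F)) * ((P : Matrix (Fin n) (Fin n) F))⁻¹ := by
          rw [Matrix.mul_assoc]
      _ = _ := by rw [h1]
  have hyc : y.charpoly = B.charpoly := by
    rw [hyP]
    exact Matrix.charpoly_units_conj P B
  have hyc2 : y.charpoly = (M.map (fun a => X - C (a * c⁻¹))).prod := by
    rw [hy, Cfsg.Agent.Lib.Helper40_ScalePoly.charpoly_smul c⁻¹ (inv_ne_zero hc) A, hM,
      scaleRoots_prod_X_sub_C]
  set σ : F →+* F := iterateFrobenius F p e with hσ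
  have hσq : ∀ a : F, σ a = a ^ q₀ := by
    intro a
    rw [hσ, iterateFrobenius_def, he]
  have hBfix : B.charpoly.map σ = B.charpoly := by
    rw [hB, Matrix.charpoly_map, Polynomial.map_map]
    congr 1
    ext a
    rw [RingHom.comp_apply, hσq]
    exact pow_card_of_mem F₀ a
  have hfix : y.charpoly.map σ = y.charpoly := by rw [hyc, hBfix]
  rw [hyc2, Polynomial.map_multiset_prod, Multiset.map_map] at hfix
  have hfix2 : (M.map (fun a => X - C (σ (a * c⁻¹)))).prod =
      (M.map (fun a => X - C (a * c⁻¹))).prod := by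
    rw [← hfix]
    congr 1
    apply Multiset.map_congr rfl
    intro a _
    simp
  have h3 : M.map (fun a => σ (a * c⁻¹)) = M.map (fun a => a * c⁻¹) := by
    have h4 := congrArg Polynomial.roots hfix2
    have e1 : (M.map (fun a => X - C (σ (a * c⁻¹)))) =
        ((M.map (fun a => σ (a * c⁻¹))).map (fun b => X - C b)) := by
      rw [Multiset.map_map]; rfl
    have e2 : (M.map (fun a => X - C (a * c⁻¹))) =
        ((M.map (fun a => a * c⁻¹)).map (fun b => X - C b)) := by
      rw [Multiset.map_map]; rfl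
    rw [e1, e2, roots_multiset_prod_X_sub_C, roots_multiset_prod_X_sub_C] at h4
    exact h4
  have h5 := congrArg (Multiset.map (fun b => b * c)) h3
  rw [Multiset.map_map, Multiset.map_map] at h5
  have h6 : M.map ((fun b => b * c) ∘ fun a => a * c⁻¹) = M := by
    conv_rhs => rw [← Multiset.map_id M]
    apply Multiset.map_congr rfl
    intro a _
    simp [mul_assoc, inv_mul_cancel₀ hc]
  rw [h6] at h5
  conv_rhs => rw [← h5]
  apply Multiset.map_congr rfl
  intro a _
  simp only [Function.comp_apply, hσq]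
  rw [mul_pow, inv_pow]
  have hcq : c ^ q₀ ≠ 0 := pow_ne_zero _ hc
  field_simp

omit [Fintype F] in
/-- if a scalar multiple of a matrix over `F₀` has `r`-th power one, the `r`-th power of the
scalar lies in `F₀` -/
theorem pow_mem_of_smul_pow_eq_one (hn : 0 < n) (F₀ : Subfield F)
    (h₀ : Matrix (Fin n) (Fin n) F₀) (c : F) (r : ℕ)
    (h : (c • h₀.map F₀.subtype) ^ r = 1) : c ^ r ∈ F₀ := by
  have h1 : (c • h₀.map F₀.subtype) ^ r = c ^ r • (h₀ ^ r).map F₀.subtype := by
    rw [_root_.smul_pow]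
    congr 1
    have : h₀.map F₀.subtype = F₀.subtype.mapMatrix h₀ := rfl
    rw [this, ← map_pow]
    rfl
  rw [h1] at h
  have h2 := congrFun (congrFun h ⟨0, hn⟩) ⟨0, hn⟩
  rw [Matrix.smul_apply, Matrix.map_apply, Matrix.one_apply_eq, smul_eq_mul] at h2
  have h3 : c ^ r = (F₀.subtype ((h₀ ^ r) ⟨0, hn⟩ ⟨0, hn⟩))⁻¹ := eq_inv_of_mul_eq_one_left h2
  rw [h3]
  exact F₀.inv_mem (Subtype.mem _)

end Nec

end Cfsg.Agent.Lib.Helper68_SubfCrit
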