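import Mathlib
import Cfsg.Agent.Lib.Helper68_SubfCrit
import Cfsg.Agent.Lib.Helper99_PrimeOrderSL

set_option autoImplicit false

/-!
Derangements for the action of `PSL_n(q)` on the cosets of a subfield subgroup (S5965).
-/

namespace Cfsg.Agent.Lib.Helper68_SubfDer

open Polynomial Matrix
open Cfsg.Agent.Lib.Helper40_SemisimpleGL Cfsg.Agent.Lib.Helper68_SubfCrit

universe v

variable {F : Type v} [Field F]

section Construct

/-- a semisimple matrix of determinant one with prescribed eigenvalue multiset -/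
theorem exists_elt_of_multiset (n : ℕ) (M : Multiset F) (hcard : Multiset.card M = n)
    (hprod : M.prod = 1) (N : ℕ) (w : F) (hw : ∀ a ∈ M, a ^ N = w) :
    ∃ x : Matrix.SpecialLinearGroup (Fin n) F,
      (x : Matrix (Fin n) (Fin n) F).charpoly = (M.map (fun a => X - C a)).prod ∧
      IsSS (x : Matrix (Fin n) (Fin n) F) ∧
      (x : Matrix (Fin n) (Fin n) F) ^ N = w • (1 : Matrix (Fin n) (Fin n) F) := by
  classical
  set c : F[X] := (M.map (fun a => X - C a)).prod with hc
  have hcm : c.Monic := monic_multiset_prod_of_monic _ _ (fun a _ => monic_X_sub_C a)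
  have hcd : c.natDegree = n := by rw [hc, natDegree_multiset_prod_X_sub_C_eq_card, hcard]
  obtain ⟨A, hAc, hAss, hAk⟩ :=
    Cfsg.Agent.Lib.Helper40_PrimeOrderClasses.exists_matrix_of_monic' n c hcm hcd
  have hAN : A ^ N = w • (1 : Matrix (Fin n) (Fin n) F) := by
    have h1 : aeval A ((X : F[X]) ^ N - C w) = 0 := by
      apply hAk
      intro g hg hgc
      rw [hc] at hgc
      obtain ⟨f, hf, hgf⟩ := hg.prime.exists_mem_multiset_dvd hgc
      rw [Multiset.mem_map] at hf
      obtain ⟨a, ha, rfl⟩ := hf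
      apply hgf.trans
      have h2 := sub_dvd_pow_sub_pow (X : F[X]) (C a) N
      rwa [← C_pow, hw a ha] at h2
    rw [map_sub, map_pow, aeval_X, aeval_C, sub_eq_zero] at h1
    rw [h1, Algebra.algebraMap_eq_smul_one]
  have hdet : A.det = 1 := by
    rw [Matrix.det_eq_sign_charpoly_coeff, hAc, coeff_zero_eq_eval_zero, hc, eval_multiset_prod,
      Multiset.map_map, Fintype.card_fin]
    have h1 : (M.map (eval 0 ∘ fun a => X - C a)) = (M.map Neg.neg) := by
      apply Multiset.map_congr rfl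
      intro a _
      simp
    rw [h1, Multiset.prod_map_neg, hcard, hprod, mul_one, ← mul_pow]
    simp
  exact ⟨⟨A, hdet⟩, hAc, hAss, hAN⟩

/-- a matrix whose characteristic polynomial has two distinct roots is not scalar -/
theorem not_scalar_of_roots {n : ℕ} (A : Matrix (Fin n) (Fin n) F) (M : Multiset F)
    (hM : A.charpoly = (M.map (fun a => X - C a)).prod) (a b : F) (ha : a ∈ M) (hb : b ∈ M)
    (hab : a ≠ b) : ∀ z : F, A ≠ z • (1 : Matrix (Fin n) (Fin n) F) := by
  intro z hz
  have hk : aeval A ((X : F[X]) - C z) = 0 := by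
    rw [map_sub, aeval_X, aeval_C, hz, Algebra.algebraMap_eq_smul_one, sub_self]
  have hroot : ∀ d ∈ M, d = z := by
    intro d hd
    have h2 : (X - C d) ∣ A.charpoly := by
      rw [hM]
      exact Multiset.dvd_prod (Multiset.mem_map.2 ⟨d, hd, rfl⟩)
    have h3 := Cfsg.Agent.Lib.Helper40_PrimeOrderClasses.dvd_of_irreducible_of_dvd_charpoly A _ hk
      (X - C d) (irreducible_X_sub_C d) h2
    rw [dvd_iff_isRoot, IsRoot.def, eval_sub, eval_X, eval_C] at h3
    exact sub_eq_zero.1 h3
  exact hab ((hroot a ha).trans (hroot b hb).symm)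

end Construct


section Inv

/-- the multiset is invariant under `a ↦ a ^ q₀ / u` for some `u ≠ 0` -/
def Inv (q₀ : ℕ) (M : Multiset F) : Prop := ∃ u : F, u ≠ 0 ∧ M.map (fun a => a ^ q₀ / u) = M

/-- **Necessary condition**: an element of `SL_n(F)` with split characteristic polynomial that is
conjugate into the subfield subgroup has an invariant eigenvalue multiset. -/
theorem inv_of_conj [Fintype F] (p : ℕ) [Fact p.Prime] [CharP F p] {n : ℕ} (F₀ : Subfield F)
    (x : Matrix.SpecialLinearGroup (Fin n) F) (M : Multiset F)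
    (hM : (x : Matrix (Fin n) (Fin n) F).charpoly = (M.map (fun a => X - C a)).prod)
    (P : Matrix.SpecialLinearGroup (Fin n) F)
    (h : P⁻¹ * x * P ∈ ((Cfsg.Geo.subfieldSubgroup F₀ 1).comap
        (Matrix.SpecialLinearGroup.toGL : Matrix.SpecialLinearGroup (Fin n) F →* GL (Fin n) F))) :
    Inv (Nat.card F₀) M := by
  obtain ⟨h₀, c, hc, hP⟩ := exists_of_conj_mem F₀ x P h
  refine ⟨c ^ Nat.card F₀ / c, div_ne_zero (pow_ne_zero _ hc) hc, ?_⟩
  exact multiset_invariant p F₀ (x : Matrix (Fin n) (Fin n) F) M hM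
    (Matrix.SpecialLinearGroup.toGL P) (h₀ : Matrix (Fin n) (Fin n) F₀) c hc hP

/-- the `|F₀|`-th power map is injective -/
theorem pow_card_injective [Fintype F] (p : ℕ) [Fact p.Prime] [CharP F p] (F₀ : Subfield F) :
    Function.Injective (fun a : F => a ^ Nat.card F₀) := by
  obtain ⟨e, -, he⟩ := exists_card_eq_pow p F₀
  rw [he]
  intro a b hab
  exact (iterateFrobenius F p e).injective hab

/-- **Derangement lemma**: a multiset `M₀ + (n - s) · {1}` of `r`-th roots of unity with
`ω ∈ M₀`, `ω ^ q₀ ∉ M₀ ∪ {1}` is not invariant. -/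
theorem not_inv_of_small (q₀ : ℕ) (hinj : Function.Injective (fun a : F => a ^ q₀))
    (r : ℕ) (hr : r.Prime) (ω : F) (M₀ : Multiset F) (s n : ℕ) (hs : Multiset.card M₀ = s)
    (hM₀r : ∀ a ∈ M₀, a ^ r = 1) (hM₀1 : ∀ a ∈ M₀, a ≠ 1) (hω : ω ∈ M₀) (hωq : ω ^ q₀ ∉ M₀)
    (hωq1 : ω ^ q₀ ≠ 1) (hprod : M₀.prod = 1) (hsn : s ≤ n)
    (hcase : ¬ r ∣ n ∨ 2 * s + 1 ≤ n) :
    ¬ Inv q₀ (M₀ + Multiset.replicate (n - s) 1) := by
  classical
  rintro ⟨u, hu, hmap⟩
  set M := M₀ + Multiset.replicate (n - s) (1 : F) with hMdef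
  set ψ : F → F := fun a => a ^ q₀ / u with hψ
  have hψinj : Function.Injective ψ := by
    intro a b hab
    apply hinj
    have : a ^ q₀ / u = b ^ q₀ / u := hab
    field_simp at this
    exact this
  have hMr : ∀ a ∈ M, a ^ r = 1 := by
    intro a ha
    rw [hMdef, Multiset.mem_add] at ha
    rcases ha with ha | ha
    · exact hM₀r a ha
    · rw [Multiset.eq_of_mem_replicate ha, one_pow]
  have hcardM : Multiset.card M = n := by
    rw [hMdef, Multiset.card_add, Multiset.card_replicate, hs]; omega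
  have hprodM : M.prod = 1 := by
    rw [hMdef, Multiset.prod_add, Multiset.prod_replicate, one_pow, mul_one, hprod]
  -- (1) `u ^ n = 1`
  have hun : u ^ n = 1 := by
    have h1 := congrArg Multiset.prod hmap
    rw [hprodM] at h1
    have h2 : (M.map ψ).prod = M.prod ^ q₀ / u ^ n := by
      rw [hψ, Multiset.prod_map_div, Multiset.prod_map_pow, Multiset.map_id',
        Multiset.map_const', Multiset.prod_replicate, hcardM]
    rw [h2, hprodM, one_pow] at h1
    have hne : u ^ n ≠ 0 := pow_ne_zero _ hu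
    field_simp at h1
    exact h1.symm
  have hωM : ω ∈ M := by rw [hMdef]; exact Multiset.mem_add.2 (Or.inl hω)
  have hψω : ψ ω ∈ M := by
    rw [← hmap]; exact Multiset.mem_map_of_mem ψ hωM
  -- (2) `u ^ r = 1`
  have hur : u ^ r = 1 := by
    have h1 := hMr _ hψω
    rw [hψ] at h1
    simp only at h1
    rw [div_pow, ← pow_mul, mul_comm, pow_mul, hM₀r ω hω, one_pow] at h1
    have hne : u ^ r ≠ 0 := pow_ne_zero _ hu
    field_simp at h1
    exact h1.symm
  -- (3) `u = 1`
  have hu1 : u = 1 := by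
    rcases hcase with hrn | hbig
    · have hcop : Nat.Coprime r n := (Nat.Prime.coprime_iff_not_dvd hr).2 hrn
      have := pow_gcd_eq_one.2 ⟨hur, hun⟩
      rwa [hcop.gcd_eq_one, pow_one] at this
    · have hc1 : Multiset.count 1 M = n - s := by
        rw [hMdef, Multiset.count_add, Multiset.count_replicate_self,
          Multiset.count_eq_zero_of_notMem (fun h => hM₀1 1 h rfl), zero_add]
      have hc2 : Multiset.count (ψ 1) M = n - s := by
        have := Multiset.count_map_eq_count' ψ M hψinj 1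
        rw [hmap] at this
        rw [this, hc1]
      by_contra hne
      have hψ1 : ψ 1 ≠ 1 := by
        intro h
        rw [hψ] at h
        simp only [one_pow] at h
        have : u = 1 := by
          field_simp at h
          exact h.symm
        exact hne this
      have hc3 : Multiset.count (ψ 1) M ≤ s := by
        rw [hMdef, Multiset.count_add, Multiset.count_replicate, if_neg (Ne.symm hψ1), add_zero,
          ← hs]
        exact Multiset.count_le_card _ _
      omega
  -- (4) contradiction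
  have h4 : ψ ω = ω ^ q₀ := by rw [hψ]; simp [hu1]
  rw [h4, hMdef, Multiset.mem_add] at hψω
  rcases hψω with h | h
  · exact hωq h
  · exact hωq1 (Multiset.eq_of_mem_replicate h)

/-- **Derangement lemma** for `n = r` and `r ^ 2 ∣ q₀ + 1` -/
theorem not_inv_of_sq (q₀ : ℕ) (hinj : Function.Injective (fun a : F => a ^ q₀))
    (r : ℕ) (hr3 : 3 ≤ r) (hrodd : Odd r) (η : F) (hη0 : η ≠ 0) (hηq : η ^ q₀ = η⁻¹)
    (hηr : η ^ r ≠ 1) (hηrr : (η ^ r) ^ r = 1) :
    ¬ Inv q₀ (Multiset.replicate (r - 1) η + {η / η ^ r}) := by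
  classical
  rintro ⟨u, hu, hmap⟩
  set ζ : F := η / η ^ r with hζ
  set M := Multiset.replicate (r - 1) η + {ζ} with hMdef
  set ψ : F → F := fun a => a ^ q₀ / u with hψ
  have hηr0 : η ^ r ≠ 0 := pow_ne_zero _ hη0
  have hζ0 : ζ ≠ 0 := div_ne_zero hη0 hηr0
  have hζq : ζ ^ q₀ = ζ⁻¹ := by
    rw [hζ, div_pow, ← pow_mul, mul_comm, pow_mul, hηq, inv_div, inv_pow]
    field_simp
  have hηζ : η ≠ ζ := by
    intro h
    apply hηr
    have h2 := h
    rw [hζ] at h2
    field_simp at h2
    exact h2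
  have hψinj : Function.Injective ψ := by
    intro a b hab
    apply hinj
    have : a ^ q₀ / u = b ^ q₀ / u := hab
    field_simp at this
    exact this
  have hcη : Multiset.count η M = r - 1 := by
    rw [hMdef, Multiset.count_add, Multiset.count_replicate_self, Multiset.count_singleton,
      if_neg hηζ, add_zero]
  have hcζ : Multiset.count ζ M = 1 := by
    rw [hMdef, Multiset.count_add, Multiset.count_replicate, if_neg hηζ,
      Multiset.count_singleton_self]
  have hmem : ∀ a ∈ M, a = η ∨ a = ζ := by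
    intro a ha
    rw [hMdef, Multiset.mem_add] at ha
    rcases ha with ha | ha
    · left; exact Multiset.eq_of_mem_replicate ha
    · right; exact Multiset.mem_singleton.1 ha
  have hηM : η ∈ M := by
    rw [← Multiset.count_pos, hcη]; omega
  have hζM : ζ ∈ M := by
    rw [← Multiset.count_pos, hcζ]; omega
  have h1 : Multiset.count (ψ η) M = r - 1 := by
    have := Multiset.count_map_eq_count' ψ M hψinj η
    rw [hmap] at this
    rw [this, hcη]
  have h2 : Multiset.count (ψ ζ) M = 1 := by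
    have := Multiset.count_map_eq_count' ψ M hψinj ζ
    rw [hmap] at this
    rw [this, hcζ]
  have hψη : ψ η = η := by
    have hm : ψ η ∈ M := by rw [← hmap]; exact Multiset.mem_map_of_mem ψ hηM
    rcases hmem _ hm with h | h
    · exact h
    · rw [h, hcζ] at h1; omega
  have hψζ : ψ ζ = ζ := by
    have hm : ψ ζ ∈ M := by rw [← hmap]; exact Multiset.mem_map_of_mem ψ hζM
    rcases hmem _ hm with h | h
    · rw [h, hcη] at h2; omega
    · exact h
  rw [hψ] at hψη hψζ
  simp only [hηq, hζq] at hψη hψζ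
  -- `u = η⁻¹ / η` and `u = ζ⁻¹ / ζ`
  have e1 : η * η * u = 1 := by
    field_simp at hψη
    linear_combination -hψη
  have e2 : ζ * ζ * u = 1 := by
    field_simp at hψζ
    linear_combination -hψζ
  have e3 : ζ * ζ = η * η := by
    have : ζ * ζ * u = η * η * u := by rw [e1, e2]
    exact mul_right_cancel₀ hu this
  have e4 : (η ^ r) ^ 2 = 1 := by
    have h3 : ζ * η ^ r = η := by rw [hζ]; field_simp
    have h4 : (ζ * ζ) * (η ^ r) ^ 2 = η * η := by
      calc (ζ * ζ) * (η ^ r) ^ 2 = (ζ * η ^ r) * (ζ * η ^ r) := by ring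
        _ = η * η := by rw [h3]
    rw [e3] at h4
    have h5 : η * η ≠ 0 := mul_ne_zero hη0 hη0
    exact mul_left_cancel₀ h5 (by rw [h4, mul_one])
  have hcop : Nat.Coprime 2 r := Nat.coprime_two_left.2 hrodd
  have h6 := pow_gcd_eq_one.2 ⟨e4, hηrr⟩
  rw [hcop.gcd_eq_one, pow_one] at h6
  exact hηr h6

end Inv


section Block

open Cfsg.Agent.Lib.Helper99_PrimeOrderSL

variable [Fintype F]

omit [Fintype F] in
theorem map_X_sub_one_pow (F₀ : Subfield F) (m : ℕ) :
    (((X : F₀[X]) - 1) ^ m).map F₀.subtype = ((X : F[X]) - 1) ^ m := by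
  rw [Polynomial.map_pow, Polynomial.map_sub, Polynomial.map_X, Polynomial.map_one]

/-- **Derangement** when the order `i ≥ 2` of `q` modulo `r` differs from the order of `q₀`:
an element with a single nontrivial irreducible block. -/
theorem exists_derangement_block (p : ℕ) [Fact p.Prime] [CharP F p] (F₀ : Subfield F)
    (k : ℕ) (hqk : Fintype.card F = Nat.card F₀ ^ k)
    (n r : ℕ) (hr : r.Prime) (hrp : r ≠ p)
    (hi2 : 2 ≤ orderOf ((Fintype.card F : ℕ) : ZMod r))
    (hin : orderOf ((Fintype.card F : ℕ) : ZMod r) ≤ n)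
    (hne : orderOf ((Nat.card F₀ : ℕ) : ZMod r) ≠ orderOf ((Fintype.card F : ℕ) : ZMod r)) :
    ∃ x : Matrix.SpecialLinearGroup (Fin n) F,
      (x : Matrix (Fin n) (Fin n) F) ^ r = 1 ∧
      (∀ z : F, (x : Matrix (Fin n) (Fin n) F) ≠ z • (1 : Matrix (Fin n) (Fin n) F)) ∧
      ∀ P : Matrix.SpecialLinearGroup (Fin n) F, P⁻¹ * x * P ∉
        ((Cfsg.Geo.subfieldSubgroup F₀ 1).comap
          (Matrix.SpecialLinearGroup.toGL : Matrix.SpecialLinearGroup (Fin n) F →* GL (Fin n) F)) := by
  classical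
  have : Fintype F₀ := Fintype.ofFinite F₀
  have hp : p.Prime := Fact.out
  set i := orderOf ((Fintype.card F : ℕ) : ZMod r) with hi
  obtain ⟨hipos, W, hWcard, hW1, -⟩ :=
    Cfsg.Agent.Lib.Helper40_PrimeOrderClasses.exists_cyclotomic_factors (F := F) p r hr hrp
  rw [← hi] at hWcard hW1 hipos
  have hrq : ¬ r ∣ Fintype.card F - 1 := not_dvd_card_sub_one hi2
  have hq0 : ((Fintype.card F : ℕ) : ZMod r) ≠ 0 := by
    rw [Ne, ZMod.natCast_eq_zero_iff]
    intro h
    obtain ⟨e, -, he⟩ := FiniteField.card F p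
    rw [he] at h
    exact hrp ((Nat.prime_dvd_prime_iff_eq hr hp).1 (hr.dvd_of_dvd_pow h))
  have : Fact r.Prime := ⟨hr⟩
  have hidvd : i ∣ r - 1 := ZMod.orderOf_dvd_card_sub_one hq0
  have hWne : W.Nonempty := by
    rw [← Finset.card_pos, hWcard]
    exact Nat.div_pos (Nat.le_of_dvd (by have := hr.two_le; omega) hidvd) hipos
  obtain ⟨g, hgW⟩ := hWne
  obtain ⟨hgm, hgi, hg1, hgd, hgdeg⟩ := hW1 g hgW
  have hX1 : ((X : F[X]) - 1) = X - C 1 := by rw [map_one]
  have hX1m : ((X : F[X]) - 1).Monic := by rw [hX1]; exact monic_X_sub_C 1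
  set c : F[X] := (X - 1) ^ (n - i) * g with hc
  have hcm : c.Monic := (hX1m.pow _).mul hgm
  have hcdeg : c.natDegree = n := by
    rw [hc, (hX1m.pow _).natDegree_mul hgm, hX1m.natDegree_pow, hgdeg, hX1, natDegree_X_sub_C,
      mul_one]
    omega
  obtain ⟨A, hAc, hAss, hAkill⟩ :=
    Cfsg.Agent.Lib.Helper40_PrimeOrderClasses.exists_matrix_of_monic' n c hcm hcdeg
  have hAr : A ^ r = 1 := by
    have h1 : aeval A ((X : F[X]) ^ r - 1) = 0 := by
      apply hAkill
      intro f hf hfc
      rcases hf.prime.dvd_or_dvd hfc with h | h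
      · exact (hf.prime.dvd_of_dvd_pow h).trans
          (Cfsg.Agent.Lib.Helper40_PrimeOrderClasses.X_sub_one_dvd r hr)
      · exact h.trans hgd
    rw [map_sub, map_pow, aeval_X, map_one] at h1
    exact sub_eq_zero.1 h1
  have hdet : A.det = 1 := by
    apply eq_one_of_pow_eq_one hr hrq
    rw [← Matrix.det_pow, hAr, Matrix.det_one]
  have hgA : g ∣ A.charpoly := by rw [hAc, hc]; exact dvd_mul_left _ _
  refine ⟨⟨A, hdet⟩, hAr, ?_, ?_⟩
  · -- non-scalar
    intro z hz
    have hz' : A = z • (1 : Matrix (Fin n) (Fin n) F) := hz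
    have hk : aeval A ((X : F[X]) - C z) = 0 := by
      rw [map_sub, aeval_X, aeval_C, hz', Algebra.algebraMap_eq_smul_one, sub_self]
    have h3 := Cfsg.Agent.Lib.Helper40_PrimeOrderClasses.dvd_of_irreducible_of_dvd_charpoly A _ hk
      g hgi hgA
    have h4 := natDegree_le_of_dvd h3 (X_sub_C_ne_zero z)
    rw [natDegree_X_sub_C, hgdeg] at h4
    omega
  · -- derangement
    intro P hPmem
    obtain ⟨h₀, s, hs0, hP⟩ := exists_of_conj_mem F₀ ⟨A, hdet⟩ P hPmem
    have hP' : A * (P : Matrix (Fin n) (Fin n) F) =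
        (P : Matrix (Fin n) (Fin n) F) * (s • (h₀ : Matrix (Fin n) (Fin n) F₀).map F₀.subtype) := hP
    set B : Matrix (Fin n) (Fin n) F := s • (h₀ : Matrix (Fin n) (Fin n) F₀).map F₀.subtype with hB
    have hn0 : 0 < n := by omega
    have hpow : ∀ m : ℕ, A ^ m * (P : Matrix (Fin n) (Fin n) F) =
        (P : Matrix (Fin n) (Fin n) F) * B ^ m := by
      intro m
      induction m with
      | zero => simp
      | succ m ih =>
        rw [pow_succ, Matrix.mul_assoc, hP', ← Matrix.mul_assoc, ih, Matrix.mul_assoc, ← pow_succ]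
    have hPinv : ((P⁻¹ : Matrix.SpecialLinearGroup (Fin n) F) : Matrix (Fin n) (Fin n) F) *
        (P : Matrix (Fin n) (Fin n) F) = 1 := by
      rw [← Matrix.SpecialLinearGroup.coe_mul, inv_mul_cancel, Matrix.SpecialLinearGroup.coe_one]
    have hBr : B ^ r = 1 := by
      have h1 := hpow r
      rw [hAr, Matrix.one_mul] at h1
      have h2 : ((P⁻¹ : Matrix.SpecialLinearGroup (Fin n) F) : Matrix (Fin n) (Fin n) F) *
          ((P : Matrix (Fin n) (Fin n) F) * B ^ r) =
          ((P⁻¹ : Matrix.SpecialLinearGroup (Fin n) F) : Matrix (Fin n) (Fin n) F) *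
          (P : Matrix (Fin n) (Fin n) F) := by rw [← h1]
      rw [← Matrix.mul_assoc, hPinv, Matrix.one_mul] at h2
      exact h2
    have hsr : s ^ r ∈ F₀ := pow_mem_of_smul_pow_eq_one hn0 F₀ _ s r hBr
    -- `r ∤ q₀ - 1`
    have hq₀card : Fintype.card F₀ = Nat.card F₀ := (Nat.card_eq_fintype_card).symm
    have hrq₀ : ¬ r ∣ Fintype.card F₀ - 1 := by
      intro h
      apply hrq
      rw [hqk]
      rw [hq₀card] at h
      exact h.trans (Nat.sub_one_dvd_pow_sub_one (Nat.card F₀) k)
    -- `s ∈ F₀`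
    have hs₀ : s ∈ F₀ := by
      have hsr0 : (⟨s ^ r, hsr⟩ : F₀) ≠ 0 := by
        intro h
        have := congrArg (F₀.subtype) h
        simp only [Subfield.coe_subtype, map_zero] at this
        exact pow_ne_zero _ hs0 this
      obtain ⟨b, hb0, hb⟩ := exists_pow_eq (F := F₀) hr hrq₀ hsr0
      have hb' : (b : F) ^ r = s ^ r := by
        have := congrArg (F₀.subtype) hb
        simpa using this
      have hbF : (b : F) ≠ 0 := by
        intro h
        apply hb0
        exact Subtype.ext h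
      have h1 : (s / (b : F)) ^ r = 1 := by
        rw [div_pow, hb', div_self (pow_ne_zero _ hs0)]
      have h2 := eq_one_of_pow_eq_one hr hrq h1
      have h3 : s = (b : F) := by
        field_simp at h2
        exact h2
      rw [h3]
      exact b.2
    -- the characteristic polynomial of `A` is defined over `F₀`
    set B₀ : Matrix (Fin n) (Fin n) F₀ := (⟨s, hs₀⟩ : F₀) • (h₀ : Matrix (Fin n) (Fin n) F₀) with hB₀
    have hBB₀ : B = B₀.map F₀.subtype := by
      rw [hB, hB₀]
      ext a b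
      simp [Matrix.map_apply, Matrix.smul_apply]
    have hAB : A.charpoly = B.charpoly := by
      have hPinv' : (P : Matrix (Fin n) (Fin n) F) *
          ((P⁻¹ : Matrix.SpecialLinearGroup (Fin n) F) : Matrix (Fin n) (Fin n) F) = 1 := by
        rw [← Matrix.SpecialLinearGroup.coe_mul, mul_inv_cancel, Matrix.SpecialLinearGroup.coe_one]
      have h1 : A = (P : Matrix (Fin n) (Fin n) F) * B *
          ((P⁻¹ : Matrix.SpecialLinearGroup (Fin n) F) : Matrix (Fin n) (Fin n) F) := by
        rw [← hP', Matrix.mul_assoc, hPinv', Matrix.mul_one]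
      let U : (Matrix (Fin n) (Fin n) F)ˣ := ⟨(P : Matrix (Fin n) (Fin n) F),
        ((P⁻¹ : Matrix.SpecialLinearGroup (Fin n) F) : Matrix (Fin n) (Fin n) F), hPinv', hPinv⟩
      have h2 := Matrix.charpoly_units_conj U B
      have h3 : (U : Matrix (Fin n) (Fin n) F)⁻¹ =
          ((P⁻¹ : Matrix.SpecialLinearGroup (Fin n) F) : Matrix (Fin n) (Fin n) F) :=
        Matrix.inv_eq_right_inv hPinv'
      rw [h3] at h2
      rw [h1]
      exact h2
    set χ₀ : F₀[X] := B₀.charpoly with hχ₀
    have hχ : χ₀.map F₀.subtype = (X - 1) ^ (n - i) * g := by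
      rw [hχ₀, ← Matrix.charpoly_map, ← hBB₀, ← hAB, hAc]
    have hX1m₀ : (((X : F₀[X]) - 1) ^ (n - i)).Monic := by
      have : ((X : F₀[X]) - 1) = X - C 1 := by rw [map_one]
      rw [this]; exact (monic_X_sub_C 1).pow _
    set g₀ : F₀[X] := χ₀ /ₘ ((X - 1) ^ (n - i)) with hg₀
    have hg₀map : g₀.map F₀.subtype = g := by
      rw [hg₀, map_divByMonic _ hX1m₀, hχ, map_X_sub_one_pow,
        mul_divByMonic_cancel_left _ (hX1m.pow _)]
    have hg₀m : g₀.Monic := monic_of_injective F₀.subtype_injective (by rw [hg₀map]; exact hgm)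
    have hg₀i : Irreducible g₀ :=
      hg₀m.irreducible_of_irreducible_map F₀.subtype g₀ (by rw [hg₀map]; exact hgi)
    have hg₀d : g₀ ∣ X ^ r - 1 := by
      rw [← modByMonic_eq_zero_iff_dvd hg₀m]
      apply Polynomial.map_injective _ F₀.subtype_injective
      rw [map_modByMonic _ hg₀m, hg₀map, Polynomial.map_zero, Polynomial.map_sub,
        Polynomial.map_pow, Polynomial.map_X, Polynomial.map_one,
        modByMonic_eq_zero_iff_dvd hgm]
      exact hgd
    have hg₀1 : g₀ ≠ X - 1 := by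
      intro h
      apply hg1
      rw [← hg₀map, h, Polynomial.map_sub, Polynomial.map_X, Polynomial.map_one]
    obtain ⟨-, W₀, -, hW₀1, hW₀2⟩ :=
      Cfsg.Agent.Lib.Helper40_PrimeOrderClasses.exists_cyclotomic_factors (F := F₀) p r hr hrp
    rcases hW₀2 g₀ hg₀m hg₀i hg₀d with h | h
    · exact hg₀1 h
    · obtain ⟨-, -, -, -, hdeg₀⟩ := hW₀1 g₀ h
      apply hne
      rw [← hq₀card, ← hdeg₀, ← hgdeg, ← hg₀map, natDegree_map]

end Block


section Wrap

variable [Fintype F]

/-- derangement from a small non-invariant eigenvalue multiset -/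
theorem exists_der_small (p : ℕ) [Fact p.Prime] [CharP F p] (F₀ : Subfield F) (n r : ℕ)
    (hr : r.Prime) (ω : F) (M₀ : Multiset F) (s : ℕ) (hs : Multiset.card M₀ = s)
    (hM₀r : ∀ a ∈ M₀, a ^ r = 1) (hM₀1 : ∀ a ∈ M₀, a ≠ 1) (hω : ω ∈ M₀)
    (hωq : ω ^ Nat.card F₀ ∉ M₀) (hωq1 : ω ^ Nat.card F₀ ≠ 1) (hprod : M₀.prod = 1)
    (hsn : s ≤ n) (hcase : ¬ r ∣ n ∨ 2 * s + 1 ≤ n)
    (hdist : ∃ a ∈ M₀ + Multiset.replicate (n - s) (1 : F),
      ∃ b ∈ M₀ + Multiset.replicate (n - s) (1 : F), a ≠ b) :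
    ∃ x : Matrix.SpecialLinearGroup (Fin n) F,
      (x : Matrix (Fin n) (Fin n) F) ^ r = 1 ∧
      (∀ z : F, (x : Matrix (Fin n) (Fin n) F) ≠ z • (1 : Matrix (Fin n) (Fin n) F)) ∧
      ∀ P : Matrix.SpecialLinearGroup (Fin n) F, P⁻¹ * x * P ∉
        ((Cfsg.Geo.subfieldSubgroup F₀ 1).comap
          (Matrix.SpecialLinearGroup.toGL : Matrix.SpecialLinearGroup (Fin n) F →* GL (Fin n) F)) := by
  set M := M₀ + Multiset.replicate (n - s) (1 : F) with hM
  have hcard : Multiset.card M = n := by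
    rw [hM, Multiset.card_add, Multiset.card_replicate, hs]; omega
  have hprodM : M.prod = 1 := by
    rw [hM, Multiset.prod_add, Multiset.prod_replicate, one_pow, mul_one, hprod]
  have hMr : ∀ a ∈ M, a ^ r = 1 := by
    intro a ha
    rw [hM, Multiset.mem_add] at ha
    rcases ha with ha | ha
    · exact hM₀r a ha
    · rw [Multiset.eq_of_mem_replicate ha, one_pow]
  obtain ⟨x, hxc, -, hxr⟩ := exists_elt_of_multiset n M hcard hprodM r 1 hMr
  rw [one_smul] at hxr
  obtain ⟨a, ha, b, hb, hab⟩ := hdist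
  refine ⟨x, hxr, not_scalar_of_roots _ M hxc a b ha hb hab, ?_⟩
  intro P hP
  have hinv := inv_of_conj p F₀ x M hxc P hP
  exact not_inv_of_small (Nat.card F₀) (pow_card_injective p F₀) r hr ω M₀ s n hs hM₀r hM₀1 hω hωq
    hωq1 hprod hsn hcase hinv

/-- derangement for `n = r`, `r ^ 2 ∣ q₀ + 1` -/
theorem exists_der_sq (p : ℕ) [Fact p.Prime] [CharP F p] (F₀ : Subfield F) (r : ℕ)
    (hr3 : 3 ≤ r) (hrodd : Odd r) (η : F) (hη0 : η ≠ 0) (hηq : η ^ Nat.card F₀ = η⁻¹)
    (hηr : η ^ r ≠ 1) (hηrr : (η ^ r) ^ r = 1) :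
    ∃ x : Matrix.SpecialLinearGroup (Fin r) F,
      (x : Matrix (Fin r) (Fin r) F) ^ r = (η ^ r) • (1 : Matrix (Fin r) (Fin r) F) ∧
      (∀ z : F, (x : Matrix (Fin r) (Fin r) F) ≠ z • (1 : Matrix (Fin r) (Fin r) F)) ∧
      ∀ P : Matrix.SpecialLinearGroup (Fin r) F, P⁻¹ * x * P ∉
        ((Cfsg.Geo.subfieldSubgroup F₀ 1).comap
          (Matrix.SpecialLinearGroup.toGL : Matrix.SpecialLinearGroup (Fin r) F →* GL (Fin r) F)) := by
  set M := Multiset.replicate (r - 1) η + {η / η ^ r} with hM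
  have hηr0 : η ^ r ≠ 0 := pow_ne_zero _ hη0
  have hcard : Multiset.card M = r := by
    rw [hM, Multiset.card_add, Multiset.card_replicate, Multiset.card_singleton]; omega
  have hprodM : M.prod = 1 := by
    rw [hM, Multiset.prod_add, Multiset.prod_replicate, Multiset.prod_singleton]
    have : η ^ (r - 1) * η = η ^ r := by
      rw [← pow_succ]; congr 1; omega
    rw [mul_div_assoc', this, div_self hηr0]
  have hMr : ∀ a ∈ M, a ^ r = η ^ r := by
    intro a ha
    rw [hM, Multiset.mem_add] at ha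
    rcases ha with ha | ha
    · rw [Multiset.eq_of_mem_replicate ha]
    · rw [Multiset.mem_singleton.1 ha, div_pow, hηrr, div_one]
  obtain ⟨x, hxc, -, hxr⟩ := exists_elt_of_multiset r M hcard hprodM r (η ^ r) hMr
  have hne : η ≠ η / η ^ r := by
    intro h
    apply hηr
    field_simp at h
    exact h
  have hηM : η ∈ M := by
    rw [hM, Multiset.mem_add]
    left
    rw [Multiset.mem_replicate]
    exact ⟨by omega, rfl⟩
  have hζM : η / η ^ r ∈ M := by
    rw [hM, Multiset.mem_add]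
    right
    exact Multiset.mem_singleton_self _
  refine ⟨x, hxr, not_scalar_of_roots _ M hxc _ _ hηM hζM hne, ?_⟩
  intro P hP
  have hinv := inv_of_conj p F₀ x M hxc P hP
  exact not_inv_of_sq (Nat.card F₀) (pow_card_injective p F₀) r hr3 hrodd η hη0 hηq hηr hηrr hinv

end Wrap

end Cfsg.Agent.Lib.Helper68_SubfDer
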