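import Mathlib
import Cfsg.Agent.S0242
import Cfsg.Agent.Lib.Helper68_SpIdx
import Cfsg.Agent.Lib.Helper43_SubfieldSL

set_option autoImplicit false

/-!
Primes dividing the index of the subfield subgroup `GL_n(q₀) · F^* ∩ SL_n(q)` in `SL_n(q)`,
`q = q₀ ^ k` (used for S5965).
-/

namespace Cfsg.Agent.Lib.Helper68_SubfIdx

open Finset

theorem geom_identity (x k : ℕ) (hx : 1 ≤ x) :
    (x - 1) * ∑ t ∈ range k, x ^ t = x ^ k - 1 := by
  obtain ⟨y, rfl⟩ : ∃ y, x = y + 1 := ⟨x - 1, by omega⟩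
  have h := geom_sum_mul_add y k
  rw [Nat.add_sub_cancel, mul_comm]
  omega

theorem prod_succ_split (q m : ℕ) :
    ∏ i ∈ range (m + 1), (q ^ (i + 1) - 1) = (q - 1) * ∏ i ∈ range m, (q ^ (i + 2) - 1) := by
  rw [prod_range_succ']
  simp only [zero_add, pow_one]
  rw [mul_comm]

/-- the arithmetic core -/
theorem arith_idx (q₀ k m J r A B : ℕ) (hq₀ : 2 ≤ q₀) (hk : 1 ≤ k) (hr : r.Prime) (hrJ : r ∣ J)
    (hA : (q₀ ^ k - 1) * A = ∏ i ∈ range (m + 1), ((q₀ ^ k) ^ (m + 1) - (q₀ ^ k) ^ i))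
    (hB : (q₀ - 1) * B = ∏ i ∈ range (m + 1), (q₀ ^ (m + 1) - q₀ ^ i))
    (hJ : J * B = A) :
    r ∣ q₀ ∨ ∃ j, 2 ≤ j ∧ j ≤ m + 1 ∧ r ∣ ∑ t ∈ range k, (q₀ ^ j) ^ t := by
  set q := q₀ ^ k with hq
  have hq2 : 2 ≤ q := by
    calc 2 ≤ q₀ := hq₀
      _ = q₀ ^ 1 := (pow_one _).symm
      _ ≤ q₀ ^ k := Nat.pow_le_pow_right (by omega) hk
  rw [Cfsg.Agent.Lib.Helper68_SpIdx.prod_pow_sub q _ (by omega), prod_succ_split] at hA
  rw [Cfsg.Agent.Lib.Helper68_SpIdx.prod_pow_sub q₀ _ (by omega), prod_succ_split] at hB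
  set S := ∑ i ∈ range (m + 1), i with hS
  set Pq := ∏ i ∈ range m, (q ^ (i + 2) - 1) with hPq
  set P0 := ∏ i ∈ range m, (q₀ ^ (i + 2) - 1) with hP0
  set G := ∏ i ∈ range m, ∑ t ∈ range k, (q₀ ^ (i + 2)) ^ t with hG
  have hA' : A = q ^ S * Pq := by
    have : (q - 1) * A = (q - 1) * (q ^ S * Pq) := by rw [hA]; ring
    exact Nat.eq_of_mul_eq_mul_left (by omega) this
  have hB' : B = q₀ ^ S * P0 := by
    have : (q₀ - 1) * B = (q₀ - 1) * (q₀ ^ S * P0) := by rw [hB]; ring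
    exact Nat.eq_of_mul_eq_mul_left (by omega) this
  have hPq' : Pq = P0 * G := by
    rw [hPq, hP0, hG, ← prod_mul_distrib]
    apply prod_congr rfl
    intro i _
    rw [geom_identity _ _ (Nat.one_le_two_pow.trans (Nat.pow_le_pow_left hq₀ _)), hq, ← pow_mul,
      ← pow_mul, mul_comm k]
  have hP0pos : 0 < P0 := prod_pos (fun i _ =>
    Nat.sub_pos_of_lt (Nat.one_lt_pow (by omega) (by omega)))
  have hkey : J * q₀ ^ S = q ^ S * G := by
    have : P0 * (J * q₀ ^ S) = P0 * (q ^ S * G) := by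
      calc P0 * (J * q₀ ^ S) = J * (q₀ ^ S * P0) := by ring
        _ = J * B := by rw [hB']
        _ = A := hJ
        _ = q ^ S * (P0 * G) := by rw [hA', hPq']
        _ = P0 * (q ^ S * G) := by ring
    exact Nat.eq_of_mul_eq_mul_left hP0pos this
  have hdvd : r ∣ q ^ S * G := hkey ▸ Dvd.dvd.mul_right hrJ _
  rcases (Nat.Prime.dvd_mul hr).1 hdvd with h1 | h1
  · left
    exact hr.dvd_of_dvd_pow (hr.dvd_of_dvd_pow h1)
  · right
    rw [hG, Prime.dvd_finsetProd_iff hr.prime] at h1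
    obtain ⟨i, hi, hri⟩ := h1
    rw [mem_range] at hi
    exact ⟨i + 2, by omega, by omega, hri⟩

theorem dvd_pow_sub_of_dvd_geom (q₀ k j r : ℕ) (hq₀ : 1 ≤ q₀)
    (h : r ∣ ∑ t ∈ range k, (q₀ ^ j) ^ t) : r ∣ (q₀ ^ k) ^ j - 1 := by
  rw [← pow_mul, mul_comm k j, pow_mul, ← geom_identity _ _ (Nat.one_le_pow _ _ hq₀)]
  exact Dvd.dvd.mul_left h _

theorem dvd_of_dvd_geom_of_dvd (q₀ k j r : ℕ) (hq₀ : 1 ≤ q₀)
    (h : r ∣ ∑ t ∈ range k, (q₀ ^ j) ^ t) (h1 : r ∣ q₀ ^ j - 1) : r ∣ k := by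
  have hx : ((q₀ ^ j : ℕ) : ZMod r) = 1 := by
    have h2 : ((q₀ ^ j - 1 : ℕ) : ZMod r) = 0 := (ZMod.natCast_eq_zero_iff _ _).2 h1
    rw [Nat.cast_sub (Nat.one_le_pow _ _ hq₀), Nat.cast_one, sub_eq_zero] at h2
    exact h2
  have h3 : ((∑ t ∈ range k, (q₀ ^ j) ^ t : ℕ) : ZMod r) = 0 := (ZMod.natCast_eq_zero_iff _ _).2 h
  rw [Nat.cast_sum] at h3
  simp only [Nat.cast_pow] at h3 hx
  simp only [hx, one_pow, sum_const, card_range, nsmul_eq_mul, mul_one] at h3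
  exact (ZMod.natCast_eq_zero_iff _ _).1 h3

section Grp

open scoped MatrixGroups

variable {F : Type*} [Field F] [Fintype F]

omit [Fintype F] in
/-- the subfield subgroup contains `SL_n(F₀)` -/
theorem map_mem_subfield {n : ℕ} (F₀ : Subfield F) (g : Matrix.SpecialLinearGroup (Fin n) F₀) :
    Matrix.SpecialLinearGroup.map F₀.subtype g ∈
      ((Cfsg.Geo.subfieldSubgroup F₀ 1).comap
        (Matrix.SpecialLinearGroup.toGL : Matrix.SpecialLinearGroup (Fin n) F →* GL (Fin n) F)) := by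
  rw [Subgroup.mem_comap, Cfsg.Agent.Lib.Helper43_SubfieldSL.mem_subfieldSubgroup_one]
  refine ⟨Matrix.SpecialLinearGroup.toGL g, 1, ?_⟩
  rw [Units.val_one, one_smul]
  rfl

omit [Fintype F] in
theorem map_injective {n : ℕ} (F₀ : Subfield F) :
    Function.Injective (Matrix.SpecialLinearGroup.map (n := Fin n) F₀.subtype) := by
  intro a b hab
  apply Subtype.ext
  have h := congrArg (fun g : Matrix.SpecialLinearGroup (Fin n) F => (g : Matrix (Fin n) (Fin n) F)) hab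
  ext i j
  have h2 := congrFun (congrFun h i) j
  exact Subtype.ext_iff.1 (F₀.subtype_injective h2)

/-- **Index lemma**: a prime `r ≠ p, k` dividing the index of the subfield subgroup in `SL_n(q)`,
`q = q₀ ^ k`, divides `q ^ j - 1` but not `q₀ ^ j - 1` for some `2 ≤ j ≤ n`. -/
theorem exists_of_dvd_index {p : ℕ} [Fact p.Prime] [CharP F p] {q : ℕ} (hq : Fintype.card F = q)
    (n : ℕ) (hn : 1 ≤ n) (F₀ : Subfield F) (k q₀ : ℕ) (hk : k.Prime) (hF₀ : Nat.card F₀ = q₀)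
    (hqk : q = q₀ ^ k) (r : ℕ) (hr : r.Prime) (hrp : r ≠ p) (hrk : r ≠ k)
    (hΩ : r ∣ ((Cfsg.Geo.subfieldSubgroup F₀ 1).comap
        (Matrix.SpecialLinearGroup.toGL : Matrix.SpecialLinearGroup (Fin n) F →* GL (Fin n) F)).index) :
    ∃ j, 2 ≤ j ∧ j ≤ n ∧ r ∣ q ^ j - 1 ∧ ¬ r ∣ q₀ ^ j - 1 := by
  classical
  have : Fintype F₀ := Fintype.ofFinite F₀
  have hp : p.Prime := Fact.out
  have hF₀' : Fintype.card F₀ = q₀ := by rw [← Nat.card_eq_fintype_card, hF₀]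
  have hq₀2 : 2 ≤ q₀ := by rw [← hF₀']; exact Fintype.one_lt_card
  set φ := Matrix.SpecialLinearGroup.map (n := Fin n) F₀.subtype with hφ
  have hle : φ.range ≤ ((Cfsg.Geo.subfieldSubgroup F₀ 1).comap
        (Matrix.SpecialLinearGroup.toGL : Matrix.SpecialLinearGroup (Fin n) F →* GL (Fin n) F)) := by
    rintro _ ⟨g, rfl⟩
    exact map_mem_subfield F₀ g
  have hdvd := Subgroup.index_dvd_of_le hle
  have hJ : φ.range.index * Nat.card (Matrix.SpecialLinearGroup (Fin n) F₀) =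
      Nat.card (Matrix.SpecialLinearGroup (Fin n) F) := by
    rw [Nat.card_congr (MonoidHom.ofInjective (map_injective F₀)).toEquiv]
    exact Subgroup.index_mul_card φ.range
  obtain ⟨m, rfl⟩ : ∃ m, n = m + 1 := ⟨n - 1, by omega⟩
  have hA := Cfsg.Agent.S0242.result hq (m + 1) hn
  have hB := Cfsg.Agent.S0242.result hF₀' (m + 1) hn
  rw [Fin.prod_univ_eq_prod_range (fun i => q ^ (m + 1) - q ^ i)] at hA
  rw [Fin.prod_univ_eq_prod_range (fun i => q₀ ^ (m + 1) - q₀ ^ i)] at hB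
  rw [hqk] at hA
  rcases arith_idx q₀ k m _ r _ _ hq₀2 hk.one_lt.le hr (hΩ.trans hdvd) hA hB hJ with h | h
  · exfalso
    obtain ⟨e, -, he⟩ := FiniteField.card F₀ p
    rw [hF₀'] at he
    rw [he] at h
    exact hrp ((Nat.prime_dvd_prime_iff_eq hr hp).1 (hr.dvd_of_dvd_pow h))
  · obtain ⟨j, hj2, hjn, hrj⟩ := h
    refine ⟨j, hj2, hjn, ?_, ?_⟩
    · rw [hqk]
      exact dvd_pow_sub_of_dvd_geom q₀ k j r (by omega) hrj
    · intro h1
      have := dvd_of_dvd_geom_of_dvd q₀ k j r (by omega) hrj h1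
      exact hrk ((Nat.prime_dvd_prime_iff_eq hr hk).1 this)

end Grp

end Cfsg.Agent.Lib.Helper68_SubfIdx
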