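import Mathlib
import Cfsg.Agent.Lib.Helper68_SubfCrit
import Cfsg.Agent.Lib.Helper99_PrimeOrderSL

set_option autoImplicit false

/-!
Sufficiency directions for S5965: elements of prime order `r` of `PSL_n(q)` that are always
conjugate into the subfield subgroup.
-/

namespace Cfsg.Agent.Lib.Helper68_SubfSuff

open Polynomial Matrix
open Cfsg.Agent.Lib.Helper40_SemisimpleGL Cfsg.Agent.Lib.Helper68_SubfCrit
  Cfsg.Agent.Lib.Helper99_PrimeOrderSL

universe v

variable {F : Type v} [Field F] [Fintype F]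

/-- an element `z` with `z ^ m = 1`, where the `r`-part of `r * m` is at most the `r`-part of
`q - 1`, is an `r`-th power -/
theorem exists_pow_eq_of_pow_eq_one (r : ℕ) [Fact r.Prime] (m : ℕ) (hm : 1 ≤ m)
    (hval : padicValNat r (r * m) ≤ padicValNat r (Fintype.card F - 1))
    (z : F) (hz : z ^ m = 1) : ∃ c : F, c ^ r = z := by
  classical
  have hr : r.Prime := Fact.out
  have hz0 : z ≠ 0 := by
    rintro rfl
    rw [zero_pow (by omega)] at hz
    exact zero_ne_one hz
  obtain ⟨g, hg⟩ := IsCyclic.exists_monoid_generator (α := Fˣ)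
  have hord : orderOf g = Fintype.card F - 1 := by
    rw [orderOf_eq_card_of_forall_mem_powers hg, Nat.card_units, Nat.card_eq_fintype_card]
  obtain ⟨e, he⟩ := hg (Units.mk0 z hz0)
  have he' : g ^ e = Units.mk0 z hz0 := he
  set N := Fintype.card F - 1 with hN
  have h1 : N ∣ e * m := by
    rw [← hord, orderOf_dvd_iff_pow_eq_one, pow_mul, he']
    apply Units.ext
    rw [Units.val_pow_eq_pow_val, Units.val_mk0, hz, Units.val_one]
  set a := padicValNat r N with ha
  have h2 : r ^ a ∣ e * m := (pow_padicValNat_dvd).trans h1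
  have hvm : padicValNat r (r * m) = 1 + padicValNat r m := by
    rw [padicValNat.mul hr.ne_zero (by omega), padicValNat.self hr.one_lt]
  have hre : r ∣ e := by
    by_contra hre
    have hcop : Nat.Coprime (r ^ a) e := Nat.Coprime.pow_left _ ((Nat.Prime.coprime_iff_not_dvd hr).2 hre)
    have h3 : r ^ a ∣ m := hcop.dvd_of_dvd_mul_left h2
    have h4 := (padicValNat_dvd_iff_le (p := r) (by omega : m ≠ 0)).1 h3
    omega
  obtain ⟨e', rfl⟩ := hre
  refine ⟨((g ^ e' : Fˣ) : F), ?_⟩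
  have h5 : ((g ^ e') ^ r : Fˣ) = Units.mk0 z hz0 := by rw [← pow_mul, mul_comm, he']
  have := congrArg Units.val h5
  rwa [Units.val_pow_eq_pow_val, Units.val_mk0] at this

/-- `q₀ ^ r ≡ q₀ (mod r)` -/
theorem pow_prime_sub_self_dvd (r : ℕ) [Fact r.Prime] (q₀ : ℕ) : r ∣ q₀ ^ r - q₀ := by
  have h1 : ((q₀ ^ r : ℕ) : ZMod r) = ((q₀ : ℕ) : ZMod r) := by
    rw [Nat.cast_pow, ZMod.pow_card]
  have h2 := (ZMod.natCast_eq_natCast_iff' _ _ _).1 h1
  exact (Nat.modEq_iff_dvd' (Nat.le_self_pow (Fact.out : r.Prime).ne_zero q₀)).1 h2.symm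


omit [Fintype F] in
/-- a scalar `z` with `x ^ r = z` for `x ∈ SL_n` is nonzero -/
theorem scalar_ne_zero {n : ℕ} (hn : 1 ≤ n) (x : Matrix.SpecialLinearGroup (Fin n) F) (r : ℕ)
    (z : F) (hz : (x : Matrix (Fin n) (Fin n) F) ^ r = z • (1 : Matrix (Fin n) (Fin n) F)) :
    z ≠ 0 := by
  rintro rfl
  have h1 := congrArg Matrix.det hz
  have : Nonempty (Fin n) := ⟨⟨0, hn⟩⟩
  rw [Matrix.det_pow, x.2, one_pow, zero_smul, Matrix.det_zero] at h1
  exact one_ne_zero h1

/-- **Sufficiency for `r = k`**: if `q = q₀ ^ r`, every element of `SL_n(q)` whose `r`-th power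
is scalar is conjugate into the subfield subgroup (under the gap hypothesis). -/
theorem conj_of_eq_k (p : ℕ) [Fact p.Prime] [CharP F p] (F₀ : Subfield F) (n : ℕ) (hn : 1 ≤ n)
    (r : ℕ) [Fact r.Prime] (hr2 : r ≠ 2) (hrp : r ≠ p)
    (hqk : Fintype.card F = Nat.card F₀ ^ r)
    (hgapk : r ∣ Nat.card F₀ - 1 → padicValNat r n ≤ padicValNat r (Fintype.card F - 1))
    (x : Matrix.SpecialLinearGroup (Fin n) F) (z : F)
    (hz : ((x ^ r : Matrix.SpecialLinearGroup (Fin n) F) : Matrix (Fin n) (Fin n) F) =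
      z • (1 : Matrix (Fin n) (Fin n) F)) :
    ∃ P : Matrix.SpecialLinearGroup (Fin n) F, P⁻¹ * x * P ∈
      ((Cfsg.Geo.subfieldSubgroup F₀ 1).comap
        (Matrix.SpecialLinearGroup.toGL : Matrix.SpecialLinearGroup (Fin n) F →* GL (Fin n) F)) := by
  classical
  have hr : r.Prime := Fact.out
  have hp : p.Prime := Fact.out
  set q₀ := Nat.card F₀ with hq₀
  have hxr : (x : Matrix (Fin n) (Fin n) F) ^ r = z • (1 : Matrix (Fin n) (Fin n) F) := by
    rw [← hz, Matrix.SpecialLinearGroup.coe_pow]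
  have hz0 : z ≠ 0 := scalar_ne_zero hn x r z hxr
  have hq₀pos : 1 ≤ q₀ := Nat.card_pos
  have hdvd : r ∣ Fintype.card F - q₀ := by
    rw [hqk]; exact pow_prime_sub_self_dvd r q₀
  have hle : q₀ ≤ Fintype.card F := by
    rw [hqk]; exact Nat.le_self_pow hr.ne_zero q₀
  -- Step 1: `z` is an `r`-th power
  have hpow : ∃ c : F, c ^ r = z := by
    by_cases hrq : r ∣ Fintype.card F - 1
    · by_contra hno
      push Not at hno
      have hrq₀ : r ∣ q₀ - 1 := by
        have h1 : q₀ - 1 = (Fintype.card F - 1) - (Fintype.card F - q₀) := by omega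
        rw [h1]
        exact Nat.dvd_sub hrq hdvd
      have hdet := det_of_nonpower (x : Matrix (Fin n) (Fin n) F) hr hno hxr
      obtain ⟨hrn, -⟩ := nonpower_facts (x : Matrix (Fin n) (Fin n) F) hr hno hxr
      rw [x.2] at hdet
      have hodd : Odd r := hr.odd_of_ne_two hr2
      have hsign : ((-1 : F)) ^ (r + 1) = 1 := by
        rw [Even.neg_one_pow]
        exact hodd.add_one
      rw [hsign, one_mul] at hdet
      obtain ⟨m, hm⟩ := hrn
      have hm1 : 1 ≤ m := by
        rcases Nat.eq_zero_or_pos m with h | h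
        · rw [h, mul_zero] at hm; omega
        · exact h
      have hdiv : n / r = m := by rw [hm, Nat.mul_div_cancel_left _ hr.pos]
      rw [hdiv] at hdet
      have hval := hgapk hrq₀
      rw [hm] at hval
      obtain ⟨c, hc⟩ := exists_pow_eq_of_pow_eq_one r m hm1 hval z hdet.symm
      exact hno c hc
    · obtain ⟨c, -, hc⟩ := exists_pow_eq hr hrq hz0
      exact ⟨c, hc⟩
  obtain ⟨c, hc⟩ := hpow
  have hc0 : c ≠ 0 := by
    rintro rfl
    rw [zero_pow hr.ne_zero] at hc
    exact hz0 hc.symm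
  -- Step 2: `y = c⁻¹ x` has order dividing `r`
  set y : Matrix (Fin n) (Fin n) F := c⁻¹ • (x : Matrix (Fin n) (Fin n) F) with hy
  have hyr : y ^ r = 1 := by
    rw [hy, _root_.smul_pow, hxr, smul_smul, inv_pow, hc, inv_mul_cancel₀ hz0, one_smul]
  have hrF : ((r : ℕ) : F) ≠ 0 := natCast_ne_zero (p := p) hr hrp
  have hss : IsSS y := isSS_of_pow_eq_one y r hrF hyr
  -- Step 3: the characteristic polynomial is fixed by the `q₀`-power map
  have hpoweq : y ^ (Fintype.card F) = y ^ q₀ := by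
    obtain ⟨t, ht⟩ := hdvd
    have h1 : Fintype.card F = q₀ + r * t := by omega
    rw [h1, pow_add, pow_mul, hyr, one_pow, mul_one]
  have hfix : ∀ i, (y.charpoly.coeff i) ^ q₀ = y.charpoly.coeff i := by
    intro i
    rw [hq₀, ← coeff_charpoly_pow_card p F₀ y i, ← hq₀, ← hpoweq,
      FiniteField.Matrix.charpoly_pow_card]
  obtain ⟨c₀, hc₀⟩ := exists_lift_of_coeff_fixed F₀ y.charpoly hfix
  exact conj_of_charpoly_lifts (by omega) F₀ x c hc0 hss c₀ hc₀


section Sym

omit [Fintype F] in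
/-- powers of a primitive root depend only on the exponent modulo `r` -/
theorem pow_eq_of_cast_eq (r : ℕ) (ω : F) (hω : IsPrimitiveRoot ω r) (a b : ℕ)
    (h : (a : ZMod r) = (b : ZMod r)) : ω ^ a = ω ^ b := by
  rw [ZMod.natCast_eq_natCast_iff'] at h
  rw [← pow_mod_orderOf ω a, ← pow_mod_orderOf ω b, ← hω.eq_orderOf, h]

omit [Fintype F] in
/-- **Symmetrisation**: a multiset of `r`-th roots of unity with product one whose exponent
counts are symmetric about some point can be rescaled to be closed under inversion. -/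
theorem exists_scaling (r : ℕ) [Fact r.Prime] (hr2 : r ≠ 2) (ω : F) (hω : IsPrimitiveRoot ω r)
    (M : Multiset F) (hMr : ∀ a ∈ M, a ^ r = 1) (hprod : M.prod = 1)
    (hsym : ∀ c : ZMod r → ℕ, ∑ j, c j = Multiset.card M → r ∣ ∑ j : ZMod r, j.val * c j →
      ∃ t : ZMod r, ∀ j, c (t - j) = c j) :
    ∃ s : F, s ≠ 0 ∧ s ^ r = 1 ∧ M.map (fun a => (a / s)⁻¹) = M.map (fun a => a / s) := by
  classical
  have hr : r.Prime := Fact.out
  have : NeZero r := ⟨hr.ne_zero⟩
  set e : ZMod r → F := fun j => ω ^ j.val with he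
  have hω0 : ω ≠ 0 := hω.ne_zero hr.ne_zero
  have he0 : ∀ j, e j ≠ 0 := fun j => pow_ne_zero _ hω0
  have heinj : Function.Injective e := by
    intro i j hij
    exact ZMod.val_injective r (hω.pow_inj (ZMod.val_lt i) (ZMod.val_lt j) hij)
  have hemul : ∀ i j : ZMod r, e i * e j = e (i + j) := by
    intro i j
    rw [he]
    simp only
    rw [← pow_add]
    apply pow_eq_of_cast_eq r ω hω
    rw [Nat.cast_add, ZMod.natCast_zmod_val, ZMod.natCast_zmod_val, ZMod.natCast_zmod_val]
  have her : ∀ j, e j ^ r = 1 := by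
    intro j
    rw [he]
    simp only
    rw [← pow_mul, mul_comm, pow_mul, hω.pow_eq_one, one_pow]
  have hezero : e 0 = 1 := by rw [he]; simp
  have heinv : ∀ j : ZMod r, (e j)⁻¹ = e (-j) := by
    intro j
    have h1 : e j * e (-j) = 1 := by rw [hemul, add_neg_cancel, hezero]
    exact inv_eq_of_mul_eq_one_right h1
  have hsurj : ∀ a : F, a ^ r = 1 → ∃ j, e j = a := by
    intro a ha
    obtain ⟨i, hi, hia⟩ := hω.eq_pow_of_pow_eq_one ha
    refine ⟨(i : ZMod r), ?_⟩
    rw [he]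
    simp only
    rw [ZMod.val_natCast_of_lt hi, hia]
  set c : ZMod r → ℕ := fun j => Multiset.count (e j) M with hc
  set S : Finset F := Finset.univ.image e with hS
  have hMS : ∀ a ∈ M, a ∈ S := by
    intro a ha
    obtain ⟨j, rfl⟩ := hsurj a (hMr a ha)
    rw [hS]; exact Finset.mem_image_of_mem e (Finset.mem_univ j)
  have h1 : ∑ j, c j = Multiset.card M := by
    rw [← Multiset.sum_count_eq_card hMS, hS, Finset.sum_image (fun i _ j _ h => heinj h)]
  have h2 : r ∣ ∑ j : ZMod r, j.val * c j := by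
    have h3 : M.prod = ∏ a ∈ S, a ^ Multiset.count a M := by
      apply Finset.prod_multiset_count_of_subset
      intro a ha
      exact hMS a (Multiset.mem_toFinset.1 ha)
    rw [hS, Finset.prod_image (fun i _ j _ h => heinj h)] at h3
    have h4 : ∀ j ∈ (Finset.univ : Finset (ZMod r)), e j ^ Multiset.count (e j) M =
        ω ^ (j.val * c j) := by
      intro j _
      rw [he, hc]
      simp only
      rw [pow_mul]
    rw [Finset.prod_congr rfl h4, Finset.prod_pow_eq_pow_sum, hprod] at h3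
    exact (hω.pow_eq_one_iff_dvd _).1 h3.symm
  obtain ⟨t, ht⟩ := hsym c h1 h2
  have h2u : (2 : ZMod r) ≠ 0 := by
    intro h
    have h3 : ((2 : ℕ) : ZMod r) = 0 := by exact_mod_cast h
    rw [ZMod.natCast_eq_zero_iff] at h3
    exact hr2 ((Nat.prime_dvd_prime_iff_eq hr Nat.prime_two).1 h3)
  set hh : ZMod r := t / 2 with hhh
  have hhh2 : hh + hh = t := by
    rw [hhh, ← two_mul, mul_div_cancel₀ _ h2u]
  set s : F := e hh with hs
  refine ⟨s, he0 hh, her hh, ?_⟩
  rw [Multiset.ext]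
  intro b
  set φ : F → F := fun a => (a / s)⁻¹ with hφ
  set ψ : F → F := fun a => a / s with hψ
  have hs0 : s ≠ 0 := he0 hh
  have hφinj : Function.Injective φ := by
    intro x y hxy
    have h3 : (x / s)⁻¹ = (y / s)⁻¹ := hxy
    have h4 := inv_injective h3
    field_simp at h4
    exact h4
  have hψinj : Function.Injective ψ := by
    intro x y hxy
    have h3 : x / s = y / s := hxy
    field_simp at h3
    exact h3
  have hb1 : b = φ (s * b⁻¹) := by
    rw [hφ]
    simp only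
    rw [mul_div_cancel_left₀ _ hs0, inv_inv]
  have hb2 : b = ψ (b * s) := by
    rw [hψ]
    simp only
    rw [mul_div_cancel_right₀ _ hs0]
  have hc1 : Multiset.count b (M.map φ) = Multiset.count (s * b⁻¹) M := by
    conv_lhs => rw [hb1]
    exact Multiset.count_map_eq_count' φ M hφinj _
  have hc2 : Multiset.count b (M.map ψ) = Multiset.count (b * s) M := by
    conv_lhs => rw [hb2]
    exact Multiset.count_map_eq_count' ψ M hψinj _
  rw [hc1, hc2]
  by_cases hbs : (b * s) ^ r = 1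
  · obtain ⟨j, hj⟩ := hsurj _ hbs
    have hb : b = e (j - hh) := by
      have h3 : b = e j * (e hh)⁻¹ := by
        rw [hj, ← hs, mul_assoc, mul_inv_cancel₀ hs0, mul_one]
      rw [h3, heinv, hemul, sub_eq_add_neg]
    have h5 : s * b⁻¹ = e (t - j) := by
      rw [hb, heinv, hs, hemul]
      congr 1
      rw [← hhh2]; ring
    rw [h5, ← hj]
    exact ht j
  · have h3 : b * s ∉ M := fun h => hbs (hMr _ h)
    have h4 : s * b⁻¹ ∉ M := by
      intro h
      have h5 := hMr _ h
      rw [mul_pow, her hh, one_mul, inv_pow] at h5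
      have h6 : b ^ r = 1 := by
        have := inv_eq_one.1 h5
        exact this
      apply hbs
      rw [mul_pow, h6, her hh, one_mul]
    rw [Multiset.count_eq_zero_of_notMem h3, Multiset.count_eq_zero_of_notMem h4]

end Sym


section Comb

set_option synthInstance.maxSize 2000 in
set_option synthInstance.maxHeartbeats 200000 in
set_option maxRecDepth 100000 in
theorem five_fin : ∀ c0 c1 c2 c3 c4 : Fin 6, c0.val + c1.val + c2.val + c3.val + c4.val = 5 →
    (c1.val + 2 * c2.val + 3 * c3.val + 4 * c4.val) % 5 = 0 →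
    ((c1 = c4 ∧ c2 = c3) ∨ (c0 = c1 ∧ c2 = c4) ∨ (c0 = c2 ∧ c3 = c4) ∨ (c0 = c3 ∧ c1 = c2) ∨
      (c0 = c4 ∧ c1 = c3)) := by
  decide

theorem five_nat (c0 c1 c2 c3 c4 : ℕ) (h : c0 + c1 + c2 + c3 + c4 = 5)
    (h' : (c1 + 2 * c2 + 3 * c3 + 4 * c4) % 5 = 0) :
    (c1 = c4 ∧ c2 = c3) ∨ (c0 = c1 ∧ c2 = c4) ∨ (c0 = c2 ∧ c3 = c4) ∨ (c0 = c3 ∧ c1 = c2) ∨
      (c0 = c4 ∧ c1 = c3) := by
  have := five_fin ⟨c0, by omega⟩ ⟨c1, by omega⟩ ⟨c2, by omega⟩ ⟨c3, by omega⟩ ⟨c4, by omega⟩ h h'
  simpa [Fin.ext_iff] using this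

/-- multisets of size `5` in `ℤ/5` with sum zero are symmetric about some point -/
theorem sym5 (c : ZMod 5 → ℕ) (h1 : ∑ j, c j = 5) (h2 : 5 ∣ ∑ j : ZMod 5, j.val * c j) :
    ∃ t : ZMod 5, ∀ j, c (t - j) = c j := by
  have huniv : (Finset.univ : Finset (ZMod 5)) = {0, 1, 2, 3, 4} := by decide
  have e1 : ∑ j : ZMod 5, c j = c 0 + c 1 + c 2 + c 3 + c 4 := by
    rw [huniv, Finset.sum_insert (by decide), Finset.sum_insert (by decide),
      Finset.sum_insert (by decide), Finset.sum_insert (by decide), Finset.sum_singleton]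
    ring
  have e2 : ∑ j : ZMod 5, j.val * c j = c 1 + 2 * c 2 + 3 * c 3 + 4 * c 4 := by
    rw [huniv, Finset.sum_insert (by decide), Finset.sum_insert (by decide),
      Finset.sum_insert (by decide), Finset.sum_insert (by decide), Finset.sum_singleton]
    have h0 : (0 : ZMod 5).val = 0 := rfl
    have h1 : (1 : ZMod 5).val = 1 := rfl
    have h2 : (2 : ZMod 5).val = 2 := rfl
    have h3 : (3 : ZMod 5).val = 3 := rfl
    have h4 : (4 : ZMod 5).val = 4 := rfl
    rw [h0, h1, h2, h3, h4]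
    ring
  rw [e1] at h1
  rw [e2] at h2
  have key : ∀ j : ZMod 5, j = 0 ∨ j = 1 ∨ j = 2 ∨ j = 3 ∨ j = 4 := by decide
  rcases five_nat _ _ _ _ _ h1 (Nat.mod_eq_zero_of_dvd h2) with ⟨a, b⟩ | ⟨a, b⟩ | ⟨a, b⟩ | ⟨a, b⟩ | ⟨a, b⟩
  · refine ⟨0, fun j => ?_⟩
    rcases key j with rfl | rfl | rfl | rfl | rfl <;> reduce_mod_char <;> omega
  · refine ⟨1, fun j => ?_⟩
    rcases key j with rfl | rfl | rfl | rfl | rfl <;> reduce_mod_char <;> omega
  · refine ⟨2, fun j => ?_⟩
    rcases key j with rfl | rfl | rfl | rfl | rfl <;> reduce_mod_char <;> omega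
  · refine ⟨3, fun j => ?_⟩
    rcases key j with rfl | rfl | rfl | rfl | rfl <;> reduce_mod_char <;> omega
  · refine ⟨4, fun j => ?_⟩
    rcases key j with rfl | rfl | rfl | rfl | rfl <;> reduce_mod_char <;> omega

/-- multisets of size `3` in `ℤ/3` with sum zero are symmetric about some point -/
theorem sym3 (c : ZMod 3 → ℕ) (h1 : ∑ j, c j = 3) (h2 : 3 ∣ ∑ j : ZMod 3, j.val * c j) :
    ∃ t : ZMod 3, ∀ j, c (t - j) = c j := by
  have huniv : (Finset.univ : Finset (ZMod 3)) = {0, 1, 2} := by decide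
  have e1 : ∑ j : ZMod 3, c j = c 0 + c 1 + c 2 := by
    rw [huniv, Finset.sum_insert (by decide), Finset.sum_insert (by decide),
      Finset.sum_singleton]
    ring
  have e2 : ∑ j : ZMod 3, j.val * c j = c 1 + 2 * c 2 := by
    rw [huniv, Finset.sum_insert (by decide), Finset.sum_insert (by decide),
      Finset.sum_singleton]
    have h0 : (0 : ZMod 3).val = 0 := rfl
    have h1 : (1 : ZMod 3).val = 1 := rfl
    have h2 : (2 : ZMod 3).val = 2 := rfl
    rw [h0, h1, h2]
    ring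
  rw [e1] at h1
  rw [e2] at h2
  have key : ∀ j : ZMod 3, j = 0 ∨ j = 1 ∨ j = 2 := by decide
  have h3 : c 1 = c 2 ∨ c 0 = c 1 ∨ c 0 = c 2 := by omega
  rcases h3 with a | a | a
  · refine ⟨0, fun j => ?_⟩
    rcases key j with rfl | rfl | rfl <;> reduce_mod_char <;> omega
  · refine ⟨1, fun j => ?_⟩
    rcases key j with rfl | rfl | rfl <;> reduce_mod_char <;> omega
  · refine ⟨2, fun j => ?_⟩
    rcases key j with rfl | rfl | rfl <;> reduce_mod_char <;> omega

end Comb


section Small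

/-- a primitive `r`-th root of unity in a finite field with `r ∣ q - 1` -/
theorem exists_primitiveRoot_of_dvd (r : ℕ) (hr : r ∣ Fintype.card F - 1) :
    ∃ ω : F, IsPrimitiveRoot ω r := by
  classical
  obtain ⟨g, hg⟩ := IsCyclic.exists_generator (α := Fˣ)
  have h1 : orderOf g = Fintype.card F - 1 := by
    rw [orderOf_eq_card_of_forall_mem_zpowers hg, Nat.card_eq_fintype_card, Fintype.card_units]
  have h2 : IsPrimitiveRoot (g : F) (Fintype.card F - 1) := by
    rw [IsPrimitiveRoot.coe_units_iff, IsPrimitiveRoot.iff_orderOf, h1]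
  obtain ⟨m, hm⟩ := hr
  have hpos : 0 < Fintype.card F - 1 := by
    have := Fintype.one_lt_card (α := F); omega
  exact ⟨(g : F) ^ m, h2.pow hpos (by rw [hm, mul_comm])⟩

omit [Fintype F] in
/-- the eigenvalue multiset of a matrix with `x ^ r = 1` over a field containing the `r`-th
roots of unity -/
theorem exists_roots_multiset {n : ℕ} (r : ℕ) (hr : 0 < r) (ω : F) (hω : IsPrimitiveRoot ω r)
    (x : Matrix (Fin n) (Fin n) F) (hx : x ^ r = 1) :
    ∃ M : Multiset F, x.charpoly = (M.map (fun a => X - C a)).prod ∧ (∀ a ∈ M, a ^ r = 1) ∧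
      Multiset.card M = n ∧ M.prod = x.det := by
  classical
  have hkill : aeval x ((X : F[X]) ^ r - 1) = 0 := by
    rw [map_sub, map_pow, aeval_X, map_one, hx, sub_self]
  have hfac : ∀ f, Irreducible f → f ∣ x.charpoly → f ∣ (X : F[X]) ^ r - 1 := fun f hf hd =>
    Cfsg.Agent.Lib.Helper40_PrimeOrderClasses.dvd_of_irreducible_of_dvd_charpoly x _ hkill f hf hd
  have hcm : x.charpoly.Monic := Matrix.charpoly_monic x
  have hcd : x.charpoly.natDegree = n := by
    rw [Matrix.charpoly_natDegree_eq_dim, Fintype.card_fin]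
  have hdvd : x.charpoly ∣ ((X : F[X]) ^ r - 1) ^ n :=
    Cfsg.Agent.Lib.Helper40_ScalePoly.dvd_pow_of_forall_irreducible_dvd _ n _ hcm hcd hfac
  have hne : ((X : F[X]) ^ r - 1) ^ n ≠ 0 :=
    pow_ne_zero _ (Cfsg.Agent.Lib.Helper40_ScalePoly.monic_X_pow_sub_one r hr).ne_zero
  have hsplit : x.charpoly.Splits := ((X_pow_sub_one_splits hω).pow n).of_dvd hne hdvd
  refine ⟨x.charpoly.roots, hsplit.eq_prod_roots_of_monic hcm, ?_, ?_, ?_⟩
  · intro a ha
    have h1 : (X - C a) ∣ x.charpoly := dvd_iff_isRoot.2 (isRoot_of_mem_roots ha)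
    have h2 := hfac _ (irreducible_X_sub_C a) h1
    rw [dvd_iff_isRoot, IsRoot.def, eval_sub, eval_pow, eval_X, eval_one] at h2
    exact sub_eq_zero.1 h2
  · rw [← hsplit.natDegree_eq_card_roots, hcd]
  · rw [Matrix.det_eq_sign_charpoly_coeff, hsplit.coeff_zero_eq_prod_roots_of_monic hcm, hcd,
      Fintype.card_fin, ← mul_assoc, ← mul_pow]
    simp

/-- **Sufficiency for `k = 2`, `n = r ∈ {3, 5}`, `(q₀ + 1)_r = r`.** -/
theorem conj_of_small (p : ℕ) [Fact p.Prime] [CharP F p] (F₀ : Subfield F)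
    (r : ℕ) [Fact r.Prime] (hr35 : r = 3 ∨ r = 5) (hrp : r ≠ p)
    (hqk : Fintype.card F = Nat.card F₀ ^ 2) (hval : padicValNat r (Nat.card F₀ + 1) = 1)
    (x : Matrix.SpecialLinearGroup (Fin r) F) (z : F)
    (hz : ((x ^ r : Matrix.SpecialLinearGroup (Fin r) F) : Matrix (Fin r) (Fin r) F) =
      z • (1 : Matrix (Fin r) (Fin r) F)) :
    ∃ P : Matrix.SpecialLinearGroup (Fin r) F, P⁻¹ * x * P ∈
      ((Cfsg.Geo.subfieldSubgroup F₀ 1).comap
        (Matrix.SpecialLinearGroup.toGL : Matrix.SpecialLinearGroup (Fin r) F →* GL (Fin r) F)) := by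
  classical
  have hr : r.Prime := Fact.out
  have hp : p.Prime := Fact.out
  have hr2 : r ≠ 2 := by rcases hr35 with h | h <;> omega
  have hr3 : 3 ≤ r := by rcases hr35 with h | h <;> omega
  set q₀ := Nat.card F₀ with hq₀
  have hq₀pos : 1 ≤ q₀ := Nat.card_pos
  have hxr : (x : Matrix (Fin r) (Fin r) F) ^ r = z • (1 : Matrix (Fin r) (Fin r) F) := by
    rw [← hz, Matrix.SpecialLinearGroup.coe_pow]
  have hz0 : z ≠ 0 := scalar_ne_zero hr.one_lt.le x r z hxr
  -- arithmetic
  have hrq₀ : r ∣ q₀ + 1 := dvd_of_one_le_padicValNat (by omega)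
  have hnrq₀ : ¬ r ∣ q₀ - 1 := by
    intro h
    have h2 : r ∣ (q₀ + 1) - (q₀ - 1) := Nat.dvd_sub hrq₀ h
    have h3 : (q₀ + 1) - (q₀ - 1) = 2 := by omega
    rw [h3] at h2
    exact hr2 ((Nat.prime_dvd_prime_iff_eq hr Nat.prime_two).1 h2)
  have hq1 : Fintype.card F - 1 = (q₀ - 1) * (q₀ + 1) := by
    rw [hqk]
    have : q₀ ^ 2 = (q₀ - 1) * (q₀ + 1) + 1 := by
      obtain ⟨m, hm⟩ : ∃ m, q₀ = m + 1 := ⟨q₀ - 1, by omega⟩
      rw [hm]; simp only [Nat.add_sub_cancel]; ring
    omega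
  have hrq : r ∣ Fintype.card F - 1 := by rw [hq1]; exact Dvd.dvd.mul_left hrq₀ _
  have hnr2 : ¬ r * r ∣ Fintype.card F - 1 := by
    intro h
    rw [hq1] at h
    have hcop : Nat.Coprime (r * r) (q₀ - 1) :=
      Nat.Coprime.mul_left ((Nat.Prime.coprime_iff_not_dvd hr).2 hnrq₀)
        ((Nat.Prime.coprime_iff_not_dvd hr).2 hnrq₀)
    have h2 : r * r ∣ q₀ + 1 := hcop.dvd_of_dvd_mul_left h
    have h3 : r ^ 2 ∣ q₀ + 1 := by rwa [sq]
    have h4 := (padicValNat_dvd_iff_le (p := r) (by omega : q₀ + 1 ≠ 0)).1 h3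
    omega
  -- `z = 1`
  have hz1 : z = 1 := by
    by_cases hpow : ∃ c : F, c ^ r = z
    · obtain ⟨c, hc⟩ := hpow
      have hc0 : c ≠ 0 := by
        rintro rfl
        rw [zero_pow hr.ne_zero] at hc
        exact hz0 hc.symm
      have hzr : z ^ r = 1 := by
        have h1 := congrArg Matrix.det hxr
        rw [Matrix.det_pow, x.2, one_pow, Matrix.det_smul, Matrix.det_one, mul_one,
          Fintype.card_fin] at h1
        exact h1.symm
      have h1 : c ^ (r * r) = 1 := by rw [pow_mul, hc, hzr]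
      have h2 : c ^ (Fintype.card F - 1) = 1 := FiniteField.pow_card_sub_one_eq_one c hc0
      have h3 := pow_gcd_eq_one.2 ⟨h1, h2⟩
      have h4 : Nat.gcd (r * r) (Fintype.card F - 1) = r := by
        have h5 : Nat.gcd (r * r) (Fintype.card F - 1) ∣ r ^ 2 := by
          rw [sq]; exact Nat.gcd_dvd_left _ _
        obtain ⟨j, hj, hjeq⟩ := (Nat.dvd_prime_pow hr).1 h5
        have h6 : r ∣ Nat.gcd (r * r) (Fintype.card F - 1) :=
          Nat.dvd_gcd (Dvd.intro _ rfl) hrq
        have h7 : ¬ r * r ∣ Nat.gcd (r * r) (Fintype.card F - 1) :=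
          fun h => hnr2 (h.trans (Nat.gcd_dvd_right _ _))
        rw [hjeq] at h6 h7 ⊢
        interval_cases j
        · rw [pow_zero] at h6
          exact absurd (Nat.le_of_dvd one_pos h6) (by omega)
        · rw [pow_one]
        · exfalso; apply h7; rw [sq]
      rw [h4, hc] at h3
      exact h3
    · push Not at hpow
      have hdet := det_of_nonpower (x : Matrix (Fin r) (Fin r) F) hr hpow hxr
      rw [x.2, Nat.div_self hr.pos, pow_one] at hdet
      have hodd : Odd r := hr.odd_of_ne_two hr2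
      have hsign : ((-1 : F)) ^ (r + 1) = 1 := by
        rw [Even.neg_one_pow]
        exact hodd.add_one
      rw [hsign, one_mul] at hdet
      exact hdet.symm
  rw [hz1, one_smul] at hxr
  -- eigenvalue multiset
  obtain ⟨ω, hω⟩ := exists_primitiveRoot_of_dvd r hrq
  obtain ⟨M, hMc, hMr, hMcard, hMprod⟩ :=
    exists_roots_multiset r hr.pos ω hω (x : Matrix (Fin r) (Fin r) F) hxr
  rw [x.2] at hMprod
  have hsym : ∀ c : ZMod r → ℕ, ∑ j, c j = Multiset.card M → r ∣ ∑ j : ZMod r, j.val * c j →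
      ∃ t : ZMod r, ∀ j, c (t - j) = c j := by
    rcases hr35 with h | h
    · subst h
      intro c h1 h2
      exact sym3 c (by rw [h1, hMcard]) h2
    · subst h
      intro c h1 h2
      exact sym5 c (by rw [h1, hMcard]) h2
  obtain ⟨s, hs0, hsr, hsM⟩ := exists_scaling r hr2 ω hω M hMr hMprod hsym
  -- `y = s⁻¹ x`
  set y : Matrix (Fin r) (Fin r) F := s⁻¹ • (x : Matrix (Fin r) (Fin r) F) with hy
  have hyr : y ^ r = 1 := by
    rw [hy, _root_.smul_pow, hxr, inv_pow, hsr, inv_one, one_smul]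
  have hrF : ((r : ℕ) : F) ≠ 0 := natCast_ne_zero (p := p) hr hrp
  have hss : IsSS y := isSS_of_pow_eq_one y r hrF hyr
  have hyc : y.charpoly = (M.map (fun a => X - C (a * s⁻¹))).prod := by
    rw [hy, Cfsg.Agent.Lib.Helper40_ScalePoly.charpoly_smul s⁻¹ (inv_ne_zero hs0), hMc,
      scaleRoots_prod_X_sub_C]
  obtain ⟨e, -, he⟩ := exists_card_eq_pow p F₀
  set σ : F →+* F := iterateFrobenius F p e with hσ
  have hσq : ∀ a : F, σ a = a ^ q₀ := by
    intro a
    rw [hσ, iterateFrobenius_def, hq₀, he]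
  have hmapσ : y.charpoly.map σ = y.charpoly := by
    rw [hyc, Polynomial.map_multiset_prod, Multiset.map_map]
    have h1 : (M.map (Polynomial.map σ ∘ fun a => X - C (a * s⁻¹))) =
        (M.map (fun a => (a / s)⁻¹)).map (fun b => X - C b) := by
      rw [Multiset.map_map]
      apply Multiset.map_congr rfl
      intro a ha
      simp only [Function.comp_apply, Polynomial.map_sub, Polynomial.map_X, Polynomial.map_C]
      congr 2
      rw [hσq, ← div_eq_mul_inv]
      have h2 : (a / s) ^ r = 1 := by rw [div_pow, hMr a ha, hsr, div_one]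
      have h3 : (a / s) ^ (q₀ + 1) = 1 := by
        obtain ⟨m, hm⟩ := hrq₀
        rw [hm, pow_mul, h2, one_pow]
      rw [pow_succ] at h3
      exact eq_inv_of_mul_eq_one_left h3
    have h4 : (M.map (fun a => X - C (a * s⁻¹))) =
        (M.map (fun a => a / s)).map (fun b => X - C b) := by
      rw [Multiset.map_map]
      apply Multiset.map_congr rfl
      intro a _
      simp only [Function.comp_apply, div_eq_mul_inv]
    rw [h1, h4, hsM]
  have hfix : ∀ i, (y.charpoly.coeff i) ^ q₀ = y.charpoly.coeff i := by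
    intro i
    conv_rhs => rw [← hmapσ]
    rw [coeff_map, hσq]
  obtain ⟨c₀, hc₀⟩ := exists_lift_of_coeff_fixed F₀ y.charpoly hfix
  exact conj_of_charpoly_lifts hr.pos F₀ x s hs0 hss c₀ hc₀

end Small

end Cfsg.Agent.Lib.Helper68_SubfSuff
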