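import Mathlib
import Cfsg.Agent.Lib.Helper50_UQAbsDefs

/-!
# U5-FIX (helper7, for helper85's U5 market, S2151-T5)

`Q` regular on `Ω`, normalised by an element `s` of prime order `r ∤ |Q|`: `s` has exactly
`|C_Q(s)|` fixed points.
-/

set_option autoImplicit false
set_option linter.unusedVariables false

open Cfsg.Agent.Lib.Helper50_UQAbsDefs

namespace Cfsg.Agent.Lib.Helper7_U5_FIX

/-- a regular subgroup has as many elements as points -/
theorem card_eq_of_regular {G : Type*} [Group G] {Ω : Type*} [MulAction G Ω]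
    (Q : Subgroup G)
    (hfree : ∀ g ∈ Q, ∀ ω : Ω, g • ω = ω → g = 1)
    (htrans : ∀ ω ω' : Ω, ∃ g ∈ Q, g • ω = ω') (ω0 : Ω) :
    Nat.card Q = Nat.card Ω := by
  apply Nat.card_eq_of_bijective (fun g : Q => (g : G) • ω0)
  constructor
  · intro g g' h
    have h' : (g : G) • ω0 = (g' : G) • ω0 := h
    have h1 : ((g'⁻¹ * g : Q) : G) • ω0 = ω0 := by
      rw [Subgroup.coe_mul, mul_smul, h', Subgroup.coe_inv, inv_smul_smul]
    have h2 := hfree _ (g'⁻¹ * g).2 ω0 h1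
    have h3 : g'⁻¹ * g = 1 := Subtype.ext h2
    exact (inv_mul_eq_one.mp h3).symm
  · intro ω
    obtain ⟨g, hg, h⟩ := htrans ω0 ω
    exact ⟨⟨g, hg⟩, h⟩

/-- T5-FIX (M). -/
theorem fix_card {G : Type*} [Group G] {Ω : Type*} [MulAction G Ω] [Finite Ω] [Nonempty Ω]
    (Q : Subgroup G) [Finite Q]
    (hfree : ∀ g ∈ Q, ∀ ω : Ω, g • ω = ω → g = 1)
    (htrans : ∀ ω ω' : Ω, ∃ g ∈ Q, g • ω = ω')
    (s : G) (hs : ∀ g ∈ Q, s * g * s⁻¹ ∈ Q) (r : ℕ) (hr : r.Prime) (hsr : s ^ r = 1)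
    (hrQ : ¬ r ∣ Nat.card Q) :
    Nat.card {ω : Ω // s • ω = ω} = Nat.card {g : Q // s * (g : G) * s⁻¹ = g} := by
  have hr' : Fact r.Prime := ⟨hr⟩
  have hcard : Nat.card Q = Nat.card Ω :=
    card_eq_of_regular Q hfree htrans (Classical.arbitrary Ω)
  -- `⟨s⟩` is an `r`-group
  have hP : IsPGroup r (Subgroup.zpowers s) := by
    intro g
    refine ⟨1, ?_⟩
    obtain ⟨g, hg⟩ := g
    obtain ⟨n, rfl⟩ := Subgroup.mem_zpowers_iff.mp hg
    apply Subtype.ext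
    show (s ^ n) ^ r ^ 1 = 1
    rw [pow_one, ← zpow_natCast, ← zpow_mul, mul_comm, zpow_mul, zpow_natCast, hsr, one_zpow]
  have hne : (MulAction.fixedPoints (Subgroup.zpowers s) Ω).Nonempty := by
    apply hP.nonempty_fixed_point_of_prime_not_dvd_card
    rw [← hcard]
    exact hrQ
  obtain ⟨ω0, hω0⟩ := hne
  have hsω0 : s • ω0 = ω0 := hω0 ⟨s, Subgroup.mem_zpowers s⟩
  symm
  apply Nat.card_eq_of_bijective
    (fun g : {g : Q // s * (g : G) * s⁻¹ = g} => (⟨(g.1 : G) • ω0, by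
      have h := g.2
      calc s • (g.1 : G) • ω0 = (s * (g.1 : G) * s⁻¹) • (s • ω0) := by
            rw [smul_smul, smul_smul, inv_mul_cancel_right]
        _ = (g.1 : G) • ω0 := by rw [h, hsω0]⟩ : {ω : Ω // s • ω = ω}))
  constructor
  · intro g g' h
    have h0 : (g.1 : G) • ω0 = (g'.1 : G) • ω0 := congrArg Subtype.val h
    have h1 : ((g'.1⁻¹ * g.1 : Q) : G) • ω0 = ω0 := by
      rw [Subgroup.coe_mul, mul_smul, h0, Subgroup.coe_inv, inv_smul_smul]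
    have h2 := hfree _ (g'.1⁻¹ * g.1).2 ω0 h1
    have h3 : g'.1⁻¹ * g.1 = 1 := Subtype.ext h2
    exact Subtype.ext (inv_mul_eq_one.mp h3).symm
  · intro ω
    obtain ⟨g, hg, h⟩ := htrans ω0 ω.1
    have hsg : s * g * s⁻¹ = g := by
      have h1 : (s * g * s⁻¹) • ω0 = g • ω0 := by
        calc (s * g * s⁻¹) • ω0 = (s * g * s⁻¹) • (s • ω0) := by rw [hsω0]
          _ = s • g • ω0 := by rw [smul_smul, smul_smul, inv_mul_cancel_right]
          _ = g • ω0 := by rw [h]; exact ω.2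
      have h2 : (g⁻¹ * (s * g * s⁻¹)) • ω0 = ω0 := by
        rw [mul_smul, h1, inv_smul_smul]
      have h3 := hfree _ (Q.mul_mem (Q.inv_mem hg) (hs g hg)) ω0 h2
      exact (inv_mul_eq_one.mp h3).symm
    exact ⟨⟨⟨g, hg⟩, hsg⟩, Subtype.ext h⟩

end Cfsg.Agent.Lib.Helper7_U5_FIX
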