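import Mathlib
import Cfsg.Agent.Lib.Helper50_UQAbsDefs
import Cfsg.Agent.Lib.Helper7_U5_FIX

/-!
# U5-HPOS (helper7, for helper85's U5 market, S2151-T5)

The `f = 0` killer: if every `Qs u` is semiregular off the fixed points of `Xs u`, `|Ω| < 2 |Qs u|`,
and some `s` of prime order normalises `Qs u`, `Qs u'` with centralisers of different orders, then
some root group fixes a point.
-/

set_option autoImplicit false
set_option linter.unusedVariables false

open Cfsg.Agent.Lib.Helper50_UQAbsDefs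

namespace Cfsg.Agent.Lib.Helper7_U5_HPOS

/-- a free action of `Q` on a set with fewer than `2 |Q|` points is transitive -/
theorem trans_of_free {G : Type*} [Group G] {Ω : Type*} [MulAction G Ω] [Finite Ω]
    (Q : Subgroup G) [Finite Q]
    (hfree : ∀ g ∈ Q, ∀ ω : Ω, g • ω = ω → g = 1)
    (hΩ : Nat.card Ω < 2 * Nat.card Q) (ω ω' : Ω) : ∃ g ∈ Q, g • ω = ω' := by
  by_contra hcon
  have hinj : ∀ (x : Ω) (g g' : Q), (g : G) • x = (g' : G) • x → g = g' := by
    intro x g g' h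
    have h1 : ((g'⁻¹ * g : Q) : G) • x = x := by
      rw [Subgroup.coe_mul, mul_smul, h, Subgroup.coe_inv, inv_smul_smul]
    have h2 := hfree _ (g'⁻¹ * g).2 x h1
    have h3 : g'⁻¹ * g = 1 := Subtype.ext h2
    exact (inv_mul_eq_one.mp h3).symm
  let f : Q ⊕ Q → Ω := Sum.elim (fun g : Q => (g : G) • ω) (fun g : Q => (g : G) • ω')
  have hf : Function.Injective f := by
    rintro (g | g) (g' | g') h
    · exact congrArg Sum.inl (hinj ω g g' h)
    · exfalso
      apply hcon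
      have h' : (g : G) • ω = (g' : G) • ω' := h
      refine ⟨((g'⁻¹ * g : Q) : G), (g'⁻¹ * g).2, ?_⟩
      rw [Subgroup.coe_mul, mul_smul, h', Subgroup.coe_inv, inv_smul_smul]
    · exfalso
      apply hcon
      have h' : (g : G) • ω' = (g' : G) • ω := h
      refine ⟨((g⁻¹ * g' : Q) : G), (g⁻¹ * g').2, ?_⟩
      rw [Subgroup.coe_mul, mul_smul, ← h', Subgroup.coe_inv, inv_smul_smul]
    · exact congrArg Sum.inr (hinj ω' g g' h)
  have h1 := Nat.card_le_card_of_injective f hf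
  rw [Nat.card_sum] at h1
  omega

/-- T5-HPOS (M). -/
theorem abstract_hpos {G : Type*} [Group G] {Ω : Type*} [MulAction G Ω] [Finite Ω] [Nonempty Ω]
    {P : Type*} (Qs Xs : P → Subgroup G) (n : ℕ) (hQcard : ∀ u, Nat.card (Qs u) = n) (hn : 0 < n)
    (hΩ : Nat.card Ω < 2 * n)
    (hstepA : ∀ (u : P) (ω : Ω), (∃ h ∈ Xs u, h • ω ≠ ω) → ∀ g ∈ Qs u, g • ω = ω → g = 1)
    (s : G) (r : ℕ) (hr : r.Prime) (hsr : s ^ r = 1) (hrn : ¬ r ∣ n)
    (u u' : P) (hsu : ∀ g ∈ Qs u, s * g * s⁻¹ ∈ Qs u) (hsu' : ∀ g ∈ Qs u', s * g * s⁻¹ ∈ Qs u')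
    (hne : Nat.card {g : Qs u // s * (g : G) * s⁻¹ = g} ≠ Nat.card {g : Qs u' // s * (g : G) * s⁻¹ = g}) :
    ∃ (u : P) (ω : Ω), ∀ h ∈ Xs u, h • ω = ω := by
  by_contra hcon
  have hall : ∀ (v : P) (ω : Ω), ∃ h ∈ Xs v, h • ω ≠ ω := by
    intro v ω
    by_contra h
    apply hcon
    refine ⟨v, ω, fun h' hh' => ?_⟩
    by_contra h2
    exact h ⟨h', hh', h2⟩
  have hfin : ∀ v, Finite (Qs v) := fun v =>
    Nat.finite_of_card_ne_zero (by rw [hQcard v]; omega)
  have hfree : ∀ v, ∀ g ∈ Qs v, ∀ ω : Ω, g • ω = ω → g = 1 :=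
    fun v g hg ω h => hstepA v ω (hall v ω) g hg h
  have htrans : ∀ v, ∀ ω ω' : Ω, ∃ g ∈ Qs v, g • ω = ω' := by
    intro v
    have := hfin v
    exact trans_of_free (Qs v) (hfree v) (by rw [hQcard v]; exact hΩ)
  have := hfin u
  have := hfin u'
  have e1 := Cfsg.Agent.Lib.Helper7_U5_FIX.fix_card (Qs u) (hfree u) (htrans u) s hsu r hr hsr
    (by rw [hQcard u]; exact hrn)
  have e2 := Cfsg.Agent.Lib.Helper7_U5_FIX.fix_card (Qs u') (hfree u') (htrans u') s hsu' r hr hsr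
    (by rw [hQcard u']; exact hrn)
  exact hne (e1.symm.trans e2)

end Cfsg.Agent.Lib.Helper7_U5_HPOS
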