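import Mathlib
import Cfsg.Agent.Lib.Helper94_UQStep
import Cfsg.Agent.Lib.Helper27_UQ_GEN
import Cfsg.Agent.Lib.Helper27_UQ_CARD
import Cfsg.Agent.Lib.Helper27_S2151_RMAIN
import Cfsg.Agent.Lib.Helper61_UQ_CARDQ
import Cfsg.Agent.Lib.Helper7_U5_HPOS

/-!
# S2151, base `T(5)`: the hypothesis `hpos` (some root group fixes a point) (helper68)

From STEP A3 at every isotropic point (`hregAll`), `Helper7_U5_HPOS.abstract_hpos` and the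
element `s` of V5-FIXS (`hfix`, the conclusion of `exists_fix_elt`).
-/

set_option autoImplicit false
set_option linter.unusedSectionVars false
set_option linter.unusedVariables false

open Module Cfsg.Agent.Lib.Helper94_Symp Cfsg.Agent.Lib.Helper94_Herm
  Cfsg.Agent.Lib.Helper94_HermEich Cfsg.Agent.Lib.Helper94_HermPara
  Cfsg.Agent.Lib.Helper94_HermTrans
  Cfsg.Agent.Lib.Helper13_SUGen Cfsg.Agent.Lib.Helper13_PSUSimple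
  Cfsg.Agent.Lib.Helper46_U3TI Cfsg.Agent.Lib.Helper14_PSULocal1
  Cfsg.Agent.Lib.Helper27_UQDefs Cfsg.Agent.Lib.Helper50_UQAbsDefs
  Cfsg.Agent.Lib.Helper94_UQInst Cfsg.Agent.Lib.Helper94_UQPts
  Cfsg.Agent.Lib.Helper94_UQStep

namespace Cfsg.Agent.Lib.Helper68_T5_HPOS

variable {F V : Type*} [Field F] [AddCommGroup V] [Module F V] {σ : F →+* F}
variable {B : V →ₗ[F] V →ₛₗ[σ] F}

/-- all the groups `Qs B u` have `q^7` elements in dimension 5 -/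
theorem card_Qs5 [Finite F] [FiniteDimensional F V] (hσ : Invol σ) (hB : IsHerm B)
    (hN : NondegOn B ⊤) {q : ℕ} (hF : Nat.card F = q ^ 2) (h5 : finrank F V = 5)
    (u : IsoPt B) : Nat.card (Qs B u) = q ^ 7 := by
  obtain ⟨v, hv0, hv, rfl⟩ := exists_eq_mkPt u
  obtain ⟨v', h⟩ := Cfsg.Agent.Lib.Helper27_UQ_GEN.exists_hypPair hσ hB hN hv0 hv
  have : Finite V := Module.finite_of_finite F
  have : Finite ↥(Wsub B v v') := Module.finite_of_finite F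
  have hD := udat_ok hσ hB hN h
  have hA : Nat.card ↥(skewA σ) = q := card_skewA hσ hF
  have hW : Nat.card ↥(Wsub B v v') = q ^ (2 * 3) := card_W hF h (d := 3) (by omega)
  rw [Qs_mkPt_eq hσ hB h hv0, Cfsg.Agent.Lib.Helper61_UQ_CARDQ.cardQ (udat hσ hB h) hD, hW, hA,
    ← pow_succ]

/-- the centraliser counts in `Qs` and in `Qv` agree -/
theorem card_cent_Qs (hB : IsHerm B) {a a' : V} (h : HypPair B a a') (ha0 : a ≠ 0)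
    (s : ↥(SUg B)) :
    Nat.card {g : ↥(Qs B (mkPt ha0 h.ee)) // s * (g : ↥(SUg B)) * s⁻¹ = g} =
      Nat.card {g : ↥(Qv B a) //
        (s : V ≃ₗ[F] V) * (g : V ≃ₗ[F] V) * (s : V ≃ₗ[F] V)⁻¹ = g} := by
  apply Nat.card_congr
  refine (Cfsg.Agent.Lib.Helper27_S2151_RMAIN.QsEquiv hB h ha0).subtypeEquiv ?_
  intro g
  constructor
  · intro hg
    have := congrArg (fun x : ↥(SUg B) => (x : V ≃ₗ[F] V)) hg
    exact this
  · intro hg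
    apply Subtype.ext
    exact hg

theorem hpos5 [Finite F] [FiniteDimensional F V] (hσ : Invol σ) (hB : IsHerm B)
    (hN : NondegOn B ⊤) {q : ℕ} (hF : Nat.card F = q ^ 2) (h5 : finrank F V = 5)
    {Ω : Type*} [MulAction ↥(SUg B) Ω] [Finite Ω] [Nonempty Ω]
    (hΩ : Nat.card Ω < q ^ 7 + q ^ 5 + q ^ 2 + 1)
    (hregAll : ∀ {v v' : V} (h : HypPair B v v'), ∀ ω : Ω,
      (∃ a, (udat hσ hB h).x a • ω ≠ ω) → ∀ g ∈ (udat hσ hB h).Q, g • ω = ω → g = 1)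
    {v v' : V} (h : HypPair B v v')
    (hfix : ∃ (s : V ≃ₗ[F] V) (r : ℕ) (v₁ : V), s ∈ SUg B ∧ r.Prime ∧ ¬ r ∣ q ∧ s ^ r = 1 ∧
      (∃ c : F, c ≠ 0 ∧ s v = c • v) ∧ v₁ ≠ 0 ∧ B v₁ v₁ = 0 ∧ (∃ c : F, c ≠ 0 ∧ s v₁ = c • v₁) ∧
      Nat.card {g : ↥(Qv B v) // s * (g : V ≃ₗ[F] V) * s⁻¹ = g} ≤ q ∧
      q ^ 3 ≤ Nat.card {g : ↥(Qv B v₁) // s * (g : V ≃ₗ[F] V) * s⁻¹ = g}) :
    ∃ (u : IsoPt B) (ω : Ω), ∀ x ∈ Xs B u, x • ω = ω := by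
  have hq : 2 ≤ q := two_le_q hF
  obtain ⟨s, r, v₁, hs, hr, hrq, hsr, ⟨c, hc0, hsv⟩, hv₁0, hv₁, ⟨c₁, hc₁0, hsv₁⟩, hle, hge⟩ := hfix
  have hv0 : v ≠ 0 := (hypPair_ne_zero h).1
  obtain ⟨v₁', h₁⟩ := Cfsg.Agent.Lib.Helper27_UQ_GEN.exists_hypPair hσ hB hN hv₁0 hv₁
  set s' : ↥(SUg B) := ⟨s, hs⟩ with hs'
  have hq7 : q ^ 5 + q ^ 2 + 1 ≤ q ^ 7 := by
    have h1 : q ^ 7 = q ^ 5 * q ^ 2 := by ring
    have h2 : 4 ≤ q ^ 2 := by nlinarith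
    have h3 : q ^ 2 + 1 ≤ q ^ 5 := by
      have : q ^ 5 = q ^ 2 * q ^ 3 := by ring
      have h8 : 8 ≤ q ^ 3 := by
        calc 8 = 2 ^ 3 := by norm_num
          _ ≤ q ^ 3 := Nat.pow_le_pow_left hq 3
      nlinarith
    nlinarith
  have hstepA : ∀ (u : IsoPt B) (ω : Ω), (∃ x ∈ Xs B u, x • ω ≠ ω) →
      ∀ g ∈ Qs B u, g • ω = ω → g = 1 := by
    intro u ω hmove g hg hgω
    obtain ⟨a, ha0, ha, rfl⟩ := exists_eq_mkPt u
    obtain ⟨a', hp⟩ := Cfsg.Agent.Lib.Helper27_UQ_GEN.exists_hypPair hσ hB hN ha0 ha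
    obtain ⟨x, hx, hxω⟩ := hmove
    obtain ⟨b, rfl⟩ := (mem_Xs_mkPt_iff hσ hB hp ha0 x).1 hx
    rw [Qs_mkPt_eq hσ hB hp ha0] at hg
    exact hregAll hp ω ⟨b, hxω⟩ g hg hgω
  have hfixpt : s' • (mkPt hv0 h.ee : IsoPt B) = mkPt hv0 h.ee :=
    Cfsg.Agent.Lib.Helper27_S2151_RMAIN.smul_mkPt_eq s' hv0 h.ee hsv
  have hfixpt₁ : s' • (mkPt hv₁0 h₁.ee : IsoPt B) = mkPt hv₁0 h₁.ee :=
    Cfsg.Agent.Lib.Helper27_S2151_RMAIN.smul_mkPt_eq s' hv₁0 h₁.ee hsv₁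
  have hsr' : s' ^ r = 1 := by
    apply Subtype.ext
    rw [hs']
    simpa using hsr
  refine Cfsg.Agent.Lib.Helper7_U5_HPOS.abstract_hpos (Qs B) (Xs B) (q ^ 7)
    (card_Qs5 hσ hB hN hF h5) (by positivity) (by omega) hstepA s' r hr hsr'
    (fun hd => hrq (hr.dvd_of_dvd_pow hd)) (mkPt hv0 h.ee) (mkPt hv₁0 h₁.ee) ?_ ?_ ?_
  · intro g hg
    have := Qs_conj s' _ g hg
    rwa [hfixpt] at this
  · intro g hg
    have := Qs_conj s' _ g hg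
    rwa [hfixpt₁] at this
  · rw [card_cent_Qs hB h hv0 s', card_cent_Qs hB h₁ hv₁0 s']
    have h8 : q < q ^ 3 := by
      calc q = q ^ 1 := (pow_one q).symm
        _ < q ^ 3 := Nat.pow_lt_pow_right (by omega) (by omega)
    intro heq
    have hle' : Nat.card {g : ↥(Qv B v) // (s' : V ≃ₗ[F] V) * (g : V ≃ₗ[F] V) *
        (s' : V ≃ₗ[F] V)⁻¹ = g} ≤ q := hle
    have hge' : q ^ 3 ≤ Nat.card {g : ↥(Qv B v₁) // (s' : V ≃ₗ[F] V) * (g : V ≃ₗ[F] V) *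
        (s' : V ≃ₗ[F] V)⁻¹ = g} := hge
    omega

end Cfsg.Agent.Lib.Helper68_T5_HPOS
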