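import Mathlib
import Cfsg.Agent.Lib.Helper27_UQDefs
import Cfsg.Agent.Lib.Helper94_HermWitt
import Cfsg.Agent.Lib.Helper94_HermIrr
import Cfsg.Agent.Lib.Helper32_U5_D3TRN
import Cfsg.Agent.Lib.Helper32_U5_D3CNT
import Cfsg.Agent.Lib.Helper4_U5_D3ALLISO

set_option autoImplicit false
set_option linter.unusedSectionVars false
set_option linter.unusedVariables false

/-!
# U5 market (helper85), package D3-SUB: (SUB3) for a 3-dimensional hermitian space

Every nonzero additive subgroup `A` of `U` has `|A| · #(SU(U)-translates of A) ≥ q^2 (q^3+1)`.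
`sub3_aux` takes the needed facts of the packages D3-TRN, D3-CNT, D3-ALLISO as hypotheses.
-/

open Module Cfsg.Agent.Lib.Helper94_Symp Cfsg.Agent.Lib.Helper94_Herm
  Cfsg.Agent.Lib.Helper94_HermEich Cfsg.Agent.Lib.Helper94_HermPara
  Cfsg.Agent.Lib.Helper94_HermTrans
  Cfsg.Agent.Lib.Helper13_SUGen Cfsg.Agent.Lib.Helper13_PSUSimple
  Cfsg.Agent.Lib.Helper46_U3TI Cfsg.Agent.Lib.Helper14_PSULocal1
  Cfsg.Agent.Lib.Helper27_UQDefs

namespace Cfsg.Agent.Lib.Helper93_U5_D3SUB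

variable {F U : Type*} [Field F] [AddCommGroup U] [Module F U] {σ : F →+* F}
variable {C : U →ₗ[F] U →ₛₗ[σ] F}

/-- the covering count: if `G` is transitive on the invariant set `O` and `A` meets `O`, then
`|O| ≤ #translates · |A ∩ O|` -/
theorem cover [Finite U] (G : Subgroup (U ≃ₗ[F] U)) (A : AddSubgroup U) (O : Set U)
    (hinv : ∀ g ∈ G, ∀ x, x ∈ O → g x ∈ O)
    (htr : ∀ x ∈ O, ∀ y ∈ O, ∃ g ∈ G, g x = y) {x₀ : U} (hx₀A : x₀ ∈ A) (hx₀O : x₀ ∈ O) :
    Nat.card O ≤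
      Nat.card {S : Set U // ∃ g ∈ G, S = (fun x => g x) '' (A : Set U)} *
        Nat.card {x : U // x ∈ A ∧ x ∈ O} := by
  classical
  rw [← Nat.card_prod]
  -- choose a representative `g_S` for every translate
  have hch : ∀ S : {S : Set U // ∃ g ∈ G, S = (fun x => g x) '' (A : Set U)},
      ∃ g ∈ G, (S : Set U) = (fun x => g x) '' (A : Set U) := fun S => S.2
  choose gS hgS hS using hch
  let f : {S : Set U // ∃ g ∈ G, S = (fun x => g x) '' (A : Set U)} × {x : U // x ∈ A ∧ x ∈ O} → O :=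
    fun p => ⟨gS p.1 p.2.1, hinv _ (hgS p.1) _ p.2.2.2⟩
  apply Nat.card_le_card_of_surjective f
  rintro ⟨y, hy⟩
  obtain ⟨g, hg, hgy⟩ := htr x₀ hx₀O y hy
  set S : {S : Set U // ∃ g ∈ G, S = (fun x => g x) '' (A : Set U)} :=
    ⟨(fun x => g x) '' (A : Set U), g, hg, rfl⟩ with hSdef
  have hyS : y ∈ (S : Set U) := ⟨x₀, hx₀A, hgy⟩
  rw [hS S] at hyS
  obtain ⟨a, haA, hay⟩ := hyS
  have haO : a ∈ O := by
    have h1 := hinv _ (G.inv_mem (hgS S)) y hy
    have h2 : (gS S)⁻¹ y = a := by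
      have hay' : gS S a = y := hay
      rw [← hay']
      exact inv_apply_apply' (gS S) a
    rwa [h2] at h1
  refine ⟨(S, ⟨a, haA, haO⟩), ?_⟩
  exact Subtype.ext hay

/-- **D3-SUB**, aux form (the facts of D3-TRN, D3-CNT, D3-ALLISO as hypotheses) -/
theorem sub3_aux [Finite F] [FiniteDimensional F U] (hσ : Invol σ) (hC : IsHerm C)
    (hN : NondegOn C ⊤) {q : ℕ} (hq : 2 ≤ q) (hF : Nat.card F = q ^ 2) (h3 : finrank F U = 3)
    (htrn : ∀ {w w' : U}, C w w ≠ 0 → C w w = C w' w' → ∃ g ∈ SUg C, g w = w')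
    (hci : Nat.card {x : U // x ≠ 0 ∧ C x x = 0} = (q ^ 2 - 1) * (q ^ 3 + 1))
    (hcn : ∀ {c : F}, σ c = c → c ≠ 0 → Nat.card {x : U // C x x = c} = q ^ 2 * (q ^ 3 + 1))
    (hall : ∀ A : AddSubgroup U, (∀ x ∈ A, C x x = 0) → Nat.card A ≤ q ^ 2)
    (A : AddSubgroup U) (hA : A ≠ ⊥) :
    q ^ 2 * (q ^ 3 + 1) ≤
      Nat.card A * Nat.card {S : Set U // ∃ g ∈ SUg C, S = (fun x => g x) '' (A : Set U)} := by
  classical
  haveI : Finite U := Module.finite_of_finite F
  set t := Nat.card {S : Set U // ∃ g ∈ SUg C, S = (fun x => g x) '' (A : Set U)} with ht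
  -- invariance of norms
  have hnorm : ∀ g ∈ SUg C, ∀ x : U, C (g x) (g x) = C x x := fun g hg x => (mem_SUg.1 hg).1 x x
  -- a nonzero element of `A`
  obtain ⟨x₁, hx₁A, hx₁0⟩ : ∃ x ∈ A, x ≠ 0 := by
    by_contra hcon
    push Not at hcon
    apply hA
    rw [eq_bot_iff]
    intro x hx
    rw [AddSubgroup.mem_bot]
    exact hcon x hx
  -- `A ∖ 0` has `|A| - 1` elements
  have hAcard : ∀ O : Set U, (0 : U) ∉ O →
      Nat.card {x : U // x ∈ A ∧ x ∈ O} + 1 ≤ Nat.card A := by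
    intro O h0
    have hinj : Function.Injective
        (fun o : Option {x : U // x ∈ A ∧ x ∈ O} =>
          (match o with
            | none => (⟨0, A.zero_mem⟩ : A)
            | some x => ⟨x.1, x.2.1⟩ : A)) := by
      intro o o' h
      dsimp only at h
      cases o with
      | none =>
        cases o' with
        | none => rfl
        | some y =>
          exfalso
          have h' : (⟨0, A.zero_mem⟩ : A) = ⟨y.1, y.2.1⟩ := h
          have : (0 : U) = y.1 := Subtype.mk.inj h'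
          exact h0 (this ▸ y.2.2)
      | some x =>
        cases o' with
        | none =>
          exfalso
          have h' : (⟨x.1, x.2.1⟩ : A) = ⟨0, A.zero_mem⟩ := h
          have : x.1 = (0 : U) := Subtype.mk.inj h'
          exact h0 (this ▸ x.2.2)
        | some y =>
          have h' : (⟨x.1, x.2.1⟩ : A) = ⟨y.1, y.2.1⟩ := h
          have : x.1 = y.1 := Subtype.mk.inj h'
          rw [Subtype.ext this]
    have := Nat.card_le_card_of_injective _ hinj
    rwa [Finite.card_option] at this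
  by_cases hiso : ∀ x ∈ A, C x x = 0
  · -- all isotropic
    have ha := hall A hiso
    set O : Set U := {x | x ≠ 0 ∧ C x x = 0} with hO
    have hinvO : ∀ g ∈ SUg C, ∀ x, x ∈ O → g x ∈ O := by
      rintro g hg x ⟨hx0, hxx⟩
      refine ⟨fun h => hx0 ?_, by rw [hnorm g hg, hxx]⟩
      exact (LinearEquiv.map_eq_zero_iff g).1 h
    have htrO : ∀ x ∈ O, ∀ y ∈ O, ∃ g ∈ SUg C, g x = y := by
      rintro x ⟨hx0, hxx⟩ y ⟨hy0, hyy⟩
      have hfr : 3 ≤ finrank F (⊤ : Submodule F U) := by rw [finrank_top, h3]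
      obtain ⟨g, hg, hgx⟩ := Cfsg.Agent.Lib.Helper94_HermWitt.exists_tv_iso hσ hC hN hfr (Submodule.mem_top) (Submodule.mem_top)
        hx0 hy0 hxx hyy
      exact ⟨g, tvGroup_le_SUg hC _ hg, hgx⟩
    have hcov := cover (SUg C) A O hinvO htrO hx₁A ⟨hx₁0, hiso x₁ hx₁A⟩
    have hOc : Nat.card O = (q ^ 2 - 1) * (q ^ 3 + 1) := hci
    have h1 := hAcard O (fun h => h.1 rfl)
    rw [hOc, ← ht] at hcov
    -- arithmetic
    set a := Nat.card A with haA
    set k := Nat.card {x : U // x ∈ A ∧ x ∈ O} with hk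
    have hk1 : 1 ≤ k := by
      rw [hk]
      exact Nat.one_le_iff_ne_zero.2
        (Nat.card_ne_zero.2 ⟨⟨⟨x₁, hx₁A, hx₁0, hiso x₁ hx₁A⟩⟩, inferInstance⟩)
    have hq2 : 1 ≤ q ^ 2 := Nat.one_le_pow _ _ (by omega)
    have hkq : k ≤ q ^ 2 - 1 := by omega
    -- `t ≥ q^3 + 1`
    have ht1 : q ^ 3 + 1 ≤ t := by
      by_contra hlt
      push Not at hlt
      have : t * k < (q ^ 2 - 1) * (q ^ 3 + 1) := by
        calc t * k ≤ t * (q ^ 2 - 1) := Nat.mul_le_mul_left _ hkq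
          _ < (q ^ 3 + 1) * (q ^ 2 - 1) := by
            apply Nat.mul_lt_mul_of_pos_right hlt
            omega
          _ = (q ^ 2 - 1) * (q ^ 3 + 1) := Nat.mul_comm _ _
      omega
    calc q ^ 2 * (q ^ 3 + 1) = (q ^ 2 - 1) * (q ^ 3 + 1) + (q ^ 3 + 1) := by
          have : q ^ 2 = (q ^ 2 - 1) + 1 := by omega
          conv_lhs => rw [this]
          ring
      _ ≤ t * k + t := Nat.add_le_add hcov ht1
      _ = (k + 1) * t := by ring
      _ ≤ a * t := Nat.mul_le_mul_right _ h1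
  · -- some anisotropic vector
    push Not at hiso
    obtain ⟨x₂, hx₂A, hx₂⟩ := hiso
    set c := C x₂ x₂ with hc
    have hcfix : σ c = c := by rw [hc, ← hC x₂ x₂]
    set O : Set U := {x | C x x = c} with hO
    have hinvO : ∀ g ∈ SUg C, ∀ x, x ∈ O → g x ∈ O := by
      intro g hg x hx
      show C (g x) (g x) = c
      rw [hnorm g hg]; exact hx
    have htrO : ∀ x ∈ O, ∀ y ∈ O, ∃ g ∈ SUg C, g x = y := by
      intro x hx y hy
      have hx' : C x x = c := hx
      have hy' : C y y = c := hy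
      exact htrn (by rw [hx']; exact hx₂) (by rw [hx', hy'])
    have hcov := cover (SUg C) A O hinvO htrO hx₂A (rfl : C x₂ x₂ = c)
    have hOc : Nat.card O = q ^ 2 * (q ^ 3 + 1) := hcn hcfix hx₂
    have h0O : (0 : U) ∉ O := by
      intro h
      have h' : C (0 : U) 0 = c := h
      rw [map_zero] at h'
      exact hx₂ h'.symm
    have h1 := hAcard O h0O
    rw [hOc, ← ht] at hcov
    calc q ^ 2 * (q ^ 3 + 1) ≤ t * Nat.card {x : U // x ∈ A ∧ x ∈ O} := hcov
      _ ≤ t * Nat.card A := Nat.mul_le_mul_left _ (by omega)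
      _ = Nat.card A * t := Nat.mul_comm _ _

/-- **D3-SUB** (M).  (SUB3): every nonzero additive subgroup `A` of `U` has
`|A| · #(SU(U)-translates of A) ≥ q^2 (q^3+1)`. -/
theorem sub3 [Finite F] [FiniteDimensional F U] (hσ : Invol σ) (hC : IsHerm C)
    (hN : NondegOn C ⊤) {q : ℕ} (hq : 2 ≤ q) (hF : Nat.card F = q ^ 2) (h3 : finrank F U = 3)
    (A : AddSubgroup U) (hA : A ≠ ⊥) :
    q ^ 2 * (q ^ 3 + 1) ≤
      Nat.card A * Nat.card {S : Set U // ∃ g ∈ SUg C, S = (fun x => g x) '' (A : Set U)} :=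
  sub3_aux hσ hC hN hq hF h3
    (fun {w w'} hw hww' => Cfsg.Agent.Lib.Helper32_U5_D3TRN.trans_norm hσ hC hN h3 hw hww')
    (Cfsg.Agent.Lib.Helper32_U5_D3CNT.card_iso hσ hC hN hF h3)
    (fun {c} hc hc0 => Cfsg.Agent.Lib.Helper32_U5_D3CNT.card_norm hσ hC hN hF h3 hc hc0)
    (fun A' hA' => Cfsg.Agent.Lib.Helper4_U5_D3ALLISO.card_le_of_all_iso hσ hC hN hF h3 A' hA')
    A hA

end Cfsg.Agent.Lib.Helper93_U5_D3SUB
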