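import Mathlib
import Cfsg.Agent.Lib.Helper94_UQStep
import Cfsg.Agent.Lib.Helper27_UQ_KISO
import Cfsg.Agent.Lib.Helper9_UQ_HSUBGEO
import Cfsg.Agent.Lib.Helper79_S2151_DUAL
import Cfsg.Agent.Lib.Helper93_U5_D3SUB
import Cfsg.Agent.Lib.Helper32_U5_D3TRN
import Cfsg.Agent.Lib.Helper32_U5_D3CNT
import Cfsg.Agent.Lib.Helper4_U5_D3ALLISO

/-!
# S2151, base `T(5)`: the covering hypothesis `hsub` for `d = 3` (helper68)

`sub3` (helper93's `sub3_aux` + D3-TRN + D3-CNT + D3-ALLISO) for the hermitian space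
`(W, Bw)`, `W = Wsub B v v'` of dimension 3, transported to `K = (udat hσ hB h).K` through
`Helper27_UQ_KISO.exists_KvEquiv`, and dualised by `Helper79_S2151_DUAL.DUAL`.
-/

set_option autoImplicit false
set_option linter.unusedSectionVars false
set_option linter.unusedVariables false

open Module Cfsg.Agent.Lib.Helper94_Symp Cfsg.Agent.Lib.Helper94_Herm
  Cfsg.Agent.Lib.Helper94_HermEich Cfsg.Agent.Lib.Helper94_HermPara
  Cfsg.Agent.Lib.Helper94_HermTrans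
  Cfsg.Agent.Lib.Helper13_SUGen Cfsg.Agent.Lib.Helper13_PSUSimple
  Cfsg.Agent.Lib.Helper46_U3TI Cfsg.Agent.Lib.Helper14_PSULocal1
  Cfsg.Agent.Lib.Helper27_UQDefs Cfsg.Agent.Lib.Helper50_UQAbsDefs
  Cfsg.Agent.Lib.Helper94_UQInst Cfsg.Agent.Lib.Helper94_UQPts
  Cfsg.Agent.Lib.Helper94_UQStep Cfsg.Agent.Lib.Helper27_UQ_KISO

namespace Cfsg.Agent.Lib.Helper68_T5_HSUB

variable {F V : Type*} [Field F] [AddCommGroup V] [Module F V] {σ : F →+* F}
variable {B : V →ₗ[F] V →ₛₗ[σ] F}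

/-- the `K`-translates of a subset of `W` are its `SU(W)`-translates -/
theorem translate_iff [FiniteDimensional F V] (hσ : Invol σ) (hB : IsHerm B) {v v' : V}
    (h : HypPair B v v') (A S : Set ↥(Wsub B v v')) :
    (∃ k ∈ (udat hσ hB h).K, S = (udat hσ hB h).ρ k '' A) ↔
      (∃ g ∈ SUg (Bw B (Wsub B v v')), S = (fun x => g x) '' A) := by
  obtain ⟨e, he⟩ := exists_KvEquiv hB h
  constructor
  · rintro ⟨k, hk, rfl⟩
    have hk' : (k : V ≃ₗ[F] V) ∈ Kv B v v' := (mem_K hσ hB h).mp hk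
    refine ⟨(e ⟨(k : V ≃ₗ[F] V), hk'⟩ : ↥(SUg (Bw B (Wsub B v v')))).1,
      (e ⟨(k : V ≃ₗ[F] V), hk'⟩).2, ?_⟩
    apply Set.image_congr
    intro w _
    apply Subtype.ext
    rw [Cfsg.Agent.Lib.Helper9_UQ_HSUBGEO.ρ_K hσ hB h hk w]
    exact (he ⟨(k : V ≃ₗ[F] V), hk'⟩ w).symm
  · rintro ⟨g, hg, rfl⟩
    set k0 : ↥(Kv B v v') := e.symm ⟨g, hg⟩ with hk0
    have hk0S : (k0 : V ≃ₗ[F] V) ∈ SUg B := k0.2.1
    have hkK : (⟨(k0 : V ≃ₗ[F] V), hk0S⟩ : ↥(SUg B)) ∈ (udat hσ hB h).K :=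
      (mem_K hσ hB h).mpr k0.2
    refine ⟨⟨(k0 : V ≃ₗ[F] V), hk0S⟩, hkK, ?_⟩
    apply Set.image_congr
    intro w _
    apply Subtype.ext
    rw [Cfsg.Agent.Lib.Helper9_UQ_HSUBGEO.ρ_K hσ hB h hkK w]
    have := he k0 w
    rw [hk0, MulEquiv.apply_symm_apply] at this
    exact this

/-- the number of `K`-translates of a subset of `W` is the number of its `SU(W)`-translates -/
theorem card_translates [FiniteDimensional F V] (hσ : Invol σ) (hB : IsHerm B) {v v' : V}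
    (h : HypPair B v v') (A : Set ↥(Wsub B v v')) :
    Nat.card {S : Set ↥(Wsub B v v') // ∃ k ∈ (udat hσ hB h).K, S = (udat hσ hB h).ρ k '' A} =
      Nat.card {S : Set ↥(Wsub B v v') //
        ∃ g ∈ SUg (Bw B (Wsub B v v')), S = (fun x => g x) '' A} :=
  Nat.card_congr (Equiv.subtypeEquivRight (fun S => translate_iff hσ hB h A S))

section D3

variable {U : Type*} [AddCommGroup U] [Module F U] {C : U →ₗ[F] U →ₛₗ[σ] F}

/-- **D3-SUB** `sub3`, assembled from the landed packages. -/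
theorem sub3 [Finite F] [FiniteDimensional F U] (hσ : Invol σ) (hC : IsHerm C)
    (hN : NondegOn C ⊤) {q : ℕ} (hq : 2 ≤ q) (hF : Nat.card F = q ^ 2) (h3 : finrank F U = 3)
    (A : AddSubgroup U) (hA : A ≠ ⊥) :
    q ^ 2 * (q ^ 3 + 1) ≤
      Nat.card A * Nat.card {S : Set U // ∃ g ∈ SUg C, S = (fun x => g x) '' (A : Set U)} :=
  Cfsg.Agent.Lib.Helper93_U5_D3SUB.sub3_aux hσ hC hN hq hF h3
    (fun hw hww' => Cfsg.Agent.Lib.Helper32_U5_D3TRN.trans_norm hσ hC hN h3 hw hww')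
    (Cfsg.Agent.Lib.Helper32_U5_D3CNT.card_iso hσ hC hN hF h3)
    (fun hc hc0 => Cfsg.Agent.Lib.Helper32_U5_D3CNT.card_norm hσ hC hN hF h3 hc hc0)
    (fun A hA => Cfsg.Agent.Lib.Helper4_U5_D3ALLISO.card_le_of_all_iso hσ hC hN hF h3 A hA)
    A hA

end D3

/-- `hsub` of the abstract core for `dim W = 3`, `T1 = q^2 (q^3+1)`. -/
theorem hsub3 [Finite F] [FiniteDimensional F V] (hσ : Invol σ) (hB : IsHerm B)
    (hN : NondegOn B ⊤) {q : ℕ} (hF : Nat.card F = q ^ 2) (h5 : finrank F V = 5)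
    {v v' : V} (h : HypPair B v v') :
    ∀ J : AddSubgroup ↥(Wsub B v v'), J ≠ ⊤ →
      q ^ 2 * (q ^ 3 + 1) ≤ J.index * Nat.card {S : Set ↥(Wsub B v v') //
        ∃ k ∈ (udat hσ hB h).K, S = (udat hσ hB h).ρ k '' (J : Set ↥(Wsub B v v'))} := by
  intro J hJ
  haveI : Finite V := Module.finite_of_finite F
  haveI : Finite ↥(SUg B) := finite_SUg B
  haveI : Finite ↥(Wsub B v v') := Module.finite_of_finite F
  have hq : 2 ≤ q := two_le_q hF
  have hcA : Nat.card ↥(skewA σ) = q := card_skewA hσ hF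
  haveI : Finite ↥(skewA σ) := Nat.finite_of_card_ne_zero (by omega)
  haveI : Nontrivial ↥(skewA σ) := by
    rw [← Finite.one_lt_card_iff_nontrivial, hcA]
    omega
  obtain ⟨A', hA'card, hA'tr⟩ :=
    Cfsg.Agent.Lib.Helper79_S2151_DUAL.DUAL (udat hσ hB h) (udat_ok hσ hB hN h) J
  have hA'ne : A' ≠ ⊥ := by
    intro h0
    rw [h0, AddSubgroup.card_bot] at hA'card
    exact hJ (AddSubgroup.index_eq_one.1 hA'card.symm)
  have hWnd : NondegOn B (Wsub B v v') := by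
    rw [Wsub_eq_Wp]
    exact nondegOn_Wp hB hN h
  have hfW : finrank F ↥(Wsub B v v') = 3 := finrank_W h (d := 3) (by omega)
  have := sub3 (C := Bw B (Wsub B v v')) hσ (isHerm_Bw hB _) (nondeg_Bw hWnd) hq hF hfW A' hA'ne
  rw [← hA'card, hA'tr, card_translates hσ hB h]
  exact this

end Cfsg.Agent.Lib.Helper68_T5_HSUB
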