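import Mathlib
import Cfsg.Agent.Lib.Helper94_UQStep

/-!
# S2151, base `T(5)`: the tail of the abstract core for `udat` (helper68)

`Helper50_UQAbsMain.abstract_tail` instantiated for `udat hσ hB h`, `IsoPt B`, `Qs`, `Xs`, `perp`
exactly as `Helper94_UQStep.step_geo_raw_core`: the only hypotheses left are `hreg` (STEP A),
`hpos` and `hsub`.
-/

set_option autoImplicit false
set_option linter.unusedSectionVars false
set_option linter.unusedVariables false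

open Module Cfsg.Agent.Lib.Helper94_Symp Cfsg.Agent.Lib.Helper94_Herm
  Cfsg.Agent.Lib.Helper94_HermEich Cfsg.Agent.Lib.Helper94_HermPara
  Cfsg.Agent.Lib.Helper94_HermTrans
  Cfsg.Agent.Lib.Helper13_SUGen Cfsg.Agent.Lib.Helper13_PSUSimple
  Cfsg.Agent.Lib.Helper46_U3TI Cfsg.Agent.Lib.Helper14_PSULocal1
  Cfsg.Agent.Lib.Helper27_UQDefs Cfsg.Agent.Lib.Helper50_UQAbsDefs
  Cfsg.Agent.Lib.Helper94_UQInst Cfsg.Agent.Lib.Helper94_UQPts
  Cfsg.Agent.Lib.Helper94_UQStep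

namespace Cfsg.Agent.Lib.Helper68_T5_TAIL

variable {F V : Type*} [Field F] [AddCommGroup V] [Module F V] {σ : F →+* F}
variable {B : V →ₗ[F] V →ₛₗ[σ] F}

/-- `abstract_tail` for `udat`: everything geometric discharged; `hreg`, `hpos`, `hsub` are kept. -/
theorem step_geo_tail [Finite F] [FiniteDimensional F V] (hσ : Invol σ) (hB : IsHerm B)
    (hN : NondegOn B ⊤) {q : ℕ} (hF : Nat.card F = q ^ 2) {v v' : V} (h : HypPair B v v')
    (d N T1 : ℕ) (hd : finrank F V = d + 2) (hd2 : 2 ≤ d)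
    {Ω : Type*} [MulAction ↥(SUg B) Ω] [MulAction.IsPretransitive ↥(SUg B) Ω] [Finite Ω]
    [Nontrivial Ω]
    (hP : Nat.card (IsoPt B) = N) (hNrec : N = 1 + T1 + q ^ (2 * d + 1))
    (hT1 : 0 < T1)
    (hreg : ∀ ω : Ω, (∃ a, (udat hσ hB h).x a • ω ≠ ω) →
      ∀ g ∈ (udat hσ hB h).Q, g • ω = ω → g = 1)
    (hpos : ∃ (u : IsoPt B) (ω : Ω), ∀ x ∈ Xs B u, x • ω = ω)
    (hsub : ∀ J : AddSubgroup ↥(Wsub B v v'), J ≠ ⊤ →
      T1 ≤ J.index * Nat.card {S : Set ↥(Wsub B v v') //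
        ∃ k ∈ (udat hσ hB h).K, S = (udat hσ hB h).ρ k '' (J : Set ↥(Wsub B v v'))}) :
    N ≤ Nat.card Ω := by
  haveI : Finite V := Module.finite_of_finite F
  haveI : Finite ↥(SUg B) := finite_SUg B
  haveI : Finite (IsoPt B) := finite_IsoPt B
  haveI : MulAction.IsPretransitive ↥(SUg B) (IsoPt B) :=
    Cfsg.Agent.Lib.Helper13_PSUSimple.isPretransitive hσ hB hN (by omega)
  have hv0 : v ≠ 0 := (hypPair_ne_zero h).1
  exact Cfsg.Agent.Lib.Helper50_UQAbsMain.abstract_tail (udat hσ hB h) (udat_ok hσ hB hN h)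
    (Qs B) (Xs B) perp (mkPt hv0 h.ee) (Qs_mkPt_eq hσ hB h hv0) (mem_Xs_mkPt_iff hσ hB h hv0)
    Qs_conj (Xs_conj hσ) q d N T1 (card_skewA hσ hF)
    (card_W hF h hd) hP hNrec hT1 hreg hpos hsub
    (exists_mem_Qs_inf hB hN) (exists_Qs_map hσ hB hN) (hline_pts hσ hB hN)
    (fun ω => hnot_pts hσ hB hN (by omega) ω (exists_moves ω))

/-- index form of `step_geo_tail`. -/
theorem step_geo_tail_index [Finite F] [FiniteDimensional F V] (hσ : Invol σ) (hB : IsHerm B)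
    (hN : NondegOn B ⊤) {q : ℕ} (hF : Nat.card F = q ^ 2) {v v' : V} (h : HypPair B v v')
    (d N T1 : ℕ) (hd : finrank F V = d + 2) (hd2 : 2 ≤ d)
    (hP : Nat.card (IsoPt B) = N) (hNrec : N = 1 + T1 + q ^ (2 * d + 1))
    (hT1 : 0 < T1)
    (H : Subgroup ↥(SUg B)) (hH : H ≠ ⊤)
    (hreg : Nat.card (↥(SUg B) ⧸ H) < N → ∀ ω : ↥(SUg B) ⧸ H, (∃ a, (udat hσ hB h).x a • ω ≠ ω) →
      ∀ g ∈ (udat hσ hB h).Q, g • ω = ω → g = 1)
    (hpos : Nat.card (↥(SUg B) ⧸ H) < N →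
      ∃ (u : IsoPt B) (ω : ↥(SUg B) ⧸ H), ∀ x ∈ Xs B u, x • ω = ω)
    (hsub : ∀ J : AddSubgroup ↥(Wsub B v v'), J ≠ ⊤ →
      T1 ≤ J.index * Nat.card {S : Set ↥(Wsub B v v') //
        ∃ k ∈ (udat hσ hB h).K, S = (udat hσ hB h).ρ k '' (J : Set ↥(Wsub B v v'))}) :
    N ≤ H.index := by
  haveI : Finite V := Module.finite_of_finite F
  haveI : Finite ↥(SUg B) := finite_SUg B
  haveI : Nontrivial (↥(SUg B) ⧸ H) := nontrivial_quot H hH
  by_contra hlt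
  push Not at hlt
  have hlt' : Nat.card (↥(SUg B) ⧸ H) < N := hlt
  have := step_geo_tail hσ hB hN hF h d N T1 hd hd2 (Ω := ↥(SUg B) ⧸ H) hP hNrec hT1
    (hreg hlt') (hpos hlt') hsub
  omega

end Cfsg.Agent.Lib.Helper68_T5_TAIL
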