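import Mathlib
import Cfsg.Agent.Lib.Helper68_T5_TAIL
import Cfsg.Agent.Lib.Helper68_T5_HSUB
import Cfsg.Agent.Lib.Helper68_T5_HPOS
import Cfsg.Agent.Lib.Helper68_S2151_Main
import Cfsg.Agent.Lib.Helper68_S2151_NUM5

/-!
# S2151, base `T(5)`: assembly (helper68, for helper85's market)

`T5_of`: every proper subgroup of `SU_5(q)` has index at least `q^7+q^5+q^2+1`, from
* `hA3`: STEP A3 (finding 187) at every hyperbolic pair, for the coset action on `G ⧸ H`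
  (helper85's `abstract_stepA3` and its geometric instance), and
* `hfix`: the element of V5-FIXS (`exists_fix_elt`).
-/

set_option autoImplicit false
set_option linter.unusedSectionVars false
set_option linter.unusedVariables false

open Module Cfsg.Agent.Lib.Helper94_Symp Cfsg.Agent.Lib.Helper94_Herm
  Cfsg.Agent.Lib.Helper94_HermEich Cfsg.Agent.Lib.Helper94_HermPara
  Cfsg.Agent.Lib.Helper94_HermTrans
  Cfsg.Agent.Lib.Helper13_SUGen Cfsg.Agent.Lib.Helper13_PSUSimple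
  Cfsg.Agent.Lib.Helper46_U3TI Cfsg.Agent.Lib.Helper14_PSULocal1
  Cfsg.Agent.Lib.Helper27_UQDefs Cfsg.Agent.Lib.Helper50_UQAbsDefs
  Cfsg.Agent.Lib.Helper94_UQInst Cfsg.Agent.Lib.Helper94_UQPts
  Cfsg.Agent.Lib.Helper94_UQStep Cfsg.Agent.Lib.Helper68_S2151_NUM
  Cfsg.Agent.Lib.Helper68_S2151_NUM5

namespace Cfsg.Agent.Lib.Helper68_T5_Final

universe u

variable {F : Type*} [Field F] {σ : F →+* F}

theorem T5_of {V : Type u} [AddCommGroup V] [Module F V] [Finite F] [FiniteDimensional F V]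
    (B : V →ₗ[F] V →ₛₗ[σ] F) (hσ : Invol σ) (hB : IsHerm B) (hN : NondegOn B ⊤) {q : ℕ}
    (hF : Nat.card F = q ^ 2) (h5 : finrank F V = 5)
    (hfix : ∀ {v v' : V} (h : HypPair B v v'),
      ∃ (s : V ≃ₗ[F] V) (r : ℕ) (v₁ : V), s ∈ SUg B ∧ r.Prime ∧ ¬ r ∣ q ∧ s ^ r = 1 ∧
      (∃ c : F, c ≠ 0 ∧ s v = c • v) ∧ v₁ ≠ 0 ∧ B v₁ v₁ = 0 ∧ (∃ c : F, c ≠ 0 ∧ s v₁ = c • v₁) ∧
      Nat.card {g : ↥(Qv B v) // s * (g : V ≃ₗ[F] V) * s⁻¹ = g} ≤ q ∧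
      q ^ 3 ≤ Nat.card {g : ↥(Qv B v₁) // s * (g : V ≃ₗ[F] V) * s⁻¹ = g})
    (hA3 : ∀ H : Subgroup ↥(SUg B), H ≠ ⊤ →
      Nat.card (↥(SUg B) ⧸ H) < q ^ 7 + q ^ 5 + q ^ 2 + 1 →
      ∀ {v v' : V} (h : HypPair B v v'), ∀ ω : ↥(SUg B) ⧸ H,
        (∃ a, (udat hσ hB h).x a • ω ≠ ω) → ∀ g ∈ (udat hσ hB h).Q, g • ω = ω → g = 1) :
    ∀ H : Subgroup ↥(SUg B), H ≠ ⊤ → q ^ 7 + q ^ 5 + q ^ 2 + 1 ≤ H.index := by
  intro H hH
  have hq : 2 ≤ q := two_le_q hF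
  obtain ⟨v, v', h⟩ := Cfsg.Agent.Lib.Helper9_S2151_CNT.exists_hypPair B hσ hB hN (by omega)
  have hP : Nat.card (IsoPt B) = q ^ 7 + q ^ 5 + q ^ 2 + 1 := by
    rw [Cfsg.Agent.Lib.Helper68_S2151_Main.card_IsoPt_odd B hσ hB hN hF 5 h5 ⟨2, by norm_num⟩,
      Nodd_five q hq]
  have hfinV : Finite V := Module.finite_of_finite F
  have hfinG : Finite ↥(SUg B) := finite_SUg B
  have hnt : Nontrivial (↥(SUg B) ⧸ H) := nontrivial_quot H hH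
  refine Cfsg.Agent.Lib.Helper68_T5_TAIL.step_geo_tail_index hσ hB hN hF h 3
    (q ^ 7 + q ^ 5 + q ^ 2 + 1) (q ^ 2 * (q ^ 3 + 1)) (by omega) (by omega) hP (by ring)
    (by positivity) H hH ?_ ?_
    (Cfsg.Agent.Lib.Helper68_T5_HSUB.hsub3 hσ hB hN hF h5 h)
  · intro hlt
    exact hA3 H hH hlt h
  · intro hlt
    exact Cfsg.Agent.Lib.Helper68_T5_HPOS.hpos5 hσ hB hN hF h5 hlt
      (fun {v v'} h' => hA3 H hH hlt h') h (hfix h)

end Cfsg.Agent.Lib.Helper68_T5_Final
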