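import Mathlib
import Cfsg.Agent.Lib.Helper50_UQAbsDefs

set_option autoImplicit false
set_option linter.unusedVariables false
set_option linter.unusedSectionVars false

/-!
# U5-LOCE (package of helper85, S2151-T5): STEP A3 (e) in the abstract datum.

Self-contained: local proofs of the covering count (`cover`), the index splitting (`relIndex_split`)
and the action properties of `ρ` (`rho_props`) are included (same statements as the packages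
U5-COVER, U5-REL, U5-RHO).
-/

open Cfsg.Agent.Lib.Helper50_UQAbsDefs

namespace Cfsg.Agent.Lib.Helper71_U5_LOCE

theorem cover {G : Type*} [Group G] [Finite G] {W : Type*} [Finite W]
    (L S : Subgroup G) (hSL : S ≤ L) (ρ : G → W → W)
    (hρ1 : ∀ w, ρ 1 w = w) (hρmul : ∀ l ∈ L, ∀ l' ∈ L, ∀ w, ρ (l * l') w = ρ l (ρ l' w))
    (I O : Set W) (hSI : ∀ s ∈ S, ∀ w ∈ I, ρ s w ∈ I)
    (hLO : ∀ l ∈ L, ∀ w ∈ O, ρ l w ∈ O)
    (htr : ∀ w ∈ O, ∀ w' ∈ O, ∃ l ∈ L, ρ l w = w')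
    (hne : (I ∩ O).Nonempty) :
    O.ncard ≤ S.relIndex L * (I ∩ O).ncard := by
  classical
  obtain ⟨i₀, hi₀I, hi₀O⟩ := hne
  -- the map (coset, j) ↦ ρ (rep coset) j
  let g : (↥L ⧸ S.subgroupOf L) × ↥(I ∩ O) → W := fun p => ρ ((Quotient.out p.1 : ↥L) : G) (p.2 : W)
  have hsub : O ⊆ Set.range g := by
    intro o ho
    obtain ⟨l, hl, hlo⟩ := htr i₀ hi₀O o ho
    let c : ↥L ⧸ S.subgroupOf L := QuotientGroup.mk (⟨l, hl⟩ : ↥L)
    have hr : (Quotient.out c : ↥L)⁻¹ * (⟨l, hl⟩ : ↥L) ∈ S.subgroupOf L := by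
      have h1 : (QuotientGroup.mk (Quotient.out c) : ↥L ⧸ S.subgroupOf L) = QuotientGroup.mk (⟨l, hl⟩ : ↥L) :=
        Quotient.out_eq c
      exact QuotientGroup.eq.mp h1
    have hrS : ((Quotient.out c : ↥L) : G)⁻¹ * l ∈ S := by
      have := Subgroup.mem_subgroupOf.mp hr
      simpa using this
    have hrL : ((Quotient.out c : ↥L) : G) ∈ L := (Quotient.out c : ↥L).2
    have hrlL : ((Quotient.out c : ↥L) : G)⁻¹ * l ∈ L := hSL hrS
    have hjI : ρ (((Quotient.out c : ↥L) : G)⁻¹ * l) i₀ ∈ I := hSI _ hrS _ hi₀I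
    have hjO : ρ (((Quotient.out c : ↥L) : G)⁻¹ * l) i₀ ∈ O := hLO _ hrlL _ hi₀O
    refine ⟨(c, ⟨_, hjI, hjO⟩), ?_⟩
    show ρ ((Quotient.out c : ↥L) : G) (ρ (((Quotient.out c : ↥L) : G)⁻¹ * l) i₀) = o
    rw [← hρmul _ hrL _ hrlL, mul_inv_cancel_left, hlo]
  calc O.ncard ≤ (Set.range g).ncard := Set.ncard_le_ncard hsub (Set.toFinite _)
    _ = Nat.card (Set.range g) := (Nat.card_coe_set_eq _).symm
    _ ≤ Nat.card ((↥L ⧸ S.subgroupOf L) × ↥(I ∩ O)) := Finite.card_range_le g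
    _ = S.relIndex L * (I ∩ O).ncard := by
      rw [Nat.card_prod, Nat.card_coe_set_eq]
      rfl

/-- in a finite group with `K` normal: `[S ⊔ K : S] = [K : S ⊓ K]`. -/
theorem relIndex_sup_of_normal {G : Type*} [Group G] [Finite G] (S K : Subgroup G) [K.Normal] :
    S.relIndex (S ⊔ K) = (S ⊓ K).relIndex K := by
  have h1 : Nat.card S * S.relIndex (S ⊔ K) = Nat.card ↥(S ⊔ K) := by
    have := Subgroup.relIndex_mul_relIndex ⊥ S (S ⊔ K) bot_le le_sup_left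
    rwa [Subgroup.relIndex_bot_left, Subgroup.relIndex_bot_left] at this
  have h2 : Nat.card K * K.relIndex (S ⊔ K) = Nat.card ↥(S ⊔ K) := by
    have := Subgroup.relIndex_mul_relIndex ⊥ K (S ⊔ K) bot_le le_sup_right
    rwa [Subgroup.relIndex_bot_left, Subgroup.relIndex_bot_left] at this
  have h3 : K.relIndex (S ⊔ K) = K.relIndex S := Subgroup.relIndex_sup_right S K
  have h4 : Nat.card ↥(S ⊓ K) * (S ⊓ K).relIndex S = Nat.card S := by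
    have := Subgroup.relIndex_mul_relIndex ⊥ (S ⊓ K) S bot_le inf_le_left
    rwa [Subgroup.relIndex_bot_left, Subgroup.relIndex_bot_left] at this
  have h5 : (S ⊓ K).relIndex S = K.relIndex S := Subgroup.inf_relIndex_left S K
  have h6 : Nat.card ↥(S ⊓ K) * (S ⊓ K).relIndex K = Nat.card K := by
    have := Subgroup.relIndex_mul_relIndex ⊥ (S ⊓ K) K bot_le inf_le_right
    rwa [Subgroup.relIndex_bot_left, Subgroup.relIndex_bot_left] at this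
  have hS : 0 < Nat.card S := Nat.card_pos
  rw [h3] at h2
  rw [h5] at h4
  have h7 : Nat.card S * S.relIndex (S ⊔ K) = Nat.card S * (S ⊓ K).relIndex K := by
    rw [h1, ← h2, ← h6, ← h4]; ring
  exact Nat.eq_of_mul_eq_mul_left hS h7

theorem relIndex_split {G : Type*} [Group G] [Finite G] (L K S : Subgroup G) (hK : K ≤ L) (hS : S ≤ L)
    (hn : ∀ l ∈ L, ∀ k ∈ K, l * k * l⁻¹ ∈ K) :
    S.relIndex L = (S ⊔ K).relIndex L * (S ⊓ K).relIndex K := by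
  have hnorm : (K.subgroupOf L).Normal := by
    refine ⟨fun k hk l => ?_⟩
    rw [Subgroup.mem_subgroupOf] at hk ⊢
    simpa using hn l l.2 k hk
  have h1 := relIndex_sup_of_normal (S.subgroupOf L) (K.subgroupOf L)
  have h2 : S.subgroupOf L ⊓ K.subgroupOf L = (S ⊓ K).subgroupOf L := rfl
  rw [← Subgroup.subgroupOf_sup hS hK, Subgroup.relIndex_subgroupOf (sup_le hS hK), h2,
    Subgroup.relIndex_subgroupOf hK] at h1
  rw [← h1, mul_comm]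
  exact (Subgroup.relIndex_mul_relIndex S (S ⊔ K) L le_sup_left (sup_le hS hK)).symm

theorem rho_props {G : Type*} [Group G] {W : Type*} [AddCommGroup W] {A : Type*} [AddCommGroup A]
    (D : UDat G W A) (hD : D.Ok) :
    (∀ w, D.ρ 1 w = w) ∧ (∀ l ∈ D.L, ∀ l' ∈ D.L, ∀ w, D.ρ (l * l') w = D.ρ l (D.ρ l' w)) ∧
    (∀ l ∈ D.L, ∀ w w', D.ρ l (w + w') = D.ρ l w + D.ρ l w') ∧
    (∀ l ∈ D.L, ∀ a a', D.ν l (a + a') = D.ν l a + D.ν l a') ∧
    (∀ l ∈ D.L, ∀ a, D.ν l a = 0 → a = 0) := by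
  have hx0 : D.x 0 = 1 := by
    have h := hD.x_add 0 0
    rw [add_zero] at h
    exact (mul_eq_left.mp h.symm)
  have hxinj : ∀ a b : A, D.x a = D.x b → a = b := by
    intro a b hab
    have h := hD.x_add (a + -b) b
    rw [neg_add_cancel_right, hab] at h
    have h1 : D.x (a + -b) = 1 := by
      exact (mul_eq_right.mp h.symm)
    have h2 := hD.x_inj _ h1
    exact (add_neg_eq_zero.mp h2)
  refine ⟨?_, ?_, ?_, ?_, ?_⟩
  · intro w
    obtain ⟨g, hg, rfl⟩ := hD.π_surj w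
    have h := hD.L_conj_π 1 D.L.one_mem g hg
    rw [one_mul, inv_one, mul_one] at h
    exact h.symm
  · intro l hl l' hl' w
    obtain ⟨g, hg, rfl⟩ := hD.π_surj w
    rw [← hD.L_conj_π (l * l') (D.L.mul_mem hl hl') g hg, ← hD.L_conj_π l' hl' g hg,
      ← hD.L_conj_π l hl _ (hD.L_conj_mem l' hl' g hg)]
    congr 1
    group
  · intro l hl w w'
    obtain ⟨g, hg, rfl⟩ := hD.π_surj w
    obtain ⟨g', hg', rfl⟩ := hD.π_surj w'
    rw [← hD.π_mul g hg g' hg', ← hD.L_conj_π l hl _ (D.Q.mul_mem hg hg'),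
      ← hD.L_conj_π l hl g hg, ← hD.L_conj_π l hl g' hg',
      ← hD.π_mul _ (hD.L_conj_mem l hl g hg) _ (hD.L_conj_mem l hl g' hg')]
    congr 1
    group
  · intro l hl a a'
    apply hxinj
    rw [hD.x_add, ← hD.L_conj_x l hl, ← hD.L_conj_x l hl, ← hD.L_conj_x l hl, hD.x_add]
    group
  · intro l hl a ha
    have h := hD.L_conj_x l hl a
    rw [ha, hx0] at h
    apply hD.x_inj
    have : D.x a = l⁻¹ * (l * D.x a * l⁻¹) * l := by group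
    rw [this, h]
    group

/-- `N ≤ q^4 (q^3+q+1)`. -/
theorem arith_case3 (q orb a b : ℕ) (hq : 2 ≤ q) (ha : 1 ≤ a) (hb : q ^ 3 + q + 1 ≤ b)
    (h : orb * q ^ 3 = q ^ 7 * (a * b)) : q ^ 7 + q ^ 5 + q ^ 2 + 1 ≤ orb := by
  have hq3 : 0 < q ^ 3 := by positivity
  have h1 : q ^ 7 * (1 * (q ^ 3 + q + 1)) ≤ q ^ 7 * (a * b) :=
    Nat.mul_le_mul_left _ (Nat.mul_le_mul ha hb)
  have h2 : (q ^ 4 * (q ^ 3 + q + 1)) * q ^ 3 ≤ orb * q ^ 3 := by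
    rw [h]; calc (q ^ 4 * (q ^ 3 + q + 1)) * q ^ 3 = q ^ 7 * (1 * (q ^ 3 + q + 1)) := by ring
      _ ≤ _ := h1
  have h3 : q ^ 4 * (q ^ 3 + q + 1) ≤ orb := Nat.le_of_mul_le_mul_right h2 hq3
  have h4 : 4 ≤ q ^ 2 := by nlinarith
  have h5 : q ^ 2 + 1 ≤ q ^ 4 := by nlinarith
  calc q ^ 7 + q ^ 5 + q ^ 2 + 1 ≤ q ^ 7 + q ^ 5 + q ^ 4 := by omega
    _ = q ^ 4 * (q ^ 3 + q + 1) := by ring
    _ ≤ orb := h3

/-- Case 1. -/
theorem arith_case1 (q orb n c m T0 : ℕ) (hq : 2 ≤ q) (hcm : c = m + 1) (hcq : c ≤ q ^ 2)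
    (hT0 : T0 = (q ^ 2 - 1) * (q ^ 3 + 1)) (hcov : T0 ≤ n * m)
    (h : orb * c = q ^ 7 * n) : q ^ 7 + q ^ 5 + q ^ 2 + 1 ≤ orb := by
  have h4 : 4 ≤ q ^ 2 := by nlinarith
  obtain ⟨u, hu⟩ : ∃ u, q ^ 2 = u + 1 := ⟨q ^ 2 - 1, by omega⟩
  have hu0 : 0 < u := by omega
  have hT0' : T0 = u * (q ^ 3 + 1) := by rw [hT0, hu]; simp
  have hmu : m ≤ u := by omega
  have hcu : c ≤ u + 1 := by omega
  have h1 : orb * c * m = q ^ 7 * (n * m) := by rw [h]; ring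
  have h2 : q ^ 7 * (u * (q ^ 3 + 1)) ≤ orb * c * m := by
    rw [h1, ← hT0']; exact Nat.mul_le_mul_left _ hcov
  have h3 : orb * c * m ≤ orb * (u + 1) * u :=
    Nat.mul_le_mul (Nat.mul_le_mul_left _ hcu) hmu
  have h5 : (q ^ 7 * (q ^ 3 + 1)) * u ≤ (orb * (u + 1)) * u := by
    calc (q ^ 7 * (q ^ 3 + 1)) * u = q ^ 7 * (u * (q ^ 3 + 1)) := by ring
      _ ≤ _ := h2.trans h3
  have h6 : q ^ 7 * (q ^ 3 + 1) ≤ orb * (u + 1) := Nat.le_of_mul_le_mul_right h5 hu0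
  rw [← hu] at h6
  have h7 : (q ^ 5 * (q ^ 3 + 1)) * q ^ 2 ≤ orb * q ^ 2 := by
    calc (q ^ 5 * (q ^ 3 + 1)) * q ^ 2 = q ^ 7 * (q ^ 3 + 1) := by ring
      _ ≤ _ := h6
  have h8 : q ^ 5 * (q ^ 3 + 1) ≤ orb := Nat.le_of_mul_le_mul_right h7 (by positivity)
  have h9 : q ^ 2 + 1 ≤ q ^ 7 := by
    have e : q ^ 7 = q ^ 5 * q ^ 2 := by ring
    have h52 : 2 ≤ q ^ 5 := le_trans hq (Nat.le_self_pow (by norm_num) q)
    have : 2 * q ^ 2 ≤ q ^ 5 * q ^ 2 := Nat.mul_le_mul_right _ h52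
    omega
  have h10 : 2 * q ^ 7 ≤ q ^ 8 := by
    have : q ^ 8 = q * q ^ 7 := by ring
    rw [this]; exact Nat.mul_le_mul_right _ hq
  calc q ^ 7 + q ^ 5 + q ^ 2 + 1 ≤ q ^ 8 + q ^ 5 := by omega
    _ = q ^ 5 * (q ^ 3 + 1) := by ring
    _ ≤ orb := h8

/-- Case 2. -/
theorem arith_case2 (q orb n c m T0 T1 : ℕ) (hq : 2 ≤ q) (hcm : c = m + 1) (hcq : 2 * c ≤ q ^ 3)
    (hT0 : T0 = (q ^ 2 - 1) * (q ^ 3 + 1)) (hT1 : T0 + T1 + 1 = q ^ 6) (hcov : T1 ≤ n * m)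
    (h : orb * c = q ^ 7 * n) : q ^ 7 + q ^ 5 + q ^ 2 + 1 ≤ orb := by
  obtain ⟨v, rfl⟩ : ∃ v, q = v + 1 := ⟨q - 1, by omega⟩
  have hv : 1 ≤ v := by omega
  have hu : (v + 1) ^ 2 - 1 = v ^ 2 + 2 * v := by
    apply Nat.sub_eq_of_eq_add; ring
  have hT1' : T1 = (v + 1) ^ 2 * v * ((v + 1) ^ 3 + 1) := by
    have : T0 + T1 + 1 = T0 + (v + 1) ^ 2 * v * ((v + 1) ^ 3 + 1) + 1 := by
      rw [hT1, hT0, hu]; ring
    omega
  have h1 : orb * c * m = (v + 1) ^ 7 * (n * m) := by rw [h]; ring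
  have h2 : (v + 1) ^ 7 * T1 ≤ orb * c * m := by
    rw [h1]; exact Nat.mul_le_mul_left _ hcov
  have h3 : 4 * (c * m) ≤ ((v + 1) ^ 3) ^ 2 := by
    calc 4 * (c * m) ≤ 4 * (c * c) := by
          apply Nat.mul_le_mul_left; apply Nat.mul_le_mul_left; omega
      _ = (2 * c) ^ 2 := by ring
      _ ≤ ((v + 1) ^ 3) ^ 2 := Nat.pow_le_pow_left hcq 2
  have h4 : (4 * (v + 1) * T1) * (v + 1) ^ 6 ≤ orb * (v + 1) ^ 6 := by
    calc (4 * (v + 1) * T1) * (v + 1) ^ 6 = 4 * ((v + 1) ^ 7 * T1) := by ring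
      _ ≤ 4 * (orb * c * m) := Nat.mul_le_mul_left _ h2
      _ = orb * (4 * (c * m)) := by ring
      _ ≤ orb * ((v + 1) ^ 3) ^ 2 := Nat.mul_le_mul_left _ h3
      _ = orb * (v + 1) ^ 6 := by ring
  have h5 : 4 * (v + 1) * T1 ≤ orb := Nat.le_of_mul_le_mul_right h4 (by positivity)
  refine le_trans ?_ h5
  rw [hT1']
  -- N ≤ 4 q^3 v (q^3+1)
  have hq' : v + 1 ≤ 2 * v := by omega
  have h6 : 2 * (v + 1) ^ 4 * ((v + 1) ^ 3 + 1) ≤ 4 * (v + 1) * ((v + 1) ^ 2 * v * ((v + 1) ^ 3 + 1)) := by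
    calc 2 * (v + 1) ^ 4 * ((v + 1) ^ 3 + 1) = 2 * (v + 1) ^ 3 * ((v + 1) ^ 3 + 1) * (v + 1) := by ring
      _ ≤ 2 * (v + 1) ^ 3 * ((v + 1) ^ 3 + 1) * (2 * v) := Nat.mul_le_mul_left _ hq'
      _ = _ := by ring
  refine le_trans ?_ h6
  have h44 : 4 ≤ (v + 1) ^ 2 := by nlinarith
  have h7 : (v + 1) ^ 5 + (v + 1) ^ 2 + 1 ≤ (v + 1) ^ 7 := by
    have e : (v + 1) ^ 7 = (v + 1) ^ 2 * (v + 1) ^ 5 := by ring
    have e5 : (v + 1) ^ 5 = (v + 1) ^ 2 * (v + 1) ^ 2 * (v + 1) := by ring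
    nlinarith [Nat.mul_le_mul h44 h44, Nat.mul_le_mul_right ((v + 1) ^ 5) h44]
  calc (v + 1) ^ 7 + (v + 1) ^ 5 + (v + 1) ^ 2 + 1 ≤ 2 * (v + 1) ^ 7 := by omega
    _ ≤ 2 * (v + 1) ^ 4 * ((v + 1) ^ 3 + 1) := by
      have : 2 * (v + 1) ^ 4 * ((v + 1) ^ 3 + 1) = 2 * (v + 1) ^ 7 + 2 * (v + 1) ^ 4 := by ring
      omega

section local_bounds

variable {G : Type*} [Group G] [Finite G] {W : Type*} [AddCommGroup W] [Finite W]
  {A : Type*} [AddCommGroup A] [Finite A]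
  (D : UDat G W A) (hD : D.Ok) (q : ℕ) (hq : 2 ≤ q)
  (p k : ℕ) (hp : p.Prime) (hqp : q = p ^ k)
  (hA : Nat.card A = q) (hW : Nat.card W = q ^ 6)
  (iso : W → Prop) (hiso0 : iso 0)
  (horb : ∀ w w' : W, w ≠ 0 → w' ≠ 0 → (iso w ↔ iso w') → ∃ l ∈ D.L, D.ρ l w = w')
  (hisoL : ∀ l ∈ D.L, ∀ w, iso (D.ρ l w) ↔ iso w)
  (hT0 : Nat.card {w : W // w ≠ 0 ∧ iso w} = (q ^ 2 - 1) * (q ^ 3 + 1))

include hD hq hp hqp hA hW hiso0 horb hisoL hT0

/-- T5-LOCE (M/L).  STEP A3 (e): `Y = 0`, `I ≠ 0` gives a `P`-orbit with at least `N_5` points.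
`orb` = size of the `P`-orbit, linked to `I`, `S` by the bookkeeping identity of UQ-A1 (with `|Y| = 1`). -/
theorem locE
    (hallIso : ∀ I : AddSubgroup W, (∀ w ∈ I, iso w) → Nat.card I ≤ q ^ 2)
    (hFq : ∀ I : AddSubgroup W, Nat.card I = q ^ 3 → (∀ w ∈ I, ∀ w' ∈ I, D.β w w' = 0) →
      ∀ E : Subgroup G, E ≤ D.K → (∀ k ∈ E, ∀ w ∈ I, D.ρ k w ∈ I) → q ^ 3 + q + 1 ≤ E.relIndex D.K)
    (I : AddSubgroup W) (S : Subgroup G) (hSL : S ≤ D.L) (hI0 : I ≠ ⊥)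
    (hII : ∀ w ∈ I, ∀ w' ∈ I, D.β w w' = 0)
    (hIsq : Nat.card I ^ 2 ≤ Nat.card W)
    (hSI : ∀ s ∈ S, ∀ w ∈ I, D.ρ s w ∈ I)
    (orb : ℕ)
    (horbit : orb * Nat.card I = q ^ 7 * ((S ⊔ D.K).relIndex D.L * (S ⊓ D.K).relIndex D.K)) :
    q ^ 7 + q ^ 5 + q ^ 2 + 1 ≤ orb := by
  classical
  obtain ⟨hρ1, hρmul, hρadd, -, -⟩ := rho_props D hD
  have hrel := relIndex_split D.L D.K S hD.K_le hSL hD.K_normal
  obtain ⟨n, hn⟩ : ∃ n, n = S.relIndex D.L := ⟨_, rfl⟩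
  obtain ⟨c, hc⟩ : ∃ c, c = Nat.card I := ⟨_, rfl⟩
  have horbit' : orb * c = q ^ 7 * n := by rw [hc, hn, hrel]; exact horbit
  -- facts on `c`
  have hcdvd : c ∣ q ^ 6 := by
    rw [hc, ← hW]; exact AddSubgroup.card_addSubgroup_dvd_card I
  have hc2 : 2 ≤ c := by
    rw [hc]; exact (AddSubgroup.one_lt_card_iff_ne_bot I).mpr hI0
  have hcq3 : c ≤ q ^ 3 := by
    have h1 : c ^ 2 ≤ (q ^ 3) ^ 2 := by
      rw [hc, ← pow_mul]; rw [hW] at hIsq; exact hIsq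
    exact (Nat.pow_le_pow_iff_left (by norm_num)).mp h1
  by_cases hceq : c = q ^ 3
  · -- CASE 3: `|I| = q^3`
    have hb : q ^ 3 + q + 1 ≤ (S ⊓ D.K).relIndex D.K :=
      hFq I (hc ▸ hceq) hII (S ⊓ D.K) inf_le_right (fun k hk w hw => hSI k hk.1 w hw)
    have ha : 1 ≤ (S ⊔ D.K).relIndex D.L :=
      Nat.one_le_iff_ne_zero.mpr
        (Subgroup.index_ne_zero_of_finite (H := (S ⊔ D.K).subgroupOf D.L))
    rw [← hc, hceq] at horbit
    exact arith_case3 q orb _ _ hq ha hb horbit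
  · -- `2 |I| ≤ q^3`
    have hc2q : 2 * c ≤ q ^ 3 := by
      have hcd' : c ∣ p ^ (k * 6) := by rw [hqp, ← pow_mul] at hcdvd; exact hcdvd
      obtain ⟨j, hj, hcj⟩ := (Nat.dvd_prime_pow hp).mp hcd'
      have hq3 : q ^ 3 = p ^ (k * 3) := by rw [hqp, ← pow_mul]
      rw [hq3, hcj] at hcq3 hceq ⊢
      have hjle : j ≤ k * 3 := (Nat.pow_le_pow_iff_right hp.one_lt).mp hcq3
      have hjlt : j < k * 3 := lt_of_le_of_ne hjle (fun h => hceq (by rw [h]))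
      calc 2 * p ^ j ≤ p * p ^ j := Nat.mul_le_mul_right _ hp.two_le
        _ = p ^ (j + 1) := by rw [pow_succ]; ring
        _ ≤ p ^ (k * 3) := Nat.pow_le_pow_right hp.pos hjlt
    obtain ⟨m, hm⟩ : ∃ m, c = m + 1 := ⟨c - 1, by omega⟩
    -- `ρ l` kills only `0`
    have hρ0 : ∀ l ∈ D.L, D.ρ l 0 = 0 := by
      intro l hl
      have h := hρadd l hl 0 0
      rw [add_zero] at h
      exact (add_eq_left.mp h.symm)
    have hρne : ∀ l ∈ D.L, ∀ w, w ≠ 0 → D.ρ l w ≠ 0 := by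
      intro l hl w hw h0
      apply hw
      have h1 := hρmul l⁻¹ (D.L.inv_mem hl) l hl w
      rw [inv_mul_cancel, hρ1, h0, hρ0 _ (D.L.inv_mem hl)] at h1
      exact h1
    -- the covering bound
    have hcov : ∀ O : Set W, (∀ w ∈ O, w ≠ 0) → (∀ l ∈ D.L, ∀ w ∈ O, D.ρ l w ∈ O) →
        (∀ w ∈ O, ∀ w' ∈ O, ∃ l ∈ D.L, D.ρ l w = w') → ((I : Set W) ∩ O).Nonempty →
        O.ncard ≤ n * m := by
      intro O hO0 hLO htr hne
      have h1 := cover D.L S hSL D.ρ hρ1 hρmul (I : Set W) O hSI hLO htr hne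
      have h2 : ((I : Set W) ∩ O).ncard + 1 ≤ c := by
        have h0 : (0 : W) ∉ (I : Set W) ∩ O := fun h => hO0 0 h.2 rfl
        rw [← Set.ncard_insert_of_notMem h0 (Set.toFinite _), hc, ← Nat.card_coe_set_eq]
        apply Set.ncard_le_ncard _ (Set.toFinite _)
        intro w hw
        rcases Set.mem_insert_iff.mp hw with rfl | hw
        · exact I.zero_mem
        · exact hw.1
      rw [hn]
      exact h1.trans (Nat.mul_le_mul_left _ (by omega))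
    -- the two classes
    obtain ⟨O₀, hO₀⟩ : ∃ O₀ : Set W, O₀ = {w | w ≠ 0 ∧ iso w} := ⟨_, rfl⟩
    obtain ⟨O₁, hO₁⟩ : ∃ O₁ : Set W, O₁ = {w | w ≠ 0 ∧ ¬ iso w} := ⟨_, rfl⟩
    have hcard0 : O₀.ncard = (q ^ 2 - 1) * (q ^ 3 + 1) := by
      rw [hO₀, ← Nat.card_coe_set_eq]; exact hT0
    have hcard01 : O₀.ncard + O₁.ncard + 1 = q ^ 6 := by
      have hU : O₀ ∪ O₁ = ({0} : Set W)ᶜ := by
        ext w
        rw [hO₀, hO₁]
        constructor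
        · rintro (h | h)
          · exact h.1
          · exact h.1
        · intro h
          by_cases hw : iso w
          · exact Or.inl ⟨h, hw⟩
          · exact Or.inr ⟨h, hw⟩
      have hdis : Disjoint O₀ O₁ := by
        rw [hO₀, hO₁]
        exact Set.disjoint_left.mpr (fun w h0 h1 => h1.2 h0.2)
      have h1 := Set.ncard_union_eq hdis (Set.toFinite _) (Set.toFinite _)
      have h2 := Set.ncard_add_ncard_compl ({0} : Set W)
      rw [Set.ncard_singleton, ← hU, h1, hW] at h2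
      omega
    by_cases hall : ∀ w ∈ I, iso w
    · -- CASE 1: all of `I` isotropic
      have hcq2 : c ≤ q ^ 2 := hc ▸ hallIso I hall
      obtain ⟨⟨w₀, hw₀I⟩, hw₀'⟩ := (AddSubgroup.ne_bot_iff_exists_ne_zero).mp hI0
      have hw₀ : w₀ ≠ 0 := fun h => hw₀' (Subtype.ext h)
      have h1 : O₀.ncard ≤ n * m := by
        apply hcov O₀
        · intro w hw; rw [hO₀] at hw; exact hw.1
        · intro l hl w hw
          rw [hO₀] at hw ⊢
          exact ⟨hρne l hl w hw.1, (hisoL l hl w).mpr hw.2⟩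
        · intro w hw w' hw'
          rw [hO₀] at hw hw'
          exact horb w w' hw.1 hw'.1 (iff_of_true hw.2 hw'.2)
        · exact ⟨w₀, hw₀I, by rw [hO₀]; exact ⟨hw₀, hall w₀ hw₀I⟩⟩
      exact arith_case1 q orb n c m _ hq hm hcq2 hcard0 h1 horbit'
    · -- CASE 2: some anisotropic vector in `I`
      push Not at hall
      obtain ⟨w₀, hw₀I, hw₀⟩ := hall
      have hw₀0 : w₀ ≠ 0 := fun h => hw₀ (h ▸ hiso0)
      have h1 : O₁.ncard ≤ n * m := by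
        apply hcov O₁
        · intro w hw; rw [hO₁] at hw; exact hw.1
        · intro l hl w hw
          rw [hO₁] at hw ⊢
          exact ⟨hρne l hl w hw.1, fun h => hw.2 ((hisoL l hl w).mp h)⟩
        · intro w hw w' hw'
          rw [hO₁] at hw hw'
          exact horb w w' hw.1 hw'.1 (iff_of_false hw.2 hw'.2)
        · exact ⟨w₀, hw₀I, by rw [hO₁]; exact ⟨hw₀0, hw₀⟩⟩
      exact arith_case2 q orb n c m _ _ hq hm hc2q hcard0 hcard01 h1 horbit'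

end local_bounds

end Cfsg.Agent.Lib.Helper71_U5_LOCE
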