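import Mathlib
import Cfsg.Agent.Lib.Helper50_UQAbsDefs

/-!
# S2151-T5 package U5-RHO (architect helper85): `ρ` restricted to `L` is an action by additive
bijections, `ν l` is additive and injective (consequences of `UDat.Ok`).
-/

set_option autoImplicit false
set_option linter.unusedVariables false

open Cfsg.Agent.Lib.Helper50_UQAbsDefs

namespace Cfsg.Agent.Lib.Helper89_U5_RHO

variable {G : Type*} [Group G] {W : Type*} [AddCommGroup W] {A : Type*} [AddCommGroup A]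

theorem x_zero (D : UDat G W A) (hD : D.Ok) : D.x 0 = 1 := by
  have h := hD.x_add 0 0
  rw [add_zero] at h
  exact (mul_eq_left).mp h.symm |>.symm ▸ rfl

theorem x_neg (D : UDat G W A) (hD : D.Ok) (a : A) : D.x (-a) = (D.x a)⁻¹ := by
  have h := hD.x_add a (-a)
  rw [add_neg_cancel, x_zero D hD] at h
  exact eq_inv_of_mul_eq_one_right h.symm

theorem x_injective (D : UDat G W A) (hD : D.Ok) (a b : A) (h : D.x a = D.x b) : a = b := by
  have h1 : D.x (a - b) = 1 := by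
    rw [sub_eq_add_neg, hD.x_add, x_neg D hD, h, mul_inv_cancel]
  exact sub_eq_zero.mp (hD.x_inj _ h1)

/-- **U5-RHO**. -/
theorem rho_props {G : Type*} [Group G] {W : Type*} [AddCommGroup W] {A : Type*} [AddCommGroup A]
    (D : UDat G W A) (hD : D.Ok) :
    (∀ w, D.ρ 1 w = w) ∧ (∀ l ∈ D.L, ∀ l' ∈ D.L, ∀ w, D.ρ (l * l') w = D.ρ l (D.ρ l' w)) ∧
    (∀ l ∈ D.L, ∀ w w', D.ρ l (w + w') = D.ρ l w + D.ρ l w') ∧
    (∀ l ∈ D.L, ∀ a a', D.ν l (a + a') = D.ν l a + D.ν l a') ∧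
    (∀ l ∈ D.L, ∀ a, D.ν l a = 0 → a = 0) := by
  refine ⟨?_, ?_, ?_, ?_, ?_⟩
  · intro w
    obtain ⟨g, hg, rfl⟩ := hD.π_surj w
    have h := hD.L_conj_π 1 D.L.one_mem g hg
    rw [one_mul, inv_one, mul_one] at h
    exact h.symm
  · intro l hl l' hl' w
    obtain ⟨g, hg, rfl⟩ := hD.π_surj w
    have h1 := hD.L_conj_π (l * l') (D.L.mul_mem hl hl') g hg
    have hg' := hD.L_conj_mem l' hl' g hg
    have h2 := hD.L_conj_π l hl _ hg'
    have h3 := hD.L_conj_π l' hl' g hg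
    have e : l * l' * g * (l * l')⁻¹ = l * (l' * g * l'⁻¹) * l⁻¹ := by group
    rw [← h1, e, h2, h3]
  · intro l hl w w'
    obtain ⟨g, hg, rfl⟩ := hD.π_surj w
    obtain ⟨g', hg', rfl⟩ := hD.π_surj w'
    have h1 := hD.L_conj_π l hl (g * g') (D.Q.mul_mem hg hg')
    have e : l * (g * g') * l⁻¹ = (l * g * l⁻¹) * (l * g' * l⁻¹) := by group
    rw [← hD.π_mul g hg g' hg', ← h1, e,
      hD.π_mul _ (hD.L_conj_mem l hl g hg) _ (hD.L_conj_mem l hl g' hg'),
      hD.L_conj_π l hl g hg, hD.L_conj_π l hl g' hg']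
  · intro l hl a a'
    apply x_injective D hD
    rw [← hD.L_conj_x l hl, hD.x_add, hD.x_add, ← hD.L_conj_x l hl, ← hD.L_conj_x l hl]
    group
  · intro l hl a ha
    apply hD.x_inj
    have h := hD.L_conj_x l hl a
    rw [ha, x_zero D hD] at h
    have e : D.x a = l⁻¹ * (l * D.x a * l⁻¹) * l := by group
    rw [e, h]
    group

end Cfsg.Agent.Lib.Helper89_U5_RHO
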