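/-
  S2151-T5 market (architect helper85), package U5-LOCF, hypothesis form: STEP A3 (f) with the
  conclusions of U5-COVER and U5-REL as hypotheses (`hcover`, `hsplit`).
-/
import Mathlib
import Cfsg.Agent.Lib.Helper50_UQAbsDefs
import Cfsg.Agent.Lib.Helper89_U5_RHO

set_option autoImplicit false
set_option linter.unusedVariables false
set_option linter.unusedSectionVars false

open Cfsg.Agent.Lib.Helper50_UQAbsDefs

namespace Cfsg.Agent.Lib.Helper78_U5_LOCF0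

/-- pure arithmetic, case `I = 0`. -/
theorem arith_I0 (q y a b orb : ℕ) (hq : 2 ≤ q) (hy : 0 < y) (h2y : 2 * y ≤ q)
    (ha : y + 1 ≤ a) (hb : 1 ≤ b) (h : orb * y = q ^ 7 * (a * b)) :
    q ^ 7 + q ^ 5 + q ^ 2 + 1 ≤ orb := by
  have h1 : q ^ 7 * (y + 1) ≤ orb * y := by
    rw [h]
    apply Nat.mul_le_mul_left
    calc y + 1 ≤ a := ha
      _ = a * 1 := (mul_one a).symm
      _ ≤ a * b := Nat.mul_le_mul_left _ hb
  have h2 : (q ^ 7 + 2 * q ^ 6) * y ≤ orb * y := by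
    calc (q ^ 7 + 2 * q ^ 6) * y = q ^ 7 * y + q ^ 6 * (2 * y) := by ring
      _ ≤ q ^ 7 * y + q ^ 6 * q := by
          apply Nat.add_le_add_left
          exact Nat.mul_le_mul_left _ h2y
      _ = q ^ 7 * (y + 1) := by ring
      _ ≤ orb * y := h1
  have h3 : q ^ 7 + 2 * q ^ 6 ≤ orb := Nat.le_of_mul_le_mul_right h2 hy
  have h4 : q ^ 5 + q ^ 2 + 1 ≤ 2 * q ^ 6 := by
    have hq5 : q ^ 5 * 2 ≤ q ^ 5 * q := Nat.mul_le_mul_left _ hq
    have h62 : q ^ 2 ≤ q ^ 5 := Nat.pow_le_pow_right (by omega) (by norm_num)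
    have h1q : 1 ≤ q ^ 5 := Nat.one_le_pow _ _ (by omega)
    have : q ^ 6 = q ^ 5 * q := by ring
    nlinarith
  omega

/-- pure arithmetic, case `I ≠ 0`. -/
theorem arith_I1 (q y i r orb T0 : ℕ) (hq : 2 ≤ q) (hy : 0 < y) (h2y : 2 * y ≤ q)
    (hi2 : 2 ≤ i) (hi : i ^ 2 ≤ q ^ 6) (hT0 : T0 = (q ^ 2 - 1) * (q ^ 3 + 1))
    (hcov : T0 ≤ r * (i - 1)) (h : orb * (y * i) = q ^ 7 * r) :
    q ^ 5 + q ^ 2 + 1 ≤ orb := by
  obtain ⟨m, hm⟩ : ∃ m, q ^ 2 = m + 1 := ⟨q ^ 2 - 1, by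
    have : 1 ≤ q ^ 2 := Nat.one_le_pow _ _ (by omega)
    omega⟩
  have hm3 : 3 ≤ m := by nlinarith
  have hT0' : T0 = m * (q ^ 3 + 1) := by rw [hT0, hm]; simp
  obtain ⟨j, hj⟩ : ∃ j, i = j + 1 := ⟨i - 1, by omega⟩
  have hj1 : 1 ≤ j := by omega
  rw [hj] at hcov h hi
  simp only [Nat.add_sub_cancel] at hcov
  -- `2 T0 q^7 ≤ orb * (2 y (j+1) j)`
  have h1 : 2 * T0 * q ^ 7 ≤ orb * (2 * y * ((j + 1) * j)) := by
    calc 2 * T0 * q ^ 7 ≤ 2 * (r * j) * q ^ 7 := by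
          apply Nat.mul_le_mul_right
          exact Nat.mul_le_mul_left _ hcov
      _ = 2 * j * (q ^ 7 * r) := by ring
      _ = 2 * j * (orb * (y * (j + 1))) := by rw [h]
      _ = orb * (2 * y * ((j + 1) * j)) := by ring
  have h2 : 2 * y * ((j + 1) * j) < q ^ 7 := by
    have h3 : (j + 1) * j < q ^ 6 := by nlinarith
    calc 2 * y * ((j + 1) * j) ≤ q * ((j + 1) * j) := Nat.mul_le_mul_right _ h2y
      _ < q * q ^ 6 := by
          apply Nat.mul_lt_mul_of_pos_left h3 (by omega)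
      _ = q ^ 7 := by ring
  have hT0pos : 0 < T0 := by
    rw [hT0']
    positivity
  have h3 : 2 * T0 < orb := by
    by_contra hcon
    rw [not_lt] at hcon
    have h4 : orb * (2 * y * ((j + 1) * j)) ≤ 2 * T0 * (2 * y * ((j + 1) * j)) :=
      Nat.mul_le_mul_right _ hcon
    have h5 : 2 * T0 * (2 * y * ((j + 1) * j)) < 2 * T0 * q ^ 7 :=
      Nat.mul_lt_mul_of_pos_left h2 (by omega)
    omega
  have h4 : q ^ 5 + q ^ 2 + 1 ≤ 2 * T0 := by
    rw [hT0']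
    have hq3 : 8 ≤ q ^ 3 := by
      calc 8 = 2 ^ 3 := by norm_num
        _ ≤ q ^ 3 := Nat.pow_le_pow_left hq 3
    have : q ^ 5 = q ^ 2 * q ^ 3 := by ring
    rw [this, hm]
    nlinarith
  omega

section local_bounds

variable {G : Type*} [Group G] [Finite G] {W : Type*} [AddCommGroup W] [Finite W]
  {A : Type*} [AddCommGroup A] [Finite A]
  (D : UDat G W A) (hD : D.Ok) (q : ℕ) (hq : 2 ≤ q)
  (p k : ℕ) (hp : p.Prime) (hqp : q = p ^ k)
  (hA : Nat.card A = q) (hW : Nat.card W = q ^ 6)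
  (iso : W → Prop) (hiso0 : iso 0)
  (horb : ∀ w w' : W, w ≠ 0 → w' ≠ 0 → (iso w ↔ iso w') → ∃ l ∈ D.L, D.ρ l w = w')
  (hisoL : ∀ l ∈ D.L, ∀ w, iso (D.ρ l w) ↔ iso w)
  (hT0 : Nat.card {w : W // w ≠ 0 ∧ iso w} = (q ^ 2 - 1) * (q ^ 3 + 1))

include hD hq hp hqp hA hW hiso0 horb hisoL hT0

theorem locF_aux
    (htorus : ∀ (S : Subgroup G) (Y : AddSubgroup A), S ≤ D.L → Y ≠ ⊥ → Y ≠ ⊤ →
        (∀ s ∈ S, ∀ a ∈ Y, D.ν s a ∈ Y) → Nat.card Y + 1 ≤ (S ⊔ D.K).relIndex D.L)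
    (Y : AddSubgroup A) (I : AddSubgroup W) (S : Subgroup G) (hSL : S ≤ D.L)
    (hY0 : Y ≠ ⊥) (hY1 : Y ≠ ⊤)
    (hIsq : Nat.card I ^ 2 ≤ Nat.card W)
    (hSI : ∀ s ∈ S, ∀ w ∈ I, D.ρ s w ∈ I)
    (hSY : ∀ s ∈ S, ∀ a ∈ Y, D.ν s a ∈ Y)
    (orb : ℕ)
    (horbit : orb * (Nat.card Y * Nat.card I) =
      q ^ 7 * ((S ⊔ D.K).relIndex D.L * (S ⊓ D.K).relIndex D.K))
    (hcover : ∀ (I O : Set W), (∀ s ∈ S, ∀ w ∈ I, D.ρ s w ∈ I) →
      (∀ l ∈ D.L, ∀ w ∈ O, D.ρ l w ∈ O) → (∀ w ∈ O, ∀ w' ∈ O, ∃ l ∈ D.L, D.ρ l w = w') →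
      (I ∩ O).Nonempty → O.ncard ≤ S.relIndex D.L * (I ∩ O).ncard)
    (hsplit : S.relIndex D.L = (S ⊔ D.K).relIndex D.L * (S ⊓ D.K).relIndex D.K) :
    q ^ 5 + q ^ 2 + 1 ≤ orb ∧ (I = ⊥ → q ^ 7 + q ^ 5 + q ^ 2 + 1 ≤ orb) := by
  classical
  obtain ⟨hρ1, hρmul, hρadd, -, -⟩ := Cfsg.Agent.Lib.Helper89_U5_RHO.rho_props D hD
  -- `|Y|`
  have hypos : 0 < Nat.card Y := Nat.card_pos
  have h2y : 2 * Nat.card Y ≤ q := by
    have hdvd : Nat.card Y ∣ p ^ k := by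
      rw [← hqp, ← hA]
      exact AddSubgroup.card_addSubgroup_dvd_card Y
    obtain ⟨j, hjk, hj⟩ := (Nat.dvd_prime_pow hp).mp hdvd
    have hne : Nat.card Y ≠ q := by
      intro h
      apply hY1
      rw [← AddSubgroup.card_eq_iff_eq_top, h, hA]
    have hjlt : j < k := by
      rcases hjk.lt_or_eq with h | h
      · exact h
      · exfalso; apply hne; rw [hj, h, hqp]
    have h1 : p ^ (j + 1) ∣ p ^ k := pow_dvd_pow p hjlt
    have h2 : p ^ (j + 1) ≤ q := by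
      rw [hqp]
      exact Nat.le_of_dvd (pow_pos hp.pos k) h1
    calc 2 * Nat.card Y ≤ p * Nat.card Y := Nat.mul_le_mul_right _ hp.two_le
      _ = p ^ (j + 1) := by rw [hj]; ring
      _ ≤ q := h2
  have ha : Nat.card Y + 1 ≤ (S ⊔ D.K).relIndex D.L := htorus S Y hSL hY0 hY1 hSY
  have hb : 1 ≤ (S ⊓ D.K).relIndex D.K := by
    have : (S ⊓ D.K).relIndex D.K ≠ 0 := Subgroup.index_ne_zero_of_finite
    omega
  -- the case `I = ⊥`
  have hcase0 : I = ⊥ → q ^ 7 + q ^ 5 + q ^ 2 + 1 ≤ orb := by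
    intro hI
    have hI1 : Nat.card I = 1 := by rw [hI]; exact AddSubgroup.card_bot
    rw [hI1, mul_one] at horbit
    exact arith_I0 q (Nat.card Y) _ _ orb hq hypos h2y ha hb horbit
  refine ⟨?_, hcase0⟩
  by_cases hI : I = ⊥
  · have := hcase0 hI
    omega
  -- the case `I ≠ ⊥`: covering
  obtain ⟨w₀, hw₀I, hw₀⟩ : ∃ w₀ ∈ I, w₀ ≠ 0 := by
    by_contra hcon
    apply hI
    rw [eq_bot_iff]
    intro w hw
    rw [AddSubgroup.mem_bot]
    by_contra hw0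
    exact hcon ⟨w, hw, hw0⟩
  have hinj0 : ∀ l ∈ D.L, ∀ w, D.ρ l w = 0 → w = 0 := by
    intro l hl w hw
    have hz : D.ρ l⁻¹ 0 = 0 := by
      have := hρadd l⁻¹ (D.L.inv_mem hl) 0 0
      rw [add_zero] at this
      exact left_eq_add.mp this
    have := hρmul l⁻¹ (D.L.inv_mem hl) l hl w
    rw [inv_mul_cancel, hρ1, hw, hz] at this
    exact this
  set O : Set W := {w | w ≠ 0 ∧ (iso w ↔ iso w₀)} with hO
  have hLO : ∀ l ∈ D.L, ∀ w ∈ O, D.ρ l w ∈ O := by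
    intro l hl w hw
    exact ⟨fun h => hw.1 (hinj0 l hl w h), (hisoL l hl w).trans hw.2⟩
  have htr : ∀ w ∈ O, ∀ w' ∈ O, ∃ l ∈ D.L, D.ρ l w = w' := by
    intro w hw w' hw'
    exact horb w w' hw.1 hw'.1 (hw.2.trans hw'.2.symm)
  have hne : ((I : Set W) ∩ O).Nonempty := ⟨w₀, hw₀I, hw₀, Iff.rfl⟩
  have hcov := hcover (I : Set W) O hSI hLO htr hne
  -- `|I ∩ O| ≤ |I| - 1`
  have hIO : ((I : Set W) ∩ O).ncard ≤ Nat.card I - 1 := by
    have hsub : (I : Set W) ∩ O ⊆ (I : Set W) \ {0} := by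
      intro w hw
      exact ⟨hw.1, fun h => hw.2.1 h⟩
    have h1 := Set.ncard_le_ncard hsub (Set.toFinite _)
    have h2 : ((I : Set W) \ {0}).ncard = (I : Set W).ncard - 1 :=
      Set.ncard_sdiff_singleton_of_mem I.zero_mem
    rw [h2] at h1
    have h3 : (I : Set W).ncard = Nat.card I := (Nat.card_coe_set_eq _).symm
    rw [h3] at h1
    exact h1
  -- `T0 ≤ |O|`
  have hOcard : (q ^ 2 - 1) * (q ^ 3 + 1) ≤ O.ncard := by
    by_cases hi0 : iso w₀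
    · have hOeq : O = {w | w ≠ 0 ∧ iso w} := by
        ext w
        simp only [hO, Set.mem_ofPred_eq]
        constructor
        · exact fun h => ⟨h.1, h.2.mpr hi0⟩
        · exact fun h => ⟨h.1, ⟨fun _ => hi0, fun _ => h.2⟩⟩
      rw [hOeq, ← hT0, ← Nat.card_coe_set_eq]
      rfl
    · -- the non-isotropic class
      have hOeq : O = {w | w ≠ 0 ∧ ¬ iso w} := by
        ext w
        simp only [hO, Set.mem_ofPred_eq]
        constructor
        · exact fun h => ⟨h.1, fun hw => hi0 (h.2.mp hw)⟩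
        · exact fun h => ⟨h.1, ⟨fun hw => absurd hw h.2, fun hw => absurd hw hi0⟩⟩
      have hunion : ({w : W | w ≠ 0 ∧ iso w} ∪ {w | w ≠ 0 ∧ ¬ iso w}) = {w : W | w ≠ 0} := by
        ext w
        simp only [Set.mem_union, Set.mem_ofPred_eq]
        constructor
        · rintro (h | h) <;> exact h.1
        · intro h
          by_cases hw : iso w
          · exact Or.inl ⟨h, hw⟩
          · exact Or.inr ⟨h, hw⟩
      have hdisj : Disjoint {w : W | w ≠ 0 ∧ iso w} {w | w ≠ 0 ∧ ¬ iso w} := by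
        rw [Set.disjoint_left]
        intro w h1 h2
        exact h2.2 h1.2
      have hsum := Set.ncard_union_eq hdisj (Set.toFinite _) (Set.toFinite _)
      rw [hunion] at hsum
      have hnz : ({w : W | w ≠ 0}).ncard = q ^ 6 - 1 := by
        have h1 : ({w : W | w ≠ 0}) = (Set.univ : Set W) \ {0} := by
          ext w; simp
        rw [h1, Set.ncard_sdiff_singleton_of_mem (Set.mem_univ _), Set.ncard_univ, hW]
      have hT0' : ({w : W | w ≠ 0 ∧ iso w}).ncard = (q ^ 2 - 1) * (q ^ 3 + 1) := by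
        rw [← hT0, ← Nat.card_coe_set_eq]
        rfl
      rw [hOeq]
      rw [hnz, hT0'] at hsum
      -- `T1 = q^6 - 1 - T0 ≥ T0`
      obtain ⟨m, hm⟩ : ∃ m, q ^ 2 = m + 1 := ⟨q ^ 2 - 1, by
        have : 1 ≤ q ^ 2 := Nat.one_le_pow _ _ (by omega)
        omega⟩
      have hm3 : 3 ≤ m := by nlinarith
      rw [hm] at hsum ⊢
      simp only [Nat.add_sub_cancel] at hsum ⊢
      have hq6 : q ^ 6 = q ^ 3 * q ^ 3 := by ring
      have hc : 2 * m + 2 ≤ q ^ 3 := by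
        have h1 : q ^ 3 = q * q ^ 2 := by ring
        rw [h1, hm]
        nlinarith
      have h1q6 : 1 ≤ q ^ 6 := Nat.one_le_pow _ _ (by omega)
      have key : 2 * (m * (q ^ 3 + 1)) + 1 ≤ q ^ 6 := by
        rw [hq6]
        have h2 := Nat.mul_le_mul_right (q ^ 3) hc
        nlinarith
      omega
  -- conclusion
  have hi2 : 2 ≤ Nat.card I := by
    have h1 : Nat.card I ≠ 1 := by
      intro h
      apply hI
      exact (AddSubgroup.card_eq_one.mp h)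
    have h2 : 0 < Nat.card I := Nat.card_pos
    omega
  have hcov' : (q ^ 2 - 1) * (q ^ 3 + 1) ≤ S.relIndex D.L * (Nat.card I - 1) :=
    le_trans hOcard (le_trans hcov (Nat.mul_le_mul_left _ hIO))
  rw [hW] at hIsq
  rw [← hsplit, ← mul_assoc] at horbit
  exact arith_I1 q (Nat.card Y) (Nat.card I) (S.relIndex D.L) orb _ hq hypos h2y hi2 hIsq rfl
    hcov' (by rw [← horbit]; ring)

end local_bounds

end Cfsg.Agent.Lib.Helper78_U5_LOCF0
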