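import Mathlib
import Cfsg.Agent.Lib.Helper50_UQAbsDefs

/-!
# U5-COVER (helper7, for helper85's U5 market, S2151-T5)

Generic covering count: the `[L:S]` translates of `I ∩ O` cover the `L`-orbit `O`.
-/

set_option autoImplicit false
set_option linter.unusedVariables false

open Cfsg.Agent.Lib.Helper50_UQAbsDefs

namespace Cfsg.Agent.Lib.Helper7_U5_COVER

/-- T5-COVER (S/M). -/
theorem cover {G : Type*} [Group G] [Finite G] {W : Type*} [Finite W]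
    (L S : Subgroup G) (hSL : S ≤ L) (ρ : G → W → W)
    (hρ1 : ∀ w, ρ 1 w = w) (hρmul : ∀ l ∈ L, ∀ l' ∈ L, ∀ w, ρ (l * l') w = ρ l (ρ l' w))
    (I O : Set W) (hSI : ∀ s ∈ S, ∀ w ∈ I, ρ s w ∈ I)
    (hLO : ∀ l ∈ L, ∀ w ∈ O, ρ l w ∈ O)
    (htr : ∀ w ∈ O, ∀ w' ∈ O, ∃ l ∈ L, ρ l w = w')
    (hne : (I ∩ O).Nonempty) :
    O.ncard ≤ S.relIndex L * (I ∩ O).ncard := by
  classical
  obtain ⟨i0, hi0I, hi0O⟩ := hne
  -- choice of `l_o ∈ L` with `ρ l_o i0 = o`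
  have hch : ∀ o : ↥O, ∃ l : ↥L, ρ (l : G) i0 = o.1 := by
    intro o
    obtain ⟨l, hl, h⟩ := htr i0 hi0O o.1 o.2
    exact ⟨⟨l, hl⟩, h⟩
  choose lo hlo using hch
  let c : ↥O → ↥L ⧸ S.subgroupOf L := fun o => QuotientGroup.mk (lo o)
  let r : ↥O → ↥L := fun o => Quotient.out (c o)
  have hr : ∀ o : ↥O, ((r o)⁻¹ * lo o : ↥L) ∈ S.subgroupOf L := by
    intro o
    rw [← QuotientGroup.eq]
    exact QuotientGroup.out_eq' (c o)
  have hinv : ∀ (l : ↥L) (w : W), ρ (l : G) (ρ ((l⁻¹ : ↥L) : G) w) = w := by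
    intro l w
    rw [← hρmul _ l.2 _ (l⁻¹).2]
    have : (l : G) * ((l⁻¹ : ↥L) : G) = 1 := by
      rw [← Subgroup.coe_mul, mul_inv_cancel, Subgroup.coe_one]
    rw [this, hρ1]
  have hj : ∀ o : ↥O, ρ (((r o)⁻¹ : ↥L) : G) o.1 ∈ I ∩ O := by
    intro o
    refine ⟨?_, hLO _ ((r o)⁻¹).2 _ o.2⟩
    have h1 : ρ (((r o)⁻¹ : ↥L) : G) o.1 = ρ ((((r o)⁻¹ * lo o : ↥L)) : G) i0 := by
      rw [Subgroup.coe_mul, hρmul _ ((r o)⁻¹).2 _ (lo o).2, hlo o]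
    rw [h1]
    exact hSI _ (Subgroup.mem_subgroupOf.mp (hr o)) _ hi0I
  let f : ↥O → (↥L ⧸ S.subgroupOf L) × ↥(I ∩ O) := fun o => (c o, ⟨_, hj o⟩)
  have hf : Function.Injective f := by
    intro o o' h
    have h1 : c o = c o' := congrArg Prod.fst h
    have h2 : ρ (((r o)⁻¹ : ↥L) : G) o.1 = ρ (((r o')⁻¹ : ↥L) : G) o'.1 :=
      congrArg (fun z => (z.2 : W)) h
    have hrr : r o = r o' := by
      show Quotient.out (c o) = Quotient.out (c o')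
      rw [h1]
    apply Subtype.ext
    calc o.1 = ρ ((r o : ↥L) : G) (ρ (((r o)⁻¹ : ↥L) : G) o.1) := (hinv _ _).symm
      _ = ρ ((r o' : ↥L) : G) (ρ (((r o')⁻¹ : ↥L) : G) o'.1) := by rw [h2, hrr]
      _ = o'.1 := hinv _ _
  have hcard := Nat.card_le_card_of_injective f hf
  have h1 : Nat.card ↥O = O.ncard := Nat.card_coe_set_eq O
  have h2 : Nat.card ↥(I ∩ O) = (I ∩ O).ncard := Nat.card_coe_set_eq _
  have h3 : Nat.card (↥L ⧸ S.subgroupOf L) = S.relIndex L := rfl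
  rw [Nat.card_prod, h1, h2, h3] at hcard
  exact hcard

end Cfsg.Agent.Lib.Helper7_U5_COVER
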