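import Mathlib
import Cfsg.Agent.Lib.Helper50_UQAbsDefs

/-!
# U5-REL (helper7, for helper85's U5 market, S2151-T5)

`[L:S] = [L:SK][K:S∩K]` for `K` normalised by `L`, `S ≤ L`.
-/

set_option autoImplicit false
set_option linter.unusedVariables false

open Cfsg.Agent.Lib.Helper50_UQAbsDefs

namespace Cfsg.Agent.Lib.Helper7_U5_REL

/-- `|H| * |K : H| = |K|` for `H ≤ K`. -/
theorem card_mul_relIndex {G : Type*} [Group G] {H K : Subgroup G} (hHK : H ≤ K) :
    Nat.card H * H.relIndex K = Nat.card K := by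
  have := Subgroup.relIndex_mul_relIndex (⊥ : Subgroup G) H K bot_le hHK
  rwa [Subgroup.relIndex_bot_left, Subgroup.relIndex_bot_left] at this

/-- `[SK:S] = [K:S∩K]` when `S` normalises `K` (inside `L`) -/
theorem relIndex_sup_eq {G : Type*} [Group G] [Finite G] (L K S : Subgroup G) (hK : K ≤ L)
    (hS : S ≤ L) (hn : ∀ l ∈ L, ∀ k ∈ K, l * k * l⁻¹ ∈ K) :
    S.relIndex (S ⊔ K) = (S ⊓ K).relIndex K := by
  have hSK : S ⊔ K ≤ L := sup_le hS hK
  have hnorm : (K.subgroupOf L).Normal := ⟨fun k hk l => by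
    rw [Subgroup.mem_subgroupOf] at hk ⊢
    exact hn l.1 l.2 k.1 hk⟩
  have h1 : (K.subgroupOf L).relIndex (S.subgroupOf L ⊔ K.subgroupOf L) =
      (K.subgroupOf L).relIndex (S.subgroupOf L) := Subgroup.relIndex_sup_right _ _
  rw [← Subgroup.subgroupOf_sup hS hK, Subgroup.relIndex_subgroupOf hSK,
    Subgroup.relIndex_subgroupOf hS] at h1
  have e1 : Nat.card K * K.relIndex (S ⊔ K) = Nat.card ↥(S ⊔ K) := card_mul_relIndex le_sup_right
  have e2 : Nat.card S * S.relIndex (S ⊔ K) = Nat.card ↥(S ⊔ K) := card_mul_relIndex le_sup_left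
  have e3 : Nat.card ↥(S ⊓ K) * (S ⊓ K).relIndex K = Nat.card K := card_mul_relIndex inf_le_right
  have e4 : Nat.card ↥(S ⊓ K) * (S ⊓ K).relIndex S = Nat.card S := card_mul_relIndex inf_le_left
  have e5 : (S ⊓ K).relIndex S = K.relIndex S := Subgroup.inf_relIndex_left S K
  rw [e5] at e4
  rw [h1] at e1
  have hpos : 0 < Nat.card S := Nat.card_pos
  have key : Nat.card S * S.relIndex (S ⊔ K) = Nat.card S * (S ⊓ K).relIndex K := by
    rw [e2, ← e1, ← e3, ← e4]
    ring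
  exact Nat.eq_of_mul_eq_mul_left hpos key

/-- T5-REL (S).  `[L:S] = [L:SK][K:S∩K]` for `K` normalised by `L`, `S ≤ L`. -/
theorem relIndex_split {G : Type*} [Group G] [Finite G] (L K S : Subgroup G) (hK : K ≤ L) (hS : S ≤ L)
    (hn : ∀ l ∈ L, ∀ k ∈ K, l * k * l⁻¹ ∈ K) :
    S.relIndex L = (S ⊔ K).relIndex L * (S ⊓ K).relIndex K := by
  rw [← relIndex_sup_eq L K S hK hS hn, mul_comm]
  exact (Subgroup.relIndex_mul_relIndex S (S ⊔ K) L le_sup_left (sup_le hS hK)).symm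

end Cfsg.Agent.Lib.Helper7_U5_REL
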