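/-
  S2151-T5 market (architect helper85), package U5-LOCF: STEP A3 (f), verbatim statement
  (`Helper78_U5_LOCF0.locF_aux` + U5-COVER + U5-REL + U5-RHO).
-/
import Mathlib
import Cfsg.Agent.Lib.Helper50_UQAbsDefs
import Cfsg.Agent.Lib.Helper78_U5_LOCF0
import Cfsg.Agent.Lib.Helper7_U5_COVER
import Cfsg.Agent.Lib.Helper7_U5_REL
import Cfsg.Agent.Lib.Helper89_U5_RHO

set_option autoImplicit false
set_option linter.unusedVariables false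
set_option linter.unusedSectionVars false

open Cfsg.Agent.Lib.Helper50_UQAbsDefs

namespace Cfsg.Agent.Lib.Helper78_U5_LOCF

section local_bounds

variable {G : Type*} [Group G] [Finite G] {W : Type*} [AddCommGroup W] [Finite W]
  {A : Type*} [AddCommGroup A] [Finite A]
  (D : UDat G W A) (hD : D.Ok) (q : ℕ) (hq : 2 ≤ q)
  (p k : ℕ) (hp : p.Prime) (hqp : q = p ^ k)
  (hA : Nat.card A = q) (hW : Nat.card W = q ^ 6)
  (iso : W → Prop) (hiso0 : iso 0)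
  (horb : ∀ w w' : W, w ≠ 0 → w' ≠ 0 → (iso w ↔ iso w') → ∃ l ∈ D.L, D.ρ l w = w')
  (hisoL : ∀ l ∈ D.L, ∀ w, iso (D.ρ l w) ↔ iso w)
  (hT0 : Nat.card {w : W // w ≠ 0 ∧ iso w} = (q ^ 2 - 1) * (q ^ 3 + 1))

include hD hq hp hqp hA hW hiso0 horb hisoL hT0

/-- T5-LOCF (M).  STEP A3 (f): `0 ≠ Y ≠ A` gives a `P`-orbit with more than `N_5 - q^7` points, and with at least
`N_5` points if `I = 0`. -/
theorem locF
    (htorus : ∀ (S : Subgroup G) (Y : AddSubgroup A), S ≤ D.L → Y ≠ ⊥ → Y ≠ ⊤ →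
        (∀ s ∈ S, ∀ a ∈ Y, D.ν s a ∈ Y) → Nat.card Y + 1 ≤ (S ⊔ D.K).relIndex D.L)
    (Y : AddSubgroup A) (I : AddSubgroup W) (S : Subgroup G) (hSL : S ≤ D.L)
    (hY0 : Y ≠ ⊥) (hY1 : Y ≠ ⊤)
    (hIsq : Nat.card I ^ 2 ≤ Nat.card W)
    (hSI : ∀ s ∈ S, ∀ w ∈ I, D.ρ s w ∈ I)
    (hSY : ∀ s ∈ S, ∀ a ∈ Y, D.ν s a ∈ Y)
    (orb : ℕ)
    (horbit : orb * (Nat.card Y * Nat.card I) =
      q ^ 7 * ((S ⊔ D.K).relIndex D.L * (S ⊓ D.K).relIndex D.K)) :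
    q ^ 5 + q ^ 2 + 1 ≤ orb ∧ (I = ⊥ → q ^ 7 + q ^ 5 + q ^ 2 + 1 ≤ orb) := by
  obtain ⟨hρ1, hρmul, -, -, -⟩ := Cfsg.Agent.Lib.Helper89_U5_RHO.rho_props D hD
  exact Cfsg.Agent.Lib.Helper78_U5_LOCF0.locF_aux D hD q hq p k hp hqp hA hW iso hiso0 horb hisoL hT0
    htorus Y I S hSL hY0 hY1 hIsq hSI hSY orb horbit
    (fun I' O hSI' hLO htr hne =>
      Cfsg.Agent.Lib.Helper7_U5_COVER.cover D.L S hSL D.ρ hρ1 hρmul I' O hSI' hLO htr hne)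
    (Cfsg.Agent.Lib.Helper7_U5_REL.relIndex_split D.L D.K S hD.K_le hSL hD.K_normal)

end local_bounds

end Cfsg.Agent.Lib.Helper78_U5_LOCF
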