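import Mathlib
import Cfsg.Agent.Lib.Helper50_UQAbsDefs
import Cfsg.Agent.Lib.Helper95_UQ_A1
import Cfsg.Agent.Lib.Helper25_UQ_A2
import Cfsg.Agent.Lib.Helper61_UQ_CARDQ
import Cfsg.Agent.Lib.Helper89_U5_RHO
import Cfsg.Agent.Lib.Helper71_U5_LOCE
import Cfsg.Agent.Lib.Helper78_U5_LOCF

set_option autoImplicit false
set_option linter.unusedVariables false

open Cfsg.Agent.Lib.Helper50_UQAbsDefs

namespace Cfsg.Agent.Lib.Helper85_U5_A3

open Cfsg.Agent.Lib.Helper89_U5_RHO (rho_props)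
open Cfsg.Agent.Lib.Helper71_U5_LOCE (locE)
open Cfsg.Agent.Lib.Helper78_U5_LOCF (locF)

section aux

variable {G : Type*} [Group G] {W : Type*} [AddCommGroup W] {A : Type*} [AddCommGroup A]
  (D : UDat G W A) (hD : D.Ok) {Ω : Type*} [MulAction G Ω]

include hD

theorem x_zero' : D.x 0 = 1 := by
  have h := hD.x_add 0 0
  rw [add_zero] at h
  exact (mul_eq_left.mp h.symm)

theorem x_central' (a : A) {g : G} (hg : g ∈ D.Q) : D.x a * g = g * D.x a := by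
  have h := hD.comm (D.x a) (hD.x_mem a) g hg
  have hb : D.β 0 (D.π g) = 0 := by
    have h2 := hD.β_add_left 0 0 (D.π g)
    rw [add_zero] at h2
    exact add_left_cancel (a := D.β 0 (D.π g)) (by rw [add_zero]; exact h2.symm)
  rw [hD.π_x, hb, x_zero' D hD, one_mul] at h
  exact h

/-- `R ω`: some nontrivial element of the root group fixes `ω`; invariant under `P = Q ⊔ L`. -/
theorem R_smul (hν : ∀ l ∈ D.L, ∀ a, D.ν l a = 0 → a = 0)
    {p : G} (hp : p ∈ D.Q ⊔ D.L) {ω : Ω}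
    (h : ∃ a : A, a ≠ 0 ∧ D.x a • ω = ω) : ∃ a : A, a ≠ 0 ∧ D.x a • (p • ω) = p • ω := by
  -- forward statements for generators
  have hQf : ∀ g ∈ D.Q, ∀ ω : Ω, (∃ a : A, a ≠ 0 ∧ D.x a • ω = ω) →
      ∃ a : A, a ≠ 0 ∧ D.x a • (g • ω) = g • ω := by
    intro g hg ω ⟨a, ha, hfix⟩
    refine ⟨a, ha, ?_⟩
    rw [← mul_smul, x_central' D hD a hg, mul_smul, hfix]
  have hLf : ∀ l ∈ D.L, ∀ ω : Ω, (∃ a : A, a ≠ 0 ∧ D.x a • ω = ω) →
      ∃ a : A, a ≠ 0 ∧ D.x a • (l • ω) = l • ω := by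
    intro l hl ω ⟨a, ha, hfix⟩
    refine ⟨D.ν l a, fun h0 => ha (hν l hl a h0), ?_⟩
    rw [← hD.L_conj_x l hl a, ← mul_smul, inv_mul_cancel_right, mul_smul, hfix]
  let T : Subgroup G :=
    { carrier := {p | ∀ ω : Ω, (∃ a : A, a ≠ 0 ∧ D.x a • ω = ω) ↔
        ∃ a : A, a ≠ 0 ∧ D.x a • (p • ω) = p • ω}
      mul_mem' := by
        intro x y hx hy ω
        rw [mul_smul]
        exact (hy ω).trans (hx (y • ω))
      one_mem' := by
        intro ω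
        rw [one_smul]
      inv_mem' := by
        intro x hx ω
        have := hx (x⁻¹ • ω)
        rw [smul_inv_smul] at this
        exact this.symm }
  have hQT : D.Q ≤ T := by
    intro g hg ω
    refine ⟨hQf g hg ω, fun h => ?_⟩
    have := hQf g⁻¹ (D.Q.inv_mem hg) (g • ω) h
    rwa [inv_smul_smul] at this
  have hLT : D.L ≤ T := by
    intro l hl ω
    refine ⟨hLf l hl ω, fun h => ?_⟩
    have := hLf l⁻¹ (D.L.inv_mem hl) (l • ω) h
    rwa [inv_smul_smul] at this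
  exact ((sup_le hQT hLT) hp ω).mp h

end aux

/-- T5-A3.  STEP A3 in the abstract datum: if `|Ω| < N_5` then `Q` is semiregular off `Fix(X)`. -/
theorem abstract_stepA3 {G : Type*} [Group G] [Finite G] {W : Type*} [AddCommGroup W] [Finite W]
    {A : Type*} [AddCommGroup A] [Finite A]
    {Ω : Type*} [MulAction G Ω] [Finite Ω]
    (D : UDat G W A) (hD : D.Ok) (q : ℕ) (hq : 2 ≤ q)
    (p k : ℕ) (hp : p.Prime) (hqp : q = p ^ k)
    (hA : Nat.card A = q) (hW : Nat.card W = q ^ 6)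
    (hΩ : Nat.card Ω < q ^ 7 + q ^ 5 + q ^ 2 + 1)
    (iso : W → Prop) (hiso0 : iso 0)
    (horb : ∀ w w' : W, w ≠ 0 → w' ≠ 0 → (iso w ↔ iso w') → ∃ l ∈ D.L, D.ρ l w = w')
    (hisoL : ∀ l ∈ D.L, ∀ w, iso (D.ρ l w) ↔ iso w)
    (hT0 : Nat.card {w : W // w ≠ 0 ∧ iso w} = (q ^ 2 - 1) * (q ^ 3 + 1))
    (hallIso : ∀ I : AddSubgroup W, (∀ w ∈ I, iso w) → Nat.card I ≤ q ^ 2)
    (hFq : ∀ I : AddSubgroup W, Nat.card I = q ^ 3 → (∀ w ∈ I, ∀ w' ∈ I, D.β w w' = 0) →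
      ∀ E : Subgroup G, E ≤ D.K → (∀ k ∈ E, ∀ w ∈ I, D.ρ k w ∈ I) → q ^ 3 + q + 1 ≤ E.relIndex D.K)
    (htorus : ∀ (S : Subgroup G) (Y : AddSubgroup A), S ≤ D.L → Y ≠ ⊥ → Y ≠ ⊤ →
        (∀ s ∈ S, ∀ a ∈ Y, D.ν s a ∈ Y) → Nat.card Y + 1 ≤ (S ⊔ D.K).relIndex D.L)
    {ι : Type*} (Xw : ι → Subgroup G) (hXwK : ∀ u, Xw u ≤ D.K)
    (htrick : ∀ I : AddSubgroup W, I ≠ ⊥ →
        (∀ u, ∃ t ∈ Xw u, t ≠ 1 ∧ ∀ w ∈ I, D.ρ t w ∈ I) → q ^ 3 < Nat.card I)
    (hallroots : (∀ ω : Ω, ∃ a : A, a ≠ 0 ∧ D.x a • ω = ω) →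
        ∀ (ω : Ω) (u : ι), ∃ t ∈ Xw u, t ≠ 1 ∧ t • ω = ω) :
    ∀ ω : Ω, (∃ a, D.x a • ω ≠ ω) → ∀ g ∈ D.Q, g • ω = ω → g = 1 := by
  classical
  obtain ⟨hρ1, hρmul, hρadd, hνadd, hνinj⟩ := rho_props D hD
  have hcQ : Nat.card D.Q = q ^ 7 := by
    rw [Cfsg.Agent.Lib.Helper61_UQ_CARDQ.cardQ D hD, hW, hA]
    ring
  -- the orbit of `P` through `ω` is at most `Ω`
  have horbΩ : ∀ ω : Ω, Nat.card (MulAction.orbit ↥(D.Q ⊔ D.L) ω) ≤ Nat.card Ω := fun ω =>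
    Nat.card_le_card_of_injective (fun x => (x : Ω)) Subtype.val_injective
  -- Claim E: `Y = ⊥` forces `Q_ω = 1`
  have claimE : ∀ ω : Ω, (∀ a, D.x a • ω = ω → a = 0) → ∀ g ∈ D.Q, g • ω = ω → g = 1 := by
    intro ω hY0 g hg hgω
    obtain ⟨Y, I, S, hY, hI, hS, hβ, hSI, hSY, hcount⟩ := Cfsg.Agent.Lib.Helper95_UQ_A1.A1 D hD ω
    have hYbot : Y = ⊥ := by
      rw [eq_bot_iff]
      intro a ha
      rw [AddSubgroup.mem_bot]
      exact hY0 a ((hY a).mp ha)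
    have hYtop : Y ≠ ⊤ := by
      rw [hYbot]
      intro h
      have : Nat.card (⊥ : AddSubgroup A) = Nat.card (⊤ : AddSubgroup A) := by rw [h]
      rw [AddSubgroup.card_bot, AddSubgroup.card_top, hA] at this
      omega
    have hSL : S ≤ D.L := fun l hl => ((hS l).mp hl).1
    by_cases hIbot : I = ⊥
    · have h1 : D.π g ∈ I := (hI _).mpr ⟨g, hg, hgω, rfl⟩
      rw [hIbot, AddSubgroup.mem_bot] at h1
      obtain ⟨a, rfl⟩ := hD.π_ker g hg h1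
      rw [hY0 a hgω, x_zero' D hD]
    · exfalso
      have hII : ∀ w ∈ I, ∀ w' ∈ I, D.β w w' = 0 := by
        intro w hw w' hw'
        have := hβ w hw w' hw'
        rw [hYbot, AddSubgroup.mem_bot] at this
        exact this
      have hIsq := Cfsg.Agent.Lib.Helper25_UQ_A2.A2 D.β hD.β_add_left hD.β_add_right hD.β_surj
        Y hYtop I hβ
      have hcY1 : Nat.card Y = 1 := by rw [hYbot, AddSubgroup.card_bot]
      rw [hcY1, one_mul, hcQ] at hcount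
      have := locE D hD q hq p k hp hqp hA hW iso hiso0 horb hisoL hT0 hallIso hFq I S hSL hIbot
        hII hIsq hSI _ hcount
      have := horbΩ ω
      omega
  -- main argument
  intro ω₀ hω₀ g₀ hg₀ hg₀ω
  by_contra hg₀1
  -- `Y₀ ≠ ⊥`
  have hR₀ : ∃ a : A, a ≠ 0 ∧ D.x a • ω₀ = ω₀ := by
    by_contra hcon
    push Not at hcon
    apply hg₀1
    apply claimE ω₀ _ g₀ hg₀ hg₀ω
    intro a ha
    by_contra ha0
    exact hcon a ha0 ha
  obtain ⟨Y, I, S, hY, hI, hS, hβ, hSI, hSY, hcount⟩ := Cfsg.Agent.Lib.Helper95_UQ_A1.A1 D hD ω₀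
  have hSL : S ≤ D.L := fun l hl => ((hS l).mp hl).1
  have hYbot : Y ≠ ⊥ := by
    obtain ⟨a, ha0, ha⟩ := hR₀
    intro h
    have : a ∈ Y := (hY a).mpr ha
    rw [h, AddSubgroup.mem_bot] at this
    exact ha0 this
  have hYtop : Y ≠ ⊤ := by
    obtain ⟨a, ha⟩ := hω₀
    intro h
    apply ha
    rw [← hY a, h]
    exact AddSubgroup.mem_top a
  have hIsq := Cfsg.Agent.Lib.Helper25_UQ_A2.A2 D.β hD.β_add_left hD.β_add_right hD.β_surj
    Y hYtop I hβ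
  rw [hcQ] at hcount
  obtain ⟨hF1, hF2⟩ := locF D hD q hq p k hp hqp hA hW iso hiso0 horb hisoL hT0 htorus Y I S hSL
    hYbot hYtop hIsq hSI hSY _ hcount
  have hIbot : I ≠ ⊥ := by
    intro h
    have := hF2 h
    have := horbΩ ω₀
    omega
  by_cases hex : ∃ ω₁ : Ω, ∀ a, D.x a • ω₁ = ω₁ → a = 0
  · -- a regular `Q`-orbit disjoint from the `P`-orbit of `ω₀`
    obtain ⟨ω₁, hω₁⟩ := hex
    have hfree : ∀ g ∈ D.Q, g • ω₁ = ω₁ → g = 1 := claimE ω₁ hω₁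
    -- the orbit of `Q` through `ω₁` has `q^7` points
    have hcard1 : (MulAction.orbit ↥D.Q ω₁).ncard = q ^ 7 := by
      have h2 : MulAction.stabilizer ↥D.Q ω₁ = ⊥ := by
        rw [eq_bot_iff]
        intro g hg
        rw [Subgroup.mem_bot]
        have hg' : (g : G) • ω₁ = ω₁ := hg
        exact Subtype.ext (hfree g g.2 hg')
      rw [← MulAction.index_stabilizer, h2, Subgroup.index_bot, hcQ]
    -- disjointness
    have hdisj : Disjoint (MulAction.orbit ↥(D.Q ⊔ D.L) ω₀) (MulAction.orbit ↥D.Q ω₁) := by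
      rw [Set.disjoint_left]
      rintro y ⟨⟨p', hp'⟩, rfl⟩ ⟨⟨g, hg⟩, hy⟩
      have hR : ∃ a : A, a ≠ 0 ∧ D.x a • (p' • ω₀) = p' • ω₀ := R_smul D hD hνinj hp' hR₀
      obtain ⟨a, ha0, ha⟩ := hR
      have hy' : p' • ω₀ = g • ω₁ := hy.symm
      rw [hy'] at ha
      apply ha0
      apply hω₁ a
      have hc := x_central' D hD a hg
      have : g • (D.x a • ω₁) = g • ω₁ := by
        rw [← mul_smul, ← hc, mul_smul, ha]
      exact smul_left_cancel g this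
    have hsum : (MulAction.orbit ↥(D.Q ⊔ D.L) ω₀).ncard + (MulAction.orbit ↥D.Q ω₁).ncard
        ≤ Nat.card Ω := by
      rw [← Set.ncard_union_eq hdisj (Set.toFinite _) (Set.toFinite _)]
      calc (MulAction.orbit ↥(D.Q ⊔ D.L) ω₀ ∪ MulAction.orbit ↥D.Q ω₁).ncard
          ≤ (Set.univ : Set Ω).ncard := Set.ncard_le_ncard (Set.subset_univ _) (Set.toFinite _)
        _ = Nat.card Ω := by rw [Set.ncard_univ]
    rw [← Nat.card_coe_set_eq] at hsum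
    omega
  · -- every point is fixed by a nontrivial root element
    push Not at hex
    have hall : ∀ ω : Ω, ∃ a : A, a ≠ 0 ∧ D.x a • ω = ω := by
      intro ω
      obtain ⟨a, ha, ha0⟩ := hex ω
      exact ⟨a, ha0, ha⟩
    have hroots := hallroots hall ω₀
    have hbig : q ^ 3 < Nat.card I := by
      apply htrick I hIbot
      intro u
      obtain ⟨t, ht, ht1, htω⟩ := hroots u
      refine ⟨t, ht, ht1, ?_⟩
      have htS : t ∈ S := by
        rw [hS t]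
        exact ⟨hD.K_le (hXwK u ht), 1, D.Q.one_mem, by rw [one_mul]; exact htω⟩
      exact hSI t htS
    rw [hW] at hIsq
    have : Nat.card I ≤ q ^ 3 := by
      have h6 : q ^ 6 = (q ^ 3) ^ 2 := by ring
      rw [h6] at hIsq
      exact (Nat.pow_le_pow_iff_left (by norm_num)).mp hIsq
    omega

end Cfsg.Agent.Lib.Helper85_U5_A3
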