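import Mathlib
import Cfsg.Agent.Lib.Helper27_UQDefs
import Cfsg.Agent.Lib.Helper41_U5_D3FQ1
import Cfsg.Agent.Lib.Helper46_U5_D3FQ4
import Cfsg.Agent.Lib.Helper12_U5_D3FQ5b

set_option autoImplicit false
set_option linter.unusedSectionVars false
set_option linter.unusedVariables false

open Module Cfsg.Agent.Lib.Helper94_Symp Cfsg.Agent.Lib.Helper94_Herm
  Cfsg.Agent.Lib.Helper94_HermEich Cfsg.Agent.Lib.Helper94_HermPara
  Cfsg.Agent.Lib.Helper94_HermTrans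
  Cfsg.Agent.Lib.Helper13_SUGen Cfsg.Agent.Lib.Helper13_PSUSimple
  Cfsg.Agent.Lib.Helper46_U3TI Cfsg.Agent.Lib.Helper14_PSULocal1
  Cfsg.Agent.Lib.Helper27_UQDefs

namespace Cfsg.Agent.Lib.Helper85_U5_D3FQ

open Cfsg.Agent.Lib.Helper41_U5_D3FQ1 (fq_closed)
open Cfsg.Agent.Lib.Helper46_U5_D3FQ4 (fq_case_line)
open Cfsg.Agent.Lib.Helper12_U5_D3FQ5b (fq_case_rat)

variable {F U : Type*} [Field F] [AddCommGroup U] [Module F U] {σ : F →+* F}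
variable {C : U →ₗ[F] U →ₛₗ[σ] F}

/-- **D3-FQ** (assembly).  STEP A3 (d): the `F_q`-form lemma. -/
theorem fq_form [Finite F] [FiniteDimensional F U] (hσ : Invol σ) (hC : IsHerm C)
    (hN : NondegOn C ⊤) {q : ℕ} (hq : 2 ≤ q) (hF : Nat.card F = q ^ 2) (h3 : finrank F U = 3)
    (I : AddSubgroup U) (hcard : Nat.card I = q ^ 3) (hI : ∀ x ∈ I, ∀ y ∈ I, σ (C x y) = C x y)
    (E : Subgroup (U ≃ₗ[F] U)) (hE : E ≤ SUg C) (hEI : ∀ g ∈ E, ∀ x ∈ I, g x ∈ I) :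
    q ^ 3 + q + 1 ≤ E.relIndex (SUg C) := by
  obtain ⟨-, hcl⟩ := fq_closed hσ hC hN hF h3 I hcard hI
  by_cases hline : ∃ a ∈ I, a ≠ 0 ∧ C a a = 0 ∧ ∃ μ : F, μ • a ∈ I ∧ σ μ ≠ μ
  · obtain ⟨a, ha, ha0, haa, μ, hμa, hμ⟩ := hline
    have hall : ∀ ν : F, ν • a ∈ I := by
      intro ν
      obtain ⟨r, s, hr, hs, rfl⟩ := decomp hσ hμ ν
      rw [add_smul, mul_smul]
      exact I.add_mem (hcl r hr a ha) (hcl s hs _ hμa)
    have h1 := fq_case_line hσ hC hN hq hF h3 I hcard hI hcl ha ha0 haa hall E hE hEI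
    have h2 : q ≤ q ^ 3 := by
      calc q = q ^ 1 := (pow_one q).symm
        _ ≤ q ^ 3 := Nat.pow_le_pow_right (by omega) (by norm_num)
    omega
  · push Not at hline
    apply fq_case_rat hσ hC hN hq hF h3 I hcard hI hcl _ E hE hEI
    intro a ha ha0 haa μ hμa
    exact hline a ha ha0 haa μ hμa

end Cfsg.Agent.Lib.Helper85_U5_D3FQ
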