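import Mathlib
import Cfsg.Agent.Lib.Helper27_UQDefs
import Cfsg.Agent.Lib.Helper94_HermWitt
import Cfsg.Agent.Lib.Helper94_HermIrr
import Cfsg.Agent.Lib.Helper27_UQ_KISO
import Cfsg.Agent.Lib.Helper27_UQ_TOR2
import Cfsg.Agent.Lib.Helper94_UQ_TORUS
import Cfsg.Agent.Lib.Helper27_UQ_CARD
import Cfsg.Agent.Lib.Helper32_U5_D3TRN

set_option autoImplicit false
set_option linter.unusedSectionVars false
set_option linter.unusedVariables false

/-!
# U5 market (helper85), package V5-LTR: under the twisted action `l.w = σ(λ) • l w` the Levi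
complement is transitive on the anisotropic vectors of `W`.

`Lv_trans_aniso_aux` takes the transitivity of `SU(W)` on vectors of a given norm (package D3-TRN
for the space `W`) as a hypothesis.
-/

open Module Cfsg.Agent.Lib.Helper94_Symp Cfsg.Agent.Lib.Helper94_Herm
  Cfsg.Agent.Lib.Helper94_HermEich Cfsg.Agent.Lib.Helper94_HermPara
  Cfsg.Agent.Lib.Helper94_HermTrans
  Cfsg.Agent.Lib.Helper13_SUGen Cfsg.Agent.Lib.Helper13_PSUSimple
  Cfsg.Agent.Lib.Helper46_U3TI Cfsg.Agent.Lib.Helper14_PSULocal1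
  Cfsg.Agent.Lib.Helper27_UQDefs Cfsg.Agent.Lib.Helper27_UQ_KISO

namespace Cfsg.Agent.Lib.Helper93_U5_V5LTR

variable {F V : Type*} [Field F] [AddCommGroup V] [Module F V] {σ : F →+* F}
variable {B : V →ₗ[F] V →ₛₗ[σ] F}

/-- **V5-LTR**, aux form (any dimension; transitivity of `SU(W)` on vectors of equal nonzero norm
as a hypothesis) -/
theorem Lv_trans_aniso_aux [Finite F] [FiniteDimensional F V] (hσ : Invol σ) (hB : IsHerm B)
    (hN : NondegOn B ⊤) {v v' : V} (h : HypPair B v v')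
    (htrn : ∀ {w₁ w₂ : ↥(Wsub B v v')}, Bw B (Wsub B v v') w₁ w₁ ≠ 0 →
      Bw B (Wsub B v v') w₁ w₁ = Bw B (Wsub B v v') w₂ w₂ →
      ∃ g ∈ SUg (Bw B (Wsub B v v')), g w₁ = w₂)
    {w w' : V}
    (hw : w ∈ Wsub B v v') (hw' : w' ∈ Wsub B v v') (hww : B w w ≠ 0) (hw'w' : B w' w' ≠ 0) :
    ∃ l ∈ Lv B v v', ∃ lam : F, l v = lam • v ∧ σ lam • l w = w' := by
  have hfix : ∀ x : V, σ (B x x) = B x x := fun x => (hB x x).symm
  set c : F := B w' w' / B w w with hc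
  have hcfix : σ c = c := by rw [hc, map_div₀, hfix, hfix]
  have hc0 : c ≠ 0 := div_ne_zero hw'w' hww
  obtain ⟨lam, hlam⟩ := norm_surj hσ c hcfix
  have hlam0 : lam ≠ 0 := by
    rintro rfl
    rw [zero_mul] at hlam
    exact hc0 hlam.symm
  obtain ⟨l₀, hl₀, hl₀v⟩ := Cfsg.Agent.Lib.Helper94_UQ_TORUS.exists_Lv hσ hB hN h hw hww hlam0
  have hl₀w : l₀ w ∈ Wsub B v v' := Cfsg.Agent.Lib.Helper27_UQ_TOR2.Lv_map_mem hσ hB h hl₀ hw
  have huW : σ lam • l₀ w ∈ Wsub B v v' := (Wsub B v v').smul_mem _ hl₀w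
  have hl₀U : l₀ ∈ uG B := (mem_SUg.1 (Lv_le B v v' hl₀)).1
  have hnorm : B (σ lam • l₀ w) (σ lam • l₀ w) = B w' w' := by
    have e1 : B (σ lam • l₀ w) (σ lam • l₀ w) = σ lam * (σ (σ lam) * B (l₀ w) (l₀ w)) := by
      rw [LinearMap.map_smul₂, LinearMap.map_smulₛₗ, smul_eq_mul, smul_eq_mul]
    rw [e1, hσ.invol, hl₀U w w]
    have : σ lam * (lam * B w w) = (lam * σ lam) * B w w := by ring
    rw [this, hlam, hc, div_mul_cancel₀ _ hww]
  obtain ⟨g₀, hg₀, hg₀u⟩ := htrn (w₁ := ⟨σ lam • l₀ w, huW⟩) (w₂ := ⟨w', hw'⟩)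
    (by rw [Bw_apply]; show B (σ lam • l₀ w) (σ lam • l₀ w) ≠ 0; rw [hnorm]; exact hw'w')
    (by rw [Bw_apply, Bw_apply]; exact hnorm)
  obtain ⟨e, he⟩ := exists_KvEquiv hB h
  set k : ↥(Kv B v v') := e.symm ⟨g₀, hg₀⟩ with hk
  have hkU : (k : V ≃ₗ[F] V) (σ lam • l₀ w) = w' := by
    have := he k ⟨σ lam • l₀ w, huW⟩
    rw [hk, MulEquiv.apply_symm_apply] at this
    rw [← hk] at this
    rw [← this]
    show ((g₀ ⟨σ lam • l₀ w, huW⟩ : ↥(Wsub B v v')) : V) = w'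
    rw [hg₀u]
  have hkv : (k : V ≃ₗ[F] V) v = v := k.2.2.1
  refine ⟨(k : V ≃ₗ[F] V) * l₀, (Lv B v v').mul_mem (Kv_le_Lv B v v' k.2) hl₀, lam, ?_, ?_⟩
  · rw [LinearEquiv.mul_apply, hl₀v, map_smul, hkv]
  · rw [LinearEquiv.mul_apply, ← map_smul]
    exact hkU

/-- **V5-LTR** (M).  (G1): under the TWISTED action `l.w = σ(λ) • l w` (`l v = λ v`) the Levi
complement is transitive on the anisotropic vectors of `W`. -/
theorem Lv_trans_aniso [Finite F] [FiniteDimensional F V] (hσ : Invol σ) (hB : IsHerm B)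
    (hN : NondegOn B ⊤) (h5 : finrank F V = 5) {v v' : V} (h : HypPair B v v') {w w' : V}
    (hw : w ∈ Wsub B v v') (hw' : w' ∈ Wsub B v v') (hww : B w w ≠ 0) (hw'w' : B w' w' ≠ 0) :
    ∃ l ∈ Lv B v v', ∃ lam : F, l v = lam • v ∧ σ lam • l w = w' := by
  have hW3 : finrank F ↥(Wsub B v v') = 3 := by
    have := Cfsg.Agent.Lib.Helper27_UQ_CARD.finrank_Wsub (B := B) h
    omega
  have hNW : NondegOn (Bw B (Wsub B v v')) ⊤ := by
    apply nondeg_Bw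
    rw [Wsub_eq_Wp]
    exact nondegOn_Wp hB hN h
  exact Lv_trans_aniso_aux hσ hB hN h
    (fun {w₁ w₂} h1 h2 => Cfsg.Agent.Lib.Helper32_U5_D3TRN.trans_norm hσ
      (isHerm_Bw hB (Wsub B v v')) hNW hW3 h1 h2)
    hw hw' hww hw'w'

end Cfsg.Agent.Lib.Helper93_U5_V5LTR
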