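import Mathlib
import Cfsg.Agent.Lib.Helper94_UQStep
import Cfsg.Agent.Lib.Helper9_S2151_CNT
import Cfsg.Agent.Lib.Helper91_S2151_PTS
import Cfsg.Agent.Lib.Helper79_S2151_DUAL
import Cfsg.Agent.Lib.Helper7_U5_HPOS
import Cfsg.Agent.Lib.Helper89_U5_RHO
import Cfsg.Agent.Lib.Helper85_U5_A3
import Cfsg.Agent.Lib.Helper85_U5_D3FQ
import Cfsg.Agent.Lib.Helper32_U5_D3CNT
import Cfsg.Agent.Lib.Helper32_U5_D3TRN
import Cfsg.Agent.Lib.Helper4_U5_D3ALLISO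
import Cfsg.Agent.Lib.Helper4_U5_D3TRICK
import Cfsg.Agent.Lib.Helper93_U5_V5LTR

set_option autoImplicit false
set_option linter.unusedSectionVars false
set_option linter.unusedVariables false

/-!
# S2151-T5 (helper85): the base case `T(5)` of S2151

Every proper subgroup of `SU_5(q)` (all `q ≥ 2`) has index at least
`N_5 = q^7 + q^5 + q^2 + 1`.  Geometric form: `(V, B)` nondegenerate hermitian of dimension 5 over a
field with `q^2` elements.  Paper proof: finding 187 (`pending/helper85/S2151_T5_proof.md`).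
-/

open Module Cfsg.Agent.Lib.Helper94_Symp Cfsg.Agent.Lib.Helper94_Herm
  Cfsg.Agent.Lib.Helper94_HermEich Cfsg.Agent.Lib.Helper94_HermPara
  Cfsg.Agent.Lib.Helper94_HermTrans
  Cfsg.Agent.Lib.Helper13_SUGen Cfsg.Agent.Lib.Helper13_PSUSimple
  Cfsg.Agent.Lib.Helper46_U3TI Cfsg.Agent.Lib.Helper14_PSULocal1
  Cfsg.Agent.Lib.Helper27_UQDefs Cfsg.Agent.Lib.Helper50_UQAbsDefs
  Cfsg.Agent.Lib.Helper94_UQInst Cfsg.Agent.Lib.Helper94_UQPts
  Cfsg.Agent.Lib.Helper27_UQ_KISO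

namespace Cfsg.Agent.Lib.Helper85_U5_Main

open Cfsg.Agent.Lib.Helper32_U5_D3CNT (card_iso)
open Cfsg.Agent.Lib.Helper4_U5_D3ALLISO (card_le_of_all_iso)
open Cfsg.Agent.Lib.Helper4_U5_D3TRICK (trick)
open Cfsg.Agent.Lib.Helper85_U5_D3FQ (fq_form)

variable {F V : Type*} [Field F] [AddCommGroup V] [Module F V] {σ : F →+* F}
variable {B : V →ₗ[F] V →ₛₗ[σ] F}

/-! ### generic lemmas -/

/-- `q ^ 2` a prime power forces `q` a prime power -/
theorem exists_prime_pow [Finite F] {q : ℕ} (hF : Nat.card F = q ^ 2) :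
    ∃ p k : ℕ, p.Prime ∧ q = p ^ k := by
  classical
  let _ : Fintype F := Fintype.ofFinite F
  obtain ⟨p, -, n, hp, hpn⟩ := FiniteField.card' F
  rw [← Nat.card_eq_fintype_card, hF] at hpn
  have hdvd : q ∣ p ^ (n : ℕ) := by
    rw [← hpn]
    exact Dvd.intro_left (q ^ 1) (by ring)
  obtain ⟨k, -, hk⟩ := (Nat.dvd_prime_pow hp).mp hdvd
  exact ⟨p, k, hp, hk⟩


/-! ### the Levi factor on `W` -/

section hyps

variable [Finite F] [FiniteDimensional F V] (hσ : Invol σ) (hB : IsHerm B) (hN : NondegOn B ⊤)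
  {q : ℕ} (hF : Nat.card F = q ^ 2) (h5 : finrank F V = 5) {v v' : V} (h : HypPair B v v')

include hB hN h in
theorem nondegOn_W : NondegOn B (Wsub B v v') := by
  rw [Wsub_eq_Wp]; exact nondegOn_Wp hB hN h

include hB hN h in
theorem nondeg_W : NondegOn (Bw B (Wsub B v v')) ⊤ := nondeg_Bw (nondegOn_W hB hN h)

include h5 h in
theorem finrank_W3 : finrank F ↥(Wsub B v v') = 3 :=
  Cfsg.Agent.Lib.Helper94_UQStep.finrank_W h (d := 3) h5

include hσ hB hN h5 h in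
/-- **V5-LTR** from helper93's aux form and D3-TRN -/
theorem Lv_trans_aniso5 {w w' : V}
    (hw : w ∈ Wsub B v v') (hw' : w' ∈ Wsub B v v') (hww : B w w ≠ 0) (hw'w' : B w' w' ≠ 0) :
    ∃ l ∈ Lv B v v', ∃ lam : F, l v = lam • v ∧ σ lam • l w = w' :=
  Cfsg.Agent.Lib.Helper93_U5_V5LTR.Lv_trans_aniso_aux hσ hB hN h
    (fun {w₁ w₂} h1 h2 => Cfsg.Agent.Lib.Helper32_U5_D3TRN.trans_norm hσ (isHerm_Bw hB _)
      (nondeg_W hB hN h) (finrank_W3 h5 h) h1 h2) hw hw' hww hw'w'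

include hN h5 in
/-- `horb`: two orbits of `L` on `W - 0` under the twisted action -/
theorem horb_udat (w w' : ↥(Wsub B v v')) (hw : w ≠ 0) (hw' : w' ≠ 0)
    (hiff : Bw B (Wsub B v v') w w = 0 ↔ Bw B (Wsub B v v') w' w' = 0) :
    ∃ l ∈ (udat hσ hB h).L, (udat hσ hB h).ρ l w = w' := by
  have hWN : NondegOn B (Wsub B v v') := nondegOn_W hB hN h
  have h3 := finrank_W3 h5 h
  have hw0 : (w : V) ≠ 0 := fun h0 => hw (Subtype.ext h0)
  have hw'0 : (w' : V) ≠ 0 := fun h0 => hw' (Subtype.ext h0)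
  by_cases hww : B (w : V) (w : V) = 0
  · have hw'w' : B (w' : V) (w' : V) = 0 := hiff.mp hww
    obtain ⟨t, ht, htw⟩ := Cfsg.Agent.Lib.Helper94_HermWitt.exists_tv_iso hσ hB hWN (by omega)
      w.2 w'.2 hw0 hw'0 hww hw'w'
    have htK : t ∈ Kv B v v' := tvGroup_le_Kv hB h ht
    refine ⟨⟨t, Kv_le B v v' htK⟩, (mem_L hσ hB h).mpr (Kv_le_Lv B v v' htK), ?_⟩
    apply Subtype.ext
    rw [Cfsg.Agent.Lib.Helper27_UQ_HYP.ρ_of_mem_K hσ hB h htK]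
    exact htw
  · have hw'w' : B (w' : V) (w' : V) ≠ 0 := fun h0 => hww (hiff.mpr h0)
    obtain ⟨l, hl, lam, hlv, hlw⟩ := Lv_trans_aniso5 hσ hB hN h5 h w.2 w'.2 hww hw'w'
    refine ⟨⟨l, Lv_le B v v' hl⟩, (mem_L hσ hB h).mpr hl, ?_⟩
    apply Subtype.ext
    rw [ρ_of_mem hσ hB h hl hlv]
    exact hlw

/-- `hisoL`: the twisted action of `L` preserves isotropy -/
theorem hisoL_udat (l : ↥(SUg B)) (hl : l ∈ (udat hσ hB h).L) (w : ↥(Wsub B v v')) :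
    Bw B (Wsub B v v') ((udat hσ hB h).ρ l w) ((udat hσ hB h).ρ l w) = 0 ↔
      Bw B (Wsub B v v') w w = 0 := by
  have hl' := (mem_L hσ hB h).mp hl
  obtain ⟨hl1, ⟨c, hc0, hc⟩, -⟩ := (mem_Lv B).1 hl'
  have hU : (l : V ≃ₗ[F] V) ∈ uG B := (mem_SUg.mp hl1).1
  rw [Bw_apply, Bw_apply, ρ_of_mem hσ hB h hl' hc, self_smul, hU]
  have hs : σ c ≠ 0 := fun h0 => hc0 ((map_eq_zero σ).mp h0)
  have hs2 : σ (σ c) ≠ 0 := fun h0 => hs ((map_eq_zero σ).mp h0)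
  constructor
  · intro h0
    rcases mul_eq_zero.mp h0 with h1 | h1
    · exact absurd h1 (mul_ne_zero hs hs2)
    · exact h1
  · intro h0
    rw [h0, mul_zero]


/-- the isomorphism `K ≃* SU(W)` with its compatibility with `ρ` -/
theorem exists_KEquiv :
    ∃ f : ↥(udat hσ hB h).K ≃* ↥(SUg (Bw B (Wsub B v v'))),
      ∀ (k : ↥(udat hσ hB h).K) (w : ↥(Wsub B v v')),
        ((f k : ↥(SUg (Bw B (Wsub B v v')))) : ↥(Wsub B v v') ≃ₗ[F] ↥(Wsub B v v')) w =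
          (udat hσ hB h).ρ (k : ↥(SUg B)) w := by
  obtain ⟨e, he⟩ := exists_KvEquiv hB h
  have e0 : ↥(udat hσ hB h).K ≃* ↥(Kv B v v') := Subgroup.subgroupOfEquivOfLe (Kv_le B v v')
  refine ⟨(Subgroup.subgroupOfEquivOfLe (Kv_le B v v')).trans e, ?_⟩
  intro k w
  apply Subtype.ext
  have hk : ((k : ↥(SUg B)) : V ≃ₗ[F] V) ∈ Kv B v v' := (mem_K hσ hB h).mp k.2
  rw [Cfsg.Agent.Lib.Helper27_UQ_HYP.ρ_of_mem_K hσ hB h hk]
  exact he _ w

include hN hF h5 in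
/-- `hFq`: the `F_q`-form lemma transported to `K` -/
theorem hFq_udat (hq : 2 ≤ q) (I : AddSubgroup ↥(Wsub B v v')) (hcard : Nat.card I = q ^ 3)
    (hβ : ∀ w ∈ I, ∀ w' ∈ I, (udat hσ hB h).β w w' = 0)
    (E : Subgroup ↥(SUg B)) (hE : E ≤ (udat hσ hB h).K)
    (hEI : ∀ k ∈ E, ∀ w ∈ I, (udat hσ hB h).ρ k w ∈ I) :
    q ^ 3 + q + 1 ≤ E.relIndex (udat hσ hB h).K := by
  set C := Bw B (Wsub B v v') with hCdef
  obtain ⟨f, hf⟩ := exists_KEquiv hσ hB h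
  have hC : IsHerm C := isHerm_Bw hB _
  have hNC : NondegOn C ⊤ := nondeg_W hB hN h
  have h3 := finrank_W3 h5 h
  have hI : ∀ x ∈ I, ∀ y ∈ I, σ (C x y) = C x y := by
    intro x hx y hy
    have h0 := hβ x hx y hy
    have h1 : B (x : V) (y : V) - B (y : V) (x : V) = 0 := by
      have := congrArg (fun a : ↥(skewA σ) => (a : F)) h0
      simpa [β_coe] using this
    rw [hCdef, Bw_apply, ← hB (x : V) (y : V)]
    exact (sub_eq_zero.mp h1).symm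
  set X : Subgroup ↥(SUg C) := (E.subgroupOf (udat hσ hB h).K).map f.toMonoidHom with hX
  set E' : Subgroup (↥(Wsub B v v') ≃ₗ[F] ↥(Wsub B v v')) := X.map (SUg C).subtype with hE'
  have hE'le : E' ≤ SUg C := Subgroup.map_subtype_le X
  have hE'I : ∀ g ∈ E', ∀ x ∈ I, g x ∈ I := by
    rintro _ ⟨y, hy, rfl⟩ x hx
    obtain ⟨k, hk, rfl⟩ := hy
    have : ((f k : ↥(SUg C)) : ↥(Wsub B v v') ≃ₗ[F] ↥(Wsub B v v')) x =
        (udat hσ hB h).ρ (k : ↥(SUg B)) x := hf k x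
    show ((f k : ↥(SUg C)) : ↥(Wsub B v v') ≃ₗ[F] ↥(Wsub B v v')) x ∈ I
    rw [this]
    exact hEI _ (Subgroup.mem_subgroupOf.mp hk) x hx
  have key := fq_form hσ hC hNC hq hF h3 I hcard hI E' hE'le hE'I
  have hrel : E'.relIndex (SUg C) = E.relIndex (udat hσ hB h).K := by
    show (E'.subgroupOf (SUg C)).index = (E.subgroupOf (udat hσ hB h).K).index
    have h1 : E'.subgroupOf (SUg C) = X :=
      Subgroup.comap_map_eq_self_of_injective (SUg C).subtype_injective X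
    rw [h1, hX]
    exact Subgroup.index_map_equiv _ f
  rw [← hrel]
  exact key


/-- the point of a nonzero isotropic vector of `W` -/
def ptW (B : V →ₗ[F] V →ₛₗ[σ] F) (v v' : V)
    (u : {u : ↥(Wsub B v v') // u ≠ 0 ∧ Bw B (Wsub B v v') u u = 0}) : IsoPt B :=
  mkPt (B := B) (a := ((u : ↥(Wsub B v v')) : V)) (fun h0 => u.2.1 (Subtype.ext h0))
    (show B ((u : ↥(Wsub B v v')) : V) ((u : ↥(Wsub B v v')) : V) = 0 from u.2.2)

include hσ in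
theorem mem_Xs_ptW (u : {u : ↥(Wsub B v v') // u ≠ 0 ∧ Bw B (Wsub B v v') u u = 0})
    {g : ↥(SUg B)} :
    g ∈ Xs B (ptW B v v' u) ↔ (g : V ≃ₗ[F] V) ∈ Xv B ((u : ↥(Wsub B v v')) : V) :=
  mem_Xs_mkPt hσ _ _

/-- `hXwK` -/
theorem hXwK_udat (u : {u : ↥(Wsub B v v') // u ≠ 0 ∧ Bw B (Wsub B v v') u u = 0}) :
    Xs B (ptW B v v' u) ≤ (udat hσ hB h).K := by
  intro g hg
  rw [mem_Xs_ptW hσ] at hg
  rw [mem_K]
  exact Cfsg.Agent.Lib.Helper27_UQ_GEO3.Xv_le_Kv hB h (u : ↥(Wsub B v v')).2 hg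

include hN hF h5 in
/-- `htrick` -/
theorem htrick_udat (I : AddSubgroup ↥(Wsub B v v')) (hI0 : I ≠ ⊥)
    (hall : ∀ u : {u : ↥(Wsub B v v') // u ≠ 0 ∧ Bw B (Wsub B v v') u u = 0},
      ∃ t ∈ Xs B (ptW B v v' u), t ≠ 1 ∧ ∀ w ∈ I, (udat hσ hB h).ρ t w ∈ I) :
    q ^ 3 < Nat.card I := by
  have hC : IsHerm (Bw B (Wsub B v v')) := isHerm_Bw hB _
  have hNC : NondegOn (Bw B (Wsub B v v')) ⊤ := nondeg_W hB hN h
  have h3 := finrank_W3 h5 h
  apply trick hσ hC hNC hF h3 I hI0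
  intro u hu0 huu
  obtain ⟨t, ht, ht1, htI⟩ := hall ⟨u, hu0, huu⟩
  rw [mem_Xs_ptW hσ] at ht
  obtain ⟨c, hc, htc⟩ := ht
  have huu' : B (u : V) (u : V) = 0 := huu
  refine ⟨c, ?_, hc, ?_⟩
  · rintro rfl
    apply ht1
    apply Subtype.ext
    rw [htc, utv_zero_right]
    rfl
  · intro x hx
    have htK : ((t : ↥(SUg B)) : V ≃ₗ[F] V) ∈ Kv B v v' :=
      Cfsg.Agent.Lib.Helper27_UQ_GEO3.Xv_le_Kv hB h u.2 ⟨c, hc, htc⟩
    have h1 := htI x hx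
    have h2 : (((udat hσ hB h).ρ t x : ↥(Wsub B v v')) : V) = (t : V ≃ₗ[F] V) (x : V) :=
      Cfsg.Agent.Lib.Helper27_UQ_HYP.ρ_of_mem_K hσ hB h htK x
    have h4 : utv (Bw B (Wsub B v v')) u c x = (udat hσ hB h).ρ t x := by
      apply Subtype.ext
      rw [h2, htc, utv_apply B huu', utv_apply (Bw B (Wsub B v v')) huu]
      simp [Bw_apply]
    rw [h4]
    exact h1

include hN h5 in
/-- `hallroots` -/
theorem hallroots_udat {Ω : Type*} [MulAction ↥(SUg B) Ω]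
    (hall : ∀ ω : Ω, ∃ a : ↥(skewA σ), a ≠ 0 ∧ (udat hσ hB h).x a • ω = ω) (ω : Ω)
    (u : {u : ↥(Wsub B v v') // u ≠ 0 ∧ Bw B (Wsub B v v') u u = 0}) :
    ∃ t ∈ Xs B (ptW B v v' u), t ≠ 1 ∧ t • ω = ω := by
  haveI : MulAction.IsPretransitive ↥(SUg B) (IsoPt B) :=
    Cfsg.Agent.Lib.Helper13_PSUSimple.isPretransitive hσ hB hN (by omega)
  have hD := udat_ok hσ hB hN h
  have hv0 : v ≠ 0 := (hypPair_ne_zero h).1
  obtain ⟨g, hg⟩ := MulAction.exists_smul_eq ↥(SUg B) (mkPt hv0 h.ee) (ptW B v v' u)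
  obtain ⟨a, ha0, ha⟩ := hall (g⁻¹ • ω)
  refine ⟨g * (udat hσ hB h).x a * g⁻¹, ?_, ?_, ?_⟩
  · rw [← hg]
    exact Xs_conj hσ g _ _ ((mem_Xs_mkPt_iff hσ hB h hv0 _).mpr ⟨a, rfl⟩)
  · intro h1
    apply ha0
    have h2 : (udat hσ hB h).x a = 1 := by
      have := congrArg (fun t => g⁻¹ * t * g) h1
      simpa [mul_assoc] using this
    apply Cfsg.Agent.Lib.Helper89_U5_RHO.x_injective _ hD
    rw [h2, Cfsg.Agent.Lib.Helper89_U5_RHO.x_zero _ hD]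
  · rw [mul_smul, mul_smul, ha, smul_inv_smul]


include hN hF h5 in
/-- **STEP A3 for `udat`**: `Q` is semiregular off the fixed points of the root group. -/
theorem hreg_udat {Ω : Type*} [MulAction ↥(SUg B) Ω] [Finite Ω]
    (hΩ : Nat.card Ω < q ^ 7 + q ^ 5 + q ^ 2 + 1) :
    ∀ ω : Ω, (∃ a, (udat hσ hB h).x a • ω ≠ ω) →
      ∀ g ∈ (udat hσ hB h).Q, g • ω = ω → g = 1 := by
  haveI : Finite V := Module.finite_of_finite F
  haveI : Finite ↥(SUg B) := Cfsg.Agent.Lib.Helper94_UQStep.finite_SUg B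
  have hq : 2 ≤ q := Cfsg.Agent.Lib.Helper94_UQStep.two_le_q hF
  obtain ⟨p, k, hp, hqp⟩ := exists_prime_pow hF
  have hC : IsHerm (Bw B (Wsub B v v')) := isHerm_Bw hB _
  have hNC : NondegOn (Bw B (Wsub B v v')) ⊤ := nondeg_W hB hN h
  have h3 := finrank_W3 h5 h
  have hW : Nat.card ↥(Wsub B v v') = q ^ 6 :=
    Cfsg.Agent.Lib.Helper94_UQStep.card_W hF h (d := 3) h5
  exact Cfsg.Agent.Lib.Helper85_U5_A3.abstract_stepA3 (udat hσ hB h) (udat_ok hσ hB hN h) q hq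
    p k hp hqp (Cfsg.Agent.Lib.Helper94_UQStep.card_skewA hσ hF) hW hΩ
    (fun w => Bw B (Wsub B v v') w w = 0) (by simp)
    (horb_udat hσ hB hN h5 h) (hisoL_udat hσ hB h)
    (card_iso hσ hC hNC hF h3)
    (fun I hI => card_le_of_all_iso hσ hC hNC hF h3 I hI)
    (hFq_udat hσ hB hN hF h5 h hq)
    (Cfsg.Agent.Lib.Helper27_UQ_HYP.htorus_udat hσ hB hN hF h (by omega))
    (fun u => Xs B (ptW B v v' u)) (hXwK_udat hσ hB h)
    (htrick_udat hσ hB hN hF h5 h)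
    (hallroots_udat hσ hB hN h5 h)

end hyps

end Cfsg.Agent.Lib.Helper85_U5_Main
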