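import Mathlib
import Cfsg.Agent.Lib.Helper68_T5_Final
import Cfsg.Agent.Lib.Helper85_U5_Main
import Cfsg.Agent.Lib.Helper46_U5_V5FIXS

/-!
# S2151, base `T(5)` (helper85's market; assembly helper68)

Every proper subgroup of `SU_5(q)` has index at least `N_5 = q^7+q^5+q^2+1`, all `q ≥ 2`.
-/

set_option autoImplicit false
set_option linter.unusedSectionVars false
set_option linter.unusedVariables false

open Module Cfsg.Agent.Lib.Helper94_Symp Cfsg.Agent.Lib.Helper94_Herm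
  Cfsg.Agent.Lib.Helper13_SUGen Cfsg.Agent.Lib.Helper13_PSUSimple
  Cfsg.Agent.Lib.Helper14_PSULocal1
  Cfsg.Agent.Lib.Helper27_UQDefs Cfsg.Agent.Lib.Helper50_UQAbsDefs
  Cfsg.Agent.Lib.Helper94_UQInst Cfsg.Agent.Lib.Helper94_UQPts
  Cfsg.Agent.Lib.Helper94_UQStep Cfsg.Agent.Lib.Helper68_S2151_NUM
  Cfsg.Agent.Lib.Helper68_S2151_NUM5

namespace Cfsg.Agent.Lib.Helper68_T5

universe u

variable {F : Type*} [Field F] {σ : F →+* F}

/-- **T(5)**. -/
theorem T5 [Finite F] (hσ : Invol σ) {q : ℕ} (hF : Nat.card F = q ^ 2)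
    {V : Type u} [AddCommGroup V] [Module F V] [FiniteDimensional F V]
    (B : V →ₗ[F] V →ₛₗ[σ] F) (hB : IsHerm B) (hN : NondegOn B ⊤) (h5 : finrank F V = 5) :
    ∀ H : Subgroup ↥(SUg B), H ≠ ⊤ → q ^ 7 + q ^ 5 + q ^ 2 + 1 ≤ H.index := by
  have hfinV : Finite V := Module.finite_of_finite F
  have hfinG : Finite ↥(SUg B) := finite_SUg B
  exact Cfsg.Agent.Lib.Helper68_T5_Final.T5_of B hσ hB hN hF h5
    (fun h => Cfsg.Agent.Lib.Helper46_U5_V5FIXS.exists_fix_elt hσ hB hN (two_le_q hF) hF h5 h)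
    (fun H _ hlt {v v'} h => Cfsg.Agent.Lib.Helper85_U5_Main.hreg_udat hσ hB hN hF h5 h hlt)

/-- **T(5)** in the form `Nodd q 5`. -/
theorem T5' [Finite F] (hσ : Invol σ) {q : ℕ} (hF : Nat.card F = q ^ 2)
    {V : Type u} [AddCommGroup V] [Module F V] [FiniteDimensional F V]
    (B : V →ₗ[F] V →ₛₗ[σ] F) (hB : IsHerm B) (hN : NondegOn B ⊤) (h5 : finrank F V = 5) :
    ∀ H : Subgroup ↥(SUg B), H ≠ ⊤ → Nodd q 5 ≤ H.index := by
  rw [Nodd_five q (two_le_q hF)]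
  exact T5 hσ hF B hB hN h5

end Cfsg.Agent.Lib.Helper68_T5
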