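import Mathlib
import Cfsg.Agent.Lib.Helper33_DCDefs
import Cfsg.Agent.Lib.Helper84_TutteW_Main
import Cfsg.Agent.Lib.Helper5_Tutte_SINT
import Cfsg.Prelude.Def_Solvable

/-!
# dc package DC-K (helper69, for helper33's THEOREM DC market, row S2858)

`K_eq`: in a `DCSys`, `X[1,s-2] = Q0`.  No finiteness of the ambient group.
-/

set_option autoImplicit false
set_option linter.unusedSectionVars false
set_option linter.unusedVariables false

namespace Cfsg.Agent.Lib.Helper69_DC_K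

open scoped commutatorElement
open Cfsg.Agent.Lib.Helper84_TutteDefs Cfsg.Agent.Lib.Helper33_DCDefs

variable {G : Type*} [Group G] {H P Q0 : Subgroup G} {δ ρ g x0 : G} {s lam : ℕ}

/-- an element of the normalizer fixes the subgroup under `cj` -/
theorem h69_cj_eq_of_mem_normalizer {u : G} {K : Subgroup G}
    (hu : u ∈ Subgroup.normalizer (K : Set G)) : cj u K = K := by
  rw [Subgroup.mem_normalizer_iff] at hu
  ext y
  rw [mem_cj]
  have h1 := hu (u⁻¹ * y * u)
  have e : u * (u⁻¹ * y * u) * u⁻¹ = y := by group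
  rw [e] at h1
  exact h1

/-- if conjugation by `y` and by `y⁻¹` map `K` into itself, `y` normalizes `K` -/
theorem h69_mem_normalizer_of_conj {y : G} {K : Subgroup G}
    (h1 : ∀ c ∈ K, y * c * y⁻¹ ∈ K) (h2 : ∀ c ∈ K, y⁻¹ * c * y⁻¹⁻¹ ∈ K) :
    y ∈ Subgroup.normalizer (K : Set G) := by
  rw [Subgroup.mem_normalizer_iff]
  intro c
  constructor
  · exact h1 c
  · intro hc
    have := h2 _ hc
    have e : y⁻¹ * (y * c * y⁻¹) * y⁻¹⁻¹ = c := by group
    rwa [e] at this

/-- general form of DC-K -/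
theorem K_eq_aux (h : TSys' H g x0 s) (hD : DCHyp H P Q0 δ)
    (hXP : XX g x0 0 ((s : ℤ) - 2) = P) : XX g x0 1 ((s : ℤ) - 2) = Q0 := by
  obtain ⟨m, rfl⟩ : ∃ m, s = m + 2 := ⟨s - 2, by have := h.two_le; omega⟩
  have e2 : ((m + 2 : ℕ) : ℤ) - 2 = m := by push_cast; ring
  have e1 : ((m + 2 : ℕ) : ℤ) - 1 = m + 1 := by push_cast; ring
  rw [e2] at hXP ⊢
  have htop := h.top
  rw [e1] at htop
  -- `K` is normalised by `P = X[0,m]`
  have hN1 : XX g x0 0 (m : ℤ) ≤ Subgroup.normalizer ((XX g x0 1 (m : ℤ) : Subgroup G) : Set G) := by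
    intro y hy
    have hy' : y⁻¹ ∈ XX g x0 0 (m : ℤ) := Subgroup.inv_mem _ hy
    apply h69_mem_normalizer_of_conj
    · intro c hc
      have := h.conj_mem_left (i := 0) (j := (m : ℤ)) (by omega) (by push_cast; omega) hy
        (c := c) (by rw [zero_add]; exact hc)
      rwa [zero_add] at this
    · intro c hc
      have := h.conj_mem_left (i := 0) (j := (m : ℤ)) (by omega) (by push_cast; omega) hy'
        (c := c) (by rw [zero_add]; exact hc)
      rwa [zero_add] at this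
  -- `K` is normalised by `x_(m+1)`
  have hN2 : Subgroup.zpowers (xs g x0 ((m : ℤ) + 1)) ≤
      Subgroup.normalizer ((XX g x0 1 (m : ℤ) : Subgroup G) : Set G) := by
    rw [Subgroup.zpowers_le]
    have hy : xs g x0 ((m : ℤ) + 1) ∈ XX g x0 1 ((m : ℤ) + 1) := xs_mem_XX (by omega) le_rfl
    have hy' : (xs g x0 ((m : ℤ) + 1))⁻¹ ∈ XX g x0 1 ((m : ℤ) + 1) := Subgroup.inv_mem _ hy
    have e : (m : ℤ) + 1 - 1 = m := by ring
    apply h69_mem_normalizer_of_conj
    · intro c hc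
      have := h.conj_mem_right (i := 1) (j := (m : ℤ) + 1) (by omega) (by push_cast; omega) hy
        (c := c) (by rw [e]; exact hc)
      rwa [e] at this
    · intro c hc
      have := h.conj_mem_right (i := 1) (j := (m : ℤ) + 1) (by omega) (by push_cast; omega) hy'
        (c := c) (by rw [e]; exact hc)
      rwa [e] at this
  have hHN : H ≤ Subgroup.normalizer ((XX g x0 1 (m : ℤ) : Subgroup G) : Set G) := by
    rw [← htop, XX_succ_right (by omega : (0 : ℤ) ≤ (m : ℤ) + 1)]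
    exact sup_le hN1 hN2
  have hKn : ∀ u ∈ H, cj u (XX g x0 1 (m : ℤ)) = XX g x0 1 (m : ℤ) := fun u hu =>
    h69_cj_eq_of_mem_normalizer (hHN hu)
  -- indices
  have hKP : XX g x0 1 (m : ℤ) ≤ P := by
    rw [← hXP]; exact XX_mono (by omega) le_rfl
  have hK2 : (XX g x0 1 (m : ℤ)).relIndex P = 2 := by
    have := h.relIndex_left (i := 0) (j := (m : ℤ)) (by omega) (by push_cast; omega)
    rwa [zero_add, hXP] at this
  by_contra hne
  by_cases hle : XX g x0 1 (m : ℤ) ≤ Q0
  · by_cases hle' : Q0 ≤ XX g x0 1 (m : ℤ)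
    · exact hne (le_antisymm hle hle')
    · have hQP := Cfsg.Agent.Lib.Helper5_Tutte_SINT.eq_of_relIndex_two hle hD.QP hK2 hle'
      have h2 := hD.idxQ
      rw [hQP, Subgroup.relIndex_self] at h2
      omega
  · have hsup : Q0 ⊔ XX g x0 1 (m : ℤ) = P :=
      Cfsg.Agent.Lib.Helper5_Tutte_SINT.eq_of_relIndex_two le_sup_left (sup_le hD.QP hKP) hD.idxQ
        (fun hh => hle (le_sup_right.trans hh))
    obtain ⟨u, hu, hPu⟩ := hD.Pnn
    apply hPu
    rw [← hsup, cj_sup, hD.Qn u hu, hKn u hu]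

/-- **DC-K** [M] -/
theorem K_eq (hS : DCSys H P Q0 δ ρ x0 s) : XX (δ * ρ) x0 1 ((s : ℤ) - 2) = Q0 :=
  K_eq_aux hS.sys hS.hyp hS.XP

end Cfsg.Agent.Lib.Helper69_DC_K
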