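import Mathlib
import Cfsg.Prelude.Def_Characters
import Cfsg.Agent.Lib.Helper76_HIDefs
import Cfsg.Agent.Lib.Helper39_CharTools
import Cfsg.Agent.Lib.Helper75_CharArith
import Cfsg.Agent.Lib.Helper3_CharOrtho
import Cfsg.Agent.Lib.Helper3_CharBridge

/-!
# hi package A1 (helper69, for helper76's S4563 / S4564 market)

`constituent_over`: a constituent `η` of `χ_Q` restricts to a multiple of `θ` on `Z`.
-/

set_option autoImplicit false
open scoped ComplexConjugate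

namespace Cfsg.Agent.Lib.Helper69_HI_A1

open Cfsg Cfsg.Agent.Lib.Helper76_HIDefs

section fin
variable {H : Type*} [Group H] [Finite H]

/-! ### A1: a constituent of `χ_Q` restricts to a multiple of `θ` -/
theorem constituent_over {Z K : Subgroup H} {χ : H → ℂ} {θ : ↥Z → ℂ} {e p : ℕ}
    (c : Ctx Z K χ θ e p) (Q : Subgroup H) (hZQ : Z ≤ Q) {η : ↥Q → ℂ}
    (hη : Cfsg.IsIrrCharacter ↥Q η) (h1 : ip (rsH Q χ) η ≠ 0) :
    ∃ b : ℕ, ∀ z : ↥Z, η ⟨z.1, hZQ z.2⟩ = (b : ℂ) * θ z := by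
  classical
  haveI : Fintype ↥Q := Fintype.ofFinite _
  haveI : Fintype ↥Z := Fintype.ofFinite _
  rw [ip_eq_classInner] at h1
  have hχQ : IsCharacter ↥Q (rsH Q χ) :=
    Cfsg.Agent.Lib.Helper75_CharArith.isCharacter_restrict Q
      (Cfsg.Agent.Lib.Helper3_CharBridge.isCharacter_of_isIrrCharacter c.hχ)
  obtain ⟨m, hm, hsum⟩ := Cfsg.Agent.Lib.Helper39_CharTools.char_eq_sum_nat hχQ
  have hηZ : IsCharacter ↥Z (fun z => η (Subgroup.inclusion hZQ z)) :=
    Cfsg.Agent.Lib.Helper75_CharArith.isCharacter_comp (Subgroup.inclusion hZQ)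
      (Cfsg.Agent.Lib.Helper3_CharBridge.isCharacter_of_isIrrCharacter hη)
  obtain ⟨k, hk, hksum⟩ := Cfsg.Agent.Lib.Helper39_CharTools.char_eq_sum_nat hηZ
  refine ⟨k ⟨θ, c.hθ⟩, fun z => ?_⟩
  have hzero : ∀ ψ : IrrCharacter ↥Z, ψ ≠ ⟨θ, c.hθ⟩ → k ψ = 0 := by
    intro ψ hψ
    have h0 : classInner (fun z : ↥Z => χ z.1) (ψ : ↥Z → ℂ) = 0 := by
      have hfun : (fun z : ↥Z => χ z.1) = (e : ℂ) • θ := by
        funext z
        rw [c.hres z]
        rfl
      rw [hfun, Cfsg.Agent.Lib.Helper3_CharOrtho.classInner_smul_left,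
        Cfsg.Agent.Lib.Helper3_CharOrtho.classInner_irr c.hθ ψ.2, if_neg, mul_zero]
      intro h
      exact hψ (Subtype.ext h.symm)
    have h2 : (fun z : ↥Z => χ z.1) = ∑ φ : IrrCharacter ↥Q,
        (m φ : ℂ) • (fun z : ↥Z => (φ : ↥Q → ℂ) (Subgroup.inclusion hZQ z)) := by
      funext z
      have := hsum (Subgroup.inclusion hZQ z)
      simp only [Finset.sum_apply, Pi.smul_apply, smul_eq_mul]
      exact this
    rw [h2, Cfsg.Agent.Lib.Helper3_CharOrtho.classInner_sum_left] at h0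
    have hterm : ∀ φ : IrrCharacter ↥Q, ∃ n : ℕ,
        classInner ((m φ : ℂ) • fun z : ↥Z => (φ : ↥Q → ℂ) (Subgroup.inclusion hZQ z))
          (ψ : ↥Z → ℂ) = (n : ℂ) := by
      intro φ
      obtain ⟨n, hn⟩ := Cfsg.Agent.Lib.Helper75_CharArith.classInner_isCharacter_nat
        (Cfsg.Agent.Lib.Helper75_CharArith.isCharacter_comp (Subgroup.inclusion hZQ)
          (Cfsg.Agent.Lib.Helper3_CharBridge.isCharacter_of_isIrrCharacter φ.2))
        (Cfsg.Agent.Lib.Helper3_CharBridge.isCharacter_of_isIrrCharacter ψ.2)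
      refine ⟨m φ * n, ?_⟩
      rw [Cfsg.Agent.Lib.Helper3_CharOrtho.classInner_smul_left, hn]
      push_cast
      ring
    choose n hn using hterm
    have h3 : ∑ φ : IrrCharacter ↥Q, n φ = 0 := by
      have : ((∑ φ : IrrCharacter ↥Q, n φ : ℕ) : ℂ) = 0 := by
        rw [← h0]
        push_cast
        exact Finset.sum_congr rfl (fun φ _ => (hn φ).symm)
      exact_mod_cast this
    have h4 : n ⟨η, hη⟩ = 0 := Finset.sum_eq_zero_iff.1 h3 _ (Finset.mem_univ _)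
    have h5 := hn ⟨η, hη⟩
    rw [Cfsg.Agent.Lib.Helper3_CharOrtho.classInner_smul_left, h4, Nat.cast_zero] at h5
    have h6 : classInner (fun z : ↥Z => η (Subgroup.inclusion hZQ z)) (ψ : ↥Z → ℂ) = (k ψ : ℂ) :=
      hk ψ
    have hmη : (m ⟨η, hη⟩ : ℂ) ≠ 0 := by
      rw [← hm]
      exact h1
    have h7 : (k ψ : ℂ) = 0 := by
      rw [← h6]
      rcases mul_eq_zero.1 h5 with h | h
      · exact absurd h hmη
      · simpa using h
    exact_mod_cast h7
  have h8 := hksum z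
  have h9 : η ⟨z.1, hZQ z.2⟩ = η (Subgroup.inclusion hZQ z) := rfl
  rw [h9, h8, Finset.sum_eq_single (⟨θ, c.hθ⟩ : IrrCharacter ↥Z)]
  · intro ψ _ hψ
    rw [hzero ψ hψ]
    simp
  · intro h
    exact absurd (Finset.mem_univ _) h

end fin

end Cfsg.Agent.Lib.Helper69_HI_A1
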