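import Mathlib
import Cfsg.Agent.Lib.Helper4_HTDefs
import Cfsg.Prelude.Def_CaseTheorems

/-!
# S3371 package TWOCOUNT (architect helper4, proof helper69)

Counting in the imprimitive case `p = 2`, `s = 2` of Passman's theorem on half-transitive groups.
-/

set_option autoImplicit false

namespace Cfsg.Agent.Lib.Helper69_HT_TWOCOUNT

open Cfsg.Agent.Lib.Helper4_HTDefs

/-- a permutation of `Fin 2` of order 2 is the swap -/
theorem perm_fin_two (σ : Equiv.Perm (Fin 2)) (h : orderOf σ = 2) : σ 0 = 1 ∧ σ 1 = 0 := by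
  have key : ∀ x : Fin 2, x = 0 ∨ x = 1 := by decide
  have h01 : (0 : Fin 2) ≠ 1 := by decide
  have hne : σ ≠ 1 := by
    intro h1
    rw [h1, orderOf_one] at h
    exact absurd h (by norm_num)
  have hinj : σ 1 ≠ σ 0 := fun hh => h01 (σ.injective hh).symm
  have h0 : σ 0 = 1 := by
    rcases key (σ 0) with h00 | h00
    · exfalso
      have h11 : σ 1 = 1 := by
        rcases key (σ 1) with h' | h'
        · exact absurd (h'.trans h00.symm) hinj
        · exact h'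
      apply hne
      ext i
      rcases key i with rfl | rfl
      · rw [h00]; rfl
      · rw [h11]; rfl
    · exact h00
  refine ⟨h0, ?_⟩
  rcases key (σ 1) with h' | h'
  · exact h'
  · exact absurd (h'.trans h0.symm) hinj

/-- a subgroup of order 2 is `{1, a}` -/
theorem eq_of_card_two {G : Type*} [Group G] (S : Subgroup G) (hS : Nat.card S = 2) {a : G}
    (ha : a ∈ S) (ha1 : a ≠ 1) : ∀ x ∈ S, x = 1 ∨ x = a := by
  intro x hx
  by_cases hx1 : x = 1
  · exact Or.inl hx1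
  · right
    obtain ⟨y, -, hy⟩ := (Nat.card_eq_two_iff' (1 : S)).mp hS
    have h1 : (⟨x, hx⟩ : S) = y := hy _ (fun h => hx1 (congrArg Subtype.val h))
    have h2 : (⟨a, ha⟩ : S) = y := hy _ (fun h => ha1 (congrArg Subtype.val h))
    exact congrArg Subtype.val (h1.trans h2.symm)

/-- an element of a subgroup of order 2 squares to 1 -/
theorem sq_eq_one_of_card_two {G : Type*} [Group G] (S : Subgroup G) (hS : Nat.card S = 2) {a : G}
    (ha : a ∈ S) : a ^ 2 = 1 := by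
  have h := pow_card_eq_one' (G := S) (x := ⟨a, ha⟩)
  rw [hS] at h
  exact congrArg Subtype.val h

/-- a subgroup of order 2 has a nonidentity element -/
theorem exists_ne_one_of_card_two {G : Type*} [Group G] (S : Subgroup G) (hS : Nat.card S = 2) :
    ∃ a ∈ S, a ≠ 1 := by
  obtain ⟨y, hy, -⟩ := (Nat.card_eq_two_iff' (1 : S)).mp hS
  exact ⟨y.1, y.2, fun h => hy (Subtype.ext h)⟩

variable {q : ℕ} [Fact q.Prime] {V : Type*} [AddCommGroup V] [Module (ZMod q) V] [Finite V]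
  {G : Type*} [Group G] [Finite G]

omit [Finite V] in
/-- uniqueness of the decomposition along two disjoint submodules -/
theorem eq_of_add_eq {W0 W1 : Submodule (ZMod q) V} (hd : Disjoint W0 W1) {a a' b b' : V}
    (ha : a ∈ W0) (ha' : a' ∈ W0) (hb : b ∈ W1) (hb' : b' ∈ W1) (h : a + b = a' + b') :
    a = a' ∧ b = b' := by
  have h1 : a - a' = b' - b := by
    rw [sub_eq_sub_iff_add_eq_add]
    rw [h, add_comm]
  have h2 : a - a' ∈ W0 ⊓ W1 := by
    refine ⟨W0.sub_mem ha ha', ?_⟩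
    rw [h1]
    exact W1.sub_mem hb' hb
  rw [hd.eq_bot, Submodule.mem_bot] at h2
  refine ⟨sub_eq_zero.mp h2, ?_⟩
  rw [h2] at h1
  exact (sub_eq_zero.mp h1.symm).symm

theorem twocount [Nontrivial V] (hq2 : q ≠ 2) (hG : IsPGroup 2 G) (ρ : G →* (V ≃ₗ[ZMod q] V))
    (hρ : Function.Injective ρ) (hs : HalfT ρ 2)
    (H : Subgroup G) (W : Fin 2 → Submodule (ZMod q) V) (himp : Imprim 2 ρ H W) :
    ∃ Q : ℕ, 2 ≤ Q ∧ Nat.card (W 0) = Q ∧ Nat.card (W 1) = Q ∧ Nat.card V = Q ^ 2 ∧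
      Nat.card {g : G // g ∉ H ∧ g ^ 2 = 1} = Q - 1 ∧ Nat.card H ≤ 2 * (Q - 1) ∧ ∃ x : ℕ, Q - 1 = 2 ^ x := by
  have _ := hq2
  obtain ⟨hidx, hsup, hind, hHW, hfix, hswap⟩ := himp
  -- the two blocks are complementary
  have hsup' : W 0 ⊔ W 1 = ⊤ := by
    rw [← hsup]
    apply le_antisymm
    · exact sup_le (le_iSup W 0) (le_iSup W 1)
    · apply iSup_le
      intro i
      fin_cases i
      · exact le_sup_left
      · exact le_sup_right
  have hdisj : Disjoint (W 0) (W 1) := hind.pairwiseDisjoint (by decide)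
  have hcompl : IsCompl (W 0) (W 1) := ⟨hdisj, codisjoint_iff.mpr hsup'⟩
  -- elements outside `H` swap the blocks
  have hsw : ∀ g : G, g ∉ H → (W 0).map (ρ g : V →ₗ[ZMod q] V) = W 1 ∧
      (W 1).map (ρ g : V →ₗ[ZMod q] V) = W 0 := by
    intro g hg
    obtain ⟨σ, hσ, hσW⟩ := hswap g hg
    obtain ⟨h0, h1⟩ := perm_fin_two σ hσ
    refine ⟨?_, ?_⟩
    · rw [hσW 0, h0]
    · rw [hσW 1, h1]
  have hsw0 : ∀ g : G, g ∉ H → ∀ w ∈ W 0, ρ g w ∈ W 1 := by
    intro g hg w hw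
    rw [← (hsw g hg).1]
    exact Submodule.mem_map_of_mem hw
  have hsw1 : ∀ g : G, g ∉ H → ∀ w ∈ W 1, ρ g w ∈ W 0 := by
    intro g hg w hw
    rw [← (hsw g hg).2]
    exact Submodule.mem_map_of_mem hw
  -- an element outside `H`
  obtain ⟨g₁, hg₁⟩ : ∃ g₁ : G, g₁ ∉ H := by
    by_contra hcon
    push Not at hcon
    have : H = ⊤ := by
      ext x; simp [hcon x]
    rw [this, Subgroup.index_top] at hidx
    exact absurd hidx (by norm_num)
  -- cardinalities of the blocks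
  have hQ1 : Nat.card (W 1) = Nat.card (W 0) := by
    rw [← (hsw g₁ hg₁).1]
    exact (Nat.card_congr ((W 0).equivMapOfInjective (ρ g₁ : V →ₗ[ZMod q] V)
      (ρ g₁).injective).toEquiv).symm
  have hV : Nat.card V = Nat.card (W 0) ^ 2 := by
    rw [← Nat.card_congr (Submodule.prodEquivOfIsCompl (W 0) (W 1) hcompl).toEquiv, Nat.card_prod,
      hQ1, sq]
  have hQ2 : 2 ≤ Nat.card (W 0) := by
    have h1 : 1 < Nat.card V := Finite.one_lt_card
    rw [hV] at h1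
    by_contra hlt
    push Not at hlt
    have h2 : Nat.card (W 0) ≤ 1 := by omega
    have h3 : Nat.card (W 0) ^ 2 ≤ 1 ^ 2 := Nat.pow_le_pow_left h2 2
    omega
  -- the pointwise stabilizers of the blocks
  obtain ⟨k₀, hk₀H, hk₀1, hk₀⟩ := hfix 0
  obtain ⟨k₁, hk₁H, hk₁1, hk₁⟩ := hfix 1
  have hk01 : k₀ ≠ k₁ := by
    intro h
    apply hk₀1
    apply hρ
    rw [map_one]
    ext v
    have hv : v ∈ W 0 ⊔ W 1 := by rw [hsup']; trivial
    obtain ⟨a, ha, b, hb, rfl⟩ := Submodule.mem_sup.mp hv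
    rw [map_add, hk₀ a ha, h, hk₁ b hb]
    rfl
  have hstab0 : ∀ w ∈ W 0, w ≠ 0 → ∀ x ∈ stab ρ w, x = 1 ∨ x = k₀ :=
    fun w hw hw0 => eq_of_card_two _ (hs w hw0) (hk₀ w hw) hk₀1
  have hstab1 : ∀ u ∈ W 1, u ≠ 0 → ∀ x ∈ stab ρ u, x = 1 ∨ x = k₁ :=
    fun u hu hu0 => eq_of_card_two _ (hs u hu0) (hk₁ u hu) hk₁1
  -- the involution attached to a pair
  have key : ∀ w ∈ W 0, w ≠ 0 → ∀ u ∈ W 1, u ≠ 0 →
      ∃ g : G, g ∉ H ∧ g ^ 2 = 1 ∧ ρ g w = u ∧ ρ g u = w := by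
    intro w hw hw0 u hu hu0
    have hv : w + u ≠ 0 := by
      intro h
      have h' : w + u = 0 + 0 := by rw [h, add_zero]
      exact hw0 (eq_of_add_eq hdisj hw (W 0).zero_mem hu (W 1).zero_mem h').1
    obtain ⟨g, hg, hg1⟩ := exists_ne_one_of_card_two _ (hs _ hv)
    have hg2 : g ^ 2 = 1 := sq_eq_one_of_card_two _ (hs _ hv) hg
    have hgv : ρ g (w + u) = w + u := hg
    rw [map_add] at hgv
    have hgH : g ∉ H := by
      intro hgH
      obtain ⟨e1, e2⟩ := eq_of_add_eq hdisj (hHW g hgH 0 w hw) hw (hHW g hgH 1 u hu) hu hgv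
      rcases hstab0 w hw hw0 g e1 with h | h
      · exact hg1 h
      · rcases hstab1 u hu hu0 g e2 with h' | h'
        · exact hg1 h'
        · exact hk01 (h.symm.trans h')
    refine ⟨g, hgH, hg2, ?_⟩
    have hgv' : ρ g u + ρ g w = w + u := by rw [add_comm]; exact hgv
    obtain ⟨e1, e2⟩ := eq_of_add_eq hdisj (hsw1 g hgH u hu) hw (hsw0 g hgH w hw) hu hgv'
    exact ⟨e2, e1⟩
  -- a nonzero vector of the first block
  obtain ⟨w₀, hw₀, hw₀0⟩ : ∃ w₀ ∈ W 0, w₀ ≠ 0 := by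
    haveI : Nontrivial (W 0) := Finite.one_lt_card_iff_nontrivial.mp (by omega)
    obtain ⟨x, hx⟩ := exists_ne (0 : W 0)
    exact ⟨x.1, x.2, fun h => hx (Subtype.ext h)⟩
  have hsq : ∀ g : G, g ^ 2 = 1 → ∀ v : V, ρ g (ρ g v) = v := by
    intro g hg v
    have : ρ g (ρ g v) = ρ (g ^ 2) v := by rw [pow_two, map_mul]; rfl
    rw [this, hg, map_one]
    rfl
  have hne0 : ∀ g : G, ∀ v : V, v ≠ 0 → ρ g v ≠ 0 := by
    intro g v hv h
    apply hv
    have := (ρ g).injective (h.trans (map_zero (ρ g)).symm)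
    exact this
  have hcard_ne : Nat.card {u : W 1 // u ≠ 0} = Nat.card (W 0) - 1 := by
    classical
    haveI := Fintype.ofFinite (W 1)
    rw [← hQ1, Nat.card_eq_fintype_card, Nat.card_eq_fintype_card,
      Fintype.card_subtype_compl (fun u : W 1 => u = 0), Fintype.card_subtype_eq]
  -- the involutions outside `H`
  have hI : Nat.card {g : G // g ∉ H ∧ g ^ 2 = 1} = Nat.card (W 0) - 1 := by
    rw [← hcard_ne]
    apply Nat.card_congr
    refine Equiv.ofBijective (fun g => ⟨⟨ρ g.1 w₀, hsw0 g.1 g.2.1 w₀ hw₀⟩,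
      fun h => hne0 g.1 w₀ hw₀0 (congrArg Subtype.val h)⟩) ⟨?_, ?_⟩
    · rintro ⟨g, hgH, hg2⟩ ⟨g', hg'H, hg'2⟩ h
      have hu : ρ g w₀ = ρ g' w₀ := congrArg (fun x : {u : W 1 // u ≠ 0} => (x.1 : V)) h
      have hv : w₀ + ρ g w₀ ≠ 0 := by
        intro h0
        have h' : w₀ + ρ g w₀ = 0 + 0 := by rw [h0, add_zero]
        exact hw₀0 (eq_of_add_eq hdisj hw₀ (W 0).zero_mem (hsw0 g hgH w₀ hw₀) (W 1).zero_mem h').1
      have m1 : g ∈ stab ρ (w₀ + ρ g w₀) := by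
        show ρ g (w₀ + ρ g w₀) = w₀ + ρ g w₀
        rw [map_add, hsq g hg2, add_comm]
      have m2 : g' ∈ stab ρ (w₀ + ρ g w₀) := by
        show ρ g' (w₀ + ρ g w₀) = w₀ + ρ g w₀
        rw [hu, map_add, hsq g' hg'2, add_comm]
      have hg1 : g ≠ 1 := fun h1 => hgH (h1 ▸ H.one_mem)
      have hg'1 : g' ≠ 1 := fun h1 => hg'H (h1 ▸ H.one_mem)
      rcases eq_of_card_two _ (hs _ hv) m1 hg1 g' m2 with h1 | h1
      · exact absurd h1 hg'1
      · exact Subtype.ext h1.symm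
    · rintro ⟨⟨u, hu⟩, hu0⟩
      have hu0' : u ≠ 0 := fun h => hu0 (Subtype.ext h)
      obtain ⟨g, hgH, hg2, e1, -⟩ := key w₀ hw₀ hw₀0 u hu hu0'
      exact ⟨⟨g, hgH, hg2⟩, Subtype.ext (Subtype.ext e1)⟩
  -- the coset `G \ H` has `2 (Q - 1)` elements
  have hstabH : ∀ x ∈ stab ρ w₀, x ∈ H := by
    intro x hx
    rcases hstab0 w₀ hw₀ hw₀0 x hx with h | h
    · rw [h]; exact H.one_mem
    · rw [h]; exact hk₀H
  have hchoice : ∀ u : {u : W 1 // u ≠ 0}, ∃ g : G, g ∉ H ∧ ρ g w₀ = (u.1 : V) := by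
    rintro ⟨⟨u, hu⟩, hu0⟩
    have hu0' : u ≠ 0 := fun h => hu0 (Subtype.ext h)
    obtain ⟨g, hgH, -, e1, -⟩ := key w₀ hw₀ hw₀0 u hu hu0'
    exact ⟨g, hgH, e1⟩
  choose γ hγH hγ using hchoice
  have hcoset : Nat.card {g : G // g ∉ H} = (Nat.card (W 0) - 1) * 2 := by
    have h2 : Nat.card {u : W 1 // u ≠ 0} * Nat.card (stab ρ w₀) = (Nat.card (W 0) - 1) * 2 := by
      rw [hcard_ne, hs w₀ hw₀0]
    rw [← h2, ← Nat.card_prod]
    symm
    apply Nat.card_congr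
    refine Equiv.ofBijective (fun x : {u : W 1 // u ≠ 0} × stab ρ w₀ =>
      (⟨γ x.1 * x.2.1, fun h => hγH x.1 (by
        have : γ x.1 = γ x.1 * x.2.1 * (x.2.1)⁻¹ := by group
        rw [this]
        exact H.mul_mem h (H.inv_mem (hstabH _ x.2.2)))⟩ : {g : G // g ∉ H})) ⟨?_, ?_⟩
    · rintro ⟨u, s, hs'⟩ ⟨u', s', hs''⟩ h
      have h1 : γ u * s = γ u' * s' := congrArg Subtype.val h
      have h2 : ρ (γ u * s) w₀ = ρ (γ u' * s') w₀ := by rw [h1]
      have e1 : ρ (γ u * s) w₀ = (u.1 : V) := by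
        rw [map_mul]
        show ρ (γ u) (ρ s w₀) = _
        rw [show ρ s w₀ = w₀ from hs', hγ]
      have e2 : ρ (γ u' * s') w₀ = (u'.1 : V) := by
        rw [map_mul]
        show ρ (γ u') (ρ s' w₀) = _
        rw [show ρ s' w₀ = w₀ from hs'', hγ]
      have hu : u = u' := by
        apply Subtype.ext
        apply Subtype.ext
        rw [← e1, ← e2, h2]
      subst hu
      have hss : s = s' := mul_left_cancel h1
      subst hss
      rfl
    · rintro ⟨g, hgH⟩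
      have hu : ρ g w₀ ∈ W 1 := hsw0 g hgH w₀ hw₀
      have hu0 : (⟨ρ g w₀, hu⟩ : W 1) ≠ 0 := fun h => hne0 g w₀ hw₀0 (congrArg Subtype.val h)
      obtain ⟨uu, huu⟩ : ∃ uu : {u : W 1 // u ≠ 0}, (uu.1 : V) = ρ g w₀ :=
        ⟨⟨⟨ρ g w₀, hu⟩, hu0⟩, rfl⟩
      have hmem : (γ uu)⁻¹ * g ∈ stab ρ w₀ := by
        show ρ ((γ uu)⁻¹ * g) w₀ = w₀
        rw [map_mul]
        show ρ (γ uu)⁻¹ (ρ g w₀) = w₀
        rw [← huu, ← hγ uu]
        show (ρ (γ uu)⁻¹ * ρ (γ uu)) w₀ = w₀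
        rw [← map_mul, inv_mul_cancel, map_one]
        rfl
      refine ⟨(uu, ⟨(γ uu)⁻¹ * g, hmem⟩), ?_⟩
      apply Subtype.ext
      show γ uu * ((γ uu)⁻¹ * g) = g
      group
  have hcosetH : Nat.card {g : G // g ∉ H} = Nat.card H := by
    symm
    apply Nat.card_congr
    refine Equiv.ofBijective (fun h : H => (⟨g₁ * h.1, fun hh => hg₁ (by
      have : g₁ = g₁ * h.1 * (h.1)⁻¹ := by group
      rw [this]
      exact H.mul_mem hh (H.inv_mem h.2))⟩ : {g : G // g ∉ H})) ⟨?_, ?_⟩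
    · intro a b hab
      have h1 : g₁ * a.1 = g₁ * b.1 := congrArg Subtype.val hab
      exact Subtype.ext (mul_left_cancel h1)
    · rintro ⟨g, hgH⟩
      have hmem : g₁⁻¹ * g ∈ H := by
        rw [Subgroup.mul_mem_iff_of_index_two hidx]
        constructor
        · intro h
          exact absurd (H.inv_mem_iff.mp h) hg₁
        · intro h
          exact absurd h hgH
      refine ⟨⟨g₁⁻¹ * g, hmem⟩, ?_⟩
      apply Subtype.ext
      show g₁ * (g₁⁻¹ * g) = g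
      group
  have hHcard : Nat.card H = 2 * (Nat.card (W 0) - 1) := by
    rw [← hcosetH, hcoset, mul_comm]
  obtain ⟨y, hy⟩ := IsPGroup.iff_card.mp (hG.to_subgroup H)
  refine ⟨Nat.card (W 0), hQ2, rfl, hQ1, hV, hI, hHcard.le, ?_⟩
  rw [hy] at hHcard
  rcases Nat.eq_zero_or_pos y with hy0 | hy0
  · exfalso
    rw [hy0, pow_zero] at hHcard
    omega
  · obtain ⟨y', rfl⟩ : ∃ y', y = y' + 1 := ⟨y - 1, by omega⟩
    refine ⟨y', ?_⟩
    rw [pow_succ, mul_comm] at hHcard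
    exact (Nat.eq_of_mul_eq_mul_left (by norm_num : 0 < 2) hHcard).symm

end Cfsg.Agent.Lib.Helper69_HT_TWOCOUNT
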