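import Mathlib
import Cfsg.Agent.Lib.Helper4_HTDefs
import Cfsg.Prelude.Def_CaseTheorems
import Cfsg.Agent.Lib.Helper69_HT_TWOCOUNT

/-!
# S3371 package TF2 (architect helper4, proof helper69)

In coordinates, `G` is the full monomial group `{(x,y) ↦ (a x, ± a⁻¹ y), (± a⁻¹ y, a x)}`.
-/

set_option autoImplicit false
set_option linter.unusedSectionVars false

namespace Cfsg.Agent.Lib.Helper69_HT_TF2

open Cfsg.Agent.Lib.Helper4_HTDefs Cfsg.Agent.Lib.Helper69_HT_TWOCOUNT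

theorem card_ne_zero_subtype {M : Type*} [Zero M] [Finite M] :
    Nat.card {u : M // u ≠ 0} = Nat.card M - 1 := by
  classical
  haveI := Fintype.ofFinite M
  rw [Nat.card_eq_fintype_card, Nat.card_eq_fintype_card,
    Fintype.card_subtype_compl (fun u : M => u = 0), Fintype.card_subtype_eq]

variable {q : ℕ} [Fact q.Prime] {V : Type*} [AddCommGroup V] [Module (ZMod q) V] [Finite V]
  {G : Type*} [Group G] [Finite G]

/-- the action in coordinates -/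
def act (ρ : G →* (V ≃ₗ[ZMod q] V)) (e : V ≃ₗ[ZMod q] (Fin 2 → ZMod q)) (g : G)
    (u : Fin 2 → ZMod q) : Fin 2 → ZMod q := e (ρ g (e.symm u))

section act

variable (ρ : G →* (V ≃ₗ[ZMod q] V)) (e : V ≃ₗ[ZMod q] (Fin 2 → ZMod q))

theorem act_mul (g g' : G) (u : Fin 2 → ZMod q) : act ρ e (g * g') u = act ρ e g (act ρ e g' u) := by
  unfold act
  rw [map_mul, LinearEquiv.symm_apply_apply]
  rfl

theorem act_one (u : Fin 2 → ZMod q) : act ρ e 1 u = u := by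
  unfold act
  rw [map_one]
  exact e.apply_symm_apply u

theorem act_injective (g : G) : Function.Injective (act ρ e g) := by
  intro u u' h
  unfold act at h
  exact e.symm.injective ((ρ g).injective (e.injective h))

theorem eq_of_act_eq (hρ : Function.Injective ρ) {g g' : G}
    (h : ∀ u, act ρ e g u = act ρ e g' u) : g = g' := by
  apply hρ
  ext v
  have := h (e v)
  unfold act at this
  rw [LinearEquiv.symm_apply_apply] at this
  exact e.injective this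

/-- `g` acts diagonally with entries `α, β` -/
def IsD (g : G) (α β : ZMod q) : Prop := ∀ u, act ρ e g u = ![α * u 0, β * u 1]

theorem IsD.unique {g : G} {α β α' β' : ZMod q} (h : IsD ρ e g α β) (h' : IsD ρ e g α' β') :
    α = α' ∧ β = β' := by
  constructor
  · have h1 := congrFun ((h ![1, 0]).symm.trans (h' ![1, 0])) 0
    simpa using h1
  · have h1 := congrFun ((h ![0, 1]).symm.trans (h' ![0, 1])) 1
    simpa using h1

theorem IsD.mul {g g' : G} {α β α' β' : ZMod q} (h : IsD ρ e g α β) (h' : IsD ρ e g' α' β') :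
    IsD ρ e (g * g') (α * α') (β * β') := by
  intro u
  rw [act_mul, h' u, h]
  funext i
  fin_cases i <;> simp [mul_assoc]

theorem isD_one : IsD ρ e (1 : G) 1 1 := by
  intro u
  rw [act_one]
  funext i
  fin_cases i <;> simp

theorem IsD.inv {g : G} {α β : ZMod q} (h : IsD ρ e g α β) (hα : α ≠ 0) (hβ : β ≠ 0) :
    IsD ρ e g⁻¹ α⁻¹ β⁻¹ := by
  intro u
  apply act_injective ρ e g
  rw [← act_mul, mul_inv_cancel, act_one, h]
  funext i
  fin_cases i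
  · simp [hα]
  · simp [hβ]

theorem IsD.eq (hρ : Function.Injective ρ) {g g' : G} {α β : ZMod q} (h : IsD ρ e g α β)
    (h' : IsD ρ e g' α β) : g = g' :=
  eq_of_act_eq ρ e hρ (fun u => (h u).trans (h' u).symm)

theorem act_swap_mul (g₀ h : G) {α β : ZMod q} (hg₀ : ∀ u, act ρ e g₀ u = ![u 1, u 0])
    (h' : IsD ρ e h α β) : ∀ u, act ρ e (g₀ * h) u = ![β * u 1, α * u 0] := by
  intro u
  rw [act_mul, h' u, hg₀]
  funext i
  fin_cases i <;> simp

end act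

/-- **TF2**: in coordinates, `G` is the full monomial group. -/
theorem tf2 (hq2 : q ≠ 2) (ρ : G →* (V ≃ₗ[ZMod q] V)) (hρ : Function.Injective ρ) (hs : HalfT ρ 2)
    (H : Subgroup G) (W : Fin 2 → Submodule (ZMod q) V) (himp : Imprim 2 ρ H W)
    (hinv : Nat.card {g : G // g ∉ H ∧ g ^ 2 = 1} = q - 1) (hH : Nat.card H ≤ 2 * (q - 1))
    (e : V ≃ₗ[ZMod q] (Fin 2 → ZMod q))
    (he0 : ∀ v : V, v ∈ W 0 ↔ e v 1 = 0) (he1 : ∀ v : V, v ∈ W 1 ↔ e v 0 = 0)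
    (heH : ∀ h ∈ H, ∃ α β : ZMod q, α ≠ 0 ∧ β ≠ 0 ∧
      ∀ u : Fin 2 → ZMod q, e (ρ h (e.symm u)) = ![α * u 0, β * u 1])
    (heg : ∃ g₀ : G, g₀ ∉ H ∧ ∀ u : Fin 2 → ZMod q, e (ρ g₀ (e.symm u)) = ![u 1, u 0]) :
    ∀ f : (Fin 2 → ZMod q) ≃ₗ[ZMod q] (Fin 2 → ZMod q),
      (∃ g : G, f = e.symm.trans ((ρ g).trans e)) ↔
      ∃ a s : ZMod q, a ≠ 0 ∧ (s = 1 ∨ s = -1) ∧
        ((∀ v, f v = ![a * v 0, s * a⁻¹ * v 1]) ∨ (∀ v, f v = ![s * a⁻¹ * v 1, a * v 0])) := by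
  classical
  haveI : NeZero q := ⟨(Fact.out : q.Prime).ne_zero⟩
  obtain ⟨g₀, hg₀H, hg₀0⟩ := heg
  have hg₀ : ∀ u, act ρ e g₀ u = ![u 1, u 0] := hg₀0
  have hD : ∀ h ∈ H, ∃ α β : ZMod q, α ≠ 0 ∧ β ≠ 0 ∧ IsD ρ e h α β := heH
  have hidx : H.index = 2 := himp.1
  have hcancel : ∀ α β : ZMod q, α ≠ 0 → α * β * α⁻¹ = β := by
    intro α β hα
    rw [mul_comm α β, mul_assoc, mul_inv_cancel₀ hα, mul_one]
  -- elements outside `H`
  have hout : ∀ g : G, g ∉ H → g₀⁻¹ * g ∈ H := by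
    intro g hg
    rw [Subgroup.mul_mem_iff_of_index_two hidx, inv_mem_iff]
    exact ⟨fun h => absurd h hg₀H, fun h => absurd h hg⟩
  -- involutions outside `H`
  have hinvol : ∀ g : G, g ∉ H → g ^ 2 = 1 → ∀ α β : ZMod q, IsD ρ e (g₀⁻¹ * g) α β →
      α * β = 1 := by
    intro g hg hg2 α β hαβ
    have h1 : ∀ u, act ρ e g u = ![β * u 1, α * u 0] := by
      intro u
      have := act_swap_mul ρ e g₀ (g₀⁻¹ * g) hg₀ hαβ u
      rwa [mul_inv_cancel_left] at this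
    have h2 : act ρ e (g * g) ![1, 0] = ![1, 0] := by
      rw [← pow_two, hg2, act_one]
    rw [act_mul, h1, h1] at h2
    have h3 := congrFun h2 0
    rw [mul_comm]
    simpa using h3
  have hsurj : ∀ a : ZMod q, a ≠ 0 → ∃ h ∈ H, IsD ρ e h a a⁻¹ := by
    have hval : ∀ g : {g : G // g ∉ H ∧ g ^ 2 = 1},
        (act ρ e (g₀⁻¹ * g.1) ![1, 0]) 0 ≠ 0 := by
      intro g
      obtain ⟨α, β, hα, hβ, hαβ⟩ := hD _ (hout g.1 g.2.1)
      rw [hαβ]
      simpa using hα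
    obtain ⟨Φ, hΦ⟩ : ∃ Φ : {g : G // g ∉ H ∧ g ^ 2 = 1} → {a : ZMod q // a ≠ 0},
        ∀ g, (Φ g).1 = (act ρ e (g₀⁻¹ * g.1) ![1, 0]) 0 :=
      ⟨fun g => ⟨(act ρ e (g₀⁻¹ * g.1) ![1, 0]) 0, hval g⟩, fun g => rfl⟩
    have hΦinj : Function.Injective Φ := by
      intro g g' hgg'
      have h0 : (act ρ e (g₀⁻¹ * g.1) ![1, 0]) 0 = (act ρ e (g₀⁻¹ * g'.1) ![1, 0]) 0 := by
        rw [← hΦ, ← hΦ, hgg']
      obtain ⟨α, β, hα, hβ, hαβ⟩ := hD _ (hout g.1 g.2.1)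
      obtain ⟨α', β', hα', hβ', hαβ'⟩ := hD _ (hout g'.1 g'.2.1)
      rw [hαβ, hαβ'] at h0
      have hαα' : α = α' := by simpa using h0
      have h1 := hinvol g.1 g.2.1 g.2.2 α β hαβ
      have h1' := hinvol g'.1 g'.2.1 g'.2.2 α' β' hαβ'
      have hββ' : β = β' := by
        rw [eq_inv_of_mul_eq_one_right h1, eq_inv_of_mul_eq_one_right h1', hαα']
      subst hαα' hββ'
      have := IsD.eq ρ e hρ hαβ hαβ'
      exact Subtype.ext (mul_left_cancel this)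
    have hcard : Nat.card {a : ZMod q // a ≠ 0} ≤ Nat.card {g : G // g ∉ H ∧ g ^ 2 = 1} := by
      rw [hinv, card_ne_zero_subtype, Nat.card_zmod]
    have hΦsurj := (hΦinj.bijective_of_nat_card_le hcard).2
    intro a ha
    obtain ⟨g, hg⟩ := hΦsurj ⟨a, ha⟩
    have h0 : (act ρ e (g₀⁻¹ * g.1) ![1, 0]) 0 = a := by
      rw [← hΦ, hg]
    obtain ⟨α, β, hα, hβ, hαβ⟩ := hD _ (hout g.1 g.2.1)
    have h1 := hinvol g.1 g.2.1 g.2.2 α β hαβ
    rw [hαβ] at h0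
    have hαa : α = a := by simpa using h0
    refine ⟨g₀⁻¹ * g.1, hout g.1 g.2.1, ?_⟩
    rw [← hαa, ← eq_inv_of_mul_eq_one_right h1]
    exact hαβ
  -- the element fixing `W 0` pointwise
  obtain ⟨k₀, hk₀H, hk₀1, hk₀fix⟩ := himp.2.2.2.2.1 0
  obtain ⟨w, hw⟩ : ∃ w : V, w = e.symm ![1, 0] := ⟨_, rfl⟩
  have hew : e w = ![1, 0] := by rw [hw, LinearEquiv.apply_symm_apply]
  have hwW : w ∈ W 0 := by
    rw [he0, hew]
    rfl
  have hw0 : w ≠ 0 := by
    intro h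
    have h1 : e w 0 = 0 := by rw [h, map_zero]; rfl
    rw [hew] at h1
    simp at h1
  have hstab : ∀ x : G, x ∈ stab ρ w ↔ act ρ e x ![1, 0] = ![1, 0] := by
    intro x
    rw [mem_stab]
    unfold act
    rw [← hw]
    constructor
    · intro h
      rw [h, hew]
    · intro h
      apply e.injective
      rw [h, hew]
  have hcardw : Nat.card (stab ρ w) = 2 := hs w hw0
  obtain ⟨α₀, β₀, hα₀, hβ₀, hk₀D⟩ := hD k₀ hk₀H
  have hk₀w : k₀ ∈ stab ρ w := hk₀fix w hwW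
  have hα₀1 : α₀ = 1 := by
    have h1 := (hstab k₀).mp hk₀w
    rw [hk₀D] at h1
    have h2 := congrFun h1 0
    simpa using h2
  subst hα₀1
  have hk₀sq : k₀ * k₀ = 1 := by
    rw [← pow_two]
    exact sq_eq_one_of_card_two _ hcardw hk₀w
  have hβ₀1 : β₀ = -1 := by
    have h1 := IsD.mul ρ e hk₀D hk₀D
    rw [hk₀sq] at h1
    have h2 := (IsD.unique ρ e h1 (isD_one ρ e)).2
    rcases mul_self_eq_one_iff.mp h2 with h | h
    · exfalso
      apply hk₀1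
      rw [h] at hk₀D
      exact IsD.eq ρ e hρ hk₀D (isD_one ρ e)
    · exact h
  subst hβ₀1
  have hprod : ∀ h ∈ H, ∀ α β : ZMod q, α ≠ 0 → β ≠ 0 → IsD ρ e h α β →
      α * β = 1 ∨ α * β = -1 := by
    intro h hh α β hα hβ hαβ
    obtain ⟨h', hh', hD'⟩ := hsurj α hα
    have hx : IsD ρ e (h'⁻¹ * h) (α⁻¹ * α) (α⁻¹⁻¹ * β) :=
      IsD.mul ρ e (IsD.inv ρ e hD' hα (inv_ne_zero hα)) hαβ
    rw [inv_mul_cancel₀ hα, inv_inv] at hx
    have hxw : h'⁻¹ * h ∈ stab ρ w := by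
      rw [hstab, hx]
      funext i
      fin_cases i <;> simp
    rcases eq_of_card_two _ hcardw hk₀w hk₀1 _ hxw with h1 | h1
    · rw [h1] at hx
      exact Or.inl (IsD.unique ρ e hx (isD_one ρ e)).2
    · rw [h1] at hx
      exact Or.inr (IsD.unique ρ e hx hk₀D).2
  have hact : ∀ (f : (Fin 2 → ZMod q) ≃ₗ[ZMod q] (Fin 2 → ZMod q)) (g : G),
      f = e.symm.trans ((ρ g).trans e) ↔ ∀ u, f u = act ρ e g u := by
    intro f g
    constructor
    · intro h u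
      rw [h]
      rfl
    · intro h
      exact LinearEquiv.ext h
  have hex : ∀ a s : ZMod q, a ≠ 0 → (s = 1 ∨ s = -1) →
      ∃ h ∈ H, IsD ρ e h a (s * a⁻¹) := by
    intro a s ha hs'
    obtain ⟨h, hh, hD'⟩ := hsurj a ha
    rcases hs' with rfl | rfl
    · exact ⟨h, hh, by rwa [one_mul]⟩
    · refine ⟨h * k₀, H.mul_mem hh hk₀H, ?_⟩
      have h1 := IsD.mul ρ e hD' hk₀D
      rwa [mul_one, mul_comm a⁻¹] at h1
  intro f
  constructor
  · rintro ⟨g, hg⟩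
    rw [hact] at hg
    by_cases hgH : g ∈ H
    · obtain ⟨α, β, hα, hβ, hαβ⟩ := hD g hgH
      refine ⟨α, α * β, hα, hprod g hgH α β hα hβ hαβ, Or.inl ?_⟩
      intro v
      rw [hg, hαβ, hcancel α β hα]
    · obtain ⟨α, β, hα, hβ, hαβ⟩ := hD _ (hout g hgH)
      refine ⟨α, α * β, hα, hprod _ (hout g hgH) α β hα hβ hαβ, Or.inr ?_⟩
      intro v
      have h1 := act_swap_mul ρ e g₀ (g₀⁻¹ * g) hg₀ hαβ v
      rw [mul_inv_cancel_left] at h1
      rw [hg, h1, hcancel α β hα]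
  · rintro ⟨a, s, ha, hs', hf | hf⟩
    · obtain ⟨h, hh, hD'⟩ := hex a s ha hs'
      refine ⟨h, (hact f h).mpr ?_⟩
      intro u
      rw [hf, hD']
    · obtain ⟨h, hh, hD'⟩ := hex a s ha hs'
      refine ⟨g₀ * h, (hact f _).mpr ?_⟩
      intro u
      rw [hf, act_swap_mul ρ e g₀ h hg₀ hD']

end Cfsg.Agent.Lib.Helper69_HT_TF2
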