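import Mathlib

/-!
Counting facts in the alternating group of degree five, and their transfer to any subgroup
`B ≤ G` isomorphic to it (helper69; used for the order of a group with the Hall-Janko
involution pattern).
-/

set_option autoImplicit false

namespace Cfsg.Agent.Lib.Helper69_J2A5

/-- the alternating group of degree five -/
abbrev A5 : Type := alternatingGroup (Fin 5)

set_option maxRecDepth 100000 in
theorem a5_inv_count :
    (Finset.univ.filter (fun u : A5 => u ≠ 1 ∧ u ^ 2 = 1)).card = 15 := by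
  decide

set_option maxRecDepth 100000 in
theorem a5_comm_count : ∀ s : A5, s ≠ 1 → s ^ 2 = 1 →
    (Finset.univ.filter (fun u : A5 => (u ≠ 1 ∧ u ^ 2 = 1) ∧ u * s = s * u)).card = 3 := by
  decide

set_option maxRecDepth 1000000 in
set_option maxHeartbeats 2000000 in
theorem a5_pair_count : ∀ u : A5, u ≠ 1 → u ^ 2 = 1 →
    (Finset.univ.filter (fun b : A5 =>
      b ^ 2 = 1 ∧ ((u * b) ^ 3 = 1 ∨ (u * b) ^ 5 = 1))).card = 13 := by
  decide

set_option maxRecDepth 100000 in
theorem a5_odd : ∀ x : A5, x ^ 15 = 1 → x ^ 3 = 1 ∨ x ^ 5 = 1 := by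
  decide

set_option maxRecDepth 100000 in
theorem a5_exists_five : ∃ f : A5, f ≠ 1 ∧ f ^ 5 = 1 := by
  decide

theorem a5_card : Nat.card A5 = 60 := by
  have h := two_mul_nat_card_alternatingGroup (α := Fin 5)
  rw [Nat.card_perm, Nat.card_eq_fintype_card (α := Fin 5), Fintype.card_fin] at h
  have h5 : Nat.factorial 5 = 120 := by decide
  rw [h5] at h
  show Nat.card ↥(alternatingGroup (Fin 5)) = 60
  omega

/-! ### transfer along an isomorphism -/

section abstract
variable {A : Type*} [Group A] (e : A ≃* A5)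
include e

theorem card_eq : Nat.card A = 60 := by
  rw [Nat.card_congr e.toEquiv, a5_card]

theorem order_two_iff (u : A) : orderOf u = 2 ↔ (e u ≠ 1 ∧ (e u) ^ 2 = 1) := by
  have : Fact (Nat.Prime 2) := ⟨Nat.prime_two⟩
  rw [← MulEquiv.orderOf_eq e u, orderOf_eq_prime_iff, and_comm]

theorem card_invs : Nat.card {u : A // orderOf u = 2} = 15 := by
  classical
  rw [Nat.card_congr (e.toEquiv.subtypeEquiv (q := fun x : A5 => x ≠ 1 ∧ x ^ 2 = 1)
    (fun u => order_two_iff e u)), Nat.card_eq_fintype_card, Fintype.card_subtype]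
  exact a5_inv_count

theorem card_comm_invs (s : A) (hs : orderOf s = 2) :
    Nat.card {u : A // orderOf u = 2 ∧ u * s = s * u} = 3 := by
  classical
  have hs' := (order_two_iff e s).mp hs
  have key : ∀ u : A, (orderOf u = 2 ∧ u * s = s * u) ↔
      ((e u ≠ 1 ∧ (e u) ^ 2 = 1) ∧ e u * e s = e s * e u) := by
    intro u
    rw [order_two_iff e u, ← map_mul, ← map_mul, e.injective.eq_iff]
  rw [Nat.card_congr (e.toEquiv.subtypeEquiv
    (q := fun x : A5 => (x ≠ 1 ∧ x ^ 2 = 1) ∧ x * e s = e s * x) key),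
    Nat.card_eq_fintype_card, Fintype.card_subtype]
  exact a5_comm_count (e s) hs'.1 hs'.2

theorem pow_fifteen_of_odd (x : A) (k : ℕ) (hk : Odd k) (hx : x ^ k = 1) : x ^ 15 = 1 := by
  have : Finite A := Finite.of_equiv _ e.symm.toEquiv
  have h1 : orderOf x ∣ k := orderOf_dvd_of_pow_eq_one hx
  have h2 : orderOf x ∣ 15 * 4 := by
    have := orderOf_dvd_natCard x
    rw [card_eq e] at this
    exact this
  have h3 : Nat.Coprime (orderOf x) 4 := by
    have hodd : Odd (orderOf x) := by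
      obtain ⟨c, hc⟩ := h1
      rw [hc] at hk
      exact (Nat.odd_mul.mp hk).1
    have : Nat.Coprime (orderOf x) 2 := hodd.coprime_two_right
    exact Nat.Coprime.pow_right 2 this
  exact orderOf_dvd_iff_pow_eq_one.mp (h3.dvd_of_dvd_mul_right h2)

theorem card_odd_partners (u : A) (hu : orderOf u = 2) :
    Nat.card {b : A // b ^ 2 = 1 ∧ ∃ k : ℕ, Odd k ∧ (u * b) ^ k = 1} = 13 := by
  classical
  have hu' := (order_two_iff e u).mp hu
  have key : ∀ b : A, (b ^ 2 = 1 ∧ ∃ k : ℕ, Odd k ∧ (u * b) ^ k = 1) ↔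
      ((e b) ^ 2 = 1 ∧ ((e u * e b) ^ 3 = 1 ∨ (e u * e b) ^ 5 = 1)) := by
    intro b
    have hb : b ^ 2 = 1 ↔ (e b) ^ 2 = 1 := by
      rw [← map_pow]
      constructor
      · intro h
        rw [h, map_one]
      · intro h
        apply e.injective
        rw [h, map_one]
    have hp : ∀ n : ℕ, (u * b) ^ n = 1 ↔ (e u * e b) ^ n = 1 := by
      intro n
      rw [← map_mul, ← map_pow]
      constructor
      · intro h
        rw [h, map_one]
      · intro h
        apply e.injective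
        rw [h, map_one]
    rw [hb]
    constructor
    · rintro ⟨h1, k, hk, h2⟩
      refine ⟨h1, ?_⟩
      have h15 := pow_fifteen_of_odd e (u * b) k hk h2
      exact a5_odd _ ((hp 15).mp h15)
    · rintro ⟨h1, h2 | h2⟩
      · exact ⟨h1, 3, by decide, (hp 3).mpr h2⟩
      · exact ⟨h1, 5, by decide, (hp 5).mpr h2⟩
  rw [Nat.card_congr (e.toEquiv.subtypeEquiv
    (q := fun x : A5 => x ^ 2 = 1 ∧ ((e u * x) ^ 3 = 1 ∨ (e u * x) ^ 5 = 1)) key),
    Nat.card_eq_fintype_card, Fintype.card_subtype]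
  exact a5_pair_count (e u) hu'.1 hu'.2

theorem exists_order_five : ∃ f : A, orderOf f = 5 := by
  obtain ⟨f, hf1, hf5⟩ := a5_exists_five
  refine ⟨e.symm f, ?_⟩
  have : Fact (Nat.Prime 5) := ⟨by norm_num⟩
  rw [MulEquiv.orderOf_eq]
  exact orderOf_eq_prime hf5 hf1

end abstract

/-! ### the same for a subgroup of an ambient group -/

section ambient
variable {G : Type*} [Group G] {B : Subgroup G} (e : ↥B ≃* A5)
include e

theorem sub_card : Nat.card ↥B = 60 := card_eq e

theorem sub_card_invs : Nat.card {u : G // u ∈ B ∧ orderOf u = 2} = 15 := by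
  rw [← card_invs e]
  apply Nat.card_congr
  refine (Equiv.subtypeSubtypeEquivSubtypeInter (fun u : G => u ∈ B)
    (fun u : G => orderOf u = 2)).symm.trans ?_
  exact Equiv.subtypeEquivRight (fun u => by rw [Subgroup.orderOf_coe])

theorem sub_card_comm_invs (s : G) (hsB : s ∈ B) (hs : orderOf s = 2) :
    Nat.card {u : G // (u ∈ B ∧ orderOf u = 2) ∧ u * s = s * u} = 3 := by
  have hs' : orderOf (⟨s, hsB⟩ : ↥B) = 2 := by rw [← Subgroup.orderOf_coe]; exact hs
  rw [← card_comm_invs e ⟨s, hsB⟩ hs']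
  apply Nat.card_congr
  refine (Equiv.subtypeEquivRight (fun u => and_assoc)).trans ?_
  refine (Equiv.subtypeSubtypeEquivSubtypeInter (fun u : G => u ∈ B)
    (fun u : G => orderOf u = 2 ∧ u * s = s * u)).symm.trans ?_
  refine Equiv.subtypeEquivRight (fun u => ?_)
  rw [Subgroup.orderOf_coe]
  constructor
  · rintro ⟨h1, h2⟩
    exact ⟨h1, Subtype.ext h2⟩
  · rintro ⟨h1, h2⟩
    exact ⟨h1, congrArg Subtype.val h2⟩

theorem sub_card_odd_partners (u : G) (huB : u ∈ B) (hu : orderOf u = 2) :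
    Nat.card {b : G // b ∈ B ∧ b ^ 2 = 1 ∧ ∃ k : ℕ, Odd k ∧ (u * b) ^ k = 1} = 13 := by
  have hu' : orderOf (⟨u, huB⟩ : ↥B) = 2 := by rw [← Subgroup.orderOf_coe]; exact hu
  rw [← card_odd_partners e ⟨u, huB⟩ hu']
  apply Nat.card_congr
  refine (Equiv.subtypeSubtypeEquivSubtypeInter (fun b : G => b ∈ B)
    (fun b : G => b ^ 2 = 1 ∧ ∃ k : ℕ, Odd k ∧ (u * b) ^ k = 1)).symm.trans ?_
  refine Equiv.subtypeEquivRight (fun b => ?_)
  constructor
  · rintro ⟨h1, k, hk, h2⟩
    exact ⟨Subtype.ext h1, k, hk, Subtype.ext h2⟩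
  · rintro ⟨h1, k, hk, h2⟩
    exact ⟨congrArg Subtype.val h1, k, hk, congrArg Subtype.val h2⟩

theorem sub_exists_order_five : ∃ f ∈ B, orderOf f = 5 := by
  obtain ⟨f, hf⟩ := exists_order_five e
  exact ⟨f, f.2, by rw [Subgroup.orderOf_coe]; exact hf⟩

end ambient

end Cfsg.Agent.Lib.Helper69_J2A5
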