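import Mathlib

/-!
Generic counting lemmas used for the Thompson order formula computation of the order of a group
with the Hall-Janko involution pattern (helper69).
-/

set_option autoImplicit false

namespace Cfsg.Agent.Lib.Helper69_J2Gen

variable {G : Type*} [Group G]

/-- an involution `x` inverts every element of `⟨x y⟩` when `y` is an involution; so it commutes
with the involutions of that cyclic group. -/
theorem commute_of_mem_zpowers_mul {x y w : G} (hx : x * x = 1) (hy : y * y = 1)
    (hw : w ∈ Subgroup.zpowers (x * y)) (hw2 : w * w = 1) : x * w = w * x ∧ y * w = w * y := by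
  obtain ⟨k, rfl⟩ := Subgroup.mem_zpowers_iff.mp hw
  have hxi : x⁻¹ = x := inv_eq_of_mul_eq_one_right hx
  have hyi : y⁻¹ = y := inv_eq_of_mul_eq_one_right hy
  have hinv : ((x * y) ^ k)⁻¹ = (x * y) ^ k := inv_eq_of_mul_eq_one_right hw2
  have h1 : x * (x * y) * x⁻¹ = (x * y)⁻¹ := by
    rw [mul_inv_rev, hxi, hyi, ← mul_assoc, hx, one_mul]
  have h2 : y * (x * y) * y⁻¹ = (x * y)⁻¹ := by
    rw [mul_inv_rev, hxi, hyi, mul_assoc, mul_assoc, hy, mul_one]
  have e1 : x * (x * y) ^ k * x⁻¹ = (x * y) ^ k := by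
    have := map_zpow (MulAut.conj x) (x * y) k
    rw [MulAut.conj_apply, MulAut.conj_apply, h1, inv_zpow, hinv] at this
    exact this
  have e2 : y * (x * y) ^ k * y⁻¹ = (x * y) ^ k := by
    have := map_zpow (MulAut.conj y) (x * y) k
    rw [MulAut.conj_apply, MulAut.conj_apply, h2, inv_zpow, hinv] at this
    exact this
  constructor
  · calc x * (x * y) ^ k = (x * (x * y) ^ k * x⁻¹) * x := by group
      _ = (x * y) ^ k * x := by rw [e1]
  · calc y * (x * y) ^ k = (y * (x * y) ^ k * y⁻¹) * y := by group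
      _ = (x * y) ^ k * y := by rw [e2]

/-- the order of a product `K Q` with `K` normalizing `Q` and `K ∩ Q = 1`. -/
theorem card_sup_of_le_normalizer (K Q : Subgroup G)
    (hKQ : K ≤ Subgroup.normalizer (Q : Set G)) (hd : K ⊓ Q = ⊥) :
    Nat.card ↥(K ⊔ Q) = Nat.card K * Nat.card Q := by
  rw [← Nat.card_prod]
  symm
  apply Nat.card_congr
  refine Equiv.ofBijective
    (fun p : ↥K × ↥Q => (⟨(p.1 : G) * (p.2 : G),
      Subgroup.mul_mem _ (Subgroup.mem_sup_left p.1.2) (Subgroup.mem_sup_right p.2.2)⟩ : ↥(K ⊔ Q)))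
    ⟨?_, ?_⟩
  · rintro ⟨k, q⟩ ⟨k', q'⟩ h
    have h0 : (k : G) * q = k' * q' := congrArg Subtype.val h
    have h1 : (k' : G)⁻¹ * k = q' * (q : G)⁻¹ := by
      calc (k' : G)⁻¹ * k = (k' : G)⁻¹ * ((k : G) * q) * (q : G)⁻¹ := by group
        _ = (k' : G)⁻¹ * ((k' : G) * q') * (q : G)⁻¹ := by rw [h0]
        _ = q' * (q : G)⁻¹ := by group
    have h2 : (k' : G)⁻¹ * k ∈ K ⊓ Q := by
      refine Subgroup.mem_inf.mpr ⟨K.mul_mem (K.inv_mem k'.2) k.2, ?_⟩
      rw [h1]
      exact Q.mul_mem q'.2 (Q.inv_mem q.2)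
    rw [hd, Subgroup.mem_bot] at h2
    have hk : (k : G) = k' := by
      have := inv_mul_eq_one.mp h2
      exact this.symm
    have hq : (q : G) = q' := by
      rw [hk] at h0
      exact mul_left_cancel h0
    exact Prod.ext (Subtype.ext hk) (Subtype.ext hq)
  · rintro ⟨x, hx⟩
    have h := Subgroup.coe_mul_of_left_le_normalizer_right K Q hKQ
    have hx' : x ∈ ((K ⊔ Q : Subgroup G) : Set G) := hx
    rw [h, Set.mem_mul] at hx'
    obtain ⟨k, hk, q, hq, rfl⟩ := hx'
    exact ⟨(⟨k, hk⟩, ⟨q, hq⟩), rfl⟩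

/-- fixed points of a map of order dividing five on a finite type. -/
theorem card_modEq_card_fixed {α : Type*} [Finite α] (σ : α → α)
    (hσ : ∀ a, σ (σ (σ (σ (σ a)))) = a) :
    Nat.card α ≡ Nat.card {a : α // σ a = a} [MOD 5] := by
  classical
  have : Fintype α := Fintype.ofFinite α
  have : Fact (Nat.Prime 5) := ⟨by norm_num⟩
  let φ : Function.End α := σ
  have hφ : φ ^ 5 ^ 1 = 1 := by
    funext a
    rw [pow_one]
    exact hσ a
  have h1 := Equiv.Perm.card_fixedPoints_modEq (p := 5) (n := 1) hφ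
  rw [Nat.card_eq_fintype_card, Nat.card_eq_fintype_card]
  refine h1.trans ?_
  have : Fintype.card ↥(Function.fixedPoints φ) = Fintype.card {a : α // σ a = a} := by
    apply Fintype.card_congr
    exact Equiv.subtypeEquivRight (fun a => Iff.rfl)
  rw [this]

/-- double counting of commuting pairs between two conjugacy classes. -/
theorem card_commuting_classes [Finite G] (z t : G) :
    Nat.card {y : G // IsConj z y} * Nat.card {b : G // IsConj t b ∧ z * b = b * z} =
      Nat.card {y : G // IsConj t y} * Nat.card {a : G // IsConj z a ∧ a * t = t * a} := by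
  classical
  have : Fintype G := Fintype.ofFinite G
  simp only [Nat.card_eq_fintype_card, Fintype.card_subtype]
  set Kz := Finset.univ.filter (fun y : G => IsConj z y) with hKz
  set Kt := Finset.univ.filter (fun y : G => IsConj t y) with hKt
  have h := Finset.sum_card_bipartiteAbove_eq_sum_card_bipartiteBelow
    (s := Kz) (t := Kt) (r := fun a b : G => a * b = b * a)
  have hL : ∀ a ∈ Kz, (Kt.bipartiteAbove (fun a b : G => a * b = b * a) a).card =
      (Finset.univ.filter (fun b : G => IsConj t b ∧ z * b = b * z)).card := by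
    intro a ha
    rw [hKz, Finset.mem_filter] at ha
    obtain ⟨g, rfl⟩ := isConj_iff.mp ha.2
    symm
    apply Finset.card_bij (fun b _ => g * b * g⁻¹)
    · intro b hb
      rw [Finset.mem_filter] at hb
      unfold Finset.bipartiteAbove
      rw [Finset.mem_filter, hKt, Finset.mem_filter]
      refine ⟨⟨Finset.mem_univ _, hb.2.1.trans (isConj_iff.mpr ⟨g, rfl⟩)⟩, ?_⟩
      calc g * z * g⁻¹ * (g * b * g⁻¹) = g * (z * b) * g⁻¹ := by group
        _ = g * (b * z) * g⁻¹ := by rw [hb.2.2]
        _ = g * b * g⁻¹ * (g * z * g⁻¹) := by group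
    · intro b _ b' _ hbb
      exact mul_left_cancel (mul_right_cancel hbb)
    · intro b hb
      unfold Finset.bipartiteAbove at hb
      rw [Finset.mem_filter, hKt, Finset.mem_filter] at hb
      refine ⟨g⁻¹ * b * g, ?_, by group⟩
      rw [Finset.mem_filter]
      refine ⟨Finset.mem_univ _, hb.1.2.trans (isConj_iff.mpr ⟨g⁻¹, by group⟩), ?_⟩
      have h2 := hb.2
      calc z * (g⁻¹ * b * g) = g⁻¹ * (g * z * g⁻¹ * b) * g := by group
        _ = g⁻¹ * (b * (g * z * g⁻¹)) * g := by rw [h2]
        _ = g⁻¹ * b * g * z := by group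
  have hR : ∀ b ∈ Kt, (Kz.bipartiteBelow (fun a b : G => a * b = b * a) b).card =
      (Finset.univ.filter (fun a : G => IsConj z a ∧ a * t = t * a)).card := by
    intro b hb
    rw [hKt, Finset.mem_filter] at hb
    obtain ⟨g, rfl⟩ := isConj_iff.mp hb.2
    symm
    apply Finset.card_bij (fun a _ => g * a * g⁻¹)
    · intro a ha
      rw [Finset.mem_filter] at ha
      unfold Finset.bipartiteBelow
      rw [Finset.mem_filter, hKz, Finset.mem_filter]
      refine ⟨⟨Finset.mem_univ _, ha.2.1.trans (isConj_iff.mpr ⟨g, rfl⟩)⟩, ?_⟩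
      calc g * a * g⁻¹ * (g * t * g⁻¹) = g * (a * t) * g⁻¹ := by group
        _ = g * (t * a) * g⁻¹ := by rw [ha.2.2]
        _ = g * t * g⁻¹ * (g * a * g⁻¹) := by group
    · intro a _ a' _ haa
      exact mul_left_cancel (mul_right_cancel haa)
    · intro a ha
      unfold Finset.bipartiteBelow at ha
      rw [Finset.mem_filter, hKz, Finset.mem_filter] at ha
      refine ⟨g⁻¹ * a * g, ?_, by group⟩
      rw [Finset.mem_filter]
      refine ⟨Finset.mem_univ _, ha.1.2.trans (isConj_iff.mpr ⟨g⁻¹, by group⟩), ?_⟩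
      have h2 := ha.2
      calc g⁻¹ * a * g * t = g⁻¹ * (a * (g * t * g⁻¹)) * g := by group
        _ = g⁻¹ * (g * t * g⁻¹ * a) * g := by rw [h2]
        _ = t * (g⁻¹ * a * g) := by group
  rw [Finset.sum_const_nat hL, Finset.sum_const_nat hR] at h
  exact h

end Cfsg.Agent.Lib.Helper69_J2Gen
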