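import Mathlib
import Cfsg.Prelude.Def_CaseTheorems
import Cfsg.Agent.Lib.Helper69_J2A5
import Cfsg.Agent.Lib.Helper69_J2Gen

/-!
The two pair counts of the Thompson order formula for a group with the Hall-Janko involution
pattern (helper69): `n_t = 195` and `n_z = 960`.
-/

set_option autoImplicit false
open Cfsg

namespace Cfsg.Agent.Lib.Helper69_J2Main

open Cfsg.Agent.Lib.Helper69_J2A5 Cfsg.Agent.Lib.Helper69_J2Gen

variable {G : Type*} [Group G]

theorem inv_eq_self_of_order_two {x : G} (hx : orderOf x = 2) : x⁻¹ = x := by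
  have h2 : x ^ 2 = 1 := by rw [← hx]; exact pow_orderOf_eq_one x
  rw [inv_eq_iff_mul_eq_one, ← pow_two, h2]

theorem mul_self_of_order_two {x : G} (hx : orderOf x = 2) : x * x = 1 := by
  rw [← pow_two, ← hx]; exact pow_orderOf_eq_one x

theorem ne_one_of_order_two {x : G} (hx : orderOf x = 2) : x ≠ 1 := by
  rintro rfl
  simp at hx

theorem order_two_of {x : G} (h1 : x ≠ 1) (h2 : x * x = 1) : orderOf x = 2 := by
  have : Fact (Nat.Prime 2) := ⟨Nat.prime_two⟩
  exact orderOf_eq_prime (by rw [pow_two]; exact h2) h1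

theorem order_two_of_isConj {x y : G} (h : IsConj x y) (hx : orderOf x = 2) : orderOf y = 2 := by
  obtain ⟨c, rfl⟩ := isConj_iff.mp h
  have : c * x * c⁻¹ = MulAut.conj c x := by simp
  rw [this, MulEquiv.orderOf_eq]
  exact hx

/-- no elementary abelian subgroup of order eight in a group of 2-rank two -/
theorem no_e8 [Finite G] (Q : Subgroup G) (hrank : PRankLE 2 2 ↥Q) {a b c : G} (ha : a ∈ Q) (hb : b ∈ Q)
    (hc : c ∈ Q) (ha2 : a * a = 1) (hb2 : b * b = 1) (hc2 : c * c = 1) (hab : a * b = b * a)
    (hac : a * c = c * a) (hbc : b * c = c * b) (ha1 : a ≠ 1) (hb1 : b ≠ 1) (hba : b ≠ a)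
    (hc1 : c ≠ 1) (hca : c ≠ a) (hcb : c ≠ b) (hcab : c ≠ a * b) : False := by
  classical
  let a' : ↥Q := ⟨a, ha⟩
  let b' : ↥Q := ⟨b, hb⟩
  let c' : ↥Q := ⟨c, hc⟩
  set A : Subgroup ↥Q := Subgroup.closure ({a', b', c'} : Set ↥Q) with hA
  have hcomm : IsMulCommutative ↥A := by
    apply Subgroup.isMulCommutative_closure
    intro x hx y hy
    simp only [Set.mem_insert_iff, Set.mem_singleton_iff] at hx hy
    rcases hx with rfl | rfl | rfl <;> rcases hy with rfl | rfl | rfl
    · rfl
    · exact Subtype.ext hab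
    · exact Subtype.ext hac
    · exact Subtype.ext hab.symm
    · rfl
    · exact Subtype.ext hbc
    · exact Subtype.ext hac.symm
    · exact Subtype.ext hbc.symm
    · rfl
  have hexp : ∀ x ∈ A, x ^ 2 = 1 := by
    intro x hx
    induction hx using Subgroup.closure_induction with
    | mem y hy =>
      simp only [Set.mem_insert_iff, Set.mem_singleton_iff] at hy
      rcases hy with rfl | rfl | rfl
      · exact Subtype.ext (by rw [pow_two]; exact ha2)
      · exact Subtype.ext (by rw [pow_two]; exact hb2)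
      · exact Subtype.ext (by rw [pow_two]; exact hc2)
    | one => simp
    | mul x y hx hy ihx ihy =>
      have hxy : x * y = y * x := by
        have := hcomm.is_comm.comm ⟨x, hx⟩ ⟨y, hy⟩
        exact congrArg Subtype.val this
      rw [pow_two] at ihx ihy ⊢
      calc x * y * (x * y) = x * (y * x) * y := by group
        _ = x * (x * y) * y := by rw [hxy]
        _ = (x * x) * (y * y) := by group
        _ = 1 := by rw [ihx, ihy, one_mul]
    | inv x hx ih =>
      rw [inv_pow, ih, inv_one]
  have h4 := hrank A hcomm hexp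
  have haA : a' ∈ A := Subgroup.subset_closure (by simp)
  have hbA : b' ∈ A := Subgroup.subset_closure (by simp)
  have hcA : c' ∈ A := Subgroup.subset_closure (by simp)
  let S : Finset ↥Q := insert c' (insert (a' * b') (insert b' (insert a' {1})))
  have hS5 : S.card = 5 := by
    have e1 : a' ≠ 1 := fun h => ha1 (congrArg Subtype.val h)
    have e2 : b' ≠ 1 := fun h => hb1 (congrArg Subtype.val h)
    have e3 : b' ≠ a' := fun h => hba (congrArg Subtype.val h)
    have e4 : a' * b' ≠ 1 := fun h => by
      have h0 : a * b = 1 := congrArg Subtype.val h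
      apply hba
      calc b = a⁻¹ := (inv_eq_of_mul_eq_one_right h0).symm
        _ = a := inv_eq_of_mul_eq_one_right ha2
    have e5 : a' * b' ≠ a' := fun h => by
      have h0 : a * b = a := congrArg Subtype.val h
      exact hb1 (mul_left_cancel (h0.trans (mul_one a).symm))
    have e6 : a' * b' ≠ b' := fun h => by
      have h0 : a * b = b := congrArg Subtype.val h
      exact ha1 (mul_right_cancel (h0.trans (one_mul b).symm))
    have e7 : c' ≠ 1 := fun h => hc1 (congrArg Subtype.val h)
    have e8 : c' ≠ a' := fun h => hca (congrArg Subtype.val h)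
    have e9 : c' ≠ b' := fun h => hcb (congrArg Subtype.val h)
    have e10 : c' ≠ a' * b' := fun h => hcab (congrArg Subtype.val h)
    rw [Finset.card_insert_of_notMem, Finset.card_insert_of_notMem, Finset.card_insert_of_notMem,
      Finset.card_insert_of_notMem, Finset.card_singleton]
    · simp only [Finset.mem_singleton]; exact e1
    · simp only [Finset.mem_insert, Finset.mem_singleton, not_or]; exact ⟨e3, e2⟩
    · simp only [Finset.mem_insert, Finset.mem_singleton, not_or]; exact ⟨e6, e5, e4⟩
    · simp only [Finset.mem_insert, Finset.mem_singleton, not_or]; exact ⟨e10, e9, e8, e7⟩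
  have hSA : (↑S : Set ↥Q) ⊆ (A : Set ↥Q) := by
    intro x hx
    simp only [S, Finset.coe_insert, Finset.coe_singleton, Set.mem_insert_iff,
      Set.mem_singleton_iff] at hx
    rcases hx with rfl | rfl | rfl | rfl | rfl
    · exact hcA
    · exact A.mul_mem haA hbA
    · exact hbA
    · exact haA
    · exact A.one_mem
  have hfin : (A : Set ↥Q).Finite := Set.toFinite _
  have h5 := Set.ncard_le_ncard hSA hfin
  rw [Set.ncard_coe_finset, hS5] at h5
  have h6 : (A : Set ↥Q).ncard = Nat.card ↥A := (Nat.card_coe_set_eq (A : Set ↥Q)).symm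
  rw [h6] at h5
  omega

theorem pow_odd_of_mul_self {x : G} (hx : x * x = 1) {k : ℕ} (hk : Odd k) : x ^ k = x := by
  obtain ⟨m, rfl⟩ := hk
  rw [pow_succ, pow_mul, pow_two, hx, one_pow, one_mul]

section nt
variable [Finite G] (z t : G) (hz : orderOf z = 2) (ht : orderOf t = 2) (hzt : ¬ IsConj z t)
  (V B : Subgroup G) (hBt : ∀ b ∈ B, b * t = t * b)
  (hVBc : ∀ a ∈ V, ∀ b ∈ B, a * b = b * a) (hVB : V ⊓ B = ⊥)
  (hdec : ∀ c : G, c * t = t * c → ∃ a ∈ V, ∃ b ∈ B, c = a * b)
  (hV2 : ∀ v ∈ V, v ^ 2 = 1) (htV : t ∈ V)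
  (hBz : ∀ x ∈ B, orderOf x = 2 → IsConj x z)
  (hCt : ∀ x : G, x * t = t * x → orderOf x = 2 → x ∉ B → IsConj x t)
include ht hzt hBt hVBc hVB hdec hV2 htV hBz hCt

omit [Finite G] hzt in
theorem t_iff (u : G) (huB : u ∈ B) (hu : orderOf u = 2) (y : G) :
    (IsConj z u ∧ IsConj t y ∧ t ∈ Subgroup.zpowers (u * y)) ↔
      (t * y ∈ B ∧ (t * y) ^ 2 = 1 ∧ ∃ k : ℕ, Odd k ∧ (u * (t * y)) ^ k = 1) := by
  have htt := mul_self_of_order_two ht
  have ht1 := ne_one_of_order_two ht
  have huu := mul_self_of_order_two hu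
  have htB : t ∉ B := fun h => ht1 (by
    have : t ∈ V ⊓ B := Subgroup.mem_inf.mpr ⟨htV, h⟩
    rwa [hVB, Subgroup.mem_bot] at this)
  have hut : u * t = t * u := hBt u huB
  constructor
  · rintro ⟨-, h2, h3⟩
    have hy : orderOf y = 2 := order_two_of_isConj h2 ht
    have hyy := mul_self_of_order_two hy
    obtain ⟨-, hyt⟩ := commute_of_mem_zpowers_mul huu hyy h3 htt
    obtain ⟨a, ha, b, hb, rfl⟩ := hdec y hyt
    have hab := hVBc a ha b hb
    have ha2 : a * a = 1 := by
      have := hV2 a ha
      rwa [pow_two] at this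
    have hb2 : b * b = 1 := by
      have h : a * b * (a * b) = (a * a) * (b * b) := by
        calc a * b * (a * b) = a * (b * a) * b := by group
          _ = a * (a * b) * b := by rw [hab]
          _ = (a * a) * (b * b) := by group
      rw [h, ha2, one_mul] at hyy
      exact hyy
    have hua : u * a = a * u := (hVBc a ha u huB).symm
    have e1 : u * (a * b) = a * (u * b) := by
      rw [← mul_assoc, hua, mul_assoc]
    obtain ⟨k, hk⟩ := Subgroup.mem_zpowers_iff.mp h3
    rw [e1] at hk
    have hcom : Commute a (u * b) := by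
      show a * (u * b) = u * b * a
      rw [← mul_assoc, ← hua, mul_assoc, hab, mul_assoc]
    rw [hcom.mul_zpow] at hk
    have hubk : (u * b) ^ k = 1 := by
      have h1 : (u * b) ^ k ∈ B := B.zpow_mem (B.mul_mem huB hb) k
      have h2 : (u * b) ^ k ∈ V := by
        have : (u * b) ^ k = (a ^ k)⁻¹ * t := by rw [← hk]; group
        rw [this]
        exact V.mul_mem (V.inv_mem (V.zpow_mem ha k)) htV
      have : (u * b) ^ k ∈ V ⊓ B := Subgroup.mem_inf.mpr ⟨h2, h1⟩
      rwa [hVB, Subgroup.mem_bot] at this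
    rw [hubk, mul_one] at hk
    rcases Int.even_or_odd k with hev | hodd
    · exfalso
      obtain ⟨m, rfl⟩ := hev
      rw [zpow_add, ← (Commute.refl a).mul_zpow, ha2, one_zpow] at hk
      exact ht1 hk.symm
    · have hat : a = t := by
        obtain ⟨m, rfl⟩ := hodd
        rw [zpow_add, zpow_one, zpow_mul, zpow_two, ha2, one_zpow, one_mul] at hk
        exact hk
      have hb' : t * (a * b) = b := by rw [hat, ← mul_assoc, htt, one_mul]
      rw [hb']
      refine ⟨hb, by rw [pow_two]; exact hb2, k.natAbs, Int.natAbs_odd.mpr hodd, ?_⟩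
      have h1 : (orderOf (u * b) : ℤ) ∣ k := orderOf_dvd_iff_zpow_eq_one.mpr hubk
      have h2 : orderOf (u * b) ∣ k.natAbs := Int.natCast_dvd.mp h1
      exact orderOf_dvd_iff_pow_eq_one.mp h2
  · rintro ⟨hb, hb2, k, hk, hubk⟩
    set b := t * y with hbdef
    have hy : y = t * b := by rw [hbdef, ← mul_assoc, htt, one_mul]
    have hbt := hBt b hb
    have hbb : b * b = 1 := by rwa [pow_two] at hb2
    refine ⟨(hBz u huB hu).symm, ?_, ?_⟩
    · have hyt : y * t = t * y := by
        rw [hy, mul_assoc, hbt]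
      have hyy : y * y = 1 := by
        rw [hy]
        calc t * b * (t * b) = t * (b * t) * b := by group
          _ = t * (t * b) * b := by rw [hbt]
          _ = (t * t) * (b * b) := by group
          _ = 1 := by rw [htt, hbb, one_mul]
      have hy1 : y ≠ 1 := by
        intro h
        apply htB
        have : t = b⁻¹ := by
          rw [hy] at h
          exact eq_inv_of_mul_eq_one_left h
        rw [this]
        exact B.inv_mem hb
      have hyB : y ∉ B := by
        intro h
        apply htB
        have : t = y * b⁻¹ := by rw [hy]; group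
        rw [this]
        exact B.mul_mem h (B.inv_mem hb)
      exact (hCt y hyt (order_two_of hy1 hyy) hyB).symm
    · have e1 : u * y = t * (u * b) := by
        rw [hy, ← mul_assoc, hut, mul_assoc]
      have hcom : Commute t (u * b) := by
        show t * (u * b) = u * b * t
        rw [← mul_assoc, ← hut, mul_assoc, mul_assoc, hbt]
      have : (u * y) ^ k = t := by
        have hub : u * b = u * (t * y) := by rw [hbdef]
        rw [e1, hcom.mul_pow, hub, hubk, mul_one, pow_odd_of_mul_self htt hk]
      rw [← this]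
      exact Subgroup.pow_mem _ (Subgroup.mem_zpowers _) k

include hz in
theorem card_pairs_t (e : ↥B ≃* A5) :
    Nat.card {p : G × G // IsConj z p.1 ∧ IsConj t p.2 ∧ t ∈ Subgroup.zpowers (p.1 * p.2)} =
      195 := by
  classical
  have : Fintype G := Fintype.ofFinite G
  have htt := mul_self_of_order_two ht
  have key : ∀ u : G,
      Nat.card {y : G // IsConj z u ∧ IsConj t y ∧ t ∈ Subgroup.zpowers (u * y)} =
        if (u ∈ B ∧ orderOf u = 2) then 13 else 0 := by
    intro u
    split_ifs with hu
    · rw [← sub_card_odd_partners e u hu.1 hu.2]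
      apply Nat.card_congr
      exact Equiv.subtypeEquiv (Equiv.mulLeft t)
        (fun y => t_iff z t ht V B hBt hVBc hVB hdec hV2 htV hBz hCt u hu.1 hu.2 y)
    · rw [Nat.card_eq_zero]
      left
      constructor
      rintro ⟨y, h1, h2, h3⟩
      apply hu
      have hu2 : orderOf u = 2 := order_two_of_isConj h1 hz
      have hy2 : orderOf y = 2 := order_two_of_isConj h2 ht
      obtain ⟨hut, -⟩ := commute_of_mem_zpowers_mul (mul_self_of_order_two hu2)
        (mul_self_of_order_two hy2) h3 htt
      refine ⟨?_, hu2⟩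
      by_contra huB
      exact hzt (h1.trans (hCt u hut hu2 huB))
  rw [Nat.card_congr (Equiv.subtypeProdEquivSigmaSubtype
    (fun (a b : G) => IsConj z a ∧ IsConj t b ∧ t ∈ Subgroup.zpowers (a * b))), Nat.card_sigma]
  simp_rw [key]
  rw [Finset.sum_ite, Finset.sum_const_zero, add_zero, Finset.sum_const, smul_eq_mul]
  have h15 := sub_card_invs e
  rw [Nat.card_eq_fintype_card, Fintype.card_subtype] at h15
  rw [h15]

end nt

omit [Group G] in
theorem card_and_not [Finite G] (A C : G → Prop) :
    Nat.card {u : G // A u ∧ ¬ C u} + Nat.card {u : G // A u ∧ C u} = Nat.card {u : G // A u} := by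
  classical
  have e : {u : G // A u} ≃ {x : {u : G // A u} // C x.1} ⊕ {x : {u : G // A u} // ¬ C x.1} :=
    (Equiv.sumCompl (fun x : {u : G // A u} => C x.1)).symm
  rw [Nat.card_congr e, Nat.card_sum,
    Nat.card_congr (Equiv.subtypeSubtypeEquivSubtypeInter A C),
    Nat.card_congr (Equiv.subtypeSubtypeEquivSubtypeInter A (fun u => ¬ C u))]
  exact add_comm _ _

section nz
variable [Finite G] (z t : G) (hz : orderOf z = 2) (ht : orderOf t = 2) (hzt : ¬ IsConj z t)
  (Q : Subgroup G) (hQc : ∀ q ∈ Q, q * z = z * q)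
  (hQn : ∀ c : G, c * z = z * c → ∀ q ∈ Q, c * q * c⁻¹ ∈ Q) (hzQ : z ∈ Q)
  (hQz : ∀ x ∈ Q, orderOf x = 2 → IsConj x z)
  (hCz : ∀ x : G, x * z = z * x → orderOf x = 2 → x ∉ Q → IsConj x t)
  (hsq : ∀ q ∈ Q, q * q = 1 ∨ q * q = z) (hrank : PRankLE 2 2 ↥Q)
include hz ht hzt hQc hQn hzQ hQz hCz hsq hrank

theorem z_iff (v : G) (hv : IsConj t v) (hvz : z * v = v * z) (u : G) :
    (IsConj z u ∧ IsConj t v ∧ z ∈ Subgroup.zpowers (u * v)) ↔
      ((u ∈ Q ∧ orderOf u = 2) ∧ ¬ u * v = v * u) := by
  have hzz := mul_self_of_order_two hz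
  have hz1 := ne_one_of_order_two hz
  have hv2 : orderOf v = 2 := order_two_of_isConj hv ht
  have hvv := mul_self_of_order_two hv2
  have hvi := inv_eq_self_of_order_two hv2
  constructor
  · rintro ⟨h1, -, h3⟩
    have hu2 : orderOf u = 2 := order_two_of_isConj h1 hz
    have huu := mul_self_of_order_two hu2
    obtain ⟨huz, -⟩ := commute_of_mem_zpowers_mul huu hvv h3 hzz
    have huQ : u ∈ Q := by
      by_contra h
      exact hzt (h1.trans (hCz u huz hu2 h))
    refine ⟨⟨huQ, hu2⟩, ?_⟩
    intro hc
    have hxx : u * v * (u * v) = 1 := by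
      calc u * v * (u * v) = u * (v * u) * v := by group
        _ = u * (u * v) * v := by rw [hc]
        _ = (u * u) * (v * v) := by group
        _ = 1 := by rw [huu, hvv, one_mul]
    obtain ⟨k, hk⟩ := Subgroup.mem_zpowers_iff.mp h3
    rcases Int.even_or_odd k with hev | hodd
    · obtain ⟨m, rfl⟩ := hev
      rw [zpow_add, ← (Commute.refl (u * v)).mul_zpow, hxx, one_zpow] at hk
      exact hz1 hk.symm
    · obtain ⟨m, rfl⟩ := hodd
      rw [zpow_add, zpow_one, zpow_mul, zpow_two, hxx, one_zpow, one_mul] at hk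
      have hvQ : v ∈ Q := by
        have : v = u⁻¹ * z := by rw [← hk]; group
        rw [this]
        exact Q.mul_mem (Q.inv_mem huQ) hzQ
      exact hzt (hv.trans (hQz v hvQ hv2)).symm
  · rintro ⟨⟨huQ, hu2⟩, hnc⟩
    have huu := mul_self_of_order_two hu2
    have hu1 := ne_one_of_order_two hu2
    refine ⟨(hQz u huQ hu2).symm, hv, ?_⟩
    set u' := v * u * v⁻¹ with hu'
    have hu'Q : u' ∈ Q := hQn v hvz.symm u huQ
    have hu'u' : u' * u' = 1 := by
      rw [hu']
      calc v * u * v⁻¹ * (v * u * v⁻¹) = v * (u * u) * v⁻¹ := by group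
        _ = 1 := by rw [huu]; group
    have hsq2 : (u * v) ^ 2 = u * u' := by
      rw [hu', hvi, pow_two]
      group
    have hne : u' ≠ u := by
      intro h
      apply hnc
      rw [hu'] at h
      calc u * v = (v * u * v⁻¹) * v := by rw [h]
        _ = v * u := by group
    have hwQ : u * u' ∈ Q := Q.mul_mem huQ hu'Q
    rcases hsq (u * u') hwQ with h | h
    · by_cases hwz : u * u' = z
      · rw [← hwz, ← hsq2]
        exact Subgroup.pow_mem _ (Subgroup.mem_zpowers _) 2
      · exfalso
        have hcomm : u * u' = u' * u := by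
          have h1 : (u * u')⁻¹ = u * u' := inv_eq_of_mul_eq_one_right h
          rw [mul_inv_rev, inv_eq_of_mul_eq_one_right huu, inv_eq_of_mul_eq_one_right hu'u'] at h1
          exact h1.symm
        have huz : u ≠ z := by
          intro h
          apply hnc
          rw [h]
          exact hvz
        have hu'1 : u' ≠ 1 := by
          intro h
          apply hu1
          rw [hu'] at h
          calc u = v⁻¹ * (v * u * v⁻¹) * v := by group
            _ = 1 := by rw [h]; group
        have hu'z : u' ≠ z := by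
          intro h
          apply huz
          rw [hu'] at h
          calc u = v⁻¹ * (v * u * v⁻¹) * v := by group
            _ = v⁻¹ * z * v := by rw [h]
            _ = v⁻¹ * (z * v) := by group
            _ = v⁻¹ * (v * z) := by rw [hvz]
            _ = z := by group
        have hu'zu : u' ≠ z * u := by
          intro h
          apply hwz
          rw [h, ← mul_assoc, hQc u huQ, mul_assoc, huu, mul_one]
        exact no_e8 Q hrank hzQ huQ hu'Q hzz huu hu'u' (hQc u huQ).symm (hQc u' hu'Q).symm hcomm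
          hz1 hu1 huz hu'1 hu'z hne hu'zu
    · have : (u * v) ^ 4 = z := by
        have e4 : (u * v) ^ 4 = (u * v) ^ 2 * (u * v) ^ 2 := by
          rw [← pow_add]
        rw [e4, hsq2, h]
      rw [← this]
      exact Subgroup.pow_mem _ (Subgroup.mem_zpowers _) 4

theorem card_pairs_z (hinv : Nat.card {x : G // x ∈ Q ∧ orderOf x = 2} = 11)
    (hout : Nat.card {v : G // IsConj t v ∧ z * v = v * z} = 120)
    (hcomm : ∀ v : G, IsConj t v → z * v = v * z →
      Nat.card {u : G // (u ∈ Q ∧ orderOf u = 2) ∧ u * v = v * u} = 3) :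
    Nat.card {p : G × G // IsConj z p.1 ∧ IsConj t p.2 ∧ z ∈ Subgroup.zpowers (p.1 * p.2)} =
      960 := by
  classical
  have : Fintype G := Fintype.ofFinite G
  have hzz := mul_self_of_order_two hz
  have key : ∀ v : G,
      Nat.card {u : G // IsConj z u ∧ IsConj t v ∧ z ∈ Subgroup.zpowers (u * v)} =
        if (IsConj t v ∧ z * v = v * z) then 8 else 0 := by
    intro v
    split_ifs with hv
    · rw [Nat.card_congr (Equiv.subtypeEquivRight
        (z_iff z t hz ht hzt Q hQc hQn hzQ hQz hCz hsq hrank v hv.1 hv.2))]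
      have h1 := card_and_not (fun u : G => u ∈ Q ∧ orderOf u = 2) (fun u : G => u * v = v * u)
      rw [hinv, hcomm v hv.1 hv.2] at h1
      omega
    · rw [Nat.card_eq_zero]
      left
      constructor
      rintro ⟨u, h1, h2, h3⟩
      apply hv
      have hu2 : orderOf u = 2 := order_two_of_isConj h1 hz
      have hv2 : orderOf v = 2 := order_two_of_isConj h2 ht
      obtain ⟨-, hvz⟩ := commute_of_mem_zpowers_mul (mul_self_of_order_two hu2)
        (mul_self_of_order_two hv2) h3 hzz
      exact ⟨h2, hvz.symm⟩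
  have e1 : {p : G × G // IsConj z p.1 ∧ IsConj t p.2 ∧ z ∈ Subgroup.zpowers (p.1 * p.2)} ≃
      {p : G × G // IsConj z p.2 ∧ IsConj t p.1 ∧ z ∈ Subgroup.zpowers (p.2 * p.1)} :=
    (Equiv.prodComm G G).subtypeEquiv (fun p => Iff.rfl)
  rw [Nat.card_congr e1, Nat.card_congr (Equiv.subtypeProdEquivSigmaSubtype
    (fun (b a : G) => IsConj z a ∧ IsConj t b ∧ z ∈ Subgroup.zpowers (a * b))), Nat.card_sigma]
  simp_rw [key]
  rw [Finset.sum_ite, Finset.sum_const_zero, add_zero, Finset.sum_const, smul_eq_mul]
  rw [Nat.card_eq_fintype_card, Fintype.card_subtype] at hout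
  rw [hout]

end nz

end Cfsg.Agent.Lib.Helper69_J2Main
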