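import Mathlib
import Cfsg.Prelude.Def_CaseTheorems
import Cfsg.Agent.S5396
import Cfsg.Agent.Lib.Helper89_ESClass

/-!
2-ranks and numbers of involutions of the two standard extraspecial 2-groups, in the form of
`Cfsg.PRankLE` (helper89).
-/

set_option autoImplicit false
open Cfsg

namespace Cfsg.Agent.Lib.Helper89_ESRank

open Cfsg.Agent.S5396 Cfsg.Agent.Lib.Helper89_ESClass

/-- `PRankLE` is invariant under isomorphism. -/
theorem prankLE_congr {G H : Type*} [Group G] [Group H] (Φ : G ≃* H) {p k : ℕ}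
    (h : PRankLE p k G) : PRankLE p k H := by
  intro A hA hexp
  have hinj : Function.Injective Φ.symm.toMonoidHom := Φ.symm.injective
  have h1 := h (A.map Φ.symm.toMonoidHom) ?_ ?_
  · rwa [Subgroup.card_map_of_injective hinj] at h1
  · rw [← Subgroup.le_centralizer_iff_isMulCommutative]
    rintro _ ⟨a, ha, rfl⟩
    rw [Subgroup.mem_centralizer_iff]
    rintro _ ⟨b, hb, rfl⟩
    have hAc : A ≤ Subgroup.centralizer (A : Set H) :=
      Subgroup.le_centralizer_iff_isMulCommutative.mpr hA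
    have := (Subgroup.mem_centralizer_iff.1 (hAc ha)) b hb
    show Φ.symm b * Φ.symm a = Φ.symm a * Φ.symm b
    rw [← map_mul, ← map_mul, this]
  · rintro _ ⟨a, ha, rfl⟩
    show (Φ.symm a) ^ p = 1
    rw [← map_pow, hexp a ha, map_one]

theorem prankLE_plus (n : ℕ) : PRankLE 2 (n + 1) (ES n 0) := by
  intro A hA _
  exact ES.card_le_of_comm A hA

theorem not_prankLE_plus (n : ℕ) : ¬ PRankLE 2 n (ES n 0) := by
  intro h
  have h1 := h (ES.stdSub n 0) ES.stdSub_elementary.1 ES.stdSub_elementary.2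
  rw [ES.card_stdSub] at h1
  simp only [Pi.zero_apply, if_true, Finset.prod_const, Finset.card_univ, Fintype.card_fin] at h1
  have : 2 ^ n < 2 ^ n * 2 := by
    have : 0 < 2 ^ n := by positivity
    omega
  omega

theorem card_ne_minus (n : ℕ) (hn : 1 ≤ n) (A : Subgroup (ES n (Pi.single (⟨0, hn⟩ : Fin n) (1 : ZMod 2))))
    (hA : Cfsg.IsElementaryAbelian 2 A) : Nat.card A ≠ 2 ^ (n + 1) := by
  intro hk
  have h3 := ES.card_sq_of_plus A hA hk
  have h4 := ES.card_sq_eq_one (n := n) (e := Pi.single ⟨0, hn⟩ 1)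
  rw [ES.prod_single] at h4
  have h5 : (2 : ℤ) * (Nat.card {x : ES n (Pi.single ⟨0, hn⟩ 1) // x ^ 2 = 1} : ℤ) =
      2 ^ (2 * n + 1) + 2 ^ (n + 1) := by exact_mod_cast h3
  rw [h4] at h5
  have h6 : (2 : ℤ) ^ (2 * n + 1) = 2 * 4 ^ n := by
    rw [pow_succ, pow_mul]; norm_num; ring
  have h7 : (2 : ℤ) ^ (n + 1) = 4 * 2 ^ (n - 1) := by
    obtain ⟨m, rfl⟩ : ∃ m, n = m + 1 := ⟨n - 1, by omega⟩
    simp [pow_succ]; ring
  have h8 : (0 : ℤ) < 2 ^ (n - 1) := by positivity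
  rw [h6, h7] at h5
  linarith

theorem prankLE_minus (n : ℕ) (hn : 1 ≤ n) :
    PRankLE 2 n (ES n (Pi.single (⟨0, hn⟩ : Fin n) (1 : ZMod 2))) := by
  intro A hA hexp
  have : Fact (Nat.Prime 2) := ⟨Nat.prime_two⟩
  obtain ⟨k, hk⟩ := (ES.isPGroup.to_subgroup A).exists_card_eq
  have h1 := ES.card_le_of_comm A hA
  rw [hk] at h1 ⊢
  have h2 : k ≤ n + 1 := (Nat.pow_le_pow_iff_right (by norm_num)).mp h1
  have h3 : k ≠ n + 1 := by
    intro h
    rw [h] at hk
    exact card_ne_minus n hn A ⟨hA, hexp⟩ hk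
  exact Nat.pow_le_pow_right (by norm_num) (by omega)

theorem not_prankLE_minus (n : ℕ) (hn : 1 ≤ n) :
    ¬ PRankLE 2 (n - 1) (ES n (Pi.single (⟨0, hn⟩ : Fin n) (1 : ZMod 2))) := by
  intro h
  have h1 := h (ES.stdSub n _) ES.stdSub_elementary.1 ES.stdSub_elementary.2
  rw [ES.card_stdSub, ES.prod_single, one_mul, ← pow_succ] at h1
  have h2 : n - 1 + 1 ≤ n - 1 := (Nat.pow_le_pow_iff_right (by norm_num)).mp h1
  omega

/-! ### the number of solutions of `x ^ 2 = 1` -/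

theorem card_sq_congr {G H : Type*} [Group G] [Group H] (Φ : G ≃* H) :
    Nat.card {x : G // x ^ 2 = 1} = Nat.card {x : H // x ^ 2 = 1} := by
  refine Nat.card_congr (Φ.toEquiv.subtypeEquiv fun x => ?_)
  constructor
  · intro h
    show (Φ x) ^ 2 = 1
    rw [← map_pow, h, map_one]
  · intro h
    have h1 : Φ (x ^ 2) = Φ 1 := by rw [map_pow, map_one]; exact h
    exact Φ.injective h1

theorem card_sq_plus (n : ℕ) : Nat.card {x : ES n 0 // x ^ 2 = 1} = 2 ^ (2 * n) + 2 ^ n := by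
  have h := ES.card_sq_eq_one (n := n) (e := 0)
  simp only [Pi.zero_apply, if_true, Finset.prod_const, Finset.card_univ, Fintype.card_fin] at h
  have h2 : (4 : ℤ) ^ n = 2 ^ (2 * n) := by rw [pow_mul]; norm_num
  rw [h2] at h
  exact_mod_cast h

theorem card_sq_minus (n : ℕ) (hn : 1 ≤ n) :
    Nat.card {x : ES n (Pi.single (⟨0, hn⟩ : Fin n) (1 : ZMod 2)) // x ^ 2 = 1} =
      2 ^ (2 * n) - 2 ^ n := by
  have h := ES.card_sq_eq_one (n := n) (e := Pi.single ⟨0, hn⟩ 1)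
  rw [ES.prod_single] at h
  have h2 : (4 : ℤ) ^ n = 2 ^ (2 * n) := by rw [pow_mul]; norm_num
  have h3 : (-2 : ℤ) * 2 ^ (n - 1) = - 2 ^ n := by
    obtain ⟨m, rfl⟩ : ∃ m, n = m + 1 := ⟨n - 1, by omega⟩
    simp [pow_succ]
    ring
  rw [h2, h3] at h
  have h4 : 2 ^ n ≤ 2 ^ (2 * n) := Nat.pow_le_pow_right (by norm_num) (by omega)
  zify [h4]
  linarith

/-- an extraspecial group is not of order two -/
theorem one_le_of_iso {E : Type*} [Group E] [Finite E] (h : IsExtraspecial 2 E) {m : ℕ}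
    {e : Fin m → ZMod 2} (Φ : ES m e ≃* E) : 1 ≤ m := by
  by_contra hm
  have hm0 : m = 0 := by omega
  subst hm0
  have hc : Nat.card E = 2 := by rw [card_eq_of_iso Φ]; norm_num
  obtain ⟨⟨-, -, hcm⟩, hz⟩ := h
  have htop : Subgroup.center E = ⊤ := Subgroup.eq_top_of_card_eq _ (by rw [hz, hc])
  have hbot : commutator E = ⊥ := (commutator_eq_bot_iff_center_eq_top E).2 htop
  rw [hcm] at hbot
  rw [hbot] at hz
  simp at hz

end Cfsg.Agent.Lib.Helper89_ESRank
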