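import Mathlib
import Cfsg.Prelude.Def_Transfer
import Cfsg.Prelude.Def_CaseTheorems
import Cfsg.Agent.S5396
import Cfsg.Agent.Lib.Helper89_ESClass
import Cfsg.Agent.Lib.Helper89_ESRank
import Cfsg.Agent.Lib.Helper69_J2Gen

/-!
An extraspecial group of order 32 admitting an automorphism of order five that centralizes the
centre is of minus type: eleven involutions, 2-rank two (helper69).
-/

set_option autoImplicit false
open Cfsg

namespace Cfsg.Agent.Lib.Helper69_J2Q

open Cfsg.Agent.S5396 Cfsg.Agent.Lib.Helper89_ESClass Cfsg.Agent.Lib.Helper89_ESRank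
open Cfsg.Agent.Lib.Helper69_J2Gen

variable {G : Type*} [Group G]

/-- divisors of 32 congruent to 2 modulo 5 -/
theorem eq_two_or_of_dvd {d : ℕ} (hd : d ∣ 32) (hm : 32 ≡ d [MOD 5]) : d = 2 ∨ d = 32 := by
  have h32 : (32 : ℕ) = 2 ^ 5 := by norm_num
  rw [h32] at hd
  obtain ⟨m, hm5, rfl⟩ := (Nat.dvd_prime_pow Nat.prime_two).mp hd
  unfold Nat.ModEq at hm
  interval_cases m <;> simp_all

/-- counting the solutions of `x ^ 2 = 1` with and without the identity -/
theorem card_sq_eq_succ {H : Type*} [Group H] [Finite H] :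
    Nat.card {x : H // x ^ 2 = 1} = Nat.card {x : H // orderOf x = 2} + 1 := by
  classical
  have : Fintype H := Fintype.ofFinite H
  have : Fact (Nat.Prime 2) := ⟨Nat.prime_two⟩
  simp only [Nat.card_eq_fintype_card, Fintype.card_subtype]
  have h1 : (Finset.univ.filter (fun x : H => orderOf x = 2)) =
      (Finset.univ.filter (fun x : H => x ^ 2 = 1)).erase 1 := by
    ext x
    rw [Finset.mem_erase, Finset.mem_filter, Finset.mem_filter, orderOf_eq_prime_iff]
    tauto
  rw [h1, Finset.card_erase_of_mem (by simp)]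
  have : 0 < (Finset.univ.filter (fun x : H => x ^ 2 = 1)).card :=
    Finset.card_pos.mpr ⟨1, by simp⟩
  omega

theorem minus_type [Finite G] (Q : Subgroup G) (hES : IsExtraspecial 2 ↥Q)
    (hcard : Nat.card ↥Q = 32) (z : G) (hzQ : z ∈ Q) (hz : orderOf z = 2)
    (hzc : ∀ q ∈ Q, z * q = q * z) (f : G) (hf : orderOf f = 5) (hfz : f * z = z * f)
    (hfQ : ∀ q ∈ Q, f * q * f⁻¹ ∈ Q) (hnc : ¬ ∀ q ∈ Q, f * q = q * f) :
    Nat.card {x : G // x ∈ Q ∧ orderOf x = 2} = 11 ∧ PRankLE 2 2 ↥Q ∧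
      ∀ q ∈ Q, q * q = 1 ∨ q * q = z := by
  classical
  have hf5 : f ^ 5 = 1 := by rw [← hf]; exact pow_orderOf_eq_one f
  have hz1 : z ≠ 1 := by
    rintro rfl
    simp at hz
  -- the conjugation map on `Q`
  let σ : ↥Q → ↥Q := fun x => ⟨f * x * f⁻¹, hfQ x x.2⟩
  have hσ5 : ∀ a, σ (σ (σ (σ (σ a)))) = a := by
    intro a
    apply Subtype.ext
    show f * (f * (f * (f * (f * (a : G) * f⁻¹) * f⁻¹) * f⁻¹) * f⁻¹) * f⁻¹ = a
    have e5 : f * f * f * f * f = 1 := by
      rw [← hf5]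
      simp only [pow_succ, pow_zero, one_mul]
    calc f * (f * (f * (f * (f * (a : G) * f⁻¹) * f⁻¹) * f⁻¹) * f⁻¹) * f⁻¹
        = (f * f * f * f * f) * a * (f * f * f * f * f)⁻¹ := by group
      _ = a := by rw [e5]; group
  -- the centralizer of `f` in `Q` has order two
  set D : Subgroup G := Q ⊓ Subgroup.centralizer {f} with hD
  have hfix : Nat.card {a : ↥Q // σ a = a} = Nat.card ↥D := by
    apply Nat.card_congr
    refine ⟨fun a => ⟨a.1.1, Subgroup.mem_inf.mpr ⟨a.1.2, ?_⟩⟩,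
      fun d => ⟨⟨d.1, (Subgroup.mem_inf.mp d.2).1⟩, ?_⟩, fun a => rfl, fun d => rfl⟩
    · have h := congrArg Subtype.val a.2
      change f * (a.1 : G) * f⁻¹ = a.1 at h
      rw [Subgroup.mem_centralizer_singleton_iff]
      calc (a.1 : G) * f = (f * (a.1 : G) * f⁻¹) * f := by rw [h]
        _ = f * a.1 := by group
    · apply Subtype.ext
      show f * (d : G) * f⁻¹ = d
      have h := Subgroup.mem_centralizer_singleton_iff.mp (Subgroup.mem_inf.mp d.2).2
      rw [← h]
      group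
  have hmod := card_modEq_card_fixed σ hσ5
  rw [hcard, hfix] at hmod
  have hDdvd : Nat.card ↥D ∣ 32 := by
    rw [← hcard]
    exact Subgroup.card_dvd_of_le inf_le_left
  have hD2 : Nat.card ↥D = 2 := by
    rcases eq_two_or_of_dvd hDdvd hmod with h | h
    · exact h
    · exfalso
      apply hnc
      have hDQ : D = Q := by
        apply Subgroup.eq_of_le_of_card_ge inf_le_left
        rw [h, hcard]
      intro q hq
      rw [← hDQ] at hq
      exact (Subgroup.mem_centralizer_singleton_iff.mp (Subgroup.mem_inf.mp hq).2).symm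
  -- the solutions of `x ^ 2 = 1` in `Q`
  let τ : {x : ↥Q // x ^ 2 = 1} → {x : ↥Q // x ^ 2 = 1} := fun x => ⟨σ x.1, by
    apply Subtype.ext
    show (f * (x.1 : G) * f⁻¹) ^ 2 = 1
    have h := congrArg Subtype.val x.2
    change ((x.1 : ↥Q) : G) ^ 2 = 1 at h
    rw [conj_pow, h]
    group⟩
  have hτ5 : ∀ a, τ (τ (τ (τ (τ a)))) = a := by
    intro a
    apply Subtype.ext
    exact hσ5 a.1
  have hmodT := card_modEq_card_fixed τ hτ5
  have hfixT : Nat.card {a : {x : ↥Q // x ^ 2 = 1} // τ a = a} ≤ 2 := by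
    have hle : Nat.card {a : {x : ↥Q // x ^ 2 = 1} // τ a = a} ≤
        Nat.card {a : ↥Q // σ a = a} := ?_
    · rw [hfix, hD2] at hle
      exact hle
    apply Nat.card_le_card_of_injective
      (fun a : {a : {x : ↥Q // x ^ 2 = 1} // τ a = a} =>
        (⟨a.1.1, congrArg Subtype.val a.2⟩ : {a : ↥Q // σ a = a}))
    intro a b hab
    apply Subtype.ext
    apply Subtype.ext
    exact congrArg (fun y : {a : ↥Q // σ a = a} => (y.1 : ↥Q)) hab
  have hfixT1 : 0 < Nat.card {a : {x : ↥Q // x ^ 2 = 1} // τ a = a} := by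
    apply Nat.card_pos_iff.mpr
    refine ⟨⟨⟨⟨1, by simp⟩, ?_⟩⟩, inferInstance⟩
    apply Subtype.ext
    apply Subtype.ext
    show f * ((1 : ↥Q) : G) * f⁻¹ = ((1 : ↥Q) : G)
    simp
  -- the isomorphism type
  have hminus : ∃ hm : 1 ≤ 2, Nonempty (ES 2 (Pi.single (⟨0, hm⟩ : Fin 2) (1 : ZMod 2)) ≃* ↥Q) := by
    obtain ⟨m, hm⟩ := exists_iso_of_isExtraspecial hES
    rcases hm with ⟨⟨Φ⟩⟩ | ⟨hm1, ⟨Φ⟩⟩
    · exfalso
      have hc := card_eq_of_iso Φ
      rw [hcard] at hc
      have hm2 : m = 2 := by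
        have : (2 : ℕ) ^ (2 * 2 + 1) = 2 ^ (2 * m + 1) := by rw [← hc]; norm_num
        exact (eq_of_card_eq this).symm
      subst hm2
      have h20 : Nat.card {x : ↥Q // x ^ 2 = 1} = 20 := by
        rw [← card_sq_congr Φ, card_sq_plus]
        norm_num
      rw [h20] at hmodT
      unfold Nat.ModEq at hmodT
      omega
    · have hc := card_eq_of_iso Φ
      rw [hcard] at hc
      have hm2 : m = 2 := by
        have : (2 : ℕ) ^ (2 * 2 + 1) = 2 ^ (2 * m + 1) := by rw [← hc]; norm_num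
        exact (eq_of_card_eq this).symm
      subst hm2
      exact ⟨hm1, ⟨Φ⟩⟩
  obtain ⟨hm1, ⟨Φ⟩⟩ := hminus
  refine ⟨?_, prankLE_congr Φ (prankLE_minus 2 hm1), ?_⟩
  · have h12 : Nat.card {x : ↥Q // x ^ 2 = 1} = 12 := by
      rw [← card_sq_congr Φ, card_sq_minus 2 hm1]
      norm_num
    have h11 : Nat.card {x : ↥Q // orderOf x = 2} = 11 := by
      have := card_sq_eq_succ (H := ↥Q)
      omega
    rw [← h11]
    apply Nat.card_congr
    refine (Equiv.subtypeSubtypeEquivSubtypeInter (fun u : G => u ∈ Q)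
      (fun u : G => orderOf u = 2)).symm.trans ?_
    exact Equiv.subtypeEquivRight (fun u => by rw [Subgroup.orderOf_coe])
  · obtain ⟨z₀, hz₀⟩ := isES2_of_isExtraspecial hES
    have hzz₀ : z₀ = ⟨z, hzQ⟩ := by
      have hcen : ∀ h : ↥Q, (⟨z, hzQ⟩ : ↥Q) * h = h * ⟨z, hzQ⟩ := by
        intro h
        apply Subtype.ext
        exact hzc h h.2
      rcases (hz₀.center ⟨z, hzQ⟩).mp hcen with h | h
      · exact absurd (congrArg Subtype.val h) hz1
      · exact h.symm
    intro q hq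
    rcases hz₀.sqs ⟨q, hq⟩ with h | h
    · left
      exact congrArg Subtype.val h
    · right
      rw [hzz₀] at h
      exact congrArg Subtype.val h

end Cfsg.Agent.Lib.Helper69_J2Q
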