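import Mathlib
import Cfsg.Prelude.Def_MonsterType
import Cfsg.Agent.Lib.Helper21_Components
import Cfsg.Agent.Lib.Helper22_Layer
import Cfsg.Agent.Lib.Helper29_Local
import Cfsg.Agent.Lib.Helper1_Cores
import Cfsg.Agent.Lib.Helper1_Frattini
import Cfsg.Agent.Lib.Helper32_PGroup

/-!
Helper library (helper69): large extraspecial 2-subgroups, part 1.

The working hypotheses `LargeES Q z` extracted from `Cfsg.IsLargeExtraspecial Q` with
`Z(Q) = ⟨z⟩`, and the first consequences: `z` lies in every nontrivial subgroup of a Sylow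
2-subgroup `S ≥ Q` which is normal in `S`; no component centralizes `z`; `F(G) = O_2(G)`;
if `O_2(G) ≠ 1` then the normal closure of `z` is abelian and `F*(G) = O_2(G)`.
-/

set_option autoImplicit false
open Cfsg
open scoped commutatorElement

namespace Cfsg.Agent.Lib.Helper69_LESBase

universe u

/-- elements of a cyclic group generated by an involution -/
theorem mem_zpowers_invol {G : Type*} [Group G] {z y : G} (hz : z * z = 1)
    (hy : y ∈ Subgroup.zpowers z) : y = 1 ∨ y = z := by
  obtain ⟨k, rfl⟩ := Subgroup.mem_zpowers_iff.mp hy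
  have h2 : z ^ (2 : ℤ) = 1 := by
    rw [zpow_two]; exact hz
  rcases Int.emod_two_eq_zero_or_one k with h | h
  · left
    have : k = 2 * (k / 2) := by omega
    rw [this, zpow_mul, h2, one_zpow]
  · right
    have : k = 2 * (k / 2) + 1 := by omega
    rw [this, zpow_add, zpow_mul, h2, one_zpow, one_mul, zpow_one]

/-- the working hypotheses extracted from a large extraspecial subgroup `Q` with `Z(Q) = ⟨z⟩` -/
structure LargeES {G : Type u} [Group G] (Q : Subgroup G) (z : G) : Prop where
  two : IsPGroup 2 Q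
  zQ : z ∈ Q
  z1 : z ≠ 1
  zz : z * z = 1
  zc : ∀ q ∈ Q, q * z = z * q
  cent : ∀ x : G, (∀ q ∈ Q, q * x = x * q) → x = 1 ∨ x = z
  norm : ∀ g : G, g * z = z * g → ∀ q ∈ Q, g * q * g⁻¹ ∈ Q
  comm : ∀ a ∈ Q, ∀ b ∈ Q, a * b * a⁻¹ * b⁻¹ = 1 ∨ a * b * a⁻¹ * b⁻¹ = z
  sq : ∀ a ∈ Q, a * a = 1 ∨ a * a = z
  odd : ∀ K : Subgroup G, Odd (Nat.card K) → Q ≤ Subgroup.normalizer (K : Set G) → K = ⊥

theorem les_of_large {G : Type u} [Group G] [Finite G] (Q : Subgroup G)
    (hQ : Cfsg.IsLargeExtraspecial Q) (z : G)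
    (hz : ((Subgroup.center ↥Q).map Q.subtype) = Subgroup.zpowers z) : LargeES Q z := by
  obtain ⟨hL1, hL2, hL3, hL4⟩ := hQ
  have : Fact (Nat.Prime 2) := ⟨Nat.prime_two⟩
  have hQ2 : IsPGroup 2 Q := hL1.1.1
  have hfr : frattini ↥Q = Subgroup.center ↥Q := hL1.1.2.1
  have hco : commutator ↥Q = Subgroup.center ↥Q := hL1.1.2.2
  have hcardZ : Nat.card (Subgroup.center Q) = 2 := hL1.2
  have hcard : Nat.card (Subgroup.zpowers z) = 2 := by
    rw [← hz, Subgroup.card_map_of_injective Q.subtype_injective]; exact hcardZ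
  have hord : orderOf z = 2 := by rw [← Nat.card_zpowers]; exact hcard
  have hzz : z * z = 1 := by
    have := pow_orderOf_eq_one z
    rwa [hord, pow_two] at this
  have hz1 : z ≠ 1 := by
    intro h
    rw [h, orderOf_one] at hord
    omega
  have hzZ : z ∈ (Subgroup.center ↥Q).map Q.subtype := by
    rw [hz]; exact Subgroup.mem_zpowers z
  obtain ⟨⟨z', hz'Q⟩, hz'c, hz'e⟩ := hzZ
  have hz'e' : z' = z := hz'e
  subst hz'e'
  -- membership in the centre
  have hmemZ : ∀ x : ↥Q, x ∈ Subgroup.center ↥Q → (x : G) = 1 ∨ (x : G) = z' := by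
    intro x hx
    apply mem_zpowers_invol hzz
    rw [← hz]
    exact ⟨x, hx, rfl⟩
  refine ⟨hQ2, hz'Q, hz1, hzz, ?_, ?_, ?_, ?_, ?_, hL4⟩
  · intro q hq
    have := Subgroup.mem_center_iff.mp hz'c ⟨q, hq⟩
    exact congrArg Subtype.val this
  · intro x hx
    apply mem_zpowers_invol hzz
    rw [← hz, ← hL2, Subgroup.mem_centralizer_iff]
    intro q hq
    exact hx q hq
  · intro g hg q hq
    have hgC : g ∈ Subgroup.centralizer (((Subgroup.center ↥Q).map Q.subtype : Subgroup G) : Set G) := by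
      rw [Subgroup.mem_centralizer_iff]
      intro y hy
      rw [SetLike.mem_coe, hz] at hy
      rcases mem_zpowers_invol hzz hy with h | h
      · rw [h]; simp
      · rw [h]; exact hg.symm
    exact (Subgroup.mem_normalizer_iff.mp (hL3 hgC) q).mp hq
  · intro a ha b hb
    let a' : ↥Q := ⟨a, ha⟩
    let b' : ↥Q := ⟨b, hb⟩
    have h1 : ⁅a', b'⁆ ∈ commutator ↥Q :=
      Subgroup.commutator_mem_commutator (Subgroup.mem_top _) (Subgroup.mem_top _)
    rw [hco] at h1
    have := hmemZ _ h1
    simpa [commutatorElement_def, a', b'] using this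
  · intro a ha
    have h1 : (⟨a, ha⟩ : ↥Q) ^ 2 ∈ frattini ↥Q :=
      Cfsg.Agent.Lib.Helper1_Frattini.pow_mem_frattini_of_isPGroup hQ2 _
    rw [hfr] at h1
    have := hmemZ _ h1
    simpa [pow_two] using this

section basics

variable {G : Type u} [Group G] {Q : Subgroup G} {z : G}

theorem LargeES.zinv (h : LargeES Q z) : z⁻¹ = z :=
  inv_eq_of_mul_eq_one_left h.zz

theorem mem_centralizer_singleton {x g : G} :
    g ∈ Subgroup.centralizer ({x} : Set G) ↔ g * x = x * g := by
  rw [Subgroup.mem_centralizer_iff]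
  constructor
  · intro h
    exact (h x (Set.mem_singleton x)).symm
  · intro h y hy
    rw [Set.mem_singleton_iff] at hy
    rw [hy]; exact h.symm

theorem LargeES.le_centralizer (h : LargeES Q z) : Q ≤ Subgroup.centralizer ({z} : Set G) := by
  intro q hq
  rw [mem_centralizer_singleton]
  exact h.zc q hq

theorem LargeES.centralizer_le_normalizer (h : LargeES Q z) :
    Subgroup.centralizer ({z} : Set G) ≤ Subgroup.normalizer (Q : Set G) := by
  intro g hg
  rw [mem_centralizer_singleton] at hg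
  rw [Subgroup.mem_normalizer_iff]
  intro q
  constructor
  · exact h.norm g hg q
  · intro hq
    have hg' : g⁻¹ * z = z * g⁻¹ := by
      calc g⁻¹ * z = g⁻¹ * (z * g) * g⁻¹ := by group
        _ = g⁻¹ * (g * z) * g⁻¹ := by rw [hg]
        _ = z * g⁻¹ := by group
    have := h.norm g⁻¹ hg' _ hq
    have e : g⁻¹ * (g * q * g⁻¹) * g⁻¹⁻¹ = q := by group
    rwa [e] at this

end basics

section finite

variable {G : Type u} [Group G] [Finite G] {Q : Subgroup G} {z : G}

/-- `z` lies in every nontrivial subgroup of a Sylow 2-subgroup `S ≥ Q` normalized by `S`. -/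
theorem LargeES.mem_of_normal_in_sylow (h : LargeES Q z) (S : Sylow 2 G) (hQS : Q ≤ S)
    (N : Subgroup G) (hNS : N ≤ S) (hSN : (S : Subgroup G) ≤ Subgroup.normalizer (N : Set G))
    (hN : N ≠ ⊥) : z ∈ N := by
  have : Fact (Nat.Prime 2) := ⟨Nat.prime_two⟩
  have hn : (N.subgroupOf (S : Subgroup G)).Normal :=
    (Subgroup.normal_subgroupOf_iff_le_normalizer hNS).mpr hSN
  have hne : N.subgroupOf (S : Subgroup G) ≠ ⊥ := by
    intro hb
    apply hN
    rw [Subgroup.subgroupOf_eq_bot, disjoint_iff, inf_eq_left.mpr hNS] at hb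
    exact hb
  obtain ⟨x, hxN, hxZ, hx1⟩ :=
    Cfsg.Agent.Lib.Helper32_PGroup.exists_mem_center_of_normal (p := 2) S.isPGroup'
      (N.subgroupOf (S : Subgroup G)) hne
  have hxc : ∀ q ∈ Q, q * (x : G) = (x : G) * q := by
    intro q hq
    have := Subgroup.mem_center_iff.mp hxZ ⟨q, hQS hq⟩
    exact congrArg Subtype.val this
  rcases h.cent _ hxc with h1 | h1
  · exfalso
    apply hx1
    exact Subtype.ext h1
  · rw [← h1]
    exact Subgroup.mem_subgroupOf.mp hxN

/-- no component of `G` centralizes `z` -/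
theorem LargeES.not_component_le_centralizer (h : LargeES Q z) {L : Subgroup G}
    (hL : IsComponent L) : ¬ L ≤ Subgroup.centralizer ({z} : Set G) := by
  intro hLz
  have : Fact (Nat.Prime 2) := ⟨Nat.prime_two⟩
  have hfin : Finite ↥Q := inferInstance
  have hnil : Group.IsNilpotent ↥Q := h.two.isNilpotent
  have hsolv : Group.IsSolvable ↥Q := inferInstance
  have hLN : L ≤ Subgroup.normalizer (Q : Set G) := hLz.trans h.centralizer_le_normalizer
  have hc := Cfsg.Agent.Lib.Helper21_Components.IsComponent.commutator_eq_bot_of_isSolvable hL hsolv hLN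
  rw [Subgroup.commutator_eq_bot_iff_le_centralizer] at hc
  have hLle : L ≤ Subgroup.zpowers z := by
    intro l hl
    have hl' := hc hl
    rw [Subgroup.mem_centralizer_iff] at hl'
    rcases h.cent l (fun q hq => hl' q hq) with h1 | h1
    · rw [h1]; exact Subgroup.one_mem _
    · rw [h1]; exact Subgroup.mem_zpowers z
  have hs2 : Group.IsSolvable ↥(Subgroup.zpowers z) := inferInstance
  exact Cfsg.Agent.Lib.Helper21_Components.IsComponent.not_le_of_isSolvable hL hs2 hLle

/-- the odd `p`-cores are trivial -/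
theorem LargeES.pCore_eq_bot (h : LargeES Q z) {p : ℕ} (hp : p.Prime) (hp2 : p ≠ 2) :
    pCore p G = ⊥ := by
  have : Fact p.Prime := ⟨hp⟩
  apply h.odd
  · obtain ⟨n, hn⟩ := (Cfsg.Agent.Lib.Helper1_Cores.pCore_isPGroup (G := G) p).exists_card_eq
    rw [hn]
    exact (hp.odd_of_ne_two hp2).pow
  · have hn : (pCore p G).Normal := Cfsg.Agent.Lib.Helper1_Cores.pCore_normal p
    rw [Subgroup.normalizer_eq_top]
    exact le_top

/-- `F(G) = O_2(G)` -/
theorem LargeES.fitting_eq_pCore (h : LargeES Q z) : fittingSubgroup G = pCore 2 G := by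
  rw [Cfsg.Agent.Lib.Helper1_Cores.fittingSubgroup_eq_iSup_pCore]
  apply le_antisymm
  · refine iSup_le (fun p => ?_)
    by_cases hp2 : (p : ℕ) = 2
    · rw [hp2]
    · rw [h.pCore_eq_bot p.2 hp2]; exact bot_le
  · exact le_iSup (fun p : Nat.Primes => pCore (p : ℕ) G) ⟨2, Nat.prime_two⟩

/-- if `z` lies in a normal subgroup `N` centralized by all components then there are no
components -/
theorem LargeES.layer_eq_bot_of_mem (h : LargeES Q z)
    (hz : z ∈ fittingSubgroup G) : layer G = ⊥ := by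
  rw [eq_bot_iff, Cfsg.Agent.Lib.Helper22_Layer.layer_le_iff]
  intro L hL
  exfalso
  apply h.not_component_le_centralizer hL
  have hc := Cfsg.Agent.Lib.Helper22_Layer.layer_commutator_fitting (X := G)
  rw [Subgroup.commutator_eq_bot_iff_le_centralizer] at hc
  intro l hl
  have hlE : l ∈ layer G := Cfsg.Agent.Lib.Helper29_Local.IsComponent.le_layer hL hl
  have := hc hlE
  rw [Subgroup.mem_centralizer_iff] at this
  rw [mem_centralizer_singleton]
  exact (this z hz).symm

/-- **Case `O_2(G) ≠ 1`**: the normal closure of `z` is abelian and `F*(G) = O_2(G)`. -/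
theorem LargeES.case_pCore_ne_bot (h : LargeES Q z) (hR : pCore 2 G ≠ ⊥) :
    IsMulCommutative ↥(Subgroup.normalClosure ({z} : Set G)) ∧
      generalizedFittingSubgroup G = pCore 2 G := by
  have : Fact (Nat.Prime 2) := ⟨Nat.prime_two⟩
  obtain ⟨S, hQS⟩ := h.two.exists_le_sylow
  have hRn : (pCore 2 G).Normal := Cfsg.Agent.Lib.Helper1_Cores.pCore_normal 2
  have hRS : pCore 2 G ≤ S := Cfsg.Agent.Lib.Helper1_Cores.pCore_le_sylow 2 S
  have hR2 : IsPGroup 2 ↥(pCore 2 G) := Cfsg.Agent.Lib.Helper1_Cores.pCore_isPGroup 2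
  -- the centre of `O_2(G)` as a subgroup of `G`
  have hCn : (Subgroup.centralizer (pCore 2 G : Set G)).Normal := Subgroup.normal_centralizer
  have hZn : (pCore 2 G ⊓ Subgroup.centralizer (pCore 2 G : Set G)).Normal := inferInstance
  have hZne : pCore 2 G ⊓ Subgroup.centralizer (pCore 2 G : Set G) ≠ ⊥ := by
    have hnt : Nontrivial ↥(pCore 2 G) := (Subgroup.nontrivial_iff_ne_bot _).mpr hR
    have hcn : Nontrivial ↥(Subgroup.center ↥(pCore 2 G)) := hR2.center_nontrivial
    obtain ⟨x, hx⟩ := exists_ne (1 : ↥(Subgroup.center ↥(pCore 2 G)))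
    intro hb
    apply hx
    have hmem : ((x : ↥(pCore 2 G)) : G) ∈
        pCore 2 G ⊓ Subgroup.centralizer (pCore 2 G : Set G) := by
      refine ⟨(x : ↥(pCore 2 G)).2, ?_⟩
      change ((x : ↥(pCore 2 G)) : G) ∈ Subgroup.centralizer (pCore 2 G : Set G)
      rw [Subgroup.mem_centralizer_iff]
      intro y hy
      have := Subgroup.mem_center_iff.mp x.2 ⟨y, hy⟩
      exact congrArg Subtype.val this
    rw [hb, Subgroup.mem_bot] at hmem
    apply Subtype.ext
    apply Subtype.ext
    exact hmem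
  have hzZ : z ∈ pCore 2 G ⊓ Subgroup.centralizer (pCore 2 G : Set G) := by
    apply h.mem_of_normal_in_sylow S hQS _ (inf_le_left.trans hRS) _ hZne
    rw [Subgroup.normalizer_eq_top]
    exact le_top
  have hMle : Subgroup.normalClosure ({z} : Set G) ≤
      pCore 2 G ⊓ Subgroup.centralizer (pCore 2 G : Set G) := by
    apply Subgroup.normalClosure_le_normal
    intro y hy
    rw [Set.mem_singleton_iff] at hy
    rw [hy]; exact hzZ
  refine ⟨⟨⟨fun a b => ?_⟩⟩, ?_⟩
  · apply Subtype.ext
    have ha := hMle a.2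
    have hb := hMle b.2
    have := Subgroup.mem_centralizer_iff.mp hb.2 a ha.1
    exact this
  · have hzF : z ∈ fittingSubgroup G := by
      rw [h.fitting_eq_pCore]; exact hzZ.1
    unfold generalizedFittingSubgroup
    rw [h.layer_eq_bot_of_mem hzF, bot_sup_eq, h.fitting_eq_pCore]

end finite

end Cfsg.Agent.Lib.Helper69_LESBase
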