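import Mathlib
import Cfsg.Agent.Lib.Helper69_LESBase
import Cfsg.Agent.Lib.Helper21_FStar
import Cfsg.Agent.Lib.Helper48_SPEFStar

/-!
Helper library (helper69): large extraspecial 2-subgroups, part 2.

Decompositions `D · C_G(D)`, a transfer lemma (a simple group in which an involution has
centralizer of order two is abelian), the case `O_2(G) = 1`: `z ∈ E(G)`, `⟨z^G⟩ = E(G)`, and the
invariant subgroup lemma.
-/

set_option autoImplicit false
open Cfsg
open scoped Pointwise

namespace Cfsg.Agent.Lib.Helper69_LESDecomp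

open Cfsg.Agent.Lib.Helper69_LESBase

universe u

section decomp

variable {G : Type u} [Group G]

/-- elements of `D ⊔ K` with `K` centralizing `D` are products -/
theorem exists_mul_of_mem_sup {D K : Subgroup G} (hK : K ≤ Subgroup.centralizer (D : Set G)) {x : G}
    (hx : x ∈ D ⊔ K) : ∃ d ∈ D, ∃ w ∈ K, x = d * w := by
  have hKN : K ≤ Subgroup.normalizer (D : Set G) :=
    hK.trans (Subgroup.centralizer_le_normalizer (D : Set G))
  have h := Subgroup.coe_mul_of_right_le_normalizer_left D K hKN
  have hx' : x ∈ ((D ⊔ K : Subgroup G) : Set G) := hx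
  rw [h, Set.mem_mul] at hx'
  obtain ⟨d, hd, w, hw, e⟩ := hx'
  exact ⟨d, hd, w, hw, e.symm⟩

/-- uniqueness of the decomposition in `D · C_G(D)` when `Z(D) = 1` -/
theorem unique_decomp {D : Subgroup G} (hD : D ⊓ Subgroup.centralizer (D : Set G) = ⊥)
    {d d' w w' : G} (hd : d ∈ D) (hd' : d' ∈ D) (hw : w ∈ Subgroup.centralizer (D : Set G))
    (hw' : w' ∈ Subgroup.centralizer (D : Set G)) (he : d * w = d' * w') : d = d' ∧ w = w' := by
  have h1 : d'⁻¹ * d = w' * w⁻¹ := by
    calc d'⁻¹ * d = d'⁻¹ * (d * w) * w⁻¹ := by group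
      _ = d'⁻¹ * (d' * w') * w⁻¹ := by rw [he]
      _ = w' * w⁻¹ := by group
  have h2 : d'⁻¹ * d ∈ D ⊓ Subgroup.centralizer (D : Set G) := by
    refine ⟨D.mul_mem (D.inv_mem hd') hd, ?_⟩
    rw [h1]
    exact Subgroup.mul_mem _ hw' (Subgroup.inv_mem _ hw)
  rw [hD, Subgroup.mem_bot] at h2
  have hdd : d = d' := by
    calc d = d' * (d'⁻¹ * d) := by group
      _ = d' := by rw [h2, mul_one]
  refine ⟨hdd, ?_⟩
  rw [hdd] at he
  exact mul_left_cancel he

/-- a subgroup with trivial centre meets its centralizer trivially -/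
theorem inf_centralizer_eq_bot {L : Subgroup G} (hZ : Subgroup.center ↥L = ⊥) :
    L ⊓ Subgroup.centralizer (L : Set G) = ⊥ := by
  rw [eq_bot_iff]
  rintro x ⟨hxL, hxC⟩
  rw [Subgroup.mem_bot]
  have hx : (⟨x, hxL⟩ : ↥L) ∈ Subgroup.center ↥L := by
    rw [Subgroup.mem_center_iff]
    intro y
    apply Subtype.ext
    exact Subgroup.mem_centralizer_iff.mp hxC y y.2
  rw [hZ, Subgroup.mem_bot] at hx
  exact congrArg Subtype.val hx

/-- conjugating by an element of the normalizer preserves the centralizer -/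
theorem conj_mem_centralizer {D : Subgroup G} {q w : G}
    (hq : q ∈ Subgroup.normalizer (D : Set G)) (hw : w ∈ Subgroup.centralizer (D : Set G)) :
    q * w * q⁻¹ ∈ Subgroup.centralizer (D : Set G) := by
  rw [Subgroup.mem_centralizer_iff]
  intro y hy
  have hy' : q⁻¹ * y * q ∈ D := by
    have := (Subgroup.mem_normalizer_iff.mp (Subgroup.inv_mem _ hq) y).mp hy
    rwa [inv_inv] at this
  have hc := Subgroup.mem_centralizer_iff.mp hw _ hy'
  calc y * (q * w * q⁻¹) = q * ((q⁻¹ * y * q) * w) * q⁻¹ := by group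
    _ = q * (w * (q⁻¹ * y * q)) * q⁻¹ := by rw [hc]
    _ = q * w * q⁻¹ * y := by group

end decomp

section transfer

/-- a finite simple group in which some involution is self-centralizing is abelian -/
theorem isMulCommutative_of_centralizer_involution {H : Type*} [Group H] [Finite H]
    (hs : IsSimpleGroup H) (a : H) (ha1 : a ≠ 1) (haa : a * a = 1)
    (hc : ∀ c : H, c * a = a * c → c = 1 ∨ c = a) : ∀ x y : H, x * y = y * x := by
  have : Fact (Nat.Prime 2) := ⟨Nat.prime_two⟩
  have hord : orderOf a = 2 := orderOf_eq_prime (by rw [pow_two]; exact haa) ha1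
  have hza : IsPGroup 2 ↥(Subgroup.zpowers a) := by
    apply IsPGroup.of_card (n := 1)
    rw [Nat.card_zpowers, hord, pow_one]
  obtain ⟨P, hP⟩ := hza.exists_le_sylow
  have haP : a ∈ (P : Subgroup H) := hP (Subgroup.mem_zpowers a)
  have hnt : Nontrivial ↥(P : Subgroup H) := ⟨⟨⟨a, haP⟩, 1, fun h => ha1 (congrArg Subtype.val h)⟩⟩
  have hcn : Nontrivial ↥(Subgroup.center ↥(P : Subgroup H)) := P.isPGroup'.center_nontrivial
  obtain ⟨x, hx⟩ := exists_ne (1 : ↥(Subgroup.center ↥(P : Subgroup H)))
  have hxa : ((x : ↥(P : Subgroup H)) : H) = a := by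
    have h1 := Subgroup.mem_center_iff.mp x.2 ⟨a, haP⟩
    have h2 : a * ((x : ↥(P : Subgroup H)) : H) = ((x : ↥(P : Subgroup H)) : H) * a :=
      congrArg Subtype.val h1
    rcases hc _ h2.symm with h3 | h3
    · exfalso
      apply hx
      apply Subtype.ext
      apply Subtype.ext
      exact h3
    · exact h3
  have hPle : ∀ c ∈ (P : Subgroup H), c = 1 ∨ c = a := by
    intro c hcP
    apply hc
    have h1 := Subgroup.mem_center_iff.mp x.2 ⟨c, hcP⟩
    have h2 : c * ((x : ↥(P : Subgroup H)) : H) = ((x : ↥(P : Subgroup H)) : H) * c :=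
      congrArg Subtype.val h1
    rwa [hxa] at h2
  have hPeq : (P : Subgroup H) = Subgroup.zpowers a := by
    apply le_antisymm
    · intro c hcP
      rcases hPle c hcP with h | h
      · rw [h]; exact Subgroup.one_mem _
      · rw [h]; exact Subgroup.mem_zpowers a
    · exact hP
  have hcardP : Nat.card ↥(P : Subgroup H) = 2 := by
    rw [hPeq, Nat.card_zpowers, hord]
  have hcyc : IsCyclic ↥(P : Subgroup H) := isCyclic_of_prime_card hcardP
  have h2dvd : 2 ∣ Nat.card H := by
    rw [← hord]; exact orderOf_dvd_natCard a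
  have hmin : (Nat.card H).minFac = 2 := (Nat.minFac_eq_two_iff _).mpr h2dvd
  have hcomp := IsCyclic.isComplement' hmin hcyc
  have hKn : (MonoidHom.transferSylow P (hcyc.normalizer_le_centralizer hmin)).ker.Normal :=
    MonoidHom.normal_ker _
  rcases hs.eq_bot_or_eq_top_of_normal _ hKn with hK | hK
  · rw [hK, Subgroup.isComplement'_bot_left] at hcomp
    have hall : ∀ c : H, c = 1 ∨ c = a := by
      intro c
      apply hPle
      rw [hcomp]; exact Subgroup.mem_top c
    intro x y
    rcases hall x with h1 | h1 <;> rcases hall y with h2 | h2 <;> rw [h1, h2] <;> simp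
  · exfalso
    rw [hK, Subgroup.isComplement'_top_left] at hcomp
    rw [hcomp, Subgroup.mem_bot] at haP
    exact ha1 haP

end transfer

section finite

variable {G : Type u} [Group G] [Finite G] {Q : Subgroup G} {z : G}

/-- **Case `O_2(G) = 1`**: `z` lies in the layer. -/
theorem mem_layer (h : LargeES Q z) (hR : pCore 2 G = ⊥) : z ∈ layer G := by
  have : Fact (Nat.Prime 2) := ⟨Nat.prime_two⟩
  have hF : fittingSubgroup G = ⊥ := by rw [h.fitting_eq_pCore, hR]
  have hFs : generalizedFittingSubgroup G = layer G := by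
    unfold generalizedFittingSubgroup
    rw [hF, sup_bot_eq]
  have hEn : (layer G).Normal := Cfsg.Agent.Lib.Helper29_Local.layer_normal G
  have hEne : layer G ≠ ⊥ := by
    intro hb
    have hc := Cfsg.Agent.Lib.Helper21_FStar.centralizer_generalizedFitting_le (G := G)
    rw [hFs, hb] at hc
    have hz : z ∈ Subgroup.centralizer (((⊥ : Subgroup G) : Subgroup G) : Set G) := by
      rw [Subgroup.mem_centralizer_iff]
      intro y hy
      have : y = 1 := Subgroup.mem_bot.mp hy
      rw [this]; simp
    have := hc hz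
    rw [Subgroup.mem_bot] at this
    exact h.z1 this
  have hnodd : ¬ Odd (Nat.card ↥(layer G)) := by
    intro ho
    apply hEne
    apply h.odd _ ho
    rw [Subgroup.normalizer_eq_top]
    exact le_top
  have h2dvd : 2 ∣ Nat.card ↥(layer G) := by
    rw [Nat.not_odd_iff_even] at hnodd
    exact hnodd.two_dvd
  obtain ⟨t, ht⟩ := exists_prime_orderOf_dvd_card' 2 h2dvd
  have ht1 : (t : G) ≠ 1 := by
    intro h1
    have : t = 1 := Subtype.ext h1
    rw [this, orderOf_one] at ht
    omega
  have htord : orderOf (t : G) = 2 := by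
    rw [Subgroup.orderOf_coe]; exact ht
  have hzt : IsPGroup 2 ↥(Subgroup.zpowers (t : G)) := by
    apply IsPGroup.of_card (n := 1)
    rw [Nat.card_zpowers, htord, pow_one]
  obtain ⟨P, hP⟩ := hzt.exists_le_sylow
  obtain ⟨S, hQS⟩ := h.two.exists_le_sylow
  obtain ⟨g, hg⟩ := MulAction.exists_smul_eq G P S
  have htS : g * (t : G) * g⁻¹ ∈ (S : Subgroup G) := by
    rw [← hg, Sylow.coe_subgroup_smul]
    have : (MulAut.conj g) • (t : G) ∈ (MulAut.conj g) • (P : Subgroup G) :=
      Subgroup.smul_mem_pointwise_smul _ _ _ (hP (Subgroup.mem_zpowers _))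
    simpa [MulAut.smul_def] using this
  have htE : g * (t : G) * g⁻¹ ∈ layer G := hEn.conj_mem _ t.2 g
  have hne : (S : Subgroup G) ⊓ layer G ≠ ⊥ := by
    intro hb
    have hm : g * (t : G) * g⁻¹ ∈ (S : Subgroup G) ⊓ layer G := ⟨htS, htE⟩
    rw [hb, Subgroup.mem_bot] at hm
    apply ht1
    calc (t : G) = g⁻¹ * (g * (t : G) * g⁻¹) * g := by group
      _ = 1 := by rw [hm]; group
  have hnorm : (S : Subgroup G) ≤ Subgroup.normalizer (((S : Subgroup G) ⊓ layer G : Subgroup G) : Set G) := by
    intro s hs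
    rw [Subgroup.mem_normalizer_iff]
    intro n
    constructor
    · rintro ⟨h1, h2⟩
      exact ⟨Subgroup.mul_mem _ (Subgroup.mul_mem _ hs h1) (Subgroup.inv_mem _ hs),
        hEn.conj_mem n h2 s⟩
    · rintro ⟨h1, h2⟩
      have e : n = s⁻¹ * (s * n * s⁻¹) * s := by group
      refine ⟨?_, ?_⟩
      · rw [e]
        exact Subgroup.mul_mem _ (Subgroup.mul_mem _ (Subgroup.inv_mem _ hs) h1) hs
      · have := hEn.conj_mem _ h2 s⁻¹
        rw [inv_inv] at this
        rw [e]; exact this
  exact (h.mem_of_normal_in_sylow S hQS _ inf_le_left hnorm hne).2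

/-- the normal closure of `z` is the layer when `z` lies in the layer -/
theorem normalClosure_eq_layer (h : LargeES Q z) (hzE : z ∈ layer G) :
    Subgroup.normalClosure ({z} : Set G) = layer G := by
  have hEn : (layer G).Normal := Cfsg.Agent.Lib.Helper29_Local.layer_normal G
  apply le_antisymm
  · apply Subgroup.normalClosure_le_normal
    intro y hy
    rw [Set.mem_singleton_iff] at hy
    rw [hy]; exact hzE
  · rw [Cfsg.Agent.Lib.Helper22_Layer.layer_le_iff]
    intro K hK
    have hMn : (Subgroup.normalClosure ({z} : Set G)).Normal := Subgroup.normalClosure_normal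
    rcases Cfsg.Agent.Lib.Helper21_Components.IsComponent.le_or_commutator_eq_bot hK hMn.isSubnormal
      with h1 | h1
    · exact h1
    · exfalso
      apply h.not_component_le_centralizer hK
      rw [Subgroup.commutator_eq_bot_iff_le_centralizer] at h1
      intro k hk
      rw [mem_centralizer_singleton]
      have := Subgroup.mem_centralizer_iff.mp (h1 hk) z
        (Subgroup.subset_normalClosure (Set.mem_singleton z))
      exact this.symm

/-- the invariant subgroup lemma -/
theorem layer_le_of_invariant (h : LargeES Q z) (hzE : z ∈ layer G) (D : Subgroup G)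
    (hQD : Q ≤ Subgroup.normalizer (D : Set G))
    (hcomp : ∀ K : Subgroup G, IsComponent K → K ≤ D ∨ K ≤ Subgroup.centralizer (D : Set G))
    (hD : D ⊓ Subgroup.centralizer (D : Set G) = ⊥)
    (L₀ : Subgroup G) (hL₀ : IsComponent L₀) (hL₀D : L₀ ≤ D) : z ∈ D ∧ layer G ≤ D := by
  have hE : layer G ≤ D ⊔ Subgroup.centralizer (D : Set G) := by
    rw [Cfsg.Agent.Lib.Helper22_Layer.layer_le_iff]
    intro K hK
    rcases hcomp K hK with h1 | h1
    · exact h1.trans le_sup_left
    · exact h1.trans le_sup_right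
  obtain ⟨d, hd, w, hw, e⟩ := exists_mul_of_mem_sup le_rfl (hE hzE)
  have hdc : ∀ q ∈ Q, q * d = d * q := by
    intro q hq
    have hqN := hQD hq
    have hd' : q * d * q⁻¹ ∈ D := (Subgroup.mem_normalizer_iff.mp hqN d).mp hd
    have hw' : q * w * q⁻¹ ∈ Subgroup.centralizer (D : Set G) := conj_mem_centralizer hqN hw
    have hz' : d * w = (q * d * q⁻¹) * (q * w * q⁻¹) := by
      calc d * w = z := e.symm
        _ = q * z * q⁻¹ := by rw [h.zc q hq]; group
        _ = q * (d * w) * q⁻¹ := by rw [e]
        _ = (q * d * q⁻¹) * (q * w * q⁻¹) := by group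
    have := (unique_decomp hD hd hd' hw hw' hz').1
    calc q * d = (q * d * q⁻¹) * q := by group
      _ = d * q := by rw [← this]
  have hzD : z ∈ D := by
    rcases h.cent d hdc with h1 | h1
    · exfalso
      apply h.not_component_le_centralizer hL₀
      intro l hl
      rw [mem_centralizer_singleton]
      have hzw : z = w := by rw [e, h1, one_mul]
      rw [hzw]
      exact Subgroup.mem_centralizer_iff.mp hw l (hL₀D hl)
    · rw [← h1]; exact hd
  refine ⟨hzD, ?_⟩
  rw [Cfsg.Agent.Lib.Helper22_Layer.layer_le_iff]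
  intro K hK
  rcases hcomp K hK with h1 | h1
  · exact h1
  · exfalso
    apply h.not_component_le_centralizer hK
    intro k hk
    rw [mem_centralizer_singleton]
    exact (Subgroup.mem_centralizer_iff.mp (h1 hk) z hzD).symm

end finite

end Cfsg.Agent.Lib.Helper69_LESDecomp
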