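import Mathlib
import Cfsg.Agent.Lib.Helper69_LESDecomp
import Cfsg.Agent.Lib.Helper22_Quasisimple

/-!
Helper library (helper69): large extraspecial 2-subgroups, part 3.

The case `O_2(G) = 1`: the action of `Q` on the components.  If `L` is a component then
`Q ∩ N_G(L)` has index at most two in `Q`; if `Q` normalizes `L` then `E(G) = L`.
-/

set_option autoImplicit false
open Cfsg

namespace Cfsg.Agent.Lib.Helper69_LESOrbit

open Cfsg.Agent.Lib.Helper69_LESBase Cfsg.Agent.Lib.Helper69_LESDecomp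

universe u

section cj

variable {G : Type u} [Group G]

/-- the conjugate `g L g⁻¹` -/
abbrev cj (g : G) (L : Subgroup G) : Subgroup G := L.map (MulAut.conj g).toMonoidHom

theorem conj_mem_cj {g l : G} {L : Subgroup G} (hl : l ∈ L) : g * l * g⁻¹ ∈ cj g L :=
  ⟨l, hl, rfl⟩

theorem mem_cj {g x : G} {L : Subgroup G} : x ∈ cj g L ↔ g⁻¹ * x * g ∈ L := by
  constructor
  · rintro ⟨y, hy, rfl⟩
    have e : g⁻¹ * ((MulAut.conj g).toMonoidHom y) * g = y := by
      change g⁻¹ * (g * y * g⁻¹) * g = y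
      group
    rw [e]; exact hy
  · intro h
    have e : x = g * (g⁻¹ * x * g) * g⁻¹ := by group
    rw [e]
    exact conj_mem_cj h

theorem cj_eq_of_mem_normalizer {g : G} {L : Subgroup G}
    (hg : g ∈ Subgroup.normalizer (L : Set G)) : cj g L = L := by
  ext x
  rw [mem_cj]
  have := Subgroup.mem_normalizer_iff.mp (Subgroup.inv_mem _ hg) x
  rw [inv_inv] at this
  exact this.symm

theorem mem_normalizer_of_cj_eq {g : G} {L : Subgroup G} (h : cj g L = L) :
    g ∈ Subgroup.normalizer (L : Set G) := by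
  rw [Subgroup.mem_normalizer_iff]
  intro x
  constructor
  · intro hx
    rw [← h]; exact conj_mem_cj hx
  · intro hx
    rw [← h, mem_cj] at hx
    have e : g⁻¹ * (g * x * g⁻¹) * g = x := by group
    rwa [e] at hx

theorem cj_mul (g k : G) (L : Subgroup G) : cj (g * k) L = cj g (cj k L) := by
  ext x
  rw [mem_cj, mem_cj, mem_cj]
  have e : (g * k)⁻¹ * x * (g * k) = k⁻¹ * (g⁻¹ * x * g) * k := by group
  rw [e]

theorem isComponent_cj {L : Subgroup G} (hL : IsComponent L) (g : G) : IsComponent (cj g L) := by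
  rcases Cfsg.Agent.Lib.Helper22_Quasisimple.IsComponent.map_eq_bot_or
    (f := (MulAut.conj g).toMonoidHom) (MulAut.conj g).surjective hL with h | h
  · exfalso
    rw [Subgroup.map_eq_bot_iff_of_injective _ (MulAut.conj g).injective] at h
    have hs : Group.IsSolvable ↥(⊥ : Subgroup G) := inferInstance
    exact Cfsg.Agent.Lib.Helper21_Components.IsComponent.not_le_of_isSolvable hL hs h.le
  · exact h

end cj

/-- the standing hypotheses in the case `O_2(G) = 1`, with a chosen component `L` -/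
structure Ctx {G : Type u} [Group G] (Q : Subgroup G) (z : G) (L : Subgroup G) : Prop where
  les : LargeES Q z
  fit : fittingSubgroup G = ⊥
  zE : z ∈ layer G
  comp : IsComponent L

section ctx

variable {G : Type u} [Group G] [Finite G] {Q : Subgroup G} {z : G} {L : Subgroup G}

theorem Ctx.inf_cent (h : Ctx Q z L) : L ⊓ Subgroup.centralizer (L : Set G) = ⊥ :=
  inf_centralizer_eq_bot
    (Cfsg.Agent.Lib.Helper48_SPEFStar.center_eq_bot_of_isComponent h.fit h.comp)

omit [Finite G] in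
theorem Ctx.cj (h : Ctx Q z L) (g : G) : Ctx Q z (cj g L) :=
  ⟨h.les, h.fit, h.zE, isComponent_cj h.comp g⟩

theorem Ctx.layer_le_normalizer (h : Ctx Q z L) :
    layer G ≤ Subgroup.normalizer (L : Set G) :=
  Cfsg.Agent.Lib.Helper22_Layer.IsComponent.le_normalizer_layer h.comp

theorem Ctx.sq_mem_normalizer (h : Ctx Q z L) {v : G} (hv : v ∈ Q) :
    v * v ∈ Subgroup.normalizer (L : Set G) := by
  rcases h.les.sq v hv with h1 | h1
  · rw [h1]; exact Subgroup.one_mem _
  · rw [h1]; exact h.layer_le_normalizer h.zE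

/-- a conjugate of `L` by an element not normalizing `L` centralizes `L` -/
theorem Ctx.cj_le_centralizer (h : Ctx Q z L) {g : G}
    (hg : g ∉ Subgroup.normalizer (L : Set G)) :
    Helper69_LESOrbit.cj g L ≤ Subgroup.centralizer (L : Set G) := by
  have hne : Helper69_LESOrbit.cj g L ≠ L := fun e => hg (mem_normalizer_of_cj_eq e)
  have hc := Cfsg.Agent.Lib.Helper21_Components.IsComponent.commutator_eq_bot_of_ne
    (isComponent_cj h.comp g) h.comp hne
  rw [Subgroup.commutator_eq_bot_iff_le_centralizer] at hc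
  exact hc

theorem Ctx.conj_mem_centralizer (h : Ctx Q z L) {g l : G}
    (hg : g ∉ Subgroup.normalizer (L : Set G)) (hl : l ∈ L) :
    g * l * g⁻¹ ∈ Subgroup.centralizer (L : Set G) :=
  h.cj_le_centralizer hg (conj_mem_cj hl)

omit [Finite G] in
/-- `L` is not abelian -/
theorem Ctx.not_comm (h : Ctx Q z L) : ¬ ∀ x y : ↥L, x * y = y * x := by
  intro hc
  have hcg : CommGroup ↥L := { (inferInstance : Group ↥L) with mul_comm := hc }
  have hs : Group.IsSolvable ↥L := by
    refine ⟨⟨1, ?_⟩⟩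
    rw [eq_bot_iff]
    intro x hx
    rw [derivedSeries_one] at hx
    rw [Subgroup.mem_bot]
    have : commutator ↥L = ⊥ := by
      rw [commutator_def, Subgroup.commutator_eq_bot_iff_le_centralizer]
      intro a _
      rw [Subgroup.mem_centralizer_iff]
      intro b _
      exact hc b a
    rw [this, Subgroup.mem_bot] at hx
    exact hx
  exact Cfsg.Agent.Lib.Helper21_Components.IsComponent.not_le_of_isSolvable h.comp hs le_rfl

theorem Ctx.simple (h : Ctx Q z L) : IsSimpleGroup ↥L :=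
  Cfsg.Agent.Lib.Helper48_SPEFStar.isSimpleGroup_of_isComponent h.fit h.comp

end ctx

/-- a decomposition `z = a b` with `a ∈ L` and `b ∈ C_G(L)` -/
structure Dec {G : Type u} [Group G] (Q : Subgroup G) (z : G) (L : Subgroup G) (a b : G) : Prop
    extends Ctx Q z L where
  aL : a ∈ L
  bC : b ∈ Subgroup.centralizer (L : Set G)
  zab : z = a * b

section dec

variable {G : Type u} [Group G] [Finite G] {Q : Subgroup G} {z : G} {L : Subgroup G} {a b : G}

theorem Ctx.exists_dec (h : Ctx Q z L) : ∃ a b : G, Dec Q z L a b := by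
  have hE : layer G ≤ L ⊔ Subgroup.centralizer (L : Set G) := by
    rw [Cfsg.Agent.Lib.Helper22_Layer.layer_le_iff]
    intro K hK
    by_cases hKL : K = L
    · rw [hKL]; exact le_sup_left
    · have hc := Cfsg.Agent.Lib.Helper21_Components.IsComponent.commutator_eq_bot_of_ne
        hK h.comp hKL
      rw [Subgroup.commutator_eq_bot_iff_le_centralizer] at hc
      exact hc.trans le_sup_right
  obtain ⟨a, ha, b, hb, e⟩ := exists_mul_of_mem_sup le_rfl (hE h.zE)
  exact ⟨a, b, ⟨h, ha, hb, e⟩⟩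

/-- uniqueness of the `L`-part -/
theorem Dec.cases_of_eq (h : Dec Q z L a b) {y c w : G} (hy : y = 1 ∨ y = z) (hc : c ∈ L)
    (hw : w ∈ Subgroup.centralizer (L : Set G)) (e : y = c * w) : c = 1 ∨ c = a := by
  rcases hy with h1 | h1
  · left
    have e' : c * w = 1 * 1 := by rw [← e, h1, one_mul]
    exact (unique_decomp h.toCtx.inf_cent hc (Subgroup.one_mem _) hw (Subgroup.one_mem _) e').1
  · right
    have e' : c * w = a * b := by rw [← e, h1, h.zab]
    exact (unique_decomp h.toCtx.inf_cent hc h.aL hw h.bC e').1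

theorem Dec.a_ne_one (h : Dec Q z L a b) : a ≠ 1 := by
  intro h1
  apply h.les.not_component_le_centralizer h.comp
  intro l hl
  rw [mem_centralizer_singleton]
  have hzb : z = b := by rw [h.zab, h1, one_mul]
  rw [hzb]
  exact Subgroup.mem_centralizer_iff.mp h.bC l hl

omit [Finite G] in
theorem Dec.ab_comm (h : Dec Q z L a b) : a * b = b * a :=
  Subgroup.mem_centralizer_iff.mp h.bC a h.aL

theorem Dec.aa (h : Dec Q z L a b) : a * a = 1 := by
  have e : (a * a) * (b * b) = 1 * 1 := by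
    calc (a * a) * (b * b) = a * (a * b) * b := by group
      _ = a * (b * a) * b := by rw [h.ab_comm]
      _ = (a * b) * (a * b) := by group
      _ = 1 * 1 := by rw [← h.zab, h.les.zz, one_mul]
  exact (unique_decomp h.toCtx.inf_cent (L.mul_mem h.aL h.aL) (Subgroup.one_mem _)
    (Subgroup.mul_mem _ h.bC h.bC) (Subgroup.one_mem _) e).1

theorem Dec.ainv (h : Dec Q z L a b) : a⁻¹ = a := inv_eq_of_mul_eq_one_left h.aa

omit [Finite G] in
/-- elements of `C_L(a)` centralize `z` -/
theorem Dec.comm_z (h : Dec Q z L a b) {c : G} (hc : c ∈ L) (hca : c * a = a * c) :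
    c * z = z * c := by
  have hcb : c * b = b * c := Subgroup.mem_centralizer_iff.mp h.bC c hc
  rw [h.zab]
  calc c * (a * b) = (c * a) * b := by group
    _ = a * (c * b) := by rw [hca]; group
    _ = a * b * c := by rw [hcb]; group

omit [Finite G] in
/-- the elements `c⁻¹ c^u` of `Q` -/
theorem Dec.x_mem (h : Dec Q z L a b) {c u : G} (hc : c ∈ L) (hca : c * a = a * c) (hu : u ∈ Q) :
    c⁻¹ * (u * c * u⁻¹) ∈ Q := by
  have hcz := h.comm_z hc hca
  have hcz' : c⁻¹ * z = z * c⁻¹ := by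
    calc c⁻¹ * z = c⁻¹ * (z * c) * c⁻¹ := by group
      _ = c⁻¹ * (c * z) * c⁻¹ := by rw [hcz]
      _ = z * c⁻¹ := by group
  have h1 := h.les.norm c⁻¹ hcz' u hu
  rw [inv_inv] at h1
  have e : c⁻¹ * (u * c * u⁻¹) = (c⁻¹ * u * c) * u⁻¹ := by group
  rw [e]
  exact Q.mul_mem h1 (Q.inv_mem hu)

/-- if `Q` has three cosets modulo `N_Q(L)` then `C_L(a) = ⟨a⟩` -/
theorem Dec.small_of_three (h : Dec Q z L a b) {u v : G} (hu : u ∈ Q) (hv : v ∈ Q)
    (hu' : u ∉ Subgroup.normalizer (L : Set G)) (hv' : v ∉ Subgroup.normalizer (L : Set G))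
    (huv : u⁻¹ * v ∉ Subgroup.normalizer (L : Set G)) :
    ∀ c ∈ L, c * a = a * c → c = 1 ∨ c = a := by
  intro c hc hca
  have hvu : v * u ∉ Subgroup.normalizer (L : Set G) := by
    intro hm
    apply huv
    have e : u⁻¹ * v = (v * u)⁻¹ * (v * v) := by group
    rw [e]
    exact Subgroup.mul_mem _ (Subgroup.inv_mem _ hm) (h.toCtx.sq_mem_normalizer hv)
  have hx : c⁻¹ * (u * c * u⁻¹) ∈ Q := h.x_mem hc hca hu
  have hy := h.les.comm _ (Q.inv_mem hx) v hv
  have hcinv : c⁻¹ ∈ L := L.inv_mem hc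
  have h1 : u * c⁻¹ * u⁻¹ ∈ Subgroup.centralizer (L : Set G) :=
    h.toCtx.conj_mem_centralizer hu' hcinv
  have h2 : v * c⁻¹ * v⁻¹ ∈ Subgroup.centralizer (L : Set G) :=
    h.toCtx.conj_mem_centralizer hv' hcinv
  have h3 : (v * u) * c * (v * u)⁻¹ ∈ Subgroup.centralizer (L : Set G) :=
    h.toCtx.conj_mem_centralizer hvu hc
  have hcomm : (u * c⁻¹ * u⁻¹) * c = c * (u * c⁻¹ * u⁻¹) :=
    (Subgroup.mem_centralizer_iff.mp h1 c hc).symm
  have e : (c⁻¹ * (u * c * u⁻¹))⁻¹ * v * (c⁻¹ * (u * c * u⁻¹))⁻¹⁻¹ * v⁻¹ =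
      c * ((u * c⁻¹ * u⁻¹) * (v * c⁻¹ * v⁻¹) * ((v * u) * c * (v * u)⁻¹)) := by
    calc (c⁻¹ * (u * c * u⁻¹))⁻¹ * v * (c⁻¹ * (u * c * u⁻¹))⁻¹⁻¹ * v⁻¹
        = ((u * c⁻¹ * u⁻¹) * c) * (v * c⁻¹ * v⁻¹) * ((v * u) * c * (v * u)⁻¹) := by group
      _ = (c * (u * c⁻¹ * u⁻¹)) * (v * c⁻¹ * v⁻¹) * ((v * u) * c * (v * u)⁻¹) := by rw [hcomm]
      _ = c * ((u * c⁻¹ * u⁻¹) * (v * c⁻¹ * v⁻¹) * ((v * u) * c * (v * u)⁻¹)) := by group
  exact h.cases_of_eq hy hc
    (Subgroup.mul_mem _ (Subgroup.mul_mem _ h1 h2) h3) e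

/-- `C_L(a)` is bigger than `⟨a⟩` -/
theorem Dec.not_small (h : Dec Q z L a b) : ¬ ∀ c ∈ L, c * a = a * c → c = 1 ∨ c = a := by
  intro hsm
  apply h.toCtx.not_comm
  apply isMulCommutative_of_centralizer_involution h.toCtx.simple ⟨a, h.aL⟩
  · intro h1
    exact h.a_ne_one (congrArg Subtype.val h1)
  · apply Subtype.ext
    exact h.aa
  · intro c hc
    have hc' : (c : G) * a = a * (c : G) := congrArg Subtype.val hc
    rcases hsm c c.2 hc' with h1 | h1
    · left; exact Subtype.ext h1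
    · right; exact Subtype.ext h1

/-- `N_Q(L)` has index at most two in `Q` -/
theorem Dec.index_two (h : Dec Q z L a b) {u v : G} (hu : u ∈ Q) (hv : v ∈ Q)
    (hu' : u ∉ Subgroup.normalizer (L : Set G)) (hv' : v ∉ Subgroup.normalizer (L : Set G)) :
    u⁻¹ * v ∈ Subgroup.normalizer (L : Set G) := by
  by_contra huv
  exact h.not_small (h.small_of_three hu hv hu' hv' huv)

/-- if `Q` normalizes `L` then `L` is the layer -/
theorem Ctx.layer_eq_of_normalizes (h : Ctx Q z L)
    (hQN : Q ≤ Subgroup.normalizer (L : Set G)) : layer G = L := by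
  apply le_antisymm
  · refine (layer_le_of_invariant h.les h.zE L hQN ?_ h.inf_cent L h.comp le_rfl).2
    intro K hK
    by_cases hKL : K = L
    · left; rw [hKL]
    · right
      have hc := Cfsg.Agent.Lib.Helper21_Components.IsComponent.commutator_eq_bot_of_ne
        hK h.comp hKL
      rw [Subgroup.commutator_eq_bot_iff_le_centralizer] at hc
      exact hc
  · exact Cfsg.Agent.Lib.Helper29_Local.IsComponent.le_layer h.comp

end dec

end Cfsg.Agent.Lib.Helper69_LESOrbit
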