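import Mathlib
import Cfsg.Agent.Lib.Helper69_LESOrbit
import Cfsg.Agent.Lib.Helper23_PComp

/-!
Helper library (helper69): large extraspecial 2-subgroups, part 4.

The case `O_2(G) = 1` where some `u ∈ Q` moves the component `L`: then
`E(G) = L × L^u`, `z = a a^u`, `C_L(a)` is a Sylow 2-subgroup of `L` with Frattini subgroup inside
`⟨a⟩`, and `Q ≠ O_2(C_G(z))`.
-/

set_option autoImplicit false
open Cfsg
open scoped commutatorElement

namespace Cfsg.Agent.Lib.Helper69_LESTwo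

open Cfsg.Agent.Lib.Helper69_LESBase Cfsg.Agent.Lib.Helper69_LESDecomp
open Cfsg.Agent.Lib.Helper69_LESOrbit

universe u

/-- if all conjugates of `D` under `Q` lie in `D` then `Q` normalizes `D` -/
theorem le_normalizer_of_cj_le {G : Type u} [Group G] {Q D : Subgroup G}
    (h : ∀ q ∈ Q, cj q D ≤ D) : Q ≤ Subgroup.normalizer (D : Set G) := by
  intro q hq
  rw [Subgroup.mem_normalizer_iff]
  intro x
  constructor
  · intro hx
    exact h q hq (conj_mem_cj hx)
  · intro hx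
    have := h q⁻¹ (Q.inv_mem hq) (conj_mem_cj hx)
    have e : q⁻¹ * (q * x * q⁻¹) * q⁻¹⁻¹ = x := by group
    rwa [e] at this

/-- the image of the Frattini subgroup of a finite group under a homomorphism lies in a subgroup
containing the images of all squares and commutators -/
theorem frattini_map_le {X : Type*} [Group X] [Finite X] {G : Type*} [Group G] (f : X →* G)
    (Z : Subgroup G) (hsq : ∀ x : X, f x * f x ∈ Z)
    (hcomm : ∀ x y : X, f x * f y * (f x)⁻¹ * (f y)⁻¹ ∈ Z) : (frattini X).map f ≤ Z := by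
  have : Fact (Nat.Prime 2) := ⟨Nat.prime_two⟩
  rw [Subgroup.map_le_iff_le_comap]
  apply Cfsg.Agent.Lib.Helper1_Frattini.frattini_le_of_elementary_quotient (p := 2)
  · rw [commutator_def, Subgroup.commutator_le]
    intro x _ y _
    rw [Subgroup.mem_comap, map_commutatorElement, commutatorElement_def]
    exact hcomm x y
  · intro x
    rw [Subgroup.mem_comap, map_pow, pow_two]
    exact hsq x

/-- the standing hypotheses with an element `u ∈ Q` moving `L` -/
structure Two {G : Type u} [Group G] (Q : Subgroup G) (z : G) (L : Subgroup G) (a b u : G) : Prop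
    extends Dec Q z L a b where
  uQ : u ∈ Q
  uN : u ∉ Subgroup.normalizer (L : Set G)

section two

variable {G : Type u} [Group G] [Finite G] {Q : Subgroup G} {z : G} {L : Subgroup G} {a b u : G}

theorem Two.cj_le (h : Two Q z L a b u) : cj u L ≤ Subgroup.centralizer (L : Set G) :=
  h.toCtx.cj_le_centralizer h.uN

/-- the orbit of `L` under `Q` is `{L, L^u}` -/
theorem Two.cj_cases (h : Two Q z L a b u) {q : G} (hq : q ∈ Q) :
    (cj q L = L ∧ cj q (cj u L) = cj u L) ∨ (cj q L = cj u L ∧ cj q (cj u L) = L) := by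
  by_cases hqN : q ∈ Subgroup.normalizer (L : Set G)
  · left
    refine ⟨cj_eq_of_mem_normalizer hqN, ?_⟩
    have hquN : q * u ∉ Subgroup.normalizer (L : Set G) := by
      intro hm
      apply h.uN
      have e : u = q⁻¹ * (q * u) := by group
      rw [e]
      exact Subgroup.mul_mem _ (Subgroup.inv_mem _ hqN) hm
    have h1 := h.toDec.index_two h.uQ (Q.mul_mem hq h.uQ) h.uN hquN
    have e : q * u = u * (u⁻¹ * (q * u)) := by group
    rw [← cj_mul, e, cj_mul, cj_eq_of_mem_normalizer h1]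
  · right
    have h1 := h.toDec.index_two h.uQ hq h.uN hqN
    have hqinvN : q⁻¹ ∉ Subgroup.normalizer (L : Set G) := by
      intro hm
      apply hqN
      have := Subgroup.inv_mem _ hm
      rwa [inv_inv] at this
    have h2 := h.toDec.index_two (Q.inv_mem hq) h.uQ hqinvN h.uN
    rw [inv_inv] at h2
    refine ⟨?_, ?_⟩
    · have e : q = u * (u⁻¹ * q) := by group
      rw [e, cj_mul, cj_eq_of_mem_normalizer h1]
    · rw [← cj_mul, cj_eq_of_mem_normalizer h2]

theorem Two.cj_sup_le (h : Two Q z L a b u) {q : G} (hq : q ∈ Q) :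
    cj q (L ⊔ cj u L) ≤ L ⊔ cj u L := by
  have e : cj q (L ⊔ cj u L) = cj q L ⊔ cj q (cj u L) := Subgroup.map_sup _ _ _
  rw [e]
  rcases h.cj_cases hq with ⟨h1, h2⟩ | ⟨h1, h2⟩
  · rw [h1, h2]
  · rw [h1, h2, sup_comm]

theorem Two.sup_inf_cent (h : Two Q z L a b u) :
    (L ⊔ cj u L) ⊓ Subgroup.centralizer ((L ⊔ cj u L : Subgroup G) : Set G) = ⊥ := by
  rw [eq_bot_iff]
  intro x hx
  obtain ⟨hxD, hxC⟩ := Subgroup.mem_inf.mp hx
  rw [Subgroup.mem_bot]
  obtain ⟨l, hl, m, hm, e⟩ := exists_mul_of_mem_sup h.cj_le hxD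
  have hxc := Subgroup.mem_centralizer_iff.mp hxC
  have hl1 : l = 1 := by
    have hlC : l ∈ L ⊓ Subgroup.centralizer (L : Set G) := by
      refine Subgroup.mem_inf.mpr ⟨hl, ?_⟩
      rw [Subgroup.mem_centralizer_iff]
      intro y hy
      have h1 : y * x = x * y := hxc y (le_sup_left (a := L) (b := cj u L) hy)
      have h2 : y * m = m * y := Subgroup.mem_centralizer_iff.mp (h.cj_le hm) y hy
      rw [e] at h1
      have h3 : (y * l) * m = (l * y) * m := by
        calc (y * l) * m = y * (l * m) := by group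
          _ = l * m * y := h1
          _ = l * (m * y) := by group
          _ = l * (y * m) := by rw [h2]
          _ = (l * y) * m := by group
      exact mul_right_cancel h3
    rw [h.toCtx.inf_cent, Subgroup.mem_bot] at hlC
    exact hlC
  have hxm : x = m := by rw [e, hl1, one_mul]
  have hmC : m ∈ cj u L ⊓ Subgroup.centralizer ((cj u L : Subgroup G) : Set G) := by
    refine Subgroup.mem_inf.mpr ⟨hm, ?_⟩
    rw [Subgroup.mem_centralizer_iff]
    intro y hy
    rw [← hxm]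
    exact hxc y (le_sup_right (a := L) (b := cj u L) hy)
  rw [(h.toCtx.cj u).inf_cent, Subgroup.mem_bot] at hmC
  rw [hxm, hmC]

/-- `E(G) = L L^u` -/
theorem Two.layer_eq (h : Two Q z L a b u) : layer G = L ⊔ cj u L := by
  have hL₂ : IsComponent (cj u L) := isComponent_cj h.comp u
  apply le_antisymm
  · refine (layer_le_of_invariant h.les h.zE (L ⊔ cj u L)
      (le_normalizer_of_cj_le (fun q hq => h.cj_sup_le hq)) ?_ h.sup_inf_cent L h.comp le_sup_left).2
    intro K hK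
    by_cases hKL : K = L
    · left; rw [hKL]; exact le_sup_left
    · by_cases hKL₂ : K = cj u L
      · left; rw [hKL₂]; exact le_sup_right
      · right
        have hc1 := Cfsg.Agent.Lib.Helper21_Components.IsComponent.commutator_eq_bot_of_ne
          h.comp hK (fun e => hKL e.symm)
        have hc2 := Cfsg.Agent.Lib.Helper21_Components.IsComponent.commutator_eq_bot_of_ne
          hL₂ hK (fun e => hKL₂ e.symm)
        rw [Subgroup.commutator_eq_bot_iff_le_centralizer] at hc1 hc2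
        rw [Subgroup.le_centralizer_iff]
        exact sup_le hc1 hc2
  · exact sup_le (Cfsg.Agent.Lib.Helper29_Local.IsComponent.le_layer h.comp)
      (Cfsg.Agent.Lib.Helper29_Local.IsComponent.le_layer hL₂)

/-- `b = u a u⁻¹` -/
theorem Two.b_eq (h : Two Q z L a b u) : b = u * a * u⁻¹ := by
  have hzD : z ∈ L ⊔ cj u L := by rw [← h.layer_eq]; exact h.zE
  obtain ⟨a', ha', a₂, ha₂, e⟩ := exists_mul_of_mem_sup h.cj_le hzD
  have e' : a * b = a' * a₂ := by rw [← h.zab, e]
  have hu := unique_decomp h.toCtx.inf_cent h.aL ha' h.bC (h.cj_le ha₂) e'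
  have hb₂ : b ∈ cj u L := by rw [hu.2]; exact ha₂
  -- conjugate by `u`
  have h1 : u * a * u⁻¹ ∈ Subgroup.centralizer (L : Set G) := h.cj_le (conj_mem_cj h.aL)
  have h2 : u * b * u⁻¹ ∈ L := by
    have h3 : u * b * u⁻¹ ∈ cj u (cj u L) := conj_mem_cj hb₂
    rw [← cj_mul, cj_eq_of_mem_normalizer (h.toCtx.sq_mem_normalizer h.uQ)] at h3
    exact h3
  have hcomm : (u * a * u⁻¹) * (u * b * u⁻¹) = (u * b * u⁻¹) * (u * a * u⁻¹) :=
    (Subgroup.mem_centralizer_iff.mp h1 _ h2).symm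
  have e2 : a * b = (u * b * u⁻¹) * (u * a * u⁻¹) := by
    calc a * b = z := h.zab.symm
      _ = u * z * u⁻¹ := by rw [h.les.zc u h.uQ]; group
      _ = u * (a * b) * u⁻¹ := by rw [h.zab]
      _ = (u * a * u⁻¹) * (u * b * u⁻¹) := by group
      _ = (u * b * u⁻¹) * (u * a * u⁻¹) := hcomm
  exact (unique_decomp h.toCtx.inf_cent h.aL h2 h.bC h1 e2).2

/-- squares in `C_L(a)` -/
theorem Two.sq_cases (h : Two Q z L a b u) {c : G} (hc : c ∈ L) (hca : c * a = a * c) :
    c * c = 1 ∨ c * c = a := by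
  have hci : c⁻¹ ∈ L := L.inv_mem hc
  have hcai : c⁻¹ * a = a * c⁻¹ := by
    calc c⁻¹ * a = c⁻¹ * (a * c) * c⁻¹ := by group
      _ = c⁻¹ * (c * a) * c⁻¹ := by rw [hca]
      _ = a * c⁻¹ := by group
  have hx := h.toDec.x_mem hci hcai h.uQ
  rw [inv_inv] at hx
  have hg : u * c⁻¹ * u⁻¹ ∈ Subgroup.centralizer (L : Set G) :=
    h.toCtx.conj_mem_centralizer h.uN hci
  have hcomm : (u * c⁻¹ * u⁻¹) * c = c * (u * c⁻¹ * u⁻¹) :=
    (Subgroup.mem_centralizer_iff.mp hg c hc).symm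
  have e : (c * (u * c⁻¹ * u⁻¹)) * (c * (u * c⁻¹ * u⁻¹)) =
      (c * c) * ((u * c⁻¹ * u⁻¹) * (u * c⁻¹ * u⁻¹)) :=
    Commute.mul_mul_mul_comm hcomm c (u * c⁻¹ * u⁻¹)
  exact h.toDec.cases_of_eq (h.les.sq _ hx) (L.mul_mem hc hc) (Subgroup.mul_mem _ hg hg) e

/-- commutators in `C_L(a)` -/
theorem Two.comm_cases (h : Two Q z L a b u) {c d : G} (hc : c ∈ L) (hca : c * a = a * c)
    (hd : d ∈ L) (hda : d * a = a * d) : c * d = d * c ∨ c * d = a * (d * c) := by
  have hci : c⁻¹ ∈ L := L.inv_mem hc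
  have hdi : d⁻¹ ∈ L := L.inv_mem hd
  have hcai : c⁻¹ * a = a * c⁻¹ := by
    calc c⁻¹ * a = c⁻¹ * (a * c) * c⁻¹ := by group
      _ = c⁻¹ * (c * a) * c⁻¹ := by rw [hca]
      _ = a * c⁻¹ := by group
  have hdai : d⁻¹ * a = a * d⁻¹ := by
    calc d⁻¹ * a = d⁻¹ * (a * d) * d⁻¹ := by group
      _ = d⁻¹ * (d * a) * d⁻¹ := by rw [hda]
      _ = a * d⁻¹ := by group
  have hx := h.toDec.x_mem hci hcai h.uQ
  have hy := h.toDec.x_mem hdi hdai h.uQ
  rw [inv_inv] at hx hy
  have hg : u * c⁻¹ * u⁻¹ ∈ Subgroup.centralizer (L : Set G) :=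
    h.toCtx.conj_mem_centralizer h.uN hci
  have hk : u * d⁻¹ * u⁻¹ ∈ Subgroup.centralizer (L : Set G) :=
    h.toCtx.conj_mem_centralizer h.uN hdi
  have hgd : (u * c⁻¹ * u⁻¹) * d = d * (u * c⁻¹ * u⁻¹) :=
    (Subgroup.mem_centralizer_iff.mp hg d hd).symm
  have hkc : (u * d⁻¹ * u⁻¹) * c = c * (u * d⁻¹ * u⁻¹) :=
    (Subgroup.mem_centralizer_iff.mp hk c hc).symm
  have e1 : (c * (u * c⁻¹ * u⁻¹)) * (d * (u * d⁻¹ * u⁻¹)) =
      (c * d) * ((u * c⁻¹ * u⁻¹) * (u * d⁻¹ * u⁻¹)) :=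
    Commute.mul_mul_mul_comm hgd c (u * d⁻¹ * u⁻¹)
  have e2 : (d * (u * d⁻¹ * u⁻¹)) * (c * (u * c⁻¹ * u⁻¹)) =
      (d * c) * ((u * d⁻¹ * u⁻¹) * (u * c⁻¹ * u⁻¹)) :=
    Commute.mul_mul_mul_comm hkc d (u * c⁻¹ * u⁻¹)
  have hcd : c * d ∈ L := L.mul_mem hc hd
  have hdc : d * c ∈ L := L.mul_mem hd hc
  have hgk := Subgroup.mul_mem _ hg hk
  have hkg := Subgroup.mul_mem _ hk hg
  rcases h.les.comm _ hx _ hy with h1 | h1
  · left
    have e3 : (c * (u * c⁻¹ * u⁻¹)) * (d * (u * d⁻¹ * u⁻¹)) =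
        (d * (u * d⁻¹ * u⁻¹)) * (c * (u * c⁻¹ * u⁻¹)) := by
      have := mul_inv_eq_one.mp h1
      exact mul_inv_eq_iff_eq_mul.mp this
    rw [e1, e2] at e3
    exact (unique_decomp h.toCtx.inf_cent hcd hdc hgk hkg e3).1
  · right
    have e3 : (c * (u * c⁻¹ * u⁻¹)) * (d * (u * d⁻¹ * u⁻¹)) =
        z * ((d * (u * d⁻¹ * u⁻¹)) * (c * (u * c⁻¹ * u⁻¹))) := by
      have := mul_inv_eq_iff_eq_mul.mp h1
      have := mul_inv_eq_iff_eq_mul.mp this
      rw [this]; group
    have hbdc : b * (d * c) = (d * c) * b :=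
      (Subgroup.mem_centralizer_iff.mp h.bC _ hdc).symm
    have e4 : z * ((d * c) * ((u * d⁻¹ * u⁻¹) * (u * c⁻¹ * u⁻¹))) =
        (a * (d * c)) * (b * ((u * d⁻¹ * u⁻¹) * (u * c⁻¹ * u⁻¹))) := by
      rw [h.zab]
      exact Commute.mul_mul_mul_comm hbdc a ((u * d⁻¹ * u⁻¹) * (u * c⁻¹ * u⁻¹))
    rw [e1, e2, e4] at e3
    exact (unique_decomp h.toCtx.inf_cent hcd (L.mul_mem h.aL hdc) hgk
      (Subgroup.mul_mem _ h.bC hkg) e3).1

theorem Two.sq_mem (h : Two Q z L a b u) {c : G} (hc : c ∈ L) (hca : c * a = a * c) :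
    c * c ∈ Subgroup.zpowers a := by
  rcases h.sq_cases hc hca with h1 | h1
  · rw [h1]; exact Subgroup.one_mem _
  · rw [h1]; exact Subgroup.mem_zpowers a

theorem Two.comm_mem (h : Two Q z L a b u) {c d : G} (hc : c ∈ L) (hca : c * a = a * c)
    (hd : d ∈ L) (hda : d * a = a * d) : c * d * c⁻¹ * d⁻¹ ∈ Subgroup.zpowers a := by
  rcases h.comm_cases hc hca hd hda with h1 | h1
  · have e : c * d * c⁻¹ * d⁻¹ = 1 := by
      rw [h1]; group
    rw [e]; exact Subgroup.one_mem _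
  · have e : c * d * c⁻¹ * d⁻¹ = a := by
      rw [h1]; group
    rw [e]; exact Subgroup.mem_zpowers a

theorem Two.pow_four_of_comm (h : Two Q z L a b u) {c : G} (hc : c ∈ L) (hca : c * a = a * c) :
    c ^ 4 = 1 := by
  have e : c ^ 4 = (c * c) * (c * c) := by
    rw [show (4 : ℕ) = 2 + 2 from rfl, pow_add, pow_two]
  rw [e]
  rcases h.sq_cases hc hca with h1 | h1
  · rw [h1, one_mul]
  · rw [h1, h.aa]

/-- `C_L(a)` is a Sylow 2-subgroup of `L`, and `Φ(C_L(a)) ≤ ⟨a⟩` -/
theorem Two.exists_sylow (h : Two Q z L a b u) :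
    ∃ R : Sylow 2 ↥L, (R : Subgroup ↥L) = (Subgroup.centralizer ({a} : Set G)).subgroupOf L ∧
      (frattini ↥(R : Subgroup ↥L)).map ((L.subtype).comp (R : Subgroup ↥L).subtype) ≤
        Subgroup.zpowers a := by
  have : Fact (Nat.Prime 2) := ⟨Nat.prime_two⟩
  have hmem : ∀ c : ↥L, c ∈ (Subgroup.centralizer ({a} : Set G)).subgroupOf L →
      (c : G) * a = a * (c : G) := by
    intro c hc
    rw [Subgroup.mem_subgroupOf, mem_centralizer_singleton] at hc
    exact hc
  have hC2 : IsPGroup 2 ↥((Subgroup.centralizer ({a} : Set G)).subgroupOf L) := by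
    intro g
    refine ⟨2, ?_⟩
    have h4 := h.pow_four_of_comm (g : ↥L).2 (hmem _ g.2)
    apply Subtype.ext
    apply Subtype.ext
    have e : (2 : ℕ) ^ 2 = 4 := by norm_num
    rw [e]
    simpa using h4
  obtain ⟨S, hQS⟩ := h.les.two.exists_le_sylow
  have hntS : Nontrivial ↥(S : Subgroup G) :=
    ⟨⟨⟨z, hQS h.les.zQ⟩, 1, fun e => h.les.z1 (congrArg Subtype.val e)⟩⟩
  have hcn : Nontrivial ↥(Subgroup.center ↥(S : Subgroup G)) := S.isPGroup'.center_nontrivial
  obtain ⟨x, hx⟩ := exists_ne (1 : ↥(Subgroup.center ↥(S : Subgroup G)))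
  have hxz : ((x : ↥(S : Subgroup G)) : G) = z := by
    have hxc : ∀ q ∈ Q, q * ((x : ↥(S : Subgroup G)) : G) = ((x : ↥(S : Subgroup G)) : G) * q := by
      intro q hq
      have := Subgroup.mem_center_iff.mp x.2 ⟨q, hQS hq⟩
      exact congrArg Subtype.val this
    rcases h.les.cent _ hxc with h1 | h1
    · exfalso
      apply hx
      apply Subtype.ext
      apply Subtype.ext
      exact h1
    · exact h1
  have hzS : ∀ s ∈ (S : Subgroup G), s * z = z * s := by
    intro s hs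
    have h1 := Subgroup.mem_center_iff.mp x.2 ⟨s, hs⟩
    have h2 : s * ((x : ↥(S : Subgroup G)) : G) = ((x : ↥(S : Subgroup G)) : G) * s :=
      congrArg Subtype.val h1
    rwa [hxz] at h2
  have hSle : (S : Subgroup G).subgroupOf L ≤
      (Subgroup.centralizer ({a} : Set G)).subgroupOf L := by
    intro s hs
    rw [Subgroup.mem_subgroupOf] at hs
    rw [Subgroup.mem_subgroupOf, mem_centralizer_singleton]
    have h1 := hzS _ hs
    have h2 : (s : G) * b = b * (s : G) := Subgroup.mem_centralizer_iff.mp h.bC _ s.2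
    rw [h.zab] at h1
    have h3 : ((s : G) * a) * b = (a * (s : G)) * b := by
      calc ((s : G) * a) * b = (s : G) * (a * b) := by group
        _ = a * b * (s : G) := h1
        _ = a * (b * (s : G)) := by group
        _ = a * ((s : G) * b) := by rw [h2]
        _ = (a * (s : G)) * b := by group
    exact mul_right_cancel h3
  have hidx : ¬ 2 ∣ ((S : Subgroup G).subgroupOf L).index :=
    Cfsg.Agent.Lib.Helper23_PComp.not_dvd_relIndex_of_subnormal 2 (S : Subgroup G)
      S.not_dvd_index h.comp.1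
  have hidx' : ¬ 2 ∣ ((Subgroup.centralizer ({a} : Set G)).subgroupOf L).index :=
    fun hd => hidx (dvd_trans hd (Subgroup.index_dvd_of_le hSle))
  refine ⟨hC2.toSylow hidx', IsPGroup.toSylow_coe hC2 hidx', ?_⟩
  apply frattini_map_le
  · intro x
    exact h.sq_mem (x : ↥L).2 (hmem _ x.2)
  · intro x y
    exact h.comm_mem (x : ↥L).2 (hmem _ x.2) (y : ↥L).2 (hmem _ y.2)

/-- elements of `C_E(z)` have order dividing four -/
theorem Two.pow_four (h : Two Q z L a b u) {x : G} (hxE : x ∈ layer G) (hxz : x * z = z * x) :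
    x ^ 4 = 1 := by
  rw [h.layer_eq] at hxE
  obtain ⟨l, hl, m, hm, e⟩ := exists_mul_of_mem_sup h.cj_le hxE
  have hmC : m ∈ Subgroup.centralizer (L : Set G) := h.cj_le hm
  have hma : m * a = a * m := (Subgroup.mem_centralizer_iff.mp hmC a h.aL).symm
  have hbl : b * l = l * b := (Subgroup.mem_centralizer_iff.mp h.bC l hl).symm
  have hlm : l * m = m * l := Subgroup.mem_centralizer_iff.mp hmC l hl
  have e1 : (l * a) * (m * b) = (a * l) * (b * m) := by
    calc (l * a) * (m * b) = (l * m) * (a * b) := (Commute.mul_mul_mul_comm hma l b).symm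
      _ = (a * b) * (l * m) := by rw [← e, ← h.zab]; exact hxz
      _ = (a * l) * (b * m) := Commute.mul_mul_mul_comm hbl a m
  have hu := unique_decomp h.toCtx.inf_cent (L.mul_mem hl h.aL) (L.mul_mem h.aL hl)
    (Subgroup.mul_mem _ hmC h.bC) (Subgroup.mul_mem _ h.bC hmC) e1
  have hl4 : l ^ 4 = 1 := h.pow_four_of_comm hl hu.1
  have hm' : u⁻¹ * m * u ∈ L := mem_cj.mp hm
  have hm'a : (u⁻¹ * m * u) * a = a * (u⁻¹ * m * u) := by
    have h2 := hu.2
    rw [h.b_eq] at h2
    calc (u⁻¹ * m * u) * a = u⁻¹ * (m * (u * a * u⁻¹)) * u := by group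
      _ = u⁻¹ * ((u * a * u⁻¹) * m) * u := by rw [h2]
      _ = a * (u⁻¹ * m * u) := by group
  have hm4 : m ^ 4 = 1 := by
    have h3 := h.pow_four_of_comm hm' hm'a
    have e2 : m = u * (u⁻¹ * m * u) * u⁻¹ := by group
    rw [e2, conj_pow, h3]; group
  have hc : Commute l m := hlm
  rw [e, hc.mul_pow, hl4, hm4, one_mul]

/-- `Q` is not `O_2(C_G(z))` -/
theorem Two.ne_pCore (h : Two Q z L a b u) :
    Q ≠ (Cfsg.pCore 2 ↥(Subgroup.centralizer ({z} : Set G))).map
      (Subgroup.centralizer ({z} : Set G)).subtype := by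
  intro hQe
  have : Fact (Nat.Prime 2) := ⟨Nat.prime_two⟩
  have hEn : (layer G).Normal := Cfsg.Agent.Lib.Helper29_Local.layer_normal G
  have hNn : ((layer G).subgroupOf (Subgroup.centralizer ({z} : Set G))).Normal := inferInstance
  have hN2 : IsPGroup 2 ↥((layer G).subgroupOf (Subgroup.centralizer ({z} : Set G))) := by
    intro y
    refine ⟨2, ?_⟩
    have hyE : (((y : ↥(Subgroup.centralizer ({z} : Set G))) : G)) ∈ layer G :=
      Subgroup.mem_subgroupOf.mp y.2
    have hyz : (((y : ↥(Subgroup.centralizer ({z} : Set G))) : G)) * z =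
        z * (((y : ↥(Subgroup.centralizer ({z} : Set G))) : G)) :=
      mem_centralizer_singleton.mp (y : ↥(Subgroup.centralizer ({z} : Set G))).2
    have h4 := h.pow_four hyE hyz
    apply Subtype.ext
    apply Subtype.ext
    have e : (2 : ℕ) ^ 2 = 4 := by norm_num
    rw [e]
    simpa using h4
  have hle := Cfsg.Agent.Lib.Helper1_Cores.le_pCore hNn hN2
  apply h.toDec.not_small
  intro c hc hca
  have hcz : c * z = z * c := h.toDec.comm_z hc hca
  have hcC : c ∈ Subgroup.centralizer ({z} : Set G) := mem_centralizer_singleton.mpr hcz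
  have hcE : c ∈ layer G := Cfsg.Agent.Lib.Helper29_Local.IsComponent.le_layer h.comp hc
  have hcN : (⟨c, hcC⟩ : ↥(Subgroup.centralizer ({z} : Set G))) ∈
      (layer G).subgroupOf (Subgroup.centralizer ({z} : Set G)) := by
    rw [Subgroup.mem_subgroupOf]; exact hcE
  have hcQ : c ∈ Q := by
    rw [hQe]
    exact ⟨⟨c, hcC⟩, hle hcN, rfl⟩
  have hy := h.les.comm c hcQ u h.uQ
  have hg : u * c⁻¹ * u⁻¹ ∈ Subgroup.centralizer (L : Set G) :=
    h.toCtx.conj_mem_centralizer h.uN (L.inv_mem hc)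
  have e : c * u * c⁻¹ * u⁻¹ = c * (u * c⁻¹ * u⁻¹) := by group
  exact h.toDec.cases_of_eq hy hc hg e

end two

end Cfsg.Agent.Lib.Helper69_LESTwo
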