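import Mathlib

/-!
# Second half of M11-L5_120 (helper53's M11 market)

`L5_120_B`: in a group of order 7920 there is no configuration
`t ∈ T` (elementary abelian of order 8), `s, y ∈ N_G(T)` with `s t s⁻¹ ≠ t`, `y` of order 3
centralizing `t` with `C_T(y) = {1, t}`.

Proof: let `O` be the orbit of `t` under `N = N_G(T)` acting by conjugation.  `O ⊆ T ∖ {1}`,
so `|O| ≤ 7`; `t, s t s⁻¹ ∈ O` so `|O| ≥ 2`; conjugation by `y` permutes `O` with third power
the identity and unique fixed point `t`, so `|O| ≡ 1 (mod 3)`; hence `|O| ∈ {4, 7}`.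
By orbit-stabilizer `|N| = |O| * |Stab|` and `T ≤ Stab` (`T` is abelian), so `8 ∣ |Stab|`,
and `32 ∣ 7920` or `7 ∣ 7920`: contradiction.
-/

namespace Cfsg.Agent.Lib.Helper69_M11_L5_120_B

/-- Orbit counting core: the cardinality facts about the orbit of `t` under `N_G(T)`. -/
theorem orbit_core {G : Type*} [Group G] [Finite G]
    (T : Subgroup G) (t : G) (htT : t ∈ T)
    (hTcomm : ∀ a ∈ T, ∀ b ∈ T, a * b = b * a) :
    ∃ (O : Set G) (m : ℕ),
      (∀ x, x ∈ O ↔ ∃ n ∈ Subgroup.normalizer (T : Set G), n * t * n⁻¹ = x) ∧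
      O.ncard * (Nat.card T * m) = Nat.card (Subgroup.normalizer (T : Set G)) := by
  classical
  set N : Subgroup G := Subgroup.normalizer (T : Set G) with hN
  let e : G →* ConjAct G := (ConjAct.toConjAct (G := G)).toMonoidHom
  have he : Function.Injective e := (ConjAct.toConjAct (G := G)).injective
  let K : Subgroup (ConjAct G) := N.map e
  have hKcard : Nat.card K = Nat.card N := Subgroup.card_map_of_injective he
  have hsmul : ∀ (k : K) (g : G), k • g =
      ConjAct.ofConjAct (k : ConjAct G) * g * (ConjAct.ofConjAct (k : ConjAct G))⁻¹ := by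
    intro k g
    rw [Subgroup.smul_def, ConjAct.smul_def]
  have hKmem : ∀ k : ConjAct G, k ∈ K ↔ ConjAct.ofConjAct k ∈ N := by
    intro k
    constructor
    · rintro ⟨n, hn, rfl⟩
      exact hn
    · intro h
      exact ⟨ConjAct.ofConjAct k, h, rfl⟩
  have horb : (MulAction.stabilizer K t).index = (MulAction.orbit K t).ncard :=
    MulAction.index_stabilizer K t
  have hcm := (MulAction.stabilizer K t).card_mul_index
  -- `T` embeds in the stabilizer
  have hTle : T.map e ≤ (MulAction.stabilizer K t).map K.subtype := by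
    rintro _ ⟨x, hx, rfl⟩
    have hxN : x ∈ N := Subgroup.le_normalizer hx
    have hxK : e x ∈ K := Subgroup.mem_map_of_mem e hxN
    refine ⟨⟨e x, hxK⟩, ?_, rfl⟩
    rw [SetLike.mem_coe, MulAction.mem_stabilizer_iff, hsmul]
    show x * t * x⁻¹ = t
    rw [hTcomm x hx t htT, mul_inv_cancel_right]
  have hTdvd : Nat.card T ∣ Nat.card (MulAction.stabilizer K t) := by
    have h1 := Subgroup.card_dvd_of_le hTle
    rw [Subgroup.card_map_of_injective he, Subgroup.card_subtype] at h1
    exact h1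
  obtain ⟨m, hm⟩ := hTdvd
  refine ⟨MulAction.orbit K t, m, ?_, ?_⟩
  · intro x
    rw [MulAction.mem_orbit_iff]
    constructor
    · rintro ⟨k, hk⟩
      refine ⟨ConjAct.ofConjAct (k : ConjAct G), (hKmem _).1 k.2, ?_⟩
      rw [← hsmul]; exact hk
    · rintro ⟨n, hn, hx⟩
      refine ⟨⟨e n, Subgroup.mem_map_of_mem e hn⟩, ?_⟩
      rw [hsmul]; exact hx
  · rw [← hm, ← horb, mul_comm, hcm, hKcard]

/-- The final contradiction of M11-L5_120 with only the hypotheses that are used. -/
theorem orbit_contra {G : Type*} [Group G] [Finite G] (hG : Nat.card G = 7920) (t : G)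
    (T : Subgroup G) (hT8 : Nat.card T = 8) (hTel : ∀ x ∈ T, x ^ 2 = 1) (htT : t ∈ T)
    (s : G) (hsN : s ∈ Subgroup.normalizer (T : Set G)) (hst : s * t * s⁻¹ ≠ t)
    (y : G) (hy3 : orderOf y = 3) (hyN : y ∈ Subgroup.normalizer (T : Set G))
    (hyC : ∀ x ∈ T, y * x = x * y → x = 1 ∨ x = t) (hyt : y * t = t * y) : False := by
  classical
  have hTcomm : ∀ a ∈ T, ∀ b ∈ T, a * b = b * a := by
    intro a ha b hb
    have h1 := hTel a ha
    have h2 := hTel b hb
    have h3 := hTel (a * b) (T.mul_mem ha hb)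
    have ha' : a⁻¹ = a := by
      rw [inv_eq_iff_mul_eq_one, ← sq]; exact h1
    have hb' : b⁻¹ = b := by
      rw [inv_eq_iff_mul_eq_one, ← sq]; exact h2
    have hab : (a * b)⁻¹ = a * b := by
      rw [inv_eq_iff_mul_eq_one, ← sq]; exact h3
    rw [← hab, mul_inv_rev, ha', hb']
  obtain ⟨O, m, hO, hcard⟩ := orbit_core T t htT hTcomm
  rw [hT8] at hcard
  have hNdvd : Nat.card (Subgroup.normalizer (T : Set G)) ∣ 7920 := by
    rw [← hG]; exact Subgroup.card_subgroup_dvd_card _
  have ht1 : t ≠ 1 := by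
    intro h; apply hst; rw [h]; simp
  have hOT : ∀ x ∈ O, x ∈ T ∧ x ≠ 1 := by
    intro x hx
    obtain ⟨n, hn, rfl⟩ := (hO x).1 hx
    refine ⟨((Subgroup.mem_normalizer_iff.1 hn) t).1 htT, ?_⟩
    intro h
    apply ht1
    have h' := congrArg (fun z => n⁻¹ * z * n) h
    simpa [mul_assoc] using h'
  have htO : t ∈ O := (hO t).2 ⟨1, Subgroup.one_mem _, by simp⟩
  have hsO : s * t * s⁻¹ ∈ O := (hO _).2 ⟨s, hsN, rfl⟩
  have hOfin : O.Finite := Set.toFinite O
  have hO2 : 2 ≤ O.ncard := by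
    have hsub : ({t, s * t * s⁻¹} : Set G) ⊆ O := by
      intro z hz
      rcases hz with rfl | rfl
      · exact htO
      · exact hsO
    calc 2 = ({t, s * t * s⁻¹} : Set G).ncard := (Set.ncard_pair (Ne.symm hst)).symm
      _ ≤ O.ncard := Set.ncard_le_ncard hsub hOfin
  have hO7 : O.ncard ≤ 7 := by
    have hsub : O ⊆ (T : Set G) \ {1} := fun x hx => ⟨(hOT x hx).1, (hOT x hx).2⟩
    have h1 : ((T : Set G) \ {1}).ncard = 7 := by
      rw [Set.ncard_sdiff_singleton_of_mem (T.one_mem)]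
      have : (T : Set G).ncard = 8 := by
        rw [← hT8]; exact (Nat.card_coe_set_eq (T : Set G)).symm
      rw [this]
    calc O.ncard ≤ ((T : Set G) \ {1}).ncard := Set.ncard_le_ncard hsub (Set.toFinite _)
      _ = 7 := h1
  have hy3' : y ^ 3 = 1 := by rw [← hy3]; exact pow_orderOf_eq_one y
  have hyO : ∀ x ∈ O, y * x * y⁻¹ ∈ O := by
    intro x hx
    obtain ⟨n, hn, rfl⟩ := (hO x).1 hx
    exact (hO _).2 ⟨y * n, Subgroup.mul_mem _ hyN hn, by group⟩
  have hyO' : ∀ x ∈ O, y⁻¹ * x * y ∈ O := by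
    intro x hx
    obtain ⟨n, hn, rfl⟩ := (hO x).1 hx
    exact (hO _).2 ⟨y⁻¹ * n, Subgroup.mul_mem _ (Subgroup.inv_mem _ hyN) hn, by group⟩
  have hmod : O.ncard % 3 = 1 := by
    let _ : Fintype O := Fintype.ofFinite O
    let σ : Equiv.Perm O :=
      { toFun := fun x => ⟨y * x * y⁻¹, hyO x x.2⟩
        invFun := fun x => ⟨y⁻¹ * x * y, hyO' x x.2⟩
        left_inv := fun x => by apply Subtype.ext; simp [mul_assoc]
        right_inv := fun x => by apply Subtype.ext; simp [mul_assoc] }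
    have hσ : σ ^ 3 ^ 1 = 1 := by
      ext x
      simp only [pow_succ, pow_zero, one_mul, Equiv.Perm.mul_apply,
        Equiv.Perm.one_apply]
      show y * (y * (y * (x : G) * y⁻¹) * y⁻¹) * y⁻¹ = x
      have h : y * (y * (y * (x : G) * y⁻¹) * y⁻¹) * y⁻¹ = y ^ 3 * x * (y ^ 3)⁻¹ := by
        simp only [pow_succ, pow_zero, one_mul, mul_inv_rev, mul_assoc]
      rw [h, hy3']; simp
    have : Fact (Nat.Prime 3) := ⟨by norm_num⟩
    have hmodeq := Equiv.Perm.card_compl_support_modEq hσ
    have hsupp : σ.supportᶜ = {⟨t, htO⟩} := by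
      ext x
      rw [Finset.mem_compl, Equiv.Perm.mem_support, not_not, Finset.mem_singleton]
      constructor
      · intro h
        have h' : y * (x : G) * y⁻¹ = x := congrArg Subtype.val h
        have hc : y * (x : G) = x * y := mul_inv_eq_iff_eq_mul.1 h'
        rcases hyC x (hOT x x.2).1 hc with h1 | h1
        · exact absurd h1 (hOT x x.2).2
        · exact Subtype.ext h1
      · rintro rfl
        apply Subtype.ext
        show y * t * y⁻¹ = t
        rw [hyt, mul_inv_cancel_right]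
    rw [hsupp, Finset.card_singleton] at hmodeq
    have hc : Fintype.card O = O.ncard := by
      rw [← Nat.card_eq_fintype_card, Nat.card_coe_set_eq]
    rw [hc] at hmodeq
    unfold Nat.ModEq at hmodeq
    omega
  have h47 : O.ncard = 4 ∨ O.ncard = 7 := by omega
  rcases h47 with h | h
  · rw [h] at hcard
    have h32 : 32 ∣ 7920 := Dvd.dvd.trans ⟨m, by rw [← hcard]; ring⟩ hNdvd
    omega
  · rw [h] at hcard
    have h7 : 7 ∣ 7920 := Dvd.dvd.trans ⟨8 * m, by rw [← hcard]⟩ hNdvd
    omega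

/-- Second half of M11-L5_120, announced interface (`h5`, `ht`, `hH` are not needed). -/
theorem L5_120_B {G : Type*} [Group G] [Finite G] (hG : Nat.card G = 7920)
    (_h5 : ∀ x : G, orderOf x = 5 → Nat.card (Subgroup.centralizer ({x} : Set G)) = 10)
    (t : G) (_ht : orderOf t = 2)
    (_hH : Nat.card (Subgroup.centralizer ({t} : Set G)) = 120)
    (T : Subgroup G) (hT8 : Nat.card T = 8) (hTel : ∀ x ∈ T, x ^ 2 = 1) (htT : t ∈ T)
    (s : G) (hsN : s ∈ Subgroup.normalizer (T : Set G)) (hst : s * t * s⁻¹ ≠ t)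
    (y : G) (hy3 : orderOf y = 3) (hyN : y ∈ Subgroup.normalizer (T : Set G))
    (hyC : ∀ x ∈ T, y * x = x * y → x = 1 ∨ x = t) (hyt : y * t = t * y) : False :=
  orbit_contra hG t T hT8 hTel htT s hsN hst y hy3 hyN hyC hyt

/-- The same statement in the shape announced by helper63 (`normalizer_contra`). -/
theorem normalizer_contra {G : Type*} [Group G] [Finite G] (hG : Nat.card G = 7920)
    (t : G) (T : Subgroup G) (hT8 : Nat.card T = 8) (htT : t ∈ T)
    (hTel : ∀ x ∈ T, x ^ 2 = 1) (y : G) (hy : orderOf y = 3)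
    (hyt : y ∈ Subgroup.centralizer ({t} : Set G))
    (hyT : y ∈ Subgroup.normalizer (T : Set G))
    (hCy : ∀ x ∈ T, y * x = x * y → x = 1 ∨ x = t) (s : G)
    (hsT : s ∈ Subgroup.normalizer (T : Set G)) (hst : s * t * s⁻¹ ≠ t) : False := by
  have hyt' : y * t = t * y := by
    have := (Subgroup.mem_centralizer_iff.1 hyt) t (Set.mem_singleton t)
    exact this.symm
  exact orbit_contra hG t T hT8 hTel htT s hsT hst y hy hyT hCy hyt'

end Cfsg.Agent.Lib.Helper69_M11_L5_120_B
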