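import Mathlib
import Cfsg.Agent.Lib.Helper6_MXDefs

/-!
# S4017 market (architect helper6), package MX-E4D2 (delivered by helper69)

`cit_pairs` : counting the pairs of involutions in the CIT case:
`i * i = i * p + Y * ppart`.
-/

set_option autoImplicit false
open Cfsg.Agent.Lib.Helper6_MXDefs

namespace Cfsg.Agent.Lib.Helper69_MX_E4D2

theorem ncard_eq_card_of_mem_iff {α : Type*} (s : Set α) (S : Finset α)
    (h : ∀ x, x ∈ S ↔ x ∈ s) : s.ncard = S.card := by
  rw [← Set.ncard_coe_finset S]
  congr 1
  ext x
  exact (h x).symm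

variable {G : Type*} [Group G]

theorem orderOf_two_iff (g : G) : orderOf g = 2 ↔ g * g = 1 ∧ g ≠ 1 := by
  haveI : Fact (Nat.Prime 2) := ⟨Nat.prime_two⟩
  rw [orderOf_eq_prime_iff, pow_two]

/-- a `p`-element (`p` odd) of square one is trivial -/
theorem eq_one_of_sq_of_pel {p : ℕ} (hp : p.Prime) (hp2 : p ≠ 2) {y : G} (hy : IsPEl p y)
    (h2 : y * y = 1) : y = 1 := by
  obtain ⟨k, hk⟩ := hy
  have h1 : orderOf y ∣ 2 := orderOf_dvd_of_pow_eq_one (by rw [pow_two]; exact h2)
  have h3 : orderOf y ∣ p ^ k := orderOf_dvd_of_pow_eq_one hk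
  have hc : Nat.Coprime 2 (p ^ k) :=
    Nat.Coprime.pow_right k ((Nat.coprime_primes Nat.prime_two hp).mpr (Ne.symm hp2))
  have : orderOf y ∣ 1 := by
    have := Nat.dvd_gcd h1 h3
    rwa [hc] at this
  exact orderOf_eq_one_iff.mp (Nat.dvd_one.mp this)

variable [Finite G] {p a : ℕ} {Q : Subgroup G} {x : G}

/-- MX-E4D2 -/
theorem cit_pairs (hF : UFacts G p a) (hPr : CitProdProp G p a) (hIC : CitInvCountProp G p a) :
    CitPairsProp G p a := by
  intro Q x hctx hcit
  classical
  haveI : Fintype G := Fintype.ofFinite G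
  have hp := hctx.hp
  have hp2 := hctx.hp2
  have hprod := hPr Q x hctx hcit
  have hcount := hIC Q x hctx hcit
  obtain ⟨I, hI⟩ : ∃ I : Finset G, I = Finset.univ.filter (fun v => orderOf v = 2) := ⟨_, rfl⟩
  obtain ⟨R, hR⟩ : ∃ R : Finset G, R = Finset.univ.filter (fun y => y ∈ RealP G p) := ⟨_, rfl⟩
  have memI : ∀ v, v ∈ I ↔ orderOf v = 2 := by intro v; simp [hI]
  have memR : ∀ y, y ∈ R ↔ y ∈ RealP G p := by intro v; simp [hR]
  have hIcard : (Invs G).ncard = I.card := ncard_eq_card_of_mem_iff _ _ (by
    intro v; rw [memI]; rfl)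
  have hRcard : (RealP G p).ncard = R.card := ncard_eq_card_of_mem_iff _ _ memR
  rw [hIcard, hRcard]
  -- involutions commuting with a given involution
  have hcomm : ∀ t ∈ I, (I.filter (fun u => t * u = u * t)).card = p := by
    intro t ht
    rw [memI] at ht
    have hc := hcit.card t ht
    have h1 : Nat.card (Subgroup.centralizer ({t} : Set G)) =
        (Finset.univ.filter (fun g : G => g * t = t * g)).card := by
      rw [← SetLike.coe_sort_coe, Nat.card_coe_set_eq]
      · exact ncard_eq_card_of_mem_iff _ _ (by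
          intro g
          simp only [Finset.mem_filter, Finset.mem_univ, true_and, SetLike.mem_coe,
            Subgroup.mem_centralizer_singleton_iff])
    have h2 : I.filter (fun u => t * u = u * t) =
        (Finset.univ.filter (fun g : G => g * t = t * g)).erase 1 := by
      ext u
      simp only [Finset.mem_filter, Finset.mem_erase, Finset.mem_univ, true_and, memI]
      constructor
      · rintro ⟨hu, hcm⟩
        exact ⟨((orderOf_two_iff u).mp hu).2, hcm.symm⟩
      · rintro ⟨hu1, hcm⟩
        exact ⟨(orderOf_two_iff u).mpr ⟨hcit.sq t ht u hcm, hu1⟩, hcm.symm⟩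
    rw [h2, Finset.card_erase_of_mem (by simp), ← h1, hc]
    rfl
  -- involutions inverting a given real element
  have hinv : ∀ y ∈ R, (I.filter (fun t => t * y * t⁻¹ = y⁻¹)).card = ppart G p := by
    intro y hy
    rw [memR] at hy
    rw [← hcount y hy]
    symm
    exact ncard_eq_card_of_mem_iff _ _ (by
      intro v
      simp only [Finset.mem_filter, memI, Set.mem_ofPred_eq])
  -- the bijection between non-commuting pairs and inverting pairs
  have hbij : ((I ×ˢ I).filter (fun z => ¬ z.1 * z.2 = z.2 * z.1)).card =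
      ((I ×ˢ R).filter (fun z => z.1 * z.2 * z.1⁻¹ = z.2⁻¹)).card := by
    refine Finset.card_nbij' (fun z => (z.1, z.1 * z.2)) (fun z => (z.1, z.1 * z.2)) ?_ ?_ ?_ ?_
    · rintro ⟨t, u⟩ hz
      simp only [Finset.coe_filter, Finset.mem_product, memI, Set.mem_ofPred_eq] at hz ⊢
      obtain ⟨⟨ht, hu⟩, hnc⟩ := hz
      have ht2 := ((orderOf_two_iff t).mp ht).1
      have hu2 := ((orderOf_two_iff u).mp hu).1
      have htinv : t⁻¹ = t := inv_eq_of_mul_eq_one_right ht2
      have huinv : u⁻¹ = u := inv_eq_of_mul_eq_one_right hu2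
      have hinvy : t * (t * u) * t⁻¹ = (t * u)⁻¹ := by
        rw [mul_inv_rev, htinv, huinv, ← mul_assoc, ht2, one_mul]
      refine ⟨⟨ht, ?_⟩, hinvy⟩
      rw [memR]
      refine ⟨?_, ?_, t, ht, hinvy⟩
      · intro h1
        apply hnc
        have : u = t := by
          rw [← htinv]
          exact eq_inv_of_mul_eq_one_right h1
        rw [this]
      · rcases hprod t u ht hu with h | h
        · exact absurd h hnc
        · exact h
    · rintro ⟨t, y⟩ hz
      simp only [Finset.coe_filter, Finset.mem_product, memI, memR, Set.mem_ofPred_eq] at hz ⊢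
      obtain ⟨⟨ht, hy⟩, hty⟩ := hz
      have ht2 := ((orderOf_two_iff t).mp ht).1
      have htinv : t⁻¹ = t := inv_eq_of_mul_eq_one_right ht2
      obtain ⟨hy1, hyp, -⟩ := hy
      have hu2 : t * y * (t * y) = 1 := by
        have : t * y * t = y⁻¹ := by rw [htinv] at hty; exact hty
        rw [← mul_assoc, this, inv_mul_cancel]
      have hu1 : t * y ≠ 1 := by
        intro h
        have hyt : y = t := by
          have : y = t⁻¹ := eq_inv_of_mul_eq_one_right h
          rw [this, htinv]
        apply hy1
        apply eq_one_of_sq_of_pel hp hp2 hyp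
        rw [hyt]
        exact ht2
      refine ⟨⟨ht, (orderOf_two_iff _).mpr ⟨hu2, hu1⟩⟩, ?_⟩
      intro hcm
      -- t * (t * y) = (t * y) * t
      apply hy1
      apply eq_one_of_sq_of_pel hp hp2 hyp
      have h1 : y = t * y * t := by
        rw [← mul_assoc, ht2, one_mul] at hcm
        exact hcm
      have h2 : t * y * t = y⁻¹ := by rw [htinv] at hty; exact hty
      rw [h2] at h1
      calc y * y = y * y⁻¹ := by rw [← h1]
        _ = 1 := mul_inv_cancel y
    · rintro ⟨t, u⟩ hz
      simp only [Finset.coe_filter, Finset.mem_product, memI, Set.mem_ofPred_eq] at hz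
      obtain ⟨⟨ht, hu⟩, hnc⟩ := hz
      have ht2 := ((orderOf_two_iff t).mp ht).1
      simp only [← mul_assoc, ht2, one_mul]
    · rintro ⟨t, y⟩ hz
      simp only [Finset.coe_filter, Finset.mem_product, memI, memR, Set.mem_ofPred_eq] at hz
      obtain ⟨⟨ht, hy⟩, hty⟩ := hz
      have ht2 := ((orderOf_two_iff t).mp ht).1
      simp only [← mul_assoc, ht2, one_mul]
  calc I.card * I.card = (I ×ˢ I).card := (Finset.card_product I I).symm
    _ = ((I ×ˢ I).filter (fun z => z.1 * z.2 = z.2 * z.1)).card +
        ((I ×ˢ I).filter (fun z => ¬ z.1 * z.2 = z.2 * z.1)).card :=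
          (Finset.card_filter_add_card_filter_not _).symm
    _ = I.card * p + R.card * ppart G p := by
        congr 1
        · rw [Finset.card_filter, Finset.sum_product]
          have : ∀ t ∈ I, (∑ u ∈ I, if t * u = u * t then 1 else 0) = p := by
            intro t ht
            rw [← Finset.card_filter]
            exact hcomm t ht
          rw [Finset.sum_congr rfl this, Finset.sum_const, smul_eq_mul]
        · rw [hbij, Finset.card_filter, Finset.sum_product_right]
          have : ∀ y ∈ R, (∑ t ∈ I, if t * y * t⁻¹ = y⁻¹ then 1 else 0) = ppart G p := by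
            intro y hy
            rw [← Finset.card_filter]
            exact hinv y hy
          rw [Finset.sum_congr rfl this, Finset.sum_const, smul_eq_mul]

end Cfsg.Agent.Lib.Helper69_MX_E4D2
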