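import Mathlib
import Cfsg.Agent.Lib.Helper38_OD2
import Cfsg.Agent.Lib.Helper94_OrthVec

/-!
# S5677 package FULL2 (helper69, for helper38): if all pairs of blocks are linked, `M` contains
every Siegel element.
-/

set_option autoImplicit false
set_option linter.unusedSectionVars false

namespace Cfsg.Agent.Lib.Helper69_OD_FULL2

open Module Cfsg.Agent.Lib.Helper94_Symp Cfsg.Agent.Lib.Helper94_OrthSmall
  Cfsg.Agent.Lib.Helper94_OrthSiegel Cfsg.Agent.Lib.Helper94_OrthSiegel2
  Cfsg.Agent.Lib.Helper94_OrthNondeg Cfsg.Agent.Lib.Helper94_OrthRefl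
  Cfsg.Agent.Lib.Helper94_OrthVec Cfsg.Agent.Lib.Helper38_OD
open scoped commutatorElement

variable {F V : Type*} [Field F] [AddCommGroup V] [Module F V]

section Multi

variable [Finite F] [FiniteDimensional F V] {Q : V → F} {B : LinearMap.BilinForm F V}
  (hQs : ∀ (c : F) (v : V), Q (c • v) = c * c * Q v)
  (hQp : ∀ u v : V, Q (u + v) = Q u + Q v + B u v)
  {t : ℕ} (D : Fin t → Submodule F V)
  (hperp : ∀ i j, i ≠ j → ∀ x ∈ D i, ∀ y ∈ D j, B x y = 0)
  (hnd : ∀ i, NdOn B (D i))

include hQs hQp hperp hnd in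
/-- the full Siegel group at a singular vector of a block lies in `M` -/
theorem sieg_mem_of_linked (hsup : ⨆ i, D i = ⊤) (M : Subgroup (V ≃ₗ[F] V))
    (hMblk : ∀ i, HasSieg Q B M (D i))
    (hlink : ∀ p r : Fin t, p ≠ r → Linked Q B M (D p) (D r))
    {i : Fin t} {u : V} (hu : u ∈ D i) (hQu : Q u = 0) (z : V) (huz : B u z = 0) :
    sieg Q B u z ∈ M := by
  -- the part of `z` outside the block
  have hout : InZ Q B M u (z - op B (D i) z) := by
    have hz : z ∈ ⨆ i, D i := by rw [hsup]; exact Submodule.mem_top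
    refine Submodule.iSup_induction D
      (motive := fun z => InZ Q B M u (z - op B (D i) z)) hz ?_ ?_ ?_
    · intro m y hy
      by_cases hmi : m = i
      · subst hmi
        rw [op_of_mem Q B hQp (hnd m) hy, sub_self]
        exact InZ_zero hQs hQp hQu
      · rw [op_of_mem_other hQp D hperp hnd hmi hy, sub_zero]
        exact hlink i m (Ne.symm hmi) u hu hQu y hy
    · rw [map_zero, sub_zero]
      exact InZ_zero hQs hQp hQu
    · intro y y' hy hy'
      have : y + y' - op B (D i) (y + y') = (y - op B (D i) y) + (y' - op B (D i) y') := by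
        rw [map_add]; abel
      rw [this]
      exact InZ_add hQs hQp hQu hy hy'
  -- the part of `z` inside the block
  have hin : InZ Q B M u (op B (D i) z) := by
    apply InZ_of_hasSieg (hMblk i) hu (op_mem B (D i) z) hQu
    rw [B_op_right Q B hQp (hnd i) z hu, huz]
  have hall := InZ_add hQs hQp hQu hin hout
  rw [add_sub_cancel] at hall
  exact InZ_one hall

include hQs hQp hperp hnd in
/-- **PKG FULL2.** If all pairs of blocks are linked, `M` contains every Siegel element. -/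
theorem all_sieg_of_linked (hN : B.Nondegenerate) (hsup : ⨆ i, D i = ⊤)
    (h3 : ∀ i, 3 ≤ finrank F (D i)) (ht : 0 < t) (M : Subgroup (V ≃ₗ[F] V)) (hMO : M ≤ oG Q)
    (hMblk : ∀ i, HasSieg Q B M (D i))
    (hlink : ∀ p r : Fin t, p ≠ r → Linked Q B M (D p) (D r)) :
    ∀ u z, Q u = 0 → B u z = 0 → sieg Q B u z ∈ M := by
  obtain ⟨i0⟩ : Nonempty (Fin t) := ⟨⟨0, ht⟩⟩
  -- a hyperbolic pair in the block `D i0`
  obtain ⟨w1, hw1A, hw10, hQw1⟩ := exists_singular_in Q B hQs hQp (D i0) (h3 i0)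
  obtain ⟨w2, hw2A, hQw2, hw21⟩ := exists_sing_not_orth Q B hQs hQp (D i0) (hnd i0) (h3 i0)
    (hnd i0 w1 hw1A hw10)
  have h12 : B w1 w2 ≠ 0 := by
    rw [B_symm Q B hQp]
    exact hw21
  exact all_of_pair Q B hQs hQp hN M hMO
    ⟨hQw1, fun z hz => sieg_mem_of_linked hQs hQp D hperp hnd hsup M hMblk hlink hw1A hQw1 z hz⟩
    ⟨hQw2, fun z hz => sieg_mem_of_linked hQs hQp D hperp hnd hsup M hMblk hlink hw2A hQw2 z hz⟩
    h12

end Multi

end Cfsg.Agent.Lib.Helper69_OD_FULL2
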