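import Mathlib
import Cfsg.Agent.Lib.Helper38_OD2
import Cfsg.Agent.Lib.Helper94_OrthVec

/-!
# S5677 package LINKALL (helper69, for helper38): linkedness of one pair of blocks spreads to all
pairs under the block-permuting 3-cycles.
-/

set_option autoImplicit false
set_option linter.unusedSectionVars false

namespace Cfsg.Agent.Lib.Helper69_OD_LINKALL

open Module Cfsg.Agent.Lib.Helper94_Symp Cfsg.Agent.Lib.Helper94_OrthSmall
  Cfsg.Agent.Lib.Helper94_OrthSiegel Cfsg.Agent.Lib.Helper94_OrthSiegel2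
  Cfsg.Agent.Lib.Helper94_OrthNondeg Cfsg.Agent.Lib.Helper94_OrthRefl
  Cfsg.Agent.Lib.Helper94_OrthVec Cfsg.Agent.Lib.Helper38_OD
open scoped commutatorElement

variable {F V : Type*} [Field F] [AddCommGroup V] [Module F V]

section Multi

variable [Finite F] [FiniteDimensional F V] {Q : V → F} {B : LinearMap.BilinForm F V}
  (hQs : ∀ (c : F) (v : V), Q (c • v) = c * c * Q v)
  (hQp : ∀ u v : V, Q (u + v) = Q u + Q v + B u v)
  {t : ℕ} (D : Fin t → Submodule F V)

include hQs hQp in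
/-- Linkedness is transported by the elements of `M ∩ O(Q)`. -/
theorem linked_map (M : Subgroup (V ≃ₗ[F] V)) (hMO : M ≤ oG Q) {X Y X' Y' : Submodule F V}
    {c : V ≃ₗ[F] V} (hc : c ∈ M) (hX : X.map (c : V →ₗ[F] V) = X')
    (hY : Y.map (c : V →ₗ[F] V) = Y') (h : Linked Q B M X Y) : Linked Q B M X' Y' := by
  intro u hu hQu y hy
  rw [← hX] at hu
  rw [← hY] at hy
  obtain ⟨u', hu', rfl⟩ := hu
  obtain ⟨y', hy', rfl⟩ := hy
  have hcO : c ∈ oG Q := hMO hc
  have hQu' : Q u' = 0 := by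
    have := (mem_oG.mp hcO) u'
    rw [← this]
    exact hQu
  exact InZ_map hQs hQp hc hcO hQu' (h u' hu' hQu' y' hy')

include hQs hQp in
/-- one step: all pairs meeting `{i, l}` -/
theorem linked_step (M : Subgroup (V ≃ₗ[F] V)) (hMO : M ≤ oG Q)
    (hcyc : ∀ i l r : Fin t, i ≠ l → l ≠ r → i ≠ r → ∃ c ∈ M,
      (D i).map (c : V →ₗ[F] V) = D r ∧ (D l).map (c : V →ₗ[F] V) = D i ∧
      (D r).map (c : V →ₗ[F] V) = D l)
    {i l : Fin t} (hil : l ≠ i) (h1 : Linked Q B M (D i) (D l)) (h2 : Linked Q B M (D l) (D i))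
    (p r : Fin t) (hpr : p ≠ r) (hmeet : p = i ∨ p = l ∨ r = i ∨ r = l) :
    Linked Q B M (D p) (D r) := by
  rcases hmeet with rfl | rfl | rfl | rfl
  · -- `p = i`
    by_cases hrl : r = l
    · rw [hrl]; exact h1
    · obtain ⟨c, hc, hc1, hc2, -⟩ := hcyc p l r (Ne.symm hil) (Ne.symm hrl) hpr
      exact linked_map hQs hQp M hMO hc hc2 hc1 h2
  · -- `p = l`
    by_cases hri : r = i
    · rw [hri]; exact h2
    · obtain ⟨c, hc, hc1, hc2, -⟩ := hcyc p i r hil (Ne.symm hri) hpr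
      exact linked_map hQs hQp M hMO hc hc2 hc1 h1
  · -- `r = i`
    by_cases hpl : p = l
    · rw [hpl]; exact h2
    · obtain ⟨c, hc, hc1, hc2, -⟩ := hcyc r l p (Ne.symm hil) (Ne.symm hpl) (Ne.symm hpr)
      exact linked_map hQs hQp M hMO hc hc1 hc2 h1
  · -- `r = l`
    by_cases hpi : p = i
    · rw [hpi]; exact h1
    · obtain ⟨c, hc, hc1, hc2, -⟩ := hcyc r i p hil (Ne.symm hpi) (Ne.symm hpr)
      exact linked_map hQs hQp M hMO hc hc1 hc2 h2

include hQs hQp in
/-- **PKG LINKALL.** If two blocks are linked in both directions and `M` contains the block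
permuting commutators, all pairs of distinct blocks are linked. -/
theorem linked_all (M : Subgroup (V ≃ₗ[F] V)) (hMO : M ≤ oG Q)
    (hcyc : ∀ i l r : Fin t, i ≠ l → l ≠ r → i ≠ r → ∃ c ∈ M,
      (D i).map (c : V →ₗ[F] V) = D r ∧ (D l).map (c : V →ₗ[F] V) = D i ∧
      (D r).map (c : V →ₗ[F] V) = D l)
    {i l : Fin t} (hil : l ≠ i) (h1 : Linked Q B M (D i) (D l)) (h2 : Linked Q B M (D l) (D i)) :
    ∀ p r : Fin t, p ≠ r → Linked Q B M (D p) (D r) := by
  intro p r hpr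
  by_cases hmeet : p = i ∨ p = l ∨ r = i ∨ r = l
  · exact linked_step hQs hQp D M hMO hcyc hil h1 h2 p r hpr hmeet
  · have hri : r ≠ i := fun h => hmeet (Or.inr (Or.inr (Or.inl h)))
    have h3 : Linked Q B M (D i) (D r) :=
      linked_step hQs hQp D M hMO hcyc hil h1 h2 i r (Ne.symm hri) (Or.inl rfl)
    have h4 : Linked Q B M (D r) (D i) :=
      linked_step hQs hQp D M hMO hcyc hil h1 h2 r i hri (Or.inr (Or.inr (Or.inl rfl)))
    exact linked_step hQs hQp D M hMO hcyc hri h3 h4 p r hpr (Or.inr (Or.inr (Or.inr rfl)))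

end Multi

end Cfsg.Agent.Lib.Helper69_OD_LINKALL
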