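import Mathlib

/-!
# Orbits of a finite group in a linear representation (helper69)

Tools about a representation `ρ : Representation k H V` of a finite group and a vector `a`
whose `H`-orbit spans `V`:

* `repAction ρ` : the `MulAction H V` given by `ρ`;
* `exists_mem_eq_of_coprime` : a subgroup whose index is coprime to the size of an orbit
  is transitive on that orbit;
* `exists_fixed_spanning` : if `K ≤ H` has order invertible in `k` and is transitive on the
  orbit of `a`, which spans `V`, then the `K`-fixed vectors lie on one line of `H`-fixed vectors.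
-/

set_option autoImplicit false

namespace Cfsg.Agent.Lib.Helper69_Orbits

variable {k V H : Type*} [Field k] [AddCommGroup V] [Module k V] [Group H]

/-- The action of `H` on `V` through a representation `ρ`. -/
@[reducible] def repAction (ρ : Representation k H V) : MulAction H V where
  smul h v := ρ h v
  one_smul v := by show ρ 1 v = v; simp
  mul_smul g h v := by show ρ (g * h) v = ρ g (ρ h v); simp

theorem repAction_smul (ρ : Representation k H V) (h : H) (v : V) :
    (letI := repAction ρ; h • v) = ρ h v := rfl

/-- The orbit set used in the statements is the orbit of `repAction`. -/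
theorem orbit_eq (ρ : Representation k H V) (a : V) :
    {u : V | ∃ h : H, ρ h a = u} = (letI := repAction ρ; MulAction.orbit H a) := by
  let _ := repAction ρ
  ext u
  simp only [Set.mem_ofPred_eq, MulAction.mem_orbit_iff]
  rfl

/-- A subgroup whose index is coprime to the size of an orbit is transitive on that orbit
(abstract group-action version). -/
theorem exists_mem_smul_eq_of_coprime {X : Type*} [MulAction H X] [Finite H] (x : X)
    (D : Subgroup H) (hcop : (D.index).Coprime (Nat.card (MulAction.orbit H x))) (h : H) :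
    ∃ d ∈ D, d • x = h • x := by
  classical
  set C := MulAction.stabilizer H x with hC
  have hCidx : C.index = Nat.card (MulAction.orbit H x) := by
    rw [hC, MulAction.index_stabilizer, Nat.card_coe_set_eq]
  -- `C.index ∣ C.relIndex D * D.index`
  have h1 : C.relIndex D * D.index = (C ⊓ D).index := by
    rw [← Subgroup.inf_relIndex_right]
    exact Subgroup.relIndex_mul_index inf_le_right
  have h2 : C.index ∣ (C ⊓ D).index := Subgroup.index_dvd_of_le inf_le_left
  have h3 : C.index ∣ C.relIndex D := by
    rw [← h1] at h2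
    have hc : (C.index).Coprime D.index := by rw [hCidx]; exact hcop.symm
    exact hc.dvd_of_dvd_mul_right h2
  -- the `D`-orbit of `x`
  have hstab : MulAction.stabilizer D x = C.subgroupOf D := by
    ext d
    simp [hC, Subgroup.mem_subgroupOf, MulAction.mem_stabilizer_iff, Subgroup.smul_def]
  have h4 : C.relIndex D = Nat.card (MulAction.orbit D x) := by
    rw [Subgroup.relIndex, ← hstab, MulAction.index_stabilizer, Nat.card_coe_set_eq]
  have hsub : MulAction.orbit D x ⊆ MulAction.orbit H x := by
    rintro _ ⟨d, rfl⟩
    exact ⟨(d : H), rfl⟩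
  have hfin : (MulAction.orbit H x).Finite := Set.finite_range _
  have hle : (MulAction.orbit H x).ncard ≤ (MulAction.orbit D x).ncard := by
    rw [← Nat.card_coe_set_eq, ← Nat.card_coe_set_eq, ← h4, ← hCidx]
    apply Nat.le_of_dvd _ h3
    exact Nat.pos_of_ne_zero Subgroup.index_ne_zero_of_finite
  have heq : MulAction.orbit D x = MulAction.orbit H x :=
    Set.eq_of_subset_of_ncard_le hsub hle hfin
  have : h • x ∈ MulAction.orbit D x := by
    rw [heq]; exact ⟨h, rfl⟩
  obtain ⟨d, hd⟩ := this
  exact ⟨(d : H), d.2, hd⟩

/-- Representation version: a subgroup whose index is coprime to the size of the orbit of `a`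
is transitive on that orbit. -/
theorem exists_mem_eq_of_coprime [Finite H] (ρ : Representation k H V) (a : V)
    (D : Subgroup H) (hcop : (D.index).Coprime (Nat.card {u : V | ∃ h : H, ρ h a = u})) (h : H) :
    ∃ d ∈ D, ρ d a = ρ h a := by
  let _ := repAction ρ
  have hcop' : (D.index).Coprime (Nat.card (MulAction.orbit H a)) := by
    rw [← orbit_eq ρ a]; exact hcop
  exact exists_mem_smul_eq_of_coprime a D hcop' h

/-- The index of the stabilizer of `b` is the size of its orbit. -/
theorem index_stabilizer_eq [Finite H] (ρ : Representation k H V) (b : V) :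
    (letI := repAction ρ; (MulAction.stabilizer H b).index) =
      Nat.card {u : V | ∃ h : H, ρ h b = u} := by
  let _ := repAction ρ
  rw [orbit_eq ρ b, MulAction.index_stabilizer, Nat.card_coe_set_eq]

/-- Main lemma: if `K ≤ H` has order invertible in `k` and is transitive on the orbit of `a`,
and this orbit spans `V`, then there is an `H`-fixed vector `e` such that every `K`-fixed vector
is a multiple of `e`. -/
theorem exists_fixed_spanning [Finite H] (ρ : Representation k H V) (a : V)
    (hspan : Submodule.span k {u : V | ∃ h : H, ρ h a = u} = ⊤)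
    (K : Subgroup H) (hK : (Nat.card K : k) ≠ 0)
    (htrans : ∀ h : H, ∃ d ∈ K, ρ d a = ρ h a) :
    ∃ e : V, (∀ h : H, ρ h e = e) ∧ ∀ b : V, (∀ d ∈ K, ρ d b = b) → ∃ c : k, b = c • e := by
  classical
  have : Fintype H := Fintype.ofFinite H
  have : Fintype K := Fintype.ofFinite K
  -- the orbit as a finset and its sum
  set F : Finset V := Finset.univ.image (fun h : H => ρ h a) with hF
  set σ : V := ∑ x ∈ F, x with hσdef
  have hFmem : ∀ x, x ∈ F ↔ ∃ h : H, ρ h a = x := by
    intro x; simp [hF]
  have hσ : ∀ h : H, ρ h σ = σ := by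
    intro h
    rw [hσdef, map_sum]
    have himg : F.image (ρ h) = F := by
      ext y
      rw [Finset.mem_image]
      constructor
      · rintro ⟨x, hx, rfl⟩
        obtain ⟨h', rfl⟩ := (hFmem x).mp hx
        exact (hFmem _).mpr ⟨h * h', by simp⟩
      · intro hy
        obtain ⟨h', rfl⟩ := (hFmem y).mp hy
        exact ⟨ρ (h⁻¹ * h') a, (hFmem _).mpr ⟨_, rfl⟩, by
          rw [← Module.End.mul_apply, ← map_mul]; simp⟩
    have hinj : Set.InjOn (ρ h) (F : Set V) := by
      intro x _ y _ hxy
      have := congrArg (ρ h⁻¹) hxy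
      simpa [← Module.End.mul_apply, ← map_mul] using this
    conv_rhs => rw [← himg]
    rw [Finset.sum_image hinj]
  -- the averaging operator over `K`
  set T : V →ₗ[k] V := ∑ d : K, ρ (d : H) with hT
  have hTapply : ∀ v, T v = ∑ d : K, ρ (d : H) v := by
    intro v; simp [hT, LinearMap.sum_apply]
  set s : V := T a with hs
  have hTF : ∀ x ∈ F, T x = s := by
    intro x hx
    obtain ⟨h, rfl⟩ := (hFmem x).mp hx
    obtain ⟨d₁, hd₁, hd₁a⟩ := htrans h
    rw [← hd₁a, hs, hTapply, hTapply]
    have : ∀ d : K, ρ (d : H) (ρ d₁ a) = ρ ((d * ⟨d₁, hd₁⟩ : K) : H) a := by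
      intro d
      rw [Subgroup.coe_mul, map_mul]; rfl
    simp_rw [this]
    exact Equiv.sum_comp (Equiv.mulRight (⟨d₁, hd₁⟩ : K)) (fun d : K => ρ (d : H) a)
  have hTσ1 : T σ = (F.card : k) • s := by
    rw [hσdef, map_sum, Finset.sum_congr rfl hTF, Finset.sum_const, Nat.cast_smul_eq_nsmul]
  have hTfix : ∀ b : V, (∀ d ∈ K, ρ d b = b) → T b = (Nat.card K : k) • b := by
    intro b hb
    rw [hTapply, Finset.sum_congr rfl (fun (d : K) _ => hb d d.2), Finset.sum_const,
      Nat.cast_smul_eq_nsmul, Finset.card_univ, Nat.card_eq_fintype_card]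
  have hTσ2 : T σ = (Nat.card K : k) • σ := hTfix σ (fun d _ => hσ d)
  -- `F.card` divides `Nat.card K`
  have hFK : F.card ∣ Nat.card K := by
    let _ := repAction ρ
    have h1 : (F : Set V) = MulAction.orbit K a := by
      ext x
      rw [Finset.mem_coe, hFmem, MulAction.mem_orbit_iff]
      constructor
      · rintro ⟨h, rfl⟩
        obtain ⟨d, hd, hda⟩ := htrans h
        exact ⟨⟨d, hd⟩, hda⟩
      · rintro ⟨d, rfl⟩
        exact ⟨(d : H), rfl⟩
    have h2 : F.card = (MulAction.orbit K a).ncard := by
      rw [← h1, Set.ncard_coe_finset]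
    rw [h2, ← MulAction.index_stabilizer]
    exact Subgroup.index_dvd_card _
  have hFne : (F.card : k) ≠ 0 := by
    obtain ⟨m, hm⟩ := hFK
    intro h0
    apply hK
    rw [hm, Nat.cast_mul, h0, zero_mul]
  -- `s` is a multiple of `σ`, hence `H`-fixed
  have hsσ : s = ((F.card : k)⁻¹ * (Nat.card K : k)) • σ := by
    have : (F.card : k) • s = (Nat.card K : k) • σ := by rw [← hTσ1, hTσ2]
    rw [mul_smul, ← this, smul_smul, inv_mul_cancel₀ hFne, one_smul]
  refine ⟨s, ?_, ?_⟩
  · intro h
    rw [hsσ, map_smul, hσ]
  · intro b hb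
    have hb1 : T b = (Nat.card K : k) • b := hTfix b hb
    have hbtop : b ∈ Submodule.span k {u : V | ∃ h : H, ρ h a = u} := by
      rw [hspan]; trivial
    have hTb : T b ∈ Submodule.span k ({s} : Set V) := by
      have h1 : T b ∈ (Submodule.span k {u : V | ∃ h : H, ρ h a = u}).map T :=
        Submodule.mem_map_of_mem hbtop
      rw [Submodule.map_span] at h1
      refine Submodule.span_mono ?_ h1
      rintro _ ⟨u, ⟨h, rfl⟩, rfl⟩
      rw [Set.mem_singleton_iff]
      exact hTF _ ((hFmem _).mpr ⟨h, rfl⟩)
    obtain ⟨c, hc⟩ := Submodule.mem_span_singleton.mp hTb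
    refine ⟨(Nat.card K : k)⁻¹ * c, ?_⟩
    rw [mul_smul, hc, hb1, smul_smul, inv_mul_cancel₀ hK, one_smul]

/-- Consequence: the space of `H`-invariants has dimension at most one. -/
theorem finrank_invariants_le_one [Finite H] (ρ : Representation k H V)
    (e : V) (he : ∀ b : V, (∀ h : H, ρ h b = b) → ∃ c : k, b = c • e) :
    Module.finrank k ρ.invariants ≤ 1 := by
  have hle : ρ.invariants ≤ Submodule.span k ({e} : Set V) := by
    intro b hb
    obtain ⟨c, rfl⟩ := he b (fun h => hb h)
    exact Submodule.mem_span_singleton.mpr ⟨c, rfl⟩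
  calc Module.finrank k ρ.invariants
      ≤ Module.finrank k (Submodule.span k ({e} : Set V)) := Submodule.finrank_mono hle
    _ ≤ 1 := by
        have := finrank_span_le_card (R := k) ({e} : Set V)
        simpa using this

end Cfsg.Agent.Lib.Helper69_Orbits
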