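import Mathlib
import Cfsg.Agent.Lib.Helper88_OrthNDDefs

/-!
# Arithmetic core for the `A59xx` packages of helper88's ORTHND model (S5974 / S5988 / S5990)

Normal forms of `Valid` and `Fix` (from `Helper88_OrthNDDefs`) after division with remainder by `c`:
`D = c * (D / c) + D % c`, `m = c * (m / c) + m % c`.
-/

set_option autoImplicit false

namespace Cfsg.Agent.Lib.Helper69_OrthND_ArithCore

open Cfsg.Agent.Lib.Helper88_OrthNDDefs

theorem mul_add_le_iff {c t l A K : ℕ} (hK : K < c) (hl : l < c) :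
    c * t + l ≤ c * A + K ↔ t < A ∨ (t = A ∧ l ≤ K) := by
  constructor
  · intro h
    rcases Nat.lt_trichotomy t A with h1 | h1 | h1
    · exact Or.inl h1
    · subst h1
      exact Or.inr ⟨rfl, by omega⟩
    · exfalso
      have h2 : c * (A + 1) ≤ c * t := Nat.mul_le_mul_left c h1
      rw [Nat.mul_add, Nat.mul_one] at h2
      omega
  · rintro (h1 | ⟨rfl, h2⟩)
    · have h2 : c * (t + 1) ≤ c * A := Nat.mul_le_mul_left c h1
      rw [Nat.mul_add, Nat.mul_one] at h2
      omega
    · omega

theorem mul_add_eq_iff {c t l A K : ℕ} (hK : K < c) (hl : l < c) :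
    c * t + l = c * A + K ↔ t = A ∧ l = K := by
  constructor
  · intro h
    have h1 := (mul_add_le_iff (t := t) (A := A) hK hl).1 h.le
    have h2 := (mul_add_le_iff (t := A) (A := t) hl hK).1 h.ge
    omega
  · rintro ⟨rfl, rfl⟩
    rfl

theorem signPlus_of_odd {i : ℕ} (hi : Odd i) (k : ℕ) : SignPlus i k ↔ True :=
  ⟨fun _ => trivial, fun _ => Or.inl hi⟩

theorem signPlus_of_even {i : ℕ} (hi : Even i) (k : ℕ) : SignPlus i k ↔ Even k :=
  ⟨fun h => h.resolve_left (Nat.not_odd_iff_even.2 hi), fun h => Or.inr h⟩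

/-- normal form of `Valid`, explicit decomposition -/
theorem valid_iff' {i c A K : ℕ} {eps : Prop} (hK : K < c) (a : ℕ) :
    Valid i c (c * A + K) eps a ↔
      1 ≤ a ∧ a ≤ A ∧ (a = A ∧ K = 0 → (eps ↔ SignPlus i a)) := by
  have hc : 0 < c := by omega
  have h1 : c * a ≤ c * A + K ↔ a ≤ A := by
    have h := mul_add_le_iff (t := a) (l := 0) (A := A) hK hc
    rw [Nat.add_zero] at h
    rw [h]
    omega
  have h2 : c * a = c * A + K ↔ a = A ∧ K = 0 := by
    have h := mul_add_eq_iff (t := a) (l := 0) (A := A) hK hc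
    rw [Nat.add_zero] at h
    rw [h]
    omega
  unfold Valid
  rw [h1, h2]

/-- normal form of `Fix`, explicit decomposition -/
theorem fix_iff' {i c A K M l : ℕ} {eps eta : Prop} (hK : K < c) (hl : l < c) (a : ℕ) :
    Fix i c (c * A + K) (c * M + l) eps eta a ↔
      ∃ a', a' ≤ a ∧ a' ≤ M ∧ (a + (M - a') < A ∨ (a + (M - a') = A ∧ l ≤ K)) ∧
        (a' = M ∧ l = 0 → (eta ↔ SignPlus i a')) ∧
        (a + (M - a') = A ∧ l = K → ((eta ↔ SignPlus i a') ↔ (eps ↔ SignPlus i a))) := by
  have hc : 0 < c := by omega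
  constructor
  · rintro ⟨a', f, h1, h2, h3, h4, h5⟩
    have ha'M : a' ≤ M := by
      by_contra hcon
      have h6 : c * (M + 1) ≤ c * a' := Nat.mul_le_mul_left c (by omega)
      rw [Nat.mul_add, Nat.mul_one] at h6
      omega
    have hf : f = c * (M - a') + l := by
      have h6 : c * M = c * a' + c * (M - a') := by
        rw [← Nat.mul_add]
        congr 1
        omega
      omega
    subst hf
    have e : c * a + (c * (M - a') + l) = c * (a + (M - a')) + l := by
      rw [Nat.mul_add]
      omega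
    rw [e] at h3 h5
    rw [mul_add_le_iff hK hl] at h3
    rw [mul_add_eq_iff hK hl] at h5
    refine ⟨a', h1, ha'M, h3, ?_, h5⟩
    rintro ⟨rfl, rfl⟩
    exact h4 (by simp)
  · rintro ⟨a', h1, h2, h3, h4, h5⟩
    have e : c * a + (c * (M - a') + l) = c * (a + (M - a')) + l := by
      rw [Nat.mul_add]
      omega
    refine ⟨a', c * (M - a') + l, h1, ?_, ?_, ?_, ?_⟩
    · have h6 : c * M = c * a' + c * (M - a') := by
        rw [← Nat.mul_add]
        congr 1
        omega
      omega
    · rw [e, mul_add_le_iff hK hl]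
      exact h3
    · intro hf
      have h7 : c * (M - a') = 0 := by omega
      have h8 : M - a' = 0 := by
        rcases Nat.mul_eq_zero.1 h7 with h9 | h9
        · omega
        · exact h9
      exact h4 ⟨by omega, by omega⟩
    · rw [e, mul_add_eq_iff hK hl]
      exact h5

/-- normal form of `Valid` -/
theorem valid_iff {i c D : ℕ} {eps : Prop} (hc : 0 < c) (a : ℕ) :
    Valid i c D eps a ↔
      1 ≤ a ∧ a ≤ D / c ∧ (a = D / c ∧ D % c = 0 → (eps ↔ SignPlus i a)) := by
  have h := valid_iff' (i := i) (A := D / c) (eps := eps) (Nat.mod_lt D hc) a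
  rwa [Nat.div_add_mod] at h

/-- normal form of `Fix` -/
theorem fix_iff {i c D m : ℕ} {eps eta : Prop} (hc : 0 < c) (a : ℕ) :
    Fix i c D m eps eta a ↔
      ∃ a', a' ≤ a ∧ a' ≤ m / c ∧
        (a + (m / c - a') < D / c ∨ (a + (m / c - a') = D / c ∧ m % c ≤ D % c)) ∧
        (a' = m / c ∧ m % c = 0 → (eta ↔ SignPlus i a')) ∧
        (a + (m / c - a') = D / c ∧ m % c = D % c →
          ((eta ↔ SignPlus i a') ↔ (eps ↔ SignPlus i a))) := by
  have h := fix_iff' (i := i) (A := D / c) (M := m / c) (eps := eps) (eta := eta)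
    (Nat.mod_lt D hc) (Nat.mod_lt m hc) a
  rwa [Nat.div_add_mod, Nat.div_add_mod] at h

/-- `2 m < D` in normal form -/
theorem half_bound {c D m : ℕ} (hc : 0 < c) (h : 2 * m < D) :
    2 * (m / c) + 2 ≤ D / c ∨ (2 * (m / c) + 1 = D / c ∧ 2 * (m % c) < c + D % c) ∨
      (2 * (m / c) = D / c ∧ 2 * (m % c) < D % c) := by
  have hD := Nat.div_add_mod D c
  have hm := Nat.div_add_mod m c
  have hK := Nat.mod_lt D hc
  have hl := Nat.mod_lt m hc
  generalize D / c = A at *
  generalize D % c = K at *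
  generalize m / c = M at *
  generalize m % c = l at *
  have e : c * (2 * M) = 2 * (c * M) := by ring
  rcases Nat.lt_trichotomy A (2 * M) with h1 | h1 | h1
  · exfalso
    have h2 : c * (A + 1) ≤ c * (2 * M) := Nat.mul_le_mul_left c h1
    rw [Nat.mul_add, Nat.mul_one] at h2
    omega
  · subst h1
    right; right
    refine ⟨rfl, ?_⟩
    omega
  · rcases Nat.lt_trichotomy A (2 * M + 1) with h2 | h2 | h2
    · omega
    · subst h2
      right; left
      refine ⟨rfl, ?_⟩
      rw [Nat.mul_add, Nat.mul_one] at hD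
      omega
    · left
      omega

/-- `m + 2 ≤ D` in normal form -/
theorem sub_bound {c D m : ℕ} (hc : 0 < c) (h : m + 2 ≤ D) :
    m / c < D / c ∨ (m / c = D / c ∧ m % c + 2 ≤ D % c) := by
  have hD := Nat.div_add_mod D c
  have hm := Nat.div_add_mod m c
  have hK := Nat.mod_lt D hc
  have hl := Nat.mod_lt m hc
  generalize D / c = A at *
  generalize D % c = K at *
  generalize m / c = M at *
  generalize m % c = l at *
  have h1 : c * M + l ≤ c * A + K := by omega
  rcases (mul_add_le_iff hK hl).1 h1 with h2 | ⟨h2, _⟩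
  · exact Or.inl h2
  · subst h2
    exact Or.inr ⟨rfl, by omega⟩

/-- `2 ≤ m` in normal form -/
theorem two_le_bound {c m : ℕ} (h : 2 ≤ m) : 1 ≤ m / c ∨ 2 ≤ m % c := by
  have hm := Nat.div_add_mod m c
  rcases Nat.eq_zero_or_pos (m / c) with h1 | h1
  · rw [h1, Nat.mul_zero, Nat.zero_add] at hm
    omega
  · exact Or.inl h1

/-- the quotient appearing in the frozen right-hand sides when the two remainders agree -/
theorem div_of_mod_eq {c D m : ℕ} (hc : 0 < c) (h : D % c = m % c) :
    (D + m - 2 * (D % c)) / c = D / c + m / c := by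
  have hD := Nat.div_add_mod D c
  have hm := Nat.div_add_mod m c
  have e : D + m - 2 * (D % c) = c * (D / c + m / c) := by
    rw [Nat.mul_add]
    omega
  rw [e, Nat.mul_div_cancel_left _ hc]

end Cfsg.Agent.Lib.Helper69_OrthND_ArithCore
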