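import Mathlib
import Cfsg.Agent.Lib.Helper88_OrthNDDefs
import Cfsg.Agent.Lib.Helper69_OrthND_ArithCore
import Cfsg.Agent.Lib.Helper45_OrthND_ADefs

/-!
# Packages `A5988_mpr` / `A5988_mp` of helper88's ORTHND plan (pure arithmetic)

`R5988` is `Cfsg.Agent.Lib.Helper45_OrthND_ADefs.R5988` (verbatim copy of the package definition).
-/

set_option autoImplicit false
set_option linter.unusedVariables false
set_option linter.unusedSimpArgs false

namespace Cfsg.Agent.Lib.Helper69_OrthND_A5988

open Cfsg.Agent.Lib.Helper88_OrthNDDefs Cfsg.Agent.Lib.Helper69_OrthND_ArithCore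
  Cfsg.Agent.Lib.Helper45_OrthND_ADefs

theorem A5988_mpr (i c d m : ℕ) (hi : 0 < i) (hc : c = if Even i then i else 2 * i)
    (hd : 4 ≤ d) (hm : 2 ≤ m) (hme : Even m) (hmd : m < d) (h : R5988 i c d m) :
    ∀ a, Valid i c (2 * d) True a → Fix i c (2 * d) m True False a := by
  intro a hv
  have hcpos : 0 < c := by
    rw [hc]
    split_ifs <;> omega
  rw [valid_iff hcpos] at hv
  rw [fix_iff hcpos]
  have hhalf := half_bound (c := c) (D := 2 * d) (m := m) hcpos (by omega)
  have h2 := two_le_bound (c := c) hm
  have hcm : c ≤ m ↔ 1 ≤ m / c := (Nat.one_le_div_iff hcpos).symm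
  unfold R5988 at h
  clear hm hmd
  rcases Nat.even_or_odd i with hie | hio
  · have hci : i = c := by rw [hc, if_pos hie]
    subst hci
    clear hc
    rcases h with ⟨hio', _⟩ | ⟨_, h⟩
    · exact absurd hie (Nat.not_even_iff_odd.2 hio')
    have sp := signPlus_of_even hie
    have hE := div_of_mod_eq (c := i) (D := 2 * d) (m := m) hcpos
    simp only [sp, true_iff, false_iff, Nat.even_iff, Nat.odd_iff] at hv h ⊢
    clear sp hie
    generalize (2 * d + m - 2 * ((2 * d) % i)) / i = E at *
    generalize (2 * d) / i = A at *
    generalize (2 * d) % i = K at *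
    generalize m / i = M at *
    generalize m % i = l at *
    by_contra hne
    have c1 := not_exists.1 hne (min a M)
    have c2 := not_exists.1 hne (min a M - 1)
    clear hne
    omega
  · have hci : c = 2 * i := by rw [hc, if_neg (Nat.not_even_iff_odd.2 hio)]
    clear hc
    rcases h with ⟨_, h⟩ | ⟨hie', _⟩
    swap
    · exact absurd hie' (Nat.not_even_iff_odd.2 hio)
    have sp := signPlus_of_odd hio
    simp only [sp, true_iff, false_iff, iff_true, iff_false, not_true_eq_false, not_false_eq_true, implies_true, and_true, imp_false] at hv ⊢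
    clear sp hio
    generalize (2 * d) / c = A at *
    generalize (2 * d) % c = K at *
    generalize m / c = M at *
    generalize m % c = l at *
    by_contra hne
    have c1 := not_exists.1 hne (min a M)
    clear hne
    omega

theorem A5988_mp (i c d m : ℕ) (hi : 0 < i) (hc : c = if Even i then i else 2 * i)
    (hd : 4 ≤ d) (hm : 2 ≤ m) (hme : Even m) (hmd : m < d) (hcm : c ≤ m)
    (h : ∀ a, Valid i c (2 * d) True a → Fix i c (2 * d) m True False a) : R5988 i c d m := by
  have hcpos : 0 < c := by
    rw [hc]
    split_ifs <;> omega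
  have h1 := h ((2 * d) / c)
  rw [valid_iff hcpos, fix_iff hcpos] at h1
  have hcm' : 1 ≤ m / c := (Nat.one_le_div_iff hcpos).2 hcm
  have hhalf := half_bound (c := c) (D := 2 * d) (m := m) hcpos (by omega)
  replace h1 := imp_iff_not_or.1 h1
  unfold R5988
  clear hd hm hme hmd h
  rcases Nat.even_or_odd i with hie | hio
  · have hci : i = c := by rw [hc, if_pos hie]
    subst hci
    clear hc
    right
    refine ⟨hie, ?_⟩
    have sp := signPlus_of_even hie
    have hE := div_of_mod_eq (c := i) (D := 2 * d) (m := m) hcpos
    simp only [sp, true_iff, false_iff, Nat.even_iff, Nat.odd_iff] at h1 ⊢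
    clear sp hie
    generalize (2 * d + m - 2 * ((2 * d) % i)) / i = E at *
    generalize (2 * d) / i = A at *
    generalize (2 * d) % i = K at *
    generalize m / i = M at *
    generalize m % i = l at *
    rcases h1 with hv | ⟨a', h3, h4, h5, h6, h7⟩
    · omega
    · omega
  · have hci : c = 2 * i := by rw [hc, if_neg (Nat.not_even_iff_odd.2 hio)]
    clear hc
    left
    refine ⟨hio, hcm, ?_⟩
    have sp := signPlus_of_odd hio
    simp only [sp, true_iff, false_iff, iff_true, iff_false, not_true_eq_false, not_false_eq_true, implies_true, and_true, imp_false] at h1 ⊢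
    clear sp hio
    generalize (2 * d) / c = A at *
    generalize (2 * d) % c = K at *
    generalize m / c = M at *
    generalize m % c = l at *
    rcases h1 with hv | ⟨a', h3, h4, h5⟩
    · omega
    · omega

end Cfsg.Agent.Lib.Helper69_OrthND_A5988
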