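import Mathlib
import Cfsg.Prelude.Def_Characters
import Cfsg.Prelude.Def_Blocks
import Cfsg.Prelude.Def_Solvable
import Cfsg.Prelude.Def_Local
import Cfsg.Agent.Lib.Helper3_P2Defs

/-!
# S4705 package P2-HYPH (architect helper3)

The hypotheses of S4705 pass from `G` to a normal subgroup `H` containing the Sylow `p`-subgroup `P` on which
the character stays irreducible.
-/

set_option autoImplicit false
set_option linter.unusedSectionVars false
set_option linter.unusedVariables false

namespace Cfsg.Agent.Lib.Helper69_P2_HYPH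

open Cfsg Cfsg.Agent.Lib.Helper3_P2Defs
open scoped ComplexConjugate Pointwise

universe u

variable {G : Type u} [Group G] [Finite G] {p : ℕ} [hp : Fact p.Prime] {P : Sylow p G}
  {ζ : G → ℂ}

/-- A Sylow `p`-subgroup of `G` contained in a normal subgroup `H` and normal in `H` is normal in `G`. -/
theorem normal_of_normal_subtype (H : Subgroup G) [H.Normal] (hPH : (P : Subgroup G) ≤ H)
    (hn : ((P.subtype hPH : Sylow p ↥H) : Subgroup ↥H).Normal) : (P : Subgroup G).Normal := by
  constructor
  intro x hx g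
  -- the conjugate Sylow subgroup, inside `H`
  have hcP : IsPGroup p ↥((MulAut.conj g • P : Sylow p G) : Subgroup G) := (MulAut.conj g • P).2
  have hQ : IsPGroup p ↥(((MulAut.conj g • P : Sylow p G) : Subgroup G).subgroupOf H) :=
    hcP.comap_subtype
  obtain ⟨R, hR⟩ := hQ.exists_le_sylow
  haveI : Subsingleton (Sylow p ↥H) := by
    haveI := Sylow.unique_of_normal (P.subtype hPH) hn
    infer_instance
  have hRP : R = P.subtype hPH := Subsingleton.elim _ _
  have hyG : g * x * g⁻¹ ∈ ((MulAut.conj g • P : Sylow p G) : Subgroup G) := by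
    have h1 : MulAut.conj g • x ∈ MulAut.conj g • (P : Subgroup G) :=
      Subgroup.smul_mem_pointwise_smul x (MulAut.conj g) (P : Subgroup G) hx
    rw [MulAut.smul_def, MulAut.conj_apply] at h1
    exact h1
  have hyH : g * x * g⁻¹ ∈ H := Subgroup.Normal.conj_mem inferInstance x (hPH hx) g
  have h2 : (⟨g * x * g⁻¹, hyH⟩ : ↥H) ∈
      ((MulAut.conj g • P : Sylow p G) : Subgroup G).subgroupOf H :=
    Subgroup.mem_subgroupOf.mpr hyG
  have h3 := hR h2
  rw [hRP] at h3
  exact Subgroup.mem_subgroupOf.mp h3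

/-- **P2-HYPH** (S/M). -/
theorem hyp_resid (h : Hyp G p P ζ) (H : Subgroup G) [H.Normal]
    (hPH : (P : Subgroup G) ≤ H)
    (hirr : IsIrrCharacter ↥H (fun y : ↥H => ζ (y : G))) :
    Hyp ↥H p (P.subtype hPH) (fun y : ↥H => ζ (y : G)) := by
  refine ⟨h.p5, ?_, ?_, hirr, ?_, ?_⟩
  · have h1 : Nat.card ↥((P.subtype hPH : Sylow p ↥H) : Subgroup ↥H) = Nat.card ↥(P : Subgroup G) :=
      Nat.card_congr (Subgroup.subgroupOfEquivOfLe hPH).toEquiv
    exact h1.trans h.cardP
  · intro hn
    exact h.nn (normal_of_normal_subtype H hPH hn)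
  · intro g hg
    apply Subtype.ext
    exact h.faith (g : G) hg
  · have := h.deg
    exact this

end Cfsg.Agent.Lib.Helper69_P2_HYPH
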