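import Mathlib
import Cfsg.Prelude.Def_Characters
import Cfsg.Prelude.Def_Blocks
import Cfsg.Prelude.Def_Solvable
import Cfsg.Prelude.Def_Local
import Cfsg.Agent.Lib.Helper3_P2Defs

/-!
# S4705 package P2-SPLIT (architect helper3)

Frattini argument plus orders: `G` is the internal direct product of the normal subgroup `H` (with trivial
centre, containing the Sylow `p`-subgroup `P`) and `Z(G)`.
-/

set_option autoImplicit false
set_option linter.unusedSectionVars false
set_option linter.unusedVariables false

namespace Cfsg.Agent.Lib.Helper69_P2_SPLIT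

open Cfsg Cfsg.Agent.Lib.Helper3_P2Defs
open scoped ComplexConjugate

universe u

variable {G : Type u} [Group G] [Finite G] {p : ℕ} [hp : Fact p.Prime] {P : Sylow p G}
  {ζ : G → ℂ}

/-- the two ways of seeing `N ⊓ H` as a subgroup of a subgroup -/
def subgroupOfSwap (N H : Subgroup G) : ↥(N.subgroupOf H) ≃ ↥(H.subgroupOf N) where
  toFun x := ⟨⟨(x : ↥H), Subgroup.mem_subgroupOf.mp x.2⟩, Subgroup.mem_subgroupOf.mpr (x : ↥H).2⟩
  invFun y := ⟨⟨(y : ↥N), Subgroup.mem_subgroupOf.mp y.2⟩, Subgroup.mem_subgroupOf.mpr (y : ↥N).2⟩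
  left_inv x := by
    apply Subtype.ext
    apply Subtype.ext
    rfl
  right_inv y := by
    apply Subtype.ext
    apply Subtype.ext
    rfl

/-- **P2-SPLIT** (M). -/
theorem split_resid (H : Subgroup G) [H.Normal] (hPH : (P : Subgroup G) ≤ H)
    (hZH : Subgroup.center ↥H = ⊥)
    (hNG : Nat.card ↥(Subgroup.normalizer ((P : Subgroup G) : Set G)) =
      2 * p * Nat.card (Subgroup.center G))
    (hNH : Nat.card ↥(Subgroup.normalizer ((P.subtype hPH : Subgroup ↥H) : Set ↥H)) = 2 * p) :
    Nonempty (G ≃* ↥H × ↥(Subgroup.center G)) := by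
  have hp0 : 0 < p := hp.out.pos
  obtain ⟨N, hNdef⟩ : ∃ N : Subgroup G, N = Subgroup.normalizer ((P : Subgroup G) : Set G) :=
    ⟨_, rfl⟩
  have hfrat : N ⊔ H = ⊤ := by
    rw [hNdef]
    exact Sylow.normalizer_sup_eq_top' P hPH
  -- the normalizer in `H`
  have hNHeq : N.subgroupOf H = Subgroup.normalizer ((P.subtype hPH : Subgroup ↥H) : Set ↥H) := by
    rw [hNdef, Subgroup.subgroupOf_normalizer_eq hPH]
    rfl
  have hc1 : Nat.card ↥(H.subgroupOf N) = 2 * p := by
    rw [← Nat.card_congr (subgroupOfSwap N H), hNHeq, hNH]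
  have hidx : (H.subgroupOf N).index = H.index := by
    have h1 : H.relIndex (N ⊔ H) = H.relIndex N := Subgroup.relIndex_sup_right N H
    rw [hfrat, Subgroup.relIndex_top_right] at h1
    rw [h1]
    rfl
  have hc2 : Nat.card ↥N = 2 * p * H.index := by
    rw [← Subgroup.card_mul_index (H.subgroupOf N), hc1, hidx]
  have hindex : H.index = Nat.card (Subgroup.center G) := by
    rw [← hNdef, hc2] at hNG
    exact Nat.eq_of_mul_eq_mul_left (by positivity) hNG
  have hcardG : Nat.card G = Nat.card ↥H * Nat.card ↥(Subgroup.center G) := by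
    rw [← hindex, Subgroup.card_mul_index]
  -- the product map
  let f : ↥H × ↥(Subgroup.center G) →* G :=
    MonoidHom.noncommCoprod H.subtype (Subgroup.center G).subtype (fun h z => by
      have := Subgroup.mem_center_iff.mp z.2 (h : G)
      exact this)
  have hf : ∀ x : ↥H × ↥(Subgroup.center G), f x = (x.1 : G) * (x.2 : G) := fun x => rfl
  have hinj : Function.Injective f := by
    rw [injective_iff_map_eq_one]
    rintro ⟨h, z⟩ hx
    rw [hf] at hx
    have hhz : (h : G) = ((z : G))⁻¹ := eq_inv_of_mul_eq_one_left hx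
    have hhc : (h : G) ∈ Subgroup.center G := by
      rw [hhz]
      exact Subgroup.inv_mem _ z.2
    have hh1 : h = 1 := by
      have : h ∈ Subgroup.center ↥H := by
        rw [Subgroup.mem_center_iff]
        intro y
        apply Subtype.ext
        rw [Subgroup.coe_mul, Subgroup.coe_mul]
        exact Subgroup.mem_center_iff.mp hhc (y : G)
      rw [hZH] at this
      exact Subgroup.mem_bot.mp this
    have hz1 : z = 1 := by
      apply Subtype.ext
      rw [hh1] at hx
      simpa using hx
    rw [hh1, hz1]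
    rfl
  have hbij : Function.Bijective f := by
    apply hinj.bijective_of_nat_card_le
    rw [Nat.card_prod, hcardG]
  exact ⟨(MulEquiv.ofBijective f hbij).symm⟩

end Cfsg.Agent.Lib.Helper69_P2_SPLIT
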