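import Mathlib
import Cfsg.Agent.Lib.Helper71_S2149Defs

/-!
# S2149 package MCARDQ (architect helper71, proof helper69): `|QB| = 125`

`QB` (the elements of the Borel subgroup `BB` of `SU(3,5)` fixing the vector `u0`) acts freely on
the 125 isotropic points different from the point `0` (upper bound), and three explicit matrices
give 125 elements of `QB` moving the point `1` to 125 different points (lower bound).
-/

set_option autoImplicit false

namespace Cfsg.Agent.Lib.Helper69_S2149_MCARDQ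

open Cfsg.Agent.Lib.Helper91_K25 Cfsg.Agent.Lib.Helper91_U3Pts Cfsg.Agent.Lib.Helper91_U3Theta
  Cfsg.Agent.Lib.Helper71_S2149Defs Matrix

/-! ### the action on point indices, written out -/

/-- the product of a matrix and a vector, written out -/
def mvq (M : M3) (x : V) : V :=
  mkV (M 0 0 * x 0 + M 0 1 * x 1 + M 0 2 * x 2) (M 1 0 * x 0 + M 1 1 * x 1 + M 1 2 * x 2)
    (M 2 0 * x 0 + M 2 1 * x 1 + M 2 2 * x 2)

theorem mulVec_eq_mvq (M : M3) (x : V) : M.mulVec x = mvq M x := by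
  funext i
  fin_cases i <;> simp [Matrix.mulVec, dotProduct, Fin.sum_univ_three, mvq, mkV]

/-- the image of the `p`-th point under a matrix -/
def actq (M : M3) (p : ℕ) : ℕ := (nrm (mvq M (pt (Fin.ofNat 652 p)))).val

theorem thetaX_val_q (A : SU3) (p : Fin 126) : (thetaX A p).val = actq (toM A) p.val := by
  have h := thetaX_spec A p
  rw [theta_apply, mulVec_eq_mvq] at h
  have h2 := congrArg Fin.val h
  have e : iota p = Fin.ofNat 652 p.val := by
    apply Fin.ext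
    rw [Fin.val_ofNat, Nat.mod_eq_of_lt (lt_trans p.2 (by norm_num))]
    rfl
  rw [e] at h2
  exact h2

theorem val_pow_mul (A : SU3) (M : M3) (hA : toM A = M) (n : ℕ) (B : SU3) (p : Fin 126) :
    (thetaX (A ^ n * B) p).val = (actq M)^[n] (thetaX B p).val := by
  induction n with
  | zero => rw [pow_zero, one_mul, Function.iterate_zero, id]
  | succ n ih =>
    rw [pow_succ', mul_assoc, map_mul, Equiv.Perm.mul_apply, thetaX_val_q, hA, ih,
      Function.iterate_succ_apply']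

/-! ### elements of `SU(3,5)` from matrices -/

/-- column orthonormality -/
def Colsq (M : M3) : Prop :=
  ∀ i j : Fin 3, M 0 i * K25.cj (M 0 j) + M 1 i * K25.cj (M 1 j) + M 2 i * K25.cj (M 2 j) =
    if i = j then 1 else 0

instance (M : M3) : Decidable (Colsq M) := by
  unfold Colsq; infer_instance

theorem cjq_add : ∀ x y : K25, K25.cj (x + y) = K25.cj x + K25.cj y := by decide +kernel

theorem cjq_mul : ∀ x y : K25, K25.cj (x * y) = K25.cj x * K25.cj y := by decide +kernel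

theorem cjq_eq_one : ∀ x : K25, K25.cj x = 1 → x = 1 := by decide +kernel

theorem mem_SU_of_colsq (g : SpecialLinearGroup (Fin 3) K25) (H : Colsq g.1) :
    g ∈ Cfsg.SU 3 K25 5 := by
  show ∀ u v : Fin 3 → K25,
    Cfsg.hermForm 3 K25 5 (g.1 *ᵥ u) (g.1 *ᵥ v) = Cfsg.hermForm 3 K25 5 u v
  intro u v
  generalize g.1 = M at H
  have h00 := H 0 0
  have h01 := H 0 1
  have h02 := H 0 2
  have h10 := H 1 0
  have h11 := H 1 1
  have h12 := H 1 2
  have h20 := H 2 0
  have h21 := H 2 1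
  have h22 := H 2 2
  simp only [Fin.isValue, if_true, Fin.reduceEq, if_false] at h00 h01 h02 h10 h11 h12 h20 h21 h22
  unfold Cfsg.hermForm
  simp only [Matrix.mulVec, dotProduct, Fin.sum_univ_three, K25.pow_five, cjq_add, cjq_mul]
  linear_combination (u 0 * K25.cj (v 0)) * h00 + (u 0 * K25.cj (v 1)) * h01 +
    (u 0 * K25.cj (v 2)) * h02 + (u 1 * K25.cj (v 0)) * h10 + (u 1 * K25.cj (v 1)) * h11 +
    (u 1 * K25.cj (v 2)) * h12 + (u 2 * K25.cj (v 0)) * h20 + (u 2 * K25.cj (v 1)) * h21 +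
    (u 2 * K25.cj (v 2)) * h22

/-- the determinant of a `3 × 3` matrix, written out -/
def det3q (M : M3) : K25 :=
  M 0 0 * M 1 1 * M 2 2 - M 0 0 * M 1 2 * M 2 1 - M 0 1 * M 1 0 * M 2 2 + M 0 1 * M 1 2 * M 2 0 +
    M 0 2 * M 1 0 * M 2 1 - M 0 2 * M 1 1 * M 2 0

theorem det3q_eq (M : M3) : M.det = det3q M := Matrix.det_fin_three M

/-- an element of `SU(3,5)` from a matrix -/
def mkSUq (M : M3) (hdet : det3q M = 1) (H : Colsq M) : SU3 :=
  ⟨⟨M, by rw [det3q_eq]; exact hdet⟩, mem_SU_of_colsq _ H⟩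

theorem toM_mkSUq (M : M3) (hdet : det3q M = 1) (H : Colsq M) : toM (mkSUq M hdet H) = M := rfl

/-- three generators of the unipotent radical of the stabiliser of the point `0` -/
def Nq1 : M3 := !![⟨23⟩, ⟨19⟩, ⟨4⟩; ⟨19⟩, ⟨9⟩, ⟨3⟩; ⟨1⟩, ⟨2⟩, ⟨1⟩]

def Nq2 : M3 := !![⟨0⟩, ⟨3⟩, ⟨15⟩; ⟨3⟩, ⟨2⟩, ⟨5⟩; ⟨15⟩, ⟨5⟩, ⟨1⟩]

def Nq3 : M3 := !![⟨21⟩, ⟨15⟩, ⟨0⟩; ⟨15⟩, ⟨6⟩, ⟨0⟩; ⟨0⟩, ⟨0⟩, ⟨1⟩]

theorem Nq1_facts : det3q Nq1 = 1 ∧ Colsq Nq1 ∧ mvq Nq1 u0 = u0 := by decide +kernel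

theorem Nq2_facts : det3q Nq2 = 1 ∧ Colsq Nq2 ∧ mvq Nq2 u0 = u0 := by decide +kernel

theorem Nq3_facts : det3q Nq3 = 1 ∧ Colsq Nq3 ∧ mvq Nq3 u0 = u0 := by decide +kernel

def Bq1 : SU3 := mkSUq Nq1 Nq1_facts.1 Nq1_facts.2.1

def Bq2 : SU3 := mkSUq Nq2 Nq2_facts.1 Nq2_facts.2.1

def Bq3 : SU3 := mkSUq Nq3 Nq3_facts.1 Nq3_facts.2.1

/-- an element fixing the vector `u0` fixes the point `0` -/
theorem mem_BB_of_fix (A : SU3) (h : toM A *ᵥ u0 = u0) : A ∈ BB := by
  rw [mem_BB]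
  apply iota_injective
  rw [thetaX_spec, theta_apply]
  show nrm (toM A *ᵥ u0) = iota 0
  rw [h]
  exact nrm_pt _

/-- an element of `QB` from an element of `SU3` fixing `u0` -/
noncomputable def mkQ (A : SU3) (h : toM A *ᵥ u0 = u0) : ↥QB :=
  ⟨⟨A, mem_BB_of_fix A h⟩, h⟩

theorem coe_mkQ (A : SU3) (h : toM A *ᵥ u0 = u0) : (((mkQ A h : ↥QB) : ↥BB) : SU3) = A := rfl

noncomputable def q1 : ↥QB := mkQ Bq1 (by rw [mulVec_eq_mvq]; exact Nq1_facts.2.2)

noncomputable def q2 : ↥QB := mkQ Bq2 (by rw [mulVec_eq_mvq]; exact Nq2_facts.2.2)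

noncomputable def q3 : ↥QB := mkQ Bq3 (by rw [mulVec_eq_mvq]; exact Nq3_facts.2.2)

/-- the evaluation: the image of the point `1` -/
noncomputable def ev (g : ↥QB) : Fin 126 := thetaX ((g : ↥BB) : SU3) 1

/-- the 125 elements -/
noncomputable def fq (n : Fin 125) : ↥QB :=
  q1 ^ (n.val % 5) * q2 ^ (n.val / 5 % 5) * q3 ^ (n.val / 25)

/-- the images of the point `1` under the 125 elements -/
def Fv (n : ℕ) : ℕ := (actq Nq1)^[n % 5] ((actq Nq2)^[n / 5 % 5] ((actq Nq3)^[n / 25] 1))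

theorem ev_fq (n : Fin 125) : (ev (fq n)).val = Fv n.val := by
  unfold ev fq Fv
  have e : (((q1 ^ (n.val % 5) * q2 ^ (n.val / 5 % 5) * q3 ^ (n.val / 25) : ↥QB) : ↥BB) : SU3) =
      Bq1 ^ (n.val % 5) * (Bq2 ^ (n.val / 5 % 5) * (Bq3 ^ (n.val / 25) * 1)) := by
    rw [mul_one, ← mul_assoc]
    rfl
  rw [e, val_pow_mul Bq1 Nq1 rfl, val_pow_mul Bq2 Nq2 rfl, val_pow_mul Bq3 Nq3 rfl,
    show thetaX 1 = 1 from map_one thetaX]
  rfl

set_option maxRecDepth 100000 in
theorem nodup_Fv : ((List.range 125).map Fv).Nodup := by decide +kernel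

theorem fq_injective : Function.Injective fq := by
  intro a b hab
  have h1 : Fv a.val = Fv b.val := by rw [← ev_fq, ← ev_fq, hab]
  have h2 := List.inj_on_of_nodup_map nodup_Fv (List.mem_range.mpr a.2) (List.mem_range.mpr b.2) h1
  exact Fin.ext h2

/-! ### the action of `QB` on the other points is free -/

theorem hfq_smul_right (x v : V) (c : K25) : hf x (c • v) = K25.cj c * hf x v := by
  unfold hf
  simp only [Pi.smul_apply, smul_eq_mul, cjq_mul]
  ring

/-- the point `1` -/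
def v1 : V := pt (iota 1)

theorem u0_eq : u0 = ![1, ⟨2⟩, 0] := by decide +kernel

theorem v1_eq : v1 = ![1, ⟨3⟩, 0] := by decide +kernel

theorem hf_u0_v1 : hf u0 v1 ≠ 0 := by decide +kernel

theorem k25_facts : (⟨3⟩ : K25) - ⟨2⟩ = 1 ∧ (⟨3⟩ : K25) * ⟨2⟩ = 1 ∧ K25.cj 1 = 1 ∧
    K25.cj 0 = 0 := by decide +kernel

/-- a matrix of `SU3` fixing the vectors `u0` and `v1` is the identity -/
theorem eq_one_of_fix (A : SU3) (h0 : toM A *ᵥ u0 = u0) (h1 : toM A *ᵥ v1 = v1) : A = 1 := by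
  apply ext_toM
  rw [map_one]
  have hdet : (toM A).det = 1 := A.1.2
  have hpres := toM_preserves A
  generalize toM A = M at h0 h1 hdet hpres
  rw [mulVec_eq_mvq, u0_eq] at h0
  rw [mulVec_eq_mvq, v1_eq] at h1
  obtain ⟨k1, k2, k3, k4⟩ := k25_facts
  have a0 := congrFun h0 0
  have a1 := congrFun h0 1
  have a2 := congrFun h0 2
  have b0 := congrFun h1 0
  have b1 := congrFun h1 1
  have b2 := congrFun h1 2
  simp only [mvq, mkV, Matrix.cons_val_zero, Matrix.cons_val_one, Matrix.cons_val_two,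
    Matrix.head_cons, Matrix.tail_cons, Fin.isValue] at a0 a1 a2 b0 b1 b2
  have c01 : M 0 1 = 0 := by linear_combination b0 - a0 - M 0 1 * k1
  have c11 : M 1 1 = 1 := by linear_combination b1 - a1 - (M 1 1 - 1) * k1
  have c21 : M 2 1 = 0 := by linear_combination b2 - a2 - M 2 1 * k1
  have c00 : M 0 0 = 1 := by linear_combination a0 - (⟨2⟩ : K25) * c01
  have c10 : M 1 0 = 0 := by linear_combination a1 - (⟨2⟩ : K25) * c11
  have c20 : M 2 0 = 0 := by linear_combination a2 - (⟨2⟩ : K25) * c21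
  have p0 := hpres ![0, 0, 1] ![1, 0, 0]
  have p1 := hpres ![0, 0, 1] ![0, 1, 0]
  rw [mulVec_eq_mvq, mulVec_eq_mvq] at p0 p1
  simp only [hf, mvq, mkV, Matrix.cons_val_zero, Matrix.cons_val_one, Matrix.cons_val_two,
    Matrix.head_cons, Matrix.tail_cons, Fin.isValue, c00, c01, c10, c11, c20, c21, mul_one,
    mul_zero, add_zero, zero_add, k3, k4] at p0 p1
  have c02 : M 0 2 = 0 := p0
  have c12 : M 1 2 = 0 := p1
  rw [det3q_eq] at hdet
  simp only [det3q, c00, c01, c10, c11, c20, c21, c02, c12, mul_one, mul_zero, add_zero,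
    zero_mul, one_mul, sub_zero] at hdet
  have c22 : M 2 2 = 1 := hdet
  ext i j
  fin_cases i <;> fin_cases j <;> simp [c00, c01, c10, c11, c20, c21, c02, c12, c22]

/-- an element fixing the vector `u0` and the point `1` fixes the vector `v1` -/
theorem fix_v1 (A : SU3) (h0 : toM A *ᵥ u0 = u0) (h1 : thetaX A 1 = 1) :
    toM A *ᵥ v1 = v1 := by
  have e := thetaX_spec A 1
  rw [h1, theta_apply] at e
  obtain ⟨s, hs, hpt⟩ := pt_nrm (toM A *ᵥ pt (iota 1))
  rw [← e] at hpt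
  have hv : v1 = s • (toM A *ᵥ v1) := hpt
  have hp := toM_preserves A u0 v1
  rw [h0] at hp
  have h2 : hf u0 v1 = K25.cj s * hf u0 v1 := by
    conv_lhs => rw [hv]
    rw [hfq_smul_right, hp]
  have h3 : K25.cj s = 1 := by
    have h4 : (K25.cj s - 1) * hf u0 v1 = 0 := by linear_combination -h2
    rcases mul_eq_zero.mp h4 with h5 | h5
    · exact sub_eq_zero.mp h5
    · exact absurd h5 hf_u0_v1
  have h6 : s = 1 := cjq_eq_one s h3
  rw [h6, one_smul] at hv
  exact hv.symm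

/-- the evaluation is injective -/
theorem ev_injective : Function.Injective ev := by
  intro g g' hgg
  have hmem : toM (((g'⁻¹ * g : ↥QB) : ↥BB) : SU3) *ᵥ u0 = u0 := (g'⁻¹ * g).2
  have hfix : thetaX (((g'⁻¹ * g : ↥QB) : ↥BB) : SU3) 1 = 1 := by
    have e : (((g'⁻¹ * g : ↥QB) : ↥BB) : SU3) = (((g' : ↥BB) : SU3))⁻¹ * ((g : ↥BB) : SU3) := rfl
    rw [e, map_mul, map_inv, Equiv.Perm.mul_apply]
    have h1 : thetaX ((g : ↥BB) : SU3) 1 = thetaX ((g' : ↥BB) : SU3) 1 := hgg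
    rw [h1]
    exact (thetaX ((g' : ↥BB) : SU3)).symm_apply_apply 1
  have h1 := eq_one_of_fix _ hmem (fix_v1 _ hmem hfix)
  have h2 : g'⁻¹ * g = 1 := by
    apply Subtype.ext
    apply Subtype.ext
    exact h1
  exact (inv_mul_eq_one.mp h2).symm

theorem ev_ne_zero (g : ↥QB) : ev g ≠ 0 := by
  intro h
  have h0 : thetaX ((g : ↥BB) : SU3) 0 = 0 := (mem_BB _).mp (g : ↥BB).2
  have h1 : thetaX ((g : ↥BB) : SU3) 1 = thetaX ((g : ↥BB) : SU3) 0 := by rw [h0]; exact h
  have := (thetaX ((g : ↥BB) : SU3)).injective h1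
  exact absurd this (by decide)

theorem card_QB : Nat.card ↥QB = 125 := by
  apply le_antisymm
  · have hinj : Function.Injective (fun g : ↥QB => (ev g).pred (ev_ne_zero g)) := by
      intro g g' h
      exact ev_injective (Fin.pred_inj.mp h)
    have := Nat.card_le_card_of_injective _ hinj
    simpa using this
  · have := Nat.card_le_card_of_injective fq fq_injective
    simpa using this

end Cfsg.Agent.Lib.Helper69_S2149_MCARDQ
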