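import Mathlib
import Cfsg.Agent.Lib.Helper77_SLnDefs
import Cfsg.Prelude.Def_Characters
import Cfsg.Agent.Lib.Helper5_PSLSimple
import Cfsg.Agent.Lib.Helper5_SLGen

/-!
# S2332 package NONTRIV (architect helper77, proof helper69)

`e = 0` forces the unipotent radical `{xu u}` into the kernel of `ρ`; the kernel is a normal subgroup with
a non-central element, hence everything (`PSL` simple, `SL` perfect), and a trivial irreducible
representation has degree 1.
-/

set_option autoImplicit false
open Matrix Cfsg.Agent.Lib.Helper5_Transv Cfsg.Agent.Lib.Helper77_SLnDefs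

namespace Cfsg.Agent.Lib.Helper69_S2332_NONTRIV

variable {F : Type*} [Field F] [Fintype F] [DecidableEq F] {κ : Type} [Fintype κ] [DecidableEq κ]
  {V : Type} [AddCommGroup V] [Module ℂ V] [FiniteDimensional ℂ V]

/-- in a perfect group with simple central quotient, a normal subgroup not contained in the centre
is everything (copied from `Cfsg.Agent.S2335`) -/
theorem normal_eq_top_of_not_le_center {G : Type*} [Group G]
    [IsSimpleGroup (G ⧸ Subgroup.center G)] (hperf : commutator G = ⊤) (N : Subgroup G)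
    [N.Normal] (hN : ¬ N ≤ Subgroup.center G) : N = ⊤ := by
  have hsurj : Function.Surjective (QuotientGroup.mk' (Subgroup.center G)) :=
    QuotientGroup.mk'_surjective _
  have hnorm : (N.map (QuotientGroup.mk' (Subgroup.center G))).Normal :=
    Subgroup.Normal.map inferInstance _ hsurj
  rcases hnorm.eq_bot_or_eq_top with h | h
  · exfalso
    apply hN
    rw [Subgroup.map_eq_bot_iff, QuotientGroup.ker_mk'] at h
    exact h
  · have hsup : N ⊔ Subgroup.center G = ⊤ := by
      rw [eq_top_iff]
      intro g _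
      have hg : QuotientGroup.mk' (Subgroup.center G) g ∈
          N.map (QuotientGroup.mk' (Subgroup.center G)) := by
        rw [h]; exact Subgroup.mem_top _
      obtain ⟨x, hx, hxg⟩ := Subgroup.mem_map.mp hg
      have hz : x⁻¹ * g ∈ Subgroup.center G := by
        rw [← QuotientGroup.ker_mk' (Subgroup.center G), MonoidHom.mem_ker, map_mul, map_inv, hxg,
          inv_mul_cancel]
      have : g = x * (x⁻¹ * g) := by group
      rw [this]
      exact Subgroup.mul_mem_sup hx hz
    have hle := Subgroup.Normal.commutator_le_of_self_sup_commutative_eq_top hsup inferInstance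
    rw [hperf] at hle
    exact top_le_iff.mp hle

/-- an off-diagonal entry of `xu u` -/
theorem xu_apply_inl_inr (u : κ → F) (k : κ) :
    (xu u).1 (Sum.inl ()) (Sum.inr k) = u k := by
  unfold xu
  rw [tvS_coe]
  unfold tv
  simp [Matrix.vecMulVec_apply, e0, ext0]

theorem xu_not_mem_center (u : κ → F) (hu : u ≠ 0) :
    xu u ∉ Subgroup.center (Matrix.SpecialLinearGroup (Unit ⊕ κ) F) := by
  intro h
  obtain ⟨r, -, hr⟩ := Matrix.SpecialLinearGroup.mem_center_iff.mp h
  apply hu
  funext k
  have h1 := xu_apply_inl_inr u k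
  rw [← hr] at h1
  rw [← h1]
  simp

theorem one_le_e (hκ : 2 ≤ Fintype.card κ)
    (ρ : Representation ℂ (Matrix.SpecialLinearGroup (Unit ⊕ κ) F) V) (hirr : ρ.IsIrreducible)
    (h2 : 2 ≤ Module.finrank ℂ V) (ψ : AddChar F ℂ) (hψ : ψ ≠ 1) (e f : ℕ)
    (hW : WData ρ ψ e f) : 1 ≤ e := by
  by_contra he
  have he0 : e = 0 := by omega
  have hfull : wsp ρ ψ (0 : κ → F) = ⊤ := by
    apply Submodule.eq_top_of_finrank_eq
    rw [hW.hf, hW.hD, he0, zero_mul, add_zero]
  have htriv : ∀ u : κ → F, ρ (xu u) = 1 := by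
    intro u
    apply LinearMap.ext
    intro w
    have hw : w ∈ wsp ρ ψ (0 : κ → F) := by
      rw [hfull]
      trivial
    have h1 := hw u
    rw [dotProduct_zero, AddChar.map_zero_eq_one, one_smul] at h1
    exact h1
  have h3 : 3 ≤ Fintype.card (Unit ⊕ κ) := by
    rw [Fintype.card_sum, Fintype.card_unit]
    omega
  haveI : IsSimpleGroup (Matrix.SpecialLinearGroup (Unit ⊕ κ) F ⧸
      Subgroup.center (Matrix.SpecialLinearGroup (Unit ⊕ κ) F)) :=
    Cfsg.Agent.Lib.Helper5_PSLSimple.psl_simple h3
  have hperf : commutator (Matrix.SpecialLinearGroup (Unit ⊕ κ) F) = ⊤ :=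
    Cfsg.Agent.Lib.Helper5_SLGen.commutator_eq_top_of_three_le_card h3
  -- a nonzero `u`
  obtain ⟨k⟩ : Nonempty κ := Fintype.card_pos_iff.mp (by omega)
  obtain ⟨u, hu⟩ : ∃ u : κ → F, u ≠ 0 := ⟨Pi.single k 1, fun h => by
    have h1 := congrFun h k
    simp at h1⟩
  have hker : (ρ : Matrix.SpecialLinearGroup (Unit ⊕ κ) F →* Module.End ℂ V).ker = ⊤ := by
    apply normal_eq_top_of_not_le_center hperf
    intro hle
    exact xu_not_mem_center u hu (hle (MonoidHom.mem_ker.mpr (htriv u)))
  have hall : ∀ g, ρ g = 1 := fun g => by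
    have h1 : g ∈ (ρ : Matrix.SpecialLinearGroup (Unit ⊕ κ) F →* Module.End ℂ V).ker := by
      rw [hker]
      exact Subgroup.mem_top g
    exact MonoidHom.mem_ker.mp h1
  -- a line is a subrepresentation
  obtain ⟨x, hx⟩ : ∃ x : V, x ≠ 0 := by
    haveI : Nontrivial V := Module.nontrivial_of_finrank_pos (R := ℂ) (by omega)
    exact exists_ne 0
  let τ : Subrepresentation ρ :=
    ⟨Submodule.span ℂ {x}, fun g v hv => by
      rw [hall g]
      exact hv⟩
  rcases hirr.eq_bot_or_eq_top τ with h | h
  · have h1 : x ∈ τ.toSubmodule := Submodule.mem_span_singleton_self _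
    rw [h] at h1
    exact hx ((Submodule.mem_bot ℂ).mp h1)
  · have h1 : τ.toSubmodule = ⊤ := by
      rw [h]
      rfl
    have h4 : Module.finrank ℂ (Submodule.span ℂ {x}) = Module.finrank ℂ V := by
      have h5 : Submodule.span ℂ {x} = ⊤ := h1
      rw [h5, finrank_top]
    rw [finrank_span_singleton hx] at h4
    omega

end Cfsg.Agent.Lib.Helper69_S2332_NONTRIV
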