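import Mathlib
import Cfsg.Agent.Lib.Helper77_SLnDefs
import Cfsg.Prelude.Def_Characters
import Cfsg.Agent.Lib.Helper81_JointEigen
import Cfsg.Agent.Lib.Helper81_AddCharDual

/-!
# S2332 package WSDEC (architect helper77, proof helper69)

Simultaneous diagonalisation of the abelian group `{xu u}`: `V` is the internal direct sum of the weight
spaces `wsp ρ ψ v`, `v : κ → F`.
-/

set_option autoImplicit false
open Matrix Cfsg.Agent.Lib.Helper5_Transv Cfsg.Agent.Lib.Helper77_SLnDefs

namespace Cfsg.Agent.Lib.Helper69_S2332_WSDEC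

open Cfsg.Agent.Lib.Helper81_JointEigen Cfsg.Agent.Lib.Helper81_AddCharDual

variable {F : Type*} [Field F] [Fintype F] [DecidableEq F] {κ : Type} [Fintype κ] [DecidableEq κ]
  {V : Type} [AddCommGroup V] [Module ℂ V] [FiniteDimensional ℂ V]

theorem xu_nsmul (u : κ → F) (n : ℕ) : xu (n • u) = xu u ^ n := by
  induction n with
  | zero => rw [zero_smul, xu_zero, pow_zero]
  | succ n ih => rw [succ_nsmul, xu_add, ih, pow_succ]

/-- the dot product as a bilinear map -/
def dotBilin (F : Type*) [Field F] (κ : Type) [Fintype κ] : (κ → F) →ₗ[F] (κ → F) →ₗ[F] F :=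
  LinearMap.mk₂ F (fun f y => f ⬝ᵥ y) (fun f f' y => add_dotProduct f f' y)
    (fun c f y => smul_dotProduct c f y) (fun f y y' => dotProduct_add f y y')
    (fun c f y => dotProduct_smul c f y)

theorem dotBilin_apply (f y : κ → F) : dotBilin F κ f y = f ⬝ᵥ y := rfl

theorem wsp_isInternal (ρ : Representation ℂ (Matrix.SpecialLinearGroup (Unit ⊕ κ) F) V)
    (ψ : AddChar F ℂ) (hψ : ψ ≠ 1) :
    DirectSum.IsInternal (fun v : κ → F => wsp ρ ψ v) := by
  obtain ⟨p, hpchar⟩ := CharP.exists F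
  have hprime : p.Prime := CharP.char_is_prime F p
  have hpC : (p : ℂ) ≠ 0 := by exact_mod_cast hprime.ne_zero
  obtain ⟨A, hAdef⟩ : ∃ A : (κ → F) → Module.End ℂ V, ∀ u, A u = ρ (xu u) :=
    ⟨fun u => ρ (xu u), fun u => rfl⟩
  have hAadd : ∀ u u', A (u + u') = A u * A u' := by
    intro u u'
    rw [hAdef, hAdef, hAdef, xu_add, map_mul]
  have hA0 : A 0 = 1 := by rw [hAdef, xu_zero, map_one]
  have hA : ∀ u, A u ^ p = 1 := by
    intro u
    rw [hAdef, ← map_pow, ← xu_nsmul]
    have h1 : p • u = 0 := by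
      funext i
      rw [Pi.smul_apply, nsmul_eq_mul, CharP.cast_eq_zero, zero_mul, Pi.zero_apply]
    rw [h1, xu_zero, map_one]
  have hcomm : ∀ u u', Commute (A u) (A u') := by
    intro u u'
    show A u * A u' = A u' * A u
    rw [← hAadd, ← hAadd, add_comm]
  -- weights are additive characters
  have hwt : ∀ χ : (κ → F) → ℂ, jointEigenspace A χ ≠ ⊥ →
      χ 0 = 1 ∧ ∀ u u', χ (u + u') = χ u * χ u' := by
    intro χ hχ
    obtain ⟨x, hxmem, hxne⟩ := Submodule.exists_mem_ne_zero_of_ne_bot hχ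
    have hx : ∀ u, A u x = χ u • x := (mem_jointEigenspace A χ x).mp hxmem
    constructor
    · have h1 : χ 0 • x = (1 : ℂ) • x := by
        rw [← hx 0, hA0, one_smul]
        rfl
      exact smul_left_injective ℂ hxne h1
    · intro u u'
      have h1 : χ (u + u') • x = (χ u * χ u') • x := by
        rw [← hx (u + u'), hAadd, Module.End.mul_apply, hx u', map_smul, hx u, smul_smul,
          mul_comm]
      exact smul_left_injective ℂ hxne h1
  -- the pairing
  have hψ0 : (ψ : F → ℂ) 0 = 1 := AddChar.map_zero_eq_one ψ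
  have hψadd : ∀ a b, (ψ : F → ℂ) (a + b) = ψ a * ψ b := fun a b => AddChar.map_add_eq_mul ψ a b
  have hψne : ∃ a, (ψ : F → ℂ) a ≠ 1 := (AddChar.ne_one_iff).mp hψ
  have hP : ∀ y : κ → F, y ≠ 0 → ∃ f : κ → F, dotBilin F κ f y ≠ 0 := by
    intro y hy
    obtain ⟨i, hi⟩ : ∃ i, y i ≠ 0 := by
      by_contra hcon
      push_neg at hcon
      exact hy (funext hcon)
    refine ⟨Pi.single i 1, ?_⟩
    rw [dotBilin_apply, single_dotProduct, one_mul]
    exact hi
  obtain ⟨wt, hwtdef⟩ : ∃ wt : (κ → F) → (κ → F) → ℂ, ∀ v u, wt v u = ψ (u ⬝ᵥ v) :=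
    ⟨fun v u => ψ (u ⬝ᵥ v), fun v u => rfl⟩
  have hwtinj : Function.Injective wt := by
    have h1 := pairing_injective (ψ : F → ℂ) hψ0 hψadd hψne (dotBilin F κ) hP
    intro v v' hvv'
    apply h1
    funext u
    have h2 := congrFun hvv' u
    rw [hwtdef, hwtdef] at h2
    exact h2
  have hwsp : ∀ v, wsp ρ ψ v = jointEigenspace A (wt v) := by
    intro v
    ext x
    rw [mem_jointEigenspace, mem_wsp]
    constructor
    · intro h u
      rw [hAdef, hwtdef]
      exact h u
    · intro h u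
      have h1 := h u
      rw [hAdef, hwtdef] at h1
      exact h1
  have hex : ∀ χ : (κ → F) → ℂ, jointEigenspace A χ ≠ ⊥ → ∃ v, χ = wt v := by
    intro χ hχ
    obtain ⟨v, hv⟩ := exists_eq_pairing (ψ : F → ℂ) hψ0 hψadd hψne (dotBilin F κ) hP le_rfl χ
      (hwt χ hχ).1 (hwt χ hχ).2
    refine ⟨v, funext fun u => ?_⟩
    rw [hv u, hwtdef, dotBilin_apply]
  rw [DirectSum.isInternal_submodule_iff_iSupIndep_and_iSup_eq_top]
  constructor
  · have h1 := (iSupIndep_jointEigenspace hpC A hA hcomm).comp hwtinj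
    have h2 : (fun v : κ → F => wsp ρ ψ v) = jointEigenspace A ∘ wt := funext hwsp
    rw [h2]
    exact h1
  · have htop := iSup_jointEigenspace hpC A hA hcomm
    rw [eq_top_iff, ← htop]
    refine iSup_le fun χ => ?_
    by_cases h : jointEigenspace A χ = ⊥
    · rw [h]
      exact bot_le
    · obtain ⟨v, hv⟩ := hex χ h
      rw [hv, ← hwsp v]
      exact le_iSup (fun v : κ → F => wsp ρ ψ v) v

end Cfsg.Agent.Lib.Helper69_S2332_WSDEC
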