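import Mathlib
import Cfsg.Agent.Lib.Helper87_S4016Cfg

/-!
# S4016 package CA (architect helper87, proof helper69)

If `L ⊓ C(P) = ⊥` in the configuration `Cfg p P L l`, all centralizers of nonidentity elements
are abelian.
-/

set_option autoImplicit false
open Cfsg.Agent.Lib.Helper87_S4016

namespace Cfsg.Agent.Lib.Helper69_S4016_CA

section aux

variable {G : Type*} [Group G]

/-- A cyclic subgroup is commutative, elementwise. -/
theorem comm_of_isCyclic' {P : Subgroup G} (hcyc : IsCyclic ↥P) :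
    ∀ a ∈ P, ∀ b ∈ P, a * b = b * a := by
  intro a ha b hb
  obtain ⟨g, hg⟩ := hcyc.exists_generator
  obtain ⟨i, hi⟩ := Subgroup.mem_zpowers_iff.mp (hg ⟨a, ha⟩)
  obtain ⟨j, hj⟩ := Subgroup.mem_zpowers_iff.mp (hg ⟨b, hb⟩)
  have h1 : (⟨a, ha⟩ : P) * ⟨b, hb⟩ = ⟨b, hb⟩ * ⟨a, ha⟩ := by
    rw [← hi, ← hj, ← zpow_add, ← zpow_add, add_comm]
  exact congrArg Subtype.val h1

/-- An element of order `p` has a conjugate in any given Sylow `p`-subgroup. -/
theorem exists_conj_mem_sylow [Finite G] {p : ℕ} [Fact p.Prime] (P : Sylow p G) (y : G)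
    (hy : orderOf y = p) : ∃ u : G, u * y * u⁻¹ ∈ P := by
  have hpg : IsPGroup p ↥(Subgroup.zpowers y) := by
    rw [IsPGroup.iff_card]
    exact ⟨1, by rw [Nat.card_zpowers, hy, pow_one]⟩
  obtain ⟨Q, hQ⟩ := hpg.exists_le_sylow
  obtain ⟨u, hu⟩ := MulAction.exists_smul_eq G Q P
  refine ⟨u, ?_⟩
  have hyQ : y ∈ (Q : Subgroup G) := hQ (Subgroup.mem_zpowers y)
  have h1 : u * y * u⁻¹ ∈ ((u • Q : Sylow p G) : Subgroup G) := by
    rw [Sylow.coe_subgroup_smul]
    exact ⟨y, hyQ, rfl⟩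
  rw [hu] at h1
  exact h1

end aux

theorem CA {G : Type*} [Group G] [Finite G] {p : ℕ} [Fact p.Prime] {P : Sylow p G} {L : Subgroup G}
    {l : G} (h : Cfg p P L l)
    (hc1 : ∀ y ∈ P, y ≠ 1 →
      Subgroup.centralizer ({y} : Set G) = Subgroup.centralizer ((P : Subgroup G) : Set G))
    (hc2 : ∀ g ∈ Subgroup.centralizer ((P : Subgroup G) : Set G), ∃ a ∈ P, ∃ m ∈ L,
      m ∈ Subgroup.centralizer ((P : Subgroup G) : Set G) ∧ g = a * m)
    (hL0 : L ⊓ Subgroup.centralizer ((P : Subgroup G) : Set G) = ⊥) :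
    ∀ x : G, x ≠ 1 → ∀ a ∈ Subgroup.centralizer ({x} : Set G),
      ∀ b ∈ Subgroup.centralizer ({x} : Set G), a * b = b * a := by
  have hp : p.Prime := Fact.out
  have hPab : ∀ a ∈ (P : Subgroup G), ∀ b ∈ (P : Subgroup G), a * b = b * a :=
    comm_of_isCyclic' h.cyc
  -- C(P) ≤ P
  have hCP : ∀ g ∈ Subgroup.centralizer ((P : Subgroup G) : Set G), g ∈ (P : Subgroup G) := by
    intro g hg
    obtain ⟨a, ha, m, hm, hmC, rfl⟩ := hc2 g hg
    have : m ∈ L ⊓ Subgroup.centralizer ((P : Subgroup G) : Set G) := Subgroup.mem_inf.mpr ⟨hm, hmC⟩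
    rw [hL0, Subgroup.mem_bot] at this
    rw [this, mul_one]
    exact ha
  intro x hx1 a ha b hb
  by_cases hdiv : p ∣ Nat.card ↥(Subgroup.centralizer ({x} : Set G))
  · -- Cauchy
    obtain ⟨y, hy⟩ := exists_prime_orderOf_dvd_card' p hdiv
    have hy' : orderOf (y : G) = p := by rw [Subgroup.orderOf_coe]; exact hy
    have hyx : (y : G) * x = x * (y : G) := (Subgroup.mem_centralizer_singleton_iff.mp y.2)
    obtain ⟨u, hu⟩ := exists_conj_mem_sylow P (y : G) hy'
    have hy1 : u * (y : G) * u⁻¹ ≠ 1 := by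
      intro h1
      have h2 : (y : G) = 1 := by
        have : (y : G) = u⁻¹ * (u * (y : G) * u⁻¹) * u := by group
        rw [this, h1]; group
      rw [h2, orderOf_one] at hy'
      exact hp.one_lt.ne hy'
    -- x' := u x u⁻¹ ∈ C(y') = C(P) ≤ P
    have hx'C : u * x * u⁻¹ ∈ Subgroup.centralizer ({u * (y : G) * u⁻¹} : Set G) := by
      rw [Subgroup.mem_centralizer_singleton_iff]
      calc u * x * u⁻¹ * (u * (y : G) * u⁻¹) = u * (x * (y : G)) * u⁻¹ := by group
        _ = u * ((y : G) * x) * u⁻¹ := by rw [hyx]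
        _ = u * (y : G) * u⁻¹ * (u * x * u⁻¹) := by group
    rw [hc1 _ hu hy1] at hx'C
    have hx'P : u * x * u⁻¹ ∈ (P : Subgroup G) := hCP _ hx'C
    have hx'1 : u * x * u⁻¹ ≠ 1 := by
      intro h1
      apply hx1
      have : x = u⁻¹ * (u * x * u⁻¹) * u := by group
      rw [this, h1]; group
    -- conjugates of a, b lie in C(x') = C(P) ≤ P
    have hconj : ∀ c ∈ Subgroup.centralizer ({x} : Set G), u * c * u⁻¹ ∈ (P : Subgroup G) := by
      intro c hc
      apply hCP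
      rw [← hc1 _ hx'P hx'1, Subgroup.mem_centralizer_singleton_iff]
      have hcx : c * x = x * c := Subgroup.mem_centralizer_singleton_iff.mp hc
      calc u * c * u⁻¹ * (u * x * u⁻¹) = u * (c * x) * u⁻¹ := by group
        _ = u * (x * c) * u⁻¹ := by rw [hcx]
        _ = u * x * u⁻¹ * (u * c * u⁻¹) := by group
    have hab' := hPab _ (hconj a ha) _ (hconj b hb)
    have h3 : u * (a * b) * u⁻¹ = u * (b * a) * u⁻¹ := by
      calc u * (a * b) * u⁻¹ = u * a * u⁻¹ * (u * b * u⁻¹) := by group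
        _ = u * b * u⁻¹ * (u * a * u⁻¹) := hab'
        _ = u * (b * a) * u⁻¹ := by group
    exact mul_left_cancel (mul_right_cancel h3)
  · exact h.hab _ hdiv a ha b hb

end Cfsg.Agent.Lib.Helper69_S4016_CA
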