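import Mathlib
import Cfsg.Agent.Lib.Helper87_S4016Cfg

/-!
# S4016 package CENT (architect helper87, proof helper69)

Centralizers in the configuration `Cfg p P L l`.
-/

set_option autoImplicit false
open Cfsg.Agent.Lib.Helper87_S4016
open scoped Pointwise

namespace Cfsg.Agent.Lib.Helper69_S4016_CENT

section aux

variable {G : Type*} [Group G]

/-- Elements of `P ⊔ L` factor as `a * m` when `L` normalizes `P`. -/
theorem exists_mul_of_mem_sup {P L : Subgroup G}
    (hL : L ≤ Subgroup.normalizer ((P : Subgroup G) : Set G)) {g : G} (hg : g ∈ P ⊔ L) :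
    ∃ a ∈ P, ∃ m ∈ L, g = a * m := by
  have h1 : ((P ⊔ L : Subgroup G) : Set G) = (P : Set G) * (L : Set G) :=
    Subgroup.coe_mul_of_right_le_normalizer_left P L hL
  have h2 : g ∈ ((P ⊔ L : Subgroup G) : Set G) := hg
  rw [h1] at h2
  obtain ⟨a, ha, m, hm, rfl⟩ := h2
  exact ⟨a, ha, m, hm, rfl⟩

/-- A cyclic subgroup is commutative, elementwise. -/
theorem comm_of_isCyclic {P : Subgroup G} (hcyc : IsCyclic ↥P) :
    ∀ a ∈ P, ∀ b ∈ P, a * b = b * a := by
  intro a ha b hb
  obtain ⟨g, hg⟩ := hcyc.exists_generator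
  obtain ⟨i, hi⟩ := Subgroup.mem_zpowers_iff.mp (hg ⟨a, ha⟩)
  obtain ⟨j, hj⟩ := Subgroup.mem_zpowers_iff.mp (hg ⟨b, hb⟩)
  have h1 : (⟨a, ha⟩ : P) * ⟨b, hb⟩ = ⟨b, hb⟩ * ⟨a, ha⟩ := by
    rw [← hi, ← hj, ← zpow_add, ← zpow_add, add_comm]
  exact congrArg Subtype.val h1

variable {p : ℕ} {P : Sylow p G} {L : Subgroup G} {l : G}

theorem L_comm (h : Cfg p P L l) : ∀ a ∈ L, ∀ b ∈ L, a * b = b * a :=
  h.hab L h.L_cop

theorem center_eq_bot (h : Cfg p P L l) : Subgroup.center G = ⊥ := by
  rcases h.simple (Subgroup.center G) inferInstance with h1 | h1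
  · exact h1
  · exfalso
    apply h.notNormal
    refine ⟨fun n hn g => ?_⟩
    have hg : g ∈ Subgroup.center G := by rw [h1]; trivial
    have := Subgroup.mem_center_iff.mp hg n
    rw [← this, mul_inv_cancel_right]
    exact hn

theorem orderOf_coprime_of_mem_L [Fact p.Prime] (h : Cfg p P L l) {m : G} (hm : m ∈ L) :
    (orderOf m).Coprime p := by
  have hp : p.Prime := Fact.out
  have h1 : orderOf m ∣ Nat.card ↥L := by
    have := orderOf_dvd_natCard (⟨m, hm⟩ : L)
    rwa [Subgroup.orderOf_mk] at this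
  have h2 : (Nat.card ↥L).Coprime p :=
    ((Nat.Prime.coprime_iff_not_dvd hp).mpr h.L_cop).symm
  exact Nat.Coprime.coprime_dvd_left h1 h2

end aux

theorem CENT {G : Type*} [Group G] [Finite G] {p : ℕ} [Fact p.Prime] {P : Sylow p G} {L : Subgroup G}
    {l : G} (h : Cfg p P L l)
    (hCAL : ∀ m ∈ Subgroup.normalizer ((P : Subgroup G) : Set G), (orderOf m).Coprime p →
      ∀ y ∈ P, y ≠ 1 → m * y = y * m → ∀ z ∈ P, m * z = z * m)
    (hTI : ∀ y ∈ P, y ≠ 1 →
      Subgroup.centralizer ({y} : Set G) ≤ Subgroup.normalizer ((P : Subgroup G) : Set G)) :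
    (∀ y ∈ P, y ≠ 1 →
      Subgroup.centralizer ({y} : Set G) = Subgroup.centralizer ((P : Subgroup G) : Set G)) ∧
    (∀ g ∈ Subgroup.centralizer ((P : Subgroup G) : Set G), ∃ a ∈ P, ∃ m ∈ L,
      m ∈ Subgroup.centralizer ((P : Subgroup G) : Set G) ∧ g = a * m) ∧
    (∀ v ∈ Subgroup.centralizer ((P : Subgroup G) : Set G), (orderOf v).Coprime p → v ≠ 1 →
      Subgroup.centralizer ({v} : Set G) = Subgroup.normalizer ((P : Subgroup G) : Set G)) ∧
    (∀ a ∈ Subgroup.centralizer ((P : Subgroup G) : Set G),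
      ∀ b ∈ Subgroup.centralizer ((P : Subgroup G) : Set G), a * b = b * a) := by
  have hp : p.Prime := Fact.out
  have hPab : ∀ a ∈ (P : Subgroup G), ∀ b ∈ (P : Subgroup G), a * b = b * a :=
    comm_of_isCyclic h.cyc
  have hLab := L_comm h
  -- P ≤ C(P)
  have hPC : ∀ a ∈ (P : Subgroup G), a ∈ Subgroup.centralizer ((P : Subgroup G) : Set G) := by
    intro a ha
    rw [Subgroup.mem_centralizer_iff]
    intro z hz
    exact hPab z hz a ha
  -- membership in C(P) unfolded
  have hCmem : ∀ {g : G}, g ∈ Subgroup.centralizer ((P : Subgroup G) : Set G) ↔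
      ∀ z ∈ (P : Subgroup G), z * g = g * z := by
    intro g
    rw [Subgroup.mem_centralizer_iff]
    rfl
  -- hc2
  have hc2 : ∀ g ∈ Subgroup.centralizer ((P : Subgroup G) : Set G), ∃ a ∈ P, ∃ m ∈ L,
      m ∈ Subgroup.centralizer ((P : Subgroup G) : Set G) ∧ g = a * m := by
    intro g hg
    have hgN : g ∈ Subgroup.normalizer ((P : Subgroup G) : Set G) :=
      Subgroup.centralizer_le_normalizer _ hg
    rw [← h.sup] at hgN
    obtain ⟨a, ha, m, hm, rfl⟩ := exists_mul_of_mem_sup h.L_le hgN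
    refine ⟨a, ha, m, hm, ?_, rfl⟩
    have : m = a⁻¹ * (a * m) := by group
    rw [this]
    exact mul_mem (inv_mem (hPC a ha)) hg
  -- hc4
  have hc4 : ∀ a ∈ Subgroup.centralizer ((P : Subgroup G) : Set G),
      ∀ b ∈ Subgroup.centralizer ((P : Subgroup G) : Set G), a * b = b * a := by
    intro a ha b hb
    obtain ⟨a1, ha1, m1, hm1, hm1C, rfl⟩ := hc2 a ha
    obtain ⟨a2, ha2, m2, hm2, hm2C, rfl⟩ := hc2 b hb
    have e1 : a1 * a2 = a2 * a1 := hPab a1 ha1 a2 ha2
    have e2 : m1 * m2 = m2 * m1 := hLab m1 hm1 m2 hm2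
    have e3 : a2 * m1 = m1 * a2 := hCmem.mp hm1C a2 ha2
    have e4 : a1 * m2 = m2 * a1 := hCmem.mp hm2C a1 ha1
    calc a1 * m1 * (a2 * m2) = a1 * (m1 * a2) * m2 := by group
      _ = a1 * (a2 * m1) * m2 := by rw [e3]
      _ = (a1 * a2) * (m1 * m2) := by group
      _ = (a2 * a1) * (m2 * m1) := by rw [e1, e2]
      _ = a2 * (a1 * m2) * m1 := by group
      _ = a2 * (m2 * a1) * m1 := by rw [e4]
      _ = a2 * m2 * (a1 * m1) := by group
  -- hc1
  have hc1 : ∀ y ∈ P, y ≠ 1 →
      Subgroup.centralizer ({y} : Set G) = Subgroup.centralizer ((P : Subgroup G) : Set G) := by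
    intro y hy hy1
    apply le_antisymm
    · intro g hg
      have hgN := hTI y hy hy1 hg
      rw [← h.sup] at hgN
      obtain ⟨a, ha, m, hm, rfl⟩ := exists_mul_of_mem_sup h.L_le hgN
      have haCy : a ∈ Subgroup.centralizer ({y} : Set G) := by
        rw [Subgroup.mem_centralizer_singleton_iff]
        exact hPab a ha y hy
      have hmCy : m ∈ Subgroup.centralizer ({y} : Set G) := by
        have : m = a⁻¹ * (a * m) := by group
        rw [this]
        exact mul_mem (inv_mem haCy) hg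
      have hmy : m * y = y * m := Subgroup.mem_centralizer_singleton_iff.mp hmCy
      have hmC : m ∈ Subgroup.centralizer ((P : Subgroup G) : Set G) := by
        rw [hCmem]
        intro z hz
        exact (hCAL m (h.L_le hm) (orderOf_coprime_of_mem_L h hm) y hy hy1 hmy z hz).symm
      exact mul_mem (hPC a ha) hmC
    · exact Subgroup.centralizer_le (by
        intro z hz
        rw [Set.mem_singleton_iff] at hz
        rw [hz]; exact hy)
  -- hc3
  have hc3 : ∀ v ∈ Subgroup.centralizer ((P : Subgroup G) : Set G), (orderOf v).Coprime p →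
      v ≠ 1 →
      Subgroup.centralizer ({v} : Set G) = Subgroup.normalizer ((P : Subgroup G) : Set G) := by
    intro v hv hcop hv1
    obtain ⟨a, ha, m, hm, hmC, rfl⟩ := hc2 v hv
    have ham : Commute a m := hCmem.mp hmC a ha
    -- a ^ n = 1
    have hpow : a ^ orderOf (a * m) * m ^ orderOf (a * m) = 1 := by
      rw [← ham.mul_pow, pow_orderOf_eq_one]
    have han : a ^ orderOf (a * m) ∈ (P : Subgroup G) ⊓ L := by
      refine Subgroup.mem_inf.mpr ⟨pow_mem ha _, ?_⟩
      have : a ^ orderOf (a * m) = (m ^ orderOf (a * m))⁻¹ := eq_inv_of_mul_eq_one_left hpow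
      rw [this]
      exact inv_mem (pow_mem hm _)
    rw [h.disj, Subgroup.mem_bot] at han
    have hdvd : orderOf a ∣ orderOf (a * m) := orderOf_dvd_of_pow_eq_one han
    obtain ⟨k, hk⟩ : ∃ k : ℕ, orderOf a = p ^ k := by
      have hPp : IsPGroup p ↥(P : Subgroup G) := P.isPGroup'
      obtain ⟨k, hk⟩ := IsPGroup.iff_orderOf.mp hPp (⟨a, ha⟩ : (P : Subgroup G))
      exact ⟨k, by rwa [Subgroup.orderOf_mk] at hk⟩
    have ha1 : a = 1 := by
      have h1 : (orderOf a).Coprime p := Nat.Coprime.coprime_dvd_left hdvd hcop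
      rw [hk] at h1
      rcases Nat.eq_zero_or_pos k with hk0 | hk0
      · rw [hk0, pow_zero] at hk
        exact orderOf_eq_one_iff.mp hk
      · exfalso
        have : p ∣ Nat.gcd (p ^ k) p :=
          Nat.dvd_gcd (dvd_pow_self p (Nat.pos_iff_ne_zero.mp hk0)) dvd_rfl
        rw [h1] at this
        exact hp.one_lt.ne' (Nat.dvd_one.mp this)
    subst ha1
    rw [one_mul] at hv1 hcop ⊢
    -- now v = m ∈ L ∩ C(P)
    have hPle : (P : Subgroup G) ≤ Subgroup.centralizer ({m} : Set G) := by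
      intro z hz
      rw [Subgroup.mem_centralizer_singleton_iff]
      exact hCmem.mp hmC z hz
    have hLle : L ≤ Subgroup.centralizer ({m} : Set G) := by
      intro z hz
      rw [Subgroup.mem_centralizer_singleton_iff]
      exact hLab z hz m hm
    apply le_antisymm
    · apply h.max _ _ hPle (hLle h.l_mem)
      intro htop
      apply hv1
      have hmZ : m ∈ Subgroup.center G := by
        rw [Subgroup.mem_center_iff]
        intro g
        have hg : g ∈ Subgroup.centralizer ({m} : Set G) := by rw [htop]; trivial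
        exact Subgroup.mem_centralizer_singleton_iff.mp hg
      rw [center_eq_bot h, Subgroup.mem_bot] at hmZ
      exact hmZ
    · rw [← h.sup]
      exact sup_le hPle hLle
  exact ⟨hc1, hc2, hc3, hc4⟩

end Cfsg.Agent.Lib.Helper69_S4016_CENT
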