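import Mathlib
import Cfsg.Agent.Lib.Helper5_Transv
import Cfsg.Agent.Lib.Helper5_RootSL
import Cfsg.Agent.Lib.Helper44_PSLnUT
import Cfsg.Agent.Lib.Helper44_PSLnTv
import Cfsg.Agent.Lib.Helper44_PSLnSyl
import Cfsg.Agent.Lib.Helper32_PGroup
import Cfsg.Agent.Lib.Helper88_PSLnFusDefs

/-!
# S5163 package GEN_B (architect helper88, proof helper69)

Decomposition of an upper triangular element of `SL_{m+3}(F)` as `u * hh01(t) * h₂` with `u`
unitriangular and `h₂` in the group generated by the `hh i j s` with `i, j ≠ 0`.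
-/

set_option autoImplicit false

namespace Cfsg.Agent.Lib.Helper69_S5163_GEN_B

open Matrix Cfsg.Agent.Lib.Helper5_Transv Cfsg.Agent.Lib.Helper44_PSLnUT
  Cfsg.Agent.Lib.Helper44_PSLnTv Cfsg.Agent.Lib.Helper44_PSLnSyl Cfsg.Agent.Lib.Helper88_PSLnFus

variable {F : Type*} [Field F]

/-- a diagonal element of `SL_n(F)` -/
def dgS {n : ℕ} (f : Fin n → F) (hf : ∏ k, f k = 1) : SpecialLinearGroup (Fin n) F :=
  ⟨Matrix.diagonal f, by rw [Matrix.det_diagonal, hf]⟩

theorem dgS_mul {n : ℕ} (f g : Fin n → F) (hf : ∏ k, f k = 1) (hg : ∏ k, g k = 1)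
    (hfg : ∏ k, (f k * g k) = 1) : dgS f hf * dgS g hg = dgS (fun k => f k * g k) hfg := by
  apply Subtype.ext
  show Matrix.diagonal f * Matrix.diagonal g = Matrix.diagonal (fun k => f k * g k)
  rw [Matrix.diagonal_mul_diagonal]

theorem dgS_congr {n : ℕ} (f g : Fin n → F) (hf : ∏ k, f k = 1) (hg : ∏ k, g k = 1)
    (h : ∀ k, f k = g k) : dgS f hf = dgS g hg := by
  have : f = g := funext h
  subst this
  rfl

theorem hh_eq_dgS {n : ℕ} {i j : Fin n} (hij : i ≠ j) (t : Fˣ) :
    hh hij t = dgS (hhFun i j t) (prod_hhFun hij t) := rfl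

/-- the generating set -/
def Sgen (m : ℕ) (F : Type*) [Field F] : Set (SpecialLinearGroup (Fin (m + 3)) F) :=
  {y | ∃ (i j : Fin (m + 3)) (hij : i ≠ j) (s : Fˣ), i ≠ 0 ∧ j ≠ 0 ∧ y = hh hij s}

/-- diagonal elements with entry `1` at `0` are products of the `hh a 1 s`, `a ≥ 2` -/
theorem dgS_mem_closure (m : ℕ) (A : Finset (Fin (m + 3))) :
    (∀ a ∈ A, a ≠ 0 ∧ a ≠ 1) → ∀ (f : Fin (m + 3) → F) (hf : ∏ k, f k = 1), f 0 = 1 →
      (∀ k, k ≠ 1 → k ∉ A → f k = 1) → (∀ k, f k ≠ 0) →
      dgS f hf ∈ Subgroup.closure (Sgen m F) := by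
  induction A using Finset.induction_on with
  | empty =>
    intro _ f hf _ hA _
    have h1 : ∏ k, f k = f 1 := by
      apply Finset.prod_eq_single 1
      · intro k _ hk
        exact hA k hk (Finset.notMem_empty k)
      · intro h
        exact absurd (Finset.mem_univ _) h
    have h2 : f 1 = 1 := by rw [← h1, hf]
    have h3 : dgS f hf = 1 := by
      apply Subtype.ext
      show Matrix.diagonal f = 1
      rw [← Matrix.diagonal_one]
      congr 1
      funext k
      by_cases hk : k = 1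
      · rw [hk, h2]
      · rw [hA k hk (Finset.notMem_empty k)]
    rw [h3]
    exact one_mem _
  | insert a A' ha ih =>
    intro hA f hf hf0 hfA hne
    have ha0 : a ≠ 0 := (hA a (Finset.mem_insert_self a A')).1
    have ha1 : a ≠ 1 := (hA a (Finset.mem_insert_self a A')).2
    have h10 : (1 : Fin (m + 3)) ≠ 0 := by
      intro h
      have := congrArg Fin.val h
      simp at this
    let s : Fˣ := Units.mk0 (f a) (hne a)
    let f' : Fin (m + 3) → F := fun k => if k = a then 1 else if k = 1 then f 1 * f a else f k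
    have hprod : ∀ k, f k = hhFun a 1 s k * f' k := by
      intro k
      show f k = hhFun a 1 s k * (if k = a then 1 else if k = 1 then f 1 * f a else f k)
      unfold hhFun
      by_cases hk : k = a
      · rw [if_pos hk, if_pos hk, mul_one, hk]
        rfl
      · rw [if_neg hk, if_neg hk]
        by_cases hk1 : k = 1
        · rw [if_pos hk1, if_pos hk1, hk1]
          show f 1 = ((s⁻¹ : Fˣ) : F) * (f 1 * f a)
          rw [Units.val_inv_eq_inv_val]
          show f 1 = (f a)⁻¹ * (f 1 * f a)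
          field_simp [hne a]
        · rw [if_neg hk1, if_neg hk1, one_mul]
    have hf' : ∏ k, f' k = 1 := by
      have h1 : ∏ k, f k = (∏ k, hhFun a 1 s k) * ∏ k, f' k := by
        rw [← Finset.prod_mul_distrib]
        exact Finset.prod_congr rfl (fun k _ => hprod k)
      rw [prod_hhFun ha1 s, one_mul] at h1
      rw [← h1, hf]
    have e : dgS f hf = hh ha1 s * dgS f' hf' := by
      rw [hh_eq_dgS, dgS_mul _ _ _ _ (by
        rw [Finset.prod_mul_distrib, prod_hhFun ha1 s, hf', one_mul])]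
      exact dgS_congr _ _ _ _ hprod
    rw [e]
    apply mul_mem
    · exact Subgroup.subset_closure ⟨a, 1, ha1, s, ha0, h10, rfl⟩
    · apply ih (fun b hb => hA b (Finset.mem_insert_of_mem hb)) f' hf'
      · show (if (0 : Fin (m + 3)) = a then 1 else if (0 : Fin (m + 3)) = 1 then f 1 * f a
          else f 0) = 1
        rw [if_neg (Ne.symm ha0), if_neg (Ne.symm h10), hf0]
      · intro k hk1 hkA
        show (if k = a then 1 else if k = 1 then f 1 * f a else f k) = 1
        by_cases hk : k = a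
        · rw [if_pos hk]
        · rw [if_neg hk, if_neg hk1]
          apply hfA k hk1
          intro hmem
          rcases Finset.mem_insert.mp hmem with h | h
          · exact hk h
          · exact hkA h
      · intro k
        show (if k = a then 1 else if k = 1 then f 1 * f a else f k) ≠ 0
        by_cases hk : k = a
        · rw [if_pos hk]; exact one_ne_zero
        · rw [if_neg hk]
          by_cases hk1 : k = 1
          · rw [if_pos hk1]; exact mul_ne_zero (hne 1) (hne a)
          · rw [if_neg hk1]; exact hne k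

theorem GEN_B (m : ℕ) (b : SpecialLinearGroup (Fin (m + 3)) F) (hb : IsUpper b) :
    ∃ u ∈ UT (m + 3) F, ∃ t : Fˣ,
      ∃ h₂ ∈ Subgroup.closure {y : SpecialLinearGroup (Fin (m + 3)) F |
        ∃ (i j : Fin (m + 3)) (hij : i ≠ j) (s : Fˣ), i ≠ 0 ∧ j ≠ 0 ∧ y = hh hij s},
      b = u * hh (i := (0 : Fin (m + 3))) (j := 1) (by simp) t * h₂ := by
  have h01 : (0 : Fin (m + 3)) ≠ 1 := by simp
  -- the diagonal
  have hdet : ∏ k, b.1 k k = 1 := by
    rw [← Matrix.det_of_isUpperTriangular (M := b.1) (fun i j hij => hb i j hij)]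
    exact b.2
  have hne : ∀ k, b.1 k k ≠ 0 := by
    intro k hk
    have : ∏ k, b.1 k k = 0 := Finset.prod_eq_zero (Finset.mem_univ k) hk
    rw [hdet] at this
    exact one_ne_zero this
  let t : Fˣ := Units.mk0 (b.1 0 0) (hne 0)
  let f' : Fin (m + 3) → F := fun k => if k = 0 then 1 else if k = 1 then b.1 0 0 * b.1 1 1
    else b.1 k k
  have hprod : ∀ k, b.1 k k = hhFun (0 : Fin (m + 3)) 1 t k * f' k := by
    intro k
    show b.1 k k = hhFun (0 : Fin (m + 3)) 1 t k * (if k = 0 then 1 else if k = 1 then b.1 0 0 * b.1 1 1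
      else b.1 k k)
    unfold hhFun
    by_cases hk : k = 0
    · rw [if_pos hk, if_pos hk, mul_one, hk]
      rfl
    · rw [if_neg hk, if_neg hk]
      by_cases hk1 : k = 1
      · rw [if_pos hk1, if_pos hk1, hk1]
        show b.1 1 1 = ((t⁻¹ : Fˣ) : F) * (b.1 0 0 * b.1 1 1)
        rw [Units.val_inv_eq_inv_val]
        show b.1 1 1 = (b.1 0 0)⁻¹ * (b.1 0 0 * b.1 1 1)
        field_simp [hne 0]
      · rw [if_neg hk1, if_neg hk1, one_mul]
  have hf' : ∏ k, f' k = 1 := by
    have h1 : ∏ k, b.1 k k = (∏ k, hhFun (0 : Fin (m + 3)) 1 t k) * ∏ k, f' k := by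
      rw [← Finset.prod_mul_distrib]
      exact Finset.prod_congr rfl (fun k _ => hprod k)
    rw [prod_hhFun h01 t, one_mul] at h1
    rw [← h1, hdet]
  have hD : hh h01 t * dgS f' hf' = dgS (fun k => b.1 k k) hdet := by
    rw [hh_eq_dgS, dgS_mul _ _ _ _ (by
      rw [Finset.prod_mul_distrib, prod_hhFun h01 t, hf', one_mul])]
    exact dgS_congr _ _ _ _ (fun k => (hprod k).symm)
  have hmem : dgS f' hf' ∈ Subgroup.closure (Sgen m F) := by
    apply dgS_mem_closure m (Finset.univ.filter (fun k => k ≠ 0 ∧ k ≠ 1))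
    · intro a ha
      exact (Finset.mem_filter.mp ha).2
    · show (if (0 : Fin (m + 3)) = 0 then 1 else if (0 : Fin (m + 3)) = 1 then b.1 0 0 * b.1 1 1
        else b.1 0 0) = 1
      rw [if_pos rfl]
    · intro k hk1 hkA
      have hk0 : k = 0 := by
        by_contra hk0
        exact hkA (Finset.mem_filter.mpr ⟨Finset.mem_univ k, hk0, hk1⟩)
      show (if k = 0 then 1 else if k = 1 then b.1 0 0 * b.1 1 1 else b.1 k k) = 1
      rw [if_pos hk0]
    · intro k
      show (if k = 0 then 1 else if k = 1 then b.1 0 0 * b.1 1 1 else b.1 k k) ≠ 0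
      by_cases hk : k = 0
      · rw [if_pos hk]; exact one_ne_zero
      · rw [if_neg hk]
        by_cases hk1 : k = 1
        · rw [if_pos hk1]; exact mul_ne_zero (hne 0) (hne 1)
        · rw [if_neg hk1]; exact hne k
  -- the unitriangular part
  have hinvprod : ∏ k, (b.1 k k)⁻¹ = 1 := by
    rw [Finset.prod_inv_distrib, hdet, inv_one]
  have hDinv : dgS (fun k => b.1 k k) hdet * dgS (fun k => (b.1 k k)⁻¹) hinvprod = 1 := by
    rw [dgS_mul _ _ _ _ (by
      rw [Finset.prod_mul_distrib, hdet, hinvprod, one_mul])]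
    apply Subtype.ext
    show Matrix.diagonal (fun k => b.1 k k * (b.1 k k)⁻¹) = 1
    rw [← Matrix.diagonal_one]
    congr 1
    funext k
    exact mul_inv_cancel₀ (hne k)
  refine ⟨b * dgS (fun k => (b.1 k k)⁻¹) hinvprod, ?_, t, dgS f' hf', hmem, ?_⟩
  · rw [mem_UT]
    show IsUT (b.1 * Matrix.diagonal (fun k => (b.1 k k)⁻¹))
    refine ⟨fun i j hij => ?_, fun i => ?_⟩
    · rw [Matrix.mul_diagonal, hb i j hij, zero_mul]
    · rw [Matrix.mul_diagonal]
      exact mul_inv_cancel₀ (hne i)
  · rw [mul_assoc, hD]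
    have h2 : dgS (fun k => (b.1 k k)⁻¹) hinvprod * dgS (fun k => b.1 k k) hdet = 1 :=
      mul_eq_one_comm.mp hDinv
    rw [mul_assoc, h2, mul_one]

end Cfsg.Agent.Lib.Helper69_S5163_GEN_B
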