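import Mathlib
import Cfsg.Agent.Lib.Helper5_Transv
import Cfsg.Agent.Lib.Helper5_RootSL
import Cfsg.Agent.Lib.Helper44_PSLnUT
import Cfsg.Agent.Lib.Helper44_PSLnTv
import Cfsg.Agent.Lib.Helper44_PSLnSyl
import Cfsg.Agent.Lib.Helper32_PGroup
import Cfsg.Agent.Lib.Helper88_PSLnFusDefs

/-!
# S5163 package NB_B (architect helper88, proof helper69)

An element of `SL_n(F)` normalising the upper unitriangular group `UT` is upper triangular:
it preserves the flag `V_k = {v | v i = 0 for i ≥ k}`.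
-/

set_option autoImplicit false

namespace Cfsg.Agent.Lib.Helper69_S5163_NB_B

open Matrix Cfsg.Agent.Lib.Helper5_Transv Cfsg.Agent.Lib.Helper44_PSLnUT
  Cfsg.Agent.Lib.Helper44_PSLnTv Cfsg.Agent.Lib.Helper44_PSLnSyl Cfsg.Agent.Lib.Helper88_PSLnFus

variable {F : Type*} [Field F]

/-- the `k`-th member of the standard flag -/
def Vk {n : ℕ} (k : ℕ) (v : Fin n → F) : Prop := ∀ i : Fin n, k ≤ i.val → v i = 0

/-- `u - 1` maps `V_{k+1}` into `V_k` for unitriangular `u` -/
theorem Vk_of_isUT {n : ℕ} {M : Matrix (Fin n) (Fin n) F} (hM : IsUT M) (k : ℕ) (w : Fin n → F)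
    (hw : Vk (k + 1) w) : Vk k ((M - 1) *ᵥ w) := by
  intro i hi
  rw [Matrix.mulVec, dotProduct]
  apply Finset.sum_eq_zero
  intro j _
  rcases lt_trichotomy j i with hji | hji | hji
  · rw [Matrix.sub_apply, hM.1 i j hji, Matrix.one_apply_ne (ne_of_gt hji), sub_zero, zero_mul]
  · rw [hji, Matrix.sub_apply, hM.2 i, Matrix.one_apply_eq, sub_self, zero_mul]
  · have : k + 1 ≤ j.val := by
      have : i.val < j.val := hji
      omega
    rw [hw j this, mul_zero]

/-- conversely -/
theorem Vk_succ_of_forall {n : ℕ} (k : ℕ) (w : Fin n → F)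
    (h : ∀ u ∈ UT n F, Vk k ((u.1 - 1) *ᵥ w)) : Vk (k + 1) w := by
  intro j hj
  have hk : k < n := by have := j.2; omega
  have hkj : (⟨k, hk⟩ : Fin n) < j := by
    show k < j.val
    omega
  have h1 := h _ (transvection_mem_UT hkj (1 : F)) ⟨k, hk⟩ (le_refl k)
  rw [SpecialLinearGroup.transvection_coe, add_sub_cancel_left, Matrix.single_mulVec,
    Function.update_self, one_mul] at h1
  exact h1

/-- an element whose inverse conjugation preserves `UT` preserves the flag -/
theorem flag_invariant {n : ℕ} (g : SpecialLinearGroup (Fin n) F)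
    (h' : ∀ u ∈ UT n F, g⁻¹ * u * g ∈ UT n F) :
    ∀ k : ℕ, ∀ v : Fin n → F, Vk k v → Vk k (g.1 *ᵥ v) := by
  intro k
  induction k with
  | zero =>
    intro v hv
    have : v = 0 := by
      funext i
      exact hv i (Nat.zero_le _)
    rw [this, Matrix.mulVec_zero]
    intro i _
    rfl
  | succ k ih =>
    intro v hv
    apply Vk_succ_of_forall
    intro u hu
    have hu' := h' u hu
    have e : (u.1 - 1) * g.1 = g.1 * ((g⁻¹ * u * g).1 - 1) := by
      have h1 : g * (g⁻¹ * u * g) = u * g := by group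
      have h2 : g.1 * (g⁻¹ * u * g).1 = u.1 * g.1 := congrArg Subtype.val h1
      rw [Matrix.sub_mul, Matrix.mul_sub, h2, Matrix.one_mul, Matrix.mul_one]
    rw [Matrix.mulVec_mulVec, e, ← Matrix.mulVec_mulVec]
    exact ih _ (Vk_of_isUT (mem_UT.mp hu') k v hv)

theorem NB_B (n : ℕ) (g : SpecialLinearGroup (Fin n) F)
    (h : ∀ u ∈ UT n F, g * u * g⁻¹ ∈ UT n F) (h' : ∀ u ∈ UT n F, g⁻¹ * u * g ∈ UT n F) :
    IsUpper g := by
  have _ := h
  intro i j hji
  have h1 : Vk (j.val + 1) (Pi.single j (1 : F) : Fin n → F) := by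
    intro a ha
    have : a ≠ j := by
      intro haj
      rw [haj] at ha
      omega
    exact Pi.single_eq_of_ne this 1
  have h2 := flag_invariant g h' (j.val + 1) _ h1 i (by
    have : j.val < i.val := hji
    omega)
  rw [Matrix.mulVec_single_one] at h2
  exact h2

end Cfsg.Agent.Lib.Helper69_S5163_NB_B
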