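import Mathlib
import Cfsg.Prelude.Def_Classical
import Cfsg.Agent.Lib.Helper44_PSLnUT

/-!
# S5172 package C2 (architect helper88): `UT n F` is a Sylow `p`-subgroup of `SL_n(F)`
-/

set_option autoImplicit false

namespace Cfsg.Agent.Lib.Helper82_S5172_C2

open Matrix Cfsg.Agent.Lib.Helper44_PSLnUT

variable {F : Type*} [Field F] [Fintype F]

/-- **C2**  `UT n F` is a Sylow `p`-subgroup of `SL_n(F)`. -/
theorem C2 (p : ℕ) [Fact p.Prime] [CharP F p] (n : ℕ) :
    ∃ P : Sylow p (SpecialLinearGroup (Fin n) F),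
      (P : Subgroup (SpecialLinearGroup (Fin n) F)) = UT n F := by
  classical
  obtain ⟨f, hp, hF⟩ := FiniteField.card F p
  have hcard : Nat.card (UT n F) = p ^ ((f : ℕ) * ∑ i : Fin n, (i : ℕ)) := by
    rw [card_UT, hF, card_Pos, pow_mul]
  have h2 : Nat.card (SpecialLinearGroup (Fin n) F) ∣ Nat.card (GL (Fin n) F) :=
    Subgroup.card_dvd_of_injective (Matrix.SpecialLinearGroup.toGL)
      (by
        intro a b hab
        apply Subtype.ext
        have := congrArg (fun g : GL (Fin n) F => (g : Matrix (Fin n) (Fin n) F)) hab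
        simpa using this)
  have hk : (Nat.card (SpecialLinearGroup (Fin n) F)).factorization p
      = (f : ℕ) * ∑ i : Fin n, (i : ℕ) := by
    apply le_antisymm
    · rw [← factorization_card_GL hF]
      exact (Nat.factorization_le_iff_dvd Nat.card_pos.ne' Nat.card_pos.ne').mpr h2 p
    · have h3 : p ^ ((f : ℕ) * ∑ i : Fin n, (i : ℕ)) ∣
          Nat.card (SpecialLinearGroup (Fin n) F) := by
        rw [← hcard]
        exact Subgroup.card_subgroup_dvd_card _
      exact (hp.pow_dvd_iff_le_factorization Nat.card_pos.ne').mp h3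
  exact ⟨Sylow.ofCard (UT n F) (by rw [hcard, hk]), rfl⟩

end Cfsg.Agent.Lib.Helper82_S5172_C2
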