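import Mathlib
import Cfsg.Prelude.Def_Classical
import Cfsg.Agent.Lib.Helper13_Herm
import Cfsg.Agent.Lib.Helper5_SUCenter
import Cfsg.Agent.Lib.Helper44_PSLnUT
import Cfsg.Agent.Lib.Helper88_PSLnFusDefs
import Cfsg.Agent.Lib.Helper88_PSUFusDefs
import Cfsg.Agent.Lib.Helper63_S5172_A1
import Cfsg.Agent.Lib.Helper26_S5172_A2

/-!
# S5172 package C4 (architect helper88): `UJ` has nonzero entries at every superdiagonal position
-/

set_option autoImplicit false
set_option linter.unusedVariables false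
set_option linter.unusedSimpArgs false

namespace Cfsg.Agent.Lib.Helper82_S5172_C4

open Matrix Cfsg.Agent.Lib.Helper44_PSLnUT Cfsg.Agent.Lib.Helper88_PSLnFus
  Cfsg.Agent.Lib.Helper88_PSUFus Cfsg.Agent.Lib.Helper13_Herm

variable {F : Type*} [Field F] [Fintype F] {q : ℕ}

/-- an element of trace `-1` -/
theorem exists_trace_neg_one (hF : Fintype.card F = q ^ 2) : ∃ b : F, b + b ^ q + 1 = 0 := by
  obtain ⟨b, hb⟩ : ∃ b : F, b + b ^ q ≠ 0 := by
    by_contra hcon
    push Not at hcon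
    obtain ⟨b, hb⟩ := Cfsg.Agent.Lib.Helper5_SUCenter.exists_pow_q_ne hF
    have h1 := hcon 1
    rw [one_pow] at h1
    have h2 := hcon b
    apply hb
    have h3 : b ^ q = -b := by linear_combination h2
    have h4 : (-1 : F) = 1 := by linear_combination -h1
    rw [h3, neg_eq_neg_one_mul, h4, one_mul]
  obtain ⟨s, hs⟩ : ∃ s, s = b + b ^ q := ⟨_, rfl⟩
  have hs0 : s ≠ 0 := by rw [hs]; exact hb
  have hsq : s ^ q = s := by
    rw [hs, add_pow_q hF, pow_q_pow_q hF, add_comm]
  refine ⟨-(b / s), ?_⟩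
  rw [neg_pow_q hF, div_pow, hsq]
  field_simp
  rw [hs]
  ring

omit [Fintype F] in
theorem xs_mem_UT {n : ℕ} {i j : Fin n} (hij : i ≠ j) (hlt : i < j) (a : F) :
    xs q hij a ∈ UT n F := by
  unfold xs
  refine (UT n F).mul_mem (transvection_mem_UT hlt a) (transvection_mem_UT ?_ _)
  exact Fin.rev_lt_rev.mpr hlt

omit [Fintype F] in
theorem ym_mem_UT {n : ℕ} {i m : Fin n} (him : i ≠ m) (hm : Fin.rev m = m) (hlt : i < m) (a b : F) :
    ym q him hm a b ∈ UT n F := by
  unfold ym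
  have h1 : m < Fin.rev i := by
    have := Fin.rev_lt_rev.mpr hlt
    rwa [hm] at this
  exact (UT n F).mul_mem ((UT n F).mul_mem (transvection_mem_UT hlt a)
    (transvection_mem_UT h1 _)) (transvection_mem_UT (hlt.trans h1) _)

/-- **C4**  `UJ` has nonzero entries at every superdiagonal position. -/
theorem C4 (hF : Fintype.card F = q ^ 2) (n : ℕ) (hn : 4 ≤ n) :
    ∀ j : Fin n, 0 < j.val → ∃ u ∈ UJ n F q, ∃ i : Fin n, i.val + 1 = j.val ∧ u.1 i j ≠ 0 := by
  intro j hj0
  obtain ⟨i, hi⟩ : ∃ i : Fin n, i.val + 1 = j.val := ⟨⟨j.val - 1, by omega⟩, by simp; omega⟩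
  have hlt : i < j := by rw [Fin.lt_def]; omega
  have hij : i ≠ j := ne_of_lt hlt
  by_cases hjm : Fin.rev j = j
  · -- `j` is the middle index
    obtain ⟨b, hb⟩ := exists_trace_neg_one hF
    have hab : b + b ^ q + (1 : F) ^ (q + 1) = 0 := by rw [one_pow]; exact hb
    refine ⟨ym q hij hjm 1 b, ⟨Cfsg.Agent.Lib.Helper26_S5172_A2.A2_mem hF hij hjm 1 b hab,
      ym_mem_UT hij hjm hlt 1 b⟩, i, hi, ?_⟩
    rw [Cfsg.Agent.Lib.Helper26_S5172_A2.A2_coe]
    have h1 : j ≠ Fin.rev i := ne_rev_of_mid hij hjm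
    simp [Matrix.single_apply, hij, hij.symm, h1, h1.symm]
  · by_cases him : Fin.rev i = i
    · -- `i` is the middle index
      obtain ⟨b, hb⟩ := exists_trace_neg_one hF
      have hab : b + b ^ q + (1 : F) ^ (q + 1) = 0 := by rw [one_pow]; exact hb
      have hrj : Fin.rev j < i := by
        have := Fin.rev_lt_rev.mpr hlt
        rwa [him] at this
      have hne : Fin.rev j ≠ i := ne_of_lt hrj
      refine ⟨ym q hne him 1 b, ⟨Cfsg.Agent.Lib.Helper26_S5172_A2.A2_mem hF hne him 1 b hab,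
        ym_mem_UT hne him hrj 1 b⟩, i, hi, ?_⟩
      rw [Cfsg.Agent.Lib.Helper26_S5172_A2.A2_coe]
      simp [Matrix.single_apply, hij, hij.symm, hne, hne.symm, Fin.rev_rev]
    · by_cases hji : j = Fin.rev i
      · -- the two middle indices, `n` even
        obtain ⟨c, hc0, hc⟩ := Cfsg.Agent.Lib.Helper5_SUCenter.exists_trace_zero hF
        have hi' : i ≠ Fin.rev i := fun e => him e.symm
        have hlt' : i < Fin.rev i := by rw [← hji]; exact hlt
        refine ⟨SpecialLinearGroup.transvection hi' c,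
          ⟨Cfsg.Agent.Lib.Helper63_S5172_A1.A1_long hF hi' c hc, transvection_mem_UT hlt' c⟩,
          i, hi, ?_⟩
        rw [SpecialLinearGroup.transvection_coe, hji]
        simp [Matrix.single_apply, hi', hc0]
      · have hi' : i ≠ Fin.rev i := fun e => him e.symm
        have hj' : j ≠ Fin.rev j := fun e => hjm e.symm
        refine ⟨xs q hij 1, ⟨Cfsg.Agent.Lib.Helper63_S5172_A1.A1_mem hF hij hi' hj' 1,
          xs_mem_UT hij hlt 1⟩, i, hi, ?_⟩
        rw [Cfsg.Agent.Lib.Helper63_S5172_A1.A1_coe hij hj']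
        have h1 : ¬ (Fin.rev j = i ∧ Fin.rev i = j) := fun h => hji h.2.symm
        simp [Matrix.single_apply, hij, h1]

end Cfsg.Agent.Lib.Helper82_S5172_C4
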