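import Mathlib
import Cfsg.Prelude.Def_Classical
import Cfsg.Agent.Lib.Helper44_PSLnUT
import Cfsg.Agent.Lib.Helper88_PSLnFusDefs

/-!
# S5172 package C1 (architect helper88, proof helper91)

The flag lemma: a subgroup `H ≤ UT` with a nonzero entry at every superdiagonal position determines
the standard flag, so that every `g` with `g⁻¹ H g ≤ UT` is upper triangular.
(Generalises helper69's `Helper69_S5163_NB_B`, the case `H = UT`.)
-/

set_option autoImplicit false

namespace Cfsg.Agent.Lib.Helper91_S5172_C1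

open Matrix Cfsg.Agent.Lib.Helper44_PSLnUT Cfsg.Agent.Lib.Helper88_PSLnFus

/-- the `k`-th member of the standard flag -/
def Vk {K : Type*} [Field K] {n : ℕ} (k : ℕ) (v : Fin n → K) : Prop :=
  ∀ i : Fin n, k ≤ i.val → v i = 0

/-- `u - 1` maps `V_{k+1}` into `V_k` for unitriangular `u` -/
theorem Vk_of_isUT {K : Type*} [Field K] {n : ℕ} {M : Matrix (Fin n) (Fin n) K} (hM : IsUT M)
    (k : ℕ) (w : Fin n → K) (hw : Vk (k + 1) w) : Vk k ((M - 1) *ᵥ w) := by
  intro i hi
  rw [Matrix.mulVec, dotProduct]
  apply Finset.sum_eq_zero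
  intro j _
  rcases lt_trichotomy j i with hji | hji | hji
  · rw [Matrix.sub_apply, hM.1 i j hji, Matrix.one_apply_ne (ne_of_gt hji), sub_zero, zero_mul]
  · rw [hji, Matrix.sub_apply, hM.2 i, Matrix.one_apply_eq, sub_self, zero_mul]
  · have : k + 1 ≤ j.val := by
      have : i.val < j.val := hji
      omega
    rw [hw j this, mul_zero]

/-- the entry of `(M - 1) w` just above the last nonzero coordinate `l` of `w` -/
theorem sub_one_mulVec_apply {K : Type*} [Field K] {n : ℕ} {M : Matrix (Fin n) (Fin n) K}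
    (hM : IsUT M) (w : Fin n → K) (i l : Fin n) (hil : i.val + 1 = l.val)
    (hw : ∀ j : Fin n, l.val < j.val → w j = 0) :
    ((M - 1) *ᵥ w) i = M i l * w l := by
  rw [Matrix.mulVec, dotProduct]
  rw [Finset.sum_eq_single l]
  · have hne : i ≠ l := by
      intro e
      rw [e] at hil
      omega
    rw [Matrix.sub_apply, Matrix.one_apply_ne hne, sub_zero]
  · intro j _ hjl
    rcases lt_trichotomy j.val i.val with hji | hji | hji
    · have hji' : j < i := hji
      rw [Matrix.sub_apply, hM.1 i j hji', Matrix.one_apply_ne (ne_of_gt hji'), sub_zero, zero_mul]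
    · have : j = i := Fin.ext hji
      rw [this, Matrix.sub_apply, hM.2 i, Matrix.one_apply_eq, sub_self, zero_mul]
    · have : l.val < j.val := by
        have : j.val ≠ l.val := fun e => hjl (Fin.ext e)
        omega
      rw [hw j this, mul_zero]
  · intro h
    exact absurd (Finset.mem_univ l) h

/-- a vector which every `u - 1`, `u ∈ H`, maps into `V_k` lies in `V_{k+1}` -/
theorem Vk_succ_of_forall {K : Type*} [Field K] {n : ℕ}
    (H : Subgroup (SpecialLinearGroup (Fin n) K)) (hH : H ≤ UT n K)
    (hsup : ∀ j : Fin n, 0 < j.val → ∃ u ∈ H, ∃ i : Fin n, i.val + 1 = j.val ∧ u.1 i j ≠ 0)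
    (k : ℕ) (w : Fin n → K) (h : ∀ u ∈ H, Vk k ((u.1 - 1) *ᵥ w)) : Vk (k + 1) w := by
  -- strong downward induction on the index: `w j = 0` for all `j ≥ k + 1`
  have key : ∀ d : ℕ, ∀ j : Fin n, k + 1 ≤ j.val → n ≤ j.val + d → w j = 0 := by
    intro d
    induction d with
    | zero =>
      intro j _ hj
      have := j.isLt
      omega
    | succ d ih =>
      intro l hl _
      have hw : ∀ j : Fin n, l.val < j.val → w j = 0 := by
        intro j hj
        apply ih j (by omega)
        have := j.isLt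
        omega
      obtain ⟨u, hu, i, hil, hne⟩ := hsup l (by omega)
      have h1 := h u hu i (by omega)
      rw [sub_one_mulVec_apply (mem_UT.mp (hH hu)) w i l hil hw] at h1
      rcases mul_eq_zero.mp h1 with h2 | h2
      · exact absurd h2 hne
      · exact h2
  intro j hj
  exact key n j hj (by omega)

/-- an element whose inverse conjugates `H` into `UT` preserves the flag -/
theorem flag_invariant {K : Type*} [Field K] {n : ℕ}
    (H : Subgroup (SpecialLinearGroup (Fin n) K)) (hH : H ≤ UT n K)
    (hsup : ∀ j : Fin n, 0 < j.val → ∃ u ∈ H, ∃ i : Fin n, i.val + 1 = j.val ∧ u.1 i j ≠ 0)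
    (g : SpecialLinearGroup (Fin n) K) (hg : ∀ u ∈ H, g⁻¹ * u * g ∈ UT n K) :
    ∀ k : ℕ, ∀ v : Fin n → K, Vk k v → Vk k (g.1 *ᵥ v) := by
  intro k
  induction k with
  | zero =>
    intro v hv
    have : v = 0 := by
      funext i
      exact hv i (Nat.zero_le _)
    rw [this, Matrix.mulVec_zero]
    intro i _
    rfl
  | succ k ih =>
    intro v hv
    apply Vk_succ_of_forall H hH hsup
    intro u hu
    have hu' := hg u hu
    have e : (u.1 - 1) * g.1 = g.1 * ((g⁻¹ * u * g).1 - 1) := by
      have h1 : g * (g⁻¹ * u * g) = u * g := by group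
      have h2 : g.1 * (g⁻¹ * u * g).1 = u.1 * g.1 := congrArg Subtype.val h1
      rw [Matrix.sub_mul, Matrix.mul_sub, h2, Matrix.one_mul, Matrix.mul_one]
    rw [Matrix.mulVec_mulVec, e, ← Matrix.mulVec_mulVec]
    exact ih _ (Vk_of_isUT (mem_UT.mp hu') k v hv)

/-- **C1**  (generalises S5163 NB_B) a subgroup `H ≤ UT` with nonzero entries at every
superdiagonal position determines the standard flag. -/
theorem C1 {K : Type*} [Field K] (n : ℕ) (H : Subgroup (SpecialLinearGroup (Fin n) K))
    (hH : H ≤ UT n K)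
    (hsup : ∀ j : Fin n, 0 < j.val → ∃ u ∈ H, ∃ i : Fin n, i.val + 1 = j.val ∧ u.1 i j ≠ 0)
    (g : SpecialLinearGroup (Fin n) K) (hg : ∀ u ∈ H, g⁻¹ * u * g ∈ UT n K) : IsUpper g := by
  intro i j hji
  have h1 : Vk (j.val + 1) (Pi.single j (1 : K) : Fin n → K) := by
    intro a ha
    have : a ≠ j := by
      intro haj
      rw [haj] at ha
      omega
    exact Pi.single_eq_of_ne this 1
  have h2 := flag_invariant H hH hsup g hg (j.val + 1) _ h1 i (by
    have : j.val < i.val := hji
    omega)
  rw [Matrix.mulVec_single_one] at h2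
  exact h2

end Cfsg.Agent.Lib.Helper91_S5172_C1
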