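import Mathlib
import Cfsg.Prelude.Def_Classical
import Cfsg.Agent.Lib.Helper44_PSLnUT
import Cfsg.Agent.Lib.Helper88_PSLnFusDefs
import Cfsg.Agent.Lib.Helper88_PSUFusDefs
import Cfsg.Agent.Lib.Helper91_S5172_C1
import Cfsg.Agent.Lib.Helper91_S5172_C3
import Cfsg.Agent.Lib.Helper82_S5172_C2
import Cfsg.Agent.Lib.Helper82_S5172_C4

/-!
# S5172 package C5 (architect helper88, proof helper69)

`UJ = GJ ⊓ UT` is a Sylow `p`-subgroup of `GJ`: a Sylow `p`-subgroup `P ≥ UJ` of `GJ` lies in a conjugate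
`g UT g⁻¹` of the Sylow subgroup `UT` of `SL_n(F)`; then `g⁻¹ UJ g ≤ UT` forces `g` upper triangular (C1, C4),
so `g UT g⁻¹ = UT` (C3) and `P ≤ GJ ⊓ UT = UJ`.
-/

set_option autoImplicit false

namespace Cfsg.Agent.Lib.Helper69_S5172_C5

open Matrix Cfsg.Agent.Lib.Helper44_PSLnUT Cfsg.Agent.Lib.Helper88_PSLnFus
  Cfsg.Agent.Lib.Helper88_PSUFus
open scoped Pointwise

variable {F : Type*} [Field F] [Fintype F] {q : ℕ}

/-- C5 from the statements of C1 (for `H = UJ`), C2, C3 -/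
theorem C5_of (p : ℕ) [Fact p.Prime] (n : ℕ)
    (hC1 : ∀ g : SpecialLinearGroup (Fin n) F,
      (∀ u ∈ UJ n F q, g⁻¹ * u * g ∈ UT n F) → IsUpper g)
    (hC2 : ∃ P : Sylow p (SpecialLinearGroup (Fin n) F),
      (P : Subgroup (SpecialLinearGroup (Fin n) F)) = UT n F)
    (hC3 : ∀ b : SpecialLinearGroup (Fin n) F, IsUpper b →
      ∀ u ∈ UT n F, b * u * b⁻¹ ∈ UT n F) :
    ∃ P : Sylow p ↥(GJ n F q),
      (P : Subgroup ↥(GJ n F q)) = (UJ n F q).subgroupOf (GJ n F q) := by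
  classical
  obtain ⟨P0, hP0⟩ := hC2
  have hUTp : IsPGroup p (UT n F) := by
    rw [← hP0]
    exact P0.isPGroup'
  have hUJle : UJ n F q ≤ UT n F := inf_le_right
  have hUJp : IsPGroup p ((UJ n F q).subgroupOf (GJ n F q)) :=
    (hUTp.to_le hUJle).comap_subtype
  obtain ⟨P, hP⟩ := hUJp.exists_le_sylow
  refine ⟨P, le_antisymm ?_ hP⟩
  -- the image of `P` in `SL_n`
  have hP'p : IsPGroup p ((P : Subgroup ↥(GJ n F q)).map (GJ n F q).subtype) :=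
    P.isPGroup'.map _
  obtain ⟨R, hR⟩ := hP'p.exists_le_sylow
  obtain ⟨g, hg⟩ := MulAction.exists_smul_eq (SpecialLinearGroup (Fin n) F) R P0
  have hconj : ∀ x ∈ (P : Subgroup ↥(GJ n F q)).map (GJ n F q).subtype,
      g * x * g⁻¹ ∈ UT n F := by
    intro x hx
    have h1 : (MulAut.conj g) • x ∈ (MulAut.conj g) • (R : Subgroup (SpecialLinearGroup (Fin n) F)) :=
      Subgroup.smul_mem_pointwise_smul x _ _ (hR hx)
    rw [← hP0, ← hg]
    exact h1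
  have hUJP : ∀ u ∈ UJ n F q, u ∈ (P : Subgroup ↥(GJ n F q)).map (GJ n F q).subtype := by
    intro u hu
    have huG : u ∈ GJ n F q := (mem_UJ.mp hu).1
    exact Subgroup.mem_map.mpr ⟨⟨u, huG⟩, hP (Subgroup.mem_subgroupOf.mpr hu), rfl⟩
  have hup : IsUpper g⁻¹ := by
    apply hC1
    intro u hu
    rw [inv_inv]
    exact hconj u (hUJP u hu)
  intro x hx
  rw [Subgroup.mem_subgroupOf, mem_UJ]
  refine ⟨x.2, ?_⟩
  have hx' : (x : SpecialLinearGroup (Fin n) F) ∈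
      (P : Subgroup ↥(GJ n F q)).map (GJ n F q).subtype :=
    Subgroup.mem_map.mpr ⟨x, hx, rfl⟩
  have h1 := hC3 g⁻¹ hup _ (hconj _ hx')
  rw [inv_inv] at h1
  have h2 : g⁻¹ * (g * (x : SpecialLinearGroup (Fin n) F) * g⁻¹) * g = x := by group
  rwa [h2] at h1

/-- **C5**  `UJ` is a Sylow `p`-subgroup of `GJ` (uses C1 - C4 and Sylow's theorem in `SL_n(F)`). -/
theorem C5 (hF : Fintype.card F = q ^ 2) (p : ℕ) [Fact p.Prime] [CharP F p] (n : ℕ) (hn : 4 ≤ n) :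
    ∃ P : Sylow p ↥(GJ n F q),
      (P : Subgroup ↥(GJ n F q)) = (UJ n F q).subgroupOf (GJ n F q) :=
  C5_of p n
    (fun g hg => Cfsg.Agent.Lib.Helper91_S5172_C1.C1 n (UJ n F q) inf_le_right
      (Cfsg.Agent.Lib.Helper82_S5172_C4.C4 hF n hn) g hg)
    (Cfsg.Agent.Lib.Helper82_S5172_C2.C2 p n)
    (fun b hb => Cfsg.Agent.Lib.Helper91_S5172_C3.C3 n b hb)

end Cfsg.Agent.Lib.Helper69_S5172_C5
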