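import Mathlib
import Cfsg.Agent.Lib.Helper76_S5320Defs
import Cfsg.Agent.Lib.Helper76_S5320Bas
import Cfsg.Agent.Lib.Helper88_FusFam

/-!
# S5320 package DESCENT (architect helper76, proof helper69)

The hypotheses of `FusLocalFam` read modulo a normal subgroup `N ≤ S` descend to `G ⧸ N`
(correspondence theorem; adapted from helper88's `fusLocalFam_quotient`).
-/

set_option autoImplicit false

open Matrix Cfsg.Agent.Lib.Helper42_SL2Class Cfsg.Agent.Lib.Helper76_S5320Defs
  Cfsg.Agent.Lib.Helper76_S5320Bas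

namespace Cfsg.Agent.Lib.Helper69_S5320_DESCENT

theorem descent {G : Type*} [Group G] {ι : Type*} (N : Subgroup G) [N.Normal] (S : Subgroup G)
    (Q : ι → Subgroup G) (h : FusLocalFamMod N S Q) :
    Cfsg.Agent.Lib.Helper88_FusFam.FusLocalFam (S.map (QuotientGroup.mk' N))
      (fun i => (Q i).map (QuotientGroup.mk' N)) := by
  obtain ⟨hNS, hne, hsc, hQ, hnorm, hcen, hgen⟩ := h
  obtain ⟨π, hπ⟩ : ∃ π : G →* G ⧸ N, π = QuotientGroup.mk' N := ⟨_, rfl⟩
  rw [← hπ]
  have hπs : Function.Surjective π := by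
    rw [hπ]
    exact QuotientGroup.mk'_surjective N
  have hker : ∀ x : G, π x = 1 ↔ x ∈ N := by
    intro x
    rw [hπ]
    exact QuotientGroup.eq_one_iff x
  -- `S` and `Q i` are full preimages
  have hfull : ∀ K : Subgroup G, N ≤ K → ∀ x : G, π x ∈ K.map π → x ∈ K := by
    intro K hNK x hx
    obtain ⟨k, hk, e⟩ := hx
    have hz : k⁻¹ * x ∈ N := by
      rw [← hker, map_mul, map_inv, e, inv_mul_cancel]
    have e2 : x = k * (k⁻¹ * x) := by group
    rw [e2]
    exact K.mul_mem hk (hNK hz)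
  have hliftN : ∀ n : G, (∀ s' ∈ S.map π, π n * s' * (π n)⁻¹ ∈ S.map π) →
      ∀ s ∈ S, n * s * n⁻¹ ∈ S := by
    intro n hn s hs
    apply hfull S hNS
    rw [map_mul, map_mul, map_inv]
    exact hn (π s) (Subgroup.mem_map_of_mem π hs)
  refine ⟨?_, ?_, ?_, ?_, ?_, ?_⟩
  · -- nontrivial
    intro hb
    obtain ⟨s, hs, hsN⟩ := hne
    have h7 : π s ∈ S.map π := Subgroup.mem_map_of_mem π hs
    rw [hb, Subgroup.mem_bot, hker] at h7
    exact hsN h7
  · -- strongly closed
    intro T hT hT0 hcl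
    have key : S ⊓ T.comap π = S := by
      apply hsc
      · intro n hn
        refine ⟨hNS hn, ?_⟩
        show π n ∈ T
        rw [(hker n).mpr hn]
        exact T.one_mem
      · exact inf_le_left
      · intro hb
        apply hT0
        rw [eq_bot_iff]
        intro y hy
        obtain ⟨s, hs, rfl⟩ := hT hy
        have h7 : s ∈ S ⊓ T.comap π := ⟨hs, hy⟩
        rw [hb] at h7
        rw [Subgroup.mem_bot, hker]
        exact h7
      · rintro t ⟨htS, htT⟩ g hg
        refine ⟨hg, ?_⟩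
        have htT' : π t ∈ T := htT
        show π (g * t * g⁻¹) ∈ T
        have h7 := hcl (π t) htT' (π g) (by
          rw [← map_inv, ← map_mul, ← map_mul]
          exact Subgroup.mem_map_of_mem π hg)
        rw [← map_inv, ← map_mul, ← map_mul] at h7
        exact h7
    apply le_antisymm hT
    rintro _ ⟨s, hs, rfl⟩
    have h7 : s ∈ S ⊓ T.comap π := by
      rw [key]
      exact hs
    exact h7.2
  · intro i
    exact Subgroup.map_mono (hQ i).2
  · -- normaliser
    intro i n hn q hq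
    obtain ⟨n, rfl⟩ := hπs n
    obtain ⟨q, hq, rfl⟩ := hq
    have h7 := hnorm i n (hliftN n hn) q hq
    rw [← map_inv, ← map_mul, ← map_mul]
    exact Subgroup.mem_map_of_mem π h7
  · -- centraliser
    intro i c hc
    obtain ⟨c, rfl⟩ := hπs c
    apply Subgroup.mem_map_of_mem π
    apply hcen i c
    intro q hq
    rw [← hker, map_mul, map_mul, map_mul, map_inv, map_inv,
      hc (π q) (Subgroup.mem_map_of_mem π hq)]
    group
  · -- generation
    intro n hn
    obtain ⟨n, rfl⟩ := hπs n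
    have h7 := hgen n (hliftN n hn)
    have hin : ∀ i, Subgroup.closure {y : G | ∃ m : G, (∀ q ∈ Q i, m * q * m⁻¹ ∈ Q i) ∧
        ∃ s ∈ S, y = m * s * m⁻¹} ≤
        (Subgroup.closure {y : G ⧸ N | ∃ m : G ⧸ N, (∀ q ∈ (Q i).map π,
          m * q * m⁻¹ ∈ (Q i).map π) ∧
          ∃ s ∈ S.map π, y = m * s * m⁻¹}).comap π := by
      intro i
      rw [Subgroup.closure_le]
      rintro x ⟨m, hm, s, hs, rfl⟩
      rw [SetLike.mem_coe, Subgroup.mem_comap]
      apply Subgroup.subset_closure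
      refine ⟨π m, ?_, π s, Subgroup.mem_map_of_mem π hs, ?_⟩
      · rintro _ ⟨q, hq, rfl⟩
        rw [← map_inv, ← map_mul, ← map_mul]
        exact Subgroup.mem_map_of_mem π (hm q hq)
      · rw [map_mul, map_mul, map_inv]
    have hle : Subgroup.closure {x : G | (∀ s ∈ S, x * s * x⁻¹ ∈ S) ∧
        ∃ i, x ∈ Subgroup.closure {y : G | ∃ m : G, (∀ q ∈ Q i, m * q * m⁻¹ ∈ Q i) ∧
          ∃ s ∈ S, y = m * s * m⁻¹}} ≤
        (Subgroup.closure {x : G ⧸ N | (∀ s ∈ S.map π, x * s * x⁻¹ ∈ S.map π) ∧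
          ∃ i, x ∈ Subgroup.closure {y : G ⧸ N | ∃ m : G ⧸ N, (∀ q ∈ (Q i).map π,
            m * q * m⁻¹ ∈ (Q i).map π) ∧
            ∃ s ∈ S.map π, y = m * s * m⁻¹}}).comap π := by
      rw [Subgroup.closure_le]
      rintro x ⟨hxS, i, hxi⟩
      rw [SetLike.mem_coe, Subgroup.mem_comap]
      apply Subgroup.subset_closure
      refine ⟨?_, i, ?_⟩
      · rintro _ ⟨s, hs, rfl⟩
        rw [← map_inv, ← map_mul, ← map_mul]
        exact Subgroup.mem_map_of_mem π (hxS s hs)
      · have h8 := hin i hxi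
        rwa [Subgroup.mem_comap] at h8
    have h8 := hle h7
    rwa [Subgroup.mem_comap] at h8

end Cfsg.Agent.Lib.Helper69_S5320_DESCENT
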