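import Mathlib
import Cfsg.Agent.Lib.Helper32_PGroup

/-!
# S5320 package ZMEET (architect helper76, proof helper69)

A normal subgroup of a finite `p`-group meets the centre, read modulo a normal subgroup `N`:
apply `Helper32_PGroup.exists_mem_center_of_normal` in the quotient `S ⧸ N`.
-/

set_option autoImplicit false

namespace Cfsg.Agent.Lib.Helper69_S5320_ZMEET

theorem zmeet {G : Type*} [Group G] (p : ℕ) [Fact p.Prime] (N T S : Subgroup G) [Finite S]
    (hS : IsPGroup p S) (hNT : N ≤ T) (hTS : T ≤ S) (hne : T ≠ N)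
    (hN : ∀ s ∈ S, ∀ n ∈ N, s * n * s⁻¹ ∈ N) (hT : ∀ s ∈ S, ∀ t ∈ T, s * t * s⁻¹ ∈ T) :
    ∃ t ∈ T, t ∉ N ∧ ∀ s ∈ S, s * t * s⁻¹ * t⁻¹ ∈ N := by
  haveI hN' : (N.subgroupOf S).Normal := by
    constructor
    intro n hn g
    rw [Subgroup.mem_subgroupOf] at hn ⊢
    exact hN g.1 g.2 n.1 hn
  haveI hT' : (T.subgroupOf S).Normal := by
    constructor
    intro n hn g
    rw [Subgroup.mem_subgroupOf] at hn ⊢
    exact hT g.1 g.2 n.1 hn
  obtain ⟨π, hπ⟩ : ∃ π : S →* S ⧸ N.subgroupOf S, π = QuotientGroup.mk' (N.subgroupOf S) :=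
    ⟨_, rfl⟩
  have hπs : Function.Surjective π := by
    rw [hπ]
    exact QuotientGroup.mk'_surjective _
  have hker : ∀ x : S, π x = 1 ↔ (x : G) ∈ N := by
    intro x
    rw [hπ]
    exact (QuotientGroup.eq_one_iff x).trans Subgroup.mem_subgroupOf
  haveI : ((T.subgroupOf S).map π).Normal := Subgroup.Normal.map hT' π hπs
  have hP : IsPGroup p (S ⧸ N.subgroupOf S) := hS.to_quotient _
  have hne' : (T.subgroupOf S).map π ≠ ⊥ := by
    intro hb
    apply hne
    apply le_antisymm _ hNT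
    intro t ht
    have h1 : π ⟨t, hTS ht⟩ ∈ (T.subgroupOf S).map π :=
      Subgroup.mem_map_of_mem π (Subgroup.mem_subgroupOf.mpr ht)
    rw [hb, Subgroup.mem_bot, hker] at h1
    exact h1
  obtain ⟨z, hzT, hzc, hz1⟩ :=
    Cfsg.Agent.Lib.Helper32_PGroup.exists_mem_center_of_normal hP _ hne'
  obtain ⟨t, ht, rfl⟩ := hzT
  refine ⟨t.1, Subgroup.mem_subgroupOf.mp ht, ?_, ?_⟩
  · intro htN
    exact hz1 ((hker t).mpr htN)
  · intro s hs
    have h1 : π (⟨s, hs⟩ * t * ⟨s, hs⟩⁻¹ * t⁻¹) = 1 := by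
      rw [map_mul, map_mul, map_mul, map_inv, map_inv,
        Subgroup.mem_center_iff.mp hzc (π ⟨s, hs⟩)]
      group
    rw [hker] at h1
    exact h1

end Cfsg.Agent.Lib.Helper69_S5320_ZMEET
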