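import Mathlib
import Cfsg.Prelude.Def_Local
import Cfsg.Prelude.Def_SolvableStructure
import Cfsg.Agent.Lib.Helper33_SchmidtDefs
import Cfsg.Agent.Lib.Helper32_Nilpotent
import Cfsg.Agent.S0536
import Cfsg.Agent.S0577

/-!
# Package PB of helper33's S4394 plan

The normal Sylow `p`-subgroup `P ≠ 1` of a minimal non-nilpotent group carries Schmidt data:
conjugation by a generator `y` of a (cyclic) Sylow complement.
-/

set_option autoImplicit false

namespace Cfsg.Agent.Lib.Helper69_Schmidt_PB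

open Cfsg.Agent.Lib.Helper33_SchmidtDefs
open scoped Pointwise

section aux

variable {X : Type*} [Group X]

/-- elements of coprime orders in a nilpotent subgroup commute -/
theorem commute_of_mem_nilpotent (K : Subgroup X) (hK : Group.IsNilpotent K) {a b : X}
    (ha : a ∈ K) (hb : b ∈ K) (m n : ℕ) (ham : a ^ m = 1) (hbn : b ^ n = 1)
    (hmn : m.Coprime n) : a * b = b * a := by
  have := hK
  have hc : Commute (⟨a, ha⟩ : K) ⟨b, hb⟩ := by
    apply Cfsg.Agent.Lib.Helper32_Nilpotent.commute_of_coprime_pow_eq_one K _ _ m n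
    · apply Subtype.ext
      simpa using ham
    · apply Subtype.ext
      simpa using hbn
    · exact hmn
  exact congrArg Subtype.val hc.eq

end aux

/-- PACKAGE PB (the normal Sylow subgroup of a Schmidt group is of Schmidt type). -/
theorem PB {X : Type*} [Group X] [Finite X] (p : ℕ) [Fact p.Prime]
    (hX : Cfsg.IsMinimalNonNilpotent X) (P : Sylow p X) (hPn : (P : Subgroup X).Normal)
    (hP1 : (P : Subgroup X) ≠ ⊥) : SchmidtType p ↥(P : Subgroup X) := by
  obtain ⟨p₀, q₀, hp₀, hq₀, hne, P₀, Q₀, hcyc, hQ₀n, hsup⟩ := Cfsg.Agent.S0536.result hX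
  have hpp : p.Prime := Fact.out
  have : Fact p₀.Prime := ⟨hp₀⟩
  have : Fact q₀.Prime := ⟨hq₀⟩
  have hP₀comm : ∀ a ∈ (P₀ : Subgroup X), ∀ a' ∈ (P₀ : Subgroup X), a * a' = a' * a := by
    intro a ha a' ha'
    have hc : IsMulCommutative ↥(P₀ : Subgroup X) := IsCyclic.isMulCommutative
    have := hc.is_comm.comm (⟨a, ha⟩ : ↥(P₀ : Subgroup X)) ⟨a', ha'⟩
    exact congrArg Subtype.val this
  have hpX : p ∣ Nat.card X := by
    obtain ⟨n, hn⟩ := (IsPGroup.iff_card (p := p)).mp P.2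
    have hn0 : n ≠ 0 := by
      rintro rfl
      rw [pow_zero, Subgroup.card_eq_one] at hn
      exact hP1 hn
    have h1 : p ∣ Nat.card (P : Subgroup X) := by
      rw [hn]
      exact dvd_pow_self p hn0
    exact h1.trans (Subgroup.card_subgroup_dvd_card (P : Subgroup X))
  -- `p = q₀`
  have hpq : p = q₀ := by
    by_contra hqq
    have hdisj : Disjoint (P₀ : Subgroup X) (Q₀ : Subgroup X) :=
      IsPGroup.disjoint_of_ne p₀ q₀ hne _ _ P₀.2 Q₀.2
    have hmul : ((P₀ : Subgroup X) : Set X) * ((Q₀ : Subgroup X) : Set X) = Set.univ := by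
      rw [← Subgroup.mul_normal, hsup, Subgroup.coe_top]
    have hcompl : Subgroup.IsComplement' (P₀ : Subgroup X) (Q₀ : Subgroup X) :=
      Subgroup.isComplement'_of_disjoint_and_mul_eq_univ hdisj hmul
    obtain ⟨a, ha⟩ := (IsPGroup.iff_card (p := p₀)).mp P₀.2
    obtain ⟨b, hb⟩ := (IsPGroup.iff_card (p := q₀)).mp Q₀.2
    have hcard : Nat.card X = p₀ ^ a * q₀ ^ b := by rw [← hcompl.card_mul_card, ha, hb]
    have hqp₀ : p = p₀ := by
      rw [hcard] at hpX
      rcases (Nat.Prime.dvd_mul hpp).mp hpX with h | h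
      · exact (Nat.prime_dvd_prime_iff_eq hpp hp₀).mp (hpp.dvd_of_dvd_pow h)
      · exact absurd ((Nat.prime_dvd_prime_iff_eq hpp hq₀).mp (hpp.dvd_of_dvd_pow h)) hqq
    subst hqp₀
    have hPQ : P₀ = P := Cfsg.Agent.S0577.sylow_eq_of_normal P P₀ hPn
    have hP₀n : (P₀ : Subgroup X).Normal := hPQ ▸ hPn
    apply hX.1
    apply Cfsg.Agent.S0577.isNilpotent_of_commute (q := q₀) (P₀ : Subgroup X) (Q₀ : Subgroup X)
      hP₀comm Q₀.2 hsup
    intro x hx y hy
    exact (Subgroup.commute_of_normal_of_disjoint _ _ hP₀n hQ₀n hdisj x y hx hy).eq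
  subst hpq
  have hQP : Q₀ = P := Cfsg.Agent.S0577.sylow_eq_of_normal P Q₀ hPn
  subst hQP
  clear hQ₀n
  have hdisj : Disjoint (P₀ : Subgroup X) (Q₀ : Subgroup X) :=
    IsPGroup.disjoint_of_ne p₀ p hne _ _ P₀.2 Q₀.2
  have hinter : ∀ x : X, x ∈ (P₀ : Subgroup X) → x ∈ (Q₀ : Subgroup X) → x = 1 :=
    fun x h1 h2 => Subgroup.disjoint_def.mp hdisj h1 h2
  -- a generator of `P₀`
  obtain ⟨⟨y, hyP₀⟩, hgen⟩ := hcyc.exists_generator
  have hzp : ∀ x ∈ (P₀ : Subgroup X), x ∈ Subgroup.zpowers y := by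
    intro x hx
    obtain ⟨k, hk⟩ := Subgroup.mem_zpowers_iff.mp (hgen ⟨x, hx⟩)
    refine Subgroup.mem_zpowers_iff.mpr ⟨k, ?_⟩
    have := congrArg Subtype.val hk
    simpa using this
  have hzp' : Subgroup.zpowers y ≤ (P₀ : Subgroup X) := Subgroup.zpowers_le.mpr hyP₀
  -- orders
  obtain ⟨a, hya⟩ : ∃ a : ℕ, y ^ p₀ ^ a = 1 := by
    obtain ⟨k, hk⟩ := P₀.2 ⟨y, hyP₀⟩
    refine ⟨k, ?_⟩
    have := congrArg Subtype.val hk
    simpa using this
  have hQpow : ∀ u ∈ (Q₀ : Subgroup X), ∃ b : ℕ, u ^ p ^ b = 1 := by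
    intro u hu
    obtain ⟨k, hk⟩ := Q₀.2 ⟨u, hu⟩
    refine ⟨k, ?_⟩
    have := congrArg Subtype.val hk
    simpa using this
  have hcop : ∀ a b : ℕ, (p₀ ^ a).Coprime (p ^ b) := fun a b =>
    Nat.Coprime.pow a b ((Nat.coprime_primes hp₀ hpp).mpr hne)
  -- `y ≠ 1`
  have hy1 : y ≠ 1 := by
    rintro rfl
    apply hX.1
    have hP₀bot : (P₀ : Subgroup X) = ⊥ := by
      rw [eq_bot_iff]
      intro x hx
      have := hzp x hx
      rw [Subgroup.zpowers_one_eq_bot] at this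
      exact this
    rw [hP₀bot, bot_sup_eq] at hsup
    have hpg : IsPGroup p X := by
      intro x
      obtain ⟨k, hk⟩ := hQpow x (hsup ▸ Subgroup.mem_top x)
      exact ⟨k, hk⟩
    exact hpg.isNilpotent
  have hp₀y : p₀ ∣ orderOf y := by
    obtain ⟨j, -, hj⟩ := (Nat.dvd_prime_pow hp₀).mp (orderOf_dvd_of_pow_eq_one hya)
    have hj0 : j ≠ 0 := by
      rintro rfl
      rw [pow_zero, orderOf_eq_one_iff] at hj
      exact hy1 hj
    rw [hj]
    exact dvd_pow_self p₀ hj0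
  have := hPn
  refine ⟨MulAut.conjNormal y, p₀, hp₀, hne, ?_, ?_, ?_⟩
  · -- `α ^ p₀ = 1`
    rw [← map_pow]
    ext u
    rw [MulAut.conjNormal_apply, MulAut.one_apply]
    have hK : Subgroup.zpowers (y ^ p₀) ⊔ (Q₀ : Subgroup X) ≠ ⊤ := by
      intro htop
      have hy : y ∈ Subgroup.zpowers (y ^ p₀) ⊔ (Q₀ : Subgroup X) := htop ▸ Subgroup.mem_top y
      obtain ⟨w, hw, u, hu, hwu⟩ := Subgroup.mem_sup_of_normal_right.mp hy
      have hwP₀ : w ∈ (P₀ : Subgroup X) :=
        hzp' (Subgroup.zpowers_le.mpr (Subgroup.pow_mem _ (Subgroup.mem_zpowers y) p₀) hw)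
      have hu1 : u = 1 := by
        apply hinter u _ hu
        have : u = w⁻¹ * y := by rw [← hwu]; group
        rw [this]
        exact Subgroup.mul_mem _ (Subgroup.inv_mem _ hwP₀) hyP₀
      rw [hu1, mul_one] at hwu
      rw [hwu] at hw
      have h1 : orderOf y ∣ orderOf (y ^ p₀) := orderOf_dvd_of_mem_zpowers hw
      rw [orderOf_pow_of_dvd hp₀.ne_zero hp₀y] at h1
      have h2 := Nat.le_of_dvd (Nat.div_pos (Nat.le_of_dvd (orderOf_pos y) hp₀y) hp₀.pos) h1
      have h3 := Nat.div_lt_self (orderOf_pos y) hp₀.one_lt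
      omega
    have hnil := hX.2 _ hK
    obtain ⟨b, hub⟩ := hQpow u u.2
    have hya' : (y ^ p₀) ^ p₀ ^ a = 1 := by
      rw [← pow_mul, mul_comm, pow_mul, hya, one_pow]
    have hcomm := commute_of_mem_nilpotent _ hnil
      ((le_sup_left : Subgroup.zpowers (y ^ p₀) ≤ _) (Subgroup.mem_zpowers _))
      ((le_sup_right : (Q₀ : Subgroup X) ≤ _) u.2) (p₀ ^ a) (p ^ b) hya' hub (hcop a b)
    rw [hcomm]
    group
  · -- `α ≠ 1`
    intro hα
    apply hX.1
    apply Cfsg.Agent.S0577.isNilpotent_of_commute (q := p) (P₀ : Subgroup X) (Q₀ : Subgroup X)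
      hP₀comm Q₀.2 hsup
    have hyc : ∀ u ∈ (Q₀ : Subgroup X), y * u = u * y := by
      intro u hu
      have h1 := congrArg (fun f : MulAut ↥(Q₀ : Subgroup X) => ((f ⟨u, hu⟩ : ↥(Q₀ : Subgroup X)) : X)) hα
      simp only [MulAut.conjNormal_apply, MulAut.one_apply] at h1
      calc y * u = y * u * y⁻¹ * y := by group
        _ = u * y := by rw [h1]
    intro x hx u hu
    obtain ⟨k, rfl⟩ := Subgroup.mem_zpowers_iff.mp (hzp x hx)
    exact ((Commute.zpow_left (hyc u hu) k)).eq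
  · -- invariant proper subgroups are fixed pointwise
    intro H hH hHtop h hh
    apply Subtype.ext
    rw [MulAut.conjNormal_apply]
    set H' : Subgroup X := H.map (Q₀ : Subgroup X).subtype with hH'
    have hmem : ∀ x : ↥(Q₀ : Subgroup X), x ∈ H → (x : X) ∈ H' := fun x hx =>
      Subgroup.mem_map.mpr ⟨x, hx, rfl⟩
    have hH'Q : H' ≤ (Q₀ : Subgroup X) := by
      intro x hx
      obtain ⟨x', -, rfl⟩ := Subgroup.mem_map.mp hx
      exact x'.2
    have hnorm : Subgroup.zpowers y ≤ Subgroup.normalizer (H' : Set X) := by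
      rw [Subgroup.zpowers_le]
      apply Subgroup.mem_normalizer_fintype
      intro n hn
      obtain ⟨x', hx', rfl⟩ := Subgroup.mem_map.mp hn
      have h1 := hmem _ (hH x' hx')
      rwa [MulAut.conjNormal_apply] at h1
    have hK : Subgroup.zpowers y ⊔ H' ≠ ⊤ := by
      intro htop
      apply hHtop
      rw [eq_top_iff]
      intro x _
      have hx : (x : X) ∈ Subgroup.zpowers y ⊔ H' := htop ▸ Subgroup.mem_top _
      have hx' : (x : X) ∈ ((Subgroup.zpowers y ⊔ H' : Subgroup X) : Set X) := hx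
      rw [Subgroup.coe_mul_of_left_le_normalizer_right _ _ hnorm] at hx'
      obtain ⟨w, hw, u, hu, hwu⟩ := Set.mem_mul.mp hx'
      have hw1 : w = 1 := by
        apply hinter w (hzp' hw)
        have : w = (x : X) * u⁻¹ := by rw [← hwu]; group
        rw [this]
        exact Subgroup.mul_mem _ x.2 (Subgroup.inv_mem _ (hH'Q hu))
      rw [hw1, one_mul] at hwu
      obtain ⟨x', hx'H, hx'e⟩ := Subgroup.mem_map.mp hu
      have : x' = x := Subtype.ext (hx'e.trans hwu)
      rw [← this]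
      exact hx'H
    have hnil := hX.2 _ hK
    obtain ⟨b, hub⟩ := hQpow h h.2
    have hcomm := commute_of_mem_nilpotent _ hnil
      ((le_sup_left : Subgroup.zpowers y ≤ _) (Subgroup.mem_zpowers _))
      ((le_sup_right : H' ≤ _) (hmem h hh)) (p₀ ^ a) (p ^ b) hya hub (hcop a b)
    rw [hcomm]
    group

end Cfsg.Agent.Lib.Helper69_Schmidt_PB
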