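import Mathlib
import Cfsg.Agent.Lib.Helper21_TICDefs
import Cfsg.Agent.Lib.Helper31_TIC_A
import Cfsg.Agent.Lib.Helper51_TIC_LOC1b
import Cfsg.Agent.Lib.Helper32_Nilpotent
import Cfsg.Agent.Lib.Helper25_CN

/-!
# S4064 package LOC1 (helper69, for helper21): the first layer of local data at the prime 2.
-/

set_option autoImplicit false

namespace Cfsg.Agent.Lib.Helper69_TIC_LOC1

open Cfsg Cfsg.Agent.Lib.Helper21_TICDefs

open scoped Pointwise

variable {G : Type*} [Group G]

/-- in a finite nilpotent group the `p`-elements lie in any given Sylow `p`-subgroup -/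
theorem mem_sylow_of_nilpotent {K : Type*} [Group K] [Finite K] [Group.IsNilpotent K] {p : ℕ}
    [Fact p.Prime] (S : Sylow p K) {a : K} {k : ℕ} (ha : a ^ p ^ k = 1) : a ∈ S := by
  have hz : IsPGroup p (Subgroup.zpowers a) := by
    rintro ⟨y, hy⟩
    obtain ⟨i, rfl⟩ := Subgroup.mem_zpowers_iff.mp hy
    refine ⟨k, ?_⟩
    apply Subtype.ext
    change (a ^ i) ^ p ^ k = 1
    rw [← zpow_natCast, ← zpow_mul, mul_comm, zpow_mul, zpow_natCast, ha, one_zpow]
  obtain ⟨S', hS'⟩ := hz.exists_le_sylow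
  obtain ⟨g, hg⟩ := MulAction.exists_smul_eq K S S'
  have : S' = S := by rw [← hg, Sylow.smul_eq_of_normal]
  rw [← this]
  exact hS' (Subgroup.mem_zpowers a)

/-- The key step `cent_le`: the centralizer of a nonidentity element of `A = C(z)` lies in `A`. -/
theorem cent_le_of_TIC [Finite G] (h : TIC G) (S : Sylow 2 G) (z : G) (hz2 : orderOf z = 2)
    (hzS : z ∈ S)
    (S_le : (S : Subgroup G) ≤ Subgroup.centralizer ({z} : Set G))
    (ti : ∀ g : G, g ∉ Subgroup.normalizer ((Subgroup.centralizer ({z} : Set G) : Subgroup G) : Set G) →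
      ∀ a ∈ Subgroup.centralizer ({z} : Set G), g * a * g⁻¹ ∈ Subgroup.centralizer ({z} : Set G) →
        a = 1)
    (a : G) (ha : a ∈ Subgroup.centralizer ({z} : Set G)) (ha1 : a ≠ 1) :
    Subgroup.centralizer ({a} : Set G) ≤ Subgroup.centralizer ({z} : Set G) := by
  classical
  have hfact : Fact (Nat.Prime 2) := ⟨Nat.prime_two⟩
  intro y hy
  obtain ⟨A, hA⟩ : ∃ A : Subgroup G, A = Subgroup.centralizer ({z} : Set G) := ⟨_, rfl⟩
  rw [← hA] at S_le ti ha ⊢
  obtain ⟨T, hT⟩ : ∃ T : Subgroup G, T = Subgroup.centralizer ({a} : Set G) := ⟨_, rfl⟩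
  rw [← hT] at hy
  haveI hTnil : Group.IsNilpotent T := by
    rw [hT]
    exact Cfsg.Agent.Lib.Helper31_TIC_A.TIC_isCN h a ha1
  have hz1 : z ≠ 1 := by
    intro h1
    rw [h1, orderOf_one] at hz2
    omega
  have hzz : z ^ 2 = 1 := by rw [← hz2]; exact pow_orderOf_eq_one z
  have hzA : z ∈ A := by
    rw [hA, Subgroup.mem_centralizer_singleton_iff]
  have hzT : z ∈ T := by
    rw [hT, Subgroup.mem_centralizer_singleton_iff]
    rw [hA, Subgroup.mem_centralizer_singleton_iff] at ha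
    exact ha.symm
  -- decomposition of `y`
  have hyo : 0 < orderOf y := orderOf_pos y
  obtain ⟨k, m, hm, hkm⟩ := Nat.exists_eq_two_pow_mul_odd hyo.ne'
  have hcop : (2 ^ k).Coprime m := by
    apply Nat.Coprime.pow_left
    rw [Nat.coprime_two_left]
    exact hm
  have hyy : y ^ (2 ^ k * m) = 1 := by rw [← hkm]; exact pow_orderOf_eq_one y
  obtain ⟨i, j, hyij, hi, hj, -, -⟩ :=
    Cfsg.Agent.Lib.Helper25_CN.coprime_decomp y (2 ^ k) m hcop hyy
  have hyiT : y ^ i ∈ T := Subgroup.zpow_mem T hy i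
  have hyjT : y ^ j ∈ T := Subgroup.zpow_mem T hy j
  -- the odd part commutes with `z`
  have hodd : y ^ j ∈ A := by
    have hc : Commute (⟨z, hzT⟩ : T) ⟨y ^ j, hyjT⟩ :=
      Cfsg.Agent.Lib.Helper32_Nilpotent.commute_of_coprime_pow_eq_one T _ _ 2 m
        (Subtype.ext hzz) (Subtype.ext hj)
        (by rw [Nat.coprime_two_left]; exact hm)
    have hc' : z * y ^ j = y ^ j * z := congrArg Subtype.val hc.eq
    rw [hA, Subgroup.mem_centralizer_singleton_iff]
    exact hc'.symm
  -- the 2-part lies in a 2-subgroup together with `z`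
  have htwo : y ^ i ∈ A := by
    obtain ⟨P₂⟩ : Nonempty (Sylow 2 T) := inferInstance
    have hzP : (⟨z, hzT⟩ : T) ∈ P₂ :=
      mem_sylow_of_nilpotent P₂ (k := 1) (by rw [pow_one]; exact Subtype.ext hzz)
    have hyP : (⟨y ^ i, hyiT⟩ : T) ∈ P₂ :=
      mem_sylow_of_nilpotent P₂ (k := k) (Subtype.ext hi)
    have hQ : IsPGroup 2 ((P₂ : Subgroup T).map T.subtype) := P₂.2.map T.subtype
    obtain ⟨S', hS'⟩ := hQ.exists_le_sylow
    obtain ⟨g, hg⟩ := MulAction.exists_smul_eq G S S'
    have hmem : ∀ x : G, x ∈ (S' : Subgroup G) → g⁻¹ * x * g ∈ (S : Subgroup G) := by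
      intro x hx
      rw [← hg, Sylow.coe_subgroup_smul, Subgroup.mem_pointwise_smul_iff_inv_smul_mem] at hx
      simpa [MulAut.smul_def, mul_assoc] using hx
    have hzS' : z ∈ (S' : Subgroup G) := hS' ⟨⟨z, hzT⟩, hzP, rfl⟩
    have hyS' : y ^ i ∈ (S' : Subgroup G) := hS' ⟨⟨y ^ i, hyiT⟩, hyP, rfl⟩
    have hgN : g ∈ Subgroup.normalizer ((A : Subgroup G) : Set G) := by
      by_contra hgN
      have h1 := ti g hgN (g⁻¹ * z * g) (S_le (hmem z hzS')) (by
        have : g * (g⁻¹ * z * g) * g⁻¹ = z := by group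
        rw [this]
        exact hzA)
      apply hz1
      have : z = g * (g⁻¹ * z * g) * g⁻¹ := by group
      rw [this, h1]
      group
    have h2 := (Subgroup.mem_set_normalizer_iff.mp hgN (g⁻¹ * y ^ i * g)).mp (S_le (hmem _ hyS'))
    have : g * (g⁻¹ * y ^ i * g) * g⁻¹ = y ^ i := by group
    rw [this] at h2
    exact h2
  rw [hyij]
  exact Subgroup.mul_mem _ htwo hodd

/-- LOC1 of S4064. -/
theorem exists_preLocal [Finite G] [Nontrivial G] (h : TIC G) (hF : FitTriv G) :
    ∃ (S : Sylow 2 G) (A N : Subgroup G), PreLocal S A N := by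
  classical
  have hfact : Fact (Nat.Prime 2) := ⟨Nat.prime_two⟩
  -- `|G|` is even
  have heven : 2 ∣ Nat.card G := by
    by_contra hodd
    have hodd' : Odd (Nat.card (⊤ : Subgroup G)) := by
      rw [Subgroup.card_top, ← Nat.not_even_iff_odd, even_iff_two_dvd]
      exact hodd
    have := Cfsg.Agent.Lib.Helper31_TIC_A.odd_normal_eq_bot h hF ⊤ inferInstance hodd'
    exact top_ne_bot this
  obtain ⟨S⟩ : Nonempty (Sylow 2 G) := inferInstance
  have hS2 : 2 ∣ Nat.card S := S.dvd_card_of_dvd_card heven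
  have hSne : (S : Subgroup G) ≠ ⊥ := by
    intro hbot
    rw [hbot, Subgroup.card_bot] at hS2
    omega
  have hSnt : Nontrivial (S : Subgroup G) := (Subgroup.nontrivial_iff_ne_bot _).mpr hSne
  -- a central involution of `S`
  have : Nontrivial (Subgroup.center (S : Subgroup G)) := S.2.center_nontrivial
  have hZ2 : 2 ∣ Nat.card (Subgroup.center (S : Subgroup G)) := by
    have hZp : IsPGroup 2 (Subgroup.center (S : Subgroup G)) :=
      S.2.to_subgroup (Subgroup.center (S : Subgroup G))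
    obtain ⟨n, hn⟩ := IsPGroup.iff_card.mp hZp
    rw [hn]
    rcases n with _ | n
    · exfalso
      rw [pow_zero] at hn
      have : Subsingleton (Subgroup.center (S : Subgroup G)) :=
        (Nat.card_eq_one_iff_unique.mp hn).1
      exact not_subsingleton _ this
    · exact Dvd.intro_left _ rfl
  obtain ⟨z', hz'⟩ := exists_prime_orderOf_dvd_card' 2 hZ2
  obtain ⟨z, hz⟩ : ∃ z : G, z = ((z' : (S : Subgroup G)) : G) := ⟨_, rfl⟩
  have hz2 : orderOf z = 2 := by
    rw [hz, Subgroup.orderOf_coe, Subgroup.orderOf_coe, hz']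
  have hzS : z ∈ S := by rw [hz]; exact (z' : (S : Subgroup G)).2
  have S_le : (S : Subgroup G) ≤ Subgroup.centralizer ({z} : Set G) := by
    intro s hs
    rw [Subgroup.mem_centralizer_singleton_iff]
    have h1 := Subgroup.mem_center_iff.mp z'.2 ⟨s, hs⟩
    have h2 := congrArg Subtype.val h1
    rw [hz]
    exact h2
  have hz1 : z ≠ 1 := by
    intro h1
    rw [h1, orderOf_one] at hz2
    omega
  have ti : ∀ g : G, g ∉ Subgroup.normalizer
      ((Subgroup.centralizer ({z} : Set G) : Subgroup G) : Set G) →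
      ∀ a ∈ Subgroup.centralizer ({z} : Set G),
        g * a * g⁻¹ ∈ Subgroup.centralizer ({z} : Set G) → a = 1 := h z
  have nil : Group.IsNilpotent (Subgroup.centralizer ({z} : Set G)) :=
    Cfsg.Agent.Lib.Helper31_TIC_A.TIC_isCN h z hz1
  obtain ⟨hse, hinv⟩ := Cfsg.Agent.Lib.Helper51_TIC_LOC1b.loc1b hF S
    (Subgroup.centralizer ({z} : Set G))
    (Subgroup.normalizer ((Subgroup.centralizer ({z} : Set G) : Subgroup G) : Set G))
    hSne nil S_le rfl ti
  refine ⟨S, Subgroup.centralizer ({z} : Set G),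
    Subgroup.normalizer ((Subgroup.centralizer ({z} : Set G) : Subgroup G) : Set G), ?_⟩
  exact
    { nil := nil
      S_le := S_le
      N_eq := rfl
      ti := ti
      cent_le := fun a ha ha1 => cent_le_of_TIC h S z hz2 hzS S_le ti a ha ha1
      se := hse
      inv_mem := hinv
      exists_z := ⟨z, hz2, hzS, rfl⟩ }

end Cfsg.Agent.Lib.Helper69_TIC_LOC1
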