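import Mathlib
import Cfsg.Prelude.Def_Classical

/-!
# TWOGEN-COUNT (helper69, for helper32): the number of nonzero singular vectors of the hyperbolic
quadratic form `Σ x_i y_i` in dimension `2k` over a field with `q` elements is
`(q^k - 1)(q^(k-1) + 1)`.
-/

set_option autoImplicit false

namespace Cfsg.Agent.Lib.Helper69_TwoGen_COUNT

open Module

variable {F : Type*} [Field F] [Fintype F]

/-- the hyperplane orthogonal to a nonzero vector has `q^(k-1)` elements -/
theorem card_dot_eq_zero {k : ℕ} (x : Fin k → F) (hx : x ≠ 0) :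
    Nat.card {y : Fin k → F // x ⬝ᵥ y = 0} = Fintype.card F ^ (k - 1) := by
  classical
  let f : (Fin k → F) →ₗ[F] F :=
    { toFun := fun y => x ⬝ᵥ y
      map_add' := dotProduct_add x
      map_smul' := fun c y => by simp [dotProduct_smul] }
  have hf : ∀ y, f y = x ⬝ᵥ y := fun y => rfl
  have hf0 : f ≠ 0 := by
    intro h0
    apply hx
    funext i
    have := congrArg (fun g : (Fin k → F) →ₗ[F] F => g (Pi.single i 1)) h0
    simpa [hf] using this
  have hsurj : LinearMap.range f = ⊤ := LinearMap.range_eq_top.mpr (LinearMap.surjective hf0)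
  have hrank := LinearMap.finrank_range_add_finrank_ker f
  rw [hsurj, finrank_top, Module.finrank_self, Module.finrank_fintype_fun_eq_card,
    Fintype.card_fin] at hrank
  have hker : finrank F (LinearMap.ker f) = k - 1 := by omega
  have hcard : Nat.card (LinearMap.ker f) = Fintype.card F ^ (k - 1) := by
    rw [Nat.card_eq_fintype_card, Module.card_eq_pow_finrank (K := F) (V := LinearMap.ker f), hker]
  rw [← hcard]
  apply Nat.card_congr
  exact Equiv.subtypeEquivRight (fun y => by rw [LinearMap.mem_ker, hf])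

/-- the number of pairs `(x, y)` with `x ⬝ y = 0` -/
theorem card_pairs (k : ℕ) :
    Nat.card {p : (Fin k → F) × (Fin k → F) // p.1 ⬝ᵥ p.2 = 0} =
      Fintype.card F ^ k + (Fintype.card F ^ k - 1) * Fintype.card F ^ (k - 1) := by
  classical
  have h1 : Nat.card {p : (Fin k → F) × (Fin k → F) // p.1 ⬝ᵥ p.2 = 0} =
      ∑ x : Fin k → F, Nat.card {y : Fin k → F // x ⬝ᵥ y = 0} := by
    rw [Nat.card_congr (Equiv.subtypeProdEquivSigmaSubtype
      (fun (x y : Fin k → F) => x ⬝ᵥ y = 0)), Nat.card_sigma]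
  rw [h1, ← Finset.add_sum_erase Finset.univ _ (Finset.mem_univ (0 : Fin k → F))]
  congr 1
  · have : Nat.card {y : Fin k → F // (0 : Fin k → F) ⬝ᵥ y = 0} = Nat.card (Fin k → F) := by
      apply Nat.card_congr
      exact Equiv.subtypeUnivEquiv (fun y => zero_dotProduct y)
    rw [this, Nat.card_eq_fintype_card, Fintype.card_fun, Fintype.card_fin]
  · rw [Finset.sum_congr rfl (fun x hx => card_dot_eq_zero x (Finset.ne_of_mem_erase hx)),
      Finset.sum_const, smul_eq_mul, Finset.card_erase_of_mem (Finset.mem_univ _),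
      Finset.card_univ, Fintype.card_fun, Fintype.card_fin]

/-- **TWOGEN-COUNT**: the number of nonzero singular vectors of `quadFormPlus k F`. -/
theorem card_singular_plus (k : ℕ) :
    Nat.card {v : Fin k ⊕ Fin k → F // v ≠ 0 ∧ Cfsg.quadFormPlus k F v = 0} =
      (Fintype.card F ^ k - 1) * (Fintype.card F ^ (k - 1) + 1) := by
  classical
  -- all singular vectors
  have hall : Nat.card {v : Fin k ⊕ Fin k → F // Cfsg.quadFormPlus k F v = 0} =
      Fintype.card F ^ k + (Fintype.card F ^ k - 1) * Fintype.card F ^ (k - 1) := by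
    rw [← card_pairs (F := F) k]
    apply Nat.card_congr
    refine (Equiv.sumArrowEquivProdArrow (Fin k) (Fin k) F).subtypeEquiv ?_
    intro v
    simp [Cfsg.quadFormPlus, dotProduct, Equiv.sumArrowEquivProdArrow]
  have hsplit : Nat.card {v : Fin k ⊕ Fin k → F // Cfsg.quadFormPlus k F v = 0} =
      Nat.card {v : Fin k ⊕ Fin k → F // v ≠ 0 ∧ Cfsg.quadFormPlus k F v = 0} + 1 := by
    have h0 : Cfsg.quadFormPlus k F (0 : Fin k ⊕ Fin k → F) = 0 := by
      simp [Cfsg.quadFormPlus]
    rw [Nat.card_eq_fintype_card, Nat.card_eq_fintype_card, Fintype.card_subtype,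
      Fintype.card_subtype]
    have : (Finset.univ.filter (fun v : Fin k ⊕ Fin k → F => v ≠ 0 ∧
        Cfsg.quadFormPlus k F v = 0)) =
        (Finset.univ.filter (fun v : Fin k ⊕ Fin k → F => Cfsg.quadFormPlus k F v = 0)).erase 0 := by
      ext v
      simp [and_comm]
    rw [this, Finset.card_erase_of_mem (by simp [h0])]
    have hpos : 0 < (Finset.univ.filter
        (fun v : Fin k ⊕ Fin k → F => Cfsg.quadFormPlus k F v = 0)).card :=
      Finset.card_pos.mpr ⟨0, by simp [h0]⟩
    omega
  have hq : 1 ≤ Fintype.card F ^ k := Nat.one_le_pow _ _ Fintype.card_pos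
  rw [hall] at hsplit
  have : Nat.card {v : Fin k ⊕ Fin k → F // v ≠ 0 ∧ Cfsg.quadFormPlus k F v = 0} =
      Fintype.card F ^ k + (Fintype.card F ^ k - 1) * Fintype.card F ^ (k - 1) - 1 := by
    omega
  rw [this]
  obtain ⟨a, ha⟩ : ∃ a, Fintype.card F ^ k = a + 1 := ⟨Fintype.card F ^ k - 1, by omega⟩
  rw [ha]
  simp only [Nat.add_sub_cancel]
  ring_nf
  omega

end Cfsg.Agent.Lib.Helper69_TwoGen_COUNT
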