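import Mathlib
import Cfsg.Agent.Lib.Helper65_U3Defs
import Cfsg.Agent.Lib.Helper1_Glauberman
import Cfsg.Agent.Lib.Helper65_U3A_BAS1
import Cfsg.Agent.Lib.Helper65_U3A_BAS2
import Cfsg.Agent.Lib.Helper65_U3A_BAS3

set_option autoImplicit false
set_option linter.unusedSectionVars false
set_option linter.unusedVariables false

/-!
# S2148 abstract half, package S2D (architect helper65, proof helper69): NORMALIZE

Pure group theory: `B = Q ⋊ T` with `Q` a normal `p`-subgroup and `T` a `p'`-complement.  Every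
subgroup `H` has a conjugate `H' = n H n⁻¹`, `n ∈ Q`, with `|H' ⊓ B| = |H' ⊓ Q| * |H' ⊓ T|`
(Schur-Zassenhaus existence in `H ⊓ B`, conjugacy in `Q K`).
-/

open Cfsg.Agent.Lib.Helper65_U3Defs

namespace Cfsg.Agent.Lib.Helper69_U3A_S2D

open Subgroup

section abstract

variable {G : Type*} [Group G]

/-- complements inside a subgroup `C` (copy of `Helper25_Dade.card_mul_card_of_semidirect`) -/
theorem compl_of_semidirect [Finite G] (C N M : Subgroup G)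
    (hNC : N ≤ C) (hMC : M ≤ C) (hnorm : C ≤ Subgroup.normalizer (N : Set G))
    (hinf : N ⊓ M = ⊥) (hsup : N ⊔ M = C) :
    Subgroup.IsComplement' (N.subgroupOf C) (M.subgroupOf C) := by
  have hn : (N.subgroupOf C).Normal := (Subgroup.normal_subgroupOf_iff_le_normalizer hNC).mpr hnorm
  apply Subgroup.isComplement'_of_disjoint_and_mul_eq_univ
  · rw [disjoint_iff]
    ext ⟨c, hc⟩
    simp only [Subgroup.mem_inf, Subgroup.mem_subgroupOf, Subgroup.mem_bot]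
    constructor
    · rintro ⟨h1, h2⟩
      have : c ∈ N ⊓ M := ⟨h1, h2⟩
      rw [hinf, Subgroup.mem_bot] at this
      exact Subtype.ext this
    · intro h
      have : c = 1 := congrArg Subtype.val h
      subst this
      exact ⟨N.one_mem, M.one_mem⟩
  · have h1 : N.subgroupOf C ⊔ M.subgroupOf C = ⊤ := by
      rw [← Subgroup.subgroupOf_sup hNC hMC, hsup]
      exact Subgroup.subgroupOf_self C
    rw [← Subgroup.normal_mul, h1]
    rfl

theorem card_subgroupOf_of_le {H K : Subgroup G} (h : H ≤ K) :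
    Nat.card ↥(H.subgroupOf K) = Nat.card ↥H :=
  Nat.card_congr (Subgroup.subgroupOfEquivOfLe h).toEquiv

/-- a `p'`-subgroup `K` of `Q T` normalising the `p`-group `Q` is conjugate into `T` by an
element of `Q` -/
theorem conj_into_complement [Finite G] (p : ℕ) [Fact p.Prime] (Q T K : Subgroup G)
    (hKn : K ≤ normalizer (Q : Set G)) (hQp : IsPGroup p ↥Q)
    (hKcop : (Nat.card ↥K).Coprime p) (hQT : Q ⊓ T = ⊥)
    (hKQT : ∀ k ∈ K, ∃ z ∈ Q, ∃ s ∈ T, k = z * s) :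
    ∃ n ∈ Q, ∀ k ∈ K, n * k * n⁻¹ ∈ T := by
  obtain ⟨a, ha⟩ := IsPGroup.iff_card.mp hQp
  have hcopQK : (Nat.card ↥Q).Coprime (Nat.card ↥K) := by
    rw [ha]
    exact Nat.Coprime.pow_left a hKcop.symm
  have hQK : Q ⊓ K = ⊥ := (disjoint_of_coprime_natCard hcopQK).eq_bot
  have hQM : Q ≤ Q ⊔ K := le_sup_left
  have hKM : K ≤ Q ⊔ K := le_sup_right
  have hMn : Q ⊔ K ≤ normalizer (Q : Set G) := sup_le le_normalizer hKn
  have hT'M : T ⊓ (Q ⊔ K) ≤ Q ⊔ K := inf_le_right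
  have hQT' : Q ⊓ (T ⊓ (Q ⊔ K)) = ⊥ := by
    apply le_antisymm _ bot_le
    rw [← hQT]
    exact inf_le_inf_left Q inf_le_left
  have hsupT' : Q ⊔ (T ⊓ (Q ⊔ K)) = Q ⊔ K := by
    apply le_antisymm (sup_le hQM hT'M)
    apply sup_le le_sup_left
    intro k hk
    obtain ⟨z, hz, s, hs, rfl⟩ := hKQT k hk
    have hsM : s ∈ Q ⊔ K := by
      have : s = z⁻¹ * (z * s) := by group
      rw [this]
      exact mul_mem (inv_mem (hQM hz)) (hKM hk)
    exact mul_mem_sup hz (mem_inf.mpr ⟨hs, hsM⟩)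
  have c1 := compl_of_semidirect (Q ⊔ K) Q K hQM hKM hMn hQK rfl
  have c2 := compl_of_semidirect (Q ⊔ K) Q (T ⊓ (Q ⊔ K)) hQM hT'M hMn hQT' hsupT'
  haveI hn : (Q.subgroupOf (Q ⊔ K)).Normal :=
    (Subgroup.normal_subgroupOf_iff_le_normalizer hQM).mpr hMn
  have hN1 : Nat.card ↥(Q.subgroupOf (Q ⊔ K)) = p ^ a := by
    rw [card_subgroupOf_of_le hQM, ha]
  have hK1 : Nat.card ↥(K.subgroupOf (Q ⊔ K)) = (Q.subgroupOf (Q ⊔ K)).index :=
    c1.symm.index_eq_card.symm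
  have hT1 : Nat.card ↥((T ⊓ (Q ⊔ K)).subgroupOf (Q ⊔ K)) = (Q.subgroupOf (Q ⊔ K)).index :=
    c2.symm.index_eq_card.symm
  have hcop : (Nat.card ↥(Q.subgroupOf (Q ⊔ K))).Coprime (Q.subgroupOf (Q ⊔ K)).index := by
    rw [← hK1, card_subgroupOf_of_le hKM, card_subgroupOf_of_le hQM]
    exact hcopQK
  have hpN : IsPGroup p ↥(Q.subgroupOf (Q ⊔ K)) := IsPGroup.of_card hN1
  haveI : Group.IsNilpotent ↥(Q.subgroupOf (Q ⊔ K)) := hpN.isNilpotent
  have hsolv : Group.IsSolvable ↥(Q.subgroupOf (Q ⊔ K)) := inferInstance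
  obtain ⟨n, hn, hconj⟩ := Cfsg.Agent.Lib.Helper1_Glauberman.sz_conj_card_mem
    (Q.subgroupOf (Q ⊔ K)) hcop (Or.inl hsolv) (K.subgroupOf (Q ⊔ K))
    ((T ⊓ (Q ⊔ K)).subgroupOf (Q ⊔ K)) hK1 hT1
  refine ⟨n.val, hn, ?_⟩
  intro k hk
  have h1 : (⟨k, hKM hk⟩ : ↥(Q ⊔ K)) ∈ K.subgroupOf (Q ⊔ K) := hk
  have h2 := Subgroup.smul_mem_pointwise_smul _ (MulAut.conj n) _ h1
  rw [hconj] at h2
  have h3 : ((MulAut.conj n • (⟨k, hKM hk⟩ : ↥(Q ⊔ K)) : ↥(Q ⊔ K)) : G) ∈ T ⊓ (Q ⊔ K) := h2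
  have h4 : ((MulAut.conj n • (⟨k, hKM hk⟩ : ↥(Q ⊔ K)) : ↥(Q ⊔ K)) : G) = n.val * k * n.val⁻¹ := by
    rw [MulAut.smul_def, MulAut.conj_apply]
    rfl
  rw [h4] at h3
  exact (mem_inf.mp h3).1

/-- `p`-elements of `B = Q T` lie in `Q` -/
theorem mem_of_pow_eq_one [Finite G] (p : ℕ) [Fact p.Prime] (B Q T : Subgroup G)
    (hTB : T ≤ B) (hBn : B ≤ normalizer (Q : Set G)) (hTcop : (Nat.card ↥T).Coprime p)
    (hQT : Q ⊓ T = ⊥) (hBQT : ∀ g ∈ B, ∃ z ∈ Q, ∃ s ∈ T, g = z * s) (x : G) (hxB : x ∈ B)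
    (j : ℕ) (hx : x ^ (p ^ j) = 1) : x ∈ Q := by
  obtain ⟨z, hz, s, hs, rfl⟩ := hBQT x hxB
  have key : ∀ m : ℕ, ∃ z' ∈ Q, (z * s) ^ m = z' * s ^ m := by
    intro m
    induction m with
    | zero => exact ⟨1, one_mem _, by simp⟩
    | succ m ih =>
      obtain ⟨z', hz', e⟩ := ih
      refine ⟨z' * (s ^ m * z * (s ^ m)⁻¹), mul_mem hz' ?_, ?_⟩
      · exact (mem_normalizer_iff.mp (hBn (hTB (pow_mem hs m))) z).mp hz
      · rw [pow_succ, e, pow_succ]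
        group
  obtain ⟨z', hz', e⟩ := key (p ^ j)
  rw [hx] at e
  have h1 : s ^ (p ^ j) = z'⁻¹ := by
    have : z' * s ^ (p ^ j) = 1 := e.symm
    exact eq_inv_of_mul_eq_one_right this
  have h2 : s ^ (p ^ j) ∈ Q ⊓ T := mem_inf.mpr ⟨by rw [h1]; exact inv_mem hz', pow_mem hs _⟩
  rw [hQT, mem_bot] at h2
  have h3 : orderOf s ∣ p ^ j := orderOf_dvd_of_pow_eq_one h2
  have h4 : orderOf s ∣ Nat.card ↥T := by
    have := orderOf_dvd_natCard (⟨s, hs⟩ : ↥T)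
    rwa [Subgroup.orderOf_mk] at this
  have h5 : (orderOf s).Coprime (p ^ j) :=
    Nat.Coprime.coprime_dvd_left h4 (Nat.Coprime.pow_right j hTcop)
  have h6 : orderOf s = 1 := h5.eq_one_of_dvd h3
  rw [orderOf_eq_one_iff.mp h6, mul_one]
  exact hz

/-- conjugation by an element of a subgroup fixes the subgroup -/
theorem map_conj_of_mem (S : Subgroup G) {n : G} (hn : n ∈ S) :
    S.map (MulAut.conj n).toMonoidHom = S := by
  ext x
  rw [mem_map]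
  constructor
  · rintro ⟨y, hy, rfl⟩
    show n * y * n⁻¹ ∈ S
    exact mul_mem (mul_mem hn hy) (inv_mem hn)
  · intro hx
    refine ⟨n⁻¹ * x * n, mul_mem (mul_mem (inv_mem hn) hx) hn, ?_⟩
    show n * (n⁻¹ * x * n) * n⁻¹ = x
    group

theorem conj_injective (n : G) : Function.Injective (MulAut.conj n).toMonoidHom :=
  (MulAut.conj n).injective

theorem normalize_aux [Finite G] (p : ℕ) [Fact p.Prime] (B Q T H : Subgroup G)
    (hQB : Q ≤ B) (hTB : T ≤ B) (hBn : B ≤ normalizer (Q : Set G)) (hQp : IsPGroup p ↥Q)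
    (hTcop : (Nat.card ↥T).Coprime p) (hQT : Q ⊓ T = ⊥)
    (hBQT : ∀ g ∈ B, ∃ z ∈ Q, ∃ s ∈ T, g = z * s) :
    ∃ n ∈ Q, Nat.card ↥(H.map (MulAut.conj n).toMonoidHom ⊓ B) =
      Nat.card ↥(H.map (MulAut.conj n).toMonoidHom ⊓ Q) *
        Nat.card ↥(H.map (MulAut.conj n).toMonoidHom ⊓ T) := by
  have hp : p.Prime := Fact.out
  have hRHu : H ⊓ Q ≤ H ⊓ B := inf_le_inf_left H hQB
  -- `R = H ⊓ Q` is a normal Hall subgroup of `Hu = H ⊓ B`
  haveI hnorm : ((H ⊓ Q).subgroupOf (H ⊓ B)).Normal := by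
    refine ⟨fun x hx g => ?_⟩
    have hx' : (x : G) ∈ H ⊓ Q := hx
    have hg : (g : G) ∈ H ⊓ B := g.2
    show (g : G) * (x : G) * (g : G)⁻¹ ∈ H ⊓ Q
    refine mem_inf.mpr ⟨?_, ?_⟩
    · exact mul_mem (mul_mem (mem_inf.mp hg).1 (mem_inf.mp hx').1) (inv_mem (mem_inf.mp hg).1)
    · exact (mem_normalizer_iff.mp (hBn (mem_inf.mp hg).2) _).mp (mem_inf.mp hx').2
  have hpR : IsPGroup p ↥(H ⊓ Q) := hQp.to_le inf_le_right
  have hpN : IsPGroup p ↥((H ⊓ Q).subgroupOf (H ⊓ B)) := hpR.comap_subtype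
  obtain ⟨P, hP⟩ := hpN.exists_le_sylow
  have hPle : (P : Subgroup ↥(H ⊓ B)) ≤ (H ⊓ Q).subgroupOf (H ⊓ B) := by
    intro x hx
    obtain ⟨j, hj⟩ := P.2 ⟨x, hx⟩
    have hj' : x ^ (p ^ j) = 1 := by
      have := congrArg Subtype.val hj
      simpa using this
    have hj'' : (x : G) ^ (p ^ j) = 1 := by
      have := congrArg Subtype.val hj'
      simpa using this
    have hxHu : (x : G) ∈ H ⊓ B := x.2
    have hxQ := mem_of_pow_eq_one p B Q T hTB hBn hTcop hQT hBQT (x : G) (mem_inf.mp hxHu).2 j hj''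
    exact mem_inf.mpr ⟨(mem_inf.mp hxHu).1, hxQ⟩
  have hPeq : (P : Subgroup ↥(H ⊓ B)) = (H ⊓ Q).subgroupOf (H ⊓ B) := le_antisymm hPle hP
  have hnd : ¬ p ∣ ((H ⊓ Q).subgroupOf (H ⊓ B)).index := by
    rw [← hPeq]
    exact P.not_dvd_index
  obtain ⟨b, hb⟩ := IsPGroup.iff_card.mp hpN
  have hcop1 : (Nat.card ↥((H ⊓ Q).subgroupOf (H ⊓ B))).Coprime
      ((H ⊓ Q).subgroupOf (H ⊓ B)).index := by
    rw [hb]
    exact Nat.Coprime.pow_left b ((Nat.Prime.coprime_iff_not_dvd hp).mpr hnd)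
  obtain ⟨K₁, hK₁⟩ := exists_right_complement'_of_coprime hcop1
  have hcardK₁ : Nat.card ↥K₁ = ((H ⊓ Q).subgroupOf (H ⊓ B)).index :=
    hK₁.symm.index_eq_card.symm
  have hcardHu : Nat.card ↥(H ⊓ B) = Nat.card ↥(H ⊓ Q) * Nat.card ↥K₁ := by
    rw [← hK₁.card_mul_card, card_subgroupOf_of_le hRHu]
  have hcardR : Nat.card ↥(H ⊓ Q) = p ^ b := by
    rw [← card_subgroupOf_of_le hRHu, hb]
  -- the complement as a subgroup of `G`
  have hKcard : Nat.card ↥(K₁.map (H ⊓ B).subtype) = Nat.card ↥K₁ :=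
    card_map_of_injective (H ⊓ B).subtype_injective
  have hKHu : K₁.map (H ⊓ B).subtype ≤ H ⊓ B := by
    rintro _ ⟨y, _, rfl⟩
    exact y.2
  have hKcop : (Nat.card ↥(K₁.map (H ⊓ B).subtype)).Coprime p := by
    rw [hKcard, hcardK₁]
    exact ((Nat.Prime.coprime_iff_not_dvd hp).mpr hnd).symm
  obtain ⟨n, hnQ, hconj⟩ := conj_into_complement p Q T (K₁.map (H ⊓ B).subtype)
    (fun k hk => hBn (mem_inf.mp (hKHu hk)).2) hQp hKcop hQT
    (fun k hk => hBQT k (mem_inf.mp (hKHu hk)).2)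
  refine ⟨n, hnQ, ?_⟩
  have hinj := conj_injective n
  have e1 : H.map (MulAut.conj n).toMonoidHom ⊓ B = (H ⊓ B).map (MulAut.conj n).toMonoidHom := by
    rw [map_inf_eq _ _ _ hinj, map_conj_of_mem B (hQB hnQ)]
  have e2 : H.map (MulAut.conj n).toMonoidHom ⊓ Q = (H ⊓ Q).map (MulAut.conj n).toMonoidHom := by
    rw [map_inf_eq _ _ _ hinj, map_conj_of_mem Q hnQ]
  have c1 : Nat.card ↥(H.map (MulAut.conj n).toMonoidHom ⊓ B) = Nat.card ↥(H ⊓ B) := by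
    rw [e1]; exact card_map_of_injective hinj
  have c2 : Nat.card ↥(H.map (MulAut.conj n).toMonoidHom ⊓ Q) = Nat.card ↥(H ⊓ Q) := by
    rw [e2]; exact card_map_of_injective hinj
  have hle : (K₁.map (H ⊓ B).subtype).map (MulAut.conj n).toMonoidHom ≤
      H.map (MulAut.conj n).toMonoidHom ⊓ T := by
    rintro _ ⟨k, hk, rfl⟩
    refine mem_inf.mpr ⟨mem_map_of_mem _ (mem_inf.mp (hKHu hk)).1, ?_⟩
    exact hconj k hk
  have c3 : Nat.card ↥K₁ ≤ Nat.card ↥(H.map (MulAut.conj n).toMonoidHom ⊓ T) := by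
    rw [← hKcard, ← card_map_of_injective hinj (K := K₁.map (H ⊓ B).subtype)]
    exact card_le_of_le hle
  have d1 : Nat.card ↥(H.map (MulAut.conj n).toMonoidHom ⊓ T) ∣
      Nat.card ↥(H ⊓ Q) * Nat.card ↥K₁ := by
    rw [← hcardHu, ← c1]
    exact card_dvd_of_le (inf_le_inf_left _ hTB)
  have d2 : (Nat.card ↥(H.map (MulAut.conj n).toMonoidHom ⊓ T)).Coprime (Nat.card ↥(H ⊓ Q)) := by
    rw [hcardR]
    apply Nat.Coprime.pow_right
    exact Nat.Coprime.coprime_dvd_left (card_dvd_of_le inf_le_right) hTcop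
  have d3 : Nat.card ↥(H.map (MulAut.conj n).toMonoidHom ⊓ T) ∣ Nat.card ↥K₁ :=
    d2.dvd_of_dvd_mul_left d1
  have hKpos : 0 < Nat.card ↥K₁ := Nat.card_pos
  have c4 : Nat.card ↥(H.map (MulAut.conj n).toMonoidHom ⊓ T) = Nat.card ↥K₁ :=
    le_antisymm (Nat.le_of_dvd hKpos d3) c3
  rw [c1, c2, c4, hcardHu]

end abstract

variable {p q : ℕ} {F G U : Type*} [Field F] [Group G] [MulAction G U]

/-- `|T|` is prime to `p` -/
theorem card_T_coprime (D : U3Data p q F G U) : (Nat.card ↥D.T).Coprime p := by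
  have := D.finiteF
  have hdvd : Nat.card ↥D.T ∣ Nat.card Fˣ := Subgroup.card_range_dvd D.t
  rw [Nat.card_units, D.cardF] at hdvd
  apply Nat.Coprime.coprime_dvd_left hdvd
  rw [Nat.coprime_comm, Nat.Prime.coprime_iff_not_dvd D.hp]
  intro h
  have hq2 : p ∣ q ^ 2 := by
    rw [D.hq, ← pow_mul]
    exact dvd_pow_self p (Nat.mul_ne_zero D.hk.ne' (by norm_num))
  have hpos : 1 ≤ q ^ 2 := Nat.one_le_pow _ _ D.q_pos
  have h1 : p ∣ q ^ 2 - (q ^ 2 - 1) := Nat.dvd_sub hq2 h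
  have h2 : q ^ 2 - (q ^ 2 - 1) = 1 := by omega
  rw [h2] at h1
  exact D.hp.one_lt.ne' (Nat.dvd_one.mp h1)

/-- **S2D** NORMALIZE. -/
theorem normalize (D : U3Data p q F G U) (H : Subgroup G) : ∃ n ∈ D.Q,
    Nat.card ↥(H.map (MulAut.conj n).toMonoidHom ⊓ D.B) =
      Nat.card ↥(H.map (MulAut.conj n).toMonoidHom ⊓ D.Q) *
        Nat.card ↥(H.map (MulAut.conj n).toMonoidHom ⊓ D.T) := by
  haveI := D.finG
  haveI : Fact p.Prime := ⟨D.hp⟩
  apply normalize_aux p D.B D.Q D.T H D.Q_le_B D.T_le_B ?_ ?_ (card_T_coprime D)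
    (Cfsg.Agent.Lib.Helper65_U3A_BAS1.Q_inf_T D) ?_
  · intro g hg
    rw [mem_normalizer_iff]
    intro z
    constructor
    · exact fun hz => Cfsg.Agent.Lib.Helper65_U3A_BAS2.conj_Q_of_mem_B D hg hz
    · intro hz
      have h1 := Cfsg.Agent.Lib.Helper65_U3A_BAS2.conj_Q_of_mem_B D (inv_mem hg) hz
      have h2 : g⁻¹ * (g * z * g⁻¹) * g⁻¹⁻¹ = z := by group
      rw [h2] at h1
      exact h1
  · apply IsPGroup.of_card (n := D.k * 3)
    rw [Cfsg.Agent.Lib.Helper65_U3A_BAS3.card_Q D, pow_mul]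
    exact congrArg (· ^ 3) D.hq
  · intro g hg
    exact (Cfsg.Agent.Lib.Helper65_U3A_BAS2.mem_B_iff D).mp hg

end Cfsg.Agent.Lib.Helper69_U3A_S2D
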