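import Mathlib

/-!
# Automorphisms of a small elementary abelian 2-group embed in `GL₄(𝔽₂)` (helper6)

`exists_injective_mulAut_GL4`: for a finite group `V` that is commutative, of exponent 2 and of order at most
16 there is an injective homomorphism `MulAut V →* GL (Fin 4) (ZMod 2)`.
-/

set_option autoImplicit false
set_option linter.style.haveILetI false
set_option linter.unusedSectionVars false
set_option warn.classDefReducibility false

namespace Cfsg.Agent.Helper6AutGL

open Module

section comm

variable {V : Type*} [CommGroup V] [Finite V]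

/-- ZMod 2 - module structure on `Additive V` for an elementary abelian 2-group. -/
noncomputable def zmod2Module (hsq : ∀ v : V, v ^ 2 = 1) : Module (ZMod 2) (Additive V) :=
  AddCommGroup.zmodModule (n := 2) (fun x => by
    show Additive.ofMul ((Additive.toMul x) ^ 2) = 0
    rw [hsq]; rfl)

/-- automorphisms act linearly -/
noncomputable def autToLin (hsq : ∀ v : V, v ^ 2 = 1) :
    letI := zmod2Module hsq
    MulAut V →* (Additive V ≃ₗ[ZMod 2] Additive V) :=
  letI := zmod2Module hsq
  { toFun := fun α =>
      { (MulEquiv.toAdditive α) with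
        map_smul' := fun c x => ZMod.map_smul (MulEquiv.toAdditive α).toAddMonoidHom c x }
    map_one' := by
      ext x; rfl
    map_mul' := fun α β => by
      ext x; rfl }

theorem autToLin_injective (hsq : ∀ v : V, v ^ 2 = 1) :
    letI := zmod2Module hsq
    Function.Injective (autToLin hsq) := by
  letI := zmod2Module hsq
  intro α β h
  ext v
  have := congrArg (fun f : (Additive V ≃ₗ[ZMod 2] Additive V) => f (Additive.ofMul v)) h
  exact congrArg Additive.toMul this

end comm

section lin

variable {W : Type*} [AddCommGroup W] [Module (ZMod 2) W] [Finite W]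

/-- block-diagonal embedding -/
noncomputable def prodHom (U : Type*) [AddCommGroup U] [Module (ZMod 2) U] :
    (W ≃ₗ[ZMod 2] W) →* ((W × U) ≃ₗ[ZMod 2] (W × U)) where
  toFun α := α.prodCongr (LinearEquiv.refl _ _)
  map_one' := by ext x <;> rfl
  map_mul' α β := by ext x <;> rfl

theorem prodHom_injective (U : Type*) [AddCommGroup U] [Module (ZMod 2) U] :
    Function.Injective (prodHom (W := W) U) := by
  intro α β h
  ext w
  have := congrArg (fun f : ((W × U) ≃ₗ[ZMod 2] (W × U)) => (f (w, 0)).1) h
  exact this

/-- `W ≃ₗ W` to `GL (Fin n)` given a basis -/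
noncomputable def linToGL {n : ℕ} {U : Type*} [AddCommGroup U] [Module (ZMod 2) U]
    (b : Basis (Fin n) (ZMod 2) U) : (U ≃ₗ[ZMod 2] U) ≃* GL (Fin n) (ZMod 2) :=
  (LinearMap.GeneralLinearGroup.generalLinearEquiv (ZMod 2) U).symm.trans
    (Units.mapEquiv (LinearMap.toMatrixAlgEquiv b).toMulEquiv)

theorem exists_injective_lin (hcard : Nat.card W ≤ 16) :
    ∃ f : (W ≃ₗ[ZMod 2] W) →* GL (Fin 4) (ZMod 2), Function.Injective f := by
  have : Fintype W := Fintype.ofFinite W
  have hc : Nat.card W = 2 ^ finrank (ZMod 2) W := by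
    rw [Nat.card_eq_fintype_card, Module.card_eq_pow_finrank (K := ZMod 2) (V := W), ZMod.card]
  have hr : finrank (ZMod 2) W ≤ 4 := by
    rw [hc] at hcard
    by_contra hlt
    rw [not_le] at hlt
    have : 2 ^ 5 ≤ 2 ^ finrank (ZMod 2) W := Nat.pow_le_pow_right (by norm_num) hlt
    omega
  set r := finrank (ZMod 2) W with hrdef
  let U := Fin (4 - r) → ZMod 2
  have hfr : finrank (ZMod 2) (W × U) = 4 := by
    rw [Module.finrank_prod, Module.finrank_fin_fun, ← hrdef]
    omega
  let b : Basis (Fin 4) (ZMod 2) (W × U) := Module.finBasisOfFinrankEq (ZMod 2) (W × U) hfr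
  refine ⟨(linToGL b).toMonoidHom.comp (prodHom U), ?_⟩
  exact (linToGL b).injective.comp (prodHom_injective U)

end lin

theorem exists_injective_mulAut_GL4 (V : Type*) [Group V] [Finite V]
    (hcomm : ∀ a b : V, a * b = b * a) (hsq : ∀ v : V, v ^ 2 = 1) (hcard : Nat.card V ≤ 16) :
    ∃ f : MulAut V →* GL (Fin 4) (ZMod 2), Function.Injective f := by
  letI : CommGroup V := { (inferInstance : Group V) with mul_comm := hcomm }
  letI := zmod2Module hsq
  have hc : Nat.card (Additive V) ≤ 16 := hcard
  obtain ⟨f, hf⟩ := exists_injective_lin (W := Additive V) hc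
  exact ⟨f.comp (autToLin hsq), hf.comp (autToLin_injective hsq)⟩

end Cfsg.Agent.Helper6AutGL
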