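import Mathlib
import Cfsg.Agent.Lib.Helper75_BRDefs
import Cfsg.Agent.Lib.Helper78_CentralNilp
import Cfsg.Agent.Lib.Helper78_CharFacts

/-!
# brandt_packages A6 (PEIRCE), helper6: `R ≃ (Fin n × Fin n → e₀ R e₀)` linearly.
-/

set_option autoImplicit false

namespace Cfsg.Agent.Lib.Helper6_BR_A6

open Cfsg Cfsg.Agent.Lib.Helper78_LocalRing Cfsg.Agent.Lib.Helper78_GroupRing
  Cfsg.Agent.Lib.Helper79_Residue Cfsg.Agent.Lib.Helper75_BRDefs

universe u v w

variable {F : Type v} [Field F] {R : Type w} [Ring R] [Algebra F R]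

/-- `v k * u i = 0` for `k ≠ i`. -/
theorem h6_vu_ne {n : ℕ} (hn : 0 < n)
    (e u v : Fin n → R) (he : CompleteOrthogonalIdempotents e)
    (h1 : ∀ i, e i * u i = u i) (h4 : ∀ i, v i * e i = v i) {k i : Fin n} (hki : k ≠ i) :
    v k * u i = 0 := by
  have := hn
  rw [← h4 k, ← h1 i, mul_assoc, ← mul_assoc (e k), he.ortho hki, zero_mul, mul_zero]

/-- **A6 (PEIRCE)**. `R ≃ (Fin n × Fin n → e₀ R e₀)` linearly. -/
theorem finrank_eq_sq_mul_corner [FiniteDimensional F R] {n : ℕ} (hn : 0 < n)
    (e u v : Fin n → R) (he : CompleteOrthogonalIdempotents e)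
    (h1 : ∀ i, e i * u i = u i) (h2 : ∀ i, u i * e ⟨0, hn⟩ = u i)
    (h3 : ∀ i, e ⟨0, hn⟩ * v i = v i) (h4 : ∀ i, v i * e i = v i)
    (h5 : ∀ i, v i * u i = e ⟨0, hn⟩) (h6 : ∀ i, u i * v i = e i) :
    Module.finrank F R = n * n * Module.finrank F (cornerSub F (e ⟨0, hn⟩)) := by
  classical
  set e0 := e ⟨0, hn⟩ with he0
  -- the forward map
  let Φ : R →ₗ[F] (Fin n × Fin n → cornerSub F e0) :=
    { toFun := fun r p => ⟨v p.1 * r * u p.2, by
        refine ⟨?_, ?_⟩
        · rw [← mul_assoc, ← mul_assoc, h3]
        · rw [mul_assoc, h2]⟩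
      map_add' := by
        intro r s
        funext p
        apply Subtype.ext
        simp [mul_add, add_mul]
      map_smul' := by
        intro c r
        funext p
        apply Subtype.ext
        simp }
  let Ψ : (Fin n × Fin n → cornerSub F e0) → R :=
    fun a => ∑ i, ∑ j, u i * (a (i, j) : R) * v j
  have hΨΦ : ∀ r, Ψ (Φ r) = r := by
    intro r
    show ∑ i, ∑ j, u i * (v i * r * u j) * v j = r
    have : ∀ i j, u i * (v i * r * u j) * v j = e i * r * e j := by
      intro i j
      rw [← h6 i, ← h6 j]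
      simp only [mul_assoc]
    simp only [this]
    calc ∑ i, ∑ j, e i * r * e j = ∑ i, e i * r * ∑ j, e j := by
          simp only [Finset.mul_sum]
      _ = (∑ i, e i) * r * ∑ j, e j := by
          simp only [Finset.sum_mul]
      _ = r := by rw [he.complete, one_mul, mul_one]
  have hΦΨ : ∀ a, Φ (Ψ a) = a := by
    intro a
    funext p
    obtain ⟨k, l⟩ := p
    apply Subtype.ext
    show v k * (∑ i, ∑ j, u i * (a (i, j) : R) * v j) * u l = (a (k, l) : R)
    simp only [Finset.mul_sum, Finset.sum_mul]
    have hterm : ∀ i j, v k * (u i * (a (i, j) : R) * v j) * u l =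
        if i = k then (if j = l then (a (k, l) : R) else 0) else 0 := by
      intro i j
      by_cases hi : i = k
      · by_cases hj : j = l
        · rw [if_pos hi, if_pos hj]
          subst hi; subst hj
          have ha := (a (i, j)).2
          obtain ⟨ha1, ha2⟩ := ha
          calc v i * (u i * (a (i, j) : R) * v j) * u j
              = (v i * u i) * (a (i, j) : R) * (v j * u j) := by simp only [mul_assoc]
            _ = (a (i, j) : R) := by rw [h5, h5, ha1, ha2]
        · rw [if_pos hi, if_neg hj]
          have : v j * u l = 0 := h6_vu_ne hn e u v he h1 h4 hj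
          calc v k * (u i * (a (i, j) : R) * v j) * u l
              = v k * (u i * (a (i, j) : R)) * (v j * u l) := by simp only [mul_assoc]
            _ = 0 := by rw [this, mul_zero]
      · rw [if_neg hi]
        have : v k * u i = 0 := h6_vu_ne hn e u v he h1 h4 (Ne.symm hi)
        calc v k * (u i * (a (i, j) : R) * v j) * u l
            = (v k * u i) * ((a (i, j) : R) * v j * u l) := by simp only [mul_assoc]
          _ = 0 := by rw [this, zero_mul]
    simp only [hterm]
    rw [Finset.sum_eq_single k]
    · simp only [if_true]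
      rw [Finset.sum_eq_single l]
      · simp only [if_true]
      · intro j _ hj
        rw [if_neg hj]
      · intro h; exact absurd (Finset.mem_univ _) h
    · intro i _ hi
      simp only [if_neg hi, Finset.sum_const_zero]
    · intro h; exact absurd (Finset.mem_univ _) h
  let E : R ≃ₗ[F] (Fin n × Fin n → cornerSub F e0) :=
    { Φ with
      invFun := Ψ
      left_inv := hΨΦ
      right_inv := hΦΨ }
  rw [E.finrank_eq, Module.finrank_pi_fintype]
  simp [Finset.sum_const, Finset.card_univ, Fintype.card_prod, Fintype.card_fin]
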