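import Mathlib
import Cfsg.Agent.Lib.Helper75_BRDefs
import Cfsg.Agent.Lib.Helper78_CentralNilp
import Cfsg.Agent.Lib.Helper78_CharFacts

/-!
# brandt_packages A7a (MOR1), helper6: `A/[A,A]` is a quotient of `R/[R,R]` for the corner
`A = e₀ R e₀`.
-/

set_option autoImplicit false

namespace Cfsg.Agent.Lib.Helper6_BR_A7a

open Cfsg Cfsg.Agent.Lib.Helper78_LocalRing Cfsg.Agent.Lib.Helper78_GroupRing
  Cfsg.Agent.Lib.Helper79_Residue Cfsg.Agent.Lib.Helper75_BRDefs

universe u v w

variable {F : Type v} [Field F] {R : Type w} [Ring R] [Algebra F R]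

/-- The commutator subspace of the corner lies in the corner. -/
theorem h6_commSpanIn_le (e0 : R) :
    commSpanIn F (cornerSub F e0) ≤ cornerSub F e0 := by
  unfold commSpanIn
  rw [Submodule.span_le]
  rintro z ⟨a, ⟨ha1, ha2⟩, b, ⟨hb1, hb2⟩, rfl⟩
  refine ⟨?_, ?_⟩
  · rw [mul_sub, ← mul_assoc, ← mul_assoc, ha1, hb1]
  · rw [sub_mul, mul_assoc, mul_assoc, ha2, hb2]

/-- **A7a (MOR1)**. `A/[A,A]` is a quotient of `R/[R,R]` for the corner `A = e₀ R e₀`. -/
theorem corner_codim_le [FiniteDimensional F R] {n : ℕ} (hn : 0 < n)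
    (e u v : Fin n → R) (he : CompleteOrthogonalIdempotents e)
    (h1 : ∀ i, e i * u i = u i) (h2 : ∀ i, u i * e ⟨0, hn⟩ = u i)
    (h3 : ∀ i, e ⟨0, hn⟩ * v i = v i) (h4 : ∀ i, v i * e i = v i)
    (h5 : ∀ i, v i * u i = e ⟨0, hn⟩) (h6 : ∀ i, u i * v i = e i) :
    Module.finrank F (cornerSub F (e ⟨0, hn⟩)) + Module.finrank F (commSpan F R) ≤
      Module.finrank F (commSpanIn F (cornerSub F (e ⟨0, hn⟩))) + Module.finrank F R := by
  classical
  set z0 : Fin n := ⟨0, hn⟩ with hz0
  set e0 := e z0 with he0
  set A := cornerSub F e0 with hA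
  set KA := commSpanIn F A with hKA
  -- the map t
  let t : R →ₗ[F] R :=
    { toFun := fun b => ∑ j, v j * b * u j
      map_add' := by
        intro b c
        simp only [mul_add, add_mul, Finset.sum_add_distrib]
      map_smul' := by
        intro c b
        simp only [mul_smul_comm, smul_mul_assoc, Finset.smul_sum, RingHom.id_apply] }
  have ht : ∀ b, t b = ∑ j, v j * b * u j := fun b => rfl
  have hmemA : ∀ (i j : Fin n) (b : R), v i * b * u j ∈ A := by
    intro i j b
    refine ⟨?_, ?_⟩
    · rw [← mul_assoc, ← mul_assoc, h3]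
    · rw [mul_assoc, h2]
  -- (2) t a - a ∈ KA for a ∈ A
  have h2' : ∀ a ∈ A, t a - a ∈ KA := by
    intro a ha
    obtain ⟨ha1, ha2⟩ := ha
    have hta : t a = v z0 * a * u z0 := by
      rw [ht]
      apply Finset.sum_eq_single z0
      · intro j _ hj
        have : v j * e0 = 0 := by
          rw [← h4 j, mul_assoc, he.ortho hj, mul_zero]
        rw [← ha1, ← mul_assoc (v j), this, zero_mul, zero_mul]
      · intro h; exact absurd (Finset.mem_univ _) h
    have hv0 : v z0 ∈ A := ⟨h3 z0, h4 z0⟩
    have hau : a * u z0 ∈ A := ⟨by rw [← mul_assoc, ha1], by rw [mul_assoc, h2]⟩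
    have : t a - a = v z0 * (a * u z0) - (a * u z0) * v z0 := by
      rw [hta, mul_assoc a, h6 z0, ha2, mul_assoc]
    rw [this]
    exact Submodule.subset_span ⟨v z0, hv0, a * u z0, hau, rfl⟩
  -- (3) t maps commSpan into KA
  have hsum1 : ∑ k, u k * v k = (1 : R) := by
    simp only [h6]; exact he.complete
  have h3' : commSpan F R ≤ KA.comap t := by
    unfold commSpan
    rw [Submodule.span_le]
    rintro z ⟨b, c, rfl⟩
    show t (b * c - c * b) ∈ KA
    have e1 : t (b * c) = ∑ j, ∑ k, (v j * b * u k) * (v k * c * u j) := by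
      rw [ht]
      apply Finset.sum_congr rfl
      intro j _
      calc v j * (b * c) * u j = v j * b * (∑ k, u k * v k) * (c * u j) := by
            rw [hsum1, mul_one]; simp only [mul_assoc]
        _ = ∑ k, (v j * b * u k) * (v k * c * u j) := by
            rw [Finset.mul_sum, Finset.sum_mul]
            apply Finset.sum_congr rfl
            intro k _
            simp only [mul_assoc]
    have e2 : t (c * b) = ∑ j, ∑ k, (v k * c * u j) * (v j * b * u k) := by
      rw [ht, Finset.sum_comm]
      apply Finset.sum_congr rfl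
      intro k _
      calc v k * (c * b) * u k = v k * c * (∑ j, u j * v j) * (b * u k) := by
            rw [hsum1, mul_one]; simp only [mul_assoc]
        _ = ∑ j, (v k * c * u j) * (v j * b * u k) := by
            rw [Finset.mul_sum, Finset.sum_mul]
            apply Finset.sum_congr rfl
            intro j _
            simp only [mul_assoc]
    rw [map_sub, e1, e2, ← Finset.sum_sub_distrib]
    apply Submodule.sum_mem
    intro j _
    rw [← Finset.sum_sub_distrib]
    apply Submodule.sum_mem
    intro k _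
    exact Submodule.subset_span ⟨_, hmemA j k b, _, hmemA k j c, rfl⟩
  -- counting
  let f : R →ₗ[F] (R ⧸ KA) := KA.mkQ ∘ₗ t
  have hrk := LinearMap.finrank_range_add_finrank_ker f
  have hKker : commSpan F R ≤ LinearMap.ker f := by
    intro x hx
    rw [LinearMap.mem_ker]
    show KA.mkQ (t x) = 0
    rw [Submodule.mkQ_apply, Submodule.Quotient.mk_eq_zero]
    exact h3' hx
  have hk1 : Module.finrank F (commSpan F R) ≤ Module.finrank F (LinearMap.ker f) :=
    Submodule.finrank_mono hKker
  -- restricted quotient map on A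
  let g : A →ₗ[F] (R ⧸ KA) := KA.mkQ ∘ₗ A.subtype
  have hrg := LinearMap.finrank_range_add_finrank_ker g
  have hgr : LinearMap.range g ≤ LinearMap.range f := by
    rintro y ⟨a, rfl⟩
    refine ⟨(a : R), ?_⟩
    show KA.mkQ (t a) = KA.mkQ (a : R)
    rw [Submodule.mkQ_apply, Submodule.mkQ_apply, Submodule.Quotient.eq]
    exact h2' a a.2
  have hk2 : Module.finrank F (LinearMap.range g) ≤ Module.finrank F (LinearMap.range f) :=
    Submodule.finrank_mono hgr
  have hkerg : LinearMap.ker g = KA.comap A.subtype := by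
    ext a
    rw [LinearMap.mem_ker, Submodule.mem_comap]
    show KA.mkQ (a : R) = 0 ↔ _
    rw [Submodule.mkQ_apply, Submodule.Quotient.mk_eq_zero]
    rfl
  have hKAle : KA ≤ A := h6_commSpanIn_le e0
  have hk3 : Module.finrank F (LinearMap.ker g) = Module.finrank F KA := by
    rw [hkerg]
    exact (Submodule.comapSubtypeEquivOfLe hKAle).finrank_eq
  omega
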