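import Mathlib

set_option autoImplicit false

namespace Cfsg.Agent.Helper6Cliff

open CliffordAlgebra
open scoped commutatorElement

/-- The quadratic form `-Σ xᵢ²` on `(ZMod 3)^n`. -/
noncomputable def qf (n : ℕ) : QuadraticForm (ZMod 3) (Fin n → ZMod 3) :=
  QuadraticMap.weightedSumSquares (ZMod 3) (fun _ : Fin n => (-1 : ZMod 3))

/-- The Clifford algebra of `qf n`. -/
abbrev Cl (n : ℕ) := CliffordAlgebra (qf n)

/-- Basis vectors inside the Clifford algebra. -/
noncomputable def e {n : ℕ} (k : Fin n) : Cl n := ι (qf n) (Pi.single k 1)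

theorem qf_single {n : ℕ} (k : Fin n) : qf n (Pi.single k 1) = -1 := by
  simp [qf, QuadraticMap.weightedSumSquares_apply, Pi.single_apply]

theorem qf_isOrtho {n : ℕ} {j k : Fin n} (h : j ≠ k) :
    (qf n).IsOrtho (Pi.single j 1) (Pi.single k 1) := by
  rw [QuadraticMap.isOrtho_def, qf_single, qf_single]
  simp only [qf, QuadraticMap.weightedSumSquares_apply, Pi.add_apply, Pi.single_apply]
  have : ∀ i : Fin n, ((if i = j then (1 : ZMod 3) else 0) + (if i = k then 1 else 0)) *
      ((if i = j then (1 : ZMod 3) else 0) + (if i = k then 1 else 0)) =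
      (if i = j then 1 else 0) + (if i = k then 1 else 0) := by
    intro i
    by_cases h1 : i = j
    · have : i ≠ k := fun h2 => h (h1.symm.trans h2)
      simp [h1, h]
    · by_cases h2 : i = k
      · subst h2; simp [h1]
      · simp [h1, h2]
  simp only [this, smul_eq_mul, mul_add, Finset.sum_add_distrib]
  simp

theorem e_sq {n : ℕ} (k : Fin n) : e k * e k = -1 := by
  rw [e, ι_sq_scalar, qf_single]; simp

theorem e_anticomm {n : ℕ} {j k : Fin n} (h : j ≠ k) : e j * e k = -(e k * e j) :=
  ι_mul_ι_comm_of_isOrtho (qf_isOrtho h)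

/-- Abstract simultaneous-eigenvector lemma: if `B` spans `M`, every `b ∈ B` is a `±1`-eigenvector
of each `T a`, and `x` is fixed by all `T a`, `a ∈ J`, then `x` lies in the span of those `b ∈ B`
fixed by all `T a`, `a ∈ J`. -/
theorem mem_span_fixed {R M A : Type*} [CommRing R] [Invertible (2 : R)] [AddCommGroup M]
    [Module R M] [DecidableEq A] (T : A → M →ₗ[R] M) (B : Set M)
    (hB : Submodule.span R B = ⊤) (hT : ∀ a, ∀ b ∈ B, T a b = b ∨ T a b = -b)
    (J : Finset A) (x : M) (hx : ∀ a ∈ J, T a x = x) :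
    x ∈ Submodule.span R {b | b ∈ B ∧ ∀ a ∈ J, T a b = b} := by
  induction J using Finset.induction_on with
  | empty =>
    have : {b | b ∈ B ∧ ∀ a ∈ (∅ : Finset A), T a b = b} = B := by
      ext b; simp
    rw [this, hB]; trivial
  | insert a J ha ih =>
    have hxJ : x ∈ Submodule.span R {b | b ∈ B ∧ ∀ a ∈ J, T a b = b} :=
      ih (fun a' ha' => hx a' (Finset.mem_insert_of_mem ha'))
    set Z' := Submodule.span R {b | b ∈ B ∧ ∀ a' ∈ insert a J, T a' b = b} with hZ'
    have hS : ∀ y ∈ Submodule.span R {b | b ∈ B ∧ ∀ a ∈ J, T a b = b},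
        y + T a y ∈ Z' := by
      intro y hy
      induction hy using Submodule.span_induction with
      | mem b hb =>
        rcases hT a b hb.1 with h | h
        · rw [h]
          have : b ∈ Z' := Submodule.subset_span ⟨hb.1, fun a' ha' => by
            rcases Finset.mem_insert.mp ha' with rfl | h'
            · exact h
            · exact hb.2 a' h'⟩
          exact Z'.add_mem this this
        · rw [h, add_neg_cancel]; exact Z'.zero_mem
      | zero => simp
      | add y z _ _ hy hz =>
        have : y + z + T a (y + z) = (y + T a y) + (z + T a z) := by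
          rw [map_add]; abel
        rw [this]; exact Z'.add_mem hy hz
      | smul r y _ hy =>
        have : r • y + T a (r • y) = r • (y + T a y) := by
          rw [map_smul, smul_add]
        rw [this]; exact Z'.smul_mem r hy
    have h2 := hS x hxJ
    rw [hx a (Finset.mem_insert_self a J)] at h2
    have h3 : x = (⅟2 : R) • (x + x) := by
      rw [← two_smul R x, smul_smul, invOf_mul_self, one_smul]
    rw [h3]; exact Z'.smul_mem _ h2


instance invertibleTwo : Invertible (2 : ZMod 3) := ⟨2, by decide, by decide⟩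

theorem algebraMap_injective (n : ℕ) :
    Function.Injective (algebraMap (ZMod 3) (Cl n)) := by
  intro a b hab
  have h := congrArg (equivExterior (qf n)) hab
  simp only [equivExterior, changeFormEquiv_apply, changeForm_algebraMap] at h
  exact (ExteriorAlgebra.algebraMap_leftInverse (Fin n → ZMod 3)).injective h

instance (n : ℕ) : Nontrivial (Cl n) := (algebraMap_injective n).nontrivial

theorem three_eq_zero (n : ℕ) : (3 : Cl n) = 0 := by
  have : (3 : Cl n) = algebraMap (ZMod 3) (Cl n) 3 := (map_ofNat (algebraMap (ZMod 3) (Cl n)) 3).symm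
  rw [this, show (3 : ZMod 3) = 0 from by decide, map_zero]

theorem neg_two_eq_one (n : ℕ) : (-2 : Cl n) = 1 := by
  have := three_eq_zero n
  have h : (3 : Cl n) = 2 + 1 := by norm_num
  rw [h] at this
  exact (neg_eq_of_add_eq_zero_right this)

/-- The word `e_{l₁} e_{l₂} ⋯` in the Clifford algebra. -/
noncomputable def wd {n : ℕ} (l : List (Fin n)) : Cl n := (l.map e).prod

@[simp] theorem wd_nil {n : ℕ} : wd ([] : List (Fin n)) = 1 := by simp [wd]

@[simp] theorem wd_cons {n : ℕ} (i : Fin n) (l : List (Fin n)) : wd (i :: l) = e i * wd l := by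
  simp [wd]

theorem wd_append {n : ℕ} (l l' : List (Fin n)) : wd (l ++ l') = wd l * wd l' := by
  simp [wd]

theorem ι_eq_sum {n : ℕ} (v : Fin n → ZMod 3) : ι (qf n) v = ∑ k, v k • e k := by
  conv_lhs => rw [pi_eq_sum_univ v]
  simp only [map_sum, e]
  refine Finset.sum_congr rfl (fun k _ => ?_)
  rw [← map_smul]
  congr 1
  ext j
  simp [Pi.single_apply, eq_comm]

theorem span_wd (n : ℕ) : Submodule.span (ZMod 3) (Set.range (wd (n := n))) = ⊤ := by
  have h1 : Algebra.adjoin (ZMod 3) (Set.range (e (n := n))) = ⊤ := by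
    rw [eq_top_iff, ← adjoin_range_ι (Q := qf n)]
    apply Algebra.adjoin_le
    rintro _ ⟨v, rfl⟩
    rw [ι_eq_sum]
    refine Subalgebra.sum_mem _ (fun k _ => Subalgebra.smul_mem _
      (Algebra.subset_adjoin (Set.mem_range_self k)) _)
  have h2 := Algebra.adjoin_eq_span (ZMod 3) (Set.range (e (n := n)))
  rw [h1] at h2
  rw [eq_top_iff]
  have h3 : (Submonoid.closure (Set.range (e (n := n))) : Set (Cl n)) ⊆ Set.range wd := by
    intro x hx
    induction hx using Submonoid.closure_induction with
    | mem x hx => obtain ⟨k, rfl⟩ := hx; exact ⟨[k], by simp⟩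
    | one => exact ⟨[], by simp⟩
    | mul x y _ _ hx hy =>
      obtain ⟨l, rfl⟩ := hx; obtain ⟨l', rfl⟩ := hy
      exact ⟨l ++ l', wd_append l l'⟩
  calc (⊤ : Submodule (ZMod 3) (Cl n)) = Subalgebra.toSubmodule ⊤ := by simp
    _ = Submodule.span (ZMod 3) (Submonoid.closure (Set.range (e (n := n))) : Set (Cl n)) := h2
    _ ≤ _ := Submodule.span_mono h3

/-- Sign rule for moving a basis vector through a word. -/
theorem e_mul_wd {n : ℕ} (k : Fin n) (l : List (Fin n)) :
    e k * wd l = (-1) ^ (l.countP (· ≠ k)) * (wd l * e k) := by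
  induction l with
  | nil => simp
  | cons i l ih =>
    rw [wd_cons]
    by_cases h : i = k
    · subst h
      have : (List.countP (· ≠ i) (i :: l)) = List.countP (· ≠ i) l := by
        simp [List.countP_cons]
      rw [this, mul_assoc, ih]
      have hc : Commute ((-1 : Cl n) ^ (List.countP (· ≠ i) l)) (e i) :=
        (Commute.neg_one_left _).pow_left _
      rw [← mul_assoc, ← hc.eq, mul_assoc]
    · have : (List.countP (· ≠ k) (i :: l)) = List.countP (· ≠ k) l + 1 := by
        simp [List.countP_cons, h]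
      rw [this, ← mul_assoc, e_anticomm (Ne.symm h), neg_mul, mul_assoc, ih, pow_succ]
      have hc : Commute ((-1 : Cl n) ^ (List.countP (· ≠ k) l)) (e i) :=
        (Commute.neg_one_left _).pow_left _
      rw [← mul_assoc (e i), ← hc.eq]
      simp only [mul_assoc, mul_neg, mul_one, neg_mul, one_mul]


theorem isUnit_e {n : ℕ} (k : Fin n) : IsUnit (e k) :=
  ⟨⟨e k, -e k, by rw [mul_neg, e_sq, neg_neg], by rw [neg_mul, e_sq, neg_neg]⟩, rfl⟩

theorem isUnit_wd {n : ℕ} (l : List (Fin n)) : IsUnit (wd l) := by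
  induction l with
  | nil => simp
  | cons i l ih => rw [wd_cons]; exact (isUnit_e i).mul ih

theorem even_of_neg_one_pow_mul {n : ℕ} {w : Cl n} (hw : IsUnit w) {m : ℕ}
    (h : (-1) ^ m * w = w) : Even m := by
  by_contra hm
  rw [Nat.not_even_iff_odd] at hm
  rw [hm.neg_one_pow, neg_one_mul] at h
  have h2 : (2 : Cl n) * w = 0 := by
    rw [two_mul]; nth_rewrite 1 [← h]; exact neg_add_cancel w
  have h3 : (2 : Cl n) = 0 := by
    obtain ⟨u, rfl⟩ := hw
    have := congrArg (· * ((u⁻¹ : (Cl n)ˣ) : Cl n)) h2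
    simpa [mul_assoc] using this
  have h4 := neg_two_eq_one n
  rw [h3, neg_zero] at h4
  exact zero_ne_one h4

theorem involute_e {n : ℕ} (k : Fin n) : involute (e k) = -e k := involute_ι _

theorem reverse_e {n : ℕ} (k : Fin n) : reverse (e k) = e k := reverse_ι _

theorem involute_wd {n : ℕ} (l : List (Fin n)) :
    involute (wd l) = (-1) ^ l.length * wd l := by
  induction l with
  | nil => simp
  | cons i l ih =>
    rw [wd_cons, map_mul, ih, involute_e, List.length_cons, pow_succ]
    have hc : Commute ((-1 : Cl n) ^ l.length) (e i) := (Commute.neg_one_left _).pow_left _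
    rw [neg_mul, ← mul_assoc, ← hc.eq]
    simp only [mul_assoc, mul_neg, mul_one, neg_mul]

/-- Conjugation by `e k` as a linear map: `x ↦ -(e k * x * e k) = e k * x * (e k)⁻¹`. -/
noncomputable def conjOp {n : ℕ} (k : Fin n) : Cl n →ₗ[ZMod 3] Cl n :=
  -((LinearMap.mulLeft (ZMod 3) (e k)).comp (LinearMap.mulRight (ZMod 3) (e k)))

theorem conjOp_apply {n : ℕ} (k : Fin n) (x : Cl n) : conjOp k x = -(e k * (x * e k)) := by
  simp [conjOp]

theorem conjOp_wd {n : ℕ} (k : Fin n) (l : List (Fin n)) :
    conjOp k (wd l) = (-1) ^ (l.countP (· ≠ k)) * wd l := by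
  rw [conjOp_apply, ← mul_assoc, e_mul_wd, mul_assoc, mul_assoc, e_sq]
  simp

theorem conjOp_of_comm {n : ℕ} (k : Fin n) {x : Cl n} (h : x * e k = e k * x) :
    conjOp k x = x := by
  rw [conjOp_apply, h, ← mul_assoc, e_sq]; simp

/-- The family of operators: the grade involution and conjugations by basis vectors. -/
noncomputable def opT {n : ℕ} : Option (Fin n) → (Cl n →ₗ[ZMod 3] Cl n)
  | none => (involute (Q := qf n)).toLinearMap
  | some k => conjOp k

theorem neg_one_pow_mul_cases {n : ℕ} (m : ℕ) (w : Cl n) :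
    (-1) ^ m * w = w ∨ (-1) ^ m * w = -w := by
  rcases Nat.even_or_odd m with h | h
  · left; rw [h.neg_one_pow, one_mul]
  · right; rw [h.neg_one_pow, neg_one_mul]

theorem opT_wd {n : ℕ} (a : Option (Fin n)) (b : Cl n) (hb : b ∈ Set.range (wd (n := n))) :
    opT a b = b ∨ opT a b = -b := by
  obtain ⟨l, rfl⟩ := hb
  cases a with
  | none =>
    show involute (wd l) = _ ∨ involute (wd l) = _
    rw [involute_wd]; exact neg_one_pow_mul_cases _ _
  | some k =>
    show conjOp k (wd l) = _ ∨ conjOp k (wd l) = _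
    rw [conjOp_wd]; exact neg_one_pow_mul_cases _ _

/-- A word in which every letter occurs an even number of times is `±1`. -/
theorem wd_of_even_count {n : ℕ} : ∀ (m : ℕ) (l : List (Fin n)), l.length = m →
    (∀ k, Even (l.count k)) → wd l = 1 ∨ wd l = -1 := by
  intro m
  induction m using Nat.strong_induction_on with
  | _ m ih =>
    intro l hl hev
    cases l with
    | nil => left; simp
    | cons i l' =>
      have h1 : Even (List.count i (i :: l')) := hev i
      rw [List.count_cons_self] at h1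
      have h2 : i ∈ l' := by
        by_contra hni
        rw [List.count_eq_zero_of_not_mem hni] at h1
        exact absurd h1 (by decide)
      obtain ⟨s, t, rfl⟩ := List.append_of_mem h2
      have hlen : (s ++ t).length < m := by
        rw [← hl]; simp
      have hev' : ∀ k, Even ((s ++ t).count k) := by
        intro k
        have := hev k
        rw [List.count_cons, List.count_append, List.count_cons] at this
        rw [List.count_append]
        by_cases hk : i = k
        · subst hk
          simp only [beq_self_eq_true, if_true] at this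
          have h3 : List.count i s + (List.count i t + 1) + 1 = (List.count i s + List.count i t) + 2 := by ring
          rw [h3] at this
          exact (Nat.even_add.mp this).mpr (by decide)
        · have hk' : (i == k) = false := by simpa using hk
          simpa [hk'] using this
      have key : wd (i :: (s ++ i :: t)) = (-1) ^ (s.countP (· ≠ i) + 1) * wd (s ++ t) := by
        rw [wd_cons, wd_append, wd_cons, wd_append, ← mul_assoc, e_mul_wd, pow_succ]
        have hc : Commute ((-1 : Cl n) ^ (List.countP (· ≠ i) s)) (wd s) :=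
          (Commute.neg_one_left _).pow_left _
        simp only [mul_assoc]
        rw [← mul_assoc (e i) (e i), e_sq]
        simp
      rw [key]
      generalize (List.countP (· ≠ i) s + 1) = c
      rcases ih _ hlen (s ++ t) rfl hev' with h | h <;> rw [h] <;>
        rcases Nat.even_or_odd c with h' | h' <;> rw [h'.neg_one_pow] <;> simp

/-- **Centre lemma**: an even element of the Clifford algebra commuting with all basis vectors
is a scalar. -/
theorem scalar_of_comm {n : ℕ} (x : Cl n) (hinv : involute x = x)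
    (hcomm : ∀ k, x * e k = e k * x) : ∃ c : ZMod 3, x = algebraMap (ZMod 3) (Cl n) c := by
  classical
  have hx : ∀ a ∈ (Finset.univ : Finset (Option (Fin n))), opT a x = x := by
    intro a _
    cases a with
    | none => exact hinv
    | some k => exact conjOp_of_comm k (hcomm k)
  have h1 := mem_span_fixed opT (Set.range (wd (n := n))) (span_wd n) opT_wd Finset.univ x hx
  have h2 : Submodule.span (ZMod 3) {b | b ∈ Set.range (wd (n := n)) ∧
      ∀ a ∈ (Finset.univ : Finset (Option (Fin n))), opT a b = b} ≤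
      Subalgebra.toSubmodule (⊥ : Subalgebra (ZMod 3) (Cl n)) := by
    rw [Submodule.span_le]
    rintro b ⟨⟨l, rfl⟩, hb⟩
    have hlen : Even l.length := by
      have := hb none (Finset.mem_univ _)
      change involute (wd l) = wd l at this
      rw [involute_wd] at this
      exact even_of_neg_one_pow_mul (isUnit_wd l) this
    have hcnt : ∀ k, Even (l.count k) := by
      intro k
      have := hb (some k) (Finset.mem_univ _)
      change conjOp k (wd l) = wd l at this
      rw [conjOp_wd] at this
      have h3 := even_of_neg_one_pow_mul (isUnit_wd l) this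
      have h4 := List.length_eq_countP_add_countP (· == k) (l := l)
      have h5 : List.countP (fun a => decide ¬(a == k) = true) l = List.countP (· ≠ k) l := by
        congr 1; ext a; simp
      rw [h5] at h4
      rw [List.count]
      rw [h4] at hlen
      exact (Nat.even_add.mp hlen).mpr h3
    have hmem : wd l = 1 ∨ wd l = -1 := wd_of_even_count _ l rfl hcnt
    rcases hmem with h | h
    · show wd l ∈ (⊥ : Subalgebra (ZMod 3) (Cl n)); rw [h]; exact Subalgebra.one_mem _
    · show wd l ∈ (⊥ : Subalgebra (ZMod 3) (Cl n)); rw [h]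
      exact Subalgebra.neg_mem _ (Subalgebra.one_mem _)
  have h3 := h2 h1
  rw [Subalgebra.mem_toSubmodule, Algebra.mem_bot] at h3
  obtain ⟨c, hc⟩ := h3
  exact ⟨c, hc.symm⟩


/-- `u i j = e i - e j`: the vector whose reflection is the transposition `(i j)`. -/
noncomputable def u {n : ℕ} (i j : Fin n) : Cl n := e i - e j

theorem u_sq {n : ℕ} {i j : Fin n} (h : i ≠ j) : u i j * u i j = 1 := by
  have h1 : u i j * u i j = e i * e i - e i * e j - e j * e i + e j * e j := by
    simp only [u]; noncomm_ring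
  rw [h1, e_sq, e_sq, e_anticomm h]
  have := neg_two_eq_one n
  rw [← this]; noncomm_ring

theorem u_mul_e {n : ℕ} {i j : Fin n} (h : i ≠ j) (m : Fin n) :
    u i j * e m = -(e (Equiv.swap i j m) * u i j) := by
  by_cases h1 : m = i
  · subst h1
    rw [Equiv.swap_apply_left]
    simp only [u, sub_mul, mul_sub, e_sq, e_anticomm h]
    noncomm_ring
  · by_cases h2 : m = j
    · subst h2
      rw [Equiv.swap_apply_right]
      simp only [u, sub_mul, mul_sub, e_sq, e_anticomm h]
      noncomm_ring
    · rw [Equiv.swap_apply_of_ne_of_ne h1 h2]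
      simp only [u, sub_mul, mul_sub, e_anticomm (Ne.symm h1), e_anticomm (Ne.symm h2)]
      noncomm_ring

theorem u_mul_u {n : ℕ} {i j : Fin n} (h : i ≠ j) (k l : Fin n) :
    u i j * u k l = -(u (Equiv.swap i j k) (Equiv.swap i j l) * u i j) := by
  have : u i j * u k l = u i j * e k - u i j * e l := by simp only [u]; noncomm_ring
  rw [this, u_mul_e h, u_mul_e h]
  simp only [u]; noncomm_ring

theorem u_mul_u_mul {n : ℕ} {i j : Fin n} (h : i ≠ j) (k l : Fin n) (x : Cl n) :
    u i j * (u k l * x) = -(u (Equiv.swap i j k) (Equiv.swap i j l) * (u i j * x)) := by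
  rw [← mul_assoc, u_mul_u h, neg_mul, mul_assoc]

theorem u_sq_mul {n : ℕ} {i j : Fin n} (h : i ≠ j) (x : Cl n) : u i j * (u i j * x) = x := by
  rw [← mul_assoc, u_sq h, one_mul]

theorem involute_u {n : ℕ} (i j : Fin n) : involute (u i j) = -u i j := by
  simp only [u, map_sub, involute_e]; abel

theorem reverse_u {n : ℕ} (i j : Fin n) : reverse (u i j) = u i j := by
  simp only [u, map_sub, reverse_e]

theorem e_injective {n : ℕ} : Function.Injective (e (n := n)) := by
  intro j k hjk
  by_contra h
  have h1 := e_anticomm h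
  rw [← hjk, e_sq] at h1
  have h2 : (2 : Cl n) = 0 := by
    have : (1 : Cl n) + 1 = 0 := by
      have := congrArg (fun x => x + (- (-1 : Cl n))) h1
      simp at this
      exact this.symm
    rw [← this]; norm_num
  have h4 := neg_two_eq_one n
  rw [h2, neg_zero] at h4
  exact zero_ne_one h4

/-- The lifting condition: `g` is even, conjugation by `g` permutes the basis vectors according
to `σ`, and `g` has spinor norm `1`. -/
def IsLift {n : ℕ} (g : Cl n) (σ : Equiv.Perm (Fin n)) : Prop :=
  involute g = g ∧ (∀ k, g * e k = e (σ k) * g) ∧ g * reverse g = 1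

theorem isLift_one {n : ℕ} : IsLift (1 : Cl n) 1 := by
  refine ⟨map_one _, fun k => by simp, by simp⟩

theorem IsLift.mul {n : ℕ} {g h : Cl n} {σ τ : Equiv.Perm (Fin n)} (hg : IsLift g σ)
    (hh : IsLift h τ) : IsLift (g * h) (σ * τ) := by
  refine ⟨by rw [map_mul, hg.1, hh.1], fun k => ?_, ?_⟩
  · rw [mul_assoc, hh.2.1, ← mul_assoc, hg.2.1, mul_assoc, Equiv.Perm.mul_apply]
  · rw [reverse.map_mul, mul_assoc, ← mul_assoc h, hh.2.2, one_mul, hg.2.2]

theorem IsLift.rev {n : ℕ} {g : Cl n} {σ : Equiv.Perm (Fin n)} (hg : IsLift g σ)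
    (hg' : reverse g * g = 1) : IsLift (reverse g) σ⁻¹ := by
  refine ⟨?_, fun k => ?_, ?_⟩
  · have := reverse_involute_commute (Q := qf n) g
    rw [← this, hg.1]
  · have h1 := hg.2.1 (σ⁻¹ k)
    have hs : σ (σ⁻¹ k) = k := by simp
    rw [hs] at h1
    -- g * e (σ⁻¹ k) = e k * g
    have h2 : reverse g * (g * e (σ⁻¹ k)) * reverse g = reverse g * (e k * g) * reverse g := by
      rw [h1]
    rw [← mul_assoc, hg', one_mul, mul_assoc, mul_assoc, hg.2.2, mul_one] at h2
    exact h2.symm
  · rw [reverse_reverse]; exact hg'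

theorem isLift_uu {n : ℕ} {i j k l : Fin n} (hij : i ≠ j) (hkl : k ≠ l) :
    IsLift (u i j * u k l) (Equiv.swap i j * Equiv.swap k l) := by
  refine ⟨?_, fun m => ?_, ?_⟩
  · rw [map_mul, involute_u, involute_u]; simp
  · rw [mul_assoc, u_mul_e hkl, mul_neg, ← mul_assoc, u_mul_e hij, neg_mul, neg_neg, mul_assoc,
      Equiv.Perm.mul_apply]
  · rw [reverse.map_mul, reverse_u, reverse_u, mul_assoc, u_sq_mul hkl, u_sq hij]


/-- The double cover of the alternating group inside `(Cl n)ˣ × A_n`. -/
noncomputable def cover (n : ℕ) : Subgroup ((Cl n)ˣ × alternatingGroup (Fin n)) where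
  carrier := {p | IsLift (p.1 : Cl n) (p.2 : Equiv.Perm (Fin n))}
  one_mem' := isLift_one
  mul_mem' := by
    intro p q hp hq
    exact IsLift.mul hp hq
  inv_mem' := by
    intro p hp
    have hp' : IsLift (p.1 : Cl n) (p.2 : Equiv.Perm (Fin n)) := hp
    have h1 : ((p.1⁻¹ : (Cl n)ˣ) : Cl n) = reverse (p.1 : Cl n) :=
      Units.inv_eq_of_mul_eq_one_right hp'.2.2
    have h2 : reverse (p.1 : Cl n) * (p.1 : Cl n) = 1 := by
      rw [← h1]; exact Units.inv_mul _
    show IsLift ((p.1⁻¹ : (Cl n)ˣ) : Cl n) ((p.2⁻¹ : alternatingGroup (Fin n)) : Equiv.Perm (Fin n))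
    rw [h1]
    exact hp'.rev h2

theorem mem_cover {n : ℕ} (p : (Cl n)ˣ × alternatingGroup (Fin n)) :
    p ∈ cover n ↔ IsLift (p.1 : Cl n) (p.2 : Equiv.Perm (Fin n)) := Iff.rfl

/-- The projection of the cover onto the alternating group. -/
noncomputable def coverHom (n : ℕ) : cover n →* alternatingGroup (Fin n) :=
  (MonoidHom.snd _ _).comp (cover n).subtype

@[simp] theorem coverHom_apply {n : ℕ} (p : cover n) : coverHom n p = p.1.2 := rfl

/-- The central element `(-1, 1)`. -/
noncomputable def zc (n : ℕ) : cover n :=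
  ⟨(-1, 1), by
    rw [mem_cover]
    refine ⟨by simp, fun k => by simp, by simp⟩⟩

theorem zc_ne_one (n : ℕ) : zc n ≠ 1 := by
  intro h
  have h1 : ((zc n).1.1 : Cl n) = ((1 : cover n).1.1 : Cl n) := by rw [h]
  simp only [zc] at h1
  have h2 : (-1 : Cl n) = 1 := by simpa using h1
  have h3 := neg_two_eq_one n
  have h4 : (2 : Cl n) = 0 := by
    have : (1 : Cl n) + 1 = 0 := by nth_rewrite 1 [← h2]; simp
    rw [← this]; norm_num
  rw [h4, neg_zero] at h3
  exact zero_ne_one h3

theorem zc_sq (n : ℕ) : zc n * zc n = 1 := by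
  apply Subtype.ext
  simp [zc]

theorem zc_central (n : ℕ) : zc n ∈ Subgroup.center (cover n) := by
  rw [Subgroup.mem_center_iff]
  intro g
  apply Subtype.ext
  apply Prod.ext
  · apply Units.ext; simp [zc]
  · simp [zc]

theorem orderOf_zc (n : ℕ) : orderOf (zc n) = 2 := by
  apply orderOf_eq_prime
  · rw [pow_two]; exact zc_sq n
  · exact zc_ne_one n

theorem ker_coverHom {n : ℕ} (p : cover n) (hp : coverHom n p = 1) : p = 1 ∨ p = zc n := by
  have hl : IsLift (p.1.1 : Cl n) (p.1.2 : Equiv.Perm (Fin n)) := p.2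
  rw [coverHom_apply] at hp
  have hσ : ((p.1.2 : alternatingGroup (Fin n)) : Equiv.Perm (Fin n)) = 1 := by rw [hp]; rfl
  rw [hσ] at hl
  obtain ⟨c, hc⟩ := scalar_of_comm (p.1.1 : Cl n) hl.1 (fun k => by simpa using hl.2.1 k)
  have h2 := hl.2.2
  rw [hc, reverse.commutes, ← map_mul] at h2
  have h3 : c * c = 1 := by
    apply algebraMap_injective n
    rw [h2, map_one]
  have h4 : c = 1 ∨ c = -1 := by
    have key : ∀ d : ZMod 3, d * d = 1 → d = 1 ∨ d = -1 := by decide
    exact key c h3
  rcases h4 with h4 | h4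
  · left
    apply Subtype.ext; apply Prod.ext
    · apply Units.ext; rw [hc, h4]; simp
    · exact hp
  · right
    apply Subtype.ext; apply Prod.ext
    · apply Units.ext; rw [hc, h4]; simp [zc]
    · simp [zc, hp]

theorem coverHom_ker (n : ℕ) : (coverHom n).ker = Subgroup.zpowers (zc n) := by
  ext p
  rw [MonoidHom.mem_ker]
  constructor
  · intro hp
    rcases ker_coverHom p hp with h | h
    · rw [h]; exact Subgroup.one_mem _
    · rw [h]; exact Subgroup.mem_zpowers _
  · intro hp
    obtain ⟨k, rfl⟩ := Subgroup.mem_zpowers_iff.mp hp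
    rw [map_zpow]
    have : coverHom n (zc n) = 1 := by simp [zc]
    rw [this, one_zpow]


/-- The unit `u i j * u k l`. -/
noncomputable def uuUnit {n : ℕ} {i j k l : Fin n} (hij : i ≠ j) (hkl : k ≠ l) : (Cl n)ˣ :=
  ⟨u i j * u k l, u k l * u i j, by rw [mul_assoc, u_sq_mul hkl, u_sq hij],
    by rw [mul_assoc, u_sq_mul hij, u_sq hkl]⟩

theorem swap_mul_swap_mem {n : ℕ} {i j k l : Fin n} (hij : i ≠ j) (hkl : k ≠ l) :
    Equiv.swap i j * Equiv.swap k l ∈ alternatingGroup (Fin n) := by
  rw [Equiv.Perm.mem_alternatingGroup, map_mul, Equiv.Perm.sign_swap hij, Equiv.Perm.sign_swap hkl]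
  rfl

/-- The lift of `(i j)(k l)`. -/
noncomputable def uuLift {n : ℕ} {i j k l : Fin n} (hij : i ≠ j) (hkl : k ≠ l) : cover n :=
  ⟨(uuUnit hij hkl, ⟨Equiv.swap i j * Equiv.swap k l, swap_mul_swap_mem hij hkl⟩), by
    rw [mem_cover]; exact isLift_uu hij hkl⟩

theorem coverHom_surjective (n : ℕ) : Function.Surjective (coverHom n) := by
  classical
  -- the subgroup of permutations admitting a lift
  let S : Subgroup (Equiv.Perm (Fin n)) :=
    ((coverHom n).range).map (alternatingGroup (Fin n)).subtype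
  have hS : ∀ s t : Equiv.Perm (Fin n), s.IsSwap → t.IsSwap → s * t ∈ S := by
    rintro s t ⟨i, j, hij, rfl⟩ ⟨k, l, hkl, rfl⟩
    exact ⟨⟨_, swap_mul_swap_mem hij hkl⟩, ⟨uuLift hij hkl, rfl⟩, rfl⟩
  have hind : ∀ (m : ℕ) (l : List (Equiv.Perm (Fin n))), (∀ g ∈ l, g.IsSwap) →
      l.length = 2 * m → l.prod ∈ S := by
    intro m
    induction m with
    | zero =>
      intro l _ hl
      rw [mul_zero, List.length_eq_zero_iff] at hl
      rw [hl, List.prod_nil]; exact S.one_mem
    | succ m ih =>
      intro l hl hlen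
      match l, hl, hlen with
      | [], _, hlen => simp at hlen
      | [a], _, hlen => simp at hlen; omega
      | a :: b :: l', hl, hlen =>
        rw [List.prod_cons, List.prod_cons, ← mul_assoc]
        refine S.mul_mem (hS a b (hl a (by simp)) (hl b (by simp))) (ih l' ?_ ?_)
        · intro g hg; exact hl g (by simp [hg])
        · simp at hlen; omega
  rintro ⟨σ, hσ⟩
  obtain ⟨l, hl1, hl2⟩ := (Equiv.Perm.truncSwapFactors σ).out
  have hev : Even l.length := by
    rw [← Equiv.Perm.prod_list_swap_mem_alternatingGroup_iff_even_length hl2, hl1]; exact hσ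
  obtain ⟨m, hm⟩ := hev
  have := hind m l hl2 (by omega)
  rw [hl1] at this
  obtain ⟨τ, ⟨p, hp⟩, hτ⟩ := this
  refine ⟨p, ?_⟩
  rw [hp]
  apply Subtype.ext
  exact hτ

theorem cover_finite (n : ℕ) : Finite (cover n) := by
  have h1 : Finite ((coverHom n).ker) := by
    rw [coverHom_ker]
    have : IsOfFinOrder (zc n) := by
      rw [← orderOf_pos_iff, orderOf_zc]; norm_num
    exact this.finite_zpowers.to_subtype
  have h2 : Finite (cover n ⧸ (coverHom n).ker) :=
    Finite.of_equiv _ (QuotientGroup.quotientKerEquivRange (coverHom n)).symm.toEquiv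
  exact Finite.of_equiv _ (Subgroup.groupEquivQuotientProdSubgroup (s := (coverHom n).ker)).symm


/-- The Clifford-algebra identity behind `[a, b] = z`. -/
theorem comm_identity {n : ℕ} {a b c d : Fin n} (hab : a ≠ b) (hac : a ≠ c) (had : a ≠ d)
    (hbc : b ≠ c) (hbd : b ≠ d) (hcd : c ≠ d) :
    u a b * u c d * (u a c * u b d) * (u c d * u a b) * (u b d * u a c) = -1 := by
  have s1 : u c d * (u a c * (u b d * (u c d * (u a b * (u b d * u a c))))) =
      u a d * (u b c * (u a b * (u b d * u a c))) := by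
    rw [u_mul_u_mul hcd a c, Equiv.swap_apply_of_ne_of_ne hac had, Equiv.swap_apply_left,
      u_mul_u_mul hcd b d, Equiv.swap_apply_of_ne_of_ne hbc hbd, Equiv.swap_apply_right,
      u_sq_mul hcd]
    simp only [mul_neg, neg_mul, neg_neg]
  have s2 : u a b * (u a d * (u b c * (u a b * (u b d * u a c)))) =
      u b d * (u a c * (u b d * u a c)) := by
    rw [u_mul_u_mul hab a d, Equiv.swap_apply_left,
      Equiv.swap_apply_of_ne_of_ne (Ne.symm had) (Ne.symm hbd),
      u_mul_u_mul hab b c, Equiv.swap_apply_right,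
      Equiv.swap_apply_of_ne_of_ne (Ne.symm hac) (Ne.symm hbc), u_sq_mul hab]
    simp only [mul_neg, neg_mul, neg_neg]
  have s3 : u a c * (u b d * u a c) = -u b d := by
    rw [u_mul_u hbd a c, Equiv.swap_apply_of_ne_of_ne hab had,
      Equiv.swap_apply_of_ne_of_ne (Ne.symm hbc) hcd, mul_neg, u_sq_mul hac]
  simp only [mul_assoc]
  rw [s1, s2, s3, mul_neg, u_sq hbd]

theorem perm_eq_one_of_neg_one {n : ℕ} (p : cover n) (h : ((p.1.1 : (Cl n)ˣ) : Cl n) = -1) :
    p = zc n := by
  have hl : IsLift (p.1.1 : Cl n) (p.1.2 : Equiv.Perm (Fin n)) := p.2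
  apply Subtype.ext; apply Prod.ext
  · apply Units.ext; rw [h]; simp [zc]
  · apply Subtype.ext
    ext k
    have h1 := hl.2.1 k
    rw [h] at h1
    have h2 : e k = e ((p.1.2 : Equiv.Perm (Fin n)) k) := by simpa using h1
    have h3 := e_injective h2
    simp [zc, ← h3]

theorem zc_mem_commutator {n : ℕ} (hn : 4 ≤ n) : zc n ∈ commutator (cover n) := by
  have h01 : (⟨0, by omega⟩ : Fin n) ≠ ⟨1, by omega⟩ := by simp [Fin.ext_iff]
  have h02 : (⟨0, by omega⟩ : Fin n) ≠ ⟨2, by omega⟩ := by simp [Fin.ext_iff]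
  have h03 : (⟨0, by omega⟩ : Fin n) ≠ ⟨3, by omega⟩ := by simp [Fin.ext_iff]
  have h12 : (⟨1, by omega⟩ : Fin n) ≠ ⟨2, by omega⟩ := by simp [Fin.ext_iff]
  have h13 : (⟨1, by omega⟩ : Fin n) ≠ ⟨3, by omega⟩ := by simp [Fin.ext_iff]
  have h23 : (⟨2, by omega⟩ : Fin n) ≠ ⟨3, by omega⟩ := by simp [Fin.ext_iff]
  have key : ⁅uuLift h01 h23, uuLift h02 h13⁆ = zc n := by
    apply perm_eq_one_of_neg_one
    rw [commutatorElement_def]
    simp only [uuLift, uuUnit, Subgroup.coe_mul, Subgroup.coe_inv, Prod.fst_mul, Prod.fst_inv,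
      Units.val_mul, Units.inv_mk]
    exact comm_identity h01 h02 h03 h12 h13 h23
  rw [← key, commutator_def]
  exact Subgroup.commutator_mem_commutator (Subgroup.mem_top _) (Subgroup.mem_top _)


end Cfsg.Agent.Helper6Cliff
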