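import Mathlib
import Cfsg.Agent.Lib.Helper6_Cliff
import Cfsg.Prelude.Def_SporadicB

set_option autoImplicit false
set_option linter.unusedSimpArgs false

namespace Cfsg.Agent.Helper6Cliff

open CliffordAlgebra
open scoped commutatorElement

theorem center_cover {n : ℕ} (hn : 4 ≤ n) : Subgroup.center (cover n) = Subgroup.zpowers (zc n) := by
  apply le_antisymm
  · intro p hp
    rw [← coverHom_ker, MonoidHom.mem_ker]
    have h1 : coverHom n p ∈ Subgroup.center (alternatingGroup (Fin n)) := by
      rw [Subgroup.mem_center_iff]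
      intro g
      obtain ⟨q, rfl⟩ := coverHom_surjective n g
      rw [← map_mul, ← map_mul, Subgroup.mem_center_iff.mp hp q]
    rw [alternatingGroup.center_eq_bot (by simpa using hn), Subgroup.mem_bot] at h1
    exact h1
  · rw [Subgroup.zpowers_le]
    exact zc_central n

theorem cover_nonsplit {n : ℕ} (hn : 4 ≤ n) :
    Cfsg.IsNonsplitDoubleCover (cover n) (alternatingGroup (Fin n)) := by
  have hfin := cover_finite n
  refine ⟨?_, ?_, ?_⟩
  · rw [center_cover hn, Nat.card_zpowers, orderOf_zc]
  · exact ⟨(QuotientGroup.quotientMulEquivOfEq ((center_cover hn).trans (coverHom_ker n).symm)).trans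
      (QuotientGroup.quotientKerEquivOfSurjective (coverHom n) (coverHom_surjective n))⟩
  · intro L hL
    have hidx : L.index = 2 := by
      rw [hL.index_eq_card, center_cover hn, Nat.card_zpowers, orderOf_zc]
    have hLn : L.Normal := Subgroup.normal_of_index_eq_two hidx
    have hcard : Nat.card (cover n ⧸ L) = 2 := by rw [← Subgroup.index_eq_card]; exact hidx
    have hcyc : IsCyclic (cover n ⧸ L) := isCyclic_of_prime_card hcard
    let _ : CommGroup (cover n ⧸ L) := IsCyclic.commGroup
    have h1 : commutator (cover n) ≤ (QuotientGroup.mk' L).ker :=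
      Abelianization.commutator_subset_ker _
    rw [QuotientGroup.ker_mk'] at h1
    have h2 : zc n ∈ L := h1 (zc_mem_commutator hn)
    have h3 : zc n ∈ Subgroup.center (cover n) ⊓ L := ⟨zc_central n, h2⟩
    rw [hL.disjoint.eq_bot, Subgroup.mem_bot] at h3
    exact zc_ne_one n h3

theorem anti_assoc {R : Type*} [Ring R] {X Y : R} (h : X * Y = -(Y * X)) (W : R) :
    X * (Y * W) = -(Y * (X * W)) := by
  rw [← mul_assoc, h, neg_mul, mul_assoc]

theorem anti_symm {R : Type*} [Ring R] {X Y : R} (h : X * Y = -(Y * X)) : Y * X = -(X * Y) := by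
  rw [h, neg_neg]

theorem sq_assoc {R : Type*} [Ring R] {X : R} (h : X * X = 1) (W : R) : X * (X * W) = W := by
  rw [← mul_assoc, h, one_mul]

/-- Four pairwise anticommuting involutions have a product which is an involution. -/
theorem sq_of_anticomm4 {R : Type*} [Ring R] (A B C D : R) (hA : A * A = 1) (hB : B * B = 1)
    (hC : C * C = 1) (hD : D * D = 1) (hAB : A * B = -(B * A)) (hAC : A * C = -(C * A))
    (hAD : A * D = -(D * A)) (hBC : B * C = -(C * B)) (hBD : B * D = -(D * B))
    (hCD : C * D = -(D * C)) : (A * B * (C * D)) * (A * B * (C * D)) = 1 := by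
  have e1 : A * (B * (C * (D * (A * (B * (C * D)))))) = -(B * (C * (D * (B * (C * D))))) := by
    rw [anti_assoc (anti_symm hAD)]
    simp only [mul_neg, neg_mul, neg_neg]
    rw [anti_assoc (anti_symm hAC)]
    simp only [mul_neg, neg_mul, neg_neg]
    rw [anti_assoc (anti_symm hAB)]
    simp only [mul_neg, neg_mul, neg_neg]
    rw [sq_assoc hA]
  have e2 : B * (C * (D * (B * (C * D)))) = C * (D * (C * D)) := by
    rw [anti_assoc (anti_symm hBD)]
    simp only [mul_neg, neg_mul, neg_neg]
    rw [anti_assoc (anti_symm hBC)]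
    simp only [mul_neg, neg_mul, neg_neg]
    rw [sq_assoc hB]
  have e3 : C * (D * (C * D)) = -1 := by
    rw [anti_assoc (anti_symm hCD)]
    simp only [mul_neg, neg_mul, neg_neg]
    rw [sq_assoc hC, hD]
  simp only [mul_assoc]
  rw [e1, e2, e3, neg_neg]

theorem u_anticomm {n : ℕ} {a b c d : Fin n} (hab : a ≠ b) (hac : a ≠ c) (had : a ≠ d)
    (hbc : b ≠ c) (hbd : b ≠ d) : u a b * u c d = -(u c d * u a b) := by
  rw [u_mul_u hab, Equiv.swap_apply_of_ne_of_ne (Ne.symm hac) (Ne.symm hbc),
    Equiv.swap_apply_of_ne_of_ne (Ne.symm had) (Ne.symm hbd)]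

theorem eq_one_of_val_one {n : ℕ} (p : cover n) (h : ((p.1.1 : (Cl n)ˣ) : Cl n) = 1) : p = 1 := by
  have hl : IsLift (p.1.1 : Cl n) (p.1.2 : Equiv.Perm (Fin n)) := p.2
  apply Subtype.ext; apply Prod.ext
  · apply Units.ext; rw [h]; simp
  · apply Subtype.ext
    ext k
    have h1 := hl.2.1 k
    rw [h] at h1
    have h2 : e k = e ((p.1.2 : Equiv.Perm (Fin n)) k) := by simpa using h1
    have h3 := e_injective h2
    simp [← h3]

/-- The lift of `(0 1)(2 3)(4 5)(6 7)` in the cover of `A_8`. -/
noncomputable def x8 : cover 8 :=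
  uuLift (show (0 : Fin 8) ≠ 1 by decide) (show (2 : Fin 8) ≠ 3 by decide) *
    uuLift (show (4 : Fin 8) ≠ 5 by decide) (show (6 : Fin 8) ≠ 7 by decide)

theorem x8_sq : x8 * x8 = 1 := by
  apply eq_one_of_val_one
  simp only [x8, uuLift, uuUnit, Subgroup.coe_mul, Prod.fst_mul, Units.val_mul]
  exact sq_of_anticomm4 _ _ _ _ (u_sq (by decide)) (u_sq (by decide)) (u_sq (by decide))
    (u_sq (by decide))
    (u_anticomm (by decide) (by decide) (by decide) (by decide) (by decide))
    (u_anticomm (by decide) (by decide) (by decide) (by decide) (by decide))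
    (u_anticomm (by decide) (by decide) (by decide) (by decide) (by decide))
    (u_anticomm (by decide) (by decide) (by decide) (by decide) (by decide))
    (u_anticomm (by decide) (by decide) (by decide) (by decide) (by decide))
    (u_anticomm (by decide) (by decide) (by decide) (by decide) (by decide))

theorem coverHom_x8 : ((coverHom 8 x8 : alternatingGroup (Fin 8)) : Equiv.Perm (Fin 8)) 0 = 1 := by
  simp only [x8, map_mul, coverHom_apply, uuLift, Subgroup.coe_mul, Equiv.Perm.mul_apply]
  decide

theorem x8_ne_one : x8 ≠ 1 := by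
  intro h
  have := coverHom_x8
  rw [h, map_one] at this
  exact absurd this (by decide)

theorem x8_ne_zc : x8 ≠ zc 8 := by
  intro h
  have := coverHom_x8
  rw [h] at this
  have h2 : coverHom 8 (zc 8) = 1 := by simp [zc]
  rw [h2] at this
  exact absurd this (by decide)

theorem orderOf_x8 : orderOf x8 = 2 := by
  apply orderOf_eq_prime
  · rw [pow_two]; exact x8_sq
  · exact x8_ne_one

end Cfsg.Agent.Helper6Cliff
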