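/-
Arithmetic tools for the Feit–Higman theorem: integers with `φ(n) ≤ 4`, and the degree bound
"`cos (2πk/n)` is a root of a non-trivial rational quadratic ⟹ `φ(n) ≤ 4`" via cyclotomic polynomials.
-/
import Mathlib

set_option autoImplicit false

namespace Cfsg.Agent.Lib.Helper6_FHArith

open Polynomial

/-- the integers with `φ(n) ≤ 4` -/
theorem mem_of_totient_le_four {n : ℕ} (hn : 0 < n) (h : n.totient ≤ 4) :
    n ∈ ({1, 2, 3, 4, 5, 6, 8, 10, 12} : Finset ℕ) := by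
  have hpos : 0 < n.totient := Nat.totient_pos.2 hn
  have hdvd : ∀ d : ℕ, d ∣ n → d.totient ≤ 4 := by
    intro d hd
    exact le_trans (Nat.le_of_dvd hpos (Nat.totient_dvd_of_dvd hd)) h
  have hprime : ∀ p : ℕ, p.Prime → p ∣ n → p ≤ 5 := by
    intro p hp hpn
    have := hdvd p hpn
    rw [Nat.totient_prime hp] at this
    omega
  have h16 : ¬ 2 ^ 4 ∣ n := fun hd => by
    have := hdvd _ hd
    have e : Nat.totient (2 ^ 4) = 8 := by decide
    omega
  have h9 : ¬ 3 ^ 2 ∣ n := fun hd => by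
    have := hdvd _ hd
    have e : Nat.totient (3 ^ 2) = 6 := by decide
    omega
  have h25 : ¬ 5 ^ 2 ∣ n := fun hd => by
    have := hdvd _ hd
    have e : Nat.totient (5 ^ 2) = 20 := by decide
    omega
  obtain ⟨a, n₁, hn₁, e₁⟩ := Nat.exists_eq_pow_mul_and_not_dvd hn.ne' 2 (by norm_num)
  have hn₁0 : n₁ ≠ 0 := by rintro rfl; simp at e₁; omega
  obtain ⟨b, n₂, hn₂, e₂⟩ := Nat.exists_eq_pow_mul_and_not_dvd hn₁0 3 (by norm_num)
  have hn₂0 : n₂ ≠ 0 := by rintro rfl; simp at e₂; omega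
  obtain ⟨c, n₃, hn₃, e₃⟩ := Nat.exists_eq_pow_mul_and_not_dvd hn₂0 5 (by norm_num)
  have hn₃1 : n₃ = 1 := by
    by_contra hne
    obtain ⟨p, hp, hpn⟩ := Nat.exists_prime_and_dvd hne
    have hpn2 : p ∣ n₂ := by rw [e₃]; exact dvd_mul_of_dvd_right hpn _
    have hpn1 : p ∣ n₁ := by rw [e₂]; exact dvd_mul_of_dvd_right hpn2 _
    have hpn0 : p ∣ n := by rw [e₁]; exact dvd_mul_of_dvd_right hpn1 _
    have hp5 := hprime p hp hpn0
    have hp2 := hp.two_le
    interval_cases p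
    · exact hn₁ hpn1
    · exact hn₂ hpn2
    · exact absurd hp (by norm_num)
    · exact hn₃ hpn
  subst hn₃1
  rw [mul_one] at e₃
  subst e₃
  subst e₂
  have ha : a ≤ 3 := by
    by_contra hlt
    push Not at hlt
    apply h16
    rw [e₁]
    exact dvd_mul_of_dvd_left (pow_dvd_pow 2 hlt) _
  have hb : b ≤ 1 := by
    by_contra hlt
    push Not at hlt
    apply h9
    rw [e₁]
    exact dvd_mul_of_dvd_right (dvd_mul_of_dvd_left (pow_dvd_pow 3 hlt) _) _
  have hc : c ≤ 1 := by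
    by_contra hlt
    push Not at hlt
    apply h25
    rw [e₁]
    exact dvd_mul_of_dvd_right (dvd_mul_of_dvd_right (pow_dvd_pow 5 hlt) _) _
  have h120 : n ∣ 120 := by
    have e : (120 : ℕ) = 2 ^ 3 * (3 ^ 1 * 5 ^ 1) := by norm_num
    rw [e₁, e]
    exact Nat.mul_dvd_mul (pow_dvd_pow 2 ha) (Nat.mul_dvd_mul (pow_dvd_pow 3 hb) (pow_dvd_pow 5 hc))
  have hall : ∀ d ∈ Nat.divisors 120, Nat.totient d ≤ 4 →
      d ∈ ({1, 2, 3, 4, 5, 6, 8, 10, 12} : Finset ℕ) := by decide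
  exact hall n (Nat.mem_divisors.2 ⟨h120, by norm_num⟩) h

/-- if `(ζ + ζ⁻¹)/2` is a root of a non-trivial rational polynomial of degree at most two, for a
primitive `n`-th root of unity `ζ`, then `φ(n) ≤ 4` -/
theorem totient_le_four_of_quadratic {n : ℕ} (hn : 0 < n) {ζ : ℂ} (hζ : IsPrimitiveRoot ζ n)
    {A B C : ℚ} (hAB : A ≠ 0 ∨ B ≠ 0)
    (h : (A : ℂ) * ((ζ + ζ⁻¹) / 2) ^ 2 + (B : ℂ) * ((ζ + ζ⁻¹) / 2) + (C : ℂ) = 0) :
    n.totient ≤ 4 := by
  have hζ0 : ζ ≠ 0 := hζ.ne_zero hn.ne'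
  set P : ℚ[X] := Polynomial.C A * (X ^ 2 + 1) ^ 2 + Polynomial.C (2 * B) * (X * (X ^ 2 + 1)) +
    Polynomial.C (4 * C) * X ^ 2 with hP
  have hroot : Polynomial.aeval ζ P = 0 := by
    simp only [hP, map_add, map_mul, map_pow, aeval_C, aeval_X, map_one, eq_ratCast]
    have e : (A : ℂ) * (ζ ^ 2 + 1) ^ 2 + ((2 * B : ℚ) : ℂ) * (ζ * (ζ ^ 2 + 1)) + ((4 * C : ℚ) : ℂ) * ζ ^ 2
        = 4 * ζ ^ 2 * ((A : ℂ) * ((ζ + ζ⁻¹) / 2) ^ 2 + (B : ℂ) * ((ζ + ζ⁻¹) / 2) + (C : ℂ)) := by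
      push_cast
      field_simp
      ring
    push_cast at e ⊢
    rw [e, h, mul_zero]
  have hP0 : P ≠ 0 := by
    intro h0
    have e0 : P.eval 0 = A := by simp [hP]
    have e1 : P.eval 1 = 4 * A + 4 * B + 4 * C := by simp [hP]; ring
    have e2 : P.eval (-1) = 4 * A - 4 * B + 4 * C := by simp [hP]; ring
    rw [h0] at e0 e1 e2
    simp only [eval_zero] at e0 e1 e2
    have hA : A = 0 := e0.symm
    have hB : B = 0 := by linarith
    rcases hAB with h | h
    · exact h hA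
    · exact h hB
  have hdeg : P.natDegree ≤ 4 := by
    rw [hP]
    compute_degree
  have hmin : minpoly ℚ ζ ∣ P := minpoly.dvd ℚ ζ hroot
  have h1 := Polynomial.natDegree_le_of_dvd hmin hP0
  rw [← Polynomial.cyclotomic_eq_minpoly_rat hζ hn, Polynomial.natDegree_cyclotomic] at h1
  omega

theorem exp_add_inv_div_two (θ : ℝ) :
    (Complex.exp (θ * Complex.I) + (Complex.exp (θ * Complex.I))⁻¹) / 2 = ((Real.cos θ : ℝ) : ℂ) := by
  rw [← Complex.exp_neg, Complex.ofReal_cos, Complex.cos]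
  ring_nf

/-- if `cos (4π/m)` is a root of a non-trivial rational polynomial of degree at most two then `m` is
one of `3, 4, 5, 6, 8, 10, 12, 16, 20, 24` (for `m ≥ 3`) -/
theorem mem_of_cos_quadratic {m : ℕ} (hm : 3 ≤ m) {A B C : ℚ} (hAB : A ≠ 0 ∨ B ≠ 0)
    (h : (A : ℝ) * Real.cos (4 * Real.pi / m) ^ 2 + (B : ℝ) * Real.cos (4 * Real.pi / m) + (C : ℝ) = 0) :
    m ∈ ({3, 4, 5, 6, 8, 10, 12, 16, 20, 24} : Finset ℕ) := by
  have hC : (A : ℂ) * (((Real.cos (4 * Real.pi / m) : ℝ) : ℂ)) ^ 2 +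
      (B : ℂ) * ((Real.cos (4 * Real.pi / m) : ℝ) : ℂ) + (C : ℂ) = 0 := by
    have := congrArg (fun x : ℝ => (x : ℂ)) h
    simpa using this
  have hm0 : (m : ℝ) ≠ 0 := by
    have : (0 : ℝ) < m := by exact_mod_cast (by omega : 0 < m)
    exact this.ne'
  rcases Nat.even_or_odd m with ⟨n, hn⟩ | hodd
  · -- `m = 2 n`
    have hn2 : 2 ≤ n := by omega
    have hn0 : (n : ℝ) ≠ 0 := by
      have : (0 : ℝ) < n := by exact_mod_cast (by omega : 0 < n)
      exact this.ne'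
    have hζ := Complex.isPrimitiveRoot_exp n (by omega)
    have e : Complex.exp (2 * Real.pi * Complex.I / n) =
        Complex.exp (((4 * Real.pi / m : ℝ) : ℂ) * Complex.I) := by
      congr 1
      rw [hn]
      push_cast
      field_simp
      ring
    rw [e] at hζ
    rw [← exp_add_inv_div_two] at hC
    have htot := totient_le_four_of_quadratic (by omega) hζ hAB hC
    have hmem := mem_of_totient_le_four (by omega) htot
    simp only [Finset.mem_insert, Finset.mem_singleton] at hmem ⊢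
    omega
  · have hcop : Nat.Coprime 2 m := by
      rw [Nat.coprime_comm]
      exact Nat.Coprime.symm (Nat.coprime_two_left.2 hodd)
    have hζ := Complex.isPrimitiveRoot_exp_of_coprime 2 m (by omega) hcop
    have e : Complex.exp (2 * Real.pi * Complex.I * ((2 : ℕ) / m)) =
        Complex.exp (((4 * Real.pi / m : ℝ) : ℂ) * Complex.I) := by
      congr 1
      push_cast
      ring
    rw [e] at hζ
    rw [← exp_add_inv_div_two] at hC
    have htot := totient_le_four_of_quadratic (by omega) hζ hAB hC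
    have hmem := mem_of_totient_le_four (by omega) htot
    simp only [Finset.mem_insert, Finset.mem_singleton] at hmem ⊢
    obtain ⟨k, hk⟩ := hodd
    omega

end Cfsg.Agent.Lib.Helper6_FHArith
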