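/-
The arithmetic endgame of the Feit–Higman theorem, part 1: from the rationality of the multiplicities
to the rational quadratic satisfied by `x = 2 √(uv) cos (2πj/m)`, and the reduction to
`m ∈ {3, 4, 5, 6, 8, 10, 12, 16, 20, 24}`.
-/
import Cfsg.Agent.Lib.Helper6_FHArith1

set_option autoImplicit false

namespace Cfsg.Agent.Lib.Helper6_FHArith

open Real

/-- `x_j = 2 √(uv) cos (2πj/m)` -/
noncomputable def xval (u v m j : ℕ) : ℝ := 2 * √((u : ℝ) * v) * cos (2 * π * j / m)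

/-- `t_j = u + v + x_j` -/
noncomputable def tval (u v m j : ℕ) : ℝ := (u : ℝ) + v + xval u v m j

/-- The hypothesis of the endgame: all multiplicities given by the Kilmoyer–Solomon formula
`mult * m * t (D - t) = N (4uv - (t-u-v)^2)` are rational. -/
def MultHyp (m u v N : ℕ) : Prop :=
  ∀ j : ℕ, 1 ≤ j → 2 * j < m → ∃ M : ℚ,
    (M : ℝ) * m * (tval u v m j * (((u : ℝ) + 1) * ((v : ℝ) + 1) - tval u v m j)) =
      N * (4 * u * v - (tval u v m j - u - v) ^ 2)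

section Key

variable {m u v N : ℕ}

theorem sqrt_sq_uv (u v : ℕ) : √((u : ℝ) * v) ^ 2 = (u : ℝ) * v :=
  Real.sq_sqrt (by positivity)

theorem cos_abs_lt_one {m j : ℕ} (hj1 : 1 ≤ j) (hjm : 2 * j < m) :
    -1 < cos (2 * π * j / m) ∧ cos (2 * π * j / m) < 1 := by
  have hm : (0 : ℝ) < m := by exact_mod_cast (by omega : 0 < m)
  have hj : (0 : ℝ) < j := by exact_mod_cast (by omega : 0 < j)
  have hθ0 : 0 < 2 * π * j / m := by positivity
  have hθπ : 2 * π * j / m < π := by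
    rw [div_lt_iff₀ hm]
    have : (2 * j : ℝ) < m := by exact_mod_cast hjm
    nlinarith [Real.pi_pos]
  constructor
  · have := Real.cos_lt_cos_of_nonneg_of_le_pi hθ0.le le_rfl hθπ
    rwa [Real.cos_pi] at this
  · have := Real.cos_lt_cos_of_nonneg_of_le_pi le_rfl hθπ.le hθ0
    rwa [Real.cos_zero] at this

theorem xval_sq_lt (hu : 2 ≤ u) (hv : 2 ≤ v) {j : ℕ} (hj1 : 1 ≤ j) (hjm : 2 * j < m) :
    xval u v m j ^ 2 < 4 * u * v := by
  obtain ⟨h1, h2⟩ := cos_abs_lt_one hj1 hjm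
  have hc : cos (2 * π * j / m) ^ 2 < 1 := by nlinarith
  have huv : (0 : ℝ) < (u : ℝ) * v := by positivity
  unfold xval
  rw [mul_pow, mul_pow, sqrt_sq_uv]
  nlinarith

theorem two_sqrt_le (u v : ℕ) : 2 * √((u : ℝ) * v) ≤ (u : ℝ) + v := by
  have h : √((u : ℝ) * v) ≤ ((u : ℝ) + v) / 2 := by
    rw [Real.sqrt_le_iff]
    constructor
    · positivity
    · nlinarith [sq_nonneg ((u : ℝ) - v)]
  linarith

theorem sqrt_uv_pos (hu : 2 ≤ u) (hv : 2 ≤ v) : 0 < √((u : ℝ) * v) := by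
  apply Real.sqrt_pos.2
  have : (0 : ℝ) < u := by exact_mod_cast (by omega : 0 < u)
  have : (0 : ℝ) < v := by exact_mod_cast (by omega : 0 < v)
  positivity

theorem abs_xval_lt (hu : 2 ≤ u) (hv : 2 ≤ v) {j : ℕ} (hj1 : 1 ≤ j) (hjm : 2 * j < m) :
    -(2 * √((u : ℝ) * v)) < xval u v m j ∧ xval u v m j < 2 * √((u : ℝ) * v) := by
  obtain ⟨h1, h2⟩ := cos_abs_lt_one hj1 hjm
  have hw := sqrt_uv_pos hu hv
  unfold xval
  constructor <;> nlinarith

/-- the key quadratic: `r b x = d - r a - (1 - r) x²` with `r > 0` rational -/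
theorem key (hu : 2 ≤ u) (hv : 2 ≤ v) (hN : 0 < N) (h : MultHyp m u v N) {j : ℕ} (hj1 : 1 ≤ j)
    (hjm : 2 * j < m) :
    ∃ r : ℚ, 0 < r ∧ (r : ℝ) * (((u : ℝ) - 1) * ((v : ℝ) - 1)) * xval u v m j =
      4 * u * v - r * (((u : ℝ) + v) * ((u : ℝ) * v + 1)) - (1 - r) * xval u v m j ^ 2 := by
  obtain ⟨M, hM⟩ := h j hj1 hjm
  have hm : (0 : ℝ) < m := by exact_mod_cast (by omega : 0 < m)
  have hNr : (0 : ℝ) < N := by exact_mod_cast hN
  have hur : (2 : ℝ) ≤ u := by exact_mod_cast hu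
  have hvr : (2 : ℝ) ≤ v := by exact_mod_cast hv
  obtain ⟨hx1, hx2⟩ := abs_xval_lt hu hv hj1 hjm
  have hw := sqrt_uv_pos hu hv
  have hw2 := sqrt_sq_uv u v
  have h2w := two_sqrt_le u v
  have hxsq := xval_sq_lt hu hv hj1 hjm
  set x := xval u v m j with hx
  have ht : tval u v m j = (u : ℝ) + v + x := rfl
  rw [ht] at hM
  -- positivity of the two sides
  have hpos1 : 0 < ((u : ℝ) + v + x) * (((u : ℝ) + 1) * ((v : ℝ) + 1) - ((u : ℝ) + v + x)) := by
    apply mul_pos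
    · linarith
    · have : (0 : ℝ) ≤ (√((u : ℝ) * v) - 1) ^ 2 := sq_nonneg _
      nlinarith
  have hpos2 : 0 < 4 * (u : ℝ) * v - ((u : ℝ) + v + x - u - v) ^ 2 := by
    have : (u : ℝ) + v + x - u - v = x := by ring
    rw [this]; linarith
  refine ⟨M * m / N, ?_, ?_⟩
  · have hMm : 0 < (M : ℝ) * m := by
      by_contra hle
      push Not at hle
      have : (M : ℝ) * m * (((u : ℝ) + v + x) * (((u : ℝ) + 1) * ((v : ℝ) + 1) - ((u : ℝ) + v + x))) ≤ 0 :=
        mul_nonpos_of_nonpos_of_nonneg hle hpos1.le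
      rw [hM] at this
      have : 0 < (N : ℝ) * (4 * (u : ℝ) * v - ((u : ℝ) + v + x - u - v) ^ 2) := mul_pos hNr hpos2
      linarith
    have : (0 : ℝ) < ((M * m / N : ℚ) : ℝ) := by
      push_cast
      exact div_pos hMm hNr
    exact_mod_cast this
  · push_cast
    have hM' : (M : ℝ) * m / N * (((u : ℝ) + v + x) * (((u : ℝ) + 1) * ((v : ℝ) + 1) - ((u : ℝ) + v + x))) =
        4 * (u : ℝ) * v - x ^ 2 := by
      have e : (u : ℝ) + v + x - u - v = x := by ring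
      rw [e] at hM
      field_simp
      linarith
    nlinarith [hM']

theorem b_pos (hu : 2 ≤ u) (hv : 2 ≤ v) : (0 : ℝ) < ((u : ℝ) - 1) * ((v : ℝ) - 1) := by
  have hur : (2 : ℝ) ≤ u := by exact_mod_cast hu
  have hvr : (2 : ℝ) ≤ v := by exact_mod_cast hv
  apply mul_pos <;> linarith

/-- `x = α + β x²` with rational `α`, `β` -/
theorem exists_linear (hu : 2 ≤ u) (hv : 2 ≤ v) (hN : 0 < N) (h : MultHyp m u v N) {j : ℕ}
    (hj1 : 1 ≤ j) (hjm : 2 * j < m) :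
    ∃ α β : ℚ, xval u v m j = α + β * xval u v m j ^ 2 := by
  obtain ⟨r, hr, hkey⟩ := key hu hv hN h hj1 hjm
  have hb := b_pos hu hv
  have hrr : (0 : ℝ) < r := by exact_mod_cast hr
  refine ⟨(4 * u * v - r * (((u : ℚ) + v) * ((u : ℚ) * v + 1))) / (r * (((u : ℚ) - 1) * ((v : ℚ) - 1))),
    (r - 1) / (r * (((u : ℚ) - 1) * ((v : ℚ) - 1))), ?_⟩
  push_cast
  have hden : (r : ℝ) * (((u : ℝ) - 1) * ((v : ℝ) - 1)) ≠ 0 := (mul_pos hrr hb).ne'
  rw [div_mul_eq_mul_div, ← add_div, eq_div_iff hden]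
  linarith

/-- if `x²` is rational then `x` is rational -/
theorem rat_of_sq_rat (hu : 2 ≤ u) (hv : 2 ≤ v) (hN : 0 < N) (h : MultHyp m u v N) {j : ℕ}
    (hj1 : 1 ≤ j) (hjm : 2 * j < m) {s : ℚ} (hs : xval u v m j ^ 2 = s) :
    ∃ q : ℚ, xval u v m j = q := by
  obtain ⟨α, β, hαβ⟩ := exists_linear hu hv hN h hj1 hjm
  refine ⟨α + β * s, ?_⟩
  rw [hs] at hαβ
  push_cast
  exact hαβ

/-- the reduction to finitely many `m` -/
theorem m_mem (hm : 3 ≤ m) (hu : 2 ≤ u) (hv : 2 ≤ v) (hN : 0 < N) (h : MultHyp m u v N) :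
    m ∈ ({3, 4, 5, 6, 8, 10, 12, 16, 20, 24} : Finset ℕ) := by
  obtain ⟨α, β, hαβ⟩ := exists_linear hu hv hN h (j := 1) le_rfl (by omega)
  have huv : (0 : ℝ) < (u : ℝ) * v := by
    have : (0 : ℝ) < u := by exact_mod_cast (by omega : 0 < u)
    have : (0 : ℝ) < v := by exact_mod_cast (by omega : 0 < v)
    positivity
  -- `y = x² = 2uv (1 + g)`, `g = cos (4π/m)`
  have hy : xval u v m 1 ^ 2 = 2 * ((u : ℝ) * v) * (1 + cos (4 * π / m)) := by
    unfold xval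
    rw [mul_pow, mul_pow, sqrt_sq_uv, Real.cos_sq]
    have e : 2 * (2 * π * ((1 : ℕ) : ℝ) / m) = 4 * π / m := by push_cast; ring
    rw [e]; ring
  set g := cos (4 * π / m) with hg
  set y := xval u v m 1 ^ 2 with hy'
  -- `y = (α + β y)²`
  have hquad : y = ((α : ℝ) + β * y) ^ 2 := by
    rw [← hαβ]
  set k : ℚ := 2 * ((u : ℚ) * v) with hk
  have hkr : (k : ℝ) = 2 * ((u : ℝ) * v) := by rw [hk]; push_cast; ring
  have hk0 : k ≠ 0 := by
    have : (k : ℝ) ≠ 0 := by rw [hkr]; positivity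
    exact_mod_cast this
  have hyk : y = k * (1 + g) := by rw [hkr]; exact hy
  apply mem_of_cos_quadratic hm (A := β ^ 2 * k ^ 2)
    (B := 2 * β ^ 2 * k ^ 2 + (2 * α * β - 1) * k)
    (C := β ^ 2 * k ^ 2 + (2 * α * β - 1) * k + α ^ 2)
  · by_cases hβ : β = 0
    · right
      rw [hβ]
      simpa using hk0
    · left
      exact mul_ne_zero (pow_ne_zero 2 hβ) (pow_ne_zero 2 hk0)
  · rw [← hg]
    push_cast
    rw [hyk] at hquad
    linarith [hquad]

end Key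

end Cfsg.Agent.Lib.Helper6_FHArith
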