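/-
The arithmetic endgame of the Feit–Higman theorem, part 2: the exceptional values
`m = 5, 10, 12, 16, 20, 24` are impossible, hence `m ∈ {2, 3, 4, 6, 8}`.
-/
import Cfsg.Agent.Lib.Helper6_FHArith2

set_option autoImplicit false

namespace Cfsg.Agent.Lib.Helper6_FHArith

open Real

/-! ### Irrationality helpers -/

theorem sep_of_irrational {n : ℕ} (hn : Irrational (√(n : ℝ))) {p q : ℚ}
    (h : (p : ℝ) + q * √(n : ℝ) = 0) : p = 0 ∧ q = 0 := by
  have hq : q = 0 := by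
    by_contra hq
    apply hn
    refine ⟨-p / q, ?_⟩
    have hq' : (q : ℝ) ≠ 0 := by exact_mod_cast hq
    push_cast
    field_simp
    linarith
  subst hq
  refine ⟨?_, rfl⟩
  have : (p : ℝ) = 0 := by simpa using h
  exact_mod_cast this

theorem not_sq_eq_of_irrational {n : ℕ} (hn : Irrational (√(n : ℝ))) (z : ℚ) :
    (z : ℝ) ^ 2 ≠ n := by
  intro h
  apply hn
  refine ⟨|z|, ?_⟩
  rw [← h, Real.sqrt_sq_eq_abs]
  push_cast
  rfl

theorem irrational_sqrt_two' : Irrational (√((2 : ℕ) : ℝ)) := Nat.prime_two.irrational_sqrt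

theorem irrational_sqrt_three' : Irrational (√((3 : ℕ) : ℝ)) := Nat.prime_three.irrational_sqrt

theorem irrational_sqrt_five' : Irrational (√((5 : ℕ) : ℝ)) := Nat.prime_five.irrational_sqrt

theorem sqrt_two_sq : √((2 : ℕ) : ℝ) ^ 2 = 2 := by
  rw [Real.sq_sqrt (by positivity)]; norm_num

theorem sqrt_three_sq : √((3 : ℕ) : ℝ) ^ 2 = 3 := by
  rw [Real.sq_sqrt (by positivity)]; norm_num

theorem sqrt_five_sq : √((5 : ℕ) : ℝ) ^ 2 = 5 := by
  rw [Real.sq_sqrt (by positivity)]; norm_num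

/-! ### Special values -/

theorem cos_two_pi_div_five : cos (2 * π / 5) = (√((5 : ℕ) : ℝ) - 1) / 4 := by
  have e : 2 * π / 5 = 2 * (π / 5) := by ring
  rw [e, Real.cos_two_mul, Real.cos_pi_div_five]
  have h5 : √(5 : ℝ) = √((5 : ℕ) : ℝ) := by norm_num
  rw [h5]
  nlinarith [sqrt_five_sq]

theorem cos_pi_div_five' : cos (π / 5) = (1 + √((5 : ℕ) : ℝ)) / 4 := by
  rw [Real.cos_pi_div_five]; norm_num

theorem cos_sq_pi_div_ten : cos (π / 10) ^ 2 = (5 + √((5 : ℕ) : ℝ)) / 8 := by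
  rw [Real.cos_sq]
  have e : 2 * (π / 10) = π / 5 := by ring
  rw [e, cos_pi_div_five']
  ring

theorem cos_pi_div_four' : cos (π / 4) = √((2 : ℕ) : ℝ) / 2 := by
  rw [Real.cos_pi_div_four]; norm_num

theorem cos_sq_pi_div_eight : cos (π / 8) ^ 2 = (2 + √((2 : ℕ) : ℝ)) / 4 := by
  rw [Real.cos_sq]
  have e : 2 * (π / 8) = π / 4 := by ring
  rw [e, cos_pi_div_four']
  ring

theorem cos_pi_div_six' : cos (π / 6) = √((3 : ℕ) : ℝ) / 2 := by
  rw [Real.cos_pi_div_six]; norm_num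

section Kills

variable {u v N : ℕ}

theorem xval_eq_of_angle {u v m j : ℕ} {θ : ℝ} (hθ : 2 * π * (j : ℝ) / (m : ℝ) = θ) :
    xval u v m j = 2 * √((u : ℝ) * v) * cos θ := by
  unfold xval; rw [hθ]

/-- `m = 12` is impossible -/
theorem not_twelve (hu : 2 ≤ u) (hv : 2 ≤ v) (hN : 0 < N) (h : MultHyp 12 u v N) : False := by
  have hw := sqrt_uv_pos hu hv
  have hw2 := sqrt_sq_uv u v
  have e2 : xval u v 12 2 = √((u : ℝ) * v) := by
    rw [xval_eq_of_angle (θ := π / 3) (by push_cast; ring), Real.cos_pi_div_three]; ring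
  have e1 : xval u v 12 1 = √((u : ℝ) * v) * √((3 : ℕ) : ℝ) := by
    rw [xval_eq_of_angle (θ := π / 6) (by push_cast; ring), cos_pi_div_six']; ring
  obtain ⟨q, hq⟩ := rat_of_sq_rat hu hv hN h (j := 2) (by norm_num) (by norm_num)
    (s := (u : ℚ) * v) (by rw [e2, hw2]; push_cast; ring)
  obtain ⟨q', hq'⟩ := rat_of_sq_rat hu hv hN h (j := 1) (by norm_num) (by norm_num)
    (s := 3 * ((u : ℚ) * v)) (by rw [e1, mul_pow, hw2, sqrt_three_sq]; push_cast; ring)
  rw [e2] at hq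
  rw [e1, hq] at hq'
  have hq0 : (q : ℝ) ≠ 0 := by rw [← hq]; exact hw.ne'
  apply irrational_sqrt_three'
  refine ⟨q' / q, ?_⟩
  rw [Rat.cast_div, eq_comm, eq_div_iff hq0, mul_comm]
  exact hq'

/-- `m = 24` is impossible -/
theorem not_twentyfour (hu : 2 ≤ u) (hv : 2 ≤ v) (hN : 0 < N) (h : MultHyp 24 u v N) : False := by
  have hw := sqrt_uv_pos hu hv
  have hw2 := sqrt_sq_uv u v
  have e4 : xval u v 24 4 = √((u : ℝ) * v) := by
    rw [xval_eq_of_angle (θ := π / 3) (by push_cast; ring), Real.cos_pi_div_three]; ring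
  have e3 : xval u v 24 3 = √((u : ℝ) * v) * √((2 : ℕ) : ℝ) := by
    rw [xval_eq_of_angle (θ := π / 4) (by push_cast; ring), cos_pi_div_four']; ring
  obtain ⟨q, hq⟩ := rat_of_sq_rat hu hv hN h (j := 4) (by norm_num) (by norm_num)
    (s := (u : ℚ) * v) (by rw [e4, hw2]; push_cast; ring)
  obtain ⟨q', hq'⟩ := rat_of_sq_rat hu hv hN h (j := 3) (by norm_num) (by norm_num)
    (s := 2 * ((u : ℚ) * v)) (by rw [e3, mul_pow, hw2, sqrt_two_sq]; push_cast; ring)
  rw [e4] at hq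
  rw [e3, hq] at hq'
  have hq0 : (q : ℝ) ≠ 0 := by rw [← hq]; exact hw.ne'
  apply irrational_sqrt_two'
  refine ⟨q' / q, ?_⟩
  rw [Rat.cast_div, eq_comm, eq_div_iff hq0, mul_comm]
  exact hq'

/-- `m = 16` is impossible -/
theorem not_sixteen (hu : 2 ≤ u) (hv : 2 ≤ v) (hN : 0 < N) (h : MultHyp 16 u v N) : False := by
  have hw := sqrt_uv_pos hu hv
  have hw2 := sqrt_sq_uv u v
  have hs := sqrt_two_sq
  have e2 : xval u v 16 2 = √((u : ℝ) * v) * √((2 : ℕ) : ℝ) := by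
    rw [xval_eq_of_angle (θ := π / 4) (by push_cast; ring), cos_pi_div_four']; ring
  obtain ⟨q, hq⟩ := rat_of_sq_rat hu hv hN h (j := 2) (by norm_num) (by norm_num)
    (s := 2 * ((u : ℚ) * v)) (by rw [e2, mul_pow, hw2, sqrt_two_sq]; push_cast; ring)
  rw [e2] at hq
  have hs0 : 0 < √((2 : ℕ) : ℝ) := Real.sqrt_pos.2 (by norm_num)
  have hqpos : (0 : ℝ) < q := by rw [← hq]; positivity
  have hq2 : (q : ℝ) ^ 2 = 2 * ((u : ℝ) * v) := by
    rw [← hq, mul_pow, hw2, hs]; ring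
  have e1sq : xval u v 16 1 ^ 2 = (q : ℝ) ^ 2 + (q : ℝ) ^ 2 / 2 * √((2 : ℕ) : ℝ) := by
    rw [xval_eq_of_angle (θ := π / 8) (by push_cast; ring), mul_pow, mul_pow, hw2,
      cos_sq_pi_div_eight, hq2]
    ring
  obtain ⟨α, β, hαβ⟩ := exists_linear hu hv hN h (j := 1) (by norm_num) (by norm_num)
  set P : ℚ := α + β * q ^ 2 with hP
  set Q : ℚ := β * q ^ 2 / 2 with hQ
  have hx : xval u v 16 1 = (P : ℝ) + Q * √((2 : ℕ) : ℝ) := by
    rw [hαβ, e1sq, hP, hQ]; push_cast; ring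
  have hx2 : ((P : ℝ) + Q * √((2 : ℕ) : ℝ)) ^ 2 = (q : ℝ) ^ 2 + (q : ℝ) ^ 2 / 2 * √((2 : ℕ) : ℝ) := by
    rw [← hx, e1sq]
  have hsep : ((P ^ 2 + 2 * Q ^ 2 - q ^ 2 : ℚ) : ℝ) + ((2 * P * Q - q ^ 2 / 2 : ℚ) : ℝ) * √((2 : ℕ) : ℝ) = 0 := by
    push_cast
    linear_combination hx2 - (Q : ℝ) ^ 2 * hs
  obtain ⟨h1, h2⟩ := sep_of_irrational irrational_sqrt_two' hsep
  have hq0 : q ≠ 0 := by
    have : (q : ℝ) ≠ 0 := hqpos.ne'
    exact_mod_cast this
  by_cases hQ0 : Q = 0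
  · rw [hQ0] at h2
    have : q ^ 2 = 0 := by linarith
    exact hq0 ((pow_eq_zero_iff (two_ne_zero)).1 this)
  · apply not_sq_eq_of_irrational irrational_sqrt_two' ((P - 2 * Q) / Q)
    have : ((P - 2 * Q) / Q) ^ 2 = 2 := by
      rw [div_pow, div_eq_iff (pow_ne_zero 2 hQ0)]
      linear_combination h1 - 2 * h2
    have := congrArg (fun z : ℚ => (z : ℝ)) this
    simpa using this

/-- `m = 20` is impossible -/
theorem not_twenty (hu : 2 ≤ u) (hv : 2 ≤ v) (hN : 0 < N) (h : MultHyp 20 u v N) : False := by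
  have hw := sqrt_uv_pos hu hv
  have hw2 := sqrt_sq_uv u v
  have hs := sqrt_five_sq
  set k : ℚ := (u : ℚ) * v with hk
  have hkr : (k : ℝ) = (u : ℝ) * v := by rw [hk]; push_cast; ring
  have hkpos : 0 < k := by
    have : (0 : ℝ) < k := by
      rw [hkr]
      have : (0 : ℝ) < u := by exact_mod_cast (by omega : 0 < u)
      have : (0 : ℝ) < v := by exact_mod_cast (by omega : 0 < v)
      positivity
    exact_mod_cast this
  have e1sq : xval u v 20 1 ^ 2 = 5 * (k : ℝ) / 2 + (k : ℝ) / 2 * √((5 : ℕ) : ℝ) := by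
    rw [xval_eq_of_angle (θ := π / 10) (by push_cast; ring), mul_pow, mul_pow, hw2,
      cos_sq_pi_div_ten, hkr]
    ring
  obtain ⟨α, β, hαβ⟩ := exists_linear hu hv hN h (j := 1) (by norm_num) (by norm_num)
  set P : ℚ := α + β * (5 * k / 2) with hP
  set Q : ℚ := β * (k / 2) with hQ
  have hx : xval u v 20 1 = (P : ℝ) + Q * √((5 : ℕ) : ℝ) := by
    rw [hαβ, e1sq, hP, hQ]; push_cast; ring
  have hx2 : ((P : ℝ) + Q * √((5 : ℕ) : ℝ)) ^ 2 =
      5 * (k : ℝ) / 2 + (k : ℝ) / 2 * √((5 : ℕ) : ℝ) := by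
    rw [← hx, e1sq]
  have hsep : ((P ^ 2 + 5 * Q ^ 2 - 5 * k / 2 : ℚ) : ℝ) +
      ((2 * P * Q - k / 2 : ℚ) : ℝ) * √((5 : ℕ) : ℝ) = 0 := by
    push_cast
    linear_combination hx2 - (Q : ℝ) ^ 2 * hs
  obtain ⟨h1, h2⟩ := sep_of_irrational irrational_sqrt_five' hsep
  by_cases hQ0 : Q = 0
  · rw [hQ0] at h2
    have : k = 0 := by linarith
    exact hkpos.ne' this
  · apply not_sq_eq_of_irrational irrational_sqrt_five' ((P - 5 * Q) / (2 * Q))
    have h2Q : (2 * Q) ≠ 0 := mul_ne_zero two_ne_zero hQ0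
    have : ((P - 5 * Q) / (2 * Q)) ^ 2 = 5 := by
      rw [div_pow, div_eq_iff (pow_ne_zero 2 h2Q)]
      linear_combination h1 - 5 * h2
    have := congrArg (fun z : ℚ => (z : ℝ)) this
    simpa using this

/-- `m = 10` is impossible -/
theorem not_ten (hu : 2 ≤ u) (hv : 2 ≤ v) (hN : 0 < N) (h : MultHyp 10 u v N) : False := by
  have hw := sqrt_uv_pos hu hv
  have hw2 := sqrt_sq_uv u v
  have hs := sqrt_five_sq
  have hs0 : 0 < √((5 : ℕ) : ℝ) := Real.sqrt_pos.2 (by norm_num)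
  set k : ℚ := (u : ℚ) * v with hk
  have hkr : (k : ℝ) = (u : ℝ) * v := by rw [hk]; push_cast; ring
  have huq : (2 : ℚ) ≤ u := by exact_mod_cast hu
  have hvq : (2 : ℚ) ≤ v := by exact_mod_cast hv
  have hkpos : 0 < k := by rw [hk]; positivity
  have e1 : xval u v 10 1 = √((u : ℝ) * v) * (1 + √((5 : ℕ) : ℝ)) / 2 := by
    rw [xval_eq_of_angle (θ := π / 5) (by push_cast; ring), cos_pi_div_five']; ring
  have hxpos : 0 < xval u v 10 1 := by rw [e1]; positivity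
  have e1sq : xval u v 10 1 ^ 2 = 3 * (k : ℝ) / 2 + (k : ℝ) / 2 * √((5 : ℕ) : ℝ) := by
    rw [e1, div_pow, mul_pow, hw2, hkr]
    linear_combination ((u : ℝ) * v / 4) * hs
  obtain ⟨r, hr, hkey⟩ := key hu hv hN h (j := 1) (by norm_num) (by norm_num)
  have hrr : (0 : ℝ) < r := by exact_mod_cast hr
  have hb := b_pos hu hv
  set a : ℚ := ((u : ℚ) + v) * ((u : ℚ) * v + 1) with ha
  set b : ℚ := ((u : ℚ) - 1) * ((v : ℚ) - 1) with hbq
  have har : (a : ℝ) = ((u : ℝ) + v) * ((u : ℝ) * v + 1) := by rw [ha]; push_cast; ring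
  have hbr : (b : ℝ) = ((u : ℝ) - 1) * ((v : ℝ) - 1) := by rw [hbq]; push_cast; ring
  have hbpos : 0 < b := by
    have : (0 : ℝ) < b := by rw [hbr]; exact hb
    exact_mod_cast this
  set P : ℚ := 4 * k - r * a - 3 * (1 - r) * k / 2 with hP
  set Q : ℚ := (r - 1) * k / 2 with hQ
  -- `r b x = P + Q √5`
  have hE : (r : ℝ) * b * xval u v 10 1 = (P : ℝ) + Q * √((5 : ℕ) : ℝ) := by
    rw [hbr, hkey, e1sq, hP, hQ]
    push_cast
    rw [har, hkr]
    ring
  have hEpos : 0 < (P : ℝ) + Q * √((5 : ℕ) : ℝ) := by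
    rw [← hE]
    have : (0 : ℝ) < b := by exact_mod_cast hbpos
    positivity
  have hE2 : ((P : ℝ) + Q * √((5 : ℕ) : ℝ)) ^ 2 =
      ((r : ℝ) * b) ^ 2 * (3 * (k : ℝ) / 2 + (k : ℝ) / 2 * √((5 : ℕ) : ℝ)) := by
    rw [← hE, mul_pow, e1sq]
  have hsep : ((P ^ 2 + 5 * Q ^ 2 - (r * b) ^ 2 * (3 * k / 2) : ℚ) : ℝ) +
      ((2 * P * Q - (r * b) ^ 2 * (k / 2) : ℚ) : ℝ) * √((5 : ℕ) : ℝ) = 0 := by
    push_cast
    linear_combination hE2 - (Q : ℝ) ^ 2 * hs
  obtain ⟨h1, h2⟩ := sep_of_irrational irrational_sqrt_five' hsep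
  have hprod : (P - Q) * (P - 5 * Q) = 0 := by linear_combination h1 - 3 * h2
  have ha4 : 4 * (k + 1) ≤ a := by
    rw [ha, hk]
    nlinarith [mul_nonneg (sub_nonneg.2 huq) (sub_nonneg.2 hvq)]
  rcases mul_eq_zero.1 hprod with hc | hc
  · -- `P = Q`
    have hPQ : P = Q := by linarith
    have hQpos : 0 < Q := by
      have : 0 < (Q : ℝ) * (1 + √((5 : ℕ) : ℝ)) := by
        have e : (P : ℝ) = Q := by exact_mod_cast hPQ
        rw [e] at hEpos
        linarith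
      have h3 : 0 < (1 + √((5 : ℕ) : ℝ)) := by positivity
      have : (0 : ℝ) < Q := (mul_pos_iff_of_pos_right h3).1 this
      exact_mod_cast this
    have hr1 : 1 < r := by
      rw [hQ] at hQpos
      have h4 : 0 < (r - 1) * k := by linarith
      have := (mul_pos_iff_of_pos_right hkpos).1 h4
      linarith
    have heq : r * (a - k) = 3 * k := by
      rw [hP, hQ] at hPQ
      linarith
    have h5 : 1 * (a - k) < r * (a - k) := mul_lt_mul_of_pos_right hr1 (by linarith)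
    linarith
  · -- `P = 5 Q`
    have hPQ : P = 5 * Q := by linarith
    have hQpos : 0 < Q := by
      have : 0 < (Q : ℝ) * (5 + √((5 : ℕ) : ℝ)) := by
        have e : (P : ℝ) = 5 * Q := by exact_mod_cast hPQ
        rw [e] at hEpos
        linarith
      have h3 : 0 < (5 + √((5 : ℕ) : ℝ)) := by positivity
      have : (0 : ℝ) < Q := (mul_pos_iff_of_pos_right h3).1 this
      exact_mod_cast this
    have hr1 : 1 < r := by
      rw [hQ] at hQpos
      have h4 : 0 < (r - 1) * k := by linarith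
      have := (mul_pos_iff_of_pos_right hkpos).1 h4
      linarith
    have heq : r * (a + k) = 5 * k := by
      rw [hP, hQ] at hPQ
      linarith
    have h5 : 1 * (a + k) < r * (a + k) := mul_lt_mul_of_pos_right hr1 (by linarith)
    linarith

/-- `m = 5` is impossible (here `u = v`) -/
theorem not_five (hu : 2 ≤ u) (hN : 0 < N) (h : MultHyp 5 u u N) : False := by
  have hs := sqrt_five_sq
  have huq : (2 : ℚ) ≤ u := by exact_mod_cast hu
  have hur : (2 : ℝ) ≤ u := by exact_mod_cast hu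
  have hw : √((u : ℝ) * u) = u := Real.sqrt_mul_self (by positivity)
  have e1 : xval u u 5 1 = -(u : ℝ) / 2 + (u : ℝ) / 2 * √((5 : ℕ) : ℝ) := by
    rw [xval_eq_of_angle (θ := 2 * π / 5) (by push_cast; ring), cos_two_pi_div_five, hw]; ring
  have e1sq : xval u u 5 1 ^ 2 = 3 * (u : ℝ) ^ 2 / 2 - (u : ℝ) ^ 2 / 2 * √((5 : ℕ) : ℝ) := by
    rw [e1]
    linear_combination ((u : ℝ) ^ 2 / 4) * hs
  obtain ⟨r, hr, hkey⟩ := key hu hu hN h (j := 1) (by norm_num) (by norm_num)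
  rw [e1sq, e1] at hkey
  have hsep : ((-(r * (u - 1) ^ 2 * u / 2) - 4 * u ^ 2 + 2 * r * u * (u ^ 2 + 1) +
      3 * (1 - r) * u ^ 2 / 2 : ℚ) : ℝ) +
      ((r * (u - 1) ^ 2 * u / 2 - (1 - r) * u ^ 2 / 2 : ℚ) : ℝ) * √((5 : ℕ) : ℝ) = 0 := by
    push_cast
    linear_combination hkey
  obtain ⟨hp, hq⟩ := sep_of_irrational irrational_sqrt_five' hsep
  have hu0 : (u : ℚ) ≠ 0 := by linarith
  have hG : (u : ℚ) * (r * (2 * u ^ 2 - u + 2) - 3 * u) = 0 := by linear_combination hp + hq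
  have hE4 : r * (2 * (u : ℚ) ^ 2 - u + 2) = 3 * u := by
    rcases mul_eq_zero.1 hG with h0 | h0
    · exact absurd h0 hu0
    · linarith
  have hG1 : (u : ℚ) * (r * ((u : ℚ) ^ 2 - u + 1) - u) = 0 := by linear_combination 2 * hq
  have hE1 : r * ((u : ℚ) ^ 2 - u + 1) = u := by
    rcases mul_eq_zero.1 hG1 with h0 | h0
    · exact absurd h0 hu0
    · linarith
  have hfin : r * ((u : ℚ) - 1) ^ 2 = 0 := by linear_combination 3 * hE1 - hE4
  have : 0 < r * ((u : ℚ) - 1) ^ 2 := by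
    have : (0 : ℚ) < (u : ℚ) - 1 := by linarith
    positivity
  linarith

end Kills

/-- **The arithmetic endgame of the Feit–Higman theorem.** -/
theorem endgame (m u v N : ℕ) (hm : 2 ≤ m) (hu : 2 ≤ u) (hv : 2 ≤ v) (hN : 0 < N)
    (hodd : Odd m → u = v) (h : MultHyp m u v N) :
    m = 2 ∨ m = 3 ∨ m = 4 ∨ m = 6 ∨ m = 8 := by
  rcases Nat.lt_or_ge m 3 with h2 | h3
  · left; omega
  · have hmem := m_mem h3 hu hv hN h
    simp only [Finset.mem_insert, Finset.mem_singleton] at hmem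
    rcases hmem with rfl | rfl | rfl | rfl | rfl | rfl | rfl | rfl | rfl | rfl
    · right; left; rfl
    · right; right; left; rfl
    · exfalso
      have huv : u = v := hodd (by decide)
      subst huv
      exact not_five hu hN h
    · right; right; right; left; rfl
    · right; right; right; right; rfl
    · exact absurd h (fun h => not_ten hu hv hN h)
    · exact absurd h (fun h => not_twelve hu hv hN h)
    · exact absurd h (fun h => not_sixteen hu hv hN h)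
    · exact absurd h (fun h => not_twenty hu hv hN h)
    · exact absurd h (fun h => not_twentyfour hu hv hN h)

end Cfsg.Agent.Lib.Helper6_FHArith
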