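import Mathlib
import Cfsg.Agent.Lib.Helper6_FT3Defs
import Cfsg.Agent.Lib.Helper75_SelfCent

/-!
# S3331-RED (helper7, for helper6's S3331-A market)

Reduction to the simple case: if `X` is a self-centralizing subgroup of order 3 of `G` and `G` has
no nontrivial normal `3'`-subgroup, then `|G| = 3`, or `G ≅ S3`, or `G` is simple with
`|N_G(X)| = 6`.

Proof.  `X = ⟨x⟩`.  `|N(X) : X| ∈ {1, 2}`.  If it is `1`, Burnside's transfer
(`Helper75_SelfCent.commutator_of_relIndex_eq_one`) gives a normal 3-complement, trivial by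
hypothesis.  If it is `2`, `x ∈ M := G'` and every nontrivial normal subgroup contains `M`.
Either `N_M(X) = X`, and then `M'` is a normal 3'-subgroup, so `M' = 1`, `|M| = 3`, `|G| = 6`,
and `G` acts faithfully on the three cosets of a subgroup of order two; or `N_M(X) ≠ X`, and then
`N_G(X) ≤ M`, so `G = N_G(X) M = M` by the Frattini argument, and `G` is simple.
-/

set_option autoImplicit false
set_option linter.unusedSectionVars false
set_option linter.unusedVariables false

namespace Cfsg.Agent.Lib.Helper7_FT3_RED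

open Cfsg Cfsg.Agent.Lib.Helper6_FT3Defs Cfsg.Agent.Lib.Helper75_SelfCent

universe u

variable {G : Type u} [Group G] [Finite G] {X : Subgroup G}

/-- a generator of `X`. -/
theorem exists_gen (h : Hyp G X) : ∃ x : G, orderOf x = 3 ∧ X = Subgroup.zpowers x ∧
    Subgroup.centralizer ({x} : Set G) = Subgroup.zpowers x := by
  obtain ⟨hcard, hcent⟩ := h
  have hnt : Nontrivial X := by
    rw [← Finite.one_lt_card_iff_nontrivial, hcard]; norm_num
  obtain ⟨y, hy⟩ := exists_ne (1 : X)
  have hy1 : (y : G) ≠ 1 := fun h => hy (Subtype.ext h)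
  have hord : orderOf (y : G) = 3 := by
    have hdvd : orderOf (y : G) ∣ 3 := by
      rw [Subgroup.orderOf_coe, ← hcard]; exact orderOf_dvd_natCard y
    rcases (Nat.dvd_prime Nat.prime_three).mp hdvd with h1 | h3
    · exact absurd (orderOf_eq_one_iff.mp h1) hy1
    · exact h3
  have hle : Subgroup.zpowers (y : G) ≤ X := Subgroup.zpowers_le.mpr y.2
  have hXeq : X = Subgroup.zpowers (y : G) := by
    symm
    apply Subgroup.eq_of_le_of_card_ge hle
    rw [hcard, Nat.card_zpowers, hord]
  refine ⟨y, hord, hXeq, ?_⟩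
  have h1 : Subgroup.centralizer ((Subgroup.zpowers (y : G) : Subgroup G) : Set G) =
      Subgroup.zpowers (y : G) := by rw [← hXeq]; exact hcent
  rw [Subgroup.zpowers_eq_closure, Subgroup.centralizer_closure] at h1
  rw [Subgroup.zpowers_eq_closure]
  exact h1

/-- `|H| * |K : H| = |K|` for `H ≤ K`. -/
theorem card_mul_relIndex' {H K : Subgroup G} (hHK : H ≤ K) :
    Nat.card H * H.relIndex K = Nat.card K := by
  have := Subgroup.relIndex_mul_relIndex (⊥ : Subgroup G) H K bot_le hHK
  rwa [Subgroup.relIndex_bot_left, Subgroup.relIndex_bot_left] at this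

/-- a group of order six without normal subgroup of order two is `S3`. -/
theorem nonempty_equiv_perm_of_card_six (hG : Nat.card G = 6)
    (hcore : ∀ K : Subgroup G, K.Normal → ¬ 3 ∣ Nat.card K → K = ⊥) :
    Nonempty (G ≃* Equiv.Perm (Fin 3)) := by
  have : Fact (Nat.Prime 2) := ⟨Nat.prime_two⟩
  obtain ⟨t, ht⟩ := exists_prime_orderOf_dvd_card' (G := G) 2 (by rw [hG]; norm_num)
  set H : Subgroup G := Subgroup.zpowers t with hH
  have hHcard : Nat.card H = 2 := by rw [hH, Nat.card_zpowers, ht]
  have hidx : H.index = 3 := by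
    have := Subgroup.card_mul_index H
    rw [hHcard, hG] at this
    omega
  have hcoreH : H.normalCore = ⊥ := by
    apply hcore _ inferInstance
    intro h3
    have h2 : Nat.card H.normalCore ∣ 2 := by
      rw [← hHcard]; exact Subgroup.card_dvd_of_le H.normalCore_le
    have := Nat.dvd_trans h3 h2
    omega
  let f : G →* Equiv.Perm (G ⧸ H) := MulAction.toPermHom G (G ⧸ H)
  have hf : Function.Injective f := by
    rw [← MonoidHom.ker_eq_bot_iff, ← Subgroup.normalCore_eq_ker]
    exact hcoreH
  have hq : Nat.card (G ⧸ H) = 3 := by rw [← Subgroup.index_eq_card]; exact hidx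
  have e : (G ⧸ H) ≃ Fin 3 := Finite.equivFinOfCardEq hq
  let g : G →* Equiv.Perm (Fin 3) := (Equiv.permCongrHom e).toMonoidHom.comp f
  have hg : Function.Injective g := by
    intro a b hab
    apply hf
    exact (Equiv.permCongrHom e).injective hab
  have hcardP : Nat.card (Equiv.Perm (Fin 3)) = 6 := by
    rw [Nat.card_eq_fintype_card, Fintype.card_perm, Fintype.card_fin]; rfl
  have hbij : Function.Bijective g :=
    Function.Injective.bijective_of_nat_card_le hg (by rw [hcardP, hG])
  exact ⟨MulEquiv.ofBijective g hbij⟩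

/-- membership in the cyclic subgroup generated inside a subgroup. -/
theorem mem_zpowers_subtype {M : Subgroup G} {x : G} (hxM : x ∈ M) (y : M) :
    y ∈ Subgroup.zpowers (⟨x, hxM⟩ : M) ↔ (y : G) ∈ Subgroup.zpowers x := by
  rw [Subgroup.mem_zpowers_iff, Subgroup.mem_zpowers_iff]
  constructor
  · rintro ⟨k, hk⟩
    exact ⟨k, by rw [← hk]; simp⟩
  · rintro ⟨k, hk⟩
    exact ⟨k, Subtype.ext (by rw [← hk]; simp)⟩

theorem zpowers_subtype_eq {M : Subgroup G} {x : G} (hxM : x ∈ M) :
    Subgroup.zpowers (⟨x, hxM⟩ : M) = (Subgroup.zpowers x).subgroupOf M := by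
  ext y
  rw [mem_zpowers_subtype hxM, Subgroup.mem_subgroupOf]

/-- PKG RED. -/
theorem reduce (h : Hyp G X)
    (hcore : ∀ K : Subgroup G, K.Normal → ¬ 3 ∣ Nat.card K → K = ⊥) :
    Nat.card G = 3 ∨ Nonempty (G ≃* Equiv.Perm (Fin 3)) ∨
      (IsSimpleGroup G ∧ Nat.card (Subgroup.normalizer (X : Set G)) = 6) := by
  obtain ⟨x, hx, hX, hC⟩ := exists_gen h
  subst hX
  have hp : Nat.Prime 3 := Nat.prime_three
  set P : Subgroup G := Subgroup.zpowers x with hP
  set N : Subgroup G := Subgroup.normalizer (P : Set G) with hN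
  have hPcard : Nat.card P = 3 := by rw [hP, Nat.card_zpowers, hx]
  have hPN : P ≤ N := Subgroup.le_normalizer
  have hcount : Nat.card {C : ConjClasses G // ∃ g ∈ C.carrier, orderOf g = 3} *
      P.relIndex N = 2 := card_classes_mul_relIndex hp hx hC
  have hNcard : Nat.card N = 3 * P.relIndex N := by
    rw [← card_mul_relIndex' hPN, hPcard]
  by_cases he : P.relIndex N = 1
  · -- the transfer case
    left
    obtain ⟨hidx, h3⟩ := commutator_of_relIndex_eq_one hp hx hC he
    have hbot : commutator G = ⊥ := hcore _ inferInstance h3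
    rw [hbot, Subgroup.index_bot] at hidx
    exact hidx
  · have he2 : P.relIndex N = 2 := by
      have hdvd : P.relIndex N ∣ 2 := ⟨_, by rw [← hcount, mul_comm]⟩
      rcases (Nat.dvd_prime Nat.prime_two).mp hdvd with h1 | h2
      · exact absurd h1 he
      · exact h2
    have hN6 : Nat.card N = 6 := by rw [hNcard, he2]
    have hxM : x ∈ commutator G := mem_commutator_of_relIndex_ne_one hp hx hC he
    have hmin : ∀ K : Subgroup G, K.Normal → K ≠ ⊥ → commutator G ≤ K := by
      intro K hK hne
      have h3 : 3 ∣ Nat.card K := by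
        by_contra h3
        exact hne (hcore K hK h3)
      exact commutator_le_of_mem hp hx hC K (mem_of_dvd_card hp hx hC K h3)
    set M : Subgroup G := commutator G with hM
    have hPM : P ≤ M := Subgroup.zpowers_le.mpr hxM
    have hx' : orderOf (⟨x, hxM⟩ : M) = 3 := orderOf_subtype hx M hxM
    have hC' := centralizer_subtype hC M hxM
    by_cases he' : (Subgroup.zpowers (⟨x, hxM⟩ : M)).relIndex
        (Subgroup.normalizer ((Subgroup.zpowers (⟨x, hxM⟩ : M) : Subgroup M) : Set M)) = 1
    · -- `M' = 1`, `|M| = 3`, `|G| = 6`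
      right; left
      obtain ⟨hidx, h3⟩ := commutator_of_relIndex_eq_one hp hx' hC' he'
      have hKn : (⁅M, M⁆ : Subgroup G).Normal := inferInstance
      have hKcard : Nat.card (⁅M, M⁆ : Subgroup G) = Nat.card (commutator M) := by
        rw [← Subgroup.map_subtype_commutator]
        exact Subgroup.card_map_of_injective M.subtype_injective
      have hKbot : (⁅M, M⁆ : Subgroup G) = ⊥ := hcore _ hKn (by rw [hKcard]; exact h3)
      have hcbot : commutator M = ⊥ := by
        have : (commutator M).map M.subtype = ⊥ := by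
          rw [Subgroup.map_subtype_commutator]; exact hKbot
        exact (Subgroup.map_eq_bot_iff_of_injective _ M.subtype_injective).mp this
      rw [hcbot, Subgroup.index_bot] at hidx
      have hMP : P = M := Subgroup.eq_of_le_of_card_ge hPM (by rw [hidx, hPcard])
      have hPn : P.Normal := by rw [hMP]; infer_instance
      have hNtop : N = ⊤ := Subgroup.normalizer_eq_top P
      have hG6 : Nat.card G = 6 := by
        rw [← hN6, hNtop, Subgroup.card_top]
      exact nonempty_equiv_perm_of_card_six hG6 hcore
    · -- `N_G(X) ≤ M`, so `G = M` is simple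
      right; right
      refine ⟨?_, hN6⟩
      rw [zpowers_subtype_eq hxM, ← Subgroup.subgroupOf_normalizer_eq hPM,
        ← Subgroup.inf_subgroupOf_right N M, Subgroup.relIndex_subgroupOf inf_le_right] at he'
      have hmul := Subgroup.relIndex_mul_relIndex P (N ⊓ M) N (le_inf hPN hPM) inf_le_left
      rw [he2] at hmul
      have h1 : P.relIndex (N ⊓ M) = 2 := by
        have hdvd : P.relIndex (N ⊓ M) ∣ 2 := ⟨_, hmul.symm⟩
        rcases (Nat.dvd_prime Nat.prime_two).mp hdvd with h1 | h2
        · exact absurd h1 he'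
        · exact h2
      have h2 : (N ⊓ M).relIndex N = 1 := by
        rw [h1] at hmul
        omega
      have hNM : N ≤ M := (Subgroup.relIndex_eq_one.mp h2).trans inf_le_right
      have htop : M = ⊤ := by
        have := normalizer_sup_eq_top hp hx hC M hxM
        rw [← this]
        exact (sup_eq_right.mpr hNM).symm
      have hnt : Nontrivial G := by
        refine ⟨⟨x, 1, ?_⟩⟩
        exact x_ne_one hp hx
      refine { exists_pair_ne := hnt.exists_pair_ne, eq_bot_or_eq_top_of_normal := ?_ }
      intro K hK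
      by_cases hKb : K = ⊥
      · exact Or.inl hKb
      · right
        exact top_le_iff.mp (htop ▸ hmin K hK hKb)

end Cfsg.Agent.Lib.Helper7_FT3_RED
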