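import Mathlib
import Cfsg.Agent.Lib.Helper6_FT3Defs

/-!
# FT3A package ODDSUM (helper80) for helper6's S3331 market
-/

set_option autoImplicit false

open Cfsg Cfsg.Agent.Lib.Helper6_FT3Defs
open scoped ComplexConjugate

universe u

variable {G : Type u} [Group G] [Finite G] {X : Subgroup G}

namespace Cfsg.Agent.Lib.Helper80_FT3_ODDSUM

theorem card_cj (g : G) (A : Subgroup G) : Nat.card (cj g A) = Nat.card A :=
  Subgroup.card_map_of_injective (MulAut.conj g).injective

/-- [M] os := image of `Nat.card` on oddMembers. Members of equal order are conjugate (hConj), each conjugacy class has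
at most 2 members (hG1); members of different orders have coprime orders (hConj). -/
theorem odd_sum (h : Hyp G X) (b : ℕ)
    (hmod : ∀ A : Subgroup G, IsSig X A → Nat.card A % 3 = 1)
    (hG1 : ∀ A : Subgroup G, Nat.card {B : Subgroup G // (∃ g : G, B = cj g A) ∧
      X ≤ Subgroup.normalizer (B : Set G)} ≤ 2)
    (hHall : ∀ A : Subgroup G, IsMaxSig X A → ¬ 2 ∣ Nat.card A → (Nat.card A).Coprime A.index)
    (hConj : ∀ A B : Subgroup G, IsMaxSig X A → IsMaxSig X B → ¬ 2 ∣ Nat.card A →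
      ¬ 2 ∣ Nat.card B → ¬ (Nat.card A).Coprime (Nat.card B) → ∃ g : G, B = cj g A)
    (hLe : ∀ A : Subgroup G, IsSig X A → ¬ 2 ∣ Nat.card A → A ≠ ⊥ → 6 * Nat.card A ≤ b) :
    ∃ os : Finset ℕ, (∀ o ∈ os, o ∣ Nat.card G) ∧ (∀ o ∈ os, o.Coprime (Nat.card G / o)) ∧
      (∀ o ∈ os, o % 6 = 1) ∧ (∀ o ∈ os, 1 < o) ∧ (∀ o ∈ os, 6 * o ≤ b) ∧
      (∀ o ∈ os, ∀ o' ∈ os, o ≠ o' → o.Coprime o') ∧
      ∑ᶠ A ∈ oddMembers X, (Nat.card A - 1) ≤ 2 * ∑ o ∈ os, (o - 1) := by
  classical
  have hOf : (oddMembers X).Finite := Set.toFinite _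
  set O : Finset (Subgroup G) := hOf.toFinset with hO
  have hmemO : ∀ A : Subgroup G, A ∈ O ↔ IsMaxSig X A ∧ ¬ 2 ∣ Nat.card A ∧ A ≠ ⊥ := by
    intro A
    rw [hO, Set.Finite.mem_toFinset]
    rfl
  refine ⟨O.image (fun A : Subgroup G => Nat.card A), ?_, ?_, ?_, ?_, ?_, ?_, ?_⟩
  · intro o ho
    obtain ⟨A, -, rfl⟩ := Finset.mem_image.mp ho
    exact Subgroup.card_subgroup_dvd_card A
  · intro o ho
    obtain ⟨A, hA, rfl⟩ := Finset.mem_image.mp ho
    obtain ⟨hAm, hodd, -⟩ := (hmemO A).mp hA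
    have hidx : Nat.card G / Nat.card A = A.index := by
      have := A.card_mul_index
      exact Nat.div_eq_of_eq_mul_right Nat.card_pos this.symm
    rw [hidx]
    exact hHall A hAm hodd
  · intro o ho
    obtain ⟨A, hA, rfl⟩ := Finset.mem_image.mp ho
    obtain ⟨hAm, hodd, -⟩ := (hmemO A).mp hA
    have h3 := hmod A hAm.1
    have h2 : Nat.card A % 2 = 1 := by
      rcases Nat.mod_two_eq_zero_or_one (Nat.card A) with h0 | h1
      · exact absurd (Nat.dvd_of_mod_eq_zero h0) hodd
      · exact h1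
    omega
  · intro o ho
    obtain ⟨A, hA, rfl⟩ := Finset.mem_image.mp ho
    obtain ⟨-, -, hne⟩ := (hmemO A).mp hA
    exact (Subgroup.one_lt_card_iff_ne_bot A).mpr hne
  · intro o ho
    obtain ⟨A, hA, rfl⟩ := Finset.mem_image.mp ho
    obtain ⟨hAm, hodd, hne⟩ := (hmemO A).mp hA
    exact hLe A hAm.1 hodd hne
  · intro o ho o' ho' hne
    obtain ⟨A, hA, rfl⟩ := Finset.mem_image.mp ho
    obtain ⟨B, hB, rfl⟩ := Finset.mem_image.mp ho'
    obtain ⟨hAm, hoddA, -⟩ := (hmemO A).mp hA
    obtain ⟨hBm, hoddB, -⟩ := (hmemO B).mp hB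
    by_contra hnc
    obtain ⟨g, hg⟩ := hConj A B hAm hBm hoddA hoddB hnc
    apply hne
    rw [hg, card_cj]
  · rw [finsum_mem_eq_finite_toFinset_sum _ hOf, ← hO]
    rw [← Finset.sum_fiberwise_of_maps_to (s := O) (t := O.image (fun A : Subgroup G => Nat.card A))
      (g := fun A : Subgroup G => Nat.card A) (fun A hA => Finset.mem_image_of_mem _ hA)]
    rw [Finset.mul_sum]
    refine Finset.sum_le_sum (fun o ho => ?_)
    obtain ⟨A₀, hA₀, hA₀o⟩ := Finset.mem_image.mp ho
    obtain ⟨hA₀m, hoddA₀, hneA₀⟩ := (hmemO A₀).mp hA₀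
    have ho1 : 1 < o := by
      rw [← hA₀o]
      exact (Subgroup.one_lt_card_iff_ne_bot A₀).mpr hneA₀
    -- the fibre has at most two members
    have hfib : (O.filter (fun A : Subgroup G => Nat.card A = o)).card ≤ 2 := by
      have hinj : Function.Injective
          (fun B : ↥(O.filter (fun A : Subgroup G => Nat.card A = o)) =>
            (⟨B.1, by
              obtain ⟨hBO, hBo⟩ := Finset.mem_filter.mp B.2
              obtain ⟨hBm, hoddB, -⟩ := (hmemO B.1).mp hBO
              refine ⟨?_, hBm.1.1⟩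
              apply hConj A₀ B.1 hA₀m hBm hoddA₀ hoddB
              rw [hA₀o, hBo, Nat.coprime_self]
              omega⟩ :
              {B : Subgroup G // (∃ g : G, B = cj g A₀) ∧
                X ≤ Subgroup.normalizer (B : Set G)})) := by
        intro B₁ B₂ h12
        apply Subtype.ext
        exact congrArg (fun z => z.1) h12
      have hle := Nat.card_le_card_of_injective _ hinj
      rw [Nat.card_eq_fintype_card, Fintype.card_coe] at hle
      exact hle.trans (hG1 A₀)
    have hsum : ∑ A ∈ O.filter (fun A : Subgroup G => Nat.card A = o), (Nat.card A - 1)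
        = (O.filter (fun A : Subgroup G => Nat.card A = o)).card * (o - 1) := by
      have hc : ∀ A ∈ O.filter (fun A : Subgroup G => Nat.card A = o),
          (Nat.card A - 1) = (o - 1) := by
        intro A hA
        rw [(Finset.mem_filter.mp hA).2]
      rw [Finset.sum_congr rfl hc, Finset.sum_const, smul_eq_mul]
    rw [hsum]
    exact Nat.mul_le_mul_right _ hfib

end Cfsg.Agent.Lib.Helper80_FT3_ODDSUM
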