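import Mathlib
import Cfsg.Agent.Lib.Helper6_FT3Defs
import Cfsg.Agent.Lib.Helper1_FT3Defs

/-!
# S3331 package FT3A-BRIDGE (helper84): from `Hyp G X` (subgroup form) to helper1's element form
-/

set_option autoImplicit false
set_option linter.unusedVariables false
set_option linter.unusedSectionVars false

open Cfsg Cfsg.Agent.Lib.Helper6_FT3Defs
open scoped ComplexConjugate

namespace Cfsg.Agent.Lib.Helper84_FT3_BRIDGE

universe u

variable {G : Type u} [Group G] [Finite G] {X : Subgroup G}

/-- the centralizer of a cyclic subgroup is the centralizer of its generator -/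
theorem centralizer_zpowers (x : G) :
    Subgroup.centralizer ((Subgroup.zpowers x : Subgroup G) : Set G) =
      Subgroup.centralizer ({x} : Set G) := by
  ext c
  rw [Subgroup.mem_centralizer_iff, Subgroup.mem_centralizer_iff]
  constructor
  · intro hc y hy
    rw [Set.mem_singleton_iff] at hy
    subst hy
    exact hc y (Subgroup.mem_zpowers y)
  · intro hc y hy
    obtain ⟨k, rfl⟩ := Subgroup.mem_zpowers_iff.mp hy
    have h1 : Commute x c := hc x (Set.mem_singleton x)
    exact (h1.zpow_left k)

theorem exists_elts (h : Hyp G X) [IsSimpleGroup G]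
    (hN : Nat.card (Subgroup.normalizer (X : Set G)) = 6) :
    ∃ x t : G, X = Subgroup.zpowers x ∧ Cfsg.Agent.Lib.Helper1_FT3Defs.Hyp G x t := by
  obtain ⟨hX3, hXC⟩ := h
  -- a generator
  have hXnt : Nontrivial X := by
    rw [← Finite.one_lt_card_iff_nontrivial, hX3]
    norm_num
  obtain ⟨⟨x, hxX⟩, hx1'⟩ := exists_ne (1 : X)
  have hx1 : x ≠ 1 := fun hh => hx1' (Subtype.ext hh)
  have hox : orderOf x = 3 := by
    have hdvd : orderOf x ∣ 3 := by
      have := orderOf_dvd_natCard (⟨x, hxX⟩ : X)
      rwa [hX3, Subgroup.orderOf_mk] at this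
    rcases (Nat.dvd_prime Nat.prime_three).mp hdvd with h1 | h3
    · exact absurd (orderOf_eq_one_iff.mp h1) hx1
    · exact h3
  have hXz : X = Subgroup.zpowers x := by
    symm
    apply Subgroup.eq_of_le_of_card_ge
    · rw [Subgroup.zpowers_le]; exact hxX
    · rw [Nat.card_zpowers, hox, hX3]
  have hcx : Subgroup.centralizer ({x} : Set G) = Subgroup.zpowers x := by
    rw [← centralizer_zpowers, ← hXz]
    exact hXC
  -- an involution in the normalizer
  have : Fact (Nat.Prime 2) := ⟨Nat.prime_two⟩
  obtain ⟨t', ht'⟩ := exists_prime_orderOf_dvd_card' (G := Subgroup.normalizer (X : Set G)) 2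
    (by rw [hN]; norm_num)
  obtain ⟨t, htN⟩ := t'
  have hot : orderOf t = 2 := by rwa [Subgroup.orderOf_mk] at ht'
  -- `t x t⁻¹ = x⁻¹`
  have hconjX : t * x * t⁻¹ ∈ X := (htN x).mp hxX
  have hinv : t * x * t⁻¹ = x⁻¹ := by
    rw [hXz] at hconjX
    obtain ⟨k, hk⟩ := Subgroup.mem_zpowers_iff.mp hconjX
    have hk' : x ^ (k % 3) = t * x * t⁻¹ := by
      rw [← hk]
      have := zpow_mod_orderOf x k
      rw [hox] at this
      exact this
    have hk3 : 0 ≤ k % 3 ∧ k % 3 < 3 := ⟨Int.emod_nonneg k (by norm_num), Int.emod_lt_of_pos k (by norm_num)⟩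
    have hcases : k % 3 = 0 ∨ k % 3 = 1 ∨ k % 3 = 2 := by omega
    rcases hcases with h0 | h1 | h2
    · exfalso
      rw [h0, zpow_zero] at hk'
      apply hx1
      have : t * x * t⁻¹ = 1 := hk'.symm
      calc x = t⁻¹ * (t * x * t⁻¹) * t := by group
        _ = 1 := by rw [this]; group
    · exfalso
      rw [h1, zpow_one] at hk'
      -- `t` centralizes `x`
      have htc : t ∈ Subgroup.centralizer ({x} : Set G) := by
        rw [Subgroup.mem_centralizer_iff]
        intro y hy
        rw [Set.mem_singleton_iff] at hy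
        subst hy
        calc y * t = t * y * t⁻¹ * t := by rw [← hk']
          _ = t * y := by group
      rw [hcx] at htc
      have hd : orderOf t ∣ 3 := by
        have := orderOf_dvd_natCard (⟨t, htc⟩ : Subgroup.zpowers x)
        rwa [Nat.card_zpowers, hox, Subgroup.orderOf_mk] at this
      rw [hot] at hd
      norm_num at hd
    · rw [h2] at hk'
      rw [← hk']
      have hx3 : x ^ 3 = 1 := by rw [← hox]; exact pow_orderOf_eq_one x
      have : x ^ (2 : ℤ) * x = 1 := by
        have e : x ^ (2 : ℤ) * x = x ^ 3 := by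
          rw [zpow_ofNat]
          group
        rw [e, hx3]
      exact eq_inv_of_mul_eq_one_left this
  -- `G` is perfect
  have hperf : commutator G = ⊤ := by
    rcases (inferInstance : (commutator G).Normal).eq_bot_or_eq_top with hbot | htop
    · exfalso
      rw [commutator_def, Subgroup.commutator_eq_bot_iff_le_centralizer] at hbot
      have hNC : Subgroup.normalizer (X : Set G) ≤ X := by
        intro g _
        rw [← hXC, Subgroup.mem_centralizer_iff]
        intro y _
        have hg : g ∈ Subgroup.centralizer ((⊤ : Subgroup G) : Set G) := hbot (Subgroup.mem_top g)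
        exact ((Subgroup.mem_centralizer_iff.mp hg) y (Subgroup.mem_top y))
      have := Subgroup.card_le_of_le hNC
      rw [hN, hX3] at this
      omega
    · exact htop
  exact ⟨x, t, hXz, ⟨hperf, hox, hcx, hot, hinv⟩⟩

theorem isSig_iff {x : G} (hX : X = Subgroup.zpowers x) (A : Subgroup G) :
    IsSig X A ↔ Cfsg.Agent.Lib.Helper1_FT3Defs.IsSig x A := by
  unfold IsSig Cfsg.Agent.Lib.Helper1_FT3Defs.IsSig
  rw [hX, Subgroup.zpowers_le]
  exact and_comm

theorem fourGroups_eq {x : G} (hX : X = Subgroup.zpowers x) :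
    fourGroups X = Cfsg.Agent.Lib.Helper1_FT3Defs.fourSet x := by
  ext V
  unfold fourGroups Cfsg.Agent.Lib.Helper1_FT3Defs.fourSet
  simp only [Set.mem_ofPred_eq]
  rw [hX, Subgroup.zpowers_le]
  constructor
  · rintro ⟨hK, hx⟩
    refine ⟨hK.card_four, ?_, hx⟩
    intro v hv
    have h1 : (⟨v, hv⟩ : V) ^ 2 = 1 := by
      rw [← hK.exponent_two]
      exact Monoid.pow_exponent_eq_one _
    have h2 : v ^ 2 = 1 := congrArg Subtype.val h1
    rw [← pow_two]
    exact h2
  · rintro ⟨h4, hsq, hx⟩
    refine ⟨⟨h4, ?_⟩, hx⟩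
    have hdvd : Monoid.exponent V ∣ 2 := by
      apply Monoid.exponent_dvd_of_forall_pow_eq_one
      intro g
      apply Subtype.ext
      have := hsq g.1 g.2
      rw [← pow_two] at this
      exact this
    rcases (Nat.dvd_prime Nat.prime_two).mp hdvd with h1 | h2
    · exfalso
      have hss : Subsingleton V := Monoid.exp_eq_one_iff.mp h1
      have : Nat.card V = 1 := Nat.card_unique
      omega
    · exact h2

end Cfsg.Agent.Lib.Helper84_FT3_BRIDGE
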