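import Mathlib
import Cfsg.Agent.Lib.Helper6_FT3Defs
import Cfsg.Agent.Lib.Helper1_FT3Defs

/-!
# S3331 package FT3A-ODDLE (helper84)

`6 |A| ≤ 7 m (d - 1)` for a nontrivial nilpotent `x`-invariant subgroup `A` of odd order prime to 3,
on top of helper1's B6c (as a hypothesis): take `Z = Z(A)`.
-/

set_option autoImplicit false
set_option linter.unusedVariables false
set_option linter.unusedSectionVars false

open Cfsg Cfsg.Agent.Lib.Helper6_FT3Defs
open scoped ComplexConjugate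

namespace Cfsg.Agent.Lib.Helper84_FT3_ODDLE

universe u

variable {G : Type u} [Group G] [Finite G] {X : Subgroup G}

/-- the centre of `A`, as a subgroup of `G`, is invariant under the normalizer of `A` -/
theorem conj_mem_centre {A : Subgroup G} {y z : G} (hy : y ∈ Subgroup.normalizer (A : Set G))
    (hz : z ∈ A ⊓ Subgroup.centralizer (A : Set G)) :
    y * z * y⁻¹ ∈ A ⊓ Subgroup.centralizer (A : Set G) := by
  obtain ⟨hzA, hzC⟩ := Subgroup.mem_inf.mp hz
  refine Subgroup.mem_inf.mpr ⟨(hy z).mp hzA, ?_⟩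
  rw [Subgroup.mem_centralizer_iff]
  intro a ha
  have ha' : y⁻¹ * a * y⁻¹⁻¹ ∈ A := ((inv_mem hy) a).mp ha
  rw [inv_inv] at ha'
  have h1 : (y⁻¹ * a * y) * z = z * (y⁻¹ * a * y) := (Subgroup.mem_centralizer_iff.mp hzC) _ ha'
  calc a * (y * z * y⁻¹) = y * ((y⁻¹ * a * y) * z) * y⁻¹ := by group
    _ = y * (z * (y⁻¹ * a * y)) * y⁻¹ := by rw [h1]
    _ = y * z * y⁻¹ * a := by group

theorem odd_card_le [IsSimpleGroup G] {x t : G} (h : Cfsg.Agent.Lib.Helper1_FT3Defs.Hyp G x t)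
    (D : Cfsg.Agent.Lib.Helper1_FT3Defs.Data G x t)
    (hB6c : ∀ A Z : Subgroup G, Cfsg.Agent.Lib.Helper1_FT3Defs.IsSig x Z → Odd (Nat.card Z) → Z ≠ ⊥ →
      (∀ z ∈ Z, ∀ a ∈ A, z * a = a * z) → 6 * Nat.card A ≤ 7 * D.m * (D.d - 1))
    {A : Subgroup G} (hnil : Group.IsNilpotent A) (hxA : x ∈ Subgroup.normalizer (A : Set G))
    (h3 : ¬ 3 ∣ Nat.card A) (hodd : ¬ 2 ∣ Nat.card A) (hne : A ≠ ⊥) :
    6 * Nat.card A ≤ 7 * D.m * (D.d - 1) := by
  obtain ⟨Z, hZdef⟩ : ∃ Z : Subgroup G, Z = A ⊓ Subgroup.centralizer (A : Set G) := ⟨_, rfl⟩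
  have hZA : Z ≤ A := by rw [hZdef]; exact inf_le_left
  have hdvd : Nat.card Z ∣ Nat.card A := Subgroup.card_dvd_of_le hZA
  apply hB6c A Z
  · -- `IsSig x Z`
    refine ⟨fun h3Z => h3 (dvd_trans h3Z hdvd), ?_⟩
    intro g
    constructor
    · intro hg
      rw [hZdef] at hg ⊢
      exact conj_mem_centre hxA hg
    · intro hg
      rw [hZdef] at hg ⊢
      have := conj_mem_centre (inv_mem hxA) hg
      have e : x⁻¹ * (x * g * x⁻¹) * x⁻¹⁻¹ = g := by group
      rwa [e] at this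
  · -- odd order
    rw [← Nat.not_even_iff_odd, even_iff_two_dvd]
    exact fun h2 => hodd (dvd_trans h2 hdvd)
  · -- nontrivial
    have hnt : Nontrivial A := by
      rw [← Subgroup.nontrivial_iff_ne_bot] at hne
      exact hne
    have hc := Group.IsNilpotent.center_ne_bot (G := A)
    obtain ⟨z, hz1⟩ := (Subgroup.ne_bot_iff_exists_ne_one).mp hc
    intro hbot
    have hzZ : (z : G) ∈ Z := by
      rw [hZdef]
      refine Subgroup.mem_inf.mpr ⟨z.1.2, ?_⟩
      rw [Subgroup.mem_centralizer_iff]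
      intro a ha
      have := (Subgroup.mem_center_iff.mp z.2) ⟨a, ha⟩
      exact congrArg Subtype.val this
    rw [hbot, Subgroup.mem_bot] at hzZ
    apply hz1
    exact Subtype.ext (Subtype.ext hzZ)
  · -- centralized by `A`
    intro z hz a ha
    rw [hZdef] at hz
    obtain ⟨-, hzC⟩ := Subgroup.mem_inf.mp hz
    exact ((Subgroup.mem_centralizer_iff.mp hzC) a ha).symm

end Cfsg.Agent.Lib.Helper84_FT3_ODDLE
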