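import Mathlib
import Cfsg.Agent.Lib.Helper6_FT3Defs
import Cfsg.Agent.Lib.Helper52_FT3_BASIC
import Cfsg.Agent.Lib.Helper5_FT3_QUOT
import Cfsg.Agent.Lib.Helper17_FT3_SIG
import Cfsg.Agent.Lib.Helper63_FT3_G1
import Cfsg.Agent.Lib.Helper2_FT3_EVEN
import Cfsg.Agent.Lib.Helper16_FT3_EVSUM
import Cfsg.Agent.Lib.Helper14_FT3_ODDN
import Cfsg.Agent.Lib.Helper2_FT3_ODDHC
import Cfsg.Agent.Lib.Helper84_FT3_ODDLE
import Cfsg.Agent.Lib.Helper80_FT3_ODDSUM
import Cfsg.Agent.Lib.Helper80_FT3_UNION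
import Cfsg.Agent.Lib.Helper58_FT3_AL1
import Cfsg.Agent.Lib.Helper58_FT3_AL2
import Cfsg.Agent.Lib.Helper17_FT3_LIFT5
import Cfsg.Agent.Lib.Helper17_FT3_LIFT7
import Cfsg.Agent.Lib.Helper54_FT3_HIGE
import Cfsg.Agent.Lib.Helper41_FT3_HIGA
import Cfsg.Agent.Lib.Helper41_FT3_HIGB
import Cfsg.Agent.Lib.Helper16_FT3_HIGW
import Cfsg.Agent.Lib.Helper7_FT3_RED
import Cfsg.Agent.Lib.Helper84_FT3_BRIDGE
import Cfsg.Agent.Lib.Helper1_FT3Data
import Cfsg.Agent.Lib.Helper84_FT3_B4d
import Cfsg.Agent.Lib.Helper82_S3331_B4e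
import Cfsg.Agent.Lib.Helper16_FT3_B4b
import Cfsg.Agent.Lib.Helper7_FT3_B4f
import Cfsg.Agent.Lib.Helper32_FT3_B6c
import Cfsg.Agent.Lib.Helper61_FT3_B5a
import Cfsg.Agent.Lib.Helper16_FT3_B5b
import Cfsg.Agent.S0494
import Cfsg.Agent.S0495

/-!
# S3331 (Feit-Thompson: groups with a self-centralizing subgroup of order 3): final assembly (helper6)

Paper proof: `pending/helper6/S3331_endgame.md` (finding 167).  Packages: markets `ft3a_packages` (helper6) and
`ft3_packages` (helper1, character core).  This file: numerical glue (`numHyp`), the simple case (`simple_card`),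
lifting from quotients (`concl_of_quotient`), and the induction (`main_aux`).
-/

set_option autoImplicit false

open Cfsg Cfsg.Agent.Lib.Helper6_FT3Defs

universe u

variable {G : Type u} [Group G] [Finite G] {X : Subgroup G}

namespace Cfsg.Agent.Lib.Helper6_FT3Main


local notation "H1Hyp" => Cfsg.Agent.Lib.Helper1_FT3Defs.Hyp
local notation "H1Data" => Cfsg.Agent.Lib.Helper1_FT3Defs.Data
local notation "H1IsSig" => Cfsg.Agent.Lib.Helper1_FT3Defs.IsSig
local notation "H1fourSet" => Cfsg.Agent.Lib.Helper1_FT3Defs.fourSet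
local notation "H1USet" => Cfsg.Agent.Lib.Helper1_FT3Defs.USet

omit [Finite G] in
/-- conjugate elements have centralizers of the same order -/
theorem card_centralizer_of_isConj {s t : G} (hst : IsConj s t) :
    Nat.card (Subgroup.centralizer ({s} : Set G)) = Nat.card (Subgroup.centralizer ({t} : Set G)) := by
  obtain ⟨c, hc⟩ := isConj_iff.mp hst
  subst hc
  have key : Subgroup.centralizer ({c * s * c⁻¹} : Set G) =
      (Subgroup.centralizer ({s} : Set G)).map (MulAut.conj c).toMonoidHom := by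
    ext z
    simp only [Subgroup.mem_centralizer_iff, Set.mem_singleton_iff, forall_eq, Subgroup.mem_map,
      MulEquiv.coe_toMonoidHom, MulAut.conj_apply]
    constructor
    · intro hz
      refine ⟨c⁻¹ * z * c, ?_, by group⟩
      have h2 : s * (c⁻¹ * z * c) = c⁻¹ * ((c * s * c⁻¹) * z) * c := by group
      have h3 : c⁻¹ * z * c * s = c⁻¹ * (z * (c * s * c⁻¹)) * c := by group
      rw [h2, h3, hz]
    · rintro ⟨y, hy, rfl⟩
      calc c * s * c⁻¹ * (c * y * c⁻¹) = c * (s * y) * c⁻¹ := by group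
        _ = c * (y * s) * c⁻¹ := by rw [hy]
        _ = c * y * c⁻¹ * (c * s * c⁻¹) := by group
  rw [key, Subgroup.card_map_of_injective (MulAut.conj c).injective]

/-- the purely numerical part of the glue -/
theorem num_core (d m w : ℕ) (a : ℤ) (c : ℕ)
    (ha_le : 3 * a ≤ (d : ℤ) - 4) (h4 : (4 : ℤ) ∣ (d : ℤ) - a) (h12 : 4 ≤ (d : ℤ) + 3 * a)
    (hc : (c : ℤ) = m * ((d : ℤ) - a)) (hc3 : ¬ 3 ∣ c)
    (hwf : (3 : ℤ) * w * ((d : ℤ) - a) = m * ((d : ℤ) ^ 2 + 2 * d + (2 * d + 1) * a)) :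
    ∃ e : ℕ, (d : ℤ) - a = 4 * e ∧ c = 4 * m * e ∧ ¬ 3 ∣ m ∧ ¬ 3 ∣ e ∧ d + 2 ≤ 6 * e ∧
      3 * e + 1 ≤ d ∧ 12 * w * e + 4 * m * e * (2 * d + 1) = m * (3 * d ^ 2 + 3 * d) := by
  obtain ⟨k, hk⟩ := h4
  have hk0 : 0 ≤ k := by
    have : (0 : ℤ) ≤ d := Int.natCast_nonneg d
    omega
  obtain ⟨e, rfl⟩ := Int.eq_ofNat_of_zero_le hk0
  have hce : c = 4 * m * e := by
    have : (c : ℤ) = ((4 * m * e : ℕ) : ℤ) := by
      rw [hc, hk]; push_cast; ring
    exact_mod_cast this
  refine ⟨e, hk, hce, ?_, ?_, ?_, ?_, ?_⟩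
  · intro h3
    apply hc3
    rw [hce]
    exact Dvd.dvd.mul_right (Dvd.dvd.mul_left h3 4) e
  · intro h3
    apply hc3
    rw [hce]
    exact Dvd.dvd.mul_left h3 (4 * m)
  · have : (a : ℤ) = d - 4 * e := by linarith
    omega
  · have : (a : ℤ) = d - 4 * e := by linarith
    omega
  · have ha : (a : ℤ) = d - 4 * e := by linarith
    have : ((12 * w * e + 4 * m * e * (2 * d + 1) : ℕ) : ℤ) = ((m * (3 * d ^ 2 + 3 * d) : ℕ) : ℤ) := by
      push_cast
      rw [hk, ha] at hwf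
      linear_combination hwf
    exact_mod_cast this

/-- all numerical hypotheses of the arithmetic lemma, from the packages -/
theorem numHyp (h : Hyp G X) [IsSimpleGroup G] (ih : IH G) {x t : G}
    (hX : X = Subgroup.zpowers x) (h1 : H1Hyp G x t) (D : H1Data G x t) :
    ∃ (e w : ℕ) (os : Finset ℕ), NumHyp D.d D.m e w os := by
  -- non-commutativity
  have hna : ∃ a b : G, a * b ≠ b * a := by
    refine ⟨t, x, fun hcomm => ?_⟩
    have hinv := h1.inv
    have h2 : t * x * t⁻¹ = x := by rw [hcomm]; group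
    rw [h2] at hinv
    have h3 : x ^ 2 = 1 := by rw [pow_two]; nth_rewrite 1 [hinv]; group
    have := orderOf_dvd_of_pow_eq_one h3
    rw [h1.ox] at this
    omega
  have hsigiff := Cfsg.Agent.Lib.Helper84_FT3_BRIDGE.isSig_iff hX
  have hnil : ∀ A : Subgroup G, IsSig X A → Group.IsNilpotent A := fun A hA => Cfsg.Agent.Lib.Helper17_FT3_SIG.sig_nilpotent h hA
  have hmod : ∀ A : Subgroup G, IsSig X A → Nat.card A % 3 = 1 := fun A hA => Cfsg.Agent.Lib.Helper17_FT3_SIG.sig_card_mod h hA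
  have hG1 := Cfsg.Agent.Lib.Helper63_FT3_G1.card_conj_normalized_le_two h
  have hEven : ∀ A : Subgroup G, IsMaxSig X A → 2 ∣ Nat.card A →
      ∃ V ∈ fourGroups X, A = Subgroup.centralizer (V : Set G) := fun A hA h2 => Cfsg.Agent.Lib.Helper2_FT3_EVEN.even_member h hA h2
  have hc3 := Cfsg.Agent.Lib.Helper52_FT3_BASIC.not_three_dvd_card_centralizer h
  -- numerics
  obtain ⟨h4, _, h12⟩ := Cfsg.Agent.Lib.Helper84_FT3_B4d.four_group_arith h1 D
  have hale := Cfsg.Agent.Lib.Helper82_S3331_B4e.a_le h1 D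
  have hwf := Cfsg.Agent.Lib.Helper16_FT3_B4b.w_formula h1 D
  have hct3 := Cfsg.Agent.Lib.Helper7_FT3_B4f.three_not_dvd_cent h1
  obtain ⟨e, he, hce, hm3, he3, helo, hehi, hw⟩ := num_core D.d D.m (Nat.card (H1fourSet x)) D.a
    (Nat.card (Subgroup.centralizer ({t} : Set G))) hale h4 h12 D.card_cent hct3 hwf
  have hconj : ∀ s t' : G, orderOf s = 2 → orderOf t' = 2 → IsConj s t' := fun s t' hs ht' =>
    (D.allconj s hs).symm.trans (D.allconj t' ht')
  have hcent : ∀ t' : G, orderOf t' = 2 →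
      Nat.card (Subgroup.centralizer ({t'} : Set G)) = 4 * D.m * e := fun t' ht' => by
    rw [← card_centralizer_of_isConj (D.allconj t' ht'), hce]
  -- odd members
  have hON : ∀ A : Subgroup G, IsMaxSig X A → ∀ p : ℕ, p.Prime → p ≠ 2 → ∀ P : Subgroup G, P ≤ A →
      P ≠ ⊥ → IsPGroup p P → A ≤ Subgroup.normalizer (P : Set G) →
      X ≤ Subgroup.normalizer (P : Set G) →
      Subgroup.normalizer (P : Set G) ≤ Subgroup.normalizer (A : Set G) ∧
        Nat.card (Subgroup.normalizer (P : Set G)) ∣ 6 * Nat.card A := by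
    intro A hA p hp hp2 P hPA hP1 hP hAP hXP
    haveI := Fact.mk hp
    exact Cfsg.Agent.Lib.Helper14_FT3_ODDN.odd_normalizer h hna ih hA hp2 P hPA hP1 hP hAP hXP
  have hHall : ∀ A : Subgroup G, IsMaxSig X A → ¬ 2 ∣ Nat.card A → (Nat.card A).Coprime A.index :=
    fun A hA hodd => Cfsg.Agent.Lib.Helper2_FT3_ODDHC.odd_hall h hnil hON hA hodd
  have hConj : ∀ A B : Subgroup G, IsMaxSig X A → IsMaxSig X B → ¬ 2 ∣ Nat.card A →
      ¬ 2 ∣ Nat.card B → ¬ (Nat.card A).Coprime (Nat.card B) → ∃ g : G, B = cj g A :=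
    fun A B hA hB hoA hoB hnc => Cfsg.Agent.Lib.Helper2_FT3_ODDHC.odd_conj h hnil hON hA hB hoA hoB hnc
  have hLe : ∀ A : Subgroup G, IsSig X A → ¬ 2 ∣ Nat.card A → A ≠ ⊥ →
      6 * Nat.card A ≤ 7 * D.m * (D.d - 1) := by
    intro A hA hodd hne
    have hA1 := (hsigiff A).mp hA
    exact Cfsg.Agent.Lib.Helper84_FT3_ODDLE.odd_card_le h1 D (fun A Z => Cfsg.Agent.Lib.Helper32_FT3_B6c.card_le_of_central h1 D A Z) (hnil A hA) hA1.2 hA1.1
      hodd hne
  obtain ⟨os, hos1, hos2, hos3, hos4, hos5, hos6, hos7⟩ :=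
    Cfsg.Agent.Lib.Helper80_FT3_ODDSUM.odd_sum h (7 * D.m * (D.d - 1)) hmod hG1 hHall hConj hLe
  -- even members
  have hev := Cfsg.Agent.Lib.Helper16_FT3_EVSUM.even_sum h D.m e hcent hconj hmod hc3 hG1 hEven
  rw [Cfsg.Agent.Lib.Helper84_FT3_BRIDGE.fourGroups_eq hX] at hev
  -- the union
  have hU : sigUnion X = H1USet x := by
    ext v
    rw [Cfsg.Agent.Lib.Helper61_FT3_B5a.mem_USet_iff h1 v]
    constructor
    · rintro ⟨A, hA, hv⟩
      exact ⟨A, (hsigiff A).mp hA, hv⟩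
    · rintro ⟨A, hA, hv⟩
      exact ⟨A, (hsigiff A).mpr hA, hv⟩
  have hcardU := Cfsg.Agent.Lib.Helper16_FT3_B5b.card_USet h1 D
  have hun := Cfsg.Agent.Lib.Helper80_FT3_UNION.union_le (X := X)
  rw [hU, ← Nat.card_coe_set_eq] at hun
  refine ⟨e, Nat.card (H1fourSet x), os, ?_⟩
  have hG := D.card_G
  refine { hd4 := D.d_ge, hd3 := ?_, hm := D.m_pos, hm3 := hm3, he3 := he3, he_lo := helo,
           he_hi := hehi, hw := hw, hos_dvd := ?_, hos_hall := ?_, hos_mod := hos3, hos_gt := hos4,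
           hos_le := hos5, hos_cop := hos6, hineq := ?_ }
  · have := D.d_mod
    omega
  · intro o ho; rw [← hG]; exact hos1 o ho
  · intro o ho; rw [← hG]; exact hos2 o ho
  · rw [← hcardU]
    have : Nat.card ↑(H1USet x) ≤ 1 + EV D.m e (Nat.card ↑(H1fourSet x)) + 2 * ∑ o ∈ os, (o - 1) := by
      calc Nat.card ↑(H1USet x) ≤ 1 + ∑ᶠ A ∈ evenMembers X, (Nat.card A - 1) +
            ∑ᶠ A ∈ oddMembers X, (Nat.card A - 1) := hun
        _ ≤ 1 + EV D.m e (Nat.card ↑(H1fourSet x)) + 2 * ∑ o ∈ os, (o - 1) := by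
          gcongr
    omega



/-- the simple case: `|G| = 60` or `168` -/
theorem simple_card (h : Hyp G X) [IsSimpleGroup G] (ih : IH G)
    (hN : Nat.card (Subgroup.normalizer (X : Set G)) = 6) :
    Nat.card G = 60 ∨ Nat.card G = 168 := by
  obtain ⟨x, t, hX, h1⟩ := Cfsg.Agent.Lib.Helper84_FT3_BRIDGE.exists_elts h hN
  obtain ⟨D⟩ := Cfsg.Agent.Lib.Helper1_FT3Data.exists_data h1
  obtain ⟨e, w, os, H⟩ := numHyp h ih hX h1 D
  have hb := Cfsg.Agent.Lib.Helper58_FT3_AL1.arith_bound H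
  have hG := D.card_G
  rcases Cfsg.Agent.Lib.Helper58_FT3_AL2.arith_small H hb with ⟨hd, _, hm⟩ | ⟨hd, _, hm⟩
  · left; rw [hG, hd, hm]; norm_num
  · right; rw [hG, hd, hm]; norm_num

omit [Finite G] in
/-- `Concl` of type (I) with `N = ⊥` -/
theorem concl_of_card_three (hG : Nat.card G = 3) : Concl G := by
  left
  refine ⟨⊥, inferInstance, ?_, ?_, Or.inl ?_⟩
  · infer_instance
  · simp
  · rw [← hG]
    exact Nat.card_congr (QuotientGroup.quotientBot (G := G)).toEquiv

omit [Finite G] in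
theorem concl_of_equiv_S3 (e : G ≃* Equiv.Perm (Fin 3)) : Concl G := by
  left
  refine ⟨⊥, inferInstance, ?_, ?_, Or.inr ⟨?_⟩⟩
  · infer_instance
  · simp
  · exact (QuotientGroup.quotientBot (G := G)).trans e

omit [Finite G] in
theorem concl_of_equiv_A5 (e : G ≃* alternatingGroup (Fin 5)) : Concl G := by
  right; left
  refine ⟨⊥, inferInstance, ?_, ?_, ⟨?_⟩⟩
  · exact ⟨⟨fun a b => Subsingleton.elim _ _⟩⟩
  · intro n hn
    rw [Subgroup.mem_bot] at hn
    rw [hn, one_pow]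
  · exact (QuotientGroup.quotientBot (G := G)).trans e

/-- the case where `G` has no nontrivial normal `3'`-subgroup -/
theorem concl_of_core_trivial (h : Hyp G X) (ih : IH G)
    (hcore : ∀ K : Subgroup G, K.Normal → ¬ 3 ∣ Nat.card K → K = ⊥) : Concl G := by
  rcases Cfsg.Agent.Lib.Helper7_FT3_RED.reduce h hcore with h3 | ⟨⟨e⟩⟩ | ⟨hs, hN⟩
  · exact concl_of_card_three h3
  · exact concl_of_equiv_S3 e
  · haveI := hs
    rcases simple_card h ih hN with h60 | h168
    · obtain ⟨e⟩ := Cfsg.Agent.S0494.result h60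
      exact concl_of_equiv_A5 e
    · right; right
      have : Fact (Nat.Prime 7) := ⟨by norm_num⟩
      exact Cfsg.Agent.S0495.result h168 (F := ZMod 7) (ZMod.card 7)



omit [Finite G] in
theorem ker_comp_mk (K : Subgroup G) [K.Normal] (N : Subgroup (G ⧸ K)) [N.Normal] :
    ((QuotientGroup.mk' N).comp (QuotientGroup.mk' K)).ker = N.comap (QuotientGroup.mk' K) := by
  ext g
  simp [MonoidHom.mem_ker, Subgroup.mem_comap]

omit [Finite G] in
/-- the third isomorphism theorem for the preimage of a normal subgroup of the quotient -/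
noncomputable def comapQuotEquiv (K : Subgroup G) [K.Normal] (N : Subgroup (G ⧸ K)) [N.Normal] :
    (G ⧸ N.comap (QuotientGroup.mk' K)) ≃* (G ⧸ K) ⧸ N :=
  (QuotientGroup.quotientMulEquivOfEq (ker_comp_mk K N).symm).trans
    (QuotientGroup.quotientKerEquivOfSurjective
      ((QuotientGroup.mk' N).comp (QuotientGroup.mk' K))
      ((QuotientGroup.mk'_surjective N).comp (QuotientGroup.mk'_surjective K)))

/-- the order of the preimage -/
theorem card_comap_mk (K : Subgroup G) [K.Normal] (N : Subgroup (G ⧸ K)) :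
    Nat.card (N.comap (QuotientGroup.mk' K)) = Nat.card N * Nat.card K := by
  have h1 : (N.comap (QuotientGroup.mk' K)).index = N.index :=
    Subgroup.index_comap_of_surjective N (QuotientGroup.mk'_surjective K)
  have h2 := Subgroup.card_mul_index (N.comap (QuotientGroup.mk' K))
  have h3 := Subgroup.card_mul_index N
  have h4 := Subgroup.card_mul_index K
  have h5 : Nat.card (G ⧸ K) = K.index := rfl
  have hpos : 0 < N.index := Nat.pos_of_ne_zero (Subgroup.index_ne_zero_of_finite)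
  rw [h1] at h2
  have : Nat.card (N.comap (QuotientGroup.mk' K)) * N.index = Nat.card N * Nat.card K * N.index := by
    rw [h2, ← h4, ← h5, ← h3]; ring
  exact Nat.eq_of_mul_eq_mul_right hpos this

/-- lifting the conclusion from `G ⧸ K`, `K` a normal `3'`-subgroup -/
theorem concl_of_quotient (h : Hyp G X) (K : Subgroup G) [K.Normal] (hK3 : ¬ 3 ∣ Nat.card K)
    (hc : Concl (G ⧸ K)) : Concl G := by
  have h3prime : Nat.Prime 3 := Nat.prime_three
  rcases hc with ⟨N, hN, hnil, hcop, hq⟩ | ⟨N, hN, hcomm, hexp, ⟨f⟩⟩ | ⟨⟨f⟩⟩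
  · -- type (I)
    haveI := hN
    set M := N.comap (QuotientGroup.mk' K) with hM
    haveI hMn : M.Normal := Subgroup.Normal.comap hN _
    have hcardM : Nat.card M = Nat.card N * Nat.card K := card_comap_mk K N
    have hM3 : ¬ 3 ∣ Nat.card M := by
      rw [hcardM, h3prime.dvd_mul]
      rintro (h1 | h1)
      · exact (Nat.Coprime.eq_one_of_dvd ((Nat.coprime_comm).mp hcop) h1 |> fun h => by omega)
      · exact hK3 h1
    have hsig : IsSig X M := by
      refine ⟨?_, hM3⟩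
      rw [Subgroup.normalizer_eq_top]
      exact le_top
    left
    refine ⟨M, hMn, Cfsg.Agent.Lib.Helper17_FT3_SIG.sig_nilpotent h hsig, ?_, ?_⟩
    · exact (Nat.Prime.coprime_iff_not_dvd h3prime).mpr hM3 |>.symm
    · rcases hq with hq | ⟨⟨g⟩⟩
      · left
        rw [← hq]
        exact Nat.card_congr (comapQuotEquiv K N).toEquiv
      · right
        exact ⟨(comapQuotEquiv K N).trans g⟩
  · -- type (II)
    haveI := hN
    set M := N.comap (QuotientGroup.mk' K) with hM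
    haveI hMn : M.Normal := Subgroup.Normal.comap hN _
    have e : G ⧸ M ≃* alternatingGroup (Fin 5) := (comapQuotEquiv K N).trans f
    have h2 : IsPGroup 2 M := Cfsg.Agent.Lib.Helper17_FT3_LIFT5.lift_A5_two_group h M ⟨e⟩
    obtain ⟨hab, hex⟩ := Cfsg.Agent.Lib.Helper16_FT3_HIGW.higman_A5
      (fun G _ _ X N _ h hN2 hN => Cfsg.Agent.Lib.Helper54_FT3_HIGE.engel h N hN2 hN)
      (fun G _ _ X N _ h hN2 hN T hNT hr hE hcl hsq => Cfsg.Agent.Lib.Helper41_FT3_HIGA.abelian_step h N hN2 hN T hNT hr hE hcl hsq)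
      (fun G _ _ X N _ h hN2 hN T hNT hr hT2 hE hab =>
        Cfsg.Agent.Lib.Helper41_FT3_HIGB.exponent_step h N hN2 hN T hNT hr hT2 hE hab)
      h M h2 ⟨e⟩
    right; left
    refine ⟨M, hMn, ⟨⟨fun a b => Subtype.ext (hab a.1 a.2 b.1 b.2).eq⟩⟩, hex, ⟨e⟩⟩
  · -- type (III)
    have hK : K = ⊥ := Cfsg.Agent.Lib.Helper17_FT3_LIFT7.lift_L27 h K ⟨f⟩
    subst hK
    right; right
    exact ⟨(QuotientGroup.quotientBot (G := G)).symm.trans f⟩

/-- the inductive step -/
theorem step (h : Hyp G X) (ih : IH G) : Concl G := by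
  by_cases hcore : ∀ K : Subgroup G, K.Normal → ¬ 3 ∣ Nat.card K → K = ⊥
  · exact concl_of_core_trivial h ih hcore
  · push Not at hcore
    obtain ⟨K, hKn, hK3, hK1⟩ := hcore
    haveI := hKn
    have hlt : Nat.card (G ⧸ K) < Nat.card G := by
      have h1 := Subgroup.card_mul_index K
      have h2 : Nat.card (G ⧸ K) = K.index := rfl
      have h3 : 1 < Nat.card K := by
        rcases Nat.lt_or_ge 1 (Nat.card K) with h | h
        · exact h
        · exfalso
          apply hK1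
          have : Nat.card K = 1 := le_antisymm h Nat.card_pos
          exact Subgroup.card_eq_one.mp this
      have h4 : 0 < K.index := Nat.pos_of_ne_zero Subgroup.index_ne_zero_of_finite
      rw [h2]
      nlinarith
    have hq := Cfsg.Agent.Lib.Helper5_FT3_QUOT.hyp_quotient h K hK3
    exact concl_of_quotient h K hK3 (ih (G ⧸ K) hlt _ hq)

/-- S3331 by strong induction on the order -/
theorem main_aux : ∀ (n : ℕ) (G : Type u) [Group G] [Finite G] (X : Subgroup G),
    Nat.card G = n → Hyp G X → Concl G := by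
  intro n
  induction n using Nat.strong_induction_on with
  | _ n ih =>
    intro G _ _ X hn h
    apply step h
    intro H _ _ hlt Y hY
    exact ih (Nat.card H) (hn ▸ hlt) H Y rfl hY

end Cfsg.Agent.Lib.Helper6_FT3Main
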