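import Mathlib

/-!
# S0197 package SHAPE (helper6): the shape lemma (pure combinatorics on five integer vectors with a given Gram matrix).
-/

set_option autoImplicit false

namespace Cfsg.Agent.Lib.Helper6_GL23_SHAPE

section tools
variable {I : Type*} [DecidableEq I]

theorem pm_of_sq {x : ℤ} (h : x ^ 2 = 1) : x = 1 ∨ x = -1 := by
  have h1 : -2 < x := by nlinarith
  have h2 : x < 2 := by nlinarith
  have h3 : x ≠ 0 := by rintro rfl; norm_num at h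
  omega

theorem small_of_sq_le {x : ℤ} (h : x ^ 2 ≤ 3) : x = -1 ∨ x = 0 ∨ x = 1 := by
  have h1 : -2 < x := by nlinarith
  have h2 : x < 2 := by nlinarith
  omega

theorem sq_le_sum (s : Finset I) (f : I → ℤ) {a : I} (ha : a ∈ s) :
    f a ^ 2 ≤ ∑ i ∈ s, f i ^ 2 :=
  Finset.single_le_sum (f := fun i => f i ^ 2) (fun i _ => sq_nonneg (f i)) ha

/-- a sum of integer squares equal to `1`: one entry `±1`, the others `0` -/
theorem one_of_sum_sq (s : Finset I) (f : I → ℤ) (h : ∑ i ∈ s, f i ^ 2 = 1) :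
    ∃ a ∈ s, f a ^ 2 = 1 ∧ ∀ i ∈ s, i ≠ a → f i = 0 := by
  have hnn : ∀ t : Finset I, 0 ≤ ∑ i ∈ t, f i ^ 2 :=
    fun t => Finset.sum_nonneg fun i _ => sq_nonneg (f i)
  obtain ⟨a, has, ha0⟩ : ∃ a ∈ s, f a ≠ 0 := by
    by_contra hcon
    push Not at hcon
    rw [Finset.sum_eq_zero (fun i hi => by rw [hcon i hi]; norm_num)] at h
    norm_num at h
  have h1 := Finset.add_sum_erase s (fun i => f i ^ 2) has
  have h2 := hnn (s.erase a)
  have h3 : 0 < f a ^ 2 := by positivity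
  have ha1 : f a ^ 2 = 1 := by omega
  have hrest : ∑ i ∈ s.erase a, f i ^ 2 = 0 := by omega
  refine ⟨a, has, ha1, ?_⟩
  intro i his hia
  have hmem : i ∈ s.erase a := Finset.mem_erase.mpr ⟨hia, his⟩
  have := (Finset.sum_eq_zero_iff_of_nonneg (fun i _ => sq_nonneg (f i))).mp hrest i hmem
  exact pow_eq_zero_iff (by norm_num) |>.mp this

/-- a sum of integer squares equal to `2`: two entries `±1`, the others `0` -/
theorem two_of_sum_sq (s : Finset I) (f : I → ℤ) (h : ∑ i ∈ s, f i ^ 2 = 2) :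
    ∃ a ∈ s, ∃ b ∈ s, a ≠ b ∧ f a ^ 2 = 1 ∧ f b ^ 2 = 1 ∧
      ∀ i ∈ s, i ≠ a → i ≠ b → f i = 0 := by
  have hnn : ∀ t : Finset I, 0 ≤ ∑ i ∈ t, f i ^ 2 :=
    fun t => Finset.sum_nonneg fun i _ => sq_nonneg (f i)
  obtain ⟨a, has, ha0⟩ : ∃ a ∈ s, f a ≠ 0 := by
    by_contra hcon
    push Not at hcon
    rw [Finset.sum_eq_zero (fun i hi => by rw [hcon i hi]; norm_num)] at h
    norm_num at h
  have h1 := Finset.add_sum_erase s (fun i => f i ^ 2) has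
  have h2 := hnn (s.erase a)
  have h3 : 0 < f a ^ 2 := by positivity
  have ha1 : f a ^ 2 = 1 := by
    have h4 : f a ^ 2 ≤ 2 := by omega
    rcases small_of_sq_le (by omega : f a ^ 2 ≤ 3) with h5 | h5 | h5 <;> rw [h5] <;> norm_num
    exact ha0 h5
  have hrest : ∑ i ∈ s.erase a, f i ^ 2 = 1 := by omega
  obtain ⟨b, hbs, hb1, hb0⟩ := one_of_sum_sq (s.erase a) f hrest
  refine ⟨a, has, b, Finset.mem_of_mem_erase hbs, (Finset.ne_of_mem_erase hbs).symm, ha1, hb1, ?_⟩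
  intro i his hia hib
  exact hb0 i (Finset.mem_erase.mpr ⟨hia, his⟩) hib

/-- a sum over everything of `f · g` when `f` is supported on a finset -/
theorem sum_mul_support [Fintype I] (s : Finset I) (f g : I → ℤ) (hf : ∀ i, i ∉ s → f i = 0) :
    ∑ i, f i * g i = ∑ i ∈ s, f i * g i := by
  symm
  apply Finset.sum_subset (Finset.subset_univ s)
  intro i _ his
  rw [hf i his, zero_mul]


theorem eval2 [Fintype I] (f g : I → ℤ) {p1 p2 : I} (h12 : p1 ≠ p2)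
    (h0 : ∀ i, i ≠ p1 → i ≠ p2 → f i = 0) :
    ∑ i, f i * g i = f p1 * g p1 + f p2 * g p2 := by
  rw [sum_mul_support {p1, p2} f g, Finset.sum_pair h12]
  intro i hi
  simp only [Finset.mem_insert, Finset.mem_singleton, not_or] at hi
  exact h0 i hi.1 hi.2

theorem eval3 [Fintype I] (f g : I → ℤ) {p1 p2 p3 : I} (h12 : p1 ≠ p2) (h13 : p1 ≠ p3)
    (h23 : p2 ≠ p3) (h0 : ∀ i, i ≠ p1 → i ≠ p2 → i ≠ p3 → f i = 0) :
    ∑ i, f i * g i = f p1 * g p1 + f p2 * g p2 + f p3 * g p3 := by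
  rw [sum_mul_support {p1, p2, p3} f g, Finset.sum_insert, Finset.sum_pair h23]
  · ring
  · simp only [Finset.mem_insert, Finset.mem_singleton, not_or]
    exact ⟨h12, h13⟩
  · intro i hi
    simp only [Finset.mem_insert, Finset.mem_singleton, not_or] at hi
    exact h0 i hi.1 hi.2.1 hi.2.2

theorem one_le_sq {x : ℤ} (h : x ≠ 0) : 1 ≤ x ^ 2 := by
  have : 0 < x ^ 2 := by positivity
  omega

/-- three nonzero entries of a vector of norm `3`: everything else vanishes -/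
theorem zero_off3 [Fintype I] (f : I → ℤ) (h : ∑ i, f i ^ 2 = 3) {p1 p2 p3 : I} (h12 : p1 ≠ p2)
    (h13 : p1 ≠ p3) (h23 : p2 ≠ p3) (n1 : f p1 ≠ 0) (n2 : f p2 ≠ 0) (n3 : f p3 ≠ 0) :
    ∀ i, i ≠ p1 → i ≠ p2 → i ≠ p3 → f i = 0 := by
  intro i hi1 hi2 hi3
  by_contra hne
  have hle : ∑ χ ∈ ({i, p1, p2, p3} : Finset I), f χ ^ 2 ≤ ∑ χ, f χ ^ 2 :=
    Finset.sum_le_univ_sum_of_nonneg (fun χ => sq_nonneg (f χ))
  rw [Finset.sum_insert, Finset.sum_insert, Finset.sum_pair h23, h] at hle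
  · have := one_le_sq n1
    have := one_le_sq n2
    have := one_le_sq n3
    have := one_le_sq hne
    omega
  · simp only [Finset.mem_insert, Finset.mem_singleton, not_or]
    exact ⟨h12, h13⟩
  · simp only [Finset.mem_insert, Finset.mem_singleton, not_or]
    exact ⟨hi1, hi2, hi3⟩

/-- splitting off two entries of a sum of squares -/
theorem split_two [Fintype I] (f : I → ℤ) {p1 p2 : I} (h12 : p1 ≠ p2) :
    ∑ i, f i ^ 2 = f p1 ^ 2 + f p2 ^ 2 + ∑ i ∈ (Finset.univ.erase p1).erase p2, f i ^ 2 := by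
  have h1 := Finset.add_sum_erase Finset.univ (fun i => f i ^ 2) (Finset.mem_univ p1)
  have h2 := Finset.add_sum_erase (Finset.univ.erase p1) (fun i => f i ^ 2)
    (Finset.mem_erase.mpr ⟨h12.symm, Finset.mem_univ p2⟩)
  omega

theorem split_one [Fintype I] (f : I → ℤ) (p1 : I) :
    ∑ i, f i ^ 2 = f p1 ^ 2 + ∑ i ∈ Finset.univ.erase p1, f i ^ 2 := by
  have h1 := Finset.add_sum_erase Finset.univ (fun i => f i ^ 2) (Finset.mem_univ p1)
  omega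

/-! integer case analyses -/

theorem il1 {S T x y : ℤ} (hS : S ^ 2 = 1) (hT : T ^ 2 = 1) (hx : x = -1 ∨ x = 0 ∨ x = 1)
    (hy : y = -1 ∨ y = 0 ∨ y = 1) (h : S * x + T * y = 1) :
    (x = S ∧ y = 0) ∨ (x = 0 ∧ y = T) := by
  rcases pm_of_sq hS with rfl | rfl <;> rcases pm_of_sq hT with rfl | rfl <;>
    rcases hx with rfl | rfl | rfl <;> rcases hy with rfl | rfl | rfl <;> omega

theorem il2 {S x : ℤ} (hS : S ^ 2 = 1) (h : S * x = 0) : x = 0 := by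
  rcases pm_of_sq hS with rfl | rfl <;> omega

theorem il3 {S x : ℤ} (hS : S ^ 2 = 1) (h : S * x = 1) : x = S := by
  rcases pm_of_sq hS with rfl | rfl <;> omega

theorem il4 {S x : ℤ} (hS : S ^ 2 = 1) (h : S * x = -1) : x = -S := by
  rcases pm_of_sq hS with rfl | rfl <;> omega

end tools


section main
variable {I : Type*} [Fintype I] [DecidableEq I]

theorem small_entry (f : I → ℤ) (h : ∑ i, f i ^ 2 ≤ 3) (i : I) : f i = -1 ∨ f i = 0 ∨ f i = 1 := by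
  apply small_of_sq_le
  have := sq_le_sum Finset.univ f (Finset.mem_univ i)
  omega

/-- step (i): the shapes of `b` and `b'` -/
theorem step_bb (b b' : I → ℤ) (nb : ∑ i, b i ^ 2 = 2) (nb' : ∑ i, b' i ^ 2 = 2)
    (g : ∑ i, b i * b' i = 1) :
    ∃ i j k : I, i ≠ j ∧ i ≠ k ∧ j ≠ k ∧ b i ^ 2 = 1 ∧ b j ^ 2 = 1 ∧ b' k ^ 2 = 1 ∧ b' i = b i ∧
      (∀ χ, χ ≠ i → χ ≠ j → b χ = 0) ∧ (∀ χ, χ ≠ i → χ ≠ k → b' χ = 0) := by
  obtain ⟨i, -, j, -, hij, hbi, hbj, hb0⟩ := two_of_sum_sq Finset.univ b nb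
  have hb0' : ∀ χ, χ ≠ i → χ ≠ j → b χ = 0 := fun χ h1 h2 => hb0 χ (Finset.mem_univ _) h1 h2
  have ev := eval2 b b' hij hb0'
  rw [g] at ev
  have sm := small_entry b' (by omega)
  -- normalise
  have key : ∃ i j : I, i ≠ j ∧ b i ^ 2 = 1 ∧ b j ^ 2 = 1 ∧ (∀ χ, χ ≠ i → χ ≠ j → b χ = 0) ∧
      b' i = b i ∧ b' j = 0 := by
    rcases il1 hbi hbj (sm i) (sm j) ev.symm with ⟨h1, h2⟩ | ⟨h1, h2⟩
    · exact ⟨i, j, hij, hbi, hbj, hb0', h1, h2⟩
    · exact ⟨j, i, hij.symm, hbj, hbi, fun χ h1 h2 => hb0' χ h2 h1, h2, h1⟩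
  obtain ⟨i, j, hij, hbi, hbj, hb0', hi, hj⟩ := key
  have hsp := split_one b' i
  rw [nb', hi, hbi] at hsp
  obtain ⟨k, hk, hbk, hk0⟩ := one_of_sum_sq (Finset.univ.erase i) b' (by omega)
  have hki : k ≠ i := Finset.ne_of_mem_erase hk
  have hkj : k ≠ j := by
    rintro rfl
    rw [hj] at hbk
    norm_num at hbk
  refine ⟨i, j, k, hij, hki.symm, hkj.symm, hbi, hbj, hbk, hi, hb0', ?_⟩
  intro χ h1 h2
  exact hk0 χ (Finset.mem_erase.mpr ⟨h1, Finset.mem_univ _⟩) h2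


/-- step (ii): the shape of `c` -/
theorem step_c (o i j k : I) (b b' c c' : I → ℤ) (hij : i ≠ j) (hik : i ≠ k)
    (hio : i ≠ o) (hko : k ≠ o)
    (hbi : b i ^ 2 = 1) (hbj : b j ^ 2 = 1) (hbk : b' k ^ 2 = 1) (hi : b' i = b i)
    (hb0 : ∀ χ, χ ≠ i → χ ≠ j → b χ = 0) (hb'0 : ∀ χ, χ ≠ i → χ ≠ k → b' χ = 0)
    (hco : c o = -1) (hc'o : c' o = 0) (nc : ∑ χ, c χ ^ 2 = 3)
    (gbc : ∑ χ, b χ * c χ = 1) (gb'c : ∑ χ, b' χ * c χ = 0) (gb'c' : ∑ χ, b' χ * c' χ = 0)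
    (gcc' : ∑ χ, c χ * c' χ = 1) (hjo : j ≠ o) :
    c i = 0 ∧ c j = b j ∧ c k = 0 ∧ ∃ l, l ≠ o ∧ l ≠ i ∧ l ≠ j ∧ l ≠ k ∧ c l ^ 2 = 1 ∧
      ∀ χ, χ ≠ o → χ ≠ j → χ ≠ l → c χ = 0 := by
  have ev1 := eval2 b c hij hb0
  have ev2 := eval2 b' c hik hb'0
  rw [gbc] at ev1
  rw [gb'c, hi] at ev2
  have sm := small_entry c (by omega)
  have hSS : b i * b i = 1 := by rw [← sq]; exact hbi
  have hTT : b j * b j = 1 := by rw [← sq]; exact hbj
  rcases il1 hbi hbj (sm i) (sm j) ev1.symm with ⟨h1, h2⟩ | ⟨h1, h2⟩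
  · exfalso
    rw [h1, hSS] at ev2
    have hck : c k = -b' k := il4 hbk (by omega)
    have n1 : c o ≠ 0 := by rw [hco]; norm_num
    have n2 : c i ≠ 0 := by
      rw [h1]; rintro h0; rw [h0] at hbi; norm_num at hbi
    have n3 : c k ≠ 0 := by
      rw [hck]; rintro h0
      have : b' k = 0 := by omega
      rw [this] at hbk; norm_num at hbk
    have hc0 := zero_off3 c nc hio.symm hko.symm hik n1 n2 n3
    have ev3 := eval3 c c' hio.symm hko.symm hik hc0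
    have ev4 := eval2 b' c' hik hb'0
    rw [gcc', hco, hc'o, h1, hck] at ev3
    rw [gb'c', hi] at ev4
    have : 2 * (b i * c' i) = 1 := by linarith
    omega
  · have hck : c k = 0 := by
      rw [h1] at ev2
      exact il2 hbk (by omega)
    refine ⟨h1, h2, hck, ?_⟩
    have hsp := split_two c hjo.symm
    rw [nc, hco, h2, hbj] at hsp
    obtain ⟨l, hl, hcl, hl0⟩ := one_of_sum_sq ((Finset.univ.erase o).erase j) c (by omega)
    have hlj : l ≠ j := Finset.ne_of_mem_erase hl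
    have hlo : l ≠ o := Finset.ne_of_mem_erase (Finset.mem_of_mem_erase hl)
    have hli : l ≠ i := by
      rintro rfl; rw [h1] at hcl; norm_num at hcl
    have hlk : l ≠ k := by
      rintro rfl; rw [hck] at hcl; norm_num at hcl
    refine ⟨l, hlo, hli, hlj, hlk, hcl, ?_⟩
    intro χ h1 h2 h3
    exact hl0 χ (Finset.mem_erase.mpr ⟨h2, Finset.mem_erase.mpr ⟨h1, Finset.mem_univ _⟩⟩) h3


theorem small_entry_A (o : I) (A : I → ℤ) (hAo : A o = 1) (nA : ∑ χ, A χ ^ 2 = 4) (i : I)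
    (hio : i ≠ o) : A i = -1 ∨ A i = 0 ∨ A i = 1 := by
  apply small_of_sq_le
  have hsp := split_one A o
  rw [nA, hAo] at hsp
  have := sq_le_sum (Finset.univ.erase o) A (Finset.mem_erase.mpr ⟨hio, Finset.mem_univ i⟩)
  omega

/-- step (iii): the shape of `c'` -/
theorem step_c' (o i j k l : I) (b b' c c' A : I → ℤ) (hij : i ≠ j) (hik : i ≠ k) (hil : i ≠ l)
    (hkl : k ≠ l) (hjo : j ≠ o) (hjl : j ≠ l) (hlo : l ≠ o)
    (hbi : b i ^ 2 = 1) (hbj : b j ^ 2 = 1) (hbk : b' k ^ 2 = 1) (hi : b' i = b i)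
    (hb0 : ∀ χ, χ ≠ i → χ ≠ j → b χ = 0) (hb'0 : ∀ χ, χ ≠ i → χ ≠ k → b' χ = 0)
    (hco : c o = -1) (hcj : c j = b j) (hcl : c l ^ 2 = 1)
    (hc0 : ∀ χ, χ ≠ o → χ ≠ j → χ ≠ l → c χ = 0)
    (hc'o : c' o = 0) (nc' : ∑ χ, c' χ ^ 2 = 3)
    (gbc' : ∑ χ, b χ * c' χ = 1) (gb'c' : ∑ χ, b' χ * c' χ = 0) (gcc' : ∑ χ, c χ * c' χ = 1)
    (gbA : ∑ χ, b χ * A χ = 1) (gb'A : ∑ χ, b' χ * A χ = 1) (gcA : ∑ χ, c χ * A χ = -1)
    (gc'A : ∑ χ, c' χ * A χ = -1) (hAo : A o = 1) :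
    c' i = 0 ∧ c' j = b j ∧ c' k = 0 ∧ c' l = 0 ∧ ∃ m n, m ≠ n ∧ m ≠ o ∧ m ≠ i ∧ m ≠ j ∧ m ≠ k ∧
      m ≠ l ∧ n ≠ o ∧ n ≠ i ∧ n ≠ j ∧ n ≠ k ∧ n ≠ l ∧ c' m ^ 2 = 1 ∧ c' n ^ 2 = 1 ∧
      ∀ χ, χ ≠ j → χ ≠ m → χ ≠ n → c' χ = 0 := by
  have ev1 := eval2 b c' hij hb0
  have ev2 := eval2 b' c' hik hb'0
  have ev3 := eval3 c c' hjo.symm hlo.symm hjl hc0
  rw [gbc'] at ev1
  rw [gb'c', hi] at ev2
  rw [gcc', hco, hc'o, hcj] at ev3
  have sm := small_entry c' (by omega)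
  have hSS : b i * b i = 1 := by rw [← sq]; exact hbi
  have hTT : b j * b j = 1 := by rw [← sq]; exact hbj
  rcases il1 hbi hbj (sm i) (sm j) ev1.symm with ⟨h1, h2⟩ | ⟨h1, h2⟩
  · exfalso
    rw [h1, hSS] at ev2
    rw [h2] at ev3
    have hck : c' k = -b' k := il4 hbk (by omega)
    have hcl' : c' l = c l := il3 hcl (by omega)
    have n1 : c' i ≠ 0 := by
      rw [h1]; rintro h0; rw [h0] at hbi; norm_num at hbi
    have n2 : c' k ≠ 0 := by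
      rw [hck]; rintro h0
      have : b' k = 0 := by omega
      rw [this] at hbk; norm_num at hbk
    have n3 : c' l ≠ 0 := by
      rw [hcl']; rintro h0; rw [h0] at hcl; norm_num at hcl
    have hc'0 := zero_off3 c' nc' hik hil hkl n1 n2 n3
    have e1 := eval2 b A hij hb0
    have e2 := eval2 b' A hik hb'0
    have e3 := eval3 c A hjo.symm hlo.symm hjl hc0
    have e4 := eval3 c' A hik hil hkl hc'0
    rw [gbA] at e1
    rw [gb'A, hi] at e2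
    rw [gcA, hco, hAo, hcj] at e3
    rw [gc'A, h1, hck, hcl'] at e4
    have : 3 * (b i * A i) = 1 := by linarith
    omega
  · rw [h1] at ev2
    have hck : c' k = 0 := il2 hbk (by omega)
    rw [h2, hTT] at ev3
    have hcl' : c' l = 0 := il2 hcl (by omega)
    refine ⟨h1, h2, hck, hcl', ?_⟩
    have hsp := split_one c' j
    rw [nc', h2, hbj] at hsp
    obtain ⟨m, hm, n, hn, hmn, hcm, hcn, h0⟩ :=
      two_of_sum_sq (Finset.univ.erase j) c' (by omega)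
    have hmj : m ≠ j := Finset.ne_of_mem_erase hm
    have hnj : n ≠ j := Finset.ne_of_mem_erase hn
    have nz : ∀ χ, c' χ = 0 → m ≠ χ ∧ n ≠ χ := by
      intro χ hχ
      constructor
      · rintro rfl; rw [hχ] at hcm; norm_num at hcm
      · rintro rfl; rw [hχ] at hcn; norm_num at hcn
    refine ⟨m, n, hmn, (nz o hc'o).1, (nz i h1).1, hmj, (nz k hck).1, (nz l hcl').1,
      (nz o hc'o).2, (nz i h1).2, hnj, (nz k hck).2, (nz l hcl').2, hcm, hcn, ?_⟩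
    intro χ hj hm' hn'
    exact h0 χ (Finset.mem_erase.mpr ⟨hj, Finset.mem_univ _⟩) hm' hn'


theorem il5 {S T x y : ℤ} (hS : S ^ 2 = 1) (hT : T ^ 2 = 1) (hx : x = -1 ∨ x = 0 ∨ x = 1)
    (hy : y = -1 ∨ y = 0 ∨ y = 1) (h : S * x + T * y = -1) :
    (x = -S ∧ y = 0) ∨ (x = 0 ∧ y = -T) := by
  rcases pm_of_sq hS with rfl | rfl <;> rcases pm_of_sq hT with rfl | rfl <;>
    rcases hx with rfl | rfl | rfl <;> rcases hy with rfl | rfl | rfl <;> omega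

/-- four nonzero entries of a vector of norm `4`: everything else vanishes -/
theorem zero_off4 (f : I → ℤ) (h : ∑ i, f i ^ 2 = 4) {p1 p2 p3 p4 : I} (h12 : p1 ≠ p2)
    (h13 : p1 ≠ p3) (h14 : p1 ≠ p4) (h23 : p2 ≠ p3) (h24 : p2 ≠ p4) (h34 : p3 ≠ p4)
    (n1 : f p1 ≠ 0) (n2 : f p2 ≠ 0) (n3 : f p3 ≠ 0) (n4 : f p4 ≠ 0) :
    ∀ i, i ≠ p1 → i ≠ p2 → i ≠ p3 → i ≠ p4 → f i = 0 := by
  intro i hi1 hi2 hi3 hi4
  by_contra hne
  have hle : ∑ χ ∈ ({i, p1, p2, p3, p4} : Finset I), f χ ^ 2 ≤ ∑ χ, f χ ^ 2 :=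
    Finset.sum_le_univ_sum_of_nonneg (fun χ => sq_nonneg (f χ))
  rw [Finset.sum_insert, Finset.sum_insert, Finset.sum_insert, Finset.sum_pair h34, h] at hle
  · have := one_le_sq n1
    have := one_le_sq n2
    have := one_le_sq n3
    have := one_le_sq n4
    have := one_le_sq hne
    omega
  · simp only [Finset.mem_insert, Finset.mem_singleton, not_or]
    exact ⟨h23, h24⟩
  · simp only [Finset.mem_insert, Finset.mem_singleton, not_or]
    exact ⟨h12, h13, h14⟩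
  · simp only [Finset.mem_insert, Finset.mem_singleton, not_or]
    exact ⟨hi1, hi2, hi3, hi4⟩

/-- three entries `±1` of a vector of norm `4`: exactly one more entry `±1` -/
theorem last_of_four (A : I → ℤ) (nA : ∑ χ, A χ ^ 2 = 4) {p1 p2 p3 : I} (h12 : p1 ≠ p2)
    (h13 : p1 ≠ p3) (h23 : p2 ≠ p3) (h1 : A p1 ^ 2 = 1) (h2 : A p2 ^ 2 = 1) (h3 : A p3 ^ 2 = 1) :
    ∃ r, r ≠ p1 ∧ r ≠ p2 ∧ r ≠ p3 ∧ A r ^ 2 = 1 ∧
      ∀ χ, χ ≠ p1 → χ ≠ p2 → χ ≠ p3 → χ ≠ r → A χ = 0 := by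
  have hsp := split_two A h12
  have hmem : p3 ∈ (Finset.univ.erase p1).erase p2 :=
    Finset.mem_erase.mpr ⟨h23.symm, Finset.mem_erase.mpr ⟨h13.symm, Finset.mem_univ _⟩⟩
  have hsp2 := Finset.add_sum_erase ((Finset.univ.erase p1).erase p2) (fun i => A i ^ 2) hmem
  obtain ⟨r, hr, hAr, hr0⟩ :=
    one_of_sum_sq (((Finset.univ.erase p1).erase p2).erase p3) A (by omega)
  have hr3 : r ≠ p3 := Finset.ne_of_mem_erase hr
  have hr2 : r ≠ p2 := Finset.ne_of_mem_erase (Finset.mem_of_mem_erase hr)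
  have hr1 : r ≠ p1 := Finset.ne_of_mem_erase (Finset.mem_of_mem_erase (Finset.mem_of_mem_erase hr))
  refine ⟨r, hr1, hr2, hr3, hAr, ?_⟩
  intro χ c1 c2 c3 c4
  exact hr0 χ (Finset.mem_erase.mpr ⟨c3, Finset.mem_erase.mpr ⟨c2, Finset.mem_erase.mpr
    ⟨c1, Finset.mem_univ _⟩⟩⟩) c4

/-- step (iv): the shape of `A` -/
theorem step_A (o i j k l m n : I) (b b' c c' A : I → ℤ) (hij : i ≠ j) (hik : i ≠ k)
    (hjo : j ≠ o) (hjl : j ≠ l) (hlo : l ≠ o) (hio : i ≠ o) (hjk : j ≠ k) (hko : k ≠ o)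
    (hkl : k ≠ l) (hmn : m ≠ n) (hmo : m ≠ o) (hmj : m ≠ j) (hmk : m ≠ k) (hml : m ≠ l)
    (hno : n ≠ o) (hnj : n ≠ j) (hnk : n ≠ k) (hnl : n ≠ l)
    (hbi : b i ^ 2 = 1) (hbj : b j ^ 2 = 1) (hbk : b' k ^ 2 = 1) (hi : b' i = b i)
    (hb0 : ∀ χ, χ ≠ i → χ ≠ j → b χ = 0) (hb'0 : ∀ χ, χ ≠ i → χ ≠ k → b' χ = 0)
    (hco : c o = -1) (hcj : c j = b j) (hcl : c l ^ 2 = 1)
    (hc0 : ∀ χ, χ ≠ o → χ ≠ j → χ ≠ l → c χ = 0)
    (hc'j : c' j = b j) (hcm : c' m ^ 2 = 1) (hcn : c' n ^ 2 = 1)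
    (hc'0 : ∀ χ, χ ≠ j → χ ≠ m → χ ≠ n → c' χ = 0)
    (hAo : A o = 1) (nA : ∑ χ, A χ ^ 2 = 4)
    (gbA : ∑ χ, b χ * A χ = 1) (gb'A : ∑ χ, b' χ * A χ = 1) (gcA : ∑ χ, c χ * A χ = -1)
    (gc'A : ∑ χ, c' χ * A χ = -1) :
    A i = b i ∧ A j = 0 ∧ A k = 0 ∧ A l = 0 ∧
      ((A m = -c' m ∧ A n = 0) ∨ (A m = 0 ∧ A n = -c' n)) := by
  have e1 := eval2 b A hij hb0
  have e2 := eval2 b' A hik hb'0
  have e3 := eval3 c A hjo.symm hlo.symm hjl hc0
  have e4 := eval3 c' A hmj.symm hnj.symm hmn hc'0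
  rw [gbA] at e1
  rw [gb'A, hi] at e2
  rw [gcA, hco, hAo, hcj] at e3
  rw [gc'A, hc'j] at e4
  have smA := small_entry_A o A hAo nA
  have hSS : b i * b i = 1 := by rw [← sq]; exact hbi
  have hTT : b j * b j = 1 := by rw [← sq]; exact hbj
  rcases il1 hbi hbj (smA i hio) (smA j hjo) e1.symm with ⟨h1, h2⟩ | ⟨h1, h2⟩
  · rw [h1, hSS] at e2
    have hAk : A k = 0 := il2 hbk (by omega)
    rw [h2] at e3
    have hAl : A l = 0 := il2 hcl (by omega)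
    rw [h2] at e4
    refine ⟨h1, h2, hAk, hAl, ?_⟩
    exact il5 hcm hcn (smA m hmo) (smA n hno) (by omega)
  · exfalso
    rw [h1] at e2
    have hAk : A k = b' k := il3 hbk (by omega)
    rw [h2, hTT] at e3
    have hAl : A l = -c l := il4 hcl (by omega)
    have n1 : A o ≠ 0 := by rw [hAo]; norm_num
    have n2 : A j ≠ 0 := by
      rw [h2]; rintro h0; rw [h0] at hbj; norm_num at hbj
    have n3 : A k ≠ 0 := by
      rw [hAk]; rintro h0; rw [h0] at hbk; norm_num at hbk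
    have n4 : A l ≠ 0 := by
      rw [hAl]; rintro h0
      have : c l = 0 := by omega
      rw [this] at hcl; norm_num at hcl
    have hA0 := zero_off4 A nA hjo.symm hko.symm hlo.symm hjk hjl hkl n1 n2 n3 n4
    rw [h2, hTT, hA0 m hmo hmj hmk hml, hA0 n hno hnj hnk hnl] at e4
    omega


theorem form2 (f : I → ℤ) {p q : I} (hpq : p ≠ q) (h0 : ∀ χ, χ ≠ p → χ ≠ q → f χ = 0) (χ : I) :
    f χ = (if χ = p then f p else 0) + (if χ = q then f q else 0) := by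
  by_cases h1 : χ = p
  · subst h1; rw [if_pos rfl, if_neg hpq]; ring
  · by_cases h2 : χ = q
    · subst h2; rw [if_neg h1, if_pos rfl]; ring
    · rw [if_neg h1, if_neg h2, h0 χ h1 h2]; ring

theorem form3 (f : I → ℤ) {p q r : I} (hpq : p ≠ q) (hpr : p ≠ r) (hqr : q ≠ r)
    (h0 : ∀ χ, χ ≠ p → χ ≠ q → χ ≠ r → f χ = 0) (χ : I) :
    f χ = (if χ = p then f p else 0) + (if χ = q then f q else 0) +
      (if χ = r then f r else 0) := by
  by_cases h1 : χ = p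
  · subst h1; rw [if_pos rfl, if_neg hpq, if_neg hpr]; ring
  · by_cases h2 : χ = q
    · subst h2; rw [if_neg h1, if_pos rfl, if_neg hqr]; ring
    · by_cases h3 : χ = r
      · subst h3; rw [if_neg h1, if_neg h2, if_pos rfl]; ring
      · rw [if_neg h1, if_neg h2, if_neg h3, h0 χ h1 h2 h3]; ring

theorem form4 (f : I → ℤ) {p q r s : I} (hpq : p ≠ q) (hpr : p ≠ r) (hps : p ≠ s) (hqr : q ≠ r)
    (hqs : q ≠ s) (hrs : r ≠ s)
    (h0 : ∀ χ, χ ≠ p → χ ≠ q → χ ≠ r → χ ≠ s → f χ = 0) (χ : I) :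
    f χ = (if χ = p then f p else 0) + (if χ = q then f q else 0) +
      (if χ = r then f r else 0) + (if χ = s then f s else 0) := by
  by_cases h1 : χ = p
  · subst h1; rw [if_pos rfl, if_neg hpq, if_neg hpr, if_neg hps]; ring
  · by_cases h2 : χ = q
    · subst h2; rw [if_neg h1, if_pos rfl, if_neg hqr, if_neg hqs]; ring
    · by_cases h3 : χ = r
      · subst h3; rw [if_neg h1, if_neg h2, if_pos rfl, if_neg hrs]; ring
      · by_cases h4 : χ = s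
        · subst h4; rw [if_neg h1, if_neg h2, if_neg h3, if_pos rfl]; ring
        · rw [if_neg h1, if_neg h2, if_neg h3, if_neg h4, h0 χ h1 h2 h3 h4]; ring


/-- final assembly of SHAPE from the normal forms of the five vectors -/
theorem shape_of_normal (o : I) (b b' c c' A : I → ℤ)
    (x0 i l x3 j k r : I)
    (hd : [o, x0, i, l, x3, j, k, r].Nodup)
    (hb : ∀ χ, χ ≠ i → χ ≠ j → b χ = 0) (hbi : b i ^ 2 = 1) (hbj : b j ^ 2 = 1)
    (hb' : ∀ χ, χ ≠ i → χ ≠ k → b' χ = 0) (hb'i : b' i = b i) (hb'k : b' k ^ 2 = 1)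
    (hc : ∀ χ, χ ≠ o → χ ≠ j → χ ≠ l → c χ = 0) (hco : c o = -1) (hcj : c j = b j)
    (hcl : c l ^ 2 = 1)
    (hc' : ∀ χ, χ ≠ j → χ ≠ x0 → χ ≠ x3 → c' χ = 0) (hc'j : c' j = b j) (hc'0 : c' x0 ^ 2 = 1)
    (hc'3 : c' x3 ^ 2 = 1)
    (hA : ∀ χ, χ ≠ o → χ ≠ i → χ ≠ x0 → χ ≠ r → A χ = 0) (hAo : A o = 1) (hAi : A i = b i)
    (hA0 : A x0 = - c' x0) (hAr : A r ^ 2 = 1) :
    ∃ (x : Fin 7 → I) (σ : Fin 7 → ℤ), Function.Injective x ∧ (∀ j, x j ≠ o) ∧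
      (∀ j, σ j = 1 ∨ σ j = -1) ∧
      (∀ i, b i = (if i = x 1 then σ 1 else 0) - (if i = x 4 then σ 4 else 0)) ∧
      (∀ i, b' i = (if i = x 1 then σ 1 else 0) - (if i = x 5 then σ 5 else 0)) ∧
      (∀ i, c i = -(if i = o then 1 else 0) + (if i = x 2 then σ 2 else 0) -
        (if i = x 4 then σ 4 else 0)) ∧
      (∀ i, c' i = -(if i = x 0 then σ 0 else 0) + (if i = x 3 then σ 3 else 0) -
        (if i = x 4 then σ 4 else 0)) ∧
      (∀ i, A i = (if i = o then 1 else 0) + (if i = x 0 then σ 0 else 0) +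
        (if i = x 1 then σ 1 else 0) - (if i = x 6 then σ 6 else 0)) := by
  have hd0 := hd
  simp only [List.nodup_cons, List.mem_cons, List.not_mem_nil, or_false, not_or,
    List.nodup_nil, and_true, not_false_eq_true] at hd
  obtain ⟨⟨o0, oi, ol, o3, oj, ok, or'⟩, ⟨z0i, z0l, z03, z0j, z0k, z0r⟩, ⟨il, i3, ij, ik, ir⟩,
    ⟨l3, lj, lk, lr⟩, ⟨t3j, t3k, t3r⟩, ⟨jk, jr⟩, kr⟩ := hd
  have s0 : A x0 = 1 ∨ A x0 = -1 := by
    rcases pm_of_sq hc'0 with h | h <;> rw [hA0, h] <;> simp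
  have s1 : b i = 1 ∨ b i = -1 := pm_of_sq hbi
  have s2 : c l = 1 ∨ c l = -1 := pm_of_sq hcl
  have s3 : c' x3 = 1 ∨ c' x3 = -1 := pm_of_sq hc'3
  have s4 : -b j = 1 ∨ -b j = -1 := by
    rcases pm_of_sq hbj with h | h <;> rw [h] <;> simp
  have s5 : -b' k = 1 ∨ -b' k = -1 := by
    rcases pm_of_sq hb'k with h | h <;> rw [h] <;> simp
  have s6 : -A r = 1 ∨ -A r = -1 := by
    rcases pm_of_sq hAr with h | h <;> rw [h] <;> simp
  refine ⟨![x0, i, l, x3, j, k, r], ![A x0, b i, c l, c' x3, -b j, -b' k, -A r],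
    ?_, ?_, ?_, ?_, ?_, ?_, ?_, ?_⟩
  · rw [← List.nodup_ofFn]
    have : List.ofFn ![x0, i, l, x3, j, k, r] = [x0, i, l, x3, j, k, r] := by simp
    rw [this]
    exact (List.nodup_cons.mp hd0).2
  · intro p hp
    apply (List.nodup_cons.mp hd0).1
    rw [← hp]
    fin_cases p <;> simp
  · intro p
    fin_cases p
    exacts [s0, s1, s2, s3, s4, s5, s6]
  · intro χ
    show b χ = (if χ = i then b i else 0) - (if χ = j then -b j else 0)
    rw [form2 b ij hb χ]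
    split_ifs <;> ring
  · intro χ
    show b' χ = (if χ = i then b i else 0) - (if χ = k then -b' k else 0)
    rw [form2 b' ik hb' χ, hb'i]
    split_ifs <;> ring
  · intro χ
    show c χ = -(if χ = o then 1 else 0) + (if χ = l then c l else 0) -
      (if χ = j then -b j else 0)
    rw [form3 c oj ol (Ne.symm lj) hc χ, hco, hcj]
    split_ifs <;> ring
  · intro χ
    show c' χ = -(if χ = x0 then A x0 else 0) + (if χ = x3 then c' x3 else 0) -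
      (if χ = j then -b j else 0)
    rw [form3 c' (Ne.symm z0j) (Ne.symm t3j) z03 hc' χ, hc'j, hA0]
    split_ifs <;> ring
  · intro χ
    show A χ = (if χ = o then 1 else 0) + (if χ = x0 then A x0 else 0) +
      (if χ = i then b i else 0) - (if χ = r then -A r else 0)
    rw [form4 A oi o0 or' (Ne.symm z0i) ir z0r hA χ, hAo, hAi]
    split_ifs <;> ring

theorem shape (o : I) (b b' c c' A : I → ℤ)
    (ho : b o = 0 ∧ b' o = 0 ∧ c o = -1 ∧ c' o = 0 ∧ A o = 1)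
    (hn : ∑ i, b i ^ 2 = 2 ∧ ∑ i, b' i ^ 2 = 2 ∧ ∑ i, c i ^ 2 = 3 ∧ ∑ i, c' i ^ 2 = 3 ∧
      ∑ i, A i ^ 2 = 4)
    (hc : ∑ i, b i * b' i = 1 ∧ ∑ i, b i * c i = 1 ∧ ∑ i, b i * c' i = 1 ∧ ∑ i, b' i * c i = 0 ∧
      ∑ i, b' i * c' i = 0 ∧ ∑ i, c i * c' i = 1 ∧ ∑ i, A i * b i = 1 ∧ ∑ i, A i * b' i = 1 ∧
      ∑ i, A i * c i = -1 ∧ ∑ i, A i * c' i = -1) :
    ∃ (x : Fin 7 → I) (σ : Fin 7 → ℤ), Function.Injective x ∧ (∀ j, x j ≠ o) ∧
      (∀ j, σ j = 1 ∨ σ j = -1) ∧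
      (∀ i, b i = (if i = x 1 then σ 1 else 0) - (if i = x 4 then σ 4 else 0)) ∧
      (∀ i, b' i = (if i = x 1 then σ 1 else 0) - (if i = x 5 then σ 5 else 0)) ∧
      (∀ i, c i = -(if i = o then 1 else 0) + (if i = x 2 then σ 2 else 0) -
        (if i = x 4 then σ 4 else 0)) ∧
      (∀ i, c' i = -(if i = x 0 then σ 0 else 0) + (if i = x 3 then σ 3 else 0) -
        (if i = x 4 then σ 4 else 0)) ∧
      (∀ i, A i = (if i = o then 1 else 0) + (if i = x 0 then σ 0 else 0) +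
        (if i = x 1 then σ 1 else 0) - (if i = x 6 then σ 6 else 0)) := by
  obtain ⟨hbo, hb'o, hco, hc'o, hAo⟩ := ho
  obtain ⟨nb, nb', nc, nc', nA⟩ := hn
  obtain ⟨gbb', gbc, gbc', gb'c, gb'c', gcc', gAb, gAb', gAc, gAc'⟩ := hc
  have gbA : ∑ χ, b χ * A χ = 1 := by
    rw [← gAb]; exact Finset.sum_congr rfl fun _ _ => mul_comm _ _
  have gb'A : ∑ χ, b' χ * A χ = 1 := by
    rw [← gAb']; exact Finset.sum_congr rfl fun _ _ => mul_comm _ _
  have gcA : ∑ χ, c χ * A χ = -1 := by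
    rw [← gAc]; exact Finset.sum_congr rfl fun _ _ => mul_comm _ _
  have gc'A : ∑ χ, c' χ * A χ = -1 := by
    rw [← gAc']; exact Finset.sum_congr rfl fun _ _ => mul_comm _ _
  obtain ⟨i, j, k, hij, hik, hjk, hbi, hbj, hbk, hi, hb0, hb'0⟩ := step_bb b b' nb nb' gbb'
  have hio : i ≠ o := by rintro rfl; rw [hbo] at hbi; norm_num at hbi
  have hjo : j ≠ o := by rintro rfl; rw [hbo] at hbj; norm_num at hbj
  have hko : k ≠ o := by rintro rfl; rw [hb'o] at hbk; norm_num at hbk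
  obtain ⟨hci, hcj, hck, l, hlo, hli, hlj, hlk, hcl, hc0⟩ :=
    step_c o i j k b b' c c' hij hik hio hko hbi hbj hbk hi hb0 hb'0 hco hc'o nc gbc gb'c gb'c'
      gcc' hjo
  obtain ⟨hc'i, hc'j, hc'k, hc'l, m, n, hmn, hmo, hmi, hmj, hmk, hml, hno, hni, hnj, hnk, hnl,
      hcm, hcn, hc'0⟩ :=
    step_c' o i j k l b b' c c' A hij hik hli.symm hlk.symm hjo hlj.symm hlo hbi hbj hbk hi hb0
      hb'0 hco hcj hcl hc0 hc'o nc' gbc' gb'c' gcc' gbA gb'A gcA gc'A hAo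
  obtain ⟨hAi, hAj, hAk, hAl, hAmn⟩ :=
    step_A o i j k l m n b b' c c' A hij hik hjo hlj.symm hlo hio hjk hko hlk.symm hmn hmo hmj
      hmk hml hno hnj hnk hnl hbi hbj hbk hi hb0 hb'0 hco hcj hcl hc0 hc'j hcm hcn hc'0 hAo nA
      gbA gb'A gcA gc'A
  have hAo2 : A o ^ 2 = 1 := by rw [hAo]; norm_num
  have hAi2 : A i ^ 2 = 1 := by rw [hAi]; exact hbi
  rcases hAmn with ⟨hAm, hAn⟩ | ⟨hAm, hAn⟩
  · have hAm2 : A m ^ 2 = 1 := by rw [hAm, neg_sq]; exact hcm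
    obtain ⟨r, hro, hri, hrm, hAr, hA0⟩ :=
      last_of_four A nA hio.symm hmo.symm hmi.symm hAo2 hAi2 hAm2
    have nz : ∀ χ, A χ = 0 → r ≠ χ := by
      intro χ hχ
      rintro rfl; rw [hχ] at hAr; norm_num at hAr
    have hrj := nz j hAj
    have hrk := nz k hAk
    have hrl := nz l hAl
    have hrn := nz n hAn
    refine shape_of_normal o b b' c c' A m i l n j k r ?_ hb0 hbi hbj hb'0 hi hbk hc0 hco hcj hcl
      hc'0 hc'j hcm hcn ?_ hAo hAi hAm hAr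
    · simp only [List.nodup_cons, List.mem_cons, List.not_mem_nil, or_false, not_or,
        List.nodup_nil, and_true, not_false_eq_true]
      grind
    · intro χ h1 h2 h3 h4
      exact hA0 χ h1 h2 h3 h4
  · have hAn2 : A n ^ 2 = 1 := by rw [hAn, neg_sq]; exact hcn
    obtain ⟨r, hro, hri, hrn, hAr, hA0⟩ :=
      last_of_four A nA hio.symm hno.symm hni.symm hAo2 hAi2 hAn2
    have nz : ∀ χ, A χ = 0 → r ≠ χ := by
      intro χ hχ
      rintro rfl; rw [hχ] at hAr; norm_num at hAr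
    have hrj := nz j hAj
    have hrk := nz k hAk
    have hrl := nz l hAl
    have hrm := nz m hAm
    refine shape_of_normal o b b' c c' A n i l m j k r ?_ hb0 hbi hbj hb'0 hi hbk hc0 hco hcj hcl
      ?_ hc'j hcn hcm ?_ hAo hAi hAn hAr
    · simp only [List.nodup_cons, List.mem_cons, List.not_mem_nil, or_false, not_or,
        List.nodup_nil, and_true, not_false_eq_true]
      grind
    · intro χ h1 h2 h3
      exact hc'0 χ h1 h3 h2
    · intro χ h1 h2 h3 h4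
      exact hA0 χ h1 h2 h3 h4

end main

end Cfsg.Agent.Lib.Helper6_GL23_SHAPE
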