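import Mathlib
import Cfsg.Prelude.Def_Characters
import Cfsg.Agent.Lib.Helper80_CharBasic
import Cfsg.Agent.Lib.Helper6_GL23Defs

/-!
# S0197 package COORD (architect helper6): change of coordinates of the five integer vectors (pure algebra).
-/

set_option autoImplicit false
open scoped ComplexConjugate

namespace Cfsg.Agent.Lib.Helper91_GL23_COORD

open Cfsg Cfsg.Agent.Lib.Helper80_CharBasic Cfsg.Agent.Lib.Helper6_GL23Defs

/-- the inner product of two integer combinations of five vectors -/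
theorem dot5 {I : Type*} [Fintype I] (xt xv xy p q : I → ℤ)
    (a1 a2 a3 a4 a5 b1 b2 b3 b4 b5 : ℤ) :
    ∑ i, (a1 * xt i + a2 * xv i + a3 * xy i + a4 * p i + a5 * q i) *
        (b1 * xt i + b2 * xv i + b3 * xy i + b4 * p i + b5 * q i) =
      a1 * b1 * ∑ i, xt i ^ 2 + a2 * b2 * ∑ i, xv i ^ 2 + a3 * b3 * ∑ i, xy i ^ 2 +
        a4 * b4 * ∑ i, p i ^ 2 + a5 * b5 * ∑ i, q i ^ 2 +
        (a1 * b2 + a2 * b1) * ∑ i, xt i * xv i + (a1 * b3 + a3 * b1) * ∑ i, xt i * xy i +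
        (a1 * b4 + a4 * b1) * ∑ i, xt i * p i + (a1 * b5 + a5 * b1) * ∑ i, xt i * q i +
        (a2 * b3 + a3 * b2) * ∑ i, xv i * xy i + (a2 * b4 + a4 * b2) * ∑ i, xv i * p i +
        (a2 * b5 + a5 * b2) * ∑ i, xv i * q i + (a3 * b4 + a4 * b3) * ∑ i, xy i * p i +
        (a3 * b5 + a5 * b3) * ∑ i, xy i * q i + (a4 * b5 + a5 * b4) * ∑ i, p i * q i := by
  simp only [Finset.mul_sum, ← Finset.sum_add_distrib]
  exact Finset.sum_congr rfl (fun i _ => by ring)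

theorem coord {I : Type*} [Fintype I] (o : I) (xt xv xy p q : I → ℤ)
    (ho : xt o = 1 ∧ xv o = 1 ∧ xy o = 1 ∧ p o = 1 ∧ q o = 0)
    (hn : ∑ i, xt i ^ 2 = 48 ∧ ∑ i, xv i ^ 2 = 8 ∧ ∑ i, xy i ^ 2 = 6 ∧ ∑ i, p i ^ 2 = 4 ∧
      ∑ i, q i ^ 2 = 2)
    (hc : ∑ i, xt i * xv i = 0 ∧ ∑ i, xt i * xy i = 0 ∧ ∑ i, xt i * p i = 0 ∧
      ∑ i, xt i * q i = 0 ∧ ∑ i, xv i * xy i = 0 ∧ ∑ i, xv i * p i = 0 ∧ ∑ i, xv i * q i = 0 ∧
      ∑ i, xy i * p i = 0 ∧ ∑ i, xy i * q i = 0 ∧ ∑ i, p i * q i = 0)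
    (hd : ∀ i, (2 : ℤ) ∣ xv i + p i ∧ (4 : ℤ) ∣ xt i + xv i + 2 * p i - 2 * q i ∧
      (3 : ℤ) ∣ xt i - xy i) :
    ∃ b b' c c' A : I → ℤ,
      (∀ i, xt i = -4 * b i + 2 * b' i + 3 * c i + 3 * c' i + 4 * A i ∧
        xv i = 2 * b i - c i - c' i ∧ xy i = A i - b i - b' i ∧ p i = c' i - c i ∧
        q i = b' i - b i) ∧
      (b o = 0 ∧ b' o = 0 ∧ c o = -1 ∧ c' o = 0 ∧ A o = 1) ∧
      (∑ i, b i ^ 2 = 2 ∧ ∑ i, b' i ^ 2 = 2 ∧ ∑ i, c i ^ 2 = 3 ∧ ∑ i, c' i ^ 2 = 3 ∧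
        ∑ i, A i ^ 2 = 4) ∧
      (∑ i, b i * b' i = 1 ∧ ∑ i, b i * c i = 1 ∧ ∑ i, b i * c' i = 1 ∧ ∑ i, b' i * c i = 0 ∧
        ∑ i, b' i * c' i = 0 ∧ ∑ i, c i * c' i = 1 ∧ ∑ i, A i * b i = 1 ∧ ∑ i, A i * b' i = 1 ∧
        ∑ i, A i * c i = -1 ∧ ∑ i, A i * c' i = -1) := by
  obtain ⟨hn1, hn2, hn3, hn4, hn5⟩ := hn
  obtain ⟨hc1, hc2, hc3, hc4, hc5, hc6, hc7, hc8, hc9, hc10⟩ := hc
  -- divisibilities
  have h12 : ∀ i, (12 : ℤ) ∣ xt i + 3 * xv i - 4 * xy i - 6 * q i := by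
    intro i
    obtain ⟨⟨k2, hk2⟩, ⟨k4, hk4⟩, ⟨k3, hk3⟩⟩ := hd i
    omega
  have h6 : ∀ i, (6 : ℤ) ∣ xt i + 3 * xv i + 2 * xy i := by
    intro i
    obtain ⟨⟨k2, hk2⟩, ⟨k4, hk4⟩, ⟨k3, hk3⟩⟩ := hd i
    omega
  choose kb hkb using h12
  choose kA hkA using h6
  choose kc hkc using fun i => (hd i).1
  -- the new vectors, with denominators cleared
  have hb : ∀ i, 12 * kb i = 1 * xt i + 3 * xv i + (-4) * xy i + 0 * p i + (-6) * q i := by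
    intro i; have := hkb i; linarith
  have hb' : ∀ i, 12 * (kb i + q i) =
      1 * xt i + 3 * xv i + (-4) * xy i + 0 * p i + 6 * q i := by
    intro i; have := hkb i; linarith
  have hcc : ∀ i, 12 * (kb i - kc i) =
      1 * xt i + (-3) * xv i + (-4) * xy i + (-6) * p i + (-6) * q i := by
    intro i; have := hkb i; have := hkc i; linarith
  have hcc' : ∀ i, 12 * (kb i - kc i + p i) =
      1 * xt i + (-3) * xv i + (-4) * xy i + 6 * p i + (-6) * q i := by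
    intro i; have := hkb i; have := hkc i; linarith
  have hA : ∀ i, 12 * kA i = 2 * xt i + 6 * xv i + 4 * xy i + 0 * p i + 0 * q i := by
    intro i; have := hkA i; linarith
  -- the key computation
  have key : ∀ (u w : I → ℤ) (a1 a2 a3 a4 a5 b1 b2 b3 b4 b5 : ℤ),
      (∀ i, 12 * u i = a1 * xt i + a2 * xv i + a3 * xy i + a4 * p i + a5 * q i) →
      (∀ i, 12 * w i = b1 * xt i + b2 * xv i + b3 * xy i + b4 * p i + b5 * q i) →
      144 * ∑ i, u i * w i =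
        48 * (a1 * b1) + 8 * (a2 * b2) + 6 * (a3 * b3) + 4 * (a4 * b4) + 2 * (a5 * b5) := by
    intro u w a1 a2 a3 a4 a5 b1 b2 b3 b4 b5 hu hw
    have h1 : 144 * ∑ i, u i * w i = ∑ i, (12 * u i) * (12 * w i) := by
      rw [Finset.mul_sum]
      exact Finset.sum_congr rfl (fun i _ => by ring)
    have h2 : ∑ i, (12 * u i) * (12 * w i) =
        ∑ i, (a1 * xt i + a2 * xv i + a3 * xy i + a4 * p i + a5 * q i) *
          (b1 * xt i + b2 * xv i + b3 * xy i + b4 * p i + b5 * q i) :=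
      Finset.sum_congr rfl (fun i _ => by rw [hu i, hw i])
    rw [h1, h2, dot5, hn1, hn2, hn3, hn4, hn5, hc1, hc2, hc3, hc4, hc5, hc6, hc7, hc8, hc9, hc10]
    ring
  have keysq : ∀ (u : I → ℤ) (a1 a2 a3 a4 a5 : ℤ),
      (∀ i, 12 * u i = a1 * xt i + a2 * xv i + a3 * xy i + a4 * p i + a5 * q i) →
      144 * ∑ i, u i ^ 2 =
        48 * (a1 * a1) + 8 * (a2 * a2) + 6 * (a3 * a3) + 4 * (a4 * a4) + 2 * (a5 * a5) := by
    intro u a1 a2 a3 a4 a5 hu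
    have := key u u a1 a2 a3 a4 a5 a1 a2 a3 a4 a5 hu hu
    rw [← this]
    congr 1
    exact Finset.sum_congr rfl (fun i _ => by ring)
  obtain ⟨ho1, ho2, ho3, ho4, ho5⟩ := ho
  refine ⟨kb, fun i => kb i + q i, fun i => kb i - kc i, fun i => kb i - kc i + p i, kA,
    ?_, ?_, ?_, ?_⟩
  · intro i
    have h1 := hkb i
    have h2 := hkA i
    have h3 := hkc i
    refine ⟨?_, ?_, ?_, ?_, ?_⟩ <;> linarith
  · have h1 := hkb o
    have h2 := hkA o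
    have h3 := hkc o
    rw [ho1, ho2, ho3, ho5] at h1
    rw [ho1, ho2, ho3] at h2
    rw [ho2, ho4] at h3
    refine ⟨?_, ?_, ?_, ?_, ?_⟩ <;> (try beta_reduce) <;> omega
  · have e1 := keysq kb _ _ _ _ _ hb
    have e2 := keysq (fun i => kb i + q i) _ _ _ _ _ hb'
    have e3 := keysq (fun i => kb i - kc i) _ _ _ _ _ hcc
    have e4 := keysq (fun i => kb i - kc i + p i) _ _ _ _ _ hcc'
    have e5 := keysq kA _ _ _ _ _ hA
    norm_num at e1 e2 e3 e4 e5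
    refine ⟨?_, ?_, ?_, ?_, ?_⟩ <;> linarith
  · have e1 := key kb (fun i => kb i + q i) _ _ _ _ _ _ _ _ _ _ hb hb'
    have e2 := key kb (fun i => kb i - kc i) _ _ _ _ _ _ _ _ _ _ hb hcc
    have e3 := key kb (fun i => kb i - kc i + p i) _ _ _ _ _ _ _ _ _ _ hb hcc'
    have e4 := key (fun i => kb i + q i) (fun i => kb i - kc i) _ _ _ _ _ _ _ _ _ _ hb' hcc
    have e5 := key (fun i => kb i + q i) (fun i => kb i - kc i + p i) _ _ _ _ _ _ _ _ _ _ hb' hcc'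
    have e6 := key (fun i => kb i - kc i) (fun i => kb i - kc i + p i) _ _ _ _ _ _ _ _ _ _ hcc hcc'
    have e7 := key kA kb _ _ _ _ _ _ _ _ _ _ hA hb
    have e8 := key kA (fun i => kb i + q i) _ _ _ _ _ _ _ _ _ _ hA hb'
    have e9 := key kA (fun i => kb i - kc i) _ _ _ _ _ _ _ _ _ _ hA hcc
    have e10 := key kA (fun i => kb i - kc i + p i) _ _ _ _ _ _ _ _ _ _ hA hcc'
    norm_num at e1 e2 e3 e4 e5 e6 e7 e8 e9 e10
    refine ⟨?_, ?_, ?_, ?_, ?_, ?_, ?_, ?_, ?_, ?_⟩ <;> linarith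

end Cfsg.Agent.Lib.Helper91_GL23_COORD
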