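import Mathlib
import Cfsg.Prelude.Def_Characters
import Cfsg.Agent.Lib.Helper80_CharBasic
import Cfsg.Agent.Lib.Helper6_GL23Defs
import Cfsg.Agent.Lib.Helper5_GL23_ORTH
import Cfsg.Agent.Lib.Helper91_GL23_COORD
import Cfsg.Agent.Lib.Helper6_GL23_SHAPE

/-!
# S0197 package DATA (helper6): from ORTH + COORD + (the output of) SHAPE to the structure `Data G t a`.

`exists_data_aux` takes the conclusion of the shape lemma as a hypothesis.
-/

set_option autoImplicit false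
open scoped ComplexConjugate

namespace Cfsg.Agent.Lib.Helper6_GL23_DATA

open Cfsg Cfsg.Agent.Lib.Helper80_CharBasic Cfsg.Agent.Lib.Helper6_GL23Defs

section comb
variable {I : Type*} [Fintype I] [DecidableEq I]

/-- a function supported on `{o} ∪ range x` written with indicator functions -/
theorem form_of_cases (o : I) (x : Fin 7 → I) (hx : Function.Injective x) (hxo : ∀ j, x j ≠ o)
    (F : I → ℤ) (ko : ℤ) (k : Fin 7 → ℤ) (h0 : F o = ko) (h1 : ∀ j, F (x j) = k j)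
    (h2 : ∀ i, i ≠ o → (∀ j, i ≠ x j) → F i = 0) :
    ∀ i, F i = (if i = o then ko else 0) + ∑ j, (if i = x j then k j else 0) := by
  intro i
  by_cases hio : i = o
  · subst hio
    rw [if_pos rfl, h0, Finset.sum_eq_zero]
    · ring
    · intro j _
      rw [if_neg (Ne.symm (hxo j))]
  · rw [if_neg hio]
    by_cases hix : ∃ j, i = x j
    · obtain ⟨j₀, rfl⟩ := hix
      rw [Finset.sum_eq_single j₀, if_pos rfl, h1 j₀]
      · ring
      · intro j _ hj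
        rw [if_neg (fun h => hj (hx h).symm)]
      · intro h; exact absurd (Finset.mem_univ j₀) h
    · push Not at hix
      rw [Finset.sum_eq_zero, h2 i hio hix]
      · ring
      · intro j _
        rw [if_neg (hix j)]

/-- evaluating a weighted sum of such a function -/
theorem sum_split (o : I) (x : Fin 7 → I)
    (F : I → ℤ) (ko : ℤ) (k : Fin 7 → ℤ)
    (hF : ∀ i, F i = (if i = o then ko else 0) + ∑ j, (if i = x j then k j else 0))
    (g : I → ℤ) : ∑ i, F i * g i = ko * g o + ∑ j, k j * g (x j) := by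
  have : ∀ i, F i * g i = (if i = o then ko * g i else 0) +
      ∑ j, (if i = x j then k j * g i else 0) := by
    intro i
    rw [hF i, add_mul, Finset.sum_mul]
    congr 1
    · split_ifs <;> simp
    · apply Finset.sum_congr rfl
      intro j _
      split_ifs <;> simp
  rw [Finset.sum_congr rfl (fun i _ => this i), Finset.sum_add_distrib, Finset.sum_comm]
  congr 1
  · rw [Finset.sum_ite_eq' Finset.univ o (fun i => ko * g i)]
    simp
  · apply Finset.sum_congr rfl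
    intro j _
    rw [Finset.sum_ite_eq' Finset.univ (x j) (fun i => k j * g i)]
    simp

end comb

/-- the combinatorial core: from the output of ORTH + COORD + SHAPE to `Data` -/
theorem exists_data_aux {G : Type*} [Group G] [Fintype (IrrCharacter G)]
    [DecidableEq (IrrCharacter G)] (t a : G) (xt xv xy p q : IrrCharacter G → ℤ)
    (hval : ∀ χ : IrrCharacter G, (χ : G → ℂ) t = (xt χ : ℂ) ∧ (χ : G → ℂ) (a ^ 2) = (xv χ : ℂ) ∧
        (χ : G → ℂ) a = (p χ : ℂ) + (q χ : ℂ) * rt)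
    (deg : IrrCharacter G → ℕ) (hdegpos : ∀ χ, 0 < deg χ)
    (hdeg : ∀ χ : IrrCharacter G, (χ : G → ℂ) 1 = deg χ)
    (hdt : ∑ i, xt i * (deg i : ℤ) = 0) (hdv : ∑ i, xv i * (deg i : ℤ) = 0)
    (hdy : ∑ i, xy i * (deg i : ℤ) = 0) (hdp : ∑ i, p i * (deg i : ℤ) = 0)
    (hdq : ∑ i, q i * (deg i : ℤ) = 0)
    (hm : ∀ χ : IrrCharacter G, ∃ m : ℤ, (deg χ : ℤ) + xt χ + 2 * xv χ + 4 * p χ = 8 * m)
    (b b' c c' A : IrrCharacter G → ℤ)
    (hform : ∀ i, xt i = -4 * b i + 2 * b' i + 3 * c i + 3 * c' i + 4 * A i ∧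
        xv i = 2 * b i - c i - c' i ∧ xy i = A i - b i - b' i ∧ p i = c' i - c i ∧
        q i = b' i - b i)
    (x : Fin 7 → IrrCharacter G) (σ : Fin 7 → ℤ) (hx : Function.Injective x)
    (hxo : ∀ j, x j ≠ oneIrr G) (hσ : ∀ j, σ j = 1 ∨ σ j = -1)
    (hb : ∀ i, b i = (if i = x 1 then σ 1 else 0) - (if i = x 4 then σ 4 else 0))
    (hb' : ∀ i, b' i = (if i = x 1 then σ 1 else 0) - (if i = x 5 then σ 5 else 0))
    (hc : ∀ i, c i = -(if i = oneIrr G then 1 else 0) + (if i = x 2 then σ 2 else 0) -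
        (if i = x 4 then σ 4 else 0))
    (hc' : ∀ i, c' i = -(if i = x 0 then σ 0 else 0) + (if i = x 3 then σ 3 else 0) -
        (if i = x 4 then σ 4 else 0))
    (hA : ∀ i, A i = (if i = oneIrr G then 1 else 0) + (if i = x 0 then σ 0 else 0) +
        (if i = x 1 then σ 1 else 0) - (if i = x 6 then σ 6 else 0)) :
    Nonempty (Data G t a) := by
  set o := oneIrr G with ho_def
  have hdeg_o : deg o = 1 := by
    have h1 := hdeg o
    have h2 : ((o : IrrCharacter G) : G → ℂ) 1 = 1 := rfl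
    rw [h2] at h1
    exact_mod_cast h1.symm
  -- the five vectors at `o`
  have vo : b o = 0 ∧ b' o = 0 ∧ c o = -1 ∧ c' o = 0 ∧ A o = 1 := by
    refine ⟨?_, ?_, ?_, ?_, ?_⟩
    · rw [hb, if_neg (Ne.symm (hxo 1)), if_neg (Ne.symm (hxo 4))]; ring
    · rw [hb', if_neg (Ne.symm (hxo 1)), if_neg (Ne.symm (hxo 5))]; ring
    · rw [hc, if_pos rfl, if_neg (Ne.symm (hxo 2)), if_neg (Ne.symm (hxo 4))]; ring
    · rw [hc', if_neg (Ne.symm (hxo 0)), if_neg (Ne.symm (hxo 3)), if_neg (Ne.symm (hxo 4))]; ring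
    · rw [hA, if_pos rfl, if_neg (Ne.symm (hxo 0)), if_neg (Ne.symm (hxo 1)),
        if_neg (Ne.symm (hxo 6))]; ring
  -- the five vectors at `x j`
  have vx : ∀ j, b (x j) = σ j * (![0, 1, 0, 0, -1, 0, 0] : Fin 7 → ℤ) j ∧
      b' (x j) = σ j * (![0, 1, 0, 0, 0, -1, 0] : Fin 7 → ℤ) j ∧
      c (x j) = σ j * (![0, 0, 1, 0, -1, 0, 0] : Fin 7 → ℤ) j ∧
      c' (x j) = σ j * (![-1, 0, 0, 1, -1, 0, 0] : Fin 7 → ℤ) j ∧
      A (x j) = σ j * (![1, 1, 0, 0, 0, 0, -1] : Fin 7 → ℤ) j := by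
    intro j
    rw [hb, hb', hc, hc', hA]
    simp only [hx.eq_iff, if_neg (hxo j)]
    fin_cases j <;> simp
  -- the five vectors elsewhere
  have vr : ∀ i, i ≠ o → (∀ j, i ≠ x j) → b i = 0 ∧ b' i = 0 ∧ c i = 0 ∧ c' i = 0 ∧ A i = 0 := by
    intro i hio hix
    rw [hb, hb', hc, hc', hA]
    simp [hio, hix]
  -- the coordinates at `x j`
  have wx : ∀ j, xt (x j) = σ j * vt j ∧ xv (x j) = σ j * vv j ∧ p (x j) = σ j * vp j ∧
      q (x j) = σ j * vq j ∧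
      xy (x j) = σ j * (![1, -1, 0, 0, 1, 1, -1] : Fin 7 → ℤ) j := by
    intro j
    obtain ⟨f1, f2, f3, f4, f5⟩ := hform (x j)
    obtain ⟨g1, g2, g3, g4, g5⟩ := vx j
    have T1 : ∀ j : Fin 7, vt j = -4 * (![0, 1, 0, 0, -1, 0, 0] : Fin 7 → ℤ) j +
        2 * (![0, 1, 0, 0, 0, -1, 0] : Fin 7 → ℤ) j + 3 * (![0, 0, 1, 0, -1, 0, 0] : Fin 7 → ℤ) j +
        3 * (![-1, 0, 0, 1, -1, 0, 0] : Fin 7 → ℤ) j + 4 * (![1, 1, 0, 0, 0, 0, -1] : Fin 7 → ℤ) j := by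
      decide
    have T2 : ∀ j : Fin 7, vv j = 2 * (![0, 1, 0, 0, -1, 0, 0] : Fin 7 → ℤ) j -
        (![0, 0, 1, 0, -1, 0, 0] : Fin 7 → ℤ) j - (![-1, 0, 0, 1, -1, 0, 0] : Fin 7 → ℤ) j := by
      decide
    have T3 : ∀ j : Fin 7, vp j = (![-1, 0, 0, 1, -1, 0, 0] : Fin 7 → ℤ) j -
        (![0, 0, 1, 0, -1, 0, 0] : Fin 7 → ℤ) j := by
      decide
    have T4 : ∀ j : Fin 7, vq j = (![0, 1, 0, 0, 0, -1, 0] : Fin 7 → ℤ) j -
        (![0, 1, 0, 0, -1, 0, 0] : Fin 7 → ℤ) j := by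
      decide
    have T5 : ∀ j : Fin 7, (![1, -1, 0, 0, 1, 1, -1] : Fin 7 → ℤ) j =
        (![1, 1, 0, 0, 0, 0, -1] : Fin 7 → ℤ) j - (![0, 1, 0, 0, -1, 0, 0] : Fin 7 → ℤ) j -
        (![0, 1, 0, 0, 0, -1, 0] : Fin 7 → ℤ) j := by
      decide
    rw [f1, f2, f3, f4, f5, g1, g2, g3, g4, g5, T1 j, T2 j, T3 j, T4 j, T5 j]
    refine ⟨by ring, by ring, by ring, by ring, by ring⟩
  have wo : xt o = 1 ∧ xv o = 1 ∧ p o = 1 ∧ q o = 0 ∧ xy o = 1 := by
    obtain ⟨f1, f2, f3, f4, f5⟩ := hform o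
    obtain ⟨g1, g2, g3, g4, g5⟩ := vo
    rw [f1, f2, f3, f4, f5, g1, g2, g3, g4, g5]
    norm_num
  have wr : ∀ i, i ≠ o → (∀ j, i ≠ x j) → xt i = 0 ∧ xv i = 0 ∧ p i = 0 ∧ q i = 0 ∧ xy i = 0 := by
    intro i hio hix
    obtain ⟨f1, f2, f3, f4, f5⟩ := hform i
    obtain ⟨g1, g2, g3, g4, g5⟩ := vr i hio hix
    rw [f1, f2, f3, f4, f5, g1, g2, g3, g4, g5]
    norm_num
  -- the degree equations
  have Et := sum_split o x xt 1 (fun j => σ j * vt j)
    (form_of_cases o x hx hxo xt 1 _ wo.1 (fun j => (wx j).1) (fun i h1 h2 => (wr i h1 h2).1))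
    (fun i => (deg i : ℤ))
  have Ev := sum_split o x xv 1 (fun j => σ j * vv j)
    (form_of_cases o x hx hxo xv 1 _ wo.2.1 (fun j => (wx j).2.1)
      (fun i h1 h2 => (wr i h1 h2).2.1)) (fun i => (deg i : ℤ))
  have Ep := sum_split o x p 1 (fun j => σ j * vp j)
    (form_of_cases o x hx hxo p 1 _ wo.2.2.1 (fun j => (wx j).2.2.1)
      (fun i h1 h2 => (wr i h1 h2).2.2.1)) (fun i => (deg i : ℤ))
  have Eq := sum_split o x q 0 (fun j => σ j * vq j)
    (form_of_cases o x hx hxo q 0 _ wo.2.2.2.1 (fun j => (wx j).2.2.2.1)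
      (fun i h1 h2 => (wr i h1 h2).2.2.2.1)) (fun i => (deg i : ℤ))
  have Ey := sum_split o x xy 1 (fun j => σ j * (![1, -1, 0, 0, 1, 1, -1] : Fin 7 → ℤ) j)
    (form_of_cases o x hx hxo xy 1 _ wo.2.2.2.2 (fun j => (wx j).2.2.2.2)
      (fun i h1 h2 => (wr i h1 h2).2.2.2.2)) (fun i => (deg i : ℤ))
  rw [hdt] at Et
  rw [hdv] at Ev
  rw [hdp] at Ep
  rw [hdq] at Eq
  rw [hdy] at Ey
  simp only [Fin.sum_univ_succ, Fin.sum_univ_zero, vt, vv, vp, vq, hdeg_o] at Et Ev Ep Eq Ey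
  simp at Et Ev Ep Eq Ey
  have hcong : (8 : ℤ) ∣ (deg (x 1) : ℤ) + 6 * σ 1 := by
    obtain ⟨m, hm1⟩ := hm (x 1)
    refine ⟨m, ?_⟩
    rw [← hm1, (wx 1).1, (wx 1).2.1, (wx 1).2.2.1]
    simp [vt, vv, vp]
    ring
  exact ⟨{
    X := x
    σ := σ
    d := fun j => deg (x j)
    hσ := hσ
    X_inj := hx
    X_ne := hxo
    X_one := fun j => hdeg (x j)
    d_pos := fun j => hdegpos (x j)
    X_t := fun j => by rw [(hval (x j)).1, (wx j).1]; push_cast; ring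
    X_v := fun j => by rw [(hval (x j)).2.1, (wx j).2.1]; push_cast; ring
    X_a := fun j => by
      rw [(hval (x j)).2.2, (wx j).2.2.1, (wx j).2.2.2.1]; push_cast; ring
    supp := by
      intro χ h1 h2
      obtain ⟨z1, z2, z3, z4, _⟩ := wr χ h1 h2
      rw [(hval χ).1, (hval χ).2.1, (hval χ).2.2, z1, z2, z3, z4]
      simp
    deg0 := by linarith
    deg1 := by linarith
    deg4 := by linarith
    deg5 := by linarith
    deg6 := by linarith
    cong := hcong }⟩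

end Cfsg.Agent.Lib.Helper6_GL23_DATA

namespace Cfsg.Agent.Lib.Helper6_GL23_DATA

open Cfsg Cfsg.Agent.Lib.Helper80_CharBasic Cfsg.Agent.Lib.Helper6_GL23Defs

/-- DATA with the instance of the shape lemma (package SHAPE) for `I = IrrCharacter G` as a hypothesis. -/
theorem exists_data_of_shape {G : Type*} [Group G] [Finite G] {t a s : G} (h : Loc G t a s)
    (hshape : ∀ (_ : Fintype (IrrCharacter G)) (_ : DecidableEq (IrrCharacter G))
      (b b' c c' A : IrrCharacter G → ℤ),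
      (b (oneIrr G) = 0 ∧ b' (oneIrr G) = 0 ∧ c (oneIrr G) = -1 ∧ c' (oneIrr G) = 0 ∧
        A (oneIrr G) = 1) →
      (∑ i, b i ^ 2 = 2 ∧ ∑ i, b' i ^ 2 = 2 ∧ ∑ i, c i ^ 2 = 3 ∧ ∑ i, c' i ^ 2 = 3 ∧
        ∑ i, A i ^ 2 = 4) →
      (∑ i, b i * b' i = 1 ∧ ∑ i, b i * c i = 1 ∧ ∑ i, b i * c' i = 1 ∧ ∑ i, b' i * c i = 0 ∧
        ∑ i, b' i * c' i = 0 ∧ ∑ i, c i * c' i = 1 ∧ ∑ i, A i * b i = 1 ∧ ∑ i, A i * b' i = 1 ∧
        ∑ i, A i * c i = -1 ∧ ∑ i, A i * c' i = -1) →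
      ∃ (x : Fin 7 → IrrCharacter G) (σ : Fin 7 → ℤ), Function.Injective x ∧
        (∀ j, x j ≠ oneIrr G) ∧ (∀ j, σ j = 1 ∨ σ j = -1) ∧
        (∀ i, b i = (if i = x 1 then σ 1 else 0) - (if i = x 4 then σ 4 else 0)) ∧
        (∀ i, b' i = (if i = x 1 then σ 1 else 0) - (if i = x 5 then σ 5 else 0)) ∧
        (∀ i, c i = -(if i = oneIrr G then 1 else 0) + (if i = x 2 then σ 2 else 0) -
          (if i = x 4 then σ 4 else 0)) ∧
        (∀ i, c' i = -(if i = x 0 then σ 0 else 0) + (if i = x 3 then σ 3 else 0) -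
          (if i = x 4 then σ 4 else 0)) ∧
        (∀ i, A i = (if i = oneIrr G then 1 else 0) + (if i = x 0 then σ 0 else 0) +
          (if i = x 1 then σ 1 else 0) - (if i = x 6 then σ 6 else 0))) :
    Nonempty (Data G t a) := by
  classical
  have hft : Fintype (IrrCharacter G) := Fintype.ofFinite _
  obtain ⟨xt, xv, xy, p, q, hval, hone, hn, hc, hd, hdiv⟩ :=
    Cfsg.Agent.Lib.Helper5_GL23_ORTH.orth h
  simp only [finsum_eq_sum_of_fintype] at hn hc hd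
  choose deg hdegpos hdeg using fun χ : IrrCharacter G => irr_apply_one χ
  have cast_sum : ∀ f : IrrCharacter G → ℤ, ∑ i, (f i : ℂ) * (i : G → ℂ) 1 = 0 →
      ∑ i, f i * (deg i : ℤ) = 0 := by
    intro f hf
    have : ((∑ i, f i * (deg i : ℤ) : ℤ) : ℂ) = 0 := by
      rw [← hf]; push_cast
      exact Finset.sum_congr rfl (fun i _ => by rw [hdeg i])
    exact_mod_cast this
  obtain ⟨b, b', c, c', A, hform, ho, hn', hc'⟩ :=
    Cfsg.Agent.Lib.Helper91_GL23_COORD.coord (oneIrr G) xt xv xy p q hone hn hc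
      (fun i => ⟨(hdiv i).1, (hdiv i).2.1, (hdiv i).2.2.1⟩)
  obtain ⟨x, σ, hx, hxo, hσ, hb, hb', hcc, hcc', hA⟩ := hshape hft inferInstance b b' c c' A ho hn' hc'
  refine exists_data_aux t a xt xv xy p q (fun χ => ⟨(hval χ).1, (hval χ).2.1, (hval χ).2.2.2⟩)
    deg hdegpos hdeg (cast_sum xt hd.1) (cast_sum xv hd.2.1) (cast_sum xy hd.2.2.1)
    (cast_sum p hd.2.2.2.1) (cast_sum q hd.2.2.2.2) ?_ b b' c c' A hform x σ hx hxo hσ hb hb' hcc
    hcc' hA
  intro χ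
  obtain ⟨m, hm⟩ := (hdiv χ).2.2.2
  refine ⟨m, ?_⟩
  have : (((deg χ : ℤ) + xt χ + 2 * xv χ + 4 * p χ : ℤ) : ℂ) = ((8 * m : ℤ) : ℂ) := by
    push_cast
    rw [← hm, hdeg χ]
  exact_mod_cast this

/-- package DATA of S0197 -/
theorem exists_data {G : Type*} [Group G] [Finite G] {t a s : G} (h : Loc G t a s) :
    Nonempty (Data G t a) :=
  exists_data_of_shape h fun _ _ b b' c c' A ho hn hc =>
    Cfsg.Agent.Lib.Helper6_GL23_SHAPE.shape (oneIrr G) b b' c c' A ho hn hc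

end Cfsg.Agent.Lib.Helper6_GL23_DATA
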