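import Mathlib
import Cfsg.Agent.S0256

/-!
# `GL₄(2) ≅ A₈` (helper6), from helper61's `PSL₄(2) ≅ A₈` (S0256)

For a field `F` with two elements: `glEquivSL : GL n F ≃* SL n F`, `center_sl_eq_bot`, `slEquivPSL : SL n F ≃* PSL n F`,
and `gl4EquivA8 : Nonempty (GL (Fin 4) F ≃* alternatingGroup (Fin 8))`.
-/

set_option autoImplicit false

namespace Cfsg.Agent.Helper6GL42

open Matrix

variable {F : Type*} [Field F] [Fintype F] {n : Type*} [Fintype n] [DecidableEq n]

theorem eq_one_of_ne_zero (hF : Fintype.card F = 2) (a : F) (ha : a ≠ 0) : a = 1 := by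
  classical
  have h1 : Fintype.card Fˣ = 1 := by rw [Fintype.card_units, hF]
  have hs : Subsingleton Fˣ := Fintype.card_le_one_iff_subsingleton.1 h1.le
  have := Subsingleton.elim (Units.mk0 a ha) 1
  exact congrArg Units.val this

theorem det_eq_one (hF : Fintype.card F = 2) (g : GL n F) : (g : Matrix n n F).det = 1 := by
  apply eq_one_of_ne_zero hF
  have : IsUnit (g : Matrix n n F).det := by
    rw [← Matrix.isUnit_iff_isUnit_det]
    exact g.isUnit
  exact this.ne_zero

/-- `GL_n(F) ≃* SL_n(F)` when `|F| = 2`. -/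
noncomputable def glEquivSL (hF : Fintype.card F = 2) : GL n F ≃* SpecialLinearGroup n F where
  toFun g := ⟨g, det_eq_one hF g⟩
  invFun s := SpecialLinearGroup.toGL s
  left_inv g := by ext; rfl
  right_inv s := by ext; rfl
  map_mul' g h := by ext; rfl

theorem glEquivSL_coe (hF : Fintype.card F = 2) (g : GL n F) :
    ((glEquivSL hF g : SpecialLinearGroup n F) : Matrix n n F) = g := rfl

theorem center_sl_eq_bot (hF : Fintype.card F = 2) :
    Subgroup.center (SpecialLinearGroup n F) = ⊥ := by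
  rw [eq_bot_iff]
  intro A hA
  rw [Matrix.SpecialLinearGroup.mem_center_iff] at hA
  obtain ⟨r, hr, hA⟩ := hA
  rw [Subgroup.mem_bot]
  by_cases hn : IsEmpty n
  · apply Subtype.ext
    ext i j
    exact (hn.false i).elim
  · rw [not_isEmpty_iff] at hn
    have hr0 : r ≠ 0 := by
      intro h0
      rw [h0, zero_pow Fintype.card_ne_zero] at hr
      exact zero_ne_one hr
    have hr1 : r = 1 := eq_one_of_ne_zero hF r hr0
    apply Subtype.ext
    rw [← hA, hr1]
    simp

/-- `SL_n(F) ≃* PSL_n(F)` when `|F| = 2`. -/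
noncomputable def slEquivPSL (hF : Fintype.card F = 2) :
    SpecialLinearGroup n F ≃* ProjectiveSpecialLinearGroup n F :=
  (QuotientGroup.quotientBot (G := SpecialLinearGroup n F)).symm.trans
    (QuotientGroup.quotientMulEquivOfEq (center_sl_eq_bot hF).symm)

/-- `GL₄(F) ≅ A₈` when `|F| = 2`. -/
theorem gl4EquivA8 (hF : Fintype.card F = 2) :
    Nonempty (GL (Fin 4) F ≃* alternatingGroup (Fin 8)) := by
  obtain ⟨e⟩ := Cfsg.Agent.S0256.result hF
  exact ⟨((glEquivSL hF).trans (slEquivPSL hF)).trans e⟩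

end Cfsg.Agent.Helper6GL42
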