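import Mathlib

set_option autoImplicit false

/-! No element of order 9 in `GL (Fin 5) (ZMod 2)` (free-action count). -/

namespace Cfsg.Agent.Lib.Helper6_GL52

abbrev V5 : Type := Fin 5 → ZMod 2

/-- The natural action of `GL₅(2)` on `𝔽₂⁵`. -/
@[reducible] def glAct : MulAction (GL (Fin 5) (ZMod 2)) V5 where
  smul g v := (g : Matrix (Fin 5) (Fin 5) (ZMod 2)).mulVec v
  one_smul v := by
    show (((1 : GL (Fin 5) (ZMod 2)) : Matrix (Fin 5) (Fin 5) (ZMod 2))).mulVec v = v
    simp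
  mul_smul g h v := by
    show ((g * h : GL (Fin 5) (ZMod 2)) : Matrix (Fin 5) (Fin 5) (ZMod 2)).mulVec v =
      (g : Matrix (Fin 5) (Fin 5) (ZMod 2)).mulVec
        ((h : Matrix (Fin 5) (Fin 5) (ZMod 2)).mulVec v)
    rw [Matrix.mulVec_mulVec]
    rfl

attribute [local instance] glAct

theorem smul_def (g : GL (Fin 5) (ZMod 2)) (v : V5) :
    g • v = (g : Matrix (Fin 5) (Fin 5) (ZMod 2)).mulVec v := rfl

theorem smul_add' (g : GL (Fin 5) (ZMod 2)) (v w : V5) : g • (v + w) = g • v + g • w := by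
  simp only [smul_def, Matrix.mulVec_add]

theorem smul_zero' (g : GL (Fin 5) (ZMod 2)) : g • (0 : V5) = 0 := by
  simp only [smul_def, Matrix.mulVec_zero]

theorem smul_neg' (g : GL (Fin 5) (ZMod 2)) (v : V5) : g • (-v) = -(g • v) := by
  simp only [smul_def, Matrix.mulVec_neg]

theorem eq_one_of_smul (g : GL (Fin 5) (ZMod 2)) (h : ∀ v : V5, g • v = v) : g = 1 := by
  apply Units.ext
  have : Matrix.toLin' (g : Matrix (Fin 5) (Fin 5) (ZMod 2)) = Matrix.toLin' 1 := by
    apply LinearMap.ext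
    intro v
    rw [Matrix.toLin'_apply, Matrix.toLin'_one]
    exact h v
  exact Matrix.toLin'.injective this

/-- The fixed space of `g`. -/
def fixSub (g : GL (Fin 5) (ZMod 2)) : AddSubgroup V5 where
  carrier := {v | g • v = v}
  add_mem' := by
    intro a b ha hb
    show g • (a + b) = a + b
    rw [smul_add', ha, hb]
  zero_mem' := smul_zero' g
  neg_mem' := by
    intro a ha
    show g • (-a) = -a
    rw [smul_neg', ha]

theorem mem_fixSub (g : GL (Fin 5) (ZMod 2)) (v : V5) : v ∈ fixSub g ↔ g • v = v := Iff.rfl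

theorem card_V5 : Nat.card V5 = 32 := by
  rw [Nat.card_eq_fintype_card, Fintype.card_fun, ZMod.card, Fintype.card_fin]
  norm_num

/-- If `g ^ i` fixes `v`, `g ^ 9 = 1` and `g ^ i ≠ 1`, then `g ^ 3` fixes `v`. -/
theorem cube_fix (g : GL (Fin 5) (ZMod 2)) (h9 : g ^ 9 = 1) (v : V5) (i : ℤ)
    (hi : g ^ i • v = v) (hne : g ^ i ≠ 1) : g ^ 3 • v = v := by
  have hstab : g ^ i ∈ MulAction.stabilizer (GL (Fin 5) (ZMod 2)) v := hi
  have hd : (Int.gcd i 9 : ℤ) = i * Int.gcdA i 9 + 9 * Int.gcdB i 9 := Int.gcd_eq_gcd_ab i 9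
  have hgd : g ^ (Int.gcd i 9 : ℤ) ∈ MulAction.stabilizer (GL (Fin 5) (ZMod 2)) v := by
    rw [hd, zpow_add, zpow_mul, zpow_mul]
    have h9' : g ^ (9 : ℤ) = 1 := by
      have : g ^ ((9 : ℕ) : ℤ) = 1 := by rw [zpow_natCast]; exact h9
      simpa using this
    rw [h9', one_zpow, mul_one]
    exact Subgroup.zpow_mem _ hstab _
  rw [zpow_natCast] at hgd
  have hdvd : Int.gcd i 9 ∣ 3 ^ 2 := by
    have : Int.gcd i 9 ∣ 9 := by
      have := Int.gcd_dvd_right i 9
      exact_mod_cast Int.natCast_dvd_natCast.1 (by simpa using this)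
    simpa using this
  obtain ⟨k, hk, hkd⟩ := (Nat.dvd_prime_pow Nat.prime_three).1 hdvd
  have hk2 : k ≠ 2 := by
    intro h2
    apply hne
    have h9i : (9 : ℤ) ∣ i := by
      have : ((Int.gcd i 9 : ℕ) : ℤ) ∣ i := Int.gcd_dvd_left i 9
      rw [hkd, h2] at this
      simpa using this
    obtain ⟨c, rfl⟩ := h9i
    rw [zpow_mul]
    have h9' : g ^ (9 : ℤ) = 1 := by
      have : g ^ ((9 : ℕ) : ℤ) = 1 := by rw [zpow_natCast]; exact h9
      simpa using this
    rw [h9', one_zpow]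
  have hk1 : k = 0 ∨ k = 1 := by omega
  have h3 : g ^ 3 ∈ MulAction.stabilizer (GL (Fin 5) (ZMod 2)) v := by
    rcases hk1 with h | h
    · rw [hkd, h, pow_zero, pow_one] at hgd
      exact Subgroup.pow_mem _ hgd 3
    · rw [hkd, h, pow_one] at hgd
      exact hgd
  exact h3

/-- The part of `𝔽₂⁵` on which `⟨g⟩` acts freely (when `g` has order 9). -/
def freePart (g : GL (Fin 5) (ZMod 2)) : SubMulAction (Subgroup.zpowers g) V5 where
  carrier := {v | g ^ 3 • v ≠ v}
  smul_mem' := by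
    rintro ⟨h, hh⟩ v hv hcontra
    apply hv
    obtain ⟨k, rfl⟩ := Subgroup.mem_zpowers_iff.1 hh
    have hc : g ^ 3 * g ^ k = g ^ k * g ^ 3 :=
      (((Commute.refl g).zpow_right k).pow_left 3).eq
    have h1 : g ^ 3 • (g ^ k • v) = g ^ k • v := hcontra
    rw [← mul_smul, hc, mul_smul] at h1
    have h2 := congrArg (fun w => (g ^ k)⁻¹ • w) h1
    simpa only [inv_smul_smul] using h2

theorem mem_freePart (g : GL (Fin 5) (ZMod 2)) (v : V5) : v ∈ freePart g ↔ g ^ 3 • v ≠ v :=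
  Iff.rfl

theorem stabilizer_freePart (g : GL (Fin 5) (ZMod 2)) (h9 : g ^ 9 = 1) (v : freePart g) :
    MulAction.stabilizer (Subgroup.zpowers g) v = ⊥ := by
  rw [SubMulAction.stabilizer_of_subMul, Subgroup.eq_bot_iff_forall]
  rintro ⟨h, hh⟩ hstab
  obtain ⟨k, rfl⟩ := Subgroup.mem_zpowers_iff.1 hh
  by_contra hne
  have hne' : g ^ k ≠ 1 := fun h1 => hne (Subtype.ext h1)
  have hfix : g ^ k • (v : V5) = v := hstab
  exact v.2 (cube_fix g h9 v k hfix hne')

theorem card_freePart (g : GL (Fin 5) (ZMod 2)) :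
    Nat.card (freePart g) + Nat.card (fixSub (g ^ 3)) = 32 := by
  classical
  rw [← card_V5]
  have e : (fixSub (g ^ 3)) ⊕ (freePart g) ≃ V5 :=
    Equiv.sumCompl (fun v : V5 => g ^ 3 • v = v)
  rw [← Nat.card_congr e, Nat.card_sum, add_comm]

/-- `GL₅(2)` has no element of order `9`. -/
theorem pow_three_eq_one (g : GL (Fin 5) (ZMod 2)) (h9 : g ^ 9 = 1) : g ^ 3 = 1 := by
  by_contra h3
  have hord : orderOf g = 3 ^ (1 + 1) :=
    orderOf_eq_prime_pow (p := 3) (n := 1) (by simpa using h3) (by simpa using h9)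
  have hP : Nat.card (Subgroup.zpowers g) = 9 := by
    rw [Nat.card_zpowers, hord]; norm_num
  have e := MulAction.selfEquivOrbitsQuotientProd (stabilizer_freePart g h9)
  have hcard := Nat.card_congr e
  rw [Nat.card_prod, hP] at hcard
  have hsum := card_freePart g
  -- the fixed space of g^3 is a proper subgroup of order a power of 2
  have hdvd : Nat.card (fixSub (g ^ 3)) ∣ 2 ^ 5 := by
    have := AddSubgroup.card_addSubgroup_dvd_card (fixSub (g ^ 3))
    rw [card_V5] at this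
    simpa using this
  obtain ⟨k, hk, hkd⟩ := (Nat.dvd_prime_pow Nat.prime_two).1 hdvd
  have hk5 : k ≠ 5 := by
    intro h5
    apply h3
    apply eq_one_of_smul
    intro v
    have htop : fixSub (g ^ 3) = ⊤ := by
      apply AddSubgroup.eq_top_of_card_eq
      rw [hkd, h5, card_V5]; norm_num
    have : v ∈ fixSub (g ^ 3) := by rw [htop]; trivial
    exact this
  rw [hkd, hcard] at hsum
  have hk4 : k ≤ 4 := by omega
  interval_cases k <;> omega

end Cfsg.Agent.Lib.Helper6_GL52
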