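import Mathlib
import Cfsg.Agent.Lib.Helper6_GL52
import Cfsg.Agent.Lib.Helper5_PSLCard
import Cfsg.Agent.Lib.Helper41_SL2
import Cfsg.Agent.Lib.Helper41_SL2Torus
import Cfsg.Agent.Lib.Helper41_SL2Char2
import Cfsg.Agent.Lib.Helper37_SzBridge
import Cfsg.Agent.S0324
import Cfsg.Agent.S0280

set_option autoImplicit false

/-! Sections of `GL₅(2)`: orders and the absence of elements of order 9. -/

namespace Cfsg.Agent.Lib.Helper6_GL52Sec

open Cfsg.Agent.Lib.Helper6_GL52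

theorem card_GL52 : Nat.card (GL (Fin 5) (ZMod 2)) = 9999360 := by
  rw [Matrix.card_GL_field, ZMod.card, Fin.prod_univ_five]
  norm_num

theorem card_section_dvd (H : Subgroup (GL (Fin 5) (ZMod 2))) (K : Subgroup H) [K.Normal] :
    Nat.card (H ⧸ K) ∣ 9999360 := by
  rw [← card_GL52]
  exact (Subgroup.card_quotient_dvd_card K).trans (Subgroup.card_subgroup_dvd_card H)

theorem section_pow_three (H : Subgroup (GL (Fin 5) (ZMod 2))) (K : Subgroup H) [K.Normal]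
    (x : H ⧸ K) (h9 : x ^ 9 = 1) : x ^ 3 = 1 := by
  by_contra h3
  have hord : orderOf x = 3 ^ (1 + 1) :=
    orderOf_eq_prime_pow (p := 3) (n := 1) (by simpa using h3) (by simpa using h9)
  obtain ⟨y, rfl⟩ := QuotientGroup.mk_surjective x
  have hdvd : orderOf (y : H ⧸ K) ∣ orderOf y := by
    apply orderOf_dvd_of_pow_eq_one
    rw [← QuotientGroup.mk_pow, pow_orderOf_eq_one]
    rfl
  rw [hord] at hdvd
  have hpos : 0 < orderOf y := orderOf_pos y
  obtain ⟨c, hc⟩ := hdvd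
  have hc0 : c ≠ 0 := by
    rintro rfl
    omega
  have hz : orderOf (y ^ c) = 9 := by
    rw [orderOf_pow_of_dvd hc0 ⟨9, by rw [hc]; ring⟩, hc]
    norm_num
    exact Nat.mul_div_cancel _ (Nat.pos_of_ne_zero hc0)
  have h1 : ((y ^ c : H) : GL (Fin 5) (ZMod 2)) ^ 9 = 1 := by
    rw [← Subgroup.coe_pow, ← hz, pow_orderOf_eq_one]
    rfl
  have h2 := pow_three_eq_one _ h1
  have h3' : (y ^ c) ^ 3 = 1 := by
    apply Subtype.ext
    rw [Subgroup.coe_pow]
    exact h2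
  have := orderOf_dvd_of_pow_eq_one h3'
  rw [hz] at this
  omega

section psl

variable {F : Type*} [Field F] [Fintype F]

theorem two_eq_zero_of_card {n : ℕ} (hn : n ≠ 0) (hF : Fintype.card F = 2 ^ n) : (2 : F) = 0 := by
  have hcard : ((2 ^ n : ℕ) : F) = 0 := by
    rw [← hF]; exact FiniteField.cast_card_eq_zero F
  have : (2 : F) ^ n = 0 := by exact_mod_cast hcard
  exact (pow_eq_zero_iff hn).1 this

theorem card_PSL2_even {n : ℕ} (hn : n ≠ 0) (hF : Fintype.card F = 2 ^ n) :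
    Nat.card (Matrix.ProjectiveSpecialLinearGroup (Fin 2) F) = 2 ^ n * ((2 ^ n) ^ 2 - 1) := by
  have h1 := Cfsg.Agent.Lib.Helper5_PSLCard.card_PSL_mul (F := F) 2 (by norm_num)
  rw [Cfsg.Agent.Lib.Helper5_PSLCard.card_SL_two, hF] at h1
  have hg : Nat.gcd (2 ^ n - 1) 2 = 1 := by
    have hodd : ¬ 2 ∣ 2 ^ n - 1 := by
      have h2 : 2 ∣ 2 ^ n := dvd_pow_self 2 hn
      have hpos : 0 < 2 ^ n := by positivity
      omega
    exact (Nat.coprime_comm.1 ((Nat.Prime.coprime_iff_not_dvd Nat.prime_two).2 hodd))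
  rw [hg, mul_one] at h1
  exact h1

/-- `PSL₂(8)` has an element `x` with `x ^ 9 = 1` and `x ^ 3 ≠ 1`. -/
theorem exists_order_nine (hF : Fintype.card F = 8) :
    ∃ x : Matrix.ProjectiveSpecialLinearGroup (Fin 2) F, x ^ 9 = 1 ∧ x ^ 3 ≠ 1 := by
  have h2 : (2 : F) = 0 := two_eq_zero_of_card (n := 3) (by norm_num) (by rw [hF]; norm_num)
  obtain ⟨a, ha⟩ := Cfsg.Agent.Lib.Helper41_SL2.exists_no_root (F := F)
  haveI : Fact (∀ r : F, r ^ 2 ≠ a + 1 * r) := ⟨ha⟩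
  obtain ⟨z, hz, hord⟩ := Cfsg.Agent.Lib.Helper41_SL2.exists_norm_one_orderOf (F := F)
    (a := a) (b := 1)
  have hto : orderOf (Cfsg.Agent.Lib.Helper41_SL2.torusElt a 1 z hz) = 9 := by
    rw [Cfsg.Agent.Lib.Helper41_SL2Torus.orderOf_torusElt, hord, hF]
  refine ⟨QuotientGroup.mk (Cfsg.Agent.Lib.Helper41_SL2.torusElt a 1 z hz), ?_, ?_⟩
  · rw [← QuotientGroup.mk_pow, ← hto, pow_orderOf_eq_one]
    rfl
  · intro h3
    rw [← QuotientGroup.mk_pow] at h3
    have h3' : (Cfsg.Agent.Lib.Helper41_SL2.torusElt a 1 z hz) ^ 3 = 1 :=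
      Cfsg.Agent.Lib.Helper41_SL2Char2.mk_injective h2 h3
    have := orderOf_dvd_of_pow_eq_one h3'
    rw [hto] at this
    omega

end psl

end Cfsg.Agent.Lib.Helper6_GL52Sec
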