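import Cfsg.Agent.Lib.Helper6_MXDefs

/-! # MX-A3 : `Q` is a Sylow 2-subgroup -/

set_option autoImplicit false
open Cfsg.Agent.Lib.Helper6_MXDefs

namespace Cfsg.Agent.Lib.Helper6_MX_A3

variable {G : Type*} [Group G] [Finite G] {p a : ℕ} {Q : Subgroup G} {x : G}

theorem zpowers_isPGroup (g : G) (k : ℕ) (hk : g ^ 2 ^ k = 1) :
    IsPGroup 2 (Subgroup.zpowers g) := by
  rintro ⟨y, hy⟩
  obtain ⟨n, rfl⟩ := Subgroup.mem_zpowers_iff.1 hy
  refine ⟨k, ?_⟩
  apply Subtype.ext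
  simp only [Subgroup.coe_pow, Subgroup.coe_one]
  rw [← zpow_natCast, ← zpow_mul, mul_comm, zpow_mul, zpow_natCast, hk, one_zpow]

/-- MX-A3 -/
theorem q_syl (h : Ctx0 G p a Q x) : PSyl Q ∧ PTwoN Q := by
  haveI : Fact (Nat.Prime 2) := ⟨Nat.prime_two⟩
  have hcard : Nat.card Q = 2 ^ (Nat.card G).factorization 2 := by
    rw [h.sylQ, h.cardQ]
  let S : Sylow 2 G := Sylow.ofCard Q hcard
  have hS : (S : Subgroup G) = Q := Sylow.coe_ofCard Q hcard
  constructor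
  · rintro g ⟨k, hk⟩
    obtain ⟨P, hP⟩ := (zpowers_isPGroup g k hk).exists_le_sylow
    obtain ⟨c, hc⟩ := MulAction.exists_smul_eq G P S
    refine ⟨c, ?_⟩
    have hg : g ∈ (P : Subgroup G) := hP (Subgroup.mem_zpowers g)
    have : c * g * c⁻¹ ∈ ((c • P : Sylow 2 G) : Subgroup G) := by
      rw [Sylow.coe_subgroup_smul]
      exact ⟨g, hg, by simp [MulAut.conj_apply]⟩
    rw [hc, hS] at this
    exact this
  · rintro g hg ⟨k, hk⟩
    have h1 : IsPGroup 2 (Subgroup.zpowers g) := zpowers_isPGroup g k hk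
    have h2 : IsPGroup 2 Q := hS ▸ S.isPGroup'
    have hle : Subgroup.zpowers g ≤ Subgroup.normalizer (Q : Set G) := by
      rw [Subgroup.zpowers_le]
      exact hg
    have h3 : IsPGroup 2 (Subgroup.zpowers g ⊔ Q : Subgroup G) :=
      IsPGroup.to_sup_of_normal_right' h1 h2 hle
    have h4 : Subgroup.zpowers g ⊔ Q = (S : Subgroup G) :=
      S.is_maximal' h3 (hS ▸ le_sup_right)
    rw [hS] at h4
    have : Subgroup.zpowers g ≤ Q := h4 ▸ le_sup_left
    exact this (Subgroup.mem_zpowers g)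

end Cfsg.Agent.Lib.Helper6_MX_A3
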