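import Cfsg.Agent.Lib.Helper6_MXDefs

/-! # MX-A4 : contexts are stable under conjugation -/

set_option autoImplicit false
open Cfsg.Agent.Lib.Helper6_MXDefs

namespace Cfsg.Agent.Lib.Helper6_MX_A4

variable {G : Type*} [Group G]

theorem mem_map_conj (Q : Subgroup G) (c y : G) :
    y ∈ Q.map (MulAut.conj c).toMonoidHom ↔ c⁻¹ * y * c ∈ Q := by
  rw [Subgroup.mem_map]
  constructor
  · rintro ⟨v, hv, rfl⟩
    simp only [MulEquiv.coe_toMonoidHom, MulAut.conj_apply]
    have : c⁻¹ * (c * v * c⁻¹) * c = v := by group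
    rw [this]
    exact hv
  · intro hy
    refine ⟨c⁻¹ * y * c, hy, ?_⟩
    simp only [MulEquiv.coe_toMonoidHom, MulAut.conj_apply]
    group

variable [Finite G] {p a : ℕ}

/-- MX-A4 -/
theorem conj_ctx : UConj G p a := by
  intro Q x h c
  have h0 : Ctx0 G p a (Q.map (MulAut.conj c).toMonoidHom) (c * x * c⁻¹) :=
    { hp := h.hp
      hp2 := h.hp2
      ha := h.ha
      hpa := h.hpa
      cardQ := by
        rw [← h.cardQ]
        exact Nat.card_congr
          (Q.equivMapOfInjective _ (MulAut.conj c).injective).symm.toEquiv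
      sylQ := h.sylQ
      xN := by
        have hx := h.xN
        rw [NQ, Subgroup.mem_normalizer_iff] at hx ⊢
        intro y
        rw [mem_map_conj, mem_map_conj, hx (c⁻¹ * y * c)]
        have : c⁻¹ * (c * x * c⁻¹ * y * (c * x * c⁻¹)⁻¹) * c = x * (c⁻¹ * y * c) * x⁻¹ := by
          group
        rw [this]
      xp := by
        obtain ⟨k, hk⟩ := h.xp
        refine ⟨k, ?_⟩
        rw [conj_pow, hk]
        group
      xfree := by
        intro v hv hfix
        rw [mem_map_conj] at hv
        have h1 : x * (c⁻¹ * v * c) * x⁻¹ = c⁻¹ * v * c := by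
          have : x * (c⁻¹ * v * c) * x⁻¹ = c⁻¹ * (c * x * c⁻¹ * v * (c * x * c⁻¹)⁻¹) * c := by
            group
          rw [this, hfix]
        have h2 := h.xfree _ hv h1
        have : v = c * (c⁻¹ * v * c) * c⁻¹ := by group
        rw [this, h2]
        group }
  exact { toCtx0 := h0, simple := h.simple, even := h.even, abel := h.abel, big := h.big }

end Cfsg.Agent.Lib.Helper6_MX_A4
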