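import Cfsg.Agent.Lib.Helper6_MXDefs

/-!
# S4017 package MX-B2 (architect helper6): LEMMA T (abstract).
-/

set_option autoImplicit false
open Cfsg.Agent.Lib.Helper6_MXDefs

namespace Cfsg.Agent.Lib.Helper84_MX_B2

variable {G : Type*} [Group G] [Finite G] {p a : ℕ} {Q : Subgroup G} {x : G}

theorem lemT_abstract {H : Type*} [Group H] [Finite H] {p : ℕ} [Fact p.Prime] (hp2 : p ≠ 2)
    (Q : Subgroup H) (P : Sylow p H) (x : H)
    (hcard : Nat.card H = Nat.card Q * Nat.card P) (hQ2 : IsPGroup 2 Q)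
    (hPab : ∀ g ∈ P, ∀ h ∈ P, g * h = h * g) (hxP : x ∈ P)
    (hxN : x ∈ Subgroup.normalizer (Q : Set H)) (hfree : ∀ v ∈ Q, x * v * x⁻¹ = v → v = 1) :
    Q.Normal := by
  classical
  have hp := (Fact.out : p.Prime)
  have : Fact (Nat.Prime 2) := ⟨Nat.prime_two⟩
  obtain ⟨a, ha⟩ := IsPGroup.iff_card.mp hQ2
  obtain ⟨b, hb⟩ := IsPGroup.iff_card.mp P.2
  have hcop2p : Nat.Coprime 2 p := (Nat.coprime_primes Nat.prime_two hp).mpr (Ne.symm hp2)
  have hcop : Nat.Coprime (Nat.card Q) (Nat.card (P : Subgroup H)) := by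
    rw [ha, hb]
    exact Nat.Coprime.pow _ _ hcop2p
  have hPQ : (P : Subgroup H) ⊓ Q = ⊥ := (Subgroup.disjoint_of_coprime_natCard hcop.symm).eq_bot
  have hcompl : (P : Subgroup H).IsComplement' Q :=
    Subgroup.isComplement'_of_coprime (by rw [mul_comm]; exact hcard.symm) hcop.symm
  -- (1) Q ∩ N(P) = 1
  have h1 : ∀ v ∈ Q, v ∈ Subgroup.normalizer ((P : Subgroup H) : Set H) → v = 1 := by
    intro v hvQ hvN
    have hc1 : v * x * v⁻¹ * x⁻¹ ∈ (P : Subgroup H) := by
      have := (Subgroup.mem_normalizer_iff.mp hvN x).mp hxP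
      exact (P : Subgroup H).mul_mem this ((P : Subgroup H).inv_mem hxP)
    have hc2 : v * x * v⁻¹ * x⁻¹ ∈ Q := by
      have := (Subgroup.mem_normalizer_iff.mp hxN v⁻¹).mp (Q.inv_mem hvQ)
      have e : v * x * v⁻¹ * x⁻¹ = v * (x * v⁻¹ * x⁻¹) := by group
      rw [e]
      exact Q.mul_mem hvQ this
    have hc : v * x * v⁻¹ * x⁻¹ ∈ (P : Subgroup H) ⊓ Q := ⟨hc1, hc2⟩
    rw [hPQ, Subgroup.mem_bot] at hc
    apply hfree v hvQ
    have e : x * v * x⁻¹ = (v * x * v⁻¹ * x⁻¹)⁻¹ * v := by group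
    rw [e, hc, inv_one, one_mul]
  -- 2-elements of N(P) are trivial
  have h2 : ∀ v ∈ Subgroup.normalizer ((P : Subgroup H) : Set H), orderOf v = 2 → False := by
    intro v hvN hv2
    have hz : IsPGroup 2 (Subgroup.zpowers v) := by
      apply IsPGroup.of_card (n := 1)
      rw [Nat.card_zpowers, hv2, pow_one]
    obtain ⟨S, hS⟩ := hz.exists_le_sylow
    obtain ⟨T, hT⟩ := hQ2.exists_le_sylow
    -- T = Q by cardinality
    have hTQ : (T : Subgroup H) = Q := by
      symm
      apply Subgroup.eq_of_le_of_card_ge hT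
      obtain ⟨c, hc⟩ := IsPGroup.iff_card.mp T.2
      have hdvd : Nat.card (T : Subgroup H) ∣ Nat.card H := Subgroup.card_subgroup_dvd_card _
      rw [hcard, ha, hb, hc] at hdvd
      have hcc : Nat.Coprime (2 ^ c) (p ^ b) := Nat.Coprime.pow _ _ hcop2p
      have := (Nat.Coprime.dvd_mul_right hcc).mp hdvd
      rw [hc, ha]
      exact Nat.le_of_dvd (by positivity) this
    obtain ⟨h, hh⟩ := MulAction.exists_smul_eq H T S
    have hvS : v ∈ (S : Subgroup H) := hS (Subgroup.mem_zpowers v)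
    rw [← hh, Sylow.coe_subgroup_smul, hTQ, Subgroup.mem_pointwise_smul_iff_inv_smul_mem] at hvS
    have hvS' : h⁻¹ * v * h ∈ Q := by
      have e : (MulAut.conj h)⁻¹ • v = h⁻¹ * v * h := by
        rw [← map_inv, MulAut.smul_def, MulAut.conj_apply, inv_inv]
      rwa [e] at hvS
    -- h = z * u
    obtain ⟨⟨z, u⟩, hzu, _⟩ := (Subgroup.isComplement'_def.mp hcompl).existsUnique h
    simp only at hzu
    have hzP : (z : H) ∈ (P : Subgroup H) := z.2
    have huQ : (u : H) ∈ Q := u.2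
    have h3 : (z : H)⁻¹ * v * z ∈ Q := by
      have := Q.mul_mem (Q.mul_mem huQ hvS') (Q.inv_mem huQ)
      have e : (u : H) * (h⁻¹ * v * h) * (u : H)⁻¹ = (z : H)⁻¹ * v * z := by
        rw [← hzu]; group
      rwa [e] at this
    have h4 : (z : H)⁻¹ * v * z ∈ Subgroup.normalizer ((P : Subgroup H) : Set H) := by
      have hzN : (z : H) ∈ Subgroup.normalizer ((P : Subgroup H) : Set H) := Subgroup.le_normalizer hzP
      exact Subgroup.mul_mem _ (Subgroup.mul_mem _ (Subgroup.inv_mem _ hzN) hvN) hzN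
    have h5 := h1 _ h3 h4
    have hv1 : v = 1 := by
      have e : v = (z : H) * ((z : H)⁻¹ * v * z) * (z : H)⁻¹ := by group
      rw [e, h5]; group
    rw [hv1, orderOf_one] at hv2
    norm_num at hv2
  -- N(P) = P
  have hNP : Subgroup.normalizer ((P : Subgroup H) : Set H) = (P : Subgroup H) := by
    symm
    apply Subgroup.eq_of_le_of_card_ge Subgroup.le_normalizer
    have hodd : ¬ 2 ∣ Nat.card (Subgroup.normalizer ((P : Subgroup H) : Set H)) := by
      intro hdvd
      obtain ⟨v, hv⟩ := exists_prime_orderOf_dvd_card' 2 hdvd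
      exact h2 (v : H) v.2 (by rw [← hv]; exact (Subgroup.orderOf_coe v))
    have hdvd : Nat.card (Subgroup.normalizer ((P : Subgroup H) : Set H)) ∣ Nat.card H :=
      Subgroup.card_subgroup_dvd_card _
    rw [hcard, ha, hb] at hdvd
    have hcc : Nat.Coprime (Nat.card (Subgroup.normalizer ((P : Subgroup H) : Set H))) (2 ^ a) :=
      Nat.Coprime.pow_right _ ((Nat.coprime_comm.mp ((Nat.Prime.coprime_iff_not_dvd Nat.prime_two).mpr hodd)))
    have := hcc.dvd_of_dvd_mul_left hdvd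
    rw [hb]
    exact Nat.le_of_dvd (pow_pos hp.pos _) this
  have hP : Subgroup.normalizer ((P : Subgroup H) : Set H) ≤ Subgroup.centralizer ((P : Subgroup H) : Set H) := by
    rw [hNP]
    intro g hg
    rw [Subgroup.mem_centralizer_iff]
    intro s hs
    exact hPab s hs g hg
  obtain ⟨τ, hτ⟩ : ∃ τ : H →* ↥(P : Subgroup H), τ.ker.IsComplement' (P : Subgroup H) :=
    ⟨MonoidHom.transferSylow P hP, MonoidHom.ker_transferSylow_isComplement' P hP⟩
  have hQK : Q ≤ τ.ker := by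
    intro q hq
    rw [MonoidHom.mem_ker]
    have hord1 : orderOf (τ q) ∣ orderOf q := orderOf_map_dvd τ q
    have hord2 : orderOf (τ q) ∣ p ^ b := by
      have := orderOf_dvd_natCard (τ q)
      rwa [hb] at this
    have hord3 : orderOf q ∣ 2 ^ a := by
      have := orderOf_dvd_natCard (⟨q, hq⟩ : ↥Q)
      rwa [ha, Subgroup.orderOf_mk] at this
    have hcc : Nat.Coprime (orderOf (τ q)) (p ^ b) :=
      Nat.Coprime.coprime_dvd_left (hord1.trans hord3) (Nat.Coprime.pow _ _ hcop2p)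
    exact orderOf_eq_one_iff.mp (Nat.Coprime.eq_one_of_dvd hcc hord2)
  have hcardK : Nat.card τ.ker = Nat.card Q := by
    have h3 := hτ.card_mul_card
    have h4 : Nat.card τ.ker * Nat.card (P : Subgroup H) = Nat.card Q * Nat.card (P : Subgroup H) := by
      rw [← hcard]; exact h3
    exact Nat.eq_of_mul_eq_mul_right (by rw [hb]; exact pow_pos hp.pos _) h4
  have hQeq : Q = τ.ker := Subgroup.eq_of_le_of_card_ge hQK (le_of_eq hcardK)
  rw [hQeq]
  exact MonoidHom.normal_ker τ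

end Cfsg.Agent.Lib.Helper84_MX_B2
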