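import Cfsg.Agent.Lib.Helper74_MX_B3core
import Cfsg.Agent.Lib.Helper84_MX_B2

/-!
Package MX-B3 of the S4017 market (architect helper6): Lemma T, a proper subgroup containing `Q` and `x`
normalizes `Q`.
-/

set_option autoImplicit false

namespace Cfsg.Agent.Lib.Helper74_MX_B3

open Cfsg.Agent.Lib.Helper6_MXDefs

variable {G : Type*} [Group G] [Finite G] {p a : ℕ} {Q : Subgroup G} {x : G}

theorem lemT (h : Ctx G p a Q x) : PLemT Q x :=
  Cfsg.Agent.Lib.Helper74_MX_B3core.lemT_core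
    (fun _ _ hp2 Q' P x' hcard hQ2 hPab hxP hxN hfree =>
      Cfsg.Agent.Lib.Helper84_MX_B2.lemT_abstract hp2 Q' P x' hcard hQ2 hPab hxP hxN hfree) h

end Cfsg.Agent.Lib.Helper74_MX_B3
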