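import Cfsg.Agent.Lib.Helper6_MXDefs

/-!
# S4017 package MX-B1 (architect helper6): Burnside's transfer theorem inside a subgroup `H`.
-/

set_option autoImplicit false
open Cfsg.Agent.Lib.Helper6_MXDefs

namespace Cfsg.Agent.Lib.Helper84_MX_B1

variable {G : Type*} [Group G] [Finite G] {p a : ℕ} {Q : Subgroup G} {x : G}

theorem burnside_sub {G : Type*} [Group G] [Finite G] (l : ℕ) [Fact l.Prime] (H S : Subgroup G)
    (hSH : S ≤ H) (hS : Nat.card S = l ^ (Nat.card H).factorization l)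
    (hNC : ∀ g ∈ H, g ∈ Subgroup.normalizer (S : Set G) → ∀ s ∈ S, g * s = s * g) :
    ∃ K : Subgroup G, K ≤ H ∧ (∀ g ∈ H, ∀ k ∈ K, g * k * g⁻¹ ∈ K) ∧
      Nat.card K * Nat.card S = Nat.card H ∧
      (∀ g ∈ H, (orderOf g).Coprime l → g ∈ K) ∧
      (∀ g ∈ H, ∃ k ∈ K, ∃ s ∈ S, g = k * s) := by
  classical
  have hcardS' : Nat.card (S.subgroupOf H) = l ^ (Nat.card H).factorization l := by
    rw [← hS]
    exact Nat.card_congr (Subgroup.subgroupOfEquivOfLe hSH).toEquiv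
  obtain ⟨P, hPcoe⟩ : ∃ P : Sylow l ↥H, (P : Subgroup ↥H) = S.subgroupOf H :=
    ⟨Sylow.ofCard (S.subgroupOf H) hcardS', rfl⟩
  have hP : Subgroup.normalizer ((P : Subgroup ↥H) : Set ↥H) ≤
      Subgroup.centralizer ((P : Subgroup ↥H) : Set ↥H) := by
    intro g hg
    rw [hPcoe] at hg ⊢
    rw [Subgroup.mem_normalizer_iff] at hg
    have hgN : (g : G) ∈ Subgroup.normalizer (S : Set G) := by
      rw [Subgroup.mem_normalizer_iff]
      intro n
      constructor
      · intro hn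
        have := (hg ⟨n, hSH hn⟩).mp (Subgroup.mem_subgroupOf.mpr hn)
        exact Subgroup.mem_subgroupOf.mp this
      · intro hn
        have hnH : n ∈ H := by
          have h1 : (g : G)⁻¹ * ((g : G) * n * (g : G)⁻¹) * (g : G) ∈ H :=
            H.mul_mem (H.mul_mem (H.inv_mem g.2) (hSH hn)) g.2
          have e : (g : G)⁻¹ * ((g : G) * n * (g : G)⁻¹) * (g : G) = n := by group
          rwa [e] at h1
        have := (hg ⟨n, hnH⟩).mpr (Subgroup.mem_subgroupOf.mpr hn)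
        exact Subgroup.mem_subgroupOf.mp this
    rw [Subgroup.mem_centralizer_iff]
    intro s hs
    have hs' : (s : G) ∈ S := Subgroup.mem_subgroupOf.mp hs
    have := hNC g g.2 hgN s hs'
    apply Subtype.ext
    simp only [Subgroup.coe_mul]
    exact this.symm
  have hcardP : Nat.card (P : Subgroup ↥H) = l ^ (Nat.card H).factorization l := by
    rw [hPcoe]; exact hcardS'
  obtain ⟨τ, hcompl⟩ : ∃ τ : ↥H →* ↥(P : Subgroup ↥H), τ.ker.IsComplement' (P : Subgroup ↥H) :=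
    ⟨MonoidHom.transferSylow P hP, MonoidHom.ker_transferSylow_isComplement' P hP⟩
  have hnormal : τ.ker.Normal := MonoidHom.normal_ker _
  refine ⟨τ.ker.map H.subtype, Subgroup.map_subtype_le _, ?_, ?_, ?_, ?_⟩
  · rintro g hg k ⟨k', hk', rfl⟩
    have h1 : (⟨g, hg⟩ : ↥H) * k' * (⟨g, hg⟩ : ↥H)⁻¹ ∈ τ.ker := hnormal.conj_mem k' hk' ⟨g, hg⟩
    refine ⟨(⟨g, hg⟩ : ↥H) * k' * (⟨g, hg⟩ : ↥H)⁻¹, h1, ?_⟩
    simp
  · have h1 := hcompl.card_mul_card
    have h2 : Nat.card (τ.ker.map H.subtype) = Nat.card τ.ker :=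
      Nat.card_congr (τ.ker.equivMapOfInjective H.subtype H.subtype_injective).toEquiv.symm
    have h3 : Nat.card (P : Subgroup ↥H) = Nat.card S := by
      rw [hPcoe]
      exact Nat.card_congr (Subgroup.subgroupOfEquivOfLe hSH).toEquiv
    rw [h2, ← h3]
    exact h1
  · intro g hg hcop
    refine ⟨⟨g, hg⟩, ?_, rfl⟩
    change (⟨g, hg⟩ : ↥H) ∈ τ.ker
    rw [MonoidHom.mem_ker]
    have e : orderOf (⟨g, hg⟩ : ↥H) = orderOf g := Subgroup.orderOf_mk g hg
    have hord1 : orderOf (τ ⟨g, hg⟩) ∣ orderOf g := by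
      have := orderOf_map_dvd τ (⟨g, hg⟩ : ↥H)
      rwa [e] at this
    have hord2 : orderOf (τ ⟨g, hg⟩) ∣ l ^ (Nat.card H).factorization l := by
      have := orderOf_dvd_natCard (τ ⟨g, hg⟩)
      rwa [hcardP] at this
    have h1 : orderOf (τ ⟨g, hg⟩) = 1 := by
      have hc : (orderOf (τ ⟨g, hg⟩)).Coprime (l ^ (Nat.card H).factorization l) :=
        Nat.Coprime.pow_right _ (Nat.Coprime.coprime_dvd_left hord1 hcop)
      exact Nat.Coprime.eq_one_of_dvd hc hord2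
    exact orderOf_eq_one_iff.mp h1
  · intro g hg
    have hc := Subgroup.isComplement'_def.mp hcompl
    obtain ⟨⟨k, s⟩, hks, _⟩ := hc.existsUnique (⟨g, hg⟩ : ↥H)
    refine ⟨((k : ↥H) : G), ⟨k, k.2, rfl⟩, ((s : ↥H) : G), ?_, ?_⟩
    · have h5 : (s : ↥H) ∈ (P : Subgroup ↥H) := s.2
      have h6 : (s : ↥H) ∈ S.subgroupOf H := hPcoe ▸ h5
      exact Subgroup.mem_subgroupOf.mp h6
    · have := congrArg Subtype.val hks
      simpa using this.symm

end Cfsg.Agent.Lib.Helper84_MX_B1
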