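import Cfsg.Agent.Lib.Helper74_MX_C1core
import Cfsg.Agent.Lib.Helper84_MX_B1

/-!
Package MX-C1 of the S4017 market (architect helper6): the structure of the involution centralizers,
`C(t) = O_p(C(t)) Q`.
-/

set_option autoImplicit false

namespace Cfsg.Agent.Lib.Helper74_MX_C1

open Cfsg.Agent.Lib.Helper6_MXDefs

variable {G : Type*} [Group G] [Finite G] {p a : ℕ} {Q : Subgroup G} {x : G}

theorem ot (h : Ctx G p a Q x) (hE : PElem Q) (hS : PStab Q)
    (hctr : ∀ g : G, g ≠ 1 → Subgroup.centralizer ({g} : Set G) ≠ ⊤) : POt p Q := by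
  have : Fact (Nat.Prime 2) := ⟨Nat.prime_two⟩
  exact Cfsg.Agent.Lib.Helper74_MX_C1core.ot_core
    (fun H S hSH hcard hNC => Cfsg.Agent.Lib.Helper84_MX_B1.burnside_sub 2 H S hSH hcard hNC)
    h hE hS hctr

end Cfsg.Agent.Lib.Helper74_MX_C1
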