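import Cfsg.Agent.Lib.Helper6_MXDefs

/-!
# MX-E3C (S4017, case II, `a = 2`): `K = O_t × ⟨t⟩` is a TI-set with normalizer `C(t)`

Package `MX-E3C` of helper6's S4017 market (`pending/helper6/MX_packages.lean.txt`).
-/

set_option autoImplicit false
open Cfsg.Agent.Lib.Helper6_MXDefs

namespace Cfsg.Agent.Lib.Helper77_MX_E3C

variable {G : Type*} [Group G]

/-- elements of `Op p t` commute with `t` -/
theorem op_comm {p : ℕ} {t g : G} (hg : g ∈ Op p t) : g * t = t * g := by
  have hle : Op p t ≤ Subgroup.centralizer {t} := by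
    unfold Op
    rw [Subgroup.closure_le]
    intro g hg
    rw [SetLike.mem_coe, Subgroup.mem_centralizer_iff]
    intro h hh
    rw [Set.mem_singleton_iff] at hh
    subst hh
    exact hg.1.symm
  have h1 := hle hg
  rw [Subgroup.mem_centralizer_iff] at h1
  exact (h1 t rfl).symm

/-- `Op` is compatible with conjugation -/
theorem op_conj {p : ℕ} {t g : G} (c : G) (hg : g ∈ Op p t) :
    c * g * c⁻¹ ∈ Op p (c * t * c⁻¹) := by
  unfold Op at hg ⊢
  induction hg using Subgroup.closure_induction with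
  | mem g hg =>
    apply Subgroup.subset_closure
    refine ⟨?_, ?_⟩
    · have h1 := hg.1
      calc c * g * c⁻¹ * (c * t * c⁻¹) = c * (g * t) * c⁻¹ := by group
        _ = c * (t * g) * c⁻¹ := by rw [h1]
        _ = c * t * c⁻¹ * (c * g * c⁻¹) := by group
    · obtain ⟨k, hk⟩ := hg.2
      refine ⟨k, ?_⟩
      rw [conj_pow, hk]
      group
  | one => simp
  | mul a b _ _ ha hb =>
    have := mul_mem ha hb
    have e : c * (a * b) * c⁻¹ = c * a * c⁻¹ * (c * b * c⁻¹) := by group
    rw [e]; exact this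
  | inv a _ ha =>
    have := inv_mem ha
    have e : c * a⁻¹ * c⁻¹ = (c * a * c⁻¹)⁻¹ := by group
    rw [e]; exact this

/-- an element of square one in a `p`-group, `p` odd, is trivial -/
theorem eq_one_of_sq {p : ℕ} (hp : p.Prime) (hp2 : p ≠ 2) {P : Subgroup G} (hP : IsPGroup p P)
    {g : G} (hg : g ∈ P) (hgg : g * g = 1) : g = 1 := by
  obtain ⟨k, hk⟩ := hP ⟨g, hg⟩
  have hk' : g ^ p ^ k = 1 := by
    have := congrArg Subtype.val hk
    simpa using this
  have h2 : g ^ 2 = 1 := by rw [pow_two]; exact hgg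
  have hodd : Odd (p ^ k) := (hp.eq_two_or_odd'.resolve_left hp2).pow
  obtain ⟨m, hm⟩ := hodd
  have : g ^ (p ^ k) = g := by
    rw [hm, pow_succ, pow_mul, h2, one_pow, one_mul]
  rw [← this, hk']

/-- structure of `Op p t ⊔ zpowers t` -/
theorem mem_K {p : ℕ} {t g : G} (htt : t * t = 1) (hg : g ∈ Op p t ⊔ Subgroup.zpowers t) :
    g ∈ Op p t ∨ ∃ o ∈ Op p t, g = o * t := by
  have hle : Subgroup.zpowers t ≤ Subgroup.normalizer ((Op p t : Subgroup G) : Set G) := by
    rw [Subgroup.zpowers_le]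
    rw [Subgroup.mem_normalizer_iff]
    intro h
    constructor
    · intro hh
      have := op_comm hh
      have e : t * h * t⁻¹ = h := by
        rw [← this]; group
      rw [e]; exact hh
    · intro hh
      have := op_comm hh
      have e : h = t * h * t⁻¹ := by
        have e2 : t * (t * h * t⁻¹) * t⁻¹ = t * h * t⁻¹ := by rw [← this]; group
        have : t * (t * h * t⁻¹) * t⁻¹ = (t * t) * h * (t * t)⁻¹ := by group
        rw [this, htt] at e2
        simpa using e2
      rw [e]; exact hh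
  have hset := Subgroup.coe_mul_of_right_le_normalizer_left (Op p t) (Subgroup.zpowers t) hle
  have hg' : g ∈ ((Op p t ⊔ Subgroup.zpowers t : Subgroup G) : Set G) := hg
  rw [hset, Set.mem_mul] at hg'
  obtain ⟨o, ho, z, hz, rfl⟩ := hg'
  rw [SetLike.mem_coe, Subgroup.mem_zpowers_iff] at hz
  obtain ⟨n, rfl⟩ := hz
  have h2 : t ^ (2 : ℤ) = 1 := by
    rw [zpow_ofNat, pow_two]; exact htt
  rcases Int.emod_two_eq_zero_or_one n with h | h
  · left
    have : t ^ n = 1 := by
      rw [← Int.emod_add_mul_ediv n 2, h, zero_add, zpow_mul, h2, one_zpow]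
    rw [this, mul_one]; exact ho
  · right
    refine ⟨o, ho, ?_⟩
    have : t ^ n = t := by
      rw [← Int.emod_add_mul_ediv n 2, h, zpow_add, zpow_one, zpow_mul, h2, one_zpow, mul_one]
    rw [this]

/-- transport of `HII` along conjugation -/
theorem hII_conj {p : ℕ} {Q : Subgroup G} (hII : HII p Q) (d : G) :
    HII p (Q.map (MulAut.conj d).toMonoidHom) := by
  intro w hw hcent
  have h1 : d⁻¹ * w * d = 1 := by
    apply hII
    · obtain ⟨k, hk⟩ := hw
      refine ⟨k, ?_⟩
      have : (d⁻¹ * w * d) ^ p ^ k = d⁻¹ * w ^ p ^ k * d := by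
        have := conj_pow (a := d⁻¹) (b := w) (i := p ^ k)
        simpa using this
      rw [this, hk]; group
    · intro v hv
      have hv' : d * v * d⁻¹ ∈ Q.map (MulAut.conj d).toMonoidHom := by
        rw [Subgroup.mem_map]
        exact ⟨v, hv, by simp [MulAut.conj_apply]⟩
      have := hcent _ hv'
      calc d⁻¹ * w * d * v = d⁻¹ * (w * (d * v * d⁻¹)) * d := by group
        _ = d⁻¹ * (d * v * d⁻¹ * w) * d := by rw [this]
        _ = v * (d⁻¹ * w * d) := by group
  have : w = d * (d⁻¹ * w * d) * d⁻¹ := by group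
  rw [this, h1]; group

variable [Finite G] {p a : ℕ}

/-- the core of `kl_TI`, with conjugation written as `d * _ * d⁻¹` -/
theorem kl_TI_core (hC : UConj G p a) (hF : UFacts G p a) (hI : InvProp G p a)
    (hNY : NYProp G p a) (Q : Subgroup G) (x : G) (hctx : Ctx G p a Q x) (hII : HII p Q)
    (ha : a = 2) (t : G) (ht : t ∈ Q) (ht1 : t ≠ 1) (y : G) (hy : y ∈ Op p t) (hy1 : y ≠ 1)
    (d k : G) (hk1 : k ≠ 1) (hkK : k ∈ Op p t ⊔ Subgroup.zpowers t)
    (hk'K : d * k * d⁻¹ ∈ Op p t ⊔ Subgroup.zpowers t) : d * t * d⁻¹ = t := by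
  have F := hF Q x hctx
  have hpP := hctx.hp
  have hp2 := hctx.hp2
  obtain ⟨hOpP, hOdec⟩ := F.ot t ht ht1
  have htt : t * t = 1 := F.elem.1 t ht
  have hodd : Odd p := hpP.eq_two_or_odd'.resolve_left hp2
  -- `t ∉ Op p t`
  have htO : t ∉ Op p t := fun h => ht1 (eq_one_of_sq hpP hp2 hOpP h htt)
  -- `Op p t` is commutative
  have hOab : ∀ g ∈ Op p t, ∀ h ∈ Op p t, g * h = h * g := hctx.abel _ hOpP
  -- the conjugate involution
  have ht't' : d * t * d⁻¹ * (d * t * d⁻¹) = 1 := by
    have : d * t * d⁻¹ * (d * t * d⁻¹) = d * (t * t) * d⁻¹ := by group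
    rw [this, htt]; group
  have ht'1 : d * t * d⁻¹ ≠ 1 := by
    intro h
    apply ht1
    have : t = d⁻¹ * (d * t * d⁻¹) * d := by group
    rw [this, h]; group
  -- involutions of `K`
  have hinvK : ∀ s : G, s ∈ Op p t ⊔ Subgroup.zpowers t → s * s = 1 → s ≠ 1 → s = t := by
    intro s hs hss hs1
    rcases mem_K htt hs with h | ⟨o, ho, rfl⟩
    · exact absurd (eq_one_of_sq hpP hp2 hOpP h hss) hs1
    · have hot := op_comm ho
      have : o * o = 1 := by
        have e : o * t * (o * t) = o * o * (t * t) := by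
          calc o * t * (o * t) = o * (t * o) * t := by group
            _ = o * (o * t) * t := by rw [hot]
            _ = o * o * (t * t) := by group
        rw [e, htt, mul_one] at hss
        exact hss
      rw [eq_one_of_sq hpP hp2 hOpP ho this, one_mul]
  -- power of a product `o * t`
  have hpow_ot : ∀ o ∈ Op p t, ∀ n : ℕ, Odd n → (o * t) ^ n = o ^ n * t := by
    intro o ho n hn
    have hc : Commute o t := op_comm ho
    rw [hc.mul_pow]
    obtain ⟨m, rfl⟩ := hn
    rw [pow_succ t, pow_mul, pow_two, htt, one_pow, one_mul]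
  rcases mem_K htt hkK with hkO | ⟨o, ho, rfl⟩
  · -- `k ∈ Op p t`
    have hk'1 : d * k * d⁻¹ ≠ 1 := by
      intro h
      apply hk1
      have : k = d⁻¹ * (d * k * d⁻¹) * d := by group
      rw [this, h]; group
    obtain ⟨j, hj⟩ := hOpP ⟨k, hkO⟩
    have hj' : k ^ p ^ j = 1 := by
      have := congrArg Subtype.val hj
      simpa using this
    have hk'pow : (d * k * d⁻¹) ^ p ^ j = 1 := by
      rw [conj_pow, hj']; group
    have hk'O : d * k * d⁻¹ ∈ Op p t := by
      rcases mem_K htt hk'K with h | ⟨o', ho', he⟩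
      · exact h
      · exfalso
        rw [he, hpow_ot o' ho' _ hodd.pow] at hk'pow
        apply htO
        have h1 : t = (o' ^ p ^ j)⁻¹ := eq_inv_of_mul_eq_one_right hk'pow
        have hmem : (o' ^ p ^ j)⁻¹ ∈ Op p t := inv_mem (pow_mem ho' _)
        rwa [← h1] at hmem
    -- the conjugate context
    have hctx' := hC Q x hctx d
    have hII' := hII_conj hII d
    have ht'Q' : d * t * d⁻¹ ∈ Q.map (MulAut.conj d).toMonoidHom := by
      rw [Subgroup.mem_map]
      exact ⟨t, ht, by simp [MulAut.conj_apply]⟩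
    have hk'O' : d * k * d⁻¹ ∈ Op p (d * t * d⁻¹) := op_conj d hkO
    have hN' := hNY _ _ hctx' hII' ha _ ht'Q' ht'1 _ hk'O' hk'1
    -- `C(t) ≤ N(⟨k'⟩)`
    have hCN : ∀ g : G, g * t = t * g → g * (d * t * d⁻¹) = d * t * d⁻¹ * g := by
      intro g hg
      apply hN'
      obtain ⟨o, ho, v, hv, rfl⟩ := hOdec g hg
      have hv' : v * (d * k * d⁻¹) * v⁻¹ ∈ Subgroup.zpowers (d * k * d⁻¹) ∧
          v * (d * k * d⁻¹) * v⁻¹ ∈ Op p t := by
        by_cases hv1 : v = 1
        · subst hv1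
          simp only [one_mul, inv_one, mul_one]
          exact ⟨Subgroup.mem_zpowers _, hk'O⟩
        · by_cases hvt : v = t
          · subst hvt
            have e : v * (d * k * d⁻¹) * v⁻¹ = d * k * d⁻¹ := by
              rw [← op_comm hk'O]; group
            rw [e]
            exact ⟨Subgroup.mem_zpowers _, hk'O⟩
          · have := hI Q x hctx hII ha t ht ht1 v hv hv1 hvt _ hk'O
            rw [this]
            exact ⟨inv_mem (Subgroup.mem_zpowers _), inv_mem hk'O⟩
      have e : o * v * (d * k * d⁻¹) * (o * v)⁻¹ = v * (d * k * d⁻¹) * v⁻¹ := by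
        have := hOab o ho _ hv'.2
        calc o * v * (d * k * d⁻¹) * (o * v)⁻¹ = o * (v * (d * k * d⁻¹) * v⁻¹) * o⁻¹ := by group
          _ = v * (d * k * d⁻¹) * v⁻¹ * o * o⁻¹ := by rw [this]
          _ = v * (d * k * d⁻¹) * v⁻¹ := by group
      rw [e]
      exact hv'.1
    -- `t' ∈ Q`
    have hcent : ∀ v ∈ Q, v * (d * t * d⁻¹) = d * t * d⁻¹ * v := fun v hv =>
      hCN v (F.elem.2 v hv t ht)
    have ht'N : d * t * d⁻¹ ∈ NQ Q := by
      apply Subgroup.centralizer_le_normalizer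
      rw [Subgroup.mem_centralizer_iff]
      intro v hv
      exact hcent v hv
    have ht'Q : d * t * d⁻¹ ∈ Q := F.twoN _ ht'N ⟨1, by rw [pow_one, pow_two]; exact ht't'⟩
    by_contra hne
    have h1 := hI Q x hctx hII ha t ht ht1 _ ht'Q ht'1 hne y hy
    have h2 := hCN y (op_comm hy)
    have h3 : d * t * d⁻¹ * y * (d * t * d⁻¹)⁻¹ = y := by
      rw [← h2]; group
    rw [h3] at h1
    apply hy1
    apply eq_one_of_sq hpP hp2 hOpP hy
    calc y * y = y * y⁻¹ := by rw [← h1]
      _ = 1 := mul_inv_cancel y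
  · -- `k = o * t`
    obtain ⟨j, hj⟩ := hOpP ⟨o, ho⟩
    have hj' : o ^ p ^ j = 1 := by
      have := congrArg Subtype.val hj
      simpa using this
    have hkp : (o * t) ^ p ^ j = t := by
      rw [hpow_ot o ho _ hodd.pow, hj', one_mul]
    have ht'K : d * t * d⁻¹ ∈ Op p t ⊔ Subgroup.zpowers t := by
      have : d * t * d⁻¹ = (d * (o * t) * d⁻¹) ^ p ^ j := by
        rw [conj_pow, hkp]
      rw [this]
      exact pow_mem hk'K _
    exact hinvK _ ht'K ht't' ht'1

/-- MX-E3C. -/
theorem kl_TI (hC : UConj G p a) (hF : UFacts G p a) (hI : InvProp G p a) (hNY : NYProp G p a) :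
    TIProp G p a := by
  intro Q x hctx hII ha t ht ht1 hy c hk
  obtain ⟨y, hy, hy1⟩ := hy
  obtain ⟨k, hk1, hkK, hk'K⟩ := hk
  have hk'K' : c⁻¹ * k * c⁻¹⁻¹ ∈ Op p t ⊔ Subgroup.zpowers t := by
    rw [inv_inv]; exact hk'K
  have h := kl_TI_core hC hF hI hNY Q x hctx hII ha t ht ht1 y hy hy1 c⁻¹ k hk1 hkK hk'K'
  rw [inv_inv] at h
  calc c * t = c * (c⁻¹ * t * c) := by rw [h]
    _ = t * c := by group

end Cfsg.Agent.Lib.Helper77_MX_E3C
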