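import Cfsg.Agent.Lib.Helper6_MXDefs

/-!
# MX-E3E (S4017, case II, `a = 2`): the arithmetic after Brauer-Suzuki-Wall

Package `MX-E3E` of helper6's S4017 market (`pending/helper6/MX_packages.lean.txt`).
-/

set_option autoImplicit false
open Cfsg.Agent.Lib.Helper6_MXDefs

namespace Cfsg.Agent.Lib.Helper77_MX_E3E

open scoped Pointwise

/-! ### arithmetic -/

/-- the order formula -/
theorem card_formula {N q d : ℕ} (hcard : 2 * N = q * (q + 1) * (q - 1)) (hqd : 2 * d + 1 = q) :
    N = (2 * d + 1) * (d + 1) * (2 * d) := by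
  subst hqd
  have h1 : 2 * d + 1 - 1 = 2 * d := by omega
  have h2 : 2 * d + 1 + 1 = 2 * (d + 1) := by omega
  rw [h1, h2] at hcard
  have : 2 * N = 2 * ((2 * d + 1) * (d + 1) * (2 * d)) := by rw [hcard]; ring
  omega

/-- size estimates -/
theorem lt_formula (d : ℕ) (hd : 0 < d) :
    d < (2 * d + 1) * (d + 1) * (2 * d) ∧ 2 * d + 1 < (2 * d + 1) * (d + 1) * (2 * d) := by
  constructor
  · have h1 : 1 ≤ (2 * d + 1) * (d + 1) := Nat.mul_pos (by omega) (by omega)
    calc d < 2 * d := by omega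
      _ = 1 * (2 * d) := by ring
      _ ≤ (2 * d + 1) * (d + 1) * (2 * d) := Nat.mul_le_mul_right _ h1
  · have h1 : 2 ≤ (d + 1) * (2 * d) := by
      calc 2 = 1 * 2 := by norm_num
        _ ≤ (d + 1) * (2 * d) := Nat.mul_le_mul (by omega) (by omega)
    calc 2 * d + 1 < (2 * d + 1) * 2 := by omega
      _ ≤ (2 * d + 1) * ((d + 1) * (2 * d)) := Nat.mul_le_mul_left _ h1
      _ = (2 * d + 1) * (d + 1) * (2 * d) := by ring

/-- `12` is a `{2,3}`-number -/
theorem twoP_twelve : TwoP 3 12 := by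
  intro r hr hd
  have hle : r ≤ 12 := Nat.le_of_dvd (by norm_num) hd
  interval_cases r <;> first | omega | (exfalso; revert hr; norm_num)

/-- the even case -/
theorem even_case {N d : ℕ} (hN : N = (2 * d + 1) * (d + 1) * (2 * d)) (h8 : ¬ 8 ∣ N)
    (hd2 : 2 ∣ d) (hd0 : d ≠ 0)
    (hdT : ∀ r : ℕ, r.Prime → r ∣ d → r = 2 ∨ r = 3)
    (hqT : ∀ r : ℕ, r.Prime → r ∣ 2 * d + 1 → r = 2 ∨ r = 3) : False := by
  -- `3 ∣ q`
  obtain ⟨r, hr, hrq⟩ := Nat.exists_prime_and_dvd (n := 2 * d + 1) (by omega)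
  have h3q : 3 ∣ 2 * d + 1 := by
    rcases hqT r hr hrq with h | h
    · subst h; omega
    · subst h; exact hrq
  -- `d` is a power of two
  have hd2' : ∀ {r : ℕ}, r.Prime → r ∣ d → r = 2 := by
    intro r hr hrd
    rcases hdT r hr hrd with h | h
    · exact h
    · subst h; omega
  have hpow := Nat.eq_prime_pow_of_unique_prime_dvd hd0 hd2'
  set i := d.primeFactorsList.length with hi
  -- `4 ∤ d`
  have h4 : ¬ 4 ∣ d := by
    rintro ⟨w, hw⟩
    apply h8
    rw [hN, hw]
    exact ⟨(2 * (4 * w) + 1) * (4 * w + 1) * w, by ring⟩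
  have hi1 : i ≤ 1 := by
    by_contra hlt
    have hlt : 2 ≤ i := by omega
    apply h4
    rw [hpow]
    exact pow_dvd_pow 2 hlt
  have hi0 : i ≠ 0 := by
    intro h0
    rw [h0, pow_zero] at hpow
    omega
  have : i = 1 := by omega
  rw [this, pow_one] at hpow
  omega

/-- the odd case -/
theorem odd_case {N d : ℕ} (hN : N = (2 * d + 1) * (d + 1) * (2 * d))
    (hd2 : ¬ 2 ∣ d) (hd0 : d ≠ 0) (hd1 : d ≠ 1)
    (hdT : ∀ r : ℕ, r.Prime → r ∣ d → r = 2 ∨ r = 3) : d = 3 ^ N.factorization 3 := by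
  have hd3' : ∀ {r : ℕ}, r.Prime → r ∣ d → r = 3 := by
    intro r hr hrd
    rcases hdT r hr hrd with h | h
    · subst h; exact absurd hrd hd2
    · exact h
  have hpow := Nat.eq_prime_pow_of_unique_prime_dvd hd0 hd3'
  set j := d.primeFactorsList.length with hj
  by_cases hj0 : j = 0
  · -- `d = 1`
    rw [hj0, pow_zero] at hpow
    exact absurd hpow hd1
  · have h3d : 3 ∣ d := by
      rw [hpow]; exact dvd_pow_self 3 hj0
    have hm : ¬ 3 ∣ (2 * d + 1) * (d + 1) * 2 := by
      intro h
      rcases (Nat.Prime.dvd_mul Nat.prime_three).mp h with h | h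
      · rcases (Nat.Prime.dvd_mul Nat.prime_three).mp h with h | h
        · omega
        · omega
      · omega
    have hN' : N = ((2 * d + 1) * (d + 1) * 2) * 3 ^ j := by
      rw [hN]
      calc (2 * d + 1) * (d + 1) * (2 * d) = ((2 * d + 1) * (d + 1) * 2) * d := by ring
        _ = _ := by rw [← hpow]
    have hfac : N.factorization 3 = j := by
      rw [hN', Nat.factorization_mul (by positivity) (by positivity), Finsupp.add_apply,
        Nat.factorization_eq_zero_of_not_dvd hm, Nat.Prime.factorization_pow Nat.prime_three]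
      simp
    rw [hfac]; exact hpow

/-! ### group theory -/

variable {G : Type*} [Group G]

/-- elements of `Op p t` commute with `t` -/
theorem op_comm {p : ℕ} {t g : G} (hg : g ∈ Op p t) : g * t = t * g := by
  have hle : Op p t ≤ Subgroup.centralizer {t} := by
    unfold Op
    rw [Subgroup.closure_le]
    intro g hg
    rw [SetLike.mem_coe, Subgroup.mem_centralizer_iff]
    intro h hh
    rw [Set.mem_singleton_iff] at hh
    subst hh
    exact hg.1.symm
  have h1 := hle hg
  rw [Subgroup.mem_centralizer_iff] at h1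
  exact (h1 t rfl).symm

/-- structure of `D ⊔ zpowers u` when the involution `u` inverts `D` -/
theorem mem_sup_invol {D : Subgroup G} {u g : G} (hu2 : orderOf u = 2)
    (hinv : ∀ d ∈ D, u * d * u⁻¹ = d⁻¹) (hg : g ∈ D ⊔ Subgroup.zpowers u) :
    g ∈ D ∨ ∃ e ∈ D, g = e * u := by
  have huu : u ^ 2 = 1 := by rw [← hu2]; exact pow_orderOf_eq_one u
  have huu' : u * u = 1 := by rw [← pow_two]; exact huu
  have hle : Subgroup.zpowers u ≤ Subgroup.normalizer ((D : Subgroup G) : Set G) := by
    rw [Subgroup.zpowers_le]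
    rw [Subgroup.mem_normalizer_iff]
    intro h
    constructor
    · intro hh
      rw [hinv h hh]; exact inv_mem hh
    · intro hh
      have h1 := hinv _ hh
      have h2 : u * (u * h * u⁻¹) * u⁻¹ = h := by
        have : u * (u * h * u⁻¹) * u⁻¹ = (u * u) * h * (u * u)⁻¹ := by group
        rw [this, huu']; group
      rw [h2] at h1
      rw [h1]; exact inv_mem hh
  have hset := Subgroup.coe_mul_of_right_le_normalizer_left D (Subgroup.zpowers u) hle
  have hg' : g ∈ ((D ⊔ Subgroup.zpowers u : Subgroup G) : Set G) := hg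
  rw [hset, Set.mem_mul] at hg'
  obtain ⟨o, ho, z, hz, rfl⟩ := hg'
  rw [SetLike.mem_coe, Subgroup.mem_zpowers_iff] at hz
  obtain ⟨n, rfl⟩ := hz
  have h2 : u ^ (2 : ℤ) = 1 := by
    rw [zpow_ofNat]; exact huu
  rcases Int.emod_two_eq_zero_or_one n with h | h
  · left
    have : u ^ n = 1 := by
      rw [← Int.emod_add_mul_ediv n 2, h, zero_add, zpow_mul, h2, one_zpow]
    rw [this, mul_one]; exact ho
  · right
    refine ⟨o, ho, ?_⟩
    have : u ^ n = u := by
      rw [← Int.emod_add_mul_ediv n 2, h, zpow_add, zpow_one, zpow_mul, h2, one_zpow, mul_one]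
    rw [this]

/-- a `3`-element is conjugate into a subgroup of order `3 ^ (|G|_3)` -/
theorem conj_mem_of_sylow [Finite G] {D : Subgroup G}
    (hD : Nat.card D = 3 ^ (Nat.card G).factorization 3) {y : G}
    (hy : IsPGroup 3 (Subgroup.zpowers y)) : ∃ g : G, g * y * g⁻¹ ∈ D := by
  have : Fact (Nat.Prime 3) := ⟨Nat.prime_three⟩
  obtain ⟨P, hP⟩ := hy.exists_le_sylow
  obtain ⟨g, hg⟩ := MulAction.exists_smul_eq G P (Sylow.ofCard D hD)
  refine ⟨g, ?_⟩
  have h1 : y ∈ (P : Subgroup G) := hP (Subgroup.mem_zpowers y)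
  have h2 : MulAut.conj g • y ∈ MulAut.conj g • (P : Subgroup G) :=
    Subgroup.smul_mem_pointwise_smul _ _ _ h1
  have h3 : ((g • P : Sylow 3 G) : Subgroup G) = MulAut.conj g • (P : Subgroup G) := by
    rw [Sylow.smul_def, Sylow.pointwise_smul_def]
  rw [← h3, hg, Sylow.coe_ofCard] at h2
  simpa [MulAut.smul_def, MulAut.conj_apply] using h2

variable [Finite G] {p a : ℕ}

/-- MX-E3E. -/
theorem kl_arith (hF : UFacts G p a) : BSWArithProp G p a := by
  intro Q x hctx ha hty hB
  obtain ⟨t, ht, ht1, y, hy, hy1⟩ := hty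
  obtain ⟨Q0, D, hcard, hcent, hDcomm, hqD, hQD, hNQ0, hX⟩ := hB
  have F := hF Q x hctx
  subst ha
  have hp3 : p = 3 := by
    have := hctx.hpa
    norm_num at this
    omega
  subst hp3
  have hN := card_formula hcard hqD
  have hNpos : 0 < Nat.card G := Nat.card_pos
  have hdpos : 0 < Nat.card D := Nat.card_pos
  have h8 : ¬ 8 ∣ Nat.card G := by
    have h := Nat.pow_succ_factorization_not_dvd (n := Nat.card G) (p := 2) hNpos.ne' Nat.prime_two
    rw [hctx.sylQ] at h
    norm_num at h
    exact h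
  by_cases hd1 : Nat.card D = 1
  · -- `|G| = 12`
    rw [hd1] at hN
    apply hctx.big
    rw [hN]
    exact twoP_twelve
  · have hDne : D ≠ ⊥ := fun h => hd1 (Subgroup.card_eq_one.mpr h)
    have hDtop : D ≠ ⊤ := by
      intro h
      have h1 : Nat.card D = Nat.card G := by rw [h, Subgroup.card_top]
      rw [hN] at h1
      have := (lt_formula _ hdpos).1
      omega
    obtain ⟨hND, u, hu2, huD, huinv, hNDu⟩ := hX D le_rfl hDne
    have hNDtop := F.norm_ne D hDne hDtop
    have huN : u ∈ Subgroup.normalizer (D : Set G) := by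
      rw [hNDu]; exact Subgroup.mem_sup_right (Subgroup.mem_zpowers u)
    have h2N : 2 ∣ Nat.card (Subgroup.normalizer (D : Set G)) := by
      rw [← hu2]; exact Subgroup.orderOf_dvd_natCard _ huN
    have hT := hctx.even _ hNDtop h2N
    have hdT : ∀ r : ℕ, r.Prime → r ∣ Nat.card D → r = 2 ∨ r = 3 := fun r hr hrd =>
      hT r hr (hrd.trans (Subgroup.card_dvd_of_le Subgroup.le_normalizer))
    by_cases hd2 : 2 ∣ Nat.card D
    · -- even case
      have hQ0ne : Q0 ≠ ⊥ := by
        intro h
        have : Nat.card Q0 = 1 := Subgroup.card_eq_one.mpr h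
        omega
      have hQ0top : Q0 ≠ ⊤ := by
        intro h
        have h1 : Nat.card Q0 = Nat.card G := by rw [h, Subgroup.card_top]
        rw [← hqD, hN] at h1
        have := (lt_formula _ hdpos).2
        omega
      have hNQtop := F.norm_ne Q0 hQ0ne hQ0top
      have h2NQ : 2 ∣ Nat.card (Subgroup.normalizer (Q0 : Set G)) := by
        refine hd2.trans (Subgroup.card_dvd_of_le ?_)
        rw [hNQ0]; exact le_sup_right
      have hTQ := hctx.even _ hNQtop h2NQ
      have hqT : ∀ r : ℕ, r.Prime → r ∣ 2 * Nat.card D + 1 → r = 2 ∨ r = 3 := by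
        intro r hr hrq
        rw [hqD] at hrq
        exact hTQ r hr (hrq.trans (Subgroup.card_dvd_of_le Subgroup.le_normalizer))
      exact even_case hN h8 hd2 hdpos.ne' hdT hqT
    · -- odd case
      have hDcard := odd_case hN hd2 hdpos.ne' hd1 hdT
      have hOp := (F.ot t ht ht1).1
      have hyP : IsPGroup 3 (Subgroup.zpowers y) := hOp.to_le ((Subgroup.zpowers_le).mpr hy)
      obtain ⟨g, hg⟩ := conj_mem_of_sylow hDcard hyP
      have hy'1 : g * y * g⁻¹ ≠ 1 := by
        intro h
        apply hy1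
        have : y = g⁻¹ * (g * y * g⁻¹) * g := by group
        rw [this, h]; group
      have htt : t * t = 1 := F.elem.1 t ht
      have ht'1 : g * t * g⁻¹ ≠ 1 := by
        intro h
        apply ht1
        have : t = g⁻¹ * (g * t * g⁻¹) * g := by group
        rw [this, h]; group
      have ht'2 : orderOf (g * t * g⁻¹) = 2 := by
        apply orderOf_eq_prime
        · rw [conj_pow, pow_two, htt]; group
        · exact ht'1
      have hc : Commute (g * t * g⁻¹) (g * y * g⁻¹) := by
        have h1 := op_comm hy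
        show g * t * g⁻¹ * (g * y * g⁻¹) = g * y * g⁻¹ * (g * t * g⁻¹)
        calc g * t * g⁻¹ * (g * y * g⁻¹) = g * (t * y) * g⁻¹ := by group
          _ = g * (y * t) * g⁻¹ := by rw [h1]
          _ = g * y * g⁻¹ * (g * t * g⁻¹) := by group
      have hXle : Subgroup.zpowers (g * y * g⁻¹) ≤ D := (Subgroup.zpowers_le).mpr hg
      have hXne : Subgroup.zpowers (g * y * g⁻¹) ≠ ⊥ := by
        intro h
        apply hy'1
        have : g * y * g⁻¹ ∈ (⊥ : Subgroup G) := by
          rw [← h]; exact Subgroup.mem_zpowers _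
        exact Subgroup.mem_bot.mp this
      obtain ⟨hNX, u', hu'2, hu'D, hu'inv, hNDu'⟩ := hX _ hXle hXne
      have ht'N : g * t * g⁻¹ ∈
          Subgroup.normalizer ((Subgroup.zpowers (g * y * g⁻¹) : Subgroup G) : Set G) := by
        apply Subgroup.centralizer_le_normalizer
        rw [Subgroup.mem_centralizer_iff]
        intro h hh
        obtain ⟨n, rfl⟩ := Subgroup.mem_zpowers_iff.mp hh
        exact ((hc.zpow_right n).eq).symm
      rw [hNX, hNDu'] at ht'N
      rcases mem_sup_invol hu'2 hu'inv ht'N with h | ⟨e, he, hte⟩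
      · apply hd2
        rw [← ht'2]
        exact Subgroup.orderOf_dvd_natCard _ h
      · have hinv : g * t * g⁻¹ * (g * y * g⁻¹) * (g * t * g⁻¹)⁻¹ = (g * y * g⁻¹)⁻¹ := by
          rw [hte]
          have hcomm : e * (g * y * g⁻¹)⁻¹ = (g * y * g⁻¹)⁻¹ * e := by
            have := mul_comm' (⟨e, he⟩ : D) ⟨(g * y * g⁻¹)⁻¹, inv_mem hg⟩
            exact congrArg Subtype.val this
          calc e * u' * (g * y * g⁻¹) * (e * u')⁻¹
              = e * (u' * (g * y * g⁻¹) * u'⁻¹) * e⁻¹ := by group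
            _ = e * (g * y * g⁻¹)⁻¹ * e⁻¹ := by rw [hu'inv _ hg]
            _ = (g * y * g⁻¹)⁻¹ := by rw [hcomm]; group
        have h1 : g * t * g⁻¹ * (g * y * g⁻¹) * (g * t * g⁻¹)⁻¹ = g * y * g⁻¹ := by
          rw [hc.eq]; group
        rw [h1] at hinv
        have hsq : (g * y * g⁻¹) ^ 2 = 1 := by
          rw [pow_two]
          nth_rewrite 1 [hinv]
          exact inv_mul_cancel _
        have hdvd : orderOf (g * y * g⁻¹) ∣ 2 := orderOf_dvd_of_pow_eq_one hsq
        rcases (Nat.dvd_prime Nat.prime_two).mp hdvd with h | h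
        · exact hy'1 (orderOf_eq_one_iff.mp h)
        · apply hd2
          rw [← h]
          exact Subgroup.orderOf_dvd_natCard _ hg

end Cfsg.Agent.Lib.Helper77_MX_E3E
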