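/-
S4017 market (architect helper6), package MX-E4D1: in the CIT case the involutions form one conjugacy class with
centralizers of order `p + 1`, so `|Invs| (p + 1) = |G|` (orbit-stabilizer).
-/
import Cfsg.Agent.Lib.Helper6_MXDefs

set_option autoImplicit false
open Cfsg.Agent.Lib.Helper6_MXDefs

namespace Cfsg.Agent.Lib.Helper79_MX_E4D1

variable {G : Type*} [Group G] [Finite G] {p a : ℕ} {Q : Subgroup G} {x : G}

/-- the class equation for one conjugacy class -/
theorem ncard_orbit_mul_card_centralizer (v : G) :
    (MulAction.orbit (ConjAct G) v).ncard * Nat.card (Subgroup.centralizer ({v} : Set G)) =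
      Nat.card G := by
  rw [← MulAction.index_stabilizer, mul_comm]
  have h1 : Nat.card (Subgroup.centralizer ({v} : Set G)) =
      Nat.card (MulAction.stabilizer (ConjAct G) v) := by
    rw [ConjAct.stabilizer_eq_centralizer]
    rfl
  rw [h1, Subgroup.card_mul_index]
  rfl

theorem cit_icard (hF : UFacts G p a) : CitICardProp G p a := by
  intro Q x hctx hcit
  -- an involution in `Q`
  have h2 : 2 ∣ Nat.card Q := by
    rw [hctx.cardQ]
    exact dvd_pow_self 2 (by have := hctx.ha; omega)
  haveI : Fact (Nat.Prime 2) := ⟨Nat.prime_two⟩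
  obtain ⟨v0, hv0⟩ := exists_prime_orderOf_dvd_card' (G := Q) 2 h2
  have hv : orderOf (v0 : G) = 2 := by
    rw [Subgroup.orderOf_coe]
    exact hv0
  have horb : MulAction.orbit (ConjAct G) (v0 : G) = Invs G := by
    ext u
    rw [ConjAct.mem_orbit_conjAct]
    constructor
    · intro hu
      show orderOf u = 2
      rw [isConj_iff] at hu
      obtain ⟨c, hc⟩ := hu
      have h3 := orderOf_injective (MulAut.conj c).toMonoidHom (MulAut.conj c).injective u
      rw [← hv, ← hc, ← h3]
      rfl
    · intro hu
      obtain ⟨c, hc⟩ := hcit.conj (v0 : G) u hv hu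
      rw [isConj_comm, isConj_iff]
      exact ⟨c, hc⟩
  rw [← horb, ← hcit.card (v0 : G) hv]
  exact ncard_orbit_mul_card_centralizer (v0 : G)

end Cfsg.Agent.Lib.Helper79_MX_E4D1
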