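/-
S4017 market (architect helper6), package MX-E4E: the arithmetic contradiction in the CIT case.
-/
import Cfsg.Agent.Lib.Helper6_MXDefs

set_option autoImplicit false
open Cfsg.Agent.Lib.Helper6_MXDefs

namespace Cfsg.Agent.Lib.Helper79_MX_E4E

variable {G : Type*} [Group G] [Finite G] {p a : ℕ} {Q : Subgroup G} {x : G}

/-- the pure arithmetic -/
theorem arith_core {p a i N Y π e : ℕ} (hp : p.Prime) (hp2 : p ≠ 2) (hpa : p + 1 = 2 ^ a)
    (hN : 0 < N) (h1 : i * (p + 1) = N) (h2 : i * i = i * p + Y * π)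
    (h3 : Y ≠ 0 → Y * (2 * π) = (π - 1) * N) (hπ : π = p ^ e) (he : 1 ≤ e) (hπN : π ∣ N)
    (hbig : ¬ TwoP p N) : False := by
  have hp3 : 3 ≤ p := by
    have := hp.two_le
    omega
  have hi : 0 < i := by
    rcases Nat.eq_zero_or_pos i with h | h
    · rw [h, zero_mul] at h1
      omega
    · exact h
  have hπp : p ≤ π := by
    rw [hπ]
    calc p = p ^ 1 := (pow_one p).symm
      _ ≤ p ^ e := Nat.pow_le_pow_right hp.pos he
  by_cases hY : Y = 0
  · -- `i = p`, `N = p * 2 ^ a`
    rw [hY, zero_mul, add_zero] at h2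
    have hip : i = p := Nat.eq_of_mul_eq_mul_left hi h2
    apply hbig
    intro r hr hrN
    rw [← h1, hip, hpa] at hrN
    rcases (Nat.Prime.dvd_mul hr).mp hrN with h | h
    · right
      exact (Nat.prime_dvd_prime_iff_eq hr hp).mp h
    · left
      exact (Nat.prime_dvd_prime_iff_eq hr Nat.prime_two).mp (hr.dvd_of_dvd_pow h)
  · have h3' := h3 hY
    have hπ1 : 1 ≤ π := le_trans hp.pos hπp
    -- `2 i = (p - 1) + π (p + 1)`
    have hkey : 2 * i + (p + 1) = 2 * p + π * (p + 1) := by
      have e1 : 2 * (i * i) + i * (p + 1) = i * (2 * p + π * (p + 1)) := by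
        obtain ⟨k, rfl⟩ : ∃ k, π = k + 1 := ⟨π - 1, by omega⟩
        rw [Nat.add_sub_cancel] at h3'
        rw [← h1] at h3'
        nlinarith [h2, h3']
      have e2 : i * (2 * i + (p + 1)) = i * (2 * p + π * (p + 1)) := by
        rw [← e1]; ring
      exact Nat.eq_of_mul_eq_mul_left hi e2
    -- `π ∣ i`
    have hcop : Nat.Coprime π (p + 1) := by
      rw [hπ, hpa]
      apply Nat.Coprime.pow
      rw [Nat.coprime_primes hp Nat.prime_two]
      exact hp2
    have hπi : π ∣ i := by
      rw [← h1] at hπN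
      exact hcop.dvd_of_dvd_mul_right hπN
    -- `π ∣ p - 1`
    have hdvd : π ∣ p - 1 := by
      have e3 : 2 * i = (p - 1) + π * (p + 1) := by omega
      have h4 : π ∣ 2 * i := Dvd.dvd.mul_left hπi 2
      rw [e3] at h4
      exact (Nat.dvd_add_left (Dvd.intro _ rfl)).mp h4
    have hle := Nat.le_of_dvd (by omega) hdvd
    omega

theorem cit_arith (hF : UFacts G p a) (hG : CitGProp G p a) (h1 : CitICardProp G p a)
    (h2 : CitPairsProp G p a) (h3 : CitYProp G p a) : CitProp G p a := by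
  intro Q x hctx hcitQ
  have hcit : CitG G p := hG Q x hctx hcitQ
  have hfacts := hF Q x hctx
  have hN : 0 < Nat.card G := Nat.card_pos
  have hpdvd : p ∣ Nat.card G := hfacts.pdvd
  have he : 1 ≤ (Nat.card G).factorization p :=
    (hctx.hp.dvd_iff_one_le_factorization hN.ne').mp hpdvd
  refine arith_core (i := (Invs G).ncard) (N := Nat.card G) (Y := (RealP G p).ncard)
    (π := ppart G p) (e := (Nat.card G).factorization p) hctx.hp hctx.hp2 hctx.hpa hN
    (h1 Q x hctx hcit) (h2 Q x hctx hcit) ?_ rfl he (Nat.ordProj_dvd _ _) hctx.big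
  intro hY
  apply h3 Q x hctx hcit
  by_contra hne
  rw [Set.not_nonempty_iff_eq_empty] at hne
  rw [hne, Set.ncard_empty] at hY
  exact hY rfl

end Cfsg.Agent.Lib.Helper79_MX_E4E
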