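import Mathlib
import Cfsg.Agent.Lib.Helper6_MXDefs

set_option autoImplicit false

/-!
S4017, package MX-E3A (architect helper6; proof helper85): in the Klein four case `u` inverts `O_p(C(t))`.
-/

namespace Cfsg.Agent.Lib.Helper85_MX_E3A

open Cfsg.Agent.Lib.Helper6_MXDefs

variable {G : Type*} [Group G] [Finite G] {p a : ℕ} {Q : Subgroup G} {x : G}

omit [Finite G] in
/-- elements of `Op p t` commute with `t` -/
theorem Op_comm (p : ℕ) (t : G) {g : G} (hg : g ∈ Op p t) : g * t = t * g := by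
  have hle : Op p t ≤ Subgroup.centralizer ({t} : Set G) := by
    unfold Op
    rw [Subgroup.closure_le]
    rintro g ⟨hg, -⟩
    rw [SetLike.mem_coe, Subgroup.mem_centralizer_iff]
    intro h hh
    rw [Set.mem_singleton_iff] at hh
    rw [hh, hg]
  have := Subgroup.mem_centralizer_iff.1 (hle hg) t rfl
  exact this.symm

omit [Finite G] in
/-- `Op p t` is stable under conjugation by `C(t)` -/
theorem Op_conj (p : ℕ) (t : G) {c : G} (hc : c * t = t * c) {g : G} (hg : g ∈ Op p t) :
    c * g * c⁻¹ ∈ Op p t := by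
  have hle : Op p t ≤ (Op p t).comap (MulAut.conj c).toMonoidHom := by
    unfold Op
    rw [Subgroup.closure_le]
    rintro g ⟨hg, k, hk⟩
    rw [SetLike.mem_coe, Subgroup.mem_comap]
    apply Subgroup.subset_closure
    refine ⟨?_, k, ?_⟩
    · show c * g * c⁻¹ * t = t * (c * g * c⁻¹)
      have hc' : c⁻¹ * t = t * c⁻¹ := by
        have : t = c⁻¹ * (c * t) := by group
        rw [hc] at this
        calc c⁻¹ * t = c⁻¹ * t * c * c⁻¹ := by group
          _ = (c⁻¹ * (t * c)) * c⁻¹ := by group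
          _ = t * c⁻¹ := by rw [← this]
      calc c * g * c⁻¹ * t = c * g * (c⁻¹ * t) := by group
        _ = c * g * (t * c⁻¹) := by rw [hc']
        _ = c * (g * t) * c⁻¹ := by group
        _ = c * (t * g) * c⁻¹ := by rw [hg]
        _ = (c * t) * g * c⁻¹ := by group
        _ = (t * c) * g * c⁻¹ := by rw [hc]
        _ = t * (c * g * c⁻¹) := by group
    · show (c * g * c⁻¹) ^ p ^ k = 1
      rw [conj_pow, hk]
      group
  exact hle hg

theorem kl_inv (hF : UFacts G p a) : InvProp G p a := by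
  intro Q x h hII ha t ht ht1 u hu hu1 hut y hy
  have F := hF Q x h
  obtain ⟨hsq, hcomm⟩ := F.elem
  have hOp := (F.ot t ht ht1).1
  have hOab := h.abel (Op p t) hOp
  have hut' : u * t = t * u := hcomm u hu t ht
  have huu : u * u = 1 := hsq u hu
  have huinv : u⁻¹ = u := inv_eq_of_mul_eq_one_right huu
  have hy' : u * y * u⁻¹ ∈ Op p t := Op_conj p t hut' hy
  have hm : y * (u * y * u⁻¹) ∈ Op p t := (Op p t).mul_mem hy hy'
  have hmp : IsPEl p (y * (u * y * u⁻¹)) := by
    obtain ⟨k, hk⟩ := hOp ⟨_, hm⟩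
    exact ⟨k, by simpa using congrArg Subtype.val hk⟩
  have hmt : y * (u * y * u⁻¹) * t = t * (y * (u * y * u⁻¹)) := Op_comm p t hm
  have hmu : y * (u * y * u⁻¹) * u = u * (y * (u * y * u⁻¹)) := by
    have hc : y * (u * y * u⁻¹) = (u * y * u⁻¹) * y := hOab y hy _ hy'
    rw [huinv] at hc ⊢
    have e1 : u * (y * (u * y * u)) = ((u * y * u) * y) * u := by group
    rw [e1, ← hc]
  -- the subgroup of `Q` commuting with `m`
  have hcent : CentQ Q (y * (u * y * u⁻¹)) := by
    obtain ⟨m, hm'⟩ : ∃ m, m = y * (u * y * u⁻¹) := ⟨_, rfl⟩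
    rw [← hm'] at hmt hmu ⊢
    have hmemC : ∀ v, m * v = v * m → v ∈ Subgroup.centralizer ({m} : Set G) := by
      intro v hv
      rw [Subgroup.mem_centralizer_iff]
      intro g hg
      rw [Set.mem_singleton_iff] at hg
      rw [hg, hv]
    have htC : t ∈ Q ⊓ Subgroup.centralizer ({m} : Set G) :=
      Subgroup.mem_inf.2 ⟨ht, hmemC t hmt⟩
    have huC : u ∈ Q ⊓ Subgroup.centralizer ({m} : Set G) :=
      Subgroup.mem_inf.2 ⟨hu, hmemC u hmu⟩
    have hle : Q ⊓ Subgroup.centralizer ({m} : Set G) ≤ Q := inf_le_left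
    have hdvd : Nat.card ↥(Q ⊓ Subgroup.centralizer ({m} : Set G)) ∣ Nat.card Q :=
      Subgroup.card_dvd_of_le hle
    have h3 : 3 ≤ Nat.card ↥(Q ⊓ Subgroup.centralizer ({m} : Set G)) := by
      have hsub : ({1, t, u} : Set G) ⊆ ((Q ⊓ Subgroup.centralizer ({m} : Set G) : Subgroup G) : Set G) := by
        intro v hv
        rcases hv with rfl | rfl | rfl
        · exact Subgroup.one_mem _
        · exact htC
        · exact huC
      have h1 : Nat.card ↥(Q ⊓ Subgroup.centralizer ({m} : Set G)) =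
          ((Q ⊓ Subgroup.centralizer ({m} : Set G) : Subgroup G) : Set G).ncard :=
        Nat.card_coe_set_eq _
      have h2 := Set.ncard_le_ncard hsub (Set.toFinite _)
      have h4 : ({1, t, u} : Set G).ncard = 3 := by
        rw [Set.ncard_eq_three]
        exact ⟨1, t, u, ht1.symm, hu1.symm, hut.symm, rfl⟩
      omega
    have hQ4 : Nat.card Q = 4 := by
      rw [h.cardQ, ha]
      norm_num
    rw [hQ4] at hdvd
    have h4 : Nat.card ↥(Q ⊓ Subgroup.centralizer ({m} : Set G)) = 4 := by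
      have hle4 := Nat.le_of_dvd (by norm_num) hdvd
      interval_cases hk : Nat.card ↥(Q ⊓ Subgroup.centralizer ({m} : Set G)) <;> simp_all
    have heq : Q ⊓ Subgroup.centralizer ({m} : Set G) = Q :=
      Subgroup.eq_of_le_of_card_ge hle (by rw [h4, hQ4])
    intro v hv
    rw [← heq] at hv
    have := Subgroup.mem_centralizer_iff.1 (Subgroup.mem_inf.1 hv).2 m rfl
    exact this
  have hm1 := hII _ hmp hcent
  exact eq_inv_of_mul_eq_one_right hm1

end Cfsg.Agent.Lib.Helper85_MX_E3A
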