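import Mathlib
import Cfsg.Agent.Lib.Helper6_MXDefs

set_option autoImplicit false

/-!
S4017, package MX-E3B2 (architect helper6; proof helper85): in the Klein four case, if some non-trivial
elements of `O_p(C(t))` and `O_p(C(u))` commute, then the two groups commute elementwise.
-/

namespace Cfsg.Agent.Lib.Helper85_MX_E3B2

open Cfsg.Agent.Lib.Helper6_MXDefs

variable {G : Type*} [Group G] [Finite G] {p a : ℕ} {Q : Subgroup G} {x : G}

omit [Finite G] in
theorem isPEl_of_mem {K : Subgroup G} (hK : IsPGroup p K) {g : G} (hg : g ∈ K) : IsPEl p g := by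
  obtain ⟨k, hk⟩ := hK ⟨g, hg⟩
  exact ⟨k, by simpa using congrArg Subtype.val hk⟩

omit [Finite G] in
theorem conj_mem_zpowers_of_comm {g y : G} (h : g * y = y * g) :
    g * y * g⁻¹ ∈ Subgroup.zpowers y := by
  rw [h, mul_inv_cancel_right]
  exact Subgroup.mem_zpowers y

theorem kl_comm (hF : UFacts G p a) (hN : NYStructProp G p a) :
    CommProp G p a := by
  intro Q x h hII ha t ht ht1 u hu hu1 hut hex z hz z' hz'
  obtain ⟨y, hy, hy1, y', hy', hy'1, hyy'⟩ := hex
  have F := hF Q x h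
  have hOt := (F.ot t ht ht1).1
  have hOu := (F.ot u hu hu1).1
  have hOtab := h.abel (Op p t) hOt
  have hOuab := h.abel (Op p u) hOu
  -- `y` commutes with all of `Op p u`
  obtain ⟨R', hR'p, hR'1, -, -⟩ := hN Q x h hII ha u hu hu1 y' hy' hy'1
  have hR'ab := h.abel R' hR'p
  have hyR' : y ∈ R' := hR'1 y (isPEl_of_mem hOt hy) (conj_mem_zpowers_of_comm hyy')
  have hOuR' : ∀ w ∈ Op p u, w ∈ R' := fun w hw =>
    hR'1 w (isPEl_of_mem hOu hw) (conj_mem_zpowers_of_comm (hOuab w hw y' hy'))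
  have hyOu : ∀ w ∈ Op p u, w * y = y * w := fun w hw => hR'ab w (hOuR' w hw) y hyR'
  -- now `R` for `(t, y)`
  obtain ⟨R, hRp, hR1, -, -⟩ := hN Q x h hII ha t ht ht1 y hy hy1
  have hRab := h.abel R hRp
  have hz'R : z' ∈ R :=
    hR1 z' (isPEl_of_mem hOu hz') (conj_mem_zpowers_of_comm (hyOu z' hz'))
  have hzR : z ∈ R :=
    hR1 z (isPEl_of_mem hOt hz) (conj_mem_zpowers_of_comm (hOtab z hz y hy))
  exact hRab z hzR z' hz'R

end Cfsg.Agent.Lib.Helper85_MX_E3B2
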