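import Mathlib
import Cfsg.Agent.Lib.Helper6_MXDefs

set_option autoImplicit false

/-!
S4017, package MX-E3B3 (architect helper6; proof helper85): `N(⟨y⟩) ≤ C(t)` in the Klein four case.
-/

namespace Cfsg.Agent.Lib.Helper85_MX_E3B3

open Cfsg.Agent.Lib.Helper6_MXDefs

variable {G : Type*} [Group G] [Finite G] {p a : ℕ} {Q : Subgroup G} {x : G}

/-- a subgroup with at least three elements has an element different from `1` and `t` -/
theorem exists_third (Q : Subgroup G) (hQ : 3 ≤ Nat.card Q) (t : G) :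
    ∃ u ∈ Q, u ≠ 1 ∧ u ≠ t := by
  by_contra hcon
  push Not at hcon
  have hsub : (Q : Set G) ⊆ {1, t} := by
    intro v hv
    by_cases h1 : v = 1
    · left; exact h1
    · right; exact hcon v hv h1
  have h1 : Nat.card Q = (Q : Set G).ncard := Nat.card_coe_set_eq (Q : Set G)
  have h2 : (Q : Set G).ncard ≤ ({1, t} : Set G).ncard :=
    Set.ncard_le_ncard hsub (Set.toFinite _)
  have h3 : ({1, t} : Set G).ncard ≤ 2 := by
    have := Set.ncard_insert_le (1 : G) {t}
    rw [Set.ncard_singleton] at this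
    exact this
  omega

theorem kl_ny (hF : UFacts G p a) (hN : NYStructProp G p a) (hCm : CommProp G p a)
    (hNC : NoCommProp G p a) : NYProp G p a := by
  intro Q x h hII ha t ht ht1 y hy hy1 g hg
  have F := hF Q x h
  obtain ⟨hsq, hcomm⟩ := F.elem
  obtain ⟨R, hRp, hR1, hR2, hR3⟩ := hN Q x h hII ha t ht ht1 y hy hy1
  have hRab := h.abel R hRp
  -- `y ∈ R`
  have hyp : IsPEl p y := by
    obtain ⟨k, hk⟩ := (F.ot t ht ht1).1 ⟨y, hy⟩
    exact ⟨k, by simpa using congrArg Subtype.val hk⟩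
  have hyR : y ∈ R := by
    apply hR1 y hyp
    rw [mul_inv_cancel_right]
    exact Subgroup.mem_zpowers y
  -- a third element of `Q`
  have hcard : 3 ≤ Nat.card Q := by
    rw [h.cardQ, ha]
    norm_num
  obtain ⟨u, hu, hu1, hut⟩ := exists_third Q hcard t
  -- the key: for `s ∈ Q`, `s ≠ 1`, `s ≠ t`, every `r ∈ R` is inverted by `s`
  have key : ∀ s ∈ Q, s ≠ 1 → s ≠ t → ∀ r ∈ R, r * (s * r * s⁻¹) = 1 := by
    intro s hs hs1 hst r hr
    by_contra hne
    have hss : s * s = 1 := hsq s hs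
    have hsinv : s⁻¹ = s := inv_eq_of_mul_eq_one_right hss
    have hr' : s * r * s⁻¹ ∈ R := hR3 r hr s hs
    have hrs : r * (s * r * s⁻¹) ∈ R := R.mul_mem hr hr'
    have hc : r * (s * r * s⁻¹) = (s * r * s⁻¹) * r := hRab r hr _ hr'
    -- `r_s` commutes with `s`
    have hcs : r * (s * r * s⁻¹) * s = s * (r * (s * r * s⁻¹)) := by
      rw [hsinv] at hc ⊢
      have e1 : s * (r * (s * r * s)) = ((s * r * s) * r) * s := by group
      rw [e1, ← hc]
    have hpel : IsPEl p (r * (s * r * s⁻¹)) := by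
      obtain ⟨k, hk⟩ := hRp ⟨_, hrs⟩
      exact ⟨k, by simpa using congrArg Subtype.val hk⟩
    have hmem : r * (s * r * s⁻¹) ∈ Op p s := Subgroup.subset_closure ⟨hcs, hpel⟩
    have hyc : y * (r * (s * r * s⁻¹)) = r * (s * r * s⁻¹) * y := hRab y hyR _ hrs
    have h1 := hCm Q x h hII ha t ht ht1 s hs hs1 hst ⟨y, hy, hy1, _, hmem, hne, hyc⟩
    exact hy1 (hNC Q x h hII ha t ht ht1 s hs hs1 hst h1 y hy)
  -- `t * u`
  have htu : t * u ∈ Q := Q.mul_mem ht hu
  have htu1 : t * u ≠ 1 := by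
    intro h0
    apply hut
    have huu : u * u = 1 := hsq u hu
    have : t = u⁻¹ := eq_inv_of_mul_eq_one_left h0
    rw [this, inv_eq_of_mul_eq_one_right huu]
  have htut : t * u ≠ t := by
    intro h0
    apply hu1
    exact mul_left_cancel (a := t) (by rw [h0, mul_one])
  -- every `r ∈ R` commutes with `t`
  have hRt : ∀ r ∈ R, t * r = r * t := by
    intro r hr
    have h1 := key u hu hu1 hut r hr
    have h2 := key (t * u) htu htu1 htut r hr
    have e1 : u * r * u⁻¹ = r⁻¹ := (eq_inv_of_mul_eq_one_right h1)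
    have e2 : t * u * r * (t * u)⁻¹ = t * (u * r * u⁻¹) * t⁻¹ := by group
    rw [e2, e1] at h2
    -- h2 : r * (t * r⁻¹ * t⁻¹) = 1
    have e3 : t * r⁻¹ * t⁻¹ = r⁻¹ := eq_inv_of_mul_eq_one_right h2
    have e4 : t * r⁻¹ = r⁻¹ * t := mul_inv_eq_iff_eq_mul.mp e3
    calc t * r = r * (r⁻¹ * t) * r := by group
      _ = r * (t * r⁻¹) * r := by rw [e4]
      _ = r * t := by group
  -- conclusion
  obtain ⟨r, hr, v, hv, rfl⟩ := hR2 g hg
  rw [mul_assoc, hcomm v hv t ht, ← mul_assoc, ← hRt r hr, mul_assoc]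

end Cfsg.Agent.Lib.Helper85_MX_E3B3
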