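import Cfsg.Agent.Lib.Helper6_MXDefs

/-!
# S4017 package MX-F4 (helper90): the hypotheses pass to proper mixed subgroups.
-/

set_option autoImplicit false
open Cfsg.Agent.Lib.Helper6_MXDefs

namespace Cfsg.Agent.Lib.Helper90_MX_F4

/-- MX-F4. -/
theorem hyp_sub {G : Type*} [Group G] [Finite G] {p q : ℕ} (hp : p.Prime) (hq : q.Prime)
    (h : Hyp G p q) (H : Subgroup G) (hH : H ≠ ⊤) (hqH : q ∣ Nat.card H)
    (hnq : ¬ IsPGroup q H) : Hyp ↥H p q := by
  obtain ⟨_, _, hmix, hlarge⟩ := h
  refine ⟨hmix H hH hnq hqH, hqH, ?_, ?_⟩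
  · intro K hK hKq hqK
    have hcard : Nat.card (K.map H.subtype) = Nat.card K :=
      Nat.card_congr (K.equivMapOfInjective H.subtype H.subtype_injective).symm.toEquiv
    have hne : K.map H.subtype ≠ ⊤ := by
      intro htop
      apply hH
      rw [eq_top_iff]
      intro g _
      have : g ∈ K.map H.subtype := htop ▸ Subgroup.mem_top g
      obtain ⟨k, _, rfl⟩ := Subgroup.mem_map.mp this
      exact k.2
    have hnp : ¬ IsPGroup q (K.map H.subtype) := by
      intro hpg
      apply hKq
      exact hpg.of_equiv (K.equivMapOfInjective H.subtype H.subtype_injective).symm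
    have := hmix (K.map H.subtype) hne hnp (hcard ▸ hqK)
    rwa [hcard] at this
  · have hdvd : Nat.card H ∣ Nat.card G := Subgroup.card_subgroup_dvd_card H
    have hG0 : Nat.card G ≠ 0 := Nat.card_pos.ne'
    have hH0 : Nat.card H ≠ 0 := Nat.card_pos.ne'
    have hle : (Nat.card H).factorization q ≤ (Nat.card G).factorization q :=
      (Nat.factorization_le_iff_dvd hH0 hG0).mpr hdvd q
    have hpowle : q ^ (Nat.card H).factorization q ≤ q ^ (Nat.card G).factorization q :=
      Nat.pow_le_pow_right hq.pos hle
    have hpos : 0 < q ^ (Nat.card H).factorization q := Nat.pow_pos hq.pos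
    rcases hlarge with hl | ⟨hpe, hcomm⟩
    · left; omega
    · rcases lt_or_eq_of_le hle with hlt | heq
      · left
        have : q ^ (Nat.card H).factorization q < q ^ (Nat.card G).factorization q :=
          Nat.pow_lt_pow_right hq.one_lt hlt
        omega
      · right
        refine ⟨by rw [heq]; exact hpe, ?_⟩
        intro P
        have : Fact p.Prime := ⟨hp⟩
        have hPg : IsPGroup p ((P : Subgroup ↥H).map H.subtype) := P.2.map H.subtype
        obtain ⟨P', hP'⟩ := hPg.exists_le_sylow
        have hc := hcomm P'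
        refine ⟨⟨fun a b => ?_⟩⟩
        have ha : (H.subtype a.1) ∈ (P' : Subgroup G) :=
          hP' (Subgroup.mem_map_of_mem _ a.2)
        have hb : (H.subtype b.1) ∈ (P' : Subgroup G) :=
          hP' (Subgroup.mem_map_of_mem _ b.2)
        have hab := @mul_comm' _ _ hc ⟨_, ha⟩ ⟨_, hb⟩
        have hab' : H.subtype a.1 * H.subtype b.1 = H.subtype b.1 * H.subtype a.1 :=
          congrArg Subtype.val hab
        apply Subtype.ext
        apply H.subtype_injective
        simpa using hab'

end Cfsg.Agent.Lib.Helper90_MX_F4
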