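import Cfsg.Agent.Lib.Helper6_MXDefs

/-!
# S4017 package MX-F5 (helper90): the hypotheses pass to the quotient by a normal `p`-subgroup.
-/

set_option autoImplicit false
open Cfsg.Agent.Lib.Helper6_MXDefs

namespace Cfsg.Agent.Lib.Helper90_MX_F5

/-- the comap of a `p`-subgroup of `G ⧸ K` is a `p`-group when `K` is a `p`-group -/
theorem isPGroup_comap_mk_aux {G : Type*} [Group G] {p : ℕ} (K : Subgroup G) [K.Normal]
    (hK : IsPGroup p K) (P : Subgroup (G ⧸ K)) (hP : IsPGroup p P) :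
    IsPGroup p (P.comap (QuotientGroup.mk' K)) := by
  intro g
  have hg : QuotientGroup.mk' K g.1 ∈ P := g.2
  obtain ⟨k, hk⟩ := hP ⟨_, hg⟩
  have hk' : (QuotientGroup.mk' K g.1) ^ p ^ k = 1 := by
    have := congrArg Subtype.val hk
    simpa using this
  have hmem : g.1 ^ p ^ k ∈ K := by
    rw [← QuotientGroup.eq_one_iff]
    simpa using hk'
  obtain ⟨m, hm⟩ := hK ⟨_, hmem⟩
  have hm' : (g.1 ^ p ^ k) ^ p ^ m = 1 := by
    have := congrArg Subtype.val hm
    simpa using this
  refine ⟨k + m, ?_⟩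
  apply Subtype.ext
  rw [pow_add, pow_mul]
  simpa using hm'

/-- MX-F5. -/
theorem hyp_quot {G : Type*} [Group G] [Finite G] {p a : ℕ} {Q : Subgroup G} {x : G}
    (h0 : Ctx0 G p a Q x)
    (heven : ∀ H : Subgroup G, H ≠ ⊤ → 2 ∣ Nat.card H → TwoP p (Nat.card H))
    (habel : ∀ H : Subgroup G, IsPGroup p H → ∀ g ∈ H, ∀ h ∈ H, g * h = h * g)
    (K : Subgroup G) [K.Normal] (hK1 : K ≠ ⊤) (hK : IsPGroup p K) : Hyp (G ⧸ K) p 2 := by
  have hpF : Fact p.Prime := ⟨h0.hp⟩
  have hp := h0.hp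
  have h2p : ¬ 2 ∣ p := fun h => h0.hp2 ((Nat.prime_dvd_prime_iff_eq Nat.prime_two hp).mp h).symm
  obtain ⟨n, hn⟩ := IsPGroup.iff_card.mp hK
  have hcard : Nat.card G = Nat.card (G ⧸ K) * Nat.card K :=
    Subgroup.card_eq_card_quotient_mul_card_subgroup K
  have hGK0 : Nat.card (G ⧸ K) ≠ 0 := Nat.card_pos.ne'
  have hK0 : Nat.card K ≠ 0 := Nat.card_pos.ne'
  -- the 2-part of `|G ⧸ K|`
  have hfac : (Nat.card (G ⧸ K)).factorization 2 = a := by
    have h1 : (Nat.card K).factorization 2 = 0 := by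
      apply Nat.factorization_eq_zero_of_not_dvd
      rw [hn]
      intro h
      exact h2p (Nat.Prime.dvd_of_dvd_pow Nat.prime_two h)
    have h2 := h0.sylQ
    rw [hcard, Nat.factorization_mul hGK0 hK0] at h2
    simpa [h1] using h2
  -- `x ∉ K`
  have hxK : x ∉ K := by
    intro hx
    have hQ2 : IsPGroup 2 Q := IsPGroup.of_card h0.cardQ
    have hdisj : Disjoint K Q := IsPGroup.disjoint_of_ne p 2 h0.hp2 K Q hK hQ2
    have hall : ∀ v ∈ Q, v = 1 := by
      intro v hv
      apply h0.xfree v hv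
      have hcK : x * v * x⁻¹ * v⁻¹ ∈ K := by
        have h1 : v * x⁻¹ * v⁻¹ ∈ K := ‹K.Normal›.conj_mem _ (K.inv_mem hx) v
        have : x * v * x⁻¹ * v⁻¹ = x * (v * x⁻¹ * v⁻¹) := by group
        rw [this]
        exact K.mul_mem hx h1
      have hcQ : x * v * x⁻¹ * v⁻¹ ∈ Q := by
        have h1 : x * v * x⁻¹ ∈ Q := (Subgroup.mem_normalizer_iff.mp h0.xN v).mp hv
        exact Q.mul_mem h1 (Q.inv_mem hv)
      have h1 : x * v * x⁻¹ * v⁻¹ = 1 := by
        have := Subgroup.disjoint_def.mp hdisj hcK hcQ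
        exact this
      exact mul_inv_eq_one.mp h1
    have hbot : Q = ⊥ := by
      rw [eq_bot_iff]
      intro v hv
      exact Subgroup.mem_bot.mpr (hall v hv)
    have h1 : Nat.card Q = 1 := by rw [hbot]; exact Subgroup.card_bot
    have h2 := h0.cardQ
    rw [h1] at h2
    have h3 : 2 ^ 2 ≤ 2 ^ a := Nat.pow_le_pow_right (by norm_num) h0.ha
    omega
  -- `p ∣ |G ⧸ K|`
  have hpdvd : p ∣ Nat.card (G ⧸ K) := by
    obtain ⟨k, hk⟩ := h0.xp
    have hne : (QuotientGroup.mk' K x) ≠ 1 := by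
      intro h
      exact hxK ((QuotientGroup.eq_one_iff x).mp h)
    have hpow : (QuotientGroup.mk' K x) ^ p ^ k = 1 := by
      rw [← map_pow, hk, map_one]
    have hdvd : orderOf (QuotientGroup.mk' K x) ∣ p ^ k := orderOf_dvd_of_pow_eq_one hpow
    obtain ⟨j, _, hj⟩ := (Nat.dvd_prime_pow hp).mp hdvd
    have hj0 : j ≠ 0 := by
      intro h0'
      rw [h0', pow_zero] at hj
      exact hne (orderOf_eq_one_iff.mp hj)
    have : p ∣ orderOf (QuotientGroup.mk' K x) := by
      rw [hj]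
      exact dvd_pow_self p hj0
    exact this.trans (orderOf_dvd_natCard _)
  have h2dvd : 2 ∣ Nat.card (G ⧸ K) := by
    apply Nat.dvd_of_factorization_pos
    rw [hfac]
    have := h0.ha
    omega
  refine ⟨hpdvd, h2dvd, ?_, ?_⟩
  · intro Hb hHb hHb2 h2Hb
    set H := Hb.comap (QuotientGroup.mk' K) with hHdef
    have hHne : H ≠ ⊤ := by
      intro htop
      apply hHb
      rw [eq_top_iff]
      intro gb _
      obtain ⟨g, rfl⟩ := QuotientGroup.mk'_surjective K gb
      have : g ∈ H := htop ▸ Subgroup.mem_top g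
      exact this
    have hsurj : Function.Surjective ((QuotientGroup.mk' K).subgroupComap Hb) :=
      MonoidHom.subgroupComap_surjective_of_surjective _ _ (QuotientGroup.mk'_surjective K)
    have hdvd : Nat.card Hb ∣ Nat.card H :=
      Subgroup.card_dvd_of_surjective _ hsurj
    have hT : TwoP p (Nat.card H) := heven H hHne (h2Hb.trans hdvd)
    by_contra hpn
    apply hHb2
    have hHb0 : Nat.card Hb ≠ 0 := Nat.card_pos.ne'
    have : Nat.card Hb = 2 ^ (Nat.card Hb).primeFactorsList.length := by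
      apply Nat.eq_prime_pow_of_unique_prime_dvd hHb0
      intro d hd hdd
      rcases hT d hd (hdd.trans hdvd) with h | h
      · exact h
      · exact absurd (h ▸ hdd) hpn
    exact IsPGroup.of_card this
  · right
    refine ⟨?_, ?_⟩
    · rw [hfac]
      have := h0.hpa
      omega
    · intro P
      have hPg : IsPGroup p ((P : Subgroup (G ⧸ K)).comap (QuotientGroup.mk' K)) :=
        isPGroup_comap_mk_aux K hK _ P.2
      refine ⟨⟨fun u v => ?_⟩⟩
      obtain ⟨g, hg⟩ := QuotientGroup.mk'_surjective K u.1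
      obtain ⟨g', hg'⟩ := QuotientGroup.mk'_surjective K v.1
      have hgm : g ∈ (P : Subgroup (G ⧸ K)).comap (QuotientGroup.mk' K) := by
        rw [Subgroup.mem_comap, hg]; exact u.2
      have hgm' : g' ∈ (P : Subgroup (G ⧸ K)).comap (QuotientGroup.mk' K) := by
        rw [Subgroup.mem_comap, hg']; exact v.2
      have hc := habel _ hPg g hgm g' hgm'
      apply Subtype.ext
      change u.1 * v.1 = v.1 * u.1
      rw [← hg, ← hg', ← map_mul, ← map_mul, hc]

end Cfsg.Agent.Lib.Helper90_MX_F5
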