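import Mathlib
import Cfsg.Agent.Lib.Helper6_MXDefs

/-!
# S4017 package MX-E2C (architect helper6): `big_a`, the descent from `Q` to `⟨t⟩`
-/

set_option autoImplicit false
set_option linter.unusedVariables false
open Cfsg.Agent.Lib.Helper6_MXDefs

namespace Cfsg.Agent.Lib.Helper91_MX_E2C

variable {G : Type*} [Group G] [Finite G] {p a : ℕ} {Q : Subgroup G} {x : G}

/-- MX-E2C. -/
theorem big_a (hF : UFacts G p a) (hH : HyperProp G p a) (hV : VFourProp G p a) :
    BigAProp G p a := by
  intro Q x h hII h3
  have key : ∀ n : ℕ, ∀ F : Subgroup G, F ≤ Q → F ≠ ⊥ → Nat.card Q - Nat.card F = n →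
      ClaimF p F := by
    intro n
    induction n using Nat.strong_induction_on with
    | _ n ih =>
      intro F hFQ hFne hn
      have hdvd : Nat.card F ∣ Nat.card Q := Subgroup.card_dvd_of_le hFQ
      rw [h.cardQ] at hdvd
      obtain ⟨b, hb, hcF⟩ := (Nat.dvd_prime_pow Nat.prime_two).mp hdvd
      rcases Nat.lt_or_ge b a with hlt | hge
      · by_cases hb1 : b + 1 = a
        · apply hH Q x h hII h3 F hFQ
          rw [h.cardQ, hcF, ← hb1, pow_succ]
          ring
        · have hb2 : b + 2 ≤ a := by omega
          apply hV Q x h F hFQ hFne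
          · rw [h.cardQ, hcF]
            calc 4 * 2 ^ b = 2 ^ (b + 2) := by ring
              _ ≤ 2 ^ a := Nat.pow_le_pow_right (by norm_num) hb2
          · intro F' hF'Q hlt'
            have hF'ne : F' ≠ ⊥ := by
              rintro rfl
              exact hFne (le_bot_iff.mp hlt'.le)
            have hle1 : Nat.card F ≤ Nat.card F' := Subgroup.card_le_of_le hlt'.le
            have hne1 : Nat.card F ≠ Nat.card F' := by
              intro e
              have : F = F' := Subgroup.eq_of_le_of_card_ge hlt'.le (by rw [e])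
              exact hlt'.ne this
            have hle2 : Nat.card F' ≤ Nat.card Q := Subgroup.card_le_of_le hF'Q
            exact ih (Nat.card Q - Nat.card F') (by omega) F' hF'Q hF'ne rfl
      · have hba : b = a := le_antisymm hb hge
        have hFQeq : F = Q := Subgroup.eq_of_le_of_card_ge hFQ (by rw [h.cardQ, hcF, hba])
        rw [hFQeq]
        intro g hg hpg
        exact hII g hpg hg
  intro t ht ht1 g hgt hpg
  have hcl := key _ (Subgroup.zpowers t) (by rwa [Subgroup.zpowers_le])
    (by rwa [Ne, Subgroup.zpowers_eq_bot]) rfl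
  apply hcl g _ hpg
  intro v hv
  obtain ⟨k, rfl⟩ := Subgroup.mem_zpowers_iff.mp hv
  exact (Commute.zpow_right hgt k).eq

end Cfsg.Agent.Lib.Helper91_MX_E2C
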