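import Mathlib
import Cfsg.Agent.Lib.Helper6_MXDefs

set_option autoImplicit false
set_option linter.unusedVariables false
set_option linter.unusedSectionVars false

/-!
# S4017, package MX-E3B1 (helper96, for helper6): structure of `N(⟨y⟩)` for `1 ≠ y ∈ O_t`, `a = 2`

`H = N(⟨y⟩)` is a proper subgroup containing `Q`; `H ∩ N(Q)` centralizes `Q` (else Lemma T for a new
`x` gives `y ∈ N(Q)`, `y = 1`); Burnside's transfer (hypothesis `hB`) gives `H = R Q` with `R` a normal
`p`-subgroup of `H`.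
-/

open Cfsg.Agent.Lib.Helper6_MXDefs

namespace Cfsg.Agent.Lib.Helper96_MX_E3B1

variable {G : Type*} [Group G] [Finite G] {p a : ℕ} {Q : Subgroup G} {x : G}

omit [Finite G] in
theorem centQ_iff (Q : Subgroup G) (g : G) :
    CentQ Q g ↔ g ∈ Subgroup.centralizer (Q : Set G) := by
  rw [Subgroup.mem_centralizer_iff]
  constructor
  · intro h v hv
    exact (h v hv).symm
  · intro h v hv
    exact (h v hv).symm

/-- conjugating `y` into `⟨y⟩` means normalizing `⟨y⟩` -/
theorem mem_norm_of_conj (y g : G) (h : g * y * g⁻¹ ∈ Subgroup.zpowers y) :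
    g ∈ Subgroup.normalizer ((Subgroup.zpowers y : Subgroup G) : Set G) := by
  apply Subgroup.mem_normalizer_fintype
  intro n hn
  obtain ⟨k, rfl⟩ := Subgroup.mem_zpowers_iff.mp hn
  have e : g * y ^ k * g⁻¹ = (g * y * g⁻¹) ^ k := (conj_zpow).symm
  rw [SetLike.mem_coe, e]
  exact Subgroup.zpow_mem _ h k

omit [Finite G] in
theorem conj_of_mem_norm (y g : G)
    (h : g ∈ Subgroup.normalizer ((Subgroup.zpowers y : Subgroup G) : Set G)) :
    g * y * g⁻¹ ∈ Subgroup.zpowers y :=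
  (Subgroup.mem_normalizer_iff.mp h y).mp (Subgroup.mem_zpowers y)

omit [Finite G] in
theorem commute_of_mem_Op {t y : G} (hy : y ∈ Op p t) : y * t = t * y := by
  have hle : Op p t ≤ Subgroup.centralizer ({t} : Set G) := by
    unfold Op
    rw [Subgroup.closure_le]
    intro g hg
    rw [SetLike.mem_coe, Subgroup.mem_centralizer_iff]
    intro h hh
    rw [Set.mem_singleton_iff.mp hh]
    exact hg.1.symm
  have := Subgroup.mem_centralizer_iff.mp (hle hy) t rfl
  exact this.symm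

/-- a number all of whose prime divisors are `2` or `p`, and odd, is a power of `p` -/
theorem pow_of_twoP_odd {p n : ℕ} (hn : n ≠ 0) (h : TwoP p n) (h2 : ¬ 2 ∣ n) :
    ∃ k : ℕ, n = p ^ k := by
  refine ⟨n.primeFactorsList.length, Nat.eq_prime_pow_of_unique_prime_dvd hn ?_⟩
  intro d hd hdn
  rcases h d hd hdn with rfl | rfl
  · exact absurd hdn h2
  · rfl

/-- the `2`-part / `p`-part decomposition of an element whose order is a `{2,p}`-number -/
theorem two_p_parts (hp : p.Prime) (hp2 : p ≠ 2) (g : G) (hg : TwoP p (orderOf g)) :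
    ∃ g1 z : G, (∃ k : ℕ, g1 ^ 2 ^ k = 1) ∧ IsPEl p z ∧ g1 ∈ Subgroup.zpowers g ∧
      z ∈ Subgroup.zpowers g ∧ g ∈ Subgroup.closure ({g1, z} : Set G) := by
  have hn : orderOf g ≠ 0 := (orderOf_pos g).ne'
  set n := orderOf g with hndef
  set e := n.factorization 2 with he
  set m := n / 2 ^ e with hm
  have hnm : 2 ^ e * m = n := Nat.ordProj_mul_ordCompl_eq_self n 2
  have hm0 : m ≠ 0 := by
    intro h0
    rw [h0, mul_zero] at hnm
    exact hn hnm.symm
  have hm2 : ¬ 2 ∣ m := Nat.not_dvd_ordCompl Nat.prime_two hn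
  have hmT : TwoP p m := by
    intro r hr hrm
    exact hg r hr (dvd_trans hrm (Dvd.intro_left _ hnm))
  obtain ⟨f, hf⟩ := pow_of_twoP_odd hm0 hmT hm2
  refine ⟨g ^ m, g ^ 2 ^ e, ⟨e, ?_⟩, ⟨f, ?_⟩, Subgroup.pow_mem _ (Subgroup.mem_zpowers g) m,
    Subgroup.pow_mem _ (Subgroup.mem_zpowers g) (2 ^ e), ?_⟩
  · rw [← pow_mul, mul_comm, hnm, hndef, pow_orderOf_eq_one]
  · rw [← pow_mul, ← hf, hnm, hndef, pow_orderOf_eq_one]
  · have hcop : Nat.Coprime m (2 ^ e) := by
      apply Nat.Coprime.pow_right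
      exact ((Nat.Prime.coprime_iff_not_dvd Nat.prime_two).mpr hm2).symm
    have hb := Int.gcd_eq_gcd_ab (m : ℤ) ((2 ^ e : ℕ) : ℤ)
    have hg1 : Int.gcd (m : ℤ) ((2 ^ e : ℕ) : ℤ) = 1 := by
      rw [Int.gcd_natCast_natCast]
      exact hcop
    rw [hg1] at hb
    have e1 : g = (g ^ m) ^ (Int.gcdA (m : ℤ) ((2 ^ e : ℕ) : ℤ)) *
        (g ^ 2 ^ e) ^ (Int.gcdB (m : ℤ) ((2 ^ e : ℕ) : ℤ)) := by
      rw [← zpow_natCast g m, ← zpow_natCast g (2 ^ e), ← zpow_mul, ← zpow_mul, ← zpow_add, ← hb]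
      simp
    have hmem : (g ^ m) ^ (Int.gcdA (m : ℤ) ((2 ^ e : ℕ) : ℤ)) *
        (g ^ 2 ^ e) ^ (Int.gcdB (m : ℤ) ((2 ^ e : ℕ) : ℤ)) ∈
        Subgroup.closure ({g ^ m, g ^ 2 ^ e} : Set G) := by
      apply Subgroup.mul_mem
      · exact Subgroup.zpow_mem _ (Subgroup.subset_closure (Set.mem_insert _ _)) _
      · exact Subgroup.zpow_mem _
          (Subgroup.subset_closure (Set.mem_insert_of_mem _ (Set.mem_singleton _))) _
    rwa [← e1] at hmem

theorem kl_nystruct (hF : UFacts G p a) (hI : InvProp G p a)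
    (hB : ∀ (l : ℕ) [Fact l.Prime] (H S : Subgroup G)
      (_ : S ≤ H) (_ : Nat.card S = l ^ (Nat.card H).factorization l)
      (_ : ∀ g ∈ H, g ∈ Subgroup.normalizer (S : Set G) → ∀ s ∈ S, g * s = s * g),
      ∃ K : Subgroup G, K ≤ H ∧ (∀ g ∈ H, ∀ k ∈ K, g * k * g⁻¹ ∈ K) ∧
        Nat.card K * Nat.card S = Nat.card H ∧
        (∀ g ∈ H, (orderOf g).Coprime l → g ∈ K) ∧
        (∀ g ∈ H, ∃ k ∈ K, ∃ s ∈ S, g = k * s)) : NYStructProp G p a := by
  intro Q x h hII ha t ht ht1 y hy hy1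
  have F := hF Q x h
  obtain ⟨hOtp, hOtdec⟩ := F.ot t ht ht1
  -- `y` is a `p`-element commuting with `t`
  have hyt : y * t = t * y := commute_of_mem_Op hy
  have hzp : IsPGroup p (Subgroup.zpowers y) := by
    apply hOtp.to_le
    rw [Subgroup.zpowers_le]
    exact hy
  have hyp : IsPEl p y := by
    obtain ⟨k, hk⟩ := hOtp ⟨y, hy⟩
    exact ⟨k, by simpa using congrArg Subtype.val hk⟩
  -- the normalizer `H`
  obtain ⟨H, hHdef⟩ : ∃ H : Subgroup G,
      H = Subgroup.normalizer ((Subgroup.zpowers y : Subgroup G) : Set G) := ⟨_, rfl⟩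
  have hmemH : ∀ g : G, g * y * g⁻¹ ∈ Subgroup.zpowers y → g ∈ H := by
    intro g hg
    rw [hHdef]
    exact mem_norm_of_conj y g hg
  have hHconj : ∀ g ∈ H, g * y * g⁻¹ ∈ Subgroup.zpowers y := by
    intro g hg
    rw [hHdef] at hg
    exact conj_of_mem_norm y g hg
  have hHne : H ≠ ⊤ := by
    rw [hHdef]
    apply F.norm_ne
    · intro h0
      exact hy1 (Subgroup.zpowers_eq_bot.mp h0)
    · exact F.pgrp_ne _ hzp
  have hQH : Q ≤ H := by
    intro v hv
    apply hmemH
    by_cases hv1 : v = 1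
    · rw [hv1, one_mul, inv_one, mul_one]
      exact Subgroup.mem_zpowers y
    by_cases hvt : v = t
    · rw [hvt, ← hyt, mul_inv_cancel_right]
      exact Subgroup.mem_zpowers y
    · rw [hI Q x h hII ha t ht ht1 v hv hv1 hvt y hy]
      exact Subgroup.inv_mem _ (Subgroup.mem_zpowers y)
  have hyH : y ∈ H := by
    apply hmemH
    rw [mul_inv_cancel_right]
    exact Subgroup.mem_zpowers y
  -- cardinalities
  have hcG : Nat.card G ≠ 0 := Nat.card_pos.ne'
  have hcH : Nat.card H ≠ 0 := Nat.card_pos.ne'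
  have hfac : (Nat.card H).factorization 2 = a := by
    apply le_antisymm
    · rw [← h.sylQ]
      exact (Nat.factorization_le_iff_dvd hcH hcG).mpr (Subgroup.card_subgroup_dvd_card H) 2
    · apply (Nat.Prime.pow_dvd_iff_le_factorization Nat.prime_two hcH).mp
      rw [← h.cardQ]
      exact Subgroup.card_dvd_of_le hQH
  have hcard : Nat.card Q = 2 ^ (Nat.card H).factorization 2 := by
    rw [hfac, h.cardQ]
  have h2H : 2 ∣ Nat.card H := by
    have h1 : Nat.card Q ∣ Nat.card H := Subgroup.card_dvd_of_le hQH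
    rw [h.cardQ] at h1
    exact dvd_trans (dvd_pow_self 2 (by have := h.ha; omega)) h1
  have hHT : TwoP p (Nat.card H) := h.even H hHne h2H
  -- `H ∩ N(Q)` centralizes `Q`
  have hNC : ∀ g ∈ H, g ∈ Subgroup.normalizer (Q : Set G) → ∀ s ∈ Q, g * s = s * g := by
    intro g hgH hgN
    by_contra hcon
    have hgC : ¬ CentQ Q g := hcon
    have hgo : TwoP p (orderOf g) := by
      intro r hr hrd
      exact F.nq_twoP r hr (dvd_trans hrd (Subgroup.orderOf_dvd_natCard _ hgN))
    obtain ⟨g1, z, hg1, hz, hg1z, hzz, hgcl⟩ := two_p_parts h.hp h.hp2 g hgo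
    have hzle : Subgroup.zpowers g ≤ NQ Q := by
      rw [Subgroup.zpowers_le]
      exact hgN
    have hzleH : Subgroup.zpowers g ≤ H := by
      rw [Subgroup.zpowers_le]
      exact hgH
    have hg1Q : g1 ∈ Q := F.twoN g1 (hzle hg1z) hg1
    have hg1C : g1 ∈ Subgroup.centralizer (Q : Set G) := by
      rw [← centQ_iff]
      intro v hv
      exact F.elem.2 g1 hg1Q v hv
    have hzC : ¬ CentQ Q z := by
      intro hzc
      apply hgC
      rw [centQ_iff] at hzc ⊢
      have hcl : Subgroup.closure ({g1, z} : Set G) ≤ Subgroup.centralizer (Q : Set G) := by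
        rw [Subgroup.closure_le]
        intro w hw
        rcases hw with rfl | hw
        · exact hg1C
        · rw [Set.mem_singleton_iff.mp hw]
          exact hzc
      exact hcl hgcl
    have hctx : Ctx G p a Q z := F.swap z (hzle hzz) hz hzC
    have F' := hF Q z hctx
    have hHN : H ≤ NQ Q := F'.lemT H hHne hQH (hzleH hzz)
    have hyN : y ∈ NQ Q := hHN hyH
    have hyfix : y * t * y⁻¹ = t := by
      rw [hyt, mul_inv_cancel_right]
    have hyC : CentQ Q y := F.stab y hyN t ht ht1 hyfix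
    exact hy1 (hII y hyp hyC)
  -- Burnside
  obtain ⟨K, hKH, hKn, hKc, hKo, hKd⟩ := hB 2 H Q hQH hcard hNC
  have hcK : Nat.card K ≠ 0 := Nat.card_pos.ne'
  have hK2 : ¬ 2 ∣ Nat.card K := by
    intro h2
    have h3 : 2 ^ (a + 1) ∣ Nat.card H := by
      rw [← hKc, h.cardQ, pow_succ, mul_comm]
      exact mul_dvd_mul h2 (dvd_refl _)
    have := (Nat.Prime.pow_dvd_iff_le_factorization Nat.prime_two hcH).mp h3
    omega
  have hKT : TwoP p (Nat.card K) := by
    intro r hr hrd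
    exact hHT r hr (dvd_trans hrd (Dvd.intro _ hKc))
  obtain ⟨k, hk⟩ := pow_of_twoP_odd hcK hKT hK2
  refine ⟨K, IsPGroup.of_card hk, ?_, ?_, ?_⟩
  · intro g hgp hgy
    apply hKo g (hmemH g hgy)
    obtain ⟨j, hj⟩ := hgp
    have hd : orderOf g ∣ p ^ j := orderOf_dvd_of_pow_eq_one hj
    have hcop : Nat.Coprime (p ^ j) 2 := by
      apply Nat.Coprime.pow_left
      exact (Nat.coprime_primes h.hp Nat.prime_two).mpr h.hp2
    exact Nat.Coprime.coprime_dvd_left hd hcop
  · intro g hgy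
    exact hKd g (hmemH g hgy)
  · intro r hr v hv
    exact hKn v (hQH hv) r hr

end Cfsg.Agent.Lib.Helper96_MX_E3B1
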