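import Cfsg.Agent.Lib.Helper6_MXDefs

set_option autoImplicit false

/-!
S4017 market (architect helper6), package MX-A5: the basic global facts in a context `Ctx G p a Q x`.
-/

open Cfsg.Agent.Lib.Helper6_MXDefs

namespace Cfsg.Agent.Lib.Helper99_MX_A5

variable {G : Type*} [Group G] [Finite G] {p a : ℕ} {Q : Subgroup G} {x : G}

theorem aux_card_Q_ge (h : Ctx G p a Q x) : 4 ≤ Nat.card Q := by
  rw [h.cardQ]
  calc 4 = 2 ^ 2 := by norm_num
    _ ≤ 2 ^ a := Nat.pow_le_pow_right (by norm_num) h.ha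

theorem aux_Q_ne_bot (h : Ctx G p a Q x) : Q ≠ ⊥ := by
  intro hQ
  have h4 := aux_card_Q_ge h
  rw [hQ, Subgroup.card_bot] at h4
  omega

theorem aux_twoP_pow (p a : ℕ) : TwoP p (2 ^ a) := by
  intro r hr hdvd
  left
  exact (Nat.prime_dvd_prime_iff_eq hr Nat.prime_two).1 (hr.dvd_of_dvd_pow hdvd)

theorem aux_Q_ne_top (h : Ctx G p a Q x) : Q ≠ ⊤ := by
  intro hQ
  apply h.big
  have h1 : Nat.card G = 2 ^ a := by
    rw [← h.cardQ, hQ, Subgroup.card_top]
  rw [h1]
  exact aux_twoP_pow p a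

theorem aux_not_normal (h : Ctx G p a Q x) : ¬ Q.Normal := by
  intro hn
  rcases h.simple Q hn with h1 | h1
  · exact aux_Q_ne_bot h h1
  · exact aux_Q_ne_top h h1

theorem aux_center (h : Ctx G p a Q x) : ∀ g : G, (∀ k : G, g * k = k * g) → g = 1 := by
  intro g hg
  by_contra hne
  have hZ : Subgroup.center G ≠ ⊥ := by
    intro hbot
    have hmem : g ∈ Subgroup.center G := by
      rw [Subgroup.mem_center_iff]
      intro k
      exact (hg k).symm
    rw [hbot, Subgroup.mem_bot] at hmem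
    exact hne hmem
  have hZt : Subgroup.center G = ⊤ := by
    rcases h.simple (Subgroup.center G) inferInstance with h1 | h1
    · exact absurd h1 hZ
    · exact h1
  apply aux_not_normal h
  constructor
  intro n hn k
  have hk : k ∈ Subgroup.center G := by rw [hZt]; exact Subgroup.mem_top k
  rw [Subgroup.mem_center_iff] at hk
  have : k * n * k⁻¹ = n := by
    rw [← hk n, mul_inv_cancel_right]
  rw [this]
  exact hn

theorem aux_two_dvd (h : Ctx G p a Q x) : 2 ∣ Nat.card G := by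
  have hpos : (Nat.card G).factorization 2 ≠ 0 := by
    rw [h.sylQ]
    have := h.ha
    omega
  exact Nat.dvd_of_factorization_pos hpos

/-- MX-A5. -/
theorem basics (h : Ctx G p a Q x) :
    NQ Q ≠ ⊤ ∧ TwoP p (Nat.card (NQ Q)) ∧
    (∀ g : G, (∀ k : G, g * k = k * g) → g = 1) ∧
    (∀ K : Subgroup G, K ≠ ⊥ → K ≠ ⊤ → Subgroup.normalizer (K : Set G) ≠ ⊤) ∧
    (∀ K : Subgroup G, IsPGroup p K → K ≠ ⊤) ∧
    (∀ g : G, g ≠ 1 → Subgroup.centralizer ({g} : Set G) ≠ ⊤) ∧
    p ∣ Nat.card G ∧ (∃ t ∈ Q, t ≠ 1) := by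
  have hNQ : NQ Q ≠ ⊤ := by
    intro htop
    exact aux_not_normal h (Subgroup.normalizer_eq_top_iff.1 htop)
  refine ⟨hNQ, ?_, aux_center h, ?_, ?_, ?_, ?_, ?_⟩
  · apply h.even (NQ Q) hNQ
    have h1 : Nat.card Q ∣ Nat.card (NQ Q) := Subgroup.card_dvd_of_le Subgroup.le_normalizer
    rw [h.cardQ] at h1
    exact dvd_trans (dvd_pow_self 2 (by have := h.ha; omega)) h1
  · intro K hb ht htop
    have hn : K.Normal := Subgroup.normalizer_eq_top_iff.1 htop
    rcases h.simple K hn with h1 | h1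
    · exact hb h1
    · exact ht h1
  · intro K hK htop
    have : Fact p.Prime := ⟨h.hp⟩
    obtain ⟨n, hn⟩ := hK.exists_card_eq
    rw [htop, Subgroup.card_top] at hn
    have h2 := aux_two_dvd h
    rw [hn] at h2
    have := (Nat.prime_dvd_prime_iff_eq Nat.prime_two h.hp).1 (Nat.prime_two.dvd_of_dvd_pow h2)
    exact h.hp2 this.symm
  · intro g hg htop
    apply hg
    apply aux_center h
    intro k
    have hk : k ∈ Subgroup.centralizer ({g} : Set G) := by rw [htop]; exact Subgroup.mem_top k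
    rw [Subgroup.mem_centralizer_iff] at hk
    exact hk g rfl
  · have hx1 : x ≠ 1 := by
      intro hx
      apply aux_Q_ne_bot h
      rw [Subgroup.eq_bot_iff_forall]
      intro v hv
      apply h.xfree v hv
      rw [hx, one_mul, inv_one, mul_one]
    obtain ⟨k, hk⟩ := h.xp
    have hord : orderOf x ∣ p ^ k := orderOf_dvd_of_pow_eq_one hk
    obtain ⟨m, _, hm⟩ := (Nat.dvd_prime_pow h.hp).1 hord
    have hm0 : m ≠ 0 := by
      intro h0
      rw [h0, pow_zero, orderOf_eq_one_iff] at hm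
      exact hx1 hm
    have hpo : p ∣ orderOf x := by
      rw [hm]
      exact dvd_pow_self p hm0
    exact dvd_trans hpo (orderOf_dvd_natCard x)
  · rcases Subgroup.bot_or_exists_ne_one Q with h1 | h1
    · exact absurd h1 (aux_Q_ne_bot h)
    · exact h1

end Cfsg.Agent.Lib.Helper99_MX_A5
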