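import Cfsg.Agent.Lib.Helper6_MXDefs

set_option autoImplicit false

/-!
S4017 market (architect helper6), package MX-A6: in a context `Ctx G p a Q x`, an element of `N(Q)` fixing a
non-trivial element of `Q` centralizes `Q`.
-/

open Cfsg.Agent.Lib.Helper6_MXDefs

namespace Cfsg.Agent.Lib.Helper99_MX_A6

variable {G : Type*} [Group G] [Finite G] {p a : ℕ} {Q : Subgroup G} {x : G}

/-- A `p`-element of `N(Q)` commuting with a non-trivial element of `Q` (of order `p + 1`) centralizes `Q`. -/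
theorem aux_pel_cent (hp : p.Prime) (hcard : Nat.card Q = p + 1) (z : G) (hz : z ∈ NQ Q) (hzp : IsPEl p z)
    (t : G) (ht : t ∈ Q) (ht1 : t ≠ 1) (hzt : z * t = t * z) : CentQ Q z := by
  have : Fact p.Prime := ⟨hp⟩
  have hp2 : 2 ≤ p := hp.two_le
  have hZN : Subgroup.zpowers z ≤ NQ Q := by
    rw [Subgroup.zpowers_le]
    exact hz
  have hZp : IsPGroup p (Subgroup.zpowers z) := by
    obtain ⟨k, hk⟩ := hzp
    rintro ⟨c, hc⟩
    obtain ⟨m, rfl⟩ := Subgroup.mem_zpowers_iff.1 hc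
    refine ⟨k, ?_⟩
    apply Subtype.ext
    show (z ^ m) ^ p ^ k = 1
    rw [← zpow_natCast, ← zpow_mul, mul_comm, zpow_mul, zpow_natCast, hk, one_zpow]
  -- the conjugation action of `⟨z⟩` on `Q`
  let act : MulAction ↥(Subgroup.zpowers z) ↥Q :=
    { smul := fun c v => ⟨(c : G) * v * (c : G)⁻¹, (Subgroup.mem_normalizer_iff.1 (hZN c.2) v).1 v.2⟩
      one_smul := fun v => by
        apply Subtype.ext
        show ((1 : ↥(Subgroup.zpowers z)) : G) * v * ((1 : ↥(Subgroup.zpowers z)) : G)⁻¹ = v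
        rw [Subgroup.coe_one, one_mul, inv_one, mul_one]
      mul_smul := fun c d v => by
        apply Subtype.ext
        show ((c * d : ↥(Subgroup.zpowers z)) : G) * v * ((c * d : ↥(Subgroup.zpowers z)) : G)⁻¹ =
          (c : G) * ((d : G) * v * (d : G)⁻¹) * (c : G)⁻¹
        rw [Subgroup.coe_mul, mul_inv_rev]
        group }
  have hsmul : ∀ (c : ↥(Subgroup.zpowers z)) (v : ↥Q), ((c • v : ↥Q) : G) = (c : G) * v * (c : G)⁻¹ :=
    fun _ _ => rfl
  have hmod := hZp.card_modEq_card_fixedPoints ↥Q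
  -- `1` and `t` are fixed points
  have hfix : ∀ v : ↥Q, z * (v : G) = (v : G) * z → v ∈ MulAction.fixedPoints ↥(Subgroup.zpowers z) ↥Q := by
    intro v hv c
    apply Subtype.ext
    rw [hsmul]
    obtain ⟨m, hm⟩ := Subgroup.mem_zpowers_iff.1 c.2
    rw [← hm]
    have hcomm : Commute (z ^ m) (v : G) := Commute.zpow_left hv m
    rw [hcomm.eq, mul_inv_cancel_right]
  have h1fix : (1 : ↥Q) ∈ MulAction.fixedPoints ↥(Subgroup.zpowers z) ↥Q := by
    apply hfix
    rw [Subgroup.coe_one, mul_one, one_mul]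
  have htfix : (⟨t, ht⟩ : ↥Q) ∈ MulAction.fixedPoints ↥(Subgroup.zpowers z) ↥Q := hfix ⟨t, ht⟩ hzt
  -- the fixed points are everything
  have hall : MulAction.fixedPoints ↥(Subgroup.zpowers z) ↥Q = Set.univ := by
    by_contra hne
    have hlt := Set.ncard_lt_card hne
    rw [Nat.card_coe_set_eq] at hmod
    set f := (MulAction.fixedPoints ↥(Subgroup.zpowers z) ↥Q).ncard with hf
    rw [hcard] at hlt hmod
    have hmod1 : f % p = 1 := by
      have h1 : f % p = (p + 1) % p := hmod.symm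
      rw [h1, Nat.add_mod_left, Nat.mod_eq_of_lt (by omega)]
    have hfp : f < p := by
      rcases Nat.lt_or_ge f p with h' | h'
      · exact h'
      · exfalso
        have hfe : f = p := by omega
        rw [hfe, Nat.mod_self] at hmod1
        exact zero_ne_one hmod1
    have hdm : 1 = f := by
      rw [← hmod1, Nat.mod_eq_of_lt hfp]
    -- `f = 1` contradicts `1 ≠ t`
    have hcard1 : (MulAction.fixedPoints ↥(Subgroup.zpowers z) ↥Q).ncard = 1 := hdm.symm
    rw [Set.ncard_eq_one] at hcard1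
    obtain ⟨w, hw⟩ := hcard1
    have e1 : (1 : ↥Q) = w := by
      have := h1fix
      rw [hw] at this
      exact this
    have e2 : (⟨t, ht⟩ : ↥Q) = w := by
      have := htfix
      rw [hw] at this
      exact this
    apply ht1
    have := congrArg Subtype.val (e2.trans e1.symm)
    exact this
  intro v hv
  have hvfix : (⟨v, hv⟩ : ↥Q) ∈ MulAction.fixedPoints ↥(Subgroup.zpowers z) ↥Q := by
    rw [hall]
    exact Set.mem_univ _
  have h3 := congrArg Subtype.val (hvfix ⟨z, Subgroup.mem_zpowers z⟩)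
  rw [hsmul] at h3
  have h4 : z * v * z⁻¹ = v := h3
  rw [← h4, inv_mul_cancel_right, h4]

/-- MX-A6. -/
theorem stab (h : Ctx G p a Q x) (hE : PElem Q) (h2N : PTwoN Q)
    (hN : TwoP p (Nat.card (NQ Q))) : PStab Q := by
  intro g hg t ht ht1 hgt
  have hcomm : g * t = t * g := by
    rw [← hgt, inv_mul_cancel_right, hgt]
  have hcardQ : Nat.card Q = p + 1 := by rw [h.cardQ, h.hpa]
  -- the order of `g`
  set n := orderOf g with hn
  have hn0 : n ≠ 0 := (orderOf_pos g).ne'
  have hndvd : n ∣ Nat.card (NQ Q) := by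
    have h1 : orderOf (⟨g, hg⟩ : ↥(NQ Q)) = orderOf g := Subgroup.orderOf_mk g hg
    rw [hn, ← h1]
    exact orderOf_dvd_natCard _
  set e := n.factorization 2 with he
  set m := n / 2 ^ e with hm
  have hnm : 2 ^ e * m = n := Nat.ordProj_mul_ordCompl_eq_self n 2
  have hm0 : m ≠ 0 := by
    intro h0
    rw [h0, mul_zero] at hnm
    exact hn0 hnm.symm
  have hmodd : ¬ 2 ∣ m := Nat.not_dvd_ordCompl Nat.prime_two hn0
  have hmp : m = p ^ m.primeFactorsList.length := by
    apply Nat.eq_prime_pow_of_unique_prime_dvd hm0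
    intro d hd hdm
    have hdn : d ∣ Nat.card (NQ Q) := dvd_trans (dvd_trans hdm (Dvd.intro_left _ hnm)) hndvd
    rcases hN d hd hdn with h2 | h2
    · exfalso
      rw [h2] at hdm
      exact hmodd hdm
    · exact h2
  set f := m.primeFactorsList.length with hf
  -- the two parts of `g`
  have hpowN : ∀ k : ℕ, g ^ k ∈ NQ Q := fun k => Subgroup.pow_mem _ hg k
  have hg1Q : g ^ m ∈ Q := by
    apply h2N _ (hpowN m)
    refine ⟨e, ?_⟩
    rw [← pow_mul, mul_comm, hnm, hn, pow_orderOf_eq_one]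
  have hg1 : g ^ m ∈ Subgroup.centralizer (Q : Set G) := by
    rw [Subgroup.mem_centralizer_iff]
    intro v hv
    exact hE.2 v hv _ hg1Q
  have hg2 : g ^ 2 ^ e ∈ Subgroup.centralizer (Q : Set G) := by
    have hc := aux_pel_cent h.hp hcardQ (g ^ 2 ^ e) (hpowN _) ⟨f, by
      rw [← pow_mul, ← hmp, hnm, hn, pow_orderOf_eq_one]⟩ t ht ht1
      ((Commute.pow_left hcomm (2 ^ e)).eq)
    rw [Subgroup.mem_centralizer_iff]
    intro v hv
    exact (hc v hv).symm
  -- Bezout
  have hcop : Nat.Coprime m (2 ^ e) := by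
    apply Nat.Coprime.pow_right
    rw [Nat.coprime_comm, Nat.Prime.coprime_iff_not_dvd Nat.prime_two]
    exact hmodd
  have hbez : (1 : ℤ) = (m : ℤ) * Nat.gcdA m (2 ^ e) + ((2 ^ e : ℕ) : ℤ) * Nat.gcdB m (2 ^ e) := by
    rw [← Nat.gcd_eq_gcd_ab, hcop.gcd_eq_one, Nat.cast_one]
  have hgmem : g ∈ Subgroup.centralizer (Q : Set G) := by
    have h1 : g = (g ^ m) ^ Nat.gcdA m (2 ^ e) * (g ^ 2 ^ e) ^ Nat.gcdB m (2 ^ e) := by
      rw [← zpow_natCast, ← zpow_natCast, ← zpow_mul, ← zpow_mul, ← zpow_add, ← hbez, zpow_one]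
    rw [h1]
    exact Subgroup.mul_mem _ (Subgroup.zpow_mem _ hg1 _) (Subgroup.zpow_mem _ hg2 _)
  rw [Subgroup.mem_centralizer_iff] at hgmem
  intro v hv
  exact (hgmem v hv).symm

end Cfsg.Agent.Lib.Helper99_MX_A6
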