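import Cfsg.Agent.Lib.Helper6_MXDefs

/-!
S4017 package MX-D5C (helper9, for helper6): Case I is impossible.
Every involution lies in `N(Q)`, hence every conjugate of an involution of `Q` lies in `Q`;
so `Q` is normal, against simplicity.
-/

set_option autoImplicit false
open Cfsg.Agent.Lib.Helper6_MXDefs

namespace Cfsg.Agent.Lib.Helper9_MX_D5C

variable {G : Type*} [Group G] [Finite G] {p a : ℕ} {Q : Subgroup G} {x : G}

theorem caseI_false (hF : UFacts G p a) (hD5a : D5aProp G p a) (hD5b2 : D5b2Prop G p a) :
    CaseIProp G p a := by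
  intro Q x h hI
  have F := hF Q x h
  obtain ⟨t, ht, ht1⟩ := F.q_ne
  have htt : t * t = 1 := F.elem.1 t ht
  have htinv : t⁻¹ = t := inv_eq_of_mul_eq_one_left htt
  have hQN : Q ≤ NQ Q := Subgroup.le_normalizer
  -- every involution lies in `N(Q)`
  have hinv : ∀ u : G, orderOf u = 2 → u ∈ NQ Q := by
    intro u hu
    by_contra hnot
    have huu : u * u = 1 := by
      have := pow_orderOf_eq_one u
      rw [hu, pow_two] at this
      exact this
    have huinv : u⁻¹ = u := inv_eq_of_mul_eq_one_left huu
    have hy : IsPEl p (t * u) := hD5a Q x h hI t ht ht1 u hu hnot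
    have hconj : t * (t * u) * t⁻¹ = (t * u)⁻¹ := by
      rw [mul_inv_rev, ← mul_assoc t t u, htt, one_mul]
      conv_rhs => rw [huinv]
    have hyN : t * u ∈ NQ Q := hD5b2 Q x h hI t ht ht1 (t * u) hy hconj
    apply hnot
    have : u = t⁻¹ * (t * u) := by group
    rw [this]
    exact (NQ Q).mul_mem ((NQ Q).inv_mem (hQN ht)) hyN
  -- `Q` is normal
  have hnormal : Q.Normal := by
    constructor
    intro v hv c
    by_cases hv1 : v = 1
    · subst hv1
      simp [Q.one_mem]
    · have hvv : v * v = 1 := F.elem.1 v hv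
      have hov : orderOf v = 2 := by
        apply orderOf_eq_prime
        · rw [pow_two]; exact hvv
        · exact hv1
      have hoc : orderOf (c * v * c⁻¹) = 2 := by
        rw [← hov]
        have hs : SemiconjBy c v (c * v * c⁻¹) := by
          unfold SemiconjBy
          group
        exact (hs.orderOf_eq c).symm
      apply F.twoN _ (hinv _ hoc)
      refine ⟨1, ?_⟩
      rw [pow_one, ← hoc]
      exact pow_orderOf_eq_one _
  rcases h.simple Q hnormal with hbot | htop
  · apply ht1
    have : t ∈ (⊥ : Subgroup G) := hbot ▸ ht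
    exact Subgroup.mem_bot.1 this
  · apply F.nq_ne
    rw [eq_top_iff]
    intro g _
    exact hQN (htop ▸ Subgroup.mem_top g)

end Cfsg.Agent.Lib.Helper9_MX_D5C
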