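import Cfsg.Agent.Lib.Helper6_MXDefs
import Cfsg.Agent.Lib.Helper24_MX_E4A
import Cfsg.Agent.Lib.Helper24_MX_F1
import Cfsg.Agent.Lib.Helper41_MX_A2
import Cfsg.Agent.Lib.Helper41_MX_E1
import Cfsg.Agent.Lib.Helper41_MX_E3B4
import Cfsg.Agent.Lib.Helper42_MX_F2A
import Cfsg.Agent.Lib.Helper42_MX_F3
import Cfsg.Agent.Lib.Helper43_MX_D5B1
import Cfsg.Agent.Lib.Helper46_MX_E2A
import Cfsg.Agent.Lib.Helper46_MX_E2B
import Cfsg.Agent.Lib.Helper47_MX_D1
import Cfsg.Agent.Lib.Helper47_MX_D2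
import Cfsg.Agent.Lib.Helper47_MX_D3
import Cfsg.Agent.Lib.Helper47_MX_D4
import Cfsg.Agent.Lib.Helper52_MX_D5B2
import Cfsg.Agent.Lib.Helper53_MX_E40
import Cfsg.Agent.Lib.Helper58_MX_D5A
import Cfsg.Agent.Lib.Helper60_MX_A7
import Cfsg.Agent.Lib.Helper60_MX_A8
import Cfsg.Agent.Lib.Helper61_MX_F6A
import Cfsg.Agent.Lib.Helper61_MX_F6B
import Cfsg.Agent.Lib.Helper64_MX_E3D
import Cfsg.Agent.Lib.Helper64_MX_E4C
import Cfsg.Agent.Lib.Helper64_MX_F2B
import Cfsg.Agent.Lib.Helper65_MX_A1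
import Cfsg.Agent.Lib.Helper65_MX_E4B
import Cfsg.Agent.Lib.Helper65_MX_E4D3
import Cfsg.Agent.Lib.Helper69_MX_E4D2
import Cfsg.Agent.Lib.Helper6_MX_A3
import Cfsg.Agent.Lib.Helper6_MX_A4
import Cfsg.Agent.Lib.Helper74_MX_B3
import Cfsg.Agent.Lib.Helper74_MX_C1
import Cfsg.Agent.Lib.Helper77_MX_E3C
import Cfsg.Agent.Lib.Helper77_MX_E3E
import Cfsg.Agent.Lib.Helper79_MX_E4D1
import Cfsg.Agent.Lib.Helper79_MX_E4E
import Cfsg.Agent.Lib.Helper84_MX_B1
import Cfsg.Agent.Lib.Helper84_MX_B2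
import Cfsg.Agent.Lib.Helper85_MX_E3A
import Cfsg.Agent.Lib.Helper85_MX_E3B2
import Cfsg.Agent.Lib.Helper85_MX_E3B3
import Cfsg.Agent.Lib.Helper90_MX_F4
import Cfsg.Agent.Lib.Helper90_MX_F5
import Cfsg.Agent.Lib.Helper91_MX_E2C
import Cfsg.Agent.Lib.Helper96_MX_E3B1
import Cfsg.Agent.Lib.Helper99_MX_A5
import Cfsg.Agent.Lib.Helper99_MX_A6
import Cfsg.Agent.Lib.Helper9_MX_D5C

/-!
# S4017: assembly (helper6)

`ctx_false` : the minimal-counterexample context of the Mersenne case is contradictory;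
`main_aux`  : the induction proving S4017.  All ingredients are the `MX` packages.
-/

set_option autoImplicit false
open Cfsg.Agent.Lib.Helper6_MXDefs

namespace Cfsg.Agent.Lib.Helper6_MXMain

variable {G : Type*} [Group G] [Finite G] {p a : ℕ} {Q : Subgroup G} {x : G}

/-- MX-C2 : assembly of the basic facts (uses A1-A8, B3, C1) -/
theorem facts : UFacts G p a := by
  intro Q x h
  have hT := Cfsg.Agent.Lib.Helper65_MX_A1.x_trans h.toCtx0
  have hE := Cfsg.Agent.Lib.Helper41_MX_A2.q_elem h.toCtx0 hT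
  obtain ⟨hSy, h2N⟩ := Cfsg.Agent.Lib.Helper6_MX_A3.q_syl h.toCtx0
  obtain ⟨b1, b2, b3, b4, b5, b6, b7, b8⟩ := Cfsg.Agent.Lib.Helper99_MX_A5.basics h
  have hS := Cfsg.Agent.Lib.Helper99_MX_A6.stab h hE h2N b2
  exact
    { trans := hT, elem := hE, syl := hSy, twoN := h2N, stab := hS
      dec := Cfsg.Agent.Lib.Helper60_MX_A7.nq_dec h.toCtx0 hT hS, lemT := Cfsg.Agent.Lib.Helper74_MX_B3.lemT h, ot := Cfsg.Agent.Lib.Helper74_MX_C1.ot h hE hS b6
      nq_ne := b1, nq_twoP := b2, ctr := b3, norm_ne := b4, pgrp_ne := b5, cent_ne := b6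
      pdvd := b7, q_ne := b8, swap := Cfsg.Agent.Lib.Helper60_MX_A8.ctx_swap h hS }


theorem ctx_false (h : Ctx G p a Q x) : False := by
  have hC : UConj G p a := Cfsg.Agent.Lib.Helper6_MX_A4.conj_ctx
  have hF : UFacts G p a := facts
  have F := hF Q x h
  by_cases hI : HI p Q
  · -- Case I
    have hD1 := Cfsg.Agent.Lib.Helper47_MX_D1.caseI_cent hF
    have hD2 := Cfsg.Agent.Lib.Helper47_MX_D2.caseI_TI hF hD1
    have hD3 := Cfsg.Agent.Lib.Helper47_MX_D3.caseI_central hF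
    have hD4 := Cfsg.Agent.Lib.Helper47_MX_D4.caseI_Cw hF hD3
    have h5a := Cfsg.Agent.Lib.Helper58_MX_D5A.caseI_prod hC hF hD1 hD2
    have h5b1 := Cfsg.Agent.Lib.Helper43_MX_D5B1.caseI_noinv hF hD3 hD4
    have h5b2 := Cfsg.Agent.Lib.Helper52_MX_D5B2.caseI_real hC hF hD1 hD4 h5b1
    exact Cfsg.Agent.Lib.Helper9_MX_D5C.caseI_false hF h5a h5b2 Q x h hI
  · -- Case II
    have hII : HII p Q := by
      intro w hw hc
      by_contra hne
      exact hI ⟨w, hne, hw, hc⟩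
    have hR := Cfsg.Agent.Lib.Helper41_MX_E1.rstar hF
    by_cases hO : ∀ t ∈ Q, t ≠ 1 → ∀ g : G, g * t = t * g → IsPEl p g → g = 1
    · -- CIT
      have hcit : HCit Q := by
        intro t ht ht1 g hg
        obtain ⟨hOp, hdec⟩ := F.ot t ht ht1
        obtain ⟨o, ho, v, hv, rfl⟩ := hdec g hg
        have ho1 : o = 1 := by
          have hot : o * t = t * o := by
            have : Op p t ≤ Subgroup.centralizer ({t} : Set G) := by
              rw [Op, Subgroup.closure_le]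
              intro y hy
              rw [SetLike.mem_coe, Subgroup.mem_centralizer_iff]
              intro z hz
              rw [Set.mem_singleton_iff] at hz
              subst hz
              exact hy.1.symm
            have h2 := this ho
            rw [Subgroup.mem_centralizer_iff] at h2
            exact (h2 t rfl).symm
          obtain ⟨k, hk⟩ := hOp ⟨o, ho⟩
          have hk' : o ^ p ^ k = 1 := by
            have := congrArg Subtype.val hk
            simpa using this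
          exact hO t ht ht1 o hot ⟨k, hk'⟩
        rw [ho1, one_mul]
        exact hv
      have hG := Cfsg.Agent.Lib.Helper53_MX_E40.cit_glob hC hF
      have hRe := Cfsg.Agent.Lib.Helper65_MX_E4B.cit_real hF
      have hIC := Cfsg.Agent.Lib.Helper64_MX_E4C.cit_invcount hF hRe
      exact Cfsg.Agent.Lib.Helper79_MX_E4E.cit_arith hF hG (Cfsg.Agent.Lib.Helper79_MX_E4D1.cit_icard hF) (Cfsg.Agent.Lib.Helper69_MX_E4D2.cit_pairs hF (Cfsg.Agent.Lib.Helper24_MX_E4A.cit_prod hF) hIC) (Cfsg.Agent.Lib.Helper65_MX_E4D3.cit_Y hF hRe hIC)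
        Q x h hcit
    · push_neg at hO
      obtain ⟨t, ht, ht1, g, hg, hgp, hg1⟩ := hO
      rcases Nat.lt_or_ge a 3 with ha | ha
      · -- a = 2
        have ha2 : a = 2 := le_antisymm (by omega) h.ha
        have hIv := Cfsg.Agent.Lib.Helper85_MX_E3A.kl_inv hF
        have hNS := Cfsg.Agent.Lib.Helper96_MX_E3B1.kl_nystruct hF hIv (fun l _ H S => Cfsg.Agent.Lib.Helper84_MX_B1.burnside_sub l H S)
        have hCm := Cfsg.Agent.Lib.Helper85_MX_E3B2.kl_comm hF hNS
        have hNC := Cfsg.Agent.Lib.Helper41_MX_E3B4.kl_nocomm hF hR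
        have hNY := Cfsg.Agent.Lib.Helper85_MX_E3B3.kl_ny hF hNS hCm hNC
        have hTI := Cfsg.Agent.Lib.Helper77_MX_E3C.kl_TI hC hF hIv hNY
        have hne : ∃ t ∈ Q, t ≠ 1 ∧ ∃ y ∈ Op p t, y ≠ 1 :=
          ⟨t, ht, ht1, g, Subgroup.subset_closure ⟨hg, hgp⟩, hg1⟩
        exact Cfsg.Agent.Lib.Helper77_MX_E3E.kl_arith hF Q x h ha2 hne (Cfsg.Agent.Lib.Helper64_MX_E3D.kl_bsw hF hIv hTI Q x h hII ha2 hne)
      · -- a ≥ 3
        exact hg1 (Cfsg.Agent.Lib.Helper91_MX_E2C.big_a hF (Cfsg.Agent.Lib.Helper46_MX_E2A.hyper hF hR) (Cfsg.Agent.Lib.Helper46_MX_E2B.vfour hF) Q x h hII ha t ht ht1 g hg hgp)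


universe u

theorem main_aux : ∀ n : ℕ, ∀ (G : Type u) [Group G] [Finite G], Nat.card G = n →
    ∀ p q : ℕ, p.Prime → q.Prime → p ≠ q → p ≠ 2 → Hyp G p q →
    ∀ r : ℕ, r.Prime → r ∣ Nat.card G → r = p ∨ r = q := by
  intro n
  induction n using Nat.strong_induction_on with
  | _ n ih =>
  intro G _ _ hn p q hp hq hpq hp2 hyp r hr hrG
  by_contra hcon
  rw [not_or] at hcon
  obtain ⟨hpG, hqG, hmix, hlarge⟩ := hyp
  haveI : Fact q.Prime := ⟨hq⟩
  haveI : Fact p.Prime := ⟨hp⟩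
  have hrs : ∀ (U R : Subgroup G) (r : ℕ), r.Prime → r ≠ p → r ≠ q → IsPGroup q U → U ≠ ⊥ →
      IsPGroup r R → R ≠ ⊥ →
      (U ≤ Subgroup.normalizer (R : Set G) ∨ R ≤ Subgroup.normalizer (U : Set G)) → False :=
    fun U R r hr hrp hrq hU hU1 hR hR1 hn =>
      Cfsg.Agent.Lib.Helper24_MX_F1.mix_rs hp hq hpq hpG hmix U R r hr hrp hrq hU hU1 hR hR1 hn
  have hnc : ∀ N : Subgroup G, N.Normal → ∀ Qs : Sylow q G,
      N.IsComplement' (Qs : Subgroup G) → False :=
    fun N hN Qs hc => Cfsg.Agent.Lib.Helper42_MX_F2A.no_compl hp hpq hpG hqG hrs r hr hrG hcon.1 hcon.2 Qs N hN hc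
  have Qs : Sylow q G := default
  obtain ⟨U, hUQ, g, hgN, hgp, hgC⟩ := Cfsg.Agent.Lib.Helper64_MX_F2B.frob_step hp hpq hpG hqG hrs hnc Qs
  set A := (Nat.card G).factorization q with hA
  have hQsc : Nat.card (Qs : Subgroup G) = q ^ A := Sylow.card_eq_multiplicity Qs
  obtain ⟨k, hkA, hUk⟩ : ∃ k, k ≤ A ∧ Nat.card U = q ^ k := by
    have hdvd : Nat.card U ∣ q ^ A := hQsc ▸ Subgroup.card_dvd_of_le hUQ
    obtain ⟨k, hk, hk'⟩ := (Nat.dvd_prime_pow hq).1 hdvd
    exact ⟨k, hk, hk'⟩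
  have hpA : q ^ A - 1 ≤ p := by
    rcases hlarge with h | h
    · exact h.le
    · exact h.1.ge
  obtain ⟨hpe, hk, hfree⟩ := Cfsg.Agent.Lib.Helper42_MX_F3.arith_step hp hq hpq U k hUk g hgN hgp hgC A hkA hpA
  have hab : ∀ P : Sylow p G, IsMulCommutative P := by
    rcases hlarge with h | h
    · omega
    · exact h.2
  have hA1 : 1 ≤ A := by
    have : 0 < A := (hq.factorization_pos_of_dvd Nat.card_pos.ne' hqG)
    exact this
  have hp3 : 3 ≤ p := by
    have := hp.two_le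
    omega
  have hqA : q ^ A = p + 1 := by
    have : 1 ≤ q ^ A := Nat.one_le_pow _ _ hq.pos
    omega
  have hq2 : q = 2 := by
    have hodd : ¬ 2 ∣ p := by
      intro h2
      exact hp2 ((Nat.prime_dvd_prime_iff_eq Nat.prime_two hp).1 h2).symm
    have h2 : 2 ∣ q ^ A := by
      rw [hqA]
      omega
    have := (Nat.Prime.dvd_of_dvd_pow Nat.prime_two h2)
    exact ((Nat.prime_dvd_prime_iff_eq Nat.prime_two hq).1 this).symm
  subst hq2
  have hA2 : 2 ≤ A := by
    by_contra hlt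
    have : A = 1 := by omega
    rw [this] at hqA
    omega
  have h0 : Ctx0 G p A U g :=
    { hp := hp, hp2 := hp2, ha := hA2, hpa := hqA.symm, cardQ := hk ▸ hUk, sylQ := hA.symm
      xN := hgN, xp := hgp, xfree := hfree }
  have habel : ∀ H : Subgroup G, IsPGroup p H → ∀ g ∈ H, ∀ h ∈ H, g * h = h * g := by
    intro H hH g hg h hh
    obtain ⟨P, hP⟩ := hH.exists_le_sylow
    have hc := hab P
    have := hc.is_comm.comm (⟨g, hP hg⟩ : P) ⟨h, hP hh⟩
    exact congrArg Subtype.val this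
  have heven : ∀ H : Subgroup G, H ≠ ⊤ → 2 ∣ Nat.card H → TwoP p (Nat.card H) := by
    intro H hH h2 s hs hsH
    by_cases hH2 : IsPGroup 2 H
    · left
      obtain ⟨m, hm⟩ := (IsPGroup.iff_card).1 hH2
      rw [hm] at hsH
      exact (Nat.prime_dvd_prime_iff_eq hs Nat.prime_two).1 (hs.dvd_of_dvd_pow hsH)
    · have hypH := Cfsg.Agent.Lib.Helper90_MX_F4.hyp_sub hp hq ⟨hpG, hqG, hmix, hlarge⟩ H hH h2 hH2
      have hlt : Nat.card H < n := by
        rw [← hn]
        have hle := Subgroup.card_le_card_group H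
        rcases hle.lt_or_eq with h | h
        · exact h
        · exact absurd ((Subgroup.card_eq_iff_eq_top H).1 h) hH
      have := ih (Nat.card H) hlt ↥H rfl p 2 hp hq hpq hp2 hypH s hs hsH
      tauto
  have hbig : ¬ TwoP p (Nat.card G) := by
    intro h
    rcases h r hr hrG with h | h
    · exact hcon.2 h
    · exact hcon.1 h
  have hquot : ∀ K : Subgroup G, K.Normal → K ≠ ⊥ → IsPGroup p K →
      TwoP p (Nat.card (G ⧸ K)) := by
    intro K hKn hK1 hKp
    haveI := hKn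
    have hKtop : K ≠ ⊤ := by
      intro hK
      apply hbig
      intro s hs hsd
      right
      obtain ⟨m, hm⟩ := (IsPGroup.iff_card).1 hKp
      rw [hK, Subgroup.card_top] at hm
      rw [hm] at hsd
      exact (Nat.prime_dvd_prime_iff_eq hs hp).1 (hs.dvd_of_dvd_pow hsd)
    have hypQ := Cfsg.Agent.Lib.Helper90_MX_F5.hyp_quot h0 heven habel K hKtop hKp
    have hlt : Nat.card (G ⧸ K) < n := by
      rw [← hn, ← Subgroup.index_eq_card, ← Subgroup.index_mul_card K]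
      have hK2 : 2 ≤ Nat.card K := by
        have := (Subgroup.one_lt_card_iff_ne_bot K).2 hK1
        omega
      have : 0 < K.index := Nat.pos_of_ne_zero (Subgroup.index_ne_zero_of_finite)
      nlinarith
    intro s hs hsd
    have := ih (Nat.card (G ⧸ K)) hlt (G ⧸ K) rfl p 2 hp hq hpq hp2 hypQ s hs hsd
    tauto
  have hsimple : ∀ N : Subgroup G, N.Normal → N = ⊥ ∨ N = ⊤ := by
    intro N hN
    by_cases hN2 : 2 ∣ Nat.card N
    · right
      exact Cfsg.Agent.Lib.Helper61_MX_F6A.simple_even h0 (Cfsg.Agent.Lib.Helper65_MX_A1.x_trans h0) (Cfsg.Agent.Lib.Helper6_MX_A3.q_syl h0).1 heven hbig hrs N hN hN2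
    · left
      by_contra hN1
      have hNp := Cfsg.Agent.Lib.Helper61_MX_F6B.simple_odd h0 hrs N hN hN2
      have hq' := hquot N hN hN1 hNp
      apply hbig
      intro s hs hsd
      rw [← Subgroup.index_mul_card N, Subgroup.index_eq_card] at hsd
      rcases (Nat.Prime.dvd_mul hs).1 hsd with h | h
      · exact hq' s hs h
      · right
        obtain ⟨m, hm⟩ := (IsPGroup.iff_card).1 hNp
        rw [hm] at h
        exact (Nat.prime_dvd_prime_iff_eq hs hp).1 (hs.dvd_of_dvd_pow h)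
  exact ctx_false
    { toCtx0 := h0, simple := hsimple, even := heven, abel := habel, big := hbig }


end Cfsg.Agent.Lib.Helper6_MXMain
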