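import Mathlib
import Cfsg.Agent.Lib.Helper48_ZTransfer
import Cfsg.Agent.Lib.Helper25_Dade
import Cfsg.Prelude.Def_SporadicB

set_option autoImplicit false

namespace Cfsg.Agent.Helper6NS

open Equiv Equiv.Perm

/-- An involution of `A_n`, `n ≤ 7`, has cycle type `{2, 2}`. -/
theorem cycleType_of_involution {n : ℕ} (hn : n ≤ 7) (t : Perm (Fin n)) (ht2 : t * t = 1)
    (ht1 : t ≠ 1) (hs : Perm.sign t = 1) : t.cycleType = Multiset.replicate 2 2 := by
  have hord : orderOf t = 2 := orderOf_eq_prime (by rw [pow_two]; exact ht2) ht1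
  obtain ⟨k, hk⟩ := Perm.cycleType_prime_order (σ := t) (by rw [hord]; exact Nat.prime_two)
  rw [hord] at hk
  have hsum : (Multiset.replicate (k + 1) 2).sum ≤ n := by
    rw [← hk, Perm.sum_cycleType]
    calc t.support.card ≤ Fintype.card (Fin n) := Finset.card_le_univ _
      _ = n := Fintype.card_fin n
  rw [Multiset.sum_replicate, smul_eq_mul] at hsum
  have hsign := Perm.sign_of_cycleType t
  rw [hs, hk, Multiset.sum_replicate, Multiset.card_replicate, smul_eq_mul] at hsign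
  have hev : Even (k + 1) := by
    by_contra hodd
    rw [Nat.not_even_iff_odd] at hodd
    have h1 : Odd ((k + 1) * 2 + (k + 1)) := by
      obtain ⟨q, hq⟩ := hodd
      exact ⟨3 * q + 1, by omega⟩
    rw [h1.neg_one_pow] at hsign
    exact absurd hsign (by decide)
  obtain ⟨q, hq⟩ := hev
  have : k + 1 = 2 := by omega
  rw [hk, this]

/-- Two involutions of `A_n`, `n ≤ 7`, are conjugate under `A_n`. -/
theorem exists_even_conj {n : ℕ} (hn : n ≤ 7) (t t' : Perm (Fin n)) (ht2 : t * t = 1)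
    (ht1 : t ≠ 1) (hs : Perm.sign t = 1) (ht2' : t' * t' = 1) (ht1' : t' ≠ 1)
    (hs' : Perm.sign t' = 1) : ∃ g : Perm (Fin n), Perm.sign g = 1 ∧ g * t * g⁻¹ = t' := by
  have h1 := cycleType_of_involution hn t ht2 ht1 hs
  have h2 := cycleType_of_involution hn t' ht2' ht1' hs'
  have hc : IsConj t t' := by rw [Perm.isConj_iff_cycleType_eq, h1, h2]
  obtain ⟨g, hg⟩ := isConj_iff.mp hc
  rcases Int.units_eq_one_or (Perm.sign g) with h | h
  · exact ⟨g, h, hg⟩
  · -- find an odd permutation commuting with t'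
    have h3 : (2 : ℕ) ∈ t'.cycleType := by rw [h2]; simp
    rw [Perm.cycleType_def, Multiset.mem_map] at h3
    obtain ⟨c, hc1, hc2⟩ := h3
    have hc1' : c ∈ t'.cycleFactorsFinset := hc1
    have hswap : c.IsSwap := Perm.card_support_eq_two.mp hc2
    have hcomm : Commute c t' := Perm.self_mem_cycle_factors_commute hc1'
    refine ⟨c * g, ?_, ?_⟩
    · rw [map_mul, hswap.sign_eq, h]; decide
    · rw [mul_inv_rev]
      calc c * g * t * (g⁻¹ * c⁻¹) = c * (g * t * g⁻¹) * c⁻¹ := by group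
        _ = c * t' * c⁻¹ := by rw [hg]
        _ = t' := by rw [hcomm.eq, mul_assoc, mul_inv_cancel, mul_one]

/-- Existence of an involution in `A_n`, `n ≤ 7`, forces `4 ≤ n`. -/
theorem four_le_of_involution {n : ℕ} (hn : n ≤ 7) (t : Perm (Fin n)) (ht2 : t * t = 1)
    (ht1 : t ≠ 1) (hs : Perm.sign t = 1) : 4 ≤ n := by
  have h1 := cycleType_of_involution hn t ht2 ht1 hs
  have h2 : t.cycleType.sum = 4 := by rw [h1]; rfl
  rw [Perm.sum_cycleType] at h2
  calc 4 = t.support.card := h2.symm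
    _ ≤ Fintype.card (Fin n) := Finset.card_le_univ _
    _ = n := Fintype.card_fin n

/-- Elements of the subgroup generated by two involutions. -/
theorem mem_closure_pair {G : Type*} [Group G] {a b : G} (ha : a * a = 1) (hb : b * b = 1)
    {g : G} (hg : g ∈ Subgroup.closure ({a, b} : Set G)) :
    ∃ i : ℤ, g = (a * b) ^ i ∨ g = (a * b) ^ i * a := by
  have hainv : a⁻¹ = a := inv_eq_of_mul_eq_one_right ha
  have hbinv : b⁻¹ = b := inv_eq_of_mul_eq_one_right hb
  have hconj : a * (a * b) * a⁻¹ = (a * b)⁻¹ := by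
    rw [mul_inv_rev, hainv, hbinv, ← mul_assoc, ha, one_mul]
  have hmove : ∀ k : ℤ, a * (a * b) ^ k = (a * b) ^ (-k) * a := by
    intro k
    have := conj_zpow (a := a) (b := a * b) (i := k)
    rw [hconj, inv_zpow, ← zpow_neg] at this
    rw [this, inv_mul_cancel_right]
  induction hg using Subgroup.closure_induction with
  | mem x hx =>
    rcases hx with rfl | hx
    · exact ⟨0, Or.inr (by simp)⟩
    · rw [Set.mem_singleton_iff] at hx
      subst hx
      refine ⟨-1, Or.inr ?_⟩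
      rw [zpow_neg, zpow_one, mul_inv_rev, hainv, hbinv, mul_assoc, ha, mul_one]
  | one => exact ⟨0, Or.inl (by simp)⟩
  | mul x y _ _ hx hy =>
    obtain ⟨i, hi | hi⟩ := hx <;> obtain ⟨k, hk | hk⟩ := hy
    · exact ⟨i + k, Or.inl (by rw [hi, hk, zpow_add])⟩
    · exact ⟨i + k, Or.inr (by rw [hi, hk, zpow_add, mul_assoc])⟩
    · refine ⟨i - k, Or.inr ?_⟩
      rw [hi, hk, mul_assoc, hmove, ← mul_assoc, ← zpow_add, sub_eq_add_neg]
    · refine ⟨i - k, Or.inl ?_⟩
      rw [hi, hk, mul_assoc, ← mul_assoc a, hmove, mul_assoc, ha, mul_one, ← zpow_add,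
        sub_eq_add_neg]
  | inv x _ hx =>
    obtain ⟨i, hi | hi⟩ := hx
    · exact ⟨-i, Or.inl (by rw [hi, zpow_neg])⟩
    · refine ⟨i, Or.inr ?_⟩
      rw [hi, mul_inv_rev, hainv, ← zpow_neg, hmove, neg_neg]

/-- Main transfer step: if involution lifts are involutions and the image contains a suitable
dihedral (or Klein four) subgroup, there is a subgroup of index two avoiding `z`. -/
theorem exists_index_two {H : Type*} [Group H] [Finite H] {K : Type*} [Group K]
    (ψ : H →* K) (z : H) (hz1 : z ≠ 1) (hzz : z * z = 1) (hzc : z ∈ Subgroup.center H)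
    (hψz : ψ z = 1)
    (hlift : ∀ y : H, ψ y ≠ 1 → ψ y * ψ y = 1 → y * y = 1)
    (j : ℕ) (a b : H) (hα : ψ a ≠ 1) (hα2 : ψ a * ψ a = 1) (hβ : ψ b ≠ 1)
    (hβ2 : ψ b * ψ b = 1) (hρ1 : (ψ a * ψ b) ^ (2 ^ j) ≠ 1)
    (hρ2 : (ψ a * ψ b) ^ (2 ^ (j + 1)) = 1) (hαρ : ∀ i : ℤ, (ψ a * ψ b) ^ i ≠ ψ a)
    (k : ℕ) (hk : Odd k) (hcard : Nat.card H = 2 ^ (j + 3) * k) :
    ∃ L : Subgroup H, L.index = 2 ∧ z ∉ L := by
  have ha : a * a = 1 := hlift a hα hα2
  have hb : b * b = 1 := hlift b hβ hβ2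
  set r := a * b with hr
  have hψr : ψ r = ψ a * ψ b := map_mul ψ a b
  -- r ^ (2 ^ (j+1)) = 1
  have hr1 : r ^ (2 ^ j) ≠ 1 := by
    intro h
    apply hρ1
    rw [← hψr, ← map_pow, h, map_one]
  have hr2 : r ^ (2 ^ (j + 1)) = 1 := by
    have h1 : ψ (r ^ (2 ^ j)) ≠ 1 := by rw [map_pow, hψr]; exact hρ1
    have h2 : ψ (r ^ (2 ^ j)) * ψ (r ^ (2 ^ j)) = 1 := by
      rw [map_pow, hψr, ← pow_two, ← pow_mul, ← pow_succ]; exact hρ2
    have := hlift _ h1 h2
    rw [pow_succ, pow_mul, pow_two]; exact this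
  have hordr : orderOf r = 2 ^ (j + 1) := orderOf_eq_prime_pow hr1 hr2
  have hordρ : orderOf (ψ a * ψ b) = 2 ^ (j + 1) := orderOf_eq_prime_pow hρ1 hρ2
  set D := Subgroup.closure ({a, b} : Set H) with hD
  have hDmem : ∀ g ∈ D, ∃ i : ℤ, g = r ^ i ∨ g = r ^ i * a := fun g hg => mem_closure_pair ha hb hg
  have haD : a ∈ D := Subgroup.subset_closure (by simp)
  have hbD : b ∈ D := Subgroup.subset_closure (by simp)
  have hrD : r ∈ D := D.mul_mem haD hbD
  -- z ∉ D
  have hzD : z ∉ D := by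
    intro hz
    obtain ⟨i, hi | hi⟩ := hDmem z hz
    · have h1 : (ψ a * ψ b) ^ i = 1 := by rw [← hψr, ← map_zpow, ← hi, hψz]
      have h2 : (orderOf (ψ a * ψ b) : ℤ) ∣ i := orderOf_dvd_iff_zpow_eq_one.mpr h1
      rw [hordρ, ← hordr] at h2
      have h3 : r ^ i = 1 := orderOf_dvd_iff_zpow_eq_one.mp h2
      exact hz1 (hi.trans h3)
    · have h1 : (ψ a * ψ b) ^ i * ψ a = 1 := by rw [← hψr, ← map_zpow, ← map_mul, ← hi, hψz]
      have h2 : (ψ a * ψ b) ^ (-i) = ψ a := by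
        rw [zpow_neg, inv_eq_iff_eq_inv]
        exact (eq_inv_of_mul_eq_one_left h1)
      exact hαρ _ h2
  -- a ∉ zpowers r
  have haZ : a ∉ Subgroup.zpowers r := by
    intro h
    obtain ⟨i, hi⟩ := Subgroup.mem_zpowers_iff.mp h
    apply hαρ i
    rw [← hψr, ← map_zpow, hi]
  -- D is a 2-group
  have hainv : a⁻¹ = a := inv_eq_of_mul_eq_one_right ha
  have hDp : IsPGroup 2 D := by
    rintro ⟨g, hg⟩
    obtain ⟨i, hi | hi⟩ := hDmem g hg
    · refine ⟨j + 1, ?_⟩
      apply Subtype.ext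
      rw [Subgroup.coe_pow, Subgroup.coe_one]
      show g ^ 2 ^ (j + 1) = 1
      rw [hi, ← zpow_natCast, ← zpow_mul, mul_comm, zpow_mul, zpow_natCast, hr2, one_zpow]
    · refine ⟨1, ?_⟩
      apply Subtype.ext
      rw [Subgroup.coe_pow, Subgroup.coe_one]
      show g ^ 2 ^ 1 = 1
      have hconj : a * r * a⁻¹ = r⁻¹ := by
        rw [hr, mul_inv_rev, hainv, inv_eq_of_mul_eq_one_right hb, ← mul_assoc, ha, one_mul]
      have h1 : a * r ^ i * a⁻¹ = (r ^ i)⁻¹ := by
        have := conj_zpow (a := a) (b := r) (i := i)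
        rw [hconj, inv_zpow] at this
        exact this.symm
      rw [pow_one, pow_two, hi]
      calc r ^ i * a * (r ^ i * a) = r ^ i * (a * r ^ i * a⁻¹) * (a * a) := by
            group
        _ = 1 := by rw [h1, ha, mul_inv_cancel, one_mul]
  -- the subgroup Z = ⟨z⟩
  set Z := Subgroup.zpowers z with hZ
  have hordz : orderOf z = 2 := orderOf_eq_prime (by rw [pow_two]; exact hzz) hz1
  have hZcard : Nat.card Z = 2 := by rw [hZ, Nat.card_zpowers, hordz]
  have hZcen : Z ≤ Subgroup.center H := by rw [hZ, Subgroup.zpowers_le]; exact hzc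
  have hZn : Z.Normal := by
    refine ⟨fun n hn g => ?_⟩
    have hc := Subgroup.mem_center_iff.mp (hZcen hn) g
    rw [hc, mul_assoc, mul_inv_cancel, mul_one]
    exact hn
  have hZp : IsPGroup 2 Z := IsPGroup.of_card (n := 1) (by rw [hZcard, pow_one])
  have hZmem : ∀ g ∈ Z, g = 1 ∨ g = z := by
    intro g hg
    obtain ⟨i, rfl⟩ := Subgroup.mem_zpowers_iff.mp hg
    rcases Int.even_or_odd i with ⟨m, hm⟩ | ⟨m, hm⟩
    · left; rw [hm, ← two_mul, zpow_mul, zpow_two, hzz, one_zpow]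
    · right; rw [hm, zpow_add, zpow_one, zpow_mul, zpow_two, hzz, one_zpow, one_mul]
  have hinf : Z ⊓ D = ⊥ := by
    rw [eq_bot_iff]
    rintro g ⟨hg1, hg2⟩
    rcases hZmem g hg1 with h | h
    · exact h
    · exact absurd (h ▸ hg2) hzD
  set P := Z ⊔ D with hP
  have hPp : IsPGroup 2 P := by
    rw [hP, sup_comm]; exact IsPGroup.to_sup_of_normal_right hDp hZp
  have hcompl := Cfsg.Agent.Lib.Helper25_Dade.card_mul_card_of_semidirect P Z D le_sup_left
    le_sup_right (by rw [Subgroup.normalizer_eq_top]; exact le_top) hinf rfl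
  have hMidx : (D.subgroupOf P).index = 2 := by
    rw [hcompl.index_eq_card, Nat.card_congr (Subgroup.subgroupOfEquivOfLe le_sup_left).toEquiv,
      hZcard]
  have hPcard : Nat.card P = 2 * Nat.card D := by
    rw [← hcompl.card_mul_card, Nat.card_congr (Subgroup.subgroupOfEquivOfLe le_sup_left).toEquiv,
      Nat.card_congr (Subgroup.subgroupOfEquivOfLe le_sup_right).toEquiv, hZcard]
  -- lower bound for card D
  have hDge : 2 * 2 ^ (j + 1) ≤ Nat.card D := by
    have hle : Subgroup.zpowers r ≤ D := by rw [Subgroup.zpowers_le]; exact hrD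
    have hdvd : Nat.card (Subgroup.zpowers r) ∣ Nat.card D := Subgroup.card_dvd_of_le hle
    rw [Nat.card_zpowers, hordr] at hdvd
    obtain ⟨q, hq⟩ := hdvd
    have hq0 : q ≠ 0 := by
      rintro rfl
      rw [mul_zero] at hq
      exact Nat.card_pos.ne' hq
    have hq1 : q ≠ 1 := by
      rintro rfl
      rw [mul_one] at hq
      have : Subgroup.zpowers r = D := by
        apply Subgroup.eq_of_le_of_card_ge hle
        rw [Nat.card_zpowers, hordr, hq]
      exact haZ (this ▸ haD)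
    rw [hq]
    have : 2 ≤ q := by omega
    calc 2 * 2 ^ (j + 1) = 2 ^ (j + 1) * 2 := by ring
      _ ≤ 2 ^ (j + 1) * q := Nat.mul_le_mul_left _ this
  -- card P = 2 ^ (j + 3)
  obtain ⟨e, he⟩ := IsPGroup.iff_card.mp hPp
  have hdvdH : 2 ^ e ∣ 2 ^ (j + 3) * k := by
    rw [← hcard, ← he]; exact Subgroup.card_subgroup_dvd_card P
  have hcop : Nat.Coprime (2 ^ e) k := by
    apply Nat.Coprime.pow_left
    rw [Nat.coprime_two_left]; exact hk
  have hdvd2 : 2 ^ e ∣ 2 ^ (j + 3) := hcop.dvd_of_dvd_mul_right hdvdH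
  have hle2 : 2 ^ e ≤ 2 ^ (j + 3) := Nat.le_of_dvd (by positivity) hdvd2
  have hge2 : 2 ^ (j + 3) ≤ 2 ^ e := by
    rw [← he, hPcard]
    calc 2 ^ (j + 3) = 2 * (2 * 2 ^ (j + 1)) := by ring
      _ ≤ 2 * Nat.card D := Nat.mul_le_mul_left _ hDge
  have hPc : Nat.card P = 2 ^ (j + 3) := by rw [he]; exact le_antisymm hle2 hge2
  have hPidx : P.index = k := by
    have := Subgroup.card_mul_index P
    rw [hPc, hcard] at this
    exact Nat.eq_of_mul_eq_mul_left (by positivity) this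
  have hodd : ¬ 2 ∣ P.index := by
    rw [hPidx]; exact hk.not_two_dvd_nat
  have hzP : z ∈ P := (le_sup_left : Z ≤ P) (Subgroup.mem_zpowers z)
  have hzM : (⟨z, hzP⟩ : P) ∉ D.subgroupOf P := by
    rw [Subgroup.mem_subgroupOf]; exact hzD
  have hzcent : z ∈ Subgroup.centralizer (P : Set H) := by
    rw [Subgroup.mem_centralizer_iff]
    intro g _
    exact (Subgroup.mem_center_iff.mp hzc g)
  exact Cfsg.Agent.Lib.Helper48_ZTransfer.exists_index_two_of_central_involution P hPp hodd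
    (D.subgroupOf P) hMidx z hzP hzM hzcent (by rw [pow_two]; exact hzz)
    (fun g _ => by rw [mul_assoc, ← Subgroup.mem_center_iff.mp hzc g, ← mul_assoc,
      inv_mul_cancel, one_mul])


/-- Core step: with suitable concrete involutions `α, β` of `A_n`, a non-central involution in a
double cover of `A_n` produces a complement of the centre. -/
theorem core {n : ℕ} (hn : n ≤ 7) {H : Type*} [Group H] [Finite H]
    (hc2 : Nat.card (Subgroup.center H) = 2)
    (e : H ⧸ Subgroup.center H ≃* alternatingGroup (Fin n))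
    (x : H) (hx : orderOf x = 2) (hxc : x ∉ Subgroup.center H)
    (hdata : 4 ≤ n → ∃ (α β : Perm (Fin n)) (j k : ℕ), Perm.sign α = 1 ∧ Perm.sign β = 1 ∧
      α ≠ 1 ∧ α * α = 1 ∧ β ≠ 1 ∧ β * β = 1 ∧ (α * β) ^ (2 ^ j) ≠ 1 ∧
      (α * β) ^ (2 ^ (j + 1)) = 1 ∧ (∀ i : ℕ, i < 2 ^ (j + 1) → (α * β) ^ i ≠ α) ∧ Odd k ∧
      n.factorial = 2 ^ (j + 3) * k) :
    ∃ L : Subgroup H, (Subgroup.center H).IsComplement' L := by
  classical
  set Z := Subgroup.center H with hZ
  -- the projection to Perm (Fin n)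
  let ψ0 : H →* alternatingGroup (Fin n) := e.toMonoidHom.comp (QuotientGroup.mk' Z)
  let ψ : H →* Perm (Fin n) := (alternatingGroup (Fin n)).subtype.comp ψ0
  have hψ0surj : Function.Surjective ψ0 := by
    intro g
    obtain ⟨q, rfl⟩ := e.surjective g
    obtain ⟨h, rfl⟩ := QuotientGroup.mk'_surjective Z q
    exact ⟨h, rfl⟩
  have hψker : ∀ h, ψ h = 1 ↔ h ∈ Z := by
    intro h
    show ((ψ0 h : alternatingGroup (Fin n)) : Perm (Fin n)) = 1 ↔ _
    rw [← Subgroup.coe_one, Subtype.coe_inj]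
    show e (QuotientGroup.mk' Z h) = 1 ↔ _
    rw [MulEquiv.map_eq_one_iff, QuotientGroup.mk'_apply, QuotientGroup.eq_one_iff]
  have hψsign : ∀ h, Perm.sign (ψ h) = 1 := fun h => Perm.mem_alternatingGroup.mp (ψ0 h).2
  have hψsurj : ∀ g : Perm (Fin n), Perm.sign g = 1 → ∃ h, ψ h = g := by
    intro g hg
    obtain ⟨h, hh⟩ := hψ0surj ⟨g, Perm.mem_alternatingGroup.mpr hg⟩
    exact ⟨h, by show ((ψ0 h : alternatingGroup (Fin n)) : Perm (Fin n)) = g; rw [hh]⟩
  -- the central involution z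
  obtain ⟨⟨z, hzZ⟩, hz1', huniq⟩ := (Nat.card_eq_two_iff' (1 : Z)).mp hc2
  have hz1 : z ≠ 1 := fun h => hz1' (Subtype.ext h)
  have hZmem : ∀ h ∈ Z, h = 1 ∨ h = z := by
    intro h hh
    by_cases h1 : h = 1
    · exact Or.inl h1
    · right
      have := huniq ⟨h, hh⟩ (fun h2 => h1 (congrArg Subtype.val h2))
      exact congrArg Subtype.val this
  have hzz : z * z = 1 := by
    rcases hZmem (z * z) (Z.mul_mem hzZ hzZ) with h | h
    · exact h
    · exact absurd (mul_left_cancel (a := z) (h.trans (mul_one z).symm)) hz1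
  have hψz : ψ z = 1 := (hψker z).mpr hzZ
  -- the involution t = ψ x
  have hxx : x * x = 1 := by rw [← pow_two, ← hx, pow_orderOf_eq_one]
  have ht1 : ψ x ≠ 1 := fun h => hxc ((hψker x).mp h)
  have ht2 : ψ x * ψ x = 1 := by rw [← map_mul, hxx, map_one]
  -- lifting principle
  have hlift : ∀ y : H, ψ y ≠ 1 → ψ y * ψ y = 1 → y * y = 1 := by
    intro y hy1 hy2
    obtain ⟨g, hgs, hg⟩ := exists_even_conj hn (ψ x) (ψ y) ht2 ht1 (hψsign x) hy2 hy1 (hψsign y)
    obtain ⟨g', rfl⟩ := hψsurj g hgs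
    have h1 : ψ ((g' * x * g'⁻¹)⁻¹ * y) = 1 := by
      rw [map_mul, map_inv, map_mul, map_mul, map_inv, hg, inv_mul_cancel]
    have hyy' : (g' * x * g'⁻¹) * (g' * x * g'⁻¹) = 1 := by
      calc (g' * x * g'⁻¹) * (g' * x * g'⁻¹) = g' * (x * x) * g'⁻¹ := by group
        _ = 1 := by rw [hxx, mul_one, mul_inv_cancel]
    rcases hZmem _ ((hψker _).mp h1) with h | h
    · have : y = g' * x * g'⁻¹ := by
        rw [inv_mul_eq_one] at h; exact h.symm
      rw [this]; exact hyy'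
    · have : y = (g' * x * g'⁻¹) * z := by
        rw [inv_mul_eq_iff_eq_mul] at h; exact h
      rw [this]
      have hzc := Subgroup.mem_center_iff.mp hzZ
      set w := g' * x * g'⁻¹ with hw
      calc w * z * (w * z) = w * (z * w) * z := by group
        _ = w * (w * z) * z := by rw [← hzc w]
        _ = (w * w) * (z * z) := by group
        _ = 1 := by rw [hyy', hzz, one_mul]
  -- card H
  have h4 : 4 ≤ n := four_le_of_involution hn (ψ x) ht2 ht1 (hψsign x)
  obtain ⟨α, β, j, k, hαs, hβs, hα, hα2, hβ, hβ2, hρ1, hρ2, hαρ, hk, hnum⟩ := hdata h4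
  have hcardH : Nat.card H = 2 ^ (j + 3) * k := by
    have h1 := Subgroup.card_eq_card_quotient_mul_card_subgroup Z
    rw [hc2, Nat.card_congr e.toEquiv] at h1
    have : Nontrivial (Fin n) := Fin.nontrivial_iff_two_le.mpr (by omega)
    have h2 : 2 * Nat.card (alternatingGroup (Fin n)) = n.factorial := by
      rw [Nat.card_eq_fintype_card, two_mul_card_alternatingGroup, Fintype.card_perm,
        Fintype.card_fin]
    rw [h1, mul_comm, h2, hnum]
  -- lifts of α and β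
  obtain ⟨a, rfl⟩ := hψsurj α hαs
  obtain ⟨b, rfl⟩ := hψsurj β hβs
  have hordρ : orderOf (ψ a * ψ b) = 2 ^ (j + 1) := orderOf_eq_prime_pow hρ1 hρ2
  have hαρ' : ∀ i : ℤ, (ψ a * ψ b) ^ i ≠ ψ a := by
    intro i hi
    have h1 := zpow_mod_orderOf (ψ a * ψ b) i
    rw [hordρ] at h1
    have hpos : (0 : ℤ) < ((2 ^ (j + 1) : ℕ) : ℤ) := by positivity
    have h2 : 0 ≤ i % ((2 ^ (j + 1) : ℕ) : ℤ) := Int.emod_nonneg _ hpos.ne'
    have h3 : i % ((2 ^ (j + 1) : ℕ) : ℤ) < ((2 ^ (j + 1) : ℕ) : ℤ) := Int.emod_lt_of_pos _ hpos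
    obtain ⟨m, hm⟩ := Int.eq_ofNat_of_zero_le h2
    rw [hm] at h1 h3
    rw [zpow_natCast] at h1
    exact hαρ m (by exact_mod_cast h3) (h1.trans hi)
  obtain ⟨L, hL2, hzL⟩ := exists_index_two ψ z hz1 hzz hzZ hψz hlift j a b hα hα2 hβ hβ2 hρ1 hρ2
    hαρ' k hk hcardH
  refine ⟨L, ?_⟩
  apply Subgroup.isComplement'_of_card_mul_and_disjoint
  · rw [hc2, ← hL2, mul_comm, Subgroup.card_mul_index]
  · rw [Subgroup.disjoint_def]
    intro g hgZ hgL
    rcases hZmem g hgZ with h | h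
    · exact h
    · exact absurd (h ▸ hgL) hzL

/-- The concrete dihedral / Klein four data in `A_n`, `4 ≤ n ≤ 7`. -/
theorem data (n : ℕ) (h4 : 4 ≤ n) (hn : n ≤ 7) :
    ∃ (α β : Perm (Fin n)) (j k : ℕ), Perm.sign α = 1 ∧ Perm.sign β = 1 ∧
      α ≠ 1 ∧ α * α = 1 ∧ β ≠ 1 ∧ β * β = 1 ∧ (α * β) ^ (2 ^ j) ≠ 1 ∧
      (α * β) ^ (2 ^ (j + 1)) = 1 ∧ (∀ i : ℕ, i < 2 ^ (j + 1) → (α * β) ^ i ≠ α) ∧ Odd k ∧
      n.factorial = 2 ^ (j + 3) * k := by
  interval_cases n
  · refine ⟨swap 0 1 * swap 2 3, swap 0 2 * swap 1 3, 0, 3, ?_, ?_, ?_, ?_, ?_, ?_, ?_, ?_, ?_, ?_, ?_⟩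
    · simp [Perm.sign_mul, Perm.sign_swap']
    · simp [Perm.sign_mul, Perm.sign_swap']
    all_goals decide
  · refine ⟨swap 0 1 * swap 2 3, swap 0 2 * swap 1 3, 0, 15, ?_, ?_, ?_, ?_, ?_, ?_, ?_, ?_, ?_, ?_, ?_⟩
    · simp [Perm.sign_mul, Perm.sign_swap']
    · simp [Perm.sign_mul, Perm.sign_swap']
    all_goals decide
  · refine ⟨swap 0 1 * swap 4 5, swap 0 2 * swap 1 3, 1, 45, ?_, ?_, ?_, ?_, ?_, ?_, ?_, ?_, ?_, ?_, ?_⟩
    · simp [Perm.sign_mul, Perm.sign_swap']
    · simp [Perm.sign_mul, Perm.sign_swap']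
    all_goals decide
  · refine ⟨swap 0 1 * swap 4 5, swap 0 2 * swap 1 3, 1, 315, ?_, ?_, ?_, ?_, ?_, ?_, ?_, ?_, ?_, ?_, ?_⟩
    · simp [Perm.sign_mul, Perm.sign_swap']
    · simp [Perm.sign_mul, Perm.sign_swap']
    all_goals decide

/-- In a non-split double cover of `A_n`, `n ≤ 7`, every involution is central. -/
theorem mem_center_of_involution (n : ℕ) (hn : n ≤ 7) {H : Type*} [Group H] [Finite H]
    (hns : Cfsg.IsNonsplitDoubleCover H (alternatingGroup (Fin n))) (x : H)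
    (hx : orderOf x = 2) : x ∈ Subgroup.center H := by
  by_contra hxc
  obtain ⟨hc2, ⟨e⟩, hno⟩ := hns
  obtain ⟨L, hL⟩ := core hn hc2 e x hx hxc (fun h4 => data n h4 hn)
  exact hno L hL

/-- In a non-split double cover of `A_n`, `n ≤ 7`, there is a unique involution. -/
theorem involution_unique (n : ℕ) (hn : n ≤ 7) {H : Type*} [Group H] [Finite H]
    (hns : Cfsg.IsNonsplitDoubleCover H (alternatingGroup (Fin n))) (x y : H)
    (hx : orderOf x = 2) (hy : orderOf y = 2) : x = y := by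
  have hxc := mem_center_of_involution n hn hns x hx
  have hyc := mem_center_of_involution n hn hns y hy
  obtain ⟨⟨z, hzZ⟩, hz1', huniq⟩ := (Nat.card_eq_two_iff' (1 : Subgroup.center H)).mp hns.1
  have hx1 : x ≠ 1 := by
    intro h; rw [h, orderOf_one] at hx; exact absurd hx (by norm_num)
  have hy1 : y ≠ 1 := by
    intro h; rw [h, orderOf_one] at hy; exact absurd hy (by norm_num)
  have h1 := huniq ⟨x, hxc⟩ (fun h => hx1 (congrArg Subtype.val h))
  have h2 := huniq ⟨y, hyc⟩ (fun h => hy1 (congrArg Subtype.val h))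
  exact congrArg Subtype.val (h1.trans h2.symm)



end Cfsg.Agent.Helper6NS
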