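import Mathlib
import Cfsg.Prelude.Def_Classical
import Cfsg.Agent.Lib.Helper94_Symp
import Cfsg.Agent.Lib.Helper94_OrthSmall
import Cfsg.Agent.Lib.Helper94_OrthSiegel

set_option autoImplicit false

/-!
The hyperbolic quadratic form `quadFormPlus m F` in the abstract language of `Helper94_OrthSmall`:
polar form, standard basis, the standard filtration `L k` (coordinate subspaces ordered
`e_0 < … < e_{m-1} < f_{m-1} < … < f_0`) and the flag stabiliser `B0` (helper6, for S2487).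
-/

namespace Cfsg.Agent.Lib.Helper6_OPlusA

open Cfsg.Agent.Lib.Helper94_Symp Cfsg.Agent.Lib.Helper94_OrthSmall
  Cfsg.Agent.Lib.Helper94_OrthSiegel Module

variable {F : Type*} [Field F] {m : ℕ}

/-- The underlying space of column vectors. -/
abbrev VV (m : ℕ) (F : Type*) := Fin m ⊕ Fin m → F

/-- The quadratic form `quadFormPlus`. -/
abbrev Qf (m : ℕ) (F : Type*) [Field F] : VV m F → F := Cfsg.quadFormPlus m F

/-- The polar form of `quadFormPlus`. -/
def Bf (m : ℕ) (F : Type*) [Field F] : LinearMap.BilinForm F (VV m F) :=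
  LinearMap.mk₂ F
    (fun u v => ∑ i : Fin m, (u (.inl i) * v (.inr i) + u (.inr i) * v (.inl i)))
    (fun u u' v => by
      simp only [Pi.add_apply]
      rw [← Finset.sum_add_distrib]
      exact Finset.sum_congr rfl (fun i _ => by ring))
    (fun c u v => by
      simp only [Pi.smul_apply, smul_eq_mul, Finset.mul_sum]
      exact Finset.sum_congr rfl (fun i _ => by ring))
    (fun u v v' => by
      simp only [Pi.add_apply]
      rw [← Finset.sum_add_distrib]
      exact Finset.sum_congr rfl (fun i _ => by ring))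
    (fun c u v => by
      simp only [Pi.smul_apply, smul_eq_mul, Finset.mul_sum]
      exact Finset.sum_congr rfl (fun i _ => by ring))

lemma Bf_apply (u v : VV m F) :
    Bf m F u v = ∑ i : Fin m, (u (.inl i) * v (.inr i) + u (.inr i) * v (.inl i)) := rfl

lemma Qf_apply (v : VV m F) : Qf m F v = ∑ i : Fin m, v (.inl i) * v (.inr i) := rfl

lemma hQs (c : F) (v : VV m F) : Qf m F (c • v) = c * c * Qf m F v := by
  simp only [Qf_apply, Pi.smul_apply, smul_eq_mul, Finset.mul_sum]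
  exact Finset.sum_congr rfl (fun i _ => by ring)

lemma hQp (u v : VV m F) : Qf m F (u + v) = Qf m F u + Qf m F v + Bf m F u v := by
  simp only [Qf_apply, Bf_apply, Pi.add_apply, ← Finset.sum_add_distrib]
  exact Finset.sum_congr rfl (fun i _ => by ring)

lemma Bf_symm (u v : VV m F) : Bf m F u v = Bf m F v u :=
  B_symm (Qf m F) (Bf m F) hQp u v

/-- The basis vector `e_j`. -/
def e (j : Fin m) : VV m F := Pi.single (Sum.inl j) 1

/-- The basis vector `f_j`. -/
def f (j : Fin m) : VV m F := Pi.single (Sum.inr j) 1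

@[simp] lemma e_inl (j i : Fin m) : (e j : VV m F) (.inl i) = if i = j then 1 else 0 := by
  simp [e, Pi.single_apply]

@[simp] lemma e_inr (j i : Fin m) : (e j : VV m F) (.inr i) = 0 := by
  simp [e]

@[simp] lemma f_inl (j i : Fin m) : (f j : VV m F) (.inl i) = 0 := by
  simp [f]

@[simp] lemma f_inr (j i : Fin m) : (f j : VV m F) (.inr i) = if i = j then 1 else 0 := by
  simp [f, Pi.single_apply]

lemma B_e (v : VV m F) (j : Fin m) : Bf m F v (e j) = v (.inr j) := by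
  simp [Bf_apply]

lemma B_f (v : VV m F) (j : Fin m) : Bf m F v (f j) = v (.inl j) := by
  simp [Bf_apply]

lemma Q_e (j : Fin m) : Qf m F (e j : VV m F) = 0 := by
  simp [Qf_apply]

lemma Q_f (j : Fin m) : Qf m F (f j : VV m F) = 0 := by
  simp [Qf_apply]

lemma Bf_nondegenerate : (Bf m F).Nondegenerate := by
  have key : ∀ x : VV m F, (∀ y, Bf m F x y = 0) → x = 0 := by
    intro x hx
    funext i
    rcases i with j | j
    · rw [← B_f x j]; exact hx _
    · rw [← B_e x j]; exact hx _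
  refine ⟨key, fun y hy => key y (fun x => ?_)⟩
  rw [Bf_symm]; exact hy x

/-- The standard filtration: vectors whose coordinates of level `≥ k` vanish, where `e_j` has
level `j` and `f_j` has level `2m-1-j`. -/
def L (m : ℕ) (F : Type*) [Field F] (k : ℕ) : Submodule F (VV m F) where
  carrier := {v | (∀ j : Fin m, k ≤ j.val → v (.inl j) = 0) ∧
    (∀ j : Fin m, k + j.val + 1 ≤ 2 * m → v (.inr j) = 0)}
  add_mem' := by
    rintro a b ⟨ha1, ha2⟩ ⟨hb1, hb2⟩
    exact ⟨fun j hj => by rw [Pi.add_apply, ha1 j hj, hb1 j hj, add_zero],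
      fun j hj => by rw [Pi.add_apply, ha2 j hj, hb2 j hj, add_zero]⟩
  zero_mem' := ⟨fun _ _ => rfl, fun _ _ => rfl⟩
  smul_mem' := by
    rintro c a ⟨ha1, ha2⟩
    exact ⟨fun j hj => by rw [Pi.smul_apply, ha1 j hj, smul_zero],
      fun j hj => by rw [Pi.smul_apply, ha2 j hj, smul_zero]⟩

lemma mem_L {k : ℕ} {v : VV m F} : v ∈ L m F k ↔
    (∀ j : Fin m, k ≤ j.val → v (.inl j) = 0) ∧
      (∀ j : Fin m, k + j.val + 1 ≤ 2 * m → v (.inr j) = 0) := Iff.rfl

lemma L_mono {k k' : ℕ} (h : k ≤ k') : L m F k ≤ L m F k' := by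
  intro v hv
  rw [mem_L] at hv ⊢
  exact ⟨fun j hj => hv.1 j (by omega), fun j hj => hv.2 j (by omega)⟩

lemma L_zero : L m F 0 = ⊥ := by
  rw [eq_bot_iff]
  intro v hv
  rw [mem_L] at hv
  rw [Submodule.mem_bot]
  funext i
  rcases i with j | j
  · exact hv.1 j (Nat.zero_le _)
  · exact hv.2 j (by have := j.2; omega)

lemma L_top {k : ℕ} (h : 2 * m ≤ k) : L m F k = ⊤ := by
  rw [eq_top_iff]
  intro v _
  rw [mem_L]
  exact ⟨fun j hj => by have := j.2; omega, fun j hj => by omega⟩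

lemma mem_L_low {k : ℕ} (hk : k ≤ m) {v : VV m F} : v ∈ L m F k ↔
    (∀ j : Fin m, k ≤ j.val → v (.inl j) = 0) ∧ ∀ j : Fin m, v (.inr j) = 0 := by
  rw [mem_L]
  constructor
  · rintro ⟨h1, h2⟩
    exact ⟨h1, fun j => h2 j (by have := j.2; omega)⟩
  · rintro ⟨h1, h2⟩
    exact ⟨h1, fun j _ => h2 j⟩

lemma mem_L_up {k : ℕ} (hk : k ≤ m) {v : VV m F} : v ∈ L m F (2 * m - k) ↔
    ∀ j : Fin m, j.val < k → v (.inr j) = 0 := by
  rw [mem_L]
  constructor
  · rintro ⟨_, h2⟩ j hj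
    exact h2 j (by omega)
  · intro h
    exact ⟨fun j hj => by have := j.2; omega, fun j hj => h j (by omega)⟩

lemma e_mem_L {j : Fin m} {k : ℕ} (h : j.val < k) : (e j : VV m F) ∈ L m F k := by
  rw [mem_L]
  refine ⟨fun i hi => ?_, fun i _ => e_inr j i⟩
  rw [e_inl, if_neg]
  intro hij
  rw [hij] at hi
  omega

/-- A vector of `L k`, `k ≤ m`, is orthogonal to `L (2m - k)`. -/
lemma B_low_up {k : ℕ} (hk : k ≤ m) {u v : VV m F} (hu : u ∈ L m F k)
    (hv : v ∈ L m F (2 * m - k)) : Bf m F v u = 0 := by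
  rw [mem_L_low hk] at hu
  rw [mem_L_up hk] at hv
  rw [Bf_apply]
  apply Finset.sum_eq_zero
  intro i _
  rw [hu.2 i, mul_zero, zero_add]
  by_cases hi : i.val < k
  · rw [hv i hi, zero_mul]
  · rw [hu.1 i (by omega), mul_zero]

/-- Decomposition of a vector of `L (k+1)` along `e_k`. -/
lemma sub_smul_e_mem {k : ℕ} (hk : k < m) {v : VV m F} (hv : v ∈ L m F (k + 1)) :
    v - v (.inl ⟨k, hk⟩) • (e ⟨k, hk⟩ : VV m F) ∈ L m F k := by
  rw [mem_L_low (by omega)] at hv
  rw [mem_L_low hk.le]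
  refine ⟨fun j hj => ?_, fun j => ?_⟩
  · rw [Pi.sub_apply, Pi.smul_apply, e_inl, smul_eq_mul]
    by_cases hjk : j = ⟨k, hk⟩
    · rw [if_pos hjk, hjk, mul_one, sub_self]
    · rw [if_neg hjk, mul_zero, sub_zero]
      apply hv.1
      have : j.val ≠ k := fun h => hjk (Fin.ext h)
      omega
  · rw [Pi.sub_apply, Pi.smul_apply, e_inr, smul_zero, sub_zero, hv.2]

/-- The stabiliser `B0` of the standard flag `L 0 < L 1 < … < L (m-1)` in the isometry group. -/
def B0 (m : ℕ) (F : Type*) [Field F] : Subgroup (VV m F ≃ₗ[F] VV m F) :=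
  oG (Qf m F) ⊓ ⨅ k : Fin m, stab (L m F k)

lemma mem_B0 {g : VV m F ≃ₗ[F] VV m F} : g ∈ B0 m F ↔
    g ∈ oG (Qf m F) ∧ ∀ k : ℕ, k < m → ∀ v, v ∈ L m F k ↔ g v ∈ L m F k := by
  unfold B0
  rw [Subgroup.mem_inf, Subgroup.mem_iInf]
  constructor
  · rintro ⟨h1, h2⟩
    exact ⟨h1, fun k hk => mem_stab.mp (h2 ⟨k, hk⟩)⟩
  · rintro ⟨h1, h2⟩
    exact ⟨h1, fun k => mem_stab.mpr (h2 k k.2)⟩

lemma mem_B0_of {g : VV m F ≃ₗ[F] VV m F} (hg : g ∈ oG (Qf m F))
    (h : ∀ k : ℕ, k < m → ∀ v ∈ L m F k, g v ∈ L m F k) : g ∈ B0 m F := by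
  rw [mem_B0]
  refine ⟨hg, fun k hk => ?_⟩
  exact mem_stab.mp (mem_stab_of_forall_mem (h k hk))

lemma B0_le : B0 m F ≤ oG (Qf m F) := fun _ hg => (mem_B0.mp hg).1

lemma B0_map {g : VV m F ≃ₗ[F] VV m F} (hg : g ∈ B0 m F) {k : ℕ} (hk : k < m) {v : VV m F}
    (hv : v ∈ L m F k) : g v ∈ L m F k :=
  ((mem_B0.mp hg).2 k hk v).mp hv

/-- Isometries preserve the polar form. -/
lemma B_map {g : VV m F ≃ₗ[F] VV m F} (hg : g ∈ oG (Qf m F)) (u v : VV m F) :
    Bf m F (g u) (g v) = Bf m F u v := oG_B (Qf m F) (Bf m F) hQp hg u v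

lemma B_map_left {g : VV m F ≃ₗ[F] VV m F} (hg : g ∈ oG (Qf m F)) (u v : VV m F) :
    Bf m F (g u) v = Bf m F u (g⁻¹ v) := by
  rw [← B_map hg u (g⁻¹ v), apply_inv_apply']

end Cfsg.Agent.Lib.Helper6_OPlusA
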