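import Mathlib
import Cfsg.Agent.Lib.Helper6_OPlusA

set_option autoImplicit false

/-!
Over the field with two elements the flag stabiliser `B0` of `Helper6_OPlusA` is a `2`-group
(helper6, for S2487).
-/

namespace Cfsg.Agent.Lib.Helper6_OPlusB

open Cfsg.Agent.Lib.Helper94_Symp Cfsg.Agent.Lib.Helper94_OrthSmall
  Cfsg.Agent.Lib.Helper6_OPlusA Module

variable {F : Type*} [Field F] {m : ℕ}

/-- Lower unipotency: an element of `B0` acts trivially on `L (k+1) / L k` for `k + 1 < m`. -/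
lemma low_unip (h01 : ∀ a : F, a = 0 ∨ a = 1) {g : VV m F ≃ₗ[F] VV m F} (hg : g ∈ B0 m F)
    {k : ℕ} (hk : k + 1 < m) {v : VV m F} (hv : v ∈ L m F (k + 1)) : g v - v ∈ L m F k := by
  have hkm : k < m := by omega
  have h1 := sub_smul_e_mem hkm hv
  obtain ⟨c, hc⟩ : ∃ c : F, c = v (.inl ⟨k, hkm⟩) := ⟨_, rfl⟩
  obtain ⟨ek, hek⟩ : ∃ ek : VV m F, ek = e ⟨k, hkm⟩ := ⟨_, rfl⟩
  rw [← hc, ← hek] at h1
  have h2 : g (v - c • ek) ∈ L m F k := B0_map hg hkm h1
  have h3 : g ek - ek ∈ L m F k := by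
    have h4 : g ek ∈ L m F (k + 1) := by
      rw [hek]
      exact B0_map hg hk (e_mem_L (by simp))
    have h5 : g ek (.inl ⟨k, hkm⟩) = 1 := by
      rcases h01 (g ek (.inl ⟨k, hkm⟩)) with h | h
      · exfalso
        have h6 : g ek ∈ L m F k := by
          rw [mem_L_low (by omega)] at h4
          rw [mem_L_low hkm.le]
          refine ⟨fun j hj => ?_, h4.2⟩
          by_cases hjk : j = ⟨k, hkm⟩
          · rw [hjk]; exact h
          · apply h4.1
            have : j.val ≠ k := fun h => hjk (Fin.ext h)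
            omega
        have h7 := ((mem_B0.mp hg).2 k hkm ek).mpr h6
        rw [mem_L_low hkm.le] at h7
        have h8 := h7.1 ⟨k, hkm⟩ le_rfl
        rw [hek, e_inl, if_pos rfl] at h8
        exact one_ne_zero h8
      · exact h
    rw [mem_L_low (by omega)] at h4
    rw [mem_L_low hkm.le]
    refine ⟨fun j hj => ?_, fun j => ?_⟩
    · rw [Pi.sub_apply]
      by_cases hjk : j = ⟨k, hkm⟩
      · rw [hjk, h5, hek, e_inl, if_pos rfl, sub_self]
      · have : j.val ≠ k := fun h => hjk (Fin.ext h)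
        rw [h4.1 j (by omega), hek, e_inl, if_neg hjk, sub_zero]
    · rw [Pi.sub_apply, h4.2, hek, e_inr, sub_zero]
  have h9 : g v - v = (g (v - c • ek) - (v - c • ek)) + c • (g ek - ek) := by
    rw [map_sub, map_smul]
    module
  rw [h9]
  exact Submodule.add_mem _ (Submodule.sub_mem _ h2 h1) (Submodule.smul_mem _ _ h3)

/-- `B0` stabilises the upper part of the filtration. -/
lemma up_stab {g : VV m F ≃ₗ[F] VV m F} (hg : g ∈ B0 m F)
    {k : ℕ} (hk : k < m) {v : VV m F} (hv : v ∈ L m F (2 * m - k)) :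
    g v ∈ L m F (2 * m - k) := by
  rw [mem_L_up hk.le]
  intro j hj
  rw [← B_e (g v) j, B_map_left (B0_le hg)]
  exact B_low_up hk.le (B0_map (inv_mem hg) hk (e_mem_L hj)) hv

/-- Upper unipotency. -/
lemma up_unip (h01 : ∀ a : F, a = 0 ∨ a = 1) {g : VV m F ≃ₗ[F] VV m F} (hg : g ∈ B0 m F)
    {k : ℕ} (hk : k + 1 < m) {v : VV m F} (hv : v ∈ L m F (2 * m - k)) :
    g v - v ∈ L m F (2 * m - (k + 1)) := by
  rw [mem_L_up hk.le]
  intro j hj
  rw [← B_e (g v - v) j, map_sub, LinearMap.sub_apply, B_map_left (B0_le hg), ← map_sub]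
  have h1 : g⁻¹ (e j) - e j ∈ L m F j.val :=
    low_unip h01 (inv_mem hg) (by omega) (e_mem_L (by omega))
  exact B_low_up (by omega) (L_mono (by omega) h1) hv

section middle

variable {p : ℕ} (hp : p + 1 = m)

include hp in
lemma mem_L_p_iff {w : VV m F} : w ∈ L m F p ↔
    w ∈ L m F (m + 1) ∧ w (.inl ⟨p, by omega⟩) = 0 ∧ w (.inr ⟨p, by omega⟩) = 0 := by
  constructor
  · intro h
    refine ⟨L_mono (by omega) h, ?_, ?_⟩
    · exact ((mem_L_low (by omega)).mp h).1 _ le_rfl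
    · exact ((mem_L_low (by omega)).mp h).2 _
  · rintro ⟨h1, h2, h3⟩
    rw [mem_L_low (by omega)]
    rw [mem_L] at h1
    refine ⟨fun j hj => ?_, fun j => ?_⟩
    · have : j = ⟨p, by omega⟩ := Fin.ext (by have := j.2; simp only; omega)
      rw [this]; exact h2
    · by_cases hj : j.val < p
      · exact h1.2 j (by omega)
      · have : j = ⟨p, by omega⟩ := Fin.ext (by have := j.2; simp only; omega)
        rw [this]; exact h3

include hp in
lemma Q_mid {w : VV m F} (hw : w ∈ L m F (m + 1)) :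
    Qf m F w = w (.inl ⟨p, by omega⟩) * w (.inr ⟨p, by omega⟩) := by
  rw [mem_L] at hw
  rw [Qf_apply]
  apply Finset.sum_eq_single
  · intro j _ hj
    have : j.val ≠ p := fun h => hj (Fin.ext h)
    rw [hw.2 j (by have := j.2; omega), mul_zero]
  · intro h; exact absurd (Finset.mem_univ _) h

include hp in
lemma B_mid {w w' : VV m F} (hw : w ∈ L m F (m + 1)) (hw' : w' ∈ L m F (m + 1)) :
    Bf m F w w' = w (.inl ⟨p, by omega⟩) * w' (.inr ⟨p, by omega⟩) +
      w (.inr ⟨p, by omega⟩) * w' (.inl ⟨p, by omega⟩) := by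
  rw [mem_L] at hw hw'
  rw [Bf_apply]
  apply Finset.sum_eq_single
  · intro j _ hj
    have : j.val ≠ p := fun h => hj (Fin.ext h)
    rw [hw.2 j (by have := j.2; omega), hw'.2 j (by have := j.2; omega), mul_zero, zero_mul,
      add_zero]
  · intro h; exact absurd (Finset.mem_univ _) h

include hp in
lemma e_f_mem_mid : (e ⟨p, by omega⟩ : VV m F) ∈ L m F (m + 1) ∧
    (f ⟨p, by omega⟩ : VV m F) ∈ L m F (m + 1) := by
  refine ⟨e_mem_L (by simp only; omega), ?_⟩
  rw [mem_L]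
  refine ⟨fun j _ => f_inl _ _, fun j hj => ?_⟩
  rw [f_inr, if_neg]
  intro h
  rw [h] at hj
  simp only at hj
  omega

include hp in
lemma sub_mid_mem {v : VV m F} (hv : v ∈ L m F (m + 1)) :
    v - v (.inl ⟨p, by omega⟩) • (e ⟨p, by omega⟩ : VV m F)
      - v (.inr ⟨p, by omega⟩) • (f ⟨p, by omega⟩ : VV m F) ∈ L m F p := by
  rw [mem_L_p_iff hp]
  refine ⟨Submodule.sub_mem _ (Submodule.sub_mem _ hv (Submodule.smul_mem _ _ (e_f_mem_mid hp).1))
    (Submodule.smul_mem _ _ (e_f_mem_mid hp).2), ?_, ?_⟩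
  · simp
  · simp

include hp in
lemma up_stab_mid {g : VV m F ≃ₗ[F] VV m F} (hg : g ∈ B0 m F) {v : VV m F}
    (hv : v ∈ L m F (m + 1)) : g v ∈ L m F (m + 1) := by
  have h1 : m + 1 = 2 * m - p := by omega
  rw [h1] at hv ⊢
  exact up_stab hg (by omega) hv

include hp in
/-- The action of `g ∈ B0` on the two middle coordinates. -/
lemma mid_coord {g : VV m F ≃ₗ[F] VV m F} (hg : g ∈ B0 m F) {v : VV m F}
    (hv : v ∈ L m F (m + 1)) :
    g v (.inl ⟨p, by omega⟩) =
      v (.inl ⟨p, by omega⟩) * g (e ⟨p, by omega⟩) (.inl ⟨p, by omega⟩) +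
      v (.inr ⟨p, by omega⟩) * g (f ⟨p, by omega⟩) (.inl ⟨p, by omega⟩) ∧
    g v (.inr ⟨p, by omega⟩) =
      v (.inl ⟨p, by omega⟩) * g (e ⟨p, by omega⟩) (.inr ⟨p, by omega⟩) +
      v (.inr ⟨p, by omega⟩) * g (f ⟨p, by omega⟩) (.inr ⟨p, by omega⟩) := by
  have h1 := sub_mid_mem hp hv
  have h2 : g (v - v (.inl ⟨p, by omega⟩) • (e ⟨p, by omega⟩ : VV m F)
      - v (.inr ⟨p, by omega⟩) • (f ⟨p, by omega⟩ : VV m F)) ∈ L m F p :=
    B0_map hg (by omega) h1
  rw [mem_L_p_iff hp] at h2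
  obtain ⟨-, h3, h4⟩ := h2
  rw [map_sub, map_sub, map_smul, map_smul] at h3 h4
  simp only [Pi.sub_apply, Pi.smul_apply, smul_eq_mul] at h3 h4
  constructor
  · linear_combination h3
  · linear_combination h4

include hp in
/-- Middle step: `g²` acts trivially on `L (m+1) / L (m-1)`. -/
lemma mid_unip (h01 : ∀ a : F, a = 0 ∨ a = 1) {g : VV m F ≃ₗ[F] VV m F} (hg : g ∈ B0 m F)
    {v : VV m F} (hv : v ∈ L m F (m + 1)) : g (g v) - v ∈ L m F p := by
  have hgv := up_stab_mid hp hg hv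
  have hggv := up_stab_mid hp hg hgv
  have ha := up_stab_mid hp hg (e_f_mem_mid hp).1
  have hb := up_stab_mid hp hg (e_f_mem_mid hp).2
  have hQa : Qf m F (g (e ⟨p, by omega⟩)) = 0 := by rw [(B0_le hg) _, Q_e]
  have hQb : Qf m F (g (f ⟨p, by omega⟩)) = 0 := by rw [(B0_le hg) _, Q_f]
  have hBab : Bf m F (g (e ⟨p, by omega⟩)) (g (f ⟨p, by omega⟩)) = 1 := by
    rw [B_map (B0_le hg), B_f, e_inl, if_pos rfl]
  rw [Q_mid hp ha] at hQa
  rw [Q_mid hp hb] at hQb
  rw [B_mid hp ha hb] at hBab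
  obtain ⟨c1, c2⟩ := mid_coord hp hg hv
  obtain ⟨d1, d2⟩ := mid_coord hp hg hgv
  rw [mem_L_p_iff hp]
  refine ⟨Submodule.sub_mem _ hggv hv, ?_, ?_⟩
  · rw [Pi.sub_apply, d1, c1, c2]
    generalize g (e ⟨p, by omega⟩) (.inl ⟨p, by omega⟩) = α at *
    generalize g (e ⟨p, by omega⟩) (.inr ⟨p, by omega⟩) = β at *
    generalize g (f ⟨p, by omega⟩) (.inl ⟨p, by omega⟩) = γ at *
    generalize g (f ⟨p, by omega⟩) (.inr ⟨p, by omega⟩) = δ at *
    rcases h01 α with rfl | rfl <;> rcases h01 β with rfl | rfl <;>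
      rcases h01 γ with rfl | rfl <;> rcases h01 δ with rfl | rfl <;> simp at hQa hQb hBab ⊢
  · rw [Pi.sub_apply, d2, c1, c2]
    generalize g (e ⟨p, by omega⟩) (.inl ⟨p, by omega⟩) = α at *
    generalize g (e ⟨p, by omega⟩) (.inr ⟨p, by omega⟩) = β at *
    generalize g (f ⟨p, by omega⟩) (.inl ⟨p, by omega⟩) = γ at *
    generalize g (f ⟨p, by omega⟩) (.inr ⟨p, by omega⟩) = δ at *
    rcases h01 α with rfl | rfl <;> rcases h01 β with rfl | rfl <;>
      rcases h01 γ with rfl | rfl <;> rcases h01 δ with rfl | rfl <;> simp at hQa hQb hBab ⊢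

end middle

/-- Uniform unipotency of `g²` for `g ∈ B0`. -/
lemma sq_unip (h01 : ∀ a : F, a = 0 ∨ a = 1) (hm : 2 ≤ m) {g : VV m F ≃ₗ[F] VV m F}
    (hg : g ∈ B0 m F) (k : ℕ) {v : VV m F} (hv : v ∈ L m F (k + 1)) :
    g (g v) - v ∈ L m F k := by
  have hsplit : g (g v) - v = g (g v - v) + (g v - v) := by
    rw [map_sub]; abel
  rcases lt_trichotomy (k + 1) m with h | h | h
  · have h1 := low_unip h01 hg h hv
    rw [hsplit]
    exact Submodule.add_mem _ (B0_map hg (by omega) h1) h1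
  · have hp : k + 1 = m := h
    exact mid_unip hp h01 hg (L_mono (by omega) hv)
  · by_cases hk : k = m
    · obtain ⟨p, hp⟩ : ∃ p, p + 1 = m := ⟨m - 1, by omega⟩
      have h1 := mid_unip hp h01 hg (by rw [hk] at hv; exact hv)
      exact L_mono (by omega) h1
    · by_cases hk2 : 2 * m ≤ k
      · rw [L_top hk2]; exact Submodule.mem_top
      · obtain ⟨k', hk'⟩ : ∃ k', k' = 2 * m - (k + 1) := ⟨_, rfl⟩
        have e1 : k + 1 = 2 * m - k' := by omega
        have e2 : k = 2 * m - (k' + 1) := by omega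
        have hk'm : k' + 1 < m := by omega
        rw [e1] at hv
        have h1 := up_unip h01 hg hk'm hv
        have h2 := up_stab hg hk'm h1
        rw [hsplit, e2]
        exact Submodule.add_mem _ h2 h1

/-- Doubling lemma for unipotent maps in characteristic two. -/
lemma pow_unip (two : ∀ w : VV m F, w + w = 0) (h : VV m F ≃ₗ[F] VV m F)
    (hh : ∀ k : ℕ, ∀ v ∈ L m F (k + 1), h v - v ∈ L m F k) :
    ∀ a j : ℕ, ∀ v ∈ L m F (j + 2 ^ a), (h ^ 2 ^ a) v - v ∈ L m F j := by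
  intro a
  induction a with
  | zero =>
    intro j v hv
    rw [pow_zero, pow_one]
    exact hh j v hv
  | succ a ih =>
    intro j v hv
    have e1 : j + 2 ^ (a + 1) = (j + 2 ^ a) + 2 ^ a := by ring
    rw [e1] at hv
    have h1 := ih (j + 2 ^ a) v hv
    have h2 := ih j _ h1
    have e2 : (h ^ 2 ^ (a + 1)) v - v =
        ((h ^ 2 ^ a) ((h ^ 2 ^ a) v - v) - ((h ^ 2 ^ a) v - v)) +
          (((h ^ 2 ^ a) v - v) + ((h ^ 2 ^ a) v - v)) := by
      rw [pow_succ, pow_mul, pow_two, LinearEquiv.mul_apply, map_sub]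
      abel
    rw [e2, two, add_zero]
    exact h2

lemma add_self_eq_zero_of (h01 : ∀ a : F, a = 0 ∨ a = 1) (w : VV m F) : w + w = 0 := by
  have h2 : (1 : F) + 1 = 0 := by
    rcases h01 (1 + 1) with h | h
    · exact h
    · exfalso
      have : (1 : F) = 0 := by linear_combination h
      exact one_ne_zero this
  have : w + w = ((1 : F) + 1) • w := by rw [add_smul, one_smul]
  rw [this, h2, zero_smul]

/-- Over the field with two elements, `B0` is a `2`-group. -/
theorem isPGroup_B0 (h01 : ∀ a : F, a = 0 ∨ a = 1) (hm : 2 ≤ m) : IsPGroup 2 (B0 m F) := by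
  rintro ⟨g, hg⟩
  have h1 := pow_unip (add_self_eq_zero_of h01) (g * g)
    (fun k v hv => by rw [LinearEquiv.mul_apply]; exact sq_unip h01 hm hg k hv) (2 * m) 0
  have h2 : (g * g) ^ 2 ^ (2 * m) = 1 := by
    ext1 v
    have h3 := h1 v (by rw [L_top (by have := Nat.lt_two_pow_self (n := 2 * m); omega)]; exact Submodule.mem_top)
    rw [L_zero, Submodule.mem_bot, sub_eq_zero] at h3
    rw [h3]; rfl
  refine ⟨2 * m + 1, Subtype.ext ?_⟩
  rw [SubgroupClass.coe_pow, Subgroup.coe_mk, Subgroup.coe_one, pow_succ, pow_mul', pow_two]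
  exact h2

end Cfsg.Agent.Lib.Helper6_OPlusB
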