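import Mathlib
import Cfsg.Agent.Lib.Helper6_OPlusA
import Cfsg.Agent.Lib.Helper6_OPlusB

set_option autoImplicit false

/-!
The flag stabiliser `B0` of `Helper6_OPlusA` is self-normalising in the isometry group (over the
field with two elements), and any two conjugates of `B0` share a nontrivial element
(helper6, for S2487).
-/

namespace Cfsg.Agent.Lib.Helper6_OPlusC

open Cfsg.Agent.Lib.Helper94_Symp Cfsg.Agent.Lib.Helper94_OrthSmall
  Cfsg.Agent.Lib.Helper94_OrthSiegel
  Cfsg.Agent.Lib.Helper6_OPlusA Cfsg.Agent.Lib.Helper6_OPlusB Module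

variable {F : Type*} [Field F] {m : ℕ}

/-- The Siegel element `ρ_{e_j, e_l}` lies in `B0` and acts by
`y ↦ y + y(f_j) e_l - y(f_l) e_j`. -/
lemma sieg_ee_apply (j l : Fin m) (y : VV m F) :
    sieg (Qf m F) (Bf m F) (e j) (e l) y = y + y (.inr j) • (e l : VV m F) - y (.inr l) • (e j : VV m F) := by
  rw [sieg_apply (Qf m F) (Bf m F) hQs hQp (Q_e j) (by rw [B_e, e_inr]), B_e, B_e, Q_e, zero_mul,
    zero_smul, sub_zero]

lemma sieg_ee_mem (j l : Fin m) : sieg (Qf m F) (Bf m F) (e j) (e l) ∈ B0 m F := by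
  apply mem_B0_of (sieg_mem_oG (Qf m F) (Bf m F) hQs hQp (Q_e j) (by rw [B_e, e_inr]))
  intro k hk v hv
  rw [sieg_ee_apply]
  have h := (mem_L_low hk.le).mp hv
  rw [h.2 j, h.2 l, zero_smul, zero_smul, add_zero, sub_zero]
  exact hv

/-- The Siegel element `ρ_{e_k, f_j}`, `k ≠ j`. -/
lemma sieg_ef_apply {k j : Fin m} (hkj : j ≠ k) (y : VV m F) :
    sieg (Qf m F) (Bf m F) (e k) (f j) y = y + y (.inr k) • (f j : VV m F) - y (.inl j) • (e k : VV m F) := by
  rw [sieg_apply (Qf m F) (Bf m F) hQs hQp (Q_e k) (by rw [B_f, e_inl, if_neg hkj]), B_e, B_f, Q_f,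
    zero_mul, zero_smul, sub_zero]

lemma sieg_ef_mem {k j : Fin m} (hkj : k < j) : sieg (Qf m F) (Bf m F) (e k) (f j) ∈ B0 m F := by
  have hne : j ≠ k := (ne_of_lt hkj).symm
  apply mem_B0_of (sieg_mem_oG (Qf m F) (Bf m F) hQs hQp (Q_e k) (by rw [B_f, e_inl, if_neg hne]))
  intro k' hk' v hv
  rw [sieg_ef_apply hne]
  have h := (mem_L_low hk'.le).mp hv
  rw [h.2 k, zero_smul, add_zero]
  by_cases hj : k' ≤ j.val
  · rw [h.1 j hj, zero_smul, sub_zero]; exact hv
  · exact Submodule.sub_mem _ hv (Submodule.smul_mem _ _ (e_mem_L (by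
      have : k.val < j.val := hkj
      omega)))

/-- Characterisation of `L (k+1)` through the action of `B0`. -/
lemma mem_L_succ_of {k : ℕ} (hk : k + 1 < m) {y : VV m F}
    (h : ∀ b ∈ B0 m F, b y - y ∈ L m F k) : y ∈ L m F (k + 1) := by
  have hkm : k < m := by omega
  rw [mem_L_low (by omega)]
  refine ⟨fun j hj => ?_, fun j => ?_⟩
  · -- use `ρ_{e_k, f_j}`
    have hkj : (⟨k, hkm⟩ : Fin m) < j := by
      rw [Fin.lt_def]; simp only; omega
    have hne : j ≠ ⟨k, hkm⟩ := (ne_of_lt hkj).symm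
    have h1 := h _ (sieg_ef_mem hkj)
    rw [sieg_ef_apply hne] at h1
    have h2 := ((mem_L_low hkm.le).mp h1).1 ⟨k, hkm⟩ le_rfl
    simp only [Pi.sub_apply, Pi.add_apply, Pi.smul_apply, f_inl, e_inl, smul_eq_mul, if_true,
      mul_zero, mul_one, add_zero] at h2
    have h3 : y (.inl j) = 0 := by linear_combination -h2
    exact h3
  · -- use `ρ_{e_j, e_l}` with `l ≠ j`, `k ≤ l`
    obtain ⟨l, hlj, hkl⟩ : ∃ l : Fin m, l ≠ j ∧ k ≤ l.val := by
      by_cases hj : j.val = m - 1
      · refine ⟨⟨m - 2, by omega⟩, ?_, ?_⟩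
        · intro hh
          have := congrArg Fin.val hh
          simp only at this
          omega
        · simp only; omega
      · refine ⟨⟨m - 1, by omega⟩, ?_, ?_⟩
        · intro hh
          have := congrArg Fin.val hh
          simp only at this
          omega
        · simp only; omega
    have h1 := h _ (sieg_ee_mem j l)
    rw [sieg_ee_apply] at h1
    have h2 := ((mem_L_low hkm.le).mp h1).1 l hkl
    simp only [Pi.sub_apply, Pi.add_apply, Pi.smul_apply, e_inl, smul_eq_mul, if_true,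
      if_neg hlj, mul_zero, mul_one, sub_zero] at h2
    have h3 : y (.inr j) = 0 := by linear_combination h2
    exact h3

/-- `B0` is self-normalising in the isometry group. -/
theorem self_normalizing (h01 : ∀ a : F, a = 0 ∨ a = 1) {n : VV m F ≃ₗ[F] VV m F}
    (hn : n ∈ oG (Qf m F)) (hnorm : ∀ b ∈ B0 m F, n * b * n⁻¹ ∈ B0 m F) : n ∈ B0 m F := by
  have key : ∀ k : ℕ, k < m → ∀ v ∈ L m F k, n⁻¹ v ∈ L m F k := by
    intro k
    induction k with
    | zero =>
      intro _ v hv
      rw [L_zero, Submodule.mem_bot] at hv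
      rw [hv, map_zero]
      exact Submodule.zero_mem _
    | succ k ih =>
      intro hk v hv
      apply mem_L_succ_of hk
      intro b hb
      have h1 : b (n⁻¹ v) - n⁻¹ v = n⁻¹ ((n * b * n⁻¹) v - v) := by
        rw [map_sub, LinearEquiv.mul_apply, LinearEquiv.mul_apply, inv_apply_apply']
      rw [h1]
      exact ih (by omega) _ (low_unip h01 (hnorm b hb) hk hv)
  have h2 : n⁻¹ ∈ B0 m F := mem_B0_of (inv_mem hn) key
  have h3 := inv_mem h2
  rwa [inv_inv] at h3

/-- The dimension of `L p`. -/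
lemma finrank_L_le {p : ℕ} (hp : p ≤ m) : finrank F (L m F p) ≤ p := by
  let φ : L m F p →ₗ[F] (Fin p → F) :=
    { toFun := fun v j => v.1 (.inl ⟨j.val, by have := j.2; omega⟩)
      map_add' := fun _ _ => rfl
      map_smul' := fun _ _ => rfl }
  have hφ : Function.Injective φ := by
    rw [← LinearMap.ker_eq_bot, eq_bot_iff]
    rintro ⟨v, hv⟩ hker
    rw [LinearMap.mem_ker] at hker
    rw [Submodule.mem_bot]
    apply Subtype.ext
    show v = 0
    have h := (mem_L_low hp).mp hv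
    funext i
    rcases i with j | j
    · by_cases hj : j.val < p
      · have := congrFun hker ⟨j.val, hj⟩
        exact this
      · exact h.1 j (by omega)
    · exact h.2 j
  have := LinearMap.finrank_le_finrank_of_injective hφ
  rwa [Module.finrank_fintype_fun_eq_card, Fintype.card_fin] at this

/-- An isometry fixing `y (L (m-1))` pointwise lies in the conjugate `y B0 y⁻¹`. -/
lemma conj_mem_B0 {p : ℕ} (hp : p + 1 = m) {y g : VV m F ≃ₗ[F] VV m F} (hy : y ∈ oG (Qf m F))
    (hg : g ∈ oG (Qf m F)) (hfix : ∀ v ∈ L m F p, g (y v) = y v) : y⁻¹ * g * y ∈ B0 m F := by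
  apply mem_B0_of (mul_mem (mul_mem (inv_mem hy) hg) hy)
  intro k hk v hv
  rw [LinearEquiv.mul_apply, LinearEquiv.mul_apply, hfix v (L_mono (by omega) hv),
    inv_apply_apply']
  exact hv

/-- Any two conjugates of `B0` share a nontrivial element. -/
theorem exists_common (hm : 2 ≤ m) {y₁ y₂ : VV m F ≃ₗ[F] VV m F} (h₁ : y₁ ∈ oG (Qf m F))
    (h₂ : y₂ ∈ oG (Qf m F)) :
    ∃ g ∈ oG (Qf m F), g ≠ 1 ∧ y₁⁻¹ * g * y₁ ∈ B0 m F ∧ y₂⁻¹ * g * y₂ ∈ B0 m F := by
  obtain ⟨p, hp⟩ : ∃ p, p + 1 = m := ⟨m - 1, by omega⟩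
  obtain ⟨S, hS⟩ : ∃ S : Submodule F (VV m F),
      S = (L m F p).map (y₁ : VV m F →ₗ[F] VV m F) ⊔ (L m F p).map (y₂ : VV m F →ₗ[F] VV m F) :=
    ⟨_, rfl⟩
  have hS1 : ∀ v ∈ L m F p, y₁ v ∈ S := by
    intro v hv
    rw [hS]
    exact Submodule.mem_sup_left (Submodule.mem_map_of_mem hv)
  have hS2 : ∀ v ∈ L m F p, y₂ v ∈ S := by
    intro v hv
    rw [hS]
    exact Submodule.mem_sup_right (Submodule.mem_map_of_mem hv)
  have hfrS : finrank F S ≤ 2 * p := by
    have h1 := Submodule.finrank_add_le_finrank_add_finrank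
      ((L m F p).map (y₁ : VV m F →ₗ[F] VV m F)) ((L m F p).map (y₂ : VV m F →ₗ[F] VV m F))
    have h2 : finrank F ((L m F p).map (y₁ : VV m F →ₗ[F] VV m F)) = finrank F (L m F p) :=
      LinearEquiv.finrank_map_eq y₁ _
    have h3 : finrank F ((L m F p).map (y₂ : VV m F →ₗ[F] VV m F)) = finrank F (L m F p) :=
      LinearEquiv.finrank_map_eq y₂ _
    have h4 := finrank_L_le (F := F) (m := m) (p := p) (by omega)
    rw [hS]
    omega
  have hfrV : finrank F (VV m F) = 2 * m := by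
    rw [Module.finrank_fintype_fun_eq_card, Fintype.card_sum, Fintype.card_fin]
    ring
  have hfrW : 2 ≤ finrank F ((Bf m F).orthogonal S) := by
    rw [LinearMap.BilinForm.finrank_orthogonal Bf_nondegenerate, hfrV]
    omega
  have horth : ∀ a ∈ (Bf m F).orthogonal S, ∀ s ∈ S, Bf m F s a = 0 := fun a ha s hs => ha s hs
  -- a vector pairing nontrivially with a given nonzero vector
  have hpair : ∀ a : VV m F, a ≠ 0 → ∃ x, Bf m F x a ≠ 0 := by
    intro a ha
    by_contra hcon
    push Not at hcon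
    exact ha ((Bf_nondegenerate (m := m) (F := F)).2 a hcon)
  by_cases hA : ∃ a ∈ (Bf m F).orthogonal S, Qf m F a ≠ 0
  · obtain ⟨a, haW, hQa⟩ := hA
    have ha0 : a ≠ 0 := by
      rintro rfl
      exact hQa (Q_zero (Qf m F) hQs)
    have hfix : ∀ s ∈ S, refl (Qf m F) (Bf m F) hQs hQp hQa s = s := by
      intro s hs
      rw [refl_apply, horth a haW s hs, mul_zero, zero_smul, sub_zero]
    refine ⟨refl (Qf m F) (Bf m F) hQs hQp hQa, refl_mem (Qf m F) (Bf m F) hQs hQp hQa, ?_,
      conj_mem_B0 hp h₁ (refl_mem (Qf m F) (Bf m F) hQs hQp hQa) (fun v hv => hfix _ (hS1 v hv)),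
      conj_mem_B0 hp h₂ (refl_mem (Qf m F) (Bf m F) hQs hQp hQa) (fun v hv => hfix _ (hS2 v hv))⟩
    intro h1
    obtain ⟨x, hx⟩ := hpair a ha0
    have h2 := congrArg (fun g : VV m F ≃ₗ[F] VV m F => g x) h1
    simp only [refl_apply, LinearEquiv.coe_one, id_eq] at h2
    have h3 : ((Qf m F a)⁻¹ * Bf m F x a) • a = 0 := by
      have : x - ((Qf m F a)⁻¹ * Bf m F x a) • a = x - 0 := by rw [h2, sub_zero]
      exact sub_right_injective this
    rcases smul_eq_zero.mp h3 with h4 | h4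
    · rcases mul_eq_zero.mp h4 with h5 | h5
      · exact hQa (inv_eq_zero.mp h5)
      · exact hx h5
    · exact ha0 h4
  · push Not at hA
    have hWbot : (Bf m F).orthogonal S ≠ ⊥ := by
      intro h
      rw [h, finrank_bot] at hfrW
      omega
    obtain ⟨a, haW, ha0⟩ := Submodule.exists_mem_ne_zero_of_ne_bot hWbot
    obtain ⟨b, hbW, hba⟩ : ∃ b ∈ (Bf m F).orthogonal S, b ∉ Submodule.span F {a} := by
      by_contra hcon
      push Not at hcon
      have hle : (Bf m F).orthogonal S ≤ Submodule.span F {a} := hcon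
      have h1 := Submodule.finrank_mono hle
      rw [finrank_span_singleton ha0] at h1
      omega
    have hQa : Qf m F a = 0 := hA a haW
    have hQb : Qf m F b = 0 := hA b hbW
    have hBab : Bf m F a b = 0 := by
      have h1 := hQp a b
      rw [hA _ (Submodule.add_mem _ haW hbW), hQa, hQb] at h1
      linear_combination -h1
    have hgo := sieg_mem_oG (Qf m F) (Bf m F) hQs hQp hQa hBab
    have hfix : ∀ s ∈ S, sieg (Qf m F) (Bf m F) a b s = s := by
      intro s hs
      rw [sieg_apply (Qf m F) (Bf m F) hQs hQp hQa hBab, horth a haW s hs, horth b hbW s hs]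
      simp
    refine ⟨sieg (Qf m F) (Bf m F) a b, hgo, ?_,
      conj_mem_B0 hp h₁ hgo (fun v hv => hfix _ (hS1 v hv)),
      conj_mem_B0 hp h₂ hgo (fun v hv => hfix _ (hS2 v hv))⟩
    intro h1
    obtain ⟨x, hx⟩ := hpair a ha0
    have h2 := congrArg (fun g : VV m F ≃ₗ[F] VV m F => g x) h1
    simp only [LinearEquiv.coe_one, id_eq] at h2
    rw [sieg_apply (Qf m F) (Bf m F) hQs hQp hQa hBab, hQb, zero_mul, zero_smul, sub_zero] at h2
    apply hba
    rw [Submodule.mem_span_singleton]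
    refine ⟨(Bf m F x a)⁻¹ * Bf m F x b, ?_⟩
    have h3 : Bf m F x a • b = Bf m F x b • a := by
      have : x + (Bf m F x a • b - Bf m F x b • a) = x + 0 := by
        rw [add_zero, ← add_sub_assoc]; exact h2
      exact sub_eq_zero.mp (add_left_cancel this)
    rw [mul_smul, ← h3, smul_smul, inv_mul_cancel₀ hx, one_smul]

end Cfsg.Agent.Lib.Helper6_OPlusC
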