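import Mathlib
import Cfsg.Agent.Lib.Helper41_SL2Conj

set_option autoImplicit false

/-! Quaternion subgroups of `GL₂(F)`: matrix relations, the element of order 3 in the
normalizer, and elements of order prime to 6 in the normalizer. -/

namespace Cfsg.Agent.Lib.Helper6_Q8GL2

open Matrix

section mat

variable {F : Type*} [Field F]

/-- Cayley–Hamilton for `2 × 2` matrices -/
theorem ch2 (M : Matrix (Fin 2) (Fin 2) F) : M * M = M.trace • M - M.det • 1 := by
  ext i j
  fin_cases i <;> fin_cases j <;>
    simp [Matrix.mul_apply, Fin.sum_univ_two, Matrix.trace_fin_two, Matrix.det_fin_two] <;> ring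

theorem smul_one_inj {c d : F} (h : c • (1 : Matrix (Fin 2) (Fin 2) F) = d • 1) : c = d := by
  have := congrFun (congrFun h 0) 0
  simpa using this

theorem neg_one_ne_one (h2 : (2 : F) ≠ 0) : (-1 : Matrix (Fin 2) (Fin 2) F) ≠ 1 := by
  intro h
  have := congrFun (congrFun h 0) 0
  simp only [Matrix.neg_apply, Matrix.one_apply_eq] at this
  apply h2
  linear_combination -this

/-- a non-scalar matrix with scalar square is traceless -/
theorem trace_det_of_sq {M : Matrix (Fin 2) (Fin 2) F} (hM : ∀ c : F, M ≠ c • 1) {z : F}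
    (h : M * M = z • 1) : M.trace = 0 ∧ M.det = -z := by
  have h1 := ch2 M
  rw [h] at h1
  have h2 : M.trace • M = (z + M.det) • 1 := by
    rw [add_smul, h1]; abel
  have ht : M.trace = 0 := by
    by_contra ht
    apply hM ((M.trace)⁻¹ * (z + M.det))
    rw [mul_smul, ← h2, smul_smul, inv_mul_cancel₀ ht, one_smul]
  refine ⟨ht, ?_⟩
  rw [ht, zero_smul] at h2
  have h3 : (z + M.det) • (1 : Matrix (Fin 2) (Fin 2) F) = (0 : F) • 1 := by
    rw [← h2, zero_smul]
  have := smul_one_inj h3
  linear_combination this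

/-- the key relation: in a quaternion group of matrices, `A² = -1` -/
theorem sq_eq_neg_one (h2 : (2 : F) ≠ 0) (A B A' B' : Matrix (Fin 2) (Fin 2) F)
    (hA : A * A' = 1) (hB : B * B' = 1)
    (h4 : A * A * (A * A) = 1) (hne : A * A ≠ 1) (hBA : B * B = A * A) (hABA : A * B * A = B) :
    A * A = -1 := by
  have hdA : A.det ≠ 0 := by
    intro h0
    have := congrArg Matrix.det hA
    rw [Matrix.det_mul, h0, zero_mul, Matrix.det_one] at this
    exact zero_ne_one this
  have chZ := ch2 (A * A)
  rw [h4] at chZ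
  have hZ : (A * A).trace • (A * A) = (1 + (A * A).det) • 1 := by
    rw [add_smul, one_smul]
    exact sub_eq_iff_eq_add.1 chZ.symm
  by_cases hτ : (A * A).trace = 0
  · exfalso
    have chA := ch2 A
    have htr : (A * A).trace = A.trace * A.trace - 2 * A.det := by
      rw [chA, Matrix.trace_sub, Matrix.trace_smul, Matrix.trace_smul, Matrix.trace_one]
      simp only [Fintype.card_fin, smul_eq_mul]
      push_cast; ring
    have ht : A.trace ≠ 0 := by
      intro h0
      rw [hτ, h0, mul_zero, zero_sub] at htr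
      have : (2 : F) * A.det = 0 := by linear_combination htr
      rcases mul_eq_zero.1 this with h | h
      · exact h2 h
      · exact hdA h
    -- `A` is a polynomial in `A * A`
    have hAeq : A = (A.trace)⁻¹ • (A * A + A.det • 1) := by
      rw [chA]
      rw [sub_add_cancel, smul_smul, inv_mul_cancel₀ ht, one_smul]
    have hcomm : A * B = B * A := by
      have hZB : A * A * B = B * (A * A) := by
        rw [← hBA, mul_assoc]
      calc A * B = ((A.trace)⁻¹ • (A * A + A.det • 1)) * B := by rw [← hAeq]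
        _ = (A.trace)⁻¹ • (A * A * B + A.det • B) := by
            rw [Matrix.smul_mul, add_mul, Matrix.smul_mul, one_mul]
        _ = (A.trace)⁻¹ • (B * (A * A) + A.det • B) := by rw [hZB]
        _ = B * ((A.trace)⁻¹ • (A * A + A.det • 1)) := by
            rw [Matrix.mul_smul, mul_add, Matrix.mul_smul, mul_one]
        _ = B * A := by rw [← hAeq]
    apply hne
    have h1 : A * A * B = B := by
      calc A * A * B = A * (A * B) := by rw [mul_assoc]
        _ = A * (B * A) := by rw [hcomm]
        _ = A * B * A := by rw [mul_assoc]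
        _ = B := hABA
    calc A * A = A * A * (B * B') := by rw [hB, mul_one]
      _ = A * A * B * B' := by rw [mul_assoc (A * A)]
      _ = B * B' := by rw [h1]
      _ = 1 := hB
  · have hc : A * A = ((A * A).trace)⁻¹ • ((1 + (A * A).det) • (1 : Matrix (Fin 2) (Fin 2) F)) := by
      rw [← hZ, smul_smul, inv_mul_cancel₀ hτ, one_smul]
    rw [smul_smul] at hc
    set c := ((A * A).trace)⁻¹ * (1 + (A * A).det) with hcdef
    have hcc : c * c = 1 := by
      have : (c * c) • (1 : Matrix (Fin 2) (Fin 2) F) = (1 : F) • 1 := by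
        rw [one_smul]
        calc (c * c) • (1 : Matrix (Fin 2) (Fin 2) F)
            = (c • (1 : Matrix (Fin 2) (Fin 2) F)) * (c • 1) := by
              rw [Matrix.smul_mul, Matrix.mul_smul, mul_one, smul_smul]
          _ = A * A * (A * A) := by rw [← hc]
          _ = 1 := h4
      exact smul_one_inj this
    have hc1 : c = 1 ∨ c = -1 := by
      have : (c - 1) * (c + 1) = 0 := by linear_combination hcc
      rcases mul_eq_zero.1 this with h | h
      · left; linear_combination h
      · right; linear_combination h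
    rcases hc1 with h | h
    · exfalso; apply hne; rw [hc, h, one_smul]
    · rw [hc, h, neg_smul, one_smul]

/-- normal form of an anticommuting pair of square roots of `-1` -/
theorem normal_form (h2 : (2 : F) ≠ 0) {A B : Matrix (Fin 2) (Fin 2) F} (sqA : A * A = -1)
    (sqB : B * B = -1) (anti : B * A = -(A * B)) :
    ∃ a b c e f g : F, A = !![a, b; c, -a] ∧ B = !![e, f; g, -e] ∧ a * a + b * c = -1 ∧
      e * e + f * g = -1 ∧ 2 * a * e + b * g + c * f = 0 := by
  have s1 := congrFun (congrFun sqA 0) 0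
  have s2 := congrFun (congrFun sqA 0) 1
  have s3 := congrFun (congrFun sqA 1) 0
  have s4 := congrFun (congrFun sqA 1) 1
  have u1 := congrFun (congrFun sqB 0) 0
  have u2 := congrFun (congrFun sqB 0) 1
  have u3 := congrFun (congrFun sqB 1) 0
  have u4 := congrFun (congrFun sqB 1) 1
  have v1 := congrFun (congrFun anti 0) 0
  have v2 := congrFun (congrFun anti 0) 1
  have v3 := congrFun (congrFun anti 1) 0
  have v4 := congrFun (congrFun anti 1) 1
  simp only [Matrix.mul_apply, Fin.sum_univ_two, Matrix.neg_apply, Matrix.one_apply_eq,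
    Matrix.one_apply_ne, ne_eq, zero_ne_one, one_ne_zero, not_false_eq_true, Fin.isValue,
    neg_zero] at s1 s2 s3 s4 u1 u2 u3 u4 v1 v2 v3 v4
  have hd : A 1 1 = -A 0 0 := by grind
  have hh : B 1 1 = -B 0 0 := by grind
  refine ⟨A 0 0, A 0 1, A 1 0, B 0 0, B 0 1, B 1 0, ?_, ?_, ?_, ?_, ?_⟩
  · rw [← hd]; exact Matrix.eta_fin_two A
  · rw [← hh]; exact Matrix.eta_fin_two B
  · exact s1
  · exact u1
  · grind

/-- the matrix of the Hurwitz unit `(-1 + i + j + ij)/2` -/
def hurW (a b c e f g h : F) : Matrix (Fin 2) (Fin 2) F :=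
  h • (-1 + !![a, b; c, -a] + !![e, f; g, -e] + !![a, b; c, -a] * !![e, f; g, -e])

/-- the matrix of its conjugate `(-1 - i - j - ij)/2` -/
def hurW' (a b c e f g h : F) : Matrix (Fin 2) (Fin 2) F :=
  h • (-1 - !![a, b; c, -a] - !![e, f; g, -e] - !![a, b; c, -a] * !![e, f; g, -e])

section hur

variable {a b c e f g h : F}

theorem hurW_mul_hurW' (hh : 2 * h = 1) (h1 : a * a + b * c = -1) (h2 : e * e + f * g = -1)
    (h3 : 2 * a * e + b * g + c * f = 0) :
    hurW a b c e f g h * hurW' a b c e f g h = 1 := by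
  ext i j
  fin_cases i <;> fin_cases j <;>
    simp [hurW, hurW', Matrix.mul_apply, Fin.sum_univ_two, Matrix.one_apply] <;> grind

theorem hurW'_mul_hurW (hh : 2 * h = 1) (h1 : a * a + b * c = -1) (h2 : e * e + f * g = -1)
    (h3 : 2 * a * e + b * g + c * f = 0) :
    hurW' a b c e f g h * hurW a b c e f g h = 1 := by
  ext i j
  fin_cases i <;> fin_cases j <;>
    simp [hurW, hurW', Matrix.mul_apply, Fin.sum_univ_two, Matrix.one_apply] <;> grind

theorem hurW_conj_A (hh : 2 * h = 1) (h1 : a * a + b * c = -1) (h2 : e * e + f * g = -1)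
    (h3 : 2 * a * e + b * g + c * f = 0) :
    hurW a b c e f g h * !![a, b; c, -a] * hurW' a b c e f g h =
      !![a, b; c, -a] * !![e, f; g, -e] := by
  ext i j
  fin_cases i <;> fin_cases j <;>
    simp [hurW, hurW', Matrix.mul_apply, Fin.sum_univ_two, Matrix.one_apply] <;> grind

theorem hurW_conj_B (hh : 2 * h = 1) (h1 : a * a + b * c = -1) (h2 : e * e + f * g = -1)
    (h3 : 2 * a * e + b * g + c * f = 0) :
    hurW a b c e f g h * !![e, f; g, -e] * hurW' a b c e f g h = !![a, b; c, -a] := by
  ext i j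
  fin_cases i <;> fin_cases j <;>
    simp [hurW, hurW', Matrix.mul_apply, Fin.sum_univ_two, Matrix.one_apply] <;> grind

theorem hurW'_conj_A (hh : 2 * h = 1) (h1 : a * a + b * c = -1) (h2 : e * e + f * g = -1)
    (h3 : 2 * a * e + b * g + c * f = 0) :
    hurW' a b c e f g h * !![a, b; c, -a] * hurW a b c e f g h = !![e, f; g, -e] := by
  ext i j
  fin_cases i <;> fin_cases j <;>
    simp [hurW, hurW', Matrix.mul_apply, Fin.sum_univ_two, Matrix.one_apply] <;> grind

theorem hurW'_conj_B (hh : 2 * h = 1) (h1 : a * a + b * c = -1) (h2 : e * e + f * g = -1)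
    (h3 : 2 * a * e + b * g + c * f = 0) :
    hurW' a b c e f g h * !![e, f; g, -e] * hurW a b c e f g h =
      !![a, b; c, -a] * !![e, f; g, -e] := by
  ext i j
  fin_cases i <;> fin_cases j <;>
    simp [hurW, hurW', Matrix.mul_apply, Fin.sum_univ_two, Matrix.one_apply] <;> grind

theorem det_hurW (hh : 2 * h = 1) (h1 : a * a + b * c = -1) (h2 : e * e + f * g = -1)
    (h3 : 2 * a * e + b * g + c * f = 0) : (hurW a b c e f g h).det = 1 := by
  rw [Matrix.det_fin_two]
  simp [hurW]
  grind

theorem trace_hurW (hh : 2 * h = 1) (h3 : 2 * a * e + b * g + c * f = 0) :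
    (hurW a b c e f g h).trace = -1 := by
  rw [Matrix.trace_fin_two]
  simp [hurW]
  grind

/-- a matrix commuting with both generators is scalar -/
theorem scalar_of_commute (h2F : (2 : F) ≠ 0) (h1 : a * a + b * c = -1) (h2 : e * e + f * g = -1)
    (h3 : 2 * a * e + b * g + c * f = 0) (Y : Matrix (Fin 2) (Fin 2) F)
    (hA : Y * !![a, b; c, -a] = !![a, b; c, -a] * Y)
    (hB : Y * !![e, f; g, -e] = !![e, f; g, -e] * Y) : Y = Y 0 0 • 1 := by
  have s1 := congrFun (congrFun hA 0) 0
  have s2 := congrFun (congrFun hA 0) 1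
  have s3 := congrFun (congrFun hA 1) 0
  have u1 := congrFun (congrFun hB 0) 0
  have u2 := congrFun (congrFun hB 0) 1
  have u3 := congrFun (congrFun hB 1) 0
  simp [Matrix.mul_apply, Fin.sum_univ_two] at s1 s2 s3 u1 u2 u3
  ext i j
  fin_cases i <;> fin_cases j <;> simp <;> grind

end hur

end mat

section grp

theorem mem_normalizer_of_conj {G : Type*} [Group G] (R : Subgroup G) (S : Set G)
    (hRS : R = Subgroup.closure S) (g : G) (h1 : ∀ s ∈ S, g * s * g⁻¹ ∈ R)
    (h2 : ∀ s ∈ S, g⁻¹ * s * g ∈ R) : g ∈ Subgroup.normalizer (R : Set G) := by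
  have key : ∀ k : G, (∀ s ∈ S, k * s * k⁻¹ ∈ R) → ∀ x ∈ R, k * x * k⁻¹ ∈ R := by
    intro k hk x hx
    have hle : Subgroup.closure S ≤ R.comap (MulAut.conj k).toMonoidHom :=
      (Subgroup.closure_le _).2 (fun s hs => by
        show (MulAut.conj k) s ∈ R
        rw [MulAut.conj_apply]
        exact hk s hs)
    have hx' : x ∈ Subgroup.closure S := by rw [← hRS]; exact hx
    have := hle hx'
    rw [Subgroup.mem_comap] at this
    simpa [MulAut.conj_apply] using this
  rw [Subgroup.mem_normalizer_iff]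
  intro x
  constructor
  · exact key g h1 x
  · intro hx
    have := key g⁻¹ (by simpa using h2) _ hx
    simpa [mul_assoc] using this

variable {F : Type*} [Field F]

theorem exists_gens (R : Subgroup (GL (Fin 2) F)) (e : R ≃* QuaternionGroup 2) :
    ∃ I J : GL (Fin 2) F, I ∈ R ∧ J ∈ R ∧ I ^ 4 = 1 ∧ I ^ 2 ≠ 1 ∧ J ^ 2 = I ^ 2 ∧ I * J * I = J ∧
      R = Subgroup.closure {I, J} := by
  set φ : QuaternionGroup 2 →* GL (Fin 2) F := R.subtype.comp e.symm.toMonoidHom with hφ
  have hφinj : Function.Injective φ := by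
    intro x y hxy
    have : (e.symm x : GL (Fin 2) F) = e.symm y := hxy
    exact e.symm.injective (Subtype.ext this)
  have hφmem : ∀ q, φ q ∈ R := fun q => (e.symm q).2
  have hφsurj : ∀ x ∈ R, ∃ q, φ q = x := by
    intro x hx
    refine ⟨e ⟨x, hx⟩, ?_⟩
    show ((e.symm (e ⟨x, hx⟩) : R) : GL (Fin 2) F) = x
    rw [MulEquiv.symm_apply_apply]
  refine ⟨φ (QuaternionGroup.a 1), φ (QuaternionGroup.xa 0), hφmem _, hφmem _, ?_, ?_, ?_, ?_, ?_⟩
  · rw [← map_pow]
    have : (QuaternionGroup.a 1 : QuaternionGroup 2) ^ 4 = 1 := by decide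
    rw [this, map_one]
  · rw [← map_pow]
    intro h
    rw [← map_one φ] at h
    have h' := hφinj h
    revert h'
    decide
  · rw [← map_pow, ← map_pow]
    congr 1
  · rw [← map_mul, ← map_mul]
    congr 1
  · apply le_antisymm
    · intro x hx
      obtain ⟨q, rfl⟩ := hφsurj x hx
      have hI : φ (QuaternionGroup.a 1) ∈
          Subgroup.closure {φ (QuaternionGroup.a 1), φ (QuaternionGroup.xa 0)} :=
        Subgroup.subset_closure (by simp)
      have hJ : φ (QuaternionGroup.xa 0) ∈
          Subgroup.closure {φ (QuaternionGroup.a 1), φ (QuaternionGroup.xa 0)} :=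
        Subgroup.subset_closure (by simp)
      have hall : ∀ q : QuaternionGroup 2, q = 1 ∨ q = QuaternionGroup.a 1 ∨
          q = (QuaternionGroup.a 1) ^ 2 ∨
          q = (QuaternionGroup.a 1) ^ 3 ∨ q = QuaternionGroup.xa 0 ∨
          q = QuaternionGroup.xa 0 * QuaternionGroup.a 1 ∨
          q = QuaternionGroup.xa 0 * (QuaternionGroup.a 1) ^ 2 ∨
          q = QuaternionGroup.xa 0 * (QuaternionGroup.a 1) ^ 3 := by
        decide
      have hq := hall q
      rcases hq with rfl | rfl | rfl | rfl | rfl | rfl | rfl | rfl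
      · rw [map_one]; exact Subgroup.one_mem _
      · exact hI
      · rw [map_pow]; exact Subgroup.pow_mem _ hI _
      · rw [map_pow]; exact Subgroup.pow_mem _ hI _
      · exact hJ
      · rw [map_mul]; exact Subgroup.mul_mem _ hJ hI
      · rw [map_mul, map_pow]; exact Subgroup.mul_mem _ hJ (Subgroup.pow_mem _ hI _)
      · rw [map_mul, map_pow]; exact Subgroup.mul_mem _ hJ (Subgroup.pow_mem _ hI _)
    · rw [Subgroup.closure_le]
      intro x hx
      rcases hx with rfl | rfl
      · exact hφmem _
      · exact hφmem _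

end grp

end Cfsg.Agent.Lib.Helper6_Q8GL2
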