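import Mathlib
import Cfsg.Agent.Lib.Helper6_Q8GL2

set_option autoImplicit false

/-! Quaternion subgroups of `GL₂(F)`: group-level consequences. -/

namespace Cfsg.Agent.Lib.Helper6_Q8GL2

open Matrix

variable {F : Type*} [Field F]

/-- the data package for a quaternion subgroup of `GL₂(F)` -/
structure QData (R : Subgroup (GL (Fin 2) F)) (I J : GL (Fin 2) F) (a b c e f g : F) : Prop where
  memI : I ∈ R
  memJ : J ∈ R
  gen : R = Subgroup.closure {I, J}
  hI : (I : Matrix (Fin 2) (Fin 2) F) = !![a, b; c, -a]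
  hJ : (J : Matrix (Fin 2) (Fin 2) F) = !![e, f; g, -e]
  h1 : a * a + b * c = -1
  h2 : e * e + f * g = -1
  h3 : 2 * a * e + b * g + c * f = 0

theorem exists_qdata (h2 : (2 : F) ≠ 0) (R : Subgroup (GL (Fin 2) F))
    (e : R ≃* QuaternionGroup 2) :
    ∃ (I J : GL (Fin 2) F) (a b c e' f g : F), QData R I J a b c e' f g := by
  obtain ⟨I, J, hI, hJ, h4, hne, hJI, hIJI, hgen⟩ := exists_gens R e
  set A : Matrix (Fin 2) (Fin 2) F := (I : Matrix (Fin 2) (Fin 2) F) with hA
  set B : Matrix (Fin 2) (Fin 2) F := (J : Matrix (Fin 2) (Fin 2) F) with hB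
  have hAA' : A * ((I⁻¹ : GL (Fin 2) F) : Matrix (Fin 2) (Fin 2) F) = 1 := by
    rw [hA, ← Units.val_mul, mul_inv_cancel, Units.val_one]
  have hBB' : B * ((J⁻¹ : GL (Fin 2) F) : Matrix (Fin 2) (Fin 2) F) = 1 := by
    rw [hB, ← Units.val_mul, mul_inv_cancel, Units.val_one]
  have h4' : A * A * (A * A) = 1 := by
    have := congrArg (fun u : GL (Fin 2) F => (u : Matrix (Fin 2) (Fin 2) F)) h4
    simp only [Units.val_pow_eq_pow_val, Units.val_one] at this
    rw [← this, ← pow_two, ← pow_two, ← pow_mul]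
  have hne' : A * A ≠ 1 := by
    intro h
    apply hne
    apply Units.ext
    rw [Units.val_pow_eq_pow_val, Units.val_one, pow_two]
    exact h
  have hJI' : B * B = A * A := by
    have := congrArg (fun u : GL (Fin 2) F => (u : Matrix (Fin 2) (Fin 2) F)) hJI
    simp only [Units.val_pow_eq_pow_val] at this
    rw [← pow_two, ← pow_two]
    exact this
  have hIJI' : A * B * A = B := by
    have := congrArg (fun u : GL (Fin 2) F => (u : Matrix (Fin 2) (Fin 2) F)) hIJI
    simpa only [Units.val_mul] using this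
  have sqA : A * A = -1 := sq_eq_neg_one h2 A B _ _ hAA' hBB' h4' hne' hJI' hIJI'
  have sqB : B * B = -1 := by rw [hJI', sqA]
  have anti : B * A = -(A * B) := by
    have h5 : A * (A * B * A) = A * B := by rw [hIJI']
    rw [← mul_assoc, ← mul_assoc, sqA] at h5
    rw [← h5]
    simp
  obtain ⟨a, b, c, e', f, g, hAe, hBe, r1, r2, r3⟩ := normal_form h2 sqA sqB anti
  exact ⟨I, J, a, b, c, e', f, g, hI, hJ, hgen, hAe, hBe, r1, r2, r3⟩

namespace QData

variable {R : Subgroup (GL (Fin 2) F)} {I J : GL (Fin 2) F} {a b c e f g : F}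

theorem det_I (D : QData R I J a b c e f g) : (I : Matrix (Fin 2) (Fin 2) F).det = 1 := by
  rw [D.hI, Matrix.det_fin_two_of]
  linear_combination -D.h1

theorem trace_I (D : QData R I J a b c e f g) : (I : Matrix (Fin 2) (Fin 2) F).trace = 0 := by
  rw [D.hI, Matrix.trace_fin_two_of]
  ring

theorem sq_I (D : QData R I J a b c e f g) :
    ((I ^ 2 : GL (Fin 2) F) : Matrix (Fin 2) (Fin 2) F) = -1 := by
  rw [Units.val_pow_eq_pow_val, D.hI, pow_two]
  have h1 := D.h1
  ext i j
  fin_cases i <;> fin_cases j <;> simp [Matrix.mul_apply, Fin.sum_univ_two] <;> grind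

/-- the Hurwitz unit as an element of `GL₂(F)` -/
def hurU (D : QData R I J a b c e f g) {h : F} (hh : 2 * h = 1) : GL (Fin 2) F :=
  ⟨hurW a b c e f g h, hurW' a b c e f g h, hurW_mul_hurW' hh D.h1 D.h2 D.h3,
    hurW'_mul_hurW hh D.h1 D.h2 D.h3⟩

theorem hurU_val (D : QData R I J a b c e f g) {h : F} (hh : 2 * h = 1) :
    ((D.hurU hh : GL (Fin 2) F) : Matrix (Fin 2) (Fin 2) F) = hurW a b c e f g h := rfl

theorem hurU_inv_val (D : QData R I J a b c e f g) {h : F} (hh : 2 * h = 1) :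
    (((D.hurU hh)⁻¹ : GL (Fin 2) F) : Matrix (Fin 2) (Fin 2) F) = hurW' a b c e f g h := rfl

theorem hurU_mem_normalizer (D : QData R I J a b c e f g) {h : F} (hh : 2 * h = 1) :
    D.hurU hh ∈ Subgroup.normalizer (R : Set (GL (Fin 2) F)) := by
  apply mem_normalizer_of_conj R {I, J} D.gen
  · intro s hs
    rcases hs with rfl | rfl
    · have : D.hurU hh * s * (D.hurU hh)⁻¹ = s * J := by
        apply Units.ext
        rw [Units.val_mul, Units.val_mul, Units.val_mul, hurU_val, hurU_inv_val, D.hI, D.hJ]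
        exact hurW_conj_A hh D.h1 D.h2 D.h3
      rw [this]
      exact Subgroup.mul_mem _ D.memI D.memJ
    · have : D.hurU hh * s * (D.hurU hh)⁻¹ = I := by
        apply Units.ext
        rw [Units.val_mul, Units.val_mul, hurU_val, hurU_inv_val, D.hI, D.hJ]
        exact hurW_conj_B hh D.h1 D.h2 D.h3
      rw [this]
      exact D.memI
  · intro s hs
    rcases hs with rfl | rfl
    · have : (D.hurU hh)⁻¹ * s * D.hurU hh = J := by
        apply Units.ext
        rw [Units.val_mul, Units.val_mul, hurU_val, hurU_inv_val, D.hI, D.hJ]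
        exact hurW'_conj_A hh D.h1 D.h2 D.h3
      rw [this]
      exact D.memJ
    · have : (D.hurU hh)⁻¹ * s * D.hurU hh = I * s := by
        apply Units.ext
        rw [Units.val_mul, Units.val_mul, Units.val_mul, hurU_val, hurU_inv_val, D.hI, D.hJ]
        exact hurW'_conj_B hh D.h1 D.h2 D.h3
      rw [this]
      exact Subgroup.mul_mem _ D.memI D.memJ

theorem det_hurU (D : QData R I J a b c e f g) {h : F} (hh : 2 * h = 1) :
    ((D.hurU hh : GL (Fin 2) F) : Matrix (Fin 2) (Fin 2) F).det = 1 := by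
  rw [hurU_val]
  exact det_hurW hh D.h1 D.h2 D.h3

theorem trace_hurU (D : QData R I J a b c e f g) {h : F} (hh : 2 * h = 1) :
    ((D.hurU hh : GL (Fin 2) F) : Matrix (Fin 2) (Fin 2) F).trace = -1 := by
  rw [hurU_val]
  exact trace_hurW hh D.h3

theorem le_normalizer (R : Subgroup (GL (Fin 2) F)) :
    R ≤ Subgroup.normalizer (R : Set (GL (Fin 2) F)) := Subgroup.le_normalizer

/-- `-W` -/
theorem negHur_mem_normalizer (D : QData R I J a b c e f g) {h : F} (hh : 2 * h = 1) :
    I ^ 2 * D.hurU hh ∈ Subgroup.normalizer (R : Set (GL (Fin 2) F)) :=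
  Subgroup.mul_mem _ (le_normalizer R (Subgroup.pow_mem _ D.memI 2)) (D.hurU_mem_normalizer hh)

theorem negHur_val (D : QData R I J a b c e f g) {h : F} (hh : 2 * h = 1) :
    ((I ^ 2 * D.hurU hh : GL (Fin 2) F) : Matrix (Fin 2) (Fin 2) F) = -hurW a b c e f g h := by
  rw [Units.val_mul, D.sq_I, hurU_val, neg_mul, one_mul]

theorem det_negHur (D : QData R I J a b c e f g) {h : F} (hh : 2 * h = 1) :
    ((I ^ 2 * D.hurU hh : GL (Fin 2) F) : Matrix (Fin 2) (Fin 2) F).det = 1 := by
  rw [D.negHur_val hh, Matrix.det_neg, det_hurW hh D.h1 D.h2 D.h3]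
  simp

theorem trace_negHur (D : QData R I J a b c e f g) {h : F} (hh : 2 * h = 1) :
    ((I ^ 2 * D.hurU hh : GL (Fin 2) F) : Matrix (Fin 2) (Fin 2) F).trace = 1 := by
  rw [D.negHur_val hh, Matrix.trace_neg, trace_hurW hh D.h3, neg_neg]

end QData

end Cfsg.Agent.Lib.Helper6_Q8GL2
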