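import Mathlib
import Cfsg.Agent.Lib.Helper6_Q8GL2
import Cfsg.Agent.Lib.Helper6_Q8GL2b

set_option autoImplicit false

/-! Elements of prime order `≥ 5` normalizing a quaternion subgroup of `GL₂(F)` are scalar. -/

namespace Cfsg.Agent.Lib.Helper6_Q8GL2

open Matrix

variable {F : Type*} [Field F]

namespace QData

variable {R : Subgroup (GL (Fin 2) F)} {I J : GL (Fin 2) F} {a b c e f g : F}

/-- the conjugation action of `⟨y⟩` on `R` when `y` normalizes `R` -/
@[reducible] def conjAct (R : Subgroup (GL (Fin 2) F)) (y : GL (Fin 2) F)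
    (hy : y ∈ Subgroup.normalizer (R : Set (GL (Fin 2) F))) :
    MulAction (Subgroup.zpowers y) R where
  smul k x := ⟨k.1 * x.1 * k.1⁻¹,
    ((Subgroup.mem_normalizer_iff.1 ((Subgroup.zpowers_le.2 hy) k.2)) x.1).1 x.2⟩
  one_smul x := by
    apply Subtype.ext
    show (1 : GL (Fin 2) F) * x.1 * (1 : GL (Fin 2) F)⁻¹ = x.1
    simp
  mul_smul k l x := by
    apply Subtype.ext
    show (k.1 * l.1) * x.1 * (k.1 * l.1)⁻¹ = k.1 * (l.1 * x.1 * l.1⁻¹) * k.1⁻¹
    rw [_root_.mul_inv_rev]
    simp only [mul_assoc]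

theorem scalar_of_pow (D : QData R I J a b c e f g) (e' : R ≃* QuaternionGroup 2)
    (h2F : (2 : F) ≠ 0) {y : GL (Fin 2) F}
    (hy : y ∈ Subgroup.normalizer (R : Set (GL (Fin 2) F))) {r : ℕ} [hr : Fact r.Prime]
    (hr5 : 5 ≤ r) (hyr : y ^ r = 1) :
    ∃ s : F, (y : Matrix (Fin 2) (Fin 2) F) = s • 1 := by
  by_cases hy1 : y = 1
  · exact ⟨1, by rw [hy1, one_smul]; rfl⟩
  have hord : orderOf y = r := orderOf_eq_prime hyr hy1
  have hP : IsPGroup r (Subgroup.zpowers y) := by
    apply IsPGroup.of_card (n := 1)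
    rw [Nat.card_zpowers, hord, pow_one]
  have : Finite R := Finite.of_equiv _ e'.symm.toEquiv
  let _ := conjAct R y hy
  have hmod := hP.card_modEq_card_fixedPoints R
  have hR8 : Nat.card R = 8 := by
    rw [Nat.card_congr e'.toEquiv, Nat.card_eq_fintype_card, QuaternionGroup.card]
  -- the centralizer of `y` in `R`
  let C : Subgroup R :=
    { carrier := {x | y * x.1 * y⁻¹ = x.1}
      one_mem' := by simp
      mul_mem' := by
        intro u v hu hv
        show y * (u.1 * v.1) * y⁻¹ = u.1 * v.1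
        have hu' : y * u.1 * y⁻¹ = u.1 := hu
        have hv' : y * v.1 * y⁻¹ = v.1 := hv
        calc y * (u.1 * v.1) * y⁻¹ = (y * u.1 * y⁻¹) * (y * v.1 * y⁻¹) := by group
          _ = u.1 * v.1 := by rw [hu', hv']
      inv_mem' := by
        intro u hu
        show y * (u.1)⁻¹ * y⁻¹ = (u.1)⁻¹
        have hu' : y * u.1 * y⁻¹ = u.1 := hu
        calc y * (u.1)⁻¹ * y⁻¹ = (y * u.1 * y⁻¹)⁻¹ := by group
          _ = (u.1)⁻¹ := by rw [hu'] }
  have hfix : MulAction.fixedPoints (Subgroup.zpowers y) R = (C : Set R) := by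
    ext x
    rw [MulAction.mem_fixedPoints]
    constructor
    · intro h
      have := h ⟨y, Subgroup.mem_zpowers y⟩
      exact congrArg Subtype.val this
    · intro hx k
      have hx' : y * x.1 * y⁻¹ = x.1 := hx
      have hcomm : Commute y x.1 := by
        show y * x.1 = x.1 * y
        calc y * x.1 = (y * x.1 * y⁻¹) * y := by group
          _ = x.1 * y := by rw [hx']
      obtain ⟨n, hn⟩ := Subgroup.mem_zpowers_iff.1 k.2
      have hcomm' : Commute k.1 x.1 := by rw [← hn]; exact hcomm.zpow_left n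
      apply Subtype.ext
      show k.1 * x.1 * k.1⁻¹ = x.1
      rw [hcomm'.eq, mul_inv_cancel_right]
  rw [hfix, hR8] at hmod
  have hmod' : 8 ≡ Nat.card C [MOD r] := hmod
  have hCdvd : Nat.card C ∣ 2 ^ 3 := by
    have := Subgroup.card_subgroup_dvd_card C
    rw [hR8] at this
    simpa using this
  -- `-1 ∈ C`
  have hnegC : (⟨I ^ 2, Subgroup.pow_mem _ D.memI 2⟩ : R) ∈ C := by
    show y * I ^ 2 * y⁻¹ = I ^ 2
    apply Units.ext
    rw [Units.val_mul, Units.val_mul, D.sq_I, mul_neg, mul_one, neg_mul, ← Units.val_mul,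
      mul_inv_cancel, Units.val_one]
  have hC1 : Nat.card C ≠ 1 := by
    intro h1
    rw [Subgroup.card_eq_one] at h1
    rw [h1, Subgroup.mem_bot] at hnegC
    have h2 := congrArg (fun u : R => ((u : GL (Fin 2) F) : Matrix (Fin 2) (Fin 2) F)) hnegC
    simp only [D.sq_I] at h2
    exact neg_one_ne_one h2F h2
  have hCtop : C = ⊤ := by
    obtain ⟨k, hk, hck⟩ := (Nat.dvd_prime_pow Nat.prime_two).1 hCdvd
    have hk0 : k ≠ 0 := by
      rintro rfl
      exact hC1 (by rw [hck, pow_zero])
    have hrprime := hr.out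
    rw [hck] at hmod'
    interval_cases k
    · exact absurd rfl hk0
    · exfalso
      have hd : r ∣ 8 - 2 ^ 1 := (Nat.modEq_iff_dvd' (by norm_num)).1 hmod'.symm
      have hle : r ≤ 6 := Nat.le_of_dvd (by norm_num) hd
      interval_cases r
      · norm_num at hd
      · norm_num at hrprime
    · exfalso
      have hd : r ∣ 8 - 2 ^ 2 := (Nat.modEq_iff_dvd' (by norm_num)).1 hmod'.symm
      have hle : r ≤ 4 := Nat.le_of_dvd (by norm_num) hd
      omega
    · apply Subgroup.eq_top_of_card_eq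
      rw [hck, hR8]
      norm_num
  have hall : ∀ x ∈ R, y * x * y⁻¹ = x := by
    intro x hx
    have : (⟨x, hx⟩ : R) ∈ C := by rw [hCtop]; trivial
    exact this
  have hA : (y : Matrix (Fin 2) (Fin 2) F) * !![a, b; c, -a] = !![a, b; c, -a] * y := by
    have h1 := hall I D.memI
    have h2 : y * I = I * y := by
      calc y * I = (y * I * y⁻¹) * y := by group
        _ = I * y := by rw [h1]
    have := congrArg (fun u : GL (Fin 2) F => (u : Matrix (Fin 2) (Fin 2) F)) h2
    simpa only [Units.val_mul, D.hI] using this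
  have hB : (y : Matrix (Fin 2) (Fin 2) F) * !![e, f; g, -e] = !![e, f; g, -e] * y := by
    have h1 := hall J D.memJ
    have h2 : y * J = J * y := by
      calc y * J = (y * J * y⁻¹) * y := by group
        _ = J * y := by rw [h1]
    have := congrArg (fun u : GL (Fin 2) F => (u : Matrix (Fin 2) (Fin 2) F)) h2
    simpa only [Units.val_mul, D.hJ] using this
  exact ⟨_, scalar_of_commute h2F D.h1 D.h2 D.h3 _ hA hB⟩

end QData

end Cfsg.Agent.Lib.Helper6_Q8GL2
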