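import Mathlib
import Cfsg.Agent.Lib.Helper6_S6Defs
import Cfsg.Agent.Lib.Helper55_S6_ROT
import Cfsg.Agent.Lib.Helper42_S6_ROTFaux

/-!
# S3333 market, package CASES: the trichotomy for `π (N ⊓ L)`, a normal subgroup of `D8`.
-/

set_option autoImplicit false

namespace Cfsg.Agent.Lib.Helper6_S6_CASES

open Cfsg.Agent.Lib.Helper6_S6Defs Equiv Equiv.Perm

variable {G : Type*} [Group G] [Finite G] {S : Subgroup G}

/-- package ROTF (from the landed aux form and ROT) -/
theorem h6_rot_free (D : Setup G S) (n : ↥(Subgroup.normalizer (S : Set G))) (i : ZMod 4)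
    (hn : D.π n = DihedralGroup.r i) (hi : i ≠ 0) :
    ∀ x ∈ S, x ≠ 1 → (n : G) * x * (n : G)⁻¹ ≠ x :=
  Cfsg.Agent.Lib.Helper42_S6_ROTFaux.rot_free_of D
    (fun m hm => Cfsg.Agent.Lib.Helper55_S6_ROT.rot_inv D m hm) n i hn hi

/-- every element of `D8` of order not dividing 2 is `r 1` or `r 3` -/
private theorem h6_sq (q : DihedralGroup 4) (hq : q * q ≠ 1) : q = DihedralGroup.r 1 ∨ q = DihedralGroup.r 3 := by
  revert q; decide

private theorem h6_cases (q : DihedralGroup 4) : (∃ i, q = DihedralGroup.r i) ∨ (∃ i, q = DihedralGroup.sr i) := by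
  cases q with
  | r i => exact Or.inl ⟨i, rfl⟩
  | sr i => exact Or.inr ⟨i, rfl⟩

private theorem h6_conj : ∀ i : ZMod 4, DihedralGroup.sr i * (DihedralGroup.r (1 : ZMod 4) * DihedralGroup.sr i *
    (DihedralGroup.r (1 : ZMod 4))⁻¹) = DihedralGroup.r (2 : ZMod 4) := by decide

private theorem h6_four : ∀ (i : ZMod 4) (q : DihedralGroup 4), q * q = 1 →
    DihedralGroup.sr i * q * (DihedralGroup.sr i * q) = 1 →
    (q = 1 ∨ q = DihedralGroup.r 2 ∨ q = DihedralGroup.sr i ∨ q = DihedralGroup.sr (i + 2)) := by decide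

private theorem h6_card : ∀ i : ZMod 4, ({1, DihedralGroup.r 2, DihedralGroup.sr i, DihedralGroup.sr (i + 2)} :
    Finset (DihedralGroup 4)).card = 4 := by decide

/-- a subgroup of `D8` containing a reflection and an element of order 4 is everything -/
private theorem h6_top (Q : Subgroup (DihedralGroup 4)) (i : ZMod 4) (hi : DihedralGroup.sr i ∈ Q)
    (q : DihedralGroup 4) (hq : q ∈ Q) (hq2 : q * q ≠ 1) : Q = ⊤ := by
  have hr1 : DihedralGroup.r (1 : ZMod 4) ∈ Q := by
    rcases h6_sq q hq2 with rfl | rfl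
    · exact hq
    · have : DihedralGroup.r (1 : ZMod 4) = (DihedralGroup.r (3 : ZMod 4))⁻¹ := by decide
      rw [this]; exact Q.inv_mem hq
  have hr : ∀ j : ZMod 4, DihedralGroup.r j ∈ Q := by
    intro j
    have : DihedralGroup.r j = (DihedralGroup.r (1 : ZMod 4)) ^ j.val := by
      rw [DihedralGroup.r_one_pow]; simp
    rw [this]; exact Q.pow_mem hr1 _
  rw [eq_top_iff]
  intro x _
  rcases h6_cases x with ⟨j, rfl⟩ | ⟨j, rfl⟩
  · exact hr j
  · have : DihedralGroup.sr j = DihedralGroup.sr i * DihedralGroup.r (j - i) := by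
      rw [DihedralGroup.sr_mul_r]; congr 1; ring
    rw [this]; exact Q.mul_mem hi (hr _)

theorem cases (D : Setup G S) (L : Subgroup G) [L.Normal] (hSL : S ≤ L) :
    Subgroup.normalizer (S : Set G) ≤ L ∨
    (Nat.card ↥(Subgroup.normalizer (S : Set G) ⊓ L) = 36 ∧
      ∀ n ∈ Subgroup.normalizer (S : Set G) ⊓ L, n ^ 2 ∈ S) ∨
    ((∀ x ∈ S, x ≠ 1 → ∀ n ∈ Subgroup.normalizer (S : Set G) ⊓ L, n * x = x * n → n ∈ S) ∧
      ∃ n ∈ Subgroup.normalizer (S : Set G), n ∉ L) := by
  classical
  set N := Subgroup.normalizer (S : Set G) with hNdef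
  set Q : Subgroup (DihedralGroup 4) := (L.subgroupOf N).map D.π with hQdef
  have hQn : Q.Normal := Subgroup.Normal.map inferInstance D.π D.surj
  have hmemQ : ∀ n : ↥N, (n : G) ∈ L → D.π n ∈ Q := fun n hn =>
    Subgroup.mem_map_of_mem D.π (Subgroup.mem_subgroupOf.mpr hn)
  by_cases hsr : ∃ i, DihedralGroup.sr i ∈ Q
  · obtain ⟨i, hi⟩ := hsr
    by_cases hQ : Q = ⊤
    · -- first alternative
      left
      intro n hn
      have : D.π ⟨n, hn⟩ ∈ Q := by rw [hQ]; exact Subgroup.mem_top _
      obtain ⟨m, hm, hmn⟩ := this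
      have hmL : (m : G) ∈ L := Subgroup.mem_subgroupOf.mp hm
      have h1 : D.π (m⁻¹ * ⟨n, hn⟩) = 1 := by
        rw [map_mul, map_inv, hmn, inv_mul_cancel]
      have h2 : ((m⁻¹ * ⟨n, hn⟩ : ↥N) : G) ∈ S := (D.ker _).mp h1
      have h3 : (m : G)⁻¹ * n ∈ L := hSL (by simpa using h2)
      have : n = (m : G) * ((m : G)⁻¹ * n) := by group
      rw [this]; exact L.mul_mem hmL h3
    · -- second alternative
      right; left
      have hsq : ∀ q ∈ Q, q * q = 1 := by
        intro q hq
        by_contra hne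
        exact hQ (h6_top Q i hi q hq hne)
      -- the elements of Q
      have hr2 : DihedralGroup.r (2 : ZMod 4) ∈ Q := by
        have h1 : DihedralGroup.r (1 : ZMod 4) * DihedralGroup.sr i * (DihedralGroup.r (1 : ZMod 4))⁻¹ ∈ Q :=
          hQn.conj_mem _ hi _
        have h2 := Q.mul_mem hi h1
        rwa [h6_conj i] at h2
      have hQset : ∀ q : DihedralGroup 4, q ∈ Q ↔
          (q = 1 ∨ q = DihedralGroup.r 2 ∨ q = DihedralGroup.sr i ∨ q = DihedralGroup.sr (i + 2)) := by
        intro q
        constructor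
        · intro hq
          exact h6_four i q (hsq q hq) (hsq _ (Q.mul_mem hi hq))
        · rintro (rfl | rfl | rfl | rfl)
          · exact Q.one_mem
          · exact hr2
          · exact hi
          · have : DihedralGroup.sr (i + 2) = DihedralGroup.sr i * DihedralGroup.r 2 := by
              rw [DihedralGroup.sr_mul_r]
            rw [this]; exact Q.mul_mem hi hr2
      have hQcard : Nat.card Q = 4 := by
        have : (Q : Set (DihedralGroup 4)) = {1, DihedralGroup.r 2, DihedralGroup.sr i, DihedralGroup.sr (i + 2)} := by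
          ext q
          simp only [SetLike.mem_coe, hQset, Set.mem_insert_iff, Set.mem_singleton_iff]
        rw [← SetLike.coe_sort_coe, this, Nat.card_coe_set_eq]
        have h2 : ({1, DihedralGroup.r 2, DihedralGroup.sr i, DihedralGroup.sr (i + 2)} : Set (DihedralGroup 4))
            = ↑({1, DihedralGroup.r 2, DihedralGroup.sr i, DihedralGroup.sr (i + 2)} : Finset (DihedralGroup 4)) := by
          push_cast; rfl
        rw [h2, Set.ncard_coe_finset, h6_card i]
      constructor
      · -- cardinality: |N ⊓ L| = |ker| * |Q|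
        have e1 : Nat.card ↥(N ⊓ L) = Nat.card ↥(L.subgroupOf N) := by
          rw [inf_comm]
          exact Nat.card_congr (Subgroup.subgroupOfEquivOfLe (inf_le_right : L ⊓ N ≤ N)).symm.toEquiv |>.trans (by
            rw [Subgroup.inf_subgroupOf_right])
        rw [e1]
        set f : ↥(L.subgroupOf N) →* DihedralGroup 4 := D.π.domRestrict (L.subgroupOf N) with hf
        have hrange : f.range = Q := by rw [hf, MonoidHom.domRestrict_range]
        have hker : Nat.card f.ker = 9 := by
          rw [← D.card]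
          have : f.ker = (S.subgroupOf N).subgroupOf (L.subgroupOf N) := by
            ext x
            rw [MonoidHom.mem_ker, hf, MonoidHom.domRestrict_apply, D.ker, Subgroup.mem_subgroupOf,
              Subgroup.mem_subgroupOf]
          rw [this]
          have hle : S.subgroupOf N ≤ L.subgroupOf N := fun x hx =>
            Subgroup.mem_subgroupOf.mpr (hSL (Subgroup.mem_subgroupOf.mp hx))
          rw [Nat.card_congr (Subgroup.subgroupOfEquivOfLe hle).toEquiv]
          exact Nat.card_congr (Subgroup.subgroupOfEquivOfLe (Subgroup.le_normalizer)).toEquiv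
        have h3 := Subgroup.card_eq_card_quotient_mul_card_subgroup f.ker
        rw [Nat.card_congr (QuotientGroup.quotientKerEquivRange f).toEquiv, hrange, hQcard, hker] at h3
        omega
      · intro n hn
        have hnN : n ∈ N := hn.1
        have hq := hsq _ (hmemQ ⟨n, hnN⟩ hn.2)
        have h1 : D.π (⟨n, hnN⟩ ^ 2) = 1 := by rw [map_pow, pow_two]; exact hq
        have := (D.ker _).mp h1
        simpa using this
  · -- third alternative
    right; right
    push Not at hsr
    constructor
    · intro x hx hx1 n hn hcomm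
      have hnN : n ∈ N := hn.1
      have hq := hmemQ ⟨n, hnN⟩ hn.2
      rcases h6_cases (D.π ⟨n, hnN⟩) with ⟨j, hj⟩ | ⟨j, hj⟩
      · by_cases hj0 : j = 0
        · have : D.π ⟨n, hnN⟩ = 1 := by rw [hj, hj0]; rfl
          exact (D.ker _).mp this
        · exfalso
          apply h6_rot_free D ⟨n, hnN⟩ j hj hj0 x hx hx1
          show n * x * n⁻¹ = x
          rw [hcomm]; group
      · exact absurd (hj ▸ hq) (hsr j)
    · obtain ⟨n₀, hn₀⟩ := D.surj (DihedralGroup.sr 0)
      refine ⟨n₀, n₀.2, fun hL => hsr 0 ?_⟩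
      rw [← hn₀]; exact hmemQ n₀ hL

end Cfsg.Agent.Lib.Helper6_S6_CASES
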