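import Mathlib
import Cfsg.Agent.Lib.Helper6_S6Defs

set_option autoImplicit false
set_option linter.unusedSectionVars false

namespace Cfsg.Agent.Lib.Helper70_S6_A6CLS

open Cfsg.Agent.Lib.Helper6_S6Defs Equiv Equiv.Perm

variable {G : Type*} [Group G] [Finite G] {S : Subgroup G}

/-- an element of order 3 of `A6` which is not a 3-cycle has cycle type `{3, 3}` -/
theorem cycleType_33 (a : alternatingGroup (Fin 6)) (ha : orderOf a = 3)
    (ha3 : ¬ IsThreeCycle (a : Perm (Fin 6))) : (a : Perm (Fin 6)).cycleType = {3, 3} := by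
  have ho : orderOf (a : Perm (Fin 6)) = 3 := by rw [Subgroup.orderOf_coe]; exact ha
  obtain ⟨n, hn⟩ := Equiv.Perm.cycleType_prime_order (σ := (a : Perm (Fin 6)))
    (by rw [ho]; norm_num)
  rw [ho] at hn
  have hsum : (a : Perm (Fin 6)).cycleType.sum ≤ 6 := by
    have := Equiv.Perm.sum_cycleType_le (a : Perm (Fin 6))
    simpa using this
  rw [hn, Multiset.sum_replicate, smul_eq_mul] at hsum
  have hn1 : n = 0 ∨ n = 1 := by omega
  rcases hn1 with rfl | rfl
  · exfalso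
    apply ha3
    unfold IsThreeCycle
    rw [hn]; rfl
  · rw [hn]; rfl

/-- the reference element `(0 1 2)(3 4 5)` -/
def b0 : Perm (Fin 6) := (swap 0 1 * swap 0 2) * (swap 3 4 * swap 3 5)

/-- the odd permutation `(0 3)(1 4)(2 5)` commuting with `b0` -/
def t0 : Perm (Fin 6) := swap 0 3 * swap 1 4 * swap 2 5

theorem b0_cycleType : b0.cycleType = {3, 3} := by
  have h1 : IsThreeCycle (swap (0 : Fin 6) 1 * swap 0 2) :=
    isThreeCycle_swap_mul_swap_same (by decide) (by decide) (by decide)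
  have h2 : IsThreeCycle (swap (3 : Fin 6) 4 * swap 3 5) :=
    isThreeCycle_swap_mul_swap_same (by decide) (by decide) (by decide)
  have hd : Equiv.Perm.Disjoint (swap (0 : Fin 6) 1 * swap 0 2) (swap (3 : Fin 6) 4 * swap 3 5) := by
    intro x
    fin_cases x <;> decide
  unfold b0
  rw [hd.cycleType_mul, h1.cycleType, h2.cycleType]
  rfl

theorem t0_sign : Equiv.Perm.sign t0 = -1 := by
  unfold t0
  rw [Equiv.Perm.sign_mul, Equiv.Perm.sign_mul, Equiv.Perm.sign_swap (by decide),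
    Equiv.Perm.sign_swap (by decide), Equiv.Perm.sign_swap (by decide)]
  rfl

theorem t0_comm : t0 * b0 * t0⁻¹ = b0 := by
  rw [mul_inv_eq_iff_eq_mul]
  apply Equiv.ext
  intro x
  fin_cases x <;> decide

/-! ## PKG A6CLS (M) -/
theorem a6_classes (a b : alternatingGroup (Fin 6)) (ha : orderOf a = 3) (hb : orderOf b = 3)
    (ha3 : ¬ IsThreeCycle (a : Perm (Fin 6))) (hb3 : ¬ IsThreeCycle (b : Perm (Fin 6))) :
    IsConj a b := by
  have hA := cycleType_33 a ha ha3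
  have hB := cycleType_33 b hb hb3
  obtain ⟨s, hs⟩ := isConj_iff.1 (Equiv.Perm.isConj_iff_cycleType_eq.2 (hA.trans b0_cycleType.symm))
  obtain ⟨r, hr⟩ := isConj_iff.1 (Equiv.Perm.isConj_iff_cycleType_eq.2 (hB.trans b0_cycleType.symm))
  have hb' : (b : Perm (Fin 6)) = r⁻¹ * b0 * r := by
    rw [← hr]; group
  rw [isConj_iff]
  rcases Int.units_eq_one_or (Equiv.Perm.sign (r⁻¹ * s)) with h1 | h1
  · refine ⟨⟨r⁻¹ * s, Equiv.Perm.mem_alternatingGroup.2 h1⟩, ?_⟩
    apply Subtype.ext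
    show (r⁻¹ * s) * (a : Perm (Fin 6)) * (r⁻¹ * s)⁻¹ = (b : Perm (Fin 6))
    rw [hb', ← hs]; group
  · have h2 : Equiv.Perm.sign (r⁻¹ * t0 * s) = 1 := by
      rw [Equiv.Perm.sign_mul] at h1
      rw [Equiv.Perm.sign_mul, Equiv.Perm.sign_mul, t0_sign, mul_neg, mul_one, neg_mul, h1, neg_neg]
    refine ⟨⟨r⁻¹ * t0 * s, Equiv.Perm.mem_alternatingGroup.2 h2⟩, ?_⟩
    apply Subtype.ext
    show (r⁻¹ * t0 * s) * (a : Perm (Fin 6)) * (r⁻¹ * t0 * s)⁻¹ = (b : Perm (Fin 6))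
    rw [hb']
    have : (r⁻¹ * t0 * s) * (a : Perm (Fin 6)) * (r⁻¹ * t0 * s)⁻¹ =
        r⁻¹ * (t0 * (s * (a : Perm (Fin 6)) * s⁻¹) * t0⁻¹) * r := by group
    rw [this, hs, t0_comm]

end Cfsg.Agent.Lib.Helper70_S6_A6CLS
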