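import Mathlib
import Cfsg.Agent.Lib.Helper6_S6Defs

/-!
# S3333 market (architect helper6), package CENTL (core)

`cent_eq_bot_of`: the statement of CENTL with NSUB (`le_of_normal`) as a hypothesis.
-/

set_option autoImplicit false
set_option linter.unusedSectionVars false

namespace Cfsg.Agent.Lib.Helper78_S6_CENTLaux

open Cfsg.Agent.Lib.Helper6_S6Defs Equiv Equiv.Perm

variable {G : Type*} [Group G] [Finite G] {S : Subgroup G}

theorem cent_eq_bot_of (D : Setup G S)
    (nsub : ∀ (L : Subgroup G) [L.Normal], L ≠ ⊥ → S ≤ L)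
    (L : Subgroup G) [L.Normal] (hSL : S ≤ L)
    (hs : IsSimpleGroup ↥L) : Subgroup.centralizer (L : Set G) = ⊥ := by
  by_contra hC
  have hSC : S ≤ Subgroup.centralizer (L : Set G) := nsub _ hC
  -- `S.subgroupOf L ≤ center L`
  have hcen : S.subgroupOf L ≤ Subgroup.center ↥L := by
    intro s hs'
    rw [Subgroup.mem_subgroupOf] at hs'
    rw [Subgroup.mem_center_iff]
    intro l
    have := hSC hs'
    rw [Subgroup.mem_centralizer_iff] at this
    have h1 := this (l : G) l.2
    apply Subtype.ext
    simpa using h1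
  have hcard : Nat.card ↥(S.subgroupOf L) = 9 := by
    rw [Nat.card_congr (Subgroup.subgroupOfEquivOfLe hSL).toEquiv, D.card]
  have hne : Subgroup.center ↥L ≠ ⊥ := by
    intro h
    rw [h, le_bot_iff] at hcen
    rw [hcen] at hcard
    simp at hcard
  have htop : Subgroup.center ↥L = ⊤ := (hs.eq_bot_or_eq_top_of_normal _ inferInstance).resolve_left hne
  let _ : CommGroup ↥L := Group.commGroupOfCenterEqTop htop
  have hp : (Nat.card ↥L).Prime := IsSimpleGroup.prime_card (α := ↥L)
  have hdvd : 9 ∣ Nat.card ↥L := by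
    rw [← hcard]
    exact Subgroup.card_subgroup_dvd_card _
  rcases (Nat.dvd_prime hp).1 hdvd with h | h
  · omega
  · rw [← h] at hp
    norm_num at hp

end Cfsg.Agent.Lib.Helper78_S6_CENTLaux
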