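import Mathlib
import Cfsg.Agent.Lib.Helper6_S6Defs

/-!
# S3333 market (architect helper6), package PRES3 (core)

`pres3_of`: the statement of PRES3 with A6CLS (`a6_classes`), ORB (`two_orbits`) and the exponent
part of ELEM as hypotheses.
-/

set_option autoImplicit false
set_option linter.unusedSectionVars false

namespace Cfsg.Agent.Lib.Helper78_S6_PRES3aux

open Cfsg.Agent.Lib.Helper6_S6Defs Equiv Equiv.Perm

variable {G : Type*} [Group G] [Finite G] {S : Subgroup G}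

theorem pres3_of
    (hA6 : ∀ a b : alternatingGroup (Fin 6), orderOf a = 3 → orderOf b = 3 →
      ¬ IsThreeCycle (a : Perm (Fin 6)) → ¬ IsThreeCycle (b : Perm (Fin 6)) → IsConj a b)
    (hORB : ∃ x₀ ∈ S, ∃ x₁ ∈ S, x₀ ≠ 1 ∧ x₁ ≠ 1 ∧ ∀ g : G, g * x₀ * g⁻¹ ≠ x₁)
    (hexp : ∀ a ∈ S, a ^ 3 = 1)
    (L : Subgroup G) [L.Normal] (hSL : S ≤ L)
    (φ : ↥L ≃* alternatingGroup (Fin 6)) (g : G) (l : ↥L)
    (hl : IsThreeCycle ((φ l : alternatingGroup (Fin 6)) : Perm (Fin 6))) :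
    IsThreeCycle ((φ (MulAut.conjNormal g l) : alternatingGroup (Fin 6)) : Perm (Fin 6)) := by
  by_contra hnot
  -- orders
  have ho : ∀ y : ↥L, orderOf (φ y) = orderOf y := fun y => MulEquiv.orderOf_eq φ y
  have hol : orderOf l = 3 := by
    rw [← ho, ← Subgroup.orderOf_coe]
    exact hl.orderOf
  have hol' : orderOf (MulAut.conjNormal g l : ↥L) = 3 := by
    rw [MulEquiv.orderOf_eq]
    exact hol
  have hcoe' : ((MulAut.conjNormal g l : ↥L) : G) = g * (l : G) * g⁻¹ := MulAut.conjNormal_apply g l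
  -- transport of conjugacy from `A6` to `L`
  have htr : ∀ y z : ↥L, IsConj (φ y) (φ z) → ∃ c : ↥L, (c : G) * (y : G) * (c : G)⁻¹ = (z : G) := by
    intro y z hyz
    have h1 : IsConj (φ.symm (φ y)) (φ.symm (φ z)) := (φ.symm.toMonoidHom).map_isConj hyz
    rw [MulEquiv.symm_apply_apply, MulEquiv.symm_apply_apply, isConj_iff] at h1
    obtain ⟨c, hc⟩ := h1
    refine ⟨c, ?_⟩
    have := congrArg (fun t : ↥L => (t : G)) hc
    simpa using this
  -- every element of order 3 of `L` is conjugate in `G` to `l`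
  have key : ∀ y : ↥L, orderOf y = 3 → ∃ h : G, h * (l : G) * h⁻¹ = (y : G) := by
    intro y hy
    by_cases h3 : IsThreeCycle ((φ y : alternatingGroup (Fin 6)) : Perm (Fin 6))
    · obtain ⟨c, hc⟩ := htr l y
        (alternatingGroup.isThreeCycle_isConj (by simp) hl h3)
      exact ⟨c, hc⟩
    · obtain ⟨c, hc⟩ := htr (MulAut.conjNormal g l) y
        (hA6 _ _ (by rw [ho]; exact hol') (by rw [ho]; exact hy) hnot h3)
      refine ⟨(c : G) * g, ?_⟩
      rw [← hc, hcoe']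
      group
  obtain ⟨x₀, hx₀, x₁, hx₁, h0, h1, hne⟩ := hORB
  have hord : ∀ (x : G) (hx : x ∈ S), x ≠ 1 → orderOf (⟨x, hSL hx⟩ : ↥L) = 3 := by
    intro x hx hx1
    rw [← Subgroup.orderOf_coe]
    refine orderOf_eq_prime (hexp x hx) hx1
  obtain ⟨a, ha⟩ := key ⟨x₀, hSL hx₀⟩ (hord x₀ hx₀ h0)
  obtain ⟨b, hb⟩ := key ⟨x₁, hSL hx₁⟩ (hord x₁ hx₁ h1)
  refine hne (b * a⁻¹) ?_
  simp only at ha hb
  rw [← ha, ← hb]
  group

end Cfsg.Agent.Lib.Helper78_S6_PRES3aux
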