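import Mathlib
import Cfsg.Agent.Lib.Helper6_S6Defs
import Cfsg.Agent.S2119

/-!
# S3333 package EMBED (helper6's market `s6_packages`), by helper84.

If `L ⊴ G` with `L ≃* A₆`, `C_G(L) = 1`, conjugation by every `g : G` preserves the class of
3-cycles of `L` (through `φ`), and `L ≠ G`, then `G ≃* Perm (Fin 6)`.
-/

set_option autoImplicit false

namespace Cfsg.Agent.Lib.Helper84_S6_EMBED

open Cfsg.Agent.Lib.Helper6_S6Defs Equiv Equiv.Perm

variable {G : Type*} [Group G] [Finite G] {S : Subgroup G}

/-- the action of `G` on `A₆` transported along `φ` -/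
noncomputable def actF (L : Subgroup G) [L.Normal] (φ : ↥L ≃* alternatingGroup (Fin 6)) :
    G →* MulAut (alternatingGroup (Fin 6)) :=
  (MulAut.congr φ).toMonoidHom.comp MulAut.conjNormal

omit [Finite G] in
theorem actF_apply (L : Subgroup G) [L.Normal] (φ : ↥L ≃* alternatingGroup (Fin 6)) (g : G)
    (a : alternatingGroup (Fin 6)) :
    actF L φ g a = φ (MulAut.conjNormal g (φ.symm a)) := rfl

theorem embed (L : Subgroup G) [L.Normal]
    (φ : ↥L ≃* alternatingGroup (Fin 6))
    (hC : Subgroup.centralizer (L : Set G) = ⊥)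
    (hpres : ∀ (g : G) (l : ↥L), IsThreeCycle ((φ l : alternatingGroup (Fin 6)) : Perm (Fin 6)) →
      IsThreeCycle ((φ (MulAut.conjNormal g l) : alternatingGroup (Fin 6)) : Perm (Fin 6)))
    (hout : ∃ n : G, n ∉ L) : Nonempty (G ≃* Equiv.Perm (Fin 6)) := by
  classical
  have hinj : Function.Injective
      (MulAut.conjNormal : Perm (Fin 6) →* MulAut (alternatingGroup (Fin 6))) :=
    Cfsg.Agent.S2119.conj_injective (by norm_num : 4 ≤ 6)
  -- every `actF g` is conjugation by a permutation
  have hr : ∀ g : G, actF L φ g ∈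
      (MulAut.conjNormal : Perm (Fin 6) →* MulAut (alternatingGroup (Fin 6))).range := by
    intro g
    have h3 : ∀ a : alternatingGroup (Fin 6), IsThreeCycle (a : Perm (Fin 6)) →
        IsThreeCycle ((actF L φ g a : alternatingGroup (Fin 6)) : Perm (Fin 6)) := by
      intro a ha
      rw [actF_apply]
      apply hpres
      simp only [MulEquiv.apply_symm_apply]
      exact ha
    obtain ⟨s, hs⟩ := Cfsg.Agent.S2119.step2 (α := Fin 6) (by simp) (actF L φ g) h3
    exact ⟨s, hs⟩
  let ψ : G →* Perm (Fin 6) :=
    (MonoidHom.ofInjective hinj).symm.toMonoidHom.comp ((actF L φ).codRestrict _ hr)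
  have hψ : ∀ g : G, MulAut.conjNormal (ψ g) = actF L φ g := by
    intro g
    have := (MonoidHom.ofInjective hinj).apply_symm_apply (((actF L φ).codRestrict _ hr) g)
    exact congrArg Subtype.val this
  have hψinj : Function.Injective ψ := by
    rw [injective_iff_map_eq_one]
    intro g hg
    have h1 : actF L φ g = 1 := by rw [← hψ g, hg, map_one]
    have h2 : g ∈ Subgroup.centralizer (L : Set G) := by
      rw [Subgroup.mem_centralizer_iff]
      intro l hl
      have h3 := DFunLike.congr_fun h1 (φ ⟨l, hl⟩)
      rw [actF_apply] at h3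
      simp only [MulEquiv.symm_apply_apply, MulAut.one_apply, EmbeddingLike.apply_eq_iff_eq] at h3
      have h4 := congrArg Subtype.val h3
      simp only [MulAut.conjNormal_apply] at h4
      exact (mul_inv_eq_iff_eq_mul.mp h4).symm
    rw [hC] at h2
    exact Subgroup.mem_bot.mp h2
  -- cardinalities
  have hcL : Nat.card L = 360 := by
    rw [Nat.card_congr φ.toEquiv, Nat.card_eq_fintype_card]
    have := two_mul_card_alternatingGroup (α := Fin 6)
    rw [Fintype.card_perm, Fintype.card_fin] at this
    have h6 : (6 : ℕ).factorial = 720 := by decide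
    omega
  have hidx : 2 ≤ L.index := by
    have h0 : L.index ≠ 0 := Subgroup.index_ne_zero_of_finite
    have h1 : L.index ≠ 1 := by
      intro h
      rw [Subgroup.index_eq_one] at h
      obtain ⟨n, hn⟩ := hout
      exact hn (h ▸ Subgroup.mem_top n)
    omega
  have hcG : 720 ≤ Nat.card G := by
    rw [← L.card_mul_index, hcL]
    nlinarith
  have hcP : Nat.card (Perm (Fin 6)) = 720 := by
    rw [Nat.card_eq_fintype_card, Fintype.card_perm, Fintype.card_fin]
    decide
  have hbij : Function.Bijective ψ :=
    hψinj.bijective_of_nat_card_le (by rw [hcP]; exact hcG)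
  exact ⟨MulEquiv.ofBijective ψ hbij⟩

end Cfsg.Agent.Lib.Helper84_S6_EMBED
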