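import Mathlib
import Cfsg.Agent.S3716
import Cfsg.Agent.Lib.Helper6_S6Defs
import Cfsg.Agent.Lib.Helper31_S6_ELEM
import Cfsg.Agent.Lib.Helper44_S6_EXMIN
import Cfsg.Agent.Lib.Helper5_S6_NSUBv
import Cfsg.Agent.Lib.Helper39_S6_MINN
import Cfsg.Agent.Lib.Helper78_S6_CENTLaux
import Cfsg.Agent.Lib.Helper6_S6_CASES
import Cfsg.Agent.Lib.Helper78_S6_SYL2N
import Cfsg.Agent.Lib.Helper65_S6_CASED8aux
import Cfsg.Agent.Lib.Helper17_S6_CASEKLEIN
import Cfsg.Agent.Lib.Helper6_S6_CASECC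
import Cfsg.Agent.Lib.Helper70_S6_A6CLS
import Cfsg.Agent.Lib.Helper61_S6_ORB
import Cfsg.Agent.Lib.Helper78_S6_PRES3aux
import Cfsg.Agent.Lib.Helper84_S6_EMBED

/-!
# S3333: assembly of the `s6_packages` market (architect helper6).

`S` a Sylow 3-subgroup of order 9, `C_G(S) = S`, `N_G(S)/S ≃ D8`, `C_G(x) ≤ N_G(S)` for `x ∈ S ∖ 1`
⟹ `S ⊴ G` or `G ≃* Perm (Fin 6)`.  Reduction to S3341 (CC case), S3805 (Klein automizer),
S3716 (D8 automizer, simple) and `Cfsg.Agent.S2119.step2`.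
-/

set_option autoImplicit false

namespace Cfsg.Agent.Lib.Helper6_S6Main

open Cfsg.Agent.Lib.Helper6_S6Defs Equiv Equiv.Perm

variable {G : Type*} [Group G] [Finite G] {S : Subgroup G}

theorem main (D : Setup G S) : S.Normal ∨ Nonempty (G ≃* Equiv.Perm (Fin 6)) := by
  by_cases hSn : S.Normal
  · exact Or.inl hSn
  right
  have hG : Nontrivial G := by
    by_contra h
    rw [not_nontrivial_iff_subsingleton] at h
    have : Nat.card S ≤ 1 := Finite.card_le_one_iff_subsingleton.mpr inferInstance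
    rw [D.card] at this
    omega
  obtain ⟨L, hLn, hL, hmin⟩ := Cfsg.Agent.Lib.Helper44_S6_EXMIN.exists_min_normal hG
  have := hLn
  have hSL : S ≤ L := Cfsg.Agent.Lib.Helper5_S6_NSUBv.le_of_normal D L hL
  rcases Cfsg.Agent.Lib.Helper39_S6_MINN.simple_of_min_of_nsub D L hL hmin hSL with h | hs
  · exact absurd h hSn
  have hC : Subgroup.centralizer (L : Set G) = ⊥ :=
    Cfsg.Agent.Lib.Helper78_S6_CENTLaux.cent_eq_bot_of D
      (fun K _ hK => Cfsg.Agent.Lib.Helper5_S6_NSUBv.le_of_normal D K hK) L hSL hs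
  have hel := Cfsg.Agent.Lib.Helper31_S6_ELEM.elem D
  rcases Cfsg.Agent.Lib.Helper6_S6_CASES.cases D L hSL with hN | ⟨h36, hsq⟩ | ⟨hcc, hout⟩
  · exact (Cfsg.Agent.Lib.Helper65_S6_CASED8aux.case_d8_of D L hSL hs hN hel.2
      (fun T => Cfsg.Agent.Lib.Helper78_S6_SYL2N.sylow_two_normalizer D T)
      (fun M h9 hMel hCM N hN hCg hS => Cfsg.Agent.S3716.result M h9 hMel hCM N hN hCg hS)).elim
  · exact (Cfsg.Agent.Lib.Helper17_S6_CASEKLEIN.case_klein D L hSL hs h36 hsq).elim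
  · obtain ⟨φ⟩ := Cfsg.Agent.Lib.Helper6_S6_CASECC.case_cc D L hSL hs hcc
    obtain ⟨n, _, hnL⟩ := hout
    exact Cfsg.Agent.Lib.Helper84_S6_EMBED.embed L φ hC
      (fun g l hl => Cfsg.Agent.Lib.Helper78_S6_PRES3aux.pres3_of
        Cfsg.Agent.Lib.Helper70_S6_A6CLS.a6_classes
        (Cfsg.Agent.Lib.Helper61_S6_ORB.two_orbits D) hel.2 L hSL φ g l hl) ⟨n, hnL⟩

/-- the `Setup` from the hypotheses of S3333 -/
noncomputable def setupOf {G : Type*} [Group G]
    (P : Sylow 3 G) (S : Subgroup G) (hSP : S = P) (hcard : Nat.card S = 9)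
    (hC : Subgroup.centralizer (S : Set G) = S)
    (eN : Subgroup.normalizer (S : Set G) ⧸ S.subgroupOf (Subgroup.normalizer (S : Set G)) ≃* DihedralGroup 4)
    (hcent : ∀ x ∈ S, x ≠ 1 → Subgroup.centralizer ({x} : Set G) ≤ Subgroup.normalizer (S : Set G)) :
    Setup G S where
  π := eN.toMonoidHom.comp (QuotientGroup.mk' _)
  surj := eN.surjective.comp (QuotientGroup.mk'_surjective _)
  ker := by
    intro n
    simp only [MonoidHom.coe_comp, Function.comp_apply, MulEquiv.coe_toMonoidHom,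
      QuotientGroup.mk'_apply]
    rw [MulEquiv.map_eq_one_iff, QuotientGroup.eq_one_iff, Subgroup.mem_subgroupOf]
  syl := ⟨P, hSP⟩
  card := hcard
  cent := hC
  loc := hcent

end Cfsg.Agent.Lib.Helper6_S6Main
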