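import Mathlib
import Cfsg.Agent.S3341
import Cfsg.Agent.Lib.Helper6_S6Defs
import Cfsg.Agent.Lib.Helper31_S6_ELEM
import Cfsg.Agent.Lib.Helper70_S6_TRANS
import Cfsg.Agent.Lib.Helper61_S6_ORB

set_option autoImplicit false

namespace Cfsg.Agent.Lib.Helper6_S6_CASECC

open Cfsg.Agent.Lib.Helper6_S6Defs Equiv Equiv.Perm

variable {G : Type*} [Group G] [Finite G] {S : Subgroup G}

theorem case_cc (D : Setup G S) (L : Subgroup G) [L.Normal] (hSL : S ≤ L)
    (hs : IsSimpleGroup ↥L)
    (hcc : ∀ x ∈ S, x ≠ 1 → ∀ n ∈ Subgroup.normalizer (S : Set G) ⊓ L, n * x = x * n → n ∈ S) :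
    Nonempty (↥L ≃* alternatingGroup (Fin 6)) := by
  obtain ⟨⟨P, hP⟩, hcard, -, -, -⟩ := Cfsg.Agent.Lib.Helper70_S6_TRANS.trans_facts D L hSL
  obtain ⟨hcomm, hexp⟩ := Cfsg.Agent.Lib.Helper31_S6_ELEM.elem D
  obtain ⟨x₀, hx₀, x₁, hx₁, h01, h11, hnc⟩ := Cfsg.Agent.Lib.Helper61_S6_ORB.two_orbits D
  have hord : ∀ x ∈ S, x ≠ 1 → orderOf x = 3 := by
    intro x hx hx1
    have h3 : x ^ 3 = 1 := hexp x hx
    have hd : orderOf x ∣ 3 := orderOf_dvd_of_pow_eq_one h3
    rcases (Nat.dvd_prime Nat.prime_three).mp hd with h | h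
    · exact absurd (orderOf_eq_one_iff.mp h) hx1
    · exact h
  have := hs
  refine Cfsg.Agent.S3341.result P (S.subgroupOf L) hP ?_ ?_ hcard ?_ ?_
  · -- commutative
    refine ⟨⟨?_⟩⟩
    rintro ⟨a, ha⟩ ⟨b, hb⟩
    apply Subtype.ext
    apply Subtype.ext
    have := hcomm (a : G) (Subgroup.mem_subgroupOf.mp ha) (b : G) (Subgroup.mem_subgroupOf.mp hb)
    simpa using this
  · -- exponent
    intro a ha
    apply Subtype.ext
    have := hexp (a : G) (Subgroup.mem_subgroupOf.mp ha)
    simpa using this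
  · -- two classes
    refine ⟨⟨x₀, hSL hx₀⟩, ⟨x₁, hSL hx₁⟩, ?_, ?_, ?_⟩
    · rw [← Subgroup.orderOf_coe]; exact hord x₀ hx₀ h01
    · rw [← Subgroup.orderOf_coe]; exact hord x₁ hx₁ h11
    · intro g hg
      apply hnc (g : G)
      have := congrArg Subtype.val hg
      simpa using this
  · -- centralizers
    intro s hs' hs1
    have hsS : (s : G) ∈ S := Subgroup.mem_subgroupOf.mp hs'
    have hs1' : (s : G) ≠ 1 := fun h => hs1 (Subtype.ext h)
    apply le_antisymm
    · intro c hc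
      rw [Subgroup.mem_subgroupOf]
      have hcs : (c : G) * (s : G) = (s : G) * (c : G) := by
        have := Subgroup.mem_centralizer_iff.mp hc s (Set.mem_singleton s)
        have := congrArg Subtype.val this
        simpa using this.symm
      have hcN : (c : G) ∈ Subgroup.normalizer (S : Set G) := by
        apply D.loc (s : G) hsS hs1'
        rw [Subgroup.mem_centralizer_iff]
        intro y hy
        rw [Set.mem_singleton_iff] at hy
        rw [hy]; exact hcs.symm
      exact hcc (s : G) hsS hs1' (c : G) ⟨hcN, c.2⟩ hcs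
    · intro c hc
      rw [Subgroup.mem_centralizer_iff]
      intro y hy
      rw [Set.mem_singleton_iff] at hy
      subst hy
      apply Subtype.ext
      have := hcomm (y : G) hsS (c : G) (Subgroup.mem_subgroupOf.mp hc)
      simpa using this

end Cfsg.Agent.Lib.Helper6_S6_CASECC
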