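import Mathlib

set_option autoImplicit false

namespace Cfsg.Agent.Helper6SchurAn

variable {H : Type*} [Group H]

/-- centrality of an element -/
def Cen (c : H) : Prop := ∀ g : H, c * g = g * c

theorem Cen.one : Cen (1 : H) := fun g => by simp

theorem Cen.mul {c d : H} (hc : Cen c) (hd : Cen d) : Cen (c * d) := fun g => by
  rw [mul_assoc, hd g, ← mul_assoc, hc g, mul_assoc]

theorem Cen.inv {c : H} (hc : Cen c) : Cen c⁻¹ := fun g => by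
  have := hc g
  calc c⁻¹ * g = c⁻¹ * (g * c) * c⁻¹ := by group
    _ = c⁻¹ * (c * g) * c⁻¹ := by rw [this]
    _ = g * c⁻¹ := by group

theorem Cen.pow {c : H} (hc : Cen c) (n : ℕ) : Cen (c ^ n) := by
  induction n with
  | zero => simpa using Cen.one
  | succ n ih => rw [pow_succ]; exact ih.mul hc

theorem Cen.conj {c : H} (hc : Cen c) (g : H) : g * c * g⁻¹ = c := by
  rw [← hc g, mul_assoc, mul_inv_cancel, mul_one]

theorem Cen.commute {c : H} (hc : Cen c) (g : H) : Commute c g := hc g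

/-- Lemma A: the `A₄` computation. -/
theorem lemA (t r a γ : H) (ha : Cen a) (hγ : Cen γ) (h1 : t ^ 3 = 1) (h2 : (t * r) ^ 3 = 1)
    (h3 : r * r = a) (h4 : t * r * t⁻¹ * r = γ * (r * (t * r * t⁻¹))) :
    γ * γ = 1 ∧ γ * a ^ 3 = 1 := by
  have htt : t⁻¹ * t⁻¹ = t := by
    have : t * t * t = 1 := by rw [← h1, pow_three, mul_assoc]
    calc t⁻¹ * t⁻¹ = t⁻¹ * t⁻¹ * (t * t * t) := by rw [this, mul_one]
      _ = t := by group
  have hvv : t * r * t⁻¹ * (t * r * t⁻¹) = a := by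
    calc t * r * t⁻¹ * (t * r * t⁻¹) = t * (r * r) * t⁻¹ := by group
      _ = a := by rw [h3, ha.conj]
  have hww : t⁻¹ * r * t * (t⁻¹ * r * t) = a := by
    calc t⁻¹ * r * t * (t⁻¹ * r * t) = t⁻¹ * (r * r) * t⁻¹⁻¹ := by group
      _ = a := by rw [h3, ha.conj]
  have huvw : r * (t * r * t⁻¹) * (t⁻¹ * r * t) = 1 := by
    calc r * (t * r * t⁻¹) * (t⁻¹ * r * t) = r * t * r * (t⁻¹ * t⁻¹) * r * t := by group
      _ = r * t * r * t * r * t := by rw [htt]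
      _ = t⁻¹ * ((t * r) * ((t * r) * (t * r))) * t := by group
      _ = 1 := by rw [← pow_three, h2]; group
  have hγ2 : γ * γ = 1 := by
    have e1 : (t * r * t⁻¹) * r * (t * r * t⁻¹)⁻¹ = γ * r := by
      rw [h4]
      group
    have e2 : (γ * r) * (γ * r) = a := by
      rw [← e1]
      calc (t * r * t⁻¹) * r * (t * r * t⁻¹)⁻¹ * ((t * r * t⁻¹) * r * (t * r * t⁻¹)⁻¹)
          = (t * r * t⁻¹) * (r * r) * (t * r * t⁻¹)⁻¹ := by group
        _ = a := by rw [h3, ha.conj]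
    have e3 : (γ * r) * (γ * r) = γ * γ * a := by
      calc (γ * r) * (γ * r) = γ * (r * γ) * r := by group
        _ = γ * (γ * r) * r := by rw [hγ r]
        _ = γ * γ * (r * r) := by group
        _ = γ * γ * a := by rw [h3]
    rw [e3] at e2
    exact mul_eq_right.mp e2
  refine ⟨hγ2, ?_⟩
  have e4 : r * (t * r * t⁻¹) * (r * (t * r * t⁻¹)) = γ * a * a := by
    calc r * (t * r * t⁻¹) * (r * (t * r * t⁻¹))
        = r * ((t * r * t⁻¹) * r) * (t * r * t⁻¹) := by group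
      _ = r * (γ * (r * (t * r * t⁻¹))) * (t * r * t⁻¹) := by rw [h4]
      _ = (r * γ) * r * ((t * r * t⁻¹) * (t * r * t⁻¹)) := by group
      _ = (γ * r) * r * a := by rw [hvv, hγ r]
      _ = γ * (r * r) * a := by group
      _ = γ * a * a := by rw [h3]
  have e5 : r * (t * r * t⁻¹) = (t⁻¹ * r * t)⁻¹ := eq_inv_of_mul_eq_one_left huvw
  have e6 : r * (t * r * t⁻¹) * (r * (t * r * t⁻¹)) = a⁻¹ := by
    rw [e5, ← mul_inv_rev, hww]
  rw [e4] at e6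
  calc γ * a ^ 3 = γ * a * a * a := by simp only [pow_three, mul_assoc]
    _ = a⁻¹ * a := by rw [e6]
    _ = 1 := by group


/-- the product of the three conjugate involution lifts -/
theorem uvw_eq_one (t r : H) (h1 : t * t * t = 1) (h2 : (t * r) * (t * r) * (t * r) = 1) :
    r * (t * r * t⁻¹) * (t⁻¹ * r * t) = 1 := by
  have htt : t⁻¹ * t⁻¹ = t := by
    calc t⁻¹ * t⁻¹ = t⁻¹ * t⁻¹ * (t * t * t) := by rw [h1, mul_one]
      _ = t := by group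
  calc r * (t * r * t⁻¹) * (t⁻¹ * r * t) = r * t * r * (t⁻¹ * t⁻¹) * r * t := by group
    _ = r * t * r * t * r * t := by rw [htt]
    _ = t⁻¹ * ((t * r) * (t * r) * (t * r)) * t := by group
    _ = 1 := by rw [h2]; group

/-- Lemma B: in a "dihedral" configuration the cube of the product has order at most two. -/
theorem lemB (t t' c b : H) (hc : Cen c) (hb : Cen b) (hcc : c * c = 1) (ht : t * t = c)
    (ht' : t' * t' = c) (hbdef : b = (t * t') * (t * t') * (t * t')) : b * b = 1 := by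
  have hti : t'⁻¹ = c * t' := by
    apply inv_eq_of_mul_eq_one_left
    rw [mul_assoc, ht', hcc]
  have key : t * (t * t') * t⁻¹ = (t * t')⁻¹ := by
    calc t * (t * t') * t⁻¹ = (t * t) * t' * t⁻¹ := by group
      _ = c * t' * t⁻¹ := by rw [ht]
      _ = t'⁻¹ * t⁻¹ := by rw [hti]
      _ = (t * t')⁻¹ := by group
  have e : b = b⁻¹ := by
    calc b = t * b * t⁻¹ := (hb.conj t).symm
      _ = (t * (t * t') * t⁻¹) * (t * (t * t') * t⁻¹) * (t * (t * t') * t⁻¹) := by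
        rw [hbdef]; group
      _ = (t * t')⁻¹ * (t * t')⁻¹ * (t * t')⁻¹ := by rw [key]
      _ = b⁻¹ := by rw [hbdef]; group
  calc b * b = b * b⁻¹ := by rw [← e]
    _ = 1 := mul_inv_cancel b

/-- Lemma D1 -/
theorem lemD1 (ti tj c ε : H) (hc : Cen c) (hε : Cen ε) (hcc : c * c = 1) (hi : ti * ti = c)
    (hj : tj * tj = c) (h : tj * ti * tj⁻¹ = ε * ti) :
    ε * ε = 1 ∧ (ti * tj) * (ti * tj) = ε := by
  have h' : tj * ti = ε * ti * tj := by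
    calc tj * ti = (tj * ti * tj⁻¹) * tj := by group
      _ = ε * ti * tj := by rw [h]
  constructor
  · have e2 : (ε * ti) * (ε * ti) = c := by
      rw [← h]
      calc tj * ti * tj⁻¹ * (tj * ti * tj⁻¹) = tj * (ti * ti) * tj⁻¹ := by group
        _ = c := by rw [hi, hc.conj]
    have e3 : (ε * ti) * (ε * ti) = ε * ε * c := by
      calc (ε * ti) * (ε * ti) = ε * (ti * ε) * ti := by group
        _ = ε * (ε * ti) * ti := by rw [hε ti]
        _ = ε * ε * (ti * ti) := by group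
        _ = ε * ε * c := by rw [hi]
    rw [e3] at e2
    exact mul_eq_right.mp e2
  · calc (ti * tj) * (ti * tj) = ti * (tj * ti) * tj := by group
      _ = ti * (ε * ti * tj) * tj := by rw [h']
      _ = (ti * ε) * ti * (tj * tj) := by group
      _ = (ε * ti) * ti * c := by rw [hε ti, hj]
      _ = ε * (ti * ti) * c := by group
      _ = ε * (c * c) := by rw [hi, mul_assoc]
      _ = ε := by rw [hcc, mul_one]

/-- Lemma D2 -/
theorem lemD2 (tj ti ti' ε1 ε2 : H) (h1 : Cen ε1) (h2 : Cen ε2) (e1 : ε1 * ε1 = 1)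
    (e2 : ε2 * ε2 = 1) (hz : (ti * ti') * (ti * ti') * (ti * ti') = 1)
    (c1 : tj * ti * tj⁻¹ = ε1 * ti) (c2 : tj * ti' * tj⁻¹ = ε2 * ti') : ε1 = ε2 := by
  have hη : Cen (ε1 * ε2) := h1.mul h2
  have hz' : tj * (ti * ti') * tj⁻¹ = (ε1 * ε2) * (ti * ti') := by
    calc tj * (ti * ti') * tj⁻¹ = (tj * ti * tj⁻¹) * (tj * ti' * tj⁻¹) := by group
      _ = (ε1 * ti) * (ε2 * ti') := by rw [c1, c2]
      _ = ε1 * (ti * ε2) * ti' := by group
      _ = ε1 * (ε2 * ti) * ti' := by rw [h2 ti]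
      _ = (ε1 * ε2) * (ti * ti') := by group
  set z := ti * ti' with hzdef
  set η := ε1 * ε2 with hηdef
  have hcube : (η * z) * (η * z) * (η * z) = 1 := by
    rw [← hz']
    calc tj * z * tj⁻¹ * (tj * z * tj⁻¹) * (tj * z * tj⁻¹) = tj * (z * z * z) * tj⁻¹ := by group
      _ = 1 := by rw [hz]; group
  have hcube2 : (η * z) * (η * z) * (η * z) = η * η * η := by
    calc (η * z) * (η * z) * (η * z) = η * (z * η) * (z * η) * z := by group
      _ = η * (η * z) * (η * z) * z := by rw [← hη z]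
      _ = η * η * (z * η) * z * z := by group
      _ = η * η * (η * z) * z * z := by rw [← hη z]
      _ = η * η * η * (z * z * z) := by group
      _ = η * η * η := by rw [hz, mul_one]
  rw [hcube2] at hcube
  have hηη : η * η = 1 := by
    rw [hηdef]
    calc ε1 * ε2 * (ε1 * ε2) = ε1 * (ε2 * ε1) * ε2 := by group
      _ = ε1 * (ε1 * ε2) * ε2 := by rw [h2 ε1]
      _ = (ε1 * ε1) * (ε2 * ε2) := by group
      _ = 1 := by rw [e1, e2, mul_one]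
  rw [hηη, one_mul] at hcube
  -- ε1 * ε2 = 1 and ε2 * ε2 = 1
  calc ε1 = ε1 * (ε2 * ε2) := by rw [e2, mul_one]
    _ = (ε1 * ε2) * ε2 := by group
    _ = ε2 := by rw [← hηdef, hcube, one_mul]

/-- Lemma D3: the relation between the two commutator invariants. -/
theorem lemD3 (t0 t1 t3 c γ ε δ : H) (hc : Cen c) (hγ : Cen γ) (hε : Cen ε) (hδ : Cen δ)
    (hcc : c * c = 1) (h0 : t0 * t0 * t0 = 1) (h01 : (t0 * t1) * (t0 * t1) * (t0 * t1) = 1)
    (h1 : t1 * t1 = c) (h3 : t3 * t3 = c)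
    (cγ : (t0 * t1 * t0⁻¹) * t1 * (t0 * t1 * t0⁻¹)⁻¹ = γ * t1)
    (cε : t3 * t1 * t3⁻¹ = ε * t1) (cδ : t3 * t0 * t3⁻¹ = δ * t0⁻¹) : ε * γ = 1 := by
  have huvw := uvw_eq_one t0 t1 h0 h01
  set v := t0 * t1 * t0⁻¹ with hv
  set w := t0⁻¹ * t1 * t0 with hw
  have ht1i : t1⁻¹ = c * t1 := by
    apply inv_eq_of_mul_eq_one_left
    rw [mul_assoc, h1, hcc]
  have hvw : v * w = c * t1 := by
    rw [← ht1i]
    apply eq_inv_of_mul_eq_one_right
    rw [← mul_assoc]; exact huvw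
  have hδi : t3 * t0⁻¹ * t3⁻¹ = δ⁻¹ * t0 := by
    calc t3 * t0⁻¹ * t3⁻¹ = (t3 * t0 * t3⁻¹)⁻¹ := by group
      _ = (δ * t0⁻¹)⁻¹ := by rw [cδ]
      _ = t0 * δ⁻¹ := by group
      _ = δ⁻¹ * t0 := (hδ.inv t0).symm
  have hconj : t3 * v * t3⁻¹ = ε * w := by
    calc t3 * v * t3⁻¹ = (t3 * t0 * t3⁻¹) * (t3 * t1 * t3⁻¹) * (t3 * t0⁻¹ * t3⁻¹) := by
          rw [hv]; group
      _ = (δ * t0⁻¹) * (ε * t1) * (δ⁻¹ * t0) := by rw [cδ, cε, hδi]
      _ = δ * (t0⁻¹ * ε) * (t1 * δ⁻¹) * t0 := by group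
      _ = δ * (ε * t0⁻¹) * (δ⁻¹ * t1) * t0 := by rw [hε t0⁻¹, hδ.inv t1]
      _ = (δ * ε) * (t0⁻¹ * δ⁻¹) * t1 * t0 := by group
      _ = (ε * δ) * (δ⁻¹ * t0⁻¹) * t1 * t0 := by rw [hε δ, hδ.inv t0⁻¹]
      _ = ε * w := by rw [hw]; group
  have hff : (v * t3) * (v * t3) = ε * t1 := by
    calc (v * t3) * (v * t3) = v * (t3 * v * t3⁻¹) * (t3 * t3) := by group
      _ = v * (ε * w) * c := by rw [hconj, h3]
      _ = (v * ε) * w * c := by group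
      _ = (ε * v) * w * c := by rw [hε v]
      _ = ε * (v * w) * c := by group
      _ = ε * (c * t1) * c := by rw [hvw]
      _ = ε * c * (t1 * c) := by group
      _ = ε * c * (c * t1) := by rw [hc t1]
      _ = ε * (c * c) * t1 := by group
      _ = ε * t1 := by rw [hcc, mul_one]
  -- t1 commutes with f = v * t3
  have hcomm : (v * t3) * t1 * (v * t3)⁻¹ = t1 := by
    have : t1 = ε⁻¹ * ((v * t3) * (v * t3)) := by rw [hff]; group
    calc (v * t3) * t1 * (v * t3)⁻¹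
        = (v * t3) * (ε⁻¹ * ((v * t3) * (v * t3))) * (v * t3)⁻¹ := by rw [← this]
      _ = ((v * t3) * ε⁻¹) * (v * t3) := by group
      _ = (ε⁻¹ * (v * t3)) * (v * t3) := by rw [hε.inv (v * t3)]
      _ = ε⁻¹ * ((v * t3) * (v * t3)) := by group
      _ = t1 := this.symm
  have hcomm2 : (v * t3) * t1 * (v * t3)⁻¹ = (ε * γ) * t1 := by
    calc (v * t3) * t1 * (v * t3)⁻¹ = v * (t3 * t1 * t3⁻¹) * v⁻¹ := by group
      _ = v * (ε * t1) * v⁻¹ := by rw [cε]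
      _ = (v * ε) * t1 * v⁻¹ := by group
      _ = (ε * v) * t1 * v⁻¹ := by rw [hε v]
      _ = ε * (v * t1 * v⁻¹) := by group
      _ = ε * (γ * t1) := by rw [cγ]
      _ = (ε * γ) * t1 := by group
  rw [hcomm] at hcomm2
  exact (mul_eq_right.mp hcomm2.symm)

/-- Lemma E1 -/
theorem lemE1 (tj t0 c δ : H) (hc : Cen c) (hδ : Cen δ) (h0 : t0 * t0 * t0 = 1)
    (hj : tj * tj = c) (cδ : tj * t0 * tj⁻¹ = δ * t0⁻¹) :
    δ * δ * δ = 1 ∧ (t0 * tj) * (t0 * tj) = δ * c := by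
  constructor
  · have e1 : (δ * t0⁻¹) * (δ * t0⁻¹) * (δ * t0⁻¹) = 1 := by
      rw [← cδ]
      calc tj * t0 * tj⁻¹ * (tj * t0 * tj⁻¹) * (tj * t0 * tj⁻¹) = tj * (t0 * t0 * t0) * tj⁻¹ := by
            group
        _ = 1 := by rw [h0]; group
    have e2 : (δ * t0⁻¹) * (δ * t0⁻¹) * (δ * t0⁻¹) = δ * δ * δ := by
      calc (δ * t0⁻¹) * (δ * t0⁻¹) * (δ * t0⁻¹) = δ * (t0⁻¹ * δ) * (t0⁻¹ * δ) * t0⁻¹ := by group
        _ = δ * (δ * t0⁻¹) * (δ * t0⁻¹) * t0⁻¹ := by rw [← hδ t0⁻¹]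
        _ = δ * δ * (t0⁻¹ * δ) * t0⁻¹ * t0⁻¹ := by group
        _ = δ * δ * (δ * t0⁻¹) * t0⁻¹ * t0⁻¹ := by rw [← hδ t0⁻¹]
        _ = δ * δ * δ * (t0 * t0 * t0)⁻¹ := by group
        _ = δ * δ * δ := by rw [h0, inv_one, mul_one]
    rw [e2] at e1
    exact e1
  · have h' : tj * t0 = δ * t0⁻¹ * tj := by
      calc tj * t0 = (tj * t0 * tj⁻¹) * tj := by group
        _ = δ * t0⁻¹ * tj := by rw [cδ]
    calc (t0 * tj) * (t0 * tj) = t0 * (tj * t0) * tj := by group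
      _ = t0 * (δ * t0⁻¹ * tj) * tj := by rw [h']
      _ = (t0 * δ) * t0⁻¹ * (tj * tj) := by group
      _ = (δ * t0) * t0⁻¹ * c := by rw [hδ t0, hj]
      _ = δ * c := by group

theorem conj_sq (g t κ : H) (hκ : Cen κ) (h : g * t * g⁻¹ = κ * t) :
    (g * g) * t * (g * g)⁻¹ = (κ * κ) * t := by
  calc (g * g) * t * (g * g)⁻¹ = g * (g * t * g⁻¹) * g⁻¹ := by group
    _ = g * (κ * t) * g⁻¹ := by rw [h]
    _ = (g * κ * g⁻¹) * (g * t * g⁻¹) := by group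
    _ = κ * (κ * t) := by rw [hκ.conj, h]
    _ = (κ * κ) * t := by group

/-- Lemma E2 -/
theorem lemE2 (tj tj' t0 δ δ' : H) (hδ : Cen δ) (hδ' : Cen δ') (d3 : δ * δ * δ = 1)
    (d3' : δ' * δ' * δ' = 1)
    (hg : (tj' * tj) * (tj' * tj) * ((tj' * tj) * (tj' * tj)) = 1)
    (cδ : tj * t0 * tj⁻¹ = δ * t0⁻¹) (cδ' : tj' * t0 * tj'⁻¹ = δ' * t0⁻¹) : δ = δ' := by
  set κ := δ * δ'⁻¹ with hκdef
  have hκ : Cen κ := hδ.mul hδ'.inv
  have h1 : (tj' * tj) * t0 * (tj' * tj)⁻¹ = κ * t0 := by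
    calc (tj' * tj) * t0 * (tj' * tj)⁻¹ = tj' * (tj * t0 * tj⁻¹) * tj'⁻¹ := by group
      _ = tj' * (δ * t0⁻¹) * tj'⁻¹ := by rw [cδ]
      _ = (tj' * δ * tj'⁻¹) * (tj' * t0 * tj'⁻¹)⁻¹ := by group
      _ = δ * (δ' * t0⁻¹)⁻¹ := by rw [hδ.conj, cδ']
      _ = δ * (t0 * δ'⁻¹) := by group
      _ = δ * (δ'⁻¹ * t0) := by rw [hδ'.inv t0]
      _ = κ * t0 := by rw [hκdef]; group
  have h2 := conj_sq _ _ _ hκ h1
  have h4 := conj_sq _ _ _ (hκ.mul hκ) h2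
  rw [hg, one_mul, inv_one, mul_one] at h4
  have k4 : κ * κ * (κ * κ) = 1 := (mul_eq_right.mp h4.symm)
  have k3 : κ * κ * κ = 1 := by
    have hi3 : δ'⁻¹ * δ'⁻¹ * δ'⁻¹ = 1 := by
      calc δ'⁻¹ * δ'⁻¹ * δ'⁻¹ = (δ' * δ' * δ')⁻¹ := by group
        _ = 1 := by rw [d3', inv_one]
    rw [hκdef]
    calc δ * δ'⁻¹ * (δ * δ'⁻¹) * (δ * δ'⁻¹) = δ * (δ'⁻¹ * δ) * (δ'⁻¹ * δ) * δ'⁻¹ := by group
      _ = δ * (δ * δ'⁻¹) * (δ * δ'⁻¹) * δ'⁻¹ := by rw [hδ'.inv δ]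
      _ = δ * δ * (δ'⁻¹ * δ) * δ'⁻¹ * δ'⁻¹ := by group
      _ = δ * δ * (δ * δ'⁻¹) * δ'⁻¹ * δ'⁻¹ := by rw [hδ'.inv δ]
      _ = (δ * δ * δ) * (δ'⁻¹ * δ'⁻¹ * δ'⁻¹) := by group
      _ = 1 := by rw [d3, hi3, mul_one]
  have k1 : κ = 1 := by
    calc κ = (κ * κ * (κ * κ)) * (κ * κ * κ)⁻¹ := by group
      _ = 1 := by rw [k4, k3, inv_one, mul_one]
  rw [hκdef] at k1
  exact mul_inv_eq_one.mp k1

/-- Lemma E3: rescaling `t0` by `δ`. -/
theorem lemE3 (tj t0 c δ : H) (hδ : Cen δ) (d3 : δ * δ * δ = 1) (hj : tj * tj = c)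
    (cδ : tj * t0 * tj⁻¹ = δ * t0⁻¹) :
    ((δ * t0) * tj) * ((δ * t0) * tj) = c := by
  have hδi : δ⁻¹ = δ * δ := by
    apply inv_eq_of_mul_eq_one_left
    exact d3
  have h1 : tj * (δ * t0) * tj⁻¹ = (δ * t0)⁻¹ := by
    calc tj * (δ * t0) * tj⁻¹ = (tj * δ * tj⁻¹) * (tj * t0 * tj⁻¹) := by group
      _ = δ * (δ * t0⁻¹) := by rw [hδ.conj, cδ]
      _ = (δ * δ) * t0⁻¹ := by group
      _ = δ⁻¹ * t0⁻¹ := by rw [hδi]
      _ = t0⁻¹ * δ⁻¹ := hδ.inv t0⁻¹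
      _ = (δ * t0)⁻¹ := by group
  calc ((δ * t0) * tj) * ((δ * t0) * tj)
      = (δ * t0) * (tj * (δ * t0) * tj⁻¹) * (tj * tj) := by group
    _ = (δ * t0) * (δ * t0)⁻¹ * c := by rw [h1, hj]
    _ = c := by group

theorem cube_scale (t0 δ : H) (hδ : Cen δ) (d3 : δ * δ * δ = 1) (x : H) :
    ((δ * t0) * x) * ((δ * t0) * x) * ((δ * t0) * x) = (t0 * x) * (t0 * x) * (t0 * x) := by
  calc ((δ * t0) * x) * ((δ * t0) * x) * ((δ * t0) * x)
      = δ * (t0 * x * δ) * (t0 * x * δ) * (t0 * x) := by group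
    _ = δ * (δ * (t0 * x)) * (δ * (t0 * x)) * (t0 * x) := by rw [← hδ (t0 * x)]
    _ = δ * δ * ((t0 * x) * δ) * (t0 * x) * (t0 * x) := by group
    _ = δ * δ * (δ * (t0 * x)) * (t0 * x) * (t0 * x) := by rw [← hδ (t0 * x)]
    _ = (δ * δ * δ) * ((t0 * x) * (t0 * x) * (t0 * x)) := by group
    _ = (t0 * x) * (t0 * x) * (t0 * x) := by rw [d3, one_mul]

end Cfsg.Agent.Helper6SchurAn
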