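import Mathlib
import Cfsg.Agent.S3335
import Cfsg.Agent.Lib.Helper6_SchurAn1

set_option autoImplicit false

namespace Cfsg.Agent.Helper6SchurAn

section generic
variable {H : Type*} [Group H]

theorem comm_of_sq (a b : H) (ha : a * a = 1) (hb : b * b = 1) (hab : (a * b) * (a * b) = 1) :
    a * b = b * a := by
  have hai : a⁻¹ = a := inv_eq_of_mul_eq_one_left ha
  have hbi : b⁻¹ = b := inv_eq_of_mul_eq_one_left hb
  calc a * b = ((a * b) * (a * b))⁻¹ * (a * b) := by rw [hab, inv_one, one_mul]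
    _ = b⁻¹ * a⁻¹ := by group
    _ = b * a := by rw [hai, hbi]

theorem braid_of_cube (a b : H) (ha : a * a = 1) (hb : b * b = 1)
    (hab : (a * b) * (a * b) * (a * b) = 1) : a * b * a = b * a * b := by
  have hai : a⁻¹ = a := inv_eq_of_mul_eq_one_left ha
  have hbi : b⁻¹ = b := inv_eq_of_mul_eq_one_left hb
  calc a * b * a = ((a * b) * (a * b) * (a * b)) * (b⁻¹ * a⁻¹ * b⁻¹) := by group
    _ = b * a * b := by rw [hab, hai, hbi, one_mul]

theorem Cen.mul_cube {μ : H} (hμ : Cen μ) (s : H) :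
    (μ * s) * (μ * s) * (μ * s) = (μ * μ * μ) * (s * s * s) := by
  have := (hμ.commute s).mul_pow 3
  simpa only [pow_three'] using this

theorem Cen.mul_sq {μ : H} (hμ : Cen μ) (s : H) :
    (μ * s) * (μ * s) = (μ * μ) * (s * s) := by
  have := (hμ.commute s).mul_pow 2
  simpa only [pow_two] using this

theorem Cen.conj_mul {μ : H} (hμ : Cen μ) (g t : H) :
    g * (μ * t) * g⁻¹ = μ * (g * t * g⁻¹) := by
  calc g * (μ * t) * g⁻¹ = (g * μ) * t * g⁻¹ := by group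
    _ = (μ * g) * t * g⁻¹ := by rw [hμ g]
    _ = μ * (g * t * g⁻¹) := by group

theorem Cen.mul_conj {μ : H} (hμ : Cen μ) (g t : H) :
    (μ * g) * t * (μ * g)⁻¹ = g * t * g⁻¹ := by
  calc (μ * g) * t * (μ * g)⁻¹ = μ * (g * t * g⁻¹) * μ⁻¹ := by group
    _ = (g * t * g⁻¹) * μ * μ⁻¹ := by rw [hμ (g * t * g⁻¹)]
    _ = g * t * g⁻¹ := by group

theorem Cen.mul_left_comm {μ : H} (hμ : Cen μ) (g t : H) : g * (μ * t) = μ * (g * t) := by
  rw [← mul_assoc, ← hμ g, mul_assoc]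

end generic

/-- the presented group on `k + 1` Carmichael generators (`Cfsg.Agent.S3335.G (k + 1)`) -/
abbrev P (k : ℕ) : Type := Cfsg.Agent.S3335.G (k + 1)

/-- generators -/
def X (k : ℕ) (i : Fin (k + 1)) : P k := Cfsg.Agent.S3335.x i

theorem rel1 (k : ℕ) (i : Fin (k + 1)) (hi : i.val = 0) : X k i ^ 3 = 1 :=
  Cfsg.Agent.S3335.x_cube i hi

theorem rel2 (k : ℕ) (i : Fin (k + 1)) (hi : 1 ≤ i.val) : X k i ^ 2 = 1 :=
  Cfsg.Agent.S3335.x_sq i hi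

theorem rel3 (k : ℕ) (i j : Fin (k + 1)) (hij : j.val = i.val + 1) : (X k i * X k j) ^ 3 = 1 :=
  Cfsg.Agent.S3335.x_adj i j hij

theorem rel4 (k : ℕ) (i j : Fin (k + 1)) (hij : i.val + 1 < j.val) : (X k i * X k j) ^ 2 = 1 :=
  Cfsg.Agent.S3335.x_far i j hij

/-- the Carmichael generators indexed by `ℕ` (trivial out of range) -/
noncomputable def xs (k : ℕ) (i : ℕ) : P k := if h : i < k + 1 then X k ⟨i, h⟩ else 1

theorem xs_of_lt {k i : ℕ} (h : i < k + 1) : xs k i = X k ⟨i, h⟩ := by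
  unfold xs; rw [dif_pos h]

theorem xs_cube0 (k : ℕ) : xs k 0 * xs k 0 * xs k 0 = 1 := by
  rw [xs_of_lt (by omega : 0 < k + 1)]
  have := rel1 k (⟨0, by omega⟩ : Fin (k + 1)) rfl
  rw [pow_three'] at this
  exact this

theorem xs_sq {k i : ℕ} (h1 : 1 ≤ i) (h : i ≤ k) : xs k i * xs k i = 1 := by
  rw [xs_of_lt (by omega : i < k + 1)]
  have := rel2 k (⟨i, by omega⟩ : Fin (k + 1)) h1
  rwa [pow_two] at this

theorem xs_adj {k i : ℕ} (h : i + 1 ≤ k) :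
    (xs k i * xs k (i + 1)) * (xs k i * xs k (i + 1)) * (xs k i * xs k (i + 1)) = 1 := by
  rw [xs_of_lt (by omega : i + 1 < k + 1), xs_of_lt (by omega : i < k + 1)]
  have := rel3 k (⟨i, by omega⟩ : Fin (k + 1)) ⟨i + 1, by omega⟩ rfl
  rw [pow_three'] at this
  exact this

theorem xs_far {k i j : ℕ} (hij : i + 1 < j) (h : j ≤ k) :
    (xs k i * xs k j) * (xs k i * xs k j) = 1 := by
  rw [xs_of_lt (by omega : j < k + 1), xs_of_lt (by omega : i < k + 1)]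
  have := rel4 k (⟨i, by omega⟩ : Fin (k + 1)) ⟨j, by omega⟩ hij
  rwa [pow_two] at this

theorem xs_inv {k i : ℕ} (h1 : 1 ≤ i) (h : i ≤ k) : (xs k i)⁻¹ = xs k i :=
  inv_eq_of_mul_eq_one_left (xs_sq h1 h)

/-- Q1 -/
theorem xs_conj_next {k i : ℕ} (h1 : 1 ≤ i) (h : i + 1 ≤ k) :
    (xs k i * xs k (i + 1)) * xs k i * (xs k i * xs k (i + 1))⁻¹ = xs k (i + 1) := by
  have ha := xs_sq h1 (by omega : i ≤ k)
  have hb := xs_sq (by omega : 1 ≤ i + 1) h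
  have hbr := braid_of_cube (xs k i) (xs k (i + 1)) ha hb (xs_adj h)
  have hai := xs_inv h1 (by omega : i ≤ k)
  have hbi := xs_inv (by omega : 1 ≤ i + 1) h
  generalize xs k i = a at *
  generalize xs k (i + 1) = b at *
  calc (a * b) * a * (a * b)⁻¹ = (a * b * a) * b⁻¹ * a⁻¹ := by group
    _ = (b * a * b) * b⁻¹ * a⁻¹ := by rw [hbr]
    _ = b := by group

/-- Q2 -/
theorem xs_comm {k i j : ℕ} (h1 : 1 ≤ i) (hij : i + 1 < j) (h : j ≤ k) :
    xs k i * xs k j = xs k j * xs k i :=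
  comm_of_sq _ _ (xs_sq h1 (by omega)) (xs_sq (by omega) h) (xs_far hij h)

/-- Q3 -/
theorem xs_conj_zero {k j : ℕ} (h2 : 2 ≤ j) (h : j ≤ k) :
    xs k j * xs k 0 * (xs k j)⁻¹ = (xs k 0)⁻¹ := by
  have hb := xs_sq (by omega : 1 ≤ j) h
  have hf := xs_far (i := 0) (by omega : 0 + 1 < j) h
  rw [xs_inv (by omega) h]
  generalize xs k 0 = a at *
  generalize xs k j = b at *
  calc b * a * b = a⁻¹ * ((a * b) * (a * b)) := by group
    _ = a⁻¹ := by rw [hf, mul_one]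

/-- Q4 -/
theorem xs_v_comm {k : ℕ} (h : 1 ≤ k) :
    (xs k 0 * xs k 1 * (xs k 0)⁻¹) * xs k 1 * (xs k 0 * xs k 1 * (xs k 0)⁻¹)⁻¹ = xs k 1 := by
  have h0 := xs_cube0 k
  have h1 := xs_sq (le_refl 1) h
  have h01 := xs_adj (i := 0) (by omega : 0 + 1 ≤ k)
  rw [zero_add] at h01
  generalize xs k 0 = a at *
  generalize xs k 1 = b at *
  have hbi : b⁻¹ = b := inv_eq_of_mul_eq_one_left h1
  have hai : a⁻¹ = a * a := by
    apply inv_eq_of_mul_eq_one_left; exact h0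
  -- a b a = b a⁻¹ b
  have e1 : a * b * a = b * a⁻¹ * b := by
    calc a * b * a = ((a * b) * (a * b) * (a * b)) * b⁻¹ * a⁻¹ * b⁻¹ := by group
      _ = b * a⁻¹ * b := by rw [h01, hbi]; group
  have e2 : a⁻¹ * b * a⁻¹ = b * a * b := by
    calc a⁻¹ * b * a⁻¹ = (a * b⁻¹ * a)⁻¹ := by group
      _ = (a * b * a)⁻¹ := by rw [hbi]
      _ = (b * a⁻¹ * b)⁻¹ := by rw [e1]
      _ = b⁻¹ * a * b⁻¹ := by group
      _ = b * a * b := by rw [hbi]
  have haa : a⁻¹ * a⁻¹ = a := by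
    rw [hai]
    calc a * a * (a * a) = (a * a * a) * a := by group
      _ = a := by rw [h0, one_mul]
  -- goal: a b a⁻¹ b a b⁻¹ a⁻¹ = b
  calc (a * b * a⁻¹) * b * (a * b * a⁻¹)⁻¹ = a * b * (a⁻¹ * b * a) * b⁻¹ * a⁻¹ := by group
    _ = a * b * (a⁻¹ * b * a⁻¹ * a⁻¹⁻¹ * a) * b⁻¹ * a⁻¹ := by group
    _ = a * b * (b * a * b * a * a) * b * a⁻¹ := by rw [e2, hbi, inv_inv]
    _ = a * (b * b) * (a * b * a) * a * b * a⁻¹ := by group
    _ = a * (b * a⁻¹ * b) * a * b * a⁻¹ := by rw [h1, mul_one, e1]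
    _ = (a * b * a⁻¹) * (b * a * b) * a⁻¹ := by group
    _ = (a * b * a⁻¹) * (a⁻¹ * b * a⁻¹) * a⁻¹ := by rw [e2]
    _ = a * b * (a⁻¹ * a⁻¹) * b * (a⁻¹ * a⁻¹) := by group
    _ = a * b * a * b * a := by rw [haa]
    _ = ((a * b) * (a * b) * (a * b)) * b⁻¹ := by group
    _ = b := by rw [h01, hbi, one_mul]

end Cfsg.Agent.Helper6SchurAn
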