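import Mathlib
import Cfsg.Prelude.Def_KGroupFacts
import Cfsg.Agent.Lib.Helper6_SchurAn1

set_option autoImplicit false

namespace Cfsg.Agent.Helper6SchurAn

open scoped commutatorElement

section pullback

variable {H G : Type*} [Group H] [Group G] (N : Subgroup H) [N.Normal] (φ : G →* H ⧸ N)

/-- the pullback of `H → H ⧸ N` along `φ : G → H ⧸ N` -/
def pullSub : Subgroup (H × G) where
  carrier := {x | QuotientGroup.mk' N x.1 = φ x.2}
  one_mem' := by simp
  mul_mem' := by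
    intro a b ha hb
    simp only [Set.mem_ofPred_eq, Prod.fst_mul, Prod.snd_mul, map_mul] at *
    rw [ha, hb]
  inv_mem' := by
    intro a ha
    simp only [Set.mem_ofPred_eq, Prod.fst_inv, Prod.snd_inv, map_inv] at *
    rw [ha]

theorem mem_pullSub (x : H × G) : x ∈ pullSub N φ ↔ QuotientGroup.mk' N x.1 = φ x.2 := Iff.rfl

/-- the projection of the pullback onto `G` -/
def pullHom : ↥(pullSub N φ) →* G := (MonoidHom.snd H G).comp (pullSub N φ).subtype

theorem pullHom_apply (x : ↥(pullSub N φ)) : pullHom N φ x = x.1.2 := rfl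

theorem pullHom_surjective : Function.Surjective (pullHom N φ) := by
  intro g
  obtain ⟨h, hh⟩ := QuotientGroup.mk'_surjective N (φ g)
  exact ⟨⟨(h, g), hh⟩, rfl⟩

theorem mem_pullHom_ker (x : ↥(pullSub N φ)) :
    x ∈ (pullHom N φ).ker ↔ x.1.2 = 1 := by
  rw [MonoidHom.mem_ker, pullHom_apply]

theorem fst_mem_of_mem_ker (x : ↥(pullSub N φ)) (hx : x ∈ (pullHom N φ).ker) : x.1.1 ∈ N := by
  have h1 : x.1.2 = 1 := (mem_pullHom_ker N φ x).mp hx
  have h2 : QuotientGroup.mk' N x.1.1 = φ x.1.2 := x.2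
  rw [h1, map_one] at h2
  exact (QuotientGroup.eq_one_iff _).mp h2

theorem pullHom_ker_central (hN : N ≤ Subgroup.center H) :
    (pullHom N φ).ker ≤ Subgroup.center ↥(pullSub N φ) := by
  intro x hx
  rw [Subgroup.mem_center_iff]
  intro y
  have h1 : x.1.2 = 1 := (mem_pullHom_ker N φ x).mp hx
  have h2 := Subgroup.mem_center_iff.mp (hN (fst_mem_of_mem_ker N φ x hx))
  apply Subtype.ext
  apply Prod.ext
  · exact h2 y.1.1
  · show y.1.2 * x.1.2 = x.1.2 * y.1.2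
    rw [h1, mul_one, one_mul]

end pullback

/-- a stem extension from a projective model: `ζ` central in `H`, `φ : G → H ⧸ ⟨ζ⟩`, and `ζ` a
commutator of two elements lying over commuting elements of `G`. -/
theorem exists_stem_of_model {H G : Type} [Group H] [Group G] [Finite H] [Finite G] (ζ : H)
    (hζ : Cen ζ) [hn : (Subgroup.zpowers ζ).Normal] (φ : G →* H ⧸ Subgroup.zpowers ζ)
    (a b : H) (ya yb : G) (ha : QuotientGroup.mk' (Subgroup.zpowers ζ) a = φ ya)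
    (hb : QuotientGroup.mk' (Subgroup.zpowers ζ) b = φ yb) (hy : ya * yb = yb * ya)
    (hab : a * b * a⁻¹ * b⁻¹ = ζ) :
    ∃ (Γ : Type) (_ : Group Γ) (_ : Finite Γ) (σ : Γ →* G) (w : Γ), Cfsg.IsStemExtension σ ∧
      σ.ker = Subgroup.zpowers w ∧ orderOf w = orderOf ζ := by
  have hNc : Subgroup.zpowers ζ ≤ Subgroup.center H := by
    rw [Subgroup.zpowers_le, Subgroup.mem_center_iff]
    intro g
    exact (hζ g).symm
  have hζmem : ((ζ, 1) : H × G) ∈ pullSub (Subgroup.zpowers ζ) φ := by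
    rw [mem_pullSub]
    show QuotientGroup.mk' (Subgroup.zpowers ζ) ζ = φ 1
    rw [map_one]
    exact (QuotientGroup.eq_one_iff ζ).mpr (Subgroup.mem_zpowers ζ)
  let w : ↥(pullSub (Subgroup.zpowers ζ) φ) := ⟨(ζ, 1), hζmem⟩
  have hker : (pullHom (Subgroup.zpowers ζ) φ).ker = Subgroup.zpowers w := by
    apply le_antisymm
    · intro x hx
      have h1 : x.1.2 = 1 := (mem_pullHom_ker _ φ x).mp hx
      obtain ⟨m, hm⟩ := Subgroup.mem_zpowers_iff.mp (fst_mem_of_mem_ker _ φ x hx)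
      rw [Subgroup.mem_zpowers_iff]
      refine ⟨m, ?_⟩
      apply Subtype.ext
      rw [Subgroup.coe_zpow]
      apply Prod.ext
      · rw [Prod.pow_fst]; exact hm
      · rw [Prod.pow_snd, h1]; exact one_zpow m
    · rw [Subgroup.zpowers_le, mem_pullHom_ker]
  have hord : orderOf w = orderOf ζ := by
    have h1 : orderOf w = orderOf ((ζ, 1) : H × G) :=
      (Subgroup.orderOf_coe w).symm
    rw [h1, Prod.orderOf_mk]
    simp
  refine ⟨↥(pullSub (Subgroup.zpowers ζ) φ), inferInstance, inferInstance,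
    pullHom (Subgroup.zpowers ζ) φ, w, ⟨pullHom_surjective _ φ, pullHom_ker_central _ φ hNc, ?_⟩,
    hker, hord⟩
  rw [hker, Subgroup.zpowers_le]
  -- `w` is a commutator
  let A : ↥(pullSub (Subgroup.zpowers ζ) φ) := ⟨(a, ya), ha⟩
  let B : ↥(pullSub (Subgroup.zpowers ζ) φ) := ⟨(b, yb), hb⟩
  have hw : w = ⁅A, B⁆ := by
    apply Subtype.ext
    rw [commutatorElement_def]
    apply Prod.ext
    · show ζ = a * b * a⁻¹ * b⁻¹
      exact hab.symm
    · show (1 : G) = ya * yb * ya⁻¹ * yb⁻¹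
      rw [hy]; group
  rw [hw]
  exact Subgroup.commutator_mem_commutator (Subgroup.mem_top A) (Subgroup.mem_top B)


section fiber

variable {G₂ G₃ G : Type*} [Group G₂] [Group G₃] [Group G] (σ₂ : G₂ →* G) (σ₃ : G₃ →* G)

/-- the fibre product of two homomorphisms onto `G` -/
def fiberSub : Subgroup (G₂ × G₃) where
  carrier := {x | σ₂ x.1 = σ₃ x.2}
  one_mem' := by simp
  mul_mem' := by
    intro a b ha hb
    simp only [Set.mem_ofPred_eq, Prod.fst_mul, Prod.snd_mul, map_mul] at *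
    rw [ha, hb]
  inv_mem' := by
    intro a ha
    simp only [Set.mem_ofPred_eq, Prod.fst_inv, Prod.snd_inv, map_inv] at *
    rw [ha]

theorem mem_fiberSub (x : G₂ × G₃) : x ∈ fiberSub σ₂ σ₃ ↔ σ₂ x.1 = σ₃ x.2 := Iff.rfl

/-- the structure map of the fibre product -/
def fiberHom : ↥(fiberSub σ₂ σ₃) →* G := σ₂.comp ((MonoidHom.fst G₂ G₃).comp (fiberSub σ₂ σ₃).subtype)

theorem fiberHom_apply (x : ↥(fiberSub σ₂ σ₃)) : fiberHom σ₂ σ₃ x = σ₂ x.1.1 := rfl

theorem fiberHom_apply' (x : ↥(fiberSub σ₂ σ₃)) : fiberHom σ₂ σ₃ x = σ₃ x.1.2 := by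
  rw [fiberHom_apply]; exact x.2

end fiber

theorem stem_fiber {G₂ G₃ G : Type} [Group G₂] [Group G₃] [Group G] [Finite G₂] [Finite G₃]
    (σ₂ : G₂ →* G) (σ₃ : G₃ →* G) (h₂ : Cfsg.IsStemExtension σ₂) (h₃ : Cfsg.IsStemExtension σ₃)
    (z : G₂) (hz : σ₂.ker = Subgroup.zpowers z) (hz2 : orderOf z = 2)
    (w : G₃) (hw : σ₃.ker = Subgroup.zpowers w) (hw3 : orderOf w = 3) :
    ∃ (Γ : Type) (_ : Group Γ) (_ : Finite Γ) (σ : Γ →* G), Cfsg.IsStemExtension σ ∧
      Nonempty (σ.ker ≃* Multiplicative (ZMod 6)) := by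
  obtain ⟨s₂, c₂, d₂⟩ := h₂
  obtain ⟨s₃, c₃, d₃⟩ := h₃
  have hzk : z ∈ σ₂.ker := by rw [hz]; exact Subgroup.mem_zpowers z
  have hwk : w ∈ σ₃.ker := by rw [hw]; exact Subgroup.mem_zpowers w
  have hz1 : σ₂ z = 1 := MonoidHom.mem_ker.mp hzk
  have hw1 : σ₃ w = 1 := MonoidHom.mem_ker.mp hwk
  have hzz : z ^ 2 = 1 := by rw [← hz2]; exact pow_orderOf_eq_one z
  have hww : w ^ 3 = 1 := by rw [← hw3]; exact pow_orderOf_eq_one w
  have hk2 : ∀ a ∈ σ₂.ker, a ^ 2 = 1 := by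
    intro a ha
    rw [hz] at ha
    obtain ⟨m, rfl⟩ := Subgroup.mem_zpowers_iff.mp ha
    rw [← zpow_natCast, ← zpow_mul, mul_comm, zpow_mul, zpow_natCast, hzz, one_zpow]
  have hk3 : ∀ b ∈ σ₃.ker, b ^ 3 = 1 := by
    intro b hb
    rw [hw] at hb
    obtain ⟨m, rfl⟩ := Subgroup.mem_zpowers_iff.mp hb
    rw [← zpow_natCast, ← zpow_mul, mul_comm, zpow_mul, zpow_natCast, hww, one_zpow]
  let F := fiberSub σ₂ σ₃
  let σ : ↥F →* G := fiberHom σ₂ σ₃
  have hσsurj : Function.Surjective σ := by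
    intro g
    obtain ⟨a, ha⟩ := s₂ g
    obtain ⟨b, hb⟩ := s₃ g
    exact ⟨⟨(a, b), by rw [mem_fiberSub]; rw [ha, hb]⟩, ha⟩
  have hkerσ : ∀ x : ↥F, x ∈ σ.ker ↔ x.1.1 ∈ σ₂.ker ∧ x.1.2 ∈ σ₃.ker := by
    intro x
    rw [MonoidHom.mem_ker, MonoidHom.mem_ker, MonoidHom.mem_ker]
    constructor
    · intro h
      exact ⟨h, by rw [← fiberHom_apply' σ₂ σ₃ x]; exact h⟩
    · intro h; exact h.1
  have hcentral : σ.ker ≤ Subgroup.center ↥F := by
    intro x hx
    obtain ⟨h1, h2⟩ := (hkerσ x).mp hx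
    rw [Subgroup.mem_center_iff]
    intro y
    apply Subtype.ext
    apply Prod.ext
    · exact Subgroup.mem_center_iff.mp (c₂ h1) y.1.1
    · exact Subgroup.mem_center_iff.mp (c₃ h2) y.1.2
  -- projections are surjective
  let p₁ : ↥F →* G₂ := (MonoidHom.fst G₂ G₃).comp F.subtype
  let p₂ : ↥F →* G₃ := (MonoidHom.snd G₂ G₃).comp F.subtype
  have hp₁ : Function.Surjective p₁ := by
    intro a
    obtain ⟨b, hb⟩ := s₃ (σ₂ a)
    exact ⟨⟨(a, b), by rw [mem_fiberSub]; exact hb.symm⟩, rfl⟩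
  have hp₂ : Function.Surjective p₂ := by
    intro b
    obtain ⟨a, ha⟩ := s₂ (σ₃ b)
    exact ⟨⟨(a, b), by rw [mem_fiberSub]; exact ha⟩, rfl⟩
  have hmap₁ : (commutator ↥F).map p₁ = commutator G₂ := by
    rw [commutator_def, Subgroup.map_commutator, ← MonoidHom.range_eq_map,
      MonoidHom.range_eq_top.mpr hp₁, commutator_def]
  have hmap₂ : (commutator ↥F).map p₂ = commutator G₃ := by
    rw [commutator_def, Subgroup.map_commutator, ← MonoidHom.range_eq_map,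
      MonoidHom.range_eq_top.mpr hp₂, commutator_def]
  -- the two generators
  have hzmem : ((z, 1) : G₂ × G₃) ∈ F := by rw [mem_fiberSub]; show σ₂ z = σ₃ 1; rw [hz1, map_one]
  have hwmem : ((1, w) : G₂ × G₃) ∈ F := by rw [mem_fiberSub]; show σ₂ 1 = σ₃ w; rw [hw1, map_one]
  let Zt : ↥F := ⟨(z, 1), hzmem⟩
  let Wt : ↥F := ⟨(1, w), hwmem⟩
  have hZcomm : Zt ∈ commutator ↥F := by
    have : z ∈ (commutator ↥F).map p₁ := by rw [hmap₁]; exact d₂ hzk
    obtain ⟨f, hf, hfz⟩ := this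
    have hf1 : f.1.1 = z := hfz
    have hf2 : f.1.2 ∈ σ₃.ker := by
      rw [MonoidHom.mem_ker, ← fiberHom_apply' σ₂ σ₃ f, fiberHom_apply, hf1, hz1]
    have : Zt = f ^ 3 := by
      apply Subtype.ext
      rw [Subgroup.coe_pow]
      apply Prod.ext
      · show z = (f.1.1) ^ 3
        rw [hf1]
        calc z = z ^ 2 * z := by rw [hzz, one_mul]
          _ = z ^ 3 := (pow_succ z 2).symm
      · show (1 : G₃) = (f.1.2) ^ 3
        exact (hk3 _ hf2).symm
    rw [this]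
    exact Subgroup.pow_mem _ hf 3
  have hWcomm : Wt ∈ commutator ↥F := by
    have : w ∈ (commutator ↥F).map p₂ := by rw [hmap₂]; exact d₃ hwk
    obtain ⟨f, hf, hfw⟩ := this
    have hf2 : f.1.2 = w := hfw
    have hf1 : f.1.1 ∈ σ₂.ker := by
      rw [MonoidHom.mem_ker, ← fiberHom_apply, fiberHom_apply', hf2, hw1]
    have : Wt = f ^ 4 := by
      apply Subtype.ext
      rw [Subgroup.coe_pow]
      apply Prod.ext
      · show (1 : G₂) = (f.1.1) ^ 4
        have := hk2 _ hf1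
        calc (1 : G₂) = ((f.1.1) ^ 2) ^ 2 := by rw [this, one_pow]
          _ = (f.1.1) ^ 4 := by rw [← pow_mul]
      · show w = (f.1.2) ^ 4
        rw [hf2]
        calc w = w ^ 3 * w := by rw [hww, one_mul]
          _ = w ^ 4 := (pow_succ w 3).symm
    rw [this]
    exact Subgroup.pow_mem _ hf 4
  -- every kernel element is Zt^i * Wt^j
  have hgen : ∀ x ∈ σ.ker, ∃ i j : ℤ, x = Zt ^ i * Wt ^ j := by
    intro x hx
    obtain ⟨h1, h2⟩ := (hkerσ x).mp hx
    rw [hz] at h1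
    rw [hw] at h2
    obtain ⟨i, hi⟩ := Subgroup.mem_zpowers_iff.mp h1
    obtain ⟨j, hj⟩ := Subgroup.mem_zpowers_iff.mp h2
    refine ⟨i, j, ?_⟩
    apply Subtype.ext
    rw [Subgroup.coe_mul, Subgroup.coe_zpow, Subgroup.coe_zpow]
    apply Prod.ext
    · show x.1.1 = ((z, 1) : G₂ × G₃).1 ^ i * (((1, w) : G₂ × G₃) ^ j).1
      rw [Prod.pow_fst]
      show x.1.1 = z ^ i * 1 ^ j
      rw [one_zpow, mul_one, hi]
    · show x.1.2 = (((z, 1) : G₂ × G₃) ^ i).2 * (((1, w) : G₂ × G₃) ^ j).2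
      rw [Prod.pow_snd, Prod.pow_snd]
      show x.1.2 = 1 ^ i * w ^ j
      rw [one_zpow, one_mul, hj]
  have hZker : Zt ∈ σ.ker := (hkerσ Zt).mpr ⟨hzk, one_mem _⟩
  have hWker : Wt ∈ σ.ker := (hkerσ Wt).mpr ⟨one_mem _, hwk⟩
  have hdcomm : σ.ker ≤ commutator ↥F := by
    intro x hx
    obtain ⟨i, j, rfl⟩ := hgen x hx
    exact Subgroup.mul_mem _ (Subgroup.zpow_mem _ hZcomm i) (Subgroup.zpow_mem _ hWcomm j)
  -- cyclic of order 6
  let X : ↥σ.ker := ⟨Zt * Wt, Subgroup.mul_mem _ hZker hWker⟩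
  have hZW : Zt * Wt = Wt * Zt := by
    apply Subtype.ext
    apply Prod.ext
    · show z * 1 = 1 * z
      rw [mul_one, one_mul]
    · show 1 * w = w * 1
      rw [mul_one, one_mul]
  have hZt2 : Zt ^ 2 = 1 := by
    apply Subtype.ext
    rw [Subgroup.coe_pow]
    apply Prod.ext
    · show z ^ 2 = 1
      exact hzz
    · show (1 : G₃) ^ 2 = 1
      exact one_pow 2
  have hWt3 : Wt ^ 3 = 1 := by
    apply Subtype.ext
    rw [Subgroup.coe_pow]
    apply Prod.ext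
    · show (1 : G₂) ^ 3 = 1
      exact one_pow 3
    · show w ^ 3 = 1
      exact hww
  have hZtne : Zt ≠ 1 := by
    intro h
    have : z = 1 := congrArg (fun t : ↥F => t.1.1) h
    rw [this, orderOf_one] at hz2
    omega
  have hWtne : Wt ≠ 1 := by
    intro h
    have : w = 1 := congrArg (fun t : ↥F => t.1.2) h
    rw [this, orderOf_one] at hw3
    omega
  have hX3 : (Zt * Wt) ^ 3 = Zt := by
    rw [(Commute.mul_pow hZW 3), hWt3, mul_one]
    calc Zt ^ 3 = Zt ^ 2 * Zt := pow_succ Zt 2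
      _ = Zt := by rw [hZt2, one_mul]
  have hX4 : (Zt * Wt) ^ 4 = Wt := by
    rw [(Commute.mul_pow hZW 4)]
    have h1 : Zt ^ 4 = 1 := by
      calc Zt ^ 4 = (Zt ^ 2) ^ 2 := by rw [← pow_mul]
        _ = 1 := by rw [hZt2, one_pow]
    have h2 : Wt ^ 4 = Wt := by
      calc Wt ^ 4 = Wt ^ 3 * Wt := pow_succ Wt 3
        _ = Wt := by rw [hWt3, one_mul]
    rw [h1, h2, one_mul]
  have hXgen : ∀ y : ↥σ.ker, y ∈ Subgroup.zpowers X := by
    intro y
    obtain ⟨i, j, hy⟩ := hgen y.1 y.2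
    rw [Subgroup.mem_zpowers_iff]
    refine ⟨3 * i + 4 * j, ?_⟩
    apply Subtype.ext
    rw [Subgroup.coe_zpow, hy]
    show (Zt * Wt) ^ (3 * i + 4 * j) = Zt ^ i * Wt ^ j
    rw [zpow_add, zpow_mul, zpow_mul]
    have e3 : (Zt * Wt) ^ (3 : ℤ) = Zt := by
      have := hX3
      rw [← zpow_natCast] at this
      exact this
    have e4 : (Zt * Wt) ^ (4 : ℤ) = Wt := by
      have := hX4
      rw [← zpow_natCast] at this
      exact this
    rw [e3, e4]
  have hX6 : orderOf X = 6 := by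
    have h1 : orderOf X = orderOf (Zt * Wt) := (Subgroup.orderOf_coe X).symm
    rw [h1]
    have h6 : (Zt * Wt) ^ 6 = 1 := by
      calc (Zt * Wt) ^ 6 = ((Zt * Wt) ^ 3) ^ 2 := by rw [← pow_mul]
        _ = 1 := by rw [hX3, hZt2]
    have hdvd : orderOf (Zt * Wt) ∣ 6 := orderOf_dvd_of_pow_eq_one h6
    have hn3 : ¬ orderOf (Zt * Wt) ∣ 3 := by
      intro h
      have := orderOf_dvd_iff_pow_eq_one.mp h
      rw [hX3] at this
      exact hZtne this
    have hn2 : ¬ orderOf (Zt * Wt) ∣ 2 := by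
      intro h
      have h2 := orderOf_dvd_iff_pow_eq_one.mp h
      have : (Zt * Wt) ^ 4 = 1 := by
        calc (Zt * Wt) ^ 4 = ((Zt * Wt) ^ 2) ^ 2 := by rw [← pow_mul]
          _ = 1 := by rw [h2, one_pow]
      rw [hX4] at this
      exact hWtne this
    have hle : orderOf (Zt * Wt) ≤ 6 := Nat.le_of_dvd (by norm_num) hdvd
    have hpos : 0 < orderOf (Zt * Wt) := Nat.pos_of_dvd_of_pos hdvd (by norm_num)
    interval_cases h : orderOf (Zt * Wt)
    · exact absurd (one_dvd 2) hn2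
    · exact absurd (dvd_refl 2) hn2
    · exact absurd (dvd_refl 3) hn3
    · norm_num at hdvd
    · norm_num at hdvd
    · rfl
  have hcyc : IsCyclic ↥σ.ker := ⟨⟨X, hXgen⟩⟩
  have hcard : Nat.card ↥σ.ker = 6 := by
    rw [← hX6]
    exact (orderOf_eq_card_of_forall_mem_zpowers hXgen).symm
  refine ⟨↥F, inferInstance, inferInstance, σ, ⟨hσsurj, hcentral, hdcomm⟩, ?_⟩
  have e := zmodCyclicMulEquiv hcyc
  rw [hcard] at e
  exact ⟨e.symm⟩

end Cfsg.Agent.Helper6SchurAn
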