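import Mathlib

set_option autoImplicit false

namespace Cfsg.Agent.Helper6SchurAn.Model

/-- `6 × 6` matrices over `𝔽₅` (`3 × 3` over `𝔽₂₅ = 𝔽₅[ω]`) -/
abbrev M6 : Type := Matrix (Fin 6) (Fin 6) (ZMod 5)

def A0 : M6 := !![3, 0, 4, 1, 0, 4; 0, 3, 4, 0, 1, 4; 4, 1, 0, 2, 4, 0; 4, 0, 3, 2, 0, 4; 0, 4, 4, 0, 2, 3; 1, 4, 0, 4, 2, 0]
def A1 : M6 := !![4, 0, 0, 0, 0, 0; 0, 4, 0, 0, 0, 0; 0, 0, 0, 0, 1, 0; 0, 0, 0, 0, 0, 1; 0, 0, 1, 0, 0, 0; 0, 0, 0, 1, 0, 0]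
def A2 : M6 := !![0, 0, 0, 0, 1, 0; 0, 0, 0, 0, 0, 1; 0, 0, 4, 0, 0, 0; 0, 0, 0, 4, 0, 0; 1, 0, 0, 0, 0, 0; 0, 1, 0, 0, 0, 0]
def A3 : M6 := !![4, 0, 0, 0, 0, 0; 0, 4, 0, 0, 0, 0; 0, 0, 0, 0, 4, 0; 0, 0, 0, 0, 0, 4; 0, 0, 4, 0, 0, 0; 0, 0, 0, 4, 0, 0]
def A4 : M6 := !![3, 0, 4, 0, 1, 0; 0, 3, 0, 4, 0, 1; 4, 0, 3, 0, 1, 0; 0, 4, 0, 3, 0, 1; 1, 0, 1, 0, 3, 0; 0, 1, 0, 1, 0, 3]
/-- the scalar `ω` -/
def Zi : M6 := !![0, 4, 0, 0, 0, 0; 1, 4, 0, 0, 0, 0; 0, 0, 0, 4, 0, 0; 0, 0, 1, 4, 0, 0; 0, 0, 0, 0, 0, 4; 0, 0, 0, 0, 1, 4]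
/-- the scalar `ω²` -/
def Zm : M6 := !![4, 1, 0, 0, 0, 0; 4, 0, 0, 0, 0, 0; 0, 0, 4, 1, 0, 0; 0, 0, 4, 0, 0, 0; 0, 0, 0, 0, 4, 1; 0, 0, 0, 0, 4, 0]

set_option maxRecDepth 100000

def u0 : M6ˣ := ⟨A0, A0 * A0, by decide, by decide⟩
def u1 : M6ˣ := ⟨A1, A1, by decide, by decide⟩
def u2 : M6ˣ := ⟨A2, A2, by decide, by decide⟩
def u3 : M6ˣ := ⟨A3, A3, by decide, by decide⟩
def u4 : M6ˣ := ⟨A4, A4, by decide, by decide⟩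
def uz : M6ˣ := ⟨Zm, Zi, by decide, by decide⟩

theorem uz_ne_one : uz ≠ 1 := by decide
theorem uz_cube : uz * uz * uz = 1 := by decide

theorem c0 : uz * u0 = u0 * uz := by decide
theorem c1 : uz * u1 = u1 * uz := by decide
theorem c2 : uz * u2 = u2 * uz := by decide
theorem c3 : uz * u3 = u3 * uz := by decide
theorem c4 : uz * u4 = u4 * uz := by decide

theorem r0 : u0 * u0 * u0 = 1 := by decide
theorem r1 : u1 * u1 = 1 := by decide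
theorem r2 : u2 * u2 = 1 := by decide
theorem r3 : u3 * u3 = 1 := by decide
theorem r4 : u4 * u4 = 1 := by decide
theorem a01 : (u0 * u1) * (u0 * u1) * (u0 * u1) = 1 := by decide
theorem a12 : (u1 * u2) * (u1 * u2) * (u1 * u2) = 1 := by decide
theorem a23 : (u2 * u3) * (u2 * u3) * (u2 * u3) = 1 := by decide
theorem a34 : (u3 * u4) * (u3 * u4) * (u3 * u4) = 1 := by decide
theorem f02 : (u0 * u2) * (u0 * u2) = uz := by decide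
theorem f03 : (u0 * u3) * (u0 * u3) = 1 := by decide
theorem f04 : (u0 * u4) * (u0 * u4) = uz := by decide
theorem f13 : (u1 * u3) * (u1 * u3) = 1 := by decide
theorem f14 : (u1 * u4) * (u1 * u4) = 1 := by decide
theorem f24 : (u2 * u4) * (u2 * u4) = 1 := by decide
theorem comm_eq : u0 * (u2 * u3) * u0⁻¹ * (u2 * u3)⁻¹ = uz := by decide

end Cfsg.Agent.Helper6SchurAn.Model
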