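import Mathlib
import Cfsg.Prelude.Def_KGroupFacts
import Cfsg.Agent.S3335
import Cfsg.Agent.Lib.Helper6_SchurAn1
import Cfsg.Agent.Lib.Helper6_SchurAn2
import Cfsg.Agent.Lib.Helper6_SchurAn8
import Cfsg.Agent.Lib.Helper6_SchurAn9

set_option autoImplicit false

namespace Cfsg.Agent.Helper6SchurAn

open scoped commutatorElement
open Model

/-- the ambient group: the centralizer of the scalar `ω²` -/
abbrev HM : Type := ↥(Subgroup.centralizer ({uz} : Set M6ˣ))

/-- the generators, indexed by `ℕ` -/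
def uN : ℕ → M6ˣ
  | 0 => u0
  | 1 => u1
  | 2 => u2
  | 3 => u3
  | 4 => u4
  | _ => 1

theorem uN_comm (i : ℕ) : uz * uN i = uN i * uz := by
  match i with
  | 0 => exact c0
  | 1 => exact c1
  | 2 => exact c2
  | 3 => exact c3
  | 4 => exact c4
  | (n + 5) => show uz * 1 = 1 * uz; rw [mul_one, one_mul]

theorem mem_HM_iff (g : M6ˣ) : g ∈ Subgroup.centralizer ({uz} : Set M6ˣ) ↔ uz * g = g * uz := by
  rw [Subgroup.mem_centralizer_iff]
  constructor
  · intro h; exact h uz rfl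
  · intro h x hx
    rw [Set.mem_singleton_iff] at hx
    rw [hx]; exact h

/-- the generators in `HM` -/
def mN (i : ℕ) : HM := ⟨uN i, (mem_HM_iff _).mpr (uN_comm i)⟩

/-- the central element `ζ = ω²` -/
def zM : HM := ⟨uz, (mem_HM_iff _).mpr rfl⟩

theorem zM_cen : Cen zM := by
  intro g
  apply Subtype.ext
  exact (mem_HM_iff _).mp g.2

instance zM_normal : (Subgroup.zpowers zM).Normal := by
  constructor
  intro n hn g
  obtain ⟨m, rfl⟩ := Subgroup.mem_zpowers_iff.mp hn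
  have hc : Cen (zM ^ m) := by
    intro x
    exact ((zM_cen.commute x).zpow_left m).eq
  rw [hc.conj]
  exact Subgroup.zpow_mem_zpowers zM m

theorem orderOf_zM : orderOf zM = 3 := by
  have h3 : zM ^ 3 = 1 := by
    apply Subtype.ext
    rw [pow_three']
    exact uz_cube
  have hne : zM ≠ 1 := by
    intro h
    exact uz_ne_one (congrArg Subtype.val h)
  have hp : Nat.Prime 3 := by norm_num
  exact orderOf_eq_prime h3 hne

/-- the quotient map -/
abbrev qM : HM →* HM ⧸ Subgroup.zpowers zM := QuotientGroup.mk' (Subgroup.zpowers zM)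

theorem qM_zM : qM zM = 1 := (QuotientGroup.eq_one_iff zM).mpr (Subgroup.mem_zpowers zM)

theorem rel_cube0 : mN 0 * mN 0 * mN 0 = 1 := Subtype.ext r0

theorem rel_sq {i : ℕ} (h1 : 1 ≤ i) (h4 : i ≤ 4) : mN i * mN i = 1 := by
  apply Subtype.ext
  interval_cases i
  · exact r1
  · exact r2
  · exact r3
  · exact r4

theorem rel_adj {i : ℕ} (h4 : i + 1 ≤ 4) :
    (mN i * mN (i + 1)) * (mN i * mN (i + 1)) * (mN i * mN (i + 1)) = 1 := by
  apply Subtype.ext
  have hi : i ≤ 3 := by omega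
  interval_cases i
  · exact a01
  · exact a12
  · exact a23
  · exact a34

theorem rel_far {i j : ℕ} (hij : i + 2 ≤ j) (h4 : j ≤ 4) :
    qM ((mN i * mN j) * (mN i * mN j)) = 1 := by
  have hcases : (mN i * mN j) * (mN i * mN j) = 1 ∨ (mN i * mN j) * (mN i * mN j) = zM := by
    have hj2 : 2 ≤ j := by omega
    interval_cases j
    · have hi : i ≤ 0 := by omega
      interval_cases i
      right; exact Subtype.ext f02
    · have hi : i ≤ 1 := by omega
      interval_cases i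
      · left; exact Subtype.ext f03
      · left; exact Subtype.ext f13
    · have hi : i ≤ 2 := by omega
      interval_cases i
      · right; exact Subtype.ext f04
      · left; exact Subtype.ext f14
      · left; exact Subtype.ext f24
  rcases hcases with h | h
  · rw [h, map_one]
  · rw [h, qM_zM]

/-- the projective representation of `P k` for `k ≤ 4` -/
noncomputable def phiM (k : ℕ) (hk : k ≤ 4) : P k →* HM ⧸ Subgroup.zpowers zM :=
  Cfsg.Agent.S3335.liftG (fun i : Fin (k + 1) => qM (mN i.val))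
    (by
      intro i hi
      show qM (mN i.val) ^ 3 = 1
      rw [hi, ← map_pow, pow_three', rel_cube0, map_one])
    (by
      intro i hi
      show qM (mN i.val) ^ 2 = 1
      rw [← map_pow, pow_two, rel_sq hi (by omega), map_one])
    (by
      intro i j hij
      show (qM (mN i.val) * qM (mN j.val)) ^ 3 = 1
      rw [hij, ← map_mul, ← map_pow, pow_three', rel_adj (by omega), map_one])
    (by
      intro i j hij
      show (qM (mN i.val) * qM (mN j.val)) ^ 2 = 1
      rw [← map_mul, ← map_pow, pow_two]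
      exact rel_far (by omega) (by omega))

theorem phiM_X (k : ℕ) (hk : k ≤ 4) (i : Fin (k + 1)) : phiM k hk (X k i) = qM (mN i.val) :=
  Cfsg.Agent.S3335.liftG_x _ _ _ _ _ i

theorem phiM_xs (k : ℕ) (hk : k ≤ 4) {i : ℕ} (hi : i ≤ k) : phiM k hk (xs k i) = qM (mN i) := by
  rw [xs_of_lt (by omega : i < k + 1), phiM_X]

/-- `x₀` commutes with `x₂ x₃` -/
theorem xs_comm_023 {k : ℕ} (hk : 3 ≤ k) :
    xs k 0 * (xs k 2 * xs k 3) = (xs k 2 * xs k 3) * xs k 0 := by
  have h2 := xs_conj_zero (k := k) (j := 2) (le_refl 2) (by omega)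
  have h3 := xs_conj_zero (k := k) (j := 3) (by omega) hk
  have e2 : xs k 2 * xs k 0 = (xs k 0)⁻¹ * xs k 2 := by
    calc xs k 2 * xs k 0 = (xs k 2 * xs k 0 * (xs k 2)⁻¹) * xs k 2 := by group
      _ = (xs k 0)⁻¹ * xs k 2 := by rw [h2]
  have e3 : xs k 3 * (xs k 0)⁻¹ = xs k 0 * xs k 3 := by
    calc xs k 3 * (xs k 0)⁻¹ = (xs k 3 * xs k 0 * (xs k 3)⁻¹)⁻¹ * xs k 3 := by group
      _ = xs k 0 * xs k 3 := by rw [h3, inv_inv]
  -- x2 x3 x0 = x2 x0⁻¹ x3 ... careful: use e3 backwards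
  have e3' : xs k 3 * xs k 0 = (xs k 0)⁻¹ * xs k 3 := by
    calc xs k 3 * xs k 0 = (xs k 3 * xs k 0 * (xs k 3)⁻¹) * xs k 3 := by group
      _ = (xs k 0)⁻¹ * xs k 3 := by rw [h3]
  have e2' : xs k 2 * (xs k 0)⁻¹ = xs k 0 * xs k 2 := by
    calc xs k 2 * (xs k 0)⁻¹ = (xs k 2 * xs k 0 * (xs k 2)⁻¹)⁻¹ * xs k 2 := by group
      _ = xs k 0 * xs k 2 := by rw [h2, inv_inv]
  calc xs k 0 * (xs k 2 * xs k 3) = (xs k 0 * xs k 2) * xs k 3 := by group
    _ = (xs k 2 * (xs k 0)⁻¹) * xs k 3 := by rw [e2']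
    _ = xs k 2 * ((xs k 0)⁻¹ * xs k 3) := by group
    _ = xs k 2 * (xs k 3 * xs k 0) := by rw [e3']
    _ = (xs k 2 * xs k 3) * xs k 0 := by group

/-- the triple cover of `P k` for `k = 3, 4` -/
theorem exists_triple_cover (k : ℕ) (h3 : 3 ≤ k) (h4 : k ≤ 4) [Finite (P k)] :
    ∃ (Γ : Type) (_ : Group Γ) (_ : Finite Γ) (σ : Γ →* P k) (w : Γ), Cfsg.IsStemExtension σ ∧
      σ.ker = Subgroup.zpowers w ∧ orderOf w = 3 := by
  have hmain := exists_stem_of_model (H := HM) (G := P k) zM zM_cen (phiM k h4)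
    (mN 0) (mN 2 * mN 3) (xs k 0) (xs k 2 * xs k 3)
    (by rw [phiM_xs k h4 (by omega)])
    (by rw [map_mul, map_mul, phiM_xs k h4 (by omega), phiM_xs k h4 (by omega)])
    (xs_comm_023 h3)
    (Subtype.ext comm_eq)
  obtain ⟨Γ, i1, i2, σ, w, hs, hk, ho⟩ := hmain
  exact ⟨Γ, i1, i2, σ, w, hs, hk, by rw [ho, orderOf_zM]⟩

end Cfsg.Agent.Helper6SchurAn
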