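import Mathlib
import Cfsg.Agent.S3335
import Cfsg.Agent.Lib.Helper6_SchurAn1
import Cfsg.Agent.Lib.Helper6_SchurAn2

set_option autoImplicit false

namespace Cfsg.Agent.Helper6SchurAn


variable {k : ℕ} {E : Type*} [Group E]

theorem stageA (hk : 1 ≤ k) (q : E →* P k)
    (hsurj : Function.Surjective q) (hcen : ∀ d ∈ q.ker, Cen d)
    (hroot : ∀ d ∈ q.ker, ∃ e ∈ q.ker, e * e * e = d) :
    ∃ t0 t1 c : E, q t0 = xs k 0 ∧ q t1 = xs k 1 ∧ c ∈ q.ker ∧ c * c = 1 ∧ t0 * t0 * t0 = 1 ∧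
      t1 * t1 = c ∧ (t0 * t1) * (t0 * t1) * (t0 * t1) = 1 ∧
      (t0 * t1 * t0⁻¹) * t1 * (t0 * t1 * t0⁻¹)⁻¹ = c * t1 := by
  obtain ⟨s0, hs0⟩ := hsurj (xs k 0)
  obtain ⟨s1, hs1⟩ := hsurj (xs k 1)
  have h1 : s0 * s0 * s0 ∈ q.ker := by
    rw [MonoidHom.mem_ker, map_mul, map_mul, hs0]; exact xs_cube0 k
  obtain ⟨μ, hμ, hμ3⟩ := hroot _ (inv_mem h1)
  have cμ := hcen μ hμ
  have ht0 : (μ * s0) * (μ * s0) * (μ * s0) = 1 := by
    rw [cμ.mul_cube, hμ3, inv_mul_cancel]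
  have hqt0 : q (μ * s0) = xs k 0 := by
    rw [map_mul, MonoidHom.mem_ker.mp hμ, one_mul, hs0]
  generalize μ * s0 = t0 at ht0 hqt0
  have h2 : (t0 * s1) * (t0 * s1) * (t0 * s1) ∈ q.ker := by
    rw [MonoidHom.mem_ker]
    simp only [map_mul, hqt0, hs1]
    have := xs_adj (k := k) (i := 0) (by omega)
    rwa [zero_add] at this
  obtain ⟨ν, hν, hν3⟩ := hroot _ (inv_mem h2)
  have cν := hcen ν hν
  have hr1 : (t0 * (ν * s1)) * (t0 * (ν * s1)) * (t0 * (ν * s1)) = 1 := by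
    rw [cν.mul_left_comm, cν.mul_cube, hν3, inv_mul_cancel]
  have hqr1 : q (ν * s1) = xs k 1 := by
    rw [map_mul, MonoidHom.mem_ker.mp hν, one_mul, hs1]
  generalize ν * s1 = r1 at hr1 hqr1
  -- a := r1 * r1
  have ha : r1 * r1 ∈ q.ker := by
    rw [MonoidHom.mem_ker, map_mul, hqr1]; exact xs_sq (le_refl 1) hk
  have ca := hcen _ ha
  -- γ
  have hγ : (t0 * r1 * t0⁻¹) * r1 * (t0 * r1 * t0⁻¹)⁻¹ * r1⁻¹ ∈ q.ker := by
    rw [MonoidHom.mem_ker]
    simp only [map_mul, map_inv, hqt0, hqr1]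
    rw [xs_v_comm hk, mul_inv_cancel]
  have cγ := hcen _ hγ
  obtain ⟨g2, g3⟩ := lemA t0 r1 (r1 * r1) _ ca cγ (by rw [pow_three']; exact ht0)
    (by rw [pow_three']; exact hr1) rfl (by group)
  generalize hγdef : (t0 * r1 * t0⁻¹) * r1 * (t0 * r1 * t0⁻¹)⁻¹ * r1⁻¹ = γ at *
  generalize hadef : r1 * r1 = a at *
  have hvr : (t0 * r1 * t0⁻¹) * r1 * (t0 * r1 * t0⁻¹)⁻¹ = γ * r1 := by
    rw [← hγdef]; group
  have ha3 : a * a * a = γ := by
    rw [pow_three'] at g3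
    have : a * a * a = γ⁻¹ := eq_inv_of_mul_eq_one_right g3
    rw [this]; exact inv_eq_of_mul_eq_one_left g2
  have cl : Cen (a * γ) := ca.mul cγ
  have hl2 : (a * γ) * (a * γ) = a * a := by
    rw [ca.mul_sq, g2, mul_one]
  have hl3 : (a * γ) * (a * γ) * (a * γ) = 1 := by
    rw [ca.mul_cube, ha3]
    calc γ * (γ * γ * γ) = (γ * γ) * (γ * γ) := by group
      _ = 1 := by rw [g2, mul_one]
  refine ⟨t0, (a * γ) * r1, γ, hqt0, ?_, hγ, g2, ht0, ?_, ?_, ?_⟩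
  · rw [map_mul, map_mul, MonoidHom.mem_ker.mp ha, MonoidHom.mem_ker.mp hγ, one_mul, one_mul, hqr1]
  · rw [cl.mul_sq, hl2, hadef, ← ha3]
  · rw [cl.mul_left_comm, cl.mul_cube, hl3, hr1, mul_one]
  · have e1 : t0 * (a * γ * r1) * t0⁻¹ = (a * γ) * (t0 * r1 * t0⁻¹) := cl.conj_mul t0 r1
    rw [e1, cl.mul_conj]
    have e2 : t0 * r1 * t0⁻¹ * (a * γ * r1) * (t0 * r1 * t0⁻¹)⁻¹ =
        (a * γ) * ((t0 * r1 * t0⁻¹) * r1 * (t0 * r1 * t0⁻¹)⁻¹) := cl.conj_mul _ r1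
    rw [e2, hvr]
    calc a * γ * (γ * r1) = (a * γ) * γ * r1 := by group
      _ = γ * (a * γ) * r1 := by rw [cl γ]
      _ = γ * (a * γ * r1) := by group


/-- the step function of stage B -/
def stepF (t s : E) : E :=
  ((t * ((t * s) * t * (t * s)⁻¹)) * (t * ((t * s) * t * (t * s)⁻¹)) *
    (t * ((t * s) * t * (t * s)⁻¹))) * ((t * s) * t * (t * s)⁻¹)

theorem stepF_spec (q : E →* P k) (hcen : ∀ d ∈ q.ker, Cen d) {i : ℕ} (h1 : 1 ≤ i)
    (h : i + 1 ≤ k) (t s c : E) (hc : c ∈ q.ker) (hcc : c * c = 1) (hqt : q t = xs k i)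
    (hqs : q s = xs k (i + 1)) (htt : t * t = c) :
    q (stepF t s) = xs k (i + 1) ∧ stepF t s * stepF t s = c ∧
      (t * stepF t s) * (t * stepF t s) * (t * stepF t s) = 1 := by
  have cc := hcen c hc
  unfold stepF
  have hqt' : q ((t * s) * t * (t * s)⁻¹) = xs k (i + 1) := by
    simp only [map_mul, map_inv, hqt, hqs]
    exact xs_conj_next h1 h
  have ht't' : ((t * s) * t * (t * s)⁻¹) * ((t * s) * t * (t * s)⁻¹) = c := by
    calc ((t * s) * t * (t * s)⁻¹) * ((t * s) * t * (t * s)⁻¹)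
        = (t * s) * (t * t) * (t * s)⁻¹ := by group
      _ = c := by rw [htt, cc.conj]
  generalize (t * s) * t * (t * s)⁻¹ = t' at *
  have hb : (t * t') * (t * t') * (t * t') ∈ q.ker := by
    rw [MonoidHom.mem_ker]
    simp only [map_mul, hqt, hqt']
    exact xs_adj h
  have cb := hcen _ hb
  have hbb := lemB t t' c _ cc cb hcc htt ht't' rfl
  generalize hbdef : (t * t') * (t * t') * (t * t') = b at *
  refine ⟨?_, ?_, ?_⟩
  · rw [map_mul, MonoidHom.mem_ker.mp hb, one_mul, hqt']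
  · rw [cb.mul_sq, hbb, one_mul, ht't']
  · rw [cb.mul_left_comm, cb.mul_cube, hbdef]
    calc b * b * b * b = (b * b) * (b * b) := by group
      _ = 1 := by rw [hbb, mul_one]

/-- the sequence of normalized lifts -/
def Useq (t0 t1 : E) (s : ℕ → E) : ℕ → E
  | 0 => t0
  | 1 => t1
  | (n + 2) => stepF (Useq t0 t1 s (n + 1)) (s (n + 2))

theorem Useq_zero (t0 t1 : E) (s : ℕ → E) : Useq t0 t1 s 0 = t0 := rfl
theorem Useq_one (t0 t1 : E) (s : ℕ → E) : Useq t0 t1 s 1 = t1 := rfl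
theorem Useq_succ (t0 t1 : E) (s : ℕ → E) (n : ℕ) :
    Useq t0 t1 s (n + 2) = stepF (Useq t0 t1 s (n + 1)) (s (n + 2)) := rfl

theorem Useq_spec (q : E →* P k) (hcen : ∀ d ∈ q.ker, Cen d) (t0 t1 c : E) (s : ℕ → E)
    (hs : ∀ i, q (s i) = xs k i) (hc : c ∈ q.ker) (hcc : c * c = 1)
    (hq1 : q t1 = xs k 1) (h11 : t1 * t1 = c) :
    ∀ i, 1 ≤ i → i ≤ k → (q (Useq t0 t1 s i) = xs k i ∧ Useq t0 t1 s i * Useq t0 t1 s i = c) ∧
      (2 ≤ i → (Useq t0 t1 s (i - 1) * Useq t0 t1 s i) * (Useq t0 t1 s (i - 1) * Useq t0 t1 s i) *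
        (Useq t0 t1 s (i - 1) * Useq t0 t1 s i) = 1) := by
  intro i hi
  induction i, hi using Nat.le_induction with
  | base =>
    intro _
    exact ⟨⟨hq1, h11⟩, fun h => by omega⟩
  | succ n hn ih =>
    intro hnk
    obtain ⟨⟨ih1, ih2⟩, -⟩ := ih (by omega)
    obtain ⟨m, rfl⟩ : ∃ m, n = m + 1 := ⟨n - 1, by omega⟩
    have := stepF_spec q hcen (i := m + 1) (by omega) hnk _ (s (m + 2)) c hc hcc ih1 (hs _) ih2
    rw [Useq_succ]
    refine ⟨⟨this.1, this.2.1⟩, fun _ => ?_⟩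
    have e : m + 1 + 1 - 1 = m + 1 := by omega
    rw [e]
    exact this.2.2


/-- the normalized data after stages A and B -/
structure Norm (q : E →* P k) (U : ℕ → E) (c : E) : Prop where
  hcen : ∀ d ∈ q.ker, Cen d
  hc : c ∈ q.ker
  hcc : c * c = 1
  hq : ∀ i, i ≤ k → q (U i) = xs k i
  h0 : U 0 * U 0 * U 0 = 1
  hsq : ∀ i, 1 ≤ i → i ≤ k → U i * U i = c
  hadj : ∀ i, i + 1 ≤ k → (U i * U (i + 1)) * (U i * U (i + 1)) * (U i * U (i + 1)) = 1
  hv : (U 0 * U 1 * (U 0)⁻¹) * U 1 * (U 0 * U 1 * (U 0)⁻¹)⁻¹ = c * U 1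

theorem CR_symm {x y ε : E} (h2 : ε * ε = 1) (h : x * y * x⁻¹ = ε * y) :
    y * x * y⁻¹ = ε * x := by
  calc y * x * y⁻¹ = ((x * y * x⁻¹) * y⁻¹)⁻¹ * x := by group
    _ = ((ε * y) * y⁻¹)⁻¹ * x := by rw [h]
    _ = ε⁻¹ * x := by group
    _ = ε * x := by rw [inv_eq_of_mul_eq_one_left h2]

variable {q : E →* P k} {U : ℕ → E} {c : E}

theorem Norm.cc (N : Norm q U c) : Cen c := N.hcen c N.hc

theorem Norm.exists_eps (N : Norm q U c) {i j : ℕ} (h1 : 1 ≤ i) (hij : i + 2 ≤ j) (hj : j ≤ k) :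
    ∃ ε, Cen ε ∧ ε * ε = 1 ∧ U j * U i * (U j)⁻¹ = ε * U i := by
  have hmem : U j * U i * (U j)⁻¹ * (U i)⁻¹ ∈ q.ker := by
    rw [MonoidHom.mem_ker]
    simp only [map_mul, map_inv, N.hq i (by omega), N.hq j hj]
    rw [← xs_comm h1 (by omega) hj]
    group
  have hε := N.hcen _ hmem
  have hrel : U j * U i * (U j)⁻¹ = (U j * U i * (U j)⁻¹ * (U i)⁻¹) * U i := by group
  exact ⟨_, hε, (lemD1 (U i) (U j) c _ N.cc hε N.hcc (N.hsq i h1 (by omega))
    (N.hsq j (by omega) hj) hrel).1, hrel⟩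

theorem Norm.stageC (N : Norm q U c) :
    ∀ j, 3 ≤ j → j ≤ k → ∀ i, 1 ≤ i → i + 2 ≤ j → U j * U i * (U j)⁻¹ = c * U i := by
  intro j hj
  induction j, hj using Nat.le_induction with
  | base =>
    intro h3 i h1 hi
    obtain rfl : i = 1 := by omega
    obtain ⟨ε, cε, e2, hε⟩ := N.exists_eps (i := 1) (j := 3) (le_refl 1) (by omega) h3
    have hmem : U 3 * U 0 * (U 3)⁻¹ * U 0 ∈ q.ker := by
      rw [MonoidHom.mem_ker]
      simp only [map_mul, map_inv, N.hq 0 (by omega), N.hq 3 h3]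
      rw [xs_conj_zero (by omega) h3, inv_mul_cancel]
    have cδ := N.hcen _ hmem
    have h01 := N.hadj 0 (by omega)
    rw [zero_add] at h01
    have := lemD3 (U 0) (U 1) (U 3) c c ε _ N.cc N.cc cε cδ N.hcc N.h0 h01
      (N.hsq 1 (le_refl 1) (by omega)) (N.hsq 3 (by omega) h3) N.hv hε (by group)
    have hεc : ε = c := by
      have h := eq_inv_of_mul_eq_one_left this
      rw [h]; exact inv_eq_of_mul_eq_one_left N.hcc
    rw [← hεc]; exact hε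
  | succ j hj ih =>
    intro hj1
    have claimA : ∀ i, 1 ≤ i → i + 2 ≤ j → U (j + 1) * U i * (U (j + 1))⁻¹ = c * U i := by
      intro i h1 hij
      have IHi := ih (by omega) i h1 hij
      obtain ⟨ε', cε', e2', hε'⟩ := N.exists_eps h1 (by omega : i + 2 ≤ j + 1) hj1
      have s1 := CR_symm N.hcc IHi
      have s2 := CR_symm e2' hε'
      have := lemD2 (U i) (U j) (U (j + 1)) c ε' N.cc cε' N.hcc e2' (N.hadj j hj1) s1 s2
      rw [this]; exact hε'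
    intro i h1 hij
    by_cases hcase : i + 2 ≤ j
    · exact claimA i h1 hcase
    · obtain ⟨m, rfl⟩ : ∃ m, i = m + 1 := ⟨i - 1, by omega⟩
      have hA := claimA m (by omega) (by omega)
      obtain ⟨ε', cε', e2', hε'⟩ := N.exists_eps h1 hij hj1
      have := lemD2 (U (j + 1)) (U m) (U (m + 1)) c ε' N.cc cε' N.hcc e2'
        (N.hadj m (by omega)) hA hε'
      rw [this]; exact hε'

/-- `(U i U j)^2 = c` for `1 ≤ i`, `i + 2 ≤ j`. -/
theorem Norm.far_sq (N : Norm q U c) {i j : ℕ} (h1 : 1 ≤ i) (hij : i + 2 ≤ j) (hj : j ≤ k) :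
    (U i * U j) * (U i * U j) = c :=
  (lemD1 (U i) (U j) c c N.cc N.cc N.hcc (N.hsq i h1 (by omega)) (N.hsq j (by omega) hj)
    (N.stageC j (by omega) hj i h1 hij)).2

/-- the invariant `δ_j` -/
def dl (U : ℕ → E) (j : ℕ) : E := U j * U 0 * (U j)⁻¹ * U 0

theorem Norm.dl_mem (N : Norm q U c) {j : ℕ} (h2 : 2 ≤ j) (hj : j ≤ k) : dl U j ∈ q.ker := by
  unfold dl
  rw [MonoidHom.mem_ker]
  simp only [map_mul, map_inv, N.hq 0 (by omega), N.hq j hj]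
  rw [xs_conj_zero h2 hj, inv_mul_cancel]

theorem dl_rel (U : ℕ → E) (j : ℕ) : U j * U 0 * (U j)⁻¹ = dl U j * (U 0)⁻¹ := by
  unfold dl; group

theorem Norm.dl_cube (N : Norm q U c) {j : ℕ} (h2 : 2 ≤ j) (hj : j ≤ k) :
    dl U j * dl U j * dl U j = 1 :=
  (lemE1 (U j) (U 0) c (dl U j) N.cc (N.hcen _ (N.dl_mem h2 hj)) N.h0 (N.hsq j (by omega) hj)
    (dl_rel U j)).1

theorem Norm.dl_eq (N : Norm q U c) {j j' : ℕ} (h2 : 2 ≤ j') (hjj : j' + 2 ≤ j) (hj : j ≤ k) :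
    dl U j = dl U j' := by
  have hg : (U j' * U j) * (U j' * U j) * ((U j' * U j) * (U j' * U j)) = 1 := by
    rw [N.far_sq (by omega) hjj hj, N.hcc]
  exact lemE2 (U j) (U j') (U 0) (dl U j) (dl U j') (N.hcen _ (N.dl_mem (by omega) hj))
    (N.hcen _ (N.dl_mem h2 (by omega))) (N.dl_cube (by omega) hj) (N.dl_cube h2 (by omega)) hg
    (dl_rel U j) (dl_rel U j')

theorem Norm.dl_all (N : Norm q U c) (hk : k ≤ 2 ∨ 5 ≤ k) {j : ℕ} (h2 : 2 ≤ j) (hj : j ≤ k) :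
    dl U j = dl U 2 := by
  rcases hk with hk | hk
  · obtain rfl : j = 2 := by omega
    rfl
  · by_cases h4 : 4 ≤ j
    · exact N.dl_eq (le_refl 2) h4 hj
    · by_cases h3 : j = 3
      · subst h3
        rw [← N.dl_eq (j := 5) (j' := 3) (by omega) (by omega) hk]
        exact N.dl_eq (le_refl 2) (by omega) hk
      · obtain rfl : j = 2 := by omega
        rfl


theorem exists_Norm (hk1 : 1 ≤ k) (q : E →* P k)
    (hsurj : Function.Surjective q) (hcen : ∀ d ∈ q.ker, Cen d)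
    (hroot : ∀ d ∈ q.ker, ∃ e ∈ q.ker, e * e * e = d) :
    ∃ (U : ℕ → E) (c : E), Norm q U c := by
  obtain ⟨t0, t1, c, hq0, hq1, hc, hcc, h0, h11, h01, hv⟩ := stageA hk1 q hsurj hcen hroot
  choose s hs using fun i => hsurj (xs k i)
  have spec := Useq_spec q hcen t0 t1 c s hs hc hcc hq1 h11
  refine ⟨Useq t0 t1 s, c, ⟨hcen, hc, hcc, ?_, h0, ?_, ?_, hv⟩⟩
  · intro i hi
    rcases Nat.eq_zero_or_pos i with rfl | hpos
    · exact hq0
    · exact (spec i hpos hi).1.1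
  · intro i h1 hi
    exact (spec i h1 hi).1.2
  · intro i hi
    rcases Nat.eq_zero_or_pos i with rfl | hpos
    · exact h01
    · have := (spec (i + 1) (by omega) hi).2 (by omega)
      rwa [Nat.add_sub_cancel] at this

theorem exists_normalized (hk1 : 1 ≤ k) (hk : k ≤ 2 ∨ 5 ≤ k) (q : E →* P k)
    (hsurj : Function.Surjective q) (hcen : ∀ d ∈ q.ker, Cen d)
    (hroot : ∀ d ∈ q.ker, ∃ e ∈ q.ker, e * e * e = d) :
    ∃ (T : ℕ → E) (c : E), c ∈ q.ker ∧ c * c = 1 ∧ (∀ i, i ≤ k → q (T i) = xs k i) ∧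
      T 0 * T 0 * T 0 = 1 ∧ (∀ i, 1 ≤ i → i ≤ k → T i * T i = c) ∧
      (∀ i, i + 1 ≤ k → (T i * T (i + 1)) * (T i * T (i + 1)) * (T i * T (i + 1)) = 1) ∧
      (∀ i j, i + 2 ≤ j → j ≤ k → (T i * T j) * (T i * T j) = c) := by
  obtain ⟨U, c, N⟩ := exists_Norm hk1 q hsurj hcen hroot
  -- the scaling factor
  obtain ⟨δ, hδ, hδ3, hδj⟩ : ∃ δ, δ ∈ q.ker ∧ δ * δ * δ = 1 ∧
      ∀ j, 2 ≤ j → j ≤ k → U j * U 0 * (U j)⁻¹ = δ * (U 0)⁻¹ := by
    by_cases h2 : 2 ≤ k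
    · refine ⟨dl U 2, N.dl_mem (le_refl 2) h2, N.dl_cube (le_refl 2) h2, ?_⟩
      intro j hj2 hjk
      rw [← N.dl_all hk hj2 hjk]
      exact dl_rel U j
    · exact ⟨1, one_mem _, by group, fun j hj2 hjk => by omega⟩
  have cδ := hcen δ hδ
  refine ⟨fun i => if i = 0 then δ * U 0 else U i, c, N.hc, N.hcc, ?_, ?_, ?_, ?_, ?_⟩
  · intro i hi
    by_cases h : i = 0
    · subst h
      simp only [if_true]
      rw [map_mul, MonoidHom.mem_ker.mp hδ, one_mul, N.hq 0 hi]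
    · simp only [if_neg h]
      exact N.hq i hi
  · simp only [if_true]
    rw [cδ.mul_cube, hδ3, N.h0, mul_one]
  · intro i h1 hi
    have h : i ≠ 0 := by omega
    simp only [if_neg h]
    exact N.hsq i h1 hi
  · intro i hi
    have h1 : i + 1 ≠ 0 := by omega
    simp only [if_neg h1]
    by_cases h : i = 0
    · subst h
      simp only [if_true]
      rw [cube_scale (U 0) δ cδ hδ3]
      exact N.hadj 0 hi
    · simp only [if_neg h]
      exact N.hadj i hi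
  · intro i j hij hj
    have hj0 : j ≠ 0 := by omega
    simp only [if_neg hj0]
    by_cases h : i = 0
    · subst h
      simp only [if_true]
      exact lemE3 (U j) (U 0) c δ cδ hδ3 (N.hsq j (by omega) hj) (hδj j (by omega) hj)
    · simp only [if_neg h]
      exact N.far_sq (by omega) hij hj

end Cfsg.Agent.Helper6SchurAn
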