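import Mathlib
import Cfsg.Agent.S3335
import Cfsg.Agent.Lib.Helper6_SchurAn1
import Cfsg.Agent.Lib.Helper6_SchurAn2
import Cfsg.Agent.Lib.Helper6_SchurAn3

set_option autoImplicit false

namespace Cfsg.Agent.Helper6SchurAn

open scoped commutatorElement

variable {k : ℕ} {E : Type*} [Group E]

/-- the subgroup `{1, c}` for an involution-or-trivial `c` -/
def pairSub (c : E) (hcc : c * c = 1) : Subgroup E where
  carrier := {g | g = 1 ∨ g = c}
  one_mem' := Or.inl rfl
  mul_mem' := by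
    rintro a b (rfl | rfl) (rfl | rfl)
    · left; simp
    · right; simp
    · right; simp
    · left; exact hcc
  inv_mem' := by
    rintro a (rfl | rfl)
    · left; simp
    · right; exact inv_eq_of_mul_eq_one_left hcc

theorem mem_pairSub {c : E} (hcc : c * c = 1) {g : E} : g ∈ pairSub c hcc ↔ g = 1 ∨ g = c :=
  Iff.rfl

theorem pairSub_normal {c : E} (hcc : c * c = 1) (hc : Cen c) : (pairSub c hcc).Normal := by
  constructor
  rintro n (rfl | rfl) g
  · left; simp
  · right; exact hc.conj g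

theorem Cen.comm_left {d : E} (hd : Cen d) (a b : E) : ⁅d * a, b⁆ = ⁅a, b⁆ := by
  rw [commutatorElement_def, commutatorElement_def, hd.mul_conj]

theorem Cen.comm_right {d : E} (hd : Cen d) (a b : E) : ⁅a, d * b⁆ = ⁅a, b⁆ := by
  rw [commutatorElement_def, commutatorElement_def, hd.conj_mul]
  calc d * (a * b * a⁻¹) * (d * b)⁻¹ = d * ((a * b * a⁻¹) * b⁻¹) * d⁻¹ := by group
    _ = ((a * b * a⁻¹) * b⁻¹) * d * d⁻¹ := by rw [hd ((a * b * a⁻¹) * b⁻¹)]
    _ = a * b * a⁻¹ * b⁻¹ := by group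

theorem ker_inf_commutator (hk1 : 1 ≤ k) (hk : k ≤ 2 ∨ 5 ≤ k) (q : E →* P k)
    (hsurj : Function.Surjective q) (hcen : ∀ d ∈ q.ker, Cen d)
    (hroot : ∀ d ∈ q.ker, ∃ e ∈ q.ker, e * e * e = d) :
    ∃ c : E, c * c = 1 ∧ ∀ g ∈ q.ker, g ∈ commutator E → g = 1 ∨ g = c := by
  obtain ⟨T, c, hc, hcc, hqT, hT0, hTsq, hTadj, hTfar⟩ :=
    exists_normalized hk1 hk q hsurj hcen hroot
  refine ⟨c, hcc, ?_⟩
  have cc := hcen c hc
  have hCn : (pairSub c hcc).Normal := pairSub_normal hcc cc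
  set C := pairSub c hcc with hC
  let π : E →* E ⧸ C := QuotientGroup.mk' C
  have hπc : π c = 1 := (QuotientGroup.eq_one_iff c).mpr (Or.inr rfl)
  let f : Fin (k + 1) → E ⧸ C := fun i => π (T i.val)
  have h1 : ∀ i : Fin (k + 1), i.val = 0 → f i ^ 3 = 1 := by
    intro i hi
    show π (T i.val) ^ 3 = 1
    rw [hi, ← map_pow, pow_three', hT0, map_one]
  have h2 : ∀ i : Fin (k + 1), 1 ≤ i.val → f i ^ 2 = 1 := by
    intro i hi
    show π (T i.val) ^ 2 = 1
    rw [← map_pow, pow_two, hTsq i.val hi (by omega), hπc]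
  have h3 : ∀ i j : Fin (k + 1), j.val = i.val + 1 → (f i * f j) ^ 3 = 1 := by
    intro i j hij
    show (π (T i.val) * π (T j.val)) ^ 3 = 1
    rw [hij, ← map_mul, ← map_pow, pow_three', hTadj i.val (by omega), map_one]
  have h4 : ∀ i j : Fin (k + 1), i.val + 1 < j.val → (f i * f j) ^ 2 = 1 := by
    intro i j hij
    show (π (T i.val) * π (T j.val)) ^ 2 = 1
    rw [← map_mul, ← map_pow, pow_two, hTfar i.val j.val (by omega) (by omega), hπc]
  let φ : P k →* E ⧸ C := Cfsg.Agent.S3335.liftG f h1 h2 h3 h4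
  have hφX : ∀ i : Fin (k + 1), φ (X k i) = π (T i.val) := fun i =>
    Cfsg.Agent.S3335.liftG_x f h1 h2 h3 h4 i
  have hCker : C ≤ q.ker := by
    rintro g (rfl | rfl)
    · exact one_mem _
    · exact hc
  let qb : E ⧸ C →* P k := QuotientGroup.lift C q hCker
  have hqbπ : ∀ g, qb (π g) = q g := fun g => QuotientGroup.lift_mk' C hCker g
  have hcomp : qb.comp φ = MonoidHom.id (P k) := by
    apply Cfsg.Agent.S3335.hom_ext_x
    intro i
    show qb (φ (X k i)) = X k i
    rw [hφX, hqbπ, hqT i.val (by omega), xs_of_lt i.isLt]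
  have hqφ : ∀ y, qb (φ y) = y := fun y => by
    have := congrArg (fun F => F y) hcomp
    exact this
  -- the subgroup of lifts
  have hlift : ∀ g : E, ∃ t : E, π t ∈ φ.range ∧ q t = q g := by
    intro g
    obtain ⟨t, ht⟩ := QuotientGroup.mk'_surjective C (φ (q g))
    refine ⟨t, ⟨q g, ht.symm⟩, ?_⟩
    rw [← hqbπ, show π t = φ (q g) from ht, hqφ]
  have hcomm : commutator E ≤ φ.range.comap π := by
    rw [commutator_def, Subgroup.commutator_le]
    intro g1 _ g2 _
    obtain ⟨t1, ht1, hq1⟩ := hlift g1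
    obtain ⟨t2, ht2, hq2⟩ := hlift g2
    have hd1 : g1 * t1⁻¹ ∈ q.ker := by
      rw [MonoidHom.mem_ker, map_mul, map_inv, hq1, mul_inv_cancel]
    have hd2 : g2 * t2⁻¹ ∈ q.ker := by
      rw [MonoidHom.mem_ker, map_mul, map_inv, hq2, mul_inv_cancel]
    have e1 : g1 = (g1 * t1⁻¹) * t1 := by group
    have e2 : g2 = (g2 * t2⁻¹) * t2 := by group
    rw [e1, e2, (hcen _ hd1).comm_left, (hcen _ hd2).comm_right]
    rw [Subgroup.mem_comap, map_commutatorElement]
    rw [commutatorElement_def]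
    exact Subgroup.mul_mem _ (Subgroup.mul_mem _ (Subgroup.mul_mem _ ht1 ht2)
      (Subgroup.inv_mem _ ht1)) (Subgroup.inv_mem _ ht2)
  intro g hgker hgcomm
  have hgT := hcomm hgcomm
  rw [Subgroup.mem_comap] at hgT
  obtain ⟨y, hy⟩ := hgT
  have hy1 : y = 1 := by
    rw [← hqφ y, hy, hqbπ]; exact MonoidHom.mem_ker.mp hgker
  rw [hy1, map_one] at hy
  have : g ∈ C := (QuotientGroup.eq_one_iff g).mp hy.symm
  exact this

end Cfsg.Agent.Helper6SchurAn
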