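import Mathlib
import Cfsg.Agent.S3335
import Cfsg.Agent.Lib.Helper6_SchurAn1
import Cfsg.Agent.Lib.Helper6_SchurAn2
import Cfsg.Agent.Lib.Helper6_SchurAn3
import Cfsg.Agent.Lib.Helper6_SchurAn4

set_option autoImplicit false

namespace Cfsg.Agent.Helper6SchurAn

open scoped commutatorElement

universe u

theorem cube_root_units (w : ℂˣ) : ∃ z : ℂˣ, z * z * z = w := by
  obtain ⟨z, hz⟩ := IsAlgClosed.exists_pow_nat_eq (w : ℂ) (n := 3) (by norm_num)
  have hz0 : z ≠ 0 := by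
    rintro rfl
    simp at hz
    exact w.ne_zero hz.symm
  refine ⟨Units.mk0 z hz0, ?_⟩
  ext
  simp only [Units.val_mul, Units.val_mk0]
  rw [← hz]; ring

theorem exists_embed (A : Type*) [CommGroup A] [Finite A] :
    ∃ ι : A →* ((A →* ℂˣ) → ℂˣ), Function.Injective ι := by
  refine ⟨{ toFun := fun z χ => χ z, map_one' := funext fun χ => map_one χ,
            map_mul' := fun a b => funext fun χ => map_mul χ a b }, ?_⟩
  rw [injective_iff_map_eq_one]
  intro a ha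
  by_contra hne
  have : NeZero (Monoid.exponent A) := ⟨Monoid.exponent_ne_zero_of_finite⟩
  obtain ⟨φ, hφ⟩ := CommGroup.exists_apply_ne_one_of_hasEnoughRootsOfUnity A ℂ hne
  exact hφ (congrFun ha φ)

theorem pi_cube_root {X : Type*} (f : X → ℂˣ) : ∃ g : X → ℂˣ, g * g * g = f := by
  choose g hg using fun x => cube_root_units (f x)
  exact ⟨g, funext hg⟩

theorem exists_embed_sub {Γ : Type u} [Group Γ] [Finite Γ] (Z : Subgroup Γ)
    (hZc : Z ≤ Subgroup.center Γ) :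
    ∃ (D₀ : Type u) (_ : CommGroup D₀) (ι : ↥Z →* D₀), Function.Injective ι ∧
      ∀ d : D₀, ∃ e : D₀, e * e * e = d := by
  let _ : CommGroup ↥Z := { (inferInstance : Group ↥Z) with
    mul_comm := fun a b => Subtype.ext (((Subgroup.mem_center_iff.mp (hZc a.2)) b.1).symm) }
  obtain ⟨ι, hι⟩ := exists_embed ↥Z
  exact ⟨_, inferInstance, ι, hι, fun d => pi_cube_root d⟩

section pushout

variable {Γ : Type u} [Group Γ] (Z : Subgroup Γ) {D₀ : Type u} [CommGroup D₀] (ι : ↥Z →* D₀)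

/-- the antidiagonal hom `z ↦ (z, (ι z)⁻¹)` -/
def antiHom : ↥Z →* Γ × D₀ := MonoidHom.prod Z.subtype (ι⁻¹)

theorem antiHom_apply (z : ↥Z) : antiHom Z ι z = ((z : Γ), (ι z)⁻¹) := rfl

/-- the antidiagonal subgroup -/
def antiSub : Subgroup (Γ × D₀) := (antiHom Z ι).range

theorem cen_of_mem_center {g : Γ} (hg : g ∈ Subgroup.center Γ) (d : D₀) :
    Cen ((g, d) : Γ × D₀) := by
  rintro ⟨a, b⟩
  ext
  · exact ((Subgroup.mem_center_iff.mp hg) a).symm
  · exact mul_comm _ _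

theorem antiSub_normal (hZc : Z ≤ Subgroup.center Γ) : (antiSub Z ι).Normal := by
  constructor
  rintro n ⟨z, rfl⟩ g
  rw [antiHom_apply, (cen_of_mem_center (hZc z.2) _).conj]
  exact ⟨z, rfl⟩

end pushout

theorem card_le_two_of_stem {Γ : Type u} [Group Γ] [Finite Γ] (Z : Subgroup Γ) [Z.Normal]
    (hZc : Z ≤ Subgroup.center Γ) (hZd : Z ≤ commutator Γ) {k : ℕ} (hk1 : 1 ≤ k)
    (hk : k ≤ 2 ∨ 5 ≤ k) (e : Γ ⧸ Z ≃* P k) : Nat.card Z ≤ 2 := by
  obtain ⟨D₀, _, ι, hι, hD₀root⟩ := exists_embed_sub Z hZc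
  have hNn : (antiSub Z ι).Normal := antiSub_normal Z ι hZc
  set N := antiSub Z ι with hN
  let π : Γ × D₀ →* (Γ × D₀) ⧸ N := QuotientGroup.mk' N
  let q0 : Γ × D₀ →* P k :=
    e.toMonoidHom.comp ((QuotientGroup.mk' Z).comp (MonoidHom.fst Γ D₀))
  have hq0 : ∀ g d, q0 (g, d) = e (QuotientGroup.mk' Z g) := fun g d => rfl
  have hmkZ : ∀ z : ↥Z, QuotientGroup.mk' Z (z : Γ) = 1 := fun z =>
    (QuotientGroup.eq_one_iff (z : Γ)).mpr z.2
  have hNker : N ≤ q0.ker := by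
    rintro n ⟨z, rfl⟩
    rw [MonoidHom.mem_ker, antiHom_apply, hq0, hmkZ, map_one]
  let q : (Γ × D₀) ⧸ N →* P k := QuotientGroup.lift N q0 hNker
  have hqπ : ∀ x, q (π x) = q0 x := fun x => QuotientGroup.lift_mk' N hNker x
  have hsurj : Function.Surjective q := by
    intro y
    obtain ⟨gb, rfl⟩ := e.surjective y
    obtain ⟨g, rfl⟩ := QuotientGroup.mk'_surjective Z gb
    exact ⟨π (g, 1), by rw [hqπ, hq0]⟩
  -- description of the kernel
  have hker : ∀ x ∈ q.ker, ∃ d : D₀, x = π (1, d) := by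
    intro x hx
    obtain ⟨⟨g, d⟩, rfl⟩ := QuotientGroup.mk'_surjective N x
    rw [MonoidHom.mem_ker] at hx
    change q (π (g, d)) = 1 at hx
    rw [hqπ, hq0, MulEquiv.map_eq_one_iff, QuotientGroup.mk'_apply,
      QuotientGroup.eq_one_iff] at hx
    refine ⟨ι ⟨g, hx⟩ * d, ?_⟩
    have : ((g, d) : Γ × D₀) = antiHom Z ι ⟨g, hx⟩ * (1, ι ⟨g, hx⟩ * d) := by
      rw [antiHom_apply]
      ext
      · simp
      · simp
    show π (g, d) = π (1, ι ⟨g, hx⟩ * d)
    rw [this, map_mul]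
    have h1 : π (antiHom Z ι ⟨g, hx⟩) = 1 :=
      (QuotientGroup.eq_one_iff _).mpr ⟨⟨g, hx⟩, rfl⟩
    rw [h1, one_mul]
  have hkermem : ∀ d : D₀, π (1, d) ∈ q.ker := by
    intro d
    rw [MonoidHom.mem_ker, hqπ, hq0, map_one, map_one]
  have hcen : ∀ x ∈ q.ker, Cen x := by
    intro x hx
    obtain ⟨d, rfl⟩ := hker x hx
    intro y
    obtain ⟨y0, rfl⟩ := QuotientGroup.mk'_surjective N y
    show π (1, d) * π y0 = π y0 * π (1, d)
    rw [← map_mul, ← map_mul, cen_of_mem_center (Subgroup.one_mem _) d y0]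
  have hroot : ∀ x ∈ q.ker, ∃ y ∈ q.ker, y * y * y = x := by
    intro x hx
    obtain ⟨d, rfl⟩ := hker x hx
    obtain ⟨d', rfl⟩ := hD₀root d
    refine ⟨π (1, d'), hkermem d', ?_⟩
    rw [← map_mul, ← map_mul]
    congr 1
    ext <;> simp
  obtain ⟨c, hcc, hmain⟩ := ker_inf_commutator hk1 hk q hsurj hcen hroot
  -- the embedding of Γ
  let jΓ : Γ →* (Γ × D₀) ⧸ N := π.comp (MonoidHom.inl Γ D₀)
  have hjΓ : ∀ g, jΓ g = π (g, 1) := fun g => rfl
  have hjinj : ∀ z : ↥Z, jΓ z = 1 → z = 1 := by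
    intro z hz
    rw [hjΓ] at hz
    have hmem : ((z : Γ), (1 : D₀)) ∈ N := (QuotientGroup.eq_one_iff _).mp hz
    obtain ⟨z', hz'⟩ := hmem
    rw [antiHom_apply] at hz'
    have h1 : (z' : Γ) = z := congrArg Prod.fst hz'
    have h2 : (ι z')⁻¹ = 1 := congrArg Prod.snd hz'
    have h3 : z' = 1 := (injective_iff_map_eq_one ι).mp hι z' (inv_eq_one.mp h2)
    apply Subtype.ext
    rw [← h1, h3]
  have hjker : ∀ z : ↥Z, jΓ z ∈ q.ker := by
    intro z
    rw [MonoidHom.mem_ker, hjΓ, hqπ, hq0, hmkZ, map_one]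
  have hjcomm : ∀ z : ↥Z, jΓ z ∈ commutator ((Γ × D₀) ⧸ N) := by
    intro z
    have hz : (z : Γ) ∈ commutator Γ := hZd z.2
    have hmap : (commutator Γ).map jΓ ≤ commutator ((Γ × D₀) ⧸ N) := by
      rw [commutator_def, Subgroup.map_commutator, commutator_def]
      exact Subgroup.commutator_mono le_top le_top
    exact hmap (Subgroup.mem_map_of_mem jΓ hz)
  have hval : ∀ z : ↥Z, jΓ z = 1 ∨ jΓ z = c := fun z => hmain _ (hjker z) (hjcomm z)
  -- count
  classical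
  let F : ↥Z → Bool := fun z => decide (jΓ (z : Γ) = 1)
  have hF : Function.Injective F := by
    intro z1 z2 h
    have h' : (jΓ (z1 : Γ) = 1) ↔ (jΓ (z2 : Γ) = 1) := by
      simpa [F] using h
    have heq : jΓ (z1 : Γ) = jΓ (z2 : Γ) := by
      rcases hval z1 with h1 | h1
      · rw [h1, h'.mp h1]
      · rcases hval z2 with h2 | h2
        · rw [h2, h'.mpr h2]
        · rw [h1, h2]
    have : z1 * z2⁻¹ = 1 := by
      apply hjinj
      rw [Subgroup.coe_mul, Subgroup.coe_inv, map_mul, map_inv, heq, mul_inv_cancel]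
    exact mul_inv_eq_one.mp this
  calc Nat.card ↥Z ≤ Nat.card Bool := Nat.card_le_card_of_injective F hF
    _ = 2 := by simp

end Cfsg.Agent.Helper6SchurAn
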