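import Mathlib
import Cfsg.Agent.S3335
import Cfsg.Agent.Lib.Helper6_SchurAn1
import Cfsg.Agent.Lib.Helper6_SchurAn2
import Cfsg.Agent.Lib.Helper6_SchurAn3
import Cfsg.Agent.Lib.Helper6_SchurAn4

set_option autoImplicit false

namespace Cfsg.Agent.Helper6SchurAn

open scoped commutatorElement

variable {k : ℕ} {E : Type*} [Group E]

/-- generalized normalization, valid for all `k ≥ 1`: the only possibly exceptional relation is
`(T 0 * T 3)^2 = η * c`. -/
theorem exists_normalized_gen (hk1 : 1 ≤ k) (q : E →* P k)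
    (hsurj : Function.Surjective q) (hcen : ∀ d ∈ q.ker, Cen d)
    (hroot : ∀ d ∈ q.ker, ∃ e ∈ q.ker, e * e * e = d) :
    ∃ (T : ℕ → E) (c η : E), c ∈ q.ker ∧ η ∈ q.ker ∧ c * c = 1 ∧ η * η * η = 1 ∧
      (∀ i, i ≤ k → q (T i) = xs k i) ∧
      T 0 * T 0 * T 0 = 1 ∧ (∀ i, 1 ≤ i → i ≤ k → T i * T i = c) ∧
      (∀ i, i + 1 ≤ k → (T i * T (i + 1)) * (T i * T (i + 1)) * (T i * T (i + 1)) = 1) ∧
      (∀ i j, i + 2 ≤ j → j ≤ k → (i = 0 ∧ j = 3) ∨ (T i * T j) * (T i * T j) = c) ∧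
      (3 ≤ k → (T 0 * T 3) * (T 0 * T 3) = η * c) := by
  obtain ⟨U, c, N⟩ := exists_Norm hk1 q hsurj hcen hroot
  -- the scaling factor
  obtain ⟨δ, hδ, hδ3, hδj⟩ : ∃ δ, δ ∈ q.ker ∧ δ * δ * δ = 1 ∧
      ∀ j, 2 ≤ j → j ≤ k → j ≠ 3 → U j * U 0 * (U j)⁻¹ = δ * (U 0)⁻¹ := by
    by_cases h2 : 2 ≤ k
    · refine ⟨dl U 2, N.dl_mem (le_refl 2) h2, N.dl_cube (le_refl 2) h2, ?_⟩
      intro j hj2 hjk hj3
      have : dl U j = dl U 2 := by
        by_cases h4 : 4 ≤ j
        · exact N.dl_eq (le_refl 2) h4 hjk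
        · obtain rfl : j = 2 := by omega
          rfl
      rw [← this]
      exact dl_rel U j
    · exact ⟨1, one_mem _, by group, fun j hj2 hjk => by omega⟩
  have cδ := hcen δ hδ
  -- the exceptional factor
  obtain ⟨η, hη, hη3, hη0⟩ : ∃ η, η ∈ q.ker ∧ η * η * η = 1 ∧
      (3 ≤ k → U 3 * (δ * U 0) * (U 3)⁻¹ = η * (δ * U 0)⁻¹) := by
    by_cases h3 : 3 ≤ k
    · have hmem : U 3 * (δ * U 0) * (U 3)⁻¹ * (δ * U 0) ∈ q.ker := by
        rw [MonoidHom.mem_ker]
        simp only [map_mul, map_inv, N.hq 0 (by omega), N.hq 3 h3, MonoidHom.mem_ker.mp hδ, one_mul]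
        rw [xs_conj_zero (by omega) h3, inv_mul_cancel]
      have hrel : U 3 * (δ * U 0) * (U 3)⁻¹ =
          (U 3 * (δ * U 0) * (U 3)⁻¹ * (δ * U 0)) * (δ * U 0)⁻¹ := by group
      have h0' : (δ * U 0) * (δ * U 0) * (δ * U 0) = 1 := by
        rw [cδ.mul_cube, hδ3, N.h0, mul_one]
      have := (lemE1 (U 3) (δ * U 0) c _ N.cc (hcen _ hmem) h0'
        (N.hsq 3 (by omega) h3) hrel).1
      exact ⟨_, hmem, this, fun _ => hrel⟩
    · exact ⟨1, one_mem _, by group, fun h => absurd h h3⟩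
  have cη := hcen η hη
  refine ⟨fun i => if i = 0 then δ * U 0 else U i, c, η, N.hc, hη, N.hcc, hη3, ?_, ?_, ?_, ?_, ?_, ?_⟩
  · intro i hi
    by_cases h : i = 0
    · subst h
      simp only [if_true]
      rw [map_mul, MonoidHom.mem_ker.mp hδ, one_mul, N.hq 0 hi]
    · simp only [if_neg h]
      exact N.hq i hi
  · simp only [if_true]
    rw [cδ.mul_cube, hδ3, N.h0, mul_one]
  · intro i h1 hi
    have h : i ≠ 0 := by omega
    simp only [if_neg h]
    exact N.hsq i h1 hi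
  · intro i hi
    have h1 : i + 1 ≠ 0 := by omega
    simp only [if_neg h1]
    by_cases h : i = 0
    · subst h
      simp only [if_true]
      rw [cube_scale (U 0) δ cδ hδ3]
      exact N.hadj 0 hi
    · simp only [if_neg h]
      exact N.hadj i hi
  · intro i j hij hj
    have hj0 : j ≠ 0 := by omega
    simp only [if_neg hj0]
    by_cases h : i = 0
    · by_cases hj3 : j = 3
      · left; exact ⟨h, hj3⟩
      · right
        subst h
        simp only [if_true]
        exact lemE3 (U j) (U 0) c δ cδ hδ3 (N.hsq j (by omega) hj) (hδj j (by omega) hj hj3)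
    · right
      simp only [if_neg h]
      exact N.far_sq (by omega) hij hj
  · intro h3
    have h30 : (3 : ℕ) ≠ 0 := by omega
    simp only [if_true, if_neg h30]
    have h0' : (δ * U 0) * (δ * U 0) * (δ * U 0) = 1 := by
      rw [cδ.mul_cube, hδ3, N.h0, mul_one]
    exact (lemE1 (U 3) (δ * U 0) c η N.cc cη h0' (N.hsq 3 (by omega) h3) (hη0 h3)).2


theorem zpowers_normal_of_cen {u : E} (hu : Cen u) : (Subgroup.zpowers u).Normal := by
  constructor
  intro n hn g
  obtain ⟨m, rfl⟩ := Subgroup.mem_zpowers_iff.mp hn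
  have hc : Cen (u ^ m) := by
    intro x
    exact ((hu.commute x).zpow_left m).eq
  rw [hc.conj]
  exact Subgroup.zpow_mem_zpowers u m

theorem ker_inf_commutator_gen (hk1 : 1 ≤ k) (q : E →* P k)
    (hsurj : Function.Surjective q) (hcen : ∀ d ∈ q.ker, Cen d)
    (hroot : ∀ d ∈ q.ker, ∃ e ∈ q.ker, e * e * e = d) :
    ∃ u : E, u ^ 6 = 1 ∧ ∀ g ∈ q.ker, g ∈ commutator E → g ∈ Subgroup.zpowers u := by
  obtain ⟨T, c, η, hc, hη, hcc, hη3, hqT, hT0, hTsq, hTadj, hTfar, hT03⟩ :=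
    exists_normalized_gen hk1 q hsurj hcen hroot
  have cc := hcen c hc
  have cη := hcen η hη
  have hcη : c * η = η * c := cc η
  have hc2 : c ^ 2 = 1 := by rw [pow_two]; exact hcc
  have hη3' : η ^ 3 = 1 := by rw [pow_three']; exact hη3
  have hu6 : (c * η) ^ 6 = 1 := by
    rw [(cc.commute η).mul_pow]
    have h1 : c ^ 6 = 1 := by
      calc c ^ 6 = (c ^ 2) ^ 3 := by rw [← pow_mul]
        _ = 1 := by rw [hc2, one_pow]
    have h2 : η ^ 6 = 1 := by
      calc η ^ 6 = (η ^ 3) ^ 2 := by rw [← pow_mul]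
        _ = 1 := by rw [hη3', one_pow]
    rw [h1, h2, one_mul]
  refine ⟨c * η, hu6, ?_⟩
  have cu : Cen (c * η) := cc.mul cη
  have hCn : (Subgroup.zpowers (c * η)).Normal := zpowers_normal_of_cen cu
  set C := Subgroup.zpowers (c * η) with hC
  have hcC : c ∈ C := by
    have : (c * η) ^ 3 = c := by
      rw [(cc.commute η).mul_pow, hη3', mul_one]
      calc c ^ 3 = c ^ 2 * c := pow_succ c 2
        _ = c := by rw [hc2, one_mul]
    rw [← this]
    exact Subgroup.npow_mem_zpowers _ 3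
  have hηC : η ∈ C := by
    have : (c * η) ^ 4 = η := by
      rw [(cc.commute η).mul_pow]
      have h1 : c ^ 4 = 1 := by
        calc c ^ 4 = (c ^ 2) ^ 2 := by rw [← pow_mul]
          _ = 1 := by rw [hc2, one_pow]
      have h2 : η ^ 4 = η := by
        calc η ^ 4 = η ^ 3 * η := pow_succ η 3
          _ = η := by rw [hη3', one_mul]
      rw [h1, h2, one_mul]
    rw [← this]
    exact Subgroup.npow_mem_zpowers _ 4
  let π : E →* E ⧸ C := QuotientGroup.mk' C
  have hπc : π c = 1 := (QuotientGroup.eq_one_iff c).mpr hcC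
  have hπη : π η = 1 := (QuotientGroup.eq_one_iff η).mpr hηC
  let f : Fin (k + 1) → E ⧸ C := fun i => π (T i.val)
  have h1 : ∀ i : Fin (k + 1), i.val = 0 → f i ^ 3 = 1 := by
    intro i hi
    show π (T i.val) ^ 3 = 1
    rw [hi, ← map_pow, pow_three', hT0, map_one]
  have h2 : ∀ i : Fin (k + 1), 1 ≤ i.val → f i ^ 2 = 1 := by
    intro i hi
    show π (T i.val) ^ 2 = 1
    rw [← map_pow, pow_two, hTsq i.val hi (by omega), hπc]
  have h3 : ∀ i j : Fin (k + 1), j.val = i.val + 1 → (f i * f j) ^ 3 = 1 := by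
    intro i j hij
    show (π (T i.val) * π (T j.val)) ^ 3 = 1
    rw [hij, ← map_mul, ← map_pow, pow_three', hTadj i.val (by omega), map_one]
  have h4 : ∀ i j : Fin (k + 1), i.val + 1 < j.val → (f i * f j) ^ 2 = 1 := by
    intro i j hij
    show (π (T i.val) * π (T j.val)) ^ 2 = 1
    rw [← map_mul, ← map_pow, pow_two]
    rcases hTfar i.val j.val (by omega) (by omega) with ⟨hi0, hj3⟩ | h
    · rw [hi0, hj3, hT03 (by omega), map_mul, hπc, hπη, one_mul]
    · rw [h, hπc]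
  let φ : P k →* E ⧸ C := Cfsg.Agent.S3335.liftG f h1 h2 h3 h4
  have hφX : ∀ i : Fin (k + 1), φ (X k i) = π (T i.val) := fun i =>
    Cfsg.Agent.S3335.liftG_x f h1 h2 h3 h4 i
  have hCker : C ≤ q.ker := by
    rw [hC, Subgroup.zpowers_le]
    exact Subgroup.mul_mem _ hc hη
  let qb : E ⧸ C →* P k := QuotientGroup.lift C q hCker
  have hqbπ : ∀ g, qb (π g) = q g := fun g => QuotientGroup.lift_mk' C hCker g
  have hcomp : qb.comp φ = MonoidHom.id (P k) := by
    apply Cfsg.Agent.S3335.hom_ext_x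
    intro i
    show qb (φ (X k i)) = X k i
    rw [hφX, hqbπ, hqT i.val (by omega), xs_of_lt i.isLt]
  have hqφ : ∀ y, qb (φ y) = y := fun y => by
    have := congrArg (fun F => F y) hcomp
    exact this
  have hlift : ∀ g : E, ∃ t : E, π t ∈ φ.range ∧ q t = q g := by
    intro g
    obtain ⟨t, ht⟩ := QuotientGroup.mk'_surjective C (φ (q g))
    refine ⟨t, ⟨q g, ht.symm⟩, ?_⟩
    rw [← hqbπ, show π t = φ (q g) from ht, hqφ]
  have hcomm : commutator E ≤ φ.range.comap π := by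
    rw [commutator_def, Subgroup.commutator_le]
    intro g1 _ g2 _
    obtain ⟨t1, ht1, hq1⟩ := hlift g1
    obtain ⟨t2, ht2, hq2⟩ := hlift g2
    have hd1 : g1 * t1⁻¹ ∈ q.ker := by
      rw [MonoidHom.mem_ker, map_mul, map_inv, hq1, mul_inv_cancel]
    have hd2 : g2 * t2⁻¹ ∈ q.ker := by
      rw [MonoidHom.mem_ker, map_mul, map_inv, hq2, mul_inv_cancel]
    have e1 : g1 = (g1 * t1⁻¹) * t1 := by group
    have e2 : g2 = (g2 * t2⁻¹) * t2 := by group
    rw [e1, e2, (hcen _ hd1).comm_left, (hcen _ hd2).comm_right]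
    rw [Subgroup.mem_comap, map_commutatorElement]
    rw [commutatorElement_def]
    exact Subgroup.mul_mem _ (Subgroup.mul_mem _ (Subgroup.mul_mem _ ht1 ht2)
      (Subgroup.inv_mem _ ht1)) (Subgroup.inv_mem _ ht2)
  intro g hgker hgcomm
  have hgT := hcomm hgcomm
  rw [Subgroup.mem_comap] at hgT
  obtain ⟨y, hy⟩ := hgT
  have hy1 : y = 1 := by
    rw [← hqφ y, hy, hqbπ]; exact MonoidHom.mem_ker.mp hgker
  rw [hy1, map_one] at hy
  exact (QuotientGroup.eq_one_iff g).mp hy.symm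

end Cfsg.Agent.Helper6SchurAn
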