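import Mathlib
import Cfsg.Agent.S3335
import Cfsg.Agent.Lib.Helper6_SchurAn1
import Cfsg.Agent.Lib.Helper6_SchurAn2
import Cfsg.Agent.Lib.Helper6_SchurAn3
import Cfsg.Agent.Lib.Helper6_SchurAn4
import Cfsg.Agent.Lib.Helper6_SchurAn5
import Cfsg.Agent.Lib.Helper6_SchurAn6

set_option autoImplicit false

namespace Cfsg.Agent.Helper6SchurAn

open scoped commutatorElement

universe u

/-- the pushout of a central extension of `P k` along an embedding of the kernel into a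
commutative group with cube roots -/
theorem pushout_exists {Γ : Type u} [Group Γ] [Finite Γ] (Z : Subgroup Γ) [Z.Normal]
    (hZc : Z ≤ Subgroup.center Γ) {k : ℕ} (e : Γ ⧸ Z ≃* P k) :
    ∃ (E : Type u) (_ : Group E) (q : E →* P k) (j : Γ →* E), Function.Surjective q ∧
      (∀ d ∈ q.ker, Cen d) ∧ (∀ d ∈ q.ker, ∃ e ∈ q.ker, e * e * e = d) ∧
      (∀ z : ↥Z, j z = 1 → z = 1) ∧ (∀ z : ↥Z, j z ∈ q.ker) := by
  obtain ⟨D₀, _, ι, hι, hD₀root⟩ := exists_embed_sub Z hZc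
  have hNn : (antiSub Z ι).Normal := antiSub_normal Z ι hZc
  set N := antiSub Z ι with hN
  let π : Γ × D₀ →* (Γ × D₀) ⧸ N := QuotientGroup.mk' N
  let q0 : Γ × D₀ →* P k :=
    e.toMonoidHom.comp ((QuotientGroup.mk' Z).comp (MonoidHom.fst Γ D₀))
  have hq0 : ∀ g d, q0 (g, d) = e (QuotientGroup.mk' Z g) := fun g d => rfl
  have hmkZ : ∀ z : ↥Z, QuotientGroup.mk' Z (z : Γ) = 1 := fun z =>
    (QuotientGroup.eq_one_iff (z : Γ)).mpr z.2
  have hNker : N ≤ q0.ker := by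
    rintro n ⟨z, rfl⟩
    rw [MonoidHom.mem_ker, antiHom_apply, hq0, hmkZ, map_one]
  let q : (Γ × D₀) ⧸ N →* P k := QuotientGroup.lift N q0 hNker
  have hqπ : ∀ x, q (π x) = q0 x := fun x => QuotientGroup.lift_mk' N hNker x
  have hsurj : Function.Surjective q := by
    intro y
    obtain ⟨gb, rfl⟩ := e.surjective y
    obtain ⟨g, rfl⟩ := QuotientGroup.mk'_surjective Z gb
    exact ⟨π (g, 1), by rw [hqπ, hq0]⟩
  have hker : ∀ x ∈ q.ker, ∃ d : D₀, x = π (1, d) := by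
    intro x hx
    obtain ⟨⟨g, d⟩, rfl⟩ := QuotientGroup.mk'_surjective N x
    rw [MonoidHom.mem_ker] at hx
    change q (π (g, d)) = 1 at hx
    rw [hqπ, hq0, MulEquiv.map_eq_one_iff, QuotientGroup.mk'_apply,
      QuotientGroup.eq_one_iff] at hx
    refine ⟨ι ⟨g, hx⟩ * d, ?_⟩
    have : ((g, d) : Γ × D₀) = antiHom Z ι ⟨g, hx⟩ * (1, ι ⟨g, hx⟩ * d) := by
      rw [antiHom_apply]
      ext
      · simp
      · simp
    show π (g, d) = π (1, ι ⟨g, hx⟩ * d)
    rw [this, map_mul]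
    have h1 : π (antiHom Z ι ⟨g, hx⟩) = 1 :=
      (QuotientGroup.eq_one_iff _).mpr ⟨⟨g, hx⟩, rfl⟩
    rw [h1, one_mul]
  have hkermem : ∀ d : D₀, π (1, d) ∈ q.ker := by
    intro d
    rw [MonoidHom.mem_ker, hqπ, hq0, map_one, map_one]
  have hcen : ∀ x ∈ q.ker, Cen x := by
    intro x hx
    obtain ⟨d, rfl⟩ := hker x hx
    intro y
    obtain ⟨y0, rfl⟩ := QuotientGroup.mk'_surjective N y
    show π (1, d) * π y0 = π y0 * π (1, d)
    rw [← map_mul, ← map_mul, cen_of_mem_center (Subgroup.one_mem _) d y0]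
  have hroot : ∀ x ∈ q.ker, ∃ y ∈ q.ker, y * y * y = x := by
    intro x hx
    obtain ⟨d, rfl⟩ := hker x hx
    obtain ⟨d', rfl⟩ := hD₀root d
    refine ⟨π (1, d'), hkermem d', ?_⟩
    rw [← map_mul, ← map_mul]
    congr 1
    ext <;> simp
  let jΓ : Γ →* (Γ × D₀) ⧸ N := π.comp (MonoidHom.inl Γ D₀)
  have hjΓ : ∀ g, jΓ g = π (g, 1) := fun g => rfl
  have hjinj : ∀ z : ↥Z, jΓ z = 1 → z = 1 := by
    intro z hz
    rw [hjΓ] at hz
    have hmem : ((z : Γ), (1 : D₀)) ∈ N := (QuotientGroup.eq_one_iff _).mp hz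
    obtain ⟨z', hz'⟩ := hmem
    rw [antiHom_apply] at hz'
    have h1 : (z' : Γ) = z := congrArg Prod.fst hz'
    have h2 : (ι z')⁻¹ = 1 := congrArg Prod.snd hz'
    have h3 : z' = 1 := (injective_iff_map_eq_one ι).mp hι z' (inv_eq_one.mp h2)
    apply Subtype.ext
    rw [← h1, h3]
  have hjker : ∀ z : ↥Z, jΓ z ∈ q.ker := by
    intro z
    rw [MonoidHom.mem_ker, hjΓ, hqπ, hq0, hmkZ, map_one]
  exact ⟨_, inferInstance, q, jΓ, hsurj, hcen, hroot, hjinj, hjker⟩

/-- upper bound: the kernel of a finite stem extension of `P k` (any `k ≥ 1`) is cyclic of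
order dividing `6`: there is a generator-like element `w` with `w ^ 6 = 1`. -/
theorem stem_ker_le_zpowers {Γ : Type u} [Group Γ] [Finite Γ] (Z : Subgroup Γ) [Z.Normal]
    (hZc : Z ≤ Subgroup.center Γ) (hZd : Z ≤ commutator Γ) {k : ℕ} (hk1 : 1 ≤ k)
    (e : Γ ⧸ Z ≃* P k) :
    ∃ (A : Type u) (_ : Group A) (u : A) (f : ↥Z →* A), u ^ 6 = 1 ∧ Function.Injective f ∧
      ∀ z, f z ∈ Subgroup.zpowers u := by
  obtain ⟨E, _, q, j, hsurj, hcen, hroot, hjinj, hjker⟩ := pushout_exists Z hZc e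
  obtain ⟨u, hu6, hmain⟩ := ker_inf_commutator_gen hk1 q hsurj hcen hroot
  have hjcomm : ∀ z : ↥Z, j z ∈ commutator E := by
    intro z
    have hz : (z : Γ) ∈ commutator Γ := hZd z.2
    have hmap : (commutator Γ).map j ≤ commutator E := by
      rw [commutator_def, Subgroup.map_commutator, commutator_def]
      exact Subgroup.commutator_mono le_top le_top
    exact hmap (Subgroup.mem_map_of_mem j hz)
  refine ⟨E, inferInstance, u, j.comp Z.subtype, hu6, ?_, ?_⟩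
  · rw [injective_iff_map_eq_one]
    intro z hz
    exact hjinj z hz
  · intro z
    exact hmain _ (hjker z) (hjcomm z)

/-- a finite group that embeds in `zpowers u` with `u ^ 6 = 1` is an image of `ZMod 6` -/
theorem exists_surj_zmod6 {B : Type*} [Group B] [Finite B] {A : Type*} [Group A] (u : A)
    (hu : u ^ 6 = 1) (f : B →* A) (hf : Function.Injective f)
    (hmem : ∀ b, f b ∈ Subgroup.zpowers u) :
    ∃ π : Multiplicative (ZMod 6) →* B, Function.Surjective π := by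
  -- B is cyclic
  let f' : B →* ↥(Subgroup.zpowers u) := f.codRestrict _ hmem
  have hf' : Function.Injective f' := by
    intro a b hab
    apply hf
    exact congrArg Subtype.val hab
  haveI : IsCyclic B := isCyclic_of_injective f' hf'
  obtain ⟨w, hw⟩ := IsCyclic.exists_generator (α := B)
  have hw6 : w ^ 6 = 1 := by
    apply hf
    rw [map_pow, map_one]
    obtain ⟨m, hm⟩ := Subgroup.mem_zpowers_iff.mp (hmem w)
    rw [← hm, ← zpow_natCast, ← zpow_mul, mul_comm, zpow_mul, zpow_natCast, hu, one_zpow]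
  let g : ℤ →+ Additive B := zmultiplesHom (Additive B) (Additive.ofMul w)
  have hg6 : g (6 : ℕ) = 0 := by
    show ((6 : ℕ) : ℤ) • Additive.ofMul w = 0
    rw [natCast_zsmul, ← ofMul_pow, hw6, ofMul_one]
  let h : ZMod 6 →+ Additive B := ZMod.lift 6 ⟨g, hg6⟩
  refine ⟨AddMonoidHom.toMultiplicativeLeft h, ?_⟩
  intro b
  obtain ⟨m, hm⟩ := Subgroup.mem_zpowers_iff.mp (hw b)
  refine ⟨Multiplicative.ofAdd ((m : ℤ) : ZMod 6), ?_⟩
  show Additive.toMul (h ((m : ℤ) : ZMod 6)) = b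
  rw [ZMod.lift_coe]
  show Additive.toMul (m • Additive.ofMul w) = b
  rw [← ofMul_zpow, toMul_ofMul, hm]

end Cfsg.Agent.Helper6SchurAn
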