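/-
Leech-triangle counting in Steiner systems: the number of blocks meeting a block `b` exactly in
a prescribed subset, by downward recursion on the size of the subset.
-/
import Mathlib
import Cfsg.Agent.Lib.Helper6_Steiner

set_option autoImplicit false
set_option linter.unusedSectionVars false
set_option linter.unusedVariables false

namespace Cfsg.Agent.Lib.Helper6_Steiner

open Cfsg
open scoped Classical

variable {α : Type*} [Fintype α] [DecidableEq α]

/-- the blocks meeting `b` exactly in `u` -/
noncomputable def exactBlocks (B : Set (Finset α)) (b u : Finset α) : Finset (Finset α) :=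
  (blocks B).filter (fun c => b ∩ c = u)

theorem mem_exactBlocks {B : Set (Finset α)} {b u c : Finset α} :
    c ∈ exactBlocks B b u ↔ c ∈ B ∧ b ∩ c = u := by
  simp [exactBlocks, mem_blocks]

theorem ncard_exact (B : Set (Finset α)) (b u : Finset α) :
    {c : Finset α | c ∈ B ∧ b ∩ c = u}.ncard = (exactBlocks B b u).card := by
  rw [← Set.ncard_coe_finset]
  congr 1
  ext c
  simp [mem_exactBlocks]

/-- the blocks through `s ⊆ b`, sorted by their exact intersection with `b` -/
theorem card_blocksThrough_eq_sum (B : Set (Finset α)) {b s : Finset α} (hs : s ⊆ b) :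
    (blocksThrough B s).card =
      ∑ u ∈ (b.powerset).filter (fun u => s ⊆ u), (exactBlocks B b u).card := by
  rw [Finset.card_eq_sum_card_fiberwise (f := fun c => b ∩ c)
    (t := (b.powerset).filter (fun u => s ⊆ u))]
  · apply Finset.sum_congr rfl
    intro u hu
    rw [Finset.mem_filter, Finset.mem_powerset] at hu
    congr 1
    ext c
    simp only [Finset.mem_filter, mem_blocksThrough, mem_exactBlocks]
    constructor
    · rintro ⟨⟨hc, _⟩, h⟩
      exact ⟨hc, h⟩
    · rintro ⟨hc, h⟩
      refine ⟨⟨hc, ?_⟩, h⟩
      exact (hu.2.trans (h ▸ Finset.inter_subset_right))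
  · intro c hc
    rw [Finset.mem_coe, mem_blocksThrough] at hc
    rw [Finset.mem_coe, Finset.mem_filter, Finset.mem_powerset]
    exact ⟨Finset.inter_subset_left, Finset.subset_inter hs hc.2⟩

/-- the same sum, split by the size of the intersection -/
theorem card_blocksThrough_eq_sum_range (B : Set (Finset α)) {b s : Finset α} (hs : s ⊆ b) :
    (blocksThrough B s).card =
      ∑ j ∈ Finset.range (b.card + 1),
        ∑ u ∈ (Finset.powersetCard j b).filter (fun u => s ⊆ u), (exactBlocks B b u).card := by
  rw [card_blocksThrough_eq_sum B hs,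
    ← Finset.sum_fiberwise_of_maps_to (g := fun u => u.card) (t := Finset.range (b.card + 1))]
  · apply Finset.sum_congr rfl
    intro j _
    apply Finset.sum_congr _ (fun _ _ => rfl)
    ext u
    simp only [Finset.mem_filter, Finset.mem_powerset, Finset.mem_powersetCard]
    tauto
  · intro u hu
    rw [Finset.mem_filter, Finset.mem_powerset] at hu
    rw [Finset.mem_range]
    exact Nat.lt_succ_of_le (Finset.card_le_card hu.1)

/-- layers below the size of `s` do not contribute -/
theorem layer_lt (B : Set (Finset α)) {b s : Finset α} {j : ℕ} (hj : j < s.card) :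
    ∑ u ∈ (Finset.powersetCard j b).filter (fun u => s ⊆ u), (exactBlocks B b u).card = 0 := by
  apply Finset.sum_eq_zero
  intro u hu
  rw [Finset.mem_filter, Finset.mem_powersetCard] at hu
  have := Finset.card_le_card hu.2
  omega

/-- the layer of `s` itself -/
theorem layer_eq (B : Set (Finset α)) {b s : Finset α} (hs : s ⊆ b) :
    ∑ u ∈ (Finset.powersetCard s.card b).filter (fun u => s ⊆ u), (exactBlocks B b u).card =
      (exactBlocks B b s).card := by
  have : (Finset.powersetCard s.card b).filter (fun u => s ⊆ u) = {s} := by
    ext u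
    simp only [Finset.mem_filter, Finset.mem_powersetCard, Finset.mem_singleton]
    constructor
    · rintro ⟨⟨_, h1⟩, h2⟩
      exact (Finset.eq_of_subset_of_card_le h2 (le_of_eq h1)).symm
    · rintro rfl
      exact ⟨⟨hs, rfl⟩, le_refl _⟩
  rw [this, Finset.sum_singleton]

/-- a layer on which the count is constant -/
theorem layer_const (B : Set (Finset α)) {b s : Finset α} (hs : s ⊆ b) {j μ : ℕ}
    (hj : s.card ≤ j)
    (hμ : ∀ u : Finset α, u ⊆ b → u.card = j → (exactBlocks B b u).card = μ) :
    ∑ u ∈ (Finset.powersetCard j b).filter (fun u => s ⊆ u), (exactBlocks B b u).card =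
      Nat.choose (b.card - s.card) (j - s.card) * μ := by
  have h : ∀ u ∈ (Finset.powersetCard j b).filter (fun u => s ⊆ u),
      (exactBlocks B b u).card = μ := by
    intro u hu
    rw [Finset.mem_filter, Finset.mem_powersetCard] at hu
    exact hμ u hu.1.1 hu.1.2
  rw [Finset.sum_congr rfl h, Finset.sum_const, smul_eq_mul, card_supersets s b hs j hj]

/-- the top layer: only `b` meets `b` in `b` -/
theorem card_exactBlocks_self {t k : ℕ} {B : Set (Finset α)} (hB : IsSteinerSystem t k B)
    {b : Finset α} (hb : b ∈ B) : (exactBlocks B b b).card = 1 := by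
  have : exactBlocks B b b = {b} := by
    ext c
    rw [mem_exactBlocks, Finset.mem_singleton]
    constructor
    · rintro ⟨hc, h⟩
      have hbc : b ⊆ c := Finset.inter_eq_left.1 h
      exact (Finset.eq_of_subset_of_card_le hbc (by rw [hB.1 b hb, hB.1 c hc])).symm
    · rintro rfl
      exact ⟨hb, Finset.inter_self _⟩
  rw [this, Finset.card_singleton]

end Cfsg.Agent.Lib.Helper6_Steiner
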