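import Mathlib
import Cfsg.Agent.Lib.Helper95_FeitDefs
import Cfsg.Agent.Lib.Helper95_FeitCore
import Cfsg.Agent.Lib.Helper3_CharComplete
import Cfsg.Agent.Lib.Helper3_CharBridge
import Cfsg.Agent.Lib.Helper75_CharArith
import Cfsg.Agent.Lib.Helper75_IndChar
import Cfsg.Agent.Lib.Helper75_CharProd
import Cfsg.Agent.Lib.Helper31_Feit_PC1
import Cfsg.Agent.Lib.Helper16_CohCount
import Cfsg.Agent.Lib.Helper6_SuzArithDefs

/-!
# Zassenhaus groups with a Suzuki 2-group kernel (S0347 / S1147 / S0340): shared definitions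
(helper6)

`SzSetup N H h e q` is the group-theoretic interface: `ZData N H h e` of the Feit development
(`N` a point stabiliser, `H` its Frobenius kernel, `h = |H|`, `e = |N : H|`) together with the
Suzuki-2-group facts about `H` (obtained from S1137/S1138): `q = e + 1 = |Z(H)|`, squares and
commutators of `H` are central, `Z(H)` has exponent 2, `N` is transitive on `Z(H) \ 1`, `N/H` is
abelian, `h = q²` or `h = q³`, and `G` is simple.
-/

set_option autoImplicit false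
set_option linter.unusedSectionVars false

namespace Cfsg.Agent.Lib.Helper6_SuzDefs

open Cfsg Cfsg.Agent.Lib.Helper95_FeitDefs
open scoped ComplexConjugate

universe u

section groups

variable {G : Type u} [Group G]

/-- The centre of `H`, as a subgroup of `G`. -/
def ZC (H : Subgroup G) : Subgroup G := (Subgroup.center H).map H.subtype

theorem mem_ZC {H : Subgroup G} {z : G} : z ∈ ZC H ↔ z ∈ H ∧ ∀ u ∈ H, u * z = z * u := by
  unfold ZC
  rw [Subgroup.mem_map]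
  constructor
  · rintro ⟨w, hw, rfl⟩
    refine ⟨w.2, fun u hu => ?_⟩
    have := Subgroup.mem_center_iff.mp hw ⟨u, hu⟩
    exact congrArg Subtype.val this
  · rintro ⟨hz, hc⟩
    refine ⟨⟨z, hz⟩, ?_, rfl⟩
    rw [Subgroup.mem_center_iff]
    intro g
    exact Subtype.ext (hc g g.2)

theorem ZC_le (H : Subgroup G) : ZC H ≤ H := fun _ hz => (mem_ZC.mp hz).1

/-- The group-theoretic interface. -/
structure SzSetup [Fintype G] (N H : Subgroup G) (h e q : ℕ) : Prop where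
  zdata : ZData N H h e
  simple : IsSimpleGroup G
  q_eq : q = e + 1
  two_group : IsPGroup 2 H
  card_ZC : Nat.card (ZC H) = q
  sq_mem : ∀ u ∈ H, u * u ∈ ZC H
  comm_mem : ∀ u ∈ H, ∀ v ∈ H, u * v * u⁻¹ * v⁻¹ ∈ ZC H
  sq_ZC : ∀ z ∈ ZC H, z * z = 1
  trans_ZC : ∀ z ∈ ZC H, z ≠ 1 → ∀ z' ∈ ZC H, z' ≠ 1 → ∃ n ∈ N, n * z * n⁻¹ = z'
  nonab : ∃ u ∈ H, ∃ v ∈ H, u * v ≠ v * u
  quot_comm : ∀ a ∈ N, ∀ b ∈ N, a * b * a⁻¹ * b⁻¹ ∈ H
  card_cases : h = q ^ 2 ∨ h = q ^ 3

end groups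

section chars

open Cfsg.Agent.Lib.Helper3_CharBridge

variable {Γ : Type u} [Group Γ] [Fintype Γ]

/-- The degree of an irreducible character, as a natural number. -/
noncomputable def degIrr (χ : IrrCharacter Γ) : ℕ :=
  (Cfsg.Agent.Lib.Helper31_Feit_PC1.irr_deg_pos χ.2).choose

theorem degIrr_pos (χ : IrrCharacter Γ) : 0 < degIrr χ :=
  (Cfsg.Agent.Lib.Helper31_Feit_PC1.irr_deg_pos χ.2).choose_spec.1

theorem degIrr_spec (χ : IrrCharacter Γ) : (χ : Γ → ℂ) 1 = (degIrr χ : ℂ) :=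
  (Cfsg.Agent.Lib.Helper31_Feit_PC1.irr_deg_pos χ.2).choose_spec.2

/-- Complex conjugation on the irreducible characters. -/
noncomputable def cjIrr (χ : IrrCharacter Γ) : IrrCharacter Γ :=
  ⟨fun g => conj ((χ : Γ → ℂ) g), Cfsg.Agent.Lib.Helper75_CharProd.isIrrCharacter_conj χ.2⟩

theorem cjIrr_apply (χ : IrrCharacter Γ) (g : Γ) :
    (cjIrr χ : Γ → ℂ) g = conj ((χ : Γ → ℂ) g) := rfl

/-- The Frobenius–Schur indicator of an irreducible character, as an integer. -/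
noncomputable def nuIrr (χ : IrrCharacter Γ) : ℤ :=
  Cfsg.Agent.Lib.Helper95_FeitCore.nuZ (χ : Γ → ℂ)

theorem nuIrr_spec (χ : IrrCharacter Γ) :
    (nuIrr χ : ℂ) = Cfsg.Agent.Lib.Helper74_FS.fsInd (χ : Γ → ℂ) :=
  Cfsg.Agent.Lib.Helper95_FeitCore.nuZ_spec χ.2

variable {G : Type u} [Group G] [Fintype G] {N : Subgroup G} [Fintype N]

theorem exists_cmult (Φ : IrrCharacter G) (ψ : IrrCharacter N) :
    ∃ n : ℕ, Cfsg.classInner (Cfsg.indFun N (ψ : N → ℂ)) (Φ : G → ℂ) = n :=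
  Cfsg.Agent.Lib.Helper75_CharArith.classInner_isCharacter_nat
    (Cfsg.Agent.Lib.Helper75_IndChar.isCharacter_indFun N (isCharacter_of_isIrrCharacter ψ.2))
    (isCharacter_of_isIrrCharacter Φ.2)

/-- The multiplicity of `Φ ∈ Irr(G)` in the character induced from `ψ ∈ Irr(N)`. -/
noncomputable def cmult (Φ : IrrCharacter G) (ψ : IrrCharacter N) : ℕ := (exists_cmult Φ ψ).choose

theorem cmult_spec (Φ : IrrCharacter G) (ψ : IrrCharacter N) :
    Cfsg.classInner (Cfsg.indFun N (ψ : N → ℂ)) (Φ : G → ℂ) = (cmult Φ ψ : ℂ) :=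
  (exists_cmult Φ ψ).choose_spec

/-- `ψ ∈ Irr(N)` has `H` in its kernel. -/
def inL (H : Subgroup G) (ψ : IrrCharacter N) : Prop :=
  ∀ x ∈ H.subgroupOf N, (ψ : N → ℂ) x = (ψ : N → ℂ) 1

theorem not_inL_iff (H : Subgroup G) (ψ : IrrCharacter N) :
    ¬ inL H ψ ↔ (ψ : N → ℂ) ∈ SS N H := by
  unfold inL SS
  constructor
  · intro hn
    push Not at hn
    exact ⟨ψ.2, hn⟩
  · rintro ⟨-, x, hx, hne⟩ hall
    exact hne (hall x hx)

end chars

end Cfsg.Agent.Lib.Helper6_SuzDefs
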