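import Mathlib
import Cfsg.Agent.Lib.Helper61_SL2
import Cfsg.Agent.Lib.Helper6_SzNorm
import Cfsg.Agent.Lib.Helper6_SzCent
import Cfsg.Agent.Lib.Helper6_SzTori
import Cfsg.Agent.Lib.Helper37_SzMax
import Cfsg.Agent.Lib.Helper37_SzZass
import Cfsg.Agent.Lib.Helper37_SzStruct
import Cfsg.Agent.Lib.Helper37_SzBasic

/-!
# The affine groups `Mat(4×k, F) ⋊ Sz F m` (helper6)

Elements of odd prime order of the Suzuki group have no non-zero fixed vectors on the natural module, so the affine
groups over it have the same prime graph as the Suzuki group.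
-/

set_option autoImplicit false
open Cfsg

namespace Cfsg.Agent.Lib.Helper6_SzAff

open Cfsg.Agent.Helper37Sz
open Matrix

variable {F : Type*} [Field F] [Fintype F] {m : ℕ}

/-- the matrix of an element of the Suzuki group -/
abbrev mat (g : Cfsg.Sz F m) : Matrix (Fin 4) (Fin 4) F :=
  ((g : Matrix.SpecialLinearGroup (Fin 4) F) : Matrix (Fin 4) (Fin 4) F)

theorem mat_mul (g h : Cfsg.Sz F m) : mat (g * h) = mat g * mat h := rfl

theorem mat_one : mat (1 : Cfsg.Sz F m) = 1 := rfl

theorem mat_pow (g : Cfsg.Sz F m) (n : ℕ) : mat (g ^ n) = mat g ^ n := by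
  induction n with
  | zero => rfl
  | succ n ih => rw [pow_succ, mat_mul, ih, pow_succ]

theorem mat_inv_mul (g : Cfsg.Sz F m) : mat g⁻¹ * mat g = 1 := by
  rw [← mat_mul, inv_mul_cancel]; rfl

/-- a torus element has no non-zero fixed vector -/
theorem hMat_fixed {S : F →+* F} (h2 : (2 : F) = 0) (hS : ∀ z, S (S z) = z ^ 2) {t : Fˣ} (ht : t ≠ 1)
    {w : Fin 4 → F} (hw : hMat S (t : F) *ᵥ w = w) : w = 0 := by
  have ht0 : (t : F) ≠ 0 := t.ne_zero
  have hSt0 : S (t : F) ≠ 0 := by simpa using ht0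
  have ht1 : (t : F) ≠ 1 := fun h => ht (Units.ext h)
  have hd1 : S (t : F) ≠ 1 := by
    intro h
    have h3 : (t : F) ^ 2 = 1 := by rw [← hS, h, map_one]
    exact ht1 (unit_eq_one_of_sq h2 h3)
  have hd0 : S (t : F) * (t : F) ^ 2 ≠ 1 := by
    intro h
    have h3 : ((t : F) * S (t : F)) ^ 2 = 1 := by
      have := congrArg S h
      rw [map_mul, map_pow, hS, map_one] at this
      rw [mul_pow]; exact this
    have h4 : (t : F) * S (t : F) = 1 := unit_eq_one_of_sq h2 h3
    apply ht1
    calc (t : F) = ((t : F) * S (t : F)) * (t : F) := by rw [h4, one_mul]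
      _ = S (t : F) * (t : F) ^ 2 := by ring
      _ = 1 := h
  have hz : ∀ {d x : F}, d ≠ 1 → d * x = x → x = 0 := by
    intro d x hd h
    have h5 : (d - 1) * x = 0 := by rw [sub_mul, h, one_mul, sub_self]
    rcases mul_eq_zero.1 h5 with h6 | h6
    · exact absurd (sub_eq_zero.1 h6) hd
    · exact h6
  have hd0' : (S (t : F) * (t : F) ^ 2)⁻¹ ≠ 1 := by
    intro h
    exact hd0 (inv_eq_one.1 h)
  have hd1' : (S (t : F))⁻¹ ≠ 1 := by
    intro h
    exact hd1 (inv_eq_one.1 h)
  have h0 : S (t : F) * (t : F) ^ 2 * w 0 = w 0 := by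
    have := congrFun hw 0
    simpa [hMat, Matrix.mulVec, dotProduct, Fin.sum_univ_four] using this
  have h1 : S (t : F) * w 1 = w 1 := by
    have := congrFun hw 1
    simpa [hMat, Matrix.mulVec, dotProduct, Fin.sum_univ_four] using this
  have h2' : (S (t : F))⁻¹ * w 2 = w 2 := by
    have := congrFun hw 2
    simpa [hMat, Matrix.mulVec, dotProduct, Fin.sum_univ_four] using this
  have h3 : (S (t : F) * (t : F) ^ 2)⁻¹ * w 3 = w 3 := by
    have := congrFun hw 3
    simpa [hMat, Matrix.mulVec, dotProduct, Fin.sum_univ_four] using this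
  ext i
  fin_cases i
  · exact hz hd0 h0
  · exact hz hd1 h1
  · exact hz hd1' h2'
  · exact hz hd0' h3

open Cfsg.Agent.Lib.Helper6_SzCent Cfsg.Agent.Lib.Helper6_SzNorm Cfsg.Agent.Lib.Helper6_SzTori in
/-- elements of odd prime order have no non-zero fixed vector -/
theorem no_fixed_vector (hm : 1 ≤ m) (hF : Fintype.card F = 2 ^ (2 * m + 1)) (g : Cfsg.Sz F m) {r : ℕ}
    (hr : r.Prime) (hr2 : r ≠ 2) (hg : orderOf g = r) {v : Fin 4 → F} (hv : mat g *ᵥ v = v) :
    v = 0 := by
  classical
  have h2 : (2 : F) = 0 := two_eq_zero_of_card hF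
  have hSdef : ∀ z, (sgHom F m h2) z = z ^ 2 ^ (m + 1) := fun z => sgHom_apply m h2 z
  have hS : ∀ z, (sgHom F m h2) ((sgHom F m h2) z) = z ^ 2 := fun z => sgHom_sgHom hF h2 z
  have hg1 : g ≠ 1 := by
    rintro rfl
    rw [orderOf_one] at hg
    exact hr.one_lt.ne hg
  by_cases hfpf : Fpf g
  · -- irreducible action
    haveI : Fact r.Prime := ⟨hr⟩
    have hrq : r ∣ Fintype.card F ^ 2 + 1 :=
      prime_dvd_of_no_fixed hm hF hfpf hr (by rw [hg])
    by_contra hv0
    let W : Submodule F (Fin 4 → F) :=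
      { carrier := {w | rho F m g w = w}
        add_mem' := fun {a b} ha hb => by
          show rho F m g (a + b) = a + b
          rw [map_add, ha, hb]
        zero_mem' := by
          show rho F m g 0 = 0
          rw [map_zero]
        smul_mem' := fun c a ha => by
          show rho F m g (c • a) = c • a
          rw [map_smul, ha] }
    have hvW : v ∈ W := by
      show rho F m g v = v
      rw [rho_apply]; exact hv
    have hWne : W ≠ ⊥ := by
      intro h
      rw [h, Submodule.mem_bot] at hvW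
      exact hv0 hvW
    have hWinv : ∀ w ∈ W, rho F m g w ∈ W := by
      intro w hw
      have hw' : rho F m g w = w := hw
      rw [hw']; exact hw
    have htop := irreducible_rho hr2 hrq g hg W hWinv hWne
    apply hg1
    apply rho_injective
    rw [map_one]
    refine LinearMap.ext fun w => ?_
    have hw : w ∈ W := by rw [htop]; exact Submodule.mem_top
    exact hw
  · -- a torus element
    have hex : ∃ a : Cfsg.suzukiOvoid F m, g • a = a := by
      by_contra hne
      apply hfpf
      intro a ha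
      exact hne ⟨a, ha⟩
    obtain ⟨a, ha⟩ := hex
    have hodd4 : g ^ 4 ≠ 1 := by
      intro h4
      have hd : r ∣ 4 := by rw [← hg]; exact orderOf_dvd_of_pow_eq_one h4
      have hd' : r ∣ 2 ^ 2 := by norm_num; exact hd
      exact hr2 ((Nat.prime_dvd_prime_iff_eq hr Nat.prime_two).1 (hr.dvd_of_dvd_pow hd'))
    have hex2 : ∃ b : Cfsg.suzukiOvoid F m, b ≠ a ∧ g • b = b := by
      by_contra hne
      have huniq : ∀ b : Cfsg.suzukiOvoid F m, g • b = b → b = a := by
        intro b hb
        by_contra hba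
        exact hne ⟨b, hba, hb⟩
      exact hodd4 (pow_four_of_one_fixed hm hF h2 hS hSdef ha huniq rfl)
    obtain ⟨b, hba, hb⟩ := hex2
    obtain ⟨k, hka, hkb⟩ := exists_smul_pair h2 hS hSdef (Ne.symm hba)
    have h1 : (k * g * k⁻¹) • ptInf F m = ptInf F m := by
      rw [← hka, ← mul_smul, inv_mul_cancel_right, mul_smul, ha]
    have h0 : (k * g * k⁻¹) • ptAff hSdef 0 0 = ptAff hSdef 0 0 := by
      rw [← hkb, ← mul_smul, inv_mul_cancel_right, mul_smul, hb]
    obtain ⟨t, ht⟩ := fix_two_eq_hQ hm hF h2 hS hSdef h1 h0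
    have ht1 : t ≠ 1 := by
      rintro rfl
      rw [hQ_one] at ht
      apply hg1
      have e : g = k⁻¹ * (k * g * k⁻¹) * k := by group
      rw [e, ht]; group
    have hmat : mat k * mat g = hMat (sgHom F m h2) (t : F) * mat k := by
      have e : k * g = hQ hS hSdef t * k := by rw [← ht]; group
      have := congrArg mat e
      rw [mat_mul, mat_mul] at this
      exact this
    have hw : hMat (sgHom F m h2) (t : F) *ᵥ (mat k *ᵥ v) = mat k *ᵥ v := by
      rw [Matrix.mulVec_mulVec, ← hmat, ← Matrix.mulVec_mulVec, hv]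
    have hkv : mat k *ᵥ v = 0 := hMat_fixed h2 hS ht1 hw
    have : mat k⁻¹ *ᵥ (mat k *ᵥ v) = 0 := by rw [hkv, Matrix.mulVec_zero]
    rw [Matrix.mulVec_mulVec, mat_inv_mul, Matrix.one_mulVec] at this
    exact this

/-- the norm element of an element of odd prime order vanishes -/
theorem geom_sum_eq_zero (hm : 1 ≤ m) (hF : Fintype.card F = 2 ^ (2 * m + 1)) (g : Cfsg.Sz F m) {r : ℕ}
    (hr : r.Prime) (hr2 : r ≠ 2) (hg : orderOf g = r) :
    (∑ i ∈ Finset.range r, mat g ^ i) = 0 := by
  classical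
  have h1 : (mat g - 1) * (∑ i ∈ Finset.range r, mat g ^ i) = 0 := by
    rw [mul_geom_sum, ← mat_pow, ← hg, pow_orderOf_eq_one, mat_one, sub_self]
  have hdet : (mat g - 1).det ≠ 0 := by
    intro hdet
    obtain ⟨v, hv0, hv⟩ := (Matrix.exists_mulVec_eq_zero_iff (M := mat g - 1)).2 hdet
    apply hv0
    apply no_fixed_vector hm hF g hr hr2 hg
    rw [Matrix.sub_mulVec, Matrix.one_mulVec, sub_eq_zero] at hv
    exact hv
  have hunit : IsUnit (mat g - 1) := by
    rw [Matrix.isUnit_iff_isUnit_det]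
    exact isUnit_iff_ne_zero.mpr hdet
  exact hunit.mul_right_eq_zero.mp h1

/-! ### The affine group -/

/-- The group `Mat(4×k, F) ⋊ Sz F m`, with the Suzuki group acting by left multiplication. -/
structure Aff4 (F : Type*) [Field F] (m k : ℕ) where
  /-- linear part -/
  g : Cfsg.Sz F m
  /-- translation part -/
  t : Matrix (Fin 4) (Fin k) F

namespace Aff4

variable {k : ℕ}

omit [Fintype F] in
theorem ext' {a b : Aff4 F m k} (hg : a.g = b.g) (ht : a.t = b.t) : a = b := by
  cases a; cases b; cases hg; cases ht; rfl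

instance : Mul (Aff4 F m k) := ⟨fun a b => ⟨a.g * b.g, a.t + mat a.g * b.t⟩⟩
instance : One (Aff4 F m k) := ⟨⟨1, 0⟩⟩
instance : Inv (Aff4 F m k) := ⟨fun a => ⟨a.g⁻¹, -(mat a.g⁻¹ * a.t)⟩⟩

omit [Fintype F] in
@[simp] theorem mul_g (a b : Aff4 F m k) : (a * b).g = a.g * b.g := rfl
omit [Fintype F] in
@[simp] theorem mul_t (a b : Aff4 F m k) : (a * b).t = a.t + mat a.g * b.t := rfl
omit [Fintype F] in
@[simp] theorem one_g : (1 : Aff4 F m k).g = 1 := rfl
omit [Fintype F] in
@[simp] theorem one_t : (1 : Aff4 F m k).t = 0 := rfl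
omit [Fintype F] in
@[simp] theorem inv_g (a : Aff4 F m k) : (a⁻¹).g = a.g⁻¹ := rfl
omit [Fintype F] in
@[simp] theorem inv_t (a : Aff4 F m k) : (a⁻¹).t = -(mat a.g⁻¹ * a.t) := rfl

instance : Group (Aff4 F m k) where
  mul_assoc a b c := by
    apply ext'
    · simp [mul_assoc]
    · simp only [mul_t, mul_g, mat_mul, Matrix.mul_add, Matrix.mul_assoc, add_assoc]
  one_mul a := by
    apply ext'
    · simp
    · simp only [mul_t, one_t, one_g, mat_one, Matrix.one_mul, zero_add]
  mul_one a := by
    apply ext'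
    · simp
    · simp only [mul_t, one_t, Matrix.mul_zero, add_zero]
  inv_mul_cancel a := by
    apply ext'
    · simp
    · simp only [mul_t, inv_t, inv_g, one_t, neg_add_cancel]

/-- projection to the Suzuki group -/
def proj : Aff4 F m k →* Cfsg.Sz F m where
  toFun a := a.g
  map_one' := rfl
  map_mul' _ _ := rfl

/-- the complement -/
def incl : Cfsg.Sz F m →* Aff4 F m k where
  toFun g := ⟨g, 0⟩
  map_one' := rfl
  map_mul' a b := by
    apply ext'
    · rfl
    · simp only [mul_t, Matrix.mul_zero, add_zero]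

omit [Fintype F] in
theorem pow_g (a : Aff4 F m k) (n : ℕ) : (a ^ n).g = a.g ^ n :=
  map_pow (proj (F := F) (m := m) (k := k)) a n

theorem pow_t (a : Aff4 F m k) (n : ℕ) :
    (a ^ n).t = (∑ i ∈ Finset.range n, mat a.g ^ i) * a.t := by
  induction n with
  | zero => simp
  | succ n ih =>
    rw [pow_succ, mul_t, ih, pow_g, Finset.sum_range_succ, Matrix.add_mul, mat_pow]

instance : Finite (Aff4 F m k) := by
  have : Function.Injective (fun a : Aff4 F m k => (a.g, a.t)) := by
    intro a b hab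
    simp only [Prod.mk.injEq] at hab
    exact ext' hab.1 hab.2
  exact Finite.of_injective _ this

/-- the group is large -/
theorem card_ge : Nat.card F ^ (4 * k) ≤ Nat.card (Aff4 F m k) := by
  classical
  have hinj : Function.Injective (fun t : Matrix (Fin 4) (Fin k) F => (⟨1, t⟩ : Aff4 F m k)) := by
    intro a b hab
    exact congrArg Aff4.t hab
  have := Nat.card_le_card_of_injective _ hinj
  refine le_trans (le_of_eq ?_) this
  symm
  show Nat.card (Fin 4 → Fin k → F) = _
  rw [Nat.card_fun, Nat.card_fun, Nat.card_fin, Nat.card_fin, ← pow_mul, mul_comm]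

end Aff4

open Cfsg.Agent.Lib.Helper61_SL2 in
/-- the affine groups have the same prime graph as the Suzuki group -/
theorem samePrimeGraph_aff4 (hm : 1 ≤ m) (hF : Fintype.card F = 2 ^ (2 * m + 1)) (k : ℕ) :
    SamePrimeGraph (Cfsg.Sz F m) (Aff4 F m k) := by
  have h2 : (2 : F) = 0 := two_eq_zero_of_card hF
  have hSdef : ∀ z, (sgHom F m h2) z = z ^ 2 ^ (m + 1) := fun z => sgHom_apply m h2 z
  have hS : ∀ z, (sgHom F m h2) ((sgHom F m h2) z) = z ^ 2 := fun z => sgHom_sgHom hF h2 z
  apply samePrimeGraph_of_split (Aff4.proj (F := F) (m := m) (k := k))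
    (Aff4.incl (F := F) (m := m) (k := k))
  · intro s; rfl
  · intro h hh
    have hg : h.g = 1 := hh
    apply Aff4.ext'
    · rw [Aff4.pow_g, hg]; simp
    · rw [Aff4.pow_t, hg, mat_one, Finset.sum_range_succ, Finset.sum_range_succ,
        Finset.sum_range_zero, zero_add, pow_zero, pow_one]
      have : (1 + 1 : Matrix (Fin 4) (Fin 4) F) = 0 := by
        ext i j
        have : (1 + 1 : F) = 0 := by linear_combination h2
        by_cases hij : i = j
        · simp [hij, this]
        · simp [hij]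
      rw [this, Matrix.zero_mul]; rfl
  · intro h r hr hr2 hord
    have hord' : orderOf h.g = r := hord
    apply Aff4.ext'
    · rw [Aff4.pow_g, ← hord', pow_orderOf_eq_one]; rfl
    · rw [Aff4.pow_t, geom_sum_eq_zero hm hF h.g hr hr2 hord', Matrix.zero_mul]; rfl
  · -- an involution
    have hne : uQ h2 hS hSdef 0 1 ≠ (1 : Cfsg.Sz F m) := by
      intro h
      rw [← uQ_zero h2 hS hSdef] at h
      exact one_ne_zero (uQ_inj h2 hS hSdef h).2
    have hsq : uQ (m := m) h2 hS hSdef 0 1 ^ 2 = 1 := by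
      rw [pow_two, uQ_mul, add_zero, map_zero, zero_mul, add_zero]
      have : (1 : F) + 1 = 0 := by linear_combination h2
      rw [this, uQ_zero]
    have h1 : orderOf (uQ (m := m) h2 hS hSdef 0 1) = 2 := orderOf_eq_prime hsq hne
    have := orderOf_dvd_natCard (uQ (m := m) h2 hS hSdef 0 1)
    rwa [h1] at this

end Cfsg.Agent.Lib.Helper6_SzAff
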