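import Mathlib
import Cfsg.Agent.Lib.Helper6_SzSubAlg
import Cfsg.Agent.Lib.Helper6_SzSubNorm
import Cfsg.Agent.Lib.Helper6_SzSubfield
import Cfsg.Agent.Lib.Helper6_SzCent
import Cfsg.Agent.Lib.Helper37_SzMax
import Cfsg.Agent.Lib.Helper37_SzSimple
import Cfsg.Agent.Lib.Helper37_SzZass
import Cfsg.Agent.Lib.Helper37_SzSylow

/-!
# Automorphisms of the Suzuki group (helper6)

Every automorphism of `Sz F m` is the product of an inner automorphism and a field automorphism.
-/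

set_option autoImplicit false
open Cfsg

namespace Cfsg.Agent.Lib.Helper6_SzAut

open Cfsg.Agent.Helper37Sz Cfsg.Agent.Lib.Helper6_SzSubNorm Cfsg.Agent.Lib.Helper6_SzSubfield
open Cfsg.Agent.Lib.Helper6_SzSubAlg
open Cfsg.Agent.S0335 (sf)

variable {F : Type*} [Field F] [Fintype F] {m : ℕ}

/-- the automorphism of `Sz F m` induced by a field endomorphism -/
noncomputable def fieldAut (hm : 1 ≤ m) (hF : Fintype.card F = 2 ^ (2 * m + 1)) (σ : F →+* F) :
    MulAut (Cfsg.Sz F m) :=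
  MulEquiv.ofBijective (szMap hm hm hF hF (dvd_refl _) σ)
    ⟨szMap_injective hm hm hF hF (dvd_refl _) σ,
      Finite.injective_iff_surjective.1 (szMap_injective hm hm hF hF (dvd_refl _) σ)⟩

section Std

variable (hm : 1 ≤ m) (hF : Fintype.card F = 2 ^ (2 * m + 1)) (σ : F →+* F)

theorem fieldAut_apply (x : Cfsg.Sz F m) :
    fieldAut hm hF σ x = szMap hm hm hF hF (dvd_refl _) σ x := rfl

theorem fieldAut_uQ (a b : F) :
    fieldAut hm hF σ (uQ (two_eq_zero_of_card hF) (fun z => sgHom_sgHom hF (two_eq_zero_of_card hF) z)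
      (fun z => sgHom_apply m (two_eq_zero_of_card hF) z) a b)
    = uQ (two_eq_zero_of_card hF) (fun z => sgHom_sgHom hF (two_eq_zero_of_card hF) z)
      (fun z => sgHom_apply m (two_eq_zero_of_card hF) z) (σ a) (σ b) := by
  apply Subtype.ext
  rw [fieldAut_apply, szMap_coe]
  exact map_uSL σ (sg_compat hF hF (dvd_refl _) σ) a b

theorem fieldAut_wQ :
    fieldAut hm hF σ (wQ (two_eq_zero_of_card hF) (fun z => sgHom_sgHom hF (two_eq_zero_of_card hF) z)
      (fun z => sgHom_apply m (two_eq_zero_of_card hF) z))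
    = wQ (two_eq_zero_of_card hF) (fun z => sgHom_sgHom hF (two_eq_zero_of_card hF) z)
      (fun z => sgHom_apply m (two_eq_zero_of_card hF) z) := by
  apply Subtype.ext
  rw [fieldAut_apply, szMap_coe]
  exact map_wSL σ

end Std

section Main

variable {S : F →+* F} {h2 : (2 : F) = 0} {hS : ∀ z, S (S z) = z ^ 2}
  {hSdef : ∀ z, S z = z ^ 2 ^ (m + 1)} {θ : Cfsg.Sz F m →* Cfsg.Sz F m} {t₀ τ : Fˣ}

/-- the images of the central involutions -/
theorem exists_central (N : Normal h2 hS hSdef h2 hS hSdef (RingHom.id F) θ t₀ τ) (β : F) :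
    ∃ b : F, θ (uQ h2 hS hSdef 0 β) = uQ h2 hS hSdef 0 b := by
  obtain ⟨a', b', h1⟩ := N.uni 0 β
  have hsq : uQ h2 hS hSdef a' b' * uQ h2 hS hSdef a' b' = uQ h2 hS hSdef 0 0 := by
    rw [← h1, ← map_mul, uQ_mul, add_zero, map_zero, zero_mul, add_zero]
    have : β + β = 0 := by linear_combination β * h2
    rw [this, uQ_zero, map_one]
  rw [uQ_mul] at hsq
  have h3 := (uQ_inj h2 hS hSdef hsq).2
  have e2 : b' + b' + S a' * a' = S a' * a' := by linear_combination b' * h2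
  rw [e2] at h3
  have ha' : a' = 0 := by
    rcases mul_eq_zero.1 h3 with h | h
    · simpa using h
    · exact h
  subst ha'
  exact ⟨b', h1⟩

/-- the precise inversion step -/
theorem inv_step' (hm : 1 ≤ m) (hF : Fintype.card F = 2 ^ (2 * m + 1))
    (N : Normal h2 hS hSdef h2 hS hSdef (RingHom.id F) θ t₀ τ) {β b : F} (hβ : β ≠ 0) (hb : b ≠ 0)
    (h1 : θ (uQ h2 hS hSdef 0 β) = uQ h2 hS hSdef 0 b) :
    θ (uQ h2 hS hSdef (β / S β) 0) = uQ h2 hS hSdef (b / S b) 0 := by
  have key : ∀ c : F, c ≠ 0 →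
      (wQ h2 hS hSdef * uQ h2 hS hSdef 0 c * wQ h2 hS hSdef) • ptInf F m
        = ptAff hSdef (c / S c) 0 := by
    intro c hc
    have hSc : S c ≠ 0 := by simpa using hc
    have hsf0 : sf S 0 c ≠ 0 := by simpa [sf] using hSc
    rw [mul_smul, mul_smul, wQ_smul_ptInf, uQ_smul_ptAff, wQ_smul_ptAff h2 hS hSdef (by
      simpa using hsf0)]
    simp [sf]
  set x : Cfsg.Sz F m := wQ h2 hS hSdef * uQ h2 hS hSdef 0 β * wQ h2 hS hSdef with hx
  have hθx : θ x = wQ h2 hS hSdef * uQ h2 hS hSdef 0 b * wQ h2 hS hSdef := by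
    rw [hx, map_mul, map_mul, N.inv, h1]
  rcases decompQ hm hF h2 hS hSdef x with ⟨a, b', t, hdx⟩ | ⟨a, b', a', b'', t, hdx⟩
  · exfalso
    have := key β hβ
    rw [← hx, hdx, mul_smul, hQ_smul_ptInf, uQ_smul_ptInf] at this
    exact ptAff_ne_ptInf hSdef _ _ this.symm
  · have h3 := key β hβ
    rw [← hx, hdx, mul_smul, mul_smul, mul_smul, hQ_smul_ptInf, uQ_smul_ptInf, wQ_smul_ptInf,
      uQ_smul_ptAff] at h3
    obtain ⟨e1, e2⟩ := ptAff_inj hSdef h3
    rw [zero_add] at e1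
    rw [zero_add, mul_zero, add_zero] at e2
    subst e1 e2
    -- now the image
    have h4 := key b hb
    rw [← hθx, hdx, map_mul, map_mul, map_mul] at h4
    obtain ⟨c, d, hcd⟩ := N.uni (β / S β) 0
    obtain ⟨c', d', hcd'⟩ := N.uni a' b''
    obtain ⟨τ', hτ'⟩ := theta_hQ N t
    rw [hcd, hcd', hτ', N.inv, mul_smul, mul_smul, mul_smul, hQ_smul_ptInf, uQ_smul_ptInf,
      wQ_smul_ptInf, uQ_smul_ptAff] at h4
    obtain ⟨e1, e2⟩ := ptAff_inj hSdef h4
    rw [zero_add] at e1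
    rw [zero_add, mul_zero, add_zero] at e2
    rw [hcd, e1, e2]

/-- a normalised automorphism is a field automorphism -/
theorem exists_field_hom (hm : 1 ≤ m) (hF : Fintype.card F = 2 ^ (2 * m + 1))
    (N : Normal h2 hS hSdef h2 hS hSdef (RingHom.id F) θ t₀ τ) :
    ∃ f : F →+* F, (∀ a b : F, θ (uQ h2 hS hSdef a b) = uQ h2 hS hSdef (f a) (f b)) := by
  classical
  choose f hf using exists_central N
  have hf0 : f 0 = 0 := by
    have := hf 0
    rw [uQ_zero, map_one] at this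
    have h1 : uQ h2 hS hSdef 0 0 = uQ h2 hS hSdef 0 (f 0) := by rw [uQ_zero]; exact this
    exact ((uQ_inj h2 hS hSdef h1).2).symm
  have hfadd : ∀ x y, f (x + y) = f x + f y := by
    intro x y
    have h1 : uQ h2 hS hSdef 0 x * uQ h2 hS hSdef 0 y = uQ h2 hS hSdef 0 (x + y) := by
      rw [uQ_mul, add_zero, map_zero, zero_mul, add_zero]
    have h2' : uQ h2 hS hSdef 0 (f x) * uQ h2 hS hSdef 0 (f y) = uQ h2 hS hSdef 0 (f x + f y) := by
      rw [uQ_mul, add_zero, map_zero, zero_mul, add_zero]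
    have := hf (x + y)
    rw [← h1, map_mul, hf x, hf y, h2'] at this
    exact ((uQ_inj h2 hS hSdef this).2).symm
  have hfinj : ∀ x y, f x = f y → x = y := by
    intro x y hxy
    have : θ (uQ h2 hS hSdef 0 x) = θ (uQ h2 hS hSdef 0 y) := by rw [hf x, hf y, hxy]
    exact (uQ_inj h2 hS hSdef (N.inj this)).2
  have hfne : ∀ x, x ≠ 0 → f x ≠ 0 := by
    intro x hx h0
    exact hx (hfinj x 0 (by rw [h0, hf0]))
  -- inverses
  have hstep : ∀ β, β ≠ 0 → θ (uQ h2 hS hSdef (β / S β) 0) = uQ h2 hS hSdef (f β / S (f β)) 0 :=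
    fun β hβ => inv_step' hm hF N hβ (hfne β hβ) (hf β)
  have hsqid : ∀ c : F, c ≠ 0 → S (c / S c) * (c / S c) = c⁻¹ := by
    intro c hc
    have hSc : S c ≠ 0 := by simpa using hc
    rw [map_div₀, hS]
    field_simp
  have hfinv : ∀ β, β ≠ 0 → f β⁻¹ = (f β)⁻¹ := by
    intro β hβ
    have h1 : uQ h2 hS hSdef (β / S β) 0 * uQ h2 hS hSdef (β / S β) 0 = uQ h2 hS hSdef 0 β⁻¹ := by
      rw [uQ_mul, add_zero, hsqid β hβ]
      congr 1
      · linear_combination (β / S β) * h2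
      · ring
    have h2' : uQ h2 hS hSdef (f β / S (f β)) 0 * uQ h2 hS hSdef (f β / S (f β)) 0
        = uQ h2 hS hSdef 0 (f β)⁻¹ := by
      rw [uQ_mul, add_zero, hsqid (f β) (hfne β hβ)]
      congr 1
      · linear_combination (f β / S (f β)) * h2
      · ring
    have := hf β⁻¹
    rw [← h1, map_mul, hstep β hβ, h2'] at this
    exact ((uQ_inj h2 hS hSdef this).2).symm
  have hf1 : f 1 = 1 := by
    have h1 := hfinv 1 one_ne_zero
    rw [inv_one] at h1
    have hne := hfne 1 one_ne_zero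
    have hsq : f 1 ^ 2 = 1 := by
      rw [pow_two]
      nth_rewrite 1 [h1]
      exact inv_mul_cancel₀ hne
    exact unit_eq_one_of_sq h2 hsq
  -- multiplicativity through the torus
  have hmult : ∀ t : Fˣ, ∀ β : F,
      f (S (t : F) ^ 2 * (t : F) ^ 2 * β) = f (S (t : F) ^ 2 * (t : F) ^ 2) * f β := by
    intro t β
    obtain ⟨ρ, hρ⟩ := theta_hQ N t
    have hconj : ∀ β : F, f (S (t : F) ^ 2 * (t : F) ^ 2 * β)
        = S (ρ : F) ^ 2 * (ρ : F) ^ 2 * f β := by
      intro β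
      have h1 : hQ hS hSdef t * uQ h2 hS hSdef 0 β * (hQ hS hSdef t)⁻¹
          = uQ h2 hS hSdef 0 (S (t : F) ^ 2 * (t : F) ^ 2 * β) := by
        rw [hQ_mul_uQ, mul_inv_cancel_right, mul_zero]
      have h2' : hQ hS hSdef ρ * uQ h2 hS hSdef 0 (f β) * (hQ hS hSdef ρ)⁻¹
          = uQ h2 hS hSdef 0 (S (ρ : F) ^ 2 * (ρ : F) ^ 2 * f β) := by
        rw [hQ_mul_uQ, mul_inv_cancel_right, mul_zero]
      have := hf (S (t : F) ^ 2 * (t : F) ^ 2 * β)
      rw [← h1, map_mul, map_mul, map_inv, hρ, hf β, h2'] at this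
      exact ((uQ_inj h2 hS hSdef this).2).symm
    have h1 := hconj 1
    rw [mul_one, hf1, mul_one] at h1
    rw [hconj β, h1]
  have hfmul : ∀ x y, f (x * y) = f x * f y := by
    intro x y
    by_cases hx : x = 0
    · rw [hx, zero_mul, hf0, zero_mul]
    · obtain ⟨t, ht⟩ := exists_mult hF hS hx
      rw [← ht]
      exact hmult t y
  let fr : F →+* F :=
    { toFun := f
      map_one' := hf1
      map_mul' := hfmul
      map_zero' := hf0
      map_add' := hfadd }
  have hfr : ∀ x, fr x = f x := fun x => rfl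
  have hcompat : ∀ x, f (S x) = S (f x) := by
    intro x
    rw [hSdef, hSdef, ← hfr, ← hfr, map_pow]
  refine ⟨fr, ?_⟩
  intro a b
  have ha : θ (uQ h2 hS hSdef a 0) = uQ h2 hS hSdef (f a) 0 := by
    by_cases ha0 : a = 0
    · rw [ha0, hf0, uQ_zero, map_one]
    · have hSa : S a ≠ 0 := by simpa using ha0
      set β : F := (S a * a)⁻¹ with hβ
      have hβ0 : β ≠ 0 := inv_ne_zero (mul_ne_zero hSa ha0)
      have e : β / S β = a := by
        rw [hβ, map_inv₀, map_mul, hS]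
        field_simp
      have e' : f β / S (f β) = f a := by
        rw [← hcompat, ← hfr, ← hfr, ← map_div₀, e]
        rfl
      have := hstep β hβ0
      rw [e, e'] at this
      exact this
  have hsplit : ∀ x y : F, uQ h2 hS hSdef x 0 * uQ h2 hS hSdef 0 y = uQ h2 hS hSdef x y := by
    intro x y
    rw [uQ_mul, add_zero, zero_add, mul_zero, add_zero]
  rw [← hsplit a b, map_mul, ha, hf b, hsplit]
  rfl

end Main

end Cfsg.Agent.Lib.Helper6_SzAut
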