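import Mathlib
import Cfsg.Prelude.Def_KGroupFacts
import Cfsg.Agent.Lib.Helper6_SzAut
import Cfsg.Agent.Lib.Helper6_SzSubAlg
import Cfsg.Agent.Lib.Helper6_SzSubNorm
import Cfsg.Agent.Lib.Helper6_SzSubfield
import Cfsg.Agent.Lib.Helper6_SzCent
import Cfsg.Agent.Lib.Helper37_SzMax
import Cfsg.Agent.Lib.Helper37_SzSimple
import Cfsg.Agent.Lib.Helper37_SzZass
import Cfsg.Agent.Lib.Helper37_SzSylow

/-!
# The outer automorphism group of the Suzuki group (helper6)

`Out (Sz F m)` is in bijection with the Galois group of `F` over the prime field, so has `2m+1` elements.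
-/

set_option autoImplicit false
open Cfsg

namespace Cfsg.Agent.Lib.Helper6_SzOut

open Cfsg.Agent.Helper37Sz Cfsg.Agent.Lib.Helper6_SzSubNorm Cfsg.Agent.Lib.Helper6_SzSubfield
open Cfsg.Agent.Lib.Helper6_SzSubAlg Cfsg.Agent.Lib.Helper6_SzAut

/-- the order of the outer automorphism group is an isomorphism invariant -/
theorem card_out_congr {G G' : Type*} [Group G] [Group G'] (e : G ≃* G') :
    Nat.card (Cfsg.Out G) = Nat.card (Cfsg.Out G') := by
  show (Cfsg.Inn G).index = (Cfsg.Inn G').index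
  have hmap : (Cfsg.Inn G).map ((MulAut.congr e : MulAut G ≃* MulAut G') : MulAut G →* MulAut G')
      = Cfsg.Inn G' := by
    ext φ
    constructor
    · rintro ⟨ψ, ⟨c, rfl⟩, rfl⟩
      refine ⟨e c, ?_⟩
      ext y
      simp [MulAut.congr, MulAut.conj_apply]
    · rintro ⟨c, rfl⟩
      refine ⟨MulAut.conj (e.symm c), ⟨e.symm c, rfl⟩, ?_⟩
      ext y
      simp [MulAut.congr, MulAut.conj_apply]
  rw [← hmap, Subgroup.index_map_equiv]

variable {F : Type*} [Field F] [Fintype F] {m : ℕ}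

/-- every automorphism is inner times field -/
theorem aut_decomp (hm : 1 ≤ m) (hF : Fintype.card F = 2 ^ (2 * m + 1)) (α : MulAut (Cfsg.Sz F m)) :
    ∃ (c : Cfsg.Sz F m) (f : F →+* F), α = MulAut.conj c * fieldAut hm hF f := by
  classical
  obtain ⟨t₀, ht₀, hgen⟩ := exists_unit_generator (m := m) hF
  obtain ⟨g, τ, htor, hinv, huni⟩ :=
    normalize hm hm hF (two_eq_zero_of_card hF) (fun z => sgHom_sgHom hF (two_eq_zero_of_card hF) z)
      (fun z => sgHom_apply m (two_eq_zero_of_card hF) z) (two_eq_zero_of_card hF)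
      (fun z => sgHom_sgHom hF (two_eq_zero_of_card hF) z)
      (fun z => sgHom_apply m (two_eq_zero_of_card hF) z) α.toMonoidHom α.injective t₀ ht₀
  set θ' : Cfsg.Sz F m →* Cfsg.Sz F m := (MulAut.conj g).toMonoidHom.comp α.toMonoidHom with hθ'def
  have hθ'app : ∀ x, θ' x = g * α x * g⁻¹ := fun x => rfl
  have N : Normal (two_eq_zero_of_card hF) (fun z => sgHom_sgHom hF (two_eq_zero_of_card hF) z)
      (fun z => sgHom_apply m (two_eq_zero_of_card hF) z) (two_eq_zero_of_card hF)
      (fun z => sgHom_sgHom hF (two_eq_zero_of_card hF) z)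
      (fun z => sgHom_apply m (two_eq_zero_of_card hF) z) (RingHom.id F) θ' t₀ τ :=
    { inj := (MulAut.conj g).injective.comp α.injective
      compat := fun x => rfl
      gen := hgen
      ord := ht₀
      tor := by rw [hθ'app]; exact htor
      inv := by rw [hθ'app]; exact hinv
      uni := fun a b => by
        obtain ⟨a', b', h⟩ := huni a b
        exact ⟨a', b', by rw [hθ'app]; exact h⟩ }
  obtain ⟨f, hf⟩ := exists_field_hom hm hF N
  -- the equaliser of `θ'` and the field automorphism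
  have hQle : Qsub (two_eq_zero_of_card hF) (fun z => sgHom_sgHom hF (two_eq_zero_of_card hF) z) m
      ≤ MonoidHom.eqLocus θ' (fieldAut hm hF f).toMonoidHom := by
    intro x hx
    obtain ⟨a, b, rfl⟩ := exists_of_mem_Qsub (two_eq_zero_of_card hF)
      (fun z => sgHom_sgHom hF (two_eq_zero_of_card hF) z)
      (fun z => sgHom_apply m (two_eq_zero_of_card hF) z) hx
    show θ' _ = fieldAut hm hF f _
    rw [hf a b, fieldAut_uQ]
  have hw : wQ (two_eq_zero_of_card hF) (fun z => sgHom_sgHom hF (two_eq_zero_of_card hF) z)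
      (fun z => sgHom_apply m (two_eq_zero_of_card hF) z)
      ∈ MonoidHom.eqLocus θ' (fieldAut hm hF f).toMonoidHom := by
    show θ' _ = fieldAut hm hF f _
    rw [N.inv, fieldAut_wQ]
  have htop : MonoidHom.eqLocus θ' (fieldAut hm hF f).toMonoidHom = ⊤ := by
    rcases overgroup_Q hm hF (two_eq_zero_of_card hF)
      (fun z => sgHom_sgHom hF (two_eq_zero_of_card hF) z)
      (fun z => sgHom_apply m (two_eq_zero_of_card hF) z) _ hQle with h | h
    · exfalso
      have := h _ hw
      rw [wQ_smul_ptInf] at this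
      exact ptAff_ne_ptInf _ 0 0 this
    · exact h
  refine ⟨g⁻¹, f, ?_⟩
  ext x
  have hx : x ∈ MonoidHom.eqLocus θ' (fieldAut hm hF f).toMonoidHom := by rw [htop]; trivial
  have hx' : g * α x * g⁻¹ = fieldAut hm hF f x := hx
  rw [MulAut.mul_apply, MulAut.conj_apply, ← hx']
  group

/-- field automorphisms are not inner -/
theorem fieldAut_inj (hm : 1 ≤ m) (hF : Fintype.card F = 2 ^ (2 * m + 1)) (σ σ' : F →+* F)
    (c : Cfsg.Sz F m) (h : ∀ x, fieldAut hm hF σ' x = fieldAut hm hF σ (c * x * c⁻¹)) :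
    σ = σ' := by
  have h2 : (2 : F) = 0 := two_eq_zero_of_card hF
  have hS : ∀ z, (sgHom F m (two_eq_zero_of_card hF)) ((sgHom F m (two_eq_zero_of_card hF)) z) = z ^ 2 :=
    fun z => sgHom_sgHom hF (two_eq_zero_of_card hF) z
  have hSdef : ∀ z, (sgHom F m (two_eq_zero_of_card hF)) z = z ^ 2 ^ (m + 1) :=
    fun z => sgHom_apply m (two_eq_zero_of_card hF) z
  have hinj : Function.Injective (fieldAut hm hF σ) := (fieldAut hm hF σ).injective
  have hσsurj : Function.Surjective σ := Finite.injective_iff_surjective.1 σ.injective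
  -- `c` commutes with `uQ 0 1`
  have hc1 : c * uQ (two_eq_zero_of_card hF) hS hSdef 0 1 * c⁻¹
      = uQ (two_eq_zero_of_card hF) hS hSdef 0 1 := by
    apply hinj
    rw [← h, fieldAut_uQ, fieldAut_uQ, map_zero, map_one, map_zero, map_one]
  have hcinf : c • ptInf F m = ptInf F m := by
    apply Cfsg.Agent.Lib.Helper6_SzCent.uQ_fix (two_eq_zero_of_card hF) hS hSdef
      (a := 0) (b := 1) (by simp)
    nth_rewrite 1 [← hc1]
    rw [mul_smul, mul_smul, inv_smul_smul, uQ_smul_ptInf]
  -- `c` commutes with `wQ`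
  have hcw : c * wQ (two_eq_zero_of_card hF) hS hSdef * c⁻¹ = wQ (two_eq_zero_of_card hF) hS hSdef := by
    apply hinj
    rw [← h, fieldAut_wQ, fieldAut_wQ]
  have hczero : c • ptAff hSdef 0 0 = ptAff hSdef 0 0 := by
    have e : c * wQ (two_eq_zero_of_card hF) hS hSdef = wQ (two_eq_zero_of_card hF) hS hSdef * c := by
      calc c * wQ (two_eq_zero_of_card hF) hS hSdef
          = (c * wQ (two_eq_zero_of_card hF) hS hSdef * c⁻¹) * c := by group
        _ = wQ (two_eq_zero_of_card hF) hS hSdef * c := by rw [hcw]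
    rw [← wQ_smul_ptInf (two_eq_zero_of_card hF) hS hSdef, ← mul_smul, e, mul_smul, hcinf]
  obtain ⟨μ, hμ⟩ := fix_two_eq_hQ hm hF (two_eq_zero_of_card hF) hS hSdef hcinf hczero
  -- compare on the centre of `Q`
  have key : ∀ b : F, σ' b = σ ((sgHom F m (two_eq_zero_of_card hF)) (μ : F) ^ 2 * (μ : F) ^ 2) * σ b := by
    intro b
    have h1 := h (uQ (two_eq_zero_of_card hF) hS hSdef 0 b)
    rw [hμ, hQ_mul_uQ, mul_inv_cancel_right, fieldAut_uQ, fieldAut_uQ, mul_zero] at h1
    have := (uQ_inj (two_eq_zero_of_card hF) hS hSdef h1).2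
    rw [this, map_mul]
  have h1 := key 1
  rw [map_one, map_one, mul_one] at h1
  ext b
  rw [key b, ← h1, one_mul]

/-- the outer automorphism group of `Sz F m` has `2m+1` elements -/
theorem card_out_sz (hm : 1 ≤ m) (hF : Fintype.card F = 2 ^ (2 * m + 1)) :
    Nat.card (Cfsg.Out (Cfsg.Sz F m)) = 2 * m + 1 := by
  classical
  have h2 : (2 : F) = 0 := two_eq_zero_of_card hF
  haveI : CharP F 2 := CharTwo.of_one_ne_zero_of_two_eq_zero one_ne_zero h2
  haveI : Fact (Nat.Prime 2) := ⟨Nat.prime_two⟩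
  letI : Algebra (ZMod 2) F := ZMod.algebra F 2
  have hrF : Module.finrank (ZMod 2) F = 2 * m + 1 :=
    Nat.pow_right_injective (le_refl 2) (by
      show 2 ^ Module.finrank (ZMod 2) F = 2 ^ (2 * m + 1)
      rw [FiniteField.pow_finrank_eq_card, hF])
  have hgal : Nat.card (F ≃ₐ[ZMod 2] F) = 2 * m + 1 := by
    rw [IsGalois.card_aut_eq_finrank, hrF]
  rw [← hgal]
  symm
  let Ψ : (F ≃ₐ[ZMod 2] F) → Cfsg.Out (Cfsg.Sz F m) :=
    fun σ => QuotientGroup.mk (fieldAut hm hF ((σ : F ≃+* F) : F →+* F))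
  have hΨ : Function.Bijective Ψ := by
    constructor
    · intro σ σ' hσ
      have h1 : (fieldAut hm hF ((σ : F ≃+* F) : F →+* F))⁻¹ * fieldAut hm hF ((σ' : F ≃+* F) : F →+* F)
          ∈ Cfsg.Inn (Cfsg.Sz F m) := QuotientGroup.eq.1 hσ
      obtain ⟨c, hc⟩ := h1
      have h3 : ∀ x, fieldAut hm hF ((σ' : F ≃+* F) : F →+* F) x
          = fieldAut hm hF ((σ : F ≃+* F) : F →+* F) (c * x * c⁻¹) := by
        intro x
        have h4 : fieldAut hm hF ((σ : F ≃+* F) : F →+* F) * MulAut.conj c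
            = fieldAut hm hF ((σ' : F ≃+* F) : F →+* F) := by
          rw [hc]; group
        rw [← h4, MulAut.mul_apply, MulAut.conj_apply]
      have h5 := fieldAut_inj hm hF _ _ c h3
      ext x
      exact RingHom.congr_fun h5 x
    · intro o
      obtain ⟨α, rfl⟩ := QuotientGroup.mk_surjective o
      obtain ⟨c, f, hα⟩ := aut_decomp hm hF α
      have hfbij : Function.Bijective f :=
        ⟨f.injective, Finite.injective_iff_surjective.1 f.injective⟩
      let fe : F ≃+* F := RingEquiv.ofBijective f hfbij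
      have hcomm : ∀ r : ZMod 2, fe (algebraMap (ZMod 2) F r) = algebraMap (ZMod 2) F r := by
        intro r
        exact RingHom.congr_fun
          (Subsingleton.elim (f.comp (algebraMap (ZMod 2) F)) (algebraMap (ZMod 2) F)) r
      refine ⟨AlgEquiv.ofRingEquiv hcomm, ?_⟩
      show QuotientGroup.mk (fieldAut hm hF _) = QuotientGroup.mk α
      have hfe : (((AlgEquiv.ofRingEquiv hcomm : F ≃ₐ[ZMod 2] F) : F ≃+* F) : F →+* F) = f := by
        ext x
        rfl
      rw [hfe, hα, QuotientGroup.mk_mul]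
      have : (QuotientGroup.mk (MulAut.conj c) : Cfsg.Out (Cfsg.Sz F m)) = 1 :=
        (QuotientGroup.eq_one_iff _).2 ⟨c, rfl⟩
      rw [this, one_mul]
  exact Nat.card_congr (Equiv.ofBijective Ψ hΨ)

end Cfsg.Agent.Lib.Helper6_SzOut
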