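import Mathlib
import Cfsg.Agent.S0739
import Cfsg.Agent.S0882

/-!
# Zassenhaus groups with two-point stabilisers of even order (helper6)

Let `G` be a Zassenhaus-type group (`ZHyp`) on `Ω` and `t` an involution fixing `a ≠ b`.
* `invol_unique`: `t` is the only involution fixing `a` and `b` (it inverts the Frobenius kernel).
* `swap_of_invol`: for `c ∉ {a,b}` the involution fixing `c` and `t • c` interchanges `a`, `b`.
* `card_le`: `|Ω| - 2 ≤ 2 * #{involutions interchanging a and b}`.
* `card_dvd`: the order of the two-point stabiliser divides `|Ω| - 2`.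
* `dichotomy`: every element interchanging `a`, `b` is an involution, or the two-point
  stabiliser is transitive on the remaining points.
-/

set_option autoImplicit false

namespace Cfsg.Agent.Lib.Helper6_ZassCycA

open MulAction Cfsg Cfsg.Agent.Lib.Helper6_Zassenhaus

variable {G Ω : Type*} [Group G] [MulAction G Ω]

/-- `Kset G a` is stable under conjugation by the stabiliser of `a`. -/
theorem kset_conj {a : Ω} {h : G} (hha : h • a = a) {k : G} (hk : k ∈ Kset G a) :
    h * k * h⁻¹ ∈ Kset G a := by
  have hhia : h⁻¹ • a = a := by rw [inv_smul_eq_iff, hha]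
  obtain ⟨hka, hk2⟩ := hk
  refine ⟨by rw [mul_smul, mul_smul, hhia, hka, hha], ?_⟩
  rcases hk2 with h1 | h2
  · left; rw [h1]; group
  · right
    intro c' hc' hfix
    have hne : h⁻¹ • c' ≠ a := by
      intro h'
      apply hc'
      rw [inv_smul_eq_iff, hha] at h'
      exact h'
    apply h2 _ hne
    rw [mul_smul, mul_smul] at hfix
    rw [eq_inv_smul_iff]
    exact hfix

theorem inv_eq_self_of_sq {t : G} (htt : t * t = 1) : t⁻¹ = t :=
  inv_eq_of_mul_eq_one_left htt

section

variable [Finite Ω] (zh : ZHyp G Ω)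
include zh

/-- an involution fixing two points inverts the Frobenius kernel of the first one -/
theorem invol_inverts {a b : Ω} (hab : a ≠ b) {t : G} (htt : t * t = 1) (ht1 : t ≠ 1)
    (hta : t • a = a) (htb : t • b = b) (K : Subgroup G) (hK : (K : Set G) = Kset G a) :
    ∀ k ∈ K, t * k * t⁻¹ = k⁻¹ := by
  have hfin : Finite G := finite_of_finite zh
  have memK : ∀ x, x ∈ K ↔ x ∈ Kset G a := by
    intro x; rw [← SetLike.mem_coe, hK]
  apply Cfsg.Agent.S0739.inverts_of_fpf K t htt
  · intro k hk
    rw [memK] at hk ⊢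
    exact kset_conj hta hk
  · intro k hk hcomm
    by_contra hk1
    obtain ⟨hka, hk2⟩ := (memK k).1 hk
    have hmove : ∀ c, c ≠ a → k • c ≠ c := hk2.resolve_left hk1
    have hkb : k • b ≠ b := hmove b (Ne.symm hab)
    have hkba : k • b ≠ a := by
      intro h'
      have : k • b = k • a := by rw [h', hka]
      exact hab (MulAction.injective k this).symm
    have hfix : t • (k • b) = k • b := by
      rw [← mul_smul, hcomm, mul_smul, htb]
    exact ht1 (zh.three t a b (k • b) hab (Ne.symm hkb) (Ne.symm hkba) hta htb hfix)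

/-- the involution fixing two given points is unique -/
theorem invol_unique {a b : Ω} (hab : a ≠ b) {t t' : G} (htt : t * t = 1) (ht1 : t ≠ 1)
    (hta : t • a = a) (htb : t • b = b) (htt' : t' * t' = 1) (ht1' : t' ≠ 1)
    (hta' : t' • a = a) (htb' : t' • b = b) : t = t' := by
  obtain ⟨K, hK, hKtr⟩ := exists_K zh a
  have h1 := invol_inverts zh hab htt ht1 hta htb K hK
  have h2 := invol_inverts zh hab htt' ht1' hta' htb' K hK
  have := zh.faithful
  have hx : t * t' = 1 := by
    apply FaithfulSMul.eq_of_smul_eq_smul (α := Ω)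
    intro c
    rw [one_smul]
    by_cases hca : c = a
    · rw [hca, mul_smul, hta', hta]
    · obtain ⟨k, hk, hkb⟩ := hKtr b c (Ne.symm hab) hca
      have e : t * t' * k = k * (t * t') := by
        have e1 := h2 k hk
        have e2 := h1 k⁻¹ (K.inv_mem hk)
        rw [inv_inv] at e2
        have e3 : t * t' * k = t * (t' * k * t'⁻¹) * t' := by group
        rw [e3, e1]
        have e4 : t * k⁻¹ = k * t := by
          have := congrArg (· * t) e2
          simpa [mul_assoc] using this
        rw [e4, mul_assoc]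
      rw [← hkb, ← mul_smul, e, mul_smul, mul_smul, htb', htb]
  have : t' = t⁻¹ := (inv_eq_of_mul_eq_one_right hx).symm
  rw [this, inv_eq_self_of_sq htt]

omit [Finite Ω] in
/-- every pair of distinct points is fixed by an involution as soon as one pair is -/
theorem exists_invol {a b : Ω} (hab : a ≠ b) {t : G} (htt : t * t = 1) (ht1 : t ≠ 1)
    (hta : t • a = a) (htb : t • b = b) {c d : Ω} (hcd : c ≠ d) :
    ∃ u : G, u * u = 1 ∧ u ≠ 1 ∧ u • c = c ∧ u • d = d := by
  obtain ⟨g, hga, hgb⟩ := zh.two hab hcd
  have hgic : g⁻¹ • c = a := by rw [inv_smul_eq_iff, hga]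
  have hgid : g⁻¹ • d = b := by rw [inv_smul_eq_iff, hgb]
  refine ⟨g * t * g⁻¹, ?_, ?_, ?_, ?_⟩
  · have : g * t * g⁻¹ * (g * t * g⁻¹) = g * (t * t) * g⁻¹ := by group
    rw [this, htt]; group
  · intro h
    apply ht1
    have : t = g⁻¹ * (g * t * g⁻¹) * g := by group
    rw [this, h]; group
  · rw [mul_smul, mul_smul, hgic, hta, hga]
  · rw [mul_smul, mul_smul, hgid, htb, hgb]

/-- the involution fixing `c` and `t • c` commutes with `t` and interchanges the two fixed points
of `t`. -/
theorem swap_of_invol {a b : Ω} (hab : a ≠ b) {t : G} (htt : t * t = 1) (ht1 : t ≠ 1)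
    (hta : t • a = a) (htb : t • b = b) {c : Ω} (hca : c ≠ a) (hcb : c ≠ b)
    {u : G} (huu : u * u = 1) (hu1 : u ≠ 1) (huc : u • c = c) (hutc : u • (t • c) = t • c) :
    t * u = u * t ∧ u • a = b ∧ u • b = a := by
  have hti : t⁻¹ = t := inv_eq_self_of_sq htt
  have htc : t • c ≠ c := ne_of_fix zh ht1 hab hta htb hca hcb
  have httc : t • (t • c) = c := by rw [← mul_smul, htt, one_smul]
  have htca : t • c ≠ a := by
    intro h
    apply hca
    rw [← httc, h, hta]
  have htcb : t • c ≠ b := by
    intro h
    apply hcb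
    rw [← httc, h, htb]
  -- `t u t⁻¹` is an involution fixing `c` and `t • c`
  have hcomm : t * u * t⁻¹ = u := by
    apply invol_unique zh (Ne.symm htc) (t := t * u * t⁻¹) (t' := u)
    · have : t * u * t⁻¹ * (t * u * t⁻¹) = t * (u * u) * t⁻¹ := by group
      rw [this, huu]; group
    · intro h
      apply hu1
      have : u = t⁻¹ * (t * u * t⁻¹) * t := by group
      rw [this, h]; group
    · rw [hti, mul_smul, mul_smul, hutc, httc]
    · rw [hti, mul_smul, mul_smul, httc, huc]
    · exact huu
    · exact hu1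
    · exact huc
    · exact hutc
  have hcomm' : t * u = u * t := by
    have := congrArg (· * t) hcomm
    simpa [mul_assoc] using this
  refine ⟨hcomm', ?_, ?_⟩
  · have hfix : t • (u • a) = u • a := by rw [← mul_smul, hcomm', mul_smul, hta]
    rcases Cfsg.Agent.S0739.fix_cases zh.three hab ht1 hta htb hfix with h | h
    · exfalso
      exact hu1 (zh.three u a c (t • c) (Ne.symm hca) (Ne.symm htc) (Ne.symm htca) h huc hutc)
    · exact h
  · have hfix : t • (u • b) = u • b := by rw [← mul_smul, hcomm', mul_smul, htb]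
    rcases Cfsg.Agent.S0739.fix_cases zh.three hab ht1 hta htb hfix with h | h
    · exact h
    · exfalso
      exact hu1 (zh.three u b c (t • c) (Ne.symm hcb) (Ne.symm htc) (Ne.symm htcb) h huc hutc)

end

/-- a map all of whose fibres have at most two elements -/
theorem card_le_two_mul {X Y : Type*} [Finite X] [Finite Y] (f : X → Y)
    (h : ∀ x x' x'' : X, f x' = f x → f x'' = f x → x' = x ∨ x'' = x ∨ x' = x'') :
    Nat.card X ≤ 2 * Nat.card Y := by
  classical
  have := Fintype.ofFinite X
  have := Fintype.ofFinite Y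
  rw [Nat.card_eq_fintype_card, Nat.card_eq_fintype_card]
  have h1 := Finset.card_le_mul_card_image (f := f) Finset.univ 2 (by
    intro y hy
    by_contra hcon
    rw [not_le, Finset.two_lt_card] at hcon
    obtain ⟨x, hx, x', hx', x'', hx'', h12, h13, h23⟩ := hcon
    rw [Finset.mem_filter] at hx hx' hx''
    rcases h x x' x'' (hx'.2.trans hx.2.symm) (hx''.2.trans hx.2.symm) with e | e | e
    · exact h12 e.symm
    · exact h13 e.symm
    · exact h23 e)
  calc Fintype.card X = (Finset.univ : Finset X).card := Finset.card_univ.symm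
    _ ≤ 2 * (Finset.univ.image f).card := h1
    _ ≤ 2 * Fintype.card Y := Nat.mul_le_mul_left 2 (Finset.card_le_univ _)

theorem card_compl_pair [Fintype Ω] {a b : Ω} (hab : a ≠ b) :
    Nat.card {c : Ω // c ≠ a ∧ c ≠ b} = Fintype.card Ω - 2 := by
  classical
  rw [Nat.card_eq_fintype_card, Fintype.card_subtype]
  have : (Finset.univ.filter fun c : Ω => c ≠ a ∧ c ≠ b) = ({a, b} : Finset Ω)ᶜ := by
    ext c
    simp
  rw [this, Finset.card_compl, Finset.card_pair hab]

section count

variable [Fintype Ω] (zh : ZHyp G Ω) {a b : Ω} (hab : a ≠ b)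
include zh hab

/-- the order of a two-point stabiliser divides `|Ω| - 2` (Burnside's orbit count) -/
theorem card_dvd : Nat.card ↥(stabilizer G a ⊓ stabilizer G b) ∣ Fintype.card Ω - 2 := by
  classical
  have hfin : Finite G := finite_of_finite zh
  have hFH : Fintype ↥(stabilizer G a ⊓ stabilizer G b) := Fintype.ofFinite _
  have hFf : ∀ g : ↥(stabilizer G a ⊓ stabilizer G b), Fintype (fixedBy Ω g) :=
    fun g => Fintype.ofFinite _
  have hFo : Fintype (Quotient (orbitRel ↥(stabilizer G a ⊓ stabilizer G b) Ω)) :=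
    Fintype.ofFinite _
  have hB := sum_card_fixedBy_eq_card_orbits_mul_card_group ↥(stabilizer G a ⊓ stabilizer G b) Ω
  have hn2 : 2 ≤ Fintype.card Ω := Fintype.one_lt_card_iff.2 ⟨a, b, hab⟩
  have hterm : ∀ x : ↥(stabilizer G a ⊓ stabilizer G b), Fintype.card (fixedBy Ω x) =
      2 + (if x = 1 then Fintype.card Ω - 2 else 0) := by
    intro x
    have hx := x.2
    rw [Subgroup.mem_inf, mem_stabilizer_iff, mem_stabilizer_iff] at hx
    by_cases hx1 : x = 1
    · rw [if_pos hx1, hx1]
      have : Fintype.card (fixedBy Ω (1 : ↥(stabilizer G a ⊓ stabilizer G b))) =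
          Fintype.card Ω := by
        apply Fintype.card_of_subtype Finset.univ
        intro y
        simp
      rw [this]; omega
    · rw [if_neg hx1, add_zero, ← Nat.card_eq_fintype_card, Nat.card_coe_set_eq]
      have hx1' : (x : G) ≠ 1 := fun h => hx1 (Subtype.ext h)
      have : fixedBy Ω x = {a, b} := by
        ext y
        rw [mem_fixedBy, Subgroup.smul_def, Set.mem_insert_iff, Set.mem_singleton_iff]
        constructor
        · intro hy
          exact Cfsg.Agent.S0739.fix_cases zh.three hab hx1' hx.1 hx.2 hy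
        · rintro (rfl | rfl)
          · exact hx.1
          · exact hx.2
      rw [this, Set.ncard_pair hab]
  simp_rw [hterm] at hB
  rw [Finset.sum_add_distrib, Finset.sum_const, Finset.card_univ, smul_eq_mul,
    Finset.sum_ite_eq' Finset.univ (1 : ↥(stabilizer G a ⊓ stabilizer G b)),
    if_pos (Finset.mem_univ _)] at hB
  rw [Nat.card_eq_fintype_card]
  exact (Nat.dvd_add_right (Dvd.intro 2 rfl)).1 ⟨_, hB.trans (mul_comm _ _)⟩

/-- `|Ω| - 2` is at most twice the number of involutions interchanging `a` and `b` -/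
theorem card_le {t : G} (htt : t * t = 1) (ht1 : t ≠ 1) (hta : t • a = a) (htb : t • b = b) :
    Fintype.card Ω - 2 ≤ 2 * Nat.card {w : G // w • a = b ∧ w • b = a ∧ w * w = 1} := by
  classical
  have hfin : Finite G := finite_of_finite zh
  rw [← card_compl_pair hab]
  have htc : ∀ c : {c : Ω // c ≠ a ∧ c ≠ b}, t • (c : Ω) ≠ c := fun c =>
    ne_of_fix zh ht1 hab hta htb c.2.1 c.2.2
  have hex : ∀ c : {c : Ω // c ≠ a ∧ c ≠ b}, ∃ u : G, u * u = 1 ∧ u ≠ 1 ∧ u • (c : Ω) = c ∧
      u • (t • (c : Ω)) = t • (c : Ω) := fun c =>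
    exists_invol zh hab htt ht1 hta htb (Ne.symm (htc c))
  choose f hf using hex
  have hY : ∀ c, f c • a = b ∧ f c • b = a ∧ f c * f c = 1 := by
    intro c
    obtain ⟨h1, h2, h3, h4⟩ := hf c
    obtain ⟨-, h5, h6⟩ := swap_of_invol zh hab htt ht1 hta htb c.2.1 c.2.2 h1 h2 h3 h4
    exact ⟨h5, h6, h1⟩
  apply card_le_two_mul
    (fun c => (⟨f c, hY c⟩ : {w : G // w • a = b ∧ w • b = a ∧ w * w = 1}))
  intro x x' x'' h1 h2
  have e1 : f x' = f x := congrArg Subtype.val h1
  have e2 : f x'' = f x := congrArg Subtype.val h2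
  obtain ⟨-, hu1, huc, hutc⟩ := hf x
  have hx' : f x • (x' : Ω) = x' := by rw [← e1]; exact (hf x').2.2.1
  have hx'' : f x • (x'' : Ω) = x'' := by rw [← e2]; exact (hf x'').2.2.1
  have c1 := Cfsg.Agent.S0739.fix_cases zh.three (Ne.symm (htc x)) hu1 huc hutc hx'
  have c2 := Cfsg.Agent.S0739.fix_cases zh.three (Ne.symm (htc x)) hu1 huc hutc hx''
  rcases c1 with c1 | c1
  · left; exact Subtype.ext c1
  · rcases c2 with c2 | c2
    · right; left; exact Subtype.ext c2
    · right; right; exact Subtype.ext (c1.trans c2.symm)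

/-- **Dichotomy** for two-point stabilisers of even order: every element interchanging `a` and
`b` is an involution, or the two-point stabiliser is regular on the remaining points. -/
theorem dichotomy (heven : Even (Nat.card ↥(stabilizer G a ⊓ stabilizer G b))) :
    (∀ w : G, w • a = b → w • b = a → w * w = 1) ∨
    (Fintype.card Ω = Nat.card ↥(stabilizer G a ⊓ stabilizer G b) + 2 ∧
      ∀ c d : Ω, c ≠ a → c ≠ b → d ≠ a → d ≠ b → ∃ h : G, h • a = a ∧ h • b = b ∧ h • c = d) := by
  classical
  have hfin : Finite G := finite_of_finite zh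
  have hmem : ∀ x : G, x ∈ stabilizer G a ⊓ stabilizer G b ↔ x • a = a ∧ x • b = b := by
    intro x; rw [Subgroup.mem_inf, mem_stabilizer_iff, mem_stabilizer_iff]
  -- an involution in the two-point stabiliser
  have : Fact (Nat.Prime 2) := ⟨Nat.prime_two⟩
  obtain ⟨x, hx⟩ := exists_prime_orderOf_dvd_card' (G := ↥(stabilizer G a ⊓ stabilizer G b)) 2
    (even_iff_two_dvd.1 heven)
  have hxt : (x : G) * x = 1 := by
    have h1 : x ^ 2 = 1 := by rw [← hx]; exact pow_orderOf_eq_one x
    have h2 := congrArg Subtype.val h1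
    rw [pow_two] at h2
    exact h2
  have hx1 : (x : G) ≠ 1 := by
    intro h
    have : x = 1 := Subtype.ext h
    rw [this, orderOf_one] at hx
    omega
  obtain ⟨hxa, hxb⟩ := (hmem x).1 x.2
  have hle := card_le zh hab hxt hx1 hxa hxb
  obtain ⟨r, hr⟩ := card_dvd zh hab
  have hW := Cfsg.Agent.S0882.card_swap zh hab
  -- the involutions among the elements interchanging `a` and `b`
  let ι : {w : G // w • a = b ∧ w • b = a ∧ w * w = 1} → {w : G // w • a = b ∧ w • b = a} :=
    fun w => ⟨w.1, w.2.1, w.2.2.1⟩
  have hι : Function.Injective ι := by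
    intro w w' h
    have e : (ι w).1 = (ι w').1 := congrArg Subtype.val h
    exact Subtype.ext e
  have hYW := Nat.card_le_card_of_injective ι hι
  have hepos : 0 < Nat.card ↥(stabilizer G a ⊓ stabilizer G b) := Nat.card_pos
  obtain ⟨c, hca, hcb⟩ := exists_third zh a b hab
  have hn3 : 3 ≤ Fintype.card Ω := by
    have : ({a, b, c} : Finset Ω).card = 3 := by
      rw [Finset.card_insert_of_notMem, Finset.card_pair (Ne.symm hcb)]
      simp only [Finset.mem_insert, Finset.mem_singleton, not_or]
      exact ⟨hab, Ne.symm hca⟩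
    rw [← this]
    exact Finset.card_le_univ _
  have hr1 : 1 ≤ r := by
    rcases Nat.eq_zero_or_pos r with h | h
    · rw [h, mul_zero] at hr; omega
    · exact h
  have hr2 : r ≤ 2 := by
    have h1 : Nat.card ↥(stabilizer G a ⊓ stabilizer G b) * r ≤
        Nat.card ↥(stabilizer G a ⊓ stabilizer G b) * 2 := by
      rw [← hr, mul_comm _ 2]
      exact hle.trans (Nat.mul_le_mul_left 2 (hYW.trans hW.le))
    exact Nat.le_of_mul_le_mul_left h1 hepos
  rcases (by omega : r = 1 ∨ r = 2) with rfl | rfl
  · -- regular case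
    right
    rw [mul_one] at hr
    refine ⟨by omega, ?_⟩
    intro c d hca hcb hda hdb
    let φ : ↥(stabilizer G a ⊓ stabilizer G b) → {c : Ω // c ≠ a ∧ c ≠ b} := fun h =>
      ⟨(h : G) • c, by
        obtain ⟨h1, h2⟩ := (hmem h).1 h.2
        constructor
        · intro h'
          apply hca
          have : (h : G) • c = (h : G) • a := by rw [h', h1]
          exact MulAction.injective _ this
        · intro h'
          apply hcb
          have : (h : G) • c = (h : G) • b := by rw [h', h2]
          exact MulAction.injective _ this⟩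
    have hφ : Function.Injective φ := by
      intro h h' hh
      have e : (h : G) • c = (h' : G) • c := congrArg Subtype.val hh
      obtain ⟨h1, h2⟩ := (hmem h).1 h.2
      obtain ⟨h1', h2'⟩ := (hmem h').1 h'.2
      have h1i : (h' : G)⁻¹ • a = a := by rw [inv_smul_eq_iff, h1']
      have h2i : (h' : G)⁻¹ • b = b := by rw [inv_smul_eq_iff, h2']
      have := zh.three ((h' : G)⁻¹ * h) a b c hab (Ne.symm hcb) (Ne.symm hca)
        (by rw [mul_smul, h1, h1i]) (by rw [mul_smul, h2, h2i])
        (by rw [mul_smul, e, inv_smul_smul])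
      apply Subtype.ext
      exact (inv_mul_eq_one.1 this).symm
    have hbij := hφ.bijective_of_nat_card_le (by rw [card_compl_pair hab, hr])
    obtain ⟨h, hh⟩ := hbij.2 ⟨d, hda, hdb⟩
    obtain ⟨h1, h2⟩ := (hmem h).1 h.2
    exact ⟨h, h1, h2, congrArg Subtype.val hh⟩
  · -- all elements interchanging `a` and `b` are involutions
    left
    intro w hwa hwb
    by_contra hww
    have := Fintype.ofFinite {w : G // w • a = b ∧ w • b = a ∧ w * w = 1}
    have := Fintype.ofFinite {w : G // w • a = b ∧ w • b = a}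
    have hlt := Fintype.card_lt_of_injective_of_notMem ι hι (b := ⟨w, hwa, hwb⟩) (by
      rintro ⟨y, hy⟩
      apply hww
      have : y.1 = w := congrArg Subtype.val hy
      rw [← this]
      exact y.2.2.2)
    rw [← Nat.card_eq_fintype_card, ← Nat.card_eq_fintype_card] at hlt
    omega

end count

end Cfsg.Agent.Lib.Helper6_ZassCycA
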