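import Mathlib
import Cfsg.Agent.Lib.Helper6_ZassCycA

/-!
# A subgroup of index two in a sharply triply transitive group of even degree (helper6)

Let `G` be a Zassenhaus-type group on `Ω` whose two-point stabiliser `H = G_{ab}` is transitive
on the remaining points, `K` the Frobenius kernel of `G_a`, `s` an involution interchanging `a`
and `b`, and `N ≤ H` a subgroup of index two (given by its parity rule) normalised by `s`.
For a suitable `w ∈ H s` the set `K N ∪ K N w K N` is a subgroup of index two of `G`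
(`Ctx.exists_index_two`).
-/

set_option autoImplicit false

namespace Cfsg.Agent.Lib.Helper6_ZassCycB

open MulAction Cfsg Cfsg.Agent.Lib.Helper6_Zassenhaus Cfsg.Agent.Lib.Helper6_ZassCycA

section closure

variable {G : Type*} [Group G]

/-- `B ∪ B w B` is a subgroup as soon as `w² ∈ B` and `w B w⁻¹ ⊆ B ∪ B w B`. -/
theorem exists_subgroup_of_double_coset (B : Subgroup G) (w : G) (hw2 : w * w ∈ B)
    (hconj : ∀ x ∈ B, w * x * w⁻¹ ∈ B ∨ ∃ b1 ∈ B, ∃ b2 ∈ B, w * x * w⁻¹ = b1 * w * b2) :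
    ∃ G0 : Subgroup G, ∀ g, g ∈ G0 ↔ g ∈ B ∨ ∃ b1 ∈ B, ∃ b2 ∈ B, g = b1 * w * b2 := by
  refine ⟨{ carrier := {g | g ∈ B ∨ ∃ b1 ∈ B, ∃ b2 ∈ B, g = b1 * w * b2}
            mul_mem' := ?_
            one_mem' := Or.inl B.one_mem
            inv_mem' := ?_ }, fun g => Iff.rfl⟩
  · rintro x y (hx | ⟨b1, hb1, b2, hb2, rfl⟩) (hy | ⟨b3, hb3, b4, hb4, rfl⟩)
    · exact Or.inl (B.mul_mem hx hy)
    · refine Or.inr ⟨x * b3, B.mul_mem hx hb3, b4, hb4, ?_⟩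
      group
    · refine Or.inr ⟨b1, hb1, b2 * y, B.mul_mem hb2 hy, ?_⟩
      group
    · rcases hconj (b2 * b3) (B.mul_mem hb2 hb3) with h | ⟨b5, hb5, b6, hb6, h⟩
      · left
        have e : b1 * w * b2 * (b3 * w * b4) = b1 * (w * (b2 * b3) * w⁻¹) * (w * w) * b4 := by
          group
        show b1 * w * b2 * (b3 * w * b4) ∈ B
        rw [e]
        exact B.mul_mem (B.mul_mem (B.mul_mem hb1 h) hw2) hb4
      · right
        refine ⟨b1 * b5, B.mul_mem hb1 hb5, b6 * (w * w) * b4,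
          B.mul_mem (B.mul_mem hb6 hw2) hb4, ?_⟩
        have e : b1 * w * b2 * (b3 * w * b4) = b1 * (w * (b2 * b3) * w⁻¹) * (w * w) * b4 := by
          group
        rw [e, h]
        group
  · rintro x (hx | ⟨b1, hb1, b2, hb2, rfl⟩)
    · exact Or.inl (B.inv_mem hx)
    · refine Or.inr ⟨b2⁻¹, B.inv_mem hb2, (w * w)⁻¹ * b1⁻¹,
        B.mul_mem (B.inv_mem hw2) (B.inv_mem hb1), ?_⟩
      group

end closure

variable {G Ω : Type*} [Group G] [MulAction G Ω]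

/-- the hypotheses of this file -/
structure Ctx (a b : Ω) (K N : Subgroup G) (s : G) : Prop where
  zh : ZHyp G Ω
  hab : a ≠ b
  hK : (K : Set G) = Kset G a
  hKtr : ∀ c d : Ω, c ≠ a → d ≠ a → ∃ k ∈ K, k • c = d
  hreg : ∀ c d : Ω, c ≠ a → c ≠ b → d ≠ a → d ≠ b → ∃ h : G, h • a = a ∧ h • b = b ∧ h • c = d
  hNH : ∀ n ∈ N, n • a = a ∧ n • b = b
  hpar : ∀ x y : G, x • a = a → x • b = b → y • a = a → y • b = b →
    (x * y ∈ N ↔ (x ∈ N ↔ y ∈ N))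
  hsa : s • a = b
  hsb : s • b = a
  hss : s * s = 1
  hsN : ∀ n ∈ N, s * n * s⁻¹ ∈ N

/-- membership in the two-point stabiliser -/
def InH (a b : Ω) (x : G) : Prop := x • a = a ∧ x • b = b

theorem InH.mul {a b : Ω} {x y : G} (hx : InH a b x) (hy : InH a b y) : InH a b (x * y) :=
  ⟨by rw [mul_smul, hy.1, hx.1], by rw [mul_smul, hy.2, hx.2]⟩

theorem InH.inv {a b : Ω} {x : G} (hx : InH a b x) : InH a b x⁻¹ :=
  ⟨by rw [inv_smul_eq_iff, hx.1], by rw [inv_smul_eq_iff, hx.2]⟩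

theorem InH.one {a b : Ω} : InH a b (1 : G) := ⟨one_smul _ _, one_smul _ _⟩

theorem inH_conj_swap {a b : Ω} {w : G} (hwa : w • a = b) (hwb : w • b = a) {x : G} (hx : InH a b x) :
    InH a b (w * x * w⁻¹) := by
  have h1 : w⁻¹ • a = b := by rw [inv_smul_eq_iff, hwb]
  have h2 : w⁻¹ • b = a := by rw [inv_smul_eq_iff, hwa]
  exact ⟨by rw [mul_smul, mul_smul, h1, hx.2, hwb], by rw [mul_smul, mul_smul, h2, hx.1, hwa]⟩

/-- an element interchanging `a` and `b` whose conjugation action on `H` preserves `N`-parity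
and whose square lies in `N` -/
structure Good (a b : Ω) (N : Subgroup G) (w : G) : Prop where
  wa : w • a = b
  wb : w • b = a
  par : ∀ x : G, InH a b x → (w * x * w⁻¹ ∈ N ↔ x ∈ N)
  sq : w * w ∈ N

namespace Ctx

variable {a b : Ω} {K N : Subgroup G} {s : G} (C : Ctx a b K N s)
include C

theorem memK (x : G) : x ∈ K ↔ x • a = a ∧ (x = 1 ∨ ∀ c, c ≠ a → x • c ≠ c) := by
  rw [← SetLike.mem_coe, C.hK]; rfl

theorem K_fix {k : G} (hk : k ∈ K) : k • a = a := ((C.memK k).1 hk).1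

theorem K_eq_one {k : G} (hk : k ∈ K) {c : Ω} (hca : c ≠ a) (hkc : k • c = c) : k = 1 := by
  rcases ((C.memK k).1 hk).2 with h | h
  · exact h
  · exact absurd hkc (h c hca)

theorem K_ne {k : G} (hk : k ∈ K) {c : Ω} (hca : c ≠ a) : k • c ≠ a := by
  intro h
  apply hca
  have : k • c = k • a := by rw [h, C.K_fix hk]
  exact MulAction.injective k this

theorem conjK {x : G} (hx : x • a = a) {k : G} (hk : k ∈ K) : x * k * x⁻¹ ∈ K := by
  rw [← SetLike.mem_coe, C.hK]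
  apply kset_conj hx
  rw [← C.hK]; exact hk

theorem N_inH {n : G} (hn : n ∈ N) : InH a b n := C.hNH n hn

theorem par_mul {x y : G} (hx : InH a b x) (hy : InH a b y) :
    x * y ∈ N ↔ (x ∈ N ↔ y ∈ N) := C.hpar x y hx.1 hx.2 hy.1 hy.2

theorem sinv : s⁻¹ = s := inv_eq_self_of_sq C.hss

theorem good_s : Good a b N s := by
  refine ⟨C.hsa, C.hsb, ?_, by rw [C.hss]; exact N.one_mem⟩
  intro x hx
  constructor
  · intro h
    have := C.hsN _ h
    have e : s * (s * x * s⁻¹) * s⁻¹ = (s * s) * x * (s * s)⁻¹ := by group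
    rwa [e, C.hss, one_mul, inv_one, mul_one] at this
  · exact C.hsN x

/-- `h0 * s` is good for every `h0 ∈ H` -/
theorem good_mul {h0 : G} (h0H : InH a b h0) : Good a b N (h0 * s) := by
  have gs := C.good_s
  refine ⟨by rw [mul_smul, C.hsa, h0H.2], by rw [mul_smul, C.hsb, h0H.1], ?_, ?_⟩
  · intro x hx
    have e : h0 * s * x * (h0 * s)⁻¹ = h0 * ((s * x * s⁻¹) * h0⁻¹) := by group
    rw [e]
    have hq := inH_conj_swap C.hsa C.hsb hx
    have e1 := C.par_mul h0H (hq.mul h0H.inv)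
    have e2 := C.par_mul hq h0H.inv
    have e3 := gs.par x hx
    have e4 : h0⁻¹ ∈ N ↔ h0 ∈ N := inv_mem_iff
    tauto
  · have e : h0 * s * (h0 * s) = h0 * (s * h0 * s⁻¹) := by
      have : h0 * s * (h0 * s) = h0 * (s * h0 * s⁻¹) * (s * s) := by group
      rw [this, C.hss, mul_one]
    rw [e]
    have e1 := C.par_mul h0H (inH_conj_swap C.hsa C.hsb h0H)
    have e3 := gs.par h0 h0H
    tauto

/-- Bruhat decomposition with respect to a good element -/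
theorem bruhat {w : G} (gw : Good a b N w) {g : G} (hg : g • a ≠ a) :
    ∃ k1 ∈ K, ∃ h : G, InH a b h ∧ ∃ k2 ∈ K, g = k1 * h * w * k2 := by
  have hba : b ≠ a := Ne.symm C.hab
  obtain ⟨k1, hk1, e1⟩ := C.hKtr b (g • a) hba hg
  have hy : g⁻¹ • a ≠ a := by
    intro h
    apply hg
    rw [inv_smul_eq_iff] at h
    exact h.symm
  obtain ⟨k2, hk2, e2⟩ := C.hKtr (g⁻¹ • a) b hy hba
  have hwia : w⁻¹ • a = b := by rw [inv_smul_eq_iff, gw.wb]
  have hwib : w⁻¹ • b = a := by rw [inv_smul_eq_iff, gw.wa]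
  have hk2i : k2⁻¹ • b = g⁻¹ • a := by rw [inv_smul_eq_iff, e2]
  have hk2a : k2⁻¹ • a = a := by rw [inv_smul_eq_iff, C.K_fix hk2]
  have hk1a : k1⁻¹ • a = a := by rw [inv_smul_eq_iff, C.K_fix hk1]
  have hk1i : k1⁻¹ • (g • a) = b := by rw [inv_smul_eq_iff, e1]
  refine ⟨k1, hk1, k1⁻¹ * g * k2⁻¹ * w⁻¹, ⟨?_, ?_⟩, k2, hk2, by group⟩
  · rw [mul_smul, mul_smul, mul_smul, hwia, hk2i, smul_inv_smul, hk1a]
  · rw [mul_smul, mul_smul, mul_smul, hwib, hk2a, hk1i]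

/-- decomposition of the point stabiliser -/
theorem decomp_B {g : G} (hg : g • a = a) : ∃ k ∈ K, ∃ h : G, InH a b h ∧ g = k * h := by
  have hba : b ≠ a := Ne.symm C.hab
  have hgb : g • b ≠ a := by
    intro h
    apply hba
    have : g • b = g • a := by rw [h, hg]
    exact MulAction.injective g this
  obtain ⟨k, hk, e⟩ := C.hKtr b (g • b) hba hgb
  have hka : k⁻¹ • a = a := by rw [inv_smul_eq_iff, C.K_fix hk]
  refine ⟨k, hk, k⁻¹ * g, ⟨?_, ?_⟩, by group⟩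
  · rw [mul_smul, hg, hka]
  · rw [mul_smul, inv_smul_eq_iff, e]

theorem exists_K_ne_one : ∃ k ∈ K, k ≠ 1 := by
  obtain ⟨c, hca, hcb⟩ := exists_third C.zh a b C.hab
  obtain ⟨k, hk, e⟩ := C.hKtr b c (Ne.symm C.hab) hca
  refine ⟨k, hk, ?_⟩
  intro h
  rw [h, one_smul] at e
  exact hcb e.symm

/-- `H` is transitive on `K ∖ 1` by conjugation -/
theorem exists_conj {k0 k : G} (hk0 : k0 ∈ K) (hk01 : k0 ≠ 1) (hk : k ∈ K) (hk1 : k ≠ 1) :
    ∃ x : G, InH a b x ∧ x * k0 * x⁻¹ = k := by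
  have hba : b ≠ a := Ne.symm C.hab
  have h1 : k0 • b ≠ b := fun h => hk01 (C.K_eq_one hk0 hba h)
  have h2 : k • b ≠ b := fun h => hk1 (C.K_eq_one hk hba h)
  obtain ⟨x, hxa, hxb, hx⟩ := C.hreg (k0 • b) (k • b) (C.K_ne hk0 hba) h1 (C.K_ne hk hba) h2
  refine ⟨x, ⟨hxa, hxb⟩, ?_⟩
  have hxib : x⁻¹ • b = b := by rw [inv_smul_eq_iff, hxb]
  have hmem : k⁻¹ * (x * k0 * x⁻¹) ∈ K := K.mul_mem (K.inv_mem hk) (C.conjK hxa hk0)
  have hfix : (k⁻¹ * (x * k0 * x⁻¹)) • b = b := by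
    rw [mul_smul, mul_smul, mul_smul, hxib, hx, inv_smul_smul]
  have := C.K_eq_one hmem hba hfix
  exact (inv_mul_eq_one.1 this).symm

/-- the structure equation for one element gives a good `w` with `w k w⁻¹ ∈ K N w K` -/
theorem exists_good : ∃ w : G, Good a b N w ∧
    ∀ k ∈ K, k ≠ 1 → ∃ k1 ∈ K, ∃ n ∈ N, ∃ k2 ∈ K, w * k * w⁻¹ = k1 * n * w * k2 := by
  have hba : b ≠ a := Ne.symm C.hab
  have gs := C.good_s
  obtain ⟨k0, hk0, hk01⟩ := C.exists_K_ne_one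
  have hsia : s⁻¹ • a = b := by rw [inv_smul_eq_iff, C.hsb]
  have hmove : (s * k0 * s⁻¹) • a ≠ a := by
    rw [mul_smul, mul_smul, hsia]
    intro h
    have h' : s • (k0 • b) = s • b := by rw [h, C.hsb]
    exact hk01 (C.K_eq_one hk0 hba (MulAction.injective s h'))
  obtain ⟨k1, hk1, h0, h0H, k2, hk2, e0⟩ := C.bruhat gs hmove
  have gw := C.good_mul h0H
  refine ⟨h0 * s, gw, ?_⟩
  -- the base element
  have hq := inH_conj_swap C.hsa C.hsb h0H.inv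
  have hn0 : h0 * (h0 * ((s * h0⁻¹ * s⁻¹) * h0⁻¹)) ∈ N := by
    have e1 := C.par_mul h0H (h0H.mul (hq.mul h0H.inv))
    have e2 := C.par_mul h0H (hq.mul h0H.inv)
    have e3 := C.par_mul hq h0H.inv
    have e4 := gs.par h0⁻¹ h0H.inv
    tauto
  have base : (h0 * s) * k0 * (h0 * s)⁻¹ =
      (h0 * k1 * h0⁻¹) * (h0 * (h0 * ((s * h0⁻¹ * s⁻¹) * h0⁻¹))) * (h0 * s) * (h0 * k2 * h0⁻¹) := by
    have : (h0 * s) * k0 * (h0 * s)⁻¹ = h0 * (s * k0 * s⁻¹) * h0⁻¹ := by group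
    rw [this, e0]
    group
  intro k hk hk1'
  obtain ⟨x, hxH, hx⟩ := C.exists_conj hk0 hk01 hk hk1'
  have hyH := inH_conj_swap gw.wa gw.wb hxH
  have hyiH := inH_conj_swap gw.wa gw.wb hyH.inv
  have hn : ((h0 * s) * x * (h0 * s)⁻¹) * (h0 * (h0 * ((s * h0⁻¹ * s⁻¹) * h0⁻¹))) *
      ((h0 * s) * ((h0 * s) * x * (h0 * s)⁻¹)⁻¹ * (h0 * s)⁻¹) ∈ N := by
    have e1 := C.par_mul (hyH.mul (C.N_inH hn0)) hyiH
    have e2 := C.par_mul hyH (C.N_inH hn0)
    have e3 := gw.par _ hyH.inv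
    have e5 : ((h0 * s) * x * (h0 * s)⁻¹)⁻¹ ∈ N ↔ ((h0 * s) * x * (h0 * s)⁻¹) ∈ N := inv_mem_iff
    tauto
  refine ⟨((h0 * s) * x * (h0 * s)⁻¹) * (h0 * k1 * h0⁻¹) * ((h0 * s) * x * (h0 * s)⁻¹)⁻¹,
    C.conjK hyH.1 (C.conjK h0H.1 hk1), _, hn,
    ((h0 * s) * x * (h0 * s)⁻¹) * (h0 * k2 * h0⁻¹) * ((h0 * s) * x * (h0 * s)⁻¹)⁻¹,
    C.conjK hyH.1 (C.conjK h0H.1 hk2), ?_⟩
  have e : (h0 * s) * k * (h0 * s)⁻¹ = ((h0 * s) * x * (h0 * s)⁻¹) *
      ((h0 * s) * k0 * (h0 * s)⁻¹) * ((h0 * s) * x * (h0 * s)⁻¹)⁻¹ := by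
    rw [← hx]; group
  rw [e, base]
  group

/-- `K N` as a subgroup -/
theorem exists_B0 : ∃ B0 : Subgroup G, ∀ g, g ∈ B0 ↔ ∃ k ∈ K, ∃ n ∈ N, g = k * n := by
  refine ⟨{ carrier := {g | ∃ k ∈ K, ∃ n ∈ N, g = k * n}
            mul_mem' := ?_
            one_mem' := ⟨1, K.one_mem, 1, N.one_mem, by group⟩
            inv_mem' := ?_ }, fun g => Iff.rfl⟩
  · rintro x y ⟨k, hk, n, hn, rfl⟩ ⟨k', hk', n', hn', rfl⟩
    refine ⟨k * (n * k' * n⁻¹), K.mul_mem hk (C.conjK (C.N_inH hn).1 hk'), n * n',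
      N.mul_mem hn hn', by group⟩
  · rintro x ⟨k, hk, n, hn, rfl⟩
    have := C.conjK (C.N_inH (N.inv_mem hn)).1 (K.inv_mem hk)
    exact ⟨n⁻¹ * k⁻¹ * n⁻¹⁻¹, this, n⁻¹, N.inv_mem hn, by group⟩

/-- **Main construction**: a subgroup of index two. -/
theorem exists_index_two {h1 : G} (h1H : InH a b h1) (h1N : h1 ∉ N) :
    ∃ G0 : Subgroup G, G0.index = 2 := by
  have hba : b ≠ a := Ne.symm C.hab
  obtain ⟨w, gw, hstr⟩ := C.exists_good
  obtain ⟨B0, hB0⟩ := C.exists_B0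
  have hNB0 : ∀ n ∈ N, n ∈ B0 := fun n hn => (hB0 n).2 ⟨1, K.one_mem, n, hn, by group⟩
  have hKB0 : ∀ k ∈ K, k ∈ B0 := fun k hk => (hB0 k).2 ⟨k, hk, 1, N.one_mem, by group⟩
  have hB0a : ∀ x ∈ B0, x • a = a := by
    intro x hx
    obtain ⟨k, hk, n, hn, rfl⟩ := (hB0 x).1 hx
    rw [mul_smul, (C.N_inH hn).1, C.K_fix hk]
  obtain ⟨G0, hG0⟩ := exists_subgroup_of_double_coset B0 w (hNB0 _ gw.sq) (by
    intro x hx
    obtain ⟨k, hk, n, hn, rfl⟩ := (hB0 x).1 hx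
    have hm : w * n * w⁻¹ ∈ N := (gw.par n (C.N_inH hn)).2 hn
    by_cases hk1 : k = 1
    · left
      rw [hk1, one_mul]
      exact hNB0 _ hm
    · right
      obtain ⟨k1, hk1', n1, hn1, k2, hk2, e⟩ := hstr k hk hk1
      refine ⟨k1 * n1, (hB0 _).2 ⟨k1, hk1', n1, hn1, rfl⟩, k2 * (w * n * w⁻¹),
        (hB0 _).2 ⟨k2, hk2, _, hm, rfl⟩, ?_⟩
      have e' : w * (k * n) * w⁻¹ = (w * k * w⁻¹) * (w * n * w⁻¹) := by group
      rw [e', e]
      group)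
  refine ⟨G0, Subgroup.index_eq_two_iff_exists_notMem_and.2 ⟨h1, ?_, ?_⟩⟩
  · -- `h1 ∉ G0`
    rw [hG0]
    rintro (h | ⟨b1, hb1, b2, hb2, h⟩)
    · obtain ⟨k, hk, n, hn, e⟩ := (hB0 _).1 h
      have hkb : k • b = b := by
        have : k = h1 * n⁻¹ := by rw [e]; group
        rw [this, mul_smul, (C.N_inH (N.inv_mem hn)).2, h1H.2]
      have hk1 := C.K_eq_one hk hba hkb
      rw [hk1, one_mul] at e
      exact h1N (e ▸ hn)
    · have h2 : h1 • a = b1 • b := by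
        rw [h, mul_smul, mul_smul, hB0a b2 hb2, gw.wa]
      rw [h1H.1] at h2
      have : b1 • a = b1 • b := by rw [hB0a b1 hb1]; exact h2
      exact C.hab (MulAction.injective b1 this)
  · intro g
    by_cases hgG : g ∈ G0
    · exact Or.inr hgG
    left
    rw [hG0] at hgG ⊢
    push Not at hgG
    by_cases hga : g • a = a
    · left
      obtain ⟨k, hk, h, hH, rfl⟩ := C.decomp_B hga
      have hhN : h ∉ N := fun hn => hgG.1 ((hB0 _).2 ⟨k, hk, h, hn, rfl⟩)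
      have e1 := C.par_mul hH h1H
      have : h * h1 ∈ N := by tauto
      exact (hB0 _).2 ⟨k, hk, h * h1, this, by group⟩
    · right
      obtain ⟨k1, hk1, h, hH, k2, hk2, rfl⟩ := C.bruhat gw hga
      have hhN : h ∉ N := by
        intro hn
        exact hgG.2 (k1 * h) ((hB0 _).2 ⟨k1, hk1, h, hn, rfl⟩) k2 (hKB0 k2 hk2) rfl
      have hq := inH_conj_swap gw.wa gw.wb h1H
      have e1 := C.par_mul hH hq
      have e2 := gw.par h1 h1H
      have hmem : h * (w * h1 * w⁻¹) ∈ N := by tauto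
      refine ⟨k1 * (h * (w * h1 * w⁻¹)), (hB0 _).2 ⟨k1, hk1, _, hmem, rfl⟩,
        h1⁻¹ * k2 * h1⁻¹⁻¹, hKB0 _ (C.conjK h1H.inv.1 hk2), ?_⟩
      group

end Ctx

end Cfsg.Agent.Lib.Helper6_ZassCycB
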