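import Mathlib
import Cfsg.Agent.Lib.Helper6_ZassCycB
import Cfsg.Agent.Lib.Helper95_Sharp3Idx
import Cfsg.Agent.Lib.Helper95_IdxTwo

/-!
# Sharply triply transitive groups of even degree at least six are not simple (helper6)

Glue between `Helper6_ZassCycB.Ctx.exists_index_two` and helper95's index-two subgroup of the
two-point stabiliser (`Helper95_Sharp3Idx.exists_index_two`,
`Helper95_IdxTwo.exists_invariant_index_two`).
-/

set_option autoImplicit false

namespace Cfsg.Agent.Lib.Helper6_ZassCycC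

open MulAction Cfsg Cfsg.Agent.Lib.Helper6_Zassenhaus Cfsg.Agent.Lib.Helper6_ZassCycA
  Cfsg.Agent.Lib.Helper6_ZassCycB Cfsg.Agent.Lib.Helper21_Sharp3

variable {G Ω : Type*} [Group G] [MulAction G Ω]

/-- elementwise triple transitivity -/
theorem exists_smul_triple (zh : ZHyp G Ω) {a b : Ω} (hab : a ≠ b)
    (hreg : ∀ c d : Ω, c ≠ a → c ≠ b → d ≠ a → d ≠ b → ∃ h : G, h • a = a ∧ h • b = b ∧ h • c = d)
    (u v w u' v' w' : Ω) (huv : u ≠ v) (huw : u ≠ w) (hvw : v ≠ w) (huv' : u' ≠ v')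
    (huw' : u' ≠ w') (hvw' : v' ≠ w') : ∃ g : G, g • u = u' ∧ g • v = v' ∧ g • w = w' := by
  obtain ⟨g1, h1u, h1v⟩ := zh.two huv hab
  obtain ⟨g2, h2u, h2v⟩ := zh.two huv' hab
  have hc1 : g1 • w ≠ a := by
    rw [← h1u]; intro h; exact huw (MulAction.injective g1 h).symm
  have hc2 : g1 • w ≠ b := by
    rw [← h1v]; intro h; exact hvw (MulAction.injective g1 h).symm
  have hd1 : g2 • w' ≠ a := by
    rw [← h2u]; intro h; exact huw' (MulAction.injective g2 h).symm
  have hd2 : g2 • w' ≠ b := by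
    rw [← h2v]; intro h; exact hvw' (MulAction.injective g2 h).symm
  obtain ⟨h, hha, hhb, hh⟩ := hreg _ _ hc1 hc2 hd1 hd2
  refine ⟨g2⁻¹ * h * g1, ?_, ?_, ?_⟩
  · rw [mul_smul, mul_smul, h1u, hha, inv_smul_eq_iff, h2u]
  · rw [mul_smul, mul_smul, h1v, hhb, inv_smul_eq_iff, h2v]
  · rw [mul_smul, mul_smul, hh, inv_smul_smul]

theorem isMultiplyPretransitive_three
    (hE : ∀ u v w u' v' w' : Ω, u ≠ v → u ≠ w → v ≠ w → u' ≠ v' → u' ≠ w' → v' ≠ w' →
      ∃ g : G, g • u = u' ∧ g • v = v' ∧ g • w = w') :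
    IsMultiplyPretransitive G Ω 3 := by
  rw [MulAction.isMultiplyPretransitive_iff]
  intro x y
  have hx : ∀ i j : Fin 3, i ≠ j → x i ≠ x j := fun i j hij h => hij (x.injective h)
  have hy : ∀ i j : Fin 3, i ≠ j → y i ≠ y j := fun i j hij h => hij (y.injective h)
  obtain ⟨g, h0, h1, h2⟩ := hE (x 0) (x 1) (x 2) (y 0) (y 1) (y 2)
    (hx 0 1 (by decide)) (hx 0 2 (by decide)) (hx 1 2 (by decide))
    (hy 0 1 (by decide)) (hy 0 2 (by decide)) (hy 1 2 (by decide))
  refine ⟨g, ?_⟩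
  ext i
  rw [Function.Embedding.smul_apply]
  fin_cases i
  · exact h0
  · exact h1
  · exact h2

/-- A Zassenhaus-type group of even degree at least six whose two-point stabiliser is transitive
on the remaining points has a subgroup of index two. -/
theorem exists_index_two_of_regular [Fintype Ω] [DecidableEq Ω] (zh : ZHyp G Ω) {a b : Ω}
    (hab : a ≠ b)
    (hreg : ∀ c d : Ω, c ≠ a → c ≠ b → d ≠ a → d ≠ b → ∃ h : G, h • a = a ∧ h • b = b ∧ h • c = d)
    (heven : Even (Fintype.card Ω)) (h6 : 6 ≤ Fintype.card Ω) :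
    ∃ G0 : Subgroup G, G0.index = 2 := by
  have hfin : Finite G := finite_of_finite zh
  have hs : Sharp3 G Ω := fun g a b c hab hac hbc => zh.three g a b c hab hbc hac
  have hE := exists_smul_triple zh hab hreg
  have h3 := isMultiplyPretransitive_three hE
  obtain ⟨c, hca, hcb⟩ := exists_third zh a b hab
  have hac : a ≠ c := Ne.symm hca
  have hbc : b ≠ c := Ne.symm hcb
  obtain ⟨s, hsa, hsb, hsc⟩ := hE a b c b a c hab hac hbc (Ne.symm hab) hbc hac
  have hss : s * s = 1 :=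
    hs (s * s) a b c hab hac hbc (by rw [mul_smul, hsa, hsb]) (by rw [mul_smul, hsb, hsa])
      (by rw [mul_smul, hsc, hsc])
  have hsinv : s⁻¹ = s := inv_eq_of_mul_eq_one_left hss
  obtain ⟨M, hM⟩ := Cfsg.Agent.Lib.Helper95_Sharp3Idx.exists_index_two h3 hs heven h6 hab hac hbc
  have hHmem : ∀ g, g ∈ stabilizer G a ⊓ stabilizer G b ↔ g • a = a ∧ g • b = b := by
    intro g
    rw [Subgroup.mem_inf, mem_stabilizer_iff, mem_stabilizer_iff]
  have hnorm : ∀ h ∈ stabilizer G a ⊓ stabilizer G b,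
      s * h * s⁻¹ ∈ stabilizer G a ⊓ stabilizer G b := by
    intro h hh
    obtain ⟨h1, h2⟩ := (hHmem h).1 hh
    rw [hHmem, hsinv]
    constructor
    · rw [mul_smul, mul_smul, hsa, h2, hsb]
    · rw [mul_smul, mul_smul, hsb, h1, hsa]
  let σ : ↥(stabilizer G a ⊓ stabilizer G b) ≃* ↥(stabilizer G a ⊓ stabilizer G b) :=
    { toFun := fun h => ⟨s * h * s⁻¹, hnorm h h.2⟩
      invFun := fun h => ⟨s * h * s⁻¹, hnorm h h.2⟩
      left_inv := fun h => by
        apply Subtype.ext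
        change s * (s * (h : G) * s⁻¹) * s⁻¹ = h
        rw [hsinv]
        calc s * (s * (h : G) * s) * s = (s * s) * h * (s * s) := by group
          _ = h := by rw [hss, one_mul, mul_one]
      right_inv := fun h => by
        apply Subtype.ext
        change s * (s * (h : G) * s⁻¹) * s⁻¹ = h
        rw [hsinv]
        calc s * (s * (h : G) * s) * s = (s * s) * h * (s * s) := by group
          _ = h := by rw [hss, one_mul, mul_one]
      map_mul' := fun x y => by
        apply Subtype.ext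
        change s * ((x : G) * y) * s⁻¹ = (s * x * s⁻¹) * (s * y * s⁻¹)
        group }
  have hσ : ∀ x, σ (σ x) = x := fun x => σ.left_inv x
  obtain ⟨N, hN2, hNσ⟩ :=
    Cfsg.Agent.Lib.Helper95_IdxTwo.exists_invariant_index_two σ hσ ⟨M, hM⟩
  obtain ⟨K, hK, hKtr⟩ := exists_K zh a
  have hmemN : ∀ x (hx : x ∈ stabilizer G a ⊓ stabilizer G b),
      x ∈ N.map (stabilizer G a ⊓ stabilizer G b).subtype ↔ (⟨x, hx⟩ : ↥(stabilizer G a ⊓ stabilizer G b)) ∈ N := by
    intro x hx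
    rw [Subgroup.mem_map]
    constructor
    · rintro ⟨y, hy, rfl⟩
      exact hy
    · intro h
      exact ⟨⟨x, hx⟩, h, rfl⟩
  have C : Ctx a b K (N.map (stabilizer G a ⊓ stabilizer G b).subtype) s := by
    refine ⟨zh, hab, hK, hKtr, hreg, ?_, ?_, hsa, hsb, hss, ?_⟩
    · intro n hn
      rw [Subgroup.mem_map] at hn
      obtain ⟨y, -, rfl⟩ := hn
      exact (hHmem _).1 y.2
    · intro x y hxa hxb hya hyb
      have hx : x ∈ stabilizer G a ⊓ stabilizer G b := (hHmem x).2 ⟨hxa, hxb⟩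
      have hy : y ∈ stabilizer G a ⊓ stabilizer G b := (hHmem y).2 ⟨hya, hyb⟩
      rw [hmemN x hx, hmemN y hy, hmemN (x * y) (Subgroup.mul_mem _ hx hy)]
      exact Subgroup.mul_mem_iff_of_index_two hN2 (a := ⟨x, hx⟩) (b := ⟨y, hy⟩)
    · intro n hn
      rw [Subgroup.mem_map] at hn ⊢
      obtain ⟨y, hy, rfl⟩ := hn
      exact ⟨σ y, hNσ y hy, rfl⟩
  -- an element of `H` outside `N`
  have hNtop : N ≠ ⊤ := by
    intro h
    rw [h, Subgroup.index_top] at hN2
    omega
  obtain ⟨x, hx⟩ : ∃ x, x ∉ N := by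
    by_contra hcon
    push Not at hcon
    exact hNtop (Subgroup.eq_top_iff' N |>.2 hcon)
  have hxH := (hHmem _).1 x.2
  refine C.exists_index_two (h1 := (x : G)) ⟨hxH.1, hxH.2⟩ ?_
  rw [hmemN _ x.2]
  exact hx

end Cfsg.Agent.Lib.Helper6_ZassCycC
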