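import Mathlib
import Cfsg.Prelude.Def_LieExceptional
import Cfsg.Agent.Lib.Helper6_Zassenhaus
import Cfsg.Agent.S0738
import Cfsg.Agent.S0741

/-!
# The degree of a Zassenhaus group is `p ^ k + 1`, from Feit's inequality

`isPrimePow_of_feit`: given Feit's dichotomy (the statement `S0885`) for the Zassenhaus group
`G` on `Ω`, the number `|Ω| - 1` is a prime power.  Ingredients: the Frobenius kernel of a
point stabiliser (`Helper6_Zassenhaus.exists_K`), `S0741` (even two-point stabiliser) and
`S0738` (`|Ω| - 2 ≤ 2 e` forces an elementary abelian kernel).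
-/

set_option autoImplicit false

namespace Cfsg.Agent.Lib.Helper6_ZassPrimePow

open Cfsg MulAction Cfsg.Agent.Lib.Helper6_Zassenhaus

/-- Feit's dichotomy, as a hypothesis (this is the statement `S0885` for `G`, `Ω`). -/
def FeitStatement (G Ω : Type*) [Group G] [MulAction G Ω] [Fintype Ω] : Prop :=
  ∀ {a b : Ω} (_ : a ≠ b) (h e : ℕ) (_ : Fintype.card Ω = h + 1)
    (_ : Nat.card ↥(MulAction.stabilizer G a ⊓ MulAction.stabilizer G b : Subgroup G) = e)
    (_ : Odd e) (H : Subgroup G) (_ : H ≤ MulAction.stabilizer G a)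
    (_ : Nat.card H + 1 = Fintype.card Ω)
    (_ : ∀ u ∈ H, u ≠ 1 → ∀ c : Ω, u • c = c → c = a),
    h - 1 ≤ 2 * e ∨ (IsPGroup 2 H ∧ (∃ u v : H, u * v ≠ v * u) ∧
      (commutator H).index ≤ 4 * e ^ 2 + 1)

/-- The Frobenius kernel of a point stabiliser of a Zassenhaus group, with all the facts the
statements `S0738` and `S0885` ask for. -/
theorem exists_kernel {G Ω : Type*} [Group G] [Finite G] [MulAction G Ω] [Fintype Ω]
    (hZ : Cfsg.IsZassenhausGroup G Ω) (a : Ω) :
    ∃ K : Subgroup G, K ≤ stabilizer G a ∧ (K.subgroupOf (stabilizer G a)).Normal ∧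
      (∀ y z : Ω, y ≠ a → z ≠ a → ∃! u : K, (u : G) • y = z) ∧
      Nat.card K + 1 = Fintype.card Ω ∧
      (∀ u ∈ K, u ≠ 1 → ∀ c : Ω, u • c = c → c = a) := by
  classical
  have hz := zhyp_of_isZassenhausGroup hZ
  obtain ⟨K, hK, hKt⟩ := exists_K hz a
  have hmem : ∀ g : G, g ∈ K ↔ g • a = a ∧ (g = 1 ∨ ∀ c, c ≠ a → g • c ≠ c) := by
    intro g
    rw [← SetLike.mem_coe, hK]
    rfl
  have hfix : ∀ u ∈ K, u ≠ 1 → ∀ c : Ω, u • c = c → c = a := by
    intro u hu hu1 c hc
    by_contra hca
    rcases ((hmem u).1 hu).2 with h | h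
    · exact hu1 h
    · exact h c hca hc
  have hle : K ≤ stabilizer G a := fun g hg => mem_stabilizer_iff.2 ((hmem g).1 hg).1
  have hreg : ∀ y z : Ω, y ≠ a → z ≠ a → ∃! u : K, (u : G) • y = z := by
    intro y z hy hz
    obtain ⟨k, hk, hkyz⟩ := hKt y z hy hz
    refine ⟨⟨k, hk⟩, hkyz, ?_⟩
    rintro ⟨u, hu⟩ huyz
    simp only at huyz
    apply Subtype.ext
    simp only
    by_contra hne
    have hmem' : k⁻¹ * u ∈ K := K.mul_mem (K.inv_mem hk) hu
    have hne1 : k⁻¹ * u ≠ 1 := by
      intro h
      apply hne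
      have : u = k * (k⁻¹ * u) := by group
      rw [this, h, mul_one]
    have hfixy : (k⁻¹ * u) • y = y := by
      rw [mul_smul, huyz, ← hkyz, inv_smul_smul]
    exact hy (hfix _ hmem' hne1 y hfixy)
  refine ⟨K, hle, ?_, hreg, ?_, hfix⟩
  · -- normality in the stabiliser
    constructor
    intro n hn g
    rw [Subgroup.mem_subgroupOf] at hn ⊢
    have hg : (g : G) • a = a := mem_stabilizer_iff.1 g.2
    have hginv : (g : G)⁻¹ • a = a := by
      rw [inv_smul_eq_iff, hg]
    obtain ⟨hna, hn'⟩ := (hmem _).1 hn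
    simp only [Subgroup.coe_mul, Subgroup.coe_inv]
    rw [hmem]
    refine ⟨by rw [mul_smul, mul_smul, hginv, hna, hg], ?_⟩
    rcases hn' with h1 | h
    · left
      rw [h1]; group
    · right
      intro c hca hc
      apply h ((g : G)⁻¹ • c)
      · intro hh
        apply hca
        rw [inv_smul_eq_iff, hg] at hh
        exact hh
      · rw [mul_smul, mul_smul] at hc
        have h' := congrArg (fun x => (g : G)⁻¹ • x) hc
        simp only [inv_smul_smul] at h'
        exact h'
  · -- cardinality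
    obtain ⟨b, hba⟩ : ∃ b : Ω, b ≠ a := by
      obtain ⟨g, _, a', b', hab', _, _⟩ := hz.fix
      by_cases h : a' = a
      · exact ⟨b', fun hb => hab' (h.trans hb.symm)⟩
      · exact ⟨a', h⟩
    have hbij : Function.Bijective (fun u : K => (⟨(u : G) • b, by
        intro h
        have hu := (hmem _).1 u.2
        apply hba
        have : (u : G)⁻¹ • a = a := by rw [inv_smul_eq_iff, hu.1]
        rw [← this, ← h, inv_smul_smul]⟩ : {y : Ω // y ≠ a})) := by
      constructor
      · intro u v huv
        have huv' : (u : G) • b = (v : G) • b := congrArg Subtype.val huv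
        obtain ⟨w, _, hw⟩ := hreg b ((v : G) • b) hba (by
          intro h
          have hv := (hmem _).1 v.2
          apply hba
          have : (v : G)⁻¹ • a = a := by rw [inv_smul_eq_iff, hv.1]
          rw [← this, ← h, inv_smul_smul])
        rw [hw u huv', hw v rfl]
      · rintro ⟨y, hy⟩
        obtain ⟨u, hu, _⟩ := hreg b y hba hy
        exact ⟨u, Subtype.ext hu⟩
    have hcard : Nat.card K = Nat.card {y : Ω // y ≠ a} := Nat.card_congr (Equiv.ofBijective _ hbij)
    rw [hcard, Nat.card_eq_fintype_card, Fintype.card_subtype_compl, Fintype.card_subtype_eq]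
    have : 0 < Fintype.card Ω := Fintype.card_pos_iff.2 ⟨a⟩
    omega

/-- `|Ω| = p ^ f + 1` gives that `|Ω| - 1` is a prime power, as `|Ω| ≥ 3`. -/
theorem isPrimePow_of_eq {n p f : ℕ} (hp : p.Prime) (hn : 3 ≤ n) (h : n = p ^ f + 1) :
    IsPrimePow (n - 1) := by
  have hf : f ≠ 0 := by
    rintro rfl
    simp at h
    omega
  have : n - 1 = p ^ f := by omega
  rw [this]
  exact hp.isPrimePow.pow hf

/-- **Feit's theorem on the degree** from Feit's inequality: the degree of a finite Zassenhaus
group is `p ^ k + 1`. -/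
theorem isPrimePow_of_feit {G Ω : Type*} [Group G] [Finite G] [MulAction G Ω] [Fintype Ω]
    (hZ : Cfsg.IsZassenhausGroup G Ω) (hFeit : FeitStatement G Ω) :
    IsPrimePow (Fintype.card Ω - 1) := by
  classical
  have hz := zhyp_of_isZassenhausGroup hZ
  obtain ⟨g, _, a, b, hab, _, _⟩ := hz.fix
  obtain ⟨c, hca, hcb⟩ := exists_third hz a b hab
  have h3 : 3 ≤ Fintype.card Ω := by
    have hinj : Function.Injective (![a, b, c] : Fin 3 → Ω) := by
      intro i j hij
      fin_cases i <;> fin_cases j <;> simp_all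
    simpa using Fintype.card_le_of_injective _ hinj
  obtain ⟨K, hKle, hKn, hreg, hKcard, hKfix⟩ := exists_kernel hZ a
  -- the conclusion once the inequality is known
  have hfin : Fintype.card Ω - 2 ≤
      2 * Nat.card ↥(stabilizer G a ⊓ stabilizer G b : Subgroup G) →
      IsPrimePow (Fintype.card Ω - 1) := by
    intro hd
    obtain ⟨_, p, f, hp, _, hpf⟩ := Cfsg.Agent.S0738.result hZ hab hd K hKle hKn hreg
    exact isPrimePow_of_eq hp h3 hpf
  rcases Nat.even_or_odd (Nat.card ↥(stabilizer G a ⊓ stabilizer G b : Subgroup G)) with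
    heven | hodd
  · exact hfin (Cfsg.Agent.S0741.result hZ hab heven)
  · have hh : Fintype.card Ω = (Fintype.card Ω - 1) + 1 := by omega
    rcases hFeit hab (Fintype.card Ω - 1) _ hh rfl hodd K hKle hKcard hKfix with h | ⟨h2, _, _⟩
    · apply hfin
      omega
    · obtain ⟨n, hn⟩ := IsPGroup.iff_card.1 h2
      have hn0 : n ≠ 0 := by
        rintro rfl
        rw [pow_zero] at hn
        omega
      have : Fintype.card Ω - 1 = 2 ^ n := by omega
      rw [this]
      exact Nat.prime_two.isPrimePow.pow hn0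

end Cfsg.Agent.Lib.Helper6_ZassPrimePow
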