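import Mathlib
import Cfsg.Prelude.Def_Characters
import Cfsg.Prelude.Def_Blocks
import Cfsg.Agent.Lib.Helper62_A7Defs
import Cfsg.Agent.Lib.Helper80_CharBasic
import Cfsg.Agent.Lib.Helper17_Sylow
import Cfsg.Agent.Lib.Helper77_BlockBasics

/-!
# S0984 package ENDGRP (architect helper62): the stabiliser of the fixed vector has index 7
-/

set_option autoImplicit false
open Cfsg Cfsg.Agent.Lib.Helper80_CharBasic Cfsg.Agent.Lib.Helper62_A7Defs

namespace Cfsg.Agent.Lib.Helper70_A7_ENDGRP

/-- the stabiliser of a vector -/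
def stabV {G V : Type*} [Group G] [AddCommGroup V] [Module ℂ V]
    (ρ : Representation ℂ G V) (v : V) : Subgroup G where
  carrier := {g | ρ g v = v}
  mul_mem' := by
    intro a b ha hb
    show ρ (a * b) v = v
    rw [map_mul, Module.End.mul_apply, hb, ha]
  one_mem' := by
    show ρ 1 v = v
    rw [map_one, Module.End.one_apply]
  inv_mem' := by
    intro a ha
    show ρ a⁻¹ v = v
    have h1 : ρ a⁻¹ (ρ a v) = v := by
      rw [← Module.End.mul_apply, ← map_mul, inv_mul_cancel, map_one, Module.End.one_apply]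
    rw [ha] at h1
    exact h1

theorem mem_stabV {G V : Type*} [Group G] [AddCommGroup V] [Module ℂ V]
    (ρ : Representation ℂ G V) (v : V) (g : G) : g ∈ stabV ρ v ↔ ρ g v = v := Iff.rfl

/-- an irreducible representation of dimension `≥ 2` has no nonzero fixed vector -/
theorem stabV_ne_top {G V : Type*} [Group G] [AddCommGroup V] [Module ℂ V]
    [FiniteDimensional ℂ V] (ρ : Representation ℂ G V) (hirr : ρ.IsIrreducible)
    (hdim : 2 ≤ Module.finrank ℂ V) (v : V) (hv : v ≠ 0) : stabV ρ v ≠ ⊤ := by
  intro htop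
  have hfix : ∀ g : G, ρ g v = v := fun g => by
    have : g ∈ stabV ρ v := by rw [htop]; trivial
    exact this
  let σ : Subrepresentation ρ :=
    { toSubmodule := Submodule.span ℂ {v}
      apply_mem_toSubmodule := by
        intro g w hw
        obtain ⟨c, rfl⟩ := Submodule.mem_span_singleton.mp hw
        rw [map_smul, hfix g]
        exact Submodule.smul_mem _ _ (Submodule.mem_span_singleton_self v) }
  rcases hirr.eq_bot_or_eq_top σ with h | h
  · have h1 : σ.toSubmodule = (⊥ : Subrepresentation ρ).toSubmodule := by rw [h]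
    have h2 : v ∈ σ.toSubmodule := Submodule.mem_span_singleton_self v
    rw [h1] at h2
    exact hv ((Submodule.mem_bot ℂ).mp h2)
  · have h1 : σ.toSubmodule = (⊤ : Subrepresentation ρ).toSubmodule := by rw [h]
    have h2 : Submodule.span ℂ {v} = ⊤ := h1
    have h3 := finrank_span_singleton (K := ℂ) hv
    rw [h2, finrank_top] at h3
    omega

theorem index7 {G V : Type*} [Group G] [Finite G] [IsSimpleGroup G] [AddCommGroup V] [Module ℂ V]
    [FiniteDimensional ℂ V] [Fact (Nat.Prime 3)] [Fact (Nat.Prime 2)]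
    (hG : Nat.card G = 2520) (ρ : Representation ℂ G V) (hirr : ρ.IsIrreducible)
    (hdim : Module.finrank ℂ V = 6) (v : V) (hv : v ≠ 0)
    (P : Sylow 3 G) (hN : Nat.card (Subgroup.normalizer ((P : Subgroup G) : Set G)) = 36)
    (hB : ∀ b ∈ Subgroup.normalizer ((P : Subgroup G) : Set G), ρ b v = v)
    (T : Sylow 2 G) (hT : ∀ t ∈ (T : Subgroup G), ρ t v = v) :
    ∃ H : Subgroup G, H.index = 7 := by
  classical
  refine ⟨stabV ρ v, ?_⟩
  have hBH : Subgroup.normalizer ((P : Subgroup G) : Set G) ≤ stabV ρ v := fun b hb => hB b hb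
  have hTH : (T : Subgroup G) ≤ stabV ρ v := fun t ht => hT t ht
  have hcT : Nat.card (T : Subgroup G) = 2 ^ 3 :=
    Cfsg.Agent.Lib.Helper17_Sylow.card_sylow_eq_pow (k := 3) (m := 315) (by rw [hG]; norm_num) (by norm_num) T
  have h36 : 36 ∣ Nat.card (stabV ρ v) := by
    rw [← hN]; exact Subgroup.card_dvd_of_le hBH
  have h8 : 8 ∣ Nat.card (stabV ρ v) := by
    have := Subgroup.card_dvd_of_le hTH
    rw [hcT] at this
    exact this
  have h72 : 72 ∣ Nat.card (stabV ρ v) := by omega
  have hmul := Subgroup.card_mul_index (stabV ρ v)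
  rw [hG] at hmul
  obtain ⟨k, hk⟩ := h72
  have hk35 : k * (stabV ρ v).index = 35 := by
    rw [hk] at hmul
    have : 72 * (k * (stabV ρ v).index) = 72 * 35 := by rw [← mul_assoc, hmul]
    exact Nat.eq_of_mul_eq_mul_left (by norm_num) this
  have hidx : (stabV ρ v).index ∣ 35 := ⟨k, by rw [← hk35, mul_comm]⟩
  have hmem : (stabV ρ v).index ∈ Nat.divisors 35 := Nat.mem_divisors.mpr ⟨hidx, by norm_num⟩
  have hdiv : Nat.divisors 35 = {1, 5, 7, 35} := by decide
  rw [hdiv] at hmem
  simp only [Finset.mem_insert, Finset.mem_singleton] at hmem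
  have hne : stabV ρ v ≠ ⊤ := stabV_ne_top ρ hirr (by omega) v hv
  have hnc : ¬ IsMulCommutative G :=
    Cfsg.Agent.Lib.Helper17_Sylow.not_isMulCommutative_of_not_prime (by rw [hG]; norm_num)
  rcases hmem with h | h | h | h
  · exact absurd (Subgroup.index_eq_one.mp h) hne
  · exfalso
    have := Cfsg.Agent.Lib.Helper17_Sylow.two_mul_card_dvd_factorial_index hnc (stabV ρ v) hne
    rw [h, hG] at this
    revert this
    decide
  · exact h
  · exfalso
    -- `|H| = 72`, `B = N(P)` has index 2 in `H`
    have hk1 : k = 1 := by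
      rw [h] at hk35
      omega
    have hcH : Nat.card (stabV ρ v) = 72 := by rw [hk, hk1]
    have hidx2 : ((Subgroup.normalizer ((P : Subgroup G) : Set G)).subgroupOf (stabV ρ v)).index
        = 2 := by
      have h1 := Subgroup.card_mul_index
        ((Subgroup.normalizer ((P : Subgroup G) : Set G)).subgroupOf (stabV ρ v))
      have e : Nat.card ↥((Subgroup.normalizer ((P : Subgroup G) : Set G)).subgroupOf (stabV ρ v))
          = Nat.card ↥(Subgroup.normalizer ((P : Subgroup G) : Set G)) :=
        Nat.card_congr (Subgroup.subgroupOfEquivOfLe hBH).toEquiv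
      rw [e, hN, hcH] at h1
      omega
    have hnorm : ((Subgroup.normalizer ((P : Subgroup G) : Set G)).subgroupOf
        (stabV ρ v)).Normal := Subgroup.normal_of_index_eq_two hidx2
    -- conjugation by `h ∈ H` preserves `N(P)`
    have hconjN : ∀ h ∈ stabV ρ v, ∀ b ∈ Subgroup.normalizer ((P : Subgroup G) : Set G),
        h * b * h⁻¹ ∈ Subgroup.normalizer ((P : Subgroup G) : Set G) := by
      intro h hh b hb
      have hbm : (⟨b, hBH hb⟩ : stabV ρ v) ∈
          (Subgroup.normalizer ((P : Subgroup G) : Set G)).subgroupOf (stabV ρ v) := by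
        rw [Subgroup.mem_subgroupOf]; exact hb
      have := hnorm.conj_mem _ hbm ⟨h, hh⟩
      rw [Subgroup.mem_subgroupOf] at this
      simpa using this
    -- conjugation by `h ∈ H` preserves `P`
    have hconjP : ∀ h ∈ stabV ρ v, ∀ x ∈ (P : Subgroup G), h * x * h⁻¹ ∈ (P : Subgroup G) := by
      intro h hh x hx
      have hK : IsPGroup 3 ((P : Subgroup G).map (MulAut.conj h).toMonoidHom) :=
        P.isPGroup'.map _
      have hKN : (P : Subgroup G).map (MulAut.conj h).toMonoidHom ≤
          Subgroup.normalizer ((P : Subgroup G) : Set G) := by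
        rintro _ ⟨y, hy, rfl⟩
        have := hconjN h hh y (Subgroup.le_normalizer hy)
        simpa using this
      have hle := Cfsg.Agent.Lib.Helper17_Sylow.le_sylow_of_le_normalizer P _ hK hKN
      have : (MulAut.conj h).toMonoidHom x ∈ (P : Subgroup G).map (MulAut.conj h).toMonoidHom :=
        Subgroup.mem_map_of_mem _ hx
      have := hle this
      simpa using this
    have hHN : stabV ρ v ≤ Subgroup.normalizer ((P : Subgroup G) : Set G) := by
      intro h hh
      rw [Subgroup.mem_set_normalizer_iff]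
      intro x
      constructor
      · intro hx; exact hconjP h hh x hx
      · intro hx
        have h3 := hconjP h⁻¹ (inv_mem hh) _ hx
        have h4 : h⁻¹ * (h * x * h⁻¹) * h⁻¹⁻¹ = x := by group
        rw [h4] at h3
        exact h3
    have := Subgroup.card_le_of_le hHN
    rw [hcH, hN] at this
    omega

end Cfsg.Agent.Lib.Helper70_A7_ENDGRP
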