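/-
Helper70_Asym: the group-theoretic core of the Bender-Glauberman "asymmetry" lemma
(B-G 13.8 in the book numbering used by the team, `tau1_mmaxI_asymmetry`).
Pure finite group theory: Hall subgroups of a solvable group (Helper1_Hall) and a minimal normal subgroup.
-/
import Mathlib
import Cfsg.Agent.Lib.Helper1_Hall
import Cfsg.Agent.Lib.Helper48_SPE

set_option autoImplicit false

namespace Cfsg.Agent.Lib.Helper70_Asym

open Subgroup
open scoped Pointwise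
open Cfsg.Agent.Lib.Helper48_SPE

variable {C : Type*} [Group C] [Finite C]

/-- Step 1: if `X` contains every `π(X)`-element of `A` and every `g` normalizing a nontrivial
subgroup of `X` lies in `A`, then for every prime `s ∣ |X|` some Sylow `s`-subgroup of `C` lies in `X`. -/
theorem exists_sylow_le (A X : Subgroup C) (hXA : X ≤ A)
    (hXh : ∀ y ∈ A, (∀ q, q.Prime → q ∣ orderOf y → q ∣ Nat.card X) → y ∈ X)
    (hUA : ∀ g : C, ∀ T : Subgroup C, T ≤ X → T ≠ ⊥ → (∀ t ∈ T, g * t * g⁻¹ ∈ A) → g ∈ A)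
    (s : ℕ) [Fact s.Prime] (hs : s ∣ Nat.card X) : ∃ S : Sylow s C, (S : Subgroup C) ≤ X := by
  obtain ⟨D, hD⟩ := exists_isSylowIn s X
  have hD1 : D ≠ ⊥ := hD.ne_bot hs
  obtain ⟨S, hDS⟩ := hD.isPGroup.exists_le_sylow
  refine ⟨S, ?_⟩
  by_contra hSX
  -- D ≠ S, so D.subgroupOf S < ⊤
  have hlt : D.subgroupOf (S : Subgroup C) < ⊤ := by
    rw [lt_top_iff_ne_top]
    intro h
    apply hSX
    rw [Subgroup.subgroupOf_eq_top] at h
    exact (le_antisymm h hDS) ▸ hD.le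
  have : Group.IsNilpotent (S : Subgroup C) := S.isPGroup'.isNilpotent
  have hnc := Group.normalizerCondition_of_isNilpotent (G := (S : Subgroup C)) _ hlt
  obtain ⟨y, hyN, hyD⟩ := SetLike.exists_of_lt hnc
  have hyD' : (y : C) ∉ D := by
    intro h; exact hyD (by rwa [Subgroup.mem_subgroupOf])
  -- y normalizes D
  have hnorm : ∀ t ∈ D, (y : C) * t * (y : C)⁻¹ ∈ D := by
    intro t ht
    have h1 := (Subgroup.mem_normalizer_iff.mp hyN ⟨t, hDS ht⟩).mp (by rwa [Subgroup.mem_subgroupOf])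
    rw [Subgroup.mem_subgroupOf] at h1
    simpa using h1
  have hyA : (y : C) ∈ A := hUA y D hD.le hD1 (fun t ht => hXA (hD.le (hnorm t ht)))
  have hyX : (y : C) ∈ X := by
    apply hXh _ hyA
    intro q hq hqy
    obtain ⟨k, hk⟩ := S.isPGroup' y
    have hk' : (y : C) ^ s ^ k = 1 := by
      have := congrArg Subtype.val hk
      simpa using this
    have h2 : orderOf (y : C) ∣ s ^ k := orderOf_dvd_of_pow_eq_one hk'
    have h3 : q ∣ s ^ k := hqy.trans h2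
    have h4 : q = s := (Nat.prime_dvd_prime_iff_eq hq (Fact.out : s.Prime)).mp (hq.dvd_of_dvd_pow h3)
    rw [h4]; exact hs
  -- D ⊔ zpowers y is a bigger s-subgroup of X
  have hle : D ⊔ Subgroup.zpowers (y : C) ≤ (S : Subgroup C) :=
    sup_le hDS (by rw [Subgroup.zpowers_le]; exact y.2)
  have hp : IsPGroup s ↥(D ⊔ Subgroup.zpowers (y : C)) := S.isPGroup'.to_le hle
  have heq := hD.2.2 _ hp le_sup_left (sup_le hD.le (by rw [Subgroup.zpowers_le]; exact hyX))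
  apply hyD'
  rw [← heq]
  exact (le_sup_right : Subgroup.zpowers (y : C) ≤ _) (Subgroup.mem_zpowers _)


theorem coprime_index_of_sylow_le (X : Subgroup C)
    (h : ∀ (s : ℕ) [Fact s.Prime], s ∣ Nat.card X → ∃ S : Sylow s C, (S : Subgroup C) ≤ X) :
    (Nat.card X).Coprime X.index := by
  apply Nat.coprime_of_dvd
  intro s hs hsX hsI
  have : Fact s.Prime := ⟨hs⟩
  obtain ⟨S, hSX⟩ := h s hsX
  have h1 : Nat.card (S : Subgroup C) ∣ Nat.card X := Subgroup.card_dvd_of_le hSX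
  rw [Sylow.card_eq_multiplicity] at h1
  have h2 : s ^ ((Nat.card C).factorization s + 1) ∣ Nat.card C := by
    have h3 := Nat.mul_dvd_mul h1 hsI
    rw [Subgroup.card_mul_index X] at h3
    rw [pow_succ]
    exact h3
  exact Nat.pow_succ_factorization_not_dvd Nat.card_pos.ne' hs h2

omit [Finite C] in
theorem mem_conj_smul' {g x : C} {K : Subgroup C} :
    x ∈ MulAut.conj g • K ↔ g⁻¹ * x * g ∈ K := by
  rw [Subgroup.mem_pointwise_smul_iff_inv_smul_mem]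
  simp [MulAut.smul_def]

/-- The asymmetric key step. -/
theorem key [Group.IsSolvable C] (A B X Y : Subgroup C) (hXA : X ≤ A)
    (hXsyl : ∀ (s : ℕ) [Fact s.Prime], s ∣ Nat.card X → ∃ S : Sylow s C, (S : Subgroup C) ≤ X)
    (hYn : B ≤ normalizer (Y : Set C)) (hYcop : (Nat.card Y).Coprime Y.index)
    (hY1 : Y ≠ ⊥) (hXB : X ⊓ B = ⊥) (hYA : Y ⊓ A = ⊥)
    (hA : ∀ c ∈ A, ∃ x ∈ X, ∃ w ∈ A ⊓ B, c = x * w)
    (hUA : ∀ g : C, ∀ T : Subgroup C, T ≤ X → T ≠ ⊥ → (∀ t ∈ T, g * t * g⁻¹ ∈ A) → g ∈ A)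
    (hUB : ∀ g : C, ∀ T : Subgroup C, T ≤ Y → T ≠ ⊥ → (∀ t ∈ T, g * t * g⁻¹ ∈ B) → g ∈ B)
    (J T0 : Subgroup C) (hJ : Nat.card J = Nat.card X * Nat.card Y) (hXJ : X ≤ J)
    (p : ℕ) [Fact p.Prime] (hT0p : IsPGroup p T0) (hT01 : T0 ≠ ⊥) (hT0J : T0 ≤ J)
    (hJN : J ≤ normalizer (T0 : Set C)) (hpX : p ∣ Nat.card X) : False := by
  obtain ⟨S, hSX⟩ := hXsyl p hpX
  have hSJ : IsSylowIn p (S : Subgroup C) J := (isSylowIn_top S).mono (hSX.trans hXJ) le_top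
  obtain ⟨R, hR, hT0R⟩ := exists_isSylowIn_ge hT0p hT0J
  obtain ⟨c, hcJ, hc⟩ := hR.exists_conj hSJ
  have hT0S : T0 ≤ (S : Subgroup C) := by
    intro t ht
    rw [← hc, mem_conj_smul']
    apply hT0R
    have hcN : c⁻¹ ∈ normalizer (T0 : Set C) := inv_mem (hJN hcJ)
    have := (Subgroup.mem_normalizer_iff.mp hcN t).mp ht
    simpa using this
  have hT0X : T0 ≤ X := hT0S.trans hSX
  have hJA : J ≤ A := by
    intro j hj
    apply hUA j T0 hT0X hT01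
    intro t ht
    exact hXA (hT0X ((Subgroup.mem_normalizer_iff.mp (hJN hj) t).mp ht))
  -- W := J ⊓ (A ⊓ B) has order |Y|
  set W : Subgroup C := J ⊓ (A ⊓ B) with hW
  have hXW : ∀ x ∈ X, x ∈ W → x = 1 := by
    intro x hx hxW
    have : x ∈ X ⊓ B := ⟨hx, hxW.2.2⟩
    rw [hXB] at this
    exact Subgroup.mem_bot.mp this
  have hcardW : Nat.card W = Nat.card Y := by
    let f : ↥X × ↥W → ↥J := fun xw => ⟨(xw.1 : C) * (xw.2 : C), J.mul_mem (hXJ xw.1.2) xw.2.2.1⟩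
    have hf : Function.Bijective f := by
      constructor
      · rintro ⟨⟨x, hx⟩, ⟨w, hw⟩⟩ ⟨⟨x', hx'⟩, ⟨w', hw'⟩⟩ h
        have h' : x * w = x' * w' := congrArg Subtype.val h
        have h1 : x'⁻¹ * x = w' * w⁻¹ := by
          have : x'⁻¹ * (x * w) * w⁻¹ = x'⁻¹ * (x' * w') * w⁻¹ := by rw [h']
          simpa [mul_assoc] using this
        have h2 : x'⁻¹ * x = 1 :=
          hXW _ (X.mul_mem (X.inv_mem hx') hx) (by rw [h1]; exact W.mul_mem hw' (W.inv_mem hw))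
        have hxx : x = x' := by
          have := congrArg (fun z => x' * z) h2
          simpa using this
        subst hxx
        have hww : w = w' := by simpa using h'
        subst hww
        rfl
      · rintro ⟨j, hj⟩
        obtain ⟨x, hx, w, hw, hjw⟩ := hA j (hJA hj)
        have hwJ : w ∈ J := by
          have : w = x⁻¹ * j := by rw [hjw]; group
          rw [this]
          exact J.mul_mem (J.inv_mem (hXJ hx)) hj
        exact ⟨⟨⟨x, hx⟩, ⟨w, hwJ, hw⟩⟩, Subtype.ext hjw.symm⟩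
    have h1 : Nat.card (↥X × ↥W) = Nat.card ↥J := Nat.card_congr (Equiv.ofBijective f hf)
    rw [Nat.card_prod, hJ] at h1
    exact Nat.eq_of_mul_eq_mul_left Nat.card_pos h1
  obtain ⟨g, hg⟩ := Cfsg.Agent.Lib.Helper1_Hall.hall_conj (Nat.card Y) Y.index
    (Subgroup.card_mul_index Y).symm hYcop Y W rfl hcardW
  have hgB : g ∈ B := by
    apply hUB g Y le_rfl hY1
    intro t ht
    have : g * t * g⁻¹ ∈ MulAut.conj g • Y := by
      rw [mem_conj_smul']; simpa [mul_assoc] using ht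
    rw [hg] at this
    exact this.2.2
  have hgY : MulAut.conj g • Y = Y := by
    have hgN := hYn hgB
    ext x
    rw [mem_conj_smul']
    have hgN' : g⁻¹ ∈ normalizer (Y : Set C) := inv_mem hgN
    have := Subgroup.mem_normalizer_iff.mp hgN' x
    simpa using this.symm
  have hYW : Y = W := by rw [← hgY, hg]
  apply hY1
  rw [eq_bot_iff, ← hYA]
  intro y hy
  refine ⟨hy, ?_⟩
  have : y ∈ W := hYW ▸ hy
  exact this.2.1


omit [Finite C] in
theorem le_normalizer_conj_smul {g : C} {J T : Subgroup C} (h : J ≤ normalizer (T : Set C)) :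
    MulAut.conj g • J ≤ normalizer ((MulAut.conj g • T : Subgroup C) : Set C) := by
  intro j hj
  rw [mem_conj_smul'] at hj
  have hN := h hj
  rw [Subgroup.mem_normalizer_iff]
  intro x
  rw [mem_conj_smul', mem_conj_smul']
  have := Subgroup.mem_normalizer_iff.mp hN (g⁻¹ * x * g)
  rw [this]
  have e : g⁻¹ * j * g * (g⁻¹ * x * g) * (g⁻¹ * j * g)⁻¹ = g⁻¹ * (j * x * j⁻¹) * g := by group
  rw [e]

/-- **Asymmetry core**, inside a finite solvable group `C`. -/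
theorem asym_aux [Group.IsSolvable C] (A B X Y : Subgroup C)
    (hXA : X ≤ A) (hXn : A ≤ normalizer (X : Set C))
    (hXh : ∀ y ∈ A, (∀ q, q.Prime → q ∣ orderOf y → q ∣ Nat.card X) → y ∈ X)
    (hYB : Y ≤ B) (hYn : B ≤ normalizer (Y : Set C))
    (hYh : ∀ y ∈ B, (∀ q, q.Prime → q ∣ orderOf y → q ∣ Nat.card Y) → y ∈ Y)
    (hX1 : X ≠ ⊥) (hY1 : Y ≠ ⊥) (hXY : (Nat.card X).Coprime (Nat.card Y))
    (hXB : X ⊓ B = ⊥) (hYA : Y ⊓ A = ⊥)
    (hA : ∀ c ∈ A, ∃ x ∈ X, ∃ w ∈ A ⊓ B, c = x * w)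
    (hB : ∀ c ∈ B, ∃ y ∈ Y, ∃ w ∈ A ⊓ B, c = y * w)
    (hUA : ∀ g : C, ∀ T : Subgroup C, T ≤ X → T ≠ ⊥ → (∀ t ∈ T, g * t * g⁻¹ ∈ A) → g ∈ A)
    (hUB : ∀ g : C, ∀ T : Subgroup C, T ≤ Y → T ≠ ⊥ → (∀ t ∈ T, g * t * g⁻¹ ∈ B) → g ∈ B) :
    False := by
  have hXs : ∀ (s : ℕ) [Fact s.Prime], s ∣ Nat.card X → ∃ S : Sylow s C, (S : Subgroup C) ≤ X :=
    fun s _ hs => exists_sylow_le A X hXA hXh hUA s hs
  have hYs : ∀ (s : ℕ) [Fact s.Prime], s ∣ Nat.card Y → ∃ S : Sylow s C, (S : Subgroup C) ≤ Y :=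
    fun s _ hs => exists_sylow_le B Y hYB hYh hUB s hs
  have hXc := coprime_index_of_sylow_le X hXs
  have hYc := coprime_index_of_sylow_le Y hYs
  -- arithmetic
  have hYdvd : Nat.card Y ∣ X.index := by
    have h1 : Nat.card Y ∣ Nat.card X * X.index := by
      rw [Subgroup.card_mul_index]; exact Subgroup.card_subgroup_dvd_card Y
    exact hXY.symm.dvd_of_dvd_mul_left h1
  obtain ⟨n, hn⟩ := hYdvd
  have hmn : Nat.card C = Nat.card X * Nat.card Y * n := by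
    rw [← Subgroup.card_mul_index X, hn, mul_assoc]
  have hXn' : (Nat.card X).Coprime n := hXc.coprime_dvd_right ⟨Nat.card Y, by rw [hn, mul_comm]⟩
  have hYidx : Y.index = Nat.card X * n := by
    have h1 : Nat.card Y * Y.index = Nat.card Y * (Nat.card X * n) := by
      rw [Subgroup.card_mul_index, hmn]; ring
    exact Nat.eq_of_mul_eq_mul_left Nat.card_pos h1
  have hYn' : (Nat.card Y).Coprime n := hYc.coprime_dvd_right ⟨Nat.card X, by rw [hYidx, mul_comm]⟩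
  have hcop : (Nat.card X * Nat.card Y).Coprime n := Nat.Coprime.mul_left hXn' hYn'
  obtain ⟨J, hJcard, hXJ⟩ := Cfsg.Agent.Lib.Helper1_Hall.hall_dominance _ n hmn hcop X hXn'
  -- a normal p-subgroup of J
  have hJ1 : J ≠ ⊥ := fun h => hX1 (eq_bot_iff.mpr (h ▸ hXJ))
  have : Nontrivial ↥J := (Subgroup.nontrivial_iff_ne_bot J).mpr hJ1
  have hJsol : Group.IsSolvable ↥J := inferInstance
  obtain ⟨T', p, hT'n, hT'1, -, hp, hT'p⟩ :=
    Cfsg.Agent.Lib.Helper1_Hall.exists_normal_abelian_pSubgroup (Q := ↥J) hJsol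
  have : Fact p.Prime := ⟨hp⟩
  set T0 : Subgroup C := T'.map J.subtype with hT0
  have hT0p : IsPGroup p T0 := hT'p.map _
  have hT01 : T0 ≠ ⊥ := by
    intro h
    apply hT'1
    rw [hT0] at h
    exact (Subgroup.map_eq_bot_iff_of_injective T' (Subgroup.subtype_injective J)).mp h
  have hT0J : T0 ≤ J := Subgroup.map_subtype_le _
  have hJN : J ≤ normalizer (T0 : Set C) := by
    intro j hj
    rw [Subgroup.mem_normalizer_iff]
    intro x
    constructor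
    · rintro ⟨t, ht, rfl⟩
      exact ⟨(⟨j, hj⟩ : ↥J) * t * (⟨j, hj⟩ : ↥J)⁻¹, hT'n.conj_mem t ht _, by simp⟩
    · rintro ⟨t, ht, hte⟩
      refine ⟨(⟨j, hj⟩ : ↥J)⁻¹ * t * (⟨j, hj⟩ : ↥J), ?_, ?_⟩
      · have := hT'n.conj_mem t ht (⟨j, hj⟩ : ↥J)⁻¹
        simpa using this
      · have h1 : (J.subtype t : C) = j * x * j⁻¹ := hte
        simp only [Subgroup.subtype_apply, Subgroup.coe_mul, Subgroup.coe_inv] at h1 ⊢
        rw [h1]; group
  have hpd : p ∣ Nat.card X * Nat.card Y := by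
    obtain ⟨k, hk⟩ := hT0p.exists_card_eq
    have hk0 : k ≠ 0 := by
      intro h0
      rw [h0, pow_zero] at hk
      exact hT01 (Subgroup.card_eq_one.mp hk)
    have h1 : p ∣ Nat.card T0 := by rw [hk]; exact dvd_pow_self p hk0
    rw [← hJcard]
    exact h1.trans (Subgroup.card_dvd_of_le hT0J)
  rcases (Nat.Prime.dvd_mul hp).mp hpd with hpX | hpY
  · exact key A B X Y hXA hXs hYn hYc hY1 hXB hYA hA hUA hUB J T0 hJcard hXJ p hT0p hT01 hT0J
      hJN hpX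
  · have hmn' : Nat.card C = Nat.card X * Nat.card Y * n := hmn
    obtain ⟨J', hJ'card, hYJ'⟩ :=
      Cfsg.Agent.Lib.Helper1_Hall.hall_dominance _ n hmn hcop Y hYn'
    obtain ⟨g, hg⟩ := Cfsg.Agent.Lib.Helper1_Hall.hall_conj _ n hmn hcop J J' hJcard hJ'card
    have hA' : ∀ c ∈ B, ∃ y ∈ Y, ∃ w ∈ B ⊓ A, c = y * w := by
      intro c hc
      obtain ⟨y, hy, w, hw, h⟩ := hB c hc
      exact ⟨y, hy, w, ⟨hw.2, hw.1⟩, h⟩
    refine key B A Y X hYB hYs hXn hXc hX1 hYA hXB hA' hUB hUA J' (MulAut.conj g • T0)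
      (by rw [hJ'card, mul_comm]) hYJ' p (isPGroup_conj_smul hT0p g) ?_ ?_ ?_ hpY
    · intro h
      apply hT01
      rw [eq_bot_iff] at h ⊢
      intro t ht
      have : g * t * g⁻¹ ∈ MulAut.conj g • T0 := by
        rw [mem_conj_smul']; simpa [mul_assoc] using ht
      have h2 := Subgroup.mem_bot.mp (h this)
      rw [Subgroup.mem_bot]
      have : t = g⁻¹ * (g * t * g⁻¹) * g := by group
      rw [this, h2]; group
    · rw [← hg]
      exact Subgroup.pointwise_smul_le_pointwise_smul_iff.mpr hT0J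
    · rw [← hg]
      exact le_normalizer_conj_smul hJN


/-- **Asymmetry core** (the group-theoretic heart of B-G Lemma 13.8 / `tau1_mmaxI_asymmetry`),
in an ambient finite group `G` with a solvable subgroup `C` (in the application `C = C_G(P)`,
`X = M_α ∩ C`, `Y = H_α ∩ C`). -/
theorem asym_core {G : Type*} [Group G] [Finite G] (C M H X Y : Subgroup G)
    (hC : Group.IsSolvable ↥C)
    (hXC : X ≤ C ⊓ M) (hXn : C ⊓ M ≤ normalizer (X : Set G))
    (hXh : ∀ y ∈ C ⊓ M, (∀ q, q.Prime → q ∣ orderOf y → q ∣ Nat.card X) → y ∈ X)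
    (hYC : Y ≤ C ⊓ H) (hYn : C ⊓ H ≤ normalizer (Y : Set G))
    (hYh : ∀ y ∈ C ⊓ H, (∀ q, q.Prime → q ∣ orderOf y → q ∣ Nat.card Y) → y ∈ Y)
    (hX1 : X ≠ ⊥) (hY1 : Y ≠ ⊥) (hXY : (Nat.card X).Coprime (Nat.card Y))
    (hXH : X ⊓ H = ⊥) (hYM : Y ⊓ M = ⊥)
    (hM : ∀ c ∈ C ⊓ M, ∃ x ∈ X, ∃ w ∈ C ⊓ M ⊓ H, c = x * w)
    (hH : ∀ c ∈ C ⊓ H, ∃ y ∈ Y, ∃ w ∈ C ⊓ M ⊓ H, c = y * w)
    (hUM : ∀ g ∈ C, ∀ T : Subgroup G, T ≤ X → T ≠ ⊥ → (∀ t ∈ T, g * t * g⁻¹ ∈ M) → g ∈ M)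
    (hUH : ∀ g ∈ C, ∀ T : Subgroup G, T ≤ Y → T ≠ ⊥ → (∀ t ∈ T, g * t * g⁻¹ ∈ H) → g ∈ H) :
    False := by
  have := hC
  have hXleC : X ≤ C := hXC.trans inf_le_left
  have hYleC : Y ≤ C := hYC.trans inf_le_left
  have cardX : Nat.card ↥(X.subgroupOf C) = Nat.card X :=
    Nat.card_congr (Subgroup.subgroupOfEquivOfLe hXleC).toEquiv
  have cardY : Nat.card ↥(Y.subgroupOf C) = Nat.card Y :=
    Nat.card_congr (Subgroup.subgroupOfEquivOfLe hYleC).toEquiv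
  -- generic transport facts
  have tr_n : ∀ (K Z : Subgroup G), C ⊓ K ≤ normalizer (Z : Set G) →
      K.subgroupOf C ≤ normalizer ((Z.subgroupOf C : Subgroup ↥C) : Set ↥C) := by
    intro K Z h c hc
    have hc' : (c : G) ∈ normalizer (Z : Set G) := h ⟨c.2, Subgroup.mem_subgroupOf.mp hc⟩
    rw [Subgroup.mem_normalizer_iff]
    intro x
    rw [Subgroup.mem_subgroupOf, Subgroup.mem_subgroupOf]
    have := Subgroup.mem_normalizer_iff.mp hc' (x : G)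
    simpa using this
  have tr_h : ∀ (K Z : Subgroup G), Z ≤ C →
      (∀ y ∈ C ⊓ K, (∀ q, q.Prime → q ∣ orderOf y → q ∣ Nat.card Z) → y ∈ Z) →
      ∀ y ∈ K.subgroupOf C, (∀ q, q.Prime → q ∣ orderOf y → q ∣ Nat.card ↥(Z.subgroupOf C)) →
        y ∈ Z.subgroupOf C := by
    intro K Z hZC h y hy hq
    rw [Subgroup.mem_subgroupOf]
    apply h _ ⟨y.2, Subgroup.mem_subgroupOf.mp hy⟩
    intro q hqp hqy
    have e : Nat.card ↥(Z.subgroupOf C) = Nat.card Z :=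
      Nat.card_congr (Subgroup.subgroupOfEquivOfLe hZC).toEquiv
    rw [← e]
    apply hq q hqp
    rwa [Subgroup.orderOf_coe] at hqy
  have tr_1 : ∀ Z : Subgroup G, Z ≤ C → Z ≠ ⊥ → Z.subgroupOf C ≠ ⊥ := by
    intro Z hZC hZ1 h
    apply hZ1
    rw [Subgroup.subgroupOf_eq_bot] at h
    rw [eq_bot_iff]
    intro z hz
    have := h.le_bot (show z ∈ Z ⊓ C from ⟨hz, hZC hz⟩)
    exact this
  have tr_d : ∀ Z K : Subgroup G, Z ⊓ K = ⊥ → Z.subgroupOf C ⊓ K.subgroupOf C = ⊥ := by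
    intro Z K h
    rw [eq_bot_iff]
    intro c hc
    have h1 : (c : G) ∈ Z ⊓ K := ⟨Subgroup.mem_subgroupOf.mp hc.1, Subgroup.mem_subgroupOf.mp hc.2⟩
    rw [h, Subgroup.mem_bot] at h1
    rw [Subgroup.mem_bot]
    exact Subtype.ext h1
  have tr_f : ∀ (K Z : Subgroup G), Z ≤ C →
      (∀ c ∈ C ⊓ K, ∃ x ∈ Z, ∃ w ∈ C ⊓ M ⊓ H, c = x * w) →
      ∀ c ∈ K.subgroupOf C, ∃ x ∈ Z.subgroupOf C, ∃ w ∈ M.subgroupOf C ⊓ H.subgroupOf C,
        c = x * w := by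
    intro K Z hZC h c hc
    obtain ⟨x, hx, w, hw, hcw⟩ := h _ ⟨c.2, Subgroup.mem_subgroupOf.mp hc⟩
    refine ⟨⟨x, hZC hx⟩, by rwa [Subgroup.mem_subgroupOf], ⟨w, hw.1.1⟩, ?_, Subtype.ext hcw⟩
    exact ⟨show (⟨w, hw.1.1⟩ : ↥C) ∈ M.subgroupOf C from Subgroup.mem_subgroupOf.mpr hw.1.2,
      show (⟨w, hw.1.1⟩ : ↥C) ∈ H.subgroupOf C from Subgroup.mem_subgroupOf.mpr hw.2⟩
  have tr_u : ∀ (K Z : Subgroup G),
      (∀ g ∈ C, ∀ T : Subgroup G, T ≤ Z → T ≠ ⊥ → (∀ t ∈ T, g * t * g⁻¹ ∈ K) → g ∈ K) →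
      ∀ g : ↥C, ∀ T : Subgroup ↥C, T ≤ Z.subgroupOf C → T ≠ ⊥ →
        (∀ t ∈ T, g * t * g⁻¹ ∈ K.subgroupOf C) → g ∈ K.subgroupOf C := by
    intro K Z h g T hTZ hT1 hT
    rw [Subgroup.mem_subgroupOf]
    apply h _ g.2 (T.map C.subtype)
    · rintro _ ⟨t, ht, rfl⟩
      exact Subgroup.mem_subgroupOf.mp (hTZ ht)
    · intro h0
      exact hT1 ((Subgroup.map_eq_bot_iff_of_injective T (Subgroup.subtype_injective C)).mp h0)
    · rintro _ ⟨t, ht, rfl⟩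
      have := Subgroup.mem_subgroupOf.mp (hT t ht)
      simpa using this
  refine asym_aux (M.subgroupOf C) (H.subgroupOf C) (X.subgroupOf C) (Y.subgroupOf C)
    ?_ (tr_n M X hXn) (tr_h M X hXleC hXh) ?_ (tr_n H Y hYn) (tr_h H Y hYleC hYh)
    (tr_1 X hXleC hX1) (tr_1 Y hYleC hY1) (by rw [cardX, cardY]; exact hXY)
    (tr_d X H hXH) (tr_d Y M hYM) (tr_f M X hXleC hM) ?_
    (tr_u M X hUM) (tr_u H Y hUH)
  · intro x hx
    rw [Subgroup.mem_subgroupOf] at hx ⊢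
    exact (hXC hx).2
  · intro y hy
    rw [Subgroup.mem_subgroupOf] at hy ⊢
    exact (hYC hy).2
  · exact tr_f H Y hYleC hH

end Cfsg.Agent.Lib.Helper70_Asym
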