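import Mathlib
import Cfsg.Agent.S1453
import Cfsg.Agent.Lib.Helper62_EStarCent

/-!
helper70: the `p`-group step of BG 12.7 (b2) (= S1419, `F(M) = M_σ × A₀`): in a nonabelian Sylow `p`-subgroup
`S` (`p` odd) with a maximal elementary abelian subgroup `A` of order `p ^ 2`, no nontrivial power `x` of a
`p`-th power `r ^ p` (`r ∈ S`) has all elements of order `p` of `C_S(x)` inside `A`.
Uses `S1453` (rank at least three) and the shape of `S1412` (rank at most two).
-/

set_option autoImplicit false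

namespace Cfsg.Agent.Lib.Helper70_BG127b

open Subgroup Cfsg Cfsg.Agent.Lib.Helper62_EStarCent

/-- if `c = u r u⁻¹ r⁻¹` commutes with `u` and `r` and `u ^ n = 1` then `u` commutes with `r ^ n` -/
theorem commute_pow_of_central_commutator {G : Type*} [Group G] {u r : G} {n : ℕ}
    (hcu : Commute (u * r * u⁻¹ * r⁻¹) u) (hcr : Commute (u * r * u⁻¹ * r⁻¹) r) (hu : u ^ n = 1) :
    u * r ^ n = r ^ n * u := by
  set c := u * r * u⁻¹ * r⁻¹ with hc
  -- `u r u⁻¹ = c r`
  have h1 : u * r * u⁻¹ = c * r := by rw [hc]; group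
  -- `r u⁻¹ r⁻¹ = u⁻¹ c`
  have h2 : r * u⁻¹ * r⁻¹ = u⁻¹ * c := by rw [hc]; group
  -- `r u⁻ⁿ r⁻¹ = u⁻ⁿ cⁿ`
  have h3 : ∀ k : ℕ, r * (u⁻¹) ^ k * r⁻¹ = (u⁻¹) ^ k * c ^ k := by
    intro k
    induction k with
    | zero => simp
    | succ k ih =>
      have hcu' : Commute c (u⁻¹) := hcu.inv_right
      calc r * (u⁻¹) ^ (k + 1) * r⁻¹ = (r * (u⁻¹) ^ k * r⁻¹) * (r * u⁻¹ * r⁻¹) := by
            rw [pow_succ]; group
        _ = (u⁻¹) ^ k * c ^ k * (u⁻¹ * c) := by rw [ih, h2]
        _ = (u⁻¹) ^ k * (c ^ k * u⁻¹) * c := by group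
        _ = (u⁻¹) ^ k * (u⁻¹ * c ^ k) * c := by rw [(hcu'.pow_left k).eq]
        _ = (u⁻¹) ^ (k + 1) * c ^ (k + 1) := by rw [pow_succ, pow_succ]; group
  have hcn : c ^ n = 1 := by
    have := h3 n
    rw [inv_pow, hu] at this
    simpa using this.symm
  -- `u rⁿ u⁻¹ = cⁿ rⁿ`
  have h4 : u * r ^ n * u⁻¹ = (c * r) ^ n := by
    rw [← h1]
    exact (conj_pow (a := u) (b := r) (i := n)).symm
  have h5 : (c * r) ^ n = c ^ n * r ^ n := hcr.mul_pow n
  have h6 : u * r ^ n * u⁻¹ = r ^ n := by rw [h4, h5, hcn, one_mul]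
  calc u * r ^ n = (u * r ^ n * u⁻¹) * u := by group
    _ = r ^ n * u := by rw [h6]

/-- **p-group step of BG 12.7 (b2).**  Let `p` be odd, `S` a nonabelian `p`-subgroup of `G` satisfying the
conclusion of `S1412` when it has rank at most two, `A ≤ S` elementary abelian of order `p ^ 2` contained in
no larger elementary abelian subgroup of `S`, and `r ∈ S`.  Then some `u ∈ S` with `u ^ p = 1` commuting
with `r ^ p` lies outside `A`. -/
theorem exists_not_mem_of_pow {G : Type*} [Group G] [Finite G] (p : ℕ) [Fact p.Prime]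
    (hp : p ≠ 2) (S : Subgroup G) (hS : IsPGroup p S) (hSna : ¬ IsMulCommutative S)
    (h1412 : Cfsg.PRankLE p 2 S → IsMulCommutative S ∨ ∃ P₁ P₂ : Subgroup G, P₁ ⊔ P₂ = S ∧
        (∀ a ∈ P₁, ∀ b ∈ P₂, a * b = b * a) ∧
        ¬ IsMulCommutative P₁ ∧ Nat.card P₁ = p ^ 3 ∧ Monoid.exponent P₁ = p ∧ IsCyclic P₂ ∧
        Subgroup.closure {x : G | x ∈ P₂ ∧ x ^ p = 1} = P₁ ⊓ Subgroup.centralizer (P₁ : Set G))
    (A : Subgroup G) (hAS : A ≤ S) (hA : Cfsg.IsElementaryAbelian p A) (hA2 : Nat.card A = p ^ 2)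
    (hAmax : ∀ B : Subgroup G, B ≤ S → Cfsg.IsElementaryAbelian p B → A ≤ B → B = A)
    (r : G) (hrS : r ∈ S) :
    ∃ u ∈ S, u ^ p = 1 ∧ u * r ^ p = r ^ p * u ∧ u ∉ A := by
  by_contra hcon
  push Not at hcon
  have hAcomm := comm_of_isElementaryAbelian hA
  by_cases hr : Cfsg.PRankLE p 2 S
  · rcases h1412 hr with hab | ⟨P₁, P₂, hsup, hcomm, hP₁na, hcard, hexp, hcyc, hOm⟩
    · exact hSna hab
    · -- `r = a b`, `r ^ p = b ^ p` commutes with `P₁`
      have hP₁S : P₁ ≤ S := hsup ▸ le_sup_left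
      obtain ⟨a, ha, b, hb, rfl⟩ := exists_mul_of_mem_sup_of_commute hcomm (hsup ▸ hrS)
      have hexp' : ∀ x ∈ P₁, x ^ p = 1 := by
        intro x hx
        have := Monoid.pow_exponent_eq_one (⟨x, hx⟩ : P₁)
        rw [hexp] at this
        exact congrArg Subtype.val this
      have hab : Commute a b := hcomm a ha b hb
      have hrp : (a * b) ^ p = b ^ p := by rw [hab.mul_pow, hexp' a ha, one_mul]
      have hP₁A : P₁ ≤ A := by
        intro u hu
        apply hcon u (hP₁S hu) (hexp' u hu)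
        rw [hrp]
        exact (Commute.pow_right (hcomm u hu b hb) p).eq
      exact hP₁na (isMulCommutative_of_le hP₁A hAcomm)
  · -- rank at least three: `S1453`
    have hE' : Cfsg.IsElementaryAbelian p (A.subgroupOf S) := isElementaryAbelian_subgroupOf hA S
    have hE2' : Nat.card (A.subgroupOf S) = p ^ 2 := by
      rw [Cfsg.Agent.Lib.Helper24_CoprimeAction.card_subgroupOf_of_le hAS, hA2]
    have hmax' : ∀ B : Subgroup S, Cfsg.IsElementaryAbelian p B → A.subgroupOf S ≤ B →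
        B = A.subgroupOf S := by
      intro B hB hEB
      have h1 : B.map S.subtype = A := by
        apply hAmax _ (Subgroup.map_subtype_le B) (isElementaryAbelian_map_subtype hB)
        intro e he
        exact ⟨⟨e, hAS he⟩, hEB (Subgroup.mem_subgroupOf.mpr he), rfl⟩
      rw [← h1]
      ext x
      rw [Subgroup.mem_subgroupOf]
      constructor
      · intro hx
        exact ⟨x, hx, rfl⟩
      · rintro ⟨y, hy, hyx⟩
        have : y = x := Subtype.ext hyx
        rwa [← this]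
    obtain ⟨hnot, -, ⟨-, hW2⟩, -, -⟩ :=
      Cfsg.Agent.S1453.result p hp hS hr (A.subgroupOf S) hE' hE2' hmax'
    set W : Subgroup S := Subgroup.closure
      {x : S | x ∈ Subgroup.upperCentralSeries S 2 ∧ x ^ p = 1} with hW
    have hWA : W ≤ A.subgroupOf S := by
      rw [hW, Subgroup.closure_le]
      rintro x ⟨hx2, hxp⟩
      rw [SetLike.mem_coe, Subgroup.mem_subgroupOf]
      have hxp' : (x : G) ^ p = 1 := by
        have := congrArg Subtype.val hxp
        simpa using this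
      apply hcon x x.2 hxp'
      -- the commutator of `x` and `r` is central in `S`
      have hcen : x * ⟨r, hrS⟩ * x⁻¹ * (⟨r, hrS⟩ : S)⁻¹ ∈ Subgroup.center S := by
        have h := (Subgroup.mem_upperCentralSeries_succ_iff (n := 1)).mp hx2 ⟨r, hrS⟩
        rwa [Subgroup.upperCentralSeries_one] at h
      have hc1 : Commute ((x : G) * r * (x : G)⁻¹ * r⁻¹) x := by
        have := Subgroup.mem_center_iff.mp hcen x
        have h2 := congrArg Subtype.val this
        simp only [Subgroup.coe_mul, Subgroup.coe_inv] at h2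
        exact h2.symm
      have hc2 : Commute ((x : G) * r * (x : G)⁻¹ * r⁻¹) r := by
        have := Subgroup.mem_center_iff.mp hcen ⟨r, hrS⟩
        have h2 := congrArg Subtype.val this
        simp only [Subgroup.coe_mul, Subgroup.coe_inv] at h2
        exact h2.symm
      exact commute_pow_of_central_commutator hc1 hc2 hxp'
    have hWeq : W = A.subgroupOf S :=
      Subgroup.eq_of_le_of_card_ge hWA (by rw [hE2', hW2])
    apply hnot
    rw [hWeq]
    intro x hx
    rw [Subgroup.mem_centralizer_iff]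
    intro y hy
    exact (comm_of_isElementaryAbelian hE' y hy x hx)

/-- Same hypotheses; if every `u ∈ S` with `u ^ p = 1` commuting with `x` lies in `A`, then `x` is not a
power of a `p`-th power `r ^ p`, `r ∈ S`. -/
theorem false_of_mem_zpowers_pow {G : Type*} [Group G] [Finite G] (p : ℕ) [Fact p.Prime]
    (hp : p ≠ 2) (S : Subgroup G) (hS : IsPGroup p S) (hSna : ¬ IsMulCommutative S)
    (h1412 : Cfsg.PRankLE p 2 S → IsMulCommutative S ∨ ∃ P₁ P₂ : Subgroup G, P₁ ⊔ P₂ = S ∧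
        (∀ a ∈ P₁, ∀ b ∈ P₂, a * b = b * a) ∧
        ¬ IsMulCommutative P₁ ∧ Nat.card P₁ = p ^ 3 ∧ Monoid.exponent P₁ = p ∧ IsCyclic P₂ ∧
        Subgroup.closure {x : G | x ∈ P₂ ∧ x ^ p = 1} = P₁ ⊓ Subgroup.centralizer (P₁ : Set G))
    (A : Subgroup G) (hAS : A ≤ S) (hA : Cfsg.IsElementaryAbelian p A) (hA2 : Nat.card A = p ^ 2)
    (hAmax : ∀ B : Subgroup G, B ≤ S → Cfsg.IsElementaryAbelian p B → A ≤ B → B = A)
    (r : G) (hrS : r ∈ S) (x : G) (hx : x ∈ Subgroup.zpowers (r ^ p))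
    (hxA : ∀ u ∈ S, u ^ p = 1 → u * x = x * u → u ∈ A) : False := by
  obtain ⟨u, huS, hup, hur, huA⟩ :=
    exists_not_mem_of_pow p hp S hS hSna h1412 A hAS hA hA2 hAmax r hrS
  apply huA
  apply hxA u huS hup
  obtain ⟨k, rfl⟩ := Subgroup.mem_zpowers_iff.mp hx
  exact (Commute.zpow_right hur k).eq

end Cfsg.Agent.Lib.Helper70_BG127b
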