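import Mathlib

/-!
Counting commuting pairs in a finite group (helper library of helper70).

`cp A B` is the number of pairs `(a, b) ∈ A × B` with `a * b = b * a`.
-/

set_option autoImplicit false

namespace Cfsg.Agent.Lib.Helper70_CommPairs

open Finset

noncomputable section

open Classical in
/-- The elements of `B` commuting with `a`. -/
def cent {X : Type*} [Group X] (a : X) (B : Finset X) : Finset X :=
  B.filter (fun b => a * b = b * a)

/-- The number of commuting pairs in `A × B`. -/
def cp {X : Type*} [Group X] (A B : Finset X) : ℕ := ∑ a ∈ A, (cent a B).card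

variable {X : Type*} [Group X]

theorem mem_cent {a b : X} {B : Finset X} : b ∈ cent a B ↔ b ∈ B ∧ a * b = b * a := by
  classical
  unfold cent
  rw [Finset.mem_filter]

theorem cp_comm (A B : Finset X) : cp A B = cp B A := by
  classical
  unfold cp cent
  simp only [Finset.card_filter]
  rw [Finset.sum_comm]
  refine Finset.sum_congr rfl (fun b _ => Finset.sum_congr rfl (fun a _ => ?_))
  simp only [eq_comm]

theorem cp_le_of_forall {A B C : Finset X} {m : ℕ}
    (h : ∀ a ∈ A, (cent a B).card ≤ m * (cent a C).card) : cp A B ≤ m * cp A C := by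
  unfold cp
  rw [Finset.mul_sum]
  exact Finset.sum_le_sum h

theorem cp_lt_of_forall {A B C : Finset X} {m : ℕ}
    (h : ∀ a ∈ A, (cent a B).card ≤ m * (cent a C).card)
    (h' : ∃ a ∈ A, (cent a B).card < m * (cent a C).card) : cp A B < m * cp A C := by
  unfold cp
  rw [Finset.mul_sum]
  exact Finset.sum_lt_sum h h'

/-- Core lemma: the centralizer of `a` meets a left coset `g H` in at most as many elements as it
meets `H`. Here `HF` is a finset with the elements of the subgroup `H`, and `S` is a finset
contained in the coset `g H`. -/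
theorem card_cent_coset_le (H : Subgroup X) (HF S : Finset X) (hHF : ∀ x, x ∈ H → x ∈ HF)
    (a : X) (hS : ∀ x ∈ S, ∀ y ∈ S, x⁻¹ * y ∈ H) :
    (cent a S).card ≤ (cent a HF).card := by
  classical
  by_cases hne : (cent a S).Nonempty
  · obtain ⟨b0, hb0⟩ := hne
    rw [mem_cent] at hb0
    apply Finset.card_le_card_of_injOn (fun b => b0⁻¹ * b)
    · intro b hb
      rw [Finset.mem_coe, mem_cent] at hb
      rw [Finset.mem_coe, mem_cent]
      refine ⟨hHF _ (hS b0 hb0.1 b hb.1), ?_⟩
      have h1 : a * b0⁻¹ = b0⁻¹ * a := by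
        have := hb0.2
        calc a * b0⁻¹ = b0⁻¹ * (b0 * a) * b0⁻¹ := by group
          _ = b0⁻¹ * (a * b0) * b0⁻¹ := by rw [this]
          _ = b0⁻¹ * a := by group
      calc a * (b0⁻¹ * b) = (a * b0⁻¹) * b := by group
        _ = b0⁻¹ * (a * b) := by rw [h1]; group
        _ = b0⁻¹ * (b * a) := by rw [hb.2]
        _ = b0⁻¹ * b * a := by group
    · intro x _ y _ hxy
      exact mul_left_cancel hxy
  · rw [Finset.not_nonempty_iff_eq_empty] at hne
    rw [hne]; simp

section Fintype

variable [Fintype X]

theorem cp_univ : cp (Finset.univ : Finset X) Finset.univ =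
    Nat.card (ConjClasses X) * Nat.card X := by
  classical
  rw [← card_comm_eq_card_conjClasses_mul_card]
  unfold cp cent
  rw [Nat.card_eq_fintype_card,
    Fintype.card_congr (Equiv.subtypeProdEquivSigmaSubtype (Commute (S := X))),
    Fintype.card_sigma]
  refine Finset.sum_congr rfl (fun a _ => ?_)
  rw [Fintype.card_subtype]
  rfl

open Classical in
/-- The finset of elements of a subgroup. -/
def sub (Y : Subgroup X) : Finset X := Finset.univ.filter (fun x => x ∈ Y)

theorem mem_sub {Y : Subgroup X} {x : X} : x ∈ sub Y ↔ x ∈ Y := by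
  classical
  unfold sub
  simp

theorem card_sub (Y : Subgroup X) : (sub Y).card = Nat.card Y := by
  classical
  unfold sub
  rw [Nat.card_eq_fintype_card, Fintype.card_subtype]

theorem cp_sub (Y : Subgroup X) : cp (sub Y) (sub Y) = Nat.card (ConjClasses Y) * Nat.card Y := by
  classical
  rw [← cp_univ (X := Y)]
  unfold cp
  -- sum over sub Y as sum over Y
  have h1 : ∑ a ∈ sub Y, (cent a (sub Y)).card = ∑ a : Y, (cent (a : X) (sub Y)).card := by
    unfold sub
    rw [Finset.sum_subtype (p := fun x => x ∈ Y) (Finset.univ.filter (fun x => x ∈ Y))]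
    intro x; simp
  rw [h1]
  refine Finset.sum_congr rfl (fun a _ => ?_)
  -- card of cent a (sub Y) in X equals card of cent a univ in Y
  refine Finset.card_bij' (fun b hb => (⟨b, mem_sub.mp (mem_cent.mp hb).1⟩ : Y))
    (fun (b : Y) _ => (b : X)) ?_ ?_ ?_ ?_
  · intro b hb
    rw [mem_cent] at hb ⊢
    exact ⟨Finset.mem_univ _, Subtype.ext hb.2⟩
  · intro b hb
    rw [mem_cent] at hb ⊢
    refine ⟨mem_sub.mpr b.2, ?_⟩
    have := congrArg Subtype.val hb.2
    simpa using this
  · intro b hb; rfl
  · intro b hb; rfl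

omit [Fintype X] in
theorem cent_mono {a : X} {B B' : Finset X} (h : B ⊆ B') : cent a B ⊆ cent a B' := by
  intro x hx
  rw [mem_cent] at hx ⊢
  exact ⟨h hx.1, hx.2⟩

omit [Fintype X] in
theorem cp_mono {A A' B B' : Finset X} (hA : A ⊆ A') (hB : B ⊆ B') : cp A B ≤ cp A' B' := by
  unfold cp
  calc ∑ a ∈ A, (cent a B).card ≤ ∑ a ∈ A, (cent a B').card :=
        Finset.sum_le_sum (fun a _ => Finset.card_le_card (cent_mono hB))
    _ ≤ ∑ a ∈ A', (cent a B').card :=
        Finset.sum_le_sum_of_subset hA

open Classical in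
/-- the fibre of `cent a univ` over a coset of `Y` -/
theorem card_fibre_le (Y : Subgroup X) (a : X) (q : X ⧸ Y) :
    ((cent a Finset.univ).filter (fun x : X => (QuotientGroup.mk x : X ⧸ Y) = q)).card ≤ (cent a (sub Y)).card := by
  classical
  have h1 : (cent a Finset.univ).filter (fun x : X => (QuotientGroup.mk x : X ⧸ Y) = q) =
      cent a (Finset.univ.filter (fun x : X => (QuotientGroup.mk x : X ⧸ Y) = q)) := by
    ext x
    simp only [Finset.mem_filter, mem_cent, Finset.mem_univ, true_and]
    tauto
  rw [h1]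
  apply card_cent_coset_le Y
  · intro x hx; exact mem_sub.mpr hx
  · intro x hx y hy
    rw [Finset.mem_filter] at hx hy
    rw [← QuotientGroup.eq, hx.2, hy.2]

theorem card_cent_univ_le (Y : Subgroup X) (a : X) :
    (cent a Finset.univ).card ≤ Y.index * (cent a (sub Y)).card := by
  classical
  rw [Finset.card_eq_sum_card_fiberwise (f := fun x : X => (QuotientGroup.mk x : X ⧸ Y)) (t := Finset.univ)
    (fun x _ => Finset.mem_univ _)]
  calc ∑ q : X ⧸ Y, ((cent a Finset.univ).filter (fun x : X => (QuotientGroup.mk x : X ⧸ Y) = q)).card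
      ≤ ∑ _q : X ⧸ Y, (cent a (sub Y)).card :=
        Finset.sum_le_sum (fun q _ => card_fibre_le Y a q)
    _ = Y.index * (cent a (sub Y)).card := by
        rw [Finset.sum_const, Finset.card_univ, smul_eq_mul, Subgroup.index_eq_card,
          Nat.card_eq_fintype_card]

theorem card_cent_univ_lt (Y : Subgroup X) (a : X) (ha : a ∈ Y) (g : X) (hg : g * a * g⁻¹ ∉ Y) :
    (cent a Finset.univ).card < Y.index * (cent a (sub Y)).card := by
  classical
  rw [Finset.card_eq_sum_card_fiberwise (f := fun x : X => (QuotientGroup.mk x : X ⧸ Y)) (t := Finset.univ)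
    (fun x _ => Finset.mem_univ _)]
  calc ∑ q : X ⧸ Y, ((cent a Finset.univ).filter (fun x : X => (QuotientGroup.mk x : X ⧸ Y) = q)).card
      < ∑ _q : X ⧸ Y, (cent a (sub Y)).card := by
        apply Finset.sum_lt_sum (fun q _ => card_fibre_le Y a q)
        refine ⟨((g⁻¹ : X) : X ⧸ Y), Finset.mem_univ _, ?_⟩
        have hempty : (cent a Finset.univ).filter (fun x : X => (QuotientGroup.mk x : X ⧸ Y) = ((g⁻¹ : X) : X ⧸ Y)) = ∅ := by
          rw [Finset.eq_empty_iff_forall_notMem]
          intro c hc
          rw [Finset.mem_filter, mem_cent, QuotientGroup.eq] at hc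
          obtain ⟨⟨_, hca⟩, hcg⟩ := hc
          apply hg
          -- c⁻¹ * g⁻¹ ∈ Y
          have h1 : g * c ∈ Y := by
            have := Y.inv_mem hcg
            simpa using this
          have h2 : g * a * g⁻¹ = (g * c) * a * (g * c)⁻¹ := by
            have : c * a * c⁻¹ = a := by rw [← hca]; group
            calc g * a * g⁻¹ = g * (c * a * c⁻¹) * g⁻¹ := by rw [this]
              _ = (g * c) * a * (g * c)⁻¹ := by group
          rw [h2]
          exact Y.mul_mem (Y.mul_mem h1 ha) (Y.inv_mem h1)
        rw [hempty, Finset.card_empty, Finset.card_pos]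
        exact ⟨a, mem_cent.mpr ⟨mem_sub.mpr ha, rfl⟩⟩
    _ = Y.index * (cent a (sub Y)).card := by
        rw [Finset.sum_const, Finset.card_univ, smul_eq_mul, Subgroup.index_eq_card,
          Nat.card_eq_fintype_card]

end Fintype

end

end Cfsg.Agent.Lib.Helper70_CommPairs
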