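import Mathlib
import Cfsg.Agent.Lib.Helper62_D72Defs

/-!
# S3716 (helper62 market d72): package PQ, `pure_of_data`
-/

set_option autoImplicit false
set_option linter.unusedSimpArgs false
set_option linter.unusedVariables false

namespace Cfsg.Agent.Lib.Helper70_D72_PQ

open Cfsg Cfsg.Agent.Lib.Helper62_D72Defs

/-- bilinear sums of integer combinations of `a, d, b, b'` (all scaled by `6`) -/
theorem sum_mul_lin {ι : Type*} [Fintype ι] (a d b b' X Y : ι → ℤ)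
    (x1 x2 x3 x4 y1 y2 y3 y4 : ℤ)
    (hX : ∀ i, 6 * X i = x1 * a i + x2 * d i + x3 * b i + x4 * b' i)
    (hY : ∀ i, 6 * Y i = y1 * a i + y2 * d i + y3 * b i + y4 * b' i) :
    36 * ∑ i, X i * Y i =
      x1 * y1 * ∑ i, a i ^ 2 + x2 * y2 * ∑ i, d i ^ 2 + x3 * y3 * ∑ i, b i ^ 2 +
      x4 * y4 * ∑ i, b' i ^ 2 + (x1 * y2 + x2 * y1) * ∑ i, a i * d i +
      (x1 * y3 + x3 * y1) * ∑ i, a i * b i + (x1 * y4 + x4 * y1) * ∑ i, a i * b' i +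
      (x2 * y3 + x3 * y2) * ∑ i, d i * b i + (x2 * y4 + x4 * y2) * ∑ i, d i * b' i +
      (x3 * y4 + x4 * y3) * ∑ i, b i * b' i := by
  simp only [Finset.mul_sum, ← Finset.sum_add_distrib]
  apply Finset.sum_congr rfl
  intro i _
  have e : 36 * (X i * Y i) = (6 * X i) * (6 * Y i) := by ring
  rw [e, hX i, hY i]
  ring

/-- linear sums against the degrees -/
theorem sum_f_lin {ι : Type*} [Fintype ι] (f : ι → ℕ) (a d b b' X : ι → ℤ) (x1 x2 x3 x4 : ℤ)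
    (hX : ∀ i, 6 * X i = x1 * a i + x2 * d i + x3 * b i + x4 * b' i) :
    6 * ∑ i, (f i : ℤ) * X i =
      x1 * ∑ i, (f i : ℤ) * a i + x2 * ∑ i, (f i : ℤ) * d i + x3 * ∑ i, (f i : ℤ) * b i +
      x4 * ∑ i, (f i : ℤ) * b' i := by
  simp only [Finset.mul_sum, ← Finset.sum_add_distrib]
  apply Finset.sum_congr rfl
  intro i _
  have e : 6 * ((f i : ℤ) * X i) = (f i : ℤ) * (6 * X i) := by ring
  rw [e, hX i]
  ring

theorem pure_of_data {ι : Type*} [Fintype ι] (o : ι) (f : ι → ℕ) (g : ℕ) (a d b b' : ι → ℤ)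
    (hfpos : ∀ i, 0 < f i) (hlin : ∀ i, f i = 1 → i = o)
    (hL : ∀ i, ∃ P Q P' Q' : ℤ, Loc (f i) P Q P' Q' ∧ a i = aOf P Q P' Q' ∧ d i = dOf P Q P' Q' ∧
      b i = P - Q ∧ b' i = P' - Q')
    (hfo : f o = 1) (hao : a o = 1) (hdo : d o = 1) (hbo : b o = 1) (hb'o : b' o = 1)
    (haa : ∑ i, a i ^ 2 = 18) (hdd : ∑ i, d i ^ 2 = 18) (hbb : ∑ i, b i ^ 2 = 6)
    (hb'b' : ∑ i, b' i ^ 2 = 6) (had : ∑ i, a i * d i = 0) (hab : ∑ i, a i * b i = 0)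
    (hab' : ∑ i, a i * b' i = 0) (hdb : ∑ i, d i * b i = 0) (hdb' : ∑ i, d i * b' i = 0)
    (hbb' : ∑ i, b i * b' i = 0) (hfa : ∑ i, (f i : ℤ) * a i = 0) (hfd : ∑ i, (f i : ℤ) * d i = 0)
    (hfb : ∑ i, (f i : ℤ) * b i = 0) (hfb' : ∑ i, (f i : ℤ) * b' i = 0)
    (hsq : ∑ i, f i ^ 2 = g)
    (E1 : (g : ℚ) * ∑ i, ((a i ^ 2 * d i : ℤ) : ℚ) / (f i : ℚ) = 648)
    (E2 : (g : ℚ) * ∑ i, ((a i * d i ^ 2 : ℤ) : ℚ) / (f i : ℚ) = 648)
    (E3 : ∃ k : ℕ, (g : ℚ) * ∑ i, ((a i ^ 3 : ℤ) : ℚ) / (f i : ℚ) = 324 * (1 + 3 * (k : ℚ)))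
    (E4 : ∃ k : ℕ, (g : ℚ) * ∑ i, ((d i ^ 3 : ℤ) : ℚ) / (f i : ℚ) = 324 * (1 + 3 * (k : ℚ))) :
    ∃ P Q P' Q' : ι → ℤ, Pure o f g P Q P' Q' := by
  choose P Q P' Q' hLoc ha hd hb hb' using hL
  have h6P : ∀ i, 6 * P i = 1 * a i + 2 * d i + 3 * b i + 0 * b' i := by
    intro i; rw [ha i, hd i, hb i]; unfold aOf dOf; ring
  have h6Q : ∀ i, 6 * Q i = 1 * a i + 2 * d i + (-3) * b i + 0 * b' i := by
    intro i; rw [ha i, hd i, hb i]; unfold aOf dOf; ring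
  have h6P' : ∀ i, 6 * P' i = 2 * a i + 1 * d i + 0 * b i + 3 * b' i := by
    intro i; rw [ha i, hd i, hb' i]; unfold aOf dOf; ring
  have h6Q' : ∀ i, 6 * Q' i = 2 * a i + 1 * d i + 0 * b i + (-3) * b' i := by
    intro i; rw [ha i, hd i, hb' i]; unfold aOf dOf; ring
  have haOf : ∀ i, aOf (P i) (Q i) (P' i) (Q' i) = a i := fun i => (ha i).symm
  have hdOf : ∀ i, dOf (P i) (Q i) (P' i) (Q' i) = d i := fun i => (hd i).symm
  -- the column at `o`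
  have ho : P o = 1 ∧ Q o = 0 ∧ P' o = 1 ∧ Q' o = 0 := by
    obtain ⟨n0p, n0m, n1p, n1m, k0p, k0m, k1p, k1m, e1, e2, e3, e4, e5, e6, _, _⟩ := hLoc o
    have hb1 := hb o
    have hb2 := hb' o
    rw [hbo] at hb1
    rw [hb'o] at hb2
    rw [hfo] at e6
    omega
  refine ⟨P, Q, P', Q', ⟨hfpos, hlin, hLoc, ho.1, ho.2.1, ho.2.2.1, ho.2.2.2, hfo,
    ?_, ?_, ?_, ?_, ?_, ?_, ?_, ?_, ?_, ?_, ?_, ?_, ?_, ?_, hsq, ?_, ?_, ?_, ?_⟩⟩
  · have h := sum_mul_lin a d b b' P P _ _ _ _ _ _ _ _ h6P h6P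
    rw [haa, hdd, hbb, hb'b', had, hab, hab', hdb, hdb', hbb'] at h
    simp only [pow_two]
    linarith
  · have h := sum_mul_lin a d b b' Q Q _ _ _ _ _ _ _ _ h6Q h6Q
    rw [haa, hdd, hbb, hb'b', had, hab, hab', hdb, hdb', hbb'] at h
    simp only [pow_two]
    linarith
  · have h := sum_mul_lin a d b b' P' P' _ _ _ _ _ _ _ _ h6P' h6P'
    rw [haa, hdd, hbb, hb'b', had, hab, hab', hdb, hdb', hbb'] at h
    simp only [pow_two]
    linarith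
  · have h := sum_mul_lin a d b b' Q' Q' _ _ _ _ _ _ _ _ h6Q' h6Q'
    rw [haa, hdd, hbb, hb'b', had, hab, hab', hdb, hdb', hbb'] at h
    simp only [pow_two]
    linarith
  · have h := sum_mul_lin a d b b' P Q _ _ _ _ _ _ _ _ h6P h6Q
    rw [haa, hdd, hbb, hb'b', had, hab, hab', hdb, hdb', hbb'] at h
    linarith
  · have h := sum_mul_lin a d b b' P' Q' _ _ _ _ _ _ _ _ h6P' h6Q'
    rw [haa, hdd, hbb, hb'b', had, hab, hab', hdb, hdb', hbb'] at h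
    linarith
  · have h := sum_mul_lin a d b b' P P' _ _ _ _ _ _ _ _ h6P h6P'
    rw [haa, hdd, hbb, hb'b', had, hab, hab', hdb, hdb', hbb'] at h
    linarith
  · have h := sum_mul_lin a d b b' P Q' _ _ _ _ _ _ _ _ h6P h6Q'
    rw [haa, hdd, hbb, hb'b', had, hab, hab', hdb, hdb', hbb'] at h
    linarith
  · have h := sum_mul_lin a d b b' Q P' _ _ _ _ _ _ _ _ h6Q h6P'
    rw [haa, hdd, hbb, hb'b', had, hab, hab', hdb, hdb', hbb'] at h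
    linarith
  · have h := sum_mul_lin a d b b' Q Q' _ _ _ _ _ _ _ _ h6Q h6Q'
    rw [haa, hdd, hbb, hb'b', had, hab, hab', hdb, hdb', hbb'] at h
    linarith
  · have h := sum_f_lin f a d b b' P _ _ _ _ h6P
    rw [hfa, hfd, hfb, hfb'] at h
    linarith
  · have h := sum_f_lin f a d b b' Q _ _ _ _ h6Q
    rw [hfa, hfd, hfb, hfb'] at h
    linarith
  · have h := sum_f_lin f a d b b' P' _ _ _ _ h6P'
    rw [hfa, hfd, hfb, hfb'] at h
    linarith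
  · have h := sum_f_lin f a d b b' Q' _ _ _ _ h6Q'
    rw [hfa, hfd, hfb, hfb'] at h
    linarith
  · simp only [haOf, hdOf]; exact E1
  · simp only [haOf, hdOf]; exact E2
  · simp only [haOf, hdOf]; exact E3
  · simp only [haOf, hdOf]; exact E4

end Cfsg.Agent.Lib.Helper70_D72_PQ
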