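import Mathlib
import Cfsg.Agent.Lib.Helper62_D72Defs

/-!
# S3716 (helper62 market d72): the GENERIC realisation lemma for REAL1..REAL6

`shape_of_counts`: if the columns `(P i, Q i, P' i, Q' i)` (`i ≠ o`) have entries in `{0, ±1}` and,
for each of the 40 canonical column types `τ` (first nonzero entry `= 1`), the number of `i ≠ o`
with column `± τ` equals the number of `j` with `T j = τ`, then `IsShape o P Q P' Q' T`.
-/

set_option autoImplicit false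

namespace Cfsg.Agent.Lib.Helper70_D72_REALGEN

open Cfsg.Agent.Lib.Helper62_D72Defs

/-- the 40 canonical column types: entries in `{0, ±1}`, first nonzero entry `1` -/
def R40 : List (ℤ × ℤ × ℤ × ℤ) :=
  [(0, 0, 0, 1), (0, 0, 1, -1), (0, 0, 1, 0), (0, 0, 1, 1), (0, 1, -1, -1), (0, 1, -1, 0), (0, 1, -1, 1), (0, 1, 0, -1), (0, 1, 0, 0), (0, 1, 0, 1), (0, 1, 1, -1), (0, 1, 1, 0), (0, 1, 1, 1), (1, -1, -1, -1), (1, -1, -1, 0), (1, -1, -1, 1), (1, -1, 0, -1), (1, -1, 0, 0), (1, -1, 0, 1), (1, -1, 1, -1), (1, -1, 1, 0), (1, -1, 1, 1), (1, 0, -1, -1), (1, 0, -1, 0), (1, 0, -1, 1), (1, 0, 0, -1), (1, 0, 0, 0), (1, 0, 0, 1), (1, 0, 1, -1), (1, 0, 1, 0), (1, 0, 1, 1), (1, 1, -1, -1), (1, 1, -1, 0), (1, 1, -1, 1), (1, 1, 0, -1), (1, 1, 0, 0), (1, 1, 0, 1), (1, 1, 1, -1), (1, 1, 1, 0), (1, 1, 1, 1)]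

theorem canon_neg : ∀ τ ∈ R40, ∀ τ' ∈ R40,
    ¬ (τ.1 = -τ'.1 ∧ τ.2.1 = -τ'.2.1 ∧ τ.2.2.1 = -τ'.2.2.1 ∧ τ.2.2.2 = -τ'.2.2.2) := by
  decide +kernel

theorem canon_cover : ∀ p ∈ ([0, 1, -1] : List ℤ), ∀ q ∈ ([0, 1, -1] : List ℤ),
    ∀ p' ∈ ([0, 1, -1] : List ℤ), ∀ q' ∈ ([0, 1, -1] : List ℤ),
    ¬ (p = 0 ∧ q = 0 ∧ p' = 0 ∧ q' = 0) →
    ∃ τ ∈ R40, ((p = τ.1 ∧ q = τ.2.1 ∧ p' = τ.2.2.1 ∧ q' = τ.2.2.2) ∨
      (p = -τ.1 ∧ q = -τ.2.1 ∧ p' = -τ.2.2.1 ∧ q' = -τ.2.2.2)) := by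
  decide +kernel

theorem card_fiber {n : ℕ} (T : Fin n → ℤ × ℤ × ℤ × ℤ) (τ : ℤ × ℤ × ℤ × ℤ) :
    Nat.card {j : Fin n // T j = τ} = (Finset.univ.filter (fun j => T j = τ)).card := by
  rw [Nat.card_eq_fintype_card, Fintype.card_subtype]

/-- the generic realisation lemma -/
theorem shape_of_counts {ι : Type*} [Fintype ι] {o : ι} {P Q P' Q' : ι → ℤ}
    (hent : ∀ i, i ≠ o → (P i = 0 ∨ P i = 1 ∨ P i = -1) ∧ (Q i = 0 ∨ Q i = 1 ∨ Q i = -1) ∧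
      (P' i = 0 ∨ P' i = 1 ∨ P' i = -1) ∧ (Q' i = 0 ∨ Q' i = 1 ∨ Q' i = -1))
    {n : ℕ} (T : Fin n → ℤ × ℤ × ℤ × ℤ) (hT : ∀ j, T j ∈ R40)
    (hcnt : ∀ τ ∈ R40, cnt o P Q P' Q' τ.1 τ.2.1 τ.2.2.1 τ.2.2.2 =
      Nat.card {j : Fin n // T j = τ}) :
    IsShape o P Q P' Q' T := by
  classical
  -- `M i τ`: the column at `i` is `± τ`
  set M : ι → (ℤ × ℤ × ℤ × ℤ) → Prop := fun i τ =>
    (P i = τ.1 ∧ Q i = τ.2.1 ∧ P' i = τ.2.2.1 ∧ Q' i = τ.2.2.2) ∨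
      (P i = -τ.1 ∧ Q i = -τ.2.1 ∧ P' i = -τ.2.2.1 ∧ Q' i = -τ.2.2.2) with hMdef
  have hequiv : ∀ τ ∈ R40, Nonempty ({j : Fin n // T j = τ} ≃ {i : ι // i ≠ o ∧ M i τ}) := by
    intro τ hτ
    have h := hcnt τ hτ
    unfold cnt at h
    exact Finite.card_eq.1 h.symm
  have huniq : ∀ i τ τ', τ ∈ R40 → τ' ∈ R40 → M i τ → M i τ' → τ = τ' := by
    intro i τ τ' hτ hτ' h1 h2
    rcases h1 with ⟨a1, a2, a3, a4⟩ | ⟨a1, a2, a3, a4⟩ <;>
      rcases h2 with ⟨b1, b2, b3, b4⟩ | ⟨b1, b2, b3, b4⟩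
    · ext
      · rw [← a1, b1]
      · rw [← a2, b2]
      · rw [← a3, b3]
      · rw [← a4, b4]
    · exfalso
      exact canon_neg τ hτ τ' hτ' ⟨by rw [← a1, b1], by rw [← a2, b2], by rw [← a3, b3],
        by rw [← a4, b4]⟩
    · exfalso
      exact canon_neg τ' hτ' τ hτ ⟨by rw [← b1, a1], by rw [← b2, a2], by rw [← b3, a3],
        by rw [← b4, a4]⟩
    · ext
      · exact neg_injective (by rw [← a1, b1])
      · exact neg_injective (by rw [← a2, b2])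
      · exact neg_injective (by rw [← a3, b3])
      · exact neg_injective (by rw [← a4, b4])
  let e : ∀ τ (_hτ : τ ∈ R40), {j : Fin n // T j = τ} ≃ {i : ι // i ≠ o ∧ M i τ} :=
    fun τ hτ => Classical.choice (hequiv τ hτ)
  let idx : Fin n → ι := fun j => (e (T j) (hT j) ⟨j, rfl⟩).1
  have key : ∀ τ (hτ : τ ∈ R40) (j : Fin n) (h : T j = τ), (e τ hτ ⟨j, h⟩).1 = idx j := by
    intro τ hτ j h
    subst h
    rfl
  have hMidx : ∀ j, M (idx j) (T j) := fun j => (e (T j) (hT j) ⟨j, rfl⟩).2.2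
  have hne : ∀ j, idx j ≠ o := fun j => (e (T j) (hT j) ⟨j, rfl⟩).2.1
  have hinj : Function.Injective idx := by
    intro j j' hjj
    have h1 := hMidx j
    have h2 := hMidx j'
    rw [hjj] at h1
    have hTT : T j = T j' := huniq _ _ _ (hT j) (hT j') h1 h2
    have k1 := key (T j') (hT j') j hTT
    have k2 := key (T j') (hT j') j' rfl
    have h3 : e (T j') (hT j') ⟨j, hTT⟩ = e (T j') (hT j') ⟨j', rfl⟩ := by
      apply Subtype.ext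
      rw [k1, k2, hjj]
    have h4 := (e (T j') (hT j')).injective h3
    exact congrArg Subtype.val h4
  let σ : Fin n → ℤ := fun j =>
    if P (idx j) = (T j).1 ∧ Q (idx j) = (T j).2.1 ∧ P' (idx j) = (T j).2.2.1 ∧
      Q' (idx j) = (T j).2.2.2 then 1 else -1
  refine ⟨idx, σ, hinj, hne, ?_, ?_, ?_⟩
  · intro j
    by_cases h : P (idx j) = (T j).1 ∧ Q (idx j) = (T j).2.1 ∧ P' (idx j) = (T j).2.2.1 ∧
      Q' (idx j) = (T j).2.2.2
    · left; exact if_pos h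
    · right; exact if_neg h
  · intro j
    by_cases h : P (idx j) = (T j).1 ∧ Q (idx j) = (T j).2.1 ∧ P' (idx j) = (T j).2.2.1 ∧
      Q' (idx j) = (T j).2.2.2
    · have hσ : σ j = 1 := if_pos h
      rw [hσ, one_mul, one_mul, one_mul, one_mul]
      exact h
    · have hσ : σ j = -1 := if_neg h
      rw [hσ, neg_one_mul, neg_one_mul, neg_one_mul, neg_one_mul]
      rcases hMidx j with h' | h'
      · exact absurd h' h
      · exact h'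
  · intro i hio hall
    by_contra hzero
    obtain ⟨e1, e2, e3, e4⟩ := hent i hio
    have m1 : P i ∈ ([0, 1, -1] : List ℤ) := by simpa using e1
    have m2 : Q i ∈ ([0, 1, -1] : List ℤ) := by simpa using e2
    have m3 : P' i ∈ ([0, 1, -1] : List ℤ) := by simpa using e3
    have m4 : Q' i ∈ ([0, 1, -1] : List ℤ) := by simpa using e4
    obtain ⟨τ, hτ, hM⟩ := canon_cover (P i) m1 (Q i) m2 (P' i) m3 (Q' i) m4 hzero
    have hb : ∃ b, e τ hτ b = ⟨i, hio, hM⟩ := (e τ hτ).surjective _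
    obtain ⟨⟨j, hj⟩, hb⟩ := hb
    have := key τ hτ j hj
    rw [hb] at this
    exact hall j this

end Cfsg.Agent.Lib.Helper70_D72_REALGEN
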