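import Mathlib
import Cfsg.Agent.Lib.Helper62_D72Defs
import Cfsg.Agent.Lib.Helper70_D72_REALGEN

/-!
# S3716 (helper62 market d72): package REAL6, an instance of `shape_of_counts`
-/

set_option autoImplicit false
set_option linter.unusedSimpArgs false

namespace Cfsg.Agent.Lib.Helper70_D72_REAL6

open Cfsg Cfsg.Agent.Lib.Helper62_D72Defs Cfsg.Agent.Lib.Helper70_D72_REALGEN

theorem real6 {ι : Type*} [Fintype ι] {o : ι} {P Q P' Q' : ι → ℤ}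
    (hent : ∀ i, i ≠ o → (P i = 0 ∨ P i = 1 ∨ P i = -1) ∧ (Q i = 0 ∨ Q i = 1 ∨ Q i = -1) ∧
      (P' i = 0 ∨ P' i = 1 ∨ P' i = -1) ∧ (Q' i = 0 ∨ Q' i = 1 ∨ Q' i = -1))
    (c : ℤ → ℤ → ℤ → ℤ → ℕ) (hc : c = cnt o P Q P' Q')
    (h0 : c 0 0 0 1 = 1) (h1 : c 0 0 1 (-1) = 0) (h2 : c 0 0 1 0 = 1) (h3 : c 0 0 1 1 = 0) (h4 : c 0 1 (-1) (-1) = 0) (h5 : c 0 1 (-1) 0 = 0) (h6 : c 0 1 (-1) 1 = 0) (h7 : c 0 1 0 (-1) = 0) (h8 : c 0 1 0 0 = 1) (h9 : c 0 1 0 1 = 1) (h10 : c 0 1 1 (-1) = 0) (h11 : c 0 1 1 0 = 1) (h12 : c 0 1 1 1 = 0) (h13 : c 1 (-1) (-1) (-1) = 0) (h14 : c 1 (-1) (-1) 0 = 0) (h15 : c 1 (-1) (-1) 1 = 0) (h16 : c 1 (-1) 0 (-1) = 0) (h17 : c 1 (-1) 0 0 = 0) (h18 : c 1 (-1) 0 1 = 0) (h19 : c 1 (-1) 1 (-1) = 0) (h20 : c 1 (-1) 1 0 = 0) (h21 : c 1 (-1) 1 1 = 0) (h22 : c 1 0 (-1) (-1) = 0) (h23 : c 1 0 (-1) 0 =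 0) (h24 : c 1 0 (-1) 1 = 0) (h25 : c 1 0 0 (-1) = 0) (h26 : c 1 0 0 0 = 1) (h27 : c 1 0 0 1 = 1) (h28 : c 1 0 1 (-1) = 0) (h29 : c 1 0 1 0 = 0) (h30 : c 1 0 1 1 = 0) (h31 : c 1 1 (-1) (-1) = 0) (h32 : c 1 1 (-1) 0 = 0) (h33 : c 1 1 (-1) 1 = 0) (h34 : c 1 1 0 (-1) = 0) (h35 : c 1 1 0 0 = 0) (h36 : c 1 1 0 1 = 0) (h37 : c 1 1 1 (-1) = 0) (h38 : c 1 1 1 0 = 0) (h39 : c 1 1 1 1 = 1) :
    IsShape o P Q P' Q' T6 := by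
  subst hc
  apply shape_of_counts hent T6
  · intro j
    fin_cases j <;> decide
  · intro τ hτ
    simp only [R40, List.mem_cons, List.not_mem_nil, or_false] at hτ
    rcases hτ with rfl | rfl | rfl | rfl | rfl | rfl | rfl | rfl | rfl | rfl | rfl | rfl | rfl | rfl | rfl | rfl | rfl | rfl | rfl | rfl | rfl | rfl | rfl | rfl | rfl | rfl | rfl | rfl | rfl | rfl | rfl | rfl | rfl | rfl | rfl | rfl | rfl | rfl | rfl | rfl <;>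
    · dsimp only
      simp only [h0, h1, h2, h3, h4, h5, h6, h7, h8, h9, h10, h11, h12, h13, h14, h15, h16, h17, h18, h19, h20, h21, h22, h23, h24, h25, h26, h27, h28, h29, h30, h31, h32, h33, h34, h35, h36, h37, h38, h39, card_fiber]
      decide

end Cfsg.Agent.Lib.Helper70_D72_REAL6
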