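import Mathlib
import Cfsg.Agent.Lib.Helper83_HP2Defs
import Cfsg.Agent.Lib.Helper70_HP2_SWPREFL

set_option autoImplicit false
set_option linter.unusedSectionVars false
set_option linter.unusedVariables false
set_option linter.unusedSimpArgs false

namespace Cfsg.Agent.Lib.Helper70_HP2_TOSING

open Module Cfsg.Agent.Lib.Helper94_Symp Cfsg.Agent.Lib.Helper94_OrthSmall
  Cfsg.Agent.Lib.Helper94_OrthSiegel Cfsg.Agent.Lib.Helper94_OrthNondeg
  Cfsg.Agent.Lib.Helper29_ODDefs Cfsg.Agent.Lib.Helper94_Q2Defs Cfsg.Agent.Lib.Helper83_HP2Defs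
  Cfsg.Agent.Lib.Helper70_HP2_SWPREFL

variable {F : Type*} [Field F] [Finite F] {t : ℕ} {S M L : Subgroup (PV F t ≃ₗ[F] PV F t)}

omit [Finite F] in
/-- conjugation invariance of the set of reflection centres (= HP2-RINV) -/
lemma rinv_aux (hLO : L ≤ oG (pQ F t)) {w : PV F t} (hw : PInRc L w)
    {g : PV F t ≃ₗ[F] PV F t} (hg : g ∈ L) : PInRc L (g w) := by
  obtain ⟨hw0, hwL⟩ := hw
  have h1 : g * prefl F t hw0 * g⁻¹ ∈ L := L.mul_mem (L.mul_mem hg hwL) (L.inv_mem hg)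
  rw [conj_refl (pQ F t) (pB F t) (pQs F t) (pQp F t) (hLO hg) hw0] at h1
  exact ⟨_, h1⟩

/-- an element of `F` different from `0` and `1` -/
lemma exists_ne_zero_one (hq : 3 ≤ Nat.card F) : ∃ c : F, c ≠ 0 ∧ c ≠ 1 := by
  classical
  by_contra hcon
  push Not at hcon
  have : Fintype F := Fintype.ofFinite F
  have h1 : (Finset.univ : Finset F) ⊆ {0, 1} := by
    intro c _
    by_cases hc : c = 0
    · rw [hc]; exact Finset.mem_insert_self _ _
    · rw [hcon c hc]; exact Finset.mem_insert_of_mem (Finset.mem_singleton_self _)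
  have h2 := Finset.card_le_card h1
  rw [Finset.card_univ, ← Nat.card_eq_fintype_card] at h2
  have h3 : ({0, 1} : Finset F).card ≤ 2 := Finset.card_le_two
  omega

omit [Finite F] in
/-- a nonsingular vector `(α, β)` of the hyperbolic plane not orthogonal to `(p, r) ≠ 0` -/
lemma exists_nonsing_pair (hc : ∃ c : F, c ≠ 0 ∧ c ≠ 1) {p r : F} (hpr : ¬ (p = 0 ∧ r = 0)) :
    ∃ α β : F, α * β ≠ 0 ∧ α * r + β * p ≠ 0 := by
  by_cases h : p + r = 0
  · obtain ⟨c, hc0, hc1⟩ := hc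
    have hp : p ≠ 0 := by
      intro hp
      apply hpr
      refine ⟨hp, ?_⟩
      rw [hp, zero_add] at h
      exact h
    have hr : r = -p := by linear_combination h
    refine ⟨1, c, by rw [one_mul]; exact hc0, ?_⟩
    rw [hr]
    have : 1 * -p + c * p = p * (c - 1) := by ring
    rw [this]
    exact mul_ne_zero hp (sub_ne_zero.2 hc1)
  · refine ⟨1, 1, by norm_num, ?_⟩
    rw [one_mul, one_mul, add_comm]
    exact h

/-- **HP2-TOSING** -/
theorem TOSING (hC : PCtxR F t S L) {u : PV F t} {l m j : Fin t} (hlm : l ≠ m) (hjl : j ≠ l)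
    (hjm : j ≠ m) (hu : pQ F t u = 0) (hul : u l ≠ 0) (hsupp : ∀ i, i ≠ l → i ≠ m → u i = 0)
    (hZ : ∀ z ∈ pD F t j, InZ (pQ F t) (pB F t) L u z) :
    ∃ w', PInRc L w' ∧ w' l ≠ 0 ∧ w' j ≠ 0 ∧ Sing (w' j) := by
  have hq3 : 3 ≤ Nat.card F := le_trans (by norm_num) hC.hq
  have hpr : ¬ ((u l).1 = 0 ∧ (u l).2 = 0) := by
    rintro ⟨h1, h2⟩
    exact hul (Prod.ext h1 h2)
  obtain ⟨α, β, hαβ, hne⟩ := exists_nonsing_pair (exists_ne_zero_one hq3) hpr
  -- the vectors
  have hzmem : (Pi.single j ((1, 0) : F × F) : PV F t) ∈ pD F t j := fun k hk =>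
    Pi.single_eq_of_ne hk _
  obtain ⟨huz, hsieg⟩ := hZ _ hzmem
  have hg : sieg (pQ F t) (pB F t) u (Pi.single j ((1, 0) : F × F)) ∈ L := by
    have := hsieg 1
    rwa [one_smul] at this
  have hQx : pQ F t (Pi.single l ((α, β) : F × F)) = α * β := pQ_single l _
  have hQx0 : pQ F t (Pi.single l ((α, β) : F × F)) ≠ 0 := by rw [hQx]; exact hαβ
  have hxmem : (Pi.single l ((α, β) : F × F) : PV F t) ∈ pD F t l := fun k hk =>
    Pi.single_eq_of_ne hk _
  have hxRc : PInRc L (Pi.single l ((α, β) : F × F) : PV F t) :=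
    ⟨hQx0, hC.hR _ ⟨hQx0, l, hxmem⟩ hQx0⟩
  have hBxu : pB F t (Pi.single l ((α, β) : F × F)) u = α * (u l).2 + β * (u l).1 := by
    rw [B_symm (pQ F t) (pB F t) (pQp F t), pB_single]
    ring
  have hBxz : pB F t (Pi.single l ((α, β) : F × F)) (Pi.single j ((1, 0) : F × F)) = 0 := by
    rw [pB_single, Pi.single_eq_of_ne hjl]
    simp
  have hQz : pQ F t (Pi.single j ((1, 0) : F × F)) = 0 := by
    rw [pQ_single]; simp
  refine ⟨sieg (pQ F t) (pB F t) u (Pi.single j ((1, 0) : F × F)) (Pi.single l ((α, β) : F × F)),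
    rinv_aux hC.hLO hxRc hg, ?_, ?_, ?_⟩
  · rw [sieg_apply (pQ F t) (pB F t) (pQs F t) (pQp F t) hu huz, hBxu, hBxz, hQz]
    simp only [Pi.add_apply, Pi.sub_apply, Pi.smul_apply, Pi.single_eq_same, Pi.zero_apply,
      Pi.single_eq_of_ne (Ne.symm hjl), smul_zero, zero_smul, zero_mul, add_zero, sub_zero]
    intro h
    have h1 := congrArg Prod.fst h
    simp only [Prod.fst_zero] at h1
    apply hαβ
    rw [h1, zero_mul]
  · rw [sieg_apply (pQ F t) (pB F t) (pQs F t) (pQp F t) hu huz, hBxu, hBxz, hQz]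
    simp only [Pi.add_apply, Pi.sub_apply, Pi.smul_apply, Pi.single_eq_same, Pi.zero_apply,
      Pi.single_eq_of_ne hjl, smul_zero, zero_smul, zero_mul, add_zero, sub_zero, zero_add]
    intro h
    have h1 := congrArg Prod.fst h
    simp only [Prod.smul_fst, smul_eq_mul, mul_one, Prod.fst_zero] at h1
    exact hne h1
  · rw [sieg_apply (pQ F t) (pB F t) (pQs F t) (pQp F t) hu huz, hBxu, hBxz, hQz]
    simp only [Pi.add_apply, Pi.sub_apply, Pi.smul_apply, Pi.single_eq_same, Pi.zero_apply,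
      Pi.single_eq_of_ne hjl, smul_zero, zero_smul, zero_mul, add_zero, sub_zero, zero_add]
    unfold Sing
    simp

end Cfsg.Agent.Lib.Helper70_HP2_TOSING
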