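import Mathlib
import Cfsg.Agent.Lib.Helper4_HTDefs
import Cfsg.Agent.Lib.Helper3_RepDecomp

set_option autoImplicit false

/-!
S3371-IRR (helper4's ht market): Maschke step.
-/

namespace Cfsg.Agent.Lib.Helper70_HT_IRR

open Cfsg.Agent.Lib.Helper4_HTDefs

variable {q : ℕ} [Fact q.Prime] {V : Type*} [AddCommGroup V] [Module (ZMod q) V] [Finite V]
  {G : Type*} [Group G] [Finite G]

theorem irr (p : ℕ) [Fact p.Prime] (hG : IsPGroup p G) (hpq : p ≠ q) (ρ : G →* (V ≃ₗ[ZMod q] V)) (s : ℕ)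
    (hs1 : s ≠ 1)
    (hkey : ∀ W₁ W₂ : Submodule (ZMod q) V, Inv ρ W₁ → Inv ρ W₂ → IsCompl W₁ W₂ → W₁ ≠ ⊥ → W₂ ≠ ⊥ → s = 1) :
    Irr ρ := by
  intro W hW
  by_contra hcon
  rw [not_or] at hcon
  obtain ⟨hbot, htop⟩ := hcon
  -- the representation
  let R : Representation (ZMod q) G V :=
    { toFun := fun g => (ρ g : V →ₗ[ZMod q] V)
      map_one' := by
        ext v
        simp
      map_mul' := by
        intro a b
        ext v
        simp [LinearEquiv.mul_apply] }
  have hRapp : ∀ g v, R g v = ρ g v := fun g v => rfl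
  -- |G| is invertible in ZMod q
  obtain ⟨k, hk⟩ := IsPGroup.iff_card.mp hG
  have hne : NeZero ((Nat.card G : ℕ) : ZMod q) := by
    constructor
    rw [hk]
    intro h0
    rw [Nat.cast_pow] at h0
    have h1 : ((p : ℕ) : ZMod q) = 0 := pow_eq_zero_iff (n := k) (by
      rintro rfl
      simp at h0) |>.mp h0
    rw [ZMod.natCast_eq_zero_iff] at h1
    have hq : q.Prime := Fact.out
    have hp : p.Prime := Fact.out
    exact hpq ((Nat.prime_dvd_prime_iff_eq hq hp).mp h1).symm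
  have hWinv : Cfsg.Agent.Lib.Helper3_RepDecomp.IsInv R W := fun g w hw => hW g w hw
  obtain ⟨W', hW', hc⟩ := Cfsg.Agent.Lib.Helper3_RepDecomp.exists_isInv_isCompl R W hWinv
  have hW'inv : Inv ρ W' := fun g w hw => hW' g w hw
  have hW'bot : W' ≠ ⊥ := by
    rintro rfl
    apply htop
    have := hc.sup_eq_top
    simpa using this
  exact hs1 (hkey W W' hW hW'inv hc hbot hW'bot)

end Cfsg.Agent.Lib.Helper70_HT_IRR
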