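import Mathlib
import Cfsg.Prelude.Def_KGroupFacts
import Cfsg.Agent.Lib.Helper66_Stem
import Cfsg.Agent.Lib.Helper66_StemTools
import Cfsg.Agent.Lib.Lead_StemLocal
set_option autoImplicit false
open Cfsg
open scoped commutatorElement

namespace Cfsg.Agent.Lib.Helper70_J2M_D1

/-- in a finite group, `a N a⁻¹ ≤ N` puts `a` in the normalizer of `N` -/
theorem mem_normalizer_of_conj_mem {Γ : Type*} [Group Γ] [Finite Γ] (N : Subgroup Γ) (a : Γ)
    (ha : ∀ y ∈ N, a * y * a⁻¹ ∈ N) : a ∈ Subgroup.normalizer (N : Set Γ) := by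
  classical
  let f : N → N := fun y => ⟨a * y.1 * a⁻¹, ha y.1 y.2⟩
  have hinj : Function.Injective f := by
    intro y y' h
    have h1 : a * y.1 * a⁻¹ = a * y'.1 * a⁻¹ := congrArg Subtype.val h
    have h2 : y.1 = y'.1 := by
      have := mul_left_cancel (mul_right_cancel h1)
      exact this
    exact Subtype.ext h2
  have hsurj : Function.Surjective f := Finite.injective_iff_surjective.mp hinj
  rw [Subgroup.mem_normalizer_iff]
  intro h
  constructor
  · exact ha h
  · intro hh
    obtain ⟨y, hy⟩ := hsurj ⟨a * h * a⁻¹, hh⟩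
    have h1 : a * y.1 * a⁻¹ = a * h * a⁻¹ := congrArg Subtype.val hy
    have h2 : y.1 = h := mul_left_cancel (mul_right_cancel h1)
    rw [← h2]; exact y.2

theorem commutator_le_of_pair {Γ : Type*} [Group Γ] [Finite Γ] (N : Subgroup Γ) (a b : Γ) (C : Set Γ)
    (hC : ∀ c ∈ C, c ∈ Subgroup.center Γ)
    (ha : ∀ y ∈ N, a * y * a⁻¹ ∈ N) (hb : ∀ y ∈ N, b * y * b⁻¹ ∈ N) (hab : ⁅a, b⁆ ∈ N) :
    ⁅Subgroup.closure (({a, b} : Set Γ) ∪ (N : Set Γ) ∪ C),
      Subgroup.closure (({a, b} : Set Γ) ∪ (N : Set Γ) ∪ C)⁆ ≤ N := by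
  classical
  set G0 : Set Γ := ({a, b} : Set Γ) ∪ (N : Set Γ) ∪ C with hG0
  set T : Subgroup Γ := Subgroup.closure G0 with hT
  have haN : a ∈ Subgroup.normalizer (N : Set Γ) := mem_normalizer_of_conj_mem N a ha
  have hbN : b ∈ Subgroup.normalizer (N : Set Γ) := mem_normalizer_of_conj_mem N b hb
  -- every element of `T` normalizes `N`
  have hTN : T ≤ Subgroup.normalizer (N : Set Γ) := by
    rw [hT, Subgroup.closure_le]
    rintro s ((hs | hs) | hs)
    · rcases hs with rfl | hs
      · exact haN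
      · rw [Set.mem_singleton_iff] at hs; subst hs; exact hbN
    · exact Subgroup.le_normalizer hs
    · rw [SetLike.mem_coe, Subgroup.mem_normalizer_iff]
      intro h
      have hc := hC s hs
      have : s * h * s⁻¹ = h := by
        rw [Subgroup.mem_center_iff] at hc
        rw [← hc h, mul_inv_cancel_right]
      rw [this]
  have conj_mem : ∀ t ∈ T, ∀ y ∈ N, t * y * t⁻¹ ∈ N := by
    intro t ht y hy
    exact (Subgroup.mem_normalizer_iff.mp (hTN ht) y).mp hy
  -- generators commute pairwise modulo `N`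
  have hgen : ∀ s ∈ G0, ∀ s' ∈ G0, s * s' * s⁻¹ * s'⁻¹ ∈ N := by
    intro s hs s' hs'
    have hsT : s ∈ T := Subgroup.subset_closure hs
    have hs'T : s' ∈ T := Subgroup.subset_closure hs'
    rcases hs with (hs | hs) | hs
    · rcases hs' with (hs' | hs') | hs'
      · -- both in {a, b}
        have hba : b * a * b⁻¹ * a⁻¹ ∈ N := by
          have : b * a * b⁻¹ * a⁻¹ = (⁅a, b⁆)⁻¹ := by
            rw [commutatorElement_def]; group
          rw [this]; exact N.inv_mem hab
        have hab' : a * b * a⁻¹ * b⁻¹ ∈ N := by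
          rw [← commutatorElement_def]; exact hab
        rcases hs with rfl | hs
        · rcases hs' with rfl | hs'
          · simp
          · rw [Set.mem_singleton_iff] at hs'; subst hs'; exact hab'
        · rw [Set.mem_singleton_iff] at hs; subst hs
          rcases hs' with rfl | hs'
          · exact hba
          · rw [Set.mem_singleton_iff] at hs'; subst hs'; simp
      · -- s' ∈ N
        exact N.mul_mem (conj_mem s hsT s' hs') (N.inv_mem hs')
      · -- s' central
        have hc := hC s' hs'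
        rw [Subgroup.mem_center_iff] at hc
        have : s * s' * s⁻¹ * s'⁻¹ = 1 := by
          rw [hc s, mul_inv_cancel_right, mul_inv_cancel]
        rw [this]; exact N.one_mem
    · -- s ∈ N
      have : s * s' * s⁻¹ * s'⁻¹ = s * (s' * s⁻¹ * s'⁻¹) := by group
      rw [this]
      exact N.mul_mem hs (conj_mem s' hs'T _ (N.inv_mem hs))
    · -- s central
      have hc := hC s hs
      rw [Subgroup.mem_center_iff] at hc
      have : s * s' * s⁻¹ * s'⁻¹ = 1 := by
        rw [← hc s', mul_inv_cancel_right, mul_inv_cancel]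
      rw [this]; exact N.one_mem
  have hcomm : ∀ s ∈ G0, ∀ q ∈ T, s * q * s⁻¹ * q⁻¹ ∈ N := by
    intro s hs q hq
    have hsT : s ∈ T := Subgroup.subset_closure hs
    induction hq using Subgroup.closure_induction with
    | mem x hx => exact hgen s hs x hx
    | one => simp
    | mul x y hx hy ihx ihy =>
      have e : s * (x * y) * s⁻¹ * (x * y)⁻¹
          = (s * x * s⁻¹ * x⁻¹) * (x * (s * y * s⁻¹ * y⁻¹) * x⁻¹) := by group
      rw [e]
      exact N.mul_mem ihx (conj_mem x hx _ ihy)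
    | inv x hx ihx =>
      have e : s * x⁻¹ * s⁻¹ * x⁻¹⁻¹ = x⁻¹ * (s * x * s⁻¹ * x⁻¹)⁻¹ * x⁻¹⁻¹ := by group
      rw [e]
      exact conj_mem x⁻¹ (T.inv_mem hx) _ (N.inv_mem ihx)
  have hcomm2 : ∀ p ∈ T, ∀ q ∈ T, p * q * p⁻¹ * q⁻¹ ∈ N := by
    intro p hp
    induction hp using Subgroup.closure_induction with
    | mem x hx => exact hcomm x hx
    | one => intro q _; simp
    | mul x y hx hy ihx ihy =>
      intro q hq
      have e : (x * y) * q * (x * y)⁻¹ * q⁻¹
          = x * (y * q * y⁻¹ * q⁻¹) * x⁻¹ * (x * q * x⁻¹ * q⁻¹) := by group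
      rw [e]
      exact N.mul_mem (conj_mem x hx _ (ihy q hq)) (ihx q hq)
    | inv x hx ihx =>
      intro q hq
      have e : x⁻¹ * q * x⁻¹⁻¹ * q⁻¹ = x⁻¹ * (x * q * x⁻¹ * q⁻¹)⁻¹ * x⁻¹⁻¹ := by group
      rw [e]
      exact conj_mem x⁻¹ (T.inv_mem hx) _ (N.inv_mem (ihx q hq))
  rw [Subgroup.commutator_le]
  intro p hp q hq
  rw [commutatorElement_def]
  exact hcomm2 p hp q hq

end Cfsg.Agent.Lib.Helper70_J2M_D1
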