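import Mathlib
import Cfsg.Prelude.Def_Sporadic
import Cfsg.Prelude.Def_Sporadic_a
import Cfsg.Agent.S0384

set_option autoImplicit false

open Cfsg
open scoped Pointwise

namespace Cfsg.Agent.Lib.Helper70_M11U_D1

/-- membership in the two-fold stabiliser, unfolded to permutations -/
theorem mem_H_iff (d : Finset GolayPt) (p : GolayPt) (g : M24) :
    g ∈ MulAction.stabilizer M24 d ⊓ MulAction.stabilizer M24 p ↔
      (∀ x, (g : Equiv.Perm GolayPt) x ∈ d ↔ x ∈ d) ∧ (g : Equiv.Perm GolayPt) p = p := by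
  rw [Subgroup.mem_inf, MulAction.mem_stabilizer_iff, MulAction.mem_stabilizer_iff]
  constructor
  · rintro ⟨h1, h2⟩
    refine ⟨?_, h2⟩
    intro x
    have h3 : (g : Equiv.Perm GolayPt) x ∈ g • d ↔ x ∈ d := by
      show (g : Equiv.Perm GolayPt) • x ∈ (g : Equiv.Perm GolayPt) • d ↔ x ∈ d
      exact Finset.smul_mem_smul_finset_iff _
    rw [h1] at h3
    exact h3
  · rintro ⟨h1, h2⟩
    refine ⟨?_, h2⟩
    show (g : Equiv.Perm GolayPt) • d = d
    ext x
    rw [← Finset.inv_smul_mem_iff, ← h1 ((g : Equiv.Perm GolayPt)⁻¹ • x)]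
    simp

theorem mem_stab_iff (d : Finset GolayPt) (g : M24) :
    g ∈ MulAction.stabilizer M24 d ↔ (∀ x, (g : Equiv.Perm GolayPt) x ∈ d ↔ x ∈ d) := by
  rw [MulAction.mem_stabilizer_iff]
  constructor
  · intro h1 x
    have h3 : (g : Equiv.Perm GolayPt) x ∈ g • d ↔ x ∈ d := by
      show (g : Equiv.Perm GolayPt) • x ∈ (g : Equiv.Perm GolayPt) • d ↔ x ∈ d
      exact Finset.smul_mem_smul_finset_iff _
    rw [h1] at h3
    exact h3
  · intro h1
    show (g : Equiv.Perm GolayPt) • d = d
    ext x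
    rw [← Finset.inv_smul_mem_iff, ← h1 ((g : Equiv.Perm GolayPt)⁻¹ • x)]
    simp

section main

variable (d : Finset GolayPt) (p : GolayPt)

/-- the stabiliser of the dodecad and of the point -/
abbrev HH : Subgroup M24 := MulAction.stabilizer M24 d ⊓ MulAction.stabilizer M24 p

theorem maps_erase (g : M24) (hg : g ∈ HH d p) (x : GolayPt) :
    (g : Equiv.Perm GolayPt) x ∈ d.erase p ↔ x ∈ d.erase p := by
  obtain ⟨h1, h2⟩ := (mem_H_iff d p g).1 hg
  rw [Finset.mem_erase, Finset.mem_erase, h1 x]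
  constructor
  · rintro ⟨h3, h4⟩
    refine ⟨?_, h4⟩
    rintro rfl
    exact h3 h2
  · rintro ⟨h3, h4⟩
    refine ⟨?_, h4⟩
    intro h5
    apply h3
    apply (g : Equiv.Perm GolayPt).injective
    rw [h5, h2]

/-- restriction to the eleven points -/
def restr : HH d p →* Equiv.Perm {x // x ∈ d.erase p} where
  toFun g := Equiv.Perm.subtypePerm ((g : M24) : Equiv.Perm GolayPt) (maps_erase d p g.1 g.2)
  map_one' := by
    apply Equiv.ext
    intro x
    apply Subtype.ext
    rfl
  map_mul' g h := by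
    apply Equiv.ext
    intro x
    apply Subtype.ext
    rfl

@[simp] theorem restr_apply (g : HH d p) (x : {x // x ∈ d.erase p}) :
    ((restr d p g) x : GolayPt) = ((g : M24) : Equiv.Perm GolayPt) x := rfl

/-- a 4-tuple of the eleven points, extended by `p` -/
def ext5 (x : Fin 4 ↪ {x // x ∈ d.erase p}) : Fin 5 ↪ GolayPt where
  toFun := Fin.cons p (fun i => ((x i : {x // x ∈ d.erase p}) : GolayPt))
  inj' := by
    rw [Fin.cons_injective_iff]
    constructor
    · rintro ⟨i, hi⟩
      have := (x i).2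
      rw [Finset.mem_erase] at this
      exact this.1 hi
    · intro i j hij
      exact x.injective (Subtype.ext hij)

theorem ext5_zero (x : Fin 4 ↪ {x // x ∈ d.erase p}) : ext5 d p x 0 = p := rfl

theorem ext5_succ (x : Fin 4 ↪ {x // x ∈ d.erase p}) (i : Fin 4) :
    ext5 d p x i.succ = ((x i : {x // x ∈ d.erase p}) : GolayPt) := rfl

theorem ext5_mem (hp : p ∈ d) (x : Fin 4 ↪ {x // x ∈ d.erase p}) (i : Fin 5) :
    ext5 d p x i ∈ d := by
  refine Fin.cases ?_ ?_ i
  · exact hp
  · intro j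
    rw [ext5_succ]
    exact Finset.mem_of_mem_erase (x j).2

variable {d p}

/-- an element of the stabiliser of `d` and `p` fixing four further points of `d` is trivial -/
theorem eq_one_of_fix (hd : d ∈ dodecads) (hp : p ∈ d) (g : HH d p)
    (x : Fin 4 ↪ {x // x ∈ d.erase p})
    (hfix : ∀ i, ((g : M24) : Equiv.Perm GolayPt) (x i) = x i) : g = 1 := by
  obtain ⟨g0, -, huniq⟩ := Cfsg.Agent.S0384.result d hd (ext5 d p x) (ext5 d p x)
    (ext5_mem d p hp x) (ext5_mem d p hp x)
  have hg : (g : M24) ∈ MulAction.stabilizer M24 d := (Subgroup.mem_inf.1 g.2).1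
  have h1 : (⟨(g : M24), hg⟩ : MulAction.stabilizer M24 d) = g0 := by
    apply huniq
    intro i
    refine Fin.cases ?_ ?_ i
    · exact ((mem_H_iff d p g.1).1 g.2).2
    · intro j
      rw [ext5_succ]
      exact hfix j
  have h2 : (1 : MulAction.stabilizer M24 d) = g0 := by
    apply huniq
    intro i
    rfl
  have h3 : (⟨(g : M24), hg⟩ : MulAction.stabilizer M24 d) = 1 := h1.trans h2.symm
  apply Subtype.ext
  exact congrArg (fun t : MulAction.stabilizer M24 d => (t : M24)) h3

theorem card_beta (hd : d ∈ dodecads) (hp : p ∈ d) :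
    Fintype.card {x // x ∈ d.erase p} = 11 := by
  rw [Fintype.card_coe, Finset.card_erase_of_mem hp, hd.2]

theorem restr_injective (hd : d ∈ dodecads) (hp : p ∈ d) :
    Function.Injective (restr d p) := by
  rw [injective_iff_map_eq_one]
  intro g hg
  have hcard : Fintype.card (Fin 4) ≤ Fintype.card {x // x ∈ d.erase p} := by
    rw [card_beta hd hp, Fintype.card_fin]
    norm_num
  obtain ⟨x⟩ := Function.Embedding.nonempty_of_card_le hcard
  apply eq_one_of_fix hd hp g x
  intro i
  have := restr_apply d p g (x i)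
  rw [hg] at this
  exact this.symm

end main

theorem D1 (d : Finset Cfsg.GolayPt) (hd : d ∈ Cfsg.dodecads) (p : Cfsg.GolayPt) (hp : p ∈ d) :
    ∃ (β : Type) (_ : Fintype β) (_ : DecidableEq β) (K' : Subgroup (Equiv.Perm β)),
      Fintype.card β = 11 ∧
      Nonempty (↥(MulAction.stabilizer Cfsg.M24 d ⊓ MulAction.stabilizer Cfsg.M24 p) ≃* K') ∧
      MulAction.IsMultiplyPretransitive K' β 4 ∧
      ∀ x : Fin 4 ↪ β, MulAction.stabilizer K' x = ⊥ := by
  refine ⟨{x // x ∈ d.erase p}, inferInstance, inferInstance, (restr d p).range, card_beta hd hp,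
    ⟨MonoidHom.ofInjective (restr_injective hd hp)⟩, ?_, ?_⟩
  · -- 4-transitivity
    refine ⟨fun x y => ?_⟩
    obtain ⟨g0, hg0, -⟩ := Cfsg.Agent.S0384.result d hd (ext5 d p x) (ext5 d p y)
      (ext5_mem d p hp x) (ext5_mem d p hp y)
    have hgH : (g0 : M24) ∈ HH d p := by
      rw [Subgroup.mem_inf]
      refine ⟨g0.2, ?_⟩
      rw [MulAction.mem_stabilizer_iff]
      exact hg0 0
    refine ⟨⟨restr d p ⟨(g0 : M24), hgH⟩, ⟨_, rfl⟩⟩, ?_⟩
    apply Function.Embedding.ext
    intro i
    apply Subtype.ext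
    show ((restr d p ⟨(g0 : M24), hgH⟩) (x i) : GolayPt) = y i
    rw [restr_apply]
    exact hg0 i.succ
  · -- sharpness
    intro x
    rw [Subgroup.eq_bot_iff_forall]
    rintro ⟨k, g, rfl⟩ hk
    rw [MulAction.mem_stabilizer_iff] at hk
    have hg : g = 1 := by
      apply eq_one_of_fix hd hp g x
      intro i
      have h1 := congrArg (fun f : Fin 4 ↪ {x // x ∈ d.erase p} => ((f i : {x // x ∈ d.erase p}) : GolayPt)) hk
      exact h1
    subst hg
    apply Subtype.ext
    exact map_one (restr d p)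

end Cfsg.Agent.Lib.Helper70_M11U_D1
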