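import Mathlib

set_option autoImplicit false
set_option linter.unusedSectionVars false
set_option linter.unusedSimpArgs false

namespace Cfsg.Agent.Lib.Helper70_NineDihedral

open Subgroup

section Mod

variable {S : Type*} [Group S] {M : Type*} [AddCommGroup M] [Module (ZMod 2) M]
  (ρ : Representation (ZMod 2) S M)

theorem rho_mul (g h : S) (m : M) : ρ (g * h) m = ρ g (ρ h m) := by
  rw [map_mul, Module.End.mul_apply]

theorem rho_rel {g h k l : S} (e : g * h = k * l) (m : M) : ρ g (ρ h m) = ρ k (ρ l m) := by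
  rw [← rho_mul, e, rho_mul]

theorem rho_one' (m : M) : ρ 1 m = m := by simp

theorem rho_inv_of_fix {g : S} {m : M} (h : ρ g m = m) : ρ g⁻¹ m = m := by
  conv_lhs => rw [← h]
  rw [← rho_mul, inv_mul_cancel, rho_one']

/-- invariance of a submodule under a set of generators gives invariance under everything. -/
theorem inv_of_gens [Finite S] (T : Set S) (hT : Subgroup.closure T = ⊤) (N : Submodule (ZMod 2) M)
    (h : ∀ g ∈ T, ∀ m ∈ N, ρ g m ∈ N) : ∀ g : S, ∀ m ∈ N, ρ g m ∈ N := by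
  intro g
  have hg : g ∈ Subgroup.closure T := by rw [hT]; trivial
  have hpow : ∀ (x : S), (∀ m ∈ N, ρ x m ∈ N) → ∀ n : ℕ, ∀ m ∈ N, ρ (x ^ n) m ∈ N := by
    intro x hx n
    induction n with
    | zero => intro m hm; simpa using hm
    | succ k ih => intro m hm; rw [pow_succ, rho_mul]; exact ih _ (hx m hm)
  induction hg using Subgroup.closure_induction with
  | mem x hx => exact h x hx
  | one => intro m hm; simpa using hm
  | mul x y _ _ hx hy => intro m hm; rw [rho_mul]; exact hx _ (hy m hm)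
  | inv x _ hx =>
    have : x⁻¹ = x ^ (orderOf x - 1) := by
      have h1 : 0 < orderOf x := orderOf_pos x
      rw [eq_comm, ← mul_eq_one_iff_eq_inv', ← pow_succ', Nat.sub_add_cancel h1, pow_orderOf_eq_one]
    rw [this]
    exact hpow x hx _

end Mod

section Op

variable {M : Type*} [AddCommGroup M] [Module (ZMod 2) M]
  (X Y R T : M →ₗ[ZMod 2] M)
  (hX3 : ∀ m, X (X (X m)) = m)
  (hY3 : ∀ m, Y (Y (Y m)) = m)
  (hXY : ∀ m, X (Y m) = Y (X m))
  (hRX : ∀ m, R (X m) = Y (R m))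
  (hRY : ∀ m, R (Y m) = X (X (R m)))
  (hTX : ∀ m, T (X m) = X (T m))
  (hTY : ∀ m, T (Y m) = Y (Y (T m)))
  (hTT : ∀ m, T (T m) = m)
  (hTR : ∀ m, T (R m) = R (R (R (T m))))
  (hR4 : ∀ m, R (R (R (R m))) = m)
  (hirr : ∀ N : Submodule (ZMod 2) M, (∀ m ∈ N, X m ∈ N) → (∀ m ∈ N, Y m ∈ N) →
    (∀ m ∈ N, R m ∈ N) → (∀ m ∈ N, T m ∈ N) → N = ⊥ ∨ N = ⊤)
  (hC0 : ∀ m, X m = m → Y m = m → m = 0)

include hX3 hRX hRY in
theorem op_ZX (m : M) : R (R (X m)) = X (X (R (R m))) := by
  rw [hRX, hRY]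

include hX3 hY3 hRX hRY in
theorem op_ZY (m : M) : R (R (Y m)) = Y (Y (R (R m))) := by
  rw [hRY, hRX, hRX]

include hX3 hY3 hRX hRY in
theorem op_XR (m : M) : X (R m) = R (Y (Y m)) := by
  rw [hRY, hRY, hX3]

include hR4 in
theorem op_ZZ (m : M) : R (R (R (R m))) = m := hR4 m

include hTR hR4 in
theorem op_TZ (m : M) : T (R (R m)) = R (R (T m)) := by
  rw [hTR, hTR, hR4]

include hX3 hY3 hXY hRX hRY hTX hTY hTT hTR hR4 hirr hC0 in
/-- induction lemma -/
theorem op_ind (U : Submodule (ZMod 2) M) (hUW : ∀ u ∈ U, X u = u) (hUY : ∀ u ∈ U, Y u ∈ U)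
    (hUZ : ∀ u ∈ U, R (R u) ∈ U) (hUT : ∀ u ∈ U, T u ∈ U) (hU : U ≠ ⊥) :
    (∀ w, X w = w → w ∈ U) ∧ U ⊔ U.map R = ⊤ := by
  have hN : U ⊔ U.map R = ⊤ := by
    have key : U ⊔ U.map R = ⊥ ∨ U ⊔ U.map R = ⊤ := by
      apply hirr (U ⊔ U.map R)
      all_goals intro m hm
      all_goals obtain ⟨u, hu, v, hv, rfl⟩ := Submodule.mem_sup.1 hm
      all_goals obtain ⟨u', hu', rfl⟩ := Submodule.mem_map.1 hv
      · rw [map_add, hUW u hu, op_XR X Y R hX3 hY3 hRX hRY]
        exact Submodule.add_mem _ (Submodule.mem_sup_left hu)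
          (Submodule.mem_sup_right (Submodule.mem_map_of_mem (hUY _ (hUY _ hu'))))
      · rw [map_add, ← hRX, hUW u' hu']
        exact Submodule.add_mem _ (Submodule.mem_sup_left (hUY _ hu))
          (Submodule.mem_sup_right (Submodule.mem_map_of_mem hu'))
      · rw [map_add, add_comm]
        exact Submodule.add_mem _ (Submodule.mem_sup_left (hUZ _ hu'))
          (Submodule.mem_sup_right (Submodule.mem_map_of_mem hu))
      · rw [map_add, hTR]
        exact Submodule.add_mem _ (Submodule.mem_sup_left (hUT _ hu))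
          (Submodule.mem_sup_right (Submodule.mem_map_of_mem (hUZ _ (hUT _ hu'))))
    rcases key with h | h
    · exact absurd (le_bot_iff.1 (le_sup_left.trans h.le)) hU
    · exact h
  refine ⟨?_, hN⟩
  intro w hw
  have hwN : w ∈ U ⊔ U.map R := by rw [hN]; trivial
  obtain ⟨u, hu, v, hv, huv⟩ := Submodule.mem_sup.1 hwN
  obtain ⟨u', hu', rfl⟩ := Submodule.mem_map.1 hv
  have hv0 : R u' = 0 := by
    apply hC0
    · have : R u' = w - u := by rw [← huv]; abel
      rw [this, map_sub, hw, hUW u hu]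
    · rw [← hRX, hUW u' hu']
  rw [hv0, add_zero] at huv
  rw [← huv]; exact hu

include hX3 hRX hRY in
theorem op_XZ_fix (m : M) (h : X m = m) : X (R (R m)) = R (R m) := by
  have h2 : R (R (X (X m))) = X (R (R m)) := by
    rw [op_ZX X Y R hX3 hRX hRY, op_ZX X Y R hX3 hRX hRY, hX3]
  rw [← h2, h, h]

/-- an involutive linear map preserving a nonzero invariant family has a nonzero fixed vector. -/
theorem exists_fix_of_invol (F : M →ₗ[ZMod 2] M) (hF : ∀ m, F (F m) = m) (P : M → Prop)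
    (hP : ∀ m, P m → P (F m)) (hadd : ∀ m n, P m → P n → P (m + n))
    (h : ∃ w, w ≠ 0 ∧ P w) : ∃ w, w ≠ 0 ∧ P w ∧ F w = w := by
  obtain ⟨w, hw0, hw⟩ := h
  by_cases hv : w + F w = 0
  · refine ⟨w, hw0, hw, ?_⟩
    have : F w = -w := by rw [eq_neg_iff_add_eq_zero, add_comm]; exact hv
    rw [this, ZModModule.neg_eq_self]
  · refine ⟨w + F w, hv, hadd _ _ hw (hP _ hw), ?_⟩
    rw [map_add, hF, add_comm]

include hX3 hY3 hXY hRX hRY hTX hTY hTT hTR hR4 hirr hC0 in
/-- step 4: `zs` acts trivially on the fixed space of `a1`. -/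
theorem op_step4 (hNZ : ∃ w, w ≠ 0 ∧ X w = w) : ∀ w, X w = w → R (R (T w)) = w := by
  set ZT : M →ₗ[ZMod 2] M := R ∘ₗ R ∘ₗ T with hZT
  have hZTapp : ∀ m, ZT m = R (R (T m)) := fun m => rfl
  have hTZ := op_TZ R T hTR hR4
  have hZTZT : ∀ m, ZT (ZT m) = m := by
    intro m
    rw [hZTapp, hZTapp, hTZ, hTT, hR4]
  set U : Submodule (ZMod 2) M := LinearMap.eqLocus X LinearMap.id ⊓ LinearMap.eqLocus ZT LinearMap.id
    with hUdef
  have hUmem : ∀ m, m ∈ U ↔ X m = m ∧ R (R (T m)) = m := by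
    intro m
    rw [hUdef, Submodule.mem_inf, LinearMap.mem_eqLocus, LinearMap.mem_eqLocus]
    simp [hZTapp]
  have hXfixZT : ∀ m, X m = m → X (ZT m) = ZT m := by
    intro m hm
    rw [hZTapp]
    apply op_XZ_fix X Y R hX3 hRX hRY
    rw [← hTX, hm]
  have hU0 : U ≠ ⊥ := by
    obtain ⟨w, hw0, hw, hwF⟩ := exists_fix_of_invol ZT hZTZT (fun m => X m = m) hXfixZT
      (fun m n hm hn => by rw [map_add, hm, hn]) hNZ
    intro hbot
    apply hw0
    have : w ∈ U := (hUmem w).2 ⟨hw, hwF⟩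
    rw [hbot] at this
    exact (Submodule.mem_bot _).1 this
  have key := op_ind X Y R T hX3 hY3 hXY hRX hRY hTX hTY hTT hTR hR4 hirr hC0 U
    (fun u hu => ((hUmem u).1 hu).1) ?_ ?_ ?_ hU0
  · intro w hw
    exact ((hUmem w).1 (key.1 w hw)).2
  · intro u hu
    obtain ⟨h1, h2⟩ := (hUmem u).1 hu
    refine (hUmem _).2 ⟨by rw [hXY, h1], ?_⟩
    rw [hTY, op_ZY X Y R hX3 hY3 hRX hRY, op_ZY X Y R hX3 hY3 hRX hRY, h2, hY3]
  · intro u hu
    obtain ⟨h1, h2⟩ := (hUmem u).1 hu
    refine (hUmem _).2 ⟨op_XZ_fix X Y R hX3 hRX hRY u h1, ?_⟩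
    rw [hTZ, h2]
  · intro u hu
    obtain ⟨h1, h2⟩ := (hUmem u).1 hu
    refine (hUmem _).2 ⟨by rw [← hTX, h1], ?_⟩
    rw [hTT]
    conv_rhs => rw [← h2]
    rw [hTZ, hTT]

theorem zmod2_cases (c : ZMod 2) : c = 0 ∨ c = 1 := by
  revert c; decide

include hX3 hY3 hXY hRX hRY hTX hTY hTT hTR hR4 hirr hC0 in
/-- steps 5-6: the explicit basis. -/
theorem op_basis (hNZ : ∃ w, w ≠ 0 ∧ X w = w) :
    ∃ (w : M) (b : Module.Basis (Fin 4) (ZMod 2) M), X w = w ∧ R (R w) = w ∧ T w = w ∧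
      Y (Y w) = w + Y w ∧ T (Y w) = w + Y w ∧ (b : Fin 4 → M) = ![w, Y w, R w, R (Y w)] := by
  have h4 := op_step4 X Y R T hX3 hY3 hXY hRX hRY hTX hTY hTT hTR hR4 hirr hC0 hNZ
  have hTW : ∀ w, X w = w → T w = R (R w) := by
    intro w hw
    have h := congrArg (fun v => R (R v)) (h4 w hw)
    simp only [hR4] at h
    exact h
  obtain ⟨w, hw0, hw, hwZ⟩ := exists_fix_of_invol (R ∘ₗ R) (by intro m; simp [hR4])
    (fun m => X m = m) (fun m hm => op_XZ_fix X Y R hX3 hRX hRY m hm)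
    (fun m n hm hn => by rw [map_add, hm, hn]) hNZ
  replace hwZ : R (R w) = w := hwZ
  have hXYw : X (Y w) = Y w := by rw [hXY, hw]
  have hYY : Y (Y w) = w + Y w := by
    have h0 : w + Y w + Y (Y w) = 0 := by
      apply hC0
      · rw [map_add, map_add, hXY (Y w), hXYw, hw]
      · rw [map_add, map_add, hY3]; abel
    have : Y (Y w) = -(w + Y w) := by
      rw [eq_neg_iff_add_eq_zero, add_comm]; exact h0
    rw [this, ZModModule.neg_eq_self]
  have hYw_ne : Y w ≠ w := by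
    intro h
    exact hw0 (hC0 w hw h)
  have hYw0 : Y w ≠ 0 := by
    intro h
    apply hw0
    have := hY3 w
    rw [h, map_zero, map_zero] at this
    exact this.symm
  have hsum0 : w + Y w ≠ 0 := by
    intro h
    apply hYw_ne
    have : Y w = -w := by rw [eq_neg_iff_add_eq_zero, add_comm]; exact h
    rw [this, ZModModule.neg_eq_self]
  have pair_indep : ∀ c d : ZMod 2, c • w + d • Y w = 0 → c = 0 ∧ d = 0 := by
    intro c d h
    rcases zmod2_cases c with rfl | rfl <;> rcases zmod2_cases d with rfl | rfl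
    · exact ⟨rfl, rfl⟩
    · simp at h; exact absurd h hYw0
    · simp at h; exact absurd h hw0
    · simp at h; exact absurd h hsum0
  have hTw : T w = w := by rw [hTW w hw, hwZ]
  have hZYw : R (R (Y w)) = w + Y w := by
    rw [op_ZY X Y R hX3 hY3 hRX hRY, hwZ, hYY]
  have hTYw : T (Y w) = w + Y w := by rw [hTW _ hXYw, hZYw]
  -- the span
  set U : Submodule (ZMod 2) M := Submodule.span (ZMod 2) {w, Y w} with hUdef
  have hUmem : ∀ u, u ∈ U ↔ ∃ c d : ZMod 2, c • w + d • Y w = u := by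
    intro u; rw [hUdef, Submodule.mem_span_pair]
  have hUX : ∀ u ∈ U, X u = u := by
    intro u hu
    obtain ⟨c, d, rfl⟩ := (hUmem u).1 hu
    rw [map_add, map_smul, map_smul, hw, hXYw]
  have hUY : ∀ u ∈ U, Y u ∈ U := by
    intro u hu
    obtain ⟨c, d, rfl⟩ := (hUmem u).1 hu
    refine (hUmem _).2 ⟨d, c + d, ?_⟩
    rw [map_add, map_smul, map_smul, hYY, smul_add, add_smul]; abel
  have hUZ : ∀ u ∈ U, R (R u) ∈ U := by
    intro u hu
    obtain ⟨c, d, rfl⟩ := (hUmem u).1 hu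
    refine (hUmem _).2 ⟨c + d, d, ?_⟩
    rw [map_add, map_smul, map_smul, map_add, map_smul, map_smul, hwZ, hZYw, smul_add, add_smul]
    abel
  have hUT : ∀ u ∈ U, T u ∈ U := by
    intro u hu
    rw [hTW u (hUX u hu)]
    exact hUZ u hu
  have hU0 : U ≠ ⊥ := by
    intro hbot
    apply hw0
    have : w ∈ U := (hUmem w).2 ⟨1, 0, by simp⟩
    rw [hbot] at this
    exact (Submodule.mem_bot _).1 this
  obtain ⟨key1, key2⟩ := op_ind X Y R T hX3 hY3 hXY hRX hRY hTX hTY hTT hTR hR4 hirr hC0 U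
    hUX hUY hUZ hUT hU0
  -- basis
  have li : LinearIndependent (ZMod 2) ![w, Y w, R w, R (Y w)] := by
    rw [Fintype.linearIndependent_iff]
    intro g hg
    rw [Fin.sum_univ_four] at hg
    simp only [Matrix.cons_val_zero, Matrix.cons_val_one, Matrix.cons_val] at hg
    have hpq : (g 0 • w + g 1 • Y w) + R (g 2 • w + g 3 • Y w) = 0 := by
      rw [map_add, map_smul, map_smul, ← hg]; abel
    have hp : g 0 • w + g 1 • Y w = R (g 2 • w + g 3 • Y w) := by
      have : g 0 • w + g 1 • Y w = -R (g 2 • w + g 3 • Y w) := by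
        rw [eq_neg_iff_add_eq_zero]; exact hpq
      rw [this, ZModModule.neg_eq_self]
    have hXp : X (g 0 • w + g 1 • Y w) = g 0 • w + g 1 • Y w := by
      rw [map_add, map_smul, map_smul, hw, hXYw]
    have hXq : X (g 2 • w + g 3 • Y w) = g 2 • w + g 3 • Y w := by
      rw [map_add, map_smul, map_smul, hw, hXYw]
    have hp0 : g 0 • w + g 1 • Y w = 0 := by
      apply hC0 _ hXp
      rw [hp, ← hRX, hXq]
    have hq0 : g 2 • w + g 3 • Y w = 0 := by
      have h1 : R (g 2 • w + g 3 • Y w) = 0 := by rw [← hp, hp0]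
      have h2 := hR4 (g 2 • w + g 3 • Y w)
      rw [h1, map_zero, map_zero, map_zero] at h2
      exact h2.symm
    obtain ⟨e0, e1⟩ := pair_indep _ _ hp0
    obtain ⟨e2, e3⟩ := pair_indep _ _ hq0
    intro i
    fin_cases i <;> assumption
  have sp : ⊤ ≤ Submodule.span (ZMod 2) (Set.range ![w, Y w, R w, R (Y w)]) := by
    rw [← key2]
    have m0 : w ∈ Submodule.span (ZMod 2) (Set.range ![w, Y w, R w, R (Y w)]) :=
      Submodule.subset_span ⟨0, rfl⟩
    have m1 : Y w ∈ Submodule.span (ZMod 2) (Set.range ![w, Y w, R w, R (Y w)]) :=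
      Submodule.subset_span ⟨1, rfl⟩
    have m2 : R w ∈ Submodule.span (ZMod 2) (Set.range ![w, Y w, R w, R (Y w)]) :=
      Submodule.subset_span ⟨2, rfl⟩
    have m3 : R (Y w) ∈ Submodule.span (ZMod 2) (Set.range ![w, Y w, R w, R (Y w)]) :=
      Submodule.subset_span ⟨3, rfl⟩
    apply sup_le
    · rw [hUdef, Submodule.span_le]
      intro x hx
      rcases hx with rfl | rfl
      · exact m0
      · exact m1
    · rw [hUdef, Submodule.map_span, Submodule.span_le]
      rintro x ⟨y, hy, rfl⟩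
      rcases hy with rfl | rfl
      · exact m2
      · exact m3
  refine ⟨w, Module.Basis.mk li sp, hw, hwZ, hTw, hYY, hTYw, ?_⟩
  exact Module.Basis.coe_mk li sp

include hX3 hY3 hXY hRX hRY hTX hTY hTT hTR hR4 hirr hC0 in
/-- step 7: the counts. -/
theorem op_main (hNZ : ∃ w, w ≠ 0 ∧ X w = w) :
    Nat.card M = 16 ∧ Nat.card {m : M // R (R m) = m ∧ R (T m) = m} = 2 ∧
      Nat.card {m : M // R (R m) = m ∧ T m = m} = 4 := by
  obtain ⟨w, b, hw, hwZ, hTw, hYY, hTYw, hb⟩ :=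
    op_basis X Y R T hX3 hY3 hXY hRX hRY hTX hTY hTT hTR hR4 hirr hC0 hNZ
  have hE : ∀ c : Fin 4 → ZMod 2,
      b.equivFun.symm c = c 0 • w + c 1 • Y w + c 2 • R w + c 3 • R (Y w) := by
    intro c
    rw [Module.Basis.equivFun_symm_apply, Fin.sum_univ_four, hb]
    simp [add_assoc]
  have hZYw : R (R (Y w)) = w + Y w := by
    rw [op_ZY X Y R hX3 hY3 hRX hRY, hwZ, hYY]
  have hZRw : R (R (R w)) = R w := by rw [hwZ]
  have hZRYw : R (R (R (Y w))) = R w + R (Y w) := by rw [hZYw, map_add]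
  have hTRw : T (R w) = R w := by rw [hTR, hTw, hwZ]
  have hTRYw : T (R (Y w)) = R (Y w) := by
    rw [hTR, hTYw, map_add, map_add, hwZ, hZYw, map_add, map_add, ← add_assoc,
      ZModModule.add_self, zero_add]
  have hZE : ∀ c : Fin 4 → ZMod 2, R (R (b.equivFun.symm c)) =
      b.equivFun.symm ![c 0 + c 1, c 1, c 2 + c 3, c 3] := by
    intro c
    rw [hE, hE]
    simp only [map_add, map_smul, hwZ, hZYw, hZRw, hZRYw, Matrix.cons_val_zero,
      Matrix.cons_val_one, Matrix.cons_val, smul_add, add_smul]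
    abel
  have hTE : ∀ c : Fin 4 → ZMod 2, T (b.equivFun.symm c) =
      b.equivFun.symm ![c 0 + c 1, c 1, c 2, c 3] := by
    intro c
    rw [hE, hE]
    simp only [map_add, map_smul, hTw, hTYw, hTRw, hTRYw, Matrix.cons_val_zero,
      Matrix.cons_val_one, Matrix.cons_val, smul_add, add_smul]
    abel
  have hRTE : ∀ c : Fin 4 → ZMod 2, R (T (b.equivFun.symm c)) =
      b.equivFun.symm ![c 2 + c 3, c 3, c 0 + c 1, c 1] := by
    intro c
    rw [hTE, hE, hE]
    simp only [map_add, map_smul, hwZ, hZYw, Matrix.cons_val_zero,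
      Matrix.cons_val_one, Matrix.cons_val, smul_add, add_smul]
    abel
  refine ⟨?_, ?_, ?_⟩
  · rw [Nat.card_congr b.equivFun.toEquiv, Nat.card_eq_fintype_card]
    decide
  · have e : {m : M // R (R m) = m ∧ R (T m) = m} ≃
        {c : Fin 4 → ZMod 2 // ![c 0 + c 1, c 1, c 2 + c 3, c 3] = c ∧
          ![c 2 + c 3, c 3, c 0 + c 1, c 1] = c} := by
      refine b.equivFun.toEquiv.subtypeEquiv ?_
      intro m
      obtain ⟨c, rfl⟩ := b.equivFun.symm.surjective m
      rw [hZE, hRTE]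
      simp only [LinearEquiv.coe_toEquiv, LinearEquiv.apply_symm_apply,
        EmbeddingLike.apply_eq_iff_eq]
    rw [Nat.card_congr e, Nat.card_eq_fintype_card]
    decide
  · have e : {m : M // R (R m) = m ∧ T m = m} ≃
        {c : Fin 4 → ZMod 2 // ![c 0 + c 1, c 1, c 2 + c 3, c 3] = c ∧
          ![c 0 + c 1, c 1, c 2, c 3] = c} := by
      refine b.equivFun.toEquiv.subtypeEquiv ?_
      intro m
      obtain ⟨c, rfl⟩ := b.equivFun.symm.surjective m
      rw [hZE, hTE]
      simp only [LinearEquiv.coe_toEquiv, LinearEquiv.apply_symm_apply,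
        EmbeddingLike.apply_eq_iff_eq]
    rw [Nat.card_congr e, Nat.card_eq_fintype_card]
    decide

end Op
structure NDConfig {S : Type*} [Group S] (a1 a2 r s : S) : Prop where
  h1 : a1 * (a1 * a1) = 1
  h2 : a2 * (a2 * a2) = 1
  hc : a2 * a1 = a1 * a2
  hr1 : r * a1 = a2 * r
  hr2 : r * a2 = a1 * (a1 * r)
  hs1 : s * a1 = a1 * s
  hs2 : s * a2 = a2 * (a2 * s)
  hss : s * s = 1
  hsr : s * r = r * (r * (r * s))
  hr4 : r * (r * (r * r)) = 1

namespace NDConfig

variable {S : Type*} [Group S] {a1 a2 r s : S} (h : NDConfig a1 a2 r s)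

include h

theorem h1' (x : S) : a1 * (a1 * (a1 * x)) = x := by
  rw [← mul_assoc, ← mul_assoc, mul_assoc a1 a1 a1, h.h1, one_mul]
theorem h2' (x : S) : a2 * (a2 * (a2 * x)) = x := by
  rw [← mul_assoc, ← mul_assoc, mul_assoc a2 a2 a2, h.h2, one_mul]
theorem hc' (x : S) : a2 * (a1 * x) = a1 * (a2 * x) := by
  rw [← mul_assoc, h.hc, mul_assoc]
theorem hr1' (x : S) : r * (a1 * x) = a2 * (r * x) := by
  rw [← mul_assoc, h.hr1, mul_assoc]
theorem hr2' (x : S) : r * (a2 * x) = a1 * (a1 * (r * x)) := by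
  rw [← mul_assoc, h.hr2, mul_assoc, mul_assoc]
theorem hs1' (x : S) : s * (a1 * x) = a1 * (s * x) := by
  rw [← mul_assoc, h.hs1, mul_assoc]
theorem hs2' (x : S) : s * (a2 * x) = a2 * (a2 * (s * x)) := by
  rw [← mul_assoc, h.hs2, mul_assoc, mul_assoc]
theorem hss' (x : S) : s * (s * x) = x := by
  rw [← mul_assoc, h.hss, one_mul]
theorem hsr' (x : S) : s * (r * x) = r * (r * (r * (s * x))) := by
  rw [← mul_assoc, h.hsr, mul_assoc, mul_assoc, mul_assoc]
theorem hr4' (x : S) : r * (r * (r * (r * x))) = x := by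
  rw [← mul_assoc, ← mul_assoc, ← mul_assoc, mul_assoc (r * r) r r, mul_assoc r r (r * r), h.hr4,
    one_mul]

theorem swap : NDConfig (a1 * a2) (a2 * (a1 * a1)) r (r * s) := by
  constructor <;>
  simp only [mul_assoc, h.h1, h.h2, h.hc, h.hr1, h.hr2, h.hs1, h.hs2, h.hss, h.hsr, h.hr4,
    h.h1', h.h2', h.hc', h.hr1', h.hr2', h.hs1', h.hs2', h.hss', h.hsr', h.hr4', mul_one, one_mul]

end NDConfig

theorem op_exists_fix {M : Type*} [AddCommGroup M] [Module (ZMod 2) M] [Nontrivial M]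
    (X Y : M →ₗ[ZMod 2] M)
    (hX3 : ∀ m, X (X (X m)) = m)
    (hY3 : ∀ m, Y (Y (Y m)) = m)
    (hYX : ∀ m, Y (X m) = X (Y m))
    (hC0 : ∀ m, X m = m → Y m = m → m = 0) :
    ∃ w, w ≠ 0 ∧ (X w = w ∨ Y w = w ∨ X (Y w) = w ∨ X (X (Y w)) = w) := by
  obtain ⟨m, hm⟩ := exists_ne (0 : M)
  by_contra hcon
  push Not at hcon
  have n1 : m + X m + X (X m) = 0 := by
    by_contra h0
    refine (hcon _ h0).1 ?_
    simp only [map_add, hX3]; abel
  have n2 : m + Y m + Y (Y m) = 0 := by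
    by_contra h0
    refine (hcon _ h0).2.1 ?_
    simp only [map_add, hY3]; abel
  have n3 : m + X (Y m) + X (X (Y (Y m))) = 0 := by
    by_contra h0
    refine (hcon _ h0).2.2.1 ?_
    simp only [map_add, hYX, hX3, hY3]; abel
  have n4 : m + X (X (Y m)) + X (Y (Y m)) = 0 := by
    by_contra h0
    refine (hcon _ h0).2.2.2 ?_
    simp only [map_add, hYX, hX3, hY3]; abel
  have nA : m + X m + X (X m) + (Y m + X (Y m) + X (X (Y m))) +
      (Y (Y m) + X (Y (Y m)) + X (X (Y (Y m)))) = 0 := by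
    apply hC0
    · simp only [map_add, hYX, hX3, hY3]; abel
    · simp only [map_add, hYX, hX3, hY3]; abel
  apply hm
  have e : m = (m + X m + X (X m)) + (m + Y m + Y (Y m)) + (m + X (Y m) + X (X (Y (Y m)))) +
      (m + X (X (Y m)) + X (Y (Y m))) + (m + X m + X (X m) + (Y m + X (Y m) + X (X (Y m))) +
      (Y (Y m) + X (Y (Y m)) + X (X (Y (Y m))))) - 2 • (m + m + X m + X (X m) + Y m + Y (Y m) +
      X (Y m) + X (X (Y (Y m))) + X (X (Y m)) + X (Y (Y m))) := by
    abel
  rw [ZModModule.char_nsmul_eq_zero 2, sub_zero] at e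
  rw [e, nA, n1, n2, n3, n4]; simp


section Main

variable {S : Type*} [Group S] [Finite S] {M : Type*} [AddCommGroup M] [Module (ZMod 2) M]
  (ρ : Representation (ZMod 2) S M)

/-- The main module-theoretic result for one configuration. -/
theorem main_config {a1 a2 r s : S} (h : NDConfig a1 a2 r s)
    (hgen : Subgroup.closure {a1, a2, r, s} = ⊤)
    (hirr : ∀ N : Submodule (ZMod 2) M, (∀ g : S, ∀ m ∈ N, ρ g m ∈ N) → N = ⊥ ∨ N = ⊤)
    (hC0 : ∀ m, ρ a1 m = m → ρ a2 m = m → m = 0)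
    (hNZ : ∃ w, w ≠ 0 ∧ (ρ a1 w = w ∨ ρ a2 w = w)) :
    Nat.card M = 16 ∧ Nat.card {m : M // ρ (r * r) m = m ∧ ρ (r * s) m = m} = 2 ∧
      Nat.card {m : M // ρ (r * r) m = m ∧ ρ s m = m} = 4 := by
  have hX3 : ∀ m, ρ a1 (ρ a1 (ρ a1 m)) = m := by
    intro m; rw [← rho_mul, ← rho_mul, mul_assoc, h.h1, rho_one']
  have hY3 : ∀ m, ρ a2 (ρ a2 (ρ a2 m)) = m := by
    intro m; rw [← rho_mul, ← rho_mul, mul_assoc, h.h2, rho_one']
  have hXY : ∀ m, ρ a1 (ρ a2 m) = ρ a2 (ρ a1 m) := fun m => (rho_rel ρ h.hc m).symm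
  have hRX : ∀ m, ρ r (ρ a1 m) = ρ a2 (ρ r m) := fun m => rho_rel ρ h.hr1 m
  have hRY : ∀ m, ρ r (ρ a2 m) = ρ a1 (ρ a1 (ρ r m)) := by
    intro m; rw [← rho_mul, h.hr2, rho_mul, rho_mul]
  have hTX : ∀ m, ρ s (ρ a1 m) = ρ a1 (ρ s m) := fun m => rho_rel ρ h.hs1 m
  have hTY : ∀ m, ρ s (ρ a2 m) = ρ a2 (ρ a2 (ρ s m)) := by
    intro m; rw [← rho_mul, h.hs2, rho_mul, rho_mul]
  have hTT : ∀ m, ρ s (ρ s m) = m := by
    intro m; rw [← rho_mul, h.hss, rho_one']
  have hTR : ∀ m, ρ s (ρ r m) = ρ r (ρ r (ρ r (ρ s m))) := by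
    intro m; rw [← rho_mul, h.hsr, rho_mul, rho_mul, rho_mul]
  have hR4 : ∀ m, ρ r (ρ r (ρ r (ρ r m))) = m := by
    intro m; rw [← rho_mul, ← rho_mul, ← rho_mul, mul_assoc, mul_assoc, h.hr4, rho_one']
  have hirr' : ∀ N : Submodule (ZMod 2) M, (∀ m ∈ N, ρ a1 m ∈ N) → (∀ m ∈ N, ρ a2 m ∈ N) →
      (∀ m ∈ N, ρ r m ∈ N) → (∀ m ∈ N, ρ s m ∈ N) → N = ⊥ ∨ N = ⊤ := by
    intro N n1 n2 n3 n4
    apply hirr N
    apply inv_of_gens ρ _ hgen N
    intro g hg
    simp only [Set.mem_insert_iff, Set.mem_singleton_iff] at hg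
    rcases hg with rfl | rfl | rfl | rfl <;> assumption
  have hNZ' : ∃ w, w ≠ 0 ∧ ρ a1 w = w := by
    obtain ⟨w, hw0, hw | hw⟩ := hNZ
    · exact ⟨w, hw0, hw⟩
    · refine ⟨ρ r w, ?_, ?_⟩
      · intro h0
        apply hw0
        have := hR4 w
        rw [h0, map_zero, map_zero, map_zero] at this
        exact this.symm
      · rw [op_XR (ρ a1) (ρ a2) (ρ r) hX3 hY3 hRX hRY, hw, hw]
  have key := op_main (ρ a1) (ρ a2) (ρ r) (ρ s) hX3 hY3 hXY hRX hRY hTX hTY hTT hTR hR4 hirr'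
    hC0 hNZ'
  simpa only [rho_mul] using key


/-- Both configurations together. -/
theorem main_both [Nontrivial M] {a1 a2 r s : S} (h : NDConfig a1 a2 r s)
    (hgen : Subgroup.closure {a1, a2, r, s} = ⊤)
    (hirr : ∀ N : Submodule (ZMod 2) M, (∀ g : S, ∀ m ∈ N, ρ g m ∈ N) → N = ⊥ ∨ N = ⊤)
    (hC0 : ∀ m, ρ a1 m = m → ρ a2 m = m → m = 0) :
    Nat.card M = 16 ∧
      ((Nat.card {m : M // ρ (r * r) m = m ∧ ρ (r * s) m = m} = 2 ∧
        Nat.card {m : M // ρ (r * r) m = m ∧ ρ s m = m} = 4) ∨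
       (Nat.card {m : M // ρ (r * r) m = m ∧ ρ (r * s) m = m} = 4 ∧
        Nat.card {m : M // ρ (r * r) m = m ∧ ρ s m = m} = 2)) := by
  have hX3 : ∀ m, ρ a1 (ρ a1 (ρ a1 m)) = m := by
    intro m; rw [← rho_mul, ← rho_mul, mul_assoc, h.h1, rho_one']
  have hY3 : ∀ m, ρ a2 (ρ a2 (ρ a2 m)) = m := by
    intro m; rw [← rho_mul, ← rho_mul, mul_assoc, h.h2, rho_one']
  have hYX : ∀ m, ρ a2 (ρ a1 m) = ρ a1 (ρ a2 m) := fun m => rho_rel ρ h.hc m
  obtain ⟨w, hw0, hw⟩ := op_exists_fix (ρ a1) (ρ a2) hX3 hY3 hYX hC0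
  have case1 : (ρ a1 w = w ∨ ρ a2 w = w) → Nat.card M = 16 ∧
      ((Nat.card {m : M // ρ (r * r) m = m ∧ ρ (r * s) m = m} = 2 ∧
        Nat.card {m : M // ρ (r * r) m = m ∧ ρ s m = m} = 4) ∨
       (Nat.card {m : M // ρ (r * r) m = m ∧ ρ (r * s) m = m} = 4 ∧
        Nat.card {m : M // ρ (r * r) m = m ∧ ρ s m = m} = 2)) := by
    intro hw'
    obtain ⟨k1, k2, k3⟩ := main_config ρ h hgen hirr hC0 ⟨w, hw0, hw'⟩
    exact ⟨k1, Or.inl ⟨k2, k3⟩⟩
  have case2 : (ρ (a1 * a2) w = w ∨ ρ (a2 * (a1 * a1)) w = w) → Nat.card M = 16 ∧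
      ((Nat.card {m : M // ρ (r * r) m = m ∧ ρ (r * s) m = m} = 2 ∧
        Nat.card {m : M // ρ (r * r) m = m ∧ ρ s m = m} = 4) ∨
       (Nat.card {m : M // ρ (r * r) m = m ∧ ρ (r * s) m = m} = 4 ∧
        Nat.card {m : M // ρ (r * r) m = m ∧ ρ s m = m} = 2)) := by
    intro hw'
    have hgen' : Subgroup.closure {a1 * a2, a2 * (a1 * a1), r, r * s} = ⊤ := by
      rw [eq_top_iff, ← hgen, Subgroup.closure_le]
      have m1 : a1 * a2 ∈ Subgroup.closure {a1 * a2, a2 * (a1 * a1), r, r * s} :=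
        Subgroup.subset_closure (by simp)
      have m2 : a2 * (a1 * a1) ∈ Subgroup.closure {a1 * a2, a2 * (a1 * a1), r, r * s} :=
        Subgroup.subset_closure (by simp)
      have m3 : r ∈ Subgroup.closure {a1 * a2, a2 * (a1 * a1), r, r * s} :=
        Subgroup.subset_closure (by simp)
      have m4 : r * s ∈ Subgroup.closure {a1 * a2, a2 * (a1 * a1), r, r * s} :=
        Subgroup.subset_closure (by simp)
      have m5 : s ∈ Subgroup.closure {a1 * a2, a2 * (a1 * a1), r, r * s} := by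
        have := Subgroup.mul_mem _ (Subgroup.inv_mem _ m3) m4
        simpa using this
      have m6 : a2 ∈ Subgroup.closure {a1 * a2, a2 * (a1 * a1), r, r * s} := by
        have h6 : (a1 * a2 * (a2 * (a1 * a1))) * (a1 * a2 * (a2 * (a1 * a1))) = a2 := by
          simp only [mul_assoc, h.h1, h.h2, h.hc, h.h1', h.h2', h.hc', mul_one, one_mul]
        have hm := Subgroup.mul_mem _ (Subgroup.mul_mem _ m1 m2) (Subgroup.mul_mem _ m1 m2)
        rw [h6] at hm
        exact hm
      have m7 : a1 ∈ Subgroup.closure {a1 * a2, a2 * (a1 * a1), r, r * s} := by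
        have := Subgroup.mul_mem _ m1 (Subgroup.inv_mem _ m6)
        simpa using this
      intro x hx
      simp only [Set.mem_insert_iff, Set.mem_singleton_iff] at hx
      rcases hx with rfl | rfl | rfl | rfl <;> assumption
    have hC0' : ∀ m, ρ (a1 * a2) m = m → ρ (a2 * (a1 * a1)) m = m → m = 0 := by
      intro m e1 e2
      have e3 : ρ a2 m = m := by
        have h6 : (a1 * a2 * (a2 * (a1 * a1))) * (a1 * a2 * (a2 * (a1 * a1))) = a2 := by
          simp only [mul_assoc, h.h1, h.h2, h.hc, h.h1', h.h2', h.hc', mul_one, one_mul]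
        have e5 : ρ ((a1 * a2 * (a2 * (a1 * a1))) * (a1 * a2 * (a2 * (a1 * a1)))) m = m := by
          simp only [rho_mul ρ (a1 * a2), rho_mul ρ (a1 * a2 * (a2 * (a1 * a1))), e1, e2]
        rw [h6] at e5
        exact e5
      have e4 : ρ a1 m = m := by
        rw [rho_mul, e3] at e1; exact e1
      exact hC0 m e4 e3
    have hNZ' : ∃ w, w ≠ 0 ∧ (ρ (a1 * a2) w = w ∨ ρ (a2 * (a1 * a1)) w = w) := ⟨w, hw0, hw'⟩
    obtain ⟨k1, k2, k3⟩ := main_config ρ h.swap hgen' hirr hC0' hNZ'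
    refine ⟨k1, Or.inr ⟨k3, ?_⟩⟩
    refine Eq.trans ?_ k2
    apply Nat.card_congr
    apply Equiv.subtypeEquivRight
    intro m
    constructor
    · rintro ⟨e1, e2⟩
      refine ⟨e1, ?_⟩
      rw [rho_mul ρ r (r * s), rho_mul ρ r s, ← rho_mul ρ r r, e2, e1]
    · rintro ⟨e1, e2⟩
      refine ⟨e1, ?_⟩
      rw [rho_mul ρ r (r * s), rho_mul ρ r s, ← rho_mul ρ r r] at e2
      have e3 : ρ (r * r) (ρ (r * r) (ρ s m)) = ρ s m := by
        rw [← rho_mul, show r * r * (r * r) = 1 by rw [mul_assoc]; exact h.hr4, rho_one']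
      rw [← e3, e2, e1]
  rcases hw with hw | hw | hw | hw
  · exact case1 (Or.inl hw)
  · exact case1 (Or.inr hw)
  · exact case2 (Or.inl (by rw [rho_mul]; exact hw))
  · refine case2 (Or.inr ?_)
    rw [show a2 * (a1 * a1) = a1 * (a1 * a2) by
      simp only [mul_assoc, h.hc, h.hc'], rho_mul, rho_mul]
    exact hw

end Main

section GroupA

variable {S : Type*} [Group S] [Finite S] (A : Subgroup S) [A.Normal]
  (hcomm : ∀ a ∈ A, ∀ b ∈ A, a * b = b * a) (hexp : ∀ a ∈ A, a ^ 3 = 1)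
  (hA9 : Nat.card ↥A = 9)

include hA9 in
theorem card_sub_nine (H : Subgroup S) (hH : H ≤ A) :
    Nat.card H = 1 ∨ Nat.card H = 3 ∨ Nat.card H = 9 := by
  have hd : Nat.card H ∣ 9 := by
    rw [← hA9]; exact Subgroup.card_dvd_of_le hH
  have h9 : (9 : ℕ) = 3 ^ 2 := by norm_num
  rw [h9, Nat.dvd_prime_pow Nat.prime_three] at hd
  obtain ⟨k, hk, hk'⟩ := hd
  interval_cases k <;> simp_all

include hexp in
theorem mem_of_card_three (H : Subgroup S) (hH : H ≤ A) (h3 : Nat.card H = 3) (d : S) (hd : d ∈ H)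
    (hd1 : d ≠ 1) (x : S) (hx : x ∈ H) : x = 1 ∨ x = d ∨ x = d * d := by
  have : Fact (Nat.Prime 3) := ⟨Nat.prime_three⟩
  have hz : Subgroup.zpowers (⟨d, hd⟩ : H) = ⊤ := by
    apply zpowers_eq_top_of_prime_card (p := 3) h3
    intro h; apply hd1; exact congrArg Subtype.val h
  have hxz : (⟨x, hx⟩ : H) ∈ Subgroup.zpowers (⟨d, hd⟩ : H) := by rw [hz]; trivial
  obtain ⟨k, hk⟩ := Subgroup.mem_zpowers_iff.1 hxz
  have hk' : d ^ k = x := by
    have := congrArg Subtype.val hk
    simpa using this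
  have hd3 : d ^ (3 : ℤ) = 1 := by
    have := hexp d (hH hd)
    exact_mod_cast this
  have hmod : d ^ k = d ^ (k % 3) := by
    conv_lhs => rw [← Int.emod_add_mul_ediv k 3, zpow_add, zpow_mul, hd3, one_zpow, mul_one]
  have h0 : 0 ≤ k % 3 := Int.emod_nonneg k (by norm_num)
  have h2 : k % 3 < 3 := Int.emod_lt_of_pos k (by norm_num)
  rw [hmod] at hk'
  interval_cases (k % 3)
  · left; simpa using hk'.symm
  · right; left; simpa using hk'.symm
  · right; right; rw [← hk']; exact zpow_two d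

include hcomm hexp hA9 in
/-- An element `r` of order 4 normalising `A`, whose square does not centralise `A`,
has its square inverting `A`. -/
theorem sq_inverts (r : S) (hr4 : r * (r * (r * r)) = 1)
    (hz : ¬ ∀ a ∈ A, (r * r) * a * (r * r)⁻¹ = a) :
    ∀ a ∈ A, (r * r) * a * (r * r)⁻¹ = a⁻¹ := by
  have hzz : (r * r) * (r * r) = 1 := by rw [mul_assoc]; exact hr4
  have hzinv : (r * r)⁻¹ = r * r := inv_eq_of_mul_eq_one_left hzz
  have hnorm : ∀ g : S, ∀ a ∈ A, g * a * g⁻¹ ∈ A := fun g a ha =>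
    Subgroup.Normal.conj_mem inferInstance a ha g
  let D : Subgroup S :=
    { carrier := {a | a ∈ A ∧ (r * r) * a * (r * r)⁻¹ = a⁻¹}
      one_mem' := ⟨A.one_mem, by simp⟩
      mul_mem' := by
        rintro a b ⟨ha, ha'⟩ ⟨hb, hb'⟩
        refine ⟨A.mul_mem ha hb, ?_⟩
        rw [← conj_mul, ha', hb', mul_inv_rev, hcomm a⁻¹ (A.inv_mem ha) b⁻¹ (A.inv_mem hb)]
      inv_mem' := by
        rintro a ⟨ha, ha'⟩
        refine ⟨A.inv_mem ha, ?_⟩
        rw [← conj_inv, ha'] }
  have hDmem : ∀ a, a ∈ D ↔ a ∈ A ∧ (r * r) * a * (r * r)⁻¹ = a⁻¹ := fun a => Iff.rfl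
  have hDA : D ≤ A := fun a ha => ha.1
  rcases card_sub_nine A hA9 D hDA with h | h | h
  · -- D trivial: then z centralises A
    exfalso; apply hz
    intro a ha
    have hD1 : D = ⊥ := Subgroup.card_eq_one.1 h
    set b := (r * r) * a * (r * r)⁻¹ with hb
    have hbA : b ∈ A := hnorm _ a ha
    have hmem : a * b⁻¹ ∈ D := by
      refine ⟨A.mul_mem ha (A.inv_mem hbA), ?_⟩
      have e1 : (r * r) * (a * b⁻¹) * (r * r)⁻¹ = b * ((r * r) * b * (r * r)⁻¹)⁻¹ := by
        rw [← conj_mul, ← conj_inv]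
      have e2 : (r * r) * b * (r * r)⁻¹ = a := by
        rw [hb, hzinv]
        have : r * r * (r * r * a * (r * r)) * (r * r) =
            ((r * r) * (r * r)) * a * ((r * r) * (r * r)) := by
          simp only [mul_assoc]
        rw [this, hzz, one_mul, mul_one]
      rw [e1, e2, mul_inv_rev, inv_inv]
    rw [hD1, Subgroup.mem_bot] at hmem
    have : a = b := by
      have := mul_inv_eq_one.1 hmem
      exact this
    exact this.symm
  · -- D of order 3: impossible
    exfalso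
    have hne : D ≠ ⊥ := by
      intro hbot
      rw [hbot, Subgroup.card_bot] at h
      norm_num at h
    obtain ⟨d, hd1⟩ := (Subgroup.ne_bot_iff_exists_ne_one).1 hne
    obtain ⟨d, hdD'⟩ := d
    have hd1' : d ≠ 1 := fun e => hd1 (Subtype.ext e)
    have hdA : d ∈ A := hdD'.1
    have hdz : (r * r) * d * (r * r)⁻¹ = d⁻¹ := hdD'.2
    have hrd : r * d * r⁻¹ ∈ D := by
      refine ⟨hnorm r d hdA, ?_⟩
      have : (r * r) * (r * d * r⁻¹) * (r * r)⁻¹ = r * ((r * r) * d * (r * r)⁻¹) * r⁻¹ := by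
        simp only [mul_assoc, mul_inv_rev]
      rw [this, hdz, conj_inv]
    have hzd : (r * r) * d * (r * r)⁻¹ = r * (r * d * r⁻¹) * r⁻¹ := by
      simp only [mul_assoc, mul_inv_rev]
    have hd3 : d * d * d = 1 := by
      have := hexp d hdA
      rw [pow_succ, pow_two] at this; exact this
    have hfix : (r * r) * d * (r * r)⁻¹ = d → False := by
      intro hfix
      rw [hdz] at hfix
      -- d⁻¹ = d → d * d = 1 → d = 1
      have h2 : d * d = 1 := by
        calc d * d = d⁻¹ * d := by rw [hfix]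
          _ = 1 := inv_mul_cancel d
      rw [h2, one_mul] at hd3
      exact hd1' hd3
    rcases mem_of_card_three A hexp D hDA h d hdD' hd1' (r * d * r⁻¹) hrd with e | e | e
    · apply hd1'
      have : d = r⁻¹ * (r * d * r⁻¹) * r := by
        simp only [mul_assoc, inv_mul_cancel_left, inv_mul_cancel, mul_one]
      rw [this, e, mul_one, inv_mul_cancel]
    · apply hfix
      rw [hzd, e, e]
    · apply hfix
      rw [hzd, e]
      rw [← conj_mul, e]
      calc d * d * (d * d) = (d * d * d) * d := by simp only [mul_assoc]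
        _ = d := by rw [hd3, one_mul]
  · -- D = A
    have hDeq : D = A := Subgroup.eq_of_le_of_card_ge hDA (by rw [h, hA9])
    intro a ha
    have : a ∈ D := by rw [hDeq]; exact ha
    exact this.2

include hcomm hexp hA9 in
theorem exists_config (X : Subgroup S) (r s : S) (hrX : r ∈ X) (hsX : s ∈ X)
    (hr4 : r * (r * (r * r)) = 1) (hss : s * s = 1) (hsr : s * r = r * (r * (r * s)))
    (hz1 : r * r ≠ 1)
    (hfaith : ∀ x ∈ X, (∀ a ∈ A, x * a * x⁻¹ = a) → x = 1) :
    ∃ a1 ∈ A, a1 ≠ 1 ∧ NDConfig a1 (r * a1 * r⁻¹) r s ∧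
      A ≤ Subgroup.closure {a1, r * a1 * r⁻¹} := by
  have hnorm : ∀ g : S, ∀ a ∈ A, g * a * g⁻¹ ∈ A := fun g a ha =>
    Subgroup.Normal.conj_mem inferInstance a ha g
  have hzz : (r * r) * (r * r) = 1 := by rw [mul_assoc]; exact hr4
  have hzinv : (r * r)⁻¹ = r * r := inv_eq_of_mul_eq_one_left hzz
  have hsinv : s⁻¹ = s := inv_eq_of_mul_eq_one_left hss
  have hzA : ∀ a ∈ A, (r * r) * a * (r * r)⁻¹ = a⁻¹ := by
    apply sq_inverts A hcomm hexp hA9 r hr4
    intro hcen
    exact hz1 (hfaith _ (X.mul_mem hrX hrX) hcen)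
  have hcube : ∀ a ∈ A, a * (a * a) = 1 := by
    intro a ha
    have := hexp a ha
    rw [pow_succ', pow_two] at this; exact this
  have hinv : ∀ a ∈ A, a⁻¹ = a * a := by
    intro a ha
    exact inv_eq_of_mul_eq_one_right (hcube a ha)
  -- s does not invert A
  have hs_not : ¬ ∀ a ∈ A, s * a * s⁻¹ = a⁻¹ := by
    intro hsA
    have hzs : (r * r) * s = 1 := by
      apply hfaith _ (X.mul_mem (X.mul_mem hrX hrX) hsX)
      intro a ha
      have : (r * r) * s * a * ((r * r) * s)⁻¹ = (r * r) * (s * a * s⁻¹) * (r * r)⁻¹ := by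
        simp only [mul_assoc, mul_inv_rev]
      rw [this, hsA a ha, hzA _ (A.inv_mem ha), inv_inv]
    have hs_eq : s = r * r := by
      have := eq_inv_of_mul_eq_one_right hzs
      rw [this, hzinv]
    apply hz1
    rw [hs_eq] at hsr
    -- (r*r)*r = r*(r*(r*(r*r))) = r
    rw [hr4, mul_one] at hsr
    have : r * r * r = 1 * r := by rw [one_mul]; exact hsr
    exact mul_right_cancel this
  push Not at hs_not
  obtain ⟨a, haA, ha⟩ := hs_not
  have hsaA : s * a * s⁻¹ ∈ A := hnorm s a haA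
  refine ⟨a * (s * a * s⁻¹), A.mul_mem haA hsaA, ?_, ?_⟩
  · intro h1
    apply ha
    exact (eq_inv_of_mul_eq_one_right h1)
  set a1 := a * (s * a * s⁻¹) with ha1
  have ha1A : a1 ∈ A := A.mul_mem haA hsaA
  have hsa1 : s * a1 * s⁻¹ = a1 := by
    have e : s * (s * a * s⁻¹) * s⁻¹ = a := by
      rw [hsinv]
      have : s * (s * a * s) * s = (s * s) * a * (s * s) := by simp only [mul_assoc]
      rw [this, hss, one_mul, mul_one]
    calc s * a1 * s⁻¹ = (s * a * s⁻¹) * (s * (s * a * s⁻¹) * s⁻¹) := by rw [ha1, ← conj_mul]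
      _ = (s * a * s⁻¹) * a := by rw [e]
      _ = a1 := hcomm _ hsaA _ haA
  set a2 := r * a1 * r⁻¹ with ha2
  have ha2A : a2 ∈ A := hnorm r a1 ha1A
  have hra2 : r * a2 * r⁻¹ = a1 * a1 := by
    have : r * a2 * r⁻¹ = (r * r) * a1 * (r * r)⁻¹ := by
      rw [ha2]; simp only [mul_assoc, mul_inv_rev]
    rw [this, hzA a1 ha1A, hinv a1 ha1A]
  have hsa2 : s * a2 * s⁻¹ = a2 * a2 := by
    have e1 : s * a2 * s⁻¹ = (s * r) * a1 * (s * r)⁻¹ := by
      rw [ha2]; simp only [mul_assoc, mul_inv_rev]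
    have e2 : (r * (r * (r * s))) * a1 * (r * (r * (r * s)))⁻¹ =
        (r * r) * (r * (s * a1 * s⁻¹) * r⁻¹) * (r * r)⁻¹ := by
      simp only [mul_assoc, mul_inv_rev]
    rw [e1, hsr, e2, hsa1, ← ha2, hzA a2 ha2A, hinv a2 ha2A]
  have hND : NDConfig a1 a2 r s := by
    refine ⟨hcube a1 ha1A, hcube a2 ha2A, hcomm a2 ha2A a1 ha1A, ?_, ?_, ?_, ?_, hss, hsr, hr4⟩
    · rw [ha2]; simp only [mul_assoc, inv_mul_cancel, mul_one]
    · have : r * a2 = (r * a2 * r⁻¹) * r := by simp only [mul_assoc, inv_mul_cancel, mul_one]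
      rw [this, hra2, mul_assoc]
    · have : s * a1 = (s * a1 * s⁻¹) * s := by simp only [mul_assoc, inv_mul_cancel, mul_one]
      rw [this, hsa1]
    · have : s * a2 = (s * a2 * s⁻¹) * s := by simp only [mul_assoc, inv_mul_cancel, mul_one]
      rw [this, hsa2, mul_assoc]
  refine ⟨hND, ?_⟩
  -- generation
  have ha1ne : a1 ≠ 1 := by
    intro h1
    apply ha
    exact (eq_inv_of_mul_eq_one_right h1)
  have ha2ne : a2 ≠ 1 := by
    intro h2
    apply ha1ne
    have : a1 = r⁻¹ * a2 * r := by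
      rw [ha2]; simp only [mul_assoc, inv_mul_cancel_left, inv_mul_cancel, mul_one]
    rw [this, h2, mul_one, inv_mul_cancel]
  set H := Subgroup.closure {a1, a2} with hH
  have hHA : H ≤ A := by
    rw [hH, Subgroup.closure_le]
    intro x hx
    rcases hx with rfl | rfl
    · exact ha1A
    · exact ha2A
  have h1H : a1 ∈ H := Subgroup.subset_closure (by simp)
  have h2H : a2 ∈ H := Subgroup.subset_closure (by simp)
  rcases card_sub_nine A hA9 H hHA with h | h | h
  · exfalso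
    have hH1 : H = ⊥ := Subgroup.card_eq_one.1 h
    rw [hH1, Subgroup.mem_bot] at h1H
    exact ha1ne h1H
  · exfalso
    -- a2 is a power of a1, hence centralised by s, hence a2 = a2⁻¹
    have hs_a2 : s * a2 * s⁻¹ = a2 := by
      rcases mem_of_card_three A hexp H hHA h a1 h1H ha1ne a2 h2H with e | e | e
      · exact absurd e ha2ne
      · rw [e]; exact hsa1
      · rw [e, ← conj_mul, hsa1]
    rw [hsa2] at hs_a2
    apply ha2ne
    have := hcube a2 ha2A
    rw [hs_a2] at this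
    -- a2 * a2 = a2 → a2 = 1
    have h' : a2 * a2 = a2 * 1 := by rw [mul_one]; exact hs_a2
    exact mul_left_cancel h'
  · exact (Subgroup.eq_of_le_of_card_ge hHA (by rw [h, hA9])).ge

end GroupA

section GroupB

variable {S : Type*} [Group S]

theorem dihedral_elements (X : Subgroup S) (hX : Nonempty (↥X ≃* DihedralGroup 4)) :
    ∃ r s : S, r ∈ X ∧ s ∈ X ∧ r * (r * (r * r)) = 1 ∧ s * s = 1 ∧ s * r = r * (r * (r * s)) ∧
      r * r ≠ 1 ∧ ∀ x ∈ X, x = 1 ∨ x = r ∨ x = r * r ∨ x = r * (r * r) ∨ x = s ∨ x = r * s ∨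
        x = (r * r) * s ∨ x = (r * r) * (r * s) := by
  obtain ⟨e⟩ := hX
  set f : DihedralGroup 4 →* S := X.subtype.comp e.symm.toMonoidHom with hf
  have hfinj : Function.Injective f := by
    rw [hf]
    exact X.subtype_injective.comp e.symm.injective
  have hfX : ∀ g, f g ∈ X := fun g => (e.symm g).2
  refine ⟨f (DihedralGroup.r 1), f (DihedralGroup.sr 0), hfX _, hfX _, ?_, ?_, ?_, ?_, ?_⟩
  · rw [← map_mul, ← map_mul, ← map_mul,
      show (DihedralGroup.r 1 : DihedralGroup 4) * (DihedralGroup.r 1 * (DihedralGroup.r 1 *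
        DihedralGroup.r 1)) = 1 by decide, map_one]
  · rw [← map_mul, show (DihedralGroup.sr 0 : DihedralGroup 4) * DihedralGroup.sr 0 = 1 by decide,
      map_one]
  · simp only [← map_mul]
    congr 1
  · rw [← map_mul, ← map_one f]
    intro h
    exact absurd (hfinj h) (by decide)
  · intro x hx
    have hxf : x = f (e ⟨x, hx⟩) := by
      rw [hf]; simp
    have h8 : ∀ g : DihedralGroup 4, g = 1 ∨ g = DihedralGroup.r 1 ∨
        g = DihedralGroup.r 1 * DihedralGroup.r 1 ∨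
        g = DihedralGroup.r 1 * (DihedralGroup.r 1 * DihedralGroup.r 1) ∨
        g = DihedralGroup.sr 0 ∨ g = DihedralGroup.r 1 * DihedralGroup.sr 0 ∨
        g = (DihedralGroup.r 1 * DihedralGroup.r 1) * DihedralGroup.sr 0 ∨
        g = (DihedralGroup.r 1 * DihedralGroup.r 1) * (DihedralGroup.r 1 * DihedralGroup.sr 0) := by
      decide
    rw [hxf]
    rcases h8 (e ⟨x, hx⟩) with h | h | h | h | h | h | h | h <;> rw [h] <;>
      simp only [map_mul, map_one, true_or, or_true]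

theorem four_group_exists (z t : S) (hz : z * z = 1) (ht : t * t = 1) (hzt : t * z = z * t)
    (hz1 : z ≠ 1) (ht1 : t ≠ 1) (htz : t ≠ z) :
    ∃ B : Subgroup S, (B : Set S) = {1, z, t, z * t} ∧ Nat.card B = 4 ∧ ∀ b ∈ B, b ^ 2 = 1 := by
  have hz' : ∀ x, z * (z * x) = x := fun x => by rw [← mul_assoc, hz, one_mul]
  have ht' : ∀ x, t * (t * x) = x := fun x => by rw [← mul_assoc, ht, one_mul]
  have hzt' : ∀ x, t * (z * x) = z * (t * x) := fun x => by rw [← mul_assoc, hzt, mul_assoc]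
  have hsq : ∀ b ∈ ({1, z, t, z * t} : Set S), b * b = 1 := by
    intro b hb
    simp only [Set.mem_insert_iff, Set.mem_singleton_iff] at hb
    rcases hb with rfl | rfl | rfl | rfl
    · simp
    · exact hz
    · exact ht
    · simp only [mul_assoc, hz, ht, hzt, hz', ht', hzt', mul_one]
  let B : Subgroup S :=
    { carrier := {1, z, t, z * t}
      one_mem' := by simp
      mul_mem' := by
        intro a b ha hb
        simp only [Set.mem_insert_iff, Set.mem_singleton_iff] at ha hb ⊢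
        rcases ha with rfl | rfl | rfl | rfl <;> rcases hb with rfl | rfl | rfl | rfl <;>
          simp only [mul_assoc, hz, ht, hzt, hz', ht', hzt', mul_one, one_mul, true_or, or_true]
      inv_mem' := by
        intro a ha
        have : a⁻¹ = a := inv_eq_of_mul_eq_one_left (hsq a ha)
        rw [this]; exact ha }
  have hB : (B : Set S) = {1, z, t, z * t} := rfl
  refine ⟨B, hB, ?_, ?_⟩
  · have hc : Nat.card B = (B : Set S).ncard := (Nat.card_coe_set_eq (B : Set S))
    rw [hc, hB]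
    have n1 : t ≠ z * t := by
      intro h
      apply hz1
      have : 1 * t = z * t := by rw [one_mul]; exact h
      exact (mul_right_cancel this).symm
    have n2 : z ≠ z * t := by
      intro h
      apply ht1
      have : z * 1 = z * t := by rw [mul_one]; exact h
      exact (mul_left_cancel this).symm
    have n3 : (1 : S) ≠ z * t := by
      intro h
      apply htz
      have : z * z = z * t := by rw [hz]; exact h
      exact (mul_left_cancel this).symm
    rw [Set.ncard_insert_of_notMem, Set.ncard_insert_of_notMem, Set.ncard_insert_of_notMem,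
      Set.ncard_singleton]
    · simp only [Set.mem_singleton_iff]; exact n1
    · simp only [Set.mem_insert_iff, Set.mem_singleton_iff, not_or]
      exact ⟨fun h => htz h.symm, n2⟩
    · simp only [Set.mem_insert_iff, Set.mem_singleton_iff, not_or]
      exact ⟨fun h => hz1 h.symm, fun h => ht1 h.symm, n3⟩
  · intro b hb
    rw [pow_two]
    exact hsq b hb

theorem four_subgroups_classify (X : Subgroup S) (r s : S)
    (hr4 : r * (r * (r * r)) = 1) (hss : s * s = 1) (hsr : s * r = r * (r * (r * s)))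
    (hz1 : r * r ≠ 1)
    (hX8 : ∀ x ∈ X, x = 1 ∨ x = r ∨ x = r * r ∨ x = r * (r * r) ∨ x = s ∨ x = r * s ∨
        x = (r * r) * s ∨ x = (r * r) * (r * s))
    (B : Subgroup S) (hBX : B ≤ X) (hB4 : Nat.card B = 4) (hB2 : ∀ b ∈ B, b ^ 2 = 1) :
    (B : Set S) = {1, r * r, s, (r * r) * s} ∨ (B : Set S) = {1, r * r, r * s, (r * r) * (r * s)} := by
  have hss' : ∀ x, s * (s * x) = x := fun x => by rw [← mul_assoc, hss, one_mul]
  have hsr' : ∀ x, s * (r * x) = r * (r * (r * (s * x))) := fun x => by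
    rw [← mul_assoc, hsr, mul_assoc, mul_assoc, mul_assoc]
  have hr4' : ∀ x, r * (r * (r * (r * x))) = x := fun x => by
    rw [← mul_assoc, ← mul_assoc, ← mul_assoc, mul_assoc (r * r) r r, mul_assoc r r (r * r), hr4,
      one_mul]
  have hcard : (B : Set S).ncard = 4 := by
    rw [← hB4]; exact (Nat.card_coe_set_eq (B : Set S)).symm
  have hr_not : r ∉ B := by
    intro h
    have := hB2 r h
    rw [pow_two] at this
    exact hz1 this
  have hr3_not : r * (r * r) ∉ B := by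
    intro h
    have := hB2 _ h
    rw [pow_two] at this
    apply hz1
    have e : r * (r * r) * (r * (r * r)) = r * r := by
      simp only [mul_assoc, hr4, hr4', mul_one]
    rw [e] at this; exact this
  have key : ∀ b ∈ B, ∀ c ∈ B, b * c ≠ r ∧ b * c ≠ r * (r * r) := by
    intro b hb c hc
    constructor
    · intro h; exact hr_not (h ▸ B.mul_mem hb hc)
    · intro h; exact hr3_not (h ▸ B.mul_mem hb hc)
  have f1 : s ∈ B → r * s ∈ B → False := fun h1 h2 =>
    (key _ h2 _ h1).1 (by simp only [mul_assoc, hss, hss', hsr, hsr', hr4, hr4', mul_one])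
  have f2 : s ∈ B → (r * r) * (r * s) ∈ B → False := fun h1 h2 =>
    (key _ h2 _ h1).2 (by simp only [mul_assoc, hss, hss', hsr, hsr', hr4, hr4', mul_one])
  have f3 : (r * r) * s ∈ B → r * s ∈ B → False := fun h1 h2 =>
    (key _ h2 _ h1).2 (by simp only [mul_assoc, hss, hss', hsr, hsr', hr4, hr4', mul_one])
  have f4 : (r * r) * s ∈ B → (r * r) * (r * s) ∈ B → False := fun h1 h2 =>
    (key _ h2 _ h1).1 (by simp only [mul_assoc, hss, hss', hsr, hsr', hr4, hr4', mul_one])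
  have hsub : ∀ b ∈ B, b = 1 ∨ b = r * r ∨ b = s ∨ b = r * s ∨ b = (r * r) * s ∨
      b = (r * r) * (r * s) := by
    intro b hb
    rcases hX8 b (hBX hb) with h | h | h | h | h | h | h | h
    · exact Or.inl h
    · exact absurd (h ▸ hb) hr_not
    · exact Or.inr (Or.inl h)
    · exact absurd (h ▸ hb) hr3_not
    · exact Or.inr (Or.inr (Or.inl h))
    · exact Or.inr (Or.inr (Or.inr (Or.inl h)))
    · exact Or.inr (Or.inr (Or.inr (Or.inr (Or.inl h))))
    · exact Or.inr (Or.inr (Or.inr (Or.inr (Or.inr h))))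
  have fin4 : ∀ a b c d : S, ({a, b, c, d} : Set S).ncard ≤ 4 := by
    intro a b c d
    calc ({a, b, c, d} : Set S).ncard ≤ ({b, c, d} : Set S).ncard + 1 := Set.ncard_insert_le _ _
      _ ≤ (({c, d} : Set S).ncard + 1) + 1 := by gcongr; exact Set.ncard_insert_le _ _
      _ ≤ ((({d} : Set S).ncard + 1) + 1) + 1 := by gcongr; exact Set.ncard_insert_le _ _
      _ = 4 := by rw [Set.ncard_singleton]
  by_cases h1 : s ∈ B ∨ (r * r) * s ∈ B
  · left
    apply Set.eq_of_subset_of_ncard_le _ _ (Set.toFinite _)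
    · intro b hb
      simp only [Set.mem_insert_iff, Set.mem_singleton_iff]
      rcases hsub b hb with h | h | h | h | h | h
      · exact Or.inl h
      · exact Or.inr (Or.inl h)
      · exact Or.inr (Or.inr (Or.inl h))
      · exfalso
        rcases h1 with h1 | h1
        · exact f1 h1 (h ▸ hb)
        · exact f3 h1 (h ▸ hb)
      · exact Or.inr (Or.inr (Or.inr h))
      · exfalso
        rcases h1 with h1 | h1
        · exact f2 h1 (h ▸ hb)
        · exact f4 h1 (h ▸ hb)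
    · rw [hcard]; exact fin4 _ _ _ _
  · push Not at h1
    by_cases h2 : r * s ∈ B ∨ (r * r) * (r * s) ∈ B
    · right
      apply Set.eq_of_subset_of_ncard_le _ _ (Set.toFinite _)
      · intro b hb
        simp only [Set.mem_insert_iff, Set.mem_singleton_iff]
        rcases hsub b hb with h | h | h | h | h | h
        · exact Or.inl h
        · exact Or.inr (Or.inl h)
        · exact absurd (h ▸ hb) h1.1
        · exact Or.inr (Or.inr (Or.inl h))
        · exact absurd (h ▸ hb) h1.2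
        · exact Or.inr (Or.inr (Or.inr h))
      · rw [hcard]; exact fin4 _ _ _ _
    · push Not at h2
      exfalso
      have hsub2 : (B : Set S) ⊆ {1, r * r} := by
        intro b hb
        simp only [Set.mem_insert_iff, Set.mem_singleton_iff]
        rcases hsub b hb with h | h | h | h | h | h
        · exact Or.inl h
        · exact Or.inr h
        · exact absurd (h ▸ hb) h1.1
        · exact absurd (h ▸ hb) h2.1
        · exact absurd (h ▸ hb) h1.2
        · exact absurd (h ▸ hb) h2.2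
      have := Set.ncard_le_ncard hsub2 (Set.toFinite _)
      rw [hcard] at this
      have h2' : ({1, r * r} : Set S).ncard ≤ 2 := by
        calc ({1, r * r} : Set S).ncard ≤ ({r * r} : Set S).ncard + 1 := Set.ncard_insert_le _ _
          _ = 2 := by rw [Set.ncard_singleton]
      omega

end GroupB

end Cfsg.Agent.Lib.Helper70_NineDihedral
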