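import Mathlib
import Cfsg.Agent.Lib.Helper95_OPDefs
import Cfsg.Agent.Lib.Helper95_OPBasic
import Cfsg.Agent.Lib.Helper48_OODefs
import Cfsg.Agent.Lib.Helper48_OOThin
import Cfsg.Agent.Lib.Helper70_OP_DVD
import Cfsg.Agent.Lib.Helper25_OO2_PAIRSODD

/-!
# S2344, OO2 wave 3, package OO2-CLSUM3 (cutter helper87): the class-sum divisibility in the base `n = 3`
-/

set_option autoImplicit false

namespace Cfsg.Agent.Lib.Helper70_OO2_CLSUM3

open Module Cfsg.Agent.Lib.Helper94_OrthSmall Cfsg.Agent.Lib.Helper44_QuadClass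
  Cfsg.Agent.Lib.Helper14_OmegaSimple Cfsg.Agent.Lib.Helper38_MIODefs
  Cfsg.Agent.Lib.Helper95_OPDefs Cfsg.Agent.Lib.Helper95_OPBasic Cfsg.Agent.Lib.Helper48_OODefs

variable {F V : Type*} [Field F] [Fintype F] [AddCommGroup V] [Module F V] [FiniteDimensional F V]
  {X : Type*} [AddCommGroup X] [Module ℂ X] [FiniteDimensional ℂ X]

/-! ## OO2-CLSUM3 (M): the class-sum divisibility -/
theorem clsum3 (Q : QuadraticForm F V) (hq : 4 ≤ Fintype.card F) (hP : IsOddT Q 3) {v v' : V}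
    (hv : Q v = 0) (hv' : Q v' = 0) (hvv' : QuadraticMap.polar (⇑Q) v v' = 1)
    [DecidableEq ↥(perp Q v v')] (ρ : Representation ℂ ↥(T Q) X) (hirr : ρ.IsIrreducible)
    (ψ : AddChar F ℂ) (hψ : ψ ≠ 1)
    (hint : DirectSum.IsInternal (fun u : ↥(perp Q v v') => wsp Q ρ ψ v v' u))
    (f : ℕ) (hW : WData Q ρ ψ v v' 1 f) (hf : 1 ≤ f) :
    finrank ℂ X ∣ (Fintype.card F ^ 6 - 1) * (Fintype.card F ^ 5 - Fintype.card F) *
      (finrank ℂ X - Fintype.card F ^ 4) := by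
  have hQ := hP.nondeg
  have hdimV : finrank F V = 2 * 3 + 1 := hP.dim
  have hdim5 : 5 ≤ finrank F V := by omega
  -- the degree
  have hD := hW.hD
  rw [card_sing_perp Q 3 (by norm_num) hP hv hv' hvv', one_mul] at hD
  have hq4 : 1 ≤ Fintype.card F ^ (2 * (3 - 1)) := Nat.one_le_pow _ _ (by omega)
  have hDc : finrank ℂ X - Fintype.card F ^ 4 = f - 1 := by
    have : (2 * (3 - 1)) = 4 := by norm_num
    rw [this] at hD hq4
    omega
  -- the trace of the root elements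
  have hroot : ∀ y z : V, y ≠ 0 → Q y = 0 → Q z = 0 → QuadraticMap.polar (⇑Q) y z = 0 →
      z ∉ Submodule.span F {y} → LinearMap.trace ℂ X (repE Q ρ (E Q y z)) = ((f - 1 : ℕ) : ℂ) := by
    intro y z hy0 hy hz hyz hzy
    have h := Cfsg.Agent.Lib.Helper48_OOThin.trace_long Q 3 le_rfl hP hv hv' hvv' ρ ψ hψ hint f hW
      y z hy0 hy hz hyz hzy
    rw [Nat.cast_sub hf, Nat.cast_one]
    linear_combination h
  have hdvd := Cfsg.Agent.Lib.Helper70_OP_DVD.finrank_dvd_pairs Q hQ hdim5 ρ hirr (f - 1) hroot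
  rw [Cfsg.Agent.Lib.Helper25_OO2_PAIRSODD.card_root_pairs_odd Q 3 (by norm_num) hP] at hdvd
  rw [hDc]
  exact hdvd

end Cfsg.Agent.Lib.Helper70_OO2_CLSUM3
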