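import Mathlib
import Cfsg.Agent.Lib.Helper38_OTDefs
import Cfsg.Agent.Lib.Helper73_Tens_TP2
import Cfsg.Agent.Lib.Helper89_UT_TP1U
import Cfsg.Agent.Lib.Helper89_UT_KEYA

set_option autoImplicit false
set_option linter.unusedSectionVars false
set_option linter.unusedVariables false

/-!
OTENS4 market (helper38), package **OT-KEYA**: a Kronecker element stabilising `ℓ = x ⊗ B` and
trivial on `ℓ^⊥/ℓ` is a scalar on `ℓ` (`a ≥ 3`).  Orthogonal twin of `Helper89_UT_KEYA.key_a`.
-/

namespace Cfsg.Agent.Lib.Helper70_OT_KEYA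

open Matrix Module
open Cfsg.Agent.Lib.Helper98_ExtDefs Cfsg.Agent.Lib.Helper97_TensDefs
open Cfsg.Agent.Lib.Helper94_Herm
open Cfsg.Agent.Lib.Helper67_UT2Defs Cfsg.Agent.Lib.Helper37_UTDefs
open Cfsg.Agent.Lib.Helper37_UTPairDefs
open Cfsg.Agent.Lib.Helper94_OrthSmall Cfsg.Agent.Lib.Helper94_OrthSiegel
open Cfsg.Agent.Lib.Helper38_OTDefs
open Cfsg.Agent.Lib.Helper89_UT_KEYA (snd_parallel kron_pure)

variable {F : Type*} [Field F] {ι κ : Type*} [Fintype ι] [Fintype κ] [DecidableEq ι]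
  [DecidableEq κ]
variable {α : LinearMap.BilinForm F (ι → F)} {β : LinearMap.BilinForm F (κ → F)}
variable {Q : Matrix ι κ F → F} {M : Subgroup (Matrix ι κ F ≃ₗ[F] Matrix ι κ F)}

/-! ## KEYA (M): a Kronecker element trivial on `ℓ^⊥/ℓ` is a scalar on `ℓ = x ⊗ B` (`a ≥ 3`) -/

theorem key_aO (hα : ∀ x, α x x = 0) (hαN : NondegOn α ⊤) (h3 : 3 ≤ Fintype.card ι)
    {x : ι → F} (hx0 : x ≠ 0) {h : Matrix ι κ F ≃ₗ[F] Matrix ι κ F}
    (hk : IsKron h) (hst : ∀ w : κ → F, ∃ w' : κ → F, h (vecMulVec x w) = vecMulVec x w')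
    (hq : ∀ X : Matrix ι κ F, ctrA α x X = 0 → h X - X ∈ fibB (κ := κ) x) :
    ∃ c : F, ∀ w : κ → F, h (vecMulVec x w) = c • vecMulVec x w := by
  rcases isEmpty_or_nonempty κ with hE | ⟨⟨k0⟩⟩
  · exact ⟨0, fun w => Subsingleton.elim _ _⟩
  obtain ⟨P, Q, hPQ⟩ := hk
  -- a vector of `x^⊥` outside `⟨x⟩`
  have hker : 2 ≤ finrank F (LinearMap.ker (α.flip x)) := by
    have h1 := LinearMap.finrank_range_add_finrank_ker (α.flip x)
    have hr : finrank F (LinearMap.range (α.flip x)) ≤ 1 := by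
      calc finrank F (LinearMap.range (α.flip x)) ≤ finrank F F := Submodule.finrank_le _
        _ = 1 := finrank_self F
    rw [Module.finrank_fintype_fun_eq_card] at h1
    omega
  obtain ⟨a₁, ha₁k, ha₁x⟩ : ∃ a₁ ∈ LinearMap.ker (α.flip x), a₁ ∉ Submodule.span F {x} := by
    by_contra hcon
    push Not at hcon
    have hle : LinearMap.ker (α.flip x) ≤ Submodule.span F {x} := fun a ha => hcon a ha
    have := Submodule.finrank_mono hle
    rw [finrank_span_singleton hx0] at this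
    omega
  have ha₁ : α a₁ x = 0 := by
    have := LinearMap.mem_ker.mp ha₁k
    simpa using this
  have hind : ∀ s t : F, s • a₁ + t • x = 0 → s = 0 ∧ t = 0 := by
    intro s t hst'
    have hs : s = 0 := by
      by_contra hs
      apply ha₁x
      rw [Submodule.mem_span_singleton]
      refine ⟨-(t / s), ?_⟩
      have : s • a₁ = -(t • x) := eq_neg_of_add_eq_zero_left hst'
      calc (-(t / s)) • x = s⁻¹ • (-(t • x)) := by
            rw [smul_neg, smul_smul, neg_smul]; congr 2; field_simp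
        _ = a₁ := by rw [← this, smul_smul, inv_mul_cancel₀ hs, one_smul]
    refine ⟨hs, ?_⟩
    rw [hs, zero_smul, zero_add] at hst'
    exact (smul_eq_zero.mp hst').resolve_right hx0
  -- every vector is an eigenvector of `Q`
  have heig : ∀ w : κ → F, ∃ μ : F, Q *ᵥ w = μ • w := by
    intro w
    by_cases hw : w = 0
    · exact ⟨0, by rw [hw, Matrix.mulVec_zero, smul_zero]⟩
    have hperp : ctrA α x (vecMulVec a₁ w) = 0 := by
      ext j
      rw [ctrA_apply, colv_vecMulVec, map_smul, LinearMap.smul_apply, ha₁, smul_zero]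
      rfl
    obtain ⟨w'', hw''⟩ := hq _ hperp
    rw [hPQ, kron_pure] at hw''
    have hE : vecMulVec (P *ᵥ a₁) (Q *ᵥ w) = vecMulVec a₁ w + vecMulVec x w'' := by
      rw [← hw'']; abel
    obtain ⟨l, hl⟩ := Cfsg.Agent.Lib.Helper89_UT_TP1U.parallel_of_rank_one hind hw hE
    have hE' : vecMulVec (P *ᵥ a₁) (Q *ᵥ w) = vecMulVec (a₁ + l • x) w := by
      rw [hE, hl, add_vecMulVec, smul_vecMulVec, vecMulVec_smul]
    have hne : a₁ + l • x ≠ 0 := by
      intro h0
      have := (hind 1 l (by rw [one_smul]; exact h0)).1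
      exact one_ne_zero this
    exact snd_parallel hne hw hE'
  obtain ⟨q, hq'⟩ := Cfsg.Agent.Lib.Helper73_Tens_TP2.scalar_of_forall_eigen Q heig
  have hQw : ∀ w : κ → F, Q *ᵥ w = q • w := by
    intro w
    rw [hq', Matrix.smul_mulVec, Matrix.one_mulVec]
  -- `P x` is a multiple of `x`
  obtain ⟨w0', hw0'⟩ := hst (Pi.single k0 1)
  rw [hPQ, kron_pure, hQw] at hw0'
  have hq0 : q ≠ 0 := by
    intro h0
    have h1 : h (vecMulVec x (Pi.single k0 1)) = 0 := by
      rw [hPQ, kron_pure, hQw, h0, zero_smul]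
      ext i j
      simp [vecMulVec_apply]
    have h2 : vecMulVec x (Pi.single k0 (1 : F)) = 0 := h.injective (h1.trans (map_zero h).symm)
    apply hx0
    ext i
    have := congrFun (congrFun h2 i) k0
    simpa [vecMulVec_apply] using this
  have hPx : P *ᵥ x = (w0' k0 / q) • x := by
    ext i
    have := congrFun (congrFun hw0' i) k0
    simp only [vecMulVec_apply, Pi.smul_apply, Pi.single_eq_same, smul_eq_mul, mul_one] at this
    rw [Pi.smul_apply, smul_eq_mul]
    field_simp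
    linear_combination this
  refine ⟨w0' k0 / q * q, fun w => ?_⟩
  rw [hPQ, kron_pure, hQw, hPx, smul_vecMulVec, vecMulVec_smul, smul_smul]

end Cfsg.Agent.Lib.Helper70_OT_KEYA
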