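import Mathlib
import Cfsg.Agent.Lib.Helper98_AschDefs
import Cfsg.Agent.Lib.Helper23_FormDefs
import Cfsg.Agent.Lib.Helper94_TensorVec

set_option autoImplicit false
set_option linter.unusedSectionVars false
set_option linter.unusedVariables false

/-!
# Package EV18 (helper22, even-dimensional orthogonal rows): a tensor product of symmetric forms whose
second factor is of plus type is of plus type.
-/

namespace Cfsg.Agent.Lib.Helper70_OrthEven_EV18

open Cfsg Cfsg.Geo Matrix Cfsg.Agent.Lib.Helper98_AschDefs Cfsg.Agent.Lib.Helper23_FormDefs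
  Cfsg.Agent.Lib.Helper94_TensorVec
open scoped Kronecker

variable {ι : Type} [Fintype ι] [DecidableEq ι] {F : Type*} [Field F]

/-- the Gram form of a Kronecker product in terms of the rows -/
lemma formOfGram_kron_rows {n₁ n₂ : ℕ} (G₁ : Matrix (Fin n₁) (Fin n₁) F)
    (f₂ : (Fin n₂ → F) → (Fin n₂ → F) → F) (hf₂ : IsBilinearForm f₂)
    (x y : Fin n₁ × Fin n₂ → F) :
    formOfGram id (G₁ ⊗ₖ gramMatrix f₂) x y =
      ∑ a, ∑ a', G₁ a a' * f₂ (fun b => x (a, b)) (fun b => y (a', b)) := by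
  unfold formOfGram
  simp only [Fintype.sum_prod_type, Matrix.kroneckerMap_apply, id]
  refine Finset.sum_congr rfl fun a _ => ?_
  rw [Finset.sum_comm]
  refine Finset.sum_congr rfl fun a' _ => ?_
  rw [form_eq_gram f₂ hf₂, Finset.mul_sum]
  refine Finset.sum_congr rfl fun b _ => ?_
  rw [Finset.mul_sum]
  refine Finset.sum_congr rfl fun b' _ => ?_
  ring

/-- EV18: a tensor product of symmetric forms whose second factor (of even dimension) is of plus type is of plus type -/
theorem EV18 [Fintype F] (Q : (ι → F) → F) (hQ : IsNondegenerateQuadraticForm Q) (h2 : (2 : F) ≠ 0)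
    (n₁ n₂ : ℕ) (e : ι ≃ Fin n₁ × Fin n₂) (P : GL ι F)
    (f₁ : (Fin n₁ → F) → (Fin n₁ → F) → F) (f₂ : (Fin n₂ → F) → (Fin n₂ → F) → F)
    (hf₁ : IsSymmetricForm f₁) (hf₂ : IsSymmetricForm f₂)
    (hten : IsTensorFormStructure id (QuadraticMap.polar Q) f₁ f₂ e P)
    (hplus : IsPlusTypeOn (fun v : Fin n₂ → F => f₂ v v) ⊤) : IsPlusTypeOn Q ⊤ := by
  classical
  obtain ⟨c, hc0, hc⟩ := hten
  obtain ⟨U₂, -, hts, hd⟩ := hplus
  have hts' : ∀ u ∈ U₂, f₂ u u = 0 := fun u hu => hts u hu
  -- polarisation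
  have hiso : ∀ u ∈ U₂, ∀ u' ∈ U₂, f₂ u u' = 0 := by
    intro u hu u' hu'
    have h1 := hts' (u + u') (U₂.add_mem hu hu')
    rw [hf₂.bilinear.add_left, hf₂.bilinear.add_right, hf₂.bilinear.add_right, hts' u hu,
      hts' u' hu', hf₂.symm u' u, zero_add, add_zero] at h1
    have h3 : (2 : F) * f₂ u u' = 0 := by rw [two_mul]; exact h1
    rcases mul_eq_zero.1 h3 with h | h
    · exact absurd h h2
    · exact h
  -- the subspace
  let ψ : (Fin n₁ → U₂) →ₗ[F] (Fin n₁ × Fin n₂ → F) :=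
    { toFun := fun g p => ((g p.1 : U₂) : Fin n₂ → F) p.2
      map_add' := fun g g' => by ext p; simp
      map_smul' := fun r g => by ext p; simp }
  have hψinj : Function.Injective ψ := by
    intro g g' h
    funext a
    apply Subtype.ext
    funext b
    exact congrFun h (a, b)
  have hψrow : ∀ (g : Fin n₁ → U₂) (a : Fin n₁), (fun b => ψ g (a, b)) = ((g a : U₂) : Fin n₂ → F) :=
    fun g a => rfl
  set Φ := phi e P with hΦ
  refine ⟨(LinearMap.range ψ).map (Φ : (Fin n₁ × Fin n₂ → F) →ₗ[F] (ι → F)), le_top, ?_, ?_⟩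
  · rintro _ ⟨_, ⟨g, rfl⟩, rfl⟩
    show Q (Φ (ψ g)) = 0
    have hpol : QuadraticMap.polar Q (Φ (ψ g)) (Φ (ψ g)) = 0 := by
      rw [hΦ, phi_apply, hc, formOfGram_kron_rows _ f₂ hf₂.bilinear]
      rw [Finset.sum_eq_zero, mul_zero]
      intro a _
      apply Finset.sum_eq_zero
      intro a' _
      rw [hψrow, hψrow, hiso _ (g a).2 _ (g a').2, mul_zero]
    have h4 : QuadraticMap.polar Q (Φ (ψ g)) (Φ (ψ g)) = 2 * Q (Φ (ψ g)) := by
      rw [QuadraticMap.polar, ← two_smul F (Φ (ψ g)), hQ.smul]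
      ring
    rw [h4] at hpol
    rcases mul_eq_zero.1 hpol with h | h
    · exact absurd h h2
    · exact h
  · rw [LinearEquiv.finrank_map_eq, LinearMap.finrank_range_of_inj hψinj, Module.finrank_pi_fintype,
      Finset.sum_const, Finset.card_univ, Fintype.card_fin, smul_eq_mul, finrank_top,
      Module.finrank_fintype_fun_eq_card, Fintype.card_congr e, Fintype.card_prod, Fintype.card_fin,
      Fintype.card_fin]
    rw [finrank_top, Module.finrank_fintype_fun_eq_card, Fintype.card_fin] at hd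
    calc 2 * (n₁ * Module.finrank F ↥U₂) = n₁ * (2 * Module.finrank F ↥U₂) := by ring
      _ = n₁ * n₂ := by rw [hd]

end Cfsg.Agent.Lib.Helper70_OrthEven_EV18
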