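import Mathlib

set_option autoImplicit false

namespace Cfsg.Agent.Lib.Helper70_OrthExt_OC2

/-- splitting the product `∏_{i<2m} (q^{2(i+1)} - 1)` into even and odd exponents -/
theorem prod_split_even (q m : ℕ) :
    ∏ i ∈ Finset.range (2 * m), (q ^ (2 * (i + 1)) - 1) =
      (∏ i ∈ Finset.range m, ((q ^ 2) ^ (2 * (i + 1)) - 1)) *
        ∏ k ∈ Finset.range m, (q ^ (2 * (2 * k + 1)) - 1) := by
  induction m with
  | zero => simp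
  | succ m ih =>
    have e1 : 2 * (m + 1) = 2 * m + 1 + 1 := by ring
    rw [e1, Finset.prod_range_succ, Finset.prod_range_succ, ih, Finset.prod_range_succ,
      Finset.prod_range_succ]
    have e2 : (q ^ 2) ^ (2 * (m + 1)) = q ^ (2 * (2 * m + 1 + 1)) := by
      rw [← pow_mul]; congr 1
    rw [e2]
    ring

theorem prod_split_odd (q m : ℕ) :
    ∏ i ∈ Finset.range (2 * m + 1), (q ^ (2 * (i + 1)) - 1) =
      (∏ i ∈ Finset.range m, ((q ^ 2) ^ (2 * (i + 1)) - 1)) *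
        ∏ k ∈ Finset.range (m + 1), (q ^ (2 * (2 * k + 1)) - 1) := by
  rw [Finset.prod_range_succ, prod_split_even, Finset.prod_range_succ (n := m)]
  ring

theorem one_le_pow' {q : ℕ} (hq : 2 ≤ q) (k : ℕ) : 1 ≤ q ^ k :=
  Nat.one_le_pow _ _ (by omega)

theorem two_le_pow' {q : ℕ} (hq : 2 ≤ q) {k : ℕ} (hk : 1 ≤ k) : 2 ≤ q ^ k := by
  calc 2 ≤ q := hq
    _ = q ^ 1 := (pow_one q).symm
    _ ≤ q ^ k := Nat.pow_le_pow_right (by omega) hk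

theorem prodY_pos {q : ℕ} (hq : 2 ≤ q) (m : ℕ) :
    0 < ∏ i ∈ Finset.range m, ((q ^ 2) ^ (2 * (i + 1)) - 1) := by
  apply Finset.prod_pos
  intro i _
  have h : 2 ≤ (q ^ 2) ^ (2 * (i + 1)) := by
    rw [← pow_mul]; exact two_le_pow' hq (by omega)
  omega

/-- the arithmetic core: `r ∣ q^(2j) - 1`, `j` odd -/
theorem core {q r j : ℕ} (hq : 2 ≤ q) (hr : r.Prime) (hj : Odd j)
    (hdvd : r ∣ q ^ (2 * j) - 1) :
    (Odd (orderOf ((q : ℕ) : ZMod r)) ∧ orderOf ((q : ℕ) : ZMod r) ≤ j) ∨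
      ∃ f, orderOf ((q : ℕ) : ZMod r) = 2 * f ∧ Odd f ∧ f ≤ j := by
  have : Fact r.Prime := ⟨hr⟩
  have h0 : ((q ^ (2 * j) - 1 : ℕ) : ZMod r) = 0 := (ZMod.natCast_eq_zero_iff _ _).2 hdvd
  rw [Nat.cast_sub (one_le_pow' hq _), Nat.cast_pow, Nat.cast_one, sub_eq_zero] at h0
  have hd : orderOf ((q : ℕ) : ZMod r) ∣ 2 * j := orderOf_dvd_of_pow_eq_one h0
  obtain ⟨e, he⟩ : ∃ e, e = orderOf ((q : ℕ) : ZMod r) := ⟨_, rfl⟩
  rw [← he] at hd ⊢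
  have hjpos : 0 < j := hj.pos
  rcases Nat.even_or_odd e with hev | hodd
  · right
    obtain ⟨f, hf⟩ := hev
    have hf2 : e = 2 * f := by omega
    have hfj : f ∣ j := by
      rw [hf2] at hd
      exact (Nat.mul_dvd_mul_iff_left (by norm_num)).1 hd
    exact ⟨f, hf2, Odd.of_dvd_nat hj hfj, Nat.le_of_dvd hjpos hfj⟩
  · left
    have hcop : Nat.Coprime e 2 := Nat.Coprime.symm (Nat.coprime_two_left.2 hodd)
    have hej : e ∣ j := hcop.dvd_of_dvd_mul_left hd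
    exact ⟨hodd, Nat.le_of_dvd hjpos hej⟩

theorem core_prod {q r m : ℕ} (hq : 2 ≤ q) (hr : r.Prime)
    (hdvd : r ∣ ∏ k ∈ Finset.range m, (q ^ (2 * (2 * k + 1)) - 1)) :
    ∃ j, Odd j ∧ j + 1 ≤ 2 * m ∧
      ((Odd (orderOf ((q : ℕ) : ZMod r)) ∧ orderOf ((q : ℕ) : ZMod r) ≤ j) ∨
      ∃ f, orderOf ((q : ℕ) : ZMod r) = 2 * f ∧ Odd f ∧ f ≤ j) := by
  obtain ⟨k, hk, hrk⟩ := (Prime.dvd_finsetProd_iff hr.prime _).1 hdvd
  have hkm : k < m := Finset.mem_range.1 hk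
  exact ⟨2 * k + 1, odd_two_mul_add_one k, by omega, core hq hr (odd_two_mul_add_one k) hrk⟩


theorem cancel_core {q r M N C c Z k : ℕ} (hr : r.Prime) (hrq : ¬ r ∣ q) (hrM : r ∣ M)
    (hC : 0 < C) (hc : c = q ^ k) (h : M * N * C = c * Z * C) : r ∣ Z := by
  have hMN : M * N = c * Z := Nat.eq_of_mul_eq_mul_right hC h
  have h1 : r ∣ c * Z := hMN ▸ Dvd.dvd.mul_right hrM N
  rcases (Nat.Prime.dvd_mul hr).1 h1 with h2 | h2
  · rw [hc] at h2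
    exact absurd (hr.dvd_of_dvd_pow h2) hrq
  · exact h2

/-- OC2 (plus type, `d = 2m`) -/
theorem OC2_plus_even {q m r M N : ℕ} (hq : 2 ≤ q) (hm : 1 ≤ m) (hr : r.Prime) (hr2 : r ≠ 2)
    (hrq : ¬ r ∣ q) (hrM : r ∣ M)
    (h : M * (N * (2 * (q ^ 2) ^ (m * (m - 1)) * ((q ^ 2) ^ m - 1) *
        ∏ i ∈ Finset.range (m - 1), ((q ^ 2) ^ (2 * (i + 1)) - 1))) =
      2 * q ^ (2 * m * (2 * m - 1)) * (q ^ (2 * m) - 1) *
        ∏ i ∈ Finset.range (2 * m - 1), (q ^ (2 * (i + 1)) - 1)) :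
    (Odd (orderOf ((q : ℕ) : ZMod r)) ∧ orderOf ((q : ℕ) : ZMod r) ≤ 2 * m) ∨
      ∃ f, orderOf ((q : ℕ) : ZMod r) = 2 * f ∧ Odd f ∧ f + 1 ≤ 2 * m := by
  obtain ⟨n, rfl⟩ : ∃ n, m = n + 1 := ⟨m - 1, by omega⟩
  have e0 : 2 * (n + 1) - 1 = 2 * n + 1 := by omega
  rw [e0, Nat.add_sub_cancel, prod_split_odd] at h
  have ea : q ^ (2 * (n + 1) * (2 * n + 1)) =
      (q ^ 2) ^ ((n + 1) * n) * q ^ (2 * (n + 1) * (n + 1)) := by
    rw [← pow_mul, ← pow_add]; congr 1; ring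
  have eb : q ^ (2 * (n + 1)) = (q ^ 2) ^ (n + 1) := by rw [← pow_mul]
  rw [ea, eb] at h
  have hbpos : 0 < (q ^ 2) ^ (n + 1) - 1 := by
    have : 2 ≤ (q ^ 2) ^ (n + 1) := by rw [← pow_mul]; exact two_le_pow' hq (by omega)
    omega
  have hC : 0 < 2 * (q ^ 2) ^ ((n + 1) * n) * ((q ^ 2) ^ (n + 1) - 1) *
      ∏ i ∈ Finset.range n, ((q ^ 2) ^ (2 * (i + 1)) - 1) := by
    have h1 : 0 < (q ^ 2) ^ ((n + 1) * n) := by
      rw [← pow_mul]; exact one_le_pow' hq _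
    have h2 := prodY_pos hq n
    positivity
  have hZ : r ∣ ∏ k ∈ Finset.range (n + 1), (q ^ (2 * (2 * k + 1)) - 1) := by
    refine cancel_core (N := N) (k := 2 * (n + 1) * (n + 1)) hr hrq hrM hC rfl ?_
    rw [mul_assoc M N, h]; ring
  obtain ⟨j, hj, hjm, hcore⟩ := core_prod hq hr hZ
  rcases hcore with ⟨h1, h2⟩ | ⟨f, h1, h2, h3⟩
  · left; exact ⟨h1, by omega⟩
  · right; exact ⟨f, h1, h2, by omega⟩

/-- OC2 (minus type, `d = 2m`) -/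
theorem OC2_minus_even {q m r M N : ℕ} (hq : 2 ≤ q) (hm : 1 ≤ m) (hr : r.Prime) (hr2 : r ≠ 2)
    (hrq : ¬ r ∣ q) (hrM : r ∣ M)
    (h : M * (N * (2 * (q ^ 2) ^ (m * (m - 1)) * ((q ^ 2) ^ m + 1) *
        ∏ i ∈ Finset.range (m - 1), ((q ^ 2) ^ (2 * (i + 1)) - 1))) =
      2 * q ^ (2 * m * (2 * m - 1)) * (q ^ (2 * m) + 1) *
        ∏ i ∈ Finset.range (2 * m - 1), (q ^ (2 * (i + 1)) - 1)) :
    (Odd (orderOf ((q : ℕ) : ZMod r)) ∧ orderOf ((q : ℕ) : ZMod r) + 1 ≤ 2 * m) ∨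
      ∃ f, orderOf ((q : ℕ) : ZMod r) = 2 * f ∧ Odd f ∧ f ≤ 2 * m := by
  obtain ⟨n, rfl⟩ : ∃ n, m = n + 1 := ⟨m - 1, by omega⟩
  have e0 : 2 * (n + 1) - 1 = 2 * n + 1 := by omega
  rw [e0, Nat.add_sub_cancel, prod_split_odd] at h
  have ea : q ^ (2 * (n + 1) * (2 * n + 1)) =
      (q ^ 2) ^ ((n + 1) * n) * q ^ (2 * (n + 1) * (n + 1)) := by
    rw [← pow_mul, ← pow_add]; congr 1; ring
  have eb : q ^ (2 * (n + 1)) = (q ^ 2) ^ (n + 1) := by rw [← pow_mul]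
  rw [ea, eb] at h
  have hC : 0 < 2 * (q ^ 2) ^ ((n + 1) * n) * ((q ^ 2) ^ (n + 1) + 1) *
      ∏ i ∈ Finset.range n, ((q ^ 2) ^ (2 * (i + 1)) - 1) := by
    have h1 : 0 < (q ^ 2) ^ ((n + 1) * n) := by
      rw [← pow_mul]; exact one_le_pow' hq _
    have h2 := prodY_pos hq n
    positivity
  have hZ : r ∣ ∏ k ∈ Finset.range (n + 1), (q ^ (2 * (2 * k + 1)) - 1) := by
    refine cancel_core (N := N) (k := 2 * (n + 1) * (n + 1)) hr hrq hrM hC rfl ?_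
    rw [mul_assoc M N, h]; ring
  obtain ⟨j, hj, hjm, hcore⟩ := core_prod hq hr hZ
  rcases hcore with ⟨h1, h2⟩ | ⟨f, h1, h2, h3⟩
  · left; exact ⟨h1, by omega⟩
  · right; exact ⟨f, h1, h2, by omega⟩

/-- OC2 (plus type, `d = 2m+1`) -/
theorem OC2_plus_odd {q m r M N : ℕ} (hq : 2 ≤ q) (hr : r.Prime) (hr2 : r ≠ 2)
    (hrq : ¬ r ∣ q) (hrM : r ∣ M)
    (h : M * (N * (2 * (q ^ 2) ^ (m ^ 2) *
        ∏ i ∈ Finset.range m, ((q ^ 2) ^ (2 * (i + 1)) - 1))) =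
      2 * q ^ ((2 * m + 1) * (2 * m + 1 - 1)) * (q ^ (2 * m + 1) - 1) *
        ∏ i ∈ Finset.range (2 * m + 1 - 1), (q ^ (2 * (i + 1)) - 1)) :
    (Odd (orderOf ((q : ℕ) : ZMod r)) ∧ orderOf ((q : ℕ) : ZMod r) ≤ 2 * m + 1) ∨
      ∃ f, orderOf ((q : ℕ) : ZMod r) = 2 * f ∧ Odd f ∧ f + 1 ≤ 2 * m + 1 := by
  rw [Nat.add_sub_cancel, prod_split_even] at h
  have ea : q ^ ((2 * m + 1) * (2 * m)) = (q ^ 2) ^ (m ^ 2) * q ^ (2 * m ^ 2 + 2 * m) := by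
    rw [← pow_mul, ← pow_add]; congr 1; ring
  rw [ea] at h
  have hC : 0 < 2 * (q ^ 2) ^ (m ^ 2) *
      ∏ i ∈ Finset.range m, ((q ^ 2) ^ (2 * (i + 1)) - 1) := by
    have h1 : 0 < (q ^ 2) ^ (m ^ 2) := by
      rw [← pow_mul]; exact one_le_pow' hq _
    have h2 := prodY_pos hq m
    positivity
  have hZ : r ∣ (q ^ (2 * m + 1) - 1) *
      ∏ k ∈ Finset.range m, (q ^ (2 * (2 * k + 1)) - 1) := by
    refine cancel_core (N := N) (k := 2 * m ^ 2 + 2 * m) hr hrq hrM hC rfl ?_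
    rw [mul_assoc M N, h]; ring
  have : Fact r.Prime := ⟨hr⟩
  rcases (Nat.Prime.dvd_mul hr).1 hZ with h1 | h1
  · left
    have h0 : ((q ^ (2 * m + 1) - 1 : ℕ) : ZMod r) = 0 := (ZMod.natCast_eq_zero_iff _ _).2 h1
    rw [Nat.cast_sub (one_le_pow' hq _), Nat.cast_pow, Nat.cast_one, sub_eq_zero] at h0
    have hd : orderOf ((q : ℕ) : ZMod r) ∣ 2 * m + 1 := orderOf_dvd_of_pow_eq_one h0
    exact ⟨Odd.of_dvd_nat (odd_two_mul_add_one m) hd, Nat.le_of_dvd (by omega) hd⟩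
  · obtain ⟨j, hj, hjm, hcore⟩ := core_prod hq hr h1
    rcases hcore with ⟨h1, h2⟩ | ⟨f, h1, h2, h3⟩
    · left; exact ⟨h1, by omega⟩
    · right; exact ⟨f, h1, h2, by omega⟩

/-- OC2 (minus type, `d = 2m+1`) -/
theorem OC2_minus_odd {q m r M N : ℕ} (hq : 2 ≤ q) (hr : r.Prime) (hr2 : r ≠ 2)
    (hrq : ¬ r ∣ q) (hrM : r ∣ M)
    (h : M * (N * (2 * (q ^ 2) ^ (m ^ 2) *
        ∏ i ∈ Finset.range m, ((q ^ 2) ^ (2 * (i + 1)) - 1))) =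
      2 * q ^ ((2 * m + 1) * (2 * m + 1 - 1)) * (q ^ (2 * m + 1) + 1) *
        ∏ i ∈ Finset.range (2 * m + 1 - 1), (q ^ (2 * (i + 1)) - 1)) :
    (Odd (orderOf ((q : ℕ) : ZMod r)) ∧ orderOf ((q : ℕ) : ZMod r) + 1 ≤ 2 * m + 1) ∨
      ∃ f, orderOf ((q : ℕ) : ZMod r) = 2 * f ∧ Odd f ∧ f ≤ 2 * m + 1 := by
  rw [Nat.add_sub_cancel, prod_split_even] at h
  have ea : q ^ ((2 * m + 1) * (2 * m)) = (q ^ 2) ^ (m ^ 2) * q ^ (2 * m ^ 2 + 2 * m) := by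
    rw [← pow_mul, ← pow_add]; congr 1; ring
  rw [ea] at h
  have hC : 0 < 2 * (q ^ 2) ^ (m ^ 2) *
      ∏ i ∈ Finset.range m, ((q ^ 2) ^ (2 * (i + 1)) - 1) := by
    have h1 : 0 < (q ^ 2) ^ (m ^ 2) := by
      rw [← pow_mul]; exact one_le_pow' hq _
    have h2 := prodY_pos hq m
    positivity
  have hZ : r ∣ (q ^ (2 * m + 1) + 1) *
      ∏ k ∈ Finset.range m, (q ^ (2 * (2 * k + 1)) - 1) := by
    refine cancel_core (N := N) (k := 2 * m ^ 2 + 2 * m) hr hrq hrM hC rfl ?_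
    rw [mul_assoc M N, h]; ring
  have : Fact r.Prime := ⟨hr⟩
  have hr3 : 2 < r := lt_of_le_of_ne hr.two_le (Ne.symm hr2)
  have : Fact (2 < r) := ⟨hr3⟩
  rcases (Nat.Prime.dvd_mul hr).1 hZ with h1 | h1
  · right
    have h0 : ((q ^ (2 * m + 1) + 1 : ℕ) : ZMod r) = 0 := (ZMod.natCast_eq_zero_iff _ _).2 h1
    rw [Nat.cast_add, Nat.cast_pow, Nat.cast_one] at h0
    have h1' : ((q : ℕ) : ZMod r) ^ (2 * m + 1) = -1 := eq_neg_of_add_eq_zero_left h0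
    have h2' : ((q : ℕ) : ZMod r) ^ (2 * (2 * m + 1)) = 1 := by
      rw [mul_comm, pow_mul, h1']; norm_num
    have hd : orderOf ((q : ℕ) : ZMod r) ∣ 2 * (2 * m + 1) := orderOf_dvd_of_pow_eq_one h2'
    have hnd : ¬ orderOf ((q : ℕ) : ZMod r) ∣ 2 * m + 1 := by
      intro hd'
      have h3 : ((q : ℕ) : ZMod r) ^ (2 * m + 1) = 1 := orderOf_dvd_iff_pow_eq_one.1 hd'
      rw [h1'] at h3
      exact ZMod.neg_one_ne_one h3
    obtain ⟨e, he⟩ : ∃ e, e = orderOf ((q : ℕ) : ZMod r) := ⟨_, rfl⟩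
    rw [← he] at hd hnd ⊢
    rcases Nat.even_or_odd e with hev | hodd
    · obtain ⟨f, hf⟩ := hev
      have hf2 : e = 2 * f := by omega
      have hfj : f ∣ 2 * m + 1 := by
        rw [hf2] at hd
        exact (Nat.mul_dvd_mul_iff_left (by norm_num)).1 hd
      exact ⟨f, hf2, Odd.of_dvd_nat (odd_two_mul_add_one m) hfj, Nat.le_of_dvd (by omega) hfj⟩
    · exfalso
      have hcop : Nat.Coprime e 2 := Nat.Coprime.symm (Nat.coprime_two_left.2 hodd)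
      exact hnd (hcop.dvd_of_dvd_mul_left hd)
  · obtain ⟨j, hj, hjm, hcore⟩ := core_prod hq hr h1
    rcases hcore with ⟨h1, h2⟩ | ⟨f, h1, h2, h3⟩
    · left; exact ⟨h1, by omega⟩
    · right; exact ⟨f, h1, h2, by omega⟩

end Cfsg.Agent.Lib.Helper70_OrthExt_OC2
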