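import Mathlib
import Cfsg.Agent.Lib.Helper7_GUSp_PD2
import Cfsg.Agent.Lib.Helper40_OEven
import Cfsg.Agent.Lib.Helper43_OrthReal
import Cfsg.Agent.Lib.Helper43_OrthGen

set_option autoImplicit false

/-!
# Package OD2 of S5977/S5978 (helper43): derangements of odd prime order `r`, `ord_r(q)` odd,
in `Ω^±_{2d}(q)` against the normalisers of `F[θ]`, `θ² = Δ` a non-square.
Port of `Helper7_GUSp_PD2.PD2`.
-/

namespace Cfsg.Agent.Lib.Helper70_OrthExt_OD2

open Polynomial Matrix Module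
open Cfsg.Agent.Lib.Helper40_Palindromic Cfsg.Agent.Lib.Helper40_SpPrimeOrder
  Cfsg.Agent.Lib.Helper40_PolyFactors Cfsg.Agent.Lib.Helper40_PrimeOrderClasses
  Cfsg.Agent.Lib.Helper99_Singer Cfsg.Agent.Lib.Helper99_PrimeGraphL
  Cfsg.Agent.Lib.Helper99_SpDerange Cfsg.Agent.Lib.Helper7_GUSp_PD2
  Cfsg.Agent.Lib.Helper40_OEvenModel Cfsg.Agent.Lib.Helper40_OEven
  Cfsg.Agent.Lib.Helper40_OClasses Cfsg.Agent.Lib.Helper44_StdForms
  Cfsg.Agent.Lib.Helper40_SpExist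

/-- the generic non-commutation statement: a matrix of order `r` whose characteristic polynomial
has an irreducible factor `w ≠ X - 1` of odd degree `ord_r(q)` with multiplicity one commutes with
no `θ` whose square is a non-square scalar -/
theorem no_comm {F : Type*} [Field F] [Fintype F] (p : ℕ) [Fact p.Prime] [CharP F p]
    {ι : Type} [Fintype ι] [DecidableEq ι] (r : ℕ) (hr : r.Prime) (hrp : r ≠ p)
    (he : Odd (orderOf ((Fintype.card F : ℕ) : ZMod r)))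
    (A : Matrix ι ι F) (hAr : A ^ r = 1) (w g : F[X]) (hwi : Irreducible w)
    (hwdeg : w.natDegree = orderOf ((Fintype.card F : ℕ) : ZMod r))
    (hcopg : IsCoprime w g) (hcopw1 : IsCoprime w ((X : F[X]) - 1))
    (hAc : A.charpoly = w * g) (Δ : F) (hΔ : ¬ IsSquare Δ) :
    ∀ θ : Matrix ι ι F, θ * θ = Δ • (1 : Matrix ι ι F) → A * θ ≠ θ * A := by
  classical
  have hrq : ¬ r ∣ Fintype.card F := not_dvd_card p hr hrp
  set e := orderOf ((Fintype.card F : ℕ) : ZMod r) with hedef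
  intro θ hθ hcomm
  apply hΔ
  set T : Module.End F (ι → F) := Matrix.toLin' A with hTdef
  set Θ : Module.End F (ι → F) := Matrix.toLin' θ with hΘdef
  have hTΘ : T * Θ = Θ * T := by
    rw [hTdef, hΘdef, Module.End.mul_eq_comp, Module.End.mul_eq_comp, ← Matrix.toLin'_mul,
      ← Matrix.toLin'_mul, hcomm]
  have hΘΘ : Θ * Θ = Δ • (1 : Module.End F (ι → F)) := by
    rw [hΘdef, Module.End.mul_eq_comp, ← Matrix.toLin'_mul, hθ, map_smul, Matrix.toLin'_one]
    rfl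
  have hT : T ^ r = 1 := by
    rw [hTdef, ← Matrix.toLin'_pow, hAr, Matrix.toLin'_one]
    rfl
  have hrne : ((r : ℕ) : F) ≠ 0 := by
    rw [Ne, CharP.cast_eq_zero_iff F p]
    intro h
    exact hrp ((Nat.prime_dvd_prime_iff_eq Fact.out hr).1 h).symm
  have hss : T.IsSemisimple :=
    Cfsg.Agent.Lib.Helper99_PrimeOrderSL.isSemisimple_of_pow_eq_one T r hrne hT
  have hchar : T.charpoly = w ^ 1 * g := by
    rw [hTdef, Matrix.charpoly_toLin', hAc, pow_one]
  have hle : finrank F (LinearMap.ker (aeval T w)) ≤ e := by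
    have := Cfsg.Agent.Lib.Helper78_KerAevalDim.finrank_ker_aeval_le T hss w g hwi 1 hcopg hchar
    rwa [hwdeg, mul_one] at this
  set W : Submodule F (ι → F) := LinearMap.ker (aeval T w) with hWdef
  have hcommw : ∀ S : Module.End F (ι → F), T * S = S * T → ∀ x ∈ W, S x ∈ W := by
    intro S hS x hx
    rw [hWdef, LinearMap.mem_ker] at hx ⊢
    have h1 : aeval T w * S = S * aeval T w := aeval_comm T S hS w
    have h3 : aeval T w (S x) = S (aeval T w x) := by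
      have := congrArg (fun f : Module.End F (ι → F) => f x) h1
      simpa only [Module.End.mul_apply] using this
    rw [h3, hx, map_zero]
  have hWT : ∀ x ∈ W, T x ∈ W := hcommw T rfl
  have hWΘ : ∀ x ∈ W, Θ x ∈ W := hcommw Θ hTΘ
  have hT1 : aeval T (X - 1 : F[X]) = T - 1 := by
    rw [map_sub, aeval_X, map_one]
  have hWfix : W ⊓ fixSpace T = ⊥ := by
    rw [eq_bot_iff]
    intro v hv
    rw [Submodule.mem_inf] at hv
    obtain ⟨a, b, hab⟩ := hcopw1
    have h1 : aeval T (a * w + b * (X - 1)) v = v := by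
      rw [hab, map_one, Module.End.one_apply]
    have hv1 : aeval T w v = 0 := hv.1
    have hv2 : aeval T (X - 1 : F[X]) v = 0 := by
      rw [hT1]
      exact hv.2
    rw [map_add, map_mul, map_mul, LinearMap.add_apply, Module.End.mul_apply,
      Module.End.mul_apply, hv1, hv2, map_zero, map_zero, add_zero] at h1
    rw [Submodule.mem_bot]
    exact h1.symm
  have hdvd : e ∣ finrank F W := by
    have h1 := orderOf_dvd_finrank_sub T hr hrq hT W hWT
    rwa [hWfix, finrank_bot, Nat.sub_zero] at h1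
  have hWne : W ≠ ⊥ := by
    obtain ⟨v, hv0, hv⟩ := Cfsg.Agent.Lib.Helper40_Semisimple.exists_ne_zero_aeval_eq_zero T w hwi
      (by rw [hchar, pow_one]; exact dvd_mul_right _ _)
    intro hbot
    apply hv0
    have : v ∈ W := hv
    rwa [hbot, Submodule.mem_bot] at this
  have hfin : finrank F W = e := by
    obtain ⟨j, hj⟩ := hdvd
    have hj0 : j ≠ 0 := by
      rintro rfl
      rw [mul_zero] at hj
      exact hWne (Submodule.finrank_eq_zero.1 hj)
    have hepos : 0 < e := he.pos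
    have hj1 : j = 1 := by
      rcases Nat.lt_or_ge j 2 with h | h
      · omega
      · exfalso
        have : e * 2 ≤ e * j := Nat.mul_le_mul_left e h
        omega
    rw [hj, hj1, mul_one]
  exact isSquare_of_odd_invariant W Θ hWΘ Δ hΘΘ (by rw [hfin]; exact he)


/-- the polynomial `c = w · w* · (X-1)^(2d-2e)` -/
theorem exists_poly {F : Type*} [Field F] [Fintype F] (p : ℕ) [Fact p.Prime] [CharP F p]
    (d : ℕ) (r : ℕ) (hr : r.Prime) (hr2 : r ≠ 2) (hrp : r ≠ p)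
    (he : Odd (orderOf ((Fintype.card F : ℕ) : ZMod r)))
    (hed : orderOf ((Fintype.card F : ℕ) : ZMod r) ≤ d) :
    ∃ w g : F[X], Irreducible w ∧
      w.natDegree = orderOf ((Fintype.card F : ℕ) : ZMod r) ∧
      IsCoprime w g ∧ IsCoprime w ((X : F[X]) - 1) ∧ Pal r d (w * g) ∧
      (orderOf ((Fintype.card F : ℕ) : ZMod r) < d → ((X : F[X]) - 1) ∣ w * g) ∧
      (orderOf ((Fintype.card F : ℕ) : ZMod r) = d → ¬ ((X : F[X]) - 1) ∣ w * g) := by
  classical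
  have hrF : Fact r.Prime := ⟨hr⟩
  have hrodd : Odd r := hr.odd_of_ne_two hr2
  have hrq : ¬ r ∣ Fintype.card F := not_dvd_card p hr hrp
  set e := orderOf ((Fintype.card F : ℕ) : ZMod r) with hedef
  obtain ⟨hepos, Ws, hWcard, hWs, -⟩ := exists_cyclotomic_factors (F := F) p r hr hrp
  have hq0 : ((Fintype.card F : ℕ) : ZMod r) ≠ 0 := by
    rwa [Ne, ZMod.natCast_eq_zero_iff]
  have hedvd : e ∣ r - 1 := ZMod.orderOf_dvd_card_sub_one hq0
  have hWne : Ws.Nonempty := by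
    rw [← Finset.card_pos, hWcard]
    exact Nat.div_pos (Nat.le_of_dvd (by have := hr.two_le; omega) hedvd) hepos
  obtain ⟨w, hw⟩ := hWne
  obtain ⟨hwm, hwi, hw1, hwd, hwdeg⟩ := hWs w hw
  have hw0 : w.coeff 0 ≠ 0 := coeff_zero_ne_zero_of_dvd r hr.pos w hwd
  have hne : recip w ≠ w :=
    recip_ne_of_odd r hrodd w hwm hwi hw0 hw1 hwd (by rw [hwdeg]; exact he)
  have hrm : (recip w).Monic := recip_monic w hw0
  have hri : Irreducible (recip w) := irreducible_recip w hwi hw0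
  have hrd : recip w ∣ X ^ r - 1 := by
    have := recip_dvd hwd
    rwa [recip_X_pow_sub_one r hr.pos] at this
  have hcop : IsCoprime w (recip w) :=
    isCoprime_of_monic_irreducible_ne hwi hwm hri hrm (Ne.symm hne)
  have hr1 : recip w ≠ X - 1 := by
    intro h
    apply hw1
    have h2 := congrArg recip h
    rwa [recip_recip w hwm hw0, recip_X_sub_one] at h2
  have hX1m : ((X : F[X]) - 1).Monic := X_sub_one_props.1
  have hX1i : Irreducible ((X : F[X]) - 1) := X_sub_one_props.2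
  have hcopw1 : IsCoprime w ((X : F[X]) - 1) :=
    isCoprime_of_monic_irreducible_ne hwi hwm hX1i hX1m hw1
  have hcopr1 : IsCoprime (recip w) ((X : F[X]) - 1) :=
    isCoprime_of_monic_irreducible_ne hri hrm hX1i hX1m hr1
  set k := 2 * d - 2 * e with hk
  have hkev : Even k := ⟨d - e, by omega⟩
  set g : F[X] := recip w * (X - 1) ^ k with hg
  have hgm : g.Monic := hrm.mul (hX1m.pow k)
  have hcopg : IsCoprime w g := hcop.mul_right (hcopw1.pow_right)
  set c : F[X] := w * g with hc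
  have hcm : c.Monic := hwm.mul hgm
  have hcdeg : c.natDegree = 2 * d := by
    rw [hc, hwm.natDegree_mul hgm, hg, hrm.natDegree_mul (hX1m.pow k), hX1m.natDegree_pow,
      natDegree_X_sub_one, recip_natDegree w hw0, hwdeg]
    omega
  have hcrev : c.reverse = c := by
    have h1 : c = (w * recip w) * (X - 1) ^ k := by rw [hc, hg, mul_assoc]
    rw [h1, reverse_mul_of_domain, reverse_mul_recip w hwm hw0, reverse_X_sub_one_pow k hkev]
  refine ⟨w, g, hwi, hwdeg, hcopg, hcopw1, ⟨hcm, hcdeg, hcrev, ?_⟩, ?_, ?_⟩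
  · intro f hf hfc
    rw [hg] at hfc
    rcases hf.prime.dvd_or_dvd hfc with h | h
    · exact h.trans hwd
    · rcases hf.prime.dvd_or_dvd h with h' | h'
      · exact h'.trans hrd
      · exact (hf.prime.dvd_of_dvd_pow h').trans (X_sub_one_dvd r hr)
  · intro hlt
    have hk1 : k = (k - 1) + 1 := by omega
    rw [hg, hk1, pow_succ]
    exact Dvd.intro_left (w * (recip w * (X - 1) ^ (k - 1))) (by ring)
  · intro heq hdvd
    have hk0 : k = 0 := by omega
    rw [hg, hk0, pow_zero, mul_one] at hdvd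
    rcases hX1i.prime.dvd_or_dvd hdvd with h | h
    · exact hX1i.not_isUnit (hcopw1.symm.isUnit_of_dvd' dvd_rfl h)
    · exact hX1i.not_isUnit (hcopr1.symm.isUnit_of_dvd' dvd_rfl h)


/-- from an isometry of odd order `r` with the right characteristic polynomial to the package
conclusion -/
theorem finish {F : Type*} [Field F] [Fintype F] (p : ℕ) [Fact p.Prime] [CharP F p]
    (h2 : (2 : F) ≠ 0) {ι : Type} [Fintype ι] [DecidableEq ι] (Q : QuadraticForm F (ι → F))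
    (hQ : (QuadraticMap.polarBilin Q).Nondegenerate)
    (r : ℕ) (hr : r.Prime) (hr2 : r ≠ 2) (hrp : r ≠ p)
    (he : Odd (orderOf ((Fintype.card F : ℕ) : ZMod r)))
    (w g : F[X]) (hwi : Irreducible w)
    (hwdeg : w.natDegree = orderOf ((Fintype.card F : ℕ) : ZMod r))
    (hcopg : IsCoprime w g) (hcopw1 : IsCoprime w ((X : F[X]) - 1))
    (g₀ : ↥(Cfsg.isometryGroup F ⇑Q)) (hg1 : g₀ ^ r = 1) (hg2 : (mat Q g₀).charpoly = w * g)
    (Δ : F) (hΔ : ¬ IsSquare Δ) :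
    ∃ x : GL ι F, x ∈ Cfsg.Geo.omegaGL (⇑Q) ∧ x ^ r = 1 ∧
      ∀ θ : Matrix ι ι F, θ * θ = Δ • (1 : Matrix ι ι F) →
        (x : Matrix ι ι F) * θ ≠ θ * (x : Matrix ι ι F) := by
  have hrodd : Odd r := hr.odd_of_ne_two hr2
  have hxr : (g₀ : GL ι F) ^ r = 1 := by
    rw [← SubgroupClass.coe_pow, hg1]; rfl
  have hx : ∀ v : ι → F, Q (((g₀ : GL ι F) : Matrix ι ι F) *ᵥ v) = Q v :=
    (Cfsg.Agent.Lib.Helper44_Orth.mem_isometryGroup_iff _ _).1 g₀.2
  refine ⟨(g₀ : GL ι F),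
    Cfsg.Agent.Lib.Helper43_OrthReal.mem_omegaGL_of_pow h2 Q hQ _ hx r hrodd hxr, hxr, ?_⟩
  exact no_comm p r hr hrp he (mat Q g₀) ((mat_pow_eq_one_iff Q g₀ r).2 hg1) w g hwi hwdeg hcopg
    hcopw1 hg2 Δ hΔ

/-- OD2 (plus): `e = ord_r(q)` odd, `e ≤ d` -/
theorem OD2_plus {F : Type*} [Field F] [Fintype F] (p : ℕ) [Fact p.Prime] [CharP F p]
    (h2 : (2 : F) ≠ 0) (d : ℕ) (r : ℕ) (hr : r.Prime) (hr2 : r ≠ 2) (hrp : r ≠ p)
    (he : Odd (orderOf ((Fintype.card F : ℕ) : ZMod r)))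
    (hed : orderOf ((Fintype.card F : ℕ) : ZMod r) ≤ d) (Δ : F) (hΔ : ¬ IsSquare Δ) :
    ∃ x : GL (Fin d ⊕ Fin d) F, x ∈ Cfsg.Geo.omegaGL (Cfsg.quadFormPlus d F) ∧ x ^ r = 1 ∧
      ∀ θ : Matrix (Fin d ⊕ Fin d) (Fin d ⊕ Fin d) F,
        θ * θ = Δ • (1 : Matrix (Fin d ⊕ Fin d) (Fin d ⊕ Fin d) F) →
        (x : Matrix (Fin d ⊕ Fin d) (Fin d ⊕ Fin d) F) * θ ≠
          θ * (x : Matrix (Fin d ⊕ Fin d) (Fin d ⊕ Fin d) F) := by
  have hp : p.Prime := Fact.out
  have hrodd : Odd r := hr.odd_of_ne_two hr2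
  have hrF : (r : F) ≠ 0 := by
    rw [Ne, CharP.cast_eq_zero_iff F p]
    intro hdvd
    exact hrp ((Nat.prime_dvd_prime_iff_eq hp hr).1 hdvd).symm
  have hm : 1 ≤ d := le_trans he.pos hed
  obtain ⟨w, g, hwi, hwdeg, hcopg, hcopw1, hpal, hlt, heq⟩ :=
    exists_poly (F := F) p d r hr hr2 hrp he hed
  obtain ⟨ζ, hζ⟩ := Cfsg.Agent.Lib.Helper40_QuadStd.exists_aniso (F := F)
  have hex : ∃ g₀ : ↥(Cfsg.isometryGroup F ⇑(qfPlus d F)),
      g₀ ^ r = 1 ∧ (mat (qfPlus d F) g₀).charpoly = w * g := by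
    rcases Nat.lt_or_ge (orderOf ((Fintype.card F : ℕ) : ZMod r)) d with h | h
    · exact (real_of_dvd d hm r hrodd hrF (w * g) hpal (hlt h) 1 ζ hζ).1
    · have hed' : orderOf ((Fintype.card F : ℕ) : ZMod r) = d := le_antisymm hed h
      rcases real_of_not_dvd d hm r hrodd hrF (w * g) hpal 1 ζ hζ with h' | ⟨g₀, hg1, hg2⟩
      · exact h'
      · exfalso
        exact (minus_excl p d hm r hr hr2 hrp 1 ζ hζ g₀ hg1
          (by rw [hg2]; exact heq hed')).1 he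
  obtain ⟨g₀, hg1, hg2⟩ := hex
  have := finish p h2 (qfPlus d F) (Cfsg.Agent.Lib.Helper43_OrthReal.nondegenerate_qfPlus d)
    r hr hr2 hrp he w g hwi hwdeg hcopg hcopw1 g₀ hg1 hg2 Δ hΔ
  rwa [coe_qfPlus] at this

/-- OD2 (minus): `e = ord_r(q)` odd, `e + 1 ≤ d` -/
theorem OD2_minus {F : Type*} [Field F] [Fintype F] (p : ℕ) [Fact p.Prime] [CharP F p]
    (h2 : (2 : F) ≠ 0) (d : ℕ) (hd : 1 ≤ d) (a b : F)
    (hab : ∀ x y : F, x ^ 2 + a * x * y + b * y ^ 2 = 0 → x = 0 ∧ y = 0)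
    (r : ℕ) (hr : r.Prime) (hr2 : r ≠ 2) (hrp : r ≠ p)
    (he : Odd (orderOf ((Fintype.card F : ℕ) : ZMod r)))
    (hed : orderOf ((Fintype.card F : ℕ) : ZMod r) + 1 ≤ d) (Δ : F) (hΔ : ¬ IsSquare Δ) :
    ∃ x : GL ((Fin (d - 1) ⊕ Fin (d - 1)) ⊕ Fin 2) F,
      x ∈ Cfsg.Geo.omegaGL (Cfsg.quadFormMinus (d - 1) F a b) ∧ x ^ r = 1 ∧
      ∀ θ : Matrix ((Fin (d - 1) ⊕ Fin (d - 1)) ⊕ Fin 2) ((Fin (d - 1) ⊕ Fin (d - 1)) ⊕ Fin 2) F,
        θ * θ = Δ • (1 : Matrix ((Fin (d - 1) ⊕ Fin (d - 1)) ⊕ Fin 2)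
          ((Fin (d - 1) ⊕ Fin (d - 1)) ⊕ Fin 2) F) →
        (x : Matrix ((Fin (d - 1) ⊕ Fin (d - 1)) ⊕ Fin 2) ((Fin (d - 1) ⊕ Fin (d - 1)) ⊕ Fin 2) F) * θ ≠
          θ * (x : Matrix ((Fin (d - 1) ⊕ Fin (d - 1)) ⊕ Fin 2)
            ((Fin (d - 1) ⊕ Fin (d - 1)) ⊕ Fin 2) F) := by
  have hp : p.Prime := Fact.out
  have hrodd : Odd r := hr.odd_of_ne_two hr2
  have hrF : (r : F) ≠ 0 := by
    rw [Ne, CharP.cast_eq_zero_iff F p]
    intro hdvd
    exact hrp ((Nat.prime_dvd_prime_iff_eq hp hr).1 hdvd).symm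
  obtain ⟨w, g, hwi, hwdeg, hcopg, hcopw1, hpal, hlt, -⟩ :=
    exists_poly (F := F) p d r hr hr2 hrp he (by omega)
  obtain ⟨g₀, hg1, hg2⟩ :=
    (real_of_dvd d hd r hrodd hrF (w * g) hpal (hlt (by omega)) a b hab).2
  have := finish p h2 (qfMinus (d - 1) F a b)
    (Cfsg.Agent.Lib.Helper43_OrthGen.nondegenerate_qfMinus' h2 (d - 1) a b hab)
    r hr hr2 hrp he w g hwi hwdeg hcopg hcopw1 g₀ hg1 hg2 Δ hΔ
  rwa [coe_qfMinus] at this

end Cfsg.Agent.Lib.Helper70_OrthExt_OD2
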