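import Mathlib
import Cfsg.Agent.Lib.Helper34_PG_Defs
import Cfsg.Agent.Lib.Helper61_SL2

set_option autoImplicit false

/-!
# S3663 package PG-FIX (architect helper34), the part independent of the other packages

Elements of order `13` of `G16` are fixed-point-free on `Vset`, given: (ORB) a function of `Wset` fixed
by `g13` is constant, (SYL) elements of order `13` are conjugate up to a power, (STAB) `Wset` is
`G16`-stable, (ELTS) `g13` has order `13`.
-/

namespace Cfsg.Agent.Lib.Helper70_PG_FIXaux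

open Matrix Cfsg.Agent.Lib.Helper34_PG_F16 Cfsg.Agent.Lib.Helper34_PG_Defs
open Cfsg.Agent.Lib.Helper61_SL2 (SamePrimeGraph)

/-- a function invariant under `a` is invariant under the powers of `a` -/
theorem inv_pow (f : Pt → ZMod 5) (a : G16) (h : ∀ x : Pt, f (a • x) = f x) (n : ℕ) (x : Pt) :
    f (a ^ n • x) = f x := by
  induction n with
  | zero => rw [pow_zero, one_smul]
  | succ n ih => rw [pow_succ', mul_smul, h, ih]

theorem fpf_Vset_aux
    (hORB : ∀ f : Pt → ZMod 5, f ∈ Wset → (∀ x : Pt, f (g13 • x) = f x) → ∀ x y : Pt, f x = f y)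
    (hSYL : ∀ a b : G16, orderOf a = 13 → orderOf b = 13 →
      ∃ c : G16, ∃ i : ℕ, a = c * b ^ i * c⁻¹)
    (hSTAB : ∀ (g : G16) (f : Pt → ZMod 5), f ∈ Wset → (fun x => f (g⁻¹ • x)) ∈ Wset)
    (h13 : orderOf g13 = 13)
    (g : G16) (hg : orderOf g = 13) (F : M2) (hF : F ∈ Vset) (hfix : g • F = F) :
    F = 0 := by
  obtain ⟨f, hf, rfl⟩ := hF
  have hg13 : g ^ 13 = 1 := by rw [← hg]; exact pow_orderOf_eq_one g
  -- `f (g⁻¹ • x) - f x` is constant
  have h1 : ∀ x y : Pt, f (g⁻¹ • x) - f (g⁻¹ • y) = f x - f y := by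
    intro x y
    have := congrFun (congrFun hfix x) y
    exact this
  -- `f` is `g`-invariant
  have hinv : ∀ x : Pt, f (g⁻¹ • x) = f x := by
    intro x0
    have hc : ∀ x : Pt, f (g⁻¹ • x) = f x + (f (g⁻¹ • x0) - f x0) := by
      intro x
      have := h1 x x0
      linear_combination this
    have hn : ∀ (n : ℕ) (x : Pt), f ((g⁻¹) ^ n • x) = f x + n • (f (g⁻¹ • x0) - f x0) := by
      intro n
      induction n with
      | zero => intro x; rw [pow_zero, one_smul, zero_smul, add_zero]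
      | succ n ih =>
        intro x
        rw [pow_succ, mul_smul, ih, hc, succ_nsmul]
        ring
    have h13' := hn 13 x0
    rw [_root_.inv_pow, hg13, inv_one, one_smul] at h13'
    have hc0 : (13 : ℕ) • (f (g⁻¹ • x0) - f x0) = 0 := by
      have : f x0 + (13 : ℕ) • (f (g⁻¹ • x0) - f x0) = f x0 + 0 := by rw [← h13', add_zero]
      exact add_left_cancel this
    have hc1 : f (g⁻¹ • x0) - f x0 = 0 := by
      have h3 : (13 : ℕ) • (f (g⁻¹ • x0) - f x0) = 3 * (f (g⁻¹ • x0) - f x0) := by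
        rw [nsmul_eq_mul]
        have : ((13 : ℕ) : ZMod 5) = 3 := by decide
        rw [this]
      rw [h3] at hc0
      have h2 : (2 : ZMod 5) * (3 * (f (g⁻¹ • x0) - f x0)) = f (g⁻¹ • x0) - f x0 := by
        rw [← mul_assoc]
        have : (2 : ZMod 5) * 3 = 1 := by decide
        rw [this, one_mul]
      rw [← h2, hc0, mul_zero]
    exact sub_eq_zero.mp hc1
  have hinv' : ∀ x : Pt, f (g • x) = f x := by
    intro x
    have := hinv (g • x)
    rw [inv_smul_smul] at this
    exact this.symm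
  -- conjugate to a power of `g13`
  obtain ⟨c₀, i, hgi⟩ := hSYL g g13 hg h13
  have hf' : (fun x => f (c₀ • x)) ∈ Wset := by
    have := hSTAB c₀⁻¹ f hf
    simpa using this
  have hfi : ∀ x : Pt, f (c₀ • (g13 ^ i • x)) = f (c₀ • x) := by
    intro x
    have : c₀ • (g13 ^ i • x) = g • (c₀ • x) := by
      rw [hgi, mul_smul, mul_smul, inv_smul_smul]
    rw [this, hinv']
  -- `13 ∤ i`
  have hi : Nat.Coprime i 13 := by
    rw [Nat.coprime_comm, Nat.Prime.coprime_iff_not_dvd (by norm_num)]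
    intro hdvd
    obtain ⟨m, rfl⟩ := hdvd
    have : g13 ^ (13 * m) = 1 := by
      rw [pow_mul, ← h13, pow_orderOf_eq_one, one_pow]
    rw [this, mul_one, mul_inv_cancel] at hgi
    rw [hgi, orderOf_one] at hg
    norm_num at hg
  obtain ⟨m, -, hm⟩ := Nat.exists_mul_mod_eq_one_of_coprime hi (by norm_num : 1 < 13)
  have hpow : (g13 ^ i) ^ m = g13 := by
    rw [← pow_mul, ← pow_mod_orderOf, h13, hm, pow_one]
  have hf13 : ∀ x : Pt, f (c₀ • (g13 • x)) = f (c₀ • x) := by
    intro x
    have := inv_pow (fun x => f (c₀ • x)) (g13 ^ i) hfi m x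
    rw [hpow] at this
    exact this
  have hconst := hORB _ hf' hf13
  -- conclusion
  ext x y
  show f x - f y = 0
  have := hconst (c₀⁻¹ • x) (c₀⁻¹ • y)
  simp only [smul_inv_smul] at this
  rw [this, sub_self]

end Cfsg.Agent.Lib.Helper70_PG_FIXaux
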