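import Mathlib
import Cfsg.Agent.Lib.Helper34_PG_Defs
import Cfsg.Agent.Lib.Helper61_SL2

set_option autoImplicit false

/-!
# S3663 package PG-POW (architect helper34), the part independent of PG-VSUB

`h = (a, g)` in `Hbig k = (M2)^k ⋊ G16`: `h ^ n = (∑_{i<n} g^i • a, g^n)`; if `g` has order `r` and acts
fixed-point-freely on `Vset` (which is closed under `0`, `+` and `G16`), then `h ^ r = 1` for `h ∈ Sset k`.
-/

namespace Cfsg.Agent.Lib.Helper70_PG_POWaux

open Matrix Cfsg.Agent.Lib.Helper34_PG_F16 Cfsg.Agent.Lib.Helper34_PG_Defs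
open Cfsg.Agent.Lib.Helper61_SL2 (SamePrimeGraph)

theorem pow_right (k : ℕ) (h : Hbig k) (n : ℕ) : (h ^ n).right = h.right ^ n := by
  have := map_pow (SemidirectProduct.rightHom (φ := act (Fin k → M2))) h n
  simpa using this

theorem toAdd_act (k : ℕ) (g : G16) (x : Multiplicative (Fin k → M2)) :
    Multiplicative.toAdd (act (Fin k → M2) g x) = g • Multiplicative.toAdd x := rfl

theorem pow_left (k : ℕ) (h : Hbig k) (n : ℕ) :
    Multiplicative.toAdd (h ^ n).left =
      ∑ i ∈ Finset.range n, h.right ^ i • Multiplicative.toAdd h.left := by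
  induction n with
  | zero =>
    rw [pow_zero, Finset.sum_range_zero, SemidirectProduct.one_left]
    rfl
  | succ n ih =>
    rw [pow_succ, SemidirectProduct.mul_left, toAdd_mul, ih, pow_right, Finset.sum_range_succ,
      toAdd_act]

theorem sum_pow_smul_fixed {A : Type} [AddCommGroup A] [DistribMulAction G16 A] (g : G16) (r : ℕ)
    (hr : g ^ r = 1) (x : A) :
    g • (∑ j ∈ Finset.range r, g ^ j • x) = ∑ j ∈ Finset.range r, g ^ j • x := by
  rw [Finset.smul_sum]
  have h1 : ∀ j ∈ Finset.range r, g • g ^ j • x = g ^ (j + 1) • x := by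
    intro j _
    rw [← mul_smul, ← pow_succ']
  rw [Finset.sum_congr rfl h1]
  have h2 := Finset.sum_range_succ (fun j => g ^ j • x) r
  have h3 := Finset.sum_range_succ' (fun j => g ^ j • x) r
  rw [h2] at h3
  simp only [hr, pow_zero, one_smul] at h3
  exact (add_right_cancel h3).symm

theorem pow_eq_one_of_fpf_aux (hV0 : (0 : M2) ∈ Vset)
    (hVadd : ∀ F F' : M2, F ∈ Vset → F' ∈ Vset → F + F' ∈ Vset)
    (hVsmul : ∀ (g : G16) (F : M2), F ∈ Vset → g • F ∈ Vset)
    (k : ℕ) (h : Hbig k) (hS : h ∈ Sset k) (r : ℕ)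
    (hr : orderOf h.right = r) (hfpf : ∀ F ∈ Vset, h.right • F = F → F = 0) : h ^ r = 1 := by
  have hgr : h.right ^ r = 1 := by rw [← hr]; exact pow_orderOf_eq_one _
  apply SemidirectProduct.ext
  · rw [SemidirectProduct.one_left]
    apply Multiplicative.toAdd.injective
    rw [pow_left, toAdd_one]
    funext i
    rw [Finset.sum_apply]
    have hterm : ∀ j ∈ Finset.range r,
        (h.right ^ j • Multiplicative.toAdd h.left) i =
          h.right ^ j • (Multiplicative.toAdd h.left i) := fun j _ => rfl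
    rw [Finset.sum_congr rfl hterm]
    apply hfpf
    · apply Finset.sum_induction _ (· ∈ Vset) hVadd hV0
      intro j _
      exact hVsmul _ _ (hS i)
    · exact sum_pow_smul_fixed h.right r hgr _
  · rw [pow_right, hgr, SemidirectProduct.one_right]

end Cfsg.Agent.Lib.Helper70_PG_POWaux
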