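import Mathlib
import Cfsg.Agent.Lib.Helper34_PG_Defs

set_option autoImplicit false

/-!
# PG-STAB (S3663, architect helper34): `Wset` is `G16`-stable

Normalisation of isotropic vectors (`lead`, `nz`), semilinearity of `herm`, and the reindexing of the line sum.
-/

namespace Cfsg.Agent.Lib.Helper95_PG_STAB

open Matrix Cfsg.Agent.Lib.Helper34_PG_F16 Cfsg.Agent.Lib.Helper34_PG_Defs

theorem herm_smul_left (c : F16) (x u : V3) : herm (c • x) u = c * herm x u := by
  unfold herm
  simp only [Pi.smul_apply, smul_eq_mul]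
  ring

theorem herm_smul_right (c : F16) (x u : V3) : herm x (c • u) = c ^ 4 * herm x u := by
  unfold herm
  simp only [Pi.smul_apply, smul_eq_mul, ← F16.frob_eq, mul_pow]
  ring

/-- the first nonzero coordinate -/
def lead (v : V3) : F16 := if v 0 ≠ 0 then v 0 else if v 1 ≠ 0 then v 1 else v 2

theorem lead_ne_zero {v : V3} (hv : v ≠ 0) : lead v ≠ 0 := by
  unfold lead
  split_ifs with h0 h1
  · exact h0
  · exact h1
  · intro h2
    apply hv
    funext i
    fin_cases i
    · simpa using h0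
    · simpa using h1
    · exact h2

theorem nrm_lead_smul {v : V3} (hv : v ≠ 0) : Nrm ((lead v)⁻¹ • v) := by
  have hl := lead_ne_zero hv
  unfold lead at hl ⊢
  unfold Nrm
  simp only [Pi.smul_apply, smul_eq_mul]
  split_ifs at hl ⊢ with h0 h1
  · left
    exact inv_mul_cancel₀ h0
  · right; left
    rw [not_not] at h0
    exact ⟨by rw [h0, mul_zero], inv_mul_cancel₀ h1⟩
  · right; right
    rw [not_not] at h0 h1
    exact ⟨by rw [h0, mul_zero], by rw [h1, mul_zero], inv_mul_cancel₀ hl⟩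

theorem isIso_smul {c : F16} (hc : c ≠ 0) {v : V3} (hv : IsIso v) : IsIso (c • v) := by
  refine ⟨smul_ne_zero hc hv.1, ?_⟩
  rw [herm_smul_left, herm_smul_right, hv.2, mul_zero, mul_zero]

/-- the normalised multiple of an isotropic vector -/
def nz (x : Pt) : Pt := ⟨(lead x.1)⁻¹ • x.1, isIso_smul (inv_ne_zero (lead_ne_zero x.2.1)) x.2⟩

theorem nz_val (x : Pt) : (nz x).1 = (lead x.1)⁻¹ • x.1 := rfl

theorem nrm_nz (x : Pt) : Nrm (nz x).1 := nrm_lead_smul x.2.1

/-- a nonzero vector has at most one normalised scalar multiple -/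
theorem nrm_unique {v w : V3} (hv : Nrm v) (hw : Nrm w) {c : F16} (h : w = c • v) : w = v := by
  have e0 : w 0 = c * v 0 := by rw [h]; rfl
  have e1 : w 1 = c * v 1 := by rw [h]; rfl
  have e2 : w 2 = c * v 2 := by rw [h]; rfl
  have hc : c = 1 := by
    rcases hv with h0 | ⟨h0, h1⟩ | ⟨h0, h1, h2⟩
    · rw [h0, mul_one] at e0
      rcases hw with k0 | ⟨k0, k1⟩ | ⟨k0, k1, k2⟩
      · rw [← e0, k0]
      · exfalso
        rw [← e0, k0, zero_mul] at e1
        rw [e1] at k1
        exact zero_ne_one k1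
      · exfalso
        rw [← e0, k0, zero_mul] at e2
        rw [e2] at k2
        exact zero_ne_one k2
    · rw [h0, mul_zero] at e0
      rw [h1, mul_one] at e1
      rcases hw with k0 | ⟨k0, k1⟩ | ⟨k0, k1, k2⟩
      · exfalso
        rw [e0] at k0
        exact zero_ne_one k0
      · rw [← e1, k1]
      · exfalso
        rw [← e1, k1, zero_mul] at e2
        rw [e2] at k2
        exact zero_ne_one k2
    · rw [h0, mul_zero] at e0
      rw [h1, mul_zero] at e1
      rw [h2, mul_one] at e2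
      rcases hw with k0 | ⟨k0, k1⟩ | ⟨k0, k1, k2⟩
      · exfalso
        rw [e0] at k0
        exact zero_ne_one k0
      · exfalso
        rw [e1] at k1
        exact zero_ne_one k1
      · rw [← e2, k2]
  rw [h, hc, one_smul]

theorem pt_unique {x y : Pt} (hx : Nrm x.1) (hy : Nrm y.1) (h : ∃ c : F16, y.1 = c • x.1) :
    y = x := by
  obtain ⟨c, hc⟩ := h
  exact Subtype.ext (nrm_unique hx hy hc)

theorem smul_val_smul (g : G16) (c : F16) (v : V3) : mat g *ᵥ (c • v) = c • (mat g *ᵥ v) :=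
  Matrix.mulVec_smul _ _ _

theorem mat_mulVec_inv (g : G16) (v : V3) : mat g *ᵥ (mat g⁻¹ *ᵥ v) = v := by
  have := mat_inv_mulVec g⁻¹ v
  rwa [inv_inv] at this

/-- `x ↦ nz (g • x)` maps the normalised points of `u^⊥` to those of `(g u)^⊥`. -/
theorem herm_nz_smul (g : G16) (x : Pt) (u : V3) (hx : herm x.1 u = 0) :
    herm (nz (g • x)).1 (mat g *ᵥ u) = 0 := by
  rw [nz_val, herm_smul_left, smul_val, herm_mat, hx, mul_zero]

theorem nz_smul_nz_smul (g : G16) (x : Pt) (hx : Nrm x.1) : nz (g⁻¹ • nz (g • x)) = x := by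
  apply pt_unique hx (nrm_nz _)
  refine ⟨(lead (g⁻¹ • nz (g • x)).1)⁻¹ * (lead (g • x).1)⁻¹, ?_⟩
  rw [nz_val, smul_val, nz_val, smul_val_smul, smul_val, mat_inv_mulVec, smul_smul]

/-- **PG-STAB**.  `Wset` is `G16`-stable. -/
theorem smul_mem_Wset (g : G16) (f : Pt → ZMod 5) (hf : f ∈ Wset) :
    (fun x => f (g⁻¹ • x)) ∈ Wset := by
  obtain ⟨hf1, hf2⟩ := hf
  refine ⟨?_, ?_⟩
  · rintro x y ⟨c, hc⟩
    apply hf1
    refine ⟨c, ?_⟩
    rw [smul_val, smul_val, hc, smul_val_smul]
  · intro u hu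
    have hu' : herm (mat g⁻¹ *ᵥ u) (mat g⁻¹ *ᵥ u) ≠ 0 := by
      rw [herm_mat]
      exact hu
    rw [← hf2 _ hu']
    unfold lineSum
    rw [← Finset.sum_filter, ← Finset.sum_filter]
    refine Finset.sum_nbij' (fun x => nz (g⁻¹ • x)) (fun y => nz (g • y)) ?_ ?_ ?_ ?_ ?_
    · intro x hx
      rw [Finset.mem_filter] at hx ⊢
      exact ⟨Finset.mem_univ _, nrm_nz _, herm_nz_smul g⁻¹ x u hx.2.2⟩
    · intro y hy
      rw [Finset.mem_filter] at hy ⊢
      refine ⟨Finset.mem_univ _, nrm_nz _, ?_⟩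
      have := herm_nz_smul g y _ hy.2.2
      rwa [mat_mulVec_inv] at this
    · intro x hx
      rw [Finset.mem_filter] at hx
      have := nz_smul_nz_smul g⁻¹ x hx.2.1
      rwa [inv_inv] at this
    · intro y hy
      rw [Finset.mem_filter] at hy
      exact nz_smul_nz_smul g y hy.2.1
    · intro x _
      apply hf1
      exact ⟨_, nz_val _⟩

end Cfsg.Agent.Lib.Helper95_PG_STAB
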