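import Mathlib
import Cfsg.Agent.Lib.Helper34_PG_Defs
import Cfsg.Agent.Lib.Helper95_PG_STAB

set_option autoImplicit false

/-!
# PG-VSUB (S3663, architect helper34): `Vset` is closed under `0`, `+`, `-` and the action of `G16`
-/

namespace Cfsg.Agent.Lib.Helper95_PG_VSUB

open Matrix Cfsg.Agent.Lib.Helper34_PG_F16 Cfsg.Agent.Lib.Helper34_PG_Defs

theorem lineSum_zero (u : V3) : lineSum (fun _ => 0) u = 0 := by
  unfold lineSum
  apply Finset.sum_eq_zero
  intro x _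
  split_ifs <;> rfl

theorem lineSum_add (f f' : Pt → ZMod 5) (u : V3) :
    lineSum (fun x => f x + f' x) u = lineSum f u + lineSum f' u := by
  unfold lineSum
  rw [← Finset.sum_add_distrib]
  apply Finset.sum_congr rfl
  intro x _
  split_ifs
  · rfl
  · rw [add_zero]

theorem lineSum_neg (f : Pt → ZMod 5) (u : V3) :
    lineSum (fun x => - f x) u = - lineSum f u := by
  unfold lineSum
  rw [← Finset.sum_neg_distrib]
  apply Finset.sum_congr rfl
  intro x _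
  split_ifs
  · rfl
  · rw [neg_zero]

theorem zero_mem_Wset : (fun _ => 0 : Pt → ZMod 5) ∈ Wset :=
  ⟨fun _ _ _ => rfl, fun u _ => lineSum_zero u⟩

theorem add_mem_Wset {f f' : Pt → ZMod 5} (hf : f ∈ Wset) (hf' : f' ∈ Wset) :
    (fun x => f x + f' x) ∈ Wset := by
  refine ⟨fun x y h => ?_, fun u hu => ?_⟩
  · show f x + f' x = f y + f' y
    rw [hf.1 x y h, hf'.1 x y h]
  · rw [lineSum_add, hf.2 u hu, hf'.2 u hu, add_zero]

theorem neg_mem_Wset {f : Pt → ZMod 5} (hf : f ∈ Wset) : (fun x => - f x) ∈ Wset := by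
  refine ⟨fun x y h => ?_, fun u hu => ?_⟩
  · show - f x = - f y
    rw [hf.1 x y h]
  · rw [lineSum_neg, hf.2 u hu, neg_zero]

/-- **PG-VSUB**. -/
theorem zero_mem_Vset : (0 : M2) ∈ Vset := by
  refine ⟨fun _ => 0, zero_mem_Wset, ?_⟩
  ext x y
  show (0 : ZMod 5) = 0 - 0
  rw [sub_zero]

/-- **PG-VSUB**. -/
theorem add_mem_Vset {F F' : M2} (hF : F ∈ Vset) (hF' : F' ∈ Vset) : F + F' ∈ Vset := by
  obtain ⟨f, hf, rfl⟩ := hF
  obtain ⟨f', hf', rfl⟩ := hF'
  refine ⟨fun x => f x + f' x, add_mem_Wset hf hf', ?_⟩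
  ext x y
  show (f x - f y) + (f' x - f' y) = (f x + f' x) - (f y + f' y)
  ring

/-- **PG-VSUB**. -/
theorem neg_mem_Vset {F : M2} (hF : F ∈ Vset) : -F ∈ Vset := by
  obtain ⟨f, hf, rfl⟩ := hF
  refine ⟨fun x => - f x, neg_mem_Wset hf, ?_⟩
  ext x y
  show -(f x - f y) = (- f x) - (- f y)
  ring

/-- **PG-VSUB**. -/
theorem smul_mem_Vset (g : G16) {F : M2} (hF : F ∈ Vset) : g • F ∈ Vset := by
  obtain ⟨f, hf, rfl⟩ := hF
  exact ⟨fun x => f (g⁻¹ • x), Cfsg.Agent.Lib.Helper95_PG_STAB.smul_mem_Wset g f hf, rfl⟩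

theorem nsmul_mem_Vset (n : ℕ) {F : M2} (hF : F ∈ Vset) : n • F ∈ Vset := by
  induction n with
  | zero =>
    rw [zero_smul]
    exact zero_mem_Vset
  | succ n ih =>
    rw [succ_nsmul]
    exact add_mem_Vset ih hF

end Cfsg.Agent.Lib.Helper95_PG_VSUB
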