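import Mathlib
import Cfsg.Agent.Lib.Helper34_PG_Defs
import Cfsg.Agent.Lib.Helper61_SL2
import Cfsg.Agent.Lib.Helper95_PG_VSUB
import Cfsg.Agent.Lib.Helper70_PG_POWaux

set_option autoImplicit false

/-!
# S3663 package PG-POW (architect helper34): the verbatim statement, from `Helper70_PG_POWaux` and
helper95's `PG-VSUB`.
-/

namespace Cfsg.Agent.Lib.Helper70_PG_POW

open Matrix Cfsg.Agent.Lib.Helper34_PG_F16 Cfsg.Agent.Lib.Helper34_PG_Defs
open Cfsg.Agent.Lib.Helper61_SL2 (SamePrimeGraph)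

theorem pow_eq_one_of_fpf (k : ℕ) (h : Hbig k) (hS : h ∈ Sset k) (r : ℕ)
    (hr : orderOf h.right = r) (hfpf : ∀ F ∈ Vset, h.right • F = F → F = 0) : h ^ r = 1 :=
  Cfsg.Agent.Lib.Helper70_PG_POWaux.pow_eq_one_of_fpf_aux
    Cfsg.Agent.Lib.Helper95_PG_VSUB.zero_mem_Vset
    (fun _ _ hF hF' => Cfsg.Agent.Lib.Helper95_PG_VSUB.add_mem_Vset hF hF')
    (fun g _ hF => Cfsg.Agent.Lib.Helper95_PG_VSUB.smul_mem_Vset g hF)
    k h hS r hr hfpf

end Cfsg.Agent.Lib.Helper70_PG_POW
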