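import Mathlib
import Cfsg.Agent.Lib.Helper37_RHDefs

/-!
# REEHALL package SOLVNORMAL (architect helper37): a normal `r`-subgroup of a solvable subgroup
-/

set_option autoImplicit false

namespace Cfsg.Agent.Lib.Helper70_RH_SOLVNORMAL

open MulAction Subgroup Cfsg.Agent.Lib.Helper37_RHDefs
open scoped Pointwise

section general

/-- A non-trivial finite solvable group has a non-trivial normal `p`-subgroup for some prime `p`. -/
theorem exists_normal_pgroup (H : Type*) [Group H] [Finite H] [Group.IsSolvable H] [Nontrivial H] :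
    ∃ (p : ℕ) (N : Subgroup H), p.Prime ∧ N.Normal ∧ N ≠ ⊥ ∧ IsPGroup p N := by
  classical
  have hsolv : ∃ n, derivedSeries H n = ⊥ := Group.IsSolvable.solvable
  have hn0 : Nat.find hsolv ≠ 0 := by
    intro h0
    have h := Nat.find_spec hsolv
    rw [h0, derivedSeries_zero] at h
    exact top_ne_bot h
  obtain ⟨k, hk⟩ := Nat.exists_eq_succ_of_ne_zero hn0
  have hAne : derivedSeries H k ≠ ⊥ := Nat.find_min hsolv (by omega)
  have hAA : ⁅derivedSeries H k, derivedSeries H k⁆ = ⊥ := by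
    have h := Nat.find_spec hsolv
    rw [hk] at h
    exact h
  obtain ⟨A, hA⟩ : ∃ A : Subgroup H, A = derivedSeries H k := ⟨_, rfl⟩
  rw [← hA] at hAne hAA
  have hAn : A.Normal := by rw [hA]; exact derivedSeries_normal H k
  have hcomm : ∀ a b : A, a * b = b * a := by
    intro a b
    have h1 := (Subgroup.commutator_eq_bot_iff_le_centralizer.mp hAA) a.2
    have h2 := Subgroup.mem_centralizer_iff.mp h1 b b.2
    exact Subtype.ext h2.symm
  have hcard : Nat.card A ≠ 1 := fun h => hAne (Subgroup.card_eq_one.mp h)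
  obtain ⟨p, hp, hpd⟩ := Nat.exists_prime_and_dvd hcard
  have hfact : Fact p.Prime := ⟨hp⟩
  obtain ⟨P⟩ : Nonempty (Sylow p A) := inferInstance
  have hPn : (P : Subgroup A).Normal := by
    refine ⟨fun n hn g => ?_⟩
    rw [hcomm g n, mul_inv_cancel_right]
    exact hn
  have hPc : (P : Subgroup A).Characteristic := Sylow.characteristic_of_normal P hPn
  have hPne : (P : Subgroup A) ≠ ⊥ := Sylow.ne_bot_of_dvd_card P hpd
  refine ⟨p, (P : Subgroup A).map A.subtype, hp, inferInstance, ?_, P.isPGroup'.map A.subtype⟩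
  rw [Ne, Subgroup.map_eq_bot_iff_of_injective _ A.subtype_injective]
  exact hPne

/-- cardinality of a preimage under the quotient map -/
theorem card_comap_mk' {H : Type*} [Group H] [Finite H] (N : Subgroup H) [N.Normal]
    (M' : Subgroup (H ⧸ N)) :
    Nat.card (M'.comap (QuotientGroup.mk' N)) = Nat.card M' * Nat.card N := by
  have h1 := Subgroup.card_mul_index (M'.comap (QuotientGroup.mk' N))
  have h2 := Subgroup.card_mul_index M'
  have h3 := Subgroup.card_eq_card_quotient_mul_card_subgroup N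
  have h4 : (M'.comap (QuotientGroup.mk' N)).index = M'.index :=
    Subgroup.index_comap_of_surjective M' (QuotientGroup.mk'_surjective N)
  have h5 : M'.index ≠ 0 := Subgroup.index_ne_zero_of_finite
  rw [h4, h3, ← h2] at h1
  have : Nat.card (M'.comap (QuotientGroup.mk' N)) * M'.index =
      (Nat.card M' * Nat.card N) * M'.index := by
    rw [h1]; ring
  exact Nat.eq_of_mul_eq_mul_right (Nat.pos_of_ne_zero h5) this

end general

theorem dvd_eight_cases (n : ℕ) (hd : n ∣ 8) (h1 : n ≠ 1) : n = 2 ∨ n = 4 ∨ n = 8 := by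
  have hle : n ≤ 8 := Nat.le_of_dvd (by norm_num) hd
  have hpos : 0 < n := Nat.pos_of_dvd_of_pos hd (by norm_num)
  revert hd h1
  interval_cases n <;> decide

variable {G : Type*} [Group G] [Finite G] {Ω : Type*} [MulAction G Ω] {m : ℕ}

/-- a 2-subgroup has order dividing 8 -/
theorem card_dvd_eight (h : RH G Ω m) (K : Subgroup G) (hK : IsPGroup 2 K) : Nat.card K ∣ 8 := by
  have : Fact (Nat.Prime 2) := ⟨Nat.prime_two⟩
  obtain ⟨P, hP⟩ := hK.exists_le_sylow
  have h8 := (h.syl2 P).1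
  have := Subgroup.card_dvd_of_le hP
  rwa [h8] at this

omit [Finite G] in
/-- transport of a normal subgroup of `↥S` to `G` -/
theorem transport (S : Subgroup G) (N : Subgroup S) (hN : N.Normal) (hN0 : N ≠ ⊥) :
    N.map S.subtype ≤ S ∧ N.map S.subtype ≠ ⊥ ∧
      (∀ s ∈ S, ∀ x ∈ N.map S.subtype, s * x * s⁻¹ ∈ N.map S.subtype) ∧
      Nat.card (N.map S.subtype) = Nat.card N := by
  refine ⟨Subgroup.map_subtype_le N, ?_, ?_, ?_⟩
  · rw [Ne, Subgroup.map_eq_bot_iff_of_injective _ S.subtype_injective]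
    exact hN0
  · rintro s hs _ ⟨n, hn, rfl⟩
    exact ⟨⟨s, hs⟩ * n * ⟨s, hs⟩⁻¹, hN.conj_mem n hn ⟨s, hs⟩, rfl⟩
  · exact (Nat.card_congr (N.equivMapOfInjective S.subtype S.subtype_injective).toEquiv).symm

theorem exists_normal_sub (h : RH G Ω m) (S : Subgroup G) (hS : Group.IsSolvable S) (hS1 : S ≠ ⊥) :
    ∃ R : Subgroup G, R ≤ S ∧ R ≠ ⊥ ∧ (∀ s ∈ S, ∀ x ∈ R, s * x * s⁻¹ ∈ R) ∧
      ((∃ r : ℕ, r.Prime ∧ r ≠ 2 ∧ IsPGroup r R) ∨ Nat.card R = 4 ∨ Nat.card R = 8 ∨
        (R = S ∧ Nat.card R = 2)) := by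
  classical
  have hnt : Nontrivial S := (Subgroup.nontrivial_iff_ne_bot S).mpr hS1
  obtain ⟨p, N, hp, hN, hN0, hNp⟩ := exists_normal_pgroup S
  obtain ⟨t1, t2, t3, t4⟩ := transport S N hN hN0
  by_cases hp2 : p = 2
  swap
  · exact ⟨N.map S.subtype, t1, t2, t3, Or.inl ⟨p, hp, hp2, hNp.map S.subtype⟩⟩
  subst hp2
  have hd8 := card_dvd_eight h (N.map S.subtype) (hNp.map S.subtype)
  have hc1 : Nat.card (N.map S.subtype) ≠ 1 := fun hc => t2 (Subgroup.card_eq_one.mp hc)
  have hcases : Nat.card (N.map S.subtype) = 2 ∨ Nat.card (N.map S.subtype) = 4 ∨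
      Nat.card (N.map S.subtype) = 8 := dvd_eight_cases _ hd8 hc1
  rcases hcases with hc2 | hc4 | hc8
  swap
  · exact ⟨N.map S.subtype, t1, t2, t3, Or.inr (Or.inl hc4)⟩
  swap
  · exact ⟨N.map S.subtype, t1, t2, t3, Or.inr (Or.inr (Or.inl hc8))⟩
  -- now `|N| = 2`
  by_cases hNtop : N = ⊤
  · refine ⟨N.map S.subtype, t1, t2, t3, Or.inr (Or.inr (Or.inr ⟨?_, hc2⟩))⟩
    rw [hNtop, ← MonoidHom.range_eq_map, Subgroup.range_subtype]
  -- the quotient
  have hntq : Nontrivial (S ⧸ N) := by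
    by_contra hcon
    rw [not_nontrivial_iff_subsingleton] at hcon
    apply hNtop
    rw [eq_top_iff]
    intro x _
    have := Subsingleton.elim (QuotientGroup.mk' N x) 1
    rwa [QuotientGroup.mk'_apply, QuotientGroup.eq_one_iff] at this
  obtain ⟨r, M', hr, hM'n, hM'0, hM'r⟩ := exists_normal_pgroup (S ⧸ N)
  obtain ⟨M, hMdef⟩ : ∃ M : Subgroup S, M = M'.comap (QuotientGroup.mk' N) := ⟨_, rfl⟩
  have hMn : M.Normal := by rw [hMdef]; exact hM'n.comap _
  have hNM : N ≤ M := by
    rw [hMdef]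
    intro x hx
    rw [Subgroup.mem_comap, QuotientGroup.mk'_apply, (QuotientGroup.eq_one_iff x).mpr hx]
    exact M'.one_mem
  have hcN : Nat.card N = 2 := by rw [← t4]; exact hc2
  have hcM : Nat.card M = Nat.card M' * 2 := by rw [hMdef, card_comap_mk', hcN]
  have hcM'1 : Nat.card M' ≠ 1 := fun hc => hM'0 (Subgroup.card_eq_one.mp hc)
  have hM0 : M ≠ ⊥ := fun hc => hN0 (le_bot_iff.mp (hc ▸ hNM))
  by_cases hr2 : r = 2
  · -- `M` is a 2-group of order `> 2`
    subst hr2
    have hM2 : IsPGroup 2 M := by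
      rw [hMdef]
      apply hM'r.comap_of_ker_isPGroup
      rw [QuotientGroup.ker_mk']
      exact hNp
    obtain ⟨u1, u2, u3, u4⟩ := transport S M hMn hM0
    have hd8' := card_dvd_eight h (M.map S.subtype) (hM2.map S.subtype)
    rw [u4, hcM] at hd8'
    have hM'c : Nat.card M' * 2 = 4 ∨ Nat.card M' * 2 = 8 := by
      have hne1 : Nat.card M' * 2 ≠ 1 := by omega
      rcases dvd_eight_cases _ hd8' hne1 with h2 | h4 | h8
      · exfalso
        have : Nat.card M' = 1 := by omega
        exact hcM'1 this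
      · exact Or.inl h4
      · exact Or.inr h8
    refine ⟨M.map S.subtype, u1, u2, u3, ?_⟩
    rcases hM'c with hc | hc
    · exact Or.inr (Or.inl (by rw [u4, hcM, hc]))
    · exact Or.inr (Or.inr (Or.inl (by rw [u4, hcM, hc])))
  · -- `r` odd: the Sylow `r`-subgroup of `M`
    have hfact : Fact r.Prime := ⟨hr⟩
    obtain ⟨k, hk⟩ := (IsPGroup.iff_card.mp hM'r)
    obtain ⟨P⟩ : Nonempty (Sylow r M) := inferInstance
    have hrM : r ∣ Nat.card M := by
      rw [hcM, hk]
      have hk0 : k ≠ 0 := by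
        intro h0
        rw [h0, pow_zero] at hk
        exact hcM'1 hk
      exact Dvd.dvd.mul_right (dvd_pow_self r hk0) 2
    have hP0 : (P : Subgroup M) ≠ ⊥ := Sylow.ne_bot_of_dvd_card P hrM
    have hidx : (P : Subgroup M).index ∣ 2 := by
      have h1 : (P : Subgroup M).index ∣ Nat.card M := Subgroup.index_dvd_card _
      rw [hcM, hk] at h1
      have h2 : Nat.Coprime (P : Subgroup M).index (r ^ k) := by
        apply Nat.Coprime.pow_right
        rw [Nat.coprime_comm, Nat.Prime.coprime_iff_not_dvd hr]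
        exact Sylow.not_dvd_index P
      exact h2.dvd_of_dvd_mul_left h1
    have hPn : (P : Subgroup M).Normal := by
      rcases (Nat.dvd_prime Nat.prime_two).mp hidx with h1 | h2
      · rw [Subgroup.index_eq_one.mp h1]
        infer_instance
      · exact Subgroup.normal_of_index_eq_two h2
    have hPc : (P : Subgroup M).Characteristic := Sylow.characteristic_of_normal P hPn
    have hRn : ((P : Subgroup M).map M.subtype).Normal := inferInstance
    have hR0 : (P : Subgroup M).map M.subtype ≠ ⊥ := by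
      rw [Ne, Subgroup.map_eq_bot_iff_of_injective _ M.subtype_injective]
      exact hP0
    obtain ⟨u1, u2, u3, -⟩ := transport S ((P : Subgroup M).map M.subtype) hRn hR0
    exact ⟨((P : Subgroup M).map M.subtype).map S.subtype, u1, u2, u3,
      Or.inl ⟨r, hr, hr2, (P.isPGroup'.map M.subtype).map S.subtype⟩⟩

end Cfsg.Agent.Lib.Helper70_RH_SOLVNORMAL
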