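import Cfsg.Agent.Lib.Helper70_Regular

/-!
Regular `p`-groups, continued: the `p^k`-th powers of the elements of a subgroup form a subgroup,
and `⁅℧(H), ℧(H)⁆ ≤ ℧(⁅H, H⁆)`, assuming regularity at level `k` only. (helper70)
-/

set_option autoImplicit false

namespace Cfsg.Agent.Lib.Helper70_Regular2

open Cfsg
open scoped commutatorElement
open Cfsg.Agent.Lib.Helper70_Regular

variable {G : Type*} [Group G]

/-- In a finite `p`-group, an element `x` of a subgroup `H` that does not generate `H` lies in a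
proper subgroup `M` of `H` that contains the derived subgroup of `H`. -/
theorem exists_maximal_normal' [Finite G] {p : ℕ} [Fact p.Prime] (hp : IsPGroup p G)
    (H : Subgroup G) (x : G) (hx : x ∈ H) (hy : ∃ y ∈ H, y ∉ Subgroup.zpowers x) :
    ∃ M : Subgroup G, M < H ∧ x ∈ M ∧ ⁅H, H⁆ ≤ M := by
  obtain ⟨y, hyH, hyx⟩ := hy
  have hA : Subgroup.zpowers (⟨x, hx⟩ : H) ≠ ⊤ := by
    intro htop
    apply hyx
    have : (⟨y, hyH⟩ : H) ∈ Subgroup.zpowers (⟨x, hx⟩ : H) := by rw [htop]; trivial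
    obtain ⟨n, hn⟩ := Subgroup.mem_zpowers_iff.mp this
    exact Subgroup.mem_zpowers_iff.mpr ⟨n, by simpa using congrArg Subtype.val hn⟩
  obtain ⟨M', hM', hle⟩ := (eq_top_or_exists_le_coatom (Subgroup.zpowers (⟨x, hx⟩ : H))).resolve_left hA
  have hnil : Group.IsNilpotent H := (hp.to_subgroup H).isNilpotent
  have hnorm : M'.Normal :=
    Subgroup.NormalizerCondition.normal_of_coatom M' Group.normalizerCondition_of_isNilpotent hM'
  -- the quotient is abelian
  have hcomm : commutator H ≤ M' := by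
    rw [← Subgroup.Normal.quotient_commutative_iff_commutator_le]
    have hQnt : Nontrivial (H ⧸ M') := by
      rw [QuotientGroup.nontrivial_iff]
      exact hM'.1
    have hlt : commutator (H ⧸ M') < ⊤ := Group.IsSolvable.commutator_lt_top_of_nontrivial _
    set C := (commutator (H ⧸ M')).comap (QuotientGroup.mk' M') with hC
    have hMC : M' ≤ C := by
      intro m hm
      rw [hC, Subgroup.mem_comap]
      have : (QuotientGroup.mk' M') m = 1 := (QuotientGroup.eq_one_iff m).mpr hm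
      rw [this]
      exact Subgroup.one_mem _
    have hCtop : C ≠ ⊤ := by
      intro h
      apply hlt.ne
      rw [eq_top_iff]
      intro z _
      obtain ⟨w, rfl⟩ := QuotientGroup.mk'_surjective M' z
      have : w ∈ C := by rw [h]; trivial
      exact this
    have hCM : C = M' := by
      by_contra hne
      exact hCtop (hM'.2 C (lt_of_le_of_ne hMC (Ne.symm hne)))
    rw [← commutator_eq_bot_iff, eq_bot_iff]
    intro z hz
    obtain ⟨w, rfl⟩ := QuotientGroup.mk'_surjective M' z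
    have hw : w ∈ C := hz
    rw [hCM] at hw
    rw [Subgroup.mem_bot]
    exact (QuotientGroup.eq_one_iff w).mpr hw
  refine ⟨M'.map H.subtype, ?_, ?_, ?_⟩
  · refine lt_of_le_of_ne (Subgroup.map_subtype_le _) ?_
    intro heq
    apply hM'.1
    rw [eq_top_iff]
    intro z _
    have hz : (z : G) ∈ M'.map H.subtype := by rw [heq]; exact z.2
    obtain ⟨m, hm, hmz⟩ := Subgroup.mem_map.mp hz
    have : m = z := Subtype.ext hmz
    rwa [← this]
  · exact Subgroup.mem_map.mpr ⟨⟨x, hx⟩, hle (Subgroup.mem_zpowers _), rfl⟩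
  · rw [← Subgroup.map_subtype_commutator]
    exact Subgroup.map_mono hcomm

/-- the derived subgroup of a nontrivial subgroup of a finite `p`-group is proper -/
theorem commutator_lt [Finite G] {p : ℕ} [Fact p.Prime] (hp : IsPGroup p G)
    (H : Subgroup G) (hne : H ≠ ⊥) : ⁅H, H⁆ < H := by
  have hnil : Group.IsNilpotent H := (hp.to_subgroup H).isNilpotent
  have hnt : Nontrivial H := (Subgroup.nontrivial_iff_ne_bot H).mpr hne
  have hlt' : commutator H < ⊤ := Group.IsSolvable.commutator_lt_top_of_nontrivial H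
  refine lt_of_le_of_ne (Subgroup.commutator_le_self H) ?_
  intro heq
  apply hlt'.ne
  rw [eq_top_iff]
  intro z _
  have hz : (z : G) ∈ (commutator H).map H.subtype := by
    rw [Subgroup.map_subtype_commutator, heq]; exact z.2
  obtain ⟨m, hm, hmz⟩ := Subgroup.mem_map.mp hz
  have : m = z := Subtype.ext hmz
  rwa [← this]

/-- `P1 q H`: the `q`-th powers of the elements of `H` are closed under multiplication. -/
def P1 (q : ℕ) (H : Subgroup G) : Prop :=
  ∀ x ∈ H, ∀ y ∈ H, ∃ z ∈ H, x ^ q * y ^ q = z ^ q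

/-- If the `q`-th powers are closed under products, they are all of `powerClosure`. -/
theorem mem_powerClosure_iff {p k : ℕ} (H : Subgroup G) (h : P1 (p ^ k) H) (c : G) :
    c ∈ Cfsg.powerClosure p k H ↔ ∃ w ∈ H, c = w ^ (p ^ k) := by
  constructor
  · intro hc
    unfold Cfsg.powerClosure at hc
    induction hc using Subgroup.closure_induction with
    | mem y hy => exact hy
    | one => exact ⟨1, H.one_mem, by simp⟩
    | mul y z _ _ ihy ihz =>
      obtain ⟨u, hu, rfl⟩ := ihy
      obtain ⟨v, hv, rfl⟩ := ihz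
      obtain ⟨w, hw, hw'⟩ := h u hu v hv
      exact ⟨w, hw, hw'⟩
    | inv y _ ihy =>
      obtain ⟨u, hu, rfl⟩ := ihy
      exact ⟨u⁻¹, H.inv_mem hu, by rw [inv_pow]⟩
  · rintro ⟨w, hw, rfl⟩
    exact Subgroup.subset_closure ⟨w, hw, rfl⟩

theorem powerClosure_mono {p k : ℕ} {H K : Subgroup G} (h : H ≤ K) :
    Cfsg.powerClosure p k H ≤ Cfsg.powerClosure p k K := by
  unfold Cfsg.powerClosure
  apply Subgroup.closure_mono
  rintro y ⟨x, hx, rfl⟩
  exact ⟨x, h hx, rfl⟩

theorem P1_all [Finite G] {p : ℕ} [Fact p.Prime] (hp : IsPGroup p G) (k : ℕ)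
    (hreg : RegAt p k G) : ∀ H : Subgroup G, P1 (p ^ k) H := by
  intro H
  induction H using WellFoundedLT.induction with
  | _ H ih =>
  intro x hx y hy
  by_cases hcomm : Commute x y
  · exact ⟨x * y, H.mul_mem hx hy, (hcomm.mul_pow _).symm⟩
  set L := Subgroup.closure ({x, y} : Set G) with hL
  have hxL : x ∈ L := Subgroup.subset_closure (by simp)
  have hyL : y ∈ L := Subgroup.subset_closure (by simp)
  have hLH : L ≤ H := by
    rw [hL, Subgroup.closure_le]
    intro z hz
    rcases hz with rfl | rfl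
    · exact hx
    · exact hy
  by_cases hLeq : L = H
  swap
  · obtain ⟨z, hz, hz'⟩ := ih L (lt_of_le_of_ne hLH hLeq) x hxL y hyL
    exact ⟨z, hLH hz, hz'⟩
  have hHne : H ≠ ⊥ := by
    intro h0
    apply hcomm
    rw [h0, Subgroup.mem_bot] at hx
    rw [hx]
    exact Commute.one_left y
  obtain ⟨c, hc, hxy⟩ := hreg x y
  rw [← hL, hLeq] at hc
  -- c is a q-th power of an element of H'
  have hD := commutator_lt hp H hHne
  obtain ⟨w, hw, rfl⟩ := (mem_powerClosure_iff _ (ih _ hD) c).mp hc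
  -- x * y does not generate H
  have hgen : ∃ u ∈ H, u ∉ Subgroup.zpowers (x * y) := by
    by_contra hcon
    push Not at hcon
    apply hcomm
    obtain ⟨n, hn⟩ := Subgroup.mem_zpowers_iff.mp (hcon x hx)
    obtain ⟨m, hm⟩ := Subgroup.mem_zpowers_iff.mp (hcon y hy)
    have hcm : Commute ((x * y) ^ n) ((x * y) ^ m) :=
      ((Commute.refl (x * y)).zpow_right m).zpow_left n
    rwa [hn, hm] at hcm
  obtain ⟨M, hMlt, hxyM, hDM⟩ := exists_maximal_normal' hp H (x * y) (H.mul_mem hx hy) hgen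
  obtain ⟨z, hz, hz'⟩ := ih M hMlt (x * y) hxyM w⁻¹ (M.inv_mem (hDM hw))
  refine ⟨z, hMlt.le hz, ?_⟩
  rw [← hz', hxy, inv_pow]
  simp [mul_assoc]

/-- Second part: `⁅℧(H), ℧(H)⁆ ≤ ℧(⁅H, H⁆)`. -/
theorem commutator_powerClosure_le [Finite G] {p : ℕ} [Fact p.Prime] (hp : IsPGroup p G) (k : ℕ)
    (hreg : RegAt p k G) (H : Subgroup G) :
    ⁅Cfsg.powerClosure p k H, Cfsg.powerClosure p k H⁆ ≤ Cfsg.powerClosure p k ⁅H, H⁆ := by
  rw [Subgroup.commutator_le]
  intro g₁ hg₁ g₂ hg₂
  obtain ⟨a, ha, rfl⟩ := (mem_powerClosure_iff H (P1_all hp k hreg H) g₁).mp hg₁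
  obtain ⟨b, hb, rfl⟩ := (mem_powerClosure_iff H (P1_all hp k hreg H) g₂).mp hg₂
  set q := p ^ k with hq
  -- ⁅a^q, b^q⁆ = a^q * (b^q a⁻¹ b^{-q})^q
  set y := b ^ q * a⁻¹ * (b ^ q)⁻¹ with hy
  have hyH : y ∈ H := H.mul_mem (H.mul_mem (H.pow_mem hb _) (H.inv_mem ha)) (H.inv_mem (H.pow_mem hb _))
  have h1 : ⁅a ^ q, b ^ q⁆ = a ^ q * y ^ q := by
    rw [hy, conj_pow, inv_pow, commutatorElement_def]
    simp [mul_assoc]
  have hay : a * y = ⁅a, b ^ q⁆ := by
    rw [hy, commutatorElement_def]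
    simp [mul_assoc]
  obtain ⟨c, hc, hreg'⟩ := hreg a y
  have hsub : Subgroup.closure ({a, y} : Set G) ≤ H := by
    rw [Subgroup.closure_le]
    intro z hz
    rcases hz with rfl | rfl
    · exact ha
    · exact hyH
  have hc' : c ∈ Cfsg.powerClosure p k ⁅H, H⁆ :=
    powerClosure_mono (Subgroup.commutator_mono hsub hsub) hc
  have h2 : a ^ q * y ^ q = (a * y) ^ q * c⁻¹ := by
    rw [hq, hreg']; simp [mul_assoc]
  rw [h1, h2]
  refine Subgroup.mul_mem _ ?_ (Subgroup.inv_mem _ hc')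
  apply Subgroup.subset_closure
  refine ⟨a * y, ?_, rfl⟩
  rw [hay]
  exact Subgroup.commutator_mem_commutator ha (H.pow_mem hb _)

/-- First part: the `p^k`-th powers of the elements of `H` are exactly `powerClosure p k H`. -/
theorem setOf_pow_eq_powerClosure [Finite G] {p : ℕ} [Fact p.Prime] (hp : IsPGroup p G) (k : ℕ)
    (hreg : RegAt p k G) (H : Subgroup G) :
    {y : G | ∃ x ∈ H, y = x ^ (p ^ k)} = (Cfsg.powerClosure p k H : Set G) := by
  ext c
  exact ((mem_powerClosure_iff H (P1_all hp k hreg H) c).symm)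

end Cfsg.Agent.Lib.Helper70_Regular2
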