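import Mathlib
import Cfsg.Prelude.Def_TwoFusion
import Cfsg.Agent.Lib.Helper54_S2221Defs

/-!
# S2221 package GENERIC (architect helper54): `Dec` is invariant under isomorphism, `Dec ↥P` in
terms of `IsInternalDirectProduct`, and a 2-group with centre of order 2 is indecomposable
-/

set_option autoImplicit false

open Cfsg.Agent.Lib.Helper54_S2221Defs

namespace Cfsg.Agent.Lib.Helper70_S2221_GENERIC

theorem dec_of_equiv {H K : Type*} [Group H] [Group K] (e : H ≃* K) (h : Dec H) : Dec K := by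
  obtain ⟨S₁, S₂, h1, h2, hc, hi, hs⟩ := h
  have hinj : Function.Injective e.toMonoidHom := e.injective
  refine ⟨S₁.map e.toMonoidHom, S₂.map e.toMonoidHom, ?_, ?_, ?_, ?_, ?_⟩
  · intro h0
    exact h1 ((Subgroup.map_eq_bot_iff_of_injective S₁ hinj).mp h0)
  · intro h0
    exact h2 ((Subgroup.map_eq_bot_iff_of_injective S₂ hinj).mp h0)
  · rintro _ ⟨a, ha, rfl⟩ _ ⟨b, hb, rfl⟩
    rw [← map_mul, ← map_mul, hc a ha b hb]
  · rw [← Subgroup.map_inf S₁ S₂ e.toMonoidHom hinj, hi, Subgroup.map_bot]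
  · rw [← Subgroup.map_sup, hs]
    exact Subgroup.map_top_of_surjective e.toMonoidHom e.surjective

theorem dec_congr {H K : Type*} [Group H] [Group K] (e : H ≃* K) : Dec H ↔ Dec K :=
  ⟨dec_of_equiv e, dec_of_equiv e.symm⟩

theorem dec_subgroup_iff {G : Type*} [Group G] (P : Subgroup G) :
    (∃ S₁ S₂ : Subgroup G, S₁ ≠ ⊥ ∧ S₂ ≠ ⊥ ∧ Cfsg.IsInternalDirectProduct S₁ S₂ P) ↔ Dec ↥P := by
  constructor
  · rintro ⟨S₁, S₂, h1, h2, hle1, hle2, hc, hi, hs⟩
    refine ⟨S₁.subgroupOf P, S₂.subgroupOf P, ?_, ?_, ?_, ?_, ?_⟩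
    · intro h0
      apply h1
      rw [Subgroup.eq_bot_iff_forall]
      intro x hx
      have hm : (⟨x, hle1 hx⟩ : ↥P) ∈ S₁.subgroupOf P := Subgroup.mem_subgroupOf.mpr hx
      rw [h0, Subgroup.mem_bot] at hm
      exact congrArg Subtype.val hm
    · intro h0
      apply h2
      rw [Subgroup.eq_bot_iff_forall]
      intro x hx
      have hm : (⟨x, hle2 hx⟩ : ↥P) ∈ S₂.subgroupOf P := Subgroup.mem_subgroupOf.mpr hx
      rw [h0, Subgroup.mem_bot] at hm
      exact congrArg Subtype.val hm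
    · intro a ha b hb
      apply Subtype.ext
      exact hc a.1 (Subgroup.mem_subgroupOf.mp ha) b.1 (Subgroup.mem_subgroupOf.mp hb)
    · rw [Subgroup.eq_bot_iff_forall]
      intro x hx
      obtain ⟨hx1, hx2⟩ := Subgroup.mem_inf.mp hx
      have hm : (x : G) ∈ S₁ ⊓ S₂ :=
        Subgroup.mem_inf.mpr ⟨Subgroup.mem_subgroupOf.mp hx1, Subgroup.mem_subgroupOf.mp hx2⟩
      rw [hi, Subgroup.mem_bot] at hm
      exact Subtype.ext hm
    · rw [← Subgroup.subgroupOf_sup hle1 hle2, hs, Subgroup.subgroupOf_self]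
  · rintro ⟨T₁, T₂, h1, h2, hc, hi, hs⟩
    have hinj : Function.Injective P.subtype := P.subtype_injective
    refine ⟨T₁.map P.subtype, T₂.map P.subtype, ?_, ?_, ?_, ?_, ?_, ?_, ?_⟩
    · intro h0
      exact h1 ((Subgroup.map_eq_bot_iff_of_injective T₁ hinj).mp h0)
    · intro h0
      exact h2 ((Subgroup.map_eq_bot_iff_of_injective T₂ hinj).mp h0)
    · exact Subgroup.map_subtype_le T₁
    · exact Subgroup.map_subtype_le T₂
    · rintro _ ⟨a, ha, rfl⟩ _ ⟨b, hb, rfl⟩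
      rw [← map_mul, ← map_mul, hc a ha b hb]
    · rw [← Subgroup.map_inf T₁ T₂ P.subtype hinj, hi, Subgroup.map_bot]
    · rw [← Subgroup.map_sup, hs, ← MonoidHom.range_eq_map, Subgroup.range_subtype]

/-- an element of the centre of a factor is central -/
theorem mem_center_of_factor {H : Type*} [Group H] (S₁ S₂ : Subgroup H)
    (hc : ∀ a ∈ S₁, ∀ b ∈ S₂, a * b = b * a) (hs : S₁ ⊔ S₂ = ⊤) (z : H) (hz : z ∈ S₁)
    (hzc : ∀ a ∈ S₁, a * z = z * a) : z ∈ Subgroup.center H := by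
  rw [Subgroup.mem_center_iff]
  have hle : S₁ ⊔ S₂ ≤ Subgroup.centralizer {z} := by
    apply sup_le
    · intro a ha
      rw [Subgroup.mem_centralizer_iff]
      intro y hy
      rw [Set.mem_singleton_iff] at hy
      subst hy
      exact (hzc a ha).symm
    · intro b hb
      rw [Subgroup.mem_centralizer_iff]
      intro y hy
      rw [Set.mem_singleton_iff] at hy
      subst hy
      exact hc y hz b hb
  intro g
  have hg : g ∈ Subgroup.centralizer {z} := hle (hs ▸ Subgroup.mem_top g)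
  rw [Subgroup.mem_centralizer_iff] at hg
  exact (hg z rfl).symm

/-- a nontrivial subgroup of a finite 2-group has a nontrivial central element -/
theorem exists_central {H : Type*} [Group H] [Finite H] (hH : IsPGroup 2 H) (S : Subgroup H)
    (hS : S ≠ ⊥) : ∃ z ∈ S, z ≠ 1 ∧ ∀ a ∈ S, a * z = z * a := by
  have h2 : Fact (Nat.Prime 2) := ⟨Nat.prime_two⟩
  have hSp : IsPGroup 2 S := hH.to_subgroup S
  have hnt : Nontrivial S := by
    rw [← Subgroup.nontrivial_iff_ne_bot] at hS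
    exact hS
  have hcn : Nontrivial (Subgroup.center S) := hSp.center_nontrivial
  obtain ⟨⟨z, hz⟩, hz1⟩ := exists_ne (1 : Subgroup.center S)
  refine ⟨z.1, z.2, ?_, ?_⟩
  · intro h0
    apply hz1
    apply Subtype.ext
    apply Subtype.ext
    exact h0
  · intro a ha
    have := (Subgroup.mem_center_iff.mp hz) ⟨a, ha⟩
    exact congrArg Subtype.val this

theorem not_dec_of_card_center {H : Type*} [Group H] [Finite H] (hH : IsPGroup 2 H)
    (hZ : Nat.card (Subgroup.center H) = 2) : ¬ Dec H := by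
  rintro ⟨S₁, S₂, h1, h2, hc, hi, hs⟩
  obtain ⟨z₁, hz₁, hz₁1, hz₁c⟩ := exists_central hH S₁ h1
  obtain ⟨z₂, hz₂, hz₂1, hz₂c⟩ := exists_central hH S₂ h2
  have hc1 : z₁ ∈ Subgroup.center H := mem_center_of_factor S₁ S₂ hc hs z₁ hz₁ hz₁c
  have hc2 : z₂ ∈ Subgroup.center H :=
    mem_center_of_factor S₂ S₁ (fun a ha b hb => (hc b hb a ha).symm) (by rw [sup_comm]; exact hs)
      z₂ hz₂ hz₂c
  obtain ⟨y, -, hy⟩ := (Nat.card_eq_two_iff' (1 : Subgroup.center H)).mp hZ
  have e1 : (⟨z₁, hc1⟩ : Subgroup.center H) = y :=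
    hy _ (fun h0 => hz₁1 (congrArg Subtype.val h0))
  have e2 : (⟨z₂, hc2⟩ : Subgroup.center H) = y :=
    hy _ (fun h0 => hz₂1 (congrArg Subtype.val h0))
  have e : z₁ = z₂ := congrArg Subtype.val (e1.trans e2.symm)
  have hm : z₁ ∈ S₁ ⊓ S₂ := Subgroup.mem_inf.mpr ⟨hz₁, e ▸ hz₂⟩
  rw [hi, Subgroup.mem_bot] at hm
  exact hz₁1 hm

end Cfsg.Agent.Lib.Helper70_S2221_GENERIC
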