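import Mathlib
import Cfsg.Prelude.Def_GeometricClasses
import Cfsg.Agent.S0752
import Cfsg.Agent.Lib.Helper13_Symp

/-!
# SP3 bridge block, package AFORM (sub-architect helper98): a symplectic form on `F^n₁` is the
standard `sympForm m` in suitable coordinates
-/

set_option autoImplicit false
set_option linter.unusedSectionVars false
set_option linter.unusedVariables false

namespace Cfsg.Agent.Lib.Helper70_SP3BR_AFORM

open Matrix

/-- the bilinear form of a prelude bilinear form -/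
noncomputable def toBilin {F : Type*} [Field F] {n₁ : ℕ} (f₁ : (Fin n₁ → F) → (Fin n₁ → F) → F)
    (hb : Cfsg.Geo.IsBilinearForm f₁) : LinearMap.BilinForm F (Fin n₁ → F) :=
  LinearMap.mk₂ F f₁ hb.add_left (fun c x v => by rw [hb.smul_left, smul_eq_mul])
    hb.add_right (fun c v x => by rw [hb.smul_right, smul_eq_mul])

theorem toBilin_apply {F : Type*} [Field F] {n₁ : ℕ} (f₁ : (Fin n₁ → F) → (Fin n₁ → F) → F)
    (hb : Cfsg.Geo.IsBilinearForm f₁) (u v : Fin n₁ → F) : toBilin f₁ hb u v = f₁ u v := rfl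

/-- a bilinear form in coordinates -/
theorem bilin_expand {F V ι : Type*} [Field F] [AddCommGroup V] [Module F V] [Fintype ι]
    (B : LinearMap.BilinForm F V) (b : Module.Basis ι F V) (u v : V) :
    B u v = ∑ x : ι, ∑ y : ι, b.repr u x * b.repr v y * B (b x) (b y) := by
  have hu := b.sum_repr u
  have hv := b.sum_repr v
  calc B u v = B (∑ x, b.repr u x • b x) (∑ y, b.repr v y • b y) := by rw [hu, hv]
    _ = ∑ x : ι, ∑ y : ι, b.repr u x * b.repr v y * B (b x) (b y) := by
      rw [map_sum B, LinearMap.sum_apply]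
      refine Finset.sum_congr rfl fun x _ => ?_
      rw [map_smul, LinearMap.smul_apply, map_sum, smul_eq_mul, Finset.mul_sum]
      refine Finset.sum_congr rfl fun y _ => ?_
      rw [map_smul, smul_eq_mul]
      ring

/-- **AFORM** (M). -/
theorem aform {F : Type*} [Field F] (n₁ : ℕ) (f₁ : (Fin n₁ → F) → (Fin n₁ → F) → F)
    (hf₁ : Cfsg.Geo.IsSymplecticForm f₁) :
    ∃ (m : ℕ) (A : Matrix (Fin m ⊕ Fin m) (Fin n₁) F) (A' : Matrix (Fin n₁) (Fin m ⊕ Fin m) F),
      A * A' = 1 ∧ A' * A = 1 ∧ ∀ u v : Fin n₁ → F, f₁ u v = Cfsg.sympForm m F (A *ᵥ u) (A *ᵥ v) := by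
  classical
  obtain ⟨B, hBdef⟩ : ∃ B : LinearMap.BilinForm F (Fin n₁ → F), B = toBilin f₁ hf₁.bilinear :=
    ⟨_, rfl⟩
  have hBf : ∀ u v, B u v = f₁ u v := fun u v => by rw [hBdef]; rfl
  have hA : B.IsAlt := fun x => by rw [hBf]; exact hf₁.alternating x
  obtain ⟨m, k, b, h1, h2, h3, h4⟩ := Cfsg.Agent.S0752.result B hA
  -- the radical is trivial
  have hk : k = 0 := by
    rcases Nat.eq_zero_or_pos k with hk | hk
    · exact hk
    · exfalso
      have hne : b (Sum.inr ⟨0, hk⟩) ≠ 0 := b.ne_zero _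
      obtain ⟨-, x, hx⟩ := hf₁.nondegenerate _ hne
      apply hx
      rw [← hBf]
      exact h4 ⟨0, hk⟩ x
  subst hk
  -- the basis with the roles of the `e_i` and `f_i` swapped
  let b' : Module.Basis (Fin m ⊕ Fin m) F (Fin n₁ → F) :=
    (b.reindex (Equiv.sumEmpty (Fin m ⊕ Fin m) (Fin 0))).reindex (Equiv.sumComm (Fin m) (Fin m))
  have hb'l : ∀ i : Fin m, b' (Sum.inl i) = b (Sum.inl (Sum.inr i)) := by
    intro i
    simp [b', Module.Basis.reindex_apply]
  have hb'r : ∀ i : Fin m, b' (Sum.inr i) = b (Sum.inl (Sum.inl i)) := by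
    intro i
    simp [b', Module.Basis.reindex_apply]
  have hskew : ∀ u v, B u v = - B v u := fun u v => by rw [hBf, hBf]; exact hf₁.skew u v
  have hG1 : ∀ i j : Fin m, B (b' (Sum.inl i)) (b' (Sum.inl j)) = 0 := by
    intro i j; rw [hb'l, hb'l]; exact h3 i j
  have hG2 : ∀ i j : Fin m, B (b' (Sum.inr i)) (b' (Sum.inr j)) = 0 := by
    intro i j; rw [hb'r, hb'r]; exact h2 i j
  have hG3 : ∀ i j : Fin m, B (b' (Sum.inr i)) (b' (Sum.inl j)) = if i = j then 1 else 0 := by
    intro i j; rw [hb'r, hb'l]; exact h1 i j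
  have hG4 : ∀ i j : Fin m, B (b' (Sum.inl i)) (b' (Sum.inr j)) = if j = i then -1 else 0 := by
    intro i j
    rw [hskew, hG3]
    split_ifs <;> simp
  refine ⟨m, b'.toMatrix (Pi.basisFun F (Fin n₁)), (Pi.basisFun F (Fin n₁)).toMatrix b', ?_, ?_, ?_⟩
  · exact Module.Basis.toMatrix_mul_toMatrix_flip b' (Pi.basisFun F (Fin n₁))
  · exact Module.Basis.toMatrix_mul_toMatrix_flip (Pi.basisFun F (Fin n₁)) b'
  · intro u v
    have hrepr : ∀ w : Fin n₁ → F,
        b'.toMatrix (Pi.basisFun F (Fin n₁)) *ᵥ w = fun x => b'.repr w x := by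
      intro w
      have := Module.Basis.toMatrix_mulVec_repr (Pi.basisFun F (Fin n₁)) b' w
      have hw : ((Pi.basisFun F (Fin n₁)).repr w : Fin n₁ → F) = w :=
        funext fun i => Pi.basisFun_repr F (Fin n₁) w i
      rw [hw] at this
      rw [this]
    rw [hrepr u, hrepr v, Cfsg.Agent.Lib.Helper13_Symp.sympForm_eq, ← hBf, bilin_expand B b' u v]
    simp only [Fintype.sum_sum_type, hG1, hG2, hG3, hG4, mul_zero, Finset.sum_const_zero, zero_add,
      add_zero, mul_ite, mul_one, mul_neg, Finset.sum_ite_eq, Finset.sum_ite_eq', Finset.mem_univ,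
      if_true]
    rw [← Finset.sum_add_distrib]
    refine Finset.sum_congr rfl fun i _ => ?_
    ring

end Cfsg.Agent.Lib.Helper70_SP3BR_AFORM
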