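import Mathlib
import Cfsg.Prelude.Def_GeometricClasses
import Cfsg.Agent.Lib.Helper97_SpTensBasic
import Cfsg.Agent.Lib.Helper98_SP3_BRDefs

/-!
# SP3 bridge block, package KRONI (sub-architect helper98): membership in the tensor product
subgroup, for a general index type, is being a Kronecker map in the coordinates `PhiI e P`
(port of `Helper70_Tens_TP10b.isKron_of_mem` / `mem_of_isKron`)
-/

set_option autoImplicit false
set_option linter.unusedSectionVars false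
set_option linter.unusedVariables false

namespace Cfsg.Agent.Lib.Helper70_SP3BR_KRONI

open Matrix Cfsg.Geo
open scoped Kronecker
open Cfsg.Agent.Lib.Helper98_ExtDefs Cfsg.Agent.Lib.Helper97_TensDefs
  Cfsg.Agent.Lib.Helper97_SpTensDefs Cfsg.Agent.Lib.Helper97_SpTensBasic
  Cfsg.Agent.Lib.Helper70_Tens_TP10b Cfsg.Agent.Lib.Helper98_SP3_BRDefs

variable {F : Type*} [Field F] {ι : Type} [Fintype ι] [DecidableEq ι] {n₁ n₂ : ℕ}

/-- the reindexed Kronecker product acts as `X ↦ a * X * bᵀ` -/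
theorem reindex_kron_mulVecI (e : ι ≃ Fin n₁ × Fin n₂) (a : Matrix (Fin n₁) (Fin n₁) F)
    (b : Matrix (Fin n₂) (Fin n₂) F) (w : ι → F) (i : Fin n₁) (k : Fin n₂) :
    ((Matrix.reindex e.symm e.symm (a ⊗ₖ b)) *ᵥ w) (e.symm (i, k)) =
      (a * (Matrix.of fun i' k' => w (e.symm (i', k'))) * bᵀ) i k := by
  rw [Matrix.mulVec, dotProduct]
  rw [← Equiv.sum_comp e.symm, Fintype.sum_prod_type]
  simp only [Matrix.reindex_apply, Equiv.symm_symm, Matrix.submatrix_apply, Equiv.apply_symm_apply,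
    Matrix.kroneckerMap_apply]
  rw [Matrix.mul_apply]
  simp only [Matrix.mul_apply, Matrix.transpose_apply, Matrix.of_apply, Finset.sum_mul]
  rw [Finset.sum_comm]
  apply Finset.sum_congr rfl
  intro j _
  apply Finset.sum_congr rfl
  intro l _
  ring

/-- the matrix of the conjugated reindexed Kronecker product -/
noncomputable def kmatI (e : ι ≃ Fin n₁ × Fin n₂) (P : GL ι F)
    (a : Matrix (Fin n₁) (Fin n₁) F) (b : Matrix (Fin n₂) (Fin n₂) F) : Matrix ι ι F :=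
  (P : Matrix ι ι F) * (Matrix.reindex e.symm e.symm (a ⊗ₖ b)) * ((P⁻¹ : GL ι F) : Matrix ι ι F)

theorem thetaI_kmatI (e : ι ≃ Fin n₁ × Fin n₂) (P : GL ι F)
    (a : Matrix (Fin n₁) (Fin n₁) F) (b : Matrix (Fin n₂) (Fin n₂) F) (v : ι → F) :
    thetaI e P (kmatI e P a b *ᵥ v) = a * thetaI e P v * bᵀ := by
  ext i k
  rw [thetaI_apply, kmatI, Matrix.mulVec_mulVec, ← Matrix.mul_assoc, ← Matrix.mul_assoc,
    ← Units.val_mul, inv_mul_cancel, Units.val_one, Matrix.one_mul, ← Matrix.mulVec_mulVec,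
    reindex_kron_mulVecI]
  rfl

/-- the element `P (a ⊗ b) P⁻¹` of the tensor product subgroup -/
noncomputable def tpElemI (e : ι ≃ Fin n₁ × Fin n₂) (P : GL ι F)
    (a : GL (Fin n₁) F) (b : GL (Fin n₂) F) : GL ι F :=
  (MulAut.conj P) ((glReindex e.symm) (kronGL a b))

theorem tpElemI_mem (e : ι ≃ Fin n₁ × Fin n₂) (P : GL ι F)
    (a : GL (Fin n₁) F) (b : GL (Fin n₂) F) :
    tpElemI e P a b ∈ tensorProductSubgroup n₁ n₂ e P :=
  ⟨_, ⟨_, kronGL_mem a b, rfl⟩, rfl⟩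

theorem tpElemI_val (e : ι ≃ Fin n₁ × Fin n₂) (P : GL ι F)
    (a : GL (Fin n₁) F) (b : GL (Fin n₂) F) :
    ((tpElemI e P a b : GL ι F) : Matrix ι ι F) =
      kmatI e P (a : Matrix (Fin n₁) (Fin n₁) F) (b : Matrix (Fin n₂) (Fin n₂) F) := by
  unfold tpElemI kmatI
  rw [MulAut.conj_apply, Units.val_mul, Units.val_mul]
  rfl

theorem PhiI_tpElemI (e : ι ≃ Fin n₁ × Fin n₂) (P : GL ι F)
    (a : GL (Fin n₁) F) (b : GL (Fin n₂) F) (X : Matrix (Fin n₁) (Fin n₂) F) :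
    PhiI e P (tpElemI e P a b) X =
      (a : Matrix (Fin n₁) (Fin n₁) F) * X * (b : Matrix (Fin n₂) (Fin n₂) F)ᵀ := by
  rw [PhiI_apply, tpElemI_val, thetaI_kmatI, LinearEquiv.apply_symm_apply]

/-- elements of the tensor product subgroup act as Kronecker maps -/
theorem isKron_of_memI (e : ι ≃ Fin n₁ × Fin n₂) (P : GL ι F) (g : GL ι F)
    (hg : g ∈ tensorProductSubgroup n₁ n₂ e P) : IsKron (PhiI e P g) := by
  obtain ⟨_, ⟨k, ⟨a, b, hk⟩, rfl⟩, rfl⟩ := hg
  have hk' : k = kronGL a b := Units.ext hk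
  subst hk'
  exact ⟨a, b, fun X => PhiI_tpElemI e P a b X⟩

/-- elements acting as Kronecker maps lie in the tensor product subgroup -/
theorem mem_of_isKronI (h1 : 0 < n₁) (h2 : 0 < n₂) (e : ι ≃ Fin n₁ × Fin n₂)
    (P : GL ι F) (g : GL ι F) (hg : IsKron (PhiI e P g)) :
    g ∈ tensorProductSubgroup n₁ n₂ e P := by
  obtain ⟨A, B, hAB⟩ := hg
  obtain ⟨hA, hB⟩ := det_ne_zero_of_kron h1 h2 _ A B hAB
  have h : tpElemI e P (toGL A hA) (toGL B hB) = g := by
    apply (PhiI e P).injective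
    apply LinearEquiv.ext
    intro X
    rw [PhiI_tpElemI, hAB, toGL_val, toGL_val]
  rw [← h]
  exact tpElemI_mem e P _ _

/-- **KRONI** (M). -/
theorem mem_tps_iff {F : Type*} [Field F] {ι : Type} [Fintype ι] [DecidableEq ι] {n₁ n₂ : ℕ}
    (h1 : 0 < n₁) (h2 : 0 < n₂) (e : ι ≃ Fin n₁ × Fin n₂) (P : GL ι F) (g : GL ι F) :
    g ∈ Cfsg.Geo.tensorProductSubgroup n₁ n₂ e P ↔ IsKron (PhiI e P g) :=
  ⟨isKron_of_memI e P g, mem_of_isKronI h1 h2 e P g⟩

end Cfsg.Agent.Lib.Helper70_SP3BR_KRONI
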