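import Mathlib
import Cfsg.Prelude.Def_Characters
import Cfsg.Agent.Lib.Helper24_CoprimeAction

/-!
# S2312 market (helper81), package SV-SZ: a class function vanishing at the `p`-singular elements,
summed over a coset of a normal `p`-subgroup (Schur–Zassenhaus)
-/

set_option autoImplicit false
set_option linter.unusedSectionVars false
set_option linter.unusedVariables false

namespace Cfsg.Agent.Lib.Helper70_SV_SZ

/-- Schur–Zassenhaus: a `p`-regular element of the coset `g N` of a normal `p`-subgroup `N` is an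
`N`-conjugate of the `p`-regular element `g`. -/
theorem conj_of_pRegular {H : Type*} [Group H] [Finite H] (p : ℕ) [Fact p.Prime]
    (N : Subgroup H) [N.Normal] (hN : IsPGroup p N) (g : H) (hg : ¬ p ∣ orderOf g)
    (k : H) (hk : k ∈ N) (hgk : ¬ p ∣ orderOf (g * k)) : ∃ n ∈ N, n * g * n⁻¹ = g * k := by
  have hp : p.Prime := Fact.out
  obtain ⟨a, ha⟩ := hN.exists_card_eq
  have hcopA : (Nat.card (Subgroup.zpowers g)).Coprime (Nat.card N) := by
    rw [Nat.card_zpowers, ha]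
    exact Nat.Coprime.pow_right a ((Nat.Prime.coprime_iff_not_dvd hp).2 hg).symm
  have hcopB : (Nat.card (Subgroup.zpowers (g * k))).Coprime (Nat.card N) := by
    rw [Nat.card_zpowers, ha]
    exact Nat.Coprime.pow_right a ((Nat.Prime.coprime_iff_not_dvd hp).2 hgk).symm
  have hAK : Subgroup.zpowers g ≤ Subgroup.normalizer (N : Set H) := by
    rw [Subgroup.normalizer_eq_top]; exact le_top
  have hB : Subgroup.zpowers (g * k) ≤ N ⊔ Subgroup.zpowers g := by
    rw [Subgroup.zpowers_le]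
    exact Subgroup.mul_mem _ (Subgroup.mem_sup_right (Subgroup.mem_zpowers g))
      (Subgroup.mem_sup_left hk)
  have hBK : N ⊓ Subgroup.zpowers (g * k) = ⊥ := by
    rw [inf_comm]
    exact (Subgroup.disjoint_of_coprime_natCard hcopB).eq_bot
  have hsup : N ⊔ Subgroup.zpowers g ≤ N ⊔ Subgroup.zpowers (g * k) := by
    apply sup_le le_sup_left
    rw [Subgroup.zpowers_le]
    have h' : (g * k) * k⁻¹ ∈ N ⊔ Subgroup.zpowers (g * k) :=
      Subgroup.mul_mem _ (Subgroup.mem_sup_right (Subgroup.mem_zpowers _))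
        (Subgroup.mem_sup_left (N.inv_mem hk))
    rwa [mul_inv_cancel_right] at h'
  have hsolv : Group.IsSolvable (Subgroup.zpowers g) ∨ Group.IsSolvable N := by
    left
    infer_instance
  obtain ⟨n, hn, hmap⟩ := Cfsg.Agent.Lib.Helper24_CoprimeAction.sz_rel_conj' (Subgroup.zpowers g) N
    (Subgroup.zpowers (g * k)) hAK hcopA hsolv hB hBK hsup
  refine ⟨n, hn, ?_⟩
  have h1 : n * g * n⁻¹ ∈ Subgroup.zpowers (g * k) := by
    rw [← hmap]
    exact ⟨g, Subgroup.mem_zpowers g, by simp [MulAut.conj_apply]⟩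
  have h2 : (g * k)⁻¹ * (n * g * n⁻¹) ∈ Subgroup.zpowers (g * k) :=
    Subgroup.mul_mem _ (Subgroup.inv_mem _ (Subgroup.mem_zpowers _)) h1
  have h3 : (g * k)⁻¹ * (n * g * n⁻¹) ∈ N := by
    have e : (g * k)⁻¹ * (n * g * n⁻¹) = k⁻¹ * (g⁻¹ * n * g⁻¹⁻¹) * n⁻¹ := by group
    rw [e]
    exact N.mul_mem (N.mul_mem (N.inv_mem hk) (Subgroup.Normal.conj_mem inferInstance n hn g⁻¹))
      (N.inv_mem hn)
  have h4 : (g * k)⁻¹ * (n * g * n⁻¹) ∈ N ⊓ Subgroup.zpowers (g * k) := ⟨h3, h2⟩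
  rw [hBK, Subgroup.mem_bot] at h4
  exact (inv_mul_eq_one.1 h4).symm

/-- the twisted commutator map `n ↦ g⁻¹ n g n⁻¹` of a normal subgroup -/
def tw {H : Type*} [Group H] (N : Subgroup H) [N.Normal] (g : H) (n : N) : N :=
  ⟨g⁻¹ * (n : H) * g * (n : H)⁻¹, by
    have h1 : g⁻¹ * (n : H) * g⁻¹⁻¹ ∈ N := Subgroup.Normal.conj_mem inferInstance _ n.2 g⁻¹
    rw [inv_inv] at h1
    exact N.mul_mem h1 (N.inv_mem n.2)⟩

theorem g_mul_tw {H : Type*} [Group H] (N : Subgroup H) [N.Normal] (g : H) (n : N) :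
    g * (tw N g n : H) = (n : H) * g * (n : H)⁻¹ := by
  unfold tw
  simp only
  group

/-- the fibres of `tw` are cosets of `C_N(g)` -/
theorem card_fibre_tw {H : Type*} [Group H] (N : Subgroup H) [N.Normal] (g : H) (n₀ : N) :
    Nat.card {n : N // tw N g n = tw N g n₀} =
      Nat.card (N ⊓ Subgroup.centralizer ({g} : Set H) : Subgroup H) := by
  have hconj : ∀ n : N, tw N g n = tw N g n₀ ↔
      (n : H) * g * (n : H)⁻¹ = (n₀ : H) * g * (n₀ : H)⁻¹ := by
    intro n
    rw [← g_mul_tw, ← g_mul_tw]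
    constructor
    · intro h; rw [h]
    · intro h; exact Subtype.ext (mul_left_cancel h)
  apply Nat.card_congr
  refine
    { toFun := fun n => ⟨(n₀ : H)⁻¹ * (n.1 : H), ?_⟩
      invFun := fun c => ⟨⟨(n₀ : H) * (c : H), N.mul_mem n₀.2 (Subgroup.mem_inf.1 c.2).1⟩, ?_⟩
      left_inv := ?_
      right_inv := ?_ }
  · refine Subgroup.mem_inf.2 ⟨N.mul_mem (N.inv_mem n₀.2) n.1.2, ?_⟩
    rw [Subgroup.mem_centralizer_singleton_iff]
    have h := (hconj n.1).1 n.2
    calc (n₀ : H)⁻¹ * (n.1 : H) * g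
        = (n₀ : H)⁻¹ * ((n.1 : H) * g * (n.1 : H)⁻¹) * (n.1 : H) := by group
      _ = (n₀ : H)⁻¹ * ((n₀ : H) * g * (n₀ : H)⁻¹) * (n.1 : H) := by rw [h]
      _ = g * ((n₀ : H)⁻¹ * (n.1 : H)) := by group
  · rw [hconj]
    have hc : (c : H) * g = g * (c : H) :=
      Subgroup.mem_centralizer_singleton_iff.1 (Subgroup.mem_inf.1 c.2).2
    show (n₀ : H) * (c : H) * g * ((n₀ : H) * (c : H))⁻¹ = (n₀ : H) * g * (n₀ : H)⁻¹
    calc (n₀ : H) * (c : H) * g * ((n₀ : H) * (c : H))⁻¹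
        = (n₀ : H) * ((c : H) * g) * (c : H)⁻¹ * (n₀ : H)⁻¹ := by group
      _ = (n₀ : H) * (g * (c : H)) * (c : H)⁻¹ * (n₀ : H)⁻¹ := by rw [hc]
      _ = (n₀ : H) * g * (n₀ : H)⁻¹ := by group
  · intro n
    apply Subtype.ext
    apply Subtype.ext
    show (n₀ : H) * ((n₀ : H)⁻¹ * (n.1 : H)) = (n.1 : H)
    group
  · intro c
    apply Subtype.ext
    show (n₀ : H)⁻¹ * ((n₀ : H) * (c : H)) = (c : H)
    group

end Cfsg.Agent.Lib.Helper70_SV_SZ

namespace Cfsg.Agent.Lib.Helper81_StVal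

open Cfsg.Agent.Lib.Helper70_SV_SZ

theorem sum_coset_of_vanish {H : Type*} [Group H] [Finite H] (p : ℕ) [Fact p.Prime]
    (N : Subgroup H) [N.Normal] (hN : IsPGroup p N) (ψ : H → ℂ)
    (hψ : Cfsg.IsClassFunction H ψ) (hvan : ∀ g : H, p ∣ orderOf g → ψ g = 0)
    (g : H) (hg : ¬ p ∣ orderOf g) :
    (Nat.card (N ⊓ Subgroup.centralizer ({g} : Set H) : Subgroup H) : ℂ) *
        ∑ᶠ k : N, ψ (g * (k : H)) = (Nat.card N : ℂ) * ψ g := by
  classical
  have : Fintype N := Fintype.ofFinite N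
  rw [finsum_eq_sum_of_fintype]
  have h1 : ∑ n : N, ψ (g * (tw N g n : H)) = (Nat.card N : ℂ) * ψ g := by
    have : ∀ n : N, ψ (g * (tw N g n : H)) = ψ g := by
      intro n
      rw [g_mul_tw]
      exact hψ g n
    simp only [this]
    rw [Finset.sum_const, Finset.card_univ, nsmul_eq_mul, Nat.card_eq_fintype_card]
  have h2 : ∑ n : N, ψ (g * (tw N g n : H)) =
      ∑ k : N, ∑ n ∈ Finset.univ.filter (fun n => tw N g n = k), ψ (g * (tw N g n : H)) :=
    (Finset.sum_fiberwise _ _ _).symm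
  have h3 : ∀ k : N, ∑ n ∈ Finset.univ.filter (fun n => tw N g n = k), ψ (g * (tw N g n : H)) =
      (Nat.card (N ⊓ Subgroup.centralizer ({g} : Set H) : Subgroup H) : ℂ) * ψ (g * (k : H)) := by
    intro k
    have e1 : ∑ n ∈ Finset.univ.filter (fun n => tw N g n = k), ψ (g * (tw N g n : H)) =
        ∑ n ∈ Finset.univ.filter (fun n => tw N g n = k), ψ (g * (k : H)) := by
      apply Finset.sum_congr rfl
      intro n hn
      rw [(Finset.mem_filter.1 hn).2]
    rw [e1, Finset.sum_const, nsmul_eq_mul]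
    by_cases hne : ∃ n₀ : N, tw N g n₀ = k
    · obtain ⟨n₀, rfl⟩ := hne
      have hc := card_fibre_tw N g n₀
      rw [Nat.card_eq_fintype_card, Fintype.card_subtype] at hc
      rw [hc]
    · have hz : ψ (g * (k : H)) = 0 := by
        by_cases hd : p ∣ orderOf (g * (k : H))
        · exact hvan _ hd
        · exfalso
          obtain ⟨n, hn, hnk⟩ := conj_of_pRegular p N hN g hg (k : H) k.2 hd
          apply hne
          refine ⟨⟨n, hn⟩, ?_⟩
          apply Subtype.ext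
          have := g_mul_tw N g ⟨n, hn⟩
          rw [hnk] at this
          exact mul_left_cancel this
      rw [hz, mul_zero, mul_zero]
  rw [← h1, h2, Finset.mul_sum]
  exact Finset.sum_congr rfl (fun k _ => (h3 k).symm)

end Cfsg.Agent.Lib.Helper81_StVal
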