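import Mathlib

/-!
# sz8 market (helper35, S2112), package SZ8-CENT4:
a normal subgroup of order four of a perfect group is central
-/

set_option autoImplicit false
set_option linter.unusedVariables false
set_option linter.unusedSectionVars false
set_option linter.unusedSimpArgs false

namespace Cfsg.Agent.Lib.Helper70_SZ8_CENT4

/-- a homomorphism from a perfect group with pairwise commuting values is trivial -/
theorem hom_trivial_of_perfect {Γ H : Type*} [Group Γ] [Group H] (hperf : commutator Γ = ⊤)
    (f : Γ →* H) (hc : ∀ x y : Γ, f x * f y = f y * f x) (g : Γ) : f g = 1 := by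
  have hle : commutator Γ ≤ f.ker := by
    rw [commutator_def, Subgroup.commutator_le]
    intro g₁ _ g₂ _
    rw [MonoidHom.mem_ker, map_commutatorElement, commutatorElement_eq_one_iff_mul_comm]
    exact hc g₁ g₂
  have : g ∈ f.ker := hle (by rw [hperf]; exact Subgroup.mem_top g)
  exact MonoidHom.mem_ker.1 this

/-- the conjugation action of the group on the non-identity elements of a normal subgroup -/
def conjX {Γ : Type*} [Group Γ] (K : Subgroup Γ) [K.Normal] :
    Γ →* Equiv.Perm {k : K // k ≠ 1} where
  toFun g := (MulAut.conjNormal g : MulAut K).toEquiv.subtypeEquiv (fun k => by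
    simp)
  map_one' := by
    ext k
    simp
  map_mul' g h := by
    ext k
    simp [mul_assoc]

theorem conjX_apply {Γ : Type*} [Group Γ] (K : Subgroup Γ) [K.Normal] (g : Γ)
    (k : {k : K // k ≠ 1}) : ((conjX K g k : K) : Γ) = g * (k : K) * g⁻¹ := by
  simp [conjX]

theorem le_center_of_card_four {Γ : Type*} [Group Γ] (hperf : commutator Γ = ⊤)
    (K : Subgroup Γ) [K.Normal] (hK : Nat.card K = 4) : K ≤ Subgroup.center Γ := by
  classical
  have : Finite K := Nat.finite_of_card_ne_zero (by omega)
  have : Fintype K := Fintype.ofFinite K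
  have hX : Fintype.card {k : K // k ≠ 1} = 3 := by
    rw [Fintype.card_subtype_compl, Fintype.card_subtype_eq, ← Nat.card_eq_fintype_card, hK]
  have : Nontrivial {k : K // k ≠ 1} := by
    rw [← Fintype.one_lt_card_iff_nontrivial, hX]; norm_num
  -- the sign is trivial
  have hsign : ∀ g : Γ, Equiv.Perm.sign (conjX K g) = 1 := by
    intro g
    exact hom_trivial_of_perfect hperf (Equiv.Perm.sign.comp (conjX K))
      (fun x y => mul_comm _ _) g
  have hmem : ∀ g : Γ, conjX K g ∈ alternatingGroup {k : K // k ≠ 1} := by
    intro g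
    rw [Equiv.Perm.mem_alternatingGroup]
    exact hsign g
  have hA : Fintype.card (alternatingGroup {k : K // k ≠ 1}) = 3 := by
    have h2 := two_mul_card_alternatingGroup (α := {k : K // k ≠ 1})
    rw [Fintype.card_perm, hX] at h2
    have : Nat.factorial 3 = 6 := by decide
    omega
  have hcyc : IsCyclic (alternatingGroup {k : K // k ≠ 1}) := by
    have : Fact (Nat.Prime 3) := ⟨by norm_num⟩
    exact isCyclic_of_prime_card (p := 3) (by rw [Nat.card_eq_fintype_card, hA])
  have hcomm : ∀ x y : alternatingGroup {k : K // k ≠ 1}, x * y = y * x := by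
    intro x y
    obtain ⟨z, hz⟩ := hcyc.exists_generator
    obtain ⟨m, rfl⟩ := Subgroup.mem_zpowers_iff.1 (hz x)
    obtain ⟨n, rfl⟩ := Subgroup.mem_zpowers_iff.1 (hz y)
    rw [← zpow_add, ← zpow_add, add_comm]
  have htriv : ∀ g : Γ, conjX K g = 1 := by
    intro g
    have := hom_trivial_of_perfect hperf
      ((conjX K).codRestrict (alternatingGroup {k : K // k ≠ 1}) hmem)
      (fun x y => hcomm _ _) g
    have h2 := congrArg Subtype.val this
    simpa using h2
  intro k hk
  rw [Subgroup.mem_center_iff]
  intro g
  by_cases hk1 : k = 1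
  · subst hk1; simp
  · have hne : (⟨k, hk⟩ : K) ≠ 1 := by
      intro e
      apply hk1
      exact congrArg Subtype.val e
    have h1 := conjX_apply K g ⟨⟨k, hk⟩, hne⟩
    rw [htriv g] at h1
    simp only [Equiv.Perm.coe_one, id_eq] at h1
    calc g * k = g * k * g⁻¹ * g := by group
      _ = k * g := by rw [← h1]

end Cfsg.Agent.Lib.Helper70_SZ8_CENT4
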