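import Mathlib
import Cfsg.Agent.Lib.Helper68_StOoDefs
import Cfsg.Agent.Lib.Helper68_StAbs
import Cfsg.Agent.Lib.Helper70_StOo_MONOW

/-!
# S2547 package JREV (architect helper68): a monomial element of `Ω` reversing all heights
-/

set_option autoImplicit false

namespace Cfsg.Agent.Lib.Helper70_StOo_JREV

open Matrix Cfsg.Agent.Lib.Helper68_MatGrp Cfsg.Agent.Lib.Helper68_StOoDefs

variable {m : ℕ} {F : Type*} [Field F] [Fintype F] [NeZero (2 : F)]

/-- the partial reversal: exchanges `e_i` and `f_i` for `i < k` -/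
def prev (k : ℕ) : I m → I m
  | Sum.inl u => Sum.inl u
  | Sum.inr (Sum.inl i) => if i.val < k then Sum.inr (Sum.inr i) else Sum.inr (Sum.inl i)
  | Sum.inr (Sum.inr i) => if i.val < k then Sum.inr (Sum.inl i) else Sum.inr (Sum.inr i)

theorem prev_z0 (k : ℕ) : prev k (z0 : I m) = z0 := rfl

theorem prev_ie (k : ℕ) (i : Fin m) : prev k (ie i) = if i.val < k then jf i else ie i := rfl

theorem prev_jf (k : ℕ) (i : Fin m) : prev k (jf i) = if i.val < k then ie i else jf i := rfl

theorem exists_partial (k : ℕ) (hk : k ≤ m) :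
    ∃ (n : GO m F) (π : Equiv.Perm (I m)), IsMono (φ m F) n π ∧ ∀ x, π x = prev k x := by
  induction k with
  | zero =>
    refine ⟨1, 1, isMono_one, ?_⟩
    intro x
    rcases index_cases x with rfl | ⟨i, rfl⟩ | ⟨i, rfl⟩
    · rfl
    · rw [prev_ie, if_neg (Nat.not_lt_zero _)]; rfl
    · rw [prev_jf, if_neg (Nat.not_lt_zero _)]; rfl
  | succ k ih =>
    obtain ⟨n, π, hn, hπ⟩ := ih (Nat.le_of_succ_le hk)
    let i0 : Fin m := ⟨k, hk⟩
    have hw := Cfsg.Agent.Lib.Helper70_StOo_MONOW.ws_isMono (F := F) (ie_ne_z0 i0)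
    rw [op_ie] at hw
    refine ⟨n * ws (ie i0), π * Equiv.swap (ie i0) (jf i0), hn.mul hw, ?_⟩
    intro x
    rw [Equiv.Perm.mul_apply, hπ]
    rcases index_cases x with rfl | ⟨i, rfl⟩ | ⟨i, rfl⟩
    · rw [Equiv.swap_apply_of_ne_of_ne (ie_ne_z0 i0).symm (jf_ne_z0 i0).symm]
      rfl
    · by_cases hi : i = i0
      · subst hi
        rw [Equiv.swap_apply_left, prev_jf, prev_ie, if_neg (lt_irrefl _), if_pos (Nat.lt_succ_self _)]
      · have hne : (ie i : I m) ≠ ie i0 := fun h => hi (ie_injective h)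
        rw [Equiv.swap_apply_of_ne_of_ne hne (ie_ne_jf i i0), prev_ie, prev_ie]
        have hik : i.val ≠ k := fun h => hi (Fin.ext h)
        by_cases hlt : i.val < k
        · rw [if_pos hlt, if_pos (Nat.lt_succ_of_lt hlt)]
        · rw [if_neg hlt, if_neg (by omega)]
    · by_cases hi : i = i0
      · subst hi
        rw [Equiv.swap_apply_right, prev_jf, prev_ie, if_neg (lt_irrefl _), if_pos (Nat.lt_succ_self _)]
      · have hne : (jf i : I m) ≠ jf i0 := fun h => hi (jf_injective h)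
        rw [Equiv.swap_apply_of_ne_of_ne (ie_ne_jf i0 i).symm hne, prev_jf, prev_jf]
        have hik : i.val ≠ k := fun h => hi (Fin.ext h)
        by_cases hlt : i.val < k
        · rw [if_pos hlt, if_pos (Nat.lt_succ_of_lt hlt)]
        · rw [if_neg hlt, if_neg (by omega)]

theorem exists_rev : ∃ n : GO m F, IsMono (φ m F) n opE := by
  obtain ⟨n, π, hn, hπ⟩ := exists_partial (F := F) m le_rfl
  have hπ' : π = opE := by
    apply Equiv.ext
    intro x
    rw [hπ, opE_apply]
    rcases index_cases x with rfl | ⟨i, rfl⟩ | ⟨i, rfl⟩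
    · rfl
    · rw [prev_ie, if_pos i.2, op_ie]
    · rw [prev_jf, if_pos i.2, op_jf]
  rw [hπ'] at hn
  exact ⟨n, hn⟩

end Cfsg.Agent.Lib.Helper70_StOo_JREV
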