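import Mathlib
import Cfsg.Agent.Lib.Helper27_StSUDefs
import Cfsg.Agent.Lib.Helper27_StSUBasic
import Cfsg.Agent.Lib.Helper55_StSU_MEMX

/-!
# S2546 package R3X (architect helper27): the rank one relation for the type X root
-/

set_option autoImplicit false
set_option linter.unusedSectionVars false
set_option linter.unusedVariables false

namespace Cfsg.Agent.Lib.Helper70_StSU_R3X

open Matrix Cfsg.Agent.Lib.Helper68_MatGrp Cfsg.Agent.Lib.Helper27_StSUDefs
  Cfsg.Agent.Lib.Helper27_StSUBasic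

variable {n : ℕ} {F : Type*} [Field F] (σ : F →+* F)

/-! ### VAL lemmas (from MEMX, helper55) -/

open Cfsg.Agent.Lib.Helper55_StSU_MEMX in
theorem xX_val (i : Fin n) (h : i ≠ Fin.rev i) (t : F) (ht : σ t = -t) : (xX σ i t).1.1 = xXm i t :=
  mkE_val σ (xXm_mem σ i h t ht).1 (xXm_mem σ i h t ht).2

open Cfsg.Agent.Lib.Helper55_StSU_MEMX in
theorem wX_val (ε : F) (hε0 : ε ≠ 0) (hε : σ ε = -ε) (i : Fin n) (h : i ≠ Fin.rev i) :
    (wX σ ε i).1.1 = wXm ε i :=
  mkE_val σ (wXm_mem σ ε hε0 hε i h).1 (wXm_mem σ ε hε0 hε i h).2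

/-! ### the embedding of `2 × 2` matrices on the rows and columns `i`, `j` -/

/-- the `2 × 2` matrix `m` on the rows and columns `i`, `j`, the identity elsewhere -/
def emb2 (i j : Fin n) (m : Matrix (Fin 2) (Fin 2) F) : Matrix (Fin n) (Fin n) F :=
  1 - single i i 1 - single j j 1 + single i i (m 0 0) + single i j (m 0 1) + single j i (m 1 0) +
    single j j (m 1 1)

theorem emb2_mul (i j : Fin n) (hij : i ≠ j) (m m' : Matrix (Fin 2) (Fin 2) F) :
    emb2 i j m * emb2 i j m' = emb2 i j (m * m') := by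
  obtain ⟨Eii, hEii⟩ : ∃ E : Matrix (Fin n) (Fin n) F, E = single i i 1 := ⟨_, rfl⟩
  obtain ⟨Eij, hEij⟩ : ∃ E : Matrix (Fin n) (Fin n) F, E = single i j 1 := ⟨_, rfl⟩
  obtain ⟨Eji, hEji⟩ : ∃ E : Matrix (Fin n) (Fin n) F, E = single j i 1 := ⟨_, rfl⟩
  obtain ⟨Ejj, hEjj⟩ : ∃ E : Matrix (Fin n) (Fin n) F, E = single j j 1 := ⟨_, rfl⟩
  have eii (x : F) : single i i x = x • Eii := by rw [hEii, Matrix.smul_single, smul_eq_mul, mul_one]
  have eij (x : F) : single i j x = x • Eij := by rw [hEij, Matrix.smul_single, smul_eq_mul, mul_one]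
  have eji (x : F) : single j i x = x • Eji := by rw [hEji, Matrix.smul_single, smul_eq_mul, mul_one]
  have ejj (x : F) : single j j x = x • Ejj := by rw [hEjj, Matrix.smul_single, smul_eq_mul, mul_one]
  have hji : j ≠ i := Ne.symm hij
  have t1 : Eii * Eii = Eii := by rw [hEii, single_mul_single_same, mul_one]
  have t2 : Eii * Eij = Eij := by rw [hEii, hEij, single_mul_single_same, mul_one]
  have t3 : Eii * Eji = 0 := by rw [hEii, hEji, single_mul_single_of_ne (h := hij)]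
  have t4 : Eii * Ejj = 0 := by rw [hEii, hEjj, single_mul_single_of_ne (h := hij)]
  have t5 : Eij * Eii = 0 := by rw [hEii, hEij, single_mul_single_of_ne (h := hji)]
  have t6 : Eij * Eij = 0 := by rw [hEij, single_mul_single_of_ne (h := hji)]
  have t7 : Eij * Eji = Eii := by rw [hEii, hEij, hEji, single_mul_single_same, mul_one]
  have t8 : Eij * Ejj = Eij := by rw [hEjj, hEij, single_mul_single_same, mul_one]
  have t9 : Eji * Eii = Eji := by rw [hEii, hEji, single_mul_single_same, mul_one]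
  have t10 : Eji * Eij = Ejj := by rw [hEjj, hEij, hEji, single_mul_single_same, mul_one]
  have t11 : Eji * Eji = 0 := by rw [hEji, single_mul_single_of_ne (h := hij)]
  have t12 : Eji * Ejj = 0 := by rw [hEjj, hEji, single_mul_single_of_ne (h := hij)]
  have t13 : Ejj * Eii = 0 := by rw [hEii, hEjj, single_mul_single_of_ne (h := hji)]
  have t14 : Ejj * Eij = 0 := by rw [hEjj, hEij, single_mul_single_of_ne (h := hji)]
  have t15 : Ejj * Eji = Eji := by rw [hEjj, hEji, single_mul_single_same, mul_one]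
  have t16 : Ejj * Ejj = Ejj := by rw [hEjj, single_mul_single_same, mul_one]
  unfold emb2
  simp only [eii, eij, eji, ejj, Matrix.add_mul, Matrix.mul_add, Matrix.sub_mul, Matrix.mul_sub,
    Matrix.one_mul, Matrix.mul_one, Matrix.smul_mul, Matrix.mul_smul, t1, t2, t3, t4, t5, t6, t7, t8,
    t9, t10, t11, t12, t13, t14, t15, t16, smul_zero, Matrix.mul_apply, Fin.sum_univ_two]
  module

theorem emb2_one (i j : Fin n) : emb2 i j (1 : Matrix (Fin 2) (Fin 2) F) = 1 := by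
  unfold emb2
  simp only [Matrix.one_apply_eq, Matrix.one_apply_ne (show (0 : Fin 2) ≠ 1 by decide),
    Matrix.one_apply_ne (show (1 : Fin 2) ≠ 0 by decide), Matrix.single_zero]
  abel

/-- entries below the diagonal -/
theorem emb2_apply_lt (i j : Fin n) (hij : i < j) (m : Matrix (Fin 2) (Fin 2) F) (hm : m 1 0 = 0)
    (a c : Fin n) (hca : c < a) : emb2 i j m a c = 0 := by
  have hne : a ≠ c := (ne_of_lt hca).symm
  unfold emb2
  simp only [Matrix.add_apply, Matrix.sub_apply, Matrix.one_apply_ne hne, hm, Matrix.single_zero,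
    add_zero]
  have h1 : ∀ x : F, single i i x a c = 0 := by
    intro x
    rw [single_apply, if_neg]
    rintro ⟨h1, h2⟩
    exact hne (h1.symm.trans h2)
  have h2 : ∀ x : F, single j j x a c = 0 := by
    intro x
    rw [single_apply, if_neg]
    rintro ⟨h1, h2⟩
    exact hne (h1.symm.trans h2)
  have h3 : ∀ x : F, single i j x a c = 0 := by
    intro x
    rw [single_apply, if_neg]
    rintro ⟨h1, h2⟩
    rw [h1, h2] at hij
    exact absurd hca (not_lt_of_gt hij)
  rw [h1, h1, h2, h2, h3]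
  ring

/-- the `2 × 2` matrix of `xXm` -/
def x2 (t : F) : Matrix (Fin 2) (Fin 2) F := !![1, t; 0, 1]

/-- the `2 × 2` matrix of `wXm` -/
def w2 (ε : F) : Matrix (Fin 2) (Fin 2) F := !![0, ε; -ε⁻¹, 0]

theorem xXm_eq (i : Fin n) (t : F) : xXm i t = emb2 i (Fin.rev i) (x2 t) := by
  unfold xXm emb2 x2
  simp only [Matrix.of_apply, Matrix.cons_val', Matrix.cons_val_zero, Matrix.cons_val_one,
    Matrix.cons_val_fin_one, Matrix.single_zero]
  abel

theorem wXm_eq (ε : F) (i : Fin n) : wXm ε i = emb2 i (Fin.rev i) (w2 ε) := by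
  unfold wXm emb2 w2
  simp only [Matrix.of_apply, Matrix.cons_val', Matrix.cons_val_zero, Matrix.cons_val_one,
    Matrix.cons_val_fin_one, Matrix.single_zero, ← Matrix.single_neg]
  abel

theorem w2_mul_w2 (ε : F) (hε0 : ε ≠ 0) : w2 ε * w2 (-ε) = 1 := by
  unfold w2
  rw [Matrix.mul_fin_two, Matrix.one_fin_two]
  congr 1
  simp only [inv_neg]
  ext a b
  fin_cases a <;> fin_cases b <;> simp <;> field_simp

theorem x2_mul_x2 (t : F) : x2 t * x2 (-t) = 1 := by
  unfold x2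
  rw [Matrix.mul_fin_two, Matrix.one_fin_two]
  ext a b
  fin_cases a <;> fin_cases b <;> simp

/-- the matrix of the inverse, from a right inverse of the matrix -/
theorem inv_val_of_mul_eq_one (g : ↥(SUJ n σ)) (M : Matrix (Fin n) (Fin n) F) (h : g.1.1 * M = 1) :
    (g⁻¹).1.1 = M := by
  calc (g⁻¹).1.1 = (g⁻¹).1.1 * (g.1.1 * M) := by rw [h, Matrix.mul_one]
    _ = ((g⁻¹).1.1 * g.1.1) * M := by rw [Matrix.mul_assoc]
    _ = M := by rw [inv_mul_val, Matrix.one_mul]

theorem key2 (ε t : F) (hε0 : ε ≠ 0) (ht0 : t ≠ 0) :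
    (w2 ε * x2 t * w2 (-ε) * x2 (-(-(ε * ε) / t)) * w2 (-ε)) 1 0 = 0 := by
  unfold w2 x2
  simp only [Matrix.mul_fin_two, Matrix.of_apply, Matrix.cons_val', Matrix.cons_val_zero,
    Matrix.cons_val_one, Matrix.cons_val_fin_one, inv_neg]
  field_simp
  ring

theorem r3X (hσ : ∀ x, σ (σ x) = x) (ε : F) (hε0 : ε ≠ 0) (hε : σ ε = -ε) (i : Fin n)
    (hlt : i < Fin.rev i) (t : F) (ht : σ t = -t) (ht0 : t ≠ 0) :
    ∃ b ∈ Bsu n σ, ∃ t' : F, σ t' = -t' ∧
      wX σ ε i * xX σ i t * (wX σ ε i)⁻¹ = b * wX σ ε i * xX σ i t' := by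
  have hne : i ≠ Fin.rev i := ne_of_lt hlt
  obtain ⟨t', ht'def⟩ : ∃ t' : F, t' = -(ε * ε) / t := ⟨_, rfl⟩
  have ht' : σ t' = -t' := by
    rw [ht'def, map_div₀, map_neg, map_mul, hε, ht]
    field_simp
  refine ⟨(wX σ ε i * xX σ i t * (wX σ ε i)⁻¹) * (wX σ ε i * xX σ i t')⁻¹, ?_, t', ht', by group⟩
  rw [mem_Bsu]
  intro a c hca
  have hW := wX_val σ ε hε0 hε i hne
  have hX := xX_val σ i hne t ht
  have hX' := xX_val σ i hne t' ht'
  have hWinv : ((wX σ ε i)⁻¹).1.1 = wXm (-ε) i := by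
    apply inv_val_of_mul_eq_one
    rw [hW, wXm_eq, wXm_eq, emb2_mul _ _ hne, w2_mul_w2 ε hε0, emb2_one]
  have hX'inv : ((xX σ i t')⁻¹).1.1 = xXm i (-t') := by
    apply inv_val_of_mul_eq_one
    rw [hX', xXm_eq, xXm_eq, emb2_mul _ _ hne, x2_mul_x2, emb2_one]
  have hb : ((wX σ ε i * xX σ i t * (wX σ ε i)⁻¹) * (wX σ ε i * xX σ i t')⁻¹).1.1 =
      emb2 i (Fin.rev i) (w2 ε * x2 t * w2 (-ε) * x2 (-t') * w2 (-ε)) := by
    rw [_root_.mul_inv_rev, mul_val, mul_val, mul_val, mul_val, hW, hX, hWinv, hX'inv, wXm_eq, wXm_eq, xXm_eq,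
      xXm_eq, ← Matrix.mul_assoc, emb2_mul _ _ hne, emb2_mul _ _ hne, emb2_mul _ _ hne,
      emb2_mul _ _ hne]
  rw [hb]
  apply emb2_apply_lt _ _ hlt _ _ _ _ hca
  rw [ht'def]
  exact key2 ε t hε0 ht0

end Cfsg.Agent.Lib.Helper70_StSU_R3X
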