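import Mathlib
import Cfsg.Agent.S0827

/-!
# The derived subgroup of `SU₃(2)` (helper8)

For a field `F` with four elements, `commutator (SU 3 F 2)` has order `54` and contains two
non-commuting elements of order dividing `3` (its Sylow 3-subgroup is extraspecial of order 27).
-/

set_option autoImplicit false
set_option linter.unusedSectionVars false
open Cfsg

namespace Cfsg.Agent.Lib.Helper8_SU32Derived

open Cfsg.Agent.S0827
open scoped commutatorElement

/-- the abelianization map of the quaternion group, onto the four-group -/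
def q8fun : QuaternionGroup 2 → Multiplicative (ZMod 2 × ZMod 2)
  | .a i => Multiplicative.ofAdd (ZMod.castHom (show 2 ∣ 2 * 2 by norm_num) (ZMod 2) i, 0)
  | .xa i => Multiplicative.ofAdd (ZMod.castHom (show 2 ∣ 2 * 2 by norm_num) (ZMod 2) i, 1)

theorem q8fun_mul : ∀ x y : QuaternionGroup 2, q8fun (x * y) = q8fun x * q8fun y := by decide

def q8ab : QuaternionGroup 2 →* Multiplicative (ZMod 2 × ZMod 2) := MonoidHom.mk' q8fun q8fun_mul

theorem q8ab_surjective : Function.Surjective q8ab := by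
  intro y
  have : ∀ y : Multiplicative (ZMod 2 × ZMod 2), ∃ x : QuaternionGroup 2, q8fun x = y := by decide
  exact this y

/-! ### groups of order dividing 27 -/

/-- a subgroup of order dividing `27` containing two non-commuting elements has order `27` -/
theorem card_eq_27_of_noncomm {G : Type*} [Group G] (T : Subgroup G) (hT : Nat.card T ∣ 27)
    (u v : G) (hu : u ∈ T) (hv : v ∈ T) (huv : u * v ≠ v * u) : Nat.card T = 27 := by
  have hcomm : (∀ x y : T, x * y = y * x) → False := by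
    intro h
    apply huv
    have := h ⟨u, hu⟩ ⟨v, hv⟩
    exact congrArg Subtype.val this
  have h27 : (27 : ℕ) = 3 ^ 3 := by norm_num
  rw [h27] at hT
  obtain ⟨k, hk, hk2⟩ := (Nat.dvd_prime_pow Nat.prime_three).mp hT
  have : Fact (Nat.Prime 3) := ⟨Nat.prime_three⟩
  interval_cases k
  · exfalso
    apply hcomm
    have h1 : Nat.card T = 1 := by rw [hk2]; norm_num
    have := (Nat.card_eq_one_iff_unique.mp h1).1
    intro x y
    rw [Subsingleton.elim x 1, Subsingleton.elim y 1]
  · exfalso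
    apply hcomm
    have h1 : Nat.card T = 3 := by rw [hk2]; norm_num
    have hc : IsCyclic T := isCyclic_of_prime_card h1
    intro x y
    exact (IsCyclic.commGroup (α := T)).mul_comm x y
  · exfalso
    apply hcomm
    have hmc := IsPGroup.isMulCommutative_of_card_eq_prime_sq (p := 3) hk2
    intro x y
    exact hmc.is_comm.comm x y
  · rw [hk2]; norm_num

section SU

variable {F : Type*} [Field F] [Fintype F]

theorem card_SU32 (hF : Fintype.card F = 4) : Nat.card (Cfsg.SU 3 F 2) = 216 := by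
  have hF' : Fintype.card F = 2 ^ 2 := by rw [hF]; norm_num
  have h1 := Cfsg.Agent.Lib.Helper5_SUOrder.card_SU hF' 3 (by norm_num)
  norm_num [Finset.prod_range_succ] at h1
  omega

theorem exists_hom_onto_four (hF : Fintype.card F = 4) :
    ∃ ψ : Cfsg.SU 3 F 2 →* Multiplicative (ZMod 2 × ZMod 2), Function.Surjective ψ := by
  obtain ⟨N, hN, -, -, ⟨e⟩⟩ := Cfsg.Agent.S0827.result hF
  refine ⟨q8ab.comp (e.toMonoidHom.comp ((QuotientGroup.mk' N).comp
    (QuotientGroup.mk' (Subgroup.center (Cfsg.SU 3 F 2))))), ?_⟩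
  intro y
  obtain ⟨x1, rfl⟩ := q8ab_surjective y
  obtain ⟨x2, rfl⟩ := e.surjective x1
  obtain ⟨x3, rfl⟩ := QuotientGroup.mk'_surjective N x2
  obtain ⟨x4, rfl⟩ := QuotientGroup.mk'_surjective (Subgroup.center (Cfsg.SU 3 F 2)) x3
  exact ⟨x4, rfl⟩

/-! ### explicit commutators -/

theorem U4_pow : (cc4 * cc4 * dd4 * dd4) * (cc4 * cc4 * dd4 * dd4) * (cc4 * cc4 * dd4 * dd4) = 1 := by
  decide
theorem V4_pow : (dd4 * cc4 * cc4) * (dd4 * cc4 * cc4) * (dd4 * cc4 * cc4) = 1 := by decide
theorem UV4_ne : (cc4 * cc4 * dd4 * dd4) * (dd4 * cc4 * cc4)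
    ≠ (dd4 * cc4 * cc4) * (cc4 * cc4 * dd4 * dd4) := by decide +kernel
theorem W4_ne : aa4 * aa4 ≠ 1 := by decide

variable (ι : F4 →+* F)

theorem iota_injective : Function.Injective ι := by
  intro x y h
  by_contra hxy
  have h1 := iota_ne_zero ι (x - y) (sub_ne_zero.mpr hxy)
  rw [map_sub, h, sub_self] at h1
  exact h1 rfl

theorem Psi_injective : Function.Injective (Psi ι) := by
  intro s t h
  apply Subtype.ext
  apply Matrix.ext
  intro i j
  have h1 := congrArg (fun m : Matrix.SpecialLinearGroup (Fin 3) F => m.1 i j) h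
  exact iota_injective ι h1

/-- commutator identities in an arbitrary group -/
theorem comm_eq_of_rel {G : Type*} [Group G] {a d u : G} (h : a * d = u * d * a) : ⁅a, d⁆ = u := by
  rw [commutatorElement_def, h]
  group

/-- the derived subgroup of `SU₃(2)` contains two non-commuting elements of order three and an
involution -/
theorem exists_elements (hF : Fintype.card F = 4) :
    ∃ u v w : Cfsg.SU 3 F 2, u ∈ commutator (Cfsg.SU 3 F 2) ∧ v ∈ commutator (Cfsg.SU 3 F 2) ∧
      w ∈ commutator (Cfsg.SU 3 F 2) ∧ u ^ 3 = 1 ∧ v ^ 3 = 1 ∧ u * v ≠ v * u ∧ w ≠ 1 ∧ w ^ 2 = 1 := by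
  obtain ⟨ι⟩ := exists_iota hF
  let d := toSU ι hF dd4 U_dd4
  let c := toSU ι hF cc4 U_cc4
  let a := toSU ι hF aa4 U_aa4
  let x := toSU ι hF xx4 U_xx4
  have r1 : d * d * d = 1 := Subtype.ext (by
    show Psi ι dd4 * Psi ι dd4 * Psi ι dd4 = 1
    simp only [← map_mul]; rw [R1, map_one])
  have r2 : c * c * c = 1 := Subtype.ext (by
    show Psi ι cc4 * Psi ι cc4 * Psi ι cc4 = 1
    simp only [← map_mul]; rw [R2, map_one])
  have r4 : a * a * a * a = 1 := Subtype.ext (by
    show Psi ι aa4 * Psi ι aa4 * Psi ι aa4 * Psi ι aa4 = 1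
    simp only [← map_mul]; rw [R4, map_one])
  have r5 : x * x = a * a := Subtype.ext (by
    show Psi ι xx4 * Psi ι xx4 = Psi ι aa4 * Psi ι aa4
    simp only [← map_mul]; rw [R5])
  have r6 : a * x * a = x := Subtype.ext (by
    show Psi ι aa4 * Psi ι xx4 * Psi ι aa4 = Psi ι xx4
    simp only [← map_mul]; rw [R6])
  have r7 : a * d = c * c * a := Subtype.ext (by
    show Psi ι aa4 * Psi ι dd4 = Psi ι cc4 * Psi ι cc4 * Psi ι aa4
    simp only [← map_mul]; rw [R7])
  have r8 : a * c = d * a := Subtype.ext (by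
    show Psi ι aa4 * Psi ι cc4 = Psi ι dd4 * Psi ι aa4
    simp only [← map_mul]; rw [R8])
  have hu : ⁅a, d⁆ = c * c * d * d := by
    apply comm_eq_of_rel
    rw [r7]
    have : c * c * d * d * d = c * c * (d * d * d) := by group
    rw [this, r1, mul_one]
  have hv : ⁅a, c⁆ = d * c * c := by
    apply comm_eq_of_rel
    rw [r8]
    have : d * c * c * c = d * (c * c * c) := by group
    rw [this, r2, mul_one]
  have hw : ⁅a, x⁆ = a * a := by
    apply comm_eq_of_rel
    have h1 : a * a * x = x * (a * a) := by rw [← r5]; group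
    calc a * x = a * x * a * a⁻¹ := by group
      _ = x * a⁻¹ := by rw [r6]
      _ = x * (a * a * a) := by
        congr 1
        exact inv_eq_of_mul_eq_one_right (by rw [← r4]; group)
      _ = (x * (a * a)) * a := by group
      _ = a * a * x * a := by rw [← h1]
  have hcm : ∀ g h : Cfsg.SU 3 F 2, ⁅g, h⁆ ∈ commutator (Cfsg.SU 3 F 2) := fun g h =>
    Subgroup.commutator_mem_commutator (Subgroup.mem_top g) (Subgroup.mem_top h)
  refine ⟨c * c * d * d, d * c * c, a * a, ?_, ?_, ?_, ?_, ?_, ?_, ?_, ?_⟩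
  · rw [← hu]; exact hcm a d
  · rw [← hv]; exact hcm a c
  · rw [← hw]; exact hcm a x
  · rw [pow_three']
    apply Subtype.ext
    show (Psi ι cc4 * Psi ι cc4 * Psi ι dd4 * Psi ι dd4) * (Psi ι cc4 * Psi ι cc4 * Psi ι dd4 * Psi ι dd4)
      * (Psi ι cc4 * Psi ι cc4 * Psi ι dd4 * Psi ι dd4) = 1
    simp only [← map_mul]; rw [U4_pow, map_one]
  · rw [pow_three']
    apply Subtype.ext
    show (Psi ι dd4 * Psi ι cc4 * Psi ι cc4) * (Psi ι dd4 * Psi ι cc4 * Psi ι cc4)
      * (Psi ι dd4 * Psi ι cc4 * Psi ι cc4) = 1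
    simp only [← map_mul]; rw [V4_pow, map_one]
  · intro h
    have h1 := congrArg Subtype.val h
    have h2 : Psi ι ((cc4 * cc4 * dd4 * dd4) * (dd4 * cc4 * cc4))
        = Psi ι ((dd4 * cc4 * cc4) * (cc4 * cc4 * dd4 * dd4)) := by
      simp only [map_mul]
      exact h1
    exact UV4_ne (Psi_injective ι h2)
  · intro h
    have h1 := congrArg Subtype.val h
    have h2 : Psi ι (aa4 * aa4) = Psi ι 1 := by
      rw [map_mul, map_one]
      exact h1
    exact W4_ne (Psi_injective ι h2)
  · rw [pow_two]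
    have : a * a * (a * a) = a * a * a * a := by group
    rw [this, r4]

/-- the derived subgroup of `SU₃(2)` has order `54` -/
theorem card_commutator_SU32 (hF : Fintype.card F = 4) :
    Nat.card (commutator (Cfsg.SU 3 F 2)) = 54 := by
  classical
  have hS := card_SU32 hF
  have hfin : Finite (Cfsg.SU 3 F 2) := Nat.finite_of_card_ne_zero (by rw [hS]; norm_num)
  obtain ⟨ψ, hψ⟩ := exists_hom_onto_four hF
  obtain ⟨u, v, w, hu, hv, hw, hu3, hv3, huv, hw1, hw2⟩ := exists_elements hF
  have h3 : Fact (Nat.Prime 3) := ⟨Nat.prime_three⟩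
  -- the kernel has order 54
  have hA : Nat.card (Multiplicative (ZMod 2 × ZMod 2)) = 4 := by
    rw [Nat.card_eq_fintype_card]; rfl
  have hM : Nat.card ψ.ker = 54 := by
    have h1 := Subgroup.card_mul_index ψ.ker
    rw [Subgroup.index_ker, MonoidHom.range_eq_top.mpr hψ, Subgroup.card_top, hA, hS] at h1
    omega
  have hle : commutator (Cfsg.SU 3 F 2) ≤ ψ.ker := Abelianization.commutator_subset_ker ψ
  have hdvd : Nat.card (commutator (Cfsg.SU 3 F 2)) ∣ 54 := by
    rw [← hM]; exact Subgroup.card_dvd_of_le hle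
  -- a subgroup of order 27 of the kernel
  obtain ⟨K, hK⟩ := Sylow.exists_subgroup_card_pow_prime (G := ψ.ker) 3 (n := 3)
    (by rw [hM]; norm_num)
  have hKidx : K.index = 2 := by
    have h1 := Subgroup.card_mul_index K
    rw [hK, hM] at h1
    omega
  have hmemK : ∀ g : ψ.ker, g ^ 3 = 1 → g ∈ K := by
    intro g hg
    have h1 := Subgroup.mul_self_mem_of_index_two hKidx (g * g)
    have h2 : g * g * (g * g) = g := by
      calc g * g * (g * g) = g ^ 3 * g := by
            rw [pow_succ, pow_two]; simp only [mul_assoc]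
        _ = g := by rw [hg, one_mul]
    rwa [h2] at h1
  let K' : Subgroup (Cfsg.SU 3 F 2) := K.map ψ.ker.subtype
  have hK' : Nat.card K' = 27 := by
    rw [Subgroup.card_map_of_injective ψ.ker.subtype_injective, hK]; norm_num
  have huK : u ∈ K' := by
    refine ⟨⟨u, hle hu⟩, hmemK _ ?_, rfl⟩
    apply Subtype.ext
    exact hu3
  have hvK : v ∈ K' := by
    refine ⟨⟨v, hle hv⟩, hmemK _ ?_, rfl⟩
    apply Subtype.ext
    exact hv3
  have hT : Nat.card (K' ⊓ commutator (Cfsg.SU 3 F 2) : Subgroup (Cfsg.SU 3 F 2)) = 27 := by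
    apply card_eq_27_of_noncomm _ _ u v (Subgroup.mem_inf.mpr ⟨huK, hu⟩)
      (Subgroup.mem_inf.mpr ⟨hvK, hv⟩) huv
    rw [← hK']
    exact Subgroup.card_dvd_of_le inf_le_left
  have h27 : 27 ∣ Nat.card (commutator (Cfsg.SU 3 F 2)) := by
    rw [← hT]
    exact Subgroup.card_dvd_of_le inf_le_right
  have h2 : 2 ∣ Nat.card (commutator (Cfsg.SU 3 F 2)) := by
    have ho : orderOf w = 2 := orderOf_eq_prime hw2 hw1
    have ho' : orderOf (⟨w, hw⟩ : commutator (Cfsg.SU 3 F 2)) = 2 :=
      (Subgroup.orderOf_mk w hw).trans ho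
    have h5 := orderOf_dvd_natCard (⟨w, hw⟩ : commutator (Cfsg.SU 3 F 2))
    rwa [ho'] at h5
  obtain ⟨k, hk⟩ := h27
  rw [hk] at h2 hdvd ⊢
  have hk1 : k ∣ 2 := by
    have : 27 * k ∣ 27 * 2 := by norm_num; exact hdvd
    exact (Nat.mul_dvd_mul_iff_left (by norm_num)).mp this
  have hk2 : k = 1 ∨ k = 2 := by
    have := Nat.le_of_dvd (by norm_num) hk1
    interval_cases k
    · simp at hk1
    · left; rfl
    · right; rfl
  rcases hk2 with rfl | rfl
  · norm_num at h2
  · rfl

/-- non-commuting elements of order three in the derived subgroup -/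
theorem exists_noncomm (hF : Fintype.card F = 4) :
    ∃ u v : commutator (Cfsg.SU 3 F 2), u ^ 3 = 1 ∧ v ^ 3 = 1 ∧ u * v ≠ v * u := by
  obtain ⟨u, v, w, hu, hv, hw, hu3, hv3, huv, hw1, hw2⟩ := exists_elements hF
  refine ⟨⟨u, hu⟩, ⟨v, hv⟩, Subtype.ext hu3, Subtype.ext hv3, ?_⟩
  intro h
  exact huv (congrArg Subtype.val h)

end SU

end Cfsg.Agent.Lib.Helper8_SU32Derived
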