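import Mathlib
import Cfsg.Agent.Lib.Helper8_SU32Derived

/-!
# S5559 package TT-ISO54A (architect helper92): three generating involutions of `SU₃(2)'` with the
`TC54` relations
-/

set_option autoImplicit false
set_option linter.unusedSectionVars false
open Cfsg

namespace Cfsg.Agent.Lib.Helper70_TT_ISO54A

open Cfsg.Agent.S0827 Cfsg.Agent.Lib.Helper8_SU32Derived
open scoped commutatorElement

/-! ### the concrete matrices -/

/-- the involution `a²` -/
def W4 : SL4 := aa4 * aa4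
/-- `[a, d]` -/
def U4 : SL4 := cc4 * cc4 * dd4 * dd4
/-- `[a, c]` -/
def V4 : SL4 := dd4 * cc4 * cc4
/-- the conjugate of `W4` by `U4` -/
def Y4 : SL4 := U4 * U4 * W4 * U4
/-- the conjugate of `W4` by `V4` -/
def Z4 : SL4 := V4 * V4 * W4 * V4

theorem U_W4 : IsU4 W4 := by decide +kernel
theorem U_U4 : IsU4 U4 := by decide +kernel
theorem U_V4 : IsU4 V4 := by decide +kernel
theorem U_Y4 : IsU4 Y4 := by decide +kernel
theorem U_Z4 : IsU4 Z4 := by decide +kernel

theorem t1 : W4 * W4 = 1 := by decide +kernel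
theorem t2 : Y4 * Y4 = 1 := by decide +kernel
theorem t3 : Z4 * Z4 = 1 := by decide +kernel
theorem t4 : (W4 * Y4) * (W4 * Y4) * (W4 * Y4) = 1 := by decide +kernel
theorem t5 : (W4 * Z4) * (W4 * Z4) * (W4 * Z4) = 1 := by decide +kernel
theorem t6 : (Y4 * Z4) * (Y4 * Z4) * (Y4 * Z4) = 1 := by decide +kernel
theorem t7 : (W4 * Z4 * Y4 * Z4) * (W4 * Z4 * Y4 * Z4) * (W4 * Z4 * Y4 * Z4) = 1 := by
  decide +kernel
theorem t8 : (W4 * Y4) * (W4 * Z4) ≠ (W4 * Z4) * (W4 * Y4) := by decide +kernel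
theorem t9 : W4 ≠ 1 := by decide +kernel
theorem tU : U4 * U4 * U4 = 1 := by decide +kernel
theorem tV : V4 * V4 * V4 = 1 := by decide +kernel

/-! ### a generation criterion in a group of order 54 -/

theorem eq_top_of_card_54 {G : Type*} [Group G] (hG : Nat.card G = 54) (T : Subgroup G)
    (x p q : G) (hx : x ∈ T) (hx2 : x ^ 2 = 1) (hx1 : x ≠ 1) (hp : p ∈ T) (hq : q ∈ T)
    (hp3 : p ^ 3 = 1) (hq3 : q ^ 3 = 1) (hpq : p * q ≠ q * p) : T = ⊤ := by
  have hfin : Finite G := Nat.finite_of_card_ne_zero (by rw [hG]; norm_num)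
  have h3 : Fact (Nat.Prime 3) := ⟨Nat.prime_three⟩
  have hdvd : Nat.card T ∣ 54 := by rw [← hG]; exact Subgroup.card_subgroup_dvd_card T
  have h2 : 2 ∣ Nat.card T := by
    have ho : orderOf x = 2 := orderOf_eq_prime hx2 hx1
    have ho' : orderOf (⟨x, hx⟩ : T) = 2 := (Subgroup.orderOf_mk x hx).trans ho
    have h5 := orderOf_dvd_natCard (⟨x, hx⟩ : T)
    rwa [ho'] at h5
  obtain ⟨m, hm⟩ := h2
  have hm27 : m ∣ 27 := by
    rw [hm] at hdvd
    have : 2 * m ∣ 2 * 27 := by norm_num; exact hdvd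
    exact (Nat.mul_dvd_mul_iff_left (by norm_num)).mp this
  have h27 : (27 : ℕ) = 3 ^ 3 := by norm_num
  rw [h27] at hm27
  obtain ⟨j, hj, hmj⟩ := (Nat.dvd_prime_pow Nat.prime_three).mp hm27
  -- a subgroup of index 2 in `T`
  obtain ⟨K, hK⟩ := Sylow.exists_subgroup_card_pow_prime (G := T) 3 (n := j)
    (by rw [hm, hmj]; exact Dvd.intro_left 2 rfl)
  have hKidx : K.index = 2 := by
    have h1 := Subgroup.card_mul_index K
    rw [hK, hm, hmj] at h1
    have hpos : 0 < 3 ^ j := pow_pos (by norm_num) j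
    have : 3 ^ j * K.index = 3 ^ j * 2 := by rw [h1]; ring
    exact Nat.eq_of_mul_eq_mul_left hpos this
  have hmemK : ∀ g : T, g ^ 3 = 1 → g ∈ K := by
    intro g hg
    have h1 := Subgroup.mul_self_mem_of_index_two hKidx (g * g)
    have h2 : g * g * (g * g) = g := by
      calc g * g * (g * g) = g ^ 3 * g := by
            rw [pow_succ, pow_two]; simp only [mul_assoc]
        _ = g := by rw [hg, one_mul]
    rwa [h2] at h1
  let K' : Subgroup G := K.map T.subtype
  have hK' : Nat.card K' = 3 ^ j := by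
    rw [Subgroup.card_map_of_injective T.subtype_injective, hK]
  have hpK : p ∈ K' := ⟨⟨p, hp⟩, hmemK _ (Subtype.ext hp3), rfl⟩
  have hqK : q ∈ K' := ⟨⟨q, hq⟩, hmemK _ (Subtype.ext hq3), rfl⟩
  have hK27 : Nat.card K' = 27 := by
    apply card_eq_27_of_noncomm K' _ p q hpK hqK hpq
    rw [hK', h27]
    exact pow_dvd_pow 3 hj
  have hT : Nat.card T = 54 := by
    rw [hm, hmj, ← hK', hK27]
  exact (Subgroup.card_eq_iff_eq_top T).mp (by rw [hT, hG])

/-! ### the statement -/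

theorem exists_gens {F : Type} [Field F] [Fintype F] (hF : Fintype.card F = 4) :
    ∃ x y z : ↥(commutator ↥(Cfsg.SU 3 F 2)), x ^ 2 = 1 ∧ y ^ 2 = 1 ∧ z ^ 2 = 1 ∧
      (x * y) ^ 3 = 1 ∧ (x * z) ^ 3 = 1 ∧ (y * z) ^ 3 = 1 ∧ (x * z * y * z) ^ 3 = 1 ∧
      Subgroup.closure {x, y, z} = ⊤ := by
  obtain ⟨ι⟩ := exists_iota hF
  -- transport of identities
  have key : ∀ s : SL4, s = 1 → Psi ι s = 1 := fun s h => by rw [h, map_one]
  let a := toSU ι hF aa4 U_aa4
  let xx := toSU ι hF xx4 U_xx4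
  let w := toSU ι hF W4 U_W4
  let u := toSU ι hF U4 U_U4
  let v := toSU ι hF V4 U_V4
  let y := toSU ι hF Y4 U_Y4
  let z := toSU ι hF Z4 U_Z4
  -- `w = a * a = ⁅a, xx⁆` lies in the derived subgroup
  have hwa : w = a * a := Subtype.ext (by
    show Psi ι W4 = Psi ι aa4 * Psi ι aa4
    rw [← map_mul]; rfl)
  have r4 : a * a * a * a = 1 := Subtype.ext (by
    show Psi ι aa4 * Psi ι aa4 * Psi ι aa4 * Psi ι aa4 = 1
    simp only [← map_mul]; rw [R4, map_one])
  have r5 : xx * xx = a * a := Subtype.ext (by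
    show Psi ι xx4 * Psi ι xx4 = Psi ι aa4 * Psi ι aa4
    simp only [← map_mul]; rw [R5])
  have r6 : a * xx * a = xx := Subtype.ext (by
    show Psi ι aa4 * Psi ι xx4 * Psi ι aa4 = Psi ι xx4
    simp only [← map_mul]; rw [R6])
  have hw : ⁅a, xx⁆ = a * a := by
    apply comm_eq_of_rel
    have h1 : a * a * xx = xx * (a * a) := by rw [← r5]; group
    calc a * xx = a * xx * a * a⁻¹ := by group
      _ = xx * a⁻¹ := by rw [r6]
      _ = xx * (a * a * a) := by
        congr 1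
        exact inv_eq_of_mul_eq_one_right (by rw [← r4]; group)
      _ = (xx * (a * a)) * a := by group
      _ = a * a * xx * a := by rw [← h1]
  have hwC : w ∈ commutator (Cfsg.SU 3 F 2) := by
    rw [hwa, ← hw]
    exact Subgroup.commutator_mem_commutator (Subgroup.mem_top a) (Subgroup.mem_top xx)
  -- the conjugates
  have hu3 : u * u * u = 1 := Subtype.ext (by
    show Psi ι U4 * Psi ι U4 * Psi ι U4 = 1
    simp only [← map_mul]; exact key _ tU)
  have hv3 : v * v * v = 1 := Subtype.ext (by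
    show Psi ι V4 * Psi ι V4 * Psi ι V4 = 1
    simp only [← map_mul]; exact key _ tV)
  have hy : y = (u * u) * w * (u * u)⁻¹ := by
    have h1 : (u * u)⁻¹ = u := inv_eq_of_mul_eq_one_right hu3
    rw [h1]
    exact Subtype.ext (by
      show Psi ι Y4 = Psi ι U4 * Psi ι U4 * Psi ι W4 * Psi ι U4
      simp only [← map_mul]; rfl)
  have hz : z = (v * v) * w * (v * v)⁻¹ := by
    have h1 : (v * v)⁻¹ = v := inv_eq_of_mul_eq_one_right hv3
    rw [h1]
    exact Subtype.ext (by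
      show Psi ι Z4 = Psi ι V4 * Psi ι V4 * Psi ι W4 * Psi ι V4
      simp only [← map_mul]; rfl)
  have hnorm : (commutator (Cfsg.SU 3 F 2)).Normal := by
    unfold commutator; infer_instance
  have hyC : y ∈ commutator (Cfsg.SU 3 F 2) := by
    rw [hy]; exact hnorm.conj_mem w hwC (u * u)
  have hzC : z ∈ commutator (Cfsg.SU 3 F 2) := by
    rw [hz]; exact hnorm.conj_mem w hwC (v * v)
  -- the relations in `SU₃(2)`
  have e1 : w * w = 1 := Subtype.ext (by
    show Psi ι W4 * Psi ι W4 = 1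
    simp only [← map_mul]; exact key _ t1)
  have e2 : y * y = 1 := Subtype.ext (by
    show Psi ι Y4 * Psi ι Y4 = 1
    simp only [← map_mul]; exact key _ t2)
  have e3 : z * z = 1 := Subtype.ext (by
    show Psi ι Z4 * Psi ι Z4 = 1
    simp only [← map_mul]; exact key _ t3)
  have e4 : (w * y) * (w * y) * (w * y) = 1 := Subtype.ext (by
    show (Psi ι W4 * Psi ι Y4) * (Psi ι W4 * Psi ι Y4) * (Psi ι W4 * Psi ι Y4) = 1
    simp only [← map_mul]; exact key _ t4)
  have e5 : (w * z) * (w * z) * (w * z) = 1 := Subtype.ext (by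
    show (Psi ι W4 * Psi ι Z4) * (Psi ι W4 * Psi ι Z4) * (Psi ι W4 * Psi ι Z4) = 1
    simp only [← map_mul]; exact key _ t5)
  have e6 : (y * z) * (y * z) * (y * z) = 1 := Subtype.ext (by
    show (Psi ι Y4 * Psi ι Z4) * (Psi ι Y4 * Psi ι Z4) * (Psi ι Y4 * Psi ι Z4) = 1
    simp only [← map_mul]; exact key _ t6)
  have e7 : (w * z * y * z) * (w * z * y * z) * (w * z * y * z) = 1 := Subtype.ext (by
    show (Psi ι W4 * Psi ι Z4 * Psi ι Y4 * Psi ι Z4) * (Psi ι W4 * Psi ι Z4 * Psi ι Y4 * Psi ι Z4)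
      * (Psi ι W4 * Psi ι Z4 * Psi ι Y4 * Psi ι Z4) = 1
    simp only [← map_mul]; exact key _ t7)
  have e8 : (w * y) * (w * z) ≠ (w * z) * (w * y) := by
    intro h
    have h1 := congrArg Subtype.val h
    have h2 : Psi ι ((W4 * Y4) * (W4 * Z4)) = Psi ι ((W4 * Z4) * (W4 * Y4)) := by
      simp only [map_mul]
      exact h1
    exact t8 (Psi_injective ι h2)
  have e9 : w ≠ 1 := by
    intro h
    have h1 := congrArg Subtype.val h
    have h2 : Psi ι W4 = Psi ι 1 := by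
      rw [map_one]
      exact h1
    exact t9 (Psi_injective ι h2)
  -- the elements of the derived subgroup
  obtain ⟨X, hX⟩ : ∃ X : ↥(commutator ↥(Cfsg.SU 3 F 2)), X = ⟨w, hwC⟩ := ⟨_, rfl⟩
  obtain ⟨Y, hY⟩ : ∃ Y : ↥(commutator ↥(Cfsg.SU 3 F 2)), Y = ⟨y, hyC⟩ := ⟨_, rfl⟩
  obtain ⟨Z, hZ⟩ : ∃ Z : ↥(commutator ↥(Cfsg.SU 3 F 2)), Z = ⟨z, hzC⟩ := ⟨_, rfl⟩
  have f1 : X * X = 1 := by rw [hX]; exact Subtype.ext e1
  have f2 : Y * Y = 1 := by rw [hY]; exact Subtype.ext e2
  have f3 : Z * Z = 1 := by rw [hZ]; exact Subtype.ext e3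
  have f4 : (X * Y) * (X * Y) * (X * Y) = 1 := by rw [hX, hY]; exact Subtype.ext e4
  have f5 : (X * Z) * (X * Z) * (X * Z) = 1 := by rw [hX, hZ]; exact Subtype.ext e5
  have f6 : (Y * Z) * (Y * Z) * (Y * Z) = 1 := by rw [hY, hZ]; exact Subtype.ext e6
  have f7 : (X * Z * Y * Z) * (X * Z * Y * Z) * (X * Z * Y * Z) = 1 := by
    rw [hX, hY, hZ]; exact Subtype.ext e7
  have f8 : (X * Y) * (X * Z) ≠ (X * Z) * (X * Y) := by
    rw [hX, hY, hZ]
    intro h; exact e8 (congrArg Subtype.val h)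
  have f9 : X ≠ 1 := by
    rw [hX]
    intro h; exact e9 (congrArg Subtype.val h)
  refine ⟨X, Y, Z, ?_, ?_, ?_, ?_, ?_, ?_, ?_, ?_⟩
  · rw [pow_two]; exact f1
  · rw [pow_two]; exact f2
  · rw [pow_two]; exact f3
  · rw [pow_three']; exact f4
  · rw [pow_three']; exact f5
  · rw [pow_three']; exact f6
  · rw [pow_three']; exact f7
  · have hsub : ({X, Y, Z} : Set ↥(commutator ↥(Cfsg.SU 3 F 2))) ⊆
        Subgroup.closure {X, Y, Z} := Subgroup.subset_closure
    have mw : X ∈ Subgroup.closure {X, Y, Z} := hsub (Set.mem_insert _ _)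
    have my : Y ∈ Subgroup.closure {X, Y, Z} :=
      hsub (Set.mem_insert_of_mem _ (Set.mem_insert _ _))
    have mz : Z ∈ Subgroup.closure {X, Y, Z} :=
      hsub (Set.mem_insert_of_mem _ (Set.mem_insert_of_mem _ (Set.mem_singleton _)))
    apply eq_top_of_card_54 (card_commutator_SU32 hF) _ X (X * Y) (X * Z) mw
    · rw [pow_two]; exact f1
    · exact f9
    · exact Subgroup.mul_mem _ mw my
    · exact Subgroup.mul_mem _ mw mz
    · rw [pow_three']; exact f4
    · rw [pow_three']; exact f5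
    · exact f8

end Cfsg.Agent.Lib.Helper70_TT_ISO54A
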