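import Mathlib
import Cfsg.Agent.Lib.Helper8_TC54

/-!
# S5559 package TT-ISO54B (architect helper92): two groups of order 54 generated by three
involutions with the `TC54` relations are isomorphic (both are the presented group `Helper8_TC54.G`)
-/

set_option autoImplicit false

namespace Cfsg.Agent.Lib.Helper70_TT_ISO54B

open Cfsg.Agent.Lib.Helper8_TC54

/-- a group of order 54 generated by three involutions with the `TC54` relations is isomorphic to
the presented group -/
theorem iso_G {K : Type*} [Group K] (hK : Nat.card K = 54) (x y z : K)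
    (hx : x ^ 2 = 1) (hy : y ^ 2 = 1) (hz : z ^ 2 = 1) (hxy : (x * y) ^ 3 = 1)
    (hxz : (x * z) ^ 3 = 1) (hyz : (y * z) ^ 3 = 1) (hxzyz : (x * z * y * z) ^ 3 = 1)
    (hgen : Subgroup.closure {x, y, z} = ⊤) : Nonempty (G ≃* K) := by
  have hr : ∀ r ∈ rels, FreeGroup.lift ![x, y, z] r = 1 := by
    intro r hr
    simp only [rels, Set.mem_insert_iff, Set.mem_singleton_iff] at hr
    rcases hr with rfl | rfl | rfl | rfl | rfl | rfl | rfl
    · simpa using hx
    · simpa using hy
    · simpa using hz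
    · simpa using hxy
    · simpa using hxz
    · simpa using hyz
    · simpa using hxzyz
  let φ : G →* K := PresentedGroup.toGroup hr
  have hφa : φ a = x := by simp [φ, a]
  have hφb : φ b = y := by simp [φ, b]
  have hφc : φ c = z := by simp [φ, c]
  have hrange : Subgroup.closure ({x, y, z} : Set K) ≤ φ.range := by
    rw [Subgroup.closure_le]
    intro g hg
    simp only [Set.mem_insert_iff, Set.mem_singleton_iff] at hg
    rcases hg with rfl | rfl | rfl
    · exact ⟨a, hφa⟩
    · exact ⟨b, hφb⟩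
    · exact ⟨c, hφc⟩
  have hsurj : Function.Surjective φ := by
    rw [← MonoidHom.range_eq_top]
    rw [hgen] at hrange
    exact top_le_iff.mp hrange
  have hcard : Nat.card G ≤ Nat.card K := by
    rw [hK]; exact cardG_le
  exact ⟨MulEquiv.ofBijective φ (hsurj.bijective_of_nat_card_le hcard)⟩

theorem iso_of_gens {K Y : Type*} [Group K] [Group Y] (hK : Nat.card K = 54)
    (hY : Nat.card Y = 54) (a b c : K) (ra : a ^ 2 = 1) (rb : b ^ 2 = 1) (rc : c ^ 2 = 1)
    (rab : (a * b) ^ 3 = 1) (rac : (a * c) ^ 3 = 1) (rbc : (b * c) ^ 3 = 1)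
    (racbc : (a * c * b * c) ^ 3 = 1) (hgen : Subgroup.closure {a, b, c} = ⊤)
    (x y z : Y) (rx : x ^ 2 = 1) (ry : y ^ 2 = 1) (rz : z ^ 2 = 1)
    (rxy : (x * y) ^ 3 = 1) (rxz : (x * z) ^ 3 = 1) (ryz : (y * z) ^ 3 = 1)
    (rxzyz : (x * z * y * z) ^ 3 = 1) (hgen' : Subgroup.closure {x, y, z} = ⊤) :
    Nonempty (K ≃* Y) := by
  obtain ⟨e1⟩ := iso_G hK a b c ra rb rc rab rac rbc racbc hgen
  obtain ⟨e2⟩ := iso_G hY x y z rx ry rz rxy rxz ryz rxzyz hgen'
  exact ⟨e1.symm.trans e2⟩

end Cfsg.Agent.Lib.Helper70_TT_ISO54B
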