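import Mathlib
import Cfsg.Agent.Lib.Helper32_OmegaTwoGenModel
import Cfsg.Agent.Lib.Helper43_TwoGen_MODEL_MINUS
import Cfsg.Agent.Lib.Helper86_TwoGen_CYC2
import Cfsg.Agent.Lib.Helper8_TwoGen_DEG
import Cfsg.Agent.Lib.Helper8_TwoGen_GEN
import Cfsg.Agent.Lib.Helper11_TwoGen_NT

/-!
# TWOGEN package `MODEL_ODD` (helper70, for helper32): the model for `Ω_{2k+1}(q)`, `q` odd

`M = K' × F` on top of helper43's tower library (`F ⊆ K₀ ⊆ K'`, degrees `k`, `2`):
`Q (x, t) = Tr_{K₀/F} (N_{K'/K₀} x) + t²`, `g = (λ₀ ·, 1)`, `c = γ` a generator of `Fˣ`,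
`z₀ = (x₀, 1)` with `Q_{K'} x₀ = -1`; `hcyc` from `CYC2` + `NT` + `GEN` + `DEG`.
-/

set_option autoImplicit false
set_option linter.unusedSectionVars false

namespace Cfsg.Agent.Lib.Helper70_TwoGen_MODEL_ODD

open Module Cfsg.Agent.Lib.Helper94_OrthSmall Cfsg.Agent.Lib.Helper32_OmegaTwoGen
  Cfsg.Agent.Lib.Helper32_OmegaTwoGenModel Cfsg.Agent.Lib.Helper43_TwoGen_MODEL_MINUS

universe u

section Abstract

variable {F : Type*} [Field F] [Finite F] {K₀ : Type*} [Field K₀] [Finite K₀] [Algebra F K₀]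
  {K' : Type*} [Field K'] [Finite K'] [Algebra K₀ K'] [Algebra F K'] [IsScalarTower F K₀ K']

variable (F K₀ K') in
/-- the quadratic form `Q_{K'} x + t²` on `K' × F` -/
noncomputable def qo (x : K' × F) : F := qf F K₀ K' x.1 + x.2 * x.2

variable (F K₀ K') in
/-- its polar form -/
noncomputable def bo : LinearMap.BilinForm F (K' × F) :=
  (bf F K₀ K').compl₁₂ (LinearMap.fst F K' F) (LinearMap.fst F K' F) +
    (2 : F) • (LinearMap.mul F F).compl₁₂ (LinearMap.snd F K' F) (LinearMap.snd F K' F)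

theorem bo_apply (x y : K' × F) :
    bo F K₀ K' x y = bf F K₀ K' x.1 y.1 + 2 * (x.2 * y.2) := rfl

theorem qo_add (h2 : Module.finrank K₀ K' = 2) (x y : K' × F) :
    qo F K₀ K' (x + y) = qo F K₀ K' x + qo F K₀ K' y + bo F K₀ K' x y := by
  unfold qo
  rw [bo_apply, Prod.fst_add, Prod.snd_add, qf_add h2]
  ring

theorem qo_smul (h2 : Module.finrank K₀ K' = 2) (c : F) (x : K' × F) :
    qo F K₀ K' (c • x) = c * c * qo F K₀ K' x := by
  unfold qo
  rw [Prod.smul_fst, Prod.smul_snd, qf_smul h2, smul_eq_mul]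
  ring

theorem bo_nondegenerate (hF2 : (2 : F) ≠ 0) : (bo F K₀ K').Nondegenerate := by
  obtain ⟨hl, hr⟩ := bf_nondegenerate (F := F) (K₀ := K₀) (K' := K')
  constructor
  · intro x hx
    have h1 : x.1 = 0 := hl x.1 (fun y => by
      have := hx (y, 0)
      rw [bo_apply] at this
      simpa using this)
    have h3 : x.2 = 0 := by
      have := hx (0, 1)
      rw [bo_apply] at this
      simp only [map_zero, mul_one, zero_add] at this
      exact (mul_eq_zero.mp this).resolve_left hF2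
    exact Prod.ext h1 h3
  · intro y hy
    have h1 : y.1 = 0 := hr y.1 (fun x => by
      have := hy (x, 0)
      rw [bo_apply] at this
      simpa using this)
    have h3 : y.2 = 0 := by
      have := hy (0, 1)
      rw [bo_apply] at this
      simp only [LinearMap.zero_apply, map_zero, one_mul, zero_add] at this
      exact (mul_eq_zero.mp this).resolve_left hF2
    exact Prod.ext h1 h3

variable (F) in
/-- the isometry `(λ₀ ·, 1)` -/
noncomputable def gO (u : K'ˣ) : (K' × F) ≃ₗ[F] (K' × F) :=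
  (mulAut F K' u).prodCongr (LinearEquiv.refl F F)

theorem gO_apply (u : K'ˣ) (x : K' × F) : gO F u x = ((u : K') * x.1, x.2) := rfl

theorem qo_gO (h2 : Module.finrank K₀ K' = 2) (u : K'ˣ) (hu : orderOf u = Nat.card K₀ + 1)
    (x : K' × F) : qo F K₀ K' (gO F u x) = qo F K₀ K' x := by
  unfold qo
  rw [gO_apply]
  have := qf_mulAut (F := F) h2 u hu x.1
  rw [mulAut_apply] at this
  rw [this]

theorem exists_minus_one : ∃ x₀ : K', qf F K₀ K' x₀ = -1 := by
  obtain ⟨w, hw⟩ := Algebra.trace_surjective F K₀ (-1)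
  obtain ⟨x₀, hx₀⟩ := FiniteField.norm_surjective K₀ K' w
  exact ⟨x₀, by unfold qf; rw [hx₀, hw]⟩


theorem le_two_mul_div_gcd (m d : ℕ) (hd : Nat.gcd m d ≤ 2) : m ≤ 2 * (m / Nat.gcd m d) := by
  have hd1 : Nat.gcd m d ∣ m := Nat.gcd_dvd_left _ _
  calc m = m / Nat.gcd m d * Nat.gcd m d := (Nat.div_mul_cancel hd1).symm
    _ ≤ m / Nat.gcd m d * 2 := Nat.mul_le_mul_left _ hd
    _ = 2 * (m / Nat.gcd m d) := mul_comm _ _

theorem two_dvd_card_sub_one (hF2 : (2 : F) ≠ 0) : 2 ∣ Nat.card F - 1 := by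
  have h1 : orderOf (-1 : Fˣ) = 2 := by
    have : Fact (Nat.Prime 2) := ⟨Nat.prime_two⟩
    apply orderOf_eq_prime
    · simp
    · intro h
      have h3 : ((-1 : Fˣ) : F) = ((1 : Fˣ) : F) := congrArg Units.val h
      rw [Units.val_neg, Units.val_one] at h3
      apply hF2
      have : (2 : F) = 1 - (-1) := by ring
      rw [this, h3, sub_self]
  rw [← Nat.card_units, ← h1]
  exact orderOf_dvd_natCard _

theorem cyc_odd (h2 : Module.finrank K₀ K' = 2) (hF2 : (2 : F) ≠ 0) (k : ℕ)
    (hcardK₀ : Nat.card K₀ = Nat.card F ^ k) (hQ4 : 4 ≤ Nat.card K₀)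
    (u : K'ˣ) (hu : orderOf u = Nat.card K₀ + 1) (γ : Fˣ) (hγ : orderOf γ = Nat.card F - 1)
    (x₀ : K') (hx₀ : x₀ ≠ 0) (A : AddSubgroup (K' × F)) (hzA : (x₀, (1 : F)) ∈ A)
    (hA : ∀ ζ ∈ A, ((γ : F) * γ) • gO F u (gO F u ζ) ∈ A) : A = ⊤ := by
  classical
  have := Fintype.ofFinite K'
  have := Fintype.ofFinite F
  obtain ⟨p, hp⟩ := CharP.exists F
  have : Fact p.Prime := ⟨CharP.char_is_prime F p⟩
  have : CharP K' p := charP_of_injective_algebraMap (algebraMap F K').injective p
  let _ : Algebra (ZMod p) F := ZMod.algebra F p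
  let _ : Algebra (ZMod p) K' := ZMod.algebra K' p
  obtain ⟨n, hn⟩ := two_dvd_card_sub_one hF2
  have hq2 : 2 ≤ Nat.card F := Finite.one_lt_card
  have hn0 : n ≠ 0 := by rintro rfl; omega
  have hk0 : k ≠ 0 := by
    rintro rfl
    rw [pow_zero] at hcardK₀
    omega
  have hqQ : Nat.card F ≤ Nat.card K₀ := by
    rw [hcardK₀]
    calc Nat.card F = Nat.card F ^ 1 := (pow_one _).symm
      _ ≤ Nat.card F ^ k := Nat.pow_le_pow_right (by omega) (by omega)
  -- the second factor
  have h₂ : ∀ L : Subfield F, (γ : F) * γ ∈ L → L = ⊤ := by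
    intro L hL
    apply Cfsg.Agent.Lib.Helper8_TwoGen_GEN.GEN ((γ : F) * γ) ?_ L hL
    have h1 : orderOf ((γ : F) * γ) = orderOf (γ ^ 2) := by
      rw [← sq, ← Units.val_pow_eq_pow_val, orderOf_units]
    rw [h1, orderOf_pow' γ two_ne_zero, hγ, ← Nat.card_eq_fintype_card]
    exact le_two_mul_div_gcd _ _ (Nat.le_of_dvd two_pos (Nat.gcd_dvd_right _ _))
  -- the first factor
  have h₁ : ∀ L : Subfield K', algebraMap F K' ((γ : F) * γ) * ((u : K') * u) ∈ L → L = ⊤ := by
    intro L hL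
    have hxL : (u : K') ^ (Nat.card F - 1) ∈ L := by
      have h3 : (algebraMap F K' ((γ : F) * γ) * ((u : K') * u)) ^ n
          = (u : K') ^ (Nat.card F - 1) := by
        have h4 : ((γ : F) * γ) ^ n = 1 := by
          rw [← sq, ← pow_mul, ← hn, ← hγ, ← Units.val_pow_eq_pow_val, pow_orderOf_eq_one,
            Units.val_one]
        rw [mul_pow, ← map_pow, h4, map_one, one_mul, ← sq, ← pow_mul, ← hn]
      rw [← h3]
      exact pow_mem hL n
    apply Cfsg.Agent.Lib.Helper11_TwoGen_NT.NT (Nat.card K₀) hQ4 ?_ _ ?_ ?_ L hxL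
    · rw [← Nat.card_eq_fintype_card, card_sq h2]
    · rw [← pow_mul, mul_comm, pow_mul, ← hu, ← Units.val_pow_eq_pow_val, pow_orderOf_eq_one,
        Units.val_one, one_pow]
    · have h1 : orderOf ((u : K') ^ (Nat.card F - 1)) = orderOf (u ^ (Nat.card F - 1)) := by
        rw [← Units.val_pow_eq_pow_val, orderOf_units]
      rw [h1, orderOf_pow' u (by omega), hu]
      apply le_two_mul_div_gcd
      have hd1 : Nat.gcd (Nat.card K₀ + 1) (Nat.card F - 1) ∣ Nat.card K₀ + 1 :=
        Nat.gcd_dvd_left _ _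
      have hd2 : Nat.gcd (Nat.card K₀ + 1) (Nat.card F - 1) ∣ Nat.card K₀ - 1 := by
        refine (Nat.gcd_dvd_right _ _).trans ?_
        have := Nat.sub_dvd_pow_sub_pow (Nat.card F) 1 k
        rwa [one_pow, ← hcardK₀] at this
      have hd3 : Nat.gcd (Nat.card K₀ + 1) (Nat.card F - 1) ∣ 2 := by
        have := Nat.dvd_sub hd1 hd2
        have e : Nat.card K₀ + 1 - (Nat.card K₀ - 1) = 2 := by omega
        rwa [e] at this
      exact Nat.le_of_dvd two_pos hd3
  -- distinct minimal polynomials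
  have hne : minpoly (ZMod p) (algebraMap F K' ((γ : F) * γ) * ((u : K') * u))
      ≠ minpoly (ZMod p) ((γ : F) * γ) := by
    intro heq
    have d1 := Cfsg.Agent.Lib.Helper8_TwoGen_DEG.DEG p _ h₁
    have d2 := Cfsg.Agent.Lib.Helper8_TwoGen_DEG.DEG p _ h₂
    rw [heq] at d1
    have d3 : Module.finrank (ZMod p) K' = Module.finrank (ZMod p) F := d1.symm.trans d2
    have c1 := Module.natCard_eq_pow_finrank (K := ZMod p) (V := K')
    have c2 := Module.natCard_eq_pow_finrank (K := ZMod p) (V := F)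
    rw [d3, ← c2, card_sq h2] at c1
    nlinarith
  apply Cfsg.Agent.Lib.Helper86_TwoGen_CYC2.CYC2 p _ _ h₁ h₂ hne A (x₀, 1) hzA hx₀ one_ne_zero
  intro x hx
  have := hA x hx
  rw [gO_apply, gO_apply, Prod.smul_mk, Algebra.smul_def, smul_eq_mul] at this
  convert this using 2
  ring

end Abstract

/-- the model over an abstract tower `F ⊆ K₀ ⊆ K'` of degrees `k` and `2` -/
theorem exists_model_odd {F : Type u} [Field F] [Fintype F] (hF2 : (2 : F) ≠ 0)
    {K₀ : Type*} [Field K₀] [Finite K₀]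
    [Algebra F K₀] {K' : Type} [Field K'] [Finite K'] [Algebra K₀ K'] [Algebra F K']
    [IsScalarTower F K₀ K'] (k : ℕ) (hk : 2 ≤ k) (hk0 : Module.finrank F K₀ = k)
    (h2 : Module.finrank K₀ K' = 2) :
    ∃ X : Model.{u, u} F, Module.finrank F X.M = 2 * k + 1 := by
  classical
  obtain ⟨u, hu⟩ := exists_unit (K₀ := K₀) (K' := K') h2
  obtain ⟨γ, hγ⟩ := IsCyclic.exists_ofOrder_eq_natCard (α := Fˣ)
  rw [Nat.card_units] at hγ
  obtain ⟨x₀, hx₀Q⟩ := exists_minus_one (F := F) (K₀ := K₀) (K' := K')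
  have hx₀ : x₀ ≠ 0 := by
    rintro rfl
    have h0 : qf F K₀ K' (0 : K') = 0 := by
      unfold qf
      rw [Algebra.norm_zero, map_zero]
    rw [h0] at hx₀Q
    exact one_ne_zero (neg_eq_zero.mp hx₀Q.symm)
  have hcardK₀ : Nat.card K₀ = Nat.card F ^ k := by
    rw [Module.natCard_eq_pow_finrank (K := F) (V := K₀), hk0]
  have hq : 2 ≤ Nat.card F := Finite.one_lt_card
  have hQ4 : 4 ≤ Nat.card K₀ := by
    rw [hcardK₀]
    calc 4 = 2 ^ 2 := by norm_num
      _ ≤ Nat.card F ^ 2 := Nat.pow_le_pow_left hq 2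
      _ ≤ Nat.card F ^ k := Nat.pow_le_pow_right (by omega) hk
  refine ⟨{ M := K' × F
            Q := qo F K₀ K'
            B := bo F K₀ K'
            hQs := qo_smul h2
            hQp := qo_add h2
            hN := bo_nondegenerate hF2
            g := gO F u
            hg := fun x => qo_gO h2 u hu x
            c := (γ : F)
            hc := γ.ne_zero
            z₀ := (x₀, 1)
            hz₀ := by
              unfold qo
              rw [hx₀Q]
              ring
            hz₀0 := fun h => one_ne_zero (congrArg Prod.snd h)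
            hcyc := fun A hzA hA =>
              cyc_odd h2 hF2 k hcardK₀ hQ4 u hu γ hγ x₀ hx₀ A hzA hA }, ?_⟩
  show Module.finrank F (K' × F) = 2 * k + 1
  rw [Module.finrank_prod, Module.finrank_self, ← Module.finrank_mul_finrank F K₀ K', hk0, h2,
    mul_comm]

/-- **MODEL_ODD**. -/
theorem MODEL_ODD {F : Type u} [Field F] [Fintype F] (h2 : (2 : F) ≠ 0) (k : ℕ) (hk : 2 ≤ k) :
    ∃ X : Model.{u, u} F, Module.finrank F X.M = 2 * k + 1 := by
  obtain ⟨p, hp⟩ := CharP.exists F
  have : Fact p.Prime := ⟨CharP.char_is_prime F p⟩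
  have : NeZero k := ⟨by omega⟩
  have : CharP (FiniteField.Extension F p k) p :=
    charP_of_injective_algebraMap (algebraMap F (FiniteField.Extension F p k)).injective p
  let : Algebra F (FiniteField.Extension (FiniteField.Extension F p k) p 2) :=
    ((algebraMap (FiniteField.Extension F p k)
      (FiniteField.Extension (FiniteField.Extension F p k) p 2)).comp
      (algebraMap F (FiniteField.Extension F p k))).toAlgebra
  have : IsScalarTower F (FiniteField.Extension F p k)
      (FiniteField.Extension (FiniteField.Extension F p k) p 2) :=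
    IsScalarTower.of_algebraMap_eq (fun x => rfl)
  exact exists_model_odd h2 (K₀ := FiniteField.Extension F p k)
    (K' := FiniteField.Extension (FiniteField.Extension F p k) p 2) k hk
    (FiniteField.finrank_extension F p k)
    (FiniteField.finrank_extension (FiniteField.Extension F p k) p 2)

end Cfsg.Agent.Lib.Helper70_TwoGen_MODEL_ODD
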