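import Mathlib
import Cfsg.Agent.Lib.Helper63_Miller
import Cfsg.Agent.Lib.Helper20_PGroupOdd
import Cfsg.Agent.Lib.Helper4_CyclicNormal
import Cfsg.Agent.Lib.Helper20_Suzuki
import Cfsg.Agent.Lib.Helper70_Wielandt

set_option autoImplicit false

namespace Cfsg.Agent.Lib.Helper70_TwoGroupCount

open Subgroup Cfsg.Agent.Lib.Helper20_PGroupOdd Cfsg.Agent.Lib.Helper63_Miller
  Cfsg.Agent.Lib.Helper4_NormalFour Cfsg.Agent.Lib.Helper4_CyclicNormal
  Cfsg.Agent.Lib.Helper70_Wielandt

universe u

section Miller2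
variable {R : Type*} [Group R] {z h : R}

theorem good_z_sq (hg : Good 2 (⊤ : Subgroup R) z h) : z ^ 2 = 1 := hg.z_pow

theorem sq_eq_one_of_mem_zpowers (hg : Good 2 (⊤ : Subgroup R) z h) {c : R} (hc : c ∈ zpowers z) :
    c ^ 2 = 1 := by
  obtain ⟨i, rfl⟩ := mem_zpowers_iff.mp hc
  rw [← zpow_natCast, ← zpow_mul, mul_comm, zpow_mul, zpow_natCast, good_z_sq hg, one_zpow]

/-- `(x * u) ^ 2 = c * x ^ 2` with `c ∈ ⟨z⟩` central. -/
theorem good_mul_sq (hg : Good 2 (⊤ : Subgroup R) z h) {u : R} (hu : u ∈ hg.B) (x : R) :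
    ∃ c ∈ zpowers z, (x * u) ^ 2 = c * x ^ 2 := by
  refine ⟨u * x * u⁻¹ * x⁻¹, good_comm_mem hg hu x, ?_⟩
  have hc := good_comm_mem hg hu x
  have hcc : u * x * u⁻¹ * x⁻¹ ∈ center R := (zpowers_le.mpr hg.2.2.1) hc
  have hu2 : u ^ 2 = 1 := hg.B_exp u hu
  have huu : u * u = 1 := by rw [← pow_two]; exact hu2
  have h1 : u * x = (u * x * u⁻¹ * x⁻¹) * x * u := by group
  have c1 : (u * x * u⁻¹ * x⁻¹) * x = x * (u * x * u⁻¹ * x⁻¹) := (mem_center_iff.mp hcc x).symm
  calc (x * u) ^ 2 = x * (u * x) * u := by rw [pow_two]; group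
    _ = x * ((u * x * u⁻¹ * x⁻¹) * x * u) * u := by rw [← h1]
    _ = (x * (u * x * u⁻¹ * x⁻¹)) * x * (u * u) := by simp only [mul_assoc]
    _ = (u * x * u⁻¹ * x⁻¹) * x ^ 2 := by rw [← c1, huu, mul_one, pow_two, mul_assoc]

theorem good_mul_pow_four (hg : Good 2 (⊤ : Subgroup R) z h) {u : R} (hu : u ∈ hg.B) (x : R) :
    (x * u) ^ 4 = x ^ 4 := by
  obtain ⟨c, hc, hsq⟩ := good_mul_sq hg hu x
  have hcc : c ∈ center R := (zpowers_le.mpr hg.2.2.1) hc
  have hc2 : c ^ 2 = 1 := sq_eq_one_of_mem_zpowers hg hc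
  have hcomm : Commute c (x ^ 2) := (mem_center_iff.mp hcc (x ^ 2)).symm
  calc (x * u) ^ 4 = ((x * u) ^ 2) ^ 2 := by rw [← pow_mul]
    _ = (c * x ^ 2) ^ 2 := by rw [hsq]
    _ = c ^ 2 * (x ^ 2) ^ 2 := hcomm.mul_pow 2
    _ = x ^ 4 := by rw [hc2, one_mul, ← pow_mul]

/-- Key step for `p = 2`. -/
theorem good_key_two [Finite R] (hg : Good 2 (⊤ : Subgroup R) z h) {r : ℕ} {x : R}
    (hx : orderOf x = 2 ^ (r + 3)) {m : R} (hm : m ∈ zpowers (x ^ 2) ⊔ hg.B) :
    orderOf (x * m) = 2 ^ (r + 3) ∧
      zpowers ((x * m) ^ 2) ⊔ hg.B = zpowers (x ^ 2) ⊔ hg.B := by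
  have hBn : hg.B.Normal := hg.B_normal
  obtain ⟨a, ha, u, hu, rfl⟩ := mem_sup_of_normal_right.mp hm
  rw [← mem_powers_iff_mem_zpowers, Submonoid.mem_powers_iff] at ha
  obtain ⟨k, rfl⟩ := ha
  have hxk : x * ((x ^ 2) ^ k * u) = x ^ (1 + 2 * k) * u := by
    rw [← mul_assoc, ← pow_mul, ← pow_succ']
    congr 2
    ring
  rw [hxk]
  have hx2 : orderOf (x ^ 2) = 2 ^ (r + 2) := by
    rw [orderOf_pow_of_dvd (by norm_num) (by rw [hx]; exact dvd_pow_self 2 (by omega)), hx,
      pow_succ, Nat.mul_div_cancel _ (by norm_num)]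
  have e4 : (x ^ (1 + 2 * k) * u) ^ 4 = x ^ (4 * (1 + 2 * k)) := by
    rw [good_mul_pow_four hg hu, ← pow_mul, mul_comm]
  obtain ⟨c, hc, hsq⟩ := good_mul_sq hg hu (x ^ (1 + 2 * k))
  have hsq' : (x ^ (1 + 2 * k) * u) ^ 2 = c * (x ^ 2) ^ (1 + 2 * k) := by
    rw [hsq, ← pow_mul, ← pow_mul, mul_comm 2 (1 + 2 * k)]
  constructor
  · apply orderOf_eq_prime_pow
    · intro h1
      have e5 : (x ^ (1 + 2 * k) * u) ^ 2 ^ (r + 2) = x ^ (2 ^ (r + 2) * (1 + 2 * k)) := by
        have : 2 ^ (r + 2) = 4 * 2 ^ r := by rw [pow_add]; ring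
        rw [this, pow_mul, e4, ← pow_mul]
        congr 1
        ring
      rw [e5] at h1
      have h2 := orderOf_dvd_of_pow_eq_one h1
      rw [hx, pow_succ] at h2
      have h3 : 2 ∣ 1 + 2 * k := Nat.dvd_of_mul_dvd_mul_left (by positivity) h2
      omega
    · have : 2 ^ (r + 2 + 1) = 4 * 2 ^ (r + 1) := by rw [pow_add, pow_add]; ring
      rw [show r + 3 = r + 2 + 1 from rfl, this, pow_mul, e4, ← pow_mul]
      have : 4 * (1 + 2 * k) * 2 ^ (r + 1) = 2 ^ (r + 3) * (1 + 2 * k) := by
        rw [pow_add, pow_add]; ring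
      rw [this, pow_mul, ← hx, pow_orderOf_eq_one, one_pow]
  · have hcB : c ∈ hg.B := hg.zpowers_le_B hc
    have hcop : (orderOf (x ^ 2)).Coprime (1 + 2 * k) := by
      rw [hx2]
      apply Nat.Coprime.pow_left
      rw [Nat.coprime_add_mul_left_right]
      exact Nat.coprime_one_right 2
    have hz : zpowers ((x ^ 2) ^ (1 + 2 * k)) = zpowers (x ^ 2) := by
      apply Subgroup.eq_of_le_of_card_ge
      · exact zpowers_le.2 (pow_mem (mem_zpowers _) _)
      · rw [Nat.card_zpowers, Nat.card_zpowers, hcop.orderOf_pow]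
    apply le_antisymm
    · apply sup_le _ le_sup_right
      rw [zpowers_le, hsq']
      exact mul_mem (le_sup_right (a := zpowers (x ^ 2)) hcB)
        (le_sup_left (b := hg.B) (pow_mem (mem_zpowers _) _))
    · apply sup_le _ le_sup_right
      rw [← hz, zpowers_le]
      have : (x ^ 2) ^ (1 + 2 * k) = c⁻¹ * (x ^ (1 + 2 * k) * u) ^ 2 := by
        rw [hsq', inv_mul_cancel_left]
      rw [this]
      exact mul_mem (le_sup_right (a := zpowers ((x ^ (1 + 2 * k) * u) ^ 2)) (inv_mem hcB))
        (le_sup_left (b := hg.B) (mem_zpowers _))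

/-- **Miller's theorem for `p = 2`**: in a finite `2`-group with a normal four-group, the number
of elements of order `2 ^ s`, `3 ≤ s`, is divisible by `2 ^ s`. -/
theorem miller_two [Finite R] (hR : IsPGroup 2 R) (hg : Good 2 (⊤ : Subgroup R) z h) {s : ℕ}
    (hs : 3 ≤ s) : 2 ^ s ∣ Nat.card {x : R // orderOf x = 2 ^ s} := by
  classical
  have : Fact (Nat.Prime 2) := ⟨Nat.prime_two⟩
  obtain ⟨r, rfl⟩ : ∃ r, s = r + 3 := ⟨s - 3, by omega⟩
  let _ : Fintype (Subgroup R) := Fintype.ofFinite _
  let f : {x : R // orderOf x = 2 ^ (r + 3)} → Subgroup R := fun x => zpowers (x.1 ^ 2) ⊔ hg.B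
  rw [Nat.card_congr (Equiv.sigmaFiberEquiv f).symm, Nat.card_sigma]
  apply Finset.dvd_sum
  intro M _
  by_cases hne : Nonempty {x // f x = M}
  swap
  · rw [not_nonempty_iff] at hne
    rw [Nat.card_of_isEmpty]
    exact dvd_zero _
  obtain ⟨⟨⟨x₀, hx₀⟩, hM⟩⟩ := hne
  set F : Set R := {x | orderOf x = 2 ^ (r + 3) ∧ zpowers (x ^ 2) ⊔ hg.B = M} with hF
  have e : {x // f x = M} ≃ F :=
    Equiv.subtypeSubtypeEquivSubtypeInter (fun x : R => orderOf x = 2 ^ (r + 3))
      (fun x : R => zpowers (x ^ 2) ⊔ hg.B = M)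
  have hsat : F = QuotientGroup.mk ⁻¹' ((QuotientGroup.mk : R → R ⧸ M) '' F) := by
    apply Set.Subset.antisymm (Set.subset_preimage_image _ _)
    rintro y ⟨x, ⟨hx1, hx2⟩, hxy⟩
    have hmem : x⁻¹ * y ∈ M := QuotientGroup.eq.1 hxy
    rw [← hx2] at hmem
    obtain ⟨h1, h2⟩ := good_key_two hg hx1 hmem
    rw [mul_inv_cancel_left] at h1 h2
    exact ⟨h1, by rw [h2, hx2]⟩
  rw [Nat.card_congr e, hsat,
    Nat.card_congr (QuotientGroup.preimageMkEquivSubgroupProdSet M _), Nat.card_prod]
  apply Dvd.dvd.mul_right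
  have hM' : zpowers (x₀ ^ 2) ⊔ hg.B = M := hM
  rw [← hM']
  exact good_card_dvd (p := 2) (r := r + 1) hR hg hx₀

end Miller2


/-- an involution on a finite type: the cardinality is congruent mod 2 to the number of fixed
points. -/
theorem card_modEq_card_fixed {X : Type*} [Finite X] (σ : X → X) (hσ : ∀ x, σ (σ x) = x) :
    Nat.card X ≡ Nat.card {x : X // σ x = x} [MOD 2] := by
  classical
  let _ : Fintype X := Fintype.ofFinite X
  have : Fact (Nat.Prime 2) := ⟨Nat.prime_two⟩
  let f : Function.End X := σ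
  have hf : f ^ 2 ^ 1 = 1 := by
    rw [pow_one, pow_two]
    funext x
    exact hσ x
  have h := Equiv.Perm.card_fixedPoints_modEq (α := X) (f := f) (p := 2) (n := 1) hf
  rw [← Nat.card_eq_fintype_card, ← Nat.card_eq_fintype_card] at h
  exact h

theorem mem_zpowers_invol {G : Type*} [Group G] {z x : G} (hz : z ^ 2 = 1) :
    x ∈ Subgroup.zpowers z ↔ x = 1 ∨ x = z := by
  constructor
  · intro hx
    obtain ⟨k, rfl⟩ := Subgroup.mem_zpowers_iff.mp hx
    rcases Int.even_or_odd' k with ⟨m, rfl | rfl⟩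
    · left
      rw [zpow_mul, zpow_ofNat, hz, one_zpow]
    · right
      rw [zpow_add, zpow_mul, zpow_ofNat, hz, one_zpow, one_mul, zpow_one]
  · rintro (rfl | rfl)
    · exact one_mem _
    · exact Subgroup.mem_zpowers _

/-- counting mod 4 with a central involution `z` and an involutive map `σ` compatible with
multiplication by `z`. -/
theorem card_modEq_four {G : Type*} [Group G] [Finite G] (z : G) (hz2 : z ^ 2 = 1) (hz1 : z ≠ 1)
    (σ : G → G) (hσ2 : ∀ x, σ (σ x) = x) (hσz : ∀ x, σ (x * z) = σ x * z)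
    (M : Set G) (hMz : ∀ x ∈ M, x * z ∈ M) (hMσ : ∀ x ∈ M, σ x ∈ M) :
    Nat.card M ≡ Nat.card {x : G // x ∈ M ∧ (σ x = x ∨ σ x = x * z)} [MOD 4] := by
  classical
  set Z0 : Subgroup G := Subgroup.zpowers z with hZ0
  have hZ0card : Nat.card Z0 = 2 := by
    rw [Nat.card_zpowers]; exact orderOf_eq_prime hz2 hz1
  have hzz : z * z = 1 := by rw [← pow_two]; exact hz2
  -- invariance gives factor 2
  have hfac : ∀ N : Set G, (∀ x ∈ N, x * z ∈ N) →
      Nat.card N = 2 * Nat.card ((QuotientGroup.mk : G → G ⧸ Z0) '' N) := by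
    intro N hN
    have hle : Z0 ≤ rstab N := by
      apply le_rstab_of
      intro x hx k hk
      rcases (mem_zpowers_invol hz2).1 hk with rfl | rfl
      · rwa [mul_one]
      · exact hN x hx
    rw [card_eq_of_le_rstab hle, hZ0card]
  set N : Set G := {x | x ∈ M ∧ (σ x = x ∨ σ x = x * z)} with hN
  have hNz : ∀ x ∈ N, x * z ∈ N := by
    rintro x ⟨hxM, hx⟩
    refine ⟨hMz x hxM, ?_⟩
    rw [hσz]
    rcases hx with hx | hx
    · left; rw [hx]
    · right; rw [hx]
  have h1 := hfac M hMz
  have h2 := hfac N hNz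
  -- the induced involution on the quotient
  have hwd : ∀ a b : G, (QuotientGroup.mk a : G ⧸ Z0) = QuotientGroup.mk b →
      (QuotientGroup.mk (σ a) : G ⧸ Z0) = QuotientGroup.mk (σ b) := by
    intro a b hab
    rw [QuotientGroup.eq] at hab ⊢
    rcases (mem_zpowers_invol hz2).1 hab with h | h
    · have : b = a := by
        have := congrArg (fun t => a * t) h
        simpa using this
      rw [this, inv_mul_cancel]
      exact one_mem _
    · have : b = a * z := by
        have := congrArg (fun t => a * t) h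
        simpa using this
      rw [this, hσz, inv_mul_cancel_left]
      exact Subgroup.mem_zpowers z
  let X := {q : G ⧸ Z0 // q ∈ (QuotientGroup.mk : G → G ⧸ Z0) '' M}
  have hXmem : ∀ q : X, (QuotientGroup.mk (σ (Quotient.out q.1)) : G ⧸ Z0) ∈
      (QuotientGroup.mk : G → G ⧸ Z0) '' M := by
    intro q
    obtain ⟨x, hx, hxq⟩ := q.2
    refine ⟨σ x, hMσ x hx, ?_⟩
    apply hwd
    rw [hxq]
    exact (QuotientGroup.out_eq' q.1).symm
  let σbar : X → X := fun q => ⟨QuotientGroup.mk (σ (Quotient.out q.1)), hXmem q⟩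
  have hσbar : ∀ (q : X) (x : G), (QuotientGroup.mk x : G ⧸ Z0) = q.1 →
      (σbar q).1 = QuotientGroup.mk (σ x) := by
    intro q x hx
    show (QuotientGroup.mk (σ (Quotient.out q.1)) : G ⧸ Z0) = QuotientGroup.mk (σ x)
    apply hwd
    rw [hx]
    exact QuotientGroup.out_eq' q.1
  have hinv : ∀ q : X, σbar (σbar q) = q := by
    intro q
    apply Subtype.ext
    have e1 := hσbar q (Quotient.out q.1) (QuotientGroup.out_eq' q.1)
    have e2 := hσbar (σbar q) (σ (Quotient.out q.1)) e1.symm
    rw [e2, hσ2]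
    exact QuotientGroup.out_eq' q.1
  have h3 := card_modEq_card_fixed σbar hinv
  -- fixed points = image of N
  have h4 : Nat.card {q : X // σbar q = q} =
      Nat.card ((QuotientGroup.mk : G → G ⧸ Z0) '' N) := by
    refine Nat.card_congr
      { toFun := fun q => ⟨q.1.1, by
          obtain ⟨x, hx, hxq⟩ := q.1.2
          refine ⟨x, ⟨hx, ?_⟩, hxq⟩
          have e1 := hσbar q.1 x hxq
          have e2 : (σbar q.1).1 = q.1.1 := congrArg Subtype.val q.2
          rw [e2, ← hxq, QuotientGroup.eq] at e1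
          rcases (mem_zpowers_invol hz2).1 e1 with h | h
          · left
            have := congrArg (fun t => x * t) h
            simpa using this
          · right
            have := congrArg (fun t => x * t) h
            simpa using this⟩
        invFun := fun q => ⟨⟨q.1, by
            obtain ⟨x, hx, hxq⟩ := q.2
            exact ⟨x, hx.1, hxq⟩⟩, by
          obtain ⟨x, hx, hxq⟩ := q.2
          apply Subtype.ext
          have e1 := hσbar ⟨q.1, ⟨x, hx.1, hxq⟩⟩ x hxq
          rw [e1]
          show (QuotientGroup.mk (σ x) : G ⧸ Z0) = q.1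
          rw [← hxq, QuotientGroup.eq]
          rcases hx.2 with h | h
          · rw [h, inv_mul_cancel]; exact one_mem _
          · rw [h, mul_inv_rev, inv_mul_cancel_right]
            exact Subgroup.inv_mem _ (Subgroup.mem_zpowers z)⟩
        left_inv := fun q => rfl
        right_inv := fun q => rfl }
  rw [h4] at h3
  have h5 : Nat.card {x : G // x ∈ M ∧ (σ x = x ∨ σ x = x * z)} = Nat.card N := rfl
  rw [h5, h1, h2]
  have : (2 * 2 : ℕ) = 4 := rfl
  rw [← this]
  exact Nat.ModEq.mul_left' 2 h3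


section Existence
variable {S : Type u} [Group S]

/-- an element whose centralizer has at most four elements forces maximal class (Suzuki). -/
theorem maxClass_of_small_centralizer [Finite S] (hS : IsPGroup 2 S) {m : ℕ}
    (hcard : Nat.card S = 2 ^ m) (y z u v : S) (hz2 : z ^ 2 = 1) (hz1 : z ≠ 1)
    (hzy : z * y = y * z) (hyz : y ∉ Subgroup.zpowers z)
    (hC : ∀ g : S, g * y = y * g → g = 1 ∨ g = z ∨ g = u ∨ g = v) :
    Group.nilpotencyClass S = m - 1 := by
  classical
  have : Fact (Nat.Prime 2) := ⟨Nat.prime_two⟩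
  have hCle : ((Subgroup.centralizer ({y} : Set S) : Subgroup S) : Set S) ⊆
      (({1, z, u, v} : Finset S) : Set S) := by
    intro g hg
    have hg' : g * y = y * g := by
      have := Subgroup.mem_centralizer_iff.1 hg y (Set.mem_singleton y)
      exact this.symm
    rcases hC g hg' with h1 | h1 | h1 | h1 <;> simp [h1]
  have hcard4 : Nat.card (Subgroup.centralizer ({y} : Set S)) ≤ 4 := by
    have h1 := Nat.card_mono (Finset.finite_toSet _) hCle
    have h2 : Nat.card ((({1, z, u, v} : Finset S) : Set S)) ≤ 4 := by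
      rw [Nat.card_coe_set_eq, Set.ncard_coe_finset]
      exact Finset.card_le_four
    exact h1.trans h2
  have hzC : Subgroup.zpowers z ≤ Subgroup.centralizer ({y} : Set S) := by
    rw [Subgroup.zpowers_le, Subgroup.mem_centralizer_iff]
    intro w hw
    rw [Set.mem_singleton_iff] at hw
    rw [hw]
    exact hzy.symm
  have hyC : y ∈ Subgroup.centralizer ({y} : Set S) := by
    rw [Subgroup.mem_centralizer_iff]
    intro w hw
    rw [Set.mem_singleton_iff] at hw
    rw [hw]
  have hcardz : Nat.card (Subgroup.zpowers z) = 2 := by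
    rw [Nat.card_zpowers]
    exact orderOf_eq_prime hz2 hz1
  have hgt2 : 2 < Nat.card (Subgroup.centralizer ({y} : Set S)) := by
    by_contra hle
    push Not at hle
    have := Subgroup.eq_of_le_of_card_ge hzC (by rw [hcardz]; exact hle)
    apply hyz
    rw [this]; exact hyC
  obtain ⟨e, he⟩ := (hS.to_subgroup (Subgroup.centralizer ({y} : Set S))).exists_card_eq
  have he2 : e = 2 := by
    rw [he] at hcard4 hgt2
    have h1 : e ≤ 2 := by
      by_contra hcon
      push Not at hcon
      have : 2 ^ 3 ≤ 2 ^ e := Nat.pow_le_pow_right (by norm_num) hcon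
      omega
    have h2 : 1 < e := by
      by_contra hcon
      push Not at hcon
      have : 2 ^ e ≤ 2 ^ 1 := Nat.pow_le_pow_right (by norm_num) hcon
      omega
    omega
  rw [he2] at he
  apply Cfsg.Agent.Lib.Helper20_Suzuki.suzuki hcard (Subgroup.centralizer ({y} : Set S)) he
  apply Subgroup.centralizer_le
  intro w hw
  rw [Set.mem_singleton_iff] at hw
  rw [hw]
  exact hyC


theorem maxClass_of_scc [Finite S] (hS : IsPGroup 2 S) {m n : ℕ} {a : S}
    (hcard : Nat.card S = 2 ^ m) (h : SCC a n) (hn3 : 3 ≤ n) (hno : ¬ HasNormalFour S)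
    (t : S) (ht : t ∉ Subgroup.zpowers a) : Group.nilpotencyClass S = m - 1 := by
  classical
  have : Fact (Nat.Prime 2) := ⟨Nat.prime_two⟩
  have hz2 := h.z_sq
  have hz1 := h.z_ne_one
  have hzc : ∀ s : S, s * zz a n = zz a n * s := h.z_comm
  -- the action of t
  have hconj : t * a * t⁻¹ = a⁻¹ ∨ t * a * t⁻¹ = a⁻¹ * zz a n := by
    rcases h.conj_three hS hn3 hno t with h1 | h1 | h1
    · exact absurd (h.mem_of_conj t h1) ht
    · exact Or.inl h1
    · exact Or.inr h1
  -- fixed points of t on ⟨a⟩ have order ≤ 2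
  have key : ∀ c ∈ Subgroup.zpowers a, t * c * t⁻¹ = c → c ^ 2 = 1 := by
    intro c hc hfix
    obtain ⟨i, rfl⟩ := Subgroup.mem_zpowers_iff.mp hc
    rw [← conj_zpow] at hfix
    rcases hconj with h1 | h1
    · rw [h1, inv_zpow] at hfix
      have : a ^ i * a ^ i = 1 := by
        nth_rw 1 [← hfix]
        exact inv_mul_cancel _
      rw [pow_two]; exact this
    · rw [h1] at hfix
      have hcomm : Commute a⁻¹ (zz a n) := (hzc a⁻¹)
      rw [hcomm.mul_zpow, inv_zpow] at hfix
      -- a^(2i) = z^i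
      have e1 : a ^ i * a ^ i = zz a n ^ i := by
        have : zz a n ^ i = a ^ i * a ^ i := by
          nth_rw 2 [← hfix]
          rw [← mul_assoc, mul_inv_cancel, one_mul]
        exact this.symm
      have e2 : (zz a n ^ i) ^ 2 = 1 := by
        rw [← zpow_natCast, ← zpow_mul, mul_comm, zpow_mul, zpow_natCast, hz2, one_zpow]
      have e3 : a ^ (4 * i) = 1 := by
        have : a ^ (4 * i) = (a ^ i * a ^ i) ^ 2 := by
          rw [← zpow_add, ← zpow_natCast, ← zpow_mul]
          congr 1
          push_cast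
          ring
        rw [this, e1, e2]
      have e4 : ((orderOf a : ℕ) : ℤ) ∣ 4 * i := orderOf_dvd_iff_zpow_eq_one.2 e3
      rw [h.order] at e4
      have e5 : (2 : ℤ) ∣ i := by
        have h8 : ((8 : ℕ) : ℤ) ∣ ((2 ^ n : ℕ) : ℤ) := by
          apply Int.natCast_dvd_natCast.2
          calc 8 = 2 ^ 3 := by norm_num
            _ ∣ 2 ^ n := pow_dvd_pow 2 hn3
        have h9 : (8 : ℤ) ∣ 4 * i := by
          have := h8.trans e4
          simpa using this
        omega
      obtain ⟨j, rfl⟩ := e5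
      have e6 : zz a n ^ (2 * j) = 1 := by
        rw [zpow_mul, zpow_ofNat, hz2, one_zpow]
      rw [pow_two, e1, e6]
  -- centralizer of t
  have hC : ∀ g : S, g * t = t * g → g = 1 ∨ g = zz a n ∨ g = t⁻¹ ∨ g = zz a n * t⁻¹ := by
    intro g hg
    by_cases hga : g ∈ Subgroup.zpowers a
    · have hfix : t * g * t⁻¹ = g := by rw [← hg, mul_inv_cancel_right]
      have hg2 := key g hga hfix
      by_cases hg1 : g = 1
      · exact Or.inl hg1
      · exact Or.inr (Or.inl (h.uniq g hga hg2 hg1))
    · have hgt := (h.mul_mem_of_notMem hS hn3 hno g t hga ht).1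
      have hfix : t * (g * t) * t⁻¹ = g * t := by
        rw [mul_assoc t, mul_inv_cancel_right, ← hg]
      have hg2 := key (g * t) hgt hfix
      by_cases hg1 : g * t = 1
      · right; right; left
        exact eq_inv_of_mul_eq_one_left hg1
      · right; right; right
        have := h.uniq (g * t) hgt hg2 hg1
        rw [← this, mul_inv_cancel_right]
  -- the subgroup C = C(t)
  have hCle : ((Subgroup.centralizer ({t} : Set S) : Subgroup S) : Set S) ⊆
      (({1, zz a n, t⁻¹, zz a n * t⁻¹} : Finset S) : Set S) := by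
    intro g hg
    have hg' : g * t = t * g := by
      have := Subgroup.mem_centralizer_iff.1 hg t (Set.mem_singleton t)
      exact this.symm
    rcases hC g hg' with h1 | h1 | h1 | h1 <;> simp [h1]
  have hcard4 : Nat.card (Subgroup.centralizer ({t} : Set S)) ≤ 4 := by
    have h1 := Nat.card_mono (Finset.finite_toSet _) hCle
    have h2 : Nat.card ((({1, zz a n, t⁻¹, zz a n * t⁻¹} : Finset S) : Set S)) ≤ 4 := by
      rw [Nat.card_coe_set_eq, Set.ncard_coe_finset]
      exact Finset.card_le_four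
    exact h1.trans h2
  have hzC : Subgroup.zpowers (zz a n) ≤ Subgroup.centralizer ({t} : Set S) := by
    rw [Subgroup.zpowers_le, Subgroup.mem_centralizer_iff]
    intro y hy
    rw [Set.mem_singleton_iff] at hy
    rw [hy]
    exact hzc t
  have htC : t ∈ Subgroup.centralizer ({t} : Set S) := by
    rw [Subgroup.mem_centralizer_iff]
    intro y hy
    rw [Set.mem_singleton_iff] at hy
    rw [hy]
  have hcardz : Nat.card (Subgroup.zpowers (zz a n)) = 2 := by
    rw [Nat.card_zpowers]
    exact orderOf_eq_prime hz2 hz1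
  have hgt2 : 2 < Nat.card (Subgroup.centralizer ({t} : Set S)) := by
    by_contra hle
    push Not at hle
    have := Subgroup.eq_of_le_of_card_ge hzC (by rw [hcardz]; exact hle)
    apply ht
    have htz : t ∈ Subgroup.zpowers (zz a n) := by rw [this]; exact htC
    exact (Subgroup.zpowers_le.2 h.z_mem) htz
  obtain ⟨e, he⟩ := (hS.to_subgroup (Subgroup.centralizer ({t} : Set S))).exists_card_eq
  have he2 : e = 2 := by
    rw [he] at hcard4 hgt2
    have h1 : e ≤ 2 := by
      by_contra hcon
      push Not at hcon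
      have : 2 ^ 3 ≤ 2 ^ e := Nat.pow_le_pow_right (by norm_num) hcon
      omega
    have h2 : 1 < e := by
      by_contra hcon
      push Not at hcon
      have : 2 ^ e ≤ 2 ^ 1 := Nat.pow_le_pow_right (by norm_num) hcon
      omega
    omega
  rw [he2] at he
  apply Cfsg.Agent.Lib.Helper20_Suzuki.suzuki hcard (Subgroup.centralizer ({t} : Set S)) he
  apply Subgroup.centralizer_le
  intro y hy
  rw [Set.mem_singleton_iff] at hy
  rw [hy]
  exact htC


open scoped IsMulCommutative in
/-- A finite `2`-group that is neither cyclic nor of maximal class has a normal four-group. -/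
theorem hasNormalFour_of_not_maxClass [Finite S] (hS : IsPGroup 2 S) {m : ℕ}
    (hcard : Nat.card S = 2 ^ m) (hnc : ¬ IsCyclic S)
    (hclass : Group.nilpotencyClass S ≠ m - 1) : HasNormalFour S := by
  have : Fact (Nat.Prime 2) := ⟨Nat.prime_two⟩
  by_contra hno
  obtain ⟨A, hAn, hAc, hAcent⟩ := exists_normal_abelian_self_centralizing hS
  have huniq : ∀ u ∈ A, ∀ v ∈ A, u ^ 2 = 1 → v ^ 2 = 1 → u ≠ 1 → v ≠ 1 → u = v := by
    intro u hu v hv hu2 hv2 hu1 hv1
    by_contra huv
    exact hno (hasNormalFour_of_two_involutions hS A hAc u v hu hv hu2 hv2 hu1 hv1 huv)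
  have hAcomm : IsMulCommutative A := ⟨⟨fun x y => Subtype.ext (hAc x x.2 y y.2)⟩⟩
  have hcyc : IsCyclic A := by
    apply Cfsg.Agent.Lib.Helper54_TwoGroups.isCyclic_of_unique_involution (hS.to_subgroup A)
    intro u v hu2 hv2 hu1 hv1
    apply Subtype.ext
    apply huniq u u.2 v v.2
    · have := congrArg Subtype.val hu2
      simpa using this
    · have := congrArg Subtype.val hv2
      simpa using this
    · intro h
      exact hu1 (Subtype.ext h)
    · intro h
      exact hv1 (Subtype.ext h)
  obtain ⟨g, hg⟩ := hcyc.exists_generator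
  set a : S := g.1 with ha
  have hA : A = Subgroup.zpowers a := by
    apply le_antisymm
    · intro x hx
      obtain ⟨k, hk⟩ := Subgroup.mem_zpowers_iff.mp (hg ⟨x, hx⟩)
      rw [Subgroup.mem_zpowers_iff]
      refine ⟨k, ?_⟩
      have := congrArg Subtype.val hk
      simpa using this
    · rw [Subgroup.zpowers_le]
      exact g.2
  rw [hA] at hAn hAcent
  obtain ⟨n, hord⟩ := (IsPGroup.iff_orderOf.mp hS) a
  have htop : Subgroup.zpowers a ≠ ⊤ := by
    intro htop
    apply hnc
    refine ⟨⟨a, fun x => ?_⟩⟩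
    have : x ∈ Subgroup.zpowers a := by rw [htop]; exact Subgroup.mem_top x
    exact this
  have hn1 : 1 ≤ n := by
    by_contra h0
    have hn0 : n = 0 := by omega
    rw [hn0, pow_zero, orderOf_eq_one_iff] at hord
    apply htop
    rw [← hAcent, hord, Subgroup.zpowers_one_eq_bot]
    rw [eq_top_iff]
    intro x _
    rw [Subgroup.mem_centralizer_iff]
    intro y hy
    have : y = 1 := by simpa using hy
    rw [this, mul_one, one_mul]
  have h : SCC a n := ⟨hAn, hAcent, hord, hn1⟩
  obtain ⟨t, ht⟩ : ∃ t : S, t ∉ Subgroup.zpowers a := by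
    by_contra hcon
    push Not at hcon
    exact htop (eq_top_iff.2 fun x _ => hcon x)
  by_cases hn3 : 3 ≤ n
  · exact hclass (maxClass_of_scc hS hcard h hn3 hno t ht)
  · have hn12 : n = 1 ∨ n = 2 := by omega
    rcases hn12 with rfl | rfl
    · apply htop
      rw [← hAcent, eq_top_iff]
      intro x _
      rw [Subgroup.mem_centralizer_iff]
      intro y hy
      have hz : zz a 1 = a := by simp [zz]
      obtain ⟨k, rfl⟩ := Subgroup.mem_zpowers_iff.mp hy
      have hc : Commute x a := by
        have := h.z_comm x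
        rw [hz] at this
        exact this
      exact (hc.zpow_right k).eq.symm
    · apply hclass
      apply Cfsg.Agent.Lib.Helper20_Suzuki.suzuki hcard (Subgroup.zpowers a)
      · rw [Nat.card_zpowers, hord]
      · exact hAcent.le

end Existence

section AFT
variable {S : Type u} [Group S]

/-- **Involution count**: in a finite `2`-group with a normal four-group which is not of maximal
class, the number of solutions of `x ^ 2 = 1` is divisible by `4`. -/
theorem four_dvd_card_sq_eq_one [Finite S] (hS : IsPGroup 2 S) {m : ℕ}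
    (hcard : Nat.card S = 2 ^ m) (hN : HasNormalFour S)
    (hclass : Group.nilpotencyClass S ≠ m - 1) : 4 ∣ Nat.card {x : S // x ^ 2 = 1} := by
  classical
  have : Fact (Nat.Prime 2) := ⟨Nat.prime_two⟩
  obtain ⟨z, t, hzc, hz1, hz2, ht2, ht1, htz, hconj⟩ := hN
  have hzc' : ∀ s : S, s * z = z * s := fun s => (Subgroup.mem_center_iff.mp hzc s)
  have hzz : z * z = 1 := by rw [← pow_two]; exact hz2
  have hzinv : z⁻¹ = z := by rw [inv_eq_iff_mul_eq_one]; exact hzz
  have htt : t * t = 1 := by rw [← pow_two]; exact ht2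
  have htinv : t⁻¹ = t := by rw [inv_eq_iff_mul_eq_one]; exact htt
  have htnz : t ∉ Subgroup.zpowers z := by
    intro h
    rcases (mem_zpowers_invol hz2).1 h with h | h
    · exact ht1 h
    · exact htz h
  have hg : Good 2 (⊤ : Subgroup S) z t := by
    refine ⟨Subgroup.mem_top _, Subgroup.mem_top _, hzc, orderOf_eq_prime hz2 hz1, ht2, htnz, ?_⟩
    intro g
    rcases hconj g with h | h
    · rw [h, mul_inv_cancel]; exact one_mem _
    · rw [h, mul_assoc, mul_inv_cancel, mul_one]; exact Subgroup.mem_zpowers z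
  rw [card_split (fun x : S => x ^ 2 = 1) (fun x => x * t = t * x)]
  -- part (a): solutions commuting with t
  have ha : 4 ∣ Nat.card {x : S // x ^ 2 = 1 ∧ x * t = t * x} := by
    have hle : hg.B ≤ rstab {x : S | x ^ 2 = 1 ∧ x * t = t * x} := by
      apply le_rstab_of
      rintro x ⟨hx2, hxt⟩ u hu
      obtain ⟨a, ha, b, hb, rfl⟩ := hg.mem_B_iff.1 hu
      have hxa : Commute x a := by
        rcases (mem_zpowers_invol hz2).1 ha with rfl | rfl
        · exact Commute.one_right x
        · exact hzc' x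
      have hxb : Commute x b := by
        rcases (mem_zpowers_invol ht2).1 hb with rfl | rfl
        · exact Commute.one_right x
        · exact hxt
      have hxu : Commute x (a * b) := hxa.mul_right hxb
      have hu2 : (a * b) ^ 2 = 1 := hg.B_exp _ hu
      constructor
      · rw [hxu.mul_pow, hx2, hu2, one_mul]
      · have hut : Commute (a * b) t := hg.B_comm _ hu t hg.h_mem_B
        exact ((show Commute x t from hxt).mul_left hut).eq
    have h1 := card_eq_of_le_rstab hle
    rw [hg.card_B] at h1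
    exact ⟨_, h1⟩
  -- part (b): solutions not commuting with t
  have hb : 4 ∣ Nat.card {x : S // x ^ 2 = 1 ∧ ¬ x * t = t * x} := by
    by_cases hne : Nonempty {x : S // x ^ 2 = 1 ∧ ¬ x * t = t * x}
    swap
    · rw [not_nonempty_iff] at hne
      rw [Nat.card_of_isEmpty]
      exact dvd_zero _
    obtain ⟨⟨y0, hy02, hy0t⟩⟩ := hne
    have hyy : y0 * y0 = 1 := by rw [← pow_two]; exact hy02
    have hyinv : y0⁻¹ = y0 := by rw [inv_eq_iff_mul_eq_one]; exact hyy
    have hout2 : ∀ g : S, ¬ g * t = t * g → g * t = z * t * g := by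
      intro g hg
      rcases hconj g with h | h
      · exfalso; apply hg; rw [mul_inv_eq_iff_eq_mul] at h; exact h
      · rw [mul_inv_eq_iff_eq_mul] at h; exact h
    have hin : ∀ g g' : S, ¬ g * t = t * g → ¬ g' * t = t * g' →
        (g * g') * t = t * (g * g') := by
      intro g g' hg hg'
      calc g * g' * t = g * (g' * t) := mul_assoc _ _ _
        _ = g * (z * t * g') := by rw [hout2 g' hg']
        _ = (g * z) * t * g' := by simp only [mul_assoc]
        _ = z * (g * t) * g' := by rw [hzc' g]; simp only [mul_assoc]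
        _ = z * (z * t * g) * g' := by rw [hout2 g hg]
        _ = (z * z) * t * g * g' := by simp only [mul_assoc]
        _ = t * (g * g') := by rw [hzz, one_mul, mul_assoc]
    -- if d commutes with t and d * g commutes with t then g commutes with t
    have hcancel : ∀ d g : S, d * t = t * d → (d * g) * t = t * (d * g) → g * t = t * g := by
      intro d g hd hdg
      have h1 : Commute d⁻¹ t := (show Commute d t from hd).inv_left
      have h2 : Commute (d⁻¹ * (d * g)) t := h1.mul_left hdg
      rw [inv_mul_cancel_left] at h2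
      exact h2
    have hy0z : y0 * t * y0⁻¹ = z * t := by
      rw [mul_inv_eq_iff_eq_mul]; exact hout2 y0 hy0t
    -- the sets
    set I : Set S := {u | u * t = t * u ∧ y0 * u * y0⁻¹ = u⁻¹} with hI
    set D : Subgroup S := Subgroup.centralizer ({t} : Set S) ⊓ Subgroup.centralizer ({y0} : Set S)
      with hD
    have hDmem : ∀ d : S, d ∈ D ↔ d * t = t * d ∧ d * y0 = y0 * d := by
      intro d
      rw [hD, Subgroup.mem_inf, Subgroup.mem_centralizer_iff, Subgroup.mem_centralizer_iff]
      constructor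
      · rintro ⟨h1, h2⟩
        exact ⟨(h1 t rfl).symm, (h2 y0 rfl).symm⟩
      · rintro ⟨h1, h2⟩
        refine ⟨fun w hw => ?_, fun w hw => ?_⟩
        · rw [Set.mem_singleton_iff] at hw; rw [hw]; exact h1.symm
        · rw [Set.mem_singleton_iff] at hw; rw [hw]; exact h2.symm
    -- step (i)
    have e1 : Nat.card {x : S // x ^ 2 = 1 ∧ ¬ x * t = t * x} = Nat.card I := by
      refine Nat.card_congr ((Equiv.mulRight y0).subtypeEquiv (fun y => ?_))
      show (y ^ 2 = 1 ∧ ¬ y * t = t * y) ↔ (y * y0) ∈ I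
      constructor
      · rintro ⟨hy2, hyt⟩
        have hyy' : y * y = 1 := by rw [← pow_two]; exact hy2
        have hyinv' : y⁻¹ = y := by rw [inv_eq_iff_mul_eq_one]; exact hyy'
        refine ⟨hin y y0 hyt hy0t, ?_⟩
        rw [mul_inv_rev, hyinv, hyinv', ← mul_assoc, mul_assoc (y0 * y), hyy, mul_one]
      · rintro ⟨h1, h2⟩
        constructor
        · have h3 : y * y0 * (y0 * (y * y0) * y0⁻¹) = 1 := by rw [h2, mul_inv_cancel]
          rw [hyinv] at h3
          have h4 : y * y0 * (y0 * (y * y0) * y0) = y * y := by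
            calc y * y0 * (y0 * (y * y0) * y0) = y * (y0 * y0) * y * (y0 * y0) := by
                  simp only [mul_assoc]
              _ = y * y := by rw [hyy, mul_one, mul_one]
          rw [pow_two, ← h4, h3]
        · intro hyt
          apply hy0t
          exact hcancel y y0 hyt h1
    -- invariance of I
    have hσz : ∀ x : S, (x * z)⁻¹ = x⁻¹ * z := by
      intro x
      rw [mul_inv_rev, hzinv, hzc' x⁻¹]
    have hIz : ∀ x ∈ I, x * z ∈ I := by
      rintro x ⟨h1, h2⟩
      constructor
      · exact ((show Commute x t from h1).mul_left (hzc' t).symm).eq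
      · calc y0 * (x * z) * y0⁻¹ = y0 * x * (z * y0⁻¹) := by simp only [mul_assoc]
          _ = y0 * x * (y0⁻¹ * z) := by rw [hzc' y0⁻¹]
          _ = (y0 * x * y0⁻¹) * z := by simp only [mul_assoc]
          _ = x⁻¹ * z := by rw [h2]
          _ = (x * z)⁻¹ := (hσz x).symm
    have hIinv : ∀ x ∈ I, x⁻¹ ∈ I := by
      rintro x ⟨h1, h2⟩
      constructor
      · exact ((show Commute x t from h1).inv_left).eq
      · rw [inv_inv, ← conj_inv, h2, inv_inv]
    have L1 := card_modEq_four z hz2 hz1 (fun x => x⁻¹) inv_inv hσz I hIz hIinv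
    have hDz : ∀ x ∈ (D : Set S), x * z ∈ (D : Set S) := by
      intro x hx
      have hzD : z ∈ D := by
        rw [hDmem]; exact ⟨hzc' t |>.symm ▸ rfl, hzc' y0 |>.symm ▸ rfl⟩
      exact D.mul_mem hx hzD
    have hDinv : ∀ x ∈ (D : Set S), x⁻¹ ∈ (D : Set S) := fun x hx => D.inv_mem hx
    have L2 := card_modEq_four z hz2 hz1 (fun x => x⁻¹) inv_inv hσz (D : Set S) hDz hDinv
    -- step (ii)
    have hzD : z ∈ D := by
      rw [hDmem]; exact ⟨hzc' t |>.symm ▸ rfl, hzc' y0 |>.symm ▸ rfl⟩
    have e2 : Nat.card {x : S // x ∈ I ∧ (x⁻¹ = x ∨ x⁻¹ = x * z)} =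
        Nat.card {x : S // x ∈ (D : Set S) ∧ (x⁻¹ = x ∨ x⁻¹ = x * z)} := by
      rw [card_split (fun x : S => x ∈ I ∧ (x⁻¹ = x ∨ x⁻¹ = x * z)) (fun x => x⁻¹ = x),
        card_split (fun x : S => x ∈ (D : Set S) ∧ (x⁻¹ = x ∨ x⁻¹ = x * z)) (fun x => x⁻¹ = x)]
      congr 1
      · apply Nat.card_congr
        apply Equiv.subtypeEquivRight
        intro x
        constructor
        · rintro ⟨⟨⟨h1, h2⟩, h3⟩, h4⟩
          refine ⟨⟨?_, h3⟩, h4⟩
          show x ∈ D
          rw [hDmem]
          refine ⟨h1, ?_⟩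
          rw [h4, mul_inv_eq_iff_eq_mul] at h2
          exact h2.symm
        · rintro ⟨⟨h1, h3⟩, h4⟩
          have h1' : x ∈ D := h1
          rw [hDmem] at h1'
          refine ⟨⟨⟨h1'.1, ?_⟩, h3⟩, h4⟩
          rw [h4, mul_inv_eq_iff_eq_mul]
          exact h1'.2.symm
      · refine Nat.card_congr ((Equiv.mulRight t).subtypeEquiv (fun x => ?_))
        show ((x ∈ I ∧ (x⁻¹ = x ∨ x⁻¹ = x * z)) ∧ ¬ x⁻¹ = x) ↔
          (((x * t) ∈ (D : Set S) ∧ ((x * t)⁻¹ = x * t ∨ (x * t)⁻¹ = x * t * z)) ∧
            ¬ (x * t)⁻¹ = x * t)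
        constructor
        · rintro ⟨⟨⟨h1, h2⟩, h3⟩, h4⟩
          have h5 : x⁻¹ = x * z := by
            rcases h3 with h3 | h3
            · exact absurd h3 h4
            · exact h3
          have h6 : (x * t)⁻¹ = x * t * z := by
            rw [mul_inv_rev, htinv, h5, ← mul_assoc, ← h1, mul_assoc x t z, hzc' t, ← mul_assoc]
          refine ⟨⟨?_, Or.inr h6⟩, ?_⟩
          · show x * t ∈ D
            rw [hDmem]
            refine ⟨by rw [mul_assoc, ← mul_assoc t x t, ← h1, mul_assoc], ?_⟩
            have h7 : y0 * (x * t) * y0⁻¹ = x * t := by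
              calc y0 * (x * t) * y0⁻¹ = (y0 * x * y0⁻¹) * (y0 * t * y0⁻¹) := by group
                _ = x * z * (z * t) := by rw [h2, hy0z, h5]
                _ = x * (z * z) * t := by simp only [mul_assoc]
                _ = x * t := by rw [hzz, mul_one]
            rw [mul_inv_eq_iff_eq_mul] at h7
            exact h7.symm
          · rw [h6]
            intro h
            apply hz1
            have := mul_left_cancel (a := x * t) (b := z) (c := 1) (by rw [h, mul_one])
            exact this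
        · rintro ⟨⟨h1, h3⟩, h4⟩
          have h1' : x * t ∈ D := h1
          rw [hDmem] at h1'
          have h5 : (x * t)⁻¹ = x * t * z := by
            rcases h3 with h3 | h3
            · exact absurd h3 h4
            · exact h3
          have hxt : x * t = t * x := by
            have := h1'.1
            have h8 : Commute (x * t * t) t := by
              have : Commute (x * t) t := h1'.1
              exact this.mul_left (Commute.refl t)
            rw [mul_assoc, htt, mul_one] at h8
            exact h8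
          have hx5 : x⁻¹ = x * z := by
            have : x⁻¹ = t * (x * t)⁻¹ := by rw [mul_inv_rev, ← mul_assoc, mul_inv_cancel, one_mul]
            rw [this, h5, ← mul_assoc, ← mul_assoc, ← hxt, mul_assoc x t t, htt, mul_one]
          refine ⟨⟨⟨hxt, ?_⟩, Or.inr hx5⟩, ?_⟩
          · have h7 : y0 * (x * t) * y0⁻¹ = x * t := by
              rw [mul_inv_eq_iff_eq_mul]; exact h1'.2.symm
            have h9 : y0 * x * y0⁻¹ = (y0 * (x * t) * y0⁻¹) * (y0 * t * y0⁻¹)⁻¹ := by
              rw [← htinv]; group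
            rw [h9, h7, hy0z, mul_inv_rev, htinv, hzinv, hx5]
            rw [mul_assoc x t, ← mul_assoc t t z, htt, one_mul]
          · rw [hx5]
            intro h
            apply hz1
            have := mul_left_cancel (a := x) (b := z) (c := 1) (by rw [h, mul_one])
            exact this
    -- combine: card 𝒴 ≡ card D mod 4
    have L3 : Nat.card {x : S // x ^ 2 = 1 ∧ ¬ x * t = t * x} ≡ Nat.card D [MOD 4] := by
      rw [e1]
      have L1' : Nat.card I ≡ Nat.card {x : S // x ∈ I ∧ (x⁻¹ = x ∨ x⁻¹ = x * z)} [MOD 4] := L1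
      have L2' : Nat.card (D : Set S) ≡
          Nat.card {x : S // x ∈ (D : Set S) ∧ (x⁻¹ = x ∨ x⁻¹ = x * z)} [MOD 4] := L2
      rw [e2] at L1'
      exact L1'.trans L2'.symm
    -- step (iii)
    obtain ⟨e, he⟩ := (hS.to_subgroup D).exists_card_eq
    by_cases he2 : 2 ≤ e
    · have h4 : 4 ∣ Nat.card D := by
        rw [he]
        calc 4 = 2 ^ 2 := by norm_num
          _ ∣ 2 ^ e := pow_dvd_pow 2 he2
      exact (Nat.modEq_zero_iff_dvd.1 (L3.trans (Nat.modEq_zero_iff_dvd.2 h4)))
    · exfalso
      have hzD' : Subgroup.zpowers z ≤ D := by rw [Subgroup.zpowers_le]; exact hzD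
      have hcardz : Nat.card (Subgroup.zpowers z) = 2 := by
        rw [Nat.card_zpowers]; exact orderOf_eq_prime hz2 hz1
      have hDz' : Subgroup.zpowers z = D := by
        apply Subgroup.eq_of_le_of_card_ge hzD'
        rw [hcardz, he]
        have : e ≤ 1 := by omega
        calc 2 ^ e ≤ 2 ^ 1 := Nat.pow_le_pow_right (by norm_num) this
          _ = 2 := by norm_num
      apply hclass
      apply maxClass_of_small_centralizer hS hcard y0 z y0 (z * y0) hz2 hz1 (hzc' y0).symm
      · intro h
        rcases (mem_zpowers_invol hz2).1 h with h | h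
        · apply hy0t; rw [h, one_mul, mul_one]
        · apply hy0t; rw [h]; exact hzc' t |>.symm
      · intro g hg
        by_cases hgt : g * t = t * g
        · have : g ∈ D := by rw [hDmem]; exact ⟨hgt, hg⟩
          rw [← hDz'] at this
          rcases (mem_zpowers_invol hz2).1 this with h | h
          · exact Or.inl h
          · exact Or.inr (Or.inl h)
        · have h1 : (g * y0) * t = t * (g * y0) := hin g y0 hgt hy0t
          have h2 : (g * y0) * y0 = y0 * (g * y0) := by rw [hg, mul_assoc, hg]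
          have : g * y0 ∈ D := by rw [hDmem]; exact ⟨h1, h2⟩
          rw [← hDz'] at this
          rcases (mem_zpowers_invol hz2).1 this with h | h
          · right; right; left
            rw [← hyinv]; exact eq_inv_of_mul_eq_one_left h
          · right; right; right
            rw [← h, mul_assoc, hyy, mul_one]

  exact dvd_add ha hb

/-- a normal four-group gives a `Good` pair. -/
theorem good_of_hasNormalFour (hN : HasNormalFour S) :
    ∃ z t : S, Good 2 (⊤ : Subgroup S) z t := by
  obtain ⟨z, t, hzc, hz1, hz2, ht2, ht1, htz, hconj⟩ := hN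
  have htnz : t ∉ Subgroup.zpowers z := by
    intro h
    rcases (mem_zpowers_invol hz2).1 h with h | h
    · exact ht1 h
    · exact htz h
  refine ⟨z, t, Subgroup.mem_top _, Subgroup.mem_top _, hzc, orderOf_eq_prime hz2 hz1, ht2,
    htnz, ?_⟩
  intro g
  rcases hconj g with h | h
  · rw [h, mul_inv_cancel]; exact one_mem _
  · rw [h, mul_assoc, mul_inv_cancel, mul_one]; exact Subgroup.mem_zpowers z

/-- **Miller's theorem for `p = 2`**, in terms of `HasNormalFour`. -/
theorem miller_two_of_hasNormalFour [Finite S] (hS : IsPGroup 2 S) (hN : HasNormalFour S)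
    {s : ℕ} (hs : 3 ≤ s) : 2 ^ s ∣ Nat.card {x : S // orderOf x = 2 ^ s} := by
  obtain ⟨z, t, hg⟩ := good_of_hasNormalFour hN
  exact miller_two hS hg hs

end AFT

end Cfsg.Agent.Lib.Helper70_TwoGroupCount
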