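import Mathlib
import Cfsg.Agent.Lib.Helper17_Sylow
import Cfsg.Agent.Lib.Helper20_F5040_SYLFIX
import Cfsg.Agent.Lib.Helper20_F5040_PERMPAR
import Cfsg.Agent.Lib.Helper20_F5040_CASE8

/-!
# S0984 package A7-L7-15 (architect helper62): a simple group of order 2520 does not have 15 Sylow 7-subgroups.
-/

set_option autoImplicit false

namespace Cfsg.Agent.Lib.Helper71_A7_L715

open Cfsg.Agent.Lib.Helper17_Sylow Cfsg.Agent.Lib.Helper20_F5040_SYLFIX
  Cfsg.Agent.Lib.Helper20_F5040_PERMPAR Cfsg.Agent.Lib.Helper20_F5040_CASE8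

theorem not_comm_2520 {G : Type*} [Group G] [Finite G] [IsSimpleGroup G]
    (hG : Nat.card G = 2520) : ¬ ∀ a b : G, a * b = b * a := by
  intro h
  apply not_isMulCommutative_of_not_prime (G := G) (by rw [hG]; norm_num)
  exact ⟨⟨h⟩⟩

/-- **L7-15**. -/
theorem n7_ne_15 {G : Type*} [Group G] [Finite G] [IsSimpleGroup G] [Fact (Nat.Prime 7)]
    (hG : Nat.card G = 2520) : Nat.card (Sylow 7 G) ≠ 15 := by
  intro hn15
  obtain ⟨P⟩ : Nonempty (Sylow 7 G) := inferInstance
  have hP : Nat.card P = 7 := by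
    have h := card_sylow_eq_pow (p := 7) (k := 1) (m := 360) (by rw [hG]; norm_num) (by norm_num) P
    simpa using h
  have hn := card_normalizer_mul_card_sylow P
  rw [hn15, hG] at hn
  have hN : Nat.card (Subgroup.normalizer ((P : Subgroup G) : Set G)) = 168 := by omega
  obtain ⟨u, huC, hu2⟩ := exists_central_prime P hP 2 (by norm_num) (by rw [hN]; norm_num)
  have h1 := card_fixed_sylow_modEq_one P u huC
  have h2 := card_sylow_modEq_card_fixed (p := 7) u 2 (by norm_num) hu2
  have h3 := Finite.card_subtype_le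
    (fun Q : Sylow 7 G => u ∈ Subgroup.normalizer ((Q : Subgroup G) : Set G))
  have h5 := four_dvd_card_sub_fixed (not_comm_2520 hG) (p := 7) u hu2
  rw [hn15] at h2 h3 h5
  have h4 : Nat.card {Q : Sylow 7 G // u ∈ Subgroup.normalizer ((Q : Subgroup G) : Set G)} = 15 := by
    unfold Nat.ModEq at h1 h2
    omega
  have hall : ∀ Q : Sylow 7 G, u ∈ Subgroup.normalizer ((Q : Subgroup G) : Set G) := by
    intro Q
    by_contra hQ
    have := Finite.card_subtype_lt (p := fun Q : Sylow 7 G =>
      u ∈ Subgroup.normalizer ((Q : Subgroup G) : Set G)) hQ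
    rw [hn15, h4] at this
    exact lt_irrefl _ this
  have hu1 := eq_one_of_forall_mem_normalizer (p := 7) (by rw [hn15]; norm_num) u hall
  rw [hu1, orderOf_one] at hu2
  norm_num at hu2

end Cfsg.Agent.Lib.Helper71_A7_L715
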