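import Mathlib
import Cfsg.Prelude.Def_Characters
import Cfsg.Prelude.Def_Blocks
import Cfsg.Agent.Lib.Helper17_Sylow
import Cfsg.Agent.Lib.Helper30_FourPQ
import Cfsg.Agent.Lib.Helper3_CharComplete
import Cfsg.Agent.Lib.Helper74_CharTools
import Cfsg.Agent.Lib.Helper75_CharArith
import Cfsg.Agent.Lib.Helper62_INV_E2
import Cfsg.Agent.Lib.Helper10_F5040_INVVAL
import Cfsg.Agent.Lib.Helper68_F5040_ALTSQ
import Cfsg.Agent.Lib.Helper77_BlockBasics
import Cfsg.Agent.Lib.Helper80_CharBasic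

/-!
# S0984 package A7-NO4 (architect helper62): a simple group of order 2520 whose character degrees prime
to 7 lie in `{1, 4, 15, 20}` has no irreducible character of degree 4 (alternating square).
-/

set_option autoImplicit false
set_option maxHeartbeats 1000000
open Cfsg Cfsg.Agent.Lib.Helper80_CharBasic
open scoped ComplexConjugate

namespace Cfsg.Agent.Lib.Helper71_A7_NO4

/-- **NO4**. -/
theorem no_deg4 {G : Type*} [Group G] [Finite G] [IsSimpleGroup G]
    (hG : Nat.card G = 2520) (θ : Cfsg.IrrCharacter G) (hθ : Cfsg.charDegree (θ : G → ℂ) = 4)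
    (hdeg : ∀ ψ : Cfsg.IrrCharacter G, ¬ 7 ∣ Cfsg.charDegree (ψ : G → ℂ) →
        Cfsg.charDegree (ψ : G → ℂ) = 1 ∨ Cfsg.charDegree (ψ : G → ℂ) = 4 ∨
        Cfsg.charDegree (ψ : G → ℂ) = 15 ∨ Cfsg.charDegree (ψ : G → ℂ) = 20) : False := by
  classical
  let _ : Fintype G := Fintype.ofFinite G
  let _ : Fintype (Cfsg.IrrCharacter G) := Fintype.ofFinite _
  -- `G` is perfect
  have hnp : ¬ (Nat.card G).Prime := by rw [hG]; norm_num
  have hna : ∃ a b : G, a * b ≠ b * a := by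
    by_contra h
    push Not at h
    exact Cfsg.Agent.Lib.Helper17_Sylow.not_isMulCommutative_of_not_prime hnp ⟨⟨h⟩⟩
  have hna' : ¬ ∀ a b : G, a * b = b * a := by
    obtain ⟨a, b, hab⟩ := hna
    exact fun h => hab (h a b)
  have hperf : commutator G = ⊤ := Cfsg.Agent.Lib.Helper30_FourPQ.perfect hna
  -- an involution
  have : Fact (Nat.Prime 2) := ⟨Nat.prime_two⟩
  obtain ⟨t, ht2⟩ : ∃ t : G, orderOf t = 2 :=
    exists_prime_orderOf_dvd_card' 2 (by rw [hG]; norm_num)
  have ht1 : t ≠ 1 := by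
    intro h
    rw [h, orderOf_one] at ht2
    omega
  have htt : t * t = 1 := by
    rw [← pow_two, ← ht2, pow_orderOf_eq_one]
  -- degrees and values at `t`
  set d : Cfsg.IrrCharacter G → ℕ := fun χ => Cfsg.charDegree (χ : G → ℂ) with hd
  have hχ1 : ∀ χ : Cfsg.IrrCharacter G, (χ : G → ℂ) 1 = (d χ : ℂ) := fun χ =>
    Cfsg.Agent.Lib.Helper77_BlockBasics.apply_one_eq_charDegree χ
  choose jf hjf using fun χ : Cfsg.IrrCharacter G =>
    Cfsg.Agent.Lib.Helper10_F5040_INVVAL.invol_parity4 hperf χ t ht2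
  set a : Cfsg.IrrCharacter G → ℤ := fun χ => (d χ : ℤ) - 4 * (jf χ : ℤ) with ha
  have hat : ∀ χ : Cfsg.IrrCharacter G, (χ : G → ℂ) t = (a χ : ℂ) := by
    intro χ
    rw [hjf χ]
    simp only [ha, hd]
    push_cast
    ring
  have hone1 : ((oneIrr G : Cfsg.IrrCharacter G) : G → ℂ) 1 = 1 := rfl
  have honet : ((oneIrr G : Cfsg.IrrCharacter G) : G → ℂ) t = 1 := rfl
  have hd1 : d (oneIrr G) = 1 := by
    have h1 := hχ1 (oneIrr G)
    rw [hone1] at h1
    exact_mod_cast h1.symm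
  have ha1 : a (oneIrr G) = 1 := by
    have h1 := hat (oneIrr G)
    rw [honet] at h1
    exact_mod_cast h1.symm
  -- strict bound for nontrivial characters
  have hstrict : ∀ χ : Cfsg.IrrCharacter G, χ ≠ oneIrr G → |a χ| < (d χ : ℤ) := by
    intro χ hne
    have hn := Cfsg.Agent.Lib.Helper62_INV_E2.irr_norm_le' χ t
    have hn2 := Cfsg.Agent.Lib.Helper74_CharTools.not_norm_eq hna' χ hne t ht1
    have hlt : ‖(χ : G → ℂ) t‖ < (Cfsg.charDegree (χ : G → ℂ) : ℝ) := lt_of_le_of_ne hn hn2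
    rw [hat χ] at hlt
    have h2 : ((a χ : ℤ) : ℂ) = (((a χ : ℤ) : ℝ) : ℂ) := by push_cast; rfl
    rw [h2, Complex.norm_real, Real.norm_eq_abs] at hlt
    have h3 : ((|a χ| : ℤ) : ℝ) < ((d χ : ℤ) : ℝ) := by
      push_cast
      exact hlt
    exact_mod_cast h3
  -- characters of degree 4 vanish at `t`
  have hzero : ∀ χ : Cfsg.IrrCharacter G, d χ = 4 → a χ = 0 := by
    intro χ h4
    have hne : χ ≠ oneIrr G := by
      intro h
      rw [h, hd1] at h4
      omega
    have h1 := hstrict χ hne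
    rw [h4] at h1
    have h2 : a χ = 4 - 4 * (jf χ : ℤ) := by
      simp only [ha]
      rw [h4]
      norm_num
    rw [abs_lt] at h1
    omega
  -- the alternating square of `θ`
  have hθchar : Cfsg.IsCharacter G (θ : G → ℂ) :=
    Cfsg.Agent.Lib.Helper3_CharBridge.isCharacter_of_isIrrCharacter θ.2
  have hΛ := Cfsg.Agent.Lib.Helper68_F5040_ALTSQ.isCharacter_altSq (θ : G → ℂ) hθchar
  set Λ : G → ℂ := fun g => ((θ : G → ℂ) g ^ 2 - (θ : G → ℂ) (g * g)) / 2 with hΛdef
  have hθd : d θ = 4 := hθ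
  have hΛ1 : Λ 1 = 6 := by
    simp only [hΛdef, mul_one]
    rw [hχ1 θ, hθd]
    norm_num
  have hΛt : Λ t = -2 := by
    simp only [hΛdef, htt]
    rw [hχ1 θ, hat θ, hzero θ hθd, hθd]
    norm_num
  choose m hm using fun χ : Cfsg.IrrCharacter G =>
    Cfsg.Agent.Lib.Helper75_CharArith.classInner_isCharacter_nat hΛ
      (Cfsg.Agent.Lib.Helper3_CharBridge.isCharacter_of_isIrrCharacter χ.2)
  have hΛcf : Cfsg.IsClassFunction G Λ :=
    Cfsg.Agent.Lib.Helper3_CharBridge.isClassFunction_of_isCharacter hΛ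
  have hexp := Cfsg.Agent.Lib.Helper3_CharComplete.classFunction_eq_sum Λ hΛcf
  have hev : ∀ g : G, Λ g = ∑ χ : Cfsg.IrrCharacter G, (m χ : ℂ) * (χ : G → ℂ) g := by
    intro g
    have := congrFun hexp g
    rw [Finset.sum_apply] at this
    rw [this]
    refine Finset.sum_congr rfl fun χ _ => ?_
    rw [Pi.smul_apply, smul_eq_mul, hm χ]
  have h6 : ∑ χ : Cfsg.IrrCharacter G, (m χ : ℤ) * (d χ : ℤ) = 6 := by
    have h := hev 1
    rw [hΛ1] at h
    have h2 : ((∑ χ : Cfsg.IrrCharacter G, (m χ : ℤ) * (d χ : ℤ) : ℤ) : ℂ) = ((6 : ℤ) : ℂ) := by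
      push_cast
      rw [h]
      refine Finset.sum_congr rfl fun χ _ => ?_
      rw [hχ1 χ]
    exact_mod_cast h2
  have hm2 : ∑ χ : Cfsg.IrrCharacter G, (m χ : ℤ) * a χ = -2 := by
    have h := hev t
    rw [hΛt] at h
    have h2 : ((∑ χ : Cfsg.IrrCharacter G, (m χ : ℤ) * a χ : ℤ) : ℂ) = ((-2 : ℤ) : ℂ) := by
      push_cast
      rw [h]
      refine Finset.sum_congr rfl fun χ _ => ?_
      rw [hat χ]
    exact_mod_cast h2
  -- every constituent is nonnegative at `t`
  have hdpos : ∀ χ : Cfsg.IrrCharacter G, 1 ≤ d χ := by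
    intro χ
    have hdv := Cfsg.Agent.Lib.Helper77_BlockBasics.charDegree_dvd_card χ
    rw [hG] at hdv
    exact Nat.pos_of_dvd_of_pos hdv (by norm_num)
  have hnonneg : ∀ χ : Cfsg.IrrCharacter G, 0 ≤ (m χ : ℤ) * a χ := by
    intro χ
    by_cases hm0 : m χ = 0
    · rw [hm0]; simp
    · have hm1 : (1 : ℤ) ≤ (m χ : ℤ) := by
        have : 1 ≤ m χ := by omega
        exact_mod_cast this
      have h2 : (m χ : ℤ) * (d χ : ℤ) ≤ ∑ χ : Cfsg.IrrCharacter G, (m χ : ℤ) * (d χ : ℤ) :=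
        Finset.single_le_sum (f := fun χ : Cfsg.IrrCharacter G => (m χ : ℤ) * (d χ : ℤ))
          (fun _ _ => by positivity) (Finset.mem_univ χ)
      rw [h6] at h2
      have hd6 : d χ ≤ 6 := by
        have h3 : (d χ : ℤ) ≤ 6 := by
          have h4 : (0 : ℤ) ≤ (d χ : ℤ) := by positivity
          nlinarith
        exact_mod_cast h3
      have hd1' := hdpos χ
      have h7 : ¬ 7 ∣ d χ := by
        intro h
        have := Nat.le_of_dvd (by omega) h
        omega
      rcases hdeg χ h7 with h | h | h | h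
      · have hχ := Cfsg.Agent.Lib.Helper74_CharTools.eq_oneIrr_of_degree_one hna' χ h
        rw [hχ, ha1]
        positivity
      · rw [hzero χ h]
        simp
      · exfalso
        have : d χ = 15 := h
        omega
      · exfalso
        have : d χ = 20 := h
        omega
  have hge : 0 ≤ ∑ χ : Cfsg.IrrCharacter G, (m χ : ℤ) * a χ :=
    Finset.sum_nonneg fun χ _ => hnonneg χ
  omega

end Cfsg.Agent.Lib.Helper71_A7_NO4
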