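import Mathlib
import Cfsg.Prelude.Def_Solvable
import Cfsg.Prelude.Def_Transfer

/-!
# PK-9 for S1472 / S2016 (B-G Appendix C): the field model

A cyclic Frobenius complement `A` of order `(p^q-1)/(p-1)` acting on an elementary abelian
kernel `P` of order `p^q`: `P` is identified with the additive group of a finite field `F` of
order `p^q` so that `A` acts by multiplication with elements `ψ u` of `F`, and the fixed
points of the Frobenius map `t ↦ t^p` correspond to a given subgroup `P₀` of order `p`.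
-/

set_option autoImplicit false
set_option linter.style.haveILetI false
open Cfsg
open scoped Pointwise

namespace Cfsg.Agent.Lib.Helper71_AppC_PK9

/-- A free action of a finite group on a finite set: the group order divides the size. -/
theorem card_dvd_of_free {α β : Type*} [Group α] [Finite α] [MulAction α β] [Finite β]
    (h : ∀ b : β, ∀ a : α, a • b = b → a = 1) : Nat.card α ∣ Nat.card β := by
  classical
  have e := MulAction.selfEquivSigmaOrbitsQuotientStabilizer' α β
    (φ := Quotient.out) (fun ω => Quotient.out_eq' ω)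
  haveI : Finite (Quotient (MulAction.orbitRel α β)) := Quotient.finite _
  haveI : Fintype (Quotient (MulAction.orbitRel α β)) := Fintype.ofFinite _
  rw [Nat.card_congr e, Nat.card_sigma]
  apply Finset.dvd_sum
  intro ω _
  have hs : MulAction.stabilizer α (Quotient.out ω) = ⊥ := by
    rw [eq_bot_iff]
    intro a ha
    rw [MulAction.mem_stabilizer_iff] at ha
    exact (Subgroup.mem_bot).2 (h _ a ha)
  rw [hs]
  rw [Nat.card_congr (QuotientGroup.quotientBot (G := α)).toEquiv]

theorem num_irr (p q d : ℕ) (hp : 2 ≤ p) (hdq : d ≤ q)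
    (hdvd : (p ^ q - 1) / (p - 1) ∣ p ^ d - 1) : d = 0 ∨ d = q := by
  by_contra hcon
  have hd0 : d ≠ 0 := fun h => hcon (Or.inl h)
  have hdq' : d ≠ q := fun h => hcon (Or.inr h)
  have hq1 : 1 ≤ q := by omega
  have hdq1 : d ≤ q - 1 := by omega
  have hdiv : p - 1 ∣ p ^ q - 1 := by
    simpa only [one_pow] using Nat.sub_dvd_pow_sub_pow p 1 q
  have hmul : (p ^ q - 1) / (p - 1) * (p - 1) = p ^ q - 1 := Nat.div_mul_cancel hdiv
  generalize (p ^ q - 1) / (p - 1) = m at hmul hdvd
  have hpd : 2 ≤ p ^ d := by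
    calc 2 ≤ p := hp
      _ = p ^ 1 := (pow_one p).symm
      _ ≤ p ^ d := Nat.pow_le_pow_right (by omega) (by omega)
  have hle : m ≤ p ^ d - 1 := Nat.le_of_dvd (by omega) hdvd
  have hle2 : p ^ d ≤ p ^ (q - 1) := Nat.pow_le_pow_right (by omega) hdq1
  have hpq : p ^ q = p * p ^ (q - 1) := by
    rw [← pow_succ']; congr 1; omega
  obtain ⟨k, rfl⟩ : ∃ k, p = k + 2 := ⟨p - 2, by omega⟩
  have ha1 : 1 ≤ (k + 2) ^ (q - 1) := Nat.one_le_pow _ _ (by omega)
  generalize (k + 2) ^ (q - 1) = a at hle2 hpq ha1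
  have h1 : m * (k + 1) = (k + 2) * a - 1 := by
    rw [← hpq]; simpa using hmul
  have h2 : m ≤ a - 1 := by omega
  have h3 : m * (k + 1) ≤ (a - 1) * (k + 1) := Nat.mul_le_mul_right _ h2
  obtain ⟨b, rfl⟩ : ∃ b, a = b + 1 := ⟨a - 1, by omega⟩
  have h4 : (k + 2) * (b + 1) - 1 = k * b + k + 2 * b + 1 := by
    have : (k + 2) * (b + 1) = k * b + k + 2 * b + 2 := by ring
    omega
  have h5 : (b + 1 - 1) * (k + 1) = k * b + b := by
    simp; ring
  rw [h1, h4, h5] at h3
  omega

theorem irr_of_free {V : Type*} [AddCommGroup V] [Finite V] {A : Type*} [Group A] [Finite A]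
    (p q : ℕ) [hpf : Fact p.Prime] (φ : A →* AddMonoid.End V)
    (hV : Nat.card V = p ^ q) (hA : Nat.card A = (p ^ q - 1) / (p - 1))
    (hfree : ∀ u : A, ∀ v : V, v ≠ 0 → φ u v = v → u = 1)
    (W : AddSubgroup V) (hW : ∀ u : A, ∀ w ∈ W, φ u w ∈ W) : W = ⊥ ∨ W = ⊤ := by
  classical
  have hinj : ∀ u : A, ∀ v : V, φ u v = 0 → v = 0 := by
    intro u v h
    have h2 : φ u⁻¹ (φ u v) = v := by
      show (φ u⁻¹ * φ u) v = v
      rw [← map_mul, inv_mul_cancel, map_one]
      rfl
    rw [h, map_zero] at h2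
    exact h2.symm
  have hdvd : Nat.card W ∣ p ^ q := hV ▸ AddSubgroup.card_addSubgroup_dvd_card W
  obtain ⟨d, hdq, hd⟩ := (Nat.dvd_prime_pow hpf.out).1 hdvd
  let X : Set V := (W : Set V) \ {0}
  let _inst : MulAction A X :=
    { smul := fun u x => ⟨φ u x.1, hW u _ x.2.1, fun h => x.2.2 (hinj u _ h)⟩
      one_smul := by
        intro x
        apply Subtype.ext
        show φ 1 x.1 = x.1
        rw [map_one]; rfl
      mul_smul := by
        intro u v x
        apply Subtype.ext
        show φ (u * v) x.1 = φ u (φ v x.1)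
        rw [map_mul]; rfl }
  have hfreeX : ∀ x : X, ∀ u : A, u • x = x → u = 1 := by
    intro x u h
    have h1 : φ u x.1 = x.1 := congrArg Subtype.val h
    exact hfree u x.1 (fun h0 => x.2.2 h0) h1
  have hX : Nat.card X = p ^ d - 1 := by
    rw [Nat.card_coe_set_eq, Set.ncard_sdiff_singleton_of_mem (show (0 : V) ∈ (W : Set V) from W.zero_mem),
      ← hd]
    rfl
  have h1 := card_dvd_of_free hfreeX
  rw [hX, hA] at h1
  rcases num_irr p q d hpf.out.two_le hdq h1 with h0 | hq
  · left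
    rw [h0, pow_zero] at hd
    exact AddSubgroup.card_eq_one.1 hd
  · right
    rw [hq, ← hV] at hd
    exact AddSubgroup.card_eq_iff_eq_top W |>.1 hd

open Polynomial in
theorem pow_eq_self_natCast {R : Type*} [CommRing R] [IsDomain R] (p : ℕ) [hpf : Fact p.Prime]
    [CharP R p] (r : R) (h : r ^ p = r) : ∃ n : ℕ, r = (n : R) := by
  classical
  have hcast : ∀ n : ℕ, ((n : R)) ^ p = (n : R) := by
    intro n
    have h1 : ((n : ZMod p)) ^ p = (n : ZMod p) := ZMod.pow_card _
    have h2 := congrArg (ZMod.castHom (dvd_refl p) R) h1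
    rw [map_pow, map_natCast] at h2
    exact h2
  have hdeg : (X ^ p - X : R[X]).natDegree = p := by
    rw [natDegree_sub_eq_left_of_natDegree_lt, natDegree_X_pow]
    rw [natDegree_X_pow, natDegree_X]
    exact hpf.out.one_lt
  have hne : (X ^ p - X : R[X]) ≠ 0 := by
    intro h0
    rw [h0, natDegree_zero] at hdeg
    exact hpf.out.ne_zero hdeg.symm
  let T : Finset R := (Finset.range p).image (fun n : ℕ => (n : R))
  have hTcard : T.card = p := by
    rw [Finset.card_image_of_injOn, Finset.card_range]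
    intro a ha b hb hab
    exact CharP.natCast_injOn_Iio R p (by simpa using ha) (by simpa using hb) hab
  have hsub : T ⊆ (X ^ p - X : R[X]).roots.toFinset := by
    intro t ht
    obtain ⟨n, _, rfl⟩ := Finset.mem_image.1 ht
    rw [Multiset.mem_toFinset, mem_roots hne, IsRoot.def, eval_sub, eval_pow, eval_X, hcast, sub_self]
  have hle : (X ^ p - X : R[X]).roots.toFinset.card ≤ T.card := by
    rw [hTcard]
    calc (X ^ p - X : R[X]).roots.toFinset.card ≤ Multiset.card (X ^ p - X : R[X]).roots :=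
          Multiset.toFinset_card_le _
      _ ≤ (X ^ p - X : R[X]).natDegree := Polynomial.card_roots' _
      _ = p := hdeg
  have heq := Finset.eq_of_subset_of_card_le hsub hle
  have hr : r ∈ (X ^ p - X : R[X]).roots.toFinset := by
    rw [Multiset.mem_toFinset, mem_roots hne, IsRoot.def, eval_sub, eval_pow, eval_X, h, sub_self]
  rw [← heq] at hr
  obtain ⟨n, _, rfl⟩ := Finset.mem_image.1 hr
  exact ⟨n, rfl⟩

theorem exists_small_field (R : Type*) [CommRing R] [IsDomain R] [Finite R] :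
    ∃ (F : Type) (_ : Field F) (_ : Fintype F), Nonempty (F ≃+* R) := by
  classical
  letI : Fintype R := Fintype.ofFinite R
  letI instF : Field R := Fintype.fieldOfDomain R
  haveI : Small.{0} R := Countable.toSmall R
  exact ⟨Shrink.{0} R, inferInstance, Fintype.ofFinite _, ⟨Shrink.ringEquiv R⟩⟩

theorem field_model {V : Type*} [AddCommGroup V] [Finite V] {A : Type*} [Group A] [Finite A]
    (p q : ℕ) [hpf : Fact p.Prime] (φ : A →* AddMonoid.End V)
    (hcomm : ∀ a b : A, a * b = b * a)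
    (hp : ∀ v : V, p • v = 0)
    (hV : Nat.card V = p ^ q) (hA : Nat.card A = (p ^ q - 1) / (p - 1))
    (hfree : ∀ u : A, ∀ v : V, v ≠ 0 → φ u v = v → u = 1)
    (x₀ : V) (hx₀ : x₀ ≠ 0) :
    ∃ (F : Type) (_ : Field F) (_ : Fintype F) (f : V → F) (ψ : A → F),
      Function.Bijective f ∧ (∀ x z, f (x + z) = f x + f z) ∧
      (∀ u, ψ u ≠ 0) ∧ (∀ u x, f (φ u x) = ψ u * f x) ∧
      (∀ u v, ψ (u * v) = ψ u * ψ v) ∧ Function.Injective ψ ∧
      (∀ x, f x ^ p = f x → x ∈ AddSubgroup.zmultiples x₀) := by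
  classical
  have hirr := irr_of_free p q φ hV hA hfree
  have hS : ∀ a ∈ Set.range φ, ∀ b ∈ Set.range φ, a * b = b * a := by
    rintro _ ⟨u, rfl⟩ _ ⟨v, rfl⟩
    rw [← map_mul, ← map_mul, hcomm]
  have hRc : IsMulCommutative (Subring.closure (Set.range φ)) :=
    Subring.isMulCommutative_closure hS
  set R : Subring (AddMonoid.End V) := Subring.closure (Set.range φ) with hR
  letI instCR : CommRing R :=
    { (inferInstance : Ring R) with mul_comm := fun a b => mul_comm' a b }
  have hφR : ∀ u, φ u ∈ R := fun u => Subring.subset_closure ⟨u, rfl⟩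
  have hcommR : ∀ (r : R) (u : A) (v : V),
      (r : AddMonoid.End V) (φ u v) = φ u ((r : AddMonoid.End V) v) := by
    intro r u v
    have h1 : r * ⟨φ u, hφR u⟩ = ⟨φ u, hφR u⟩ * r := mul_comm' _ _
    have h2 := congrArg (fun s : R => (s : AddMonoid.End V) v) h1
    exact h2
  have hinj : ∀ r : R, r ≠ 0 → ∀ v, (r : AddMonoid.End V) v = 0 → v = 0 := by
    intro r hr v hv
    let W : AddSubgroup V := AddMonoidHom.ker (show V →+ V from (r : AddMonoid.End V))
    have hW : ∀ u : A, ∀ w ∈ W, φ u w ∈ W := by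
      intro u w hw
      have hw' : (r : AddMonoid.End V) w = 0 := hw
      show (r : AddMonoid.End V) (φ u w) = 0
      rw [hcommR, hw', map_zero]
    rcases hirr W hW with h0 | h1
    · have hvW : v ∈ W := hv
      rw [h0] at hvW
      exact AddSubgroup.mem_bot.1 hvW
    · exfalso
      apply hr
      apply Subtype.ext
      apply AddMonoid.End.ext
      intro w
      have hwW : w ∈ W := h1 ▸ AddSubgroup.mem_top w
      exact hwW
  haveI instNT : Nontrivial R := ⟨⟨1, 0, fun h => hx₀ (by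
    have h2 := congrArg (fun s : R => (s : AddMonoid.End V) x₀) h
    exact h2)⟩⟩
  haveI instNZD : NoZeroDivisors R := ⟨by
    intro r s hrs
    by_contra hcon
    have hr : r ≠ 0 := fun h => hcon (Or.inl h)
    apply hcon
    right
    apply Subtype.ext
    apply AddMonoid.End.ext
    intro v
    have h2 : (r : AddMonoid.End V) ((s : AddMonoid.End V) v) = 0 :=
      congrArg (fun t : R => (t : AddMonoid.End V) v) hrs
    exact hinj r hr _ h2⟩
  haveI instDom : IsDomain R := NoZeroDivisors.to_isDomain R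
  haveI instFinE : Finite (AddMonoid.End V) :=
    Finite.of_injective (fun f : AddMonoid.End V => (f : V → V)) DFunLike.coe_injective
  haveI instFinR : Finite R := Subtype.finite
  haveI instChar : CharP R p := (CharP.charP_iff_prime_eq_zero hpf.out).2 (by
    apply Subtype.ext
    apply AddMonoid.End.ext
    intro v
    show ((p : R) : AddMonoid.End V) v = 0
    rw [Subring.coe_natCast, AddMonoid.End.natCast_apply, hp])
  -- evaluation
  have hev_inj : Function.Injective (fun r : R => (r : AddMonoid.End V) x₀) := by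
    intro r s h
    by_contra hne
    have hrs : r - s ≠ 0 := sub_ne_zero.2 hne
    apply hx₀
    apply hinj (r - s) hrs
    have h' : (r : AddMonoid.End V) x₀ = (s : AddMonoid.End V) x₀ := h
    show (r : AddMonoid.End V) x₀ - (s : AddMonoid.End V) x₀ = 0
    rw [h', sub_self]
  have hev_surj : Function.Surjective (fun r : R => (r : AddMonoid.End V) x₀) := by
    let W : AddSubgroup V :=
      { carrier := Set.range (fun r : R => (r : AddMonoid.End V) x₀)
        zero_mem' := ⟨0, rfl⟩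
        add_mem' := by
          rintro _ _ ⟨r, rfl⟩ ⟨s, rfl⟩
          exact ⟨r + s, rfl⟩
        neg_mem' := by
          rintro _ ⟨r, rfl⟩
          exact ⟨-r, rfl⟩ }
    have hW : ∀ u : A, ∀ w ∈ W, φ u w ∈ W := by
      rintro u _ ⟨r, rfl⟩
      exact ⟨⟨φ u, hφR u⟩ * r, rfl⟩
    rcases hirr W hW with h0 | h1
    · exfalso
      apply hx₀
      have : x₀ ∈ W := ⟨1, rfl⟩
      rw [h0] at this
      exact AddSubgroup.mem_bot.1 this
    · intro v
      have : v ∈ W := h1 ▸ AddSubgroup.mem_top v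
      exact this
  obtain ⟨F, instField, instFT, ⟨e⟩⟩ := exists_small_field R
  let ev : R ≃ V := Equiv.ofBijective _ ⟨hev_inj, hev_surj⟩
  have hev : ∀ r : R, ev r = (r : AddMonoid.End V) x₀ := fun r => rfl
  refine ⟨F, instField, instFT, fun v => e.symm (ev.symm v), fun u => e.symm ⟨φ u, hφR u⟩,
    ?_, ?_, ?_, ?_, ?_, ?_, ?_⟩
  · exact e.symm.bijective.comp ev.symm.bijective
  · intro x z
    show e.symm (ev.symm (x + z)) = e.symm (ev.symm x) + e.symm (ev.symm z)
    rw [← map_add]
    congr 1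
    apply ev.injective
    rw [Equiv.apply_symm_apply, hev]
    show x + z = (ev.symm x : AddMonoid.End V) x₀ + (ev.symm z : AddMonoid.End V) x₀
    rw [← hev, ← hev, Equiv.apply_symm_apply, Equiv.apply_symm_apply]
  · intro u h
    have h1 : (⟨φ u, hφR u⟩ : R) = 0 := by
      have := congrArg e h
      simpa using this
    have h2 : φ u (φ u⁻¹ x₀) = 0 := by
      have := congrArg (fun s : R => (s : AddMonoid.End V) (φ u⁻¹ x₀)) h1
      exact this
    have h3 : φ u (φ u⁻¹ x₀) = x₀ := by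
      show (φ u * φ u⁻¹) x₀ = x₀
      rw [← map_mul, mul_inv_cancel, map_one]
      rfl
    exact hx₀ (h3.symm.trans h2)
  · intro u x
    show e.symm (ev.symm (φ u x)) = e.symm ⟨φ u, hφR u⟩ * e.symm (ev.symm x)
    rw [← map_mul]
    congr 1
    apply ev.injective
    rw [Equiv.apply_symm_apply, hev]
    show φ u x = φ u ((ev.symm x : AddMonoid.End V) x₀)
    rw [← hev, Equiv.apply_symm_apply]
  · intro u v
    show e.symm ⟨φ (u * v), hφR (u * v)⟩ = e.symm ⟨φ u, hφR u⟩ * e.symm ⟨φ v, hφR v⟩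
    rw [← map_mul]
    congr 1
    apply Subtype.ext
    show φ (u * v) = φ u * φ v
    exact map_mul φ u v
  · intro u v h
    have h1 : (⟨φ u, hφR u⟩ : R) = ⟨φ v, hφR v⟩ := e.symm.injective h
    have h2 : φ u = φ v := congrArg Subtype.val h1
    have h3 : φ (u * v⁻¹) x₀ = x₀ := by
      rw [map_mul, h2, ← map_mul, mul_inv_cancel, map_one]
      rfl
    have h4 := hfree (u * v⁻¹) x₀ hx₀ h3
    exact mul_inv_eq_one.1 h4
  · intro x hx
    have hx' : e.symm (ev.symm x) ^ p = e.symm (ev.symm x) := hx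
    rw [← map_pow] at hx'
    have h1 : (ev.symm x) ^ p = ev.symm x := e.symm.injective hx'
    obtain ⟨n, hn⟩ := pow_eq_self_natCast p (ev.symm x) h1
    have h2 : x = ev (n : R) := by rw [← hn, Equiv.apply_symm_apply]
    rw [h2, hev, Subring.coe_natCast, AddMonoid.End.natCast_apply]
    exact AddSubgroup.nsmul_mem_zmultiples x₀ n

theorem mem_conj_smul_subgroupOf {G : Type*} [Group G] {H A : Subgroup G} (g x : H) :
    x ∈ MulAut.conj g • (A.subgroupOf H) ↔ (g : G)⁻¹ * x * g ∈ A := by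
  rw [Subgroup.mem_pointwise_smul_iff_inv_smul_mem, Subgroup.mem_subgroupOf, ← map_inv,
    MulAut.smul_def, MulAut.conj_apply]
  simp

/-- Group-theoretic consequences of the Frobenius hypotheses. -/
theorem frob_basic {G : Type*} [Group G] (H A P : Subgroup G) (hAH : A ≤ H) (hPH : P ≤ H)
    (hfc : IsFrobeniusComplement (A.subgroupOf H))
    (hfk : frobeniusKernel (A.subgroupOf H) = (P.subgroupOf H : Set ↥H)) :
    (∀ h ∈ H, ∀ x ∈ P, h * x * h⁻¹ ∈ P) ∧ (∀ x ∈ A, x ∈ P → x = 1) ∧
    (∀ u ∈ A, ∀ x ∈ P, x ≠ 1 → u * x * u⁻¹ = x → u = 1) := by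
  have hout : ∀ x ∈ P, x ≠ 1 → ∀ g ∈ H, g⁻¹ * x * g ∉ A := by
    intro x hx hx1 g hg hmem
    have hx' : (⟨x, hPH hx⟩ : H) ∈ frobeniusKernel (A.subgroupOf H) := by
      rw [hfk]
      exact (Subgroup.mem_subgroupOf.2 hx)
    rcases hx' with h1 | h2
    · exact hx1 (congrArg Subtype.val h1)
    · exact h2 ⟨g, hg⟩ ((mem_conj_smul_subgroupOf _ _).2 hmem)
  have hin : ∀ x ∈ H, (∀ g ∈ H, g⁻¹ * x * g ∉ A) → x ∈ P := by
    intro x hx h
    have hx' : (⟨x, hx⟩ : H) ∈ frobeniusKernel (A.subgroupOf H) :=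
      Or.inr (fun g hmem => h g g.2 ((mem_conj_smul_subgroupOf _ _).1 hmem))
    rw [hfk] at hx'
    exact Subgroup.mem_subgroupOf.1 hx'
  have hAP : ∀ x ∈ A, x ∈ P → x = 1 := by
    intro x hxA hxP
    by_contra hx1
    apply hout x hxP hx1 1 H.one_mem
    simpa using hxA
  refine ⟨?_, hAP, ?_⟩
  · intro h hh x hx
    by_cases hx1 : x = 1
    · rw [hx1]; simp [P.one_mem]
    · apply hin _ (H.mul_mem (H.mul_mem hh (hPH hx)) (H.inv_mem hh))
      intro g hg hmem
      apply hout x hx hx1 (h⁻¹ * g) (H.mul_mem (H.inv_mem hh) hg)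
      have : (h⁻¹ * g)⁻¹ * x * (h⁻¹ * g) = g⁻¹ * (h * x * h⁻¹) * g := by group
      rw [this]; exact hmem
  · intro u hu x hx hx1 hux
    have hxA : x ∉ A := fun hxA => hx1 (hAP x hxA hx)
    have hxA' : (⟨x, hPH hx⟩ : H) ∉ A.subgroupOf H := fun h => hxA (Subgroup.mem_subgroupOf.1 h)
    have hbot := hfc.2.2 ⟨x, hPH hx⟩ hxA'
    have hu' : (⟨u, hAH hu⟩ : H) ∈ A.subgroupOf H ⊓ MulAut.conj (⟨x, hPH hx⟩ : H) • A.subgroupOf H := by
      refine Subgroup.mem_inf.2 ⟨Subgroup.mem_subgroupOf.2 hu, ?_⟩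
      rw [mem_conj_smul_subgroupOf]
      show x⁻¹ * u * x ∈ A
      have : x⁻¹ * u * x = u := by
        have h2 : u * x = x * u := by
          have := congrArg (· * u) hux
          simpa [mul_assoc] using this
        rw [mul_assoc, h2, ← mul_assoc, inv_mul_cancel, one_mul]
      rw [this]; exact hu
    rw [hbot] at hu'
    exact congrArg Subtype.val (Subgroup.mem_bot.1 hu')

theorem PK9 {G : Type*} [Group G] [Finite G] (p q : ℕ) [Fact p.Prime] [Fact q.Prime]
    (H A P : Subgroup G) (hAH : A ≤ H) (hPH : P ≤ H) (hsup : A ⊔ P = H)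
    (hfc : IsFrobeniusComplement (A.subgroupOf H))
    (hfk : frobeniusKernel (A.subgroupOf H) = (P.subgroupOf H : Set ↥H))
    (hPel : IsElementaryAbelian p P) (hPcard : Nat.card P = p ^ q) (hAcyc : IsCyclic ↥A)
    (hAcard : Nat.card A = (p ^ q - 1) / (p - 1))
    (P₀ : Subgroup G) (hP₀ : P₀ ≤ P) (hP₀card : Nat.card P₀ = p) :
    ∃ (F : Type) (_ : Field F) (_ : Fintype F) (f ψ : G → F),
      Fintype.card F = p ^ q ∧ Set.BijOn f (P : Set G) Set.univ ∧
      (∀ x ∈ P, ∀ z ∈ P, f (x * z) = f x + f z) ∧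
      A ≤ Subgroup.normalizer (P : Set G) ∧
      (∀ u ∈ A, ψ u ≠ 0 ∧ ∀ x ∈ P, f (u * x * u⁻¹) = ψ u * f x) ∧
      (∀ u ∈ A, ∀ v ∈ A, ψ (u * v) = ψ u * ψ v) ∧ Set.InjOn ψ (A : Set G) ∧
      (∀ x ∈ P, f x ^ p = f x → x ∈ P₀) := by
  classical
  obtain ⟨hnorm, hAP, hfpf⟩ := frob_basic H A P hAH hPH hfc hfk
  obtain ⟨hPc, hPp⟩ := hPel
  letI instCG : CommGroup ↥P :=
    { (inferInstance : Group ↥P) with mul_comm := fun a b => mul_comm' a b }
  have hAN : ∀ u ∈ A, ∀ x ∈ P, u * x * u⁻¹ ∈ P := fun u hu x hx => hnorm u (hAH hu) x hx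
  let φ : ↥A →* AddMonoid.End (Additive ↥P) :=
    { toFun := fun u => AddMonoidHom.mk'
        (fun x => Additive.ofMul (⟨(u : G) * (Additive.toMul x : ↥P) * (u : G)⁻¹,
          hAN u u.2 _ (Additive.toMul x).2⟩ : ↥P))
        (by
          intro a b
          apply congrArg Additive.ofMul
          apply Subtype.ext
          show (u : G) * ((Additive.toMul a : ↥P) * (Additive.toMul b : ↥P) : ↥P) * (u : G)⁻¹ =
            ((u : G) * (Additive.toMul a : ↥P) * (u : G)⁻¹) *
              ((u : G) * (Additive.toMul b : ↥P) * (u : G)⁻¹)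
          rw [Subgroup.coe_mul]
          group)
      map_one' := by
        apply AddMonoid.End.ext
        intro x
        apply congrArg Additive.ofMul
        apply Subtype.ext
        show ((1 : ↥A) : G) * (Additive.toMul x : ↥P) * ((1 : ↥A) : G)⁻¹ = (Additive.toMul x : ↥P)
        simp
      map_mul' := by
        intro u v
        apply AddMonoid.End.ext
        intro x
        apply congrArg Additive.ofMul
        apply Subtype.ext
        show ((u * v : ↥A) : G) * (Additive.toMul x : ↥P) * ((u * v : ↥A) : G)⁻¹ =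
          (u : G) * ((v : G) * (Additive.toMul x : ↥P) * (v : G)⁻¹) * (u : G)⁻¹
        rw [Subgroup.coe_mul]
        group }
  have hφ : ∀ (u : ↥A) (x : ↥P), φ u (Additive.ofMul x) =
      Additive.ofMul (⟨(u : G) * x * (u : G)⁻¹, hAN u u.2 _ x.2⟩ : ↥P) := fun u x => rfl
  -- a nontrivial element of `P₀`
  have hp2 : 2 ≤ p := (Fact.out : p.Prime).two_le
  have hP₀ne : P₀ ≠ ⊥ := by
    intro h
    rw [h, Subgroup.card_bot] at hP₀card
    omega
  obtain ⟨y₀, hy₀⟩ := (Subgroup.ne_bot_iff_exists_ne_one).1 hP₀ne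
  have hy₀P : (y₀ : G) ∈ P := hP₀ y₀.2
  have hy₀1 : (⟨(y₀ : G), hy₀P⟩ : ↥P) ≠ 1 := by
    intro h
    apply hy₀
    apply Subtype.ext
    exact congrArg (fun w : ↥P => (w : G)) h
  haveI : Finite (Additive ↥P) := inferInstanceAs (Finite ↥P)
  have hcomm : ∀ a b : ↥A, a * b = b * a := fun a b => mul_comm' a b
  have hpV : ∀ v : Additive ↥P, p • v = 0 := by
    intro v
    have h1 : (Additive.toMul v : ↥P) ^ p = 1 := by
      apply Subtype.ext
      rw [Subgroup.coe_pow]
      exact hPp _ (Additive.toMul v).2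
    show Additive.ofMul ((Additive.toMul v : ↥P) ^ p) = 0
    rw [h1]
    rfl
  have hVcard : Nat.card (Additive ↥P) = p ^ q := hPcard
  have hfree : ∀ u : ↥A, ∀ v : Additive ↥P, v ≠ 0 → φ u v = v → u = 1 := by
    intro u v hv huv
    have hv1 : ((Additive.toMul v : ↥P) : G) ≠ 1 := by
      intro h
      apply hv
      have : (Additive.toMul v : ↥P) = 1 := Subtype.ext h
      exact this
    have h2 : (u : G) * (Additive.toMul v : ↥P) * (u : G)⁻¹ = (Additive.toMul v : ↥P) :=
      congrArg (fun w : Additive ↥P => ((Additive.toMul w : ↥P) : G)) huv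
    exact Subtype.ext (hfpf u u.2 _ (Additive.toMul v).2 hv1 h2)
  obtain ⟨F, instField, instFT, f', ψ', hbij, hadd, hψ0, hfφ, hψmul, hψinj, hpow⟩ :=
    field_model p q φ hcomm hpV hVcard hAcard hfree
      (Additive.ofMul (⟨(y₀ : G), hy₀P⟩ : ↥P)) hy₀1
  refine ⟨F, instField, instFT,
    fun g => if h : g ∈ P then f' (Additive.ofMul (⟨g, h⟩ : ↥P)) else 0,
    fun g => if h : g ∈ A then ψ' ⟨g, h⟩ else 0, ?_, ?_, ?_, ?_, ?_, ?_, ?_, ?_⟩
  · rw [← Nat.card_eq_fintype_card, ← Nat.card_congr (Equiv.ofBijective f' hbij), hVcard]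
  · refine ⟨fun _ _ => Set.mem_univ _, ?_, ?_⟩
    · intro x hx y hy hxy
      have hx' : x ∈ P := hx
      have hy' : y ∈ P := hy
      simp only [dif_pos hx', dif_pos hy'] at hxy
      have h1 := hbij.1 hxy
      exact congrArg (fun w : Additive ↥P => ((Additive.toMul w : ↥P) : G)) h1
    · intro c _
      obtain ⟨v, hv⟩ := hbij.2 c
      refine ⟨((Additive.toMul v : ↥P) : G), (Additive.toMul v).2, ?_⟩
      simp only [dif_pos (Additive.toMul v).2]
      exact hv
  · intro x hx z hz
    simp only [dif_pos hx, dif_pos hz, dif_pos (P.mul_mem hx hz)]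
    rw [← hadd]
    rfl
  · intro u hu
    rw [Subgroup.mem_set_normalizer_iff]
    intro x
    constructor
    · intro hx
      exact hAN u hu x hx
    · intro hx
      have h1 := hAN u⁻¹ (A.inv_mem hu) _ hx
      have h2 : u⁻¹ * (u * x * u⁻¹) * u⁻¹⁻¹ = x := by group
      rw [h2] at h1
      exact h1
  · intro u hu
    refine ⟨?_, ?_⟩
    · simp only [dif_pos hu]
      exact hψ0 _
    · intro x hx
      simp only [dif_pos hu, dif_pos hx, dif_pos (hAN u hu x hx)]
      rw [← hfφ]
      rfl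
  · intro u hu v hv
    simp only [dif_pos hu, dif_pos hv, dif_pos (A.mul_mem hu hv)]
    rw [← hψmul]
    rfl
  · intro u hu v hv huv
    have hu' : u ∈ A := hu
    have hv' : v ∈ A := hv
    simp only [dif_pos hu', dif_pos hv'] at huv
    exact congrArg Subtype.val (hψinj huv)
  · intro x hx hxp
    simp only [dif_pos hx] at hxp
    have h1 := hpow _ hxp
    obtain ⟨k, hk⟩ := AddSubgroup.mem_zmultiples_iff.1 h1
    have h2 : ((⟨(y₀ : G), hy₀P⟩ : ↥P) ^ k : ↥P) = ⟨x, hx⟩ := hk
    have h3 : (y₀ : G) ^ k = x := by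
      have := congrArg Subtype.val h2
      rw [Subgroup.coe_zpow] at this
      exact this
    rw [← h3]
    exact P₀.zpow_mem y₀.2 k

end Cfsg.Agent.Lib.Helper71_AppC_PK9
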