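import Mathlib
import Cfsg.Prelude.Def_Solvable
import Cfsg.Agent.S0035
import Cfsg.Agent.Lib.Helper71_Frobenius
import Cfsg.Agent.Lib.Helper71_FrobCount
import Cfsg.Agent.Lib.Helper71_QuatFrob
import Cfsg.Agent.Lib.Helper24_CoprimeAction

/-!
# An elementary abelian group of rank two cannot act without fixed points

`pow_eq_one_of_fpf`: if commuting elements `s`, `t` of exponent `p` act on an abelian group `M`
so that every `s ^ l` (`0 < l < p`) and every `s ^ i * t` acts without fixed points, then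
`M` has exponent `p`.

`not_exists_rank_two`: a Frobenius complement contains no subgroup `Z_p × Z_p`.
-/

set_option autoImplicit false

namespace Cfsg.Agent.Lib.Helper71_FpfRank

open Cfsg
open scoped Pointwise

section core

variable {G M : Type*} [Group G] [CommGroup M] [MulDistribMulAction G M]

/-- the norm of a fixed-point-free element of exponent `p` is trivial. -/
theorem prod_pow_smul_eq_one (p : ℕ) (c : G) (hc : c ^ p = 1)
    (hf : ∀ m : M, c • m = m → m = 1) (m : M) :
    ∏ l ∈ Finset.range p, (c ^ l) • m = 1 := by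
  apply hf
  rw [Finset.smul_prod']
  have h1 : ∀ l ∈ Finset.range p, c • (c ^ l) • m = (c ^ (l + 1)) • m := by
    intro l _
    rw [← mul_smul, ← pow_succ']
  rw [Finset.prod_congr rfl h1]
  have h2 := Finset.prod_range_succ' (fun l => (c ^ l) • m) p
  have h3 := Finset.prod_range_succ (fun l => (c ^ l) • m) p
  rw [h3] at h2
  simp only [hc, pow_zero] at h2
  exact (mul_right_cancel h2).symm

theorem pow_eq_one_of_fpf (p : ℕ) (s t : G) (hst : s * t = t * s)
    (hs : s ^ p = 1) (ht : t ^ p = 1)
    (hfs : ∀ l, 0 < l → l < p → ∀ m : M, (s ^ l) • m = m → m = 1)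
    (hft : ∀ i, i < p → ∀ m : M, (s ^ i * t) • m = m → m = 1) (m : M) :
    m ^ p = 1 := by
  have hcomm : Commute s t := hst
  have h1 : ∏ i ∈ Finset.range p, ∏ l ∈ Finset.range p, ((s ^ i * t) ^ l) • m = 1 := by
    apply Finset.prod_eq_one
    intro i hi
    apply prod_pow_smul_eq_one p (s ^ i * t) _ (hft i (Finset.mem_range.mp hi))
    rw [(hcomm.pow_left i).mul_pow, ← pow_mul, mul_comm i p, pow_mul, hs, one_pow, ht, one_mul]
  rw [Finset.prod_comm] at h1
  have h2 : ∀ l ∈ Finset.range p, l ≠ 0 →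
      ∏ i ∈ Finset.range p, ((s ^ i * t) ^ l) • m = 1 := by
    intro l hl hl0
    have h3 : ∀ i ∈ Finset.range p, ((s ^ i * t) ^ l) • m = ((s ^ l) ^ i) • ((t ^ l) • m) := by
      intro i _
      rw [(hcomm.pow_left i).mul_pow, ← pow_mul, mul_comm i l, pow_mul, mul_smul]
    rw [Finset.prod_congr rfl h3]
    apply prod_pow_smul_eq_one p (s ^ l) _
      (hfs l (Nat.pos_of_ne_zero hl0) (Finset.mem_range.mp hl))
    rw [← pow_mul, mul_comm l p, pow_mul, hs, one_pow]
  by_cases hp : p = 0
  · subst hp; simp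
  rw [Finset.prod_eq_single_of_mem 0 (Finset.mem_range.mpr (Nat.pos_of_ne_zero hp)) h2] at h1
  simpa using h1

end core

section frob

open Cfsg.Agent.Lib.Helper24_CoprimeAction

variable {L : Type*} [Group L]

/-- A Frobenius complement contains no elementary abelian subgroup of rank two: two commuting
elements `z`, `b` of order `p` with `b ∉ ⟨z⟩`. -/
theorem no_rank_two [Finite L] (H : Subgroup L) (hF : IsFrobeniusComplement H)
    (p : ℕ) [hp : Fact p.Prime] (z b : L) (hz : z ∈ H) (hb : b ∈ H) (hzb : z * b = b * z)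
    (hzp : z ^ p = 1) (hbp : b ^ p = 1) (hz1 : z ≠ 1) (hbz : b ∉ Subgroup.zpowers z) : False := by
  obtain ⟨K, hKset, hKn, -⟩ := Cfsg.Agent.S0035.result H hF
  have := hKn
  have hcardK : Nat.card K = H.index := by
    rw [← Cfsg.Agent.Lib.Helper71_FrobCount.card_frobeniusKernel H hF, ← hKset]; rfl
  have hmemK : ∀ k ∈ K, k ∈ frobeniusKernel H := fun k hk => hKset ▸ hk
  have hcop : (Nat.card H).Coprime (Nat.card K) := by
    rw [hcardK, Nat.coprime_comm]
    have h1 := Cfsg.Agent.Lib.Helper71_FrobCount.index_mod_card H hF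
    have h2 : Nat.gcd H.index (Nat.card H) = Nat.gcd 1 (Nat.card H) := Nat.ModEq.gcd_eq h1
    rw [Nat.Coprime, h2]; simp
  have hordz : orderOf z = p := orderOf_eq_prime hzp hz1
  have hpH : p ∣ Nat.card H := by
    rw [← hordz]
    have h1 := orderOf_dvd_natCard (⟨z, hz⟩ : H)
    rwa [Subgroup.orderOf_mk] at h1
  have hK1 : Nat.card K ≠ 1 := by
    rw [hcardK]; intro h; exact hF.2.1 (Subgroup.index_eq_one.mp h)
  obtain ⟨q, hq, hqK⟩ := Nat.exists_prime_and_dvd hK1
  have : Fact q.Prime := ⟨hq⟩
  have hqp : q ≠ p := by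
    rintro rfl
    have h1 := Nat.dvd_gcd hpH hqK
    rw [hcop] at h1
    exact hq.one_lt.ne' (Nat.dvd_one.mp h1)
  -- the group generated by `z` and `b`
  set A : Subgroup L := Subgroup.closure {z, b} with hA
  have hAH : A ≤ H := by
    rw [hA, Subgroup.closure_le]
    rintro x (rfl | rfl)
    · exact hz
    · exact hb
  have hAcomm : ∀ x y : A, x * y = y * x := by
    apply isMulCommutative_iff.mp
    apply Subgroup.isMulCommutative_closure
    rintro x (rfl | rfl) y (rfl | rfl)
    · rfl
    · exact hzb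
    · exact hzb.symm
    · rfl
  have hAsolv : Group.IsSolvable A := Group.isSolvable_of_comm hAcomm
  have hAK : A ≤ Subgroup.normalizer (K : Set L) := by
    rw [Subgroup.normalizer_eq_top]; exact le_top
  have hAcop : (Nat.card A).Coprime (Nat.card K) :=
    Nat.Coprime.coprime_dvd_left (Subgroup.card_dvd_of_le hAH) hcop
  obtain ⟨Q, hQ⟩ := exists_invariant_sylow A K hAK hAcop (Or.inl hAsolv) q
  set Q' : Subgroup L := sylowImage Q with hQ'
  have hQ'K : Q' ≤ K := Subgroup.map_subtype_le _
  have hQ'p : IsPGroup q Q' := Q.2.map K.subtype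
  have hQ'card : Nat.card Q' = Nat.card Q := by
    rw [hQ']
    exact Subgroup.card_map_of_injective K.subtype_injective
  have hQ'nt : Nontrivial Q' := by
    rw [← Finite.one_lt_card_iff_nontrivial, hQ'card, Sylow.card_eq_multiplicity]
    apply Nat.one_lt_pow _ hq.one_lt
    exact (hq.factorization_pos_of_dvd Nat.card_pos.ne' hqK).ne'
  have hcnt : Nontrivial (Subgroup.center Q') := hQ'p.center_nontrivial
  set Z : Subgroup L := (Subgroup.center Q').map Q'.subtype with hZ
  have hZQ : Z ≤ Q' := Subgroup.map_subtype_le _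
  have hZnorm : A ≤ Subgroup.normalizer (Z : Set L) :=
    hQ.trans (normalizer_le_normalizer_map_of_characteristic Q' (Subgroup.center Q'))
  have hZcomm : ∀ x y : Z, x * y = y * x := isMulCommutative_iff.mp inferInstance
  let _ : CommGroup Z := { (inferInstance : Group Z) with mul_comm := hZcomm }
  have hzN : z ∈ Subgroup.normalizer (Z : Set L) := hZnorm (Subgroup.subset_closure (by simp))
  have hbN : b ∈ Subgroup.normalizer (Z : Set L) := hZnorm (Subgroup.subset_closure (by simp))
  let s : Subgroup.normalizer (Z : Set L) := ⟨z, hzN⟩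
  let t : Subgroup.normalizer (Z : Set L) := ⟨b, hbN⟩
  have hfpf : ∀ g : Subgroup.normalizer (Z : Set L), (g : L) ∈ H → (g : L) ≠ 1 →
      ∀ m : Z, g • m = m → m = 1 := by
    intro g hgH hg1 m hm
    have h1 : (g : L) * m * (g : L)⁻¹ = m := congrArg Subtype.val hm
    have h2 : (g : L) * m = m * g := by
      calc (g : L) * m = ((g : L) * m * (g : L)⁻¹) * g := by group
        _ = m * g := by rw [h1]
    exact Subtype.ext (Cfsg.Agent.Lib.Helper71_QuatFrob.fpf_of_isFrobeniusComplement H hF g hgH hg1 m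
      (hmemK _ (hQ'K (hZQ m.2))) h2)
  have key : ∀ m : Z, m ^ p = 1 := by
    intro m
    apply pow_eq_one_of_fpf p s t (Subtype.ext hzb) (Subtype.ext hzp) (Subtype.ext hbp)
    · intro l hl0 hlp
      apply hfpf
      · simpa [s] using H.pow_mem hz l
      · intro h
        have h1 : z ^ l = 1 := by simpa [s] using h
        have h2 : orderOf z ∣ l := orderOf_dvd_of_pow_eq_one h1
        rw [hordz] at h2
        exact absurd (Nat.le_of_dvd hl0 h2) (not_le.mpr hlp)
    · intro i hi
      apply hfpf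
      · simpa [s, t] using H.mul_mem (H.pow_mem hz i) hb
      · intro h
        have h1 : z ^ i * b = 1 := by simpa [s, t] using h
        apply hbz
        have h2 : b = (z ^ i)⁻¹ := (inv_eq_of_mul_eq_one_right h1).symm
        rw [h2]
        exact inv_mem (pow_mem (Subgroup.mem_zpowers z) i)
  obtain ⟨c, hc⟩ := exists_ne (1 : Subgroup.center Q')
  have hcZ : ((c : Q') : L) ∈ Z := ⟨(c : Q'), c.2, rfl⟩
  have h1 := key ⟨_, hcZ⟩
  have h2 : ((c : Q') : L) ^ p = 1 := congrArg Subtype.val h1
  obtain ⟨k, hk⟩ := hQ'p (c : Q')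
  have h3 : ((c : Q') : L) ^ (q ^ k) = 1 := by
    have := congrArg Subtype.val hk
    simpa using this
  have h4 : orderOf ((c : Q') : L) ∣ Nat.gcd p (q ^ k) :=
    Nat.dvd_gcd (orderOf_dvd_of_pow_eq_one h2) (orderOf_dvd_of_pow_eq_one h3)
  have h5 : Nat.gcd p (q ^ k) = 1 :=
    Nat.Coprime.pow_right k ((Nat.coprime_primes hp.out hq).mpr (Ne.symm hqp))
  rw [h5, Nat.dvd_one, orderOf_eq_one_iff] at h4
  apply hc
  apply Subtype.ext
  apply Subtype.ext
  exact h4

end frob

end Cfsg.Agent.Lib.Helper71_FpfRank
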