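import Mathlib
import Cfsg.Prelude.Def_Solvable
import Cfsg.Agent.Lib.Helper71_Fitting
import Cfsg.Agent.Lib.Helper71_FpfRank
import Cfsg.Agent.Lib.Helper1_MinNormal
import Cfsg.Agent.Lib.Helper60_ThreePrimes
import Cfsg.Agent.Lib.Helper58_MinInv
import Cfsg.Agent.Lib.Helper21_Fitting

/-!
# Groups all of whose elements have prime power order (CP-groups, EPPO-groups)

`CP G`: every non-identity element of `G` has prime power order.

* `CP.eq_one_of_commute`: commuting elements of coprime orders: one of them is trivial.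
* `CP.isPGroup_centralizer`: the centralizer of a non-identity `p`-element is a `p`-group.
* `CP.card_primeFactors_le_two`: a finite solvable CP-group has at most two prime divisors (Higman).
* `CP.radical_isPGroup`: in a finite non-solvable CP-group the solvable radical is a `p`-group.
* `CP.exists_unique_minimal`: a finite nontrivial CP-group without solvable normal subgroups has a
  unique minimal normal subgroup, which is simple and nonabelian.
-/

set_option autoImplicit false

namespace Cfsg.Agent.Lib.Helper71_CPGroup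

open Cfsg

/-- every non-identity element has prime power order. -/
def CP (G : Type*) [Group G] : Prop := ∀ g : G, g ≠ 1 → IsPrimePow (orderOf g)

theorem not_isPrimePow_mul {a b : ℕ} (ha : 1 < a) (hb : 1 < b) (hab : a.Coprime b) :
    ¬ IsPrimePow (a * b) := by
  intro h
  rw [isPrimePow_nat_iff] at h
  obtain ⟨s, k, hs, -, hk⟩ := h
  have h1 : a ∣ s ^ k := ⟨b, hk⟩
  have h2 : b ∣ s ^ k := ⟨a, by rw [mul_comm]; exact hk⟩
  obtain ⟨i, -, hi⟩ := (Nat.dvd_prime_pow hs).mp h1
  obtain ⟨j, -, hj⟩ := (Nat.dvd_prime_pow hs).mp h2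
  have hi0 : i ≠ 0 := by rintro rfl; simp at hi; omega
  have hj0 : j ≠ 0 := by rintro rfl; simp at hj; omega
  have h3 : s ∣ a := hi ▸ dvd_pow_self s hi0
  have h4 : s ∣ b := hj ▸ dvd_pow_self s hj0
  have h5 := Nat.dvd_gcd h3 h4
  rw [hab] at h5
  exact hs.one_lt.ne' (Nat.dvd_one.mp h5)

variable {G : Type*} [Group G]

theorem CP.subgroup (h : CP G) (H : Subgroup G) : CP H := by
  intro g hg
  have h1 : (g : G) ≠ 1 := fun h2 => hg (Subtype.ext h2)
  have := h g h1
  rwa [Subgroup.orderOf_coe] at this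

theorem CP.of_surjective [Finite G] (h : CP G) {Q : Type*} [Group Q] (f : G →* Q)
    (hf : Function.Surjective f) : CP Q := by
  intro q hq
  obtain ⟨g, rfl⟩ := hf q
  have hg : g ≠ 1 := by rintro rfl; exact hq (map_one f)
  have h1 := h g hg
  rw [isPrimePow_nat_iff] at h1 ⊢
  obtain ⟨s, k, hs, -, hk⟩ := h1
  have h2 : orderOf (f g) ∣ s ^ k := hk ▸ orderOf_map_dvd f g
  obtain ⟨i, -, hi⟩ := (Nat.dvd_prime_pow hs).mp h2
  refine ⟨s, i, hs, ?_, hi.symm⟩
  rcases Nat.eq_zero_or_pos i with rfl | h3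
  · rw [pow_zero, orderOf_eq_one_iff] at hi
    exact absurd hi hq
  · exact h3

theorem CP.eq_one_of_commute [Finite G] (h : CP G) {x y : G} (hxy : Commute x y)
    (hc : (orderOf x).Coprime (orderOf y)) : x = 1 ∨ y = 1 := by
  by_contra hcon
  push Not at hcon
  obtain ⟨hx, hy⟩ := hcon
  have hox : 1 < orderOf x := by
    have h1 := orderOf_pos x
    have h2 : orderOf x ≠ 1 := fun h3 => hx (orderOf_eq_one_iff.mp h3)
    omega
  have hoy : 1 < orderOf y := by
    have h1 := orderOf_pos y
    have h2 : orderOf y ≠ 1 := fun h3 => hy (orderOf_eq_one_iff.mp h3)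
    omega
  have h1 : orderOf (x * y) = orderOf x * orderOf y :=
    hxy.orderOf_mul_eq_mul_orderOf_of_coprime hc
  have h2 : x * y ≠ 1 := by
    intro h3
    rw [h3, orderOf_one] at h1
    nlinarith
  have h3 := h (x * y) h2
  rw [h1] at h3
  exact not_isPrimePow_mul hox hoy hc h3

/-- an element commuting with a non-identity `p`-element is a `p`-element. -/
theorem CP.pow_eq_one_of_commute [Finite G] (h : CP G) {p : ℕ} (hp : p.Prime) {x y : G}
    (hx1 : x ≠ 1) (hx : ∃ k : ℕ, x ^ p ^ k = 1) (hxy : Commute x y) : ∃ j : ℕ, y ^ p ^ j = 1 := by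
  obtain ⟨k, hk⟩ := hx
  obtain ⟨a, m, hm, hn⟩ := Nat.exists_eq_pow_mul_and_not_dvd (orderOf_pos y).ne' p hp.ne_one
  refine ⟨a, ?_⟩
  have h1 : orderOf (y ^ p ^ a) = m := by
    rw [orderOf_pow' _ (pow_ne_zero _ hp.ne_zero), hn, Nat.gcd_eq_right (dvd_mul_right _ _),
      Nat.mul_div_cancel_left _ (pow_pos hp.pos a)]
  have h2 : (orderOf x).Coprime (orderOf (y ^ p ^ a)) := by
    rw [h1]
    have h3 : orderOf x ∣ p ^ k := orderOf_dvd_of_pow_eq_one hk
    exact Nat.Coprime.coprime_dvd_left h3 (Nat.Coprime.pow_left k ((Nat.Prime.coprime_iff_not_dvd hp).mpr hm))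
  rcases h.eq_one_of_commute (hxy.pow_right _) h2 with h3 | h3
  · exact absurd h3 hx1
  · exact h3

theorem CP.isPGroup_of_commute [Finite G] (h : CP G) {p : ℕ} (hp : p.Prime) {x : G}
    (hx1 : x ≠ 1) (hx : ∃ k : ℕ, x ^ p ^ k = 1) (C : Subgroup G) (hC : ∀ y ∈ C, x * y = y * x) :
    IsPGroup p C := by
  intro y
  obtain ⟨j, hj⟩ := h.pow_eq_one_of_commute hp hx1 hx (hC y y.2)
  exact ⟨j, Subtype.ext (by simpa using hj)⟩

/-- **Higman.** A finite solvable CP-group has at most two prime divisors. -/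
theorem CP.card_primeFactors_le_two {H : Type*} [Group H] [Finite H] (h : CP H)
    (hs : Group.IsSolvable H) : (Nat.card H).primeFactors.card ≤ 2 := by
  by_contra hcon
  have h3 : 2 < (Nat.card H).primeFactors.card := by omega
  obtain ⟨p, hp, q, hq, r, hr, hpq, hpr, hqr⟩ := Finset.two_lt_card.mp h3
  have hp' := Nat.prime_of_mem_primeFactors hp
  have hq' := Nat.prime_of_mem_primeFactors hq
  have hr' := Nat.prime_of_mem_primeFactors hr
  have key : ∀ a b : ℕ, a.Prime → b.Prime → a ≠ b → ¬ ∃ z : H, orderOf z = a * b := by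
    rintro a b ha hb hab ⟨z, hz⟩
    have hz1 : z ≠ 1 := by
      rintro rfl
      rw [orderOf_one] at hz
      have := ha.one_lt
      have := hb.one_lt
      nlinarith
    have h4 := h z hz1
    rw [hz] at h4
    exact not_isPrimePow_mul ha.one_lt hb.one_lt ((Nat.coprime_primes ha hb).mpr hab) h4
  rcases Cfsg.Agent.Lib.Helper60_ThreePrimes.exists_mixed_order_of_solvable hp' hq' hr' hpq hpr hqr
    (Nat.dvd_of_mem_primeFactors hp) (Nat.dvd_of_mem_primeFactors hq)
    (Nat.dvd_of_mem_primeFactors hr) with h4 | h4 | h4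
  · exact key p q hp' hq' hpq h4
  · exact key p r hp' hr' hpr h4
  · exact key q r hq' hr' hqr h4

open Cfsg.Agent.Lib.Helper58_MinInv in
open scoped Pointwise in
/-- A finite nontrivial CP-group without nontrivial solvable normal subgroups has a unique minimal
normal subgroup; it is simple and not abelian. -/
theorem CP.exists_minimal {Q : Type*} [Group Q] [Finite Q] [Nontrivial Q] (h : CP Q)
    (hrad : ∀ N : Subgroup Q, N.Normal → Group.IsSolvable N → N = ⊥) :
    ∃ M : Subgroup Q, M.Normal ∧ IsSimpleGroup M ∧ ¬ IsMulCommutative M ∧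
      ∀ N : Subgroup Q, N.Normal → N ≠ ⊥ → M ≤ N := by
  classical
  obtain ⟨M, hM⟩ := exists_isMinInv (⊤ : Subgroup Q) top_ne_bot
  have hMn : M.Normal := ⟨fun x hx g => hM.inv g (Subgroup.mem_top g) x hx⟩
  have hMmin : ∀ B : Subgroup Q, B.Normal → B ≤ M → B = ⊥ ∨ B = M :=
    fun B hB hBM => hM.min B hBM (fun n _ x hx => hB.conj_mem x hx n)
  have hMns : ¬ Group.IsSolvable M := fun hs => hM.ne_bot (hrad M hMn hs)
  -- a normal subgroup centralized by a non-identity element is trivial
  have hcent : ∀ N : Subgroup Q, N.Normal → ∀ x : Q, x ≠ 1 → (∀ y ∈ N, x * y = y * x) → N = ⊥ := by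
    intro N hN x hx1 hxN
    obtain ⟨p, k, hp, -, hk⟩ := (isPrimePow_nat_iff _).mp (h x hx1)
    have hN' : IsPGroup p N :=
      h.isPGroup_of_commute hp hx1 ⟨k, by rw [hk]; exact pow_orderOf_eq_one x⟩ N hxN
    exact hrad N hN (Cfsg.Agent.Lib.Helper60_ThreePrimes.isSolvable_of_isPGroup hp hN')
  have hF : fittingSubgroup Q = ⊥ := by
    apply hrad _ Cfsg.Agent.Lib.Helper71_Fitting.fittingSubgroup_normal
    have : Group.IsNilpotent (fittingSubgroup Q) :=
      Cfsg.Agent.Lib.Helper71_Fitting.fittingSubgroup_isNilpotent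
    infer_instance
  obtain ⟨X, hX⟩ := exists_isMinInv M hM.ne_bot
  have hXconj : ∀ g : Q, MulAut.conj g • X = X := by
    intro g
    by_contra hne
    have hY : IsMinInv M (MulAut.conj g • X) := hX.conj g
    have hcomm := hX.commute hY (Ne.symm hne)
    obtain ⟨y, hy1⟩ := (Subgroup.ne_bot_iff_exists_ne_one).mp hY.ne_bot
    have hy1' : (y : Q) ≠ 1 := fun h2 => hy1 (Subtype.ext h2)
    obtain ⟨p, k, hp, -, hk⟩ := (isPrimePow_nat_iff _).mp (h (y : Q) hy1')
    have : Fact p.Prime := ⟨hp⟩
    have hXp : IsPGroup p X :=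
      h.isPGroup_of_commute hp hy1' ⟨k, by rw [hk]; exact pow_orderOf_eq_one _⟩ X
        (fun x hx => (hcomm x hx y y.2).symm)
    have hXnil : Group.IsNilpotent X := hXp.isNilpotent
    have hMX : M ≤ Subgroup.normalizer (X : Set Q) := by
      intro n hn
      rw [Subgroup.mem_normalizer_iff]
      intro x
      constructor
      · intro hx
        exact hX.inv n hn x hx
      · intro hx
        have h1 := hX.inv n⁻¹ (M.inv_mem hn) _ hx
        convert h1 using 1
        group
    have h1 := Cfsg.Agent.Lib.Helper21_Fitting.le_fittingSubgroup_of_normal_in_normal M X hX.le hMX hXnil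
    rw [hF] at h1
    exact hX.ne_bot (le_bot_iff.mp h1)
  have hXM : X = M := by
    refine (hM.min X hX.le ?_).resolve_left hX.ne_bot
    intro n _ x hx
    have h1 : n * x * n⁻¹ ∈ MulAut.conj n • X := conj_mem_conj_smul hx
    rwa [hXconj n] at h1
  rw [hXM] at hX
  have hMnt : Nontrivial M := (Subgroup.nontrivial_iff_ne_bot M).mpr hM.ne_bot
  have hsimple : IsSimpleGroup M := by
    refine ⟨?_⟩
    intro H hH
    have hB : H.map M.subtype = ⊥ ∨ H.map M.subtype = M := by
      apply hX.min _ (Subgroup.map_subtype_le H)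
      rintro n hn x ⟨h0, hh0, rfl⟩
      exact ⟨⟨n, hn⟩ * h0 * ⟨n, hn⟩⁻¹, hH.conj_mem h0 hh0 ⟨n, hn⟩, rfl⟩
    rcases hB with hB | hB
    · left
      exact (Subgroup.map_eq_bot_iff_of_injective H M.subtype_injective).mp hB
    · right
      rw [eq_top_iff]
      intro m _
      have h1 : (m : Q) ∈ H.map M.subtype := by rw [hB]; exact m.2
      obtain ⟨h0, hh0, h2⟩ := h1
      have : h0 = m := Subtype.ext h2
      rwa [← this]
  refine ⟨M, hMn, hsimple, ?_, ?_⟩
  · intro hc
    apply hMns
    exact Group.isSolvable_of_comm (fun a b => hc.is_comm.comm a b)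
  · intro N hN hN1
    have hMN : (M ⊓ N).Normal := inferInstance
    rcases hMmin (M ⊓ N) hMN inf_le_left with h1 | h1
    · exfalso
      obtain ⟨m, hm1⟩ := (Subgroup.ne_bot_iff_exists_ne_one).mp hM.ne_bot
      have hm1' : (m : Q) ≠ 1 := fun h2 => hm1 (Subtype.ext h2)
      apply hN1
      apply hcent N hN (m : Q) hm1'
      intro y hy
      exact (Subgroup.commute_of_normal_of_disjoint M N hMn hN (disjoint_iff.mpr h1) m y m.2 hy).eq
    · rw [← h1]
      exact inf_le_right

/-- conjugation form of `pow_eq_one_of_fpf`: commuting `z`, `b` of exponent `p` all of whose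
"lines" act without fixed points on the abelian normal subgroup `A` force `A` to have exponent `p`. -/
theorem pow_eq_one_of_fpf_conj (A : Subgroup G) [hA : A.Normal]
    (hAc : ∀ a ∈ A, ∀ b ∈ A, a * b = b * a) (p : ℕ) (z b : G) (hzb : z * b = b * z)
    (hz : z ^ p = 1) (hb : b ^ p = 1)
    (hfz : ∀ l, 0 < l → l < p → ∀ m ∈ A, z ^ l * m = m * z ^ l → m = 1)
    (hfb : ∀ i, i < p → ∀ m ∈ A, (z ^ i * b) * m = m * (z ^ i * b) → m = 1) :
    ∀ m ∈ A, m ^ p = 1 := by
  let _ : CommGroup A :=
    { (inferInstance : Group A) with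
      mul_comm := fun x y => Subtype.ext (hAc x x.2 y y.2) }
  let _ : MulDistribMulAction G A := MulDistribMulAction.compHom A (MulAut.conjNormal (H := A))
  have hsm : ∀ (g : G) (m : A), ((g • m : A) : G) = g * m * g⁻¹ := fun g m => rfl
  have hfix : ∀ (g : G) (m : A), g • m = m → g * (m : G) = m * g := by
    intro g m hm
    have h1 : g * (m : G) * g⁻¹ = m := by rw [← hsm, hm]
    calc g * (m : G) = (g * m * g⁻¹) * g := by group
      _ = m * g := by rw [h1]
  intro m hm
  have key := Cfsg.Agent.Lib.Helper71_FpfRank.pow_eq_one_of_fpf (M := A) p z b hzb hz hb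
    (fun l hl0 hlp m hm => Subtype.ext (hfz l hl0 hlp m m.2 (hfix _ m hm)))
    (fun i hi m hm => Subtype.ext (hfb i hi m m.2 (hfix _ m hm))) ⟨m, hm⟩
  exact congrArg Subtype.val key

open Cfsg.Agent.Lib.Helper71_Fitting in
/-- In a finite non-solvable CP-group the largest solvable normal subgroup is a `p`-group. -/
theorem CP.radical_isPGroup [Finite G] (hcp : CP G) (hns : ¬ Group.IsSolvable G)
    (R : Subgroup G) [hRn : R.Normal] (hRs : Group.IsSolvable R)
    (hRmax : ∀ N : Subgroup G, N.Normal → Group.IsSolvable N → N ≤ R) :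
    ∃ p : ℕ, p.Prime ∧ IsPGroup p R := by
  classical
  by_cases hR : R = ⊥
  · exact ⟨2, Nat.prime_two, by rw [hR]; exact IsPGroup.of_bot⟩
  obtain ⟨A, hAn, hAR, hA1, hAc, p, hp, hAp⟩ :=
    Cfsg.Agent.Lib.Helper1_MinNormal.exists_elementary_abelian_normal_le R hRs hR
  haveI : Fact p.Prime := ⟨hp⟩
  refine ⟨p, hp, ?_⟩
  by_contra hRp
  set P : Subgroup G := sylowCore p G with hPdef
  have hPp : IsPGroup p P := sylowCore_isPGroup p
  have hApg : IsPGroup p A := by
    intro a
    exact ⟨1, Subtype.ext (by simpa using hAp a a.2)⟩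
  have hAP : A ≤ P := le_sylowCore_of_normal hApg
  have hPR : P ≤ R :=
    hRmax P inferInstance (Cfsg.Agent.Lib.Helper60_ThreePrimes.isSolvable_of_isPGroup hp hPp)
  -- the quotient by `P`
  set π : G →* G ⧸ P := QuotientGroup.mk' P with hπ
  have hπs : Function.Surjective π := QuotientGroup.mk'_surjective P
  have hker : ∀ x : G, π x = 1 ↔ x ∈ P := fun x => QuotientGroup.eq_one_iff x
  have hRbar : R.map π ≠ ⊥ := by
    intro h
    apply hRp
    have h1 : R ≤ P := by
      intro x hx
      rw [← hker]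
      have h2 : π x ∈ R.map π := Subgroup.mem_map_of_mem π hx
      rw [h] at h2
      exact Subgroup.mem_bot.mp h2
    exact hPp.to_le h1
  haveI hRbn : (R.map π).Normal := Subgroup.Normal.map hRn π hπs
  have hRbars : Group.IsSolvable (R.map π) := by
    have : Group.IsSolvable R := hRs
    exact Group.isSolvable_of_surjective (f := (π.subgroupMap R)) (π.subgroupMap_surjective R)
  obtain ⟨Ebar, hEn, hER, hE1, hEc, r, hr, hEr⟩ :=
    Cfsg.Agent.Lib.Helper1_MinNormal.exists_elementary_abelian_normal_le (R.map π) hRbars hRbar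
  haveI : Fact r.Prime := ⟨hr⟩
  set M : Subgroup G := Ebar.comap π with hMdef
  haveI hMn : M.Normal := Subgroup.Normal.comap hEn π
  have hmemM : ∀ x : G, x ∈ M ↔ π x ∈ Ebar := fun x => Iff.rfl
  have hPM : P ≤ M := by
    intro x hx
    rw [hmemM, (hker x).mpr hx]
    exact Ebar.one_mem
  have hMR : M ≤ R := by
    intro x hx
    obtain ⟨y, hy, hyx⟩ := hER ((hmemM x).mp hx)
    have h1 : y⁻¹ * x ∈ P := by
      rw [← hker, map_mul, map_inv, hyx, inv_mul_cancel]
    have h2 : x = y * (y⁻¹ * x) := by group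
    rw [h2]
    exact R.mul_mem hy (hPR h1)
  have hMs : Group.IsSolvable M :=
    Group.isSolvable_of_isSolvable_injective (f := Subgroup.inclusion hMR) (Subgroup.inclusion_injective hMR)
  -- `r ≠ p`
  have hrp : r ≠ p := by
    rintro rfl
    have hMp : IsPGroup r M := by
      rintro ⟨x, hx⟩
      have h1 : x ^ r ∈ P := by
        rw [← hker, map_pow]
        exact hEr _ ((hmemM x).mp hx)
      obtain ⟨k, hk⟩ := hPp ⟨x ^ r, h1⟩
      refine ⟨k + 1, Subtype.ext ?_⟩
      have h2 : (x ^ r) ^ r ^ k = 1 := by simpa using congrArg Subtype.val hk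
      rw [Subgroup.coe_pow, Subgroup.coe_mk, Subgroup.coe_one, pow_succ', pow_mul]
      exact h2
    have hMP : M ≤ P := le_sylowCore_of_normal hMp
    apply hE1
    rw [eq_bot_iff]
    intro e he
    obtain ⟨x, rfl⟩ := hπs e
    rw [Subgroup.mem_bot, hker]
    exact hMP ((hmemM x).mpr he)
  -- a Sylow `r`-subgroup of `M`
  obtain ⟨E₀⟩ : Nonempty (Sylow r M) := inferInstance
  set E : Subgroup G := (E₀ : Subgroup M).map M.subtype with hEdef
  have hEM : E ≤ M := Subgroup.map_subtype_le _
  have hEr' : IsPGroup r E := E₀.2.map M.subtype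
  have hdisj : ∀ x : G, x ∈ P → x ∈ E → x = 1 := by
    intro x hxP hxE
    have h1 := (IsPGroup.disjoint_of_ne p r (Ne.symm hrp) P E hPp hEr')
    have h2 : x ∈ P ⊓ E := ⟨hxP, hxE⟩
    rw [disjoint_iff.mp h1] at h2
    exact Subgroup.mem_bot.mp h2
  have hEexp : ∀ x ∈ E, x ^ r = 1 := by
    intro x hx
    apply hdisj _ _ (E.pow_mem hx r)
    rw [← hker, map_pow]
    exact hEr _ ((hmemM x).mp (hEM hx))
  have hEcomm : ∀ x ∈ E, ∀ y ∈ E, x * y = y * x := by
    intro x hx y hy
    have h1 : x * y * x⁻¹ * y⁻¹ = 1 := by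
      apply hdisj
      · rw [← hker]
        have h2 := hEc.is_comm.comm ⟨π x, (hmemM x).mp (hEM hx)⟩ ⟨π y, (hmemM y).mp (hEM hy)⟩
        have h3 : π x * π y = π y * π x := congrArg Subtype.val h2
        rw [map_mul, map_mul, map_mul, map_inv, map_inv, h3]
        group
      · exact E.mul_mem (E.mul_mem (E.mul_mem hx hy) (E.inv_mem hx)) (E.inv_mem hy)
    calc x * y = (x * y * x⁻¹ * y⁻¹) * (y * x) := by group
      _ = y * x := by rw [h1, one_mul]
  -- `E` is not trivial
  have hrM : r ∣ Nat.card M := by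
    obtain ⟨e, he1⟩ := (Subgroup.ne_bot_iff_exists_ne_one).mp hE1
    obtain ⟨x, hx⟩ := hπs (e : G ⧸ P)
    have hxM : x ∈ M := by rw [hmemM, hx]; exact e.2
    have hxP : x ∉ P := by
      intro h1
      apply he1
      apply Subtype.ext
      rw [← hx, (hker x).mpr h1]
      rfl
    have hxr : x ^ r ∈ P := by
      rw [← hker, map_pow, hx]
      exact hEr _ e.2
    have h1 : r ∣ orderOf x := by
      by_contra h2
      have h3 : r.Coprime (orderOf x) := (Nat.Prime.coprime_iff_not_dvd hr).mpr h2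
      obtain ⟨m, hm⟩ := exists_pow_eq_self_of_coprime h3
      apply hxP
      rw [← hm]
      exact P.pow_mem hxr m
    have h2 : orderOf (⟨x, hxM⟩ : M) = orderOf x := Subgroup.orderOf_mk x hxM
    rw [← h2] at h1
    exact h1.trans (orderOf_dvd_natCard _)
  have hE₀1 : (E₀ : Subgroup M) ≠ ⊥ := E₀.ne_bot_of_dvd_card hrM
  have hEne : E ≠ ⊥ := by
    intro h
    apply hE₀1
    exact (Subgroup.map_eq_bot_iff_of_injective _ M.subtype_injective).mp h
  obtain ⟨z0, hz01⟩ := (Subgroup.ne_bot_iff_exists_ne_one).mp hEne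
  set z : G := (z0 : G) with hzdef
  have hzE : z ∈ E := z0.2
  have hz1 : z ≠ 1 := fun h => hz01 (Subtype.ext h)
  have hzr : z ^ r = 1 := hEexp z hzE
  have hordz : orderOf z = r := orderOf_eq_prime hzr hz1
  -- elements of `E` act without fixed points on `A`
  have hfpf : ∀ g ∈ E, g ≠ 1 → ∀ m ∈ A, g * m = m * g → m = 1 := by
    intro g hg hg1 m hm hgm
    have h1 : (orderOf g).Coprime (orderOf m) := by
      have h2 : orderOf g ∣ r := orderOf_dvd_of_pow_eq_one (hEexp g hg)
      have h3 : orderOf m ∣ p := orderOf_dvd_of_pow_eq_one (hAp m hm)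
      exact Nat.Coprime.coprime_dvd_left h2
        (Nat.Coprime.coprime_dvd_right h3 ((Nat.coprime_primes hr hp).mpr hrp))
    exact (hcp.eq_one_of_commute (x := g) (y := m) hgm h1).resolve_left hg1
  -- `E` is cyclic, generated by `z`
  have hEz : E ≤ Subgroup.zpowers z := by
    intro b hb
    by_contra hbz
    have key := pow_eq_one_of_fpf_conj A (fun a ha b hb => by
        have := hAc.is_comm.comm ⟨a, ha⟩ ⟨b, hb⟩
        exact congrArg Subtype.val this) r z b (hEcomm z hzE b hb) hzr (hEexp b hb)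
      (fun l hl0 hlr m hm hcm => by
        apply hfpf (z ^ l) (E.pow_mem hzE l) _ m hm hcm
        intro h
        have h2 : orderOf z ∣ l := orderOf_dvd_of_pow_eq_one h
        rw [hordz] at h2
        exact absurd (Nat.le_of_dvd hl0 h2) (not_le.mpr hlr))
      (fun i _ m hm hcm => by
        apply hfpf (z ^ i * b) (E.mul_mem (E.pow_mem hzE i) hb) _ m hm hcm
        intro h
        apply hbz
        have h2 : b = (z ^ i)⁻¹ := (inv_eq_of_mul_eq_one_right h).symm
        rw [h2]
        exact inv_mem (pow_mem (Subgroup.mem_zpowers z) i))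
    obtain ⟨a, ha1⟩ := (Subgroup.ne_bot_iff_exists_ne_one).mp hA1
    apply ha1
    apply Subtype.ext
    have h1 : (a : G) ^ r = 1 := key a a.2
    have h2 : (a : G) ^ p = 1 := hAp a a.2
    have h3 : orderOf (a : G) ∣ Nat.gcd r p :=
      Nat.dvd_gcd (orderOf_dvd_of_pow_eq_one h1) (orderOf_dvd_of_pow_eq_one h2)
    rw [(Nat.coprime_primes hr hp).mpr hrp, Nat.dvd_one, orderOf_eq_one_iff] at h3
    exact h3
  have hEeq : E = Subgroup.zpowers z :=
    le_antisymm hEz ((Subgroup.zpowers_le).mpr hzE)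
  -- the normalizer of `E` is solvable
  have hfrat : Subgroup.normalizer (E : Set G) ⊔ M = ⊤ := Sylow.normalizer_sup_eq_top E₀
  have hEcyc : IsCyclic E := by
    rw [hEeq]; infer_instance
  have hNs : Group.IsSolvable (Subgroup.normalizer (E : Set G)) := by
    have hker' : (E.normalizerMonoidHom).ker =
        (Subgroup.centralizer (E : Set G)).subgroupOf (Subgroup.normalizer (E : Set G)) :=
      Subgroup.normalizerMonoidHom_ker E
    have hCp : IsPGroup r (Subgroup.centralizer (E : Set G)) := by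
      apply hcp.isPGroup_of_commute hr hz1 ⟨1, by rw [pow_one]; exact hzr⟩
      intro y hy
      exact (hy z hzE)
    have hCs : Group.IsSolvable (E.normalizerMonoidHom).ker := by
      rw [hker']
      have h1 : IsPGroup r ((Subgroup.centralizer (E : Set G)).subgroupOf
          (Subgroup.normalizer (E : Set G))) :=
        hCp.comap_of_injective _ (Subgroup.subtype_injective _)
      exact Cfsg.Agent.Lib.Helper60_ThreePrimes.isSolvable_of_isPGroup hr h1
    have hAut : Group.IsSolvable (MulAut E) := by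
      have e := IsCyclic.mulAutMulEquiv E
      exact Group.isSolvable_of_isSolvable_injective (f := e.toMonoidHom) e.injective
    exact Group.isSolvable_of_ker_le_range (E.normalizerMonoidHom.ker.subtype) E.normalizerMonoidHom
      (by rw [Subgroup.range_subtype])
  -- hence `G` is solvable
  apply hns
  have h1 : Group.IsSolvable ↥(M ⊔ Subgroup.normalizer (E : Set G)) :=
    Cfsg.Agent.Lib.Helper60_ThreePrimes.isSolvable_sup M (Subgroup.normalizer (E : Set G))
      (by rw [Subgroup.normalizer_eq_top (H := M)]; exact le_top)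
  rw [sup_comm, hfrat] at h1
  exact Group.isSolvable_of_isSolvable_injective (f := (Subgroup.topEquiv (G := G)).symm.toMonoidHom)
    (Subgroup.topEquiv (G := G)).symm.injective

end Cfsg.Agent.Lib.Helper71_CPGroup
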