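import Mathlib
import Cfsg.Agent.Lib.Helper71_Frobenius

set_option autoImplicit false

namespace Cfsg.Agent.Lib.Helper71_DivisionRing

open Cfsg.Agent.Lib.Helper71_Frobenius

section Domain

variable {R : Type*} [Ring R] [NoZeroDivisors R] [Nontrivial R]
variable {C : Type*} [Group C] [Finite C]

/-- choice of a good prime -/
theorem exists_good_prime (f : C →* R) (hf : Function.Injective f) :
    ∃ p : ℕ, p.Prime ∧ (∀ c : C, c ≠ 1 → ¬ p ∣ orderOf c) ∧
      (∀ r : ℤ, (r : R) = 0 → (p : ℤ) ∣ r) := by
  set q := ringChar R with hq_def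
  have hq : CharP R q := ringChar.charP R
  rcases CharP.char_is_prime_or_zero R q with hqp | hq0
  · refine ⟨q, hqp, ?_, ?_⟩
    · intro c _ hdvd
      have : Fact q.Prime := ⟨hqp⟩
      set g := c ^ (orderOf c / q) with hg_def
      have hg : orderOf g = q := orderOf_pow_orderOf_div (orderOf_pos c).ne' hdvd
      have h1 : (f g) ^ q = 1 := by
        rw [← map_pow]
        conv_lhs => rw [← hg]
        rw [pow_orderOf_eq_one, map_one]
      have h2 : (f g - 1) ^ q = 0 := by
        rw [sub_pow_char_of_commute q (Commute.one_right _), h1, one_pow, sub_self]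
      have h3 : f g - 1 = 0 := by
        exact pow_eq_zero_iff hqp.ne_zero |>.mp h2
      have h4 : g = 1 := hf (by rw [sub_eq_zero.mp h3, map_one])
      rw [h4, orderOf_one] at hg
      exact hqp.one_lt.ne hg
    · intro r hr
      exact (CharP.intCast_eq_zero_iff R q r).mp hr
  · have hq' : CharP R 0 := hq0 ▸ hq
    have : CharZero R := CharP.charP_to_charZero R
    obtain ⟨p, hpgt, hp⟩ := Nat.exists_infinite_primes (Nat.card C + 1)
    refine ⟨p, hp, ?_, ?_⟩
    · intro c _ hdvd
      have h1 := Nat.le_of_dvd (orderOf_pos c) hdvd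
      have h2 : orderOf c ≤ Nat.card C := orderOf_le_card
      omega
    · intro r hr
      have : r = 0 := by exact_mod_cast hr
      rw [this]; exact dvd_zero _

omit [NoZeroDivisors R] [Nontrivial R] in
/-- the ideal generated by a natural number is two-sided -/
theorem span_natCast_isTwoSided (p : ℕ) : (Ideal.span {(p : R)}).IsTwoSided := by
  constructor
  intro a b ha
  rw [Ideal.mem_span_singleton'] at ha ⊢
  obtain ⟨r, rfl⟩ := ha
  refine ⟨r * b, ?_⟩
  rw [mul_assoc, mul_assoc, Nat.cast_comm]

/-- **Finite groups in domains which are finitely generated over `ℤ` are Frobenius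
complements.** -/
theorem exists_frobenius_of_injective_hom_domain [Module.Finite ℤ R] [Nontrivial C]
    (f : C →* R) (hf : Function.Injective f) :
    ∃ (L : Type) (_ : Group L) (_ : Finite L) (H : Subgroup L),
      Cfsg.IsFrobeniusComplement H ∧ Nonempty (C ≃* H) := by
  obtain ⟨p, hp, hpC, hpR⟩ := exists_good_prime f hf
  set I : Ideal R := Ideal.span {(p : R)} with hI
  have hI2 : I.IsTwoSided := span_natCast_isTwoSided p
  -- `p` is zero in the quotient
  have hpA : ((p : ℕ) : R ⧸ I) = 0 := by
    have : (Ideal.Quotient.mk I) (p : R) = 0 :=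
      Ideal.Quotient.eq_zero_iff_mem.mpr (Ideal.subset_span rfl)
    rwa [map_natCast] at this
  -- the quotient is nontrivial
  have hnt : Nontrivial (R ⧸ I) := by
    rw [Ideal.Quotient.nontrivial_iff]
    intro htop
    have h1 : (1 : R) ∈ I := htop ▸ Submodule.mem_top
    rw [hI, Ideal.mem_span_singleton'] at h1
    obtain ⟨r, hr⟩ := h1
    -- Nakayama over ℤ
    have hle : (⊤ : Submodule ℤ R) ≤ (Ideal.span {(p : ℤ)}) • (⊤ : Submodule ℤ R) := by
      intro x _
      have hx : x = (p : ℤ) • (x * r) := by
        rw [zsmul_eq_mul, Int.cast_natCast, Nat.cast_comm, mul_assoc, hr, mul_one]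
      rw [hx]
      exact Submodule.smul_mem_smul (Ideal.subset_span rfl) Submodule.mem_top
    obtain ⟨k, hk1, hk2⟩ := Submodule.exists_sub_one_mem_and_smul_eq_zero_of_fg_of_le_smul
      (Ideal.span {(p : ℤ)}) (⊤ : Submodule ℤ R) Module.Finite.fg_top hle
    have hk3 : ((k : ℤ) : R) = 0 := by
      have := hk2 1 Submodule.mem_top
      rwa [zsmul_eq_mul, mul_one] at this
    have hd1 : (p : ℤ) ∣ k := hpR k hk3
    have hd2 : (p : ℤ) ∣ k - 1 := Ideal.mem_span_singleton.mp hk1
    have hd3 : (p : ℤ) ∣ 1 := by
      have := dvd_sub hd1 hd2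
      simpa using this
    have := Int.natAbs_dvd_natAbs.mpr hd3
    simp at this
    exact hp.one_lt.ne' this
  -- the quotient is finite
  have hfin : Finite (R ⧸ I) := by
    have hMF : Module.Finite ℤ (R ⧸ I) :=
      Module.Finite.of_surjective ((Ideal.Quotient.mk I).toAddMonoidHom.toIntLinearMap)
        Ideal.Quotient.mk_surjective
    apply Module.finite_of_fg_torsion
    intro a
    refine ⟨⟨(p : ℤ), mem_nonZeroDivisors_of_ne_zero (by exact_mod_cast hp.ne_zero)⟩, ?_⟩
    change (p : ℤ) • a = 0
    rw [zsmul_eq_mul, Int.cast_natCast, hpA, zero_mul]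
  -- the action
  let g : C →* R ⧸ I := (Ideal.Quotient.mk I).toMonoidHom.comp f
  obtain ⟨L, hL1, hL2, H, hH, hiso, _⟩ := exists_frobenius_of_units_hom (A := R ⧸ I) g.toHomUnits
    (by
      intro c hc a ha
      have ha' : g c * a = a := ha
      set m := orderOf c with hm
      -- the geometric sum vanishes in `R`
      have hT : ∑ j ∈ Finset.range m, (f c) ^ j = 0 := by
        have h1 : (f c - 1) * ∑ j ∈ Finset.range m, (f c) ^ j = 0 := by
          rw [mul_geom_sum, ← map_pow, hm, pow_orderOf_eq_one, map_one, sub_self]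
        rcases mul_eq_zero.mp h1 with h2 | h2
        · exfalso
          apply hc
          apply hf
          rw [map_one]
          exact sub_eq_zero.mp h2
        · exact h2
      have hT' : ∑ j ∈ Finset.range m, (g c) ^ j = 0 := by
        have := congrArg (Ideal.Quotient.mk I) hT
        rw [map_sum, map_zero] at this
        simpa [g, map_pow] using this
      have hpow : ∀ j : ℕ, (g c) ^ j * a = a := by
        intro j
        induction j with
        | zero => simp
        | succ j ih => rw [pow_succ, mul_assoc, ha', ih]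
      have hma : (m : R ⧸ I) * a = 0 := by
        have : (∑ j ∈ Finset.range m, (g c) ^ j) * a = (m : R ⧸ I) * a := by
          rw [Finset.sum_mul]
          simp only [hpow, Finset.sum_const, Finset.card_range, nsmul_eq_mul]
        rw [← this, hT', zero_mul]
      have hcop : Nat.Coprime m p := ((Nat.Prime.coprime_iff_not_dvd hp).mpr (hpC c hc)).symm
      have hcop' : IsCoprime (m : ℤ) (p : ℤ) := Nat.isCoprime_iff_coprime.mpr hcop
      obtain ⟨u, v, huv⟩ := hcop'
      have h1 : ((u * m + v * p : ℤ) : R ⧸ I) * a = a := by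
        rw [huv, Int.cast_one, one_mul]
      rw [← h1]
      push_cast
      rw [hpA, mul_zero, add_zero, mul_assoc, hma, mul_zero])
  exact ⟨L, hL1, hL2, H, hH, hiso⟩

end Domain


section DivisionRing

variable {D : Type*} [DivisionRing D] (H : Subgroup Dˣ)

/-- the image of `H` in `D` as a submonoid -/
def unitsImage : Submonoid D := H.toSubmonoid.map (Units.coeHom D)

/-- the subring generated by `H` -/
def unitsSubring : Subring D := Subring.closure (unitsImage H : Set D)

theorem coe_mem_unitsSubring (h : H) : ((h : Dˣ) : D) ∈ unitsSubring H :=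
  Subring.subset_closure ⟨(h : Dˣ), h.2, rfl⟩

/-- the inclusion of `H` into the subring it generates -/
def unitsHom : H →* unitsSubring H where
  toFun h := ⟨((h : Dˣ) : D), coe_mem_unitsSubring H h⟩
  map_one' := by ext; simp
  map_mul' a b := by ext; simp

theorem unitsHom_injective : Function.Injective (unitsHom H) := by
  intro a b hab
  have := congrArg (fun x : unitsSubring H => (x : D)) hab
  simp only [unitsHom, MonoidHom.coe_mk, OneHom.coe_mk] at this
  exact Subtype.ext (Units.ext this)

theorem mem_unitsSubring_iff (x : D) :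
    x ∈ unitsSubring H ↔ x ∈ AddSubgroup.closure (unitsImage H : Set D) := by
  rw [unitsSubring, Subring.mem_closure_iff, Submonoid.closure_eq]

theorem unitsSubring_finite [Finite H] : Module.Finite ℤ (unitsSubring H) := by
  rw [Module.finite_def]
  have hspan : Submodule.span ℤ (Set.range (unitsHom H)) = ⊤ := by
    rw [eq_top_iff]
    rintro ⟨x, hx⟩ _
    have hx' : x ∈ AddSubgroup.closure (unitsImage H : Set D) := (mem_unitsSubring_iff H x).mp hx
    suffices hsuff : ∀ hx : x ∈ unitsSubring H,
        (⟨x, hx⟩ : unitsSubring H) ∈ Submodule.span ℤ (Set.range (unitsHom H)) from hsuff hx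
    refine AddSubgroup.closure_induction
      (p := fun x _ => ∀ hx : x ∈ unitsSubring H,
        (⟨x, hx⟩ : unitsSubring H) ∈ Submodule.span ℤ (Set.range (unitsHom H))) ?_ ?_ ?_ ?_ hx'
    · rintro y ⟨u, hu, rfl⟩ hy
      exact Submodule.subset_span ⟨⟨u, hu⟩, rfl⟩
    · intro h0
      exact Submodule.zero_mem _
    · intro a b ha hb iha ihb hab
      have ha' : a ∈ unitsSubring H := (mem_unitsSubring_iff H a).mpr ha
      have hb' : b ∈ unitsSubring H := (mem_unitsSubring_iff H b).mpr hb
      have : (⟨a + b, hab⟩ : unitsSubring H) = ⟨a, ha'⟩ + ⟨b, hb'⟩ := rfl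
      rw [this]
      exact Submodule.add_mem _ (iha ha') (ihb hb')
    · intro a ha iha hna
      have ha' : a ∈ unitsSubring H := (mem_unitsSubring_iff H a).mpr ha
      have : (⟨-a, hna⟩ : unitsSubring H) = -⟨a, ha'⟩ := rfl
      rw [this]
      exact Submodule.neg_mem _ (iha ha')
  rw [← hspan]
  exact Submodule.fg_span (Set.finite_range _)

/-- **A nontrivial finite subgroup of the multiplicative group of a division ring is a Frobenius
complement.** -/
theorem exists_frobenius_of_subgroup_units [Finite H] (hH : H ≠ ⊥) :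
    ∃ (L : Type) (_ : Group L) (_ : Finite L) (C : Subgroup L),
      Cfsg.IsFrobeniusComplement C ∧ Nonempty (H ≃* C) := by
  have hnt : Nontrivial H := (Subgroup.nontrivial_iff_ne_bot H).mpr hH
  have hfin : Module.Finite ℤ (unitsSubring H) := unitsSubring_finite H
  exact exists_frobenius_of_injective_hom_domain (R := unitsSubring H) (unitsHom H)
    (unitsHom_injective H)

end DivisionRing

end Cfsg.Agent.Lib.Helper71_DivisionRing
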