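import Mathlib
import Cfsg.Agent.Lib.Helper68_EA2
import Cfsg.Agent.Lib.Helper68_EA2Peel
import Cfsg.Agent.Lib.Helper68_UTGen
import Cfsg.Agent.Lib.Helper44_PSLnUT

/-!
ea2 package PSL (helper71, for helper68's S4625 market): `EA2 (PSL_n(F))` in characteristic 2.  The upper unitriangular
subgroup `UT n F` of `SL_n(F)` is generated by the transvections `1 + single i j t` (`i < j`), which are involutions in
characteristic 2; its image in `PSL_n(F)` is a Sylow 2-subgroup (`Helper44_PSLnUT.exists_sylow_PSL`).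
-/

set_option autoImplicit false

namespace Cfsg.Agent.Lib.Helper71_EA2_PSL

open Cfsg.Agent.Lib.Helper68_EA2 Cfsg.Agent.Lib.Helper68_EA2Peel Cfsg.Agent.Lib.Helper68_UTGen
  Cfsg.Agent.Lib.Helper44_PSLnUT Matrix

/-- the upper transvections of `SL_n(F)` -/
def tvSet (n : ℕ) (F : Type*) [Field F] : Set (SpecialLinearGroup (Fin n) F) :=
  {g | ∃ (i j : Fin n) (hij : i < j) (t : F), g = SpecialLinearGroup.transvection (ne_of_lt hij) t}

/-- the unitriangular subgroup is generated by the upper transvections -/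
theorem closure_tvSet (n : ℕ) (F : Type*) [Field F] : Subgroup.closure (tvSet n F) = UT n F := by
  apply le_antisymm
  · rw [Subgroup.closure_le]
    rintro g ⟨i, j, hij, t, rfl⟩
    exact transvection_mem_UT hij t
  · intro g hg
    rw [mem_UT] at hg
    have key : ∀ A : Matrix (Fin n) (Fin n) F, IsUUT A →
        ∃ x ∈ Subgroup.closure (tvSet n F), (x : Matrix (Fin n) (Fin n) F) = A := by
      intro A hA
      refine uut_induction (fun A => ∃ x ∈ Subgroup.closure (tvSet n F),
        (x : Matrix (Fin n) (Fin n) F) = A) ⟨1, Subgroup.one_mem _, rfl⟩ ?_ A hA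
      rintro A i j t hij ⟨x, hx, rfl⟩
      refine ⟨x * SpecialLinearGroup.transvection (ne_of_lt hij) t,
        Subgroup.mul_mem _ hx (Subgroup.subset_closure ⟨i, j, hij, t, rfl⟩), ?_⟩
      rfl
    obtain ⟨x, hx, hxg⟩ := key _ hg
    have : x = g := Subtype.ext hxg
    rw [← this]
    exact hx

/-- an upper transvection is an involution in characteristic 2 -/
theorem tv_sq {n : ℕ} {F : Type*} [Field F] [CharP F 2] {i j : Fin n} (hij : i ≠ j) (t : F) :
    (SpecialLinearGroup.transvection hij t) ^ 2 = 1 := by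
  apply Subtype.ext
  rw [pow_two]
  show (1 + Matrix.single i j t) * (1 + Matrix.single i j t) = (1 : Matrix (Fin n) (Fin n) F)
  rw [Matrix.add_mul, Matrix.mul_add, Matrix.mul_add, Matrix.one_mul, Matrix.mul_one, Matrix.one_mul,
    Matrix.single_mul_single_of_ne _ _ _ _ hij.symm, add_zero, add_assoc, ← Matrix.single_add,
    CharTwo.add_self_eq_zero, Matrix.single_zero, add_zero]

theorem sqComm_UT (n : ℕ) (F : Type*) [Field F] [CharP F 2] : SqComm (UT n F) := by
  apply sqComm_of_gen (UT n F) (tvSet n F) (closure_tvSet n F)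
  rintro s ⟨i, j, hij, t, rfl⟩
  rw [tv_sq]
  exact Subgroup.one_mem _

/-- **PSL** -/
theorem ea2_psl {F : Type*} [Field F] [Fintype F] [CharP F 2] (n : ℕ) (hn : 2 ≤ n) :
    EA2 (Matrix.ProjectiveSpecialLinearGroup (Fin n) F) := by
  classical
  have _hn := hn
  have : Fact (Nat.Prime 2) := ⟨Nat.prime_two⟩
  have hfin : Finite (ProjectiveSpecialLinearGroup (Fin n) F) := by
    unfold ProjectiveSpecialLinearGroup
    infer_instance
  obtain ⟨f, _, hF⟩ := FiniteField.card F 2
  obtain ⟨Q, hQ⟩ := exists_sylow_PSL (n := n) (F := F) (p := 2) (f := f) hF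
  refine ea2_of_sylow_eq Q (UTbar n F) hQ ?_
  exact (sqComm_UT n F).map _

end Cfsg.Agent.Lib.Helper71_EA2_PSL
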