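import Mathlib
import Cfsg.Prelude.Def_Solvable
import Cfsg.Agent.S0042
import Cfsg.Agent.Lib.Helper12_FpfLin
import Cfsg.Agent.Lib.Helper12_FpfSylow
import Cfsg.Agent.Lib.Helper12_FpfLinearize
import Cfsg.Agent.Lib.Helper71_QuatFrob
import Cfsg.Agent.Lib.Helper71_FrobCount

/-!
# From Frobenius complements to fixed-point-free linear groups (helper71)

`HasFpf G`: the group `G` has a fixed-point-free representation on a nonzero finite dimensional
space over an algebraically closed field in which `|G|` is invertible.  Every Frobenius complement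
has this property; it passes to subgroups and along isomorphisms, and gives the usual structure
of the Sylow subgroups (via helper12's library).
-/

set_option autoImplicit false

namespace Cfsg.Agent.Lib.Helper71_FCBridge

open Cfsg TensorProduct
open Cfsg.Agent.Lib.Helper12_FpfLin Cfsg.Agent.Lib.Helper12_FpfLinearize

/-- the abstract fixed-point-free property -/
def HasFpf (G : Type*) [Group G] : Prop :=
  ∃ (F : Type) (_ : Field F) (_ : IsAlgClosed F) (W : Type) (_ : AddCommGroup W) (_ : Module F W)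
    (_ : FiniteDimensional F W) (_ : Nontrivial W) (ρ : G →* Module.End F W),
    IsFpf ρ ∧ ((Nat.card G : ℕ) : F) ≠ 0

/-- a fixed-point-free action on a finite `ZMod p`-module, `p ∤ |G|`, gives `HasFpf` -/
theorem hasFpf_of_module {G : Type*} [Group G] (p : ℕ) [hp : Fact p.Prime] {V : Type}
    [AddCommGroup V] [Finite V] [Nontrivial V] [Module (ZMod p) V]
    (act : G →* AddMonoid.End V)
    (hfpf : ∀ g : G, g ≠ 1 → ∀ v : V, act g v = v → v = 0) (hpG : ¬ p ∣ Nat.card G) :
    HasFpf G := by
  have hfpf' : IsFpf (rep p act (AlgebraicClosure (ZMod p))) :=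
    rep_isFpf p act (AlgebraicClosure (ZMod p)) hfpf
  have h1 : 0 < Module.finrank (ZMod p) V := Module.finrank_pos
  have h2 : Module.finrank (AlgebraicClosure (ZMod p)) (AlgebraicClosure (ZMod p) ⊗[ZMod p] V) =
      Module.finrank (ZMod p) V := Module.finrank_baseChange
  have hnt : Nontrivial (AlgebraicClosure (ZMod p) ⊗[ZMod p] V) := by
    have h3 : 0 < Module.finrank (AlgebraicClosure (ZMod p))
        (AlgebraicClosure (ZMod p) ⊗[ZMod p] V) := by
      rw [h2]; exact h1
    exact Module.nontrivial_of_finrank_pos h3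
  have hcard : ((Nat.card G : ℕ) : AlgebraicClosure (ZMod p)) ≠ 0 := by
    intro h0
    rw [CharP.cast_eq_zero_iff (AlgebraicClosure (ZMod p)) p] at h0
    exact hpG h0
  exact ⟨AlgebraicClosure (ZMod p), inferInstance, inferInstance,
    AlgebraicClosure (ZMod p) ⊗[ZMod p] V, inferInstance, inferInstance, inferInstance, hnt,
    rep p act (AlgebraicClosure (ZMod p)), hfpf', hcard⟩

/-- a fixed-point-free action on a finite elementary abelian `p`-group, `p ∤ |G|`, gives `HasFpf` -/
theorem hasFpf_of_act {G : Type*} [Group G] (p : ℕ) [hp : Fact p.Prime] {V : Type}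
    [AddCommGroup V] [Finite V] [Nontrivial V] (hpV : ∀ v : V, p • v = 0)
    (act : G →* AddMonoid.End V)
    (hfpf : ∀ g : G, g ≠ 1 → ∀ v : V, act g v = v → v = 0) (hpG : ¬ p ∣ Nat.card G) :
    HasFpf G :=
  letI : Module (ZMod p) V := AddCommGroup.zmodModule hpV
  hasFpf_of_module p act hfpf hpG

/-- a Frobenius complement has the fixed-point-free property -/
theorem hasFpf_of_isFrobeniusComplement {L : Type} [Group L] [Finite L] (H : Subgroup L)
    (hF : IsFrobeniusComplement H) : HasFpf H := by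
  classical
  obtain ⟨N, hNset, hNn, hNnil⟩ := Cfsg.Agent.S0042.result H hF
  have := hNn
  have := hNnil
  have hcardN : Nat.card N = H.index := by
    rw [← Cfsg.Agent.Lib.Helper71_FrobCount.card_frobeniusKernel H hF, ← hNset]
    rfl
  have hidx1 : H.index ≠ 1 := fun h => hF.2.1 (Subgroup.index_eq_one.mp h)
  have hidx0 : H.index ≠ 0 := Subgroup.index_ne_zero_of_finite
  have hNnt : Nontrivial N := by
    apply Finite.one_lt_card_iff_nontrivial.mp
    rw [hcardN]
    omega
  have hcne := center_ne_bot (K := N)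
  have hc1 : Nat.card (Subgroup.center N) ≠ 1 := fun h1 => hcne (Subgroup.card_eq_one.1 h1)
  obtain ⟨p, hp⟩ : ∃ p, (Nat.card (Subgroup.center N)).minFac = p := ⟨_, rfl⟩
  have hpp : p.Prime := hp ▸ Nat.minFac_prime hc1
  have : Fact p.Prime := ⟨hpp⟩
  have hpc : p ∣ Nat.card (Subgroup.center N) := hp ▸ Nat.minFac_dvd _
  obtain ⟨c, hc⟩ := exists_prime_orderOf_dvd_card' (G := ↥(Subgroup.center N)) p hpc
  have hcΩ : (c : N) ∈ omegaCenter N p := by
    refine ⟨c.2, ?_⟩
    have h1 := pow_orderOf_eq_one c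
    rw [hc] at h1
    exact congrArg Subtype.val h1
  have hc1' : (c : N) ≠ 1 := by
    intro h1
    have h2 : c = 1 := Subtype.ext h1
    rw [h2, orderOf_one] at hc
    exact hpp.one_lt.ne hc
  have : Nontrivial (Additive ↥(omegaCenter N p)) := by
    refine ⟨⟨Additive.ofMul ⟨c, hcΩ⟩, 0, fun h0 => hc1' ?_⟩⟩
    have h1 := congrArg Additive.toMul h0
    exact congrArg Subtype.val h1
  have hpV : ∀ v : Additive ↥(omegaCenter N p), p • v = 0 := by
    intro v
    apply Additive.toMul.injective
    rw [toMul_nsmul]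
    apply Subtype.ext
    show ((Additive.toMul v : ↥(omegaCenter N p)) : N) ^ p = 1
    exact (Additive.toMul v).2.2
  have hpH : ¬ p ∣ Nat.card H := by
    intro hdvd
    have hpN : p ∣ H.index := by
      rw [← hcardN]
      exact hpc.trans (Subgroup.card_subgroup_dvd_card _)
    have hmod := Cfsg.Agent.Lib.Helper71_FrobCount.index_mod_card H hF
    have hH2 : 2 ≤ Nat.card H := by
      have := hpp.two_le
      have := Nat.le_of_dvd Nat.card_pos hdvd
      omega
    rw [Nat.mod_eq_of_lt (show 1 < Nat.card H by omega)] at hmod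
    have h3 : H.index = Nat.card H * (H.index / Nat.card H) + 1 := by
      have := Nat.div_add_mod H.index (Nat.card H)
      omega
    have h4 : p ∣ Nat.card H * (H.index / Nat.card H) := Dvd.dvd.mul_right hdvd _
    have h5 : p ∣ 1 := by
      have := (Nat.dvd_add_right h4).mp (h3 ▸ hpN)
      exact this
    exact hpp.one_lt.ne' (Nat.dvd_one.mp h5)
  refine hasFpf_of_act p hpV
    ((actK N p).comp ((MulAut.conjNormal (H := N)).comp H.subtype)) ?_ hpH
  intro g hg v hv
  have hg1 : (g : L) ≠ 1 := fun h1 => hg (Subtype.ext h1)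
  have h1 : ((MulAut.conjNormal (g : L) ((Additive.toMul v : ↥(omegaCenter N p)) : N) : N) : L) =
      (((Additive.toMul v : ↥(omegaCenter N p)) : N) : L) := by
    have h2 := congrArg (fun w => ((((Additive.toMul w : ↥(omegaCenter N p)) : N)) : L)) hv
    exact h2
  rw [MulAut.conjNormal_apply] at h1
  have hk : ((((Additive.toMul v : ↥(omegaCenter N p)) : N)) : L) ∈ frobeniusKernel H := by
    rw [← hNset]
    exact ((Additive.toMul v : ↥(omegaCenter N p)) : N).2
  have hcomm : (g : L) * ((((Additive.toMul v : ↥(omegaCenter N p)) : N)) : L) =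
      ((((Additive.toMul v : ↥(omegaCenter N p)) : N)) : L) * (g : L) := by
    obtain ⟨w, hw⟩ : ∃ w : L, w = ((((Additive.toMul v : ↥(omegaCenter N p)) : N)) : L) := ⟨_, rfl⟩
    rw [← hw] at h1 ⊢
    calc (g : L) * w = ((g : L) * w * (g : L)⁻¹) * (g : L) := by group
      _ = w * (g : L) := by rw [h1]
  have h3 := Cfsg.Agent.Lib.Helper71_QuatFrob.fpf_of_isFrobeniusComplement H hF (g : L) g.2 hg1 _ hk hcomm
  apply Additive.toMul.injective
  apply Subtype.ext
  apply Subtype.ext
  exact h3

/-- the property pulls back along injective homomorphisms -/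
theorem HasFpf.of_injective {G G' : Type*} [Group G] [Group G'] [Finite G] (h : HasFpf G)
    (f : G' →* G) (hf : Function.Injective f) : HasFpf G' := by
  obtain ⟨F, iF, iA, W, iW, iM, iD, iN, ρ, hρ, hcard⟩ := h
  refine ⟨F, iF, iA, W, iW, iM, iD, iN, ρ.comp f, ?_, ?_⟩
  · intro g hg w hw
    apply hρ (f g) _ w hw
    intro h1
    exact hg (hf (h1.trans (map_one f).symm))
  · intro h0
    apply hcard
    have h1 : Nat.card G' ∣ Nat.card G := by
      rw [Nat.card_congr (Equiv.ofInjective f hf)]
      exact Subgroup.card_subgroup_dvd_card f.range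
    obtain ⟨k, hk⟩ := h1
    rw [hk, Nat.cast_mul, h0, zero_mul]

theorem HasFpf.subgroup {G : Type*} [Group G] [Finite G] (h : HasFpf G) (H : Subgroup G) :
    HasFpf H :=
  h.of_injective H.subtype H.subtype_injective

theorem HasFpf.of_mulEquiv {G G' : Type*} [Group G] [Group G'] [Finite G] (h : HasFpf G)
    (e : G' ≃* G) : HasFpf G' :=
  h.of_injective e.toMonoidHom e.injective

/-- the hypothesis of S4291 gives the property -/
theorem hasFpf_of_hyp {G : Type*} [Group G]
    (hFC : ∃ (L : Type) (_ : Group L) (_ : Finite L) (H : Subgroup L),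
      Cfsg.IsFrobeniusComplement H ∧ Nonempty (G ≃* H)) : HasFpf G := by
  obtain ⟨L, iL, iF, H, hH, ⟨e⟩⟩ := hFC
  exact (hasFpf_of_isFrobeniusComplement H hH).of_mulEquiv e

section consequences

variable {G : Type*} [Group G]

theorem HasFpf.invol_unique (h : HasFpf G) {a b : G} (ha : a ≠ 1) (hb : b ≠ 1)
    (ha2 : a ^ 2 = 1) (hb2 : b ^ 2 = 1) : a = b := by
  obtain ⟨F, iF, iA, W, iW, iM, iD, iN, ρ, hρ, hcard⟩ := h
  exact hρ.invol_unique ha hb ha2 hb2

theorem HasFpf.invol_central (h : HasFpf G) {a : G} (ha : a ≠ 1) (ha2 : a ^ 2 = 1) (g : G) :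
    g * a = a * g := by
  obtain ⟨F, iF, iA, W, iW, iM, iD, iN, ρ, hρ, hcard⟩ := h
  exact hρ.invol_central ha ha2 g

theorem HasFpf.isCyclic_or_quat [Finite G] (h : HasFpf G) {r : ℕ} [hr : Fact r.Prime]
    (P : Subgroup G) (hP : IsPGroup r P) :
    IsCyclic P ∨ (r = 2 ∧ ∃ n : ℕ, Nonempty (P ≃* QuaternionGroup (2 ^ n))) := by
  obtain ⟨F, iF, iA, W, iW, iM, iD, iN, ρ, hρ, hcard⟩ := h
  exact Cfsg.Agent.Lib.Helper12_FpfSylow.isCyclic_or_quat hρ P hP

theorem HasFpf.isCyclic_of_odd [Finite G] (h : HasFpf G) {r : ℕ} [hr : Fact r.Prime]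
    (hr2 : r ≠ 2) (P : Subgroup G) (hP : IsPGroup r P) : IsCyclic P := by
  rcases h.isCyclic_or_quat P hP with h1 | ⟨h1, -⟩
  · exact h1
  · exact absurd h1 hr2

end consequences

end Cfsg.Agent.Lib.Helper71_FCBridge
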