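import Mathlib

/-!
# Small-group facts for the structure theorem on Frobenius complements (helper71)

* `q2d`: the surjection of a generalized quaternion group `Q_{4m}` (`m` even) onto the four-group,
  with cyclic kernel.
* lifting `2`-subgroups along surjections.
* nontrivial normal subgroups of `A₄`, `S₄`, `A₅`, `S₅` contain two distinct commuting involutions.
-/

set_option autoImplicit false

namespace Cfsg.Agent.Lib.Helper71_FCSmall

open QuaternionGroup DihedralGroup

section q2d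

variable (m : ℕ)

/-- reduction modulo 2 -/
def red : ZMod (2 * m) →+* ZMod 2 := ZMod.castHom (dvd_mul_right 2 m) (ZMod 2)

theorem red_m (hm : Even m) : red m (m : ZMod (2 * m)) = 0 := by
  rw [map_natCast]
  exact (ZMod.natCast_eq_zero_iff m 2).2 (even_iff_two_dvd.mp hm)

theorem red_surjective : Function.Surjective (red m) := by
  intro i
  refine ⟨((i.val : ℕ) : ZMod (2 * m)), ?_⟩
  rw [map_natCast]
  exact ZMod.natCast_zmod_val i

/-- the underlying map of `q2d` -/
def q2dFun : QuaternionGroup m → DihedralGroup 2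
  | a i => r (red m i)
  | xa i => sr (red m i)

/-- the surjection `Q_{4m} → D_2` for even `m` -/
def q2d (hm : Even m) : QuaternionGroup m →* DihedralGroup 2 :=
  MonoidHom.mk' (q2dFun m) (by
    rintro (i | i) (j | j)
    · show q2dFun m (a i * a j) = _
      rw [a_mul_a]
      show r _ = r _ * r _
      rw [r_mul_r, map_add]
    · show q2dFun m (a i * xa j) = _
      rw [a_mul_xa]
      show sr _ = r _ * sr _
      rw [r_mul_sr, map_sub]
    · show q2dFun m (xa i * a j) = _
      rw [xa_mul_a]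
      show sr _ = sr _ * r _
      rw [sr_mul_r, map_add]
    · show q2dFun m (xa i * xa j) = _
      rw [xa_mul_xa]
      show r _ = sr _ * sr _
      rw [sr_mul_sr, map_sub, map_add, red_m m hm, zero_add])

theorem q2d_a (hm : Even m) (i : ZMod (2 * m)) : q2d m hm (a i) = r (red m i) := rfl

theorem q2d_xa (hm : Even m) (i : ZMod (2 * m)) : q2d m hm (xa i) = sr (red m i) := rfl

theorem q2d_surjective (hm : Even m) : Function.Surjective (q2d m hm) := by
  rintro (i | i)
  · obtain ⟨j, rfl⟩ := red_surjective m i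
    exact ⟨a j, rfl⟩
  · obtain ⟨j, rfl⟩ := red_surjective m i
    exact ⟨xa j, rfl⟩

theorem mem_ker_q2d [NeZero m] (hm : Even m) {g : QuaternionGroup m} (hg : g ∈ (q2d m hm).ker) :
    g ∈ Subgroup.zpowers (a 1 : QuaternionGroup m) := by
  rcases g with i | i
  · refine ⟨(i.val : ℤ), ?_⟩
    show a 1 ^ ((i.val : ℕ) : ℤ) = a i
    rw [zpow_natCast, a_one_pow]
    have : NeZero (2 * m) := ⟨by have := NeZero.ne m; omega⟩
    congr 1
    exact ZMod.natCast_zmod_val i
  · exfalso
    rw [MonoidHom.mem_ker, q2d_xa, DihedralGroup.one_def] at hg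
    cases hg

theorem isCyclic_ker_q2d [NeZero m] (hm : Even m) : IsCyclic (q2d m hm).ker := by
  have hle : (q2d m hm).ker ≤ Subgroup.zpowers (a 1 : QuaternionGroup m) :=
    fun g hg => mem_ker_q2d m hm hg
  exact isCyclic_of_injective (Subgroup.inclusion hle) (Subgroup.inclusion_injective hle)

end q2d

section lift

/-- `p`-subgroups of a quotient lift to `p`-subgroups -/
theorem exists_pGroup_map_eq {A B : Type*} [Group A] [Group B] [Finite A] (f : A →* B)
    (hf : Function.Surjective f) (p : ℕ) [Fact p.Prime] (Q : Subgroup B) (hQ : IsPGroup p Q) :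
    ∃ P : Subgroup A, IsPGroup p P ∧ P.map f = Q := by
  classical
  let L : Subgroup A := Q.comap f
  let D₀ : Sylow p L := Sylow.nonempty.some
  let D : Subgroup A := (D₀ : Subgroup L).map L.subtype
  have hDp : IsPGroup p D := D₀.2.map L.subtype
  have hDL : D ≤ L := Subgroup.map_subtype_le _
  have hDQ : D.map f ≤ Q := Subgroup.map_le_iff_le_comap.mpr hDL
  refine ⟨D, hDp, le_antisymm hDQ ?_⟩
  let fL : L →* Q := (f.subgroupComap Q)
  have hfL : Function.Surjective fL := f.subgroupComap_surjective_of_surjective Q hf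
  have h1 : (D₀.mapSurjective hfL : Subgroup Q) = ⊤ := by
    have hQtop : IsPGroup p (⊤ : Subgroup Q) := fun x => by
      obtain ⟨k, hk⟩ := hQ x.1
      exact ⟨k, Subtype.ext (by simpa using hk)⟩
    exact ((D₀.mapSurjective hfL).3 hQtop le_top).symm
  intro y hy
  have : (⟨y, hy⟩ : Q) ∈ (D₀.mapSurjective hfL : Subgroup Q) := by rw [h1]; trivial
  rw [Sylow.coe_mapSurjective] at this
  obtain ⟨d, hd, hdy⟩ := this
  refine ⟨d.1, ⟨d, hd, rfl⟩, ?_⟩
  exact congrArg Subtype.val hdy

/-- a group with three distinct solutions of `x ^ 2 = 1` is not cyclic -/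
theorem not_isCyclic_of_three {P : Type*} [Group P] [Finite P] {u v : P} (hu : u ≠ 1)
    (hv : v ≠ 1) (huv : u ≠ v) (hu2 : u ^ 2 = 1) (hv2 : v ^ 2 = 1) : ¬ IsCyclic P := by
  classical
  intro hc
  have : Fintype P := Fintype.ofFinite P
  have h1 := IsCyclic.card_pow_eq_one_le (α := P) (n := 2) (by norm_num)
  have h2 : ({1, u, v} : Finset P) ⊆ Finset.univ.filter (fun a : P => a ^ 2 = 1) := by
    intro x hx
    simp only [Finset.mem_insert, Finset.mem_singleton] at hx
    simp only [Finset.mem_filter, Finset.mem_univ, true_and]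
    rcases hx with rfl | rfl | rfl
    · exact one_pow 2
    · exact hu2
    · exact hv2
  have h3 : ({1, u, v} : Finset P).card = 3 := by
    rw [Finset.card_insert_of_notMem, Finset.card_insert_of_notMem, Finset.card_singleton]
    · simpa using huv
    · simp only [Finset.mem_insert, Finset.mem_singleton, not_or]
      exact ⟨fun h => hu h.symm, fun h => hv h.symm⟩
  have h4 := Finset.card_le_card h2
  omega

/-- a subgroup containing two distinct commuting involutions contains a non-cyclic `2`-subgroup -/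
theorem exists_not_cyclic_two_subgroup {X : Type*} [Group X] [Finite X] (Y : Subgroup X)
    {u v : X} (huY : u ∈ Y) (hvY : v ∈ Y) (hu : u ≠ 1) (hv : v ≠ 1) (huv : u ≠ v)
    (hu2 : u ^ 2 = 1) (hv2 : v ^ 2 = 1) (hc : u * v = v * u) :
    ∃ P : Subgroup X, P ≤ Y ∧ IsPGroup 2 P ∧ ¬ IsCyclic P := by
  refine ⟨Subgroup.closure {u, v}, ?_, ?_, ?_⟩
  · rw [Subgroup.closure_le]
    rintro x (rfl | rfl)
    · exact huY
    · exact hvY
  · have hcomm : ∀ x ∈ ({u, v} : Set X), ∀ y ∈ ({u, v} : Set X), x * y = y * x := by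
      intro x hx y hy
      rcases hx with rfl | rfl <;> rcases hy with rfl | rfl
      · rfl
      · exact hc
      · exact hc.symm
      · rfl
    have hAc : IsMulCommutative (Subgroup.closure {u, v}) :=
      Subgroup.isMulCommutative_closure hcomm
    have hexp : ∀ a ∈ Subgroup.closure {u, v}, a ^ 2 = 1 := by
      intro a ha
      induction ha using Subgroup.closure_induction with
      | mem x hx =>
        rcases hx with rfl | rfl
        · exact hu2
        · exact hv2
      | one => simp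
      | mul x y hx hy ihx ihy =>
        have hc' : x * y = y * x := congrArg Subtype.val (hAc.is_comm.comm ⟨x, hx⟩ ⟨y, hy⟩)
        have hc'' : Commute x y := hc'
        rw [hc''.mul_pow, ihx, ihy, one_mul]
      | inv x hx ih => rw [inv_pow, ih, inv_one]
    intro g
    refine ⟨1, Subtype.ext ?_⟩
    rw [pow_one, Subgroup.coe_pow, Subgroup.coe_one]
    exact hexp g.1 g.2
  · have huC : u ∈ Subgroup.closure {u, v} := Subgroup.subset_closure (by simp)
    have hvC : v ∈ Subgroup.closure {u, v} := Subgroup.subset_closure (by simp)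
    apply not_isCyclic_of_three (u := (⟨u, huC⟩ : Subgroup.closure {u, v}))
      (v := (⟨v, hvC⟩ : Subgroup.closure {u, v}))
    · intro h; exact hu (congrArg Subtype.val h)
    · intro h; exact hv (congrArg Subtype.val h)
    · intro h; exact huv (congrArg Subtype.val h)
    · exact Subtype.ext (by simpa using hu2)
    · exact Subtype.ext (by simpa using hv2)

end lift

section small

/-- the double transposition `(0 1)(2 3)` -/
abbrev u4 : Equiv.Perm (Fin 4) := Equiv.swap 0 1 * Equiv.swap 2 3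
/-- the double transposition `(0 2)(1 3)` -/
abbrev v4 : Equiv.Perm (Fin 4) := Equiv.swap 0 2 * Equiv.swap 1 3
/-- the double transposition `(0 1)(2 3)` -/
abbrev u5 : Equiv.Perm (Fin 5) := Equiv.swap 0 1 * Equiv.swap 2 3
/-- the double transposition `(0 2)(1 3)` -/
abbrev v5 : Equiv.Perm (Fin 5) := Equiv.swap 0 2 * Equiv.swap 1 3

set_option maxRecDepth 100000 in
theorem s4_key : ∀ g : Equiv.Perm (Fin 4), g ≠ 1 →
    ∃ a b : Equiv.Perm (Fin 4), (a * g * a⁻¹) * (b * g⁻¹ * b⁻¹) = u4 := by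
  decide +kernel

set_option maxRecDepth 100000 in
theorem a4_key : ∀ g : alternatingGroup (Fin 4), g ≠ 1 →
    ∃ a b : alternatingGroup (Fin 4),
      ((a * g * a⁻¹) * (b * g⁻¹ * b⁻¹) : alternatingGroup (Fin 4)).1 = u4 := by
  decide +kernel

set_option maxRecDepth 100000 in
theorem s5_center : ∀ g : Equiv.Perm (Fin 5),
    (∀ i j : Fin 5, Equiv.swap i j * g = g * Equiv.swap i j) → g = 1 := by
  decide +kernel

theorem u4_mem : u4 ∈ alternatingGroup (Fin 4) := by
  rw [Equiv.Perm.mem_alternatingGroup]; decide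

theorem v4_mem : v4 ∈ alternatingGroup (Fin 4) := by
  rw [Equiv.Perm.mem_alternatingGroup]; decide

theorem u5_mem : u5 ∈ alternatingGroup (Fin 5) := by
  rw [Equiv.Perm.mem_alternatingGroup]; decide

theorem v5_mem : v5 ∈ alternatingGroup (Fin 5) := by
  rw [Equiv.Perm.mem_alternatingGroup]; decide

theorem u4_facts : u4 ≠ 1 ∧ v4 ≠ 1 ∧ u4 ≠ v4 ∧ u4 ^ 2 = 1 ∧ v4 ^ 2 = 1 ∧ u4 * v4 = v4 * u4 := by
  decide +kernel

theorem u4_conj : ∃ c : alternatingGroup (Fin 4),
    (c : Equiv.Perm (Fin 4)) * u4 * (c : Equiv.Perm (Fin 4))⁻¹ = v4 := by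
  decide +kernel

theorem u5_facts : u5 ≠ 1 ∧ v5 ≠ 1 ∧ u5 ≠ v5 ∧ u5 ^ 2 = 1 ∧ v5 ^ 2 = 1 ∧ u5 * v5 = v5 * u5 := by
  decide +kernel

/-- the predicate: the subgroup contains two distinct commuting involutions -/
def HasFour {X : Type*} [Group X] (Y : Subgroup X) : Prop :=
  ∃ u v : X, u ∈ Y ∧ v ∈ Y ∧ u ≠ 1 ∧ v ≠ 1 ∧ u ≠ v ∧ u ^ 2 = 1 ∧ v ^ 2 = 1 ∧ u * v = v * u

theorem hasFour_S4 (Y : Subgroup (Equiv.Perm (Fin 4))) [hY : Y.Normal] (hne : Y ≠ ⊥) :
    HasFour Y := by
  obtain ⟨⟨g, hgY⟩, hg1'⟩ := (Subgroup.ne_bot_iff_exists_ne_one).mp hne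
  have hg1 : g ≠ 1 := fun h => hg1' (Subtype.ext h)
  obtain ⟨a, b, hab⟩ := s4_key g hg1
  obtain ⟨h1, h2, h3, h4, h5, h6⟩ := u4_facts
  obtain ⟨c, hc⟩ := u4_conj
  have huY : u4 ∈ Y := by
    rw [← hab]
    exact Y.mul_mem (hY.conj_mem g hgY a) (hY.conj_mem _ (Y.inv_mem hgY) b)
  have hvY : v4 ∈ Y := by
    rw [← hc]
    exact hY.conj_mem _ huY _
  exact ⟨u4, v4, huY, hvY, h1, h2, h3, h4, h5, h6⟩

theorem hasFour_A4 (Y : Subgroup (alternatingGroup (Fin 4))) [hY : Y.Normal] (hne : Y ≠ ⊥) :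
    HasFour Y := by
  obtain ⟨⟨g, hgY⟩, hg1'⟩ := (Subgroup.ne_bot_iff_exists_ne_one).mp hne
  have hg1 : g ≠ 1 := fun h => hg1' (Subtype.ext h)
  obtain ⟨a, b, hab⟩ := a4_key g hg1
  obtain ⟨h1, h2, h3, h4, h5, h6⟩ := u4_facts
  obtain ⟨c, hc⟩ := u4_conj
  have hu := u4_mem
  have hv := v4_mem
  have huY : (⟨u4, hu⟩ : alternatingGroup (Fin 4)) ∈ Y := by
    have : (⟨u4, hu⟩ : alternatingGroup (Fin 4)) = (a * g * a⁻¹) * (b * g⁻¹ * b⁻¹) :=
      Subtype.ext hab.symm
    rw [this]
    exact Y.mul_mem (hY.conj_mem g hgY a) (hY.conj_mem _ (Y.inv_mem hgY) b)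
  have hvY : (⟨v4, hv⟩ : alternatingGroup (Fin 4)) ∈ Y := by
    have : (⟨v4, hv⟩ : alternatingGroup (Fin 4)) = c * ⟨u4, hu⟩ * c⁻¹ := Subtype.ext hc.symm
    rw [this]
    exact hY.conj_mem _ huY _
  refine ⟨⟨u4, hu⟩, ⟨v4, hv⟩, huY, hvY, ?_, ?_, ?_, ?_, ?_, ?_⟩
  · intro h; exact h1 (congrArg Subtype.val h)
  · intro h; exact h2 (congrArg Subtype.val h)
  · intro h; exact h3 (congrArg Subtype.val h)
  · exact Subtype.ext h4
  · exact Subtype.ext h5
  · exact Subtype.ext h6

theorem hasFour_A5 (Y : Subgroup (alternatingGroup (Fin 5))) [hY : Y.Normal] (hne : Y ≠ ⊥) :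
    HasFour Y := by
  have htop : Y = ⊤ := (hY.eq_bot_or_eq_top).resolve_left hne
  obtain ⟨h1, h2, h3, h4, h5, h6⟩ := u5_facts
  have hu := u5_mem
  have hv := v5_mem
  refine ⟨⟨u5, hu⟩, ⟨v5, hv⟩, ?_, ?_, ?_, ?_, ?_, ?_, ?_, ?_⟩
  · rw [htop]; trivial
  · rw [htop]; trivial
  · intro h; exact h1 (congrArg Subtype.val h)
  · intro h; exact h2 (congrArg Subtype.val h)
  · intro h; exact h3 (congrArg Subtype.val h)
  · exact Subtype.ext h4
  · exact Subtype.ext h5
  · exact Subtype.ext h6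

theorem hasFour_S5 (Y : Subgroup (Equiv.Perm (Fin 5))) [hY : Y.Normal] (hne : Y ≠ ⊥) :
    HasFour Y := by
  obtain ⟨h1, h2, h3, h4, h5, h6⟩ := u5_facts
  have hu := u5_mem
  have hv := v5_mem
  have hn : (Y.subgroupOf (alternatingGroup (Fin 5))).Normal := inferInstance
  rcases hn.eq_bot_or_eq_top with hb | ht
  · exfalso
    obtain ⟨⟨g, hgY⟩, hg1'⟩ := (Subgroup.ne_bot_iff_exists_ne_one).mp hne
    have hg1 : g ≠ 1 := fun h => hg1' (Subtype.ext h)
    apply hg1
    apply s5_center g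
    intro i j
    have hmem : Equiv.swap i j * g * (Equiv.swap i j)⁻¹ * g⁻¹ ∈ Y :=
      Y.mul_mem (hY.conj_mem g hgY _) (Y.inv_mem hgY)
    have halt : Equiv.swap i j * g * (Equiv.swap i j)⁻¹ * g⁻¹ ∈ alternatingGroup (Fin 5) := by
      rw [Equiv.Perm.mem_alternatingGroup]
      simp only [map_mul, map_inv]
      rw [mul_right_comm (Equiv.Perm.sign (Equiv.swap i j)), mul_inv_cancel, one_mul,
        mul_inv_cancel]
    have h7 : (⟨_, halt⟩ : alternatingGroup (Fin 5)) ∈ Y.subgroupOf (alternatingGroup (Fin 5)) :=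
      Subgroup.mem_subgroupOf.mpr hmem
    rw [hb, Subgroup.mem_bot] at h7
    have h8 : Equiv.swap i j * g * (Equiv.swap i j)⁻¹ * g⁻¹ = 1 := congrArg Subtype.val h7
    have h9 : Equiv.swap i j * g * (Equiv.swap i j)⁻¹ = g := by
      rw [mul_inv_eq_one] at h8; exact h8
    calc Equiv.swap i j * g = (Equiv.swap i j * g * (Equiv.swap i j)⁻¹) * Equiv.swap i j := by
          group
      _ = g * Equiv.swap i j := by rw [h9]
  · have hle : alternatingGroup (Fin 5) ≤ Y := by
      intro x hx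
      have : (⟨x, hx⟩ : alternatingGroup (Fin 5)) ∈ Y.subgroupOf (alternatingGroup (Fin 5)) := by
        rw [ht]; trivial
      exact Subgroup.mem_subgroupOf.mp this
    exact ⟨u5, v5, hle hu, hle hv, h1, h2, h3, h4, h5, h6⟩

end small

end Cfsg.Agent.Lib.Helper71_FCSmall
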