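import Mathlib
import Cfsg.Agent.Lib.Helper71_FCBridge
import Cfsg.Agent.Lib.Helper71_FCSmall

/-!
# Uniqueness of the normal `Z`-subgroup of a Frobenius complement (helper71)
-/

set_option autoImplicit false

namespace Cfsg.Agent.Lib.Helper71_FCUnique

open Cfsg.Agent.Lib.Helper71_FCBridge Cfsg.Agent.Lib.Helper71_FCSmall

section lift

/-- `p`-subgroups of the range lift to `p`-subgroups -/
theorem exists_pGroup_map_eq' {A B : Type*} [Group A] [Group B] [Finite A] (f : A →* B)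
    (p : ℕ) [Fact p.Prime] (Q : Subgroup B) (hQ : IsPGroup p Q) (hQr : Q ≤ f.range) :
    ∃ P : Subgroup A, IsPGroup p P ∧ P.map f = Q := by
  have hQ' : IsPGroup p (Q.subgroupOf f.range) := by
    intro x
    obtain ⟨k, hk⟩ := hQ ⟨x.1.1, x.2⟩
    refine ⟨k, Subtype.ext (Subtype.ext ?_)⟩
    have := congrArg Subtype.val hk
    simpa using this
  obtain ⟨P, hP, hPQ⟩ := exists_pGroup_map_eq f.rangeRestrict f.rangeRestrict_surjective p
    (Q.subgroupOf f.range) hQ'
  refine ⟨P, hP, ?_⟩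
  have h1 : P.map f = (P.map f.rangeRestrict).map f.range.subtype := by
    rw [Subgroup.map_map]
    rfl
  rw [h1, hPQ, Subgroup.subgroupOf_map_subtype, inf_eq_left.mpr hQr]

/-- `p`-subgroups of the image of a subgroup lift into the subgroup -/
theorem exists_pGroup_le_map_eq {A B : Type*} [Group A] [Group B] [Finite A] (f : A →* B)
    (H : Subgroup A) (p : ℕ) [Fact p.Prime] (Q : Subgroup B) (hQ : IsPGroup p Q)
    (hQH : Q ≤ H.map f) : ∃ P : Subgroup A, P ≤ H ∧ IsPGroup p P ∧ P.map f = Q := by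
  have hr : (f.comp H.subtype).range = H.map f := by
    rw [MonoidHom.range_comp, Subgroup.range_subtype]
  obtain ⟨P, hP, hPQ⟩ := exists_pGroup_map_eq' (f.comp H.subtype) p Q hQ (by rw [hr]; exact hQH)
  refine ⟨P.map H.subtype, Subgroup.map_subtype_le _, hP.map _, ?_⟩
  rw [Subgroup.map_map]
  exact hPQ

end lift

variable {G : Type*} [Group G]

/-- all `2`-subgroups inside `N` are cyclic -/
def C2 (N : Subgroup G) : Prop :=
  ∀ P : Subgroup G, P ≤ N → IsPGroup 2 P → IsCyclic P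

theorem c2_of_sylow [Finite G] (N : Subgroup G)
    (h : ∀ (p : ℕ) [Fact p.Prime] (P : Sylow p N), IsCyclic P) : C2 N := by
  intro P hPN hP
  have : Fact (Nat.Prime 2) := ⟨Nat.prime_two⟩
  have hP' : IsPGroup 2 (P.subgroupOf N) := by
    intro x
    obtain ⟨k, hk⟩ := hP ⟨x.1.1, x.2⟩
    refine ⟨k, Subtype.ext (Subtype.ext ?_)⟩
    have := congrArg Subtype.val hk
    simpa using this
  obtain ⟨S, hS⟩ := hP'.exists_le_sylow
  have hSc : IsCyclic S := h 2 S
  have hc : IsCyclic (P.subgroupOf N) :=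
    isCyclic_of_injective (Subgroup.inclusion hS) (Subgroup.inclusion_injective hS)
  exact isCyclic_of_surjective (Subgroup.subgroupOfEquivOfLe hPN).toMonoidHom
    (Subgroup.subgroupOfEquivOfLe hPN).surjective

/-- the quotient data: a surjection with kernel `N` onto a group which is either a four-group or
has the property that all non-trivial normal subgroups contain a four-group -/
def Kind (N : Subgroup G) : Prop :=
  ∃ (X : Type) (_ : Group X) (_ : Finite X) (f : G →* X), Function.Surjective f ∧ f.ker = N ∧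
    HasFour (⊤ : Subgroup X) ∧
    ((Nat.card X = 4 ∧ ∀ x : X, x ^ 2 = 1) ∨
      (4 < Nat.card X ∧ ∀ Y : Subgroup X, Y.Normal → Y ≠ ⊥ → HasFour Y))

/-- the six quotient types of the statement -/
def SixType (N : Subgroup G) : Prop :=
  N = ⊤ ∨
    (∃ f : G →* DihedralGroup 2, Function.Surjective f ∧ f.ker = N) ∨
    (∃ f : G →* alternatingGroup (Fin 4), Function.Surjective f ∧ f.ker = N) ∨
    (∃ f : G →* Equiv.Perm (Fin 4), Function.Surjective f ∧ f.ker = N) ∨
    (∃ f : G →* alternatingGroup (Fin 5), Function.Surjective f ∧ f.ker = N) ∨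
    (∃ f : G →* Equiv.Perm (Fin 5), Function.Surjective f ∧ f.ker = N)

theorem d2_exp : ∀ x : DihedralGroup 2, x ^ 2 = 1 := by decide

theorem d2_hasFour : HasFour (⊤ : Subgroup (DihedralGroup 2)) := by
  refine ⟨DihedralGroup.r 1, DihedralGroup.sr 0, trivial, trivial, ?_, ?_, ?_, ?_, ?_, ?_⟩ <;> decide

theorem card_A4 : Nat.card (alternatingGroup (Fin 4)) = 12 := by
  rw [Nat.card_eq_fintype_card]
  have := two_mul_card_alternatingGroup (α := Fin 4)
  rw [Fintype.card_perm, Fintype.card_fin] at this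
  have h4 : Nat.factorial 4 = 24 := by decide
  rw [h4] at this
  omega

theorem card_A5 : Nat.card (alternatingGroup (Fin 5)) = 60 := by
  rw [Nat.card_eq_fintype_card]
  have := two_mul_card_alternatingGroup (α := Fin 5)
  rw [Fintype.card_perm, Fintype.card_fin] at this
  have h5 : Nat.factorial 5 = 120 := by decide
  rw [h5] at this
  omega

theorem card_S4 : Nat.card (Equiv.Perm (Fin 4)) = 24 := by
  rw [Nat.card_eq_fintype_card, Fintype.card_perm, Fintype.card_fin]; rfl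

theorem card_S5 : Nat.card (Equiv.Perm (Fin 5)) = 120 := by
  rw [Nat.card_eq_fintype_card, Fintype.card_perm, Fintype.card_fin]; rfl

theorem top_ne_bot_of_card {X : Type*} [Group X] (h : 1 < Nat.card X) :
    (⊤ : Subgroup X) ≠ ⊥ := by
  intro h1
  have h2 : Nat.card (⊤ : Subgroup X) = Nat.card X := Subgroup.card_top
  rw [h1, Subgroup.card_bot] at h2
  omega

theorem kind_of_sixType {N : Subgroup G} (h : SixType N) (hne : N ≠ ⊤) : Kind N := by
  rcases h with h | ⟨f, hf, hk⟩ | ⟨f, hf, hk⟩ | ⟨f, hf, hk⟩ | ⟨f, hf, hk⟩ | ⟨f, hf, hk⟩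
  · exact absurd h hne
  · refine ⟨DihedralGroup 2, inferInstance, inferInstance, f, hf, hk, d2_hasFour, Or.inl ⟨?_, d2_exp⟩⟩
    rw [Nat.card_eq_fintype_card, DihedralGroup.card]
  · have hc := card_A4
    refine ⟨alternatingGroup (Fin 4), inferInstance, inferInstance, f, hf, hk,
      hasFour_A4 ⊤ (top_ne_bot_of_card (by omega)), Or.inr ⟨by omega, ?_⟩⟩
    intro Y hY hYne
    exact hasFour_A4 Y hYne
  · have hc := card_S4
    refine ⟨Equiv.Perm (Fin 4), inferInstance, inferInstance, f, hf, hk,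
      hasFour_S4 ⊤ (top_ne_bot_of_card (by omega)), Or.inr ⟨by omega, ?_⟩⟩
    intro Y hY hYne
    exact hasFour_S4 Y hYne
  · have hc := card_A5
    refine ⟨alternatingGroup (Fin 5), inferInstance, inferInstance, f, hf, hk,
      hasFour_A5 ⊤ (top_ne_bot_of_card (by omega)), Or.inr ⟨by omega, ?_⟩⟩
    intro Y hY hYne
    exact hasFour_A5 Y hYne
  · have hc := card_S5
    refine ⟨Equiv.Perm (Fin 5), inferInstance, inferInstance, f, hf, hk,
      hasFour_S5 ⊤ (top_ne_bot_of_card (by omega)), Or.inr ⟨by omega, ?_⟩⟩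
    intro Y hY hYne
    exact hasFour_S5 Y hYne

/-- a normal subgroup with cyclic `2`-subgroups has no four-group in any image -/
theorem not_hasFour_map [Finite G] {X : Type*} [Group X] [Finite X] (f : G →* X) (N : Subgroup G)
    (hN : C2 N) : ¬ HasFour (N.map f) := by
  rintro ⟨u, v, hu, hv, hu1, hv1, huv, hu2, hv2, hc⟩
  obtain ⟨Q, hQY, hQ2, hQc⟩ :=
    exists_not_cyclic_two_subgroup (N.map f) hu hv hu1 hv1 huv hu2 hv2 hc
  have : Fact (Nat.Prime 2) := ⟨Nat.prime_two⟩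
  obtain ⟨P, hPN, hP2, hPQ⟩ := exists_pGroup_le_map_eq f N 2 Q hQ2 hQY
  have hPc : IsCyclic P := hN P hPN hP2
  apply hQc
  rw [← hPQ]
  exact isCyclic_of_surjective (f.subgroupMap P) (f.subgroupMap_surjective P)

theorem le_of_big [Finite G] {N₁ N₂ : Subgroup G} (hN₁ : N₁.Normal) (hC : C2 N₁) {X : Type*}
    [Group X] [Finite X] (f : G →* X) (hf : Function.Surjective f) (hk : f.ker = N₂)
    (hbig : ∀ Y : Subgroup X, Y.Normal → Y ≠ ⊥ → HasFour Y) : N₁ ≤ N₂ := by
  have hY : (N₁.map f).Normal := Subgroup.Normal.map hN₁ f hf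
  by_contra hle
  apply not_hasFour_map f N₁ hC
  apply hbig _ hY
  intro h0
  apply hle
  rw [← hk]
  intro x hx
  rw [MonoidHom.mem_ker]
  have h1 : f x ∈ N₁.map f := Subgroup.mem_map_of_mem f hx
  rw [h0, Subgroup.mem_bot] at h1
  exact h1

theorem index_ker_of_surjective {X : Type*} [Group X] (f : G →* X) (hf : Function.Surjective f) :
    f.ker.index = Nat.card X := by
  rw [Subgroup.index_ker, MonoidHom.range_eq_top.mpr hf, Subgroup.card_top]

/-- exponent two images of cyclic or quaternion groups have order at most four -/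
theorem card_range_le_four {S E : Type*} [Group S] [Group E] [Finite S]
    (hS : IsCyclic S ∨ ∃ n : ℕ, Nonempty (S ≃* QuaternionGroup (2 ^ n))) (ψ : S →* E)
    (hexp : ∀ s, ψ s ^ 2 = 1) : Nat.card ψ.range ≤ 4 := by
  have key : ∃ a b : S, ∀ s : S, ∃ i j : ℕ, s = b ^ i * a ^ j := by
    rcases hS with hS | ⟨n, ⟨e⟩⟩
    · obtain ⟨g, hg⟩ := IsCyclic.exists_monoid_generator (α := S)
      refine ⟨g, 1, fun s => ?_⟩
      obtain ⟨j, hj⟩ := hg s
      exact ⟨0, j, by simp [← hj]⟩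
    · refine ⟨e.symm (QuaternionGroup.a 1), e.symm (QuaternionGroup.xa 0), fun s => ?_⟩
      have hcases : ∀ q : QuaternionGroup (2 ^ n), ∃ i j : ℕ,
          q = QuaternionGroup.xa 0 ^ i * QuaternionGroup.a 1 ^ j := by
        intro q
        cases q with
        | a k =>
          refine ⟨0, k.val, ?_⟩
          rw [pow_zero, one_mul, QuaternionGroup.a_one_pow, ZMod.natCast_zmod_val]
        | xa k =>
          refine ⟨1, k.val, ?_⟩
          rw [pow_one, QuaternionGroup.a_one_pow, ZMod.natCast_zmod_val, QuaternionGroup.xa_mul_a,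
            zero_add]
      obtain ⟨i, j, hij⟩ := hcases (e s)
      refine ⟨i, j, ?_⟩
      apply e.injective
      rw [hij, map_mul, map_pow, map_pow, MulEquiv.apply_symm_apply, MulEquiv.apply_symm_apply]
  obtain ⟨a, b, hab⟩ := key
  have hsurj : Function.Surjective (fun x : Fin 2 × Fin 2 =>
      (⟨ψ (b ^ x.1.val * a ^ x.2.val), ⟨_, rfl⟩⟩ : ψ.range)) := by
    rintro ⟨y, s, rfl⟩
    obtain ⟨i, j, hij⟩ := hab s
    refine ⟨(⟨i % 2, Nat.mod_lt _ (by norm_num)⟩, ⟨j % 2, Nat.mod_lt _ (by norm_num)⟩), ?_⟩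
    apply Subtype.ext
    show ψ (b ^ (i % 2) * a ^ (j % 2)) = ψ s
    rw [hij, map_mul, map_mul, map_pow, map_pow, map_pow, map_pow,
      ← pow_eq_pow_mod i (hexp b), ← pow_eq_pow_mod j (hexp a)]
  have h1 := Nat.card_le_card_of_surjective _ hsurj
  have h2 : Nat.card (Fin 2 × Fin 2) = 4 := by
    rw [Nat.card_prod, Nat.card_fin]
  omega

theorem eq_of_small [Finite G]
    (hQ : ∀ P : Subgroup G, IsPGroup 2 P →
      IsCyclic P ∨ ∃ n : ℕ, Nonempty (P ≃* QuaternionGroup (2 ^ n)))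
    {X₁ X₂ : Type*} [Group X₁] [Group X₂] (f₁ : G →* X₁) (f₂ : G →* X₂)
    (h₁ : Function.Surjective f₁) (c₁ : Nat.card X₁ = 4)
    (e₁ : ∀ x : X₁, x ^ 2 = 1) (e₂ : ∀ x : X₂, x ^ 2 = 1) : f₁.ker ≤ f₂.ker := by
  have : Fact (Nat.Prime 2) := ⟨Nat.prime_two⟩
  have hexp : ∀ g : G, (f₁.prod f₂) g ^ 2 = 1 := by
    intro g
    rw [MonoidHom.prod_apply, Prod.pow_mk, e₁, e₂]
    rfl
  have hQ2 : IsPGroup 2 (f₁.prod f₂).range := by
    rintro ⟨y, g, rfl⟩
    refine ⟨1, Subtype.ext ?_⟩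
    rw [pow_one]
    exact hexp g
  obtain ⟨P, hP, hPQ⟩ := exists_pGroup_map_eq' (f₁.prod f₂) 2 _ hQ2 le_rfl
  have h4 := card_range_le_four (hQ P hP) ((f₁.prod f₂).comp P.subtype) (fun s => hexp s)
  rw [MonoidHom.range_comp, Subgroup.range_subtype, hPQ] at h4
  have h5 : (f₁.prod f₂).ker.index ≤ 4 := by
    rw [Subgroup.index_ker]
    exact h4
  have hle : (f₁.prod f₂).ker ≤ f₁.ker := by
    rw [MonoidHom.ker_prod]
    exact inf_le_left
  have h6 := Subgroup.relIndex_mul_index hle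
  rw [index_ker_of_surjective f₁ h₁, c₁] at h6
  have h7 : (f₁.prod f₂).ker.index ≠ 0 := Subgroup.index_ne_zero_of_finite
  have h8 : (f₁.prod f₂).ker.relIndex f₁.ker = 1 := by omega
  rw [Subgroup.relIndex_eq_one, MonoidHom.ker_prod] at h8
  exact h8.trans inf_le_right

/-- **uniqueness**: in a finite group whose `2`-subgroups are cyclic or quaternion there is at most
one normal subgroup with cyclic `2`-subgroups and quotient among the six types -/
theorem unique_of_valid [Finite G]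
    (hQ : ∀ P : Subgroup G, IsPGroup 2 P →
      IsCyclic P ∨ ∃ n : ℕ, Nonempty (P ≃* QuaternionGroup (2 ^ n)))
    {N₁ N₂ : Subgroup G} (hN₁ : N₁.Normal) (hN₂ : N₂.Normal) (hC₁ : C2 N₁) (hC₂ : C2 N₂)
    (h₁ : SixType N₁) (h₂ : SixType N₂) : N₁ = N₂ := by
  have htop : ∀ {A B : Subgroup G}, A = ⊤ → C2 A → B ≠ ⊤ → SixType B → False := by
    intro A B hA hCA hB hSB
    obtain ⟨X, iG, iF, f, hf, hk, h4, -⟩ := kind_of_sixType hSB hB
    apply not_hasFour_map f A hCA
    rw [hA, Subgroup.map_top_of_surjective f hf]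
    exact h4
  by_cases t₁ : N₁ = ⊤
  · by_cases t₂ : N₂ = ⊤
    · rw [t₁, t₂]
    · exact (htop t₁ hC₁ t₂ h₂).elim
  by_cases t₂ : N₂ = ⊤
  · exact (htop t₂ hC₂ t₁ h₁).elim
  obtain ⟨X₁, iG₁, iF₁, f₁, hf₁, hk₁, -, k₁⟩ := kind_of_sixType h₁ t₁
  obtain ⟨X₂, iG₂, iF₂, f₂, hf₂, hk₂, -, k₂⟩ := kind_of_sixType h₂ t₂
  rcases k₁ with ⟨c₁, e₁⟩ | ⟨c₁, b₁⟩
  · rcases k₂ with ⟨c₂, e₂⟩ | ⟨c₂, b₂⟩
    · rw [← hk₁, ← hk₂]
      exact le_antisymm (eq_of_small hQ f₁ f₂ hf₁ c₁ e₁ e₂) (eq_of_small hQ f₂ f₁ hf₂ c₂ e₂ e₁)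
    · exfalso
      have hle : N₁ ≤ N₂ := le_of_big hN₁ hC₁ f₂ hf₂ hk₂ b₂
      have h1 := Subgroup.index_dvd_of_le hle
      rw [← hk₁, ← hk₂, index_ker_of_surjective f₁ hf₁, index_ker_of_surjective f₂ hf₂, c₁] at h1
      have := Nat.le_of_dvd (by norm_num) h1
      omega
  · rcases k₂ with ⟨c₂, e₂⟩ | ⟨c₂, b₂⟩
    · exfalso
      have hle : N₂ ≤ N₁ := le_of_big hN₂ hC₂ f₁ hf₁ hk₁ b₁
      have h1 := Subgroup.index_dvd_of_le hle
      rw [← hk₁, ← hk₂, index_ker_of_surjective f₁ hf₁, index_ker_of_surjective f₂ hf₂, c₂] at h1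
      have := Nat.le_of_dvd (by norm_num) h1
      omega
    · exact le_antisymm (le_of_big hN₁ hC₁ f₂ hf₂ hk₂ b₂) (le_of_big hN₂ hC₂ f₁ hf₁ hk₁ b₁)

end Cfsg.Agent.Lib.Helper71_FCUnique
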