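import Mathlib
import Cfsg.Agent.Lib.Helper71_FCUnique
import Cfsg.Agent.Lib.Helper35_PSL2Card
import Cfsg.Agent.S0253
import Cfsg.Agent.S2119

/-!
# The non-solvable case of the structure theorem on Frobenius complements (helper71)
-/

set_option autoImplicit false

namespace Cfsg.Agent.Lib.Helper71_FCNonsolv

open Cfsg.Agent.Lib.Helper71_FCBridge Cfsg.Agent.Lib.Helper71_FCSmall
  Cfsg.Agent.Lib.Helper71_FCUnique

section induced

variable {G Y : Type*} [Group G] [Group Y] (A : Subgroup G) [hA : A.Normal] (τ : A →* Y)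
  (hτ : Function.Surjective τ)
  (hinv : ∀ (g : G) (a : A), τ a = 1 → τ (MulAut.conjNormal g a) = 1)

/-- the endomorphism of the quotient induced by conjugation -/
noncomputable def indHom (g : G) : Y →* Y :=
  MonoidHom.liftOfSurjective τ hτ
    ⟨τ.comp (MulAut.conjNormal g : MulAut A).toMonoidHom, fun a ha => by
      rw [MonoidHom.mem_ker] at ha ⊢
      exact hinv g a ha⟩

theorem indHom_apply (g : G) (a : A) :
    indHom A τ hτ hinv g (τ a) = τ (MulAut.conjNormal g a) := by
  unfold indHom MonoidHom.liftOfSurjective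
  exact MonoidHom.liftOfRightInverse_comp_apply _ _ _ _ a

/-- the automorphism of the quotient induced by conjugation -/
noncomputable def indAut (g : G) : MulAut Y :=
  { toFun := indHom A τ hτ hinv g
    invFun := indHom A τ hτ hinv g⁻¹
    left_inv := fun y => by
      obtain ⟨a, rfl⟩ := hτ y
      rw [indHom_apply, indHom_apply, map_inv, MulAut.inv_apply_self]
    right_inv := fun y => by
      obtain ⟨a, rfl⟩ := hτ y
      rw [indHom_apply, indHom_apply, map_inv, MulAut.apply_inv_self]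
    map_mul' := map_mul _ }

theorem indAut_apply (g : G) (a : A) :
    indAut A τ hτ hinv g (τ a) = τ (MulAut.conjNormal g a) :=
  indHom_apply A τ hτ hinv g a

/-- the action on the quotient induced by conjugation -/
noncomputable def indAction : G →* MulAut Y :=
  MonoidHom.mk' (indAut A τ hτ hinv) (fun g h => by
    apply MulEquiv.ext
    intro y
    obtain ⟨a, rfl⟩ := hτ y
    rw [MulAut.mul_apply, indAut_apply, indAut_apply, indAut_apply, map_mul, MulAut.mul_apply])

theorem indAction_apply (g : G) (a : A) :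
    indAction A τ hτ hinv g (τ a) = τ (MulAut.conjNormal g a) :=
  indHom_apply A τ hτ hinv g a

end induced

section sl25

theorem card_SL25 : Nat.card (Matrix.SpecialLinearGroup (Fin 2) (ZMod 5)) = 120 := by
  have : Fact (Nat.Prime 5) := ⟨by norm_num⟩
  have h := Cfsg.Agent.Lib.Helper35_PSL2Card.card_SL2_mul (F := ZMod 5)
  rw [ZMod.card] at h
  omega

/-- a group isomorphic to `SL(2,5)` maps onto `A₅` with kernel of order two -/
theorem exists_hom_A5 {S : Type*} [Group S]
    (eS : S ≃* Matrix.SpecialLinearGroup (Fin 2) (ZMod 5)) :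
    ∃ σ : S →* alternatingGroup (Fin 5), Function.Surjective σ ∧ Nat.card σ.ker = 2 ∧
      Nat.card S = 120 := by
  have : Fact (Nat.Prime 5) := ⟨by norm_num⟩
  obtain ⟨ψ⟩ := Cfsg.Agent.S0253.result (F := ZMod 5) (ZMod.card 5)
  have hS : Nat.card S = 120 := by rw [Nat.card_congr eS.toEquiv, card_SL25]
  have : Finite S := Nat.finite_of_card_ne_zero (by omega)
  refine ⟨ψ.toMonoidHom.comp ((QuotientGroup.mk' _).comp eS.toMonoidHom), ?_, ?_, hS⟩
  · exact ψ.surjective.comp ((QuotientGroup.mk'_surjective _).comp eS.surjective)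
  · have hsurj : Function.Surjective
        (ψ.toMonoidHom.comp ((QuotientGroup.mk' _).comp eS.toMonoidHom)) :=
      ψ.surjective.comp ((QuotientGroup.mk'_surjective _).comp eS.surjective)
    have h1 := Subgroup.card_mul_index
      (ψ.toMonoidHom.comp ((QuotientGroup.mk' _).comp eS.toMonoidHom)).ker
    rw [index_ker_of_surjective _ hsurj, card_A5, hS] at h1
    omega

end sl25

section main

variable {G : Type*} [Group G]

/-- a subgroup of exponent two in a group with a unique involution has order at most two -/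
theorem card_le_two_of_exp_two
    (huniq : ∀ a b : G, a ≠ 1 → b ≠ 1 → a ^ 2 = 1 → b ^ 2 = 1 → a = b)
    (P : Subgroup G) (hexp : ∀ x ∈ P, x ^ 2 = 1) : Nat.card P ≤ 2 := by
  have : Fact (Nat.Prime 2) := ⟨Nat.prime_two⟩
  by_cases hb : P = ⊥
  · rw [hb, Subgroup.card_bot]
    norm_num
  · obtain ⟨x, hx1⟩ := (Subgroup.ne_bot_iff_exists_ne_one).mp hb
    have hx1' : (x : G) ≠ 1 := fun h => hx1 (Subtype.ext h)
    have hle : P ≤ Subgroup.zpowers (x : G) := by
      intro y hy
      by_cases hy1 : y = 1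
      · rw [hy1]
        exact one_mem _
      · rw [huniq y x hy1 hx1' (hexp y hy) (hexp x x.2)]
        exact Subgroup.mem_zpowers _
    have hfin : Finite (Subgroup.zpowers (x : G)) := by
      apply Nat.finite_of_card_ne_zero
      rw [Nat.card_zpowers, orderOf_eq_prime (hexp x x.2) hx1']
      norm_num
    have h1 := Subgroup.card_le_of_le hle
    rw [Nat.card_zpowers, orderOf_eq_prime (hexp x x.2) hx1'] at h1
    exact h1

theorem isCyclic_of_card_le_four {P : Type*} [Group P]
    (hP : IsCyclic P ∨ ∃ n : ℕ, Nonempty (P ≃* QuaternionGroup (2 ^ n)))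
    (h4 : Nat.card P ≤ 4) : IsCyclic P := by
  rcases hP with hc | ⟨n, ⟨e⟩⟩
  · exact hc
  · have h1 : Nat.card P = 4 * 2 ^ n := by
      rw [Nat.card_congr e.toEquiv, Nat.card_eq_fintype_card, QuaternionGroup.card]
    have h2 : n = 0 := by
      by_contra hn
      have : 2 ^ 1 ≤ 2 ^ n := Nat.pow_le_pow_right (by norm_num) (by omega)
      omega
    subst h2
    have hc : IsCyclic (QuaternionGroup (2 ^ 0)) := QuaternionGroup.quaternionGroup_one_isCyclic
    exact isCyclic_of_surjective e.symm.toMonoidHom e.symm.surjective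

theorem nonsolvable_case [Finite G]
    (hQ : ∀ P : Subgroup G, IsPGroup 2 P →
      IsCyclic P ∨ ∃ n : ℕ, Nonempty (P ≃* QuaternionGroup (2 ^ n)))
    (huniq : ∀ a b : G, a ≠ 1 → b ≠ 1 → a ^ 2 = 1 → b ^ 2 = 1 → a = b)
    (G₀ : Subgroup G) (hG₀ : G₀.Normal) (hidx : G₀.index = 1 ∨ G₀.index = 2)
    (S M : Subgroup G) (hSM : S ⊔ M = G₀) (hdisj : S ⊓ M = ⊥)
    (hcomm : ∀ s ∈ S, ∀ x ∈ M, s * x = x * s)
    (eS : S ≃* Matrix.SpecialLinearGroup (Fin 2) (ZMod 5)) (hM30 : (Nat.card M).Coprime 30) :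
    ∃ N : Subgroup G, N.Normal ∧ C2 N ∧ SixType N := by
  have : Fact (Nat.Prime 2) := ⟨Nat.prime_two⟩
  obtain ⟨σ, hσ, hσk, hScard⟩ := exists_hom_A5 eS
  -- the internal direct product
  have hc : ∀ (s : S) (m : M), Commute (S.subtype s) (M.subtype m) :=
    fun s m => hcomm s s.2 m m.2
  have hι : ∀ p : S × M, MonoidHom.noncommCoprod S.subtype M.subtype hc p = (p.1 : G) * (p.2 : G) :=
    fun p => MonoidHom.noncommCoprod_apply _ _ _ p
  have hinj : Function.Injective (MonoidHom.noncommCoprod S.subtype M.subtype hc) := by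
    rw [injective_iff_map_eq_one]
    rintro ⟨s, m⟩ h
    rw [hι] at h
    have h1 : (s : G) ∈ S ⊓ M :=
      ⟨s.2, by
        show (s : G) ∈ M
        rw [eq_inv_of_mul_eq_one_left h]
        exact M.inv_mem m.2⟩
    rw [hdisj, Subgroup.mem_bot] at h1
    have h2 : (m : G) = 1 := by
      have h3 : ((s : G)) * (m : G) = 1 := h
      rw [h1, one_mul] at h3
      exact h3
    exact Prod.ext (Subtype.ext h1) (Subtype.ext h2)
  have hr : (MonoidHom.noncommCoprod S.subtype M.subtype hc).range = G₀ := by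
    rw [MonoidHom.noncommCoprod_range, Subgroup.range_subtype, Subgroup.range_subtype, hSM]
  obtain ⟨ε, hε⟩ : ∃ ε : S × M ≃* G₀, ∀ p : S × M, ((ε p : G₀) : G) = (p.1 : G) * (p.2 : G) :=
    ⟨(MonoidHom.ofInjective hinj).trans (MulEquiv.subgroupCongr hr), fun p => hι p⟩
  -- the map onto `A₅`
  obtain ⟨τ, hτdef⟩ : ∃ τ : G₀ →* alternatingGroup (Fin 5), ∀ p : S × M, τ (ε p) = σ p.1 :=
    ⟨(σ.comp (MonoidHom.fst S M)).comp ε.symm.toMonoidHom, fun p => by
      show σ (ε.symm (ε p)).1 = σ p.1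
      rw [MulEquiv.symm_apply_apply]⟩
  have hτ : Function.Surjective τ := by
    intro y
    obtain ⟨s, rfl⟩ := hσ y
    exact ⟨ε (s, 1), hτdef (s, 1)⟩
  have hM60 : (Nat.card M).Coprime 60 := by
    have h2 : (Nat.card M).Coprime 2 := Nat.Coprime.coprime_dvd_right (by norm_num) hM30
    have : (60 : ℕ) = 2 * 30 := by norm_num
    rw [this]
    exact Nat.Coprime.mul_right h2 hM30
  have hMpos : 0 < Nat.card M := Nat.card_pos
  -- the involution of `ker σ`
  obtain ⟨z', hz'k, hz'1⟩ : ∃ z' : S, z' ∈ σ.ker ∧ z' ≠ 1 := by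
    have hne : σ.ker ≠ ⊥ := by
      intro h0
      rw [h0, Subgroup.card_bot] at hσk
      omega
    obtain ⟨x, hx1⟩ := (Subgroup.ne_bot_iff_exists_ne_one).mp hne
    exact ⟨x, x.2, fun h => hx1 (Subtype.ext h)⟩
  have hker2 : ∀ s : S, s ∈ σ.ker → s ^ 2 = 1 := by
    intro s hs
    have h1 : (⟨s, hs⟩ : σ.ker) ^ Nat.card σ.ker = 1 := pow_card_eq_one'
    rw [hσk] at h1
    exact congrArg Subtype.val h1
  -- the kernel of `τ`
  have hker : ∀ x : G₀, τ x = 1 ↔ (x : G) ^ (2 * Nat.card M) = 1 := by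
    intro x
    obtain ⟨⟨s, m⟩, rfl⟩ := ε.surjective x
    rw [hτdef, hε]
    show σ s = 1 ↔ ((s : G) * (m : G)) ^ (2 * Nat.card M) = 1
    have hm : (m : G) ^ (2 * Nat.card M) = 1 := by
      have h1 : m ^ Nat.card M = 1 := pow_card_eq_one'
      rw [mul_comm, pow_mul, ← Subgroup.coe_pow, h1]
      simp
    have hcm : Commute (s : G) (m : G) := hc s m
    rw [hcm.mul_pow, hm, mul_one]
    constructor
    · intro h
      have h1 := hker2 s h
      rw [pow_mul, ← Subgroup.coe_pow, h1]
      simp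
    · intro h
      have h1 : s ^ (2 * Nat.card M) = 1 := Subtype.ext (by rw [Subgroup.coe_pow, h]; rfl)
      have h2 : s ^ Nat.card S = 1 := pow_card_eq_one'
      have h3 : s ^ (Nat.gcd (2 * Nat.card M) (Nat.card S)) = 1 := pow_gcd_eq_one.mpr ⟨h1, h2⟩
      have h4 : Nat.gcd (2 * Nat.card M) (Nat.card S) = 2 := by
        rw [hScard, show (120 : ℕ) = 2 * 60 by norm_num, Nat.gcd_mul_left, hM60]
      rw [h4] at h3
      by_cases hs1 : s = 1
      · rw [hs1, map_one]
      · have h5 : (s : G) = (z' : G) := by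
          apply huniq
          · exact fun h => hs1 (Subtype.ext h)
          · exact fun h => hz'1 (Subtype.ext h)
          · rw [← Subgroup.coe_pow, h3]; rfl
          · rw [← Subgroup.coe_pow, hker2 z' hz'k]; rfl
        rw [Subtype.ext h5]
        exact hz'k
  have hinv : ∀ (g : G) (a : G₀), τ a = 1 → τ (MulAut.conjNormal g a) = 1 := by
    intro g a ha
    rw [hker] at ha ⊢
    rw [MulAut.conjNormal_apply, conj_pow, ha, mul_one, mul_inv_cancel]
  -- the action on `A₅`
  have hbij := Cfsg.Agent.S2119.result 5 (by norm_num) (by norm_num)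
  obtain ⟨f, hf⟩ : ∃ f : G →* Equiv.Perm (Fin 5), ∀ g : G,
      (MulAut.conjNormal (f g) : MulAut (alternatingGroup (Fin 5))) = indAction G₀ τ hτ hinv g := by
    refine ⟨(MulEquiv.ofBijective _ hbij).symm.toMonoidHom.comp (indAction G₀ τ hτ hinv), ?_⟩
    intro g
    exact (MulEquiv.ofBijective _ hbij).apply_symm_apply _
  have hf₀ : ∀ a : G₀, f (a : G) = (τ a : Equiv.Perm (Fin 5)) := by
    intro a
    apply hbij.1
    rw [hf]
    apply MulEquiv.ext
    intro y
    obtain ⟨x, rfl⟩ := hτ y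
    rw [indAction_apply]
    apply Subtype.ext
    rw [MulAut.conjNormal_apply]
    have h1 : MulAut.conjNormal (a : G) x = a * x * a⁻¹ := by
      apply Subtype.ext
      rw [MulAut.conjNormal_apply]
      rfl
    rw [h1, map_mul, map_mul, map_inv]
    rfl
  have hrange : alternatingGroup (Fin 5) ≤ f.range := by
    intro y hy
    obtain ⟨a, ha⟩ := hτ ⟨y, hy⟩
    refine ⟨a, ?_⟩
    rw [hf₀, ha]
  have hkerf : ∀ x : G, x ∈ G₀ → f x = 1 → x ^ (2 * Nat.card M) = 1 := by
    intro x hx hfx
    have h1 := hf₀ ⟨x, hx⟩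
    rw [hfx] at h1
    exact (hker ⟨x, hx⟩).mp (Subtype.ext h1.symm)
  refine ⟨f.ker, inferInstance, ?_, ?_⟩
  · -- cyclic `2`-subgroups
    intro P hPk hP
    apply isCyclic_of_card_le_four (hQ P hP)
    have hexp : ∀ x ∈ P ⊓ G₀, x ^ 2 = 1 := by
      intro x hx
      have h1 := hkerf x hx.2 (hPk hx.1)
      obtain ⟨k, hk⟩ := hP ⟨x, hx.1⟩
      have hk' : x ^ 2 ^ k = 1 := by
        have := congrArg Subtype.val hk
        simpa using this
      have h2 : orderOf x ∣ 2 ^ k := orderOf_dvd_of_pow_eq_one hk'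
      obtain ⟨j, -, hj⟩ := (Nat.dvd_prime_pow Nat.prime_two).mp h2
      have h3 : orderOf x ∣ 2 * Nat.card M := orderOf_dvd_of_pow_eq_one h1
      have h4 : orderOf x ∣ 2 := by
        apply Nat.Coprime.dvd_of_dvd_mul_right _ h3
        rw [hj]
        apply Nat.Coprime.pow_left
        exact (Nat.Coprime.coprime_dvd_right (by norm_num) hM30).symm
      exact orderOf_dvd_iff_pow_eq_one.mp h4
    have h1 := card_le_two_of_exp_two huniq (P ⊓ G₀) hexp
    have h2 : (P ⊓ G₀).relIndex P ≤ 2 := by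
      rw [Subgroup.inf_relIndex_left]
      have h3 := Subgroup.relIndex_dvd_index_of_normal G₀ P
      rcases hidx with h | h <;> rw [h] at h3
      · exact (Nat.le_of_dvd (by norm_num) h3).trans (by norm_num)
      · exact Nat.le_of_dvd (by norm_num) h3
    have h3 := Subgroup.relIndex_mul_relIndex ⊥ (P ⊓ G₀) P bot_le inf_le_left
    rw [Subgroup.relIndex_bot_left, Subgroup.relIndex_bot_left] at h3
    rw [← h3]
    calc Nat.card (P ⊓ G₀ : Subgroup G) * (P ⊓ G₀).relIndex P ≤ 2 * 2 := Nat.mul_le_mul h1 h2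
      _ = 4 := by norm_num
  · -- the quotient
    have h1 := Subgroup.index_dvd_of_le hrange
    rw [alternatingGroup.index_eq_two] at h1
    rcases (Nat.dvd_prime Nat.prime_two).mp h1 with h | h
    · rw [Subgroup.index_eq_one, MonoidHom.range_eq_top] at h
      exact Or.inr (Or.inr (Or.inr (Or.inr (Or.inr ⟨f, h, rfl⟩))))
    · have h2 := Equiv.Perm.eq_alternatingGroup_of_index_eq_two h
      refine Or.inr (Or.inr (Or.inr (Or.inr (Or.inl
        ⟨f.codRestrict (alternatingGroup (Fin 5)) (fun x => by rw [← h2]; exact ⟨x, rfl⟩), ?_,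
          MonoidHom.ker_codRestrict _ _ _⟩))))
      rintro ⟨y, hy⟩
      rw [← h2] at hy
      obtain ⟨x, rfl⟩ := hy
      exact ⟨x, rfl⟩

end main

end Cfsg.Agent.Lib.Helper71_FCNonsolv
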