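import Mathlib
import Cfsg.Agent.Lib.Helper71_FCUnique
import Cfsg.Agent.Lib.Helper55_Fitting
import Cfsg.Agent.Lib.Helper1_Cores
import Cfsg.Agent.S3304
import Cfsg.Agent.S5112

/-!
# The solvable case of the structure theorem on Frobenius complements (helper71)
-/

set_option autoImplicit false

namespace Cfsg.Agent.Lib.Helper71_FCSolv

open Cfsg.Agent.Lib.Helper71_FCBridge Cfsg.Agent.Lib.Helper71_FCSmall
  Cfsg.Agent.Lib.Helper71_FCUnique

section xlevel

variable {X : Type*} [Group X]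

theorem isCyclic_of_card_le_two' {A : Type*} [Group A] [Finite A] (h : Nat.card A ≤ 2) :
    IsCyclic A := by
  have hpos : 0 < Nat.card A := Nat.card_pos
  have h12 : Nat.card A = 1 ∨ Nat.card A = 2 := by omega
  rcases h12 with h1 | h2
  · have : Subsingleton A := Finite.card_le_one_iff_subsingleton.mp h1.le
    exact isCyclic_of_subsingleton
  · have : Fact (Nat.Prime 2) := ⟨Nat.prime_two⟩
    exact isCyclic_of_prime_card h2

/-- the `2`-group case: a non-cyclic quaternion group maps onto the four-group with cyclic kernel -/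
theorem two_group_case [Finite X] (h2 : IsPGroup 2 X)
    (hQX : ∀ P : Subgroup X, IsPGroup 2 P →
      IsCyclic P ∨ ∃ n : ℕ, Nonempty (P ≃* QuaternionGroup (2 ^ n)))
    (hnc : ∃ P : Subgroup X, IsPGroup 2 P ∧ ¬ IsCyclic P) :
    ∃ N : Subgroup X, IsCyclic N ∧ SixType N := by
  obtain ⟨P₀, -, hP₀nc⟩ := hnc
  have hcontra : IsCyclic X → False := by
    intro hc
    exact hP₀nc inferInstance
  rcases hQX ⊤ (h2.to_subgroup ⊤) with hc | ⟨n, ⟨e⟩⟩
  · exfalso
    apply hcontra
    exact isCyclic_of_surjective Subgroup.topEquiv.toMonoidHom Subgroup.topEquiv.surjective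
  · have e' : X ≃* QuaternionGroup (2 ^ n) := Subgroup.topEquiv.symm.trans e
    cases n with
    | zero =>
      exfalso
      apply hcontra
      have hc : IsCyclic (QuaternionGroup (2 ^ 0)) := QuaternionGroup.quaternionGroup_one_isCyclic
      exact isCyclic_of_surjective e'.symm.toMonoidHom e'.symm.surjective
    | succ k =>
      have hm : Even (2 ^ (k + 1)) := ⟨2 ^ k, by ring⟩
      have hck : IsCyclic (q2d (2 ^ (k + 1)) hm).ker := isCyclic_ker_q2d _ hm
      refine ⟨((q2d (2 ^ (k + 1)) hm).comp e'.toMonoidHom).ker, ?_,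
        Or.inr (Or.inl ⟨(q2d (2 ^ (k + 1)) hm).comp e'.toMonoidHom,
          (q2d_surjective _ hm).comp e'.surjective, rfl⟩)⟩
      apply isCyclic_of_injective
        ((e'.toMonoidHom.comp ((q2d (2 ^ (k + 1)) hm).comp e'.toMonoidHom).ker.subtype).codRestrict
          (q2d (2 ^ (k + 1)) hm).ker (fun x => x.2))
      intro a b h
      apply Subtype.ext
      apply e'.injective
      exact congrArg Subtype.val h

/-- the case of a self-centralizing normal quaternion group of order eight -/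
theorem q8_case [Finite X] (Q : Subgroup X) [hQn : Q.Normal] (θ : Q ≃* QuaternionGroup 2)
    (hC : Subgroup.centralizer (Q : Set X) ≤ Q) (hn2 : ¬ IsPGroup 2 X) :
    ∃ N : Subgroup X, IsCyclic N ∧ SixType N := by
  obtain ⟨e₄⟩ := Cfsg.Agent.S3304.mulAut_Q8_equiv_perm
  obtain ⟨ψ, hψ⟩ : ∃ ψ : X →* Equiv.Perm (Fin 4),
      ψ.ker = Subgroup.centralizer (Q : Set X) := by
    refine ⟨(e₄.toMonoidHom.comp (MulAut.congr θ).toMonoidHom).comp (MulAut.conjNormal (H := Q)), ?_⟩
    rw [← Cfsg.Agent.Lib.Helper55_Fitting.conjNormal_ker Q]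
    ext x
    rw [MonoidHom.mem_ker, MonoidHom.mem_ker]
    constructor
    · intro h
      apply (MulAut.congr θ).injective
      apply e₄.injective
      rw [map_one, map_one]
      exact h
    · intro h
      show e₄ ((MulAut.congr θ) (MulAut.conjNormal x)) = 1
      rw [h, map_one, map_one]
  have hZ : Nat.card ψ.ker ≤ 2 := by
    rw [hψ]
    exact Cfsg.Agent.S3304.card_centralizer_le Q θ hC
  have hcyc : IsCyclic ψ.ker := isCyclic_of_card_le_two' hZ
  have h1 : Nat.card ψ.ker * Nat.card ψ.range = Nat.card X := by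
    rw [← Subgroup.index_ker, Subgroup.card_mul_index]
  have h24 : Nat.card ψ.range ∣ 24 := by
    rw [← card_S4]
    exact Subgroup.card_subgroup_dvd_card _
  have h8 : 8 ∣ Nat.card X := by
    have h : Nat.card Q = 8 := by
      rw [Nat.card_congr θ.toEquiv, Nat.card_eq_fintype_card, QuaternionGroup.card]
    rw [← h]
    exact Subgroup.card_subgroup_dvd_card Q
  have hne : ∀ k : ℕ, Nat.card X ≠ 2 ^ k := fun k hk => hn2 (IsPGroup.of_card hk)
  have hb : Nat.card ψ.range = 12 ∨ Nat.card ψ.range = 24 := by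
    have hb24 : Nat.card ψ.range ≤ 24 := Nat.le_of_dvd (by norm_num) h24
    have hbpos : 0 < Nat.card ψ.range := Nat.card_pos
    have hapos : 0 < Nat.card ψ.ker := Nat.card_pos
    have e2 : Nat.card X ≠ 4 := by have := hne 2; norm_num at this; exact this
    have e3 : Nat.card X ≠ 8 := by have := hne 3; norm_num at this; exact this
    have e4 : Nat.card X ≠ 16 := by have := hne 4; norm_num at this; exact this
    rw [← h1] at h8 e2 e3 e4
    generalize Nat.card ψ.ker = a at *
    generalize Nat.card ψ.range = b at *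
    interval_cases a <;> interval_cases b <;> omega
  rcases hb with hb | hb
  · have hidx : ψ.range.index = 2 := by
      have h := Subgroup.card_mul_index ψ.range
      rw [hb, card_S4] at h
      omega
    have h2 := Equiv.Perm.eq_alternatingGroup_of_index_eq_two hidx
    refine ⟨ψ.ker, hcyc, Or.inr (Or.inr (Or.inl
      ⟨ψ.codRestrict (alternatingGroup (Fin 4)) (fun x => by rw [← h2]; exact ⟨x, rfl⟩), ?_,
        MonoidHom.ker_codRestrict _ _ _⟩))⟩
    rintro ⟨y, hy⟩
    rw [← h2] at hy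
    obtain ⟨x, rfl⟩ := hy
    exact ⟨x, rfl⟩
  · have htop : ψ.range = ⊤ := by
      apply Subgroup.eq_top_of_card_eq
      rw [hb, card_S4]
    rw [MonoidHom.range_eq_top] at htop
    exact ⟨ψ.ker, hcyc, Or.inr (Or.inr (Or.inr (Or.inl ⟨ψ, htop, rfl⟩)))⟩

/-- the structure of a solvable group with trivial odd core whose `2`-subgroups are cyclic or
quaternion and not all cyclic -/
theorem solvable_core [Finite X] [Group.IsSolvable X] (hO : Cfsg.pPrimeCore 2 X = ⊥)
    (hQX : ∀ P : Subgroup X, IsPGroup 2 P →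
      IsCyclic P ∨ ∃ n : ℕ, Nonempty (P ≃* QuaternionGroup (2 ^ n)))
    (hnc : ∃ P : Subgroup X, IsPGroup 2 P ∧ ¬ IsCyclic P) :
    ∃ N : Subgroup X, IsCyclic N ∧ SixType N := by
  have : Fact (Nat.Prime 2) := ⟨Nat.prime_two⟩
  have hQn : (Cfsg.pCore 2 X).Normal := Cfsg.Agent.Lib.Helper1_Cores.pCore_normal 2
  have hQ2 : IsPGroup 2 (Cfsg.pCore 2 X) := Cfsg.Agent.Lib.Helper1_Cores.pCore_isPGroup 2
  have hC : Subgroup.centralizer (Cfsg.pCore 2 X : Set X) ≤ Cfsg.pCore 2 X :=
    Cfsg.Agent.Lib.Helper55_Fitting.centralizer_pCore_le 2 hO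
  by_cases h2 : IsPGroup 2 X
  · exact two_group_case h2 hQX hnc
  · rcases hQX _ hQ2 with hc | ⟨n, ⟨e⟩⟩
    · exact absurd
        (Cfsg.Agent.Lib.Helper55_Fitting.isPGroup_two_of_cyclic_normal (Cfsg.pCore 2 X) hQ2 hC) h2
    · rcases n with _ | _ | n
      · have hc : IsCyclic (QuaternionGroup (2 ^ 0)) :=
          QuaternionGroup.quaternionGroup_one_isCyclic
        have hc' : IsCyclic (Cfsg.pCore 2 X) :=
          isCyclic_of_surjective e.symm.toMonoidHom e.symm.surjective
        exact absurd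
          (Cfsg.Agent.Lib.Helper55_Fitting.isPGroup_two_of_cyclic_normal (Cfsg.pCore 2 X) hQ2 hC) h2
      · exact q8_case (Cfsg.pCore 2 X) e hC h2
      · exfalso
        apply h2
        apply Cfsg.Agent.S3304.isPGroup_of_mulAut (Cfsg.pCore 2 X) hQ2 hC
        have hn : n + 1 + 1 = (n + 4) - 2 := by omega
        rw [hn] at e
        exact Cfsg.Agent.S5112.isPGroup_mulAut_quaternion (n + 4) (by omega) e

end xlevel

section glevel

variable {G : Type*} [Group G]

theorem sixType_normal {N : Subgroup G} (h : SixType N) : N.Normal := by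
  rcases h with h | ⟨f, -, hk⟩ | ⟨f, -, hk⟩ | ⟨f, -, hk⟩ | ⟨f, -, hk⟩ | ⟨f, -, hk⟩
  · rw [h]
    infer_instance
  all_goals
    rw [← hk]
    infer_instance

theorem sixType_comap {X : Type*} [Group X] (π : G →* X) (hπ : Function.Surjective π)
    {N : Subgroup X} (h : SixType N) : SixType (N.comap π) := by
  rcases h with h | ⟨f, hf, hk⟩ | ⟨f, hf, hk⟩ | ⟨f, hf, hk⟩ | ⟨f, hf, hk⟩ | ⟨f, hf, hk⟩
  · left
    rw [h, Subgroup.comap_top]
  · exact Or.inr (Or.inl ⟨f.comp π, hf.comp hπ, by rw [← hk, MonoidHom.comap_ker]⟩)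
  · exact Or.inr (Or.inr (Or.inl ⟨f.comp π, hf.comp hπ, by rw [← hk, MonoidHom.comap_ker]⟩))
  · exact Or.inr (Or.inr (Or.inr (Or.inl ⟨f.comp π, hf.comp hπ, by rw [← hk, MonoidHom.comap_ker]⟩)))
  · exact Or.inr (Or.inr (Or.inr (Or.inr (Or.inl
      ⟨f.comp π, hf.comp hπ, by rw [← hk, MonoidHom.comap_ker]⟩))))
  · exact Or.inr (Or.inr (Or.inr (Or.inr (Or.inr
      ⟨f.comp π, hf.comp hπ, by rw [← hk, MonoidHom.comap_ker]⟩))))

/-- a `2`-subgroup meets a subgroup of odd order trivially -/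
theorem injOn_of_odd_ker [Finite G] {X : Type*} [Group X] (π : G →* X)
    (hK : (Nat.card π.ker).Coprime 2) (P : Subgroup G) (hP : IsPGroup 2 P) {x : G} (hx : x ∈ P)
    (hπx : π x = 1) : x = 1 := by
  have : Fact (Nat.Prime 2) := ⟨Nat.prime_two⟩
  obtain ⟨k, hk⟩ := IsPGroup.iff_card.mp hP
  have hcop : (Nat.card P).Coprime (Nat.card π.ker) := by
    rw [hk]
    exact Nat.Coprime.pow_left k hK.symm
  have hd := Subgroup.disjoint_of_coprime_natCard hcop
  have hx' : x ∈ P ⊓ π.ker := ⟨hx, hπx⟩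
  rw [hd.eq_bot, Subgroup.mem_bot] at hx'
  exact hx'

theorem subgroupMap_injective [Finite G] {X : Type*} [Group X] (π : G →* X)
    (hK : (Nat.card π.ker).Coprime 2) (P : Subgroup G) (hP : IsPGroup 2 P) :
    Function.Injective (π.subgroupMap P) := by
  rw [injective_iff_map_eq_one]
  intro x hx
  apply Subtype.ext
  apply injOn_of_odd_ker π hK P hP x.2
  exact congrArg Subtype.val hx

theorem c2_comap [Finite G] {X : Type*} [Group X] (π : G →* X)
    (hK : (Nat.card π.ker).Coprime 2) (N : Subgroup X) (hc : IsCyclic N) : C2 (N.comap π) := by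
  intro P hPN hP
  apply isCyclic_of_injective
    ((π.comp P.subtype).codRestrict N (fun x => hPN x.2))
  rw [injective_iff_map_eq_one]
  intro x hx
  apply Subtype.ext
  apply injOn_of_odd_ker π hK P hP x.2
  exact congrArg Subtype.val hx

/-- **the solvable case** -/
theorem solvable_case [Finite G] (hsol : Group.IsSolvable G)
    (hQ : ∀ P : Subgroup G, IsPGroup 2 P →
      IsCyclic P ∨ ∃ n : ℕ, Nonempty (P ≃* QuaternionGroup (2 ^ n)))
    (hnc : ∃ P : Subgroup G, IsPGroup 2 P ∧ ¬ IsCyclic P) :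
    ∃ N : Subgroup G, N.Normal ∧ C2 N ∧ SixType N := by
  have : Fact (Nat.Prime 2) := ⟨Nat.prime_two⟩
  have hKn : (Cfsg.pPrimeCore 2 G).Normal := Cfsg.Agent.Lib.Helper1_Cores.pPrimeCore_normal 2
  have hπ : Function.Surjective (QuotientGroup.mk' (Cfsg.pPrimeCore 2 G)) :=
    QuotientGroup.mk'_surjective _
  have hK : (Nat.card (QuotientGroup.mk' (Cfsg.pPrimeCore 2 G)).ker).Coprime 2 := by
    rw [QuotientGroup.ker_mk']
    exact Cfsg.Agent.Lib.Helper1_Cores.pPrimeCore_card_coprime 2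
  have hO := Cfsg.Agent.Lib.Helper55_Fitting.pPrimeCore_quotient_pPrimeCore (G := G) 2
  have hQX : ∀ P : Subgroup (G ⧸ Cfsg.pPrimeCore 2 G), IsPGroup 2 P →
      IsCyclic P ∨ ∃ n : ℕ, Nonempty (P ≃* QuaternionGroup (2 ^ n)) := by
    intro Pbar hPbar
    obtain ⟨P, hP, rfl⟩ := exists_pGroup_map_eq _ hπ 2 Pbar hPbar
    have hbij : Function.Bijective ((QuotientGroup.mk' (Cfsg.pPrimeCore 2 G)).subgroupMap P) :=
      ⟨subgroupMap_injective _ hK P hP, MonoidHom.subgroupMap_surjective _ P⟩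
    rcases hQ P hP with hc | ⟨n, ⟨e⟩⟩
    · left
      exact isCyclic_of_surjective _ hbij.2
    · right
      exact ⟨n, ⟨(MulEquiv.ofBijective _ hbij).symm.trans e⟩⟩
  have hncX : ∃ P : Subgroup (G ⧸ Cfsg.pPrimeCore 2 G), IsPGroup 2 P ∧ ¬ IsCyclic P := by
    obtain ⟨P, hP, hPnc⟩ := hnc
    refine ⟨P.map (QuotientGroup.mk' (Cfsg.pPrimeCore 2 G)), hP.map _, ?_⟩
    intro hc
    apply hPnc
    exact isCyclic_of_injective _ (subgroupMap_injective _ hK P hP)
  obtain ⟨N, hNc, hN6⟩ := solvable_core hO hQX hncX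
  exact ⟨N.comap (QuotientGroup.mk' (Cfsg.pPrimeCore 2 G)),
    (sixType_normal hN6).comap _, c2_comap _ hK N hNc, sixType_comap _ hπ hN6⟩

end glevel

end Cfsg.Agent.Lib.Helper71_FCSolv
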