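import Mathlib

/-!
# S0197 package SHAPE (architect helper6): the shape lemma (pure combinatorics of integer vectors)

Five integer vectors `b, b', c, c', A` on a finite set with the Gram matrix
`[[2,1,1,1,1],[1,2,0,0,1],[1,0,3,1,-1],[1,0,1,3,-1],[1,1,-1,-1,4]]` and values `(0,0,-1,0,1)` at `o`
are supported on `o` and seven further indices, with the explicit shape of section 2 of
`pending/helper6/S0197_proof.md`.
-/

set_option autoImplicit false

namespace Cfsg.Agent.Lib.Helper71_GL23_SHAPE

theorem pm_of_sq_le {x : ℤ} (h0 : x ≠ 0) (h : x ^ 2 ≤ 3) : x = 1 ∨ x = -1 := by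
  have h1 : -2 < x := by nlinarith
  have h2 : x < 2 := by nlinarith
  omega

theorem sq_of_pm {x : ℤ} (h : x = 1 ∨ x = -1) : x ^ 2 = 1 := by
  rcases h with h | h <;> rw [h] <;> norm_num

/-- the three possible values of an integer of square at most `3`, with their squares -/
theorem tri {v : ℤ} (h : v ^ 2 ≤ 3) : (v = 0 ∧ v ^ 2 = 0) ∨ (v = 1 ∧ v ^ 2 = 1) ∨ (v = -1 ∧ v ^ 2 = 1) := by
  by_cases h0 : v = 0
  · left; subst h0; exact ⟨rfl, by norm_num⟩
  · rcases pm_of_sq_le h0 h with h1 | h1
    · right; left; subst h1; exact ⟨rfl, by norm_num⟩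
    · right; right; subst h1; exact ⟨rfl, by norm_num⟩

variable {I : Type*} [Fintype I] [DecidableEq I]

theorem L_sum (g : I → ℤ) (l : List I) (hl : l.Nodup) :
    (l.map g).sum = ∑ x ∈ l.toFinset, g x := (List.sum_toFinset g hl).symm

theorem L_le (f : I → ℤ) (l : List I) (hl : l.Nodup) :
    (l.map (fun a => f a ^ 2)).sum ≤ ∑ x, f x ^ 2 := by
  rw [L_sum _ l hl]
  exact Finset.sum_le_sum_of_subset_of_nonneg (Finset.subset_univ _) (fun i _ _ => sq_nonneg _)

theorem L_rest (f : I → ℤ) (l : List I) (hl : l.Nodup) :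
    ∑ x, f x ^ 2 = (l.map (fun a => f a ^ 2)).sum + ∑ x ∈ (l.toFinset)ᶜ, f x ^ 2 := by
  rw [L_sum _ l hl, Finset.sum_add_sum_compl]

theorem L_new (f : I → ℤ) (l : List I) (hl : l.Nodup) (n : ℤ) (hn0 : 0 ≤ n) (hn : n + 1 ≤ 3)
    (h : ∑ x, f x ^ 2 = (l.map (fun a => f a ^ 2)).sum + (n + 1)) :
    ∃ a, a ∉ l ∧ (f a = 1 ∨ f a = -1) ∧
      ∑ x, f x ^ 2 = ((a :: l).map (fun a => f a ^ 2)).sum + n := by
  have h1 := L_rest f l hl
  have h2 : ∑ x ∈ (l.toFinset)ᶜ, f x ^ 2 = n + 1 := by linarith
  have hnn : ∀ t : Finset I, 0 ≤ ∑ i ∈ t, f i ^ 2 :=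
    fun t => Finset.sum_nonneg fun i _ => sq_nonneg (f i)
  obtain ⟨a, has, ha0⟩ : ∃ a ∈ (l.toFinset)ᶜ, f a ≠ 0 := by
    by_contra hcon
    push Not at hcon
    have h3 : ∑ i ∈ (l.toFinset)ᶜ, f i ^ 2 = 0 :=
      Finset.sum_eq_zero (fun i hi => by rw [hcon i hi]; norm_num)
    linarith
  have h3 : f a ^ 2 + ∑ i ∈ ((l.toFinset)ᶜ).erase a, f i ^ 2 = ∑ i ∈ (l.toFinset)ᶜ, f i ^ 2 :=
    Finset.add_sum_erase _ (fun i => f i ^ 2) has
  have h4 := hnn (((l.toFinset)ᶜ).erase a)
  have hpm := pm_of_sq_le ha0 (by linarith)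
  have hal : a ∉ l := by simpa using has
  refine ⟨a, hal, hpm, ?_⟩
  rw [List.map_cons, List.sum_cons]
  have := sq_of_pm hpm
  linarith

theorem L_zero (f : I → ℤ) (l : List I) (hl : l.Nodup)
    (h : ∑ x, f x ^ 2 = (l.map (fun a => f a ^ 2)).sum) : ∀ x, x ∉ l → f x = 0 := by
  have h1 := L_rest f l hl
  have h2 : ∑ x ∈ (l.toFinset)ᶜ, f x ^ 2 = 0 := by linarith
  intro x hx
  have h3 := (Finset.sum_eq_zero_iff_of_nonneg (fun i _ => sq_nonneg (f i))).mp h2 x
    (by simpa using hx)
  exact pow_eq_zero_iff (two_ne_zero) |>.mp h3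

theorem L_ip (f g : I → ℤ) (l : List I) (hl : l.Nodup) (h : ∀ x, x ∉ l → f x = 0) :
    ∑ x, f x * g x = (l.map (fun a => f a * g a)).sum := by
  rw [L_sum _ l hl]
  symm
  apply Finset.sum_subset (Finset.subset_univ _)
  intro x _ hx
  rw [h x (by simpa using hx), zero_mul]

theorem L_ip' (f g : I → ℤ) (l : List I) (hl : l.Nodup) (h : ∀ x, x ∉ l → f x = 0) :
    ∑ x, g x * f x = (l.map (fun a => g a * f a)).sum := by
  rw [L_sum _ l hl]
  symm
  apply Finset.sum_subset (Finset.subset_univ _)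
  intro x _ hx
  rw [h x (by simpa using hx), mul_zero]

theorem L_repr (f : I → ℤ) (l : List I) (hl : l.Nodup) (h : ∀ x, x ∉ l → f x = 0) (x : I) :
    f x = (l.map (fun a => if x = a then f a else 0)).sum := by
  by_cases hx : x ∈ l
  · rw [L_sum _ l hl, Finset.sum_ite_eq]
    simp [hx]
  · rw [h x hx]
    symm
    apply List.sum_eq_zero
    intro y hy
    obtain ⟨a, ha, rfl⟩ := List.mem_map.mp hy
    rw [if_neg]
    rintro rfl
    exact hx ha

theorem neg_pm {T : ℤ} (h : T = 1 ∨ T = -1) : -T = 1 ∨ -T = -1 := by omega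

theorem signs_aux (s0 s1 s2 s3 s4 s5 s6 : ℤ) (h0 : s0 = 1 ∨ s0 = -1) (h1 : s1 = 1 ∨ s1 = -1)
    (h2 : s2 = 1 ∨ s2 = -1) (h3 : s3 = 1 ∨ s3 = -1) (h4 : s4 = 1 ∨ s4 = -1)
    (h5 : s5 = 1 ∨ s5 = -1) (h6 : s6 = 1 ∨ s6 = -1) :
    ∀ p : Fin 7, ![s0, s1, s2, s3, s4, s5, s6] p = 1 ∨ ![s0, s1, s2, s3, s4, s5, s6] p = -1 := by
  intro p
  fin_cases p
  exacts [h0, h1, h2, h3, h4, h5, h6]

theorem inj_aux {I : Type*} (o i j k l x0 x3 x6 : I)
    (h : [x6, x3, x0, l, k, j, i, o].Nodup) :
    Function.Injective ![x0, i, l, x3, j, k, x6] ∧ ∀ p, ![x0, i, l, x3, j, k, x6] p ≠ o := by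
  simp only [List.nodup_cons, List.mem_cons, List.not_mem_nil, or_false, not_or, List.nodup_nil,
    and_true] at h
  obtain ⟨⟨h1, h2, h3, h4, h5, h6, h7⟩, ⟨g1, g2, g3, g4, g5, g6⟩, ⟨f1, f2, f3, f4, f5⟩,
    ⟨e1, e2, e3, e4⟩, ⟨d1, d2, d3⟩, ⟨c1, c2⟩, b1, _⟩ := h
  constructor
  · intro p q hpq
    fin_cases p <;> fin_cases q <;> first | rfl | (exfalso; simp at hpq; simp_all)
  · intro p
    fin_cases p <;> simp <;> assumption

set_option maxHeartbeats 4000000 in
/-- **S0197-SHAPE**. -/
theorem shape {I : Type*} [Fintype I] [DecidableEq I] (o : I) (b b' c c' A : I → ℤ)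
    (ho : b o = 0 ∧ b' o = 0 ∧ c o = -1 ∧ c' o = 0 ∧ A o = 1)
    (hn : ∑ i, b i ^ 2 = 2 ∧ ∑ i, b' i ^ 2 = 2 ∧ ∑ i, c i ^ 2 = 3 ∧ ∑ i, c' i ^ 2 = 3 ∧
      ∑ i, A i ^ 2 = 4)
    (hc : ∑ i, b i * b' i = 1 ∧ ∑ i, b i * c i = 1 ∧ ∑ i, b i * c' i = 1 ∧ ∑ i, b' i * c i = 0 ∧
      ∑ i, b' i * c' i = 0 ∧ ∑ i, c i * c' i = 1 ∧ ∑ i, A i * b i = 1 ∧ ∑ i, A i * b' i = 1 ∧
      ∑ i, A i * c i = -1 ∧ ∑ i, A i * c' i = -1) :
    ∃ (x : Fin 7 → I) (σ : Fin 7 → ℤ), Function.Injective x ∧ (∀ j, x j ≠ o) ∧
      (∀ j, σ j = 1 ∨ σ j = -1) ∧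
      (∀ i, b i = (if i = x 1 then σ 1 else 0) - (if i = x 4 then σ 4 else 0)) ∧
      (∀ i, b' i = (if i = x 1 then σ 1 else 0) - (if i = x 5 then σ 5 else 0)) ∧
      (∀ i, c i = -(if i = o then 1 else 0) + (if i = x 2 then σ 2 else 0) -
        (if i = x 4 then σ 4 else 0)) ∧
      (∀ i, c' i = -(if i = x 0 then σ 0 else 0) + (if i = x 3 then σ 3 else 0) -
        (if i = x 4 then σ 4 else 0)) ∧
      (∀ i, A i = (if i = o then 1 else 0) + (if i = x 0 then σ 0 else 0) +
        (if i = x 1 then σ 1 else 0) - (if i = x 6 then σ 6 else 0)) := by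
  obtain ⟨hbo, hb'o, hco, hc'o, hAo⟩ := ho
  obtain ⟨nb, nb', nc, nc', nA⟩ := hn
  obtain ⟨ibb', ibc, ibc', ib'c, ib'c', icc', iAb, iAb', iAc, iAc'⟩ := hc
  -- the support of `b`
  have hl0 : [o].Nodup := List.nodup_singleton o
  obtain ⟨i0, hi0, hbi0, e1⟩ := L_new b [o] hl0 1 (by norm_num) (by norm_num)
    (by simp only [List.map_cons, List.map_nil, List.sum_cons, List.sum_nil, add_zero]
        rw [nb, hbo]; norm_num)
  have hl1 : [i0, o].Nodup := List.Nodup.cons hi0 hl0
  obtain ⟨j0, hj0, hbj0, e2⟩ := L_new b [i0, o] hl1 0 le_rfl (by norm_num) (by rw [e1]; norm_num)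
  have hl2 : [j0, i0, o].Nodup := List.Nodup.cons hj0 hl1
  have hbz := L_zero b [j0, i0, o] hl2 (by rw [e2, add_zero])
  simp only [List.mem_cons, List.not_mem_nil, or_false, not_or] at hi0 hj0
  -- `b'` on the support of `b`
  have q1 := L_ip b b' [j0, i0, o] hl2 hbz
  simp only [List.map_cons, List.map_nil, List.sum_cons, List.sum_nil, add_zero] at q1
  rw [ibb', hbo, hb'o] at q1
  have q2 := L_le b' [j0, i0, o] hl2
  simp only [List.map_cons, List.map_nil, List.sum_cons, List.sum_nil, add_zero] at q2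
  rw [nb', hb'o] at q2
  have t1 := tri (v := b' j0) (by linarith [sq_nonneg (b' i0)])
  have t2 := tri (v := b' i0) (by linarith [sq_nonneg (b' j0)])
  have hcase : (b' i0 = b i0 ∧ b' j0 = 0) ∨ (b' i0 = 0 ∧ b' j0 = b j0) := by
    rcases hbi0 with h | h <;> rcases hbj0 with h' | h' <;> simp only [h, h'] at q1 ⊢ <;> omega
  -- WLOG: `i` is the common index of `b` and `b'`
  obtain ⟨i, j, hij, hio, hjo, S, T, hS, hT, hbi, hbj, hbz', hb'i, hb'j⟩ :
      ∃ i j : I, i ≠ j ∧ i ≠ o ∧ j ≠ o ∧ ∃ S T : ℤ, (S = 1 ∨ S = -1) ∧ (T = 1 ∨ T = -1) ∧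
        b i = S ∧ b j = T ∧ (∀ x, x ∉ [j, i, o] → b x = 0) ∧ b' i = S ∧ b' j = 0 := by
    rcases hcase with ⟨h1, h2⟩ | ⟨h1, h2⟩
    · exact ⟨i0, j0, fun h => hj0.1 h.symm, hi0, hj0.2, b i0, b j0, hbi0, hbj0, rfl, rfl, hbz, h1, h2⟩
    · refine ⟨j0, i0, hj0.1, hj0.2, hi0, b j0, b i0, hbj0, hbi0, rfl, rfl, ?_, h2, h1⟩
      intro x hx
      apply hbz x
      simp only [List.mem_cons, List.not_mem_nil, or_false, not_or] at hx ⊢
      exact ⟨hx.2.1, hx.1, hx.2.2⟩
  clear hcase t1 t2 q1 q2 hbz hl2 hl1 e1 e2 hbi0 hbj0 hi0 hj0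
  have hU2 : [j, i, o].Nodup :=
    List.Nodup.cons (by simp only [List.mem_cons, List.not_mem_nil, or_false, not_or]
                        exact ⟨fun h => hij h.symm, hjo⟩)
      (List.Nodup.cons (by simp only [List.mem_cons, List.not_mem_nil, or_false]; exact hio) hl0)
  -- the third index of `b'`
  obtain ⟨k, hk, hb'k, e3⟩ := L_new b' [j, i, o] hU2 0 le_rfl (by norm_num)
    (by simp only [List.map_cons, List.map_nil, List.sum_cons, List.sum_nil, add_zero]
        rw [nb', hb'j, hb'i, hb'o]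
        rcases hS with h | h <;> rw [h] <;> norm_num)
  have hU3 : [k, j, i, o].Nodup := List.Nodup.cons hk hU2
  have hb'z := L_zero b' [k, j, i, o] hU3 (by rw [e3, add_zero])
  simp only [List.mem_cons, List.not_mem_nil, or_false, not_or] at hk
  obtain ⟨T', hT'⟩ : ∃ T', T' = b' k := ⟨_, rfl⟩
  rw [← hT'] at hb'k
  -- `c`
  have q3 := L_ip b c [j, i, o] hU2 hbz'
  simp only [List.map_cons, List.map_nil, List.sum_cons, List.sum_nil, add_zero] at q3
  rw [ibc, hbj, hbi, hbo, hco] at q3
  have q4 := L_ip b' c [k, j, i, o] hU3 hb'z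
  simp only [List.map_cons, List.map_nil, List.sum_cons, List.sum_nil, add_zero] at q4
  rw [ib'c, ← hT', hb'j, hb'i, hb'o, hco] at q4
  have q5 := L_le c [k, j, i, o] hU3
  simp only [List.map_cons, List.map_nil, List.sum_cons, List.sum_nil, add_zero] at q5
  rw [nc, hco] at q5
  norm_num at q5
  have t_ck := tri (v := c k) (by linarith [sq_nonneg (c j), sq_nonneg (c i)])
  have t_cj := tri (v := c j) (by linarith [sq_nonneg (c k), sq_nonneg (c i)])
  have t_ci := tri (v := c i) (by linarith [sq_nonneg (c k), sq_nonneg (c j)])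
  have hcaseC : (c i = S ∧ c j = 0 ∧ c k = -T') ∨ (c i = 0 ∧ c j = T ∧ c k = 0) := by
    clear nb nb' nc nc' nA ibb' ibc ibc' ib'c ib'c' icc' iAb iAb' iAc iAc' e3
    rcases hS with rfl | rfl <;> rcases hT with rfl | rfl <;> rcases hb'k with rfl | rfl <;> omega
  clear t_ck t_cj t_ci q3 q4 q5
  rcases hcaseC with ⟨hci, hcj, hck⟩ | ⟨hci, hcj, hck⟩
  · -- impossible case
    exfalso
    have hcz := L_zero c [k, j, i, o] hU3
      (by simp only [List.map_cons, List.map_nil, List.sum_cons, List.sum_nil, add_zero]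
          rw [nc, hck, hcj, hci, hco]
          rcases hS with h | h <;> rcases hb'k with h' | h' <;> rw [h, h'] <;> norm_num)
    have q6 := L_ip b' c' [k, j, i, o] hU3 hb'z
    simp only [List.map_cons, List.map_nil, List.sum_cons, List.sum_nil, add_zero] at q6
    rw [ib'c', ← hT', hb'j, hb'i, hb'o, hc'o] at q6
    have q7 := L_ip c c' [k, j, i, o] hU3 hcz
    simp only [List.map_cons, List.map_nil, List.sum_cons, List.sum_nil, add_zero] at q7
    rw [icc', hck, hcj, hci, hco, hc'o] at q7
    clear nb nb' nc nc' nA ibb' ibc ibc' ib'c ib'c' icc' iAb iAb' iAc iAc' e3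
    rcases hS with rfl | rfl <;> rcases hb'k with rfl | rfl <;> omega
  · -- the third index of `c`
    obtain ⟨l, hl, hcl, e4⟩ := L_new c [k, j, i, o] hU3 0 le_rfl (by norm_num)
      (by simp only [List.map_cons, List.map_nil, List.sum_cons, List.sum_nil, add_zero]
          rw [nc, hck, hcj, hci, hco]
          rcases hT with h | h <;> rw [h] <;> norm_num)
    have hU4 : [l, k, j, i, o].Nodup := List.Nodup.cons hl hU3
    have hcz := L_zero c [l, k, j, i, o] hU4 (by rw [e4, add_zero])
    simp only [List.mem_cons, List.not_mem_nil, or_false, not_or] at hl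
    obtain ⟨s2, hs2⟩ : ∃ s2, s2 = c l := ⟨_, rfl⟩
    rw [← hs2] at hcl
    -- `c'`
    have q6 := L_ip b c' [j, i, o] hU2 hbz'
    simp only [List.map_cons, List.map_nil, List.sum_cons, List.sum_nil, add_zero] at q6
    rw [ibc', hbj, hbi, hbo, hc'o] at q6
    have q7 := L_ip b' c' [k, j, i, o] hU3 hb'z
    simp only [List.map_cons, List.map_nil, List.sum_cons, List.sum_nil, add_zero] at q7
    rw [ib'c', ← hT', hb'j, hb'i, hb'o, hc'o] at q7
    have q8 := L_ip c c' [l, k, j, i, o] hU4 hcz
    simp only [List.map_cons, List.map_nil, List.sum_cons, List.sum_nil, add_zero] at q8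
    rw [icc', ← hs2, hck, hcj, hci, hco, hc'o] at q8
    have q9 := L_le c' [l, k, j, i, o] hU4
    simp only [List.map_cons, List.map_nil, List.sum_cons, List.sum_nil, add_zero] at q9
    rw [nc', hc'o] at q9
    norm_num at q9
    have t_l := tri (v := c' l) (by linarith [sq_nonneg (c' k), sq_nonneg (c' j), sq_nonneg (c' i)])
    have t_k := tri (v := c' k) (by linarith [sq_nonneg (c' l), sq_nonneg (c' j), sq_nonneg (c' i)])
    have t_j := tri (v := c' j) (by linarith [sq_nonneg (c' k), sq_nonneg (c' l), sq_nonneg (c' i)])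
    have t_i := tri (v := c' i) (by linarith [sq_nonneg (c' k), sq_nonneg (c' j), sq_nonneg (c' l)])
    have hC'0 : (c' j = 0 ∧ c' i = S) ∨ (c' j = T ∧ c' i = 0) := by
      clear nb nb' nc nc' nA ibb' ibc ibc' ib'c ib'c' icc' iAb iAb' iAc iAc' e3 e4 q7 q8 q9 t_l t_k
      rcases hS with rfl | rfl <;> rcases hT with rfl | rfl <;> omega
    have hcaseC' : (c' j = 0 ∧ c' l = s2 ∧ c' i = S ∧ c' k = -T') ∨
        (c' j = T ∧ c' l = 0 ∧ c' i = 0 ∧ c' k = 0) := by
      rcases hC'0 with ⟨h1, h2⟩ | ⟨h1, h2⟩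
      · left
        rw [h1, h2] at q7 q8
        have h3 : c' l = s2 := by
          clear nb nb' nc nc' nA ibb' ibc ibc' ib'c ib'c' icc' iAb iAb' iAc iAc' e3 e4 q6 q7 q9
            t_k t_j t_i
          rcases hcl with rfl | rfl <;> omega
        have h4 : c' k = -T' := by
          clear nb nb' nc nc' nA ibb' ibc ibc' ib'c ib'c' icc' iAb iAb' iAc iAc' e3 e4 q6 q8 q9
            t_l t_j t_i
          rcases hS with rfl | rfl <;> rcases hb'k with rfl | rfl <;> omega
        exact ⟨h1, h3, h2, h4⟩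
      · right
        rw [h1, h2] at q7 q8
        have h3 : c' l = 0 := by
          clear nb nb' nc nc' nA ibb' ibc ibc' ib'c ib'c' icc' iAb iAb' iAc iAc' e3 e4 q6 q7 q9
            t_k t_j t_i
          rcases hcl with rfl | rfl <;> rcases hT with rfl | rfl <;> omega
        have h4 : c' k = 0 := by
          clear nb nb' nc nc' nA ibb' ibc ibc' ib'c ib'c' icc' iAb iAb' iAc iAc' e3 e4 q6 q8 q9
            t_l t_j t_i
          rcases hb'k with rfl | rfl <;> omega
        exact ⟨h1, h3, h2, h4⟩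
    clear t_l t_k t_j t_i q6 q7 q8 q9
    -- inner products with `A` (common to both cases)
    have r1 := L_ip' b A [j, i, o] hU2 hbz'
    simp only [List.map_cons, List.map_nil, List.sum_cons, List.sum_nil, add_zero] at r1
    rw [iAb, hbj, hbi, hbo, hAo] at r1
    have r2 := L_ip' b' A [k, j, i, o] hU3 hb'z
    simp only [List.map_cons, List.map_nil, List.sum_cons, List.sum_nil, add_zero] at r2
    rw [iAb', ← hT', hb'j, hb'i, hb'o, hAo] at r2
    have r3 := L_ip' c A [l, k, j, i, o] hU4 hcz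
    simp only [List.map_cons, List.map_nil, List.sum_cons, List.sum_nil, add_zero] at r3
    rw [iAc, ← hs2, hck, hcj, hci, hco, hAo] at r3
    rcases hcaseC' with ⟨hc'j, hc'l, hc'i, hc'k⟩ | ⟨hc'j, hc'l, hc'i, hc'k⟩
    · -- impossible case
      exfalso
      have hc'z := L_zero c' [l, k, j, i, o] hU4
        (by simp only [List.map_cons, List.map_nil, List.sum_cons, List.sum_nil, add_zero]
            rw [nc', hc'l, hc'k, hc'j, hc'i, hc'o]
            rcases hS with h | h <;> rcases hb'k with h' | h' <;> rcases hcl with h'' | h'' <;>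
              rw [h, h', h''] <;> norm_num)
      have r4 := L_ip' c' A [l, k, j, i, o] hU4 hc'z
      simp only [List.map_cons, List.map_nil, List.sum_cons, List.sum_nil, add_zero] at r4
      rw [iAc', hc'l, hc'k, hc'j, hc'i, hc'o, hAo] at r4
      have r5 := L_le A [l, k, j, i, o] hU4
      simp only [List.map_cons, List.map_nil, List.sum_cons, List.sum_nil, add_zero] at r5
      rw [nA, hAo] at r5
      norm_num at r5
      have t_l := tri (v := A l) (by linarith [sq_nonneg (A k), sq_nonneg (A j), sq_nonneg (A i)])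
      clear nb nb' nc nc' nA ibb' ibc ibc' ib'c ib'c' icc' iAb iAb' iAc iAc' e3 e4 r5
      rcases hS with rfl | rfl <;> rcases hT with rfl | rfl <;> rcases hb'k with rfl | rfl <;>
        rcases hcl with rfl | rfl <;> omega
    · -- the two further indices of `c'`
      obtain ⟨m, hm, hc'm, e5⟩ := L_new c' [l, k, j, i, o] hU4 1 (by norm_num) (by norm_num)
        (by simp only [List.map_cons, List.map_nil, List.sum_cons, List.sum_nil, add_zero]
            rw [nc', hc'l, hc'k, hc'j, hc'i, hc'o]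
            rcases hT with h | h <;> rw [h] <;> norm_num)
      have hU5 : [m, l, k, j, i, o].Nodup := List.Nodup.cons hm hU4
      obtain ⟨n, hn', hc'n, e6⟩ := L_new c' [m, l, k, j, i, o] hU5 0 le_rfl (by norm_num)
        (by rw [e5]; norm_num)
      have hU6 : [n, m, l, k, j, i, o].Nodup := List.Nodup.cons hn' hU5
      have hc'z := L_zero c' [n, m, l, k, j, i, o] hU6 (by rw [e6, add_zero])
      simp only [List.mem_cons, List.not_mem_nil, or_false, not_or] at hm hn'
      obtain ⟨cm, hcm⟩ : ∃ cm, cm = c' m := ⟨_, rfl⟩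
      obtain ⟨cn, hcn⟩ : ∃ cn, cn = c' n := ⟨_, rfl⟩
      rw [← hcm] at hc'm
      rw [← hcn] at hc'n
      have r4 := L_ip' c' A [n, m, l, k, j, i, o] hU6 hc'z
      simp only [List.map_cons, List.map_nil, List.sum_cons, List.sum_nil, add_zero] at r4
      rw [iAc', ← hcm, ← hcn, hc'l, hc'k, hc'j, hc'i, hc'o, hAo] at r4
      have r5 := L_le A [n, m, l, k, j, i, o] hU6
      simp only [List.map_cons, List.map_nil, List.sum_cons, List.sum_nil, add_zero] at r5
      rw [nA, hAo] at r5
      norm_num at r5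
      have pn := sq_nonneg (A n)
      have pm := sq_nonneg (A m)
      have pl := sq_nonneg (A l)
      have pk := sq_nonneg (A k)
      have pj := sq_nonneg (A j)
      have pi := sq_nonneg (A i)
      have t_n := tri (v := A n) (by linarith)
      have t_m := tri (v := A m) (by linarith)
      have t_l := tri (v := A l) (by linarith)
      have t_k := tri (v := A k) (by linarith)
      have t_j := tri (v := A j) (by linarith)
      have t_i := tri (v := A i) (by linarith)
      clear pn pm pl pk pj pi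
      -- first stage: the values of `A` at `i, j`
      have hA0 : (A i = S ∧ A j = 0) ∨ (A i = 0 ∧ A j = T) := by
        clear nb nb' nc nc' nA ibb' ibc ibc' ib'c ib'c' icc' iAb iAb' iAc iAc' e3 e4 e5 e6 r2 r3 r4 r5
          t_n t_m t_l t_k
        rcases hS with rfl | rfl <;> rcases hT with rfl | rfl <;> omega
      have hA1 : A i = S ∧ A j = 0 := by
        rcases hA0 with h | ⟨hAi, hAj⟩
        · exact h
        · exfalso
          rw [hAi, hAj] at r2 r3 r4 r5
          have hAk : A k = T' := by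
            clear nb nb' nc nc' nA ibb' ibc ibc' ib'c ib'c' icc' iAb iAb' iAc iAc' e3 e4 e5 e6 r1 r3
              r4 r5 t_n t_m t_l t_j t_i
            rcases hb'k with rfl | rfl <;> omega
          have hAl : A l = -s2 := by
            clear nb nb' nc nc' nA ibb' ibc ibc' ib'c ib'c' icc' iAb iAb' iAc iAc' e3 e4 e5 e6 r1 r2
              r4 r5 t_n t_m t_k t_j t_i
            rcases hcl with rfl | rfl <;> rcases hT with rfl | rfl <;> omega
          rw [hAk, hAl] at r4 r5
          have hz : A n = 0 ∧ A m = 0 := by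
            rw [neg_sq, sq_of_pm hcl, sq_of_pm hb'k, sq_of_pm hT] at r5
            norm_num at r5
            clear nb nb' nc nc' nA ibb' ibc ibc' ib'c ib'c' icc' iAb iAb' iAc iAc' e3 e4 e5 e6 r1 r2
              r3 r4 t_l t_k t_j t_i
            omega
          rw [hz.1, hz.2] at r4
          clear nb nb' nc nc' nA ibb' ibc ibc' ib'c ib'c' icc' iAb iAb' iAc iAc' e3 e4 e5 e6 r1 r2
            r3 r5 t_n t_m t_l t_k t_j t_i
          rcases hT with rfl | rfl <;> omega
      obtain ⟨hAi, hAj⟩ := hA1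
      rw [hAi, hAj] at r2 r3 r4 r5
      have hAk : A k = 0 := by
        clear nb nb' nc nc' nA ibb' ibc ibc' ib'c ib'c' icc' iAb iAb' iAc iAc' e3 e4 e5 e6 r1 r3
          r4 r5 t_n t_m t_l t_j t_i
        rcases hb'k with rfl | rfl <;> rcases hS with rfl | rfl <;> omega
      have hAl : A l = 0 := by
        clear nb nb' nc nc' nA ibb' ibc ibc' ib'c ib'c' icc' iAb iAb' iAc iAc' e3 e4 e5 e6 r1 r2
          r4 r5 t_n t_m t_k t_j t_i
        rcases hcl with rfl | rfl <;> omega
      rw [hAk, hAl] at r4 r5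
      have hA2 : (A m = -cm ∧ A n = 0) ∨ (A m = 0 ∧ A n = -cn) := by
        clear nb nb' nc nc' nA ibb' ibc ibc' ib'c ib'c' icc' iAb iAb' iAc iAc' e3 e4 e5 e6 r1 r2 r3
          t_l t_k t_j t_i
        rcases hS with rfl | rfl <;> rcases hc'm with rfl | rfl <;> rcases hc'n with rfl | rfl <;>
          omega
      clear t_n t_m t_l t_k t_j t_i r1 r2 r3 r4 r5
      rcases hA2 with ⟨hAm, hAn⟩ | ⟨hAm, hAn⟩
      · obtain ⟨x6, hx6, hAx6, e7⟩ := L_new A [n, m, l, k, j, i, o] hU6 0 le_rfl (by norm_num)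
          (by simp only [List.map_cons, List.map_nil, List.sum_cons, List.sum_nil, add_zero]
              rw [nA, hAn, hAm, hAl, hAk, hAj, hAi, hAo, neg_sq, sq_of_pm hc'm, sq_of_pm hS]
              norm_num)
        have hU7 : [x6, n, m, l, k, j, i, o].Nodup := List.Nodup.cons hx6 hU6
        have hAz := L_zero A [x6, n, m, l, k, j, i, o] hU7 (by rw [e7, add_zero])
        have hA0 : A m = 1 ∨ A m = -1 := by
          rw [hAm]
          exact neg_pm hc'm
        obtain ⟨hinj, hne⟩ := inj_aux o i j k l m n x6 hU7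
        refine ⟨![m, i, l, n, j, k, x6], ![A m, S, s2, cn, -T, -T', -A x6], hinj, hne,
          signs_aux _ _ _ _ _ _ _ hA0 hS hcl hc'n (neg_pm hT) (neg_pm hb'k) (neg_pm hAx6),
          ?_, ?_, ?_, ?_, ?_⟩
        · show ∀ x, b x = (if x = i then S else 0) - (if x = j then -T else 0)
          intro x
          rw [L_repr b [j, i, o] hU2 hbz' x]
          simp only [List.map_cons, List.map_nil, List.sum_cons, List.sum_nil, add_zero]
          rw [hbj, hbi, hbo]
          simp only [ite_self, add_zero]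
          split_ifs <;> ring
        · show ∀ x, b' x = (if x = i then S else 0) - (if x = k then -T' else 0)
          intro x
          rw [L_repr b' [k, j, i, o] hU3 hb'z x]
          simp only [List.map_cons, List.map_nil, List.sum_cons, List.sum_nil, add_zero]
          rw [← hT', hb'j, hb'i, hb'o]
          simp only [ite_self, add_zero, zero_add]
          split_ifs <;> ring
        · show ∀ x, c x = -(if x = o then 1 else 0) + (if x = l then s2 else 0) -
            (if x = j then -T else 0)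
          intro x
          rw [L_repr c [l, k, j, i, o] hU4 hcz x]
          simp only [List.map_cons, List.map_nil, List.sum_cons, List.sum_nil, add_zero]
          rw [← hs2, hck, hcj, hci, hco]
          simp only [ite_self, add_zero, zero_add]
          split_ifs <;> ring
        · show ∀ x, c' x = -(if x = m then A m else 0) + (if x = n then cn else 0) -
            (if x = j then -T else 0)
          intro x
          rw [L_repr c' [n, m, l, k, j, i, o] hU6 hc'z x]
          simp only [List.map_cons, List.map_nil, List.sum_cons, List.sum_nil, add_zero]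
          rw [← hcn, ← hcm, hc'l, hc'k, hc'j, hc'i, hc'o, hAm]
          simp only [ite_self, zero_add]
          split_ifs <;> ring
        · show ∀ x, A x = (if x = o then 1 else 0) + (if x = m then A m else 0) +
            (if x = i then S else 0) - (if x = x6 then - A x6 else 0)
          intro x
          rw [L_repr A [x6, n, m, l, k, j, i, o] hU7 hAz x]
          simp only [List.map_cons, List.map_nil, List.sum_cons, List.sum_nil, add_zero]
          rw [hAn, hAl, hAk, hAj, hAi, hAo]
          simp only [ite_self, zero_add]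
          split_ifs <;> ring
      · obtain ⟨x6, hx6, hAx6, e7⟩ := L_new A [n, m, l, k, j, i, o] hU6 0 le_rfl (by norm_num)
          (by simp only [List.map_cons, List.map_nil, List.sum_cons, List.sum_nil, add_zero]
              rw [nA, hAn, hAm, hAl, hAk, hAj, hAi, hAo, neg_sq, sq_of_pm hc'n, sq_of_pm hS]
              norm_num)
        have hU7 : [x6, n, m, l, k, j, i, o].Nodup := List.Nodup.cons hx6 hU6
        have hAz := L_zero A [x6, n, m, l, k, j, i, o] hU7 (by rw [e7, add_zero])
        have hA0 : A n = 1 ∨ A n = -1 := by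
          rw [hAn]
          exact neg_pm hc'n
        obtain ⟨hinj, hne⟩ := inj_aux o i j k l n m x6 (((List.Perm.swap n m [l, k, j, i, o]).cons x6).nodup_iff.mpr hU7)
        refine ⟨![n, i, l, m, j, k, x6], ![A n, S, s2, cm, -T, -T', -A x6], hinj, hne,
          signs_aux _ _ _ _ _ _ _ hA0 hS hcl hc'm (neg_pm hT) (neg_pm hb'k) (neg_pm hAx6),
          ?_, ?_, ?_, ?_, ?_⟩
        · show ∀ x, b x = (if x = i then S else 0) - (if x = j then -T else 0)
          intro x
          rw [L_repr b [j, i, o] hU2 hbz' x]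
          simp only [List.map_cons, List.map_nil, List.sum_cons, List.sum_nil, add_zero]
          rw [hbj, hbi, hbo]
          simp only [ite_self, add_zero]
          split_ifs <;> ring
        · show ∀ x, b' x = (if x = i then S else 0) - (if x = k then -T' else 0)
          intro x
          rw [L_repr b' [k, j, i, o] hU3 hb'z x]
          simp only [List.map_cons, List.map_nil, List.sum_cons, List.sum_nil, add_zero]
          rw [← hT', hb'j, hb'i, hb'o]
          simp only [ite_self, add_zero, zero_add]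
          split_ifs <;> ring
        · show ∀ x, c x = -(if x = o then 1 else 0) + (if x = l then s2 else 0) -
            (if x = j then -T else 0)
          intro x
          rw [L_repr c [l, k, j, i, o] hU4 hcz x]
          simp only [List.map_cons, List.map_nil, List.sum_cons, List.sum_nil, add_zero]
          rw [← hs2, hck, hcj, hci, hco]
          simp only [ite_self, add_zero, zero_add]
          split_ifs <;> ring
        · show ∀ x, c' x = -(if x = n then A n else 0) + (if x = m then cm else 0) -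
            (if x = j then -T else 0)
          intro x
          rw [L_repr c' [n, m, l, k, j, i, o] hU6 hc'z x]
          simp only [List.map_cons, List.map_nil, List.sum_cons, List.sum_nil, add_zero]
          rw [← hcn, ← hcm, hc'l, hc'k, hc'j, hc'i, hc'o, hAn]
          simp only [ite_self, zero_add]
          split_ifs <;> ring
        · show ∀ x, A x = (if x = o then 1 else 0) + (if x = n then A n else 0) +
            (if x = i then S else 0) - (if x = x6 then - A x6 else 0)
          intro x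
          rw [L_repr A [x6, n, m, l, k, j, i, o] hU7 hAz x]
          simp only [List.map_cons, List.map_nil, List.sum_cons, List.sum_nil, add_zero]
          rw [hAm, hAl, hAk, hAj, hAi, hAo]
          simp only [ite_self, zero_add]
          split_ifs <;> ring

end Cfsg.Agent.Lib.Helper71_GL23_SHAPE
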