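import Mathlib
import Cfsg.Prelude.Def_Characters
import Cfsg.Agent.Lib.Helper80_CharBasic
import Cfsg.Agent.Lib.Helper17_H27Defs
import Cfsg.Agent.Lib.Helper76_H648Defs

/-!
# S3702 market `h648_packages` (architect helper76), package IDX (helper71), `_aux` form

`card_eq_of_free`: if `J ≤ H` and `J ∩ x H x⁻¹ = 1` for every `x ∉ H`, then `|G| = |H| + |J| |H| t`
(`J` acts on `G ⧸ H` with one fixed point and regular orbits elsewhere).
`idx_aux`: the statement of IDX with the statements of FUS (`fusion`) and STRUCT (`struct`) as explicit hypotheses.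
-/

set_option autoImplicit false

namespace Cfsg.Agent.Lib.Helper71_H648_IDXaux

open Cfsg Cfsg.Agent.Lib.Helper80_CharBasic
  Cfsg.Agent.Lib.Helper76_H648Defs
open Cfsg.Agent.Lib.Helper17_H27Defs (elt)

section grp
variable {G : Type*} [Group G] [Finite G]

/-- `J ≤ H` acting on `G ⧸ H` with trivial stabilizers off the base point: `|G| = |H| + |J| |H| t` -/
theorem card_eq_of_free (H J : Subgroup G) (hJH : J ≤ H)
    (hfree : ∀ x : G, x ∉ H → ∀ j ∈ J, x⁻¹ * j * x ∈ H → j = 1) :
    ∃ t : ℕ, Nat.card G = Nat.card H + Nat.card J * Nat.card H * t := by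
  classical
  have e := MulAction.selfEquivSigmaOrbitsQuotientStabilizer J (G ⧸ H)
  have : Fintype (Quotient (MulAction.orbitRel J (G ⧸ H))) := Fintype.ofFinite _
  have hX : Nat.card (G ⧸ H) = ∑ ω : Quotient (MulAction.orbitRel J (G ⧸ H)),
      (MulAction.stabilizer J (Quotient.out ω)).index := by
    rw [Nat.card_congr e, Nat.card_sigma]
    apply Finset.sum_congr rfl
    intro ω _
    rw [Subgroup.index_eq_card]
  -- stabilizer membership
  have hstab : ∀ (x : G) (j : J), j ∈ MulAction.stabilizer J ((x : G ⧸ H)) ↔ x⁻¹ * (j : G)⁻¹ * x ∈ H := by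
    intro x j
    rw [MulAction.mem_stabilizer_iff]
    have h1 : j • (x : G ⧸ H) = (((j : G) * x : G) : G ⧸ H) := rfl
    rw [h1, QuotientGroup.eq, mul_inv_rev]
  -- the base orbit
  obtain ⟨ω0, hω0⟩ : ∃ ω0 : Quotient (MulAction.orbitRel J (G ⧸ H)),
      ω0 = Quotient.mk'' ((1 : G) : G ⧸ H) := ⟨_, rfl⟩
  have hcase : ∀ ω : Quotient (MulAction.orbitRel J (G ⧸ H)),
      (MulAction.stabilizer J (Quotient.out ω)).index = if ω = ω0 then 1 else Nat.card J := by
    intro ω
    obtain ⟨x, hx⟩ := QuotientGroup.mk_surjective (Quotient.out ω)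
    by_cases hxH : x ∈ H
    · -- the base point
      have hout : Quotient.out ω = ((1 : G) : G ⧸ H) := by
        rw [← hx, QuotientGroup.eq, mul_one]
        exact H.inv_mem hxH
      have hω : ω = ω0 := by
        rw [hω0, ← hout]
        exact (Quotient.out_eq' ω).symm
      rw [if_pos hω]
      have htop : MulAction.stabilizer J (Quotient.out ω) = ⊤ := by
        rw [eq_top_iff]
        intro j _
        rw [← hx, hstab]
        exact H.mul_mem (H.mul_mem (H.inv_mem hxH) (H.inv_mem (hJH j.2))) hxH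
      rw [htop, Subgroup.index_top]
    · have hω : ω ≠ ω0 := by
        intro hω
        apply hxH
        -- `out ω0` is in the orbit of the base point
        have h1 : (Quotient.mk'' (Quotient.out ω) : Quotient (MulAction.orbitRel J (G ⧸ H))) =
            Quotient.mk'' ((1 : G) : G ⧸ H) := by
          rw [Quotient.out_eq', hω, hω0]
        have h2 := Quotient.exact' h1
        change (Quotient.out ω) ∈ MulAction.orbit J (((1 : G) : G ⧸ H)) at h2
        obtain ⟨j, hj⟩ := h2
        have h3 : j • (((1 : G) : G ⧸ H)) = ((((j : G) * 1 : G)) : G ⧸ H) := rfl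
        have hj' : j • (((1 : G) : G ⧸ H)) = Quotient.out ω := hj
        rw [h3, ← hx, QuotientGroup.eq] at hj'
        have hj := hj'
        have h4 : x = ((j : G) * 1) * (((j : G) * 1)⁻¹ * x) := by group
        rw [h4]
        exact H.mul_mem (by rw [mul_one]; exact hJH j.2) hj
      rw [if_neg hω]
      have hbot : MulAction.stabilizer J (Quotient.out ω) = ⊥ := by
        rw [eq_bot_iff]
        intro j hj
        rw [← hx, hstab] at hj
        have h1 := hfree x hxH _ (J.inv_mem j.2) hj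
        rw [Subgroup.mem_bot]
        apply Subtype.ext
        rw [Subgroup.coe_one]
        exact inv_eq_one.mp h1
      rw [hbot, Subgroup.index_bot]
  rw [Finset.sum_congr rfl (fun ω _ => hcase ω)] at hX
  have hsum : (∑ ω : Quotient (MulAction.orbitRel J (G ⧸ H)), if ω = ω0 then 1 else Nat.card J) =
      1 + Nat.card J * (Finset.univ.erase ω0).card := by
    rw [← Finset.add_sum_erase Finset.univ _ (Finset.mem_univ ω0), if_pos rfl]
    congr 1
    rw [Finset.sum_congr rfl (fun ω hω => if_neg (Finset.ne_of_mem_erase hω)), Finset.sum_const,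
      smul_eq_mul, mul_comm]
  rw [hsum] at hX
  refine ⟨(Finset.univ.erase ω0).card, ?_⟩
  rw [Subgroup.card_eq_card_quotient_mul_card_subgroup H, hX]
  ring

variable {H J : Subgroup G} {a b c σ u v s : G}

/-- `idx`, from the statements of FUS (`fusion`) and STRUCT -/
theorem idx_aux (h : Hyp G H J a b c σ u v s)
    (hfus : ∀ {j g : G}, j ∈ J → j ≠ 1 → g * j * g⁻¹ ∈ J → g ∈ H)
    (hst : Nat.card H = 648 ∧ Nat.card J = 27 ∧ J ≤ H ∧
      (∀ x ∈ J, ∀ y ∈ J, x * y = y * x) ∧ (∀ x ∈ J, x ^ 3 = 1) ∧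
      (∀ k ∈ H, ∀ x ∈ J, k * x * k⁻¹ ∈ J) ∧
      Function.Injective (elt a b c) ∧
      (∀ k : G, k ∈ H ↔ ∃ (e : ZMod 3 × ZMod 3 × ZMod 3) (i : Fin 24), k = elt a b c e * Wfun σ u v i)) :
    ∃ t : ℕ, Nat.card G = 648 + 17496 * t := by
  obtain ⟨hcardH, hcardJ, hJH, -⟩ := hst
  obtain ⟨t, ht⟩ := card_eq_of_free H J hJH (by
    intro x hxH j hj hxj
    by_contra hj1
    apply hxH
    have e1 : x⁻¹ * j * x = x⁻¹ * j * x⁻¹⁻¹ := by rw [inv_inv]
    rw [e1] at hxj
    have h1 := h.sc j hj x⁻¹ hxj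
    have h2 : x⁻¹ ∈ H := hfus hj hj1 h1
    have := H.inv_mem h2
    rwa [inv_inv] at this)
  refine ⟨t, ?_⟩
  rw [ht, hcardH, hcardJ]

end grp

end Cfsg.Agent.Lib.Helper71_H648_IDXaux
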