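import Mathlib
import Cfsg.Prelude.Def_Characters
import Cfsg.Agent.Lib.Helper80_CharBasic
import Cfsg.Agent.Lib.Helper17_H27Defs
import Cfsg.Agent.Lib.Helper76_H648Defs
import Cfsg.Agent.Lib.Helper5_H9_G333
import Cfsg.Agent.Lib.Helper10_H648_NORM

/-!
# S3702 market `h648_packages` (architect helper76), package L333 (helper71), `_aux` forms

`three_cent_aux`, `lemma333_aux`: the statements of L333 with the statements of CONJJ (`conjJ`), CENTJ (`centJ`) and
STRUCT (`struct`) as explicit hypotheses (in exactly the form of the package file).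
-/

set_option autoImplicit false

namespace Cfsg.Agent.Lib.Helper71_H648_L333aux

open Cfsg Cfsg.Agent.Lib.Helper80_CharBasic
  Cfsg.Agent.Lib.Helper76_H648Defs
open Cfsg.Agent.Lib.Helper17_H27Defs (elt)

section grp
variable {G : Type*} [Group G]

variable {H J : Subgroup G} {a b c σ u v s : G}

/-- a normal subgroup `N` of `C` of index `4` or `2` contains every element of cube one -/
theorem mem_of_pow_three {C : Type*} [Group C] (N : Subgroup C) [N.Normal] (hidx : N.index = 4 ∨ N.index = 2)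
    {x : C} (hx3 : x ^ 3 = 1) : x ∈ N := by
  have h1 := Subgroup.pow_index_mem N x
  rcases hidx with hi | hi
  · rw [hi] at h1
    have : x ^ 4 = x := by rw [pow_succ, hx3, one_mul]
    rwa [this] at h1
  · rw [hi] at h1
    have : x = (x ^ 2)⁻¹ := by
      rw [eq_inv_iff_mul_eq_one, ← pow_succ']
      exact hx3
    rw [this]
    exact N.inv_mem h1

/-- `three_cent`, from the statements of CONJJ, CENTJ, STRUCT -/
theorem three_cent_aux (h : Hyp G H J a b c σ u v s)
    (hconj : ∀ e : ZMod 3 × ZMod 3 × ZMod 3, e ≠ 0 →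
      ∃ k ∈ H, k * elt a b c e * k⁻¹ = repW a b c (wt e))
    (hcent : Nat.card (Subgroup.centralizer ({c} : Set G)) = 108 ∧
      Nat.card (Subgroup.centralizer ({a * b} : Set G)) = 54 ∧
      Nat.card (Subgroup.centralizer ({a * b * c} : Set G)) = 81)
    (hst : Nat.card H = 648 ∧ Nat.card J = 27 ∧ J ≤ H ∧
      (∀ x ∈ J, ∀ y ∈ J, x * y = y * x) ∧ (∀ x ∈ J, x ^ 3 = 1) ∧
      (∀ k ∈ H, ∀ x ∈ J, k * x * k⁻¹ ∈ J) ∧
      Function.Injective (elt a b c) ∧
      (∀ k : G, k ∈ H ↔ ∃ (e : ZMod 3 × ZMod 3 × ZMod 3) (i : Fin 24), k = elt a b c e * Wfun σ u v i))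
    {t x : G} (ht : t ∈ J) (ht1 : t ≠ 1)
    (hw : ¬ IsConj t (a * b * c)) (hxt : x * t = t * x) (hx3 : x ^ 3 = 1) : x ∈ J := by
  obtain ⟨-, hcardJ, hJH, hab, -, hnorm, -, -⟩ := hst
  obtain ⟨e, rfl⟩ := (h.memJ t).1 ht
  have he0 : e ≠ 0 := by
    rintro rfl
    exact ht1 (Cfsg.Agent.Lib.Helper10_H648_NORM.elt_zero a b c)
  obtain ⟨k, hk, hke⟩ := hconj e he0
  obtain ⟨C, hC⟩ : ∃ C : Subgroup G, C = Subgroup.centralizer ({elt a b c e} : Set G) := ⟨_, rfl⟩
  have hxC : x ∈ C := by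
    rw [hC, Subgroup.mem_centralizer_singleton_iff]
    exact hxt
  have hCH : C ≤ H := by
    rw [hC]
    exact h.loc _ ht ht1
  have hJC : J ≤ C := by
    intro y hy
    rw [hC, Subgroup.mem_centralizer_singleton_iff]
    exact hab y hy _ ht
  have hcard : Nat.card C = Nat.card (Subgroup.centralizer ({repW a b c (wt e)} : Set G)) := by
    rw [hC, ← hke]
    exact (Cfsg.Agent.Lib.Helper10_H648_NORM.card_cent_conj k _).symm
  have hcard' : Nat.card C = 108 ∨ Nat.card C = 54 := by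
    rcases Cfsg.Agent.Lib.Helper10_H648_NORM.wt_cases e he0 with hw1 | hw2 | hw3
    · left
      rw [hcard, hw1]
      exact hcent.1
    · right
      rw [hcard, hw2]
      exact hcent.2.1
    · exfalso
      apply hw
      rw [hw3] at hke
      exact isConj_iff.mpr ⟨k, hke⟩
  -- the normal subgroup `J` of `C`
  have hN : (J.subgroupOf C).Normal := by
    constructor
    intro n hn g
    rw [Subgroup.mem_subgroupOf] at hn ⊢
    exact hnorm _ (hCH g.2) _ hn
  have hcN : Nat.card (J.subgroupOf C) = 27 := by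
    rw [← hcardJ]
    exact Nat.card_congr (Subgroup.subgroupOfEquivOfLe hJC).toEquiv
  have hidx : (J.subgroupOf C).index = 4 ∨ (J.subgroupOf C).index = 2 := by
    have h1 := Subgroup.card_mul_index (J.subgroupOf C)
    rw [hcN] at h1
    rcases hcard' with h2 | h2
    · left
      rw [h2] at h1
      omega
    · right
      rw [h2] at h1
      omega
  have hx3' : (⟨x, hxC⟩ : ↥C) ^ 3 = 1 := Subtype.ext (by simpa using hx3)
  have := mem_of_pow_three (J.subgroupOf C) hidx hx3'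
  rw [Subgroup.mem_subgroupOf] at this
  exact this

variable [Finite G]

/-- `lemma333`, from `three_cent` and the exponent part of STRUCT -/
theorem lemma333_of_three_cent (h : Hyp G H J a b c σ u v s)
    (h3c : ∀ {t x : G}, t ∈ J → t ≠ 1 → ¬ IsConj t (a * b * c) → x * t = t * x → x ^ 3 = 1 → x ∈ J)
    (hJ3 : ∀ x ∈ J, x ^ 3 = 1)
    {p q : G} (hp : p ^ 3 = 1) (hq : q ^ 3 = 1)
    (hpq : p * q ∈ J) (hpq1 : p * q ≠ 1) (hw : ¬ IsConj (p * q) (a * b * c)) :
    (p ∈ H ∧ q ∈ H) ∨ (IsConj p q ∧ IsConj (p * q) p⁻¹) := by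
  rcases Cfsg.Agent.Lib.Helper5_H9_G333.gen333 hp hq (hJ3 _ hpq) with
    ⟨d, hd1, hd3, hdp, hdq⟩ | h2
  · left
    have hdJ : d ∈ J := by
      refine h3c hpq hpq1 hw ?_ hd3
      calc d * (p * q) = (d * p) * q := by group
        _ = (p * d) * q := by rw [hdp]
        _ = p * (d * q) := by group
        _ = p * (q * d) := by rw [hdq]
        _ = p * q * d := by group
    have hloc := h.loc d hdJ hd1
    constructor
    · apply hloc
      rw [Subgroup.mem_centralizer_singleton_iff]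
      exact hdp.symm
    · apply hloc
      rw [Subgroup.mem_centralizer_singleton_iff]
      exact hdq.symm
  · exact Or.inr h2

/-- `lemma333`, from the statements of CONJJ, CENTJ, STRUCT -/
theorem lemma333_aux (h : Hyp G H J a b c σ u v s)
    (hconj : ∀ e : ZMod 3 × ZMod 3 × ZMod 3, e ≠ 0 →
      ∃ k ∈ H, k * elt a b c e * k⁻¹ = repW a b c (wt e))
    (hcent : Nat.card (Subgroup.centralizer ({c} : Set G)) = 108 ∧
      Nat.card (Subgroup.centralizer ({a * b} : Set G)) = 54 ∧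
      Nat.card (Subgroup.centralizer ({a * b * c} : Set G)) = 81)
    (hst : Nat.card H = 648 ∧ Nat.card J = 27 ∧ J ≤ H ∧
      (∀ x ∈ J, ∀ y ∈ J, x * y = y * x) ∧ (∀ x ∈ J, x ^ 3 = 1) ∧
      (∀ k ∈ H, ∀ x ∈ J, k * x * k⁻¹ ∈ J) ∧
      Function.Injective (elt a b c) ∧
      (∀ k : G, k ∈ H ↔ ∃ (e : ZMod 3 × ZMod 3 × ZMod 3) (i : Fin 24), k = elt a b c e * Wfun σ u v i))
    {p q : G} (hp : p ^ 3 = 1) (hq : q ^ 3 = 1)
    (hpq : p * q ∈ J) (hpq1 : p * q ≠ 1) (hw : ¬ IsConj (p * q) (a * b * c)) :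
    (p ∈ H ∧ q ∈ H) ∨ (IsConj p q ∧ IsConj (p * q) p⁻¹) :=
  lemma333_of_three_cent h
    (fun ht ht1 hw' hxt hx3 => three_cent_aux h hconj hcent hst ht ht1 hw' hxt hx3)
    hst.2.2.2.2.1 hp hq hpq hpq1 hw

end grp

end Cfsg.Agent.Lib.Helper71_H648_L333aux
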