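import Mathlib
import Cfsg.Prelude.Def_Characters
import Cfsg.Agent.Lib.Helper76_HIDefs
import Cfsg.Agent.Lib.Helper80_FullyRamified

/-!
# hi_packages F (helper71): basic facts (F1), (F2) and two general facts on `cj`
Market `hi_packages` (S4563 + S4564, architect helper76); statements verbatim from
`pending/helper76/HI_packages.lean.txt`.
-/

set_option autoImplicit false
open scoped ComplexConjugate

namespace Cfsg.Agent.Lib.Helper71_HI_F

open Cfsg Cfsg.Agent.Lib.Helper76_HIDefs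

section fin
variable {H : Type*} [Group H] [Finite H]

/-- a character is a class function (any group) -/
theorem isClassFunction_of_irr' {G : Type*} [Group G] {ν : G → ℂ} (hν : Cfsg.IsIrrCharacter G ν) :
    Cfsg.IsClassFunction G ν := by
  obtain ⟨n, ρ, _, rfl⟩ := hν
  intro g h
  exact Representation.char_conj ρ g h

/-- (F1) `χ` vanishes off `Z` (this is `Helper80_FullyRamified.vanish_off`) -/
theorem vanish {Z K : Subgroup H} {χ : H → ℂ} {θ : ↥Z → ℂ} {e p : ℕ} (c : Ctx Z K χ θ e p)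
    {x : H} (hx : x ∉ Z) : χ x = 0 := by
  letI : Fintype H := Fintype.ofFinite H
  letI : Fintype ↥Z := Fintype.ofFinite ↥Z
  exact Cfsg.Agent.Lib.Helper80_FullyRamified.vanish_off Z ⟨χ, c.hχ⟩ ⟨θ, c.hθ⟩ e c.he c.hres hx

/-- (F2) `θ` is `H`-invariant -/
theorem theta_inv {Z K : Subgroup H} {χ : H → ℂ} {θ : ↥Z → ℂ} {e p : ℕ} (c : Ctx Z K χ θ e p)
    (h : H) (z : ↥Z) (hz : h * z.1 * h⁻¹ ∈ Z) : θ ⟨h * z.1 * h⁻¹, hz⟩ = θ z := by
  have hcf := isClassFunction_of_irr' c.hχ
  have h1 := c.hres ⟨h * z.1 * h⁻¹, hz⟩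
  have h2 := c.hres z
  have h3 : χ (h * z.1 * h⁻¹) = χ z.1 := hcf z.1 h
  have he : (e : ℂ) ≠ 0 := by
    rw [Nat.cast_ne_zero]
    intro h0
    have := c.he
    rw [h0] at this
    have hi : Z.index ≠ 0 := Subgroup.index_ne_zero_of_finite
    exact hi (by rw [← this]; norm_num)
  simp only at h1
  rw [h3, h2] at h1
  exact (mul_left_cancel₀ he h1).symm

/-- inner automorphisms fix class functions -/
theorem cj_of_mem {B : Subgroup H} {q : H} (hq : q ∈ B) {ν : ↥B → ℂ}
    (hν : Cfsg.IsClassFunction ↥B ν) : cj B q ν = ν := by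
  funext y
  have hmem : q⁻¹ * y.1 * q ∈ B := B.mul_mem (B.mul_mem (B.inv_mem hq) y.2) hq
  rw [cj_apply ν y hmem]
  have := hν y (⟨q, hq⟩⁻¹ : ↥B)
  rw [← this]
  congr 1
  apply Subtype.ext
  simp

/-- an irreducible character is a class function -/
theorem isClassFunction_of_irr {B : Subgroup H} {ν : ↥B → ℂ} (hν : Cfsg.IsIrrCharacter ↥B ν) :
    Cfsg.IsClassFunction ↥B ν := isClassFunction_of_irr' hν

end fin

end Cfsg.Agent.Lib.Helper71_HI_F
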