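import Mathlib
import Cfsg.Agent.Lib.Helper95_OPDefs
import Cfsg.Agent.Lib.Helper95_OPBasic
import Cfsg.Agent.Lib.Helper48_OODefs
import Cfsg.Agent.Lib.Helper87_OO2Defs
import Cfsg.Agent.Lib.Helper87_OO2Defs2
import Cfsg.Agent.Lib.Helper87_OO2Defs3
import Cfsg.Agent.Lib.Helper85_OO2_ELT
import Cfsg.Agent.Lib.Helper12_OO2_HEIS
import Cfsg.Agent.Lib.Helper73_OO2_STAB

/-!
helper71 — the four stability theorems `M2_x2`, `M2_n2`, `M2_h12`, `M2_h23` of package OO2-M2 of helper87's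
wave 3 for S2344 (statements VERBATIM from `pending/helper87/S2344_packages3.lean.txt`): the `K_2'`-module
`M_2 = (X^R)^{Z'}` is stable under `x2(s) = E(w0, s w1')`, `n2`, `h12(a)` and `h23(a)`.
-/

set_option autoImplicit false
set_option linter.unusedSectionVars false
set_option linter.unusedVariables false

namespace Cfsg.Agent.Lib.Helper71_OO2_M2STAB

open Module Cfsg.Agent.Lib.Helper94_OrthSmall Cfsg.Agent.Lib.Helper44_QuadClass
  Cfsg.Agent.Lib.Helper14_OmegaSimple Cfsg.Agent.Lib.Helper38_MIODefs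
  Cfsg.Agent.Lib.Helper95_OPDefs Cfsg.Agent.Lib.Helper95_OPBasic Cfsg.Agent.Lib.Helper48_OODefs
  Cfsg.Agent.Lib.Helper87_OO2Defs Cfsg.Agent.Lib.Helper85_OO2_ELT
  Cfsg.Agent.Lib.Helper73_OO2_STAB Cfsg.Agent.Lib.Helper12_OO2_HEIS

variable {F V : Type*} [Field F] [Fintype F] [AddCommGroup V] [Module F V] [FiniteDimensional F V]
  {X : Type*} [AddCommGroup X] [Module ℂ X] [FiniteDimensional ℂ X]

theorem M2_x2 (Q : QuadraticForm F V) (hP : IsOddT Q 3) {v v' w0 w0' w1 w1' x : V}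
    (fr : Frame3 Q v v' w0 w0' w1 w1' x) (ρ : Representation ℂ ↥(T Q) X) (s : F) (m : X)
    (hm : m ∈ M2sp Q ρ v v' w0 w1) : repE Q ρ (xr Q w0 w1' s) m ∈ M2sp Q ρ v v' w0 w1 := by
  have hQ := hP.nondeg
  have hdim : 5 ≤ finrank F V := by rw [hP.dim]; omega
  have hg : xr Q w0 w1' s ∈ T Q := xr_mem_T fr.h12.pa.qa fr.h12.pb.qa' fr.h12.ab' s
  have hw0 : Q w0 = 0 := fr.h12.pa.qa
  have hw1' : Q w1' = 0 := fr.h12.pb.qa'
  have e1 : Eig (xr Q w0 w1' s) v := ⟨1, one_ne_zero, by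
    rw [one_smul]
    exact xr_perp hw0 hw1' fr.h12.ab' s fr.h01.ab fr.h02.ab'⟩
  have e2 : Eig (xr Q w0 w1' s) v' := ⟨1, one_ne_zero, by
    rw [one_smul]
    exact xr_perp hw0 hw1' fr.h12.ab' s fr.h01.a'b fr.h02.a'b'⟩
  refine ⟨X0sp_stable hQ hdim ρ hg fr.h01.pa.qa e1 e2 hm.1, ?_⟩
  intro w hw
  obtain ⟨c, rfl⟩ := Submodule.mem_span_singleton.mp hw
  have hcw1 : QuadraticMap.polar (⇑Q) w0 (c • w1) = 0 := by
    rw [QuadraticMap.polar_smul_right, fr.h12.ab, smul_zero]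
  have huz : QuadraticMap.polar (⇑Q) w0 (c • w1 + (c * s) • w0) = 0 := by
    rw [QuadraticMap.polar_add_right, hcw1, QuadraticMap.polar_smul_right, pol_aa fr.h12, smul_zero,
      add_zero]
  have h1 := repE_conj ρ hg hw0 huz (E_mem_T Q hQ hdim hw0 huz) m
  have hgz : xr Q w0 w1' s (c • w1 + (c * s) • w0) = c • w1 := by
    rw [map_add, map_smul, map_smul, xr_b fr.h12 s, xr_a fr.h12 s]
    module
  rw [xr_a fr.h12 s, hgz, E_add_smul Q hw0 hcw1 (c * s), hm.2 (c • w1) hw] at h1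
  exact h1

theorem M2_n2 (Q : QuadraticForm F V) (hP : IsOddT Q 3) {v v' w0 w0' w1 w1' x : V}
    (fr : Frame3 Q v v' w0 w0' w1 w1' x) (ρ : Representation ℂ ↥(T Q) X) (m : X)
    (hm : m ∈ M2sp Q ρ v v' w0 w1) :
    repE Q ρ (nw Q w0 w0' w1 w1' 1) m ∈ M2sp Q ρ v v' w0 w1 := by
  have hQ := hP.nondeg
  have hdim : 5 ≤ finrank F V := by rw [hP.dim]; omega
  have hg : nw Q w0 w0' w1 w1' 1 ∈ T Q := nw_mem_T fr.h12 1
  have hw0 : Q w0 = 0 := fr.h12.pa.qa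
  have hw1 : Q w1 = 0 := fr.h12.pb.qa
  have e1 : Eig (nw Q w0 w0' w1 w1' 1) v := ⟨1, one_ne_zero, by
    rw [one_smul]
    exact nw_perp fr.h12 1 fr.h01.ab fr.h01.ab' fr.h02.ab fr.h02.ab'⟩
  have e2 : Eig (nw Q w0 w0' w1 w1' 1) v' := ⟨1, one_ne_zero, by
    rw [one_smul]
    exact nw_perp fr.h12 1 fr.h01.a'b fr.h01.a'b' fr.h02.a'b fr.h02.a'b'⟩
  refine ⟨X0sp_stable hQ hdim ρ hg fr.h01.pa.qa e1 e2 hm.1, ?_⟩
  intro w hw
  obtain ⟨c, rfl⟩ := Submodule.mem_span_singleton.mp hw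
  have hcw1 : QuadraticMap.polar (⇑Q) w0 (c • w1) = 0 := by
    rw [QuadraticMap.polar_smul_right, fr.h12.ab, smul_zero]
  have huz : QuadraticMap.polar (⇑Q) w1 ((-c) • w0) = 0 := by
    rw [QuadraticMap.polar_smul_right, pol_ba fr.h12, smul_zero]
  have hz0 : Q ((-c) • w0) = 0 := by rw [hQs, hw0, mul_zero]
  have h1 := repE_conj ρ hg hw1 huz (root_mem_T Q hw1 hz0 huz) m
  -- the conjugated element
  have e3 : E Q (nw Q w0 w0' w1 w1' 1 w1) (nw Q w0 w0' w1 w1' 1 ((-c) • w0)) = E Q w0 (c • w1) := by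
    rw [map_smul, nw_b fr.h12 one_ne_zero, nw_a fr.h12 one_ne_zero, one_smul, inv_one, one_smul]
    have hp : QuadraticMap.polar (⇑Q) w0 ((-c) • w1) = 0 := by
      rw [QuadraticMap.polar_smul_right, fr.h12.ab, smul_zero]
    have : -w0 = (-1 : F) • w0 := by rw [neg_smul, one_smul]
    rw [this, E_smul_left Q hw0 hp, smul_smul]
    congr 2
    ring
  -- the original element
  have e4 : E Q w1 ((-c) • w0) = E Q w0 (c • w1) := by
    rw [E_swap hw1 hz0 huz]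
    have hp : QuadraticMap.polar (⇑Q) w0 (-w1) = 0 := by
      rw [QuadraticMap.polar_neg_right, fr.h12.ab, neg_zero]
    rw [E_smul_left Q hw0 hp, smul_neg, neg_smul, neg_neg]
  rw [e3, e4, hm.2 (c • w1) hw] at h1
  exact h1

theorem M2_h12 (Q : QuadraticForm F V) (hP : IsOddT Q 3) {v v' w0 w0' w1 w1' x : V}
    (fr : Frame3 Q v v' w0 w0' w1 w1' x) (ρ : Representation ℂ ↥(T Q) X) (a : F) (ha : a ≠ 0)
    (m : X) (hm : m ∈ M2sp Q ρ v v' w0 w1) :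
    repE Q ρ (hh Q v v' w0 w0' a) m ∈ M2sp Q ρ v v' w0 w1 := by
  have hQ := hP.nondeg
  have hdim : 5 ≤ finrank F V := by rw [hP.dim]; omega
  have hg : hh Q v v' w0 w0' a ∈ T Q := hh_mem_T fr.h01 a
  obtain ⟨e1, e2, -, -⟩ := eig_h12 fr.h01 ha
  refine ⟨X0sp_stable hQ hdim ρ hg fr.h01.pa.qa e1 e2 hm.1, ?_⟩
  have hgw1 : hh Q v v' w0 w0' a w1 = w1 :=
    hh_perp fr.h01 a (pol_ba fr.h02) (pol_ba' fr.h02) (pol_ba fr.h12) (pol_ba' fr.h12)
  have hginv : (hh Q v v' w0 w0' a)⁻¹ w1 = w1 := by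
    conv_lhs => rw [← hgw1]
    exact inv_apply_self _ _
  exact fixE_stable (S := Submodule.span F {w1}) hQ hdim ρ hg fr.h12.pa.qa (inv_ne_zero ha)
    (hh_b fr.h01 ha)
    (fun w hw => by
      obtain ⟨c, rfl⟩ := Submodule.mem_span_singleton.mp hw
      rw [QuadraticMap.polar_smul_right, fr.h12.ab, smul_zero])
    (fun w hw => by
      obtain ⟨c, rfl⟩ := Submodule.mem_span_singleton.mp hw
      rw [map_smul, hginv]
      exact Submodule.smul_mem _ _ (Submodule.mem_span_singleton_self _)) hm.2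

theorem M2_h23 (Q : QuadraticForm F V) (hP : IsOddT Q 3) {v v' w0 w0' w1 w1' x : V}
    (fr : Frame3 Q v v' w0 w0' w1 w1' x) (ρ : Representation ℂ ↥(T Q) X) (a : F) (ha : a ≠ 0)
    (m : X) (hm : m ∈ M2sp Q ρ v v' w0 w1) :
    repE Q ρ (hh Q w0 w0' w1 w1' a) m ∈ M2sp Q ρ v v' w0 w1 := by
  have hQ := hP.nondeg
  have hdim : 5 ≤ finrank F V := by rw [hP.dim]; omega
  have hg : hh Q w0 w0' w1 w1' a ∈ T Q := hh_mem_T fr.h12 a
  obtain ⟨e1, e2, -, -⟩ := eig_h23 fr.h01 fr.h02 fr.h12 ha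
  refine ⟨X0sp_stable hQ hdim ρ hg fr.h01.pa.qa e1 e2 hm.1, ?_⟩
  have hginv : (hh Q w0 w0' w1 w1' a)⁻¹ w1 = (a⁻¹)⁻¹ • w1 :=
    inv_smul_of_smul (inv_ne_zero ha) (hh_b fr.h12 ha)
  exact fixE_stable (S := Submodule.span F {w1}) hQ hdim ρ hg fr.h12.pa.qa ha
    (hh_a fr.h12 ha)
    (fun w hw => by
      obtain ⟨c, rfl⟩ := Submodule.mem_span_singleton.mp hw
      rw [QuadraticMap.polar_smul_right, fr.h12.ab, smul_zero])
    (fun w hw => by
      obtain ⟨c, rfl⟩ := Submodule.mem_span_singleton.mp hw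
      rw [map_smul, hginv]
      exact Submodule.smul_mem _ _
        (Submodule.smul_mem _ _ (Submodule.mem_span_singleton_self _))) hm.2

end Cfsg.Agent.Lib.Helper71_OO2_M2STAB
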