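import Mathlib
import Cfsg.Prelude.Def_GeometricClasses
import Cfsg.Agent.Lib.Helper84_OTSDefs
import Cfsg.Agent.Lib.Helper40_OOdd
import Cfsg.Agent.Lib.Helper44_OmegaOdd
import Cfsg.Agent.Lib.Helper99_SpTI2
import Cfsg.Agent.Lib.Helper75_SpTIBound
import Cfsg.Agent.Lib.Helper43_OTS_OB
import Cfsg.Agent.Lib.Helper8_OTS_OD

set_option autoImplicit false

/-!
Package OE2 of S5972 (architect helper84): the special element of odd prime order `r` (with
`ord_r(q)` even) of the odd-dimensional orthogonal group, none of whose invariant totally singular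
subspaces has dimension `m`.  Orthogonal port of `Helper27_SpSpecialElt` (helper71).
-/

open Polynomial Module Matrix
open scoped MatrixGroups
open Cfsg.Agent.Lib.Helper40_SpBasic Cfsg.Agent.Lib.Helper40_OConj Cfsg.Agent.Lib.Helper40_OConj.OData
  Cfsg.Agent.Lib.Helper99_SpAtoms Cfsg.Agent.Lib.Helper84_OTSDefs

namespace Cfsg.Agent.Lib.Helper71_OTS_OE2

open Cfsg.Agent.Lib.Helper43_OTS_OB Cfsg.Agent.Lib.Helper8_OTS_OD
open Cfsg.Agent.Lib.Helper40_Palindromic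
  Cfsg.Agent.Lib.Helper40_SpPrimeOrder Cfsg.Agent.Lib.Helper40_PolyFactors
  Cfsg.Agent.Lib.Helper40_PrimeOrderClasses Cfsg.Agent.Lib.Helper99_PrimeOrderSL
  Cfsg.Agent.Lib.Helper44_StdForms Cfsg.Agent.Lib.Helper40_OClasses

universe v

theorem exists_of_data {F : Type v} [Field F] [Fintype F] {p : ℕ} [Fact p.Prime] [CharP F p]
    (h2 : (2 : F) ≠ 0) {r : ℕ} (hr : r.Prime) (hr2 : r ≠ 2) (hrp : r ≠ p)
    (hie : Even (orderOf ((Fintype.card F : ℕ) : ZMod r))) (d : ℕ)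
    (w₀ : F[X]) (S : Finset F[X])
    (hw₀ : w₀.Monic ∧ Irreducible w₀ ∧ w₀ ≠ X - 1 ∧ w₀ ∣ X ^ r - 1 ∧
      w₀.natDegree = orderOf ((Fintype.card F : ℕ) : ZMod r))
    (hS : ∀ w ∈ S, w.Monic ∧ Irreducible w ∧ w ≠ X - 1 ∧ w ∣ X ^ r - 1 ∧
      w.natDegree = orderOf ((Fintype.card F : ℕ) : ZMod r)) (hw₀S : w₀ ∉ S)
    (e₀ a₀ : ℕ) (he₀ : Even e₀) (ha₀ : 1 ≤ a₀)
    (hdeg : e₀ + orderOf ((Fintype.card F : ℕ) : ZMod r) * a₀ +
      orderOf ((Fintype.card F : ℕ) : ZMod r) * S.card = 2 * d) :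
    ∃ x : GL (Unit ⊕ (Fin d ⊕ Fin d)) F, x ∈ Cfsg.Geo.omegaGL (Cfsg.quadFormOdd d F) ∧
      orderOf x = r ∧
      ∀ W : Submodule F (Unit ⊕ (Fin d ⊕ Fin d) → F),
        W.map (Matrix.toLin' (x : Matrix (Unit ⊕ (Fin d ⊕ Fin d)) (Unit ⊕ (Fin d ⊕ Fin d)) F)) ≤ W →
        (∀ w ∈ W, Cfsg.quadFormOdd d F w = 0) →
        finrank F W ≤ e₀ / 2 + orderOf ((Fintype.card F : ℕ) : ZMod r) * (a₀ / 2) := by
  classical
  set i := orderOf ((Fintype.card F : ℕ) : ZMod r) with hi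
  have hipos : 0 < i := (exists_cyclotomic_factors (F := F) p r hr hrp).1
  have hrodd : Odd r := hr.odd_of_ne_two hr2
  have hrF : ((r : ℕ) : F) ≠ 0 := natCast_ne_zero hr hrp
  have hrev : ∀ w : F[X], w.Monic → Irreducible w → w ≠ X - 1 → w ∣ X ^ r - 1 →
      w.reverse = w := by
    intro w hwm hwi hw1 hwd
    have hw0 : w.coeff 0 ≠ 0 := coeff_zero_ne_zero_of_dvd r hr.pos w hwd
    have hw11 : w.eval 1 ≠ 0 := eval_one_ne_zero w hwm hwi hw1
    have hrec : recip w = w := recip_eq_of_even p r i hr hi hipos hie w hwm hwi hw1 hwd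
    have hc0 : w.coeff 0 = 1 := coeff_zero_eq_one_of_recip_eq w hw0 hrec hw11
    exact reverse_eq_of_recip_eq w hc0 hrec
  have hX1 : ((X : F[X]) - 1) = X - C 1 := by rw [map_one]
  have hX1m : ((X : F[X]) - 1).Monic := by rw [hX1]; exact monic_X_sub_C 1
  set c : F[X] := (X - 1) ^ e₀ * w₀ ^ a₀ * ∏ w ∈ S, w with hc
  have hSm : (∏ w ∈ S, w).Monic := monic_prod_of_monic S _ (fun w hw => (hS w hw).1)
  have hcm : c.Monic := ((hX1m.pow e₀).mul (hw₀.1.pow a₀)).mul hSm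
  have hSdeg : (∏ w ∈ S, w).natDegree = i * S.card := by
    rw [natDegree_prod_of_monic S _ (fun w hw => (hS w hw).1),
      Finset.sum_congr rfl (fun w hw => (hS w hw).2.2.2.2), Finset.sum_const, smul_eq_mul,
      mul_comm]
  have hcdeg : c.natDegree = 2 * d := by
    rw [hc, ((hX1m.pow e₀).mul (hw₀.1.pow a₀)).natDegree_mul hSm,
      (hX1m.pow e₀).natDegree_mul (hw₀.1.pow a₀), hX1m.natDegree_pow, hw₀.1.natDegree_pow, hX1,
      natDegree_X_sub_C, hw₀.2.2.2.2, hSdeg, mul_one, ← hdeg]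
    ring
  have hcrev : c.reverse = c := by
    rw [hc, reverse_mul_of_domain, reverse_mul_of_domain, reverse_X_sub_one_pow e₀ he₀,
      reverse_pow', hrev w₀ hw₀.1 hw₀.2.1 hw₀.2.2.1 hw₀.2.2.2.1, reverse_prod']
    congr 1
    exact Finset.prod_congr rfl
      (fun w hw => hrev w (hS w hw).1 (hS w hw).2.1 (hS w hw).2.2.1 (hS w hw).2.2.2.1)
  have hX1d : ((X : F[X]) - 1) ∣ X ^ r - 1 := by
    have := sub_dvd_pow_sub_pow (X : F[X]) 1 r
    rwa [one_pow] at this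
  have hcf : ∀ f : F[X], Irreducible f → f ∣ c → f ∣ X ^ r - 1 := by
    intro g hg hgf
    rw [hc] at hgf
    rcases hg.prime.dvd_or_dvd hgf with h | h
    · rcases hg.prime.dvd_or_dvd h with h | h
      · exact (hg.prime.dvd_of_dvd_pow h).trans hX1d
      · exact (hg.prime.dvd_of_dvd_pow h).trans hw₀.2.2.2.1
    · obtain ⟨w, hwS, hgw⟩ := (Prime.dvd_finsetProd_iff hg.prime _).1 h
      exact hgw.trans (hS w hwS).2.2.2.1
  obtain ⟨g, hgr, hgc⟩ :=
    Cfsg.Agent.Lib.Helper40_OOdd.exists_element h2 d r hrodd hrF c hcm hcdeg hcrev hcf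
  have hQ : (pol (qfOdd d F)).Nondegenerate :=
    Cfsg.Agent.Lib.Helper14_POmegaSimple.nondegenerate_qfOdd h2 d
  have hgΩ : g ∈ Cfsg.Omega F ⇑(qfOdd d F) :=
    Cfsg.Agent.Lib.Helper44_OmegaOdd.mem_omega_of_pow_eq_one h2 (qfOdd d F) hQ g hrodd hgr
  obtain ⟨x, hxdef⟩ : ∃ x : GL (Unit ⊕ (Fin d ⊕ Fin d)) F,
      x = (g : GL (Unit ⊕ (Fin d ⊕ Fin d)) F) := ⟨_, rfl⟩
  have hx : x ∈ Cfsg.Geo.omegaGL ⇑(qfOdd d F) := ⟨g, hgΩ, hxdef.symm⟩
  rw [coe_qfOdd] at hx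
  have hxmat : (x : Matrix (Unit ⊕ (Fin d ⊕ Fin d)) (Unit ⊕ (Fin d ⊕ Fin d)) F) =
      mat (qfOdd d F) g := by rw [hxdef]
  have hdata : OData (qfOdd d F) (Matrix.toLin' (mat (qfOdd d F) g)) r :=
    oData_of_mem (qfOdd d F) g r hgr hrodd hrF
  have hχ : (Matrix.toLin' (mat (qfOdd d F) g)).charpoly =
      (X - 1) ^ (e₀ + 1) * w₀ ^ a₀ * ∏ w ∈ S, w := by
    rw [Matrix.charpoly_toLin', hgc, hc]
    ring
  have hcardι : Fintype.card (Unit ⊕ (Fin d ⊕ Fin d)) = 2 * d + 1 := by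
    rw [Fintype.card_sum, Fintype.card_sum, Fintype.card_fin, Fintype.card_unit]
    omega
  have hX1i : Irreducible ((X : F[X]) - 1) := by rw [hX1]; exact irreducible_X_sub_C 1
  have hxr : x ^ r = 1 := by
    rw [hxdef, ← Subgroup.coe_pow, hgr, Subgroup.coe_one]
  have hord : orderOf x = r := by
    rcases (Nat.dvd_prime hr).1 (orderOf_dvd_of_pow_eq_one hxr) with h1 | h1
    · exfalso
      have hx1 : x = 1 := orderOf_eq_one_iff.1 h1
      have hm1 : mat (qfOdd d F) g = 1 := by rw [← hxmat, hx1]; rfl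
      rw [hm1, Matrix.charpoly_one, hcardι] at hgc
      have hdvd : w₀ ∣ ((X : F[X]) - 1) ^ (2 * d + 1) := by
        rw [hgc, hc]
        exact Dvd.dvd.mul_left
          (Dvd.dvd.mul_right (Dvd.dvd.mul_left (dvd_pow_self w₀ (by omega)) _) _) _
      have h3 : w₀ ∣ (X : F[X]) - 1 := hw₀.2.1.prime.dvd_of_dvd_pow hdvd
      have h4 : Associated w₀ ((X : F[X]) - 1) := hw₀.2.1.associated_of_dvd hX1i h3
      exact hw₀.2.2.1 (eq_of_monic_of_associated hw₀.1 hX1m h4)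
    · exact h1
  refine ⟨x, hx, hord, ?_⟩
  intro W hWinv hWts
  rw [hxmat] at hWinv
  set T : Module.End F (Unit ⊕ (Fin d ⊕ Fin d) → F) := Matrix.toLin' (mat (qfOdd d F) g) with hT
  have hInv : Inv T W := by
    intro y hy
    exact hWinv (Submodule.mem_map_of_mem hy)
  have hTS : TSOn (qfOdd d F) W := by
    intro w hw
    have := hWts w hw
    rwa [← coe_qfOdd] at this
  obtain ⟨hsum, -, hfix⟩ := OD hdata hQ hr hrp hInv hTS
  have hB := OB h2 hdata hQ hr hr2 hrp hie w₀ S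
    ⟨hw₀.1, hw₀.2.1, hw₀.2.2.1, hw₀.2.2.2.1⟩
    (fun w hw => ⟨(hS w hw).1, (hS w hw).2.1, (hS w hw).2.2.1, (hS w hw).2.2.2.1⟩) hw₀S
    (e₀ + 1) a₀ hχ hInv hTS
  have hfixdim : finrank F (LinearMap.ker (T - 1)) = e₀ + 1 := by
    have hss : T.IsSemisimple := hdata.isSemisimple
    have hker : LinearMap.ker (T - 1) = Module.End.eigenspace T 1 := by
      rw [Module.End.eigenspace_def, one_smul]
    have hne0 : (w₀ ^ a₀ * ∏ w ∈ S, w).eval 1 ≠ 0 := by
      rw [eval_mul, eval_pow, eval_prod]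
      refine mul_ne_zero (pow_ne_zero _ (eval_one_ne_zero w₀ hw₀.1 hw₀.2.1 hw₀.2.2.1)) ?_
      rw [Finset.prod_ne_zero_iff]
      intro w hw
      exact eval_one_ne_zero w (hS w hw).1 (hS w hw).2.1 (hS w hw).2.2.1
    have hχne : ((X : F[X]) - 1) ^ (e₀ + 1) * (w₀ ^ a₀ * ∏ w ∈ S, w) ≠ 0 := by
      rw [← mul_assoc, ← hχ]
      exact (LinearMap.charpoly_monic T).ne_zero
    rw [hker, ← hss.isFinitelySemisimple.maxGenEigenspace_eq_eigenspace,
      LinearMap.finrank_maxGenEigenspace_eq, hχ, mul_assoc,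
      rootMultiplicity_mul hχne, hX1, rootMultiplicity_X_sub_C_pow,
      rootMultiplicity_eq_zero, add_zero]
    rw [IsRoot.def]
    exact hne0
  rw [hfixdim] at hfix
  rw [← hi] at hB
  obtain ⟨e', he'⟩ := he₀
  have h5 : e₀ / 2 = e' := by omega
  rw [h5, hsum]
  have h6 : finrank F (W ⊓ LinearMap.ker (T - 1) : Submodule F _) ≤ e' := by omega
  exact Nat.add_le_add h6 hB

/-- OE2: the special element (`i` even). -/
theorem OE2 {F : Type v} [Field F] [Fintype F] {p : ℕ} [Fact p.Prime] [CharP F p]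
    (h2 : (2 : F) ≠ 0) {r : ℕ} (hr : r.Prime) (hr2 : r ≠ 2) (hrp : r ≠ p)
    (hie : Even (orderOf ((Fintype.card F : ℕ) : ZMod r))) (d m : ℕ) (hmd : m ≤ d)
    (him : orderOf ((Fintype.card F : ℕ) : ZMod r) ≤ m)
    (hneg : ¬ ((r - 1) / orderOf ((Fintype.card F : ℕ) : ZMod r) +
      2 * (m / orderOf ((Fintype.card F : ℕ) : ZMod r)) ≤
        (2 * d + 1) / orderOf ((Fintype.card F : ℕ) : ZMod r))) :
    ∃ x : GL (Unit ⊕ (Fin d ⊕ Fin d)) F, x ∈ Cfsg.Geo.omegaGL (Cfsg.quadFormOdd d F) ∧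
      orderOf x = r ∧
      ∀ W : Submodule F (Unit ⊕ (Fin d ⊕ Fin d) → F),
        W.map (Matrix.toLin' (x : Matrix (Unit ⊕ (Fin d ⊕ Fin d)) (Unit ⊕ (Fin d ⊕ Fin d)) F)) ≤ W →
        (∀ w ∈ W, Cfsg.quadFormOdd d F w = 0) → finrank F W ≠ m := by
  classical
  obtain ⟨hipos, Wset, hWcard, hW1, -⟩ := exists_cyclotomic_factors (F := F) p r hr hrp
  set i := orderOf ((Fintype.card F : ℕ) : ZMod r) with hi
  set t := (r - 1) / i with ht
  set n' := (2 * d + 1) / i with hn'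
  set m' := m / i with hm'
  have hq0 : ((Fintype.card F : ℕ) : ZMod r) ≠ 0 := by
    rw [Ne, ZMod.natCast_eq_zero_iff]
    intro h
    have hp : p.Prime := Fact.out
    obtain ⟨k, -, hk⟩ := FiniteField.card F p
    rw [hk] at h
    exact hrp ((Nat.prime_dvd_prime_iff_eq hr hp).1 (hr.dvd_of_dvd_pow h))
  have : Fact r.Prime := ⟨hr⟩
  have hedvd : i ∣ r - 1 := ZMod.orderOf_dvd_card_sub_one hq0
  have hpos : 0 < r - 1 := by have := hr.two_le; omega
  have htpos : 0 < t := Nat.div_pos (Nat.le_of_dvd hpos hedvd) hipos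
  have hWpos : 0 < Wset.card := by rw [hWcard]; exact htpos
  obtain ⟨w₀, hw₀W⟩ := Finset.card_pos.1 hWpos
  have hErase : (Wset.erase w₀).card = t - 1 := by
    rw [Finset.card_erase_of_mem hw₀W, hWcard]
  -- arithmetic facts
  obtain ⟨j, hj⟩ := hie
  have hdm : i * n' + (2 * d + 1) % i = 2 * d + 1 := Nat.div_add_mod (2 * d + 1) i
  have hklt : (2 * d + 1) % i < i := Nat.mod_lt _ hipos
  have hkodd : (2 * d + 1) % i % 2 = 1 := by
    rw [Nat.mod_mod_of_dvd _ ⟨j, by omega⟩]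
    omega
  obtain ⟨k₁, hk₁⟩ : ∃ k₁, (2 * d + 1) % i = 2 * k₁ + 1 :=
    ⟨(2 * d + 1) % i / 2, by omega⟩
  have hmm : i * m' ≤ m := Nat.mul_div_le m i
  have hn'pos : 0 < n' := Nat.div_pos (by omega) hipos
  have hneg' : n' + 1 ≤ t + 2 * m' := by omega
  by_cases hcase : n' ≤ t
  · -- few blocks
    obtain ⟨S, hSsub, hScard⟩ :=
      Finset.exists_subset_card_eq (s := Wset.erase w₀) (n := n' - 1) (by rw [hErase]; omega)
    obtain ⟨x, hx, hxr, hbd⟩ := exists_of_data h2 hr hr2 hrp ⟨j, hj⟩ d w₀ S (hW1 w₀ hw₀W)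
      (fun w hw => hW1 w (Finset.mem_of_mem_erase (hSsub hw)))
      (fun h => (Finset.notMem_erase w₀ Wset) (hSsub h)) (2 * k₁) 1 (even_two_mul k₁) le_rfl (by
        rw [hScard, ← hi, mul_one]
        have : i * (n' - 1) + i = i * n' := by
          rw [← Nat.mul_succ]
          congr 1
          omega
        omega)
    refine ⟨x, hx, hxr, ?_⟩
    intro W hWinv hWti hWm
    have := hbd W hWinv hWti
    rw [← hi, hWm] at this
    have h0 : (1 : ℕ) / 2 = 0 := by norm_num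
    rw [h0, mul_zero, add_zero] at this
    omega
  · -- many blocks
    rw [not_le] at hcase
    set c := (n' - t) / 2 with hc
    have hN1 : t + 2 * c ≤ n' := by omega
    have hN2 : n' ≤ t + 2 * c + 1 := by omega
    have hiN : i * (t + 2 * c) + 1 ≤ 2 * d + 1 := by
      calc i * (t + 2 * c) + 1 ≤ i * n' + 1 := Nat.add_le_add_right (Nat.mul_le_mul_left i hN1) 1
        _ ≤ 2 * d + 1 := by omega
    have hee : Even (2 * d - i * (t + 2 * c)) := by
      rw [Nat.even_sub (by omega)]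
      exact ⟨fun _ => (show Even i from ⟨j, hj⟩).mul_right _, fun _ => even_two_mul d⟩
    obtain ⟨x, hx, hxr, hbd⟩ := exists_of_data h2 hr hr2 hrp ⟨j, hj⟩ d w₀ (Wset.erase w₀)
      (hW1 w₀ hw₀W) (fun w hw => hW1 w (Finset.mem_of_mem_erase hw))
      (Finset.notMem_erase w₀ Wset) (2 * d - i * (t + 2 * c)) (2 * c + 1) hee (by omega) (by
        rw [hErase, ← hi]
        have h1 : i * (2 * c + 1) + i * (t - 1) = i * (t + 2 * c) := by
          rw [← Nat.mul_add]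
          congr 1
          omega
        omega)
    refine ⟨x, hx, hxr, ?_⟩
    intro W hWinv hWti hWm
    have := hbd W hWinv hWti
    rw [← hi, hWm] at this
    have h0 : (2 * c + 1) / 2 = c := by omega
    rw [h0] at this
    obtain ⟨e', he'⟩ := hee
    have h3 : (2 * d - i * (t + 2 * c)) / 2 = e' := by omega
    rw [h3] at this
    have h4 : i * (t + 2 * c) = i * t + 2 * (i * c) := by ring
    have h5 : i * (n' + 1) ≤ i * (t + 2 * m') := Nat.mul_le_mul_left i hneg'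
    have h6 : i * (n' + 1) = i * n' + i := by ring
    have h7 : i * (t + 2 * m') = i * t + 2 * (i * m') := by ring
    omega

end Cfsg.Agent.Lib.Helper71_OTS_OE2
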