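import Mathlib
import Cfsg.Agent.Lib.Helper14_OrthAutDefs
import Cfsg.Agent.Lib.Helper20_TISmall
import Cfsg.Agent.Lib.Helper71_HHB
import Cfsg.Agent.Lib.Helper44_QuadClass

set_option autoImplicit false

namespace Cfsg.Agent.Lib.Helper71_OrthPA0

open Module Cfsg.Agent.Lib.Helper14_OmegaSimple Cfsg.Agent.Lib.Helper14_OrthAut
  Cfsg.Agent.Lib.Helper94_OrthSmall

variable {F V : Type*} [Field F] [Finite F] [AddCommGroup V] [Module F V] [FiniteDimensional F V]
variable {Q : QuadraticForm F V} {p : ℕ} [Fact p.Prime] [CharP F p]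

omit [Finite F] [FiniteDimensional F V] in
/-- isometries preserve the polar form -/
theorem polar_apply_apply {g : V ≃ₗ[F] V} (hg : g ∈ oG (⇑Q)) (x y : V) :
    QuadraticMap.polar (⇑Q) (g x) (g y) = QuadraticMap.polar (⇑Q) x y := by
  unfold QuadraticMap.polar
  rw [← map_add, mem_oG.1 hg, mem_oG.1 hg, mem_oG.1 hg]

theorem finite_V (F : Type*) {V : Type*} [Field F] [Finite F] [AddCommGroup V] [Module F V]
    [FiniteDimensional F V] : Finite V := Module.finite_of_finite F

/-- a `p`-group of linear maps fixes a non-zero vector in every non-zero invariant subspace -/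
theorem exists_fixed_ne_zero (U : Submodule F V) (hU : U ≠ ⊥) (P : Subgroup (V ≃ₗ[F] V))
    (hP : IsPGroup p P) (hinv : ∀ g ∈ P, ∀ x ∈ U, g x ∈ U) :
    ∃ v ∈ U, v ≠ 0 ∧ ∀ g ∈ P, g v = v := by
  have : Finite V := finite_V F
  have : Finite (V ≃ₗ[F] V) := Finite.of_injective (fun g : V ≃ₗ[F] V => (g : V → V))
    (fun a b h => LinearEquiv.ext (congrFun h))
  obtain ⟨u, huU, hu0, hu⟩ := Cfsg.Agent.Lib.Helper20_TISmall.exists_fixed_ne_zero hP
    (Cfsg.Agent.Lib.Helper71_HHB.tautRep P) U (fun t u hu => hinv t t.2 u hu) hU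
  exact ⟨u, huU, hu0, fun g hg => hu ⟨g, hg⟩⟩

/-- a `p`-group of permutations of a finite set of vectors of size divisible by `p` containing `0`
fixes another vector of the set -/
theorem exists_fixed_of_card (S : Set V) (P : Subgroup (V ≃ₗ[F] V)) (hP : IsPGroup p P)
    (hinv : ∀ g ∈ P, ∀ x ∈ S, g x ∈ S) (h0 : (0 : V) ∈ S) (hdvd : p ∣ Nat.card S) :
    ∃ v ∈ S, v ≠ 0 ∧ ∀ g ∈ P, g v = v := by
  have : Finite V := finite_V F
  let _ : MulAction P S :=
    { smul := fun g x => ⟨(g : V ≃ₗ[F] V) x, hinv g g.2 x x.2⟩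
      one_smul := fun x => Subtype.ext rfl
      mul_smul := fun g h x => Subtype.ext rfl }
  have hfix : (⟨0, h0⟩ : S) ∈ MulAction.fixedPoints P S := by
    intro g
    apply Subtype.ext
    show (g : V ≃ₗ[F] V) 0 = 0
    exact map_zero _
  obtain ⟨b, hb, hb0⟩ := hP.exists_fixed_point_of_prime_dvd_card_of_fixed_point S hdvd hfix
  refine ⟨b, b.2, ?_, ?_⟩
  · intro h
    apply hb0
    exact (Subtype.ext h).symm
  · intro g hg
    have := hb ⟨g, hg⟩
    exact congrArg Subtype.val this

/-- squaring is surjective on a finite field of characteristic two -/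
theorem exists_mul_self_eq (h2 : (2 : F) = 0) (c : F) : ∃ a : F, a * a = c := by
  have hinj : Function.Injective (fun a : F => a * a) := by
    intro a b hab
    have hab' : a * a = b * b := hab
    have h1 : (a + b) * (a + b) = 0 := by
      have : (a + b) * (a + b) = a * a + b * b + 2 * (a * b) := by ring
      rw [this, h2, zero_mul, add_zero, hab']
      have : b * b + b * b = 2 * (b * b) := by ring
      rw [this, h2, zero_mul]
    have h3 : a + b = 0 := by
      rcases mul_self_eq_zero.1 h1 with h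
      exact h
    have h4 : b + b = 0 := by
      have : b + b = 2 * b := by ring
      rw [this, h2, zero_mul]
    calc a = a + (b + b) := by rw [h4, add_zero]
      _ = (a + b) + b := by ring
      _ = b := by rw [h3, zero_add]
  exact Finite.surjective_of_injective hinj c

omit [Finite F] [FiniteDimensional F V] in
theorem two_smul_eq_zero (h2 : (2 : F) = 0) (c : F) : c + c = 0 := by
  have : c + c = 2 * c := by ring
  rw [this, h2, zero_mul]

theorem prime_dvd_card : p ∣ Nat.card F := by
  have := Fintype.ofFinite F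
  rw [Nat.card_eq_fintype_card, ← CharP.cast_eq_zero_iff F p]
  exact Nat.cast_card_eq_zero F

/-- PA0 -/
theorem exists_fixed_singular (K : Submodule F V)
    (hK : ∀ x ∈ K, (∀ y ∈ K, QuadraticMap.polar (⇑Q) x y = 0) → x = 0) (h3 : 3 ≤ finrank F K)
    (P : Subgroup (V ≃ₗ[F] V)) (hPO : P ≤ oG (⇑Q)) (hP : IsPGroup p P)
    (hinv : ∀ g ∈ P, ∀ x ∈ K, g x ∈ K) :
    ∃ v ∈ K, v ≠ 0 ∧ Q v = 0 ∧ ∀ g ∈ P, g v = v := by
  classical
  have : Finite V := finite_V F
  have hK0 : K ≠ ⊥ := by
    intro h
    rw [h, finrank_bot] at h3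
    omega
  by_cases h2 : (2 : F) = 0
  · -- characteristic two
    obtain ⟨v, hvK, hv0, hvfix⟩ := exists_fixed_ne_zero K hK0 P hP hinv
    by_cases hQv : Q v = 0
    · exact ⟨v, hvK, hv0, hQv, hvfix⟩
    have hvv : QuadraticMap.polar (⇑Q) v v = 0 := by
      rw [QuadraticMap.polar_self, two_smul]
      exact two_smul_eq_zero h2 _
    obtain ⟨M, hM⟩ : ∃ M : Submodule F V,
        M = K ⊓ LinearMap.ker (QuadraticMap.polarBilin Q v) := ⟨_, rfl⟩
    have hmemM : ∀ x, x ∈ M ↔ x ∈ K ∧ QuadraticMap.polar (⇑Q) v x = 0 := by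
      intro x
      rw [hM, Submodule.mem_inf, LinearMap.mem_ker]
      rfl
    have hvM : v ∈ M := (hmemM v).2 ⟨hvK, hvv⟩
    -- `dim M ≥ 2`
    have hMdim : 2 ≤ finrank F M := by
      have h1 := Submodule.finrank_sup_add_finrank_inf_eq K
        (LinearMap.ker (QuadraticMap.polarBilin Q v))
      have h2' := LinearMap.finrank_range_add_finrank_ker (QuadraticMap.polarBilin Q v)
      have h3' : finrank F (LinearMap.range (QuadraticMap.polarBilin Q v)) ≤ 1 := by
        have := Submodule.finrank_le (LinearMap.range (QuadraticMap.polarBilin Q v))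
        rwa [finrank_self] at this
      have h4 : finrank F ↥(K ⊔ LinearMap.ker (QuadraticMap.polarBilin Q v)) ≤ finrank F V :=
        Submodule.finrank_le _
      rw [hM]
      omega
    -- singular vectors of `M`
    obtain ⟨S, hS⟩ : ∃ S : Set V, S = {w | w ∈ M ∧ Q w = 0} := ⟨_, rfl⟩
    have hmemS : ∀ w, w ∈ S ↔ w ∈ M ∧ Q w = 0 := by
      intro w
      rw [hS]
      rfl
    have hQadd : ∀ x ∈ M, ∀ a : F, Q (x + a • v) = Q x + a * a * Q v := by
      intro x hx a
      rw [QuadraticMap.map_add (⇑Q) x (a • v), QuadraticMap.map_smul, QuadraticMap.polar_smul_right,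
        QuadraticMap.polar_comm, ((hmemM x).1 hx).2, smul_zero, add_zero, smul_eq_mul]
    have hbij : Function.Bijective (fun wa : S × F =>
        (⟨(wa.1 : V) + wa.2 • v, M.add_mem ((hmemS _).1 wa.1.2).1 (M.smul_mem _ hvM)⟩ : M)) := by
      constructor
      · rintro ⟨⟨w, hw⟩, a⟩ ⟨⟨w', hw'⟩, a'⟩ h
        have h1 : w + a • v = w' + a' • v := congrArg Subtype.val h
        have hw1 := (hmemS w).1 hw
        have hw1' := (hmemS w').1 hw'
        have h4 : w = w' + (a' - a) • v := by
          rw [sub_smul]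
          have : w = (w + a • v) - a • v := by abel
          rw [this, h1]
          abel
        have h5 := hQadd w' hw1'.1 (a' - a)
        rw [← h4, hw1.2, hw1'.2, zero_add] at h5
        have h6 : a' - a = 0 := by
          rcases mul_eq_zero.1 h5.symm with h | h
          · exact mul_self_eq_zero.1 h
          · exact absurd h hQv
        have h7 : a' = a := sub_eq_zero.1 h6
        rw [h6, zero_smul, add_zero] at h4
        subst h4
        subst h7
        rfl
      · rintro ⟨x, hx⟩
        obtain ⟨a, ha⟩ := exists_mul_self_eq h2 (Q x / Q v)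
        have hQ : Q (x + a • v) = 0 := by
          rw [hQadd x hx a, ha, div_mul_cancel₀ _ hQv]
          exact two_smul_eq_zero h2 _
        refine ⟨⟨⟨x + a • v, (hmemS _).2 ⟨M.add_mem hx (M.smul_mem _ hvM), hQ⟩⟩, a⟩, ?_⟩
        apply Subtype.ext
        show x + a • v + a • v = x
        rw [add_assoc, ← add_smul, two_smul_eq_zero h2 a, zero_smul, add_zero]
    have hcard : Nat.card S * Nat.card F = Nat.card F ^ finrank F M := by
      rw [← Nat.card_prod, Nat.card_congr (Equiv.ofBijective _ hbij), Module.natCard_eq_pow_finrank (K := F)]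
    have hq : 0 < Nat.card F := Nat.card_pos
    have hcardS : Nat.card S = Nat.card F ^ (finrank F M - 1) := by
      have e : Nat.card F ^ finrank F M = Nat.card F ^ (finrank F M - 1) * Nat.card F := by
        rw [← pow_succ]
        congr 1
        omega
      rw [e] at hcard
      exact Nat.eq_of_mul_eq_mul_right hq hcard
    have hdvd : p ∣ Nat.card S := by
      rw [hcardS]
      exact dvd_trans (prime_dvd_card (F := F)) (dvd_pow_self _ (by omega))
    have hinvS : ∀ g ∈ P, ∀ x ∈ S, g x ∈ S := by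
      intro g hg x hx
      rw [hmemS] at hx ⊢
      obtain ⟨hxM, hxQ⟩ := hx
      rw [hmemM] at hxM ⊢
      refine ⟨⟨hinv g hg x hxM.1, ?_⟩, ?_⟩
      · have := polar_apply_apply (hPO hg) v x
        rw [hvfix g hg] at this
        rw [this]
        exact hxM.2
      · rw [mem_oG.1 (hPO hg)]
        exact hxQ
    have h0S : (0 : V) ∈ S := (hmemS 0).2 ⟨M.zero_mem, map_zero Q⟩
    obtain ⟨w, hwS, hw0, hwfix⟩ := exists_fixed_of_card S P hP hinvS h0S hdvd
    have hw := (hmemS w).1 hwS
    exact ⟨w, ((hmemM w).1 hw.1).1, hw0, hw.2, hwfix⟩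
  · -- odd characteristic
    obtain ⟨C, hC⟩ : ∃ C : Submodule F V, ∀ x, x ∈ C ↔ x ∈ K ∧ ∀ g ∈ P, g x = x := by
      refine ⟨{ carrier := {x | x ∈ K ∧ ∀ g ∈ P, g x = x}
                add_mem' := ?_
                zero_mem' := ?_
                smul_mem' := ?_ }, fun x => Iff.rfl⟩
      · rintro a b ⟨ha, ha'⟩ ⟨hb, hb'⟩
        exact ⟨K.add_mem ha hb, fun g hg => by rw [map_add, ha' g hg, hb' g hg]⟩
      · exact ⟨K.zero_mem, fun g _ => map_zero g⟩
      · rintro c a ⟨ha, ha'⟩
        exact ⟨K.smul_mem c ha, fun g hg => by rw [map_smul, ha' g hg]⟩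
    by_cases hC3 : 3 ≤ finrank F C
    · obtain ⟨c, hc0, hQc⟩ := Cfsg.Agent.Lib.Helper44_QuadClass.exists_singular
        (Q.comp C.subtype) hC3
      have hc := (hC c).1 c.2
      refine ⟨c, hc.1, ?_, ?_, hc.2⟩
      · intro h
        exact hc0 (Subtype.ext h)
      · simpa using hQc
    · -- the orthogonal complement of `C` in `K`
      obtain ⟨ψ, hψ⟩ : ∃ ψ : K →ₗ[F] (C →ₗ[F] F), ∀ (x : K) (c : C),
          ψ x c = QuadraticMap.polar (⇑Q) (x : V) (c : V) :=
        ⟨((LinearMap.lcomp F F C.subtype).comp (QuadraticMap.polarBilin Q)).comp K.subtype,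
          fun x c => rfl⟩
      have hker : LinearMap.ker ψ ≠ ⊥ := by
        intro h
        have h1 := LinearMap.finrank_range_add_finrank_ker ψ
        rw [h, finrank_bot, add_zero] at h1
        have h2' : finrank F (LinearMap.range ψ) ≤ finrank F (C →ₗ[F] F) := Submodule.finrank_le _
        have h3' : finrank F (C →ₗ[F] F) = finrank F C := Subspace.dual_finrank_eq
        omega
      obtain ⟨x, hxker, hx0⟩ := Submodule.exists_mem_ne_zero_of_ne_bot hker
      obtain ⟨D, hD⟩ : ∃ D : Submodule F V,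
          ∀ y, y ∈ D ↔ y ∈ K ∧ ∀ c ∈ C, QuadraticMap.polar (⇑Q) y c = 0 := by
        refine ⟨{ carrier := {y | y ∈ K ∧ ∀ c ∈ C, QuadraticMap.polar (⇑Q) y c = 0}
                  add_mem' := ?_
                  zero_mem' := ?_
                  smul_mem' := ?_ }, fun x => Iff.rfl⟩
        · rintro a b ⟨ha, ha'⟩ ⟨hb, hb'⟩
          exact ⟨K.add_mem ha hb, fun c hc => by
            rw [QuadraticMap.polar_add_left, ha' c hc, hb' c hc, add_zero]⟩
        · exact ⟨K.zero_mem, fun c _ => by simp [QuadraticMap.polar]⟩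
        · rintro a y ⟨hy, hy'⟩
          exact ⟨K.smul_mem a hy, fun c hc => by
            rw [QuadraticMap.polar_smul_left, hy' c hc, smul_zero]⟩
      have hD0 : D ≠ ⊥ := by
        intro h
        apply hx0
        have : (x : V) ∈ D := by
          rw [hD]
          refine ⟨x.2, ?_⟩
          intro c hc
          have := hψ x ⟨c, hc⟩
          rw [LinearMap.mem_ker.1 hxker] at this
          exact this.symm
        rw [h, Submodule.mem_bot] at this
        exact Subtype.ext this
      have hDinv : ∀ g ∈ P, ∀ y ∈ D, g y ∈ D := by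
        intro g hg y hy
        rw [hD] at hy ⊢
        refine ⟨hinv g hg y hy.1, ?_⟩
        intro c hc
        have := polar_apply_apply (hPO hg) y c
        rw [((hC c).1 hc).2 g hg] at this
        rw [this]
        exact hy.2 c hc
      obtain ⟨d, hdD, hd0, hdfix⟩ := exists_fixed_ne_zero D hD0 P hP hDinv
      have hd := (hD d).1 hdD
      have hdC : d ∈ C := (hC d).2 ⟨hd.1, hdfix⟩
      have h4 := hd.2 d hdC
      rw [QuadraticMap.polar_self, two_smul, ← two_mul] at h4
      rcases mul_eq_zero.1 h4 with h | h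
      · exact absurd h h2
      · exact ⟨d, hd.1, hd0, h, hdfix⟩

end Cfsg.Agent.Lib.Helper71_OrthPA0
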