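import Mathlib
import Cfsg.Agent.Lib.Helper14_OrthAutDefs

set_option autoImplicit false

namespace Cfsg.Agent.Lib.Helper71_OrthPeel

open Module Cfsg.Agent.Lib.Helper14_OmegaSimple Cfsg.Agent.Lib.Helper14_OrthAut

variable {F V : Type*} [Field F] [AddCommGroup V] [Module F V] [FiniteDimensional F V]
variable {Q : QuadraticForm F V}

/-- cutting a subspace with a hyperplane lowers the dimension by at most one -/
theorem finrank_le_inf_ker_add_one (K : Submodule F V) (φ : V →ₗ[F] F) :
    finrank F K ≤ finrank F ↥(K ⊓ LinearMap.ker φ) + 1 := by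
  have h1 := Submodule.finrank_sup_add_finrank_inf_eq K (LinearMap.ker φ)
  have h2 := LinearMap.finrank_range_add_finrank_ker φ
  have h3 : finrank F (LinearMap.range φ) ≤ 1 := by
    have := Submodule.finrank_le (LinearMap.range φ)
    rwa [finrank_self] at this
  have h4 : finrank F ↥(K ⊔ LinearMap.ker φ) ≤ finrank F V := Submodule.finrank_le _
  omega

/-- the projection onto `⟨e, f⟩^⊥` along the hyperbolic plane `⟨e, f⟩` -/
noncomputable def proj (Q : QuadraticForm F V) (e f : V) : V →ₗ[F] V :=
  LinearMap.id - (QuadraticMap.polarBilin Q f).smulRight e - (QuadraticMap.polarBilin Q e).smulRight f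

omit [FiniteDimensional F V] in
theorem proj_apply (e f x : V) :
    proj Q e f x = x - QuadraticMap.polar (⇑Q) f x • e - QuadraticMap.polar (⇑Q) e x • f := rfl

/-- PD-1 -/
theorem ts_peel {e f : V} (he : Q e = 0) (hf : Q f = 0) (hef : QuadraticMap.polar (⇑Q) e f = 1)
    (U : Submodule F V) (hU : ∀ x ∈ U, Q x = 0) :
    ∃ U' : Submodule F V, U' ≤ Wp Q e f ∧ (∀ x ∈ U', Q x = 0) ∧ finrank F U ≤ finrank F U' + 1 := by
  classical
  have hee : QuadraticMap.polar (⇑Q) e e = 0 := by
    rw [QuadraticMap.polar_self, he, smul_zero]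
  have hff : QuadraticMap.polar (⇑Q) f f = 0 := by
    rw [QuadraticMap.polar_self, hf, smul_zero]
  have hfe : QuadraticMap.polar (⇑Q) f e = 1 := by rw [QuadraticMap.polar_comm, hef]
  obtain ⟨U₁, hU₁⟩ : ∃ U₁ : Submodule F V,
      U₁ = U ⊓ LinearMap.ker (QuadraticMap.polarBilin Q e) := ⟨_, rfl⟩
  have hmemU₁ : ∀ x, x ∈ U₁ ↔ x ∈ U ∧ QuadraticMap.polar (⇑Q) e x = 0 := by
    intro x
    rw [hU₁, Submodule.mem_inf, LinearMap.mem_ker]
    rfl
  have hdim1 : finrank F U ≤ finrank F U₁ + 1 := by
    rw [hU₁]
    exact finrank_le_inf_ker_add_one U _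
  -- the projected subspace
  refine ⟨U₁.map (proj Q e f), ?_, ?_, ?_⟩
  · rintro _ ⟨x, hx, rfl⟩
    have hx' := (hmemU₁ x).1 hx
    rw [mem_Wp, proj_apply]
    constructor
    · rw [QuadraticMap.polar_sub_left, QuadraticMap.polar_sub_left, QuadraticMap.polar_smul_left,
        QuadraticMap.polar_smul_left, hee, hfe, QuadraticMap.polar_comm, hx'.2]
      simp
    · rw [QuadraticMap.polar_sub_left, QuadraticMap.polar_sub_left, QuadraticMap.polar_smul_left,
        QuadraticMap.polar_smul_left, hef, hff, hx'.2, QuadraticMap.polar_comm]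
      simp
  · rintro _ ⟨x, hx, rfl⟩
    have hx' := (hmemU₁ x).1 hx
    have hxe : QuadraticMap.polar (⇑Q) x e = 0 := by
      rw [QuadraticMap.polar_comm]
      exact hx'.2
    rw [proj_apply, hx'.2, zero_smul, sub_zero, sub_eq_add_neg, ← neg_smul,
      QuadraticMap.map_add (⇑Q) x _, QuadraticMap.map_smul, he, hU x hx'.1,
      QuadraticMap.polar_smul_right, hxe]
    simp
  · -- dimension count
    have hrn := LinearMap.finrank_range_add_finrank_ker ((proj Q e f).domRestrict U₁)
    have hrange : finrank F (LinearMap.range ((proj Q e f).domRestrict U₁)) =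
        finrank F (U₁.map (proj Q e f)) := by
      rw [LinearMap.range_domRestrict]
    -- the kernel lies in `U ⊓ span {e}`
    have hkerle : ∀ x : U₁, x ∈ LinearMap.ker ((proj Q e f).domRestrict U₁) →
        (x : V) ∈ U ⊓ Submodule.span F {e} := by
      intro x hx
      have hx' := (hmemU₁ x).1 x.2
      rw [LinearMap.mem_ker, LinearMap.domRestrict_apply, proj_apply, hx'.2, zero_smul,
        sub_zero, sub_eq_zero] at hx
      refine ⟨hx'.1, ?_⟩
      rw [hx]
      exact Submodule.smul_mem _ _ (Submodule.mem_span_singleton_self e)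
    have hkerdim : finrank F (LinearMap.ker ((proj Q e f).domRestrict U₁)) ≤
        finrank F ↥(U ⊓ Submodule.span F {e}) := by
      let ι : LinearMap.ker ((proj Q e f).domRestrict U₁) →ₗ[F] ↥(U ⊓ Submodule.span F {e}) :=
        { toFun := fun x => ⟨((x : U₁) : V), hkerle x x.2⟩
          map_add' := fun a b => rfl
          map_smul' := fun c a => rfl }
      apply LinearMap.finrank_le_finrank_of_injective (f := ι)
      intro a b hab
      have := congrArg Subtype.val hab
      exact Subtype.ext (Subtype.ext this)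
    by_cases heU : e ∈ U
    · -- `U ≤ e^⊥`
      have hU₁U : U₁ = U := by
        apply le_antisymm
        · rw [hU₁]
          exact inf_le_left
        · intro x hx
          rw [hmemU₁]
          refine ⟨hx, ?_⟩
          have h1 := hU (e + x) (U.add_mem heU hx)
          rw [QuadraticMap.map_add (⇑Q) e x, he, hU x hx, zero_add, zero_add] at h1
          exact h1
      have h5 : finrank F ↥(U ⊓ Submodule.span F {e}) ≤ 1 := by
        calc finrank F ↥(U ⊓ Submodule.span F {e}) ≤ finrank F ↥(Submodule.span F {e}) :=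
              Submodule.finrank_mono inf_le_right
          _ ≤ 1 := by
              have := finrank_span_le_card (R := F) ({e} : Set V)
              simpa using this
      rw [hU₁U] at hrn hrange hkerdim
      rw [hU₁U]
      omega
    · have hbot : U ⊓ Submodule.span F {e} = ⊥ := by
        rw [eq_bot_iff]
        rintro x ⟨hxU, hxe⟩
        obtain ⟨a, rfl⟩ := Submodule.mem_span_singleton.1 hxe
        rw [Submodule.mem_bot]
        by_cases ha : a = 0
        · rw [ha, zero_smul]
        · exfalso
          apply heU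
          have := U.smul_mem a⁻¹ hxU
          rwa [smul_smul, inv_mul_cancel₀ ha, one_smul] at this
      rw [hbot, finrank_bot] at hkerdim
      omega

end Cfsg.Agent.Lib.Helper71_OrthPeel
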