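import Mathlib
import Cfsg.Agent.Lib.Helper37_RHDefs
import Cfsg.Agent.Lib.Helper26_RHTorDefs
import Cfsg.Agent.Lib.Helper71_RH_F2357Caux
import Cfsg.Agent.Lib.Helper3_RH_NORMT

/-!
# REEHALL package F2357C (helper71, for helper37): the numbers of elements of order `i` and `2 i`,
`1 < i ∣ (q + 1) / 4`.  `Helper71_RH_F2357Caux.f2357c_aux` + NORMT (helper3).
-/

set_option autoImplicit false

namespace Cfsg.Agent.Lib.Helper71_RH_F2357C

open MulAction Subgroup Cfsg.Agent.Lib.Helper37_RHDefs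
open scoped Pointwise

variable {G : Type*} [Group G] [Finite G] {Ω : Type*} [MulAction G Ω] {m : ℕ}

/-- PK F2357C.  The numbers of elements of order `i` and `2 i`, `1 < i ∣ (q + 1) / 4`. -/
theorem f2357c (h : RH G Ω m) (i : ℕ) (hi : 1 < i) (hd : i ∣ (3 ^ (2 * m + 1) + 1) / 4) :
    6 * Nat.card {g : G // orderOf g = i} =
        Nat.totient i * (3 ^ (2 * m + 1)) ^ 3 * (3 ^ (2 * m + 1) - 1) *
          ((3 ^ (2 * m + 1)) ^ 2 - 3 ^ (2 * m + 1) + 1) ∧
      2 * Nat.card {g : G // orderOf g = 2 * i} =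
        Nat.totient i * (3 ^ (2 * m + 1)) ^ 3 * (3 ^ (2 * m + 1) - 1) *
          ((3 ^ (2 * m + 1)) ^ 2 - 3 ^ (2 * m + 1) + 1) :=
  Cfsg.Agent.Lib.Helper71_RH_F2357Caux.f2357c_aux h
    (fun D T V hT A₀ hA hA1 =>
      Cfsg.Agent.Lib.Helper3_RH_NORMT.normalizer_torT h D T V hT A₀ hA hA1) i hi hd

end Cfsg.Agent.Lib.Helper71_RH_F2357C
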