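import Cfsg.Agent.Lib.Helper15_ROMainE

/-!
# Real odd-degree characters: an invariant sign constituent (helper71, package S4581-P8)
-/

set_option autoImplicit false
set_option linter.unusedSectionVars false
set_option linter.unusedVariables false

namespace Cfsg.Agent.Lib.Helper71_ROInvSgn

open Cfsg
open scoped ComplexConjugate
open Cfsg.Agent.Lib.Helper75_Induced Cfsg.Agent.Lib.Helper75_Clifford
  Cfsg.Agent.Lib.Helper75_CharArith Cfsg.Agent.Lib.Helper3_CharBridge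
  Cfsg.Agent.Lib.Helper3_CharOrtho Cfsg.Agent.Lib.Helper15_ROBasic
  Cfsg.Agent.Lib.Helper75_LinChar Cfsg.Agent.Lib.Helper15_ROChar
  Cfsg.Agent.Lib.Helper15_ROCliff Cfsg.Agent.Lib.Helper15_ROValid
  Cfsg.Agent.Lib.Helper71_ROStruct
  Cfsg.Agent.Lib.Helper71_ROSylow Cfsg.Agent.Lib.Helper15_ROGlue
  Cfsg.Agent.Lib.Helper15_ROMainD Cfsg.Agent.Lib.Helper15_ROMainE

universe u

variable {G : Type u} [Group G] [Finite G]

theorem exists_inv_sgn {A L Q M : Subgroup G} (hv : Valid A L Q) (hLM : L ≤ M) (hMQ : M ≤ Q)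
    (hnM : A ≤ Subgroup.normalizer (M : Set G)) (χ : IrrCharacter ↥A)
    (hr : IsRealF (χ : ↥A → ℂ)) (hd : Odd (charDegree (χ : ↥A → ℂ)))
    (ht : TrivOn L (χ : ↥A → ℂ)) (hM : ¬ TrivOn M (χ : ↥A → ℂ)) :
    ∃ V : Subgroup G, L ≤ V ∧ V ≤ M ∧ V.relIndex M = 2 ∧
      Q ≤ Subgroup.normalizer (V : Set G) ∧
      Ov (hMQ.trans hv.hQA) (χ : ↥A → ℂ) (sgn V M) := by
  have hMA : M ≤ A := hMQ.trans hv.hQA
  obtain ⟨θ, hθr, hθov⟩ := exists_real_constituent_amb hMA hnM χ hr hd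
  obtain ⟨e, he⟩ := clifford_deg hMA hnM χ θ hθov
  have hoddS : Odd ((stb A M (θ : M → ℂ)).relIndex A) := by
    rw [he] at hd
    exact odd_of_mul_odd_left (odd_of_mul_odd_right hd)
  have hdθ : Odd (charDegree (θ : M → ℂ)) := by
    rw [he] at hd
    exact odd_of_mul_odd_right (odd_of_mul_odd_right hd)
  have htθ : TrivOn L (θ : M → ℂ) :=
    trivOn_constituent (isCharacter_rs hMA (isCharacter_of_isIrrCharacter χ.2)) (ht.rs hMA) θ hθov
  have h2M : ∃ k : ℕ, L.relIndex M = 2 ^ k := by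
    obtain ⟨k, hk⟩ := hv.h2
    apply pow_two_of_dvd (k := k)
    rw [← hk, ← Subgroup.relIndex_mul_relIndex L M Q hLM hMQ]
    exact dvd_mul_right _ _
  have h1 : (θ : M → ℂ) 1 = 1 := lin_of_odd_two hLM (hMA.trans hv.hn) h2M θ hdθ htθ
  rcases real_lin_eq θ h1 hθr with h | ⟨V₀, hV₀M, hV₀2, hθV₀, hV₀ker⟩
  · exfalso
    apply hM
    apply trivOn_of_ov_one hMA hnM χ
    rw [← h]
    exact hθov
  · have hLV₀ : L ≤ V₀ := by
      intro x hx
      have h3 := htθ ⟨x, hLM hx⟩ hx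
      rw [h1] at h3
      exact hV₀ker ⟨x, hLM hx⟩ h3
    have hLS : L ≤ stb A M (θ : M → ℂ) :=
      hLM.trans (le_stb_self hMA (isClassFunction_of_isIrrCharacter θ.2))
    obtain ⟨a, ha, haQ⟩ := exists_conj_le hv (stb_le A M _) hLS hoddS
    have haM : a ∈ Subgroup.normalizer (M : Set G) := hnM ha
    have haM' : a⁻¹ ∈ Subgroup.normalizer (M : Set G) := Subgroup.inv_mem _ haM
    have haL' : a⁻¹ ∈ Subgroup.normalizer (L : Set G) := Subgroup.inv_mem _ (hv.hn ha)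
    have hstb : stb A M (θ : M → ℂ) = A ⊓ Subgroup.normalizer (V₀ : Set G) := by
      rw [hθV₀]
      exact stb_sgn hnM hV₀M
    refine ⟨cjS a⁻¹ V₀, le_cjS haL' hLV₀, cjS_le haM' hV₀M, ?_, ?_, ?_⟩
    · rw [relIndex_cjS haM']
      exact hV₀2
    · intro q hq
      rw [mem_normalizer_cjS, inv_inv]
      have := haQ q hq
      rw [hstb] at this
      exact this.2
    · rw [sgn_cjS haM, ov_cj hMA hnM (isClassFunction_of_isIrrCharacter χ.2) _ ha, ← hθV₀]
      exact hθov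

end Cfsg.Agent.Lib.Helper71_ROInvSgn
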