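import Mathlib
import Cfsg.Agent.Lib.Helper71_S2149Defs
import Cfsg.Agent.Lib.Helper20_S2149_FISHER
import Cfsg.Agent.Lib.Helper43_S2149_IDX
import Cfsg.Agent.Lib.Helper43_S2149_F2

/-!
# Helper71_S2149_CORE: the abstract lower bound

helper71.  A finite group `G` acting 2-transitively on at least 50 points, whose point stabiliser
`B` has order 3000 with a normal subgroup `Q = ker χ` of order 125 and cyclic quotient of order 24,
a central subgroup `Z` of `Q` of order 5, `Q` nonabelian, no involution of `B` commuting with an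
element of `Q \ Z`, and such that every transitive subgroup containing `Z` is `G`: every proper
subgroup has index at least 50.  (Fisher's inequality, helper20; index transfer and the Borel
lemma, helper43.)
-/

set_option autoImplicit false

namespace Cfsg.Agent.Lib.Helper71_S2149_CORE

open Cfsg.Agent.Lib.Helper71_S2149Defs

/-- **S2149-CORE** -/
theorem core {G U : Type*} [Group G] [Finite G] [Fintype U] (θ : G →* Equiv.Perm U)
    (h2 : TwoTrans θ) (hU : 50 ≤ Fintype.card U) (u : U)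
    {C : Type*} [Group C] [IsCyclic C] (hC : Nat.card C = 24) (χ : ↥(Stab θ u) →* C)
    (hB : Nat.card ↥(Stab θ u) = 3000) (hQ : Nat.card χ.ker = 125)
    (Z : Subgroup ↥(Stab θ u)) (hZ : Nat.card Z = 5) (hZQ : Z ≤ χ.ker)
    (hZc : ∀ z ∈ Z, ∀ x ∈ χ.ker, z * x = x * z)
    (hna : ∃ x ∈ χ.ker, ∃ y ∈ χ.ker, x * y ≠ y * x)
    (hstar : ∀ t : ↥(Stab θ u), t ≠ 1 → t ^ 2 = 1 → ∀ x ∈ χ.ker, x ∉ Z → t * x ≠ x * t)
    (hroot : ∀ H : Subgroup G, Trans θ H → Z.map (Stab θ u).subtype ≤ H → H = ⊤) :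
    ∀ H : Subgroup G, H ≠ ⊤ → 50 ≤ H.index := by
  intro H hH
  by_contra hlt
  rw [not_le] at hlt
  have htr : Trans θ H :=
    Cfsg.Agent.Lib.Helper20_S2149_FISHER.fisher θ h2 H (lt_of_lt_of_le hlt hU)
  have hidx := Cfsg.Agent.Lib.Helper43_S2149_IDX.index_eq_of_trans θ u H htr
  have hK : (H.subgroupOf (Stab θ u)).index < 50 := by rw [hidx]; exact hlt
  have hZK := Cfsg.Agent.Lib.Helper43_S2149_F2.borel_index hC χ hB hQ Z hZ hZQ hZc hna hstar _ hK
  apply hH
  apply hroot H htr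
  rintro _ ⟨z, hz, rfl⟩
  exact Subgroup.mem_subgroupOf.1 (hZK hz)

end Cfsg.Agent.Lib.Helper71_S2149_CORE
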