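import Mathlib
import Cfsg.Agent.Lib.Helper71_S2149_EXISTData

/-!
# Helper71_S2149_EXIST: a proper subgroup of index at most 50 in `SU(3,5)`

helper71.  `SU(3,5)` (helper91's model) is generated by the three base transvections
(`closure_base`, from helper91's closure certificate and S0780); they permute the 50 point sets of
`Helper71_S2149_EXISTData`, so the stabiliser of the first set has index at most 50; it is proper
since the first base transvection moves the first set.
-/

set_option autoImplicit false

namespace Cfsg.Agent.Lib.Helper71_S2149_EXIST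

open Cfsg.Agent.Lib.Helper91_K25 Cfsg.Agent.Lib.Helper91_U3Pts Cfsg.Agent.Lib.Helper91_U3Theta
  Cfsg.Agent.Lib.Helper91_U3Closure Cfsg.Agent.Lib.Helper71_S2149_EXISTData Matrix
open scoped Pointwise

theorem base_iso : ∀ n ∈ baseCodes, hf (dec n) (dec n) = 0 := by decide +kernel

/-- the set of the three base transvections -/
def baseSet : Set SU3 := {A | ∃ n ∈ baseCodes, ∃ h : hf (dec n) (dec n) = 0, A = T (dec n) h}

/-- `SU(3,5)` is generated by the three base transvections -/
theorem closure_base : Subgroup.closure baseSet = ⊤ := by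
  set K : Subgroup SU3 := Subgroup.closure baseSet with hK
  have hb : ∀ n ∈ baseCodes, ∃ h : hf (dec n) (dec n) = 0, T (dec n) h ∈ K := by
    intro n hn
    exact ⟨base_iso n hn, Subgroup.subset_closure ⟨n, hn, base_iso n hn, rfl⟩⟩
  have hall : ∀ v : V, hf v v = 0 → v ≠ 0 → ∃ h : hf v v = 0, T v h ∈ K := by
    apply all_of_base (fun v => ∃ h : hf v v = 0, T v h ∈ K) hb
    rintro u x ⟨hu, hu'⟩ ⟨hx, hx'⟩
    refine ⟨hf_tv u x hu hx, ?_⟩
    rw [← T_conj u x hu hx]
    exact K.mul_mem (K.mul_mem hu' hx') (K.inv_mem hu')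
  rw [eq_top_iff, ← Cfsg.Agent.S0780.result (F := K25) cardK25 3 (by norm_num) (by norm_num),
    Subgroup.closure_le]
  rintro A ⟨v, c, hv, hA⟩
  show A ∈ K
  by_cases hv0 : v = 0
  · have : A = 1 := by
      apply ext_toM
      show ((A : Matrix.SpecialLinearGroup (Fin 3) K25) : M3) = toM 1
      rw [hA, hv0, map_one]
      unfold Cfsg.unitaryTransvection
      ext i j
      simp
    rw [this]
    exact K.one_mem
  · have hpres := (Cfsg.Agent.S0779.result (F := K25) cardK25 3 v hv0 hv c).mp (by
      intro x y
      rw [← hA]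
      exact A.2 x y)
    rcases hpres with rfl | hc
    · have : A = 1 := by
        apply ext_toM
        show ((A : Matrix.SpecialLinearGroup (Fin 3) K25) : M3) = toM 1
        rw [hA, map_one]
        unfold Cfsg.unitaryTransvection
        simp
      rw [this]
      exact K.one_mem
    · obtain ⟨l, hl, hlc⟩ := scalar_cases c hc
      have hv' : hf v v = 0 := by rw [← hermForm_eq_hf]; exact hv
      have hlv : hf (l • v) (l • v) = 0 := by rw [hf_smul, hv', mul_zero]
      have hlv0 : l • v ≠ 0 := smul_ne_zero hl hv0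
      obtain ⟨h, hmem⟩ := hall (l • v) hlv hlv0
      have : A = T (l • v) h := by
        apply ext_toM
        show ((A : Matrix.SpecialLinearGroup (Fin 3) K25) : M3) = toM (T (l • v) h)
        rw [hA, toM_T, ← hlc]
        unfold Cfsg.unitaryTransvection
        ext i j
        simp only [Matrix.add_apply, Matrix.smul_apply, Matrix.vecMulVec_apply, Pi.smul_apply,
          smul_eq_mul, mul_pow]
        ring
      rw [this]
      exact hmem

/-! ### the action on sets of points -/

/-- the set of points with bit mask `m` -/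
def SS (m : ℕ) : Set (Fin 652) := {p | Nat.testBit m p.val = true}

/-- the family of the 50 sets -/
def Fam : Set (Set (Fin 652)) := (fun i : Fin 50 => SS (famAt i.val)) '' Set.univ

theorem Fam_ncard : Fam.ncard ≤ 50 := by
  unfold Fam
  refine (Set.ncard_image_le (Set.toFinite _)).trans ?_
  simp

/-- a point permutation given by a table maps the family into itself -/
theorem perm_Fam (σ : Equiv.Perm (Fin 652)) (P Tt : ℕ) (hP : ∀ p : Fin 652, (σ p).val = lk P p.val)
    (hc : chkFam P Tt = true) (i : ℕ) (hi : i < 50) :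
    tau Tt i < 50 ∧ σ • SS (famAt i) = SS (famAt (tau Tt i)) := by
  unfold chkFam at hc
  rw [List.all_eq_true] at hc
  have h1 := hc i (List.mem_range.2 hi)
  rw [Bool.and_eq_true, decide_eq_true_eq, List.all_eq_true] at h1
  refine ⟨h1.1, ?_⟩
  ext q
  rw [Set.mem_smul_set_iff_inv_smul_mem]
  have h2 := h1.2 (σ⁻¹ q).val (List.mem_range.2 (σ⁻¹ q).isLt)
  rw [beq_iff_eq, ← hP] at h2
  have h3 : σ (σ⁻¹ q) = q := by simp
  rw [h3] at h2
  show Nat.testBit (famAt i) (σ⁻¹ q).val = true ↔ Nat.testBit (famAt (tau Tt i)) q.val = true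
  rw [h2]

/-- the property of preserving the family -/
def Pres (g : SU3) : Prop := ∀ A ∈ Fam, theta g • A ∈ Fam

theorem pres_one : Pres 1 := by
  intro A hA
  rw [map_one, one_smul]
  exact hA

theorem pres_mul (g h : SU3) (hg : Pres g) (hh : Pres h) : Pres (g * h) := by
  intro A hA
  rw [map_mul, mul_smul]
  exact hg _ (hh A hA)

theorem pres_pow (g : SU3) (hg : Pres g) (k : ℕ) : Pres (g ^ k) := by
  induction k with
  | zero => rw [pow_zero]; exact pres_one
  | succ k ih => rw [pow_succ]; exact pres_mul _ _ ih hg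

theorem pres_inv (g : SU3) (hg : Pres g) : Pres g⁻¹ := by
  have h1 : g⁻¹ = g ^ (orderOf g - 1) := by
    rw [inv_eq_iff_mul_eq_one, ← pow_succ', Nat.sub_add_cancel (orderOf_pos g), pow_orderOf_eq_one]
  rw [h1]
  exact pres_pow g hg _

theorem pres_base_aux (n P Tt : ℕ) (h : hf (dec n) (dec n) = 0)
    (hP : ∀ p : Fin 652, (nrm (tv (dec n) (pt p))).val = lk P p.val) (hc : chkFam P Tt = true) :
    Pres (T (dec n) h) := by
  rintro A ⟨i, -, rfl⟩
  have hP' : ∀ p : Fin 652, (theta (T (dec n) h) p).val = lk P p.val := by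
    intro p
    rw [theta_T]
    exact hP p
  obtain ⟨h1, h2⟩ := perm_Fam (theta (T (dec n) h)) P Tt hP' hc i.val i.isLt
  show theta (T (dec n) h) • SS (famAt i.val) ∈ Fam
  rw [h2]
  exact ⟨⟨_, h1⟩, Set.mem_univ _, rfl⟩

theorem pres_base : ∀ A ∈ baseSet, Pres A := by
  rintro A ⟨n, hn, h, rfl⟩
  simp only [baseCodes, List.mem_cons, List.not_mem_nil, or_false] at hn
  rcases hn with rfl | rfl | rfl
  · exact pres_base_aux _ _ _ h perm0 chk0
  · exact pres_base_aux _ _ _ h perm1 chk1
  · exact pres_base_aux _ _ _ h perm2 chk2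

theorem pres_all (g : SU3) : Pres g := by
  have hg : g ∈ Subgroup.closure baseSet := by rw [closure_base]; exact Subgroup.mem_top g
  induction hg using Subgroup.closure_induction with
  | mem x hx => exact pres_base x hx
  | one => exact pres_one
  | mul x y _ _ hx hy => exact pres_mul x y hx hy
  | inv x _ hx => exact pres_inv x hx

/-- the first set -/
def A0 : Set (Fin 652) := SS (famAt 0)

theorem A0_mem : A0 ∈ Fam := ⟨⟨0, by norm_num⟩, Set.mem_univ _, rfl⟩

/-- the stabiliser of the first set -/
def XX : Subgroup SU3 := (MulAction.stabilizer (Equiv.Perm (Fin 652)) A0).comap theta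

theorem mem_XX (g : SU3) : g ∈ XX ↔ theta g • A0 = A0 := Iff.rfl

set_option maxRecDepth 100000 in
theorem famAt_ne : Nat.testBit (famAt 0) 126 = true ∧ Nat.testBit (famAt 1) 126 = false := by
  decide +kernel

theorem XX_ne_top : XX ≠ ⊤ := by
  intro htop
  have h0 := base_iso 3366 (by simp [baseCodes])
  have hmem : T (dec 3366) h0 ∈ XX := by rw [htop]; exact Subgroup.mem_top _
  rw [mem_XX] at hmem
  have hP' : ∀ p : Fin 652, (theta (T (dec 3366) h0) p).val = lk permTab0 p.val := by
    intro p
    rw [theta_T]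
    exact perm0 p
  obtain ⟨-, h2⟩ := perm_Fam (theta (T (dec 3366) h0)) permTab0 tauTab0 hP' chk0 0 (by norm_num)
  have h3 : tau tauTab0 0 = 1 := by decide +kernel
  rw [h3] at h2
  have h4 : SS (famAt 0) = SS (famAt 1) := by
    rw [← h2]
    exact hmem.symm
  have h5 : (⟨126, by norm_num⟩ : Fin 652) ∈ SS (famAt 0) := famAt_ne.1
  rw [h4] at h5
  have h6 : Nat.testBit (famAt 1) 126 = true := h5
  rw [famAt_ne.2] at h6
  exact Bool.false_ne_true h6

theorem XX_index : XX.index ≤ 50 := by
  -- the map from the cosets of `XX` to the family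
  have hfin : Fam.Finite := by
    unfold Fam
    exact Set.toFinite _
  let f : SU3 ⧸ XX → Fam := Quotient.lift (fun g : SU3 => (⟨theta g • A0, pres_all g A0 A0_mem⟩ : Fam))
    (by
      intro a b hab
      apply Subtype.ext
      show theta a • A0 = theta b • A0
      have h1 : a⁻¹ * b ∈ XX := QuotientGroup.leftRel_apply.1 hab
      rw [mem_XX, map_mul, mul_smul, map_inv, inv_smul_eq_iff] at h1
      exact h1.symm)
  have hinj : Function.Injective f := by
    intro x y
    induction x using QuotientGroup.induction_on with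
    | H a =>
      induction y using QuotientGroup.induction_on with
      | H b =>
        intro hxy
        have h1 : theta a • A0 = theta b • A0 := congrArg Subtype.val hxy
        apply QuotientGroup.eq.2
        rw [mem_XX, map_mul, mul_smul, map_inv, inv_smul_eq_iff]
        exact h1.symm
  have hF : Finite Fam := hfin.to_subtype
  have h1 : Nat.card (SU3 ⧸ XX) ≤ Nat.card Fam := Nat.card_le_card_of_injective f hinj
  rw [Subgroup.index]
  refine h1.trans ?_
  rw [Nat.card_coe_set_eq]
  exact Fam_ncard

/-- **S2149-EXIST** -/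
theorem exists_small_index : ∃ X : Subgroup SU3, X ≠ ⊤ ∧ X.index ≤ 50 :=
  ⟨XX, XX_ne_top, XX_index⟩

end Cfsg.Agent.Lib.Helper71_S2149_EXIST
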