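import Mathlib
import Cfsg.Agent.Lib.Helper71_S2149Defs

/-!
# S2149 package MCHI (`exists_chi`), architect helper71

The Borel subgroup `BB` (stabiliser of the point of `u0`) acts on the line `K25 u0` through a
character `χ : BB →* K25ˣ` whose kernel is `QB`.
-/

set_option autoImplicit false

namespace Cfsg.Agent.Lib.Helper77_S2149_MCHI

open Cfsg.Agent.Lib.Helper91_K25 Cfsg.Agent.Lib.Helper91_U3Pts Cfsg.Agent.Lib.Helper91_U3Theta
  Cfsg.Agent.Lib.Helper71_S2149Defs Matrix

/-- an element of `BB` multiplies `u0` by a nonzero scalar -/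
theorem exists_scalar (g : ↥BB) : ∃ c : K25, c ≠ 0 ∧ toM (g : SU3) *ᵥ u0 = c • u0 := by
  have h : thetaX (g : SU3) 0 = 0 := (mem_BB _).mp g.2
  have h1 : theta (g : SU3) (iota 0) = iota 0 := by rw [← thetaX_spec, h]
  rw [theta_apply] at h1
  obtain ⟨s, hs, hpt⟩ := pt_nrm (toM (g : SU3) *ᵥ pt (iota 0))
  rw [h1] at hpt
  refine ⟨s⁻¹, inv_ne_zero hs, ?_⟩
  show toM (g : SU3) *ᵥ pt (iota 0) = s⁻¹ • pt (iota 0)
  conv_rhs => rw [hpt]
  rw [smul_smul, inv_mul_cancel₀ hs, one_smul]

/-- the scalar by which `g` multiplies `u0` -/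
noncomputable def chiFun (g : ↥BB) : K25ˣ :=
  Units.mk0 (Classical.choose (exists_scalar g)) (Classical.choose_spec (exists_scalar g)).1

theorem chiFun_spec (g : ↥BB) : toM (g : SU3) *ᵥ u0 = ((chiFun g : K25ˣ) : K25) • u0 :=
  (Classical.choose_spec (exists_scalar g)).2

theorem chiFun_unique (g : ↥BB) (c : K25) (h : toM (g : SU3) *ᵥ u0 = c • u0) :
    ((chiFun g : K25ˣ) : K25) = c := by
  have h1 : ((chiFun g : K25ˣ) : K25) • u0 = c • u0 := by rw [← chiFun_spec, h]
  exact smul_left_injective K25 u0_ne h1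

theorem chiFun_mul (g h : ↥BB) : chiFun (g * h) = chiFun g * chiFun h := by
  apply Units.ext
  rw [Units.val_mul]
  apply chiFun_unique
  rw [Subgroup.coe_mul, map_mul, ← Matrix.mulVec_mulVec, chiFun_spec h, Matrix.mulVec_smul,
    chiFun_spec g, smul_smul, mul_comm]

/-- the character -/
noncomputable def chi : ↥BB →* K25ˣ := MonoidHom.mk' chiFun chiFun_mul

theorem chi_apply (g : ↥BB) : chi g = chiFun g := rfl

/-- **S2149-MCHI** -/
theorem exists_chi : ∃ χ : ↥BB →* K25ˣ, χ.ker = QB := by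
  refine ⟨chi, ?_⟩
  ext g
  rw [MonoidHom.mem_ker, chi_apply, mem_QB]
  constructor
  · intro h
    rw [chiFun_spec g, h, Units.val_one, one_smul]
  · intro h
    apply Units.ext
    rw [Units.val_one]
    apply chiFun_unique
    rw [h, one_smul]

end Cfsg.Agent.Lib.Helper77_S2149_MCHI
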