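import Mathlib

/-!
# The field with 25 elements, concretely

helper91.  `K25 = F5[s]/(s^2 - 2)`; the element `a + b s` is coded as `a + 5 b`.
-/

set_option autoImplicit false

namespace Cfsg.Agent.Lib.Helper91_K25

/-- the field with 25 elements, `a + b s` with `s ^ 2 = 2`, coded as `a + 5 b` -/
structure K25 where
  val : Fin 25
  deriving DecidableEq

namespace K25

instance : Fintype K25 := Fintype.ofEquiv (Fin 25) ⟨K25.mk, K25.val, fun _ => rfl, fun _ => rfl⟩

def addT (x y : Fin 25) : Fin 25 :=
  Fin.ofNat 25 ((x.val % 5 + y.val % 5) % 5 + 5 * ((x.val / 5 + y.val / 5) % 5))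

def negT (x : Fin 25) : Fin 25 :=
  Fin.ofNat 25 ((5 - x.val % 5) % 5 + 5 * ((5 - x.val / 5) % 5))

def mulT (x y : Fin 25) : Fin 25 :=
  Fin.ofNat 25 (((x.val % 5) * (y.val % 5) + 2 * (x.val / 5) * (y.val / 5)) % 5
    + 5 * (((x.val % 5) * (y.val / 5) + (x.val / 5) * (y.val % 5)) % 5))

def invT (x : Fin 25) : Fin 25 :=
  Fin.ofNat 25 (28724773381289756334368114694466636832 / 32 ^ x.val % 32)

/-- the field automorphism `a + b s ↦ a - b s` -/
def cjT (x : Fin 25) : Fin 25 := Fin.ofNat 25 (x.val % 5 + 5 * ((5 - x.val / 5) % 5))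

instance : Zero K25 := ⟨⟨0⟩⟩
instance : One K25 := ⟨⟨1⟩⟩
instance : Add K25 := ⟨fun a b => ⟨addT a.val b.val⟩⟩
instance : Mul K25 := ⟨fun a b => ⟨mulT a.val b.val⟩⟩
instance : Neg K25 := ⟨fun a => ⟨negT a.val⟩⟩
instance : Inv K25 := ⟨fun a => ⟨invT a.val⟩⟩

/-- conjugation -/
def cj (a : K25) : K25 := ⟨cjT a.val⟩

theorem add_def (a b : K25) : a + b = ⟨addT a.val b.val⟩ := rfl
theorem mul_def (a b : K25) : a * b = ⟨mulT a.val b.val⟩ := rfl

instance : CommRing K25 where
  add_assoc := by decide +kernel
  zero_add := by decide +kernel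
  add_zero := by decide +kernel
  add_comm := by decide +kernel
  neg_add_cancel := by decide +kernel
  mul_assoc := by decide +kernel
  one_mul := by decide +kernel
  mul_one := by decide +kernel
  left_distrib := by decide +kernel
  right_distrib := by decide +kernel
  mul_comm := by decide +kernel
  zero_mul := by decide +kernel
  mul_zero := by decide +kernel
  nsmul := nsmulRec
  zsmul := zsmulRec

instance : Field K25 where
  exists_pair_ne := ⟨0, 1, by decide⟩
  mul_inv_cancel := by decide +kernel
  inv_zero := by decide +kernel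
  nnqsmul := _
  qsmul := _

theorem card : Fintype.card K25 = 25 := by decide +kernel

theorem pow_five (a : K25) : a ^ 5 = cj a := by
  revert a
  decide +kernel

end K25

end Cfsg.Agent.Lib.Helper91_K25
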