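import Mathlib
import Cfsg.Agent.Lib.Helper91_K25
import Cfsg.Agent.Lib.Helper61_SUTransfer
import Cfsg.Agent.S0280
import Cfsg.Agent.S3335

/-!
# A subgroup of index 50 in `PSU₃(5)` (helper72, for S2149)

Five explicit matrices of `SU(3, K25)` (`K25 = F₅[s]/(s² - 2)` of helper91, identity hermitian
form) satisfy the Carmichael-Moore relations of `A₇` modulo scalars.  With the landed presentation
of `Aₙ` (S3335) this gives an injective homomorphism `A₇ →* PSU 3 K25 5`; its range has order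
`2520`, hence index `126000 / 2520 = 50` (order of `PSU` from S0280).  Transfer to any field with
`25` elements by `Helper61_SUTransfer.psuEquiv`.
-/

set_option autoImplicit false

namespace Cfsg.Agent.Lib.Helper72_U35_A7

open Matrix Cfsg.Agent.Lib.Helper91_K25

/-- `3 × 3` matrices over `K25` -/
abbrev Mat3 : Type := Matrix (Fin 3) (Fin 3) K25

/-- column orthonormality for the form `Σ uᵢ (vᵢ)^5` -/
def ColsOK (M : Mat3) : Prop :=
  ∀ i j : Fin 3, M 0 i * K25.cj (M 0 j) + M 1 i * K25.cj (M 1 j) + M 2 i * K25.cj (M 2 j) =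
    if i = j then 1 else 0

instance (M : Mat3) : Decidable (ColsOK M) := by
  unfold ColsOK; infer_instance

theorem cjj_add : ∀ x y : K25, K25.cj (x + y) = K25.cj x + K25.cj y := by decide +kernel

theorem cjj_mul : ∀ x y : K25, K25.cj (x * y) = K25.cj x * K25.cj y := by decide +kernel

theorem mem_SU_of_colsOK (g : SpecialLinearGroup (Fin 3) K25) (H : ColsOK g.1) :
    g ∈ Cfsg.SU 3 K25 5 := by
  rw [Cfsg.Agent.Lib.Helper61_SUTransfer.mem_SU_iff]
  intro u v
  generalize g.1 = M at H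
  have h00 := H 0 0
  have h01 := H 0 1
  have h02 := H 0 2
  have h10 := H 1 0
  have h11 := H 1 1
  have h12 := H 1 2
  have h20 := H 2 0
  have h21 := H 2 1
  have h22 := H 2 2
  simp only [Fin.isValue, if_true, Fin.reduceEq, if_false] at h00 h01 h02 h10 h11 h12 h20 h21 h22
  unfold Cfsg.hermForm
  simp only [Matrix.mulVec, dotProduct, Fin.sum_univ_three, K25.pow_five, cjj_add, cjj_mul]
  linear_combination (u 0 * K25.cj (v 0)) * h00 + (u 0 * K25.cj (v 1)) * h01 +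
    (u 0 * K25.cj (v 2)) * h02 + (u 1 * K25.cj (v 0)) * h10 + (u 1 * K25.cj (v 1)) * h11 +
    (u 1 * K25.cj (v 2)) * h12 + (u 2 * K25.cj (v 0)) * h20 + (u 2 * K25.cj (v 1)) * h21 +
    (u 2 * K25.cj (v 2)) * h22

/-- the determinant of a `3 × 3` matrix, written out -/
def dt3 (M : Mat3) : K25 :=
  M 0 0 * M 1 1 * M 2 2 - M 0 0 * M 1 2 * M 2 1 - M 0 1 * M 1 0 * M 2 2 + M 0 1 * M 1 2 * M 2 0 +
    M 0 2 * M 1 0 * M 2 1 - M 0 2 * M 1 1 * M 2 0

theorem dt3_eq (M : Mat3) : M.det = dt3 M := Matrix.det_fin_three M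

/-! ### the five matrices -/

def y0 : Mat3 := !![⟨2⟩, ⟨2⟩, ⟨19⟩; ⟨3⟩, ⟨3⟩, ⟨19⟩; ⟨16⟩, ⟨14⟩, ⟨0⟩]
def y1 : Mat3 := !![⟨4⟩, ⟨0⟩, ⟨0⟩; ⟨0⟩, ⟨4⟩, ⟨0⟩; ⟨0⟩, ⟨0⟩, ⟨1⟩]
def y2 : Mat3 := !![⟨4⟩, ⟨0⟩, ⟨0⟩; ⟨0⟩, ⟨3⟩, ⟨8⟩; ⟨0⟩, ⟨23⟩, ⟨2⟩]
def y3 : Mat3 := !![⟨2⟩, ⟨10⟩, ⟨0⟩; ⟨15⟩, ⟨3⟩, ⟨0⟩; ⟨0⟩, ⟨0⟩, ⟨4⟩]
def y4 : Mat3 := !![⟨1⟩, ⟨0⟩, ⟨0⟩; ⟨0⟩, ⟨4⟩, ⟨0⟩; ⟨0⟩, ⟨0⟩, ⟨4⟩]

/-- the five matrices, indexed by `Fin 5` -/
def mats : Fin 5 → Mat3 := ![y0, y1, y2, y3, y4]

theorem mats_facts : ∀ i : Fin 5, dt3 (mats i) = 1 ∧ ColsOK (mats i) := by decide +kernel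

/-- a matrix is scalar -/
def IsScal (M : Mat3) : Prop :=
  M 0 1 = 0 ∧ M 0 2 = 0 ∧ M 1 0 = 0 ∧ M 1 2 = 0 ∧ M 2 0 = 0 ∧ M 2 1 = 0 ∧
    M 0 0 = M 1 1 ∧ M 1 1 = M 2 2

instance (M : Mat3) : Decidable (IsScal M) := by
  unfold IsScal; infer_instance

theorem mats_rel1 : ∀ i : Fin 5, i.val = 0 → IsScal (mats i ^ 3) := by decide +kernel
theorem mats_rel2 : ∀ i : Fin 5, 1 ≤ i.val → IsScal (mats i ^ 2) := by decide +kernel
theorem mats_rel3 : ∀ i j : Fin 5, j.val = i.val + 1 → IsScal ((mats i * mats j) ^ 3) := by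
  decide +kernel
theorem mats_rel4 : ∀ i j : Fin 5, i.val + 1 < j.val → IsScal ((mats i * mats j) ^ 2) := by
  decide +kernel
theorem mats_noncomm : mats 0 * mats 1 ≠ mats 1 * mats 0 := by decide +kernel

/-! ### the elements of `SU(3,5)` and `PSU(3,5)` -/

/-- the special unitary group over `K25` -/
abbrev SU35 : Type := ↥(Cfsg.SU 3 K25 5)

/-- the matrix of an element -/
def toMat (x : SU35) : Mat3 := x.1.1

theorem toMat_mul (x y : SU35) : toMat (x * y) = toMat x * toMat y := rfl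

theorem toMat_one : toMat (1 : SU35) = 1 := rfl

theorem toMat_pow (x : SU35) (n : ℕ) : toMat (x ^ n) = toMat x ^ n := by
  induction n with
  | zero => simp [toMat_one]
  | succ n ih => rw [pow_succ, pow_succ, toMat_mul, ih]

theorem toMat_injective : Function.Injective toMat := by
  intro x y h
  apply Subtype.ext
  apply Subtype.ext
  exact h

theorem eq_smul_one_of_isScal {M : Mat3} (h : IsScal M) : M = M 0 0 • (1 : Mat3) := by
  obtain ⟨h01, h02, h10, h12, h20, h21, h0011, h1122⟩ := h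
  ext i j
  fin_cases i <;> fin_cases j <;>
    simp [h01, h02, h10, h12, h20, h21, ← h1122, ← h0011]

/-- scalar matrices are central -/
theorem mem_center_of_isScal (x : SU35) (h : IsScal (toMat x)) :
    x ∈ Subgroup.center SU35 := by
  rw [Subgroup.mem_center_iff]
  intro y
  apply toMat_injective
  rw [toMat_mul, toMat_mul, eq_smul_one_of_isScal h]
  rw [Matrix.mul_smul, Matrix.smul_mul, Matrix.mul_one, Matrix.one_mul]

/-- the five elements of `SU(3,5)` -/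
def sg (i : Fin 5) : SU35 :=
  ⟨⟨mats i, by rw [dt3_eq]; exact (mats_facts i).1⟩, mem_SU_of_colsOK _ (mats_facts i).2⟩

theorem toMat_sg (i : Fin 5) : toMat (sg i) = mats i := rfl

/-- the five elements of `PSU(3,5)` -/
def gen (i : Fin 5) : Cfsg.PSU 3 K25 5 := QuotientGroup.mk (sg i)

theorem mk_eq_one_of_isScal (x : SU35) (h : IsScal (toMat x)) :
    (QuotientGroup.mk x : Cfsg.PSU 3 K25 5) = 1 :=
  (QuotientGroup.eq_one_iff x).mpr (mem_center_of_isScal x h)

theorem gen_rel : ∀ r ∈ Cfsg.Agent.S3335.rels 5, FreeGroup.lift gen r = 1 := by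
  intro r hr
  simp only [Cfsg.Agent.S3335.rels, Set.mem_union, Set.mem_ofPred_eq] at hr
  rcases hr with ((⟨i, hi, rfl⟩ | ⟨i, hi, rfl⟩) | ⟨i, j, hij, rfl⟩) | ⟨i, j, hij, rfl⟩
  · simp only [map_pow, FreeGroup.lift_apply_of]
    show (QuotientGroup.mk (sg i) : Cfsg.PSU 3 K25 5) ^ 3 = 1
    rw [← QuotientGroup.mk_pow]
    apply mk_eq_one_of_isScal
    rw [toMat_pow, toMat_sg]
    exact mats_rel1 i hi
  · simp only [map_pow, FreeGroup.lift_apply_of]
    show (QuotientGroup.mk (sg i) : Cfsg.PSU 3 K25 5) ^ 2 = 1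
    rw [← QuotientGroup.mk_pow]
    apply mk_eq_one_of_isScal
    rw [toMat_pow, toMat_sg]
    exact mats_rel2 i hi
  · simp only [map_pow, map_mul, FreeGroup.lift_apply_of]
    show ((QuotientGroup.mk (sg i) : Cfsg.PSU 3 K25 5) * QuotientGroup.mk (sg j)) ^ 3 = 1
    rw [← QuotientGroup.mk_mul, ← QuotientGroup.mk_pow]
    apply mk_eq_one_of_isScal
    rw [toMat_pow, toMat_mul, toMat_sg, toMat_sg]
    exact mats_rel3 i j hij
  · simp only [map_pow, map_mul, FreeGroup.lift_apply_of]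
    show ((QuotientGroup.mk (sg i) : Cfsg.PSU 3 K25 5) * QuotientGroup.mk (sg j)) ^ 2 = 1
    rw [← QuotientGroup.mk_mul, ← QuotientGroup.mk_pow]
    apply mk_eq_one_of_isScal
    rw [toMat_pow, toMat_mul, toMat_sg, toMat_sg]
    exact mats_rel4 i j hij

theorem gen_zero_ne_one : gen 0 ≠ 1 := by
  intro h
  have hc : sg 0 ∈ Subgroup.center SU35 := (QuotientGroup.eq_one_iff (sg 0)).mp h
  rw [Subgroup.mem_center_iff] at hc
  have h1 := congrArg toMat (hc (sg 1))
  rw [toMat_mul, toMat_mul, toMat_sg, toMat_sg] at h1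
  exact mats_noncomm h1.symm

/-- the homomorphism from the presented group -/
noncomputable def presHom : Cfsg.Agent.S3335.G 5 →* Cfsg.PSU 3 K25 5 :=
  PresentedGroup.toGroup gen_rel

theorem presHom_of (i : Fin 5) : presHom (PresentedGroup.of i) = gen i :=
  PresentedGroup.toGroup.of gen_rel

/-- an injective homomorphism `A₇ → PSU₃(5)` -/
theorem exists_injective_hom :
    ∃ φ : alternatingGroup (Fin 7) →* Cfsg.PSU 3 K25 5, Function.Injective φ := by
  obtain ⟨e⟩ := Cfsg.Agent.S3335.main 4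
  let e' : Cfsg.Agent.S3335.G 5 ≃* alternatingGroup (Fin 7) := e
  let φ : alternatingGroup (Fin 7) →* Cfsg.PSU 3 K25 5 := presHom.comp e'.symm.toMonoidHom
  refine ⟨φ, ?_⟩
  have hs : IsSimpleGroup (alternatingGroup (Fin 7)) :=
    alternatingGroup.isSimpleGroup (by simp)
  rw [← MonoidHom.ker_eq_bot_iff]
  rcases (MonoidHom.normal_ker φ).eq_bot_or_eq_top with h | h
  · exact h
  · exfalso
    have h1 : e' (PresentedGroup.of 0) ∈ φ.ker := by rw [h]; trivial
    rw [MonoidHom.mem_ker] at h1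
    have h2 : φ (e' (PresentedGroup.of 0)) = gen 0 := by
      simp [φ, presHom_of]
    rw [h2] at h1
    exact gen_zero_ne_one h1

theorem card_K25_sq : Fintype.card K25 = 5 ^ 2 := by rw [K25.card]; norm_num

theorem card_PSU35 : Nat.card (Cfsg.PSU 3 K25 5) = 126000 := by
  have h := Cfsg.Agent.S0280.result (F := K25) card_K25_sq 3 (by norm_num)
  have hg : Nat.gcd 3 (5 + 1) = 3 := by decide
  rw [hg] at h
  have hp : ∏ i ∈ Finset.range 3, (if Even i then 5 ^ (i + 1) + 1 else 5 ^ (i + 1) - 1) =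
      6 * 24 * 126 := by
    simp only [Finset.prod_range_succ, Finset.prod_range_zero]
    norm_num [Nat.even_iff]
  rw [hp] at h
  have h2 : 3 * ((5 + 1) * Nat.card (Cfsg.PSU 3 K25 5)) = 3 * ((5 + 1) * 126000) := by
    rw [h]; norm_num
  exact Nat.eq_of_mul_eq_mul_left (by norm_num) (Nat.eq_of_mul_eq_mul_left (by norm_num) h2)

/-- a subgroup of index `50` in `PSU 3 K25 5` isomorphic to `A₇` -/
theorem exists_index_fifty_K25 :
    ∃ H : Subgroup (Cfsg.PSU 3 K25 5), H.index = 50 ∧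
      Nonempty (alternatingGroup (Fin 7) ≃* H) := by
  obtain ⟨φ, hφ⟩ := exists_injective_hom
  refine ⟨φ.range, ?_, ⟨MonoidHom.ofInjective hφ⟩⟩
  have hfin : Finite (Cfsg.PSU 3 K25 5) :=
    Nat.finite_of_card_ne_zero (by rw [card_PSU35]; norm_num)
  have hcard : Nat.card φ.range = 2520 := by
    rw [← Nat.card_congr (MonoidHom.ofInjective hφ).toEquiv]
    have h1 : Nat.card (alternatingGroup (Fin 7)) = 2520 := by
      rw [Nat.card_eq_fintype_card]
      have h2 := two_mul_card_alternatingGroup (α := Fin 7)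
      have h3 : Fintype.card (Equiv.Perm (Fin 7)) = 5040 := by
        rw [Fintype.card_perm, Fintype.card_fin]; rfl
      omega
    exact h1
  have h := Subgroup.card_mul_index φ.range
  rw [hcard, card_PSU35] at h
  omega

/-- **S2149, existence half**: `PSU₃(5)` over any field with `25` elements has a subgroup of
index `50` (isomorphic to `A₇`). -/
theorem exists_index_fifty {F : Type*} [Field F] [Fintype F] (hF : Fintype.card F = 25) :
    ∃ H : Subgroup (Cfsg.PSU 3 F 5), H.index = 50 := by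
  obtain ⟨H, hH, -⟩ := exists_index_fifty_K25
  have e3 : K25 ≃+* F := FiniteField.ringEquivOfCardEq (by rw [K25.card, hF])
  let ψ : Cfsg.PSU 3 K25 5 ≃* Cfsg.PSU 3 F 5 := Cfsg.Agent.Lib.Helper61_SUTransfer.psuEquiv e3
  refine ⟨H.map ψ.toMonoidHom, ?_⟩
  rw [← hH]
  exact Subgroup.index_map_equiv H ψ

end Cfsg.Agent.Lib.Helper72_U35_A7
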