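import Mathlib
import Cfsg.Agent.Lib.Helper71_S2149Defs
import Cfsg.Agent.Lib.Helper72_U35_A7

/-!
# S2149 package MZ (`ZB_facts`), architect helper71

The root group `ZB = ⟨t0⟩` of the point of `u0`: it lies in `QB`, has order `5`, is central in `QB`,
and `QB` is not abelian (two explicit matrices).
-/

set_option autoImplicit false

namespace Cfsg.Agent.Lib.Helper77_S2149_MZ

open Cfsg.Agent.Lib.Helper91_K25 Cfsg.Agent.Lib.Helper91_U3Pts Cfsg.Agent.Lib.Helper91_U3Theta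
  Cfsg.Agent.Lib.Helper71_S2149Defs Matrix

/-! ### the form -/

theorem hf_add_left (x y v : V) : hf (x + y) v = hf x v + hf y v := by
  unfold hf
  simp only [Pi.add_apply]
  ring

theorem hf_smul_left (c : K25) (x v : V) : hf (c • x) v = c * hf x v := by
  unfold hf
  simp only [Pi.smul_apply, smul_eq_mul]
  ring

/-! ### elements fixing `u0` -/

/-- an element of `SU3` fixing the vector `u0` lies in `BB` -/
theorem mem_BB_of_fix (g : SU3) (h : toM g *ᵥ u0 = u0) : g ∈ BB := by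
  rw [mem_BB]
  apply iota_injective
  rw [thetaX_spec, theta_apply]
  show nrm (toM g *ᵥ u0) = iota 0
  rw [h]
  exact nrm_pt _

theorem t0_fix : toM t0 *ᵥ u0 = u0 := by
  show toM (T u0 hu0) *ᵥ u0 = u0
  rw [T_mulVec]
  show u0 + (c0 * hf u0 u0) • u0 = u0
  rw [hu0, mul_zero, zero_smul, add_zero]

/-- an element fixing `u0` commutes with `t0` -/
theorem commute_t0 (g : SU3) (h : toM g *ᵥ u0 = u0) : g * t0 = t0 * g := by
  apply ext_toM
  apply Matrix.mulVec_injective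
  funext y
  show toM (g * t0) *ᵥ y = toM (t0 * g) *ᵥ y
  rw [map_mul, map_mul, ← Matrix.mulVec_mulVec, ← Matrix.mulVec_mulVec]
  show toM g *ᵥ (toM (T u0 hu0) *ᵥ y) = toM (T u0 hu0) *ᵥ (toM g *ᵥ y)
  rw [T_mulVec, T_mulVec]
  show toM g *ᵥ (y + (c0 * hf y u0) • u0) = toM g *ᵥ y + (c0 * hf (toM g *ᵥ y) u0) • u0
  rw [Matrix.mulVec_add, Matrix.mulVec_smul, h]
  have h1 : hf (toM g *ᵥ y) u0 = hf y u0 := by
    conv_lhs => rw [← h]
    exact toM_preserves g y u0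
  rw [h1]

/-! ### the order of `t0` -/

theorem tv_iter (k : ℕ) (y : V) :
    (toM t0 ^ k) *ᵥ y = y + ((k : K25) * (c0 * hf y u0)) • u0 := by
  induction k with
  | zero => simp
  | succ k ih =>
    rw [pow_succ', ← Matrix.mulVec_mulVec, ih]
    show toM (T u0 hu0) *ᵥ _ = _
    rw [T_mulVec]
    show (y + ((k : K25) * (c0 * hf y u0)) • u0) +
      (c0 * hf (y + ((k : K25) * (c0 * hf y u0)) • u0) u0) • u0 = _
    rw [hf_add_left, hf_smul_left, hu0, mul_zero, add_zero, add_assoc, ← add_smul]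
    congr 2
    push_cast
    ring

theorem five_eq_zero : ((5 : ℕ) : K25) = 0 := by decide +kernel

theorem t0_pow_five : t0 ^ 5 = 1 := by
  apply ext_toM
  apply Matrix.mulVec_injective
  funext y
  rw [map_pow, map_one, tv_iter, five_eq_zero, zero_mul, zero_smul, add_zero, Matrix.one_mulVec]

theorem u0_eq : u0 = ![1, ⟨2⟩, 0] := by decide +kernel

theorem t0_ne_one : t0 ≠ 1 := by
  intro h
  have h1 : toM t0 *ᵥ ![0, 0, 1] = ![0, 0, 1] := by rw [h, map_one, Matrix.one_mulVec]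
  have h2 : toM t0 *ᵥ ![1, 0, 0] = ![1, 0, 0] := by rw [h, map_one, Matrix.one_mulVec]
  revert h2
  show toM (T u0 hu0) *ᵥ ![1, 0, 0] = ![1, 0, 0] → False
  rw [T_mulVec, u0_eq]
  decide +kernel

/-! ### two non-commuting elements of `QB` -/

open Cfsg.Agent.Lib.Helper72_U35_A7 in
/-- first matrix -/
def mX : Mat3 := !![⟨3⟩, ⟨4⟩, ⟨1⟩; ⟨4⟩, ⟨4⟩, ⟨2⟩; ⟨4⟩, ⟨3⟩, ⟨1⟩]

open Cfsg.Agent.Lib.Helper72_U35_A7 in
/-- second matrix -/
def mY : Mat3 := !![⟨12⟩, ⟨22⟩, ⟨20⟩; ⟨22⟩, ⟨15⟩, ⟨15⟩; ⟨20⟩, ⟨15⟩, ⟨1⟩]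

open Cfsg.Agent.Lib.Helper72_U35_A7 in
theorem mX_facts : dt3 mX = 1 ∧ ColsOK mX ∧ mX *ᵥ ![1, ⟨2⟩, 0] = ![1, ⟨2⟩, 0] := by decide +kernel

open Cfsg.Agent.Lib.Helper72_U35_A7 in
theorem mY_facts : dt3 mY = 1 ∧ ColsOK mY ∧ mY *ᵥ ![1, ⟨2⟩, 0] = ![1, ⟨2⟩, 0] := by decide +kernel

theorem mXY_noncomm : mX * mY ≠ mY * mX := by decide +kernel

open Cfsg.Agent.Lib.Helper72_U35_A7 in
/-- the first element -/
def gX : SU3 := ⟨⟨mX, by rw [dt3_eq]; exact mX_facts.1⟩, mem_SU_of_colsOK _ mX_facts.2.1⟩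

open Cfsg.Agent.Lib.Helper72_U35_A7 in
/-- the second element -/
def gY : SU3 := ⟨⟨mY, by rw [dt3_eq]; exact mY_facts.1⟩, mem_SU_of_colsOK _ mY_facts.2.1⟩

theorem toM_gX : toM gX = mX := rfl

theorem toM_gY : toM gY = mY := rfl

theorem gX_fix : toM gX *ᵥ u0 = u0 := by rw [toM_gX, u0_eq]; exact mX_facts.2.2

theorem gY_fix : toM gY *ᵥ u0 = u0 := by rw [toM_gY, u0_eq]; exact mY_facts.2.2

/-- **S2149-MZ** -/
theorem ZB_facts : ZB ≤ QB ∧ Nat.card ↥ZB = 5 ∧ (∀ z ∈ ZB, ∀ x ∈ QB, z * x = x * z) ∧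
    (∃ x ∈ QB, ∃ y ∈ QB, x * y ≠ y * x) := by
  refine ⟨?_, ?_, ?_, ?_⟩
  · unfold ZB
    rw [Subgroup.zpowers_le, mem_QB]
    exact t0_fix
  · unfold ZB
    rw [Nat.card_zpowers]
    haveI : Fact (Nat.Prime 5) := ⟨by norm_num⟩
    apply orderOf_eq_prime
    · apply Subtype.ext
      rw [Subgroup.coe_pow, Subgroup.coe_one]
      exact t0_pow_five
    · intro h
      exact t0_ne_one (congrArg Subtype.val h)
  · intro z hz x hx
    unfold ZB at hz
    obtain ⟨k, rfl⟩ := Subgroup.mem_zpowers_iff.mp hz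
    have hc : Commute x (⟨t0, t0_mem⟩ : ↥BB) := by
      apply Subtype.ext
      rw [Subgroup.coe_mul, Subgroup.coe_mul]
      exact commute_t0 (x : SU3) ((mem_QB x).mp hx)
    exact ((hc.zpow_right k).eq).symm
  · refine ⟨⟨gX, mem_BB_of_fix gX gX_fix⟩, (mem_QB _).mpr gX_fix,
      ⟨gY, mem_BB_of_fix gY gY_fix⟩, (mem_QB _).mpr gY_fix, ?_⟩
    intro h
    have h1 : gX * gY = gY * gX := congrArg Subtype.val h
    have h2 : toM (gX * gY) = toM (gY * gX) := by rw [h1]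
    rw [map_mul, map_mul, toM_gX, toM_gY] at h2
    exact mXY_noncomm h2

end Cfsg.Agent.Lib.Helper77_S2149_MZ
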