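import Mathlib
import Cfsg.Agent.Lib.Helper71_S2149_CORE
import Cfsg.Agent.Lib.Helper59_S2149_ROOT
import Cfsg.Agent.Lib.Helper59_S2149_MCARDB
import Cfsg.Agent.Lib.Helper77_S2149_MCHI
import Cfsg.Agent.Lib.Helper69_S2149_MCARDQ
import Cfsg.Agent.Lib.Helper77_S2149_MZ
import Cfsg.Agent.Lib.Helper61_SUTransfer

/-!
# Helper71_S2149_LOWER: every proper subgroup of `SU(3,5)` / `PSU(3,5)` has index at least 50

helper71.  Instantiation of the abstract core (`Helper71_S2149_CORE.core`) in helper91's model of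
`SU(3,5)` with the model facts of helper59 (ROOT, MCARDB), helper77 (MCHI, MZ), helper69 (MCARDQ);
2-transitivity and the involution condition enter as hypotheses; then the passage to `PSU(3,5)` and
to an arbitrary field with 25 elements.
-/

set_option autoImplicit false

namespace Cfsg.Agent.Lib.Helper71_S2149_LOWER

open Cfsg.Agent.Lib.Helper91_K25 Cfsg.Agent.Lib.Helper91_U3Pts Cfsg.Agent.Lib.Helper91_U3Theta
  Cfsg.Agent.Lib.Helper71_S2149Defs Matrix

/-- **S2149-LOWER**, from 2-transitivity and the involution condition -/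
theorem lower_SU3_of (h2 : TwoTrans thetaX)
    (hstar : ∀ t : ↥BB, t ≠ 1 → t ^ 2 = 1 → ∀ x ∈ QB, x ∉ ZB → t * x ≠ x * t) :
    ∀ H : Subgroup SU3, H ≠ ⊤ → 50 ≤ H.index := by
  obtain ⟨χ, hχ⟩ := Cfsg.Agent.Lib.Helper77_S2149_MCHI.exists_chi
  have hC : Nat.card K25ˣ = 24 := by
    rw [Nat.card_eq_fintype_card, Fintype.card_units, K25.card]
  obtain ⟨hZQ, hZ, hZc, hna⟩ := Cfsg.Agent.Lib.Helper77_S2149_MZ.ZB_facts
  refine Cfsg.Agent.Lib.Helper71_S2149_CORE.core thetaX h2 (by simp) 0 hC χ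
    Cfsg.Agent.Lib.Helper59_S2149_MCARDB.card_BB
    (by rw [hχ]; exact Cfsg.Agent.Lib.Helper69_S2149_MCARDQ.card_QB) ZB hZ
    (by rw [hχ]; exact hZQ) (by rw [hχ]; exact hZc) (by rw [hχ]; exact hna)
    (by rw [hχ]; exact hstar) ?_
  intro H htr hZH
  apply Cfsg.Agent.Lib.Helper59_S2149_ROOT.root_generates H htr
  apply hZH
  exact ⟨⟨t0, t0_mem⟩, Subgroup.mem_zpowers _, rfl⟩

open Cfsg.Agent.Lib.Helper61_SUTransfer in
/-- the lower bound for `PSU(3,5)` over any field with 25 elements -/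
theorem lower_PSU_of (h2 : TwoTrans thetaX)
    (hstar : ∀ t : ↥BB, t ≠ 1 → t ^ 2 = 1 → ∀ x ∈ QB, x ∉ ZB → t * x ≠ x * t)
    {F : Type*} [Field F] [Fintype F] (hF : Fintype.card F = 25) :
    ∀ H : Subgroup (Cfsg.PSU 3 F 5), H ≠ ⊤ → 50 ≤ H.index := by
  intro H hH
  have e : F ≃+* K25 := FiniteField.ringEquivOfCardEq (by rw [hF, K25.card])
  let E : Cfsg.PSU 3 F 5 ≃* Cfsg.PSU 3 K25 5 := psuEquiv e
  let π : SU3 →* Cfsg.PSU 3 K25 5 := QuotientGroup.mk' (Subgroup.center SU3)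
  have hπ : Function.Surjective π := QuotientGroup.mk'_surjective _
  let H1 : Subgroup (Cfsg.PSU 3 K25 5) := H.map E.toMonoidHom
  have h1 : H1.index = H.index := Subgroup.index_map_equiv H E
  have h1' : H1 ≠ ⊤ := by
    intro htop
    apply hH
    have : H1.comap E.toMonoidHom = H := Subgroup.comap_map_eq_self_of_injective E.injective H
    rw [← this, htop, Subgroup.comap_top]
  let H2 : Subgroup SU3 := H1.comap π
  have h2i : H2.index = H1.index := Subgroup.index_comap_of_surjective H1 hπ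
  have h2' : H2 ≠ ⊤ := by
    intro htop
    apply h1'
    have : H2.map π = H1 := Subgroup.map_comap_eq_self_of_surjective hπ H1
    rw [← this, htop, ← MonoidHom.range_eq_map, MonoidHom.range_eq_top.2 hπ]
  rw [← h1, ← h2i]
  exact lower_SU3_of h2 hstar H2 h2'

end Cfsg.Agent.Lib.Helper71_S2149_LOWER
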