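import Mathlib
import Cfsg.Agent.Lib.Helper59_S2149_MCARDB
import Cfsg.Agent.Lib.Helper69_S2149_MCARDQ

/-!
# Helper71_S2149_M2TL: 2-transitivity of `SU(3,5)` on the 126 isotropic points (light imports)

helper71.  From helper59's `trans0` (transitivity) and helper69's free action of `QB` on the points
`≠ 0` together with `|QB| = 125`: `QB` is transitive on the other 125 points.  Same argument as
helper91's `Helper91_U3Trans.two_trans`, without the heavy import chain.
-/

set_option autoImplicit false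

namespace Cfsg.Agent.Lib.Helper71_S2149_M2TL

open Cfsg.Agent.Lib.Helper91_K25 Cfsg.Agent.Lib.Helper91_U3Pts Cfsg.Agent.Lib.Helper91_U3Theta
  Cfsg.Agent.Lib.Helper71_S2149Defs Cfsg.Agent.Lib.Helper69_S2149_MCARDQ Matrix

theorem stab0 (j : Fin 126) (hj : j ≠ 0) : ∃ A : SU3, thetaX A 0 = 0 ∧ thetaX A 1 = j := by
  let f : ↥QB → {j : Fin 126 // j ≠ 0} := fun g => ⟨ev g, ev_ne_zero g⟩
  have hf : Function.Injective f := by
    intro a b hab
    exact ev_injective (congrArg Subtype.val hab)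
  have hc : Nat.card {j : Fin 126 // j ≠ 0} = 125 := by
    rw [Nat.card_eq_fintype_card, Fintype.card_subtype_compl, Fintype.card_fin]
    simp
  have hb : Function.Bijective f :=
    hf.bijective_of_nat_card_le (by rw [hc, card_QB])
  obtain ⟨g, hg⟩ := hb.2 ⟨j, hj⟩
  refine ⟨((g : ↥BB) : SU3), (g : ↥BB).2, ?_⟩
  exact congrArg Subtype.val hg

theorem perm_apply_inv (f : Equiv.Perm (Fin 126)) (x : Fin 126) : f (f⁻¹ x) = x :=
  f.apply_symm_apply x

theorem perm_inv_apply (f : Equiv.Perm (Fin 126)) (x : Fin 126) : f⁻¹ (f x) = x :=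
  f.symm_apply_apply x

/-- `SU(3,5)` is 2-transitive on the 126 isotropic points -/
theorem two_trans : TwoTrans thetaX := by
  have aux : ∀ a b : Fin 126, a ≠ b → ∃ A : SU3, thetaX A 0 = a ∧ thetaX A 1 = b := by
    intro a b hab
    obtain ⟨A, hA⟩ := Cfsg.Agent.Lib.Helper59_S2149_MCARDB.trans0 a
    have hb : (thetaX A)⁻¹ b ≠ 0 := by
      intro h
      apply hab
      rw [← hA, ← h, perm_apply_inv]
    obtain ⟨B, hB0, hB1⟩ := stab0 _ hb
    refine ⟨A * B, ?_, ?_⟩
    · rw [map_mul, Equiv.Perm.mul_apply, hB0, hA]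
    · rw [map_mul, Equiv.Perm.mul_apply, hB1, perm_apply_inv]
  intro i j k l hij hkl
  obtain ⟨A, hA0, hA1⟩ := aux i j hij
  obtain ⟨B, hB0, hB1⟩ := aux k l hkl
  refine ⟨B * A⁻¹, ?_, ?_⟩
  · rw [map_mul, map_inv, Equiv.Perm.mul_apply, ← hA0, perm_inv_apply, hB0]
  · rw [map_mul, map_inv, Equiv.Perm.mul_apply, ← hA1, perm_inv_apply, hB1]

end Cfsg.Agent.Lib.Helper71_S2149_M2TL
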