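import Mathlib
import Cfsg.Prelude.Def_FusionSystem
import Cfsg.Prelude.Def_KGroupFacts
import Cfsg.Agent.Lib.Helper85_GroupFusion

/-!
# S2647 package GENAUT (architect helper76): a self-normalizing subgroup `S` has `Aut_{F_S(G)}(S) = Inn(S)`.
-/

set_option autoImplicit false

namespace Cfsg.Agent.Lib.Helper71_S2647_GENAUT

theorem genaut {G : Type*} [Group G] (S : Subgroup G)
    (hN : ∀ n : G, (∀ s ∈ S, n * s * n⁻¹ ∈ S) → n ∈ S) :
    (Cfsg.groupFusionSystem S).autGroup S = Cfsg.Inn ↥S := by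
  ext α
  rw [Cfsg.Agent.Lib.Helper85_GroupFusion.group_mem_autGroup_iff (le_refl S) α]
  constructor
  · rintro ⟨g, hg⟩
    have hgS : g ∈ S := by
      apply hN
      intro s hs
      have h := hg ⟨s, hs⟩
      rw [← h]
      exact (α ⟨s, hs⟩).2
    refine ⟨⟨g, hgS⟩, ?_⟩
    ext x
    rw [hg x]
    rfl
  · rintro ⟨s, rfl⟩
    exact ⟨(s : G), fun x => rfl⟩

end Cfsg.Agent.Lib.Helper71_S2647_GENAUT
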