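import Mathlib
import Cfsg.Agent.Lib.Helper71_S3Wt
import Cfsg.Agent.Lib.Helper71_S3LinA
import Cfsg.Agent.Lib.Helper71_S3LinB
import Cfsg.Agent.Lib.Helper71_HHB
import Cfsg.Agent.Lib.Helper71_HHBInd
import Cfsg.Agent.Lib.Helper63_S3T2

set_option autoImplicit false

namespace Cfsg.Agent.Lib.Helper71_S3LinC

open Cfsg.Agent.Lib.Helper71_S3Wt Cfsg.Agent.Lib.Helper71_S3LinA Cfsg.Agent.Lib.Helper71_S3LinB
  Cfsg.Agent.Lib.Helper71_HHB

variable {𝔽 : Type*} [Field 𝔽] {W : Type*} [AddCommGroup W] [Module 𝔽 W]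

section blocks

variable {K Z : Subgroup (W ≃ₗ[𝔽] W)} {α : Equiv.Perm (Fin 3) →* (W ≃ₗ[𝔽] W)}

/-- the block of a weight: the sum of the weight spaces over its `K`-orbit -/
def block (K Z : Subgroup (W ≃ₗ[𝔽] W))
    (hKZ : K ≤ Subgroup.normalizer (Z : Set (W ≃ₗ[𝔽] W))) (χ : Z → 𝔽) : Submodule 𝔽 W :=
  blk Z (orb Z K hKZ χ)

theorem map_block (H : Hyp K α) (hKZ : K ≤ Subgroup.normalizer (Z : Set (W ≃ₗ[𝔽] W)))
    (hAZ : ∀ a, α a ∈ Subgroup.normalizer (Z : Set (W ≃ₗ[𝔽] W))) (a : Equiv.Perm (Fin 3))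
    (χ : Z → 𝔽) :
    (block K Z hKZ χ).map ((α a : W ≃ₗ[𝔽] W) : W →ₗ[𝔽] W) =
      block K Z hKZ (tw Z (α a) (hAZ a) χ) := by
  unfold block
  rw [map_blk Z (α a) (hAZ a), tw_image_orb Z K hKZ (α a) (hAZ a) (H.norm a)]

theorem map_block_of_mem (hKZ : K ≤ Subgroup.normalizer (Z : Set (W ≃ₗ[𝔽] W)))
    {k : W ≃ₗ[𝔽] W} (hk : k ∈ K) (χ : Z → 𝔽) :
    (block K Z hKZ χ).map ((k : W ≃ₗ[𝔽] W) : W →ₗ[𝔽] W) = block K Z hKZ χ := by
  unfold block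
  rw [map_blk Z k (hKZ hk), tw_image_orb_of_mem Z K hKZ hk]

theorem apply_mem_block (hKZ : K ≤ Subgroup.normalizer (Z : Set (W ≃ₗ[𝔽] W)))
    {k : W ≃ₗ[𝔽] W} (hk : k ∈ K) (χ : Z → 𝔽) {u : W} (hu : u ∈ block K Z hKZ χ) :
    k u ∈ block K Z hKZ χ := by
  rw [← map_block_of_mem hKZ hk χ]
  exact ⟨u, hu, rfl⟩

theorem wt_le_block (hKZ : K ≤ Subgroup.normalizer (Z : Set (W ≃ₗ[𝔽] W))) (χ : Z → 𝔽) :
    wt Z χ ≤ block K Z hKZ χ :=
  wt_le_blk Z (mem_orb_self Z K hKZ χ)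

theorem block_ne_bot (hKZ : K ≤ Subgroup.normalizer (Z : Set (W ≃ₗ[𝔽] W))) {χ : Z → 𝔽}
    (hχ : wt Z χ ≠ ⊥) : block K Z hKZ χ ≠ ⊥ := by
  intro h
  apply hχ
  rw [eq_bot_iff, ← h]
  exact wt_le_block hKZ χ

/-- blocks with different images are sums over disjoint orbits -/
theorem disjoint_orb_of_block_ne (hKZ : K ≤ Subgroup.normalizer (Z : Set (W ≃ₗ[𝔽] W)))
    {χ χ' : Z → 𝔽} (h : block K Z hKZ χ ≠ block K Z hKZ χ') :
    Disjoint (orb Z K hKZ χ) (orb Z K hKZ χ') := by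
  rcases orb_eq_or_disjoint Z K hKZ χ χ' with h1 | h1
  · exfalso
    apply h
    unfold block
    rw [h1]
  · exact h1


/-- the stabiliser in `S₃` of a block -/
def stabB (α : Equiv.Perm (Fin 3) →* (W ≃ₗ[𝔽] W)) (B : Submodule 𝔽 W) :
    Subgroup (Equiv.Perm (Fin 3)) where
  carrier := {a | B.map ((α a : W ≃ₗ[𝔽] W) : W →ₗ[𝔽] W) = B}
  mul_mem' := by
    intro a b ha hb
    show B.map ((α (a * b) : W ≃ₗ[𝔽] W) : W →ₗ[𝔽] W) = B
    rw [map_mul, map_mul_eq, hb, ha]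
  one_mem' := by
    show B.map ((α 1 : W ≃ₗ[𝔽] W) : W →ₗ[𝔽] W) = B
    rw [map_one]
    exact Submodule.map_id B
  inv_mem' := by
    intro a ha
    show B.map ((α a⁻¹ : W ≃ₗ[𝔽] W) : W →ₗ[𝔽] W) = B
    have h1 : B.map ((α a⁻¹ : W ≃ₗ[𝔽] W) : W →ₗ[𝔽] W) =
        (B.map ((α a : W ≃ₗ[𝔽] W) : W →ₗ[𝔽] W)).map ((α a⁻¹ : W ≃ₗ[𝔽] W) : W →ₗ[𝔽] W) := by
      rw [ha]
    rw [h1, ← map_mul_eq, ← map_mul, inv_mul_cancel, map_one]
    exact Submodule.map_id B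

theorem mem_stabB {α : Equiv.Perm (Fin 3) →* (W ≃ₗ[𝔽] W)} {B : Submodule 𝔽 W}
    {a : Equiv.Perm (Fin 3)} :
    a ∈ stabB α B ↔ B.map ((α a : W ≃ₗ[𝔽] W) : W →ₗ[𝔽] W) = B := Iff.rfl

theorem inv_mul_mem_stabB {α : Equiv.Perm (Fin 3) →* (W ≃ₗ[𝔽] W)} {B : Submodule 𝔽 W}
    {a b : Equiv.Perm (Fin 3)}
    (h : B.map ((α a : W ≃ₗ[𝔽] W) : W →ₗ[𝔽] W) = B.map ((α b : W ≃ₗ[𝔽] W) : W →ₗ[𝔽] W)) :
    b⁻¹ * a ∈ stabB α B := by
  show B.map ((α (b⁻¹ * a) : W ≃ₗ[𝔽] W) : W →ₗ[𝔽] W) = B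
  rw [map_mul, map_mul_eq, h, ← map_mul_eq, ← map_mul, inv_mul_cancel, map_one]
  exact Submodule.map_id B

/-- **Case of a trivial block stabiliser**: six independent blocks give a fixed vector. -/
theorem false_of_free (H : Hyp K α) (hKZ : K ≤ Subgroup.normalizer (Z : Set (W ≃ₗ[𝔽] W)))
    (hAZ : ∀ a, α a ∈ Subgroup.normalizer (Z : Set (W ≃ₗ[𝔽] W)))
    (hZc : ∀ x ∈ Z, ∀ y ∈ Z, x * y = y * x) (χ₀ : Z → 𝔽) (hχ₀ : wt Z χ₀ ≠ ⊥)
    (hfree : ∀ a, a ∈ stabB α (block K Z hKZ χ₀) → a = 1) : False := by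
  classical
  obtain ⟨x, hx, hx0⟩ := Submodule.exists_mem_ne_zero_of_ne_bot hχ₀
  have hxB : x ∈ block K Z hKZ χ₀ := wt_le_block hKZ χ₀ hx
  have hdis : ∀ a b : Equiv.Perm (Fin 3), a ≠ b →
      Disjoint (orb Z K hKZ (tw Z (α a) (hAZ a) χ₀)) (orb Z K hKZ (tw Z (α b) (hAZ b) χ₀)) := by
    intro a b hab
    apply disjoint_orb_of_block_ne hKZ
    rw [← map_block H hKZ hAZ a χ₀, ← map_block H hKZ hAZ b χ₀]
    intro heq
    apply hab
    have := hfree _ (inv_mul_mem_stabB heq)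
    calc a = b * (b⁻¹ * a) := by group
      _ = b := by rw [this, mul_one]
  have hv : ∀ a : Equiv.Perm (Fin 3), (α a) x ∈ blk Z (orb Z K hKZ (tw Z (α a) (hAZ a) χ₀)) := by
    intro a
    have h1 : (α a) x ∈ (block K Z hKZ χ₀).map ((α a : W ≃ₗ[𝔽] W) : W →ₗ[𝔽] W) := ⟨x, hxB, rfl⟩
    rw [map_block H hKZ hAZ a χ₀] at h1
    exact h1
  have hsum : ∑ a : Equiv.Perm (Fin 3), (α a) x = 0 := by
    apply H.fixW
    intro b
    rw [map_sum]
    have e : ∀ a : Equiv.Perm (Fin 3), (α b) ((α a) x) = (α (b * a)) x := by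
      intro a
      rw [map_mul]
      rfl
    simp only [e]
    exact Fintype.sum_equiv (Equiv.mulLeft b) _ _ (fun a => rfl)
  have := blk_indep Z hZc (fun a : Equiv.Perm (Fin 3) => orb Z K hKZ (tw Z (α a) (hAZ a) χ₀))
    hdis (fun a => (α a) x) hv hsum 1
  apply hx0
  rw [map_one] at this
  exact this


/-- basic relations for `f = α c3`, `h = α s2` -/
theorem rel_f (α : Equiv.Perm (Fin 3) →* (W ≃ₗ[𝔽] W)) : (α c3) ^ 3 = 1 := by
  rw [← map_pow, c3_pow, map_one]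

theorem rel_h (α : Equiv.Perm (Fin 3) →* (W ≃ₗ[𝔽] W)) : (α s2) ^ 2 = 1 := by
  rw [← map_pow, s2_pow, map_one]

theorem rel_fh (α : Equiv.Perm (Fin 3) →* (W ≃ₗ[𝔽] W)) : α s2 * α c3 * (α s2)⁻¹ = (α c3)⁻¹ := by
  rw [← map_inv, ← map_mul, ← map_mul, s2_c3, map_inv]

/-- a property of elements of `GL(W)` closed under products holds for all `α a` once it holds for
`α c3` and `α s2` -/
theorem forall_of_gen (α : Equiv.Perm (Fin 3) →* (W ≃ₗ[𝔽] W)) (P : (W ≃ₗ[𝔽] W) → Prop)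
    (h1 : P 1) (hmul : ∀ g g', P g → P g' → P (g * g')) (hc : P (α c3)) (hs : P (α s2)) :
    ∀ a, P (α a) := by
  apply s3_induction (fun a => P (α a))
  · rw [map_one]; exact h1
  · intro a b ha hb
    rw [map_mul]
    exact hmul _ _ ha hb
  · exact hc
  · exact hs

/-- **Case of a block stabiliser of order 2.** -/
theorem comm_of_s2_stable (H : Hyp K α) [Finite K] (hcop : (Nat.card K).Coprime 6)
    (hKZ : K ≤ Subgroup.normalizer (Z : Set (W ≃ₗ[𝔽] W)))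
    (hAZ : ∀ a, α a ∈ Subgroup.normalizer (Z : Set (W ≃ₗ[𝔽] W)))
    (hZc : ∀ x ∈ Z, ∀ y ∈ Z, x * y = y * x) (χ₀ : Z → 𝔽) (hχ₀ : wt Z χ₀ ≠ ⊥)
    (hc : c3 ∉ stabB α (block K Z hKZ χ₀)) (hs : s2 ∈ stabB α (block K Z hKZ χ₀)) :
    ∀ x ∈ K, ∀ y ∈ K, x * y = y * x := by
  classical
  obtain ⟨f, hf⟩ : ∃ f, f = α c3 := ⟨_, rfl⟩
  obtain ⟨h, hh⟩ : ∃ h, h = α s2 := ⟨_, rfl⟩
  obtain ⟨B, hB⟩ : ∃ B, B = block K Z hKZ χ₀ := ⟨_, rfl⟩
  rw [← hB] at hc hs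
  have hf3 : f ^ 3 = 1 := by rw [hf]; exact rel_f α
  have hh2 : h ^ 2 = 1 := by rw [hh]; exact rel_h α
  have hfh : h * f * h⁻¹ = f⁻¹ := by rw [hf, hh]; exact rel_fh α
  have hinv : h⁻¹ = h := inv_eq_of_mul_eq_one_left (by rw [← pow_two, hh2])
  have hhf : h * f = f⁻¹ * h := by
    calc h * f = (h * f * h⁻¹) * h := by group
      _ = f⁻¹ * h := by rw [hfh]
  have hfinv : f⁻¹ = f * f := by
    have : f * f * f = 1 := by rw [← hf3, pow_succ, pow_two]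
    exact inv_eq_of_mul_eq_one_left this
  -- the three blocks
  have hBK : ∀ k ∈ K, ∀ u ∈ B, k u ∈ B := by
    intro k hk u hu
    rw [hB] at hu ⊢
    exact apply_mem_block hKZ hk χ₀ hu
  have hBh : B.map ((h : W ≃ₗ[𝔽] W) : W →ₗ[𝔽] W) = B := by rw [hh]; exact hs
  have hBh' : ∀ u ∈ B, h u ∈ B := by
    intro u hu
    rw [← hBh]
    exact ⟨u, hu, rfl⟩
  -- indices: the powers of `c3`
  have hc' : c3⁻¹ ∉ stabB α B := fun h1 => hc (by simpa using (stabB α B).inv_mem h1)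
  have hd_cases : ∀ i j : Fin 3, i ≠ j →
      ((c3 ^ (j : ℕ))⁻¹ * c3 ^ (i : ℕ) = c3 ∨ (c3 ^ (j : ℕ))⁻¹ * c3 ^ (i : ℕ) = c3⁻¹) := by
    decide
  have hd_inj : ∀ i j : Fin 3, i ≠ j → (c3 ^ (j : ℕ))⁻¹ * c3 ^ (i : ℕ) ∉ stabB α B := by
    intro i j hij
    rcases hd_cases i j hij with h1 | h1
    · rw [h1]; exact hc
    · rw [h1]; exact hc'
  -- pointwise relations
  have f3 : ∀ u : W, f (f (f u)) = u := by
    intro u
    have : (f ^ 3) u = u := by rw [hf3]; rfl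
    rw [pow_succ, pow_two] at this
    exact this
  have h2' : ∀ u : W, h (h u) = u := by
    intro u
    have : (h ^ 2) u = u := by rw [hh2]; rfl
    rw [pow_two] at this
    exact this
  have hfu : ∀ u : W, h (f u) = f (f (h u)) := by
    intro u
    have e : h * f = f * f * h := by rw [hhf, hfinv]
    have := congrArg (fun g : W ≃ₗ[𝔽] W => g u) e
    exact this
  -- the family of orbits
  have hSdis : ∀ i j : Fin 3, i ≠ j →
      Disjoint (orb Z K hKZ (tw Z (α (c3 ^ (i : ℕ))) (hAZ _) χ₀))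
        (orb Z K hKZ (tw Z (α (c3 ^ (j : ℕ))) (hAZ _) χ₀)) := by
    intro i j hij
    apply disjoint_orb_of_block_ne hKZ
    rw [← map_block H hKZ hAZ _ χ₀, ← map_block H hKZ hAZ _ χ₀, ← hB]
    intro heq
    exact hd_inj i j hij (inv_mul_mem_stabB heq)
  have hmemS : ∀ (i : Fin 3) (x : W), x ∈ B →
      (α (c3 ^ (i : ℕ))) x ∈ blk Z (orb Z K hKZ (tw Z (α (c3 ^ (i : ℕ))) (hAZ _) χ₀)) := by
    intro i x hx
    have h1 : (α (c3 ^ (i : ℕ))) x ∈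
        B.map ((α (c3 ^ (i : ℕ)) : W ≃ₗ[𝔽] W) : W →ₗ[𝔽] W) := ⟨x, hx, rfl⟩
    rw [hB, map_block H hKZ hAZ _ χ₀] at h1
    exact h1
  -- `h` has no non-zero fixed vector on `B`
  have hfixB : ∀ x ∈ B, h x = x → x = 0 := by
    intro x hx hhx
    have hexp : ∑ i : Fin 3, (α (c3 ^ (i : ℕ))) x = x + f x + f (f x) := by
      rw [Fin.sum_univ_three]
      simp only [Fin.val_zero, Fin.val_one, Fin.val_two, pow_zero, pow_one, map_one, pow_two,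
        map_mul, ← hf]
      rfl
    have hsum : ∑ i : Fin 3, (α (c3 ^ (i : ℕ))) x = 0 := by
      rw [hexp]
      apply H.fixW
      apply forall_of_gen α (fun g => g (x + f x + f (f x)) = x + f x + f (f x))
      · rfl
      · intro g g' hg hg'
        show g (g' _) = _
        rw [hg', hg]
      · rw [← hf, map_add, map_add, f3]
        abel
      · rw [← hh, map_add, map_add, hfu, hfu, hfu, hhx, f3]
        abel
    have := blk_indep Z hZc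
      (fun i : Fin 3 => orb Z K hKZ (tw Z (α (c3 ^ (i : ℕ))) (hAZ _) χ₀)) hSdis
      (fun i => (α (c3 ^ (i : ℕ))) x) (fun i => hmemS i x hx) hsum 0
    simpa using this
  have hneg : ∀ x ∈ B, h x = -x := by
    intro x hx
    have h1 : x + h x ∈ B := B.add_mem hx (hBh' x hx)
    have h3 : h (x + h x) = x + h x := by
      rw [map_add, h2']
      abel
    have h4 := hfixB _ h1 h3
    exact eq_neg_of_add_eq_zero_right h4
  -- the three blocks span `W`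
  obtain ⟨B1, hB1⟩ : ∃ B1, B1 = B.map ((f : W ≃ₗ[𝔽] W) : W →ₗ[𝔽] W) := ⟨_, rfl⟩
  obtain ⟨B2, hB2⟩ : ∃ B2, B2 = B1.map ((f : W ≃ₗ[𝔽] W) : W →ₗ[𝔽] W) := ⟨_, rfl⟩
  have fff : f * f * f = 1 := by rw [← hf3, pow_succ, pow_two]
  have hB2f : B2.map ((f : W ≃ₗ[𝔽] W) : W →ₗ[𝔽] W) = B := by
    rw [hB2, hB1, ← map_mul_eq, ← map_mul_eq, fff]
    exact Submodule.map_id B
  have hB1blk : B1 = block K Z hKZ (tw Z (α c3) (hAZ _) χ₀) := by
    rw [hB1, hf, hB, map_block H hKZ hAZ c3 χ₀]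
  have hB2blk : B2 = block K Z hKZ (tw Z (α c3) (hAZ _) (tw Z (α c3) (hAZ _) χ₀)) := by
    rw [hB2, hB1blk, hf, map_block H hKZ hAZ c3]
  have hB1h : B1.map ((h : W ≃ₗ[𝔽] W) : W →ₗ[𝔽] W) = B2 := by
    have e : h * f = (f * f) * h := by rw [hhf, hfinv]
    calc B1.map ((h : W ≃ₗ[𝔽] W) : W →ₗ[𝔽] W)
        = B.map (((h * f : W ≃ₗ[𝔽] W)) : W →ₗ[𝔽] W) := by rw [hB1, ← map_mul_eq]
      _ = B.map (((f * f * h : W ≃ₗ[𝔽] W)) : W →ₗ[𝔽] W) := by rw [e]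
      _ = B.map (((f * f : W ≃ₗ[𝔽] W)) : W →ₗ[𝔽] W) := by rw [map_mul_eq, hBh]
      _ = B2 := by rw [hB2, hB1, ← map_mul_eq]
  have hB2h : B2.map ((h : W ≃ₗ[𝔽] W) : W →ₗ[𝔽] W) = B1 := by
    have e : h * (f * f) = f * h := by
      have e0 : h * f = (f * f) * h := by rw [hhf, hfinv]
      calc h * (f * f) = (h * f) * f := by rw [mul_assoc]
        _ = (f * f * h) * f := by rw [e0]
        _ = f * f * (h * f) := by simp only [mul_assoc]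
        _ = f * f * (f * f * h) := by rw [e0]
        _ = (f * f * f) * (f * h) := by simp only [mul_assoc]
        _ = f * h := by rw [fff, one_mul]
    calc B2.map ((h : W ≃ₗ[𝔽] W) : W →ₗ[𝔽] W)
        = B.map (((h * (f * f) : W ≃ₗ[𝔽] W)) : W →ₗ[𝔽] W) := by
          rw [hB2, hB1, ← map_mul_eq, ← map_mul_eq, mul_assoc]
      _ = B.map (((f * h : W ≃ₗ[𝔽] W)) : W →ₗ[𝔽] W) := by rw [e]
      _ = B1 := by rw [map_mul_eq, hBh, hB1]
  obtain ⟨U, hU⟩ : ∃ U, U = B ⊔ B1 ⊔ B2 := ⟨_, rfl⟩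
  have hUK : ∀ k ∈ K, ∀ u ∈ U, k u ∈ U := by
    intro k hk u hu
    have h1 : U.map ((k : W ≃ₗ[𝔽] W) : W →ₗ[𝔽] W) = U := by
      rw [hU, Submodule.map_sup, Submodule.map_sup]
      congr 1
      · congr 1
        · rw [hB]; exact map_block_of_mem hKZ hk χ₀
        · rw [hB1blk]; exact map_block_of_mem hKZ hk _
      · rw [hB2blk]; exact map_block_of_mem hKZ hk _
    rw [← h1]
    exact ⟨u, hu, rfl⟩
  have hUA : ∀ a, ∀ u ∈ U, (α a) u ∈ U := by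
    have key : ∀ a, U.map ((α a : W ≃ₗ[𝔽] W) : W →ₗ[𝔽] W) = U := by
      apply forall_of_gen α (fun g => U.map ((g : W ≃ₗ[𝔽] W) : W →ₗ[𝔽] W) = U)
      · exact Submodule.map_id U
      · intro g g' hg hg'
        show U.map (((g * g' : W ≃ₗ[𝔽] W)) : W →ₗ[𝔽] W) = U
        rw [map_mul_eq, hg', hg]
      · rw [← hf, hU, Submodule.map_sup, Submodule.map_sup, ← hB1, ← hB2, hB2f]
        rw [sup_comm, sup_assoc]
      · rw [← hh, hU, Submodule.map_sup, Submodule.map_sup, hBh, hB1h, hB2h]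
        rw [sup_assoc, sup_assoc, sup_comm B2 B1]
    intro a u hu
    rw [← key a]
    exact ⟨u, hu, rfl⟩
  have hUtop : U = ⊤ := by
    rcases H.irr U hUK hUA with h1 | h1
    · exfalso
      have hB0 : B ≠ ⊥ := by rw [hB]; exact block_ne_bot hKZ hχ₀
      apply hB0
      rw [eq_bot_iff, ← h1, hU]
      exact le_sup_of_le_left le_sup_left
    · exact h1
  -- the kernel of `K` on `B`
  have hnorm : ∀ a, ∀ k ∈ K, α a * k * (α a)⁻¹ ∈ K :=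
    fun a k hk => conj_mem_of_mem_normalizer (H.norm a) hk
  obtain ⟨K₀, hK₀⟩ : ∃ K₀ : Subgroup (W ≃ₗ[𝔽] W),
      K₀ = K ⊓ Cfsg.Agent.Lib.Helper71_HHBInd.fixer B := ⟨_, rfl⟩
  have hmemK₀ : ∀ x, x ∈ K₀ ↔ x ∈ K ∧ ∀ u ∈ B, x u = u := by
    intro x
    rw [hK₀, Subgroup.mem_inf, Cfsg.Agent.Lib.Helper71_HHBInd.mem_fixer]
  have kk : ∀ k : W ≃ₗ[𝔽] W, ∀ u : W, k (k⁻¹ u) = u := by
    intro k u
    show (k * k⁻¹) u = u
    rw [mul_inv_cancel]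
    rfl
  refine Cfsg.Agent.Lib.Helper63_S3T2.comm_of_three_kernels K hcop f h hf3 hh2 hfh
    ?_ ?_ ?_ K₀ ?_ ?_ ?_ ?_ ?_
  · intro k hk
    rw [hf]
    exact hnorm c3 k hk
  · intro k hk
    rw [hh]
    exact hnorm s2 k hk
  · intro k hk h1 h2
    apply H.fixK k hk
    apply forall_of_gen α (fun g => g * k * g⁻¹ = k)
    · simp
    · intro g g' hg hg'
      calc g * g' * k * (g * g')⁻¹ = g * (g' * k * g'⁻¹) * g⁻¹ := by group
        _ = k := by rw [hg', hg]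
    · rw [← hf]
      exact h1
    · rw [← hh]
      exact h2
  · intro x hx
    exact ((hmemK₀ x).1 hx).1
  · intro k hk x hx
    rw [hmemK₀] at hx ⊢
    refine ⟨K.mul_mem (K.mul_mem hk hx.1) (K.inv_mem hk), ?_⟩
    intro u hu
    show k (x (k⁻¹ u)) = u
    have h1 : k⁻¹ u ∈ B := hBK _ (K.inv_mem hk) u hu
    rw [hx.2 _ h1, kk]
  · intro x hx
    rw [hmemK₀] at hx ⊢
    refine ⟨by rw [hh]; exact hnorm s2 x hx.1, ?_⟩
    intro u hu
    show h (x (h⁻¹ u)) = u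
    rw [hinv, hx.2 _ (hBh' u hu), h2']
  · intro k hk
    rw [hmemK₀]
    refine ⟨K.mul_mem (by rw [hh]; exact hnorm s2 k hk) (K.inv_mem hk), ?_⟩
    intro u hu
    show h (k (h⁻¹ (k⁻¹ u))) = u
    have h1 : k⁻¹ u ∈ B := hBK _ (K.inv_mem hk) u hu
    rw [hinv, hneg _ h1, map_neg, kk, map_neg, hneg u hu, neg_neg]
  · intro x hx hx1 hx2
    rw [hmemK₀] at hx hx1 hx2
    have e1 : ∀ u ∈ B1, x u = u := by
      intro u hu
      rw [hB1] at hu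
      obtain ⟨b, hb, rfl⟩ := hu
      have h3 := hx1.2 b hb
      have e : f * (f⁻¹ * x * f) = x * f := by
        rw [mul_assoc, mul_inv_cancel_left]
      have h4 : f ((f⁻¹ * x * f) b) = x (f b) := by
        show (f * (f⁻¹ * x * f)) b = (x * f) b
        rw [e]
      rw [h3] at h4
      exact h4.symm
    have e2 : ∀ u ∈ B2, x u = u := by
      intro u hu
      rw [hB2, hB1] at hu
      obtain ⟨_, ⟨b, hb, rfl⟩, rfl⟩ := hu
      have h3 := hx2.2 b hb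
      have e : f ^ 2 * ((f ^ 2)⁻¹ * x * f ^ 2) = x * f ^ 2 := by
        rw [mul_assoc, mul_inv_cancel_left]
      have h4 : (f ^ 2) (((f ^ 2)⁻¹ * x * f ^ 2) b) = x ((f ^ 2) b) := by
        show (f ^ 2 * ((f ^ 2)⁻¹ * x * f ^ 2)) b = (x * f ^ 2) b
        rw [e]
      rw [h3] at h4
      have h5 : (f ^ 2) b = f (f b) := by
        rw [pow_two]
        rfl
      rw [h5] at h4
      exact h4.symm
    have e3 : ∀ u ∈ U, x u = u := by
      intro u hu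
      rw [hU] at hu
      obtain ⟨y, hy, z, hz, rfl⟩ := Submodule.mem_sup.1 hu
      obtain ⟨y1, hy1, y2, hy2, rfl⟩ := Submodule.mem_sup.1 hy
      rw [map_add, map_add, hx.2 _ hy1, e1 _ hy2, e2 _ hz]
    apply LinearEquiv.ext
    intro u
    exact e3 u (by rw [hUtop]; trivial)

end blocks

end Cfsg.Agent.Lib.Helper71_S3LinC
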