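import Mathlib
import Cfsg.Agent.Lib.Helper71_S3Wt
import Cfsg.Agent.Lib.Helper71_S3LinA
import Cfsg.Agent.Lib.Helper71_S3LinB
import Cfsg.Agent.Lib.Helper71_S3LinC
import Cfsg.Agent.Lib.Helper71_HHB
import Cfsg.Agent.Lib.Helper1_S3T3
import Cfsg.Agent.Lib.Helper1_S3T5
import Cfsg.Agent.Lib.Helper13_S3T6

set_option autoImplicit false

namespace Cfsg.Agent.Lib.Helper71_S3Lin

open Cfsg.Agent.Lib.Helper71_S3Wt Cfsg.Agent.Lib.Helper71_S3LinA Cfsg.Agent.Lib.Helper71_S3LinB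
  Cfsg.Agent.Lib.Helper71_S3LinC Cfsg.Agent.Lib.Helper71_HHB

variable {𝔽 : Type*} [Field 𝔽] {W : Type*} [AddCommGroup W] [Module 𝔽 W]

theorem s3_cases' (a : Equiv.Perm (Fin 3)) :
    a = 1 ∨ a = c3 ∨ a = c3⁻¹ ∨ a = s2 ∨ a = c3 * s2 * c3⁻¹ ∨ a = c3⁻¹ * s2 * c3 := by
  revert a
  decide

/-- the stabiliser of a translated subspace -/
theorem mem_stabB_map {α : Equiv.Perm (Fin 3) →* (W ≃ₗ[𝔽] W)} {B : Submodule 𝔽 W}
    (g a : Equiv.Perm (Fin 3)) :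
    a ∈ stabB α (B.map ((α g : W ≃ₗ[𝔽] W) : W →ₗ[𝔽] W)) ↔ g⁻¹ * a * g ∈ stabB α B := by
  rw [mem_stabB, mem_stabB]
  constructor
  · intro h
    have e : g⁻¹ * a * g = g⁻¹ * (a * g) := by rw [mul_assoc]
    rw [e, map_mul, map_mul_eq, map_mul, map_mul_eq, h, ← map_mul_eq, ← map_mul, inv_mul_cancel,
      map_one]
    exact Submodule.map_id B
  · intro h
    have e : a * g = g * (g⁻¹ * a * g) := by group
    rw [← map_mul_eq, ← map_mul, e, map_mul, map_mul_eq, h]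

variable {K Z : Subgroup (W ≃ₗ[𝔽] W)} {α : Equiv.Perm (Fin 3) →* (W ≃ₗ[𝔽] W)}

/-- the case of a block whose stabiliser is generated by a conjugate of `s2` -/
theorem comm_of_conj_s2_stable (H : Hyp K α) [Finite K] (hcop : (Nat.card K).Coprime 6)
    (hKZ : K ≤ Subgroup.normalizer (Z : Set (W ≃ₗ[𝔽] W)))
    (hAZ : ∀ a, α a ∈ Subgroup.normalizer (Z : Set (W ≃ₗ[𝔽] W)))
    (hZc : ∀ x ∈ Z, ∀ y ∈ Z, x * y = y * x) (χ₀ : Z → 𝔽) (hχ₀ : wt Z χ₀ ≠ ⊥)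
    (d : Equiv.Perm (Fin 3)) (hd : d * c3 * d⁻¹ = c3)
    (hc : c3 ∉ stabB α (block K Z hKZ χ₀)) (hs : d * s2 * d⁻¹ ∈ stabB α (block K Z hKZ χ₀)) :
    ∀ x ∈ K, ∀ y ∈ K, x * y = y * x := by
  have hχ' : wt Z (tw Z (α d⁻¹) (hAZ _) χ₀) ≠ ⊥ := by
    rw [← map_wt Z (α d⁻¹) (hAZ _) χ₀]
    intro h
    apply hχ₀
    rw [Submodule.map_eq_bot_iff] at h
    exact h
  have hblock : block K Z hKZ (tw Z (α d⁻¹) (hAZ _) χ₀) =
      (block K Z hKZ χ₀).map ((α d⁻¹ : W ≃ₗ[𝔽] W) : W →ₗ[𝔽] W) :=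
    (map_block H hKZ hAZ d⁻¹ χ₀).symm
  apply comm_of_s2_stable H hcop hKZ hAZ hZc (tw Z (α d⁻¹) (hAZ _) χ₀) hχ'
  · rw [hblock, mem_stabB_map, inv_inv, hd]
    exact hc
  · rw [hblock, mem_stabB_map, inv_inv]
    exact hs

/-- **The linear theorem.**  A finite solvable `{2,3}'`-group of linear maps in characteristic
`t ≠ 2, 3`, irreducible together with a group `A ≅ S₃` normalising it, with `C_K(A) = 1` and
`C_W(A) = 0`, is commutative. -/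
theorem comm_of_s3 [IsAlgClosed 𝔽] (t : ℕ) [Fact t.Prime] [CharP 𝔽 t]
    (ht3 : t ≠ 3) [FiniteDimensional 𝔽 W]
    (K : Subgroup (W ≃ₗ[𝔽] W)) [Finite K] (hsolv : Group.IsSolvable K)
    (hcop : (Nat.card K).Coprime 6)
    (α : Equiv.Perm (Fin 3) →* (W ≃ₗ[𝔽] W)) (H : Hyp K α) :
    ∀ x ∈ K, ∀ y ∈ K, x * y = y * x := by
  classical
  by_cases hK0 : K = ⊥
  · intro x hx y hy
    rw [hK0, Subgroup.mem_bot] at hx hy
    rw [hx, hy]
  obtain ⟨Z, hZK, hZ0, hKZ, hAZ', hZc, v, hv, hZv⟩ :=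
    exists_minimal_invariant K hsolv hK0 (Set.range α) (by
      rintro g ⟨a, rfl⟩
      exact H.norm a)
  have hAZ : ∀ a, α a ∈ Subgroup.normalizer (Z : Set (W ≃ₗ[𝔽] W)) := fun a => hAZ' _ ⟨a, rfl⟩
  have : Fact v.Prime := ⟨hv⟩
  have hfinZ : Finite Z := Finite.of_injective (Subgroup.inclusion hZK)
    (Subgroup.inclusion_injective hZK)
  -- `v ≠ t`
  have hvt : v ≠ t := by
    intro hvt
    apply hZ0
    apply eq_bot_of_isPGroup H t Z _ hKZ hAZ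
    intro z
    refine ⟨1, ?_⟩
    rw [pow_one, ← hvt]
    exact Subtype.ext (hZv z z.2)
  have hv𝔽 : (v : 𝔽) ≠ 0 := by
    intro h0
    rw [CharP.cast_eq_zero_iff 𝔽 t v] at h0
    exact hvt ((Nat.prime_dvd_prime_iff_eq (Fact.out : t.Prime) hv).mp h0).symm
  have htop := iSup_wt_eq_top Z hZc (fun z hz => ⟨v, hv𝔽, hZv z hz⟩)
  -- `W` is non-trivial since `K ≠ ⊥`
  have hW : (⊤ : Submodule 𝔽 W) ≠ ⊥ := by
    intro h
    apply hK0
    rw [eq_bot_iff]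
    intro x _
    rw [Subgroup.mem_bot]
    ext w
    have hw : w ∈ (⊤ : Submodule 𝔽 W) := trivial
    have hxw : x w ∈ (⊤ : Submodule 𝔽 W) := trivial
    rw [h, Submodule.mem_bot] at hw hxw
    rw [hxw, hw]
    rfl
  obtain ⟨χ₀, hχ₀⟩ : ∃ χ₀, wt Z χ₀ ≠ ⊥ := by
    by_contra hcon
    push Not at hcon
    apply hW
    rw [← htop]
    simp only [hcon, iSup_bot]
  -- the block
  by_cases hc : c3 ∈ stabB α (block K Z hKZ χ₀)
  · by_cases hs : s2 ∈ stabB α (block K Z hKZ χ₀)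
    · exfalso
      have hall : ∀ a, a ∈ stabB α (block K Z hKZ χ₀) :=
        s3_induction _ (Subgroup.one_mem _) (fun a b ha hb => Subgroup.mul_mem _ ha hb) hc hs
      have hBtop : block K Z hKZ χ₀ = ⊤ := by
        rcases H.irr (block K Z hKZ χ₀) (fun k hk u hu => apply_mem_block hKZ hk χ₀ hu)
          (fun a u hu => by
            have := hall a
            rw [mem_stabB] at this
            rw [← this]
            exact ⟨u, hu, rfl⟩) with h1 | h1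
        · exact absurd h1 (block_ne_bot hKZ hχ₀)
        · exact h1
      exact Cfsg.Agent.Lib.Helper1_S3T5.false_of_blk_eq_top H hsolv hcop hZK hZ0 hKZ hAZ hZc χ₀
        hχ₀ hBtop
    · exact Cfsg.Agent.Lib.Helper13_S3T6.comm_of_c3_stable t ht3 H hsolv hcop hKZ hAZ hZc χ₀ hχ₀
        hc hs (fun f hf3 hn hOt hfix =>
          Cfsg.Agent.Lib.Helper1_S3T3.commute_of_fpf3 t ht3 K hsolv hcop f hf3 hn hOt hfix)
  · by_cases hs0 : s2 ∈ stabB α (block K Z hKZ χ₀)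
    · exact comm_of_s2_stable H hcop hKZ hAZ hZc χ₀ hχ₀ hc hs0
    by_cases hs1 : c3 * s2 * c3⁻¹ ∈ stabB α (block K Z hKZ χ₀)
    · exact comm_of_conj_s2_stable H hcop hKZ hAZ hZc χ₀ hχ₀ c3 (by decide) hc hs1
    by_cases hs2 : c3⁻¹ * s2 * c3 ∈ stabB α (block K Z hKZ χ₀)
    · refine comm_of_conj_s2_stable H hcop hKZ hAZ hZc χ₀ hχ₀ c3⁻¹ (by decide) hc ?_
      rw [inv_inv]
      exact hs2
    exfalso
    apply false_of_free H hKZ hAZ hZc χ₀ hχ₀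
    intro a ha
    rcases s3_cases' a with rfl | rfl | rfl | rfl | rfl | rfl
    · rfl
    · exact absurd ha hc
    · exact absurd (by simpa using Subgroup.inv_mem _ ha) hc
    · exact absurd ha hs0
    · exact absurd ha hs1
    · exact absurd ha hs2

end Cfsg.Agent.Lib.Helper71_S3Lin
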