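import Mathlib
import Cfsg.Agent.Lib.Helper64_ShultGrp

/-!
# Group-side lemmas for `S4305` (pieces T4 of helper71's plan), by helper87

Minimal invariant normal subgroups for a family of automorphisms, the relative version, fixed points in cosets
for an action of `S₃`, and the induced action on a quotient.
-/

set_option autoImplicit false
set_option linter.style.haveILetI false

namespace Cfsg.Agent.Lib.Helper87_S3T4

open Subgroup
open scoped commutatorElement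

section Pc
variable {G : Type*} [Group G] {A : Type*} [Group A]

theorem map_eq_of_invariant (φ : A →* MulAut G) (N : Subgroup G)
    (hNφ : ∀ a, ∀ x ∈ N, φ a x ∈ N) (a : A) : N.map (φ a).toMonoidHom = N := by
  apply le_antisymm
  · rintro _ ⟨x, hx, rfl⟩
    exact hNφ a x hx
  · intro x hx
    refine ⟨φ a⁻¹ x, hNφ a⁻¹ x hx, ?_⟩
    show φ a (φ a⁻¹ x) = x
    rw [← MulAut.mul_apply, ← map_mul, mul_inv_cancel, map_one, MulAut.one_apply]

/-- the induced action on the quotient by an invariant normal subgroup -/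
noncomputable def quotHom (φ : A →* MulAut G) (N : Subgroup G) [N.Normal]
    (hNφ : ∀ a, ∀ x ∈ N, φ a x ∈ N) : A →* MulAut (G ⧸ N) where
  toFun a := QuotientGroup.congr N N (φ a) (map_eq_of_invariant φ N hNφ a)
  map_one' := by
    ext x
    induction x using QuotientGroup.induction_on with
    | H x =>
      show ((φ 1 x : G) : G ⧸ N) = (x : G ⧸ N)
      rw [map_one, MulAut.one_apply]
  map_mul' a b := by
    ext x
    induction x using QuotientGroup.induction_on with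
    | H x =>
      show ((φ (a * b) x : G) : G ⧸ N) = ((φ a (φ b x) : G) : G ⧸ N)
      rw [map_mul, MulAut.mul_apply]

theorem quotHom_mk (φ : A →* MulAut G) (N : Subgroup G) [N.Normal]
    (hNφ : ∀ a, ∀ x ∈ N, φ a x ∈ N) (a : A) (g : G) :
    quotHom φ N hNφ a (g : G ⧸ N) = ((φ a g : G) : G ⧸ N) := rfl

end Pc

section Pa
variable {G : Type*} [Group G] {A : Type*} [Group A]

theorem commutator_invariant (φ : A →* MulAut G) (N : Subgroup G)
    (hNφ : ∀ a, ∀ x ∈ N, φ a x ∈ N) : ∀ a, ∀ x ∈ ⁅N, N⁆, φ a x ∈ ⁅N, N⁆ := by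
  intro a x hx
  have h1 : (⁅N, N⁆ : Subgroup G).map (φ a).toMonoidHom = ⁅N, N⁆ := by
    rw [Subgroup.map_commutator, map_eq_of_invariant φ N hNφ a]
  rw [← h1]
  exact ⟨x, hx, rfl⟩

/-- minimal invariant normal subgroups of a finite solvable group are elementary abelian -/
theorem minimal_invariant_props [Finite G] [hsol : Group.IsSolvable G] (φ : A →* MulAut G)
    (N : Subgroup G) (hN0 : N ≠ ⊥) (hNn : N.Normal) (hNφ : ∀ a, ∀ x ∈ N, φ a x ∈ N)
    (hNmin : ∀ M : Subgroup G, M.Normal → (∀ a, ∀ x ∈ M, φ a x ∈ M) → M ≤ N → M = ⊥ ∨ M = N) :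
    (∀ x ∈ N, ∀ y ∈ N, x * y = y * x) ∧ ∃ r : ℕ, r.Prime ∧ ∀ x ∈ N, x ^ r = 1 := by
  have hcomm : ∀ x ∈ N, ∀ y ∈ N, x * y = y * x := by
    have hDn : (⁅N, N⁆ : Subgroup G).Normal := Subgroup.commutator_normal N N
    have hDle : (⁅N, N⁆ : Subgroup G) ≤ N := Subgroup.commutator_le_right N N
    rcases hNmin ⁅N, N⁆ hDn (commutator_invariant φ N hNφ) hDle with h | h
    · intro x hx y hy
      have h1 : ⁅x, y⁆ ∈ (⁅N, N⁆ : Subgroup G) := Subgroup.commutator_mem_commutator hx hy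
      rw [h, Subgroup.mem_bot, commutatorElement_eq_one_iff_mul_comm] at h1
      exact h1
    · exfalso
      have h1 := Group.IsSolvable.commutator_lt_of_ne_bot hN0
      rw [h] at h1
      exact lt_irrefl _ h1
  refine ⟨hcomm, ?_⟩
  have hcard : 1 < Nat.card N := by
    haveI : Nontrivial N := (Subgroup.nontrivial_iff_ne_bot N).2 hN0
    exact Finite.one_lt_card
  obtain ⟨r, hr, hrdvd⟩ := Nat.exists_prime_and_dvd hcard.ne'
  haveI : Fact r.Prime := ⟨hr⟩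
  refine ⟨r, hr, ?_⟩
  let Om : Subgroup G :=
    { carrier := {x | x ∈ N ∧ x ^ r = 1}
      one_mem' := ⟨N.one_mem, one_pow r⟩
      mul_mem' := by
        rintro x y ⟨hx, hx1⟩ ⟨hy, hy1⟩
        refine ⟨N.mul_mem hx hy, ?_⟩
        have hc : Commute x y := hcomm x hx y hy
        rw [hc.mul_pow, hx1, hy1, one_mul]
      inv_mem' := by
        rintro x ⟨hx, hx1⟩
        exact ⟨N.inv_mem hx, by rw [inv_pow, hx1, inv_one]⟩ }
  have hOmN : Om ≤ N := fun x hx => hx.1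
  have hOmn : Om.Normal := by
    constructor
    rintro x ⟨hx, hx1⟩ g
    exact ⟨hNn.conj_mem x hx g, by rw [conj_pow, hx1, mul_one, mul_inv_cancel]⟩
  have hOmφ : ∀ a, ∀ x ∈ Om, φ a x ∈ Om := by
    rintro a x ⟨hx, hx1⟩
    exact ⟨hNφ a x hx, by rw [← map_pow, hx1, map_one]⟩
  rcases hNmin Om hOmn hOmφ hOmN with h | h
  · exfalso
    obtain ⟨x, hx⟩ := exists_prime_orderOf_dvd_card' (G := N) r hrdvd
    have h1 : (x : G) ∈ Om := by
      refine ⟨x.2, ?_⟩
      have : x ^ r = 1 := by rw [← hx, pow_orderOf_eq_one]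
      have h2 := congrArg Subtype.val this
      simpa using h2
    rw [h, Subgroup.mem_bot] at h1
    have h2 : x = 1 := Subtype.ext h1
    rw [h2, orderOf_one] at hx
    exact hr.one_lt.ne hx
  · intro x hx
    rw [← h] at hx
    exact hx.2

theorem exists_minimal_invariant [Finite G] [Nontrivial G] (φ : A →* MulAut G) :
    ∃ N : Subgroup G, N ≠ ⊥ ∧ N.Normal ∧ (∀ a, ∀ x ∈ N, φ a x ∈ N) ∧
      ∀ M : Subgroup G, M.Normal → (∀ a, ∀ x ∈ M, φ a x ∈ M) → M ≤ N → M = ⊥ ∨ M = N := by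
  obtain ⟨N, hN⟩ := exists_minimal_of_wellFoundedLT
    (fun N : Subgroup G => N ≠ ⊥ ∧ N.Normal ∧ ∀ a, ∀ x ∈ N, φ a x ∈ N)
    ⟨⊤, top_ne_bot, inferInstance, fun _ _ _ => Subgroup.mem_top _⟩
  refine ⟨N, hN.prop.1, hN.prop.2.1, hN.prop.2.2, fun M hMn hMφ hMN => ?_⟩
  by_cases hM : M = ⊥
  · exact Or.inl hM
  · exact Or.inr (le_antisymm hMN (hN.le_of_le ⟨hM, hMn, hMφ⟩ hMN))

/-- relative version: minimal among invariant normal subgroups strictly above `C` and inside `L`. -/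
theorem exists_minimal_invariant_between [Finite G] (φ : A →* MulAut G)
    (C L : Subgroup G) (hCn : C.Normal) (hCφ : ∀ a, ∀ x ∈ C, φ a x ∈ C)
    (hLn : L.Normal) (hLφ : ∀ a, ∀ x ∈ L, φ a x ∈ L) (hCL : C < L) :
    ∃ M : Subgroup G, C < M ∧ M ≤ L ∧ M.Normal ∧ (∀ a, ∀ x ∈ M, φ a x ∈ M) ∧
      ∀ M' : Subgroup G, M'.Normal → (∀ a, ∀ x ∈ M', φ a x ∈ M') → C ≤ M' → M' ≤ M →
        M' = C ∨ M' = M := by
  obtain ⟨M, hM⟩ := exists_minimal_of_wellFoundedLT
    (fun M : Subgroup G => C < M ∧ M ≤ L ∧ M.Normal ∧ ∀ a, ∀ x ∈ M, φ a x ∈ M)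
    ⟨L, hCL, le_rfl, hLn, hLφ⟩
  refine ⟨M, hM.prop.1, hM.prop.2.1, hM.prop.2.2.1, hM.prop.2.2.2, fun M' hn hφ' hC hle => ?_⟩
  by_cases hM' : M' = C
  · exact Or.inl hM'
  · refine Or.inr (le_antisymm hle (hM.le_of_le ⟨lt_of_le_of_ne hC (Ne.symm hM'), hle.trans hM.prop.2.1, hn, hφ'⟩ hle))

/-- for `M` as in the previous lemma, with `G` solvable: `M/C` is an elementary abelian `v`-group. -/
theorem minimal_between_props [Finite G] [hsol : Group.IsSolvable G] (φ : A →* MulAut G)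
    (C M : Subgroup G) (hCn : C.Normal) (hCφ : ∀ a, ∀ x ∈ C, φ a x ∈ C)
    (hMn : M.Normal) (hMφ : ∀ a, ∀ x ∈ M, φ a x ∈ M) (hCM : C < M)
    (hmin : ∀ M' : Subgroup G, M'.Normal → (∀ a, ∀ x ∈ M', φ a x ∈ M') → C ≤ M' → M' ≤ M →
        M' = C ∨ M' = M) :
    (∀ x ∈ M, ∀ y ∈ M, x * y * x⁻¹ * y⁻¹ ∈ C) ∧ ∃ v : ℕ, v.Prime ∧ ∀ x ∈ M, x ^ v ∈ C := by
  haveI := hCn
  let π : G →* G ⧸ C := QuotientGroup.mk' C
  have hπs : Function.Surjective π := QuotientGroup.mk'_surjective C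
  let ψ := quotHom φ C hCφ
  let Mb : Subgroup (G ⧸ C) := M.map π
  have hcomap : Mb.comap π = M := by
    show (M.map (QuotientGroup.mk' C)).comap (QuotientGroup.mk' C) = M
    rw [QuotientGroup.comap_map_mk']
    exact sup_eq_right.2 hCM.le
  have hMb0 : Mb ≠ ⊥ := by
    intro h
    have h1 : M ≤ C := by
      intro x hx
      have h2 : π x ∈ Mb := ⟨x, hx, rfl⟩
      rw [h, Subgroup.mem_bot] at h2
      exact (QuotientGroup.eq_one_iff x).1 h2
    exact (lt_irrefl _ (lt_of_lt_of_le hCM h1))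
  have hMbn : Mb.Normal := hMn.map π hπs
  have hMbψ : ∀ a, ∀ x ∈ Mb, ψ a x ∈ Mb := by
    rintro a _ ⟨x, hx, rfl⟩
    exact ⟨φ a x, hMφ a x hx, rfl⟩
  have hMbmin : ∀ M' : Subgroup (G ⧸ C), M'.Normal → (∀ a, ∀ x ∈ M', ψ a x ∈ M') → M' ≤ Mb →
      M' = ⊥ ∨ M' = Mb := by
    intro M' hn hψ hle
    have h1 : (M'.comap π).Normal := hn.comap π
    have h2 : ∀ a, ∀ x ∈ M'.comap π, φ a x ∈ M'.comap π := by
      intro a x hx
      rw [Subgroup.mem_comap] at hx ⊢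
      exact hψ a _ hx
    have h3 : C ≤ M'.comap π := by
      intro x hx
      rw [Subgroup.mem_comap]
      have : π x = 1 := (QuotientGroup.eq_one_iff x).2 hx
      rw [this]
      exact M'.one_mem
    have h4 : M'.comap π ≤ M := by
      rw [← hcomap]
      exact Subgroup.comap_mono hle
    rcases hmin _ h1 h2 h3 h4 with h | h
    · left
      rw [← Subgroup.map_comap_eq_self_of_surjective hπs M', h]
      exact QuotientGroup.map_mk'_self C
    · right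
      rw [← Subgroup.map_comap_eq_self_of_surjective hπs M', h]
  obtain ⟨hc, v, hv, hexp⟩ := minimal_invariant_props ψ Mb hMb0 hMbn hMbψ hMbmin
  refine ⟨fun x hx y hy => ?_, v, hv, fun x hx => ?_⟩
  · have h1 := hc (π x) ⟨x, hx, rfl⟩ (π y) ⟨y, hy, rfl⟩
    have h2 : π (x * y * x⁻¹ * y⁻¹) = 1 := by
      rw [map_mul, map_mul, map_mul, map_inv, map_inv, h1]
      group
    exact (QuotientGroup.eq_one_iff _).1 h2
  · have h1 := hexp (π x) ⟨x, hx, rfl⟩
    rw [← map_pow] at h1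
    exact (QuotientGroup.eq_one_iff _).1 h1

end Pa

section Pb
variable {G : Type*} [Group G] [Finite G]

/-- fixed cosets contain fixed points (`S₃` acting) -/
theorem exists_fixed_in_coset_s3 (φ : Equiv.Perm (Fin 3) →* MulAut G) (N : Subgroup G)
    (hN : (Nat.card N).Coprime 6) (hNφ : ∀ a, ∀ x ∈ N, φ a x ∈ N)
    (g : G) (hg : ∀ a, g⁻¹ * φ a g ∈ N) : ∃ n ∈ N, ∀ a, φ a (g * n) = g * n := by
  let c : Equiv.Perm (Fin 3) := finRotate 3
  let s : Equiv.Perm (Fin 3) := Equiv.swap 0 (c 0)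
  have hc3 : c ^ 3 = 1 := by decide
  have hs2 : s ^ 2 = 1 := by decide
  have hcs : c * s = s * c⁻¹ := by decide
  have hgen : Subgroup.closure ({c, s} : Set (Equiv.Perm (Fin 3))) = ⊤ :=
    Equiv.Perm.closure_cycle_adjacent_swap (isCycle_finRotate (n := 1)) (support_finRotate (n := 1)) 0
  have h3 : ¬ 3 ∣ Nat.card N := by
    intro h
    have : (3 : ℕ) ∣ Nat.gcd (Nat.card N) 6 := Nat.dvd_gcd h (by norm_num)
    rw [hN] at this
    omega
  have h2 : ¬ 2 ∣ Nat.card N := by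
    intro h
    have : (2 : ℕ) ∣ Nat.gcd (Nat.card N) 6 := Nat.dvd_gcd h (by norm_num)
    rw [hN] at this
    omega
  haveI : Fact (Nat.Prime 3) := ⟨Nat.prime_three⟩
  haveI : Fact (Nat.Prime 2) := ⟨Nat.prime_two⟩
  -- first step: the 3-cycle
  obtain ⟨n₁, hn₁, hfix₁⟩ := Cfsg.Agent.Lib.Helper64_ShultGrp.exists_fixed_mul 3 (φ c) 1
    (by rw [pow_one, ← map_pow, hc3, map_one]) N h3 (hNφ c) g (hg c)
  set g₁ := g * n₁ with hg₁
  have hcinv : φ c⁻¹ g₁ = g₁ := by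
    nth_rewrite 1 [← hfix₁]
    rw [← MulAut.mul_apply, ← map_mul, inv_mul_cancel, map_one, MulAut.one_apply]
  -- the fixed points of the 3-cycle in `N`
  let N₁ : Subgroup G :=
    { carrier := {x | x ∈ N ∧ φ c x = x}
      one_mem' := ⟨N.one_mem, map_one _⟩
      mul_mem' := by
        rintro x y ⟨hx, hx1⟩ ⟨hy, hy1⟩
        exact ⟨N.mul_mem hx hy, by rw [map_mul, hx1, hy1]⟩
      inv_mem' := by
        rintro x ⟨hx, hx1⟩
        exact ⟨N.inv_mem hx, by rw [map_inv, hx1]⟩ }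
  have hN₁N : N₁ ≤ N := fun x hx => hx.1
  have h2' : ¬ 2 ∣ Nat.card N₁ := fun h => h2 (h.trans (Subgroup.card_dvd_of_le hN₁N))
  have hcsφ : ∀ x : G, φ c (φ s x) = φ s (φ c⁻¹ x) := by
    intro x
    rw [← MulAut.mul_apply, ← MulAut.mul_apply, ← map_mul, ← map_mul, hcs]
  have hN₁s : ∀ n ∈ N₁, φ s n ∈ N₁ := by
    rintro n ⟨hn, hn1⟩
    refine ⟨hNφ s n hn, ?_⟩
    rw [hcsφ]
    congr 1
    nth_rewrite 1 [← hn1]
    rw [← MulAut.mul_apply, ← map_mul, inv_mul_cancel, map_one, MulAut.one_apply]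
  have hg₁s : g₁⁻¹ * φ s g₁ ∈ N₁ := by
    refine ⟨?_, ?_⟩
    · have : g₁⁻¹ * φ s g₁ = n₁⁻¹ * (g⁻¹ * φ s g) * φ s n₁ := by
        rw [hg₁, map_mul]
        group
      rw [this]
      exact N.mul_mem (N.mul_mem (N.inv_mem hn₁) (hg s)) (hNφ s n₁ hn₁)
    · rw [map_mul, map_inv, hfix₁, hcsφ, hcinv]
  obtain ⟨n₂, hn₂, hfix₂⟩ := Cfsg.Agent.Lib.Helper64_ShultGrp.exists_fixed_mul 2 (φ s) 1
    (by rw [pow_one, ← map_pow, hs2, map_one]) N₁ h2' hN₁s g₁ hg₁s
  refine ⟨n₁ * n₂, N.mul_mem hn₁ (hN₁N hn₂), ?_⟩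
  have hx : g * (n₁ * n₂) = g₁ * n₂ := by rw [hg₁, mul_assoc]
  rw [hx]
  have hcfix : φ c (g₁ * n₂) = g₁ * n₂ := by rw [map_mul, hfix₁, hn₂.2]
  let St : Subgroup (Equiv.Perm (Fin 3)) :=
    { carrier := {a | φ a (g₁ * n₂) = g₁ * n₂}
      one_mem' := by
        show φ 1 (g₁ * n₂) = g₁ * n₂
        rw [map_one, MulAut.one_apply]
      mul_mem' := by
        intro a b ha hb
        show φ (a * b) (g₁ * n₂) = g₁ * n₂
        have ha' : φ a (g₁ * n₂) = g₁ * n₂ := ha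
        have hb' : φ b (g₁ * n₂) = g₁ * n₂ := hb
        rw [φ.map_mul a b, MulAut.mul_apply, hb', ha']
      inv_mem' := by
        intro a ha
        show φ a⁻¹ (g₁ * n₂) = g₁ * n₂
        have ha' : φ a (g₁ * n₂) = g₁ * n₂ := ha
        nth_rewrite 1 [← ha']
        rw [← MulAut.mul_apply, ← φ.map_mul, inv_mul_cancel, φ.map_one, MulAut.one_apply] }
  have hSt : St = ⊤ := by
    rw [eq_top_iff, ← hgen, Subgroup.closure_le]
    rintro a (rfl | rfl)
    · exact hcfix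
    · exact hfix₂
  intro a
  have : a ∈ St := by rw [hSt]; exact Subgroup.mem_top a
  exact this

end Pb

end Cfsg.Agent.Lib.Helper87_S3T4
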