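import Mathlib
import Cfsg.Agent.Lib.Helper71_S3Wt
import Cfsg.Agent.Lib.Helper71_S3LinA
import Cfsg.Agent.Lib.Helper71_S3LinB
import Cfsg.Agent.Lib.Helper71_S3Lin
import Cfsg.Agent.Lib.Helper71_HHBInd
import Cfsg.Agent.Lib.Helper87_S3T4

set_option autoImplicit false

namespace Cfsg.Agent.Lib.Helper71_S3RedB

open Cfsg.Agent.Lib.Helper71_S3Wt Cfsg.Agent.Lib.Helper71_S3LinA Cfsg.Agent.Lib.Helper71_S3LinB
  Cfsg.Agent.Lib.Helper71_HHBInd

variable {𝔽 : Type*} [Field 𝔽] {W : Type*} [AddCommGroup W] [Module 𝔽 W]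

section norm

variable (R : Subgroup (W ≃ₗ[𝔽] W)) [Fintype R]

/-- the norm (trace) endomorphism of a finite group of linear maps -/
def nrm : Module.End 𝔽 W := ∑ r : R, toEnd (r : W ≃ₗ[𝔽] W)

theorem nrm_apply (w : W) : nrm R w = ∑ r : R, (r : W ≃ₗ[𝔽] W) w := by
  unfold nrm
  rw [LinearMap.sum_apply]
  rfl

theorem apply_nrm {r₀ : W ≃ₗ[𝔽] W} (h : r₀ ∈ R) (w : W) : r₀ (nrm R w) = nrm R w := by
  rw [nrm_apply, map_sum]
  exact Fintype.sum_equiv (Equiv.mulLeft (⟨r₀, h⟩ : R)) _ _ (fun r => rfl)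

theorem nrm_comm {g : W ≃ₗ[𝔽] W} (hg : g ∈ Subgroup.normalizer (R : Set (W ≃ₗ[𝔽] W))) (w : W) :
    nrm R (g w) = g (nrm R w) := by
  rw [nrm_apply, nrm_apply, map_sum]
  let e : R ≃ R :=
    { toFun := fun r => ⟨g⁻¹ * r * g, inv_conj_mem_of_mem_normalizer hg r.2⟩
      invFun := fun r => ⟨g * r * g⁻¹, conj_mem_of_mem_normalizer hg r.2⟩
      left_inv := by
        intro r
        apply Subtype.ext
        show g * (g⁻¹ * (r : W ≃ₗ[𝔽] W) * g) * g⁻¹ = r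
        group
      right_inv := by
        intro r
        apply Subtype.ext
        show g⁻¹ * (g * (r : W ≃ₗ[𝔽] W) * g⁻¹) * g = r
        group }
  apply Fintype.sum_equiv e
  intro r
  have h1 : (r : W ≃ₗ[𝔽] W) * g = g * (g⁻¹ * (r : W ≃ₗ[𝔽] W) * g) := by group
  show ((r : W ≃ₗ[𝔽] W) * g) w = (g * (g⁻¹ * (r : W ≃ₗ[𝔽] W) * g)) w
  rw [← h1]

theorem eq_zero_of_fixed (hcard : (Nat.card R : 𝔽) ≠ 0) (w : W) (hw : nrm R w = 0)
    (hfix : ∀ r ∈ R, r w = w) : w = 0 := by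
  rw [nrm_apply] at hw
  have h1 : ∑ r : R, (r : W ≃ₗ[𝔽] W) w = ∑ _r : R, w :=
    Finset.sum_congr rfl (fun r _ => hfix r r.2)
  rw [h1, Finset.sum_const, Finset.card_univ, ← Nat.card_eq_fintype_card,
    ← Nat.cast_smul_eq_nsmul 𝔽] at hw
  rcases smul_eq_zero.1 hw with h2 | h2
  · exact absurd h2 hcard
  · exact h2

theorem exists_ne_zero_nrm (h : ∃ r ∈ R, r ≠ 1) : ∃ u : W, u ≠ 0 ∧ nrm R u = 0 := by
  obtain ⟨r₀, hr₀, hne⟩ := h
  have : ∃ w : W, r₀ w ≠ w := by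
    by_contra hcon
    push Not at hcon
    apply hne
    ext w
    exact hcon w
  obtain ⟨w, hw⟩ := this
  refine ⟨r₀ w - w, sub_ne_zero.2 hw, ?_⟩
  rw [map_sub, nrm_comm R (Subgroup.le_normalizer hr₀), apply_nrm R hr₀, sub_self]

end norm

/-- minimal non-zero invariant subspaces -/
theorem exists_minimal_invariant_subspace [FiniteDimensional 𝔽 W] (S : Set (W ≃ₗ[𝔽] W))
    (W₁ : Submodule 𝔽 W) (hW₁ : W₁ ≠ ⊥) (hinv : ∀ g ∈ S, ∀ w ∈ W₁, g w ∈ W₁) :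
    ∃ U : Submodule 𝔽 W, U ≠ ⊥ ∧ U ≤ W₁ ∧ (∀ g ∈ S, ∀ w ∈ U, g w ∈ U) ∧
      ∀ U' : Submodule 𝔽 W, U' ≤ U → (∀ g ∈ S, ∀ w ∈ U', g w ∈ U') → U' = ⊥ ∨ U' = U := by
  classical
  let P : Submodule 𝔽 W → Prop := fun U => U ≠ ⊥ ∧ U ≤ W₁ ∧ ∀ g ∈ S, ∀ w ∈ U, g w ∈ U
  have hex : ∃ n, ∃ U, P U ∧ Module.finrank 𝔽 U = n := ⟨_, W₁, ⟨hW₁, le_rfl, hinv⟩, rfl⟩
  obtain ⟨U, hUP, hUn⟩ := Nat.find_spec hex
  refine ⟨U, hUP.1, hUP.2.1, hUP.2.2, ?_⟩
  intro U' hle hU'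
  by_cases h0 : U' = ⊥
  · exact Or.inl h0
  · right
    have h1 : Nat.find hex ≤ Module.finrank 𝔽 U' :=
      Nat.find_min' hex ⟨U', ⟨h0, hle.trans hUP.2.1, hU'⟩, rfl⟩
    rw [← hUn] at h1
    exact Submodule.eq_of_le_of_finrank_le hle h1

/-- **The representation-theoretic core of the reduction.** -/
theorem false_of_rep {G : Type*} [Group G] [Finite G] [Group.IsSolvable G]
    (hcop : (Nat.card G).Coprime 6)
    (φ : Equiv.Perm (Fin 3) →* MulAut G) (hfix : ∀ g : G, (∀ a, φ a g = g) → g = 1)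
    [IsAlgClosed 𝔽] (t : ℕ) [Fact t.Prime] [CharP 𝔽 t] (ht3 : t ≠ 3)
    [FiniteDimensional 𝔽 W]
    (ρ : G →* (W ≃ₗ[𝔽] W)) (α : Equiv.Perm (Fin 3) →* (W ≃ₗ[𝔽] W))
    (hcompat : ∀ a g, α a * ρ g * (α a)⁻¹ = ρ (φ a g))
    (hfixW : ∀ w : W, (∀ a, α a w = w) → w = 0)
    (M : Subgroup G) [M.Normal] (hMφ : ∀ a, ∀ x ∈ M, φ a x ∈ M)
    (hMcard : (Nat.card (M.map ρ) : 𝔽) ≠ 0) (hM1 : ∃ m ∈ M, ρ m ≠ 1)
    (hM : M ≤ ρ.ker ⊔ commutator G) : False := by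
  classical
  obtain ⟨R, hR⟩ : ∃ R, R = M.map ρ := ⟨_, rfl⟩
  have hfinR : Finite R := by
    rw [hR]
    exact Finite.of_surjective (fun m : M => (⟨ρ m, ⟨m, m.2, rfl⟩⟩ : M.map ρ))
      (by
        rintro ⟨_, ⟨m, hm, rfl⟩⟩
        exact ⟨⟨m, hm⟩, rfl⟩)
  let _ : Fintype R := Fintype.ofFinite R
  rw [← hR] at hMcard
  -- `R` is normalised by `ρ G` and `α A`
  have hRρ : ∀ g, ρ g ∈ Subgroup.normalizer (R : Set (W ≃ₗ[𝔽] W)) := by
    intro g
    apply mem_normalizer_of_forall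
    · intro x hx
      rw [hR] at hx ⊢
      obtain ⟨m, hm, rfl⟩ := hx
      refine ⟨g * m * g⁻¹, ‹M.Normal›.conj_mem m hm g, ?_⟩
      rw [map_mul, map_mul, map_inv]
    · intro x hx
      rw [hR] at hx ⊢
      obtain ⟨m, hm, rfl⟩ := hx
      refine ⟨g⁻¹ * m * g, ?_, ?_⟩
      · have := ‹M.Normal›.conj_mem m hm g⁻¹
        rwa [inv_inv] at this
      · rw [map_mul, map_mul, map_inv]
  have hcompat' : ∀ a g, (α a)⁻¹ * ρ g * α a = ρ (φ a⁻¹ g) := by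
    intro a g
    have := hcompat a⁻¹ g
    rw [map_inv, inv_inv] at this
    exact this
  have hRα : ∀ a, α a ∈ Subgroup.normalizer (R : Set (W ≃ₗ[𝔽] W)) := by
    intro a
    apply mem_normalizer_of_forall
    · intro x hx
      rw [hR] at hx ⊢
      obtain ⟨m, hm, rfl⟩ := hx
      exact ⟨φ a m, hMφ a m hm, (hcompat a m).symm⟩
    · intro x hx
      rw [hR] at hx ⊢
      obtain ⟨m, hm, rfl⟩ := hx
      exact ⟨φ a⁻¹ m, hMφ a⁻¹ m hm, (hcompat' a m).symm⟩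
  -- the kernel of the norm
  obtain ⟨W₁, hW₁⟩ : ∃ W₁ : Submodule 𝔽 W, W₁ = LinearMap.ker (nrm R) := ⟨_, rfl⟩
  have hmemW₁ : ∀ w, w ∈ W₁ ↔ nrm R w = 0 := by
    intro w
    rw [hW₁, LinearMap.mem_ker]
  have hW₁0 : W₁ ≠ ⊥ := by
    obtain ⟨u, hu0, hu⟩ := exists_ne_zero_nrm R (by
      obtain ⟨m, hm, hne⟩ := hM1
      exact ⟨ρ m, by rw [hR]; exact ⟨m, hm, rfl⟩, hne⟩)
    intro h
    apply hu0
    have : u ∈ W₁ := (hmemW₁ u).2 hu
    rw [h, Submodule.mem_bot] at this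
    exact this
  obtain ⟨S, hS⟩ : ∃ S : Set (W ≃ₗ[𝔽] W), S = Set.range ρ ∪ Set.range α := ⟨_, rfl⟩
  have hW₁S : ∀ g ∈ S, ∀ w ∈ W₁, g w ∈ W₁ := by
    intro g hg w hw
    rw [hmemW₁] at hw ⊢
    rw [hS] at hg
    rcases hg with ⟨g, rfl⟩ | ⟨a, rfl⟩
    · rw [nrm_comm R (hRρ g), hw, map_zero]
    · rw [nrm_comm R (hRα a), hw, map_zero]
  obtain ⟨V', hV'0, hV'W₁, hV'S, hV'min⟩ := exists_minimal_invariant_subspace S W₁ hW₁0 hW₁S
  -- the restricted representations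
  have hρst : ∀ g, ρ g ∈ stab V' := by
    intro g
    apply mem_stab_of_forall
    · exact hV'S (ρ g) (by rw [hS]; exact Or.inl ⟨g, rfl⟩)
    · rw [← map_inv]
      exact hV'S (ρ g⁻¹) (by rw [hS]; exact Or.inl ⟨g⁻¹, rfl⟩)
  have hαst : ∀ a, α a ∈ stab V' := by
    intro a
    apply mem_stab_of_forall
    · exact hV'S (α a) (by rw [hS]; exact Or.inr ⟨a, rfl⟩)
    · rw [← map_inv]
      exact hV'S (α a⁻¹) (by rw [hS]; exact Or.inr ⟨a⁻¹, rfl⟩)
  obtain ⟨ρ', hρ'⟩ : ∃ ρ' : G →* (V' ≃ₗ[𝔽] V'),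
      ρ' = (resHom V').comp (ρ.codRestrict (stab V') hρst) := ⟨_, rfl⟩
  obtain ⟨α', hα'⟩ : ∃ α' : Equiv.Perm (Fin 3) →* (V' ≃ₗ[𝔽] V'),
      α' = (resHom V').comp (α.codRestrict (stab V') hαst) := ⟨_, rfl⟩
  have hρ'app : ∀ g (w : V'), ((ρ' g w : V') : W) = ρ g (w : W) := by
    intro g w
    rw [hρ']
    rfl
  have hα'app : ∀ a (w : V'), ((α' a w : V') : W) = α a (w : W) := by
    intro a w
    rw [hα']
    rfl
  have hcompat'' : ∀ a g, α' a * ρ' g * (α' a)⁻¹ = ρ' (φ a g) := by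
    intro a g
    rw [hρ', hα']
    show resHom V' ⟨α a, hαst a⟩ * resHom V' ⟨ρ g, hρst g⟩ * (resHom V' ⟨α a, hαst a⟩)⁻¹ =
      resHom V' ⟨ρ (φ a g), hρst _⟩
    rw [← map_inv, ← map_mul, ← map_mul]
    congr 1
    apply Subtype.ext
    exact hcompat a g
  obtain ⟨K', hK'⟩ : ∃ K' : Subgroup (V' ≃ₗ[𝔽] V'), K' = ρ'.range := ⟨_, rfl⟩
  have hfinK' : Finite K' := by
    rw [hK']
    exact Finite.of_surjective ρ'.rangeRestrict ρ'.rangeRestrict_surjective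
  have hsolvK' : Group.IsSolvable K' := by
    rw [hK']
    exact Group.isSolvable_of_surjective ρ'.rangeRestrict_surjective
  have hcopK' : (Nat.card K').Coprime 6 := by
    rw [hK']
    exact Nat.Coprime.coprime_dvd_left (Subgroup.card_range_dvd ρ') hcop
  have hH : Hyp K' α' := by
    refine ⟨?_, ?_, ?_, ?_⟩
    · intro a
      apply mem_normalizer_of_forall
      · intro x hx
        rw [hK'] at hx ⊢
        obtain ⟨g, rfl⟩ := hx
        exact ⟨φ a g, (hcompat'' a g).symm⟩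
      · intro x hx
        rw [hK'] at hx ⊢
        obtain ⟨g, rfl⟩ := hx
        refine ⟨φ a⁻¹ g, ?_⟩
        have := hcompat'' a⁻¹ g
        rw [map_inv, inv_inv] at this
        exact this.symm
    · intro k hk hka
      rw [hK'] at hk
      obtain ⟨g, rfl⟩ := hk
      -- lift the fixed point
      have hNφ : ∀ a, ∀ x ∈ ρ'.ker, φ a x ∈ ρ'.ker := by
        intro a x hx
        rw [MonoidHom.mem_ker] at hx ⊢
        rw [← hcompat'' a x, hx, mul_one, mul_inv_cancel]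
      have hNcop : (Nat.card ρ'.ker).Coprime 6 :=
        Nat.Coprime.coprime_dvd_left (Subgroup.card_subgroup_dvd_card _) hcop
      have hg : ∀ a, g⁻¹ * φ a g ∈ ρ'.ker := by
        intro a
        rw [MonoidHom.mem_ker, map_mul, map_inv, ← hcompat'' a g, hka a, inv_mul_cancel]
      obtain ⟨n, hn, hgn⟩ :=
        Cfsg.Agent.Lib.Helper87_S3T4.exists_fixed_in_coset_s3 φ ρ'.ker hNcop hNφ g hg
      have h1 : g * n = 1 := hfix _ hgn
      rw [MonoidHom.mem_ker] at hn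
      have h2 : ρ' (g * n) = 1 := by rw [h1, map_one]
      rw [map_mul, hn, mul_one] at h2
      exact h2
    · intro w hw
      apply Subtype.ext
      apply hfixW
      intro a
      rw [← hα'app, hw a]
    · intro U hUK hUA
      have hmap : ∀ g ∈ S, ∀ w ∈ U.map V'.subtype, g w ∈ U.map V'.subtype := by
        intro g hg w hw
        obtain ⟨u, hu, rfl⟩ := hw
        rw [hS] at hg
        rcases hg with ⟨g, rfl⟩ | ⟨a, rfl⟩
        · refine ⟨ρ' g u, hUK _ (by rw [hK']; exact ⟨g, rfl⟩) u hu, ?_⟩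
          exact hρ'app g u
        · refine ⟨α' a u, hUA a u hu, ?_⟩
          exact hα'app a u
      have hle : U.map V'.subtype ≤ V' := by
        rintro _ ⟨u, _, rfl⟩
        exact u.2
      rcases hV'min _ hle hmap with h1 | h1
      · left
        rw [eq_bot_iff]
        intro u hu
        rw [Submodule.mem_bot]
        have : (u : W) ∈ U.map V'.subtype := ⟨u, hu, rfl⟩
        rw [h1, Submodule.mem_bot] at this
        exact Subtype.ext this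
      · right
        rw [eq_top_iff]
        intro u _
        have : (u : W) ∈ U.map V'.subtype := by
          rw [h1]
          exact u.2
        obtain ⟨u', hu', he⟩ := this
        have : u' = u := Subtype.ext he
        rw [← this]
        exact hu'
  have hcomm := Cfsg.Agent.Lib.Helper71_S3Lin.comm_of_s3 t ht3 K' hsolvK' hcopK' α' hH
  -- `M` acts trivially on `V'`
  have hker : ρ.ker ⊔ commutator G ≤ ρ'.ker := by
    apply sup_le
    · intro c hc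
      rw [MonoidHom.mem_ker] at hc ⊢
      ext w
      rw [hρ'app, hc]
      rfl
    · rw [commutator_def, Subgroup.commutator_le]
      intro g₁ _ g₂ _
      rw [MonoidHom.mem_ker, commutatorElement_def]
      simp only [map_mul, map_inv]
      have := hcomm (ρ' g₁) (by rw [hK']; exact ⟨g₁, rfl⟩) (ρ' g₂) (by rw [hK']; exact ⟨g₂, rfl⟩)
      rw [this]
      group
  apply hV'0
  rw [eq_bot_iff]
  intro w hw
  rw [Submodule.mem_bot]
  apply eq_zero_of_fixed R hMcard w ((hmemW₁ w).1 (hV'W₁ hw))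
  intro r hr
  rw [hR] at hr
  obtain ⟨m, hm, rfl⟩ := hr
  have h1 : ρ' m = 1 := hker (hM hm)
  have h2 := hρ'app m ⟨w, hw⟩
  rw [h1] at h2
  exact h2.symm

end Cfsg.Agent.Lib.Helper71_S3RedB
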