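import Mathlib

set_option autoImplicit false

/-!
T9 for helper71 (S4305, Shult's `S₃` theorem): the dual representation of an elementary abelian
normal subgroup `V` of `G` on `W := Additive V →+ 𝔽`.
-/

namespace Cfsg.Agent.Lib.Helper75_S3T9

universe u v

section dual

variable {H : Type u} [Group H] (𝔽 : Type v) [Field 𝔽]

/-- the dual action of `σ : MulAut H` on `Additive H →+ 𝔽`: `(σ • ℓ) x = ℓ (σ⁻¹ x)` -/
def dualEquiv (σ : MulAut H) : (Additive H →+ 𝔽) ≃ₗ[𝔽] (Additive H →+ 𝔽) where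
  toFun ℓ := ℓ.comp (MonoidHom.toAdditive ((σ⁻¹ : MulAut H) : H ≃* H).toMonoidHom)
  map_add' ℓ₁ ℓ₂ := by ext x; rfl
  map_smul' c ℓ := by ext x; rfl
  invFun ℓ := ℓ.comp (MonoidHom.toAdditive (σ : H ≃* H).toMonoidHom)
  left_inv ℓ := by
    ext x
    change ℓ (Additive.ofMul (σ⁻¹ (σ (Additive.toMul x)))) = ℓ x
    rw [MulAut.inv_apply_self]
    rfl
  right_inv ℓ := by
    ext x
    change ℓ (Additive.ofMul (σ (σ⁻¹ (Additive.toMul x)))) = ℓ x
    rw [MulAut.apply_inv_self]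
    rfl

theorem dualEquiv_apply (σ : MulAut H) (ℓ : Additive H →+ 𝔽) (x : Additive H) :
    dualEquiv 𝔽 σ ℓ x = ℓ (Additive.ofMul (σ⁻¹ (Additive.toMul x))) := rfl

/-- the dual action as a homomorphism -/
def dual : MulAut H →* ((Additive H →+ 𝔽) ≃ₗ[𝔽] (Additive H →+ 𝔽)) where
  toFun := dualEquiv 𝔽
  map_one' := by
    refine LinearEquiv.ext fun ℓ => AddMonoidHom.ext fun x => ?_
    rw [dualEquiv_apply, inv_one, MulAut.one_apply]
    rfl
  map_mul' σ τ := by
    refine LinearEquiv.ext fun ℓ => AddMonoidHom.ext fun x => ?_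
    rw [LinearEquiv.mul_apply, dualEquiv_apply, dualEquiv_apply, dualEquiv_apply, mul_inv_rev,
      MulAut.mul_apply]
    rfl

theorem dual_apply (σ : MulAut H) : dual 𝔽 σ = dualEquiv 𝔽 σ := rfl

theorem finiteDimensional_dual [Finite H] : FiniteDimensional 𝔽 (Additive H →+ 𝔽) := by
  let ev : (Additive H →+ 𝔽) →ₗ[𝔽] (H → 𝔽) :=
    { toFun := fun ℓ x => ℓ (Additive.ofMul x)
      map_add' := fun _ _ => rfl
      map_smul' := fun _ _ => rfl }
  refine FiniteDimensional.of_injective ev ?_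
  intro ℓ₁ ℓ₂ h
  ext x
  exact congrFun h (Additive.toMul x)

end dual

theorem exists_hom_ne_zero_aux {A : Type u} [AddCommGroup A] (t : ℕ) [Fact t.Prime]
    [Module (ZMod t) A] (𝔽 : Type v) [Field 𝔽] [CharP 𝔽 t] {x : A} (hx : x ≠ 0) :
    ∃ ℓ : A →+ 𝔽, ℓ x ≠ 0 := by
  obtain ⟨f, hf⟩ := Module.Projective.exists_dual_ne_zero (ZMod t) hx
  refine ⟨(ZMod.castHom (dvd_refl t) 𝔽).toAddMonoidHom.comp f.toAddMonoidHom, ?_⟩
  intro h0
  apply hf
  have h1 : (ZMod.castHom (dvd_refl t) 𝔽) (f x) = 0 := h0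
  exact (map_eq_zero_iff _ (RingHom.injective _)).1 h1

/-- separation of points of an elementary abelian `t`-group by `𝔽`-valued additive maps -/
theorem exists_hom_ne_zero {A : Type u} [AddCommGroup A] (t : ℕ) [Fact t.Prime]
    (hA : ∀ x : A, t • x = 0) (𝔽 : Type v) [Field 𝔽] [CharP 𝔽 t] {x : A} (hx : x ≠ 0) :
    ∃ ℓ : A →+ 𝔽, ℓ x ≠ 0 :=
  @exists_hom_ne_zero_aux A _ t _ (AddCommGroup.zmodModule hA) 𝔽 _ _ x hx

/-- the dual action is faithful -/
theorem eq_one_of_dualEquiv_eq_one {H : Type u} [CommGroup H] (t : ℕ) [Fact t.Prime]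
    (hH : ∀ x : H, x ^ t = 1) (𝔽 : Type v) [Field 𝔽] [CharP 𝔽 t] (σ : MulAut H)
    (h : dualEquiv 𝔽 σ = 1) : σ = 1 := by
  have hA : ∀ x : Additive H, t • x = 0 := by
    intro x
    change Additive.ofMul ((Additive.toMul x) ^ t) = 0
    rw [hH]
    rfl
  have key : ∀ y : H, σ⁻¹ y = y := by
    intro y
    by_contra hne
    have hx : Additive.ofMul (σ⁻¹ y) - Additive.ofMul y ≠ 0 := by
      intro h0
      exact hne (Additive.ofMul.injective (sub_eq_zero.1 h0))
    obtain ⟨ℓ, hℓ⟩ := exists_hom_ne_zero t hA 𝔽 hx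
    apply hℓ
    have h1 : dualEquiv 𝔽 σ ℓ (Additive.ofMul y) = ℓ (Additive.ofMul y) := by
      rw [h]
      rfl
    rw [dualEquiv_apply] at h1
    rw [map_sub, sub_eq_zero]
    exact h1
  have h2 : σ⁻¹ = 1 := by
    ext y
    rw [key y, MulAut.one_apply]
  exact inv_eq_one.1 h2

/-- invariant functionals vanish when the acting group has no fixed points and invertible order -/
theorem eq_zero_of_invariant {H : Type u} [CommGroup H] {Γ : Type*} [Group Γ] [Fintype Γ]
    (θ : Γ →* MulAut H) (hfix : ∀ x : H, (∀ a, θ a x = x) → x = 1) (𝔽 : Type v) [Field 𝔽]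
    (hcard : ((Fintype.card Γ : ℕ) : 𝔽) ≠ 0) (w : Additive H →+ 𝔽)
    (hw : ∀ a, dualEquiv 𝔽 (θ a) w = w) : w = 0 := by
  ext x
  obtain ⟨x', rfl⟩ := Additive.ofMul.surjective x
  have hy : ∀ b, θ b (∏ a, θ a x') = ∏ a, θ a x' := by
    intro b
    rw [map_prod]
    refine Fintype.prod_equiv (Equiv.mulLeft b) _ _ (fun a => ?_)
    rw [Equiv.coe_mulLeft, map_mul, MulAut.mul_apply]
  have h1 := hfix _ hy
  have h2 : w (Additive.ofMul (∏ a, θ a x')) = ∑ a, w (Additive.ofMul (θ a x')) := by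
    rw [ofMul_prod, map_sum]
  have h3 : ∀ a, w (Additive.ofMul (θ a x')) = w (Additive.ofMul x') := by
    intro a
    have h4 := DFunLike.congr_fun (hw a⁻¹) (Additive.ofMul x')
    rw [dualEquiv_apply, map_inv, inv_inv] at h4
    exact h4
  rw [h1, ofMul_one, map_zero, Finset.sum_congr rfl (fun a _ => h3 a), Finset.sum_const,
    Finset.card_univ, nsmul_eq_mul] at h2
  exact (mul_eq_zero.1 h2.symm).resolve_left hcard

/-- restriction of an action by automorphisms to an invariant subgroup -/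
def resAut {G : Type u} [Group G] {Γ : Type*} [Group Γ] (φ : Γ →* MulAut G) (V : Subgroup G)
    (hV : ∀ a, ∀ x ∈ V, φ a x ∈ V) : Γ →* MulAut V where
  toFun a :=
    { toFun := fun x => ⟨φ a x, hV a x x.2⟩
      invFun := fun x => ⟨φ a⁻¹ x, hV a⁻¹ x x.2⟩
      left_inv := fun x => Subtype.ext (by
        change φ a⁻¹ (φ a x) = x
        rw [map_inv, MulAut.inv_apply_self])
      right_inv := fun x => Subtype.ext (by
        change φ a (φ a⁻¹ x) = x
        rw [map_inv, MulAut.apply_inv_self])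
      map_mul' := fun x y => Subtype.ext (map_mul (φ a) (x : G) (y : G)) }
  map_one' := by
    ext x
    change φ 1 (x : G) = x
    rw [map_one, MulAut.one_apply]
  map_mul' a b := by
    ext x
    change φ (a * b) (x : G) = φ a (φ b x)
    rw [map_mul, MulAut.mul_apply]

theorem resAut_apply {G : Type u} [Group G] {Γ : Type*} [Group Γ] (φ : Γ →* MulAut G)
    (V : Subgroup G) (hV : ∀ a, ∀ x ∈ V, φ a x ∈ V) (a : Γ) (x : V) :
    ((resAut φ V hV a x : V) : G) = φ a x := rfl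

theorem six_ne_zero' (t : ℕ) [Fact t.Prime] (ht2 : t ≠ 2) (ht3 : t ≠ 3) (𝔽 : Type v) [Field 𝔽]
    [CharP 𝔽 t] : ((Fintype.card (Equiv.Perm (Fin 3)) : ℕ) : 𝔽) ≠ 0 := by
  have hc : Fintype.card (Equiv.Perm (Fin 3)) = 6 := by
    rw [Fintype.card_perm, Fintype.card_fin]
    rfl
  rw [hc]
  intro h
  have hd : t ∣ 2 * 3 := (CharP.cast_eq_zero_iff 𝔽 t 6).1 h
  have ht : t.Prime := Fact.out
  rcases (Nat.Prime.dvd_mul ht).1 hd with h' | h'
  · exact ht2 ((Nat.prime_dvd_prime_iff_eq ht Nat.prime_two).1 h')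
  · exact ht3 ((Nat.prime_dvd_prime_iff_eq ht Nat.prime_three).1 h')

/-- **T9 (helper71, S4305).** -/
theorem exists_dual_rep {G : Type u} [Group G] [Finite G]
    (φ : Equiv.Perm (Fin 3) →* MulAut G) (V : Subgroup G) [V.Normal]
    (hVφ : ∀ a, ∀ x ∈ V, φ a x ∈ V) (hVc : ∀ x ∈ V, ∀ y ∈ V, x * y = y * x)
    (t : ℕ) [Fact t.Prime] (hVt : ∀ x ∈ V, x ^ t = 1) (ht2 : t ≠ 2) (ht3 : t ≠ 3)
    (hfix : ∀ x ∈ V, (∀ a, φ a x = x) → x = 1)
    (𝔽 : Type v) [Field 𝔽] [CharP 𝔽 t] :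
    ∃ (W : Type (max u v)) (_ : AddCommGroup W) (_ : Module 𝔽 W) (_ : FiniteDimensional 𝔽 W)
      (ρ : G →* (W ≃ₗ[𝔽] W)) (α : Equiv.Perm (Fin 3) →* (W ≃ₗ[𝔽] W)),
      (∀ a g, α a * ρ g * (α a)⁻¹ = ρ (φ a g)) ∧
      (∀ g, ρ g = 1 ↔ g ∈ Subgroup.centralizer (V : Set G)) ∧
      (∀ w : W, (∀ a, α a w = w) → w = 0) := by
  classical
  letI instC : CommGroup V :=
    { (inferInstance : Group V) with
      mul_comm := fun x y => Subtype.ext (hVc x x.2 y y.2) }
  have hVt' : ∀ x : V, x ^ t = 1 := fun x => Subtype.ext (by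
    rw [Subgroup.coe_pow, hVt x x.2, Subgroup.coe_one])
  refine ⟨Additive V →+ 𝔽, inferInstance, inferInstance, finiteDimensional_dual 𝔽,
    (dual 𝔽).comp (MulAut.conjNormal (H := V)), (dual 𝔽).comp (resAut φ V hVφ), ?_, ?_, ?_⟩
  · intro a g
    rw [MonoidHom.comp_apply, MonoidHom.comp_apply, MonoidHom.comp_apply, ← map_inv, ← map_mul,
      ← map_mul]
    congr 1
    ext x
    rw [MulAut.mul_apply, MulAut.mul_apply, resAut_apply, MulAut.conjNormal_apply,
      MulAut.conjNormal_apply, map_mul, map_mul, map_inv]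
    congr 2
    have : ((resAut φ V hVφ a) ((resAut φ V hVφ a)⁻¹ x) : G) = x := by
      rw [MulAut.apply_inv_self]
    rw [resAut_apply] at this
    exact this
  · intro g
    constructor
    · intro h
      rw [MonoidHom.comp_apply, dual_apply] at h
      have h1 := eq_one_of_dualEquiv_eq_one t hVt' 𝔽 _ h
      rw [Subgroup.mem_centralizer_iff]
      intro x hx
      have h2 := congrArg (fun σ : MulAut V => ((σ ⟨x, hx⟩ : V) : G)) h1
      simp only [MulAut.conjNormal_apply, MulAut.one_apply] at h2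
      conv_lhs => rw [← h2]
      group
    · intro h
      rw [Subgroup.mem_centralizer_iff] at h
      have h1 : (MulAut.conjNormal (H := V)) g = 1 := by
        ext x
        rw [MulAut.conjNormal_apply, MulAut.one_apply, ← h x x.2]
        group
      rw [MonoidHom.comp_apply, h1, map_one]
  · intro w hw
    refine eq_zero_of_invariant (resAut φ V hVφ) ?_ 𝔽 (six_ne_zero' t ht2 ht3 𝔽) w ?_
    · intro x hx
      apply Subtype.ext
      rw [Subgroup.coe_one]
      refine hfix x x.2 (fun a => ?_)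
      rw [← resAut_apply φ V hVφ a x, hx a]
    · intro a
      exact hw a

end Cfsg.Agent.Lib.Helper75_S3T9
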