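import Mathlib
import Cfsg.Agent.Lib.Helper71_S3RedB
import Cfsg.Agent.Lib.Helper71_HHB
import Cfsg.Agent.Lib.Helper87_S3T4
import Cfsg.Agent.Lib.Helper75_S3T9

set_option autoImplicit false

namespace Cfsg.Agent.Lib.Helper71_S3Red

open Cfsg.Agent.Lib.Helper87_S3T4

theorem phi_inv_apply {G : Type*} [Group G] {A : Type*} [Group A] (φ : A →* MulAut G) (a : A)
    (g : G) : φ a (φ a⁻¹ g) = g := by
  rw [← MulAut.mul_apply, ← map_mul, mul_inv_cancel, map_one]
  rfl

/-- a group acting as a `t`-group on a non-trivial normal `t`-subgroup has a non-trivial fixed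
point there -/
theorem exists_fixed_ne_one {G : Type*} [Group G] [Finite G] (V M : Subgroup G) [V.Normal] (t : ℕ)
    [Fact t.Prime] (hV0 : V ≠ ⊥) (hVt : ∀ x ∈ V, x ^ t = 1)
    (hMt : ∀ m ∈ M, m ^ t ∈ Subgroup.centralizer (V : Set G)) :
    ∃ x ∈ V, x ≠ 1 ∧ ∀ m ∈ M, m * x * m⁻¹ = x := by
  classical
  obtain ⟨P, hP⟩ : ∃ P : Subgroup (MulAut V), P = M.map (MulAut.conjNormal (H := V)) := ⟨_, rfl⟩
  have hPt : IsPGroup t P := by
    rintro ⟨p, hp⟩
    refine ⟨1, ?_⟩
    apply Subtype.ext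
    rw [hP] at hp
    obtain ⟨m, hm, rfl⟩ := hp
    show (MulAut.conjNormal m) ^ t ^ 1 = 1
    rw [pow_one, ← map_pow]
    ext x
    rw [MulAut.conjNormal_apply]
    have h1 := Subgroup.mem_centralizer_iff.1 (hMt m hm) x x.2
    show m ^ t * x * (m ^ t)⁻¹ = x
    rw [← h1, mul_inv_cancel_right]
  have hVp : IsPGroup t V := by
    intro x
    refine ⟨1, ?_⟩
    apply Subtype.ext
    rw [pow_one]
    exact hVt x x.2
  have hdvd : t ∣ Nat.card V := by
    rcases hVp.card_eq_or_dvd with h | h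
    · exact absurd (Subgroup.card_eq_one.1 h) hV0
    · exact h
  have h1fix : (1 : V) ∈ MulAction.fixedPoints P V := by
    intro p
    show (p : MulAut V) 1 = 1
    exact map_one _
  obtain ⟨b, hb, hb1⟩ := hPt.exists_fixed_point_of_prime_dvd_card_of_fixed_point V hdvd h1fix
  refine ⟨b, b.2, ?_, ?_⟩
  · intro h
    apply hb1
    exact (Subtype.ext h).symm
  · intro m hm
    have h2 := hb ⟨MulAut.conjNormal m, by rw [hP]; exact ⟨m, hm, rfl⟩⟩
    have h3 : (MulAut.conjNormal m) b = b := h2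
    have h4 := congrArg Subtype.val h3
    rw [MulAut.conjNormal_apply] at h4
    exact h4

/-- **Key step**: the derived subgroup centralises a minimal `A`-invariant normal subgroup. -/
theorem commutator_le_centralizer.{u} {G : Type u} [Group G] [Finite G] [Group.IsSolvable G]
    (hcop : (Nat.card G).Coprime 6)
    (φ : Equiv.Perm (Fin 3) →* MulAut G) (hfix : ∀ g : G, (∀ a, φ a g = g) → g = 1)
    (V : Subgroup G) (hV0 : V ≠ ⊥) [hVn : V.Normal] (hVφ : ∀ a, ∀ x ∈ V, φ a x ∈ V)
    (hVmin : ∀ M : Subgroup G, M.Normal → (∀ a, ∀ x ∈ M, φ a x ∈ M) → M ≤ V → M = ⊥ ∨ M = V) :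
    commutator G ≤ Subgroup.centralizer (V : Set G) := by
  classical
  obtain ⟨hVc, t, ht, hVt⟩ := minimal_invariant_props φ V hV0 hVn hVφ hVmin
  have : Fact t.Prime := ⟨ht⟩
  have htG : t ∣ Nat.card G := by
    obtain ⟨x, hx, hx1⟩ : ∃ x ∈ V, x ≠ 1 := by
      by_contra hcon
      push Not at hcon
      exact hV0 ((Subgroup.eq_bot_iff_forall V).2 hcon)
    have h1 : orderOf x ∣ t := orderOf_dvd_of_pow_eq_one (hVt x hx)
    have h2 : orderOf x = t := by
      rcases (Nat.dvd_prime ht).1 h1 with h | h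
      · exact absurd (orderOf_eq_one_iff.1 h) hx1
      · exact h
    rw [← h2]
    exact orderOf_dvd_natCard x
  have htcop : t.Coprime 6 := Nat.Coprime.coprime_dvd_left htG hcop
  have ht2 : t ≠ 2 := by
    rintro rfl
    revert htcop
    decide
  have ht3 : t ≠ 3 := by
    rintro rfl
    revert htcop
    decide
  obtain ⟨W, iW1, iW2, iW3, ρ, α, hcompat, hker, hfixW⟩ :=
    Cfsg.Agent.Lib.Helper75_S3T9.exists_dual_rep φ V hVφ hVc t hVt ht2 ht3
      (fun x _ hx => hfix x hx) (AlgebraicClosure (ZMod t))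
  by_contra hD
  obtain ⟨C, hC⟩ : ∃ C : Subgroup G, C = Subgroup.centralizer (V : Set G) := ⟨_, rfl⟩
  rw [← hC] at hD
  have hCn : C.Normal := by
    rw [hC]
    infer_instance
  have hCφ : ∀ a, ∀ x ∈ C, φ a x ∈ C := by
    intro a x hx
    rw [hC, Subgroup.mem_centralizer_iff] at hx ⊢
    intro h hh
    have h1 := hx (φ a⁻¹ h) (hVφ a⁻¹ h hh)
    have h2 := congrArg (φ a) h1
    rw [map_mul, map_mul, phi_inv_apply] at h2
    exact h2
  have hDφ : ∀ a, ∀ x ∈ commutator G, φ a x ∈ commutator G := by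
    rw [commutator_def]
    exact commutator_invariant φ ⊤ (fun _ _ _ => Subgroup.mem_top _)
  obtain ⟨L, hL⟩ : ∃ L : Subgroup G, L = C ⊔ commutator G := ⟨_, rfl⟩
  have hLn : L.Normal := by
    rw [hL]
    infer_instance
  have hLφ : ∀ a, ∀ x ∈ L, φ a x ∈ L := by
    intro a x hx
    have h1 : L.map (φ a).toMonoidHom = L := by
      rw [hL, Subgroup.map_sup, map_eq_of_invariant φ C hCφ a,
        map_eq_of_invariant φ (commutator G) hDφ a]
    rw [← h1]
    exact ⟨x, hx, rfl⟩
  have hCL : C < L := by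
    rw [hL]
    apply lt_of_le_of_ne le_sup_left
    intro h
    apply hD
    rw [h]
    exact le_sup_right
  obtain ⟨M, hCM, hML, hMn, hMφ, hMmin⟩ :=
    exists_minimal_invariant_between φ C L hCn hCφ hLn hLφ hCL
  obtain ⟨-, v, hv, hMv⟩ := minimal_between_props φ C M hCn hCφ hMn hMφ hCM hMmin
  have : Fact v.Prime := ⟨hv⟩
  -- `v ≠ t`
  have hvt : t ≠ v := by
    intro hvt
    obtain ⟨x, hxV, hx1, hxM⟩ := exists_fixed_ne_one V M t hV0 hVt (by
      intro m hm
      rw [hvt, ← hC]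
      exact hMv m hm)
    obtain ⟨Y, hY⟩ : ∃ Y : Subgroup G, Y = V ⊓ Subgroup.centralizer (M : Set G) := ⟨_, rfl⟩
    have hYn : Y.Normal := by
      rw [hY]
      infer_instance
    have hYφ : ∀ a, ∀ y ∈ Y, φ a y ∈ Y := by
      intro a y hy
      rw [hY, Subgroup.mem_inf] at hy ⊢
      refine ⟨hVφ a y hy.1, ?_⟩
      rw [Subgroup.mem_centralizer_iff]
      intro m hm
      have h1 := Subgroup.mem_centralizer_iff.1 hy.2 (φ a⁻¹ m) (hMφ a⁻¹ m hm)
      have h2 := congrArg (φ a) h1
      rw [map_mul, map_mul, phi_inv_apply] at h2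
      exact h2
    have hxY : x ∈ Y := by
      rw [hY, Subgroup.mem_inf]
      refine ⟨hxV, ?_⟩
      rw [Subgroup.mem_centralizer_iff]
      intro m hm
      have := hxM m hm
      calc m * x = (m * x * m⁻¹) * m := by group
        _ = x * m := by rw [this]
    rcases hVmin Y hYn hYφ (by rw [hY]; exact inf_le_left) with h | h
    · rw [h, Subgroup.mem_bot] at hxY
      exact hx1 hxY
    · have h1 : V ≤ Subgroup.centralizer (M : Set G) := by
        rw [← h, hY]
        exact inf_le_right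
      have h2 : M ≤ C := by
        rw [hC]
        exact Subgroup.le_centralizer_iff.1 h1
      exact absurd (lt_of_lt_of_le hCM h2) (lt_irrefl _)
  have hkerC : ∀ g, g ∈ C ↔ ρ g = 1 := by
    intro g
    rw [hC, hker]
  have hfinR : Finite (M.map ρ) :=
    Finite.of_surjective (fun m : M => (⟨ρ m, ⟨m, m.2, rfl⟩⟩ : M.map ρ))
      (by
        rintro ⟨_, ⟨m, hm, rfl⟩⟩
        exact ⟨⟨m, hm⟩, rfl⟩)
  have hRv : IsPGroup v (M.map ρ) := by
    rintro ⟨_, ⟨m, hm, rfl⟩⟩
    refine ⟨1, ?_⟩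
    apply Subtype.ext
    show ρ m ^ v ^ 1 = 1
    rw [pow_one, ← map_pow, ← hkerC]
    exact hMv m hm
  have hMn' : M.Normal := hMn
  apply Cfsg.Agent.Lib.Helper71_S3RedB.false_of_rep hcop φ hfix t ht3 ρ α hcompat hfixW M hMφ
  · exact Cfsg.Agent.Lib.Helper71_HHB.card_ne_zero_of_isPGroup t v hvt hRv
  · obtain ⟨m, hm, hmC⟩ := SetLike.exists_of_lt hCM
    exact ⟨m, hm, fun h => hmC ((hkerC m).2 h)⟩
  · apply le_trans hML
    rw [hL]
    apply sup_le_sup_right
    intro c hc
    rw [MonoidHom.mem_ker, ← hkerC]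
    exact hc

/-- **Shult's theorem for `S₃`**, inductive form. -/
theorem s3_main.{u} (n : ℕ) : ∀ (G : Type u) [Group G] [Finite G] [Group.IsSolvable G]
    (φ : Equiv.Perm (Fin 3) →* MulAut G), Nat.card G = n → (Nat.card G).Coprime 6 →
    (∀ g : G, (∀ a, φ a g = g) → g = 1) → Group.IsNilpotent ↥(commutator G) := by
  induction n using Nat.strong_induction_on with
  | _ n ih =>
  intro G _ _ _ φ hn hcop hfix
  by_cases hnt : Nontrivial G
  swap
  · rw [not_nontrivial_iff_subsingleton] at hnt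
    infer_instance
  obtain ⟨V, hV0, hVn, hVφ, hVmin⟩ := exists_minimal_invariant φ
  have hkey := commutator_le_centralizer hcop φ hfix V hV0 hVφ hVmin
  have hcardV : 1 < Nat.card V := by
    have : Nontrivial V := (Subgroup.nontrivial_iff_ne_bot V).2 hV0
    exact Finite.one_lt_card
  have hmul := Subgroup.card_eq_card_quotient_mul_card_subgroup V
  have hpos : 0 < Nat.card (G ⧸ V) := Nat.card_pos
  have hcard : Nat.card (G ⧸ V) < n := by
    rw [← hn, hmul]
    nlinarith
  have hcop' : (Nat.card (G ⧸ V)).Coprime 6 :=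
    Nat.Coprime.coprime_dvd_left ⟨_, hmul⟩ hcop
  have hcopV : (Nat.card V).Coprime 6 :=
    Nat.Coprime.coprime_dvd_left (Subgroup.card_subgroup_dvd_card V) hcop
  have hfix' : ∀ q : G ⧸ V, (∀ a, quotHom φ V hVφ a q = q) → q = 1 := by
    intro q hq
    induction q using QuotientGroup.induction_on with
    | H g =>
      have hg : ∀ a, g⁻¹ * φ a g ∈ V := by
        intro a
        have := hq a
        rw [quotHom_mk] at this
        exact QuotientGroup.eq.1 this.symm
      obtain ⟨x, hx, hgx⟩ := exists_fixed_in_coset_s3 φ V hcopV hVφ g hg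
      have h1 : g * x = 1 := hfix _ hgx
      have h2 : g = x⁻¹ := eq_inv_of_mul_eq_one_left h1
      rw [QuotientGroup.eq_one_iff, h2]
      exact V.inv_mem hx
  have hIH := ih _ hcard (G ⧸ V) (quotHom φ V hVφ) rfl hcop' hfix'
  -- the map `G' → (G/V)'`
  have hmem : ∀ x : commutator G,
      ((QuotientGroup.mk' V).comp (commutator G).subtype) x ∈ commutator (G ⧸ V) := by
    intro x
    have h1 : (commutator G).map (QuotientGroup.mk' V) ≤ commutator (G ⧸ V) := by
      rw [commutator_def, commutator_def, Subgroup.map_commutator]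
      exact Subgroup.commutator_mono le_top le_top
    exact h1 ⟨x, x.2, rfl⟩
  have := hIH
  apply Subgroup.isNilpotent_of_ker_le_center
    (((QuotientGroup.mk' V).comp (commutator G).subtype).codRestrict (commutator (G ⧸ V)) hmem)
  intro x hx
  rw [MonoidHom.mem_ker] at hx
  have hx' : ((x : G) : G ⧸ V) = 1 := congrArg Subtype.val hx
  rw [QuotientGroup.eq_one_iff] at hx'
  rw [Subgroup.mem_center_iff]
  intro y
  apply Subtype.ext
  have := Subgroup.mem_centralizer_iff.1 (hkey y.2) x hx'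
  exact this.symm

end Cfsg.Agent.Lib.Helper71_S3Red
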