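import Mathlib
import Cfsg.Agent.Lib.Helper54_F25

/-!
# Helper71_SU36_E5dData

Kernel-friendly arithmetic for the field with twenty-five elements: an element `a + b t` (`t² = 2`) of
`Helper54_F25.F25` is coded by the natural number `5 a + b`.  The coded operations are plain
`Nat` arithmetic, so that `decide +kernel` evaluates them quickly; `dec` decodes, and is a homomorphism for
every coded operation (no side conditions).  On top: `3 × 3` matrices and vectors as nested tuples of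
codes, the nine coset representatives `S^j Z^k` of the Heisenberg group `3^{1+2}` modulo its centre, and
the two point invariants `inv9N`, `inv36N` that cut out the `45` centres of the involutions of
`3.M_10 < SU_3(5)`, with the finite facts about the two explicit matrices `TmN`, `UmN` used in
`Helper71_SU36_E5dB`.
-/

set_option autoImplicit false

namespace Cfsg.Agent.Lib.Helper71_SU36_E5dData

open Cfsg.Agent.Lib.Helper54_F25

/-! ### coded field arithmetic -/

def addc (x y : ℕ) : ℕ := 5 * ((x / 5 + y / 5) % 5) + (x % 5 + y % 5) % 5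
def mulc (x y : ℕ) : ℕ :=
  5 * ((x / 5 * (y / 5) + 2 * (x % 5 * (y % 5))) % 5) + (x / 5 * (y % 5) + x % 5 * (y / 5)) % 5
def negc (x : ℕ) : ℕ := 5 * ((5 - x / 5 % 5) % 5) + (5 - x % 5) % 5
def cjc (x : ℕ) : ℕ := 5 * (x / 5 % 5) + (5 - x % 5) % 5

/-- decoding -/
def dec (n : ℕ) : F25 := F25.mk ((n / 5 : ℕ) : ZMod 5) ((n % 5 : ℕ) : ZMod 5)
/-- coding -/
def enc (x : F25) : ℕ := 5 * x.re.val + x.im.val

theorem enc_lt (x : F25) : enc x < 25 := by
  have h1 := ZMod.val_lt x.re
  have h2 := ZMod.val_lt x.im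
  unfold enc
  omega

theorem dec_mk (P Q : ℕ) (hQ : Q < 5) : dec (5 * P + Q) = F25.mk (P : ZMod 5) (Q : ZMod 5) := by
  unfold dec
  have h1 : (5 * P + Q) / 5 = P := by omega
  have h2 : (5 * P + Q) % 5 = Q := by omega
  rw [h1, h2]

theorem dec_enc (x : F25) : dec (enc x) = x := by
  unfold enc
  rw [dec_mk _ _ (ZMod.val_lt x.im)]
  apply F25.ext <;> simp

theorem dec_inj : ∀ x < 25, ∀ y < 25, dec x = dec y → x = y := by decide

theorem addc_lt (x y : ℕ) : addc x y < 25 := by unfold addc; omega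
theorem mulc_lt (x y : ℕ) : mulc x y < 25 := by unfold mulc; omega
theorem negc_lt (x : ℕ) : negc x < 25 := by unfold negc; omega
theorem cjc_lt (x : ℕ) : cjc x < 25 := by unfold cjc; omega

theorem dec_addc (x y : ℕ) : dec (addc x y) = dec x + dec y := by
  unfold addc
  rw [dec_mk _ _ (Nat.mod_lt _ (by norm_num))]
  apply F25.ext <;> simp [dec, ZMod.natCast_mod]

theorem dec_mulc (x y : ℕ) : dec (mulc x y) = dec x * dec y := by
  unfold mulc
  rw [dec_mk _ _ (Nat.mod_lt _ (by norm_num))]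
  apply F25.ext <;> simp [dec, ZMod.natCast_mod]

theorem cast_neg5 (a : ℕ) : ((5 - a % 5 : ℕ) : ZMod 5) = -(a : ZMod 5) := by
  have h5 : ((5 : ℕ) : ZMod 5) = 0 := ZMod.natCast_self 5
  rw [Nat.cast_sub (Nat.mod_lt a (by norm_num)).le, ZMod.natCast_mod, h5, zero_sub]

theorem dec_negc (x : ℕ) : dec (negc x) = -dec x := by
  unfold negc
  rw [dec_mk _ _ (Nat.mod_lt _ (by norm_num))]
  apply F25.ext <;> simp [dec, cast_neg5, ZMod.natCast_mod]

theorem dec_cjc (x : ℕ) : dec (cjc x) = F25.conj (dec x) := by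
  unfold cjc
  rw [dec_mk _ _ (Nat.mod_lt _ (by norm_num))]
  apply F25.ext <;> simp [dec, cast_neg5, F25.conj, ZMod.natCast_mod]

theorem dec_zero : dec 0 = 0 := by decide
theorem dec_five : dec 5 = 1 := by decide

/-! ### coded vectors and matrices -/

/-- coded vectors -/
abbrev VN := ℕ × ℕ × ℕ
/-- coded matrices, by rows -/
abbrev MN := VN × VN × VN

def dotc (u v : VN) : ℕ := addc (addc (mulc u.1 v.1) (mulc u.2.1 v.2.1)) (mulc u.2.2 v.2.2)
def mvc (m : MN) (v : VN) : VN := (dotc m.1 v, dotc m.2.1 v, dotc m.2.2 v)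
def cjV (v : VN) : VN := (cjc v.1, cjc v.2.1, cjc v.2.2)
def hermc (u v : VN) : ℕ := dotc u (cjV v)
/-- the determinant of the matrix with columns `a`, `b`, `c` -/
def det3cN (a b c : VN) : ℕ :=
  addc (addc (mulc a.1 (addc (mulc b.2.1 c.2.2) (negc (mulc b.2.2 c.2.1))))
    (negc (mulc b.1 (addc (mulc a.2.1 c.2.2) (negc (mulc a.2.2 c.2.1))))))
    (mulc c.1 (addc (mulc a.2.1 b.2.2) (negc (mulc a.2.2 b.2.1))))
def tripcN (m : MN) (v : VN) : ℕ := det3cN v (mvc m v) (mvc m (mvc m v))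
def transN (m : MN) : MN :=
  ((m.1.1, m.2.1.1, m.2.2.1), (m.1.2.1, m.2.1.2.1, m.2.2.2.1), (m.1.2.2, m.2.1.2.2, m.2.2.2.2))
def rowmulN (r : VN) (b : MN) : VN :=
  (dotc r (transN b).1, dotc r (transN b).2.1, dotc r (transN b).2.2)
def mmulN (a b : MN) : MN := (rowmulN a.1 b, rowmulN a.2.1 b, rowmulN a.2.2 b)
def cjMN (m : MN) : MN := (cjV m.1, cjV m.2.1, cjV m.2.2)
def oneN : MN := ((5, 0, 0), (0, 5, 0), (0, 0, 5))
def detMN (m : MN) : ℕ := det3cN m.1 m.2.1 m.2.2
def mpowN (m : MN) : ℕ → MN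
  | 0 => oneN
  | n + 1 => mmulN (mpowN m n) m

theorem dotc_lt (u v : VN) : dotc u v < 25 := addc_lt _ _
theorem hermc_lt (u v : VN) : hermc u v < 25 := addc_lt _ _
theorem det3cN_lt (a b c : VN) : det3cN a b c < 25 := addc_lt _ _
theorem tripcN_lt (m : MN) (v : VN) : tripcN m v < 25 := addc_lt _ _

/-! ### the data: `ζ = 2 + 3 t` has code `13`, `ζ² = 2 + 2 t` has code `12` -/

/-- the shift `e_i ↦ e_{i+1}` -/
def SmN : MN := ((0, 0, 5), (5, 0, 0), (0, 5, 0))
/-- `diag(1, ζ, ζ²)` -/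
def ZmN : MN := ((5, 0, 0), (0, 13, 0), (0, 0, 12))
/-- `S^j Z^k` -/
def repN (j k : ℕ) : MN := mmulN (mpowN SmN j) (mpowN ZmN k)

/-- the nine matrices `S^j Z^k` -/
def reps9N : List MN :=
  [((5, 0, 0), (0, 5, 0), (0, 0, 5)),
   ((5, 0, 0), (0, 13, 0), (0, 0, 12)),
   ((5, 0, 0), (0, 12, 0), (0, 0, 13)),
   ((0, 0, 5), (5, 0, 0), (0, 5, 0)),
   ((0, 0, 12), (5, 0, 0), (0, 13, 0)),
   ((0, 0, 13), (5, 0, 0), (0, 12, 0)),
   ((0, 5, 0), (0, 0, 5), (5, 0, 0)),
   ((0, 13, 0), (0, 0, 12), (5, 0, 0)),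
   ((0, 12, 0), (0, 0, 13), (5, 0, 0))]

/-- the involution `-1 + 2 p pᵀ`, `p = (1, 1, 2)` -/
def TmN : MN := ((5, 10, 20), (10, 5, 20), (20, 20, 10))
/-- `diag(-1, -1, 1)` -/
def UmN : MN := ((20, 0, 0), (0, 20, 0), (0, 0, 5))

theorem repN_mem : ∀ j k : Fin 3, repN j k ∈ reps9N := by decide +kernel
theorem exists_repN : ∀ m ∈ reps9N, ∃ j k : Fin 3, m = repN j k := by decide +kernel

theorem TmN_sq : mmulN TmN TmN = oneN := by decide +kernel
theorem TmN_gram : mmulN (transN TmN) (cjMN TmN) = oneN := by decide +kernel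
theorem TmN_det : detMN TmN = 5 := by decide +kernel
theorem UmN_sq : mmulN UmN UmN = oneN := by decide +kernel
theorem UmN_gram : mmulN (transN UmN) (cjMN UmN) = oneN := by decide +kernel
theorem UmN_det : detMN UmN = 5 := by decide +kernel

/-! ### the invariants -/

/-- the nine centres: `det [w, r w, r² w] = 0` for every `r` -/
def inv9N (w : VN) : Prop := hermc w w ≠ 0 ∧ ∀ m ∈ reps9N, tripcN m w = 0
/-- the thirty-six other centres -/
def inv36N (w : VN) : Prop :=
  hermc w w ≠ 0 ∧ (∃ m ∈ reps9N, hermc w (mvc m w) = 0) ∧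
    ∀ m ∈ reps9N, hermc w (mvc m w) = 0 → mulc (tripcN m w) (tripcN m w) = hermc w w
def invN (w : VN) : Prop := inv9N w ∨ inv36N w

instance : DecidablePred inv9N := fun w => by unfold inv9N; infer_instance
instance : DecidablePred inv36N := fun w => by unfold inv36N; infer_instance
instance : DecidablePred invN := fun w => by unfold invN; infer_instance

set_option maxRecDepth 1000000 in
theorem dT1 : ∀ a ∈ List.range 25, ∀ b ∈ List.range 25, invN (5, a, b) → invN (mvc TmN (5, a, b)) := by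
  decide +kernel

set_option maxRecDepth 1000000 in
theorem dT2 : ∀ a ∈ List.range 25, invN (0, 5, a) → invN (mvc TmN (0, 5, a)) := by
  decide +kernel

set_option maxRecDepth 1000000 in
theorem dT3 : invN (0, 0, 5) → invN (mvc TmN (0, 0, 5)) := by
  decide +kernel

set_option maxRecDepth 1000000 in
theorem dT9 : inv9N (5, 0, 20) ∧ ¬ inv9N (mvc TmN (5, 0, 20)) := by
  decide +kernel

set_option maxRecDepth 1000000 in
theorem dU : invN (5, 5, 10) ∧ ¬ invN (mvc UmN (5, 5, 10)) := by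
  decide +kernel

end Cfsg.Agent.Lib.Helper71_SU36_E5dData
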