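import Mathlib
import Cfsg.Prelude.Def_GeometricClasses
import Cfsg.Prelude.Def_LieClassical
import Cfsg.Agent.Lib.Helper13_Herm
import Cfsg.Agent.Lib.Helper13_GU
import Cfsg.Agent.Lib.Helper13_HermBridge
import Cfsg.Agent.Lib.Helper54_F25
import Cfsg.Agent.Lib.Helper71_SU36_E5dData

/-!
# Helper71_SU36_E5dB

Part (B) of package SU36-E5d: over a field `F` with `25` elements and `z² + z + 1 = 0`, the normalizer in
`SU_3(5)` of the Heisenberg group `{z^i Sh^j (Dg z)^k}` (extraspecial `3^{1+2}`) is not maximal in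
`SU_3(5)`: it lies in the stabilizer of a set of `45` non-isotropic points (the centres of the involutions
of `3.M_10`), which is a proper subgroup strictly containing it.

The point set is cut out by two invariants attached to the group `H` itself,
* `inv9`: `h(v,v) ≠ 0` and `det [v, r v, r² v] = 0` for all `r ∈ H`;
* `inv36`: `h(v,v) ≠ 0`, some `r ∈ H` has `h(v, r v) = 0`, and every such `r` has
  `det [v, r v, r² v]² = h(v,v)`;
so that the normalizer of `H` in `SU_3` preserves it for free.  The explicit involution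
`T = -1 + 2 p pᵀ`, `p = (1,1,2)`, preserves `inv9 ∨ inv36` but not `inv9`, and `diag(-1,-1,1)` does not
preserve `inv9 ∨ inv36`; these finite facts are checked in the coded model `Helper71_SU36_E5dData`.
-/

set_option autoImplicit false

namespace Cfsg.Agent.Lib.Helper71_SU36_E5dB

open Matrix Cfsg.Geo
open Cfsg.Agent.Lib.Helper54_F25 Cfsg.Agent.Lib.Helper71_SU36_E5dData

/-! ### generic part: invariants of a subgroup of `GL_3` -/

section generic
variable {F : Type*} [Field F]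

/-- the matrix with columns `a`, `b`, `c` -/
def colsM (a b c : Fin 3 → F) : Matrix (Fin 3) (Fin 3) F := Matrix.of fun i j => ![a, b, c] j i

theorem mul_colsM (M : Matrix (Fin 3) (Fin 3) F) (a b c : Fin 3 → F) :
    M * colsM a b c = colsM (M *ᵥ a) (M *ᵥ b) (M *ᵥ c) := by
  ext i j
  fin_cases j <;> simp [colsM, Matrix.mul_apply, Matrix.mulVec, dotProduct]

theorem smul_colsM (x : F) (a b c : Fin 3 → F) :
    colsM (x • a) (x • b) (x • c) = x • colsM a b c := by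
  ext i j
  fin_cases j <;> simp [colsM]

/-- `det [v, r v, r² v]` -/
def trip (r : Matrix (Fin 3) (Fin 3) F) (v : Fin 3 → F) : F :=
  (colsM v (r *ᵥ v) (r *ᵥ (r *ᵥ v))).det

theorem conj_mulVec (h : GL (Fin 3) F) (r : Matrix (Fin 3) (Fin 3) F) (v : Fin 3 → F) :
    ((h : Matrix (Fin 3) (Fin 3) F) * r * ((h⁻¹ : GL (Fin 3) F) : Matrix (Fin 3) (Fin 3) F)) *ᵥ
        ((h : Matrix (Fin 3) (Fin 3) F) *ᵥ v) = (h : Matrix (Fin 3) (Fin 3) F) *ᵥ (r *ᵥ v) := by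
  have h1 : ((h⁻¹ : GL (Fin 3) F) : Matrix (Fin 3) (Fin 3) F) * (h : Matrix (Fin 3) (Fin 3) F) = 1 := by
    rw [← Units.val_mul, inv_mul_cancel, Units.val_one]
  rw [Matrix.mulVec_mulVec, mul_assoc, h1, mul_one, Matrix.mulVec_mulVec]

theorem trip_conj (h : GL (Fin 3) F) (r : Matrix (Fin 3) (Fin 3) F) (v : Fin 3 → F) :
    trip ((h : Matrix (Fin 3) (Fin 3) F) * r * ((h⁻¹ : GL (Fin 3) F) : Matrix (Fin 3) (Fin 3) F))
        ((h : Matrix (Fin 3) (Fin 3) F) *ᵥ v) = (h : Matrix (Fin 3) (Fin 3) F).det * trip r v := by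
  unfold trip
  rw [conj_mulVec, conj_mulVec, ← mul_colsM, Matrix.det_mul]

theorem trip_smul_left (x : F) (r : Matrix (Fin 3) (Fin 3) F) (v : Fin 3 → F) :
    trip (x • r) v = x ^ 3 * trip r v := by
  unfold trip
  simp only [Matrix.smul_mulVec, Matrix.mulVec_smul, Matrix.det_fin_three, colsM, Matrix.of_apply,
    Matrix.cons_val_zero, Matrix.cons_val_one, Matrix.cons_val_two, Pi.smul_apply, smul_eq_mul,
    Matrix.head_cons, Matrix.tail_cons]
  ring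

theorem trip_smul_right (x : F) (r : Matrix (Fin 3) (Fin 3) F) (v : Fin 3 → F) :
    trip r (x • v) = x ^ 3 * trip r v := by
  unfold trip
  rw [Matrix.mulVec_smul, Matrix.mulVec_smul, smul_colsM, Matrix.det_smul, Fintype.card_fin]

variable (q : ℕ) (H : Subgroup (GL (Fin 3) F))

/-- first invariant (the nine centres) -/
def inv9 (v : Fin 3 → F) : Prop :=
  Cfsg.hermForm 3 F q v v ≠ 0 ∧ ∀ r ∈ H, trip (r : Matrix (Fin 3) (Fin 3) F) v = 0

/-- second invariant (the thirty-six centres) -/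
def inv36 (v : Fin 3 → F) : Prop :=
  Cfsg.hermForm 3 F q v v ≠ 0 ∧
    (∃ r ∈ H, Cfsg.hermForm 3 F q v ((r : Matrix (Fin 3) (Fin 3) F) *ᵥ v) = 0) ∧
    ∀ r ∈ H, Cfsg.hermForm 3 F q v ((r : Matrix (Fin 3) (Fin 3) F) *ᵥ v) = 0 →
      trip (r : Matrix (Fin 3) (Fin 3) F) v ^ 2 = Cfsg.hermForm 3 F q v v

variable {q H}

theorem forall_conj {h : GL (Fin 3) F} (hN : h ∈ subgroupNormalizer H) (P : GL (Fin 3) F → Prop) :
    (∀ r ∈ H, P r) ↔ ∀ r ∈ H, P (h * r * h⁻¹) := by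
  constructor
  · intro hP r hr
    exact hP _ ((Subgroup.mem_normalizer_iff.mp hN r).mp hr)
  · intro hP r hr
    have h1 : h⁻¹ * r * h ∈ H := (Subgroup.mem_normalizer_iff''.mp hN r).mp hr
    have h2 := hP _ h1
    have h3 : h * (h⁻¹ * r * h) * h⁻¹ = r := by group
    rwa [h3] at h2

theorem exists_conj {h : GL (Fin 3) F} (hN : h ∈ subgroupNormalizer H) (P : GL (Fin 3) F → Prop) :
    (∃ r ∈ H, P r) ↔ ∃ r ∈ H, P (h * r * h⁻¹) := by
  constructor
  · rintro ⟨r, hr, hP⟩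
    have h1 : h⁻¹ * r * h ∈ H := (Subgroup.mem_normalizer_iff''.mp hN r).mp hr
    have h3 : h * (h⁻¹ * r * h) * h⁻¹ = r := by group
    exact ⟨_, h1, by rwa [h3]⟩
  · rintro ⟨r, hr, hP⟩
    exact ⟨_, (Subgroup.mem_normalizer_iff.mp hN r).mp hr, hP⟩

theorem trip_conj' {h : GL (Fin 3) F} (hS : h ∈ specialLinear (Fin 3) F) (r : GL (Fin 3) F)
    (v : Fin 3 → F) :
    trip ((h * r * h⁻¹ : GL (Fin 3) F) : Matrix (Fin 3) (Fin 3) F)
      ((h : Matrix (Fin 3) (Fin 3) F) *ᵥ v) = trip (r : Matrix (Fin 3) (Fin 3) F) v := by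
  have hd : (h : Matrix (Fin 3) (Fin 3) F).det = 1 := by
    have h1 : Matrix.GeneralLinearGroup.det h = 1 := hS
    have h2 := congrArg Units.val h1
    simpa using h2
  rw [Units.val_mul, Units.val_mul, trip_conj, hd, one_mul]

theorem herm_conj' {h : GL (Fin 3) F} (hU : h ∈ Cfsg.GU 3 F q) (r : GL (Fin 3) F)
    (v : Fin 3 → F) :
    Cfsg.hermForm 3 F q ((h : Matrix (Fin 3) (Fin 3) F) *ᵥ v)
      (((h * r * h⁻¹ : GL (Fin 3) F) : Matrix (Fin 3) (Fin 3) F) *ᵥ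
        ((h : Matrix (Fin 3) (Fin 3) F) *ᵥ v)) =
      Cfsg.hermForm 3 F q v ((r : Matrix (Fin 3) (Fin 3) F) *ᵥ v) := by
  rw [Units.val_mul, Units.val_mul, conj_mulVec]
  exact (Cfsg.Agent.Lib.Helper13_GU.mem_GU_iff h).mp hU _ _

theorem inv9_conj {h : GL (Fin 3) F} (hN : h ∈ subgroupNormalizer H) (hU : h ∈ Cfsg.GU 3 F q)
    (hS : h ∈ specialLinear (Fin 3) F) (v : Fin 3 → F) :
    inv9 q H ((h : Matrix (Fin 3) (Fin 3) F) *ᵥ v) ↔ inv9 q H v := by
  unfold inv9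
  rw [forall_conj hN (fun r => trip (r : Matrix (Fin 3) (Fin 3) F)
    ((h : Matrix (Fin 3) (Fin 3) F) *ᵥ v) = 0)]
  have hn : Cfsg.hermForm 3 F q ((h : Matrix (Fin 3) (Fin 3) F) *ᵥ v)
      ((h : Matrix (Fin 3) (Fin 3) F) *ᵥ v) = Cfsg.hermForm 3 F q v v :=
    (Cfsg.Agent.Lib.Helper13_GU.mem_GU_iff h).mp hU _ _
  rw [hn]
  simp only [trip_conj' hS]

theorem inv36_conj {h : GL (Fin 3) F} (hN : h ∈ subgroupNormalizer H) (hU : h ∈ Cfsg.GU 3 F q)
    (hS : h ∈ specialLinear (Fin 3) F) (v : Fin 3 → F) :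
    inv36 q H ((h : Matrix (Fin 3) (Fin 3) F) *ᵥ v) ↔ inv36 q H v := by
  unfold inv36
  rw [forall_conj hN (fun r => Cfsg.hermForm 3 F q ((h : Matrix (Fin 3) (Fin 3) F) *ᵥ v)
      ((r : Matrix (Fin 3) (Fin 3) F) *ᵥ ((h : Matrix (Fin 3) (Fin 3) F) *ᵥ v)) = 0 →
      trip (r : Matrix (Fin 3) (Fin 3) F) ((h : Matrix (Fin 3) (Fin 3) F) *ᵥ v) ^ 2 =
        Cfsg.hermForm 3 F q ((h : Matrix (Fin 3) (Fin 3) F) *ᵥ v)
          ((h : Matrix (Fin 3) (Fin 3) F) *ᵥ v)),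
    exists_conj hN (fun r => Cfsg.hermForm 3 F q ((h : Matrix (Fin 3) (Fin 3) F) *ᵥ v)
      ((r : Matrix (Fin 3) (Fin 3) F) *ᵥ ((h : Matrix (Fin 3) (Fin 3) F) *ᵥ v)) = 0)]
  have hn : Cfsg.hermForm 3 F q ((h : Matrix (Fin 3) (Fin 3) F) *ᵥ v)
      ((h : Matrix (Fin 3) (Fin 3) F) *ᵥ v) = Cfsg.hermForm 3 F q v v :=
    (Cfsg.Agent.Lib.Helper13_GU.mem_GU_iff h).mp hU _ _
  rw [hn]
  simp only [trip_conj' hS, herm_conj' hU]

/-- the subgroup of `GL_3` preserving a predicate on vectors -/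
def stabPred (P : (Fin 3 → F) → Prop) : Subgroup (GL (Fin 3) F) where
  carrier := {g | ∀ v, P ((g : Matrix (Fin 3) (Fin 3) F) *ᵥ v) ↔ P v}
  one_mem' := by
    intro v
    simp
  mul_mem' := by
    intro a b ha hb v
    show P (((a * b : GL (Fin 3) F) : Matrix (Fin 3) (Fin 3) F) *ᵥ v) ↔ P v
    rw [Units.val_mul, ← Matrix.mulVec_mulVec]
    exact (ha _).trans (hb v)
  inv_mem' := by
    intro a ha v
    have h1 := ha (((a⁻¹ : GL (Fin 3) F) : Matrix (Fin 3) (Fin 3) F) *ᵥ v)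
    rw [Matrix.mulVec_mulVec, ← Units.val_mul, mul_inv_cancel, Units.val_one,
      Matrix.one_mulVec] at h1
    exact h1.symm

theorem mem_stabPred {P : (Fin 3 → F) → Prop} {g : GL (Fin 3) F} :
    g ∈ stabPred P ↔ ∀ v, P ((g : Matrix (Fin 3) (Fin 3) F) *ᵥ v) ↔ P v := Iff.rfl

/-- the abstract non-maximality criterion -/
theorem not_max_of_inv (T u : GL (Fin 3) F)
    (hT : T ∈ Cfsg.GU 3 F q ⊓ specialLinear (Fin 3) F)
    (hu : u ∈ Cfsg.GU 3 F q ⊓ specialLinear (Fin 3) F)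
    (hT1 : T ∈ stabPred (fun v => inv9 q H v ∨ inv36 q H v))
    (hT2 : T ∉ stabPred (inv9 q H))
    (hu1 : u ∉ stabPred (fun v => inv9 q H v ∨ inv36 q H v)) :
    ¬ IsMaximalIn (Cfsg.GU 3 F q ⊓ specialLinear (Fin 3) F)
      (subgroupNormalizer H ⊓ (Cfsg.GU 3 F q ⊓ specialLinear (Fin 3) F)) := by
  rintro ⟨-, hmax⟩
  have h9 : ∀ h ∈ subgroupNormalizer H ⊓ (Cfsg.GU 3 F q ⊓ specialLinear (Fin 3) F),
      h ∈ stabPred (inv9 q H) := fun h hh v => inv9_conj hh.1 hh.2.1 hh.2.2 v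
  have h36 : ∀ h ∈ subgroupNormalizer H ⊓ (Cfsg.GU 3 F q ⊓ specialLinear (Fin 3) F),
      h ∈ stabPred (inv36 q H) := fun h hh v => inv36_conj hh.1 hh.2.1 hh.2.2 v
  have hle : subgroupNormalizer H ⊓ (Cfsg.GU 3 F q ⊓ specialLinear (Fin 3) F) ≤
      stabPred (fun v => inv9 q H v ∨ inv36 q H v) ⊓
        (Cfsg.GU 3 F q ⊓ specialLinear (Fin 3) F) := by
    intro h hh
    refine ⟨fun v => ?_, hh.2⟩
    show (inv9 q H _ ∨ inv36 q H _) ↔ (inv9 q H v ∨ inv36 q H v)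
    rw [h9 h hh v, h36 h hh v]
  rcases hmax _ hle inf_le_right with h1 | h1
  · have h2 : T ∈ stabPred (fun v => inv9 q H v ∨ inv36 q H v) ⊓
        (Cfsg.GU 3 F q ⊓ specialLinear (Fin 3) F) := ⟨hT1, hT⟩
    rw [h1] at h2
    exact hT2 (h9 T h2)
  · have h2 : u ∈ stabPred (fun v => inv9 q H v ∨ inv36 q H v) ⊓
        (Cfsg.GU 3 F q ⊓ specialLinear (Fin 3) F) := by
      rw [h1]
      exact hu
    exact hu1 h2.1

end generic

/-! ### bridge to the coded model -/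

section bridge
variable {F : Type*} [Field F] (φ : F ≃+* F25)

/-- code of a vector -/
def cV (v : Fin 3 → F) : VN := (enc (φ (v 0)), enc (φ (v 1)), enc (φ (v 2)))
/-- code of a matrix -/
def cM (r : Matrix (Fin 3) (Fin 3) F) : MN := (cV φ (r 0), cV φ (r 1), cV φ (r 2))

theorem enc_phi_inj {x y : F} (h : enc (φ x) = enc (φ y)) : x = y :=
  φ.injective (by rw [← dec_enc (φ x), h, dec_enc])

theorem dec_dotc (a b : Fin 3 → F) : dec (dotc (cV φ a) (cV φ b)) = φ (a ⬝ᵥ b) := by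
  simp [dotc, cV, dec_addc, dec_mulc, dec_enc, dotProduct, Fin.sum_univ_three]

theorem cV_mulVec (r : Matrix (Fin 3) (Fin 3) F) (v : Fin 3 → F) :
    cV φ (r *ᵥ v) = mvc (cM φ r) (cV φ v) := by
  have key : ∀ i : Fin 3, enc (φ ((r *ᵥ v) i)) = dotc (cV φ (r i)) (cV φ v) := by
    intro i
    apply dec_inj _ (enc_lt _) _ (dotc_lt _ _)
    rw [dec_enc, dec_dotc]
    rfl
  show (enc (φ ((r *ᵥ v) 0)), enc (φ ((r *ᵥ v) 1)), enc (φ ((r *ᵥ v) 2))) = _
  rw [key 0, key 1, key 2]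
  rfl

theorem enc_pow5 (x : F) : enc (φ (x ^ 5)) = cjc (enc (φ x)) := by
  apply dec_inj _ (enc_lt _) _ (cjc_lt _)
  rw [dec_enc, dec_cjc, dec_enc, map_pow, F25.pow_five]

theorem cjV_cV (v : Fin 3 → F) : cjV (cV φ v) = cV φ (fun i => v i ^ 5) := by
  simp only [cjV, cV, enc_pow5]

theorem dec_hermc (u v : Fin 3 → F) :
    dec (hermc (cV φ u) (cV φ v)) = φ (Cfsg.hermForm 3 F 5 u v) := by
  unfold hermc
  rw [cjV_cV, dec_dotc]
  rfl

theorem dec_det3cN (a b c : Fin 3 → F) :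
    dec (det3cN (cV φ a) (cV φ b) (cV φ c)) = φ ((colsM a b c).det) := by
  rw [Matrix.det_fin_three]
  simp only [det3cN, cV, colsM, dec_addc, dec_mulc, dec_negc, dec_enc, Matrix.of_apply,
    Matrix.cons_val_zero, Matrix.cons_val_one, Matrix.cons_val_two, Matrix.head_cons,
    Matrix.tail_cons, map_add, map_sub, map_mul]
  ring

theorem dec_tripcN (r : Matrix (Fin 3) (Fin 3) F) (v : Fin 3 → F) :
    dec (tripcN (cM φ r) (cV φ v)) = φ (trip r v) := by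
  unfold tripcN trip
  rw [← cV_mulVec, ← cV_mulVec, dec_det3cN]

theorem code_eq_zero_iff {n : ℕ} (hn : n < 25) {x : F} (h : dec n = φ x) : n = 0 ↔ x = 0 := by
  constructor
  · intro h0
    subst h0
    rw [dec_zero] at h
    exact (map_eq_zero_iff φ φ.injective).mp h.symm
  · intro hx
    subst hx
    rw [map_zero] at h
    exact dec_inj n hn 0 (by norm_num) (h.trans dec_zero.symm)

theorem code_eq_iff {n m : ℕ} (hn : n < 25) (hm : m < 25) {x y : F} (h : dec n = φ x)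
    (h' : dec m = φ y) : n = m ↔ x = y := by
  constructor
  · intro h0
    subst h0
    exact φ.injective (h.symm.trans h')
  · intro hx
    subst hx
    exact dec_inj n hn m hm (h.trans h'.symm)

theorem hermc_eq_zero_iff (u v : Fin 3 → F) :
    hermc (cV φ u) (cV φ v) = 0 ↔ Cfsg.hermForm 3 F 5 u v = 0 :=
  code_eq_zero_iff φ (hermc_lt _ _) (dec_hermc φ u v)

theorem tripcN_eq_zero_iff (r : Matrix (Fin 3) (Fin 3) F) (v : Fin 3 → F) :
    tripcN (cM φ r) (cV φ v) = 0 ↔ trip r v = 0 :=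
  code_eq_zero_iff φ (tripcN_lt _ _) (dec_tripcN φ r v)

theorem tripcN_sq_iff (r : Matrix (Fin 3) (Fin 3) F) (v : Fin 3 → F) :
    mulc (tripcN (cM φ r) (cV φ v)) (tripcN (cM φ r) (cV φ v)) = hermc (cV φ v) (cV φ v) ↔
      trip r v ^ 2 = Cfsg.hermForm 3 F 5 v v := by
  apply code_eq_iff φ (mulc_lt _ _) (hermc_lt _ _) _ (dec_hermc φ v v)
  rw [dec_mulc, dec_tripcN, ← map_mul, pow_two]

theorem cM_transpose (A : Matrix (Fin 3) (Fin 3) F) : cM φ Aᵀ = transN (cM φ A) := rfl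

theorem cM_mul (A B : Matrix (Fin 3) (Fin 3) F) : cM φ (A * B) = mmulN (cM φ A) (cM φ B) := by
  have key : ∀ i j : Fin 3, enc (φ ((A * B) i j)) = dotc (cV φ (A i)) (cV φ (Bᵀ j)) := by
    intro i j
    apply dec_inj _ (enc_lt _) _ (dotc_lt _ _)
    rw [dec_enc, dec_dotc]
    rfl
  show ((enc (φ ((A * B) 0 0)), enc (φ ((A * B) 0 1)), enc (φ ((A * B) 0 2))),
    (enc (φ ((A * B) 1 0)), enc (φ ((A * B) 1 1)), enc (φ ((A * B) 1 2))),
    (enc (φ ((A * B) 2 0)), enc (φ ((A * B) 2 1)), enc (φ ((A * B) 2 2)))) = _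
  simp only [key]
  rfl

theorem enc_zero : enc 0 = 0 := by decide
theorem enc_one : enc 1 = 5 := by decide

theorem cM_one : cM φ (1 : Matrix (Fin 3) (Fin 3) F) = oneN := by
  simp [cM, cV, oneN, enc_zero, enc_one]

theorem cM_pow (A : Matrix (Fin 3) (Fin 3) F) (n : ℕ) : cM φ (A ^ n) = mpowN (cM φ A) n := by
  induction n with
  | zero => rw [pow_zero, cM_one]; rfl
  | succ n ih => rw [pow_succ, cM_mul, ih]; rfl

theorem cM_map_pow5 (A : Matrix (Fin 3) (Fin 3) F) :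
    cM φ (A.map (fun x => x ^ 5)) = cjMN (cM φ A) := by
  simp only [cM, cV, cjMN, cjV, Matrix.map_apply, enc_pow5]

theorem cM_inj {A B : Matrix (Fin 3) (Fin 3) F} (h : cM φ A = cM φ B) : A = B := by
  simp only [cM, cV, Prod.mk.injEq] at h
  obtain ⟨⟨h00, h01, h02⟩, ⟨h10, h11, h12⟩, h20, h21, h22⟩ := h
  ext i j
  fin_cases i <;> fin_cases j
  · exact enc_phi_inj φ h00
  · exact enc_phi_inj φ h01
  · exact enc_phi_inj φ h02
  · exact enc_phi_inj φ h10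
  · exact enc_phi_inj φ h11
  · exact enc_phi_inj φ h12
  · exact enc_phi_inj φ h20
  · exact enc_phi_inj φ h21
  · exact enc_phi_inj φ h22

theorem dec_detMN (A : Matrix (Fin 3) (Fin 3) F) : dec (detMN (cM φ A)) = φ A.det := by
  have h1 : colsM (A 0) (A 1) (A 2) = Aᵀ := by
    ext i j
    fin_cases j <;> rfl
  show dec (det3cN (cV φ (A 0)) (cV φ (A 1)) (cV φ (A 2))) = _
  rw [dec_det3cN, h1, Matrix.det_transpose]

end bridge

/-! ### the specific matrices -/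

section specific
variable {F : Type*} [Field F]

/-- the shift `e_i ↦ e_{i+1}` -/
def Sh : Matrix (Fin 3) (Fin 3) F := !![0,0,1;1,0,0;0,1,0]
/-- `diag(1, z, z²)` -/
def Dg (z : F) : Matrix (Fin 3) (Fin 3) F := Matrix.diagonal ![1, z, z^2]
/-- the involution `-1 + 2 p pᵀ`, `p = (1, 1, 2)` (in characteristic `5`) -/
def TF : Matrix (Fin 3) (Fin 3) F := !![1,2,4;2,1,4;4,4,2]
/-- `diag(-1, -1, 1)` (in characteristic `5`) -/
def UF : Matrix (Fin 3) (Fin 3) F := Matrix.diagonal ![4,4,1]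
/-- `Sh^j (Dg z)^k` -/
def Mjk (z : F) (j k : Fin 3) : Matrix (Fin 3) (Fin 3) F := Sh ^ (j : ℕ) * Dg z ^ (k : ℕ)

section codes
variable (φ : F ≃+* F25)

theorem enc_two : enc 2 = 10 := by decide
theorem enc_four : enc 4 = 20 := by decide
theorem enc_zeta : enc (F25.mk 2 3) = 13 := by decide
theorem enc_zeta2 : enc (F25.mk 2 3 ^ 2) = 12 := by decide

theorem cM_Sh : cM φ (Sh : Matrix (Fin 3) (Fin 3) F) = SmN := by
  simp [cM, cV, Sh, SmN, enc_zero, enc_one]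

theorem cM_Dg {z : F} (hz : φ z = F25.mk 2 3) : cM φ (Dg z) = ZmN := by
  simp [cM, cV, Dg, ZmN, enc_zero, enc_one, hz, enc_zeta, enc_zeta2]

theorem cM_TF : cM φ (TF : Matrix (Fin 3) (Fin 3) F) = TmN := by
  simp [cM, cV, TF, TmN, enc_one, enc_two, enc_four, map_ofNat]

theorem cM_UF : cM φ (UF : Matrix (Fin 3) (Fin 3) F) = UmN := by
  simp [cM, cV, UF, UmN, enc_zero, enc_one, enc_four, map_ofNat]

theorem cM_Mjk {z : F} (hz : φ z = F25.mk 2 3) (j k : Fin 3) :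
    cM φ (Mjk z j k) = repN j k := by
  rw [Mjk, cM_mul, cM_pow, cM_pow, cM_Sh, cM_Dg φ hz]
  rfl

include φ in
theorem TF_mul_self : (TF : Matrix (Fin 3) (Fin 3) F) * TF = 1 :=
  cM_inj φ (by rw [cM_mul, cM_TF, cM_one]; exact TmN_sq)

include φ in
theorem UF_mul_self : (UF : Matrix (Fin 3) (Fin 3) F) * UF = 1 :=
  cM_inj φ (by rw [cM_mul, cM_UF, cM_one]; exact UmN_sq)

include φ in
theorem TF_gram : (TF : Matrix (Fin 3) (Fin 3) F)ᵀ * TF.map (fun x => x ^ 5) = 1 :=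
  cM_inj φ (by rw [cM_mul, cM_transpose, cM_map_pow5, cM_TF, cM_one]; exact TmN_gram)

include φ in
theorem UF_gram : (UF : Matrix (Fin 3) (Fin 3) F)ᵀ * UF.map (fun x => x ^ 5) = 1 :=
  cM_inj φ (by rw [cM_mul, cM_transpose, cM_map_pow5, cM_UF, cM_one]; exact UmN_gram)

include φ in
theorem TF_det : (TF : Matrix (Fin 3) (Fin 3) F).det = 1 := by
  apply φ.injective
  rw [← dec_detMN, cM_TF, TmN_det, dec_five, map_one]

include φ in
theorem UF_det : (UF : Matrix (Fin 3) (Fin 3) F).det = 1 := by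
  apply φ.injective
  rw [← dec_detMN, cM_UF, UmN_det, dec_five, map_one]

/-- `T` as an element of `GL_3` -/
def Tg : GL (Fin 3) F := ⟨TF, TF, TF_mul_self φ, TF_mul_self φ⟩
/-- `diag(-1,-1,1)` as an element of `GL_3` -/
def Ug : GL (Fin 3) F := ⟨UF, UF, UF_mul_self φ, UF_mul_self φ⟩

end codes

theorem Tg_mem [Fintype F] (hF : Fintype.card F = 5 ^ 2) (φ : F ≃+* F25) :
    Tg φ ∈ Cfsg.GU 3 F 5 ⊓ specialLinear (Fin 3) F := by
  refine ⟨(Cfsg.Agent.Lib.Helper13_HermBridge.mem_GU_iff_gram hF (Tg φ)).mpr (TF_gram φ), ?_⟩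
  show Matrix.GeneralLinearGroup.det (Tg φ) = 1
  apply Units.ext
  rw [Matrix.GeneralLinearGroup.val_det_apply]
  exact TF_det φ

theorem Ug_mem [Fintype F] (hF : Fintype.card F = 5 ^ 2) (φ : F ≃+* F25) :
    Ug φ ∈ Cfsg.GU 3 F 5 ⊓ specialLinear (Fin 3) F := by
  refine ⟨(Cfsg.Agent.Lib.Helper13_HermBridge.mem_GU_iff_gram hF (Ug φ)).mpr (UF_gram φ), ?_⟩
  show Matrix.GeneralLinearGroup.det (Ug φ) = 1
  apply Units.ext
  rw [Matrix.GeneralLinearGroup.val_det_apply]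
  exact UF_det φ

/-! ### the Heisenberg group -/

theorem z_cube {z : F} (hz : z ^ 2 + z + 1 = 0) : z ^ 3 = 1 := by
  linear_combination (z - 1) * hz

theorem z_ne_zero {z : F} (hz : z ^ 2 + z + 1 = 0) : z ≠ 0 := by
  intro h
  have := z_cube hz
  rw [h] at this
  simp at this

theorem det_Sh : (Sh : Matrix (Fin 3) (Fin 3) F).det = 1 := by
  simp [Sh, Matrix.det_fin_three]

theorem det_Dg {z : F} (hz : z ^ 2 + z + 1 = 0) : (Dg z).det = 1 := by
  rw [Dg, Matrix.det_diagonal, Fin.prod_univ_three]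
  simp only [Matrix.cons_val_zero, Matrix.cons_val_one, Matrix.cons_val_two, Matrix.head_cons,
    Matrix.tail_cons]
  linear_combination z_cube hz

theorem det_Mjk {z : F} (hz : z ^ 2 + z + 1 = 0) (j k : Fin 3) : (Mjk z j k).det = 1 := by
  rw [Mjk, Matrix.det_mul, Matrix.det_pow, Matrix.det_pow, det_Sh, det_Dg hz, one_pow, one_pow,
    one_mul]

/-- reduced form of `inv9` -/
def inv9' (z : F) (v : Fin 3 → F) : Prop :=
  Cfsg.hermForm 3 F 5 v v ≠ 0 ∧ ∀ j k : Fin 3, trip (Mjk z j k) v = 0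

/-- reduced form of `inv36` -/
def inv36' (z : F) (v : Fin 3 → F) : Prop :=
  Cfsg.hermForm 3 F 5 v v ≠ 0 ∧
    (∃ j k : Fin 3, Cfsg.hermForm 3 F 5 v (Mjk z j k *ᵥ v) = 0) ∧
    ∀ j k : Fin 3, Cfsg.hermForm 3 F 5 v (Mjk z j k *ᵥ v) = 0 →
      trip (Mjk z j k) v ^ 2 = Cfsg.hermForm 3 F 5 v v

section heis
variable {z : F} (hz : z ^ 2 + z + 1 = 0) {H : Subgroup (GL (Fin 3) F)}
  (hH : ∀ x : GL (Fin 3) F, x ∈ H ↔ ∃ i j k : Fin 3,
    (x : Matrix (Fin 3) (Fin 3) F) = z ^ (i : ℕ) • (Sh ^ (j : ℕ) * Dg z ^ (k : ℕ)))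

include hz

include hH in
theorem Mjk_mem (j k : Fin 3) : ∃ x ∈ H, (x : Matrix (Fin 3) (Fin 3) F) = Mjk z j k := by
  refine ⟨Matrix.GeneralLinearGroup.mkOfDetNeZero (Mjk z j k)
    (by rw [det_Mjk hz]; exact one_ne_zero), ?_, rfl⟩
  rw [hH]
  refine ⟨0, j, k, ?_⟩
  simp [Mjk]

theorem trip_H {x : GL (Fin 3) F} {i j k : Fin 3}
    (hx : (x : Matrix (Fin 3) (Fin 3) F) = z ^ (i : ℕ) • (Sh ^ (j : ℕ) * Dg z ^ (k : ℕ)))
    (v : Fin 3 → F) : trip (x : Matrix (Fin 3) (Fin 3) F) v = trip (Mjk z j k) v := by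
  have h1 : (z ^ (i : ℕ)) ^ 3 = 1 := by
    rw [← pow_mul, mul_comm, pow_mul, z_cube hz, one_pow]
  rw [hx, trip_smul_left, h1, one_mul]
  rfl

theorem herm_H {x : GL (Fin 3) F} {i j k : Fin 3}
    (hx : (x : Matrix (Fin 3) (Fin 3) F) = z ^ (i : ℕ) • (Sh ^ (j : ℕ) * Dg z ^ (k : ℕ)))
    (v : Fin 3 → F) :
    Cfsg.hermForm 3 F 5 v ((x : Matrix (Fin 3) (Fin 3) F) *ᵥ v) = 0 ↔
      Cfsg.hermForm 3 F 5 v (Mjk z j k *ᵥ v) = 0 := by
  rw [hx, Matrix.smul_mulVec, Cfsg.Agent.Lib.Helper13_Herm.hermForm_smul_right, mul_eq_zero]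
  constructor
  · rintro (h | h)
    · exact absurd (pow_eq_zero_iff (by norm_num) |>.mp h)
        (pow_ne_zero _ (z_ne_zero hz))
    · exact h
  · intro h
    exact Or.inr h

include hH in
theorem inv9_iff' (v : Fin 3 → F) : inv9 5 H v ↔ inv9' z v := by
  constructor
  · rintro ⟨hn, h⟩
    refine ⟨hn, fun j k => ?_⟩
    obtain ⟨x, hx, hxM⟩ := Mjk_mem hz hH j k
    rw [← hxM]
    exact h x hx
  · rintro ⟨hn, h⟩
    refine ⟨hn, fun x hx => ?_⟩
    obtain ⟨i, j, k, hxM⟩ := (hH x).mp hx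
    rw [trip_H hz hxM]
    exact h j k

include hH in
theorem inv36_iff' (v : Fin 3 → F) : inv36 5 H v ↔ inv36' z v := by
  constructor
  · rintro ⟨hn, ⟨x, hx, hx0⟩, h⟩
    refine ⟨hn, ?_, fun j k hjk => ?_⟩
    · obtain ⟨i, j, k, hxM⟩ := (hH x).mp hx
      exact ⟨j, k, (herm_H hz hxM v).mp hx0⟩
    · obtain ⟨x, hx, hxM⟩ := Mjk_mem hz hH j k
      rw [← hxM] at hjk ⊢
      exact h x hx hjk
  · rintro ⟨hn, ⟨j, k, hjk⟩, h⟩
    refine ⟨hn, ?_, fun x hx hx0 => ?_⟩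
    · obtain ⟨x, hx, hxM⟩ := Mjk_mem hz hH j k
      exact ⟨x, hx, by rw [hxM]; exact hjk⟩
    · obtain ⟨i, j, k, hxM⟩ := (hH x).mp hx
      rw [trip_H hz hxM]
      exact h j k ((herm_H hz hxM v).mp hx0)

end heis

/-! ### the reduced invariants in the coded model -/

section model
variable (φ : F ≃+* F25) {z : F} (hφz : φ z = F25.mk 2 3)

include hφz

theorem inv9'_iff_code (v : Fin 3 → F) : inv9' z v ↔ inv9N (cV φ v) := by
  unfold inv9' inv9N
  rw [Ne, Ne, hermc_eq_zero_iff]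
  apply and_congr Iff.rfl
  constructor
  · intro h m hm
    obtain ⟨j, k, rfl⟩ := exists_repN m hm
    rw [← cM_Mjk φ hφz, tripcN_eq_zero_iff]
    exact h j k
  · intro h j k
    rw [← tripcN_eq_zero_iff φ, cM_Mjk φ hφz]
    exact h _ (repN_mem j k)

theorem inv36'_iff_code (v : Fin 3 → F) : inv36' z v ↔ inv36N (cV φ v) := by
  unfold inv36' inv36N
  rw [Ne, Ne, hermc_eq_zero_iff]
  apply and_congr Iff.rfl
  apply and_congr
  · constructor
    · rintro ⟨j, k, hjk⟩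
      refine ⟨repN j k, repN_mem j k, ?_⟩
      rw [← cM_Mjk φ hφz, ← cV_mulVec, hermc_eq_zero_iff]
      exact hjk
    · rintro ⟨m, hm, h⟩
      obtain ⟨j, k, rfl⟩ := exists_repN m hm
      rw [← cM_Mjk φ hφz, ← cV_mulVec, hermc_eq_zero_iff] at h
      exact ⟨j, k, h⟩
  · constructor
    · intro h m hm hm0
      obtain ⟨j, k, rfl⟩ := exists_repN m hm
      rw [← cM_Mjk φ hφz, ← cV_mulVec, hermc_eq_zero_iff] at hm0
      rw [← cM_Mjk φ hφz, tripcN_sq_iff]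
      exact h j k hm0
    · intro h j k hjk
      have h1 := h _ (repN_mem j k)
      rw [← cM_Mjk φ hφz, ← cV_mulVec, hermc_eq_zero_iff, tripcN_sq_iff] at h1
      exact h1 hjk

theorem inv'_iff_code (v : Fin 3 → F) : (inv9' z v ∨ inv36' z v) ↔ invN (cV φ v) := by
  unfold invN
  rw [inv9'_iff_code φ hφz, inv36'_iff_code φ hφz]

end model

/-! ### scalar invariance and normal forms -/

theorem herm_smul_smul (c : F) (u v : Fin 3 → F) :
    Cfsg.hermForm 3 F 5 (c • u) (c • v) = c ^ 6 * Cfsg.hermForm 3 F 5 u v := by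
  rw [Cfsg.Agent.Lib.Helper13_Herm.hermForm_smul_left,
    Cfsg.Agent.Lib.Helper13_Herm.hermForm_smul_right]
  ring

theorem inv9'_smul (z : F) {c : F} (hc : c ≠ 0) (v : Fin 3 → F) :
    inv9' z (c • v) ↔ inv9' z v := by
  unfold inv9'
  have h6 : c ^ 6 ≠ 0 := pow_ne_zero _ hc
  have h3 : c ^ 3 ≠ 0 := pow_ne_zero _ hc
  simp only [herm_smul_smul, trip_smul_right, mul_eq_zero, h6, h3, false_or, ne_eq]

theorem inv36'_smul (z : F) {c : F} (hc : c ≠ 0) (v : Fin 3 → F) :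
    inv36' z (c • v) ↔ inv36' z v := by
  unfold inv36'
  have h6 : c ^ 6 ≠ 0 := pow_ne_zero _ hc
  have key : ∀ a b : F, (c ^ 3 * a) ^ 2 = c ^ 6 * b ↔ a ^ 2 = b := by
    intro a b
    constructor
    · intro h
      apply mul_left_cancel₀ h6
      linear_combination h
    · intro h
      rw [← h]
      ring
  simp only [Matrix.mulVec_smul, herm_smul_smul, trip_smul_right, mul_eq_zero, h6, false_or,
    ne_eq, key]

theorem exists_normal_form (v : Fin 3 → F) (hv : v ≠ 0) :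
    ∃ c : F, c ≠ 0 ∧ ∃ w : Fin 3 → F, v = c • w ∧
      (w 0 = 1 ∨ (w 0 = 0 ∧ w 1 = 1) ∨ (w 0 = 0 ∧ w 1 = 0 ∧ w 2 = 1)) := by
  have hsm : ∀ c : F, c ≠ 0 → v = c • (c⁻¹ • v) := by
    intro c hc
    rw [smul_smul, mul_inv_cancel₀ hc, one_smul]
  by_cases h0 : v 0 = 0
  · by_cases h1 : v 1 = 0
    · have h2 : v 2 ≠ 0 := by
        intro h2
        apply hv
        funext i
        fin_cases i
        · exact h0
        · exact h1
        · exact h2
      refine ⟨v 2, h2, (v 2)⁻¹ • v, hsm _ h2, Or.inr (Or.inr ⟨?_, ?_, ?_⟩)⟩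
      · simp [h0]
      · simp [h1]
      · simp [h2]
    · refine ⟨v 1, h1, (v 1)⁻¹ • v, hsm _ h1, Or.inr (Or.inl ⟨?_, ?_⟩)⟩
      · simp [h0]
      · simp [h1]
  · refine ⟨v 0, h0, (v 0)⁻¹ • v, hsm _ h0, Or.inl ?_⟩
    simp [h0]

/-! ### the involution `T` preserves the forty-five points -/

section stab
variable (φ : F ≃+* F25) {z : F} (hφz : φ z = F25.mk 2 3)

include hφz

theorem T_fwd (v : Fin 3 → F) (hv : inv9' z v ∨ inv36' z v) :
    inv9' z (TF *ᵥ v) ∨ inv36' z (TF *ᵥ v) := by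
  have hv0 : v ≠ 0 := by
    rintro rfl
    have h0 : Cfsg.hermForm 3 F 5 (0 : Fin 3 → F) 0 = 0 := by simp [Cfsg.hermForm]
    rcases hv with h | h
    · exact h.1 h0
    · exact h.1 h0
  obtain ⟨c, hc, w, rfl, hw⟩ := exists_normal_form v hv0
  rw [inv9'_smul z hc, inv36'_smul z hc] at hv
  rw [Matrix.mulVec_smul, inv9'_smul z hc, inv36'_smul z hc]
  rw [inv'_iff_code φ hφz] at hv ⊢
  rw [cV_mulVec, cM_TF]
  have e : ∀ x : F, enc (φ x) ∈ List.range 25 := fun x => List.mem_range.mpr (enc_lt _)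
  rcases hw with h0 | ⟨h0, h1⟩ | ⟨h0, h1, h2⟩
  · have hcv : cV φ w = (5, enc (φ (w 1)), enc (φ (w 2))) := by
      simp only [cV, h0, map_one, enc_one]
    rw [hcv] at hv ⊢
    exact dT1 _ (e _) _ (e _) hv
  · have hcv : cV φ w = (0, 5, enc (φ (w 2))) := by
      simp only [cV, h0, h1, map_one, map_zero, enc_one, enc_zero]
    rw [hcv] at hv ⊢
    exact dT2 _ (e _) hv
  · have hcv : cV φ w = (0, 0, 5) := by
      simp only [cV, h0, h1, h2, map_one, map_zero, enc_one, enc_zero]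
    rw [hcv] at hv ⊢
    exact dT3 hv

theorem T_stab (v : Fin 3 → F) :
    (inv9' z (TF *ᵥ v) ∨ inv36' z (TF *ᵥ v)) ↔ (inv9' z v ∨ inv36' z v) := by
  constructor
  · intro h
    have h1 := T_fwd φ hφz _ h
    rwa [Matrix.mulVec_mulVec, TF_mul_self φ, Matrix.one_mulVec] at h1
  · exact T_fwd φ hφz v

end stab

/-! ### the field isomorphism -/

/-- the conjugation of `F25` as a ring automorphism -/
def conjE : F25 ≃+* F25 where
  toFun := F25.conj
  invFun := F25.conj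
  left_inv := by
    intro x
    apply F25.ext <;> simp [F25.conj]
  right_inv := by
    intro x
    apply F25.ext <;> simp [F25.conj]
  map_mul' := by
    intro x y
    apply F25.ext
    · simp [F25.conj]
    · simp only [F25.conj, F25.mul_im, F25.mk_re, F25.mk_im]
      ring
  map_add' := by
    intro x y
    apply F25.ext
    · simp [F25.conj]
    · simp only [F25.conj, F25.add_im, F25.mk_im]
      ring

theorem roots_F25 : ∀ x : F25, x ^ 2 + x + 1 = 0 → x = F25.mk 2 3 ∨ x = F25.mk 2 2 := by decide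

theorem exists_equiv [Fintype F] (hF : Fintype.card F = 5 ^ 2) {z : F} (hz : z ^ 2 + z + 1 = 0) :
    ∃ φ : F ≃+* F25, φ z = F25.mk 2 3 := by
  have hF' : Fintype.card F = 25 := by rw [hF]; norm_num
  have h1 : (ringEquivF25 hF' z) ^ 2 + ringEquivF25 hF' z + 1 = 0 := by
    rw [← map_pow, ← map_add, ← map_one (ringEquivF25 hF'), ← map_add, hz, map_zero]
  rcases roots_F25 _ h1 with h | h
  · exact ⟨ringEquivF25 hF', h⟩
  · refine ⟨(ringEquivF25 hF').trans conjE, ?_⟩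
    rw [RingEquiv.trans_apply, h]
    decide

/-! ### the theorem -/

/-- **SU36-E5d, part (B).**  The normalizer in `SU_3(5)` of the Heisenberg group
`{z^i Sh^j (Dg z)^k}` is not maximal in `SU_3(5)`. -/
theorem heis_not_max [Fintype F] (hF : Fintype.card F = 5 ^ 2) (z : F) (hz : z ^ 2 + z + 1 = 0)
    (H : Subgroup (GL (Fin 3) F))
    (hH : ∀ x : GL (Fin 3) F, x ∈ H ↔ ∃ i j k : Fin 3,
      (x : Matrix (Fin 3) (Fin 3) F) = z ^ (i : ℕ) • (Sh ^ (j : ℕ) * Dg z ^ (k : ℕ))) :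
    ¬ IsMaximalIn (Cfsg.GU 3 F 5 ⊓ specialLinear (Fin 3) F)
      (subgroupNormalizer H ⊓ (Cfsg.GU 3 F 5 ⊓ specialLinear (Fin 3) F)) := by
  obtain ⟨φ, hφz⟩ := exists_equiv hF hz
  refine not_max_of_inv (Tg φ) (Ug φ) (Tg_mem hF φ) (Ug_mem hF φ) ?_ ?_ ?_
  · intro v
    show (inv9 5 H (TF *ᵥ v) ∨ inv36 5 H (TF *ᵥ v)) ↔ (inv9 5 H v ∨ inv36 5 H v)
    rw [inv9_iff' hz hH, inv36_iff' hz hH, inv9_iff' hz hH, inv36_iff' hz hH]
    exact T_stab φ hφz v
  · intro hc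
    have h1 : inv9 5 H (TF *ᵥ ![1, 0, 4]) ↔ inv9 5 H ![1, 0, 4] := hc ![1, 0, 4]
    rw [inv9_iff' hz hH, inv9_iff' hz hH, inv9'_iff_code φ hφz, inv9'_iff_code φ hφz,
      cV_mulVec, cM_TF] at h1
    have hcv : cV φ ![1, 0, 4] = (5, 0, 20) := by
      simp [cV, enc_one, enc_zero, enc_four, map_ofNat]
    rw [hcv] at h1
    exact dT9.2 (h1.mpr dT9.1)
  · intro hc
    have h1 : (inv9 5 H (UF *ᵥ ![1, 1, 2]) ∨ inv36 5 H (UF *ᵥ ![1, 1, 2])) ↔
        (inv9 5 H ![1, 1, 2] ∨ inv36 5 H ![1, 1, 2]) := hc ![1, 1, 2]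
    rw [inv9_iff' hz hH, inv36_iff' hz hH, inv9_iff' hz hH, inv36_iff' hz hH,
      inv'_iff_code φ hφz, inv'_iff_code φ hφz, cV_mulVec, cM_UF] at h1
    have hcv : cV φ ![1, 1, 2] = (5, 5, 10) := by
      simp [cV, enc_one, enc_two, map_ofNat]
    rw [hcv] at h1
    exact dU.2 (h1.mpr dU.1)

end specific
end Cfsg.Agent.Lib.Helper71_SU36_E5dB
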