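import Mathlib
import Cfsg.Prelude.Def_GeometricClasses
import Cfsg.Prelude.Def_LieClassical
import Cfsg.Agent.Lib.Helper55_SU36_E5dGlue
import Cfsg.Agent.Lib.Helper71_SU36_E5dB

/-!
# Helper71_SU36_E5d

Package SU36-E5d (helper27, row su3 / S5778): for `|F| = 25` the normalizer in `SU_3(5)` of an
absolutely irreducible symplectic-type group `R` of order `27` (extraspecial `3^{1+2}`) is not maximal in
`SU_3(5)` (it lies in `3.M_10`).  Part (A) (Heisenberg normal form + transport, helper55) and part (B)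
(`Helper71_SU36_E5dB.heis_not_max`) are glued by `Helper55_SU36_E5dGlue.E5d_of_heis_not_max`.
-/

set_option autoImplicit false

namespace Cfsg.Agent.Lib.Helper71_SU36_E5d

open Matrix Cfsg.Geo

variable {F : Type*} [Field F] [Fintype F]

theorem E5d (hF : Fintype.card F = 5 ^ 2) (R : Subgroup (GL (Fin 3) F)) (hR : IsSymplecticTypeGroup 3 R)
    (hirr : ActsAbsolutelyIrreducibly (matrixSet R)) (hsim : R ≤ similarityGroup (Cfsg.hermForm 3 F 5))
    (hRc : Nat.card R = 27) (hZ : Nat.card (Subgroup.center R) = 3) :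
    ¬ IsMaximalIn (Cfsg.GU 3 F 5 ⊓ specialLinear (Fin 3) F)
      (subgroupNormalizer R ⊓ (Cfsg.GU 3 F 5 ⊓ specialLinear (Fin 3) F)) := by
  obtain ⟨z, hz⟩ := Cfsg.Agent.Lib.Helper55_SU36_E5dGlue.exists_root hF
  exact Cfsg.Agent.Lib.Helper55_SU36_E5dGlue.E5d_of_heis_not_max hF z hz
    (fun H hH => Cfsg.Agent.Lib.Helper71_SU36_E5dB.heis_not_max hF z hz H hH) R hR hirr hsim hRc hZ

end Cfsg.Agent.Lib.Helper71_SU36_E5d
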