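import Mathlib
import Cfsg.Agent.Lib.Helper22_StOmDefs
import Cfsg.Agent.Lib.Helper68_StAbs

/-!
stom package OPPS (helper71, for helper22's S2549 market): conjugation of a short (twisted) root element by its
Weyl representative (twin of Helper89_StOo_OPPS).
-/

set_option autoImplicit false
set_option linter.unusedSimpArgs false
set_option linter.unusedSectionVars false

namespace Cfsg.Agent.Lib.Helper71_StOm_OPPS

open Matrix Cfsg.Agent.Lib.Helper68_MatGrp Cfsg.Agent.Lib.Helper22_BlkGrp Cfsg.Agent.Lib.Helper22_StOmDefs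

section mat

variable {m : ℕ} {F : Type*} [Field F] {A B : F}

/-- `x_c(s,t) w = w x_{op c}(s + A t, -t)` at the level of matrices. -/
theorem sxM_mul_wsM {c : I m} (hc : ¬ IsPl c) (s t : F) :
    sxM A B c s t * wsM A c = wsM A c * sxM A B (op c) (s + A * t) (-t) := by
  have hopc : ¬ IsPl (op c) := fun e => hc (isPl_op.mp e)
  have h1 : c ≠ op c := fun e => op_ne_self hc e.symm
  have h2 : c ≠ d0 := fun e => hc (Or.inl e)
  have h3 : c ≠ d1 := fun e => hc (Or.inr e)
  have h4 : op c ≠ d0 := fun e => hopc (Or.inl e)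
  have h5 : op c ≠ d1 := fun e => hopc (Or.inr e)
  have h6 : (d0 : I m) ≠ d1 := d0_ne_d1
  unfold sxM wsM nrm
  rw [op_op]
  simp only [Matrix.add_mul, Matrix.sub_mul, Matrix.mul_add, Matrix.mul_sub, Matrix.one_mul,
    Matrix.mul_one, Matrix.single_mul_single_same,
    Matrix.single_mul_single_of_ne _ _ _ _ h1, Matrix.single_mul_single_of_ne _ _ _ _ h1.symm,
    Matrix.single_mul_single_of_ne _ _ _ _ h2, Matrix.single_mul_single_of_ne _ _ _ _ h2.symm,
    Matrix.single_mul_single_of_ne _ _ _ _ h3, Matrix.single_mul_single_of_ne _ _ _ _ h3.symm,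
    Matrix.single_mul_single_of_ne _ _ _ _ h4, Matrix.single_mul_single_of_ne _ _ _ _ h4.symm,
    Matrix.single_mul_single_of_ne _ _ _ _ h5, Matrix.single_mul_single_of_ne _ _ _ _ h5.symm,
    Matrix.single_mul_single_of_ne _ _ _ _ h6, Matrix.single_mul_single_of_ne _ _ _ _ h6.symm,
    Matrix.zero_mul, Matrix.mul_zero, sub_zero, add_zero, zero_add, zero_sub]
  obtain ⟨E, hE⟩ : ∃ E : I m → I m → Matrix (I m) (I m) F, ∀ i j (c : F), single i j c = c • E i j :=
    ⟨fun i j => single i j 1, fun i j c => by rw [Matrix.smul_single, smul_eq_mul, mul_one]⟩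
  simp only [hE]
  module

/-- `w x_c(s,t) = x_{op c}(s + A t, -t) w` at the level of matrices. -/
theorem wsM_mul_sxM {c : I m} (hc : ¬ IsPl c) (s t : F) :
    wsM A c * sxM A B c s t = sxM A B (op c) (s + A * t) (-t) * wsM A c := by
  have hopc : ¬ IsPl (op c) := fun e => hc (isPl_op.mp e)
  have h1 : c ≠ op c := fun e => op_ne_self hc e.symm
  have h2 : c ≠ d0 := fun e => hc (Or.inl e)
  have h3 : c ≠ d1 := fun e => hc (Or.inr e)
  have h4 : op c ≠ d0 := fun e => hopc (Or.inl e)
  have h5 : op c ≠ d1 := fun e => hopc (Or.inr e)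
  have h6 : (d0 : I m) ≠ d1 := d0_ne_d1
  unfold sxM wsM nrm
  rw [op_op]
  simp only [Matrix.add_mul, Matrix.sub_mul, Matrix.mul_add, Matrix.mul_sub, Matrix.one_mul,
    Matrix.mul_one, Matrix.single_mul_single_same,
    Matrix.single_mul_single_of_ne _ _ _ _ h1, Matrix.single_mul_single_of_ne _ _ _ _ h1.symm,
    Matrix.single_mul_single_of_ne _ _ _ _ h2, Matrix.single_mul_single_of_ne _ _ _ _ h2.symm,
    Matrix.single_mul_single_of_ne _ _ _ _ h3, Matrix.single_mul_single_of_ne _ _ _ _ h3.symm,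
    Matrix.single_mul_single_of_ne _ _ _ _ h4, Matrix.single_mul_single_of_ne _ _ _ _ h4.symm,
    Matrix.single_mul_single_of_ne _ _ _ _ h5, Matrix.single_mul_single_of_ne _ _ _ _ h5.symm,
    Matrix.single_mul_single_of_ne _ _ _ _ h6, Matrix.single_mul_single_of_ne _ _ _ _ h6.symm,
    Matrix.zero_mul, Matrix.mul_zero, sub_zero, add_zero, zero_add, zero_sub]
  obtain ⟨E, hE⟩ : ∃ E : I m → I m → Matrix (I m) (I m) F, ∀ i j (c : F), single i j c = c • E i j :=
    ⟨fun i j => single i j 1, fun i j c => by rw [Matrix.smul_single, smul_eq_mul, mul_one]⟩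
  simp only [hE]
  module

end mat

variable {m : ℕ} {F : Type*} [Field F] [Fintype F] {A B : F} [Fact (Aniso A B)]

theorem oppS {c : I m} (hc : ¬ IsPl c) (s t : F) :
    (ws A B c)⁻¹ * sx A B c s t * ws A B c = sx A B (op c) (s + A * t) (-t) := by
  have hopc : ¬ IsPl (op c) := fun e => hc (isPl_op.mp e)
  have key : sx A B c s t * ws A B c = ws A B c * sx A B (op c) (s + A * t) (-t) := by
    apply φ_injective
    rw [map_mul, map_mul, ws_val hc, sx_val hc, sx_val hopc]
    exact sxM_mul_wsM hc s t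
  rw [mul_assoc, key, ← mul_assoc, inv_mul_cancel, one_mul]

theorem oppS' {c : I m} (hc : ¬ IsPl c) (s t : F) :
    ws A B c * sx A B c s t * (ws A B c)⁻¹ = sx A B (op c) (s + A * t) (-t) := by
  have hopc : ¬ IsPl (op c) := fun e => hc (isPl_op.mp e)
  have key : ws A B c * sx A B c s t = sx A B (op c) (s + A * t) (-t) * ws A B c := by
    apply φ_injective
    rw [map_mul, map_mul, ws_val hc, sx_val hc, sx_val hopc]
    exact wsM_mul_sxM hc s t
  rw [key, mul_assoc, mul_inv_cancel, mul_one]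

end Cfsg.Agent.Lib.Helper71_StOm_OPPS
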