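import Mathlib
import Cfsg.Agent.Lib.Helper54_UXmDefs
import Cfsg.Agent.Lib.Helper54_UXm_Basic
import Cfsg.Agent.Lib.Helper59_Ext_S5b
import Cfsg.Agent.Lib.Helper73_UX_FLD

set_option autoImplicit false
set_option linter.unusedSectionVars false
set_option linter.unusedVariables false

/-!
# UEXTm package GEN1 (helper71, architect helper54), `_aux` form

`gen1_aux`: the statement of GEN1 with the statement of CFGK (`cfgK`) as an explicit hypothesis `hcfg`.
Case `B(t, δ) ≠ 0` of the configuration theorem: `t = y (K v₁) ⊆ K δ + F u₀` (proof §5 of `UEXTm_proof.md`).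
-/

open Module
open Cfsg.Agent.Lib.Helper94_Symp Cfsg.Agent.Lib.Helper94_Herm Cfsg.Agent.Lib.Helper13_PSUSimple
  Cfsg.Agent.Lib.Helper94_HermEich Cfsg.Agent.Lib.Helper98_ExtDefs Cfsg.Agent.Lib.Helper97_UExtDefs
  Cfsg.Agent.Lib.Helper29_SpExtDefs Cfsg.Agent.Lib.Helper94_FrmDefs Cfsg.Agent.Lib.Helper94_UDDefs
  Cfsg.Agent.Lib.Helper54_UXmDefs Cfsg.Agent.Lib.Helper54_UXm_Basic Cfsg.Agent.Lib.Helper59_Ext_S5b

namespace Cfsg.Agent.Lib.Helper71_UXm_GEN1aux

variable {F K V : Type*} [Field F] [Field K] [Algebra F K] [AddCommGroup V] [Module F V]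
  [Module K V] [IsScalarTower F K V] [Finite F] [Finite K] [Module.Finite K V]
  {σ : F →+* F} {τ : K →+* K}

/-- the `F`-linear map `u ↦ B u δ` -/
noncomputable def betaMap (F : Type*) {K V : Type*} [Field F] [Field K] [Algebra F K] [AddCommGroup V]
    [Module F V] [Module K V] [IsScalarTower F K V] {τ : K →+* K} (B : V →ₗ[K] V →ₛₗ[τ] K) (δ : V) :
    V →ₗ[F] K :=
  (B.flip δ).restrictScalars F

omit [Finite F] [Finite K] [Module.Finite K V] in
theorem betaMap_apply (B : V →ₗ[K] V →ₛₗ[τ] K) (δ u : V) : betaMap F B δ u = B u δ := rfl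

omit [Finite F] [Finite K] [Module.Finite K V] in
/-- the `K`-transvection `utv B δ κ` on a vector -/
theorem ktv_apply (B : V →ₗ[K] V →ₛₗ[τ] K) {δ : V} (hδi : B δ δ = 0) (κ : K) (u : V) :
    ((utv B δ κ).restrictScalars F) u = u + (κ * B u δ) • δ := by
  rw [LinearEquiv.restrictScalars_apply, utv_apply B hδi]

omit [Finite F] [Finite K] [Module.Finite K V] in
/-- the dichotomy for the `K`-transvections with centre `δ` -/
theorem dich_ktv (h : TauExt σ τ) {B : V →ₗ[K] V →ₛₗ[τ] K} (hB : IsHerm B)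
    {M : Subgroup (V ≃ₗ[F] V)} (hM : HypU h B M) {y : V ≃ₗ[F] V} {v₁ δ : V} (hδi : B δ δ = 0)
    (hdich : Dich F K V M y v₁ δ) {κ : K} (hκ : τ κ = -κ) :
    (∀ u ∈ tsp F K V y v₁, (κ * B u δ) • δ ∈ tsp F K V y v₁) ∨
    (∀ u ∈ tsp F K V y v₁, (κ * B u δ) • δ ∈ tsp F K V y v₁ → u ∈ kline F K V δ) := by
  have hx : (utv B δ κ).restrictScalars F ∈ M := ktv_mem h hB hM δ hκ
  have hfix : ∀ u ∈ kline F K V δ ⊓ tsp F K V y v₁, ((utv B δ κ).restrictScalars F) u = u := by
    intro u hu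
    obtain ⟨k, rfl⟩ := mem_kline.mp hu.1
    rw [ktv_apply B hδi, map_smul, LinearMap.smul_apply, hδi, smul_zero, mul_zero, zero_smul, add_zero]
  rcases hdich _ hx hfix with h1 | h2
  · left
    intro u hu
    have h3 := h1 u hu
    rw [ktv_apply B hδi] at h3
    have h4 := (tsp F K V y v₁).sub_mem h3 hu
    rwa [add_sub_cancel_left] at h4
  · right
    intro u hu hmem
    have h3 : ((utv B δ κ).restrictScalars F) u ∈ tsp F K V y v₁ := by
      rw [ktv_apply B hδi]
      exact (tsp F K V y v₁).add_mem hu hmem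
    have h4 := h2 u hu h3
    rw [ktv_apply B hδi] at h4
    have h5 : (κ * B u δ) • δ ∈ kline F K V δ := mem_kline.mpr ⟨_, rfl⟩
    have h6 := (kline F K V δ).sub_mem h4 h5
    rwa [add_sub_cancel_right] at h6

/-- **GEN1**, with the statement of CFGK as a hypothesis -/
theorem gen1_aux (h : TauExt σ τ) (hσ : Invol σ) (hr : (finrank F K).Prime)
    (hcfg : ∀ (D₀ E : Submodule F K), D₀ ≠ ⊥ → D₀ ≠ ⊤ → E ≠ ⊥ →
      finrank F E + finrank F D₀ = finrank F K →
      (∀ e ∈ E, ∀ c ∈ D₀, trT h e c = 0) →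
      (∀ κ : K, τ κ = -κ → (∀ e ∈ E, κ * e ∈ D₀) ∨ (∀ e ∈ E, κ * e ∈ D₀ → e = 0)) →
      ∃ e₀ : K, e₀ ≠ 0 ∧ e₀ ∈ E ∧ ∀ e ∈ E, ∃ a : F, e = a • e₀)
    {B : V →ₗ[K] V →ₛₗ[τ] K} (hB : IsHerm B) (hN : NondegOn B ⊤)
    {M : Subgroup (V ≃ₗ[F] V)} (hM : HypU h B M) {y : V ≃ₗ[F] V} (hy : y ∈ M) {v₁ δ : V}
    (hv₁ : v₁ ≠ 0) (hv₁i : B v₁ v₁ = 0) (hδ : δ ≠ 0) (hδi : B δ δ = 0)
    (hδt : δ ∈ tsp F K V y v₁) (hne : tsp F K V y v₁ ≠ kline F K V δ)
    (hdich : Dich F K V M y v₁ δ) (hE : ∃ u ∈ tsp F K V y v₁, B u δ ≠ 0) :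
    ∃ u₀ : V, CfgU B M y v₁ δ u₀ ∧ B u₀ δ ≠ 0 := by
  have hFK : Module.Finite F K := Module.Finite.of_finite
  have hFV : Module.Finite F V := Module.Finite.trans K V
  obtain ⟨t, ht⟩ : ∃ t : Submodule F V, t = tsp F K V y v₁ := ⟨_, rfl⟩
  rw [← ht] at hδt hne hE
  have hdk : ∀ κ : K, τ κ = -κ →
      (∀ u ∈ t, (κ * B u δ) • δ ∈ t) ∨ (∀ u ∈ t, (κ * B u δ) • δ ∈ t → u ∈ kline F K V δ) := by
    intro κ hκ
    rw [ht]
    exact dich_ktv h hB hM hδi hdich hκ
  have hti : ∀ a ∈ t, ∀ b ∈ t, trF h B a b = 0 := by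
    rw [ht]
    exact tsp_iso h (hM.le hy) hv₁i
  have hrt : finrank F t = finrank F K := by
    rw [ht]
    exact finrank_tsp' y hv₁
  -- the two subspaces of `K`
  obtain ⟨D₀, hD₀⟩ : ∃ D₀ : Submodule F K, D₀ = t.comap (smulMap F (K := K) δ) := ⟨_, rfl⟩
  obtain ⟨E, hEdef⟩ : ∃ E : Submodule F K, E = t.map (betaMap F B δ) := ⟨_, rfl⟩
  have memD : ∀ c : K, c ∈ D₀ ↔ c • δ ∈ t := by
    intro c
    rw [hD₀, Submodule.mem_comap, smulMap_apply]
  have memE : ∀ e : K, e ∈ E ↔ ∃ u ∈ t, B u δ = e := by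
    intro e
    rw [hEdef, Submodule.mem_map]
    rfl
  have hD0 : D₀ ≠ ⊥ := by
    intro hbot
    have h1 : (1 : K) ∈ D₀ := by
      rw [memD, one_smul]
      exact hδt
    rw [hbot, Submodule.mem_bot] at h1
    exact one_ne_zero h1
  have hD1 : D₀ ≠ ⊤ := by
    intro htop
    apply hne
    symm
    apply Submodule.eq_of_le_of_finrank_eq
    · intro x hx
      obtain ⟨k, rfl⟩ := mem_kline.mp hx
      rw [← memD, htop]
      trivial
    · rw [hrt, finrank_kline hδ]
  have hEne : E ≠ ⊥ := by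
    intro hbot
    obtain ⟨u, hu, hne0⟩ := hE
    have h1 : B u δ ∈ E := (memE _).2 ⟨u, hu, rfl⟩
    rw [hbot, Submodule.mem_bot] at h1
    exact hne0 h1
  have hperp : ∀ e ∈ E, ∀ c ∈ D₀, trT h e c = 0 := by
    intro e he c hc
    obtain ⟨u, hu, rfl⟩ := (memE e).1 he
    have h1 := hti u hu (c • δ) ((memD c).1 hc)
    rw [trF_smul_right] at h1
    rw [trT_apply, mul_comm]
    exact h1
  have hC1 : ∀ κ : K, τ κ = -κ → (∀ e ∈ E, κ * e ∈ D₀) ∨ (∀ e ∈ E, κ * e ∈ D₀ → e = 0) := by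
    intro κ hκ
    rcases hdk κ hκ with h1 | h2
    · left
      intro e he
      obtain ⟨u, hu, rfl⟩ := (memE e).1 he
      rw [memD]
      exact h1 u hu
    · right
      intro e he hmem
      obtain ⟨u, hu, rfl⟩ := (memE e).1 he
      rw [memD] at hmem
      obtain ⟨k, rfl⟩ := mem_kline.mp (h2 u hu hmem)
      rw [map_smul, LinearMap.smul_apply, hδi, smul_zero]
  -- (a) the kernel of `β` on `t` is `t ∩ K δ`
  have hker : ∀ u ∈ t, B u δ = 0 → u ∈ kline F K V δ := by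
    intro u₁ hu₁ hβ
    by_contra hnl
    apply hD1
    -- every skew `κ` satisfies the first alternative
    have hall : ∀ κ : K, τ κ = -κ → ∀ e ∈ E, κ * e ∈ D₀ := by
      intro κ hκ e he
      rcases hdk κ hκ with h1 | h2
      · obtain ⟨u, hu, rfl⟩ := (memE e).1 he
        rw [memD]
        exact h1 u hu
      · exfalso
        apply hnl
        apply h2 u₁ hu₁
        rw [hβ, mul_zero, zero_smul]
        exact t.zero_mem
    obtain ⟨u, hu, hne0⟩ := hE
    have heE : B u δ ∈ E := (memE _).2 ⟨u, hu, rfl⟩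
    obtain ⟨ω, hω0, hω⟩ := exists_skew hσ
    obtain ⟨θ, hθ⟩ := hσ.ne_id
    -- symmetric multiples
    have hsym : ∀ a : K, τ a = a → a * B u δ ∈ D₀ := by
      intro a ha
      have hsk : τ (algebraMap F K ω * a) = -(algebraMap F K ω * a) := by
        rw [map_mul, h.ext, hω, ha, map_neg, neg_mul]
      have h1 := hall _ hsk _ heE
      have h2 := D₀.smul_mem ω⁻¹ h1
      have h3 : ω⁻¹ • (algebraMap F K ω * a * B u δ) = a * B u δ := by
        rw [mul_assoc, ← Algebra.smul_def, smul_smul, inv_mul_cancel₀ hω0, one_smul]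
      rwa [h3] at h2
    rw [eq_top_iff]
    intro k _
    obtain ⟨a, b, ha, hb, hk⟩ := Cfsg.Agent.Lib.Helper73_UX_FLD.dec_K0 h hσ hθ (k / B u δ)
    have h1 : k = a * B u δ + θ • (b * B u δ) := by
      have : k = (k / B u δ) * B u δ := (div_mul_cancel₀ k hne0).symm
      rw [this, hk, add_mul, smul_mul_assoc]
    rw [h1]
    exact D₀.add_mem (hsym a ha) (D₀.smul_mem θ (hsym b hb))
  -- rank-nullity
  have hdim : finrank F E + finrank F D₀ = finrank F K := by
    have h1 := LinearMap.finrank_range_add_finrank_ker ((betaMap F B δ).domRestrict t)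
    rw [hrt] at h1
    have h2 : LinearMap.range ((betaMap F B δ).domRestrict t) = E := by
      rw [LinearMap.range_domRestrict, hEdef]
    have h3 : finrank F (LinearMap.ker ((betaMap F B δ).domRestrict t)) = finrank F D₀ := by
      have e1 : finrank F (LinearMap.ker ((betaMap F B δ).domRestrict t)) =
          finrank F ((LinearMap.ker ((betaMap F B δ).domRestrict t)).map t.subtype) :=
        (LinearEquiv.finrank_eq (Submodule.equivMapOfInjective t.subtype t.injective_subtype _))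
      have e2 : finrank F D₀ = finrank F (D₀.map (smulMap F (K := K) δ)) :=
        (LinearEquiv.finrank_eq (Submodule.equivMapOfInjective _ (smulMap_injective hδ) _))
      rw [e1, e2]
      have hEq : (LinearMap.ker ((betaMap F B δ).domRestrict t)).map t.subtype =
          D₀.map (smulMap F (K := K) δ) := by
        ext x
        rw [Submodule.mem_map, Submodule.mem_map]
        constructor
        · rintro ⟨⟨u, hu⟩, hku, rfl⟩
          rw [LinearMap.mem_ker, LinearMap.domRestrict_apply] at hku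
          have hku' : B u δ = 0 := hku
          obtain ⟨k, hk⟩ := mem_kline.mp (hker u hu hku')
          refine ⟨k, ?_, hk⟩
          rw [memD, hk]
          exact hu
        · rintro ⟨c, hc, rfl⟩
          rw [memD] at hc
          refine ⟨⟨c • δ, hc⟩, ?_, rfl⟩
          rw [LinearMap.mem_ker, LinearMap.domRestrict_apply]
          show B (c • δ) δ = 0
          rw [map_smul, LinearMap.smul_apply, hδi, smul_zero]
      rw [hEq]
    rw [h2, h3] at h1
    exact h1
  obtain ⟨e₀, he₀, he₀E, hspan⟩ := hcfg D₀ E hD0 hD1 hEne hdim hperp hC1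
  obtain ⟨u₀, hu₀, hβu₀⟩ := (memE e₀).1 he₀E
  refine ⟨u₀, ?_, by rw [hβu₀]; exact he₀⟩
  refine ⟨hy, hv₁, hv₁i, hδ, hδi, ht ▸ hδt, ht ▸ hu₀, ?_, ?_⟩
  · intro hmem
    obtain ⟨k, rfl⟩ := mem_kline.mp hmem
    apply he₀
    rw [← hβu₀, map_smul, LinearMap.smul_apply, hδi, smul_zero]
  · rw [← ht]
    intro u hu
    obtain ⟨a, ha⟩ := hspan (B u δ) ((memE _).2 ⟨u, hu, rfl⟩)
    have h1 : u - a • u₀ ∈ kline F K V δ := by
      apply hker _ (t.sub_mem hu (t.smul_mem a hu₀))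
      have h2 : betaMap F B δ (u - a • u₀) = 0 := by
        rw [map_sub, map_smul, betaMap_apply, betaMap_apply, ha, hβu₀, sub_self]
      exact h2
    rw [Submodule.mem_sup]
    refine ⟨u - a • u₀, h1, a • u₀, Submodule.smul_mem _ a (Submodule.mem_span_singleton_self u₀), ?_⟩
    rw [sub_add_cancel]

end Cfsg.Agent.Lib.Helper71_UXm_GEN1aux
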