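import Cfsg.Agent.Lib.Helper97_BG1211f
import Cfsg.Agent.Lib.Helper2_Coprime
import Cfsg.Agent.Lib.Helper34_BG16b
import Cfsg.Agent.Lib.Helper29_BG12b
import Cfsg.Agent.Lib.Helper24_CoprimeHall
import Cfsg.Agent.Lib.Helper47_BG1214a
import Cfsg.Agent.S1427
import Cfsg.Agent.S1403
import Cfsg.Agent.S1444
import Cfsg.Agent.Lib.Helper23_BG13Hyp

/-!
# Bender–Glauberman, Lemma 13.12 (`τ₁` acts regularly on `τ₂`): the reduction (helper97)

`M` maximal, `E` a complement of `M_σ`, `q ∈ τ₁(M)`, `Y ≤ E` of order `q` with `C_{M_σ}(Y) ≠ 1`, `p ∈ τ₂(M)`,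
`A ≤ E` elementary abelian of order `p ^ 2`.  Then `C_A(Y) = 1`.

Following helper59's proof (message 1582): assuming `X = C_A(Y) ≠ 1` we derive the facts (B1)–(B4) which
contradict a purely local lemma ("Lemma B", helper59; hypothesis `LemmaBHyp`).  S1428 enters as the hypothesis
`Helper23_BG13Hyp.H1428`; the conclusion is `Helper23_BG13Hyp.F1`.
-/

set_option autoImplicit false

namespace Cfsg.Agent.Lib.Helper97_BG1312

open Subgroup Cfsg Cfsg.Agent.Lib.Helper22_BGTrans Cfsg.Agent.Lib.Helper22_Radical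
  Cfsg.Agent.Lib.Helper84_RelSylow Cfsg.Agent.Lib.Helper49_Sigma Cfsg.Agent.Lib.Helper73_BG12
  Cfsg.Agent.Lib.Helper22_BGTransUp Cfsg.Agent.Lib.Helper73_BG126 Cfsg.Agent.Lib.Helper70_BG106
  Cfsg.Agent.Lib.Helper97_BG127c Cfsg.Agent.Lib.Helper97_BG1211f Cfsg.Agent.Lib.Helper23_BG13Hyp

open scoped commutatorElement

universe u

/-- an element whose `p`-part and `p'`-part lie in a subgroup lies in the subgroup -/
theorem mem_of_parts_mem {G : Type*} [Group G] [Finite G] (p : ℕ) [hp : Fact p.Prime] {H : Subgroup G}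
    {c : G} (h1 : ∀ m : ℕ, (∃ k, orderOf (c ^ m) = p ^ k) → c ^ m ∈ H)
    (h2 : ∀ m : ℕ, (orderOf (c ^ m)).Coprime p → c ^ m ∈ H) : c ∈ H := by
  have hpp := hp.out
  obtain ⟨e, n', hn', ho⟩ := Nat.exists_eq_pow_mul_and_not_dvd (orderOf_pos c).ne' p hpp.one_lt.ne'
  have hn0 : n' ≠ 0 := by
    rintro rfl
    exact hn' (dvd_zero p)
  have hpe0 : p ^ e ≠ 0 := (pow_pos hpp.pos e).ne'
  have ho1 : orderOf (c ^ n') = p ^ e := by
    rw [orderOf_pow_of_dvd hn0 (by rw [ho]; exact dvd_mul_left _ _), ho,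
      Nat.mul_div_cancel _ (Nat.pos_of_ne_zero hn0)]
  have ho2 : orderOf (c ^ p ^ e) = n' := by
    rw [orderOf_pow_of_dvd hpe0 (by rw [ho]; exact dvd_mul_right _ _), ho,
      Nat.mul_div_cancel_left _ (Nat.pos_of_ne_zero hpe0)]
  have hm1 := h1 n' ⟨e, ho1⟩
  have hm2 := h2 (p ^ e) (by
    rw [ho2]
    exact ((Nat.Prime.coprime_iff_not_dvd hpp).mpr hn').symm)
  have hcop : Nat.Coprime n' (p ^ e) :=
    Nat.Coprime.pow_right e ((Nat.Prime.coprime_iff_not_dvd hpp).mpr hn').symm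
  have hb := Nat.gcd_eq_gcd_ab n' (p ^ e)
  rw [hcop.gcd_eq_one] at hb
  have hc : c = (c ^ n') ^ (n'.gcdA (p ^ e)) * (c ^ p ^ e) ^ (n'.gcdB (p ^ e)) := by
    rw [← zpow_natCast c n', ← zpow_natCast c (p ^ e), ← zpow_mul, ← zpow_mul, ← zpow_add, ← hb]
    simp
  rw [hc]
  exact H.mul_mem (H.zpow_mem hm1 _) (H.zpow_mem hm2 _)

/-- a subgroup of prime order is generated by each of its nonidentity elements -/
theorem zpowers_eq_of_card {G : Type*} [Group G] {r : ℕ} (hr : r.Prime) {K : Subgroup G}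
    (hK : Nat.card K = r) {y : G} (hy : y ∈ K) (hy1 : y ≠ 1) : zpowers y = K := by
  have : Finite ↥K := Nat.finite_of_card_ne_zero (by rw [hK]; exact hr.pos.ne')
  have hle : zpowers y ≤ K := by rwa [Subgroup.zpowers_le]
  apply Subgroup.eq_of_le_of_card_ge hle
  rw [hK, Nat.card_zpowers]
  have hd : orderOf y ∣ r := by
    have := Subgroup.card_dvd_of_le hle
    rwa [Nat.card_zpowers, hK] at this
  rcases (Nat.dvd_prime hr).1 hd with h | h
  · exact absurd (orderOf_eq_one_iff.1 h) hy1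
  · exact h.ge

/-- an element commuting with a nonidentity element of `R × Y` (`|R|`, `|Y|` distinct primes) centralizes `R`
or `Y` -/
theorem comm_part {G : Type*} [Group G] {R Y : Subgroup G} {r q : ℕ} (hr : r.Prime) (hq : q.Prime)
    (hrq : r ≠ q) (hRY : ∀ a ∈ R, ∀ b ∈ Y, a * b = b * a) (hR : Nat.card R = r) (hY : Nat.card Y = q)
    {k : G} (hk : k ∈ R ⊔ Y) (hk1 : k ≠ 1) {x : G} (hx : x * k = k * x) :
    (∀ a ∈ R, x * a = a * x) ∨ (∀ b ∈ Y, x * b = b * x) := by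
  obtain ⟨a, ha, b, hb, rfl⟩ :=
    Cfsg.Agent.Lib.Helper62_EStarCent.exists_mul_of_mem_sup_of_commute hRY hk
  have hcomm : ∀ {z : G}, x * z = z * x → ∀ w ∈ zpowers z, x * w = w * x := by
    intro z hz w hw
    obtain ⟨n, rfl⟩ := Subgroup.mem_zpowers_iff.mp hw
    exact ((show Commute x z from hz).zpow_right n).eq
  by_cases ha1 : a = 1
  · right
    rw [ha1, one_mul] at hx hk1
    intro w hw
    exact hcomm hx w (by rw [zpowers_eq_of_card hq hY hb hk1]; exact hw)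
  · left
    have hbq : b ^ q = 1 := by
      have : Finite ↥Y := Nat.finite_of_card_ne_zero (by rw [hY]; exact hq.pos.ne')
      have h1 : orderOf b ∣ q := hY ▸ Subgroup.orderOf_dvd_natCard Y hb
      exact orderOf_dvd_iff_pow_eq_one.mp h1
    have hpow : (a * b) ^ q = a ^ q := by
      rw [(show Commute a b from hRY a ha b hb).mul_pow, hbq, mul_one]
    have haq1 : a ^ q ≠ 1 := by
      intro h
      have : Finite ↥R := Nat.finite_of_card_ne_zero (by rw [hR]; exact hr.pos.ne')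
      have h1 : orderOf a ∣ q := orderOf_dvd_of_pow_eq_one h
      have h2 : orderOf a ∣ r := hR ▸ Subgroup.orderOf_dvd_natCard R ha
      have h3 : orderOf a ∣ Nat.gcd q r := Nat.dvd_gcd h1 h2
      rw [(Nat.coprime_primes hq hr).mpr hrq.symm] at h3
      exact ha1 (orderOf_eq_one_iff.mp (Nat.dvd_one.mp h3))
    have hx' : x * a ^ q = a ^ q * x := by
      rw [← hpow]
      exact ((show Commute x (a * b) from hx).pow_right q).eq
    intro w hw
    exact hcomm hx' w (by rw [zpowers_eq_of_card hr hR (R.pow_mem ha q) haq1]; exact hw)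

/-- the subgroup of order `r` of a cyclic group of order `r ^ (j + 1)` -/
theorem card_zpowers_pow {G : Type*} [Group G] {x : G} {r j : ℕ} (hr : r.Prime)
    (hx : orderOf x = r ^ (j + 1)) : Nat.card (zpowers (x ^ r ^ j)) = r := by
  rw [Nat.card_zpowers, orderOf_pow_of_dvd (pow_pos hr.pos j).ne'
    (by rw [hx]; exact pow_dvd_pow r (Nat.le_succ j)), hx, pow_succ,
    Nat.mul_div_cancel_left _ (pow_pos hr.pos j)]

/-- in a cyclic `q`-group `⟨e⟩`, a subgroup `Y` of order `q` lies in every nontrivial subgroup `⟨k⟩` -/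
theorem le_zpowers_of_mem {G : Type*} [Group G] [Finite G] {q : ℕ} (hq : q.Prime) {e : G} {j : ℕ}
    (hej : orderOf e = q ^ j) {Y : Subgroup G} (hY : Nat.card Y = q) (hYe : Y ≤ zpowers e) {k : G}
    (hk : k ∈ zpowers e) (hk1 : k ≠ 1) : Y ≤ zpowers k := by
  have hko : orderOf k ∣ q ^ j := by
    rw [← hej, ← Nat.card_zpowers, ← Nat.card_zpowers]
    exact Subgroup.card_dvd_of_le (Subgroup.zpowers_le.mpr hk)
  obtain ⟨i, -, hi⟩ := (Nat.dvd_prime_pow hq).mp hko
  obtain ⟨i', rfl⟩ : ∃ i', i = i' + 1 := by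
    refine ⟨i - 1, ?_⟩
    have : i ≠ 0 := by
      intro h0
      rw [h0, pow_zero] at hi
      exact hk1 (orderOf_eq_one_iff.mp hi)
    omega
  have h1 := card_zpowers_pow hq hi
  have h2 : zpowers (k ^ q ^ i') ≤ zpowers e :=
    Subgroup.zpowers_le.mpr (Subgroup.pow_mem _ hk _)
  have h3 : Y = zpowers (k ^ q ^ i') :=
    Cfsg.Agent.Lib.Helper52_BG12a.eq_of_card_eq_of_isCyclic hYe h2 (by rw [hY, h1])
  rw [h3]
  exact Subgroup.zpowers_le.mpr (Subgroup.pow_mem _ (Subgroup.mem_zpowers k) _)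

/-- the commutators of elements normalizing a subgroup of prime order centralize it -/
theorem commutator_mem_centralizer_of_card_prime {G : Type*} [Group G] {X : Subgroup G} {p : ℕ}
    (hp : p.Prime) (hX : Nat.card X = p) {a b : G} (ha : a ∈ normalizer (X : Set G))
    (hb : b ∈ normalizer (X : Set G)) : ⁅a, b⁆ ∈ centralizer (X : Set G) := by
  have hX1 : X ≠ ⊥ := by
    intro h
    rw [h, Subgroup.card_bot] at hX
    exact hp.one_lt.ne hX
  obtain ⟨x, hx, hx1⟩ : ∃ x ∈ X, x ≠ 1 := by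
    by_contra hcon
    push Not at hcon
    exact hX1 ((Subgroup.eq_bot_iff_forall X).mpr hcon)
  have hz := zpowers_eq_of_card hp hX hx hx1
  -- conjugation by an element of the normalizer is a power map on `x`
  have key : ∀ g ∈ normalizer (X : Set G), ∃ i : ℤ, g * x * g⁻¹ = x ^ i := by
    intro g hg
    have h1 : g * x * g⁻¹ ∈ X := (Subgroup.mem_normalizer_iff.mp hg x).mp hx
    rw [← hz] at h1
    obtain ⟨i, hi⟩ := Subgroup.mem_zpowers_iff.mp h1
    exact ⟨i, hi.symm⟩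
  have hai := Subgroup.inv_mem _ ha
  have hbi := Subgroup.inv_mem _ hb
  obtain ⟨i, hi⟩ := key a⁻¹ hai
  obtain ⟨j, hj⟩ := key b⁻¹ hbi
  rw [inv_inv] at hi hj
  have h1 : (a⁻¹ * b⁻¹) * x * (a⁻¹ * b⁻¹)⁻¹ = x ^ (j * i) := by
    calc (a⁻¹ * b⁻¹) * x * (a⁻¹ * b⁻¹)⁻¹ = a⁻¹ * (b⁻¹ * x * b) * a := by group
      _ = a⁻¹ * x ^ j * a := by rw [hj]
      _ = (a⁻¹ * x * a) ^ j := by
        have := conj_zpow (a := a⁻¹) (b := x) (i := j)
        rw [inv_inv] at this
        exact this.symm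
      _ = x ^ (j * i) := by rw [hi, ← zpow_mul, mul_comm]
  have h2 : (b⁻¹ * a⁻¹) * x * (b⁻¹ * a⁻¹)⁻¹ = x ^ (j * i) := by
    calc (b⁻¹ * a⁻¹) * x * (b⁻¹ * a⁻¹)⁻¹ = b⁻¹ * (a⁻¹ * x * a) * b := by group
      _ = b⁻¹ * x ^ i * b := by rw [hi]
      _ = (b⁻¹ * x * b) ^ i := by
        have := conj_zpow (a := b⁻¹) (b := x) (i := i)
        rw [inv_inv] at this
        exact this.symm
      _ = x ^ (j * i) := by rw [hj, ← zpow_mul]
  have h3 : ⁅a, b⁆ * x = x * ⁅a, b⁆ := by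
    rw [commutatorElement_def]
    have h4 : (a⁻¹ * b⁻¹) * x * (a⁻¹ * b⁻¹)⁻¹ = (b⁻¹ * a⁻¹) * x * (b⁻¹ * a⁻¹)⁻¹ := by rw [h1, h2]
    calc a * b * a⁻¹ * b⁻¹ * x = a * b * ((a⁻¹ * b⁻¹) * x * (a⁻¹ * b⁻¹)⁻¹) * (a⁻¹ * b⁻¹) := by group
      _ = a * b * ((b⁻¹ * a⁻¹) * x * (b⁻¹ * a⁻¹)⁻¹) * (a⁻¹ * b⁻¹) := by rw [h4]
      _ = x * (a * b * a⁻¹ * b⁻¹) := by group
  rw [Subgroup.mem_centralizer_iff]
  intro y hy
  rw [SetLike.mem_coe, ← hz] at hy
  obtain ⟨n, rfl⟩ := Subgroup.mem_zpowers_iff.mp hy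
  exact ((show Commute ⁅a, b⁆ x from h3).zpow_right n).eq.symm

/-- `e` centralizes `X` as soon as a conjugate of `e` under `N_G(X)` does -/
theorem mem_centralizer_of_conj {G : Type*} [Group G] {X : Subgroup G} {g e : G}
    (hg : g ∈ normalizer (X : Set G)) (he : g * e * g⁻¹ ∈ centralizer (X : Set G)) :
    e ∈ centralizer (X : Set G) := by
  rw [Subgroup.mem_centralizer_iff] at he ⊢
  intro x hx
  have h1 := he (g * x * g⁻¹) ((Subgroup.mem_normalizer_iff.mp hg x).mp hx)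
  have h2 : g * (x * e) * g⁻¹ = g * (e * x) * g⁻¹ := by
    calc g * (x * e) * g⁻¹ = (g * x * g⁻¹) * (g * e * g⁻¹) := by group
      _ = (g * e * g⁻¹) * (g * x * g⁻¹) := h1
      _ = g * (e * x) * g⁻¹ := by group
  exact mul_left_cancel (mul_right_cancel h2)

/-- elements normalizing `A` and `Y` normalize `[A, Y]` -/
theorem normalizer_inf_le_normalizer_commutator {G : Type*} [Group G] (A Y : Subgroup G) :
    normalizer (A : Set G) ⊓ normalizer (Y : Set G) ≤ normalizer ((⁅A, Y⁆ : Subgroup G) : Set G) := by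
  intro g hg
  obtain ⟨hgA, hgY⟩ := Subgroup.mem_inf.mp hg
  rw [Subgroup.mem_normalizer_iff_map_conj_eq, Subgroup.map_commutator,
    Subgroup.mem_normalizer_iff_map_conj_eq.mp hgA, Subgroup.mem_normalizer_iff_map_conj_eq.mp hgY]

variable {G : Type u} [Group G] [Finite G] {p q : ℕ} [hp : Fact p.Prime] {M E A Y : Subgroup G}

/-- `|E|` and `|M_σ|` are coprime -/
theorem coprime_card_compl (hG : IsMinSimpleOddOrder G) (hU : UniqHyp G) (hM : IsCoatom M)
    (hE : IsComplIn E (sigmaCore M) M) : (Nat.card E).Coprime (Nat.card (sigmaCore M)) := by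
  apply Nat.coprime_of_dvd
  intro r hr h1 h2
  have hσ := Cfsg.Agent.Lib.Helper23_SigmaHall.prime_mem_sigma_of_dvd_card_sigmaCore M hr h2
  rcases mem_tau_of_dvd_card hG hU hM hE hr h1 with (h | h) | h
  · exact h.2.1 hσ
  · exact h.2.1 hσ
  · exact h.2.1 hσ

/-- the setting of B-G 13.12 with the assumption `C_A(Y) ≠ 1` to be refuted -/
structure Cfg (M E A Y : Subgroup G) (p q : ℕ) : Prop where
  hM : IsCoatom M
  hE : IsComplIn E (sigmaCore M) M
  hq : q ∈ tau1 M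
  hYE : Y ≤ E
  hY : Nat.card Y = q
  hD : sigmaCore M ⊓ centralizer (Y : Set G) ≠ ⊥
  hp : p ∈ tau2 M
  hAE : A ≤ E
  hAe : IsElementaryAbelian p A
  hA2 : Nat.card A = p ^ 2
  hX : A ⊓ centralizer (Y : Set G) ≠ ⊥

namespace Cfg

variable (c : Cfg M E A Y p q)
include c

omit [Finite G] hp in
theorem hAM : A ≤ M := c.hAE.trans c.hE.1

omit [Finite G] hp in
theorem hqp : q ≠ p := by
  intro h
  have h1 := c.hq.2.2.2.2
  have h2 := c.hp.2.2.2
  rw [h] at h1
  exact h2 h1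

/-- (a) `X = C_A(Y)` has order `p` -/
theorem card_X (h17 : Hyp1417Full G) (h28 : H1428 G) :
    Nat.card ↥(A ⊓ centralizer (Y : Set G)) = p := by
  have hpp := hp.out
  have hle : Nat.card ↥(A ⊓ centralizer (Y : Set G)) ≤ p := by
    apply Cfsg.Agent.Lib.Helper62_EStarCent.card_le_of_lt_of_card_sq hpp inf_le_left ?_ c.hA2
    intro hAX
    obtain ⟨-, -, -, -, -, A₁, hA₁A, hA₁, hA₁c⟩ :=
      h17 M c.hM p c.hp A ⟨c.hAM, c.hAe, c.hA2⟩
    have h1 := h28 M c.hM E c.hE q c.hq Y c.hYE c.hY A₁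
      (le_inf (hA₁A.trans c.hAE) (hA₁A.trans (hAX.trans inf_le_right))) (by rw [hA₁]; exact hpp)
    rw [hA₁c] at h1
    exact c.hD (le_bot_iff.mp h1)
  have hdvd : Nat.card ↥(A ⊓ centralizer (Y : Set G)) ∣ p ^ 2 :=
    c.hA2 ▸ Subgroup.card_dvd_of_le inf_le_left
  obtain ⟨k, hk, hXk⟩ := (Nat.dvd_prime_pow hpp).mp hdvd
  interval_cases k
  · exfalso
    apply c.hX
    rw [pow_zero] at hXk
    exact Subgroup.card_eq_one.mp hXk
  · rw [hXk, pow_one]
  · exfalso
    rw [hXk] at hle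
    nlinarith [hpp.one_lt]

/-- (b) `C_{M_σ}(X) ≠ 1` -/
theorem sigma_X_ne (h17 : Hyp1417Full G) (h28 : H1428 G) :
    sigmaCore M ⊓ centralizer ((A ⊓ centralizer (Y : Set G) : Subgroup G) : Set G) ≠ ⊥ := by
  intro h
  have h1 := h28 M c.hM E c.hE q c.hq Y c.hYE c.hY (A ⊓ centralizer (Y : Set G))
    (le_inf (inf_le_left.trans c.hAE) inf_le_right) (by rw [c.card_X h17 h28]; exact hp.out)
  rw [h] at h1
  exact c.hD (le_bot_iff.mp h1)

/-- (b) `M` is the unique maximal subgroup containing `C_G(X)` -/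
theorem centralizer_X_le (hG : IsMinSimpleOddOrder G) (hC : CentHyp G) (h17 : Hyp1417Full G)
    (h28 : H1428 G) :
    centralizer ((A ⊓ centralizer (Y : Set G) : Subgroup G) : Set G) ≤ M ∧
      ∀ L : Subgroup G, IsCoatom L →
        centralizer ((A ⊓ centralizer (Y : Set G) : Subgroup G) : Set G) ≤ L → L = M :=
  (statement_S1418 hG hC h17 M c.hM E c.hE c.hp A ⟨c.hAE, c.hAe, c.hA2⟩).2.2 _ inf_le_left
    (c.card_X h17 h28) (c.sigma_X_ne h17 h28)

/-- (b) `N_G(X) ≤ M` -/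
theorem normalizer_X_le (hG : IsMinSimpleOddOrder G) (hC : CentHyp G) (h17 : Hyp1417Full G)
    (h28 : H1428 G) :
    normalizer ((A ⊓ centralizer (Y : Set G) : Subgroup G) : Set G) ≤ M := by
  have hXtop : (A ⊓ centralizer (Y : Set G) : Subgroup G) ≠ ⊤ := by
    intro h
    have : (⊤ : Subgroup G) ≤ M := h ▸ (inf_le_left.trans c.hAM)
    exact c.hM.1 (top_le_iff.mp this)
  have hN := normalizer_ne_top hG c.hX hXtop
  obtain ⟨L, hL, hNL⟩ := (eq_top_or_exists_le_coatom _).resolve_left hN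
  have := (c.centralizer_X_le hG hC h17 h28).2 L hL ((Subgroup.centralizer_le_normalizer _).trans hNL)
  rwa [this] at hNL

omit [Finite G] hp in
theorem hA1 : A ≠ ⊥ := by
  intro h
  apply c.hX
  rw [h, bot_inf_eq]

theorem hp2 (hG : IsMinSimpleOddOrder G) : p ≠ 2 :=
  Cfsg.Agent.Lib.Helper52_BG12a.ne_two_of_isPGroup hG (IsPGroup.of_card c.hA2) c.hA1

/-- (c) the Sylow `p`-subgroups of `G` are nonabelian -/
theorem hna (hG : IsMinSimpleOddOrder G) (hC : CentHyp G) (h17 : Hyp1417Full G) (h28 : H1428 G) :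
    ∀ S : Sylow p G, ¬ IsMulCommutative (S : Subgroup G) := by
  intro S hS
  have hpp := hp.out
  have hAp : IsPGroup p ↥A := IsPGroup.of_card c.hA2
  obtain ⟨⟨hEN, -⟩, ⟨-, -, hNM⟩, -⟩ :=
    statement_S1418 hG hC h17 M c.hM E c.hE c.hp A ⟨c.hAE, c.hAe, c.hA2⟩
  -- every `p`-element of `N_G(A)` centralizes `A`
  have hpel : ∀ t ∈ normalizer (A : Set G), (∃ k, orderOf t = p ^ k) →
      t ∈ centralizer (A : Set G) := by
    rintro t ht ⟨k, hk⟩
    have htp : IsPGroup p ↥(zpowers t) := IsPGroup.of_card (by rw [Nat.card_zpowers, hk])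
    have hT : IsPGroup p ↥(zpowers t ⊔ A : Subgroup G) :=
      htp.to_sup_of_normal_right' hAp (Subgroup.zpowers_le.mpr ht)
    obtain ⟨g, hg⟩ := exists_conj_le_sylow S hT
    rw [Subgroup.mem_centralizer_iff]
    intro a ha
    have h1 : g * a * g⁻¹ ∈ (S : Subgroup G) := hg a (Subgroup.mem_sup_right ha)
    have h2 : g * t * g⁻¹ ∈ (S : Subgroup G) :=
      hg t (Subgroup.mem_sup_left (Subgroup.mem_zpowers t))
    have h3 := congrArg Subtype.val (hS.is_comm.comm ⟨_, h1⟩ ⟨_, h2⟩)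
    simp only [Subgroup.coe_mul] at h3
    have h4 : g * (a * t) * g⁻¹ = g * (t * a) * g⁻¹ := by
      calc g * (a * t) * g⁻¹ = (g * a * g⁻¹) * (g * t * g⁻¹) := by group
        _ = (g * t * g⁻¹) * (g * a * g⁻¹) := h3
        _ = g * (t * a) * g⁻¹ := by group
    exact mul_left_cancel (mul_right_cancel h4)
  have hnar : Cfsg.IsNarrow p ↥A := by
    left
    intro B _ _
    rw [← c.hA2]
    exact Subgroup.card_le_card_group B
  -- the derived group of `N_G(A)` centralizes `A`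
  have hNN : ⁅normalizer (A : Set G), normalizer (A : Set G)⁆ ≤ normalizer (A : Set G) := by
    rw [Subgroup.commutator_le]
    intro a ha b hb
    rw [commutatorElement_def]
    exact Subgroup.mul_mem _ (Subgroup.mul_mem _ (Subgroup.mul_mem _ ha hb) (Subgroup.inv_mem _ ha))
      (Subgroup.inv_mem _ hb)
  have hder : ⁅normalizer (A : Set G), normalizer (A : Set G)⁆ ≤ centralizer (A : Set G) := by
    intro x hx
    apply mem_of_parts_mem p
    · intro m hm
      exact hpel _ (Subgroup.pow_mem _ (hNN hx) m) hm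
    · intro m hm
      exact Cfsg.Agent.Lib.Helper70_KeySig.mem_centralizer_of_mem_commutator_normalizer
        (c.hp2 hG) hG.1 A hAp hnar _ (Subgroup.pow_mem _ hx m) hm
  apply hNM
  refine le_trans ?_ (c.normalizer_X_le hG hC h17 h28)
  apply le_normalizer_of_conj_mem
  intro n hn a ha
  obtain ⟨haA, haY⟩ := Subgroup.mem_inf.mp ha
  refine Subgroup.mem_inf.mpr ⟨(Subgroup.mem_normalizer_iff.mp hn a).mp haA, ?_⟩
  rw [Subgroup.mem_centralizer_iff]
  intro y hy
  have hyN : y ∈ normalizer (A : Set G) := hEN (c.hYE hy)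
  have hcm : ⁅n⁻¹, y⁆ ∈ centralizer (A : Set G) :=
    hder (Subgroup.commutator_mem_commutator (Subgroup.inv_mem _ hn) hyN)
  rw [commutatorElement_def, inv_inv] at hcm
  have h1 : (n⁻¹ * y * n * y⁻¹) * a = a * (n⁻¹ * y * n * y⁻¹) :=
    (Subgroup.mem_centralizer_iff.mp hcm a haA).symm
  have h2 : y * a = a * y := Subgroup.mem_centralizer_iff.mp haY y hy
  have h2' : y⁻¹ * a = a * y⁻¹ := by
    have : a = y⁻¹ * (y * a) := by group
    rw [h2] at this
    calc y⁻¹ * a = y⁻¹ * a * y * y⁻¹ := by group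
      _ = a * y⁻¹ := by rw [mul_assoc y⁻¹ a y, ← h2]; group
  -- `n⁻¹ y n` commutes with `a`
  have h3 : (n⁻¹ * y * n) * a = a * (n⁻¹ * y * n) := by
    calc (n⁻¹ * y * n) * a = (n⁻¹ * y * n * y⁻¹) * (y * a) := by group
      _ = (n⁻¹ * y * n * y⁻¹) * (a * y) := by rw [h2]
      _ = ((n⁻¹ * y * n * y⁻¹) * a) * y := by group
      _ = (a * (n⁻¹ * y * n * y⁻¹)) * y := by rw [h1]
      _ = a * (n⁻¹ * y * n) := by group
  calc y * (n * a * n⁻¹) = n * ((n⁻¹ * y * n) * a) * n⁻¹ := by group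
    _ = n * (a * (n⁻¹ * y * n)) * n⁻¹ := by rw [h3]
    _ = n * a * n⁻¹ * y := by group

/-- (d) `X = C_A(M_σ)` -/
theorem X_eq (hG : IsMinSimpleOddOrder G) (hU : UniqHyp G) (h44 : H1444.{u}) (hC : CentHyp G)
    (h17 : Hyp1417Full G) (h28 : H1428 G) :
    A ⊓ centralizer (Y : Set G) = A ⊓ centralizer ((sigmaCore M : Subgroup G) : Set G) := by
  obtain ⟨-, -, h3⟩ := part_bc hG hU h44 hC h17 c.hM c.hE c.hp ⟨c.hAE, c.hAe, c.hA2⟩
    (c.hna hG hC h17 h28)
  by_contra hne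
  exact c.sigma_X_ne h17 h28
    (h3 _ (inf_le_left.trans c.hAE) (c.card_X h17 h28) hne).1

theorem hYN (hG : IsMinSimpleOddOrder G) (hC : CentHyp G) (h17 : Hyp1417Full G) :
    E ≤ normalizer (A : Set G) :=
  (statement_S1418 hG hC h17 M c.hM E c.hE c.hp A ⟨c.hAE, c.hAe, c.hA2⟩).1.1

omit [Finite G] in
theorem hcop : (Nat.card Y).Coprime (Nat.card A) := by
  rw [c.hY, c.hA2]
  exact Nat.Coprime.pow_right 2 ((Nat.coprime_primes c.hq.1 hp.out).mpr c.hqp)

/-- `L₀ = [A, Y]` meets `X` trivially -/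
theorem L_inf_X (hG : IsMinSimpleOddOrder G) (hC : CentHyp G) (h17 : Hyp1417Full G) :
    ⁅A, Y⁆ ⊓ (A ⊓ centralizer (Y : Set G)) = ⊥ := by
  have : IsMulCommutative ↥A :=
    ⟨⟨fun a b => Subtype.ext
      (Cfsg.Agent.Lib.Helper62_EStarCent.comm_of_isElementaryAbelian c.hAe a a.2 b b.2)⟩⟩
  exact Cfsg.Agent.Lib.Helper2_Coprime.commutator_inf_centralizer_eq_bot A Y
    (c.hYE.trans (c.hYN hG hC h17)) c.hcop

theorem L_sup_X (hG : IsMinSimpleOddOrder G) (hC : CentHyp G) (h17 : Hyp1417Full G) :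
    ⁅A, Y⁆ ⊔ (A ⊓ centralizer (Y : Set G)) = A := by
  have : IsMulCommutative ↥A :=
    ⟨⟨fun a b => Subtype.ext
      (Cfsg.Agent.Lib.Helper62_EStarCent.comm_of_isElementaryAbelian c.hAe a a.2 b b.2)⟩⟩
  exact Cfsg.Agent.Lib.Helper2_Coprime.commutator_sup_centralizer_eq A Y
    (c.hYE.trans (c.hYN hG hC h17)) c.hcop

theorem L_le (hG : IsMinSimpleOddOrder G) (hC : CentHyp G) (h17 : Hyp1417Full G) : ⁅A, Y⁆ ≤ A :=
  Cfsg.Agent.Lib.Helper2_Coprime.commutator_le_of_le_normalizer A Y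
    (c.hYE.trans (c.hYN hG hC h17))

/-- `|L₀| = p` -/
theorem card_L (hG : IsMinSimpleOddOrder G) (hC : CentHyp G) (h17 : Hyp1417Full G) (h28 : H1428 G) :
    Nat.card ↥⁅A, Y⁆ = p := by
  have hpp := hp.out
  have hAc := Cfsg.Agent.Lib.Helper62_EStarCent.comm_of_isElementaryAbelian c.hAe
  have hLA := c.L_le hG hC h17
  have h1 := Cfsg.Agent.Lib.Helper1_FPF.card_sup_of_le_normalizer ⁅A, Y⁆
    (A ⊓ centralizer (Y : Set G)) (by
      intro l hl
      apply Subgroup.centralizer_le_normalizer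
      rw [Subgroup.mem_centralizer_iff]
      intro x hx
      exact hAc x hx.1 l (hLA hl)) (c.L_inf_X hG hC h17)
  rw [c.L_sup_X hG hC h17, c.hA2, c.card_X h17 h28, pow_two] at h1
  exact (Nat.eq_of_mul_eq_mul_right hpp.pos h1).symm

/-- `C_{M_σ}(L₀) = 1` -/
theorem sigma_L (hG : IsMinSimpleOddOrder G) (hU : UniqHyp G) (h44 : H1444.{u}) (hC : CentHyp G)
    (h17 : Hyp1417Full G) (h28 : H1428 G) :
    sigmaCore M ⊓ centralizer ((⁅A, Y⁆ : Subgroup G) : Set G) = ⊥ := by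
  obtain ⟨-, -, h3⟩ := part_bc hG hU h44 hC h17 c.hM c.hE c.hp ⟨c.hAE, c.hAe, c.hA2⟩
    (c.hna hG hC h17 h28)
  refine (h3 _ ((c.L_le hG hC h17).trans c.hAE) (c.card_L hG hC h17 h28) ?_).1
  intro h
  have h1 := c.L_inf_X hG hC h17
  rw [c.X_eq hG hU h44 hC h17 h28, ← h, inf_idem] at h1
  have h2 := c.card_L hG hC h17 h28
  rw [h1, Subgroup.card_bot] at h2
  exact hp.out.one_lt.ne h2

omit hp in
/-- S1428 both ways: subgroups `R ≤ C_E(Y)` of prime order `r ∈ τ₁(M)` have the same fixed points as `Y` -/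
theorem sigma_R_eq (h28 : H1428 G) {R : Subgroup G} {r : ℕ} (hr : r ∈ tau1 M) (hRE : R ≤ E)
    (hR : Nat.card R = r) (hRY : R ≤ centralizer (Y : Set G)) :
    sigmaCore M ⊓ centralizer (R : Set G) = sigmaCore M ⊓ centralizer (Y : Set G) := by
  apply le_antisymm
  · exact h28 M c.hM E c.hE r hr R hRE hR Y (le_inf c.hYE (Subgroup.le_centralizer_iff.mp hRY))
      (by rw [c.hY]; exact c.hq.1)
  · exact h28 M c.hM E c.hE q c.hq Y c.hYE c.hY R (le_inf hRE hRY) (by rw [hR]; exact hr.1)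

/-- such an `R` acts without fixed points on `L₀` -/
theorem L_inf_R (hG : IsMinSimpleOddOrder G) (hU : UniqHyp G) (h44 : H1444.{u}) (hC : CentHyp G)
    (h17 : Hyp1417Full G) (h28 : H1428 G) {R : Subgroup G} {r : ℕ} (hr : r ∈ tau1 M) (hRE : R ≤ E)
    (hR : Nat.card R = r) (hRY : R ≤ centralizer (Y : Set G)) :
    ⁅A, Y⁆ ⊓ centralizer (R : Set G) = ⊥ := by
  have hpp := hp.out
  by_contra hne
  have hcard : Nat.card ↥(⁅A, Y⁆ ⊓ centralizer (R : Set G) : Subgroup G) = p := by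
    have hdvd : Nat.card ↥(⁅A, Y⁆ ⊓ centralizer (R : Set G) : Subgroup G) ∣ p :=
      (c.card_L hG hC h17 h28) ▸ Subgroup.card_dvd_of_le inf_le_left
    rcases (Nat.dvd_prime hpp).mp hdvd with h | h
    · exact absurd (Subgroup.card_eq_one.mp h) hne
    · exact h
  have hLR : ⁅A, Y⁆ ≤ centralizer (R : Set G) := by
    have : ⁅A, Y⁆ ⊓ centralizer (R : Set G) = ⁅A, Y⁆ :=
      Subgroup.eq_of_le_of_card_ge inf_le_left (by rw [hcard, c.card_L hG hC h17 h28])
    rw [← this]; exact inf_le_right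
  have h1 := h28 M c.hM E c.hE r hr R hRE hR ⁅A, Y⁆
    (le_inf ((c.L_le hG hC h17).trans c.hAE) hLR) (by rw [c.card_L hG hC h17 h28]; exact hpp)
  rw [c.sigma_L hG hU h44 hC h17 h28, c.sigma_R_eq h28 hr hRE hR hRY] at h1
  exact c.hD (le_bot_iff.mp h1)

/-- (e1) no subgroup of `C_E(Y)` has prime order `r ∈ τ₁(M)`, `r ≠ q` -/
theorem no_other_prime (hG : IsMinSimpleOddOrder G) (hU : UniqHyp G) (h44 : H1444.{u}) (hC : CentHyp G)
    (h17 : Hyp1417Full G) (h28 : H1428 G) {R : Subgroup G} {r : ℕ} (hr : r ∈ tau1 M) (hRE : R ≤ E)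
    (hR : Nat.card R = r) (hRY : R ≤ centralizer (Y : Set G)) (hrq : r ≠ q) : False := by
  have hRYc : ∀ a ∈ R, ∀ b ∈ Y, a * b = b * a := fun a ha b hb =>
    (Subgroup.mem_centralizer_iff.mp (hRY ha) b hb).symm
  have hEN := c.hYN hG hC h17
  have hKE : R ⊔ Y ≤ E := sup_le hRE c.hYE
  have hLE : ⁅A, Y⁆ ≤ E := (c.L_le hG hC h17).trans c.hAE
  have hsolvM : Group.IsSolvable ↥M := hG.2.2.2 M c.hM.1
  have hprime := Cfsg.Agent.Lib.Helper34_BG16b.card_prime_of_frobenius (U := ⁅A, Y⁆) (K := R ⊔ Y)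
    (H := sigmaCore M)
    (by
      intro h
      have h1 : Y ≤ ⊥ := h ▸ le_sup_right
      have h2 := c.hY
      rw [le_bot_iff.mp h1, Subgroup.card_bot] at h2
      exact c.hq.1.one_lt.ne h2)
    (by
      refine le_trans ?_ (normalizer_inf_le_normalizer_commutator A Y)
      refine sup_le (le_inf (hRE.trans hEN) (hRY.trans (Subgroup.centralizer_le_normalizer _)))
        (le_inf (c.hYE.trans hEN) Subgroup.le_normalizer))
    (by
      intro k hk hk1
      rw [eq_bot_iff]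
      intro x hx
      obtain ⟨hxL, hxk⟩ := Subgroup.mem_inf.mp hx
      have hxk' : x * k = k * x := (Subgroup.mem_centralizer_iff.mp hxk k rfl).symm
      rcases comm_part hr.1 c.hq.1 hrq hRYc hR c.hY hk hk1 hxk' with h | h
      · rw [← c.L_inf_R hG hU h44 hC h17 h28 hr hRE hR hRY]
        exact Subgroup.mem_inf.mpr ⟨hxL, Subgroup.mem_centralizer_iff.mpr
          (fun a ha => (h a ha).symm)⟩
      · rw [← c.L_inf_X hG hC h17]
        exact Subgroup.mem_inf.mpr ⟨hxL, Subgroup.mem_inf.mpr ⟨c.L_le hG hC h17 hxL,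
          Subgroup.mem_centralizer_iff.mpr (fun b hb => (h b hb).symm)⟩⟩)
    ((sup_le hLE hKE).trans (c.hE.1.trans (le_normalizer_sigmaCore' M)))
    (Group.isSolvable_of_isSolvable_injective
      (Subgroup.inclusion_injective (Cfsg.Agent.Lib.Helper52_BG12a.sigmaCore_le M)))
    (Nat.Coprime.coprime_dvd_left (Subgroup.card_dvd_of_le (sup_le hLE hKE))
      (coprime_card_compl hG hU c.hM c.hE))
    (by
      intro k hk hk1
      apply le_antisymm
      · intro x hx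
        obtain ⟨hxσ, hxk⟩ := Subgroup.mem_inf.mp hx
        have hxk' : x * k = k * x := (Subgroup.mem_centralizer_iff.mp hxk k rfl).symm
        have hxD : x ∈ sigmaCore M ⊓ centralizer (Y : Set G) := by
          rcases comm_part hr.1 c.hq.1 hrq hRYc hR c.hY hk hk1 hxk' with h | h
          · rw [← c.sigma_R_eq h28 hr hRE hR hRY]
            exact Subgroup.mem_inf.mpr ⟨hxσ, Subgroup.mem_centralizer_iff.mpr
              (fun a ha => (h a ha).symm)⟩
          · exact Subgroup.mem_inf.mpr ⟨hxσ, Subgroup.mem_centralizer_iff.mpr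
              (fun b hb => (h b hb).symm)⟩
        have hxR : x ∈ sigmaCore M ⊓ centralizer (R : Set G) := by
          rw [c.sigma_R_eq h28 hr hRE hR hRY]; exact hxD
        refine Subgroup.mem_inf.mpr ⟨hxσ, ?_⟩
        have h1 : R ⊔ Y ≤ centralizer ({x} : Set G) := by
          refine sup_le ?_ ?_
          · intro a ha
            rw [Subgroup.mem_centralizer_iff]
            intro y hy
            rw [Set.mem_singleton_iff] at hy
            rw [hy]
            exact (Subgroup.mem_centralizer_iff.mp hxR.2 a ha).symm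
          · intro b hb
            rw [Subgroup.mem_centralizer_iff]
            intro y hy
            rw [Set.mem_singleton_iff] at hy
            rw [hy]
            exact (Subgroup.mem_centralizer_iff.mp hxD.2 b hb).symm
        rw [Subgroup.mem_centralizer_iff]
        intro k' hk'
        exact (Subgroup.mem_centralizer_iff.mp (h1 hk') x rfl).symm
      · refine inf_le_inf_left _ (Subgroup.centralizer_le ?_)
        intro y hy
        rw [Set.mem_singleton_iff] at hy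
        rw [hy]; exact hk)
    (by
      intro h
      have h1 : sigmaCore M ≤ ⊥ := by
        rw [← c.sigma_L hG hU h44 hC h17 h28]
        exact le_inf le_rfl h
      apply c.hD
      rw [eq_bot_iff]
      exact inf_le_left.trans h1)
  have hcard : Nat.card ↥(R ⊔ Y : Subgroup G) = r * q := by
    rw [Cfsg.Agent.Lib.Helper1_FPF.card_sup_of_le_normalizer R Y
      (hRY.trans (Subgroup.centralizer_le_normalizer _))
      (Subgroup.disjoint_of_coprime_natCard (by
        rw [hR, c.hY]; exact (Nat.coprime_primes hr.1 c.hq.1).mpr hrq)).eq_bot, hR, c.hY]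
  rw [hcard] at hprime
  exact Nat.not_prime_mul hr.1.one_lt.ne' c.hq.1.one_lt.ne' hprime

/-- (e2) a cyclic `q`-subgroup `⟨e⟩ ≥ Y` of `E` has prime order -/
theorem card_zpowers_prime (hG : IsMinSimpleOddOrder G) (hU : UniqHyp G) (h44 : H1444.{u})
    (hC : CentHyp G) (h17 : Hyp1417Full G) (h28 : H1428 G) {e : G} (heE : e ∈ E) {j : ℕ}
    (hej : orderOf e = q ^ j) (hYe : Y ≤ zpowers e) : (Nat.card (zpowers e)).Prime := by
  have hqq : q.Prime := c.hq.1
  have : Fact q.Prime := ⟨hqq⟩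
  have hEN := c.hYN hG hC h17
  have hKE : zpowers e ≤ E := Subgroup.zpowers_le.mpr heE
  have hLE : ⁅A, Y⁆ ≤ E := (c.L_le hG hC h17).trans c.hAE
  have hsolvM : Group.IsSolvable ↥M := hG.2.2.2 M c.hM.1
  have hY1 : Y ≠ ⊥ := by
    intro h
    have h2 := c.hY
    rw [h, Subgroup.card_bot] at h2
    exact hqq.one_lt.ne h2
  have hYp : IsPGroup q ↥Y := IsPGroup.of_card (n := 1) (by rw [c.hY, pow_one])
  have hq2 : q ≠ 2 := Cfsg.Agent.Lib.Helper52_BG12a.ne_two_of_isPGroup hG hYp hY1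
  have hcomm : ∀ a ∈ zpowers e, ∀ b ∈ zpowers e, a * b = b * a := by
    intro a ha b hb
    obtain ⟨m, rfl⟩ := Subgroup.mem_zpowers_iff.mp ha
    obtain ⟨n, rfl⟩ := Subgroup.mem_zpowers_iff.mp hb
    exact (((Commute.refl e).zpow_left m).zpow_right n).eq
  -- a Sylow `q`-subgroup of `E` over `e`
  have hep : IsPGroup q ↥(zpowers e) := IsPGroup.of_card (by rw [Nat.card_zpowers, hej])
  obtain ⟨S, heS, hS⟩ := exists_isSylowIn_ge (H := E) hKE hep
  have hSmap : ((hS.toSylow : Sylow q ↥E) : Subgroup ↥E).map E.subtype = S := by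
    rw [hS.coe_toSylow, Subgroup.map_subgroupOf_eq_of_le hS.le]
  have hS1 : ((hS.toSylow : Sylow q ↥E) : Subgroup ↥E) ≠ ⊥ := by
    intro h
    rw [h, Subgroup.map_bot] at hSmap
    exact hY1 (le_bot_iff.mp (hSmap ▸ (hYe.trans heS)))
  have hSc : IsCyclic ↥((hS.toSylow : Sylow q ↥E) : Subgroup ↥E) := by
    apply Cfsg.Agent.Lib.Helper29_BG12a.isCyclic_of_pRankLE_one hq2 (hS.toSylow).2
    exact Cfsg.Agent.Lib.Helper2_PRank.pRankLE_of_injective' q 1
      ((Subgroup.inclusion c.hE.1).comp ((hS.toSylow : Sylow q ↥E) : Subgroup ↥E).subtype)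
      ((Subgroup.inclusion_injective c.hE.1).comp (Subgroup.subtype_injective _)) c.hq.2.2.2.2
  have h27 := Cfsg.Agent.S1427.result hG M c.hM E c.hE q hS.toSylow hS1 hSc
  rw [hSmap] at h27
  refine Cfsg.Agent.Lib.Helper34_BG16b.card_prime_of_frobenius (U := ⁅A, Y⁆) (K := zpowers e)
    (H := sigmaCore M)
    (fun h => hY1 (le_bot_iff.mp (h ▸ hYe)))
    (by
      refine le_trans ?_ (normalizer_inf_le_normalizer_commutator A Y)
      refine le_inf (hKE.trans hEN) ?_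
      refine le_trans ?_ (Subgroup.centralizer_le_normalizer _)
      intro a ha
      rw [Subgroup.mem_centralizer_iff]
      intro y hy
      exact hcomm y (hYe hy) a ha)
    (by
      intro k hk hk1
      rw [eq_bot_iff]
      intro x hx
      obtain ⟨hxL, hxk⟩ := Subgroup.mem_inf.mp hx
      have hxk' : Commute x k := (Subgroup.mem_centralizer_iff.mp hxk k rfl).symm
      have hYk := le_zpowers_of_mem hqq hej c.hY hYe hk hk1
      rw [← c.L_inf_X hG hC h17]
      refine Subgroup.mem_inf.mpr ⟨hxL, Subgroup.mem_inf.mpr ⟨c.L_le hG hC h17 hxL, ?_⟩⟩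
      rw [Subgroup.mem_centralizer_iff]
      intro b hb
      obtain ⟨n, rfl⟩ := Subgroup.mem_zpowers_iff.mp (hYk hb)
      exact (hxk'.zpow_right n).eq.symm)
    ((sup_le hLE hKE).trans (c.hE.1.trans (le_normalizer_sigmaCore' M)))
    (Group.isSolvable_of_isSolvable_injective
      (Subgroup.inclusion_injective (Cfsg.Agent.Lib.Helper52_BG12a.sigmaCore_le M)))
    (Nat.Coprime.coprime_dvd_left (Subgroup.card_dvd_of_le (sup_le hLE hKE))
      (coprime_card_compl hG hU c.hM c.hE))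
    (by
      intro k hk hk1
      apply le_antisymm
      · rw [h27 k (heS hk) hk1]
        exact inf_le_inf_left _ (Subgroup.centralizer_le heS)
      · refine inf_le_inf_left _ (Subgroup.centralizer_le ?_)
        intro y hy
        rw [Set.mem_singleton_iff] at hy
        rw [hy]; exact hk)
    (by
      intro h
      have h1 : sigmaCore M ≤ ⊥ := by
        rw [← c.sigma_L hG hU h44 hC h17 h28]
        exact le_inf le_rfl h
      apply c.hD
      rw [eq_bot_iff]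
      exact inf_le_left.trans h1)

/-- `E` normalizes `X` -/
theorem hEX (hG : IsMinSimpleOddOrder G) (hU : UniqHyp G) (h44 : H1444.{u}) (hC : CentHyp G)
    (h17 : Hyp1417Full G) (h28 : H1428 G) :
    E ≤ normalizer ((A ⊓ centralizer (Y : Set G) : Subgroup G) : Set G) := by
  rw [c.X_eq hG hU h44 hC h17 h28]
  exact c.hE.1.trans (le_normalizer_inf_centralizer h17 c.hM c.hp c.hAM c.hAe c.hA2)

/-- (f) the elements of prime power order of `E` centralize `X` -/
theorem mem_centralizer_of_prime_pow (hG : IsMinSimpleOddOrder G) (hU : UniqHyp G) (h44 : H1444.{u})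
    (hC : CentHyp G) (h17 : Hyp1417Full G) (h28 : H1428 G) {e : G} (heE : e ∈ E) {r k : ℕ}
    (hr : r.Prime) (hek : orderOf e = r ^ k) :
    e ∈ centralizer ((A ⊓ centralizer (Y : Set G) : Subgroup G) : Set G) := by
  have hpp := hp.out
  have hqq : q.Prime := c.hq.1
  by_cases he1 : e = 1
  · rw [he1]; exact Subgroup.one_mem _
  have hk0 : k ≠ 0 := by
    intro h
    rw [h, pow_zero] at hek
    exact he1 (orderOf_eq_one_iff.mp hek)
  have hrE : r ∣ Nat.card E := by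
    have h1 : r ∣ orderOf e := by rw [hek]; exact dvd_pow_self r hk0
    exact h1.trans (Subgroup.orderOf_dvd_natCard E heE)
  have hEX := c.hEX hG hU h44 hC h17 h28
  have hsolvE : Group.IsSolvable ↥E :=
    have : Group.IsSolvable ↥M := hG.2.2.2 M c.hM.1
    Group.isSolvable_of_isSolvable_injective (Subgroup.inclusion_injective c.hE.1)
  have hzE : zpowers e ≤ E := Subgroup.zpowers_le.mpr heE
  have hzcard : ∀ (π : Set ℕ), r ∈ π → ∀ p' : ℕ, p'.Prime → p' ∣ Nat.card (zpowers e) → p' ∈ π := by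
    intro π hrπ p' hp' hdvd
    rw [Nat.card_zpowers, hek] at hdvd
    rw [(Nat.prime_dvd_prime_iff_eq hp' hr).mp (hp'.dvd_of_dvd_pow hdvd)]
    exact hrπ
  have hS15 := Cfsg.Agent.Lib.Helper29_BG12b.sigma_complement_statement hG hU M c.hM E c.hE
  have hconj_mem : ∀ {m : G} {D : Subgroup G}, cj m (zpowers e) ≤ D → m * e * m⁻¹ ∈ D := by
    intro m D h
    apply h
    rw [mem_cj]
    have : m⁻¹ * (m * e * m⁻¹) * m = e := by group
    rw [this]
    exact Subgroup.mem_zpowers e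
  rcases mem_tau_of_dvd_card hG hU c.hM c.hE hr hrE with (h1 | h3) | h2
  · -- `r ∈ τ₁(M)`
    obtain ⟨E₁, hE₁, hYE₁⟩ := Cfsg.Agent.Lib.Helper24_CoprimeHall.exists_piHall_ge hsolvE c.hYE
      (π := tau1 M) (by
        intro p' hp' hdvd
        rw [c.hY] at hdvd
        rw [(Nat.prime_dvd_prime_iff_eq hp' hqq).mp hdvd]
        exact c.hq)
    have hE₁c : IsCyclic ↥E₁ :=
      hS15.2.1 E₁ ((Cfsg.Agent.Lib.Helper24_CoprimeHall.isPiHallOf_iff _ _ _).mpr hE₁)
    have hE₁comm : ∀ a ∈ E₁, ∀ b ∈ E₁, a * b = b * a := by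
      intro a ha b hb
      have := (IsCyclic.isMulCommutative (α := ↥E₁)).is_comm.comm ⟨a, ha⟩ ⟨b, hb⟩
      exact congrArg Subtype.val this
    obtain ⟨m, hm, hcj⟩ := Cfsg.Agent.Lib.Helper47_BG1214a.exists_cj_le_of_piHall hsolvE hE₁ hzE
      (hzcard _ h1)
    apply mem_centralizer_of_conj (hEX hm)
    have he'E₁ : m * e * m⁻¹ ∈ E₁ := hconj_mem hcj
    have he'o : orderOf (m * e * m⁻¹) = r ^ k := by
      rw [← hek, ← MulAut.conj_apply]
      exact (MulAut.conj m).orderOf_eq e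
    set e' := m * e * m⁻¹ with he'
    obtain ⟨k', rfl⟩ : ∃ k', k = k' + 1 := ⟨k - 1, by omega⟩
    have hRcard := card_zpowers_pow hr he'o
    have hRE₁ : zpowers (e' ^ r ^ k') ≤ E₁ := Subgroup.zpowers_le.mpr (Subgroup.pow_mem _ he'E₁ _)
    have hRY : zpowers (e' ^ r ^ k') ≤ centralizer (Y : Set G) := by
      intro a ha
      rw [Subgroup.mem_centralizer_iff]
      intro y hy
      exact hE₁comm y (hYE₁ hy) a (hRE₁ ha)
    by_cases hrq : r = q
    · subst hrq
      have hRYeq : zpowers (e' ^ r ^ k') = Y :=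
        Cfsg.Agent.Lib.Helper52_BG12a.eq_of_card_eq_of_isCyclic hRE₁ hYE₁ (by rw [hRcard, c.hY])
      have hYe' : Y ≤ zpowers e' := by
        rw [← hRYeq]
        exact Subgroup.zpowers_le.mpr (Subgroup.pow_mem _ (Subgroup.mem_zpowers e') _)
      have hprime := c.card_zpowers_prime hG hU h44 hC h17 h28 (hE₁.1 he'E₁) he'o hYe'
      rw [Nat.card_zpowers, he'o] at hprime
      have hk' : k' + 1 = 1 := by
        have h4 : r = r ^ (k' + 1) :=
          (Nat.prime_dvd_prime_iff_eq hr hprime).mp (dvd_pow_self r (Nat.succ_ne_zero k'))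
        apply Nat.pow_right_injective hr.two_le
        show r ^ (k' + 1) = r ^ 1
        rw [← h4, pow_one]
      have he'Y : e' ∈ Y := by
        have h5 : Y = zpowers e' :=
          Subgroup.eq_of_le_of_card_ge hYe' (by rw [Nat.card_zpowers, he'o, hk', pow_one, c.hY])
        rw [h5]; exact Subgroup.mem_zpowers e'
      exact (Subgroup.le_centralizer_iff.mp (inf_le_right : A ⊓ centralizer (Y : Set G) ≤ _)) he'Y
    · exact (c.no_other_prime hG hU h44 hC h17 h28 h1 (hRE₁.trans hE₁.1) hRcard hRY hrq).elim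
  · -- `r ∈ τ₃(M)`
    obtain ⟨E₃, hE₃⟩ := Cfsg.Agent.Lib.Helper24_CoprimeHall.exists_piHall (tau3 M) E hsolvE
    have hE₃' : E₃ ≤ ⁅E, E⁆ :=
      (hS15.2.2 E₃ ((Cfsg.Agent.Lib.Helper24_CoprimeHall.isPiHallOf_iff _ _ _).mpr hE₃)).2.1
    obtain ⟨m, hm, hcj⟩ := Cfsg.Agent.Lib.Helper47_BG1214a.exists_cj_le_of_piHall hsolvE hE₃ hzE
      (hzcard _ h3)
    apply mem_centralizer_of_conj (hEX hm)
    have hder : ⁅E, E⁆ ≤ centralizer ((A ⊓ centralizer (Y : Set G) : Subgroup G) : Set G) := by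
      rw [Subgroup.commutator_le]
      intro a ha b hb
      exact commutator_mem_centralizer_of_card_prime hpp (c.card_X h17 h28) (hEX ha) (hEX hb)
    exact hder (hE₃' (hconj_mem hcj))
  · -- `r = p`
    have hτ := part_a hG hU h44 hC h17 c.hM c.hE c.hp ⟨c.hAE, c.hAe, c.hA2⟩ (c.hna hG hC h17 h28)
    rw [hτ] at h2
    have hrp : r = p := h2
    subst hrp
    obtain ⟨P, hAP, hP⟩ := exists_isSylowIn_ge (H := E) c.hAE (IsPGroup.of_card c.hA2)
    obtain ⟨hPcomm, -⟩ := sylow_facts h17 c.hM c.hp c.hAM c.hAe c.hA2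
      (isSylowIn_of_compl c.hE c.hp hP) hAP
    have hep : IsPGroup r ↥(zpowers e) := IsPGroup.of_card (by rw [Nat.card_zpowers, hek])
    obtain ⟨g, hgE, hg⟩ := hP.exists_conj_le hzE hep
    apply mem_centralizer_of_conj (hEX hgE)
    rw [Subgroup.mem_centralizer_iff]
    intro x hx
    exact hPcomm x (hAP hx.1) _ (hg e (Subgroup.mem_zpowers e))

/-- (f) = (B1): `M` centralizes `X` -/
theorem le_centralizer_fix (hG : IsMinSimpleOddOrder G) (hU : UniqHyp G) (h44 : H1444.{u})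
    (hC : CentHyp G) (h17 : Hyp1417Full G) (h28 : H1428 G) :
    M ≤ centralizer ((A ⊓ centralizer (Y : Set G) : Subgroup G) : Set G) := by
  -- `E ≤ C_G(X)`, by orders
  have hEC : E ≤ centralizer ((A ⊓ centralizer (Y : Set G) : Subgroup G) : Set G) := by
    have hdvd : Nat.card E ∣ Nat.card ↥(E ⊓ centralizer
        ((A ⊓ centralizer (Y : Set G) : Subgroup G) : Set G) : Subgroup G) := by
      rw [Nat.dvd_iff_prime_pow_dvd_dvd]
      intro r k hr hrk
      have : Fact r.Prime := ⟨hr⟩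
      obtain ⟨S, -, hS⟩ := exists_isSylowIn_ge (p := r) (H := E) (K := ⊥) bot_le
        (IsPGroup.of_bot)
      have hSC : S ≤ E ⊓ centralizer ((A ⊓ centralizer (Y : Set G) : Subgroup G) : Set G) := by
        refine le_inf hS.le ?_
        intro s hs
        obtain ⟨j, hj⟩ := (IsPGroup.iff_orderOf.mp hS.isPGroup) ⟨s, hs⟩
        rw [Subgroup.orderOf_mk] at hj
        exact c.mem_centralizer_of_prime_pow hG hU h44 hC h17 h28 (hS.le hs) hr hj
      refine dvd_trans ?_ (Subgroup.card_dvd_of_le hSC)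
      have h1 : Nat.card S * S.relIndex E = Nat.card E :=
        Cfsg.Agent.Lib.Helper22_Hyperplane.card_mul_relIndex hS.le
      rw [← h1] at hrk
      exact (Nat.Coprime.pow_left k ((Nat.Prime.coprime_iff_not_dvd hr).mpr hS.not_dvd)).dvd_of_dvd_mul_right
        hrk
    have heq : E ⊓ centralizer ((A ⊓ centralizer (Y : Set G) : Subgroup G) : Set G) = E :=
      Subgroup.eq_of_le_of_card_ge inf_le_left (Nat.le_of_dvd Nat.card_pos hdvd)
    rw [← heq]; exact inf_le_right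
  have hQC : sigmaCore M ≤ centralizer ((A ⊓ centralizer (Y : Set G) : Subgroup G) : Set G) := by
    rw [c.X_eq hG hU h44 hC h17 h28]
    exact Subgroup.le_centralizer_iff.mp inf_le_right
  intro m hm
  obtain ⟨a, ha, b, hb, rfl⟩ := c.hE.2.2.2 m hm
  exact Subgroup.mul_mem _ (hEC ha) (hQC hb)

/-- (B2) `p`-subgroups of `C_G(X)` over `A` are abelian with `Ω₁ ≤ A` -/
theorem hB2 (hG : IsMinSimpleOddOrder G) (hC : CentHyp G) (h17 : Hyp1417Full G) (h28 : H1428 G) :
    ∀ P : Subgroup G, IsPGroup p P → A ≤ P →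
      P ≤ centralizer ((A ⊓ centralizer (Y : Set G) : Subgroup G) : Set G) →
      (∀ a ∈ P, ∀ b ∈ P, a * b = b * a) ∧ ∀ z ∈ P, z ^ p = 1 → z ∈ A := by
  intro P hP hAP hPC
  have hPM : P ≤ M := hPC.trans (c.centralizer_X_le hG hC h17 h28).1
  obtain ⟨T, hPT, hT⟩ := exists_isSylowIn_ge (H := M) hPM hP
  obtain ⟨hTcomm, hΩ⟩ := sylow_facts h17 c.hM c.hp c.hAM c.hAe c.hA2 hT (hAP.trans hPT)
  exact ⟨fun a ha b hb => hTcomm a (hPT ha) b (hPT hb), fun z hz hzp => (hΩ z (hPT hz)).mp hzp⟩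

/-- (B3) `q` does not divide `|C_G(A)|` -/
theorem hB3 (hG : IsMinSimpleOddOrder G) (hC : CentHyp G) (h17 : Hyp1417Full G) (h28 : H1428 G) :
    ¬ q ∣ Nat.card (centralizer (A : Set G)) := by
  intro hdvd
  have hpp := hp.out
  have hqq : q.Prime := c.hq.1
  have : Fact q.Prime := ⟨hqq⟩
  obtain ⟨⟨hEN, -⟩, ⟨hCA, hMN, -⟩, -⟩ :=
    statement_S1418 hG hC h17 M c.hM E c.hE c.hp A ⟨c.hAE, c.hAe, c.hA2⟩
  have hCE : centralizer (A : Set G) ≤ E := hMN ▸ hCA
  obtain ⟨y', hy'⟩ := exists_prime_orderOf_dvd_card' q hdvd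
  have hy'o : orderOf (y' : G) = q := by rw [← hy']; exact Subgroup.orderOf_coe y'
  have hY1 : Y ≠ ⊥ := by
    intro h
    have h2 := c.hY
    rw [h, Subgroup.card_bot] at h2
    exact hqq.one_lt.ne h2
  have hYp : IsPGroup q ↥Y := IsPGroup.of_card (n := 1) (by rw [c.hY, pow_one])
  have hq2 : q ≠ 2 := Cfsg.Agent.Lib.Helper52_BG12a.ne_two_of_isPGroup hG hYp hY1
  obtain ⟨S, hYS, hS⟩ := exists_isSylowIn_ge (H := E) c.hYE hYp
  have hSc : IsCyclic ↥S := by
    apply Cfsg.Agent.Lib.Helper29_BG12a.isCyclic_of_pRankLE_one hq2 hS.isPGroup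
    exact Cfsg.Agent.Lib.Helper2_PRank.pRankLE_of_injective' q 1
      (Subgroup.inclusion (hS.le.trans c.hE.1))
      (Subgroup.inclusion_injective (hS.le.trans c.hE.1)) c.hq.2.2.2.2
  have hy'p : IsPGroup q ↥(zpowers (y' : G)) :=
    IsPGroup.of_card (n := 1) (by rw [Nat.card_zpowers, hy'o, pow_one])
  obtain ⟨g, hgE, hg⟩ := hS.exists_conj_le (Subgroup.zpowers_le.mpr (hCE y'.2)) hy'p
  have hgy : g * (y' : G) * g⁻¹ ∈ S := hg _ (Subgroup.mem_zpowers _)
  have hgo : orderOf (g * (y' : G) * g⁻¹) = q := by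
    rw [← hy'o, ← MulAut.conj_apply]
    exact (MulAut.conj g).orderOf_eq _
  have hYeq : zpowers (g * (y' : G) * g⁻¹) = Y :=
    Cfsg.Agent.Lib.Helper52_BG12a.eq_of_card_eq_of_isCyclic (Subgroup.zpowers_le.mpr hgy) hYS
      (by rw [Nat.card_zpowers, hgo, c.hY])
  -- `g y' g⁻¹` centralizes `A`
  have hgC : g * (y' : G) * g⁻¹ ∈ centralizer (A : Set G) := by
    rw [Subgroup.mem_centralizer_iff]
    intro a ha
    have hgi : g⁻¹ ∈ normalizer (A : Set G) := Subgroup.inv_mem _ (hEN hgE)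
    have h1 : g⁻¹ * a * g ∈ A := by
      have := (Subgroup.mem_normalizer_iff.mp hgi a).mp ha
      rwa [inv_inv] at this
    have h2 := Subgroup.mem_centralizer_iff.mp y'.2 _ h1
    calc a * (g * (y' : G) * g⁻¹) = g * ((g⁻¹ * a * g) * (y' : G)) * g⁻¹ := by group
      _ = g * ((y' : G) * (g⁻¹ * a * g)) * g⁻¹ := by rw [h2]
      _ = g * (y' : G) * g⁻¹ * a := by group
  have hYC : Y ≤ centralizer (A : Set G) := by
    rw [← hYeq]; exact Subgroup.zpowers_le.mpr hgC
  have hAX : A ≤ A ⊓ centralizer (Y : Set G) := le_inf le_rfl (Subgroup.le_centralizer_iff.mp hYC)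
  have h3 := Subgroup.card_le_of_le hAX
  rw [c.card_X h17 h28, c.hA2] at h3
  nlinarith [hpp.one_lt]

end Cfg

/-- the statement of helper59's "Lemma B", as a hypothesis on `G` -/
def LemmaBHyp (G : Type u) [Group G] [Finite G] : Prop :=
  ∀ {p q : ℕ} [Fact p.Prime] [Fact q.Prime] (_ : p ≠ q) {A X Y : Subgroup G}
    (_ : Cfsg.IsElementaryAbelian p A) (_ : Nat.card A = p ^ 2)
    (_ : ∀ D : Subgroup G, Cfsg.IsElementaryAbelian p D → A ≤ D → D = A)
    (_ : X ≤ A) (_ : Nat.card X = p) (_ : Nat.card Y = q)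
    (_ : Y ≤ normalizer (A : Set G)) (_ : A ⊓ centralizer (Y : Set G) = X)
    (_ : normalizer (X : Set G) ≤ centralizer (X : Set G))
    (_ : ∀ P : Subgroup G, IsPGroup p P → A ≤ P → P ≤ centralizer (X : Set G) →
      (∀ a ∈ P, ∀ b ∈ P, a * b = b * a) ∧ ∀ z ∈ P, z ^ p = 1 → z ∈ A)
    (_ : ¬ q ∣ Nat.card (centralizer (A : Set G)))
    (_ : ∀ S : Sylow p G, ¬ IsMulCommutative (S : Subgroup G)), False

/-- **Bender–Glauberman, Lemma 13.12** (`τ₁` acts regularly on `τ₂`), from S1428 and Lemma B -/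
theorem f1_of_h1428 (hG : IsMinSimpleOddOrder G) (h28 : H1428 G) (hB : LemmaBHyp G) : F1 G := by
  have hU : UniqHyp G := fun K hK h1 h3 => Cfsg.Agent.S1403.result hG K hK h1 h3
  have h44 : H1444.{u} := fun X _ _ _ hodd H R R₀ _ hHall hR hR₀ hR₀p hZ q _ =>
    Cfsg.Agent.S1444.result hodd H R R₀ hHall hR hR₀ hR₀p hZ q
  have hC : CentHyp G := fun M hM p _ A hAM hAe hA2 =>
    (Cfsg.Agent.S1416.result hG M hM p A ⟨hAM, hAe, hA2⟩).1
  have h17 : Hyp1417Full G := fun M hM q _ hq A hA => Cfsg.Agent.S1417.result hG M hM q hq A hA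
  intro M hM E hE q hq Y hYE hY hD p hp A hAE hAe hA2
  by_contra hX
  have : Fact p.Prime := ⟨hp.1⟩
  have : Fact q.Prime := ⟨hq.1⟩
  have c : Cfg M E A Y p q := ⟨hM, hE, hq, hYE, hY, hD, hp, hAE, hAe, hA2, hX⟩
  exact hB (p := p) (q := q) c.hqp.symm (A := A) (X := A ⊓ centralizer (Y : Set G)) (Y := Y) hAe hA2
    (maximal_of_tau2 hG hM hp c.hAM hAe hA2) inf_le_left (c.card_X h17 h28) hY
    (hYE.trans (c.hYN hG hC h17)) rfl
    ((c.normalizer_X_le hG hC h17 h28).trans (c.le_centralizer_fix hG hU h44 hC h17 h28))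
    (c.hB2 hG hC h17 h28) (c.hB3 hG hC h17 h28) (c.hna hG hC h17 h28)

end Cfsg.Agent.Lib.Helper97_BG1312
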