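import Cfsg.Agent.Lib.Helper72_BG142d
import Cfsg.Agent.Lib.Helper72_BG1311a
import Cfsg.Agent.Lib.Helper30_PrimeAct
import Cfsg.Agent.Lib.Helper97_BG1312
import Cfsg.Agent.Lib.Helper70_KeySig
import Cfsg.Agent.S1419

/-!
# Bender–Glauberman Theorem 14.2(c), last clause (helper72; piece P3b of helper23's skeleton)

`M` maximal, `K ≠ 1` a Hall `κ(M)`-subgroup of `M` acting in a prime manner on `M_σ`, `X ≤ K` of prime order,
`M*` a maximal subgroup over `N_G(X)`.  Then `X ≤ M*_σ` (`le_sigmaCore_of_normalizer_le`).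

Hypotheses: `F1 G` (B-G 13.7, `Helper23_BG13Hyp`), the prime action of `K` (first conjunct of S1430) and the
abelian Hall subgroup `U` (second conjunct of S1430, needed for `Helper72_BG142d.cent_le_of_le_kstar`).
-/

set_option autoImplicit false

namespace Cfsg.Agent.Lib.Helper72_BG142c

open Subgroup Cfsg Cfsg.Agent.Lib.Helper22_Radical Cfsg.Agent.Lib.Helper22_BGTrans
  Cfsg.Agent.Lib.Helper84_RelSylow Cfsg.Agent.Lib.Helper49_Sigma
  Cfsg.Agent.Lib.Helper24_CoprimeHall Cfsg.Agent.Lib.Helper24_CoprimeAction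
  Cfsg.Agent.Lib.Helper76_BG13a Cfsg.Agent.Lib.Helper76_BG13b Cfsg.Agent.Lib.Helper76_BG13c
  Cfsg.Agent.Lib.Helper31_BG131 Cfsg.Agent.Lib.Helper31_BG13b Cfsg.Agent.Lib.Helper23_BG13Hyp
  Cfsg.Agent.Lib.Helper72_BG1311a Cfsg.Agent.Lib.Helper22_BGTransUp

open scoped commutatorElement

universe u

variable {G : Type u} [Group G] [Finite G]

/-- step (c) of helper59's proof of B-G 13.7, in general form: `A` elementary abelian of order `p ^ 2`, `Y`
normalizing `A`, `N_G(C_A(Y)) ≤ H` but `N_G(A) ≰ H`: the Sylow `p`-subgroups of `G` are nonabelian. -/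
theorem sylow_not_comm_of_line (hG : IsMinSimpleOddOrder G) {p : ℕ} [Fact p.Prime] {A Y H : Subgroup G}
    (hA2 : Nat.card A = p ^ 2) (hA1 : A ≠ ⊥)
    (hYN : Y ≤ normalizer (A : Set G))
    (hNX : normalizer ((A ⊓ centralizer (Y : Set G) : Subgroup G) : Set G) ≤ H)
    (hNA : ¬ normalizer (A : Set G) ≤ H) :
    ∀ S : Sylow p G, ¬ IsMulCommutative (S : Subgroup G) := by
  intro S hS
  have hAp : IsPGroup p ↥A := IsPGroup.of_card hA2
  have hp2 : p ≠ 2 := Cfsg.Agent.Lib.Helper52_BG12a.ne_two_of_isPGroup hG hAp hA1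
  -- every `p`-element of `N_G(A)` centralizes `A`
  have hpel : ∀ t ∈ normalizer (A : Set G), (∃ k, orderOf t = p ^ k) →
      t ∈ centralizer (A : Set G) := by
    rintro t ht ⟨k, hk⟩
    have htp : IsPGroup p ↥(zpowers t) := IsPGroup.of_card (by rw [Nat.card_zpowers, hk])
    have hT : IsPGroup p ↥(zpowers t ⊔ A : Subgroup G) :=
      htp.to_sup_of_normal_right' hAp (Subgroup.zpowers_le.mpr ht)
    obtain ⟨g, hg⟩ := exists_conj_le_sylow S hT
    rw [Subgroup.mem_centralizer_iff]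
    intro a ha
    have h1 : g * a * g⁻¹ ∈ (S : Subgroup G) := hg a (Subgroup.mem_sup_right ha)
    have h2 : g * t * g⁻¹ ∈ (S : Subgroup G) :=
      hg t (Subgroup.mem_sup_left (Subgroup.mem_zpowers t))
    have h3 := congrArg Subtype.val (hS.is_comm.comm ⟨_, h1⟩ ⟨_, h2⟩)
    simp only [Subgroup.coe_mul] at h3
    have h4 : g * (a * t) * g⁻¹ = g * (t * a) * g⁻¹ := by
      calc g * (a * t) * g⁻¹ = (g * a * g⁻¹) * (g * t * g⁻¹) := by group
        _ = (g * t * g⁻¹) * (g * a * g⁻¹) := h3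
        _ = g * (t * a) * g⁻¹ := by group
    exact mul_left_cancel (mul_right_cancel h4)
  have hnar : Cfsg.IsNarrow p ↥A := by
    left
    intro B _ _
    rw [← hA2]
    exact Subgroup.card_le_card_group B
  -- the derived group of `N_G(A)` centralizes `A`
  have hNN : ⁅normalizer (A : Set G), normalizer (A : Set G)⁆ ≤ normalizer (A : Set G) := by
    rw [Subgroup.commutator_le]
    intro a ha b hb
    rw [commutatorElement_def]
    exact Subgroup.mul_mem _ (Subgroup.mul_mem _ (Subgroup.mul_mem _ ha hb) (Subgroup.inv_mem _ ha))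
      (Subgroup.inv_mem _ hb)
  have hder : ⁅normalizer (A : Set G), normalizer (A : Set G)⁆ ≤ centralizer (A : Set G) := by
    intro x hx
    apply Cfsg.Agent.Lib.Helper97_BG1312.mem_of_parts_mem p
    · intro m hm
      exact hpel _ (Subgroup.pow_mem _ (hNN hx) m) hm
    · intro m hm
      exact Cfsg.Agent.Lib.Helper70_KeySig.mem_centralizer_of_mem_commutator_normalizer
        hp2 hG.1 A hAp hnar _ (Subgroup.pow_mem _ hx m) hm
  apply hNA
  refine le_trans ?_ hNX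
  apply le_normalizer_of_conj_mem
  intro n hn a ha
  obtain ⟨haA, haY⟩ := Subgroup.mem_inf.mp ha
  refine Subgroup.mem_inf.mpr ⟨(Subgroup.mem_normalizer_iff.mp hn a).mp haA, ?_⟩
  rw [Subgroup.mem_centralizer_iff]
  intro y hy
  have hyN : y ∈ normalizer (A : Set G) := hYN hy
  have hcm : ⁅n⁻¹, y⁆ ∈ centralizer (A : Set G) :=
    hder (Subgroup.commutator_mem_commutator (Subgroup.inv_mem _ hn) hyN)
  rw [commutatorElement_def, inv_inv] at hcm
  have h1 : (n⁻¹ * y * n * y⁻¹) * a = a * (n⁻¹ * y * n * y⁻¹) :=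
    (Subgroup.mem_centralizer_iff.mp hcm a haA).symm
  have h2 : y * a = a * y := Subgroup.mem_centralizer_iff.mp haY y hy
  -- `n⁻¹ y n` commutes with `a`
  have h3 : (n⁻¹ * y * n) * a = a * (n⁻¹ * y * n) := by
    calc (n⁻¹ * y * n) * a = (n⁻¹ * y * n * y⁻¹) * (y * a) := by group
      _ = (n⁻¹ * y * n * y⁻¹) * (a * y) := by rw [h2]
      _ = ((n⁻¹ * y * n * y⁻¹) * a) * y := by group
      _ = (a * (n⁻¹ * y * n * y⁻¹)) * y := by rw [h1]
      _ = a * (n⁻¹ * y * n) := by group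
  calc y * (n * a * n⁻¹) = n * ((n⁻¹ * y * n) * a) * n⁻¹ := by group
    _ = n * (a * (n⁻¹ * y * n)) * n⁻¹ := by rw [h3]
    _ = n * a * n⁻¹ * y := by group

/-- **Bender–Glauberman 14.2(c), last clause** (piece P3b): for `X ≤ K` of prime order and a maximal
subgroup `H ≥ N_G(X)`, `X ≤ H_σ`. -/
theorem le_sigmaCore_of_normalizer_le (hG : IsMinSimpleOddOrder G) (hF1 : F1 G)
    {M K : Subgroup G} (hM : IsCoatom M) (hK : IsPiHallOf (kappa M) K M) (hK1 : K ≠ ⊥)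
    (hS1 : ∀ k ∈ K, k ≠ 1 →
      sigmaCore M ⊓ centralizer ({k} : Set G) = sigmaCore M ⊓ centralizer (K : Set G))
    (hU : ∃ U : Subgroup G, IsMulCommutative U ∧
      IsPiHallOf {q | q.Prime ∧ q ∉ kappa M ∧ q ∉ sigma M} U M ∧
      K ≤ normalizer (U : Set G) ∧ ∀ k ∈ K, k ≠ 1 → U ⊓ centralizer ({k} : Set G) = ⊥)
    {X : Subgroup G} (hXK : X ≤ K) (hXp : (Nat.card X).Prime)
    {H : Subgroup G} (hH : IsCoatom H) (hN : normalizer (X : Set G) ≤ H) :
    X ≤ sigmaCore H := by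
  obtain ⟨p, hpX⟩ : ∃ p, Nat.card X = p := ⟨_, rfl⟩
  have hpp : p.Prime := hpX ▸ hXp
  have : Fact p.Prime := ⟨hpp⟩
  have hU0 := Cfsg.Agent.Lib.Helper49_SigmaDisjoint.uniqHyp hG
  have hXpg : IsPGroup p X := IsPGroup.of_card (n := 1) (by rw [hpX, pow_one])
  have hX1 : X ≠ ⊥ := ne_bot_of_card_prime hpp hpX
  have hXM : X ≤ M := hXK.trans hK.1
  have hXH : X ≤ H := le_normalizer.trans hN
  have hpκ : p ∈ kappa M := hK.2.1 p hpp (hpX ▸ Subgroup.card_dvd_of_le hXK)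
  rcases mem_sigma_or_tau2 hG hH hXpg hX1 hN with hσ | hτ
  · exact le_sigmaCore_of_isPGroup' hG hH hσ hXpg hXH
  exfalso
  have hsolvH := isSolvable_of_isCoatom hG hH
  have hrkM : PRankLE p 1 ↥M :=
    Cfsg.Agent.Lib.Helper29_BG144c.pRankLE_one_of_sylow_cyclic p (fun P => (hpκ.2.2.2 P).1)
  -- `M` is not conjugate to `H`
  have hnc : ∀ g : G, M ≠ cj g H := by
    intro g hg
    exact hτ.2.2.2 (pRankLE_of_cj g (hg ▸ hrkM))
  -- `H_σ` is nilpotent
  obtain ⟨A₀, hA₀H, hA₀e, hA₀2⟩ :=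
    Cfsg.Agent.Lib.Helper49_Alpha3.exists_elemAb_sq hτ.2.2.1 hτ.2.2.2
  have hnil := (Cfsg.Agent.S1417.result hG H hH p hτ A₀ ⟨hA₀H, hA₀e, hA₀2⟩).1
  -- `K* ≠ 1`
  have hCX : sigmaCore M ⊓ centralizer (X : Set G) = sigmaCore M ⊓ centralizer (K : Set G) := by
    obtain ⟨k, hk1⟩ := (Subgroup.ne_bot_iff_exists_ne_one).mp hX1
    apply le_antisymm
    · rw [← hS1 (k : G) (hXK k.2) (fun h => hk1 (Subtype.ext h))]
      exact inf_le_inf_left _ (Subgroup.centralizer_le (Set.singleton_subset_iff.mpr k.2))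
    · exact inf_le_inf_left _ (Subgroup.centralizer_le hXK)
  have hKs1 : sigmaCore M ⊓ centralizer (K : Set G) ≠ ⊥ := by
    rw [← hCX]
    exact Cfsg.Agent.Lib.Helper30_PrimeAct.inf_centralizer_ne_bot_of_mem_kappa hpκ hXM hpX
  -- `Y ≤ K*` of prime order `q`
  obtain ⟨q, hq, hqd⟩ := Nat.exists_prime_and_dvd
    (fun h => hKs1 (Subgroup.card_eq_one.mp h))
  have : Fact q.Prime := ⟨hq⟩
  obtain ⟨Y, hYK, hYc⟩ := exists_le_card_eq_prime hqd
  have hY1 : Y ≠ ⊥ := ne_bot_of_card_prime hq hYc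
  have hYq : IsPGroup q Y := IsPGroup.of_card (n := 1) (by rw [hYc, pow_one])
  have hqM : q ∈ sigma M := mem_sigma_of_dvd_card_le_sigmaCore inf_le_left hq hqd
  have hYX : Y ≤ centralizer (X : Set G) := (hYK.trans inf_le_right).trans (Subgroup.centralizer_le hXK)
  have hXY : X ≤ centralizer (Y : Set G) := Subgroup.le_centralizer_iff.mp hYX
  have hYH : Y ≤ H := hYX.trans ((Subgroup.centralizer_le_normalizer (s := (X : Set G))).trans hN)
  have hpq : p ≠ q := by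
    rintro rfl
    exact hpκ.2.2.1 hqM
  have hqH : q ∉ sigma H := fun h =>
    Cfsg.Agent.Lib.Helper49_SigmaDisjoint.sigma_inter_sigma hG hH hM hnc hnil (sigma_hall hG hH) h hqM
  -- `C_G(Y) ≤ M`
  obtain ⟨⟨hCYM, -⟩, -⟩ := Cfsg.Agent.Lib.Helper72_BG142d.cent_le_of_le_kstar hG hM hK hK1 hU hYK
    (hYc ▸ hq)
  -- a complement `E` of `H_σ` containing `X Y`
  have hcopXY : (Nat.card X).Coprime (Nat.card Y) := by
    rw [hpX, hYc]
    exact (Nat.coprime_primes hpp hq).mpr hpq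
  have hdisjXY : X ⊓ Y = ⊥ := (Subgroup.disjoint_of_coprime_natCard hcopXY).eq_bot
  have hYNX : Y ≤ normalizer (X : Set G) := hYX.trans (Subgroup.centralizer_le_normalizer _)
  have hTH : X ⊔ Y ≤ H := sup_le hXH hYH
  have hTσ : ∀ t : ℕ, t.Prime → t ∣ Nat.card ↥(X ⊔ Y) → t ∉ sigma H := by
    intro t ht hd
    rcases prime_dvd_card_sup hYNX hdisjXY ht hd with h1 | h1
    · rw [hpX] at h1
      rw [(Nat.prime_dvd_prime_iff_eq ht hpp).mp h1]
      exact hτ.2.1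
    · rw [hYc] at h1
      rw [(Nat.prime_dvd_prime_iff_eq ht hq).mp h1]
      exact hqH
  obtain ⟨E, hE, hTE⟩ := exists_compl_ge hsolvH (sigma_hall hG hH) hTH hTσ
  have hXE : X ≤ E := le_sup_left.trans hTE
  have hYE : Y ≤ E := le_sup_right.trans hTE
  obtain ⟨A, hAE, hAe, hA2⟩ := exists_elemAb_le_compl hG hH hE hτ
  obtain ⟨⟨hEN, hall⟩, ⟨-, -, hNA⟩, -⟩ :=
    Cfsg.Agent.S1418.result hG H hH E hE p hτ A ⟨hAE, hAe, hA2⟩
  have hXA : X ≤ A := hall X hXE hpX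
  have hA1 : A ≠ ⊥ := fun h => hX1 (eq_bot_iff.mpr (h ▸ hXA))
  have hYNA : Y ≤ normalizer (A : Set G) := hYE.trans hEN
  -- `C_A(Y) = X`
  have hCAY : A ⊓ centralizer (Y : Set G) = X := by
    have hle : X ≤ A ⊓ centralizer (Y : Set G) := le_inf hXA hXY
    have hcard : Nat.card ↥(A ⊓ centralizer (Y : Set G)) ≤ p := by
      apply Cfsg.Agent.Lib.Helper62_EStarCent.card_le_of_lt_of_card_sq hpp inf_le_left ?_ hA2
      intro hAX
      exact not_pRankLE_one_of_elemAb hpp ((hAX.trans inf_le_right).trans hCYM) hAe hA2 hrkM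
    exact (Subgroup.eq_of_le_of_card_ge hle (by rw [hpX]; exact hcard)).symm
  -- the Sylow `p`-subgroups of `G` are nonabelian
  have hS : ∀ S : Sylow p G, ¬ IsMulCommutative (S : Subgroup G) :=
    sylow_not_comm_of_line hG hA2 hA1 hYNA (by rw [hCAY]; exact hN) hNA
  obtain ⟨hτ2, ⟨hcardC, -⟩, hreg⟩ :=
    Cfsg.Agent.S1419.result hG H hH E hE p hτ hS A ⟨hAE, hAe, hA2⟩
  -- `X = A ∩ C(H_σ)`
  have hXeq : X = A ⊓ centralizer ((sigmaCore H : Subgroup G) : Set G) := by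
    by_contra hne
    exact (hreg X hXE hpX hne).2 ((Subgroup.centralizer_le_normalizer (s := (X : Set G))).trans hN)
  -- `H_σ ≠ 1`
  have hHσ1 : sigmaCore H ≠ ⊥ := by
    intro h
    have hAle : A ≤ A ⊓ centralizer ((sigmaCore H : Subgroup G) : Set G) := by
      refine le_inf le_rfl ?_
      intro a _
      rw [Subgroup.mem_centralizer_iff]
      intro x hx
      rw [h] at hx
      have hx1 : x = 1 := hx
      rw [hx1, one_mul, mul_one]
    have h1 := Subgroup.card_le_of_le hAle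
    rw [hcardC, hA2] at h1
    nlinarith [hpp.one_lt]
  -- `L₀ = [A, Y]`
  have hAcomm := Cfsg.Agent.Lib.Helper62_EStarCent.comm_of_isElementaryAbelian hAe
  have hAinst : IsMulCommutative ↥A := ⟨⟨fun a b => Subtype.ext (hAcomm a a.2 b b.2)⟩⟩
  have hcopYA : (Nat.card Y).Coprime (Nat.card A) := by
    rw [hYc, hA2]
    exact Nat.Coprime.pow_right 2 ((Nat.coprime_primes hq hpp).mpr hpq.symm)
  have hL0A : ⁅A, Y⁆ ≤ A := Cfsg.Agent.Lib.Helper2_Coprime.commutator_le_of_le_normalizer A Y hYNA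
  have hL0X : ⁅A, Y⁆ ⊓ X = ⊥ := by
    have := Cfsg.Agent.Lib.Helper2_Coprime.commutator_inf_centralizer_eq_bot A Y hYNA hcopYA
    rwa [hCAY] at this
  have hL0supX : ⁅A, Y⁆ ⊔ X = A := by
    have := Cfsg.Agent.Lib.Helper2_Coprime.commutator_sup_centralizer_eq A Y hYNA hcopYA
    rwa [hCAY] at this
  have hL0card : Nat.card ↥⁅A, Y⁆ = p := by
    have h1 := Cfsg.Agent.Lib.Helper1_FPF.card_sup_of_le_normalizer ⁅A, Y⁆ X (by
      intro l hl
      apply Subgroup.centralizer_le_normalizer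
      rw [Subgroup.mem_centralizer_iff]
      intro x hx
      exact hAcomm x (hXA hx) l (hL0A hl)) hL0X
    rw [hL0supX, hA2, hpX, pow_two] at h1
    exact (Nat.eq_of_mul_eq_mul_right hpp.pos h1).symm
  have hL01 : ⁅A, Y⁆ ≠ ⊥ := ne_bot_of_card_prime hpp hL0card
  have hL0ne : ⁅A, Y⁆ ≠ A ⊓ centralizer ((sigmaCore H : Subgroup G) : Set G) := by
    rw [← hXeq]
    intro h
    apply hL01
    rw [← hL0X, h, inf_idem]
  have hL0reg : sigmaCore H ⊓ centralizer ((⁅A, Y⁆ : Subgroup G) : Set G) = ⊥ :=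
    (hreg ⁅A, Y⁆ (hL0A.trans hAE) hL0card hL0ne).1
  -- `Y` is nonregular on `H_σ` (S1446)
  have hYL0 : Y ≤ normalizer ((⁅A, Y⁆ : Subgroup G) : Set G) := fun y hy =>
    mem_normalizer_commutator A Y (hYNA hy) (le_normalizer hy)
  have hcopL0Y : (Nat.card ↥⁅A, Y⁆).Coprime (Nat.card Y) := by
    rw [hL0card, hYc]
    exact (Nat.coprime_primes hpp hq).mpr hpq
  have hL0Y : ⁅A, Y⁆ ⊓ Y = ⊥ := (Subgroup.disjoint_of_coprime_natCard hcopL0Y).eq_bot
  have hcentY : ∀ y ∈ Y, y ≠ 1 → centralizer ({y} : Set G) = centralizer (Y : Set G) := by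
    intro y hy hy1
    rw [← Cfsg.Agent.Lib.Helper97_BG1312.zpowers_eq_of_card hq hYc hy hy1,
      Subgroup.zpowers_eq_closure, Subgroup.centralizer_closure]
  have hfrob : ∀ y ∈ Y, y ≠ 1 → ⁅A, Y⁆ ⊓ centralizer ({y} : Set G) = ⊥ := by
    intro y hy hy1
    rw [hcentY y hy hy1, eq_bot_iff, ← hL0X, ← hCAY]
    exact le_inf inf_le_left (le_inf (inf_le_left.trans hL0A) inf_le_right)
  have hL0YE : ⁅A, Y⁆ ⊔ Y ≤ E := sup_le (hL0A.trans hAE) hYE
  have hsolvLY : Group.IsSolvable ↥(⁅A, Y⁆ ⊔ Y) := isSolvable_of_le hG hH (hL0YE.trans hE.1)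
  have hoddLY : Odd (Nat.card ↥(⁅A, Y⁆ ⊔ Y)) :=
    Odd.of_dvd_nat hG.1 (Subgroup.card_subgroup_dvd_card _)
  have hHN : H ≤ normalizer ((sigmaCore H : Subgroup G) : Set G) := le_normalizer_sigmaCore' H
  have hcopE : (Nat.card ↥(⁅A, Y⁆ ⊔ Y)).Coprime (Nat.card ↥(sigmaCore H)) :=
    Nat.Coprime.coprime_dvd_left (Subgroup.card_dvd_of_le hL0YE)
      (Cfsg.Agent.Lib.Helper97_BG1312.coprime_card_compl hG hU0 hH hE)
  have hpr : ∀ y ∈ Y, y ≠ 1 → sigmaCore H ⊓ centralizer ({y} : Set G) =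
      sigmaCore H ⊓ centralizer (Y : Set G) := by
    intro y hy hy1
    rw [hcentY y hy hy1]
  obtain ⟨-, hcardσ, -⟩ := Cfsg.Agent.S1446.result (X := G) ⁅A, Y⁆ Y (sigmaCore H) hL01 hY1 hL0Y hYL0
    hfrob hsolvLY hoddLY hHσ1 hnil (((hL0A.trans hAE).trans hE.1).trans hHN) (hYH.trans hHN) hcopE
    hL0reg hpr
  have hYnr : sigmaCore H ⊓ centralizer (Y : Set G) ≠ ⊥ := by
    intro h
    rw [h, Subgroup.card_bot, one_pow] at hcardσ
    exact hHσ1 (Subgroup.card_eq_one.mp hcardσ)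
  -- the type of `q` in `H`
  have hr2 := Cfsg.Agent.Lib.Helper23_SigmaHall.pRankLE_of_not_mem_sigma hG hU0 hH hq hqH
  have hr1 : PRankLE q 1 ↥H := by
    by_contra hr1
    have h2 : q ∈ tau2 H := ⟨hq, hqH, hr2, hr1⟩
    rw [hτ2, Set.mem_singleton_iff] at h2
    exact hpq h2.symm
  by_cases hd : q ∣ Nat.card ↥⁅H, H⁆
  · exact tau2_empty_of_caseB hG hH hE ⟨q, ⟨hq, hqH, hd, hr1⟩, Y, hYE, hYc, hYnr⟩ p hτ
  · have hq1 : q ∈ tau1 H :=
      ⟨hq, hqH, hYc ▸ (Subgroup.card_dvd_of_le hYH), hd, hr1⟩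
    have h0 := hF1 H hH E hE q hq1 Y hYE hYc hYnr p hτ A hAE hAe hA2
    rw [hCAY] at h0
    exact hX1 h0

/-- the statement of piece P3b of helper23's skeleton, with `Struct M K` unfolded (`h28` is not needed) -/
theorem le_sigmaCore_of_normalizer_le' (hG : IsMinSimpleOddOrder G) (_h28 : H1428 G) (hF1 : F1 G)
    {M K : Subgroup G} (hM : IsCoatom M) (hK : IsPiHallOf (kappa M) K M) (hK1 : K ≠ ⊥)
    (hS : (∀ k ∈ K, k ≠ 1 →
        sigmaCore M ⊓ centralizer ({k} : Set G) = sigmaCore M ⊓ centralizer (K : Set G)) ∧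
      (∃ U : Subgroup G, IsMulCommutative U ∧
        IsPiHallOf {q | q.Prime ∧ q ∉ kappa M ∧ q ∉ sigma M} U M ∧
        K ≤ normalizer (U : Set G) ∧ ∀ k ∈ K, k ≠ 1 → U ⊓ centralizer ({k} : Set G) = ⊥) ∧
      ∀ X : Subgroup G, X ≤ K → (Nat.card X).Prime →
        M ⊓ normalizer (X : Set G) = K ⊔ (sigmaCore M ⊓ centralizer (K : Set G)) ∧
        M ⊓ normalizer (K : Set G) = K ⊔ (sigmaCore M ⊓ centralizer (K : Set G)))
    {X : Subgroup G} (hXK : X ≤ K) (hXp : (Nat.card X).Prime)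
    {Mstar : Subgroup G} (hMs : IsCoatom Mstar) (hN : normalizer (X : Set G) ≤ Mstar) :
    X ≤ sigmaCore Mstar :=
  le_sigmaCore_of_normalizer_le hG hF1 hM hK hK1 hS.1 hS.2.1 hXK hXp hMs hN

end Cfsg.Agent.Lib.Helper72_BG142c
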