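import Cfsg.Agent.S1403
import Cfsg.Agent.S1423
import Cfsg.Agent.S1426
import Cfsg.Agent.S1429
import Cfsg.Agent.S1446
import Cfsg.Agent.Lib.Helper76_BG13b
import Cfsg.Agent.Lib.Helper79_Nilpotent
import Cfsg.Agent.Lib.Helper29_Local
import Cfsg.Agent.Lib.Helper22_BGTransUp
import Cfsg.Agent.Lib.Helper22_Uniq5

/-!
# Bender–Glauberman Theorem 14.2(d) (helper72; piece PD of helper23's skeleton)

`M` maximal, `K ≠ 1` a Hall `κ(M)`-subgroup of `M`, `U` an abelian Hall subgroup for the primes outside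
`κ(M) ∪ σ(M)` normalized by `K` on which `K` acts regularly.  For `Y ≤ K* = C_{M_σ}(K)` of prime order:
`C_G(Y)` lies in `M` and in no other maximal subgroup, and every Sylow `|Y|`-subgroup of `M_σ` lies in
a unique maximal subgroup.

* type P1 (all primes of `M` outside `σ(M)` are in `κ(M)`): `K` is a complement of `M_σ`,
  `K* ≤ (M_σ)'` (S1426) and S1423 applies.
* otherwise: S1429 gives `M_σ` nilpotent and `C_{M_σ}(Ω₁(T)) = 1` for a Sylow `t`-subgroup `T ≤ U`;
  `V := Ω₁(Z(M_σ)_q)` is acted on by the Frobenius group `U Y₀` (`Y₀ ≤ K` of prime order) with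
  `C_V(U) = 1`, so `|V| = |C_V(Y₀)|^{|Y₀|} ≥ q ^ 3` (S1446) and S1403 applies to `V ≤ C_G(Y)`.
-/

set_option autoImplicit false

namespace Cfsg.Agent.Lib.Helper72_BG142d

open Subgroup Cfsg Cfsg.Agent.Lib.Helper84_RelSylow Cfsg.Agent.Lib.Helper24_CoprimeHall
  Cfsg.Agent.Lib.Helper76_BG13a Cfsg.Agent.Lib.Helper76_BG13b

universe u

variable {G : Type u} [Group G]

/-- the elements of order dividing `q` in the centre of `N`, as a subgroup of `G` -/
def centralTorsion (N : Subgroup G) (q : ℕ) : Subgroup G where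
  carrier := {x | x ∈ N ∧ (∀ y ∈ N, y * x = x * y) ∧ x ^ q = 1}
  one_mem' := ⟨N.one_mem, fun y _ => by rw [mul_one, one_mul], one_pow q⟩
  mul_mem' := by
    rintro a b ⟨ha, hac, haq⟩ ⟨hb, hbc, hbq⟩
    refine ⟨N.mul_mem ha hb, fun y hy => ?_, ?_⟩
    · calc y * (a * b) = (y * a) * b := by group
        _ = (a * y) * b := by rw [hac y hy]
        _ = a * (y * b) := by group
        _ = a * (b * y) := by rw [hbc y hy]
        _ = a * b * y := by group
    · have hab : Commute a b := hbc a ha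
      rw [hab.mul_pow, haq, hbq, one_mul]
  inv_mem' := by
    rintro a ⟨ha, hac, haq⟩
    refine ⟨N.inv_mem ha, fun y hy => ?_, by rw [inv_pow, haq, inv_one]⟩
    have h := hac y hy
    calc y * a⁻¹ = a⁻¹ * (a * y) * a⁻¹ := by group
      _ = a⁻¹ * (y * a) * a⁻¹ := by rw [h]
      _ = a⁻¹ * y := by group

theorem mem_centralTorsion {N : Subgroup G} {q : ℕ} {x : G} :
    x ∈ centralTorsion N q ↔ x ∈ N ∧ (∀ y ∈ N, y * x = x * y) ∧ x ^ q = 1 := Iff.rfl

theorem centralTorsion_le (N : Subgroup G) (q : ℕ) : centralTorsion N q ≤ N := fun _ hx => hx.1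

theorem centralTorsion_comm {N : Subgroup G} {q : ℕ} {a b : G} (ha : a ∈ centralTorsion N q)
    (hb : b ∈ centralTorsion N q) : a * b = b * a := hb.2.1 a ha.1

theorem centralTorsion_pow {N : Subgroup G} {q : ℕ} {a : G} (ha : a ∈ centralTorsion N q) :
    a ^ q = 1 := ha.2.2

theorem centralTorsion_le_centralizer {N Y : Subgroup G} (q : ℕ) (hYN : Y ≤ N) :
    centralTorsion N q ≤ centralizer (Y : Set G) := by
  intro x hx
  rw [mem_centralizer_iff]
  intro y hy
  exact hx.2.1 y (hYN hy)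

theorem le_normalizer_centralTorsion {N L : Subgroup G} (q : ℕ) (hL : L ≤ normalizer (N : Set G)) :
    L ≤ normalizer ((centralTorsion N q : Subgroup G) : Set G) := by
  apply Cfsg.Agent.Lib.Helper22_BGTransUp.le_normalizer_of_conj_mem
  rintro g hg x ⟨hxN, hxc, hxq⟩
  have hgN := hL hg
  have hgN' := inv_mem hgN
  refine ⟨(mem_normalizer_iff.mp hgN x).mp hxN, fun y hy => ?_, ?_⟩
  · have hy' : g⁻¹ * y * g⁻¹⁻¹ ∈ N := (mem_normalizer_iff.mp hgN' y).mp hy
    have h := hxc _ hy'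
    calc y * (g * x * g⁻¹) = g * ((g⁻¹ * y * g⁻¹⁻¹) * x) * g⁻¹ := by group
      _ = g * (x * (g⁻¹ * y * g⁻¹⁻¹)) * g⁻¹ := by rw [h]
      _ = g * x * g⁻¹ * y := by group
  · rw [conj_pow, hxq, mul_one, mul_inv_cancel]

theorem isPGroup_centralTorsion (N : Subgroup G) (q : ℕ) : IsPGroup q ↥(centralTorsion N q) := by
  rintro ⟨x, hx⟩
  refine ⟨1, ?_⟩
  apply Subtype.ext
  rw [pow_one, Subgroup.coe_pow]
  exact hx.2.2

/-- a commutative subgroup of exponent `q` and order `> q ^ k` inside `X` shows that `X` has `q`-rank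
`> k` -/
theorem not_pRankLE_of_le {V X : Subgroup G} {q k : ℕ} (hVX : V ≤ X)
    (hc : ∀ a ∈ V, ∀ b ∈ V, a * b = b * a) (hq : ∀ a ∈ V, a ^ q = 1)
    (hcard : q ^ k < Nat.card V) : ¬ PRankLE q k ↥X := by
  intro h
  have h1 : IsMulCommutative ↥(V.subgroupOf X) :=
    ⟨⟨fun a b => Subtype.ext (Subtype.ext (hc _ (mem_subgroupOf.mp a.2) _ (mem_subgroupOf.mp b.2)))⟩⟩
  have h2 : ∀ a ∈ V.subgroupOf X, a ^ q = 1 := by
    intro a ha
    apply Subtype.ext
    rw [Subgroup.coe_pow]
    exact hq _ (mem_subgroupOf.mp ha)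
  have h3 := h (V.subgroupOf X) h1 h2
  rw [Cfsg.Agent.Lib.Helper24_CoprimeAction.card_subgroupOf_of_le hVX] at h3
  omega

variable [Finite G]

/-- **Bender–Glauberman 14.2(d)** (piece PD).  The hypothesis `hU` is the second conjunct of
`Struct M K` of helper23's skeleton. -/
theorem cent_le_of_le_kstar (hG : IsMinSimpleOddOrder G) {M K : Subgroup G} (hM : IsCoatom M)
    (hK : IsPiHallOf (kappa M) K M) (hK1 : K ≠ ⊥)
    (hU : ∃ U : Subgroup G, IsMulCommutative U ∧
      IsPiHallOf {q | q.Prime ∧ q ∉ kappa M ∧ q ∉ sigma M} U M ∧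
      K ≤ normalizer (U : Set G) ∧ ∀ k ∈ K, k ≠ 1 → U ⊓ centralizer ({k} : Set G) = ⊥)
    {Y : Subgroup G} (hY : Y ≤ sigmaCore M ⊓ centralizer (K : Set G)) (hYp : (Nat.card Y).Prime) :
    (centralizer (Y : Set G) ≤ M ∧
      ∀ L : Subgroup G, IsCoatom L → centralizer (Y : Set G) ≤ L → L = M) ∧
    ∀ S : Sylow (Nat.card Y) ↥(sigmaCore M),
      InUniqueMaximal ((S : Subgroup ↥(sigmaCore M)).map (sigmaCore M).subtype) := by
  classical
  have : Fact (Nat.card Y).Prime := ⟨hYp⟩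
  have hYσ : Y ≤ sigmaCore M := hY.trans inf_le_left
  have hσM : sigmaCore M ≤ M := Cfsg.Agent.Lib.Helper23_SigmaHall.sigmaCore_le M
  have hYM : Y ≤ M := hYσ.trans hσM
  have hqσ : Nat.card Y ∈ sigma M := mem_sigma_of_dvd_card_le_sigmaCore hYσ hYp (dvd_refl _)
  have hσhall := sigma_hall hG hM
  have hY1 : Y ≠ ⊥ := by
    intro h
    rw [h, Subgroup.card_bot] at hYp
    exact Nat.not_prime_one hYp
  by_cases hP1 : ∀ r : ℕ, r.Prime → r ∣ Nat.card M → r ∉ sigma M → r ∈ kappa M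
  · -- type P1 : `K` is a complement of `M_σ`
    have hKhall : PiHall {r | r ∉ sigma M} K M := by
      refine ⟨hK.1, fun r hr hd => (hK.2.1 r hr hd).2.2.1, fun r hr hrσ hd => ?_⟩
      have hrM : r ∣ Nat.card M := hd.trans (Nat.div_dvd_of_dvd (Subgroup.card_dvd_of_le hK.1))
      have hrκ := hP1 r hr hrM hrσ
      have h1 := hK.2.2 r hr hrκ
      rw [relIndex_eq_div hK.1] at h1
      exact h1 hd
    have hE : IsComplIn K (sigmaCore M) M := isComplIn_of_piHall hσhall hKhall
    obtain ⟨h1, -, -⟩ := Cfsg.Agent.S1426.result hG M hM K hE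
    have hYd : Y ≤ ⁅sigmaCore M, sigmaCore M⁆ := hY.trans h1
    obtain ⟨P⟩ : Nonempty (Sylow (Nat.card Y) ↥(sigmaCore M)) := inferInstance
    refine ⟨(Cfsg.Agent.S1423.result hG M hM (Nat.card Y) hqσ Y hYM rfl P (Or.inr hYd)).1,
      fun S => ?_⟩
    exact (Cfsg.Agent.S1423.result hG M hM (Nat.card Y) hqσ Y hYM rfl S (Or.inr hYd)).2.1
  · -- otherwise
    obtain ⟨t, ht, htM, htσ, htκ⟩ :
        ∃ t : ℕ, t.Prime ∧ t ∣ Nat.card M ∧ t ∉ sigma M ∧ t ∉ kappa M := by
      by_contra h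
      apply hP1
      intro r hr hrM hrσ
      by_contra hrκ
      exact h ⟨r, hr, hrM, hrσ, hrκ⟩
    have : Fact t.Prime := ⟨ht⟩
    obtain ⟨U, hUc, hUH, hKU, hUf⟩ := hU
    have hUM : U ≤ M := hUH.1
    have htU : ¬ t ∣ U.relIndex M := hUH.2.2 t ht ⟨ht, htκ, htσ⟩
    -- a Sylow `t`-subgroup of `M` inside `U`
    obtain ⟨T, -, hTU⟩ := exists_isSylowIn_ge (p := t) (H := U) (K := ⊥) bot_le IsPGroup.of_bot
    have hTM : IsSylowIn t T M := ⟨hTU.le.trans hUM, hTU.isPGroup, fun hd => by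
      rw [← Subgroup.relIndex_mul_relIndex T U M hTU.le hUM] at hd
      rcases (Nat.Prime.dvd_mul ht).1 hd with h | h
      · exact hTU.not_dvd h
      · exact htU h⟩
    have hSmap : ((hTM.toSylow : Sylow t M) : Subgroup M).map M.subtype = T := by
      rw [hTM.coe_toSylow, Subgroup.subgroupOf_map_subtype, inf_of_le_left hTM.le]
    have htσκ : t ∉ sigma M ∪ kappa M := by
      rintro (h | h)
      · exact htσ h
      · exact htκ h
    obtain ⟨-, h29b, h29c⟩ := Cfsg.Agent.S1429.result hG M hM hP1 t htM htσκ hTM.toSylow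
    rw [hSmap] at h29b
    have hA'U : Subgroup.closure {x : G | x ∈ T ∧ x ^ t = 1} ≤ U :=
      (Subgroup.closure_le _).mpr fun x hx => hTU.le hx.1
    -- a central element of order `q` of the nilpotent group `M_σ`
    have hqd : Nat.card Y ∣ Nat.card ↥(sigmaCore M) := Subgroup.card_dvd_of_le hYσ
    obtain ⟨P⟩ : Nonempty (Sylow (Nat.card Y) ↥(sigmaCore M)) := inferInstance
    have hPn : (P : Subgroup ↥(sigmaCore M)).Normal := by
      have := h29c
      infer_instance
    obtain ⟨z, -, hzc, hzo⟩ :=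
      Cfsg.Agent.Lib.Helper79_Nilpotent.exists_central_orderOf_eq_prime (Nat.card Y)
        (P : Subgroup ↥(sigmaCore M)) P.2 (P.ne_bot_of_dvd_card hqd)
    set V : Subgroup G := centralTorsion (sigmaCore M) (Nat.card Y) with hVdef
    have hzV : (z : G) ∈ V := by
      refine ⟨z.2, fun y hy => ?_, ?_⟩
      · have := Subgroup.mem_center_iff.mp hzc ⟨y, hy⟩
        exact congrArg Subtype.val this
      · have h := pow_orderOf_eq_one z
        rw [hzo] at h
        have := congrArg Subtype.val h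
        simpa using this
    have hz1 : (z : G) ≠ 1 := by
      intro h
      have : z = 1 := Subtype.ext h
      rw [this, orderOf_one] at hzo
      exact hYp.one_lt.ne hzo
    have hV1 : V ≠ ⊥ := by
      intro h
      rw [h, mem_bot] at hzV
      exact hz1 hzV
    have hVσ : V ≤ sigmaCore M := centralTorsion_le _ _
    have hVM : V ≤ M := hVσ.trans hσM
    have hMV : M ≤ normalizer ((V : Subgroup G) : Set G) :=
      le_normalizer_centralTorsion _ (le_normalizer_sigmaCore' M)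
    have hVcomm : ∀ a ∈ V, ∀ b ∈ V, a * b = b * a := fun a ha b hb => centralTorsion_comm ha hb
    have hVpow : ∀ a ∈ V, a ^ Nat.card Y = 1 := fun a ha => centralTorsion_pow ha
    have hVp : IsPGroup (Nat.card Y) ↥V := isPGroup_centralTorsion _ _
    obtain ⟨n, hn⟩ := IsPGroup.iff_card.mp hVp
    -- a subgroup `Y₀` of prime order of `K`
    have hKcard : Nat.card K ≠ 1 := fun h => hK1 (Subgroup.card_eq_one.mp h)
    obtain ⟨k0, hk0, hk0d⟩ := Nat.exists_prime_and_dvd hKcard
    have : Fact k0.Prime := ⟨hk0⟩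
    obtain ⟨y0, hy0⟩ := exists_prime_orderOf_dvd_card' k0 hk0d
    have hY0card : Nat.card (zpowers (y0 : G)) = k0 := by
      rw [Nat.card_zpowers, Subgroup.orderOf_coe, hy0]
    have hY0K : zpowers (y0 : G) ≤ K := zpowers_le.mpr y0.2
    have hk0κ : k0 ∈ kappa M := hK.2.1 k0 hk0 hk0d
    have hk0G : k0 ∣ Nat.card G := hk0d.trans (Subgroup.card_subgroup_dvd_card K)
    have hk02 : k0 ≠ 2 := Cfsg.Agent.Lib.Helper22_Uniq.two_ne_of_dvd_card hG hk0G
    have hk03 : 3 ≤ k0 := by
      have := hk0.two_le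
      omega
    -- the hypotheses of S1446
    have htcardU : t ∣ Nat.card U := by
      have h1 := relIndex_mul_card' hUM
      rw [← h1] at htM
      rcases (Nat.Prime.dvd_mul ht).1 htM with h | h
      · exact absurd h htU
      · exact h
    have hU1 : U ≠ ⊥ := by
      intro h
      rw [h, Subgroup.card_bot] at htcardU
      exact ht.one_lt.ne' (Nat.dvd_one.mp htcardU)
    have hY01 : zpowers (y0 : G) ≠ ⊥ := by
      intro h
      rw [h, Subgroup.card_bot] at hY0card
      exact hk0.one_lt.ne hY0card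
    have hk0U : ¬ k0 ∣ Nat.card U := fun h => (hUH.2.1 k0 hk0 h).2.1 hk0κ
    have hUY0 : U ⊓ zpowers (y0 : G) = ⊥ := by
      apply (Subgroup.disjoint_of_coprime_natCard ?_).eq_bot
      rw [hY0card]
      exact ((Nat.Prime.coprime_iff_not_dvd hk0).2 hk0U).symm
    have hY0U : zpowers (y0 : G) ≤ normalizer ((U : Subgroup G) : Set G) := hY0K.trans hKU
    have hfrob : ∀ r ∈ zpowers (y0 : G), r ≠ 1 → U ⊓ centralizer ({r} : Set G) = ⊥ :=
      fun r hr hr1 => hUf r (hY0K hr) hr1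
    have hsolv : Group.IsSolvable ↥(U ⊔ zpowers (y0 : G)) :=
      isSolvable_of_le hG hM (sup_le hUM (hY0K.trans hK.1))
    have hodd : Odd (Nat.card ↥(U ⊔ zpowers (y0 : G))) :=
      Cfsg.Agent.Lib.Helper22_Uniq.odd_card_subgroup hG _
    have hVn : Group.IsNilpotent ↥V := by
      have : IsMulCommutative ↥V := ⟨⟨fun a b => Subtype.ext (hVcomm _ a.2 _ b.2)⟩⟩
      exact Cfsg.Agent.Lib.Helper29_Local.isNilpotent_of_isMulCommutative
    have hcop : (Nat.card ↥(U ⊔ zpowers (y0 : G))).Coprime (Nat.card ↥V) := by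
      rw [hn]
      apply Nat.Coprime.pow_right
      rw [Nat.coprime_comm, Nat.Prime.coprime_iff_not_dvd hYp]
      intro hd
      rcases prime_dvd_card_sup hY0U hUY0 hYp hd with h | h
      · exact (hUH.2.1 _ hYp h).2.2 hqσ
      · rw [hY0card] at h
        have : Nat.card Y = k0 := (Nat.prime_dvd_prime_iff_eq hYp hk0).1 h
        rw [this] at hqσ
        exact hk0κ.2.2.1 hqσ
    have hCK : V ⊓ centralizer ((U : Subgroup G) : Set G) = ⊥ := by
      rw [eq_bot_iff, ← h29b]
      intro x hx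
      exact ⟨hVσ hx.1, Subgroup.centralizer_le (by exact_mod_cast hA'U) hx.2⟩
    have hpr : ∀ x ∈ zpowers (y0 : G), x ≠ 1 →
        V ⊓ centralizer ({x} : Set G) = V ⊓ centralizer ((zpowers (y0 : G) : Subgroup G) : Set G) := by
      intro x hx hx1
      have hle : zpowers x ≤ zpowers (y0 : G) := zpowers_le.mpr hx
      have hcx : Nat.card (zpowers x) = k0 := by
        have h1 : Nat.card (zpowers x) ∣ k0 := hY0card ▸ Subgroup.card_dvd_of_le hle
        rcases (Nat.dvd_prime hk0).1 h1 with h | h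
        · exfalso
          rw [Nat.card_zpowers, orderOf_eq_one_iff] at h
          exact hx1 h
        · exact h
      have heq : zpowers x = zpowers (y0 : G) :=
        Subgroup.eq_of_le_of_card_ge hle (by rw [hcx, hY0card])
      rw [← heq, Subgroup.zpowers_eq_closure, Subgroup.centralizer_closure]
    obtain ⟨-, hcardV, -⟩ := Cfsg.Agent.S1446.result (X := G) U (zpowers (y0 : G)) V hU1 hY01 hUY0 hY0U
      hfrob hsolv hodd hV1 hVn (hUM.trans hMV) ((hY0K.trans hK.1).trans hMV) hcop hCK hpr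
    -- `|V| ≥ q ^ 3`
    have hcardV3 : (Nat.card Y) ^ 2 < Nat.card ↥V := by
      rw [hY0card] at hcardV
      have hc : Nat.card ↥(V ⊓ centralizer ((zpowers (y0 : G) : Subgroup G) : Set G)) ∣
          (Nat.card Y) ^ n := hn ▸ Subgroup.card_dvd_of_le inf_le_left
      obtain ⟨j, -, hj⟩ := (Nat.dvd_prime_pow hYp).1 hc
      rw [hj, ← pow_mul] at hcardV
      have hV1' : Nat.card ↥V ≠ 1 := fun h => hV1 (Subgroup.card_eq_one.mp h)
      have hj0 : j ≠ 0 := by
        rintro rfl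
        rw [zero_mul, pow_zero] at hcardV
        exact hV1' hcardV
      rw [hcardV]
      apply Nat.pow_lt_pow_right hYp.one_lt
      have : 1 * 3 ≤ j * k0 := Nat.mul_le_mul (Nat.one_le_iff_ne_zero.mpr hj0) hk03
      omega
    have hVtop : V ≠ ⊤ := by
      intro h
      exact hM.1 (top_le_iff.mp (h ▸ hVM))
    have hVr1 : ¬ RankLE 1 ↥V := fun h =>
      not_pRankLE_of_le (le_refl V) hVcomm hVpow
        (lt_of_le_of_lt (Nat.pow_le_pow_right hYp.pos (by norm_num)) hcardV3) (h _ hYp)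
    have hVr2 : ¬ RankLE 2 ↥V := fun h =>
      not_pRankLE_of_le (le_refl V) hVcomm hVpow hcardV3 (h _ hYp)
    obtain ⟨L0, -, huniq⟩ := Cfsg.Agent.S1403.result hG V hVtop hVr1 (Or.inl hVr2)
    have key : ∀ L : Subgroup G, IsCoatom L → V ≤ L → L = M := fun L hL hVL =>
      (huniq L ⟨hL, hVL⟩).trans (huniq M ⟨hM, hVM⟩).symm
    have hVC : V ≤ centralizer (Y : Set G) := centralTorsion_le_centralizer _ hYσ
    have hCtop : centralizer (Y : Set G) ≠ ⊤ :=
      Cfsg.Agent.Lib.Helper22_BGTransUp.centralizer_ne_top hG hY1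
    refine ⟨?_, fun S => ?_⟩
    · obtain ⟨L, hL, hCL⟩ := Cfsg.Agent.Lib.Helper22_Uniq.exists_isCoatom_ge hCtop
      have hLM := key L hL (hVC.trans hCL)
      exact ⟨hLM ▸ hCL, fun L' hL' h => key L' hL' (hVC.trans h)⟩
    · -- `V` lies in the unique Sylow `q`-subgroup of `M_σ`
      let _ := Sylow.unique_of_normal P hPn
      have hSP : S = P := Subsingleton.elim S P
      have hV' : IsPGroup (Nat.card Y) ↥(V.subgroupOf (sigmaCore M)) :=
        hVp.comap_of_injective (sigmaCore M).subtype (sigmaCore M).subtype_injective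
      obtain ⟨Q, hQ⟩ := hV'.exists_le_sylow
      have hQS : Q = S := Subsingleton.elim Q S
      have hVS : V ≤ (S : Subgroup ↥(sigmaCore M)).map (sigmaCore M).subtype := by
        intro x hx
        refine ⟨⟨x, hVσ hx⟩, ?_, rfl⟩
        rw [← hQS]
        exact hQ (by rw [mem_subgroupOf]; exact hx)
      have hSM : (S : Subgroup ↥(sigmaCore M)).map (sigmaCore M).subtype ≤ M :=
        (Subgroup.map_subtype_le _).trans hσM
      refine ⟨M, ⟨hM, hSM⟩, fun L hL => ?_⟩
      exact key L hL.1 (hVS.trans hL.2)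

end Cfsg.Agent.Lib.Helper72_BG142d
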