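/-
Curtis–Tits (helper72): the context (certificates and the injectivity on the rank two subgroups), the transfer of
identities from the Steinberg group to a rank two subgroup of the Curtis–Tits group, and the action of the elements
`n̂_k(a)` on the root elements of a rank two subgroup.
-/
import Mathlib
import Cfsg.Agent.Lib.Helper72_CT_Certs
import Cfsg.Agent.Lib.Helper81_StTorus
import Cfsg.Agent.Lib.Helper81_StCerts
import Cfsg.Agent.Lib.Helper18_ChevJCerts

set_option autoImplicit false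
set_option linter.unusedSectionVars false
set_option linter.unusedVariables false

namespace Cfsg.Agent.Lib.Helper72_CT

open Cfsg Cfsg.Lie Cfsg.Agent.Lib.Helper18_ChevFast Cfsg.Agent.Lib.Helper18_ChevEngine
  Cfsg.Agent.Lib.Helper18_ChevR1 Cfsg.Agent.Lib.Helper18_ChevN Cfsg.Agent.Lib.Helper18_ChevR4
  Cfsg.Agent.Lib.Helper18_ChevSimple Cfsg.Agent.Lib.Helper18_ChevSimple2 Cfsg.Agent.Lib.Helper18_ChevFacts
  Cfsg.Agent.Lib.Helper18_ChevWeyl Cfsg.Agent.Lib.Helper18_ChevDiag Cfsg.Agent.Lib.Helper18_ChevCar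
  Cfsg.Agent.Lib.Helper18_ChevTorus Cfsg.Agent.Lib.Helper18_ChevGL Cfsg.Agent.Lib.Helper18_ChevComm
  Cfsg.Agent.Lib.Helper18_ChevComm2 Cfsg.Agent.Lib.Helper18_MatTri Cfsg.Agent.Lib.Helper18_ChevTri
  Cfsg.Agent.Lib.Helper18_ChevBorel Cfsg.Agent.Lib.Helper18_ChevAdd Cfsg.Agent.Lib.Helper18_ChevUni
  Cfsg.Agent.Lib.Helper18_ChevBN Cfsg.Agent.Lib.Helper18_ChevMono Cfsg.Agent.Lib.Helper18_ChevBNPair
  Cfsg.Agent.Lib.Helper18_ChevLevi Cfsg.Agent.Lib.Helper18_ChevSimp Cfsg.Agent.Lib.Helper18_ChevBruhat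
  Cfsg.Agent.Lib.Helper18_ChevJCerts
  Cfsg.Agent.Lib.Helper81_StUniq Cfsg.Agent.Lib.Helper81_StAbs Cfsg.Agent.Lib.Helper81_StL37
  Cfsg.Agent.Lib.Helper81_StBruhat Cfsg.Agent.Lib.Helper81_StMain Cfsg.Agent.Lib.Helper81_StTorus

/-- The context: all certificates of the datum, and the injectivity of `CT → St` on the rank two subgroups of the
joined pairs. -/
structure Ctx (D : ChevalleyDatum) (K : Type*) [Field K] where
  Ns : List NData
  wl : List ℤ
  ws : List (List ℤ)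
  sc : ℤ
  w : List ℤ
  d : ℕ
  bs : List BData
  c : DCert D Ns
  tc : TCert D
  ac : ACert D wl ws sc
  gc : GCert D w d
  hA : CertA D
  hB : CertB D bs
  hdesc : Descent D
  hvis : VisCert D
  h2 : Rank2Cert D
  hnj : NJCert D
  hpart : PartnerCert D
  hR2 : R2All D K
  inj : ∀ i j, Joined D i j → InjOn2 hvis K i j
  uniq : ∀ {y : D.SteinbergGroup K} {σ σ' : ℕ → ℕ}, MonoAct D (xs D K) y σ → MonoAct D (xs D K) y σ' →
    ∀ r < D.nroots, σ r = σ' r
  xinj : ∀ r < D.nroots, ∀ t u : K, xs D K r t = xs D K r u → t = u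
  term : ∀ {σ : ℕ → ℕ}, LinMap D σ → ∀ {i k i' : ℕ}, i < D.rank → k < D.rank → i ≠ k → i' < D.rank →
    D.IsPosRoot (σ (D.simple i)) → D.IsPosRoot (σ (D.simple k)) →
    ∀ {ρ : ℕ}, D.InRankTwoSub i k ρ → σ ρ = D.simple i' → ρ = D.simple i ∨ ρ = D.simple k

variable {D : ChevalleyDatum} {K : Type*} [Field K]

/-! ### Additivity and the trivial consequences of the relators -/

theorem xh_add {r : ℕ} (hr : Vis D r) (t u : K) : xh D K r t * xh D K r u = xh D K r (t + u) := by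
  obtain ⟨i, j, hv⟩ := (vis_iff D).mp hr
  have h : D.stX r t * D.stX r u * (D.stX r (t + u))⁻¹ ∈ D.curtisTitsRels K :=
    Or.inl (Or.inl (Or.inr ⟨i, j, r, t, u, hv, rfl⟩))
  have := PresentedGroup.one_of_mem h
  rw [map_mul, map_mul, map_inv, mul_inv_eq_one] at this
  exact this

theorem xh_zero {r : ℕ} (hr : Vis D r) : xh D K r 0 = 1 := by
  have := xh_add hr (0 : K) 0
  rw [add_zero] at this
  exact mul_eq_left.mp this

theorem xh_inv {r : ℕ} (hr : Vis D r) (t : K) : (xh D K r t)⁻¹ = xh D K r (-t) := by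
  rw [inv_eq_iff_mul_eq_one, xh_add hr, add_neg_cancel, xh_zero hr]

theorem xh_comm {i j r s : ℕ} (hr : D.InRankTwoSub i j r) (hs : D.InRankTwoSub i j s) (h1 : s ≠ r)
    (h2 : s ≠ D.neg r) (t u : K) :
    (xh D K s u)⁻¹ * (xh D K r t)⁻¹ * xh D K s u * xh D K r t = wordP (xh D K) (D.commWord K r s t u) := by
  have h : (D.stX s u)⁻¹ * (D.stX r t)⁻¹ * D.stX s u * D.stX r t * (D.stWord (D.commWord K r s t u))⁻¹ ∈
      D.curtisTitsRels K := Or.inl (Or.inr ⟨i, j, r, s, t, u, hr, hs, h1, h2, rfl⟩)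
  have := PresentedGroup.one_of_mem h
  rw [map_mul, map_mul, map_mul, map_mul, map_inv, map_inv, map_inv, mul_inv_eq_one, mk_stWord] at this
  exact this

theorem xh_R3 {r : ℕ} (hr : Vis D r) (t₁ t₂ : K) (h₁ : t₁ ≠ 0) (h₂ : t₂ ≠ 0) :
    wordP (xh D K) (D.hWord r t₁) * wordP (xh D K) (D.hWord r t₂) = wordP (xh D K) (D.hWord r (t₁ * t₂)) := by
  obtain ⟨i, j, hv⟩ := (vis_iff D).mp hr
  have h : D.stH r t₁ * D.stH r t₂ * (D.stH r (t₁ * t₂))⁻¹ ∈ D.curtisTitsRels K :=
    Or.inr ⟨i, j, r, t₁, t₂, hv, h₁, h₂, rfl⟩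
  have := PresentedGroup.one_of_mem h
  rw [map_mul, map_mul, map_inv, mul_inv_eq_one] at this
  unfold ChevalleyDatum.stH at this
  rw [mk_stWord, mk_stWord, mk_stWord] at this
  exact this

theorem vis_of_mem {i j r : ℕ} (hr : D.InRankTwoSub i j r) : Vis D r := (vis_iff D).mpr ⟨i, j, hr⟩

namespace Ctx

variable (C : Ctx D K)

include C

/-- The homomorphism `CT → St`. -/
def pi : D.CurtisTitsGroup K →* D.SteinbergGroup K := ctToSt C.hvis

/-- The homomorphism `St → GL`. -/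
def gl : D.SteinbergGroup K →* GL D.Idx K := toGL C.c (lift_rels C.c C.tc C.hR2)

theorem isLift : IsLift C.c (xs D K) C.gl := isLift_toGL C.c _

theorem stGrp : StGrp D (xs D K) := stGrp_pGen relsAB_subset

theorem pi_xh {r : ℕ} (hr : Vis D r) (t : K) : C.pi (xh D K r t) = xs D K r t := ctToSt_xh C.hvis hr t

theorem pi_wordP (w : List (ℕ × K)) (hw : ∀ p ∈ w, Vis D p.1) :
    C.pi (wordP (xh D K) w) = wordP (xs D K) w := by
  rw [map_wordP]
  unfold wordP
  congr 1
  apply List.map_congr_left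
  intro p hp
  exact C.pi_xh (hw p hp) p.2

/-- The fundamental roots are in range. -/
theorem simple_lt {i : ℕ} (hi : i < D.rank) : D.simple i < D.nroots := (C.c.ncert i hi).simple_lt

theorem neg_lt {r : ℕ} (hr : r < D.nroots) : D.neg r < D.nroots := DCert.neg_lt C.c r hr

/-- The fundamental root `p_k` lies in `Φ_ij` if `k ∈ {i, j}`. -/
theorem simple_mem {i j k : ℕ} (hi : i < D.rank) (hj : j < D.rank) (hk : k = i ∨ k = j) :
    D.InRankTwoSub i j (D.simple k) := by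
  have hkr : k < D.rank := by rcases hk with rfl | rfl <;> assumption
  refine ⟨C.simple_lt hkr, hi, hj, ?_⟩
  intro m hm hmi hmj
  have := C.tc.simple_cor k hkr m hm
  unfold cor at this
  rw [this, if_neg]
  rcases hk with rfl | rfl <;> assumption

theorem neg_mem {i j r : ℕ} (hr : D.InRankTwoSub i j r) : D.InRankTwoSub i j (D.neg r) := C.hvis.neg hr


/-- The reflection in `p_k`, `k ∈ {i, j}`, preserves `Φ_ij`. -/
theorem reflect_mem {i j k r : ℕ} (hk : k = i ∨ k = j) (hr : D.InRankTwoSub i j r) :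
    D.InRankTwoSub i j (D.reflectRoot k r) := by
  have hkr : k < D.rank := by rcases hk with rfl | rfl; exact hr.2.1; exact hr.2.2.1
  have fr := facts C.c.rows (C.c.ncert k hkr) r hr.1
  refine ⟨fr.refl_lt, hr.2.1, hr.2.2.1, ?_⟩
  intro m hm hmi hmj
  have h1 := fr.cor m hm
  unfold cor at h1
  rw [h1, if_neg, sub_zero]
  · exact hr.2.2.2 m hm hmi hmj
  · rcases hk with rfl | rfl <;> assumption

/-! ### The elements `n̂_k(a)`, `ĥ_k(a)` -/

theorem nWord_vis {i j r : ℕ} (hr : D.InRankTwoSub i j r) (a : K) : ∀ p ∈ D.nWord r a, D.InRankTwoSub i j p.1 := by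
  intro p hp
  unfold ChevalleyDatum.nWord at hp
  simp only [List.mem_cons, List.not_mem_nil, or_false] at hp
  rcases hp with rfl | rfl | rfl
  · exact hr
  · exact C.neg_mem hr
  · exact hr

theorem nB_mem_G2 {i j k : ℕ} (hi : i < D.rank) (hj : j < D.rank) (hk : k = i ∨ k = j) (a : K) :
    nB D (xh D K) k a ∈ G2 D K i j := by
  unfold nB
  apply wordP_mem
  intro p hp
  exact xh_mem_G2 (C.nWord_vis (C.simple_mem hi hj hk) a p hp) _

theorem pi_nB {k : ℕ} (hk : k < D.rank) (a : K) : C.pi (nB D (xh D K) k a) = nB D (xs D K) k a := by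
  unfold nB
  apply C.pi_wordP
  intro p hp
  exact vis_of_mem (C.nWord_vis (C.simple_mem hk hk (Or.inl rfl)) a p hp)

/-! ### Transfer -/

/-- Two elements of a rank two subgroup of a joined pair with the same image in the Steinberg group are equal. -/
theorem transfer {i j : ℕ} (hij : Joined D i j) {g₁ g₂ : D.CurtisTitsGroup K} (h₁ : g₁ ∈ G2 D K i j)
    (h₂ : g₂ ∈ G2 D K i j) (h : C.pi g₁ = C.pi g₂) : g₁ = g₂ := by
  have h3 : g₁ * g₂⁻¹ ∈ G2 D K i j := Subgroup.mul_mem _ h₁ (Subgroup.inv_mem _ h₂)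
  have h4 : C.pi (g₁ * g₂⁻¹) = 1 := by rw [map_mul, map_inv, h, mul_inv_cancel]
  have := C.inj i j hij _ h3 h4
  exact mul_inv_eq_one.mp this

end Ctx

end Cfsg.Agent.Lib.Helper72_CT
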