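/-
Curtis–Tits, general form (helper72): a group `Γ` with elements `x̂_r(t)` for the visible roots that satisfy the
Curtis–Tits relations, a group `T` with elements `x̄_r(t)` that satisfy Steinberg's relations (R1), (R2) and lift to
the Chevalley group, and a homomorphism `Γ → T` matching the generators that is injective on the rank two subgroups
of the joined pairs.  (The development of `Helper72_CT_*` with the Curtis–Tits group and the Steinberg group replaced
by `Γ` and `T`.)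
-/
import Mathlib
import Cfsg.Agent.Lib.Helper72_CT_Key

set_option autoImplicit false
set_option linter.unusedSectionVars false
set_option linter.unusedVariables false

namespace Cfsg.Agent.Lib.Helper72_CTG

open Cfsg Cfsg.Lie Cfsg.Agent.Lib.Helper18_ChevFast Cfsg.Agent.Lib.Helper18_ChevEngine
  Cfsg.Agent.Lib.Helper18_ChevR1 Cfsg.Agent.Lib.Helper18_ChevN Cfsg.Agent.Lib.Helper18_ChevR4
  Cfsg.Agent.Lib.Helper18_ChevSimple Cfsg.Agent.Lib.Helper18_ChevSimple2 Cfsg.Agent.Lib.Helper18_ChevFacts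
  Cfsg.Agent.Lib.Helper18_ChevWeyl Cfsg.Agent.Lib.Helper18_ChevDiag Cfsg.Agent.Lib.Helper18_ChevCar
  Cfsg.Agent.Lib.Helper18_ChevTorus Cfsg.Agent.Lib.Helper18_ChevGL Cfsg.Agent.Lib.Helper18_ChevComm
  Cfsg.Agent.Lib.Helper18_ChevComm2 Cfsg.Agent.Lib.Helper18_MatTri Cfsg.Agent.Lib.Helper18_ChevTri
  Cfsg.Agent.Lib.Helper18_ChevBorel Cfsg.Agent.Lib.Helper18_ChevAdd Cfsg.Agent.Lib.Helper18_ChevUni
  Cfsg.Agent.Lib.Helper18_ChevBN Cfsg.Agent.Lib.Helper18_ChevMono Cfsg.Agent.Lib.Helper18_ChevBNPair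
  Cfsg.Agent.Lib.Helper18_ChevLevi Cfsg.Agent.Lib.Helper18_ChevSimp Cfsg.Agent.Lib.Helper18_ChevBruhat
  Cfsg.Agent.Lib.Helper18_ChevJCerts Cfsg.Agent.Lib.Helper18_ChevAutA
  Cfsg.Agent.Lib.Helper81_StUniq Cfsg.Agent.Lib.Helper81_StAbs Cfsg.Agent.Lib.Helper81_StL37
  Cfsg.Agent.Lib.Helper81_StBruhat Cfsg.Agent.Lib.Helper81_StMain Cfsg.Agent.Lib.Helper81_StTorus

open Cfsg.Agent.Lib.Helper72_CT (Vis vis_iff VisCert Rank2Cert NJCert PartnerCert Joined inRankTwoSub_symm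
  vis_of_mem Valid valid_singleton)

variable {D : ChevalleyDatum} {K : Type*} [Field K] {Γ : Type*} [Group Γ] {T : Type*} [Group T]

/-- The subgroup generated by the root elements of the roots in `Φ_ij`. -/
def G2 (D : ChevalleyDatum) (xh : ℕ → K → Γ) (i j : ℕ) : Subgroup Γ :=
  Subgroup.closure {y | ∃ (r : ℕ) (t : K), D.InRankTwoSub i j r ∧ y = xh r t}

theorem xh_mem_G2 {xh : ℕ → K → Γ} {i j r : ℕ} (hr : D.InRankTwoSub i j r) (t : K) : xh r t ∈ G2 D xh i j :=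
  Subgroup.subset_closure ⟨r, t, hr, rfl⟩

/-- The context. -/
structure GCtx (D : ChevalleyDatum) (K : Type*) [Field K] (Γ : Type*) [Group Γ] (T : Type*) [Group T] where
  Ns : List NData
  wl : List ℤ
  ws : List (List ℤ)
  sc : ℤ
  w : List ℤ
  d : ℕ
  bs : List BData
  c : DCert D Ns
  tc : TCert D
  ac : ACert D wl ws sc
  gc : GCert D w d
  hA : CertA D
  hB : CertB D bs
  hdesc : Descent D
  hvis : VisCert D
  h2 : Rank2Cert D
  hnj : NJCert D
  hpart : PartnerCert D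
  xh : ℕ → K → Γ
  xs : ℕ → K → T
  pi : Γ →* T
  gl : T →* GL D.Idx K
  isLift : IsLift c xs gl
  stGrp : StGrp D xs
  xs_ge : ∀ r, ¬ r < D.nroots → ∀ t : K, xs r t = 1
  pi_xh : ∀ {r : ℕ}, Vis D r → ∀ t : K, pi (xh r t) = xs r t
  xh_add : ∀ {r : ℕ}, Vis D r → ∀ t u : K, xh r t * xh r u = xh r (t + u)
  xh_comm : ∀ {i j r s : ℕ}, D.InRankTwoSub i j r → D.InRankTwoSub i j s → s ≠ r → s ≠ D.neg r → ∀ t u : K,
    (xh s u)⁻¹ * (xh r t)⁻¹ * xh s u * xh r t = wordP xh (D.commWord K r s t u)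
  inj : ∀ i j, Joined D i j → ∀ g ∈ G2 D xh i j, pi g = 1 → g = 1
  uniq : ∀ {y : T} {σ σ' : ℕ → ℕ}, MonoAct D xs y σ → MonoAct D xs y σ' → ∀ r < D.nroots, σ r = σ' r
  xinj : ∀ r < D.nroots, ∀ t u : K, xs r t = xs r u → t = u
  term : ∀ {σ : ℕ → ℕ}, LinMap D σ → ∀ {i k i' : ℕ}, i < D.rank → k < D.rank → i ≠ k → i' < D.rank →
    D.IsPosRoot (σ (D.simple i)) → D.IsPosRoot (σ (D.simple k)) →
    ∀ {ρ : ℕ}, D.InRankTwoSub i k ρ → σ ρ = D.simple i' → ρ = D.simple i ∨ ρ = D.simple k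

namespace GCtx

variable (C : GCtx D K Γ T)

include C

theorem xh_zero {r : ℕ} (hr : Vis D r) : C.xh r 0 = 1 := by
  have := C.xh_add hr (0 : K) 0
  rw [add_zero] at this
  exact mul_eq_left.mp this

theorem xh_inv {r : ℕ} (hr : Vis D r) (t : K) : (C.xh r t)⁻¹ = C.xh r (-t) := by
  rw [inv_eq_iff_mul_eq_one, C.xh_add hr, add_neg_cancel, C.xh_zero hr]

theorem pi_wordP (w : List (ℕ × K)) (hw : ∀ p ∈ w, Vis D p.1) :
    C.pi (wordP C.xh w) = wordP C.xs w := by
  rw [map_wordP]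
  unfold wordP
  congr 1
  apply List.map_congr_left
  intro p hp
  exact C.pi_xh (hw p hp) p.2

/-- The fundamental roots are in range. -/
theorem simple_lt {i : ℕ} (hi : i < D.rank) : D.simple i < D.nroots := (C.c.ncert i hi).simple_lt

theorem neg_lt {r : ℕ} (hr : r < D.nroots) : D.neg r < D.nroots := DCert.neg_lt C.c r hr

/-- The fundamental root `p_k` lies in `Φ_ij` if `k ∈ {i, j}`. -/
theorem simple_mem {i j k : ℕ} (hi : i < D.rank) (hj : j < D.rank) (hk : k = i ∨ k = j) :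
    D.InRankTwoSub i j (D.simple k) := by
  have hkr : k < D.rank := by rcases hk with rfl | rfl <;> assumption
  refine ⟨C.simple_lt hkr, hi, hj, ?_⟩
  intro m hm hmi hmj
  have := C.tc.simple_cor k hkr m hm
  unfold cor at this
  rw [this, if_neg]
  rcases hk with rfl | rfl <;> assumption

theorem neg_mem {i j r : ℕ} (hr : D.InRankTwoSub i j r) : D.InRankTwoSub i j (D.neg r) := C.hvis.neg hr

/-- The reflection in `p_k`, `k ∈ {i, j}`, preserves `Φ_ij`. -/
theorem reflect_mem {i j k r : ℕ} (hk : k = i ∨ k = j) (hr : D.InRankTwoSub i j r) :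
    D.InRankTwoSub i j (D.reflectRoot k r) := by
  have hkr : k < D.rank := by rcases hk with rfl | rfl; exact hr.2.1; exact hr.2.2.1
  have fr := facts C.c.rows (C.c.ncert k hkr) r hr.1
  refine ⟨fr.refl_lt, hr.2.1, hr.2.2.1, ?_⟩
  intro m hm hmi hmj
  have h1 := fr.cor m hm
  unfold cor at h1
  rw [h1, if_neg, sub_zero]
  · exact hr.2.2.2 m hm hmi hmj
  · rcases hk with rfl | rfl <;> assumption

/-! ### The elements `n̂_k(a)`, `ĥ_k(a)` -/

theorem nWord_vis {i j r : ℕ} (hr : D.InRankTwoSub i j r) (a : K) : ∀ p ∈ D.nWord r a, D.InRankTwoSub i j p.1 := by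
  intro p hp
  unfold ChevalleyDatum.nWord at hp
  simp only [List.mem_cons, List.not_mem_nil, or_false] at hp
  rcases hp with rfl | rfl | rfl
  · exact hr
  · exact C.neg_mem hr
  · exact hr

theorem nB_mem_G2 {i j k : ℕ} (hi : i < D.rank) (hj : j < D.rank) (hk : k = i ∨ k = j) (a : K) :
    nB D C.xh k a ∈ G2 D C.xh i j := by
  unfold nB
  apply wordP_mem
  intro p hp
  exact xh_mem_G2 (C.nWord_vis (C.simple_mem hi hj hk) a p hp) _

theorem pi_nB {k : ℕ} (hk : k < D.rank) (a : K) : C.pi (nB D C.xh k a) = nB D C.xs k a := by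
  unfold nB
  apply C.pi_wordP
  intro p hp
  exact vis_of_mem (C.nWord_vis (C.simple_mem hk hk (Or.inl rfl)) a p hp)

/-! ### Transfer -/

/-- Two elements of a rank two subgroup of a joined pair with the same image are equal. -/
theorem transfer {i j : ℕ} (hij : Joined D i j) {g₁ g₂ : Γ} (h₁ : g₁ ∈ G2 D C.xh i j)
    (h₂ : g₂ ∈ G2 D C.xh i j) (h : C.pi g₁ = C.pi g₂) : g₁ = g₂ := by
  have h3 : g₁ * g₂⁻¹ ∈ G2 D C.xh i j := Subgroup.mul_mem _ h₁ (Subgroup.inv_mem _ h₂)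
  have h4 : C.pi (g₁ * g₂⁻¹) = 1 := by rw [map_mul, map_inv, h, mul_inv_cancel]
  have := C.inj i j hij _ h3 h4
  exact mul_inv_eq_one.mp this

end GCtx

end Cfsg.Agent.Lib.Helper72_CTG
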