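/-
Curtis–Tits, general form (helper72): the action of the elements n̂_k(a) on the root elements of a rank two subsystem.
(The file `Helper72_CT_Act2.lean` with the Curtis–Tits group and the Steinberg group replaced by `Γ` and `T`.)
-/
import Mathlib
import Cfsg.Agent.Lib.Helper72_CTG_Base

set_option autoImplicit false
set_option linter.unusedSectionVars false
set_option linter.unusedVariables false

namespace Cfsg.Agent.Lib.Helper72_CTG

open Cfsg Cfsg.Lie Cfsg.Agent.Lib.Helper18_ChevFast Cfsg.Agent.Lib.Helper18_ChevEngine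
  Cfsg.Agent.Lib.Helper18_ChevR1 Cfsg.Agent.Lib.Helper18_ChevN Cfsg.Agent.Lib.Helper18_ChevR4
  Cfsg.Agent.Lib.Helper18_ChevSimple Cfsg.Agent.Lib.Helper18_ChevSimple2 Cfsg.Agent.Lib.Helper18_ChevFacts
  Cfsg.Agent.Lib.Helper18_ChevWeyl Cfsg.Agent.Lib.Helper18_ChevDiag Cfsg.Agent.Lib.Helper18_ChevCar
  Cfsg.Agent.Lib.Helper18_ChevTorus Cfsg.Agent.Lib.Helper18_ChevGL Cfsg.Agent.Lib.Helper18_ChevComm
  Cfsg.Agent.Lib.Helper18_ChevComm2 Cfsg.Agent.Lib.Helper18_MatTri Cfsg.Agent.Lib.Helper18_ChevTri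
  Cfsg.Agent.Lib.Helper18_ChevBorel Cfsg.Agent.Lib.Helper18_ChevAdd Cfsg.Agent.Lib.Helper18_ChevUni
  Cfsg.Agent.Lib.Helper18_ChevBN Cfsg.Agent.Lib.Helper18_ChevMono Cfsg.Agent.Lib.Helper18_ChevBNPair
  Cfsg.Agent.Lib.Helper18_ChevLevi Cfsg.Agent.Lib.Helper18_ChevSimp Cfsg.Agent.Lib.Helper18_ChevBruhat
  Cfsg.Agent.Lib.Helper18_ChevJCerts Cfsg.Agent.Lib.Helper18_ChevAutA
  Cfsg.Agent.Lib.Helper81_StUniq Cfsg.Agent.Lib.Helper81_StAbs Cfsg.Agent.Lib.Helper81_StL37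
  Cfsg.Agent.Lib.Helper81_StBruhat Cfsg.Agent.Lib.Helper81_StMain Cfsg.Agent.Lib.Helper81_StTorus

open Cfsg.Agent.Lib.Helper72_CT (Vis vis_iff VisCert Rank2Cert NJCert PartnerCert Joined inRankTwoSub_symm
  vis_of_mem Valid valid_singleton)

variable {D : ChevalleyDatum} {K : Type*} [Field K] {Γ : Type*} [Group Γ] {T : Type*} [Group T]

variable {xh : ℕ → K → Γ}

/-- `y` permutes the root elements `x̂_r`, `r ∈ Φ_ij`, by `σ`, with inverse scalars on opposite roots. -/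
def Act2 (D : ChevalleyDatum) (xh : ℕ → K → Γ) (i j : ℕ) (y : Γ) (σ : ℕ → ℕ) : Prop :=
  ∀ r, D.InRankTwoSub i j r → D.InRankTwoSub i j (σ r) ∧ σ (D.neg r) = D.neg (σ r) ∧ ∃ a : K, a ≠ 0 ∧
    (∀ t : K, y * xh r t * y⁻¹ = xh (σ r) (a * t)) ∧
    (∀ t : K, y * xh (D.neg r) t * y⁻¹ = xh (D.neg (σ r)) (a⁻¹ * t))

theorem act2_one (i j : ℕ) : Act2 D xh i j 1 id := by
  intro r hr
  exact ⟨hr, rfl, 1, one_ne_zero, fun t => by simp, fun t => by simp⟩

theorem Act2.mul {i j : ℕ} {y₁ y₂ : Γ} {σ₁ σ₂ : ℕ → ℕ} (h₁ : Act2 D xh i j y₁ σ₁)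
    (h₂ : Act2 D xh i j y₂ σ₂) : Act2 D xh i j (y₁ * y₂) (σ₁ ∘ σ₂) := by
  intro r hr
  obtain ⟨h1, h2, a, ha, h3, h4⟩ := h₂ r hr
  obtain ⟨k1, k2, b, hb, k3, k4⟩ := h₁ (σ₂ r) h1
  refine ⟨k1, ?_, b * a, mul_ne_zero hb ha, ?_, ?_⟩
  · show σ₁ (σ₂ (D.neg r)) = D.neg (σ₁ (σ₂ r))
    rw [h2, k2]
  · intro t
    have : y₁ * y₂ * xh r t * (y₁ * y₂)⁻¹ = y₁ * (y₂ * xh r t * y₂⁻¹) * y₁⁻¹ := by group
    rw [this, h3, k3, mul_assoc]
    rfl
  · intro t
    have : y₁ * y₂ * xh (D.neg r) t * (y₁ * y₂)⁻¹ = y₁ * (y₂ * xh (D.neg r) t * y₂⁻¹) * y₁⁻¹ := by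
      group
    rw [this, h4, k4, mul_inv, mul_assoc]
    rfl

theorem Act2.congr {i j : ℕ} {y : Γ} {σ σ' : ℕ → ℕ} (h : Act2 D xh i j y σ)
    (hneg : ∀ r, D.InRankTwoSub i j r → D.InRankTwoSub i j (D.neg r))
    (hσ : ∀ r, D.InRankTwoSub i j r → σ' r = σ r) : Act2 D xh i j y σ' := by
  intro r hr
  obtain ⟨h1, h2, a, ha, h3, h4⟩ := h r hr
  rw [hσ r hr, hσ _ (hneg r hr)]
  exact ⟨h1, h2, a, ha, h3, h4⟩

namespace GCtx

variable (C : GCtx D K Γ T)

include C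

/-- The action of `n̂_k(a)` on the root elements of `Φ_ij` for a joined pair `i, j` and `k ∈ {i, j}`. -/
theorem act2_nB_joined {i j k : ℕ} (hij : Joined D i j) (hk : k = i ∨ k = j) (a : K) (ha : a ≠ 0) :
    Act2 D C.xh i j (nB D C.xh k a) (D.reflectRoot k) := by
  have hi := hij.1
  have hj := hij.2.1
  have hkr : k < D.rank := by rcases hk with rfl | rfl <;> assumption
  have hSt := monoAct_nB C.c C.tc C.ac C.hA C.hB C.stGrp C.isLift k hkr a ha
  have hn := C.nB_mem_G2 hi hj hk a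
  intro r hr
  obtain ⟨h1, h2, b, hb, h3, h4⟩ := hSt r hr.1
  have hσr := C.reflect_mem hk hr
  refine ⟨hσr, h2, b, hb, ?_, ?_⟩
  · intro t
    apply C.transfer hij
    · exact Subgroup.mul_mem _ (Subgroup.mul_mem _ hn (xh_mem_G2 hr t)) (Subgroup.inv_mem _ hn)
    · exact xh_mem_G2 hσr _
    · rw [map_mul, map_mul, map_inv, C.pi_nB hkr, C.pi_xh (vis_of_mem hr), C.pi_xh (vis_of_mem hσr)]
      exact h3 t
  · intro t
    apply C.transfer hij
    · exact Subgroup.mul_mem _ (Subgroup.mul_mem _ hn (xh_mem_G2 (C.neg_mem hr) t)) (Subgroup.inv_mem _ hn)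
    · exact xh_mem_G2 (C.neg_mem hσr) _
    · rw [map_mul, map_mul, map_inv, C.pi_nB hkr, C.pi_xh (vis_of_mem (C.neg_mem hr)),
        C.pi_xh (vis_of_mem (C.neg_mem hσr))]
      exact h4 t

/-- Restriction of the action to a smaller subsystem. -/
theorem act2_mono {i j i' j' : ℕ} {y : Γ} {σ : ℕ → ℕ} (h : Act2 D C.xh i j y σ)
    (hsub : ∀ r, D.InRankTwoSub i' j' r → D.InRankTwoSub i j r)
    (hσ : ∀ r, D.InRankTwoSub i' j' r → D.InRankTwoSub i' j' (σ r)) : Act2 D C.xh i' j' y σ := by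
  intro r hr
  obtain ⟨h1, h2, a, ha, h3, h4⟩ := h r (hsub r hr)
  exact ⟨hσ r hr, h2, a, ha, h3, h4⟩

theorem sub_self_le {k j r : ℕ} (hj : j < D.rank) (hr : D.InRankTwoSub k k r) : D.InRankTwoSub k j r :=
  ⟨hr.1, hr.2.1, hj, fun m hm hmk _ => hr.2.2.2 m hm hmk hmk⟩

/-- The action of `n̂_k(a)` on `x̂_{±p_k}`. -/
theorem act2_nB_self {k : ℕ} (hk : k < D.rank) (a : K) (ha : a ≠ 0) :
    Act2 D C.xh k k (nB D C.xh k a) (D.reflectRoot k) := by
  obtain ⟨j, hj, hkj, hc⟩ := C.hpart k hk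
  have hJ : Joined D k j := ⟨hk, hj, hkj, hc⟩
  exact C.act2_mono (C.act2_nB_joined hJ (Or.inl rfl) a ha) (fun r hr => C.sub_self_le hj hr)
    (fun r hr => C.reflect_mem (Or.inl rfl) hr)

/-- Root elements whose commutator word is empty commute. -/
theorem commute_of_nil {i j r s : ℕ} (hr : D.InRankTwoSub i j r) (hs : D.InRankTwoSub i j s) (h1 : s ≠ r)
    (h2 : s ≠ D.neg r) (h : D.commTerms r s = []) (t u : K) :
    C.xh s u * C.xh r t = C.xh r t * C.xh s u := by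
  have := C.xh_comm hr hs h1 h2 t u
  unfold ChevalleyDatum.commWord at this
  rw [h, List.map_nil, wordP_nil] at this
  have e : C.xh s u * C.xh r t = C.xh r t * C.xh s u *
      ((C.xh s u)⁻¹ * (C.xh r t)⁻¹ * C.xh s u * C.xh r t) := by group
  rw [e, this, mul_one]

/-- For a pair `i, j` that is not joined, `n̂_j(a)` centralizes `x̂_{±p_i}`. -/
theorem nB_commute_nj {i j : ℕ} (hi : i < D.rank) (hj : j < D.rank) (hij : i ≠ j)
    (h0 : D.cartan i (D.simple j) = 0) (a : K) {r : ℕ} (hr : r = D.simple i ∨ r = D.neg (D.simple i)) (t : K) :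
    nB D C.xh j a * C.xh r t * (nB D C.xh j a)⁻¹ = C.xh r t := by
  obtain ⟨-, -, h3⟩ := C.hnj.spec hi hj hij h0
  obtain ⟨-, h4⟩ := h3 r hr
  have hrm : D.InRankTwoSub i j r := by
    rcases hr with rfl | rfl
    · exact C.simple_mem hi hj (Or.inl rfl)
    · exact C.neg_mem (C.simple_mem hi hj (Or.inl rfl))
  have hpj : D.InRankTwoSub i j (D.simple j) := C.simple_mem hi hj (Or.inr rfl)
  have hnj : D.InRankTwoSub i j (D.neg (D.simple j)) := C.neg_mem hpj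
  obtain ⟨a1, a2, -, a4⟩ := h4 (D.simple j) (Or.inl rfl)
  obtain ⟨b1, b2, -, b4⟩ := h4 (D.neg (D.simple j)) (Or.inr rfl)
  have c1 : ∀ u : K, C.xh (D.simple j) u * C.xh r t = C.xh r t * C.xh (D.simple j) u :=
    fun u => C.commute_of_nil hrm hpj a1 a2 a4 t u
  have c2 : ∀ u : K, C.xh (D.neg (D.simple j)) u * C.xh r t = C.xh r t * C.xh (D.neg (D.simple j)) u :=
    fun u => C.commute_of_nil hrm hnj b1 b2 b4 t u
  rw [nB_eq, mul_inv_eq_iff_eq_mul, mul_assoc, mul_assoc, c1, ← mul_assoc (C.xh (D.neg (D.simple j)) _), c2,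
    mul_assoc, ← mul_assoc (C.xh (D.simple j) a), c1]
  group

/-- The action of `n̂_j(a)` on the root elements of `Φ_ij` for a pair `i, j` that is not joined. -/
theorem act2_nB_nj {i j : ℕ} (hi : i < D.rank) (hj : j < D.rank) (hij : i ≠ j)
    (h0 : D.cartan i (D.simple j) = 0) (a : K) (ha : a ≠ 0) :
    Act2 D C.xh i j (nB D C.xh j a) (D.reflectRoot j) := by
  obtain ⟨-, h2, h3⟩ := C.hnj.spec hi hj hij h0
  have hself := C.act2_nB_self hj a ha
  have hpi := C.simple_lt hi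
  have hnn : D.neg (D.neg (D.simple i)) = D.simple i := neg_neg_root C.c C.tc C.ac _ hpi
  intro r hr
  have key : ∀ r, r = D.simple i ∨ r = D.neg (D.simple i) → D.InRankTwoSub i j r →
      D.InRankTwoSub i j (D.reflectRoot j r) ∧ D.reflectRoot j (D.neg r) = D.neg (D.reflectRoot j r) ∧
      ∃ b : K, b ≠ 0 ∧ (∀ t : K, nB D C.xh j a * C.xh r t * (nB D C.xh j a)⁻¹ =
        C.xh (D.reflectRoot j r) (b * t)) ∧
      (∀ t : K, nB D C.xh j a * C.xh (D.neg r) t * (nB D C.xh j a)⁻¹ =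
        C.xh (D.neg (D.reflectRoot j r)) (b⁻¹ * t)) := by
    intro r hr' hrm
    have hr'' : D.neg r = D.simple i ∨ D.neg r = D.neg (D.simple i) := by
      rcases hr' with rfl | rfl
      · exact Or.inr rfl
      · exact Or.inl hnn
    obtain ⟨e1, -⟩ := h3 r hr'
    obtain ⟨e2, -⟩ := h3 (D.neg r) hr''
    rw [e1, e2]
    refine ⟨hrm, rfl, 1, one_ne_zero, ?_, ?_⟩
    · intro t
      rw [one_mul]
      exact C.nB_commute_nj hi hj hij h0 a hr' t
    · intro t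
      rw [inv_one, one_mul]
      exact C.nB_commute_nj hi hj hij h0 a hr'' t
  have hjj : ∀ r, D.InRankTwoSub j j r → D.InRankTwoSub i j r := fun r hr =>
    inRankTwoSub_symm (C.sub_self_le hi hr)
  rcases h2 r hr with rfl | rfl | rfl | rfl
  · exact key _ (Or.inl rfl) hr
  · exact key _ (Or.inr rfl) hr
  · obtain ⟨k1, k2, b, hb, k3, k4⟩ := hself _ (C.simple_mem hj hj (Or.inl rfl))
    exact ⟨hjj _ k1, k2, b, hb, k3, k4⟩
  · obtain ⟨k1, k2, b, hb, k3, k4⟩ := hself _ (C.neg_mem (C.simple_mem hj hj (Or.inl rfl)))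
    exact ⟨hjj _ k1, k2, b, hb, k3, k4⟩

theorem act2_symm {i j : ℕ} {y : Γ} {σ : ℕ → ℕ} (h : Act2 D C.xh i j y σ) : Act2 D C.xh j i y σ := by
  intro r hr
  obtain ⟨h1, h2, a, ha, h3, h4⟩ := h r (inRankTwoSub_symm hr)
  exact ⟨inRankTwoSub_symm h1, h2, a, ha, h3, h4⟩

/-- The action of `n̂_k(a)`, `k ∈ {i, j}`, on the root elements of `Φ_ij`, for all pairs `i, j`. -/
theorem act2_nB {i j k : ℕ} (hi : i < D.rank) (hj : j < D.rank) (hk : k = i ∨ k = j) (a : K) (ha : a ≠ 0) :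
    Act2 D C.xh i j (nB D C.xh k a) (D.reflectRoot k) := by
  by_cases hij : i = j
  · subst hij
    have : k = i := by rcases hk with h | h <;> exact h
    subst this
    exact C.act2_nB_self hi a ha
  · by_cases h0 : D.cartan i (D.simple j) = 0
    · rcases hk with rfl | rfl
      · have h0' := (C.hnj.spec hi hj hij h0).1
        exact C.act2_symm (C.act2_nB_nj hj hi (Ne.symm hij) h0' a ha)
      · exact C.act2_nB_nj hi hj hij h0 a ha
    · exact C.act2_nB_joined ⟨hi, hj, hij, h0⟩ hk a ha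

/-- The action of a word in `n̂_i(1)`, `n̂_j(1)` on the root elements of `Φ_ij`. -/
theorem act2_nW {i j : ℕ} (hi : i < D.rank) (hj : j < D.rank) :
    ∀ (v : List ℕ), (∀ k ∈ v, k = i ∨ k = j) → Act2 D C.xh i j (nW D C.xh v) (wordRefl D v)
  | [], _ => by
    rw [nW_nil]
    exact act2_one i j
  | k :: v, h => by
    have ih := act2_nW hi hj v (fun m hm => h m (List.mem_cons_of_mem _ hm))
    rw [nW_cons]
    exact (C.act2_nB hi hj (h k (by simp)) 1 one_ne_zero).mul ih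

end GCtx

end Cfsg.Agent.Lib.Helper72_CTG
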