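/-
Curtis–Tits, general form (helper72): the subgroup Ĥ acts by scalars on the root elements of the fundamental roots and is normalized by the elements n̂_j(1).
(The file `Helper72_CT_Torus.lean` with the Curtis–Tits group and the Steinberg group replaced by `Γ` and `T`.)
-/
import Mathlib
import Cfsg.Agent.Lib.Helper72_CTG_Act2

set_option autoImplicit false
set_option linter.unusedSectionVars false
set_option linter.unusedVariables false

namespace Cfsg.Agent.Lib.Helper72_CTG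

open Cfsg Cfsg.Lie Cfsg.Agent.Lib.Helper18_ChevFast Cfsg.Agent.Lib.Helper18_ChevEngine
  Cfsg.Agent.Lib.Helper18_ChevR1 Cfsg.Agent.Lib.Helper18_ChevN Cfsg.Agent.Lib.Helper18_ChevR4
  Cfsg.Agent.Lib.Helper18_ChevSimple Cfsg.Agent.Lib.Helper18_ChevSimple2 Cfsg.Agent.Lib.Helper18_ChevFacts
  Cfsg.Agent.Lib.Helper18_ChevWeyl Cfsg.Agent.Lib.Helper18_ChevDiag Cfsg.Agent.Lib.Helper18_ChevCar
  Cfsg.Agent.Lib.Helper18_ChevTorus Cfsg.Agent.Lib.Helper18_ChevGL Cfsg.Agent.Lib.Helper18_ChevComm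
  Cfsg.Agent.Lib.Helper18_ChevComm2 Cfsg.Agent.Lib.Helper18_MatTri Cfsg.Agent.Lib.Helper18_ChevTri
  Cfsg.Agent.Lib.Helper18_ChevBorel Cfsg.Agent.Lib.Helper18_ChevAdd Cfsg.Agent.Lib.Helper18_ChevUni
  Cfsg.Agent.Lib.Helper18_ChevBN Cfsg.Agent.Lib.Helper18_ChevMono Cfsg.Agent.Lib.Helper18_ChevBNPair
  Cfsg.Agent.Lib.Helper18_ChevLevi Cfsg.Agent.Lib.Helper18_ChevSimp Cfsg.Agent.Lib.Helper18_ChevBruhat
  Cfsg.Agent.Lib.Helper18_ChevJCerts Cfsg.Agent.Lib.Helper18_ChevAutA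
  Cfsg.Agent.Lib.Helper81_StUniq Cfsg.Agent.Lib.Helper81_StAbs Cfsg.Agent.Lib.Helper81_StL37
  Cfsg.Agent.Lib.Helper81_StBruhat Cfsg.Agent.Lib.Helper81_StMain Cfsg.Agent.Lib.Helper81_StTorus

open Cfsg.Agent.Lib.Helper72_CT (Vis vis_iff VisCert Rank2Cert NJCert PartnerCert Joined inRankTwoSub_symm
  vis_of_mem Valid valid_singleton)

variable {D : ChevalleyDatum} {K : Type*} [Field K] {Γ : Type*} [Group Γ] {T : Type*} [Group T]

variable {xh : ℕ → K → Γ}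

/-- `y` maps the root elements of `±p_i` to those of `±p_i'`, with inverse scalars. -/
def Moves (D : ChevalleyDatum) (xh : ℕ → K → Γ) (y : Γ) (i i' : ℕ) : Prop :=
  ∃ a : K, a ≠ 0 ∧ (∀ t : K, y * xh (D.simple i) t * y⁻¹ = xh (D.simple i') (a * t)) ∧
    (∀ t : K, y * xh (D.neg (D.simple i)) t * y⁻¹ = xh (D.neg (D.simple i')) (a⁻¹ * t))

theorem moves_one (i : ℕ) : Moves D xh 1 i i :=
  ⟨1, one_ne_zero, fun t => by simp, fun t => by simp⟩

theorem Moves.mul {y₁ y₂ : Γ} {i i' i'' : ℕ} (h₁ : Moves D xh y₁ i' i'')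
    (h₂ : Moves D xh y₂ i i') : Moves D xh (y₁ * y₂) i i'' := by
  obtain ⟨a, ha, h3, h4⟩ := h₂
  obtain ⟨b, hb, k3, k4⟩ := h₁
  refine ⟨b * a, mul_ne_zero hb ha, ?_, ?_⟩
  · intro t
    have : y₁ * y₂ * xh (D.simple i) t * (y₁ * y₂)⁻¹ = y₁ * (y₂ * xh (D.simple i) t * y₂⁻¹) * y₁⁻¹ := by
      group
    rw [this, h3, k3, mul_assoc]
  · intro t
    have : y₁ * y₂ * xh (D.neg (D.simple i)) t * (y₁ * y₂)⁻¹ =
        y₁ * (y₂ * xh (D.neg (D.simple i)) t * y₂⁻¹) * y₁⁻¹ := by group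
    rw [this, h4, k4, mul_inv, mul_assoc]

/-- If `y` maps the root elements of `±p_j` to those of `±p_i`, it conjugates `n̂_j(b)` to `n̂_i(e b)`. -/
theorem Moves.conj_nB {y : Γ} {j i : ℕ} (h : Moves D xh y j i) :
    ∃ e : K, e ≠ 0 ∧ ∀ b : K, y * nB D xh j b * y⁻¹ = nB D xh i (e * b) := by
  obtain ⟨e, he, h1, h2⟩ := h
  refine ⟨e, he, fun b => ?_⟩
  rw [nB_eq, nB_eq]
  have : y * (xh (D.simple j) b * xh (D.neg (D.simple j)) (-b⁻¹) * xh (D.simple j) b) * y⁻¹ =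
      (y * xh (D.simple j) b * y⁻¹) * (y * xh (D.neg (D.simple j)) (-b⁻¹) * y⁻¹) *
        (y * xh (D.simple j) b * y⁻¹) := by group
  rw [this, h1, h2]
  congr 3
  rw [mul_inv, mul_neg]

/-- The subgroup of the elements that act by scalars on the root elements of all `±p_j`, together with their
inverses. -/
def SclAct (D : ChevalleyDatum) (xh : ℕ → K → Γ) : Subgroup Γ where
  carrier := {y | (∀ j < D.rank, Moves D xh y j j) ∧ ∀ j < D.rank, Moves D xh y⁻¹ j j}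
  one_mem' := ⟨fun j _ => moves_one j, fun j _ => by rw [inv_one]; exact moves_one j⟩
  mul_mem' := by
    rintro a b ⟨h₁, h₁'⟩ ⟨h₂, h₂'⟩
    refine ⟨fun j hj => (h₁ j hj).mul (h₂ j hj), fun j hj => ?_⟩
    rw [mul_inv_rev]
    exact (h₂' j hj).mul (h₁' j hj)
  inv_mem' := by
    rintro a ⟨h₁, h₂⟩
    refine ⟨h₂, ?_⟩
    rw [inv_inv]
    exact h₁

namespace GCtx

variable (C : GCtx D K Γ T)

include C

theorem nB_inv {i : ℕ} (hi : i < D.rank) (a : K) : (nB D C.xh i a)⁻¹ = nB D C.xh i (-a) := by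
  have hv : Vis D (D.simple i) := vis_of_mem (C.simple_mem hi hi (Or.inl rfl))
  have hvn : Vis D (D.neg (D.simple i)) := vis_of_mem (C.neg_mem (C.simple_mem hi hi (Or.inl rfl)))
  rw [nB_eq, nB_eq, mul_inv_rev, mul_inv_rev, C.xh_inv hv, C.xh_inv hvn, neg_neg, inv_neg, neg_neg, mul_assoc]

/-- `n̂_p(a) = ĥ_p(a) n̂_p(1)`. -/
theorem nB_eq_hB_mul {i : ℕ} (hi : i < D.rank) (a : K) :
    nB D C.xh i a = hBar D C.xh i a * nB D C.xh i 1 := by
  rw [hB_eq, ← C.nB_inv hi 1, inv_mul_cancel_right]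

/-- `n̂_p(1) n̂_p(1) = ĥ_p(-1)⁻¹`. -/
theorem nB_sq {j : ℕ} (hj : j < D.rank) :
    nB D C.xh j 1 * nB D C.xh j 1 = (hBar D C.xh j (-1))⁻¹ := by
  rw [hB_eq, mul_inv_rev, C.nB_inv hj, neg_neg]

/-- `n̂_i(a)` maps the root elements of `±p_i` to those of `∓p_i`... and `ĥ_i(a)` acts by scalars on those of
`±p_j`. -/
theorem moves_hBar {i j : ℕ} (hi : i < D.rank) (hj : j < D.rank) (a : K) (ha : a ≠ 0) :
    Moves D C.xh (hBar D C.xh i a) j j := by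
  have h1 := (C.act2_nB hi hj (Or.inl rfl) a ha).mul (C.act2_nB hi hj (Or.inl rfl) (-1) (by simp))
  rw [← hB_eq] at h1
  obtain ⟨-, -, b, hb, h3, h4⟩ := h1 _ (C.simple_mem hi hj (Or.inr rfl))
  have e : (D.reflectRoot i ∘ D.reflectRoot i) (D.simple j) = D.simple j :=
    C.c.reflect_reflect i hi _ (C.simple_lt hj)
  rw [e] at h3 h4
  exact ⟨b, hb, h3, h4⟩

theorem moves_hBar_inv {i j : ℕ} (hi : i < D.rank) (hj : j < D.rank) (a : K) (ha : a ≠ 0) :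
    Moves D C.xh (hBar D C.xh i a)⁻¹ j j := by
  have e : (hBar D C.xh i a)⁻¹ = nB D C.xh i 1 * nB D C.xh i (-a) := by
    rw [hB_eq, mul_inv_rev, C.nB_inv hi, C.nB_inv hi, neg_neg]
  have h1 := (C.act2_nB hi hj (Or.inl rfl) 1 one_ne_zero).mul (C.act2_nB hi hj (Or.inl rfl) (-a) (by simpa using ha))
  rw [← e] at h1
  obtain ⟨-, -, b, hb, h3, h4⟩ := h1 _ (C.simple_mem hi hj (Or.inr rfl))
  have e' : (D.reflectRoot i ∘ D.reflectRoot i) (D.simple j) = D.simple j :=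
    C.c.reflect_reflect i hi _ (C.simple_lt hj)
  rw [e'] at h3 h4
  exact ⟨b, hb, h3, h4⟩

/-- `Ĥ` acts by scalars on the root elements of the fundamental roots. -/
theorem HB_le_SclAct : HB D C.xh ≤ SclAct D C.xh := by
  unfold HB
  rw [Subgroup.closure_le]
  rintro y ⟨i, hi, a, ha, rfl⟩
  exact ⟨fun j hj => C.moves_hBar hi hj a ha, fun j hj => C.moves_hBar_inv hi hj a ha⟩

/-- `n̂_j(1)` normalizes `Ĥ`. -/
theorem nB_mem_normalizer_HB {j : ℕ} (hj : j < D.rank) :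
    nB D C.xh j 1 ∈ Subgroup.normalizer (HB D C.xh : Set (Γ)) := by
  unfold HB
  apply mem_normalizer_closure
  · rintro h ⟨i, hi, a, ha, rfl⟩
    show _ ∈ HB D C.xh
    obtain ⟨e, he, hconj⟩ := (C.moves_hBar_inv hi hj a ha).conj_nB
    have e1 : nB D C.xh j 1 * hBar D C.xh i a * (nB D C.xh j 1)⁻¹ =
        hBar D C.xh i a * ((hBar D C.xh i a)⁻¹ * nB D C.xh j 1 * (hBar D C.xh i a)⁻¹⁻¹) *
          (nB D C.xh j 1)⁻¹ := by group
    rw [e1, hconj, mul_one, mul_assoc, C.nB_inv hj, ← hB_eq]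
    exact Subgroup.mul_mem _ (hB_mem_HB hi ha) (hB_mem_HB hj he)
  · rintro h ⟨i, hi, a, ha, rfl⟩
    show _ ∈ HB D C.xh
    obtain ⟨e, he, hconj⟩ := (C.moves_hBar_inv hi hj a ha).conj_nB
    have e1 : (nB D C.xh j 1)⁻¹ * hBar D C.xh i a * nB D C.xh j 1 =
        hBar D C.xh i a * ((hBar D C.xh i a)⁻¹ * nB D C.xh j 1 * (hBar D C.xh i a)⁻¹⁻¹)⁻¹ *
          nB D C.xh j 1 := by group
    rw [e1, hconj, mul_one, C.nB_inv hj]
    have e2 : nB D C.xh j (-e) * nB D C.xh j 1 =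
        hBar D C.xh j (-e) * (hBar D C.xh j (-1))⁻¹ := by
      rw [← C.nB_sq hj, hB_eq, ← C.nB_inv hj 1]
      group
    rw [mul_assoc, e2]
    exact Subgroup.mul_mem _ (hB_mem_HB hi ha) (Subgroup.mul_mem _ (hB_mem_HB hj (neg_ne_zero.mpr he))
      (Subgroup.inv_mem _ (hB_mem_HB hj (by simp))))

/-- Words in the `n̂_j(1)` normalize `Ĥ`. -/
theorem nW_mem_normalizer_HB : ∀ (w : List ℕ), (∀ k ∈ w, k < D.rank) →
    nW D C.xh w ∈ Subgroup.normalizer (HB D C.xh : Set (Γ))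
  | [], _ => by
    rw [nW_nil]
    exact Subgroup.one_mem _
  | k :: w, h => by
    rw [nW_cons]
    exact Subgroup.mul_mem _ (C.nB_mem_normalizer_HB (h k (by simp)))
      (nW_mem_normalizer_HB w (fun m hm => h m (List.mem_cons_of_mem _ hm)))

theorem nW_conj_HB {w : List ℕ} (hw : ∀ k ∈ w, k < D.rank) {h : Γ} (hh : h ∈ HB D C.xh) :
    nW D C.xh w * h * (nW D C.xh w)⁻¹ ∈ HB D C.xh :=
  (Subgroup.mem_normalizer_iff.mp (C.nW_mem_normalizer_HB w hw) h).mp hh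

theorem nW_conj_HB' {w : List ℕ} (hw : ∀ k ∈ w, k < D.rank) {h : Γ} (hh : h ∈ HB D C.xh) :
    (nW D C.xh w)⁻¹ * h * nW D C.xh w ∈ HB D C.xh := by
  have h1 := Subgroup.inv_mem _ (C.nW_mem_normalizer_HB w hw)
  have := (Subgroup.mem_normalizer_iff.mp h1 h).mp hh
  rwa [inv_inv] at this

end GCtx

end Cfsg.Agent.Lib.Helper72_CTG
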