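/-
Curtis–Tits, general form (helper72): the key lemma.
(The file `Helper72_CT_Key.lean` with the Curtis–Tits group and the Steinberg group replaced by `Γ` and `T`.)
-/
import Mathlib
import Cfsg.Agent.Lib.Helper72_CTG_Torus

set_option autoImplicit false
set_option linter.unusedSectionVars false
set_option linter.unusedVariables false

namespace Cfsg.Agent.Lib.Helper72_CTG

open Cfsg Cfsg.Lie Cfsg.Agent.Lib.Helper18_ChevFast Cfsg.Agent.Lib.Helper18_ChevEngine
  Cfsg.Agent.Lib.Helper18_ChevR1 Cfsg.Agent.Lib.Helper18_ChevN Cfsg.Agent.Lib.Helper18_ChevR4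
  Cfsg.Agent.Lib.Helper18_ChevSimple Cfsg.Agent.Lib.Helper18_ChevSimple2 Cfsg.Agent.Lib.Helper18_ChevFacts
  Cfsg.Agent.Lib.Helper18_ChevWeyl Cfsg.Agent.Lib.Helper18_ChevDiag Cfsg.Agent.Lib.Helper18_ChevCar
  Cfsg.Agent.Lib.Helper18_ChevTorus Cfsg.Agent.Lib.Helper18_ChevGL Cfsg.Agent.Lib.Helper18_ChevComm
  Cfsg.Agent.Lib.Helper18_ChevComm2 Cfsg.Agent.Lib.Helper18_MatTri Cfsg.Agent.Lib.Helper18_ChevTri
  Cfsg.Agent.Lib.Helper18_ChevBorel Cfsg.Agent.Lib.Helper18_ChevAdd Cfsg.Agent.Lib.Helper18_ChevUni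
  Cfsg.Agent.Lib.Helper18_ChevBN Cfsg.Agent.Lib.Helper18_ChevMono Cfsg.Agent.Lib.Helper18_ChevBNPair
  Cfsg.Agent.Lib.Helper18_ChevLevi Cfsg.Agent.Lib.Helper18_ChevSimp Cfsg.Agent.Lib.Helper18_ChevBruhat
  Cfsg.Agent.Lib.Helper18_ChevJCerts Cfsg.Agent.Lib.Helper18_ChevAutA
  Cfsg.Agent.Lib.Helper81_StUniq Cfsg.Agent.Lib.Helper81_StAbs Cfsg.Agent.Lib.Helper81_StL37
  Cfsg.Agent.Lib.Helper81_StBruhat Cfsg.Agent.Lib.Helper81_StMain Cfsg.Agent.Lib.Helper81_StTorus

open Cfsg.Agent.Lib.Helper72_CT (Vis vis_iff VisCert Rank2Cert NJCert PartnerCert Joined inRankTwoSub_symm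
  vis_of_mem Valid valid_singleton)

variable {D : ChevalleyDatum} {K : Type*} [Field K] {Γ : Type*} [Group Γ] {T : Type*} [Group T]

/-- The key property of a word. -/
def KLw (D : ChevalleyDatum) (xh : ℕ → K → Γ) (w : List ℕ) : Prop :=
  ∀ i < D.rank, ∀ i' < D.rank, wordRefl D w (D.simple i) = D.simple i' → Moves D xh (nW D xh w) i i'

namespace GCtx

variable (C : GCtx D K Γ T)

include C

/-! ### Images in the Steinberg group -/

theorem pi_nW : ∀ (w : List ℕ), Valid D w → C.pi (nW D C.xh w) = nW D C.xs w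
  | [], _ => by rw [nW_nil, nW_nil, map_one]
  | k :: w, h => by
    rw [nW_cons, nW_cons, map_mul, C.pi_nB (h k (by simp)),
      pi_nW w (fun m hm => h m (List.mem_cons_of_mem _ hm))]

theorem pi_hBar {i : ℕ} (hi : i < D.rank) (a : K) : C.pi (hBar D C.xh i a) = hBar D C.xs i a := by
  rw [hB_eq, hB_eq, map_mul, C.pi_nB hi, C.pi_nB hi]

theorem pi_HB {h : Γ} (hh : h ∈ HB D C.xh) : C.pi h ∈ HB D C.xs := by
  unfold HB at hh
  induction hh using Subgroup.closure_induction with
  | mem y hy =>
    obtain ⟨i, hi, a, ha, rfl⟩ := hy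
    rw [C.pi_hBar hi]
    exact hB_mem_HB hi ha
  | one => rw [map_one]; exact Subgroup.one_mem _
  | mul a b _ _ iha ihb => rw [map_mul]; exact Subgroup.mul_mem _ iha ihb
  | inv a _ iha => rw [map_inv]; exact Subgroup.inv_mem _ iha

/-- The root map of `h n̂_w`, read off in the Steinberg group. -/
theorem monoAct_pi {h : Γ} (hh : h ∈ HB D C.xh) {w : List ℕ} (hw : Valid D w) :
    MonoAct D C.xs (C.pi (h * nW D C.xh w)) (wordRefl D w) := by
  rw [map_mul, C.pi_nW w hw]
  have h1 := (HB_le_IdAct C.c C.tc C.ac C.hA C.hB C.stGrp C.isLift (C.pi_HB hh)).1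
  have h2 := monoAct_nW C.c C.tc C.ac C.hA C.hB C.stGrp C.isLift w hw
  exact h1.mul h2

/-- Two expressions `h n̂_w = h' n̂_w'` of the same element have the same root map. -/
theorem rootMap_eq {h h' : Γ} (hh : h ∈ HB D C.xh) (hh' : h' ∈ HB D C.xh)
    {w w' : List ℕ} (hw : Valid D w) (hw' : Valid D w')
    (e : h * nW D C.xh w = h' * nW D C.xh w') : ∀ r < D.nroots, wordRefl D w r = wordRefl D w' r := by
  have h1 := C.monoAct_pi hh hw
  have h2 := C.monoAct_pi hh' hw'
  rw [e] at h1
  exact C.uniq h1 h2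

theorem rootMap_eq' {h' : Γ} (hh' : h' ∈ HB D C.xh)
    {w w' : List ℕ} (hw : Valid D w) (hw' : Valid D w')
    (e : nW D C.xh w = h' * nW D C.xh w') : ∀ r < D.nroots, wordRefl D w r = wordRefl D w' r := by
  apply C.rootMap_eq (Subgroup.one_mem _) hh' hw hw'
  rw [one_mul, e]

/-- `Ĥ` acts by scalars. -/
theorem moves_of_mem_HB {h : Γ} (hh : h ∈ HB D C.xh) {j : ℕ} (hj : j < D.rank) :
    Moves D C.xh h j j := (C.HB_le_SclAct hh).1 j hj

/-! ### The exchange step -/

/-- If `w'` maps `p_j` to a negative root, then `n̂_{w' ++ [j]} ∈ Ĥ n̂_{w''}` for a word `w''` shorter by two. -/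
theorem exch1 {w' : List ℕ} (hw' : Valid D w')
    (IH : ∀ B : List ℕ, B.length < w'.length → Valid D B → KLw D C.xh B) {j : ℕ} (hj : j < D.rank)
    (hneg : D.IsNegRoot (wordRefl D w' (D.simple j))) :
    ∃ w'' : List ℕ, w''.length + 1 = w'.length ∧ Valid D w'' ∧ ∃ h ∈ HB D C.xh,
      nW D C.xh (w' ++ [j]) = h * nW D C.xh w'' := by
  obtain ⟨A, i, B, hAB, hBj⟩ := exists_split C.c C.tc C.ac j hj w' hw' hneg
  have hA' : Valid D A := fun k hk => hw' k (by rw [hAB]; exact List.mem_append_left _ hk)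
  have hi : i < D.rank := hw' i (by rw [hAB]; simp)
  have hB' : Valid D B := fun k hk => hw' k (by
    rw [hAB]
    exact List.mem_append_right _ (List.mem_cons_of_mem _ hk))
  have hlenB : B.length < w'.length := by
    rw [hAB]
    simp only [List.length_append, List.length_cons]
    omega
  obtain ⟨e, he, hconj⟩ := (IH B hlenB hB' j hj i hi hBj).conj_nB
  have e1 : nW D C.xh (w' ++ [j]) =
      nW D C.xh A * (nB D C.xh i 1 * nB D C.xh i e) * (nW D C.xh A)⁻¹ *
        nW D C.xh (A ++ B) := by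
    have := hconj 1
    rw [mul_one] at this
    rw [hAB, nW_append, nW_append, nW_cons, nW_cons, nW_nil, mul_one, nW_append, ← this]
    group
  have h0 : nB D C.xh i 1 * nB D C.xh i e ∈ HB D C.xh := by
    rw [C.nB_eq_hB_mul hi e]
    have h1 := (Subgroup.mem_normalizer_iff.mp (C.nB_mem_normalizer_HB hi) (hBar D C.xh i e)).mp
      (hB_mem_HB hi he)
    have e2 : nB D C.xh i 1 * (hBar D C.xh i e * nB D C.xh i 1) =
        (nB D C.xh i 1 * hBar D C.xh i e * (nB D C.xh i 1)⁻¹) *
          (nB D C.xh i 1 * nB D C.xh i 1) := by group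
    rw [e2, C.nB_sq hi]
    exact Subgroup.mul_mem _ h1 (Subgroup.inv_mem _ (hB_mem_HB hi (by simp)))
  refine ⟨A ++ B, ?_, hA'.append hB', _, C.nW_conj_HB hA' h0, e1⟩
  rw [hAB]
  simp only [List.length_append, List.length_cons]
  omega

/-- If `w'` maps `p_j` to a negative root, then `n̂_{w'} ∈ Ĥ n̂_{w'' ++ [j]}` for a word `w''` shorter by one. -/
theorem exch2 {w' : List ℕ} (hw' : Valid D w')
    (IH : ∀ B : List ℕ, B.length < w'.length → Valid D B → KLw D C.xh B) {j : ℕ} (hj : j < D.rank)
    (hneg : D.IsNegRoot (wordRefl D w' (D.simple j))) :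
    ∃ w'' : List ℕ, w''.length + 1 = w'.length ∧ Valid D w'' ∧ ∃ h ∈ HB D C.xh,
      nW D C.xh w' = h * nW D C.xh (w'' ++ [j]) := by
  obtain ⟨w'', hlen, hv, h, hh, e⟩ := C.exch1 hw' IH hj hneg
  refine ⟨w'', hlen, hv, h * (nW D C.xh w'' * hBar D C.xh j (-1) * (nW D C.xh w'')⁻¹),
    Subgroup.mul_mem _ hh (C.nW_conj_HB hv (hB_mem_HB hj (by simp))), ?_⟩
  rw [nW_append, nW_cons, nW_nil, mul_one] at e
  have e2 : nW D C.xh w' = h * nW D C.xh w'' * (nB D C.xh j 1)⁻¹ := by
    rw [← e]
    group
  rw [e2, C.nB_inv hj, C.nB_eq_hB_mul hj (-1), nW_append, nW_cons, nW_nil, mul_one]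
  group

/-! ### Words that preserve the positive roots -/

/-- A word that maps the positive roots to positive roots gives an element of `Ĥ`. -/
theorem nW_mem_HB_of_pos (n : ℕ) (IH : ∀ B : List ℕ, B.length < n → Valid D B → KLw D C.xh B) :
    ∀ (m : ℕ) (w : List ℕ), w.length = m → m ≤ n + 1 → Valid D w →
      (∀ r, D.IsPosRoot r → D.IsPosRoot (wordRefl D w r)) → nW D C.xh w ∈ HB D C.xh := by
  intro m
  induction m using Nat.strong_induction_on with
  | _ m ih =>
    intro w hlen hmn hw hpos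
    rcases List.eq_nil_or_concat w with rfl | ⟨w', j, rfl⟩
    · rw [nW_nil]
      exact Subgroup.one_mem _
    · rw [List.concat_eq_append] at hlen hw hpos ⊢
      have hw' : Valid D w' := hw.left
      have hj : j < D.rank := hw j (by simp)
      have hsj := C.simple_lt hj
      have hlen' : w'.length + 1 = m := by
        rw [← hlen]
        simp
      -- `w'` maps `p_j` to a negative root
      have hneg : D.IsNegRoot (wordRefl D w' (D.simple j)) := by
        have h1 : wordRefl D (w' ++ [j]) (D.neg (D.simple j)) = wordRefl D w' (D.simple j) := by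
          rw [wordRefl_append]
          congr 1
          show D.reflectRoot j (D.neg (D.simple j)) = D.simple j
          rw [(facts C.c.rows (C.c.ncert j hj) _ hsj).refl_neg, reflectRoot_simple,
            neg_neg_root C.c C.tc C.ac _ hsj]
        rw [← h1, wordRefl_neg C.c _ hw _ hsj]
        exact neg_isNeg C.c C.tc C.ac _ (hpos _ (C.tc.simple_pos j hj))
      obtain ⟨w'', hl, hv, h, hh, e⟩ := C.exch1 hw'
        (fun B hB hvB => IH B (by omega) hvB) hj hneg
      have hroot := C.rootMap_eq' hh hw hv e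
      have hpos'' : ∀ r, D.IsPosRoot r → D.IsPosRoot (wordRefl D w'' r) := by
        intro r hr
        rw [← hroot r hr.1]
        exact hpos r hr
      rw [e]
      exact Subgroup.mul_mem _ hh (ih w''.length (by omega) w'' rfl (by omega) hv hpos'')

/-! ### Moving the descents in `{i, k}` to the right -/

theorem loop (n : ℕ) (IH : ∀ B : List ℕ, B.length < n → Valid D B → KLw D C.xh B) {i k : ℕ} (hi : i < D.rank)
    (hk : k < D.rank) :
    ∀ (m : ℕ) (u : List ℕ), u.length = m → m ≤ n → Valid D u →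
      ∃ (u' v : List ℕ) (h : Γ), Valid D u' ∧ u'.length ≤ m ∧
        (D.IsNegRoot (wordRefl D u (D.simple i)) ∨ D.IsNegRoot (wordRefl D u (D.simple k)) → u'.length < m) ∧
        (∀ x ∈ v, x = i ∨ x = k) ∧ h ∈ HB D C.xh ∧
        nW D C.xh u = h * nW D C.xh u' * nW D C.xh v ∧
        ¬ D.IsNegRoot (wordRefl D u' (D.simple i)) ∧ ¬ D.IsNegRoot (wordRefl D u' (D.simple k)) := by
  intro m
  induction m with
  | zero =>
    intro u hlen _ hu
    have : u = [] := List.length_eq_zero_iff.mp hlen
    subst this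
    have hnn : ∀ j < D.rank, ¬ D.IsNegRoot (wordRefl D [] (D.simple j)) := fun j hj hn =>
      C.ac.not_pos_and_neg _ (C.tc.simple_pos j hj) hn
    refine ⟨[], [], 1, hu, le_refl _, ?_, by simp, Subgroup.one_mem _, by simp [nW_nil], hnn i hi, hnn k hk⟩
    rintro (h | h)
    · exact absurd h (hnn i hi)
    · exact absurd h (hnn k hk)
  | succ m ih =>
    intro u hlen hmn hu
    by_cases hdesc : D.IsNegRoot (wordRefl D u (D.simple i)) ∨ D.IsNegRoot (wordRefl D u (D.simple k))
    · -- a descent `j ∈ {i, k}`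
      have key : ∀ j, (j = i ∨ j = k) → D.IsNegRoot (wordRefl D u (D.simple j)) →
          ∃ (u' v : List ℕ) (h : Γ), Valid D u' ∧ u'.length ≤ m + 1 ∧
            (D.IsNegRoot (wordRefl D u (D.simple i)) ∨ D.IsNegRoot (wordRefl D u (D.simple k)) →
              u'.length < m + 1) ∧
            (∀ x ∈ v, x = i ∨ x = k) ∧ h ∈ HB D C.xh ∧
            nW D C.xh u = h * nW D C.xh u' * nW D C.xh v ∧
            ¬ D.IsNegRoot (wordRefl D u' (D.simple i)) ∧ ¬ D.IsNegRoot (wordRefl D u' (D.simple k)) := by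
        intro j hjik hneg
        have hj : j < D.rank := by rcases hjik with rfl | rfl <;> assumption
        obtain ⟨u'', hl, hv, h₁, hh₁, e⟩ := C.exch2 hu (fun B hB hvB => IH B (by omega) hvB) hj hneg
        obtain ⟨u', v, h₂, hu', hlen', -, hvv, hh₂, e₂, hn1, hn2⟩ := ih u'' (by omega) (by omega) hv
        refine ⟨u', v ++ [j], h₁ * h₂, hu', by omega, fun _ => by omega, ?_, Subgroup.mul_mem _ hh₁ hh₂, ?_,
          hn1, hn2⟩
        · intro x hx
          rcases List.mem_append.mp hx with hx | hx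
          · exact hvv x hx
          · rw [List.mem_singleton] at hx
            rw [hx]
            exact hjik
        · rw [e, nW_append, e₂, nW_append]
          group
      rcases hdesc with h | h
      · exact key i (Or.inl rfl) h
      · exact key k (Or.inr rfl) h
    · push Not at hdesc
      exact ⟨u, [], 1, hu, by omega, fun h => by rcases h with h | h; exact absurd h hdesc.1; exact absurd h hdesc.2,
        by simp, Subgroup.one_mem _, by simp [nW_nil], hdesc.1, hdesc.2⟩

/-! ### The key lemma -/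

theorem keyLemma : ∀ (n : ℕ) (w : List ℕ), w.length = n → Valid D w → KLw D C.xh w := by
  intro n
  induction n using Nat.strong_induction_on with
  | _ n ih =>
    intro w hlen hw i hi i' hi' hwi
    have IH : ∀ B : List ℕ, B.length < n → Valid D B → KLw D C.xh B := fun B hB hvB => ih B.length hB B rfl hvB
    have hlin := linMap_wordRefl C.c w hw
    have hpi := C.simple_lt hi
    by_cases hall : ∀ k < D.rank, D.IsPosRoot (wordRefl D w (D.simple k))
    · -- the word preserves the positive roots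
      have hpos := hlin.pos C.c C.tc C.ac C.hdesc hall
      have hmem := C.nW_mem_HB_of_pos n IH n w hlen (by omega) hw hpos
      have h1 := C.monoAct_pi (Subgroup.one_mem _) hw
      rw [one_mul] at h1
      have h2 := (HB_le_IdAct C.c C.tc C.ac C.hA C.hB C.stGrp C.isLift (C.pi_HB hmem)).1
      have h3 := C.uniq h1 h2 _ hpi
      rw [hwi] at h3
      have := C.moves_of_mem_HB hmem hi
      unfold Moves at this ⊢
      rw [h3]
      exact this
    · push Not at hall
      obtain ⟨k, hk, hnp⟩ := hall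
      have hneg : D.IsNegRoot (wordRefl D w (D.simple k)) := by
        rcases C.ac.posOrNeg _ (hlin.1 _ (C.simple_lt hk)) with h | h
        · exact absurd h hnp
        · exact h
      have hik : i ≠ k := by
        rintro rfl
        rw [hwi] at hneg
        exact C.ac.not_pos_and_neg _ (C.tc.simple_pos i' hi') hneg
      obtain ⟨u', v, h, hu', hlen', hlt, hvv, hh, e, hn1, hn2⟩ := C.loop n IH hi hk n w hlen (le_refl _) hw
      have hlt' := hlt (Or.inr hneg)
      have hv : Valid D v := by
        intro x hx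
        rcases hvv x hx with rfl | rfl <;> assumption
      have hlin' := linMap_wordRefl C.c u' hu'
      -- the root maps
      have hroot : ∀ r < D.nroots, wordRefl D w r = wordRefl D u' (wordRefl D v r) := by
        intro r hr
        have e' : nW D C.xh w = h * nW D C.xh (u' ++ v) := by rw [e, nW_append, mul_assoc]
        rw [C.rootMap_eq' hh hw (hu'.append hv) e' r hr, wordRefl_append]
      have hact := C.act2_nW hi hk v hvv
      obtain ⟨hρ, hρn, a, ha, h3, h4⟩ := hact _ (C.simple_mem hi hk (Or.inl rfl))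
      have hp1 : D.IsPosRoot (wordRefl D u' (D.simple i)) := by
        rcases C.ac.posOrNeg _ (hlin'.1 _ hpi) with h | h
        · exact h
        · exact absurd h hn1
      have hp2 : D.IsPosRoot (wordRefl D u' (D.simple k)) := by
        rcases C.ac.posOrNeg _ (hlin'.1 _ (C.simple_lt hk)) with h | h
        · exact h
        · exact absurd h hn2
      have hσρ : wordRefl D u' (wordRefl D v (D.simple i)) = D.simple i' := by
        rw [← hroot _ hpi, hwi]
      have hcase := C.term hlin' hi hk hik hi' hp1 hp2 hρ hσρ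
      -- `n̂_v` maps the root elements of `±p_i` to those of `±p_j`, `j ∈ {i, k}`
      have hfin : ∀ j < D.rank, wordRefl D v (D.simple i) = D.simple j → Moves D C.xh (nW D C.xh w) i i' := by
        intro j hj hρj
        rw [hρj] at h3 h4 hσρ
        have m1 : Moves D C.xh (nW D C.xh v) i j := ⟨a, ha, h3, h4⟩
        have m2 : Moves D C.xh (nW D C.xh u') j i' := IH u' (by omega) hu' j hj i' hi' hσρ
        have m3 : Moves D C.xh h i' i' := C.moves_of_mem_HB hh hi'
        rw [e]
        exact (m3.mul m2).mul m1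
      rcases hcase with h | h
      · exact hfin i hi h
      · exact hfin k hk h

theorem keyLemma' {w : List ℕ} (hw : Valid D w) : KLw D C.xh w := C.keyLemma w.length w rfl hw

end GCtx

end Cfsg.Agent.Lib.Helper72_CTG
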