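/-
Curtis–Tits (helper72): the root elements `X_r(t)` of the Curtis–Tits group for all roots `r`, their conjugation by
the elements `n̂_w`, and the identification with the generators `x̂_r(t)` on the visible roots.
-/
import Mathlib
import Cfsg.Agent.Lib.Helper72_CT_Key

set_option autoImplicit false
set_option linter.unusedSectionVars false
set_option linter.unusedVariables false

namespace Cfsg.Agent.Lib.Helper72_CT

open Cfsg Cfsg.Lie Cfsg.Agent.Lib.Helper18_ChevFast Cfsg.Agent.Lib.Helper18_ChevEngine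
  Cfsg.Agent.Lib.Helper18_ChevR1 Cfsg.Agent.Lib.Helper18_ChevN Cfsg.Agent.Lib.Helper18_ChevR4
  Cfsg.Agent.Lib.Helper18_ChevSimple Cfsg.Agent.Lib.Helper18_ChevSimple2 Cfsg.Agent.Lib.Helper18_ChevFacts
  Cfsg.Agent.Lib.Helper18_ChevWeyl Cfsg.Agent.Lib.Helper18_ChevDiag Cfsg.Agent.Lib.Helper18_ChevCar
  Cfsg.Agent.Lib.Helper18_ChevTorus Cfsg.Agent.Lib.Helper18_ChevGL Cfsg.Agent.Lib.Helper18_ChevComm
  Cfsg.Agent.Lib.Helper18_ChevComm2 Cfsg.Agent.Lib.Helper18_MatTri Cfsg.Agent.Lib.Helper18_ChevTri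
  Cfsg.Agent.Lib.Helper18_ChevBorel Cfsg.Agent.Lib.Helper18_ChevAdd Cfsg.Agent.Lib.Helper18_ChevUni
  Cfsg.Agent.Lib.Helper18_ChevBN Cfsg.Agent.Lib.Helper18_ChevMono Cfsg.Agent.Lib.Helper18_ChevBNPair
  Cfsg.Agent.Lib.Helper18_ChevLevi Cfsg.Agent.Lib.Helper18_ChevSimp Cfsg.Agent.Lib.Helper18_ChevBruhat
  Cfsg.Agent.Lib.Helper18_ChevJCerts Cfsg.Agent.Lib.Helper18_ChevAutA
  Cfsg.Agent.Lib.Helper81_StUniq Cfsg.Agent.Lib.Helper81_StAbs Cfsg.Agent.Lib.Helper81_StL37
  Cfsg.Agent.Lib.Helper81_StBruhat Cfsg.Agent.Lib.Helper81_StMain Cfsg.Agent.Lib.Helper81_StTorus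

variable {D : ChevalleyDatum} {K : Type*} [Field K]

theorem Valid.reverse {w : List ℕ} (h : Valid D w) : Valid D w.reverse :=
  fun k hk => h k (List.mem_reverse.mp hk)

theorem Valid.tail {k : ℕ} {w : List ℕ} (h : Valid D (k :: w)) : Valid D w :=
  fun m hm => h m (List.mem_cons_of_mem _ hm)

theorem Valid.head {k : ℕ} {w : List ℕ} (h : Valid D (k :: w)) : k < D.rank := h k (by simp)

theorem valid_nil : Valid D [] := fun k hk => by simp at hk

namespace Ctx

variable (C : Ctx D K)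

include C

/-! ### Words and their reverses -/

theorem wordRefl_reverse : ∀ (z : List ℕ), Valid D z → ∀ ρ < D.nroots,
    wordRefl D z.reverse (wordRefl D z ρ) = ρ
  | [], _, ρ, _ => rfl
  | k :: z, h, ρ, hρ => by
    rw [List.reverse_cons, wordRefl_append]
    show wordRefl D z.reverse (D.reflectRoot k (D.reflectRoot k (wordRefl D z ρ))) = ρ
    rw [C.c.reflect_reflect k h.head _ (wordRefl_lt C.c z h.tail ρ hρ)]
    exact wordRefl_reverse z h.tail ρ hρ

theorem wordRefl_reverse' {z : List ℕ} (hz : Valid D z) {ρ : ℕ} (hρ : ρ < D.nroots) :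
    wordRefl D z (wordRefl D z.reverse ρ) = ρ := by
  have := C.wordRefl_reverse z.reverse hz.reverse ρ hρ
  rwa [List.reverse_reverse] at this

theorem wordRefl_inj {z : List ℕ} (hz : Valid D z) {ρ ρ' : ℕ} (hρ : ρ < D.nroots) (hρ' : ρ' < D.nroots)
    (h : wordRefl D z ρ = wordRefl D z ρ') : ρ = ρ' := by
  rw [← C.wordRefl_reverse z hz ρ hρ, h, C.wordRefl_reverse z hz ρ' hρ']

theorem nW_reverse_mul_mem_HB : ∀ (z : List ℕ), Valid D z →
    nW D (xh D K) z.reverse * nW D (xh D K) z ∈ HB D (xh D K)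
  | [], _ => by
    rw [List.reverse_nil, nW_nil, mul_one]
    exact Subgroup.one_mem _
  | k :: z, h => by
    have ih := nW_reverse_mul_mem_HB z h.tail
    rw [List.reverse_cons, nW_append, nW_cons, nW_cons, nW_nil, mul_one]
    have e : nW D (xh D K) z.reverse * nB D (xh D K) k 1 * (nB D (xh D K) k 1 * nW D (xh D K) z) =
        (nW D (xh D K) z.reverse * (nB D (xh D K) k 1 * nB D (xh D K) k 1) * (nW D (xh D K) z.reverse)⁻¹) *
          (nW D (xh D K) z.reverse * nW D (xh D K) z) := by group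
    rw [e, C.nB_sq h.head]
    exact Subgroup.mul_mem _ (C.nW_conj_HB h.tail.reverse (Subgroup.inv_mem _ (hB_mem_HB h.head (by simp)))) ih

/-! ### Every root is the image of a fundamental root under a word -/

theorem exists_root_word : ∀ r < D.nroots, ∃ (w : List ℕ) (i : ℕ), Valid D w ∧ i < D.rank ∧
    wordRefl D w (D.simple i) = r := by
  apply C.c.root_induction
  · intro i hi
    exact ⟨[], i, valid_nil, hi, rfl⟩
  · rintro i hi s hs ⟨w, j, hw, hj, rfl⟩
    refine ⟨i :: w, j, ?_, hj, rfl⟩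
    intro m hm
    rcases List.mem_cons.mp hm with rfl | hm
    · exact hi
    · exact hw m hm

theorem exists_root_data (r : ℕ) (hr : r < D.nroots) : ∃ p : List ℕ × ℕ × K, Valid D p.1 ∧ p.2.1 < D.rank ∧
    wordRefl D p.1 (D.simple p.2.1) = r ∧ p.2.2 ≠ 0 ∧
    ∀ t : K, nW D (xs D K) p.1 * xs D K (D.simple p.2.1) t * (nW D (xs D K) p.1)⁻¹ = xs D K r (p.2.2 * t) := by
  obtain ⟨w, i, hw, hi, hwr⟩ := C.exists_root_word r hr
  obtain ⟨-, -, a, ha, h3, -⟩ := monoAct_nW C.c C.tc C.ac C.hA C.hB C.stGrp C.isLift w hw _ (C.simple_lt hi)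
  rw [hwr] at h3
  exact ⟨(w, i, a), hw, hi, hwr, ha, h3⟩

/-- The chosen word, fundamental root and scalar of a root. -/
noncomputable def rootData (r : ℕ) : List ℕ × ℕ × K :=
  if hr : r < D.nroots then (C.exists_root_data r hr).choose else ([], 0, 1)

theorem rootData_spec {r : ℕ} (hr : r < D.nroots) : Valid D (C.rootData r).1 ∧ (C.rootData r).2.1 < D.rank ∧
    wordRefl D (C.rootData r).1 (D.simple (C.rootData r).2.1) = r ∧ (C.rootData r).2.2 ≠ 0 ∧
    ∀ t : K, nW D (xs D K) (C.rootData r).1 * xs D K (D.simple (C.rootData r).2.1) t *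
      (nW D (xs D K) (C.rootData r).1)⁻¹ = xs D K r ((C.rootData r).2.2 * t) := by
  unfold rootData
  rw [dif_pos hr]
  exact (C.exists_root_data r hr).choose_spec

/-- The root elements of the Curtis–Tits group. -/
noncomputable def X (r : ℕ) (t : K) : D.CurtisTitsGroup K :=
  if r < D.nroots then
    nW D (xh D K) (C.rootData r).1 * xh D K (D.simple (C.rootData r).2.1) ((C.rootData r).2.2⁻¹ * t) *
      (nW D (xh D K) (C.rootData r).1)⁻¹
  else 1

theorem X_eq {r : ℕ} (hr : r < D.nroots) (t : K) : C.X r t =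
    nW D (xh D K) (C.rootData r).1 * xh D K (D.simple (C.rootData r).2.1) ((C.rootData r).2.2⁻¹ * t) *
      (nW D (xh D K) (C.rootData r).1)⁻¹ := by
  unfold X
  rw [if_pos hr]

theorem X_ge {r : ℕ} (hr : ¬ r < D.nroots) (t : K) : C.X r t = 1 := by
  unfold X
  rw [if_neg hr]

theorem xs_ge {r : ℕ} (hr : ¬ r < D.nroots) (t : K) : xs D K r t = 1 := by
  show PresentedGroup.mk _ (D.stX r t) = 1
  unfold ChevalleyDatum.stX
  rw [dif_neg hr, map_one]

theorem vis_simple {i : ℕ} (hi : i < D.rank) : Vis D (D.simple i) :=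
  vis_of_mem (C.simple_mem hi hi (Or.inl rfl))

theorem pi_X (r : ℕ) (t : K) : C.pi (C.X r t) = xs D K r t := by
  by_cases hr : r < D.nroots
  · obtain ⟨hw, hi, hwr, ha, hconj⟩ := C.rootData_spec hr
    rw [C.X_eq hr, map_mul, map_mul, map_inv, C.pi_nW _ hw, C.pi_xh (C.vis_simple hi), hconj,
      mul_inv_cancel_left₀ ha]
  · rw [C.X_ge hr, map_one, C.xs_ge hr]

/-! ### Conjugation by the elements `n̂_w` -/

/-- Two words that map fundamental roots to the same root give conjugate root subgroups. -/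
theorem conj_simple_aux {w w₀ : List ℕ} (hw : Valid D w) (hw₀ : Valid D w₀) {i i₀ : ℕ} (hi : i < D.rank)
    (hi₀ : i₀ < D.rank) (hwr : wordRefl D w (D.simple i) = wordRefl D w₀ (D.simple i₀)) :
    ∃ b : K, b ≠ 0 ∧ ∀ t : K, nW D (xh D K) w * xh D K (D.simple i) t * (nW D (xh D K) w)⁻¹ =
      nW D (xh D K) w₀ * xh D K (D.simple i₀) (b * t) * (nW D (xh D K) w₀)⁻¹ := by
  have hu : Valid D (w₀.reverse ++ w) := hw₀.reverse.append hw
  have hroot : wordRefl D (w₀.reverse ++ w) (D.simple i) = D.simple i₀ := by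
    rw [wordRefl_append, hwr]
    exact C.wordRefl_reverse w₀ hw₀ _ (C.simple_lt hi₀)
  obtain ⟨a, ha, h1, -⟩ := C.keyLemma' hu i hi i₀ hi₀ hroot
  have hh := C.nW_reverse_mul_mem_HB w₀ hw₀
  obtain ⟨c, hc, h3, -⟩ := C.moves_of_mem_HB (Subgroup.inv_mem _ hh) hi₀
  refine ⟨c * a, mul_ne_zero hc ha, fun t => ?_⟩
  have e : nW D (xh D K) w * xh D K (D.simple i) t * (nW D (xh D K) w)⁻¹ =
      nW D (xh D K) w₀ * ((nW D (xh D K) w₀.reverse * nW D (xh D K) w₀)⁻¹ *
        (nW D (xh D K) (w₀.reverse ++ w) * xh D K (D.simple i) t * (nW D (xh D K) (w₀.reverse ++ w))⁻¹) *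
        (nW D (xh D K) w₀.reverse * nW D (xh D K) w₀)⁻¹⁻¹) * (nW D (xh D K) w₀)⁻¹ := by
    rw [nW_append]
    group
  rw [e, h1, h3, mul_assoc c a t]

/-- `n̂_w` conjugates the root elements of the fundamental root `p_i` to those of the root `w p_i`. -/
theorem conj_simple {w : List ℕ} (hw : Valid D w) {i : ℕ} (hi : i < D.rank) :
    ∃ b : K, b ≠ 0 ∧ ∀ t : K, nW D (xh D K) w * xh D K (D.simple i) t * (nW D (xh D K) w)⁻¹ =
      C.X (wordRefl D w (D.simple i)) (b * t) := by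
  have hρ : wordRefl D w (D.simple i) < D.nroots := wordRefl_lt C.c w hw _ (C.simple_lt hi)
  obtain ⟨hw₀, hi₀, hwr, ha₀, -⟩ := C.rootData_spec hρ
  obtain ⟨b, hb, h⟩ := C.conj_simple_aux hw hw₀ hi hi₀ hwr.symm
  refine ⟨(C.rootData (wordRefl D w (D.simple i))).2.2 * b, mul_ne_zero ha₀ hb, fun t => ?_⟩
  rw [C.X_eq hρ, h, mul_assoc _ b t, inv_mul_cancel_left₀ ha₀]

/-- `n̂_w` conjugates the root elements of `-p_i` to those of the root `-w p_i`. -/
theorem conj_neg_simple {w : List ℕ} (hw : Valid D w) {i : ℕ} (hi : i < D.rank) :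
    ∃ b : K, b ≠ 0 ∧ ∀ t : K, nW D (xh D K) w * xh D K (D.neg (D.simple i)) t * (nW D (xh D K) w)⁻¹ =
      C.X (D.neg (wordRefl D w (D.simple i))) (b * t) := by
  obtain ⟨-, -, a, ha, h3, -⟩ := C.act2_nB_self hi 1 one_ne_zero _ (C.simple_mem hi hi (Or.inl rfl))
  have hrs : D.reflectRoot i (D.simple i) = D.neg (D.simple i) := reflectRoot_simple i
  rw [hrs] at h3
  obtain ⟨b, hb, h5⟩ := C.conj_simple (hw.append (valid_singleton hi)) hi
  have hroot : wordRefl D (w ++ [i]) (D.simple i) = D.neg (wordRefl D w (D.simple i)) := by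
    rw [wordRefl_append]
    show wordRefl D w (D.reflectRoot i (D.simple i)) = _
    rw [hrs, wordRefl_neg C.c w hw _ (C.simple_lt hi)]
  rw [hroot] at h5
  refine ⟨b * a⁻¹, mul_ne_zero hb (inv_ne_zero ha), fun t => ?_⟩
  have e : xh D K (D.neg (D.simple i)) t =
      nB D (xh D K) i 1 * xh D K (D.simple i) (a⁻¹ * t) * (nB D (xh D K) i 1)⁻¹ := by
    rw [h3, mul_inv_cancel_left₀ ha]
  have e2 : nW D (xh D K) w * (nB D (xh D K) i 1 * xh D K (D.simple i) (a⁻¹ * t) * (nB D (xh D K) i 1)⁻¹) *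
      (nW D (xh D K) w)⁻¹ = nW D (xh D K) (w ++ [i]) * xh D K (D.simple i) (a⁻¹ * t) *
        (nW D (xh D K) (w ++ [i]))⁻¹ := by
    rw [nW_append, nW_cons, nW_nil, mul_one]
    group
  rw [e, e2, h5, mul_assoc b]

/-- `n̂_w` conjugates the root elements of the root `ρ` to those of the root `w ρ`. -/
theorem conj_X {w : List ℕ} (hw : Valid D w) {ρ : ℕ} (hρ : ρ < D.nroots) :
    ∃ b : K, b ≠ 0 ∧ ∀ t : K, nW D (xh D K) w * C.X ρ t * (nW D (xh D K) w)⁻¹ =
      C.X (wordRefl D w ρ) (b * t) := by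
  obtain ⟨hw₀, hi₀, hwr, ha₀, -⟩ := C.rootData_spec hρ
  obtain ⟨b, hb, h1⟩ := C.conj_simple (hw.append hw₀) hi₀
  rw [wordRefl_append, hwr] at h1
  refine ⟨b * (C.rootData ρ).2.2⁻¹, mul_ne_zero hb (inv_ne_zero ha₀), fun t => ?_⟩
  have e2 : nW D (xh D K) w * (nW D (xh D K) (C.rootData ρ).1 *
      xh D K (D.simple (C.rootData ρ).2.1) ((C.rootData ρ).2.2⁻¹ * t) * (nW D (xh D K) (C.rootData ρ).1)⁻¹) *
      (nW D (xh D K) w)⁻¹ = nW D (xh D K) (w ++ (C.rootData ρ).1) *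
        xh D K (D.simple (C.rootData ρ).2.1) ((C.rootData ρ).2.2⁻¹ * t) *
        (nW D (xh D K) (w ++ (C.rootData ρ).1))⁻¹ := by
    rw [nW_append]
    group
  rw [C.X_eq hρ, e2, h1, mul_assoc b]

/-! ### The visible roots -/

/-- Every root of `Φ_ij` is the image of `p_i` or `p_j` under a word in `i, j`. -/
theorem exists_word_sub {i j r : ℕ} (hr : D.InRankTwoSub i j r) : ∃ (v : List ℕ) (k : ℕ),
    (∀ x ∈ v, x = i ∨ x = j) ∧ (k = i ∨ k = j) ∧ wordRefl D v (D.simple k) = r := by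
  have hpos : ∀ r, D.InRankTwoSub i j r → D.IsPosRoot r → ∃ (v : List ℕ) (k : ℕ),
      (∀ x ∈ v, x = i ∨ x = j) ∧ (k = i ∨ k = j) ∧ wordRefl D v (D.simple k) = r := by
    intro r hr hp
    rcases C.h2.spec hr hp with rfl | rfl | ⟨rfl, -⟩ | ⟨rfl, -⟩
    · exact ⟨[], i, by simp, Or.inl rfl, rfl⟩
    · exact ⟨[], j, by simp, Or.inr rfl, rfl⟩
    · exact ⟨[i], j, by simp, Or.inr rfl, rfl⟩
    · exact ⟨[j], i, by simp, Or.inl rfl, rfl⟩
  rcases C.ac.posOrNeg _ hr.1 with hp | hn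
  · exact hpos r hr hp
  · obtain ⟨v, k, hv, hk, hvr⟩ := hpos _ (C.neg_mem hr) (neg_isPos C.c C.tc C.ac r hn)
    have hkr : k < D.rank := by rcases hk with rfl | rfl; exact hr.2.1; exact hr.2.2.1
    have hvv : Valid D v := by
      intro x hx
      rcases hv x hx with rfl | rfl
      · exact hr.2.1
      · exact hr.2.2.1
    refine ⟨v ++ [k], k, ?_, hk, ?_⟩
    · intro x hx
      rcases List.mem_append.mp hx with hx | hx
      · exact hv x hx
      · rw [List.mem_singleton] at hx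
        rw [hx]
        exact hk
    · rw [wordRefl_append]
      show wordRefl D v (D.reflectRoot k (D.simple k)) = r
      rw [reflectRoot_simple, wordRefl_neg C.c v hvv _ (C.simple_lt hkr), hvr, neg_neg_root C.c C.tc C.ac r hr.1]

/-- On the visible roots the root elements are the generators. -/
theorem X_eq_xh {i j r : ℕ} (hr : D.InRankTwoSub i j r) (t : K) : C.X r t = xh D K r t := by
  obtain ⟨v, k, hv, hk, hvr⟩ := C.exists_word_sub hr
  have hi := hr.2.1
  have hj := hr.2.2.1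
  have hkr : k < D.rank := by rcases hk with rfl | rfl <;> assumption
  have hvv : Valid D v := by
    intro x hx
    rcases hv x hx with rfl | rfl <;> assumption
  obtain ⟨-, -, a, ha, h3, -⟩ := C.act2_nW hi hj v hv _ (C.simple_mem hi hj hk)
  obtain ⟨b, hb, h5⟩ := C.conj_simple hvv hkr
  rw [hvr] at h3 h5
  have hab : a = b := by
    have e := (h3 1).symm.trans (h5 1)
    have e' := congrArg C.pi e
    rw [C.pi_xh (vis_of_mem hr), C.pi_X] at e'
    have := C.xinj r hr.1 _ _ e'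
    rwa [mul_one, mul_one] at this
  subst hab
  have := (h5 (a⁻¹ * t)).symm.trans (h3 (a⁻¹ * t))
  rwa [mul_inv_cancel_left₀ ha] at this

/-! ### Additivity -/

theorem X_add {r : ℕ} (hr : r < D.nroots) (t u : K) : C.X r t * C.X r u = C.X r (t + u) := by
  obtain ⟨-, hi₀, -, -, -⟩ := C.rootData_spec hr
  rw [C.X_eq hr, C.X_eq hr, C.X_eq hr, mul_add, ← xh_add (C.vis_simple hi₀)]
  group

end Ctx

end Cfsg.Agent.Lib.Helper72_CT
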