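/-
Curtis–Tits, general form (helper72): Steinberg's relations for the root elements X_r(t) and the homomorphism from the Steinberg group.
(The file `Helper72_CT_Main.lean` with the Curtis–Tits group and the Steinberg group replaced by `Γ` and `T`.)
-/
import Mathlib
import Cfsg.Agent.Lib.Helper72_CTG_Roots
import Cfsg.Agent.Lib.Helper72_CT_Main

set_option autoImplicit false
set_option linter.unusedSectionVars false
set_option linter.unusedVariables false

namespace Cfsg.Agent.Lib.Helper72_CTG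

open Cfsg Cfsg.Lie Cfsg.Agent.Lib.Helper18_ChevFast Cfsg.Agent.Lib.Helper18_ChevEngine
  Cfsg.Agent.Lib.Helper18_ChevR1 Cfsg.Agent.Lib.Helper18_ChevN Cfsg.Agent.Lib.Helper18_ChevR4
  Cfsg.Agent.Lib.Helper18_ChevSimple Cfsg.Agent.Lib.Helper18_ChevSimple2 Cfsg.Agent.Lib.Helper18_ChevFacts
  Cfsg.Agent.Lib.Helper18_ChevWeyl Cfsg.Agent.Lib.Helper18_ChevDiag Cfsg.Agent.Lib.Helper18_ChevCar
  Cfsg.Agent.Lib.Helper18_ChevTorus Cfsg.Agent.Lib.Helper18_ChevGL Cfsg.Agent.Lib.Helper18_ChevComm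
  Cfsg.Agent.Lib.Helper18_ChevComm2 Cfsg.Agent.Lib.Helper18_MatTri Cfsg.Agent.Lib.Helper18_ChevTri
  Cfsg.Agent.Lib.Helper18_ChevBorel Cfsg.Agent.Lib.Helper18_ChevAdd Cfsg.Agent.Lib.Helper18_ChevUni
  Cfsg.Agent.Lib.Helper18_ChevBN Cfsg.Agent.Lib.Helper18_ChevMono Cfsg.Agent.Lib.Helper18_ChevBNPair
  Cfsg.Agent.Lib.Helper18_ChevLevi Cfsg.Agent.Lib.Helper18_ChevSimp Cfsg.Agent.Lib.Helper18_ChevBruhat
  Cfsg.Agent.Lib.Helper18_ChevJCerts Cfsg.Agent.Lib.Helper18_ChevAutA
  Cfsg.Agent.Lib.Helper81_StUniq Cfsg.Agent.Lib.Helper81_StAbs Cfsg.Agent.Lib.Helper81_StL37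
  Cfsg.Agent.Lib.Helper81_StBruhat Cfsg.Agent.Lib.Helper81_StMain Cfsg.Agent.Lib.Helper81_StTorus Cfsg.Agent.Lib.Helper81_StR3 Cfsg.Agent.Lib.Helper81_StEta

open Cfsg.Agent.Lib.Helper72_CT (Vis vis_iff VisCert Rank2Cert NJCert PartnerCert Joined inRankTwoSub_symm
  vis_of_mem Valid valid_singleton PairWord CommMem CommNil conj_wordP)

variable {D : ChevalleyDatum} {K : Type*} [Field K] {Γ : Type*} [Group Γ] {T : Type*} [Group T]

namespace GCtx

variable (C : GCtx D K Γ T)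

include C

/-! ### The commutator relations -/

/-- The commutator relation for `r, s`, if some element conjugates everything into the rank two subgroup of a
joined pair. -/
theorem comm_of_joined {j k : ℕ} (hjk : Joined D j k) (y : Γ) {r s : ℕ} (hr : r < D.nroots)
    (hs : s < D.nroots) (h1 : s ≠ r) (h2 : s ≠ D.neg r)
    (hyr : ∀ t : K, y * C.X r t * y⁻¹ ∈ G2 D C.xh j k) (hys : ∀ u : K, y * C.X s u * y⁻¹ ∈ G2 D C.xh j k)
    (hyc : ∀ c ∈ D.commTerms r s, ∀ a : K, y * C.X c.1 a * y⁻¹ ∈ G2 D C.xh j k) (t u : K) :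
    (C.X s u)⁻¹ * (C.X r t)⁻¹ * C.X s u * C.X r t = wordP C.X (D.commWord K r s t u) := by
  have key : y * ((C.X s u)⁻¹ * (C.X r t)⁻¹ * C.X s u * C.X r t) * y⁻¹ =
      y * wordP C.X (D.commWord K r s t u) * y⁻¹ := by
    apply C.transfer hjk
    · have e : y * ((C.X s u)⁻¹ * (C.X r t)⁻¹ * C.X s u * C.X r t) * y⁻¹ =
          (y * C.X s u * y⁻¹)⁻¹ * (y * C.X r t * y⁻¹)⁻¹ * (y * C.X s u * y⁻¹) * (y * C.X r t * y⁻¹) := by group
      rw [e]
      exact Subgroup.mul_mem _ (Subgroup.mul_mem _ (Subgroup.mul_mem _ (Subgroup.inv_mem _ (hys u))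
        (Subgroup.inv_mem _ (hyr t))) (hys u)) (hyr t)
    · rw [conj_wordP]
      apply wordP_mem
      intro p hp
      unfold ChevalleyDatum.commWord at hp
      obtain ⟨c, hc, rfl⟩ := List.mem_map.mp hp
      exact hyc c hc _
    · have hfun : (fun r t => C.pi (C.X r t)) = C.xs := funext fun r => funext fun t => C.pi_X r t
      rw [map_mul, map_mul, map_mul, map_mul, map_mul, map_inv, map_inv, C.pi_X, C.pi_X, map_mul, map_mul,
        map_wordP, hfun, C.stGrp.comm r s hr hs h1 h2]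
  exact mul_left_cancel (mul_right_cancel key)

/-- The commutator relation for `r, s`, if some element conjugates `X_r` to `x̂_{±p_j}` and `X_s` to `x̂_{±p_k}`
for a pair `j, k` that is not joined. -/
theorem comm_nj_aux (hcn : CommNil D) {j k : ℕ} (hj : j < D.rank) (hk : k < D.rank) (hjk : j ≠ k)
    (h0 : D.cartan j (D.simple k) = 0) (y : Γ) {σ : ℕ → ℕ} (hσ : LinMap D σ) {r s : ℕ}
    (hr : r < D.nroots) (hs : s < D.nroots)
    (hσr : σ r = D.simple j ∨ σ r = D.neg (D.simple j)) (hσs : σ s = D.simple k ∨ σ s = D.neg (D.simple k))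
    (hyr : ∀ t : K, ∃ t' : K, y * C.X r t * y⁻¹ = C.xh (σ r) t')
    (hys : ∀ u : K, ∃ u' : K, y * C.X s u * y⁻¹ = C.xh (σ s) u') (t u : K) :
    (C.X s u)⁻¹ * (C.X r t)⁻¹ * C.X s u * C.X r t = wordP C.X (D.commWord K r s t u) := by
  have hnil := hcn hσ hj hk hjk h0 hr hs hσr hσs
  obtain ⟨-, -, h3⟩ := C.hnj.spec hj hk hjk h0
  obtain ⟨-, h4⟩ := h3 (σ r) hσr
  obtain ⟨a1, a2, -, a4⟩ := h4 (σ s) hσs
  have hrm : D.InRankTwoSub j k (σ r) := by
    rcases hσr with h | h <;> rw [h]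
    · exact C.simple_mem hj hk (Or.inl rfl)
    · exact C.neg_mem (C.simple_mem hj hk (Or.inl rfl))
  have hsm : D.InRankTwoSub j k (σ s) := by
    rcases hσs with h | h <;> rw [h]
    · exact C.simple_mem hj hk (Or.inr rfl)
    · exact C.neg_mem (C.simple_mem hj hk (Or.inr rfl))
  obtain ⟨t', ht'⟩ := hyr t
  obtain ⟨u', hu'⟩ := hys u
  have hc := C.commute_of_nil hrm hsm a1 a2 a4 t' u'
  have hc' : C.X s u * C.X r t = C.X r t * C.X s u := by
    have e : y * (C.X s u * C.X r t) * y⁻¹ = y * (C.X r t * C.X s u) * y⁻¹ := by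
      have e1 : y * (C.X s u * C.X r t) * y⁻¹ = (y * C.X s u * y⁻¹) * (y * C.X r t * y⁻¹) := by group
      have e2 : y * (C.X r t * C.X s u) * y⁻¹ = (y * C.X r t * y⁻¹) * (y * C.X s u * y⁻¹) := by group
      rw [e1, e2, ht', hu', hc]
    exact mul_left_cancel (mul_right_cancel e)
  unfold ChevalleyDatum.commWord
  rw [hnil, List.map_nil, wordP_nil]
  have e3 : (C.X s u)⁻¹ * (C.X r t)⁻¹ * C.X s u * C.X r t =
      (C.X s u)⁻¹ * (C.X r t)⁻¹ * (C.X s u * C.X r t) := by group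
  rw [e3, hc']
  group

/-- Two roots in `{±p}` are equal or opposite. -/
theorem eq_or_neg_of_pm {j ρ ρ' : ℕ} (hj : j < D.rank) (h : ρ = D.simple j ∨ ρ = D.neg (D.simple j))
    (h' : ρ' = D.simple j ∨ ρ' = D.neg (D.simple j)) : ρ' = ρ ∨ ρ' = D.neg ρ := by
  have hnn := neg_neg_root C.c C.tc C.ac _ (C.simple_lt hj)
  rcases h with rfl | rfl <;> rcases h' with rfl | rfl
  · exact Or.inl rfl
  · exact Or.inr rfl
  · exact Or.inr hnn.symm
  · exact Or.inl rfl

/-- The commutator relation for `r, s`, if `n̂_z` conjugates both into `Φ_jk`. -/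
theorem comm_core (hcm : CommMem D) (hcn : CommNil D) {z : List ℕ} (hz : Valid D z) {r s j k : ℕ}
    (hr : r < D.nroots) (hs : s < D.nroots) (h1 : s ≠ r) (h2 : s ≠ D.neg r)
    (hmr : D.InRankTwoSub j k (wordRefl D z r)) (hms : D.InRankTwoSub j k (wordRefl D z s))
    (hne1 : wordRefl D z s ≠ wordRefl D z r) (hne2 : wordRefl D z s ≠ D.neg (wordRefl D z r)) (t u : K) :
    (C.X s u)⁻¹ * (C.X r t)⁻¹ * C.X s u * C.X r t = wordP C.X (D.commWord K r s t u) := by
  have hσ := linMap_wordRefl C.c z hz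
  have hj := hmr.2.1
  have hk := hmr.2.2.1
  have hconj : ∀ ρ, ρ < D.nroots → ∀ j' k', D.InRankTwoSub j' k' (wordRefl D z ρ) → ∀ a : K, ∃ a' : K,
      nW D C.xh z * C.X ρ a * (nW D C.xh z)⁻¹ = C.xh (wordRefl D z ρ) a' := by
    intro ρ hρ j' k' hm a
    obtain ⟨b, hb, h⟩ := C.conj_X hz hρ
    exact ⟨b * a, by rw [h, C.X_eq_xh hm]⟩
  have hjoined : ∀ j' k', Joined D j' k' → D.InRankTwoSub j' k' (wordRefl D z r) →
      D.InRankTwoSub j' k' (wordRefl D z s) →
      (C.X s u)⁻¹ * (C.X r t)⁻¹ * C.X s u * C.X r t = wordP C.X (D.commWord K r s t u) := by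
    intro j' k' hJ hmr' hms'
    apply C.comm_of_joined hJ (nW D C.xh z) hr hs h1 h2
    · intro a
      obtain ⟨a', e⟩ := hconj r hr j' k' hmr' a
      rw [e]
      exact xh_mem_G2 hmr' _
    · intro a
      obtain ⟨a', e⟩ := hconj s hs j' k' hms' a
      rw [e]
      exact xh_mem_G2 hms' _
    · intro c hc a
      by_cases hlt : c.1 < D.nroots
      · have hmc := hcm hσ hr hs hmr' hms' hc
        obtain ⟨a', e⟩ := hconj c.1 hlt j' k' hmc a
        rw [e]
        exact xh_mem_G2 hmc _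
      · rw [C.X_ge hlt, mul_one, mul_inv_cancel]
        exact Subgroup.one_mem _
  by_cases hjk : j = k
  · subst hjk
    obtain ⟨j', hj', hjj', hc⟩ := C.hpart j hj
    exact hjoined j j' ⟨hj, hj', hjj', hc⟩ (C.sub_self_le hj' hmr) (C.sub_self_le hj' hms)
  · by_cases h0 : D.cartan j (D.simple k) = 0
    · obtain ⟨h0', hcls, -⟩ := C.hnj.spec hj hk hjk h0
      have hyr := fun a => hconj r hr j k hmr a
      have hys := fun a => hconj s hs j k hms a
      have hr4 := hcls _ hmr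
      have hs4 := hcls _ hms
      have hr2 : (wordRefl D z r = D.simple j ∨ wordRefl D z r = D.neg (D.simple j)) ∨
          (wordRefl D z r = D.simple k ∨ wordRefl D z r = D.neg (D.simple k)) := by
        rcases hr4 with h | h | h | h
        · exact Or.inl (Or.inl h)
        · exact Or.inl (Or.inr h)
        · exact Or.inr (Or.inl h)
        · exact Or.inr (Or.inr h)
      have hs2 : (wordRefl D z s = D.simple j ∨ wordRefl D z s = D.neg (D.simple j)) ∨
          (wordRefl D z s = D.simple k ∨ wordRefl D z s = D.neg (D.simple k)) := by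
        rcases hs4 with h | h | h | h
        · exact Or.inl (Or.inl h)
        · exact Or.inl (Or.inr h)
        · exact Or.inr (Or.inl h)
        · exact Or.inr (Or.inr h)
      rcases hr2 with hrj | hrk
      · rcases hs2 with hsj | hsk
        · exfalso
          rcases C.eq_or_neg_of_pm hj hrj hsj with h | h
          · exact hne1 h
          · exact hne2 h
        · exact C.comm_nj_aux hcn hj hk hjk h0 _ hσ hr hs hrj hsk hyr hys t u
      · rcases hs2 with hsj | hsk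
        · exact C.comm_nj_aux hcn hk hj (Ne.symm hjk) h0' _ hσ hr hs hrk hsj hyr hys t u
        · exfalso
          rcases C.eq_or_neg_of_pm hk hrk hsk with h | h
          · exact hne1 h
          · exact hne2 h
    · exact hjoined j k ⟨hj, hk, hjk, h0⟩ hmr hms

/-- The commutator relations. -/
theorem X_comm (hpw : PairWord D) (hcm : CommMem D) (hcn : CommNil D) {r s : ℕ} (hr : r < D.nroots)
    (hs : s < D.nroots) (h1 : s ≠ r) (h2 : s ≠ D.neg r) (t u : K) :
    (C.X s u)⁻¹ * (C.X r t)⁻¹ * C.X s u * C.X r t = wordP C.X (D.commWord K r s t u) := by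
  obtain ⟨w₀, i₀, hw₀, hi₀, hwr⟩ := C.exists_root_word r hr
  have hs' : wordRefl D w₀.reverse s < D.nroots := wordRefl_lt C.c _ hw₀.reverse s hs
  have hback := C.wordRefl_reverse' hw₀ hs
  have hs'1 : wordRefl D w₀.reverse s ≠ D.simple i₀ := by
    intro h
    apply h1
    rw [← hback, h, hwr]
  have hs'2 : wordRefl D w₀.reverse s ≠ D.neg (D.simple i₀) := by
    intro h
    apply h2
    rw [← hback, h, wordRefl_neg C.c w₀ hw₀ _ (C.simple_lt hi₀), hwr]
  obtain ⟨v, j, k, hv, hvr, hvs⟩ := hpw i₀ hi₀ _ hs' hs'1 hs'2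
  have hz : Valid D (v ++ w₀.reverse) := Valid.append hv hw₀.reverse
  have hσr : wordRefl D (v ++ w₀.reverse) r = wordRefl D v (D.simple i₀) := by
    rw [wordRefl_append, ← hwr, C.wordRefl_reverse w₀ hw₀ _ (C.simple_lt hi₀)]
  have hσs : wordRefl D (v ++ w₀.reverse) s = wordRefl D v (wordRefl D w₀.reverse s) := wordRefl_append _ _ _
  have hmr : D.InRankTwoSub j k (wordRefl D (v ++ w₀.reverse) r) := by
    rw [hσr]
    exact hvr
  have hms : D.InRankTwoSub j k (wordRefl D (v ++ w₀.reverse) s) := by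
    rw [hσs]
    exact hvs
  have hne1 : wordRefl D (v ++ w₀.reverse) s ≠ wordRefl D (v ++ w₀.reverse) r :=
    fun h => h1 (C.wordRefl_inj hz hs hr h)
  have hne2 : wordRefl D (v ++ w₀.reverse) s ≠ D.neg (wordRefl D (v ++ w₀.reverse) r) := by
    rw [← wordRefl_neg C.c _ hz r hr]
    exact fun h => h2 (C.wordRefl_inj hz hs (C.neg_lt hr) h)
  exact C.comm_core hcm hcn hz hr hs h1 h2 hmr hms hne1 hne2 t u

/-! ### Steinberg's relations and the inverse homomorphism -/

theorem stGrp_X (hpw : PairWord D) (hcm : CommMem D) (hcn : CommNil D) : StGrp D C.X where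
  add := fun r hr t u => C.X_add hr t u
  comm := fun r s hr hs h1 h2 t u => C.X_comm hpw hcm hcn hr hs h1 h2 t u

theorem isLift_X : IsLift C.c C.X (C.gl.comp C.pi) := by
  intro r hr t
  rw [MonoidHom.comp_apply, C.pi_X]
  exact C.isLift r hr t

theorem exists_inverse [Finite K] (ec : EtaCert D C.Ns) (hpw : PairWord D) (hcm : CommMem D) (hcn : CommNil D) :
    ∃ ρ : D.SteinbergGroup K →* Γ, ∀ r t, ρ (D.stGen K r t) = C.X r t := by
  have hX := C.stGrp_X hpw hcm hcn
  have hR3 := r3_all C.c C.tc C.ac C.hA C.hB hX C.isLift_X ec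
  obtain ⟨φ, hφ, -⟩ := Cfsg.Agent.Lib.Helper18_StLift.exists_hom D C.X (fun r t hr => C.X_ge hr t)
    (fun r t₁ t₂ hr => hX.add r hr t₁ t₂) (fun r s t u hr hs h1 h2 => hX.comm r s hr hs h1 h2 t u)
    (fun r t₁ t₂ hr h₁ h₂ => hR3 r hr t₁ t₂ h₁ h₂)
  exact ⟨φ, hφ⟩

end GCtx

end Cfsg.Agent.Lib.Helper72_CTG
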