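/-
Curtis–Tits (helper72): the Curtis–Tits theorem for the data of type D4, F4, E6, E7, E8, relative to the outputs of
the packages (injectivity on the rank two subgroups, uniqueness of the root maps, the terminal lemma, the pair words
and the linearity of the commutator formula).
-/
import Mathlib
import Cfsg.Agent.Lib.Helper72_CT_Main
import Cfsg.Agent.Lib.Helper81_StEta
import Cfsg.Agent.Lib.Helper81_StCerts

set_option autoImplicit false
set_option linter.unusedSectionVars false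
set_option linter.unusedVariables false

namespace Cfsg.Agent.Lib.Helper72_CT

open Cfsg Cfsg.Lie Cfsg.Agent.Lib.Helper18_ChevFast Cfsg.Agent.Lib.Helper18_ChevEngine
  Cfsg.Agent.Lib.Helper18_ChevR1 Cfsg.Agent.Lib.Helper18_ChevN Cfsg.Agent.Lib.Helper18_ChevR4
  Cfsg.Agent.Lib.Helper18_ChevSimple Cfsg.Agent.Lib.Helper18_ChevSimple2 Cfsg.Agent.Lib.Helper18_ChevFacts
  Cfsg.Agent.Lib.Helper18_ChevWeyl Cfsg.Agent.Lib.Helper18_ChevDiag Cfsg.Agent.Lib.Helper18_ChevCar
  Cfsg.Agent.Lib.Helper18_ChevTorus Cfsg.Agent.Lib.Helper18_ChevGL Cfsg.Agent.Lib.Helper18_ChevComm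
  Cfsg.Agent.Lib.Helper18_ChevComm2 Cfsg.Agent.Lib.Helper18_MatTri Cfsg.Agent.Lib.Helper18_ChevTri
  Cfsg.Agent.Lib.Helper18_ChevBorel Cfsg.Agent.Lib.Helper18_ChevAdd Cfsg.Agent.Lib.Helper18_ChevUni
  Cfsg.Agent.Lib.Helper18_ChevBN Cfsg.Agent.Lib.Helper18_ChevMono Cfsg.Agent.Lib.Helper18_ChevBNPair
  Cfsg.Agent.Lib.Helper18_ChevLevi Cfsg.Agent.Lib.Helper18_ChevSimp Cfsg.Agent.Lib.Helper18_ChevBruhat
  Cfsg.Agent.Lib.Helper18_ChevJCerts Cfsg.Agent.Lib.Helper18_ChevAutA
  Cfsg.Agent.Lib.Helper81_StUniq Cfsg.Agent.Lib.Helper81_StAbs Cfsg.Agent.Lib.Helper81_StL37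
  Cfsg.Agent.Lib.Helper81_StBruhat Cfsg.Agent.Lib.Helper81_StMain Cfsg.Agent.Lib.Helper81_StTorus
  Cfsg.Agent.Lib.Helper81_StR3 Cfsg.Agent.Lib.Helper81_StEta Cfsg.Agent.Lib.Helper81_StCerts

/-! ### The joined pairs -/

/-- The joined pairs of the simply laced data have Cartan numbers `-1, -1`. -/
def JoinedSL (D : ChevalleyDatum) : Prop :=
  ∀ i < D.rank, ∀ j < D.rank, i ≠ j → D.cartan i (D.simple j) ≠ 0 →
    D.cartan i (D.simple j) = -1 ∧ D.cartan j (D.simple i) = -1

instance (D : ChevalleyDatum) : Decidable (JoinedSL D) := by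
  unfold JoinedSL
  infer_instance

theorem joinedSL_D4 : JoinedSL chevD4 := by decide +kernel
theorem joinedSL_E6 : JoinedSL chevE6 := by decide +kernel
theorem joinedSL_E7 : JoinedSL chevE7 := by decide +kernel
theorem joinedSL_E8 : JoinedSL chevE8 := by decide +kernel

/-- The joined pairs of `F4`: Cartan numbers `-1, -1`, or the pair `1, 2`. -/
def JoinedF4 (i j : ℕ) : Prop := i ≠ j → chevF4.cartan i (chevF4.simple j) ≠ 0 →
    (chevF4.cartan i (chevF4.simple j) = -1 ∧ chevF4.cartan j (chevF4.simple i) = -1) ∨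
      (i = 1 ∧ j = 2) ∨ (i = 2 ∧ j = 1)

instance (i j : ℕ) : Decidable (JoinedF4 i j) := by
  unfold JoinedF4
  infer_instance

theorem joined_F4 : ∀ i < chevF4.rank, ∀ j < chevF4.rank, JoinedF4 i j := by decide +kernel

/-- The injectivity on the rank two subgroups of all joined pairs, from the two packages. -/
theorem inj_of_packages (D : ChevalleyDatum) (hD : D ∈ [chevD4, chevF4, chevE6, chevE7, chevE8])
    (K : Type*) [Field K]
    (hA : ∀ i j, i < D.rank → j < D.rank → D.cartan i (D.simple j) = -1 → D.cartan j (D.simple i) = -1 →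
      InjOn2 (visCert_of_mem D hD) K i j)
    (hB : D = chevF4 → InjOn2 (visCert_of_mem D hD) K 1 2) :
    ∀ i j, Joined D i j → InjOn2 (visCert_of_mem D hD) K i j := by
  intro i j ⟨hi, hj, hij, hc⟩
  have hsl : JoinedSL D → InjOn2 (visCert_of_mem D hD) K i j := by
    intro h
    obtain ⟨h1, h2⟩ := h i hi j hj hij hc
    exact hA i j hi hj h1 h2
  have hD' := hD
  simp only [List.mem_cons, List.not_mem_nil, or_false] at hD'
  rcases hD' with rfl | rfl | rfl | rfl | rfl
  · exact hsl joinedSL_D4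
  · rcases joined_F4 i hi j hj hij hc with ⟨h1, h2⟩ | ⟨rfl, rfl⟩ | ⟨rfl, rfl⟩
    · exact hA i j hi hj h1 h2
    · exact hB rfl
    · have := hB rfl
      unfold InjOn2 at this ⊢
      rw [G2_symm]
      exact this
  · exact hsl joinedSL_E6
  · exact hsl joinedSL_E7
  · exact hsl joinedSL_E8

theorem mem7_of_mem5 {D : ChevalleyDatum} (hD : D ∈ [chevD4, chevF4, chevE6, chevE7, chevE8]) :
    D ∈ [chevG2, chevB2, chevD4, chevF4, chevE6, chevE7, chevE8] := by
  simp only [List.mem_cons, List.not_mem_nil, or_false] at hD ⊢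
  rcases hD with h | h | h | h | h
  · exact Or.inr (Or.inr (Or.inl h))
  · exact Or.inr (Or.inr (Or.inr (Or.inl h)))
  · exact Or.inr (Or.inr (Or.inr (Or.inr (Or.inl h))))
  · exact Or.inr (Or.inr (Or.inr (Or.inr (Or.inr (Or.inl h)))))
  · exact Or.inr (Or.inr (Or.inr (Or.inr (Or.inr (Or.inr h)))))

/-- The Curtis–Tits theorem, relative to the outputs of the packages. -/
theorem curtisTits_of_packages (D : ChevalleyDatum) (hD : D ∈ [chevD4, chevF4, chevE6, chevE7, chevE8])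
    (K : Type*) [Field K] [Finite K]
    (hinj : ∀ i j, Joined D i j → InjOn2 (visCert_of_mem D hD) K i j)
    (huniq : ∀ {y : D.SteinbergGroup K} {σ σ' : ℕ → ℕ}, MonoAct D (xs D K) y σ → MonoAct D (xs D K) y σ' →
      ∀ r < D.nroots, σ r = σ' r)
    (hxinj : ∀ r < D.nroots, ∀ t u : K, xs D K r t = xs D K r u → t = u)
    (hterm : ∀ {σ : ℕ → ℕ}, LinMap D σ → ∀ {i k i' : ℕ}, i < D.rank → k < D.rank → i ≠ k → i' < D.rank →
      D.IsPosRoot (σ (D.simple i)) → D.IsPosRoot (σ (D.simple k)) →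
      ∀ {ρ : ℕ}, D.InRankTwoSub i k ρ → σ ρ = D.simple i' → ρ = D.simple i ∨ ρ = D.simple k)
    (hpw : PairWord D) (hcm : CommMem D) (hcn : CommNil D) :
    ∃ e : D.CurtisTitsGroup K ≃* D.SteinbergGroup K, ∀ (i j r : ℕ) (t : K), D.InRankTwoSub i j r →
      e (PresentedGroup.mk (D.curtisTitsRels K) (D.stX r t)) = D.stGen K r t := by
  have hD7 := mem7_of_mem5 hD
  obtain ⟨Ns, w, d, Ts, hT, Kc, base, stepT, wl, ws, sc, c, tc, gc, pc, ac, ec⟩ := exists_cert6 D hD7
  obtain ⟨hA, bs, hB⟩ := exists_certAB D hD7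
  let C : Ctx D K :=
    { Ns := Ns, wl := wl, ws := ws, sc := sc, w := w, d := d, bs := bs, c := c, tc := tc, ac := ac, gc := gc,
      hA := hA, hB := hB, hdesc := descent_all D hD7, hvis := visCert_of_mem D hD,
      h2 := rank2Cert_of_mem D hD, hnj := njCert_of_mem D hD, hpart := partnerCert_of_mem D hD,
      hR2 := r2All_of_mem D hD7, inj := hinj, uniq := huniq, xinj := hxinj, term := hterm }
  exact C.exists_equiv ec hpw hcm hcn

end Cfsg.Agent.Lib.Helper72_CT
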