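/-
Curtis–Tits, recognition form (helper72): the group presented by the generators `x̂_r(t)`, `r` a visible root, subject
to ALL the relations between the root elements of each rank two subsystem `Φ_ij` that hold in the Chevalley group, is
a homomorphic image of the Steinberg group (generator to generator).
-/
import Mathlib
import Cfsg.Agent.Lib.Helper72_CTG_Main
import Cfsg.Agent.Lib.Helper72_CT_Final
import Cfsg.Agent.Lib.Helper18_ChevRootHom
import Cfsg.Agent.Lib.Helper18_ChevCent

set_option autoImplicit false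
set_option linter.unusedSectionVars false
set_option linter.unusedVariables false

namespace Cfsg.Agent.Lib.Helper72_CTG

open Cfsg Cfsg.Lie Cfsg.Agent.Lib.Helper18_ChevFast Cfsg.Agent.Lib.Helper18_ChevEngine
  Cfsg.Agent.Lib.Helper18_ChevR1 Cfsg.Agent.Lib.Helper18_ChevN Cfsg.Agent.Lib.Helper18_ChevR4
  Cfsg.Agent.Lib.Helper18_ChevSimple Cfsg.Agent.Lib.Helper18_ChevSimple2 Cfsg.Agent.Lib.Helper18_ChevFacts
  Cfsg.Agent.Lib.Helper18_ChevWeyl Cfsg.Agent.Lib.Helper18_ChevDiag Cfsg.Agent.Lib.Helper18_ChevCar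
  Cfsg.Agent.Lib.Helper18_ChevTorus Cfsg.Agent.Lib.Helper18_ChevGL Cfsg.Agent.Lib.Helper18_ChevComm
  Cfsg.Agent.Lib.Helper18_ChevComm2 Cfsg.Agent.Lib.Helper18_MatTri Cfsg.Agent.Lib.Helper18_ChevTri
  Cfsg.Agent.Lib.Helper18_ChevBorel Cfsg.Agent.Lib.Helper18_ChevAdd Cfsg.Agent.Lib.Helper18_ChevUni
  Cfsg.Agent.Lib.Helper18_ChevBN Cfsg.Agent.Lib.Helper18_ChevMono Cfsg.Agent.Lib.Helper18_ChevBNPair
  Cfsg.Agent.Lib.Helper18_ChevLevi Cfsg.Agent.Lib.Helper18_ChevSimp Cfsg.Agent.Lib.Helper18_ChevBruhat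
  Cfsg.Agent.Lib.Helper18_ChevJCerts Cfsg.Agent.Lib.Helper18_ChevAutA Cfsg.Agent.Lib.Helper18_ChevCent
  Cfsg.Agent.Lib.Helper18_ChevRootHom
  Cfsg.Agent.Lib.Helper81_StUniq Cfsg.Agent.Lib.Helper81_StAbs Cfsg.Agent.Lib.Helper81_StL37
  Cfsg.Agent.Lib.Helper81_StBruhat Cfsg.Agent.Lib.Helper81_StMain Cfsg.Agent.Lib.Helper81_StTorus
  Cfsg.Agent.Lib.Helper81_StR3 Cfsg.Agent.Lib.Helper81_StEta Cfsg.Agent.Lib.Helper81_StCerts

open Cfsg.Agent.Lib.Helper72_CT (Vis vis_iff VisCert Rank2Cert NJCert PartnerCert Joined inRankTwoSub_symm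
  vis_of_mem Valid valid_singleton PairWord CommMem CommNil)

variable {D : ChevalleyDatum} {Ns : List NData} {F : Type*} [Field F]

/-! ### The root elements of the general linear group satisfy Steinberg's relations -/

theorem wordP_xGL (c : DCert D Ns) (w : List (ℕ × F)) : wordP (xGL c) w = wordGL c w := rfl

theorem stGrp_xGL (c : DCert D Ns) (hR2 : R2All D F) : StGrp D (xGL c (F := F)) where
  add := fun r _ t u => xGL_mul c r t u
  comm := by
    intro r s hr hs h1 h2 t u
    have h := conj_of_R2 c (hR2 r s hr hs h1 h2) t u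
    have e : (xGL c s u)⁻¹ * (xGL c r t)⁻¹ * xGL c s u * xGL c r t =
        (xGL c s u)⁻¹ * ((xGL c r t)⁻¹ * xGL c s u * xGL c r t) := by group
    rw [e, h, wordP_xGL, inv_mul_cancel_left]

theorem monoAct_xGL_unique (c : DCert D Ns) (tc : TCert D) {wl : List ℤ} {ws : List (List ℤ)} {sc : ℤ}
    (ac : ACert D wl ws sc) {y : GL D.Idx F} {σ σ' : ℕ → ℕ} (h : MonoAct D (xGL c) y σ)
    (h' : MonoAct D (xGL c) y σ') : ∀ r < D.nroots, σ r = σ' r := by
  intro r hr
  obtain ⟨h1, -, a, ha, e, -⟩ := h r hr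
  obtain ⟨h1', -, a', ha', e', -⟩ := h' r hr
  have h2 := (e 1).symm.trans (e' 1)
  have h4 := congrArg (fun g : GL D.Idx F => (g : Matrix D.Idx D.Idx F)) h2
  simp only [xGL_coe] at h4
  exact (root_eq_of_x_eq c tc ac (σ r) (σ' r) h1 h1' (a * 1) (a' * 1) (by rwa [mul_one]) h4).symm

theorem xGL_inj (c : DCert D Ns) (tc : TCert D) {wl : List ℤ} {ws : List (List ℤ)} {sc : ℤ}
    (ac : ACert D wl ws sc) : ∀ r < D.nroots, ∀ t u : F, xGL c r t = xGL c r u → t = u := by
  intro r hr t u h
  have h2 := congrArg (fun g : GL D.Idx F => (g : Matrix D.Idx D.Idx F)) h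
  simp only [xGL_coe] at h2
  exact xGL_param_inj c tc ac r hr t u h2

/-! ### The presented group -/

/-- A word in the root elements of `Φ_ij`. -/
def WordIn (D : ChevalleyDatum) (i j : ℕ) (w : List (ℕ × F)) : Prop := ∀ p ∈ w, D.InRankTwoSub i j p.1

theorem wordIn_nil (i j : ℕ) : WordIn D i j ([] : List (ℕ × F)) := fun p hp => by simp at hp

theorem WordIn.append {i j : ℕ} {w w' : List (ℕ × F)} (h : WordIn D i j w) (h' : WordIn D i j w') :
    WordIn D i j (w ++ w') := by
  intro p hp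
  rcases List.mem_append.mp hp with h1 | h1
  · exact h p h1
  · exact h' p h1

/-- The relators: the invisible generators, and all the relations between the root elements of a rank two
subsystem that hold in the general linear group. -/
def relsG (c : DCert D Ns) (F : Type*) [Field F] : Set (FreeGroup (Fin D.nroots × F)) :=
  {g | ∃ (r : ℕ) (t : F), r < D.nroots ∧ ¬ Vis D r ∧ g = D.stX r t} ∪
  {g | ∃ (i j : ℕ) (w₁ w₂ : List (ℕ × F)), WordIn D i j w₁ ∧ WordIn D i j w₂ ∧ wordGL c w₁ = wordGL c w₂ ∧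
    g = D.stWord w₁ * (D.stWord w₂)⁻¹}

/-- The generators of the presented group. -/
abbrev xg (c : DCert D Ns) (F : Type*) [Field F] (r : ℕ) (t : F) : PresentedGroup (relsG c F) :=
  pGen D (relsG c F) r t

theorem xg_eq_one (c : DCert D Ns) {r : ℕ} (hr : ¬ Vis D r) (t : F) : xg c F r t = 1 := by
  by_cases hlt : r < D.nroots
  · have h : D.stX r t ∈ relsG c F := Or.inl ⟨r, t, hlt, hr, rfl⟩
    exact PresentedGroup.one_of_mem h
  · show PresentedGroup.mk _ (D.stX r t) = 1
    unfold ChevalleyDatum.stX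
    rw [dif_neg hlt, map_one]

/-- The relations of the general linear group between the root elements of a rank two subsystem. -/
theorem xg_word_eq (c : DCert D Ns) {i j : ℕ} {w₁ w₂ : List (ℕ × F)} (h₁ : WordIn D i j w₁) (h₂ : WordIn D i j w₂)
    (h : wordGL c w₁ = wordGL c w₂) : wordP (xg c F) w₁ = wordP (xg c F) w₂ := by
  have hm : D.stWord w₁ * (D.stWord w₂)⁻¹ ∈ relsG c F := Or.inr ⟨i, j, w₁, w₂, h₁, h₂, h, rfl⟩
  have := PresentedGroup.one_of_mem hm
  rw [map_mul, map_inv, mul_inv_eq_one, mk_stWord, mk_stWord] at this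
  exact this

/-- The images of the free generators in the general linear group. -/
def genG (c : DCert D Ns) (F : Type*) [Field F] (p : Fin D.nroots × F) : GL D.Idx F :=
  if Vis D p.1 then xGL c p.1 p.2 else 1

theorem lift_genG_stX (c : DCert D Ns) (r : ℕ) (t : F) :
    FreeGroup.lift (genG c F) (D.stX r t) = if Vis D r then xGL c r t else 1 := by
  unfold ChevalleyDatum.stX
  by_cases hr : r < D.nroots
  · rw [dif_pos hr, FreeGroup.lift_apply_of]
    rfl
  · rw [dif_neg hr, map_one]
    have : ¬ Vis D r := fun h => hr h.lt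
    rw [if_neg this]

theorem lift_genG_stWord (c : DCert D Ns) (w : List (ℕ × F)) (hw : ∀ p ∈ w, Vis D p.1) :
    FreeGroup.lift (genG c F) (D.stWord w) = wordGL c w := by
  unfold ChevalleyDatum.stWord wordGL
  rw [map_list_prod, List.map_map]
  congr 1
  apply List.map_congr_left
  intro p hp
  show FreeGroup.lift (genG c F) (D.stX p.1 p.2) = _
  rw [lift_genG_stX, if_pos (hw p hp)]

theorem relsG_lift (c : DCert D Ns) : ∀ g ∈ relsG c F, FreeGroup.lift (genG c F) g = 1 := by
  rintro g (⟨r, t, hr, hnv, rfl⟩ | ⟨i, j, w₁, w₂, h₁, h₂, h, rfl⟩)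
  · rw [lift_genG_stX, if_neg hnv]
  · rw [map_mul, map_inv, lift_genG_stWord c w₁ (fun p hp => vis_of_mem (h₁ p hp)),
      lift_genG_stWord c w₂ (fun p hp => vis_of_mem (h₂ p hp)), h, mul_inv_cancel]

/-- The homomorphism to the general linear group. -/
def piG (c : DCert D Ns) (F : Type*) [Field F] : PresentedGroup (relsG c F) →* GL D.Idx F :=
  PresentedGroup.toGroup (relsG_lift c)

theorem piG_mk (c : DCert D Ns) (x : FreeGroup (Fin D.nroots × F)) :
    piG c F (PresentedGroup.mk (relsG c F) x) = FreeGroup.lift (genG c F) x := by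
  induction x using FreeGroup.induction_on with
  | C1 => rw [map_one, map_one, map_one]
  | of x =>
    rw [FreeGroup.lift_apply_of]
    exact PresentedGroup.toGroup.of (relsG_lift c)
  | inv_of x ih => rw [map_inv, map_inv, map_inv, ih]
  | mul x y ihx ihy => rw [map_mul, map_mul, map_mul, ihx, ihy]

theorem piG_xg (c : DCert D Ns) {r : ℕ} (hr : Vis D r) (t : F) : piG c F (xg c F r t) = xGL c r t := by
  show piG c F (PresentedGroup.mk _ (D.stX r t)) = _
  rw [piG_mk, lift_genG_stX, if_pos hr]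

theorem piG_wordP (c : DCert D Ns) {i j : ℕ} {w : List (ℕ × F)} (hw : WordIn D i j w) :
    piG c F (wordP (xg c F) w) = wordGL c w := by
  rw [map_wordP]
  unfold wordP wordGL
  congr 1
  apply List.map_congr_left
  intro p hp
  exact piG_xg c (vis_of_mem (hw p hp)) p.2

/-! ### The relations in the presented group -/

theorem xg_add (c : DCert D Ns) {r : ℕ} (hr : Vis D r) (t u : F) : xg c F r t * xg c F r u = xg c F r (t + u) := by
  obtain ⟨i, j, hv⟩ := (vis_iff D).mp hr
  have h₁ : WordIn D i j [(r, t), (r, u)] := by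
    intro p hp
    simp only [List.mem_cons, List.not_mem_nil, or_false] at hp
    rcases hp with rfl | rfl <;> exact hv
  have h₂ : WordIn D i j [(r, t + u)] := by
    intro p hp
    simp only [List.mem_cons, List.not_mem_nil, or_false] at hp
    rw [hp]
    exact hv
  have := xg_word_eq c h₁ h₂ (by simp [wordGL, xGL_mul])
  simpa [wordP] using this

theorem xg_zero (c : DCert D Ns) {r : ℕ} (hr : Vis D r) : xg c F r (0 : F) = 1 := by
  have := xg_add c hr (0 : F) 0
  rw [add_zero] at this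
  exact mul_eq_left.mp this

theorem xg_inv (c : DCert D Ns) {r : ℕ} (hr : Vis D r) (t : F) : (xg c F r t)⁻¹ = xg c F r (-t) := by
  rw [inv_eq_iff_mul_eq_one, xg_add c hr, add_neg_cancel, xg_zero c hr]

theorem xg_comm (c : DCert D Ns) (hvis : VisCert D) (hR2 : R2All D F) {i j r s : ℕ} (hr : D.InRankTwoSub i j r)
    (hs : D.InRankTwoSub i j s) (h1 : s ≠ r) (h2 : s ≠ D.neg r) (t u : F) :
    (xg c F s u)⁻¹ * (xg c F r t)⁻¹ * xg c F s u * xg c F r t = wordP (xg c F) (D.commWord F r s t u) := by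
  have h₁ : WordIn D i j [(s, -u), (r, -t), (s, u), (r, t)] := by
    intro p hp
    simp only [List.mem_cons, List.not_mem_nil, or_false] at hp
    rcases hp with rfl | rfl | rfl | rfl <;> assumption
  have h₂ : WordIn D i j (D.commWord F r s t u) := by
    intro p hp
    unfold ChevalleyDatum.commWord at hp
    obtain ⟨cc, hcc, rfl⟩ := List.mem_map.mp hp
    exact hvis.comm hr hs h1 h2 hcc
  have hGL : wordGL c [(s, -u), (r, -t), (s, u), (r, t)] = wordGL c (D.commWord F r s t u) := by
    have := (stGrp_xGL c hR2).comm r s hr.1 hs.1 h1 h2 t u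
    rw [wordP_xGL, xGL_inv, xGL_inv] at this
    rw [← this]
    simp [wordGL, mul_assoc]
  have := xg_word_eq c h₁ h₂ hGL
  rw [← this, xg_inv c (vis_of_mem hs), xg_inv c (vis_of_mem hr)]
  simp [wordP, mul_assoc]

/-- Every element of the rank two subgroup is a word. -/
theorem exists_word_of_mem_G2 (c : DCert D Ns) {i j : ℕ} {g : PresentedGroup (relsG c F)}
    (hg : g ∈ G2 D (xg c F) i j) : ∃ w : List (ℕ × F), WordIn D i j w ∧ g = wordP (xg c F) w := by
  unfold G2 at hg
  induction hg using Subgroup.closure_induction with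
  | mem y hy =>
    obtain ⟨r, t, hr, rfl⟩ := hy
    refine ⟨[(r, t)], ?_, by simp [wordP]⟩
    intro p hp
    simp only [List.mem_cons, List.not_mem_nil, or_false] at hp
    rw [hp]
    exact hr
  | one => exact ⟨[], wordIn_nil i j, by simp [wordP]⟩
  | mul a b _ _ iha ihb =>
    obtain ⟨w, hw, rfl⟩ := iha
    obtain ⟨w', hw', rfl⟩ := ihb
    exact ⟨w ++ w', hw.append hw', (wordP_append _ _ _).symm⟩
  | inv a _ iha =>
    obtain ⟨w, hw, rfl⟩ := iha
    clear * - hw
    induction w with
    | nil => exact ⟨[], wordIn_nil i j, by simp [wordP]⟩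
    | cons p w ih =>
      have hw' : WordIn D i j w := fun q hq => hw q (List.mem_cons_of_mem _ hq)
      obtain ⟨w', hw'', e⟩ := ih hw'
      refine ⟨w' ++ [(p.1, -p.2)], hw''.append ?_, ?_⟩
      · intro q hq
        simp only [List.mem_cons, List.not_mem_nil, or_false] at hq
        rw [hq]
        exact hw p (by simp)
      · rw [wordP_cons, mul_inv_rev, e, wordP_append, xg_inv c (vis_of_mem (hw p (by simp)))]
        simp [wordP]

theorem piG_inj (c : DCert D Ns) (i j : ℕ) : ∀ g ∈ G2 D (xg c F) i j, piG c F g = 1 → g = 1 := by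
  intro g hg h
  obtain ⟨w, hw, rfl⟩ := exists_word_of_mem_G2 c hg
  rw [piG_wordP c hw] at h
  have := xg_word_eq c hw (wordIn_nil i j) (by rw [h]; rfl)
  rw [this]
  simp [wordP]

end Cfsg.Agent.Lib.Helper72_CTG
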