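/-
Curtis–Tits (helper72): the Curtis–Tits theorem for the data of type D4, F4, E6, E7, E8, relative to the injectivity
on the rank two subgroups, the uniqueness of the root maps and the pair words.
-/
import Mathlib
import Cfsg.Agent.Lib.Helper72_CT_Final
import Cfsg.Agent.Lib.Helper24_CT_TERM
import Cfsg.Agent.Lib.Helper43_CT_COMMLIN

set_option autoImplicit false
set_option linter.unusedSectionVars false
set_option linter.unusedVariables false

namespace Cfsg.Agent.Lib.Helper72_CT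

open Cfsg Cfsg.Lie Cfsg.Agent.Lib.Helper18_ChevFast Cfsg.Agent.Lib.Helper18_ChevEngine
  Cfsg.Agent.Lib.Helper18_ChevR1 Cfsg.Agent.Lib.Helper18_ChevN Cfsg.Agent.Lib.Helper18_ChevR4
  Cfsg.Agent.Lib.Helper18_ChevSimple Cfsg.Agent.Lib.Helper18_ChevSimple2 Cfsg.Agent.Lib.Helper18_ChevFacts
  Cfsg.Agent.Lib.Helper18_ChevWeyl Cfsg.Agent.Lib.Helper18_ChevDiag Cfsg.Agent.Lib.Helper18_ChevCar
  Cfsg.Agent.Lib.Helper18_ChevTorus Cfsg.Agent.Lib.Helper18_ChevGL Cfsg.Agent.Lib.Helper18_ChevComm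
  Cfsg.Agent.Lib.Helper18_ChevComm2 Cfsg.Agent.Lib.Helper18_MatTri Cfsg.Agent.Lib.Helper18_ChevTri
  Cfsg.Agent.Lib.Helper18_ChevBorel Cfsg.Agent.Lib.Helper18_ChevAdd Cfsg.Agent.Lib.Helper18_ChevUni
  Cfsg.Agent.Lib.Helper18_ChevBN Cfsg.Agent.Lib.Helper18_ChevMono Cfsg.Agent.Lib.Helper18_ChevBNPair
  Cfsg.Agent.Lib.Helper18_ChevLevi Cfsg.Agent.Lib.Helper18_ChevSimp Cfsg.Agent.Lib.Helper18_ChevBruhat
  Cfsg.Agent.Lib.Helper18_ChevJCerts Cfsg.Agent.Lib.Helper18_ChevAutA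
  Cfsg.Agent.Lib.Helper81_StUniq Cfsg.Agent.Lib.Helper81_StAbs Cfsg.Agent.Lib.Helper81_StL37
  Cfsg.Agent.Lib.Helper81_StBruhat Cfsg.Agent.Lib.Helper81_StMain Cfsg.Agent.Lib.Helper81_StTorus
  Cfsg.Agent.Lib.Helper81_StR3 Cfsg.Agent.Lib.Helper81_StEta Cfsg.Agent.Lib.Helper81_StCerts

/-- The Curtis–Tits theorem, relative to the injectivity on the rank two subgroups, the uniqueness of the root maps
and the pair words. -/
theorem curtisTits_wrap (D : ChevalleyDatum) (hD : D ∈ [chevD4, chevF4, chevE6, chevE7, chevE8])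
    (K : Type*) [Field K] [Finite K]
    (hA : ∀ i j, i < D.rank → j < D.rank → D.cartan i (D.simple j) = -1 → D.cartan j (D.simple i) = -1 →
      InjOn2 (visCert_of_mem D hD) K i j)
    (hB : D = chevF4 → InjOn2 (visCert_of_mem D hD) K 1 2)
    (huniq : ∀ {y : D.SteinbergGroup K} {σ σ' : ℕ → ℕ}, MonoAct D (xs D K) y σ → MonoAct D (xs D K) y σ' →
      ∀ r < D.nroots, σ r = σ' r)
    (hxinj : ∀ r < D.nroots, ∀ t u : K, xs D K r t = xs D K r u → t = u)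
    (hpw : PairWord D) :
    ∃ e : D.CurtisTitsGroup K ≃* D.SteinbergGroup K, ∀ (i j r : ℕ) (t : K), D.InRankTwoSub i j r →
      e (PresentedGroup.mk (D.curtisTitsRels K) (D.stX r t)) = D.stGen K r t := by
  have hD7 := mem7_of_mem5 hD
  obtain ⟨Ns, w, d, Ts, hT, Kc, base, stepT, wl, ws, sc, c, tc, gc, pc, ac, ec⟩ := exists_cert6 D hD7
  apply curtisTits_of_packages D hD K (inj_of_packages D hD K hA hB) huniq hxinj ?_ hpw ?_ ?_
  · intro σ hσ i k i' hi hk hik hi' hpi hpk ρ hρ h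
    exact Cfsg.Agent.Lib.Helper24_CT_TERM.terminal c tc ac (descent_all D hD7) (rank2Cert_of_mem D hD) hσ hi hk hik
      hi' hpi hpk hρ h
  · intro σ hσ j k r s hr hs hσr hσs cc hc
    exact Cfsg.Agent.Lib.Helper43_CT_COMMLIN.commTerms_mem c tc ac hσ hr hs hσr hσs hc
  · intro σ hσ j k r s hj hk hjk h0 hr hs hσr hσs
    exact Cfsg.Agent.Lib.Helper43_CT_COMMLIN.commTerms_nil c tc ac (njCert_of_mem D hD) hσ hj hk hjk h0 hr hs hσr hσs

end Cfsg.Agent.Lib.Helper72_CT
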