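/-
Curtis–Tits, recognition form (helper72): the Steinberg group maps onto the group presented by the relations of the
rank two subsystems in the Chevalley group, generator to generator.
-/
import Mathlib
import Cfsg.Agent.Lib.Helper72_CTG_GL
import Cfsg.Agent.Lib.Helper72_CT_Wrap

set_option autoImplicit false
set_option linter.unusedSectionVars false
set_option linter.unusedVariables false

namespace Cfsg.Agent.Lib.Helper72_CTG

open Cfsg Cfsg.Lie Cfsg.Agent.Lib.Helper18_ChevFast Cfsg.Agent.Lib.Helper18_ChevEngine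
  Cfsg.Agent.Lib.Helper18_ChevR1 Cfsg.Agent.Lib.Helper18_ChevN Cfsg.Agent.Lib.Helper18_ChevR4
  Cfsg.Agent.Lib.Helper18_ChevSimple Cfsg.Agent.Lib.Helper18_ChevSimple2 Cfsg.Agent.Lib.Helper18_ChevFacts
  Cfsg.Agent.Lib.Helper18_ChevWeyl Cfsg.Agent.Lib.Helper18_ChevDiag Cfsg.Agent.Lib.Helper18_ChevCar
  Cfsg.Agent.Lib.Helper18_ChevTorus Cfsg.Agent.Lib.Helper18_ChevGL Cfsg.Agent.Lib.Helper18_ChevComm
  Cfsg.Agent.Lib.Helper18_ChevComm2 Cfsg.Agent.Lib.Helper18_MatTri Cfsg.Agent.Lib.Helper18_ChevTri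
  Cfsg.Agent.Lib.Helper18_ChevBorel Cfsg.Agent.Lib.Helper18_ChevAdd Cfsg.Agent.Lib.Helper18_ChevUni
  Cfsg.Agent.Lib.Helper18_ChevBN Cfsg.Agent.Lib.Helper18_ChevMono Cfsg.Agent.Lib.Helper18_ChevBNPair
  Cfsg.Agent.Lib.Helper18_ChevLevi Cfsg.Agent.Lib.Helper18_ChevSimp Cfsg.Agent.Lib.Helper18_ChevBruhat
  Cfsg.Agent.Lib.Helper18_ChevJCerts Cfsg.Agent.Lib.Helper18_ChevAutA Cfsg.Agent.Lib.Helper18_ChevCent
  Cfsg.Agent.Lib.Helper18_ChevRootHom
  Cfsg.Agent.Lib.Helper81_StUniq Cfsg.Agent.Lib.Helper81_StAbs Cfsg.Agent.Lib.Helper81_StL37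
  Cfsg.Agent.Lib.Helper81_StBruhat Cfsg.Agent.Lib.Helper81_StMain Cfsg.Agent.Lib.Helper81_StTorus
  Cfsg.Agent.Lib.Helper81_StR3 Cfsg.Agent.Lib.Helper81_StEta Cfsg.Agent.Lib.Helper81_StCerts

open Cfsg.Agent.Lib.Helper72_CT (Vis vis_iff VisCert Rank2Cert NJCert PartnerCert Joined inRankTwoSub_symm
  vis_of_mem Valid valid_singleton PairWord CommMem CommNil visCert_of_mem rank2Cert_of_mem njCert_of_mem
  partnerCert_of_mem mem7_of_mem5)

variable {D : ChevalleyDatum} {F : Type*} [Field F]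

/-- The Steinberg group maps onto the group presented by the relations of the rank two subsystems in the Chevalley
group, generator to generator. -/
theorem exists_hom_relsG (hD : D ∈ [chevD4, chevF4, chevE6, chevE7, chevE8]) [Finite F] (hpw : PairWord D)
    {Ns : List NData} (c : DCert D Ns) :
    ∃ ρ : D.SteinbergGroup F →* PresentedGroup (relsG c F), Function.Surjective ρ ∧
      ∀ r t, Vis D r → ρ (D.stGen F r t) = xg c F r t := by
  have hD7 := mem7_of_mem5 hD
  obtain ⟨Ns', w, d, Ts, hT, Kc, base, stepT, wl, ws, sc, c', tc, gc, pc, ac, ec⟩ := exists_cert6 D hD7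
  obtain ⟨hA, bs, hB⟩ := exists_certAB D hD7
  have hR2 : R2All D F := r2All_of_mem D hD7
  have hvis := visCert_of_mem D hD
  -- the two certificates `c`, `c'` give the same root elements
  have hcc : ∀ r (t : F), xGL c' r t = xGL c r t := fun r t => Units.ext rfl
  have hlift : IsLift c' (xGL c (F := F)) (MonoidHom.id _) := fun r _ t => (hcc r t).symm
  let C : GCtx D F (PresentedGroup (relsG c F)) (GL D.Idx F) :=
    { Ns := Ns', wl := wl, ws := ws, sc := sc, w := w, d := d, bs := bs, c := c', tc := tc, ac := ac, gc := gc,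
      hA := hA, hB := hB, hdesc := descent_all D hD7, hvis := hvis,
      h2 := rank2Cert_of_mem D hD, hnj := njCert_of_mem D hD, hpart := partnerCert_of_mem D hD,
      xh := xg c F, xs := xGL c, pi := piG c F, gl := MonoidHom.id _, isLift := hlift,
      stGrp := stGrp_xGL c hR2, xs_ge := fun r hr t => xGL_ge c r hr t,
      pi_xh := fun hr t => piG_xg c hr t, xh_add := fun hr t u => xg_add c hr t u,
      xh_comm := fun hr hs h1 h2 t u => xg_comm c hvis hR2 hr hs h1 h2 t u,
      inj := fun i j _ => piG_inj c i j,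
      uniq := fun h h' => by
        have e : (xGL c : ℕ → F → GL D.Idx F) = xGL c' := funext fun r => funext fun t => (hcc r t).symm
        rw [e] at h h'
        exact monoAct_xGL_unique c' tc ac h h',
      xinj := fun r hr t u h => xGL_inj c' tc ac r hr t u (by rw [hcc, hcc]; exact h),
      term := by
        intro σ hσ i k i' hi hk hik hi' hpi hpk ρ hρ h
        exact Cfsg.Agent.Lib.Helper24_CT_TERM.terminal c' tc ac (descent_all D hD7) (rank2Cert_of_mem D hD) hσ hi hk
          hik hi' hpi hpk hρ h }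
  have hcm : CommMem D := by
    intro σ hσ j k r s hr hs hσr hσs cc hc
    exact Cfsg.Agent.Lib.Helper43_CT_COMMLIN.commTerms_mem c' tc ac hσ hr hs hσr hσs hc
  have hcn : CommNil D := by
    intro σ hσ j k r s hj hk hjk h0 hr hs hσr hσs
    exact Cfsg.Agent.Lib.Helper43_CT_COMMLIN.commTerms_nil c' tc ac (njCert_of_mem D hD) hσ hj hk hjk h0 hr hs hσr
      hσs
  obtain ⟨ρ, hρ⟩ := C.exists_inverse ec hpw hcm hcn
  have hvisX : ∀ r t, Vis D r → ρ (D.stGen F r t) = xg c F r t := by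
    intro r t hr
    obtain ⟨i, j, hij⟩ := (vis_iff D).mp hr
    rw [hρ]
    exact C.X_eq_xh hij t
  refine ⟨ρ, ?_, hvisX⟩
  rw [← MonoidHom.range_eq_top, eq_top_iff, ← (gen_pGen (D := D) (rels := relsG c F)), Subgroup.closure_le]
  rintro y ⟨r, hr, t, rfl⟩
  by_cases hv : Vis D r
  · exact ⟨D.stGen F r t, hvisX r t hv⟩
  · have : pGen D (relsG c F) r t = 1 := xg_eq_one c hv t
    rw [this]
    exact Subgroup.one_mem _

end Cfsg.Agent.Lib.Helper72_CTG
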