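/-
Curtis–Tits, recognition form (helper72): a group generated by images of the fundamental rank one subgroups of the
Chevalley group under homomorphisms that extend coherently to each pair is a homomorphic image of the group
presented by the relations of the rank two subsystems.
-/
import Mathlib
import Cfsg.Agent.Lib.Helper72_CTG_GL2
import Cfsg.Agent.Lib.Helper18_StLift

set_option autoImplicit false
set_option linter.unusedSectionVars false
set_option linter.unusedVariables false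

namespace Cfsg.Agent.Lib.Helper72_CTG

open Cfsg Cfsg.Lie Cfsg.Agent.Lib.Helper18_ChevFast Cfsg.Agent.Lib.Helper18_ChevEngine
  Cfsg.Agent.Lib.Helper18_ChevR1 Cfsg.Agent.Lib.Helper18_ChevN Cfsg.Agent.Lib.Helper18_ChevR4
  Cfsg.Agent.Lib.Helper18_ChevSimple Cfsg.Agent.Lib.Helper18_ChevSimple2 Cfsg.Agent.Lib.Helper18_ChevFacts
  Cfsg.Agent.Lib.Helper18_ChevWeyl Cfsg.Agent.Lib.Helper18_ChevDiag Cfsg.Agent.Lib.Helper18_ChevCar
  Cfsg.Agent.Lib.Helper18_ChevTorus Cfsg.Agent.Lib.Helper18_ChevGL Cfsg.Agent.Lib.Helper18_ChevComm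
  Cfsg.Agent.Lib.Helper18_ChevComm2 Cfsg.Agent.Lib.Helper18_MatTri Cfsg.Agent.Lib.Helper18_ChevTri
  Cfsg.Agent.Lib.Helper18_ChevBorel Cfsg.Agent.Lib.Helper18_ChevAdd Cfsg.Agent.Lib.Helper18_ChevUni
  Cfsg.Agent.Lib.Helper18_ChevBN Cfsg.Agent.Lib.Helper18_ChevMono Cfsg.Agent.Lib.Helper18_ChevBNPair
  Cfsg.Agent.Lib.Helper18_ChevLevi Cfsg.Agent.Lib.Helper18_ChevSimp Cfsg.Agent.Lib.Helper18_ChevBruhat
  Cfsg.Agent.Lib.Helper18_ChevJCerts Cfsg.Agent.Lib.Helper18_ChevAutA Cfsg.Agent.Lib.Helper18_ChevCent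
  Cfsg.Agent.Lib.Helper18_ChevRootHom
  Cfsg.Agent.Lib.Helper81_StUniq Cfsg.Agent.Lib.Helper81_StAbs Cfsg.Agent.Lib.Helper81_StL37
  Cfsg.Agent.Lib.Helper81_StBruhat Cfsg.Agent.Lib.Helper81_StMain Cfsg.Agent.Lib.Helper81_StTorus
  Cfsg.Agent.Lib.Helper81_StR3 Cfsg.Agent.Lib.Helper81_StEta Cfsg.Agent.Lib.Helper81_StCerts

open Cfsg.Agent.Lib.Helper72_CT (Vis vis_iff VisCert Rank2Cert NJCert PartnerCert Joined inRankTwoSub_symm
  vis_of_mem Valid valid_singleton PairWord CommMem CommNil visCert_of_mem rank2Cert_of_mem njCert_of_mem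
  partnerCert_of_mem mem7_of_mem5)

variable {D : ChevalleyDatum} {Ns : List NData} {F : Type*} [Field F]
variable {wl : List ℤ} {ws : List (List ℤ)} {sc : ℤ}

/-- The fundamental rank one subgroup `⟨X_{p_i}, X_{-p_i}⟩`. -/
abbrev Lr (D : ChevalleyDatum) (F : Type*) [Field F] (i : ℕ) : Subgroup (GL D.Idx F) :=
  D.rootSubgroup F (D.simple i) ⊔ D.rootSubgroup F (D.neg (D.simple i))

/-! ### The root elements of `Φ_ij` lie in `⟨L_i, L_j⟩` -/

theorem xGL_mem_rootSubgroup (c : DCert D Ns) (r : ℕ) (t : F) : xGL c r t ∈ D.rootSubgroup F r :=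
  Subgroup.subset_closure ⟨t, rfl⟩

theorem xGL_simple_mem_Lr (c : DCert D Ns) (i : ℕ) (t : F) : xGL c (D.simple i) t ∈ Lr D F i :=
  Subgroup.mem_sup_left (xGL_mem_rootSubgroup c _ t)

theorem xGL_neg_simple_mem_Lr (c : DCert D Ns) (i : ℕ) (t : F) : xGL c (D.neg (D.simple i)) t ∈ Lr D F i :=
  Subgroup.mem_sup_right (xGL_mem_rootSubgroup c _ t)

theorem nGL_mem_Lr (c : DCert D Ns) (i : ℕ) : (nGL c i : GL D.Idx F) ∈ Lr D F i := by
  unfold nGL wordGL ChevalleyDatum.nWord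
  simp only [List.map_cons, List.map_nil, List.prod_cons, List.prod_nil, mul_one]
  exact Subgroup.mul_mem _ (xGL_simple_mem_Lr c i _)
    (Subgroup.mul_mem _ (xGL_neg_simple_mem_Lr c i _) (xGL_simple_mem_Lr c i _))

theorem wordN_mem_sup (c : DCert D Ns) {i j : ℕ} : ∀ (v : List ℕ), (∀ x ∈ v, x = i ∨ x = j) →
    wordN c F v ∈ Lr D F i ⊔ Lr D F j := by
  intro v hv
  unfold wordN
  apply Subgroup.list_prod_mem
  intro g hg
  rw [List.mem_map] at hg
  obtain ⟨k, hk, rfl⟩ := hg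
  rcases hv k hk with rfl | rfl
  · exact Subgroup.mem_sup_left (nGL_mem_Lr c k)
  · exact Subgroup.mem_sup_right (nGL_mem_Lr c k)

/-- Every root of `Φ_ij` is the image of `p_i` or `p_j` under a word in `i, j`. -/
theorem exists_word_sub' (c : DCert D Ns) (tc : TCert D) (ac : ACert D wl ws sc) (hvis : VisCert D)
    (h2 : Rank2Cert D) {i j r : ℕ} (hr : D.InRankTwoSub i j r) : ∃ (v : List ℕ) (k : ℕ),
    (∀ x ∈ v, x = i ∨ x = j) ∧ (k = i ∨ k = j) ∧ wordRefl D v (D.simple k) = r := by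
  have hpos : ∀ r, D.InRankTwoSub i j r → D.IsPosRoot r → ∃ (v : List ℕ) (k : ℕ),
      (∀ x ∈ v, x = i ∨ x = j) ∧ (k = i ∨ k = j) ∧ wordRefl D v (D.simple k) = r := by
    intro r hr hp
    rcases h2.spec hr hp with rfl | rfl | ⟨rfl, -⟩ | ⟨rfl, -⟩
    · exact ⟨[], i, by simp, Or.inl rfl, rfl⟩
    · exact ⟨[], j, by simp, Or.inr rfl, rfl⟩
    · exact ⟨[i], j, by simp, Or.inr rfl, rfl⟩
    · exact ⟨[j], i, by simp, Or.inl rfl, rfl⟩
  rcases ac.posOrNeg _ hr.1 with hp | hn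
  · exact hpos r hr hp
  · obtain ⟨v, k, hv, hk, hvr⟩ := hpos _ (hvis.neg hr) (neg_isPos c tc ac r hn)
    have hkr : k < D.rank := by rcases hk with rfl | rfl; exact hr.2.1; exact hr.2.2.1
    have hvv : ∀ x ∈ v, x < D.rank := by
      intro x hx
      rcases hv x hx with rfl | rfl
      · exact hr.2.1
      · exact hr.2.2.1
    refine ⟨v ++ [k], k, ?_, hk, ?_⟩
    · intro x hx
      rcases List.mem_append.mp hx with hx | hx
      · exact hv x hx
      · rw [List.mem_singleton] at hx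
        rw [hx]
        exact hk
    · rw [wordRefl_append]
      show wordRefl D v (D.reflectRoot k (D.simple k)) = r
      rw [reflectRoot_simple, wordRefl_neg c v hvv _ (c.ncert k hkr).simple_lt, hvr, neg_neg_root c tc ac r hr.1]

/-- The root elements of the roots of `Φ_ij` lie in `⟨L_i, L_j⟩`. -/
theorem xGL_mem_sup (c : DCert D Ns) (tc : TCert D) (ac : ACert D wl ws sc) (hvis : VisCert D)
    (h2 : Rank2Cert D) {i j r : ℕ} (hr : D.InRankTwoSub i j r) (t : F) : xGL c r t ∈ Lr D F i ⊔ Lr D F j := by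
  obtain ⟨v, k, hv, hk, hvr⟩ := exists_word_sub' c tc ac hvis h2 hr
  have hkr : k < D.rank := by rcases hk with rfl | rfl; exact hr.2.1; exact hr.2.2.1
  have hvv : ∀ x ∈ v, x < D.rank := by
    intro x hx
    rcases hv x hx with rfl | rfl
    · exact hr.2.1
    · exact hr.2.2.1
  obtain ⟨-, a, ha, hact⟩ := actsAs_wordN (F := F) c v hvv _ (c.ncert k hkr).simple_lt
  rw [hvr] at hact
  have e : xGL c r t = wordN c F v * xGL c (D.simple k) (a⁻¹ * t) * (wordN c F v)⁻¹ := by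
    rw [hact, mul_inv_cancel_left₀ ha]
  rw [e]
  have hn := wordN_mem_sup (F := F) c v hv
  have hx : xGL c (D.simple k) (a⁻¹ * t) ∈ Lr D F i ⊔ Lr D F j := by
    rcases hk with rfl | rfl
    · exact Subgroup.mem_sup_left (xGL_simple_mem_Lr c k _)
    · exact Subgroup.mem_sup_right (xGL_simple_mem_Lr c k _)
  exact Subgroup.mul_mem _ (Subgroup.mul_mem _ hn hx) (Subgroup.inv_mem _ hn)

theorem wordGL_mem_sup (c : DCert D Ns) (tc : TCert D) (ac : ACert D wl ws sc) (hvis : VisCert D)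
    (h2 : Rank2Cert D) {i j : ℕ} {w : List (ℕ × F)} (hw : WordIn D i j w) : wordGL c w ∈ Lr D F i ⊔ Lr D F j := by
  unfold wordGL
  apply Subgroup.list_prod_mem
  intro g hg
  rw [List.mem_map] at hg
  obtain ⟨p, hp, rfl⟩ := hg
  exact xGL_mem_sup c tc ac hvis h2 (hw p hp) p.2

/-! ### The roots that lie in two rank two subsystems -/

/-- A root of `Φ_mm` is `±p_m`. -/
theorem eq_pm_of_mem_self (c : DCert D Ns) (tc : TCert D) (ac : ACert D wl ws sc) (hvis : VisCert D)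
    (h2 : Rank2Cert D) {m r : ℕ} (hr : D.InRankTwoSub m m r) : r = D.simple m ∨ r = D.neg (D.simple m) := by
  have hpos : ∀ r, D.InRankTwoSub m m r → D.IsPosRoot r → r = D.simple m := by
    intro r hr hp
    have hm := hr.2.1
    rcases h2.spec hr hp with h | h | ⟨h, -⟩ | ⟨h, -⟩
    · exact h
    · exact h
    · exfalso
      rw [reflectRoot_simple] at h
      rw [h] at hp
      exact ac.not_pos_and_neg _ hp (neg_isNeg c tc ac _ (tc.simple_pos m hm))
    · exfalso
      rw [reflectRoot_simple] at h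
      rw [h] at hp
      exact ac.not_pos_and_neg _ hp (neg_isNeg c tc ac _ (tc.simple_pos m hm))
  rcases ac.posOrNeg _ hr.1 with hp | hn
  · exact Or.inl (hpos r hr hp)
  · right
    have := hpos _ (hvis.neg hr) (neg_isPos c tc ac r hn)
    rw [← this, neg_neg_root c tc ac r hr.1]

end Cfsg.Agent.Lib.Helper72_CTG
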