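/-
Curtis–Tits, recognition form (helper72): a coherent system of homomorphisms on the fundamental rank one and rank two
subgroups of the Chevalley group defines root elements in the target group, and these satisfy the relations of the
rank two subsystems.
-/
import Mathlib
import Cfsg.Agent.Lib.Helper72_CTG_Recog

set_option autoImplicit false
set_option linter.unusedSectionVars false
set_option linter.unusedVariables false

namespace Cfsg.Agent.Lib.Helper72_CTG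

open Cfsg Cfsg.Lie Cfsg.Agent.Lib.Helper18_ChevFast Cfsg.Agent.Lib.Helper18_ChevEngine
  Cfsg.Agent.Lib.Helper18_ChevR1 Cfsg.Agent.Lib.Helper18_ChevN Cfsg.Agent.Lib.Helper18_ChevR4
  Cfsg.Agent.Lib.Helper18_ChevSimple Cfsg.Agent.Lib.Helper18_ChevSimple2 Cfsg.Agent.Lib.Helper18_ChevFacts
  Cfsg.Agent.Lib.Helper18_ChevWeyl Cfsg.Agent.Lib.Helper18_ChevDiag Cfsg.Agent.Lib.Helper18_ChevCar
  Cfsg.Agent.Lib.Helper18_ChevTorus Cfsg.Agent.Lib.Helper18_ChevGL Cfsg.Agent.Lib.Helper18_ChevComm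
  Cfsg.Agent.Lib.Helper18_ChevComm2 Cfsg.Agent.Lib.Helper18_MatTri Cfsg.Agent.Lib.Helper18_ChevTri
  Cfsg.Agent.Lib.Helper18_ChevBorel Cfsg.Agent.Lib.Helper18_ChevAdd Cfsg.Agent.Lib.Helper18_ChevUni
  Cfsg.Agent.Lib.Helper18_ChevBN Cfsg.Agent.Lib.Helper18_ChevMono Cfsg.Agent.Lib.Helper18_ChevBNPair
  Cfsg.Agent.Lib.Helper18_ChevLevi Cfsg.Agent.Lib.Helper18_ChevSimp Cfsg.Agent.Lib.Helper18_ChevBruhat
  Cfsg.Agent.Lib.Helper18_ChevJCerts Cfsg.Agent.Lib.Helper18_ChevAutA Cfsg.Agent.Lib.Helper18_ChevCent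
  Cfsg.Agent.Lib.Helper18_ChevRootHom
  Cfsg.Agent.Lib.Helper81_StUniq Cfsg.Agent.Lib.Helper81_StAbs Cfsg.Agent.Lib.Helper81_StL37
  Cfsg.Agent.Lib.Helper81_StBruhat Cfsg.Agent.Lib.Helper81_StMain Cfsg.Agent.Lib.Helper81_StTorus
  Cfsg.Agent.Lib.Helper81_StR3 Cfsg.Agent.Lib.Helper81_StEta Cfsg.Agent.Lib.Helper81_StCerts

open Cfsg.Agent.Lib.Helper72_CT (Vis vis_iff VisCert Rank2Cert NJCert PartnerCert Joined inRankTwoSub_symm
  vis_of_mem Valid valid_singleton PairWord CommMem CommNil visCert_of_mem rank2Cert_of_mem njCert_of_mem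
  partnerCert_of_mem mem7_of_mem5)

/-- A coherent system of homomorphisms on the fundamental rank one and rank two subgroups. -/
structure Coh (D : ChevalleyDatum) (F : Type*) [Field F] (G : Type*) [Group G] where
  Ns : List NData
  wl : List ℤ
  ws : List (List ℤ)
  sc : ℤ
  c : DCert D Ns
  tc : TCert D
  ac : ACert D wl ws sc
  hvis : VisCert D
  h2 : Rank2Cert D
  φ : ∀ i : ℕ, ↥(Lr D F i) →* G
  Φ : ∀ i j : ℕ, ↥(Lr D F i ⊔ Lr D F j) →* G
  left : ∀ i < D.rank, ∀ j < D.rank, ∀ (g : GL D.Idx F) (hg : g ∈ Lr D F i),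
    Φ i j ⟨g, Subgroup.mem_sup_left hg⟩ = φ i ⟨g, hg⟩
  right : ∀ i < D.rank, ∀ j < D.rank, ∀ (g : GL D.Idx F) (hg : g ∈ Lr D F j),
    Φ i j ⟨g, Subgroup.mem_sup_right hg⟩ = φ j ⟨g, hg⟩

variable {D : ChevalleyDatum} {F : Type*} [Field F] {G : Type*} [Group G]

namespace Coh

variable (S : Coh D F G)

include S

/-- The two homomorphisms on `⟨L_i, L_j⟩ = ⟨L_j, L_i⟩` agree. -/
theorem Φ_symm {i j : ℕ} (hi : i < D.rank) (hj : j < D.rank) (g : GL D.Idx F) (h : g ∈ Lr D F i ⊔ Lr D F j)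
    (h' : g ∈ Lr D F j ⊔ Lr D F i) : S.Φ i j ⟨g, h⟩ = S.Φ j i ⟨g, h'⟩ := by
  let E : Subgroup (GL D.Idx F) :=
    { carrier := {g | ∃ (h : g ∈ Lr D F i ⊔ Lr D F j) (h' : g ∈ Lr D F j ⊔ Lr D F i),
        S.Φ i j ⟨g, h⟩ = S.Φ j i ⟨g, h'⟩}
      mul_mem' := by
        rintro a b ⟨h₁, h₁', e₁⟩ ⟨h₂, h₂', e₂⟩
        refine ⟨Subgroup.mul_mem _ h₁ h₂, Subgroup.mul_mem _ h₁' h₂', ?_⟩
        have ea : (⟨a * b, Subgroup.mul_mem _ h₁ h₂⟩ : ↥(Lr D F i ⊔ Lr D F j)) = ⟨a, h₁⟩ * ⟨b, h₂⟩ := rfl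
        have eb : (⟨a * b, Subgroup.mul_mem _ h₁' h₂'⟩ : ↥(Lr D F j ⊔ Lr D F i)) = ⟨a, h₁'⟩ * ⟨b, h₂'⟩ := rfl
        rw [ea, eb, map_mul, map_mul, e₁, e₂]
      one_mem' := by
        refine ⟨Subgroup.one_mem _, Subgroup.one_mem _, ?_⟩
        have ea : (⟨1, Subgroup.one_mem _⟩ : ↥(Lr D F i ⊔ Lr D F j)) = 1 := rfl
        have eb : (⟨1, Subgroup.one_mem _⟩ : ↥(Lr D F j ⊔ Lr D F i)) = 1 := rfl
        rw [ea, eb, map_one, map_one]
      inv_mem' := by
        rintro a ⟨h₁, h₁', e₁⟩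
        refine ⟨Subgroup.inv_mem _ h₁, Subgroup.inv_mem _ h₁', ?_⟩
        have ea : (⟨a⁻¹, Subgroup.inv_mem _ h₁⟩ : ↥(Lr D F i ⊔ Lr D F j)) = (⟨a, h₁⟩)⁻¹ := rfl
        have eb : (⟨a⁻¹, Subgroup.inv_mem _ h₁'⟩ : ↥(Lr D F j ⊔ Lr D F i)) = (⟨a, h₁'⟩)⁻¹ := rfl
        rw [ea, eb, map_inv, map_inv, e₁] }
  have hle : Lr D F i ⊔ Lr D F j ≤ E := by
    apply sup_le
    · intro a ha
      exact ⟨Subgroup.mem_sup_left ha, Subgroup.mem_sup_right ha, by rw [S.left i hi j hj a ha, S.right j hj i hi a ha]⟩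
    · intro a ha
      exact ⟨Subgroup.mem_sup_right ha, Subgroup.mem_sup_left ha, by rw [S.right i hi j hj a ha, S.left j hj i hi a ha]⟩
  obtain ⟨_, _, e⟩ := hle h
  exact e

/-- If `k ∉ {i, j}` the fundamental root `p_k` is not in `Φ_ij`. -/
theorem mem_of_simple_mem {i j m : ℕ} (hm : m < D.rank) (h : D.InRankTwoSub i j (D.simple m)) : m = i ∨ m = j := by
  by_contra hne
  push Not at hne
  have h1 := h.2.2.2 m hm hne.1 hne.2
  have h2 := S.tc.simple_cor m hm m hm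
  unfold cor at h2
  rw [if_pos rfl] at h2
  rw [h2] at h1
  exact one_ne_zero h1

theorem mem_of_pm_mem {i j m r : ℕ} (hm : m < D.rank) (hr : r = D.simple m ∨ r = D.neg (D.simple m))
    (h : D.InRankTwoSub i j r) : m = i ∨ m = j := by
  rcases hr with rfl | rfl
  · exact S.mem_of_simple_mem hm h
  · have := S.hvis.neg h
    rw [neg_neg_root S.c S.tc S.ac _ (S.c.ncert m hm).simple_lt] at this
    exact S.mem_of_simple_mem hm this

theorem xGL_pm_mem_Lr {m r : ℕ} (hr : r = D.simple m ∨ r = D.neg (D.simple m)) (t : F) :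
    xGL S.c r t ∈ Lr D F m := by
  rcases hr with rfl | rfl
  · exact xGL_simple_mem_Lr S.c m t
  · exact xGL_neg_simple_mem_Lr S.c m t

/-- On the root elements of `±p_m` the homomorphism `Φ_ij` is `φ_m`. -/
theorem Φ_pm {i j m r : ℕ} (hm : m < D.rank) (hr : r = D.simple m ∨ r = D.neg (D.simple m))
    (h : D.InRankTwoSub i j r) (t : F) (hx : xGL S.c r t ∈ Lr D F i ⊔ Lr D F j) :
    S.Φ i j ⟨xGL S.c r t, hx⟩ = S.φ m ⟨xGL S.c r t, S.xGL_pm_mem_Lr hr t⟩ := by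
  rcases S.mem_of_pm_mem hm hr h with rfl | rfl
  · exact S.left m h.2.1 j h.2.2.1 _ (S.xGL_pm_mem_Lr hr t)
  · exact S.right i h.2.1 m h.2.2.1 _ (S.xGL_pm_mem_Lr hr t)

/-- The images of the root elements are well defined. -/
theorem Φ_wd {i j i' j' r : ℕ} (h : D.InRankTwoSub i j r) (h' : D.InRankTwoSub i' j' r) (t : F)
    (hx : xGL S.c r t ∈ Lr D F i ⊔ Lr D F j) (hx' : xGL S.c r t ∈ Lr D F i' ⊔ Lr D F j') :
    S.Φ i j ⟨xGL S.c r t, hx⟩ = S.Φ i' j' ⟨xGL S.c r t, hx'⟩ := by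
  have hi := h.2.1
  have hj := h.2.2.1
  have hi' := h'.2.1
  have hj' := h'.2.2.1
  by_cases hmm : ∃ m < D.rank, D.InRankTwoSub m m r
  · obtain ⟨m, hm, hmr⟩ := hmm
    have hr := eq_pm_of_mem_self S.c S.tc S.ac S.hvis S.h2 hmr
    rw [S.Φ_pm hm hr h t hx, S.Φ_pm hm hr h' t hx']
  · push Not at hmm
    -- the support of `r` is `{i, j} = {i', j'}`
    have hzero : ∀ k < D.rank, (k ≠ i ∨ k ≠ i') → (k ≠ i ∨ k ≠ j') → (k ≠ j ∨ k ≠ i') → (k ≠ j ∨ k ≠ j') →
        (D.coroot.getD r #[]).getD k 0 = 0 := by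
      intro k hk a1 a2 a3 a4
      by_cases e1 : k = i
      · subst e1
        have b1 : k ≠ i' := by rcases a1 with a | a; exact absurd rfl a; exact a
        have b2 : k ≠ j' := by rcases a2 with a | a; exact absurd rfl a; exact a
        exact h'.2.2.2 k hk b1 b2
      · by_cases e2 : k = j
        · subst e2
          have b1 : k ≠ i' := by rcases a3 with a | a; exact absurd rfl a; exact a
          have b2 : k ≠ j' := by rcases a4 with a | a; exact absurd rfl a; exact a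
          exact h'.2.2.2 k hk b1 b2
        · exact h.2.2.2 k hk e1 e2
    have hsub : ∀ m < D.rank, (∀ k < D.rank, k ≠ m → (D.coroot.getD r #[]).getD k 0 = 0) → False :=
      fun m hm hall => hmm m hm ⟨h.1, hm, hm, fun k hk hkm _ => hall k hk hkm⟩
    have hij : i ≠ j := by
      rintro rfl
      exact hmm i hi h
    have hij' : i' ≠ j' := by
      rintro rfl
      exact hmm i' hi' h'
    -- `i' ∈ {i, j}`
    have m1 : i' = i ∨ i' = j := by
      by_contra hne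
      push Not at hne
      apply hsub j' hj'
      intro k hk hkj'
      by_cases e1 : k = i'
      · subst e1
        exact h.2.2.2 k hk hne.1 hne.2
      · exact h'.2.2.2 k hk e1 hkj'
    have m2 : j' = i ∨ j' = j := by
      by_contra hne
      push Not at hne
      apply hsub i' hi'
      intro k hk hki'
      by_cases e1 : k = j'
      · subst e1
        exact h.2.2.2 k hk hne.1 hne.2
      · exact h'.2.2.2 k hk hki' e1
    rcases m1 with rfl | rfl
    · rcases m2 with rfl | rfl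
      · exact absurd rfl hij'
      · rfl
    · rcases m2 with rfl | rfl
      · exact S.Φ_symm hi hj _ hx hx'
      · exact absurd rfl hij'

end Coh

end Cfsg.Agent.Lib.Helper72_CTG
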