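/-
Curtis–Tits, recognition form (helper72): the homomorphism from the group presented by the relations of the rank two
subsystems onto a group with a coherent system, and the recognition theorem relative to the pair words.
-/
import Mathlib
import Cfsg.Agent.Lib.Helper72_CTG_Coh
import Cfsg.Agent.Lib.Helper18_ChevFrob
import Cfsg.Agent.Lib.Helper18_ChevW0Certs

set_option autoImplicit false
set_option linter.unusedSectionVars false
set_option linter.unusedVariables false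

namespace Cfsg.Agent.Lib.Helper72_CTG

open Cfsg Cfsg.Lie Cfsg.Agent.Lib.Helper18_ChevFast Cfsg.Agent.Lib.Helper18_ChevEngine
  Cfsg.Agent.Lib.Helper18_ChevR1 Cfsg.Agent.Lib.Helper18_ChevN Cfsg.Agent.Lib.Helper18_ChevR4
  Cfsg.Agent.Lib.Helper18_ChevSimple Cfsg.Agent.Lib.Helper18_ChevSimple2 Cfsg.Agent.Lib.Helper18_ChevFacts
  Cfsg.Agent.Lib.Helper18_ChevWeyl Cfsg.Agent.Lib.Helper18_ChevDiag Cfsg.Agent.Lib.Helper18_ChevCar
  Cfsg.Agent.Lib.Helper18_ChevTorus Cfsg.Agent.Lib.Helper18_ChevGL Cfsg.Agent.Lib.Helper18_ChevComm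
  Cfsg.Agent.Lib.Helper18_ChevComm2 Cfsg.Agent.Lib.Helper18_MatTri Cfsg.Agent.Lib.Helper18_ChevTri
  Cfsg.Agent.Lib.Helper18_ChevBorel Cfsg.Agent.Lib.Helper18_ChevAdd Cfsg.Agent.Lib.Helper18_ChevUni
  Cfsg.Agent.Lib.Helper18_ChevBN Cfsg.Agent.Lib.Helper18_ChevMono Cfsg.Agent.Lib.Helper18_ChevBNPair
  Cfsg.Agent.Lib.Helper18_ChevLevi Cfsg.Agent.Lib.Helper18_ChevSimp Cfsg.Agent.Lib.Helper18_ChevBruhat
  Cfsg.Agent.Lib.Helper18_ChevJCerts Cfsg.Agent.Lib.Helper18_ChevAutA Cfsg.Agent.Lib.Helper18_ChevCent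
  Cfsg.Agent.Lib.Helper18_ChevRootHom
  Cfsg.Agent.Lib.Helper81_StUniq Cfsg.Agent.Lib.Helper81_StAbs Cfsg.Agent.Lib.Helper81_StL37
  Cfsg.Agent.Lib.Helper81_StBruhat Cfsg.Agent.Lib.Helper81_StMain Cfsg.Agent.Lib.Helper81_StTorus
  Cfsg.Agent.Lib.Helper81_StR3 Cfsg.Agent.Lib.Helper81_StEta Cfsg.Agent.Lib.Helper81_StCerts
  Cfsg.Agent.Lib.Helper18_StLift

open Cfsg.Agent.Lib.Helper72_CT (Vis vis_iff VisCert Rank2Cert NJCert PartnerCert Joined inRankTwoSub_symm
  vis_of_mem Valid valid_singleton PairWord CommMem CommNil visCert_of_mem rank2Cert_of_mem njCert_of_mem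
  partnerCert_of_mem mem7_of_mem5)

variable {D : ChevalleyDatum} {F : Type*} [Field F] {G : Type*} [Group G]

namespace Coh

variable (S : Coh D F G)

include S

theorem exists_pair {r : ℕ} (h : Vis D r) : ∃ p : ℕ × ℕ, D.InRankTwoSub p.1 p.2 r := by
  obtain ⟨i, j, hij⟩ := (vis_iff D).mp h
  exact ⟨(i, j), hij⟩

/-- The root elements of the target group. -/
noncomputable def Z (r : ℕ) (t : F) : G :=
  if h : Vis D r then
    S.Φ (S.exists_pair h).choose.1 (S.exists_pair h).choose.2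
      ⟨xGL S.c r t, xGL_mem_sup S.c S.tc S.ac S.hvis S.h2 (S.exists_pair h).choose_spec t⟩
  else 1

theorem Z_eq {i j r : ℕ} (h : D.InRankTwoSub i j r) (t : F) :
    S.Z r t = S.Φ i j ⟨xGL S.c r t, xGL_mem_sup S.c S.tc S.ac S.hvis S.h2 h t⟩ := by
  unfold Z
  rw [dif_pos (vis_of_mem h)]
  exact S.Φ_wd (S.exists_pair (vis_of_mem h)).choose_spec h t _ _

theorem Z_not_vis {r : ℕ} (h : ¬ Vis D r) (t : F) : S.Z r t = 1 := by
  unfold Z
  rw [dif_neg h]

theorem wprod_Z {i j : ℕ} : ∀ {w : List (ℕ × F)} (hw : WordIn D i j w),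
    wprod S.Z w = S.Φ i j ⟨wordGL S.c w, wordGL_mem_sup S.c S.tc S.ac S.hvis S.h2 hw⟩
  | [], _ => by
    rw [wprod_nil]
    have e : (⟨wordGL S.c ([] : List (ℕ × F)), wordGL_mem_sup S.c S.tc S.ac S.hvis S.h2 (wordIn_nil i j)⟩ :
        ↥(Lr D F i ⊔ Lr D F j)) = 1 := Subtype.ext (wordGL_nil S.c)
    rw [e, map_one]
  | p :: w, hw => by
    have hw' : WordIn D i j w := fun q hq => hw q (List.mem_cons_of_mem _ hq)
    have hp : D.InRankTwoSub i j p.1 := hw p (by simp)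
    rw [wprod_cons, S.Z_eq hp, wprod_Z hw', ← map_mul]
    congr 1

/-- The homomorphism from the presented group. -/
theorem exists_hom_of_coh : ∃ Ψ : PresentedGroup (relsG S.c F) →* G, ∀ r t, Ψ (xg S.c F r t) = S.Z r t := by
  have hU : ∀ r t, ¬ r < D.nroots → S.Z r t = 1 := fun r t hr => S.Z_not_vis (fun h => hr h.lt) t
  have hrel : ∀ g ∈ relsG S.c F, FreeGroup.lift (genMap D S.Z) g = 1 := by
    rintro g (⟨r, t, hr, hnv, rfl⟩ | ⟨i, j, w₁, w₂, h₁, h₂, h, rfl⟩)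
    · rw [lift_stX D S.Z hU, S.Z_not_vis hnv]
    · rw [map_mul, map_inv, lift_stWord D S.Z hU, lift_stWord D S.Z hU, S.wprod_Z h₁, S.wprod_Z h₂, mul_inv_eq_one]
      congr 1
      exact Subtype.ext h
  refine ⟨PresentedGroup.toGroup hrel, ?_⟩
  intro r t
  show PresentedGroup.toGroup hrel (PresentedGroup.mk _ (D.stX r t)) = S.Z r t
  unfold ChevalleyDatum.stX
  by_cases h : r < D.nroots
  · rw [dif_pos h]
    exact PresentedGroup.toGroup.of hrel
  · rw [dif_neg h, map_one, map_one, hU r t h]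

/-- The images of the fundamental rank one subgroups lie in the range. -/
theorem range_φ_le {Ψ : PresentedGroup (relsG S.c F) →* G} (hΨ : ∀ r t, Ψ (xg S.c F r t) = S.Z r t) {i : ℕ}
    (hi : i < D.rank) : (S.φ i).range ≤ Ψ.range := by
  rintro _ ⟨⟨x, hx⟩, rfl⟩
  let E : Subgroup (GL D.Idx F) :=
    { carrier := {g | ∃ hg : g ∈ Lr D F i, S.φ i ⟨g, hg⟩ ∈ Ψ.range}
      mul_mem' := by
        rintro a b ⟨h₁, e₁⟩ ⟨h₂, e₂⟩
        refine ⟨Subgroup.mul_mem _ h₁ h₂, ?_⟩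
        have ea : (⟨a * b, Subgroup.mul_mem _ h₁ h₂⟩ : ↥(Lr D F i)) = ⟨a, h₁⟩ * ⟨b, h₂⟩ := rfl
        rw [ea, map_mul]
        exact Subgroup.mul_mem _ e₁ e₂
      one_mem' := by
        refine ⟨Subgroup.one_mem _, ?_⟩
        have ea : (⟨1, Subgroup.one_mem _⟩ : ↥(Lr D F i)) = 1 := rfl
        rw [ea, map_one]
        exact Subgroup.one_mem _
      inv_mem' := by
        rintro a ⟨h₁, e₁⟩
        refine ⟨Subgroup.inv_mem _ h₁, ?_⟩
        have ea : (⟨a⁻¹, Subgroup.inv_mem _ h₁⟩ : ↥(Lr D F i)) = (⟨a, h₁⟩)⁻¹ := rfl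
        rw [ea, map_inv]
        exact Subgroup.inv_mem _ e₁ }
  have hgen : ∀ r, (r = D.simple i ∨ r = D.neg (D.simple i)) → D.rootSubgroup F r ≤ E := by
    intro r hr
    unfold ChevalleyDatum.rootSubgroup
    rw [Subgroup.closure_le]
    rintro g ⟨t, hg⟩
    have e := eq_xGL S.c hg
    subst e
    have hm : D.InRankTwoSub i i r := by
      have hs : D.InRankTwoSub i i (D.simple i) := by
        refine ⟨(S.c.ncert i hi).simple_lt, hi, hi, ?_⟩
        intro m hm hmi _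
        have := S.tc.simple_cor i hi m hm
        unfold cor at this
        rw [this, if_neg hmi]
      rcases hr with rfl | rfl
      · exact hs
      · exact S.hvis.neg hs
    refine ⟨S.xGL_pm_mem_Lr hr t, ?_⟩
    have e1 := S.Z_eq hm t
    rw [S.Φ_pm hi hr hm t] at e1
    rw [← e1, ← hΨ]
    exact ⟨_, rfl⟩
  have hle : Lr D F i ≤ E := sup_le (hgen _ (Or.inl rfl)) (hgen _ (Or.inr rfl))
  obtain ⟨_, e⟩ := hle hx
  exact e

end Coh

/-- The centre of the Chevalley group is trivial. -/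
theorem center_group_eq_bot (hD : D ∈ [chevD4, chevF4, chevE6, chevE7, chevE8]) :
    Subgroup.center ↥(D.group F) = ⊥ := by
  have hD7 := mem7_of_mem5 hD
  obtain ⟨Ns, w, d, Ts, hT, Kc, base, stepT, wl, ws, sc, c, tc, gc, pc, ac, ec⟩ := exists_cert6 D hD7
  have hR2 : R2All D F := r2All_of_mem D hD7
  have hdesc := descent_all D hD7
  obtain ⟨w0, hw⟩ := Cfsg.Agent.Lib.Helper18_ChevW0Certs.exists_w0Cert D hD7
  rw [eq_bot_iff]
  intro z hz
  rw [Subgroup.mem_bot]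
  apply Subtype.ext
  apply Cfsg.Agent.Lib.Helper18_ChevFrob.eq_one_of_commute c tc ac gc hdesc hR2 hw (RingHom.id F) (z : GL D.Idx F) z.2
  intro r t _
  rw [Subgroup.mem_center_iff] at hz
  have := hz ⟨xGL c r t, xGL_mem_group c r t⟩
  exact (congrArg Subtype.val this).symm

/-- The recognition form of the Curtis–Tits theorem, relative to the pair words. -/
theorem recognition_of_pairWord (hD : D ∈ [chevD4, chevF4, chevE6, chevE7, chevE8]) [Finite F] (hpw : PairWord D)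
    (P : ℕ → Subgroup G) (hgen : ⨆ (i : ℕ) (_ : i < D.rank), P i = ⊤)
    (φ : ∀ i : ℕ, ↥(D.rootSubgroup F (D.simple i) ⊔ D.rootSubgroup F (D.neg (D.simple i))) →* G)
    (hφ : ∀ i < D.rank, (φ i).range = P i)
    (hcoh : ∀ i < D.rank, ∀ j < D.rank, ∃ Φ : ↥((D.rootSubgroup F (D.simple i) ⊔
        D.rootSubgroup F (D.neg (D.simple i))) ⊔ (D.rootSubgroup F (D.simple j) ⊔
        D.rootSubgroup F (D.neg (D.simple j)))) →* G,
      (∀ (g : GL D.Idx F) (hg : g ∈ (D.rootSubgroup F (D.simple i) ⊔ D.rootSubgroup F (D.neg (D.simple i)))),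
          Φ ⟨g, Subgroup.mem_sup_left hg⟩ = φ i ⟨g, hg⟩) ∧
        (∀ (g : GL D.Idx F) (hg : g ∈ (D.rootSubgroup F (D.simple j) ⊔ D.rootSubgroup F (D.neg (D.simple j)))),
          Φ ⟨g, Subgroup.mem_sup_right hg⟩ = φ j ⟨g, hg⟩)) :
    ∃ f : (↥(D.group F) ⧸ Subgroup.center ↥(D.group F)) →* (G ⧸ Subgroup.center G), Function.Surjective f := by
  classical
  have hD7 := mem7_of_mem5 hD
  obtain ⟨Ns, w, d, Ts, hT, Kc, base, stepT, wl, ws, sc, c, tc, gc, pc, ac, ec⟩ := exists_cert6 D hD7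
  -- the coherent system
  let Φ : ∀ i j : ℕ, ↥(Lr D F i ⊔ Lr D F j) →* G := fun i j =>
    if h : i < D.rank ∧ j < D.rank then (hcoh i h.1 j h.2).choose else 1
  have hleft : ∀ i < D.rank, ∀ j < D.rank, ∀ (g : GL D.Idx F) (hg : g ∈ Lr D F i),
      Φ i j ⟨g, Subgroup.mem_sup_left hg⟩ = φ i ⟨g, hg⟩ := by
    intro i hi j hj g hg
    show (if h : i < D.rank ∧ j < D.rank then (hcoh i h.1 j h.2).choose else 1) _ = _
    rw [dif_pos ⟨hi, hj⟩]
    exact (hcoh i hi j hj).choose_spec.1 g hg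
  have hright : ∀ i < D.rank, ∀ j < D.rank, ∀ (g : GL D.Idx F) (hg : g ∈ Lr D F j),
      Φ i j ⟨g, Subgroup.mem_sup_right hg⟩ = φ j ⟨g, hg⟩ := by
    intro i hi j hj g hg
    show (if h : i < D.rank ∧ j < D.rank then (hcoh i h.1 j h.2).choose else 1) _ = _
    rw [dif_pos ⟨hi, hj⟩]
    exact (hcoh i hi j hj).choose_spec.2 g hg
  let S : Coh D F G :=
    { Ns := Ns, wl := wl, ws := ws, sc := sc, c := c, tc := tc, ac := ac, hvis := visCert_of_mem D hD,
      h2 := rank2Cert_of_mem D hD, φ := φ, Φ := Φ, left := hleft, right := hright }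
  obtain ⟨Ψ, hΨ⟩ := S.exists_hom_of_coh
  have hΨsurj : Function.Surjective Ψ := by
    rw [← MonoidHom.range_eq_top, eq_top_iff, ← hgen]
    apply iSup_le
    intro i
    apply iSup_le
    intro hi
    rw [← hφ i hi]
    exact S.range_φ_le hΨ hi
  obtain ⟨ρ, hρsurj, -⟩ := exists_hom_relsG (F := F) hD hpw c
  obtain ⟨θ, hθsurj, hθker, -⟩ := exists_hom_ker_eq_center (F := F) D hD7
  -- the composite onto `G ⧸ Z(G)`
  let ψ : D.SteinbergGroup F →* G := Ψ.comp ρ
  have hψsurj : Function.Surjective ψ := hΨsurj.comp hρsurj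
  let q : D.SteinbergGroup F →* G ⧸ Subgroup.center G := (QuotientGroup.mk' (Subgroup.center G)).comp ψ
  have hqsurj : Function.Surjective q := (QuotientGroup.mk'_surjective _).comp hψsurj
  have hker : θ.ker ≤ q.ker := by
    intro z hz
    rw [hθker, Subgroup.mem_center_iff] at hz
    rw [MonoidHom.mem_ker]
    show (QuotientGroup.mk' (Subgroup.center G)) (ψ z) = 1
    rw [QuotientGroup.mk'_apply, QuotientGroup.eq_one_iff, Subgroup.mem_center_iff]
    intro g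
    obtain ⟨s, rfl⟩ := hψsurj g
    rw [← map_mul, ← map_mul, hz s]
  let e := QuotientGroup.quotientKerEquivOfSurjective θ hθsurj
  let f₁ : ↥(D.group F) →* G ⧸ Subgroup.center G :=
    (QuotientGroup.lift θ.ker q hker).comp e.symm.toMonoidHom
  have hf₁ : Function.Surjective f₁ := by
    intro y
    obtain ⟨s, rfl⟩ := hqsurj y
    refine ⟨θ s, ?_⟩
    show QuotientGroup.lift θ.ker q hker (e.symm (θ s)) = q s
    have : e.symm (θ s) = (s : D.SteinbergGroup F ⧸ θ.ker) := by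
      rw [MulEquiv.symm_apply_eq]
      rfl
    rw [this]
    rfl
  have hc : Subgroup.center ↥(D.group F) ≤ f₁.ker := by
    rw [center_group_eq_bot (F := F) hD]
    exact bot_le
  refine ⟨QuotientGroup.lift _ f₁ hc, ?_⟩
  intro y
  obtain ⟨x, rfl⟩ := hf₁ y
  exact ⟨(x : ↥(D.group F) ⧸ Subgroup.center ↥(D.group F)), rfl⟩

end Cfsg.Agent.Lib.Helper72_CTG
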