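/-
Curtis–Tits (helper72): in the Steinberg group the root map of a monomially acting element is unique, and the
root element `x̄_r(t)` determines `t`.
-/
import Mathlib
import Cfsg.Agent.Lib.Helper72_CT_Final
import Cfsg.Agent.Lib.Helper18_ChevRootHom
import Cfsg.Agent.Lib.Helper18_ChevCent

set_option autoImplicit false
set_option linter.unusedSectionVars false
set_option linter.unusedVariables false

namespace Cfsg.Agent.Lib.Helper72_CT

open Cfsg Cfsg.Lie Cfsg.Agent.Lib.Helper18_ChevFast Cfsg.Agent.Lib.Helper18_ChevEngine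
  Cfsg.Agent.Lib.Helper18_ChevR1 Cfsg.Agent.Lib.Helper18_ChevN Cfsg.Agent.Lib.Helper18_ChevR4
  Cfsg.Agent.Lib.Helper18_ChevSimple Cfsg.Agent.Lib.Helper18_ChevSimple2 Cfsg.Agent.Lib.Helper18_ChevFacts
  Cfsg.Agent.Lib.Helper18_ChevWeyl Cfsg.Agent.Lib.Helper18_ChevDiag Cfsg.Agent.Lib.Helper18_ChevCar
  Cfsg.Agent.Lib.Helper18_ChevTorus Cfsg.Agent.Lib.Helper18_ChevGL Cfsg.Agent.Lib.Helper18_ChevComm
  Cfsg.Agent.Lib.Helper18_ChevComm2 Cfsg.Agent.Lib.Helper18_MatTri Cfsg.Agent.Lib.Helper18_ChevTri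
  Cfsg.Agent.Lib.Helper18_ChevBorel Cfsg.Agent.Lib.Helper18_ChevAdd Cfsg.Agent.Lib.Helper18_ChevUni
  Cfsg.Agent.Lib.Helper18_ChevBN Cfsg.Agent.Lib.Helper18_ChevMono Cfsg.Agent.Lib.Helper18_ChevBNPair
  Cfsg.Agent.Lib.Helper18_ChevLevi Cfsg.Agent.Lib.Helper18_ChevSimp Cfsg.Agent.Lib.Helper18_ChevBruhat
  Cfsg.Agent.Lib.Helper18_ChevJCerts Cfsg.Agent.Lib.Helper18_ChevAutA Cfsg.Agent.Lib.Helper18_ChevCent
  Cfsg.Agent.Lib.Helper18_ChevRootHom
  Cfsg.Agent.Lib.Helper81_StUniq Cfsg.Agent.Lib.Helper81_StAbs Cfsg.Agent.Lib.Helper81_StL37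
  Cfsg.Agent.Lib.Helper81_StBruhat Cfsg.Agent.Lib.Helper81_StMain Cfsg.Agent.Lib.Helper81_StTorus
  Cfsg.Agent.Lib.Helper81_StR3 Cfsg.Agent.Lib.Helper81_StEta Cfsg.Agent.Lib.Helper81_StCerts

/-- The root element `x̄_r(t)` of the Steinberg group determines `t`. -/
theorem xs_inj72 (D : ChevalleyDatum) (hD : D ∈ [chevD4, chevF4, chevE6, chevE7, chevE8])
    (K : Type*) [Field K] {r : ℕ} (hr : r < D.nroots) {t u : K} (h : xs D K r t = xs D K r u) : t = u := by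
  have hD7 := mem7_of_mem5 hD
  obtain ⟨Ns, w, d, Ts, hT, Kc, base, stepT, wl, ws, sc, c, tc, gc, pc, ac, ec⟩ := exists_cert6 D hD7
  have hR2 : R2All D K := r2All_of_mem D hD7
  have hl := isLift_toGL (rels := D.steinbergRels K) c (lift_rels c tc hR2)
  have h1 := congrArg (toGL c (lift_rels c tc hR2)) h
  rw [hl r hr, hl r hr] at h1
  have h2 := congrArg (fun g : GL D.Idx K => (g : Matrix D.Idx D.Idx K)) h1
  simp only [xGL_coe] at h2
  exact xGL_param_inj c tc ac r hr t u h2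

/-- In the Steinberg group the root map of a monomially acting element is unique. -/
theorem monoAct_uniq72 (D : ChevalleyDatum) (hD : D ∈ [chevD4, chevF4, chevE6, chevE7, chevE8])
    (K : Type*) [Field K] {y : D.SteinbergGroup K} {σ σ' : ℕ → ℕ}
    (h : MonoAct D (xs D K) y σ) (h' : MonoAct D (xs D K) y σ') : ∀ r < D.nroots, σ r = σ' r := by
  intro r hr
  have hD7 := mem7_of_mem5 hD
  obtain ⟨Ns, w, d, Ts, hT, Kc, base, stepT, wl, ws, sc, c, tc, gc, pc, ac, ec⟩ := exists_cert6 D hD7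
  have hR2 : R2All D K := r2All_of_mem D hD7
  have hl := isLift_toGL (rels := D.steinbergRels K) c (lift_rels c tc hR2)
  obtain ⟨h1, -, a, ha, e, -⟩ := h r hr
  obtain ⟨h1', -, a', ha', e', -⟩ := h' r hr
  have h2 := (e 1).symm.trans (e' 1)
  have h3 := congrArg (toGL c (lift_rels c tc hR2)) h2
  rw [hl _ h1, hl _ h1'] at h3
  have h4 := congrArg (fun g : GL D.Idx K => (g : Matrix D.Idx D.Idx K)) h3
  simp only [xGL_coe] at h4
  exact (root_eq_of_x_eq c tc ac (σ r) (σ' r) h1 h1' (a * 1) (a' * 1) (by rwa [mul_one]) h4).symm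

end Cfsg.Agent.Lib.Helper72_CT
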