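import Mathlib
import Cfsg.Agent.Lib.Helper87_Transvection

/-!
# Transvection groups: the invariant plane (helper72)

Complement to `Helper87_Transvection.TvSetting.main`: in the transvection setting there are an `A`-invariant
complement `L` of `Zc` in `H`, centralized by all conjugates of `u`, and an `A`-invariant subgroup `W` of order `p²`
and exponent `p` with `Zc ≤ W`, `W ⊄ H` and `W L = P`.
-/

set_option autoImplicit false

namespace Cfsg.Agent.Lib.Helper72_TvMain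

open Cfsg.Agent.Lib.Helper84_Stability Cfsg.Agent.Lib.Helper87_ExtraIdx
  Cfsg.Agent.Lib.Helper87_Transvection

variable {P : Type*} [Group P]

/-- The automorphisms all of whose commutators lie in `Z` form a subgroup. -/
def commSubgroup (Z : Subgroup P) : Subgroup (MulAut P) where
  carrier := {s | ∀ x, x⁻¹ * s x ∈ Z}
  one_mem' := fun x => by simp
  mul_mem' := by
    intro a b ha hb x
    have h1 := hb x
    have h2 := ha (b x)
    have h3 : x⁻¹ * (a * b) x = (x⁻¹ * b x) * ((b x)⁻¹ * a (b x)) := by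
      rw [MulAut.mul_apply]; group
    rw [h3]
    exact Z.mul_mem h1 h2
  inv_mem' := by
    intro a ha x
    have h1 := ha (a⁻¹ x)
    rw [MulAut.apply_inv_self] at h1
    have h2 : x⁻¹ * a⁻¹ x = ((a⁻¹ x)⁻¹ * x)⁻¹ := by group
    rw [h2]
    exact Z.inv_mem h1

theorem comm_mem_of_mem_zpowers {Z H : Subgroup P} {t s : MulAut P} (h : IsTv Z H t)
    (hs : s ∈ Subgroup.zpowers t) (x : P) : x⁻¹ * s x ∈ Z := by
  have hle : Subgroup.zpowers t ≤ commSubgroup Z := by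
    rw [Subgroup.zpowers_le]
    exact h.comm_mem
  exact hle hs x

/-- Two transvections generating the same cyclic group have the same centre. -/
theorem center_eq {p : ℕ} (hp : p.Prime) {Z₁ H₁ Z₂ H₂ : Subgroup P} {t₁ t₂ : MulAut P}
    (tv₁ : IsTv Z₁ H₁ t₁) (tv₂ : IsTv Z₂ H₂ t₂) (hc₁ : Nat.card Z₁ = p) (hc₂ : Nat.card Z₂ = p)
    (hmem : t₂ ∈ Subgroup.zpowers t₁) : Z₂ = Z₁ := by
  have : Finite Z₁ := Nat.finite_of_card_ne_zero (by rw [hc₁]; exact hp.ne_zero)
  obtain ⟨x, hx⟩ : ∃ x, t₂ x ≠ x := by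
    by_contra hcon
    push Not at hcon
    apply tv₂.ne_one
    ext x
    exact hcon x
  have hd1 : x⁻¹ * t₂ x ≠ 1 := by
    intro h
    apply hx
    rw [inv_mul_eq_one] at h
    exact h.symm
  have hle : Z₂ ≤ Z₁ :=
    le_of_mem_of_card_prime hp hc₂ (tv₂.comm_mem x) (comm_mem_of_mem_zpowers tv₁ hmem x) hd1
  exact Subgroup.eq_of_le_of_card_ge hle (by rw [hc₁, hc₂])

theorem pow_eq_one_of_card_eq {p : ℕ} (hp : p.Prime) {K : Subgroup P} (hK : Nat.card K = p) {c : P}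
    (hc : c ∈ K) : c ^ p = 1 := by
  have : Finite K := Nat.finite_of_card_ne_zero (by rw [hK]; exact hp.ne_zero)
  have h1 : (⟨c, hc⟩ : K) ^ Nat.card K = 1 := pow_card_eq_one'
  have := congrArg Subtype.val h1
  rw [hK] at this
  simpa using this

theorem exists_mul_of_mem_sup' (hab : ∀ x y : P, x * y = y * x) {A B : Subgroup P}
    {x : P} (hx : x ∈ A ⊔ B) : ∃ a ∈ A, ∃ b ∈ B, x = a * b := by
  let _ : CommGroup P := { (inferInstance : Group P) with mul_comm := hab }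
  obtain ⟨a, ha, b, hb, h⟩ := Subgroup.mem_sup.1 hx
  exact ⟨a, ha, b, hb, h.symm⟩

theorem normal_of_comm (hab : ∀ x y : P, x * y = y * x) (K : Subgroup P) : K.Normal :=
  ⟨fun n hn g => by
    have : g * n * g⁻¹ = n := by rw [hab g n, mul_inv_cancel_right]
    rw [this]; exact hn⟩

/-- Cardinality of a product of two subgroups with trivial intersection, in an abelian group. -/
theorem card_sup_of_inf_eq_bot (hab : ∀ x y : P, x * y = y * x) {A B : Subgroup P}
    (h : A ⊓ B = ⊥) : Nat.card (A ⊔ B : Subgroup P) = Nat.card A * Nat.card B := by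
  have hn : B.Normal := normal_of_comm hab B
  have h1 : B.relIndex (A ⊔ B) = B.relIndex A := Subgroup.relIndex_sup_right A B
  have h2 : (B ⊓ A).relIndex A = B.relIndex A := Subgroup.inf_relIndex_right B A
  have h3 : (⊥ : Subgroup P).relIndex B * B.relIndex (A ⊔ B) = (⊥ : Subgroup P).relIndex (A ⊔ B) :=
    Subgroup.relIndex_mul_relIndex ⊥ B (A ⊔ B) bot_le le_sup_right
  rw [Subgroup.relIndex_bot_left, Subgroup.relIndex_bot_left, h1, ← h2, inf_comm, h,
    Subgroup.relIndex_bot_left] at h3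
  rw [← h3, mul_comm]

namespace TvSetting

variable {p : ℕ} {A : Subgroup (MulAut P)} {Zc H : Subgroup P} {u : MulAut P}

/-- **Main theorem on transvection groups, extended version.** -/
theorem main' [hpf : Fact p.Prime] (hS : TvSetting p A Zc H u) :
    ∃ (L W : Subgroup P),
      (∀ a ∈ A, ∀ x ∈ L, a x ∈ L) ∧ Zc ⊓ L = ⊥ ∧ Zc ⊔ L = H ∧
      (∀ b ∈ A, ∀ x ∈ L, (b * u * b⁻¹) x = x) ∧
      Zc ≤ W ∧ (∀ a ∈ A, ∀ x ∈ W, a x ∈ W) ∧ Nat.card W = p ^ 2 ∧ (∀ x ∈ W, x ^ p = 1) ∧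
      (∃ x ∈ W, x ∉ H) ∧ W ⊔ L = ⊤ := by
  have hp : p.Prime := hpf.out
  have hab := hS.hab
  have hcard := hS.card
  have tv := hS.tv
  obtain ⟨a₀, ha₀, hnn⟩ := hS.nn
  set u' := a₀ * u * a₀⁻¹ with hu'
  set Z' := Zc.map a₀.toMonoidHom with hZ'
  set H' := H.map a₀.toMonoidHom with hH'
  have tv' : IsTv Z' H' u' := tv.conj a₀
  have hcard' : Nat.card Z' = p := by
    rw [hZ', Subgroup.card_map_of_injective a₀.injective]
    exact hcard
  have hu'A : u' ∈ A := A.mul_mem (A.mul_mem ha₀ hS.mem) (A.inv_mem ha₀)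
  have hconj' : ∃ a ∈ A, u' = a * u * a⁻¹ := ⟨a₀, ha₀, rfl⟩
  -- general position
  have hZH' : ¬ Zc ≤ H' := fun hle => hnn (hS.mem_zpowers hS.self_conj hconj' tv tv' hle)
  have hZ'H : ¬ Z' ≤ H := by
    intro hle
    have h1 : u ∈ Subgroup.zpowers u' := hS.mem_zpowers hconj' hS.self_conj tv' tv hle
    have h2 : Subgroup.zpowers u' ≤ Subgroup.zpowers u :=
      le_of_mem_of_card_prime hp (tv'.card_zpowers hcard' hp) h1 (Subgroup.mem_zpowers u) tv.ne_one
    exact hnn (h2 (Subgroup.mem_zpowers u'))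
  -- generators
  obtain ⟨z₀, hz₀, hz₀1⟩ : ∃ z₀ ∈ Zc, z₀ ≠ 1 := by
    by_contra hcon
    push Not at hcon
    have : Zc = ⊥ := by
      rw [eq_bot_iff]
      intro z hz
      rw [Subgroup.mem_bot]
      exact hcon z hz
    rw [this, Subgroup.card_bot] at hcard
    exact hp.one_lt.ne hcard
  have hZgen : Zc ≤ Subgroup.zpowers z₀ :=
    le_of_mem_of_card_prime hp hcard hz₀ (Subgroup.mem_zpowers z₀) hz₀1
  have hz₀H' : z₀ ∉ H' := fun h => hZH' (hZgen.trans ((Subgroup.zpowers_le).2 h))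
  set z' := (u' z₀)⁻¹ * z₀ with hz'
  have hz'Z : z' ∈ Z' := by
    have := Z'.inv_mem (tv'.comm_mem z₀)
    rwa [mul_inv_rev, inv_inv] at this
  have hz'1 : z' ≠ 1 := by
    intro h
    apply hz₀H'
    rw [← tv'.fix_iff]
    rw [hz', inv_mul_eq_one] at h
    exact h
  have hu'z₀ : u' z₀ = z₀ * z'⁻¹ := by rw [hz']; group
  have hZ'gen : Z' ≤ Subgroup.zpowers z' :=
    le_of_mem_of_card_prime hp hcard' hz'Z (Subgroup.mem_zpowers z') hz'1
  have hz'H : z' ∉ H := fun h => hZ'H (hZ'gen.trans ((Subgroup.zpowers_le).2 h))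
  set c := z'⁻¹ * u z' with hc
  have hcZ : c ∈ Zc := tv.comm_mem z'
  have hc1 : c ≠ 1 := fun h => hz'H ((tv.comm_eq_one_iff z').1 h)
  obtain ⟨j, hj⟩ := exists_pow_eq hp hcard hcZ hc1 hz₀
  set ut := u ^ j with hut
  have hutz' : ut z' = z' * z₀ := by rw [hut, tv.pow_apply, ← hc, hj]
  have hutfix : ∀ x ∈ H, ut x = x := fun x hx => tv.pow_fix j hx
  have hutz₀ : ut z₀ = z₀ := hutfix z₀ (tv.le hz₀)
  have hutA : ut ∈ A := A.pow_mem hS.mem j
  have hu'z' : u' z' = z' := tv'.fix (tv'.le hz'Z)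
  set L := H ⊓ H' with hL
  set W := Zc ⊔ Z' with hW
  have hz₀W : z₀ ∈ W := (le_sup_left : Zc ≤ W) hz₀
  have hz'W : z' ∈ W := (le_sup_right : Z' ≤ W) hz'Z
  -- for every conjugate `t` of `u`: its centre lies in `W`, and it centralizes `L`
  have hstar : ∀ b ∈ A, (∀ x ∈ L, (b * u * b⁻¹) x = x) ∧ Zc.map b.toMonoidHom ≤ W := by
    intro b hb
    have tvt : IsTv (Zc.map b.toMonoidHom) (H.map b.toMonoidHom) (b * u * b⁻¹) := tv.conj b
    have hcardt : Nat.card (Zc.map b.toMonoidHom) = p := by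
      rw [Subgroup.card_map_of_injective b.injective]
      exact hcard
    have hconjt : ∃ a ∈ A, b * u * b⁻¹ = a * u * a⁻¹ := ⟨b, hb, rfl⟩
    set t := b * u * b⁻¹ with ht
    by_cases h0 : z₀⁻¹ * t z₀ = 1
    · have hz₀t : z₀ ∈ H.map b.toMonoidHom := (tvt.comm_eq_one_iff z₀).1 h0
      have hle : Zc ≤ H.map b.toMonoidHom := hZgen.trans ((Subgroup.zpowers_le).2 hz₀t)
      have hmem := hS.mem_zpowers hS.self_conj hconjt tv tvt hle
      refine ⟨fun x hx => tv.zpow_fix hmem hx.1, ?_⟩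
      rw [center_eq hp tv tvt hcard hcardt hmem]
      exact le_sup_left
    · have hmemt : (z'⁻¹ * t z')⁻¹ ∈ Zc.map b.toMonoidHom := Subgroup.inv_mem _ (tvt.comm_mem z')
      obtain ⟨m, hm⟩ := exists_pow_eq hp hcardt (tvt.comm_mem z₀) h0 hmemt
      set w := z' * z₀ ^ m with hw
      have hwt : w ∈ H.map b.toMonoidHom := by
        rw [← tvt.comm_eq_one_iff, hw, tvt.comm_mul hab, tvt.comm_pow hab, hm, mul_inv_cancel]
      -- the conjugate `s`
      set s := ut ^ m * u' * (ut ^ m)⁻¹ with hs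
      have tvs : IsTv (Z'.map (ut ^ m).toMonoidHom) (H'.map (ut ^ m).toMonoidHom) s := tv'.conj (ut ^ m)
      have hcards : Nat.card (Z'.map (ut ^ m).toMonoidHom) = p := by
        rw [Subgroup.card_map_of_injective (ut ^ m).injective]
        exact hcard'
      have hconjs : ∃ a ∈ A, s = a * u * a⁻¹ := by
        refine ⟨ut ^ m * a₀, A.mul_mem (A.pow_mem hutA m) ha₀, ?_⟩
        rw [hs, hu']
        group
      have hutm : (ut ^ m) z' = w := by
        rw [hut, ← pow_mul, tv.pow_apply, ← hc, pow_mul, hj]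
      have hws : w ∈ Z'.map (ut ^ m).toMonoidHom := ⟨z', hz'Z, hutm⟩
      have hw1 : w ≠ 1 := by
        intro h
        apply hz'1
        have h1 : (ut ^ m) z' = (ut ^ m) 1 := by rw [hutm, h, map_one]
        exact (ut ^ m).injective h1
      have hgen : Z'.map (ut ^ m).toMonoidHom ≤ Subgroup.zpowers w :=
        le_of_mem_of_card_prime hp hcards hws (Subgroup.mem_zpowers w) hw1
      have hle : Z'.map (ut ^ m).toMonoidHom ≤ H.map b.toMonoidHom :=
        hgen.trans ((Subgroup.zpowers_le).2 hwt)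
      have hmem := hS.mem_zpowers hconjs hconjt tvs tvt hle
      refine ⟨fun x hx => ?_, ?_⟩
      · have hxs : x ∈ H'.map (ut ^ m).toMonoidHom := by
          refine ⟨x, hx.2, ?_⟩
          show (ut ^ m) x = x
          rw [hut, ← pow_mul]
          exact tv.pow_fix _ hx.1
        exact tvs.zpow_fix hmem hxs
      · rw [center_eq hp tvs tvt hcards hcardt hmem]
        refine hgen.trans ((Subgroup.zpowers_le).2 ?_)
        rw [hw]
        exact W.mul_mem hz'W (W.pow_mem hz₀W m)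
  -- invariance of `W`
  have hWinv : ∀ a ∈ A, ∀ x ∈ W, a x ∈ W := by
    intro a ha x hx
    obtain ⟨y, hy, y', hy', rfl⟩ := exists_mul_of_mem_sup' hab hx
    obtain ⟨y₁, hy₁, rfl⟩ := hy'
    rw [map_mul]
    refine W.mul_mem ((hstar a ha).2 ⟨y, hy, rfl⟩) ?_
    have := (hstar (a * a₀) (A.mul_mem ha ha₀)).2 ⟨y₁, hy₁, rfl⟩
    exact this
  have hinterZ : Zc ⊓ Z' = ⊥ := by
    rw [eq_bot_iff]
    intro x hx
    rw [Subgroup.mem_bot]
    by_contra hx1
    exact hZH' ((le_of_mem_of_card_prime hp hcard hx.1 (Subgroup.mem_zpowers x) hx1).trans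
      ((Subgroup.zpowers_le).2 (tv'.le hx.2)))
  have hsupH : Zc ⊔ L = H := by
    apply le_antisymm (sup_le tv.le inf_le_left)
    intro x hx
    have hd : x⁻¹ * u' x ∈ Z' := tv'.comm_mem x
    have hgen : z₀⁻¹ * u' z₀ ∈ Z' := tv'.comm_mem z₀
    have hgen1 : z₀⁻¹ * u' z₀ ≠ 1 := fun h => hz₀H' ((tv'.comm_eq_one_iff z₀).1 h)
    obtain ⟨k, hk⟩ := exists_pow_eq hp hcard' hgen hgen1 hd
    set y := x * (z₀ ^ k)⁻¹ with hy
    have hyH' : y ∈ H' := by
      rw [← tv'.comm_eq_one_iff, hy, tv'.comm_mul hab, ← hk]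
      have h1 : ((z₀ ^ k)⁻¹)⁻¹ * u' (z₀ ^ k)⁻¹ = ((z₀ ^ k)⁻¹ * u' (z₀ ^ k))⁻¹ := by
        rw [map_inv, mul_inv_rev, inv_inv]
        exact hab _ _
      rw [h1, tv'.comm_pow hab, mul_inv_cancel]
    have hyH : y ∈ H := H.mul_mem hx (H.inv_mem (H.pow_mem (tv.le hz₀) k))
    have hxy : x = z₀ ^ k * y := by rw [hy, hab (z₀ ^ k)]; group
    rw [hxy]
    exact Subgroup.mul_mem_sup (Zc.pow_mem hz₀ k) ⟨hyH, hyH'⟩
  refine ⟨L, W, ?_, ?_, hsupH, fun b hb => (hstar b hb).1, le_sup_left, hWinv, ?_, ?_,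
    ⟨z', hz'W, hz'H⟩, ?_⟩
  · -- invariance of `L`
    intro a ha x hx
    refine ⟨(tv.fix_iff _).1 ?_, (tv'.fix_iff _).1 ?_⟩
    · have h1 := (hstar a⁻¹ (A.inv_mem ha)).1 x hx
      rw [inv_inv, MulAut.mul_apply, MulAut.mul_apply] at h1
      have h2 : a (a⁻¹ (u (a x))) = a x := by rw [h1]
      rwa [MulAut.apply_inv_self] at h2
    · have h1 := (hstar (a⁻¹ * a₀) (A.mul_mem (A.inv_mem ha) ha₀)).1 x hx
      have h2 : a⁻¹ * a₀ * u * (a⁻¹ * a₀)⁻¹ = a⁻¹ * u' * a := by rw [hu']; group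
      rw [h2, MulAut.mul_apply, MulAut.mul_apply] at h1
      have h3 : a (a⁻¹ (u' (a x))) = a x := by rw [h1]
      rwa [MulAut.apply_inv_self] at h3
  · -- trivial intersection
    rw [eq_bot_iff]
    intro x hx
    rw [Subgroup.mem_bot]
    by_contra hx1
    exact hZH' ((le_of_mem_of_card_prime hp hcard hx.1 (Subgroup.mem_zpowers x) hx1).trans
      ((Subgroup.zpowers_le).2 hx.2.2))
  · -- cardinality of `W`
    rw [hW, card_sup_of_inf_eq_bot hab hinterZ, hcard, hcard', sq]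
  · -- exponent of `W`
    intro x hx
    obtain ⟨y, hy, y', hy', rfl⟩ := exists_mul_of_mem_sup' hab hx
    have hcomm : Commute y y' := hab y y'
    rw [hcomm.mul_pow, pow_eq_one_of_card_eq hp hcard hy, pow_eq_one_of_card_eq hp hcard' hy', one_mul]
  · -- `W L = P`
    rw [eq_top_iff]
    intro x _
    have hd : x⁻¹ * u x ∈ Zc := tv.comm_mem x
    obtain ⟨k, hk⟩ := exists_pow_eq hp hcard hcZ hc1 hd
    set y := x * (z' ^ k)⁻¹ with hy
    have hyH : y ∈ H := by
      rw [← tv.comm_eq_one_iff, hy, tv.comm_mul hab, ← hk]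
      have h1 : ((z' ^ k)⁻¹)⁻¹ * u (z' ^ k)⁻¹ = ((z' ^ k)⁻¹ * u (z' ^ k))⁻¹ := by
        rw [map_inv, mul_inv_rev, inv_inv]
        exact hab _ _
      rw [h1, tv.comm_pow hab, ← hc, mul_inv_cancel]
    have hxy : x = z' ^ k * y := by rw [hy, hab (z' ^ k)]; group
    rw [hxy]
    rw [← hsupH] at hyH
    obtain ⟨a, ha, l, hl, hal⟩ := exists_mul_of_mem_sup' hab hyH
    rw [hal, ← mul_assoc]
    exact Subgroup.mul_mem_sup (W.mul_mem (W.pow_mem hz'W k) ((le_sup_left : Zc ≤ W) ha)) hl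

end TvSetting

end Cfsg.Agent.Lib.Helper72_TvMain
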