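import Mathlib
import Cfsg.Agent.Lib.Helper87_ClassTwo
import Cfsg.Agent.Lib.Helper72_TvMain

/-!
# Essential subgroups in class two with derived subgroup of order `p`: extended data (helper72)

Setting of `Helper87_ClassTwo` (`CTwo p S Zq`).  For an essential subgroup `E` we produce, besides the
`Aut_F(E)`-invariant complement `L` of `Zq` in `Z(S)`:
* every `α ∈ Aut_F(E)` acts on `L` as the restriction of an `F`-automorphism of `S` (Frattini argument);
* an `Aut_F(E)`-invariant subgroup `W ≤ E` of order `p²` and exponent `p` with `Zq ≤ W`, `W ⊄ Z(S)`, `E = W L`.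
-/

set_option autoImplicit false

namespace Cfsg.Agent.Lib.Helper72_CTwoEss

open Cfsg Cfsg.FusionSystem Cfsg.Agent.Lib.Helper48_SPE Cfsg.Agent.Lib.Helper84_Stability
  Cfsg.Agent.Lib.Helper87_ExtraIdx Cfsg.Agent.Lib.Helper87_Alperin Cfsg.Agent.Lib.Helper87_ClassTwo

variable {Ω : Type*} [Group Ω] {S : Subgroup Ω}

/-- Extended data attached to an essential subgroup `E`. -/
structure EData' (F : FusionSystem S) (p : ℕ) (Zq E L W : Subgroup Ω) : Prop where
  ES : E ≤ S
  ZE : S ⊓ Subgroup.centralizer (S : Set Ω) ≤ E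
  abel : ∀ a ∈ E, ∀ b ∈ E, a * b = b * a
  cardE : Nat.card S = Nat.card E * p
  LE : L ≤ E
  LZ : L ≤ S ⊓ Subgroup.centralizer (S : Set Ω)
  dec : ∀ x ∈ S ⊓ Subgroup.centralizer (S : Set Ω), ∃ z ∈ Zq, ∃ l ∈ L, x = z * l
  inter : ∀ x ∈ Zq, x ∈ L → x = 1
  inv : ∀ α ∈ F.autGroup E, ∀ x : E, (x : Ω) ∈ L → ((α x : E) : Ω) ∈ L
  ext : ∀ α ∈ F.autGroup E, ∃ f : Ω → Ω, IsMapOn F S f ∧ ∀ x : E, (x : Ω) ∈ L → ((α x : E) : Ω) = f x
  WE : W ≤ E
  ZW : Zq ≤ W
  cardW : Nat.card W = p ^ 2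
  expW : ∀ x ∈ W, x ^ p = 1
  exW : ∃ x ∈ W, x ∉ S ⊓ Subgroup.centralizer (S : Set Ω)
  invW : ∀ α ∈ F.autGroup E, ∀ x : E, (x : Ω) ∈ W → ((α x : E) : Ω) ∈ W
  decE : ∀ x ∈ E, ∃ w ∈ W, ∃ l ∈ L, x = w * l

/-- The automorphisms fixing `L` pointwise. -/
def fixSubgroup {P : Type*} [Group P] (L : Subgroup P) : Subgroup (MulAut P) where
  carrier := {s | ∀ x ∈ L, s x = x}
  one_mem' := fun x _ => rfl
  mul_mem' := by
    intro a b ha hb x hx
    rw [MulAut.mul_apply, hb x hx, ha x hx]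
  inv_mem' := by
    intro a ha x hx
    have h1 := ha x hx
    have h2 : a⁻¹ (a x) = x := MulAut.inv_apply_self _ _ _
    rw [h1] at h2
    exact h2

variable [Finite S] {p : ℕ} [Fact p.Prime] {Zq : Subgroup Ω}

open Cfsg.Agent.Lib.Helper87_Transvection Cfsg.Agent.Lib.Helper84_RelSylow Cfsg.Agent.Lib.Helper72_TvMain in
/-- Existence of the extended data attached to an essential subgroup. -/
theorem exists_edata' (hS : IsPGroup p S) {F : FusionSystem S} (hF : F.IsSaturated p)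
    (hC : CTwo p S Zq) {E : Subgroup Ω} (hE : F.IsEssential p E) :
    ∃ (L W : Subgroup Ω), EData' F p Zq E L W := by
  classical
  have hp : p.Prime := Fact.out
  have hES : E ≤ S := hE.1.1
  have hcen : centralizerIn S E ≤ E := hE.1.2 E (Cfsg.Agent.Lib.Helper84_Fusion.isConj_refl F hES)
  have hab := abelian_of_isEssential hS hF hC hE
  have hlt := Cfsg.Agent.Lib.Helper88_Essential.lt_of_isEssential hS F hF hE
  have hcard := card_of_isEssential hS hF hC hE
  have hrad : F.IsRadical p E := Cfsg.Agent.S5080.result p hS F hF E hE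
  have hfn : F.IsFullyNormalized E := hE.2.1
  have : Finite E := Finite.of_injective (Subgroup.inclusion hES) (Subgroup.inclusion_injective hES)
  have hEp : IsPGroup p E := hS.to_le hES
  have habE : ∀ x y : E, x * y = y * x := fun x y => Subtype.ext (hab x x.2 y y.2)
  -- `Z(S) ≤ E`
  have hZSE : S ⊓ Subgroup.centralizer (S : Set Ω) ≤ E := by
    intro x hx
    apply hcen
    exact ⟨hx.1, Subgroup.centralizer_le (show (E : Set Ω) ⊆ S from hES) hx.2⟩
  have hZqE : Zq ≤ E := hC.le.trans hZSE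
  -- `E` is normal in `S`
  have hN : ∀ g ∈ S, g ∈ Subgroup.normalizer (E : Set Ω) := by
    intro g hg
    rw [Subgroup.mem_normalizer_iff]
    intro e
    constructor
    · intro he
      have h1 := hZqE (hC.comm g hg e (hES he))
      have h2 : g * e * g⁻¹ = (g * e * g⁻¹ * e⁻¹) * e := by group
      rw [h2]
      exact E.mul_mem h1 he
    · intro he
      have h1 := hZqE (hC.comm g⁻¹ (S.inv_mem hg) _ (hES he))
      have h2 : e = (g⁻¹ * (g * e * g⁻¹) * g⁻¹⁻¹ * (g * e * g⁻¹)⁻¹) * (g * e * g⁻¹) := by group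
      rw [h2]
      exact E.mul_mem h1 he
  have hSN : S ≤ Subgroup.normalizer (E : Set Ω) := hN
  obtain ⟨x₀, hx₀S, hx₀E⟩ := SetLike.exists_of_lt hlt
  -- the conjugation homomorphism
  set ψ : S →* MulAut E := E.normalizerMonoidHom.comp (Subgroup.inclusion hSN) with hψ
  have hψapp : ∀ (g : S) (x : E), ((ψ g x : E) : Ω) = g * x * (g : Ω)⁻¹ := fun g x => rfl
  set A := F.autGroup E with hA
  set T := autInducedBy S E with hT
  have hTmem : ∀ α : MulAut E, α ∈ T ↔ ∃ g : S, ψ g = α := by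
    intro α
    rw [hT, mem_autInducedBy_iff]
    constructor
    · rintro ⟨g, hg, hgα⟩
      refine ⟨⟨g, hg⟩, ?_⟩
      ext x
      rw [hψapp, hgα]
    · rintro ⟨g, rfl⟩
      exact ⟨g, g.2, fun x => hψapp g x⟩
  have hTrange : T = ψ.range := by
    ext α
    rw [hTmem, MonoidHom.mem_range]
  have hker : ψ.ker = E.subgroupOf S := by
    ext g
    rw [MonoidHom.mem_ker, Subgroup.mem_subgroupOf]
    constructor
    · intro h
      apply hcen
      refine ⟨g.2, ?_⟩
      show (g : Ω) ∈ Subgroup.centralizer (E : Set Ω)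
      rw [Subgroup.mem_centralizer_iff]
      intro t ht
      have h1 := hψapp g ⟨t, ht⟩
      rw [h] at h1
      have h2 : t = g * t * (g : Ω)⁻¹ := h1
      calc t * g = (g * t * (g : Ω)⁻¹) * g := by rw [← h2]
        _ = g * t := by group
    · intro hg
      ext x
      rw [hψapp, MulAut.one_apply, hab g hg x x.2]
      group
  have hcardE : Nat.card (E.subgroupOf S) = Nat.card E :=
    Nat.card_congr (Subgroup.subgroupOfEquivOfLe hES).toEquiv
  have hcardT : Nat.card T = p := by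
    rw [hTrange, ← Subgroup.index_ker, hker]
    have hmul := Subgroup.card_mul_index (E.subgroupOf S)
    rw [hcardE, hcard] at hmul
    exact Nat.eq_of_mul_eq_mul_left Nat.card_pos hmul
  set u := ψ ⟨x₀, hx₀S⟩ with hu
  have huT : u ∈ T := (hTmem u).2 ⟨_, rfl⟩
  have hu1 : u ≠ 1 := by
    intro h
    have : (⟨x₀, hx₀S⟩ : S) ∈ ψ.ker := h
    rw [hker, Subgroup.mem_subgroupOf] at this
    exact hx₀E this
  have hTle : T ≤ Subgroup.zpowers u :=
    le_of_mem_of_card_prime hp hcardT huT (Subgroup.mem_zpowers u) hu1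
  have hTA : T ≤ A := autInducedBy_le_autGroup F hES
  have hSyl : Cfsg.Agent.Lib.Helper84_RelSylow.IsSylowIn p T A :=
    Cfsg.Agent.Lib.Helper84_FusionSat.isSylowIn_of_isFullyAutomized F
      (Cfsg.Agent.Lib.Helper84_FusionRS.IsSaturated.isFullyAutomized hS hF hfn)
  have hInn : Inn E = ⊥ := Cfsg.Agent.Lib.Helper88_AbelianEssential.inn_eq_bot habE
  -- the transvection setting
  set Zc : Subgroup E := Zq.subgroupOf E with hZc
  set H : Subgroup E := (S ⊓ Subgroup.centralizer (S : Set Ω)).subgroupOf E with hH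
  have hcardS : ∀ C : Subgroup Ω, E < C → C ≤ S → C = S := by
    intro C hEC hCS
    have h1 : Nat.card E ∣ Nat.card C := Subgroup.card_dvd_of_le hEC.le
    have : Finite C := Finite.of_injective (Subgroup.inclusion hCS) (Subgroup.inclusion_injective hCS)
    have h2 : Nat.card C ∣ Nat.card S := Subgroup.card_dvd_of_le hCS
    obtain ⟨m, hm⟩ := h1
    have hEpos : 0 < Nat.card E := Nat.card_pos
    have hmp : m ∣ p := by
      rw [hm, hcard] at h2
      exact (Nat.mul_dvd_mul_iff_left hEpos).1 h2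
    rcases (Nat.dvd_prime hp).1 hmp with h | h
    · exfalso
      rw [h, mul_one] at hm
      exact hEC.ne (Subgroup.eq_of_le_of_card_ge hEC.le hm.le)
    · apply Subgroup.eq_of_le_of_card_ge hCS
      rw [hm, h, hcard]
  have tv : IsTv Zc H u := by
    refine ⟨hu1, ?_, ?_, ?_⟩
    · intro x
      rw [hZc, Subgroup.mem_subgroupOf]
      have h1 := hC.comm _ (S.inv_mem (hES x.2)) x₀ hx₀S
      have h2 : ((x : Ω))⁻¹ * x₀ * ((x : Ω))⁻¹⁻¹ * x₀⁻¹ = (x : Ω)⁻¹ * (x₀ * x * x₀⁻¹) := by group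
      rw [h2] at h1
      exact h1
    · intro x
      rw [hH, Subgroup.mem_subgroupOf]
      constructor
      · intro hx
        have hx' : x₀ * (x : Ω) * x₀⁻¹ = x := congrArg Subtype.val hx
        have hcomm : x₀ * (x : Ω) = x * x₀ := by
          calc x₀ * (x : Ω) = (x₀ * x * x₀⁻¹) * x₀ := by group
            _ = x * x₀ := by rw [hx']
        have hlt' : E < S ⊓ Subgroup.centralizer {(x : Ω)} := by
          refine lt_of_le_of_ne ?_ ?_
          · intro e he
            refine ⟨hES he, ?_⟩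
            show e ∈ Subgroup.centralizer {(x : Ω)}
            rw [Subgroup.mem_centralizer_singleton_iff]
            exact hab e he x x.2
          · intro heq
            apply hx₀E
            rw [heq]
            refine ⟨hx₀S, ?_⟩
            show x₀ ∈ Subgroup.centralizer {(x : Ω)}
            rw [Subgroup.mem_centralizer_singleton_iff]
            exact hcomm
        have htop := hcardS _ hlt' inf_le_left
        refine ⟨hES x.2, ?_⟩
        show (x : Ω) ∈ Subgroup.centralizer (S : Set Ω)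
        rw [Subgroup.mem_centralizer_iff]
        intro g hg
        have : g ∈ S ⊓ Subgroup.centralizer {(x : Ω)} := by rw [htop]; exact hg
        have h3 : g ∈ Subgroup.centralizer {(x : Ω)} := this.2
        rw [Subgroup.mem_centralizer_singleton_iff] at h3
        exact h3
      · intro hx
        apply Subtype.ext
        rw [hψapp]
        show x₀ * (x : Ω) * x₀⁻¹ = x
        have := Subgroup.mem_centralizer_iff.mp hx.2 x₀ hx₀S
        rw [this]
        group
    · intro z hz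
      rw [hZc, Subgroup.mem_subgroupOf] at hz
      rw [hH, Subgroup.mem_subgroupOf]
      exact hC.le hz
  have hcardZc : Nat.card Zc = p := by
    rw [hZc, Nat.card_congr (Subgroup.subgroupOfEquivOfLe hZqE).toEquiv]
    exact hC.card
  have hset : TvSetting p A Zc H u := by
    refine ⟨habE, hcardZc, tv, hTA huT, ?_, ?_⟩
    · rintro t₁ t₂ ⟨a, haA, rfl⟩ ⟨b, hbA, rfl⟩ c h0 hmono ⟨n, hn⟩ hs₁ hs₂
      set R := stabilityGroup c hmono A with hR
      have hRp : IsPGroup p R := isPGroup_stabilityGroup hEp h0 hmono hn A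
      have huA : u ∈ A := hTA huT
      have ht₁R : a * u * a⁻¹ ∈ R :=
        ⟨A.mul_mem (A.mul_mem haA huA) (A.inv_mem haA), hs₁⟩
      have ht₂R : b * u * b⁻¹ ∈ R :=
        ⟨A.mul_mem (A.mul_mem hbA huA) (A.inv_mem hbA), hs₂⟩
      obtain ⟨g, -, hg⟩ := hSyl.exists_conj_le (stabilityGroup_le c hmono A) hRp
      have hv₁ := hg _ ht₁R
      have hv₂ := hg _ ht₂R
      have hv₁1 : g * (a * u * a⁻¹) * g⁻¹ ≠ 1 := by
        intro h
        apply hu1
        have : u = (g * a)⁻¹ * (g * (a * u * a⁻¹) * g⁻¹) * (g * a) := by group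
        rw [this, h]
        group
      have hle := le_of_mem_of_card_prime hp hcardT hv₁ (Subgroup.mem_zpowers _) hv₁1
      obtain ⟨k, hk⟩ := Subgroup.mem_zpowers_iff.1 (hle hv₂)
      rw [Subgroup.mem_zpowers_iff]
      refine ⟨k, ?_⟩
      have h1 : (g * (a * u * a⁻¹) * g⁻¹) ^ k = g * (a * u * a⁻¹) ^ k * g⁻¹ := conj_zpow
      rw [h1] at hk
      have h2 : g⁻¹ * (g * (a * u * a⁻¹) ^ k * g⁻¹) * g = g⁻¹ * (g * (b * u * b⁻¹) * g⁻¹) * g := by
        rw [hk]
      have h3 : g⁻¹ * (g * (a * u * a⁻¹) ^ k * g⁻¹) * g = (a * u * a⁻¹) ^ k := by group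
      have h4 : g⁻¹ * (g * (b * u * b⁻¹) * g⁻¹) * g = b * u * b⁻¹ := by group
      rw [h3, h4] at h2
      exact h2
    · by_contra hcon
      push Not at hcon
      set N := Subgroup.zpowers u with hNdef
      have hNp : IsPGroup p N := hSyl.isPGroup.to_le ((Subgroup.zpowers_le).2 huT)
      have hn : (N.subgroupOf A).Normal := by
        constructor
        intro n hn a
        rw [Subgroup.mem_subgroupOf] at hn ⊢
        obtain ⟨k, hk⟩ := Subgroup.mem_zpowers_iff.1 hn
        have h1 : ((a * n * a⁻¹ : A) : MulAut E) = (a : MulAut E) * u ^ k * (a : MulAut E)⁻¹ := by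
          rw [hk]; rfl
        rw [h1, ← conj_zpow]
        exact N.zpow_mem (hcon a a.2) k
      have hle := Cfsg.Agent.Lib.Helper88_AbelianEssential.le_inn_of_normal_pgroup hrad.2 hn hNp
      have : u ∈ N ⊓ A := ⟨Subgroup.mem_zpowers u, hTA huT⟩
      have h2 := hle this
      rw [hInn, Subgroup.mem_bot] at h2
      exact hu1 h2
  obtain ⟨L₀, W₀, hLinv, hinter, hsup, hstar, hZW, hWinv, hWcard, hWexp, ⟨xw, hxwW, hxwH⟩, hWL⟩ :=
    TvSetting.main' hset
  -- extension of automorphisms normalizing `⟨u⟩`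
  have hEr : F.IsReceptive E :=
    Cfsg.Agent.Lib.Helper84_FusionRS.IsSaturated.isReceptive_of_isFullyNormalized hS hF hfn
  have hextend : ∀ τ ∈ A, τ * u * τ⁻¹ ∈ Subgroup.zpowers u →
      ∃ δ : Ω → Ω, IsMapOn F S δ ∧ ∀ x ∈ E, δ x = extFun τ x := by
    intro τ hτA hτu
    obtain ⟨δ, hδmap, hδE⟩ := Cfsg.Agent.Lib.Helper87_Alperin2.exists_extension_extender F hEr hτA
    have hSext : S ≤ extender S E (Cfsg.Agent.Lib.Helper87_Alperin2.autHom τ) := by
      intro g hg
      have hgT : ψ ⟨g, hg⟩ ∈ T := (hTmem _).2 ⟨_, rfl⟩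
      obtain ⟨k, hk⟩ := Subgroup.mem_zpowers_iff.1 (hTle hgT)
      have h1 : τ * ψ ⟨g, hg⟩ * τ⁻¹ ∈ T := by
        rw [← hk, ← conj_zpow]
        obtain ⟨m, hm⟩ := Subgroup.mem_zpowers_iff.1 hτu
        rw [← hm, ← zpow_mul]
        exact T.zpow_mem huT _
      obtain ⟨h, hh⟩ := (hTmem _).1 h1
      refine Subgroup.subset_closure ⟨hg, hN g hg, h, h.2, ?_⟩
      intro x hx
      have h2 : (⟨g * x * g⁻¹, hx⟩ : E) = ψ ⟨g, hg⟩ x := Subtype.ext (hψapp ⟨g, hg⟩ x).symm
      rw [Cfsg.Agent.Lib.Helper87_Alperin2.autHom_apply, Cfsg.Agent.Lib.Helper87_Alperin2.autHom_apply, h2]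
      have h3 : τ (ψ ⟨g, hg⟩ x) = (τ * ψ ⟨g, hg⟩ * τ⁻¹) (τ x) := by
        simp [MulAut.mul_apply]
      rw [h3, ← hh, hψapp]
    exact ⟨δ, hδmap.mono hSext, hδE⟩
  have huA : u ∈ A := hTA huT
  have : Finite A := inferInstance
  -- Frattini argument
  have hfrat : ∀ α ∈ A, ∃ f : Ω → Ω, IsMapOn F S f ∧ ∀ x : E, x ∈ L₀ → ((α x : E) : Ω) = f x := by
    intro α hα
    set v := α * u * α⁻¹ with hv
    have hvA : v ∈ A := A.mul_mem (A.mul_mem hα huA) (A.inv_mem hα)
    set D : Subgroup (MulAut E) := Subgroup.closure {u, v} with hD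
    have huD : u ∈ D := Subgroup.subset_closure (Set.mem_insert _ _)
    have hvD : v ∈ D := Subgroup.subset_closure (Set.mem_insert_of_mem _ rfl)
    have hDA : D ≤ A := by
      rw [hD, Subgroup.closure_le]
      rintro x (rfl | rfl)
      · exact huA
      · exact hvA
    have hTD : T ≤ D := hTle.trans ((Subgroup.zpowers_le).2 huD)
    have hSylD : Cfsg.Agent.Lib.Helper84_RelSylow.IsSylowIn p T D := hSyl.mono hTD hDA
    have hDfix : D ≤ fixSubgroup L₀ := by
      rw [hD, Subgroup.closure_le]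
      rintro x (rfl | rfl)
      · intro y hy
        have := hstar 1 A.one_mem y hy
        simpa using this
      · intro y hy
        exact hstar α hα y hy
    have hvp : v ^ p ^ 1 = 1 := by
      rw [pow_one, hv, conj_pow, tv.pow_eq_one hcardZc hp]
      group
    have hKp : IsPGroup p (Subgroup.zpowers v) :=
      Cfsg.Agent.Lib.Helper84_FusionEssential.isPGroup_zpowers_of_pow_eq_one hvp
    have : Finite D := Finite.of_injective (Subgroup.inclusion hDA) (Subgroup.inclusion_injective hDA)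
    obtain ⟨h, hhD, hh⟩ := hSylD.exists_conj_le ((Subgroup.zpowers_le).2 hvD) hKp
    have hhv : h * v * h⁻¹ ∈ Subgroup.zpowers u := hTle (hh v (Subgroup.mem_zpowers v))
    set τ := h * α with hτ
    have hτA : τ ∈ A := A.mul_mem (hDA hhD) hα
    have hτu : τ * u * τ⁻¹ ∈ Subgroup.zpowers u := by
      have : τ * u * τ⁻¹ = h * v * h⁻¹ := by rw [hτ, hv]; group
      rw [this]
      exact hhv
    obtain ⟨δ, hδS, hδE⟩ := hextend τ hτA hτu
    refine ⟨δ, hδS, fun x hx => ?_⟩
    rw [hδE _ x.2, extFun_coe, hτ, MulAut.mul_apply, hDfix hhD _ (hLinv α hα x hx)]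
  refine ⟨L₀.map E.subtype, W₀.map E.subtype, ⟨hES, hZSE, hab, hcard, Subgroup.map_subtype_le _, ?_, ?_, ?_, ?_, ?_,
    Subgroup.map_subtype_le _, ?_, ?_, ?_, ?_, ?_, ?_⟩⟩
  · rintro _ ⟨x, hx, rfl⟩
    have hxH : x ∈ H := hsup ▸ (le_sup_right : L₀ ≤ Zc ⊔ L₀) hx
    rw [hH, Subgroup.mem_subgroupOf] at hxH
    exact hxH
  · intro x hx
    have hxE : x ∈ E := hZSE hx
    have hxH : (⟨x, hxE⟩ : E) ∈ Zc ⊔ L₀ := by
      rw [hsup, hH, Subgroup.mem_subgroupOf]
      exact hx
    obtain ⟨z, hz, l, hl, hzl⟩ := exists_mul_of_mem_sup habE hxH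
    rw [hZc, Subgroup.mem_subgroupOf] at hz
    exact ⟨z, hz, l, ⟨l, hl, rfl⟩, congrArg Subtype.val hzl⟩
  · rintro x hxZ ⟨l, hl, rfl⟩
    have hlZ : l ∈ Zc := by rw [hZc, Subgroup.mem_subgroupOf]; exact hxZ
    have : l ∈ Zc ⊓ L₀ := ⟨hlZ, hl⟩
    rw [hinter, Subgroup.mem_bot] at this
    rw [this]
    rfl
  · rintro α hα x ⟨l, hl, hlx⟩
    have hxl : l = x := Subtype.ext hlx
    subst hxl
    exact ⟨α l, hLinv α hα l hl, rfl⟩
  · intro α hα
    obtain ⟨f, hf, hfL⟩ := hfrat α hα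
    refine ⟨f, hf, ?_⟩
    rintro x ⟨l, hl, hlx⟩
    have hxl : l = x := Subtype.ext hlx
    subst hxl
    exact hfL l hl
  · intro z hz
    have hzE : z ∈ E := hZqE hz
    exact ⟨⟨z, hzE⟩, hZW (by rw [hZc, Subgroup.mem_subgroupOf]; exact hz), rfl⟩
  · rw [Subgroup.card_map_of_injective E.subtype_injective]
    exact hWcard
  · rintro _ ⟨w, hw, rfl⟩
    have := hWexp w hw
    have h2 := congrArg Subtype.val this
    simpa using h2
  · refine ⟨xw, ⟨xw, hxwW, rfl⟩, fun hcon => hxwH ?_⟩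
    rw [hH, Subgroup.mem_subgroupOf]
    exact hcon
  · rintro α hα x ⟨w, hw, hwx⟩
    have hxw : w = x := Subtype.ext hwx
    subst hxw
    exact ⟨α w, hWinv α hα w hw, rfl⟩
  · intro x hx
    have hmem : (⟨x, hx⟩ : E) ∈ W₀ ⊔ L₀ := by rw [hWL]; exact Subgroup.mem_top _
    obtain ⟨w, hw, l, hl, hwl⟩ := exists_mul_of_mem_sup habE hmem
    exact ⟨w, ⟨w, hw, rfl⟩, l, ⟨l, hl, rfl⟩, congrArg Subtype.val hwl⟩

end Cfsg.Agent.Lib.Helper72_CTwoEss
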