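import Mathlib

/-!
Helper library (helper72): the ring computation behind Glauberman's theorem on `p`-groups of class at most
`n (p - 1) + 1`.  If `(1 + y) ^ p = 1` and `y ^ (n (p - 1) + 1) = 0` in a ring, then `p ^ n * y = 0`.
-/

set_option autoImplicit false

namespace Cfsg.Agent.Lib.Helper72_ClassPow

open Finset

/-- Binomial expansion of `(1 + y) ^ p` for a prime `p`. -/
theorem exists_expand {R : Type*} [CommRing R] {p : ℕ} (hp : p.Prime) (y : R) :
    ∃ t : R, (1 + y) ^ p = 1 + (p : R) * y * (1 + y * t) + y ^ p := by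
  obtain ⟨q, rfl⟩ : ∃ q, p = q + 2 := ⟨p - 2, by have := hp.two_le; omega⟩
  refine ⟨∑ m ∈ range q, y ^ m * (((q + 2).choose (m + 2) / (q + 2) : ℕ) : R), ?_⟩
  rw [add_comm 1 y, add_pow, Finset.sum_range_succ, Finset.sum_range_succ', Finset.sum_range_succ']
  have hmid : ∑ m ∈ range q, y ^ (m + 1 + 1) * 1 ^ (q + 2 - (m + 1 + 1)) * ((q + 2).choose (m + 1 + 1) : R) =
      ((q + 2 : ℕ) : R) * y * (y * ∑ m ∈ range q, y ^ m * (((q + 2).choose (m + 2) / (q + 2) : ℕ) : R)) := by
    rw [Finset.mul_sum, Finset.mul_sum]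
    apply Finset.sum_congr rfl
    intro m hm
    have hm' : m < q := Finset.mem_range.1 hm
    have hdvd : (q + 2) ∣ (q + 2).choose (m + 2) :=
      hp.dvd_choose_self (by omega) (by omega)
    obtain ⟨d, hd⟩ := hdvd
    have hdiv : (q + 2).choose (m + 2) / (q + 2) = d := by
      rw [hd]
      exact Nat.mul_div_cancel_left d (by omega)
    rw [hdiv, show m + 1 + 1 = m + 2 from rfl, hd, one_pow, mul_one]
    push_cast
    ring
  rw [hmid]
  simp only [Nat.choose_self, Nat.choose_zero_right, Nat.choose_one_right, Nat.sub_self, pow_zero, pow_one,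
    one_pow, mul_one, Nat.cast_one, zero_add]
  push_cast
  ring

/-- The commutative case. -/
theorem pow_mul_eq_zero_comm {R : Type*} [CommRing R] {p : ℕ} (hp : p.Prime) (n : ℕ) (y : R)
    (h1 : (1 + y) ^ p = 1) (h2 : y ^ (n * (p - 1) + 1) = 0) : (p : R) ^ n * y = 0 := by
  obtain ⟨t, ht⟩ := exists_expand hp y
  set v : R := 1 + y * t with hv
  have hpv : (p : R) * y * v = - y ^ p := by
    rw [h1] at ht
    have : (p : R) * y * v + y ^ p = 0 := by
      have h3 : (1 : R) + ((p : R) * y * v + y ^ p) = 1 + 0 := by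
        rw [add_zero, ← add_assoc]
        exact ht.symm
      exact add_left_cancel h3
    exact eq_neg_of_add_eq_zero_left this
  have hp1 : 1 ≤ p := hp.one_lt.le
  have key : ∀ k : ℕ, (p : R) ^ k * y * v ^ k = (-1) ^ k * y ^ (k * (p - 1) + 1) := by
    intro k
    induction k with
    | zero => simp
    | succ k ih =>
      have e1 : (p : R) ^ (k + 1) * y * v ^ (k + 1) = ((p : R) ^ k * y * v ^ k) * ((p : R) * v) := by ring
      have e2 : (k + 1) * (p - 1) + 1 = k * (p - 1) + p := by
        have : (k + 1) * (p - 1) = k * (p - 1) + (p - 1) := by ring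
        omega
      rw [e1, ih, e2, pow_succ y (k * (p - 1)), pow_add y (k * (p - 1)) p]
      have e3 : (-1 : R) ^ k * (y ^ (k * (p - 1)) * y) * ((p : R) * v) =
          (-1) ^ k * y ^ (k * (p - 1)) * ((p : R) * y * v) := by ring
      rw [e3, hpv]
      ring
  have hnil : IsNilpotent (y * t) := by
    refine ⟨n * (p - 1) + 1, ?_⟩
    rw [mul_pow, h2, zero_mul]
  have hvu : IsUnit v := hnil.isUnit_one_add
  have h3 := key n
  rw [h2, mul_zero] at h3
  exact (hvu.pow n).mul_left_eq_zero.1 h3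

open scoped IsMulCommutative in
/-- The general case: in any ring, `(1 + y) ^ p = 1` and `y ^ (n (p - 1) + 1) = 0` imply `p ^ n * y = 0`. -/
theorem pow_mul_eq_zero_ring {E : Type*} [Ring E] {p : ℕ} (hp : p.Prime) (n : ℕ) (y : E)
    (h1 : (1 + y) ^ p = 1) (h2 : y ^ (n * (p - 1) + 1) = 0) : (p : E) ^ n * y = 0 := by
  have hcomm : ∀ a ∈ ({y} : Set E), ∀ b ∈ ({y} : Set E), a * b = b * a := by
    intro a ha b hb
    rw [Set.mem_singleton_iff] at ha hb
    rw [ha, hb]
  have := Subring.isMulCommutative_closure hcomm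
  set y' : Subring.closure ({y} : Set E) := ⟨y, Subring.subset_closure rfl⟩ with hy'
  have h1' : (1 + y') ^ p = 1 := Subtype.ext (by
    push_cast
    exact h1)
  have h2' : y' ^ (n * (p - 1) + 1) = 0 := Subtype.ext (by
    push_cast
    exact h2)
  have h3 := pow_mul_eq_zero_comm hp n y' h1' h2'
  have h4 := congrArg Subtype.val h3
  push_cast at h4
  exact h4

end Cfsg.Agent.Lib.Helper72_ClassPow
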