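import Mathlib
import Cfsg.Agent.Lib.Helper72_ClassPow

/-!
Helper library (helper72): Glauberman's computation for `p`-groups of small class.  Let `B` be an abelian
subgroup of a subgroup `T` with `γ_{c+1}(T) = 1`, `c = n (p - 1) + 1`, and let `d ∈ T` normalize `B` with `d ^ p`
centralizing `B`.  Then `d` centralizes the `p ^ n`-th powers of the elements of `B`.
-/

set_option autoImplicit false

namespace Cfsg.Agent.Lib.Helper72_ClassPow

open scoped IsMulCommutative commutatorElement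

theorem conj_pow_eq_of_class {Γ : Type*} [Group Γ] (B T : Subgroup Γ) (hBT : B ≤ T)
    [IsMulCommutative ↥B] {p : ℕ} (hp : p.Prime) (n : ℕ) (d : Γ) (hdT : d ∈ T)
    (hdB : d ∈ Subgroup.normalizer (B : Set Γ))
    (hdp : ∀ b ∈ B, d ^ p * b * (d ^ p)⁻¹ = b)
    (hcl : T.lowerCentralSeries (n * (p - 1) + 1) = ⊥) :
    ∀ b ∈ B, d * b ^ (p ^ n) * d⁻¹ = b ^ (p ^ n) := by
  set φ : MulAut ↥B := B.normalizerMonoidHom ⟨d, hdB⟩ with hφ
  have hφapp : ∀ u : ↥B, ((φ u : ↥B) : Γ) = d * (u : Γ) * d⁻¹ := fun u => by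
    rw [hφ, Subgroup.normalizerMonoidHom_apply_apply_coe]
  set σ : AddMonoid.End (Additive ↥B) := MonoidHom.toAdditive φ.toMonoidHom with hσ
  have hσapp : ∀ v : Additive ↥B, σ v = Additive.ofMul (φ (Additive.toMul v)) := fun v => rfl
  -- powers of `σ`
  have F1 : ∀ (j : ℕ) (v : Additive ↥B),
      ((Additive.toMul ((σ ^ j) v) : ↥B) : Γ) = d ^ j * ((Additive.toMul v : ↥B) : Γ) * (d ^ j)⁻¹ := by
    intro j
    induction j with
    | zero =>
      intro v
      simp
    | succ j ih =>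
      intro v
      rw [pow_succ', AddMonoid.End.coe_mul, Function.comp_apply, hσapp, toMul_ofMul, hφapp, ih, pow_succ']
      group
  have hσp : (1 + (σ - 1)) ^ p = 1 := by
    rw [add_sub_cancel]
    ext v
    rw [F1 p v, hdp _ (Additive.toMul v : ↥B).2]
    rfl
  have F2 : ∀ v : Additive ↥B, ((Additive.toMul ((σ - 1) v) : ↥B) : Γ) =
      d * ((Additive.toMul v : ↥B) : Γ) * d⁻¹ * ((Additive.toMul v : ↥B) : Γ)⁻¹ := by
    intro v
    have : (σ - 1) v = σ v - v := rfl
    rw [this, toMul_sub, hσapp, toMul_ofMul, div_eq_mul_inv, Subgroup.coe_mul, Subgroup.coe_inv, hφapp]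
  have F3 : ∀ (i : ℕ) (v : Additive ↥B),
      ((Additive.toMul (((σ - 1) ^ i) v) : ↥B) : Γ) ∈ T.lowerCentralSeries i := by
    intro i
    induction i with
    | zero =>
      intro v
      rw [pow_zero]
      exact hBT (Additive.toMul v : ↥B).2
    | succ i ih =>
      intro v
      rw [pow_succ', AddMonoid.End.coe_mul, Function.comp_apply, F2, Subgroup.lowerCentralSeries_succ,
        Subgroup.commutator_comm]
      have := Subgroup.commutator_mem_commutator hdT (ih v)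
      rwa [commutatorElement_def] at this
  have hσc : (σ - 1) ^ (n * (p - 1) + 1) = 0 := by
    ext v
    have h1 := F3 (n * (p - 1) + 1) v
    rw [hcl, Subgroup.mem_bot] at h1
    rw [h1]
    rfl
  have key := pow_mul_eq_zero_ring hp n (σ - 1) hσp hσc
  intro b hb
  have h1 : ((p : AddMonoid.End (Additive ↥B)) ^ n * (σ - 1)) (Additive.ofMul (⟨b, hb⟩ : ↥B)) = 0 := by
    rw [key]
    rfl
  rw [← Nat.cast_pow, AddMonoid.End.coe_mul, Function.comp_apply, AddMonoid.End.natCast_apply] at h1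
  have h2 := congrArg (fun w : Additive ↥B => ((Additive.toMul w : ↥B) : Γ)) h1
  simp only [toMul_nsmul, Subgroup.coe_pow, F2, toMul_ofMul, toMul_zero, Subgroup.coe_one] at h2
  -- `(d b d⁻¹ b⁻¹) ^ (p ^ n) = 1`
  have hconjB : d * b * d⁻¹ ∈ B := by
    have := (φ ⟨b, hb⟩).2
    rwa [hφapp] at this
  have hcomm : Commute (d * b * d⁻¹) b⁻¹ := by
    have h3 : (⟨d * b * d⁻¹, hconjB⟩ : ↥B) * (⟨b, hb⟩ : ↥B)⁻¹ = (⟨b, hb⟩ : ↥B)⁻¹ * ⟨d * b * d⁻¹, hconjB⟩ :=
      mul_comm _ _
    exact congrArg Subtype.val h3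
  rw [hcomm.mul_pow, inv_pow, mul_inv_eq_one, conj_pow] at h2
  exact h2

end Cfsg.Agent.Lib.Helper72_ClassPow
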