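import Mathlib
import Cfsg.Agent.Lib.Helper72_ClassPow2
import Cfsg.Agent.Lib.Helper72_WCFinal
import Cfsg.Agent.Lib.Helper87_Alperin2

/-!
Helper library (helper72): Glauberman's theorem on Sylow `p`-subgroups of class at most `n (p - 1) + 1`,
in the subgroup form: if all `p`-subgroups of `G` have class at most `n (p - 1) + 1`, `T` is a Sylow `p`-subgroup of
`H ≤ G` and `A ≤ ℧ⁿ(Z(T))` is normalized by `N_H(T)`, then `A` is weakly closed in `T` with respect to `H`
(`weaklyClosed_of_class`); if moreover `A ≤ O_p(H)` then `A` is normal in `H` (`normal_of_class`).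
-/

set_option autoImplicit false

namespace Cfsg.Agent.Lib.Helper72_ClassPow

open Cfsg Cfsg.Agent.Lib.Helper33_Conj Cfsg.Agent.Lib.Helper33_Alperin
open Cfsg.Agent.Lib.Helper47_SubAPI Cfsg.Agent.Lib.Helper72_WCFinal

variable {G : Type*} [Group G]

theorem powerClosure_le_self (p n : ℕ) (H : Subgroup G) : Cfsg.powerClosure p n H ≤ H := by
  unfold Cfsg.powerClosure
  rw [Subgroup.closure_le]
  rintro _ ⟨x, hx, rfl⟩
  exact H.pow_mem hx _

theorem powerClosure_mono (p n : ℕ) {H K : Subgroup G} (h : H ≤ K) :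
    Cfsg.powerClosure p n H ≤ Cfsg.powerClosure p n K := by
  unfold Cfsg.powerClosure
  apply Subgroup.closure_mono
  rintro _ ⟨x, hx, rfl⟩
  exact ⟨x, h hx, rfl⟩

/-- `℧ⁿ(Z(T))` -/
def FP (p n : ℕ) (T : Subgroup G) : Subgroup G :=
  Cfsg.powerClosure p n (T ⊓ Subgroup.centralizer (T : Set G))

theorem FP_le (p n : ℕ) (T : Subgroup G) : FP p n T ≤ T ⊓ Subgroup.centralizer (T : Set G) :=
  powerClosure_le_self p n _

theorem FP_mono (p n : ℕ) (T T' : Subgroup G) (hT'T : T' ≤ T)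
    (hZ : T ⊓ Subgroup.centralizer (T : Set G) ≤ T') : FP p n T ≤ FP p n T' := by
  apply powerClosure_mono
  intro z hz
  exact Subgroup.mem_inf.mpr ⟨hZ hz, Subgroup.centralizer_le (by exact_mod_cast hT'T) hz.2⟩

variable [Finite G] {p : ℕ} [Fact p.Prime]

/-- the final configuration for Sylow subgroups of small class -/
theorem final_class (n : ℕ) (H T A : Subgroup G) (hTH : T ≤ H) (hT : IsPGroup p ↥T)
    (hidx : ¬ p ∣ T.relIndex H) (hcl : T.lowerCentralSeries (n * (p - 1) + 1) = ⊥)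
    (hAF : A ≤ FP p n T) (hAP : A ≤ Cfsg.pCoreOf p H)
    (hAN : H ⊓ Subgroup.normalizer (T : Set G) ≤ Subgroup.normalizer (A : Set G))
    (hmax : ∀ K : Subgroup G, T ≤ K → K ≤ H → K ≠ H → K ≤ Subgroup.normalizer (A : Set G)) :
    H ≤ Subgroup.normalizer (A : Set G) := by
  have hp : p.Prime := Fact.out
  by_contra hHA
  obtain ⟨P, hP⟩ : ∃ P : Subgroup G, P = Cfsg.pCoreOf p H := ⟨_, rfl⟩
  rw [← hP] at hAP
  have hPT : P ≤ T := hP ▸ pCoreOf_le_of_sylow hTH hT hidx
  have hHP : H ≤ Subgroup.normalizer (P : Set G) := hP ▸ le_normalizer_pCoreOf (p := p) H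
  -- an element of `T` outside `P`
  have hex0 : ∃ g ∈ T, g ∉ P := by
    by_contra hcon
    have hcon' : T ≤ P := fun g hg => by_contra fun h => hcon ⟨g, hg, h⟩
    have hTP : T = P := le_antisymm hcon' hPT
    apply hHA
    intro x hx
    exact hAN ⟨hx, hTP ▸ hHP hx⟩
  obtain ⟨g, hgT, hgP⟩ := hex0
  obtain ⟨B, hB⟩ : ∃ B : Subgroup G, B = P ⊓ Subgroup.centralizer (P : Set G) := ⟨_, rfl⟩
  have hHB : H ≤ Subgroup.normalizer (B : Set G) :=
    hB ▸ le_normalizer_inf hHP (le_normalizer_centralizer hHP)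
  have hBcomm : ∀ a ∈ B, ∀ b ∈ B, a * b = b * a := by
    intro a ha b hb
    rw [hB] at ha hb
    exact (Subgroup.mem_centralizer_iff.mp hb.2 a ha.1)
  have hBT : B ≤ T := hB ▸ inf_le_left.trans hPT
  have hAZ : A ≤ T ⊓ Subgroup.centralizer (T : Set G) := hAF.trans (FP_le p n T)
  have hTA : T ≤ Subgroup.normalizer (A : Set G) := by
    refine le_trans ?_ (Subgroup.centralizer_le_normalizer (A : Set G))
    exact Subgroup.le_centralizer_iff.mp (hAZ.trans inf_le_right)
  have hHH : H ≤ Subgroup.normalizer (H : Set G) := Subgroup.le_normalizer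
  -- `Z(T) ≤ P`
  have hC₁ : T ⊓ (H ⊓ Subgroup.centralizer (P : Set G)) ≤ Cfsg.pCoreOf p H :=
    inf_le_pCoreOf hTH hT hidx hTA hmax hHA inf_le_left
      (le_normalizer_inf hHH (le_normalizer_centralizer hHP))
      (inf_le_right.trans ((Subgroup.centralizer_le (by exact_mod_cast hAP)).trans
        (Subgroup.centralizer_le_normalizer (A : Set G))))
  rw [← hP] at hC₁
  have hZB : T ⊓ Subgroup.centralizer (T : Set G) ≤ B := by
    intro z hz
    have hzC : z ∈ Subgroup.centralizer (P : Set G) :=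
      Subgroup.centralizer_le (by exact_mod_cast hPT) hz.2
    rw [hB]
    exact Subgroup.mem_inf.mpr ⟨hC₁ (Subgroup.mem_inf.mpr ⟨hz.1, Subgroup.mem_inf.mpr ⟨hTH hz.1, hzC⟩⟩), hzC⟩
  -- the subgroup of `p ^ n`-th powers of `B`
  obtain ⟨U, hU⟩ : ∃ U : Subgroup G, U = Cfsg.powerClosure p n B := ⟨_, rfl⟩
  have hAU : A ≤ U := by
    rw [hU]
    exact hAF.trans (powerClosure_mono p n hZB)
  have hHU : H ≤ Subgroup.normalizer (U : Set G) := by
    intro x hx
    apply mem_normalizer_of_cj_le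
    rw [hU]
    unfold Cfsg.powerClosure
    rw [cj_closure, Subgroup.closure_le]
    rintro _ ⟨_, ⟨b, hb, rfl⟩, rfl⟩
    apply Subgroup.subset_closure
    refine ⟨x * b * x⁻¹, ?_, ?_⟩
    · have := mem_normalizer_iff_cj.mp (hHB hx)
      rw [← this]
      exact conj_mem_cj hb
    · show x * b ^ (p ^ n) * x⁻¹ = (x * b * x⁻¹) ^ (p ^ n)
      rw [conj_pow]
  have hC₂ : T ⊓ (H ⊓ Subgroup.centralizer (U : Set G)) ≤ Cfsg.pCoreOf p H :=
    inf_le_pCoreOf hTH hT hidx hTA hmax hHA inf_le_left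
      (le_normalizer_inf hHH (le_normalizer_centralizer hHU))
      (inf_le_right.trans ((Subgroup.centralizer_le (by exact_mod_cast hAU)).trans
        (Subgroup.centralizer_le_normalizer (A : Set G))))
  rw [← hP] at hC₂
  -- a power `g'` of `g` outside `P` with `g' ^ p ∈ P`
  have hex : ∃ k : ℕ, g ^ (p ^ k) ∈ P := by
    obtain ⟨e, he⟩ := hT ⟨g, hgT⟩
    refine ⟨e, ?_⟩
    have : g ^ (p ^ e) = 1 := by
      have := congrArg Subtype.val he
      simpa using this
    rw [this]; exact P.one_mem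
  classical
  obtain ⟨k, hk, hkmin⟩ : ∃ k : ℕ, g ^ (p ^ k) ∈ P ∧ ∀ j < k, g ^ (p ^ j) ∉ P :=
    ⟨Nat.find hex, Nat.find_spec hex, fun j hj => Nat.find_min hex hj⟩
  have hk0 : k ≠ 0 := by
    intro h0
    rw [h0, pow_zero, pow_one] at hk
    exact hgP hk
  obtain ⟨g', hg'⟩ : ∃ g' : G, g' = g ^ (p ^ (k - 1)) := ⟨_, rfl⟩
  have hg'P : g' ∉ P := hg' ▸ hkmin (k - 1) (by omega)
  have hg'p : g' ^ p ∈ P := by
    rw [hg', ← pow_mul, ← pow_succ]
    have : k - 1 + 1 = k := by omega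
    rw [this]; exact hk
  have hg'T : g' ∈ T := hg' ▸ T.pow_mem hgT _
  have hg'H : g' ∈ H := hTH hg'T
  have : IsMulCommutative ↥B := ⟨⟨fun a b => Subtype.ext (hBcomm a a.2 b b.2)⟩⟩
  have hcent : ∀ b ∈ B, g' * b ^ (p ^ n) * g'⁻¹ = b ^ (p ^ n) := by
    refine conj_pow_eq_of_class B T hBT hp n g' hg'T (hHB hg'H) ?_ hcl
    intro b hb
    have hbC : b ∈ Subgroup.centralizer (P : Set G) := by rw [hB] at hb; exact hb.2
    have := Subgroup.mem_centralizer_iff.mp hbC _ hg'p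
    rw [this]; group
  have hg'U : g' ∈ Subgroup.centralizer (U : Set G) := by
    have hle : U ≤ Subgroup.centralizer ({g'} : Set G) := by
      rw [hU]
      unfold Cfsg.powerClosure
      rw [Subgroup.closure_le]
      rintro _ ⟨b, hb, rfl⟩
      rw [SetLike.mem_coe, Subgroup.mem_centralizer_singleton_iff]
      have := hcent b hb
      calc b ^ (p ^ n) * g' = (g' * b ^ (p ^ n) * g'⁻¹) * g' := by rw [this]
        _ = g' * b ^ (p ^ n) := by group
    rw [Subgroup.mem_centralizer_iff]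
    intro u hu
    exact Subgroup.mem_centralizer_singleton_iff.mp (hle hu)
  exact hg'P (hC₂ (Subgroup.mem_inf.mpr ⟨hg'T, Subgroup.mem_inf.mpr ⟨hg'H, hg'U⟩⟩))

/-- **Glauberman**: if every `p`-subgroup of `G` has class at most `n (p - 1) + 1`, `T` is a Sylow `p`-subgroup of
`H` and `A ≤ ℧ⁿ(Z(T))` is normalized by `N_H(T)`, then `A` is weakly closed in `T` with respect to `H`. -/
theorem weaklyClosed_of_class (n : ℕ)
    (hG : ∀ Q : Subgroup G, IsPGroup p ↥Q → Q.lowerCentralSeries (n * (p - 1) + 1) = ⊥) :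
    ∀ H T A : Subgroup G, T ≤ H → IsPGroup p ↥T → ¬ p ∣ T.relIndex H → A ≤ FP p n T →
      H ⊓ Subgroup.normalizer (T : Set G) ≤ Subgroup.normalizer (A : Set G) →
      ∀ h ∈ H, cj h A ≤ T → cj h A = A := by
  have hW : Cfsg.IsConjugacyFunctor p (fun P : Subgroup G => P) :=
    fun P _ => ⟨le_rfl, fun h => h, fun _ => rfl⟩
  have key := Cfsg.Agent.Lib.Helper72_WCRed.red (fun P : Subgroup G => P) hW
    (fun P _ => inf_le_left) (FP p n)
    (fun T _ => FP_le p n T) (fun T T' _ h1 h2 => FP_mono p n T T' h1 h2)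
    (fun _ _ => True) (fun _ _ _ _ _ => trivial)
    (fun H T A hTH hT hidx hAF _ hAP hAN hmax =>
      final_class n H T A hTH hT hidx (hG T hT) hAF hAP hAN hmax)
  intro H T A hTH hT hidx hAF hAN h hh hhA
  exact key H T A hTH hT hidx hAF trivial hAN h hh hhA

/-- **Glauberman**, normal form: let `T` be a Sylow `p`-subgroup of the finite group `G`, of class at most
`n (p - 1) + 1`, and `A ≤ ℧ⁿ(Z(T))` a subgroup of `O_p(G)` normalized by `N_G(T)`.  Then `A` is normal in `G`. -/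
theorem normal_of_class (n : ℕ) (T : Sylow p G)
    (hcl : (T : Subgroup G).lowerCentralSeries (n * (p - 1) + 1) = ⊥) (A : Subgroup G)
    (hAF : A ≤ FP p n (T : Subgroup G)) (hAP : A ≤ Cfsg.pCore p G)
    (hAN : Subgroup.normalizer ((T : Subgroup G) : Set G) ≤ Subgroup.normalizer (A : Set G)) :
    A.Normal := by
  have hG : ∀ Q : Subgroup G, IsPGroup p ↥Q → Q.lowerCentralSeries (n * (p - 1) + 1) = ⊥ := by
    intro Q hQ
    obtain ⟨g, hg⟩ := hQ.exists_le_sylow
    obtain ⟨k, hk⟩ := sylow_cj_eq T g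
    have h1 : Q ≤ cj k (T : Subgroup G) := hk ▸ hg
    have h2 := Subgroup.lowerCentralSeries_mono (n * (p - 1) + 1) h1
    simp only at h2
    rw [← Subgroup.map_lowerCentralSeries, hcl, Subgroup.map_bot] at h2
    exact le_bot_iff.1 h2
  have hidx : ¬ p ∣ (T : Subgroup G).relIndex ⊤ := by
    rw [Subgroup.relIndex_top_right]; exact T.not_dvd_index
  have key := weaklyClosed_of_class n hG ⊤ (T : Subgroup G) A le_top T.2 hidx hAF
    (inf_le_right.trans hAN)
  have hcoreN : (Cfsg.pCore p G).Normal := Cfsg.Agent.Lib.Helper87_Alperin2.pCore_normal' p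
  have hcoreT : Cfsg.pCore p G ≤ T := Cfsg.Agent.Lib.Helper87_Alperin2.pCore_le_sylow' p T
  refine ⟨fun a ha g => ?_⟩
  have h1 : cj g A ≤ T := by
    refine le_trans ?_ hcoreT
    rintro _ ⟨x, hx, rfl⟩
    exact hcoreN.conj_mem x (hAP hx) g
  have h2 := key g (Subgroup.mem_top g) h1
  rw [← h2]
  exact conj_mem_cj ha

end Cfsg.Agent.Lib.Helper72_ClassPow
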