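import Mathlib
import Cfsg.Statements.S4625
import Cfsg.Agent.Lib.Helper68_EA2
import Cfsg.Agent.Lib.Helper68_EA2Peel
import Cfsg.Agent.Lib.Helper18_ChevData5
import Cfsg.Agent.Lib.Helper18_ChevGL
import Cfsg.Agent.Lib.Helper18_ChevUni
import Cfsg.Agent.S2326

/-!
S4625 (Sylow 2-subgroups of groups of Lie type in characteristic 2 have elementary abelian abelianization), market
`ea2_packages` (architect helper68), package CHEV: the Chevalley groups of type `G₂, F₄, E₆, E₇, E₈` in characteristic 2.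
`U = D.posUnipotent F` is a Sylow 2-subgroup (S2326) generated by the root elements `x_r(t)`, `r > 0`, which are involutions
in characteristic 2 (`x_r(t) * x_r(t) = x_r(t + t) = x_r(0) = 1`).  helper72.
-/

set_option autoImplicit false

namespace Cfsg.Agent.Lib.Helper72_EA2_CHEV

open Cfsg Cfsg.Lie Cfsg.Agent.Lib.Helper68_EA2 Cfsg.Agent.Lib.Helper18_ChevGL Cfsg.Agent.Lib.Helper18_ChevUni
  Cfsg.Agent.Lib.Helper18_ChevEngine
open scoped commutatorElement

/-- CHEV -/
theorem ea2_chev {F : Type*} [Field F] [Fintype F] [CharP F 2] (D : Cfsg.Lie.ChevalleyDatum)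
    (hD : D ∈ [Cfsg.Lie.chevG2, Cfsg.Lie.chevF4, Cfsg.Lie.chevE6, Cfsg.Lie.chevE7, Cfsg.Lie.chevE8]) :
    EA2 ↥(D.group F) := by
  classical
  have hD' : D ∈ [Cfsg.Lie.chevG2, Cfsg.Lie.chevB2, Cfsg.Lie.chevD4, Cfsg.Lie.chevF4, Cfsg.Lie.chevE6,
      Cfsg.Lie.chevE7, Cfsg.Lie.chevE8] := by
    simp only [List.mem_cons, List.not_mem_nil, or_false] at hD ⊢
    tauto
  obtain ⟨Ns, w, d, Ts, hT, K, base, stepT, wl, ws, sc, c, tc, gc, pc, ac⟩ :=
    Cfsg.Agent.Lib.Helper18_ChevData5.exists_cert5 D hD'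
  have : Fact (Nat.Prime 2) := ⟨Nat.prime_two⟩
  obtain ⟨P, hP⟩ := Cfsg.Agent.S2326.result (F := F) 2 D hD'
  have : Finite ↥(D.group F) := inferInstance
  apply ea2_of_sylow P
  rw [hP]
  set S : Set ↥(D.group F) := {g | ∃ (r : ℕ) (t : F), D.IsPosRoot r ∧
    (((g : GL D.Idx F)) : Matrix D.Idx D.Idx F) = D.x F r t} with hSdef
  have himage : (D.group F).subtype '' S = {g : GL D.Idx F | ∃ (r : ℕ) (t : F), D.IsPosRoot r ∧
      (g : Matrix D.Idx D.Idx F) = D.x F r t} := by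
    ext g
    constructor
    · rintro ⟨s, ⟨r, t, hr, hs⟩, rfl⟩
      exact ⟨r, t, hr, hs⟩
    · rintro ⟨r, t, hr, hg⟩
      have hgG : g ∈ D.group F := by
        rw [eq_xGL c hg]
        exact xGL_mem_group c r t
      exact ⟨⟨g, hgG⟩, ⟨r, t, hr, hg⟩, rfl⟩
  have hS : Subgroup.closure S = (D.posUnipotent F).subgroupOf (D.group F) := by
    have h1 : (Subgroup.closure S).map (D.group F).subtype = D.posUnipotent F := by
      rw [MonoidHom.map_closure, himage]
      rfl
    rw [← h1]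
    exact (Subgroup.comap_map_eq_self_of_injective (Subgroup.subtype_injective _) _).symm
  apply sqComm_of_gen _ S hS
  rintro s ⟨r, t, _, hs⟩
  have hs1 : (s : GL D.Idx F) = xGL c r t := eq_xGL c hs
  have htt : t + t = 0 := CharTwo.add_self_eq_zero t
  have hs2 : s ^ 2 = 1 := by
    apply Subtype.ext
    rw [Subgroup.coe_pow, hs1, pow_two, xGL_mul, htt, xGL_zero]
    rfl
  rw [hs2]
  exact Subgroup.one_mem _

end Cfsg.Agent.Lib.Helper72_EA2_CHEV
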