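import Mathlib

/-!
Helper library (helper72): exponent of a nilpotent group from the exponent of its centre.
If `z ^ m = 1` for every central element `z` of `G`, then `x ^ m ∈ Z_i(G)` for `x ∈ Z_{i+1}(G)`, so
`x ^ (m ^ i) = 1` for `x ∈ Z_i(G)`; if `Z_c(G) = G` then the exponent of `G` divides `m ^ c`.
-/

set_option autoImplicit false

namespace Cfsg.Agent.Lib.Helper72_ExpClass

open scoped commutatorElement

variable {G : Type*} [Group G]

/-- if `c u c⁻¹ = u w` and `c` fixes `w` then `cⁱ u c⁻ⁱ = u wⁱ` -/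
theorem conj_pow_eq_mul_pow {c u w : G} (h1 : c * u * c⁻¹ = u * w) (h2 : c * w * c⁻¹ = w) (i : ℕ) :
    c ^ i * u * (c ^ i)⁻¹ = u * w ^ i := by
  induction i with
  | zero => simp
  | succ i ih =>
    have e : c ^ (i + 1) * u * (c ^ (i + 1))⁻¹ = c * (c ^ i * u * (c ^ i)⁻¹) * c⁻¹ := by
      rw [pow_succ']; group
    rw [e, ih]
    have e2 : c * (u * w ^ i) * c⁻¹ = (c * u * c⁻¹) * (c * w * c⁻¹) ^ i := by
      rw [conj_pow]; group
    rw [e2, h1, h2, pow_succ', mul_assoc]

theorem pow_mem_upperCentralSeries (m : ℕ) (hm : ∀ z ∈ Subgroup.center G, z ^ m = 1) :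
    ∀ i : ℕ, ∀ x ∈ Subgroup.upperCentralSeries G (i + 1), x ^ m ∈ Subgroup.upperCentralSeries G i := by
  intro i
  induction i with
  | zero =>
    intro x hx
    rw [zero_add, Subgroup.upperCentralSeries_one] at hx
    rw [hm x hx]
    exact Subgroup.one_mem _
  | succ i ih =>
    intro x hx
    rw [Subgroup.mem_upperCentralSeries_succ_iff] at hx ⊢
    intro y
    set N := Subgroup.upperCentralSeries G i with hN
    have hw : ⁅x, y⁆ ∈ Subgroup.upperCentralSeries G (i + 1) := hx y
    have hwm : ⁅x, y⁆ ^ m ∈ N := ih _ hw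
    have hwc : ∀ g : G, ⁅⁅x, y⁆, g⁆ ∈ N := fun g => Subgroup.mem_upperCentralSeries_succ_iff.1 hw g
    -- pass to the quotient
    set π := QuotientGroup.mk' N with hπ
    have hker : ∀ g : G, π g = 1 ↔ g ∈ N := fun g => QuotientGroup.eq_one_iff g
    rw [← hker]
    have hWc : ∀ g : G, π ⁅x, y⁆ * π g = π g * π ⁅x, y⁆ := by
      intro g
      have h1 := (hker _).2 (hwc g)
      rw [commutatorElement_def, map_mul, map_mul, map_mul, map_inv, map_inv] at h1
      have h2 : π ⁅x, y⁆ * π g = (π ⁅x, y⁆ * π g * (π ⁅x, y⁆)⁻¹ * (π g)⁻¹) * (π g * π ⁅x, y⁆) := by group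
      rw [h2, h1, one_mul]
    have h1 : π x * π y * (π x)⁻¹ = π y * π ⁅x, y⁆ := by
      rw [← hWc y, commutatorElement_def, map_mul, map_mul, map_mul, map_inv, map_inv]
      group
    have h2 : π x * π ⁅x, y⁆ * (π x)⁻¹ = π ⁅x, y⁆ := by
      rw [← hWc x]
      group
    have h3 := conj_pow_eq_mul_pow h1 h2 m
    have h4 : π ⁅x, y⁆ ^ m = 1 := by
      rw [← map_pow]
      exact (hker _).2 hwm
    rw [h4, mul_one] at h3
    rw [commutatorElement_def, map_mul, map_mul, map_mul, map_inv, map_inv, map_pow, h3]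
    group

theorem pow_eq_one_of_mem_upperCentralSeries (m : ℕ) (hm : ∀ z ∈ Subgroup.center G, z ^ m = 1) :
    ∀ i : ℕ, ∀ x ∈ Subgroup.upperCentralSeries G i, x ^ (m ^ i) = 1 := by
  intro i
  induction i with
  | zero =>
    intro x hx
    rw [Subgroup.upperCentralSeries_zero, Subgroup.mem_bot] at hx
    rw [hx, one_pow]
  | succ i ih =>
    intro x hx
    rw [pow_succ', pow_mul]
    exact ih _ (pow_mem_upperCentralSeries m hm i x hx)

/-- If the centre of `G` has exponent dividing `m` and `G` has class at most `c`, the exponent of `G` divides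
`m ^ c`. -/
theorem exponent_dvd_of_class (m c : ℕ) (hm : ∀ z ∈ Subgroup.center G, z ^ m = 1)
    (hc : (⊤ : Subgroup G).lowerCentralSeries c = ⊥) : Monoid.exponent G ∣ m ^ c := by
  have h1 : Subgroup.upperCentralSeries G c = ⊤ :=
    Subgroup.lowerCentralSeries_eq_bot_iff_upperCentralSeries_eq_top.1 hc
  apply Monoid.exponent_dvd_of_forall_pow_eq_one
  intro x
  exact pow_eq_one_of_mem_upperCentralSeries m hm c x (h1 ▸ Subgroup.mem_top x)

end Cfsg.Agent.Lib.Helper72_ExpClass
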