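import Cfsg.Agent.Lib.Helper84_FocCentral

/-!
# Focal subgroups and factor systems (helper84)

If the focal subgroup of the factor system `E = F/N` is the focal subgroup of the normalizer system of `W̄`, then the
focal subgroup of `F` lies in the product of `N` and the focal subgroup of the normalizer system of the full preimage of
`W̄`.
-/

set_option autoImplicit false

namespace Cfsg.Agent.Lib.Helper84_FocQuot

open Cfsg Cfsg.FusionSystem Cfsg.Agent.Lib Cfsg.Agent.Lib.Helper87_Alperin Cfsg.Agent.Lib.Helper87_Alperin2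
  Cfsg.Agent.Lib.Helper87_Factor Cfsg.Agent.Lib.Helper87_Factor2 Cfsg.Agent.Lib.Helper87_ModT
  Cfsg.Agent.Lib.Helper84_KLBasic Cfsg.Agent.Lib.Helper84_KLQuot Cfsg.Agent.Lib.Helper84_FocBasic
  Cfsg.Agent.Lib.Helper84_FocCentral

universe u v

variable {Ω : Type u} [Group Ω] {S : Subgroup Ω} {Ω' : Type v} [Group Ω'] {S' : Subgroup Ω'}
  {F : FusionSystem S} {N : Subgroup Ω} {θ : S →* Ω'} {E : FusionSystem S'}

/-- the focal subgroup of the normalizer system of `W̄` in the factor system is in the image of the focal subgroup of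
the normalizer system of the preimage of `W̄` -/
theorem nfoc_factor_le (hE : F.IsFactorSystem N θ E) (W' : Subgroup Ω')
    (hR : S ≤ Subgroup.normalizer ((preimageAlong θ W' : Subgroup Ω) : Set Ω)) :
    nfoc E W' ≤ imageAlong θ (nfoc F (preimageAlong θ W')) := by
  apply nfoc_le
  rintro P' f' ⟨hf', -, -, D', g', hPD', hWD', hg', hg'f', hg'W'⟩ y hy
  have hrange : θ.range = S' := hE.2.2.1
  obtain ⟨g, hg, hgg'⟩ := exists_lift_isMapOn hE hg'
  set P := preimageAlong θ P' with hP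
  set R := preimageAlong θ W' with hRdef
  set D := preimageAlong θ D' with hD
  have hPD : P ≤ D := preimageAlong_mono θ hPD'
  have hRD : R ≤ D := preimageAlong_mono θ hWD'
  have hDS : D ≤ S := preimageAlong_le θ D'
  have hgR : ∀ x ∈ R, g x ∈ R := by
    intro x hx
    rw [hRdef, mem_preimageAlong]
    refine ⟨hg.mem (hRD hx), ?_⟩
    rw [hgg' x (hRD hx)]
    exact hg'W' _ ((mem_preimageAlong θ W' x).1 hx).2
  have hSN : S ≤ normalizerIn S R := le_inf le_rfl hR
  have hnm : NMap F R P g :=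
    ⟨hg.mono hPD, (hPD.trans hDS).trans hSN, fun x hx => hSN (hg.mem (hPD hx)), D, g, hPD, hRD, hg,
      fun _ _ => rfl, hgR⟩
  have hyS' : y ∈ θ.range := hrange ▸ hf'.le hy
  obtain ⟨x, hxS, rfl⟩ := exists_extOn_eq_of_mem_range hyS'
  have hxP : x ∈ P := (mem_preimageAlong θ P' x).2 ⟨hxS, hy⟩
  have h1 : x⁻¹ * g x ∈ nfoc F R := nFoc_nfoc F R P g hnm x hxP
  have h2 := extOn_mem_imageAlong θ (nfoc_le_S F R) h1
  have hgx : g x ∈ S := hg.mem (hPD hxP)
  rw [extOn_mul θ (S.inv_mem hxS) hgx, extOn_inv θ hxS, hgg' x (hPD hxP), hg'f' _ hy] at h2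
  exact h2

/-- **Quotient step for focal subgroups.** -/
theorem allFoc_of_factor [Finite S] {p : ℕ} [Fact p.Prime] (hS : IsPGroup p S) (hF : F.IsSaturated p)
    (hN : F.StronglyClosed N) (hE : F.IsFactorSystem N θ E) (W' : Subgroup Ω')
    (hR : S ≤ Subgroup.normalizer ((preimageAlong θ W' : Subgroup Ω) : Set Ω))
    (h : AllFoc E (nfoc E W')) : AllFoc F (nfoc F (preimageAlong θ W') ⊔ N) := by
  intro P f hf x hx
  have hPS : P ≤ S := hf.le
  have hker : ∀ s : S, θ s = 1 ↔ (s : Ω) ∈ N := hE.2.1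
  obtain ⟨f', hf', hf'f⟩ := exists_induced_isMapOn hS hF hN hE hf
  have h1 := h _ f' hf' _ (extOn_mem_imageAlong θ hPS hx)
  rw [hf'f x hx] at h1
  have h2 := nfoc_factor_le hE W' hR h1
  obtain ⟨a, haS, ha, hay⟩ := (mem_imageAlong θ _ _).1 h2
  have hyS : x⁻¹ * f x ∈ S := S.mul_mem (S.inv_mem (hPS hx)) (hf.mem hx)
  have h3 : extOn θ a = extOn θ (x⁻¹ * f x) := by
    rw [hay, extOn_mul θ (S.inv_mem (hPS hx)) (hf.mem hx), extOn_inv θ (hPS hx)]
  have h4 : a⁻¹ * (x⁻¹ * f x) ∈ N := (extOn_eq_iff hker haS hyS).1 h3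
  have h5 : x⁻¹ * f x = a * (a⁻¹ * (x⁻¹ * f x)) := by group
  rw [h5]
  exact Subgroup.mul_mem_sup ha h4

end Cfsg.Agent.Lib.Helper84_FocQuot
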