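import Cfsg.Agent.Lib.Helper84_FusionNormal
import Cfsg.Agent.Lib.Helper84_Stability

/-!
Fusion systems: a subgroup `Q` of `S` admitting a series of strongly closed subgroups of `S` that is
centralized by `Q` lies in every centric radical subgroup (helper84).
-/

set_option autoImplicit false

namespace Cfsg.Agent.Lib.Helper84_FusionSeries

open Cfsg Cfsg.FusionSystem Cfsg.Agent.Lib.Helper85_Fusion Cfsg.Agent.Lib.Helper84_RelSylow
  Cfsg.Agent.Lib.Helper84_FusionSat Cfsg.Agent.Lib.Helper84_FusionRS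
  Cfsg.Agent.Lib.Helper84_FusionAlperin Cfsg.Agent.Lib.Helper84_FusionEssential
  Cfsg.Agent.Lib.Helper84_FusionNormal Cfsg.Agent.Lib.Helper84_Stability

open scoped Pointwise commutatorElement

variable {Ω : Type*} [Group Ω] {S : Subgroup Ω}

/-- A strongly closed subgroup is normalized by `S`. -/
theorem stronglyClosed_le_normalizer {F : FusionSystem S} {Q : Subgroup Ω} (hQ : F.StronglyClosed Q) :
    S ≤ Subgroup.normalizer (Q : Set Ω) := by
  have key : ∀ s ∈ S, ∀ x ∈ Q, s * x * s⁻¹ ∈ Q := by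
    intro s hs x hx
    exact hQ.2 Q le_rfl _ (F.conj_mem hQ.1 hs) ⟨x, hx⟩
  intro s hs
  rw [Subgroup.mem_normalizer_iff]
  intro x
  constructor
  · exact key s hs x
  · intro h
    have := key s⁻¹ (S.inv_mem hs) _ h
    simpa [mul_assoc] using this

theorem stronglyClosed_bot (F : FusionSystem S) : F.StronglyClosed (⊥ : Subgroup Ω) := by
  refine ⟨bot_le, fun R hR φ _ x => ?_⟩
  have hx : x = 1 := Subtype.ext (Subgroup.mem_bot.1 (hR x.2))
  rw [hx, map_one]
  exact Subgroup.one_mem _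

theorem stronglyClosed_S (F : FusionSystem S) : F.StronglyClosed S :=
  ⟨le_rfl, fun _ _ _ hφ x => (F.le_of_mem hφ).2 x⟩

/-- Every `α ∈ Aut_F(P)` maps `P ∩ R` into `R` for `R` strongly closed. -/
theorem apply_mem_of_stronglyClosed {F : FusionSystem S} {R P : Subgroup Ω} (hR : F.StronglyClosed R)
    (hPS : P ≤ S) {α : MulAut P} (hα : α ∈ F.autGroup P) {x : P} (hx : (x : Ω) ∈ R) :
    ((α x : P) : Ω) ∈ R := by
  have hα' := (mem_autGroup_iff F hPS α).1 hα
  have h1 := restrict_mem F (inf_le_right : R ⊓ P ≤ P) hα'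
  exact hR.2 (R ⊓ P) inf_le_left _ h1 ⟨x, ⟨hx, x.2⟩⟩

/-- **Series criterion.** Let `c 0 = 1 ≤ c 1 ≤ ⋯ ≤ c N = S` be a chain of strongly closed subgroups, and
`Q ≤ S` a subgroup normalized by `S` with `[Q, c (j+1)] ≤ c j` for all `j`. Then `Q` lies in every
centric radical subgroup of the system. -/
theorem le_of_series [Finite S] {p : ℕ} [Fact p.Prime] (hS : IsPGroup p S) {F : FusionSystem S}
    {Q P : Subgroup Ω} (c : ℕ → Subgroup Ω) (h0 : c 0 = ⊥) (hmono : ∀ j, c j ≤ c (j + 1))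
    (hsc : ∀ j, F.StronglyClosed (c j)) (hcomm : ∀ j, ⁅Q, c (j + 1)⁆ ≤ c j) {N : ℕ} (hN : c N = S)
    (hQS : Q ≤ S) (hQn : S ≤ Subgroup.normalizer (Q : Set Ω))
    (hPc : F.IsCentric P) (hPr : F.IsRadical p P) : Q ≤ P := by
  have hPS : P ≤ S := hPc.1
  have hC : centralizerIn S P ≤ P := hPc.2 P (isConj_refl F hPS)
  by_contra hQP
  have hDS : P ⊔ Q ≤ S := sup_le hPS hQS
  have hlt : P < P ⊔ Q := lt_of_le_of_ne le_sup_left (fun h => hQP (h ▸ le_sup_right))
  have : Finite (P ⊔ Q : Subgroup Ω) := finite_of_le_S hDS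
  have : Finite P := finite_of_le_S hPS
  obtain ⟨g, ⟨hgD, hgN⟩, hgP⟩ := exists_mem_normalizerIn_not_mem (S := P ⊔ Q) (hS.to_le hDS) hlt
  -- decompose `g = x * q`
  have hcoe := Subgroup.coe_mul_of_left_le_normalizer_right P Q (hPS.trans hQn)
  have hg' : g ∈ (P : Set Ω) * (Q : Set Ω) := by rw [← hcoe]; exact hgD
  obtain ⟨x, hx, q, hq, rfl⟩ := hg'
  have hqN : q ∈ Subgroup.normalizer (P : Set Ω) := by
    have := Subgroup.mul_mem _ (Subgroup.inv_mem _ (Subgroup.le_normalizer hx)) hgN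
    simpa using this
  have hqP : q ∉ P := fun h => hgP (P.mul_mem hx h)
  -- the chain in `P`
  let d : ℕ → Subgroup P := fun j => (c j).subgroupOf P
  have hd0 : d 0 = ⊥ := by
    show (c 0).subgroupOf P = ⊥
    rw [h0]; exact Subgroup.bot_subgroupOf P
  have hdmono : ∀ j, d j ≤ d (j + 1) := fun j y hy => hmono j hy
  have hdN : d N = ⊤ := by
    show (c N).subgroupOf P = ⊤
    rw [hN, Subgroup.subgroupOf_eq_top]; exact hPS
  have hA : ∀ β ∈ F.autGroup P, ∀ j, ∀ y ∈ d j, β y ∈ d j := by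
    intro β hβ j y hy
    exact apply_mem_of_stronglyClosed (hsc j) hPS hβ hy
  have hKn := stabilityGroup_normal hdmono (F.autGroup P) hA
  have hKp := isPGroup_stabilityGroup (hS.to_le hPS) hd0 hdmono hdN (F.autGroup P)
  have hKle : (stabilityGroup d hdmono (F.autGroup P)).subgroupOf (F.autGroup P) ≤
      pCore p (F.autGroup P) :=
    Helper47_PLocal.le_pCore hKn (hKp.comap_of_injective _ (Subgroup.subtype_injective _))
  have hKInn : stabilityGroup d hdmono (F.autGroup P) ≤ Inn P := by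
    rw [← hPr.2]
    intro κ hκ
    exact ⟨⟨κ, hκ.1⟩, hKle (Subgroup.mem_subgroupOf.2 hκ), rfl⟩
  apply hqP
  apply mem_of_normalizerMonoidHom_mem_inn hC (hQS hq) hPS hqN
  apply hKInn
  refine ⟨autInducedBy_le_autGroup F hPS (normalizerMonoidHom_mem_autInducedBy (hQS hq) hqN), ?_⟩
  intro j y hy
  show ((y⁻¹ * P.normalizerMonoidHom ⟨q, hqN⟩ y : P) : Ω) ∈ c j
  have e : ((y⁻¹ * P.normalizerMonoidHom ⟨q, hqN⟩ y : P) : Ω) = ⁅(y : Ω)⁻¹, q⁆ := by
    show (y : Ω)⁻¹ * (q * y * q⁻¹) = _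
    rw [commutatorElement_def, inv_inv]
    group
  rw [e]
  apply hcomm j
  rw [Subgroup.commutator_comm]
  exact Subgroup.commutator_mem_commutator ((c (j + 1)).inv_mem hy) hq

end Cfsg.Agent.Lib.Helper84_FusionSeries
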