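import Cfsg.Agent.Lib.Helper87_Normal2
import Cfsg.Agent.Lib.Helper84_FusionNormal
import Cfsg.Agent.Lib.Helper85_Fusion
import Cfsg.Agent.S5086
import Cfsg.Agent.S5088
import Cfsg.Agent.S5128

set_option autoImplicit false

/-!
# Constrained systems and normal subsystems (helper87)

If `Q = O_p(F)` is centric in the saturated system `F` and `T` is strongly closed in `F`, then
`C_T(Q ∩ T) ≤ Q`.  Consequently a normal subsystem of a constrained system is constrained.
-/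

namespace Cfsg.Agent.Lib.Helper87_Constrained

open Cfsg Cfsg.FusionSystem Cfsg.Agent.Lib Cfsg.Agent.Lib.Helper87_Alperin Cfsg.Agent.Lib.Helper87_Alperin2
  Cfsg.Agent.Lib.Helper87_Normal Cfsg.Agent.Lib.Helper87_Normal2

open scoped commutatorElement

universe u

variable {Ω : Type u} [Group Ω] {S : Subgroup Ω}

/-! ### A coprime automorphism moving `x` by a fixed `p`-element fixes `x` -/

theorem pow_apply_of_fixed {G : Type*} [Group G] (α : MulAut G) (x t : G) (hxt : α x = x * t) (ht : α t = t) :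
    ∀ j : ℕ, (α ^ j) x = x * t ^ j := by
  intro j
  induction j with
  | zero => simp
  | succ j ih =>
    rw [pow_succ', MulAut.mul_apply, ih, map_mul, map_pow, hxt, ht, pow_succ', mul_assoc]

theorem eq_one_of_fixed_quotient {G : Type*} [Group G] {p : ℕ} (α : MulAut G)
    (hα : (orderOf α).Coprime p) (x t : G) (hxt : α x = x * t) (ht : α t = t) {k : ℕ} (htk : t ^ p ^ k = 1) :
    t = 1 := by
  have h1 := pow_apply_of_fixed α x t hxt ht (orderOf α)
  rw [pow_orderOf_eq_one, MulAut.one_apply] at h1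
  have h2 : t ^ orderOf α = 1 := by
    have := h1.symm
    rwa [mul_eq_left] at this
  have h3 : orderOf t ∣ orderOf α := orderOf_dvd_of_pow_eq_one h2
  have h4 : orderOf t ∣ p ^ k := orderOf_dvd_of_pow_eq_one htk
  have h5 : orderOf t = 1 := Nat.eq_one_of_dvd_coprimes (Nat.Coprime.pow_right k hα) h3 h4
  exact orderOf_eq_one_iff.1 h5

/-! ### Elements inducing automorphisms in `O_p(Aut_F(R))` of a centric radical subgroup -/

theorem mem_of_conj_mem_pCore {F : FusionSystem S} {p : ℕ} {R : Subgroup Ω} (hRc : F.IsCentric R)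
    (hRrad : F.IsRadical p R) {x : Ω} (hxS : x ∈ S) (β : MulAut R)
    (hβ : ∀ y : R, ((β y : R) : Ω) = x * y * x⁻¹)
    (hβcore : β ∈ (pCore p (F.autGroup R)).map (F.autGroup R).subtype) : x ∈ R := by
  have hRS : R ≤ S := hRc.1
  rw [hRrad.2] at hβcore
  obtain ⟨r, hr⟩ := hβcore
  have hcent : (r : Ω)⁻¹ * x ∈ centralizerIn S R := by
    refine ⟨S.mul_mem (S.inv_mem (hRS r.2)) hxS, ?_⟩
    intro y hy
    have h1 : ((MulAut.conj r) ⟨y, hy⟩ : R) = β ⟨y, hy⟩ := by rw [hr]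
    have h2 : (r : Ω) * y * (r : Ω)⁻¹ = x * y * x⁻¹ := by
      have := congrArg Subtype.val h1
      simpa [MulAut.conj_apply, hβ] using this
    have h3 : y * ((r : Ω)⁻¹ * x) = (r : Ω)⁻¹ * ((r : Ω) * y * (r : Ω)⁻¹) * x := by group
    rw [h3, h2]
    group
  have hcR : (r : Ω)⁻¹ * x ∈ R :=
    hRc.2 R ⟨R.subtype, subtype_mem F hRS, R.range_subtype⟩ hcent
  have h4 : x = (r : Ω) * ((r : Ω)⁻¹ * x) := by group
  rw [h4]
  exact R.mul_mem r.2 hcR

/-! ### `C_T(Q ∩ T)` is strongly closed -/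

theorem stronglyClosed_centralizerIn_inf [Finite S] {F : FusionSystem S} {Q T : Subgroup Ω}
    (hQ : F.IsNormal Q) (hT : F.StronglyClosed T) : F.StronglyClosed (centralizerIn T (Q ⊓ T)) := by
  classical
  have hQsc : F.StronglyClosed Q := Cfsg.Agent.Lib.Helper84_FusionNormal.IsNormal.stronglyClosed hQ
  have hQS : Q ≤ S := hQ.1
  have hfinQ : Finite Q := Finite.of_injective (Subgroup.inclusion hQS) (Subgroup.inclusion_injective _)
  refine ⟨inf_le_left.trans hT.1, fun P hP φ hφ x => ?_⟩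
  refine ⟨hT.2 P (hP.trans inf_le_left) φ hφ x, ?_⟩
  obtain ⟨β, hβ⟩ := exists_aut_of_isNormal hQ (R := P ⊔ Q) (φ := (hQ.2 P φ hφ).choose) (hQ.2 P φ hφ).choose_spec.1
  obtain ⟨hψ, hext, himg⟩ := (hQ.2 P φ hφ).choose_spec
  set ψ := (hQ.2 P φ hφ).choose with hψdef
  -- `β` maps `Q ⊓ T` onto itself
  have hβT : ∀ y : Q, (y : Ω) ∈ T → ((β y : Q) : Ω) ∈ T := by
    intro y hy
    have hy' : (y : Ω) ∈ P ⊔ Q := (le_sup_right : Q ≤ P ⊔ Q) y.2
    have h1 := hβ ⟨(y : Ω), hy'⟩ y.2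
    have h2 : ψ ⟨(y : Ω), hy'⟩ ∈ T := by
      have h3 := restrict_mem F hψ (inf_le_left : (P ⊔ Q) ⊓ T ≤ P ⊔ Q)
      exact hT.2 _ inf_le_right _ h3 ⟨(y : Ω), ⟨hy', hy⟩⟩
    rw [h1] at h2
    exact h2
  have hsurj : ∀ y : Q, (y : Ω) ∈ T → ∃ y' : Q, (y' : Ω) ∈ T ∧ β y' = y := by
    -- injective self-map of the finite set `{y : Q | y ∈ T}`
    let A : Set Q := {y | (y : Ω) ∈ T}
    have hmaps : Set.MapsTo β A A := fun y hy => hβT y hy
    have hinjA : Set.InjOn β A := fun a _ b _ h => β.injective h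
    have hbij : Set.BijOn β A A := ((Set.toFinite A).injOn_iff_bijOn_of_mapsTo hmaps).1 hinjA
    intro y hy
    obtain ⟨y', hy', hyy'⟩ := hbij.surjOn hy
    exact ⟨y', hy', hyy'⟩
  -- now the centralizing property
  intro y hy
  obtain ⟨y', hy'T, hy'y⟩ := hsurj ⟨y, hy.1⟩ hy.2
  have hy'PQ : (y' : Ω) ∈ P ⊔ Q := (le_sup_right : Q ≤ P ⊔ Q) y'.2
  have h1 : ψ ⟨(y' : Ω), hy'PQ⟩ = y := by
    rw [hβ ⟨(y' : Ω), hy'PQ⟩ y'.2]
    exact congrArg Subtype.val hy'y
  have hxc : (y' : Ω) * (x : Ω) = (x : Ω) * (y' : Ω) := (hP x.2).2 (y' : Ω) ⟨y'.2, hy'T⟩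
  have h2 : φ x = ψ (Subgroup.inclusion le_sup_left x) := (hext x).symm
  rw [h2, ← h1, ← map_mul, ← map_mul]
  congr 1
  apply Subtype.ext
  exact hxc

/-! ### Coprime automorphisms of an overgroup of a self-centralizing normal subgroup -/

/-- Let `Q ≤ P ≤ S` with `Q` normalized by `S` and `C_S(Q) ≤ Q`, and `Y ≤ Q`.  An automorphism `α` of `P` of order
prime to `p` that fixes `Y` elementwise and moves every element of `Q` by an element of `Y` is trivial. -/
theorem aut_eq_one_of_coprime_of_stabilizes [Finite S] {p : ℕ} [Fact p.Prime] (hS : IsPGroup p S)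
    {P Q Y : Subgroup Ω} (hPS : P ≤ S) (hQP : Q ≤ P) (hnorm : S ≤ Subgroup.normalizer (Q : Set Ω))
    (hcent : centralizerIn S Q ≤ Q) (α : MulAut P) (hα : (orderOf α).Coprime p)
    (h0 : ∀ x : P, (x : Ω) ∈ Y → α x = x)
    (h1 : ∀ x : P, (x : Ω) ∈ Q → (x : Ω)⁻¹ * ((α x : P) : Ω) ∈ Y) : α = 1 := by
  have hPp : IsPGroup p P := hS.to_le hPS
  -- Step 1: `α` fixes `Q` elementwise
  have step1 : ∀ x : P, (x : Ω) ∈ Q → α x = x := by
    intro x hx
    set t : P := x⁻¹ * α x with ht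
    have htY : (t : Ω) ∈ Y := h1 x hx
    have hαt : α t = t := h0 t htY
    have hxt : α x = x * t := by rw [ht]; group
    obtain ⟨k, hk⟩ := hPp t
    have := eq_one_of_fixed_quotient α hα x t hxt hαt hk
    rw [hxt, this, mul_one]
  -- Step 2: `α` fixes everything
  ext x
  set t : P := x⁻¹ * α x with ht
  have hxt : α x = x * t := by rw [ht]; group
  have htS : (t : Ω) ∈ S := hPS t.2
  have htc : (t : Ω) ∈ centralizerIn S Q := by
    refine ⟨htS, ?_⟩
    intro q hq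
    -- `q' = x q x⁻¹ ∈ Q` is fixed by `α`
    have hxS : (x : Ω) ∈ S := hPS x.2
    have hq' : (x : Ω) * q * (x : Ω)⁻¹ ∈ Q := ((Subgroup.mem_normalizer_iff.1 (hnorm hxS)) q).1 hq
    have e1 : α (x * ⟨q, hQP hq⟩ * x⁻¹) = x * ⟨q, hQP hq⟩ * x⁻¹ := step1 _ hq'
    have e2 : α (⟨q, hQP hq⟩ : P) = ⟨q, hQP hq⟩ := step1 _ hq
    rw [map_mul, map_mul, map_inv, e2, hxt] at e1
    have e3 := congrArg Subtype.val e1
    simp only [Subgroup.coe_mul, Subgroup.coe_inv] at e3
    -- `x t q t⁻¹ x⁻¹ = x q x⁻¹`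
    have e4 : (t : Ω) * q * (t : Ω)⁻¹ = q := by
      have : (x : Ω) * ((t : Ω) * q * (t : Ω)⁻¹) * (x : Ω)⁻¹ = (x : Ω) * q * (x : Ω)⁻¹ := by
        rw [← e3]; group
      exact mul_left_cancel (mul_right_cancel this)
    calc q * (t : Ω) = ((t : Ω) * q * (t : Ω)⁻¹) * (t : Ω) := by rw [e4]
      _ = (t : Ω) * q := by group
  have htQ : (t : Ω) ∈ Q := hcent htc
  have hαt : α t = t := step1 t htQ
  obtain ⟨k, hk⟩ := hPp t
  have := eq_one_of_fixed_quotient α hα x t hxt hαt hk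
  rw [hxt, this, mul_one]
  rfl

/-- If `Q` is normal in the saturated system `F` with `C_S(Q) ≤ Q`, and `T` is strongly closed, then
`Q C_T(Q ∩ T)` is normal in `F`. -/
theorem isNormal_sup_centralizerIn_inf [Finite S] {p : ℕ} [Fact p.Prime] (hS : IsPGroup p S)
    (F : FusionSystem S) (hF : F.IsSaturated p) {Q T : Subgroup Ω} (hQ : F.IsNormal Q)
    (hcent : centralizerIn S Q ≤ Q) (hT : F.StronglyClosed T) :
    F.IsNormal (Q ⊔ centralizerIn T (Q ⊓ T)) := by
  classical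
  have hQsc : F.StronglyClosed Q := Cfsg.Agent.Lib.Helper84_FusionNormal.IsNormal.stronglyClosed hQ
  have hX : F.StronglyClosed (centralizerIn T (Q ⊓ T)) := stronglyClosed_centralizerIn_inf hQ hT
  have hQT : F.StronglyClosed (Q ⊓ T) :=
    ⟨inf_le_left.trans hQsc.1, fun R hR φ hφ x =>
      ⟨hQsc.2 R (hR.trans inf_le_left) φ hφ x, hT.2 R (hR.trans inf_le_right) φ hφ x⟩⟩
  have hnormQ : S ≤ Subgroup.normalizer (Q : Set Ω) := stronglyClosed_le_normalizer hQsc
  have hnormT : S ≤ Subgroup.normalizer (T : Set Ω) := stronglyClosed_le_normalizer hT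
  rw [Cfsg.Agent.S5086.result p hS F hF]
  refine ⟨Cfsg.Agent.S5128.result p hS F hF _ _ hQsc hX, fun P hPc hPrad => ?_⟩
  have hPS : P ≤ S := hPc.1
  have hQP : Q ≤ P := Cfsg.Agent.Lib.Helper84_FusionNormal.IsNormal.le_of_isCentric_of_isRadical hS hQ hPc hPrad
  refine sup_le hQP ?_
  by_contra hXP
  have hfinP : Finite P := Finite.of_injective (Subgroup.inclusion hPS) (Subgroup.inclusion_injective hPS)
  obtain ⟨x, hxX, hxN, hxP⟩ := exists_mem_normalizer_not_mem hS hPS hX.1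
    (hPS.trans (stronglyClosed_le_normalizer hX)) hXP
  have hxS : x ∈ S := hX.1 hxX
  have hxT : x ∈ T := hxX.1
  have hxc : ∀ y ∈ Q ⊓ T, y * x = x * y := fun y hy => Subgroup.mem_centralizer_iff.1 hxX.2 y hy
  let β : MulAut P := Subgroup.normalizerMonoidHom P ⟨x, hxN⟩
  have hβ : ∀ y : P, ((β y : P) : Ω) = x * y * x⁻¹ := fun y => rfl
  have hβK : β ∈ F.autGroup P :=
    autInducedBy_le_autGroup F hPS ((mem_autInducedBy_iff S P β).2 ⟨x, hxS, hβ⟩)
  let U : ℕ → Subgroup Ω := fun j => if j = 0 then Q ⊓ T else Q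
  let V : ℕ → Subgroup Ω := fun j => if j = 0 then ⊥ else Q ⊓ T
  have hU0 : U 0 = Q ⊓ T := if_pos rfl
  have hU1 : U 1 = Q := if_neg one_ne_zero
  have hV0 : V 0 = ⊥ := if_pos rfl
  have hV1 : V 1 = Q ⊓ T := if_neg one_ne_zero
  have hcases : ∀ j < 2, j = 0 ∨ j = 1 := fun j hj => by omega
  have hinvU : ∀ j < 2, ∀ α ∈ F.autGroup P, ∀ y : P, (y : Ω) ∈ U j → ((α y : P) : Ω) ∈ U j := by
    intro j hj α hα y hy
    rcases hcases j hj with rfl | rfl
    · rw [hU0] at hy ⊢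
      exact stronglyClosed_aut_mem hQT hPS hα y hy
    · rw [hU1] at hy ⊢
      exact stronglyClosed_aut_mem hQsc hPS hα y hy
  have hinvV : ∀ j < 2, ∀ α ∈ F.autGroup P, ∀ y : P, (y : Ω) ∈ V j → ((α y : P) : Ω) ∈ V j := by
    intro j hj α hα y hy
    rcases hcases j hj with rfl | rfl
    · rw [hV0] at hy ⊢
      rw [Subgroup.mem_bot] at hy ⊢
      have : y = 1 := Subtype.ext hy
      rw [this, map_one]
      rfl
    · rw [hV1] at hy ⊢
      exact stronglyClosed_aut_mem hQT hPS hα y hy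
  have htriv : ∀ α ∈ F.autGroup P, (orderOf α).Coprime p →
      (∀ j < 2, ∀ y : P, (y : Ω) ∈ U j → (y : Ω)⁻¹ * ((α y : P) : Ω) ∈ V j) → α = 1 := by
    intro α _ hαc hstab
    refine aut_eq_one_of_coprime_of_stabilizes hS hPS hQP hnormQ hcent α hαc (Y := Q ⊓ T) ?_ ?_
    · intro y hy
      have := hstab 0 (by norm_num) y (by rw [hU0]; exact hy)
      rw [hV0, Subgroup.mem_bot, inv_mul_eq_one] at this
      exact (Subtype.ext this).symm
    · intro y hy
      have := hstab 1 (by norm_num) y (by rw [hU1]; exact hy)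
      rwa [hV1] at this
  have hβstab : ∀ j < 2, ∀ y : P, (y : Ω) ∈ U j → (y : Ω)⁻¹ * ((β y : P) : Ω) ∈ V j := by
    intro j hj y hy
    rw [hβ]
    rcases hcases j hj with rfl | rfl
    · rw [hU0] at hy
      rw [hV0, Subgroup.mem_bot, ← hxc (y : Ω) hy]
      group
    · rw [hU1] at hy
      rw [hV1]
      refine ⟨?_, ?_⟩
      · have h2 : x * (y : Ω) * x⁻¹ ∈ Q := ((Subgroup.mem_normalizer_iff.1 (hnormQ hxS)) _).1 hy
        exact Q.mul_mem (Q.inv_mem hy) h2
      · have hyS : (y : Ω)⁻¹ ∈ S := S.inv_mem (hPS y.2)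
        have h2 : (y : Ω)⁻¹ * x * ((y : Ω)⁻¹)⁻¹ ∈ T := ((Subgroup.mem_normalizer_iff.1 (hnormT hyS)) _).1 hxT
        have h3 : (y : Ω)⁻¹ * (x * (y : Ω) * x⁻¹) = ((y : Ω)⁻¹ * x * ((y : Ω)⁻¹)⁻¹) * x⁻¹ := by group
        rw [h3]
        exact T.mul_mem h2 (T.inv_mem hxT)
  have hβcore : β ∈ (pCore p (F.autGroup P)).map (F.autGroup P).subtype :=
    mem_pCore_of_stabilizes_pairs (F.autGroup P) U V 2 hinvU hinvV htriv β hβK hβstab
  exact hxP (mem_of_conj_mem_pCore hPc hPrad hxS β hβ hβcore)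

/-! ### Normal subsystems of constrained systems -/

theorem weaklyClosed_of_stronglyClosed' [Finite S] {F : FusionSystem S} {Q : Subgroup Ω}
    (hQ : F.StronglyClosed Q) : F.WeaklyClosed Q := by
  refine ⟨hQ.1, fun φ hφ => ?_⟩
  have hfin : Finite Q := Finite.of_injective (Subgroup.inclusion hQ.1) (Subgroup.inclusion_injective _)
  have hle : φ.range ≤ Q := by
    rintro _ ⟨x, rfl⟩
    exact hQ.2 Q le_rfl φ hφ x
  apply Subgroup.eq_of_le_of_card_ge hle
  have hinj : Function.Injective φ := F.injective_of_mem hφ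
  exact le_of_eq (Nat.card_congr (MonoidHom.ofInjective hinj).toEquiv)

/-- In a constrained system the core `O_p(F)` contains its centralizer in `S`. -/
theorem centralizerIn_core_le [Finite S] {p : ℕ} {F : FusionSystem S} (hFc : F.IsConstrained p) :
    centralizerIn S F.core ≤ F.core := by
  obtain ⟨-, Q₀, hQ₀n, hQ₀c⟩ := hFc
  have hle : Q₀ ≤ F.core := le_sSup hQ₀n
  have h1 : centralizerIn S Q₀ ≤ Q₀ :=
    hQ₀c.2 Q₀ ⟨Q₀.subtype, subtype_mem F hQ₀c.1, Q₀.range_subtype⟩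
  intro x hx
  apply hle
  apply h1
  exact ⟨hx.1, Subgroup.centralizer_le (SetLike.coe_subset_coe.2 hle) hx.2⟩

/-- If `F` is constrained, `Q = O_p(F)` and `T` is strongly closed in `F`, then `C_T(Q ∩ T) ≤ Q`. -/
theorem centralizerIn_inf_le_core [Finite S] {p : ℕ} [Fact p.Prime] (hS : IsPGroup p S)
    {F : FusionSystem S} (hFc : F.IsConstrained p) {T : Subgroup Ω} (hT : F.StronglyClosed T) :
    centralizerIn T (F.core ⊓ T) ≤ F.core := by
  have hQn : F.IsNormal F.core := Cfsg.Agent.Lib.Helper85_Fusion.isNormal_core F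
  have hD := isNormal_sup_centralizerIn_inf hS F hFc.1 hQn (centralizerIn_core_le hFc) hT
  exact le_sup_right.trans (le_sSup hD)

/-- A normal subsystem of a constrained system is constrained. -/
theorem isConstrained_of_isNormalIn [Finite S] {p : ℕ} [Fact p.Prime] (hS : IsPGroup p S)
    {F : FusionSystem S} (hFc : F.IsConstrained p) {T : Subgroup Ω} {E : FusionSystem T}
    (hE : E.IsNormalIn F p) : E.IsConstrained p := by
  classical
  obtain ⟨⟨hEsat, hF, hinv⟩, -⟩ := id hE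
  have hEF : E.IsSubsystemOf F := hinv.1
  have hT : F.StronglyClosed T := hinv.2.1
  have hTS : T ≤ S := hT.1
  have hfinT : Finite T := Finite.of_injective (Subgroup.inclusion hTS) (Subgroup.inclusion_injective _)
  have hTp : IsPGroup p T := hS.to_le hTS
  have hQn : F.IsNormal F.core := Cfsg.Agent.Lib.Helper85_Fusion.isNormal_core F
  set Q := F.core with hQdef
  have hQsc : F.StronglyClosed Q := Cfsg.Agent.Lib.Helper84_FusionNormal.IsNormal.stronglyClosed hQn
  have hQTsc : E.StronglyClosed (Q ⊓ T) :=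
    ⟨inf_le_right, fun R hR φ hφ x =>
      ⟨hQsc.2 R (hR.trans inf_le_left) φ (hEF R hφ) x, hom_mem E hφ x⟩⟩
  -- `Q ⊓ T` is normal in `E`
  have hQTn : E.IsNormal (Q ⊓ T) := by
    obtain ⟨n, Qs, h0, hlast, hmono, hstep⟩ := (Cfsg.Agent.S5088.result p hS F hF Q).1 hQn
    rw [Cfsg.Agent.S5088.result p hTp E hEsat (Q ⊓ T)]
    refine ⟨n, fun i => Qs i ⊓ T, ?_, ?_, ?_, ?_⟩
    · show Qs 0 ⊓ T = ⊥
      rw [h0, bot_inf_eq]
    · show Qs (Fin.last n) ⊓ T = Q ⊓ T
      rw [hlast]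
    · intro i j hij
      exact inf_le_inf_right T (hmono hij)
    · intro i
      refine ⟨⟨inf_le_right, fun R hR φ hφ x =>
        ⟨(hstep i).1.2 R (hR.trans inf_le_left) φ (hEF R hφ) x, hom_mem E hφ x⟩⟩, ?_⟩
      refine le_inf ((Subgroup.commutator_mono inf_le_left inf_le_left).trans (hstep i).2) ?_
      refine (Subgroup.commutator_mono inf_le_right inf_le_right).trans ?_
      rw [Subgroup.commutator_le]
      intro a ha b hb
      exact T.mul_mem (T.mul_mem (T.mul_mem ha hb) (T.inv_mem ha)) (T.inv_mem hb)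
  refine ⟨hEsat, Q ⊓ T, hQTn, inf_le_right, fun Q' hconj => ?_⟩
  obtain ⟨φ, hφ, hrange⟩ := hconj
  have hwc : E.WeaklyClosed (Q ⊓ T) := weaklyClosed_of_stronglyClosed' hQTsc
  rw [← hrange, hwc.2 φ hφ]
  intro x hx
  exact ⟨centralizerIn_inf_le_core hS hFc hT hx, hx.1⟩

/-- A subnormal subsystem of a constrained system is constrained. -/
theorem isConstrained_of_isSubnormalIn {T S : Subgroup Ω} {E : FusionSystem T} {F : FusionSystem S} {p : ℕ}
    (h : E.IsSubnormalIn F p) : Fact p.Prime → Finite S → IsPGroup p S → F.IsConstrained p →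
    E.IsConstrained p := by
  induction h with
  | refl F p => exact fun _ _ _ hFc => hFc
  | step hED hDF ih =>
    intro hp hfin hS hFc
    have hUS := hDF.1.2.2.2.1.1
    exact ih hp (Finite.of_injective (Subgroup.inclusion hUS) (Subgroup.inclusion_injective _))
      (hS.to_le hUS) (isConstrained_of_isNormalIn hS hFc hDF)

end Cfsg.Agent.Lib.Helper87_Constrained
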