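import Cfsg.Agent.Lib.Helper85_Fusion
import Cfsg.Agent.Lib.Helper84_FusionNormal
import Cfsg.Agent.Lib.Helper47_PLocal

/-!
Fusion systems realized by a finite group, models (helper88).

* `exists_hom_of_conj`: conjugation by `g : G` pulled back along an injective `ι : N →* G`.
* `IsRealizedBy.exists_mem_of_conj`, `IsRealizedBy.exists_conj_of_mem`: both directions of
  realization in applied form.
* `isNormal_comap_pCore`: in a realized system (image of `N` Sylow), the preimage of `O_p(G)`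
  is normal in the system.
* `pCore_eq_map_of_isModel`: in a model `G` of a system `E`, `O_p(G)` is the image of any subgroup
  that is normal, centric and radical in `E`.
* `isNormal_of_isNormalizerSystem`, `isCentric_of_isNormalizerSystem`,
  `autGroup_eq_of_isNormalizerSystem`, `isRadical_of_isNormalizerSystem`: `R` in `N_F(R)`.
-/

set_option autoImplicit false

namespace Cfsg.Agent.Lib.Helper88_Model

open Cfsg Cfsg.FusionSystem Cfsg.Agent.Lib.Helper85_Fusion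

variable {Ω : Type*} [Group Ω]

/-- Conjugation by `g : G` on the image of `P ≤ N`, pulled back along an injective `ι : N →* G`,
provided it stays inside the image of `ι`. -/
theorem exists_hom_of_conj {N : Subgroup Ω} {G : Type*} [Group G] {ι : N →* G}
    (hι : Function.Injective ι) {P : Subgroup Ω} (hP : P ≤ N) (g : G)
    (h : ∀ x : P, g * ι ⟨x, hP x.2⟩ * g⁻¹ ∈ ι.range) :
    ∃ (φ : P →* Ω) (hφ : ∀ x : P, φ x ∈ N), ∀ x : P, ι ⟨φ x, hφ x⟩ = g * ι ⟨x, hP x.2⟩ * g⁻¹ := by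
  let c : P →* ι.range :=
    ((MulAut.conj g).toMonoidHom.comp (ι.comp (Subgroup.inclusion hP))).codRestrict ι.range
      (fun x => h x)
  let e : N ≃* ι.range := MonoidHom.ofInjective hι
  refine ⟨N.subtype.comp (e.symm.toMonoidHom.comp c), fun x => (e.symm (c x)).2, fun x => ?_⟩
  have h1 : e (e.symm (c x)) = c x := e.apply_symm_apply (c x)
  have h2 : ι (e.symm (c x)) = (c x : G) := congrArg Subtype.val h1
  exact h2

/-- In a realized system, conjugation by `g : G` that keeps the image of `P` inside the image of `ι`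
is induced by a map of the system. -/
theorem IsRealizedBy.exists_mem_of_conj {N : Subgroup Ω} {E : FusionSystem N} {G : Type*} [Group G]
    {ι : N →* G} (hE : E.IsRealizedBy ι) {P : Subgroup Ω} (hP : P ≤ N) (g : G)
    (h : ∀ x : P, g * ι ⟨x, hP x.2⟩ * g⁻¹ ∈ ι.range) :
    ∃ (φ : P →* Ω) (hφ : ∀ x : P, φ x ∈ N), φ ∈ E.Hom P ∧
      ∀ x : P, ι ⟨φ x, hφ x⟩ = g * ι ⟨x, hP x.2⟩ * g⁻¹ := by
  obtain ⟨φ, hφN, hφ⟩ := exists_hom_of_conj hE.1 hP g h
  exact ⟨φ, hφN, (hE.2 P hP φ hφN).2 ⟨g, hφ⟩, hφ⟩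

/-- In a realized system, every map is induced by conjugation in `G`. -/
theorem IsRealizedBy.exists_conj_of_mem {N : Subgroup Ω} {E : FusionSystem N} {G : Type*} [Group G]
    {ι : N →* G} (hE : E.IsRealizedBy ι) {P : Subgroup Ω} {φ : P →* Ω} (hφ : φ ∈ E.Hom P) :
    ∃ g : G, ∀ x : P, ι ⟨φ x, (E.le_of_mem hφ).2 x⟩ = g * ι ⟨x, (E.le_of_mem hφ).1 x.2⟩ * g⁻¹ :=
  (hE.2 P (E.le_of_mem hφ).1 φ (E.le_of_mem hφ).2).1 hφ

/-- If `ψ` maps `R ≤ D` onto `R` and `x ∈ D` normalizes `R`, then `ψ x` normalizes `R`. -/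
theorem map_mem_normalizer_of_map_eq {D R : Subgroup Ω} (ψ : D →* Ω)
    (himg : (R.subgroupOf D).map ψ = R) (x : D)
    (hx : (x : Ω) ∈ Subgroup.normalizer (R : Set Ω)) : ψ x ∈ Subgroup.normalizer (R : Set Ω) := by
  have key : ∀ y : D, (y : Ω) ∈ Subgroup.normalizer (R : Set Ω) →
      ∀ r ∈ R, ψ y * r * (ψ y)⁻¹ ∈ R := by
    intro y hy r hr
    obtain ⟨z, hz, hzD, rfl⟩ := exists_of_map_eq ψ himg r hr
    have hzy : (y : Ω) * z * (y : Ω)⁻¹ ∈ R := (Subgroup.mem_normalizer_iff.1 hy z).1 hz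
    have hD : (y : Ω) * z * (y : Ω)⁻¹ ∈ D := D.mul_mem (D.mul_mem y.2 hzD) (D.inv_mem y.2)
    have h1 : ψ y * ψ ⟨z, hzD⟩ * (ψ y)⁻¹ = ψ ⟨(y : Ω) * z * (y : Ω)⁻¹, hD⟩ := by
      rw [← map_inv, ← map_mul, ← map_mul]
      rfl
    rw [h1]
    exact apply_mem_of_map_eq ψ himg _ hzy hD
  rw [Subgroup.mem_normalizer_iff]
  intro h
  constructor
  · exact key x hx h
  · intro hh
    have h1 := key x⁻¹ (by
      have : ((x⁻¹ : D) : Ω) = (x : Ω)⁻¹ := rfl
      rw [this]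
      exact inv_mem hx) _ hh
    have h2 : ψ x⁻¹ * (ψ x * h * (ψ x)⁻¹) * (ψ x⁻¹)⁻¹ = h := by
      rw [map_inv]
      group
    rwa [h2] at h1

/-! ### `R` inside its normalizer system -/

variable {S : Subgroup Ω}

theorem le_normalizerIn_self {R : Subgroup Ω} (hRS : R ≤ S) : R ≤ normalizerIn S R :=
  le_inf hRS Subgroup.le_normalizer

/-- `R` is normal in `N_F(R)`. -/
theorem isNormal_of_isNormalizerSystem (F : FusionSystem S) {R : Subgroup Ω} (hRS : R ≤ S)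
    (E : FusionSystem (normalizerIn S R)) (hE : F.IsNormalizerSystem R E) : E.IsNormal R := by
  refine ⟨le_normalizerIn_self hRS, fun P φ hφ => ?_⟩
  rw [hE P] at hφ
  obtain ⟨hφF, hPN, hφN, ψ, hψ, hext, himg⟩ := hφ
  refine ⟨ψ, ?_, hext, himg⟩
  rw [hE (P ⊔ R)]
  have hDN : P ⊔ R ≤ normalizerIn S R := sup_le hPN (le_normalizerIn_self hRS)
  refine ⟨hψ, hDN, fun x => ⟨apply_mem F hψ x, ?_⟩, ?_⟩
  · exact map_mem_normalizer_of_map_eq ψ himg x (hDN x.2).2
  · have hle : (P ⊔ R) ⊔ R ≤ P ⊔ R := sup_le le_rfl le_sup_right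
    refine ⟨ψ.comp (Subgroup.inclusion hle), restrict_mem F hle hψ, fun x => ?_, ?_⟩
    · show ψ _ = ψ x
      congr 1
    · rw [map_subgroupOf_comp_inclusion hle le_sup_right ψ]
      exact himg

/-- A subgroup `R` centric in `F` is centric in `N_F(R)`. -/
theorem isCentric_of_isNormalizerSystem (F : FusionSystem S) {R : Subgroup Ω} (hRc : F.IsCentric R)
    (E : FusionSystem (normalizerIn S R)) (hE : F.IsNormalizerSystem R E) : E.IsCentric R := by
  have hRS := hRc.1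
  refine ⟨le_normalizerIn_self hRS, fun Q hQ => ?_⟩
  obtain ⟨φ, hφ, rfl⟩ := hQ
  rw [hE R] at hφ
  obtain ⟨hφF, -, -, ψ, hψ, hext, himg⟩ := hφ
  have hrange : φ.range = R := by
    rw [← map_subgroupOf_eq_range_of_ext le_sup_left φ ψ hext]
    exact himg
  rw [hrange]
  intro x hx
  exact hRc.2 R (isConj_refl F hRS) ⟨hx.1.1, hx.2⟩

/-- `Aut_{N_F(R)}(R) = Aut_F(R)`. -/
theorem autGroup_eq_of_isNormalizerSystem (F : FusionSystem S) {R : Subgroup Ω} (hRS : R ≤ S)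
    (E : FusionSystem (normalizerIn S R)) (hE : F.IsNormalizerSystem R E) :
    E.autGroup R = F.autGroup R := by
  unfold FusionSystem.autGroup
  congr 1
  ext α
  simp only [Set.mem_ofPred_eq]
  rw [hE R]
  constructor
  · intro h
    exact h.1
  · intro h
    refine ⟨h, le_normalizerIn_self hRS, fun x => le_normalizerIn_self hRS (α x).2, ?_⟩
    have hle : R ⊔ R ≤ R := sup_le le_rfl le_rfl
    refine ⟨(R.subtype.comp α.toMonoidHom).comp (Subgroup.inclusion hle), restrict_mem F hle h,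
      fun x => ?_, ?_⟩
    · show ((α _ : R) : Ω) = ((α x : R) : Ω)
      congr 2
    · rw [map_subgroupOf_comp_inclusion hle (le_sup_left : R ≤ R ⊔ R)]
      ext y
      rw [mem_map_subgroupOf]
      constructor
      · rintro ⟨z, hz, hzD, rfl⟩
        exact (α ⟨z, hzD⟩).2
      · intro hy
        refine ⟨(α.symm ⟨y, hy⟩ : R), (α.symm ⟨y, hy⟩).2, (α.symm ⟨y, hy⟩).2, ?_⟩
        show ((α (α.symm ⟨y, hy⟩) : R) : Ω) = y
        rw [MulEquiv.apply_symm_apply]

/-- A subgroup `R` radical in `F` is radical in `N_F(R)`. -/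
theorem isRadical_of_isNormalizerSystem (F : FusionSystem S) {p : ℕ} {R : Subgroup Ω}
    (hRr : F.IsRadical p R) (E : FusionSystem (normalizerIn S R))
    (hE : F.IsNormalizerSystem R E) : E.IsRadical p R := by
  refine ⟨le_normalizerIn_self hRr.1, ?_⟩
  rw [autGroup_eq_of_isNormalizerSystem F hRr.1 E hE]
  exact hRr.2

/-! ### Models -/

theorem pCore_normal' (p : ℕ) (G : Type*) [Group G] : (pCore p G).Normal :=
  Subgroup.sSup_normal _ (fun _ hH => hH.1)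

/-- In a system realized by `ι : N →* G` with `ι(N)` a Sylow `p`-subgroup, the preimage of `O_p(G)`
is normal in the system. -/
theorem isNormal_comap_pCore {N : Subgroup Ω} {p : ℕ} [Fact p.Prime] (E : FusionSystem N)
    {G : Type*} [Group G] (ι : N →* G) (hreal : E.IsRealizedBy ι)
    (hT : ∃ T : Sylow p G, (T : Subgroup G) = ι.range) :
    E.IsNormal (((pCore p G).comap ι).map N.subtype) := by
  obtain ⟨T, hT⟩ := hT
  have hι := hreal.1
  have hUn : (pCore p G).Normal := pCore_normal' p G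
  have hUr : pCore p G ≤ ι.range := hT ▸ Helper47_PLocal.pCore_le_sylow T
  set Uh : Subgroup Ω := ((pCore p G).comap ι).map N.subtype with hUh
  have hUhN : Uh ≤ N := by
    rintro _ ⟨x, -, rfl⟩
    exact x.2
  have hUh_mem : ∀ (x : Ω) (hx : x ∈ N), x ∈ Uh ↔ ι ⟨x, hx⟩ ∈ pCore p G := by
    intro x hx
    constructor
    · rintro ⟨y, hy, hyx⟩
      have : y = ⟨x, hx⟩ := Subtype.ext hyx
      rw [← this]
      exact hy
    · intro h
      exact ⟨⟨x, hx⟩, h, rfl⟩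
  refine ⟨hUhN, fun P φ hφ => ?_⟩
  have hPN := (E.le_of_mem hφ).1
  have hφN := (E.le_of_mem hφ).2
  obtain ⟨g, hg⟩ := (hreal.2 P hPN φ hφN).1 hφ
  have hDN : P ⊔ Uh ≤ N := sup_le hPN hUhN
  have hconj : ∀ x : ↥(P ⊔ Uh), g * ι ⟨x, hDN x.2⟩ * g⁻¹ ∈ ι.range := by
    let W : Subgroup Ω := ((ι.range.comap (MulAut.conj g).toMonoidHom).comap ι).map N.subtype
    have hW : P ⊔ Uh ≤ W := by
      refine sup_le ?_ ?_
      · intro x hx
        refine ⟨⟨x, hPN hx⟩, ?_, rfl⟩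
        show g * ι ⟨x, _⟩ * g⁻¹ ∈ ι.range
        rw [← hg ⟨x, hx⟩]
        exact ⟨_, rfl⟩
      · intro x hx
        refine ⟨⟨x, hUhN hx⟩, ?_, rfl⟩
        show g * ι ⟨x, _⟩ * g⁻¹ ∈ ι.range
        exact hUr (hUn.conj_mem _ ((hUh_mem x _).1 hx) g)
    intro x
    obtain ⟨y, hy, hyx⟩ := hW x.2
    have : y = ⟨x, hDN x.2⟩ := Subtype.ext hyx
    rw [← this]
    exact hy
  obtain ⟨ψ, hψN, hψE, hψ⟩ := IsRealizedBy.exists_mem_of_conj hreal hDN g hconj
  refine ⟨ψ, hψE, fun x => ?_, ?_⟩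
  · have h1 := hψ (Subgroup.inclusion le_sup_left x)
    have h2 := hg x
    have h3 : ι ⟨ψ (Subgroup.inclusion le_sup_left x), hψN _⟩ = ι ⟨φ x, hφN x⟩ := by
      rw [h1, h2]
      rfl
    exact congrArg Subtype.val (hι h3)
  · ext y
    rw [mem_map_subgroupOf]
    constructor
    · rintro ⟨x, hxU, hxD, rfl⟩
      rw [hUh_mem _ (hψN _), hψ]
      exact hUn.conj_mem _ ((hUh_mem x _).1 hxU) g
    · intro hy
      have hyN := hUhN hy
      have h1 : g⁻¹ * ι ⟨y, hyN⟩ * g ∈ pCore p G := by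
        have := hUn.conj_mem _ ((hUh_mem y hyN).1 hy) g⁻¹
        simpa using this
      obtain ⟨x, hx⟩ := hUr h1
      have hxU : (x : Ω) ∈ Uh := (hUh_mem x x.2).2 (by
        rw [Subtype.coe_eta, hx]
        exact h1)
      have hxD : (x : Ω) ∈ P ⊔ Uh := (le_sup_right : Uh ≤ P ⊔ Uh) hxU
      refine ⟨x, hxU, hxD, ?_⟩
      have h2 : ι ⟨ψ ⟨x, hxD⟩, hψN _⟩ = ι ⟨y, hyN⟩ := by
        rw [hψ]
        show g * ι ⟨(x : Ω), _⟩ * g⁻¹ = _
        rw [Subtype.coe_eta, hx]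
        group
      exact congrArg Subtype.val (hι h2)

/-- **In a model `G` of a fusion system `E` over a finite `p`-group `N`, `O_p(G)` is the image of any
subgroup `R` that is normal, centric and radical in `E`.** -/
theorem pCore_eq_map_of_isModel {N : Subgroup Ω} [Finite N] {p : ℕ} [Fact p.Prime]
    (hN : IsPGroup p N) (E : FusionSystem N) {R : Subgroup Ω} (hRn : E.IsNormal R)
    (hRc : E.IsCentric R) (hRr : E.IsRadical p R) {G : Type*} [Group G] (ι : N →* G)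
    (hM : E.IsModel p G ι) : pCore p G = (R.subgroupOf N).map ι := by
  obtain ⟨-, hreal, hSyl, hcent⟩ := hM
  have hUhn := isNormal_comap_pCore E ι hreal hSyl
  obtain ⟨T, hT⟩ := hSyl
  have hι := hreal.1
  have hUn : (pCore p G).Normal := pCore_normal' p G
  have hUr : pCore p G ≤ ι.range := hT ▸ Helper47_PLocal.pCore_le_sylow T
  set Uh : Subgroup Ω := ((pCore p G).comap ι).map N.subtype with hUh
  have hUhN : Uh ≤ N := hUhn.1
  have hUh_mem : ∀ (x : Ω) (hx : x ∈ N), x ∈ Uh ↔ ι ⟨x, hx⟩ ∈ pCore p G := by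
    intro x hx
    constructor
    · rintro ⟨y, hy, hyx⟩
      have : y = ⟨x, hx⟩ := Subtype.ext hyx
      rw [← this]
      exact hy
    · intro h
      exact ⟨⟨x, hx⟩, h, rfl⟩
  have hUhR : Uh ≤ R :=
    Helper84_FusionNormal.IsNormal.le_of_isCentric_of_isRadical hN hUhn hRc hRr
  have hRN : R ≤ N := hRn.1
  set RG : Subgroup G := (R.subgroupOf N).map ι with hRG
  have hRG_mem : ∀ (x : Ω) (hx : x ∈ N), x ∈ R → ι ⟨x, hx⟩ ∈ RG :=
    fun x hx hxR => ⟨⟨x, hx⟩, Subgroup.mem_subgroupOf.2 hxR, rfl⟩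
  have hURG : pCore p G ≤ RG := by
    intro u hu
    obtain ⟨x, rfl⟩ := hUr hu
    exact hRG_mem x x.2 (hUhR ((hUh_mem x x.2).2 hu))
  have hRGn : RG.Normal := by
    constructor
    intro n hn g
    have hconj : ∀ x : Uh, g * ι ⟨x, hUhN x.2⟩ * g⁻¹ ∈ ι.range :=
      fun x => hUr (hUn.conj_mem _ ((hUh_mem x _).1 x.2) g)
    obtain ⟨φ, hφN, hφE, hφ⟩ := IsRealizedBy.exists_mem_of_conj hreal hUhN g hconj
    obtain ⟨ψ, hψE, hext, himg⟩ := hRn.2 Uh φ hφE
    have hDN := (E.le_of_mem hψE).1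
    have hψN := (E.le_of_mem hψE).2
    obtain ⟨h, hh⟩ := (hreal.2 _ hDN ψ hψN).1 hψE
    have hc : h⁻¹ * g ∈ Subgroup.centralizer ((pCore p G : Subgroup G) : Set G) := by
      rw [Subgroup.mem_centralizer_iff]
      intro u hu
      obtain ⟨x, rfl⟩ := hUr hu
      have hxU : (x : Ω) ∈ Uh := (hUh_mem x x.2).2 hu
      have h1 := hh (Subgroup.inclusion le_sup_left ⟨x, hxU⟩)
      have h2 := hφ ⟨x, hxU⟩
      have h3 := hext ⟨x, hxU⟩
      have h4 : h * ι x * h⁻¹ = g * ι x * g⁻¹ := by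
        have e1 : h * ι x * h⁻¹ = ι ⟨ψ (Subgroup.inclusion le_sup_left ⟨x, hxU⟩), hψN _⟩ := by
          rw [h1]
          rfl
        have e2 : g * ι x * g⁻¹ = ι ⟨φ ⟨x, hxU⟩, hφN _⟩ := by
          rw [h2]
        rw [e1, e2]
        congr 2
      calc ι x * (h⁻¹ * g) = h⁻¹ * (h * ι x * h⁻¹) * g := by group
        _ = h⁻¹ * (g * ι x * g⁻¹) * g := by rw [h4]
        _ = h⁻¹ * g * ι x := by group
    have hmem : h⁻¹ * g ∈ RG := hURG (hcent hc)
    obtain ⟨⟨r, hrN⟩, hrR, rfl⟩ := hn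
    have h4 : (h⁻¹ * g) * ι ⟨r, hrN⟩ * (h⁻¹ * g)⁻¹ ∈ RG :=
      RG.mul_mem (RG.mul_mem hmem ⟨_, hrR, rfl⟩) (RG.inv_mem hmem)
    obtain ⟨⟨r', hr'N⟩, hr'R, hr'⟩ := h4
    have hr'R' : r' ∈ R := Subgroup.mem_subgroupOf.1 hr'R
    have hr'D : r' ∈ Uh ⊔ R := (le_sup_right : R ≤ Uh ⊔ R) hr'R'
    have h5 := hh ⟨r', hr'D⟩
    have h6 : g * ι ⟨r, hrN⟩ * g⁻¹ = ι ⟨ψ ⟨r', hr'D⟩, hψN _⟩ := by
      rw [h5]
      show _ = h * ι ⟨r', _⟩ * h⁻¹
      rw [hr']
      group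
    show g * ι ⟨r, hrN⟩ * g⁻¹ ∈ RG
    rw [h6]
    exact hRG_mem _ _ (apply_mem_of_map_eq ψ himg r' hr'R' hr'D)
  have hRGp : IsPGroup p RG := (hN.to_subgroup (R.subgroupOf N)).map ι
  exact le_antisymm hURG (Helper47_PLocal.le_pCore hRGn hRGp)

end Cfsg.Agent.Lib.Helper88_Model
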