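import Cfsg.Agent.Lib.Helper84_ModelBiset
import Cfsg.Agent.Lib.Helper88_Model
import Cfsg.Agent.Lib.Helper87_Constrained

/-!
# The model theorem: uniqueness (helper84)

A model `G` of a constrained fusion system is itself a biset over `Aut_F(Q)`; comparing the bisets of two models
gives an isomorphism of the models compatible with the embeddings of `S`.
-/

set_option autoImplicit false

namespace Cfsg.Agent.Lib.Helper84_ModelUnique

open Cfsg Cfsg.FusionSystem Cfsg.Agent.Lib.Helper87_Alperin Cfsg.Agent.Lib.Helper84_ExtBiset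
  Cfsg.Agent.Lib.Helper84_Model Cfsg.Agent.Lib.Helper84_ModelBiset Cfsg.Agent.Lib.Helper88_Model

universe u v

variable {Ω : Type u} [Group Ω] {S : Subgroup Ω} {p : ℕ} {F : FusionSystem S} {Q : Subgroup Ω}

section model

variable (h : Setup p F Q) {G : Type v} [Group G] {ι : S →* G}

include h in
/-- In a model, the image of a normal subgroup of the system is normal. -/
theorem model_conj_mem [Fact p.Prime] (hM : F.IsModel p G ι) (g : G) (q : Q) :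
    ∃ q' : Q, ι ⟨q', h.hQS q'.2⟩ = g * ι ⟨q, h.hQS q.2⟩ * g⁻¹ := by
  obtain ⟨-, hreal, hSyl, hcent⟩ := hM
  have hRn := isNormal_comap_pCore F ι hreal hSyl
  obtain ⟨T, hT⟩ := hSyl
  have hUn : (pCore p G).Normal := pCore_normal' p G
  have hUr : pCore p G ≤ ι.range := hT ▸ Helper47_PLocal.pCore_le_sylow T
  set R : Subgroup Ω := ((pCore p G).comap ι).map S.subtype with hR
  have hRS : R ≤ S := hRn.1
  have hR_mem : ∀ (x : Ω) (hx : x ∈ S), x ∈ R ↔ ι ⟨x, hx⟩ ∈ pCore p G := by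
    intro x hx
    constructor
    · rintro ⟨y, hy, rfl⟩
      exact hy
    · intro hxU
      exact ⟨⟨x, hx⟩, hxU, rfl⟩
  -- conjugation by `g` on `R`
  obtain ⟨φ, hφS, hφ, hφg⟩ := Helper88_Model.IsRealizedBy.exists_mem_of_conj (E := F) hreal hRS g (fun x => by
    apply hUr
    exact hUn.conj_mem _ ((hR_mem _ (hRS x.2)).1 x.2) g)
  obtain ⟨ψ, hψ, hext, himg⟩ := h.hQn.2 R φ hφ
  obtain ⟨g', hg'⟩ := Helper88_Model.IsRealizedBy.exists_conj_of_mem (E := F) hreal hψ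
  have hRQS : R ⊔ Q ≤ S := (F.le_of_mem hψ).1
  -- `g'⁻¹ g` centralizes the core
  have hc : g'⁻¹ * g ∈ Subgroup.centralizer ((pCore p G : Subgroup G) : Set G) := by
    rw [Subgroup.mem_centralizer_iff]
    intro u hu
    obtain ⟨s, rfl⟩ := hUr hu
    have hsR : (s : Ω) ∈ R := (hR_mem _ s.2).2 hu
    have h1 := hg' ⟨s, (le_sup_left : R ≤ R ⊔ Q) hsR⟩
    have h2 := hφg ⟨s, hsR⟩
    have h3 : ψ ⟨s, (le_sup_left : R ≤ R ⊔ Q) hsR⟩ = φ ⟨s, hsR⟩ := hext ⟨s, hsR⟩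
    have h4 : g' * ι s * g'⁻¹ = g * ι s * g⁻¹ := by
      rw [← h1, ← h2]
      congr 1
      exact Subtype.ext h3
    calc ι s * (g'⁻¹ * g) = g'⁻¹ * (g' * ι s * g'⁻¹) * g := by group
      _ = g'⁻¹ * (g * ι s * g⁻¹) * g := by rw [h4]
      _ = g'⁻¹ * g * ι s := by group
  obtain ⟨r₀, hr₀⟩ := hUr (hcent hc)
  have hq1 : (r₀ : Ω) * q * (r₀ : Ω)⁻¹ ∈ Q := ((h.hN r₀.2) _).1 q.2
  have hq1' : (r₀ : Ω) * q * (r₀ : Ω)⁻¹ ∈ R ⊔ Q := (le_sup_right : Q ≤ R ⊔ Q) hq1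
  have hq2 : ψ ⟨(r₀ : Ω) * q * (r₀ : Ω)⁻¹, hq1'⟩ ∈ Q :=
    Helper85_Fusion.apply_mem_of_map_eq ψ himg _ hq1 hq1'
  refine ⟨⟨_, hq2⟩, ?_⟩
  have h1 := hg' ⟨(r₀ : Ω) * q * (r₀ : Ω)⁻¹, hq1'⟩
  have e1 : (⟨ψ ⟨(r₀ : Ω) * q * (r₀ : Ω)⁻¹, hq1'⟩, (F.le_of_mem hψ).2 _⟩ : S)
      = ⟨ψ ⟨(r₀ : Ω) * q * (r₀ : Ω)⁻¹, hq1'⟩, h.hQS hq2⟩ := rfl
  have e2 : (⟨(r₀ : Ω) * q * (r₀ : Ω)⁻¹, (F.le_of_mem hψ).1 hq1'⟩ : S) = r₀ * ⟨q, h.hQS q.2⟩ * r₀⁻¹ := rfl
  rw [e2, map_mul, map_mul, map_inv, hr₀] at h1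
  rw [h1]
  group


/-- conjugation by an element of a model, on `Q` -/
noncomputable def cQ [Fact p.Prime] (hM : F.IsModel p G ι) (g : G) (q : Q) : Q :=
  (model_conj_mem h hM g q).choose

theorem cQ_spec [Fact p.Prime] (hM : F.IsModel p G ι) (g : G) (q : Q) :
    ι ⟨cQ h hM g q, h.hQS (cQ h hM g q).2⟩ = g * ι ⟨q, h.hQS q.2⟩ * g⁻¹ :=
  (model_conj_mem h hM g q).choose_spec

theorem cQ_unique [Fact p.Prime] (hM : F.IsModel p G ι) {g : G} {q q' : Q}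
    (hq : ι ⟨q', h.hQS q'.2⟩ = g * ι ⟨q, h.hQS q.2⟩ * g⁻¹) : cQ h hM g q = q' := by
  have h1 := cQ_spec h hM g q
  rw [← hq] at h1
  have h2 := hM.2.1.1 h1
  exact Subtype.ext (congrArg (fun s : S => (s : Ω)) h2)

/-- the conjugation action of a model on `Q`, with values in `Aut_F(Q)` -/
noncomputable def ΘM [Fact p.Prime] (hM : F.IsModel p G ι) : G →* ↥(F.autGroup Q) where
  toFun g := ⟨
    { toFun := cQ h hM g
      invFun := cQ h hM g⁻¹
      left_inv := fun q => by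
        apply cQ_unique
        rw [cQ_spec]; group
      right_inv := fun q => by
        apply cQ_unique
        rw [cQ_spec]; group
      map_mul' := fun q q' => by
        apply cQ_unique
        have e : (⟨((cQ h hM g q * cQ h hM g q' : Q) : Ω), h.hQS (Subtype.coe_prop _)⟩ : S)
            = ⟨cQ h hM g q, h.hQS (cQ h hM g q).2⟩ * ⟨cQ h hM g q', h.hQS (cQ h hM g q').2⟩ := rfl
        have e' : (⟨((q * q' : Q) : Ω), h.hQS (Subtype.coe_prop _)⟩ : S)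
            = ⟨q, h.hQS q.2⟩ * ⟨q', h.hQS q'.2⟩ := rfl
        rw [e, e', map_mul, map_mul, cQ_spec, cQ_spec]
        group }, by
    rw [mem_autGroup_iff' F h.hQS]
    refine (hM.2.1.2 Q h.hQS _ (fun x => h.hQS (Subtype.coe_prop _))).2 ⟨g, fun x => ?_⟩
    exact cQ_spec h hM g x⟩
  map_one' := by
    apply FBiset.aut_ext
    intro q
    show ((cQ h hM 1 q : Q) : Ω) = q
    rw [cQ_unique h hM (q' := q) (by simp)]
  map_mul' g g' := by
    apply FBiset.aut_ext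
    intro q
    show ((cQ h hM (g * g') q : Q) : Ω) = cQ h hM g (cQ h hM g' q)
    rw [cQ_unique h hM (q' := cQ h hM g (cQ h hM g' q)) (by rw [cQ_spec, cQ_spec]; group)]

theorem ΘM_apply [Fact p.Prime] (hM : F.IsModel p G ι) (g : G) (q : Q) :
    ι ⟨((ΘM h hM g : MulAut Q) q : Q), h.hQS (Subtype.coe_prop _)⟩ = g * ι ⟨q, h.hQS q.2⟩ * g⁻¹ :=
  cQ_spec h hM g q

theorem ΘM_ι [Fact p.Prime] (hM : F.IsModel p G ι) (s : S) : ΘM h hM (ι s) = h.π s := by
  apply FBiset.aut_ext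
  intro q
  show ((cQ h hM (ι s) q : Q) : Ω) = _
  have hq : (s : Ω) * q * (s : Ω)⁻¹ ∈ Q := ((h.hN s.2) _).1 q.2
  rw [cQ_unique h hM (q' := ⟨(s : Ω) * q * (s : Ω)⁻¹, hq⟩) (by
    rw [← map_inv, ← map_mul, ← map_mul]; rfl)]
  rfl

theorem ΘM_surjective [Fact p.Prime] (hM : F.IsModel p G ι) : Function.Surjective (ΘM h hM) := by
  intro a
  have h1 : Q.subtype.comp (a : MulAut Q).toMonoidHom ∈ F.Hom Q := (mem_autGroup_iff' F h.hQS _).1 a.2
  obtain ⟨g, hg⟩ := (hM.2.1.2 Q h.hQS _ (fun x => h.hQS (Subtype.coe_prop _))).1 h1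
  refine ⟨g, ?_⟩
  apply FBiset.aut_ext
  intro q
  show ((cQ h hM g q : Q) : Ω) = _
  rw [cQ_unique h hM (q' := (a : MulAut Q) q) (hg q)]


theorem mem_ker_ΘM [Fact p.Prime] (hM : F.IsModel p G ι) (c : G) :
    ΘM h hM c = 1 ↔ ∀ q : Q, c * ι ⟨q, h.hQS q.2⟩ * c⁻¹ = ι ⟨q, h.hQS q.2⟩ := by
  constructor
  · intro hc q
    rw [← ΘM_apply h hM c q, hc]
    rfl
  · intro hc
    apply FBiset.aut_ext
    intro q
    show ((cQ h hM c q : Q) : Ω) = q
    rw [cQ_unique h hM (q' := q) (hc q).symm]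

/-- elements of `ι(S)` in the kernel of the action on `Q` come from `Z(Q)` -/
theorem ker_ΘM_ι [Fact p.Prime] (hM : F.IsModel p G ι) (s : S) (hs : ΘM h hM (ι s) = 1) :
    ∃ z : Subgroup.center Q, Subgroup.inclusion h.hQS (z : Q) = s := by
  rw [ΘM_ι] at hs
  exact h.ker_π' s hs

/-- **In a model, the centralizer of `Q` is `Z(Q)`.** -/
theorem ker_ΘM [Fact p.Prime] (hM : F.IsModel p G ι) (g : G) (hg : ΘM h hM g = 1) :
    ∃ z : Subgroup.center Q, ι (Subgroup.inclusion h.hQS (z : Q)) = g := by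
  have hfin : Finite G := hM.1
  obtain ⟨T, hT⟩ := hM.2.2.1
  have hcent := hM.2.2.2
  have hUn : (pCore p G).Normal := pCore_normal' p G
  have hUr : pCore p G ≤ ι.range := hT ▸ Helper47_PLocal.pCore_le_sylow T
  have hUp : IsPGroup p (pCore p G) := Helper47_PLocal.pCore_isPGroup p G
  set K : Subgroup G := (ΘM h hM).ker with hK
  -- elements of `K` of order prime to `p` are trivial
  have hK1 : ∀ c : K, (orderOf c).Coprime p → c = 1 := by
    intro c hc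
    have hcK : ΘM h hM (c : G) = 1 := c.2
    have hcQ := (mem_ker_ΘM h hM (c : G)).1 hcK
    have hcord : (orderOf (c : G)).Coprime p := by rwa [Subgroup.orderOf_coe]
    have hα : (orderOf (MulAut.conj (c : G))).Coprime p := by
      apply Nat.Coprime.coprime_dvd_left _ hcord
      apply orderOf_dvd_of_pow_eq_one
      rw [← map_pow, pow_orderOf_eq_one, map_one]
    -- `c` centralizes the core
    have hcU : (c : G) ∈ Subgroup.centralizer ((pCore p G : Subgroup G) : Set G) := by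
      rw [Subgroup.mem_centralizer_iff]
      intro u hu
      set t : G := u⁻¹ * ((c : G) * u * (c : G)⁻¹) with ht
      have htU : t ∈ pCore p G := (pCore p G).mul_mem ((pCore p G).inv_mem hu) (hUn.conj_mem u hu c)
      have htK : t ∈ K := by
        have h1 : u⁻¹ * (c : G) * u⁻¹⁻¹ ∈ K := (MonoidHom.normal_ker _).conj_mem _ c.2 u⁻¹
        have h2 : t = (u⁻¹ * (c : G) * u⁻¹⁻¹) * (c : G)⁻¹ := by rw [ht]; group
        rw [h2]
        exact K.mul_mem h1 (K.inv_mem c.2)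
      obtain ⟨s, hs⟩ := hUr htU
      obtain ⟨z, hz⟩ := ker_ΘM_ι h hM s (by rw [hs]; exact htK)
      have hct : MulAut.conj (c : G) t = t := by
        rw [MulAut.conj_apply, ← hs, ← hz]
        exact hcQ (z : Q)
      obtain ⟨k, hk⟩ := hUp ⟨t, htU⟩
      have hk' : t ^ p ^ k = 1 := congrArg Subtype.val hk
      have h3 := Helper87_Constrained.eq_one_of_fixed_quotient (MulAut.conj (c : G)) hα u t
        (by rw [MulAut.conj_apply, ht]; group) hct hk'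
      rw [ht] at h3
      have h4 : (c : G) * u * (c : G)⁻¹ = u := by
        have := congrArg (fun w => u * w) h3
        simpa using this
      calc u * (c : G) = ((c : G) * u * (c : G)⁻¹) * c := by rw [h4]
        _ = c * u := by group
    have hcU' : (c : G) ∈ pCore p G := hcent hcU
    obtain ⟨k, hk⟩ := hUp ⟨c, hcU'⟩
    have hk' : (c : G) ^ p ^ k = 1 := congrArg Subtype.val hk
    have h5 : orderOf (c : G) ∣ p ^ k := orderOf_dvd_of_pow_eq_one hk'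
    have h6 : orderOf (c : G) = 1 :=
      Nat.eq_one_of_dvd_coprimes (Nat.Coprime.pow_right k hcord) dvd_rfl h5
    exact Subtype.ext (orderOf_eq_one_iff.1 h6)
  -- hence `K` is a normal `p`-subgroup, contained in the core
  have hKp : IsPGroup p K := isPGroup_of_coprime_eq_one hK1
  have hKU : K ≤ pCore p G := Helper47_PLocal.le_pCore (MonoidHom.normal_ker _) hKp
  obtain ⟨s, hs⟩ := hUr (hKU hg)
  obtain ⟨z, hz⟩ := ker_ΘM_ι h hM s (by rw [hs]; exact hg)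
  exact ⟨z, by rw [hz, hs]⟩


theorem model_hgen [Fact p.Prime] (hM : F.IsModel p G ι) (g₀ : G) :
    ∃ (D : Subgroup Ω) (σ : Ω → Ω), IsMapOn F D σ ∧
      ∀ (x t : S), ι x * g₀ = g₀ * ι t ↔ ((x : Ω) ∈ D ∧ σ x = t) := by
  have hreal := hM.2.1
  have hιinj := hreal.1
  let Dsub : Subgroup S := (ι.range).comap ((MulAut.conj g₀⁻¹).toMonoidHom.comp ι)
  let D : Subgroup Ω := Dsub.map S.subtype
  have hDS : D ≤ S := by
    rintro _ ⟨y, -, rfl⟩
    exact y.2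
  have hD_mem : ∀ x : S, (x : Ω) ∈ D ↔ g₀⁻¹ * ι x * g₀ ∈ ι.range := by
    intro x
    constructor
    · rintro ⟨y, hy, hyx⟩
      have : y = x := Subtype.ext hyx
      subst this
      have : g₀⁻¹ * ι y * g₀⁻¹⁻¹ ∈ ι.range := hy
      rwa [inv_inv] at this
    · intro hx
      refine ⟨x, ?_, rfl⟩
      show g₀⁻¹ * ι x * g₀⁻¹⁻¹ ∈ ι.range
      rwa [inv_inv]
  obtain ⟨φ, hφS, hφ, hφg⟩ := Helper88_Model.IsRealizedBy.exists_mem_of_conj (E := F) hreal hDS g₀⁻¹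
    (fun x => by
      have := (hD_mem ⟨x, hDS x.2⟩).1 x.2
      rwa [inv_inv])
  refine ⟨D, extHom φ, isMapOn_extHom F hφ, fun x t => ?_⟩
  constructor
  · intro hxt
    have h1 : g₀⁻¹ * ι x * g₀ = ι t := by
      calc g₀⁻¹ * ι x * g₀ = g₀⁻¹ * (ι x * g₀) := by group
        _ = g₀⁻¹ * (g₀ * ι t) := by rw [hxt]
        _ = ι t := by group
    have hxD : (x : Ω) ∈ D := (hD_mem x).2 ⟨t, h1.symm⟩
    refine ⟨hxD, ?_⟩
    rw [extHom_apply φ hxD]
    have h2 := hφg ⟨x, hxD⟩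
    rw [inv_inv] at h2
    have h3 : ι ⟨φ ⟨x, hxD⟩, hφS _⟩ = ι t := by rw [h2]; exact h1
    exact congrArg Subtype.val (hιinj h3)
  · rintro ⟨hxD, hσ⟩
    rw [extHom_apply φ hxD] at hσ
    have h2 := hφg ⟨x, hxD⟩
    rw [inv_inv] at h2
    have h3 : (⟨φ ⟨x, hxD⟩, hφS _⟩ : S) = t := Subtype.ext hσ
    rw [h3] at h2
    have e : (⟨((⟨(x : Ω), hxD⟩ : D) : Ω), hDS hxD⟩ : S) = x := rfl
    rw [e] at h2
    rw [h2]
    group

theorem model_qform [Fact p.Prime] (hM : F.IsModel p G ι) (n : Q) (x : G) :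
    ι (Subgroup.inclusion h.hQS n)
      * x = x * ι (Subgroup.inclusion h.hQS ((((ΘM h hM x)⁻¹ : F.autGroup Q) : MulAut Q) n)) := by
  have h1 := ΘM_apply h hM x⁻¹ n
  have e2 : (Subgroup.inclusion h.hQS ((((ΘM h hM x)⁻¹ : F.autGroup Q) : MulAut Q) n) : S)
      = ⟨((ΘM h hM x⁻¹ : MulAut Q) n : Q), h.hQS (Subtype.coe_prop _)⟩ := by
    apply Subtype.ext
    rw [map_inv]
    rfl
  rw [e2, h1]
  have e3 : (Subgroup.inclusion h.hQS n : S) = ⟨n, h.hQS n.2⟩ := rfl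
  rw [e3]
  group

open scoped IsMulCommutative in
/-- **A model is a biset over `Aut_F(Q)`.** -/
noncomputable def modelBiset [Fact p.Prime] (hM : F.IsModel p G ι) : FBiset F Q (Subgroup.center Q) G where
  lm := fun s g => ι s * g
  rm := fun g t => g * ι t
  lm_one := fun x => by simp
  lm_mul := fun s t x => by simp [mul_assoc]
  rm_one := fun x => by simp
  rm_mul := fun x s t => by simp [mul_assoc]
  lm_rm := fun s x t => by simp [mul_assoc]
  jz := (Subgroup.inclusion h.hQS).comp (Subgroup.center Q).subtype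
  j := Subgroup.inclusion h.hQS
  π := h.π
  actZ := (Setup.centerAut Q).comp (F.autGroup Q).subtype
  act := (F.autGroup Q).subtype
  θ := ΘM h hM
  jz_inj := fun _ _ hab => Subtype.ext (Subgroup.inclusion_injective h.hQS hab)
  compatZ := fun s z => Subtype.ext (h.π_apply s z)
  compat := fun s n => Subtype.ext (h.π_apply s n)
  ker_π := fun s hs => h.ker_π' s hs
  π_jz := h.π_center
  θ_lm := fun s x => by rw [map_mul, ΘM_ι]
  θ_rm := fun x t => by rw [map_mul, ΘM_ι]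
  θ_surj := ΘM_surjective h hM
  fiber := fun x y hxy => by
    have h1 : ΘM h hM (x⁻¹ * y) = 1 := by rw [map_mul, map_inv, hxy, inv_mul_cancel]
    obtain ⟨z, hz⟩ := ker_ΘM h hM _ h1
    exact ⟨z, by show y = x * ι _; rw [MonoidHom.comp_apply]; erw [hz]; group⟩
  free := fun x t hxt => by
    have h1 : ι t = 1 := by
      have := congrArg (fun w => x⁻¹ * w) hxt
      simpa using this
    exact (injective_iff_map_eq_one ι).1 hM.2.1.1 t h1
  zform := fun z x => model_qform h hM (z : Q) x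
  qform := fun n x => model_qform h hM n x
  hj := fun _ => rfl
  hπ := h.π_apply
  hact := fun _ _ => rfl
  hjz := fun z => ⟨z, rfl⟩
  hgen := model_hgen hM

end model


/-! ### Comparison of two bisets -/

section compare

variable {Z₁ : Type*} {X₁ : Type*} {Z₂ : Type*} {X₂ : Type*} [CommGroup Z₁] [CommGroup Z₂]
  (D₁ : FBiset F Q Z₁ X₁) (D₂ : FBiset F Q Z₂ X₂)

/-- every point of the first biset has a partner in the second with the same structure value and a stabilizer at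
least as large -/
theorem exists_related₂ [Finite S] [Fact p.Prime] (hS : IsPGroup p S) (hF : F.IsSaturated p)
    (hQc : F.IsCentric Q) (ω : X₁) :
    ∃ ω' : X₂, D₂.B.θ ω' = D₁.B.θ ω ∧
      ∀ (x t : S), D₁.B.lm x ω = D₁.B.rm ω t → D₂.B.lm x ω' = D₂.B.rm ω' t := by
  obtain ⟨Dω, σ, hσ, hDσ⟩ := D₁.hgen ω
  obtain ⟨ω'', hω''⟩ := D₂.B.θ_surj (D₁.B.θ ω)
  obtain ⟨D'', σ'', hσ'', hDσ''⟩ := D₂.hgen ω''
  -- (c2)
  have hc2 : Dω ≤ D'' := by
    intro x hx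
    have hxS : x ∈ S := hσ.le hx
    have h1 : D₁.B.lm ⟨x, hxS⟩ ω = D₁.B.rm ω ⟨σ x, hσ.mem hx⟩ := (hDσ _ _).2 ⟨hx, rfl⟩
    have h2 : D₂.B.θ (D₂.B.rm ω'' ⟨σ x, hσ.mem hx⟩) = D₂.B.θ (D₂.B.lm ⟨x, hxS⟩ ω'') := by
      rw [D₂.B.θ_lm, D₂.B.θ_rm, hω'']
      have h3 := congrArg D₁.B.θ h1
      rw [D₁.B.θ_lm, D₁.B.θ_rm] at h3
      have e1 : D₂.B.π = D₁.B.π := by
        ext s q
        rw [D₂.hπ, D₁.hπ]
      rw [e1]
      exact h3.symm
    obtain ⟨z, hz⟩ := D₂.B.fiber _ _ h2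
    rw [← D₂.B.rm_mul] at hz
    exact ((hDσ'' _ _).1 hz).1
  -- (c4)
  have hc4 : ∀ x ∈ Q, σ x = σ'' x := by
    intro x hx
    have h1 := (D₁.gen_Q hDσ ⟨x, hx⟩).2
    have h3 := (D₂.gen_Q hDσ'' ⟨x, hx⟩).2
    rw [h1, h3, hω'']
  have hQD : Q ≤ Dω := fun x hx => (D₁.gen_Q hDσ ⟨x, hx⟩).1
  -- (c5)
  obtain ⟨z, hzQ, hzc, hz⟩ := Cfsg.Agent.Lib.Helper88_Centric.eq_comp_conj_of_agree hS hF _ rfl hQD hQc
    hσ (hσ''.mono hc2) hc4
  -- (c6)
  have hcent : ∀ q : Q, ((((((D₁.B.θ ω)⁻¹ : F.autGroup Q) : MulAut Q) ⟨z, hzQ⟩ : Q) : Ω)) * q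
      = q * ((((D₁.B.θ ω)⁻¹ : F.autGroup Q) : MulAut Q) ⟨z, hzQ⟩ : Q) := by
    intro q
    set β : MulAut Q := (((D₁.B.θ ω)⁻¹ : F.autGroup Q) : MulAut Q) with hβ
    have h1 : (⟨z, hzQ⟩ : Q) * β⁻¹ q = β⁻¹ q * ⟨z, hzQ⟩ := Subtype.ext (hzc _ (Subtype.coe_prop _))
    have h2 := congrArg β h1
    rw [map_mul, map_mul, MulAut.apply_inv_self] at h2
    exact congrArg Subtype.val h2
  set u : S := D₂.B.j (D₂.B.act (D₁.B.θ ω)⁻¹ ⟨z, hzQ⟩) with hu
  have hucoe : (u : Ω) = σ z := by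
    rw [hu, D₂.hj, D₂.hact]
    exact (D₁.gen_Q hDσ ⟨z, hzQ⟩).2.symm
  have hπu : D₂.B.π u = 1 := by
    apply D₂.π_j_central
    intro q
    rw [D₂.hact]
    exact hcent q
  refine ⟨D₂.B.rm ω'' u, by rw [D₂.B.θ_rm, hω'', hπu, mul_one], fun r t hrt => ?_⟩
  obtain ⟨hrD, hrt'⟩ := (hDσ _ _).1 hrt
  have h1 := hc2 hrD
  have h2 : D₂.B.lm r ω'' = D₂.B.rm ω'' ⟨σ'' r, hσ''.mem h1⟩ := (hDσ'' _ _).2 ⟨h1, rfl⟩
  have h3 : (⟨σ'' r, hσ''.mem h1⟩ : S) = u * t * u⁻¹ := by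
    apply Subtype.ext
    have := hz _ hrD
    show σ'' r = (u : Ω) * t * (u : Ω)⁻¹
    rw [this, hσ.map_mul (Dω.mul_mem (hQD hzQ) hrD) (Dω.inv_mem (hQD hzQ)),
      hσ.map_mul (hQD hzQ) hrD, hσ.map_inv (hQD hzQ), hucoe]
    rw [hrt']
  rw [h3] at h2
  rw [D₂.B.lm_rm, h2, ← D₂.B.rm_mul, ← D₂.B.rm_mul]
  congr 1
  group

/-- **Two bisets over `Aut_F(Q)` generated by maps of the system are isomorphic**, by an isomorphism compatible
with both actions and the structure maps. -/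
theorem exists_equiv₂ [Finite S] [Fact p.Prime] (hS : IsPGroup p S) (hF : F.IsSaturated p)
    (hQc : F.IsCentric Q) :
    ∃ f : X₁ ≃ X₂, (∀ x t, f (D₁.B.rm x t) = D₂.B.rm (f x) t) ∧ (∀ x, D₂.B.θ (f x) = D₁.B.θ x) ∧
      ∀ (s : S) x, f (D₁.B.lm s x) = D₂.B.lm s (f x) := by
  have h0 := exists_related₂ D₁ D₂ hS hF hQc
  choose g₀ hg₀θ hg₀ using h0
  let a1 : S × S → X₁ → X₁ := fun h ω => D₁.B.lm h.1 (D₁.B.rm ω h.2⁻¹)
  let a2 : S × S → X₂ → X₂ := fun h ω => D₂.B.lm h.1 (D₂.B.rm ω h.2⁻¹)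
  have h1one : ∀ x, a1 1 x = x := fun x => by simp [a1, D₁.B.rm_one, D₁.B.lm_one]
  have h1mul : ∀ g h x, a1 (g * h) x = a1 g (a1 h x) := fun g h x => by
    simp only [a1, Prod.fst_mul, Prod.snd_mul, mul_inv_rev]
    rw [D₁.B.lm_mul, D₁.B.rm_mul, D₁.B.lm_rm]
  have h2mul : ∀ g h x, a2 (g * h) x = a2 g (a2 h x) := fun g h x => by
    simp only [a2, Prod.fst_mul, Prod.snd_mul, mul_inv_rev]
    rw [D₂.B.lm_mul, D₂.B.rm_mul, D₂.B.lm_rm]
  have hstab : ∀ x h, a1 h x = x → a2 h (g₀ x) = g₀ x := by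
    rintro x ⟨r, t⟩ hx
    simp only [a1, a2] at hx ⊢
    have h1 : D₁.B.lm r x = D₁.B.rm x t := by
      have : D₁.B.rm (D₁.B.lm r (D₁.B.rm x t⁻¹)) t = D₁.B.rm x t := by rw [hx]
      rw [D₁.B.lm_rm, ← D₁.B.rm_mul, inv_mul_cancel, D₁.B.rm_one] at this
      exact this
    have h2 := hg₀ x r t h1
    rw [D₂.B.lm_rm, h2, ← D₂.B.rm_mul, mul_inv_cancel, D₂.B.rm_one]
  obtain ⟨f, hf1, hf2⟩ := exists_orbit_map a1 a2 h1one h1mul h2mul g₀ hstab
  have hfr : ∀ x t, f (D₁.B.rm x t) = D₂.B.rm (f x) t := fun x t => by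
    have := hf1 (1, t⁻¹) x
    simpa [a1, a2, D₁.B.lm_one, D₂.B.lm_one] using this
  have hfl : ∀ (s : S) x, f (D₁.B.lm s x) = D₂.B.lm s (f x) := fun s x => by
    have := hf1 (s, 1) x
    simp only [a1, a2, inv_one, D₁.B.rm_one, D₂.B.rm_one] at this
    exact this
  have eπ : D₂.B.π = D₁.B.π := by
    ext s q
    rw [D₂.hπ, D₁.hπ]
  have hfθ : ∀ x, D₂.B.θ (f x) = D₁.B.θ x := by
    intro x
    obtain ⟨⟨r, t⟩, hh⟩ := hf2 x
    rw [hh]
    simp only [a1, a2, Prod.inv_mk, inv_inv]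
    rw [D₂.B.θ_lm, D₂.B.θ_rm, hg₀θ, D₁.B.θ_lm, D₁.B.θ_rm, eπ, map_inv, map_inv]
    group
  have hinj : Function.Injective f := by
    intro x y hxy
    have h1 : D₁.B.θ x = D₁.B.θ y := by rw [← hfθ, ← hfθ, hxy]
    obtain ⟨z, hz⟩ := D₁.B.fiber _ _ h1
    have h2 : D₂.B.rm (f x) (D₁.B.jz z) = f x := by rw [← hfr, ← hz, hxy]
    have h3 := D₂.B.free _ _ h2
    rw [hz, h3, D₁.B.rm_one]
  have hsurj : Function.Surjective f := by
    intro y
    obtain ⟨x, hx⟩ := D₁.B.θ_surj (D₂.B.θ y)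
    have h1 : D₂.B.θ (f x) = D₂.B.θ y := by rw [hfθ, hx]
    obtain ⟨z, hz⟩ := D₂.B.fiber _ _ h1
    exact ⟨D₁.B.rm x (D₂.B.jz z), by rw [hfr, hz]⟩
  exact ⟨Equiv.ofBijective f ⟨hinj, hsurj⟩, hfr, hfθ, hfl⟩

end compare


/-! ### A group acting on a biset is the extension group -/

section final

/-- A group `M` containing `S`, acting on the biset by bisets automorphisms extending the left action of `S`,
surjecting onto `A` with kernel inside the image of `Z`, is isomorphic to the extension group of the biset. -/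
theorem exists_mulEquiv_of_hom {S' A N Z X : Type*} [Group S'] [Group A] [Group N] [CommGroup Z]
    (B : Biset S' A N Z X) [Finite X] [Finite Z]
    (hcop : (Nat.card Z).Coprime B.π.range.index) {M : Type*} [Group M] (ιM : S' →* M) (ρ : M →* B.E)
    (hρι : ∀ s, ρ (ιM s) = B.Λ s)
    (hsurj : ∀ a : A, ∃ m, B.ΘE (ρ m) = a)
    (hker : ∀ m, B.ΘE (ρ m) = 1 → ∃ z, m = ιM (B.jz z)) :
    ∃ e : M ≃* B.G, ∀ s, e (ιM s) = B.ι s := by
  let κ : M →* B.G := (QuotientGroup.mk' B.Nτ).comp ρ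
  have hκι : ∀ s, κ (ιM s) = B.ι s := fun s => by
    show QuotientGroup.mk (ρ (ιM s)) = _
    rw [hρι, B.ι_def]
  have hΘκ : ∀ m, B.Θ (κ m) = B.ΘE (ρ m) := fun m => rfl
  have hinj : Function.Injective κ := by
    rw [injective_iff_map_eq_one]
    intro m hm
    have h1 : B.ΘE (ρ m) = 1 := by rw [← hΘκ, hm, map_one]
    obtain ⟨z, rfl⟩ := hker m h1
    rw [hκι] at hm
    have h2 : B.jz z = 1 := B.ι_injective hcop (by rw [hm, map_one])
    rw [h2, map_one]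
  have hsurj' : Function.Surjective κ := by
    intro g
    obtain ⟨m, hm⟩ := hsurj (B.Θ g)
    have h1 : B.Θ (g * (κ m)⁻¹) = 1 := by rw [map_mul, map_inv, hΘκ, hm, mul_inv_cancel]
    obtain ⟨z, hz⟩ := B.ker_Θ hcop _ h1
    refine ⟨ιM (B.jz z) * m, ?_⟩
    rw [map_mul, hκι, ← hz, inv_mul_cancel_right]
  exact ⟨MulEquiv.ofBijective κ ⟨hinj, hsurj'⟩, hκι⟩

variable (h : Setup p F Q) {G : Type v} [Group G] {ι : S →* G}
  {Z : Type*} {X : Type*} [CommGroup Z] (D : FBiset F Q Z X)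

include h in
/-- A model whose own biset is isomorphic to a given biset is isomorphic to the extension group of that biset. -/
theorem exists_mulEquiv_model [Finite S] [Fact p.Prime] [Finite X] [Finite Z] (hM : F.IsModel p G ι)
    (f₀ : G ≃ X) (hfr : ∀ g t, f₀ (g * ι t) = D.B.rm (f₀ g) t) (hfθ : ∀ g, D.B.θ (f₀ g) = ΘM h hM g)
    (hfl : ∀ s g, f₀ (ι s * g) = D.B.lm s (f₀ g)) :
    ∃ e : G ≃* D.B.G, ∀ s, e (ι s) = D.B.ι s := by
  have hcop := D.coprime_index h.hS h.hF h.hQn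
  have hfr' : ∀ x t, f₀.symm (D.B.rm x t) = f₀.symm x * ι t := fun x t => by
    apply f₀.injective
    rw [hfr]
    simp
  let ρ : G →* D.B.E :=
    { toFun := fun g => ⟨(f₀.symm.trans (Equiv.mulLeft g)).trans f₀, by
        refine ⟨fun x t => ?_, ΘM h hM g, fun x => ?_⟩
        · show f₀ (g * f₀.symm (D.B.rm x t)) = D.B.rm (f₀ (g * f₀.symm x)) t
          rw [hfr', ← hfr, mul_assoc]
        · show D.B.θ (f₀ (g * f₀.symm x)) = ΘM h hM g * D.B.θ x
          rw [hfθ, map_mul, ← hfθ (f₀.symm x), Equiv.apply_symm_apply]⟩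
      map_one' := by
        apply Subtype.ext
        apply Equiv.ext
        intro x
        show f₀ (1 * f₀.symm x) = x
        simp
      map_mul' := fun g g' => by
        apply Subtype.ext
        apply Equiv.ext
        intro x
        show f₀ (g * g' * f₀.symm x) = f₀ (g * f₀.symm (f₀ (g' * f₀.symm x)))
        simp [mul_assoc] }
  have hρΘ : ∀ g, D.B.ΘE (ρ g) = ΘM h hM g := fun g => by
    apply D.B.ΘE_eq
    intro x
    show D.B.θ (f₀ (g * f₀.symm x)) = ΘM h hM g * D.B.θ x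
    rw [hfθ, map_mul, ← hfθ (f₀.symm x), Equiv.apply_symm_apply]
  refine exists_mulEquiv_of_hom D.B hcop ι ρ (fun s => ?_) (fun a => ?_) (fun m hm => ?_)
  · apply Subtype.ext
    apply Equiv.ext
    intro x
    show f₀ (ι s * f₀.symm x) = D.B.lm s x
    rw [hfl]
    simp
  · obtain ⟨g, hg⟩ := ΘM_surjective h hM a
    exact ⟨g, by rw [hρΘ, hg]⟩
  · rw [hρΘ] at hm
    obtain ⟨z, hz⟩ := ker_ΘM h hM m hm
    have h1 : D.B.π (Subgroup.inclusion h.hQS (z : Q)) = 1 := by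
      apply FBiset.aut_ext
      intro q
      rw [D.hπ]
      show ((z : Q) : Ω) * q * ((z : Q) : Ω)⁻¹ = q
      have := Subgroup.mem_center_iff.1 z.2 q
      have h2 : (q : Ω) * ((z : Q) : Ω) = ((z : Q) : Ω) * q := congrArg Subtype.val this
      rw [← h2]
      group
    obtain ⟨z', hz'⟩ := D.B.ker_π _ h1
    exact ⟨z', by rw [hz', hz]⟩

open scoped IsMulCommutative in
include h in
/-- **Uniqueness of models.** -/
theorem model_unique [Finite S] [Fact p.Prime] {G₁ : Type*} {G₂ : Type*} [Group G₁] [Group G₂]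
    {ι₁ : S →* G₁} {ι₂ : S →* G₂} (hM₁ : F.IsModel p G₁ ι₁) (hM₂ : F.IsModel p G₂ ι₂) :
    ∃ φ : G₁ ≃* G₂, ∀ x : S, φ (ι₁ x) = ι₂ x := by
  have hfin₂ : Finite G₂ := hM₂.1
  have hfinQ : Finite Q := Finite.of_injective _ (Subgroup.inclusion_injective h.hQS)
  obtain ⟨f, hfr, hfθ, hfl⟩ := exists_equiv₂ (modelBiset h hM₁) (modelBiset h hM₂) h.hS h.hF h.hQc
  obtain ⟨e₁, he₁⟩ := exists_mulEquiv_model h (modelBiset h hM₂) hM₁ f hfr hfθ hfl
  obtain ⟨e₂, he₂⟩ := exists_mulEquiv_model h (modelBiset h hM₂) hM₂ (Equiv.refl G₂) (fun _ _ => rfl)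
    (fun _ => rfl) (fun _ _ => rfl)
  refine ⟨e₁.trans e₂.symm, fun x => ?_⟩
  rw [MulEquiv.trans_apply, he₁, ← he₂, MulEquiv.symm_apply_apply]

end final

end Cfsg.Agent.Lib.Helper84_ModelUnique
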