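import Cfsg.Agent.Lib.Helper87_ModT
import Cfsg.Prelude.Def_FusionComponents

set_option autoImplicit false

namespace Cfsg.Agent.Lib.Helper87_Factor

open Cfsg Cfsg.FusionSystem Cfsg.Agent.Lib Cfsg.Agent.Lib.Helper87_Alperin Cfsg.Agent.Lib.Helper87_Alperin2
  Cfsg.Agent.Lib.Helper87_Normal Cfsg.Agent.Lib.Helper87_ModT

universe u v

variable {Ω : Type u} [Group Ω] {S : Subgroup Ω} {Ω' : Type v} [Group Ω']

/-! ### Extension of a homomorphism on `S` to a function on the ambient group -/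

open Classical in
/-- Extension of `θ : S →* Ω'` to a function on the ambient group (junk value `1` outside `S`). -/
noncomputable def extOn (θ : S →* Ω') : Ω → Ω' := fun x => if h : x ∈ S then θ ⟨x, h⟩ else 1

theorem extOn_apply (θ : S →* Ω') {x : Ω} (hx : x ∈ S) : extOn θ x = θ ⟨x, hx⟩ := dif_pos hx

theorem extOn_coe (θ : S →* Ω') (s : S) : extOn θ (s : Ω) = θ s := extOn_apply θ s.2

theorem extOn_mul (θ : S →* Ω') {x y : Ω} (hx : x ∈ S) (hy : y ∈ S) :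
    extOn θ (x * y) = extOn θ x * extOn θ y := by
  rw [extOn_apply θ hx, extOn_apply θ hy, extOn_apply θ (S.mul_mem hx hy), ← map_mul]
  rfl

theorem extOn_one (θ : S →* Ω') : extOn θ 1 = 1 := by
  rw [extOn_apply θ S.one_mem]
  exact map_one θ

theorem extOn_inv (θ : S →* Ω') {x : Ω} (hx : x ∈ S) : extOn θ x⁻¹ = (extOn θ x)⁻¹ := by
  rw [extOn_apply θ hx, extOn_apply θ (S.inv_mem hx), ← map_inv]
  rfl

theorem extOn_eq_one_iff {θ : S →* Ω'} {T : Subgroup Ω} (hker : ∀ s : S, θ s = 1 ↔ (s : Ω) ∈ T) {x : Ω}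
    (hx : x ∈ S) : extOn θ x = 1 ↔ x ∈ T := by
  rw [extOn_apply θ hx]
  exact hker ⟨x, hx⟩

theorem extOn_eq_of_mul_mem {θ : S →* Ω'} {T : Subgroup Ω} (hker : ∀ s : S, θ s = 1 ↔ (s : Ω) ∈ T)
    (hTS : T ≤ S) {x t : Ω} (hx : x ∈ S) (ht : t ∈ T) : extOn θ (x * t) = extOn θ x := by
  rw [extOn_mul θ hx (hTS ht), (extOn_eq_one_iff hker (hTS ht)).2 ht, mul_one]

theorem extOn_eq_iff {θ : S →* Ω'} {T : Subgroup Ω} (hker : ∀ s : S, θ s = 1 ↔ (s : Ω) ∈ T) {x y : Ω}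
    (hx : x ∈ S) (hy : y ∈ S) : extOn θ x = extOn θ y ↔ x⁻¹ * y ∈ T := by
  rw [← extOn_eq_one_iff hker (S.mul_mem (S.inv_mem hx) hy), extOn_mul θ (S.inv_mem hx) hy, extOn_inv θ hx,
    inv_mul_eq_one]

/-! ### Images and preimages along `θ` -/

theorem mem_preimageAlong (θ : S →* Ω') (P' : Subgroup Ω') (y : Ω) :
    y ∈ preimageAlong θ P' ↔ y ∈ S ∧ extOn θ y ∈ P' := by
  constructor
  · rintro ⟨s, hs, rfl⟩
    refine ⟨s.2, ?_⟩
    show extOn θ (s : Ω) ∈ P'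
    rw [extOn_coe]
    exact hs
  · rintro ⟨hy, hy'⟩
    refine ⟨⟨y, hy⟩, ?_, rfl⟩
    rw [extOn_apply θ hy] at hy'
    exact hy'

theorem preimageAlong_le (θ : S →* Ω') (P' : Subgroup Ω') : preimageAlong θ P' ≤ S := fun y hy =>
  ((mem_preimageAlong θ P' y).1 hy).1

theorem mem_imageAlong (θ : S →* Ω') (P : Subgroup Ω) (y' : Ω') :
    y' ∈ imageAlong θ P ↔ ∃ x, x ∈ S ∧ x ∈ P ∧ extOn θ x = y' := by
  constructor
  · rintro ⟨s, hs, rfl⟩
    exact ⟨(s : Ω), s.2, Subgroup.mem_subgroupOf.1 hs, extOn_coe θ s⟩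
  · rintro ⟨x, hxS, hxP, rfl⟩
    refine ⟨⟨x, hxS⟩, Subgroup.mem_subgroupOf.2 hxP, ?_⟩
    rw [extOn_apply θ hxS]

theorem extOn_mem_imageAlong (θ : S →* Ω') {P : Subgroup Ω} (hP : P ≤ S) {x : Ω} (hx : x ∈ P) :
    extOn θ x ∈ imageAlong θ P :=
  (mem_imageAlong θ P _).2 ⟨x, hP hx, hx, rfl⟩

theorem preimageAlong_imageAlong {θ : S →* Ω'} {T : Subgroup Ω} (hker : ∀ s : S, θ s = 1 ↔ (s : Ω) ∈ T)
    (hTS : T ≤ S) {P : Subgroup Ω} (hP : P ≤ S) (hPN : P ≤ Subgroup.normalizer (T : Set Ω)) :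
    preimageAlong θ (imageAlong θ P) = P ⊔ T := by
  ext y
  rw [mem_preimageAlong, mem_sup_iff_exists_mul hPN]
  constructor
  · rintro ⟨hyS, hy'⟩
    obtain ⟨x, hxS, hxP, hxy⟩ := (mem_imageAlong θ P _).1 hy'
    refine ⟨x, hxP, x⁻¹ * y, (extOn_eq_iff hker hxS hyS).1 hxy, by group⟩
  · rintro ⟨x, hx, t, ht, rfl⟩
    refine ⟨S.mul_mem (hP hx) (hTS ht), ?_⟩
    rw [extOn_eq_of_mul_mem hker hTS (hP hx) ht]
    exact extOn_mem_imageAlong θ hP hx

theorem imageAlong_le_range (θ : S →* Ω') (P : Subgroup Ω) : imageAlong θ P ≤ θ.range := by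
  rintro _ ⟨s, -, rfl⟩
  exact ⟨s, rfl⟩

/-! ### The homomorphism induced on the image -/

/-- A homomorphism `f` on `P ≤ S` that kills the elements of `P` killed by `θ` induces a homomorphism on the image
of `P` under `θ`. -/
theorem exists_induced {P : Subgroup Ω} (hP : P ≤ S) (θ : S →* Ω') (f : P →* Ω')
    (hker : ∀ x : P, extOn θ (x : Ω) = 1 → f x = 1) :
    ∃ φ' : imageAlong θ P →* Ω', ∀ (x : P) (hx : extOn θ (x : Ω) ∈ imageAlong θ P),
      φ' ⟨extOn θ (x : Ω), hx⟩ = f x := by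
  classical
  let π : P →* imageAlong θ P :=
    { toFun := fun x => ⟨extOn θ (x : Ω), extOn_mem_imageAlong θ hP x.2⟩
      map_one' := by
        apply Subtype.ext
        exact extOn_one θ
      map_mul' := by
        intro a b
        apply Subtype.ext
        exact extOn_mul θ (hP a.2) (hP b.2) }
  have hsurj : Function.Surjective π := by
    rintro ⟨y', hy'⟩
    obtain ⟨x, -, hxP, hxy⟩ := (mem_imageAlong θ P _).1 hy'
    exact ⟨⟨x, hxP⟩, Subtype.ext hxy⟩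
  have hkerle : π.ker ≤ f.ker := by
    intro x hx
    rw [MonoidHom.mem_ker] at hx ⊢
    exact hker x (congrArg Subtype.val hx)
  refine ⟨π.liftOfRightInverse (Function.surjInv hsurj) (Function.rightInverse_surjInv hsurj)
    ⟨f, hkerle⟩, fun x hx => ?_⟩
  exact MonoidHom.liftOfRightInverse_comp_apply π _ (Function.rightInverse_surjInv hsurj) ⟨f, hkerle⟩ x

/-! ### `InducedAlong` in terms of `extOn` -/

theorem inducedAlong_of_extOn {θ : S →* Ω'} {P : Subgroup Ω} {φ : P →* Ω} {P' : Subgroup Ω'}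
    {φ' : P' →* Ω'} (hP : P ≤ S) (hφS : ∀ x : P, φ x ∈ S) (hP' : ∀ x : P, extOn θ (x : Ω) ∈ P')
    (h : ∀ x : P, φ' ⟨extOn θ (x : Ω), hP' x⟩ = extOn θ (φ x)) : InducedAlong θ φ φ' := by
  refine ⟨hP, hφS, fun x => ?_, fun x => ?_⟩
  · have := hP' x
    rwa [extOn_apply θ (hP x.2)] at this
  · have h1 := h x
    rw [extOn_apply θ (hφS x)] at h1
    rw [← h1]
    congr 1
    apply Subtype.ext
    exact (extOn_apply θ (hP x.2)).symm

theorem extOn_of_inducedAlong {θ : S →* Ω'} {P : Subgroup Ω} {φ : P →* Ω} {P' : Subgroup Ω'}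
    {φ' : P' →* Ω'} (h : InducedAlong θ φ φ') :
    P ≤ S ∧ (∀ x : P, φ x ∈ S) ∧ ∀ (x : P) (hx : extOn θ (x : Ω) ∈ P'),
      φ' ⟨extOn θ (x : Ω), hx⟩ = extOn θ (φ x) := by
  obtain ⟨hP, hφS, hP', h⟩ := h
  refine ⟨hP, hφS, fun x hx => ?_⟩
  rw [extOn_apply θ (hφS x), ← h x]
  congr 1
  apply Subtype.ext
  exact extOn_apply θ (hP x.2)

/-! ### Every map of a saturated system induces a map of the factor system -/

variable {S' : Subgroup Ω'}

theorem exists_induced_hom (F : FusionSystem S) [Finite S] {p : ℕ} [Fact p.Prime] (hS : IsPGroup p S)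
    (hF : F.IsSaturated p) {T : Subgroup Ω} (hT : F.StronglyClosed T) {θ : S →* Ω'} {E : FusionSystem S'}
    (hE : F.IsFactorSystem T θ E) {P : Subgroup Ω} {φ : P →* Ω} (hφ : φ ∈ F.Hom P) :
    ∃ φ' ∈ E.Hom (imageAlong θ P), ∀ (x : P) (hx : extOn θ (x : Ω) ∈ imageAlong θ P),
      φ' ⟨extOn θ (x : Ω), hx⟩ = extOn θ (φ x) := by
  classical
  obtain ⟨hTS, hker, hrange, hEhom⟩ := hE
  have hP : P ≤ S := hom_le F hφ
  have hφS : ∀ x : P, φ x ∈ S := hom_mem F hφ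
  have hnormT : S ≤ Subgroup.normalizer (T : Set Ω) := stronglyClosed_le_normalizer hT
  have hφext : IsMapOn F P (extHom φ) := isMapOn_extHom F hφ
  -- the composite `θ ∘ φ`
  let f : P →* Ω' := θ.comp (φ.codRestrict S hφS)
  have hf : ∀ x : P, f x = extOn θ (φ x) := fun x => (extOn_apply θ (hφS x)).symm
  have hkerf : ∀ x : P, extOn θ (x : Ω) = 1 → f x = 1 := by
    intro x hx
    have hxT : (x : Ω) ∈ T := (extOn_eq_one_iff hker (hP x.2)).1 hx
    have h1 := IsMapOn.mem_stronglyClosed hT hφext x.2 hxT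
    rw [extHom_coe] at h1
    rw [hf]
    exact (extOn_eq_one_iff hker (hφS x)).2 h1
  obtain ⟨φ', hφ'⟩ := exists_induced hP θ f hkerf
  refine ⟨φ', ?_, fun x hx => by rw [hφ' x hx, hf]⟩
  rw [hEhom]
  refine ⟨?_, ?_⟩
  · rw [← hrange]
    exact imageAlong_le_range θ P
  · obtain ⟨g, hg, hgφ⟩ := exists_lift F hS hF hT hφext
    have hpre := preimageAlong_imageAlong hker hTS hP (hP.trans hnormT)
    rw [← hpre] at hg
    obtain ⟨ψ₀, hψ₀, hψ₀g⟩ := hg
    refine ⟨ψ₀, hψ₀, ?_⟩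
    have hpreS : preimageAlong θ (imageAlong θ P) ≤ S := preimageAlong_le θ _
    have hP' : ∀ x : ↥(preimageAlong θ (imageAlong θ P)), extOn θ (x : Ω) ∈ imageAlong θ P :=
      fun x => ((mem_preimageAlong θ _ _).1 x.2).2
    refine inducedAlong_of_extOn hpreS (hom_mem F hψ₀) hP' ?_
    intro x
    have hx : (x : Ω) ∈ P ⊔ T := by
      rw [← hpre]
      exact x.2
    obtain ⟨a, ha, t, ht, hxat⟩ := (mem_sup_iff_exists_mul (hP.trans hnormT) _).1 hx
    have hgIs : IsMapOn F (P ⊔ T) g := by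
      rw [← hpre]
      exact ⟨ψ₀, hψ₀, hψ₀g⟩
    -- left side
    have h1 : extOn θ (x : Ω) = extOn θ a := by
      rw [hxat]
      exact extOn_eq_of_mul_mem hker hTS (hP ha) ht
    have h2 : φ' ⟨extOn θ (x : Ω), hP' x⟩ = φ' ⟨extOn θ a, extOn_mem_imageAlong θ hP ha⟩ := by
      congr 1
      exact Subtype.ext h1
    rw [h2, hφ' ⟨a, ha⟩ _, hf, hψ₀g x, hxat,
      hgIs.map_mul (le_sup_left (a := P) ha) (le_sup_right (b := T) ht)]
    have hgt : g t ∈ T := IsMapOn.mem_stronglyClosed hT hgIs (le_sup_right (b := T) ht) ht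
    have hga : g a = φ ⟨a, ha⟩ * ((extHom φ a)⁻¹ * g a) := by
      rw [extHom_apply φ ha]
      group
    have hφaS : φ ⟨a, ha⟩ ∈ S := hφS ⟨a, ha⟩
    have hgaS : g a ∈ S := hgIs.mem (le_sup_left (a := P) ha)
    rw [extOn_eq_of_mul_mem hker hTS hgaS hgt, hga, extOn_eq_of_mul_mem hker hTS hφaS (hgφ a ha)]

end Cfsg.Agent.Lib.Helper87_Factor
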