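import Cfsg.Agent.Lib.Helper87_Factor
import Mathlib.GroupTheory.Commutator.Basic

set_option autoImplicit false

/-!
# Strongly closed subgroups and factor systems (helper87)

Images and preimages of strongly closed subgroups along the map of a factor system.
-/

namespace Cfsg.Agent.Lib.Helper87_Factor2

open Cfsg Cfsg.FusionSystem Cfsg.Agent.Lib Cfsg.Agent.Lib.Helper87_Alperin Cfsg.Agent.Lib.Helper87_Alperin2
  Cfsg.Agent.Lib.Helper87_Normal Cfsg.Agent.Lib.Helper87_ModT Cfsg.Agent.Lib.Helper87_Factor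

open scoped commutatorElement

universe u v

variable {Ω : Type u} [Group Ω] {S : Subgroup Ω} {Ω' : Type v} [Group Ω'] {S' : Subgroup Ω'}

/-- The kernel of `θ` lies in every full preimage. -/
theorem le_preimageAlong {θ : S →* Ω'} {T : Subgroup Ω} (hker : ∀ s : S, θ s = 1 ↔ (s : Ω) ∈ T)
    (hTS : T ≤ S) (P' : Subgroup Ω') : T ≤ preimageAlong θ P' := by
  intro t ht
  rw [mem_preimageAlong]
  refine ⟨hTS ht, ?_⟩
  rw [(extOn_eq_one_iff hker (hTS ht)).2 ht]
  exact P'.one_mem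

/-- The full preimage of the image of a subgroup containing the kernel is that subgroup. -/
theorem preimageAlong_imageAlong_of_le {θ : S →* Ω'} {T : Subgroup Ω}
    (hker : ∀ s : S, θ s = 1 ↔ (s : Ω) ∈ T) {U : Subgroup Ω} (hU : U ≤ S) (hTU : T ≤ U) :
    preimageAlong θ (imageAlong θ U) = U := by
  ext y
  rw [mem_preimageAlong]
  constructor
  · rintro ⟨hyS, hy'⟩
    obtain ⟨x, hxS, hxU, hxy⟩ := (mem_imageAlong θ U _).1 hy'
    have h1 : x⁻¹ * y ∈ T := (extOn_eq_iff hker hxS hyS).1 hxy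
    have h2 : y = x * (x⁻¹ * y) := by group
    rw [h2]
    exact U.mul_mem hxU (hTU h1)
  · intro hy
    exact ⟨hU hy, extOn_mem_imageAlong θ hU hy⟩

/-- Every element of the image of `S` is a value of `extOn θ`. -/
theorem exists_extOn_eq_of_mem_range {θ : S →* Ω'} {y' : Ω'} (hy' : y' ∈ θ.range) :
    ∃ x, x ∈ S ∧ extOn θ x = y' := by
  obtain ⟨s, rfl⟩ := hy'
  exact ⟨(s : Ω), s.2, extOn_coe θ s⟩

/-- The image of the full preimage of a subgroup of the range is that subgroup. -/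
theorem imageAlong_preimageAlong_of_le (θ : S →* Ω') {P' : Subgroup Ω'} (hP' : P' ≤ θ.range) :
    imageAlong θ (preimageAlong θ P') = P' := by
  ext y'
  rw [mem_imageAlong]
  constructor
  · rintro ⟨x, -, hx, rfl⟩
    exact ((mem_preimageAlong θ P' x).1 hx).2
  · intro hy'
    obtain ⟨x, hxS, rfl⟩ := exists_extOn_eq_of_mem_range (hP' hy')
    exact ⟨x, hxS, (mem_preimageAlong θ P' x).2 ⟨hxS, hy'⟩, rfl⟩

/-- The image in a factor system of a strongly closed subgroup containing the kernel is strongly closed. -/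
theorem stronglyClosed_imageAlong {F : FusionSystem S} {T : Subgroup Ω} {θ : S →* Ω'} {E : FusionSystem S'}
    (hE : F.IsFactorSystem T θ E) {U : Subgroup Ω} (hU : F.StronglyClosed U) (hTU : T ≤ U) :
    E.StronglyClosed (imageAlong θ U) := by
  obtain ⟨hTS, hker, hrange, hEhom⟩ := hE
  refine ⟨?_, fun R' hR' φ' hφ' x' => ?_⟩
  · rw [← hrange]
    exact imageAlong_le_range θ U
  · obtain ⟨hR'S', φ, hφ, hind⟩ := (hEhom R' φ').1 hφ'
    obtain ⟨hP, hφS, h⟩ := extOn_of_inducedAlong hind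
    have hx'range : (x' : Ω') ∈ θ.range := by
      rw [hrange]
      exact hR'S' x'.2
    obtain ⟨s, hsS, hsx⟩ := exists_extOn_eq_of_mem_range hx'range
    have hspre : s ∈ preimageAlong θ R' := by
      rw [mem_preimageAlong]
      refine ⟨hsS, ?_⟩
      rw [hsx]
      exact x'.2
    have hpreU : preimageAlong θ R' ≤ U := by
      intro y hy
      rw [mem_preimageAlong] at hy
      have hy2 : y ∈ preimageAlong θ (imageAlong θ U) := by
        rw [mem_preimageAlong]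
        exact ⟨hy.1, hR' hy.2⟩
      rwa [preimageAlong_imageAlong_of_le hker hU.1 hTU] at hy2
    have h1 : φ ⟨s, hspre⟩ ∈ U := hU.2 _ hpreU φ hφ ⟨s, hspre⟩
    have hmem : extOn θ ((⟨s, hspre⟩ : ↥(preimageAlong θ R')) : Ω) ∈ R' := by
      show extOn θ s ∈ R'
      rw [hsx]
      exact x'.2
    have h2 := h ⟨s, hspre⟩ hmem
    have h3 : (⟨extOn θ ((⟨s, hspre⟩ : ↥(preimageAlong θ R')) : Ω), hmem⟩ : R') = x' := Subtype.ext hsx
    rw [h3] at h2
    rw [h2]
    exact extOn_mem_imageAlong θ hU.1 h1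

/-- The full preimage of a strongly closed subgroup of a factor system of a saturated system is strongly
closed. -/
theorem stronglyClosed_preimageAlong (F : FusionSystem S) [Finite S] {p : ℕ} [Fact p.Prime]
    (hS : IsPGroup p S) (hF : F.IsSaturated p) {T : Subgroup Ω} (hT : F.StronglyClosed T) {θ : S →* Ω'}
    {E : FusionSystem S'} (hE : F.IsFactorSystem T θ E) {Z' : Subgroup Ω'} (hZ' : E.StronglyClosed Z') :
    F.StronglyClosed (preimageAlong θ Z') := by
  refine ⟨preimageAlong_le θ Z', fun R hR φ hφ x => ?_⟩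
  obtain ⟨φ', hφ', hind⟩ := exists_induced_hom F hS hF hT hE hφ
  have hRS : R ≤ S := hom_le F hφ
  have hle : imageAlong θ R ≤ Z' := by
    intro y' hy'
    obtain ⟨y, -, hyR, rfl⟩ := (mem_imageAlong θ R _).1 hy'
    exact ((mem_preimageAlong θ Z' y).1 (hR hyR)).2
  have hx : extOn θ (x : Ω) ∈ imageAlong θ R := extOn_mem_imageAlong θ hRS x.2
  have h1 := hZ'.2 _ hle φ' hφ' ⟨extOn θ (x : Ω), hx⟩
  rw [hind x hx] at h1
  rw [mem_preimageAlong]
  exact ⟨hom_mem F hφ x, h1⟩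

/-- If the image of `Z'` is commutative then the commutator of its full preimage lies in the kernel. -/
theorem commutator_preimageAlong_le {θ : S →* Ω'} {T : Subgroup Ω} (hker : ∀ s : S, θ s = 1 ↔ (s : Ω) ∈ T)
    {Z' : Subgroup Ω'} (hcomm : ∀ a ∈ Z', ∀ b ∈ Z', a * b = b * a) :
    ⁅preimageAlong θ Z', preimageAlong θ Z'⁆ ≤ T := by
  rw [Subgroup.commutator_le]
  intro x hx y hy
  rw [mem_preimageAlong] at hx hy
  have hxi : x⁻¹ ∈ S := S.inv_mem hx.1
  have hyi : y⁻¹ ∈ S := S.inv_mem hy.1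
  have h1 : extOn θ (y⁻¹ * x⁻¹) = extOn θ (x⁻¹ * y⁻¹) := by
    rw [extOn_mul θ hyi hxi, extOn_mul θ hxi hyi, extOn_inv θ hx.1, extOn_inv θ hy.1]
    exact hcomm _ (Z'.inv_mem hy.2) _ (Z'.inv_mem hx.2)
  have h2 := (extOn_eq_iff hker (S.mul_mem hyi hxi) (S.mul_mem hxi hyi)).1 h1
  have h3 : ⁅x, y⁆ = (y⁻¹ * x⁻¹)⁻¹ * (x⁻¹ * y⁻¹) := by
    rw [commutatorElement_def]
    group
  rw [h3]
  exact h2

/-- If `⁅A, A⁆` lies in the kernel `T` then the image of `A ⊔ T` is commutative. -/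
theorem commute_of_mem_imageAlong_sup {θ : S →* Ω'} {T : Subgroup Ω} (hker : ∀ s : S, θ s = 1 ↔ (s : Ω) ∈ T)
    (hTS : T ≤ S) {A : Subgroup Ω} (hAS : A ≤ S) (hAN : A ≤ Subgroup.normalizer (T : Set Ω))
    (hAA : ⁅A, A⁆ ≤ T) {a b : Ω'} (ha : a ∈ imageAlong θ (A ⊔ T)) (hb : b ∈ imageAlong θ (A ⊔ T)) :
    a * b = b * a := by
  obtain ⟨u, -, hu, rfl⟩ := (mem_imageAlong θ _ _).1 ha
  obtain ⟨v, -, hv, rfl⟩ := (mem_imageAlong θ _ _).1 hb
  obtain ⟨t, ht, r, hr, rfl⟩ := (mem_sup_iff_exists_mul hAN u).1 hu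
  obtain ⟨t', ht', r', hr', rfl⟩ := (mem_sup_iff_exists_mul hAN v).1 hv
  rw [extOn_eq_of_mul_mem hker hTS (hAS ht) hr, extOn_eq_of_mul_mem hker hTS (hAS ht') hr',
    ← extOn_mul θ (hAS ht) (hAS ht'), ← extOn_mul θ (hAS ht') (hAS ht),
    extOn_eq_iff hker (S.mul_mem (hAS ht) (hAS ht')) (S.mul_mem (hAS ht') (hAS ht))]
  apply hAA
  have h3 : (t * t')⁻¹ * (t' * t) = ⁅t'⁻¹, t⁻¹⁆ := by
    rw [commutatorElement_def]
    group
  rw [h3]
  exact Subgroup.commutator_mem_commutator (A.inv_mem ht') (A.inv_mem ht)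

end Cfsg.Agent.Lib.Helper87_Factor2
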