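import Mathlib
import Cfsg.Prelude.Def_Local
import Cfsg.Prelude.Def_Solvable
import Cfsg.Prelude.Def_FusionSystem
import Cfsg.Agent.Lib.Helper88_Model
import Cfsg.Agent.Lib.Helper76_PSolvable
import Cfsg.Agent.Lib.Helper32_PSolvable
import Cfsg.Agent.S5191

set_option autoImplicit false

namespace Cfsg.Agent.Lib.Helper88_PSolvModel

open Cfsg Cfsg.FusionSystem Cfsg.Agent.Lib.Helper85_Fusion Cfsg.Agent.Lib.Helper88_Model

section Extension

variable {G H : Type*} [Group G] [Group H]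

/-- An extension of a `p`-group by a `p`-soluble group is `p`-soluble (in the form: kernel and range of
a homomorphism). -/
theorem isPSolvable_of_ker_range {p : ℕ} (f : G →* H)
    (hker : ∃ m : ℕ, Nat.card f.ker = p ^ m) (hr : Cfsg.IsPSolvable p f.range) :
    Cfsg.IsPSolvable p G := by
  obtain ⟨n, Hs, h0, hlast, hmono, hnorm, hstep⟩ := hr
  have hπ : Function.Surjective f.rangeRestrict := f.rangeRestrict_surjective
  let K : Fin (n + 2) → Subgroup G := Fin.cons ⊥ (fun i => (Hs i).comap f.rangeRestrict)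
  have hK0 : K 0 = ⊥ := rfl
  have hKs : ∀ i : Fin (n + 1), K i.succ = (Hs i).comap f.rangeRestrict := fun i => rfl
  refine ⟨n + 1, K, hK0, ?_, ?_, ?_, ?_⟩
  · have : Fin.last (n + 1) = (Fin.last n).succ := (Fin.succ_last n).symm
    rw [this, hKs, hlast, Subgroup.comap_top]
  · rw [Fin.monotone_iff_le_succ]
    intro i
    refine Fin.cases ?_ (fun j => ?_) i
    · rw [Fin.castSucc_zero, hK0]
      exact bot_le
    · rw [← Fin.succ_castSucc, hKs, hKs]
      exact Subgroup.comap_mono (hmono (Fin.castSucc_le_succ j))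
  · intro i
    refine Fin.cases ?_ (fun j => ?_) i
    · rw [hK0]; exact Subgroup.normal_bot
    · rw [hKs]; exact (hnorm j).comap _
  · intro i
    refine Fin.cases ?_ (fun j => ?_) i
    · left
      obtain ⟨m, hm⟩ := hker
      refine ⟨m, ?_⟩
      rw [Fin.castSucc_zero, hK0, hKs, h0, Subgroup.relIndex_bot_left]
      have : (⊥ : Subgroup f.range).comap f.rangeRestrict = f.ker := by
        rw [← MonoidHom.ker_rangeRestrict]
        rfl
      rw [this, hm]
    · have hrel : (K j.succ.castSucc).relIndex (K j.succ.succ) =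
          (Hs j.castSucc).relIndex (Hs j.succ) := by
        rw [← Fin.succ_castSucc, hKs, hKs, Subgroup.relIndex_comap,
          Subgroup.map_comap_eq_self_of_surjective hπ]
      rw [hrel]
      exact hstep j

end Extension

section Core

variable {Ω : Type*} [Group Ω]

/-- In a model `G` of `E`, `O_p(G)` is the image of `O_p(E)`. -/
theorem pCore_eq_map_core {N : Subgroup Ω} [Finite N] {p : ℕ} [Fact p.Prime]
    (E : FusionSystem N) {G : Type*} [Group G] (ι : N →* G)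
    (hM : E.IsModel p G ι) : pCore p G = (E.core.subgroupOf N).map ι := by
  have hN : IsPGroup p N := by
    obtain ⟨-, hreal, ⟨T, hT⟩, -⟩ := hM
    have h1 : IsPGroup p ι.range := hT ▸ T.2
    exact h1.of_injective ι.rangeRestrict (by
      intro a b hab
      exact hreal.1 (congrArg Subtype.val hab))
  have hRn : E.IsNormal E.core := isNormal_core E
  obtain ⟨-, hreal, hSyl, hcent⟩ := hM
  have hUhn := isNormal_comap_pCore E ι hreal hSyl
  obtain ⟨T, hT⟩ := hSyl
  have hι := hreal.1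
  have hUn : (pCore p G).Normal := pCore_normal' p G
  have hUr : pCore p G ≤ ι.range := hT ▸ Helper47_PLocal.pCore_le_sylow T
  set R : Subgroup Ω := E.core with hR
  set Uh : Subgroup Ω := ((pCore p G).comap ι).map N.subtype with hUh
  have hUhN : Uh ≤ N := hUhn.1
  have hUh_mem : ∀ (x : Ω) (hx : x ∈ N), x ∈ Uh ↔ ι ⟨x, hx⟩ ∈ pCore p G := by
    intro x hx
    constructor
    · rintro ⟨y, hy, hyx⟩
      have : y = ⟨x, hx⟩ := Subtype.ext hyx
      rw [← this]
      exact hy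
    · intro h
      exact ⟨⟨x, hx⟩, h, rfl⟩
  have hUhR : Uh ≤ R := le_sSup hUhn
  have hRN : R ≤ N := hRn.1
  set RG : Subgroup G := (R.subgroupOf N).map ι with hRG
  have hRG_mem : ∀ (x : Ω) (hx : x ∈ N), x ∈ R → ι ⟨x, hx⟩ ∈ RG :=
    fun x hx hxR => ⟨⟨x, hx⟩, Subgroup.mem_subgroupOf.2 hxR, rfl⟩
  have hURG : pCore p G ≤ RG := by
    intro u hu
    obtain ⟨x, rfl⟩ := hUr hu
    exact hRG_mem x x.2 (hUhR ((hUh_mem x x.2).2 hu))
  have hRGn : RG.Normal := by
    constructor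
    intro n hn g
    have hconj : ∀ x : Uh, g * ι ⟨x, hUhN x.2⟩ * g⁻¹ ∈ ι.range :=
      fun x => hUr (hUn.conj_mem _ ((hUh_mem x _).1 x.2) g)
    obtain ⟨φ, hφN, hφE, hφ⟩ := IsRealizedBy.exists_mem_of_conj hreal hUhN g hconj
    obtain ⟨ψ, hψE, hext, himg⟩ := hRn.2 Uh φ hφE
    have hDN := (E.le_of_mem hψE).1
    have hψN := (E.le_of_mem hψE).2
    obtain ⟨h, hh⟩ := (hreal.2 _ hDN ψ hψN).1 hψE
    have hc : h⁻¹ * g ∈ Subgroup.centralizer ((pCore p G : Subgroup G) : Set G) := by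
      rw [Subgroup.mem_centralizer_iff]
      intro u hu
      obtain ⟨x, rfl⟩ := hUr hu
      have hxU : (x : Ω) ∈ Uh := (hUh_mem x x.2).2 hu
      have h1 := hh (Subgroup.inclusion le_sup_left ⟨x, hxU⟩)
      have h2 := hφ ⟨x, hxU⟩
      have h3 := hext ⟨x, hxU⟩
      have h4 : h * ι x * h⁻¹ = g * ι x * g⁻¹ := by
        have e1 : h * ι x * h⁻¹ = ι ⟨ψ (Subgroup.inclusion le_sup_left ⟨x, hxU⟩), hψN _⟩ := by
          rw [h1]
          rfl
        have e2 : g * ι x * g⁻¹ = ι ⟨φ ⟨x, hxU⟩, hφN _⟩ := by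
          rw [h2]
        rw [e1, e2]
        congr 2
      calc ι x * (h⁻¹ * g) = h⁻¹ * (h * ι x * h⁻¹) * g := by group
        _ = h⁻¹ * (g * ι x * g⁻¹) * g := by rw [h4]
        _ = h⁻¹ * g * ι x := by group
    have hmem : h⁻¹ * g ∈ RG := hURG (hcent hc)
    obtain ⟨⟨r, hrN⟩, hrR, rfl⟩ := hn
    have h4 : (h⁻¹ * g) * ι ⟨r, hrN⟩ * (h⁻¹ * g)⁻¹ ∈ RG :=
      RG.mul_mem (RG.mul_mem hmem ⟨_, hrR, rfl⟩) (RG.inv_mem hmem)
    obtain ⟨⟨r', hr'N⟩, hr'R, hr'⟩ := h4
    have hr'R' : r' ∈ R := Subgroup.mem_subgroupOf.1 hr'R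
    have hr'D : r' ∈ Uh ⊔ R := (le_sup_right : R ≤ Uh ⊔ R) hr'R'
    have h5 := hh ⟨r', hr'D⟩
    have h6 : g * ι ⟨r, hrN⟩ * g⁻¹ = ι ⟨ψ ⟨r', hr'D⟩, hψN _⟩ := by
      rw [h5]
      show _ = h * ι ⟨r', _⟩ * h⁻¹
      rw [hr']
      group
    show g * ι ⟨r, hrN⟩ * g⁻¹ ∈ RG
    rw [h6]
    exact hRG_mem _ _ (apply_mem_of_map_eq ψ himg r' hr'R' hr'D)
  have hRGp : IsPGroup p RG := (hN.to_subgroup (R.subgroupOf N)).map ι
  exact le_antisymm hURG (Helper47_PLocal.le_pCore hRGn hRGp)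

end Core

section Theta

variable {Ω : Type*} [Group Ω] {S : Subgroup Ω} [Finite S]

/-- In a model `G` of `F`, conjugation on `O_p(G) = O_p(F)` gives a homomorphism of `G` onto
`Aut_F(O_p(F))` with kernel inside `O_p(G)`. -/
theorem exists_theta {p : ℕ} [Fact p.Prime] (F : FusionSystem S) {G : Type*} [Group G]
    (ι : S →* G) (hM : F.IsModel p G ι) :
    ∃ θ : G →* MulAut ↥F.core, θ.range = F.autGroup F.core ∧ θ.ker ≤ pCore p G := by
  have hK := pCore_eq_map_core F ι hM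
  obtain ⟨-, hreal, hSyl, hcent⟩ := hM
  have hι := hreal.1
  have hcoreS : F.core ≤ S := (isNormal_core F).1
  have hn : (pCore p G).Normal := pCore_normal' p G
  let homK : ↥F.core →* ↥(pCore p G) :=
    (ι.comp (Subgroup.inclusion hcoreS)).codRestrict (pCore p G) (fun x => by
      rw [hK]
      exact ⟨Subgroup.inclusion hcoreS x, Subgroup.mem_subgroupOf.2 x.2, rfl⟩)
  have hinj : Function.Injective homK := by
    intro a b hab
    have h1 : ι (Subgroup.inclusion hcoreS a) = ι (Subgroup.inclusion hcoreS b) :=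
      congrArg Subtype.val hab
    exact Subgroup.inclusion_injective hcoreS (hι h1)
  have hsurj : Function.Surjective homK := by
    rintro ⟨y, hy⟩
    have hy' := hy
    rw [hK] at hy'
    obtain ⟨s, hs, rfl⟩ := hy'
    exact ⟨⟨s, Subgroup.mem_subgroupOf.1 hs⟩, Subtype.ext rfl⟩
  let e : ↥F.core ≃* ↥(pCore p G) := MulEquiv.ofBijective homK ⟨hinj, hsurj⟩
  have he : ∀ x : ↥F.core, ((e x : pCore p G) : G) = ι ⟨x, hcoreS x.2⟩ := fun x => rfl
  let θ : G →* MulAut ↥F.core :=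
    (MulAut.congr e.symm).toMonoidHom.comp (MulAut.conjNormal (H := pCore p G))
  have hθ : ∀ (g : G) (x : ↥F.core), e (θ g x) = MulAut.conjNormal g (e x) := by
    intro g x
    show e (e.symm (MulAut.conjNormal g (e x))) = _
    rw [MulEquiv.apply_symm_apply]
  have hθ' : ∀ (g : G) (x : ↥F.core),
      ι ⟨(θ g x : Ω), hcoreS (θ g x).2⟩ = g * ι ⟨x, hcoreS x.2⟩ * g⁻¹ := by
    intro g x
    have h1 := congrArg Subtype.val (hθ g x)
    rw [he, MulAut.conjNormal_apply, he] at h1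
    exact h1
  refine ⟨θ, ?_, ?_⟩
  · apply le_antisymm
    · rintro _ ⟨g, rfl⟩
      apply Subgroup.subset_closure
      show F.core.subtype.comp (θ g).toMonoidHom ∈ F.Hom F.core
      rw [hreal.2 F.core hcoreS _ (fun x => hcoreS (θ g x).2)]
      exact ⟨g, fun x => hθ' g x⟩
    · unfold FusionSystem.autGroup
      rw [Subgroup.closure_le]
      intro α hα
      have hα' : F.core.subtype.comp α.toMonoidHom ∈ F.Hom F.core := hα
      rw [hreal.2 F.core hcoreS _ (fun x => hcoreS (α x).2)] at hα'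
      obtain ⟨g, hg⟩ := hα'
      refine ⟨g, ?_⟩
      ext x
      have h1 := hθ' g x
      have h2 := hg x
      have h3 : ι ⟨(θ g x : Ω), hcoreS (θ g x).2⟩ = ι ⟨(α x : Ω), hcoreS (α x).2⟩ := by
        rw [h1]
        exact h2.symm
      have h4 := congrArg Subtype.val (hι h3)
      exact h4
  · intro g hg
    apply hcent
    rw [Subgroup.mem_centralizer_iff]
    intro y hy
    have hy' := hy
    rw [hK] at hy'
    obtain ⟨s, hs, rfl⟩ := hy'
    have hsc : (s : Ω) ∈ F.core := Subgroup.mem_subgroupOf.1 hs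
    have h1 := hθ' g ⟨s, hsc⟩
    have h2 : θ g = 1 := hg
    rw [h2] at h1
    have h3 : ι s = g * ι s * g⁻¹ := h1
    calc ι s * g = (g * ι s * g⁻¹) * g := by rw [← h3]
      _ = g * ι s := by group

end Theta

section Quotient

variable {Ω : Type*} [Group Ω] {S : Subgroup Ω} [Finite S]

omit [Finite ↥S] in
open Cfsg.Agent.Lib.Helper76_PSolvable in
/-- A finite `p`-soluble group realizing `F` on a Sylow `p`-subgroup gives a model: its quotient by
`O_{p'}`. -/
theorem isModel_quotient {p : ℕ} [Fact p.Prime] (F : FusionSystem S) {G : Type*} [Group G] [Finite G]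
    (ι : S →* G) (hsol : IsPSolvable p G) (hreal : F.IsRealizedBy ι)
    (hT : ∃ T : Sylow p G, (T : Subgroup G) = ι.range) :
    F.IsModel p (G ⧸ pPrimeCore p G) ((QuotientGroup.mk' (pPrimeCore p G)).comp ι) := by
  obtain ⟨T, hT⟩ := hT
  have hNc : (Nat.card (pPrimeCore p G)).Coprime p := pPrimeCore_card_coprime p
  have hTN : ∀ t ∈ (T : Subgroup G), t ∈ pPrimeCore p G → t = 1 := by
    intro t ht htN
    obtain ⟨k, hk⟩ := T.2 ⟨t, ht⟩
    have h1 : orderOf t ∣ p ^ k := orderOf_dvd_of_pow_eq_one (congrArg Subtype.val hk)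
    have h2 : orderOf t ∣ Nat.card (pPrimeCore p G) := by
      have := orderOf_dvd_natCard (⟨t, htN⟩ : pPrimeCore p G)
      rwa [Subgroup.orderOf_mk] at this
    have h3 : orderOf t ∣ Nat.gcd (p ^ k) (Nat.card (pPrimeCore p G)) := Nat.dvd_gcd h1 h2
    have h4 : Nat.gcd (p ^ k) (Nat.card (pPrimeCore p G)) = 1 := Nat.Coprime.pow_left k hNc.symm
    rw [h4, Nat.dvd_one, orderOf_eq_one_iff] at h3
    exact h3
  have hinjT : ∀ a ∈ (T : Subgroup G), ∀ b ∈ (T : Subgroup G),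
      (a : G ⧸ pPrimeCore p G) = b → a = b := by
    intro a ha b hb hab
    have h0 : a⁻¹ * b ∈ pPrimeCore p G := QuotientGroup.eq.1 hab
    have h1 := hTN _ ((T : Subgroup G).mul_mem ((T : Subgroup G).inv_mem ha) hb) h0
    exact inv_mul_eq_one.1 h1
  have hιT : ∀ s : S, ι s ∈ (T : Subgroup G) := fun s => by rw [hT]; exact ⟨s, rfl⟩
  refine ⟨inferInstance, ⟨?_, ?_⟩, ?_, ?_⟩
  · intro a b hab
    exact hreal.1 (hinjT _ (hιT a) _ (hιT b) hab)
  · intro P hP φ hφ
    rw [hreal.2 P hP φ hφ]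
    constructor
    · rintro ⟨g, hg⟩
      refine ⟨(g : G ⧸ pPrimeCore p G), fun x => ?_⟩
      show ((ι ⟨φ x, hφ x⟩ : G) : G ⧸ pPrimeCore p G) = _
      rw [hg x]
      rfl
    · rintro ⟨γ, hγ⟩
      have hle : (P.subgroupOf S).map ι ≤ (T : Subgroup G) := by
        rintro _ ⟨s, -, rfl⟩
        exact hιT s
      obtain ⟨g, hg⟩ := Cfsg.Agent.S5191.result T ((P.subgroupOf S).map ι) hle γ (by
        rintro _ ⟨s, hs, rfl⟩
        have hsP : (s : Ω) ∈ P := Subgroup.mem_subgroupOf.1 hs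
        have h1 := hγ ⟨s, hsP⟩
        refine ⟨ι ⟨φ ⟨s, hsP⟩, hφ _⟩, hιT _, ?_⟩
        rw [← (show ((QuotientGroup.mk' (pPrimeCore p G)).comp ι) ⟨s, hP hsP⟩ =
          ((ι s : G) : G ⧸ pPrimeCore p G) from rfl)]
        rw [← h1]
        rfl)
      refine ⟨g, fun x => ?_⟩
      have hy : ι ⟨x, hP x.2⟩ ∈ (P.subgroupOf S).map ι :=
        ⟨⟨x, hP x.2⟩, Subgroup.mem_subgroupOf.2 x.2, rfl⟩
      obtain ⟨h1, h2⟩ := hg _ hy
      apply hinjT _ (hιT _) _ h1
      rw [h2]
      exact hγ x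
  · refine ⟨Sylow.mapSurjective (QuotientGroup.mk'_surjective (pPrimeCore p G)) T, ?_⟩
    rw [Sylow.coe_mapSurjective, MonoidHom.range_comp, hT]
  · exact centralizer_pCore_le p (isPSolvable_quotient p (pPrimeCore p G) hsol)
      (pPrimeCore_quotient_pPrimeCore p)

end Quotient

end Cfsg.Agent.Lib.Helper88_PSolvModel
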