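import Mathlib
import Cfsg.Prelude.Def_Solvable
import Cfsg.Prelude.Def_FusionSystem
import Cfsg.Prelude.Def_LocalEven
import Cfsg.Agent.Lib.Helper88_Model
import Cfsg.Agent.Lib.Helper88_PSolvModel
import Cfsg.Agent.Lib.Helper76_PSolvable
import Cfsg.Agent.Lib.Helper47_HH
import Cfsg.Agent.Lib.Helper47_PLocal
import Cfsg.Agent.Lib.Helper23_PComp
import Cfsg.Agent.Lib.Helper49_CharP
import Cfsg.Agent.S5191
import Cfsg.Agent.S5299

/-!
Models as quotients (helper88).

* `involves_of_surjective`: a group involved in a homomorphic image of `G` is involved in `G`.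
* `mem_sup_pPrimeCore_of_centralizes`: for a normal `p`-subgroup `V` of `G` with `C_T(V) ≤ V`
  (`T` Sylow), elements centralizing `V` modulo `O_{p'}(G)` lie in `V O_{p'}(G)`.
* `isModel_quotient_of_normal_centric`: a finite group `G` realizing `E` on a Sylow subgroup, with
  the image of some `P`, `C_T(P) ≤ P`, normal in `G`, gives the model `G / O_{p'}(G)` of `E`.
-/

set_option autoImplicit false

namespace Cfsg.Agent.Lib.Helper88_QuotModel

open Cfsg Cfsg.FusionSystem Cfsg.Agent.Lib.Helper85_Fusion Cfsg.Agent.Lib.Helper88_Model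

/-- A group involved in a quotient (homomorphic image) of `G₁` is involved in `G₁`. -/
theorem involves_of_surjective {A : Type*} [Group A] {G₁ G₂ : Type*} [Group G₁] [Group G₂]
    (f : G₁ →* G₂) (hf : Function.Surjective f) (h : Cfsg.Involves A G₂) : Cfsg.Involves A G₁ := by
  rw [Cfsg.Agent.S5299.involves_iff] at h ⊢
  obtain ⟨K, φ, hφ⟩ := h
  refine ⟨K.comap f, φ.comp (f.subgroupComap K), ?_⟩
  exact hφ.comp (f.subgroupComap_surjective_of_surjective K hf)

section Group

open Cfsg.Agent.Lib.Helper76_PSolvable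

variable {G : Type*} [Group G] [Finite G] {p : ℕ} [Fact p.Prime]

/-- If `V` is a normal `p`-subgroup of the finite group `G`, `T` a Sylow `p`-subgroup and
`C_T(V) ≤ V`, then every element of `G` centralizing `V` modulo `O_{p'}(G)` lies in `V · O_{p'}(G)`. -/
theorem mem_sup_pPrimeCore_of_centralizes (T : Sylow p G) (V : Subgroup G) [V.Normal]
    (hVT : V ≤ (T : Subgroup G))
    (hcen : (T : Subgroup G) ⊓ Subgroup.centralizer (V : Set G) ≤ V) (x : G)
    (hx : ∀ v ∈ V, x * v * x⁻¹ * v⁻¹ ∈ pPrimeCore p G) :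
    ∃ z ∈ V, ∃ k ∈ pPrimeCore p G, x = z * k := by
  have hK : (Nat.card (pPrimeCore p G)).Coprime p := pPrimeCore_card_coprime p
  have hVp : IsPGroup p V := T.2.to_le hVT
  -- `x` centralizes `V`
  have hpel : ∀ w ∈ V, w ∈ pPrimeCore p G → w = 1 := by
    intro w hwV hwK
    obtain ⟨k, hk⟩ := hVp ⟨w, hwV⟩
    have h1 : orderOf w ∣ p ^ k := orderOf_dvd_of_pow_eq_one (congrArg Subtype.val hk)
    have h2 : orderOf w ∣ Nat.card (pPrimeCore p G) := by
      have := orderOf_dvd_natCard (⟨w, hwK⟩ : pPrimeCore p G)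
      rwa [Subgroup.orderOf_mk] at this
    have h3 : orderOf w ∣ Nat.gcd (p ^ k) (Nat.card (pPrimeCore p G)) := Nat.dvd_gcd h1 h2
    have h4 : Nat.gcd (p ^ k) (Nat.card (pPrimeCore p G)) = 1 := Nat.Coprime.pow_left k hK.symm
    rw [h4, Nat.dvd_one, orderOf_eq_one_iff] at h3
    exact h3
  have hxC : x ∈ Subgroup.centralizer (V : Set G) := by
    rw [Subgroup.mem_centralizer_iff]
    intro v hv
    have h1 : x * v * x⁻¹ * v⁻¹ ∈ V :=
      V.mul_mem (‹V.Normal›.conj_mem v hv x) (V.inv_mem hv)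
    have h2 := hpel _ h1 (hx v hv)
    have h3 : x * v * x⁻¹ = v := by
      have := mul_inv_eq_one.1 h2
      exact this
    calc v * x = (x * v * x⁻¹) * x := by rw [h3]
      _ = x * v := by group
  set C : Subgroup G := Subgroup.centralizer (V : Set G) with hC
  have hCn : C.Normal := by rw [hC]; infer_instance
  -- `Z = V ⊓ C` is a central subgroup of `C` of index prime to `p`
  set Z : Subgroup C := (V ⊓ C).subgroupOf C with hZ
  have hZc : Z ≤ Subgroup.center C := by
    intro z hz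
    rw [Subgroup.mem_center_iff]
    intro c
    have hzV : (z : G) ∈ V := (Subgroup.mem_subgroupOf.1 hz).1
    have hcC : (c : G) ∈ Subgroup.centralizer (V : Set G) := c.2
    rw [Subgroup.mem_centralizer_iff] at hcC
    apply Subtype.ext
    show (c : G) * z = z * c
    exact (hcC z hzV).symm
  have hTC : ((T : Subgroup G).subgroupOf C) ≤ Z := by
    intro c hc
    rw [hZ, Subgroup.mem_subgroupOf]
    have h1 : (c : G) ∈ (T : Subgroup G) := Subgroup.mem_subgroupOf.1 hc
    exact ⟨hcen ⟨h1, c.2⟩, c.2⟩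
  have hTidx : ((T : Subgroup G).subgroupOf C).index ∣ (T : Subgroup G).index :=
    Helper23_PComp.relIndex_dvd_index_of_normal_right (T : Subgroup G) C
  have hZidx : (Z.index).Coprime p := by
    have h1 : Z.index ∣ (T : Subgroup G).index :=
      (Subgroup.index_dvd_of_le hTC).trans hTidx
    have h2 : ¬ p ∣ (T : Subgroup G).index := T.not_dvd_index
    have h3 : ((T : Subgroup G).index).Coprime p :=
      ((Nat.Prime.coprime_iff_not_dvd (Fact.out : p.Prime)).2 h2).symm
    exact Nat.Coprime.coprime_dvd_left h1 h3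
  have hZp : IsPGroup p Z := by
    have h1 : IsPGroup p ((V ⊓ C : Subgroup G)) := hVp.to_le inf_le_left
    exact h1.comap_subtype
  obtain ⟨k, hk⟩ := IsPGroup.iff_card.1 hZp
  have hcop : (Nat.card Z).Coprime Z.index := by
    rw [hk]
    exact Nat.Coprime.pow_left k hZidx.symm
  obtain ⟨Tc, hTchar, hTcard, -⟩ :=
    Helper47_HH.exists_characteristic_complement_of_central_coprime Z hZc hcop
  -- the complement is normal in `G`, of order prime to `p`
  have hK₁n : (Tc.map C.subtype).Normal := by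
    have := hTchar
    exact ConjAct.normal_of_characteristic_of_normal
  have hK₁c : (Nat.card (Tc.map C.subtype)).Coprime p := by
    rw [Subgroup.card_map_of_injective C.subtype_injective, hTcard]
    exact hZidx
  have hK₁le : Tc.map C.subtype ≤ pPrimeCore p G := le_sSup ⟨hK₁n, hK₁c⟩
  -- `Z` and `Tc` are complementary
  have hcompl : Subgroup.IsComplement' Z Tc := by
    apply Subgroup.isComplement'_of_coprime
    · rw [hTcard]
      exact Subgroup.card_mul_index Z
    · rw [hTcard]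
      exact hcop
  obtain ⟨⟨z, t⟩, hzt, -⟩ := hcompl.existsUnique ⟨x, hxC⟩
  refine ⟨(z : C), (Subgroup.mem_subgroupOf.1 z.2).1, (t : C), hK₁le ⟨t, t.2, rfl⟩, ?_⟩
  have := congrArg Subtype.val hzt
  exact this.symm

end Group

section Model

open Cfsg.Agent.Lib.Helper76_PSolvable

variable {Ω : Type*} [Group Ω] {T : Subgroup Ω}

/-- A finite group `G` realizing `E` on a Sylow `p`-subgroup, in which the image of some `P` with
`C_T(P) ≤ P` is normal, gives a model of `E`: its quotient by `O_{p'}(G)`. -/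
theorem isModel_quotient_of_normal_centric {p : ℕ} [Fact p.Prime] (E : FusionSystem T)
    {G : Type*} [Group G] [Finite G] (ι : T →* G) (hreal : E.IsRealizedBy ι)
    (hT : ∃ T₀ : Sylow p G, (T₀ : Subgroup G) = ι.range) {P : Subgroup Ω} (hPT : P ≤ T)
    (hPn : ((P.subgroupOf T).map ι).Normal) (hPc : centralizerIn T P ≤ P) :
    E.IsModel p (G ⧸ pPrimeCore p G) ((QuotientGroup.mk' (pPrimeCore p G)).comp ι) := by
  obtain ⟨T₀, hT₀⟩ := hT
  have hNc : (Nat.card (pPrimeCore p G)).Coprime p := pPrimeCore_card_coprime p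
  have hTN : ∀ t ∈ (T₀ : Subgroup G), t ∈ pPrimeCore p G → t = 1 := by
    intro t ht htN
    obtain ⟨k, hk⟩ := T₀.2 ⟨t, ht⟩
    have h1 : orderOf t ∣ p ^ k := orderOf_dvd_of_pow_eq_one (congrArg Subtype.val hk)
    have h2 : orderOf t ∣ Nat.card (pPrimeCore p G) := by
      have := orderOf_dvd_natCard (⟨t, htN⟩ : pPrimeCore p G)
      rwa [Subgroup.orderOf_mk] at this
    have h3 : orderOf t ∣ Nat.gcd (p ^ k) (Nat.card (pPrimeCore p G)) := Nat.dvd_gcd h1 h2
    have h4 : Nat.gcd (p ^ k) (Nat.card (pPrimeCore p G)) = 1 := Nat.Coprime.pow_left k hNc.symm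
    rw [h4, Nat.dvd_one, orderOf_eq_one_iff] at h3
    exact h3
  have hinjT : ∀ a ∈ (T₀ : Subgroup G), ∀ b ∈ (T₀ : Subgroup G),
      (a : G ⧸ pPrimeCore p G) = b → a = b := by
    intro a ha b hb hab
    have h0 : a⁻¹ * b ∈ pPrimeCore p G := QuotientGroup.eq.1 hab
    have h1 := hTN _ ((T₀ : Subgroup G).mul_mem ((T₀ : Subgroup G).inv_mem ha) hb) h0
    exact inv_mul_eq_one.1 h1
  have hιT : ∀ s : T, ι s ∈ (T₀ : Subgroup G) := fun s => by rw [hT₀]; exact ⟨s, rfl⟩
  refine ⟨inferInstance, ⟨?_, ?_⟩, ?_, ?_⟩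
  · intro a b hab
    exact hreal.1 (hinjT _ (hιT a) _ (hιT b) hab)
  · intro A hA φ hφ
    rw [hreal.2 A hA φ hφ]
    constructor
    · rintro ⟨g, hg⟩
      refine ⟨(g : G ⧸ pPrimeCore p G), fun x => ?_⟩
      show ((ι ⟨φ x, hφ x⟩ : G) : G ⧸ pPrimeCore p G) = _
      rw [hg x]
      rfl
    · rintro ⟨γ, hγ⟩
      have hle : (A.subgroupOf T).map ι ≤ (T₀ : Subgroup G) := by
        rintro _ ⟨s, -, rfl⟩
        exact hιT s
      obtain ⟨g, hg⟩ := Cfsg.Agent.S5191.result T₀ ((A.subgroupOf T).map ι) hle γ (by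
        rintro _ ⟨s, hs, rfl⟩
        have hsP : (s : Ω) ∈ A := Subgroup.mem_subgroupOf.1 hs
        have h1 := hγ ⟨s, hsP⟩
        refine ⟨ι ⟨φ ⟨s, hsP⟩, hφ _⟩, hιT _, ?_⟩
        rw [← (show ((QuotientGroup.mk' (pPrimeCore p G)).comp ι) ⟨s, hA hsP⟩ =
          ((ι s : G) : G ⧸ pPrimeCore p G) from rfl)]
        rw [← h1]
        rfl)
      refine ⟨g, fun x => ?_⟩
      have hy : ι ⟨x, hA x.2⟩ ∈ (A.subgroupOf T).map ι :=
        ⟨⟨x, hA x.2⟩, Subgroup.mem_subgroupOf.2 x.2, rfl⟩
      obtain ⟨h1, h2⟩ := hg _ hy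
      apply hinjT _ (hιT _) _ h1
      rw [h2]
      exact hγ x
  · refine ⟨Sylow.mapSurjective (QuotientGroup.mk'_surjective (pPrimeCore p G)) T₀, ?_⟩
    rw [Sylow.coe_mapSurjective, MonoidHom.range_comp, hT₀]
  · -- characteristic `p`
    set V : Subgroup G := (P.subgroupOf T).map ι with hV
    have hVT : V ≤ (T₀ : Subgroup G) := by
      rintro _ ⟨s, -, rfl⟩
      exact hιT s
    have hcen : (T₀ : Subgroup G) ⊓ Subgroup.centralizer (V : Set G) ≤ V := by
      intro g hg
      have hgT : g ∈ (T₀ : Subgroup G) := (Subgroup.mem_inf.1 hg).1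
      have hgC : g ∈ Subgroup.centralizer (V : Set G) := (Subgroup.mem_inf.1 hg).2
      have hgT' : g ∈ ι.range := by rw [← hT₀]; exact hgT
      obtain ⟨t, rfl⟩ := hgT'
      rw [Subgroup.mem_centralizer_iff] at hgC
      have htc : (t : Ω) ∈ centralizerIn T P := by
        refine Subgroup.mem_inf.2 ⟨t.2, ?_⟩
        rw [Subgroup.mem_centralizer_iff]
        intro y hy
        have h1 := hgC (ι ⟨y, hPT hy⟩) ⟨⟨y, hPT hy⟩, Subgroup.mem_subgroupOf.2 hy, rfl⟩
        rw [← map_mul, ← map_mul] at h1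
        exact congrArg Subtype.val (hreal.1 h1)
      exact ⟨t, Subgroup.mem_subgroupOf.2 (hPc htc), rfl⟩
    have hVp : IsPGroup p V := T₀.2.to_le hVT
    set π := QuotientGroup.mk' (pPrimeCore p G) with hπ
    have hπs : Function.Surjective π := QuotientGroup.mk'_surjective _
    have hVn' : (V.map π).Normal := Subgroup.Normal.map hPn π hπs
    have hVp' : IsPGroup p (V.map π) := hVp.map π
    have hVle : V.map π ≤ pCore p (G ⧸ pPrimeCore p G) := Helper47_PLocal.le_pCore hVn' hVp'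
    intro γ hγ
    obtain ⟨x, rfl⟩ := hπs γ
    rw [Subgroup.mem_centralizer_iff] at hγ
    apply hVle
    obtain ⟨z, hz, k, hk, rfl⟩ := mem_sup_pPrimeCore_of_centralizes T₀ V hVT hcen x (by
      intro v hv
      have h1 := hγ (π v) (hVle ⟨v, hv, rfl⟩)
      rw [← QuotientGroup.eq_one_iff]
      have h2 : ((x * v * x⁻¹ * v⁻¹ : G) : G ⧸ pPrimeCore p G) = π x * π v * (π x)⁻¹ * (π v)⁻¹ := by
        rw [hπ]
        simp
      rw [h2, ← h1]
      group)
    refine ⟨z, hz, ?_⟩
    rw [map_mul]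
    have : π k = 1 := (QuotientGroup.eq_one_iff k).2 hk
    rw [this, mul_one]

end Model

end Cfsg.Agent.Lib.Helper88_QuotModel
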