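import Cfsg.Agent.Lib.Helper84_KNormalizer4

/-!
Fusion systems: `K`-normalizer systems `N_F^K(Q)` are saturated (helper84), part 5: a subgroup fully
normalized in `N_F^K(Q)` is receptive in it; saturation.
-/

set_option autoImplicit false

namespace Cfsg.Agent.Lib.Helper84_KNormalizer

open Cfsg Cfsg.FusionSystem Cfsg.Agent.Lib.Helper85_Fusion Cfsg.Agent.Lib.Helper84_RelSylow
  Cfsg.Agent.Lib.Helper84_FusionSat Cfsg.Agent.Lib.Helper84_FusionRS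
  Cfsg.Agent.Lib.Helper84_FusionAlperin

open scoped Pointwise

variable {Ω : Type*} [Group Ω] {S : Subgroup Ω}

/-- The subgroup of `Aut(R)` fixing `P` elementwise. -/
def fixer (R P : Subgroup Ω) : Subgroup (MulAut R) where
  carrier := {α | ∀ x : R, (x : Ω) ∈ P → α x = x}
  one_mem' := fun _ _ => rfl
  mul_mem' := by
    intro α β hα hβ x hx
    rw [MulAut.mul_apply, hβ x hx, hα x hx]
  inv_mem' := by
    intro α hα x hx
    calc α⁻¹ x = α⁻¹ (α x) := by rw [hα x hx]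
      _ = x := MulAut.inv_apply_self _ _ _

section

variable {F : FusionSystem S} {Q : Subgroup Ω} {K : Subgroup (MulAut Q)} {N : Subgroup Ω}
  {E : FusionSystem N}

/-- Conjugation by `a ∈ K_P` preserves the elements of `Aut_F^{K_P}(PQ)` fixing `P` elementwise. -/
theorem conj_mem_fixer {P : Subgroup Ω} {a c : MulAut ↥(P ⊔ Q)}
    (ha : a ∈ F.autGroup (P ⊔ Q) ⊓ KP P Q K)
    (hc : c ∈ (F.autGroup (P ⊔ Q) ⊓ KP P Q K) ⊓ fixer (P ⊔ Q) P) :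
    a * c * a⁻¹ ∈ (F.autGroup (P ⊔ Q) ⊓ KP P Q K) ⊓ fixer (P ⊔ Q) P := by
  refine ⟨Subgroup.mul_mem _ (Subgroup.mul_mem _ ha hc.1) (Subgroup.inv_mem _ ha), ?_⟩
  intro y hy
  have h1 : ((a⁻¹ y : ↥(P ⊔ Q)) : Ω) ∈ P := (((KP P Q K).inv_mem ha.2).1 y).1 hy
  rw [MulAut.mul_apply, MulAut.mul_apply, hc.2 _ h1, MulAut.apply_inv_self]

/-- A subgroup fully normalized in `N_F^K(Q)` is receptive in it. -/
theorem isReceptive_of_isFullyNormalized [Finite S] {p : ℕ} [Fact p.Prime]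
    (hS : IsPGroup p S) (hF : F.IsSaturated p) (hQc : F.IsFullyCentralized Q)
    (hsyl : IsSylowIn p (autInducedBy S Q ⊓ K) (F.autGroup Q ⊓ K))
    (hE : IsKNormalizerSystem F Q K E) {P : Subgroup Ω} (hP : E.IsFullyNormalized P) :
    E.IsReceptive P := by
  have hPN := hP.1
  have hNS := hE.le_S
  have hQS := hQc.1
  have hRS : P ⊔ Q ≤ S := sup_le (hPN.trans hNS) hQS
  have hfinR : Finite ↥(P ⊔ Q) := finite_of_le_S hRS
  obtain ⟨hRc, hsylR⟩ := sup_isFullyCentralized_and_isSylowIn hS hF hQc hsyl hE hP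
  have hRrec : F.IsReceptive (P ⊔ Q) := IsSaturated.isReceptive hS hF hRc
  refine ⟨hPN, fun P₀ φ hφ hr => ?_⟩
  obtain ⟨hφF, hP₀N, hφN, φb, hφb, hext, κ₀, hκ₀, hφbκ⟩ := (hE.hom_iff P₀ φ).1 hφ
  have hR₀S : P₀ ⊔ Q ≤ S := sup_le (hP₀N.trans hNS) hQS
  have hφbr : φb.range = P ⊔ Q := by
    rw [range_eq_sup_map, map_subgroupOf_eq_range_of_ext le_sup_left φ φb hext, hr,
      map_subgroupOf_eq_range_of_ext le_sup_right (Q.subtype.comp κ₀.toMonoidHom) φb hφbκ,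
      range_subtype_comp_equiv]
  have hinj := F.injective_of_mem hφb
  set e : ↥(P₀ ⊔ Q) ≃* ↥(P ⊔ Q) := isoOfRange φb hinj hφbr with he
  have hiso : IsIso F e := isIso_isoOfRange F hφb hφbr
  have heP : ∀ x : P₀, ((e (Subgroup.inclusion le_sup_left x) : ↥(P ⊔ Q)) : Ω) = φ x :=
    fun x => hext x
  have heQ : ∀ z : Q, ((e (Subgroup.inclusion le_sup_right z) : ↥(P ⊔ Q)) : Ω) = κ₀ z :=
    fun z => hφbκ z
  have hePiff : ∀ z : ↥(P₀ ⊔ Q), (z : Ω) ∈ P₀ ↔ ((e z : ↥(P ⊔ Q)) : Ω) ∈ P := by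
    intro z
    constructor
    · intro hz
      have h1 := heP ⟨z, hz⟩
      have e1 : Subgroup.inclusion (le_sup_left : P₀ ≤ P₀ ⊔ Q) ⟨z, hz⟩ = z := Subtype.ext rfl
      rw [e1] at h1
      rw [h1, ← hr]
      exact ⟨_, rfl⟩
    · intro hz
      have hz' : ((e z : ↥(P ⊔ Q)) : Ω) ∈ φ.range := by rw [hr]; exact hz
      obtain ⟨x, hx⟩ := hz'
      have h1 : e (Subgroup.inclusion le_sup_left x) = e z := Subtype.ext ((heP x).trans hx)
      have h2 := e.injective h1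
      rw [← h2]
      exact x.2
  -- the groups involved
  set A : Subgroup (MulAut ↥(P ⊔ Q)) := F.autGroup (P ⊔ Q) ⊓ KP P Q K with hA
  set Sg : Subgroup (MulAut ↥(P ⊔ Q)) := autInducedBy S (P ⊔ Q) ⊓ KP P Q K with hSg
  set C : Subgroup (MulAut ↥(P ⊔ Q)) := A ⊓ fixer (P ⊔ Q) P with hC
  have hSgA : Sg ≤ A := inf_le_inf_right _ (autInducedBy_le_autGroup F hRS)
  have hCA : C ≤ A := inf_le_left
  set L := extender N P₀ φ with hL
  have hLN : L ≤ N := extender_le' φ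
  have hLS : L ≤ S := hLN.trans hNS
  -- the image of `Aut_L(P₀Q)` lies in `Sg ⊔ C`
  have hBle : (autInducedBy L (P₀ ⊔ Q)).map (MulAut.congr e).toMonoidHom ≤ Sg ⊔ C := by
    rintro _ ⟨γ, hγL, rfl⟩
    obtain ⟨g, hgL, hγ⟩ := (mem_autInducedBy_iff _ _ _).1 hγL
    obtain ⟨hgN, hgP₀, h, hhN, hgh⟩ := (mem_extender_iff φ g).1 hgL
    obtain ⟨hgS, κg, hκg, hgκ⟩ := (hE.mem_iff g).1 hgN
    have hγS : γ ∈ autInducedBy S (P₀ ⊔ Q) := (mem_autInducedBy_iff _ _ _).2 ⟨g, hgS, hγ⟩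
    have hbF : MulAut.congr e γ ∈ F.autGroup (P ⊔ Q) :=
      hiso.congr_mem_autGroup (autInducedBy_le_autGroup F hR₀S hγS)
    have hγP : ∀ z : ↥(P₀ ⊔ Q), (z : Ω) ∈ P₀ ↔ ((γ z : ↥(P₀ ⊔ Q)) : Ω) ∈ P₀ := by
      intro z
      rw [hγ]
      exact hgP₀ z
    have hbst : MulAut.congr e γ ∈ stab (P ⊔ Q) P := by
      intro y
      have h1 := hePiff (e.symm y)
      rw [e.apply_symm_apply] at h1
      have h2 := hePiff (γ (e.symm y))
      exact h1.symm.trans ((hγP _).trans h2)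
    have hbκ : ∀ x : Q, ((MulAut.congr e γ (Subgroup.inclusion le_sup_right x) : ↥(P ⊔ Q)) : Ω) =
        ((κ₀ * κg * κ₀⁻¹) x : Q) := by
      intro x
      have e1 : e (Subgroup.inclusion le_sup_right (κ₀⁻¹ x)) = Subgroup.inclusion le_sup_right x := by
        apply Subtype.ext
        rw [heQ, MulAut.apply_inv_self]
        rfl
      have e2 : γ (Subgroup.inclusion le_sup_right (κ₀⁻¹ x)) =
          Subgroup.inclusion le_sup_right (κg (κ₀⁻¹ x)) := by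
        apply Subtype.ext
        rw [hγ]
        exact hgκ _
      show ((e (γ (e.symm (Subgroup.inclusion le_sup_right x))) : ↥(P ⊔ Q)) : Ω) = _
      rw [← e1, e.symm_apply_apply, e2, heQ]
      rfl
    have hbK : MulAut.congr e γ ∈ KP P Q K :=
      ⟨hbst, _, K.mul_mem (K.mul_mem hκ₀ hκg) (K.inv_mem hκ₀), hbκ⟩
    -- `h` normalizes `P`
    have hhP : h ∈ Subgroup.normalizer (P : Set Ω) := by
      apply mem_normalizer_of_aut (MulAut.congr (isoOfRange φ (F.injective_of_mem hφF) hr)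
        (P₀.normalizerMonoidHom ⟨g, hgP₀⟩)) h
      intro y
      have h1 := hgh ((isoOfRange φ (F.injective_of_mem hφF) hr).symm y)
        ((hgP₀ _).1 ((isoOfRange φ (F.injective_of_mem hφF) hr).symm y).2)
      rw [apply_isoOfRange_symm] at h1
      exact h1
    obtain ⟨hhS, σ, hσK, hσ0⟩ := hE.normalizerIn_le_NK P ⟨hhN, hhP⟩
    have hσ : ∀ y : ↥(P ⊔ Q), h * (y : Ω) * h⁻¹ = ((σ y : ↥(P ⊔ Q)) : Ω) := hσ0
    have hσS : σ ∈ autInducedBy S (P ⊔ Q) :=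
      (mem_autInducedBy_iff _ _ _).2 ⟨h, hhS, fun y => (hσ y).symm⟩
    have hσF : σ ∈ F.autGroup (P ⊔ Q) := autInducedBy_le_autGroup F hRS hσS
    have hbσ : ∀ y : ↥(P ⊔ Q), (y : Ω) ∈ P → MulAut.congr e γ y = σ y := by
      intro y hy
      have hy' : (y : Ω) ∈ φ.range := by rw [hr]; exact hy
      obtain ⟨x, hx⟩ := hy'
      have e1 : e (Subgroup.inclusion le_sup_left x) = y := Subtype.ext ((heP x).trans hx)
      have hx' : g * (x : Ω) * g⁻¹ ∈ P₀ := (hgP₀ _).1 x.2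
      have e2 : γ (Subgroup.inclusion le_sup_left x) =
          Subgroup.inclusion le_sup_left ⟨g * (x : Ω) * g⁻¹, hx'⟩ := Subtype.ext (hγ _)
      apply Subtype.ext
      rw [← hσ y, ← e1]
      show ((e (γ (e.symm (e (Subgroup.inclusion le_sup_left x)))) : ↥(P ⊔ Q)) : Ω) = _
      rw [e.symm_apply_apply, e2, heP, heP, hgh x hx']
    have hc : MulAut.congr e γ * σ⁻¹ ∈ C := by
      refine ⟨⟨Subgroup.mul_mem _ hbF (Subgroup.inv_mem _ hσF),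
        Subgroup.mul_mem _ hbK (Subgroup.inv_mem _ hσK)⟩, fun y hy => ?_⟩
      rw [MulAut.mul_apply, hbσ _ ((((KP P Q K).inv_mem hσK).1 y).1 hy), MulAut.apply_inv_self]
    have hdec : MulAut.congr e γ = (MulAut.congr e γ * σ⁻¹) * σ := by group
    show MulAut.congr e γ ∈ Sg ⊔ C
    rw [hdec]
    exact Subgroup.mul_mem _ (Subgroup.mem_sup_right hc) (Subgroup.mem_sup_left ⟨hσS, hσK⟩)
  -- Sylow conjugation inside `Sg ⊔ C`
  have hD : IsSylowIn p Sg (Sg ⊔ C) := hsylR.mono le_sup_left (sup_le hSgA hCA)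
  have hBp : IsPGroup p ((autInducedBy L (P₀ ⊔ Q)).map (MulAut.congr e).toMonoidHom) :=
    (isPGroup_autInducedBy (hS.to_le hLS) (P₀ ⊔ Q)).map _
  obtain ⟨d, hd, hdB⟩ := hD.exists_conj_le hBle hBp
  have hnorm : Sg ≤ Subgroup.normalizer (C : Set (MulAut ↥(P ⊔ Q))) := by
    intro a ha
    rw [Subgroup.mem_normalizer_iff]
    intro c
    constructor
    · intro hc
      exact conj_mem_fixer (hSgA ha) hc
    · intro hc
      have := conj_mem_fixer (Subgroup.inv_mem _ (hSgA ha)) hc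
      have e1 : a⁻¹ * (a * c * a⁻¹) * a⁻¹⁻¹ = c := by group
      rwa [e1] at this
  have hcoe := Subgroup.coe_mul_of_left_le_normalizer_right Sg C hnorm
  have hd' : d ∈ (Sg : Set (MulAut ↥(P ⊔ Q))) * (C : Set (MulAut ↥(P ⊔ Q))) := by
    rw [← hcoe]
    exact hd
  obtain ⟨σ₁, hσ₁, χ, hχ, rfl⟩ := hd'
  have hχB : ∀ b ∈ (autInducedBy L (P₀ ⊔ Q)).map (MulAut.congr e).toMonoidHom,
      χ * b * χ⁻¹ ∈ Sg := by
    intro b hb
    have h1 := hdB b hb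
    have h2 := Sg.mul_mem (Sg.mul_mem (Sg.inv_mem hσ₁) h1) hσ₁
    have e1 : σ₁⁻¹ * (σ₁ * χ * b * (σ₁ * χ)⁻¹) * σ₁ = χ * b * χ⁻¹ := by group
    rwa [e1] at h2
  -- the modified extension of `φ`
  have hχF : χ ∈ F.autGroup (P ⊔ Q) := hχ.1.1
  obtain ⟨-, κχ, hκχ, hχκ⟩ := hχ.1.2
  have hχfix : ∀ x : ↥(P ⊔ Q), (x : Ω) ∈ P → χ x = x := hχ.2
  have hiso' : IsIso F (e.trans χ) := IsIso.trans hiso ((isIso_iff_mem_autGroup F hRS χ).2 hχF)
  set φ' : ↥(P₀ ⊔ Q) →* Ω := (P ⊔ Q).subtype.comp (e.trans χ).toMonoidHom with hφ'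
  have hφ'F : φ' ∈ F.Hom (P₀ ⊔ Q) := hiso'
  have hφ'r : φ'.range = P ⊔ Q := range_subtype_comp_equiv _
  have hφ'P : ∀ x : P₀, φ' (Subgroup.inclusion le_sup_left x) = φ x := by
    intro x
    show ((χ (e (Subgroup.inclusion le_sup_left x)) : ↥(P ⊔ Q)) : Ω) = φ x
    have h1 : ((e (Subgroup.inclusion le_sup_left x) : ↥(P ⊔ Q)) : Ω) ∈ P := by
      rw [heP, ← hr]
      exact ⟨x, rfl⟩
    rw [hχfix _ h1, heP]
  have hφ'Q : ∀ z : Q, φ' (Subgroup.inclusion le_sup_right z) = ((κχ * κ₀) z : Q) := by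
    intro z
    show ((χ (e (Subgroup.inclusion le_sup_right z)) : ↥(P ⊔ Q)) : Ω) = _
    have e1 : e (Subgroup.inclusion le_sup_right z) = Subgroup.inclusion le_sup_right (κ₀ z) :=
      Subtype.ext (heQ z)
    rw [e1, hχκ]
    rfl
  -- `L ≤ N_{φ'}`
  have hLext : L ≤ extender S (P₀ ⊔ Q) φ' := by
    intro g hgL
    obtain ⟨hgN, hgP₀, -⟩ := (mem_extender_iff φ g).1 hgL
    have hgS := hNS hgN
    have hgR₀ : g ∈ Subgroup.normalizer ((P₀ ⊔ Q : Subgroup Ω) : Set Ω) :=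
      mem_normalizer_sup hgP₀ (hE.le_normalizer hgN)
    have hγL : (P₀ ⊔ Q).normalizerMonoidHom ⟨g, hgR₀⟩ ∈ autInducedBy L (P₀ ⊔ Q) :=
      (mem_autInducedBy_iff _ _ _).2 ⟨g, hgL, fun y => rfl⟩
    have h1 := (hχB _ ⟨_, hγL, rfl⟩).1
    obtain ⟨s, hs, hsb⟩ := (mem_autInducedBy_iff _ _ _).1 h1
    rw [mem_extender_iff]
    refine ⟨hgS, hgR₀, s, hs, fun y hy => ?_⟩
    have h2 := hsb (χ (e y))
    show ((χ (e ⟨g * (y : Ω) * g⁻¹, hy⟩) : ↥(P ⊔ Q)) : Ω) = s * ((χ (e y) : ↥(P ⊔ Q)) : Ω) * s⁻¹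
    rw [← h2]
    show _ = ((χ (e ((P₀ ⊔ Q).normalizerMonoidHom ⟨g, hgR₀⟩ (e.symm (χ⁻¹ (χ (e y)))))) :
      ↥(P ⊔ Q)) : Ω)
    rw [MulAut.inv_apply_self, e.symm_apply_apply]
    rfl
  have hR₀ext : P₀ ⊔ Q ≤ extender S (P₀ ⊔ Q) φ' :=
    Helper84_Fusion.le_extender S (P₀ ⊔ Q) φ' hR₀S (fun y => apply_mem F hφ'F y)
  obtain ⟨Ψ, hΨ, hΨφ'⟩ := hRrec.2 (P₀ ⊔ Q) φ' hφ'F hφ'r
  have hQext : Q ≤ extender S (P₀ ⊔ Q) φ' := le_sup_right.trans hR₀ext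
  have hΨQ : ∀ z : Q, Ψ ⟨z, hQext z.2⟩ = ((κχ * κ₀) z : Q) := by
    intro z
    rw [← hφ'Q z]
    exact hΨφ' z ((le_sup_right : Q ≤ P₀ ⊔ Q) z.2) _
  have hκ₁ : κχ * κ₀ ∈ K := K.mul_mem hκχ hκ₀
  refine ⟨Ψ.comp (Subgroup.inclusion hLext), ?_, ?_⟩
  · rw [hE.hom_iff]
    refine ⟨restrict_mem F hLext hΨ, hLN, fun g => ?_,
      Ψ.comp (Subgroup.inclusion (sup_le hLext hQext)), restrict_mem F _ hΨ, fun x => rfl,
      κχ * κ₀, hκ₁, fun z => hΨQ z⟩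
    -- values in `N`
    obtain ⟨hgS, κg, hκg, hgκ⟩ := (hE.mem_iff g).1 (hLN g.2)
    rw [hE.mem_iff]
    refine ⟨apply_mem F hΨ _, (κχ * κ₀) * κg * (κχ * κ₀)⁻¹,
      K.mul_mem (K.mul_mem hκ₁ hκg) (K.inv_mem hκ₁), fun z => ?_⟩
    show Ψ ⟨g, hLext g.2⟩ * (z : Ω) * (Ψ ⟨g, hLext g.2⟩)⁻¹ =
      (((κχ * κ₀) (κg ((κχ * κ₀)⁻¹ z)) : Q) : Ω)
    have hz : (z : Ω) = Ψ ⟨((κχ * κ₀)⁻¹ z : Q), hQext ((κχ * κ₀)⁻¹ z).2⟩ := by
      rw [hΨQ, MulAut.apply_inv_self]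
    rw [hz, ← hΨQ]
    have hmem : (g : Ω) * (((κχ * κ₀)⁻¹ z : Q) : Ω) * (g : Ω)⁻¹ ∈ extender S (P₀ ⊔ Q) φ' := by
      rw [hgκ]
      exact hQext (κg _).2
    rw [← map_conj_mk Ψ (hLext g.2) (hQext ((κχ * κ₀)⁻¹ z).2) hmem]
    congr 1
    exact Subtype.ext (hgκ _)
  · intro x hxP₀ hxL
    have h1 := hΨφ' x ((le_sup_left : P₀ ≤ P₀ ⊔ Q) hxP₀) (hLext hxL)
    have h2 := hφ'P ⟨x, hxP₀⟩
    exact h1.trans h2

/-- **`K`-normalizer systems are saturated** (AKO Theorem I.5.5): if `Q` is fully `K`-normalized in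
the saturated system `F`, then `N_F^K(Q)` is saturated. -/
theorem isSaturated_of_isKNormalizerSystem [Finite S] {p : ℕ} [Fact p.Prime]
    (hS : IsPGroup p S) (hF : F.IsSaturated p) (hQS : Q ≤ S)
    (hQK : ∀ φ ∈ F.Hom Q, Nat.card (NK S Q K φ) ≤ Nat.card (NK S Q K Q.subtype))
    (hE : IsKNormalizerSystem F Q K E) : E.IsSaturated p := by
  obtain ⟨hQc, hsyl⟩ := isFullyCentralized_and_isSylowIn hS F hF hQS K hQK
  have hfinN : Finite N := finite_of_le_S hE.le_S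
  intro P hPN
  obtain ⟨P', hPP', hP'⟩ := exists_isFullyNormalized_conj E hPN
  exact ⟨P', hPP', isFullyAutomized_of_isFullyNormalized hS hF hQc hsyl hE hP',
    isReceptive_of_isFullyNormalized hS hF hQc hsyl hE hP'⟩

end

end Cfsg.Agent.Lib.Helper84_KNormalizer
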