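import Mathlib
import Cfsg.Prelude.Def_FusionSystem
import Cfsg.Prelude.Def_FusionComponents
import Cfsg.Agent.Lib.Helper85_Fusion
import Cfsg.Agent.Lib.Helper87_Factor
import Cfsg.Agent.Lib.Helper87_Factor2
import Cfsg.Agent.Lib.Helper84_FusionRS
import Cfsg.Agent.Lib.Helper84_FusionNormal
import Cfsg.Agent.Lib.Helper88_Model
import Cfsg.Agent.Lib.Helper88_QuotModel
import Cfsg.Agent.Lib.Helper84_ModelUnique
import Cfsg.Agent.Lib.Helper76_PSolvable
import Cfsg.Agent.S5090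
import Cfsg.Agent.S5091
import Cfsg.Agent.S5096
import Cfsg.Agent.S5098
import Cfsg.Agent.S5103
import Cfsg.Agent.S5299
import Cfsg.Prelude.Def_FusionReduction
import Cfsg.Prelude.Def_LocalEven
import Cfsg.Prelude.Def_Solvable

/-!
Factor systems of `H`-free fusion systems are `H`-free (helper88).

For `Q` normal in a saturated `F`, `E = F/Q` read through `θ`, and `P' ≤ S'` fully normalized and
centric in `E`, with `P` the full preimage of `P'`:
* `isCentric_preimageAlong`, `isFullyNormalized_preimageAlong`: `P` is centric / fully normalized;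
* `isRealizedBy_quotient`: if `L` realizes `N_F(P)` then `L / ι(Q)` realizes `N_E(P')`
  (`exists_quotient_hom` builds the embedding of `N_{S'}(P')`);
* `isSectionFree_factorSystem`: the theorem (S5241, generic in `H`), using
  `Helper88_QuotModel.isModel_quotient_of_normal_centric` and uniqueness of models.
-/

set_option autoImplicit false

namespace Cfsg.Agent.Lib.Helper88_FactorFree

open Cfsg Cfsg.FusionSystem Cfsg.Agent.Lib.Helper85_Fusion Cfsg.Agent.Lib.Helper87_Factor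
  Cfsg.Agent.Lib.Helper87_Factor2 Cfsg.Agent.Lib.Helper88_Model

variable {Ω : Type*} [Group Ω] {S : Subgroup Ω} {Ω' : Type*} [Group Ω'] {S' : Subgroup Ω'}

section Basic

variable {θ : S →* Ω'} {Q : Subgroup Ω}

theorem extOn_mem_range (θ : S →* Ω') {x : Ω} (hx : x ∈ S) : extOn θ x ∈ θ.range := by
  rw [extOn_apply θ hx]
  exact ⟨_, rfl⟩

theorem extOn_conj (θ : S →* Ω') {y u : Ω} (hy : y ∈ S) (hu : u ∈ S) :
    extOn θ (y * u * y⁻¹) = extOn θ y * extOn θ u * (extOn θ y)⁻¹ := by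
  rw [extOn_mul θ (S.mul_mem hy hu) (S.inv_mem hy), extOn_mul θ hy hu, extOn_inv θ hy]

theorem preimageAlong_mono (θ : S →* Ω') {A B : Subgroup Ω'} (h : A ≤ B) :
    preimageAlong θ A ≤ preimageAlong θ B := by
  intro y hy
  rw [mem_preimageAlong] at hy ⊢
  exact ⟨hy.1, h hy.2⟩

/-- The normalizer in `S` of a full preimage is the full preimage of the normalizer. -/
theorem normalizerIn_preimageAlong [Finite S] (hrange : θ.range = S') {P' : Subgroup Ω'}
    (hP' : P' ≤ S') :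
    normalizerIn S (preimageAlong θ P') = preimageAlong θ (normalizerIn S' P') := by
  have hfinS' : Finite S' := by
    rw [← hrange]
    exact Finite.of_surjective θ.rangeRestrict θ.rangeRestrict_surjective
  have hfinP' : Finite P' := Helper84_FusionRS.finite_of_le_S hP'
  have hfinP : Finite (preimageAlong θ P' : Subgroup Ω) :=
    Helper84_FusionRS.finite_of_le_S (preimageAlong_le θ P')
  ext y
  rw [mem_preimageAlong]
  constructor
  · intro hy
    have hyS : y ∈ S := hy.1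
    have hyN : y ∈ Subgroup.normalizer ((preimageAlong θ P' : Subgroup Ω) : Set Ω) := hy.2
    refine ⟨hyS, Subgroup.mem_inf.2 ⟨hrange ▸ extOn_mem_range θ hyS, ?_⟩⟩
    apply Subgroup.mem_normalizer_fintype
    intro u' hu'
    obtain ⟨u, huS, rfl⟩ := exists_extOn_eq_of_mem_range (hrange ▸ hP' hu')
    have huP : u ∈ preimageAlong θ P' := (mem_preimageAlong θ P' u).2 ⟨huS, hu'⟩
    have h1 : y * u * y⁻¹ ∈ preimageAlong θ P' := (Subgroup.mem_normalizer_iff.1 hyN u).1 huP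
    have h2 := ((mem_preimageAlong θ P' _).1 h1).2
    rw [extOn_conj θ hyS huS] at h2
    exact h2
  · rintro ⟨hyS, hy'⟩
    have hyN' : extOn θ y ∈ Subgroup.normalizer (P' : Set Ω') := (Subgroup.mem_inf.1 hy').2
    refine Subgroup.mem_inf.2 ⟨hyS, ?_⟩
    apply Subgroup.mem_normalizer_fintype
    intro u hu
    have hu' := (mem_preimageAlong θ P' u).1 hu
    rw [SetLike.mem_coe, mem_preimageAlong]
    refine ⟨S.mul_mem (S.mul_mem hyS hu'.1) (S.inv_mem hyS), ?_⟩
    rw [extOn_conj θ hyS hu'.1]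
    exact (Subgroup.mem_normalizer_iff.1 hyN' _).1 hu'.2

/-- The order of a full preimage. -/
theorem card_preimageAlong [Finite S] (hker : ∀ s : S, θ s = 1 ↔ (s : Ω) ∈ Q) (hQS : Q ≤ S)
    {X' : Subgroup Ω'} (hX' : X' ≤ θ.range) :
    Nat.card (preimageAlong θ X') = Nat.card Q * Nat.card X' := by
  set A : Subgroup S := X'.comap θ with hA
  have h1 : Nat.card (preimageAlong θ X') = Nat.card A :=
    Subgroup.card_map_of_injective S.subtype_injective
  let θA : A →* X' := (θ.comp A.subtype).codRestrict X' (fun a => a.2)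
  have hsurj : Function.Surjective θA := by
    rintro ⟨y, hy⟩
    obtain ⟨s, rfl⟩ := hX' hy
    exact ⟨⟨s, hy⟩, Subtype.ext rfl⟩
  have h2 : Nat.card θA.range = Nat.card X' := by
    rw [MonoidHom.range_eq_top.2 hsurj]
    exact Subgroup.card_top
  have h3 : Nat.card θA.ker = Nat.card Q := by
    have hmap : (θA.ker.map A.subtype).map S.subtype = Q := by
      ext y
      constructor
      · rintro ⟨s, ⟨a, ha, rfl⟩, rfl⟩
        have h : θ (a : S) = 1 := congrArg Subtype.val (MonoidHom.mem_ker.1 ha)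
        exact (hker _).1 h
      · intro hy
        have hθ : θ ⟨y, hQS hy⟩ = 1 := (hker ⟨y, hQS hy⟩).2 hy
        have hyA : (⟨y, hQS hy⟩ : S) ∈ A := by
          show θ ⟨y, hQS hy⟩ ∈ X'
          rw [hθ]
          exact X'.one_mem
        refine ⟨⟨y, hQS hy⟩, ⟨⟨⟨y, hQS hy⟩, hyA⟩, ?_, rfl⟩, rfl⟩
        exact MonoidHom.mem_ker.2 (Subtype.ext hθ)
    rw [← hmap, Subgroup.card_map_of_injective S.subtype_injective,
      Subgroup.card_map_of_injective A.subtype_injective]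
  rw [h1, ← Subgroup.card_mul_index θA.ker, Subgroup.index_ker, h2, h3]

end Basic

section Corr

variable [Finite S] {p : ℕ} [Fact p.Prime] {F : FusionSystem S} {Q : Subgroup Ω} {θ : S →* Ω'}
  {E : FusionSystem S'}

omit [Fact (Nat.Prime p)] in
/-- A strongly closed subgroup contained in the source of a map lies in its image. -/
theorem le_range_of_stronglyClosed (hQ : F.StronglyClosed Q) {P : Subgroup Ω} (hQP : Q ≤ P)
    {φ : P →* Ω} (hφ : φ ∈ F.Hom P) : Q ≤ φ.range := by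
  have hfinQ : Finite Q := Helper84_FusionRS.finite_of_le_S hQ.1
  have hle : (Q.subgroupOf P).map φ ≤ Q := by
    rintro _ ⟨x, hx, rfl⟩
    have h1 := hQ.2 Q le_rfl (φ.comp (Subgroup.inclusion hQP)) (restrict_mem F hQP hφ)
      ⟨x, Subgroup.mem_subgroupOf.1 hx⟩
    exact h1
  have hcard : Nat.card Q ≤ Nat.card ((Q.subgroupOf P).map φ) := by
    rw [Subgroup.card_map_of_injective (F.injective_of_mem hφ)]
    exact le_of_eq (Nat.card_congr (Subgroup.subgroupOfEquivOfLe hQP).toEquiv).symm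
  have heq := Subgroup.eq_of_le_of_card_ge hle hcard
  intro q hq
  rw [← heq] at hq
  obtain ⟨x, -, rfl⟩ := hq
  exact ⟨x, rfl⟩

/-- Conjugate subgroups have conjugate images in the factor system. -/
theorem isConj_imageAlong (hS : IsPGroup p S) (hF : F.IsSaturated p) (hQ : F.StronglyClosed Q)
    (hE : F.IsFactorSystem Q θ E) {P P₁ : Subgroup Ω} (h : F.IsConj P P₁) :
    E.IsConj (imageAlong θ P) (imageAlong θ P₁) := by
  obtain ⟨φ, hφ, rfl⟩ := h
  have hPS : P ≤ S := source_le F hφ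
  obtain ⟨φ', hφ'E, hφ'⟩ := exists_induced_hom F hS hF hQ hE hφ
  refine ⟨φ', hφ'E, ?_⟩
  ext y'
  constructor
  · rintro ⟨⟨x', hx'⟩, rfl⟩
    obtain ⟨x, hxS, hxP, rfl⟩ := (mem_imageAlong θ P x').1 hx'
    rw [hφ' ⟨x, hxP⟩ hx']
    exact extOn_mem_imageAlong θ (range_le F hφ) ⟨⟨x, hxP⟩, rfl⟩
  · intro hy'
    obtain ⟨z, hzS, ⟨x, rfl⟩, rfl⟩ := (mem_imageAlong θ φ.range y').1 hy'
    exact ⟨⟨extOn θ (x : Ω), extOn_mem_imageAlong θ hPS x.2⟩, hφ' x _⟩

/-- The full preimage of a centric subgroup of the factor system is centric. -/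
theorem isCentric_preimageAlong (hS : IsPGroup p S) (hF : F.IsSaturated p)
    (hQ : F.StronglyClosed Q) (hE : F.IsFactorSystem Q θ E) {P' : Subgroup Ω'}
    (hP'c : E.IsCentric P') : F.IsCentric (preimageAlong θ P') := by
  obtain ⟨hQS, hker, hrange, -⟩ := id hE
  have hP'S : P' ≤ S' := hP'c.1
  have hQP : Q ≤ preimageAlong θ P' := le_preimageAlong hker hQS P'
  refine ⟨preimageAlong_le θ P', fun P₁ hconj => ?_⟩
  have h1 := isConj_imageAlong hS hF hQ hE hconj
  rw [imageAlong_preimageAlong_of_le θ (hrange ▸ hP'S)] at h1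
  have hcent := hP'c.2 _ h1
  obtain ⟨φ, hφ, rfl⟩ := hconj
  have hQP₁ : Q ≤ φ.range := le_range_of_stronglyClosed hQ hQP hφ
  have hP₁S : φ.range ≤ S := range_le F hφ
  intro c hc
  have hcS : c ∈ S := (Subgroup.mem_inf.1 hc).1
  have hcC : c ∈ Subgroup.centralizer ((φ.range : Subgroup Ω) : Set Ω) := (Subgroup.mem_inf.1 hc).2
  rw [Subgroup.mem_centralizer_iff] at hcC
  have hc' : extOn θ c ∈ centralizerIn S' (imageAlong θ φ.range) := by
    refine Subgroup.mem_inf.2 ⟨hrange ▸ extOn_mem_range θ hcS, ?_⟩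
    rw [Subgroup.mem_centralizer_iff]
    intro z' hz'
    obtain ⟨z, hzS, hzP, rfl⟩ := (mem_imageAlong θ φ.range z').1 hz'
    rw [← extOn_mul θ hzS hcS, ← extOn_mul θ hcS hzS, hcC z hzP]
  obtain ⟨z, hzS, hzP, hzc⟩ := (mem_imageAlong θ φ.range _).1 (hcent hc')
  have h2 : z⁻¹ * c ∈ Q := (extOn_eq_iff hker hzS hcS).1 hzc
  have h3 : c = z * (z⁻¹ * c) := by group
  rw [h3]
  exact mul_mem hzP (hQP₁ h2)

/-- The full preimage of a fully normalized subgroup of the factor system is fully normalized. -/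
theorem isFullyNormalized_preimageAlong (hS : IsPGroup p S) (hF : F.IsSaturated p)
    (hQ : F.StronglyClosed Q) (hE : F.IsFactorSystem Q θ E) {P' : Subgroup Ω'}
    (hP'n : E.IsFullyNormalized P') : F.IsFullyNormalized (preimageAlong θ P') := by
  obtain ⟨hQS, hker, hrange, -⟩ := id hE
  have hP'S : P' ≤ S' := hP'n.1
  have hQP : Q ≤ preimageAlong θ P' := le_preimageAlong hker hQS P'
  refine ⟨preimageAlong_le θ P', fun P₁ hconj => ?_⟩
  have h1 := isConj_imageAlong hS hF hQ hE hconj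
  rw [imageAlong_preimageAlong_of_le θ (hrange ▸ hP'S)] at h1
  have hcard := hP'n.2 _ h1
  have hP₁S : P₁ ≤ S := isConj_le_right F hconj
  have hQP₁ : Q ≤ P₁ := by
    obtain ⟨φ, hφ, rfl⟩ := hconj
    exact le_range_of_stronglyClosed hQ hQP hφ
  have hP₁' : imageAlong θ P₁ ≤ S' := hrange ▸ imageAlong_le_range θ P₁
  have e1 : normalizerIn S P₁ = preimageAlong θ (normalizerIn S' (imageAlong θ P₁)) := by
    rw [← normalizerIn_preimageAlong hrange hP₁', preimageAlong_imageAlong_of_le hker hP₁S hQP₁]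
  have e2 := normalizerIn_preimageAlong (θ := θ) hrange hP'S
  have hN₁ : normalizerIn S' (imageAlong θ P₁) ≤ θ.range := hrange ▸ inf_le_left
  have hN : normalizerIn S' P' ≤ θ.range := hrange ▸ inf_le_left
  rw [e1, e2, card_preimageAlong hker hQS hN₁, card_preimageAlong hker hQS hN]
  exact Nat.mul_le_mul_left _ hcard

end Corr

section Realize

variable [Finite S] {p : ℕ} [Fact p.Prime] {F : FusionSystem S} {Q : Subgroup Ω} {θ : S →* Ω'}
  {E : FusionSystem S'}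

omit [Finite ↥S] [Fact (Nat.Prime p)] in
/-- In a group realizing `N ⊆ F` in which the image of `P ≥ Q` is normal, the image of a strongly
closed `Q` is normal. -/
theorem normal_map_of_stronglyClosed (hQ : F.StronglyClosed Q) {T P : Subgroup Ω}
    (N : FusionSystem T) (hNF : ∀ A : Subgroup Ω, N.Hom A ⊆ F.Hom A) (hQP : Q ≤ P) (hPT : P ≤ T)
    {L : Type*} [Group L] (ι : T →* L) (hreal : N.IsRealizedBy ι)
    (hPnorm : ∀ (g : L) (x : Ω) (_ : x ∈ P) (hxT : x ∈ T), g * ι ⟨x, hxT⟩ * g⁻¹ ∈ ι.range) :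
    ((Q.subgroupOf T).map ι).Normal := by
  have hQT : Q ≤ T := hQP.trans hPT
  constructor
  rintro _ ⟨⟨q, hqT⟩, hq, rfl⟩ g
  have hqQ : q ∈ Q := Subgroup.mem_subgroupOf.1 hq
  obtain ⟨φ, hφT, hφN, hφ⟩ := IsRealizedBy.exists_mem_of_conj hreal hQT g
    (fun x => hPnorm g x (hQP x.2) (hQT x.2))
  have hφF : φ ∈ F.Hom Q := hNF Q hφN
  have h1 : φ ⟨q, hqQ⟩ ∈ Q := hQ.2 Q le_rfl φ hφF ⟨q, hqQ⟩
  have h2 := hφ ⟨q, hqQ⟩
  show g * ι ⟨q, hqT⟩ * g⁻¹ ∈ (Q.subgroupOf T).map ι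
  rw [← h2]
  exact ⟨⟨φ ⟨q, hqQ⟩, hφT _⟩, Subgroup.mem_subgroupOf.2 h1, rfl⟩

omit [Fact (Nat.Prime p)] in
/-- The embedding of `N_{S'}(P')` into the quotient `L / ι(Q)`. -/
theorem exists_quotient_hom (hker : ∀ s : S, θ s = 1 ↔ (s : Ω) ∈ Q) (hrange : θ.range = S')
    {P' : Subgroup Ω'} (hP'S : P' ≤ S')
    {L : Type*} [Group L] (ι : ↥(normalizerIn S (preimageAlong θ P')) →* L)
    [hHn : ((Q.subgroupOf (normalizerIn S (preimageAlong θ P'))).map ι).Normal] :
    ∃ ι₀ : ↥(normalizerIn S' P') →*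
        L ⧸ (Q.subgroupOf (normalizerIn S (preimageAlong θ P'))).map ι,
      ∀ (t : Ω) (ht : t ∈ normalizerIn S (preimageAlong θ P'))
        (ht' : extOn θ t ∈ normalizerIn S' P'),
        ι₀ ⟨extOn θ t, ht'⟩ = QuotientGroup.mk (ι ⟨t, ht⟩) := by
  have hTeq := normalizerIn_preimageAlong (θ := θ) hrange hP'S
  have hTS : normalizerIn S (preimageAlong θ P') ≤ S := inf_le_left
  have hmem : ∀ t : ↥(normalizerIn S (preimageAlong θ P')),
      θ (Subgroup.inclusion hTS t) ∈ normalizerIn S' P' := by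
    intro t
    have h1 : (t : Ω) ∈ preimageAlong θ (normalizerIn S' P') := hTeq ▸ t.2
    have h2 := ((mem_preimageAlong θ _ _).1 h1).2
    rw [extOn_apply θ (hTS t.2)] at h2
    exact h2
  let θT : ↥(normalizerIn S (preimageAlong θ P')) →* ↥(normalizerIn S' P') :=
    (θ.comp (Subgroup.inclusion hTS)).codRestrict _ hmem
  have hθT : ∀ (t : Ω) (ht : t ∈ normalizerIn S (preimageAlong θ P')),
      ((θT ⟨t, ht⟩ : ↥(normalizerIn S' P')) : Ω') = extOn θ t := by
    intro t ht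
    rw [extOn_apply θ (hTS ht)]
    rfl
  have hsurj : Function.Surjective θT := by
    rintro ⟨y', hy'⟩
    have hy'S : y' ∈ θ.range := hrange ▸ (Subgroup.mem_inf.1 hy').1
    obtain ⟨s, rfl⟩ := hy'S
    have hsT : (s : Ω) ∈ normalizerIn S (preimageAlong θ P') := by
      rw [hTeq, mem_preimageAlong]
      refine ⟨s.2, ?_⟩
      rw [extOn_coe]
      exact hy'
    exact ⟨⟨s, hsT⟩, Subtype.ext rfl⟩
  let f : ↥(normalizerIn S (preimageAlong θ P')) →*
      L ⧸ (Q.subgroupOf (normalizerIn S (preimageAlong θ P'))).map ι :=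
    (QuotientGroup.mk' _).comp ι
  have hkerle : θT.ker ≤ f.ker := by
    intro t ht
    rw [MonoidHom.mem_ker] at ht ⊢
    have h1 : θ (Subgroup.inclusion hTS t) = 1 := congrArg Subtype.val ht
    have h2 : (t : Ω) ∈ Q := (hker _).1 h1
    show (QuotientGroup.mk (ι t) :
      L ⧸ (Q.subgroupOf (normalizerIn S (preimageAlong θ P'))).map ι) = 1
    rw [QuotientGroup.eq_one_iff]
    exact ⟨t, Subgroup.mem_subgroupOf.2 h2, rfl⟩
  refine ⟨θT.liftOfRightInverse (Function.surjInv hsurj) (Function.rightInverse_surjInv hsurj)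
    ⟨f, hkerle⟩, fun t ht ht' => ?_⟩
  have h1 := MonoidHom.liftOfRightInverse_comp_apply θT _ (Function.rightInverse_surjInv hsurj)
    ⟨f, hkerle⟩ ⟨t, ht⟩
  have h2 : (⟨extOn θ t, ht'⟩ : ↥(normalizerIn S' P')) = θT ⟨t, ht⟩ := Subtype.ext (hθT t ht).symm
  rw [h2, h1]
  rfl

end Realize

section Realize2

variable [Finite S] {p : ℕ} [Fact p.Prime] {F : FusionSystem S} {Q : Subgroup Ω} {θ : S →* Ω'}
  {E : FusionSystem S'}

/-- **The quotient `L / ι(Q)` of a group realizing `N_F(P)` realizes `N_{F/Q}(P/Q)`.** -/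
theorem isRealizedBy_quotient (hS : IsPGroup p S) (hF : F.IsSaturated p) (hQ : F.StronglyClosed Q)
    (hE : F.IsFactorSystem Q θ E) {P' : Subgroup Ω'} (hP'S : P' ≤ S')
    (N : FusionSystem (normalizerIn S (preimageAlong θ P')))
    (hN : F.IsNormalizerSystem (preimageAlong θ P') N)
    (N' : FusionSystem (normalizerIn S' P')) (hN' : E.IsNormalizerSystem P' N')
    {L : Type*} [Group L] (ι : ↥(normalizerIn S (preimageAlong θ P')) →* L)
    (hreal : N.IsRealizedBy ι)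
    (hPnorm : ∀ (g : L) (x : Ω) (_ : x ∈ preimageAlong θ P')
      (hxT : x ∈ normalizerIn S (preimageAlong θ P')),
      ∃ (x' : Ω) (_ : x' ∈ preimageAlong θ P') (hx'T : x' ∈ normalizerIn S (preimageAlong θ P')),
        ι ⟨x', hx'T⟩ = g * ι ⟨x, hxT⟩ * g⁻¹)
    [hHn : ((Q.subgroupOf (normalizerIn S (preimageAlong θ P'))).map ι).Normal]
    (ι₀ : ↥(normalizerIn S' P') →*
      L ⧸ (Q.subgroupOf (normalizerIn S (preimageAlong θ P'))).map ι)
    (hι₀ : ∀ (t : Ω) (ht : t ∈ normalizerIn S (preimageAlong θ P'))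
      (ht' : extOn θ t ∈ normalizerIn S' P'),
      ι₀ ⟨extOn θ t, ht'⟩ = QuotientGroup.mk (ι ⟨t, ht⟩)) :
    N'.IsRealizedBy ι₀ := by
  obtain ⟨hQS, hker, hrange, hEhom⟩ := id hE
  have hfinS' : Finite S' := by
    rw [← hrange]
    exact Finite.of_surjective θ.rangeRestrict θ.rangeRestrict_surjective
  have hPS : preimageAlong θ P' ≤ S := preimageAlong_le θ P'
  have hTS : normalizerIn S (preimageAlong θ P') ≤ S := inf_le_left
  have hPT : preimageAlong θ P' ≤ normalizerIn S (preimageAlong θ P') := le_normalizerIn_self hPS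
  have hQP : Q ≤ preimageAlong θ P' := le_preimageAlong hker hQS P'
  have hQT : Q ≤ normalizerIn S (preimageAlong θ P') := hQP.trans hPT
  have hTeq : normalizerIn S (preimageAlong θ P') = preimageAlong θ (normalizerIn S' P') :=
    normalizerIn_preimageAlong hrange hP'S
  have hP'T' : P' ≤ normalizerIn S' P' := le_normalizerIn_self hP'S
  have hT'S' : normalizerIn S' P' ≤ S' := inf_le_left
  have hT'r : normalizerIn S' P' ≤ θ.range := hrange ▸ hT'S'
  have hι := hreal.1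
  have hfinP' : Finite P' := Helper84_FusionRS.finite_of_le_S hP'S
  have hfinP : Finite (preimageAlong θ P' : Subgroup Ω) := Helper84_FusionRS.finite_of_le_S hPS
  have hθT : ∀ t ∈ normalizerIn S (preimageAlong θ P'), extOn θ t ∈ normalizerIn S' P' :=
    fun t ht => ((mem_preimageAlong θ _ t).1 (hTeq ▸ ht)).2
  have hsurjT : ∀ y' ∈ normalizerIn S' P',
      ∃ t, t ∈ normalizerIn S (preimageAlong θ P') ∧ extOn θ t = y' := by
    intro y' hy'
    obtain ⟨t, htS, rfl⟩ := exists_extOn_eq_of_mem_range (hT'r hy')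
    exact ⟨t, hTeq ▸ (mem_preimageAlong θ _ t).2 ⟨htS, hy'⟩, rfl⟩
  have key1 : ∀ (t : Ω) (ht : t ∈ normalizerIn S (preimageAlong θ P')),
      ι₀ ⟨extOn θ t, hθT t ht⟩ = QuotientGroup.mk (ι ⟨t, ht⟩) := fun t ht => hι₀ t ht _
  -- injectivity
  have hι₀inj : Function.Injective ι₀ := by
    intro a b hab
    obtain ⟨ta, htaT, hta⟩ := hsurjT a a.2
    obtain ⟨tb, htbT, htb⟩ := hsurjT b b.2
    have ha : a = ⟨extOn θ ta, hθT ta htaT⟩ := Subtype.ext hta.symm
    have hb : b = ⟨extOn θ tb, hθT tb htbT⟩ := Subtype.ext htb.symm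
    rw [ha, hb, key1 ta htaT, key1 tb htbT] at hab
    have h1 := QuotientGroup.eq.1 hab
    obtain ⟨q, hq, hq'⟩ := h1
    have h2 : q = (⟨ta, htaT⟩ : ↥(normalizerIn S (preimageAlong θ P')))⁻¹ * ⟨tb, htbT⟩ := by
      apply hι
      rw [hq', map_mul, map_inv]
    have h3 : ta⁻¹ * tb ∈ Q := by
      have := Subgroup.mem_subgroupOf.1 hq
      rw [h2] at this
      exact this
    rw [ha, hb]
    apply Subtype.ext
    exact (extOn_eq_iff hker (hTS htaT) (hTS htbT)).2 h3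
  refine ⟨hι₀inj, fun A' hA' ψ' hψ' => ?_⟩
  have hD'T' : A' ⊔ P' ≤ normalizerIn S' P' := sup_le hA' hP'T'
  have hD'S' : A' ⊔ P' ≤ S' := hD'T'.trans hT'S'
  have hBT : preimageAlong θ (A' ⊔ P') ≤ normalizerIn S (preimageAlong θ P') :=
    hTeq ▸ preimageAlong_mono θ hD'T'
  have hPB : preimageAlong θ P' ≤ preimageAlong θ (A' ⊔ P') := preimageAlong_mono θ le_sup_right
  have hA₀B : preimageAlong θ A' ≤ preimageAlong θ (A' ⊔ P') := preimageAlong_mono θ le_sup_left
  have hB' : ∀ x : ↥(preimageAlong θ (A' ⊔ P')), extOn θ (x : Ω) ∈ A' ⊔ P' :=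
    fun x => ((mem_preimageAlong θ _ _).1 x.2).2
  constructor
  · intro hψ'N
    rw [hN'] at hψ'N
    obtain ⟨hψ'E, -, -, ψ₁', hψ₁'E, hext', himg'⟩ := hψ'N
    rw [hEhom] at hψ₁'E
    obtain ⟨-, ψ₁, hψ₁F, hind⟩ := hψ₁'E
    obtain ⟨hBS, hψ₁S, hψ₁ind⟩ := extOn_of_inducedAlong hind
    have hψ₁'T' : ∀ y : ↥(A' ⊔ P'), ψ₁' y ∈ normalizerIn S' P' := by
      have hr : ψ₁'.range ≤ normalizerIn S' P' := by
        rw [range_eq_sup_map]
        refine sup_le ?_ ?_
        · rw [map_subgroupOf_eq_range_of_ext le_sup_left ψ' ψ₁' hext']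
          rintro _ ⟨x, rfl⟩
          exact hψ' x
        · rw [himg']
          exact hP'T'
      intro y
      exact hr ⟨y, rfl⟩
    have hψ₁T : ∀ x : ↥(preimageAlong θ (A' ⊔ P')),
        ψ₁ x ∈ normalizerIn S (preimageAlong θ P') := by
      intro x
      rw [hTeq, mem_preimageAlong]
      refine ⟨hψ₁S x, ?_⟩
      rw [← hψ₁ind x (hB' x)]
      exact hψ₁'T' _
    have hψ₁P : ∀ (x : Ω) (hx : x ∈ preimageAlong θ P'),
        ψ₁ ⟨x, hPB hx⟩ ∈ preimageAlong θ P' := by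
      intro x hx
      rw [mem_preimageAlong]
      refine ⟨hψ₁S _, ?_⟩
      rw [← hψ₁ind ⟨x, hPB hx⟩ (hB' _)]
      exact apply_mem_of_map_eq ψ₁' himg' _ ((mem_preimageAlong θ P' x).1 hx).2 _
    have hψ₁N : ψ₁ ∈ N.Hom (preimageAlong θ (A' ⊔ P')) := by
      rw [hN]
      refine ⟨hψ₁F, hBT, hψ₁T, ?_⟩
      have hle : preimageAlong θ (A' ⊔ P') ⊔ preimageAlong θ P' ≤ preimageAlong θ (A' ⊔ P') :=
        sup_le le_rfl hPB
      refine ⟨ψ₁.comp (Subgroup.inclusion hle), restrict_mem F hle hψ₁F, fun x => ?_, ?_⟩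
      · show ψ₁ _ = ψ₁ x
        congr 1
      · rw [map_subgroupOf_comp_inclusion hle le_sup_right ψ₁]
        have hle2 : ((preimageAlong θ P').subgroupOf (preimageAlong θ (A' ⊔ P'))).map ψ₁ ≤
            preimageAlong θ P' := by
          rintro _ ⟨x, hx, rfl⟩
          exact hψ₁P x (Subgroup.mem_subgroupOf.1 hx)
        refine Subgroup.eq_of_le_of_card_ge hle2 ?_
        rw [Subgroup.card_map_of_injective (F.injective_of_mem hψ₁F)]
        exact le_of_eq (Nat.card_congr (Subgroup.subgroupOfEquivOfLe hPB).toEquiv).symm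
    obtain ⟨g, hg⟩ := IsRealizedBy.exists_conj_of_mem hreal hψ₁N
    refine ⟨QuotientGroup.mk g, fun x' => ?_⟩
    obtain ⟨x, hxS, hx⟩ := exists_extOn_eq_of_mem_range (hT'r (hA' x'.2))
    have hxB : x ∈ preimageAlong θ (A' ⊔ P') :=
      (mem_preimageAlong θ _ x).2 ⟨hxS, hx ▸ (le_sup_left : A' ≤ A' ⊔ P') x'.2⟩
    have hxT := hBT hxB
    have e1 : (⟨(x' : Ω'), hA' x'.2⟩ : ↥(normalizerIn S' P')) = ⟨extOn θ x, hθT x hxT⟩ :=
      Subtype.ext hx.symm
    have e2 : ψ' x' = extOn θ (ψ₁ ⟨x, hxB⟩) := by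
      rw [← hext' x', ← hψ₁ind ⟨x, hxB⟩ (hB' _)]
      congr 1
      exact Subtype.ext hx.symm
    have e3 : (⟨ψ' x', hψ' x'⟩ : ↥(normalizerIn S' P')) =
        ⟨extOn θ (ψ₁ ⟨x, hxB⟩), hθT _ (hψ₁T _)⟩ := Subtype.ext e2
    rw [e1, e3, key1 x hxT, key1 _ (hψ₁T ⟨x, hxB⟩), hg ⟨x, hxB⟩]
    rfl
  · rintro ⟨γ, hγ⟩
    obtain ⟨g, rfl⟩ := QuotientGroup.mk_surjective γ
    -- conjugation by `g` keeps `ι(B)` inside `ι(T)`
    have hWrange : ∀ x : ↥(preimageAlong θ (A' ⊔ P')), g * ι ⟨x, hBT x.2⟩ * g⁻¹ ∈ ι.range := by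
      let W : Subgroup Ω := ((ι.range.comap (MulAut.conj g).toMonoidHom).comap ι).map
        (normalizerIn S (preimageAlong θ P')).subtype
      have hW_mem : ∀ (x : Ω) (hx : x ∈ normalizerIn S (preimageAlong θ P')),
          x ∈ W ↔ g * ι ⟨x, hx⟩ * g⁻¹ ∈ ι.range := by
        intro x hx
        constructor
        · rintro ⟨y, hy, hyx⟩
          have : y = ⟨x, hx⟩ := Subtype.ext hyx
          rw [← this]
          exact hy
        · intro h
          exact ⟨⟨x, hx⟩, h, rfl⟩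
      have hWS : W ≤ S := by
        rintro _ ⟨y, -, rfl⟩
        exact hTS y.2
      have hA₀W : preimageAlong θ A' ≤ W := by
        intro x hx
        obtain ⟨hxS, hx'⟩ := (mem_preimageAlong θ A' x).1 hx
        have hxT := hBT (hA₀B hx)
        rw [hW_mem x hxT]
        have h1 := hγ ⟨extOn θ x, hx'⟩
        obtain ⟨t, htT, ht⟩ := hsurjT (ψ' ⟨extOn θ x, hx'⟩) (hψ' _)
        have e1 : (⟨ψ' ⟨extOn θ x, hx'⟩, hψ' _⟩ : ↥(normalizerIn S' P')) =
            ⟨extOn θ t, hθT t htT⟩ := Subtype.ext ht.symm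
        have e2 : (⟨((⟨extOn θ x, hx'⟩ : A') : Ω'), hA' hx'⟩ : ↥(normalizerIn S' P')) =
            ⟨extOn θ x, hθT x hxT⟩ := rfl
        rw [e1, e2, key1 t htT, key1 x hxT] at h1
        have h2 : (QuotientGroup.mk (ι ⟨t, htT⟩) :
            L ⧸ (Q.subgroupOf (normalizerIn S (preimageAlong θ P'))).map ι) =
            QuotientGroup.mk (g * ι ⟨x, hxT⟩ * g⁻¹) := h1
        obtain ⟨q, -, hq⟩ := QuotientGroup.eq.1 h2
        refine ⟨⟨t, htT⟩ * q, ?_⟩
        rw [map_mul, hq]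
        group
      have hPW : preimageAlong θ P' ≤ W := by
        intro x hx
        rw [hW_mem x (hPT hx)]
        obtain ⟨x', -, hx'T, h⟩ := hPnorm g x hx (hPT hx)
        exact ⟨_, h⟩
      have hsup : A' ⊔ P' ≤ imageAlong θ W := by
        refine sup_le ?_ ?_
        · intro y' hy'
          obtain ⟨x, hxS, rfl⟩ := exists_extOn_eq_of_mem_range (hT'r (hA' hy'))
          exact extOn_mem_imageAlong θ hWS (hA₀W ((mem_preimageAlong θ A' x).2 ⟨hxS, hy'⟩))
        · intro y' hy'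
          obtain ⟨x, hxS, rfl⟩ := exists_extOn_eq_of_mem_range (hT'r (hP'T' hy'))
          exact extOn_mem_imageAlong θ hWS (hPW ((mem_preimageAlong θ P' x).2 ⟨hxS, hy'⟩))
      have hBW : preimageAlong θ (A' ⊔ P') ≤ W := by
        intro b hb
        obtain ⟨hbS, hb'⟩ := (mem_preimageAlong θ _ b).1 hb
        obtain ⟨w, hwS, hwW, hwb⟩ := (mem_imageAlong θ W _).1 (hsup hb')
        have h1 : w⁻¹ * b ∈ Q := (extOn_eq_iff hker hwS hbS).1 hwb
        have h2 : b = w * (w⁻¹ * b) := by group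
        rw [h2]
        exact mul_mem hwW (hPW (hQP h1))
      intro x
      exact (hW_mem x (hBT x.2)).1 (hBW x.2)
    obtain ⟨ψ₁, hψ₁T, hψ₁N, hψ₁⟩ := IsRealizedBy.exists_mem_of_conj hreal hBT g hWrange
    have hψ₁F : ψ₁ ∈ F.Hom (preimageAlong θ (A' ⊔ P')) := by
      rw [hN] at hψ₁N
      exact hψ₁N.1
    obtain ⟨ψ₁', hψ₁'E, hψ₁'⟩ := exists_induced_hom F hS hF hQ hE hψ₁F
    have himB : imageAlong θ (preimageAlong θ (A' ⊔ P')) = A' ⊔ P' :=
      imageAlong_preimageAlong_of_le θ (hrange ▸ hD'S')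
    have hψ₂E : ψ₁'.comp (Subgroup.inclusion himB.symm.le) ∈ E.Hom (A' ⊔ P') :=
      cast_mem E himB.symm hψ₁'E
    set ψ₂ : ↥(A' ⊔ P') →* Ω' := ψ₁'.comp (Subgroup.inclusion himB.symm.le) with hψ₂def
    have hψ₂ : ∀ (x : Ω) (hx : x ∈ preimageAlong θ (A' ⊔ P')) (hx' : extOn θ x ∈ A' ⊔ P'),
        ψ₂ ⟨extOn θ x, hx'⟩ = extOn θ (ψ₁ ⟨x, hx⟩) := fun x hx hx' => hψ₁' ⟨x, hx⟩ _
    -- `ψ₁` maps `P` into `P`
    have hψ₁P : ∀ (x : Ω) (hx : x ∈ preimageAlong θ P'),
        ψ₁ ⟨x, hPB hx⟩ ∈ preimageAlong θ P' := by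
      intro x hx
      obtain ⟨x', hx'P, hx'T, h⟩ := hPnorm g x hx (hPT hx)
      have h1 : ι ⟨ψ₁ ⟨x, hPB hx⟩, hψ₁T _⟩ = ι ⟨x', hx'T⟩ := by
        rw [hψ₁, h]
      have h2 := congrArg Subtype.val (hι h1)
      simp only at h2
      rw [h2]
      exact hx'P
    have hext : ∀ x' : A', ψ₂ (Subgroup.inclusion le_sup_left x') = ψ' x' := by
      intro x'
      obtain ⟨x, hxS, hx⟩ := exists_extOn_eq_of_mem_range (hT'r (hA' x'.2))
      have hxA₀ : x ∈ preimageAlong θ A' := (mem_preimageAlong θ A' x).2 ⟨hxS, hx ▸ x'.2⟩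
      have hxB := hA₀B hxA₀
      have hxT := hBT hxB
      have e0 : Subgroup.inclusion (le_sup_left : A' ≤ A' ⊔ P') x' =
          ⟨extOn θ x, hB' ⟨x, hxB⟩⟩ := Subtype.ext hx.symm
      rw [e0, hψ₂ x hxB]
      have h1 := hγ x'
      have e1 : (⟨(x' : Ω'), hA' x'.2⟩ : ↥(normalizerIn S' P')) = ⟨extOn θ x, hθT x hxT⟩ :=
        Subtype.ext hx.symm
      rw [e1, key1 x hxT] at h1
      have h2 : ι₀ ⟨extOn θ (ψ₁ ⟨x, hxB⟩), hθT _ (hψ₁T _)⟩ = ι₀ ⟨ψ' x', hψ' x'⟩ := by
        rw [key1 _ (hψ₁T ⟨x, hxB⟩), h1, hψ₁ ⟨x, hxB⟩]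
        rfl
      exact congrArg Subtype.val (hι₀inj h2)
    have himg : (P'.subgroupOf (A' ⊔ P')).map ψ₂ = P' := by
      have hle2 : (P'.subgroupOf (A' ⊔ P')).map ψ₂ ≤ P' := by
        rintro _ ⟨y, hy, rfl⟩
        have hyP' : (y : Ω') ∈ P' := Subgroup.mem_subgroupOf.1 hy
        obtain ⟨x, hxS, hx⟩ := exists_extOn_eq_of_mem_range (hT'r (hP'T' hyP'))
        have hxP : x ∈ preimageAlong θ P' := (mem_preimageAlong θ P' x).2 ⟨hxS, hx ▸ hyP'⟩
        have e0 : y = ⟨extOn θ x, hB' ⟨x, hPB hxP⟩⟩ := Subtype.ext hx.symm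
        rw [e0, hψ₂ x (hPB hxP)]
        exact ((mem_preimageAlong θ P' _).1 (hψ₁P x hxP)).2
      refine Subgroup.eq_of_le_of_card_ge hle2 ?_
      rw [Subgroup.card_map_of_injective (E.injective_of_mem hψ₂E)]
      exact le_of_eq (Nat.card_congr
        (Subgroup.subgroupOfEquivOfLe (le_sup_right : P' ≤ A' ⊔ P')).toEquiv).symm
    rw [hN']
    exact ⟨mem_of_eq E (restrict_mem E le_sup_left hψ₂E) (fun x => (hext x).symm), hA', hψ',
      ψ₂, hψ₂E, hext, himg⟩

end Realize2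

section Main

universe u v

open Cfsg.Agent.Lib.Helper76_PSolvable in
/-- **The factor system of an `H`-free saturated system by a normal subgroup is `H`-free.** -/
theorem isSectionFree_factorSystem {Ω : Type u} [Group Ω] {S : Subgroup Ω} [Finite S] {p : ℕ}
    [Fact p.Prime] (hS : IsPGroup p S) (F : FusionSystem S) (hF : F.IsSaturated p)
    (Q : Subgroup Ω) (hQn : F.IsNormal Q) (H : Type*) [Group H] (hfree : F.IsSectionFree p H)
    {Ω' : Type v} [Group Ω'] {S' : Subgroup Ω'} (θ : ↥S →* Ω') (E : FusionSystem S')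
    (hE : F.IsFactorSystem Q θ E) : E.IsSectionFree p H := by
  intro P' hP'fn hP'c N' hN' L' _ ι' hM'
  have hQsc : F.StronglyClosed Q := Helper84_FusionNormal.IsNormal.stronglyClosed hQn
  obtain ⟨hQS, hker, hrange, hEhom⟩ := id hE
  have hP'S : P' ≤ S' := hP'fn.1
  have hPfn : F.IsFullyNormalized (preimageAlong θ P') :=
    isFullyNormalized_preimageAlong hS hF hQsc hE hP'fn
  have hPc : F.IsCentric (preimageAlong θ P') := isCentric_preimageAlong hS hF hQsc hE hP'c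
  have hPS : preimageAlong θ P' ≤ S := hPfn.1
  have hQP : Q ≤ preimageAlong θ P' := le_preimageAlong hker hQS P'
  have hPT : preimageAlong θ P' ≤ normalizerIn S (preimageAlong θ P') := le_normalizerIn_self hPS
  obtain ⟨N, hN⟩ := Cfsg.Agent.S5096.result F (preimageAlong θ P') hPS
  have hTS : normalizerIn S (preimageAlong θ P') ≤ S := inf_le_left
  have hfinT : Finite ↥(normalizerIn S (preimageAlong θ P')) := Helper84_FusionRS.finite_of_le_S hTS
  have hTp : IsPGroup p ↥(normalizerIn S (preimageAlong θ P')) := hS.to_le hTS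
  have hsat : N.IsSaturated p := Cfsg.Agent.S5098.result p hS F hF _ hPfn N hN
  have hPn : N.IsNormal (preimageAlong θ P') := isNormal_of_isNormalizerSystem F hPS N hN
  have hPcN : N.IsCentric (preimageAlong θ P') := isCentric_of_isNormalizerSystem F hPc N hN
  have hcon : N.IsConstrained p := ⟨hsat, _, hPn, hPcN⟩
  obtain ⟨L, _, ι, hM⟩ := Cfsg.Agent.S5090.result p hTp N hcon
  have hfreeL : ¬ Involves H L := hfree _ hPfn hPc N hN L ι hM
  have hPnorm : ∀ (g : L) (x : Ω) (_ : x ∈ preimageAlong θ P')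
      (hxT : x ∈ normalizerIn S (preimageAlong θ P')),
      ∃ (x' : Ω) (_ : x' ∈ preimageAlong θ P') (hx'T : x' ∈ normalizerIn S (preimageAlong θ P')),
        ι ⟨x', hx'T⟩ = g * ι ⟨x, hxT⟩ * g⁻¹ := by
    intro g x hx hxT
    obtain ⟨q', hq'⟩ :=
      Helper84_ModelUnique.model_conj_mem ⟨hTp, hsat, hPn, hPcN⟩ hM g ⟨x, hx⟩
    exact ⟨q', q'.2, _, hq'⟩
  obtain ⟨hfinL, hreal, ⟨T₀, hT₀⟩, -⟩ := hM
  have hNF : ∀ A : Subgroup Ω, N.Hom A ⊆ F.Hom A := by
    intro A φ hφ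
    rw [hN] at hφ
    exact hφ.1
  have hHn : ((Q.subgroupOf (normalizerIn S (preimageAlong θ P'))).map ι).Normal :=
    normal_map_of_stronglyClosed hQsc N hNF hQP hPT ι hreal (fun g x hx hxT => by
      obtain ⟨x', -, hx'T, h⟩ := hPnorm g x hx hxT
      exact ⟨_, h⟩)
  obtain ⟨ι₀, hι₀⟩ := exists_quotient_hom hker hrange hP'S ι
  have hreal₀ : N'.IsRealizedBy ι₀ :=
    isRealizedBy_quotient hS hF hQsc hE hP'S N hN N' hN' ι hreal hPnorm ι₀ hι₀
  have hTeq : normalizerIn S (preimageAlong θ P') = preimageAlong θ (normalizerIn S' P') :=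
    normalizerIn_preimageAlong hrange hP'S
  have hT'S' : normalizerIn S' P' ≤ S' := inf_le_left
  have hT'r : normalizerIn S' P' ≤ θ.range := hrange ▸ hT'S'
  have hP'T' : P' ≤ normalizerIn S' P' := le_normalizerIn_self hP'S
  have hθT : ∀ t ∈ normalizerIn S (preimageAlong θ P'), extOn θ t ∈ normalizerIn S' P' :=
    fun t ht => ((mem_preimageAlong θ _ t).1 (hTeq ▸ ht)).2
  have hsurjT : ∀ y' ∈ normalizerIn S' P',
      ∃ t, t ∈ normalizerIn S (preimageAlong θ P') ∧ extOn θ t = y' := by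
    intro y' hy'
    obtain ⟨t, htS, rfl⟩ := exists_extOn_eq_of_mem_range (hT'r hy')
    exact ⟨t, hTeq ▸ (mem_preimageAlong θ _ t).2 ⟨htS, hy'⟩, rfl⟩
  -- Sylow
  have hSyl₀ : ∃ T₁ : Sylow p
      (L ⧸ (Q.subgroupOf (normalizerIn S (preimageAlong θ P'))).map ι),
      (T₁ : Subgroup _) = ι₀.range := by
    refine ⟨Sylow.mapSurjective (QuotientGroup.mk'_surjective _) T₀, ?_⟩
    rw [Sylow.coe_mapSurjective, hT₀]
    ext y
    constructor
    · rintro ⟨_, ⟨t, rfl⟩, rfl⟩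
      exact ⟨⟨extOn θ (t : Ω), hθT t t.2⟩, hι₀ t t.2 _⟩
    · rintro ⟨y', rfl⟩
      obtain ⟨t, htT, ht⟩ := hsurjT y' y'.2
      refine ⟨ι ⟨t, htT⟩, ⟨_, rfl⟩, ?_⟩
      have e : y' = ⟨extOn θ t, hθT t htT⟩ := Subtype.ext ht.symm
      rw [e, hι₀ t htT]
      rfl
  -- the image of `P'` is normal
  have hP'n₀ : ((P'.subgroupOf (normalizerIn S' P')).map ι₀).Normal := by
    constructor
    rintro _ ⟨y', hy', rfl⟩ γ
    obtain ⟨g, rfl⟩ := QuotientGroup.mk_surjective γ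
    have hy'P : (y' : Ω') ∈ P' := Subgroup.mem_subgroupOf.1 hy'
    obtain ⟨x, hxS, hx⟩ := exists_extOn_eq_of_mem_range (hT'r y'.2)
    have hxP : x ∈ preimageAlong θ P' := (mem_preimageAlong θ P' x).2 ⟨hxS, hx ▸ hy'P⟩
    obtain ⟨x', hx'P, hx'T, h⟩ := hPnorm g x hxP (hPT hxP)
    have e : y' = ⟨extOn θ x, hθT x (hPT hxP)⟩ := Subtype.ext hx.symm
    refine ⟨⟨extOn θ x', hθT x' hx'T⟩, Subgroup.mem_subgroupOf.2
      ((mem_preimageAlong θ P' x').1 hx'P).2, ?_⟩
    rw [e, hι₀ x' hx'T, hι₀ x (hPT hxP), h]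
    rfl
  have hP'cen : centralizerIn (normalizerIn S' P') P' ≤ P' := by
    intro c hc
    exact hP'c.2 P' (isConj_refl E hP'S)
      (Subgroup.mem_inf.2 ⟨(Subgroup.mem_inf.1 (Subgroup.mem_inf.1 hc).1).1, (Subgroup.mem_inf.1 hc).2⟩)
  have hMod := Helper88_QuotModel.isModel_quotient_of_normal_centric N' ι₀ hreal₀ hSyl₀ hP'T'
    hP'n₀ hP'cen
  -- uniqueness of models
  have hfinS' : Finite S' := by
    rw [← hrange]
    exact Finite.of_surjective θ.rangeRestrict θ.rangeRestrict_surjective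
  have hS'p : IsPGroup p S' := by
    rw [← hrange]
    exact hS.of_surjective θ.rangeRestrict θ.rangeRestrict_surjective
  have hfinT' : Finite ↥(normalizerIn S' P') := Helper84_FusionRS.finite_of_le_S hT'S'
  have hT'p : IsPGroup p ↥(normalizerIn S' P') := hS'p.to_le hT'S'
  have hcon' : N'.IsConstrained p := Cfsg.Agent.S5103.result p hT'p N' _ hMod
  obtain ⟨e, -⟩ := Cfsg.Agent.S5091.result p hT'p N' hcon' ι' _ hM' hMod
  intro hinv
  have h1 := Cfsg.Agent.S5299.involves_of_injective e.toMonoidHom e.injective hinv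
  have h2 := Helper88_QuotModel.involves_of_surjective (QuotientGroup.mk' _)
    (QuotientGroup.mk'_surjective _) h1
  have h3 := Helper88_QuotModel.involves_of_surjective (QuotientGroup.mk' _)
    (QuotientGroup.mk'_surjective _) h2
  exact hfreeL h3

end Main

end Cfsg.Agent.Lib.Helper88_FactorFree
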