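import Cfsg.Agent.Lib.Helper87_PInner
import Cfsg.Agent.Lib.Helper84_FusionSat

/-!
Transport of maps of a normalizer system `N_F(W₁)` along a map of `F` defined on `N_S(W₁)` (helper87): if `W₂` is
a fully automized receptive conjugate of `W₁` and `N_F(W₁)` is not `p`-inner, then `N_F(W₂)` is not `p`-inner.
-/

set_option autoImplicit false
set_option linter.style.haveILetI false

universe u

namespace Cfsg.Agent.Lib.Helper87_GTTransport

open Cfsg Cfsg.FusionSystem Cfsg.Agent.Lib.Helper87_Alperin Cfsg.Agent.Lib.Helper87_Alperin2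
  Cfsg.Agent.Lib.Helper87_PInner

variable {Ω : Type u} [Group Ω] {S : Subgroup Ω}

/-- The image of a subgroup `P ≤ N` under a map of the system defined on `N`. -/
def imgSub {F : FusionSystem S} {N : Subgroup Ω} {t : Ω → Ω} (ht : IsMapOn F N t) (P : Subgroup Ω)
    (hP : P ≤ N) : Subgroup Ω where
  carrier := {y | ∃ x ∈ P, t x = y}
  one_mem' := ⟨1, P.one_mem, ht.map_one⟩
  mul_mem' := by
    rintro _ _ ⟨a, ha, rfl⟩ ⟨b, hb, rfl⟩
    exact ⟨a * b, P.mul_mem ha hb, ht.map_mul (hP ha) (hP hb)⟩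
  inv_mem' := by
    rintro _ ⟨a, ha, rfl⟩
    exact ⟨a⁻¹, P.inv_mem ha, ht.map_inv (hP ha)⟩

theorem mem_imgSub {F : FusionSystem S} {N : Subgroup Ω} {t : Ω → Ω} (ht : IsMapOn F N t) (P : Subgroup Ω)
    (hP : P ≤ N) (y : Ω) : y ∈ imgSub ht P hP ↔ ∃ x ∈ P, t x = y := Iff.rfl

theorem imgSub_mono {F : FusionSystem S} {N : Subgroup Ω} {t : Ω → Ω} (ht : IsMapOn F N t)
    {P P' : Subgroup Ω} (hP : P ≤ N) (hP' : P' ≤ N) (h : P ≤ P') : imgSub ht P hP ≤ imgSub ht P' hP' := by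
  rintro _ ⟨x, hx, rfl⟩
  exact ⟨x, h hx, rfl⟩

/-- Transport of a map of `N_F(W₁)` mapping `P` onto itself. -/
theorem isNormMapOn_transport {F : FusionSystem S} {W₁ W₂ : Subgroup Ω} {t : Ω → Ω}
    (ht : IsMapOn F (normalizerIn S W₁) t) (htN : ∀ x ∈ normalizerIn S W₁, t x ∈ normalizerIn S W₂)
    (hW₁ : W₁ ≤ S) (hW : ∀ y, y ∈ W₂ ↔ ∃ x ∈ W₁, t x = y)
    {P : Subgroup Ω} (hP : P ≤ normalizerIn S W₁) {f f' : Ω → Ω} (hf : IsNormMapOn F W₁ P f)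
    (hfP : ∀ x ∈ P, f x ∈ P) (hff' : ∀ x ∈ P, f' (t x) = t (f x)) :
    IsNormMapOn F W₂ (imgSub ht P hP) f' := by
  obtain ⟨hf1, -, -, g, hg1, hg2, hg3⟩ := hf
  have hW₁N : W₁ ≤ normalizerIn S W₁ := le_normalizerIn hW₁
  have hDN : P ⊔ W₁ ≤ normalizerIn S W₁ := sup_le hP hW₁N
  -- inverse of `t` on the image of `P ⊔ W₁`
  obtain ⟨s, hs, hst, hsD, hts⟩ := (ht.mono hDN).inv (Q := imgSub ht (P ⊔ W₁) hDN) (fun y => Iff.rfl)
  have hP'D : imgSub ht P hP ≤ imgSub ht (P ⊔ W₁) hDN := imgSub_mono ht hP hDN le_sup_left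
  have hW₂D : W₂ ≤ imgSub ht (P ⊔ W₁) hDN := by
    intro y hy
    obtain ⟨x, hx, rfl⟩ := (hW y).1 hy
    exact ⟨x, (le_sup_right : W₁ ≤ P ⊔ W₁) hx, rfl⟩
  have hsP : ∀ y ∈ imgSub ht P hP, s y ∈ P := by
    rintro _ ⟨x, hx, rfl⟩
    rw [hst x ((le_sup_left : P ≤ P ⊔ W₁) hx)]
    exact hx
  -- `g` maps `P ⊔ W₁` into itself
  have hgD : ∀ x ∈ P ⊔ W₁, g x ∈ P ⊔ W₁ := by
    let gh : (P ⊔ W₁ : Subgroup Ω) →* Ω :=
      ⟨⟨fun x : (P ⊔ W₁ : Subgroup Ω) => g x, hg1.map_one⟩, fun a b => hg1.map_mul a.2 b.2⟩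
    have hle : P ⊔ W₁ ≤ ((P ⊔ W₁ : Subgroup Ω).comap gh).map (P ⊔ W₁ : Subgroup Ω).subtype := by
      refine sup_le ?_ ?_
      · intro x hx
        refine ⟨⟨x, (le_sup_left : P ≤ P ⊔ W₁) hx⟩, ?_, rfl⟩
        show g x ∈ P ⊔ W₁
        rw [hg2 x hx]
        exact (le_sup_left : P ≤ P ⊔ W₁) (hfP x hx)
      · intro x hx
        refine ⟨⟨x, (le_sup_right : W₁ ≤ P ⊔ W₁) hx⟩, ?_, rfl⟩
        show g x ∈ P ⊔ W₁
        exact (le_sup_right : W₁ ≤ P ⊔ W₁) ((hg3 _).2 ⟨x, hx, rfl⟩)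
    intro x hx
    obtain ⟨z, hz, hzx⟩ := hle hx
    have : (z : Ω) = x := hzx
    rw [← this]
    exact hz
  -- the transported extension
  have hg' : IsMapOn F (imgSub ht (P ⊔ W₁) hDN) (fun y => t (g (s y))) :=
    ((hs.comp hg1 hsD).comp (ht.mono hDN) (fun y hy => hgD _ (hsD y hy)))
  have hf'eq : ∀ y ∈ imgSub ht P hP, f' y = t (f (s y)) := by
    rintro _ ⟨x, hx, rfl⟩
    rw [hff' x hx, hst x ((le_sup_left : P ≤ P ⊔ W₁) hx)]
  refine ⟨?_, ?_, ?_, fun y => t (g (s y)), hg'.mono (sup_le hP'D hW₂D), ?_, ?_⟩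
  · refine (hg'.mono hP'D).congr fun y hy => ?_
    rw [hf'eq y hy]
    show t (g (s y)) = t (f (s y))
    rw [hg2 _ (hsP y hy)]
  · rintro _ ⟨x, hx, rfl⟩
    exact htN x (hP hx)
  · intro y hy
    rw [hf'eq y hy]
    exact htN _ (hP (hfP _ (hsP y hy)))
  · intro y hy
    rw [hf'eq y hy]
    show t (g (s y)) = t (f (s y))
    rw [hg2 _ (hsP y hy)]
  · intro y
    constructor
    · intro hy
      obtain ⟨x, hx, rfl⟩ := (hW y).1 hy
      obtain ⟨x', hx', rfl⟩ := (hg3 x).1 hx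
      refine ⟨t x', (hW _).2 ⟨x', hx', rfl⟩, ?_⟩
      show t (g (s (t x'))) = t (g x')
      rw [hst x' ((le_sup_right : W₁ ≤ P ⊔ W₁) hx')]
    · rintro ⟨z, hz, rfl⟩
      obtain ⟨x, hx, rfl⟩ := (hW z).1 hz
      show t (g (s (t x))) ∈ W₂
      rw [hst x ((le_sup_right : W₁ ≤ P ⊔ W₁) hx)]
      exact (hW _).2 ⟨g x, (hg3 _).2 ⟨x, hx, rfl⟩, rfl⟩

/-- The isomorphism of `P` onto its image. -/
noncomputable def imgEquiv {F : FusionSystem S} {N : Subgroup Ω} {t : Ω → Ω} (ht : IsMapOn F N t)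
    (P : Subgroup Ω) (hP : P ≤ N) : P ≃* imgSub ht P hP :=
  MulEquiv.ofBijective
    (⟨⟨fun x : P => (⟨t x, x, x.2, rfl⟩ : imgSub ht P hP), Subtype.ext ht.map_one⟩,
      fun a b => Subtype.ext (ht.map_mul (hP a.2) (hP b.2))⟩ : P →* imgSub ht P hP)
    ⟨fun a b hab => Subtype.ext (ht.injOn (hP a.2) (hP b.2) (congrArg Subtype.val hab)), by
      rintro ⟨_, x, hx, rfl⟩
      exact ⟨⟨x, hx⟩, rfl⟩⟩

theorem imgEquiv_apply {F : FusionSystem S} {N : Subgroup Ω} {t : Ω → Ω} (ht : IsMapOn F N t)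
    (P : Subgroup Ω) (hP : P ≤ N) (x : P) : ((imgEquiv ht P hP x : imgSub ht P hP) : Ω) = t x := rfl

/-- If `W₂` is a fully automized receptive conjugate of `W₁` and `N_F(W₁)` is not `p`-inner, then `N_F(W₂)` is
not `p`-inner. -/
theorem not_pInnerOn_transport [Finite S] {p : ℕ} [Fact p.Prime] (hS : IsPGroup p S) (F : FusionSystem S)
    {W₁ W₂ : Subgroup Ω} (hW₂a : F.IsFullyAutomized p W₂) (hW₂r : F.IsReceptive W₂)
    (hconj : F.IsConj W₁ W₂) (h : ¬ PInnerOn p (IsNormMapOn F W₁)) :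
    ¬ PInnerOn p (IsNormMapOn F W₂) := by
  intro hPI
  apply h
  intro P α hα hc
  obtain ⟨φ, hφ, hφN, hφW⟩ := Cfsg.Agent.Lib.Helper84_FusionSat.exists_normalizer_map hS F hW₂a hW₂r hconj
  have hW₁S : W₁ ≤ S := Helper85_Fusion.isConj_le_left F hconj
  have ht : IsMapOn F (normalizerIn S W₁) (extHom φ) := isMapOn_extHom F hφ
  have htN : ∀ x ∈ normalizerIn S W₁, extHom φ x ∈ normalizerIn S W₂ := by
    intro x hx
    rw [extHom_apply φ hx]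
    exact hφN _
  have hW : ∀ y, y ∈ W₂ ↔ ∃ x ∈ W₁, extHom φ x = y := by
    intro y
    rw [← hφW]
    constructor
    · rintro ⟨z, hz, rfl⟩
      exact ⟨z, Subgroup.mem_subgroupOf.1 hz, extHom_coe φ z⟩
    · rintro ⟨x, hx, rfl⟩
      refine ⟨⟨x, le_normalizerIn hW₁S hx⟩, Subgroup.mem_subgroupOf.2 hx, ?_⟩
      rw [extHom_apply φ (le_normalizerIn hW₁S hx)]
  have hP : P ≤ normalizerIn S W₁ := hα.2.1
  have hff' : ∀ x ∈ P, extFun (MulAut.congr (imgEquiv ht P hP) α) (extHom φ x) =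
      extHom φ (extFun α x) := by
    intro x hx
    have hx' : extHom φ x ∈ imgSub ht P hP := ⟨x, hx, rfl⟩
    rw [extFun_apply _ hx', extFun_apply α hx]
    have h1 : (⟨extHom φ x, hx'⟩ : imgSub ht P hP) = imgEquiv ht P hP ⟨x, hx⟩ := rfl
    rw [h1]
    show ((imgEquiv ht P hP (α ((imgEquiv ht P hP).symm (imgEquiv ht P hP ⟨x, hx⟩))) :
      imgSub ht P hP) : Ω) = _
    rw [MulEquiv.symm_apply_apply, imgEquiv_apply]
  have h2 := hPI _ (MulAut.congr (imgEquiv ht P hP) α)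
    (isNormMapOn_transport ht htN hW₁S hW hP hα (fun x hx => extFun_mem α hx) hff')
    (by rw [MulEquiv.orderOf_eq]; exact hc)
  rw [← map_one (MulAut.congr (imgEquiv ht P hP))] at h2
  exact (MulAut.congr (imgEquiv ht P hP)).injective h2

end Cfsg.Agent.Lib.Helper87_GTTransport
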