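import Cfsg.Agent.Lib.Helper84_Model

/-!
# The model theorem: construction of the biset (helper84)

For a saturated fusion system `F` over `S` with a normal centric subgroup `Q`, `A = Aut_F(Q)` and
`T = Aut_S(Q)`, the biset is the disjoint union over the double cosets `T a T` of the orbits
`S ×_{(N_a, φ_a)} S`, where `φ_a` is an extension of `a⁻¹` to the largest possible subgroup `N_a` of `S`.
-/

set_option autoImplicit false

namespace Cfsg.Agent.Lib.Helper84_ModelBiset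

open Cfsg Cfsg.FusionSystem Cfsg.Agent.Lib.Helper87_Alperin Cfsg.Agent.Lib.Helper84_ExtBiset
  Cfsg.Agent.Lib.Helper84_Model

universe u

variable {Ω : Type u} [Group Ω] {S : Subgroup Ω}

/-- The hypotheses of the model theorem. -/
structure Setup (p : ℕ) (F : FusionSystem S) (Q : Subgroup Ω) : Prop where
  hS : IsPGroup p S
  hF : F.IsSaturated p
  hQn : F.IsNormal Q
  hQc : F.IsCentric Q

variable {p : ℕ} {F : FusionSystem S} {Q : Subgroup Ω}

namespace Setup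

variable (h : Setup p F Q)

include h in
theorem hQS : Q ≤ S := h.hQn.1

include h in
theorem hN : S ≤ Subgroup.normalizer (Q : Set Ω) :=
  Cfsg.Agent.Lib.Helper84_FusionNormal.IsNormal.le_normalizer h.hQn

/-- the projection `S → Aut_F(Q)` -/
noncomputable def π : ↥S →* ↥(F.autGroup Q) := piHom F h.hQS h.hN

theorem π_apply (s : S) (q : Q) : (((h.π s : MulAut Q) q : Q) : Ω) = s * q * (s : Ω)⁻¹ := rfl

/-- the map of `Q` given by the inverse of an automorphism -/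
def invHom (a : F.autGroup Q) : Q →* Ω := Q.subtype.comp ((a : MulAut Q)⁻¹).toMonoidHom

omit h in
theorem invHom_apply (a : F.autGroup Q) (q : Q) : invHom a q = (((a : MulAut Q)⁻¹ q : Q) : Ω) := rfl

/-- the domain of the extension of `a⁻¹` -/
def Dom (a : F.autGroup Q) : Subgroup Ω := extender S Q (invHom a)

include h in
theorem exists_ext [Finite S] [Fact p.Prime] (a : F.autGroup Q) :
    ∃ ψ ∈ F.Hom (Dom a), ∀ (q : Ω) (hq : q ∈ Q) (hq' : q ∈ Dom a),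
      ψ ⟨q, hq'⟩ = (((a : MulAut Q)⁻¹ ⟨q, hq⟩ : Q) : Ω) := by
  have hmem : invHom a ∈ F.Hom Q := (mem_autGroup_iff' F h.hQS _).1 ((F.autGroup Q).inv_mem a.2)
  have hr : (invHom a).range = Q := by
    ext y
    constructor
    · rintro ⟨q, rfl⟩
      exact Subtype.coe_prop _
    · intro hy
      refine ⟨(a : MulAut Q) ⟨y, hy⟩, ?_⟩
      rw [invHom_apply, MulAut.inv_apply_self]
  have hrec := Cfsg.Agent.Lib.Helper84_FusionRS.IsSaturated.isReceptive_of_isFullyNormalized h.hS h.hF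
    (FBiset.isFullyNormalized_of_isNormal h.hQn)
  obtain ⟨ψ, hψ, hψφ⟩ := hrec.2 Q (invHom a) hmem hr
  exact ⟨ψ, hψ, fun q hq hq' => hψφ q hq hq'⟩

/-- the chosen extension of `a⁻¹`, as a function -/
noncomputable def fext [Finite S] [Fact p.Prime] (a : F.autGroup Q) : Ω → Ω :=
  extHom (h.exists_ext a).choose

theorem isMapOn_fext [Finite S] [Fact p.Prime] (a : F.autGroup Q) : IsMapOn F (Dom a) (h.fext a) :=
  isMapOn_extHom F (h.exists_ext a).choose_spec.1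

include h in
theorem Q_le_Dom (a : F.autGroup Q) : Q ≤ Dom a :=
  Cfsg.Agent.Lib.Helper84_Fusion.le_extender S Q (invHom a) h.hQS (fun _ => h.hQS (Subtype.coe_prop _))

theorem fext_Q [Finite S] [Fact p.Prime] (a : F.autGroup Q) (q : Q) :
    h.fext a q = (((a : MulAut Q)⁻¹ q : Q) : Ω) := by
  unfold fext
  rw [extHom_apply _ (h.Q_le_Dom a q.2)]
  exact (h.exists_ext a).choose_spec.2 q q.2 _

theorem mem_Dom_iff (a : F.autGroup Q) (x : S) :
    (x : Ω) ∈ Dom a ↔ ∃ t : S, a⁻¹ * h.π x * a = h.π t := by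
  unfold Dom
  rw [Cfsg.Agent.Lib.Helper84_FusionRS.mem_extender_iff]
  constructor
  · rintro ⟨-, -, t, ht, hxt⟩
    refine ⟨⟨t, ht⟩, ?_⟩
    apply FBiset.aut_ext
    intro q
    have hq : (x : Ω) * ((a : MulAut Q) q : Q) * (x : Ω)⁻¹ ∈ Q := ((h.hN x.2) _).1 (Subtype.coe_prop _)
    have h1 := hxt ((a : MulAut Q) q) hq
    rw [invHom_apply, invHom_apply, MulAut.inv_apply_self] at h1
    show ((((a : MulAut Q)⁻¹ ((h.π x : MulAut Q) ((a : MulAut Q) q))) : Q) : Ω) = _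
    rw [h.π_apply]
    have e : (h.π x : MulAut Q) ((a : MulAut Q) q) = ⟨(x : Ω) * ((a : MulAut Q) q : Q) * (x : Ω)⁻¹, hq⟩ :=
      Subtype.ext (h.π_apply x _)
    rw [e, h1]
  · rintro ⟨t, ht⟩
    refine ⟨x.2, h.hN x.2, t, t.2, fun q hq => ?_⟩
    rw [invHom_apply, invHom_apply]
    have h1 : (a⁻¹ * h.π x : F.autGroup Q) = h.π t * a⁻¹ := by
      rw [← ht]; group
    have h2 : (((a⁻¹ * h.π x : F.autGroup Q) : MulAut Q) q : Q) = ((h.π t * a⁻¹ : F.autGroup Q) : MulAut Q) q := by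
      rw [h1]
    have h3 := congrArg Subtype.val h2
    have e : (⟨(x : Ω) * q * (x : Ω)⁻¹, hq⟩ : Q) = (h.π x : MulAut Q) q := Subtype.ext (h.π_apply x q).symm
    rw [e]
    have h4 : ((((h.π t : MulAut Q) ((a : MulAut Q)⁻¹ q)) : Q) : Ω)
        = t * (((a : MulAut Q)⁻¹ q : Q) : Ω) * (t : Ω)⁻¹ := h.π_apply t _
    rw [← h4]
    exact h3

theorem fext_mem_S [Finite S] [Fact p.Prime] (a : F.autGroup Q) {x : Ω} (hx : x ∈ Dom a) :
    h.fext a x ∈ S := (h.isMapOn_fext a).mem hx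

theorem π_fext [Finite S] [Fact p.Prime] (a : F.autGroup Q) (x : S) (hx : (x : Ω) ∈ Dom a) :
    h.π ⟨h.fext a x, h.fext_mem_S a hx⟩ = a⁻¹ * h.π x * a := by
  apply FBiset.aut_ext
  intro q
  have hm := h.isMapOn_fext a
  set q' : Q := (a : MulAut Q) q with hq'
  have h1 : h.fext a q' = q := by
    rw [h.fext_Q, hq', MulAut.inv_apply_self]
  have hq'D : (q' : Ω) ∈ Dom a := h.Q_le_Dom a q'.2
  have h2 : h.fext a ((x : Ω) * q' * (x : Ω)⁻¹) = h.fext a x * q * (h.fext a x)⁻¹ := by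
    rw [hm.map_mul ((Dom a).mul_mem hx hq'D) ((Dom a).inv_mem hx), hm.map_mul hx hq'D, hm.map_inv hx, h1]
  have h3 : (x : Ω) * q' * (x : Ω)⁻¹ = ((h.π x : MulAut Q) q' : Q) := (h.π_apply x q').symm
  rw [h3, h.fext_Q] at h2
  rw [h.π_apply]
  show _ = ((((a : MulAut Q)⁻¹ ((h.π x : MulAut Q) ((a : MulAut Q) q))) : Q) : Ω)
  exact h2.symm


/-! ### The orbit types -/

/-- the graph of the chosen extension of `a⁻¹` -/
noncomputable def Γ [Finite S] [Fact p.Prime] (a : F.autGroup Q) : Subgroup (S × S) where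
  carrier := {g | (g.1 : Ω) ∈ Dom a ∧ h.fext a g.1 = g.2}
  one_mem' := ⟨(Dom a).one_mem, (h.isMapOn_fext a).map_one⟩
  mul_mem' := by
    rintro g g' ⟨hg, hg2⟩ ⟨hg', hg2'⟩
    refine ⟨(Dom a).mul_mem hg hg', ?_⟩
    show h.fext a ((g.1 : Ω) * g'.1) = (g.2 : Ω) * g'.2
    rw [(h.isMapOn_fext a).map_mul hg hg', hg2, hg2']
  inv_mem' := by
    rintro g ⟨hg, hg2⟩
    refine ⟨(Dom a).inv_mem hg, ?_⟩
    show h.fext a (g.1 : Ω)⁻¹ = (g.2 : Ω)⁻¹
    rw [(h.isMapOn_fext a).map_inv hg, hg2]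

theorem mem_Γ [Finite S] [Fact p.Prime] (a : F.autGroup Q) (g : S × S) :
    g ∈ h.Γ a ↔ (g.1 : Ω) ∈ Dom a ∧ h.fext a g.1 = g.2 := Iff.rfl

/-- the double coset relation of `T = π(S)` on `A` -/
def dcSetoid : Setoid (F.autGroup Q) where
  r a b := ∃ s t : S, b = h.π s * a * h.π t
  iseqv := ⟨fun a => ⟨1, 1, by simp⟩,
    fun {a b} ⟨s, t, hb⟩ => ⟨s⁻¹, t⁻¹, by rw [hb, map_inv, map_inv]; group⟩,
    fun {a b c} ⟨s, t, hb⟩ ⟨s', t', hc⟩ => ⟨s' * s, t * t', by rw [hc, hb, map_mul, map_mul]; group⟩⟩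

/-- double cosets -/
abbrev DC : Type u := Quotient h.dcSetoid

/-- the chosen representative of a double coset -/
noncomputable def rep (d : h.DC) : F.autGroup Q := Quotient.out d

theorem rep_spec (a : F.autGroup Q) :
    ∃ s t : S, a = h.π s * h.rep (Quotient.mk h.dcSetoid a) * h.π t :=
  Quotient.exact (Quotient.out_eq (Quotient.mk h.dcSetoid a))

theorem rep_unique {d d' : h.DC} {s t s' t' : S}
    (heq : h.π s * h.rep d * h.π t = h.π s' * h.rep d' * h.π t') : d = d' := by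
  have h1 : h.dcSetoid.r (h.rep d) (h.rep d') := by
    refine ⟨s'⁻¹ * s, t * t'⁻¹, ?_⟩
    rw [map_mul, map_mul, map_inv, map_inv]
    have : h.rep d' = (h.π s')⁻¹ * (h.π s' * h.rep d' * h.π t') * (h.π t')⁻¹ := by group
    rw [this, ← heq]
    group
  have h2 : Quotient.mk h.dcSetoid (h.rep d) = Quotient.mk h.dcSetoid (h.rep d') := Quotient.sound h1
  unfold rep at h2
  rwa [Quotient.out_eq, Quotient.out_eq] at h2

/-- the biset -/
abbrev X [Finite S] [Fact p.Prime] : Type u := Σ d : h.DC, (S × S) ⧸ h.Γ (h.rep d)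

/-- left multiplication -/
noncomputable def lm [Finite S] [Fact p.Prime] (s : S) (x : h.X) : h.X := ⟨x.1, ((s, 1) : S × S) • x.2⟩

/-- right multiplication -/
noncomputable def rm [Finite S] [Fact p.Prime] (x : h.X) (t : S) : h.X := ⟨x.1, ((1, t⁻¹) : S × S) • x.2⟩

/-- the structure map on representatives -/
noncomputable def θ₀ (d : h.DC) (g : S × S) : F.autGroup Q := h.π g.1 * h.rep d * (h.π g.2)⁻¹

theorem θ₀_wd [Finite S] [Fact p.Prime] (d : h.DC) (g g' : S × S)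
    (hgg : QuotientGroup.leftRel (h.Γ (h.rep d)) g g') : h.θ₀ d g = h.θ₀ d g' := by
  rw [QuotientGroup.leftRel_apply] at hgg
  obtain ⟨hx, hfx⟩ := hgg
  have h1 := h.π_fext (h.rep d) _ hx
  have h2 : (⟨h.fext (h.rep d) ((g⁻¹ * g').1 : S), h.fext_mem_S (h.rep d) hx⟩ : S) = (g⁻¹ * g').2 :=
    Subtype.ext hfx
  rw [h2] at h1
  have e1 : g'.1 = g.1 * (g⁻¹ * g').1 := by simp
  have e2 : g'.2 = g.2 * (g⁻¹ * g').2 := by simp
  unfold θ₀
  rw [e1, e2, map_mul, map_mul, h1]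
  group

/-- the structure map -/
noncomputable def θ [Finite S] [Fact p.Prime] (x : h.X) : F.autGroup Q :=
  Quotient.liftOn' x.2 (h.θ₀ x.1) (h.θ₀_wd x.1)

theorem θ_mk [Finite S] [Fact p.Prime] (d : h.DC) (g : S × S) :
    h.θ ⟨d, QuotientGroup.mk g⟩ = h.π g.1 * h.rep d * (h.π g.2)⁻¹ := rfl

theorem lm_mk [Finite S] [Fact p.Prime] (s : S) (d : h.DC) (g : S × S) :
    h.lm s ⟨d, QuotientGroup.mk g⟩ = ⟨d, QuotientGroup.mk (s * g.1, g.2)⟩ := by
  unfold lm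
  congr 1
  show (QuotientGroup.mk (((s, 1) : S × S) * g) : (S × S) ⧸ h.Γ (h.rep d)) = _
  congr 1
  ext <;> simp

theorem rm_mk [Finite S] [Fact p.Prime] (t : S) (d : h.DC) (g : S × S) :
    h.rm ⟨d, QuotientGroup.mk g⟩ t = ⟨d, QuotientGroup.mk (g.1, t⁻¹ * g.2)⟩ := by
  unfold rm
  congr 1
  show (QuotientGroup.mk (((1, t⁻¹) : S × S) * g) : (S × S) ⧸ h.Γ (h.rep d)) = _
  congr 1
  ext <;> simp

theorem X_ind [Finite S] [Fact p.Prime] {motive : h.X → Prop}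
    (hm : ∀ (d : h.DC) (g : S × S), motive ⟨d, QuotientGroup.mk g⟩) (x : h.X) : motive x := by
  obtain ⟨d, c⟩ := x
  induction c using QuotientGroup.induction_on with | _ g => exact hm d g

theorem mk_eq_iff [Finite S] [Fact p.Prime] (d : h.DC) (g g' : S × S) :
    (⟨d, QuotientGroup.mk g⟩ : h.X) = ⟨d, QuotientGroup.mk g'⟩ ↔ g⁻¹ * g' ∈ h.Γ (h.rep d) := by
  constructor
  · intro heq
    have := eq_of_heq (Sigma.mk.inj heq).2
    exact QuotientGroup.eq.1 this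
  · intro hg
    congr 1
    exact QuotientGroup.eq.2 hg


/-! ### The biset axioms -/

theorem lm_one' [Finite S] [Fact p.Prime] (x : h.X) : h.lm 1 x = x := by
  induction x using h.X_ind with | _ d g => rw [h.lm_mk, one_mul]

theorem lm_mul' [Finite S] [Fact p.Prime] (s t : S) (x : h.X) : h.lm (s * t) x = h.lm s (h.lm t x) := by
  induction x using h.X_ind with | _ d g => rw [h.lm_mk, h.lm_mk, h.lm_mk, mul_assoc]

theorem rm_one' [Finite S] [Fact p.Prime] (x : h.X) : h.rm x 1 = x := by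
  induction x using h.X_ind with | _ d g => rw [h.rm_mk, inv_one, one_mul]

theorem rm_mul' [Finite S] [Fact p.Prime] (x : h.X) (s t : S) : h.rm x (s * t) = h.rm (h.rm x s) t := by
  induction x using h.X_ind with | _ d g => rw [h.rm_mk, h.rm_mk, h.rm_mk, mul_inv_rev, mul_assoc]

theorem lm_rm' [Finite S] [Fact p.Prime] (s : S) (x : h.X) (t : S) :
    h.lm s (h.rm x t) = h.rm (h.lm s x) t := by
  induction x using h.X_ind with | _ d g => rw [h.rm_mk, h.lm_mk, h.lm_mk, h.rm_mk]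

theorem θ_lm' [Finite S] [Fact p.Prime] (s : S) (x : h.X) : h.θ (h.lm s x) = h.π s * h.θ x := by
  induction x using h.X_ind with | _ d g => rw [h.lm_mk, h.θ_mk, h.θ_mk, map_mul]; group

theorem θ_rm' [Finite S] [Fact p.Prime] (x : h.X) (t : S) : h.θ (h.rm x t) = h.θ x * h.π t := by
  induction x using h.X_ind with | _ d g => rw [h.rm_mk, h.θ_mk, h.θ_mk, map_mul, map_inv]; group

theorem θ_surj' [Finite S] [Fact p.Prime] : Function.Surjective h.θ := by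
  intro a
  obtain ⟨s, t, hst⟩ := h.rep_spec a
  refine ⟨⟨Quotient.mk h.dcSetoid a, QuotientGroup.mk (s, t⁻¹)⟩, ?_⟩
  rw [h.θ_mk, map_inv, inv_inv]
  exact hst.symm

/-- the kernel of `π` is the centre of `Q` -/
theorem ker_π' (s : S) (hs : h.π s = 1) :
    ∃ z : Subgroup.center Q, (Subgroup.inclusion h.hQS) (z : Q) = s := by
  have h1 : ∀ q : Q, (s : Ω) * q * (s : Ω)⁻¹ = q := by
    intro q
    rw [← h.π_apply, hs]
    rfl
  have h2 : (s : Ω) ∈ centralizerIn S Q := by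
    refine ⟨s.2, ?_⟩
    show (s : Ω) ∈ Subgroup.centralizer (Q : Set Ω)
    rw [Subgroup.mem_centralizer_iff]
    intro q hq
    have := h1 ⟨q, hq⟩
    simp only at this
    calc q * (s : Ω) = ((s : Ω) * q * (s : Ω)⁻¹) * s := by rw [this]
      _ = s * q := by group
  have h3 : (s : Ω) ∈ Q := h.hQc.2 Q (Cfsg.Agent.Lib.Helper84_Fusion.isConj_refl F h.hQS) h2
  refine ⟨⟨⟨s, h3⟩, ?_⟩, Subtype.ext rfl⟩
  rw [Subgroup.mem_center_iff]
  intro q
  apply Subtype.ext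
  show (q : Ω) * s = s * q
  have := h1 q
  calc (q : Ω) * (s : Ω) = ((s : Ω) * q * (s : Ω)⁻¹) * s := by rw [this]
    _ = s * q := by group

theorem π_center (z : Subgroup.center Q) : h.π (Subgroup.inclusion h.hQS (z : Q)) = 1 := by
  apply FBiset.aut_ext
  intro q
  rw [h.π_apply]
  have h1 := Subgroup.mem_center_iff.1 z.2 q
  have h2 : (q : Ω) * ((z : Q) : Ω) = ((z : Q) : Ω) * q := congrArg Subtype.val h1
  show ((z : Q) : Ω) * q * ((z : Q) : Ω)⁻¹ = q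
  rw [← h2]
  group

theorem fiber' [Finite S] [Fact p.Prime] (x y : h.X) (hxy : h.θ x = h.θ y) :
    ∃ z : Subgroup.center Q, y = h.rm x (Subgroup.inclusion h.hQS (z : Q)) := by
  induction x using h.X_ind with | _ d g => ?_
  induction y using h.X_ind with | _ d' g' => ?_
  rw [h.θ_mk, h.θ_mk, ← map_inv, ← map_inv] at hxy
  have hd : d = d' := h.rep_unique hxy
  subst hd
  rw [map_inv, map_inv] at hxy
  -- the element `x₀ = g.1⁻¹ g'.1`
  have hx0 : (h.rep d)⁻¹ * h.π (g.1⁻¹ * g'.1) * h.rep d = h.π (g.2⁻¹ * g'.2) := by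
    rw [map_mul, map_mul, map_inv, map_inv]
    have key : h.π g'.1 * h.rep d = h.π g.1 * h.rep d * (h.π g.2)⁻¹ * h.π g'.2 := by rw [hxy]; group
    calc (h.rep d)⁻¹ * ((h.π g.1)⁻¹ * h.π g'.1) * h.rep d
        = (h.rep d)⁻¹ * (h.π g.1)⁻¹ * (h.π g'.1 * h.rep d) := by group
      _ = (h.rep d)⁻¹ * (h.π g.1)⁻¹ * (h.π g.1 * h.rep d * (h.π g.2)⁻¹ * h.π g'.2) := by rw [key]
      _ = (h.π g.2)⁻¹ * h.π g'.2 := by group
  have hmem : ((g.1⁻¹ * g'.1 : S) : Ω) ∈ Dom (h.rep d) := (h.mem_Dom_iff _ _).2 ⟨_, hx0⟩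
  set f0 : S := ⟨h.fext (h.rep d) ((g.1⁻¹ * g'.1 : S) : Ω), h.fext_mem_S _ hmem⟩ with hf0
  have hπf0 : h.π f0 = h.π (g.2⁻¹ * g'.2) := by rw [hf0, h.π_fext _ _ hmem, hx0]
  set s : S := g.2 * f0 * g'.2⁻¹ with hs
  have hπs : h.π s = 1 := by
    rw [hs, map_mul, map_mul, hπf0, map_mul, map_inv, map_inv]
    group
  obtain ⟨z, hz⟩ := h.ker_π' s hπs
  refine ⟨z, ?_⟩
  rw [hz, h.rm_mk]
  symm
  rw [h.mk_eq_iff, h.mem_Γ]
  have e1 : ((g.1, s⁻¹ * g.2)⁻¹ * g' : S × S).1 = g.1⁻¹ * g'.1 := by simp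
  have e2 : ((g.1, s⁻¹ * g.2)⁻¹ * g' : S × S).2 = f0 := by
    simp only [Prod.inv_mk, Prod.snd_mul, hs]
    group
  rw [e1, e2]
  exact ⟨hmem, rfl⟩

theorem free' [Finite S] [Fact p.Prime] (x : h.X) (t : S) (hxt : h.rm x t = x) : t = 1 := by
  induction x using h.X_ind with | _ d g => ?_
  rw [h.rm_mk, eq_comm, h.mk_eq_iff, h.mem_Γ] at hxt
  obtain ⟨-, h2⟩ := hxt
  have e1 : ((g⁻¹ * (g.1, t⁻¹ * g.2) : S × S).1 : Ω) = 1 := by simp
  rw [e1, (h.isMapOn_fext _).map_one] at h2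
  have e2 : (g⁻¹ * (g.1, t⁻¹ * g.2) : S × S).2 = 1 := Subtype.ext h2.symm
  simp only [Prod.snd_mul, Prod.snd_inv] at e2
  have : t⁻¹ = 1 := by
    have := congrArg (fun w => g.2 * w * g.2⁻¹) e2
    simpa [mul_assoc] using this
  exact inv_eq_one.1 this

theorem qform' [Finite S] [Fact p.Prime] (n : Q) (x : h.X) :
    h.lm (Subgroup.inclusion h.hQS n) x
      = h.rm x (Subgroup.inclusion h.hQS ((((h.θ x)⁻¹ : F.autGroup Q) : MulAut Q) n)) := by
  induction x using h.X_ind with | _ d g => ?_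
  rw [h.lm_mk, h.rm_mk, h.mk_eq_iff, h.mem_Γ, h.θ_mk]
  set r := h.rep d with hr
  set u : S := Subgroup.inclusion h.hQS ((((h.π g.1 * r * (h.π g.2)⁻¹)⁻¹ : F.autGroup Q) : MulAut Q) n) with hu
  -- the element `y₀ = g.1⁻¹ n⁻¹ g.1` of `Q`
  set y0 : Q := (h.π g.1⁻¹ : MulAut Q) n⁻¹ with hy0
  have e1 : (((Subgroup.inclusion h.hQS n * g.1, g.2)⁻¹ * (g.1, u⁻¹ * g.2) : S × S).1 : Ω) = (y0 : Ω) := by
    rw [hy0, h.π_apply]
    simp [mul_assoc]
  have e2 : (((Subgroup.inclusion h.hQS n * g.1, g.2)⁻¹ * (g.1, u⁻¹ * g.2) : S × S).2 : Ω)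
      = (g.2 : Ω)⁻¹ * (u : Ω)⁻¹ * g.2 := by
    simp [mul_assoc]
  rw [e1, e2]
  refine ⟨h.Q_le_Dom r y0.2, ?_⟩
  rw [h.fext_Q]
  -- compute `u`
  have hucoe : (u : Ω) = (g.2 : Ω) * (((r : MulAut Q)⁻¹ ((h.π g.1⁻¹ : MulAut Q) n) : Q) : Ω) * (g.2 : Ω)⁻¹ := by
    rw [hu]
    show ((((h.π g.1 * r * (h.π g.2)⁻¹)⁻¹ : F.autGroup Q) : MulAut Q) n : Ω) = _
    have e3 : (h.π g.1 * r * (h.π g.2)⁻¹)⁻¹ = h.π g.2 * r⁻¹ * h.π g.1⁻¹ := by
      rw [map_inv]; group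
    rw [e3]
    exact h.π_apply g.2 _
  rw [hucoe, hy0, map_inv, map_inv]
  simp only [Subgroup.coe_inv]
  group


theorem hgen' [Finite S] [Fact p.Prime] (ω : h.X) :
    ∃ (D : Subgroup Ω) (σ : Ω → Ω), IsMapOn F D σ ∧
      ∀ (x t : S), h.lm x ω = h.rm ω t ↔ ((x : Ω) ∈ D ∧ σ x = t) := by
  induction ω using h.X_ind with | _ d g => ?_
  set r := h.rep d with hr
  have hm := h.isMapOn_fext r
  let D : Subgroup Ω := (Dom r).comap (MulAut.conj ((g.1 : Ω)⁻¹)).toMonoidHom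
  have hD : ∀ x, x ∈ D ↔ (g.1 : Ω)⁻¹ * x * (g.1 : Ω) ∈ Dom r := by
    intro x
    show (MulAut.conj ((g.1 : Ω)⁻¹)) x ∈ Dom r ↔ _
    rw [MulAut.conj_apply, inv_inv]
  have hDS : D ≤ S := by
    intro x hx
    have h1 : (g.1 : Ω)⁻¹ * x * (g.1 : Ω) ∈ S := hm.le ((hD x).1 hx)
    have h2 : x = (g.1 : Ω) * ((g.1 : Ω)⁻¹ * x * (g.1 : Ω)) * (g.1 : Ω)⁻¹ := by group
    rw [h2]
    exact S.mul_mem (S.mul_mem g.1.2 h1) (S.inv_mem g.1.2)
  let σ : Ω → Ω := fun x => (g.2 : Ω) * h.fext r ((g.1 : Ω)⁻¹ * x * (g.1 : Ω)) * (g.2 : Ω)⁻¹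
  have c1 : IsMapOn F D (fun x => (g.1 : Ω)⁻¹ * x * ((g.1 : Ω)⁻¹)⁻¹) := IsMapOn.conj F hDS (S.inv_mem g.1.2)
  have c2 : IsMapOn F D (h.fext r ∘ fun x => (g.1 : Ω)⁻¹ * x * ((g.1 : Ω)⁻¹)⁻¹) :=
    c1.comp hm (fun x hx => by rw [inv_inv]; exact (hD x).1 hx)
  have c3 : IsMapOn F D ((fun y => (g.2 : Ω) * y * (g.2 : Ω)⁻¹) ∘
      (h.fext r ∘ fun x => (g.1 : Ω)⁻¹ * x * ((g.1 : Ω)⁻¹)⁻¹)) :=
    c2.comp (IsMapOn.conj F (le_refl S) g.2.2) (fun x hx => c2.mem hx)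
  have hσ : IsMapOn F D σ := c3.congr (fun x _ => by simp only [Function.comp_apply, inv_inv, σ])
  refine ⟨D, σ, hσ, fun x t => ?_⟩
  rw [h.lm_mk, h.rm_mk, h.mk_eq_iff, h.mem_Γ, hD]
  have e1 : (((x * g.1, g.2)⁻¹ * (g.1, t⁻¹ * g.2) : S × S).1 : Ω)
      = ((g.1 : Ω)⁻¹ * x * (g.1 : Ω))⁻¹ := by
    simp [mul_assoc]
  have e2 : (((x * g.1, g.2)⁻¹ * (g.1, t⁻¹ * g.2) : S × S).2 : Ω)
      = ((g.2 : Ω)⁻¹ * t * (g.2 : Ω))⁻¹ := by
    simp [mul_assoc]
  rw [e1, e2]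
  constructor
  · rintro ⟨h1, h2⟩
    have h1' : (g.1 : Ω)⁻¹ * x * (g.1 : Ω) ∈ Dom r := by
      have := (Dom r).inv_mem h1
      rwa [inv_inv] at this
    refine ⟨h1', ?_⟩
    rw [hm.map_inv h1', inv_inj] at h2
    simp only [σ]
    rw [h2]
    group
  · rintro ⟨h1, h2⟩
    refine ⟨(Dom r).inv_mem h1, ?_⟩
    rw [hm.map_inv h1, inv_inj, ← h2]
    simp only [σ]
    group

/-- the automorphism of the centre induced by an automorphism -/
def centerAut (N : Type*) [Group N] : MulAut N →* MulAut (Subgroup.center N) where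
  toFun a := Subgroup.centerCongr a
  map_one' := by ext z; rfl
  map_mul' _ _ := by ext z; rfl

open scoped IsMulCommutative in
/-- **The biset of a constrained fusion system.** -/
noncomputable def fbiset [Finite S] [Fact p.Prime] : FBiset F Q (Subgroup.center Q) h.X where
  lm := h.lm
  rm := h.rm
  lm_one := h.lm_one'
  lm_mul := h.lm_mul'
  rm_one := h.rm_one'
  rm_mul := h.rm_mul'
  lm_rm := h.lm_rm'
  jz := (Subgroup.inclusion h.hQS).comp (Subgroup.center Q).subtype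
  j := Subgroup.inclusion h.hQS
  π := h.π
  actZ := (centerAut Q).comp (F.autGroup Q).subtype
  act := (F.autGroup Q).subtype
  θ := h.θ
  jz_inj := fun _ _ hab => Subtype.ext (Subgroup.inclusion_injective h.hQS hab)
  compatZ := fun s z => Subtype.ext (h.π_apply s z)
  compat := fun s n => Subtype.ext (h.π_apply s n)
  ker_π := fun s hs => h.ker_π' s hs
  π_jz := h.π_center
  θ_lm := h.θ_lm'
  θ_rm := h.θ_rm'
  θ_surj := h.θ_surj'
  fiber := h.fiber'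
  free := h.free'
  zform := fun z x => h.qform' z x
  qform := h.qform'
  hj := fun _ => rfl
  hπ := h.π_apply
  hact := fun _ _ => rfl
  hjz := fun z => ⟨z, rfl⟩
  hgen := h.hgen'


open scoped IsMulCommutative in
include h in
/-- **Model theorem, existence.** -/
theorem exists_model [Finite S] [Fact p.Prime] :
    ∃ (G : Type u) (_ : Group G) (ι : S →* G), F.IsModel p G ι := by
  have hfinQ : Finite Q := Finite.of_injective _ (Subgroup.inclusion_injective h.hQS)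
  have hfinX : Finite h.X := inferInstance
  exact ⟨h.fbiset.B.G, inferInstance, h.fbiset.B.ι, h.fbiset.isModel h.hS h.hF h.hQn h.hQc⟩

end Setup

end Cfsg.Agent.Lib.Helper84_ModelBiset
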