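import Cfsg.Agent.Lib.Helper87_GTModel
import Cfsg.Agent.Lib.Helper87_GTTransport
import Cfsg.Agent.Lib.Helper88_Model
import Cfsg.Agent.Lib.Helper32_PGroup
import Cfsg.Agent.S5090
import Cfsg.Agent.S5098
import Cfsg.Agent.S5132
import Cfsg.Agent.S5133
import Cfsg.Agent.S5134

/-!
The Glauberman-Thompson reduction for fusion systems (helper87), in functor form, following Kessar-Linckelmann and
Diaz-Glesser-Mazza-Park.  Let `W` be an isomorphism-invariant `p`-group functor for which the group-theoretic normal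
`p`-complement criterion holds for strongly closed subgroups (`GroupHyp p W`).  If `F` is a saturated fusion system
over the finite `p`-group `S`, `D` is strongly closed in `F` and the normalizer system of `W(D)` is `p`-inner, then `F`
is `p`-inner.
-/

set_option autoImplicit false
set_option linter.style.haveILetI false

universe u

namespace Cfsg.Agent.Lib.Helper87_GTMain

open Cfsg Cfsg.FusionSystem Cfsg.Agent.Lib Cfsg.Agent.Lib.Helper87_Alperin Cfsg.Agent.Lib.Helper87_Alperin2
  Cfsg.Agent.Lib.Helper87_Normal Cfsg.Agent.Lib.Helper87_Factor Cfsg.Agent.Lib.Helper87_Factor2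
  Cfsg.Agent.Lib.Helper87_PInner Cfsg.Agent.Lib.Helper87_GTCentric Cfsg.Agent.Lib.Helper87_GTFunctor
  Cfsg.Agent.Lib.Helper87_GTQuot Cfsg.Agent.Lib.Helper87_GTModel Cfsg.Agent.Lib.Helper87_GTTransport

/-- The statement of the reduction theorem for systems over groups of order `n`. -/
def GTStatement (p : ℕ) (W : ∀ (Q : Type u) [Group Q], Subgroup Q) (n : ℕ) : Prop :=
  ∀ (Ω : Type u) [Group Ω] (S : Subgroup Ω) [Finite S], Nat.card S = n → IsPGroup p S →
    ∀ F : FusionSystem S, F.IsSaturated p → ∀ D : Subgroup Ω, F.StronglyClosed D →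
      PInnerOn p (IsNormMapOn F (inducedFunctor W D)) → PInnerOn p (IsMapOn F)

variable {Ω : Type u} [Group Ω] {S : Subgroup Ω} {p : ℕ} {W : ∀ (Q : Type u) [Group Q], Subgroup Q}

/-- If `D` is normal in the system, every map of the system is a map of the normalizer system of `W(D)`. -/
theorem isNormMapOn_ind_of_isNormal [Finite S] (hW : IsCharPFunctor p W) (hS : IsPGroup p S)
    {F : FusionSystem S} {D : Subgroup Ω} (hD : F.IsNormal D) {P : Subgroup Ω} {f : Ω → Ω}
    (hf : IsMapOn F P f) : IsNormMapOn F (inducedFunctor W D) P f := by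
  have hDsc : F.StronglyClosed D := Cfsg.Agent.Lib.Helper84_FusionNormal.IsNormal.stronglyClosed hD
  have hDS : D ≤ S := hD.1
  haveI : Finite D := Finite.of_injective (Subgroup.inclusion hDS) (Subgroup.inclusion_injective hDS)
  have hDp : IsPGroup p D := hS.to_le hDS
  have hSD : S ≤ Subgroup.normalizer (D : Set Ω) := stronglyClosed_le_normalizer hDsc
  have hSV : S ≤ Subgroup.normalizer (inducedFunctor W D : Set Ω) := hSD.trans (normalizer_le hW D hDp)
  obtain ⟨-, -, -, g, hg1, hg2, hg3⟩ := isNormMapOn_of_isNormal hD hSD hf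
  have hPS : P ≤ S := hf.le
  have hVD : inducedFunctor W D ≤ D := ind_le D
  have hPN : P ≤ normalizerIn S (inducedFunctor W D) := le_inf hPS (hPS.trans hSV)
  refine ⟨hf, hPN, fun x hx => ?_, g, hg1.mono (sup_le le_sup_left (hVD.trans le_sup_right)), hg2, ?_⟩
  · exact ⟨hf.mem hx, hSV (hf.mem hx)⟩
  · exact ind_image hW hDp g
      (fun x hx y hy => hg1.map_mul ((le_sup_right : D ≤ P ⊔ D) hx) ((le_sup_right : D ≤ P ⊔ D) hy))
      (fun x hx y hy hxy => hg1.injOn ((le_sup_right : D ≤ P ⊔ D) hx) ((le_sup_right : D ≤ P ⊔ D) hy) hxy) hg3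

/-- The case of a nontrivial subgroup `X` normal in the system, maximal with non-inner normalizer system. -/
theorem normal_case [Finite S] [Fact p.Prime] (hW : IsCharPFunctor p W) (hG : GroupHyp p W) (hS : IsPGroup p S)
    (IH : ∀ m < Nat.card S, GTStatement p W m)
    (F : FusionSystem S) (hF : F.IsSaturated p) {D : Subgroup Ω} (hD : F.StronglyClosed D)
    {X : Subgroup Ω} (hX : F.IsNormal X) (hXne : X ≠ ⊥)
    (hM : ∀ Y : Subgroup Ω, X < Y → Y ≤ S → S ≤ Subgroup.normalizer (Y : Set Ω) →
      PInnerOn p (IsNormMapOn F Y))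
    (hWD : PInnerOn p (IsNormMapOn F (inducedFunctor W D))) : PInnerOn p (IsMapOn F) := by
  classical
  have hXsc : F.StronglyClosed X := Cfsg.Agent.Lib.Helper84_FusionNormal.IsNormal.stronglyClosed hX
  have hXS : X ≤ S := hX.1
  have hSX : S ≤ Subgroup.normalizer (X : Set Ω) := stronglyClosed_le_normalizer hXsc
  by_cases hDX : D ≤ X
  · -- `D` is normal in the system
    have hDn : F.IsNormal D := by
      rw [Cfsg.Agent.S5086.result p hS F hF]
      exact ⟨hD, fun P hPc hPr => hDX.trans
        (Cfsg.Agent.Lib.Helper84_FusionNormal.IsNormal.le_of_isCentric_of_isRadical hS hX hPc hPr)⟩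
    exact PInnerOn.mono (fun P f hf => isNormMapOn_ind_of_isNormal hW hS hDn hf) hWD
  -- the quotient system
  haveI hXnormal : (X.subgroupOf S).Normal := (Subgroup.normal_subgroupOf_iff_le_normalizer hXS).2 hSX
  obtain ⟨E, hE⟩ := Cfsg.Agent.S5132.result p hS F X hXsc
  set θ : S →* S ⧸ X.subgroupOf S := QuotientGroup.mk' (X.subgroupOf S) with hθ
  have hE' := hE
  obtain ⟨-, hker, hrange, hEhom⟩ := hE'
  have hEsat : E.IsSaturated p :=
    Cfsg.Agent.S5133.result p hS F hF E θ (Cfsg.Agent.S5134.result p hS F hF X hXsc θ E hE)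
  have hS'p : IsPGroup p (⊤ : Subgroup (S ⧸ X.subgroupOf S)) := (hS.to_quotient _).to_subgroup ⊤
  have hcard : Nat.card (⊤ : Subgroup (S ⧸ X.subgroupOf S)) < Nat.card S := by
    rw [Subgroup.card_top, Subgroup.card_eq_card_quotient_mul_card_subgroup (X.subgroupOf S)]
    have h1 : 0 < Nat.card (S ⧸ X.subgroupOf S) := Nat.card_pos
    have h2 : 1 < Nat.card (X.subgroupOf S) := by
      rw [Subgroup.one_lt_card_iff_ne_bot]
      intro h
      apply hXne
      rw [Subgroup.subgroupOf_eq_bot] at h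
      exact disjoint_self.1 (h.mono_right hXS) |> fun h' => h'
    nlinarith
  -- the image of `D`
  have hDXsc : F.StronglyClosed (D ⊔ X) := Cfsg.Agent.S5128.result p hS F hF D X hD hXsc
  set D' := imageAlong θ (D ⊔ X) with hD'
  have hD'sc : E.StronglyClosed D' := stronglyClosed_imageAlong hE hDXsc le_sup_right
  have hD'top : D' ≤ (⊤ : Subgroup (S ⧸ X.subgroupOf S)) := le_top
  haveI hfinD' : Finite D' := inferInstance
  have hD'p : IsPGroup p D' := (hS.to_quotient _).to_subgroup D'
  have hD'ne : D' ≠ ⊥ := by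
    intro h
    apply hDX
    intro d hd
    have hdS : d ∈ S := hD.1 hd
    have h1 : extOn θ d ∈ D' := extOn_mem_imageAlong θ hDXsc.1 ((le_sup_left : D ≤ D ⊔ X) hd)
    rw [h, Subgroup.mem_bot] at h1
    exact (extOn_eq_one_iff hker hdS).1 h1
  set W' := inducedFunctor W D' with hW'
  have hW'ne : W' ≠ ⊥ := ind_ne_bot hW D' hD'p hD'ne
  have hW'D' : W' ≤ D' := ind_le D'
  set R := preimageAlong θ W' with hR
  have hXR : X ≤ R := le_preimageAlong hker hXS W'
  have hRS : R ≤ S := preimageAlong_le θ W'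
  have hXltR : X < R := by
    refine lt_of_le_of_ne hXR ?_
    intro h
    apply hW'ne
    rw [eq_bot_iff]
    intro y hy
    have hyr : y ∈ θ.range := by rw [hrange]; exact Subgroup.mem_top y
    obtain ⟨x, hxS, hxy⟩ := exists_extOn_eq_of_mem_range hyr
    have hxR : x ∈ R := by
      rw [hR, mem_preimageAlong]
      exact ⟨hxS, by rw [hxy]; exact hy⟩
    rw [← h] at hxR
    rw [Subgroup.mem_bot, ← hxy]
    exact (extOn_eq_one_iff hker hxS).2 hxR
  have hS'W' : (⊤ : Subgroup (S ⧸ X.subgroupOf S)) ≤ Subgroup.normalizer (W' : Set (S ⧸ X.subgroupOf S)) :=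
    (stronglyClosed_le_normalizer hD'sc).trans (normalizer_le hW D' hD'p)
  have hSR : S ≤ Subgroup.normalizer (R : Set Ω) := by
    refine le_normalizer_of_conj_mem fun g hg x hx => ?_
    have hxS : x ∈ S := hRS hx
    rw [hR, mem_preimageAlong]
    refine ⟨S.mul_mem (S.mul_mem hg hxS) (S.inv_mem hg), ?_⟩
    rw [extOn_mul θ (S.mul_mem hg hxS) (S.inv_mem hg), extOn_mul θ hg hxS, extOn_inv θ hg]
    have h1 : extOn θ x ∈ W' := ((mem_preimageAlong θ W' x).1 hx).2
    exact ((Subgroup.mem_normalizer_iff.1 (hS'W' (Subgroup.mem_top (extOn θ g)))) _).1 h1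
  have hNPIR : PInnerOn p (IsNormMapOn F R) := hM R hXltR hRS hSR
  have hNPIE : PInnerOn p (IsNormMapOn E W') := pInnerOn_factor hE W' hNPIR
  have hPIE : PInnerOn p (IsMapOn E) :=
    IH _ hcard (S ⧸ X.subgroupOf S) ⊤ rfl hS'p E hEsat D' hD'sc hNPIE
  have hstar : ActsTriviallyMod p F X := actsTriviallyMod_of_pInnerOn hS hF hXsc hE hPIE
  -- `X C_S(X)` is normal in the system
  have hR₁ : F.IsNormal (X ⊔ centralizerIn S X) := isNormal_sup_centralizerIn hS F hF hX hstar
  have hR₁sc := Cfsg.Agent.Lib.Helper84_FusionNormal.IsNormal.stronglyClosed hR₁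
  by_cases hcent : centralizerIn S X ≤ X
  · -- the constrained case
    have hXc : F.IsCentric X := isCentric_of_isNormal hX hcent
    obtain ⟨G, hGgrp, ι, hfinG, hr, ⟨T, hT⟩, -⟩ := Cfsg.Agent.S5090.result p hS F ⟨hF, X, hX, hXc⟩
    exact pInnerOn_of_isRealizedBy hW hG hS hr T hT hD hWD
  · have hlt : X < X ⊔ centralizerIn S X := by
      refine lt_of_le_of_ne le_sup_left ?_
      intro h
      exact hcent (le_sup_right.trans h.ge)
    exact pInnerOn_of_isNormal hR₁ (stronglyClosed_le_normalizer hR₁sc)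
      (hM _ hlt hR₁.1 (stronglyClosed_le_normalizer hR₁sc))

/-! ### The normalizer system and the system -/

theorem isMapOn_normalizerSystem_iff {F : FusionSystem S} {X : Subgroup Ω} {N : FusionSystem (normalizerIn S X)}
    (hN : F.IsNormalizerSystem X N) (P : Subgroup Ω) (f : Ω → Ω) :
    IsMapOn N P f ↔ IsNormMapOn F X P f := by
  constructor
  · rintro ⟨φ, hφ, hφf⟩
    rw [hN P] at hφ
    exact ((mem_normalizerHom_iff F X φ).1 hφ).congr
      (fun x hx => by rw [extHom_apply φ hx]; exact hφf ⟨x, hx⟩)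
  · intro h
    obtain ⟨φ, hφ, hφf⟩ := h.1
    refine ⟨φ, ?_, hφf⟩
    rw [hN P, mem_normalizerHom_iff]
    exact h.congr (fun x hx => by rw [extHom_apply φ hx]; exact (hφf ⟨x, hx⟩).symm)

theorem isNormMapOn_of_normalizerSystem {F : FusionSystem S} {X : Subgroup Ω}
    {N : FusionSystem (normalizerIn S X)} (hN : F.IsNormalizerSystem X N) {Y P : Subgroup Ω} {f : Ω → Ω}
    (h : IsNormMapOn N Y P f) : IsNormMapOn F Y P f := by
  have hsub : ∀ P f, IsMapOn N P f → IsMapOn F P f :=
    fun P f h => ((isMapOn_normalizerSystem_iff hN P f).1 h).1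
  obtain ⟨h1, h2, h3, g, hg1, hg2, hg3⟩ := h
  have hle : normalizerIn (normalizerIn S X) Y ≤ normalizerIn S Y :=
    inf_le_inf_right _ (normalizerIn_le S X)
  exact ⟨hsub _ _ h1, h2.trans hle, fun x hx => hle (h3 x hx), g, hsub _ _ hg1, hg2, hg3⟩

theorem isNormMapOn_bot {F : FusionSystem S} {P : Subgroup Ω} {f : Ω → Ω} (hf : IsMapOn F P f) :
    IsNormMapOn F ⊥ P f := by
  have hPS : P ≤ S := hf.le
  have hSN : S ≤ normalizerIn S ⊥ := by
    refine le_inf le_rfl fun g _ => ?_
    rw [Subgroup.mem_normalizer_iff]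
    intro h
    simp [Subgroup.mem_bot]
  refine ⟨hf, hPS.trans hSN, fun x hx => hSN (hf.mem hx), f, ?_, fun _ _ => rfl, fun y => ?_⟩
  · rw [sup_bot_eq]
    exact hf
  · constructor
    · intro hy
      rw [Subgroup.mem_bot] at hy
      exact ⟨1, Subgroup.one_mem _, by rw [hy]; exact hf.map_one⟩
    · rintro ⟨x, hx, rfl⟩
      rw [Subgroup.mem_bot] at hx
      rw [hx, hf.map_one]
      exact Subgroup.one_mem _

/-! ### The main induction -/

/-- The Glauberman-Thompson reduction theorem in functor form. -/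
theorem gt_main [Fact p.Prime] (hW : IsCharPFunctor p W) (hG : GroupHyp p W) : ∀ n : ℕ, GTStatement p W n := by
  intro n
  induction n using Nat.strong_induction_on with
  | _ n IH =>
  intro Ω _ S _ hn hS F hF D hD hWD
  subst hn
  classical
  by_contra hcon
  have hDS : D ≤ S := hD.1
  have hSD : S ≤ Subgroup.normalizer (D : Set Ω) := stronglyClosed_le_normalizer hD
  -- `D` is not trivial
  have hDne : D ≠ ⊥ := by
    rintro rfl
    apply hcon
    refine PInnerOn.mono (fun P f hf => ?_) hWD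
    rw [ind_bot]
    exact isNormMapOn_bot hf
  -- the maximal choice
  let μ : Subgroup Ω → ℕ := fun X => Nat.card (normalizerIn S X) * (Nat.card S + 1) + Nat.card X
  let XX : Subgroup Ω → Prop := fun X =>
    X ≠ ⊥ ∧ F.IsFullyNormalized X ∧ ¬ PInnerOn p (IsNormMapOn F X)
  have hex : ∃ X, XX X := exists_of_not_pInnerOn hS F hF hcon
  let A : Set ℕ := {m | ∃ X, XX X ∧ μ X = m}
  have hAne : A.Nonempty := by
    obtain ⟨X, hX⟩ := hex
    exact ⟨μ X, X, hX, rfl⟩
  have hAbdd : BddAbove A := by
    refine ⟨Nat.card S * (Nat.card S + 1) + Nat.card S, ?_⟩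
    rintro m ⟨X, hX, rfl⟩
    have h1 : Nat.card (normalizerIn S X) ≤ Nat.card S := Subgroup.card_le_of_le (normalizerIn_le S X)
    have h2 : Nat.card X ≤ Nat.card S := Subgroup.card_le_of_le hX.2.1.1
    exact Nat.add_le_add (Nat.mul_le_mul_right _ h1) h2
  obtain ⟨X, hXX, hXmax⟩ : ∃ X, XX X ∧ ∀ Y, XX Y → μ Y ≤ μ X := by
    obtain ⟨X, hX, hXm⟩ := Nat.sSup_mem hAne hAbdd
    exact ⟨X, hX, fun Y hY => by rw [hXm]; exact le_csSup hAbdd ⟨Y, hY, rfl⟩⟩
  obtain ⟨hXne, hXfn, hXnpi⟩ := hXX
  have hXS : X ≤ S := hXfn.1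
  have hcardX : Nat.card X ≤ Nat.card S := Subgroup.card_le_of_le hXS
  -- the normalizer system
  set T := normalizerIn S X with hT
  have hTS : T ≤ S := normalizerIn_le S X
  haveI hfinT : Finite T := Finite.of_injective (Subgroup.inclusion hTS) (Subgroup.inclusion_injective hTS)
  have hTp : IsPGroup p T := hS.to_le hTS
  set N := Cfsg.Agent.Lib.Helper85_Fusion.normalizerSystem F X hXS with hNdef
  have hN : F.IsNormalizerSystem X N := Cfsg.Agent.Lib.Helper85_Fusion.normalizerSystem_isNormalizerSystem F X hXS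
  have hNsat : N.IsSaturated p := Cfsg.Agent.S5098.result p hS F hF X hXfn N hN
  have hNX : ¬ PInnerOn p (IsMapOn N) := by
    intro h
    exact hXnpi (PInnerOn.mono (fun P f hf => (isMapOn_normalizerSystem_iff hN P f).2 hf) h)
  by_cases hTeq : T = S
  · -- `X` is normal in `S`
    have hcardT : Nat.card T = Nat.card S := by rw [hTeq]
    have hXnN : N.IsNormal X := Cfsg.Agent.Lib.Helper88_Model.isNormal_of_isNormalizerSystem F hXS N hN
    have hDN : N.StronglyClosed D := by
      refine ⟨hDS.trans hTeq.ge, fun R hR φ hφ x => ?_⟩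
      have hφF : IsMapOn F R (extHom φ) :=
        ((isMapOn_normalizerSystem_iff hN R _).1 (isMapOn_extHom N hφ)).1
      exact hD.2 R hR φ ((mem_hom_iff_isMapOn F φ).2 hφF) x
    have hM' : ∀ Y : Subgroup Ω, X < Y → Y ≤ T → T ≤ Subgroup.normalizer (Y : Set Ω) →
        PInnerOn p (IsNormMapOn N Y) := by
      intro Y hXY hYT hTY
      by_contra hY
      have hYF : ¬ PInnerOn p (IsNormMapOn F Y) := fun h =>
        hY (PInnerOn.mono (fun P f hf => isNormMapOn_of_normalizerSystem hN hf) h)
      have hYS : Y ≤ S := hYT.trans hTS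
      have hNY : normalizerIn S Y = S := by
        refine le_antisymm (normalizerIn_le S Y) (le_inf le_rfl ?_)
        rw [← hTeq]
        exact hTY
      have hYne : Y ≠ ⊥ := by
        rintro rfl
        exact hXne (le_bot_iff.1 hXY.le)
      have hYfn : F.IsFullyNormalized Y := by
        refine ⟨hYS, fun Q _ => ?_⟩
        rw [hNY]
        exact Subgroup.card_le_of_le (normalizerIn_le S Q)
      have h1 := hXmax Y ⟨hYne, hYfn, hYF⟩
      have h2 : Nat.card X < Nat.card Y := by
        haveI : Finite Y := Finite.of_injective (Subgroup.inclusion hYS) (Subgroup.inclusion_injective hYS)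
        exact card_lt_of_lt hXY
      have h3 : μ Y = Nat.card S * (Nat.card S + 1) + Nat.card Y := by
        show Nat.card (normalizerIn S Y) * (Nat.card S + 1) + Nat.card Y = _
        rw [hNY]
      have h4 : μ X = Nat.card S * (Nat.card S + 1) + Nat.card X := by
        show Nat.card (normalizerIn S X) * (Nat.card S + 1) + Nat.card X = _
        rw [← hT, hTeq]
      rw [h3, h4] at h1
      omega
    have hWD' : PInnerOn p (IsNormMapOn N (inducedFunctor W D)) :=
      PInnerOn.mono (fun P f hf => isNormMapOn_of_normalizerSystem hN hf) hWD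
    have IH' : ∀ m < Nat.card T, GTStatement p W m := by
      rw [hcardT]
      exact IH
    exact hNX (normal_case hW hG hTp IH' N hNsat hDN hXnN hXne hM' hWD')
  · -- `N_S(X)` is a proper subgroup
    have hTlt : T < S := lt_of_le_of_ne hTS hTeq
    have hcardlt : Nat.card T < Nat.card S := card_lt_of_lt hTlt
    set D₁ := D ⊓ T with hD₁
    have hD₁T : D₁ ≤ T := inf_le_right
    have hD₁sc : N.StronglyClosed D₁ := by
      refine ⟨hD₁T, fun R hR φ hφ x => ?_⟩
      have hφF : IsMapOn F R (extHom φ) :=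
        ((isMapOn_normalizerSystem_iff hN R _).1 (isMapOn_extHom N hφ)).1
      exact ⟨hD.2 R (hR.trans inf_le_left) φ ((mem_hom_iff_isMapOn F φ).2 hφF) x, hom_mem N hφ x⟩
    set W₁ := inducedFunctor W D₁ with hW₁
    have h1 : ¬ PInnerOn p (IsNormMapOn N W₁) := fun h =>
      hNX (IH _ hcardlt Ω T rfl hTp N hNsat D₁ hD₁sc h)
    have h2 : ¬ PInnerOn p (IsNormMapOn F W₁) := fun h =>
      h1 (PInnerOn.mono (fun P f hf => isNormMapOn_of_normalizerSystem hN hf) h)
    have hD₁S : D₁ ≤ S := hD₁T.trans hTS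
    haveI hfinD₁ : Finite D₁ :=
      Finite.of_injective (Subgroup.inclusion hD₁S) (Subgroup.inclusion_injective hD₁S)
    have hD₁p : IsPGroup p D₁ := hS.to_le hD₁S
    -- `D ∩ N_S(X)` is not trivial
    have hD₁ne : D₁ ≠ ⊥ := by
      haveI : (D.subgroupOf S).Normal := (Subgroup.normal_subgroupOf_iff_le_normalizer hDS).2 hSD
      have hne : D.subgroupOf S ≠ ⊥ := by
        intro h
        rw [Subgroup.subgroupOf_eq_bot] at h
        exact hDne (disjoint_self.1 (h.mono_right hDS))
      obtain ⟨z, hzD, hzc, hz1⟩ :=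
        Cfsg.Agent.Lib.Helper32_PGroup.exists_mem_center_of_normal hS (D.subgroupOf S) hne
      have hzc' : ∀ s ∈ S, s * (z : Ω) = (z : Ω) * s := by
        intro s hs
        have := (Subgroup.mem_center_iff.1 hzc) ⟨s, hs⟩
        exact congrArg Subtype.val this
      have hzT : (z : Ω) ∈ T := by
        refine Subgroup.mem_inf.2 ⟨z.2, ?_⟩
        rw [Subgroup.mem_normalizer_iff]
        intro x
        constructor
        · intro hx
          have h3 : (z : Ω) * x * (z : Ω)⁻¹ = x := by
            rw [← hzc' x (hXS hx)]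
            group
          rw [h3]
          exact hx
        · intro hx
          have h4 := hzc' _ (hXS hx)
          have h3 : x = (z : Ω) * x * (z : Ω)⁻¹ := by
            have h5 : (z : Ω) * x = (z : Ω) * ((z : Ω) * x * (z : Ω)⁻¹) := by
              rw [← h4]
              group
            exact mul_left_cancel h5
          rw [h3]
          exact hx
      intro h
      have hz : (z : Ω) ∈ D₁ := ⟨Subgroup.mem_subgroupOf.1 hzD, hzT⟩
      rw [h, Subgroup.mem_bot] at hz
      exact hz1 (Subtype.ext hz)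
    have hW₁ne : W₁ ≠ ⊥ := ind_ne_bot hW D₁ hD₁p hD₁ne
    have hW₁S : W₁ ≤ S := (ind_le D₁).trans hD₁S
    -- `N_S(W₁)` is larger than `N_S(X)`
    have hNT : normalizerIn S T ≤ normalizerIn S W₁ := by
      intro g hg
      have hgS : g ∈ S := (normalizerIn_le S T) hg
      have hgT : g ∈ Subgroup.normalizer (T : Set Ω) := (normalizerIn_le_normalizer S T) hg
      refine Subgroup.mem_inf.2 ⟨hgS, ?_⟩
      apply normalizer_le hW D₁ hD₁p
      have hgD := hSD hgS
      rw [Subgroup.mem_normalizer_iff] at hgD hgT ⊢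
      intro h
      rw [hD₁, Subgroup.mem_inf, Subgroup.mem_inf, ← hgD h, ← hgT h]
    have hTltN : T < normalizerIn S T := lt_normalizerIn hS hTS hTeq
    have hcard1 : Nat.card T < Nat.card (normalizerIn S W₁) := by
      have hfin : Finite (normalizerIn S T) :=
        Finite.of_injective (Subgroup.inclusion (normalizerIn_le S T)) (Subgroup.inclusion_injective _)
      have hfin' : Finite (normalizerIn S W₁) :=
        Finite.of_injective (Subgroup.inclusion (normalizerIn_le S W₁)) (Subgroup.inclusion_injective _)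
      exact lt_of_lt_of_le (card_lt_of_lt hTltN) (Subgroup.card_le_of_le hNT)
    -- a fully normalized conjugate
    obtain ⟨W₂, hconj, hfa, hrec⟩ := hF W₁ hW₁S
    have hW₂npi : ¬ PInnerOn p (IsNormMapOn F W₂) := not_pInnerOn_transport hS F hfa hrec hconj h2
    have hW₂S : W₂ ≤ S := hfa.1
    haveI hfinW₁ : Finite W₁ :=
      Finite.of_injective (Subgroup.inclusion hW₁S) (Subgroup.inclusion_injective hW₁S)
    haveI hfinW₂ : Finite W₂ :=
      Finite.of_injective (Subgroup.inclusion hW₂S) (Subgroup.inclusion_injective hW₂S)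
    have hW₂ne : W₂ ≠ ⊥ := by
      rw [← Subgroup.one_lt_card_iff_ne_bot, ← Cfsg.Agent.Lib.Helper85_Fusion.isConj_card_eq F hconj,
        Subgroup.one_lt_card_iff_ne_bot]
      exact hW₁ne
    have hW₂fn : F.IsFullyNormalized W₂ :=
      Cfsg.Agent.S5301.isFullyNormalized_of_isFullyAutomized_of_isReceptive hS F hfa hrec
    have hcard2 : Nat.card (normalizerIn S W₁) ≤ Nat.card (normalizerIn S W₂) :=
      hW₂fn.2 W₁ (Cfsg.Agent.Lib.Helper85_Fusion.isConj_symm F hconj)
    have h3 := hXmax W₂ ⟨hW₂ne, hW₂fn, hW₂npi⟩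
    have h4 : Nat.card T + 1 ≤ Nat.card (normalizerIn S W₂) := by omega
    have h5 : (Nat.card T + 1) * (Nat.card S + 1) ≤ μ W₂ :=
      le_trans (Nat.mul_le_mul_right _ h4) (Nat.le_add_right _ _)
    have h6 : μ X = Nat.card T * (Nat.card S + 1) + Nat.card X := rfl
    rw [h6] at h3
    nlinarith

end Cfsg.Agent.Lib.Helper87_GTMain
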