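import Cfsg.Agent.Lib.Helper88_KLB1
import Cfsg.Agent.Lib.Helper87_GTMain
import Cfsg.Agent.Lib.Helper87_GTTransport
import Cfsg.Agent.Lib.Helper87_Normal
import Cfsg.Agent.Lib.Helper84_FusionSat
import Cfsg.Agent.Lib.Helper84_FusionRS

/-!
Kessar–Linckelmann Theorem B (helper88), part 2: the climbing lemma.  Let `W` be an
isomorphism-invariant `p`-group functor and `F` a saturated fusion system over `S`.  If for every
nontrivial fully normalized subgroup `V` the subgroup `W(N_S(V))` is normal in `N_F(V)`, then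
`W(S)` is normal in `F`.
-/

set_option autoImplicit false

universe u

namespace Cfsg.Agent.Lib.Helper88_KLB2

open Cfsg Cfsg.FusionSystem Cfsg.Agent.Lib.Helper85_Fusion Cfsg.Agent.Lib.Helper88_Model
  Cfsg.Agent.Lib.Helper87_Alperin Cfsg.Agent.Lib.Helper87_Alperin2 Cfsg.Agent.Lib.Helper87_PInner
  Cfsg.Agent.Lib.Helper88_KLB1 Cfsg.Agent.Lib.Helper87_GTTransport

section Basic

variable {Ω : Type*} [Group Ω] {S : Subgroup Ω}

/-- A map of the system carrying a finite subgroup `V` of its source into itself carries it onto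
itself. -/
theorem exists_preimage_of_mapsTo {F : FusionSystem S} {P V : Subgroup Ω} {f : Ω → Ω}
    (hf : IsMapOn F P f) (hVP : V ≤ P) [Finite V] (hfV : ∀ x ∈ V, f x ∈ V) :
    ∀ y ∈ V, ∃ x ∈ V, f x = y := by
  let c : V → V := fun x => ⟨f x, hfV x x.2⟩
  have hinj : Function.Injective c := by
    intro a b hab
    have h1 : f a = f b := congrArg Subtype.val hab
    exact Subtype.ext (hf.injOn (hVP a.2) (hVP b.2) h1)
  have hsurj : Function.Surjective c := Finite.injective_iff_surjective.1 hinj
  intro y hy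
  obtain ⟨x, hx⟩ := hsurj ⟨y, hy⟩
  exact ⟨x, x.2, congrArg Subtype.val hx⟩

/-- A map of the system whose source contains `V`, lies in `N_S(V)` and which carries `V` into
itself is a map of the normalizer system of `V`. -/
theorem isNormMapOn_of_mapsTo {F : FusionSystem S} {P V : Subgroup Ω} {f : Ω → Ω}
    (hf : IsMapOn F P f) (hVP : V ≤ P) [Finite V] (hPN : P ≤ normalizerIn S V)
    (hfN : ∀ x ∈ P, f x ∈ normalizerIn S V) (hfV : ∀ x ∈ V, f x ∈ V) : IsNormMapOn F V P f := by
  refine ⟨hf, hPN, hfN, f, hf.mono (sup_le le_rfl hVP), fun _ _ => rfl, fun y => ⟨?_, ?_⟩⟩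
  · intro hy
    exact exists_preimage_of_mapsTo hf hVP hfV y hy
  · rintro ⟨x, hx, rfl⟩
    exact hfV x hx

theorem mapsTo_of_mapsTo_normalizer {F : FusionSystem S} {P V : Subgroup Ω} {f : Ω → Ω}
    (hf : IsMapOn F P f) (hVP : V ≤ P) [Finite V] (hfV : ∀ x ∈ V, f x ∈ V) {x : Ω} (hx : x ∈ P)
    (hxN : x ∈ Subgroup.normalizer (V : Set Ω)) : f x ∈ Subgroup.normalizer (V : Set Ω) := by
  have key : ∀ v ∈ V, f x * v * (f x)⁻¹ ∈ V := by
    intro v hv
    obtain ⟨w, hw, rfl⟩ := exists_preimage_of_mapsTo hf hVP hfV v hv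
    have h1 : x * w * x⁻¹ ∈ V := (Subgroup.mem_normalizer_iff.1 hxN w).1 hw
    have h2 : f (x * w * x⁻¹) = f x * f w * (f x)⁻¹ := by
      rw [hf.map_mul (P.mul_mem hx (hVP hw)) (P.inv_mem hx), hf.map_mul hx (hVP hw), hf.map_inv hx]
    rw [← h2]
    exact hfV _ h1
  exact Subgroup.mem_normalizer_fintype key

end Basic

section Climb

variable {Ω : Type u} [Group Ω] {S : Subgroup Ω} {p : ℕ} {W : ∀ (Q : Type u) [Group Q], Subgroup Q}

/-- **The climbing lemma.** -/
theorem isNormal_ind_of_local [Finite S] [Fact p.Prime] (hW : Cfsg.IsCharPFunctor.{u} p W)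
    (hS : IsPGroup p S) (F : FusionSystem S) (hF : F.IsSaturated p)
    (hloc : ∀ V : Subgroup Ω, V ≠ ⊥ → F.IsFullyNormalized V →
      ∀ N : FusionSystem (normalizerIn S V), F.IsNormalizerSystem V N →
        N.IsNormal (Cfsg.inducedFunctor W (normalizerIn S V))) :
    F.IsNormal (Cfsg.inducedFunctor W S) := by
  classical
  set U : Subgroup Ω := Cfsg.inducedFunctor W S with hUdef
  have hUS : U ≤ S := Cfsg.Agent.Lib.Helper34_NPC.inducedFunctor_le W S
  have hSU : S ≤ Subgroup.normalizer (U : Set Ω) := Helper84_KLRealized.inducedFunctor_le_of_le hW hS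
  have hnorm : normalizerIn S U = S := le_antisymm inf_le_left (le_inf le_rfl hSU)
  have hNU := normalizerSystem_isNormalizerSystem F U hUS
  let E : FusionSystem S := Helper87_Normal.castSystem hnorm (normalizerSystem F U hUS)
  have hEiff : ∀ (P : Subgroup Ω) (f : Ω → Ω), IsMapOn E P f ↔ IsNormMapOn F U P f := by
    intro P f
    rw [← Helper87_GTMain.isMapOn_normalizerSystem_iff hNU P f]
    unfold IsMapOn
    rw [Helper87_Normal.castSystem_hom hnorm _ P]
  have hfinsub : ∀ {A : Subgroup Ω}, A ≤ S → Finite A := fun h => Helper84_FusionRS.finite_of_le_S h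
  -- the local hypothesis in function form
  have hlocal : ∀ (V B : Subgroup Ω) (f : Ω → Ω), V ≠ ⊥ → F.IsFullyNormalized V → V ≤ B →
      B ≤ normalizerIn S V → IsMapOn F B f → (∀ x ∈ B, f x ∈ B) → (∀ x ∈ V, f x ∈ V) →
      ∃ g : Ω → Ω, IsMapOn F (B ⊔ Cfsg.inducedFunctor W (normalizerIn S V)) g ∧
        (∀ x ∈ B, g x = f x) ∧
        ∀ x ∈ Cfsg.inducedFunctor W (normalizerIn S V), g x ∈ Cfsg.inducedFunctor W (normalizerIn S V) := by
    intro V B f hVne hVfn hVB hBN hf hfB hfV
    have hVS : V ≤ S := hVfn.1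
    have : Finite V := hfinsub hVS
    have hN := normalizerSystem_isNormalizerSystem F V hVS
    have h1 : IsNormMapOn F V B f :=
      isNormMapOn_of_mapsTo hf hVB hBN (fun x hx => hBN (hfB x hx)) hfV
    have h2 : IsMapOn (normalizerSystem F V hVS) B f :=
      (Helper87_GTMain.isMapOn_normalizerSystem_iff hN B f).2 h1
    have h3 := controls_of_isNormal (hloc V hVne hVfn _ hN) B f h2
    obtain ⟨-, -, -, g, hg1, hg2, hg3⟩ := h3
    exact ⟨g, ((Helper87_GTMain.isMapOn_normalizerSystem_iff hN _ g).1 hg1).1, hg2,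
      fun x hx => (hg3 _).2 ⟨x, hx, rfl⟩⟩
  have hmain : ∀ (P : Subgroup Ω) (f : Ω → Ω), IsMapOn F P f → IsMapOn E P f := by
    apply alperin_induction_isMapOn F hS hF E
    intro Q hQa hQr hIH α hα
    have hQS : Q ≤ S := hQa.1
    have hfinQ : Finite Q := hfinsub hQS
    have hf : IsMapOn F Q (extFun α) := (Helper87_Alperin.mem_autGroup_iff F hQS α).1 hα
    by_cases hQbot : Q = ⊥
    · have h1 : IsMapOn E Q (fun x => x) := IsMapOn.id E hQS
      refine h1.congr fun x hx => ?_
      rw [hQbot, Subgroup.mem_bot] at hx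
      subst hx
      exact hf.map_one.symm
    -- the climbing claim
    have claim : ∀ j : ℕ, ∀ (B T : Subgroup Ω) (β : Ω → Ω), Nat.card B = Nat.card Q → B ≤ T → T ≤ S →
        B ≠ ⊥ → Nat.card S - Nat.card T = j → IsMapOn F B β → (∀ x ∈ B, β x ∈ B) →
        Cfsg.inducedFunctor W T ≤ B → (∀ x ∈ Cfsg.inducedFunctor W T, β x ∈ Cfsg.inducedFunctor W T) →
        IsMapOn E B β := by
      intro j
      induction j using Nat.strong_induction_on with
      | _ j ih =>
      intro B T β hcardB hBT hTS hBne hj hβ hβB hWB hβW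
      have hBS : B ≤ S := hBT.trans hTS
      by_cases hTeq : T = S
      · subst hTeq
        have : Finite U := hfinsub hUS
        rw [hEiff]
        exact isNormMapOn_of_mapsTo hβ hWB (hnorm.symm ▸ hBS)
          (fun x hx => hnorm.symm ▸ hBS (hβB x hx)) hβW
      · have hTlt : T < S := lt_of_le_of_ne hTS hTeq
        have hfinT : Finite T := hfinsub hTS
        have hTp : IsPGroup p T := hS.to_le hTS
        have hTne : T ≠ ⊥ := fun h => hBne (le_bot_iff.1 (h ▸ hBT))
        set V : Subgroup Ω := Cfsg.inducedFunctor W T with hVdef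
        have hVT : V ≤ T := Cfsg.Agent.Lib.Helper34_NPC.inducedFunctor_le W T
        have hVS : V ≤ S := hVT.trans hTS
        have hVne : V ≠ ⊥ := Cfsg.Agent.Lib.Helper34_NPC.inducedFunctor_ne_bot hW hTp hTne
        have hTNV : normalizerIn S T ≤ normalizerIn S V :=
          inf_le_inf_left _ (Cfsg.Agent.Lib.Helper34_NPC.normalizer_le_normalizer_inducedFunctor hW T hTp)
        have hTltN : T < normalizerIn S T := Helper84_FusionAlperin.lt_normalizerIn hS hTlt
        have hTNV' : T ≤ normalizerIn S V := hTltN.le.trans hTNV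
        have hfinNV : Finite ↥(normalizerIn S V) := hfinsub inf_le_left
        have hcardT : Nat.card T < Nat.card ↥(normalizerIn S V) :=
          (Helper84_FusionAlperin.card_lt_card_of_lt inf_le_left hTltN).trans_le
            (Subgroup.card_le_of_le hTNV)
        have hcardBT : Nat.card B ≤ Nat.card T := Subgroup.card_le_of_le hBT
        obtain ⟨V', hconj, hV'fn⟩ := Helper84_FusionRS.exists_isFullyNormalized_conj F hVS
        have hV'a := Helper84_FusionRS.IsSaturated.isFullyAutomized hS hF hV'fn
        have hV'r := Helper84_FusionRS.IsSaturated.isReceptive_of_isFullyNormalized hS hF hV'fn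
        obtain ⟨φ, hφ, hφN, hφV⟩ := Helper84_FusionSat.exists_normalizer_map hS F hV'a hV'r hconj
        have hV'S : V' ≤ S := hV'fn.1
        set t : Ω → Ω := extHom φ with htdef
        have ht : IsMapOn F (normalizerIn S V) t := isMapOn_extHom F hφ
        have htN : ∀ x ∈ normalizerIn S V, t x ∈ normalizerIn S V' := by
          intro x hx
          rw [htdef, extHom_apply φ hx]
          exact hφN _
        have hVN : V ≤ normalizerIn S V := le_normalizerIn hVS
        have htV : ∀ y, y ∈ V' ↔ ∃ x ∈ V, t x = y := by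
          intro y
          rw [← hφV]
          constructor
          · rintro ⟨z, hz, rfl⟩
            exact ⟨z, Subgroup.mem_subgroupOf.1 hz, extHom_coe φ z⟩
          · rintro ⟨x, hx, rfl⟩
            refine ⟨⟨x, hVN hx⟩, Subgroup.mem_subgroupOf.2 hx, ?_⟩
            rw [htdef, extHom_apply φ (hVN hx)]
        have hV'ne : V' ≠ ⊥ := by
          intro h
          apply hVne
          rw [Subgroup.eq_bot_iff_forall]
          intro x hx
          have h1 : t x ∈ V' := (htV _).2 ⟨x, hx, rfl⟩
          rw [h, Subgroup.mem_bot] at h1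
          exact ht.injOn (hVN hx) (Subgroup.one_mem _) (h1.trans ht.map_one.symm)
        have htE : IsMapOn E (normalizerIn S V) t :=
          hIH _ t (by rw [← hcardB]; exact lt_of_le_of_lt hcardBT hcardT) ht
        have hBN : B ≤ normalizerIn S V := hBT.trans hTNV'
        -- the inverse of `t`
        obtain ⟨s, hs, hst, hsD, hts⟩ :=
          ht.inv (Q := imgSub ht (normalizerIn S V) le_rfl) (fun y => Iff.rfl)
        obtain ⟨sE, hsE, hsEt, -, -⟩ :=
          htE.inv (Q := imgSub ht (normalizerIn S V) le_rfl) (fun y => Iff.rfl)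
        set B' : Subgroup Ω := imgSub ht B hBN with hB'def
        have hB'img : B' ≤ imgSub ht (normalizerIn S V) le_rfl := imgSub_mono ht hBN le_rfl hBN
        set T' : Subgroup Ω := normalizerIn S V' with hT'def
        have hB'T' : B' ≤ T' := by
          rintro _ ⟨x, hx, rfl⟩
          exact htN x (hBN hx)
        have hsB' : ∀ y ∈ B', s y ∈ B := by
          rintro _ ⟨x, hx, rfl⟩
          rw [hst x (hBN hx)]
          exact hx
        set β' : Ω → Ω := fun y => t (β (s y)) with hβ'def
        have hβ' : IsMapOn F B' β' :=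
          ((hs.mono hB'img).comp hβ hsB').comp (ht.mono hBN) (fun y hy => hβB _ (hsB' y hy))
        have hβ't : ∀ x ∈ B, β' (t x) = t (β x) := by
          intro x hx
          show t (β (s (t x))) = t (β x)
          rw [hst x (hBN hx)]
        have hβ'B' : ∀ y ∈ B', β' y ∈ B' := by
          rintro _ ⟨x, hx, rfl⟩
          rw [hβ't x hx]
          exact ⟨β x, hβB x hx, rfl⟩
        have hV'B' : V' ≤ B' := by
          intro y hy
          obtain ⟨x, hx, rfl⟩ := (htV y).1 hy
          exact ⟨x, hWB hx, rfl⟩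
        have hβ'V' : ∀ y ∈ V', β' y ∈ V' := by
          intro y hy
          obtain ⟨x, hx, rfl⟩ := (htV y).1 hy
          rw [hβ't x (hWB hx)]
          exact (htV _).2 ⟨β x, hβW x hx, rfl⟩
        have hcardB' : Nat.card B' = Nat.card Q := by
          rw [← hcardB]
          exact (Nat.card_congr (imgEquiv ht B hBN).toEquiv).symm
        have hB'ne : B' ≠ ⊥ := by
          intro h
          apply hBne
          rw [Subgroup.eq_bot_iff_forall]
          intro x hx
          have h1 : t x ∈ B' := ⟨x, hx, rfl⟩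
          rw [h, Subgroup.mem_bot] at h1
          exact ht.injOn (hBN hx) (Subgroup.one_mem _) (h1.trans ht.map_one.symm)
        have hT'S : T' ≤ S := inf_le_left
        obtain ⟨g, hg1, hg2, hg3⟩ :=
          hlocal V' B' β' hV'ne hV'fn hV'B' hB'T' hβ' hβ'B' hβ'V'
        -- `β'` is a map of `E`
        have hβ'E : IsMapOn E B' β' := by
          by_cases hle : Cfsg.inducedFunctor W T' ≤ B'
          · have hcardT' : Nat.card ↥(normalizerIn S V) ≤ Nat.card T' :=
              hV'fn.2 V (isConj_symm F hconj)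
            have hfinT' : Finite T' := hfinsub hT'S
            have hT'le : Nat.card T' ≤ Nat.card S := Helper84_FusionAlperin.card_le_card_S hT'S
            have hTle : Nat.card T ≤ Nat.card S := Helper84_FusionAlperin.card_le_card_S hTS
            refine ih (Nat.card S - Nat.card T') (by omega) B' T' β' hcardB' hB'T' hT'S hB'ne rfl hβ'
              hβ'B' hle (fun x hx => ?_)
            rw [← hg2 x (hle hx)]
            exact hg3 x hx
          · have hlt : B' < B' ⊔ Cfsg.inducedFunctor W T' :=
              lt_of_le_of_ne le_sup_left (fun h => hle (le_sup_right.trans (le_of_eq h.symm)))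
            have hDS : B' ⊔ Cfsg.inducedFunctor W T' ≤ S := hg1.le
            have hcard : Nat.card Q < Nat.card ↥(B' ⊔ Cfsg.inducedFunctor W T') := by
              rw [← hcardB']
              exact Helper84_FusionAlperin.card_lt_card_of_lt hDS hlt
            exact ((hIH _ g hcard hg1).mono le_sup_left).congr hg2
        -- back to `β`
        have h1 : IsMapOn E B (fun x => sE (β' (t x))) :=
          ((htE.mono hBN).comp hβ'E (fun x hx => ⟨x, hx, rfl⟩)).comp (hsE.mono hB'img)
            (fun x hx => hβ'B' _ ⟨x, hx, rfl⟩)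
        refine h1.congr fun x hx => ?_
        show sE (β' (t x)) = β x
        rw [hβ't x hx, hsEt _ (hBN (hβB x hx))]
    -- `Q` is fully normalized
    have hQfn : F.IsFullyNormalized Q := by
      refine ⟨hQS, fun Q' hQQ' => ?_⟩
      obtain ⟨ψ, hψ, hψN, -⟩ :=
        Helper84_FusionSat.exists_normalizer_map hS F hQa hQr (isConj_symm F hQQ')
      have : Finite ↥(normalizerIn S Q) := hfinsub inf_le_left
      refine Nat.card_le_card_of_injective (fun x => (⟨ψ x, hψN x⟩ : ↥(normalizerIn S Q))) ?_
      intro a b hab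
      exact F.injective_of_mem hψ (congrArg Subtype.val hab)
    have hQT : Q ≤ normalizerIn S Q := le_normalizerIn hQS
    have hαQ : ∀ x ∈ Q, extFun α x ∈ Q := fun x hx => extFun_mem α hx
    obtain ⟨g, hg1, hg2, hg3⟩ := hlocal Q Q (extFun α) hQbot hQfn le_rfl hQT hf hαQ hαQ
    by_cases hle : Cfsg.inducedFunctor W (normalizerIn S Q) ≤ Q
    · refine claim (Nat.card S - Nat.card ↥(normalizerIn S Q)) Q (normalizerIn S Q) (extFun α) rfl hQT inf_le_left hQbot rfl hf hαQ hle
        (fun x hx => ?_)
      rw [← hg2 x (hle hx)]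
      exact hg3 x hx
    · have hlt : Q < Q ⊔ Cfsg.inducedFunctor W (normalizerIn S Q) :=
        lt_of_le_of_ne le_sup_left (fun h => hle (le_sup_right.trans (le_of_eq h.symm)))
      have hDS : Q ⊔ Cfsg.inducedFunctor W (normalizerIn S Q) ≤ S := hg1.le
      have hcard : Nat.card Q < Nat.card ↥(Q ⊔ Cfsg.inducedFunctor W (normalizerIn S Q)) :=
        Helper84_FusionAlperin.card_lt_card_of_lt hDS hlt
      exact ((hIH _ g hcard hg1).mono le_sup_left).congr hg2
  apply isNormal_of_controls hUS
  intro P f hf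
  exact (hEiff P f).1 (hmain P f hf)

end Climb

end Cfsg.Agent.Lib.Helper88_KLB2
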