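import Cfsg.Agent.Lib.Helper85_Fusion
import Cfsg.Agent.Lib.Helper84_KNormalizer5
import Cfsg.Agent.Lib.Helper84_FusionNormal
import Cfsg.Agent.Lib.Helper87_Alperin

/-!
Kessar–Linckelmann Theorem B (helper88), part 3: construction of the `K`-normalizer system
`N_F^K(Q)` as a fusion system, and the system `S C_F(Q)` (the case `K = Aut_S(Q)`, `Q` normalized
by `S`), which is saturated when `F` is.
-/

set_option autoImplicit false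

namespace Cfsg.Agent.Lib.Helper88_KLB3

open Cfsg Cfsg.FusionSystem Cfsg.Agent.Lib.Helper85_Fusion Cfsg.Agent.Lib.Helper84_KNormalizer

variable {Ω : Type*} [Group Ω] {S : Subgroup Ω}

/-- A map on `P ⊔ Q` restricting to an automorphism of `Q` carries `Q` onto `Q`. -/
theorem map_eq_of_aut {P Q : Subgroup Ω} (ψ : ↥(P ⊔ Q) →* Ω) (κ : MulAut Q)
    (h : ∀ x : Q, ψ (Subgroup.inclusion le_sup_right x) = κ x) :
    (Q.subgroupOf (P ⊔ Q)).map ψ = Q := by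
  ext y
  rw [mem_map_subgroupOf]
  constructor
  · rintro ⟨z, hz, hD, rfl⟩
    have := h ⟨z, hz⟩
    have e : (Subgroup.inclusion le_sup_right (⟨z, hz⟩ : Q) : ↥(P ⊔ Q)) = ⟨z, hD⟩ := rfl
    rw [e] at this
    rw [this]
    exact (κ ⟨z, hz⟩).2
  · intro hy
    refine ⟨(κ⁻¹ ⟨y, hy⟩ : Q), (κ⁻¹ ⟨y, hy⟩ : Q).2, (le_sup_right : Q ≤ P ⊔ Q) (κ⁻¹ ⟨y, hy⟩ : Q).2, ?_⟩
    have := h (κ⁻¹ ⟨y, hy⟩)
    have e : (Subgroup.inclusion le_sup_right (κ⁻¹ ⟨y, hy⟩ : Q) : ↥(P ⊔ Q)) =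
        ⟨((κ⁻¹ ⟨y, hy⟩ : Q) : Ω), (le_sup_right : Q ≤ P ⊔ Q) (κ⁻¹ ⟨y, hy⟩ : Q).2⟩ := rfl
    rw [e] at this
    rw [this, MulAut.apply_inv_self]

/-- The maps of the `K`-normalizer system with source `P`. -/
def kHom (F : FusionSystem S) (Q : Subgroup Ω) (K : Subgroup (MulAut Q)) (N P : Subgroup Ω) :
    Set (P →* Ω) :=
  {φ | φ ∈ F.Hom P ∧ P ≤ N ∧ (∀ x : P, φ x ∈ N) ∧
    ∃ ψ ∈ F.Hom (P ⊔ Q), (∀ x : P, ψ (Subgroup.inclusion le_sup_left x) = φ x) ∧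
      ∃ κ ∈ K, ∀ x : Q, ψ (Subgroup.inclusion le_sup_right x) = κ x}

/-- The `K`-normalizer system `N_F^K(Q)` as a fusion system over `N = N_S^K(Q)`. -/
def kNormalizerSystem (F : FusionSystem S) (Q : Subgroup Ω) (hQ : Q ≤ S) (K : Subgroup (MulAut Q))
    (N : Subgroup Ω) (hN : ∀ g : Ω, g ∈ N ↔ g ∈ S ∧ ∃ κ ∈ K, ∀ x : Q, g * x * g⁻¹ = κ x) :
    FusionSystem N where
  Hom P := kHom F Q K N P
  le_of_mem h := ⟨h.2.1, h.2.2.1⟩
  injective_of_mem h := F.injective_of_mem h.1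
  conj_mem := by
    intro P g hP hg
    have hNS : N ≤ S := fun x hx => ((hN x).1 hx).1
    have hPS : P ≤ S := hP.trans hNS
    obtain ⟨hgS, κ, hκ, hgκ⟩ := (hN g).1 hg
    refine ⟨F.conj_mem hPS hgS, hP, fun x => ?_, conjHom (P ⊔ Q) g,
      F.conj_mem (sup_le hPS hQ) hgS, fun x => rfl, κ, hκ, fun x => hgκ x⟩
    exact N.mul_mem (N.mul_mem hg (hP x.2)) (N.inv_mem hg)
  comp_mem := by
    rintro P P' φ ψ ⟨hφ, hPN, hφN, φ', hφ', hext, κ₁, hκ₁, hφ'κ⟩ ⟨hψ, hPN', hψN, ψ', hψ', hext', κ₂, hκ₂, hψ'κ⟩ h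
    have himg := map_eq_of_aut φ' κ₁ hφ'κ
    have hr : (P.subgroupOf (P ⊔ Q)).map φ' = φ.range :=
      map_subgroupOf_eq_range_of_ext le_sup_left φ φ' hext
    have h' : ∀ x : ↥(P ⊔ Q), φ' x ∈ P' ⊔ Q := by
      intro x
      have h1 : φ' x ∈ φ'.range := ⟨x, rfl⟩
      rw [range_eq_sup_map, hr, himg] at h1
      refine (sup_le_sup_right ?_ Q) h1
      rintro _ ⟨y, rfl⟩
      exact h y
    refine ⟨F.comp_mem hφ hψ h, hPN, fun x => hψN _, ψ'.comp (φ'.codRestrict (P' ⊔ Q) h'),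
      F.comp_mem hφ' hψ' h', fun x => ?_, κ₂ * κ₁, K.mul_mem hκ₂ hκ₁, fun x => ?_⟩
    · show ψ' ⟨φ' (Subgroup.inclusion le_sup_left x), _⟩ = ψ ⟨φ x, h x⟩
      rw [← hext' ⟨φ x, h x⟩]
      congr 1
      exact Subtype.ext (hext x)
    · show ψ' ⟨φ' (Subgroup.inclusion le_sup_right x), _⟩ = ((κ₂ * κ₁) x : Q)
      rw [MulAut.mul_apply, ← hψ'κ (κ₁ x)]
      congr 1
      exact Subtype.ext (hφ'κ x)
  inv_mem := by
    rintro P φ ⟨hφ, hPN, hφN, φ', hφ', hext, κ₁, hκ₁, hφ'κ⟩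
    have himg := map_eq_of_aut φ' κ₁ hφ'κ
    obtain ⟨χ, hχ, hχinv⟩ := F.inv_mem hφ'
    have hr : (P.subgroupOf (P ⊔ Q)).map φ' = φ.range :=
      map_subgroupOf_eq_range_of_ext le_sup_left φ φ' hext
    have hle : φ.range ⊔ Q ≤ φ'.range := by
      rw [range_eq_sup_map, hr, himg]
    have hval : ∀ (x : P) (hx : φ x ∈ φ'.range), χ ⟨φ x, hx⟩ = (x : Ω) := by
      intro x hx
      have h1 := hχinv (Subgroup.inclusion le_sup_left x)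
      have h2 : (⟨φ' (Subgroup.inclusion le_sup_left x), ⟨_, rfl⟩⟩ : φ'.range) = ⟨φ x, hx⟩ :=
        Subtype.ext (hext x)
      rw [h2] at h1
      exact h1
    refine ⟨χ.comp (Subgroup.inclusion (le_sup_left.trans hle)),
      ⟨restrict_mem F _ hχ, ?_, ?_, χ.comp (Subgroup.inclusion hle), restrict_mem F hle hχ,
        fun x => rfl, κ₁⁻¹, K.inv_mem hκ₁, fun x => ?_⟩, fun x => hval x _⟩
    · rintro _ ⟨x, rfl⟩
      exact hφN x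
    · rintro ⟨_, x, rfl⟩
      show χ ⟨φ x, _⟩ ∈ N
      rw [hval x]
      exact hPN x.2
    · have h1 := hχinv (Subgroup.inclusion le_sup_right (κ₁⁻¹ x))
      have h2 : φ' (Subgroup.inclusion le_sup_right (κ₁⁻¹ x)) = (x : Ω) := by
        rw [hφ'κ, MulAut.apply_inv_self]
      show χ ⟨(x : Ω), _⟩ = ((κ₁⁻¹ x : Q) : Ω)
      have h3 : (⟨φ' (Subgroup.inclusion le_sup_right (κ₁⁻¹ x)), ⟨_, rfl⟩⟩ : φ'.range) =
          ⟨(x : Ω), hle ((le_sup_right : Q ≤ φ.range ⊔ Q) x.2)⟩ := Subtype.ext h2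
      rw [h3] at h1
      exact h1

theorem kNormalizerSystem_isKNormalizerSystem (F : FusionSystem S) (Q : Subgroup Ω) (hQ : Q ≤ S)
    (K : Subgroup (MulAut Q)) (N : Subgroup Ω)
    (hN : ∀ g : Ω, g ∈ N ↔ g ∈ S ∧ ∃ κ ∈ K, ∀ x : Q, g * x * g⁻¹ = κ x) :
    IsKNormalizerSystem F Q K (kNormalizerSystem F Q hQ K N hN) :=
  ⟨hN, fun _ _ => Iff.rfl⟩

/-! ### The system `S C_F(Q)` -/

section SC

open Cfsg.Agent.Lib.Helper87_Alperin

theorem mem_iff_sc {Q : Subgroup Ω} (hSQ : S ≤ Subgroup.normalizer (Q : Set Ω)) (g : Ω) :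
    g ∈ S ↔ g ∈ S ∧ ∃ κ ∈ autInducedBy S Q, ∀ x : Q, g * x * g⁻¹ = κ x := by
  constructor
  · intro hg
    exact ⟨hg, Q.normalizerMonoidHom ⟨g, hSQ hg⟩,
      Helper84_FusionSat.normalizerMonoidHom_mem_autInducedBy hg (hSQ hg), fun x => rfl⟩
  · intro h
    exact h.1

/-- The system `S C_F(Q)` over `S`, for `Q` normalized by `S`: the `K`-normalizer system with
`K = Aut_S(Q)`. -/
def scSystem (F : FusionSystem S) (Q : Subgroup Ω) (hQ : Q ≤ S)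
    (hSQ : S ≤ Subgroup.normalizer (Q : Set Ω)) : FusionSystem S :=
  kNormalizerSystem F Q hQ (autInducedBy S Q) S (mem_iff_sc hSQ)

variable (F : FusionSystem S) {Q : Subgroup Ω} (hQ : Q ≤ S)
  (hSQ : S ≤ Subgroup.normalizer (Q : Set Ω))

theorem scSystem_isKNormalizerSystem :
    IsKNormalizerSystem F Q (autInducedBy S Q) (scSystem F Q hQ hSQ) :=
  kNormalizerSystem_isKNormalizerSystem F Q hQ _ S (mem_iff_sc hSQ)

theorem mem_scSystem_iff {P : Subgroup Ω} (φ : P →* Ω) :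
    φ ∈ (scSystem F Q hQ hSQ).Hom P ↔ φ ∈ F.Hom P ∧ P ≤ S ∧ (∀ x : P, φ x ∈ S) ∧
      ∃ ψ ∈ F.Hom (P ⊔ Q), (∀ x : P, ψ (Subgroup.inclusion le_sup_left x) = φ x) ∧
        ∃ κ ∈ autInducedBy S Q, ∀ x : Q, ψ (Subgroup.inclusion le_sup_right x) = κ x := Iff.rfl

/-- `S C_F(Q)` is saturated. -/
theorem scSystem_isSaturated [Finite S] {p : ℕ} [Fact p.Prime] (hS : IsPGroup p S)
    (hF : F.IsSaturated p) : (scSystem F Q hQ hSQ).IsSaturated p := by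
  refine isSaturated_of_isKNormalizerSystem hS hF hQ ?_ (scSystem_isKNormalizerSystem F hQ hSQ)
  intro φ _
  have h1 : NK S Q (autInducedBy S Q) Q.subtype = S := by
    apply le_antisymm (NK_le _ _ _)
    intro g hg
    exact ⟨hg, Q.normalizerMonoidHom ⟨g, hSQ hg⟩,
      Helper84_FusionSat.normalizerMonoidHom_mem_autInducedBy hg (hSQ hg), fun x => rfl⟩
  rw [h1]
  exact Helper84_FusionAlperin.card_le_card_S (NK_le _ _ _)

/-- Maps of `S C_F(Q)` are maps of `F`. -/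
theorem isMapOn_of_scSystem {P : Subgroup Ω} {f : Ω → Ω}
    (hf : IsMapOn (scSystem F Q hQ hSQ) P f) : IsMapOn F P f := by
  obtain ⟨φ, hφ, hφf⟩ := hf
  exact ⟨φ, hφ.1, hφf⟩

/-- Maps of `F` defined on an overgroup of `Q` and fixing every element of `Q` are maps of
`S C_F(Q)`. -/
theorem isMapOn_scSystem_of_fixes {P : Subgroup Ω} {f : Ω → Ω} (hf : IsMapOn F P f) (hQP : Q ≤ P)
    (hfQ : ∀ x ∈ Q, f x = x) : IsMapOn (scSystem F Q hQ hSQ) P f := by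
  obtain ⟨φ, hφ, hφf⟩ := hf
  refine ⟨φ, ?_, hφf⟩
  have hle : P ⊔ Q ≤ P := sup_le le_rfl hQP
  refine ⟨hφ, (F.le_of_mem hφ).1, (F.le_of_mem hφ).2, φ.comp (Subgroup.inclusion hle),
    restrict_mem F hle hφ, fun x => ?_, 1, Subgroup.one_mem _, fun x => ?_⟩
  · show φ _ = φ x
    congr 1
  · show φ ⟨(x : Ω), _⟩ = x
    rw [hφf]
    exact hfQ x x.2

/-- A map of `S C_F(Q)` defined on an overgroup of `Q` acts on `Q` as conjugation by an element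
of `S`. -/
theorem exists_conj_of_isMapOn_scSystem {P : Subgroup Ω} {f : Ω → Ω}
    (hf : IsMapOn (scSystem F Q hQ hSQ) P f) (hQP : Q ≤ P) :
    ∃ s ∈ S, ∀ x ∈ Q, f x = s * x * s⁻¹ := by
  obtain ⟨φ, ⟨-, -, -, ψ, -, hext, κ, hκ, hψκ⟩, hφf⟩ := hf
  obtain ⟨s, hs, hκs⟩ := (Helper87_Alperin.mem_autInducedBy_iff S Q κ).1 hκ
  refine ⟨s, hs, fun x hx => ?_⟩
  rw [← hφf ⟨x, hQP hx⟩, ← hext ⟨x, hQP hx⟩, ← hκs ⟨x, hx⟩, ← hψκ ⟨x, hx⟩]
  rfl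

/-- `Q` is normal in `S C_F(Q)`. -/
theorem isNormal_scSystem : (scSystem F Q hQ hSQ).IsNormal Q := by
  refine ⟨hQ, fun P φ hφ => ?_⟩
  obtain ⟨hφF, hPS, hφS, ψ, hψ, hext, κ, hκ, hψκ⟩ := hφ
  have hle : (P ⊔ Q) ⊔ Q ≤ P ⊔ Q := sup_le le_rfl le_sup_right
  refine ⟨ψ, ⟨hψ, (F.le_of_mem hψ).1, (F.le_of_mem hψ).2, ψ.comp (Subgroup.inclusion hle),
    restrict_mem F hle hψ, fun x => ?_, κ, hκ, fun x => ?_⟩, hext, map_eq_of_aut ψ κ hψκ⟩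
  · show ψ _ = ψ x
    congr 1
  · exact hψκ x

end SC

end Cfsg.Agent.Lib.Helper88_KLB3
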