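import Cfsg.Agent.Lib.Helper84_ExtBiset
import Cfsg.Agent.Lib.Helper84_FusionNormal
import Cfsg.Agent.Lib.Helper88_Centric
import Cfsg.Agent.Lib.Helper85_FusionNormal

/-!
# The model theorem for constrained fusion systems: from a biset to a model (helper84)

Given a saturated fusion system `F` over `S` with a normal centric subgroup `Q` and a biset `X` over
`A = Aut_F(Q)` all of whose point stabilizers are graphs of maps of `F`, the extension group of the biset is a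
model of `F`.
-/

set_option autoImplicit false

namespace Cfsg.Agent.Lib.Helper84_Model

open Cfsg Cfsg.FusionSystem Cfsg.Agent.Lib.Helper87_Alperin Cfsg.Agent.Lib.Helper84_ExtBiset

universe u v w

variable {Ω : Type u} [Group Ω] {S : Subgroup Ω}

/-- The conjugation action of `S` on a subgroup `Q` that it normalizes, with values in `Aut_F(Q)`. -/
noncomputable def piHom (F : FusionSystem S) {Q : Subgroup Ω} (hQS : Q ≤ S)
    (hN : S ≤ Subgroup.normalizer (Q : Set Ω)) : ↥S →* ↥(F.autGroup Q) :=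
  ((Q.normalizerMonoidHom).comp (Subgroup.inclusion hN)).codRestrict (F.autGroup Q) (fun s =>
    autInducedBy_le_autGroup F hQS ((mem_autInducedBy_iff S Q _).2 ⟨s, s.2, fun _ => rfl⟩))

theorem piHom_apply (F : FusionSystem S) {Q : Subgroup Ω} (hQS : Q ≤ S)
    (hN : S ≤ Subgroup.normalizer (Q : Set Ω)) (s : S) (q : Q) :
    (((piHom F hQS hN s : MulAut Q) q : Q) : Ω) = s * q * (s : Ω)⁻¹ := rfl

/-- A biset over `Aut_F(Q)` whose point stabilizers are graphs of maps of the system. -/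
structure FBiset (F : FusionSystem S) (Q : Subgroup Ω) (Z : Type v) (X : Type w) [CommGroup Z]
    extends Biset ↥S ↥(F.autGroup Q) ↥Q Z X where
  hj : ∀ n : Q, ((j n : S) : Ω) = n
  hπ : ∀ (s : S) (q : Q), (((π s : MulAut Q) q : Q) : Ω) = s * q * (s : Ω)⁻¹
  hact : ∀ (a : F.autGroup Q) (n : Q), act a n = (a : MulAut Q) n
  hjz : ∀ z : Z, ∃ n : Q, jz z = j n
  hgen : ∀ ω : X, ∃ (D : Subgroup Ω) (σ : Ω → Ω), IsMapOn F D σ ∧
    ∀ (x t : S), lm x ω = rm ω t ↔ ((x : Ω) ∈ D ∧ σ x = t)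

namespace FBiset

variable {F : FusionSystem S} {Q : Subgroup Ω} {Z : Type v} {X : Type w} [CommGroup Z]
  (D : FBiset F Q Z X)

/-- The biset of an `FBiset`. -/
abbrev B : Biset ↥S ↥(F.autGroup Q) ↥Q Z X := D.toBiset

theorem j_coe (n : Q) : ((D.B.j n : S) : Ω) = n := D.hj n

theorem aut_ext {a b : F.autGroup Q} (h : ∀ q : Q, (((a : MulAut Q) q : Q) : Ω) = ((b : MulAut Q) q : Q)) :
    a = b := by
  apply Subtype.ext
  apply MulEquiv.ext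
  intro q
  exact Subtype.ext (h q)

/-- an element of `Q` central in `Q` lies in the kernel of `π` -/
theorem π_j_central (n : Q) (hn : ∀ q : Q, (n : Ω) * q = q * n) : D.B.π (D.B.j n) = 1 := by
  apply aut_ext
  intro q
  rw [D.hπ, D.hj, hn q]
  simp

/-- the maps of the system extending an automorphism of `Q` intertwine the actions on `Q` -/
theorem π_comm {R : Subgroup Ω} (hQR : Q ≤ R) {ψ : R →* Ω} (hψ : ψ ∈ F.Hom R) (a : F.autGroup Q)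
    (ha : ∀ q : Q, ψ ⟨q, hQR q.2⟩ = ((a : MulAut Q) q : Q)) (r : R) :
    D.B.π ⟨ψ r, (F.le_of_mem hψ).2 r⟩ * a = a * D.B.π ⟨r, (F.le_of_mem hψ).1 r.2⟩ := by
  apply aut_ext
  intro q
  show (((D.B.π ⟨ψ r, _⟩ : MulAut Q) ((a : MulAut Q) q) : Q) : Ω)
    = ((a : MulAut Q) ((D.B.π ⟨r, _⟩ : MulAut Q) q) : Q)
  rw [D.hπ, ← ha, ← ha]
  have h1 : (⟨(((D.B.π ⟨r, (F.le_of_mem hψ).1 r.2⟩ : MulAut Q) q : Q) : Ω), hQR (Subtype.coe_prop _)⟩ : R)
      = r * ⟨q, hQR q.2⟩ * r⁻¹ := by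
    apply Subtype.ext
    rw [D.hπ]
    rfl
  rw [h1, map_mul, map_mul, map_inv]


/-- the stabilizer map of a point contains `Q` and acts on it by the inverse of the structure map -/
theorem gen_Q {ω : X} {Dω : Subgroup Ω} {σ : Ω → Ω}
    (h : ∀ (x t : S), D.B.lm x ω = D.B.rm ω t ↔ ((x : Ω) ∈ Dω ∧ σ x = t)) (q : Q) :
    (q : Ω) ∈ Dω ∧ σ q = ((((D.B.θ ω)⁻¹ : F.autGroup Q) : MulAut Q) q : Q) := by
  have h1 := D.B.qform q ω
  have h2 := (h _ _).1 h1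
  rw [D.hj, D.hj, D.hact] at h2
  exact h2

/-- Key step of stability: every point has a partner over the translate whose twisted stabilizer is at least as
large. -/
theorem exists_related [Finite S] {p : ℕ} [Fact p.Prime] (hS : IsPGroup p S) (hF : F.IsSaturated p)
    (hQc : F.IsCentric Q) {R : Subgroup Ω} (hQR : Q ≤ R) {ψ : R →* Ω} (hψ : ψ ∈ F.Hom R)
    (hRS : R ≤ S) (hψS : ∀ r : R, ψ r ∈ S) (a : F.autGroup Q)
    (ha : ∀ q : Q, ψ ⟨q, hQR q.2⟩ = ((a : MulAut Q) q : Q)) (ω : X) :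
    ∃ ω' : X, D.B.θ ω' = a * D.B.θ ω ∧
      ∀ (r : R) (t : S), D.B.lm ⟨r, hRS r.2⟩ ω = D.B.rm ω t →
        D.B.lm ⟨ψ r, hψS r⟩ ω' = D.B.rm ω' t := by
  obtain ⟨Dω, σ, hσ, hDσ⟩ := D.hgen ω
  obtain ⟨ω'', hω''⟩ := D.B.θ_surj (a * D.B.θ ω)
  obtain ⟨D'', σ'', hσ'', hDσ''⟩ := D.hgen ω''
  have hψmap : IsMapOn F R (extHom ψ) := isMapOn_extHom F hψ
  -- (c2)
  have hc2 : ∀ x ∈ Dω ⊓ R, extHom ψ x ∈ D'' := by
    intro x hx
    have hxS : x ∈ S := hRS hx.2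
    have h1 : D.B.lm ⟨x, hxS⟩ ω = D.B.rm ω ⟨σ x, hσ.mem hx.1⟩ := (hDσ _ _).2 ⟨hx.1, rfl⟩
    rw [extHom_apply ψ hx.2]
    have h2 : D.B.θ (D.B.rm ω'' ⟨σ x, hσ.mem hx.1⟩)
        = D.B.θ (D.B.lm ⟨ψ ⟨x, hx.2⟩, hψS _⟩ ω'') := by
      rw [D.B.θ_lm, hω'', ← mul_assoc, D.π_comm hQR hψ a ha ⟨x, hx.2⟩, mul_assoc, ← D.B.θ_lm]
      rw [show (⟨((⟨x, hx.2⟩ : R) : Ω), (F.le_of_mem hψ).1 (Subtype.coe_prop _)⟩ : S) = ⟨x, hxS⟩ from rfl]
      rw [h1, D.B.θ_rm, D.B.θ_rm, hω'', mul_assoc]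
    obtain ⟨z, hz⟩ := D.B.fiber _ _ h2
    rw [← D.B.rm_mul] at hz
    exact ((hDσ'' _ _).1 hz).1
  -- (c3)
  have hc3 : IsMapOn F (Dω ⊓ R) (σ'' ∘ extHom ψ) := (hψmap.mono inf_le_right).comp hσ'' hc2
  -- (c4)
  have hc4 : ∀ x ∈ Q, σ x = (σ'' ∘ extHom ψ) x := by
    intro x hx
    have h1 := (D.gen_Q hDσ ⟨x, hx⟩).2
    have h2 : extHom ψ x = ((a : MulAut Q) ⟨x, hx⟩ : Q) := by
      rw [extHom_apply ψ (hQR hx)]
      exact ha ⟨x, hx⟩
    have h3 := (D.gen_Q hDσ'' ((a : MulAut Q) ⟨x, hx⟩)).2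
    simp only [Function.comp_apply]
    rw [h2, h3, hω'']
    simp only at h1
    rw [h1]
    congr 1
    simp [mul_inv_rev]
  have hQD : Q ≤ Dω ⊓ R := fun x hx => ⟨(D.gen_Q hDσ ⟨x, hx⟩).1, hQR hx⟩
  -- (c5)
  obtain ⟨z, hzQ, hzc, hz⟩ := Cfsg.Agent.Lib.Helper88_Centric.eq_comp_conj_of_agree hS hF _ rfl hQD hQc
    (hσ.mono inf_le_left) hc3 hc4
  -- (c6)
  have hcent : ∀ q : Q, ((((((D.B.θ ω)⁻¹ : F.autGroup Q) : MulAut Q) ⟨z, hzQ⟩ : Q) : Ω)) * q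
      = q * ((((D.B.θ ω)⁻¹ : F.autGroup Q) : MulAut Q) ⟨z, hzQ⟩ : Q) := by
    intro q
    set β : MulAut Q := (((D.B.θ ω)⁻¹ : F.autGroup Q) : MulAut Q) with hβ
    have h1 : (⟨z, hzQ⟩ : Q) * β⁻¹ q = β⁻¹ q * ⟨z, hzQ⟩ := Subtype.ext (hzc _ (Subtype.coe_prop _))
    have h2 := congrArg β h1
    rw [map_mul, map_mul, MulAut.apply_inv_self] at h2
    exact congrArg Subtype.val h2
  set u : S := D.B.j (D.B.act (D.B.θ ω)⁻¹ ⟨z, hzQ⟩) with hu
  have hucoe : (u : Ω) = σ z := by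
    rw [hu, D.hj, D.hact]
    exact (D.gen_Q hDσ ⟨z, hzQ⟩).2.symm
  have hπu : D.B.π u = 1 := by
    apply D.π_j_central
    intro q
    rw [D.hact]
    exact hcent q
  refine ⟨D.B.rm ω'' u, by rw [D.B.θ_rm, hω'', hπu, mul_one], fun r t hrt => ?_⟩
  obtain ⟨hrD, hrt'⟩ := (hDσ _ _).1 hrt
  have hr0 : (r : Ω) ∈ Dω ⊓ R := ⟨hrD, r.2⟩
  have h1 := hc2 _ hr0
  have h2 : D.B.lm ⟨extHom ψ r, hσ''.le h1⟩ ω'' = D.B.rm ω'' ⟨σ'' (extHom ψ r), hσ''.mem h1⟩ :=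
    (hDσ'' _ _).2 ⟨h1, rfl⟩
  have h3 : (⟨σ'' (extHom ψ r), hσ''.mem h1⟩ : S) = u * t * u⁻¹ := by
    apply Subtype.ext
    have := hz _ hr0
    simp only [Function.comp_apply] at this
    show σ'' (extHom ψ r) = (u : Ω) * t * (u : Ω)⁻¹
    rw [this, hσ.map_mul (Dω.mul_mem (hQD hzQ).1 hrD) (Dω.inv_mem (hQD hzQ).1),
      hσ.map_mul (hQD hzQ).1 hrD, hσ.map_inv (hQD hzQ).1, hucoe]
    simp only at hrt'
    rw [hrt']
  have h4 : (⟨extHom ψ r, hσ''.le h1⟩ : S) = ⟨ψ r, hψS r⟩ := by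
    apply Subtype.ext
    exact extHom_coe ψ r
  rw [h4, h3] at h2
  rw [D.B.lm_rm, h2, ← D.B.rm_mul, ← D.B.rm_mul]
  congr 1
  group


/-- **Stability** of the biset: every map of the system defined on an overgroup `R` of `Q` and inducing `a` on `Q`
is realized by a permutation of the biset over the translation by `a`. -/
theorem exists_perm [Finite X] [Finite S] {p : ℕ} [Fact p.Prime] (hS : IsPGroup p S) (hF : F.IsSaturated p)
    (hQc : F.IsCentric Q) {R : Subgroup Ω} (hQR : Q ≤ R) {ψ : R →* Ω} (hψ : ψ ∈ F.Hom R)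
    (hRS : R ≤ S) (hψS : ∀ r : R, ψ r ∈ S) (a : F.autGroup Q)
    (ha : ∀ q : Q, ψ ⟨q, hQR q.2⟩ = ((a : MulAut Q) q : Q)) :
    ∃ f : Equiv.Perm X, (∀ x t, f (D.B.rm x t) = D.B.rm (f x) t) ∧ (∀ x, D.B.θ (f x) = a * D.B.θ x) ∧
      ∀ (r : R) x, f (D.B.lm ⟨r, hRS r.2⟩ x) = D.B.lm ⟨ψ r, hψS r⟩ (f x) := by
  have h0 := D.exists_related hS hF hQc hQR hψ hRS hψS a ha
  choose g₀ hg₀θ hg₀ using h0
  let ψS : R →* S := ψ.codRestrict S hψS
  let a1 : R × S → X → X := fun h ω => D.B.lm (Subgroup.inclusion hRS h.1) (D.B.rm ω h.2⁻¹)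
  let a2 : R × S → X → X := fun h ω => D.B.lm (ψS h.1) (D.B.rm ω h.2⁻¹)
  have h1one : ∀ x, a1 1 x = x := fun x => by simp [a1, D.B.rm_one, D.B.lm_one]
  have h1mul : ∀ g h x, a1 (g * h) x = a1 g (a1 h x) := fun g h x => by
    simp only [a1, Prod.fst_mul, Prod.snd_mul, map_mul, mul_inv_rev]
    rw [D.B.lm_mul, D.B.rm_mul, D.B.lm_rm]
  have h2mul : ∀ g h x, a2 (g * h) x = a2 g (a2 h x) := fun g h x => by
    simp only [a2, Prod.fst_mul, Prod.snd_mul, map_mul, mul_inv_rev]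
    rw [D.B.lm_mul, D.B.rm_mul, D.B.lm_rm]
  have hstab : ∀ x h, a1 h x = x → a2 h (g₀ x) = g₀ x := by
    rintro x ⟨r, t⟩ hx
    simp only [a1, a2] at hx ⊢
    have h1 : D.B.lm ⟨r, hRS r.2⟩ x = D.B.rm x t := by
      have : D.B.rm (D.B.lm (Subgroup.inclusion hRS r) (D.B.rm x t⁻¹)) t = D.B.rm x t := by rw [hx]
      rw [D.B.lm_rm, ← D.B.rm_mul, inv_mul_cancel, D.B.rm_one] at this
      exact this
    have h2 := hg₀ x r t h1
    show D.B.lm ⟨ψ r, hψS r⟩ (D.B.rm (g₀ x) t⁻¹) = g₀ x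
    rw [D.B.lm_rm, h2, ← D.B.rm_mul, mul_inv_cancel, D.B.rm_one]
  obtain ⟨f, hf1, hf2⟩ := exists_orbit_map a1 a2 h1one h1mul h2mul g₀ hstab
  have hfr : ∀ x t, f (D.B.rm x t) = D.B.rm (f x) t := fun x t => by
    have := hf1 (1, t⁻¹) x
    simpa [a1, a2, D.B.lm_one] using this
  have hfl : ∀ (r : R) x, f (D.B.lm ⟨r, hRS r.2⟩ x) = D.B.lm ⟨ψ r, hψS r⟩ (f x) := fun r x => by
    have := hf1 (r, 1) x
    simp only [a1, a2, inv_one, D.B.rm_one] at this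
    exact this
  have hfθ : ∀ x, D.B.θ (f x) = a * D.B.θ x := by
    intro x
    obtain ⟨⟨r, t⟩, hh⟩ := hf2 x
    rw [hh]
    simp only [a1, a2, Prod.inv_mk, inv_inv]
    rw [D.B.θ_lm, D.B.θ_rm, hg₀θ, D.B.θ_lm, D.B.θ_rm]
    have hc := D.π_comm hQR hψ a ha r
    have e1 : (ψS r : S) = ⟨ψ r, (F.le_of_mem hψ).2 r⟩ := rfl
    have e2 : (Subgroup.inclusion hRS r⁻¹ : S) = (⟨r, (F.le_of_mem hψ).1 r.2⟩ : S)⁻¹ := rfl
    rw [e1, e2, map_inv, map_inv]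
    calc D.B.π ⟨ψ r, (F.le_of_mem hψ).2 r⟩ * (a * ((D.B.π ⟨r, (F.le_of_mem hψ).1 r.2⟩)⁻¹
          * (D.B.θ x * D.B.π t))) * (D.B.π t)⁻¹
        = (D.B.π ⟨ψ r, (F.le_of_mem hψ).2 r⟩ * a) * (D.B.π ⟨r, (F.le_of_mem hψ).1 r.2⟩)⁻¹
          * D.B.θ x := by group
      _ = a * D.B.θ x := by rw [hc]; group
  have hbij : Function.Bijective f := D.B.bijective_of_equivariant f hfr a hfθ
  exact ⟨Equiv.ofBijective f hbij, hfr, hfθ, hfl⟩

/-- Every map of the system is induced by conjugation in the extension group. -/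
theorem exists_conj_of_mem [Finite X] [Finite S] {p : ℕ} [Fact p.Prime] (hS : IsPGroup p S)
    (hF : F.IsSaturated p) (hQn : F.IsNormal Q) (hQc : F.IsCentric Q) {P : Subgroup Ω} {φ : P →* Ω}
    (hφ : φ ∈ F.Hom P) (hPS : P ≤ S) (hφS : ∀ x : P, φ x ∈ S) :
    ∃ g : D.B.G, ∀ x : P, D.B.ι ⟨φ x, hφS x⟩ = g * D.B.ι ⟨x, hPS x.2⟩ * g⁻¹ := by
  obtain ⟨ψ, hψ, hext, himg⟩ := hQn.2 P φ hφ
  have hRS : P ⊔ Q ≤ S := (F.le_of_mem hψ).1
  have hψS : ∀ r : (P ⊔ Q : Subgroup Ω), ψ r ∈ S := (F.le_of_mem hψ).2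
  have hQR : Q ≤ P ⊔ Q := le_sup_right
  obtain ⟨α, hα, hαψ⟩ := Cfsg.Agent.Lib.Helper85_FusionNormal.exists_aut_of_isNormal hQn le_rfl
    (Cfsg.Agent.Lib.Helper87_Alperin.restrict_mem F hψ hQR)
  have ha : ∀ q : Q, ψ ⟨q, hQR q.2⟩ = (((⟨α, hα⟩ : F.autGroup Q) : MulAut Q) q : Q) := by
    intro q
    have := hαψ q
    simp only [MonoidHom.comp_apply] at this
    rw [show Subgroup.inclusion (le_refl Q) q = q from rfl] at this
    exact this.symm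
  obtain ⟨f, hfr, hfθ, hfl⟩ := D.exists_perm hS hF hQc hQR hψ hRS hψS ⟨α, hα⟩ ha
  obtain ⟨g, -, hg⟩ := D.B.exists_of_perm f hfr _ hfθ
  refine ⟨g, fun x => ?_⟩
  have h1 := hg ⟨x, hPS x.2⟩ ⟨φ x, hφS x⟩ (fun ω => by
    have := hfl (Subgroup.inclusion le_sup_left x) ω
    have e1 : (⟨ψ (Subgroup.inclusion le_sup_left x), hψS _⟩ : S) = ⟨φ x, hφS x⟩ :=
      Subtype.ext (hext x)
    rw [e1] at this
    exact this)
  exact h1.symm


/-- a subgroup normal in the system is fully normalized -/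
theorem isFullyNormalized_of_isNormal [Finite S] (hQn : F.IsNormal Q) : F.IsFullyNormalized Q := by
  refine ⟨hQn.1, fun Q' hQQ' => ?_⟩
  obtain ⟨φ, hφ, rfl⟩ := hQQ'
  have hsc := Cfsg.Agent.Lib.Helper84_FusionNormal.IsNormal.stronglyClosed hQn
  have hfinQ : Finite Q := Finite.of_injective _ (Subgroup.inclusion_injective hQn.1)
  have hle : φ.range ≤ Q := by
    rintro _ ⟨x, rfl⟩
    exact hsc.2 Q le_rfl φ hφ x
  have hcard : Nat.card φ.range = Nat.card Q :=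
    (Nat.card_congr (Equiv.ofInjective φ (F.injective_of_mem hφ))).symm
  have heq : φ.range = Q := by
    apply Subgroup.eq_of_le_of_card_ge hle
    rw [hcard]
  rw [heq]

theorem not_dvd_index [Finite S] {p : ℕ} [Fact p.Prime] (hS : IsPGroup p S)
    (hF : F.IsSaturated p) (hQn : F.IsNormal Q) : ¬ p ∣ D.B.π.range.index := by
  have hfinQ : Finite Q := Finite.of_injective _ (Subgroup.inclusion_injective hQn.1)
  have hfa := Cfsg.Agent.Lib.Helper84_FusionRS.IsSaturated.isFullyAutomized hS hF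
    (isFullyNormalized_of_isNormal hQn)
  obtain ⟨R, hR⟩ := hfa.2
  have hrange : D.B.π.range = (autInducedBy S Q).subgroupOf (F.autGroup Q) := by
    ext a
    rw [Subgroup.mem_subgroupOf, mem_autInducedBy_iff]
    constructor
    · rintro ⟨s, rfl⟩
      exact ⟨s, s.2, fun q => D.hπ s q⟩
    · rintro ⟨g, hg, hga⟩
      refine ⟨⟨g, hg⟩, ?_⟩
      apply aut_ext
      intro q
      rw [D.hπ, hga]
  rw [hrange, ← hR]
  exact R.not_dvd_index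

theorem coprime_index [Finite S] {p : ℕ} [Fact p.Prime] (hS : IsPGroup p S)
    (hF : F.IsSaturated p) (hQn : F.IsNormal Q) [Finite Z] :
    (Nat.card Z).Coprime D.B.π.range.index := by
  have hZ : IsPGroup p Z := hS.of_injective D.B.jz D.B.jz_inj
  obtain ⟨k, hk⟩ := IsPGroup.iff_card.1 hZ
  rw [hk]
  apply Nat.Coprime.pow_left
  rw [Nat.Prime.coprime_iff_not_dvd Fact.out]
  exact D.not_dvd_index hS hF hQn

/-- Conjugation in the extension group between subgroups of `S` is a map of the system. -/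
theorem mem_of_conj [Finite X] [Finite S] [Finite Z] {p : ℕ} [Fact p.Prime] (hS : IsPGroup p S)
    (hF : F.IsSaturated p) (hQn : F.IsNormal Q) (hQc : F.IsCentric Q) {P : Subgroup Ω} {φ : P →* Ω}
    (hPS : P ≤ S) (hφS : ∀ x : P, φ x ∈ S) (g : D.B.G)
    (hg : ∀ x : P, D.B.ι ⟨φ x, hφS x⟩ = g * D.B.ι ⟨x, hPS x.2⟩ * g⁻¹) : φ ∈ F.Hom P := by
  have hcop := D.coprime_index hS hF hQn
  have hιinj := D.B.ι_injective hcop
  have hQS : Q ≤ S := hQn.1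
  have hN : S ≤ Subgroup.normalizer (Q : Set Ω) :=
    Cfsg.Agent.Lib.Helper84_FusionNormal.IsNormal.le_normalizer hQn
  set a : F.autGroup Q := D.B.Θ g with ha
  -- the relation `a π(x) = π(φ x) a`
  have hrel : ∀ x : P, a * D.B.π ⟨x, hPS x.2⟩ = D.B.π ⟨φ x, hφS x⟩ * a := by
    intro x
    have := congrArg D.B.Θ (hg x)
    rw [map_mul, map_mul, map_inv, D.B.Θ_ι, D.B.Θ_ι] at this
    rw [this, ha]
    group
  -- the map of the system extending `a`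
  let φa : Q →* Ω := Q.subtype.comp (a : MulAut Q).toMonoidHom
  have hφa : φa ∈ F.Hom Q := (mem_autGroup_iff' F hQS _).1 a.2
  have hφar : φa.range = Q := by
    ext y
    constructor
    · rintro ⟨q, rfl⟩
      exact Subtype.coe_prop _
    · intro hy
      refine ⟨(a : MulAut Q)⁻¹ ⟨y, hy⟩, ?_⟩
      show (((a : MulAut Q) ((a : MulAut Q)⁻¹ ⟨y, hy⟩) : Q) : Ω) = y
      rw [MulAut.apply_inv_self]
  have hrec := Cfsg.Agent.Lib.Helper84_FusionRS.IsSaturated.isReceptive_of_isFullyNormalized hS hF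
    (isFullyNormalized_of_isNormal hQn)
  obtain ⟨ψ, hψ, hψφ⟩ := hrec.2 Q φa hφa hφar
  have hPE : P ≤ extender S Q φa := by
    intro x hx
    rw [Cfsg.Agent.Lib.Helper84_FusionRS.mem_extender_iff]
    refine ⟨hPS hx, hN (hPS hx), φ ⟨x, hx⟩, hφS _, fun q hq => ?_⟩
    have h1 := hrel ⟨x, hx⟩
    have h2 : (((a * D.B.π ⟨x, hPS hx⟩ : F.autGroup Q) : MulAut Q) q : Q)
        = ((D.B.π ⟨φ ⟨x, hx⟩, hφS _⟩ * a : F.autGroup Q) : MulAut Q) q := by rw [h1]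
    have h3 := congrArg Subtype.val h2
    show (((a : MulAut Q) ⟨x * q * x⁻¹, hq⟩ : Q) : Ω) = φ ⟨x, hx⟩ * ((a : MulAut Q) q : Q) * (φ ⟨x, hx⟩)⁻¹
    have h4 : (⟨x * q * x⁻¹, hq⟩ : Q) = (D.B.π ⟨x, hPS hx⟩ : MulAut Q) q :=
      Subtype.ext (D.hπ ⟨x, hPS hx⟩ q).symm
    rw [h4]
    have h5 : (((D.B.π ⟨φ ⟨x, hx⟩, hφS _⟩ : MulAut Q) ((a : MulAut Q) q) : Q) : Ω)
        = φ ⟨x, hx⟩ * ((a : MulAut Q) q : Q) * (φ ⟨x, hx⟩)⁻¹ := D.hπ _ _
    rw [← h5]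
    exact h3
  have hQE : Q ≤ extender S Q φa :=
    Cfsg.Agent.Lib.Helper84_Fusion.le_extender S Q φa hQS (fun q => hQS (Subtype.coe_prop _))
  have hRE : P ⊔ Q ≤ extender S Q φa := sup_le hPE hQE
  have hψR := Cfsg.Agent.Lib.Helper87_Alperin.restrict_mem F hψ hRE
  set ψR : (P ⊔ Q : Subgroup Ω) →* Ω := ψ.comp (Subgroup.inclusion hRE) with hψRdef
  have hRS : P ⊔ Q ≤ S := (F.le_of_mem hψR).1
  have hψRS : ∀ r : (P ⊔ Q : Subgroup Ω), ψR r ∈ S := (F.le_of_mem hψR).2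
  obtain ⟨h, hh⟩ := D.exists_conj_of_mem hS hF hQn hQc hψR hRS hψRS
  -- `Θ h = a`
  have hψRQ : ∀ q : Q, ψR ⟨q, (le_sup_right : Q ≤ P ⊔ Q) q.2⟩ = ((a : MulAut Q) q : Q) := by
    intro q
    exact hψφ q q.2 (hQE q.2)
  have hΘh : D.B.Θ h = a := by
    apply aut_ext
    intro q
    have h1 := D.B.conj_ι_j h q
    have h2 := hh ⟨q, (le_sup_right : Q ≤ P ⊔ Q) q.2⟩
    have e1 : (⟨((⟨q, (le_sup_right : Q ≤ P ⊔ Q) q.2⟩ : (P ⊔ Q : Subgroup Ω)) : Ω), hRS (Subtype.coe_prop _)⟩ : S)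
        = D.B.j q := Subtype.ext (D.hj q).symm
    rw [e1, h1] at h2
    have h3 := hιinj h2
    have h4 := congrArg Subtype.val h3
    simp only at h4
    rw [D.hj, D.hact, hψRQ] at h4
    exact h4.symm
  -- `g = h * ι (j n)`
  have hker : D.B.Θ (h⁻¹ * g) = 1 := by rw [map_mul, map_inv, hΘh, ← ha, inv_mul_cancel]
  obtain ⟨z, hz⟩ := D.B.ker_Θ hcop _ hker
  obtain ⟨n, hn⟩ := D.hjz z
  rw [hn] at hz
  have hgh : g = h * D.B.ι (D.B.j n) := by rw [← hz]; group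
  -- conclusion
  have hnR : ∀ x : P, (n : Ω) * x * (n : Ω)⁻¹ ∈ P ⊔ Q := fun x =>
    (P ⊔ Q).mul_mem ((P ⊔ Q).mul_mem ((le_sup_right : Q ≤ P ⊔ Q) n.2) ((le_sup_left : P ≤ P ⊔ Q) x.2))
      ((P ⊔ Q).inv_mem ((le_sup_right : Q ≤ P ⊔ Q) n.2))
  have hφeq : ∀ x : P, φ x = ψR ⟨(n : Ω) * x * (n : Ω)⁻¹, hnR x⟩ := by
    intro x
    have h1 := hg x
    rw [hgh] at h1
    have h2 := hh ⟨(n : Ω) * x * (n : Ω)⁻¹, hnR x⟩
    have e1 : (⟨((⟨(n : Ω) * x * (n : Ω)⁻¹, hnR x⟩ : (P ⊔ Q : Subgroup Ω)) : Ω),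
        hRS (Subtype.coe_prop _)⟩ : S) = D.B.j n * ⟨x, hPS x.2⟩ * (D.B.j n)⁻¹ := by
      apply Subtype.ext
      show (n : Ω) * x * (n : Ω)⁻¹ = ((D.B.j n : S) : Ω) * x * ((D.B.j n : S) : Ω)⁻¹
      rw [D.hj]
    rw [e1, map_mul, map_mul, map_inv] at h2
    have h3 : D.B.ι ⟨φ x, hφS x⟩ = D.B.ι ⟨ψR ⟨(n : Ω) * x * (n : Ω)⁻¹, hnR x⟩, hψRS _⟩ := by
      rw [h1, h2]
      group
    exact congrArg Subtype.val (hιinj h3)
  rw [mem_hom_iff_isMapOn]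
  have hconj : IsMapOn F P (fun x => (n : Ω) * x * (n : Ω)⁻¹) := IsMapOn.conj F hPS (hQS n.2)
  have hcomp := hconj.comp (isMapOn_extHom F hψR) (fun x hx => hnR ⟨x, hx⟩)
  refine hcomp.congr (fun x hx => ?_)
  simp only [Function.comp_apply]
  rw [extHom_apply φ hx, hφeq ⟨x, hx⟩, extHom_apply ψR (hnR ⟨x, hx⟩)]


/-- **Model theorem, from a biset**: the extension group of an `FBiset` is a model of the system. -/
theorem isModel [Finite X] [Finite S] [Finite Z] {p : ℕ} [Fact p.Prime] (hS : IsPGroup p S)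
    (hF : F.IsSaturated p) (hQn : F.IsNormal Q) (hQc : F.IsCentric Q) :
    F.IsModel p D.B.G D.B.ι := by
  have hcop := D.coprime_index hS hF hQn
  have hιinj := D.B.ι_injective hcop
  refine ⟨inferInstance, ⟨hιinj, fun P hP φ hφ => ⟨fun h => D.exists_conj_of_mem hS hF hQn hQc h hP hφ,
    fun ⟨g, hg⟩ => D.mem_of_conj hS hF hQn hQc hP hφ g hg⟩⟩, ?_, ?_⟩
  · -- Sylow
    have hp : IsPGroup p D.B.ι.range :=
      IsPGroup.of_surjective hS D.B.ι.rangeRestrict D.B.ι.rangeRestrict_surjective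
    have hidx : ¬ p ∣ D.B.ι.range.index := by
      rw [D.B.range_ι hcop, Subgroup.index_comap_of_surjective _ D.B.Θ_surjective]
      exact D.not_dvd_index hS hF hQn
    exact ⟨hp.toSylow hidx, IsPGroup.toSylow_coe hp hidx⟩
  · -- centralizer of the core
    let Q' : Subgroup D.B.G := (D.B.ι.comp D.B.j).range
    have hQ'n : Q'.Normal := ⟨by
      rintro _ ⟨n, rfl⟩ g
      exact ⟨D.B.act (D.B.Θ g) n, (D.B.conj_ι_j g n).symm⟩⟩
    have hfinQ : Finite Q := Finite.of_injective _ (Subgroup.inclusion_injective hQn.1)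
    have hQp : IsPGroup p Q := hS.of_injective (Subgroup.inclusion hQn.1) (Subgroup.inclusion_injective _)
    have hQ'p : IsPGroup p Q' :=
      IsPGroup.of_surjective hQp (D.B.ι.comp D.B.j).rangeRestrict (MonoidHom.rangeRestrict_surjective _)
    have hQ'le : Q' ≤ pCore p D.B.G := le_sSup ⟨hQ'n, hQ'p⟩
    intro g hg
    apply hQ'le
    have hΘ : D.B.Θ g = 1 := by
      apply aut_ext
      intro q
      have h1 : g * D.B.ι (D.B.j q) = D.B.ι (D.B.j q) * g :=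
        (hg _ (hQ'le ⟨q, rfl⟩)).symm
      have h2 := D.B.conj_ι_j g q
      rw [h1, mul_inv_cancel_right] at h2
      have h3 := hιinj h2
      have h4 := congrArg Subtype.val h3
      rw [D.hj, D.hj, D.hact] at h4
      exact h4.symm
    obtain ⟨z, hz⟩ := D.B.ker_Θ hcop g hΘ
    obtain ⟨n, hn⟩ := D.hjz z
    exact ⟨n, by rw [hz, hn]; rfl⟩

end FBiset

end Cfsg.Agent.Lib.Helper84_Model
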