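import Cfsg.Agent.Lib.Helper84_KLBasic
import Cfsg.Agent.Lib.Helper87_Factor2
import Cfsg.Agent.Lib.Helper85_FusionNormal
import Cfsg.Agent.Lib.Helper84_FusionNormal
import Cfsg.Agent.Lib.Helper84_FusionEssential
import Cfsg.Agent.Lib.Helper84_Model

/-!
# Kessar–Linckelmann reduction: factor systems (helper84)

* maps of a factor system lift, maps of the system induce maps of the factor system (`IsMapOn` form);
* if all automorphisms of the normalizer system of the preimage of `W̄` have `p`-power order, so do those of the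
  normalizer system of `W̄` in the factor system;
* if `N` is normal in `F` and all automorphisms of `F/N` have `p`-power order, then `N C_S(N)` is normal and centric
  in `F`.
-/

set_option autoImplicit false

namespace Cfsg.Agent.Lib.Helper84_KLQuot

open Cfsg Cfsg.FusionSystem Cfsg.Agent.Lib Cfsg.Agent.Lib.Helper87_Alperin Cfsg.Agent.Lib.Helper87_Alperin2
  Cfsg.Agent.Lib.Helper87_Normal Cfsg.Agent.Lib.Helper87_ModT Cfsg.Agent.Lib.Helper87_Factor
  Cfsg.Agent.Lib.Helper87_Factor2 Cfsg.Agent.Lib.Helper84_KLBasic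

universe u v

variable {Ω : Type u} [Group Ω] {S : Subgroup Ω} {Ω' : Type v} [Group Ω'] {S' : Subgroup Ω'}

section factor

variable {F : FusionSystem S} {N : Subgroup Ω} {θ : S →* Ω'} {E : FusionSystem S'}

/-- every map of a saturated system induces a map of the factor system -/
theorem exists_induced_isMapOn [Finite S] {p : ℕ} [Fact p.Prime] (hS : IsPGroup p S)
    (hF : F.IsSaturated p) (hN : F.StronglyClosed N) (hE : F.IsFactorSystem N θ E) {P : Subgroup Ω}
    {f : Ω → Ω} (hf : IsMapOn F P f) :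
    ∃ f' : Ω' → Ω', IsMapOn E (imageAlong θ P) f' ∧ ∀ x ∈ P, f' (extOn θ x) = extOn θ (f x) := by
  obtain ⟨φ, hφ, hφf⟩ := hf
  have hPS : P ≤ S := hom_le F hφ
  obtain ⟨φ', hφ', hφ'φ⟩ := exists_induced_hom F hS hF hN hE hφ
  refine ⟨extHom φ', ⟨φ', hφ', fun x => (extHom_coe φ' x).symm⟩, fun x hx => ?_⟩
  have hx' : extOn θ x ∈ imageAlong θ P := extOn_mem_imageAlong θ hPS hx
  rw [extHom_apply φ' hx', hφ'φ ⟨x, hx⟩ hx', hφf]

/-- every map of the factor system lifts to a map of the system on the full preimage -/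
theorem exists_lift_isMapOn (hE : F.IsFactorSystem N θ E) {P' : Subgroup Ω'} {f' : Ω' → Ω'}
    (hf' : IsMapOn E P' f') :
    ∃ f : Ω → Ω, IsMapOn F (preimageAlong θ P') f ∧
      ∀ x ∈ preimageAlong θ P', extOn θ (f x) = f' (extOn θ x) := by
  obtain ⟨φ', hφ', hφ'f⟩ := hf'
  obtain ⟨-, φ, hφ, hind⟩ := (hE.2.2.2 P' φ').1 hφ'
  obtain ⟨-, -, h3⟩ := extOn_of_inducedAlong hind
  refine ⟨extHom φ, isMapOn_extHom F hφ, fun x hx => ?_⟩
  have hx' : extOn θ x ∈ P' := ((mem_preimageAlong θ P' x).1 hx).2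
  have := h3 ⟨x, hx⟩ hx'
  rw [extHom_apply φ hx, ← this, hφ'f]

/-- iterates of a self-map and of the induced self-map -/
theorem extOn_iterate_induced {P : Subgroup Ω} {f : Ω → Ω} {f' : Ω' → Ω'} (hfP : ∀ x ∈ P, f x ∈ P)
    (h : ∀ x ∈ P, f' (extOn θ x) = extOn θ (f x)) (n : ℕ) :
    ∀ x ∈ P, f'^[n] (extOn θ x) = extOn θ (f^[n] x) := by
  induction n with
  | zero => intro x _; rfl
  | succ n ih =>
    intro x hx
    rw [Function.iterate_succ_apply, Function.iterate_succ_apply, h x hx, ih (f x) (hfP x hx)]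

theorem preimageAlong_mono (θ : S →* Ω') {P' Q' : Subgroup Ω'} (h : P' ≤ Q') :
    preimageAlong θ P' ≤ preimageAlong θ Q' := by
  intro x hx
  rw [mem_preimageAlong] at hx ⊢
  exact ⟨hx.1, h hx.2⟩

/-- **Quotient transfer.** -/
theorem nInner_factor (hE : F.IsFactorSystem N θ E) {p : ℕ} (W' : Subgroup Ω')
    (hR : S ≤ Subgroup.normalizer ((preimageAlong θ W' : Subgroup Ω) : Set Ω))
    (h : NInner F (preimageAlong θ W') p) : NInner E W' p := by
  rintro P' f' ⟨hf', -, -, D', g', hPD', hWD', hg', hg'f', hg'W'⟩ hf'P'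
  have hrange : θ.range = S' := hE.2.2.1
  obtain ⟨g, hg, hgg'⟩ := exists_lift_isMapOn hE hg'
  set P := preimageAlong θ P' with hP
  set R := preimageAlong θ W' with hRdef
  set D := preimageAlong θ D' with hD
  have hPD : P ≤ D := preimageAlong_mono θ hPD'
  have hRD : R ≤ D := preimageAlong_mono θ hWD'
  have hDS : D ≤ S := preimageAlong_le θ D'
  have hgP : ∀ x ∈ P, g x ∈ P := by
    intro x hx
    rw [hP, mem_preimageAlong]
    refine ⟨hg.mem (hPD hx), ?_⟩
    rw [hgg' x (hPD hx)]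
    have hx' : extOn θ x ∈ P' := ((mem_preimageAlong θ P' x).1 hx).2
    rw [hg'f' _ hx']
    exact hf'P' _ hx'
  have hgR : ∀ x ∈ R, g x ∈ R := by
    intro x hx
    rw [hRdef, mem_preimageAlong]
    refine ⟨hg.mem (hRD hx), ?_⟩
    rw [hgg' x (hRD hx)]
    exact hg'W' _ ((mem_preimageAlong θ W' x).1 hx).2
  have hSN : S ≤ normalizerIn S R := le_inf le_rfl hR
  have hnm : NMap F R P g :=
    ⟨hg.mono hPD, (hPD.trans hDS).trans hSN, fun x hx => hSN (hg.mem (hPD hx)), D, g, hPD, hRD, hg,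
      fun _ _ => rfl, hgR⟩
  obtain ⟨k, hk⟩ := h P g hnm hgP
  refine ⟨k, fun y hy => ?_⟩
  have hyS' : y ∈ θ.range := hrange ▸ hf'.le hy
  obtain ⟨x, hxS, rfl⟩ := exists_extOn_eq_of_mem_range hyS'
  have hxP : x ∈ P := (mem_preimageAlong θ P' x).2 ⟨hxS, hy⟩
  have h1 : ∀ x ∈ P, f' (extOn θ x) = extOn θ (g x) := by
    intro x hx
    have hx' : extOn θ x ∈ P' := ((mem_preimageAlong θ P' x).1 hx).2
    rw [hgg' x (hPD hx), hg'f' _ hx']
  rw [extOn_iterate_induced hgP h1 _ x hxP, hk x hxP]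

end factor

section normal

variable {F : FusionSystem S} {N : Subgroup Ω} {θ : S →* Ω'} {E : FusionSystem S'} {p : ℕ}

/-- modulo `N`, every automorphism of a subgroup containing... has `p`-power order -/
theorem exists_iterate_mod [Finite S] [Fact p.Prime] (hS : IsPGroup p S) (hF : F.IsSaturated p)
    (hN : F.StronglyClosed N) (hE : F.IsFactorSystem N θ E) (hEp : PInner E p) {R : Subgroup Ω}
    {f : Ω → Ω} (hf : IsMapOn F R f) (hfR : ∀ x ∈ R, f x ∈ R) :
    ∃ k : ℕ, ∀ x ∈ R, x⁻¹ * f^[p ^ k] x ∈ N := by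
  have hRS : R ≤ S := hf.le
  obtain ⟨f', hf', hf'f⟩ := exists_induced_isMapOn hS hF hN hE hf
  have hf'R : ∀ y ∈ imageAlong θ R, f' y ∈ imageAlong θ R := by
    intro y hy
    obtain ⟨x, -, hxR, rfl⟩ := (mem_imageAlong θ R y).1 hy
    rw [hf'f x hxR]
    exact extOn_mem_imageAlong θ hRS (hfR x hxR)
  obtain ⟨k, hk⟩ := hEp _ f' hf' hf'R
  refine ⟨k, fun x hx => ?_⟩
  have h1 := extOn_iterate_induced (θ := θ) hfR hf'f (p ^ k) x hx
  rw [hk _ (extOn_mem_imageAlong θ hRS hx)] at h1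
  exact (extOn_eq_iff hE.2.1 (hRS hx) (hRS (iterate_mem hfR _ hx))).1 h1

/-- an automorphism centralizing `N` and `R/N` has `p`-power order -/
theorem pPow_of_stabilizes [Finite S] [Fact p.Prime] (hS : IsPGroup p S) {R : Subgroup Ω} {g : Ω → Ω}
    (hNS : N ≤ S) (hg : IsMapOn F R g) (hNR : N ≤ R)
    (hgN : ∀ x ∈ N, g x = x) (hgRN : ∀ x ∈ R, x⁻¹ * g x ∈ N) : PPow p R g := by
  have hpN : IsPGroup p N := hS.to_le hNS
  have hfinN : Finite N := Finite.of_injective (Subgroup.inclusion hNS) (Subgroup.inclusion_injective hNS)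
  obtain ⟨j, hj⟩ := IsPGroup.iff_card.1 hpN
  have key : ∀ n : ℕ, ∀ x ∈ R, g^[n] x = x * (x⁻¹ * g x) ^ n := by
    intro n
    induction n with
    | zero => intro x _; simp
    | succ n ih =>
      intro x hx
      rw [Function.iterate_succ_apply', ih x hx, hg.map_mul hx (R.pow_mem (hNR (hgRN x hx)) n),
        hgN _ (N.pow_mem (hgRN x hx) n), pow_succ', ← mul_assoc, ← mul_assoc, mul_inv_cancel, one_mul]
  refine ⟨j, fun x hx => ?_⟩
  rw [key _ x hx, ← hj]
  have h1 : (⟨x⁻¹ * g x, hgRN x hx⟩ : N) ^ Nat.card N = 1 := pow_card_eq_one'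
  have h2 : (x⁻¹ * g x) ^ Nat.card N = 1 := congrArg Subtype.val h1
  rw [h2, mul_one]

/-- an automorphism centralizing `N` has `p`-power order, if all automorphisms of the factor system have -/
theorem pPow_of_fixes [Finite S] [Fact p.Prime] (hS : IsPGroup p S) (hF : F.IsSaturated p)
    (hN : F.StronglyClosed N) (hE : F.IsFactorSystem N θ E) (hEp : PInner E p) {R : Subgroup Ω}
    {f : Ω → Ω} (hf : IsMapOn F R f) (hfR : ∀ x ∈ R, f x ∈ R) (hNR : N ≤ R) (hfN : ∀ x ∈ N, f x = x) :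
    PPow p R f := by
  obtain ⟨k, hk⟩ := exists_iterate_mod hS hF hN hE hEp hf hfR
  apply PPow.of_iterate k
  have hit : ∀ n : ℕ, IsMapOn F R (f^[n]) := by
    intro n
    induction n with
    | zero => exact IsMapOn.id F hf.le
    | succ n ih =>
      rw [Function.iterate_succ]
      exact hf.comp ih hfR
  have hfixN : ∀ n : ℕ, ∀ x ∈ N, f^[n] x = x := by
    intro n
    induction n with
    | zero => intro x _; rfl
    | succ n ih =>
      intro x hx
      rw [Function.iterate_succ_apply, hfN x hx, ih x hx]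
  exact pPow_of_stabilizes hS hN.1 (hit _) hNR (hfixN _) hk

end normal

section centric

variable {F : FusionSystem S} {N : Subgroup Ω} {θ : S →* Ω'} {E : FusionSystem S'} {p : ℕ}

/-- `C_S(N)` is contained in every centric radical subgroup, if all automorphisms of `F/N` have `p`-power order -/
theorem centralizerIn_le_of_centric_radical [Finite S] [Fact p.Prime] (hS : IsPGroup p S)
    (hF : F.IsSaturated p) (hNn : F.IsNormal N) (hE : F.IsFactorSystem N θ E) (hEp : PInner E p)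
    {R : Subgroup Ω} (hRc : F.IsCentric R) (hRr : F.IsRadical p R) : centralizerIn S N ≤ R := by
  have hN : F.StronglyClosed N := Helper84_FusionNormal.IsNormal.stronglyClosed hNn
  have hNS : N ≤ S := hNn.1
  have hRS : R ≤ S := hRc.1
  have hNR : N ≤ R := Helper84_FusionNormal.IsNormal.le_of_isCentric_of_isRadical hS hNn hRc hRr
  have hSN : S ≤ Subgroup.normalizer (N : Set Ω) := Helper84_FusionNormal.IsNormal.le_normalizer hNn
  let K : Subgroup (MulAut R) :=
    { carrier := {α | α ∈ F.autGroup R ∧ ∀ x : R, (x : Ω) ∈ N → α x = x}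
      one_mem' := ⟨Subgroup.one_mem _, fun _ _ => rfl⟩
      mul_mem' := by
        rintro α β ⟨hα, hα'⟩ ⟨hβ, hβ'⟩
        refine ⟨Subgroup.mul_mem _ hα hβ, fun x hx => ?_⟩
        rw [MulAut.mul_apply, hβ' x hx, hα' x hx]
      inv_mem' := by
        rintro α ⟨hα, hα'⟩
        refine ⟨Subgroup.inv_mem _ hα, fun x hx => ?_⟩
        have := hα' x hx
        calc α⁻¹ x = α⁻¹ (α x) := by rw [this]
          _ = x := MulAut.inv_apply_self _ _ _ }
  apply Helper85_FusionNormal.le_of_centric_radical hS F hRc hRr (inf_le_left : centralizerIn S N ≤ S) ?_ K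
    (fun α hα => hα.1) ?_ ?_ ?_
  · -- `C_S(N)` is normal in `S`
    rintro s hs x ⟨hxS, hxC⟩
    refine ⟨S.mul_mem (S.mul_mem hs hxS) (S.inv_mem hs), ?_⟩
    show s * x * s⁻¹ ∈ Subgroup.centralizer (N : Set Ω)
    rw [Subgroup.mem_centralizer_iff]
    intro n hn
    have hn' : s⁻¹ * n * s ∈ N := by
      have := (Subgroup.mem_normalizer_iff.1 (hSN (S.inv_mem hs)) n).1 hn
      rwa [inv_inv] at this
    have h1 := (Subgroup.mem_centralizer_iff.1 hxC) _ hn'
    calc n * (s * x * s⁻¹) = s * ((s⁻¹ * n * s) * x) * s⁻¹ := by group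
      _ = s * (x * (s⁻¹ * n * s)) * s⁻¹ := by rw [h1]
      _ = s * x * s⁻¹ * n := by group
  · -- `K` is normalized by `Aut_F(R)`
    rintro β hβ α ⟨hα, hα'⟩
    refine ⟨Subgroup.mul_mem _ (Subgroup.mul_mem _ hβ hα) (Subgroup.inv_mem _ hβ), fun x hx => ?_⟩
    have h1 : ((β⁻¹ x : R) : Ω) ∈ N := stronglyClosed_aut_mem hN hRS (Subgroup.inv_mem _ hβ) x hx
    rw [MulAut.mul_apply, MulAut.mul_apply, hα' _ h1, MulAut.apply_inv_self]
  · -- `K` is a `p`-group
    rintro ⟨α, hα, hα'⟩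
    have hmap : IsMapOn F R (extFun α) := (mem_autGroup_iff F hRS α).1 hα
    have h1 := pPow_of_fixes hS hF hN hE hEp hmap (fun x hx => extFun_mem α hx) hNR (fun x hx => by
      rw [extFun_apply α (hNR hx), hα' ⟨x, hNR hx⟩ hx])
    obtain ⟨k, hk⟩ := (pPow_extFun_iff α).1 h1
    exact ⟨k, Subtype.ext hk⟩
  · -- elements of `C_S(N)` normalizing `R` induce elements of `K`
    rintro r ⟨hrS, hrC⟩ hrN
    refine ⟨autInducedBy_le_autGroup F hRS
      ((mem_autInducedBy_iff S R _).2 ⟨r, hrS, fun _ => rfl⟩), fun x hx => ?_⟩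
    apply Subtype.ext
    show r * (x : Ω) * r⁻¹ = x
    have := (Subgroup.mem_centralizer_iff.1 hrC) _ hx
    rw [← this]
    group

/-- **Normality from invariance under the automorphism groups of the centric radical subgroups.** -/
theorem isNormal_of_frc [Finite S] [Fact p.Prime] (hS : IsPGroup p S) (hF : F.IsSaturated p)
    {Q : Subgroup Ω} (hQS : Q ≤ S) (hSQ : S ≤ Subgroup.normalizer (Q : Set Ω))
    (h : ∀ R : Subgroup Ω, F.IsFullyAutomized p R → F.IsReceptive R → F.IsCentric R → F.IsRadical p R →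
      Q ≤ R ∧ ∀ α ∈ F.autGroup R, ∀ x : R, (x : Ω) ∈ Q → ((α x : R) : Ω) ∈ Q) : F.IsNormal Q := by
  have hnorm : normalizerIn S Q = S := le_antisymm inf_le_left (le_inf le_rfl hSQ)
  let E : FusionSystem S := Helper87_Normal.castSystem hnorm (Helper85_Fusion.normalizerSystem F Q hQS)
  have hEhom : ∀ P, E.Hom P = F.normalizerHom Q P := fun P => Helper87_Normal.castSystem_hom hnorm _ P
  have hsub : F.IsSubsystemOf E := by
    refine alperin_frc F hS hF E ?_
    intro R hRa hRr hRc hRrad α hα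
    have hRS : R ≤ S := hRa.1
    obtain ⟨hQR, hinv⟩ := h R hRa hRr hRc hRrad
    have h1 : R.subtype.comp (α : MulAut R).toMonoidHom ∈ F.Hom R := (mem_autGroup_iff' F hRS α).1 hα
    rw [hEhom]
    have hsup : R ⊔ Q ≤ R := sup_le le_rfl hQR
    refine ⟨h1, by rw [hnorm]; exact hRS, fun x => by
      rw [hnorm]; exact hom_mem F h1 x, (R.subtype.comp (α : MulAut R).toMonoidHom).comp (Subgroup.inclusion hsup),
      restrict_mem F h1 hsup, fun x => ?_, ?_⟩
    · rfl
    · ext y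
      rw [Helper85_Fusion.mem_map_subgroupOf]
      constructor
      · rintro ⟨z, hz, hD, rfl⟩
        exact hinv α hα ⟨z, hsup hD⟩ hz
      · intro hy
        have hα' : α⁻¹ ∈ F.autGroup R := (F.autGroup R).inv_mem hα
        have hz := hinv α⁻¹ hα' ⟨y, hQR hy⟩ hy
        refine ⟨((α⁻¹ ⟨y, hQR hy⟩ : R) : Ω), hz, (le_sup_left : R ≤ R ⊔ Q) (α⁻¹ ⟨y, hQR hy⟩).2, ?_⟩
        show ((α (α⁻¹ ⟨y, hQR hy⟩) : R) : Ω) = y
        simp
  refine ⟨hQS, fun P φ hφ => ?_⟩
  have h1 := hsub P hφ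
  rw [hEhom] at h1
  obtain ⟨-, -, -, ψ, hψ, hext, himg⟩ := h1
  exact ⟨ψ, hψ, hext, himg⟩

/-- **If `N` is normal in `F` and all automorphisms of `F/N` have `p`-power order, then `N C_S(N)` is normal and
centric in `F`.** -/
theorem isNormal_isCentric_sup_centralizerIn [Finite S] [Fact p.Prime] (hS : IsPGroup p S)
    (hF : F.IsSaturated p) (hNn : F.IsNormal N) (hE : F.IsFactorSystem N θ E) (hEp : PInner E p) :
    F.IsNormal (N ⊔ centralizerIn S N) ∧ F.IsCentric (N ⊔ centralizerIn S N) := by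
  have hN : F.StronglyClosed N := Helper84_FusionNormal.IsNormal.stronglyClosed hNn
  have hNS : N ≤ S := hNn.1
  have hSN : S ≤ Subgroup.normalizer (N : Set Ω) := Helper84_FusionNormal.IsNormal.le_normalizer hNn
  have hCS : centralizerIn S N ≤ S := inf_le_left
  have hQS : N ⊔ centralizerIn S N ≤ S := sup_le hNS hCS
  -- `C_S(N)` is normalized by `S`
  have hCn : ∀ s ∈ S, ∀ x ∈ centralizerIn S N, s * x * s⁻¹ ∈ centralizerIn S N := by
    rintro s hs x ⟨hxS, hxC⟩
    refine ⟨S.mul_mem (S.mul_mem hs hxS) (S.inv_mem hs), ?_⟩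
    show s * x * s⁻¹ ∈ Subgroup.centralizer (N : Set Ω)
    rw [Subgroup.mem_centralizer_iff]
    intro n hn
    have hn' : s⁻¹ * n * s ∈ N := by
      have := (Subgroup.mem_normalizer_iff.1 (hSN (S.inv_mem hs)) n).1 hn
      rwa [inv_inv] at this
    have h1 := (Subgroup.mem_centralizer_iff.1 hxC) _ hn'
    calc n * (s * x * s⁻¹) = s * ((s⁻¹ * n * s) * x) * s⁻¹ := by group
      _ = s * (x * (s⁻¹ * n * s)) * s⁻¹ := by rw [h1]
      _ = s * x * s⁻¹ * n := by group
  have hSC : S ≤ Subgroup.normalizer ((centralizerIn S N : Subgroup Ω) : Set Ω) :=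
    le_normalizer_of_conj_mem hCn
  have hSQ : S ≤ Subgroup.normalizer ((N ⊔ centralizerIn S N : Subgroup Ω) : Set Ω) := by
    intro s hs
    have h1 := hSN hs
    have h2 := hSC hs
    rw [Subgroup.mem_normalizer_iff_map_conj_eq] at h1 h2 ⊢
    show (N ⊔ centralizerIn S N).map (MulAut.conj s).toMonoidHom = N ⊔ centralizerIn S N
    rw [Subgroup.map_sup]
    have h1' : N.map (MulAut.conj s).toMonoidHom = N := h1
    have h2' : (centralizerIn S N).map (MulAut.conj s).toMonoidHom = centralizerIn S N := h2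
    rw [h1', h2']
  have hnormal : F.IsNormal (N ⊔ centralizerIn S N) := by
    apply isNormal_of_frc hS hF hQS hSQ
    intro R hRa hRr hRc hRrad
    have hRS : R ≤ S := hRa.1
    have hNR : N ≤ R := Helper84_FusionNormal.IsNormal.le_of_isCentric_of_isRadical hS hNn hRc hRrad
    have hCR : centralizerIn S N ≤ R := centralizerIn_le_of_centric_radical hS hF hNn hE hEp hRc hRrad
    refine ⟨sup_le hNR hCR, ?_⟩
    -- invariance
    have hinvC : ∀ α ∈ F.autGroup R, ∀ x : R, (x : Ω) ∈ centralizerIn S N →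
        ((α x : R) : Ω) ∈ centralizerIn S N := by
      intro α hα x hx
      refine ⟨hRS (α x).2, ?_⟩
      show ((α x : R) : Ω) ∈ Subgroup.centralizer (N : Set Ω)
      rw [Subgroup.mem_centralizer_iff]
      intro n hn
      have hα' : α⁻¹ ∈ F.autGroup R := (F.autGroup R).inv_mem hα
      have hn' : ((α⁻¹ ⟨n, hNR hn⟩ : R) : Ω) ∈ N := stronglyClosed_aut_mem hN hRS hα' ⟨n, hNR hn⟩ hn
      have h1 := (Subgroup.mem_centralizer_iff.1 hx.2) _ hn'
      have h2 : α⁻¹ ⟨n, hNR hn⟩ * x = x * α⁻¹ ⟨n, hNR hn⟩ := Subtype.ext h1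
      have h3 := congrArg α h2
      rw [map_mul, map_mul, MulAut.apply_inv_self] at h3
      exact congrArg Subtype.val h3
    intro α hα x hx
    have hCN : centralizerIn S N ≤ Subgroup.normalizer (N : Set Ω) := hCS.trans hSN
    have hx' : (x : Ω) ∈ centralizerIn S N ⊔ N := by rwa [sup_comm]
    obtain ⟨c, hc, n, hn, hxcn⟩ := (mem_sup_iff_exists_mul hCN _).1 hx'
    have hxe : x = ⟨c, hCR hc⟩ * ⟨n, hNR hn⟩ := Subtype.ext hxcn
    rw [hxe, map_mul]
    exact Subgroup.mul_mem _ ((le_sup_right : centralizerIn S N ≤ N ⊔ centralizerIn S N)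
        (hinvC α hα ⟨c, hCR hc⟩ hc))
      ((le_sup_left : N ≤ N ⊔ centralizerIn S N) (stronglyClosed_aut_mem hN hRS hα ⟨n, hNR hn⟩ hn))
  refine ⟨hnormal, ?_⟩
  have hfn := Helper84_Model.FBiset.isFullyNormalized_of_isNormal hnormal
  have hfc := Helper84_FusionRS.IsSaturated.isFullyCentralized hS hF hfn
  apply Helper84_FusionEssential.isCentric_of_centralizerIn_le F hfc
  rintro x ⟨hxS, hxC⟩
  apply (le_sup_right : centralizerIn S N ≤ N ⊔ centralizerIn S N)
  refine ⟨hxS, ?_⟩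
  show x ∈ Subgroup.centralizer (N : Set Ω)
  have hxC' : x ∈ Subgroup.centralizer ((N ⊔ centralizerIn S N : Subgroup Ω) : Set Ω) := hxC
  rw [Subgroup.mem_centralizer_iff] at hxC' ⊢
  intro n hn
  exact hxC' n ((le_sup_left : N ≤ N ⊔ centralizerIn S N) hn)

end centric

end Cfsg.Agent.Lib.Helper84_KLQuot
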