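import Cfsg.Agent.Lib.Helper88_KLB1
import Cfsg.Agent.Lib.Helper88_KLB3
import Cfsg.Agent.Lib.Helper84_KLQuot
import Cfsg.Agent.Lib.Helper85_FusionNormal
import Cfsg.Agent.Lib.Helper87_Normal
import Cfsg.Agent.Lib.Helper87_Factor2
import Cfsg.Prelude.Def_FusionComponents

/-!
Kessar–Linckelmann Theorem B (helper88), part 4.  Let `Q` be normal in the saturated system `F`,
`E'` the factor system `F/Q` and `Ū` a subgroup normal in `E'`.  Then the full preimage `U` of `Ū`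
is normal in `S C_F(Q)`.
-/

set_option autoImplicit false

universe u v

namespace Cfsg.Agent.Lib.Helper88_KLB4

open Cfsg Cfsg.FusionSystem Cfsg.Agent.Lib.Helper85_Fusion Cfsg.Agent.Lib.Helper87_Alperin
  Cfsg.Agent.Lib.Helper87_Alperin2 Cfsg.Agent.Lib.Helper87_PInner Cfsg.Agent.Lib.Helper87_Factor
  Cfsg.Agent.Lib.Helper87_Factor2 Cfsg.Agent.Lib.Helper88_KLB1 Cfsg.Agent.Lib.Helper88_KLB3
  Cfsg.Agent.Lib.Helper84_KLBasic

variable {Ω : Type u} [Group Ω] {S : Subgroup Ω} {Ω' : Type v} [Group Ω'] {S' : Subgroup Ω'}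

/-- Powers of an automorphism acting on a stable subgroup as conjugation. -/
theorem pow_apply_of_conj_on {R Q : Subgroup Ω} (β : MulAut R) (s : Ω)
    (hsQ : ∀ x ∈ Q, s * x * s⁻¹ ∈ Q) (h : ∀ x : R, (x : Ω) ∈ Q → ((β x : R) : Ω) = s * x * s⁻¹)
    (n : ℕ) (x : R) (hx : (x : Ω) ∈ Q) :
    (((β ^ n) x : R) : Ω) = s ^ n * x * (s ^ n)⁻¹ ∧ (((β ^ n) x : R) : Ω) ∈ Q := by
  induction n with
  | zero => simpa using hx
  | succ n ih =>
    obtain ⟨ih1, ih2⟩ := ih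
    have h1 : (((β ^ (n + 1)) x : R) : Ω) = s * (((β ^ n) x : R) : Ω) * s⁻¹ := by
      rw [pow_succ', MulAut.mul_apply]
      exact h _ ih2
    refine ⟨?_, ?_⟩
    · rw [h1, ih1, pow_succ']
      group
    · rw [h1]
      exact hsQ _ ih2

/-- **The full preimage of a subgroup normal in `F/Q` is normal in `S C_F(Q)`.** -/
theorem isNormal_scSystem_preimageAlong [Finite S] {p : ℕ} [Fact p.Prime] (hS : IsPGroup p S)
    (F : FusionSystem S) (hF : F.IsSaturated p) {Q : Subgroup Ω} (hQn : F.IsNormal Q)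
    (hSQ : S ≤ Subgroup.normalizer (Q : Set Ω)) {θ : S →* Ω'} {E' : FusionSystem S'}
    (hE' : F.IsFactorSystem Q θ E') (hS' : IsPGroup p S') {Ub : Subgroup Ω'} (hUb : E'.IsNormal Ub) :
    (scSystem F Q hQn.1 hSQ).IsNormal (preimageAlong θ Ub) := by
  classical
  have hQS : Q ≤ S := hQn.1
  have hQsc : F.StronglyClosed Q := Helper84_FusionNormal.IsNormal.stronglyClosed hQn
  have hker : ∀ s : S, θ s = 1 ↔ (s : Ω) ∈ Q := hE'.2.1
  set Esc := scSystem F Q hQS hSQ with hEsc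
  have hEsat : Esc.IsSaturated p := scSystem_isSaturated F hQS hSQ hS hF
  have hQnE : Esc.IsNormal Q := isNormal_scSystem F hQS hSQ
  set U : Subgroup Ω := preimageAlong θ Ub with hU
  have hUS : U ≤ S := preimageAlong_le θ Ub
  have hUbsc : E'.StronglyClosed Ub := Helper84_FusionNormal.IsNormal.stronglyClosed hUb
  have hUbS' : Ub ≤ S' := hUb.1
  have hUsc : F.StronglyClosed U := stronglyClosed_preimageAlong F hS hF hQsc hE' hUbsc
  have hsub : ∀ (P : Subgroup Ω) (f : Ω → Ω), IsMapOn Esc P f → IsMapOn F P f :=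
    fun P f hf => isMapOn_of_scSystem F hQS hSQ hf
  have hUscE : Esc.StronglyClosed U := by
    refine ⟨hUS, fun R hR φ hφ x => ?_⟩
    exact hUsc.2 R hR φ hφ.1 x
  have hSU : ∀ s ∈ S, ∀ x ∈ U, s * x * s⁻¹ ∈ U :=
    fun s hs x hx => Helper87_Normal.stronglyClosed_conj_mem hUsc hs hx
  have hmemU : ∀ x, x ∈ U ↔ x ∈ S ∧ extOn θ x ∈ Ub := fun x => mem_preimageAlong θ Ub x
  apply Helper87_Normal.isNormal_of_le_frc Esc hS hEsat hUscE
  intro R hRa hRr hRc hRrad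
  have hRS : R ≤ S := hRc.1
  have hQR : Q ≤ R := Helper84_FusionNormal.IsNormal.le_of_isCentric_of_isRadical hS hQnE hRc hRrad
  have hfinR : Finite R := Helper84_FusionRS.finite_of_le_S hRS
  -- the subgroup `K` of automorphisms acting on `R/Q` as conjugation by an element of `Ū`
  let K : Subgroup (MulAut R) :=
    { carrier := {α | α ∈ Esc.autGroup R ∧ ∃ ub ∈ Ub, ∀ x : R,
        extOn θ ((α x : R) : Ω) = ub * extOn θ (x : Ω) * ub⁻¹}
      one_mem' := ⟨Subgroup.one_mem _, 1, Ub.one_mem, fun x => by simp⟩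
      mul_mem' := by
        rintro α β ⟨hα, ua, hua, ha⟩ ⟨hβ, ub, hub, hb⟩
        refine ⟨Subgroup.mul_mem _ hα hβ, ua * ub, Ub.mul_mem hua hub, fun x => ?_⟩
        rw [MulAut.mul_apply, ha, hb]
        group
      inv_mem' := by
        rintro α ⟨hα, ua, hua, ha⟩
        refine ⟨Subgroup.inv_mem _ hα, ua⁻¹, Ub.inv_mem hua, fun x => ?_⟩
        have h1 := ha (α⁻¹ x)
        rw [MulAut.apply_inv_self] at h1
        rw [h1]
        group }
  refine Helper85_FusionNormal.le_of_centric_radical hS Esc hRc hRrad hUS hSU K (fun α hα => hα.1)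
    ?_ ?_ ?_
  · -- `K` is normalized by `Aut(R)`
    rintro γ hγ α ⟨hα, ua, hua, ha⟩
    refine ⟨Subgroup.mul_mem _ (Subgroup.mul_mem _ hγ hα) (Subgroup.inv_mem _ hγ), ?_⟩
    have hγF : IsMapOn F R (extFun γ) :=
      hsub R _ ((Helper87_Alperin.mem_autGroup_iff Esc hRS γ).1 hγ)
    obtain ⟨γ', hγ', hγ'γ⟩ := Helper84_KLQuot.exists_induced_isMapOn hS hF hQsc hE' hγF
    have h1 := controls_of_isNormal hUb _ γ' hγ'
    obtain ⟨-, -, -, g, hg1, hg2, hg3⟩ := h1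
    have hua' : ua ∈ imageAlong θ R ⊔ Ub := (le_sup_right : Ub ≤ imageAlong θ R ⊔ Ub) hua
    refine ⟨g ua, (hg3 _).2 ⟨ua, hua, rfl⟩, fun x => ?_⟩
    have hy : extOn θ ((γ⁻¹ x : R) : Ω) ∈ imageAlong θ R := extOn_mem_imageAlong θ hRS (γ⁻¹ x).2
    have hy' : extOn θ ((γ⁻¹ x : R) : Ω) ∈ imageAlong θ R ⊔ Ub :=
      (le_sup_left : imageAlong θ R ≤ imageAlong θ R ⊔ Ub) hy
    have hαy : extOn θ ((α (γ⁻¹ x) : R) : Ω) ∈ imageAlong θ R :=
      extOn_mem_imageAlong θ hRS (α (γ⁻¹ x)).2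
    have e1 : ((γ * α * γ⁻¹) x : R) = γ (α (γ⁻¹ x)) := rfl
    rw [e1]
    have e2 : extOn θ ((γ (α (γ⁻¹ x)) : R) : Ω) = γ' (extOn θ ((α (γ⁻¹ x) : R) : Ω)) := by
      rw [hγ'γ _ (α (γ⁻¹ x)).2, extFun_coe]
    rw [e2, ← hg2 _ hαy, ha (γ⁻¹ x),
      hg1.map_mul ((imageAlong θ R ⊔ Ub).mul_mem hua' hy') ((imageAlong θ R ⊔ Ub).inv_mem hua'),
      hg1.map_mul hua' hy', hg1.map_inv hua', hg2 _ hy, hγ'γ _ (γ⁻¹ x).2, extFun_coe,
      MulAut.apply_inv_self]
  · -- `K` is a `p`-group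
    rintro ⟨α, hα, ua, hua, ha⟩
    -- powers of `α`
    have hpow : ∀ n : ℕ, ∀ x : R, extOn θ (((α ^ n) x : R) : Ω) = ua ^ n * extOn θ (x : Ω) * (ua ^ n)⁻¹ := by
      intro n
      induction n with
      | zero => intro x; simp
      | succ n ih =>
        intro x
        rw [pow_succ', MulAut.mul_apply, ha, ih, pow_succ']
        group
    obtain ⟨k, hk⟩ := hS' ⟨ua, hUbS' hua⟩
    have hk' : ua ^ (p ^ k) = 1 := by
      have := congrArg Subtype.val hk
      simpa using this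
    set β : MulAut R := α ^ (p ^ k) with hβdef
    have hβE : β ∈ Esc.autGroup R := Subgroup.pow_mem _ hα _
    have hβmod : ∀ n : ℕ, ∀ x : R, extOn θ (((β ^ n) x : R) : Ω) = extOn θ (x : Ω) := by
      intro n x
      rw [hβdef, ← pow_mul, hpow, pow_mul, hk']
      simp
    -- `β` acts on `Q` as conjugation by an element of `S`
    have hβmap : IsMapOn Esc R (extFun β) := (Helper87_Alperin.mem_autGroup_iff Esc hRS β).1 hβE
    obtain ⟨s, hs, hβs⟩ := exists_conj_of_isMapOn_scSystem F hQS hSQ hβmap hQR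
    have hsQ : ∀ x ∈ Q, s * x * s⁻¹ ∈ Q :=
      fun x hx => (Subgroup.mem_normalizer_iff.1 (hSQ hs) x).1 hx
    have hβs' : ∀ x : R, (x : Ω) ∈ Q → ((β x : R) : Ω) = s * x * s⁻¹ := by
      intro x hx
      rw [← hβs _ hx, extFun_coe]
    obtain ⟨m, hm⟩ := hS ⟨s, hs⟩
    have hm' : s ^ (p ^ m) = 1 := by
      have := congrArg Subtype.val hm
      simpa using this
    set γ : MulAut R := β ^ (p ^ m) with hγdef
    have hγE : γ ∈ Esc.autGroup R := Subgroup.pow_mem _ hβE _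
    have hγQ : ∀ x ∈ Q, extFun γ x = x := by
      intro x hx
      rw [extFun_apply γ (hQR hx)]
      have := (pow_apply_of_conj_on β s hsQ hβs' (p ^ m) ⟨x, hQR hx⟩ hx).1
      rw [hm'] at this
      simpa using this
    have hγmap : IsMapOn F R (extFun γ) :=
      hsub R _ ((Helper87_Alperin.mem_autGroup_iff Esc hRS γ).1 hγE)
    have hγmod : ∀ x ∈ R, x⁻¹ * extFun γ x ∈ Q := by
      intro x hx
      rw [extFun_apply γ hx]
      have h1 := hβmod (p ^ m) ⟨x, hx⟩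
      have h2 : extOn θ (x⁻¹ * ((γ ⟨x, hx⟩ : R) : Ω)) = 1 := by
        rw [extOn_mul θ (S.inv_mem (hRS hx)) (hRS (γ ⟨x, hx⟩).2), extOn_inv θ (hRS hx), hγdef, h1]
        simp
      exact (extOn_eq_one_iff hker (S.mul_mem (S.inv_mem (hRS hx)) (hRS (γ ⟨x, hx⟩).2))).1 h2
    have hPP := Helper84_KLQuot.pPow_of_stabilizes hS hQS hγmap hQR hγQ hγmod
    obtain ⟨j, hj⟩ := (pPow_extFun_iff γ).1 hPP
    refine ⟨k + m + j, Subtype.ext ?_⟩
    show α ^ (p ^ (k + m + j)) = 1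
    rw [pow_add, pow_add, pow_mul, pow_mul, ← hβdef, ← hγdef]
    exact hj
  · -- elements of `U` normalizing `R` induce elements of `K`
    intro r hrU hrN
    have hrS : r ∈ S := hUS hrU
    refine ⟨Helper87_Alperin.autInducedBy_le_autGroup Esc hRS
      ((Helper87_Alperin.mem_autInducedBy_iff S R _).2 ⟨r, hrS, fun _ => rfl⟩),
      extOn θ r, ((hmemU r).1 hrU).2, fun x => ?_⟩
    show extOn θ (r * (x : Ω) * r⁻¹) = _
    rw [extOn_mul θ (S.mul_mem hrS (hRS x.2)) (S.inv_mem hrS), extOn_mul θ hrS (hRS x.2),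
      extOn_inv θ hrS]

end Cfsg.Agent.Lib.Helper88_KLB4
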