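import Cfsg.Agent.Lib.Helper88_KLB2
import Cfsg.Agent.Lib.Helper88_KLB3
import Cfsg.Agent.Lib.Helper84_KLBasic
import Cfsg.Agent.Lib.Helper87_GTCentric

/-!
Kessar–Linckelmann Theorem B (helper88), part 5: `F = ⟨S C_F(Q), N_F(Q C_S(Q))⟩` for `Q` normal
in the saturated system `F` (Kessar–Linckelmann, Proposition 3.4), in the form: a fusion system
over `S` containing the maps of `S C_F(Q)` and of `N_F(Q C_S(Q))` contains the maps of `F`.
-/

set_option autoImplicit false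

universe u

namespace Cfsg.Agent.Lib.Helper88_KLB5

open Cfsg Cfsg.FusionSystem Cfsg.Agent.Lib.Helper85_Fusion Cfsg.Agent.Lib.Helper87_Alperin
  Cfsg.Agent.Lib.Helper87_Alperin2 Cfsg.Agent.Lib.Helper87_PInner Cfsg.Agent.Lib.Helper88_KLB1
  Cfsg.Agent.Lib.Helper88_KLB2 Cfsg.Agent.Lib.Helper88_KLB3 Cfsg.Agent.Lib.Helper87_GTTransport

variable {Ω : Type u} [Group Ω] {S : Subgroup Ω}

/-- `S` normalizes `Q C_S(Q)` when `Q` is normal in the system. -/
theorem le_normalizer_sup_centralizerIn [Finite S] {F : FusionSystem S} {Q : Subgroup Ω}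
    (hQn : F.IsNormal Q) : S ≤ Subgroup.normalizer ((Q ⊔ centralizerIn S Q : Subgroup Ω) : Set Ω) := by
  have hSQ : S ≤ Subgroup.normalizer (Q : Set Ω) := Helper84_FusionNormal.IsNormal.le_normalizer hQn
  have hSC : S ≤ Subgroup.normalizer ((centralizerIn S Q : Subgroup Ω) : Set Ω) :=
    Helper87_Normal.stronglyClosed_le_normalizer (Helper87_GTCentric.stronglyClosed_centralizerIn hQn)
  intro s hs
  rw [Subgroup.mem_normalizer_iff_map_conj_eq, Subgroup.map_sup]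
  have h1 := Subgroup.mem_normalizer_iff_map_conj_eq.1 (hSQ hs)
  have h2 := Subgroup.mem_normalizer_iff_map_conj_eq.1 (hSC hs)
  rw [h1, h2]

/-- **Kessar–Linckelmann, Proposition 3.4.** -/
theorem isMapOn_of_sc_of_norm [Finite S] {p : ℕ} [Fact p.Prime] (hS : IsPGroup p S)
    (F : FusionSystem S) (hF : F.IsSaturated p) {Q : Subgroup Ω} (hQn : F.IsNormal Q)
    (hSQ : S ≤ Subgroup.normalizer (Q : Set Ω)) (E' : FusionSystem S)
    (h1 : ∀ (P : Subgroup Ω) (f : Ω → Ω), IsMapOn (scSystem F Q hQn.1 hSQ) P f → IsMapOn E' P f)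
    (h2 : ∀ (P : Subgroup Ω) (f : Ω → Ω), IsNormMapOn F (Q ⊔ centralizerIn S Q) P f → IsMapOn E' P f) :
    ∀ (P : Subgroup Ω) (f : Ω → Ω), IsMapOn F P f → IsMapOn E' P f := by
  classical
  intro P f hf
  have hQS : Q ≤ S := hQn.1
  have hfinsub : ∀ {A : Subgroup Ω}, A ≤ S → Finite A := fun h => Helper84_FusionRS.finite_of_le_S h
  have hfinQ : Finite Q := hfinsub hQS
  obtain ⟨-, -, -, g₁, hg1, hg2, hg3⟩ := controls_of_isNormal hQn P f hf
  set D : Subgroup Ω := P ⊔ Q with hD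
  have hDS : D ≤ S := hg1.le
  have hQD : Q ≤ D := le_sup_right
  have hQfn : F.IsFullyNormalized Q := isFullyNormalized_of_le_normalizer F hQS hSQ
  have hQr := Helper84_FusionRS.IsSaturated.isReceptive_of_isFullyNormalized hS hF hQfn
  have hg1Q : ∀ x ∈ Q, g₁ x ∈ Q := fun x hx => (hg3 _).2 ⟨x, hx, rfl⟩
  obtain ⟨α, hα, hαg⟩ := Helper84_KLBasic.exists_aut_of_isMapOn (hg1.mono hQD) hg1Q
  obtain ⟨a, ha, haQ⟩ := exists_extension_extender F hQr hα
  set X : Subgroup Ω := extender S Q (autHom α) with hX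
  have haQ' : ∀ x ∈ Q, a x = g₁ x := fun x hx => (haQ x hx).trans (hαg x hx)
  set C : Subgroup Ω := centralizerIn S Q with hC
  have hCX : C ≤ X := centralizerIn_le_extender_autHom α
  have hDX : D ≤ X := by
    intro d hd
    rw [hX, Helper84_FusionRS.mem_extender_iff]
    refine ⟨hDS hd, hSQ (hDS hd), g₁ d, hg1.mem hd, fun x hx => ?_⟩
    have e1 : autHom α ⟨d * x * d⁻¹, hx⟩ = g₁ (d * x * d⁻¹) := by
      rw [autHom_apply, ← extFun_coe α, hαg _ hx]
    have e2 : autHom α x = g₁ x := by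
      rw [autHom_apply, ← extFun_coe α, hαg _ x.2]
    rw [e1, e2, hg1.map_mul (D.mul_mem hd (hQD x.2)) (D.inv_mem hd), hg1.map_mul hd (hQD x.2),
      hg1.map_inv hd]
  set R : Subgroup Ω := Q ⊔ C with hR
  set Y : Subgroup Ω := D ⊔ C with hY
  have hYX : Y ≤ X := sup_le hDX hCX
  have hRY : R ≤ Y := sup_le (hQD.trans le_sup_left) le_sup_right
  have haY : IsMapOn F Y a := ha.mono hYX
  have hYS : Y ≤ S := haY.le
  have hRS : R ≤ S := hRY.trans hYS
  have hfinR : Finite R := hfinsub hRS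
  -- `a` maps `Q` onto `Q`
  have haQQ : ∀ y ∈ Q, ∃ x ∈ Q, a x = y := by
    intro y hy
    obtain ⟨x, hx, rfl⟩ := (hg3 y).1 hy
    exact ⟨x, hx, haQ' x hx⟩
  -- `a` maps `C` into `C`
  have haC : ∀ c ∈ C, a c ∈ C := by
    intro c hc
    have hcY : c ∈ Y := (le_sup_right : C ≤ Y) hc
    refine ⟨haY.mem hcY, ?_⟩
    show a c ∈ Subgroup.centralizer (Q : Set Ω)
    rw [Subgroup.mem_centralizer_iff]
    intro q hq
    obtain ⟨q', hq', rfl⟩ := haQQ q hq
    have hq'Y : q' ∈ Y := hRY ((le_sup_left : Q ≤ R) hq')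
    rw [← haY.map_mul hq'Y hcY, ← haY.map_mul hcY hq'Y]
    congr 1
    exact (Subgroup.mem_centralizer_iff.1 hc.2) q' hq'
  -- `a` maps `R` into `R`
  have haR : ∀ x ∈ R, a x ∈ R := by
    let T₀ : Subgroup Ω :=
      { carrier := {x | x ∈ Y ∧ a x ∈ R}
        one_mem' := ⟨Y.one_mem, by rw [haY.map_one]; exact R.one_mem⟩
        mul_mem' := by
          rintro x y ⟨hx, hx'⟩ ⟨hy, hy'⟩
          exact ⟨Y.mul_mem hx hy, by rw [haY.map_mul hx hy]; exact R.mul_mem hx' hy'⟩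
        inv_mem' := by
          rintro x ⟨hx, hx'⟩
          exact ⟨Y.inv_mem hx, by rw [haY.map_inv hx]; exact R.inv_mem hx'⟩ }
    have hle : R ≤ T₀ := by
      refine sup_le ?_ ?_
      · intro x hx
        refine ⟨hRY ((le_sup_left : Q ≤ R) hx), (le_sup_left : Q ≤ R) ?_⟩
        rw [haQ' x hx]
        exact hg1Q x hx
      · intro x hx
        exact ⟨(le_sup_right : C ≤ Y) hx, (le_sup_right : C ≤ R) (haC x hx)⟩
    intro x hx
    exact (hle hx).2
  have hSR : S ≤ Subgroup.normalizer (R : Set Ω) := le_normalizer_sup_centralizerIn hQn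
  have hNR : normalizerIn S R = S := le_antisymm inf_le_left (le_inf le_rfl hSR)
  have haN : IsNormMapOn F R Y a :=
    isNormMapOn_of_mapsTo haY hRY (hNR.symm ▸ hYS) (fun x hx => hNR.symm ▸ haY.mem hx) haR
  have haE : IsMapOn E' D a := (h2 Y a haN).mono le_sup_left
  -- the inverse of `a` on `a(D)`
  have haD : IsMapOn F D a := ha.mono hDX
  obtain ⟨b, hb, hba, hbD, -⟩ := haD.inv (Q := imgSub haD D le_rfl) (fun y => Iff.rfl)
  set D₂ : Subgroup Ω := imgSub haD D le_rfl with hD₂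
  have hδ : IsMapOn F D₂ (g₁ ∘ b) := hb.comp hg1 hbD
  have hQD₂ : Q ≤ D₂ := by
    intro q hq
    obtain ⟨q', hq', rfl⟩ := haQQ q hq
    exact ⟨q', hQD hq', rfl⟩
  have hδQ : ∀ x ∈ Q, (g₁ ∘ b) x = x := by
    intro q hq
    obtain ⟨q', hq', rfl⟩ := haQQ q hq
    show g₁ (b (a q')) = a q'
    rw [hba q' (hQD hq'), haQ' q' hq']
  have hδE : IsMapOn E' D₂ (g₁ ∘ b) :=
    h1 D₂ _ (isMapOn_scSystem_of_fixes F hQS hSQ hδ hQD₂ hδQ)
  have hcomp : IsMapOn E' D ((g₁ ∘ b) ∘ a) := haE.comp hδE (fun x hx => ⟨x, hx, rfl⟩)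
  have hg1E : IsMapOn E' D g₁ := by
    refine hcomp.congr fun x hx => ?_
    show g₁ (b (a x)) = g₁ x
    rw [hba x hx]
  exact (hg1E.mono le_sup_left).congr hg2

end Cfsg.Agent.Lib.Helper88_KLB5
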