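import Cfsg.Agent.Lib.Helper88_Model
import Cfsg.Agent.Lib.Helper88_PSolvModel
import Cfsg.Agent.Lib.Helper84_FusionRS
import Cfsg.Agent.Lib.Helper87_Alperin2
import Cfsg.Agent.Lib.Helper49_CharP4
import Cfsg.Agent.S5103
import Cfsg.Agent.S5091
import Cfsg.Agent.S5090
import Cfsg.Agent.S5098
import Cfsg.Agent.S5096
import Cfsg.Agent.S5299
import Cfsg.Agent.Lib.Helper84_FusionSat
import Cfsg.Agent.Lib.Helper84_FusionNormal
import Cfsg.Agent.Lib.Helper88_Centric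
import Cfsg.Prelude.Def_FusionReduction
import Cfsg.Prelude.Def_LocalEven
import Cfsg.Prelude.Def_FusionSystem
import Cfsg.Prelude.Def_Solvable

/-!
Sub-models (helper88).

Let `F` be a fusion system over `S`, `Q` fully normalized in `F`, `N = N_F(Q)` over `T = N_S(Q)`,
`R₀ ≥ Q` a subgroup normal in `N`, `φ` a map of `F` defined on `D ≥ T` carrying `R₀` onto `R'`
with values in `N_S(R')`, and `(L', ι')` a model of `N' = N_F(R')`.  Then with
`κ = ι' ∘ φ : T → L'` the subgroup `N_{L'}(κ(Q))` together with `κ` is a model of `N`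
(`exists_subgroup_isModel`); hence any model of `N` embeds in `L'` (`exists_injective_hom`).

Also: `O_p(E)` is radical in `E` when `E` has a model (`isRadical_core_of_isModel`), together with
`exists_theta_spec` (the conjugation action of a model on `O_p`, with its formula).
-/

set_option autoImplicit false

namespace Cfsg.Agent.Lib.Helper88_SubModel

open Cfsg Cfsg.FusionSystem Cfsg.Agent.Lib.Helper85_Fusion Cfsg.Agent.Lib.Helper88_Model

variable {Ω : Type*} [Group Ω] {S : Subgroup Ω}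

section Kappa

variable {Q R' D : Subgroup Ω} (hTD : normalizerIn S Q ≤ D) (φ : D →* Ω)
  (hφN : ∀ x, φ x ∈ normalizerIn S R') {L' : Type*} [Group L'] (ι' : ↥(normalizerIn S R') →* L')

/-- The comparison map `N_S(Q) → L'`: `φ` followed by `ι'`. -/
def kappa : ↥(normalizerIn S Q) →* L' :=
  ι'.comp ((φ.codRestrict _ hφN).comp (Subgroup.inclusion hTD))

theorem kappa_apply (x : Ω) (hx : x ∈ normalizerIn S Q) :
    kappa hTD φ hφN ι' ⟨x, hx⟩ = ι' ⟨φ ⟨x, hTD hx⟩, hφN _⟩ := rfl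

theorem kappa_injective (hφi : Function.Injective φ) (hι : Function.Injective ι') :
    Function.Injective (kappa hTD φ hφN ι') := by
  intro a b hab
  have h1 := hι hab
  have h2 : φ (Subgroup.inclusion hTD a) = φ (Subgroup.inclusion hTD b) := congrArg Subtype.val h1
  exact Subgroup.inclusion_injective hTD (hφi h2)

end Kappa

section Back

variable (F : FusionSystem S) {Q R' D : Subgroup Ω}
  (N : FusionSystem (normalizerIn S Q)) (hN : F.IsNormalizerSystem Q N)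
  (N' : FusionSystem (normalizerIn S R')) (hN' : F.IsNormalizerSystem R' N')
  (hTD : normalizerIn S Q ≤ D) {φ : D →* Ω} (hφ : φ ∈ F.Hom D)
  (hφN : ∀ x, φ x ∈ normalizerIn S R')
  {L' : Type*} [Group L'] {ι' : ↥(normalizerIn S R') →* L'} (hreal' : N'.IsRealizedBy ι')

include hN hN' hφ hreal' in
/-- Conjugation by an element of `N_{L'}(κ(Q))` between subgroups of `κ(N_S(Q))` comes from a map
of `N_F(Q)`. -/
theorem mem_hom_of_conj (hQS : Q ≤ S)
    {P : Subgroup Ω} (hP : P ≤ normalizerIn S Q) (ψ : P →* Ω) (hψ : ∀ x, ψ x ∈ normalizerIn S Q)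
    (m : L')
    (hm : ∀ u ∈ (Q.subgroupOf (normalizerIn S Q)).map (kappa hTD φ hφN ι'),
      m * u * m⁻¹ ∈ (Q.subgroupOf (normalizerIn S Q)).map (kappa hTD φ hφN ι'))
    (hm' : ∀ u ∈ (Q.subgroupOf (normalizerIn S Q)).map (kappa hTD φ hφN ι'),
      m⁻¹ * u * m ∈ (Q.subgroupOf (normalizerIn S Q)).map (kappa hTD φ hφN ι'))
    (hconj : ∀ x : P, kappa hTD φ hφN ι' ⟨ψ x, hψ x⟩ = m * kappa hTD φ hφN ι' ⟨x, hP x.2⟩ * m⁻¹) :
    ψ ∈ N.Hom P := by
  set κ := kappa hTD φ hφN ι' with hκ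
  have hι := hreal'.1
  have hφi := F.injective_of_mem hφ
  have hκi : Function.Injective κ := kappa_injective hTD φ hφN ι' hφi hι
  have hQT : Q ≤ normalizerIn S Q := le_normalizerIn_self hQS
  have hD₁T : P ⊔ Q ≤ normalizerIn S Q := sup_le hP hQT
  -- conjugation by `m` keeps `κ(P ⊔ Q)` inside `κ(T)`
  have hW : ∀ x : ↥(P ⊔ Q), m * κ ⟨x, hD₁T x.2⟩ * m⁻¹ ∈ κ.range := by
    let W : Subgroup Ω := ((κ.range.comap (MulAut.conj m).toMonoidHom).comap κ).map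
      (normalizerIn S Q).subtype
    have hW : P ⊔ Q ≤ W := by
      refine sup_le ?_ ?_
      · intro x hx
        refine ⟨⟨x, hP hx⟩, ?_, rfl⟩
        show m * κ ⟨x, _⟩ * m⁻¹ ∈ κ.range
        rw [← hconj ⟨x, hx⟩]
        exact ⟨_, rfl⟩
      · intro x hx
        refine ⟨⟨x, hQT hx⟩, ?_, rfl⟩
        show m * κ ⟨x, _⟩ * m⁻¹ ∈ κ.range
        obtain ⟨t, -, ht⟩ := hm (κ ⟨x, hQT hx⟩) ⟨⟨x, hQT hx⟩, Subgroup.mem_subgroupOf.2 hx, rfl⟩
        exact ⟨t, ht⟩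
    intro x
    obtain ⟨y, hy, hyx⟩ := hW x.2
    have : y = ⟨x, hD₁T x.2⟩ := Subtype.ext hyx
    rw [← this]
    exact hy
  -- the map `φ` on `P ⊔ Q`
  have hD₁D : P ⊔ Q ≤ D := hD₁T.trans hTD
  set φ₁ : ↥(P ⊔ Q) →* Ω := φ.comp (Subgroup.inclusion hD₁D) with hφ₁
  have hφ₁F : φ₁ ∈ F.Hom (P ⊔ Q) := restrict_mem F hD₁D hφ
  have hAT' : φ₁.range ≤ normalizerIn S R' := by
    rintro _ ⟨x, rfl⟩
    exact hφN _
  have hconjA : ∀ y : φ₁.range, m * ι' ⟨y, hAT' y.2⟩ * m⁻¹ ∈ ι'.range := by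
    rintro ⟨_, x, rfl⟩
    obtain ⟨t, ht⟩ := hW x
    refine ⟨(φ.codRestrict _ hφN) (Subgroup.inclusion hTD t), ?_⟩
    exact ht
  obtain ⟨χ, hχT', hχN', hχ⟩ := IsRealizedBy.exists_mem_of_conj hreal' hAT' m hconjA
  have hχF : χ ∈ F.Hom φ₁.range := by
    rw [hN'] at hχN'
    exact hχN'.1
  -- `φ` on `T` and its inverse
  set φT : ↥(normalizerIn S Q) →* Ω := φ.comp (Subgroup.inclusion hTD) with hφT
  have hφTF : φT ∈ F.Hom (normalizerIn S Q) := restrict_mem F hTD hφ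
  obtain ⟨φTi, hφTi, hinv, -⟩ := inv_mem' F hφTF
  -- values of `χ`
  have hχval : ∀ (x : ↥(P ⊔ Q)) (t : ↥(normalizerIn S Q)),
      κ t = m * κ ⟨x, hD₁T x.2⟩ * m⁻¹ → χ ⟨φ₁ x, ⟨x, rfl⟩⟩ = φT t := by
    intro x t ht
    have h1 := hχ ⟨φ₁ x, ⟨x, rfl⟩⟩
    have h2 : ι' ⟨χ ⟨φ₁ x, ⟨x, rfl⟩⟩, hχT' _⟩ = ι' ⟨φT t, hφN _⟩ := by
      rw [h1]
      exact ht.symm
    exact congrArg Subtype.val (hι h2)
  obtain ⟨ψ₁, hψ₁F, hψ₁⟩ := comp_mem' F hφ₁F hχF (fun x => ⟨x, rfl⟩)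
  have hψ₁r : ∀ x : ↥(P ⊔ Q), ψ₁ x ∈ φT.range := by
    intro x
    obtain ⟨t, ht⟩ := hW x
    rw [hψ₁, hχval x t ht]
    exact ⟨t, rfl⟩
  obtain ⟨ψt, hψtF, hψt⟩ := comp_mem' F hψ₁F hφTi hψ₁r
  have hψtval : ∀ (x : ↥(P ⊔ Q)) (t : ↥(normalizerIn S Q)),
      κ t = m * κ ⟨x, hD₁T x.2⟩ * m⁻¹ → ψt x = t := by
    intro x t ht
    rw [hψt]
    have h1 : ψ₁ x = φT t := by rw [hψ₁, hχval x t ht]
    have h2 := hinv t
    rw [← h2]
    congr 1
    exact Subtype.ext h1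
  have hext : ∀ x : P, ψt (Subgroup.inclusion le_sup_left x) = ψ x := by
    intro x
    exact hψtval (Subgroup.inclusion le_sup_left x) ⟨ψ x, hψ x⟩ (hconj x)
  rw [hN]
  refine ⟨mem_of_eq F (restrict_mem F le_sup_left hψtF) (fun x => (hext x).symm), hP, hψ, ψt,
    hψtF, hext, ?_⟩
  ext y
  rw [mem_map_subgroupOf]
  constructor
  · rintro ⟨x, hxQ, hxD, rfl⟩
    obtain ⟨t, ht, htx⟩ := hm (κ ⟨x, hQT hxQ⟩) ⟨⟨x, hQT hxQ⟩, Subgroup.mem_subgroupOf.2 hxQ, rfl⟩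
    rw [hψtval ⟨x, hxD⟩ t htx]
    exact Subgroup.mem_subgroupOf.1 ht
  · intro hy
    obtain ⟨t, ht, htx⟩ := hm' (κ ⟨y, hQT hy⟩) ⟨⟨y, hQT hy⟩, Subgroup.mem_subgroupOf.2 hy, rfl⟩
    have htQ : (t : Ω) ∈ Q := Subgroup.mem_subgroupOf.1 ht
    have htD : (t : Ω) ∈ P ⊔ Q := (le_sup_right : Q ≤ P ⊔ Q) htQ
    refine ⟨t, htQ, htD, ?_⟩
    refine hψtval ⟨t, htD⟩ ⟨y, hQT hy⟩ ?_
    show κ ⟨y, _⟩ = m * κ ⟨(t : Ω), _⟩ * m⁻¹
    rw [Subtype.coe_eta, htx]
    group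

end Back

section Forth

variable (F : FusionSystem S) {Q R₀ R' D : Subgroup Ω}
  (N : FusionSystem (normalizerIn S Q)) (hN : F.IsNormalizerSystem Q N)
  (N' : FusionSystem (normalizerIn S R')) (hN' : F.IsNormalizerSystem R' N')
  (hTD : normalizerIn S Q ≤ D) {φ : D →* Ω} (hφ : φ ∈ F.Hom D)
  (hφN : ∀ x, φ x ∈ normalizerIn S R')
  {L' : Type*} [Group L'] {ι' : ↥(normalizerIn S R') →* L'} (hreal' : N'.IsRealizedBy ι')

include hN hN' hφ hreal' in
/-- A map of `N_F(Q)` is induced, through `κ`, by an element of `L'` which maps `κ(Q)` into itself. -/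
theorem exists_conj_of_mem_hom (hQR : Q ≤ R₀) (hR₀ : N.IsNormal R₀)
    (hφR : (R₀.subgroupOf D).map φ = R')
    {P : Subgroup Ω} {ψ : P →* Ω} (hψ : ψ ∈ N.Hom P) :
    ∃ m : L', (∀ u ∈ (Q.subgroupOf (normalizerIn S Q)).map (kappa hTD φ hφN ι'),
      m * u * m⁻¹ ∈ (Q.subgroupOf (normalizerIn S Q)).map (kappa hTD φ hφN ι')) ∧
      ∀ x : P, kappa hTD φ hφN ι' ⟨ψ x, (N.le_of_mem hψ).2 x⟩ =
        m * kappa hTD φ hφN ι' ⟨x, (N.le_of_mem hψ).1 x.2⟩ * m⁻¹ := by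
  set κ := kappa hTD φ hφN ι' with hκ
  have hι := hreal'.1
  have hφi := F.injective_of_mem hφ
  obtain ⟨ψ₁, hψ₁N, hext₁, himg₁⟩ := hR₀.2 P ψ hψ
  have hψ₁N' := hψ₁N
  rw [hN] at hψ₁N'
  obtain ⟨hψ₁F, hD₀T, hψ₁T, ψ₂, hψ₂F, hext₂, himg₂⟩ := hψ₁N'
  have hQD₀ : Q ≤ P ⊔ R₀ := hQR.trans le_sup_right
  -- `ψ₁` maps `Q` into `Q`
  have hψ₁Q : ∀ (x : Ω) (hx : x ∈ Q), ψ₁ ⟨x, hQD₀ hx⟩ ∈ Q := by
    intro x hx
    have h1 := hext₂ ⟨x, hQD₀ hx⟩
    rw [← h1]
    exact apply_mem_of_map_eq ψ₂ himg₂ x hx _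
  have hD₀D : P ⊔ R₀ ≤ D := hD₀T.trans hTD
  set φ₀ : ↥(P ⊔ R₀) →* Ω := φ.comp (Subgroup.inclusion hD₀D) with hφ₀
  have hφ₀F : φ₀ ∈ F.Hom (P ⊔ R₀) := restrict_mem F hD₀D hφ
  obtain ⟨φ₀i, hφ₀iF, hinv, -⟩ := inv_mem' F hφ₀F
  have hφ₀i_mem : ∀ y : φ₀.range, φ₀i y ∈ P ⊔ R₀ := by
    rintro ⟨_, x, rfl⟩
    rw [hinv]
    exact x.2
  obtain ⟨χ₁, hχ₁F, hχ₁⟩ := comp_mem' F hφ₀iF hψ₁F hφ₀i_mem
  have hχ₁D : ∀ y : φ₀.range, χ₁ y ∈ D := by
    intro y
    rw [hχ₁]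
    exact hTD (hψ₁T _)
  obtain ⟨χ, hχF, hχ⟩ := comp_mem' F hχ₁F hφ hχ₁D
  have hχval : ∀ x : ↥(P ⊔ R₀), χ ⟨φ₀ x, ⟨x, rfl⟩⟩ = φ ⟨ψ₁ x, hTD (hψ₁T x)⟩ := by
    intro x
    rw [hχ]
    congr 1
    apply Subtype.ext
    show χ₁ ⟨φ₀ x, _⟩ = ψ₁ x
    rw [hχ₁]
    congr 1
    exact Subtype.ext (hinv x)
  have hAT' : φ₀.range ≤ normalizerIn S R' := by
    rintro _ ⟨x, rfl⟩
    exact hφN _
  have hR'A : R' ≤ φ₀.range := by
    intro y hy
    obtain ⟨z, hz, hzD, rfl⟩ := exists_of_map_eq φ hφR y hy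
    exact ⟨⟨z, (le_sup_right : R₀ ≤ P ⊔ R₀) hz⟩, rfl⟩
  have hχN' : χ ∈ N'.Hom φ₀.range := by
    rw [hN']
    refine ⟨hχF, hAT', ?_, ?_⟩
    · rintro ⟨_, x, rfl⟩
      rw [hχval]
      exact hφN _
    · have hle : φ₀.range ⊔ R' ≤ φ₀.range := sup_le le_rfl hR'A
      refine ⟨χ.comp (Subgroup.inclusion hle), restrict_mem F hle hχF, fun x => ?_, ?_⟩
      · show χ _ = χ x
        congr 1
      · rw [map_subgroupOf_comp_inclusion hle le_sup_right χ]
        ext y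
        rw [mem_map_subgroupOf]
        constructor
        · rintro ⟨x, hxR', hxA, rfl⟩
          obtain ⟨z, hz, hzD, rfl⟩ := exists_of_map_eq φ hφR x hxR'
          have hzD₀ : z ∈ P ⊔ R₀ := (le_sup_right : R₀ ≤ P ⊔ R₀) hz
          have h1 := hχval ⟨z, hzD₀⟩
          have h2 : χ ⟨φ ⟨z, hzD⟩, hxA⟩ = φ ⟨ψ₁ ⟨z, hzD₀⟩, hTD (hψ₁T _)⟩ := h1
          rw [h2]
          exact apply_mem_of_map_eq φ hφR _ (apply_mem_of_map_eq ψ₁ himg₁ z hz hzD₀) _
        · intro hy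
          obtain ⟨z, hz, hzD, rfl⟩ := exists_of_map_eq φ hφR y hy
          obtain ⟨w, hw, hwD₀, rfl⟩ := exists_of_map_eq ψ₁ himg₁ z hz
          refine ⟨φ₀ ⟨w, hwD₀⟩, apply_mem_of_map_eq φ hφR w hw _, ⟨_, rfl⟩, ?_⟩
          exact hχval ⟨w, hwD₀⟩
  obtain ⟨m, hm⟩ := IsRealizedBy.exists_conj_of_mem hreal' hχN'
  have hmval : ∀ x : ↥(P ⊔ R₀), κ ⟨ψ₁ x, hψ₁T x⟩ = m * κ ⟨x, hD₀T x.2⟩ * m⁻¹ := by
    intro x
    have h1 := hm ⟨φ₀ x, ⟨x, rfl⟩⟩
    rw [← show ι' ⟨φ₀ x, hAT' ⟨x, rfl⟩⟩ = κ ⟨x, hD₀T x.2⟩ from rfl, ← h1]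
    show ι' ⟨φ ⟨ψ₁ x, _⟩, _⟩ = _
    congr 2
    exact (hχval x).symm
  refine ⟨m, ?_, fun x => ?_⟩
  · rintro _ ⟨⟨x, hxT⟩, hxQ, rfl⟩
    have hxQ' : x ∈ Q := Subgroup.mem_subgroupOf.1 hxQ
    have h1 := hmval ⟨x, hQD₀ hxQ'⟩
    have h2 : m * κ ⟨x, hxT⟩ * m⁻¹ = κ ⟨ψ₁ ⟨x, hQD₀ hxQ'⟩, hψ₁T _⟩ := h1.symm
    rw [h2]
    exact ⟨_, Subgroup.mem_subgroupOf.2 (hψ₁Q x hxQ'), rfl⟩
  · have h1 := hmval (Subgroup.inclusion le_sup_left x)
    have h2 : κ ⟨ψ x, (N.le_of_mem hψ).2 x⟩ =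
        κ ⟨ψ₁ (Subgroup.inclusion le_sup_left x), hψ₁T _⟩ := by
      congr 2
      exact (hext₁ x).symm
    rw [h2, h1]
    rfl

end Forth

section Syl

variable [Finite S] {p : ℕ} [Fact p.Prime] (F : FusionSystem S) {Q R' D : Subgroup Ω}
  (N' : FusionSystem (normalizerIn S R')) (hN' : F.IsNormalizerSystem R' N')
  (hTD : normalizerIn S Q ≤ D) {φ : D →* Ω} (hφ : φ ∈ F.Hom D)
  (hφN : ∀ x, φ x ∈ normalizerIn S R')
  {L' : Type*} [Group L'] [Finite L'] {ι' : ↥(normalizerIn S R') →* L'}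
  (hreal' : N'.IsRealizedBy ι')

include hN' hφ hreal' in
/-- `κ(N_S(Q))` is a Sylow `p`-subgroup of `N_{L'}(κ(Q))` when `Q` is fully normalized. -/
theorem exists_sylow_eq_range (hS : IsPGroup p S) (hQfn : F.IsFullyNormalized Q)
    (hSyl' : ∃ T₀ : Sylow p L', (T₀ : Subgroup L') = ι'.range)
    (hκM : ∀ t, kappa hTD φ hφN ι' t ∈ Subgroup.normalizer
      (((Q.subgroupOf (normalizerIn S Q)).map (kappa hTD φ hφN ι') : Subgroup L') : Set L')) :
    ∃ T₁ : Sylow p ↥(Subgroup.normalizer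
      (((Q.subgroupOf (normalizerIn S Q)).map (kappa hTD φ hφN ι') : Subgroup L') : Set L')),
      (T₁ : Subgroup _) = ((kappa hTD φ hφN ι').codRestrict _ hκM).range := by
  set κ := kappa hTD φ hφN ι' with hκ
  set U : Subgroup L' := (Q.subgroupOf (normalizerIn S Q)).map κ with hU
  set M : Subgroup L' := Subgroup.normalizer (U : Set L') with hM
  set κM : ↥(normalizerIn S Q) →* M := κ.codRestrict M hκM with hκMdef
  have hι := hreal'.1
  have hφi := F.injective_of_mem hφ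
  have hκi : Function.Injective κ := kappa_injective hTD φ hφN ι' hφi hι
  have hκMi : Function.Injective κM := by
    intro a b hab
    exact hκi (congrArg Subtype.val hab)
  have hQS : Q ≤ S := hQfn.1
  have hQT : Q ≤ normalizerIn S Q := le_normalizerIn_self hQS
  obtain ⟨T₀, hT₀⟩ := hSyl'
  have hTp : IsPGroup p ↥(normalizerIn S Q) := hS.to_le inf_le_left
  have hrp : IsPGroup p κM.range := by
    rw [MonoidHom.range_eq_map]
    exact (hTp.to_subgroup ⊤).map κM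
  obtain ⟨PM, hPM⟩ := hrp.exists_le_sylow
  -- conjugate `PM` into `ι'(T')`
  have hP₁p : IsPGroup p ((PM : Subgroup M).map M.subtype) := PM.2.map M.subtype
  obtain ⟨P₂, hP₂⟩ := hP₁p.exists_le_sylow
  obtain ⟨g, hg⟩ := MulAction.exists_smul_eq L' P₂ T₀
  have hgconj : ∀ z : (PM : Subgroup M), g * ((z : M) : L') * g⁻¹ ∈ ι'.range := by
    intro z
    have h1 : ((z : M) : L') ∈ (P₂ : Subgroup L') := hP₂ ⟨z, z.2, rfl⟩
    have h2 := Subgroup.smul_mem_pointwise_smul _ (MulAut.conj g) _ h1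
    rw [← Sylow.coe_subgroup_smul, hg, hT₀] at h2
    exact h2
  -- the conjugate `Q''` of `Q`
  set φQ : Q →* Ω := φ.comp (Subgroup.inclusion (hQT.trans hTD)) with hφQ
  have hφQF : φQ ∈ F.Hom Q := restrict_mem F (hQT.trans hTD) hφ
  have hAT' : φQ.range ≤ normalizerIn S R' := by
    rintro _ ⟨x, rfl⟩
    exact hφN _
  have hκQ_mem : ∀ q : Q, (κM ⟨q, hQT q.2⟩) ∈ (PM : Subgroup M) := fun q => hPM ⟨_, rfl⟩
  have hconjA : ∀ y : φQ.range, g * ι' ⟨y, hAT' y.2⟩ * g⁻¹ ∈ ι'.range := by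
    rintro ⟨_, q, rfl⟩
    exact hgconj ⟨_, hκQ_mem q⟩
  obtain ⟨χ, hχT', hχN', hχ⟩ := IsRealizedBy.exists_mem_of_conj hreal' hAT' g hconjA
  have hχF : χ ∈ F.Hom φQ.range := by
    rw [hN'] at hχN'
    exact hχN'.1
  have hconjQ : F.IsConj Q χ.range :=
    isConj_trans F ⟨φQ, hφQF, rfl⟩ ⟨χ, hχF, rfl⟩
  have hcard1 := hQfn.2 χ.range hconjQ
  have hQ''S : χ.range ≤ S := isConj_le_right F hconjQ
  have hχq : ∀ q : Q, ι' ⟨χ ⟨φQ q, ⟨q, rfl⟩⟩, hχT' _⟩ = g * κ ⟨q, hQT q.2⟩ * g⁻¹ := by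
    intro q
    exact hχ ⟨φQ q, ⟨q, rfl⟩⟩
  have : Finite (χ.range : Subgroup Ω) := Helper84_FusionRS.finite_of_le_S hQ''S
  have : Finite ↥(normalizerIn S χ.range) :=
    Helper84_FusionRS.finite_of_le_S (inf_le_left : normalizerIn S χ.range ≤ S)
  have key : ∀ z : (PM : Subgroup M), ∃ t : ↥(normalizerIn S R'),
      ι' t = g * ((z : M) : L') * g⁻¹ ∧ (t : Ω) ∈ normalizerIn S χ.range := by
    intro z
    obtain ⟨t, ht⟩ := hgconj z
    refine ⟨t, ht, t.2.1, ?_⟩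
    apply Subgroup.mem_normalizer_fintype
    rintro _ ⟨⟨_, q, rfl⟩, rfl⟩
    -- `z` normalizes `U`
    have hzU : ((z : M) : L') * κ ⟨q, hQT q.2⟩ * ((z : M) : L')⁻¹ ∈ U :=
      ((Subgroup.mem_normalizer_iff.1 (z : M).2) _).1
        ⟨⟨q, hQT q.2⟩, Subgroup.mem_subgroupOf.2 q.2, rfl⟩
    obtain ⟨⟨q', hq'T⟩, hq'Q, hq'⟩ := hzU
    have hq'Q' : q' ∈ Q := Subgroup.mem_subgroupOf.1 hq'Q
    have hn : χ ⟨φQ q, ⟨q, rfl⟩⟩ ∈ normalizerIn S R' := hχT' _
    have hmem : (t : Ω) * χ ⟨φQ q, ⟨q, rfl⟩⟩ * (t : Ω)⁻¹ ∈ normalizerIn S R' :=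
      mul_mem (mul_mem t.2 hn) (inv_mem t.2)
    have h1 : ι' ⟨(t : Ω) * χ ⟨φQ q, ⟨q, rfl⟩⟩ * (t : Ω)⁻¹, hmem⟩ =
        ι' ⟨χ ⟨φQ ⟨q', hq'Q'⟩, ⟨⟨q', hq'Q'⟩, rfl⟩⟩, hχT' _⟩ := by
      have e1 : (⟨(t : Ω) * χ ⟨φQ q, ⟨q, rfl⟩⟩ * (t : Ω)⁻¹, hmem⟩ : ↥(normalizerIn S R')) =
          t * ⟨χ ⟨φQ q, ⟨q, rfl⟩⟩, hn⟩ * t⁻¹ := rfl
      rw [e1, map_mul, map_mul, map_inv, ht, hχq q, hχq ⟨q', hq'Q'⟩]
      have e2 : κ ⟨q', hQT hq'Q'⟩ = ((z : M) : L') * κ ⟨q, hQT q.2⟩ * ((z : M) : L')⁻¹ := hq'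
      rw [e2]
      group
    have h2 := congrArg Subtype.val (hι h1)
    simp only at h2
    rw [h2]
    exact ⟨_, rfl⟩
  choose f hf1 hf2 using key
  have hfinj : Function.Injective (fun z => (⟨(f z : Ω), hf2 z⟩ : ↥(normalizerIn S χ.range))) := by
    intro z z' hzz'
    have h1 : (f z : Ω) = (f z' : Ω) :=
      congrArg (fun w : ↥(normalizerIn S χ.range) => (w : Ω)) hzz'
    have h2 : f z = f z' := Subtype.ext h1
    have h3 : g * ((z : M) : L') * g⁻¹ = g * ((z' : M) : L') * g⁻¹ := by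
      rw [← hf1 z, ← hf1 z', h2]
    have h4 : ((z : M) : L') = ((z' : M) : L') := mul_left_cancel (mul_right_cancel h3)
    exact Subtype.ext (Subtype.ext h4)
  have hcard2 : Nat.card (PM : Subgroup M) ≤ Nat.card ↥(normalizerIn S χ.range) :=
    Nat.card_le_card_of_injective _ hfinj
  have hcard3 : Nat.card κM.range = Nat.card ↥(normalizerIn S Q) :=
    (Nat.card_congr (Equiv.ofInjective κM hκMi)).symm
  have heq : κM.range = (PM : Subgroup M) := by
    apply Subgroup.eq_of_le_of_card_ge hPM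
    rw [hcard3]
    exact hcard2.trans hcard1
  exact ⟨PM, heq.symm⟩

end Syl

section Assemble

variable [Finite S] {p : ℕ} [Fact p.Prime] (F : FusionSystem S) {Q R₀ R' D : Subgroup Ω}
  (N : FusionSystem (normalizerIn S Q)) (hN : F.IsNormalizerSystem Q N)
  (N' : FusionSystem (normalizerIn S R')) (hN' : F.IsNormalizerSystem R' N')
  (hTD : normalizerIn S Q ≤ D) {φ : D →* Ω} (hφ : φ ∈ F.Hom D)
  (hφN : ∀ x, φ x ∈ normalizerIn S R')
  {L' : Type*} [Group L'] {ι' : ↥(normalizerIn S R') →* L'}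

include hN hN' hTD hφ hφN in
/-- **Sub-model lemma.** `N_{L'}(κ(Q))` is a model of `N_F(Q)`. -/
theorem exists_subgroup_isModel (hS : IsPGroup p S) (hQfn : F.IsFullyNormalized Q)
    (hQR : Q ≤ R₀) (hR₀ : N.IsNormal R₀) (hφR : (R₀.subgroupOf D).map φ = R')
    (hM' : N'.IsModel p L' ι') :
    ∃ (M : Subgroup L') (κM : ↥(normalizerIn S Q) →* ↥M), N.IsModel p ↥M κM := by
  obtain ⟨hfin', hreal', hSyl', hcent'⟩ := hM'
  have := hfin'
  set κ := kappa hTD φ hφN ι' with hκ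
  set U : Subgroup L' := (Q.subgroupOf (normalizerIn S Q)).map κ with hU
  have hQS : Q ≤ S := hQfn.1
  have hQT := le_normalizerIn_self hQS
  have hTp : IsPGroup p ↥(normalizerIn S Q) := hS.to_le inf_le_left
  have hUp : IsPGroup p U := (hTp.to_subgroup _).map κ
  have hκi : Function.Injective κ :=
    kappa_injective hTD φ hφN ι' (F.injective_of_mem hφ) hreal'.1
  have hκM : ∀ t, κ t ∈ Subgroup.normalizer (U : Set L') := by
    intro t
    apply Subgroup.mem_normalizer_fintype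
    rintro _ ⟨⟨q, hqT⟩, hqQ, rfl⟩
    have hqQ' : q ∈ Q := Subgroup.mem_subgroupOf.1 hqQ
    have h1 : (t : Ω) * q * (t : Ω)⁻¹ ∈ Q := (Subgroup.mem_normalizer_iff.1 t.2.2 q).1 hqQ'
    refine ⟨⟨(t : Ω) * q * (t : Ω)⁻¹, hQT h1⟩, Subgroup.mem_subgroupOf.2 h1, ?_⟩
    have : (⟨(t : Ω) * q * (t : Ω)⁻¹, hQT h1⟩ : ↥(normalizerIn S Q)) = t * ⟨q, hqT⟩ * t⁻¹ := rfl
    rw [this, map_mul, map_mul, map_inv]
  refine ⟨Subgroup.normalizer (U : Set L'), κ.codRestrict _ hκM, inferInstance, ⟨?_, ?_⟩, ?_, ?_⟩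
  · intro a b hab
    exact hκi (congrArg Subtype.val hab)
  · intro P hP ψ hψ
    constructor
    · intro hψN
      obtain ⟨m, hmU, hmc⟩ :=
        exists_conj_of_mem_hom F N hN N' hN' hTD hφ hφN hreal' hQR hR₀ hφR hψN
      exact ⟨⟨m, Subgroup.mem_normalizer_fintype hmU⟩, fun x => Subtype.ext (hmc x)⟩
    · rintro ⟨⟨m, hm⟩, hmc⟩
      refine mem_hom_of_conj F N hN N' hN' hTD hφ hφN hreal' hQS hP ψ hψ m ?_ ?_
        (fun x => congrArg Subtype.val (hmc x))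
      · intro u hu
        exact ((Subgroup.mem_normalizer_iff.1 hm) u).1 hu
      · intro u hu
        apply ((Subgroup.mem_normalizer_iff.1 hm) (m⁻¹ * u * m)).2
        have : m * (m⁻¹ * u * m) * m⁻¹ = u := by group
        rw [this]
        exact hu
  · exact exists_sylow_eq_range F N' hN' hTD hφ hφN hreal' hS hQfn hSyl' hκM
  · exact Helper49_CharP.IsCharP.normalizer hcent' U hUp

include hN hN' hTD hφ hφN in
/-- Any model of `N_F(Q)` embeds in the model `L'` of `N_F(R')`. -/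
theorem exists_injective_hom (hS : IsPGroup p S) (hQfn : F.IsFullyNormalized Q)
    (hQR : Q ≤ R₀) (hR₀ : N.IsNormal R₀) (hφR : (R₀.subgroupOf D).map φ = R')
    (hM' : N'.IsModel p L' ι') {L : Type*} [Group L] (ι : ↥(normalizerIn S Q) →* L)
    (hM : N.IsModel p L ι) : ∃ j : L →* L', Function.Injective j := by
  obtain ⟨M, κM, hMod⟩ := exists_subgroup_isModel F N hN N' hN' hTD hφ hφN hS hQfn hQR hR₀ hφR hM'
  have hTp : IsPGroup p ↥(normalizerIn S Q) := hS.to_le inf_le_left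
  have : Finite ↥(normalizerIn S Q) :=
    Helper84_FusionRS.finite_of_le_S (inf_le_left : normalizerIn S Q ≤ S)
  have hcon : N.IsConstrained p := Cfsg.Agent.S5103.result p hTp N κM hMod
  obtain ⟨e, -⟩ := Cfsg.Agent.S5091.result p hTp N hcon ι κM hM hMod
  exact ⟨M.subtype.comp e.toMonoidHom, fun a b hab => e.injective (Subtype.ext hab)⟩

end Assemble

section Radical

open Cfsg.Agent.Lib.Helper88_PSolvModel

variable {T : Subgroup Ω} [Finite T]

/-- In a model `G` of `E`, conjugation on `O_p(G) = ι(O_p(E))` gives a homomorphism of `G` onto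
`Aut_E(O_p(E))` with kernel inside `O_p(G)`, with its defining formula. -/
theorem exists_theta_spec {p : ℕ} [Fact p.Prime] (E : FusionSystem T) {G : Type*} [Group G]
    (ι : T →* G) (hM : E.IsModel p G ι) :
    ∃ θ : G →* MulAut ↥E.core, θ.range = E.autGroup E.core ∧ θ.ker ≤ pCore p G ∧
      ∀ (g : G) (x : ↥E.core), ι ⟨(θ g x : Ω), (isNormal_core E).1 (θ g x).2⟩ =
        g * ι ⟨x, (isNormal_core E).1 x.2⟩ * g⁻¹ := by
  have hK := pCore_eq_map_core E ι hM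
  obtain ⟨-, hreal, hSyl, hcent⟩ := hM
  have hι := hreal.1
  have hcoreS : E.core ≤ T := (isNormal_core E).1
  have hn : (pCore p G).Normal := pCore_normal' p G
  let homK : ↥E.core →* ↥(pCore p G) :=
    (ι.comp (Subgroup.inclusion hcoreS)).codRestrict (pCore p G) (fun x => by
      rw [hK]
      exact ⟨Subgroup.inclusion hcoreS x, Subgroup.mem_subgroupOf.2 x.2, rfl⟩)
  have hinj : Function.Injective homK := by
    intro a b hab
    have h1 : ι (Subgroup.inclusion hcoreS a) = ι (Subgroup.inclusion hcoreS b) :=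
      congrArg Subtype.val hab
    exact Subgroup.inclusion_injective hcoreS (hι h1)
  have hsurj : Function.Surjective homK := by
    rintro ⟨y, hy⟩
    have hy' := hy
    rw [hK] at hy'
    obtain ⟨s, hs, rfl⟩ := hy'
    exact ⟨⟨s, Subgroup.mem_subgroupOf.1 hs⟩, Subtype.ext rfl⟩
  let e : ↥E.core ≃* ↥(pCore p G) := MulEquiv.ofBijective homK ⟨hinj, hsurj⟩
  have he : ∀ x : ↥E.core, ((e x : pCore p G) : G) = ι ⟨x, hcoreS x.2⟩ := fun x => rfl
  let θ : G →* MulAut ↥E.core :=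
    (MulAut.congr e.symm).toMonoidHom.comp (MulAut.conjNormal (H := pCore p G))
  have hθ : ∀ (g : G) (x : ↥E.core), e (θ g x) = MulAut.conjNormal g (e x) := by
    intro g x
    show e (e.symm (MulAut.conjNormal g (e x))) = _
    rw [MulEquiv.apply_symm_apply]
  have hθ' : ∀ (g : G) (x : ↥E.core),
      ι ⟨(θ g x : Ω), hcoreS (θ g x).2⟩ = g * ι ⟨x, hcoreS x.2⟩ * g⁻¹ := by
    intro g x
    have h1 := congrArg Subtype.val (hθ g x)
    rw [he, MulAut.conjNormal_apply, he] at h1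
    exact h1
  refine ⟨θ, ?_, ?_, hθ'⟩
  · apply le_antisymm
    · rintro _ ⟨g, rfl⟩
      apply Subgroup.subset_closure
      show E.core.subtype.comp (θ g).toMonoidHom ∈ E.Hom E.core
      rw [hreal.2 E.core hcoreS _ (fun x => hcoreS (θ g x).2)]
      exact ⟨g, fun x => hθ' g x⟩
    · unfold FusionSystem.autGroup
      rw [Subgroup.closure_le]
      intro α hα
      have hα' : E.core.subtype.comp α.toMonoidHom ∈ E.Hom E.core := hα
      rw [hreal.2 E.core hcoreS _ (fun x => hcoreS (α x).2)] at hα'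
      obtain ⟨g, hg⟩ := hα'
      refine ⟨g, ?_⟩
      ext x
      have h1 := hθ' g x
      have h2 := hg x
      have h3 : ι ⟨(θ g x : Ω), hcoreS (θ g x).2⟩ = ι ⟨(α x : Ω), hcoreS (α x).2⟩ := by
        rw [h1]
        exact h2.symm
      have h4 := congrArg Subtype.val (hι h3)
      exact h4
  · intro g hg
    apply hcent
    rw [Subgroup.mem_centralizer_iff]
    intro y hy
    have hy' := hy
    rw [hK] at hy'
    obtain ⟨s, hs, rfl⟩ := hy'
    have hsc : (s : Ω) ∈ E.core := Subgroup.mem_subgroupOf.1 hs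
    have h1 := hθ' g ⟨s, hsc⟩
    have h2 : θ g = 1 := hg
    rw [h2] at h1
    have h3 : ι s = g * ι s * g⁻¹ := h1
    calc ι s * g = (g * ι s * g⁻¹) * g := by rw [← h3]
      _ = g * ι s := by group

/-- **`O_p(E)` is radical in `E` when `E` has a model.** -/
theorem isRadical_core_of_isModel {p : ℕ} [Fact p.Prime] (hT : IsPGroup p T) (E : FusionSystem T)
    {G : Type*} [Group G] (ι : T →* G) (hM : E.IsModel p G ι) : E.IsRadical p E.core := by
  have hK := pCore_eq_map_core E ι hM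
  obtain ⟨θ, hθr, hθk, hθf⟩ := exists_theta_spec E ι hM
  have hι := hM.2.1.1
  have hcoreT : E.core ≤ T := (isNormal_core E).1
  refine ⟨hcoreT, le_antisymm ?_ (Helper87_Alperin2.inn_le_pCore_map E hT hcoreT)⟩
  rintro _ ⟨β, hβ, rfl⟩
  have hβr : (β : MulAut ↥E.core) ∈ θ.range := by
    rw [hθr]
    exact β.2
  obtain ⟨g, hg⟩ := hβr
  -- the preimage of `O_p(Aut_E(O_p(E)))`
  set X : Subgroup (MulAut ↥E.core) :=
    (pCore p ↥(E.autGroup E.core)).map (E.autGroup E.core).subtype with hX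
  have hXn : (pCore p ↥(E.autGroup E.core)).Normal := pCore_normal' p _
  have hXp : IsPGroup p ↥(pCore p ↥(E.autGroup E.core)) :=
    Helper49_CharP.pCore_isPGroup p _
  have hYn : (X.comap θ).Normal := by
    constructor
    intro y hy k
    rw [Subgroup.mem_comap] at hy ⊢
    obtain ⟨γ, hγ, hγy⟩ := hy
    have hk : θ k ∈ E.autGroup E.core := by
      rw [← hθr]
      exact ⟨k, rfl⟩
    refine ⟨⟨θ k, hk⟩ * γ * ⟨θ k, hk⟩⁻¹, hXn.conj_mem γ hγ ⟨θ k, hk⟩, ?_⟩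
    rw [map_mul, map_mul, map_inv]
    show (E.autGroup E.core).subtype ⟨θ k, hk⟩ * (E.autGroup E.core).subtype γ *
      ((E.autGroup E.core).subtype ⟨θ k, hk⟩)⁻¹ = _
    rw [hγy, map_mul, map_mul, map_inv]
    rfl
  have hKp : IsPGroup p ↥(pCore p G) := Helper49_CharP.pCore_isPGroup p G
  have hYp : IsPGroup p ↥(X.comap θ) := by
    rintro ⟨y, hy⟩
    rw [Subgroup.mem_comap] at hy
    obtain ⟨γ, hγ, hγy⟩ := hy
    obtain ⟨a, ha⟩ := hXp ⟨γ, hγ⟩
    have ha' : γ ^ p ^ a = 1 := by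
      have := congrArg Subtype.val ha
      exact this
    have h1 : θ (y ^ p ^ a) = 1 := by
      rw [map_pow, ← hγy]
      have := congrArg (E.autGroup E.core).subtype ha'
      rw [map_pow, map_one] at this
      exact this
    have h2 : y ^ p ^ a ∈ pCore p G := hθk h1
    obtain ⟨b, hb⟩ := hKp ⟨y ^ p ^ a, h2⟩
    have hb' : (y ^ p ^ a) ^ p ^ b = 1 := congrArg Subtype.val hb
    refine ⟨a + b, Subtype.ext ?_⟩
    show y ^ p ^ (a + b) = 1
    rw [pow_add, pow_mul]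
    exact hb'
  have hYle : X.comap θ ≤ pCore p G := Helper49_CharP.le_pCore hYn hYp
  have hgY : g ∈ X.comap θ := by
    rw [Subgroup.mem_comap, hg]
    exact ⟨β, hβ, rfl⟩
  have hgK := hYle hgY
  rw [hK] at hgK
  obtain ⟨c, hc, rfl⟩ := hgK
  have hcc : (c : Ω) ∈ E.core := Subgroup.mem_subgroupOf.1 hc
  refine ⟨⟨c, hcc⟩, ?_⟩
  show MulAut.conj (⟨c, hcc⟩ : ↥E.core) = (E.autGroup E.core).subtype β
  rw [show (E.autGroup E.core).subtype β = (β : MulAut ↥E.core) from rfl, ← hg]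
  ext x
  have h1 := hθf (ι c) x
  have h2 : ι c * ι ⟨x, hcoreT x.2⟩ * (ι c)⁻¹ =
      ι ⟨(c : Ω) * x * (c : Ω)⁻¹, hcoreT (mul_mem (mul_mem hcc x.2) (inv_mem hcc))⟩ := by
    rw [← map_inv, ← map_mul, ← map_mul]
    rfl
  rw [h2] at h1
  have h3 := congrArg Subtype.val (hι h1)
  exact h3.symm

end Radical

section Main

universe u

/-- **Section-freeness may be tested at the centric radical subgroups.** If `H` is involved in no
model of `N_F(Q)` for `Q` fully normalized, centric and radical, then `F` is `H`-free. -/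
theorem isSectionFree_of_radical {Ω : Type u} [Group Ω] {S : Subgroup Ω} [Finite S] {p : ℕ}
    [Fact p.Prime] (hS : IsPGroup p S) (F : FusionSystem S) (hF : F.IsSaturated p)
    (H : Type*) [Group H]
    (h : ∀ Q : Subgroup Ω, F.IsFullyNormalized Q → F.IsCentric Q → F.IsRadical p Q →
      ∀ N : FusionSystem (normalizerIn S Q), F.IsNormalizerSystem Q N →
      ∀ (L : Type u) [Group L] (ι : ↥(normalizerIn S Q) →* L), N.IsModel p L ι → ¬ Involves H L) :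
    F.IsSectionFree p H := by
  have main : ∀ n : ℕ, ∀ Q : Subgroup Ω, Nat.card S - Nat.card Q = n → F.IsFullyNormalized Q →
      F.IsCentric Q → ∀ N : FusionSystem (normalizerIn S Q), F.IsNormalizerSystem Q N →
      ∀ (L : Type u) [Group L] (ι : ↥(normalizerIn S Q) →* L), N.IsModel p L ι →
      ¬ Involves H L := by
    intro n
    induction n using Nat.strong_induction_on with
    | _ n ih =>
      intro Q hn hQfn hQc N hN L _ ι hM
      have hQS : Q ≤ S := hQfn.1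
      have hTS : normalizerIn S Q ≤ S := inf_le_left
      have hfinT : Finite ↥(normalizerIn S Q) := Helper84_FusionRS.finite_of_le_S hTS
      have hTp : IsPGroup p ↥(normalizerIn S Q) := hS.to_le hTS
      have hQN : N.IsNormal Q := isNormal_of_isNormalizerSystem F hQS N hN
      have hR₀ : N.IsNormal N.core := isNormal_core N
      have hQR : Q ≤ N.core := le_sSup hQN
      by_cases hR : N.core = Q
      · -- `Q` is radical
        have h1 : N.IsRadical p N.core := isRadical_core_of_isModel hTp N ι hM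
        rw [hR] at h1
        have h2 : F.IsRadical p Q := by
          refine ⟨hQS, ?_⟩
          rw [← autGroup_eq_of_isNormalizerSystem F hQS N hN]
          exact h1.2
        exact h Q hQfn hQc h2 N hN L ι hM
      · -- climb to `O_p(N_F(Q))`
        have hR₀T : N.core ≤ normalizerIn S Q := hR₀.1
        have hR₀S : N.core ≤ S := hR₀T.trans hTS
        have hR₀c : F.IsCentric N.core := Helper88_Centric.isCentric_of_le hQc hQR hR₀S
        obtain ⟨R', hconj, hR'fn⟩ := Helper84_FusionRS.exists_isFullyNormalized_conj F hR₀S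
        have hR'a := Helper84_FusionRS.IsSaturated.isFullyAutomized hS hF hR'fn
        have hR'r := Helper84_FusionRS.IsSaturated.isReceptive_of_isFullyNormalized hS hF hR'fn
        obtain ⟨φ, hφ, hφN, hφR⟩ := Helper84_FusionSat.exists_normalizer_map hS F hR'a hR'r hconj
        have hTD : normalizerIn S Q ≤ normalizerIn S N.core :=
          le_inf hTS (Helper84_FusionNormal.IsNormal.le_normalizer hR₀)
        have hR'c : F.IsCentric R' := Helper88_Centric.isCentric_of_isConj hR₀c hconj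
        have hR'S : R' ≤ S := hR'fn.1
        obtain ⟨N', hN'⟩ := Cfsg.Agent.S5096.result F R' hR'S
        have hT'S : normalizerIn S R' ≤ S := inf_le_left
        have hfinT' : Finite ↥(normalizerIn S R') := Helper84_FusionRS.finite_of_le_S hT'S
        have hT'p : IsPGroup p ↥(normalizerIn S R') := hS.to_le hT'S
        have hcon' : N'.IsConstrained p :=
          ⟨Cfsg.Agent.S5098.result p hS F hF R' hR'fn N' hN', R',
            isNormal_of_isNormalizerSystem F hR'S N' hN',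
            isCentric_of_isNormalizerSystem F hR'c N' hN'⟩
        obtain ⟨L', _, ι', hM'⟩ := Cfsg.Agent.S5090.result p hT'p N' hcon'
        have hfinR₀ : Finite ↥N.core := Helper84_FusionRS.finite_of_le_S hR₀S
        have hcardlt : Nat.card Q < Nat.card ↥N.core := by
          by_contra hcon
          exact hR (Subgroup.eq_of_le_of_card_ge hQR (not_lt.1 hcon)).symm
        have hcardR' : Nat.card ↥N.core = Nat.card R' := isConj_card_eq F hconj
        have hcardS : Nat.card R' ≤ Nat.card S := Subgroup.card_le_of_le hR'S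
        have hlt : Nat.card S - Nat.card R' < n := by omega
        have hfree' : ¬ Involves H L' := ih _ hlt R' rfl hR'fn hR'c N' hN' L' ι' hM'
        obtain ⟨j, hj⟩ := exists_injective_hom F N hN N' hN' hTD hφ hφN hS hQfn hQR hR₀ hφR hM' ι hM
        intro hinv
        exact hfree' (Cfsg.Agent.S5299.involves_of_injective j hj hinv)
  intro Q hQfn hQc N hN L _ ι hM
  exact main _ Q rfl hQfn hQc N hN L ι hM

end Main

end Cfsg.Agent.Lib.Helper88_SubModel
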