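import Cfsg.Agent.Lib.Helper88_SubModel2
import Cfsg.Agent.Lib.Helper88_SubModel
import Cfsg.Agent.Lib.Helper88_Model
import Cfsg.Agent.Lib.Helper85_Fusion
import Cfsg.Agent.Lib.Helper84_FusionRS
import Cfsg.Agent.Lib.Helper84_FusionSat
import Cfsg.Agent.Lib.Helper84_FusionNormal
import Cfsg.Agent.Lib.Helper84_ModelUnique
import Cfsg.Agent.Lib.Helper88_Centric
import Cfsg.Agent.S5090
import Cfsg.Agent.S5096
import Cfsg.Agent.S5098
import Cfsg.Agent.S5299
import Cfsg.Prelude.Def_FusionSystem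
import Cfsg.Prelude.Def_FusionReduction
import Cfsg.Prelude.Def_LocalEven

/-!
Normalizer systems of `H`-free fusion systems are `H`-free (helper88).

* `exists_comp_mem_normalizerSystem` (Lemma A): for `Q` fully normalized in a saturated `F` and
  `Q ≤ P ≤ N_S(Q)`, a map `ψ` of `F` on `P` followed by a suitable `β : N_S(ψ Q) → N_S(Q)` lies in
  `N_F(Q)`.
* `isCentric_of_isCentric_normalizerSystem`: `P ≥ Q` centric in `N_F(Q)` is centric in `F`.
* `card_le_of_isFullyNormalized`, `hyp_normalizer`: the hypotheses of the general sub-model lemma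
  for `N_{N_F(Q)}(P)`.
* `isSectionFree_normalizerSystem`: the theorem (S5240, generic in `H`).
-/

set_option autoImplicit false

namespace Cfsg.Agent.Lib.Helper88_NormFree

open Cfsg Cfsg.FusionSystem Cfsg.Agent.Lib.Helper85_Fusion Cfsg.Agent.Lib.Helper88_Model

variable {Ω : Type*} [Group Ω] {S : Subgroup Ω} [Finite S] {p : ℕ} [Fact p.Prime]

/-- The image of `Q ≤ P` under a map `ψ` on `P` is normalized by the image of `P`, when `P`
normalizes `Q`. -/
theorem range_le_normalizerIn_map (F : FusionSystem S) {Q P : Subgroup Ω}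
    (hPQ : P ≤ Subgroup.normalizer (Q : Set Ω)) {ψ : P →* Ω} (hψ : ψ ∈ F.Hom P) :
    ψ.range ≤ normalizerIn S ((Q.subgroupOf P).map ψ) := by
  have hQ''S : (Q.subgroupOf P).map ψ ≤ S := by
    rintro _ ⟨x, -, rfl⟩
    exact apply_mem F hψ x
  have : Finite ((Q.subgroupOf P).map ψ : Subgroup Ω) := Helper84_FusionRS.finite_of_le_S hQ''S
  rintro _ ⟨x, rfl⟩
  refine ⟨apply_mem F hψ x, ?_⟩
  apply Subgroup.mem_normalizer_fintype
  rintro _ ⟨q, hq, rfl⟩
  have h1 : ((x * q * x⁻¹ : P) : Ω) ∈ Q :=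
    (Subgroup.mem_normalizer_iff.1 (hPQ x.2) q).1 (Subgroup.mem_subgroupOf.1 hq)
  refine ⟨x * q * x⁻¹, Subgroup.mem_subgroupOf.2 h1, ?_⟩
  rw [map_mul, map_mul, map_inv]

/-- **Lemma A.** For `Q` fully normalized in a saturated `F` and `Q ≤ P ≤ N_S(Q)`, every map
`ψ` of `F` on `P` can be followed by a map `β : N_S(ψ(Q)) → N_S(Q)` of `F` so that the composite
is a map of `N_F(Q)`. -/
theorem exists_comp_mem_normalizerSystem (hS : IsPGroup p S) (F : FusionSystem S)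
    (hF : F.IsSaturated p) {Q P : Subgroup Ω} (hQfn : F.IsFullyNormalized Q)
    (N : FusionSystem (normalizerIn S Q)) (hN : F.IsNormalizerSystem Q N) (hQP : Q ≤ P)
    (hPT : P ≤ normalizerIn S Q) {ψ : P →* Ω} (hψ : ψ ∈ F.Hom P) :
    ∃ β ∈ F.Hom (normalizerIn S ((Q.subgroupOf P).map ψ)),
      (∀ x, β x ∈ normalizerIn S Q) ∧
      ∃ (hle : ψ.range ≤ normalizerIn S ((Q.subgroupOf P).map ψ)),
      ∃ θ ∈ N.Hom P, ∀ x : P, θ x = β ⟨ψ x, hle ⟨x, rfl⟩⟩ := by
  have hQa := Helper84_FusionRS.IsSaturated.isFullyAutomized hS hF hQfn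
  have hQr := Helper84_FusionRS.IsSaturated.isReceptive_of_isFullyNormalized hS hF hQfn
  set Q'' : Subgroup Ω := (Q.subgroupOf P).map ψ with hQ''
  have hconj : F.IsConj Q Q'' := by
    refine ⟨ψ.comp (Subgroup.inclusion hQP), restrict_mem F hQP hψ, ?_⟩
    ext y
    constructor
    · rintro ⟨q, rfl⟩
      exact ⟨Subgroup.inclusion hQP q, Subgroup.mem_subgroupOf.2 q.2, rfl⟩
    · rintro ⟨x, hx, rfl⟩
      exact ⟨⟨x, Subgroup.mem_subgroupOf.1 hx⟩, rfl⟩
  obtain ⟨β, hβ, hβT, hβimg⟩ :=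
    Helper84_FusionSat.exists_normalizer_map hS F hQa hQr (isConj_symm F hconj)
  have hle : ψ.range ≤ normalizerIn S Q'' :=
    range_le_normalizerIn_map F (fun x hx => (hPT hx).2) hψ
  refine ⟨β, hβ, hβT, hle, ?_⟩
  obtain ⟨θ, hθF, hθ⟩ := comp_mem' F hψ hβ (fun x => hle ⟨x, rfl⟩)
  refine ⟨θ, ?_, hθ⟩
  rw [hN]
  refine ⟨hθF, hPT, fun x => ?_, ?_⟩
  · rw [hθ]
    exact hβT _
  · have hle' : P ⊔ Q ≤ P := sup_le le_rfl hQP
    refine ⟨θ.comp (Subgroup.inclusion hle'), restrict_mem F hle' hθF, fun x => ?_, ?_⟩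
    · show θ _ = θ x
      congr 1
    · rw [map_subgroupOf_comp_inclusion hle' le_sup_right θ]
      ext y
      rw [mem_map_subgroupOf]
      constructor
      · rintro ⟨x, hxQ, hxP, rfl⟩
        rw [hθ]
        refine apply_mem_of_map_eq β hβimg _ ?_ _
        exact ⟨⟨x, hxP⟩, Subgroup.mem_subgroupOf.2 hxQ, rfl⟩
      · intro hy
        obtain ⟨z, hz, hzD, rfl⟩ := exists_of_map_eq β hβimg y hy
        obtain ⟨q, hq, rfl⟩ := hz
        refine ⟨q, Subgroup.mem_subgroupOf.1 hq, q.2, ?_⟩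
        rw [hθ]

/-- A subgroup `P ≥ Q` of `N_S(Q)` centric in `N_F(Q)` is centric in `F` (for `Q` fully normalized
in a saturated `F`). -/
theorem isCentric_of_isCentric_normalizerSystem (hS : IsPGroup p S) (F : FusionSystem S)
    (hF : F.IsSaturated p) {Q P : Subgroup Ω} (hQfn : F.IsFullyNormalized Q)
    (N : FusionSystem (normalizerIn S Q)) (hN : F.IsNormalizerSystem Q N) (hQP : Q ≤ P)
    (hPc : N.IsCentric P) : F.IsCentric P := by
  have hPT : P ≤ normalizerIn S Q := hPc.1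
  have hPS : P ≤ S := hPT.trans inf_le_left
  refine ⟨hPS, ?_⟩
  rintro P₁ ⟨φ, hφ, rfl⟩
  intro c hc
  obtain ⟨β, hβ, hβT, hle, θ, hθN, hθ⟩ :=
    exists_comp_mem_normalizerSystem hS F hF hQfn N hN hQP hPT hφ
  have hcent := hPc.2 θ.range ⟨θ, hθN, rfl⟩
  have hcS : c ∈ S := hc.1
  have hcC : c ∈ Subgroup.centralizer (φ.range : Set Ω) := hc.2
  rw [Subgroup.mem_centralizer_iff] at hcC
  -- `c` normalizes `φ(Q)`
  have hcN : c ∈ normalizerIn S ((Q.subgroupOf P).map φ) := by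
    refine Subgroup.mem_inf.2 ⟨hcS, ?_⟩
    rw [Subgroup.mem_normalizer_iff]
    intro y
    have hyc : ∀ y ∈ (Q.subgroupOf P).map φ, c * y * c⁻¹ = y := by
      rintro _ ⟨x, -, rfl⟩
      have := hcC (φ x) ⟨x, rfl⟩
      rw [← this]
      group
    constructor
    · intro hy
      rw [hyc y hy]
      exact hy
    · intro hy
      have h1 := hyc _ hy
      have h2 : y = c * y * c⁻¹ := by
        have : c * (c * y * c⁻¹) * c⁻¹ = c * y * c⁻¹ := h1
        have h3 := mul_left_cancel (mul_right_cancel this)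
        exact h3.symm
      rw [h2]
      exact hy
  -- `β c` centralizes `θ(P)`
  have hβc : β ⟨c, hcN⟩ ∈ centralizerIn (normalizerIn S Q) θ.range := by
    refine Subgroup.mem_inf.2 ⟨hβT _, ?_⟩
    rw [Subgroup.mem_centralizer_iff]
    rintro _ ⟨x, rfl⟩
    rw [hθ, ← map_mul, ← map_mul]
    congr 1
    exact Subtype.ext (hcC (φ x) ⟨x, rfl⟩)
  obtain ⟨x, hx⟩ := hcent hβc
  rw [hθ] at hx
  have h1 := F.injective_of_mem hβ hx
  have h2 : φ x = c := congrArg Subtype.val h1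
  exact ⟨x, h2⟩

/-- The counting condition `E3` for `N_{N_F(Q)}(P)`. -/
theorem card_le_of_isFullyNormalized (hS : IsPGroup p S) (F : FusionSystem S)
    (hF : F.IsSaturated p) {Q P P' : Subgroup Ω} (hQfn : F.IsFullyNormalized Q)
    (N : FusionSystem (normalizerIn S Q)) (hN : F.IsNormalizerSystem Q N) (hQP : Q ≤ P)
    (hPT : P ≤ normalizerIn S Q) (hPfn : N.IsFullyNormalized P)
    {ψ : P →* Ω} (hψ : ψ ∈ F.Hom P) (hψr : ψ.range = P') :
    Nat.card ↥(normalizerIn S P' ⊓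
      Subgroup.normalizer (((Q.subgroupOf P).map ψ : Subgroup Ω) : Set Ω)) ≤
      Nat.card ↥(normalizerIn (normalizerIn S Q) P) := by
  subst hψr
  obtain ⟨β, hβ, hβT, hle, θ, hθN, hθ⟩ :=
    exists_comp_mem_normalizerSystem hS F hF hQfn N hN hQP hPT hψ
  have h1 := hPfn.2 θ.range ⟨θ, hθN, rfl⟩
  refine le_trans ?_ h1
  generalize hQ'' : (Q.subgroupOf P).map ψ = Q'' at β hβ hβT hle hθ ⊢
  have hY : normalizerIn S ψ.range ⊓ Subgroup.normalizer (Q'' : Set Ω) ≤ normalizerIn S Q'' :=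
    fun y hy => Subgroup.mem_inf.2 ⟨hy.1.1, hy.2⟩
  have hθS : θ.range ≤ S := by
    rintro _ ⟨x, rfl⟩
    exact ((N.le_of_mem hθN).2 x).1
  have : Finite (θ.range : Subgroup Ω) := Helper84_FusionRS.finite_of_le_S hθS
  have hTS : normalizerIn (normalizerIn S Q) θ.range ≤ S := inf_le_left.trans inf_le_left
  have : Finite ↥(normalizerIn (normalizerIn S Q) θ.range) := Helper84_FusionRS.finite_of_le_S hTS
  have key : ∀ y : ↥(normalizerIn S ψ.range ⊓ Subgroup.normalizer (Q'' : Set Ω)),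
      β ⟨y, hY y.2⟩ ∈ normalizerIn (normalizerIn S Q) θ.range := by
    intro y
    refine Subgroup.mem_inf.2 ⟨hβT _, ?_⟩
    apply Subgroup.mem_normalizer_fintype
    rintro _ ⟨x, rfl⟩
    have hy1 : (y : Ω) ∈ Subgroup.normalizer (ψ.range : Set Ω) := y.2.1.2
    have h2 : (y : Ω) * ψ x * (y : Ω)⁻¹ ∈ ψ.range :=
      (Subgroup.mem_normalizer_iff.1 hy1 (ψ x)).1 ⟨x, rfl⟩
    obtain ⟨x', hx'⟩ := h2
    refine ⟨x', ?_⟩
    rw [hθ, hθ, ← map_inv, ← map_mul, ← map_mul]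
    congr 1
    exact Subtype.ext hx'
  have hinj : Function.Injective
      (fun y : ↥(normalizerIn S ψ.range ⊓ Subgroup.normalizer (Q'' : Set Ω)) =>
        (⟨β ⟨y, hY y.2⟩, key y⟩ : ↥(normalizerIn (normalizerIn S Q) θ.range))) := by
    intro y y' hyy'
    have h2 : β ⟨y, hY y.2⟩ = β ⟨y', hY y'.2⟩ :=
      congrArg (fun w : ↥(normalizerIn (normalizerIn S Q) θ.range) => (w : Ω)) hyy'
    have h3 := F.injective_of_mem hβ h2
    have h4 : (y : Ω) = (y' : Ω) :=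
      congrArg (fun w : ↥(normalizerIn S Q'') => (w : Ω)) h3
    exact Subtype.ext h4
  exact Nat.card_le_card_of_injective _ hinj

omit [Finite ↥S] [Fact (Nat.Prime p)] in
/-- The hypotheses of the general sub-model lemma hold for `E = N_{N_F(Q)}(P)` with `Q ≤ P`,
`R₀ = P`. -/
theorem hyp_normalizer (F : FusionSystem S) {Q P P' : Subgroup Ω}
    (N : FusionSystem (normalizerIn S Q)) (hN : F.IsNormalizerSystem Q N)
    (hQP : Q ≤ P) (hPT : P ≤ normalizerIn S Q)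
    (N₂ : FusionSystem (normalizerIn (normalizerIn S Q) P)) (hN₂ : N.IsNormalizerSystem P N₂)
    (N' : FusionSystem (normalizerIn S P')) (hN' : F.IsNormalizerSystem P' N')
    {α : ↥(normalizerIn S P) →* Ω} (hα : α ∈ F.Hom (normalizerIn S P))
    (hαN : ∀ x, α x ∈ normalizerIn S P')
    (hαP : (P.subgroupOf (normalizerIn S P)).map α = P')
    {L' : Type*} [Group L'] {ι' : ↥(normalizerIn S P') →* L'} (hreal' : N'.IsRealizedBy ι')
    (hnorm : ∀ (m : L') (r : Ω) (_ : r ∈ P') (hrT : r ∈ normalizerIn S P'),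
      ∃ (r' : Ω) (_ : r' ∈ P') (hr'T : r' ∈ normalizerIn S P'),
        ι' ⟨r', hr'T⟩ = m * ι' ⟨r, hrT⟩ * m⁻¹) :
    Helper88_SubModel2.Hyp F (normalizerIn (normalizerIn S Q) P) Q P P' (normalizerIn S P)
      N₂ N' α ι' := by
  have hR₀T : P ≤ normalizerIn (normalizerIn S Q) P := le_normalizerIn_self hPT
  refine ⟨hN', hQP, hR₀T, fun x hx => Subgroup.mem_inf.2 ⟨hx.1.1, hx.2⟩, fun x hx => hx.1.2,
    hα, hαN, hαP, hreal', hnorm, ?_, ?_⟩
  · intro A ψ hψ
    rw [hN₂] at hψ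
    obtain ⟨hψN, hATE, hψTE, ψ₁, hψ₁N, hext₁, himg₁⟩ := hψ
    have hψ₁N' := hψ₁N
    rw [hN] at hψ₁N'
    obtain ⟨hψ₁F, hD₀T, hψ₁T, ψ₂, hψ₂F, hext₂, himg₂⟩ := hψ₁N'
    have hD₀TE : A ⊔ P ≤ normalizerIn (normalizerIn S Q) P := sup_le hATE hR₀T
    refine ⟨ψ₁, hψ₁F, hext₁, fun x => Subgroup.mem_inf.2 ⟨hψ₁T x, ?_⟩, himg₁, ?_⟩
    · exact map_mem_normalizer_of_map_eq ψ₁ himg₁ x (hD₀TE x.2).2
    · intro x hx hxD
      have h1 := hext₂ ⟨x, hxD⟩
      rw [← h1]
      exact apply_mem_of_map_eq ψ₂ himg₂ x hx _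
  · intro A hA ψ hψTE ψ₁ hψ₁F hext hψ₁TE himgP himgQ
    rw [hN₂]
    have hψ₁N : ψ₁ ∈ N.Hom (A ⊔ P) := by
      rw [hN]
      refine ⟨hψ₁F, sup_le (hA.trans inf_le_left) hPT, fun x => (hψ₁TE x).1, ?_⟩
      have hle : (A ⊔ P) ⊔ Q ≤ A ⊔ P := sup_le le_rfl (hQP.trans le_sup_right)
      refine ⟨ψ₁.comp (Subgroup.inclusion hle), restrict_mem F hle hψ₁F, fun x => ?_, ?_⟩
      · show ψ₁ _ = ψ₁ x
        congr 1
      · rw [map_subgroupOf_comp_inclusion hle le_sup_right ψ₁]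
        exact himgQ
    exact ⟨mem_of_eq N (restrict_mem N le_sup_left hψ₁N) (fun x => (hext x).symm), hA, hψTE,
      ψ₁, hψ₁N, hext, himgP⟩

section Main

universe u

/-- **The normalizer system of a fully normalized subgroup in an `H`-free saturated system is
`H`-free.** -/
theorem isSectionFree_normalizerSystem {Ω : Type u} [Group Ω] {S : Subgroup Ω} [Finite S] {p : ℕ}
    [Fact p.Prime] (hS : IsPGroup p S) (F : FusionSystem S) (hF : F.IsSaturated p)
    (H : Type*) [Group H] (hfree : F.IsSectionFree p H) (Q : Subgroup Ω)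
    (hQ : F.IsFullyNormalized Q) (N : FusionSystem (normalizerIn S Q))
    (hN : F.IsNormalizerSystem Q N) : N.IsSectionFree p H := by
  have hQS : Q ≤ S := hQ.1
  have hTS : normalizerIn S Q ≤ S := inf_le_left
  have hfinT : Finite ↥(normalizerIn S Q) := Helper84_FusionRS.finite_of_le_S hTS
  have hTp : IsPGroup p ↥(normalizerIn S Q) := hS.to_le hTS
  have hNsat : N.IsSaturated p := Cfsg.Agent.S5098.result p hS F hF Q hQ N hN
  have hQN : N.IsNormal Q := isNormal_of_isNormalizerSystem F hQS N hN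
  apply Helper88_SubModel.isSectionFree_of_radical hTp N hNsat H
  intro P hPfn hPc hPr N₂ hN₂ L _ ι hM
  have hQP : Q ≤ P :=
    Helper84_FusionNormal.IsNormal.le_of_isCentric_of_isRadical hTp hQN hPc hPr
  have hPT : P ≤ normalizerIn S Q := hPc.1
  have hPS : P ≤ S := hPT.trans hTS
  have hPcF : F.IsCentric P := isCentric_of_isCentric_normalizerSystem hS F hF hQ N hN hQP hPc
  obtain ⟨P', hconj, hP'fn⟩ := Helper84_FusionRS.exists_isFullyNormalized_conj F hPS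
  have hP'a := Helper84_FusionRS.IsSaturated.isFullyAutomized hS hF hP'fn
  have hP'r := Helper84_FusionRS.IsSaturated.isReceptive_of_isFullyNormalized hS hF hP'fn
  obtain ⟨α, hα, hαN, hαP⟩ := Helper84_FusionSat.exists_normalizer_map hS F hP'a hP'r hconj
  have hP'c : F.IsCentric P' := Helper88_Centric.isCentric_of_isConj hPcF hconj
  have hP'S : P' ≤ S := hP'fn.1
  obtain ⟨N', hN'⟩ := Cfsg.Agent.S5096.result F P' hP'S
  have hT'S : normalizerIn S P' ≤ S := inf_le_left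
  have hfinT' : Finite ↥(normalizerIn S P') := Helper84_FusionRS.finite_of_le_S hT'S
  have hT'p : IsPGroup p ↥(normalizerIn S P') := hS.to_le hT'S
  have hsat' : N'.IsSaturated p := Cfsg.Agent.S5098.result p hS F hF P' hP'fn N' hN'
  have hP'n : N'.IsNormal P' := isNormal_of_isNormalizerSystem F hP'S N' hN'
  have hP'cN' : N'.IsCentric P' := isCentric_of_isNormalizerSystem F hP'c N' hN'
  have hcon' : N'.IsConstrained p := ⟨hsat', P', hP'n, hP'cN'⟩
  obtain ⟨L', _, ι', hM'⟩ := Cfsg.Agent.S5090.result p hT'p N' hcon'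
  have hfree' : ¬ Involves H L' := hfree P' hP'fn hP'c N' hN' L' ι' hM'
  have hnorm : ∀ (m : L') (r : Ω) (_ : r ∈ P') (hrT : r ∈ normalizerIn S P'),
      ∃ (r' : Ω) (_ : r' ∈ P') (hr'T : r' ∈ normalizerIn S P'),
        ι' ⟨r', hr'T⟩ = m * ι' ⟨r, hrT⟩ * m⁻¹ := by
    intro m r hr hrT
    obtain ⟨q', hq'⟩ :=
      Helper84_ModelUnique.model_conj_mem ⟨hT'p, hsat', hP'n, hP'cN'⟩ hM' m ⟨r, hr⟩
    exact ⟨q', q'.2, _, hq'⟩
  have hyp := hyp_normalizer F N hN hQP hPT N₂ hN₂ N' hN' hα hαN hαP hM'.2.1 hnorm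
  obtain ⟨j, hj⟩ := hyp.exists_injective_hom hS hM'
    (fun ψ hψ hψr => card_le_of_isFullyNormalized hS F hF hQ N hN hQP hPT hPfn hψ hψr) ι hM
  intro hinv
  exact hfree' (Cfsg.Agent.S5299.involves_of_injective j hj hinv)

end Main

end Cfsg.Agent.Lib.Helper88_NormFree
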