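import Cfsg.Agent.Lib.Helper88_KLB1
import Cfsg.Agent.Lib.Helper88_KLB2
import Cfsg.Agent.Lib.Helper88_KLB3
import Cfsg.Agent.Lib.Helper88_KLB4
import Cfsg.Agent.Lib.Helper88_KLB5
import Cfsg.Agent.Lib.Helper88_NormFree
import Cfsg.Agent.Lib.Helper88_FactorFree
import Cfsg.Agent.S5098
import Cfsg.Agent.S5132
import Cfsg.Agent.S5133
import Cfsg.Agent.S5134

/-!
Kessar–Linckelmann Theorem B (helper88), part 6: the main induction.  Let `W` be an
isomorphism-invariant `p`-group functor such that `W(P)` is normal in every finite group of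
characteristic `p` not involving `H`, `P` a Sylow `p`-subgroup.  Then `W(S)` is normal in every
`H`-free saturated fusion system over a finite `p`-group `S`.
-/

set_option autoImplicit false

universe u

namespace Cfsg.Agent.Lib.Helper88_KLB6

open Cfsg Cfsg.FusionSystem Cfsg.Agent.Lib.Helper85_Fusion Cfsg.Agent.Lib.Helper87_Alperin
  Cfsg.Agent.Lib.Helper87_Alperin2 Cfsg.Agent.Lib.Helper87_PInner Cfsg.Agent.Lib.Helper87_Factor
  Cfsg.Agent.Lib.Helper87_Factor2 Cfsg.Agent.Lib.Helper88_KLB1 Cfsg.Agent.Lib.Helper88_KLB2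
  Cfsg.Agent.Lib.Helper88_KLB3 Cfsg.Agent.Lib.Helper88_KLB4 Cfsg.Agent.Lib.Helper88_KLB5
  Cfsg.Agent.Lib.Helper88_Model

/-- The statement for systems over groups of order `n`. -/
def StmtB (p : ℕ) (W : ∀ (Q : Type u) [Group Q], Subgroup Q) (H : Type*) [Group H] (n : ℕ) : Prop :=
  ∀ (Ω : Type u) [Group Ω] (S : Subgroup Ω) [Finite S], Nat.card S = n → IsPGroup p S →
    ∀ F : FusionSystem S, F.IsSaturated p → F.IsSectionFree p H →
      F.IsNormal (Cfsg.inducedFunctor W S)

section Basic

variable {Ω : Type*} [Group Ω] {S : Subgroup Ω}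

theorem core_le (F : FusionSystem S) : F.core ≤ S := sSup_le fun _ hQ => hQ.1

theorem le_core {F : FusionSystem S} {X : Subgroup Ω} (hX : F.IsNormal X) : X ≤ F.core :=
  le_sSup hX

/-- A map of the normalizer system of `U` in a subsystem `E ≤ F` over the same `S` is a map of
the normalizer system of `U` in `F`. -/
theorem isNormMapOn_of_le {E F : FusionSystem S}
    (hsub : ∀ (P : Subgroup Ω) (f : Ω → Ω), IsMapOn E P f → IsMapOn F P f) {U P : Subgroup Ω}
    {f : Ω → Ω} (h : IsNormMapOn E U P f) : IsNormMapOn F U P f := by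
  obtain ⟨h1, h2, h3, g, hg1, hg2, hg3⟩ := h
  exact ⟨hsub _ _ h1, h2, h3, g, hsub _ _ hg1, hg2, hg3⟩

end Basic

variable {p : ℕ} [Fact p.Prime] {W : ∀ (Q : Type u) [Group Q], Subgroup Q}

/-- The induction step for systems over groups of a fixed order `n`: induction on the index of
`O_p(F)`. -/
theorem stepB (hW : Cfsg.IsCharPFunctor.{u} p W) {H : Type*} [Group H] (hG : GroupHypB p W H)
    (n : ℕ) (IH : ∀ m < n, StmtB p W H m) {Ω : Type u} [Group Ω] :
    ∀ (j : ℕ) (S : Subgroup Ω) [Finite S], Nat.card S = n → IsPGroup p S → ∀ F : FusionSystem S,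
      F.IsSaturated p → F.IsSectionFree p H → n - Nat.card F.core = j →
      F.IsNormal (Cfsg.inducedFunctor W S) := by
  intro j
  induction j using Nat.strong_induction_on with
  | _ j ih =>
  intro S _ hcard hS F hF hfree hj
  classical
  have hfinsub : ∀ {A : Subgroup Ω}, A ≤ S → Finite A := fun h => Helper84_FusionRS.finite_of_le_S h
  set Q : Subgroup Ω := F.core with hQdef
  have hQn : F.IsNormal Q := isNormal_core F
  have hQS : Q ≤ S := hQn.1
  have hSQ : S ≤ Subgroup.normalizer (Q : Set Ω) := Helper84_FusionNormal.IsNormal.le_normalizer hQn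
  have hfinQ : Finite Q := hfinsub hQS
  have hcardQn : Nat.card Q ≤ n := hcard ▸ Helper84_FusionAlperin.card_le_card_S hQS
  set W₀ : Subgroup Ω := Cfsg.inducedFunctor W S with hW₀
  have hW₀S : W₀ ≤ S := Cfsg.Agent.Lib.Helper34_NPC.inducedFunctor_le W S
  -- the inner induction hypothesis, for normalizer systems of subgroups normalized by `S`
  have key : ∀ X : Subgroup Ω, X ≤ S → S ≤ Subgroup.normalizer (X : Set Ω) →
      Nat.card Q < Nat.card X →
      ∀ (P : Subgroup Ω) (f : Ω → Ω), IsNormMapOn F X P f → IsNormMapOn F W₀ P f := by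
    intro X hXS hSX hQX P f hf
    have hT : normalizerIn S X = S := le_antisymm inf_le_left (le_inf le_rfl hSX)
    have hXfn : F.IsFullyNormalized X := isFullyNormalized_of_le_normalizer F hXS hSX
    have hN := normalizerSystem_isNormalizerSystem F X hXS
    set N := normalizerSystem F X hXS with hNdef
    have hfinT : Finite ↥(normalizerIn S X) := hfinsub inf_le_left
    have hTp : IsPGroup p ↥(normalizerIn S X) := hS.to_le inf_le_left
    have hNsat : N.IsSaturated p := Cfsg.Agent.S5098.result p hS F hF X hXfn N hN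
    have hNfree : N.IsSectionFree p H :=
      Helper88_NormFree.isSectionFree_normalizerSystem hS F hF H hfree X hXfn N hN
    have hXN : N.IsNormal X := isNormal_of_isNormalizerSystem F hXS N hN
    have hcardT : Nat.card ↥(normalizerIn S X) = n := by rw [hT]; exact hcard
    have hcoreT : N.core ≤ normalizerIn S X := core_le N
    have hfinc : Finite N.core := Finite.of_injective (Subgroup.inclusion hcoreT)
      (Subgroup.inclusion_injective hcoreT)
    have hc1 : Nat.card X ≤ Nat.card N.core := Subgroup.card_le_of_le (le_core hXN)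
    have hc2 : Nat.card N.core ≤ n := hcardT ▸ Subgroup.card_le_of_le hcoreT
    have hnormal := ih (n - Nat.card N.core) (by omega) (normalizerIn S X) hcardT hTp N hNsat
      hNfree rfl
    have hWT : Cfsg.inducedFunctor W (normalizerIn S X) = W₀ := by rw [hT]
    rw [hWT] at hnormal
    have h1 : IsMapOn N P f := (Helper87_GTMain.isMapOn_normalizerSystem_iff hN P f).2 hf
    exact Helper87_GTMain.isNormMapOn_of_normalizerSystem hN (controls_of_isNormal hnormal P f h1)
  by_cases hQc : F.IsCentric Q
  · exact isNormal_ind_of_constrained hW hG hS F hF hfree hQn hQc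
  by_cases hQbot : Q = ⊥
  · -- `O_p(F) = 1`: the climbing lemma
    have hcardQ1 : Nat.card Q = 1 := by rw [hQbot]; exact Subgroup.card_bot
    apply isNormal_ind_of_local hW hS F hF
    intro V hVne hVfn N hN
    have hVS : V ≤ S := hVfn.1
    have hTS : normalizerIn S V ≤ S := inf_le_left
    have hfinT : Finite ↥(normalizerIn S V) := hfinsub hTS
    have hTp : IsPGroup p ↥(normalizerIn S V) := hS.to_le hTS
    have hNsat : N.IsSaturated p := Cfsg.Agent.S5098.result p hS F hF V hVfn N hN
    have hNfree : N.IsSectionFree p H :=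
      Helper88_NormFree.isSectionFree_normalizerSystem hS F hF H hfree V hVfn N hN
    by_cases hT : normalizerIn S V = S
    · have hVN : N.IsNormal V := isNormal_of_isNormalizerSystem F hVS N hN
      have hcardT : Nat.card ↥(normalizerIn S V) = n := by rw [hT]; exact hcard
      have hcoreT : N.core ≤ normalizerIn S V := core_le N
      have hfinc : Finite N.core := Finite.of_injective (Subgroup.inclusion hcoreT)
        (Subgroup.inclusion_injective hcoreT)
      have hc1 : Nat.card V ≤ Nat.card N.core := Subgroup.card_le_of_le (le_core hVN)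
      have hc2 : Nat.card N.core ≤ n := hcardT ▸ Subgroup.card_le_of_le hcoreT
      have hfinV : Finite V := hfinsub hVS
      have hc3 : 1 < Nat.card V := by
        rw [Finite.one_lt_card_iff_nontrivial]
        exact (Subgroup.nontrivial_iff_ne_bot V).2 hVne
      exact ih (n - Nat.card N.core) (by omega) (normalizerIn S V) hcardT hTp N hNsat hNfree rfl
    · have hTlt : normalizerIn S V < S := lt_of_le_of_ne hTS hT
      have hcardT : Nat.card ↥(normalizerIn S V) < n :=
        hcard ▸ Helper84_FusionAlperin.card_lt_card_of_lt le_rfl hTlt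
      exact IH _ hcardT Ω (normalizerIn S V) rfl hTp N hNsat hNfree
  · -- `O_p(F) = Q ≠ 1` is not centric
    have hQsc : F.StronglyClosed Q := Helper84_FusionNormal.IsNormal.stronglyClosed hQn
    have hCQ : ¬ centralizerIn S Q ≤ Q := fun h => hQc (Helper87_GTCentric.isCentric_of_isNormal hQn h)
    have hQnormal : (Q.subgroupOf S).Normal := (Subgroup.normal_subgroupOf_iff_le_normalizer hQS).2 hSQ
    obtain ⟨Eb, hEb⟩ := Cfsg.Agent.S5132.result p hS F Q hQsc
    set θ : S →* S ⧸ Q.subgroupOf S := QuotientGroup.mk' (Q.subgroupOf S) with hθ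
    have hker : ∀ s : S, θ s = 1 ↔ (s : Ω) ∈ Q := hEb.2.1
    have hEbsat : Eb.IsSaturated p :=
      Cfsg.Agent.S5133.result p hS F hF Eb θ (Cfsg.Agent.S5134.result p hS F hF Q hQsc θ Eb hEb)
    have hEbfree : Eb.IsSectionFree p H :=
      Helper88_FactorFree.isSectionFree_factorSystem hS F hF Q hQn H hfree θ Eb hEb
    have hpquot : IsPGroup p (S ⧸ Q.subgroupOf S) := hS.to_quotient _
    have hpS' : IsPGroup p (⊤ : Subgroup (S ⧸ Q.subgroupOf S)) := hpquot.to_subgroup ⊤
    have hcardQ : 1 < Nat.card Q := by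
      rw [Finite.one_lt_card_iff_nontrivial]
      exact (Subgroup.nontrivial_iff_ne_bot Q).2 hQbot
    have hcardquot : Nat.card (S ⧸ Q.subgroupOf S) * Nat.card Q = n := by
      have h1 := Subgroup.card_eq_card_quotient_mul_card_subgroup (Q.subgroupOf S)
      have h2 : Nat.card (Q.subgroupOf S) = Nat.card Q :=
        Nat.card_congr (Subgroup.subgroupOfEquivOfLe hQS).toEquiv
      rw [← hcard, h1, h2]
    have hcardS' : Nat.card (⊤ : Subgroup (S ⧸ Q.subgroupOf S)) < n := by
      rw [Subgroup.card_top]
      have hpos : 0 < Nat.card (S ⧸ Q.subgroupOf S) := Nat.card_pos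
      nlinarith
    have hUbn : Eb.IsNormal (Cfsg.inducedFunctor W (⊤ : Subgroup (S ⧸ Q.subgroupOf S))) :=
      IH _ hcardS' _ (⊤ : Subgroup (S ⧸ Q.subgroupOf S)) rfl hpS' Eb hEbsat hEbfree
    set Ub : Subgroup (S ⧸ Q.subgroupOf S) :=
      Cfsg.inducedFunctor W (⊤ : Subgroup (S ⧸ Q.subgroupOf S)) with hUb
    set U : Subgroup Ω := preimageAlong θ Ub with hUdef
    have hUS : U ≤ S := preimageAlong_le θ Ub
    have hQU : Q ≤ U := le_preimageAlong hker hQS Ub
    have hUbsc : Eb.StronglyClosed Ub := Helper84_FusionNormal.IsNormal.stronglyClosed hUbn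
    have hUsc : F.StronglyClosed U := stronglyClosed_preimageAlong F hS hF hQsc hEb hUbsc
    have hSU : S ≤ Subgroup.normalizer (U : Set Ω) := Helper87_Normal.stronglyClosed_le_normalizer hUsc
    -- `U` is strictly larger than `Q`
    have hQneS : Q ≠ S := by
      intro h
      apply hCQ
      rw [h]
      exact inf_le_left
    have hS'ne : (⊤ : Subgroup (S ⧸ Q.subgroupOf S)) ≠ ⊥ := by
      intro h
      apply hQneS
      apply le_antisymm hQS
      intro s hs
      have h1 : θ ⟨s, hs⟩ ∈ (⊤ : Subgroup (S ⧸ Q.subgroupOf S)) := Subgroup.mem_top _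
      rw [h, Subgroup.mem_bot] at h1
      exact (hker ⟨s, hs⟩).1 h1
    have hUbne : Ub ≠ ⊥ := Cfsg.Agent.Lib.Helper34_NPC.inducedFunctor_ne_bot hW hpS' hS'ne
    have hQltU : Q < U := by
      refine lt_of_le_of_ne hQU ?_
      intro hQU'
      apply hUbne
      rw [Subgroup.eq_bot_iff_forall]
      intro w hw
      obtain ⟨s, rfl⟩ := QuotientGroup.mk'_surjective (Q.subgroupOf S) w
      have hsU : (s : Ω) ∈ U := by
        rw [hUdef, mem_preimageAlong]
        exact ⟨s.2, by rw [extOn_coe]; exact hw⟩
      rw [← hQU'] at hsU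
      exact (hker s).2 hsU
    have hcardU : Nat.card Q < Nat.card U := Helper84_FusionAlperin.card_lt_card_of_lt hUS hQltU
    -- `R = Q C_S(Q)` is strictly larger than `Q`
    set R : Subgroup Ω := Q ⊔ centralizerIn S Q with hRdef
    have hRS : R ≤ S := sup_le hQS inf_le_left
    have hSR : S ≤ Subgroup.normalizer (R : Set Ω) := le_normalizer_sup_centralizerIn hQn
    have hQltR : Q < R := by
      refine lt_of_le_of_ne le_sup_left ?_
      intro h
      exact hCQ ((le_sup_right : centralizerIn S Q ≤ R).trans (le_of_eq h.symm))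
    have hcardR : Nat.card Q < Nat.card R := Helper84_FusionAlperin.card_lt_card_of_lt hRS hQltR
    -- the target system `N_F(W(S))`
    have hSW₀ : S ≤ Subgroup.normalizer (W₀ : Set Ω) := Helper84_KLRealized.inducedFunctor_le_of_le hW hS
    have hnorm : normalizerIn S W₀ = S := le_antisymm inf_le_left (le_inf le_rfl hSW₀)
    have hNW := normalizerSystem_isNormalizerSystem F W₀ hW₀S
    let E' : FusionSystem S := Helper87_Normal.castSystem hnorm (normalizerSystem F W₀ hW₀S)
    have hEiff : ∀ (P : Subgroup Ω) (f : Ω → Ω), IsMapOn E' P f ↔ IsNormMapOn F W₀ P f := by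
      intro P f
      rw [← Helper87_GTMain.isMapOn_normalizerSystem_iff hNW P f]
      unfold IsMapOn
      rw [Helper87_Normal.castSystem_hom hnorm _ P]
    have hUE : (scSystem F Q hQn.1 hSQ).IsNormal U :=
      isNormal_scSystem_preimageAlong hS F hF hQn hSQ hEb hpS' hUbn
    have hsub : ∀ (P : Subgroup Ω) (f : Ω → Ω), IsMapOn (scSystem F Q hQn.1 hSQ) P f → IsMapOn F P f :=
      fun P f hf => isMapOn_of_scSystem F hQn.1 hSQ hf
    have h1 : ∀ (P : Subgroup Ω) (f : Ω → Ω), IsMapOn (scSystem F Q hQn.1 hSQ) P f → IsMapOn E' P f := by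
      intro P f hf
      rw [hEiff]
      exact key U hUS hSU hcardU P f (isNormMapOn_of_le hsub (controls_of_isNormal hUE P f hf))
    have h2 : ∀ (P : Subgroup Ω) (f : Ω → Ω), IsNormMapOn F (Q ⊔ centralizerIn S Q) P f →
        IsMapOn E' P f := by
      intro P f hf
      rw [hEiff]
      exact key R hRS hSR hcardR P f hf
    have hall := isMapOn_of_sc_of_norm hS F hF hQn hSQ E' h1 h2
    apply isNormal_of_controls hW₀S
    intro P f hf
    exact (hEiff P f).1 (hall P f hf)

/-- **Kessar–Linckelmann Theorem B in functor form.** -/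
theorem mainB (hW : Cfsg.IsCharPFunctor.{u} p W) {H : Type*} [Group H] (hG : GroupHypB p W H) :
    ∀ n : ℕ, StmtB p W H n := by
  intro n
  induction n using Nat.strong_induction_on with
  | _ n IH =>
  intro Ω _ S _ hcard hS F hF hfree
  exact stepB hW hG n IH _ S hcard hS F hF hfree rfl

end Cfsg.Agent.Lib.Helper88_KLB6
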