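import Cfsg.Agent.S5197
import Cfsg.Agent.S1984
import Cfsg.Agent.S5132
import Cfsg.Agent.S5133
import Cfsg.Agent.S5134
import Cfsg.Agent.S5098
import Cfsg.Agent.Lib.Helper84_FocQuot
import Cfsg.Agent.Lib.Helper88_KLB6

/-!
Helper library (helper72): for `p ≥ 5`, a saturated fusion system over a nontrivial finite `p`-group `S` in
which every automorphism of `S` is inner has a focal subgroup properly contained in `S` (S5252).  This follows
from Glauberman's theorem that the lower K-infinity subgroup controls transfer (S1984), transported to fusion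
systems (S5197), by induction on `|S|` through the factor system `N_F(K_∞(S)) / K_∞(S)`.
-/

set_option autoImplicit false

universe u

namespace Cfsg.Agent.Lib.Helper72_FocP

open Cfsg Cfsg.FusionSystem Cfsg.Agent.Lib Cfsg.Agent.Lib.Helper85_Fusion Cfsg.Agent.Lib.Helper87_Alperin
  Cfsg.Agent.Lib.Helper87_Alperin2 Cfsg.Agent.Lib.Helper87_PInner Cfsg.Agent.Lib.Helper87_Factor
  Cfsg.Agent.Lib.Helper87_Factor2 Cfsg.Agent.Lib.Helper84_KLQuot Cfsg.Agent.Lib.Helper84_FocBasic
  Cfsg.Agent.Lib.Helper84_FocCentral Cfsg.Agent.Lib.Helper88_KLB1 Cfsg.Agent.Lib.Helper88_Model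
  Cfsg.Agent.Lib.Helper33_WTransfer

variable {p : ℕ} [Fact p.Prime]

/-- the functor `K_∞` -/
def WK : ∀ (Q : Type u) [Group Q], Subgroup Q := fun (Q : Type u) [Group Q] => Cfsg.kInfLower Q

theorem isCharPFunctor_WK : Cfsg.IsCharPFunctor.{u} p WK :=
  Cfsg.Agent.Lib.Helper54_KInf.isCharPFunctor_kInfLower p

/-- The local transfer condition of S5197 for `K_∞`, `p ≥ 5`. -/
theorem localHyp_WK (hp : 5 ≤ p) (G : Type u) [Group G] [Finite G] (P : Sylow p G) :
    Cfsg.pCore p G ⊓ commutator G = Cfsg.pCore p G ⊓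
      (commutator ↥(Subgroup.normalizer (((WK ↥(P : Subgroup G)).map (P : Subgroup G).subtype :
        Subgroup G) : Set G))).map
        (Subgroup.normalizer (((WK ↥(P : Subgroup G)).map (P : Subgroup G).subtype :
          Subgroup G) : Set G)).subtype := by
  have h1 := Cfsg.Agent.S1984.result (G := G) (p := p) hp
  rw [controlsTransfer_iff_singleton] at h1
  have hconj : ∀ W ∈ ({Cfsg.inducedFunctor (G := G) Cfsg.kInfLower} : Set (Subgroup G → Subgroup G)),
      Cfsg.IsConjugacyFunctor p W := by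
    intro W hW
    rw [Set.mem_singleton_iff] at hW
    subst hW
    exact fun Q hQ => ⟨Cfsg.Agent.Lib.Helper34_NPC.inducedFunctor_le _ Q,
      Cfsg.Agent.Lib.Helper34_NPC.inducedFunctor_ne_bot (isCharPFunctor_WK (p := p)) hQ,
      fun g => Cfsg.Agent.Lib.Helper34_NPC.inducedFunctor_conj (isCharPFunctor_WK (p := p)) Q hQ g⟩
  have h2 := eq_DD_of_controls hconj h1 (le_top : (P : Subgroup G) ≤ ⊤) P.2
    (by rw [Subgroup.relIndex_top_right]; exact P.not_dvd_index)
  unfold DD at h2
  simp only [Set.mem_singleton_iff, iSup_iSup_eq_left] at h2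
  unfold DDterm at h2
  rw [top_inf_eq] at h2
  rw [Subgroup.map_subtype_commutator]
  have hle : Cfsg.pCore p G ≤ (P : Subgroup G) := Cfsg.Agent.Lib.Helper47_PLocal.pCore_le_sylow P
  have e1 : Cfsg.pCore p G ⊓ commutator G = Cfsg.pCore p G ⊓ ((P : Subgroup G) ⊓ ⁅(⊤ : Subgroup G), ⊤⁆) := by
    rw [← inf_assoc, inf_eq_left.2 hle]
    rfl
  rw [e1, h2, ← inf_assoc, inf_eq_left.2 hle]
  rfl


section Main

open scoped commutatorElement

/-- every map of the system on `S` is conjugation by an element of `S` -/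
def AutInner {Ω : Type*} [Group Ω] {S : Subgroup Ω} (F : FusionSystem S) : Prop :=
  ∀ g : Ω → Ω, IsMapOn F S g → ∃ s ∈ S, ∀ x ∈ S, g x = s * x * s⁻¹

/-- The statement for systems over groups of order `n`. -/
def StmtFoc (p : ℕ) (n : ℕ) : Prop :=
  ∀ (Ω : Type u) [Group Ω] (S : Subgroup Ω) [Finite S], Nat.card S = n → IsPGroup p S → S ≠ ⊥ →
    ∀ F : FusionSystem S, F.IsSaturated p → AutInner F → ∃ X : Subgroup Ω, X < S ∧ AllFoc F X

theorem commutator_lt_of_pgroup {Ω : Type*} [Group Ω] {S : Subgroup Ω} [Finite S] (hS : IsPGroup p S)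
    (hS1 : S ≠ ⊥) : ⁅S, S⁆ < S := by
  have hnt : Nontrivial S := (Subgroup.nontrivial_iff_ne_bot S).2 hS1
  have hnil : Group.IsNilpotent S := hS.isNilpotent
  have hsolv : Group.IsSolvable S := inferInstance
  have h1 : ⁅(⊤ : Subgroup S), ⊤⁆ < ⊤ := Group.IsSolvable.commutator_lt_top_of_nontrivial S
  refine lt_of_le_of_ne (Subgroup.commutator_le_self S) ?_
  intro h
  apply h1.ne
  apply Subgroup.map_injective S.subtype_injective
  rw [Subgroup.map_commutator, ← MonoidHom.range_eq_map, Subgroup.range_subtype]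
  exact h

theorem mainFoc (hp : 5 ≤ p) : ∀ n : ℕ, StmtFoc.{u} p n := by
  intro n
  induction n using Nat.strong_induction_on with
  | _ n IH =>
  intro Ω _ S _ hcard hS hS1 F hF hinn
  classical
  have hfinsub : ∀ {A : Subgroup Ω}, A ≤ S → Finite A := fun h => Helper84_FusionRS.finite_of_le_S h
  have hW : Cfsg.IsCharPFunctor.{u} p WK := isCharPFunctor_WK
  set K : Subgroup Ω := (WK ↥S).map S.subtype with hKdef
  have hKS : K ≤ S := Cfsg.Agent.Lib.Helper34_NPC.inducedFunctor_le WK S
  have hKne : K ≠ ⊥ := Cfsg.Agent.Lib.Helper34_NPC.inducedFunctor_ne_bot hW hS hS1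
  have hSK : S ≤ Subgroup.normalizer (K : Set Ω) := Helper84_KLRealized.inducedFunctor_le_of_le hW hS
  have hT : normalizerIn S K = S := le_antisymm inf_le_left (le_inf le_rfl hSK)
  have hKfn : F.IsFullyNormalized K := isFullyNormalized_of_le_normalizer F hKS hSK
  have hNsys := normalizerSystem_isNormalizerSystem F K hKS
  set N := normalizerSystem F K hKS with hNdef
  have hfinT : Finite ↥(normalizerIn S K) := hfinsub inf_le_left
  have hTp : IsPGroup p ↥(normalizerIn S K) := hS.to_le inf_le_left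
  have hNsat : N.IsSaturated p := Cfsg.Agent.S5098.result p hS F hF K hKfn N hNsys
  have hfoc : N.focalSubgroup = F.focalSubgroup :=
    Cfsg.Agent.S5197.result WK hW.1 hW.2 (fun G _ _ P _ => localHyp_WK hp G P) hS F hF N hNsys
  -- reduce to the normalizer system
  suffices hsuff : ∃ X : Subgroup Ω, X < S ∧ AllFoc N X by
    obtain ⟨X, hXS, hX⟩ := hsuff
    refine ⟨X, hXS, ?_⟩
    rw [← focalSubgroup_le_iff, ← hfoc, focalSubgroup_le_iff]
    exact hX
  by_cases hKeq : K = S
  · -- `K = S`: all maps of `N` are restrictions of inner automorphisms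
    refine ⟨⁅S, S⁆, commutator_lt_of_pgroup hS hS1, ?_⟩
    intro P f hf x hx
    obtain ⟨hfF, -, -, D, g, hPD, hKD, hg, hgf, -⟩ :=
      (Helper84_KLBasic.isMapOn_normalizerSystem_iff hKS hNsys P f).1 hf
    have hDS : D = S := le_antisymm hg.le (hKeq ▸ hKD)
    rw [hDS] at hg hPD
    obtain ⟨s, hs, hgs⟩ := hinn g hg
    have hxS : x ∈ S := hPD hx
    rw [← hgf x hx, hgs x hxS]
    have h1 : x⁻¹ * (s * x * s⁻¹) = ⁅x⁻¹, s⁆ := by
      rw [commutatorElement_def]; group
    rw [h1]
    exact Subgroup.commutator_mem_commutator (S.inv_mem hxS) hs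
  · -- `K < S`: pass to the factor system
    have hKN : N.IsNormal K := isNormal_of_isNormalizerSystem F hKS N hNsys
    have hKsc : N.StronglyClosed K := Helper84_FusionNormal.IsNormal.stronglyClosed hKN
    have hKT : K ≤ normalizerIn S K := hT.symm ▸ hKS
    have hKnormal : (K.subgroupOf (normalizerIn S K)).Normal :=
      (Subgroup.normal_subgroupOf_iff_le_normalizer hKT).2 inf_le_right
    obtain ⟨E, hE⟩ := Cfsg.Agent.S5132.result p hTp N K hKsc
    set θ : ↥(normalizerIn S K) →* ↥(normalizerIn S K) ⧸ K.subgroupOf (normalizerIn S K) :=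
      QuotientGroup.mk' (K.subgroupOf (normalizerIn S K)) with hθ
    have hker : ∀ s : ↥(normalizerIn S K), θ s = 1 ↔ (s : Ω) ∈ K := hE.2.1
    have hEsat : E.IsSaturated p :=
      Cfsg.Agent.S5133.result p hTp N hNsat E θ (Cfsg.Agent.S5134.result p hTp N hNsat K hKsc θ E hE)
    have hpquot : IsPGroup p (↥(normalizerIn S K) ⧸ K.subgroupOf (normalizerIn S K)) := hTp.to_quotient _
    have hpS' : IsPGroup p (⊤ : Subgroup (↥(normalizerIn S K) ⧸ K.subgroupOf (normalizerIn S K))) :=
      hpquot.to_subgroup ⊤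
    have hfinK : Finite K := hfinsub hKS
    have hcardK : 1 < Nat.card K := by
      rw [Finite.one_lt_card_iff_nontrivial]
      exact (Subgroup.nontrivial_iff_ne_bot K).2 hKne
    have hcardT : Nat.card ↥(normalizerIn S K) = n := by rw [hT]; exact hcard
    have hcardquot : Nat.card (↥(normalizerIn S K) ⧸ K.subgroupOf (normalizerIn S K)) * Nat.card K = n := by
      have h1 := Subgroup.card_eq_card_quotient_mul_card_subgroup (K.subgroupOf (normalizerIn S K))
      have h2 : Nat.card (K.subgroupOf (normalizerIn S K)) = Nat.card K :=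
        Nat.card_congr (Subgroup.subgroupOfEquivOfLe hKT).toEquiv
      rw [← hcardT, h1, h2]
    have hcardS' : Nat.card (⊤ : Subgroup (↥(normalizerIn S K) ⧸ K.subgroupOf (normalizerIn S K))) < n := by
      rw [Subgroup.card_top]
      have hpos : 0 < Nat.card (↥(normalizerIn S K) ⧸ K.subgroupOf (normalizerIn S K)) := Nat.card_pos
      nlinarith
    have hS'ne : (⊤ : Subgroup (↥(normalizerIn S K) ⧸ K.subgroupOf (normalizerIn S K))) ≠ ⊥ := by
      intro h
      apply hKeq
      apply le_antisymm hKS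
      intro s hs
      have hsT : s ∈ normalizerIn S K := hT.symm ▸ hs
      have h1 : θ ⟨s, hsT⟩ ∈ (⊤ : Subgroup (↥(normalizerIn S K) ⧸ K.subgroupOf (normalizerIn S K))) :=
        Subgroup.mem_top _
      rw [h, Subgroup.mem_bot] at h1
      exact (hker ⟨s, hsT⟩).1 h1
    have hpreTop : preimageAlong θ (⊤ : Subgroup (↥(normalizerIn S K) ⧸ K.subgroupOf (normalizerIn S K))) =
        normalizerIn S K := by
      apply le_antisymm (preimageAlong_le θ _)
      intro x hx
      rw [mem_preimageAlong]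
      exact ⟨hx, Subgroup.mem_top _⟩
    have hsurj : ∀ y' : ↥(normalizerIn S K) ⧸ K.subgroupOf (normalizerIn S K),
        ∃ x, x ∈ normalizerIn S K ∧ extOn θ x = y' := by
      intro y'
      obtain ⟨s, rfl⟩ := QuotientGroup.mk'_surjective (K.subgroupOf (normalizerIn S K)) y'
      exact ⟨(s : Ω), s.2, extOn_coe θ s⟩
    -- the factor system has only inner automorphisms of its Sylow group
    have hEinn : AutInner E := by
      intro g' hg'
      obtain ⟨g, hg, hgg'⟩ := exists_lift_isMapOn hE hg'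
      rw [hpreTop] at hg hgg'
      have hgF : IsMapOn F (normalizerIn S K) g :=
        ((Helper84_KLBasic.isMapOn_normalizerSystem_iff hKS hNsys _ g).1 hg).1
      rw [hT] at hgF
      obtain ⟨s, hs, hgs⟩ := hinn g hgF
      have hsT : s ∈ normalizerIn S K := hT.symm ▸ hs
      refine ⟨extOn θ s, Subgroup.mem_top _, ?_⟩
      intro y' _
      obtain ⟨x, hxT, rfl⟩ := hsurj y'
      have hxS : x ∈ S := hT ▸ hxT
      rw [← hgg' x hxT, hgs x hxS, extOn_mul θ (Subgroup.mul_mem _ hsT hxT) (Subgroup.inv_mem _ hsT),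
        extOn_mul θ hsT hxT, extOn_inv θ hsT]
    obtain ⟨X', hX'lt, hX'⟩ := IH _ hcardS' _ (⊤ : Subgroup (↥(normalizerIn S K) ⧸ K.subgroupOf (normalizerIn S K)))
      rfl hpS' hS'ne E hEsat hEinn
    refine ⟨preimageAlong θ X', ?_, ?_⟩
    · refine lt_of_le_of_ne ((preimageAlong_le θ X').trans inf_le_left) ?_
      intro h
      apply hX'lt.ne
      apply le_antisymm le_top
      intro y' _
      obtain ⟨x, hxT, rfl⟩ := hsurj y'
      have hxS : x ∈ S := hT ▸ hxT
      rw [← h] at hxS
      exact ((mem_preimageAlong θ X' x).1 hxS).2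
    · intro P f hf x hx
      have hPT : P ≤ normalizerIn S K := hf.le
      obtain ⟨f', hf', hf'f⟩ := exists_induced_isMapOn hTp hNsat hKsc hE hf
      have h1 := hX' _ f' hf' _ (extOn_mem_imageAlong θ hPT hx)
      rw [hf'f x hx] at h1
      have hxT : x ∈ normalizerIn S K := hPT hx
      have hfxT : f x ∈ normalizerIn S K := hf.mem hx
      rw [mem_preimageAlong]
      refine ⟨Subgroup.mul_mem _ (Subgroup.inv_mem _ hxT) hfxT, ?_⟩
      rw [extOn_mul θ (Subgroup.inv_mem _ hxT) hfxT, extOn_inv θ hxT]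
      exact h1

end Main

end Cfsg.Agent.Lib.Helper72_FocP
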