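import Cfsg.Agent.Lib.Helper34_NPC
import Cfsg.Prelude.Def_Amalgam

/-!
Conversion of a local hypothesis on an isomorphism-invariant functor, stated for all finite groups of one universe,
into the subgroup form used by the weak-closure theorems for conjugacy functors (helper72).

* `hloc_of_type`: the "quadratic element" hypothesis for all finite groups `G : Type u` gives, for subgroups
  `T ≤ H` of a finite group `L : Type u` (`T` Sylow in `H`), the same statement for the pair `(H, T)`;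
* `exists_pow_of_mem_closure`: an element of the subgroup generated by the `p`-th powers of a commutative
  subgroup is a `p`-th power.
-/

set_option autoImplicit false
set_option linter.style.haveILetI false

universe u

namespace Cfsg.Agent.Lib.Helper72_FusPow

open Cfsg

theorem exists_pow_of_mem_closure {G : Type*} [Group G] (A : Subgroup G)
    (hA : ∀ a ∈ A, ∀ b ∈ A, a * b = b * a) (n : ℕ) {z : G}
    (hz : z ∈ Subgroup.closure ((fun x : G => x ^ n) '' (A : Set G))) : ∃ w ∈ A, w ^ n = z := by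
  induction hz using Subgroup.closure_induction with
  | mem x hx =>
    obtain ⟨w, hw, rfl⟩ := hx
    exact ⟨w, hw, rfl⟩
  | one => exact ⟨1, A.one_mem, one_pow n⟩
  | mul x y _ _ hx hy =>
    obtain ⟨a, ha, rfl⟩ := hx
    obtain ⟨b, hb, rfl⟩ := hy
    exact ⟨a * b, A.mul_mem ha hb, (show Commute a b from hA a ha b hb).mul_pow n⟩
  | inv x _ hx =>
    obtain ⟨a, ha, rfl⟩ := hx
    exact ⟨a⁻¹, A.inv_mem ha, inv_pow a n⟩

variable {p : ℕ} [Fact p.Prime] {W : ∀ (Q : Type u) [Group Q], Subgroup Q}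

/-- The quadratic-element hypothesis, from the type-level form to the subgroup form. -/
theorem hloc_of_type (hW : Cfsg.IsCharPFunctor.{u} p W)
    (hq : ∀ (G : Type u) [Group G] [Finite G] (P : Sylow p G),
      ¬ (((W ↥(P : Subgroup G)).map (P : Subgroup G).subtype : Subgroup G)).Normal →
      ∃ g : G, g ∈ (P : Subgroup G) ∧ g ∉ Cfsg.pCore p G ∧
        ⁅⁅Subgroup.center ↥(Cfsg.pCore p G) |>.map (Cfsg.pCore p G).subtype, Subgroup.zpowers g⁆,
          Subgroup.zpowers g⁆ = ⊥)
    {L : Type u} [Group L] [Finite L] (H T : Subgroup L) (hTH : T ≤ H) (hT : IsPGroup p T)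
    (hidx : ¬ p ∣ T.relIndex H)
    (hn : ¬ H ≤ Subgroup.normalizer ((Cfsg.inducedFunctor W T : Subgroup L) : Set L)) :
    ∃ g : L, g ∈ T ∧ g ∉ Cfsg.pCoreOf p H ∧
      ⁅⁅Cfsg.pCoreOf p H ⊓ Subgroup.centralizer ((Cfsg.pCoreOf p H : Subgroup L) : Set L),
        Subgroup.zpowers g⁆, Subgroup.zpowers g⁆ = ⊥ := by
  -- the Sylow subgroup of `H`
  have hTp : IsPGroup p (T.subgroupOf H) := hT.comap_subtype
  have hidx' : ¬ p ∣ (T.subgroupOf H).index := hidx
  set P₀ : Sylow p H := hTp.toSylow hidx' with hP₀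
  have hP₀coe : (P₀ : Subgroup H) = T.subgroupOf H := hTp.toSylow_coe hidx'
  -- the functor
  have hfun : Cfsg.inducedFunctor W T =
      (Cfsg.inducedFunctor W (T.subgroupOf H)).map H.subtype := by
    have h1 := Cfsg.Agent.Lib.Helper34_NPC.inducedFunctor_map hW H.subtype (T.subgroupOf H) hTp
      (fun x _ hx => Subtype.ext hx)
    rw [Subgroup.map_subgroupOf_eq_of_le hTH] at h1
    exact h1
  have hnn : ¬ (((W ↥(P₀ : Subgroup H)).map (P₀ : Subgroup H).subtype : Subgroup H)).Normal := by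
    intro hnorm
    apply hn
    have hV₀ : ((W ↥(P₀ : Subgroup H)).map (P₀ : Subgroup H).subtype : Subgroup H) =
        Cfsg.inducedFunctor W (T.subgroupOf H) := by
      rw [hP₀coe]
      rfl
    rw [hV₀] at hnorm
    intro h hh
    rw [Subgroup.mem_normalizer_iff]
    have key : ∀ k ∈ H, ∀ y ∈ Cfsg.inducedFunctor W T, k * y * k⁻¹ ∈ Cfsg.inducedFunctor W T := by
      intro k hk y hy
      rw [hfun] at hy ⊢
      obtain ⟨v, hv, rfl⟩ := hy
      exact ⟨⟨k, hk⟩ * v * ⟨k, hk⟩⁻¹, hnorm.conj_mem v hv ⟨k, hk⟩, rfl⟩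
    intro y
    constructor
    · exact key h hh y
    · intro hy
      have h1 := key h⁻¹ (H.inv_mem hh) _ hy
      have e : h⁻¹ * (h * y * h⁻¹) * h⁻¹⁻¹ = y := by group
      rwa [e] at h1
  obtain ⟨g, hgP, hgO, hcomm⟩ := hq H P₀ hnn
  refine ⟨(g : L), ?_, ?_, ?_⟩
  · have : g ∈ T.subgroupOf H := hP₀coe ▸ hgP
    exact Subgroup.mem_subgroupOf.1 this
  · rintro ⟨o, ho, hog⟩
    have : o = g := Subtype.ext hog
    exact hgO (this ▸ ho)
  · -- the commutator
    have hA : ((Subgroup.center ↥(Cfsg.pCore p H)).map (Cfsg.pCore p H).subtype).map H.subtype =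
        Cfsg.pCoreOf p H ⊓ Subgroup.centralizer ((Cfsg.pCoreOf p H : Subgroup L) : Set L) := by
      ext x
      constructor
      · rintro ⟨a, ⟨c, hc, rfl⟩, rfl⟩
        refine Subgroup.mem_inf.2 ⟨⟨(c : H), c.2, rfl⟩, ?_⟩
        rw [Subgroup.mem_centralizer_iff]
        rintro _ ⟨o, ho, rfl⟩
        have h1 := Subgroup.mem_center_iff.1 hc ⟨o, ho⟩
        have h2 := congrArg (fun t : ↥(Cfsg.pCore p H) => ((t : H) : L)) h1
        exact h2
      · intro hx
        obtain ⟨⟨o, ho, rfl⟩, hxc⟩ := Subgroup.mem_inf.1 hx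
        rw [Subgroup.mem_centralizer_iff] at hxc
        refine ⟨o, ⟨⟨o, ho⟩, ?_, rfl⟩, rfl⟩
        show (⟨o, ho⟩ : ↥(Cfsg.pCore p H)) ∈ Subgroup.center ↥(Cfsg.pCore p H)
        rw [Subgroup.mem_center_iff]
        intro t
        apply Subtype.ext
        apply Subtype.ext
        exact hxc _ ⟨(t : H), t.2, rfl⟩
    have hZg : (Subgroup.zpowers g).map H.subtype = Subgroup.zpowers (g : L) := by
      rw [MonoidHom.map_zpowers]
      rfl
    have h1 := congrArg (Subgroup.map H.subtype) hcomm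
    rw [Subgroup.map_commutator, Subgroup.map_commutator, hA, hZg, Subgroup.map_bot] at h1
    exact h1

end Cfsg.Agent.Lib.Helper72_FusPow
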