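import Mathlib
import Cfsg.Prelude.Def_ConjugacyFunctors

/-!
Isomorphism-invariant `p`-group functors, evaluated on subgroups (helper87): the subgroup `inducedFunctor W D` of
`D` is carried to `inducedFunctor W D'` by every injective multiplicative map of `D` onto `D'`.
-/

set_option autoImplicit false
set_option linter.style.haveILetI false

universe u

namespace Cfsg.Agent.Lib.Helper87_GTFunctor

open Cfsg

variable {p : ℕ} {W : ∀ (Q : Type u) [Group Q], Subgroup Q}

theorem ind_le {G : Type u} [Group G] (D : Subgroup G) : inducedFunctor W D ≤ D := by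
  rintro _ ⟨x, -, rfl⟩
  exact x.2

theorem mem_ind_iff {G : Type u} [Group G] (D : Subgroup G) (x : D) :
    (x : G) ∈ inducedFunctor W D ↔ x ∈ W D := by
  constructor
  · rintro ⟨y, hy, hyx⟩
    have : y = x := Subtype.ext hyx
    rwa [← this]
  · intro h
    exact ⟨x, h, rfl⟩

theorem ind_ne_bot (hW : IsCharPFunctor p W) {G : Type u} [Group G] (D : Subgroup G) [Finite D]
    (hD : IsPGroup p D) (hne : D ≠ ⊥) : inducedFunctor W D ≠ ⊥ := by
  have hnt : Nontrivial D := (Subgroup.nontrivial_iff_ne_bot D).2 hne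
  have h1 : W D ≠ ⊥ := hW.1 D hD hnt
  intro h
  apply h1
  unfold inducedFunctor at h
  exact (Subgroup.map_eq_bot_iff_of_injective _ D.subtype_injective).1 h

theorem ind_bot {G : Type u} [Group G] : inducedFunctor W (⊥ : Subgroup G) = ⊥ :=
  le_bot_iff.1 (ind_le ⊥)

theorem ind_equiv (hW : IsCharPFunctor p W) {G G' : Type u} [Group G] [Group G'] {D : Subgroup G}
    {D' : Subgroup G'} [Finite D] (hD : IsPGroup p D) (e : D ≃* D') (x : D) :
    (x : G) ∈ inducedFunctor W D ↔ ((e x : D') : G') ∈ inducedFunctor W D' := by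
  rw [mem_ind_iff, mem_ind_iff, ← hW.2 D D' hD e]
  constructor
  · intro h
    exact ⟨x, h, rfl⟩
  · rintro ⟨y, hy, hyx⟩
    have : y = x := e.injective hyx
    rwa [← this]

/-- An injective multiplicative map of `D` onto `D'` carries `W(D)` onto `W(D')`. -/
theorem ind_image (hW : IsCharPFunctor p W) {G G' : Type u} [Group G] [Group G'] {D : Subgroup G}
    {D' : Subgroup G'} [Finite D] (hD : IsPGroup p D) (f : G → G')
    (hmul : ∀ x ∈ D, ∀ y ∈ D, f (x * y) = f x * f y) (hinj : ∀ x ∈ D, ∀ y ∈ D, f x = f y → x = y)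
    (himg : ∀ y, y ∈ D' ↔ ∃ x ∈ D, f x = y) :
    ∀ y, y ∈ inducedFunctor W D' ↔ ∃ x ∈ inducedFunctor W D, f x = y := by
  have hone : f 1 = 1 := by
    have := hmul 1 D.one_mem 1 D.one_mem
    rw [mul_one] at this
    exact (mul_eq_left.1 this.symm)
  let e₀ : D →* D' :=
    { toFun := fun x => ⟨f x, (himg _).2 ⟨x, x.2, rfl⟩⟩
      map_one' := Subtype.ext hone
      map_mul' := fun a b => Subtype.ext (hmul a a.2 b b.2) }
  have hbij : Function.Bijective e₀ := by
    constructor
    · intro a b hab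
      exact Subtype.ext (hinj a a.2 b b.2 (congrArg Subtype.val hab))
    · rintro ⟨y, hy⟩
      obtain ⟨x, hx, rfl⟩ := (himg y).1 hy
      exact ⟨⟨x, hx⟩, rfl⟩
  let e : D ≃* D' := MulEquiv.ofBijective e₀ hbij
  intro y
  constructor
  · intro hy
    obtain ⟨x, hx, rfl⟩ := (himg y).1 (ind_le D' hy)
    refine ⟨x, ?_, rfl⟩
    exact (ind_equiv hW hD e ⟨x, hx⟩).2 hy
  · rintro ⟨x, hx, rfl⟩
    exact (ind_equiv hW hD e ⟨x, ind_le D hx⟩).1 hx

/-- Elements normalizing `D` normalize `W(D)`. -/
theorem normalizer_le (hW : IsCharPFunctor p W) {G : Type u} [Group G] (D : Subgroup G) [Finite D]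
    (hD : IsPGroup p D) :
    Subgroup.normalizer (D : Set G) ≤ Subgroup.normalizer (inducedFunctor W D : Set G) := by
  intro g hg
  have himg : ∀ y, y ∈ D ↔ ∃ x ∈ D, g * x * g⁻¹ = y := by
    intro y
    constructor
    · intro hy
      refine ⟨g⁻¹ * y * g, ?_, by group⟩
      have := (Subgroup.mem_normalizer_iff.1 (Subgroup.inv_mem _ hg) y).1 hy
      simpa using this
    · rintro ⟨x, hx, rfl⟩
      exact (Subgroup.mem_normalizer_iff.1 hg x).1 hx
  have h := ind_image hW hD (fun x => g * x * g⁻¹) (fun x _ y _ => by group)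
    (fun x _ y _ hxy => by simpa using hxy) himg
  rw [Subgroup.mem_normalizer_iff]
  intro x
  constructor
  · intro hx
    exact (h _).2 ⟨x, hx, rfl⟩
  · intro hx
    obtain ⟨z, hz, hzx⟩ := (h _).1 hx
    have : z = x := by simpa using hzx
    rwa [← this]

end Cfsg.Agent.Lib.Helper87_GTFunctor
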