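import Cfsg.Agent.Lib.Helper87_Alperin2
import Cfsg.Agent.Lib.Helper88_Essential
import Cfsg.Agent.Lib.Helper84_KLBasic
import Cfsg.Agent.Lib.Helper87_GTFunctor

/-!
Control of weak closure of elements in saturated fusion systems, generic reduction (helper72), part 1.

`Z` is a subgroup of `S` centralized by `S`.  A function `f` is *good* on `P` (with respect to `Z`) when it fixes
every element of `Z ∩ P` and maps no other element of `P` into `Z`.  The maps of a fusion system `F` that are good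
on their sources of order at least `n` form a subsystem (`lev`), and Alperin's theorem shows that all maps of `F`
on sources of order at least `n` are good as soon as the automorphisms of the centric radical subgroups of order
at least `n` fix `Z` pointwise (`good_of_autFix`).
-/

set_option autoImplicit false
set_option linter.style.haveILetI false

universe u

namespace Cfsg.Agent.Lib.Helper72_FusWC

open Cfsg Cfsg.FusionSystem Cfsg.Agent.Lib.Helper87_Alperin Cfsg.Agent.Lib.Helper87_Alperin2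
  Cfsg.Agent.Lib.Helper88_Centric Cfsg.Agent.Lib.Helper88_Essential

variable {Ω : Type u} [Group Ω] {S : Subgroup Ω}

/-- `f` fixes the elements of `Z` lying in `P`, and sends no other element of `P` into `Z`. -/
def Good (Z P : Subgroup Ω) (f : Ω → Ω) : Prop :=
  ∀ x ∈ P, (f x ∈ Z ↔ x ∈ Z) ∧ (x ∈ Z → f x = x)

/-- Every self-map of `U` belonging to the system fixes `Z ∩ U` pointwise. -/
def AutFix (F : FusionSystem S) (Z U : Subgroup Ω) : Prop :=
  ∀ f : Ω → Ω, IsMapOn F U f → (∀ x ∈ U, f x ∈ U) → ∀ x ∈ U, x ∈ Z → f x = x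

theorem good_of_selfmap {F : FusionSystem S} {Z U : Subgroup Ω} {f : Ω → Ω} (hf : IsMapOn F U f)
    (hfU : ∀ x ∈ U, f x ∈ U) (hfix : ∀ x ∈ U, x ∈ Z → f x = x) : Good Z U f := by
  intro x hx
  refine ⟨⟨fun h => ?_, fun h => ?_⟩, hfix x hx⟩
  · have h1 : f (f x) = f x := hfix (f x) (hfU x hx) h
    have h2 : f x = x := hf.injOn (hfU x hx) hx h1
    rwa [h2] at h
  · rw [hfix x hx h]
    exact h

theorem Good.congr {Z P : Subgroup Ω} {f g : Ω → Ω} (h : Good Z P f) (hfg : ∀ x ∈ P, f x = g x) :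
    Good Z P g := by
  intro x hx
  rw [← hfg x hx]
  exact h x hx

theorem Good.mono {Z P R : Subgroup Ω} {f : Ω → Ω} (h : Good Z P f) (hRP : R ≤ P) : Good Z R f :=
  fun x hx => h x (hRP hx)

theorem finite_of_le [Finite S] {P : Subgroup Ω} (hP : P ≤ S) : Finite P :=
  Finite.of_injective (Subgroup.inclusion hP) (Subgroup.inclusion_injective hP)

theorem card_le_of_mapsTo [Finite S] {F : FusionSystem S} {P R : Subgroup Ω} {f : Ω → Ω}
    (hf : IsMapOn F P f) (hR : R ≤ S) (h : ∀ x ∈ P, f x ∈ R) : Nat.card P ≤ Nat.card R := by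
  haveI := finite_of_le hR
  refine Nat.card_le_card_of_injective (fun x : P => (⟨f x, h x x.2⟩ : R)) ?_
  intro a b hab
  exact Subtype.ext (hf.injOn a.2 b.2 (congrArg Subtype.val hab))

theorem card_le_of_isImage [Finite S] {F : FusionSystem S} {P P' : Subgroup Ω} {f : Ω → Ω}
    (hf : IsMapOn F P f) (h : IsImage P f P') : Nat.card P' ≤ Nat.card P := by
  haveI := finite_of_le hf.le
  refine Nat.card_le_card_of_surjective (fun x : P => (⟨f x, h.mem x.2⟩ : P')) ?_
  rintro ⟨y, hy⟩
  obtain ⟨x, hx, rfl⟩ := (h y).1 hy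
  exact ⟨⟨x, hx⟩, rfl⟩

/-- The subsystem of the maps of `F` that are good on sources of order at least `n`. -/
def lev [Finite S] (F : FusionSystem S) (Z : Subgroup Ω)
    (hZ : ∀ z ∈ Z, ∀ s ∈ S, s * z = z * s) (n : ℕ) : FusionSystem S :=
  subsystemOf F (fun P f => n ≤ Nat.card P → Good Z P f)
    (fun {P f g} h hfg hn => (h hn).congr hfg)
    (fun {P a} hP ha _ x hx => by
      have key : ∀ z ∈ Z, a * z * a⁻¹ = z := fun z hz => by
        rw [hZ z hz a ha, mul_inv_cancel_right]
      show (a * x * a⁻¹ ∈ Z ↔ x ∈ Z) ∧ (x ∈ Z → a * x * a⁻¹ = x)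
      refine ⟨⟨fun h => ?_, fun h => ?_⟩, fun h => key x h⟩
      · have h1 := key _ h
        have h2 : a * x * a⁻¹ = x := by
          have h3 : a⁻¹ * (a * (a * x * a⁻¹) * a⁻¹) * a = a⁻¹ * (a * x * a⁻¹) * a := by rw [h1]
          have h4 : a⁻¹ * (a * (a * x * a⁻¹) * a⁻¹) * a = a * x * a⁻¹ := by group
          have h5 : a⁻¹ * (a * x * a⁻¹) * a = x := by group
          rw [h4, h5] at h3
          exact h3
        rwa [h2] at h
      · rw [key x h]
        exact h)
    (fun {P R f g} hf hGf hg hGg hPR hn x hx => by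
      have hn' : n ≤ Nat.card R := hn.trans (card_le_of_mapsTo hf hg.le hPR)
      have h1 := hGf hn x hx
      have h2 := hGg hn' (f x) (hPR x hx)
      refine ⟨?_, fun h => ?_⟩
      · rw [Function.comp_apply, h2.1, h1.1]
      · rw [Function.comp_apply]
        have h3 : f x = x := h1.2 h
        rw [h3]
        have h4 := hGg hn' x (h3 ▸ hPR x hx)
        exact h4.2 h)
    (fun {P P' f g} hf hGf himg hg hgf hn y hy => by
      have hn' : n ≤ Nat.card P := hn.trans (card_le_of_isImage hf himg)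
      obtain ⟨x, hx, rfl⟩ := (himg y).1 hy
      have h1 := hGf hn' x hx
      rw [hgf x hx]
      refine ⟨h1.1.symm, fun h => ?_⟩
      have h2 : x ∈ Z := h1.1.1 h
      exact (h1.2 h2).symm)

theorem isMapOn_lev_iff [Finite S] (F : FusionSystem S) (Z : Subgroup Ω)
    (hZ : ∀ z ∈ Z, ∀ s ∈ S, s * z = z * s) (n : ℕ) (P : Subgroup Ω) (f : Ω → Ω) :
    IsMapOn (lev F Z hZ n) P f ↔ IsMapOn F P f ∧ (n ≤ Nat.card P → Good Z P f) := by
  constructor
  · rintro ⟨φ, ⟨hφ, hG⟩, hφf⟩
    refine ⟨⟨φ, hφ, hφf⟩, fun hn => (hG hn).congr fun x hx => ?_⟩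
    rw [extHom_apply φ hx]
    exact hφf ⟨x, hx⟩
  · rintro ⟨⟨φ, hφ, hφf⟩, hG⟩
    refine ⟨φ, ⟨hφ, fun hn => (hG hn).congr fun x hx => ?_⟩, hφf⟩
    rw [extHom_apply φ hx]
    exact (hφf ⟨x, hx⟩).symm

/-- Alperin's theorem for goodness: if the automorphisms of the fully automized, receptive, centric and radical
subgroups of order at least `n` fix `Z` pointwise, every map of the system on a source of order at least `n` is
good. -/
theorem good_of_autFix [Finite S] {p : ℕ} [Fact p.Prime] (hS : IsPGroup p S) (F : FusionSystem S)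
    (hF : F.IsSaturated p) (Z : Subgroup Ω) (hZ : ∀ z ∈ Z, ∀ s ∈ S, s * z = z * s) (n : ℕ)
    (h : ∀ Q : Subgroup Ω, F.IsFullyAutomized p Q → F.IsReceptive Q → F.IsCentric Q → F.IsRadical p Q →
      n ≤ Nat.card Q → AutFix F Z Q) :
    ∀ (P : Subgroup Ω) (f : Ω → Ω), IsMapOn F P f → n ≤ Nat.card P → Good Z P f := by
  intro P f hf hn
  have key := alperin_frc_isMapOn F hS hF (lev F Z hZ n) ?_ P f hf
  · exact ((isMapOn_lev_iff F Z hZ n P f).1 key).2 hn
  intro Q hQa hQr hQc hQrad α hα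
  rw [isMapOn_lev_iff]
  have hQS : Q ≤ S := hQa.1
  have hα' : IsMapOn F Q (extFun α) := (mem_autGroup_iff F hQS α).1 hα
  refine ⟨hα', fun hnQ => ?_⟩
  exact good_of_selfmap hα' (fun x hx => extFun_mem α hx)
    (h Q hQa hQr hQc hQrad hnQ _ hα' (fun x hx => extFun_mem α hx))

end Cfsg.Agent.Lib.Helper72_FusWC
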