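import Cfsg.Agent.Lib.Helper72_FusWC

/-!
Control of weak closure of elements in saturated fusion systems, generic reduction (helper72), part 2:
the subgroup `uplus F p U` of the elements of `S` inducing on `U` an element of `O_p(Aut_F(U))`; every
automorphism of a fully automized receptive `U` extends to a self-map of `uplus F p U`; if `uplus F p U = U`
then `U` is centric and radical.
-/

set_option autoImplicit false
set_option linter.style.haveILetI false

universe u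

namespace Cfsg.Agent.Lib.Helper72_FusWC

open Cfsg Cfsg.FusionSystem Cfsg.Agent.Lib.Helper87_Alperin Cfsg.Agent.Lib.Helper87_Alperin2
  Cfsg.Agent.Lib.Helper88_Centric Cfsg.Agent.Lib.Helper88_Essential

variable {Ω : Type u} [Group Ω] {S : Subgroup Ω}

theorem mem_normalizer_of_aut {U : Subgroup Ω} (β : MulAut U) (s : Ω)
    (h : ∀ x : U, ((β x : U) : Ω) = s * (x : Ω) * s⁻¹) : s ∈ Subgroup.normalizer (U : Set Ω) := by
  rw [Subgroup.mem_normalizer_iff]
  intro y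
  constructor
  · intro hy
    rw [← h ⟨y, hy⟩]
    exact (β ⟨y, hy⟩).2
  · intro hy
    obtain ⟨z, hz⟩ := β.surjective ⟨s * y * s⁻¹, hy⟩
    have h1 := h z
    rw [hz] at h1
    have h2 : y = (z : Ω) := by
      have h3 : s⁻¹ * (s * y * s⁻¹) * s = s⁻¹ * (s * (z : Ω) * s⁻¹) * s := by
        show s⁻¹ * ((⟨s * y * s⁻¹, hy⟩ : U) : Ω) * s = _
        rw [h1]
      have h4 : s⁻¹ * (s * y * s⁻¹) * s = y := by group
      have h5 : s⁻¹ * (s * (z : Ω) * s⁻¹) * s = (z : Ω) := by group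
      rw [h4, h5] at h3
      exact h3
    rw [h2]
    exact z.2

/-- The elements of `S` inducing on `U` an element of `O_p(Aut_F(U))`. -/
def uplus (F : FusionSystem S) (p : ℕ) (U : Subgroup Ω) : Subgroup Ω where
  carrier := {s | s ∈ S ∧ ∃ β : F.autGroup U, β ∈ pCore p (F.autGroup U) ∧
    ∀ x : U, (((β : MulAut U) x : U) : Ω) = s * (x : Ω) * s⁻¹}
  one_mem' := ⟨S.one_mem, 1, Subgroup.one_mem _, fun x => by simp⟩
  mul_mem' := by
    rintro a b ⟨haS, βa, hβa, ha⟩ ⟨hbS, βb, hβb, hb⟩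
    refine ⟨S.mul_mem haS hbS, βa * βb, Subgroup.mul_mem _ hβa hβb, fun x => ?_⟩
    rw [Subgroup.coe_mul, MulAut.mul_apply, ha, hb]
    group
  inv_mem' := by
    rintro a ⟨haS, β, hβ, ha⟩
    refine ⟨S.inv_mem haS, β⁻¹, Subgroup.inv_mem _ hβ, fun x => ?_⟩
    have h1 := ha ((β : MulAut U)⁻¹ x)
    rw [MulAut.apply_inv_self] at h1
    rw [Subgroup.coe_inv, h1]
    group

theorem mem_uplus {F : FusionSystem S} {p : ℕ} {U : Subgroup Ω} {s : Ω} :
    s ∈ uplus F p U ↔ s ∈ S ∧ ∃ β : F.autGroup U, β ∈ pCore p (F.autGroup U) ∧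
      ∀ x : U, (((β : MulAut U) x : U) : Ω) = s * (x : Ω) * s⁻¹ := Iff.rfl

theorem uplus_le_normalizerIn (F : FusionSystem S) (p : ℕ) (U : Subgroup Ω) :
    uplus F p U ≤ normalizerIn S U := by
  rintro s ⟨hsS, β, -, hβ⟩
  exact ⟨hsS, mem_normalizer_of_aut _ s hβ⟩

theorem le_uplus (F : FusionSystem S) {p : ℕ} [Fact p.Prime] (hS : IsPGroup p S) {U : Subgroup Ω}
    (hU : U ≤ S) : U ≤ uplus F p U := by
  intro u hu
  have h1 : MulAut.conj (⟨u, hu⟩ : U) ∈ Inn U := ⟨_, rfl⟩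
  obtain ⟨β, hβ, hβu⟩ := inn_le_pCore_map F hS hU h1
  refine ⟨hU hu, β, hβ, fun x => ?_⟩
  have : ((β : MulAut U)) = MulAut.conj (⟨u, hu⟩ : U) := hβu
  rw [this]
  simp

theorem centralizerIn_le_uplus (F : FusionSystem S) (p : ℕ) (U : Subgroup Ω) :
    centralizerIn S U ≤ uplus F p U := by
  rintro c ⟨hcS, hcC⟩
  refine ⟨hcS, 1, Subgroup.one_mem _, fun x => ?_⟩
  have := hcC x x.2
  simp only [Subgroup.coe_one, MulAut.one_apply]
  rw [← this, mul_inv_cancel_right]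

/-- `N_S(U)` normalizes `uplus F p U`. -/
theorem conj_mem_uplus [Finite S] (F : FusionSystem S) {p : ℕ} {U : Subgroup Ω} (hU : U ≤ S) {t s : Ω}
    (ht : t ∈ normalizerIn S U) (hs : s ∈ uplus F p U) : t * s * t⁻¹ ∈ uplus F p U := by
  obtain ⟨hsS, β, hβ, hβs⟩ := hs
  have htS : t ∈ S := ht.1
  have htN : ∀ x ∈ U, t * x * t⁻¹ ∈ U := fun x hx => (Subgroup.mem_normalizer_iff.1 ht.2 x).1 hx
  obtain ⟨γ, hγ, hγt⟩ := Cfsg.Agent.Lib.Helper84_KLBasic.exists_aut_of_isMapOn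
    (IsMapOn.conj F hU htS) htN
  have hN : (pCore p (F.autGroup U)).Normal := pCore_normal' p
  have hγ' : ∀ y : U, ((γ y : U) : Ω) = t * (y : Ω) * t⁻¹ := fun y => by
    rw [← extFun_coe, hγt _ y.2]
  have hγinv : ∀ y : U, ((γ⁻¹ y : U) : Ω) = t⁻¹ * (y : Ω) * t := fun y => by
    have h1 := hγ' (γ⁻¹ y)
    rw [MulAut.apply_inv_self] at h1
    rw [h1]
    group
  let g : F.autGroup U := ⟨γ, hγ⟩
  have hmem : g * β * g⁻¹ ∈ pCore p (F.autGroup U) := hN.conj_mem β hβ g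
  refine mem_uplus.2 ⟨S.mul_mem (S.mul_mem htS hsS) (S.inv_mem htS), g * β * g⁻¹, hmem, fun x => ?_⟩
  have h2 : (((g * β * g⁻¹ : F.autGroup U) : MulAut U) x : U) =
      γ ((β : MulAut U) (γ⁻¹ x)) := rfl
  rw [h2, hγ', hβs, hγinv]
  have h3 : ∀ a b c : Ω, a * (b * (a⁻¹ * c * a) * b⁻¹) * a⁻¹ = a * b * a⁻¹ * c * (a * b * a⁻¹)⁻¹ := by
    intro a b c
    group
  exact h3 t s x

/-- Every automorphism of the fully automized receptive subgroup `U` extends to a self-map of `uplus F p U`. -/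
theorem exists_extension_uplus [Finite S] (F : FusionSystem S) {p : ℕ} [Fact p.Prime] {U : Subgroup Ω}
    (hUa : F.IsFullyAutomized p U) (hUr : F.IsReceptive U) {α : MulAut U} (hα : α ∈ F.autGroup U) :
    ∃ a : Ω → Ω, IsMapOn F (uplus F p U) a ∧ (∀ x ∈ U, a x = extFun α x) ∧
      ∀ s ∈ uplus F p U, a s ∈ uplus F p U := by
  have hUS : U ≤ S := hUr.1
  obtain ⟨a, ha, haU⟩ := exists_extension_extender F hUr hα
  obtain ⟨-, R, hR⟩ := hUa
  have hN : (pCore p (F.autGroup U)).Normal := pCore_normal' p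
  -- the conjugate of `β` by `α`
  have hconj : ∀ β : F.autGroup U, β ∈ pCore p (F.autGroup U) →
      ∃ h ∈ S, ∀ x : U, ((((⟨α, hα⟩ : F.autGroup U) * β * (⟨α, hα⟩ : F.autGroup U)⁻¹ : F.autGroup U) :
        MulAut U) x : Ω) = h * (x : Ω) * h⁻¹ := by
    intro β hβ
    have h1 : (⟨α, hα⟩ : F.autGroup U) * β * (⟨α, hα⟩ : F.autGroup U)⁻¹ ∈ pCore p (F.autGroup U) :=
      hN.conj_mem β hβ _
    have h2 := pCore_le_sylow' p R h1
    rw [hR, Subgroup.mem_subgroupOf, mem_autInducedBy_iff] at h2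
    exact h2
  have hle : uplus F p U ≤ extender S U (autHom α) := by
    rintro s ⟨hsS, β, hβ, hβs⟩
    obtain ⟨h, hhS, hh⟩ := hconj β hβ
    refine Subgroup.subset_closure ⟨hsS, mem_normalizer_of_aut _ s hβs, h, hhS, ?_⟩
    intro x hx
    have h1 := hh (α x)
    simp only [Subgroup.coe_mul, Subgroup.coe_inv, MulAut.mul_apply, MulAut.inv_apply_self] at h1
    rw [autHom_apply, autHom_apply, ← h1]
    congr 2
    apply Subtype.ext
    exact (hβs x).symm
  refine ⟨a, ha.mono hle, haU, ?_⟩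
  rintro s ⟨hsS, β, hβ, hβs⟩
  have hsE : s ∈ extender S U (autHom α) := hle ⟨hsS, β, hβ, hβs⟩
  have hUE : U ≤ extender S U (autHom α) := le_extender_autHom hUS α
  refine ⟨ha.mem hsE, (⟨α, hα⟩ : F.autGroup U) * β * (⟨α, hα⟩ : F.autGroup U)⁻¹, hN.conj_mem β hβ _,
    fun x => ?_⟩
  simp only [Subgroup.coe_mul, Subgroup.coe_inv, MulAut.mul_apply]
  -- `x = α y`
  set y : U := α⁻¹ x with hy
  have hxy : (x : Ω) = a (y : Ω) := by
    rw [haU _ y.2, extFun_coe, hy, MulAut.apply_inv_self]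
  have h1 : a s * a (y : Ω) * (a s)⁻¹ = a (s * (y : Ω) * s⁻¹) := by
    rw [ha.map_mul (Subgroup.mul_mem _ hsE (hUE y.2)) (Subgroup.inv_mem _ hsE),
      ha.map_mul hsE (hUE y.2), ha.map_inv hsE]
  rw [hxy, h1, ← hβs y, haU _ (β.1 y).2, extFun_coe]

/-- If `uplus F p U = U` for a fully automized receptive `U`, then `U` is centric and radical. -/
theorem isCentric_isRadical_of_uplus_eq (F : FusionSystem S) {p : ℕ} [Fact p.Prime] (hS : IsPGroup p S)
    {U : Subgroup Ω} (hUa : F.IsFullyAutomized p U) (hUr : F.IsReceptive U) (h : uplus F p U = U) :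
    F.IsCentric U ∧ F.IsRadical p U := by
  constructor
  · exact isCentric_of_receptive F hUr ((centralizerIn_le_uplus F p U).trans h.le)
  · by_contra hrad
    obtain ⟨g, hgS, hgU, β, hβ, hβg⟩ := exists_of_not_radical F hS hUa hrad
    exact hgU (h.le ⟨hgS, β, hβ, hβg⟩)

end Cfsg.Agent.Lib.Helper72_FusWC
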