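import Cfsg.Agent.Lib.Helper72_FusWC2

/-!
Control of weak closure of elements in saturated fusion systems, generic reduction (helper72), part 3:
the main induction.  `Z ≤ S` is centralized by `S`, `W` is an isomorphism-invariant `p`-group functor with
`Z ≤ W(S)`.  If the automorphisms of `W(S)` in `F` fix `Z` pointwise, and for every fully automized, receptive,
centric, radical subgroup `R < S` [the automorphisms of `W(N_S(R))` fix `Z` pointwise ⇒ the automorphisms of `R`
fix `Z` pointwise], then every map of `F` fixes `Z` pointwise (`fixes_all`).  The induction is downwards on the pair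
`(|N_S(U)|, |U|)`, lexicographically, inside the single system `F`.
-/

set_option autoImplicit false
set_option linter.style.haveILetI false

universe u

namespace Cfsg.Agent.Lib.Helper72_FusWC

open Cfsg Cfsg.FusionSystem Cfsg.Agent.Lib.Helper87_Alperin Cfsg.Agent.Lib.Helper87_Alperin2
  Cfsg.Agent.Lib.Helper88_Centric Cfsg.Agent.Lib.Helper88_Essential Cfsg.Agent.Lib.Helper87_GTFunctor

variable {Ω : Type u} [Group Ω] {S : Subgroup Ω}

theorem le_normalizer_of_conj_mem' {K H : Subgroup Ω} (h : ∀ t ∈ K, ∀ s ∈ H, t * s * t⁻¹ ∈ H) :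
    K ≤ Subgroup.normalizer (H : Set Ω) := by
  intro t ht
  rw [Subgroup.mem_normalizer_iff]
  intro s
  constructor
  · exact h t ht s
  · intro hs
    have h1 := h t⁻¹ (K.inv_mem ht) _ hs
    have e : t⁻¹ * (t * s * t⁻¹) * t⁻¹⁻¹ = s := by group
    rwa [e] at h1

/-- `V` is better placed than `U`: larger normalizer in `S`, or at least as large a normalizer and larger order. -/
def Better (S U V : Subgroup Ω) : Prop :=
  Nat.card (normalizerIn S U) < Nat.card (normalizerIn S V) ∨
    (Nat.card (normalizerIn S U) ≤ Nat.card (normalizerIn S V) ∧ Nat.card U < Nat.card V)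

/-- The measure decreasing along `Better`. -/
noncomputable def mu (S U : Subgroup Ω) : ℕ :=
  (Nat.card S - Nat.card (normalizerIn S U)) * (Nat.card S + 1) + (Nat.card S - Nat.card U)

theorem card_le_card_S [Finite S] {P : Subgroup Ω} (hP : P ≤ S) : Nat.card P ≤ Nat.card S :=
  Subgroup.card_le_of_le hP

theorem mu_lt_of_better [Finite S] {U V : Subgroup Ω} (hU : U ≤ S) (hV : V ≤ S) (h : Better S U V) :
    mu S V < mu S U := by
  unfold mu
  have h1 : Nat.card (normalizerIn S U) ≤ Nat.card S := card_le_card_S inf_le_left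
  have h2 : Nat.card (normalizerIn S V) ≤ Nat.card S := card_le_card_S inf_le_left
  have h3 : Nat.card U ≤ Nat.card S := card_le_card_S hU
  have h4 : Nat.card V ≤ Nat.card S := card_le_card_S hV
  set N := Nat.card S
  set a := Nat.card (normalizerIn S U)
  set a' := Nat.card (normalizerIn S V)
  set b := Nat.card U
  set b' := Nat.card V
  rcases h with h | ⟨h5, h6⟩
  · have h7 : N - a' + 1 ≤ N - a := by omega
    have h8 : (N - a' + 1) * (N + 1) ≤ (N - a) * (N + 1) := Nat.mul_le_mul_right _ h7
    have h9 : (N - a' + 1) * (N + 1) = (N - a') * (N + 1) + (N + 1) := by ring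
    omega
  · have h7 : N - a' ≤ N - a := by omega
    have h8 : (N - a') * (N + 1) ≤ (N - a) * (N + 1) := Nat.mul_le_mul_right _ h7
    omega

section main

variable [Finite S] {p : ℕ} [Fact p.Prime] (hS : IsPGroup p S) (F : FusionSystem S)
  (hF : F.IsSaturated p) {W : ∀ (Q : Type u) [Group Q], Subgroup Q} (hW : IsCharPFunctor p W)
  (Z : Subgroup Ω) (hZ : ∀ z ∈ Z, ∀ s ∈ S, s * z = z * s)
  (hZV : Z ≤ inducedFunctor W S)
  (H0 : AutFix F Z (inducedFunctor W S))
  (Hloc : ∀ R : Subgroup Ω, R ≤ S → R ≠ S → F.IsFullyAutomized p R → F.IsReceptive R → F.IsCentric R →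
    F.IsRadical p R → AutFix F Z (inducedFunctor W (normalizerIn S R)) → AutFix F Z R)

include hS hW hZV H0 in
/-- The automorphisms of `S` fix `Z` pointwise. -/
theorem autFix_top : AutFix F Z S := by
  intro f hf hfS x _ hxZ
  have hV : inducedFunctor W S ≤ S := ind_le S
  have himg : ∀ y, y ∈ S ↔ ∃ x ∈ S, f x = y := by
    haveI : Finite S := inferInstance
    intro y
    constructor
    · intro hy
      have hinj : Function.Injective (fun x : S => (⟨f x, hfS x x.2⟩ : S)) := by
        intro a b hab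
        exact Subtype.ext (hf.injOn a.2 b.2 (congrArg Subtype.val hab))
      obtain ⟨x, hx⟩ := (Finite.injective_iff_surjective.1 hinj) ⟨y, hy⟩
      exact ⟨x, x.2, congrArg Subtype.val hx⟩
    · rintro ⟨x, hx, rfl⟩
      exact hfS x hx
  have h1 := ind_image hW hS f (fun x hx y hy => hf.map_mul hx hy)
    (fun x hx y hy hxy => hf.injOn hx hy hxy) himg
  exact H0 f (hf.mono hV) (fun x hx => (h1 _).2 ⟨x, hx, rfl⟩) x (hZV hxZ) hxZ

include hS hW hZV H0 Hloc in
/-- Step 3: the claim for a fully automized receptive subgroup, given the claim for all better placed subgroups. -/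
theorem autFix_of_receptive {U : Subgroup Ω} (hUa : F.IsFullyAutomized p U) (hUr : F.IsReceptive U)
    (IH : ∀ V : Subgroup Ω, V ≤ S → Better S U V → AutFix F Z V) : AutFix F Z U := by
  have hUS : U ≤ S := hUr.1
  by_cases hUne : U = S
  · rw [hUne]
    exact autFix_top hS F hW Z hZV H0
  by_cases hplus : uplus F p U = U
  · -- centric and radical
    obtain ⟨hUc, hUrad⟩ := isCentric_isRadical_of_uplus_eq F hS hUa hUr hplus
    refine Hloc U hUS hUne hUa hUr hUc hUrad ?_
    set T := normalizerIn S U with hT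
    have hTS : T ≤ S := inf_le_left
    by_cases hTeq : T = S
    · rw [hTeq]
      exact H0
    · haveI : Finite T := finite_of_le hTS
      have hTp : IsPGroup p T := hS.to_le hTS
      have hVS : inducedFunctor W T ≤ S := (ind_le T).trans hTS
      refine IH _ hVS (Or.inl ?_)
      have h1 : T < normalizerIn S T := lt_normalizerIn hS hTS hTeq
      have h2 : normalizerIn S T ≤ normalizerIn S (inducedFunctor W T) :=
        inf_le_inf_left S (normalizer_le hW T hTp)
      haveI : Finite (normalizerIn S (inducedFunctor W T)) := finite_of_le inf_le_left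
      exact lt_of_lt_of_le (card_lt_of_lt (lt_of_lt_of_le h1 h2)) le_rfl
  · -- extend to `uplus`
    have hle : U ≤ uplus F p U := le_uplus F hS hUS
    have hlt : U < uplus F p U := lt_of_le_of_ne hle (Ne.symm hplus)
    have hVS : uplus F p U ≤ S := (uplus_le_normalizerIn F p U).trans inf_le_left
    have hN : normalizerIn S U ≤ normalizerIn S (uplus F p U) := by
      refine le_inf inf_le_left ?_
      exact le_normalizer_of_conj_mem' fun t ht s hs => conj_mem_uplus F hUS ht hs
    haveI : Finite (uplus F p U) := finite_of_le hVS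
    haveI : Finite (normalizerIn S (uplus F p U)) := finite_of_le inf_le_left
    have hB : Better S U (uplus F p U) :=
      Or.inr ⟨Subgroup.card_le_of_le hN, card_lt_of_lt hlt⟩
    have hV := IH _ hVS hB
    intro f hf hfU x hx hxZ
    obtain ⟨α, hα, hαf⟩ := Cfsg.Agent.Lib.Helper84_KLBasic.exists_aut_of_isMapOn hf hfU
    obtain ⟨a, ha, haU, haV⟩ := exists_extension_uplus F hUa hUr hα
    rw [← hαf x hx, ← haU x hx]
    exact hV a ha haV x (hle hx) hxZ

include hS hF hW hZ hZV H0 Hloc in
/-- The main induction: the automorphisms in `F` of every subgroup of `S` fix `Z` pointwise. -/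
theorem autFix_all : ∀ U : Subgroup Ω, U ≤ S → AutFix F Z U := by
  intro U
  induction' hn : mu S U using Nat.strong_induction_on with n ih generalizing U
  intro hUS
  have IH : ∀ V : Subgroup Ω, V ≤ S → Better S U V → AutFix F Z V := fun V hV hB =>
    ih (mu S V) (hn ▸ mu_lt_of_better hUS hV hB) V rfl hV
  by_cases hUne : U = S
  · rw [hUne]
    exact autFix_top hS F hW Z hZV H0
  -- a fully automized receptive conjugate
  obtain ⟨U', ⟨φ, hφ, hφr⟩, hU'a, hU'r⟩ := hF U hUS
  have hU'S : U' ≤ S := hU'r.1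
  obtain ⟨α, hα, a, ha, haφ⟩ := exists_extension F hS hU'a hU'r hφ hφr
  set T := normalizerIn S U with hT
  have hTS : T ≤ S := inf_le_left
  have hUT : U ≤ T := le_normalizerIn hUS
  haveI : Finite U := finite_of_le hUS
  haveI : Finite U' := finite_of_le hU'S
  haveI : Finite T := finite_of_le hTS
  have hφU' : ∀ x : U, φ x ∈ U' := fun x => hφr ▸ ⟨x, rfl⟩
  -- `a` maps `U` onto `U'`
  have himg : IsImage U a U' := by
    intro y
    constructor
    · intro hy
      have h1 : extFun α⁻¹ y ∈ φ.range := hφr.ge (extFun_mem _ hy)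
      obtain ⟨x, hx⟩ := h1
      refine ⟨x, x.2, ?_⟩
      rw [haφ x, hx, extFun_apply_inv α hy]
    · rintro ⟨x, hx, rfl⟩
      rw [haφ ⟨x, hx⟩]
      exact extFun_mem α (hφU' _)
  have haU' : ∀ x ∈ U, a x ∈ U' := fun x hx => himg.mem hx
  -- `a` maps `N_S(U)` into `N_S(U')`
  have haN : ∀ t ∈ T, a t ∈ normalizerIn S U' := by
    have key : ∀ t ∈ T, ∀ y ∈ U', a t * y * (a t)⁻¹ ∈ U' := by
      intro t ht y hy
      obtain ⟨x, hx, rfl⟩ := (himg y).1 hy
      have hx' : x ∈ T := hUT hx
      have h1 : a t * a x * (a t)⁻¹ = a (t * x * t⁻¹) := by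
        rw [ha.map_mul (T.mul_mem ht hx') (T.inv_mem ht), ha.map_mul ht hx', ha.map_inv ht]
      rw [h1]
      exact haU' _ ((Subgroup.mem_normalizer_iff.1 ht.2 x).1 hx)
    intro t ht
    refine Subgroup.mem_inf.2 ⟨ha.mem ht, ?_⟩
    rw [Subgroup.mem_normalizer_iff]
    intro y
    constructor
    · exact key t ht y
    · intro hy
      have h1 := key t⁻¹ (T.inv_mem ht) _ hy
      rw [ha.map_inv ht] at h1
      have e : (a t)⁻¹ * (a t * y * (a t)⁻¹) * (a t)⁻¹⁻¹ = y := by group
      rwa [e] at h1
  have hcardN : Nat.card T ≤ Nat.card (normalizerIn S U') := card_le_of_mapsTo ha inf_le_left haN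
  have hcardU : Nat.card U ≤ Nat.card U' := card_le_of_mapsTo (ha.mono hUT) hU'S haU'
  -- goodness of `a`
  have hgood : Good Z T a := by
    refine good_of_autFix hS F hF Z hZ (Nat.card T) ?_ T a ha le_rfl
    intro Q hQa hQr _ _ hnQ
    have hQS : Q ≤ S := hQr.1
    by_cases hQne : Q = S
    · rw [hQne]
      exact autFix_top hS F hW Z hZV H0
    · refine IH Q hQS (Or.inl ?_)
      haveI : Finite (normalizerIn S Q) := finite_of_le inf_le_left
      exact lt_of_le_of_lt hnQ (card_lt_of_lt (lt_normalizerIn hS hQS hQne))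
  -- the claim for `U'`
  have hU' : AutFix F Z U' := by
    refine autFix_of_receptive hS F hW Z hZV H0 Hloc hU'a hU'r ?_
    intro V hV hB
    refine IH V hV ?_
    rcases hB with hB | ⟨hB1, hB2⟩
    · exact Or.inl (lt_of_le_of_lt hcardN hB)
    · exact Or.inr ⟨hcardN.trans hB1, lt_of_le_of_lt hcardU hB2⟩
  -- transport back
  intro f hf hfU x hx hxZ
  obtain ⟨b, hb, hba, hbU, hab⟩ := (ha.mono hUT).inv himg
  have hf' : IsMapOn F U' (a ∘ (f ∘ b)) := by
    refine (hb.comp hf hbU).comp (ha.mono hUT) ?_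
    intro y hy
    exact hfU _ (hbU y hy)
  have hself : ∀ y ∈ U', (a ∘ (f ∘ b)) y ∈ U' := fun y hy => haU' _ (hfU _ (hbU y hy))
  have hax : a x = x := (hgood x (hUT hx)).2 hxZ
  have hxU' : x ∈ U' := hax ▸ haU' x hx
  have h1 := hU' _ hf' hself x hxU' hxZ
  simp only [Function.comp_apply] at h1
  have h2 : b x = x := by
    have := hba x hx
    rwa [hax] at this
  rw [h2] at h1
  -- `a (f x) = x = a x`
  exact ha.injOn (hUT (hfU x hx)) (hUT hx) (h1.trans hax.symm)

include hS hF hW hZ hZV H0 Hloc in
/-- Every map of `F` fixes `Z` pointwise. -/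
theorem fixes_all (P : Subgroup Ω) (f : Ω → Ω) (hf : IsMapOn F P f) : ∀ x ∈ P, x ∈ Z → f x = x := by
  have h := good_of_autFix hS F hF Z hZ 0
    (fun Q _ hQr _ _ _ => autFix_all hS F hF hW Z hZ hZV H0 Hloc Q hQr.1) P f hf (Nat.zero_le _)
  exact fun x hx hxZ => (h x hx).2 hxZ

end main

end Cfsg.Agent.Lib.Helper72_FusWC
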