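import Cfsg.Agent.Lib.Helper72_FusWC3
import Cfsg.Agent.Lib.Helper84_Fusion
import Cfsg.Agent.Lib.Helper87_GTMain

/-!
Control of weak closure of elements in saturated fusion systems (helper72), part 4:

* `isCentral_of_fixes`: in a saturated system, a subgroup `Z ≤ S` fixed pointwise by every map of the system is
  central in the system;
* `IsCentral.exists_fun`, `center_le_center_normalizerSystem`: `Z(F) ≤ Z(N_F(V))`;
* `autFix_center_normalizerSystem`: the automorphisms of `V` in `F` fix `Z(N_F(V))` pointwise when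
  `Z(N_F(V)) ≤ V`.
-/

set_option autoImplicit false
set_option linter.style.haveILetI false

universe u

namespace Cfsg.Agent.Lib.Helper72_FusWC

open Cfsg Cfsg.FusionSystem Cfsg.Agent.Lib.Helper87_Alperin Cfsg.Agent.Lib.Helper87_Alperin2
  Cfsg.Agent.Lib.Helper88_Centric Cfsg.Agent.Lib.Helper88_Essential Cfsg.Agent.Lib.Helper87_GTFunctor
  Cfsg.Agent.Lib.Helper87_PInner

variable {Ω : Type u} [Group Ω] {S : Subgroup Ω}

/-! ### Function forms of centrality -/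

theorem IsCentral.exists_fun {F : FusionSystem S} {Q : Subgroup Ω} (h : F.IsCentral Q) {P : Subgroup Ω}
    {f : Ω → Ω} (hf : IsMapOn F P f) :
    ∃ g : Ω → Ω, IsMapOn F (P ⊔ Q) g ∧ (∀ x ∈ P, g x = f x) ∧ ∀ x ∈ Q, g x = x := by
  obtain ⟨φ, hφ, hφf⟩ := hf
  obtain ⟨ψ, hψ, hψP, hψQ⟩ := h.2 P φ hφ
  refine ⟨extHom ψ, isMapOn_extHom F hψ, fun x hx => ?_, fun x hx => ?_⟩
  · rw [extHom_apply ψ ((le_sup_left : P ≤ P ⊔ Q) hx), ← hφf ⟨x, hx⟩, ← hψP ⟨x, hx⟩]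
    rfl
  · rw [extHom_apply ψ ((le_sup_right : Q ≤ P ⊔ Q) hx)]
    exact hψQ ⟨x, hx⟩

theorem isCentral_of_fun {F : FusionSystem S} {Q : Subgroup Ω} (hQ : Q ≤ S)
    (h : ∀ (P : Subgroup Ω) (f : Ω → Ω), IsMapOn F P f →
      ∃ g : Ω → Ω, IsMapOn F (P ⊔ Q) g ∧ (∀ x ∈ P, g x = f x) ∧ ∀ x ∈ Q, g x = x) : F.IsCentral Q := by
  refine ⟨hQ, fun P φ hφ => ?_⟩
  obtain ⟨g, ⟨ψ, hψ, hψg⟩, hgP, hgQ⟩ := h P (extHom φ) (isMapOn_extHom F hφ)
  refine ⟨ψ, hψ, fun x => ?_, fun x => ?_⟩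
  · rw [hψg]
    show g (x : Ω) = φ x
    rw [hgP x x.2, extHom_coe]
  · rw [hψg]
    exact hgQ x x.2

/-! ### A subgroup fixed by all maps is central -/

/-- In a saturated system, a subgroup of `S` that is fixed pointwise by every map of the system is central. -/
theorem isCentral_of_fixes [Finite S] {p : ℕ} [Fact p.Prime] (F : FusionSystem S) (hF : F.IsSaturated p)
    {Z : Subgroup Ω} (hZS : Z ≤ S)
    (hfix : ∀ (P : Subgroup Ω) (f : Ω → Ω), IsMapOn F P f → ∀ x ∈ P, x ∈ Z → f x = x) :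
    F.IsCentral Z := by
  have hZc : ∀ z ∈ Z, ∀ s ∈ S, s * z * s⁻¹ = z := fun z hz s hs =>
    hfix Z _ (IsMapOn.conj F hZS hs) z hz hz
  refine ⟨hZS, fun P φ hφ => ?_⟩
  have hPS : P ≤ S := hom_le F hφ
  have hφS : ∀ x : P, φ x ∈ S := hom_mem F hφ
  -- the image and a receptive conjugate of it
  have hP'S : φ.range ≤ S := by
    rintro _ ⟨x, rfl⟩
    exact hφS x
  obtain ⟨Q, ⟨χ, hχ, hχr⟩, -, hQr⟩ := hF φ.range hP'S
  have hφP' : ∀ x : P, φ x ∈ φ.range := fun x => ⟨x, rfl⟩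
  set ρ : P →* Ω := χ.comp (φ.codRestrict φ.range hφP') with hρ
  have hρmem : ρ ∈ F.Hom P := F.comp_mem hφ hχ hφP'
  have hρS : ∀ x : P, ρ x ∈ S := hom_mem F hρmem
  have hχS : ∀ x : φ.range, χ x ∈ S := hom_mem F hχ
  have hρr : ρ.range = Q := by
    rw [← hχr]
    ext y
    constructor
    · rintro ⟨x, rfl⟩
      exact ⟨_, rfl⟩
    · rintro ⟨⟨_, x, rfl⟩, rfl⟩
      exact ⟨x, rfl⟩
  obtain ⟨ρ', hρ', hρ'P⟩ := hQr.2 P ρ hρmem hρr
  obtain ⟨χ', hχ', hχ'P⟩ := hQr.2 φ.range χ hχ hχr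
  -- `Z` lies in the centralizers
  have hZcent : ∀ R : Subgroup Ω, R ≤ S → Z ≤ centralizerIn S R := by
    intro R hR z hz
    refine ⟨hZS hz, fun r hr => ?_⟩
    have h1 := hZc z hz r (hR hr)
    calc r * z = r * z * r⁻¹ * r := by group
      _ = z * r := by rw [h1]
  have hD : P ⊔ Z ≤ extender S P ρ :=
    sup_le (Cfsg.Agent.Lib.Helper84_Fusion.le_extender S P ρ hPS hρS)
      ((hZcent P hPS).trans (Cfsg.Agent.Lib.Helper84_Fusion.centralizerIn_le_extender S P ρ))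
  have hD' : φ.range ⊔ Z ≤ extender S φ.range χ :=
    sup_le (Cfsg.Agent.Lib.Helper84_Fusion.le_extender S φ.range χ hP'S hχS)
      ((hZcent _ hP'S).trans (Cfsg.Agent.Lib.Helper84_Fusion.centralizerIn_le_extender S φ.range χ))
  have hr : IsMapOn F (P ⊔ Z) (extHom ρ') := (isMapOn_extHom F hρ').mono hD
  have hc : IsMapOn F (φ.range ⊔ Z) (extHom χ') := (isMapOn_extHom F hχ').mono hD'
  have hrP : ∀ x (hx : x ∈ P), extHom ρ' x = χ ⟨φ ⟨x, hx⟩, ⟨_, rfl⟩⟩ := by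
    intro x hx
    have hxE : x ∈ extender S P ρ := hD ((le_sup_left : P ≤ P ⊔ Z) hx)
    rw [extHom_apply ρ' hxE, hρ'P x hx hxE]
    rfl
  have hcP : ∀ y (hy : y ∈ φ.range), extHom χ' y = χ ⟨y, hy⟩ := by
    intro y hy
    have hyE : y ∈ extender S φ.range χ := hD' ((le_sup_left : φ.range ≤ φ.range ⊔ Z) hy)
    rw [extHom_apply χ' hyE, hχ'P y hy hyE]
  have hrZ : ∀ z ∈ Z, extHom ρ' z = z := fun z hz =>
    hfix _ _ hr z ((le_sup_right : Z ≤ P ⊔ Z) hz) hz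
  have hcZ : ∀ z ∈ Z, extHom χ' z = z := fun z hz =>
    hfix _ _ hc z ((le_sup_right : Z ≤ φ.range ⊔ Z) hz) hz
  -- the image of `c`
  obtain ⟨K, hK, -⟩ := exists_isImage hc
  -- `r` maps `P ⊔ Z` into `K`
  have hrK : ∀ x ∈ P ⊔ Z, extHom ρ' x ∈ K := by
    let ρ'' : ↥(P ⊔ Z) →* Ω := ρ'.comp (Subgroup.inclusion hD)
    have hρ'' : ∀ x : ↥(P ⊔ Z), ρ'' x = extHom ρ' (x : Ω) := fun x =>
      (extHom_apply ρ' (hD x.2)).symm
    have h1 : P.subgroupOf (P ⊔ Z) ≤ K.comap ρ'' := by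
      intro x hx
      rw [Subgroup.mem_comap, hρ'', hrP _ (Subgroup.mem_subgroupOf.1 hx)]
      have h2 : (φ ⟨(x : Ω), Subgroup.mem_subgroupOf.1 hx⟩) ∈ φ.range := ⟨_, rfl⟩
      rw [← hcP _ h2]
      exact hK.mem ((le_sup_left : φ.range ≤ φ.range ⊔ Z) h2)
    have h2 : Z.subgroupOf (P ⊔ Z) ≤ K.comap ρ'' := by
      intro x hx
      have hxZ : (x : Ω) ∈ Z := Subgroup.mem_subgroupOf.1 hx
      rw [Subgroup.mem_comap, hρ'', hrZ _ hxZ, ← hcZ _ hxZ]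
      exact hK.mem ((le_sup_right : Z ≤ φ.range ⊔ Z) hxZ)
    have h3 : (⊤ : Subgroup ↥(P ⊔ Z)) ≤ K.comap ρ'' := by
      rw [← Subgroup.subgroupOf_self (P ⊔ Z), Subgroup.subgroupOf_sup le_sup_left le_sup_right]
      exact sup_le h1 h2
    intro x hx
    have := h3 (Subgroup.mem_top (⟨x, hx⟩ : ↥(P ⊔ Z)))
    rw [Subgroup.mem_comap, hρ''] at this
    exact this
  obtain ⟨cinv, hcinv, hcinv1, -, -⟩ := hc.inv hK
  have hψ : IsMapOn F (P ⊔ Z) (cinv ∘ extHom ρ') := hr.comp hcinv hrK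
  obtain ⟨ψ, hψmem, hψf⟩ := hψ
  refine ⟨ψ, hψmem, fun x => ?_, fun z => ?_⟩
  · rw [hψf]
    show cinv (extHom ρ' (x : Ω)) = φ x
    have h2 : φ x ∈ φ.range := ⟨x, rfl⟩
    rw [hrP _ x.2, ← hcP _ h2]
    exact hcinv1 _ ((le_sup_left : φ.range ≤ φ.range ⊔ Z) h2)
  · rw [hψf]
    show cinv (extHom ρ' (z : Ω)) = z
    have h1 := hcinv1 _ ((le_sup_right : Z ≤ φ.range ⊔ Z) z.2)
    rw [hcZ _ z.2] at h1
    rw [hrZ _ z.2]
    exact h1

end Cfsg.Agent.Lib.Helper72_FusWC
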