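import Cfsg.Agent.Lib.Helper72_FusWC4

/-!
Control of weak closure of elements in saturated fusion systems (helper72), part 5: centres of normalizer
systems.

* `autFix_center_normalizerSystem`: the automorphisms of `V` in `F` fix `Z(N_F(V)) ∩ V` pointwise;
* `center_le_center_normalizerSystem`: `Z(F) ≤ Z(N_F(V))`.
-/

set_option autoImplicit false
set_option linter.style.haveILetI false

universe u

namespace Cfsg.Agent.Lib.Helper72_FusWC

open Cfsg Cfsg.FusionSystem Cfsg.Agent.Lib.Helper87_Alperin Cfsg.Agent.Lib.Helper87_Alperin2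
  Cfsg.Agent.Lib.Helper88_Centric Cfsg.Agent.Lib.Helper88_Essential Cfsg.Agent.Lib.Helper87_GTFunctor
  Cfsg.Agent.Lib.Helper87_PInner

variable {Ω : Type u} [Group Ω] {S : Subgroup Ω}

/-- A self-map of a finite subgroup belonging to the system is onto. -/
theorem isImage_of_selfmap [Finite S] {F : FusionSystem S} {U : Subgroup Ω} {f : Ω → Ω} (hf : IsMapOn F U f)
    (hfU : ∀ x ∈ U, f x ∈ U) : IsImage U f U := by
  haveI : Finite U := finite_of_le hf.le
  intro y
  constructor
  · intro hy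
    have hinj : Function.Injective (fun x : U => (⟨f x, hfU x x.2⟩ : U)) := by
      intro a b hab
      exact Subtype.ext (hf.injOn a.2 b.2 (congrArg Subtype.val hab))
    obtain ⟨x, hx⟩ := (Finite.injective_iff_surjective.1 hinj) ⟨y, hy⟩
    exact ⟨x, x.2, congrArg Subtype.val hx⟩
  · rintro ⟨x, hx, rfl⟩
    exact hfU x hx

/-- The automorphisms of `V` in `F` are maps of the normalizer system of `V`. -/
theorem isNormMapOn_self [Finite S] {F : FusionSystem S} {V : Subgroup Ω} {f : Ω → Ω} (hf : IsMapOn F V f)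
    (hfV : ∀ x ∈ V, f x ∈ V) : IsNormMapOn F V V f := by
  have hVS : V ≤ S := hf.le
  have hVN : V ≤ normalizerIn S V := le_normalizerIn hVS
  exact ⟨hf, hVN, fun x hx => hVN (hfV x hx), f, hf.mono (sup_le le_rfl le_rfl), fun _ _ => rfl,
    isImage_of_selfmap hf hfV⟩

/-- The automorphisms of `V` in `F` fix the elements of `Z(N_F(V))` lying in `V`. -/
theorem autFix_center_normalizerSystem [Finite S] (F : FusionSystem S) {V : Subgroup Ω}
    (N : FusionSystem (normalizerIn S V)) (hN : F.IsNormalizerSystem V N) : AutFix F N.center V := by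
  intro f hf hfV x hx hxZ
  haveI : Finite (normalizerIn S V) := finite_of_le inf_le_left
  have h1 : IsMapOn N V f :=
    (Cfsg.Agent.Lib.Helper87_GTMain.isMapOn_normalizerSystem_iff hN V f).2 (isNormMapOn_self hf hfV)
  obtain ⟨g, -, hgV, hgZ⟩ := IsCentral.exists_fun (Helper85_Fusion.isCentral_center N) h1
  rw [← hgV x hx]
  exact hgZ x hxZ

/-- If `g` maps `V` onto `V` and `d` normalizes `V`, then `g d` normalizes `V`. -/
theorem map_mem_normalizer_fun {F : FusionSystem S} {D V : Subgroup Ω} {g : Ω → Ω} (hg : IsMapOn F D g)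
    (hVD : V ≤ D) (himg : IsImage V g V) {d : Ω} (hd : d ∈ D)
    (hdN : d ∈ Subgroup.normalizer (V : Set Ω)) : g d ∈ Subgroup.normalizer (V : Set Ω) := by
  have key : ∀ e ∈ D, e ∈ Subgroup.normalizer (V : Set Ω) → ∀ v ∈ V, g e * v * (g e)⁻¹ ∈ V := by
    intro e he heN v hv
    obtain ⟨v', hv', rfl⟩ := (himg v).1 hv
    have h1 : g e * g v' * (g e)⁻¹ = g (e * v' * e⁻¹) := by
      rw [hg.map_mul (D.mul_mem he (hVD hv')) (D.inv_mem he), hg.map_mul he (hVD hv'), hg.map_inv he]
    rw [h1]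
    exact himg.mem ((Subgroup.mem_normalizer_iff.1 heN v').1 hv')
  rw [Subgroup.mem_normalizer_iff]
  intro v
  constructor
  · exact key d hd hdN v
  · intro hv
    have h1 := key d⁻¹ (D.inv_mem hd) (Subgroup.inv_mem _ hdN) _ hv
    rw [hg.map_inv hd] at h1
    have e : (g d)⁻¹ * (g d * v * (g d)⁻¹) * (g d)⁻¹⁻¹ = v := by group
    rwa [e] at h1

/-- `Z(F) ≤ Z(N_F(V))` for `V ≤ S`. -/
theorem center_le_center_normalizerSystem [Finite S] (F : FusionSystem S) {V : Subgroup Ω} (hVS : V ≤ S)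
    (N : FusionSystem (normalizerIn S V)) (hN : F.IsNormalizerSystem V N) : F.center ≤ N.center := by
  have hc : F.IsCentral F.center := Helper85_Fusion.isCentral_center F
  have hcS : F.center ≤ S := hc.1
  have hcC : F.center ≤ Subgroup.centralizer (S : Set Ω) := center_le_centralizer F
  have hcN : F.center ≤ normalizerIn S V := by
    intro z hz
    refine Subgroup.mem_inf.2 ⟨hcS hz, ?_⟩
    have hzc : ∀ v ∈ V, z * v * z⁻¹ = v := fun v hv => by
      have := hcC hz v (hVS hv)
      rw [← this, mul_inv_cancel_right]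
    rw [Subgroup.mem_normalizer_iff]
    intro v
    constructor
    · intro hv
      rw [hzc v hv]
      exact hv
    · intro hv
      have h1 := hzc _ hv
      have h2 : z * v * z⁻¹ = v := by
        have h3 : z⁻¹ * (z * (z * v * z⁻¹) * z⁻¹) * z = z⁻¹ * (z * v * z⁻¹) * z := by rw [h1]
        have h4 : z⁻¹ * (z * (z * v * z⁻¹) * z⁻¹) * z = z * v * z⁻¹ := by group
        have h5 : z⁻¹ * (z * v * z⁻¹) * z = v := by group
        rw [h4, h5] at h3
        exact h3
      rwa [h2] at hv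
  have hNc : N.IsCentral F.center := by
    refine isCentral_of_fun hcN fun P f hf => ?_
    obtain ⟨hfF, hPN, hfN, g, hg, hgP, hgV⟩ :=
      (Cfsg.Agent.Lib.Helper87_GTMain.isMapOn_normalizerSystem_iff hN P f).1 hf
    obtain ⟨g₂, hg₂, hg₂g, hg₂Z⟩ := IsCentral.exists_fun hc hg
    have hle1 : P ⊔ F.center ≤ (P ⊔ V) ⊔ F.center :=
      sup_le (le_sup_left.trans le_sup_left) le_sup_right
    have hle2 : (P ⊔ F.center) ⊔ V ≤ (P ⊔ V) ⊔ F.center :=
      sup_le hle1 (le_sup_right.trans le_sup_left)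
    have hVD : V ≤ (P ⊔ V) ⊔ F.center := le_sup_right.trans le_sup_left
    have himg : IsImage V g₂ V := by
      intro y
      rw [hgV y]
      constructor
      · rintro ⟨x, hx, rfl⟩
        exact ⟨x, hx, hg₂g x ((le_sup_right : V ≤ P ⊔ V) hx)⟩
      · rintro ⟨x, hx, rfl⟩
        exact ⟨x, hx, (hg₂g x ((le_sup_right : V ≤ P ⊔ V) hx)).symm⟩
    have hPZN : P ⊔ F.center ≤ normalizerIn S V := sup_le hPN hcN
    refine ⟨g₂, ?_, fun x hx => (hg₂g x ((le_sup_left : P ≤ P ⊔ V) hx)).trans (hgP x hx), hg₂Z⟩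
    refine (Cfsg.Agent.Lib.Helper87_GTMain.isMapOn_normalizerSystem_iff hN _ g₂).2 ?_
    refine ⟨hg₂.mono hle1, hPZN, fun x hx => ?_, g₂, hg₂.mono hle2, fun _ _ => rfl, himg⟩
    exact Subgroup.mem_inf.2 ⟨hg₂.mem (hle1 hx),
      map_mem_normalizer_fun hg₂ hVD himg (hle1 hx) (hPZN hx).2⟩
  exact le_sSup hNc

end Cfsg.Agent.Lib.Helper72_FusWC
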