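import Cfsg.Agent.Lib.Helper87_Alperin
import Cfsg.Agent.Lib.Helper85_Fusion
import Cfsg.Agent.Lib.Helper85_GroupFusion
import Cfsg.Agent.Lib.Helper85_Transport
import Cfsg.Agent.S5118

/-!
Fusion systems realized by a homomorphism `ι : S →* G` (helper87): function-level description of the
maps, construction of maps and automorphisms from elements of `G`, and the subsystem induced by a
normal subgroup `N` of `G` (which is normal in the system when `ι(S)` is a Sylow subgroup).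
-/

set_option autoImplicit false
set_option linter.style.haveILetI false

namespace Cfsg.Agent.Lib.Helper87_Realized

open Cfsg Cfsg.FusionSystem Cfsg.Agent.Lib

variable {Ω : Type*} [Group Ω] {S : Subgroup Ω} {G : Type*} [Group G]

open Classical in
/-- `ι` as a function on the ambient group (junk value `1` outside `S`). -/
noncomputable def J (ι : S →* G) (x : Ω) : G := if h : x ∈ S then ι ⟨x, h⟩ else 1

theorem J_apply (ι : S →* G) {x : Ω} (hx : x ∈ S) : J ι x = ι ⟨x, hx⟩ := by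
  simp only [J]
  rw [dif_pos hx]

theorem J_coe (ι : S →* G) (x : S) : J ι (x : Ω) = ι x := J_apply ι x.2

theorem J_mul (ι : S →* G) {x y : Ω} (hx : x ∈ S) (hy : y ∈ S) :
    J ι (x * y) = J ι x * J ι y := by
  rw [J_apply ι hx, J_apply ι hy, J_apply ι (S.mul_mem hx hy), ← map_mul]
  rfl

theorem J_one (ι : S →* G) : J ι (1 : Ω) = 1 := by
  rw [J_apply ι S.one_mem]
  exact map_one ι

theorem J_inv (ι : S →* G) {x : Ω} (hx : x ∈ S) : J ι x⁻¹ = (J ι x)⁻¹ := by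
  rw [J_apply ι hx, J_apply ι (S.inv_mem hx), ← map_inv]
  rfl

theorem J_conj (ι : S →* G) {g x : Ω} (hg : g ∈ S) (hx : x ∈ S) :
    J ι (g * x * g⁻¹) = J ι g * J ι x * (J ι g)⁻¹ := by
  rw [J_mul ι (S.mul_mem hg hx) (S.inv_mem hg), J_mul ι hg hx, J_inv ι hg]

theorem J_mem_range (ι : S →* G) (x : Ω) : J ι x ∈ ι.range := by
  by_cases hx : x ∈ S
  · rw [J_apply ι hx]; exact ⟨_, rfl⟩
  · simp only [J]; rw [dif_neg hx]; exact ι.range.one_mem

theorem J_injOn {ι : S →* G} (hinj : Function.Injective ι) {x y : Ω} (hx : x ∈ S) (hy : y ∈ S)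
    (h : J ι x = J ι y) : x = y := by
  rw [J_apply ι hx, J_apply ι hy] at h
  exact congrArg Subtype.val (hinj h)

theorem exists_of_mem_range {ι : S →* G} {y : G} (hy : y ∈ ι.range) : ∃ x ∈ S, J ι x = y := by
  obtain ⟨x, rfl⟩ := hy
  exact ⟨x, x.2, J_coe ι x⟩

/-! ### Maps of a realized system -/

variable {F : FusionSystem S} {ι : S →* G}

theorem mem_hom_iff (hr : F.IsRealizedBy ι) {P : Subgroup Ω} (hP : P ≤ S) (φ : P →* Ω) :
    φ ∈ F.Hom P ↔ (∀ x : P, φ x ∈ S) ∧ ∃ g : G, ∀ x : P, J ι (φ x) = g * J ι (x : Ω) * g⁻¹ := by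
  constructor
  · intro hφ
    have hφS : ∀ x : P, φ x ∈ S := (F.le_of_mem hφ).2
    obtain ⟨g, hg⟩ := (hr.2 P hP φ hφS).1 hφ
    refine ⟨hφS, g, fun x => ?_⟩
    rw [J_apply ι (hφS x), J_apply ι (hP x.2)]
    exact hg x
  · rintro ⟨hφS, g, hg⟩
    refine (hr.2 P hP φ hφS).2 ⟨g, fun x => ?_⟩
    rw [← J_apply ι (hφS x), ← J_apply ι (hP x.2)]
    exact hg x

/-- An element of `G` conjugating `ι(P)` into `ι(S)` gives a map of the system. -/
theorem exists_hom_of_conj (hr : F.IsRealizedBy ι) {P : Subgroup Ω} (hP : P ≤ S) (g : G)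
    (h : ∀ x ∈ P, g * J ι x * g⁻¹ ∈ ι.range) :
    ∃ φ ∈ F.Hom P, ∀ x : P, J ι (φ x) = g * J ι (x : Ω) * g⁻¹ := by
  classical
  choose f hfS hf using fun x : P => exists_of_mem_range (h x x.2)
  have hmul : ∀ a b : P, f (a * b) = f a * f b := by
    intro a b
    apply J_injOn hr.1 (hfS _) (S.mul_mem (hfS a) (hfS b))
    rw [J_mul ι (hfS a) (hfS b), hf, hf, hf]
    have : ((a * b : P) : Ω) = (a : Ω) * (b : Ω) := rfl
    rw [this, J_mul ι (hP a.2) (hP b.2)]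
    group
  refine ⟨MonoidHom.mk' f hmul, ?_, fun x => hf x⟩
  rw [mem_hom_iff hr hP]
  exact ⟨fun x => hfS x, g, fun x => hf x⟩

/-- An element of `G` normalizing `ι(P)` gives an automorphism of `P` in the system. -/
theorem exists_aut_of_conj (hr : F.IsRealizedBy ι) {P : Subgroup Ω} (hP : P ≤ S) [Finite P] (g : G)
    (h : ∀ x ∈ P, ∃ y ∈ P, J ι y = g * J ι x * g⁻¹) :
    ∃ α ∈ F.autGroup P, ∀ x : P, J ι ((α x : P) : Ω) = g * J ι (x : Ω) * g⁻¹ := by
  obtain ⟨φ, hφ, hφg⟩ := exists_hom_of_conj hr hP g (fun x hx => by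
    obtain ⟨y, -, hy⟩ := h x hx
    rw [← hy]
    exact J_mem_range ι y)
  have hφS : ∀ x : P, φ x ∈ S := (F.le_of_mem hφ).2
  have hφP : ∀ x : P, φ x ∈ P := by
    intro x
    obtain ⟨y, hy, hyx⟩ := h x x.2
    have : φ x = y := J_injOn hr.1 (hφS x) (hP hy) (by rw [hφg, hyx])
    rw [this]
    exact hy
  have hinj : Function.Injective (φ.codRestrict P hφP) := by
    intro a b hab
    apply F.injective_of_mem hφ
    exact congrArg Subtype.val hab
  have hbij : Function.Bijective (φ.codRestrict P hφP) :=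
    ⟨hinj, Finite.surjective_of_injective hinj⟩
  refine ⟨MulEquiv.ofBijective (φ.codRestrict P hφP) hbij, ?_, fun x => hφg x⟩
  rw [Helper87_Alperin.mem_autGroup_iff' F hP]
  have : P.subtype.comp (MulEquiv.ofBijective (φ.codRestrict P hφP) hbij).toMonoidHom = φ := by
    ext x
    rfl
  rw [this]
  exact hφ

theorem exists_conj_of_aut (hr : F.IsRealizedBy ι) {P : Subgroup Ω} (hP : P ≤ S) {α : MulAut P}
    (hα : α ∈ F.autGroup P) :
    ∃ g : G, ∀ x : P, J ι ((α x : P) : Ω) = g * J ι (x : Ω) * g⁻¹ := by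
  rw [Helper87_Alperin.mem_autGroup_iff' F hP] at hα
  obtain ⟨-, g, hg⟩ := (mem_hom_iff hr hP _).1 hα
  exact ⟨g, fun x => hg x⟩

/-! ### The subsystem induced by a normal subgroup -/

/-- `S ∩ ι⁻¹(N)` as a subgroup of the ambient group. -/
def subT (ι : S →* G) (N : Subgroup G) : Subgroup Ω := (N.comap ι).map S.subtype

theorem mem_subT {N : Subgroup G} {x : Ω} : x ∈ subT ι N ↔ x ∈ S ∧ J ι x ∈ N := by
  constructor
  · rintro ⟨y, hy, rfl⟩
    refine ⟨y.2, ?_⟩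
    show J ι (y : Ω) ∈ N
    rw [J_coe]
    exact hy
  · rintro ⟨hx, h⟩
    refine ⟨⟨x, hx⟩, ?_, rfl⟩
    rw [J_apply ι hx] at h
    exact h

theorem subT_le (ι : S →* G) (N : Subgroup G) : subT ι N ≤ S := fun _ hx => (mem_subT.1 hx).1

/-- The subsystem of `F` over `S ∩ ι⁻¹(N)` of the maps induced by elements of `N`. -/
def subSystem (F : FusionSystem S) (ι : S →* G) (N : Subgroup G) [hN : N.Normal] :
    FusionSystem (subT ι N) where
  Hom P := {φ | φ ∈ F.Hom P ∧ P ≤ subT ι N ∧ ∃ n ∈ N, ∀ x : P, J ι (φ x) = n * J ι (x : Ω) * n⁻¹}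
  le_of_mem := by
    rintro P φ ⟨hφ, hP, n, hn, hφn⟩
    refine ⟨hP, fun x => mem_subT.2 ⟨(F.le_of_mem hφ).2 x, ?_⟩⟩
    rw [hφn]
    exact hN.conj_mem _ (mem_subT.1 (hP x.2)).2 n
  injective_of_mem := fun h => F.injective_of_mem h.1
  conj_mem := by
    intro P g hP hg
    have hgS : g ∈ S := (mem_subT.1 hg).1
    refine ⟨F.conj_mem (hP.trans (subT_le ι N)) hgS, hP, J ι g, (mem_subT.1 hg).2, fun x => ?_⟩
    exact J_conj ι hgS (subT_le ι N (hP x.2))
  comp_mem := by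
    rintro P Q φ ψ ⟨hφ, hP, n, hn, hφn⟩ ⟨hψ, hQ, m, hm, hψm⟩ h
    refine ⟨F.comp_mem hφ hψ h, hP, m * n, N.mul_mem hm hn, fun x => ?_⟩
    show J ι (ψ ⟨φ x, h x⟩) = _
    rw [hψm ⟨φ x, h x⟩]
    show m * J ι (φ x) * m⁻¹ = _
    rw [hφn]
    group
  inv_mem := by
    rintro P φ ⟨hφ, hP, n, hn, hφn⟩
    obtain ⟨ψ, hψ, hψφ⟩ := F.inv_mem hφ
    have hφT : ∀ x : P, φ x ∈ subT ι N := by
      intro x
      refine mem_subT.2 ⟨(F.le_of_mem hφ).2 x, ?_⟩
      rw [hφn]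
      exact hN.conj_mem _ (mem_subT.1 (hP x.2)).2 n
    refine ⟨ψ, ⟨hψ, ?_, n⁻¹, N.inv_mem hn, ?_⟩, hψφ⟩
    · rintro _ ⟨x, rfl⟩
      exact hφT x
    · rintro ⟨_, x, rfl⟩
      rw [hψφ x]
      show J ι (x : Ω) = n⁻¹ * J ι (φ x) * n⁻¹⁻¹
      rw [hφn]
      group

theorem mem_subSystem_hom (F : FusionSystem S) (ι : S →* G) (N : Subgroup G) [N.Normal]
    {P : Subgroup Ω} (φ : P →* Ω) :
    φ ∈ (subSystem F ι N).Hom P ↔
      φ ∈ F.Hom P ∧ P ≤ subT ι N ∧ ∃ n ∈ N, ∀ x : P, J ι (φ x) = n * J ι (x : Ω) * n⁻¹ := Iff.rfl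

/-- The restriction of `ι` to `S ∩ ι⁻¹(N)`, with values in `N`. -/
def subHom (ι : S →* G) (N : Subgroup G) : ↥(subT ι N) →* ↥N where
  toFun x := ⟨ι ⟨x, subT_le ι N x.2⟩, by
    have := (mem_subT.1 x.2).2
    rwa [J_apply ι (subT_le ι N x.2)] at this⟩
  map_one' := Subtype.ext (map_one ι)
  map_mul' a b := Subtype.ext (by
    show ι ⟨(a : Ω) * (b : Ω), _⟩ = ι ⟨a, _⟩ * ι ⟨b, _⟩
    rw [← map_mul]
    rfl)

theorem coe_subHom (ι : S →* G) (N : Subgroup G) (x : ↥(subT ι N)) :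
    ((subHom ι N x : ↥N) : G) = J ι (x : Ω) := (J_apply ι (subT_le ι N x.2)).symm

theorem subSystem_isRealizedBy (hr : F.IsRealizedBy ι) (N : Subgroup G) [N.Normal] :
    (subSystem F ι N).IsRealizedBy (subHom ι N) := by
  refine ⟨?_, ?_⟩
  · intro a b hab
    apply Subtype.ext
    apply J_injOn hr.1 (subT_le ι N a.2) (subT_le ι N b.2)
    rw [← coe_subHom, ← coe_subHom, hab]
  · intro P hP φ hφT
    rw [mem_subSystem_hom]
    constructor
    · rintro ⟨-, -, n, hn, hφn⟩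
      refine ⟨⟨n, hn⟩, fun x => ?_⟩
      apply Subtype.ext
      rw [coe_subHom]
      show J ι (φ x) = n * ((subHom ι N ⟨x, hP x.2⟩ : ↥N) : G) * n⁻¹
      rw [coe_subHom]
      exact hφn x
    · rintro ⟨g, hg⟩
      have key : ∀ x : P, J ι (φ x) = (g : G) * J ι (x : Ω) * (g : G)⁻¹ := by
        intro x
        have h1 : ((subHom ι N ⟨φ x, hφT x⟩ : ↥N) : G) =
            (g : G) * ((subHom ι N ⟨x, hP x.2⟩ : ↥N) : G) * (g : G)⁻¹ :=
          congrArg Subtype.val (hg x)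
        rw [coe_subHom, coe_subHom] at h1
        exact h1
      refine ⟨?_, hP, g, g.2, key⟩
      rw [mem_hom_iff hr (hP.trans (subT_le ι N))]
      exact ⟨fun x => subT_le ι N (hφT x), g, key⟩

/-- Images of joins under `J`. -/
theorem J_mem_sup {A B : Subgroup Ω} (hA : A ≤ S) (hB : B ≤ S) {A' B' : Subgroup G}
    (hAA : ∀ x ∈ A, J ι x ∈ A') (hBB : ∀ x ∈ B, J ι x ∈ B') :
    ∀ x ∈ A ⊔ B, J ι x ∈ A' ⊔ B' := by
  intro x hx
  have hS : A ⊔ B ≤ S := sup_le hA hB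
  have key : x ∈ S ∧ J ι x ∈ A' ⊔ B' := by
    rw [Subgroup.sup_eq_closure] at hx
    induction hx using Subgroup.closure_induction with
    | mem z hz =>
      rcases hz with hz | hz
      · exact ⟨hA hz, Subgroup.mem_sup_left (hAA z hz)⟩
      · exact ⟨hB hz, Subgroup.mem_sup_right (hBB z hz)⟩
    | one => exact ⟨S.one_mem, by rw [J_one]; exact Subgroup.one_mem _⟩
    | mul a b _ _ ha hb =>
      exact ⟨S.mul_mem ha.1 hb.1, by rw [J_mul ι ha.1 hb.1]; exact Subgroup.mul_mem _ ha.2 hb.2⟩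
    | inv a _ ha =>
      exact ⟨S.inv_mem ha.1, by rw [J_inv ι ha.1]; exact Subgroup.inv_mem _ ha.2⟩
  exact key.2

theorem exists_J_eq_of_mem_sup {A B : Subgroup Ω} (hA : A ≤ S) (hB : B ≤ S) {A' B' : Subgroup G}
    (hAA : ∀ y ∈ A', ∃ x ∈ A, J ι x = y) (hBB : ∀ y ∈ B', ∃ x ∈ B, J ι x = y) :
    ∀ y ∈ A' ⊔ B', ∃ x ∈ A ⊔ B, J ι x = y := by
  intro y hy
  have hS : A ⊔ B ≤ S := sup_le hA hB
  rw [Subgroup.sup_eq_closure] at hy
  induction hy using Subgroup.closure_induction with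
  | mem z hz =>
    rcases hz with hz | hz
    · obtain ⟨x, hx, hxz⟩ := hAA z hz
      exact ⟨x, Subgroup.mem_sup_left hx, hxz⟩
    · obtain ⟨x, hx, hxz⟩ := hBB z hz
      exact ⟨x, Subgroup.mem_sup_right hx, hxz⟩
  | one => exact ⟨1, Subgroup.one_mem _, J_one ι⟩
  | mul a b _ _ ha hb =>
    obtain ⟨x, hx, rfl⟩ := ha
    obtain ⟨z, hz, rfl⟩ := hb
    exact ⟨x * z, Subgroup.mul_mem _ hx hz, J_mul ι (hS hx) (hS hz)⟩
  | inv a _ ha =>
    obtain ⟨x, hx, rfl⟩ := ha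
    exact ⟨x⁻¹, Subgroup.inv_mem _ hx, J_inv ι (hS hx)⟩

theorem subHom_range (Sy : Subgroup G) (hSy : Sy = ι.range) (N : Subgroup G) :
    (subHom ι N).range = (Sy ⊓ N).subgroupOf N := by
  ext y
  rw [Subgroup.mem_subgroupOf]
  constructor
  · rintro ⟨x, rfl⟩
    refine ⟨?_, (subHom ι N x).2⟩
    rw [hSy, coe_subHom]
    exact J_mem_range ι _
  · rintro ⟨h1, -⟩
    rw [hSy] at h1
    obtain ⟨x, hxS, hx⟩ := exists_of_mem_range h1
    have hxT : x ∈ subT ι N := mem_subT.2 ⟨hxS, by rw [hx]; exact y.2⟩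
    refine ⟨⟨x, hxT⟩, ?_⟩
    apply Subtype.ext
    rw [coe_subHom]
    exact hx

section Sylow

variable [Finite G] {p : ℕ} [Fact p.Prime]

theorem subSystem_isSaturated [Finite S] (hr : F.IsRealizedBy ι) (Sy : Sylow p G)
    (hSy : (Sy : Subgroup G) = ι.range) (N : Subgroup G) [hN : N.Normal] :
    (subSystem F ι N).IsSaturated p := by
  have hsylN : Helper85_GroupFusion.IsSylowIn p ((Sy : Subgroup G) ⊓ N) N :=
    (Helper85_GroupFusion.isSylowIn_of_sylow_le Sy le_top).inf_normal le_top le_top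
      Subgroup.le_normalizer_of_normal
  obtain ⟨R, hR⟩ := hsylN
  haveI : Finite ↥(subT ι N) := Helper84_FusionRS.finite_of_le_S (subT_le ι N)
  refine Helper85_Transport.isSaturated_of_isRealizedBy (subSystem_isRealizedBy hr N) R ?_
  rw [hR, subHom_range (Sy : Subgroup G) hSy N]

/-- The subsystem induced by a normal subgroup `N` of `G` is normal in the system realized by `G`
on a Sylow subgroup. -/
theorem subSystem_isNormalIn [Finite S] (hF : F.IsSaturated p) (hr : F.IsRealizedBy ι) (Sy : Sylow p G)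
    (hSy : (Sy : Subgroup G) = ι.range) (N : Subgroup G) [hN : N.Normal] :
    (subSystem F ι N).IsNormalIn F p := by
  classical
  have hTS : subT ι N ≤ S := subT_le ι N
  haveI : Finite ↥(subT ι N) := Helper84_FusionRS.finite_of_le_S hTS
  -- correspondence between `T` and `T' = Sy ⊓ N`
  have f1 : ∀ x ∈ subT ι N, J ι x ∈ (Sy : Subgroup G) ⊓ N := by
    intro x hx
    refine ⟨?_, (mem_subT.1 hx).2⟩
    rw [hSy]
    exact J_mem_range ι x
  have f1' : ∀ y ∈ (Sy : Subgroup G) ⊓ N, ∃ x ∈ subT ι N, J ι x = y := by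
    rintro y ⟨hy1, hy2⟩
    rw [hSy] at hy1
    obtain ⟨x, hxS, rfl⟩ := exists_of_mem_range hy1
    exact ⟨x, mem_subT.2 ⟨hxS, hy2⟩, rfl⟩
  have hsylN : Helper85_GroupFusion.IsSylowIn p ((Sy : Subgroup G) ⊓ N) N :=
    (Helper85_GroupFusion.isSylowIn_of_sylow_le Sy le_top).inf_normal le_top le_top
      Subgroup.le_normalizer_of_normal
  obtain ⟨R, hR⟩ := hsylN
  refine ⟨⟨subSystem_isSaturated hr Sy hSy N, hF, ?_, ?_, ?_, ?_⟩, ?_⟩
  · -- subsystem
    exact fun P φ h => h.1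
  · -- strongly closed
    refine ⟨hTS, ?_⟩
    intro Q hQ φ hφ x
    have hQS : Q ≤ S := hQ.trans hTS
    obtain ⟨hφS, g, hg⟩ := (mem_hom_iff hr hQS φ).1 hφ
    refine mem_subT.2 ⟨hφS x, ?_⟩
    rw [hg]
    exact hN.conj_mem _ (mem_subT.1 (hQ x.2)).2 g
  · -- invariance
    rintro P hPT φ ⟨hφ, -, n, hn, hφn⟩ α hα
    obtain ⟨g, hg⟩ := exists_conj_of_aut hr hTS hα
    have hφT : ∀ x : P, φ x ∈ subT ι N := by
      intro x
      refine mem_subT.2 ⟨(F.le_of_mem hφ).2 x, ?_⟩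
      rw [hφn]
      exact hN.conj_mem _ (mem_subT.1 (hPT x.2)).2 n
    set P₂ : Subgroup Ω := (P.subgroupOf (subT ι N)).map
      ((subT ι N).subtype.comp α.toMonoidHom) with hP₂
    have hP₂mem : ∀ y ∈ P₂, ∃ (x : Ω) (hx : x ∈ P), y = ((α ⟨x, hPT hx⟩ : ↥(subT ι N)) : Ω) := by
      rintro _ ⟨⟨x, hxT⟩, hx, rfl⟩
      exact ⟨x, Subgroup.mem_subgroupOf.1 hx, rfl⟩
    have hP₂T : P₂ ≤ subT ι N := by
      intro y hy
      obtain ⟨x, hx, rfl⟩ := hP₂mem y hy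
      exact (α _).2
    have hkey : ∀ (x : Ω) (hx : x ∈ P),
        g * n * g⁻¹ * J ι ((α ⟨x, hPT hx⟩ : ↥(subT ι N)) : Ω) * (g * n * g⁻¹)⁻¹ =
          J ι ((α ⟨φ ⟨x, hx⟩, hφT ⟨x, hx⟩⟩ : ↥(subT ι N)) : Ω) := by
      intro x hx
      rw [hg, hg]
      show g * n * g⁻¹ * (g * J ι x * g⁻¹) * (g * n * g⁻¹)⁻¹ = g * J ι (φ ⟨x, hx⟩) * g⁻¹
      rw [hφn ⟨x, hx⟩]
      group
    obtain ⟨χ, hχ, hχk⟩ := exists_hom_of_conj hr (hP₂T.trans hTS) (g * n * g⁻¹) (by
      intro y hy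
      obtain ⟨x, hx, rfl⟩ := hP₂mem y hy
      rw [hkey x hx]
      exact J_mem_range ι _)
    refine ⟨χ, ⟨hχ, hP₂T, g * n * g⁻¹, hN.conj_mem n hn g, hχk⟩, ?_⟩
    intro x hφx hαx
    apply J_injOn hr.1 ((F.le_of_mem hχ).2 _) (hTS (α _).2)
    rw [hχk]
    exact hkey x x.2
  · -- Frattini condition
    intro P hPT φ hφ
    have hPS : P ≤ S := hPT.trans hTS
    obtain ⟨hφS, g, hg⟩ := (mem_hom_iff hr hPS φ).1 hφ
    have hfr : Subgroup.normalizer ((((Sy : Subgroup G) ⊓ N : Subgroup G)) : Set G) ⊔ N = ⊤ := by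
      have := Sylow.normalizer_sup_eq_top R
      rwa [hR, Subgroup.subgroupOf_map_subtype, inf_eq_left.2 inf_le_right] at this
    have hg' : g ∈ Subgroup.normalizer ((((Sy : Subgroup G) ⊓ N : Subgroup G)) : Set G) ⊔ N := by
      rw [hfr]; exact Subgroup.mem_top g
    obtain ⟨m, hmN, h, hhN, rfl⟩ := Subgroup.mem_sup_of_normal_right.1 hg'
    obtain ⟨α, hα, hαm⟩ := exists_aut_of_conj hr hTS m (by
      intro x hx
      exact f1' _ ((Subgroup.mem_normalizer_iff.1 hmN _).1 (f1 x hx)))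
    have hφx' : ∀ x : P, J ι (φ x) ∈ (Sy : Subgroup G) ⊓ N := by
      intro x
      refine ⟨?_, ?_⟩
      · rw [hSy]; exact J_mem_range ι _
      · rw [hg]
        exact hN.conj_mem _ (mem_subT.1 (hPT x.2)).2 _
    have hh : ∀ x : P, h * J ι (x : Ω) * h⁻¹ = m⁻¹ * J ι (φ x) * m⁻¹⁻¹ := by
      intro x
      rw [hg]
      group
    obtain ⟨φ₀, hφ₀, hφ₀h⟩ := exists_hom_of_conj hr hPS h (by
      intro x hx
      rw [hh ⟨x, hx⟩, ← hSy]
      exact ((Subgroup.mem_normalizer_iff.1 (Subgroup.inv_mem _ hmN) _).1 (hφx' ⟨x, hx⟩)).1)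
    refine ⟨α, hα, φ₀, ⟨hφ₀, hPT, h, hhN, hφ₀h⟩, ?_⟩
    intro x hx
    apply J_injOn hr.1 (hφS x) (hTS (α _).2)
    rw [hαm]
    show J ι (φ x) = m * J ι (φ₀ x) * m⁻¹
    rw [hφ₀h, hg]
    group
  · -- extension condition
    intro α hα
    rw [Helper87_Alperin.mem_autGroup_iff' _ le_rfl] at hα
    obtain ⟨-, -, n, hn, hαn⟩ := hα
    have hαn' : ∀ x : ↥(subT ι N), J ι ((α x : ↥(subT ι N)) : Ω) = n * J ι (x : Ω) * n⁻¹ := hαn
    have hnN : n ∈ Subgroup.normalizer ((((Sy : Subgroup G) ⊓ N : Subgroup G)) : Set G) := by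
      rw [Subgroup.mem_normalizer_iff]
      intro y
      constructor
      · intro hy
        obtain ⟨x, hx, rfl⟩ := f1' y hy
        rw [← hαn' ⟨x, hx⟩]
        exact f1 _ (α _).2
      · intro hy
        obtain ⟨x, hx, hxy⟩ := f1' _ hy
        have h1 := hαn' (α.symm ⟨x, hx⟩)
        rw [MulEquiv.apply_symm_apply] at h1
        have h2 : y = J ι ((α.symm ⟨x, hx⟩ : ↥(subT ι N)) : Ω) := by
          have : n * y * n⁻¹ = n * J ι ((α.symm ⟨x, hx⟩ : ↥(subT ι N)) : Ω) * n⁻¹ := by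
            rw [← h1, hxy]
          exact mul_left_cancel (mul_right_cancel this)
        rw [h2]
        exact f1 _ (α.symm _).2
    obtain ⟨c, hcN, hcC, hcn⟩ := Cfsg.Agent.S5118.exists_extension_elt Sy N hN n hn hnN
    -- correspondence of centralizers
    have c1 : ∀ x ∈ centralizerIn S (subT ι N),
        J ι x ∈ centralizerIn (Sy : Subgroup G) ((Sy : Subgroup G) ⊓ N) := by
      intro x hx
      have hxS : x ∈ S := hx.1
      have hxC : x ∈ Subgroup.centralizer ((subT ι N : Subgroup Ω) : Set Ω) := hx.2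
      refine ⟨by rw [hSy]; exact J_mem_range ι x, ?_⟩
      show J ι x ∈ Subgroup.centralizer ((((Sy : Subgroup G) ⊓ N : Subgroup G)) : Set G)
      rw [Subgroup.mem_centralizer_iff]
      intro y hy
      obtain ⟨t, ht, rfl⟩ := f1' y hy
      rw [← J_mul ι (hTS ht) hxS, ← J_mul ι hxS (hTS ht),
        (Subgroup.mem_centralizer_iff.1 hxC) t ht]
    have c2 : ∀ y ∈ centralizerIn (Sy : Subgroup G) ((Sy : Subgroup G) ⊓ N),
        ∃ x ∈ centralizerIn S (subT ι N), J ι x = y := by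
      intro y hy
      have hy1 : y ∈ (Sy : Subgroup G) := hy.1
      have hy2 : y ∈ Subgroup.centralizer ((((Sy : Subgroup G) ⊓ N : Subgroup G)) : Set G) := hy.2
      rw [hSy] at hy1
      obtain ⟨x, hxS, rfl⟩ := exists_of_mem_range hy1
      refine ⟨x, ⟨hxS, ?_⟩, rfl⟩
      show x ∈ Subgroup.centralizer ((subT ι N : Subgroup Ω) : Set Ω)
      rw [Subgroup.mem_centralizer_iff]
      intro t ht
      apply J_injOn hr.1 (S.mul_mem (hTS ht) hxS) (S.mul_mem hxS (hTS ht))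
      rw [J_mul ι (hTS ht) hxS, J_mul ι hxS (hTS ht)]
      exact (Subgroup.mem_centralizer_iff.1 hy2) _ (f1 t ht)
    have hCS : centralizerIn S (subT ι N) ≤ S := inf_le_left
    have hDS : subT ι N ⊔ centralizerIn S (subT ι N) ≤ S := sup_le hTS hCS
    haveI : Finite ↥(subT ι N ⊔ centralizerIn S (subT ι N)) := Helper84_FusionRS.finite_of_le_S hDS
    have d1 := J_mem_sup (ι := ι) hTS hCS f1 c1
    have d2 := exists_J_eq_of_mem_sup (ι := ι) hTS hCS f1' c2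
    obtain ⟨β, hβ, hβc⟩ := exists_aut_of_conj hr hDS (c * n) (by
      intro x hx
      exact d2 _ ((Subgroup.mem_normalizer_iff.1 hcn _).1 (d1 x hx)))
    refine ⟨β, hβ, ?_, ?_⟩
    · intro x
      apply J_injOn hr.1 (hDS (β _).2) (hTS (α x).2)
      rw [hβc]
      show c * n * J ι (x : Ω) * (c * n)⁻¹ = _
      have h1 : n * J ι (x : Ω) * n⁻¹ ∈ (Sy : Subgroup G) ⊓ N := by
        rw [← hαn' x]; exact f1 _ (α x).2
      have h2 := (Subgroup.mem_centralizer_iff.1 hcC) _ h1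
      rw [hαn' x]
      calc c * n * J ι (x : Ω) * (c * n)⁻¹ = c * (n * J ι (x : Ω) * n⁻¹) * c⁻¹ := by group
        _ = (n * J ι (x : Ω) * n⁻¹) * c * c⁻¹ := by rw [h2]
        _ = n * J ι (x : Ω) * n⁻¹ := by group
    · intro c₀ hc₀
      have hc₀S : (c₀ : Ω) ∈ S := hc₀.1
      have hβS : ((β c₀ : ↥(subT ι N ⊔ centralizerIn S (subT ι N))) : Ω) ∈ S := hDS (β c₀).2
      have hJβ : J ι ((β c₀ : ↥(subT ι N ⊔ centralizerIn S (subT ι N))) : Ω) =
          c * n * J ι (c₀ : Ω) * (c * n)⁻¹ := hβc c₀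
      have hcnN : c * n ∈ N := N.mul_mem hcN hn
      refine ⟨mem_subT.2 ⟨S.mul_mem (S.inv_mem hc₀S) hβS, ?_⟩, ?_⟩
      · rw [J_mul ι (S.inv_mem hc₀S) hβS, J_inv ι hc₀S, hJβ]
        have h3 : (J ι (c₀ : Ω))⁻¹ * (c * n * J ι (c₀ : Ω) * (c * n)⁻¹) =
            ((J ι (c₀ : Ω))⁻¹ * (c * n) * (J ι (c₀ : Ω))⁻¹⁻¹) * (c * n)⁻¹ := by group
        rw [h3]
        exact N.mul_mem (hN.conj_mem _ hcnN _) (N.inv_mem hcnN)
      · refine Subgroup.mul_mem _ (Subgroup.inv_mem _ hc₀.2) ?_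
        rw [Subgroup.mem_centralizer_iff]
        intro t ht
        apply J_injOn hr.1 (S.mul_mem (hTS ht) hβS) (S.mul_mem hβS (hTS ht))
        rw [J_mul ι (hTS ht) hβS, J_mul ι hβS (hTS ht), hJβ]
        have hcnT : c * n ∈ Subgroup.normalizer ((((Sy : Subgroup G) ⊓ N : Subgroup G)) : Set G) :=
          Subgroup.mul_mem _ (Subgroup.centralizer_le_normalizer _ hcC) hnN
        have h4 : c * n * J ι (c₀ : Ω) * (c * n)⁻¹ ∈
            Subgroup.centralizer ((((Sy : Subgroup G) ⊓ N : Subgroup G)) : Set G) :=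
          (Subgroup.mem_normalizer_iff.1
            (Helper85_GroupFusion.normalizer_le_normalizer_centralizer _ hcnT) _).1 (c1 _ hc₀).2
        exact (Subgroup.mem_centralizer_iff.1 h4) _ (f1 t ht)

end Sylow

end Cfsg.Agent.Lib.Helper87_Realized
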