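import Cfsg.Agent.Lib.Helper72_FusWC5
import Cfsg.Agent.Lib.Helper88_Model
import Cfsg.Agent.Lib.Helper87_Realized
import Cfsg.Agent.S5090
import Cfsg.Agent.S5098
import Cfsg.Agent.S5301

/-!
Control of weak closure of elements in saturated fusion systems (helper72), part 6: the model step.

For a fully automized, receptive, centric and radical subgroup `R` of the saturated system `F`, the normalizer
system `N_F(R)` over `T = N_S(R)` has a model `L` (`ι : T →* L`, `ι(T)` Sylow, `O_p(L) = ι(R)`).  If the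
automorphisms in `F` of `W(T)` fix `Z` pointwise, then `N_L(W(ι T))` centralizes `ι(Z)`; so a group-theoretic
statement `hgrp` ("an element of `O_p(L)` centralized by `N_L(W(T'))` is central in `L`", for the elements in
question) shows that the automorphisms of `R` in `F` fix `Z` pointwise (`autFix_of_model`).
`weakClosure_of_group` assembles the reduction.
-/

set_option autoImplicit false
set_option linter.style.haveILetI false

universe u

namespace Cfsg.Agent.Lib.Helper72_FusWC

open Cfsg Cfsg.FusionSystem Cfsg.Agent.Lib.Helper87_Alperin Cfsg.Agent.Lib.Helper87_Alperin2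
  Cfsg.Agent.Lib.Helper88_Centric Cfsg.Agent.Lib.Helper88_Essential Cfsg.Agent.Lib.Helper87_GTFunctor
  Cfsg.Agent.Lib.Helper87_PInner Cfsg.Agent.Lib.Helper87_Realized Cfsg.Agent.Lib.Helper88_Model

variable {Ω : Type u} [Group Ω] {S : Subgroup Ω}

/-- The centre of a finite `p`-subgroup `T` lies in `W(T)` when `W` contains centres. -/
theorem center_le_ind {p : ℕ} {W : ∀ (Q : Type u) [Group Q], Subgroup Q}
    (hWZ : ∀ (Q : Type u) [Group Q] [Finite Q], IsPGroup p Q → Subgroup.center Q ≤ W Q)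
    {G : Type u} [Group G] (T : Subgroup G) [Finite T] (hT : IsPGroup p T) {x : G} (hx : x ∈ T)
    (hc : ∀ t ∈ T, t * x = x * t) : x ∈ inducedFunctor W T := by
  have h1 : (⟨x, hx⟩ : T) ∈ Subgroup.center T := by
    rw [Subgroup.mem_center_iff]
    intro t
    exact Subtype.ext (hc t t.2)
  exact (mem_ind_iff T ⟨x, hx⟩).2 (hWZ T hT h1)

/-- The model step. -/
theorem autFix_of_model [Finite S] {p : ℕ} [Fact p.Prime] (hS : IsPGroup p S) (F : FusionSystem S)
    (hF : F.IsSaturated p) {W : ∀ (Q : Type u) [Group Q], Subgroup Q} (hW : IsCharPFunctor p W)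
    (hWZ : ∀ (Q : Type u) [Group Q] [Finite Q], IsPGroup p Q → Subgroup.center Q ≤ W Q)
    (Z : Subgroup Ω) (hZ : ∀ z ∈ Z, ∀ s ∈ S, s * z = z * s) {R : Subgroup Ω} (hRS : R ≤ S)
    (hRa : F.IsFullyAutomized p R) (hRr : F.IsReceptive R) (hRc : F.IsCentric R) (hRrad : F.IsRadical p R)
    (hV : AutFix F Z (inducedFunctor W (normalizerIn S R)))
    (hgrp : ∀ (L : Type u) [Group L] [Finite L] (ι : ↥(normalizerIn S R) →* L) (T' : Sylow p L),
      Function.Injective ι → (T' : Subgroup L) = ι.range →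
      ∀ z : ↥(normalizerIn S R), (z : Ω) ∈ Z → ι z ∈ pCore p L →
      (∀ g ∈ Subgroup.normalizer ((inducedFunctor W (T' : Subgroup L) : Subgroup L) : Set L),
        g * ι z * g⁻¹ = ι z) → ∀ g : L, g * ι z * g⁻¹ = ι z) :
    AutFix F Z R := by
  classical
  have hTS : normalizerIn S R ≤ S := inf_le_left
  haveI : Finite (normalizerIn S R) := finite_of_le hTS
  have hTp : IsPGroup p (normalizerIn S R) := hS.to_le hTS
  have hRT : R ≤ normalizerIn S R := le_normalizerIn hRS
  have hRn : F.IsFullyNormalized R :=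
    Cfsg.Agent.S5301.isFullyNormalized_of_isFullyAutomized_of_isReceptive hS F hRa hRr
  have hN := Helper85_Fusion.normalizerSystem_isNormalizerSystem F R hRS
  set N := Helper85_Fusion.normalizerSystem F R hRS with hNdef
  have hNsat : N.IsSaturated p := Cfsg.Agent.S5098.result p hS F hF R hRn N hN
  have hNn : N.IsNormal R := isNormal_of_isNormalizerSystem F hRS N hN
  have hNc : N.IsCentric R := isCentric_of_isNormalizerSystem F hRc N hN
  have hNr : N.IsRadical p R := isRadical_of_isNormalizerSystem F hRrad N hN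
  obtain ⟨L, hLg, ι, hM⟩ := Cfsg.Agent.S5090.result p hTp N ⟨hNsat, R, hNn, hNc⟩
  have hcore : pCore p L = (R.subgroupOf (normalizerIn S R)).map ι :=
    pCore_eq_map_of_isModel hTp N hNn hNc hNr ι hM
  obtain ⟨hfin, hreal, ⟨T', hT'⟩, -⟩ := hM
  haveI := hfin
  have hinj : Function.Injective ι := hreal.1
  intro f hf hfR x hx hxZ
  -- `f` is a map of the normalizer system
  have hfN : IsMapOn N R f :=
    (Cfsg.Agent.Lib.Helper87_GTMain.isMapOn_normalizerSystem_iff hN R f).2 (isNormMapOn_self hf hfR)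
  obtain ⟨φ, hφ, hφf⟩ := hfN
  obtain ⟨g, hg⟩ := IsRealizedBy.exists_conj_of_mem hreal hφ
  have hxT : x ∈ normalizerIn S R := hRT hx
  have hzcore : ι ⟨x, hxT⟩ ∈ pCore p L := by
    rw [hcore]
    exact ⟨⟨x, hxT⟩, Subgroup.mem_subgroupOf.2 hx, rfl⟩
  -- the functor in `L`
  have hVT : inducedFunctor W (normalizerIn S R) ≤ normalizerIn S R := ind_le _
  have himgT : ∀ y, y ∈ (T' : Subgroup L) ↔ ∃ t ∈ normalizerIn S R, J ι t = y := by
    intro y
    rw [hT']
    constructor
    · rintro ⟨t, rfl⟩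
      exact ⟨t, t.2, J_coe ι t⟩
    · rintro ⟨t, ht, rfl⟩
      exact J_mem_range ι t
  have hind := ind_image hW hTp (J ι) (fun a ha b hb => J_mul ι ha hb)
    (fun a ha b hb h => J_injOn hinj ha hb h) himgT
  have hxV : x ∈ inducedFunctor W (normalizerIn S R) :=
    center_le_ind hWZ _ hTp hxT (fun t ht => hZ x hxZ t (hTS ht))
  have hnorm : ∀ g' ∈ Subgroup.normalizer ((inducedFunctor W (T' : Subgroup L) : Subgroup L) : Set L),
      g' * ι ⟨x, hxT⟩ * g'⁻¹ = ι ⟨x, hxT⟩ := by
    intro g' hg'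
    have hmemW : ∀ v : ↥(inducedFunctor W (normalizerIn S R)),
        g' * ι ⟨v, hVT v.2⟩ * g'⁻¹ ∈ inducedFunctor W (T' : Subgroup L) := by
      intro v
      have h1 : ι ⟨v, hVT v.2⟩ ∈ inducedFunctor W (T' : Subgroup L) :=
        (hind _).2 ⟨v, v.2, J_apply ι (hVT v.2)⟩
      exact (Subgroup.mem_normalizer_iff.1 hg' _).1 h1
    have hconj : ∀ v : ↥(inducedFunctor W (normalizerIn S R)),
        g' * ι ⟨v, hVT v.2⟩ * g'⁻¹ ∈ ι.range := fun v =>
      hT' ▸ ind_le (T' : Subgroup L) (hmemW v)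
    obtain ⟨φ', hφ'T, hφ'mem, hφ'⟩ := IsRealizedBy.exists_mem_of_conj hreal hVT g' hconj
    have hφ'F : φ' ∈ F.Hom (inducedFunctor W (normalizerIn S R)) := by
      rw [hN _] at hφ'mem
      exact hφ'mem.1
    have hf' : IsMapOn F (inducedFunctor W (normalizerIn S R)) (extHom φ') := isMapOn_extHom F hφ'F
    have hself : ∀ v ∈ inducedFunctor W (normalizerIn S R),
        extHom φ' v ∈ inducedFunctor W (normalizerIn S R) := by
      intro v hv
      rw [extHom_apply φ' hv]
      obtain ⟨v', hv', hv'eq⟩ := (hind _).1 (hmemW ⟨v, hv⟩)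
      rw [← hφ' ⟨v, hv⟩, J_apply ι (hVT hv')] at hv'eq
      have h2 := congrArg Subtype.val (hinj hv'eq)
      simp only at h2
      rw [← h2]
      exact hv'
    have h3 := hV _ hf' hself x hxV hxZ
    rw [extHom_apply φ' hxV] at h3
    have h4 := hφ' ⟨x, hxV⟩
    have h5 : (⟨φ' ⟨x, hxV⟩, hφ'T ⟨x, hxV⟩⟩ : ↥(normalizerIn S R)) = ⟨x, hxT⟩ := Subtype.ext h3
    rw [h5] at h4
    exact h4.symm
  have hall := hgrp L ι T' hinj hT' ⟨x, hxT⟩ hxZ hzcore hnorm
  have h1 := hg ⟨x, hx⟩
  have h2 : ι ⟨φ ⟨x, hx⟩, (N.le_of_mem hφ).2 ⟨x, hx⟩⟩ = ι ⟨x, hxT⟩ := h1.trans (hall g)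
  have h3 := congrArg Subtype.val (hinj h2)
  simp only at h3
  rw [← hφf ⟨x, hx⟩]
  exact h3

/-- **Control of weak closure of elements, generic reduction.**  Let `F` be a saturated fusion system over the
finite `p`-group `S`, `W` an isomorphism-invariant `p`-group functor containing centres, and `Z ≤ S` a subgroup
centralized by `S` and fixed pointwise by the automorphisms of `W(S)` in `F`.  Suppose that for every fully
automized, receptive, centric, radical `R < S` the group-theoretic statement `hgrp` holds in (every candidate for) the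
model of `N_F(R)`.  Then `Z` is central in `F`. -/
theorem weakClosure_of_group [Finite S] {p : ℕ} [Fact p.Prime] (hS : IsPGroup p S) (F : FusionSystem S)
    (hF : F.IsSaturated p) {W : ∀ (Q : Type u) [Group Q], Subgroup Q} (hW : IsCharPFunctor p W)
    (hWZ : ∀ (Q : Type u) [Group Q] [Finite Q], IsPGroup p Q → Subgroup.center Q ≤ W Q)
    (Z : Subgroup Ω) (hZS : Z ≤ S) (hZ : ∀ z ∈ Z, ∀ s ∈ S, s * z = z * s)
    (H0 : AutFix F Z (inducedFunctor W S))
    (hgrp : ∀ R : Subgroup Ω, R ≤ S → R ≠ S → F.IsFullyAutomized p R → F.IsReceptive R → F.IsCentric R →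
      F.IsRadical p R →
      ∀ (L : Type u) [Group L] [Finite L] (ι : ↥(normalizerIn S R) →* L) (T' : Sylow p L),
      Function.Injective ι → (T' : Subgroup L) = ι.range →
      ∀ z : ↥(normalizerIn S R), (z : Ω) ∈ Z → ι z ∈ pCore p L →
      (∀ g ∈ Subgroup.normalizer ((inducedFunctor W (T' : Subgroup L) : Subgroup L) : Set L),
        g * ι z * g⁻¹ = ι z) → ∀ g : L, g * ι z * g⁻¹ = ι z) :
    F.IsCentral Z := by
  have hZV : Z ≤ inducedFunctor W S := fun z hz =>
    center_le_ind hWZ S hS (hZS hz) (fun s hs => hZ z hz s hs)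
  refine isCentral_of_fixes F hF hZS ?_
  refine fixes_all hS F hF hW Z hZ hZV H0 ?_
  intro R hRS hRne hRa hRr hRc hRrad hV
  exact autFix_of_model hS F hF hW hWZ Z hZ hRS hRa hRr hRc hRrad hV
    (hgrp R hRS hRne hRa hRr hRc hRrad)

end Cfsg.Agent.Lib.Helper72_FusWC
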