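import Cfsg.Agent.Lib.Helper72_FusWC7

/-!
Control of weak closure of subgroups in saturated fusion systems, generic reduction (helper72), part 1
(the "normal subgroup" analogue of `Helper72_FusWC`).

`A` is a subgroup normalized by `S`.  A function `f` is *good* on `P` (with respect to `A`) when, for `x ∈ P`,
`f x ∈ A ↔ x ∈ A`.  The maps of a fusion system `F` that are good on their sources of order at least `n` form a
subsystem (`levN`), and Alperin's theorem shows that all maps of `F` on sources of order at least `n` are good as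
soon as the automorphisms of the centric radical subgroups of order at least `n` send `A` into `A`
(`goodN_of_autNorm`).
-/

set_option autoImplicit false
set_option linter.style.haveILetI false

universe u

namespace Cfsg.Agent.Lib.Helper72_FusWCN

open Cfsg Cfsg.FusionSystem Cfsg.Agent.Lib.Helper87_Alperin Cfsg.Agent.Lib.Helper87_Alperin2
  Cfsg.Agent.Lib.Helper88_Centric Cfsg.Agent.Lib.Helper88_Essential Cfsg.Agent.Lib.Helper72_FusWC

variable {Ω : Type u} [Group Ω] {S : Subgroup Ω}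

/-- For `x ∈ P`: `f x ∈ A ↔ x ∈ A`. -/
def GoodN (A P : Subgroup Ω) (f : Ω → Ω) : Prop :=
  ∀ x ∈ P, (f x ∈ A ↔ x ∈ A)

/-- Every self-map of `U` belonging to the system sends `A ∩ U` into `A`. -/
def AutNorm (F : FusionSystem S) (A U : Subgroup Ω) : Prop :=
  ∀ f : Ω → Ω, IsMapOn F U f → (∀ x ∈ U, f x ∈ U) → ∀ x ∈ U, x ∈ A → f x ∈ A

theorem goodN_of_selfmap [Finite S] {F : FusionSystem S} {A U : Subgroup Ω} {f : Ω → Ω} (hf : IsMapOn F U f)
    (hfU : ∀ x ∈ U, f x ∈ U) (hnorm : ∀ x ∈ U, x ∈ A → f x ∈ A) : GoodN A U f := by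
  haveI : Finite U := finite_of_le hf.le
  haveI : Finite (U ⊓ A : Subgroup Ω) :=
    Finite.of_injective (Subgroup.inclusion (inf_le_left : U ⊓ A ≤ U)) (Subgroup.inclusion_injective _)
  have hinj : Function.Injective (fun x : (U ⊓ A : Subgroup Ω) =>
      (⟨f x, Subgroup.mem_inf.2 ⟨hfU x x.2.1, hnorm x x.2.1 x.2.2⟩⟩ : (U ⊓ A : Subgroup Ω))) := by
    intro a b hab
    exact Subtype.ext (hf.injOn a.2.1 b.2.1 (congrArg Subtype.val hab))
  have hsurj := Finite.injective_iff_surjective.1 hinj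
  intro x hx
  refine ⟨fun h => ?_, hnorm x hx⟩
  obtain ⟨y, hy⟩ := hsurj ⟨f x, Subgroup.mem_inf.2 ⟨hfU x hx, h⟩⟩
  have h1 : f y = f x := congrArg Subtype.val hy
  have h2 : (y : Ω) = x := hf.injOn y.2.1 hx h1
  rw [← h2]
  exact y.2.2

theorem GoodN.congr {A P : Subgroup Ω} {f g : Ω → Ω} (h : GoodN A P f) (hfg : ∀ x ∈ P, f x = g x) :
    GoodN A P g := by
  intro x hx
  rw [← hfg x hx]
  exact h x hx

theorem GoodN.mono {A P R : Subgroup Ω} {f : Ω → Ω} (h : GoodN A P f) (hRP : R ≤ P) : GoodN A R f :=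
  fun x hx => h x (hRP hx)

/-- The subsystem of the maps of `F` that are good on sources of order at least `n`. -/
def levN [Finite S] (F : FusionSystem S) (A : Subgroup Ω)
    (hA : S ≤ Subgroup.normalizer (A : Set Ω)) (n : ℕ) : FusionSystem S :=
  subsystemOf F (fun P f => n ≤ Nat.card P → GoodN A P f)
    (fun {P f g} h hfg hn => (h hn).congr hfg)
    (fun {P a} hP ha _ x hx => by
      show (a * x * a⁻¹ ∈ A ↔ x ∈ A)
      exact ((Subgroup.mem_normalizer_iff.1 (hA ha)) x).symm)
    (fun {P R f g} hf hGf hg hGg hPR hn x hx => by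
      have hn' : n ≤ Nat.card R := hn.trans (card_le_of_mapsTo hf hg.le hPR)
      have h1 := hGf hn x hx
      have h2 := hGg hn' (f x) (hPR x hx)
      rw [Function.comp_apply, h2, h1])
    (fun {P P' f g} hf hGf himg hg hgf hn y hy => by
      have hn' : n ≤ Nat.card P := hn.trans (card_le_of_isImage hf himg)
      obtain ⟨x, hx, rfl⟩ := (himg y).1 hy
      have h1 := hGf hn' x hx
      rw [hgf x hx]
      exact h1.symm)

theorem isMapOn_levN_iff [Finite S] (F : FusionSystem S) (A : Subgroup Ω)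
    (hA : S ≤ Subgroup.normalizer (A : Set Ω)) (n : ℕ) (P : Subgroup Ω) (f : Ω → Ω) :
    IsMapOn (levN F A hA n) P f ↔ IsMapOn F P f ∧ (n ≤ Nat.card P → GoodN A P f) := by
  constructor
  · rintro ⟨φ, ⟨hφ, hG⟩, hφf⟩
    refine ⟨⟨φ, hφ, hφf⟩, fun hn => (hG hn).congr fun x hx => ?_⟩
    rw [extHom_apply φ hx]
    exact hφf ⟨x, hx⟩
  · rintro ⟨⟨φ, hφ, hφf⟩, hG⟩
    refine ⟨φ, ⟨hφ, fun hn => (hG hn).congr fun x hx => ?_⟩, hφf⟩
    rw [extHom_apply φ hx]
    exact (hφf ⟨x, hx⟩).symm

/-- Alperin's theorem for goodness: if the automorphisms of the fully automized, receptive, centric and radical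
subgroups of order at least `n` send `A` into `A`, every map of the system on a source of order at least `n` is
good. -/
theorem goodN_of_autNorm [Finite S] {p : ℕ} [Fact p.Prime] (hS : IsPGroup p S) (F : FusionSystem S)
    (hF : F.IsSaturated p) (A : Subgroup Ω) (hA : S ≤ Subgroup.normalizer (A : Set Ω)) (n : ℕ)
    (h : ∀ Q : Subgroup Ω, F.IsFullyAutomized p Q → F.IsReceptive Q → F.IsCentric Q → F.IsRadical p Q →
      n ≤ Nat.card Q → AutNorm F A Q) :
    ∀ (P : Subgroup Ω) (f : Ω → Ω), IsMapOn F P f → n ≤ Nat.card P → GoodN A P f := by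
  intro P f hf hn
  have key := alperin_frc_isMapOn F hS hF (levN F A hA n) ?_ P f hf
  · exact ((isMapOn_levN_iff F A hA n P f).1 key).2 hn
  intro Q hQa hQr hQc hQrad α hα
  rw [isMapOn_levN_iff]
  have hQS : Q ≤ S := hQa.1
  have hα' : IsMapOn F Q (extFun α) := (mem_autGroup_iff F hQS α).1 hα
  refine ⟨hα', fun hnQ => ?_⟩
  exact goodN_of_selfmap hα' (fun x hx => extFun_mem α hx)
    (h Q hQa hQr hQc hQrad hnQ _ hα' (fun x hx => extFun_mem α hx))

end Cfsg.Agent.Lib.Helper72_FusWCN
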