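import Cfsg.Agent.Lib.Helper72_FusWCN

/-!
Control of weak closure of subgroups in saturated fusion systems, generic reduction (helper72), part 2:
the main induction (the "normal subgroup" analogue of `Helper72_FusWC3`).  `A ≤ S` is normalized by `S`,
`W` is an isomorphism-invariant `p`-group functor with `A ≤ W(S)`.  If the automorphisms of `W(S)` in `F` send `A`
into `A`, and for every fully automized, receptive, centric, radical subgroup `R < S` [the automorphisms of
`W(N_S(R))` send `A` into `A` ⇒ the automorphisms of `R` send `A ∩ R` into `A`], then every map of `F` is good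
(`goodN_all`): `A` is strongly closed in `F`, and the automorphisms in `F` of every subgroup send `A` into `A`.
-/

set_option autoImplicit false
set_option linter.style.haveILetI false

universe u

namespace Cfsg.Agent.Lib.Helper72_FusWCN

open Cfsg Cfsg.FusionSystem Cfsg.Agent.Lib.Helper87_Alperin Cfsg.Agent.Lib.Helper87_Alperin2
  Cfsg.Agent.Lib.Helper88_Centric Cfsg.Agent.Lib.Helper88_Essential Cfsg.Agent.Lib.Helper87_GTFunctor
  Cfsg.Agent.Lib.Helper72_FusWC

variable {Ω : Type u} [Group Ω] {S : Subgroup Ω}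

section main

variable [Finite S] {p : ℕ} [Fact p.Prime] (hS : IsPGroup p S) (F : FusionSystem S)
  (hF : F.IsSaturated p) {W : ∀ (Q : Type u) [Group Q], Subgroup Q} (hW : IsCharPFunctor p W)
  (A : Subgroup Ω) (hA : S ≤ Subgroup.normalizer (A : Set Ω))
  (hAV : A ≤ inducedFunctor W S)
  (H0 : AutNorm F A (inducedFunctor W S))
  (Hloc : ∀ R : Subgroup Ω, R ≤ S → R ≠ S → F.IsFullyAutomized p R → F.IsReceptive R → F.IsCentric R →
    F.IsRadical p R → AutNorm F A (inducedFunctor W (normalizerIn S R)) → AutNorm F A R)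

include hS hW hAV H0 in
/-- The automorphisms of `S` send `A` into `A`. -/
theorem autNorm_top : AutNorm F A S := by
  intro f hf hfS x _ hxA
  have hV : inducedFunctor W S ≤ S := ind_le S
  have himg : ∀ y, y ∈ S ↔ ∃ x ∈ S, f x = y := isImage_of_selfmap hf hfS
  have h1 := ind_image hW hS f (fun x hx y hy => hf.map_mul hx hy)
    (fun x hx y hy hxy => hf.injOn hx hy hxy) himg
  exact H0 f (hf.mono hV) (fun x hx => (h1 _).2 ⟨x, hx, rfl⟩) x (hAV hxA) hxA

include hS hW hAV H0 Hloc in
/-- The claim for a fully automized receptive subgroup, given the claim for all better placed subgroups. -/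
theorem autNorm_of_receptive {U : Subgroup Ω} (hUa : F.IsFullyAutomized p U) (hUr : F.IsReceptive U)
    (IH : ∀ V : Subgroup Ω, V ≤ S → Better S U V → AutNorm F A V) : AutNorm F A U := by
  have hUS : U ≤ S := hUr.1
  by_cases hUne : U = S
  · rw [hUne]
    exact autNorm_top hS F hW A hAV H0
  by_cases hplus : uplus F p U = U
  · -- centric and radical
    obtain ⟨hUc, hUrad⟩ := isCentric_isRadical_of_uplus_eq F hS hUa hUr hplus
    refine Hloc U hUS hUne hUa hUr hUc hUrad ?_
    set T := normalizerIn S U with hT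
    have hTS : T ≤ S := inf_le_left
    by_cases hTeq : T = S
    · rw [hTeq]
      exact H0
    · haveI : Finite T := finite_of_le hTS
      have hTp : IsPGroup p T := hS.to_le hTS
      have hVS : inducedFunctor W T ≤ S := (ind_le T).trans hTS
      refine IH _ hVS (Or.inl ?_)
      have h1 : T < normalizerIn S T := lt_normalizerIn hS hTS hTeq
      have h2 : normalizerIn S T ≤ normalizerIn S (inducedFunctor W T) :=
        inf_le_inf_left S (normalizer_le hW T hTp)
      haveI : Finite (normalizerIn S (inducedFunctor W T)) := finite_of_le inf_le_left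
      exact lt_of_lt_of_le (card_lt_of_lt (lt_of_lt_of_le h1 h2)) le_rfl
  · -- extend to `uplus`
    have hle : U ≤ uplus F p U := le_uplus F hS hUS
    have hlt : U < uplus F p U := lt_of_le_of_ne hle (Ne.symm hplus)
    have hVS : uplus F p U ≤ S := (uplus_le_normalizerIn F p U).trans inf_le_left
    have hN : normalizerIn S U ≤ normalizerIn S (uplus F p U) := by
      refine le_inf inf_le_left ?_
      exact le_normalizer_of_conj_mem' fun t ht s hs => conj_mem_uplus F hUS ht hs
    haveI : Finite (uplus F p U) := finite_of_le hVS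
    haveI : Finite (normalizerIn S (uplus F p U)) := finite_of_le inf_le_left
    have hB : Better S U (uplus F p U) :=
      Or.inr ⟨Subgroup.card_le_of_le hN, card_lt_of_lt hlt⟩
    have hV := IH _ hVS hB
    intro f hf hfU x hx hxA
    obtain ⟨α, hα, hαf⟩ := Cfsg.Agent.Lib.Helper84_KLBasic.exists_aut_of_isMapOn hf hfU
    obtain ⟨a, ha, haU, haV⟩ := exists_extension_uplus F hUa hUr hα
    rw [← hαf x hx, ← haU x hx]
    exact hV a ha haV x (hle hx) hxA

include hS hF hW hA hAV H0 Hloc in
/-- The main induction: the automorphisms in `F` of every subgroup of `S` send `A` into `A`. -/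
theorem autNorm_all : ∀ U : Subgroup Ω, U ≤ S → AutNorm F A U := by
  intro U
  induction' hn : mu S U using Nat.strong_induction_on with n ih generalizing U
  intro hUS
  have IH : ∀ V : Subgroup Ω, V ≤ S → Better S U V → AutNorm F A V := fun V hV hB =>
    ih (mu S V) (hn ▸ mu_lt_of_better hUS hV hB) V rfl hV
  by_cases hUne : U = S
  · rw [hUne]
    exact autNorm_top hS F hW A hAV H0
  -- a fully automized receptive conjugate
  obtain ⟨U', ⟨φ, hφ, hφr⟩, hU'a, hU'r⟩ := hF U hUS
  have hU'S : U' ≤ S := hU'r.1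
  obtain ⟨α, hα, a, ha, haφ⟩ := exists_extension F hS hU'a hU'r hφ hφr
  set T := normalizerIn S U with hT
  have hTS : T ≤ S := inf_le_left
  have hUT : U ≤ T := le_normalizerIn hUS
  haveI : Finite U := finite_of_le hUS
  haveI : Finite U' := finite_of_le hU'S
  haveI : Finite T := finite_of_le hTS
  have hφU' : ∀ x : U, φ x ∈ U' := fun x => hφr ▸ ⟨x, rfl⟩
  -- `a` maps `U` onto `U'`
  have himg : IsImage U a U' := by
    intro y
    constructor
    · intro hy
      have h1 : extFun α⁻¹ y ∈ φ.range := hφr.ge (extFun_mem _ hy)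
      obtain ⟨x, hx⟩ := h1
      refine ⟨x, x.2, ?_⟩
      rw [haφ x, hx, extFun_apply_inv α hy]
    · rintro ⟨x, hx, rfl⟩
      rw [haφ ⟨x, hx⟩]
      exact extFun_mem α (hφU' _)
  have haU' : ∀ x ∈ U, a x ∈ U' := fun x hx => himg.mem hx
  -- `a` maps `N_S(U)` into `N_S(U')`
  have haN : ∀ t ∈ T, a t ∈ normalizerIn S U' := by
    have key : ∀ t ∈ T, ∀ y ∈ U', a t * y * (a t)⁻¹ ∈ U' := by
      intro t ht y hy
      obtain ⟨x, hx, rfl⟩ := (himg y).1 hy
      have hx' : x ∈ T := hUT hx
      have h1 : a t * a x * (a t)⁻¹ = a (t * x * t⁻¹) := by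
        rw [ha.map_mul (T.mul_mem ht hx') (T.inv_mem ht), ha.map_mul ht hx', ha.map_inv ht]
      rw [h1]
      exact haU' _ ((Subgroup.mem_normalizer_iff.1 ht.2 x).1 hx)
    intro t ht
    refine Subgroup.mem_inf.2 ⟨ha.mem ht, ?_⟩
    rw [Subgroup.mem_normalizer_iff]
    intro y
    constructor
    · exact key t ht y
    · intro hy
      have h1 := key t⁻¹ (T.inv_mem ht) _ hy
      rw [ha.map_inv ht] at h1
      have e : (a t)⁻¹ * (a t * y * (a t)⁻¹) * (a t)⁻¹⁻¹ = y := by group
      rwa [e] at h1
  have hcardN : Nat.card T ≤ Nat.card (normalizerIn S U') := card_le_of_mapsTo ha inf_le_left haN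
  have hcardU : Nat.card U ≤ Nat.card U' := card_le_of_mapsTo (ha.mono hUT) hU'S haU'
  -- goodness of `a`
  have hgood : GoodN A T a := by
    refine goodN_of_autNorm hS F hF A hA (Nat.card T) ?_ T a ha le_rfl
    intro Q hQa hQr _ _ hnQ
    have hQS : Q ≤ S := hQr.1
    by_cases hQne : Q = S
    · rw [hQne]
      exact autNorm_top hS F hW A hAV H0
    · refine IH Q hQS (Or.inl ?_)
      haveI : Finite (normalizerIn S Q) := finite_of_le inf_le_left
      exact lt_of_le_of_lt hnQ (card_lt_of_lt (lt_normalizerIn hS hQS hQne))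
  -- the claim for `U'`
  have hU' : AutNorm F A U' := by
    refine autNorm_of_receptive hS F hW A hAV H0 Hloc hU'a hU'r ?_
    intro V hV hB
    refine IH V hV ?_
    rcases hB with hB | ⟨hB1, hB2⟩
    · exact Or.inl (lt_of_le_of_lt hcardN hB)
    · exact Or.inr ⟨hcardN.trans hB1, lt_of_le_of_lt hcardU hB2⟩
  -- transport back
  intro f hf hfU x hx hxA
  obtain ⟨b, hb, hba, hbU, hab⟩ := (ha.mono hUT).inv himg
  have hf' : IsMapOn F U' (a ∘ (f ∘ b)) := by
    refine (hb.comp hf hbU).comp (ha.mono hUT) ?_
    intro y hy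
    exact hfU _ (hbU y hy)
  have hself : ∀ y ∈ U', (a ∘ (f ∘ b)) y ∈ U' := fun y hy => haU' _ (hfU _ (hbU y hy))
  have haxA : a x ∈ A := (hgood x (hUT hx)).2 hxA
  have h1 := hU' _ hf' hself (a x) (haU' x hx) haxA
  simp only [Function.comp_apply] at h1
  rw [hba x hx] at h1
  exact (hgood (f x) (hUT (hfU x hx))).1 h1

include hS hF hW hA hAV H0 Hloc in
/-- Every map of `F` is good with respect to `A`: `A` is strongly closed. -/
theorem goodN_all (P : Subgroup Ω) (f : Ω → Ω) (hf : IsMapOn F P f) : GoodN A P f :=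
  goodN_of_autNorm hS F hF A hA 0
    (fun Q _ hQr _ _ _ => autNorm_all hS F hF hW A hA hAV H0 Hloc Q hQr.1) P f hf (Nat.zero_le _)

end main

end Cfsg.Agent.Lib.Helper72_FusWCN
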