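import Cfsg.Agent.Lib.Helper72_FusWCN2
import Cfsg.Agent.Lib.Helper84_KLQuot

/-!
Control of weak closure of subgroups in saturated fusion systems (helper72), part 3: the model step and the
assembled reduction (the "normal subgroup" analogue of `Helper72_FusWC6/7`).

For a fully automized, receptive, centric and radical subgroup `R` of the saturated system `F`, the normalizer
system `N_F(R)` over `T = N_S(R)` has a model `L` (`ι : T →* L`, `ι(T)` Sylow, `O_p(L) = ι(R)`).  If the
automorphisms in `F` of `W(T)` send `A` into `A`, then `N_L(W(ι T))` normalizes `ι(A)`; so a group-theoretic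
statement `hgrp` ("a subgroup of `O_p(L)` of the given kind normalized by `N_L(W(T'))` is normal in `L`") shows that
the automorphisms of `R` in `F` send `A` into `A` (`autNorm_of_model`).
`isNormal_of_group` assembles the reduction: `A` is normal in `F`.
-/

set_option autoImplicit false
set_option linter.style.haveILetI false

universe u

namespace Cfsg.Agent.Lib.Helper72_FusWCN

open Cfsg Cfsg.FusionSystem Cfsg.Agent.Lib.Helper87_Alperin Cfsg.Agent.Lib.Helper87_Alperin2
  Cfsg.Agent.Lib.Helper88_Centric Cfsg.Agent.Lib.Helper88_Essential Cfsg.Agent.Lib.Helper87_GTFunctor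
  Cfsg.Agent.Lib.Helper87_PInner Cfsg.Agent.Lib.Helper87_Realized Cfsg.Agent.Lib.Helper88_Model
  Cfsg.Agent.Lib.Helper72_FusWC

variable {Ω : Type u} [Group Ω] {S : Subgroup Ω}

/-- A subgroup centralized by `S` lies in every centric subgroup. -/
theorem le_of_isCentric {F : FusionSystem S} {A R : Subgroup Ω} (hAS : A ≤ S)
    (hAc : ∀ z ∈ A, ∀ s ∈ S, s * z = z * s) (hRS : R ≤ S) (hRc : F.IsCentric R) : A ≤ R := by
  have hC : centralizerIn S R ≤ R := hRc.2 R (isConj_refl F hRS)
  intro z hz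
  refine hC (Subgroup.mem_inf.2 ⟨hAS hz, ?_⟩)
  rw [Subgroup.mem_centralizer_iff]
  intro r hr
  exact hAc z hz r (hRS hr)

/-- The model step. -/
theorem autNorm_of_model [Finite S] {p : ℕ} [Fact p.Prime] (hS : IsPGroup p S) (F : FusionSystem S)
    (hF : F.IsSaturated p) {W : ∀ (Q : Type u) [Group Q], Subgroup Q} (hW : IsCharPFunctor p W)
    (hWZ : ∀ (Q : Type u) [Group Q] [Finite Q], IsPGroup p Q → Subgroup.center Q ≤ W Q)
    (A : Subgroup Ω) (hAS : A ≤ S) (hAc : ∀ z ∈ A, ∀ s ∈ S, s * z = z * s) {R : Subgroup Ω} (hRS : R ≤ S)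
    (hRa : F.IsFullyAutomized p R) (hRr : F.IsReceptive R) (hRc : F.IsCentric R) (hRrad : F.IsRadical p R)
    (hV : AutNorm F A (inducedFunctor W (normalizerIn S R)))
    (hgrp : ∀ (L : Type u) [Group L] [Finite L] (ι : ↥(normalizerIn S R) →* L) (T' : Sylow p L),
      (Helper85_Fusion.normalizerSystem F R hRS).IsModel p L ι → (T' : Subgroup L) = ι.range →
      (A.subgroupOf (normalizerIn S R)).map ι ≤ pCore p L →
      Subgroup.normalizer ((inducedFunctor W (T' : Subgroup L) : Subgroup L) : Set L) ≤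
        Subgroup.normalizer (((A.subgroupOf (normalizerIn S R)).map ι : Subgroup L) : Set L) →
      ((A.subgroupOf (normalizerIn S R)).map ι).Normal) :
    AutNorm F A R := by
  classical
  have hTS : normalizerIn S R ≤ S := inf_le_left
  haveI : Finite (normalizerIn S R) := finite_of_le hTS
  have hTp : IsPGroup p (normalizerIn S R) := hS.to_le hTS
  have hRT : R ≤ normalizerIn S R := le_normalizerIn hRS
  have hAR : A ≤ R := le_of_isCentric hAS hAc hRS hRc
  have hRn : F.IsFullyNormalized R :=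
    Cfsg.Agent.S5301.isFullyNormalized_of_isFullyAutomized_of_isReceptive hS F hRa hRr
  have hN := Helper85_Fusion.normalizerSystem_isNormalizerSystem F R hRS
  set N := Helper85_Fusion.normalizerSystem F R hRS with hNdef
  have hNsat : N.IsSaturated p := Cfsg.Agent.S5098.result p hS F hF R hRn N hN
  have hNn : N.IsNormal R := isNormal_of_isNormalizerSystem F hRS N hN
  have hNc : N.IsCentric R := isCentric_of_isNormalizerSystem F hRc N hN
  have hNr : N.IsRadical p R := isRadical_of_isNormalizerSystem F hRrad N hN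
  obtain ⟨L, hLg, ι, hM⟩ := Cfsg.Agent.S5090.result p hTp N ⟨hNsat, R, hNn, hNc⟩
  have hcore : pCore p L = (R.subgroupOf (normalizerIn S R)).map ι :=
    pCore_eq_map_of_isModel hTp N hNn hNc hNr ι hM
  have hM' := hM
  obtain ⟨hfin, hreal, ⟨T', hT'⟩, -⟩ := hM
  haveI := hfin
  have hinj : Function.Injective ι := hreal.1
  -- the image of `A`
  set A' : Subgroup L := (A.subgroupOf (normalizerIn S R)).map ι with hA'
  have hmemA' : ∀ y : L, y ∈ A' ↔ ∃ (x : Ω) (hx : x ∈ normalizerIn S R), x ∈ A ∧ ι ⟨x, hx⟩ = y := by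
    intro y
    constructor
    · rintro ⟨t, ht, rfl⟩
      exact ⟨t, t.2, Subgroup.mem_subgroupOf.1 ht, rfl⟩
    · rintro ⟨x, hx, hxA, rfl⟩
      exact ⟨⟨x, hx⟩, Subgroup.mem_subgroupOf.2 hxA, rfl⟩
  have hA'core : A' ≤ pCore p L := by
    rw [hcore]
    exact Subgroup.map_mono (fun t ht => Subgroup.mem_subgroupOf.2 (hAR (Subgroup.mem_subgroupOf.1 ht)))
  -- the functor in `L`
  have hVT : inducedFunctor W (normalizerIn S R) ≤ normalizerIn S R := ind_le _
  have himgT : ∀ y, y ∈ (T' : Subgroup L) ↔ ∃ t ∈ normalizerIn S R, J ι t = y := by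
    intro y
    rw [hT']
    constructor
    · rintro ⟨t, rfl⟩
      exact ⟨t, t.2, J_coe ι t⟩
    · rintro ⟨t, ht, rfl⟩
      exact J_mem_range ι t
  have hind := ind_image hW hTp (J ι) (fun a ha b hb => J_mul ι ha hb)
    (fun a ha b hb h => J_injOn hinj ha hb h) himgT
  have hconjA : ∀ g' ∈ Subgroup.normalizer ((inducedFunctor W (T' : Subgroup L) : Subgroup L) : Set L),
      ∀ y ∈ A', g' * y * g'⁻¹ ∈ A' := by
    intro g' hg' y hy
    obtain ⟨x, hxT, hxA, rfl⟩ := (hmemA' y).1 hy
    have hxV : x ∈ inducedFunctor W (normalizerIn S R) :=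
      center_le_ind hWZ _ hTp hxT (fun t ht => hAc x hxA t (hTS ht))
    have hmemW : ∀ v : ↥(inducedFunctor W (normalizerIn S R)),
        g' * ι ⟨v, hVT v.2⟩ * g'⁻¹ ∈ inducedFunctor W (T' : Subgroup L) := by
      intro v
      have h1 : ι ⟨v, hVT v.2⟩ ∈ inducedFunctor W (T' : Subgroup L) :=
        (hind _).2 ⟨v, v.2, J_apply ι (hVT v.2)⟩
      exact (Subgroup.mem_normalizer_iff.1 hg' _).1 h1
    have hconj : ∀ v : ↥(inducedFunctor W (normalizerIn S R)),
        g' * ι ⟨v, hVT v.2⟩ * g'⁻¹ ∈ ι.range := fun v =>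
      hT' ▸ ind_le (T' : Subgroup L) (hmemW v)
    obtain ⟨φ', hφ'T, hφ'mem, hφ'⟩ := IsRealizedBy.exists_mem_of_conj hreal hVT g' hconj
    have hφ'F : φ' ∈ F.Hom (inducedFunctor W (normalizerIn S R)) := by
      rw [hN _] at hφ'mem
      exact hφ'mem.1
    have hf' : IsMapOn F (inducedFunctor W (normalizerIn S R)) (extHom φ') := isMapOn_extHom F hφ'F
    have hself : ∀ v ∈ inducedFunctor W (normalizerIn S R),
        extHom φ' v ∈ inducedFunctor W (normalizerIn S R) := by
      intro v hv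
      rw [extHom_apply φ' hv]
      obtain ⟨v', hv', hv'eq⟩ := (hind _).1 (hmemW ⟨v, hv⟩)
      rw [← hφ' ⟨v, hv⟩, J_apply ι (hVT hv')] at hv'eq
      have h2 := congrArg Subtype.val (hinj hv'eq)
      simp only at h2
      rw [← h2]
      exact hv'
    have h3 := hV _ hf' hself x hxV hxA
    rw [extHom_apply φ' hxV] at h3
    have h4 := hφ' ⟨x, hxV⟩
    rw [← h4]
    exact (hmemA' _).2 ⟨φ' ⟨x, hxV⟩, hφ'T ⟨x, hxV⟩, h3, rfl⟩
  have hnorm : Subgroup.normalizer ((inducedFunctor W (T' : Subgroup L) : Subgroup L) : Set L) ≤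
      Subgroup.normalizer ((A' : Subgroup L) : Set L) :=
    le_normalizer_of_conj_mem' hconjA
  have hnormal : A'.Normal := hgrp L ι T' hM' hT' hA'core hnorm
  intro f hf hfR x hx hxA
  -- `f` is a map of the normalizer system
  have hfN : IsMapOn N R f :=
    (Cfsg.Agent.Lib.Helper87_GTMain.isMapOn_normalizerSystem_iff hN R f).2 (isNormMapOn_self hf hfR)
  obtain ⟨φ, hφ, hφf⟩ := hfN
  obtain ⟨g, hg⟩ := IsRealizedBy.exists_conj_of_mem hreal hφ
  have hxT : x ∈ normalizerIn S R := hRT hx
  have h1 := hg ⟨x, hx⟩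
  have h2 : g * ι ⟨x, hxT⟩ * g⁻¹ ∈ A' :=
    hnormal.conj_mem _ ((hmemA' _).2 ⟨x, hxT, hxA, rfl⟩) g
  obtain ⟨a, haT, haA, ha⟩ := (hmemA' _).1 h2
  have h3 : ι ⟨φ ⟨x, hx⟩, (N.le_of_mem hφ).2 ⟨x, hx⟩⟩ = ι ⟨a, haT⟩ := h1.trans ha.symm
  have h4 := congrArg Subtype.val (hinj h3)
  simp only at h4
  rw [← hφf ⟨x, hx⟩, h4]
  exact haA

/-- **Control of weak closure of subgroups, generic reduction.**  Let `F` be a saturated fusion system over the
finite `p`-group `S`, `W` an isomorphism-invariant `p`-group functor containing centres, and `A ≤ S` a subgroup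
centralized by `S` and sent into itself by the automorphisms of `W(S)` in `F`.  Suppose that for every fully
automized, receptive, centric, radical `R < S` the group-theoretic statement `hgrp` holds in (every candidate for) the
model of `N_F(R)`.  Then `A` is normal in `F`. -/
theorem isNormal_of_group [Finite S] {p : ℕ} [Fact p.Prime] (hS : IsPGroup p S) (F : FusionSystem S)
    (hF : F.IsSaturated p) {W : ∀ (Q : Type u) [Group Q], Subgroup Q} (hW : IsCharPFunctor p W)
    (hWZ : ∀ (Q : Type u) [Group Q] [Finite Q], IsPGroup p Q → Subgroup.center Q ≤ W Q)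
    (A : Subgroup Ω) (hAS : A ≤ S) (hAc : ∀ z ∈ A, ∀ s ∈ S, s * z = z * s)
    (H0 : AutNorm F A (inducedFunctor W S))
    (hgrp : ∀ (R : Subgroup Ω) (hRS : R ≤ S), R ≠ S → F.IsFullyAutomized p R → F.IsReceptive R → F.IsCentric R →
      F.IsRadical p R →
      ∀ (L : Type u) [Group L] [Finite L] (ι : ↥(normalizerIn S R) →* L) (T' : Sylow p L),
      (Helper85_Fusion.normalizerSystem F R hRS).IsModel p L ι → (T' : Subgroup L) = ι.range →
      (A.subgroupOf (normalizerIn S R)).map ι ≤ pCore p L →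
      Subgroup.normalizer ((inducedFunctor W (T' : Subgroup L) : Subgroup L) : Set L) ≤
        Subgroup.normalizer (((A.subgroupOf (normalizerIn S R)).map ι : Subgroup L) : Set L) →
      ((A.subgroupOf (normalizerIn S R)).map ι).Normal) :
    F.IsNormal A := by
  have hAV : A ≤ inducedFunctor W S := fun z hz =>
    center_le_ind hWZ S hS (hAS hz) (fun s hs => hAc z hz s hs)
  have hA : S ≤ Subgroup.normalizer (A : Set Ω) := by
    refine le_normalizer_of_conj_mem' fun s hs z hz => ?_
    rw [hAc z hz s hs, mul_inv_cancel_right]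
    exact hz
  have hall : ∀ U : Subgroup Ω, U ≤ S → AutNorm F A U := by
    refine autNorm_all hS F hF hW A hA hAV H0 ?_
    intro R hRS hRne hRa hRr hRc hRrad hV
    exact autNorm_of_model hS F hF hW hWZ A hAS hAc hRS hRa hRr hRc hRrad hV
      (hgrp R hRS hRne hRa hRr hRc hRrad)
  refine Cfsg.Agent.Lib.Helper84_KLQuot.isNormal_of_frc hS hF hAS hA ?_
  intro R hRa hRr hRc hRrad
  have hRS : R ≤ S := hRr.1
  refine ⟨le_of_isCentric hAS hAc hRS hRc, fun α hα x hxA => ?_⟩
  have hα' : IsMapOn F R (extFun α) := (mem_autGroup_iff F hRS α).1 hα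
  have h1 := hall R hRS _ hα' (fun y hy => extFun_mem α hy) x x.2 hxA
  rwa [extFun_coe] at h1

end Cfsg.Agent.Lib.Helper72_FusWCN
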