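import Mathlib
import Cfsg.Agent.Lib.Helper72_JAFunctor

/-!
Helper library (helper72): the local hypothesis of Glauberman's weak closure theorems for the
abelian-version Thompson subgroup: if `J_A(T)` is not normal in `H`, some element of `T` outside
`O_p(H)` acts quadratically on `Z(O_p(H))`.
-/

set_option autoImplicit false
universe u
open Cfsg

namespace Cfsg.Agent.Lib.Helper72_JAloc

open Cfsg.Agent.Lib.Helper34_NPC Cfsg.Agent.Lib.Helper72_AbelianJ
open Cfsg.Agent.Lib.Helper72_JAFunctor Cfsg.Agent.Lib.Helper47_SubAPI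
open Cfsg.Agent.Lib.Helper72_WCFinal Cfsg.Agent.Lib.Helper51_Offender
open scoped commutatorElement

/-- absolute form -/
theorem exists_quadratic {Γ : Type u} [Group Γ] [Finite Γ] {p : ℕ} [Fact p.Prime]
    (T : Subgroup Γ) (hT : IsPGroup p T) (hPT : Cfsg.pCore p Γ ≤ T)
    (hJ : ¬ (Cfsg.thompsonSubgroupAOf T).Normal) :
    ∃ g ∈ T, g ∉ Cfsg.pCore p Γ ∧
      ∀ v ∈ Cfsg.pCore p Γ ⊓ Subgroup.centralizer ((Cfsg.pCore p Γ : Subgroup Γ) : Set Γ),
        ∀ i j : ℤ, ⁅⁅v, g ^ i⁆, g ^ j⁆ = 1 := by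
  set P := Cfsg.pCore p Γ with hP
  have hPp : IsPGroup p P := hT.to_le hPT
  set B : Subgroup Γ := P ⊓ Subgroup.centralizer (P : Set Γ) with hB
  have hBn : B.Normal := inferInstance
  have hBc : ∀ a ∈ B, ∀ b ∈ B, a * b = b * a := by
    intro a ha b hb
    exact (Subgroup.mem_centralizer_iff.mp hb.2 a ha.1)
  have hBcomm : IsMulCommutative B := ⟨⟨fun a b => Subtype.ext (hBc a a.2 b b.2)⟩⟩
  have hBT : B ≤ T := inf_le_left.trans hPT
  have hPB : P ≤ Subgroup.centralizer (B : Set Γ) := by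
    intro y hy
    rw [Subgroup.mem_centralizer_iff]
    intro b hb
    exact (Subgroup.mem_centralizer_iff.mp hb.2 y hy).symm
  obtain ⟨A, hAmax, hAP⟩ := exists_maxAb_not_le T P hPp P inf_le_right hPT hJ
  -- a subgroup acting quadratically, with an element outside `P`
  have hex : ∃ Q : Subgroup Γ, Q ≤ T ∧ (∀ v ∈ B, ∀ x ∈ Q, ∀ y ∈ Q, ⁅⁅v, x⁆, y⁆ = 1) ∧
      ∃ g ∈ Q, g ∉ P := by
    by_cases hAB : A ≤ Subgroup.centralizer (B : Set Γ)
    · refine ⟨A, hAmax.1, ?_, ?_⟩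
      · intro v hv x hx y _
        have h1 : ⁅v, x⁆ = 1 := by
          rw [commutatorElement_eq_one_iff_mul_comm]
          exact (Subgroup.mem_centralizer_iff.mp (hAB hx) v hv)
        rw [h1, commutatorElement_one_left]
      · exact SetLike.not_le_iff_exists.mp hAP
    · obtain ⟨Q, hQA, hQq, hQR, -⟩ := quad_offender (p := p) hBcomm hBT hT hAmax hAB
      refine ⟨Q, hQA.trans hAmax.1, hQq, ?_⟩
      obtain ⟨g, hgQ, hgC⟩ := SetLike.not_le_iff_exists.mp hQR
      exact ⟨g, hgQ, fun hgP => hgC (hPB hgP)⟩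
  obtain ⟨Q, hQT, hQq, g, hgQ, hgP⟩ := hex
  exact ⟨g, hQT hgQ, hgP, fun v hv i j => hQq v hv _ (Q.zpow_mem hgQ i) _ (Q.zpow_mem hgQ j)⟩

/-- relative form, as in the statements -/
theorem hloc_quadratic {G : Type u} [Group G] [Finite G] {p : ℕ} [Fact p.Prime]
    (H T : Subgroup G) (hTH : T ≤ H) (hT : IsPGroup p ↥T) (hidx : ¬ p ∣ T.relIndex H)
    (hnN : ¬ H ≤ Subgroup.normalizer ((WJ T : Subgroup G) : Set G)) :
    ∃ g : G, g ∈ T ∧ g ∉ Cfsg.pCoreOf p H ∧
      ⁅⁅Cfsg.pCoreOf p H ⊓ Subgroup.centralizer ((Cfsg.pCoreOf p H : Subgroup G) : Set G),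
        Subgroup.zpowers g⁆, Subgroup.zpowers g⁆ = ⊥ := by
  set T' : Subgroup H := T.subgroupOf H with hT'
  have hT'p : IsPGroup p T' := hT.comap_subtype
  have hmapT : T'.map H.subtype = T := Subgroup.map_subgroupOf_eq_of_le hTH
  have hPT : Cfsg.pCore p H ≤ T' := by
    intro y hy
    rw [hT', Subgroup.mem_subgroupOf]
    exact pCoreOf_le_of_sylow hTH hT hidx ⟨y, hy, rfl⟩
  have hJ : ¬ (Cfsg.thompsonSubgroupAOf T').Normal := by
    intro hn
    apply hnN
    have h1 := (normal_iff_le_normalizer_map H (Cfsg.thompsonSubgroupAOf T')).mp hn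
    have h2 := inducedFunctor_map (isCharPFunctor_JA (p := p)) H.subtype T' hT'p
      (fun x _ hx => by simpa using hx)
    rw [hmapT, inducedFunctor_JA, inducedFunctor_JA] at h2
    rw [WJ_eq, h2]
    exact h1
  obtain ⟨g, hgT, hgP, hq⟩ := exists_quadratic T' hT'p hPT hJ
  refine ⟨(g : G), Subgroup.mem_subgroupOf.mp hgT, ?_, ?_⟩
  · rintro ⟨y, hy, hyg⟩
    have : y = g := Subtype.ext hyg
    exact hgP (this ▸ hy)
  · rw [Subgroup.commutator_eq_bot_iff_le_centralizer, Subgroup.commutator_le]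
    intro b hb z₁ hz₁
    rw [Subgroup.mem_centralizer_iff]
    intro z₂ hz₂
    obtain ⟨i, rfl⟩ := Subgroup.mem_zpowers_iff.mp hz₁
    obtain ⟨j, rfl⟩ := Subgroup.mem_zpowers_iff.mp hz₂
    obtain ⟨y, hy, hyb⟩ := hb.1
    have hyB : y ∈ Cfsg.pCore p H ⊓
        Subgroup.centralizer ((Cfsg.pCore p H : Subgroup H) : Set H) := by
      refine Subgroup.mem_inf.mpr ⟨hy, ?_⟩
      rw [Subgroup.mem_centralizer_iff]
      intro w hw
      apply Subtype.ext
      have hwP : (w : G) ∈ Cfsg.pCoreOf p H := ⟨w, hw, rfl⟩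
      have := Subgroup.mem_centralizer_iff.mp hb.2 (w : G) hwP
      rw [← hyb] at this
      exact this
    have h1 := hq y hyB i j
    have h2 : ⁅⁅(y : G), (g : G) ^ i⁆, (g : G) ^ j⁆ = 1 := by
      have := congrArg (H.subtype) h1
      rw [map_commutatorElement, map_commutatorElement, map_zpow, map_zpow, map_one] at this
      exact this
    have hyb' : (y : G) = b := hyb
    rw [hyb'] at h2
    exact (commutatorElement_eq_one_iff_mul_comm.mp h2).symm

end Cfsg.Agent.Lib.Helper72_JAloc
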