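import Cfsg.Agent.Lib.Helper84_KLBasic
import Cfsg.Agent.Lib.Helper85_Fusion

/-!
# Maps of centralizer systems in function form (helper84)

`CMap F U P f`: `f` on `P` is a map of the centralizer system of `U` in `F`; `CInner F U p`: all automorphisms of the
centralizer system of `U` have `p`-power order.
-/

set_option autoImplicit false

namespace Cfsg.Agent.Lib.Helper84_ThCent

open Cfsg Cfsg.FusionSystem Cfsg.Agent.Lib.Helper87_Alperin Cfsg.Agent.Lib.Helper87_Alperin2
  Cfsg.Agent.Lib.Helper84_KLBasic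

variable {Ω : Type*} [Group Ω] {S : Subgroup Ω}

/-- `f` on `P` is a map of the centralizer system of `U` -/
def CMap (F : FusionSystem S) (U P : Subgroup Ω) (f : Ω → Ω) : Prop :=
  IsMapOn F P f ∧ P ≤ centralizerIn S U ∧ (∀ x ∈ P, f x ∈ centralizerIn S U) ∧
    ∃ (D : Subgroup Ω) (g : Ω → Ω), P ≤ D ∧ U ≤ D ∧ IsMapOn F D g ∧ (∀ x ∈ P, g x = f x) ∧
      ∀ x ∈ U, g x = x

/-- all automorphisms of the centralizer system of `U` have `p`-power order -/
def CInner (F : FusionSystem S) (U : Subgroup Ω) (p : ℕ) : Prop :=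
  ∀ (P : Subgroup Ω) (f : Ω → Ω), CMap F U P f → (∀ x ∈ P, f x ∈ P) → PPow p P f

theorem centralizerIn_le_normalizerIn (S U : Subgroup Ω) : centralizerIn S U ≤ normalizerIn S U :=
  inf_le_inf_left S (Subgroup.centralizer_le_normalizer _)

theorem CMap.toNMap {F : FusionSystem S} {U P : Subgroup Ω} {f : Ω → Ω} (h : CMap F U P f) :
    NMap F U P f := by
  obtain ⟨h1, h2, h3, D, g, hPD, hUD, hg, hgf, hgU⟩ := h
  exact ⟨h1, h2.trans (centralizerIn_le_normalizerIn S U),
    fun x hx => centralizerIn_le_normalizerIn S U (h3 x hx), D, g, hPD, hUD, hg, hgf,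
    fun x hx => by rw [hgU x hx]; exact hx⟩

theorem cInner_of_nInner {F : FusionSystem S} {U : Subgroup Ω} {p : ℕ} (h : NInner F U p) : CInner F U p :=
  fun P f hf hfP => h P f hf.toNMap hfP

theorem CMap.of_subsystem {T : Subgroup Ω} {E : FusionSystem T} {F : FusionSystem S} (hTS : T ≤ S)
    (hEF : ∀ (P : Subgroup Ω) (f : Ω → Ω), IsMapOn E P f → IsMapOn F P f) {U P : Subgroup Ω} {f : Ω → Ω}
    (h : CMap E U P f) : CMap F U P f := by
  obtain ⟨h1, h2, h3, D, g, hPD, hUD, hg, hgf, hgU⟩ := h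
  have hle : centralizerIn T U ≤ centralizerIn S U := inf_le_inf_right _ hTS
  exact ⟨hEF P f h1, h2.trans hle, fun x hx => hle (h3 x hx), D, g, hPD, hUD, hEF D g hg, hgf, hgU⟩

theorem CInner.of_subsystem {T : Subgroup Ω} {E : FusionSystem T} {F : FusionSystem S} (hTS : T ≤ S)
    (hEF : ∀ (P : Subgroup Ω) (f : Ω → Ω), IsMapOn E P f → IsMapOn F P f) {U : Subgroup Ω} {p : ℕ}
    (h : CInner F U p) : CInner E U p :=
  fun P f hf hfP => h P f (hf.of_subsystem hTS hEF) hfP

theorem mem_centralizerHom_of_cmap {F : FusionSystem S} {U P : Subgroup Ω}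
    {φ : P →* Ω} (h : CMap F U P (extHom φ)) : φ ∈ F.centralizerHom U P := by
  obtain ⟨h1, hPN, hφN, D, g, hPD, hUD, hg, hgφ, hgU⟩ := h
  have hφ : φ ∈ F.Hom P := (mem_hom_iff_isMapOn F φ).2 h1
  have hle : P ⊔ U ≤ D := sup_le hPD hUD
  obtain ⟨ψ, hψ, hψg⟩ := hg.mono hle
  refine ⟨hφ, hPN, fun x => ?_, ψ, hψ, fun x => ?_, fun x => ?_⟩
  · have := hφN x x.2
    rwa [extHom_coe] at this
  · rw [hψg]
    show g (x : Ω) = φ x
    rw [hgφ x x.2, extHom_coe]
  · rw [hψg]
    exact hgU x x.2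

/-- if the centralizer system of `U` has only automorphisms of `p`-power order then `CInner` holds -/
theorem cInner_of_centralizerSystem {F : FusionSystem S} {U : Subgroup Ω}
    {C : FusionSystem (centralizerIn S U)} (hC : F.IsCentralizerSystem U C) {p : ℕ} (h : PInner C p) :
    CInner F U p := by
  intro P f hf hfP
  obtain ⟨φ, hφ, hφf⟩ := hf.1
  have h2 : CMap F U P (extHom φ) := by
    obtain ⟨h1, hPN, hφN, D, g, hPD, hUD, hg, hgφ, hgU⟩ := hf
    refine ⟨h1.congr (fun x hx => by rw [extHom_apply φ hx, hφf]), hPN,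
      fun x hx => by rw [extHom_apply φ hx, hφf]; exact hφN x hx, D, g, hPD, hUD, hg,
      fun x hx => by rw [hgφ x hx, extHom_apply φ hx, hφf], hgU⟩
  have h3 : φ ∈ C.Hom P := by
    rw [hC P]
    exact mem_centralizerHom_of_cmap h2
  exact h P f ⟨φ, h3, hφf⟩ hfP

end Cfsg.Agent.Lib.Helper84_ThCent
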