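import Cfsg.Agent.Lib.Helper88_KLB6
import Cfsg.Agent.Lib.Helper84_ThCent
import Cfsg.Agent.Lib.Helper72_JAloc
import Cfsg.Agent.Lib.Helper72_ClassPow3
import Cfsg.Agent.Lib.Helper88_Essential

/-!
Helper library (helper72): basic lemmas for the generation theorem
`F = ⟨C_F(℧¹(Z(S))), N_F(J(S))⟩` (S5220).
-/

set_option autoImplicit false

universe u

namespace Cfsg.Agent.Lib.Helper72_Gen

open Cfsg Cfsg.FusionSystem Cfsg.Agent.Lib.Helper85_Fusion Cfsg.Agent.Lib.Helper87_Alperin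
  Cfsg.Agent.Lib.Helper87_Alperin2 Cfsg.Agent.Lib.Helper87_PInner Cfsg.Agent.Lib.Helper88_KLB1
  Cfsg.Agent.Lib.Helper88_KLB2 Cfsg.Agent.Lib.Helper84_ThCent Cfsg.Agent.Lib.Helper72_ClassPow
  Cfsg.Agent.Lib.Helper87_GTTransport

section Basic

variable {Ω : Type u} [Group Ω] {S : Subgroup Ω}

/-- `C_T(J(T)) ≤ J(T)` for the abelian-version Thompson subgroup. -/
theorem mem_WJ_of_centralizes (T : Subgroup Ω) [Finite T] {x : Ω} (hx : x ∈ T)
    (hc : x ∈ Subgroup.centralizer ((Cfsg.thompsonSubgroupAOf T : Subgroup Ω) : Set Ω)) :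
    x ∈ Cfsg.thompsonSubgroupAOf T := by
  obtain ⟨A₀, hA₀⟩ := Cfsg.Agent.Lib.Helper50_CL2.exists_maxAbelian (G := T)
  have h1 := Cfsg.Agent.Lib.Helper50_CL2.centralizer_eq_of_mem_maxAbelian hA₀
  have hx' : (⟨x, hx⟩ : T) ∈ Subgroup.centralizer (A₀ : Set T) := by
    rw [Subgroup.mem_centralizer_iff]
    intro a ha
    apply Subtype.ext
    have haJ : (a : Ω) ∈ Cfsg.thompsonSubgroupAOf T := ⟨a, (le_sSup hA₀) ha, rfl⟩
    exact Subgroup.mem_centralizer_iff.mp hc a haJ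
  rw [h1] at hx'
  exact ⟨⟨x, hx⟩, (le_sSup hA₀) hx', rfl⟩

/-- `Z(S) ≤ Z(T)` whenever `Z(S) ≤ T ≤ S`, so `℧¹(Z(S)) ≤ ℧¹(Z(T))`. -/
theorem FP_le_FP (p : ℕ) {T : Subgroup Ω} (hTS : T ≤ S)
    (hZ : S ⊓ Subgroup.centralizer (S : Set Ω) ≤ T) : FP p 1 S ≤ FP p 1 T := by
  apply powerClosure_mono
  intro z hz
  refine Subgroup.mem_inf.mpr ⟨hZ hz, ?_⟩
  rw [Subgroup.mem_centralizer_iff]
  intro t ht
  exact Subgroup.mem_centralizer_iff.mp hz.2 t (hTS ht)

theorem center_le_normalizerIn (S Y : Subgroup Ω) (hYS : Y ≤ S) :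
    S ⊓ Subgroup.centralizer (S : Set Ω) ≤ normalizerIn S Y := by
  intro z hz
  refine Subgroup.mem_inf.mpr ⟨hz.1, ?_⟩
  rw [Subgroup.mem_normalizer_iff]
  intro y
  have key : ∀ w ∈ S, z * w * z⁻¹ = w := by
    intro w hw
    have := Subgroup.mem_centralizer_iff.mp hz.2 w hw
    rw [← this]
    group
  constructor
  · intro hy
    rw [key y (hYS hy)]
    exact hy
  · intro hy
    have h1 : z * y * z⁻¹ ∈ S := hYS hy
    have h2 : y ∈ S := by
      have : y = z⁻¹ * (z * y * z⁻¹) * z := by group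
      rw [this]
      exact S.mul_mem (S.mul_mem (S.inv_mem hz.1) h1) hz.1
    rw [key y h2] at hy
    exact hy

theorem FP_le_center (p : ℕ) (S : Subgroup Ω) :
    FP p 1 S ≤ S ⊓ Subgroup.centralizer (S : Set Ω) := FP_le p 1 S

/-- A map of the centralizer system of `℧¹(Z(T))` in a subsystem over `T ≤ S` is a map of the
centralizer system of `℧¹(Z(S))` in `F`. -/
theorem cmap_of_cmap_sub (p : ℕ) {T : Subgroup Ω} {N : FusionSystem T} {F : FusionSystem S} (hTS : T ≤ S)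
    (hZ : S ⊓ Subgroup.centralizer (S : Set Ω) ≤ T)
    (hNF : ∀ (P : Subgroup Ω) (f : Ω → Ω), IsMapOn N P f → IsMapOn F P f) {P : Subgroup Ω} {f : Ω → Ω}
    (h : CMap N (FP p 1 T) P f) : CMap F (FP p 1 S) P f := by
  obtain ⟨h1, h2, h3, D, g, hPD, hUD, hg, hgf, hgU⟩ := h
  have hVV : FP p 1 S ≤ FP p 1 T := FP_le_FP p hTS hZ
  have hcen : ∀ x ∈ S, x ∈ centralizerIn S (FP p 1 S) := by
    intro x hx
    refine Subgroup.mem_inf.mpr ⟨hx, ?_⟩
    rw [Subgroup.mem_centralizer_iff]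
    intro v hv
    exact (Subgroup.mem_centralizer_iff.mp (FP_le_center p S hv).2 x hx).symm
  have hf : IsMapOn F P f := hNF P f h1
  exact ⟨hf, fun x hx => hcen x (hf.le hx), fun x hx => hcen _ (hf.mem hx), D, g, hPD,
    hVV.trans hUD, hNF D g hg, hgf, fun x hx => hgU x (hVV hx)⟩

/-- A map of the system fixing `℧¹(Z(S))` elementwise, whose source contains it, is a map of the
centralizer system. -/
theorem cmap_of_fixes (p : ℕ) {F : FusionSystem S} {P : Subgroup Ω} {f : Ω → Ω}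
    (hf : IsMapOn F P f) (hVP : FP p 1 S ≤ P) (hfix : ∀ x ∈ FP p 1 S, f x = x) :
    CMap F (FP p 1 S) P f := by
  have hcen : ∀ x ∈ S, x ∈ centralizerIn S (FP p 1 S) := by
    intro x hx
    refine Subgroup.mem_inf.mpr ⟨hx, ?_⟩
    rw [Subgroup.mem_centralizer_iff]
    intro v hv
    exact (Subgroup.mem_centralizer_iff.mp (FP_le_center p S hv).2 x hx).symm
  exact ⟨hf, fun x hx => hcen x (hf.le hx), fun x hx => hcen _ (hf.mem hx), P, f, le_rfl, hVP, hf,
    fun _ _ => rfl, hfix⟩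

theorem CMap.mono {F : FusionSystem S} {U P R : Subgroup Ω} {f : Ω → Ω} (h : CMap F U P f)
    (hRP : R ≤ P) : CMap F U R f := by
  obtain ⟨h1, h2, h3, D, g, hPD, hUD, hg, hgf, hgU⟩ := h
  exact ⟨h1.mono hRP, hRP.trans h2, fun x hx => h3 x (hRP hx), D, g, hRP.trans hPD, hUD, hg,
    fun x hx => hgf x (hRP hx), hgU⟩

end Basic

section Fusion

variable {Ω : Type u} [Group Ω] {S : Subgroup Ω}

/-- A subgroup `X` of a subgroup `Q` normal in the system that is carried into itself by every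
map of the system from `Q` to `Q` is itself normal in the system (in the form: every map of the
system is a map of the normalizer system of `X`). -/
theorem controls_of_char [Finite S] {F : FusionSystem S} {Q X : Subgroup Ω} (hQ : F.IsNormal Q)
    (hXQ : X ≤ Q)
    (hchar : ∀ g : Ω → Ω, IsMapOn F Q g → (∀ x ∈ Q, g x ∈ Q) → ∀ x ∈ X, g x ∈ X) :
    Controls F X := by
  intro P f hf
  have hQS : Q ≤ S := hQ.1
  have hXS : X ≤ S := hXQ.trans hQS
  have hfinX : Finite X := Helper84_FusionRS.finite_of_le_S hXS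
  have hSQ : S ≤ Subgroup.normalizer (Q : Set Ω) := Helper84_FusionNormal.IsNormal.le_normalizer hQ
  have hSX : S ≤ Subgroup.normalizer (X : Set Ω) := by
    intro s hs
    have hconj : IsMapOn F Q (fun x => s * x * s⁻¹) := IsMapOn.conj F hQS hs
    have hQQ : ∀ x ∈ Q, s * x * s⁻¹ ∈ Q := fun x hx =>
      (Subgroup.mem_normalizer_iff.1 (hSQ hs) x).1 hx
    exact Subgroup.mem_normalizer_fintype (fun x hx => hchar _ hconj hQQ x hx)
  obtain ⟨-, -, -, g, hg1, hg2, hg3⟩ := controls_of_isNormal hQ P f hf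
  have hgQ : ∀ x ∈ Q, g x ∈ Q := fun x hx => (hg3 _).2 ⟨x, hx, rfl⟩
  have hgX : ∀ x ∈ X, g x ∈ X := hchar g (hg1.mono le_sup_right) hgQ
  have hPS : P ≤ S := hf.le
  have hle : P ⊔ X ≤ P ⊔ Q := sup_le le_sup_left (hXQ.trans le_sup_right)
  have hg' : IsMapOn F (P ⊔ X) g := hg1.mono hle
  refine ⟨hf, le_inf hPS (hPS.trans hSX), fun x hx => ⟨hf.mem hx, hSX (hf.mem hx)⟩, g, hg', hg2,
    fun y => ⟨?_, ?_⟩⟩
  · intro hy
    exact exists_preimage_of_mapsTo hg' le_sup_right hgX y hy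
  · rintro ⟨x, hx, rfl⟩
    exact hgX x hx

/-- If `Q` is normal in `F` and `S` normalizes `Y`, then `Q` is normal in `N_F(Y)`. -/
theorem isNormal_normalizerSystem_of_isNormal {F : FusionSystem S} {Q Y : Subgroup Ω}
    (hQ : F.IsNormal Q) (hT : normalizerIn S Y = S) {N : FusionSystem (normalizerIn S Y)}
    (hN : F.IsNormalizerSystem Y N) : N.IsNormal Q := by
  have hQS : Q ≤ S := hQ.1
  have hSQ : S ≤ Subgroup.normalizer (Q : Set Ω) := Helper84_FusionNormal.IsNormal.le_normalizer hQ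
  have hQT : Q ≤ normalizerIn S Y := hT.symm ▸ hQS
  apply isNormal_of_controls hQT
  intro P f hf
  have h1 := (Helper87_GTMain.isMapOn_normalizerSystem_iff hN P f).1 hf
  obtain ⟨hfF, hPT, hfT, g, hg1, hg2, hg3⟩ := h1
  obtain ⟨-, -, -, g₂, hg21, hg22, hg23⟩ := controls_of_isNormal hQ (P ⊔ Y) g hg1
  have hDS : (P ⊔ Y) ⊔ Q ≤ S := hg21.le
  have hle1 : P ⊔ Q ≤ (P ⊔ Y) ⊔ Q := sup_le (le_sup_left.trans le_sup_left) le_sup_right
  have hle2 : (P ⊔ Q) ⊔ Y ≤ (P ⊔ Y) ⊔ Q := sup_le hle1 (le_sup_right.trans le_sup_left)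
  have hTeq : ∀ x, x ∈ S → x ∈ normalizerIn S Y := fun x hx => hT.symm ▸ hx
  have hmap : IsMapOn N (P ⊔ Q) g₂ := by
    rw [Helper87_GTMain.isMapOn_normalizerSystem_iff hN]
    refine ⟨hg21.mono hle1, fun x hx => hTeq x (hDS (hle1 hx)),
      fun x hx => hTeq _ (hg21.mem (hle1 hx)), g₂, hg21.mono hle2, fun _ _ => rfl, fun y => ?_⟩
    constructor
    · intro hy
      obtain ⟨x, hx, rfl⟩ := (hg3 y).1 hy
      exact ⟨x, hx, hg22 x ((le_sup_right : Y ≤ P ⊔ Y) hx)⟩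
    · rintro ⟨x, hx, rfl⟩
      rw [hg22 x ((le_sup_right : Y ≤ P ⊔ Y) hx)]
      exact (hg3 _).2 ⟨x, hx, rfl⟩
  have hPS : P ≤ S := hfF.le
  refine ⟨hf, fun x hx => ⟨hPT hx, hSQ (hPS hx)⟩, fun x hx => ⟨hfT x hx, hSQ (hfF.mem hx)⟩, g₂, hmap,
    fun x hx => ?_, hg23⟩
  rw [hg22 x ((le_sup_left : P ≤ P ⊔ Y) hx), hg2 x hx]

/-- Fully automized and receptive subgroups are fully normalized. -/
theorem isFullyNormalized_of_fa_receptive [Finite S] {p : ℕ} [Fact p.Prime] (hS : IsPGroup p S)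
    (F : FusionSystem S) {Q : Subgroup Ω} (hQa : F.IsFullyAutomized p Q) (hQr : F.IsReceptive Q) :
    F.IsFullyNormalized Q := by
  refine ⟨hQa.1, fun Q' hQQ' => ?_⟩
  obtain ⟨ψ, hψ, hψN, -⟩ :=
    Helper84_FusionSat.exists_normalizer_map hS F hQa hQr (isConj_symm F hQQ')
  have : Finite ↥(normalizerIn S Q) := Helper84_FusionRS.finite_of_le_S inf_le_left
  refine Nat.card_le_card_of_injective (fun x => (⟨ψ x, hψN x⟩ : ↥(normalizerIn S Q))) ?_
  intro a b hab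
  exact F.injective_of_mem hψ (congrArg Subtype.val hab)

/-- Transport of a map `f` on `P ≤ M` along a map `t` on `M` that is a map of both `F` and `E`: if the
transported map `t f t⁻¹` on `t(P)` is a map of `E`, so is `f`. -/
theorem isMapOn_of_transport {F E : FusionSystem S} {M : Subgroup Ω} {t : Ω → Ω}
    (ht : IsMapOn F M t) (htE : IsMapOn E M t) {P : Subgroup Ω} (hPM : P ≤ M) {f : Ω → Ω}
    (hf : IsMapOn F P f) (hfM : ∀ x ∈ P, f x ∈ M)
    (hrec : ∀ f' : Ω → Ω, IsMapOn F (imgSub ht P hPM) f' → (∀ x ∈ P, f' (t x) = t (f x)) →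
      IsMapOn E (imgSub ht P hPM) f') : IsMapOn E P f := by
  obtain ⟨s, hs, hst, hsD, hts⟩ := ht.inv (Q := imgSub ht M le_rfl) (fun y => Iff.rfl)
  obtain ⟨sE, hsE, hsEt, -, -⟩ := htE.inv (Q := imgSub ht M le_rfl) (fun y => Iff.rfl)
  set P' : Subgroup Ω := imgSub ht P hPM with hP'def
  have hP'img : P' ≤ imgSub ht M le_rfl := imgSub_mono ht hPM le_rfl hPM
  have hsP' : ∀ y ∈ P', s y ∈ P := by
    rintro _ ⟨x, hx, rfl⟩
    rw [hst x (hPM hx)]
    exact hx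
  set f' : Ω → Ω := fun y => t (f (s y)) with hf'def
  have hf' : IsMapOn F P' f' :=
    ((hs.mono hP'img).comp hf hsP').comp ht (fun y hy => hfM _ (hsP' y hy))
  have hf't : ∀ x ∈ P, f' (t x) = t (f x) := by
    intro x hx
    show t (f (s (t x))) = t (f x)
    rw [hst x (hPM hx)]
  have hf'E : IsMapOn E P' f' := hrec f' hf' hf't
  have h1 : IsMapOn E P (fun x => sE (f' (t x))) :=
    ((htE.mono hPM).comp hf'E (fun x hx => ⟨x, hx, rfl⟩)).comp hsE
      (fun x hx => by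
        show f' (t x) ∈ imgSub ht M le_rfl
        rw [hf't x hx]
        exact ⟨f x, hfM x hx, rfl⟩)
  refine h1.congr fun x hx => ?_
  show sE (f' (t x)) = f x
  rw [hf't x hx, hsEt _ (hfM x hx)]

end Fusion

section SizeSub

variable {Ω : Type u} [Group Ω] {S : Subgroup Ω}

open Cfsg.Agent.Lib.Helper88_Essential Cfsg.Agent.Lib.Helper88_Centric

theorem isMapOn_subsystemOf_iff (F : FusionSystem S) (G : Subgroup Ω → (Ω → Ω) → Prop)
    (hcongr : ∀ {P : Subgroup Ω} {f g : Ω → Ω}, G P f → (∀ x ∈ P, f x = g x) → G P g)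
    (hconj : ∀ {P : Subgroup Ω} {a : Ω}, P ≤ S → a ∈ S → G P (fun x => a * x * a⁻¹))
    (hcomp : ∀ {P R : Subgroup Ω} {f g : Ω → Ω}, IsMapOn F P f → G P f → IsMapOn F R g → G R g →
      (∀ x ∈ P, f x ∈ R) → G P (g ∘ f))
    (hinv : ∀ {P P' : Subgroup Ω} {f g : Ω → Ω}, IsMapOn F P f → G P f → IsImage P f P' →
      IsMapOn F P' g → (∀ x ∈ P, g (f x) = x) → G P' g) (P : Subgroup Ω) (f : Ω → Ω) :
    IsMapOn (subsystemOf F G hcongr hconj hcomp hinv) P f ↔ IsMapOn F P f ∧ G P f := by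
  constructor
  · rintro ⟨φ, ⟨hφ, hG⟩, hφf⟩
    exact ⟨⟨φ, hφ, hφf⟩, hcongr hG (fun x hx => by rw [extHom_apply φ hx]; exact hφf ⟨x, hx⟩)⟩
  · rintro ⟨⟨φ, hφ, hφf⟩, hG⟩
    exact ⟨φ, ⟨hφ, hcongr hG (fun x hx => by rw [extHom_apply φ hx]; exact (hφf ⟨x, hx⟩).symm)⟩, hφf⟩

/-- The subsystem of `N` (over `T ≤ S`) of the maps that, when defined on a subgroup of order at least
`r`, are maps of `E`. -/
def sizeSub [Finite S] {T : Subgroup Ω} (N : FusionSystem T) (E : FusionSystem S) (hTS : T ≤ S) (r : ℕ) :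
    FusionSystem T :=
  subsystemOf N (fun P f => r ≤ Nat.card P → IsMapOn E P f)
    (fun h hfg hr => (h hr).congr hfg)
    (fun hP ha _ => IsMapOn.conj E (hP.trans hTS) (hTS ha))
    (by
      intro P R f g hf hGf hg hGg hmaps hr
      have hRS : R ≤ S := hg.le.trans hTS
      have hfinR : Finite R := Helper84_FusionRS.finite_of_le_S hRS
      have hle : Nat.card P ≤ Nat.card R := by
        refine Nat.card_le_card_of_injective (fun x : P => (⟨f x, hmaps x x.2⟩ : R)) ?_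
        intro a b hab
        exact Subtype.ext (hf.injOn a.2 b.2 (congrArg Subtype.val hab))
      exact (hGf hr).comp (hGg (hr.trans hle)) hmaps)
    (by
      intro P P' f g hf hGf himg hg hgf hr
      have hPS : P ≤ S := hf.le.trans hTS
      have hfinP : Finite P := Helper84_FusionRS.finite_of_le_S hPS
      have hle : Nat.card P' ≤ Nat.card P := by
        have hsurj : Function.Surjective (fun x : P => (⟨f x, (himg _).2 ⟨x, x.2, rfl⟩⟩ : P')) := by
          rintro ⟨y, hy⟩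
          obtain ⟨x, hx, rfl⟩ := (himg y).1 hy
          exact ⟨⟨x, hx⟩, rfl⟩
        exact Nat.card_le_card_of_surjective _ hsurj
      have hfE : IsMapOn E P f := hGf (hr.trans hle)
      obtain ⟨g₀, hg₀, hg₀f, -, -⟩ := hfE.inv (Q := P') himg
      refine hg₀.congr fun y hy => ?_
      obtain ⟨x, hx, rfl⟩ := (himg y).1 hy
      rw [hg₀f x hx, hgf x hx])

theorem isMapOn_sizeSub_iff [Finite S] {T : Subgroup Ω} (N : FusionSystem T) (E : FusionSystem S)
    (hTS : T ≤ S) (r : ℕ) (P : Subgroup Ω) (f : Ω → Ω) :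
    IsMapOn (sizeSub N E hTS r) P f ↔ IsMapOn N P f ∧ (r ≤ Nat.card P → IsMapOn E P f) := by
  constructor
  · rintro ⟨φ, ⟨hφ, hG⟩, hφf⟩
    refine ⟨⟨φ, hφ, hφf⟩, fun hr => ?_⟩
    exact (hG hr).congr (fun x hx => by rw [extHom_apply φ hx]; exact hφf ⟨x, hx⟩)
  · rintro ⟨⟨φ, hφ, hφf⟩, hG⟩
    refine ⟨φ, ⟨hφ, fun hr => ?_⟩, hφf⟩
    exact (hG hr).congr (fun x hx => by rw [extHom_apply φ hx]; exact (hφf ⟨x, hx⟩).symm)

/-- Strongly closed subgroups reflect membership along maps of the system. -/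
theorem mem_of_map_mem_stronglyClosed {F : FusionSystem S} {Q M : Subgroup Ω} (hQ : F.StronglyClosed Q)
    {t : Ω → Ω} (ht : IsMapOn F M t) {x : Ω} (hx : x ∈ M) (htx : t x ∈ Q) : x ∈ Q := by
  obtain ⟨s, hs, hst, -, -⟩ := ht.inv (Q := imgSub ht M le_rfl) (fun y => Iff.rfl)
  have hs' : IsMapOn F (Q ⊓ imgSub ht M le_rfl) s := hs.mono inf_le_right
  obtain ⟨φ, hφ, hφs⟩ := hs'
  have hy : t x ∈ Q ⊓ imgSub ht M le_rfl := ⟨htx, x, hx, rfl⟩
  have h1 := hQ.2 _ inf_le_left φ hφ ⟨t x, hy⟩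
  rw [hφs, hst x hx] at h1
  exact h1

theorem map_mem_stronglyClosed {F : FusionSystem S} {Q M : Subgroup Ω} (hQ : F.StronglyClosed Q)
    {t : Ω → Ω} (ht : IsMapOn F M t) {x : Ω} (hx : x ∈ M) (hxQ : x ∈ Q) : t x ∈ Q := by
  obtain ⟨φ, hφ, hφt⟩ := ht.mono (inf_le_right : Q ⊓ M ≤ M)
  have h1 := hQ.2 _ inf_le_left φ hφ ⟨x, hxQ, hx⟩
  rw [hφt] at h1
  exact h1

end SizeSub

end Cfsg.Agent.Lib.Helper72_Gen
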