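import Cfsg.Agent.Lib.Helper72_JAloc
import Cfsg.Agent.Lib.Helper72_ClassPow3

/-!
Helper library (helper72): the `p`-group part of the generation theorem (S5220).  If `Q` is a normal
subgroup of the finite `p`-group `S` that does not contain `J(S)`, then some element of `S` outside `Q`
centralizes `℧¹(Z(Q))`.
-/

set_option autoImplicit false

universe u

namespace Cfsg.Agent.Lib.Helper72_Gen

open Cfsg Cfsg.Agent.Lib.Helper72_AbelianJ Cfsg.Agent.Lib.Helper72_ClassPow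
open scoped commutatorElement

section Pow

variable {G : Type*} [Group G]

/-- An element `g` normalizing the abelian subgroup `Z`, acting quadratically on it, whose `p`-th power
centralizes `Z`, centralizes all `p`-th powers of elements of `Z`. -/
theorem conj_pow_eq_of_quadratic (Z : Subgroup G) (hZc : ∀ a ∈ Z, ∀ b ∈ Z, a * b = b * a) (g : G)
    (hgZ : ∀ v ∈ Z, g * v * g⁻¹ ∈ Z) (hquad : ∀ v ∈ Z, ⁅⁅v, g⁆, g⁆ = 1) (p : ℕ)
    (hgp : ∀ v ∈ Z, g ^ p * v * (g ^ p)⁻¹ = v) : ∀ v ∈ Z, g * v ^ p * g⁻¹ = v ^ p := by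
  intro v hv
  set u : G := g * v * g⁻¹ * v⁻¹ with hu
  have huZ : u ∈ Z := Z.mul_mem (hgZ v hv) (Z.inv_mem hv)
  have hgv : g * v * g⁻¹ = u * v := by rw [hu]; group
  have hgu : g * u * g⁻¹ = u := by
    have h1 := hquad v hv
    rw [commutatorElement_eq_one_iff_mul_comm] at h1
    have h2 : ⁅v, g⁆ = u⁻¹ := by rw [hu, commutatorElement_def]; group
    rw [h2] at h1
    have h3 : g * u = u * g := by
      have : g * u = u * (u⁻¹ * g) * u := by group
      rw [this, h1]; group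
    rw [h3]; group
  have hk : ∀ k : ℕ, g ^ k * v * (g ^ k)⁻¹ = u ^ k * v := by
    intro k
    induction k with
    | zero => simp
    | succ k ih =>
      have h1 : g ^ (k + 1) * v * (g ^ (k + 1))⁻¹ = g * (g ^ k * v * (g ^ k)⁻¹) * g⁻¹ := by
        rw [pow_succ']; group
      have h2 : g * (u ^ k * v) * g⁻¹ = (g * u * g⁻¹) ^ k * (g * v * g⁻¹) := by
        rw [conj_pow]; group
      rw [h1, ih, h2, hgu, hgv, pow_succ]; group
  have hup : u ^ p = 1 := by
    have h1 := hk p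
    rw [hgp v hv] at h1
    exact (mul_eq_right.1 h1.symm)
  have huv : Commute u v := hZc u huZ v hv
  calc g * v ^ p * g⁻¹ = (g * v * g⁻¹) ^ p := by rw [conj_pow]
    _ = (u * v) ^ p := by rw [hgv]
    _ = u ^ p * v ^ p := huv.mul_pow p
    _ = v ^ p := by rw [hup, one_mul]

theorem mem_centralizer_powerClosure (Z : Subgroup G) (g : G) (p n : ℕ)
    (h : ∀ v ∈ Z, g * v ^ (p ^ n) * g⁻¹ = v ^ (p ^ n)) :
    g ∈ Subgroup.centralizer ((Cfsg.powerClosure p n Z : Subgroup G) : Set G) := by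
  rw [Subgroup.mem_centralizer_iff]
  intro x hx
  unfold Cfsg.powerClosure at hx
  induction hx using Subgroup.closure_induction with
  | mem y hy =>
    obtain ⟨v, hv, rfl⟩ := hy
    have := h v hv
    calc v ^ (p ^ n) * g = (g * v ^ (p ^ n) * g⁻¹) * g := by rw [this]
      _ = g * v ^ (p ^ n) := by group
  | one => simp
  | mul a b _ _ ha hb => rw [mul_assoc, hb, ← mul_assoc, ha, mul_assoc]
  | inv a _ ha =>
    have : a⁻¹ * g = a⁻¹ * (g * a) * a⁻¹ := by group
    rw [this, ← ha]; group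

end Pow

section PGroup

variable {Γ : Type u} [Group Γ] [Finite Γ] {p : ℕ} [Fact p.Prime]

/-- In a finite `p`-group `Γ` with a normal subgroup `P` not containing `J(Γ)`, some element outside `P`
acts quadratically on `Z(P)` (together with all its powers). -/
theorem exists_quadratic_pgroup (hΓ : IsPGroup p Γ) (P : Subgroup Γ) [hPn : P.Normal]
    (hJ : ¬ Cfsg.thompsonSubgroupA Γ ≤ P) :
    ∃ g : Γ, g ∉ P ∧
      ∀ v ∈ P ⊓ Subgroup.centralizer ((P : Subgroup Γ) : Set Γ),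
        ∀ i j : ℤ, ⁅⁅v, g ^ i⁆, g ^ j⁆ = 1 := by
  set B : Subgroup Γ := P ⊓ Subgroup.centralizer (P : Set Γ) with hB
  have hBn : B.Normal := inferInstance
  have hBc : ∀ a ∈ B, ∀ b ∈ B, a * b = b * a := by
    intro a ha b hb
    exact (Subgroup.mem_centralizer_iff.mp hb.2 a ha.1)
  have hBcomm : IsMulCommutative B := ⟨⟨fun a b => Subtype.ext (hBc a a.2 b b.2)⟩⟩
  have hPB : P ≤ Subgroup.centralizer (B : Set Γ) := by
    intro y hy
    rw [Subgroup.mem_centralizer_iff]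
    intro b hb
    exact (Subgroup.mem_centralizer_iff.mp hb.2 y hy).symm
  -- an abelian subgroup of largest order outside `P`
  have hexA : ∃ A ∈ Cfsg.maxAbelianSubgroups Γ, ¬ A ≤ P := by
    by_contra hcon
    push Not at hcon
    apply hJ
    unfold Cfsg.thompsonSubgroupA
    exact sSup_le hcon
  obtain ⟨A, hA, hAP⟩ := hexA
  have hAmax : IsMaxAbIn (⊤ : Subgroup Γ) A := ⟨le_top, hA.1, fun D _ hD => hA.2 D hD⟩
  have hTp : IsPGroup p (⊤ : Subgroup Γ) := hΓ.to_subgroup ⊤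
  have hex : ∃ Q : Subgroup Γ, (∀ v ∈ B, ∀ x ∈ Q, ∀ y ∈ Q, ⁅⁅v, x⁆, y⁆ = 1) ∧
      ∃ g ∈ Q, g ∉ P := by
    by_cases hAB : A ≤ Subgroup.centralizer (B : Set Γ)
    · refine ⟨A, ?_, ?_⟩
      · intro v hv x hx y _
        have h1 : ⁅v, x⁆ = 1 := by
          rw [commutatorElement_eq_one_iff_mul_comm]
          exact (Subgroup.mem_centralizer_iff.mp (hAB hx) v hv)
        rw [h1, commutatorElement_one_left]
      · exact SetLike.not_le_iff_exists.mp hAP
    · obtain ⟨Q, -, hQq, hQR, -⟩ := quad_offender (p := p) hBcomm le_top hTp hAmax hAB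
      refine ⟨Q, hQq, ?_⟩
      obtain ⟨g, hgQ, hgC⟩ := SetLike.not_le_iff_exists.mp hQR
      exact ⟨g, hgQ, fun hgP => hgC (hPB hgP)⟩
  obtain ⟨Q, hQq, g, hgQ, hgP⟩ := hex
  exact ⟨g, hgP, fun v hv i j => hQq v hv _ (Q.zpow_mem hgQ i) _ (Q.zpow_mem hgQ j)⟩

/-- In a finite `p`-group `Γ` with a normal subgroup `P` not containing `J(Γ)`, some element outside `P`
centralizes `℧¹(Z(P))`. -/
theorem exists_centralizes_FP_pgroup (hΓ : IsPGroup p Γ) (P : Subgroup Γ) [hPn : P.Normal]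
    (hJ : ¬ Cfsg.thompsonSubgroupA Γ ≤ P) :
    ∃ g : Γ, g ∉ P ∧ g ∈ Subgroup.centralizer ((FP p 1 P : Subgroup Γ) : Set Γ) := by
  classical
  obtain ⟨g, hgP, hquad⟩ := exists_quadratic_pgroup hΓ P hJ
  -- the last power of `g` outside `P`
  have hex : ∃ k : ℕ, g ^ (p ^ k) ∈ P := by
    obtain ⟨m, hm⟩ := hΓ g
    exact ⟨m, hm ▸ P.one_mem⟩
  have hk0 : Nat.find hex ≠ 0 := by
    intro h0
    have := Nat.find_spec hex
    rw [h0, pow_zero, pow_one] at this
    exact hgP this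
  obtain ⟨k, hk⟩ := Nat.exists_eq_succ_of_ne_zero hk0
  have hk1 : g ^ (p ^ k) ∉ P := Nat.find_min hex (by omega)
  have hk2 : (g ^ (p ^ k)) ^ p ∈ P := by
    have := Nat.find_spec hex
    rw [hk, Nat.succ_eq_add_one, pow_succ, pow_mul] at this
    exact this
  set g' : Γ := g ^ (p ^ k) with hg'
  set Z : Subgroup Γ := P ⊓ Subgroup.centralizer (P : Set Γ) with hZ
  have hZn : Z.Normal := inferInstance
  have hZc : ∀ a ∈ Z, ∀ b ∈ Z, a * b = b * a := by
    intro a ha b hb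
    exact (Subgroup.mem_centralizer_iff.mp hb.2 a ha.1)
  have hq' : ∀ v ∈ Z, ⁅⁅v, g'⁆, g'⁆ = 1 := by
    intro v hv
    have := hquad v hv ((p ^ k : ℕ) : ℤ) ((p ^ k : ℕ) : ℤ)
    rw [zpow_natCast] at this
    exact this
  have hgp : ∀ v ∈ Z, g' ^ p * v * (g' ^ p)⁻¹ = v := by
    intro v hv
    have := Subgroup.mem_centralizer_iff.mp hv.2 (g' ^ p) hk2
    rw [this]; group
  have hconj := conj_pow_eq_of_quadratic Z hZc g' (fun v hv => hZn.conj_mem v hv g') hq' p hgp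
  refine ⟨g', hk1, ?_⟩
  unfold FP
  apply mem_centralizer_powerClosure
  intro v hv
  rw [pow_one]
  exact hconj v hv

end PGroup

section Ambient

variable {Ω : Type u} [Group Ω] {p : ℕ} [Fact p.Prime]

open Cfsg.Agent.Lib.Helper34_NPC

/-- If `Q ≤ S` is normalized by the finite `p`-group `S` and does not contain `J(S)`, some element of
`S` outside `Q` centralizes `℧¹(Z(Q))`. -/
theorem exists_centralizes_FP (S : Subgroup Ω) [Finite S] (hS : IsPGroup p S) (Q : Subgroup Ω)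
    (hQS : Q ≤ S) (hSQ : S ≤ Subgroup.normalizer (Q : Set Ω))
    (hJ : ¬ Cfsg.thompsonSubgroupAOf S ≤ Q) :
    ∃ g ∈ S, g ∉ Q ∧ g ∈ Subgroup.centralizer ((FP p 1 Q : Subgroup Ω) : Set Ω) := by
  have hPn : (Q.subgroupOf S).Normal := (Subgroup.normal_subgroupOf_iff_le_normalizer hQS).2 hSQ
  have hJ' : ¬ Cfsg.thompsonSubgroupA S ≤ Q.subgroupOf S := by
    intro h
    apply hJ
    rintro _ ⟨y, hy, rfl⟩
    exact Subgroup.mem_subgroupOf.1 (h hy)
  obtain ⟨g, hgP, hgc⟩ := exists_centralizes_FP_pgroup hS (Q.subgroupOf S) hJ'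
  refine ⟨g, g.2, fun h => hgP (Subgroup.mem_subgroupOf.2 h), ?_⟩
  unfold FP
  apply mem_centralizer_powerClosure
  intro v hv
  have hvS : v ∈ S := hQS hv.1
  have hv' : (⟨v, hvS⟩ : S) ∈ Q.subgroupOf S ⊓
      Subgroup.centralizer ((Q.subgroupOf S : Subgroup S) : Set S) := by
    refine Subgroup.mem_inf.mpr ⟨Subgroup.mem_subgroupOf.2 hv.1, ?_⟩
    rw [Subgroup.mem_centralizer_iff]
    intro w hw
    apply Subtype.ext
    exact Subgroup.mem_centralizer_iff.mp hv.2 (w : Ω) (Subgroup.mem_subgroupOf.1 hw)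
  have hmem : (⟨v, hvS⟩ : S) ^ (p ^ 1) ∈ FP p 1 (Q.subgroupOf S) :=
    Subgroup.subset_closure ⟨_, hv', rfl⟩
  have h1 := Subgroup.mem_centralizer_iff.mp hgc _ hmem
  have h2 : v ^ (p ^ 1) * (g : Ω) = (g : Ω) * v ^ (p ^ 1) := by
    have := congrArg Subtype.val h1
    simpa using this
  rw [← h2]; group

/-- If `J(S) ≤ Q ≤ S` then `J(S) = J(Q)`. -/
theorem thompsonSubgroupAOf_eq_of_le_of_le (S : Subgroup Ω) [Finite S] (hS : IsPGroup p S)
    (Q : Subgroup Ω) (hQS : Q ≤ S) (hJ : Cfsg.thompsonSubgroupAOf S ≤ Q) :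
    Cfsg.thompsonSubgroupAOf S = Cfsg.thompsonSubgroupAOf Q := by
  set U : Subgroup S := Q.subgroupOf S with hU
  have hUJ : Cfsg.thompsonSubgroupA S ≤ U := by
    intro y hy
    rw [hU, Subgroup.mem_subgroupOf]
    exact hJ ⟨y, hy, rfl⟩
  have h1 := thompsonSubgroupAOf_eq_of_le (G := S) U hUJ
  have hUp : IsPGroup p U := hS.to_subgroup U
  have h2 := inducedFunctor_map (isCharPFunctor_JA (p := p)) S.subtype U hUp
    (fun x _ hx => by simpa using hx)
  have h3 : U.map S.subtype = Q := by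
    rw [hU, Subgroup.subgroupOf_map_subtype, inf_eq_left.mpr hQS]
  rw [h3, inducedFunctor_JA, inducedFunctor_JA, h1] at h2
  rw [h2]
  rfl

end Ambient

end Cfsg.Agent.Lib.Helper72_Gen
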