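import Cfsg.Agent.Lib.Helper72_Gen1

/-!
Helper library (helper72): the climbing lemma for the generation theorem
`F = ⟨C_F(℧¹(Z(S))), N_F(J(S))⟩` (S5220): the case where `O_p(F)` is not centric.
-/

set_option autoImplicit false

universe u

namespace Cfsg.Agent.Lib.Helper72_Gen

open Cfsg Cfsg.FusionSystem Cfsg.Agent.Lib.Helper85_Fusion Cfsg.Agent.Lib.Helper87_Alperin
  Cfsg.Agent.Lib.Helper87_Alperin2 Cfsg.Agent.Lib.Helper87_PInner Cfsg.Agent.Lib.Helper88_KLB1
  Cfsg.Agent.Lib.Helper88_KLB2 Cfsg.Agent.Lib.Helper84_ThCent Cfsg.Agent.Lib.Helper72_ClassPow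
  Cfsg.Agent.Lib.Helper87_GTTransport Cfsg.Agent.Lib.Helper72_AbelianJ

variable {Ω : Type u} [Group Ω] {S : Subgroup Ω}

/-- The conclusion of the generation theorem for the system `F`: every fusion system over `S` containing
the maps of `C_F(℧¹(Z(S)))` and of `N_F(J(S))` contains the maps of `F`. -/
def GenBy (p : ℕ) (F : FusionSystem S) : Prop :=
  ∀ E : FusionSystem S,
    (∀ (P : Subgroup Ω) (f : Ω → Ω), CMap F (FP p 1 S) P f → IsMapOn E P f) →
    (∀ (P : Subgroup Ω) (f : Ω → Ω), IsNormMapOn F (Cfsg.thompsonSubgroupAOf S) P f → IsMapOn E P f) →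
    ∀ (P : Subgroup Ω) (f : Ω → Ω), IsMapOn F P f → IsMapOn E P f

variable {p : ℕ}

/-- `T` normalizes `J(T)`. -/
theorem le_normalizer_WJ [Fact p.Prime] (T : Subgroup Ω) [Finite T] (hT : IsPGroup p T) :
    T ≤ Subgroup.normalizer ((Cfsg.thompsonSubgroupAOf T : Subgroup Ω) : Set Ω) := by
  have h := Cfsg.Agent.Lib.Helper34_NPC.normalizer_le_normalizer_inducedFunctor
    (isCharPFunctor_JA (p := p)) T hT
  rw [inducedFunctor_JA] at h
  exact Subgroup.le_normalizer.trans h

theorem normalizer_le_normalizer_WJ [Fact p.Prime] (T : Subgroup Ω) [Finite T] (hT : IsPGroup p T) :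
    Subgroup.normalizer (T : Set Ω) ≤
      Subgroup.normalizer ((Cfsg.thompsonSubgroupAOf T : Subgroup Ω) : Set Ω) := by
  have h := Cfsg.Agent.Lib.Helper34_NPC.normalizer_le_normalizer_inducedFunctor
    (isCharPFunctor_JA (p := p)) T hT
  rw [inducedFunctor_JA] at h
  exact h

theorem WJ_le (T : Subgroup Ω) : Cfsg.thompsonSubgroupAOf T ≤ T := Subgroup.map_subtype_le _

/-- **The climbing lemma.** -/
theorem genBy_of_local [Finite S] [Fact p.Prime] (hS : IsPGroup p S) (F : FusionSystem S)
    (hF : F.IsSaturated p) {Q₀ : Subgroup Ω} (hQ₀ : F.IsNormal Q₀)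
    (hCQ : ¬ centralizerIn S Q₀ ≤ Q₀)
    (hloc : ∀ (Y : Subgroup Ω) (hY : F.IsFullyNormalized Y), ¬ Y ≤ Q₀ →
      GenBy p (normalizerSystem F Y hY.1)) : GenBy p F := by
  classical
  intro E hC hN
  have hfinsub : ∀ {A : Subgroup Ω}, A ≤ S → Finite A := fun h => Helper84_FusionRS.finite_of_le_S h
  have hQ₀S : Q₀ ≤ S := hQ₀.1
  have hQ₀sc : F.StronglyClosed Q₀ := Helper84_FusionNormal.IsNormal.stronglyClosed hQ₀
  apply alperin_induction_isMapOn F hS hF E
  intro R hRa hRr hIH α hα
  by_cases hcen : F.IsCentric R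
  swap
  · exact isMapOn_of_not_centric F E hRr hIH hcen hα
  by_cases hrad : F.IsRadical p R
  swap
  · exact isMapOn_of_not_radical F E hS hRa hRr hIH hrad hα
  have hRS : R ≤ S := hRa.1
  have hfinR : Finite R := hfinsub hRS
  have hQ₀R : Q₀ ≤ R := Helper84_FusionNormal.IsNormal.le_of_isCentric_of_isRadical hS hQ₀ hcen hrad
  have hRfn : F.IsFullyNormalized R := isFullyNormalized_of_fa_receptive hS F hRa hRr
  have hCR : centralizerIn S R ≤ R := hcen.2 R (isConj_refl F hRS)
  have hRQ₀ : ¬ R ≤ Q₀ := by
    intro h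
    apply hCQ
    intro x hx
    apply h
    apply hCR
    exact ⟨hx.1, Subgroup.centralizer_le h hx.2⟩
  have hf : IsMapOn F R (extFun α) := (Helper87_Alperin.mem_autGroup_iff F hRS α).1 hα
  -- the climbing claim
  have claim : ∀ j : ℕ, ∀ (Y B : Subgroup Ω) (β : Ω → Ω), F.IsFullyNormalized Y → ¬ Y ≤ Q₀ →
      Nat.card S - Nat.card ↥(normalizerIn S Y) = j →
      ¬ centralizerIn (normalizerIn S Y) Q₀ ≤ Q₀ →
      Nat.card R ≤ Nat.card B → IsNormMapOn F Y B β → IsMapOn E B β := by
    intro j
    induction j using Nat.strong_induction_on with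
    | _ j ih =>
    intro Y B β hYfn hYQ hj hinv hcardB hβ
    have hYS : Y ≤ S := hYfn.1
    set T : Subgroup Ω := normalizerIn S Y with hTdef
    have hTS : T ≤ S := inf_le_left
    have hfinT : Finite T := hfinsub hTS
    have hTp : IsPGroup p T := hS.to_le hTS
    have hNsys := normalizerSystem_isNormalizerSystem F Y hYS
    have hgen := hloc Y hYfn hYQ
    set N := normalizerSystem F Y hYS with hNdef
    have hNF : ∀ (P : Subgroup Ω) (f : Ω → Ω), IsMapOn N P f → IsMapOn F P f :=
      fun P f h => ((Helper87_GTMain.isMapOn_normalizerSystem_iff hNsys P f).1 h).1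
    set J : Subgroup Ω := Cfsg.thompsonSubgroupAOf T with hJdef
    have hJT : J ≤ T := WJ_le T
    have hfinJ : Finite J := hfinsub (hJT.trans hTS)
    have hTJ : T ≤ Subgroup.normalizer (J : Set Ω) := le_normalizer_WJ T hTp
    -- the target system over `T`
    set E' : FusionSystem T := sizeSub N E hTS (Nat.card R) with hE'def
    have h1 : ∀ (P : Subgroup Ω) (f : Ω → Ω), CMap N (FP p 1 T) P f → IsMapOn E' P f := by
      intro P f hc
      rw [hE'def, isMapOn_sizeSub_iff]
      refine ⟨hc.1, fun _ => ?_⟩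
      exact hC P f (cmap_of_cmap_sub p hTS (center_le_normalizerIn S Y hYS) hNF hc)
    have h2 : ∀ (P : Subgroup Ω) (f : Ω → Ω), IsNormMapOn N J P f → IsMapOn E' P f := by
      intro P f hn
      rw [hE'def, isMapOn_sizeSub_iff]
      refine ⟨hn.1, fun hcardP => ?_⟩
      obtain ⟨hfN, -, -, g, hg1, hg2, hg3⟩ := hn
      obtain ⟨-, -, -, h, hh1, hh2, hh3⟩ :=
        (Helper87_GTMain.isMapOn_normalizerSystem_iff hNsys _ g).1 hg1
      set D : Subgroup Ω := (P ⊔ J) ⊔ Y with hDdef
      have hDS : D ≤ S := hh1.le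
      have hfinD : Finite D := hfinsub hDS
      have hPD : P ≤ D := le_sup_left.trans le_sup_left
      have hfh : ∀ x ∈ P, h x = f x := fun x hx => by
        rw [hh2 x ((le_sup_left : P ≤ P ⊔ J) hx), hg2 x hx]
      by_cases hlt : Nat.card R < Nat.card D
      · exact ((hIH D h hlt hh1).mono hPD).congr hfh
      · have hcardDP : Nat.card D ≤ Nat.card P := (not_lt.1 hlt).trans hcardP
        have hDP : D = P := by
          apply le_antisymm _ hPD
          intro x hx
          by_contra hxP
          have hPltD : P < D := lt_of_le_of_ne hPD (fun h => hxP (h ▸ hx))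
          exact absurd (Helper84_FusionAlperin.card_lt_card_of_lt hDS hPltD) (not_lt.2 hcardDP)
        have hJP : J ≤ P := hDP ▸ ((le_sup_right : J ≤ P ⊔ J).trans le_sup_left)
        have hfF : IsMapOn F P f := hNF P f hfN
        have hPT : P ≤ T := hfN.le
        have hfT : ∀ x ∈ P, f x ∈ T := fun x hx => hfN.mem hx
        have hfJJ : ∀ x ∈ J, f x ∈ J := fun x hx => by
          rw [← hg2 x (hJP hx)]
          exact (hg3 _).2 ⟨x, hx, rfl⟩
        have hPNJ : P ≤ normalizerIn S J := fun x hx => ⟨hTS (hPT hx), hTJ (hPT hx)⟩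
        have hfNJ : ∀ x ∈ P, f x ∈ normalizerIn S J :=
          fun x hx => ⟨hTS (hfT x hx), hTJ (hfT x hx)⟩
        have hnormJ : IsNormMapOn F J P f := isNormMapOn_of_mapsTo hfF hJP hPNJ hfNJ hfJJ
        by_cases hTeq : T = S
        · apply hN P f
          have hJeq : J = Cfsg.thompsonSubgroupAOf S := by rw [hJdef, hTeq]
          rw [← hJeq]
          exact hnormJ
        · -- `T < S`: climb
          have hTlt : T < S := lt_of_le_of_ne hTS hTeq
          obtain ⟨c, hc, hcQ⟩ := SetLike.not_le_iff_exists.1 hinv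
          have hJQ : ¬ J ≤ Q₀ := by
            intro hJQ
            apply hcQ
            apply hJQ
            apply mem_WJ_of_centralizes T hc.1
            exact Subgroup.centralizer_le hJQ hc.2
          have hTNJ : normalizerIn S T ≤ normalizerIn S J :=
            inf_le_inf_left _ (normalizer_le_normalizer_WJ T hTp)
          have hTltN : T < normalizerIn S T := Helper84_FusionAlperin.lt_normalizerIn hS hTlt
          set M : Subgroup Ω := normalizerIn S J with hMdef
          have hTM : T ≤ M := hTltN.le.trans hTNJ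
          have hfinM : Finite M := hfinsub inf_le_left
          have hcardT : Nat.card T < Nat.card M :=
            (Helper84_FusionAlperin.card_lt_card_of_lt inf_le_left hTltN).trans_le
              (Subgroup.card_le_of_le hTNJ)
          have hJS : J ≤ S := hJT.trans hTS
          obtain ⟨J', hconj, hJ'fn⟩ := Helper84_FusionRS.exists_isFullyNormalized_conj F hJS
          have hJ'a := Helper84_FusionRS.IsSaturated.isFullyAutomized hS hF hJ'fn
          have hJ'r := Helper84_FusionRS.IsSaturated.isReceptive_of_isFullyNormalized hS hF hJ'fn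
          obtain ⟨φ, hφ, hφN, hφV⟩ := Helper84_FusionSat.exists_normalizer_map hS F hJ'a hJ'r hconj
          set t : Ω → Ω := extHom φ with htdef
          have ht : IsMapOn F M t := isMapOn_extHom F hφ
          have htN : ∀ x ∈ M, t x ∈ normalizerIn S J' := by
            intro x hx
            rw [htdef, extHom_apply φ hx]
            exact hφN _
          have hJM : J ≤ M := le_normalizerIn hJS
          have htJ : ∀ y, y ∈ J' ↔ ∃ x ∈ J, t x = y := by
            intro y
            rw [← hφV]
            constructor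
            · rintro ⟨z, hz, rfl⟩
              exact ⟨z, Subgroup.mem_subgroupOf.1 hz, extHom_coe φ z⟩
            · rintro ⟨x, hx, rfl⟩
              refine ⟨⟨x, hJM hx⟩, Subgroup.mem_subgroupOf.2 hx, ?_⟩
              rw [htdef, extHom_apply φ (hJM hx)]
          have hcardPT : Nat.card P ≤ Nat.card T := Subgroup.card_le_of_le hPT
          have htE : IsMapOn E M t := hIH M t (by omega) ht
          have hPM : P ≤ M := hPT.trans hTM
          apply isMapOn_of_transport ht htE hPM hfF (fun x hx => hTM (hfT x hx))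
          intro f' hf' hf't
          set P' : Subgroup Ω := imgSub ht P hPM with hP'def
          have hJ'P' : J' ≤ P' := by
            intro y hy
            obtain ⟨x, hx, rfl⟩ := (htJ y).1 hy
            exact ⟨x, hJP hx, rfl⟩
          have hJ'S : J' ≤ S := hJ'fn.1
          have hfinJ' : Finite J' := hfinsub hJ'S
          have hP'N : P' ≤ normalizerIn S J' := by
            rintro _ ⟨x, hx, rfl⟩
            exact htN x (hPM hx)
          have hf'N : ∀ y ∈ P', f' y ∈ normalizerIn S J' := by
            rintro _ ⟨x, hx, rfl⟩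
            rw [hf't x hx]
            exact htN _ (hTM (hfT x hx))
          have hf'J' : ∀ y ∈ J', f' y ∈ J' := by
            intro y hy
            obtain ⟨x, hx, rfl⟩ := (htJ y).1 hy
            rw [hf't x (hJP hx)]
            exact (htJ _).2 ⟨f x, hfJJ x hx, rfl⟩
          have hnorm' : IsNormMapOn F J' P' f' := isNormMapOn_of_mapsTo hf' hJ'P' hP'N hf'N hf'J'
          have hJ'Q : ¬ J' ≤ Q₀ := by
            intro h
            apply hJQ
            intro x hx
            exact mem_of_map_mem_stronglyClosed hQ₀sc ht (hJM hx) (h ((htJ _).2 ⟨x, hx, rfl⟩))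
          have hcardP' : Nat.card R ≤ Nat.card P' := by
            rw [← Nat.card_congr (imgEquiv ht P hPM).toEquiv]
            exact hcardP
          have hcardM' : Nat.card M ≤ Nat.card ↥(normalizerIn S J') :=
            hJ'fn.2 J (isConj_symm F hconj)
          have hfinT' : Finite ↥(normalizerIn S J') := hfinsub inf_le_left
          have hT'le : Nat.card ↥(normalizerIn S J') ≤ Nat.card S :=
            Helper84_FusionAlperin.card_le_card_S inf_le_left
          have hTle : Nat.card T ≤ Nat.card S := Helper84_FusionAlperin.card_le_card_S hTS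
          have hinv' : ¬ centralizerIn (normalizerIn S J') Q₀ ≤ Q₀ := by
            intro hle
            apply hcQ
            have hcM : c ∈ M := hTM hc.1
            apply mem_of_map_mem_stronglyClosed hQ₀sc ht hcM
            apply hle
            refine ⟨htN c hcM, ?_⟩
            -- `t c` centralizes `Q₀`
            obtain ⟨-, -, -, g₂, hg21, hg22, hg23⟩ := controls_of_isNormal hQ₀ M t ht
            show t c ∈ Subgroup.centralizer (Q₀ : Set Ω)
            rw [Subgroup.mem_centralizer_iff]
            intro q hq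
            obtain ⟨q', hq', rfl⟩ := (hg23 q).1 hq
            have hcD : c ∈ M ⊔ Q₀ := (le_sup_left : M ≤ M ⊔ Q₀) hcM
            have hq'D : q' ∈ M ⊔ Q₀ := (le_sup_right : Q₀ ≤ M ⊔ Q₀) hq'
            rw [← hg22 c hcM, ← hg21.map_mul hq'D hcD, ← hg21.map_mul hcD hq'D]
            congr 1
            exact Subgroup.mem_centralizer_iff.1 hc.2 q' hq'
          exact ih (Nat.card S - Nat.card ↥(normalizerIn S J')) (by omega) J' P' f' hJ'fn hJ'Q rfl
            hinv' hcardP' hnorm'
    have hβN : IsMapOn N B β := (Helper87_GTMain.isMapOn_normalizerSystem_iff hNsys B β).2 hβ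
    have hβE' := hgen E' h1 h2 B β hβN
    rw [hE'def, isMapOn_sizeSub_iff] at hβE'
    exact hβE'.2 hcardB
  -- apply the claim to `α`
  have hRT : R ≤ normalizerIn S R := le_normalizerIn hRS
  have hαR : ∀ x ∈ R, extFun α x ∈ R := fun x hx => extFun_mem α hx
  have hnorm : IsNormMapOn F R R (extFun α) :=
    isNormMapOn_of_mapsTo hf le_rfl hRT (fun x hx => hRT (hαR x hx)) hαR
  have hinv₀ : ¬ centralizerIn (normalizerIn S R) Q₀ ≤ Q₀ := by
    intro hle
    by_cases hCR' : centralizerIn S Q₀ ≤ R
    · apply hCQ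
      intro x hx
      exact hle ⟨hRT (hCR' hx), hx.2⟩
    · have hSC : S ≤ Subgroup.normalizer ((centralizerIn S Q₀ : Subgroup Ω) : Set Ω) :=
        Helper87_Normal.stronglyClosed_le_normalizer
          (Helper87_GTCentric.stronglyClosed_centralizerIn hQ₀)
      obtain ⟨x, hxC, hxN, hxR⟩ :=
        Helper87_Normal.exists_mem_normalizer_not_mem hS hRS inf_le_left (hRS.trans hSC) hCR'
      exact hxR (hQ₀R (hle ⟨⟨hxC.1, hxN⟩, hxC.2⟩))
  exact claim _ R R (extFun α) hRfn hRQ₀ rfl hinv₀ le_rfl hnorm

end Cfsg.Agent.Lib.Helper72_Gen
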