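import Cfsg.Agent.Lib.Helper72_Gen2
import Cfsg.Agent.Lib.Helper72_Gen3

/-!
Helper library (helper72): the generation theorem `F = ⟨C_F(℧¹(Z(S))), N_F(J(S))⟩` for saturated fusion
systems (S5220): the constrained case and the main induction.
-/

set_option autoImplicit false

universe u

namespace Cfsg.Agent.Lib.Helper72_Gen

open Cfsg Cfsg.FusionSystem Cfsg.Agent.Lib.Helper85_Fusion Cfsg.Agent.Lib.Helper87_Alperin
  Cfsg.Agent.Lib.Helper87_Alperin2 Cfsg.Agent.Lib.Helper87_PInner Cfsg.Agent.Lib.Helper88_KLB1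
  Cfsg.Agent.Lib.Helper88_KLB2 Cfsg.Agent.Lib.Helper88_KLB3 Cfsg.Agent.Lib.Helper88_KLB5
  Cfsg.Agent.Lib.Helper88_KLB6 Cfsg.Agent.Lib.Helper84_ThCent
  Cfsg.Agent.Lib.Helper72_ClassPow Cfsg.Agent.Lib.Helper87_GTTransport Cfsg.Agent.Lib.Helper72_AbelianJ
  Cfsg.Agent.Lib.Helper88_Model

variable {p : ℕ}

/-- The statement for systems over groups of order `n`. -/
def StmtGen (p n : ℕ) : Prop :=
  ∀ (Ω : Type u) [Group Ω] (S : Subgroup Ω) [Finite S], Nat.card S = n → IsPGroup p S →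
    ∀ F : FusionSystem S, F.IsSaturated p → GenBy p F

section Char

variable {Ω : Type u} [Group Ω] {S : Subgroup Ω}

theorem isMapOn_map_pow' {F : FusionSystem S} {P : Subgroup Ω} {f : Ω → Ω} (hf : IsMapOn F P f)
    {x : Ω} (hx : x ∈ P) (k : ℕ) : f (x ^ k) = f x ^ k := by
  induction k with
  | zero => rw [pow_zero, pow_zero]; exact hf.map_one
  | succ k ih => rw [pow_succ, pow_succ, hf.map_mul (P.pow_mem hx k) hx, ih]

/-- `℧¹(Z(Q))` is carried into itself by every map of the system from `Q` to `Q`. -/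
theorem FP_char [Finite S] {F : FusionSystem S} {Q : Subgroup Ω} (hQS : Q ≤ S) (g : Ω → Ω)
    (hg : IsMapOn F Q g) (hgQ : ∀ x ∈ Q, g x ∈ Q) : ∀ x ∈ FP p 1 Q, g x ∈ FP p 1 Q := by
  have hfinQ : Finite Q := Helper84_FusionRS.finite_of_le_S hQS
  have hXQ : FP p 1 Q ≤ Q := (FP_le p 1 Q).trans inf_le_left
  intro x hx
  have hx' := hx
  unfold FP Cfsg.powerClosure at hx'
  induction hx' using Subgroup.closure_induction with
  | mem y hy =>
    obtain ⟨z, hz, rfl⟩ := hy
    rw [isMapOn_map_pow' hg hz.1]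
    apply Subgroup.subset_closure
    refine ⟨g z, Subgroup.mem_inf.mpr ⟨hgQ z hz.1, ?_⟩, rfl⟩
    rw [Subgroup.mem_centralizer_iff]
    intro q hq
    obtain ⟨q', hq', rfl⟩ := exists_preimage_of_mapsTo hg le_rfl hgQ q hq
    rw [← hg.map_mul hq' hz.1, ← hg.map_mul hz.1 hq']
    congr 1
    exact Subgroup.mem_centralizer_iff.1 hz.2 q' hq'
  | one => rw [hg.map_one]; exact Subgroup.one_mem _
  | mul a b ha hb iha ihb =>
    have haX : a ∈ FP p 1 Q := ha
    have hbX : b ∈ FP p 1 Q := hb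
    rw [hg.map_mul (hXQ haX) (hXQ hbX)]
    exact Subgroup.mul_mem _ (iha haX) (ihb hbX)
  | inv a ha iha =>
    have haX : a ∈ FP p 1 Q := ha
    rw [hg.map_inv (hXQ haX)]
    exact Subgroup.inv_mem _ (iha haX)

end Char

variable [Fact p.Prime]

/-- The induction step for systems over groups of a fixed order `n`: induction on the index of `O_p(F)`. -/
theorem stepGen (n : ℕ) (IH : ∀ m < n, StmtGen.{u} p m) {Ω : Type u} [Group Ω] :
    ∀ (j : ℕ) (S : Subgroup Ω) [Finite S], Nat.card S = n → IsPGroup p S → ∀ F : FusionSystem S,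
      F.IsSaturated p → n - Nat.card F.core = j → GenBy p F := by
  intro j
  induction j using Nat.strong_induction_on with
  | _ j ih =>
  intro S _ hcard hS F hF hj
  classical
  have hfinsub : ∀ {A : Subgroup Ω}, A ≤ S → Finite A := fun h => Helper84_FusionRS.finite_of_le_S h
  set Q : Subgroup Ω := F.core with hQdef
  have hQn : F.IsNormal Q := isNormal_core F
  have hQS : Q ≤ S := hQn.1
  have hSQ : S ≤ Subgroup.normalizer (Q : Set Ω) := Helper84_FusionNormal.IsNormal.le_normalizer hQn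
  have hfinQ : Finite Q := hfinsub hQS
  have hcardQn : Nat.card Q ≤ n := hcard ▸ Helper84_FusionAlperin.card_le_card_S hQS
  -- normalizer systems of subgroups normalized by `S` and not contained in `O_p(F)`
  have key : ∀ (Y : Subgroup Ω) (hYS : Y ≤ S), S ≤ Subgroup.normalizer (Y : Set Ω) →
      Nat.card Q < Nat.card ↥(Y ⊔ Q) → GenBy p (normalizerSystem F Y hYS) := by
    intro Y hYS hSY hlt
    have hT : normalizerIn S Y = S := le_antisymm inf_le_left (le_inf le_rfl hSY)
    have hYfn : F.IsFullyNormalized Y := isFullyNormalized_of_le_normalizer F hYS hSY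
    have hN := normalizerSystem_isNormalizerSystem F Y hYS
    set N := normalizerSystem F Y hYS with hNdef
    have hfinT : Finite ↥(normalizerIn S Y) := hfinsub inf_le_left
    have hTp : IsPGroup p ↥(normalizerIn S Y) := hS.to_le inf_le_left
    have hNsat : N.IsSaturated p := Cfsg.Agent.S5098.result p hS F hF Y hYfn N hN
    have hYN : N.IsNormal Y := isNormal_of_isNormalizerSystem F hYS N hN
    have hQN : N.IsNormal Q := isNormal_normalizerSystem_of_isNormal hQn hT hN
    have hcardT : Nat.card ↥(normalizerIn S Y) = n := by rw [hT]; exact hcard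
    have hcoreT : N.core ≤ normalizerIn S Y := core_le N
    have hfinc : Finite N.core := Finite.of_injective (Subgroup.inclusion hcoreT)
      (Subgroup.inclusion_injective hcoreT)
    have hc1 : Nat.card ↥(Y ⊔ Q) ≤ Nat.card N.core :=
      Subgroup.card_le_of_le (sup_le (le_core hYN) (le_core hQN))
    have hc2 : Nat.card N.core ≤ n := hcardT ▸ Subgroup.card_le_of_le hcoreT
    exact ih (n - Nat.card N.core) (by omega) (normalizerIn S Y) hcardT hTp N hNsat rfl
  have hloc : ∀ (Y : Subgroup Ω) (hY : F.IsFullyNormalized Y), ¬ Y ≤ Q →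
      GenBy p (normalizerSystem F Y hY.1) := by
    intro Y hYfn hYQ
    have hYS : Y ≤ S := hYfn.1
    by_cases hT : normalizerIn S Y = S
    · have hSY : S ≤ Subgroup.normalizer (Y : Set Ω) := by
        intro s hs
        have : s ∈ normalizerIn S Y := hT.symm ▸ hs
        exact this.2
      have hDS : Y ⊔ Q ≤ S := sup_le hYS hQS
      have hlt : Q < Y ⊔ Q := lt_of_le_of_ne le_sup_right (fun h => hYQ (h ▸ le_sup_left))
      exact key Y hYS hSY (Helper84_FusionAlperin.card_lt_card_of_lt hDS hlt)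
    · have hTS : normalizerIn S Y ≤ S := inf_le_left
      have hTlt : normalizerIn S Y < S := lt_of_le_of_ne hTS hT
      have hcardT : Nat.card ↥(normalizerIn S Y) < n :=
        hcard ▸ Helper84_FusionAlperin.card_lt_card_of_lt le_rfl hTlt
      have hfinT : Finite ↥(normalizerIn S Y) := hfinsub hTS
      have hTp : IsPGroup p ↥(normalizerIn S Y) := hS.to_le hTS
      have hN := normalizerSystem_isNormalizerSystem F Y hYS
      have hNsat : (normalizerSystem F Y hYS).IsSaturated p :=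
        Cfsg.Agent.S5098.result p hS F hF Y hYfn _ hN
      exact IH _ hcardT Ω (normalizerIn S Y) rfl hTp _ hNsat
  by_cases hQc : centralizerIn S Q ≤ Q
  swap
  · exact genBy_of_local hS F hF hQn hQc hloc
  -- the constrained case
  intro E hC hN
  by_cases hJ : Cfsg.thompsonSubgroupAOf S ≤ Q
  · have hJeq := thompsonSubgroupAOf_eq_of_le_of_le S hS Q hQS hJ
    intro P f hf
    apply hN P f
    rw [hJeq, ← inducedFunctor_JA]
    exact Helper87_GTMain.isNormMapOn_ind_of_isNormal (isCharPFunctor_JA (p := p)) hS hQn hf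
  obtain ⟨g, hgS, hgQ, hgc⟩ := exists_centralizes_FP S hS Q hQS hSQ hJ
  set X : Subgroup Ω := FP p 1 Q with hXdef
  have hXZ : X ≤ Q ⊓ Subgroup.centralizer (Q : Set Ω) := FP_le p 1 Q
  have hXQ : X ≤ Q := hXZ.trans inf_le_left
  have hXS : X ≤ S := hXQ.trans hQS
  have hXctl : Controls F X := controls_of_char hQn hXQ (FP_char hQS)
  have hXn : F.IsNormal X := isNormal_of_controls hXS hXctl
  have hSX : S ≤ Subgroup.normalizer (X : Set Ω) := Helper84_FusionNormal.IsNormal.le_normalizer hXn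
  have hZZ : S ⊓ Subgroup.centralizer (S : Set Ω) ≤ Q ⊓ Subgroup.centralizer (Q : Set Ω) := by
    intro z hz
    have hzc : z ∈ Subgroup.centralizer (Q : Set Ω) := Subgroup.centralizer_le hQS hz.2
    exact Subgroup.mem_inf.mpr ⟨hQc ⟨hz.1, hzc⟩, hzc⟩
  have hVX : FP p 1 S ≤ X := powerClosure_mono p 1 hZZ
  set D : Subgroup Ω := X ⊔ centralizerIn S X with hDdef
  have hDS : D ≤ S := sup_le hXS inf_le_left
  have hSD : S ≤ Subgroup.normalizer (D : Set Ω) := le_normalizer_sup_centralizerIn hXn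
  have hQD : Q ≤ D := by
    intro q hq
    refine (le_sup_right : centralizerIn S X ≤ D) (Subgroup.mem_inf.mpr ⟨hQS hq, ?_⟩)
    rw [Subgroup.mem_centralizer_iff]
    intro x hx
    exact (Subgroup.mem_centralizer_iff.1 (hXZ hx).2 q hq).symm
  have hgD : g ∈ D := (le_sup_right : centralizerIn S X ≤ D) ⟨hgS, hgc⟩
  have hQltD : Q < D := lt_of_le_of_ne hQD (fun h => hgQ (h ▸ hgD))
  have hcardD : Nat.card Q < Nat.card D := Helper84_FusionAlperin.card_lt_card_of_lt hDS hQltD
  -- the normalizer system of `D`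
  have hND : ∀ (P : Subgroup Ω) (f : Ω → Ω), IsNormMapOn F D P f → IsMapOn E P f := by
    have hT : normalizerIn S D = S := le_antisymm inf_le_left (le_inf le_rfl hSD)
    have hNsys := normalizerSystem_isNormalizerSystem F D hDS
    have hDQ : D ⊔ Q = D := sup_eq_left.2 hQD
    have hgenN : GenBy p (normalizerSystem F D hDS) := key D hDS hSD (by rw [hDQ]; exact hcardD)
    set N := normalizerSystem F D hDS with hNdef
    have hNF : ∀ (P : Subgroup Ω) (f : Ω → Ω), IsMapOn N P f → IsMapOn F P f :=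
      fun P f h => ((Helper87_GTMain.isMapOn_normalizerSystem_iff hNsys P f).1 h).1
    let E' : FusionSystem (normalizerIn S D) := Helper87_Normal.castSystem hT.symm E
    have hE'iff : ∀ (P : Subgroup Ω) (f : Ω → Ω), IsMapOn E' P f ↔ IsMapOn E P f := by
      intro P f
      unfold IsMapOn
      rw [Helper87_Normal.castSystem_hom hT.symm E P]
    intro P f hf
    rw [← hE'iff]
    refine hgenN E' ?_ ?_ P f ((Helper87_GTMain.isMapOn_normalizerSystem_iff hNsys P f).2 hf)
    · intro P f hc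
      rw [hE'iff]
      exact hC P f (cmap_of_cmap_sub p inf_le_left (center_le_normalizerIn S D hDS) hNF hc)
    · intro P f hn
      rw [hE'iff]
      apply hN P f
      have h1 := Helper87_GTMain.isNormMapOn_of_normalizerSystem hNsys hn
      have hJeq : Cfsg.thompsonSubgroupAOf (normalizerIn S D) = Cfsg.thompsonSubgroupAOf S := by
        rw [hT]
      rw [hJeq] at h1
      exact h1
  -- Kessar–Linckelmann, Proposition 3.4
  refine isMapOn_of_sc_of_norm hS F hF hXn hSX E ?_ hND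
  intro P f hf
  obtain ⟨φ, ⟨hφF, hPS, hφS, ψ, hψ, hext, κ, hκ, hψκ⟩, hφf⟩ := hf
  obtain ⟨s, hs, hκs⟩ := (Helper87_Alperin.mem_autInducedBy_iff S X κ).1 hκ
  have hψm : IsMapOn F (P ⊔ X) (extHom ψ) := isMapOn_extHom F hψ
  have hconj : IsMapOn F S (fun y => s⁻¹ * y * s⁻¹⁻¹) := IsMapOn.conj F le_rfl (S.inv_mem hs)
  have h1 : IsMapOn F (P ⊔ X) ((fun y => s⁻¹ * y * s⁻¹⁻¹) ∘ extHom ψ) :=
    hψm.comp hconj (fun x hx => hψm.mem hx)
  have hfix : ∀ x ∈ X, ((fun y => s⁻¹ * y * s⁻¹⁻¹) ∘ extHom ψ) x = x := by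
    intro x hx
    show s⁻¹ * extHom ψ x * s⁻¹⁻¹ = x
    rw [extHom_apply ψ ((le_sup_right : X ≤ P ⊔ X) hx)]
    have e1 := hψκ ⟨x, hx⟩
    have e2 := hκs ⟨x, hx⟩
    have e3 : ψ ⟨x, (le_sup_right : X ≤ P ⊔ X) hx⟩ = s * x * s⁻¹ := by
      rw [← e2, ← e1]
      rfl
    rw [e3]
    group
  have hc : CMap F (FP p 1 S) (P ⊔ X) ((fun y => s⁻¹ * y * s⁻¹⁻¹) ∘ extHom ψ) :=
    cmap_of_fixes p h1 (hVX.trans le_sup_right) (fun x hx => hfix x (hVX hx))
  have hE1 : IsMapOn E (P ⊔ X) ((fun y => s⁻¹ * y * s⁻¹⁻¹) ∘ extHom ψ) := hC _ _ hc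
  have hE2 : IsMapOn E S (fun y => s * y * s⁻¹) := IsMapOn.conj E le_rfl hs
  have hE3 := (hE1.mono (le_sup_left : P ≤ P ⊔ X)).comp hE2
    (fun x hx => hE1.mem ((le_sup_left : P ≤ P ⊔ X) hx))
  refine hE3.congr fun x hx => ?_
  show s * (s⁻¹ * extHom ψ x * s⁻¹⁻¹) * s⁻¹ = f x
  rw [extHom_apply ψ ((le_sup_left : P ≤ P ⊔ X) hx)]
  have e1 := hext ⟨x, hx⟩
  have e2 := hφf ⟨x, hx⟩
  have e3 : ψ ⟨x, (le_sup_left : P ≤ P ⊔ X) hx⟩ = f x := by
    rw [← e2, ← e1]
    rfl
  rw [e3]
  group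

/-- **The generation theorem** `F = ⟨C_F(℧¹(Z(S))), N_F(J(S))⟩`. -/
theorem mainGen : ∀ n : ℕ, StmtGen.{u} p n := by
  intro n
  induction n using Nat.strong_induction_on with
  | _ n IH =>
  intro Ω _ S _ hcard hS F hF
  exact stepGen n IH _ S hcard hS F hF rfl

end Cfsg.Agent.Lib.Helper72_Gen
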