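import Cfsg.Agent.Lib.Helper84_ThCent
import Cfsg.Agent.Lib.Helper84_FusionSat
import Cfsg.Agent.Lib.Helper87_Alperin2
import Cfsg.Agent.Lib.Helper87_Normal

/-!
# Central subgroups of fusion systems in function form (helper84)

`AllC F Z₀`: every map of `F` is a map of the centralizer system of `Z₀` (extends to a map fixing `Z₀` pointwise);
`NC F U Z₀`: every map of the normalizer system of `U` is a map of the centralizer system of `Z₀`.
A bounded form of Alperin's theorem: if the automorphisms of the fully normalized centric subgroups of order at least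
`m` fix `Z₀ ≤ Z(S)` pointwise, every map defined on a subgroup of order at least `m` extends to a map fixing `Z₀`.
-/

set_option autoImplicit false

namespace Cfsg.Agent.Lib.Helper84_CtrBasic

open Cfsg Cfsg.FusionSystem Cfsg.Agent.Lib Cfsg.Agent.Lib.Helper87_Alperin Cfsg.Agent.Lib.Helper87_Alperin2
  Cfsg.Agent.Lib.Helper84_KLBasic Cfsg.Agent.Lib.Helper84_ThCent

variable {Ω : Type*} [Group Ω] {S : Subgroup Ω}

/-- every map of the normalizer system of `U` is a map of the centralizer system of `Z₀` -/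
def NC (F : FusionSystem S) (U Z₀ : Subgroup Ω) : Prop :=
  ∀ (P : Subgroup Ω) (f : Ω → Ω), NMap F U P f → CMap F Z₀ P f

/-- every map of the system is a map of the centralizer system of `Z₀` -/
def AllC (F : FusionSystem S) (Z₀ : Subgroup Ω) : Prop :=
  ∀ (P : Subgroup Ω) (f : Ω → Ω), IsMapOn F P f → CMap F Z₀ P f

theorem AllC.nc {F : FusionSystem S} {Z₀ : Subgroup Ω} (h : AllC F Z₀) (U : Subgroup Ω) : NC F U Z₀ :=
  fun P f hf => h P f hf.1

theorem cmap_of_mem_centralizerHom {F : FusionSystem S} {U P : Subgroup Ω} {φ : P →* Ω}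
    (h : φ ∈ F.centralizerHom U P) : CMap F U P (extHom φ) := by
  obtain ⟨hφ, hPN, hφN, ψ, hψ, hext, hfix⟩ := h
  refine ⟨isMapOn_extHom F hφ, hPN, fun x hx => ?_, P ⊔ U, extHom ψ, le_sup_left, le_sup_right,
    isMapOn_extHom F hψ, fun x hx => ?_, fun x hx => ?_⟩
  · rw [extHom_apply φ hx]
    exact hφN _
  · rw [extHom_apply φ hx, extHom_apply ψ ((le_sup_left : P ≤ P ⊔ U) hx)]
    exact hext ⟨x, hx⟩
  · rw [extHom_apply ψ ((le_sup_right : U ≤ P ⊔ U) hx)]
    exact hfix ⟨x, hx⟩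

theorem CMap.congr {F : FusionSystem S} {U P : Subgroup Ω} {f g : Ω → Ω} (h : CMap F U P f)
    (hfg : ∀ x ∈ P, f x = g x) : CMap F U P g := by
  obtain ⟨h1, h2, h3, D, g', hPD, hUD, hg', hg'f, hg'U⟩ := h
  exact ⟨h1.congr hfg, h2, fun x hx => hfg x hx ▸ h3 x hx, D, g', hPD, hUD, hg',
    fun x hx => (hg'f x hx).trans (hfg x hx), hg'U⟩

/-- a `CMap` fixes the points of `Z₀` lying in its source -/
theorem CMap.apply_eq {F : FusionSystem S} {Z₀ P : Subgroup Ω} {f : Ω → Ω} (h : CMap F Z₀ P f) {x : Ω}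
    (hxP : x ∈ P) (hxZ : x ∈ Z₀) : f x = x := by
  obtain ⟨-, -, -, D, g, -, -, -, hgf, hgZ⟩ := h
  rw [← hgf x hxP, hgZ x hxZ]

/-- a map fixing `Z₀` pointwise on a source containing `Z₀ ≤ Z(S)` is a `CMap` -/
theorem cmap_of_fixes {F : FusionSystem S} {Z₀ D : Subgroup Ω} {g : Ω → Ω}
    (hZ₀ : Z₀ ≤ S ⊓ Subgroup.centralizer (S : Set Ω)) (hg : IsMapOn F D g) (hZD : Z₀ ≤ D)
    (hfix : ∀ x ∈ Z₀, g x = x) {P : Subgroup Ω} (hPD : P ≤ D) : CMap F Z₀ P g := by
  have hSC : S ≤ centralizerIn S Z₀ := by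
    intro s hs
    refine ⟨hs, ?_⟩
    show s ∈ Subgroup.centralizer (Z₀ : Set Ω)
    rw [Subgroup.mem_centralizer_iff]
    intro z hz
    exact ((Subgroup.mem_centralizer_iff.1 (hZ₀ hz).2) s hs).symm
  exact ⟨hg.mono hPD, (hPD.trans hg.le).trans hSC, fun x hx => hSC (hg.mem (hPD hx)), D, g, hPD, hZD, hg,
    fun _ _ => rfl, hfix⟩

/-! ### Central subgroups -/

theorem isCentral_of_allC {F : FusionSystem S} {Z₀ : Subgroup Ω} (hZ₀S : Z₀ ≤ S) (h : AllC F Z₀) :
    F.IsCentral Z₀ := by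
  refine ⟨hZ₀S, fun P φ hφ => ?_⟩
  have h1 := h P (extHom φ) (isMapOn_extHom F hφ)
  obtain ⟨-, -, -, ψ, hψ, hext, hfix⟩ := mem_centralizerHom_of_cmap h1
  exact ⟨ψ, hψ, hext, hfix⟩

theorem allC_of_isCentral {F : FusionSystem S} {Z₀ : Subgroup Ω}
    (hZ₀ : Z₀ ≤ S ⊓ Subgroup.centralizer (S : Set Ω)) (h : F.IsCentral Z₀) : AllC F Z₀ := by
  intro P f hf
  obtain ⟨φ, hφ, hφf⟩ := hf
  obtain ⟨ψ, hψ, hext, hfix⟩ := h.2 P φ hφ
  have hg := isMapOn_extHom F hψ
  have h1 : CMap F Z₀ P (extHom ψ) := cmap_of_fixes hZ₀ hg le_sup_right (fun x hx => by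
    rw [extHom_apply ψ ((le_sup_right : Z₀ ≤ P ⊔ Z₀) hx)]
    exact hfix ⟨x, hx⟩) le_sup_left
  refine CMap.congr h1 (fun x hx => ?_)
  rw [extHom_apply ψ ((le_sup_left : P ≤ P ⊔ Z₀) hx), ← hφf ⟨x, hx⟩]
  exact hext ⟨x, hx⟩

/-- a central subgroup lies in the centre of `S` -/
theorem le_center_of_isCentral {F : FusionSystem S} {Z₀ : Subgroup Ω} (h : F.IsCentral Z₀) :
    Z₀ ≤ S ⊓ Subgroup.centralizer (S : Set Ω) := by
  intro z hz
  refine ⟨h.1 hz, ?_⟩
  show z ∈ Subgroup.centralizer (S : Set Ω)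
  rw [Subgroup.mem_centralizer_iff]
  intro s hs
  obtain ⟨ψ, hψ, hext, hfix⟩ := h.2 S (conjHom S s) (F.conj_mem le_rfl hs)
  have hzD : z ∈ S ⊔ Z₀ := (le_sup_right : Z₀ ≤ S ⊔ Z₀) hz
  have h1 := hext ⟨z, h.1 hz⟩
  have h2 := hfix ⟨z, hz⟩
  have h3 : ψ (Subgroup.inclusion le_sup_left ⟨z, h.1 hz⟩) = ψ (Subgroup.inclusion le_sup_right ⟨z, hz⟩) := rfl
  rw [h3, h2] at h1
  have h4 : z = s * z * s⁻¹ := h1
  calc s * z = (s * z * s⁻¹) * s := by group
    _ = z * s := by rw [← h4]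

/-! ### The centralizer system over `S` and its bounded variant -/

/-- a system coinciding with `F` on small subgroups and with `E ≤ F` on subgroups of order at least `m` -/
def boundedSystem [Finite S] (F E : FusionSystem S) (hEF : ∀ P : Subgroup Ω, E.Hom P ⊆ F.Hom P) (m : ℕ) :
    FusionSystem S where
  Hom P := {φ | φ ∈ F.Hom P ∧ (m ≤ Nat.card P → φ ∈ E.Hom P)}
  le_of_mem h := F.le_of_mem h.1
  injective_of_mem h := F.injective_of_mem h.1
  conj_mem hP hg := ⟨F.conj_mem hP hg, fun _ => E.conj_mem hP hg⟩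
  comp_mem := by
    rintro P Q φ ψ ⟨hφ, hφE⟩ ⟨hψ, hψE⟩ h
    refine ⟨F.comp_mem hφ hψ h, fun hm => E.comp_mem (hφE hm) (hψE ?_) h⟩
    have hQS : Q ≤ S := (F.le_of_mem hψ).1
    have : Finite Q := Finite.of_injective (Subgroup.inclusion hQS) (Subgroup.inclusion_injective hQS)
    refine hm.trans (Nat.card_le_card_of_injective (φ.codRestrict Q h) ?_)
    intro a b hab
    exact F.injective_of_mem hφ (congrArg Subtype.val hab)
  inv_mem := by
    rintro P φ ⟨hφ, hφE⟩
    by_cases hm : m ≤ Nat.card P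
    · obtain ⟨ψ, hψ, hinv⟩ := E.inv_mem (hφE hm)
      exact ⟨ψ, ⟨hEF _ hψ, fun _ => hψ⟩, hinv⟩
    · obtain ⟨ψ, hψ, hinv⟩ := F.inv_mem hφ
      refine ⟨ψ, ⟨hψ, fun hm' => absurd ?_ hm⟩, hinv⟩
      have hPS : P ≤ S := (F.le_of_mem hφ).1
      have : Finite P := Finite.of_injective (Subgroup.inclusion hPS) (Subgroup.inclusion_injective hPS)
      refine hm'.trans (Nat.card_le_card_of_surjective (fun x : P => (⟨φ x, x, rfl⟩ : φ.range)) ?_)
      rintro ⟨_, x, rfl⟩
      exact ⟨x, rfl⟩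

/-- fully automized and receptive subgroups are fully normalized -/
theorem isFullyNormalized_of_automized_receptive [Finite S] {p : ℕ} [Fact p.Prime] (hS : IsPGroup p S)
    (F : FusionSystem S) {Q : Subgroup Ω} (hQa : F.IsFullyAutomized p Q) (hQr : F.IsReceptive Q) :
    F.IsFullyNormalized Q := by
  refine ⟨hQa.1, fun Q' hconj => ?_⟩
  have hQ'S : Q' ≤ S := Helper84_Fusion.isConj_le_right F hconj
  have hconj' : F.IsConj Q' Q := Helper85_Fusion.isConj_symm F hconj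
  obtain ⟨φ, hφ, hφN, -⟩ := Helper84_FusionSat.exists_normalizer_map hS F hQa hQr hconj'
  have : Finite (normalizerIn S Q) := Helper84_FusionRS.finite_of_le_S inf_le_left
  exact Nat.card_le_card_of_injective (fun x : normalizerIn S Q' => (⟨φ x, hφN x⟩ : normalizerIn S Q))
    (fun a b hab => F.injective_of_mem hφ (congrArg Subtype.val hab))

/-- **Bounded Alperin theorem for central subgroups.** -/
theorem cmap_of_frc_bounded [Finite S] {p : ℕ} [Fact p.Prime] (hS : IsPGroup p S) {F : FusionSystem S}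
    (hF : F.IsSaturated p) {Z₀ : Subgroup Ω} (hZ₀ : Z₀ ≤ S ⊓ Subgroup.centralizer (S : Set Ω)) (m : ℕ)
    (h : ∀ Q : Subgroup Ω, F.IsFullyNormalized Q → F.IsCentric Q → F.IsRadical p Q → m ≤ Nat.card Q →
      ∀ α ∈ F.autGroup Q, ∀ x ∈ Z₀, extFun α x = x) :
    ∀ (D : Subgroup Ω) (g : Ω → Ω), IsMapOn F D g → m ≤ Nat.card D → CMap F Z₀ D g := by
  have hZ₀S : Z₀ ≤ S := hZ₀.trans inf_le_left
  have hcent : centralizerIn S Z₀ = S := by
    apply le_antisymm inf_le_left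
    intro s hs
    refine ⟨hs, ?_⟩
    show s ∈ Subgroup.centralizer (Z₀ : Set Ω)
    rw [Subgroup.mem_centralizer_iff]
    intro z hz
    exact ((Subgroup.mem_centralizer_iff.1 (hZ₀ hz).2) s hs).symm
  let E : FusionSystem S := Helper87_Normal.castSystem hcent (Helper85_Fusion.centralizerSystem F Z₀ hZ₀S)
  have hEhom : ∀ P, E.Hom P = F.centralizerHom Z₀ P := fun P => Helper87_Normal.castSystem_hom hcent _ P
  have hEF : ∀ P : Subgroup Ω, E.Hom P ⊆ F.Hom P := by
    intro P φ hφ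
    rw [hEhom] at hφ
    exact hφ.1
  have key := alperin_frc_isMapOn F hS hF (boundedSystem F E hEF m) (by
    intro Q hQa hQr hQc hQrad α hα
    have hQS : Q ≤ S := hQa.1
    have h1 : autHom α ∈ F.Hom Q := (mem_autGroup_iff' F hQS α).1 hα
    have hmap : IsMapOn F Q (extFun α) := (mem_autGroup_iff F hQS α).1 hα
    refine ⟨autHom α, ⟨h1, fun hm => ?_⟩, fun x => ?_⟩
    · rw [hEhom]
      have hQfn := isFullyNormalized_of_automized_receptive hS F hQa hQr
      have hZQ : Z₀ ≤ Q := by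
        intro z hz
        apply hQc.2 Q (Helper84_Fusion.isConj_refl F hQS)
        refine ⟨hZ₀S hz, ?_⟩
        show z ∈ Subgroup.centralizer (Q : Set Ω)
        rw [Subgroup.mem_centralizer_iff]
        intro q hq
        exact (Subgroup.mem_centralizer_iff.1 (hZ₀ hz).2) q (hQS hq)
      have hfix := h Q hQfn hQc hQrad hm α hα
      have hc : CMap F Z₀ Q (extHom (autHom α)) := by
        refine CMap.congr (cmap_of_fixes hZ₀ hmap hZQ hfix le_rfl) (fun x hx => ?_)
        rw [extHom_apply _ hx, extFun_apply α hx]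
        rfl
      exact mem_centralizerHom_of_cmap hc
    · rw [extFun_coe]
      rfl)
  intro D g hg hm
  obtain ⟨φ, ⟨-, hφE⟩, hφg⟩ := key D g hg
  have h2 := hφE hm
  rw [hEhom] at h2
  exact CMap.congr (cmap_of_mem_centralizerHom h2) (fun x hx => by rw [extHom_apply φ hx, hφg])

end Cfsg.Agent.Lib.Helper84_CtrBasic
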