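import Cfsg.Agent.Lib.Helper84_KLTransport
import Cfsg.Agent.Lib.Helper84_CtrBasic

/-!
# Focal subgroups of normalizer systems in function form (helper84)

`NFoc F U X`: all focal quotients `x⁻¹ f(x)` of maps of the normalizer system of `U` lie in `X`; `AllFoc F X`: the same
for all maps of `F`; `nfoc F U`: the focal subgroup of the normalizer system of `U`; `focSystem F X`: the subsystem of the
maps of `F` all of whose focal quotients lie in `X`. A bounded Alperin theorem and the transport to a fully normalized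
conjugate for these notions.
-/

set_option autoImplicit false

namespace Cfsg.Agent.Lib.Helper84_FocBasic

open Cfsg Cfsg.FusionSystem Cfsg.Agent.Lib Cfsg.Agent.Lib.Helper87_Alperin Cfsg.Agent.Lib.Helper87_Alperin2
  Cfsg.Agent.Lib.Helper84_KLBasic Cfsg.Agent.Lib.Helper88_Centric Cfsg.Agent.Lib.Helper84_CtrBasic

variable {Ω : Type*} [Group Ω] {S : Subgroup Ω}

/-- the focal quotients of the maps of the normalizer system of `U` lie in `X` -/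
def NFoc (F : FusionSystem S) (U X : Subgroup Ω) : Prop :=
  ∀ (P : Subgroup Ω) (f : Ω → Ω), NMap F U P f → ∀ x ∈ P, x⁻¹ * f x ∈ X

/-- the focal quotients of all maps of the system lie in `X` -/
def AllFoc (F : FusionSystem S) (X : Subgroup Ω) : Prop :=
  ∀ (P : Subgroup Ω) (f : Ω → Ω), IsMapOn F P f → ∀ x ∈ P, x⁻¹ * f x ∈ X

/-- the focal subgroup of the normalizer system of `U` -/
def nfoc (F : FusionSystem S) (U : Subgroup Ω) : Subgroup Ω :=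
  Subgroup.closure {y | ∃ (P : Subgroup Ω) (f : Ω → Ω) (x : Ω), NMap F U P f ∧ x ∈ P ∧ y = x⁻¹ * f x}

theorem nFoc_nfoc (F : FusionSystem S) (U : Subgroup Ω) : NFoc F U (nfoc F U) :=
  fun P f hf x hx => Subgroup.subset_closure ⟨P, f, x, hf, hx, rfl⟩

theorem nfoc_le {F : FusionSystem S} {U X : Subgroup Ω} (h : NFoc F U X) : nfoc F U ≤ X := by
  apply (Subgroup.closure_le _).2
  rintro _ ⟨P, f, x, hf, hx, rfl⟩
  exact h P f hf x hx

theorem NFoc.mono {F : FusionSystem S} {U X Y : Subgroup Ω} (h : NFoc F U X) (hXY : X ≤ Y) : NFoc F U Y :=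
  fun P f hf x hx => hXY (h P f hf x hx)

theorem AllFoc.mono {F : FusionSystem S} {X Y : Subgroup Ω} (h : AllFoc F X) (hXY : X ≤ Y) : AllFoc F Y :=
  fun P f hf x hx => hXY (h P f hf x hx)

theorem nfoc_le_S (F : FusionSystem S) (U : Subgroup Ω) : nfoc F U ≤ S := by
  apply nfoc_le
  intro P f hf x hx
  exact S.mul_mem (S.inv_mem (hf.1.le hx)) (hf.1.mem hx)

/-- an automorphism of `R` in the system is a map of the normalizer system of `R` -/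
theorem nmap_of_aut {F : FusionSystem S} {R : Subgroup Ω} (hRS : R ≤ S) {α : MulAut R}
    (hα : α ∈ F.autGroup R) : NMap F R R (extFun α) := by
  have hmap : IsMapOn F R (extFun α) := (mem_autGroup_iff F hRS α).1 hα
  have hRN : R ≤ normalizerIn S R := le_inf hRS Subgroup.le_normalizer
  exact ⟨hmap, hRN, fun x hx => hRN (extFun_mem α hx), R, extFun α, le_rfl, le_rfl, hmap, fun _ _ => rfl,
    fun x hx => extFun_mem α hx⟩

/-- a map of the system normalizing `U ⊴ S` is a map of the normalizer system of `U` -/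
theorem nmap_of_le_normalizer {F : FusionSystem S} {U D : Subgroup Ω} {g : Ω → Ω}
    (hUn : S ≤ Subgroup.normalizer (U : Set Ω)) (hg : IsMapOn F D g) (hUD : U ≤ D) (hgU : ∀ x ∈ U, g x ∈ U)
    {P : Subgroup Ω} (hPD : P ≤ D) : NMap F U P g := by
  have hSN : S ≤ normalizerIn S U := le_inf le_rfl hUn
  exact ⟨hg.mono hPD, (hPD.trans hg.le).trans hSN, fun x hx => hSN (hg.mem (hPD hx)), D, g, hPD, hUD, hg,
    fun _ _ => rfl, hgU⟩

/-! ### The subsystem of maps with focal quotients in `X` -/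

/-- the maps of `F` all of whose focal quotients lie in `X` -/
def focSystem (F : FusionSystem S) (X : Subgroup Ω)
    (hX : ∀ x ∈ S, ∀ s ∈ S, x⁻¹ * (s * x * s⁻¹) ∈ X) : FusionSystem S where
  Hom P := {φ | φ ∈ F.Hom P ∧ ∀ x : P, (x : Ω)⁻¹ * φ x ∈ X}
  le_of_mem h := F.le_of_mem h.1
  injective_of_mem h := F.injective_of_mem h.1
  conj_mem hP hg := ⟨F.conj_mem hP hg, fun x => hX _ (hP x.2) _ hg⟩
  comp_mem := by
    rintro P Q φ ψ ⟨hφ, hφX⟩ ⟨hψ, hψX⟩ h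
    refine ⟨F.comp_mem hφ hψ h, fun x => ?_⟩
    have h1 := hφX x
    have h2 := hψX ⟨φ x, h x⟩
    have h3 : (x : Ω)⁻¹ * (ψ.comp (φ.codRestrict Q h)) x = ((x : Ω)⁻¹ * φ x) * ((φ x)⁻¹ * ψ ⟨φ x, h x⟩) := by
      show (x : Ω)⁻¹ * ψ ⟨φ x, h x⟩ = _
      group
    rw [h3]
    exact X.mul_mem h1 h2
  inv_mem := by
    rintro P φ ⟨hφ, hφX⟩
    obtain ⟨ψ, hψ, hinv⟩ := F.inv_mem hφ
    refine ⟨ψ, ⟨hψ, ?_⟩, hinv⟩
    rintro ⟨_, x, rfl⟩
    rw [hinv x]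
    have h1 := X.inv_mem (hφX x)
    have h2 : ((x : Ω)⁻¹ * φ x)⁻¹ = (φ x)⁻¹ * (x : Ω) := by group
    rw [h2] at h1
    exact h1

theorem isMapOn_focSystem_iff {F : FusionSystem S} {X : Subgroup Ω}
    {hX : ∀ x ∈ S, ∀ s ∈ S, x⁻¹ * (s * x * s⁻¹) ∈ X} {P : Subgroup Ω} {f : Ω → Ω} :
    IsMapOn (focSystem F X hX) P f ↔ IsMapOn F P f ∧ ∀ x ∈ P, x⁻¹ * f x ∈ X := by
  constructor
  · rintro ⟨φ, ⟨hφ, hφX⟩, hφf⟩
    refine ⟨⟨φ, hφ, hφf⟩, fun x hx => ?_⟩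
    rw [← hφf ⟨x, hx⟩]
    exact hφX ⟨x, hx⟩
  · rintro ⟨⟨φ, hφ, hφf⟩, hX'⟩
    refine ⟨φ, ⟨hφ, fun x => ?_⟩, hφf⟩
    rw [hφf x]
    exact hX' x x.2

/-- **Bounded Alperin theorem for focal quotients.** -/
theorem allFoc_of_frc_bounded [Finite S] {p : ℕ} [Fact p.Prime] (hS : IsPGroup p S) {F : FusionSystem S}
    (hF : F.IsSaturated p) {X : Subgroup Ω} (hX : ∀ x ∈ S, ∀ s ∈ S, x⁻¹ * (s * x * s⁻¹) ∈ X) (m : ℕ)
    (h : ∀ Q : Subgroup Ω, F.IsFullyNormalized Q → F.IsCentric Q → F.IsRadical p Q → m ≤ Nat.card Q →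
      ∀ α ∈ F.autGroup Q, ∀ x ∈ Q, x⁻¹ * extFun α x ∈ X) :
    ∀ (D : Subgroup Ω) (g : Ω → Ω), IsMapOn F D g → m ≤ Nat.card D → ∀ x ∈ D, x⁻¹ * g x ∈ X := by
  have hEF : ∀ P : Subgroup Ω, (focSystem F X hX).Hom P ⊆ F.Hom P := fun P φ hφ => hφ.1
  have key := alperin_frc_isMapOn F hS hF (boundedSystem F (focSystem F X hX) hEF m) (by
    intro Q hQa hQr hQc hQrad α hα
    have hQS : Q ≤ S := hQa.1
    have h1 : autHom α ∈ F.Hom Q := (mem_autGroup_iff' F hQS α).1 hα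
    refine ⟨autHom α, ⟨h1, fun hm => ⟨h1, fun x => ?_⟩⟩, fun x => ?_⟩
    · have hQfn := isFullyNormalized_of_automized_receptive hS F hQa hQr
      have h2 := h Q hQfn hQc hQrad hm α hα x x.2
      rw [extFun_coe] at h2
      exact h2
    · rw [extFun_coe]
      rfl)
  intro D g hg hm x hx
  obtain ⟨φ, ⟨-, hφE⟩, hφg⟩ := key D g hg
  have h2 := (hφE hm).2 ⟨x, hx⟩
  rw [hφg] at h2
  exact h2

/-! ### Transport to a conjugate -/

theorem nFoc_of_conj {F : FusionSystem S} {X V₀ V : Subgroup Ω} {χ : Ω → Ω} (hV₀S : V₀ ≤ S)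
    (hχ : IsMapOn F (normalizerIn S V₀) χ) (hχV : ∀ y, y ∈ V ↔ ∃ x ∈ V₀, χ x = y)
    (hχN : ∀ x ∈ normalizerIn S V₀, χ x ∈ normalizerIn S V)
    (hχX : ∀ x ∈ normalizerIn S V₀, x⁻¹ * χ x ∈ X) (h : NFoc F V X) : NFoc F V₀ X := by
  rintro P f ⟨hf, hPN, hfN, D, g, hPD, hVD, hg, hgf, hgV⟩ x hx
  set N₀ := normalizerIn S V₀ with hN₀
  have hV₀N : V₀ ≤ N₀ := le_inf hV₀S Subgroup.le_normalizer
  set D₁ := P ⊔ V₀ with hD₁
  have hD₁N : D₁ ≤ N₀ := sup_le hPN hV₀N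
  have hD₁D : D₁ ≤ D := sup_le hPD hVD
  -- `g` maps `D₁` into `N₀`
  have hgD₁ : ∀ x ∈ D₁, g x ∈ N₀ := by
    let K : Subgroup Ω :=
      { carrier := {x | x ∈ D ∧ g x ∈ N₀}
        one_mem' := ⟨D.one_mem, by rw [hg.map_one]; exact N₀.one_mem⟩
        mul_mem' := by
          rintro a b ⟨ha, ha'⟩ ⟨hb, hb'⟩
          exact ⟨D.mul_mem ha hb, by rw [hg.map_mul ha hb]; exact N₀.mul_mem ha' hb'⟩
        inv_mem' := by
          rintro a ⟨ha, ha'⟩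
          exact ⟨D.inv_mem ha, by rw [hg.map_inv ha]; exact N₀.inv_mem ha'⟩ }
    have hPK : P ≤ K := fun x hx => ⟨hPD hx, by
      rw [hgf x hx]
      exact hfN x hx⟩
    have hVK : V₀ ≤ K := fun x hx => ⟨hVD hx, hV₀N (hgV x hx)⟩
    intro x hx
    exact ((sup_le hPK hVK : D₁ ≤ K) hx).2
  -- images
  obtain ⟨N₀', hN₀', -⟩ := exists_isImage hχ
  obtain ⟨D₁', hD₁', -⟩ := exists_isImage (hχ.mono hD₁N)
  obtain ⟨P', hP', -⟩ := exists_isImage (hχ.mono hPN)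
  obtain ⟨χ', hχ', hχ'χ, hχ'N, hχχ'⟩ := hχ.inv (Q := N₀') hN₀'
  have hD₁'N₀' : D₁' ≤ N₀' := by
    intro y hy
    obtain ⟨x, hx, rfl⟩ := (hD₁' y).1 hy
    exact hN₀'.mem (hD₁N hx)
  have hP'D₁' : P' ≤ D₁' := by
    intro y hy
    obtain ⟨x, hx, rfl⟩ := (hP' y).1 hy
    exact hD₁'.mem ((le_sup_left : P ≤ P ⊔ V₀) hx)
  have hVD₁' : V ≤ D₁' := by
    intro y hy
    obtain ⟨x, hx, rfl⟩ := (hχV y).1 hy
    exact hD₁'.mem ((le_sup_right : V₀ ≤ P ⊔ V₀) hx)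
  have hχ'D₁ : ∀ y ∈ D₁', χ' y ∈ D₁ := by
    intro y hy
    obtain ⟨x, hx, rfl⟩ := (hD₁' y).1 hy
    rw [hχ'χ x (hD₁N hx)]
    exact hx
  have h1 : IsMapOn F D₁' (g ∘ χ') := (hχ'.mono hD₁'N₀').comp (hg.mono hD₁D) hχ'D₁
  have h2 : IsMapOn F D₁' (χ ∘ (g ∘ χ')) :=
    h1.comp hχ (fun y hy => hgD₁ _ (hχ'D₁ y hy))
  set f' : Ω → Ω := χ ∘ (g ∘ χ') with hf'
  have hf'χ : ∀ x ∈ D₁, f' (χ x) = χ (g x) := by
    intro x hx
    show χ (g (χ' (χ x))) = χ (g x)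
    rw [hχ'χ x (hD₁N hx)]
  have hf'V : ∀ y ∈ V, f' y ∈ V := by
    intro y hy
    obtain ⟨x, hx, rfl⟩ := (hχV y).1 hy
    rw [hf'χ x ((le_sup_right : V₀ ≤ P ⊔ V₀) hx)]
    exact (hχV _).2 ⟨g x, hgV x hx, rfl⟩
  have hP'N : P' ≤ normalizerIn S V := by
    intro y hy
    obtain ⟨x, hx, rfl⟩ := (hP' y).1 hy
    exact hχN x (hPN hx)
  have hf'N : ∀ y ∈ P', f' y ∈ normalizerIn S V := by
    intro y hy
    obtain ⟨x, hx, rfl⟩ := (hP' y).1 hy
    rw [hf'χ x ((le_sup_left : P ≤ P ⊔ V₀) hx), hgf x hx]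
    exact hχN _ (hfN x hx)
  have hnm : NMap F V P' f' :=
    ⟨h2.mono hP'D₁', hP'N, hf'N, D₁', f', hP'D₁', hVD₁', h2, fun _ _ => rfl, hf'V⟩
  have h3 := h P' f' hnm (χ x) (hP'.mem hx)
  rw [hf'χ x ((le_sup_left : P ≤ P ⊔ V₀) hx), hgf x hx] at h3
  have h4 := hχX x (hPN hx)
  have h5 := X.inv_mem (hχX (f x) (hfN x hx))
  have h6 : x⁻¹ * f x = (x⁻¹ * χ x) * ((χ x)⁻¹ * χ (f x)) * ((f x)⁻¹ * χ (f x))⁻¹ := by group
  rw [h6]
  exact X.mul_mem (X.mul_mem h4 h3) h5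

/-- **Transport to a fully normalized conjugate**: data -/
theorem exists_transport [Finite S] {p : ℕ} [Fact p.Prime] (hS : IsPGroup p S)
    {F : FusionSystem S} (hF : F.IsSaturated p) {V₀ : Subgroup Ω} (hV₀ : V₀ ≤ S) :
    ∃ (V : Subgroup Ω) (χ : Ω → Ω), F.IsFullyNormalized V ∧ (V₀ ≠ ⊥ → V ≠ ⊥) ∧
      Nat.card (normalizerIn S V₀) ≤ Nat.card (normalizerIn S V) ∧
      IsMapOn F (normalizerIn S V₀) χ ∧ (∀ y, y ∈ V ↔ ∃ x ∈ V₀, χ x = y) ∧
      ∀ x ∈ normalizerIn S V₀, χ x ∈ normalizerIn S V := by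
  obtain ⟨V, hconj, hVn⟩ := Helper84_FusionRS.exists_isFullyNormalized_conj F hV₀
  have hVa := Helper84_FusionRS.IsSaturated.isFullyAutomized hS hF hVn
  have hVr := Helper84_FusionRS.IsSaturated.isReceptive_of_isFullyNormalized hS hF hVn
  obtain ⟨φ, hφ, hφN, hφV⟩ := Helper84_FusionSat.exists_normalizer_map hS F hVa hVr hconj
  have hχ : IsMapOn F (normalizerIn S V₀) (extHom φ) := isMapOn_extHom F hφ
  have hV₀N : V₀ ≤ normalizerIn S V₀ := le_inf hV₀ Subgroup.le_normalizer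
  have hχV : ∀ y, y ∈ V ↔ ∃ x ∈ V₀, extHom φ x = y := by
    intro y
    rw [← hφV, Helper85_Fusion.mem_map_subgroupOf]
    constructor
    · rintro ⟨z, hz, hzD, rfl⟩
      exact ⟨z, hz, extHom_apply φ hzD⟩
    · rintro ⟨x, hx, rfl⟩
      exact ⟨x, hx, hV₀N hx, (extHom_apply φ (hV₀N hx)).symm⟩
  have hχN : ∀ x ∈ normalizerIn S V₀, extHom φ x ∈ normalizerIn S V := by
    intro x hx
    rw [extHom_apply φ hx]
    exact hφN _
  refine ⟨V, extHom φ, hVn, ?_, ?_, hχ, hχV, hχN⟩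
  · intro hne hV
    apply hne
    rw [Subgroup.eq_bot_iff_forall]
    intro x hx
    have h1 : extHom φ x ∈ V := (hχV _).2 ⟨x, hx, rfl⟩
    rw [hV, Subgroup.mem_bot] at h1
    have h2 : extHom φ x = extHom φ 1 := by rw [h1, hχ.map_one]
    exact hχ.injOn (hV₀N hx) (Subgroup.one_mem _) h2
  · have : Finite (normalizerIn S V) := Helper84_FusionRS.finite_of_le_S inf_le_left
    exact Nat.card_le_card_of_injective (fun x : normalizerIn S V₀ => (⟨φ x, hφN x⟩ : normalizerIn S V))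
      (fun a b hab => F.injective_of_mem hφ (congrArg Subtype.val hab))

end Cfsg.Agent.Lib.Helper84_FocBasic
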