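import Mathlib
import Cfsg.Agent.Lib.Helper87_ClassTwo2
import Cfsg.Agent.Lib.Helper84_FocBasic
import Cfsg.Agent.Lib.Helper87_Hyperfocal
import Cfsg.Agent.Lib.Helper84_KLBasic
import Cfsg.Agent.S5087
import Cfsg.Agent.S5082

/-!
# General lemmas on saturated fusion systems used for S5265 (helper72)

* `isNormal_of_inv`: normality from invariance under `Aut_F(S)` and `Aut_F(E)`, `E` essential.
* `exists_isEssential_of_core`: if `O_p(F) = 1` and `S ≠ 1` there is an essential subgroup.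
* `pow_relIndex_mem_inn`: a power of any `F`-automorphism of `S`, of exponent prime to `p`, is inner.
* `exists_restrict`, `exists_aut_of_map`: restriction of automorphisms and conversion from maps.
* `hyperfocal_le_of_gen`: a bound for the hyperfocal subgroup from the Alperin–Goldschmidt generators.
-/

set_option autoImplicit false

namespace Cfsg.Agent.Lib.Helper72_HypA

open Cfsg Cfsg.FusionSystem Cfsg.Agent.Lib.Helper87_Alperin

variable {Ω : Type*} [Group Ω] {S : Subgroup Ω}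

/-- `Q` is invariant under `Aut_F(P)`. -/
def AInv (F : FusionSystem S) (P Q : Subgroup Ω) : Prop :=
  ∀ α ∈ F.autGroup P, ∀ x : P, (x : Ω) ∈ Q → ((α x : P) : Ω) ∈ Q

theorem AInv.inf {F : FusionSystem S} {P Q₁ Q₂ : Subgroup Ω} (h₁ : AInv F P Q₁) (h₂ : AInv F P Q₂) :
    AInv F P (Q₁ ⊓ Q₂) :=
  fun α hα x hx => ⟨h₁ α hα x hx.1, h₂ α hα x hx.2⟩

theorem aInv_self (F : FusionSystem S) (P : Subgroup Ω) : AInv F P P :=
  fun α _ x _ => (α x).2

theorem map_eq_of_aInv {F : FusionSystem S} {P Q : Subgroup Ω} (h : AInv F P Q) {α : MulAut P}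
    (hα : α ∈ F.autGroup P) : (Q.subgroupOf P).map α.toMonoidHom = Q.subgroupOf P := by
  ext x
  constructor
  · rintro ⟨y, hy, rfl⟩
    have hy' : (y : Ω) ∈ Q := hy
    rw [Subgroup.mem_subgroupOf]
    exact h α hα y hy'
  · intro hx
    rw [Subgroup.mem_subgroupOf] at hx
    refine ⟨α⁻¹ x, ?_, ?_⟩
    · show α⁻¹ x ∈ Q.subgroupOf P
      rw [Subgroup.mem_subgroupOf]
      exact h α⁻¹ (Subgroup.inv_mem _ hα) x hx
    · simp

variable [Finite S] {p : ℕ} [Fact p.Prime]

/-- Normality from invariance under the Alperin–Goldschmidt generators. -/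
theorem isNormal_of_inv (hS : IsPGroup p S) {F : FusionSystem S} (hF : F.IsSaturated p) {Q : Subgroup Ω}
    (hQS : Q ≤ S) (hB : AInv F S Q) (hE : ∀ P, F.IsEssential p P → Q ≤ P ∧ AInv F P Q) :
    F.IsNormal Q := by
  rw [Cfsg.Agent.S5087.result p hS F hF Q]
  rintro P (rfl | hP)
  · exact ⟨hQS, fun α hα => map_eq_of_aInv hB hα⟩
  · exact ⟨(hE P hP).1, fun α hα => map_eq_of_aInv (hE P hP).2 hα⟩

theorem eq_bot_of_isNormal {F : FusionSystem S} (hcore : F.core = ⊥) {Q : Subgroup Ω} (hQ : F.IsNormal Q) :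
    Q = ⊥ := by
  have : Q ≤ F.core := le_sSup hQ
  rw [hcore] at this
  exact le_bot_iff.1 this

/-- If `O_p(F) = 1` and `S ≠ 1` then there is an essential subgroup. -/
theorem exists_isEssential_of_core (hS : IsPGroup p S) {F : FusionSystem S} (hF : F.IsSaturated p)
    (hS1 : S ≠ ⊥) (hcore : F.core = ⊥) : ∃ E, F.IsEssential p E := by
  by_contra hcon
  push Not at hcon
  apply hS1
  apply eq_bot_of_isNormal hcore
  exact isNormal_of_inv hS hF le_rfl (aInv_self F S) (fun P hP => (hcon P hP).elim)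

/-- A fixed power, of exponent prime to `p`, of every `F`-automorphism of `S` is inner. -/
theorem pow_relIndex_mem_inn (hS : IsPGroup p S) {F : FusionSystem S} (hF : F.IsSaturated p) :
    ∃ m : ℕ, ¬ p ∣ m ∧ ∀ β ∈ F.autGroup S, β ^ m ∈ Inn S := by
  have hfn := Cfsg.Agent.Lib.Helper84_FusionAlperin.isFullyNormalized_S F
  have hfa := Cfsg.Agent.Lib.Helper84_FusionRS.IsSaturated.isFullyAutomized hS hF hfn
  have hSyl := Cfsg.Agent.Lib.Helper84_FusionSat.isSylowIn_of_isFullyAutomized F hfa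
  rw [Cfsg.Agent.Lib.Helper88_Essential.autInducedBy_self_eq_inn] at hSyl
  refine ⟨(Inn S).relIndex (F.autGroup S), hSyl.not_dvd, fun β hβ => ?_⟩
  have hn : ((Inn S).subgroupOf (F.autGroup S)).Normal := inferInstance
  have h1 := Subgroup.pow_index_mem ((Inn S).subgroupOf (F.autGroup S)) (⟨β, hβ⟩ : F.autGroup S)
  rw [Subgroup.mem_subgroupOf] at h1
  exact h1

/-- Restriction of an `F`-automorphism of `S` to an invariant subgroup. -/
theorem exists_restrict {F : FusionSystem S} {β : MulAut S} (hβ : β ∈ F.autGroup S) {E : Subgroup Ω}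
    (hES : E ≤ S) (hβE : ∀ x : S, (x : Ω) ∈ E → ((β x : S) : Ω) ∈ E) :
    ∃ α ∈ F.autGroup E, ∀ (x : Ω) (hx : x ∈ E), ((α ⟨x, hx⟩ : E) : Ω) = ((β ⟨x, hES hx⟩ : S) : Ω) := by
  have h1 : IsMapOn F S (extFun β) := (mem_autGroup_iff F le_rfl β).1 hβ
  have h2 : IsMapOn F E (extFun β) := h1.mono hES
  have h3 : ∀ x ∈ E, extFun β x ∈ E := by
    intro x hx
    rw [extFun_apply β (hES hx)]
    exact hβE ⟨x, hES hx⟩ hx
  obtain ⟨α, hα, hαβ⟩ := Cfsg.Agent.Lib.Helper84_KLBasic.exists_aut_of_isMapOn h2 h3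
  refine ⟨α, hα, fun x hx => ?_⟩
  have := hαβ x hx
  rw [extFun_apply α hx, extFun_apply β (hES hx)] at this
  exact this

/-- An `F`-map `S → S` is an `F`-automorphism of `S`. -/
theorem exists_aut_of_map {F : FusionSystem S} {f : Ω → Ω} (hf : IsMapOn F S f) :
    ∃ β ∈ F.autGroup S, ∀ x : S, ((β x : S) : Ω) = f x := by
  obtain ⟨β, hβ, hβf⟩ := Cfsg.Agent.Lib.Helper84_KLBasic.exists_aut_of_isMapOn hf (fun x hx => hf.mem hx)
  refine ⟨β, hβ, fun x => ?_⟩
  have := hβf x x.2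
  rw [extFun_coe] at this
  exact this

/-- A bound for the hyperfocal subgroup from the Alperin–Goldschmidt generators. -/
theorem hyperfocal_le_of_gen (hS : IsPGroup p S) {F : FusionSystem S} (hF : F.IsSaturated p)
    {K : Subgroup Ω} (hX : ∀ x ∈ S, ∀ s ∈ S, x⁻¹ * (s * x * s⁻¹) ∈ K)
    (h : ∀ P : Subgroup Ω, (P = S ∨ F.IsEssential p P) → ∀ α ∈ F.autGroup P, ∀ x : P,
      (x : Ω)⁻¹ * ((α x : P) : Ω) ∈ K) : F.hyperfocalSubgroup p ≤ K := by
  set E := Cfsg.Agent.Lib.Helper84_FocBasic.focSystem F K hX with hE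
  have hle : F ≤ E := by
    apply Cfsg.Agent.S5082.result p hS F hF E
    intro P hP α hα
    have hPS : P ≤ S := by
      rcases hP with rfl | hP
      · exact le_rfl
      · exact hP.1.1
    rw [mem_autGroup_iff E hPS, Cfsg.Agent.Lib.Helper84_FocBasic.isMapOn_focSystem_iff]
    refine ⟨(mem_autGroup_iff F hPS α).1 hα, fun x hx => ?_⟩
    rw [extFun_apply α hx]
    exact h P hP α hα ⟨x, hx⟩
  apply Cfsg.Agent.Lib.Helper87_Hyperfocal.hyperfocal_le
  intro P hPS α hα _ x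
  have h1 : IsMapOn F P (extFun α) := (mem_autGroup_iff F hPS α).1 hα
  obtain ⟨φ, hφ, hφf⟩ := h1
  have h2 : IsMapOn E P (extFun α) := ⟨φ, hle P hφ, hφf⟩
  have h3 := (Cfsg.Agent.Lib.Helper84_FocBasic.isMapOn_focSystem_iff.1 h2).2 x x.2
  rw [extFun_coe] at h3
  exact h3

end Cfsg.Agent.Lib.Helper72_HypA
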