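import Mathlib
import Cfsg.Agent.Lib.Helper54_TwoGroups

/-!
# Groups whose centre has index four (helper72)

* `idx4_cases`: coset enumeration modulo the centre.
* `false_of_three_involutions`: three involutions in the three nontrivial cosets of the centre are impossible when no
  nontrivial commutator is the square of a central element.
* `trivial_on_quotient`: an automorphism having an odd power which is trivial modulo the centre is trivial modulo the
  centre, in the presence of a noncentral involution (same hypothesis on squares).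
* `mem_of_pow_trivial`: focal quotients of such automorphisms.
* `card_sup_le_eight`, `nonempty_mulEquiv_dihedral_of_card_eight`.
-/

set_option autoImplicit false

namespace Cfsg.Agent.Lib.Helper72_Idx4

variable {G : Type*} [Group G]

/-- In a group of order four in which all squares are trivial, every element is `1`, `u`, `v` or `u v`. -/
theorem klein_cases {Q : Type*} [Group Q] [Finite Q] (hQ : Nat.card Q = 4) (hsq : ∀ q : Q, q * q = 1)
    {u v : Q} (hu : u ≠ 1) (hv : v ≠ 1) (huv : u ≠ v) (q : Q) :
    q = 1 ∨ q = u ∨ q = v ∨ q = u * v := by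
  classical
  have : Fintype Q := Fintype.ofFinite Q
  rw [Nat.card_eq_fintype_card] at hQ
  have h1 : (1 : Q) ≠ u * v := by
    intro h
    apply huv
    have h2 : u * v = v * v := by rw [← h, hsq]
    exact mul_right_cancel h2
  have h2 : u ≠ u * v := by
    intro h
    apply hv
    have : u * 1 = u * v := by rw [mul_one]; exact h
    exact (mul_left_cancel this).symm
  have h3 : v ≠ u * v := by
    intro h
    apply hu
    have : 1 * v = u * v := by rw [one_mul]; exact h
    exact (mul_right_cancel this).symm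
  let s : Finset Q := {1, u, v, u * v}
  have hcard : s.card = 4 := by
    have e1 : v ∉ ({u * v} : Finset Q) := by simp [h3]
    have e2 : u ∉ ({v, u * v} : Finset Q) := by simp [huv, h2]
    have e3 : (1 : Q) ∉ ({u, v, u * v} : Finset Q) := by simp [hu.symm, hv.symm, h1]
    show ({1, u, v, u * v} : Finset Q).card = 4
    rw [Finset.card_insert_of_notMem e3, Finset.card_insert_of_notMem e2,
      Finset.card_insert_of_notMem e1, Finset.card_singleton]
  have huniv : s = Finset.univ := Finset.eq_univ_of_card s (by rw [hcard, hQ])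
  have hq : q ∈ s := by rw [huniv]; exact Finset.mem_univ q
  simpa [s] using hq

theorem central_comm {z : G} (hz : z ∈ Subgroup.center G) (g : G) : g * z = z * g :=
  Subgroup.mem_center_iff.1 hz g

/-- An automorphism preserves the centre. -/
theorem aut_mem_center_iff (β : MulAut G) (x : G) : β x ∈ Subgroup.center G ↔ x ∈ Subgroup.center G := by
  constructor
  · intro h
    rw [Subgroup.mem_center_iff] at h ⊢
    intro g
    have := h (β g)
    rw [← map_mul, ← map_mul] at this
    exact β.injective this
  · intro h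
    rw [Subgroup.mem_center_iff] at h ⊢
    intro g
    have := h (β⁻¹ g)
    have h2 := congrArg β this
    rw [map_mul, map_mul, MulAut.apply_inv_self] at h2
    exact h2

theorem pow_aut_mem_center (β : MulAut G) (k : ℕ) {x : G} (hx : x ∈ Subgroup.center G) :
    (β ^ k) x ∈ Subgroup.center G :=
  (aut_mem_center_iff (β ^ k) x).2 hx

/-- No two-cycles modulo the centre for an automorphism with a trivial odd power. -/
theorem no_two_cycle (β : MulAut G) {m : ℕ} (hm : Odd m)
    (hβm : ∀ x, x⁻¹ * (β ^ m) x ∈ Subgroup.center G) (x : G)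
    (h2 : x⁻¹ * β (β x) ∈ Subgroup.center G) : x⁻¹ * β x ∈ Subgroup.center G := by
  have heven : ∀ k : ℕ, x⁻¹ * (β ^ (2 * k)) x ∈ Subgroup.center G := by
    intro k
    induction k with
    | zero => simp
    | succ k ih =>
      have h3 : (β ^ (2 * (k + 1))) x = (β ^ (2 * k)) (β (β x)) := by
        have : 2 * (k + 1) = 2 * k + 1 + 1 := by ring
        rw [this, pow_succ, pow_succ, MulAut.mul_apply, MulAut.mul_apply]
      set d := x⁻¹ * β (β x) with hd
      have hbb : β (β x) = x * d := by rw [hd]; group
      rw [h3, hbb, map_mul]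
      have h4 : x⁻¹ * ((β ^ (2 * k)) x * (β ^ (2 * k)) d) =
          (x⁻¹ * (β ^ (2 * k)) x) * (β ^ (2 * k)) d := by group
      rw [h4]
      exact Subgroup.mul_mem _ ih (pow_aut_mem_center β _ h2)
  obtain ⟨k, rfl⟩ := hm
  set e := x⁻¹ * (β ^ (2 * k)) x with he
  have hee : (β ^ (2 * k)) x = x * e := by rw [he]; group
  have h5 : (β ^ (2 * k + 1)) x = β x * β e := by
    rw [pow_succ', MulAut.mul_apply, hee, map_mul]
  have h6 := hβm x
  rw [h5] at h6
  have h7 : x⁻¹ * β x = (x⁻¹ * (β x * β e)) * (β e)⁻¹ := by group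
  rw [h7]
  exact Subgroup.mul_mem _ h6 (Subgroup.inv_mem _ ((aut_mem_center_iff β e).2 (heven k)))

section Idx4

variable [Finite G]

theorem card_quotient_center (hidx : (Subgroup.center G).index = 4) :
    Nat.card (G ⧸ Subgroup.center G) = 4 := by
  rw [← Subgroup.index_eq_card]; exact hidx

/-- Squares are central. -/
theorem sq_mem_center (hidx : (Subgroup.center G).index = 4) (x : G) : x * x ∈ Subgroup.center G := by
  have hQ := card_quotient_center hidx
  set Q := G ⧸ Subgroup.center G
  have hncyc : ¬ IsCyclic Q := by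
    intro hc
    have hinst := MonoidHom.isMulCommutative_of_isCyclic_of_ker_le_center
      (QuotientGroup.mk' (Subgroup.center G)) (by rw [QuotientGroup.ker_mk'])
    have hcomm : ∀ a b : G, a * b = b * a := fun a b => mul_comm' a b
    have htop : Subgroup.center G = ⊤ := by
      rw [eq_top_iff]
      intro g _
      rw [Subgroup.mem_center_iff]
      intro h
      exact hcomm h g
    rw [htop, Subgroup.index_top] at hidx
    omega
  have hq : ∀ q : Q, q * q = 1 := by
    intro q
    have hdvd : orderOf q ∣ 4 := by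
      rw [← hQ]; exact orderOf_dvd_natCard q
    have hne : orderOf q ≠ 4 := by
      intro h
      apply hncyc
      exact isCyclic_of_orderOf_eq_card q (by rw [h, hQ])
    have hle : orderOf q ≤ 4 := Nat.le_of_dvd (by norm_num) hdvd
    have h2 : orderOf q ∣ 2 := by
      interval_cases h : orderOf q
      · simp at hdvd
      · exact one_dvd _
      · exact dvd_rfl
      · norm_num at hdvd
      · exact absurd rfl hne
    have := orderOf_dvd_iff_pow_eq_one.1 h2
    rwa [pow_two] at this
  have := hq (QuotientGroup.mk x)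
  rw [← QuotientGroup.mk_mul, QuotientGroup.eq_one_iff] at this
  exact this

/-- Coset enumeration modulo the centre. -/
theorem idx4_cases (hidx : (Subgroup.center G).index = 4) {a b : G} (ha : a ∉ Subgroup.center G)
    (hb : b ∉ Subgroup.center G) (hab : a⁻¹ * b ∉ Subgroup.center G) (g : G) :
    g ∈ Subgroup.center G ∨ a⁻¹ * g ∈ Subgroup.center G ∨ b⁻¹ * g ∈ Subgroup.center G ∨
      (a * b)⁻¹ * g ∈ Subgroup.center G := by
  have hQ := card_quotient_center hidx
  have hsq : ∀ q : G ⧸ Subgroup.center G, q * q = 1 := by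
    intro q
    induction q using QuotientGroup.induction_on with
    | H x =>
      rw [← QuotientGroup.mk_mul, QuotientGroup.eq_one_iff]
      exact sq_mem_center hidx x
  have hu : (QuotientGroup.mk a : G ⧸ Subgroup.center G) ≠ 1 := by
    rw [Ne, QuotientGroup.eq_one_iff]; exact ha
  have hv : (QuotientGroup.mk b : G ⧸ Subgroup.center G) ≠ 1 := by
    rw [Ne, QuotientGroup.eq_one_iff]; exact hb
  have huv : (QuotientGroup.mk a : G ⧸ Subgroup.center G) ≠ QuotientGroup.mk b := by
    rw [Ne, QuotientGroup.eq]; exact hab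
  rcases klein_cases hQ hsq hu hv huv (QuotientGroup.mk g) with h | h | h | h
  · left
    rwa [QuotientGroup.eq_one_iff] at h
  · right; left
    exact QuotientGroup.eq.1 h.symm
  · right; right; left
    exact QuotientGroup.eq.1 h.symm
  · right; right; right
    rw [← QuotientGroup.mk_mul] at h
    exact QuotientGroup.eq.1 h.symm

/-- Three involutions in the three nontrivial cosets of the centre. -/
theorem false_of_three_involutions (hidx : (Subgroup.center G).index = 4)
    (hnsq : ∀ c ∈ Subgroup.center G, ∀ x y : G, x * y * x⁻¹ * y⁻¹ = c * c → x * y = y * x)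
    {a b c : G} (ha2 : a * a = 1) (hb2 : b * b = 1) (hc2 : c * c = 1)
    (ha : a ∉ Subgroup.center G) (hb : b ∉ Subgroup.center G) (hc : c ∉ Subgroup.center G)
    (hab : a⁻¹ * b ∉ Subgroup.center G) (hac : a⁻¹ * c ∉ Subgroup.center G)
    (hbc : b⁻¹ * c ∉ Subgroup.center G) : False := by
  rcases idx4_cases hidx ha hb hab c with h | h | h | h
  · exact hc h
  · exact hac h
  · exact hbc h
  · set d := (a * b)⁻¹ * c with hd
    have hcd : c = a * b * d := by rw [hd]; group
    have hainv : a⁻¹ = a := inv_eq_of_mul_eq_one_right ha2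
    have hbinv : b⁻¹ = b := inv_eq_of_mul_eq_one_right hb2
    have hdc := central_comm h
    -- `[a, b] = d⁻¹ d⁻¹`
    have h1 : a * b * a⁻¹ * b⁻¹ = d⁻¹ * d⁻¹ := by
      have h2 : (a * b * d) * (a * b * d) = 1 := by rw [← hcd]; exact hc2
      have h3 : (a * b * d) * (a * b * d) = (a * b * a * b) * (d * d) := by
        calc (a * b * d) * (a * b * d) = a * b * (d * (a * b)) * d := by group
          _ = a * b * ((a * b) * d) * d := by rw [← hdc (a * b)]
          _ = (a * b * a * b) * (d * d) := by group
      rw [h3] at h2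
      rw [hainv, hbinv]
      have h4 : a * b * a * b = (d * d)⁻¹ := eq_inv_of_mul_eq_one_left h2
      rw [h4]
      group
    have hcomm : a * b = b * a := hnsq d⁻¹ (Subgroup.inv_mem _ h) a b h1
    -- then `a` is central
    apply ha
    rw [Subgroup.mem_center_iff]
    intro g
    rcases idx4_cases hidx ha hb hab g with hg | hg | hg | hg
    · exact (central_comm hg a).symm
    · obtain ⟨e, he, rfl⟩ : ∃ e ∈ Subgroup.center G, g = a * e := ⟨a⁻¹ * g, hg, by group⟩
      calc a * e * a = a * (e * a) := by group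
        _ = a * (a * e) := by rw [central_comm he a]
    · obtain ⟨e, he, rfl⟩ : ∃ e ∈ Subgroup.center G, g = b * e := ⟨b⁻¹ * g, hg, by group⟩
      calc b * e * a = b * (e * a) := by group
        _ = b * (a * e) := by rw [central_comm he a]
        _ = (b * a) * e := by group
        _ = (a * b) * e := by rw [hcomm]
        _ = a * (b * e) := by group
    · obtain ⟨e, he, rfl⟩ : ∃ e ∈ Subgroup.center G, g = a * b * e := ⟨(a * b)⁻¹ * g, hg, by group⟩
      calc a * b * e * a = a * b * (e * a) := by group
        _ = a * b * (a * e) := by rw [central_comm he a]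
        _ = a * (b * a) * e := by group
        _ = a * (a * b) * e := by rw [hcomm]
        _ = a * (a * b * e) := by group

/-- An automorphism with an odd power trivial modulo the centre is trivial modulo the centre. -/
theorem trivial_on_quotient (hidx : (Subgroup.center G).index = 4)
    (hnsq : ∀ c ∈ Subgroup.center G, ∀ x y : G, x * y * x⁻¹ * y⁻¹ = c * c → x * y = y * x)
    {x₁ : G} (hx₁2 : x₁ * x₁ = 1) (hx₁ : x₁ ∉ Subgroup.center G)
    (β : MulAut G) {m : ℕ} (hm : Odd m) (hβm : ∀ x, x⁻¹ * (β ^ m) x ∈ Subgroup.center G) :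
    ∀ x, x⁻¹ * β x ∈ Subgroup.center G := by
  -- first for `x₁`
  have h1 : x₁⁻¹ * β x₁ ∈ Subgroup.center G := by
    by_contra hcon
    set y := β x₁ with hy
    set y₂ := β y with hy₂
    have hyZ : y ∉ Subgroup.center G := fun h => hx₁ ((aut_mem_center_iff β x₁).1 h)
    have hy₂Z : y₂ ∉ Subgroup.center G := fun h => hyZ ((aut_mem_center_iff β y).1 h)
    have hy2 : y * y = 1 := by rw [hy, ← map_mul, hx₁2, map_one]
    have hy₂2 : y₂ * y₂ = 1 := by rw [hy₂, ← map_mul, hy2, map_one]
    have hyy₂ : y⁻¹ * y₂ ∉ Subgroup.center G := by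
      intro h
      apply hcon
      have : y⁻¹ * y₂ = β (x₁⁻¹ * y) := by rw [map_mul, map_inv]
      rw [this] at h
      exact (aut_mem_center_iff β _).1 h
    have hxy₂ : x₁⁻¹ * y₂ ∉ Subgroup.center G := fun h => hcon (no_two_cycle β hm hβm x₁ h)
    exact false_of_three_involutions hidx hnsq hx₁2 hy2 hy₂2 hx₁ hyZ hy₂Z hcon hxy₂ hyy₂
  intro x
  by_cases hx : x ∈ Subgroup.center G
  · exact Subgroup.mul_mem _ (Subgroup.inv_mem _ hx) ((aut_mem_center_iff β x).2 hx)
  by_cases hx' : x₁⁻¹ * x ∈ Subgroup.center G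
  · set d := x₁⁻¹ * x with hd
    have hxd : x = x₁ * d := by rw [hd]; group
    have h2 : x⁻¹ * β x = d⁻¹ * (x₁⁻¹ * β x₁) * β d := by
      rw [hxd, map_mul]; group
    rw [h2]
    exact Subgroup.mul_mem _ (Subgroup.mul_mem _ (Subgroup.inv_mem _ hx') h1)
      ((aut_mem_center_iff β d).2 hx')
  have hyZ : β x ∉ Subgroup.center G := fun h => hx ((aut_mem_center_iff β x).1 h)
  have hx₁y : x₁⁻¹ * β x ∉ Subgroup.center G := by
    intro h
    apply hx'
    have h3 : (β x₁)⁻¹ * β x ∈ Subgroup.center G := by
      have : (β x₁)⁻¹ * β x = (x₁⁻¹ * β x₁)⁻¹ * (x₁⁻¹ * β x) := by group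
      rw [this]
      exact Subgroup.mul_mem _ (Subgroup.inv_mem _ h1) h
    have : (β x₁)⁻¹ * β x = β (x₁⁻¹ * x) := by rw [map_mul, map_inv]
    rw [this] at h3
    exact (aut_mem_center_iff β _).1 h3
  rcases idx4_cases hidx hx₁ hx hx' (β x) with h | h | h | h
  · exact absurd h hyZ
  · exact absurd h hx₁y
  · exact h
  · -- two-cycle
    apply no_two_cycle β hm hβm x
    obtain ⟨d, hd, hyd⟩ : ∃ d ∈ Subgroup.center G, β x = x₁ * x * d :=
      ⟨(x₁ * x)⁻¹ * β x, h, by group⟩
    obtain ⟨e, he, hx₁e⟩ : ∃ e ∈ Subgroup.center G, β x₁ = x₁ * e :=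
      ⟨x₁⁻¹ * β x₁, h1, by group⟩
    have hec := central_comm he
    have h4 : x⁻¹ * β (β x) = e * d * β d := by
      rw [hyd, map_mul, map_mul, hx₁e, hyd]
      calc x⁻¹ * (x₁ * e * (x₁ * x * d) * β d) = x⁻¹ * (x₁ * (e * x₁) * x * d * β d) := by group
        _ = x⁻¹ * (x₁ * (x₁ * e) * x * d * β d) := by rw [← hec x₁]
        _ = x⁻¹ * ((x₁ * x₁) * (e * x) * d * β d) := by group
        _ = x⁻¹ * ((x₁ * x₁) * (x * e) * d * β d) := by rw [← hec x]
        _ = e * d * β d := by rw [hx₁2]; group
    rw [h4]
    exact Subgroup.mul_mem _ (Subgroup.mul_mem _ he hd) ((aut_mem_center_iff β d).2 hd)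

end Idx4

/-- Focal quotients of an automorphism acting trivially on `Z(G) / N`, some power of which has its focal quotients
in `N`. -/
theorem mem_of_pow_trivial {N : Subgroup G} (β : MulAut G)
    (hZN : ∀ d ∈ Subgroup.center G, d⁻¹ * β d ∈ N) {x : G} (hc : x⁻¹ * β x ∈ Subgroup.center G)
    {m : ℕ} (hm : x⁻¹ * (β ^ m) x ∈ N) (hcop : (orderOf (x⁻¹ * β x)).Coprime m) :
    x⁻¹ * β x ∈ N := by
  set c := x⁻¹ * β x with hcdef
  have hβx : β x = x * c := by rw [hcdef]; group
  have hcc := fun g => Subgroup.mem_center_iff.1 hc g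
  have key : ∀ k : ℕ, x⁻¹ * (β ^ k) x ∈ Subgroup.center G ∧ (x⁻¹ * (β ^ k) x) * (c ^ k)⁻¹ ∈ N := by
    intro k
    induction k with
    | zero => simp
    | succ k ih =>
      obtain ⟨ih1, ih2⟩ := ih
      set d := x⁻¹ * (β ^ k) x with hd
      have hdx : (β ^ k) x = x * d := by rw [hd]; group
      have hdc := fun g => Subgroup.mem_center_iff.1 ih1 g
      have hstep : x⁻¹ * (β ^ (k + 1)) x = c * β d := by
        rw [pow_succ', MulAut.mul_apply, hdx, map_mul, hβx]; group
      have hβd : β d ∈ Subgroup.center G := (aut_mem_center_iff β d).2 ih1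
      refine ⟨by rw [hstep]; exact Subgroup.mul_mem _ hc hβd, ?_⟩
      rw [hstep]
      set e := d⁻¹ * β d with he
      have heN : e ∈ N := hZN d ih1
      have hβde : β d = d * e := by rw [he]; group
      have h3 : c * β d * (c ^ (k + 1))⁻¹ = (d * (c ^ k)⁻¹) * e := by
        rw [hβde, pow_succ]
        calc c * (d * e) * (c ^ k * c)⁻¹ = c * (d * e * c⁻¹) * (c ^ k)⁻¹ := by group
          _ = c * (c⁻¹ * (d * e)) * (c ^ k)⁻¹ := by
              have : d * e * c⁻¹ = c⁻¹ * (d * e) := by
                have h4 := hcc (c⁻¹ * (d * e) * c⁻¹)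
                calc d * e * c⁻¹ = c * (c⁻¹ * (d * e) * c⁻¹) := by group
                  _ = (c⁻¹ * (d * e) * c⁻¹) * c := (hcc _).symm
                  _ = c⁻¹ * (d * e) := by group
              rw [this]
          _ = d * e * (c ^ k)⁻¹ := by group
          _ = d * ((c ^ k)⁻¹ * e) := by
              have hck : (c ^ k)⁻¹ ∈ Subgroup.center G :=
                Subgroup.inv_mem _ (Subgroup.pow_mem _ hc k)
              have := Subgroup.mem_center_iff.1 hck e
              rw [mul_assoc, this]
          _ = (d * (c ^ k)⁻¹) * e := by group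
      rw [h3]
      exact N.mul_mem ih2 heN
  have h1 := (key m).2
  have h2 : c ^ m ∈ N := by
    have : c ^ m = ((x⁻¹ * (β ^ m) x) * (c ^ m)⁻¹)⁻¹ * (x⁻¹ * (β ^ m) x) := by group
    rw [this]
    exact N.mul_mem (N.inv_mem h1) hm
  obtain ⟨j, hj⟩ := exists_pow_eq_self_of_coprime hcop.symm
  rw [← hj]
  exact N.pow_mem h2 j

/-- Two subgroups of order four containing a common subgroup of order two, one of them normal, generate a subgroup
of order at most eight. -/
theorem card_sup_le_eight [Finite G] {w₁ w₂ zq : Subgroup G} (hn : w₂.Normal) (h1 : zq ≤ w₁) (h2 : zq ≤ w₂)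
    (hc1 : Nat.card w₁ = 4) (hc2 : Nat.card w₂ = 4) (hcz : Nat.card zq = 2) :
    Nat.card (w₁ ⊔ w₂ : Subgroup G) ≤ 8 := by
  have e1 : w₂.relIndex (w₁ ⊔ w₂) = w₂.relIndex w₁ := Subgroup.relIndex_sup_right w₁ w₂
  have e2 : (w₂ ⊓ w₁).relIndex w₁ = w₂.relIndex w₁ := Subgroup.inf_relIndex_right w₂ w₁
  have e3 : (⊥ : Subgroup G).relIndex w₂ * w₂.relIndex (w₁ ⊔ w₂) = (⊥ : Subgroup G).relIndex (w₁ ⊔ w₂) :=
    Subgroup.relIndex_mul_relIndex ⊥ w₂ (w₁ ⊔ w₂) bot_le le_sup_right
  have e4 : (⊥ : Subgroup G).relIndex zq * zq.relIndex w₁ = (⊥ : Subgroup G).relIndex w₁ :=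
    Subgroup.relIndex_mul_relIndex ⊥ zq w₁ bot_le h1
  rw [Subgroup.relIndex_bot_left, Subgroup.relIndex_bot_left, hcz, hc1] at e4
  have e5 : zq.relIndex w₁ = 2 := by omega
  have e6 : (w₂ ⊓ w₁).relIndex w₁ ≤ zq.relIndex w₁ :=
    Subgroup.relIndex_le_of_le_left (le_inf h2 h1) (by rw [e5]; norm_num)
  rw [Subgroup.relIndex_bot_left, Subgroup.relIndex_bot_left, hc2, e1, ← e2] at e3
  rw [e5] at e6
  calc Nat.card (w₁ ⊔ w₂ : Subgroup G) = 4 * (w₂ ⊓ w₁).relIndex w₁ := e3.symm
    _ ≤ 4 * 2 := Nat.mul_le_mul_left 4 e6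
    _ = 8 := by norm_num

open scoped commutatorElement in
/-- A group of order eight with a noncentral involution is dihedral. -/
theorem nonempty_mulEquiv_dihedral_of_card_eight [Finite G] (hcard : Nat.card G = 8) {x : G}
    (hx2 : x * x = 1) (hx : x ∉ Subgroup.center G) : Nonempty (G ≃* DihedralGroup 4) := by
  have hxinv : x⁻¹ = x := inv_eq_of_mul_eq_one_right hx2
  obtain ⟨y, hy⟩ : ∃ y : G, y * x ≠ x * y := by
    by_contra hcon
    push Not at hcon
    exact hx (Subgroup.mem_center_iff.2 hcon)
  have hP : IsPGroup 2 G := IsPGroup.of_card (n := 3) (by rw [hcard]; norm_num)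
  have : Fact (2 : ℕ).Prime := ⟨Nat.prime_two⟩
  -- the centre has order two
  have hZ2 : Nat.card (Subgroup.center G) = 2 := by
    have hmul := (Subgroup.center G).card_mul_index
    rw [hcard] at hmul
    have hnt : Nontrivial G := by
      rw [← Finite.one_lt_card_iff_nontrivial, hcard]; norm_num
    have hcn : Nontrivial (Subgroup.center G) := hP.center_nontrivial
    have h1 : 1 < Nat.card (Subgroup.center G) := Finite.one_lt_card
    have hdvd : Nat.card (Subgroup.center G) ∣ 8 := ⟨_, hmul.symm⟩
    have hle : Nat.card (Subgroup.center G) ≤ 8 := Nat.le_of_dvd (by norm_num) hdvd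
    have hne8 : Nat.card (Subgroup.center G) ≠ 8 := by
      intro h
      apply hx
      have : Subgroup.center G = ⊤ := (Subgroup.card_eq_iff_eq_top _).1 (by rw [h, hcard])
      rw [this]; exact Subgroup.mem_top x
    have hne4 : Nat.card (Subgroup.center G) ≠ 4 := by
      intro h
      rw [h] at hmul
      have hidx : (Subgroup.center G).index = 2 := by omega
      have hcyc : IsCyclic (G ⧸ Subgroup.center G) :=
        isCyclic_of_prime_card (p := 2) (by rw [← Subgroup.index_eq_card]; exact hidx)
      have hinst := MonoidHom.isMulCommutative_of_isCyclic_of_ker_le_center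
        (QuotientGroup.mk' (Subgroup.center G)) (by rw [QuotientGroup.ker_mk'])
      exact hy (mul_comm' y x)
    interval_cases hcz : Nat.card (Subgroup.center G) <;> simp_all
  have hidx : (Subgroup.center G).index = 4 := by
    have hmul := (Subgroup.center G).card_mul_index
    rw [hcard, hZ2] at hmul
    omega
  -- the commutator
  set z := x * y * x⁻¹ * y⁻¹ with hz
  have hz1 : z ≠ 1 := by
    intro h
    apply hy
    have : x * y = z * (y * x) := by rw [hz]; group
    rw [this, h, one_mul]
  have hzZ : z ∈ Subgroup.center G := by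
    -- the quotient is abelian
    have hQ := card_quotient_center hidx
    have hsqx := sq_mem_center hidx
    -- `x y x⁻¹ y⁻¹ = (x y)² (y⁻¹)² ` up to central elements; use the quotient
    have hqab : ∀ a b : G ⧸ Subgroup.center G, a * b = b * a := by
      have hc22 : Nat.card (G ⧸ Subgroup.center G) = 2 ^ 2 := by rw [hQ]; norm_num
      have hinst : IsMulCommutative (G ⧸ Subgroup.center G) :=
        IsPGroup.isMulCommutative_of_card_eq_prime_sq hc22
      intro a b
      exact mul_comm' a b
    have h1 : (QuotientGroup.mk z : G ⧸ Subgroup.center G) = 1 := by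
      rw [hz]
      simp only [QuotientGroup.mk_mul, QuotientGroup.mk_inv]
      rw [hqab (QuotientGroup.mk x) (QuotientGroup.mk y)]
      group
    rwa [QuotientGroup.eq_one_iff] at h1
  have hzc := central_comm hzZ
  -- elements of the centre are `1` or `z`
  have hZel : ∀ c ∈ Subgroup.center G, c = 1 ∨ c = z := by
    intro c hc
    by_contra hcon
    push Not at hcon
    classical
    have : Fintype (Subgroup.center G) := Fintype.ofFinite _
    have h3 : ({(1 : Subgroup.center G), ⟨z, hzZ⟩, ⟨c, hc⟩} : Finset (Subgroup.center G)).card = 3 := by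
      have e1 : (⟨z, hzZ⟩ : Subgroup.center G) ∉ ({⟨c, hc⟩} : Finset (Subgroup.center G)) := by
        simp only [Finset.mem_singleton, Subtype.mk.injEq]
        exact fun h => hcon.2 h.symm
      have e2 : (1 : Subgroup.center G) ∉ ({⟨z, hzZ⟩, ⟨c, hc⟩} : Finset (Subgroup.center G)) := by
        simp only [Finset.mem_insert, Finset.mem_singleton]
        rintro (h | h)
        · exact hz1 (congrArg Subtype.val h).symm
        · exact hcon.1 (congrArg Subtype.val h).symm
      rw [Finset.card_insert_of_notMem e2, Finset.card_insert_of_notMem e1, Finset.card_singleton]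
    have h4 := Finset.card_le_univ ({(1 : Subgroup.center G), ⟨z, hzZ⟩, ⟨c, hc⟩} : Finset (Subgroup.center G))
    rw [h3, ← Nat.card_eq_fintype_card, hZ2] at h4
    omega
  have hz2 : z * z = 1 := by
    rcases hZel (z * z) (Subgroup.mul_mem _ hzZ hzZ) with h | h
    · exact h
    · exfalso
      apply hz1
      have : z * z = z * 1 := by rw [mul_one]; exact h
      exact mul_left_cancel this
  have hxyx : x * y * x⁻¹ = z * y := by rw [hz]; group
  by_cases hy2 : y * y = 1
  · -- `c = x y`
    have hyinv : y⁻¹ = y := inv_eq_of_mul_eq_one_right hy2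
    have hcc : (x * y) * (x * y) = z := by
      rw [hz, hxinv, hyinv]; group
    have hc4 : (x * y) ^ 4 = 1 := by
      have : (x * y) ^ 4 = ((x * y) * (x * y)) * ((x * y) * (x * y)) := by
        rw [show (4 : ℕ) = 2 + 2 from rfl, pow_add, pow_two]
      rw [this, hcc, hz2]
    have hc2 : (x * y) ^ 2 ≠ 1 := by
      rw [pow_two, hcc]; exact hz1
    have hord : orderOf (x * y) = 4 := by
      have : orderOf (x * y) = 2 ^ 2 := orderOf_eq_prime_pow (n := 1) (by simpa using hc2) (by simpa using hc4)
      simpa using this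
    refine Cfsg.Agent.Lib.Helper54_TwoGroups.nonempty_mulEquiv_dihedralGroup 4 (x * y) x hord hx2 ?_ ?_
      (by rw [hcard])
    · rw [mul_inv_rev, hxinv, hyinv, ← mul_assoc, hx2, one_mul]
    · intro hmem
      obtain ⟨k, hk⟩ := Subgroup.mem_zpowers_iff.1 hmem
      apply hy
      have hcomm : Commute (x * y) ((x * y) ^ k) := (Commute.refl (x * y)).zpow_right k
      rw [hk] at hcomm
      have h1 : x * y * x = x * (x * y) := hcomm.eq
      have h2 : y * x = x * y := mul_left_cancel (by rw [← mul_assoc]; exact h1)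
      exact h2
  · -- `c = y`
    have hyy : y * y = z := by
      rcases hZel (y * y) (sq_mem_center hidx y) with h | h
      · exact absurd h hy2
      · exact h
    have hc4 : y ^ 4 = 1 := by
      have : y ^ 4 = (y * y) * (y * y) := by
        rw [show (4 : ℕ) = 2 + 2 from rfl, pow_add, pow_two]
      rw [this, hyy, hz2]
    have hc2 : y ^ 2 ≠ 1 := by
      rw [pow_two]; exact hy2
    have hord : orderOf y = 4 := by
      have : orderOf y = 2 ^ 2 := orderOf_eq_prime_pow (n := 1) (by simpa using hc2) (by simpa using hc4)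
      simpa using this
    refine Cfsg.Agent.Lib.Helper54_TwoGroups.nonempty_mulEquiv_dihedralGroup 4 y x hord hx2 ?_ ?_
      (by rw [hcard])
    · rw [hxyx, ← hyy]
      have : y⁻¹ = y ^ 3 := by
        apply inv_eq_of_mul_eq_one_right
        rw [← pow_succ', hc4]
      rw [this, pow_succ, pow_two]
    · intro hmem
      obtain ⟨k, hk⟩ := Subgroup.mem_zpowers_iff.1 hmem
      apply hy
      have hcomm : Commute y (y ^ k) := (Commute.refl y).zpow_right k
      rw [hk] at hcomm
      exact hcomm.eq

end Cfsg.Agent.Lib.Helper72_Idx4
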