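import Mathlib
import Cfsg.Agent.Lib.Helper72_HypA
import Cfsg.Agent.Lib.Helper72_CTwoEss
import Cfsg.Agent.Lib.Helper72_Idx4

/-!
# The prime two: `Z(S)` has order two (helper72)

Setting: `S` a finite `2`-group whose centre has index four, `Zq = S'` of order two (`CTwo 2 S Zq`), `F` a saturated
fusion system on `S` with `O_2(F) = 1` and `hyp(F) = S`.  Then `Z(S) = Zq`.
-/

set_option autoImplicit false

namespace Cfsg.Agent.Lib.Helper72_HypB

open Cfsg Cfsg.FusionSystem Cfsg.Agent.Lib.Helper87_Alperin Cfsg.Agent.Lib.Helper87_ClassTwo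
  Cfsg.Agent.Lib.Helper87_ExtraIdx Cfsg.Agent.Lib.Helper72_HypA Cfsg.Agent.Lib.Helper72_CTwoEss
  Cfsg.Agent.Lib.Helper72_Idx4

variable {Ω : Type*} [Group Ω] {S : Subgroup Ω}

/-- A group of order two has only one nonidentity element. -/
theorem eq_of_card_two {K : Subgroup Ω} (hK : Nat.card K = 2) {a b : Ω} (ha : a ∈ K) (hb : b ∈ K)
    (ha1 : a ≠ 1) (hb1 : b ≠ 1) : a = b := by
  have hle : K ≤ Subgroup.zpowers a :=
    le_of_mem_of_card_prime Nat.prime_two hK ha (Subgroup.mem_zpowers a) ha1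
  obtain ⟨k, hk⟩ := Subgroup.mem_zpowers_iff.1 (hle hb)
  have ha2 : a ^ (2 : ℤ) = 1 := by
    have := Cfsg.Agent.Lib.Helper87_ClassTwo2.pow_eq_one_of_card hK ha
    rw [← zpow_natCast] at this
    exact this
  rcases Int.even_or_odd' k with ⟨j, rfl | rfl⟩
  · exfalso
    apply hb1
    rw [← hk, zpow_mul, ha2, one_zpow]
  · rw [← hk, zpow_add, zpow_mul, ha2, one_zpow, one_mul, zpow_one]

theorem sq_eq_one_of_card_two {K : Subgroup Ω} (hK : Nat.card K = 2) {a : Ω} (ha : a ∈ K) : a * a = 1 := by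
  have := Cfsg.Agent.Lib.Helper87_ClassTwo2.pow_eq_one_of_card hK ha
  rwa [pow_two] at this

theorem mem_center_iff_coe (x : S) :
    x ∈ Subgroup.center S ↔ (x : Ω) ∈ S ⊓ Subgroup.centralizer (S : Set Ω) := by
  rw [← Cfsg.Agent.Lib.Helper84_FusionEssential.map_center_subtype]
  constructor
  · intro h
    exact ⟨x, h, rfl⟩
  · rintro ⟨y, hy, hyx⟩
    have : y = x := Subtype.ext hyx
    rwa [← this]

section Two

variable [Finite S] {Zq : Subgroup Ω} {F : FusionSystem S} {E L W : Subgroup Ω}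

/-- No nontrivial commutator is the square of a central element. -/
theorem comm_of_sq (hC : CTwo 2 S Zq) (hD : EData' F 2 Zq E L W) :
    ∀ c ∈ Subgroup.center S, ∀ x y : S, x * y * x⁻¹ * y⁻¹ = c * c → x * y = y * x := by
  intro c hc x y hxy
  have hcZ : (c : Ω) ∈ S ⊓ Subgroup.centralizer (S : Set Ω) := (mem_center_iff_coe c).1 hc
  obtain ⟨z, hz, l, hl, hczl⟩ := hD.dec _ hcZ
  have hlZ := hD.LZ hl
  have hlcomm : ∀ g ∈ S, g * l = l * g := fun g hg => Subgroup.mem_centralizer_iff.mp hlZ.2 g hg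
  have hzS : z ∈ S := hC.le_S hz
  have h1 : (c : Ω) * c = l * l := by
    rw [hczl]
    calc z * l * (z * l) = z * (l * z) * l := by group
      _ = z * (z * l) * l := by rw [← hlcomm z hzS]
      _ = (z * z) * (l * l) := by group
      _ = l * l := by rw [sq_eq_one_of_card_two hC.card hz, one_mul]
  have h2 : (x : Ω) * y * (x : Ω)⁻¹ * (y : Ω)⁻¹ = l * l := by
    have := congrArg Subtype.val hxy
    simp only [Subgroup.coe_mul, Subgroup.coe_inv] at this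
    rw [this, h1]
  have h3 : (x : Ω) * y * (x : Ω)⁻¹ * (y : Ω)⁻¹ = 1 := by
    apply hD.inter _ (hC.comm x x.2 y y.2)
    rw [h2]
    exact L.mul_mem hl hl
  apply Subtype.ext
  simp only [Subgroup.coe_mul]
  calc (x : Ω) * y = ((x : Ω) * y * (x : Ω)⁻¹ * (y : Ω)⁻¹) * (y * x) := by group
    _ = y * x := by rw [h3, one_mul]

variable (hS : IsPGroup 2 S) (hF : F.IsSaturated 2)

omit [Finite S] in
/-- Focal quotients of inner automorphisms lie in `Zq`. -/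
theorem inn_quot_mem (hC : CTwo 2 S Zq) {γ : MulAut S} (hγ : γ ∈ Inn S) (x : S) :
    ((x⁻¹ * γ x : S) : Ω) ∈ Zq := by
  obtain ⟨g, rfl⟩ := hγ
  have h1 := hC.comm _ (S.inv_mem x.2) g g.2
  have h2 : ((x⁻¹ * (MulAut.conj g) x : S) : Ω) = (x : Ω)⁻¹ * g * ((x : Ω)⁻¹)⁻¹ * (g : Ω)⁻¹ := by
    simp only [MulAut.conj_apply, Subgroup.coe_mul, Subgroup.coe_inv]
    group
  rw [h2]
  exact h1

omit [Finite S] in
theorem zq_le_center (hC : CTwo 2 S Zq) {x : S} (hx : (x : Ω) ∈ Zq) : x ∈ Subgroup.center S :=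
  (mem_center_iff_coe x).2 (hC.le hx)

include hS hF in
/-- Every `F`-automorphism of `S` acts trivially on `S / Z(S)`. -/
theorem aut_trivial_mod_center (hC : CTwo 2 S Zq) (hidx : (Subgroup.center S).index = 4)
    (hD : EData' F 2 Zq E L W) :
    ∀ β ∈ F.autGroup S, ∀ x : S, x⁻¹ * β x ∈ Subgroup.center S := by
  intro β hβ
  obtain ⟨m, hm2, hm⟩ := pow_relIndex_mem_inn hS hF
  have hmodd : Odd m := by
    rcases Nat.even_or_odd m with h | h
    · exact absurd (even_iff_two_dvd.1 h) hm2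
    · exact h
  obtain ⟨xw, hxwW, hxwZ⟩ := hD.exW
  have hxwS : xw ∈ S := hD.ES (hD.WE hxwW)
  have hx2 : (⟨xw, hxwS⟩ : S) * ⟨xw, hxwS⟩ = 1 := by
    apply Subtype.ext
    have := hD.expW xw hxwW
    rw [pow_two] at this
    exact this
  have hxZ : (⟨xw, hxwS⟩ : S) ∉ Subgroup.center S := fun h => hxwZ ((mem_center_iff_coe _).1 h)
  refine trivial_on_quotient hidx (comm_of_sq hC hD) hx2 hxZ β hmodd ?_
  intro x
  exact zq_le_center hC (inn_quot_mem hC (hm β hβ) x)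

include hS hF in
/-- Every `F`-automorphism of `S` normalizes every subgroup containing `Z(S)`. -/
theorem aut_apply_mem (hC : CTwo 2 S Zq) (hidx : (Subgroup.center S).index = 4)
    (hD : EData' F 2 Zq E L W) {P : Subgroup Ω} (hZP : S ⊓ Subgroup.centralizer (S : Set Ω) ≤ P)
    {β : MulAut S} (hβ : β ∈ F.autGroup S) (x : S) (hx : (x : Ω) ∈ P) : ((β x : S) : Ω) ∈ P := by
  have h1 := aut_trivial_mod_center hS hF hC hidx hD β hβ x
  have h2 : ((x⁻¹ * β x : S) : Ω) ∈ P := hZP ((mem_center_iff_coe _).1 h1)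
  have h3 : ((β x : S) : Ω) = (x : Ω) * ((x⁻¹ * β x : S) : Ω) := by
    simp only [Subgroup.coe_mul, Subgroup.coe_inv]
    group
  rw [h3]
  exact P.mul_mem hx h2

include hS hF in
/-- The complement `L` attached to an essential subgroup is invariant under `Aut_F(S)`. -/
theorem aInv_L (hC : CTwo 2 S Zq) (hidx : (Subgroup.center S).index = 4)
    {E₀ L₀ W₀ : Subgroup Ω} (hD₀ : EData' F 2 Zq E₀ L₀ W₀)
    (hD : EData' F 2 Zq E L W) : AInv F S L := by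
  intro β hβ x hx
  have hxE : (x : Ω) ∈ E := hD.LE hx
  obtain ⟨α, hα, hαβ⟩ := exists_restrict hβ hD.ES
    (fun y hy => aut_apply_mem hS hF hC hidx hD₀ hD.ZE hβ y hy)
  have h1 := hD.inv α hα ⟨x, hxE⟩ hx
  rw [hαβ (x : Ω) hxE] at h1
  exact h1

omit [Finite S] in
/-- A subgroup of `L` invariant under `Aut_F(S)` is invariant under `Aut_F(E)`. -/
theorem aInv_of_le_L [Finite S] (hD : EData' F 2 Zq E L W) {Y : Subgroup Ω} (hYL : Y ≤ L)
    (hY : AInv F S Y) : AInv F E Y := by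
  intro α hα x hx
  obtain ⟨f, hf, hfx⟩ := hD.ext α hα
  obtain ⟨β, hβ, hβf⟩ := exists_aut_of_map hf
  rw [hfx x (hYL hx)]
  have hxS : (x : Ω) ∈ S := hD.ES x.2
  have := hY β hβ ⟨x, hxS⟩ hx
  rw [hβf] at this
  exact this

include hS hF in
/-- Case of a unique essential subgroup. -/
theorem center_le_of_unique (hC : CTwo 2 S Zq) (hidx : (Subgroup.center S).index = 4)
    (hcore : F.core = ⊥) (hD : EData' F 2 Zq E L W) (huniq : ∀ P, F.IsEssential 2 P → P = E) :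
    S ⊓ Subgroup.centralizer (S : Set Ω) ≤ Zq := by
  have hLn : F.IsNormal L := by
    refine isNormal_of_inv hS hF (hD.LE.trans hD.ES) (aInv_L hS hF hC hidx hD hD) ?_
    intro P hP
    rw [huniq P hP]
    exact ⟨hD.LE, hD.inv⟩
  have hLbot := eq_bot_of_isNormal hcore hLn
  intro x hx
  obtain ⟨z, hz, l, hl, rfl⟩ := hD.dec x hx
  rw [hLbot, Subgroup.mem_bot] at hl
  rw [hl, mul_one]
  exact hz

omit [Finite S] in
theorem exists_ne_one_of_card_two {K : Subgroup Ω} (hK : Nat.card K = 2) : ∃ z ∈ K, z ≠ 1 := by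
  by_contra hcon
  push Not at hcon
  have : K = ⊥ := by
    rw [eq_bot_iff]
    intro z hz
    rw [Subgroup.mem_bot]
    exact hcon z hz
  rw [this, Subgroup.card_bot] at hK
  omega

omit [Finite S] in
/-- A subgroup containing `Z(S)` and a noncentral element of `W` contains `E`. -/
theorem le_of_mem_W (hC : CTwo 2 S Zq) (hD : EData' F 2 Zq E L W) {P : Subgroup Ω}
    (hZP : S ⊓ Subgroup.centralizer (S : Set Ω) ≤ P) {x : Ω} (hxW : x ∈ W)
    (hxZ : x ∉ S ⊓ Subgroup.centralizer (S : Set Ω)) (hxP : x ∈ P) : E ≤ P := by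
  obtain ⟨z₀, hz₀, hz₀1⟩ := exists_ne_one_of_card_two hC.card
  have hcardW : Nat.card W = 4 := by rw [hD.cardW]; norm_num
  have : Finite W := Nat.finite_of_card_ne_zero (by rw [hcardW]; norm_num)
  have hsq : ∀ q : W, q * q = 1 := by
    intro q
    apply Subtype.ext
    have := hD.expW q q.2
    rw [pow_two] at this
    exact this
  have hu : (⟨x, hxW⟩ : W) ≠ 1 := by
    intro h
    apply hxZ
    have : x = 1 := congrArg Subtype.val h
    rw [this]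
    exact Subgroup.one_mem _
  have hv : (⟨z₀, hD.ZW hz₀⟩ : W) ≠ 1 := fun h => hz₀1 (congrArg Subtype.val h)
  have huv : (⟨x, hxW⟩ : W) ≠ ⟨z₀, hD.ZW hz₀⟩ := by
    intro h
    apply hxZ
    have : x = z₀ := congrArg Subtype.val h
    rw [this]
    exact hC.le hz₀
  have hz₀P : z₀ ∈ P := hZP (hC.le hz₀)
  intro e he
  obtain ⟨w, hw, l, hl, rfl⟩ := hD.decE e he
  refine P.mul_mem ?_ (hZP (hD.LZ hl))
  rcases klein_cases hcardW hsq hu hv huv ⟨w, hw⟩ with h | h | h | h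
  · have : w = 1 := congrArg Subtype.val h
    rw [this]; exact P.one_mem
  · have : w = x := congrArg Subtype.val h
    rw [this]; exact hxP
  · have : w = z₀ := congrArg Subtype.val h
    rw [this]; exact hz₀P
  · have : w = x * z₀ := congrArg Subtype.val h
    rw [this]; exact P.mul_mem hxP hz₀P

/-- Two essential subgroups, one containing a noncentral element of the `W` of the other, are equal. -/
theorem eq_of_mem_W (hC : CTwo 2 S Zq) {E' L' W' : Subgroup Ω} (hD : EData' F 2 Zq E L W)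
    (hD' : EData' F 2 Zq E' L' W') {x : Ω} (hxW : x ∈ W)
    (hxZ : x ∉ S ⊓ Subgroup.centralizer (S : Set Ω)) (hxP : x ∈ E') : E = E' := by
  have hle : E ≤ E' := le_of_mem_W hC hD hD'.ZE hxW hxZ hxP
  have : Finite E' := Finite.of_injective (Subgroup.inclusion hD'.ES) (Subgroup.inclusion_injective hD'.ES)
  apply Subgroup.eq_of_le_of_card_ge hle
  have h1 := hD.cardE
  have h2 := hD'.cardE
  rw [h1] at h2
  have := Nat.eq_of_mul_eq_mul_right (by norm_num : 0 < 2) h2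
  omega

/-- Three essential subgroups cannot exist. -/
theorem false_of_three (hC : CTwo 2 S Zq) (hidx : (Subgroup.center S).index = 4)
    {E₁ L₁ W₁ E₂ L₂ W₂ E₃ L₃ W₃ : Subgroup Ω} (hD₁ : EData' F 2 Zq E₁ L₁ W₁)
    (hD₂ : EData' F 2 Zq E₂ L₂ W₂) (hD₃ : EData' F 2 Zq E₃ L₃ W₃) (h12 : E₁ ≠ E₂) (h13 : E₁ ≠ E₃)
    (h23 : E₂ ≠ E₃) : False := by
  obtain ⟨a, haW, haZ⟩ := hD₁.exW
  obtain ⟨b, hbW, hbZ⟩ := hD₂.exW
  obtain ⟨c, hcW, hcZ⟩ := hD₃.exW
  have haS : a ∈ S := hD₁.ES (hD₁.WE haW)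
  have hbS : b ∈ S := hD₂.ES (hD₂.WE hbW)
  have hcS : c ∈ S := hD₃.ES (hD₃.WE hcW)
  have hsq : ∀ {E L W : Subgroup Ω} (hD : EData' F 2 Zq E L W) {x : Ω} (hxW : x ∈ W) (hxS : x ∈ S),
      (⟨x, hxS⟩ : S) * ⟨x, hxS⟩ = 1 := by
    intro E L W hD x hxW hxS
    apply Subtype.ext
    have := hD.expW x hxW
    rw [pow_two] at this
    exact this
  have hnc : ∀ {x : Ω} (hxS : x ∈ S), x ∉ S ⊓ Subgroup.centralizer (S : Set Ω) →
      (⟨x, hxS⟩ : S) ∉ Subgroup.center S := fun hxS hx h => hx ((mem_center_iff_coe _).1 h)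
  -- distinct cosets
  have hdist : ∀ {E L W E' L' W' : Subgroup Ω} (hD : EData' F 2 Zq E L W) (hD' : EData' F 2 Zq E' L' W')
      {x y : Ω} (hxS : x ∈ S) (hyS : y ∈ S), x ∈ E → y ∈ W' → y ∉ S ⊓ Subgroup.centralizer (S : Set Ω) →
      E' ≠ E → (⟨x, hxS⟩ : S)⁻¹ * ⟨y, hyS⟩ ∉ Subgroup.center S := by
    intro E L W E' L' W' hD hD' x y hxS hyS hxE hyW hyZ hne h
    apply hne
    have h1 : x⁻¹ * y ∈ S ⊓ Subgroup.centralizer (S : Set Ω) := (mem_center_iff_coe _).1 h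
    have h2 : y ∈ E := by
      have : y = x * (x⁻¹ * y) := by group
      rw [this]
      exact E.mul_mem hxE (hD.ZE h1)
    exact eq_of_mem_W hC hD' hD hyW hyZ h2
  exact false_of_three_involutions hidx (comm_of_sq hC hD₁) (hsq hD₁ haW haS) (hsq hD₂ hbW hbS)
    (hsq hD₃ hcW hcS) (hnc haS haZ) (hnc hbS hbZ) (hnc hcS hcZ)
    (hdist hD₁ hD₂ haS hbS (hD₁.WE haW) hbW hbZ (Ne.symm h12))
    (hdist hD₁ hD₃ haS hcS (hD₁.WE haW) hcW hcZ (Ne.symm h13))
    (hdist hD₂ hD₃ hbS hcS (hD₂.WE hbW) hcW hcZ (Ne.symm h23))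

omit [Finite S] in
theorem nonabelian_of_edata (hD : EData' F 2 Zq E L W) : ∃ a ∈ S, ∃ b ∈ S, a * b ≠ b * a := by
  obtain ⟨xw, hxwW, hxwZ⟩ := hD.exW
  have hxwS : xw ∈ S := hD.ES (hD.WE hxwW)
  by_contra hcon
  push Not at hcon
  apply hxwZ
  refine ⟨hxwS, ?_⟩
  show xw ∈ Subgroup.centralizer (S : Set Ω)
  rw [Subgroup.mem_centralizer_iff]
  intro g hg
  exact hcon g hg xw hxwS

include hS hF in
/-- If `L₁ ∩ L₂ = 1` then every `F`-automorphism of `S` centralizes `Z(S)`. -/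
theorem aut_fix_center (hC : CTwo 2 S Zq) (hidx : (Subgroup.center S).index = 4)
    {E₁ L₁ W₁ E₂ L₂ W₂ : Subgroup Ω} (hD₁ : EData' F 2 Zq E₁ L₁ W₁) (hD₂ : EData' F 2 Zq E₂ L₂ W₂)
    (hY : L₁ ⊓ L₂ = ⊥) {β : MulAut S} (hβ : β ∈ F.autGroup S) (d : S)
    (hd : (d : Ω) ∈ S ⊓ Subgroup.centralizer (S : Set Ω)) : β d = d := by
  have hnab := nonabelian_of_edata hD₁
  have hzfix : ∀ z : S, (z : Ω) ∈ Zq → β z = z := by
    intro z hz
    by_cases hz1 : z = 1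
    · rw [hz1, map_one]
    · have h1 := Cfsg.Agent.Lib.Helper87_ClassTwo2.aut_mem_zq hC hnab β z hz
      have h2 : ((β z : S) : Ω) ≠ 1 := by
        intro h
        apply hz1
        apply β.injective
        rw [map_one]
        exact Subtype.ext h
      exact Subtype.ext (eq_of_card_two hC.card h1 hz h2 (fun h => hz1 (Subtype.ext h)))
  have key : ∀ {E L W : Subgroup Ω} (_ : EData' F 2 Zq E L W), ((d⁻¹ * β d : S) : Ω) ∈ L := by
    intro E L W hD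
    obtain ⟨z, hz, l, hl, hdzl⟩ := hD.dec _ hd
    have hzS : z ∈ S := hC.le_S hz
    have hlS : l ∈ S := (hD.LZ hl).1
    have hd' : d = ⟨z, hzS⟩ * ⟨l, hlS⟩ := Subtype.ext hdzl
    have hβl := aInv_L hS hF hC hidx hD₁ hD β hβ ⟨l, hlS⟩ hl
    rw [hd', map_mul, hzfix ⟨z, hzS⟩ hz]
    have h3 : ((⟨z, hzS⟩ * ⟨l, hlS⟩ : S)⁻¹ * (⟨z, hzS⟩ * β ⟨l, hlS⟩) : S) =
        (⟨l, hlS⟩ : S)⁻¹ * β ⟨l, hlS⟩ := by group
    rw [h3]
    exact L.mul_mem (L.inv_mem hl) hβl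
  have h1 : ((d⁻¹ * β d : S) : Ω) ∈ L₁ ⊓ L₂ := ⟨key hD₁, key hD₂⟩
  rw [hY, Subgroup.mem_bot] at h1
  have h2 : d⁻¹ * β d = 1 := Subtype.ext h1
  exact (inv_mul_eq_one.1 h2).symm

include hS hF in
/-- If `L₁ ∩ L₂ = 1` then the focal quotients of the `F`-automorphisms of `S` lie in `Zq`. -/
theorem foc_S (hC : CTwo 2 S Zq) (hidx : (Subgroup.center S).index = 4)
    {E₁ L₁ W₁ E₂ L₂ W₂ : Subgroup Ω} (hD₁ : EData' F 2 Zq E₁ L₁ W₁) (hD₂ : EData' F 2 Zq E₂ L₂ W₂)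
    (hY : L₁ ⊓ L₂ = ⊥) {β : MulAut S} (hβ : β ∈ F.autGroup S) (x : S) :
    ((x⁻¹ * β x : S) : Ω) ∈ Zq := by
  obtain ⟨m, hm2, hm⟩ := pow_relIndex_mem_inn hS hF
  have hmodd : Odd m := by
    rcases Nat.even_or_odd m with h | h
    · exact absurd (even_iff_two_dvd.1 h) hm2
    · exact h
  have hZN : ∀ d ∈ Subgroup.center S, d⁻¹ * β d ∈ Zq.subgroupOf S := by
    intro d hd
    rw [aut_fix_center hS hF hC hidx hD₁ hD₂ hY hβ d ((mem_center_iff_coe d).1 hd), inv_mul_cancel]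
    exact Subgroup.one_mem _
  have hc := aut_trivial_mod_center hS hF hC hidx hD₁ β hβ x
  have hmm : x⁻¹ * (β ^ m) x ∈ Zq.subgroupOf S := by
    rw [Subgroup.mem_subgroupOf]
    exact inn_quot_mem hC (hm β hβ) x
  have hcop : (orderOf (x⁻¹ * β x)).Coprime m := by
    obtain ⟨k, hk⟩ := hS (x⁻¹ * β x)
    have hdvd : orderOf (x⁻¹ * β x) ∣ 2 ^ k := orderOf_dvd_of_pow_eq_one hk
    obtain ⟨j, -, hj⟩ := (Nat.dvd_prime_pow Nat.prime_two).1 hdvd
    rw [hj]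
    exact Nat.Coprime.pow_left j (Nat.coprime_two_left.2 hmodd)
  have := mem_of_pow_trivial β hZN hc hmm hcop
  rwa [Subgroup.mem_subgroupOf] at this

omit [Finite S] in
/-- If the `F`-automorphisms of `S` centralize `Z(S)`, the focal quotients of `Aut_F(E)` lie in `W`. -/
theorem foc_E [Finite S] (hD : EData' F 2 Zq E L W)
    (hfix : ∀ β ∈ F.autGroup S, ∀ d : S, (d : Ω) ∈ S ⊓ Subgroup.centralizer (S : Set Ω) → β d = d)
    {α : MulAut E} (hα : α ∈ F.autGroup E) (e : E) : (e : Ω)⁻¹ * ((α e : E) : Ω) ∈ W := by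
  obtain ⟨w, hw, l, hl, hewl⟩ := hD.decE e e.2
  have hwE := hD.WE hw
  have hlE := hD.LE hl
  have he' : e = ⟨w, hwE⟩ * ⟨l, hlE⟩ := Subtype.ext hewl
  obtain ⟨f, hf, hfx⟩ := hD.ext α hα
  obtain ⟨β, hβ, hβf⟩ := exists_aut_of_map hf
  have hlS : l ∈ S := hD.ES hlE
  have hαl : ((α ⟨l, hlE⟩ : E) : Ω) = l := by
    rw [hfx ⟨l, hlE⟩ hl]
    have h1 := hβf ⟨l, hlS⟩
    have h2 := hfix β hβ ⟨l, hlS⟩ (hD.LZ hl)
    rw [h2] at h1
    exact h1.symm
  have hαw := hD.invW α hα ⟨w, hwE⟩ hw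
  have hlcomm : ∀ g ∈ S, g * l = l * g := fun g hg =>
    Subgroup.mem_centralizer_iff.mp (hD.LZ hl).2 g hg
  have hαwS : ((α ⟨w, hwE⟩ : E) : Ω) ∈ S := hD.ES (α ⟨w, hwE⟩).2
  have hwS : w ∈ S := hD.ES hwE
  have h3 : (e : Ω)⁻¹ * ((α e : E) : Ω) = w⁻¹ * ((α ⟨w, hwE⟩ : E) : Ω) := by
    rw [he', map_mul]
    simp only [Subgroup.coe_mul]
    rw [hαl]
    calc (w * l)⁻¹ * (((α ⟨w, hwE⟩ : E) : Ω) * l)
        = l⁻¹ * ((w⁻¹ * ((α ⟨w, hwE⟩ : E) : Ω)) * l) := by group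
      _ = l⁻¹ * (l * (w⁻¹ * ((α ⟨w, hwE⟩ : E) : Ω))) := by
          rw [hlcomm _ (S.mul_mem (S.inv_mem hwS) hαwS)]
      _ = w⁻¹ * ((α ⟨w, hwE⟩ : E) : Ω) := by group
  rw [h3]
  exact W.mul_mem (W.inv_mem hw) hαw

omit [Finite S] in
theorem subgroupOf_normal_of_zq_le (hC : CTwo 2 S Zq) {V : Subgroup Ω} (hZV : Zq ≤ V) :
    (V.subgroupOf S).Normal := by
  constructor
  intro n hn g
  rw [Subgroup.mem_subgroupOf] at hn ⊢
  have h1 := hC.comm g g.2 n n.2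
  have h2 : ((g * n * g⁻¹ : S) : Ω) = ((g : Ω) * n * (g : Ω)⁻¹ * (n : Ω)⁻¹) * n := by
    simp only [Subgroup.coe_mul, Subgroup.coe_inv]
    group
  rw [h2]
  exact V.mul_mem (hZV h1) hn

include hS hF in
/-- Case of exactly two essential subgroups. -/
theorem center_le_of_two (hC : CTwo 2 S Zq) (hidx : (Subgroup.center S).index = 4)
    (hcore : F.core = ⊥) (hhyp : F.hyperfocalSubgroup 2 = S)
    {E₁ L₁ W₁ E₂ L₂ W₂ : Subgroup Ω} (hD₁ : EData' F 2 Zq E₁ L₁ W₁) (hD₂ : EData' F 2 Zq E₂ L₂ W₂)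
    (hall : ∀ P, F.IsEssential 2 P → P = E₁ ∨ P = E₂) :
    S ⊓ Subgroup.centralizer (S : Set Ω) ≤ Zq := by
  -- `L₁ ∩ L₂` is normal in `F`
  have hYS : AInv F S (L₁ ⊓ L₂) :=
    (aInv_L hS hF hC hidx hD₁ hD₁).inf (aInv_L hS hF hC hidx hD₁ hD₂)
  have hYn : F.IsNormal (L₁ ⊓ L₂) := by
    refine isNormal_of_inv hS hF (inf_le_left.trans (hD₁.LE.trans hD₁.ES)) hYS ?_
    intro P hP
    rcases hall P hP with rfl | rfl
    · exact ⟨inf_le_left.trans hD₁.LE, aInv_of_le_L hD₁ inf_le_left hYS⟩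
    · exact ⟨inf_le_right.trans hD₂.LE, aInv_of_le_L hD₂ inf_le_right hYS⟩
  have hY := eq_bot_of_isNormal hcore hYn
  by_contra hne
  -- the focal subgroup lies in `W₁ ⊔ W₂`
  have hfix : ∀ β ∈ F.autGroup S, ∀ d : S, (d : Ω) ∈ S ⊓ Subgroup.centralizer (S : Set Ω) → β d = d :=
    fun β hβ d hd => aut_fix_center hS hF hC hidx hD₁ hD₂ hY hβ d hd
  have hle : F.hyperfocalSubgroup 2 ≤ W₁ ⊔ W₂ := by
    apply hyperfocal_le_of_gen hS hF
    · intro x hx s hs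
      have h1 := hC.comm _ (S.inv_mem hx) s hs
      have h2 : x⁻¹ * s * x⁻¹⁻¹ * s⁻¹ = x⁻¹ * (s * x * s⁻¹) := by group
      rw [h2] at h1
      exact (le_sup_left : W₁ ≤ W₁ ⊔ W₂) (hD₁.ZW h1)
    · rintro P (rfl | hP) α hα x
      · have := foc_S hS hF hC hidx hD₁ hD₂ hY hα x
        simp only [Subgroup.coe_mul, Subgroup.coe_inv] at this
        exact (le_sup_left : W₁ ≤ W₁ ⊔ W₂) (hD₁.ZW this)
      · rcases hall P hP with rfl | rfl
        · exact (le_sup_left : W₁ ≤ W₁ ⊔ W₂) (foc_E hD₁ hfix hα x)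
        · exact (le_sup_right : W₂ ≤ W₁ ⊔ W₂) (foc_E hD₂ hfix hα x)
  rw [hhyp] at hle
  -- cardinalities
  have hW₁S : W₁ ≤ S := hD₁.WE.trans hD₁.ES
  have hW₂S : W₂ ≤ S := hD₂.WE.trans hD₂.ES
  have hZqS : Zq ≤ S := hC.le_S
  have hc1 : Nat.card (W₁.subgroupOf S) = 4 := by
    rw [Nat.card_congr (Subgroup.subgroupOfEquivOfLe hW₁S).toEquiv, hD₁.cardW]; norm_num
  have hc2 : Nat.card (W₂.subgroupOf S) = 4 := by
    rw [Nat.card_congr (Subgroup.subgroupOfEquivOfLe hW₂S).toEquiv, hD₂.cardW]; norm_num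
  have hcz : Nat.card (Zq.subgroupOf S) = 2 := by
    rw [Nat.card_congr (Subgroup.subgroupOfEquivOfLe hZqS).toEquiv, hC.card]
  have h8 := card_sup_le_eight (subgroupOf_normal_of_zq_le hC hD₂.ZW)
    (Subgroup.subgroupOf_mono S hD₁.ZW) (Subgroup.subgroupOf_mono S hD₂.ZW)
    hc1 hc2 hcz
  rw [← Subgroup.subgroupOf_sup hW₁S hW₂S] at h8
  have htop : (W₁ ⊔ W₂).subgroupOf S = ⊤ := Subgroup.subgroupOf_eq_top.2 hle
  rw [htop, Subgroup.card_top] at h8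
  -- `|S| ≥ 16`
  have hmul := (Subgroup.center S).card_mul_index
  rw [hidx, ← Cfsg.Agent.Lib.Helper84_FusionEssential.card_inf_centralizer] at hmul
  have hZfin : Finite (S ⊓ Subgroup.centralizer (S : Set Ω) : Subgroup Ω) :=
    Finite.of_injective (Subgroup.inclusion (inf_le_left : S ⊓ Subgroup.centralizer (S : Set Ω) ≤ S))
      (Subgroup.inclusion_injective _)
  have hdvd : Nat.card Zq ∣ Nat.card (S ⊓ Subgroup.centralizer (S : Set Ω) : Subgroup Ω) :=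
    Subgroup.card_dvd_of_le hC.le
  have hnecard : Nat.card (S ⊓ Subgroup.centralizer (S : Set Ω) : Subgroup Ω) ≠ Nat.card Zq := by
    intro h
    apply hne
    exact (Subgroup.eq_of_le_of_card_ge hC.le h.le).ge
  rw [hC.card] at hdvd hnecard
  obtain ⟨k, hk⟩ := hdvd
  have hpos : 0 < Nat.card (S ⊓ Subgroup.centralizer (S : Set Ω) : Subgroup Ω) := Nat.card_pos
  omega

include hS hF in
/-- **The prime two**: `Z(S) = Zq`. -/
theorem center_le_zq (hC : CTwo 2 S Zq) (hidx : (Subgroup.center S).index = 4) (hS1 : S ≠ ⊥)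
    (hcore : F.core = ⊥) (hhyp : F.hyperfocalSubgroup 2 = S) :
    S ⊓ Subgroup.centralizer (S : Set Ω) ≤ Zq := by
  obtain ⟨E₁, hE₁⟩ := exists_isEssential_of_core hS hF hS1 hcore
  obtain ⟨L₁, W₁, hD₁⟩ := exists_edata' hS hF hC hE₁
  by_cases h1 : ∀ P, F.IsEssential 2 P → P = E₁
  · exact center_le_of_unique hS hF hC hidx hcore hD₁ h1
  push Not at h1
  obtain ⟨E₂, hE₂, h12⟩ := h1
  obtain ⟨L₂, W₂, hD₂⟩ := exists_edata' hS hF hC hE₂
  by_cases h2 : ∀ P, F.IsEssential 2 P → P = E₁ ∨ P = E₂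
  · exact center_le_of_two hS hF hC hidx hcore hhyp hD₁ hD₂ h2
  push Not at h2
  obtain ⟨E₃, hE₃, h31, h32⟩ := h2
  obtain ⟨L₃, W₃, hD₃⟩ := exists_edata' hS hF hC hE₃
  exact (false_of_three hC hidx hD₁ hD₂ hD₃ (Ne.symm h12) (Ne.symm h31) (Ne.symm h32)).elim

end Two

end Cfsg.Agent.Lib.Helper72_HypB
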