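import Mathlib
import Cfsg.Agent.Lib.Helper72_HypB
import Cfsg.Agent.Lib.Helper76_PGroup
import Cfsg.Agent.Lib.Helper88_SmallEssential

/-!
# Centre of index at most `p²`, `O_p(F) = 1`, `hyp(F) = S`: the structure of `S` (helper72)

`main`: `S` is extraspecial of order `p³`, of exponent `p` for `p` odd and dihedral for `p = 2`.
-/

set_option autoImplicit false

namespace Cfsg.Agent.Lib.Helper72_HypC

open Cfsg Cfsg.FusionSystem Cfsg.Agent.Lib.Helper87_Alperin Cfsg.Agent.Lib.Helper87_ClassTwo
  Cfsg.Agent.Lib.Helper87_ExtraIdx Cfsg.Agent.Lib.Helper72_HypA Cfsg.Agent.Lib.Helper72_CTwoEss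
  Cfsg.Agent.Lib.Helper72_Idx4 Cfsg.Agent.Lib.Helper72_HypB
open scoped commutatorElement

variable {Ω : Type*} [Group Ω] {S : Subgroup Ω} [Finite S] {p : ℕ} [Fact p.Prime]

/-- The class-two setting from the index of the centre. -/
theorem ctwo_of_index_sq (hS : IsPGroup p S) (hidx : (Subgroup.center S).index = p ^ 2) :
    CTwo p S ((commutator S).map S.subtype) := by
  have hcle : commutator S ≤ Subgroup.center S := by
    rw [← Subgroup.Normal.quotient_commutative_iff_commutator_le]
    exact IsPGroup.isMulCommutative_of_card_eq_prime_sq (by rw [← Subgroup.index_eq_card]; exact hidx)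
  refine ⟨?_, ?_, ?_⟩
  · rw [← Cfsg.Agent.Lib.Helper84_FusionEssential.map_center_subtype]
    exact Subgroup.map_mono hcle
  · rw [Subgroup.card_map_of_injective S.subtype_injective]
    exact Cfsg.Agent.Lib.Helper76_PGroup.card_commutator_of_index_center_eq_sq p hS hidx
  · intro x hx y hy
    refine ⟨⁅(⟨x, hx⟩ : S), ⟨y, hy⟩⁆, ?_, ?_⟩
    · rw [SetLike.mem_coe, commutator_def]
      exact Subgroup.commutator_mem_commutator (Subgroup.mem_top _) (Subgroup.mem_top _)
    · simp [commutatorElement_def]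

/-- `S` is not abelian. -/
theorem not_comm (hS : IsPGroup p S) {F : FusionSystem S} (hF : F.IsSaturated p) (hS1 : S ≠ ⊥)
    (hcore : F.core = ⊥) : ¬ ∀ x y : S, x * y = y * x := by
  intro hcon
  obtain ⟨E, hE⟩ := exists_isEssential_of_core hS hF hS1 hcore
  have hES : E ≤ S := hE.1.1
  have hcen : centralizerIn S E ≤ E := hE.1.2 E (Cfsg.Agent.Lib.Helper84_Fusion.isConj_refl F hES)
  have hlt := Cfsg.Agent.Lib.Helper88_Essential.lt_of_isEssential hS F hF hE
  obtain ⟨x, hxS, hxE⟩ := SetLike.exists_of_lt hlt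
  apply hxE
  apply hcen
  refine ⟨hxS, ?_⟩
  show x ∈ Subgroup.centralizer (E : Set Ω)
  rw [Subgroup.mem_centralizer_iff]
  intro e he
  exact congrArg Subtype.val (hcon ⟨e, hES he⟩ ⟨x, hxS⟩)

/-- The centre has index exactly `p²`. -/
theorem index_center_eq_sq (hS : IsPGroup p S) (hna : ¬ ∀ x y : S, x * y = y * x)
    (hZ : (Subgroup.center S).index ≤ p ^ 2) : (Subgroup.center S).index = p ^ 2 := by
  have hp : p.Prime := Fact.out
  obtain ⟨n, hn⟩ := IsPGroup.iff_card.1 hS
  have hdvd : (Subgroup.center S).index ∣ p ^ n := by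
    rw [← hn]; exact Subgroup.index_dvd_card _
  obtain ⟨k, -, hk⟩ := (Nat.dvd_prime_pow hp).1 hdvd
  rw [hk] at hZ ⊢
  have hk2 : k ≤ 2 := (Nat.pow_le_pow_iff_right hp.one_lt).1 hZ
  interval_cases k
  · exfalso
    apply hna
    rw [pow_zero] at hk
    have htop : Subgroup.center S = ⊤ := Subgroup.index_eq_one.1 hk
    intro x y
    have : y ∈ Subgroup.center S := htop ▸ Subgroup.mem_top y
    exact Subgroup.mem_center_iff.1 this x
  · exfalso
    apply hna
    rw [pow_one] at hk
    exact Cfsg.Agent.Lib.Helper76_PGroup.comm_of_central_index_dvd_prime p (Subgroup.center S) le_rfl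
      (hk ▸ dvd_rfl)
  · rfl

/-- For odd `p`, all elements of `S` have order dividing `p`. -/
theorem pow_eq_one_of_odd (hp2 : p ≠ 2) (hS : IsPGroup p S) {F : FusionSystem S} (hF : F.IsSaturated p)
    {Zq : Subgroup Ω} (hC : CTwo p S Zq) (hS1 : S ≠ ⊥) (hcore : F.core = ⊥)
    (hcard : Nat.card S = p ^ 3) : ∀ x : S, x ^ p = 1 := by
  have hp : p.Prime := Fact.out
  have hcc : ∀ x y : S, ⁅y, x⁆ ∈ Subgroup.center S := by
    intro x y
    rw [mem_center_iff_coe]
    apply hC.le
    have := hC.comm y y.2 x x.2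
    simpa [commutatorElement_def] using this
  let Om : Subgroup S :=
    { carrier := {x | x ^ p = 1}
      one_mem' := one_pow p
      mul_mem' := by
        intro a b ha hb
        have hb' : b ^ p = 1 := hb
        have ha' : a ^ p = 1 := ha
        show (a * b) ^ p = 1
        rw [Cfsg.Agent.Lib.Helper87_OddOmega.mul_pow_prime_of_central hp hp2 a b (hcc a b)
          (by rw [hb']; exact Subgroup.one_mem _), ha', hb', one_mul]
      inv_mem' := by
        intro a ha
        have ha' : a ^ p = 1 := ha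
        show a⁻¹ ^ p = 1
        rw [inv_pow, ha', inv_one] }
  have hOm : ∀ x : S, x ∈ Om ↔ x ^ p = 1 := fun x => Iff.rfl
  set O₁ : Subgroup Ω := Om.map S.subtype with hO₁
  have hO₁S : O₁ ≤ S := Subgroup.map_subtype_le _
  have hmemO : ∀ x : Ω, x ∈ S → x ^ p = 1 → x ∈ O₁ := by
    intro x hxS hx
    exact ⟨⟨x, hxS⟩, (hOm _).2 (Subtype.ext (by simpa using hx)), rfl⟩
  have hOpow : ∀ x : S, (x : Ω) ∈ O₁ → x ^ p = 1 := by
    rintro x ⟨y, hy, hyx⟩
    have : y = x := Subtype.ext hyx
    rw [← this]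
    exact (hOm y).1 hy
  -- essential subgroups lie in `O₁`
  have hEO : ∀ E, F.IsEssential p E → E ≤ O₁ := by
    intro E hE
    obtain ⟨L, W, hD⟩ := exists_edata' hS hF hC hE
    have hcE := hD.cardE
    rw [hcard] at hcE
    have hcardE : Nat.card E = p ^ 2 := by
      have h1 : p ^ 2 * p = Nat.card E * p := by rw [← hcE]; ring
      exact (Nat.eq_of_mul_eq_mul_right hp.pos h1).symm
    have : Finite E := Finite.of_injective (Subgroup.inclusion hD.ES) (Subgroup.inclusion_injective hD.ES)
    have hWE : W = E := Subgroup.eq_of_le_of_card_ge hD.WE (by rw [hcardE, hD.cardW])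
    intro x hx
    exact hmemO x (hD.ES hx) (hD.expW x (hWE ▸ hx))
  have hOinv : AInv F S O₁ := by
    intro β _ x hx
    apply hmemO _ (β x).2
    have h1 := hOpow x hx
    have h2 : (β x) ^ p = 1 := by rw [← map_pow, h1, map_one]
    have := congrArg Subtype.val h2
    simpa using this
  by_cases htop : O₁ = S
  · intro x
    apply hOpow
    rw [htop]
    exact x.2
  · exfalso
    have hEeq : ∀ E, F.IsEssential p E → E = O₁ := by
      intro E hE
      by_contra hne
      have hlt : E < O₁ := lt_of_le_of_ne (hEO E hE) hne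
      exact htop (Cfsg.Agent.Lib.Helper87_ClassTwo2.eq_of_lt_of_le_of_card hp hlt hO₁S
        (card_of_isEssential hS hF hC hE))
    have hn : F.IsNormal O₁ := by
      refine isNormal_of_inv hS hF hO₁S hOinv ?_
      intro P hP
      rw [hEeq P hP]
      exact ⟨le_rfl, aInv_self F O₁⟩
    have hbot := eq_bot_of_isNormal hcore hn
    obtain ⟨E, hE⟩ := exists_isEssential_of_core hS hF hS1 hcore
    obtain ⟨L, W, hD⟩ := exists_edata' hS hF hC hE
    have hZqE : Zq ≤ E := hC.le.trans hD.ZE
    rw [hEeq E hE, hbot] at hZqE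
    have h2 : Zq = ⊥ := le_bot_iff.1 hZqE
    have h3 := hC.card
    rw [h2, Subgroup.card_bot] at h3
    exact hp.one_lt.ne h3

/-- **Main theorem.** -/
theorem main (hS : IsPGroup p S) (F : FusionSystem S) (hF : F.IsSaturated p) (hS1 : S ≠ ⊥)
    (hcore : F.core = ⊥) (hhyp : F.hyperfocalSubgroup p = S)
    (hZ : (Subgroup.center S).index ≤ p ^ 2) :
    Cfsg.IsExtraspecial p S ∧ Nat.card S = p ^ 3 ∧ (p ≠ 2 → Monoid.exponent S = p) ∧
      (p = 2 → Nonempty (S ≃* DihedralGroup 4)) := by
  have hp : p.Prime := Fact.out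
  have hna := not_comm hS hF hS1 hcore
  have hidx := index_center_eq_sq hS hna hZ
  have hC := ctwo_of_index_sq hS hidx
  set Zq : Subgroup Ω := (commutator S).map S.subtype with hZq
  -- the centre is `Zq`
  have hZeq : S ⊓ Subgroup.centralizer (S : Set Ω) = Zq := by
    apply le_antisymm _ hC.le
    by_cases hp2 : p = 2
    · subst hp2
      exact center_le_zq hS hF hC (by rw [hidx]; norm_num) hS1 hcore hhyp
    · have hodd : Odd p := hp.odd_of_ne_two hp2
      by_contra hne
      exact Cfsg.Agent.Lib.Helper87_ClassTwo2.core_ne_bot hodd hS hF hC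
        (fun h => hne (h ▸ le_rfl)) hcore
  have hcardZ : Nat.card (Subgroup.center S) = p := by
    rw [← Cfsg.Agent.Lib.Helper84_FusionEssential.card_inf_centralizer, hZeq, hC.card]
  have hcard : Nat.card S = p ^ 3 := by
    have := (Subgroup.center S).card_mul_index
    rw [hcardZ, hidx] at this
    rw [← this]; ring
  refine ⟨Cfsg.Agent.Lib.Helper88_SmallEssential.isExtraspecial_of_nonabelian_cube hcard hna, hcard, ?_, ?_⟩
  · intro hp2
    have hpow := pow_eq_one_of_odd hp2 hS hF hC hS1 hcore hcard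
    have hnt : Nontrivial S := by
      rw [← Finite.one_lt_card_iff_nontrivial, hcard]
      exact Nat.one_lt_pow (by norm_num) hp.one_lt
    rw [Monoid.exponent_eq_prime_iff hp]
    intro g hg
    exact orderOf_eq_prime (hpow g) hg
  · intro hp2
    subst hp2
    obtain ⟨E, hE⟩ := exists_isEssential_of_core hS hF hS1 hcore
    obtain ⟨L, W, hD⟩ := exists_edata' hS hF hC hE
    obtain ⟨xw, hxwW, hxwZ⟩ := hD.exW
    have hxwS : xw ∈ S := hD.ES (hD.WE hxwW)
    have hx2 : (⟨xw, hxwS⟩ : S) * ⟨xw, hxwS⟩ = 1 := by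
      apply Subtype.ext
      have := hD.expW xw hxwW
      rw [pow_two] at this
      exact this
    have hxZ : (⟨xw, hxwS⟩ : S) ∉ Subgroup.center S := fun h => hxwZ ((mem_center_iff_coe _).1 h)
    exact nonempty_mulEquiv_dihedral_of_card_eight (by rw [hcard]; norm_num) hx2 hxZ

end Cfsg.Agent.Lib.Helper72_HypC
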