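import Mathlib
import Cfsg.Agent.Lib.Helper72_IPDefs
import Cfsg.Agent.Lib.Helper1_Isaacs123

set_option autoImplicit false

namespace Cfsg.Agent.Lib.Helper72_IP_B2

open Cfsg Cfsg.Agent.Lib.Helper72_IPDefs

universe u

/-- if the commutator subgroup is abelian then the group is solvable -/
theorem solvable_of_commutator_comm {Q : Type u} [Group Q]
    (h : ∀ x ∈ commutator Q, ∀ y ∈ commutator Q, x * y = y * x) : Group.IsSolvable Q := by
  refine ⟨⟨2, ?_⟩⟩
  rw [derivedSeries_succ, derivedSeries_one, eq_bot_iff]
  rw [Subgroup.commutator_le]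
  intro x hx y hy
  rw [Subgroup.mem_bot, commutatorElement_eq_one_iff_mul_comm]
  exact h x hx y hy

theorem centralizer_core_free {Q : Type u} [Group Q] [Finite Q]
    (hmin : ∀ N : Subgroup Q, N.Normal → N ≠ ⊥ → commutator Q ≤ N)
    (hns : ¬ Group.IsSolvable Q) (x : Q) (hx : x ≠ 1) :
    Subgroup.centralizer ({x} : Set Q) ≠ ⊤ ∧
      (Subgroup.centralizer ({x} : Set Q)).normalCore = ⊥ := by
  -- the centraliser of the commutator subgroup is trivial
  have hCD : Subgroup.centralizer (commutator Q : Set Q) = ⊥ := by
    by_contra hne
    have hnorm : (Subgroup.centralizer (commutator Q : Set Q)).Normal := inferInstance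
    have hle := hmin _ hnorm hne
    apply hns
    apply solvable_of_commutator_comm
    intro a ha b hb
    have := hle ha
    rw [Subgroup.mem_centralizer_iff] at this
    exact (this b hb).symm
  have hxD : ∀ y : Q, (∀ d ∈ commutator Q, d * y = y * d) → y = 1 := by
    intro y hy
    have : y ∈ Subgroup.centralizer (commutator Q : Set Q) := by
      rw [Subgroup.mem_centralizer_iff]
      exact hy
    rw [hCD, Subgroup.mem_bot] at this
    exact this
  constructor
  · intro htop
    apply hx
    apply hxD
    intro d _
    have : d ∈ Subgroup.centralizer ({x} : Set Q) := by rw [htop]; exact Subgroup.mem_top d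
    rw [Subgroup.mem_centralizer_iff] at this
    exact (this x (Set.mem_singleton x)).symm
  · by_contra hne
    have hle := hmin _ inferInstance hne
    apply hx
    apply hxD
    intro d hd
    have : d ∈ Subgroup.centralizer ({x} : Set Q) := Subgroup.normalCore_le _ (hle hd)
    rw [Subgroup.mem_centralizer_iff] at this
    exact (this x (Set.mem_singleton x)).symm

end Cfsg.Agent.Lib.Helper72_IP_B2
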