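import Mathlib
import Cfsg.Prelude.Def_Characters
import Cfsg.Prelude.Def_Blocks
import Cfsg.Agent.S0857
import Cfsg.Agent.Lib.Helper75_Clifford
import Cfsg.Agent.Lib.Helper75_LinChar
import Cfsg.Agent.Lib.Helper75_IndChar
import Cfsg.Agent.Lib.Helper75_CoprimeDeg
import Cfsg.Agent.Lib.Helper80_CharInd
import Cfsg.Agent.Lib.Helper59_CliffordDeg
import Cfsg.Agent.Lib.Helper77_BlockBasics

/-!
# Groups whose nonlinear irreducible characters have prime degree: at most three degrees (helper74)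

* `clifford_numbers` : the numerical form of Clifford's theorem, `χ(1) = m t θ(1)` and
  `[χ_N, χ_N] = m² t`.
* `key_prime_index` : if `N` is normal of prime index `f` in `G` and all nonlinear irreducible
  characters of `G` have prime degree, then either every irreducible character of `G` restricts
  irreducibly to `N`, or the degrees of `G` lie in `{1, f, q}` for some `q`.
-/

set_option autoImplicit false

namespace Cfsg.Agent.Lib.Helper74_PrimeDegC

open Cfsg
open scoped ComplexConjugate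
open Cfsg.Agent.Lib.Helper75_Clifford Cfsg.Agent.Lib.Helper3_CharOrtho
  Cfsg.Agent.Lib.Helper3_CharBridge Cfsg.Agent.Lib.Helper75_CharArith

universe u

section Clifford

variable {G : Type u} [Group G] [Fintype G]

/-- numerical form of Clifford's theorem -/
theorem clifford_numbers (N : Subgroup G) (hN : N.Normal) [Fintype N]
    {χ : G → ℂ} (hχ : IsIrrCharacter G χ) {θ : N → ℂ} (hθ : IsIrrCharacter N θ)
    (h1 : classInner (res N χ) θ ≠ 0) :
    ∃ m t : ℕ, 0 < m ∧ 0 < t ∧ χ 1 = ((m * t : ℕ) : ℂ) * θ 1 ∧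
      classInner (res N χ) (res N χ) = ((m * m * t : ℕ) : ℂ) ∧
      ((∀ g : G, conjFun N hN θ g = θ) → t = 1) := by
  classical
  obtain ⟨m, hm⟩ := classInner_isCharacter_nat
    (isCharacter_res N (isCharacter_of_isIrrCharacter hχ)) (isCharacter_of_isIrrCharacter hθ)
  have hcl := clifford N hN hχ hθ h1
  set A : Set (N → ℂ) := {ψ : N → ℂ | ∃ g : G, ψ = conjFun N hN θ g} with hA
  have hAfin : A.Finite := by
    have : Finite (IrrCharacter N) := Cfsg.Agent.Lib.Helper81_CharOrth.finite_irrCharacter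
    refine Set.Finite.subset (Set.finite_range (Subtype.val : IrrCharacter N → (N → ℂ))) ?_
    rintro ψ ⟨g, rfl⟩
    exact ⟨⟨_, isIrrCharacter_conjFun N hN hθ g⟩, rfl⟩
  rw [hm, finsum_mem_eq_finite_toFinset_sum _ hAfin] at hcl
  have hm0 : m ≠ 0 := by
    intro h0
    apply h1
    rw [hm, h0, Nat.cast_zero]
  have hθA : θ ∈ hAfin.toFinset := by
    rw [Set.Finite.mem_toFinset]
    exact ⟨1, (conjFun_one N hN θ).symm⟩
  refine ⟨m, hAfin.toFinset.card, Nat.pos_of_ne_zero hm0, Finset.card_pos.mpr ⟨θ, hθA⟩, ?_, ?_, ?_⟩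
  · have h2 := congrFun hcl 1
    simp only [Pi.smul_apply, Finset.sum_apply, smul_eq_mul] at h2
    have h3 : ∀ ψ ∈ hAfin.toFinset, ψ 1 = θ 1 := by
      intro ψ hψ
      obtain ⟨g, rfl⟩ := (Set.Finite.mem_toFinset hAfin).1 hψ
      rw [conjFun_apply]
      congr 1
      apply Subtype.ext
      simp
    rw [Finset.sum_congr rfl h3, Finset.sum_const, nsmul_eq_mul] at h2
    have h4 : χ 1 = res N χ 1 := rfl
    rw [h4, h2]
    push_cast
    ring
  · conv_lhs => rhs; rw [hcl]
    rw [classInner_smul_right, classInner_sum_right]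
    have h3 : ∀ ψ ∈ hAfin.toFinset, classInner (res N χ) ψ = (m : ℂ) := by
      intro ψ hψ
      obtain ⟨g, rfl⟩ := (Set.Finite.mem_toFinset hAfin).1 hψ
      rw [classInner_res_conjFun N hN (isClassFunction_of_isIrrCharacter hχ), hm]
    rw [Finset.sum_congr rfl h3, Finset.sum_const, nsmul_eq_mul]
    push_cast
    rw [Complex.conj_natCast]
    ring
  · intro hinv
    have : hAfin.toFinset = {θ} := by
      ext ψ
      rw [Set.Finite.mem_toFinset, Finset.mem_singleton]
      constructor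
      · rintro ⟨g, rfl⟩
        exact hinv g
      · rintro rfl
        exact ⟨1, (conjFun_one N hN ψ).symm⟩
    rw [this, Finset.card_singleton]

end Clifford

section Key

variable {G : Type u} [Group G] [Fintype G]

/-- a group of prime order is solvable -/
theorem isSolvable_of_prime_card {Q : Type*} [Group Q] {f : ℕ} (hf : f.Prime)
    (h : Nat.card Q = f) : Group.IsSolvable Q := by
  have : Fact f.Prime := ⟨hf⟩
  have hc : IsCyclic Q := isCyclic_of_prime_card h
  exact Group.isSolvable_of_comm (fun a b => (IsCyclic.commGroup (α := Q)).mul_comm a b)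

/-- multiplicity times degree is at most the degree -/
theorem mult_mul_degree_le {φ : G → ℂ} (hφ : IsCharacter G φ) (χ : IrrCharacter G)
    (m F d : ℕ) (hm : classInner φ (χ : G → ℂ) = m) (hF : φ 1 = F) (hd : (χ : G → ℂ) 1 = d) :
    m * d ≤ F := by
  classical
  obtain ⟨a, ha, hsum⟩ := exists_multiplicities hφ
  have h1 := congrFun hsum 1
  rw [Finset.sum_apply] at h1
  choose dd hddpos hdd using fun ψ : IrrCharacter G =>
    Cfsg.Agent.Lib.Helper3_CharColumn.irr_one_eq_natCast ψ.2
  have h2 : (F : ℂ) = ((∑ ψ : IrrCharacter G, a ψ * dd ψ : ℕ) : ℂ) := by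
    rw [← hF, h1]
    push_cast
    apply Finset.sum_congr rfl
    intro ψ _
    rw [Pi.smul_apply, smul_eq_mul, hdd ψ]
  have h3 : F = ∑ ψ : IrrCharacter G, a ψ * dd ψ := by exact_mod_cast h2
  have h4 : a χ = m := by
    have := (ha χ).symm.trans hm
    exact_mod_cast this
  have h5 : dd χ = d := by
    have := (hdd χ).symm.trans hd
    exact_mod_cast this
  rw [h3, ← h4, ← h5]
  exact Finset.single_le_sum (f := fun ψ : IrrCharacter G => a ψ * dd ψ)
    (fun ψ _ => Nat.zero_le _) (Finset.mem_univ χ)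

variable (N : Subgroup G) [hN : N.Normal] [Fintype N]

/-- an irreducible character of prime degree different from the prime index restricts
irreducibly -/
theorem res_irr_of_ne {f : ℕ} (hf : f.Prime) (hidx : N.index = f) (χ : IrrCharacter G) {q : ℕ}
    (hq : q.Prime) (hχ : charDegree (χ : G → ℂ) = q) (hne : q ≠ f) :
    IsIrrCharacter N (res N (χ : G → ℂ)) := by
  have hsolv : Group.IsSolvable (G ⧸ N) := by
    apply isSolvable_of_prime_card hf
    rw [← Subgroup.index_eq_card, hidx]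
  have h1 : (χ : G → ℂ) 1 = (q : ℂ) := by
    rw [Cfsg.Agent.Lib.Helper77_BlockBasics.apply_one_eq_charDegree, hχ]
  exact Cfsg.Agent.Lib.Helper75_CoprimeDeg.irr_restrict_of_coprime f N hidx hsolv χ q h1
    (by rw [hidx]; exact (Nat.coprime_primes hq hf).mpr hne)

open Cfsg.Agent.Lib.Helper75_LinChar in
/-- if some irreducible character restricts reducibly to the normal subgroup `N` of prime index,
then `N` has a linear character that is not `G`-invariant -/
theorem exists_lin_not_invariant {f : ℕ} (hf : f.Prime) (hidx : N.index = f)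
    (h : ∀ χ : IrrCharacter G, charDegree (χ : G → ℂ) ≠ 1 → (charDegree (χ : G → ℂ)).Prime)
    (χ₀ : IrrCharacter G) (hχ₀ : ¬ IsIrrCharacter N (res N (χ₀ : G → ℂ))) :
    ∃ θ : N → ℂ, IsLin N θ ∧ ∃ g : G, conjFun N hN θ g ≠ θ := by
  classical
  have h10 := Cfsg.Agent.Lib.Helper77_BlockBasics.apply_one_eq_charDegree χ₀
  have hres : IsCharacter N (res N (χ₀ : G → ℂ)) :=
    isCharacter_res N (isCharacter_of_isIrrCharacter χ₀.2)
  have hd1 : charDegree (χ₀ : G → ℂ) ≠ 1 := by
    intro h1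
    apply hχ₀
    have hlin : IsLin N (res N (χ₀ : G → ℂ)) := by
      refine ⟨hres, ?_⟩
      show (χ₀ : G → ℂ) ((1 : N) : G) = 1
      rw [Subgroup.coe_one, h10, h1, Nat.cast_one]
    exact hlin.irr
  have hdp := h χ₀ hd1
  have hdf : charDegree (χ₀ : G → ℂ) = f := by
    by_contra hne
    exact hχ₀ (res_irr_of_ne N hf hidx χ₀ hdp rfl hne)
  have h11 : res N (χ₀ : G → ℂ) 1 ≠ 0 := by
    show (χ₀ : G → ℂ) ((1 : N) : G) ≠ 0
    rw [Subgroup.coe_one, h10, hdf]
    exact_mod_cast hf.ne_zero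
  obtain ⟨θ, hθ, hne⟩ := Cfsg.Agent.S0857.exists_constituent hres h11
  obtain ⟨m, t, hm, ht, hdeg, hnorm, hinv⟩ := clifford_numbers N hN χ₀.2 hθ hne
  obtain ⟨b, hb0, hb⟩ := Cfsg.Agent.Lib.Helper3_CharColumn.irr_one_eq_natCast hθ
  have hfmtb : f = m * t * b := by
    have h2 : (f : ℂ) = ((m * t * b : ℕ) : ℂ) := by
      rw [← hdf, ← h10, hdeg, hb]
      push_cast
      ring
    exact_mod_cast h2
  have hb1 : b = 1 := by
    have hbdvd : b ∣ f := ⟨m * t, by rw [hfmtb]; ring⟩
    rcases (Nat.dvd_prime hf).mp hbdvd with h1 | h1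
    · exact h1
    · exfalso
      apply hχ₀
      have h3 := Cfsg.Agent.Lib.Helper80_CharInd.eq_of_constituent_of_degree_le
        (res N (χ₀ : G → ℂ)) hres ⟨θ, hθ⟩ hne f f
        (by show (χ₀ : G → ℂ) ((1 : N) : G) = _; rw [Subgroup.coe_one, h10, hdf])
        (by show θ 1 = _; rw [hb, h1]) le_rfl
      rw [h3]
      exact hθ
  have hlin : IsLin N θ := ⟨isCharacter_of_isIrrCharacter hθ, by rw [hb, hb1, Nat.cast_one]⟩
  refine ⟨θ, hlin, ?_⟩
  by_contra hcon
  push Not at hcon
  have ht1 := hinv hcon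
  have hmf : m = f := by
    rw [hfmtb, ht1, hb1, mul_one, mul_one]
  -- Frobenius reciprocity
  have hm' : classInner (res N (χ₀ : G → ℂ)) θ = (m : ℂ) := by
    obtain ⟨m', hm'⟩ := classInner_isCharacter_nat hres (isCharacter_of_isIrrCharacter hθ)
    -- recompute `m` from the norm
    have h4 := clifford N hN χ₀.2 hθ hne
    have hA : {ψ : N → ℂ | ∃ g : G, ψ = conjFun N hN θ g} = {θ} := by
      ext ψ
      simp only [Set.mem_setOf_eq, Set.mem_singleton_iff]
      constructor
      · rintro ⟨g, rfl⟩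
        exact hcon g
      · rintro rfl
        exact ⟨1, (conjFun_one N hN ψ).symm⟩
    rw [hA, finsum_mem_singleton, hm'] at h4
    have h5 := congrFun h4 1
    rw [Pi.smul_apply, smul_eq_mul, hb, hb1, Nat.cast_one, mul_one] at h5
    have h6 : res N (χ₀ : G → ℂ) 1 = (f : ℂ) := by
      show (χ₀ : G → ℂ) ((1 : N) : G) = _
      rw [Subgroup.coe_one, h10, hdf]
    rw [h6] at h5
    rw [hm', ← h5, hmf]
  have hfr : classInner (indFun N θ) (χ₀ : G → ℂ) = (m : ℂ) := by
    rw [Cfsg.Agent.Lib.Helper75_Induced.frobenius_reciprocity N θ _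
      (isClassFunction_of_isIrrCharacter χ₀.2)]
    have h7 := classInner_conj_symm (res N (χ₀ : G → ℂ)) θ
    have h8 : classInner θ (fun n : N => (χ₀ : G → ℂ) n) =
        conj (classInner (res N (χ₀ : G → ℂ)) θ) := h7.symm
    rw [h8, hm', Complex.conj_natCast]
  have hind : IsCharacter G (indFun N θ) :=
    Cfsg.Agent.Lib.Helper75_IndChar.isCharacter_indFun N (isCharacter_of_isIrrCharacter hθ)
  have hle := mult_mul_degree_le hind χ₀ m f f hfr
    (by rw [Cfsg.Agent.Lib.Helper80_CharInd.indFun_one, hidx, hb, hb1, Nat.cast_one, mul_one])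
    (by rw [h10, hdf])
  rw [hmf] at hle
  have := hf.two_le
  nlinarith

open Cfsg.Agent.Lib.Helper75_LinChar in
/-- conjugates of linear characters are linear -/
theorem isLin_conjFun {θ : N → ℂ} (hθ : IsLin N θ) (g : G) : IsLin N (conjFun N hN θ g) := by
  refine ⟨isCharacter_conjFun N hN hθ.1 g, ?_⟩
  rw [conjFun_apply]
  have h1 : (⟨g * ((1 : N) : G) * g⁻¹, hN.conj_mem _ (1 : N).2 g⟩ : N) = 1 := by
    apply Subtype.ext
    simp
  rw [h1, hθ.2]

open Cfsg.Agent.Lib.Helper75_LinChar in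
/-- the subgroup of `N` on which the linear character `θ` agrees with all its conjugates -/
def invSub (θ : N → ℂ) (hθ : IsLin N θ) : Subgroup N where
  carrier := {n | ∀ g : G, conjFun N hN θ g n = θ n}
  one_mem' := by
    intro g
    rw [(isLin_conjFun N hθ g).2, hθ.2]
  mul_mem' := by
    intro a b ha hb g
    rw [(isLin_conjFun N hθ g).map_mul, hθ.map_mul, ha g, hb g]
  inv_mem' := by
    intro a ha g
    rw [(isLin_conjFun N hθ g).map_inv, hθ.map_inv, ha g]

open Cfsg.Agent.Lib.Helper75_LinChar in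
theorem mem_invSub {θ : N → ℂ} (hθ : IsLin N θ) (n : N) :
    n ∈ invSub N θ hθ ↔ ∀ g : G, conjFun N hN θ g n = θ n := Iff.rfl

open Cfsg.Agent.Lib.Helper75_LinChar in
theorem invSub_normal {θ : N → ℂ} (hθ : IsLin N θ) : (invSub N θ hθ).Normal := by
  constructor
  intro n hn m
  rw [mem_invSub] at hn ⊢
  intro g
  have h1 := (isLin_conjFun N hθ g).ne_zero m
  have h2 := hθ.ne_zero m
  rw [(isLin_conjFun N hθ g).map_mul, (isLin_conjFun N hθ g).map_mul,
    (isLin_conjFun N hθ g).map_inv, hθ.map_mul, hθ.map_mul, hθ.map_inv, hn g]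
  field_simp

open Cfsg.Agent.Lib.Helper75_LinChar in
/-- characters of `G` of prime degree different from the index vanish on `N` off `invSub` -/
theorem vanish_off_invSub {f : ℕ} (hf : f.Prime) (hidx : N.index = f)
    (h : ∀ χ : IrrCharacter G, charDegree (χ : G → ℂ) ≠ 1 → (charDegree (χ : G → ℂ)).Prime)
    {θ : N → ℂ} (hθ : IsLin N θ) (χ : IrrCharacter G) (hχ1 : charDegree (χ : G → ℂ) ≠ 1)
    (hχf : charDegree (χ : G → ℂ) ≠ f) (n : N) (hn : n ∉ invSub N θ hθ) :
    (χ : G → ℂ) n = 0 := by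
  classical
  have hq := h χ hχ1
  have hψ : IsIrrCharacter N (res N (χ : G → ℂ)) := res_irr_of_ne N hf hidx χ hq rfl hχf
  have h10 := Cfsg.Agent.Lib.Helper77_BlockBasics.apply_one_eq_charDegree χ
  have hprod : IsIrrCharacter N (θ * res N (χ : G → ℂ)) := hθ.mul_irr hψ
  have hprod1 : (θ * res N (χ : G → ℂ)) 1 = (charDegree (χ : G → ℂ) : ℂ) := by
    rw [Pi.mul_apply, hθ.2, one_mul]
    show (χ : G → ℂ) ((1 : N) : G) = _
    rw [Subgroup.coe_one, h10]
  obtain ⟨η, hη, hne⟩ := Cfsg.Agent.Lib.Helper59_CliffordDeg.exists_irr_over N hprod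
  have h20 := Cfsg.Agent.Lib.Helper77_BlockBasics.apply_one_eq_charDegree ⟨η, hη⟩
  have hdvd := Cfsg.Agent.Lib.Helper59_CliffordDeg.degree_dvd_of_clifford N hN hη hprod hne
    (charDegree η) (charDegree (χ : G → ℂ)) h20 hprod1
  have hD1 : charDegree η ≠ 1 := by
    intro hc
    rw [hc] at hdvd
    exact hq.one_lt.ne' (Nat.dvd_one.mp hdvd)
  have hDp := h ⟨η, hη⟩ hD1
  have hDq : charDegree η = charDegree (χ : G → ℂ) := by
    rcases (Nat.dvd_prime hDp).mp hdvd with h2 | h2
    · exact absurd h2 hq.one_lt.ne'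
    · exact h2.symm
  have hres : res N η = θ * res N (χ : G → ℂ) := by
    apply Cfsg.Agent.Lib.Helper80_CharInd.eq_of_constituent_of_degree_le (res N η)
      (isCharacter_res N (isCharacter_of_isIrrCharacter hη)) ⟨_, hprod⟩ hne
      (charDegree η) (charDegree (χ : G → ℂ))
    · show η ((1 : N) : G) = _
      rw [Subgroup.coe_one]
      exact h20
    · exact hprod1
    · exact hDq.le
  rw [mem_invSub] at hn
  push Not at hn
  obtain ⟨g, hg⟩ := hn
  have h3 : conjFun N hN (res N η) g = res N η :=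
    conjFun_restrict N hN (isClassFunction_of_isIrrCharacter hη) g
  have h4 : conjFun N hN (res N (χ : G → ℂ)) g = res N (χ : G → ℂ) :=
    conjFun_restrict N hN (isClassFunction_of_isIrrCharacter χ.2) g
  have h5 := congrFun h3 n
  have h6 := congrFun h4 n
  rw [hres] at h5
  rw [conjFun_apply] at h5 h6
  rw [Pi.mul_apply, Pi.mul_apply, h6] at h5
  rw [conjFun_apply] at hg
  have h7 : (θ ⟨g * (n : G) * g⁻¹, hN.conj_mem n n.2 g⟩ - θ n) * res N (χ : G → ℂ) n = 0 := by
    rw [sub_mul, h5, sub_self]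
  rcases mul_eq_zero.mp h7 with h8 | h8
  · exact absurd (sub_eq_zero.mp h8) hg
  · exact h8

open Cfsg.Agent.Lib.Helper75_LinChar in
/-- the index of `invSub` is the degree or its square -/
theorem index_invSub {f : ℕ} (hf : f.Prime) (hidx : N.index = f)
    (h : ∀ χ : IrrCharacter G, charDegree (χ : G → ℂ) ≠ 1 → (charDegree (χ : G → ℂ)).Prime)
    {θ : N → ℂ} (hθ : IsLin N θ) (hZ : invSub N θ hθ ≠ ⊤) (χ : IrrCharacter G)
    (hχ1 : charDegree (χ : G → ℂ) ≠ 1) (hχf : charDegree (χ : G → ℂ) ≠ f) :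
    (invSub N θ hθ).index = charDegree (χ : G → ℂ) ∨
      (invSub N θ hθ).index = charDegree (χ : G → ℂ) * charDegree (χ : G → ℂ) := by
  classical
  set Z := invSub N θ hθ with hZdef
  have hZn : Z.Normal := invSub_normal N hθ
  have : Fintype Z := Fintype.ofFinite Z
  have hq := h χ hχ1
  set q := charDegree (χ : G → ℂ) with hqdef
  have hψ : IsIrrCharacter N (res N (χ : G → ℂ)) := res_irr_of_ne N hf hidx χ hq rfl hχf
  have h10 := Cfsg.Agent.Lib.Helper77_BlockBasics.apply_one_eq_charDegree χ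
  have hv : ∀ k : N, k ∉ Z → res N (χ : G → ℂ) k = 0 :=
    fun k hk => vanish_off_invSub N hf hidx h hθ χ hχ1 hχf k hk
  have hnorm := Cfsg.Agent.S0857.norm_res_of_vanish Z hψ hv
  have hψ1 : res N (χ : G → ℂ) 1 = (q : ℂ) := by
    show (χ : G → ℂ) ((1 : N) : G) = _
    rw [Subgroup.coe_one, h10]
  have hresc : IsCharacter Z (res Z (res N (χ : G → ℂ))) :=
    isCharacter_res Z (isCharacter_of_isIrrCharacter hψ)
  have h11 : res Z (res N (χ : G → ℂ)) 1 ≠ 0 := by
    show res N (χ : G → ℂ) ((1 : Z) : N) ≠ 0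
    rw [Subgroup.coe_one, hψ1]
    exact_mod_cast hq.ne_zero
  obtain ⟨φ, hφ, hne⟩ := Cfsg.Agent.S0857.exists_constituent hresc h11
  obtain ⟨m, t, hm, ht, hdeg, hnorm2, -⟩ := clifford_numbers Z hZn hψ hφ hne
  obtain ⟨b, hb0, hb⟩ := Cfsg.Agent.Lib.Helper3_CharColumn.irr_one_eq_natCast hφ
  have hqmtb : q = m * t * b := by
    have h2 : (q : ℂ) = ((m * t * b : ℕ) : ℂ) := by
      rw [← hψ1, hdeg, hb]
      push_cast
      ring
    exact_mod_cast h2
  have hidxZ : Z.index = m * m * t := by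
    have h2 : (Z.index : ℂ) = ((m * m * t : ℕ) : ℂ) := by
      rw [← hnorm, hnorm2]
    exact_mod_cast h2
  have hidx1 : Z.index ≠ 1 := fun hc => hZ (Subgroup.index_eq_one.mp hc)
  have hmdvd : m ∣ q := ⟨t * b, by rw [hqmtb]; ring⟩
  rcases (Nat.dvd_prime hq).mp hmdvd with hm1 | hmq
  · have htdvd : t ∣ q := ⟨b, by rw [hqmtb, hm1]; ring⟩
    rcases (Nat.dvd_prime hq).mp htdvd with ht1 | htq
    · exfalso
      apply hidx1
      rw [hidxZ, hm1, ht1]
    · left
      rw [hidxZ, hm1, htq]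
      ring
  · right
    have htb : t * b = 1 := by
      have h3 : q * (t * b) = q * 1 := by
        rw [mul_one]
        conv_rhs => rw [hqmtb, hmq]
        ring
      exact Nat.eq_of_mul_eq_mul_left hq.pos h3
    have ht1 : t = 1 := Nat.eq_one_of_mul_eq_one_right htb
    rw [hidxZ, hmq, ht1, mul_one]

/-- **Key step**: for a normal subgroup `N` of prime index `f`, either all irreducible characters
of `G` restrict irreducibly to `N`, or the degrees of `G` lie in `{1, f, q}`. -/
theorem key_prime_index {f : ℕ} (hf : f.Prime) (hidx : N.index = f)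
    (h : ∀ χ : IrrCharacter G, charDegree (χ : G → ℂ) ≠ 1 → (charDegree (χ : G → ℂ)).Prime) :
    (∀ χ : IrrCharacter G, IsIrrCharacter N (res N (χ : G → ℂ))) ∨
    ∃ q : ℕ, ∀ χ : IrrCharacter G, charDegree (χ : G → ℂ) = 1 ∨ charDegree (χ : G → ℂ) = f ∨
      charDegree (χ : G → ℂ) = q := by
  classical
  by_cases hall : ∀ χ : IrrCharacter G, IsIrrCharacter N (res N (χ : G → ℂ))
  · left
    exact hall
  · right
    push Not at hall
    obtain ⟨χ₀, hχ₀⟩ := hall
    obtain ⟨θ, hθ, g₀, hg₀⟩ := exists_lin_not_invariant N hf hidx h χ₀ hχ₀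
    have hZ : invSub N θ hθ ≠ ⊤ := by
      intro hc
      apply hg₀
      funext n
      have h1 : n ∈ invSub N θ hθ := by rw [hc]; exact Subgroup.mem_top n
      exact h1 g₀
    by_cases hex : ∃ χ₁ : IrrCharacter G, charDegree (χ₁ : G → ℂ) ≠ 1 ∧
        charDegree (χ₁ : G → ℂ) ≠ f
    · obtain ⟨χ₁, h11, h1f⟩ := hex
      refine ⟨charDegree (χ₁ : G → ℂ), fun χ => ?_⟩
      by_cases h1 : charDegree (χ : G → ℂ) = 1
      · left
        exact h1
      by_cases h2 : charDegree (χ : G → ℂ) = f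
      · right
        left
        exact h2
      right
      right
      have hq1 := h χ₁ h11
      have hq := h χ h1
      have hi1 := index_invSub N hf hidx h hθ hZ χ₁ h11 h1f
      have hi := index_invSub N hf hidx h hθ hZ χ h1 h2
      have hdvd : charDegree (χ : G → ℂ) ∣ (invSub N θ hθ).index := by
        rcases hi with h3 | h3 <;> rw [h3]
        exact dvd_mul_right _ _
      have hdvd1 : charDegree (χ : G → ℂ) ∣ charDegree (χ₁ : G → ℂ) := by
        rcases hi1 with h3 | h3 <;> rw [h3] at hdvd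
        · exact hdvd
        · rcases (Nat.Prime.dvd_mul hq).mp hdvd with h4 | h4 <;> exact h4
      rcases (Nat.dvd_prime hq1).mp hdvd1 with h3 | h3
      · exact absurd h3 h1
      · exact h3
    · push Not at hex
      refine ⟨1, fun χ => ?_⟩
      by_cases h1 : charDegree (χ : G → ℂ) = 1
      · left
        exact h1
      · right
        left
        exact hex χ h1

end Key

end Cfsg.Agent.Lib.Helper74_PrimeDegC
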