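import Mathlib
import Cfsg.Agent.Lib.Helper72_IPDefs
import Cfsg.Agent.Lib.Helper74_GoingUp
import Cfsg.Agent.Lib.Helper74_PrimeDegC
import Cfsg.Agent.Lib.Helper75_CharArith

/-!
# S4463 PKG-SUB : subgroups inherit representation bounds (helper72)
-/

set_option autoImplicit false

namespace Cfsg.Agent.Lib.Helper72_IP_SUB

open Cfsg Cfsg.Agent.Lib.Helper72_IPDefs

universe u

/-- `charDegree` of a function whose value at one is a natural number -/
theorem charDegree_eq_of_apply_one {G : Type u} [Group G] {χ : G → ℂ} {n : ℕ} (h : χ 1 = n) :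
    charDegree χ = n := by
  unfold charDegree
  rw [h]
  simp

/-- the value at one of an irreducible character is its `charDegree` -/
theorem irr_apply_one_eq_charDegree {G : Type u} [Group G] (χ : IrrCharacter G) :
    (χ : G → ℂ) 1 = (charDegree (χ : G → ℂ) : ℂ) := by
  obtain ⟨n, _, hn⟩ := Cfsg.Agent.Lib.Helper80_CharBasic.irr_apply_one χ
  rw [charDegree_eq_of_apply_one hn, hn]

/-- the degree of an irreducible character is positive -/
theorem charDegree_pos {G : Type u} [Group G] (χ : IrrCharacter G) :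
    0 < charDegree (χ : G → ℂ) := by
  obtain ⟨n, hn0, hn⟩ := Cfsg.Agent.Lib.Helper80_CharBasic.irr_apply_one χ
  rw [charDegree_eq_of_apply_one hn]
  exact hn0

/-- every irreducible character `η` of a subgroup lies under an irreducible character of the group
of at least the same degree -/
theorem exists_over_degree {G : Type u} [Group G] [Fintype G] (U : Subgroup G) [Fintype U]
    (η : IrrCharacter U) :
    ∃ χ : IrrCharacter G, classInner (fun k : U => (χ : G → ℂ) k) (η : U → ℂ) ≠ 0 ∧
      charDegree (η : U → ℂ) ≤ charDegree (χ : G → ℂ) := by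
  obtain ⟨χ, hχ⟩ := Cfsg.Agent.Lib.Helper74_GoingUp.exists_over U η
  refine ⟨χ, hχ, ?_⟩
  have hres : IsCharacter U (fun k : U => (χ : G → ℂ) k) :=
    Cfsg.Agent.Lib.Helper75_CharArith.isCharacter_restrict U
      (Cfsg.Agent.Lib.Helper3_CharBridge.isCharacter_of_isIrrCharacter χ.2)
  obtain ⟨m, hm⟩ := Cfsg.Agent.Lib.Helper75_CharArith.classInner_isCharacter_nat hres
    (Cfsg.Agent.Lib.Helper3_CharBridge.isCharacter_of_isIrrCharacter η.2)
  have hm0 : m ≠ 0 := by
    intro h0
    apply hχ
    rw [hm, h0, Nat.cast_zero]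
  have h1 : (fun k : U => (χ : G → ℂ) k) 1 = (charDegree (χ : G → ℂ) : ℂ) :=
    irr_apply_one_eq_charDegree χ
  have hle := Cfsg.Agent.Lib.Helper74_PrimeDegC.mult_mul_degree_le hres η m
    (charDegree (χ : G → ℂ)) (charDegree (η : U → ℂ)) hm h1 (irr_apply_one_eq_charDegree η)
  have hmpos : 1 ≤ m := Nat.one_le_iff_ne_zero.mpr hm0
  calc charDegree (η : U → ℂ) = 1 * charDegree (η : U → ℂ) := (one_mul _).symm
    _ ≤ m * charDegree (η : U → ℂ) := Nat.mul_le_mul_right _ hmpos
    _ ≤ charDegree (χ : G → ℂ) := hle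

/-- **PKG-SUB**: subgroups inherit representation bounds -/
theorem rb_subgroup {G : Type u} [Group G] [Finite G] {b : ℕ} (h : RB G b) (U : Subgroup G) :
    RB U b := by
  classical
  have : Fintype G := Fintype.ofFinite G
  have : Fintype U := Fintype.ofFinite U
  intro η
  obtain ⟨χ, -, hle⟩ := exists_over_degree U η
  exact hle.trans (h χ)

end Cfsg.Agent.Lib.Helper72_IP_SUB
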