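import Mathlib
import Cfsg.Agent.Lib.Helper72_IPDefs
import Cfsg.Agent.Lib.Helper72_IP_SUB
import Cfsg.Agent.Lib.Helper72_IP_B2
import Cfsg.Agent.Lib.Helper17_IP_A2
import Cfsg.Agent.Lib.Helper49_IP_S5
import Cfsg.Agent.Lib.Helper63_IP_X
import Cfsg.Agent.Lib.Helper63_IP_X2
import Cfsg.Agent.Lib.Helper1_Isaacs123
import Cfsg.Agent.Lib.Helper31_IP_K2
import Cfsg.Agent.Lib.Helper31_IP_A1a
import Cfsg.Agent.Lib.Helper17_IP_A1b
import Cfsg.Agent.Lib.Helper76_GalConj
import Cfsg.Agent.Lib.Helper49_IP_B1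

/-!
# S4463 Isaacs–Passman `(b!)^2`: assembly of the packages (helper72)

Paper proof: finding 136.  Packages: SUB, B2 (helper72), A2 (helper17), S5, B1 (helper49),
X, X2 (helper63), K2, A1a (helper31), A1b, A1 (helper51).
-/

set_option autoImplicit false

namespace Cfsg.Agent.Lib.Helper72_IP_Main

open Cfsg Cfsg.Agent.Lib.Helper72_IPDefs
open Cfsg.Agent.Lib.Helper72_IP_SUB Cfsg.Agent.Lib.Helper72_IP_B2 Cfsg.Agent.Lib.Helper17_IP_A2
  Cfsg.Agent.Lib.Helper49_IP_S5 Cfsg.Agent.Lib.Helper63_IP_X Cfsg.Agent.Lib.Helper63_IP_X2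
open Cfsg.Agent.Lib.Helper31_IP_K2 Cfsg.Agent.Lib.Helper31_IP_A1a Cfsg.Agent.Lib.Helper17_IP_A1b
  Cfsg.Agent.Lib.Helper49_IP_B1

universe u

/-! ## PKG-A1 : the central case (assembly of A1a, A1b) -/
theorem central_case {G : Type u} [Group G] [Finite G] {b : ℕ} (h : RB G b)
    (K : Subgroup G) [K.Normal]
    (hne : commutator (G ⧸ K) ≠ ⊥)
    (hmin : ∀ N : Subgroup (G ⧸ K), N.Normal → N ≠ ⊥ → commutator (G ⧸ K) ≤ N)
    (hcent : commutator (G ⧸ K) ≤ Subgroup.center (G ⧸ K)) :
    ∃ H : Subgroup G, H ≠ ⊤ ∧ H.index ≤ b ^ 2 ∧ RB H (b - 1) := by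
  classical
  obtain ⟨β, hβ2, hβsq, hβvan, hβnorm⟩ := exists_fully_ramified hne hmin hcent
  have hsurj : Function.Surjective (QuotientGroup.mk' K) := QuotientGroup.mk'_surjective K
  set Z : Subgroup G := (Subgroup.center (G ⧸ K)).comap (QuotientGroup.mk' K) with hZ
  set f : ℕ := charDegree (β : G ⧸ K → ℂ) with hf
  have hZidx : Z.index = (Subgroup.center (G ⧸ K)).index :=
    Subgroup.index_comap_of_surjective _ hsurj
  have hfb : f ≤ b := by
    rw [hf, ← Cfsg.Agent.Lib.Helper76_GalConj.charDegree_infl K β]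
    exact h _
  have hZtop : Z ≠ ⊤ := by
    intro htop
    have h1 : Z.index = 1 := by rw [htop]; exact Subgroup.index_top
    rw [hZidx, ← hβsq] at h1
    have : 2 ^ 2 ≤ f ^ 2 := Nat.pow_le_pow_left hβ2 2
    omega
  refine ⟨Z, hZtop, ?_, ?_⟩
  · rw [hZidx, ← hβsq]
    exact Nat.pow_le_pow_left hfb 2
  · apply rb_pred_of_fully_ramified h Z (Cfsg.Agent.Lib.Helper76_GalConj.infl K β) f hβ2
      (by rw [hZidx, ← hβsq])
    · intro g hg
      rw [Cfsg.Agent.Lib.Helper76_GalConj.infl_apply]
      apply hβvan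
      exact hg
    · intro z hz
      rw [Cfsg.Agent.Lib.Helper76_GalConj.infl_apply]
      exact hβnorm _ hz


/-! ## PKG-A2q : the Frobenius case, from the quotient data of `structure_of_unique_minimal` -/
theorem frobenius_case_quot {G : Type u} [Group G] [Finite G] {b : ℕ} (h : RB G b)
    (K : Subgroup G) [K.Normal]
    (hne : commutator (G ⧸ K) ≠ ⊥)
    {p : ℕ} (hp : p.Prime) (hpg : IsPGroup p (commutator (G ⧸ K)))
    (hcomm : ∀ x ∈ commutator (G ⧸ K), ∀ y ∈ commutator (G ⧸ K), x * y = y * x)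
    (hfrob : ∀ k ∈ commutator (G ⧸ K), k ≠ 1 → ∀ x : G ⧸ K, x * k = k * x →
      x ∈ commutator (G ⧸ K))
    (hcop : (Nat.card (commutator (G ⧸ K))).Coprime (commutator (G ⧸ K)).index)
    (hproper : commutator (G ⧸ K) ≠ ⊤) :
    ∃ H : Subgroup G, H ≠ ⊤ ∧ H.index ≤ b ^ 2 ∧ RB H (b - 1) := by
  classical
  set D : Subgroup (G ⧸ K) := commutator (G ⧸ K) with hD
  set N : Subgroup G := D.comap (QuotientGroup.mk' K) with hN
  have hsurj : Function.Surjective (QuotientGroup.mk' K) := QuotientGroup.mk'_surjective K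
  have hNn : N.Normal := Subgroup.Normal.comap inferInstance _
  have hmemN : ∀ g : G, g ∈ N ↔ (QuotientGroup.mk g : G ⧸ K) ∈ D := fun g => Iff.rfl
  have hmemK : ∀ g : G, g ∈ K ↔ (QuotientGroup.mk g : G ⧸ K) = 1 := fun g =>
    (QuotientGroup.eq_one_iff g).symm
  have hKN : K ≤ N := by
    intro g hg
    rw [hmemN, (hmemK g).mp hg]
    exact D.one_mem
  have hmapN : N.map (QuotientGroup.mk' K) = D := Subgroup.map_comap_eq_self_of_surjective hsurj D
  have hneKN : K ≠ N := by
    intro heq
    apply hne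
    rw [← hmapN, ← heq, (Subgroup.map_eq_bot_iff _), QuotientGroup.ker_mk']
  have hNtop : N ≠ ⊤ := by
    intro htop
    apply hproper
    rw [← hmapN, htop, ← MonoidHom.range_eq_map, MonoidHom.range_eq_top.mpr hsurj]
  have hNidx : N.index = D.index := Subgroup.index_comap_of_surjective D hsurj
  -- |N : K| = |D|
  have hrel : K.relIndex N = Nat.card D := by
    have h1 : Nat.card G = K.index * Nat.card K := by
      rw [mul_comm]; exact (Subgroup.card_mul_index K).symm
    have h2 : K.relIndex N * N.index = K.index := Subgroup.relIndex_mul_index hKN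
    have h3 : Nat.card (G ⧸ K) = K.index := rfl
    have h4 : Nat.card D * D.index = Nat.card (G ⧸ K) := Subgroup.card_mul_index D
    have hpos : 0 < N.index := Nat.pos_of_ne_zero Subgroup.index_ne_zero_of_finite
    rw [h3, ← h2, ← hNidx] at h4
    exact (Nat.eq_of_mul_eq_mul_right hpos h4).symm
  have : Fact p.Prime := ⟨hp⟩
  obtain ⟨a, ha⟩ := hpg.exists_card_eq
  refine frobenius_case h K N hKN hneKN hNtop ?_ ?_ ?_ hp (a := a) (by rw [hrel, ha])
  · intro x hx y hy
    rw [hmemK]
    have := hcomm _ ((hmemN x).mp hx) _ ((hmemN y).mp hy)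
    simp only [QuotientGroup.mk_mul, QuotientGroup.mk_inv]
    rw [this, mul_inv_cancel_right, mul_inv_cancel]
  · rw [hrel, hNidx]
    exact hcop
  · intro g hg x hx hxg
    rw [hmemK]
    by_contra hx1
    apply hg
    rw [hmemN]
    apply hfrob _ ((hmemN x).mp hx) hx1
    rw [hmemK] at hxg
    simp only [QuotientGroup.mk_mul, QuotientGroup.mk_inv] at hxg
    -- x⁻¹ * (g⁻¹ * x * g) = 1  ⇒  g * x = x * g
    have h1 : (QuotientGroup.mk g : G ⧸ K)⁻¹ * QuotientGroup.mk x * QuotientGroup.mk g =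
        QuotientGroup.mk x := by
      exact (inv_mul_eq_one.mp hxg).symm
    calc (QuotientGroup.mk g : G ⧸ K) * QuotientGroup.mk x
        = QuotientGroup.mk g * ((QuotientGroup.mk g)⁻¹ * QuotientGroup.mk x * QuotientGroup.mk g) := by
          rw [h1]
      _ = QuotientGroup.mk x * QuotientGroup.mk g := by group


/-! ## PKG-B : the nonsolvable case (assembly of B1, B2, X, X2, K2, S5) -/
theorem nonsolvable_case {G : Type u} [Group G] [Finite G] {b : ℕ} (h : RB G b)
    (K : Subgroup G) [K.Normal]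
    (hmin : ∀ N : Subgroup (G ⧸ K), N.Normal → N ≠ ⊥ → commutator (G ⧸ K) ≤ N)
    (hns : ¬ Group.IsSolvable (G ⧸ K)) :
    ∃ H : Subgroup G, H ≠ ⊤ ∧
      ((H.index ≤ b ^ 2 ∧ RB H (b - 1)) ∨ (H.index ≤ b ^ 4 ∧ RB H (b / 2) ∧ 5 ≤ b)) := by
  classical
  have hQ : RB (G ⧸ K) b := h.quotient K
  have hnt : Nontrivial (G ⧸ K) := by
    by_contra hcon
    rw [not_nontrivial_iff_subsingleton] at hcon
    exact hns inferInstance
  obtain ⟨x, hx1, hxi⟩ := exists_small_class hQ
  obtain ⟨hCtop, hCcore⟩ := centralizer_core_free hmin hns x hx1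
  set C : Subgroup (G ⧸ K) := Subgroup.centralizer ({x} : Set (G ⧸ K)) with hC
  set H : Subgroup G := C.comap (QuotientGroup.mk' K) with hH
  have hsurj : Function.Surjective (QuotientGroup.mk' K) := QuotientGroup.mk'_surjective K
  have hHidx : H.index = C.index := Subgroup.index_comap_of_surjective C hsurj
  have hHtop : H ≠ ⊤ := by
    intro hcon
    apply hCtop
    rw [← Subgroup.map_comap_eq_self_of_surjective hsurj C, ← hH, hcon,
      ← MonoidHom.range_eq_map, MonoidHom.range_eq_top.mpr hsurj]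
  have hcoreK : H.normalCore ≤ K := by
    intro g hg
    have hmapn : (H.normalCore.map (QuotientGroup.mk' K)).Normal :=
      Subgroup.Normal.map inferInstance _ hsurj
    have hle : H.normalCore.map (QuotientGroup.mk' K) ≤ C.normalCore := by
      apply Subgroup.normal_le_normalCore.mpr
      rintro _ ⟨y, hy, rfl⟩
      exact H.normalCore_le hy
    rw [hCcore, le_bot_iff] at hle
    have hg' : QuotientGroup.mk' K g ∈ H.normalCore.map (QuotientGroup.mk' K) :=
      Subgroup.mem_map_of_mem _ hg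
    rw [hle, Subgroup.mem_bot] at hg'
    exact (QuotientGroup.eq_one_iff g).mp hg'
  have hKtop : K ≠ ⊤ := by
    intro hcon
    apply hns
    have : Subsingleton (G ⧸ K) := by
      rw [hcon]
      exact QuotientGroup.subsingleton_quotient_top
    infer_instance
  by_cases hpred : RB H (b - 1)
  · exact ⟨H, hHtop, Or.inl ⟨hHidx ▸ hxi, hpred⟩⟩
  · -- some character of H has degree exactly b
    have hHb : RB H b := rb_subgroup h H
    unfold RB at hpred
    push Not at hpred
    obtain ⟨η, hη⟩ := hpred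
    have hηb : charDegree (η : H → ℂ) = b := by
      have := hHb η
      have hb1 := h.one_le
      omega
    have hcard := card_le_core_mul_sq H η hηb (fun u hu => vanish_off_core h H η hηb u hu)
    have hcoreK' : Nat.card H.normalCore ≤ Nat.card K :=
      Nat.card_le_card_of_injective (Subgroup.inclusion hcoreK) (Subgroup.inclusion_injective hcoreK)
    have h5 : 5 ≤ b := by
      by_contra hlt
      apply hns
      exact solvable_of_rb_four (hQ.mono (by omega))
    have hna : ∃ x y : G ⧸ K, x * y ≠ y * x := by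
      by_contra hcon
      push Not at hcon
      apply hns
      exact Group.isSolvable_of_comm hcon
    refine ⟨K, hKtop, Or.inr ⟨?_, rb_half h K hna, h5⟩⟩
    -- index count
    have hGH : Nat.card G = H.index * Nat.card H := by
      rw [mul_comm]; exact (Subgroup.card_mul_index H).symm
    have hGK : Nat.card G = K.index * Nat.card K := by
      rw [mul_comm]; exact (Subgroup.card_mul_index K).symm
    have hKpos : 0 < Nat.card K := Nat.card_pos
    have hHle : H.index ≤ b ^ 2 := hHidx ▸ hxi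
    have : K.index * Nat.card K ≤ b ^ 4 * Nat.card K := by
      rw [← hGK, hGH]
      calc H.index * Nat.card H ≤ b ^ 2 * (Nat.card H.normalCore * b ^ 2) :=
            Nat.mul_le_mul hHle hcard
        _ ≤ b ^ 2 * (Nat.card K * b ^ 2) := by gcongr
        _ = b ^ 4 * Nat.card K := by ring
    exact Nat.le_of_mul_le_mul_right this hKpos

/-! ## PKG-STEP : one step of the induction -/
theorem step {G : Type u} [Group G] [Finite G] {b : ℕ} (h : RB G b) (hna : commutator G ≠ ⊥) :
    ∃ H : Subgroup G, H ≠ ⊤ ∧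
      ((H.index ≤ b ^ 2 ∧ RB H (b - 1)) ∨ (H.index ≤ b ^ 4 ∧ RB H (b / 2) ∧ 5 ≤ b)) := by
  obtain ⟨K, hKn, hne, hmin⟩ := Cfsg.Agent.Lib.Helper1_Isaacs123.exists_max_nonabelian_quotient hna
  by_cases hs : Group.IsSolvable (G ⧸ K)
  · obtain ⟨p, hp, hpg, -, hcomm, hcase⟩ :=
      Cfsg.Agent.Lib.Helper1_Isaacs123.structure_of_unique_minimal hne hmin
    rcases hcase with ⟨-, hcent, -, -⟩ | ⟨hfrob, hcop, -⟩
    · obtain ⟨H, h1, h2, h3⟩ := central_case h K hne hmin hcent
      exact ⟨H, h1, Or.inl ⟨h2, h3⟩⟩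
    · have hnt : Nontrivial (G ⧸ K) := by
        by_contra hcon
        rw [not_nontrivial_iff_subsingleton] at hcon
        apply hne
        exact Subsingleton.elim _ _
      have hproper : commutator (G ⧸ K) ≠ ⊤ :=
        (Group.IsSolvable.commutator_lt_top_of_nontrivial (G ⧸ K)).ne
      obtain ⟨H, h1, h2, h3⟩ := frobenius_case_quot h K hne hp hpg hcomm hfrob hcop hproper
      exact ⟨H, h1, Or.inl ⟨h2, h3⟩⟩
  · exact nonsolvable_case h K hmin hs

/-! ## MAIN -/
theorem main : ∀ (n : ℕ) (G : Type u) [Group G] [Finite G] (b : ℕ), Nat.card G = n → RB G b →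
    HasAb G ((Nat.factorial b) ^ 2) := by
  intro n
  induction n using Nat.strong_induction_on with
  | _ n ih =>
    intro G _ _ b hn h
    have hb1 : 1 ≤ b := h.one_le
    by_cases hna : commutator G = ⊥
    · apply HasAb.of_comm
      · intro x y
        have hmem := Cfsg.Agent.Lib.Helper1_Isaacs123.comm_mem x y
        rw [hna, Subgroup.mem_bot, commutatorElement_eq_one_iff_mul_comm] at hmem
        exact hmem
      · exact Nat.one_le_pow _ _ (Nat.factorial_pos b)
    · obtain ⟨H, hHtop, hH⟩ := step h hna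
      have hlt : Nat.card H < n := by
        rw [← hn]
        have hidx1 : H.index ≠ 1 := fun h1 => hHtop (Subgroup.index_eq_one.mp h1)
        have hidx0 : H.index ≠ 0 := Subgroup.index_ne_zero_of_finite
        have hmul := Subgroup.card_mul_index H
        have hpos : 0 < Nat.card H := Nat.card_pos
        nlinarith [show 2 ≤ H.index by omega]
      rcases hH with ⟨hidx, hrb⟩ | ⟨hidx, hrb, h5⟩
      · have := ih (Nat.card H) hlt H (b - 1) rfl hrb
        have h2 := HasAb.of_subgroup H hidx this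
        rw [arith_pred hb1] at h2
        exact h2
      · have := ih (Nat.card H) hlt H (b / 2) rfl hrb
        have h2 := HasAb.of_subgroup H hidx this
        exact h2.mono (arith_half h5)

end Cfsg.Agent.Lib.Helper72_IP_Main
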