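import Mathlib
import Cfsg.Agent.Lib.Helper72_MinIdxDefs
import Cfsg.Agent.Lib.Helper72_MI_R1BCore

set_option autoImplicit false

/-!
MI-S (helper72's package market for row S2140): Lemma S, pure linear algebra over a finite field.
An additive subgroup `B` of `W` (`dim W ≥ 2`) such that every transvection `g` of `W` has `g B = B`
or `g B + B = W` is `⊥`, `⊤`, or has `|W| ≤ q |B|`, with `B` a subspace in case of equality.
-/

namespace Cfsg.Agent.Lib.Helper73_MI_S

open Module Cfsg.Agent.Lib.Helper72_MinIdxDefs Cfsg.Agent.Lib.Helper72_MI_R1BCore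

variable {F : Type*} [Field F]

/-- A functional separating a vector from a line. -/
theorem exists_sep {W : Type*} [AddCommGroup W] [Module F W] (x y : W)
    (hx : x ∉ Submodule.span F ({y} : Set W)) : ∃ ψ : Dual F W, ψ x = 1 ∧ ψ y = 0 := by
  obtain ⟨f, hf, hP⟩ := Submodule.exists_dual_map_eq_bot_of_notMem hx inferInstance
  refine ⟨(f x)⁻¹ • f, ?_, ?_⟩
  · rw [LinearMap.smul_apply, smul_eq_mul, inv_mul_cancel₀ hf]
  · have h0 : f y = 0 := by
      have hmem : f y ∈ (Submodule.span F ({y} : Set W)).map f :=
        Submodule.mem_map_of_mem (Submodule.subset_span rfl)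
      rw [hP] at hmem
      exact (Submodule.mem_bot F).1 hmem
    rw [LinearMap.smul_apply, h0, smul_zero]

/-- Membership in the image of `B` under a transvection. -/
theorem tv_mem_map {W : Type*} [AddCommGroup W] [Module F W] (B : AddSubgroup W)
    (ψ : Dual F W) (u : W) {b : W} (hb : b ∈ B) :
    b + ψ b • u ∈ B.map (LinearMap.transvection ψ u).toAddMonoidHom :=
  ⟨b, hb, rfl⟩

/-- If `g B ⊔ B = ⊤` for the transvection `g = 1 + (c • b) ⊗ ψ` then `B + F b = W`. -/
theorem surj_of_sup_eq_top {W : Type*} [AddCommGroup W] [Module F W] (B : AddSubgroup W)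
    (ψ : Dual F W) (u : W)
    (h : B.map (LinearMap.transvection ψ u).toAddMonoidHom ⊔ B = ⊤) :
    Function.Surjective (fun p : B × F => (p.1 : W) + p.2 • u) := by
  intro w
  have hw : w ∈ B.map (LinearMap.transvection ψ u).toAddMonoidHom ⊔ B := by rw [h]; trivial
  obtain ⟨y, ⟨b', hb', rfl⟩, z, hz, rfl⟩ := AddSubgroup.mem_sup.mp hw
  refine ⟨(⟨b' + z, B.add_mem hb' hz⟩, ψ b'), ?_⟩
  show b' + z + ψ b' • u = (LinearMap.transvection ψ u) b' + z
  rw [LinearMap.transvection.apply]
  abel

theorem lemmaS [Fintype F] {W : Type*} [AddCommGroup W] [Module F W] [Module.Finite F W]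
    (hd : 2 ≤ finrank F W) (B : AddSubgroup W)
    (hB : ∀ (ψ : Dual F W) (u : W), ψ u = 0 →
      B.map (LinearMap.transvection ψ u).toAddMonoidHom = B ∨
      B.map (LinearMap.transvection ψ u).toAddMonoidHom ⊔ B = ⊤) :
    B = ⊥ ∨ B = ⊤ ∨ (Nat.card W ≤ Fintype.card F * Nat.card B ∧
      (Nat.card W = Fintype.card F * Nat.card B → ∃ U : Submodule F W, U.toAddSubgroup = B)) := by
  classical
  have hWfin : Finite W := Module.finite_of_finite F
  -- a vector outside a given line
  have hout : ∀ b : W, ∃ w₀ : W, w₀ ∉ Submodule.span F ({b} : Set W) := by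
    intro b
    by_contra hcon
    push Not at hcon
    have htop : Submodule.span F ({b} : Set W) = ⊤ := by
      rw [eq_top_iff]; intro x _; exact hcon x
    have h1 : finrank F (Submodule.span F ({b} : Set W)) ≤ 1 := by
      by_cases hb : b = 0
      · rw [hb, Submodule.span_zero_singleton, finrank_bot]; omega
      · rw [finrank_span_singleton hb]
    rw [htop, finrank_top] at h1
    omega
  by_cases hall : ∀ (ψ : Dual F W) (u : W), ψ u = 0 →
      B.map (LinearMap.transvection ψ u).toAddMonoidHom = B
  · -- all transvections stabilise `B`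
    by_cases hbot : B = ⊥
    · exact Or.inl hbot
    right; left
    obtain ⟨b, hbB, hb0⟩ : ∃ b ∈ B, b ≠ 0 := by
      by_contra hcon
      push Not at hcon
      exact hbot ((AddSubgroup.eq_bot_iff_forall B).mpr hcon)
    have hkey : ∀ w : W, w ∉ Submodule.span F ({b} : Set W) → w ∈ B := by
      intro w hw
      have hbw : b ∉ Submodule.span F ({w} : Set W) := by
        intro hmem
        obtain ⟨c, hc⟩ := Submodule.mem_span_singleton.mp hmem
        have hc0 : c ≠ 0 := by
          intro h0
          rw [h0, zero_smul] at hc
          exact hb0 hc.symm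
        apply hw
        rw [Submodule.mem_span_singleton]
        refine ⟨c⁻¹, ?_⟩
        rw [← hc, smul_smul, inv_mul_cancel₀ hc0, one_smul]
      obtain ⟨ψ, hψb, hψw⟩ := exists_sep b w hbw
      have h1 := tv_mem_map B ψ w hbB
      rw [hall ψ w hψw, hψb, one_smul] at h1
      have h2 := B.sub_mem h1 hbB
      rwa [add_sub_cancel_left] at h2
    obtain ⟨w₀, hw₀⟩ := hout b
    rw [eq_top_iff]
    intro w _
    by_cases hw : w ∈ Submodule.span F ({b} : Set W)
    · have h1 : w + w₀ ∉ Submodule.span F ({b} : Set W) := by
        intro hmem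
        apply hw₀
        have := Submodule.sub_mem _ hmem hw
        rwa [add_sub_cancel_left] at this
      have h2 := B.sub_mem (hkey _ h1) (hkey _ hw₀)
      rwa [add_sub_cancel_right] at h2
    · exact hkey w hw
  · -- some transvection moves `B`
    push Not at hall
    obtain ⟨ψ, u, hψu, hne⟩ := hall
    have hsup := (hB ψ u hψu).resolve_left hne
    right; right
    have hcardBF : Nat.card (B × F) = Fintype.card F * Nat.card B := by
      rw [Nat.card_prod, Nat.card_eq_fintype_card (α := F), mul_comm]
    refine ⟨?_, ?_⟩
    · rw [← hcardBF]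
      exact Nat.card_le_card_of_surjective _ (surj_of_sup_eq_top B ψ u hsup)
    · intro heq
      -- every line through a point of `B` lies in `B`
      have hline : ∀ b ∈ B, ∀ t : F, t • b ∈ B := by
        intro b hbB t
        by_cases hb0 : b = 0
        · rw [hb0, smul_zero]; exact B.zero_mem
        -- the transvections `1 + (c • b) ⊗ ψ'` stabilise `B`
        have hstab : ∀ ψ' : Dual F W, ψ' b = 0 → ∀ c : F,
            B.map (LinearMap.transvection ψ' (c • b)).toAddMonoidHom = B := by
          intro ψ' hψ'b c
          have h0 : ψ' (c • b) = 0 := by rw [map_smul, hψ'b, smul_zero]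
          refine (hB ψ' (c • b) h0).resolve_right ?_
          intro hsup'
          have hs := surj_of_sup_eq_top B ψ' (c • b) hsup'
          have hs2 : Function.Surjective (fun p : B × F => (p.1 : W) + p.2 • b) := by
            intro w
            obtain ⟨⟨b₁, s⟩, hw⟩ := hs w
            refine ⟨(b₁, s * c), ?_⟩
            simp only at hw ⊢
            rw [← hw, smul_smul]
          have hbij : Function.Bijective (fun p : B × F => (p.1 : W) + p.2 • b) :=
            (Nat.bijective_iff_surjective_and_card _).mpr ⟨hs2, by rw [hcardBF, heq]⟩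
          have h1 : (fun p : B × F => (p.1 : W) + p.2 • b) (⟨b, hbB⟩, 0) =
              (fun p : B × F => (p.1 : W) + p.2 • b) (0, 1) := by
            simp
          have h2 := hbij.1 h1
          have h3 : (0 : F) = 1 := congrArg Prod.snd h2
          exact zero_ne_one h3
        by_cases hex : ∃ ψ' : Dual F W, ψ' b = 0 ∧ ∃ b' ∈ B, ψ' b' ≠ 0
        · obtain ⟨ψ', hψ'b, b', hb'B, hb'⟩ := hex
          have h1 := tv_mem_map B ψ' ((ψ' b')⁻¹ • t • b) hb'B
          have h0 : (ψ' b')⁻¹ • t • b = ((ψ' b')⁻¹ * t) • b := by rw [smul_smul]
          rw [h0, hstab ψ' hψ'b, smul_smul, ← mul_assoc, mul_inv_cancel₀ hb', one_mul] at h1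
          have h2 := B.sub_mem h1 hb'B
          rwa [add_sub_cancel_left] at h2
        · push Not at hex
          -- `B` lies in the line `F b`
          have hBline : ∀ b' ∈ B, b' ∈ Submodule.span F ({b} : Set W) := by
            intro b' hb'B
            by_contra hnot
            obtain ⟨ψ', h1, h2⟩ := exists_sep b' b hnot
            have := hex ψ' h2 b' hb'B
            rw [h1] at this
            exact one_ne_zero this
          -- an injection `B → F`
          have hcoef : ∀ b' : B, ∃ c : F, c • b = (b' : W) := fun b' =>
            Submodule.mem_span_singleton.mp (hBline b' b'.2)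
          choose coef hcoefeq using hcoef
          have hinj : Function.Injective coef := by
            intro x y hxy
            apply Subtype.ext
            rw [← hcoefeq x, ← hcoefeq y, hxy]
          have hle : Nat.card B ≤ Fintype.card F := by
            rw [← Nat.card_eq_fintype_card]
            exact Nat.card_le_card_of_injective coef hinj
          have hWcard : Nat.card W = Fintype.card F ^ finrank F W := by
            rw [← Nat.card_eq_fintype_card (α := F)]
            exact Module.natCard_eq_pow_finrank
          have hq1 : 1 < Fintype.card F := Fintype.one_lt_card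
          have hge : Fintype.card F ≤ Nat.card B := by
            have h1 : Fintype.card F ^ 2 ≤ Fintype.card F ^ finrank F W :=
              Nat.pow_le_pow_right (by omega) hd
            rw [← hWcard, heq, pow_two] at h1
            exact Nat.le_of_mul_le_mul_left h1 (by omega)
          have hbij : Function.Bijective coef :=
            (Nat.bijective_iff_injective_and_card _).mpr
              ⟨hinj, by rw [Nat.card_eq_fintype_card (α := F)]; omega⟩
          obtain ⟨b', hb'⟩ := hbij.2 t
          rw [← hb', hcoefeq b']
          exact b'.2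
      exact ⟨{ carrier := B, add_mem' := B.add_mem, zero_mem' := B.zero_mem,
               smul_mem' := fun t b hb => hline b hb t }, rfl⟩

end Cfsg.Agent.Lib.Helper73_MI_S
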