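import Mathlib
import Cfsg.Agent.Lib.Helper72_MinIdxDefs
import Cfsg.Agent.Lib.Helper72_MI_R1BCore

/-!
# MI-R1B-SPAN and MI-R1B-3 modulo MI-FACT (helper84; packages of helper72's S2140 architecture)

`flag_span_of` and `R1_three_odd_of` are the package statements `flag_span` and `R1_three_odd`
with the exact factorization (X1) (`exists_axis_mul_mem` of MI-FACT) taken as a hypothesis `hX1`.
-/

set_option autoImplicit false

namespace Cfsg.Agent.Lib.Helper84_MI_R1Baux

open Module Cfsg.Agent.Lib.Helper72_MinIdxDefs Cfsg.Agent.Lib.Helper72_MI_R1BCore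

variable {F : Type*} [Field F] {V : Type*} [AddCommGroup V] [Module F V]

/-- a flag element whose axis part is a multiple of the centre is a transvection -/
theorem flag_same_center (φ α : Dual F V) (v : V) (c : F) (hv : φ v = 0) (hα : α v = 0) :
    tv φ (c • v) (by rw [map_smul, hv, smul_zero]) * tv α v hα =
      tv (c • φ + α) v (by
        rw [LinearMap.add_apply, LinearMap.smul_apply, hv, hα, smul_zero, add_zero]) := by
  apply SpecialLinearGroup.ext
  intro x
  simp only [mul_apply', tv_apply, map_add, map_smul, hv, add_zero,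
    LinearMap.add_apply, LinearMap.smul_apply, smul_eq_mul, zero_smul]
  module

theorem flag_span_of [Module.Finite F V]
    (H : Subgroup (SpecialLinearGroup F V))
    (hX1 : ∀ (φ : Dual F V), φ ≠ 0 → ∀ g : SpecialLinearGroup F V,
      ∃ (w : V) (h : φ w = 0), tv φ w h * g ∈ H)
    (hno : ∀ (φ : Dual F V) (w : V) (h : φ w = 0), tv φ w h ∈ H → tv φ w h = 1)
    (φ : Dual F V) (hφ : φ ≠ 0) (v v' : V) (hv : φ v = 0) (hv' : φ v' = 0)
    (hind : LinearIndependent F ![v, v']) (α' : Dual F V) (hα' : α' v' = 0) (hα'v : α' v = 0)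
    (w' : V) (hw' : φ w' = 0) (hmem : tv φ w' hw' * tv α' v' hα' ∈ H) :
    w' ∈ Submodule.span F {v, v'} := by
  by_contra hnot
  obtain ⟨α, hαw', hαmap⟩ := Submodule.exists_dual_map_eq_bot_of_notMem hnot inferInstance
  have hα_span : ∀ x ∈ Submodule.span F {v, v'}, α x = 0 := by
    intro x hx
    have : α x ∈ (Submodule.span F {v, v'}).map α := Submodule.mem_map_of_mem hx
    rw [hαmap] at this
    exact (Submodule.mem_bot F).mp this
  have hαv : α v = 0 := hα_span v (Submodule.subset_span (by simp))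
  have hαv' : α v' = 0 := hα_span v' (Submodule.subset_span (by simp))
  obtain ⟨w, hw, hmem2⟩ := hX1 φ hφ (tv α v hαv)
  have hcomm := two_flag_comm φ α α' v v' w w' hv hv' hαv hα' hαv' hα'v hw hw'
  have hin : tv φ (α w' • v - α' w • v') (by
      rw [map_sub, map_smul, map_smul, hv, hv', smul_zero, smul_zero, sub_zero]) ∈ H := by
    rw [← hcomm]
    exact H.mul_mem (H.mul_mem (H.mul_mem hmem2 hmem) (H.inv_mem hmem2)) (H.inv_mem hmem)
  have h1 := hno φ _ _ hin
  have h0 : α w' • v - α' w • v' = 0 :=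
    tv_injective hφ _ (map_zero φ) (h1.trans (tv_zero_right φ).symm)
  have := LinearIndependent.pair_iff.mp hind (α w') (-(α' w))
    (by rw [neg_smul, ← sub_eq_add_neg]; exact h0)
  exact hαw' this.1

theorem R1_three_odd_of [Fintype F] [Module.Finite F V] (hn : finrank F V = 3)
    (H : Subgroup (SpecialLinearGroup F V))
    (hX1 : ∀ (φ : Dual F V), φ ≠ 0 → ∀ g : SpecialLinearGroup F V,
      ∃ (w : V) (h : φ w = 0), tv φ w h * g ∈ H)
    (hno : ∀ (φ : Dual F V) (w : V) (h : φ w = 0), tv φ w h ∈ H → tv φ w h = 1) :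
    Odd (Fintype.card F) := by
  rw [← Nat.not_even_iff_odd]
  intro heven
  -- characteristic two
  have hchar : ringChar F = 2 :=
    FiniteField.even_card_iff_char_two.mpr (Nat.even_iff.mp heven)
  have h2 : (2 : F) = 0 := by
    have : CharP F 2 := by rw [← hchar]; exact ringChar.charP F
    exact_mod_cast CharP.cast_eq_zero F 2
  have hadd : ∀ x : V, x + x = 0 := by
    intro x
    rw [← two_smul F x, h2, zero_smul]
  -- a basis
  let b : Basis (Fin 3) F V := Module.finBasisOfFinrankEq F V hn
  have hφv : b.coord 0 (b 1) = 0 := by simp [Basis.coord_apply]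
  have hαv : b.coord 2 (b 1) = 0 := by simp [Basis.coord_apply]
  have hφ : b.coord 0 ≠ 0 := by
    intro h0
    have : b.coord 0 (b 0) = 1 := by simp [Basis.coord_apply]
    rw [h0] at this
    simp at this
  have hv0 : b 1 ≠ 0 := b.ne_zero 1
  obtain ⟨w, hw, hmem⟩ := hX1 (b.coord 0) hφ (tv (b.coord 2) (b 1) hαv)
  -- the square
  have hsq := flag_mul (b.coord 0) (b.coord 2) (b.coord 2) (b 1) w w hφv hαv hαv hw hw
  have hin : tv (b.coord 0) (b.coord 2 w • b 1) (by rw [map_smul, hφv, smul_zero]) ∈ H := by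
    have h1 : tv (b.coord 0) (b.coord 2 w • b 1) (by rw [map_smul, hφv, smul_zero]) =
        (tv (b.coord 0) w hw * tv (b.coord 2) (b 1) hαv) *
          (tv (b.coord 0) w hw * tv (b.coord 2) (b 1) hαv) := by
      rw [hsq]
      apply SpecialLinearGroup.ext
      intro x
      simp only [mul_apply', tv_apply, hadd w, zero_add, LinearMap.add_apply]
      have : b.coord 2 x + b.coord 2 x = 0 := by
        rw [← two_mul, h2, zero_mul]
      rw [this, zero_smul, add_zero]
    rw [h1]
    exact H.mul_mem hmem hmem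
  have h1 := hno _ _ _ hin
  have h0 : b.coord 2 w • b 1 = 0 :=
    tv_injective hφ _ (map_zero _) (h1.trans (tv_zero_right _).symm)
  have hαw : b.coord 2 w = 0 := (smul_eq_zero.mp h0).resolve_right hv0
  -- `w` is a multiple of `b 1`
  have hwc : w = b.coord 1 w • b 1 := by
    conv_lhs => rw [← b.sum_repr w]
    rw [Fin.sum_univ_three]
    have e0 : b.repr w 0 = 0 := hw
    have e2 : b.repr w 2 = 0 := hαw
    rw [e0, e2, zero_smul, zero_smul, zero_add, add_zero]
    rfl
  -- `x` is a transvection with centre `b 1`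
  have hc0 : (b.coord 1 w • b.coord 0 + b.coord 2) (b 1) = 0 := by
    rw [LinearMap.add_apply, LinearMap.smul_apply, hφv, hαv, smul_zero, add_zero]
  have hx : tv (b.coord 0) w hw * tv (b.coord 2) (b 1) hαv =
      tv (b.coord 1 w • b.coord 0 + b.coord 2) (b 1) hc0 := by
    rw [tv_congr hw rfl hwc]
    exact flag_same_center (b.coord 0) (b.coord 2) (b 1) (b.coord 1 w) hφv hαv
  rw [hx] at hmem
  have h3 := hno _ _ _ hmem
  have h4 : (tv (b.coord 1 w • b.coord 0 + b.coord 2) (b 1) hc0) (b 2) = b 2 := by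
    rw [h3]; rfl
  rw [tv_apply] at h4
  have h5 : (b.coord 1 w • b.coord 0 + b.coord 2) (b 2) = 1 := by
    simp [Basis.coord_apply]
  rw [h5, one_smul] at h4
  exact hv0 (by simpa using h4)

end Cfsg.Agent.Lib.Helper84_MI_R1Baux
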