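import Mathlib
import Cfsg.Agent.Lib.Helper72_MinIdxDefs
import Cfsg.Agent.Lib.Helper72_MI_R1BCore

/-!
# Auxiliary lemmas for the MI-R1B packages (helper8, for helper72's S2140 plan)
-/

set_option autoImplicit false

namespace Cfsg.Agent.Lib.Helper8_MI_R1BAux

open Module Cfsg.Agent.Lib.Helper72_MinIdxDefs Cfsg.Agent.Lib.Helper72_MI_R1BCore

variable {F : Type*} [Field F] {V : Type*} [AddCommGroup V] [Module F V]

/-- a transvection with nonzero centre which is trivial has zero functional -/
theorem eq_zero_of_tv_center_eq_one {β : Dual F V} {v : V} (hv : v ≠ 0) (h : β v = 0)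
    (h1 : tv β v h = 1) : β = 0 := by
  apply LinearMap.ext
  intro x
  have h2 : (tv β v h) x = (1 : SpecialLinearGroup F V) x := by rw [h1]
  rw [tv_apply, one_apply'] at h2
  have h3 : β x • v = 0 := by
    have := add_left_cancel (a := x) (b := β x • v) (c := 0) (by rw [add_zero]; exact h2)
    exact this
  rcases smul_eq_zero.1 h3 with h4 | h4
  · exact h4
  · exact absurd h4 hv

/-- a transvection with nonzero functional which is trivial has zero vector -/
theorem eq_zero_of_tv_axis_eq_one {φ : Dual F V} (hφ : φ ≠ 0) {w : V} (h : φ w = 0)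
    (h1 : tv φ w h = 1) : w = 0 := by
  apply tv_injective hφ h (map_zero φ)
  rw [h1, tv_zero_right]

/-- quotient of two transvections with the same centre -/
theorem tv_center_inv_mul (α β : Dual F V) (v : V) (hα : α v = 0) (hβ : β v = 0) :
    (tv α v hα)⁻¹ * tv β v hβ =
      tv (β - α) v (by rw [LinearMap.sub_apply, hα, hβ, sub_zero]) := by
  rw [inv_mul_eq_iff_eq_mul, tv_mul_same_center]
  exact tv_congr _ (by abel) rfl

theorem exists_dual_ne_zero [Module.Finite F V] (hn : 1 ≤ finrank F V) :
    ∃ φ : Dual F V, φ ≠ 0 := by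
  have h1 : 0 < finrank F (Dual F V) := by rw [Subspace.dual_finrank_eq]; omega
  have : Nontrivial (Dual F V) := Module.nontrivial_of_finrank_pos h1
  exact exists_ne 0

/-- a second independent vector inside a subspace of dimension `> 1` -/
theorem exists_pair_in [Module.Finite F V] (S : Submodule F V) (hS : 1 < finrank F S) {x : V}
    (hxS : x ∈ S) (hx : x ≠ 0) : ∃ y ∈ S, LinearIndependent F ![x, y] := by
  have hx' : (⟨x, hxS⟩ : S) ≠ 0 := by
    intro h
    exact hx (congrArg Subtype.val h)
  obtain ⟨y, hy⟩ := exists_linearIndependent_pair_of_one_lt_finrank hS hx'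
  refine ⟨y.1, y.2, ?_⟩
  have h2 := hy.map' S.subtype (Submodule.ker_subtype S)
  have h3 : (⇑S.subtype ∘ ![⟨x, hxS⟩, y]) = ![x, y.1] := by
    funext i
    fin_cases i <;> rfl
  rw [h3] at h2
  exact h2

/-- a nonzero vector in a subspace of positive dimension -/
theorem exists_ne_zero_in [Module.Finite F V] (S : Submodule F V) (hS : 0 < finrank F S) :
    ∃ x ∈ S, x ≠ 0 := by
  have : Nontrivial S := Module.nontrivial_of_finrank_pos hS
  obtain ⟨x, hx⟩ := exists_ne (0 : S)
  refine ⟨x.1, x.2, ?_⟩
  intro h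
  exact hx (Subtype.ext h)

theorem mem_span_pair_of {v v' x : V} {a b : F} (h : x = a • v + b • v') :
    x ∈ Submodule.span F {v, v'} := by
  rw [Submodule.mem_span_pair]
  exact ⟨a, b, h.symm⟩

end Cfsg.Agent.Lib.Helper8_MI_R1BAux
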