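import Mathlib
import Cfsg.Agent.Lib.Helper72_MinIdxDefs
import Cfsg.Agent.Lib.Helper72_MI_R1BCore
import Cfsg.Agent.Lib.Helper8_MI_R1BAux

/-!
# MI-R1B-4, core (helper8, for helper72's S2140 plan)

`R1_four_even_of`: the statement of MI-R1B-4 with the conclusions of MI-FACT (`exists_axis_mul_mem`,
`exists_mul_center_mem`) and MI-R1B-SPAN (`flag_span`) as hypotheses.
-/

set_option autoImplicit false
set_option linter.unusedVariables false

namespace Cfsg.Agent.Lib.Helper8_MI_R1B_4core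

open Module Cfsg.Agent.Lib.Helper72_MinIdxDefs Cfsg.Agent.Lib.Helper72_MI_R1BCore
  Cfsg.Agent.Lib.Helper8_MI_R1BAux

variable {F : Type*} [Field F] {V : Type*} [AddCommGroup V] [Module F V]

theorem R1_four_even_of [Fintype F] [Module.Finite F V] (hn : finrank F V = 4)
    (H : Subgroup (SpecialLinearGroup F V))
    (hno : ∀ (φ : Dual F V) (w : V) (h : φ w = 0), tv φ w h ∈ H → tv φ w h = 1)
    (hX1 : ∀ (φ : Dual F V), φ ≠ 0 → ∀ g : SpecialLinearGroup F V,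
      ∃ (w : V) (h : φ w = 0), tv φ w h * g ∈ H)
    (hX2 : ∀ (v : V), v ≠ 0 → ∀ g : SpecialLinearGroup F V,
      ∃ (α : Dual F V) (h : α v = 0), g * tv α v h ∈ H)
    (hspan : ∀ (φ : Dual F V), φ ≠ 0 → ∀ (v v' : V) (hv : φ v = 0) (hv' : φ v' = 0),
      LinearIndependent F ![v, v'] → ∀ (α' : Dual F V) (hα' : α' v' = 0) (hα'v : α' v = 0)
      (w' : V) (hw' : φ w' = 0), tv φ w' hw' * tv α' v' hα' ∈ H →
      w' ∈ Submodule.span F {v, v'}) :
    Even (Fintype.card F) := by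
  classical
  by_contra hodd
  have h2F : (2 : F) ≠ 0 := by
    apply Ring.two_ne_zero
    intro hchar
    apply hodd
    rw [Nat.even_iff]
    exact FiniteField.even_card_of_char_two hchar
  obtain ⟨φ, hφ⟩ := exists_dual_ne_zero (F := F) (V := V) (by omega)
  have hker : finrank F (LinearMap.ker φ) + 1 = finrank F V :=
    Module.Dual.finrank_ker_add_one_of_ne_zero hφ
  obtain ⟨v', hv'k, hv'0⟩ := exists_ne_zero_in (LinearMap.ker φ) (by omega)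
  have hv' : φ v' = 0 := hv'k
  -- the claim
  have hclaim : ∀ (α' : Dual F V) (hα' : α' v' = 0) (w' : V) (hw' : φ w' = 0),
      tv φ w' hw' * tv α' v' hα' ∈ H → α' w' = 0 := by
    intro α' hα' w' hw' hmem
    have hdim : 1 < finrank F ↥(LinearMap.ker α' ⊓ LinearMap.ker φ) := by
      have h1 := Submodule.finrank_sup_add_finrank_inf_eq (LinearMap.ker α') (LinearMap.ker φ)
      have h2 : finrank F ↥(LinearMap.ker α' ⊔ LinearMap.ker φ) ≤ finrank F V :=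
        Submodule.finrank_le _
      have h3 : 3 ≤ finrank F (LinearMap.ker α') := by
        by_cases hα0 : α' = 0
        · subst hα0
          rw [LinearMap.ker_zero, finrank_top]; omega
        · have := Module.Dual.finrank_ker_add_one_of_ne_zero hα0
          omega
      omega
    obtain ⟨v, hvS, hind'⟩ := exists_pair_in _ hdim
      (show v' ∈ LinearMap.ker α' ⊓ LinearMap.ker φ from ⟨hα', hv'⟩) hv'0
    have hind : LinearIndependent F ![v, v'] := by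
      have h1 := hind'.comp ![(1 : Fin 2), 0] (by decide)
      have h2 : (![v', v] ∘ ![(1 : Fin 2), 0]) = ![v, v'] := by
        funext i
        fin_cases i <;> rfl
      rw [h2] at h1
      exact h1
    have hα'v : α' v = 0 := hvS.1
    have hv : φ v = 0 := hvS.2
    have h4 := hspan φ hφ v v' hv hv' hind α' hα' hα'v w' hw' hmem
    obtain ⟨a, b, hab⟩ := Submodule.mem_span_pair.1 h4
    rw [← hab, map_add, map_smul, map_smul, hα'v, hα', smul_zero, smul_zero, add_zero]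
  -- symmetry
  have hsym : ∀ (α₁ : Dual F V) (hα₁ : α₁ v' = 0) (w₁ : V) (hw₁ : φ w₁ = 0)
      (α₂ : Dual F V) (hα₂ : α₂ v' = 0) (w₂ : V) (hw₂ : φ w₂ = 0),
      tv φ w₁ hw₁ * tv α₁ v' hα₁ ∈ H → tv φ w₂ hw₂ * tv α₂ v' hα₂ ∈ H → α₁ w₂ = α₂ w₁ := by
    intro α₁ hα₁ w₁ hw₁ α₂ hα₂ w₂ hw₂ h1 h2
    have h3 : (tv φ w₁ hw₁ * tv α₁ v' hα₁) * (tv φ w₂ hw₂ * tv α₂ v' hα₂) *
        (tv φ w₁ hw₁ * tv α₁ v' hα₁)⁻¹ * (tv φ w₂ hw₂ * tv α₂ v' hα₂)⁻¹ ∈ H :=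
      H.mul_mem (H.mul_mem (H.mul_mem h1 h2) (H.inv_mem h1)) (H.inv_mem h2)
    rw [flag_comm φ α₁ α₂ v' w₁ w₂ hv' hα₁ hα₂ hw₁ hw₂] at h3
    have h4 := eq_zero_of_tv_axis_eq_one hφ _ (hno _ _ _ h3)
    rcases smul_eq_zero.1 h4 with h5 | h5
    · exact sub_eq_zero.1 h5
    · exact absurd h5 hv'0
  -- polarisation
  have hpol : ∀ (α₁ : Dual F V) (hα₁ : α₁ v' = 0) (w₁ : V) (hw₁ : φ w₁ = 0)
      (α₂ : Dual F V) (hα₂ : α₂ v' = 0) (w₂ : V) (hw₂ : φ w₂ = 0),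
      tv φ w₁ hw₁ * tv α₁ v' hα₁ ∈ H → tv φ w₂ hw₂ * tv α₂ v' hα₂ ∈ H → α₁ w₂ = 0 := by
    intro α₁ hα₁ w₁ hw₁ α₂ hα₂ w₂ hw₂ h1 h2
    have h3 : (tv φ w₁ hw₁ * tv α₁ v' hα₁) * (tv φ w₂ hw₂ * tv α₂ v' hα₂) ∈ H := H.mul_mem h1 h2
    rw [flag_mul φ α₁ α₂ v' w₁ w₂ hv' hα₁ hα₂ hw₁ hw₂] at h3
    have h4 := hclaim _ _ _ _ h3
    have h5 := hclaim _ _ _ _ h1
    have h6 := hclaim _ _ _ _ h2
    have h7 := hsym α₁ hα₁ w₁ hw₁ α₂ hα₂ w₂ hw₂ h1 h2
    simp only [LinearMap.add_apply, map_add, map_smul, hα₁, hα₂, smul_zero, add_zero, h5, h6,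
      zero_add] at h4
    rw [← h7] at h4
    have h8 : (2 : F) * α₁ w₂ = 0 := by rw [two_mul]; exact h4
    rcases mul_eq_zero.1 h8 with h9 | h9
    · exact absurd h9 h2F
    · exact h9
  -- the contradiction
  obtain ⟨w₂, hw₂k, hind₂⟩ := exists_pair_in (LinearMap.ker φ) (by omega) hv'k hv'0
  have hw₂ : φ w₂ = 0 := hw₂k
  have hw₂notin : w₂ ∉ Submodule.span F {v'} := by
    intro hmem
    obtain ⟨c, hc⟩ := Submodule.mem_span_singleton.1 hmem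
    have h1 := (LinearIndependent.pair_iff.1 hind₂) c (-1) (by rw [hc]; simp)
    have := h1.2
    simp at this
  obtain ⟨α₁, hα₁w, hα₁span⟩ := Submodule.exists_dual_map_eq_bot_of_notMem hw₂notin inferInstance
  have hα₁ : α₁ v' = 0 := by
    have h1 : α₁ v' ∈ (Submodule.span F {v'}).map α₁ :=
      ⟨v', Submodule.subset_span (by simp), rfl⟩
    rw [hα₁span] at h1
    exact (Submodule.mem_bot F).1 h1
  obtain ⟨w₁, hw₁, hmem₁⟩ := hX1 φ hφ (tv α₁ v' hα₁)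
  obtain ⟨α₂, hα₂, hmem₂⟩ := hX2 v' hv'0 (tv φ w₂ hw₂)
  exact hα₁w (hpol α₁ hα₁ w₁ hw₁ α₂ hα₂ w₂ hw₂ hmem₁ hmem₂)

end Cfsg.Agent.Lib.Helper8_MI_R1B_4core
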