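import Mathlib
import Cfsg.Agent.Lib.Helper72_MinIdxDefs
import Cfsg.Agent.Lib.Helper72_MI_R1BCore
import Cfsg.Agent.Lib.Helper8_MI_R1BAux

/-!
# MI-R1B-5, core (helper8, for helper72's S2140 plan)

`R1_le_four_of`: the statement of MI-R1B-5 with the conclusions of MI-FACT (`exists_axis_mul_mem`) and
MI-R1B-SPAN (`flag_span`) as hypotheses.
-/

set_option autoImplicit false
set_option linter.unusedVariables false

namespace Cfsg.Agent.Lib.Helper8_MI_R1B_5core

open Module Cfsg.Agent.Lib.Helper72_MinIdxDefs Cfsg.Agent.Lib.Helper72_MI_R1BCore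
  Cfsg.Agent.Lib.Helper8_MI_R1BAux

variable {F : Type*} [Field F] {V : Type*} [AddCommGroup V] [Module F V]

theorem R1_le_four_of [Fintype F] [Module.Finite F V] (hn : 3 ≤ finrank F V)
    (H : Subgroup (SpecialLinearGroup F V))
    (hno : ∀ (φ : Dual F V) (w : V) (h : φ w = 0), tv φ w h ∈ H → tv φ w h = 1)
    (hX1 : ∀ (φ : Dual F V), φ ≠ 0 → ∀ g : SpecialLinearGroup F V,
      ∃ (w : V) (h : φ w = 0), tv φ w h * g ∈ H)
    (hspan : ∀ (φ : Dual F V), φ ≠ 0 → ∀ (v v' : V) (hv : φ v = 0) (hv' : φ v' = 0),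
      LinearIndependent F ![v, v'] → ∀ (α' : Dual F V) (hα' : α' v' = 0) (hα'v : α' v = 0)
      (w' : V) (hw' : φ w' = 0), tv φ w' hw' * tv α' v' hα' ∈ H →
      w' ∈ Submodule.span F {v, v'}) :
    finrank F V ≤ 4 := by
  classical
  obtain ⟨φ, hφ⟩ := exists_dual_ne_zero (F := F) (V := V) (by omega)
  have hker : finrank F (LinearMap.ker φ) + 1 = finrank F V :=
    Module.Dual.finrank_ker_add_one_of_ne_zero hφ
  obtain ⟨v, hvk, hv0⟩ := exists_ne_zero_in (LinearMap.ker φ) (by omega)
  obtain ⟨v', hv'k, hind⟩ := exists_pair_in (LinearMap.ker φ) (by omega) hvk hv0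
  have hv : φ v = 0 := hvk
  have hv' : φ v' = 0 := hv'k
  have hv'0 : v' ≠ 0 := by
    have := hind.ne_zero 1
    simpa using this
  -- the annihilator of `span {v, v'}`
  obtain ⟨S, hS⟩ : ∃ S : Submodule F V, S = Submodule.span F {v, v'} := ⟨_, rfl⟩
  have hSrank : finrank F S = 2 := by
    have h1 := finrank_span_eq_card hind
    have h2 : Set.range ![v, v'] = {v, v'} := by
      ext x
      simp only [Set.mem_range, Set.mem_insert_iff, Set.mem_singleton_iff]
      constructor
      · rintro ⟨i, rfl⟩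
        fin_cases i
        · left; rfl
        · right; rfl
      · rintro (rfl | rfl)
        · exact ⟨0, rfl⟩
        · exact ⟨1, rfl⟩
    rw [h2, ← hS] at h1
    rw [h1]; rfl
  have hYrank : finrank F S + finrank F S.dualAnnihilator = finrank F V :=
    Subspace.finrank_add_finrank_dualAnnihilator_eq S
  have hYmem : ∀ α : S.dualAnnihilator, (α : Dual F V) v = 0 ∧ (α : Dual F V) v' = 0 := by
    intro α
    have h1 := (Submodule.mem_dualAnnihilator _).1 α.2
    exact ⟨h1 v (by rw [hS]; exact Submodule.subset_span (by simp)),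
      h1 v' (by rw [hS]; exact Submodule.subset_span (by simp))⟩
  -- the choice function
  have hch : ∀ α : S.dualAnnihilator, ∃ w : S, ∃ (hw : φ (w : V) = 0),
      tv φ (w : V) hw * tv (α : Dual F V) v' (hYmem α).2 ∈ H := by
    intro α
    obtain ⟨w, hw, hmem⟩ := hX1 φ hφ (tv (α : Dual F V) v' (hYmem α).2)
    have hwS : w ∈ S := by
      rw [hS]
      exact hspan φ hφ v v' hv hv' hind (α : Dual F V) (hYmem α).2 (hYmem α).1 w hw hmem
    exact ⟨⟨w, hwS⟩, hw, hmem⟩
  choose f hf hfmem using hch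
  have hinj : Function.Injective f := by
    intro α β hαβ
    have h1 := hfmem α
    have h2 := hfmem β
    have h3 : tv φ (f β : V) (hf β) = tv φ (f α : V) (hf α) :=
      tv_congr _ rfl (by rw [hαβ])
    rw [h3] at h2
    have h4 : (tv φ (f α : V) (hf α) * tv (α : Dual F V) v' (hYmem α).2)⁻¹ *
        (tv φ (f α : V) (hf α) * tv (β : Dual F V) v' (hYmem β).2) ∈ H :=
      H.mul_mem (H.inv_mem h1) h2
    rw [mul_inv_rev, mul_assoc, inv_mul_cancel_left, tv_center_inv_mul] at h4
    have h5 := hno _ _ _ h4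
    have h6 := eq_zero_of_tv_center_eq_one hv'0 _ h5
    apply Subtype.ext
    exact (sub_eq_zero.1 h6).symm
  -- counting
  have hfinV : Finite V := Module.finite_of_finite F
  have hfinS : Finite S := Finite.of_injective (fun x : S => (x : V)) Subtype.val_injective
  have hcard := Nat.card_le_card_of_injective f hinj
  rw [Module.natCard_eq_pow_finrank (K := F), Module.natCard_eq_pow_finrank (K := F) (V := S),
    hSrank] at hcard
  have hq : 1 < Nat.card F := by
    rw [Nat.card_eq_fintype_card]; exact Fintype.one_lt_card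
  have h7 : finrank F S.dualAnnihilator ≤ 2 := (Nat.pow_le_pow_iff_right hq).1 hcard
  omega

end Cfsg.Agent.Lib.Helper8_MI_R1B_5core
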