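import Mathlib
import Cfsg.Agent.Lib.Helper72_MinIdxDefs
import Cfsg.Agent.Lib.Helper72_MI_R1BCore
import Cfsg.Agent.Lib.Helper5_MI_GEN
import Cfsg.Agent.Lib.Helper35_MI_A
import Cfsg.Agent.Lib.Helper24_MI_IDX
import Cfsg.Agent.Lib.Helper47_MI_CARD
import Cfsg.Agent.Lib.Helper47_MI_FACT
import Cfsg.Agent.Lib.Helper47_MI_AX
import Cfsg.Agent.Lib.Helper59_MI_CONJ
import Cfsg.Agent.Lib.Helper59_MI_R2
import Cfsg.Agent.Lib.Helper73_MI_S
import Cfsg.Agent.Lib.Helper73_MI_O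
import Cfsg.Agent.Lib.Helper58_MI_R1Acore
import Cfsg.Agent.Lib.Helper84_MI_R1Baux
import Cfsg.Agent.Lib.Helper8_MI_R1B_4core
import Cfsg.Agent.Lib.Helper8_MI_R1B_5core

set_option autoImplicit false

/-!
Glue for S2140: the MI package statements (pending/helper72/MI_packages.lean.txt), collected from
the formalizers' libraries (helper5, helper35, helper24, helper47, helper59, helper73, helper58,
helper84, helper8).
-/

namespace Cfsg.Agent.Lib.Helper72_MI_Glue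

open Module Cfsg.Agent.Lib.Helper72_MinIdxDefs Cfsg.Agent.Lib.Helper72_MI_R1BCore

variable {F : Type*} [Field F] {V : Type*} [AddCommGroup V] [Module F V]

theorem exists_invariant_of_axisGrp_le [Module.Finite F V]
    (H : Subgroup (SpecialLinearGroup F V)) (hH : H ≠ ⊤)
    (φ : Dual F V) (hφ : φ ≠ 0) (h : axisGrp φ ≤ H) :
    ∃ U : Submodule F V, U ≠ ⊥ ∧ U ≠ ⊤ ∧ ∀ g ∈ H, ∀ x ∈ U, g x ∈ U :=
  Cfsg.Agent.Lib.Helper35_MI_A.exists_invariant_of_axisGrp_le H hH φ hφ h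

theorem Npts_le_index_of_invariant [Fintype F] [Module.Finite F V]
    (H : Subgroup (SpecialLinearGroup F V)) (U : Submodule F V) (hU0 : U ≠ ⊥) (hU1 : U ≠ ⊤)
    (hH : ∀ g ∈ H, ∀ x ∈ U, g x ∈ U) :
    Npts (Fintype.card F) (finrank F V) ≤ H.index :=
  Cfsg.Agent.Lib.Helper24_MI_IDX.Npts_le_index_of_invariant H U hU0 hU1 hH

theorem tv_conj_same_axis [Module.Finite F V] (hn : 3 ≤ finrank F V) (φ : Dual F V) (w w' : V)
    (h : φ w = 0) (h' : φ w' = 0) (hw : w ≠ 0) (hw' : w' ≠ 0) :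
    ∃ g : SpecialLinearGroup F V, g * tv φ w h * g⁻¹ = tv φ w' h' :=
  Cfsg.Agent.Lib.Helper59_MI_CONJ.tv_conj_same_axis hn φ w w' h h' hw hw'

theorem lemmaO {A Ω : Type*} [Group A] [Finite A] [Finite Ω] [Nonempty Ω] [MulAction A Ω]
    (hcomm : ∀ a b : A, a * b = b * a) (p : ℕ) [Fact p.Prime] (hA : IsPGroup p A)
    (hfix : ∀ ω : Ω, MulAction.stabilizer A ω ≠ ⊤)
    (r : ℕ) (hr : ∀ a : A, a ≠ 1 → Nat.card (MulAction.fixedBy Ω a) = r)
    (hm : Nat.card Ω < 2 * Nat.card A) :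
    Nat.card Ω + 1 = Nat.card (MulAction.orbitRel.Quotient A Ω) + Nat.card A ∧
    ∀ ω ω' : Ω, MulAction.orbit A ω ≠ MulAction.orbit A ω' →
      MulAction.stabilizer A ω ⊔ MulAction.stabilizer A ω' = ⊤ :=
  Cfsg.Agent.Lib.Helper73_MI_O.lemmaO hcomm p hA hfix r hr hm

theorem lemmaS [Fintype F] {W : Type*} [AddCommGroup W] [Module F W] [Module.Finite F W]
    (hd : 2 ≤ finrank F W) (B : AddSubgroup W)
    (hB : ∀ (ψ : Dual F W) (u : W), ψ u = 0 →
      B.map (LinearMap.transvection ψ u).toAddMonoidHom = B ∨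
      B.map (LinearMap.transvection ψ u).toAddMonoidHom ⊔ B = ⊤) :
    B = ⊥ ∨ B = ⊤ ∨ (Nat.card W ≤ Fintype.card F * Nat.card B ∧
      (Nat.card W = Fintype.card F * Nat.card B → ∃ U : Submodule F W, U.toAddSubgroup = B)) :=
  Cfsg.Agent.Lib.Helper73_MI_S.lemmaS hd B hB

theorem R2_false [Module.Finite F V] (hn : 3 ≤ finrank F V)
    (H : Subgroup (SpecialLinearGroup F V))
    (hR2 : ∀ φ : Dual F V, φ ≠ 0 → ∃ U : Submodule F V, U ≤ LinearMap.ker φ ∧
      finrank F U + 2 = finrank F V ∧ ∀ (w : V) (h : φ w = 0), tv φ w h ∈ H ↔ w ∈ U) :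
    False :=
  Cfsg.Agent.Lib.Helper59_MI_R2.R2_false hn H hR2

theorem exists_axis_mul_mem [Fintype F] [Module.Finite F V]
    (H : Subgroup (SpecialLinearGroup F V))
    (hidx : H.index = Fintype.card F ^ (finrank F V - 1))
    (hno : ∀ (φ : Dual F V) (w : V) (h : φ w = 0), tv φ w h ∈ H → tv φ w h = 1)
    (φ : Dual F V) (hφ : φ ≠ 0) (g : SpecialLinearGroup F V) :
    ∃ (w : V) (h : φ w = 0), tv φ w h * g ∈ H :=
  Cfsg.Agent.Lib.Helper47_MI_FACT.exists_axis_mul_mem H hidx hno φ hφ g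

theorem exists_mul_center_mem [Fintype F] [Module.Finite F V]
    (H : Subgroup (SpecialLinearGroup F V))
    (hidx : H.index = Fintype.card F ^ (finrank F V - 1))
    (hno : ∀ (φ : Dual F V) (w : V) (h : φ w = 0), tv φ w h ∈ H → tv φ w h = 1)
    (v : V) (hv : v ≠ 0) (g : SpecialLinearGroup F V) :
    ∃ (α : Dual F V) (h : α v = 0), g * tv α v h ∈ H :=
  Cfsg.Agent.Lib.Helper47_MI_FACT.exists_mul_center_mem H hidx hno v hv g

theorem mem_axisGrp_of_fix [Module.Finite F V] (φ : Dual F V) (hφ : φ ≠ 0)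
    (g : SpecialLinearGroup F V) (hg : ∀ x : V, φ x = 0 → g x = x) : g ∈ axisGrp φ :=
  Cfsg.Agent.Lib.Helper47_MI_AX.mem_axisGrp_of_fix φ hφ g hg

theorem R1_dvd [Fintype F] [Module.Finite F V] (hn : 3 ≤ finrank F V)
    (H : Subgroup (SpecialLinearGroup F V))
    (hidx : H.index = Fintype.card F ^ (finrank F V - 1))
    (hno : ∀ (φ : Dual F V) (w : V) (h : φ w = 0), tv φ w h ∈ H → tv φ w h = 1) :
    (Fintype.card F - 1) ∣ finrank F V :=
  Cfsg.Agent.Lib.Helper58_MI_R1Acore.R1_dvd_of hn H hno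
    (fun φ hφ g => exists_axis_mul_mem H hidx hno φ hφ g)
    (fun φ hφ g hg => mem_axisGrp_of_fix φ hφ g hg)

theorem flag_span [Fintype F] [Module.Finite F V]
    (H : Subgroup (SpecialLinearGroup F V))
    (hidx : H.index = Fintype.card F ^ (finrank F V - 1))
    (hno : ∀ (φ : Dual F V) (w : V) (h : φ w = 0), tv φ w h ∈ H → tv φ w h = 1)
    (φ : Dual F V) (hφ : φ ≠ 0) (v v' : V) (hv : φ v = 0) (hv' : φ v' = 0)
    (hind : LinearIndependent F ![v, v']) (α' : Dual F V) (hα' : α' v' = 0) (hα'v : α' v = 0)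
    (w' : V) (hw' : φ w' = 0) (hmem : tv φ w' hw' * tv α' v' hα' ∈ H) :
    w' ∈ Submodule.span F {v, v'} :=
  Cfsg.Agent.Lib.Helper84_MI_R1Baux.flag_span_of H
    (fun φ hφ g => exists_axis_mul_mem H hidx hno φ hφ g) hno φ hφ v v' hv hv' hind α' hα' hα'v
    w' hw' hmem

theorem R1_le_four [Fintype F] [Module.Finite F V] (hn : 3 ≤ finrank F V)
    (H : Subgroup (SpecialLinearGroup F V))
    (hidx : H.index = Fintype.card F ^ (finrank F V - 1))
    (hno : ∀ (φ : Dual F V) (w : V) (h : φ w = 0), tv φ w h ∈ H → tv φ w h = 1) :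
    finrank F V ≤ 4 :=
  Cfsg.Agent.Lib.Helper8_MI_R1B_5core.R1_le_four_of hn H hno
    (fun φ hφ g => exists_axis_mul_mem H hidx hno φ hφ g)
    (fun φ hφ v v' hv hv' hind α' hα' hα'v w' hw' hmem =>
      flag_span H hidx hno φ hφ v v' hv hv' hind α' hα' hα'v w' hw' hmem)

theorem R1_four_even [Fintype F] [Module.Finite F V] (hn : finrank F V = 4)
    (H : Subgroup (SpecialLinearGroup F V))
    (hidx : H.index = Fintype.card F ^ (finrank F V - 1))
    (hno : ∀ (φ : Dual F V) (w : V) (h : φ w = 0), tv φ w h ∈ H → tv φ w h = 1) :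
    Even (Fintype.card F) :=
  Cfsg.Agent.Lib.Helper8_MI_R1B_4core.R1_four_even_of hn H hno
    (fun φ hφ g => exists_axis_mul_mem H hidx hno φ hφ g)
    (fun v hv g => exists_mul_center_mem H hidx hno v hv g)
    (fun φ hφ v v' hv hv' hind α' hα' hα'v w' hw' hmem =>
      flag_span H hidx hno φ hφ v v' hv hv' hind α' hα' hα'v w' hw' hmem)

theorem R1_three_odd [Fintype F] [Module.Finite F V] (hn : finrank F V = 3)
    (H : Subgroup (SpecialLinearGroup F V))
    (hidx : H.index = Fintype.card F ^ (finrank F V - 1))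
    (hno : ∀ (φ : Dual F V) (w : V) (h : φ w = 0), tv φ w h ∈ H → tv φ w h = 1) :
    Odd (Fintype.card F) :=
  Cfsg.Agent.Lib.Helper84_MI_R1Baux.R1_three_odd_of hn H
    (fun φ hφ g => exists_axis_mul_mem H hidx hno φ hφ g) hno

end Cfsg.Agent.Lib.Helper72_MI_Glue
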