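import Mathlib
import Cfsg.Agent.Lib.Helper72_MinIdxDefs
import Cfsg.Agent.Lib.Helper72_MI_Glue

set_option autoImplicit false
set_option linter.unusedSimpArgs false
set_option linter.unusedVariables false

/-! MI-TRI: the trichotomy for S2140. -/

namespace Cfsg.Agent.Lib.Helper72_MI_TRI

open Module Cfsg.Agent.Lib.Helper72_MinIdxDefs Cfsg.Agent.Lib.Helper72_MI_Glue

variable {F : Type*} [Field F] {V : Type*} [AddCommGroup V] [Module F V]

/-! ### arithmetic -/

theorem Npts_succ (q k : ℕ) : Npts q (k + 1) = Npts q k + q ^ k := Finset.sum_range_succ _ _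

theorem Npts_lt_pow (q k : ℕ) (hq : 2 ≤ q) : Npts q k < q ^ k := by
  induction k with
  | zero => simp [Npts]
  | succ k ih =>
    rw [Npts_succ, pow_succ]
    nlinarith [Nat.pow_pos (n := k) (by omega : 0 < q)]

theorem pred_mul_Npts (q k : ℕ) (hq : 1 ≤ q) : (q - 1) * Npts q k + 1 = q ^ k := by
  induction k with
  | zero => simp [Npts]
  | succ k ih =>
    rw [Npts_succ, pow_succ, mul_add]
    obtain ⟨c, rfl⟩ : ∃ c, q = c + 1 := ⟨q - 1, by omega⟩
    simp only [Nat.add_sub_cancel] at ih ⊢
    nlinarith [ih]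

/-! ### the action of `ker φ` on `G ⧸ H` -/

section action

variable (H : Subgroup (SpecialLinearGroup F V)) (φ : Dual F V)

/-- the action of (the multiplicative copy of) `ker φ` on `G ⧸ H` through `axisHom φ`. -/
@[reducible] noncomputable def axisAction :
    MulAction (Multiplicative (LinearMap.ker φ)) (SpecialLinearGroup F V ⧸ H) :=
  MulAction.compHom _ (axisHom φ)

attribute [local instance] axisAction

theorem axis_smul_def (a : Multiplicative (LinearMap.ker φ)) (ω : SpecialLinearGroup F V ⧸ H) :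
    a • ω = axisHom φ a • ω := rfl

/-- the stabilizer of `ω` as an additive subgroup of `ker φ`. -/
noncomputable def Bsub (ω : SpecialLinearGroup F V ⧸ H) : AddSubgroup (LinearMap.ker φ) :=
  Subgroup.toAddSubgroup' (MulAction.stabilizer (Multiplicative (LinearMap.ker φ)) ω)

theorem mem_Bsub {ω : SpecialLinearGroup F V ⧸ H} {w : LinearMap.ker φ} :
    w ∈ Bsub H φ ω ↔ tv φ w.1 (LinearMap.mem_ker.1 w.2) • ω = ω := by
  unfold Bsub
  rw [Subgroup.mem_toAddSubgroup', MulAction.mem_stabilizer_iff]
  rfl

/-- no fixed points. -/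
theorem Bsub_ne_top [Fintype F] [Module.Finite F V] (hH : H ≠ ⊤)
    (hlt : H.index < Npts (Fintype.card F) (finrank F V)) (hφ : φ ≠ 0)
    (ω : SpecialLinearGroup F V ⧸ H) : Bsub H φ ω ≠ ⊤ := by
  intro htop
  obtain ⟨g, rfl⟩ := QuotientGroup.mk_surjective ω
  set φ' : Dual F V := φ.comp g.1.toLinearMap with hφ'
  have hφ'app : ∀ x, φ' x = φ (g x) := fun x => rfl
  have hφ'0 : φ' ≠ 0 := by
    intro h0
    apply hφ
    ext x
    have := hφ'app (g⁻¹ x)
    rw [apply_inv_self', h0] at this
    simpa using this.symm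
  have hle : axisGrp φ' ≤ H := by
    rintro _ ⟨w', hw', rfl⟩
    have hgw : φ (g w') = 0 := hw'
    have hmem : (⟨g w', LinearMap.mem_ker.2 hgw⟩ : LinearMap.ker φ) ∈ Bsub H φ (QuotientGroup.mk g) := by
      rw [htop]; trivial
    rw [mem_Bsub] at hmem
    have h1 : tv φ (g w') hgw • (QuotientGroup.mk g : SpecialLinearGroup F V ⧸ H) =
        QuotientGroup.mk (tv φ (g w') hgw * g) := rfl
    rw [h1, QuotientGroup.eq] at hmem
    have hkey : g * tv φ' w' hw' = tv φ (g w') hgw * g := by
      apply SpecialLinearGroup.ext; intro x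
      simp only [mul_apply', tv_apply, map_add', map_smul', hφ'app]
    have h2 : (tv φ (g w') hgw * g)⁻¹ * g = (tv φ' w' hw')⁻¹ := by
      rw [← hkey, mul_inv_rev, inv_mul_cancel_right]
    rw [h2] at hmem
    exact (Subgroup.inv_mem_iff H).1 hmem
  obtain ⟨U, hU0, hU1, hU⟩ := exists_invariant_of_axisGrp_le H hH φ' hφ'0 hle
  have := Npts_le_index_of_invariant H U hU0 hU1 hU
  omega

/-- conjugation by a transvection `tv ψ u` with `u ∈ ker φ`. -/
theorem Bsub_smul_tv (ψ : Dual F V) (u : V) (hu : φ u = 0) (hψ : ψ u = 0)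
    (ω : SpecialLinearGroup F V ⧸ H) (w : LinearMap.ker φ) :
    w ∈ Bsub H φ (tv ψ u hψ • ω) ↔
      (⟨w.1 - ψ w.1 • u, by
        rw [LinearMap.mem_ker, map_sub, map_smul, hu, smul_zero, sub_zero]
        exact LinearMap.mem_ker.1 w.2⟩ : LinearMap.ker φ) ∈ Bsub H φ ω := by
  rw [mem_Bsub, mem_Bsub]
  have hw : φ w.1 = 0 := LinearMap.mem_ker.1 w.2
  have key : tv φ w.1 hw * tv ψ u hψ = tv ψ u hψ * tv φ (w.1 - ψ w.1 • u) (by
      rw [map_sub, map_smul, hu, smul_zero, sub_zero]; exact hw) := by
    apply SpecialLinearGroup.ext; intro x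
    simp only [mul_apply', tv_apply, map_add, map_smul, map_sub, hu, hψ, hw, smul_eq_mul,
      mul_zero, add_zero, smul_add, smul_sub, sub_zero, smul_zero, zero_smul, smul_smul]
    module
  rw [← mul_smul, key, mul_smul]
  constructor
  · intro h
    exact (smul_left_cancel _ h)
  · intro h
    rw [h]

/-- the image of `Bsub ω` under a transvection of `ker φ` is again some `Bsub ω'`. -/
theorem Bsub_map_transvection (ψ' : Dual F (LinearMap.ker φ)) (u : LinearMap.ker φ)
    (hψ' : ψ' u = 0) (ω : SpecialLinearGroup F V ⧸ H) :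
    ∃ g : SpecialLinearGroup F V,
      (Bsub H φ ω).map (LinearMap.transvection ψ' u).toAddMonoidHom = Bsub H φ (g • ω) := by
  obtain ⟨ψ, hψ⟩ := LinearMap.exists_extend ψ'
  have hψapp : ∀ x : LinearMap.ker φ, ψ x.1 = ψ' x := fun x => by
    rw [← hψ]; rfl
  have hu : φ u.1 = 0 := LinearMap.mem_ker.1 u.2
  have hψu : ψ u.1 = 0 := by rw [hψapp, hψ']
  refine ⟨tv ψ u.1 hψu, ?_⟩
  ext w
  rw [Bsub_smul_tv H φ ψ u.1 hu hψu ω w, AddSubgroup.mem_map]
  constructor
  · rintro ⟨b, hb, rfl⟩
    convert hb using 1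
    apply Subtype.ext
    simp only [LinearMap.toAddMonoidHom_coe, LinearMap.transvection.apply, Submodule.coe_add,
      Submodule.coe_smul, map_add, map_smul, hψu, smul_zero, add_zero, hψapp, smul_eq_mul,
      mul_zero]
    simp
  · intro hw
    refine ⟨_, hw, ?_⟩
    apply Subtype.ext
    simp only [LinearMap.toAddMonoidHom_coe, LinearMap.transvection.apply, Submodule.coe_add,
      Submodule.coe_smul, ← hψapp, map_sub, map_smul, hψu, smul_zero, sub_zero, smul_eq_mul,
      mul_zero]
    simp

theorem stabilizer_eq_of_mem_orbit {A Ω : Type*} [CommGroup A] [MulAction A Ω] {ω ω' : Ω}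
    (h : ω' ∈ MulAction.orbit A ω) : MulAction.stabilizer A ω' = MulAction.stabilizer A ω := by
  obtain ⟨a, rfl⟩ := h
  ext b
  simp only [MulAction.mem_stabilizer_iff]
  rw [← mul_smul, mul_comm, mul_smul]
  exact smul_left_cancel_iff a

theorem finrank_ker_dual [Module.Finite F V] {φ : Dual F V} (hφ : φ ≠ 0) :
    finrank F (LinearMap.ker φ) + 1 = finrank F V := by
  have h1 := LinearMap.finrank_range_add_finrank_ker φ
  have h2 : LinearMap.range φ = ⊤ := by
    obtain ⟨x, hx⟩ : ∃ x, φ x ≠ 0 := by
      by_contra hcon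
      exact hφ (LinearMap.ext fun x => by
        by_contra hx
        exact hcon ⟨x, hx⟩)
    rw [eq_top_iff]
    intro c _
    refine ⟨(c / φ x) • x, ?_⟩
    rw [map_smul, smul_eq_mul, div_mul_cancel₀ _ hx]
  rw [h2, finrank_top, finrank_self] at h1
  omega

end action

section main

attribute [local instance] axisAction

theorem trichotomy [Fintype F] [Module.Finite F V] (hn : 3 ≤ finrank F V)
    (H : Subgroup (SpecialLinearGroup F V)) (hH : H ≠ ⊤)
    (hlt : H.index < Npts (Fintype.card F) (finrank F V)) (φ : Dual F V) (hφ : φ ≠ 0) :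
    (H.index = Fintype.card F ^ (finrank F V - 1) ∧
        ∀ (w : V) (h : φ w = 0), tv φ w h ∈ H → w = 0) ∨
    (H.index + 1 = Npts (Fintype.card F) (finrank F V) ∧
        ∃ U : Submodule F V, U ≤ LinearMap.ker φ ∧ finrank F U + 2 = finrank F V ∧
          ∀ (w : V) (h : φ w = 0), tv φ w h ∈ H ↔ w ∈ U) := by
  classical
  have hq2 : 2 ≤ Fintype.card F := Fintype.one_lt_card
  haveI : Finite V := Module.finite_of_finite F
  haveI : Nonempty (SpecialLinearGroup F V ⧸ H) := ⟨QuotientGroup.mk 1⟩
  have hker := finrank_ker_dual hφ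
  have hcardW : Nat.card (LinearMap.ker φ) = Fintype.card F ^ (finrank F V - 1) := by
    rw [Module.natCard_eq_pow_finrank (K := F), Nat.card_eq_fintype_card]
    congr 1; omega
  have hcardA : Nat.card (Multiplicative (LinearMap.ker φ)) =
      Fintype.card F ^ (finrank F V - 1) := hcardW
  -- the prime
  obtain ⟨p, hp⟩ := CharP.exists F
  obtain ⟨k, hpp, hqk⟩ := FiniteField.card F p
  haveI : Fact p.Prime := ⟨hpp⟩
  have hA : IsPGroup p (Multiplicative (LinearMap.ker φ)) := by
    apply IsPGroup.of_card (n := k * (finrank F V - 1))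
    rw [hcardA, hqk, pow_mul]
  -- no fixed points
  have hfix : ∀ ω : SpecialLinearGroup F V ⧸ H,
      MulAction.stabilizer (Multiplicative (LinearMap.ker φ)) ω ≠ ⊤ := by
    intro ω h
    apply Bsub_ne_top H φ hH hlt hφ ω
    unfold Bsub
    rw [h, OrderIso.map_top]
  -- fixed point counts
  obtain ⟨w0, hw0⟩ : ∃ w0 : LinearMap.ker φ, w0 ≠ 0 := by
    have : 0 < finrank F (LinearMap.ker φ) := by omega
    exact Module.finrank_pos_iff_exists_ne_zero.1 this
  have hw0' : φ w0.1 = 0 := LinearMap.mem_ker.1 w0.2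
  have hw0ne : w0.1 ≠ 0 := fun h => hw0 (Subtype.ext h)
  have hr : ∀ a : Multiplicative (LinearMap.ker φ), a ≠ 1 →
      Nat.card (MulAction.fixedBy (SpecialLinearGroup F V ⧸ H) a) =
        Nat.card (MulAction.fixedBy (SpecialLinearGroup F V ⧸ H) (tv φ w0.1 hw0')) := by
    intro a ha
    have hane : (Multiplicative.toAdd a).1 ≠ 0 := by
      intro h
      apply ha
      have : Multiplicative.toAdd a = 0 := Subtype.ext h
      exact this
    obtain ⟨g, hg⟩ := tv_conj_same_axis hn φ w0.1 (Multiplicative.toAdd a).1 hw0'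
      (LinearMap.mem_ker.1 (Multiplicative.toAdd a).2) hw0ne hane
    have h1 : MulAction.fixedBy (SpecialLinearGroup F V ⧸ H) a =
        MulAction.fixedBy (SpecialLinearGroup F V ⧸ H) (axisHom φ a) := rfl
    rw [h1, axisHom_apply, ← hg, ← MulAction.smul_fixedBy]
    exact Nat.card_congr (Equiv.Set.image _ _ (MulAction.injective g)).symm
  have hm : Nat.card (SpecialLinearGroup F V ⧸ H) <
      2 * Nat.card (Multiplicative (LinearMap.ker φ)) := by
    rw [hcardA]
    have h1 : Nat.card (SpecialLinearGroup F V ⧸ H) = H.index := rfl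
    rw [h1]
    obtain ⟨n', hn'⟩ : ∃ n', finrank F V = n' + 1 := ⟨finrank F V - 1, by omega⟩
    rw [hn', Npts_succ] at hlt
    have := Npts_lt_pow (Fintype.card F) n' hq2
    rw [hn', Nat.add_sub_cancel]
    omega
  obtain ⟨hcount, hjoin⟩ := lemmaO (A := Multiplicative (LinearMap.ker φ))
    (Ω := SpecialLinearGroup F V ⧸ H) (fun a b => mul_comm a b) p hA hfix _ hr hm
  have hcardΩ : Nat.card (SpecialLinearGroup F V ⧸ H) = H.index := rfl
  -- Lemma S for every point
  have hBtop : ∀ ω, Bsub H φ ω ≠ ⊤ := Bsub_ne_top H φ hH hlt hφ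
  have hS : ∀ ω : SpecialLinearGroup F V ⧸ H, Bsub H φ ω = ⊥ ∨
      (Nat.card (LinearMap.ker φ) ≤ Fintype.card F * Nat.card (Bsub H φ ω) ∧
        (Nat.card (LinearMap.ker φ) = Fintype.card F * Nat.card (Bsub H φ ω) →
          ∃ U : Submodule F (LinearMap.ker φ), U.toAddSubgroup = Bsub H φ ω)) := by
    intro ω
    have hyp : ∀ (ψ : Dual F (LinearMap.ker φ)) (u : LinearMap.ker φ), ψ u = 0 →
        (Bsub H φ ω).map (LinearMap.transvection ψ u).toAddMonoidHom = Bsub H φ ω ∨
        (Bsub H φ ω).map (LinearMap.transvection ψ u).toAddMonoidHom ⊔ Bsub H φ ω = ⊤ := by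
      intro ψ' u hψ'
      obtain ⟨g, hg⟩ := Bsub_map_transvection H φ ψ' u hψ' ω
      rw [hg]
      by_cases horb : MulAction.orbit (Multiplicative (LinearMap.ker φ)) (g • ω) =
          MulAction.orbit (Multiplicative (LinearMap.ker φ)) ω
      · left
        unfold Bsub
        rw [stabilizer_eq_of_mem_orbit (MulAction.orbit_eq_iff.1 horb)]
      · right
        unfold Bsub
        rw [← OrderIso.map_sup, hjoin _ _ horb, OrderIso.map_top]
    rcases lemmaS (F := F) (W := LinearMap.ker φ) (by omega) (Bsub H φ ω) hyp with h | h | h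
    · left; exact h
    · exact absurd h (hBtop ω)
    · right; exact h
  -- the base point
  have hH0 : ∀ (w : V) (h : φ w = 0), tv φ w h ∈ H ↔
      (⟨w, LinearMap.mem_ker.2 h⟩ : LinearMap.ker φ) ∈
        Bsub H φ (QuotientGroup.mk 1 : SpecialLinearGroup F V ⧸ H) := by
    intro w h
    rw [mem_Bsub]
    have h1 : tv φ w h • (QuotientGroup.mk 1 : SpecialLinearGroup F V ⧸ H) =
        QuotientGroup.mk (tv φ w h * 1) := rfl
    rw [h1, QuotientGroup.eq, mul_one, mul_one, Subgroup.inv_mem_iff]
  -- orbit-stabilizer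
  have horbstab : ∀ ω : SpecialLinearGroup F V ⧸ H,
      (MulAction.orbit (Multiplicative (LinearMap.ker φ)) ω).ncard * Nat.card (Bsub H φ ω) =
        Fintype.card F ^ (finrank F V - 1) := by
    intro ω
    have h1 := MulAction.index_stabilizer (Multiplicative (LinearMap.ker φ)) ω
    have h2 := Subgroup.card_mul_index (MulAction.stabilizer (Multiplicative (LinearMap.ker φ)) ω)
    have h3 : Nat.card (Bsub H φ ω) =
        Nat.card (MulAction.stabilizer (Multiplicative (LinearMap.ker φ)) ω) := rfl
    rw [h3, ← h1, mul_comm, h2, hcardA]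
  by_cases hex : ∃ ω, Bsub H φ ω = ⊥
  · -- case R1
    left
    obtain ⟨ω, hω⟩ := hex
    have hstabω : MulAction.stabilizer (Multiplicative (LinearMap.ker φ)) ω = ⊥ := by
      apply (Subgroup.toAddSubgroup' (A := LinearMap.ker φ)).injective
      rw [OrderIso.map_bot]
      exact hω
    have hall : ∀ ω' : SpecialLinearGroup F V ⧸ H,
        MulAction.orbit (Multiplicative (LinearMap.ker φ)) ω' =
          MulAction.orbit (Multiplicative (LinearMap.ker φ)) ω := by
      intro ω'
      by_contra horb
      have := hjoin ω' ω horb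
      rw [hstabω, sup_bot_eq] at this
      exact hfix ω' this
    have hstab0 : Bsub H φ (QuotientGroup.mk 1 : SpecialLinearGroup F V ⧸ H) = ⊥ := by
      unfold Bsub
      rw [stabilizer_eq_of_mem_orbit (MulAction.orbit_eq_iff.1 (hall _)), hstabω,
        OrderIso.map_bot]
    refine ⟨?_, ?_⟩
    · have h1 := horbstab ω
      rw [hω] at h1
      have h2 : MulAction.orbit (Multiplicative (LinearMap.ker φ)) ω = Set.univ := by
        rw [Set.eq_univ_iff_forall]
        intro ω'
        exact MulAction.orbit_eq_iff.1 (hall ω')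
      rw [h2, Set.ncard_univ, hcardΩ] at h1
      simpa using h1
    · intro w h hw
      have := (hH0 w h).1 hw
      rw [hstab0, AddSubgroup.mem_bot] at this
      exact congrArg Subtype.val this
  · -- case R2
    right
    push Not at hex
    have hS' := fun ω => (hS ω).resolve_left (hex ω)
    have horble : ∀ ω : SpecialLinearGroup F V ⧸ H,
        (MulAction.orbit (Multiplicative (LinearMap.ker φ)) ω).ncard ≤ Fintype.card F := by
      intro ω
      have h1 := horbstab ω
      have h2 := (hS' ω).1
      rw [hcardW, ← h1] at h2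
      have hBpos : 0 < Nat.card (Bsub H φ ω) := Nat.card_pos
      exact Nat.le_of_mul_le_mul_right h2 hBpos
    haveI : Fintype (MulAction.orbitRel.Quotient (Multiplicative (LinearMap.ker φ))
        (SpecialLinearGroup F V ⧸ H)) := Fintype.ofFinite _
    have hsum : Nat.card (SpecialLinearGroup F V ⧸ H) =
        ∑ o : MulAction.orbitRel.Quotient (Multiplicative (LinearMap.ker φ))
          (SpecialLinearGroup F V ⧸ H),
          (MulAction.orbit (Multiplicative (LinearMap.ker φ)) (Quotient.out o)).ncard := by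
      rw [Nat.card_congr (MulAction.selfEquivSigmaOrbits (Multiplicative (LinearMap.ker φ))
        (SpecialLinearGroup F V ⧸ H)), Nat.card_sigma]
      rfl
    have hsumle : Nat.card (SpecialLinearGroup F V ⧸ H) ≤
        Nat.card (MulAction.orbitRel.Quotient (Multiplicative (LinearMap.ker φ))
          (SpecialLinearGroup F V ⧸ H)) * Fintype.card F := by
      rw [hsum, Nat.card_eq_fintype_card, ← Finset.card_univ, ← smul_eq_mul]
      exact Finset.sum_le_card_nsmul _ _ _ (fun o _ => horble _)
    -- arithmetic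
    obtain ⟨n', hn'⟩ : ∃ n', finrank F V = n' + 1 := ⟨finrank F V - 1, by omega⟩
    have hgeo := pred_mul_Npts (Fintype.card F) n' (by omega)
    rw [hn', Npts_succ] at hlt
    rw [hcardΩ, hcardA, hn', Nat.add_sub_cancel] at hcount
    rw [hcardΩ] at hsumle
    obtain ⟨c, hc⟩ : ∃ c, Fintype.card F = c + 1 := ⟨Fintype.card F - 1, by omega⟩
    have hc1 : 1 ≤ c := by omega
    rw [hc, Nat.add_sub_cancel] at hgeo
    have ha_eq : Nat.card (MulAction.orbitRel.Quotient (Multiplicative (LinearMap.ker φ))
          (SpecialLinearGroup F V ⧸ H)) = Npts (Fintype.card F) n' := by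
      set a := Nat.card (MulAction.orbitRel.Quotient (Multiplicative (LinearMap.ker φ))
          (SpecialLinearGroup F V ⧸ H)) with ha
      rw [hc] at hsumle hlt hcount ⊢
      have h1 : c * Npts (c + 1) n' ≤ c * a := by nlinarith
      have h2 : Npts (c + 1) n' ≤ a := Nat.le_of_mul_le_mul_left h1 (by omega)
      omega
    have hidx1 : H.index + 1 = Npts (Fintype.card F) (finrank F V) := by
      rw [hn', Npts_succ, hcount, ha_eq]
    have hidx2 : H.index = Nat.card (MulAction.orbitRel.Quotient
        (Multiplicative (LinearMap.ker φ)) (SpecialLinearGroup F V ⧸ H)) * Fintype.card F := by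
      rw [ha_eq] at hcount ⊢
      rw [hc] at hcount ⊢
      nlinarith
    refine ⟨hidx1, ?_⟩
    -- every orbit has exactly q points
    have hall : ∀ o : MulAction.orbitRel.Quotient (Multiplicative (LinearMap.ker φ))
          (SpecialLinearGroup F V ⧸ H),
        (MulAction.orbit (Multiplicative (LinearMap.ker φ)) (Quotient.out o)).ncard =
          Fintype.card F := by
      have h1 : ∑ o : MulAction.orbitRel.Quotient (Multiplicative (LinearMap.ker φ))
          (SpecialLinearGroup F V ⧸ H),
          (MulAction.orbit (Multiplicative (LinearMap.ker φ)) (Quotient.out o)).ncard =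
          ∑ _o : MulAction.orbitRel.Quotient (Multiplicative (LinearMap.ker φ))
          (SpecialLinearGroup F V ⧸ H), Fintype.card F := by
        rw [← hsum, hcardΩ, hidx2, Finset.sum_const, Finset.card_univ, smul_eq_mul,
          Nat.card_eq_fintype_card]
      have h2 := (Finset.sum_eq_sum_iff_of_le (fun o _ => horble (Quotient.out o))).1 h1
      exact fun o => h2 o (Finset.mem_univ o)
    have horb0 : (MulAction.orbit (Multiplicative (LinearMap.ker φ))
        (QuotientGroup.mk 1 : SpecialLinearGroup F V ⧸ H)).ncard = Fintype.card F := by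
      have h1 := hall (Quotient.mk'' (QuotientGroup.mk 1 : SpecialLinearGroup F V ⧸ H))
      have h2 : MulAction.orbit (Multiplicative (LinearMap.ker φ))
          (Quotient.out (Quotient.mk'' (QuotientGroup.mk 1 : SpecialLinearGroup F V ⧸ H) :
            MulAction.orbitRel.Quotient (Multiplicative (LinearMap.ker φ))
              (SpecialLinearGroup F V ⧸ H))) =
          MulAction.orbit (Multiplicative (LinearMap.ker φ))
            (QuotientGroup.mk 1 : SpecialLinearGroup F V ⧸ H) := by
        apply MulAction.orbit_eq_iff.2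
        have := Quotient.mk_out (s := MulAction.orbitRel (Multiplicative (LinearMap.ker φ))
          (SpecialLinearGroup F V ⧸ H)) (QuotientGroup.mk 1 : SpecialLinearGroup F V ⧸ H)
        exact this
      rw [h2] at h1
      exact h1
    have hQ := horbstab (QuotientGroup.mk 1 : SpecialLinearGroup F V ⧸ H)
    rw [horb0] at hQ
    obtain ⟨U', hU'⟩ := (hS' (QuotientGroup.mk 1 : SpecialLinearGroup F V ⧸ H)).2
      (by rw [hcardW, hQ])
    refine ⟨U'.map (LinearMap.ker φ).subtype, ?_, ?_, ?_⟩
    · intro x hx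
      obtain ⟨y, _, rfl⟩ := hx
      exact y.2
    · rw [Submodule.finrank_map_subtype_eq]
      have h1 : Nat.card U' = Nat.card (Bsub H φ (QuotientGroup.mk 1 : SpecialLinearGroup F V ⧸ H)) := by
        rw [← hU']; rfl
      rw [← h1, Module.natCard_eq_pow_finrank (K := F), Nat.card_eq_fintype_card, ← pow_succ'] at hQ
      have := Nat.pow_right_injective hq2 hQ
      omega
    · intro w h
      rw [hH0 w h, ← hU']
      constructor
      · intro hw
        exact ⟨⟨w, LinearMap.mem_ker.2 h⟩, hw, rfl⟩
      · rintro ⟨y, hy, hyw⟩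
        have : y = ⟨w, LinearMap.mem_ker.2 h⟩ := Subtype.ext hyw
        rw [← this]
        exact hy

end main

end Cfsg.Agent.Lib.Helper72_MI_TRI
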