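import Mathlib
import Cfsg.Agent.Lib.Helper72_MinIdxDefs
import Cfsg.Agent.Lib.Helper72_MI_Glue
import Cfsg.Agent.Lib.Helper72_MI_TRI

set_option autoImplicit false
set_option linter.unusedSimpArgs false
set_option linter.unusedVariables false

/-! MI-MAIN: the minimal index theorem for `SL(V)`, `dim V ≥ 3`, `(n,q) ≠ (4,2)`. -/

namespace Cfsg.Agent.Lib.Helper72_MI_Main

open Module Cfsg.Agent.Lib.Helper72_MinIdxDefs Cfsg.Agent.Lib.Helper72_MI_Glue
  Cfsg.Agent.Lib.Helper72_MI_TRI

variable {F : Type*} [Field F] {V : Type*} [AddCommGroup V] [Module F V]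

theorem Npts_le_index [Fintype F] [Module.Finite F V] (hn : 3 ≤ finrank F V)
    (hexc : ¬ (finrank F V = 4 ∧ Fintype.card F = 2))
    (H : Subgroup (SpecialLinearGroup F V)) (hH : H ≠ ⊤) :
    Npts (Fintype.card F) (finrank F V) ≤ H.index := by
  by_contra hlt
  push Not at hlt
  have hq2 : 2 ≤ Fintype.card F := Fintype.one_lt_card
  have htri := fun φ hφ => trichotomy hn H hH hlt φ hφ
  by_cases hR1 : H.index = Fintype.card F ^ (finrank F V - 1)
  · have hno : ∀ (φ : Dual F V) (w : V) (h : φ w = 0), tv φ w h ∈ H → tv φ w h = 1 := by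
      intro φ w h hmem
      by_cases hφ : φ = 0
      · subst hφ; exact tv_zero_left w
      · rcases htri φ hφ with ⟨_, h1⟩ | ⟨h2, _⟩
        · have := h1 w h hmem
          subst this
          exact tv_zero_right φ
        · exfalso
          obtain ⟨n', hn'⟩ : ∃ n', finrank F V = n' + 2 := ⟨finrank F V - 2, by omega⟩
          rw [hR1, hn', show n' + 2 - 1 = n' + 1 by omega, Npts_succ, Npts_succ] at h2
          have : 0 < Fintype.card F ^ n' := Nat.pow_pos (by omega)
          have h3 : 0 ≤ Npts (Fintype.card F) n' := Nat.zero_le _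
          have h4 : Fintype.card F ^ n' ≥ 2 ^ 1 := by
            calc Fintype.card F ^ n' ≥ 2 ^ n' := Nat.pow_le_pow_left hq2 n'
              _ ≥ 2 ^ 1 := Nat.pow_le_pow_right (by omega) (by omega)
          omega
    have hdvd := R1_dvd hn H hR1 hno
    have h4 := R1_le_four hn H hR1 hno
    rcases (by omega : finrank F V = 3 ∨ finrank F V = 4) with h3 | h4'
    · have hodd := R1_three_odd h3 H hR1 hno
      rw [h3] at hdvd
      have hle := Nat.le_of_dvd (by omega) hdvd
      have : Fintype.card F = 2 ∨ Fintype.card F = 3 ∨ Fintype.card F = 4 := by omega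
      rcases this with h | h | h
      · rw [h] at hodd; exact absurd hodd (by decide)
      · rw [h] at hdvd; exact absurd hdvd (by decide)
      · rw [h] at hodd; exact absurd hodd (by decide)
    · have hev := R1_four_even h4' H hR1 hno
      rw [h4'] at hdvd
      have hle := Nat.le_of_dvd (by omega) hdvd
      have : Fintype.card F = 2 ∨ Fintype.card F = 3 ∨ Fintype.card F = 4 ∨
          Fintype.card F = 5 := by omega
      rcases this with h | h | h | h
      · exact hexc ⟨h4', h⟩
      · rw [h] at hev; exact absurd hev (by decide)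
      · rw [h] at hdvd; exact absurd hdvd (by decide)
      · rw [h] at hev; exact absurd hev (by decide)
  · apply R2_false hn H
    intro φ hφ
    rcases htri φ hφ with ⟨h1, _⟩ | ⟨_, h2⟩
    · exact absurd h1 hR1
    · exact h2

end Cfsg.Agent.Lib.Helper72_MI_Main
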