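import Cfsg.Agent.S2005
import Cfsg.Agent.S0609

/-!
Helper library (helper72): Thompson-type reduction for normal `p`-complement theorems with TWO
hypotheses: `N_G(W₁(S))` and `C_G(W₂(S))` both have normal `p`-complements (`W₁`, `W₂`
isomorphism-invariant `p`-group functors, e.g. `W₁ = J`, `W₂ = Z`).  A minimal counterexample is
reduced to a "terminal configuration": `S` is a maximal subgroup, `C_G(O_p(G)) ≤ O_p(G)`,
`G/O_p(G)` has a normal `p`-complement, and `G` has no nontrivial normal `p'`-subgroup.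

The structure follows helper34's proof of S2005 (one functor, normalizer hypothesis).
A class predicate `C` closed under subgroups and quotients is carried along (e.g. `S₄`-freeness).
-/

set_option autoImplicit false
universe u
open Cfsg

namespace Cfsg.Agent.Lib.Helper72_NPCReduction

open Cfsg.Agent.Lib.Helper34_NPC Cfsg.Agent.Lib.Helper35_FrobeniusNPC
  Cfsg.Agent.Lib.Helper33_Conj Cfsg.Agent.Lib.Helper33_Alperin

variable {p : ℕ} [Fact p.Prime] {W W₁ W₂ : ∀ (Q : Type u) [Group Q], Subgroup Q}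

/-- the pair of hypotheses: `N(W₁(S))` and `C(W₂(S))` have normal `p`-complements -/
def Hyp (p : ℕ) (W₁ W₂ : ∀ (Q : Type u) [Group Q], Subgroup Q) {Y : Type u} [Group Y]
    (S : Subgroup Y) : Prop :=
  HasNPC p ↥(Subgroup.normalizer ((Cfsg.inducedFunctor W₁ S : Subgroup Y) : Set Y)) ∧
  HasNPC p ↥(Subgroup.centralizer ((Cfsg.inducedFunctor W₂ S : Subgroup Y) : Set Y))

/-- the terminal configuration always has a normal `p`-complement -/
def Terminal (p : ℕ) (W₁ W₂ : ∀ (Q : Type u) [Group Q], Subgroup Q)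
    (C : ∀ (X : Type u) [Group X], Prop) : Prop :=
  ∀ (X : Type u) [Group X] [Finite X], C X → ∀ T : Sylow p X, IsCoatom (T : Subgroup X) →
    Subgroup.centralizer ((Cfsg.pCore p X : Subgroup X) : Set X) ≤ Cfsg.pCore p X →
    HasNPC p (X ⧸ Cfsg.pCore p X) →
    (∀ L : Subgroup X, L.Normal → (Nat.card L).Coprime p → L = ⊥) →
    Hyp p W₁ W₂ (T : Subgroup X) → HasNPC p X

/-- the centralizer in `M` of a subgroup `X'` of `M` embeds in the centralizer in `G` of its image -/
theorem hasNPC_centralizer_of_map {G : Type*} [Group G] {M : Subgroup G} (X' : Subgroup M)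
    (h : HasNPC p ↥(Subgroup.centralizer ((X'.map M.subtype : Subgroup G) : Set G))) :
    HasNPC p ↥(Subgroup.centralizer (X' : Set M)) := by
  have hle : ∀ a : ↥(Subgroup.centralizer (X' : Set M)),
      ((a : M) : G) ∈ Subgroup.centralizer ((X'.map M.subtype : Subgroup G) : Set G) := by
    intro a
    rw [Subgroup.mem_centralizer_iff]
    rintro _ ⟨y, hy, rfl⟩
    have := Subgroup.mem_centralizer_iff.mp a.2 y hy
    have h2 := congrArg (fun z : M => (z : G)) this
    simpa using h2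
  let f : ↥(Subgroup.centralizer (X' : Set M)) →*
      ↥(Subgroup.centralizer ((X'.map M.subtype : Subgroup G) : Set G)) :=
    (M.subtype.comp (Subgroup.centralizer (X' : Set M)).subtype).codRestrict _ hle
  have hf : Function.Injective f := by
    intro a b hab
    have h1 : ((f a : ↥(Subgroup.centralizer ((X'.map M.subtype : Subgroup G) : Set G))) : G) =
        ((f b : ↥(Subgroup.centralizer ((X'.map M.subtype : Subgroup G) : Set G))) : G) := by
      rw [hab]
    exact Subtype.ext (Subtype.ext h1)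
  exact hasNPC_of_injective f hf h

/-- the hypotheses do not depend on the Sylow subgroup -/
theorem hyp_all (hW₁ : Cfsg.IsCharPFunctor.{u} p W₁) (hW₂ : Cfsg.IsCharPFunctor.{u} p W₂)
    {G : Type u} [Group G] [Finite G] (S : Sylow p G) (h : Hyp p W₁ W₂ (S : Subgroup G))
    (S' : Sylow p G) : Hyp p W₁ W₂ (S' : Subgroup G) := by
  refine ⟨Cfsg.Agent.S2005.hN_all hW₁ S h.1 S', ?_⟩
  obtain ⟨g, hg⟩ := sylow_cj_eq S S'
  have h1 : Cfsg.inducedFunctor W₂ (S' : Subgroup G) =
      cj g (Cfsg.inducedFunctor W₂ (S : Subgroup G)) := by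
    rw [hg]
    exact inducedFunctor_conj hW₂ _ S.2 g
  have h2 : Subgroup.centralizer
      ((Cfsg.inducedFunctor W₂ (S' : Subgroup G) : Subgroup G) : Set G) =
      (Subgroup.centralizer
        ((Cfsg.inducedFunctor W₂ (S : Subgroup G) : Subgroup G) : Set G)).map
        (MulAut.conj g).toMonoidHom := by
    rw [h1, ← cj_centralizer]
  exact hasNPC_of_eq h2.symm (hasNPC_map _ _ h.2)

/-- the hypotheses pass to a subgroup containing the `p`-subgroup -/
theorem hyp_of_map (hW₁ : Cfsg.IsCharPFunctor.{u} p W₁) (hW₂ : Cfsg.IsCharPFunctor.{u} p W₂)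
    {G : Type u} [Group G] [Finite G] (M : Subgroup G) (T' : Subgroup M) (hT' : IsPGroup p T')
    (h : Hyp p W₁ W₂ (T'.map M.subtype)) : Hyp p W₁ W₂ T' := by
  have hfun₁ : (Cfsg.inducedFunctor W₁ T').map M.subtype =
      Cfsg.inducedFunctor W₁ (T'.map M.subtype) :=
    (inducedFunctor_map hW₁ M.subtype T' hT' (fun x _ hx => by simpa using hx)).symm
  have hfun₂ : (Cfsg.inducedFunctor W₂ T').map M.subtype =
      Cfsg.inducedFunctor W₂ (T'.map M.subtype) :=
    (inducedFunctor_map hW₂ M.subtype T' hT' (fun x _ hx => by simpa using hx)).symm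
  constructor
  · apply hasNPC_normalizer_of_map
    rw [hfun₁]
    exact h.1
  · apply hasNPC_centralizer_of_map
    rw [hfun₂]
    exact h.2

/-- `HasNPC` of a normalizer gives `HasNPC` of the centralizer -/
theorem hasNPC_centralizer_of_normalizer {G : Type*} [Group G] (X : Subgroup G)
    (h : HasNPC p ↥(Subgroup.normalizer (X : Set G))) :
    HasNPC p ↥(Subgroup.centralizer (X : Set G)) :=
  hasNPC_of_le (Subgroup.centralizer_le_normalizer (X : Set G)) h

/-- modulo a normal `p'`-subgroup `L`, the centralizer of the image of a `p`-subgroup `X` is the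
image of the centralizer of `X` -/
theorem map_centralizer_eq_of_coprime {G : Type u} [Group G] [Finite G]
    (L : Subgroup G) [L.Normal] (hL : (Nat.card L).Coprime p) (X : Subgroup G)
    (hX : IsPGroup p X) :
    (Subgroup.centralizer (X : Set G)).map (QuotientGroup.mk' L) =
      Subgroup.centralizer ((X.map (QuotientGroup.mk' L) : Subgroup (G ⧸ L)) : Set (G ⧸ L)) := by
  apply le_antisymm
  · rintro _ ⟨c, hc, rfl⟩
    rw [Subgroup.mem_centralizer_iff]
    rintro _ ⟨z, hz, rfl⟩
    have := Subgroup.mem_centralizer_iff.mp hc z hz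
    rw [← map_mul, ← map_mul, this]
  · intro y hy
    obtain ⟨c, rfl⟩ := QuotientGroup.mk'_surjective L y
    have hc : ∀ z ∈ X, c * z * c⁻¹ * z⁻¹ ∈ L := by
      intro z hz
      have h1 := Subgroup.mem_centralizer_iff.mp hy (QuotientGroup.mk' L z) ⟨z, hz, rfl⟩
      rw [← QuotientGroup.ker_mk' L, MonoidHom.mem_ker]
      simp only [map_mul, map_inv]
      rw [← h1]
      group
    obtain ⟨m, hm, hmc⟩ := Cfsg.Agent.S0609.exists_mul_mem_centralizer L hL X hX c hc
    refine ⟨m * c, hmc, ?_⟩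
    rw [map_mul]
    have : QuotientGroup.mk' L m = 1 := by
      rw [← MonoidHom.mem_ker, QuotientGroup.ker_mk']
      exact hm
    rw [this, one_mul]

section Steps

variable {C : ∀ (X : Type u) [Group X], Prop}

/-- the normalizer of `W(T)` is good when `T` is a proper subgroup of a Sylow subgroup whose order
is the `p`-part of the normalizer of a maximal bad subgroup -/
theorem good_of_lt (hW : Cfsg.IsCharPFunctor.{u} p W) {G : Type u} [Group G] [Finite G]
    (H : Subgroup G)
    (hmax : ∀ Q : Subgroup G, IsPGroup p Q → Q ≠ ⊥ →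
      ¬ HasNPC p ↥(Subgroup.normalizer (Q : Set G)) → Cfsg.Agent.S2005.mu p Q ≤ Cfsg.Agent.S2005.mu p H)
    (T : Subgroup G) (hTne : T ≠ ⊥)
    (hTcard : Nat.card T = p ^ vp p (Subgroup.normalizer (H : Set G)))
    (S' : Sylow p G) (hTS : T < (S' : Subgroup G)) :
    HasNPC p ↥(Subgroup.normalizer ((Cfsg.inducedFunctor W T : Subgroup G) : Set G)) := by
  have hTp : IsPGroup p T := S'.2.to_le hTS.le
  by_contra hbad
  have hWp : IsPGroup p (Cfsg.inducedFunctor W T) := hTp.to_le (inducedFunctor_le W T)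
  have hWne : Cfsg.inducedFunctor W T ≠ ⊥ := inducedFunctor_ne_bot hW hTp hTne
  have hle := hmax _ hWp hWne hbad
  have h1 := lt_inf_normalizer S'.2 hTS
  have h2 : (S' : Subgroup G) ⊓ Subgroup.normalizer (T : Set G) ≤
      Subgroup.normalizer ((Cfsg.inducedFunctor W T : Subgroup G) : Set G) :=
    inf_le_right.trans (normalizer_le_normalizer_inducedFunctor hW T hTp)
  have h3 := card_le_of_isPGroup_le (S'.2.to_le inf_le_left) h2
  have h4 := card_lt_of_lt h1
  rw [hTcard] at h4
  have h5 : vp p (Subgroup.normalizer (H : Set G)) < vp p (Subgroup.normalizer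
      ((Cfsg.inducedFunctor W T : Subgroup G) : Set G)) :=
    (Nat.pow_lt_pow_iff_right (Fact.out : p.Prime).one_lt).mp (lt_of_lt_of_le h4 h3)
  have h6 := Cfsg.Agent.S2005.mu_lt_of_vp_lt (Q := H) (Q' := Cfsg.inducedFunctor W T) h5
  omega

/-- Step: the normalizer of a maximal bad subgroup is the whole group. -/
theorem normalizer_eq_top (hW₁ : Cfsg.IsCharPFunctor.{u} p W₁) (hW₂ : Cfsg.IsCharPFunctor.{u} p W₂)
    (hCsub : ∀ (X : Type u) [Group X] (M : Subgroup X), C X → C M)
    {G : Type u} [Group G] [Finite G] (hCG : C G)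
    (IH : ∀ (Y : Type u) [Group Y] [Finite Y], Nat.card Y < Nat.card G → C Y → ∀ S : Sylow p Y,
      Hyp p W₁ W₂ (S : Subgroup Y) → HasNPC p Y)
    (hall : ∀ S : Sylow p G, Hyp p W₁ W₂ (S : Subgroup G))
    (H : Subgroup G) (hHp : IsPGroup p H) (hHne : H ≠ ⊥)
    (hHbad : ¬ HasNPC p ↥(Subgroup.normalizer (H : Set G)))
    (hmax : ∀ Q : Subgroup G, IsPGroup p Q → Q ≠ ⊥ →
      ¬ HasNPC p ↥(Subgroup.normalizer (Q : Set G)) → Cfsg.Agent.S2005.mu p Q ≤ Cfsg.Agent.S2005.mu p H) :
    Subgroup.normalizer (H : Set G) = ⊤ := by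
  by_contra hNtop
  set N := Subgroup.normalizer (H : Set G) with hN
  have hcardN : Nat.card N < Nat.card G := by
    rw [← Subgroup.card_top (G := G)]
    exact card_lt_of_lt (lt_top_iff_ne_top.mpr hNtop)
  apply hHbad
  obtain ⟨TN⟩ : Nonempty (Sylow p N) := inferInstance
  apply IH N hcardN (hCsub G N hCG) TN
  apply hyp_of_map hW₁ hW₂ N (TN : Subgroup N) TN.2
  set T : Subgroup G := (TN : Subgroup N).map N.subtype with hT
  have hTp : IsPGroup p T := TN.2.map _
  have hTcard : Nat.card T = p ^ vp p N := card_sylow_subgroup N TN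
  obtain ⟨S', hS'⟩ := hTp.exists_le_sylow
  rcases eq_or_lt_of_le hS' with hTS | hTS
  · rw [hTS]; exact hall S'
  · have hTne : T ≠ ⊥ := by
      intro h
      have hHN : H ≤ N := Subgroup.le_normalizer
      have h1 := card_le_of_isPGroup_le hHp hHN
      rw [← hTcard, h, Subgroup.card_bot] at h1
      have h2 : Nat.card H = 1 := le_antisymm h1 Nat.card_pos
      exact hHne (Subgroup.card_eq_one.mp h2)
    exact ⟨good_of_lt hW₁ H hmax T hTne hTcard S' hTS,
      hasNPC_centralizer_of_normalizer _ (good_of_lt hW₂ H hmax T hTne hTcard S' hTS)⟩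

/-- the normalizer of `W(S̄)` in `G/O_p(G)` is good -/
theorem good_quotient (hW : Cfsg.IsCharPFunctor.{u} p W) {G : Type u} [Group G] [Finite G]
    (S : Sylow p G) (hdiv : p ∣ Nat.card (G ⧸ Cfsg.pCore p G))
    (hmax : ∀ Q : Subgroup G, IsPGroup p Q → Q ≠ ⊥ →
      ¬ HasNPC p ↥(Subgroup.normalizer (Q : Set G)) →
        Cfsg.Agent.S2005.mu p Q ≤ Cfsg.Agent.S2005.mu p (Cfsg.pCore p G)) :
    HasNPC p ↥(Subgroup.normalizer ((Cfsg.inducedFunctor W
      ((S : Subgroup G).map (QuotientGroup.mk' (Cfsg.pCore p G))) :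
        Subgroup (G ⧸ Cfsg.pCore p G)) : Set (G ⧸ Cfsg.pCore p G))) := by
  set R := Cfsg.pCore p G with hR
  have hRp : IsPGroup p R := Cfsg.Agent.Lib.Helper76_PSolvable.pCore_isPGroup p
  have hRS : R ≤ (S : Subgroup G) := hRp.le_sylow_of_normal S
  have hπ : Function.Surjective (QuotientGroup.mk' R) := QuotientGroup.mk'_surjective R
  let Sbar : Sylow p (G ⧸ R) := S.mapSurjective hπ
  have hSbar : (Sbar : Subgroup (G ⧸ R)) = (S : Subgroup G).map (QuotientGroup.mk' R) := rfl
  have hSbarne : (Sbar : Subgroup (G ⧸ R)) ≠ ⊥ := Sbar.ne_bot_of_dvd_card hdiv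
  rw [← hSbar]
  set Kbar := Cfsg.inducedFunctor W (Sbar : Subgroup (G ⧸ R)) with hKbar
  have hKbarne : Kbar ≠ ⊥ := inducedFunctor_ne_bot hW Sbar.2 hSbarne
  have hKbarle : Kbar ≤ (Sbar : Subgroup (G ⧸ R)) := inducedFunctor_le W _
  set K := Kbar.comap (QuotientGroup.mk' R) with hK
  have hRK : R ≤ K := by
    conv_lhs => rw [← QuotientGroup.ker_mk' R]
    exact Subgroup.ker_le_comap _ _
  have hKS : K ≤ (S : Subgroup G) := by
    have h1 : K ≤ ((S : Subgroup G).map (QuotientGroup.mk' R)).comap (QuotientGroup.mk' R) :=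
      Subgroup.comap_mono hKbarle
    rw [Subgroup.comap_map_eq, QuotientGroup.ker_mk', sup_eq_left.mpr hRS] at h1
    exact h1
  have hKp : IsPGroup p K := S.2.to_le hKS
  have hKmap : K.map (QuotientGroup.mk' R) = Kbar :=
    Subgroup.map_comap_eq_self_of_surjective hπ _
  have hRltK : R < K := by
    refine lt_of_le_of_ne hRK ?_
    intro h
    apply hKbarne
    rw [← hKmap, ← h, Subgroup.map_eq_bot_iff, QuotientGroup.ker_mk']
  have hKne : K ≠ ⊥ := by
    intro h
    rw [h] at hRltK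
    exact not_lt_bot hRltK
  have hNK : Subgroup.normalizer (K : Set G) =
      (Subgroup.normalizer (Kbar : Set (G ⧸ R))).comap (QuotientGroup.mk' R) :=
    (Subgroup.comap_normalizer_eq_of_surjective _ hπ).symm
  have hSNK : (S : Subgroup G) ≤ Subgroup.normalizer (K : Set G) := by
    intro s hs
    rw [hNK, Subgroup.mem_comap]
    apply normalizer_le_normalizer_inducedFunctor hW _ Sbar.2
    apply Subgroup.le_normalizer
    rw [hSbar]
    exact ⟨s, hs, rfl⟩
  have hgood : HasNPC p ↥(Subgroup.normalizer (K : Set G)) := by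
    by_contra hbad
    have hle := hmax K hKp hKne hbad
    have hv : vp p (Subgroup.normalizer (R : Set G)) ≤ vp p (Subgroup.normalizer (K : Set G)) := by
      have h1 : Subgroup.normalizer (R : Set G) = ⊤ :=
        Subgroup.normalizer_eq_top_iff.mpr (Cfsg.pCore_normal p G)
      rw [h1]
      have h3 := card_le_of_isPGroup_le S.2 hSNK
      have h4 : Nat.card (S : Subgroup G) = p ^ vp p (⊤ : Subgroup G) := by
        rw [S.card_eq_multiplicity]
        unfold vp
        rw [Subgroup.card_top]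
      rw [h4] at h3
      exact (Nat.pow_le_pow_iff_right (Fact.out : p.Prime).one_lt).mp h3
    have := Cfsg.Agent.S2005.mu_lt_of_card_lt hv (card_lt_of_lt hRltK)
    omega
  have hmapN : (Subgroup.normalizer (K : Set G)).map (QuotientGroup.mk' R) =
      Subgroup.normalizer (Kbar : Set (G ⧸ R)) := by
    rw [hNK]
    exact Subgroup.map_comap_eq_self_of_surjective hπ _
  exact hasNPC_of_eq hmapN (hasNPC_map _ _ hgood)

/-- Step: the quotient by `O_p(G)` has a normal `p`-complement. -/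
theorem quotient_hasNPC (hW₁ : Cfsg.IsCharPFunctor.{u} p W₁) (hW₂ : Cfsg.IsCharPFunctor.{u} p W₂)
    (hCquot : ∀ (X : Type u) [Group X] (N : Subgroup X) [N.Normal], C X → C (X ⧸ N))
    {G : Type u} [Group G] [Finite G] (hCG : C G)
    (IH : ∀ (Y : Type u) [Group Y] [Finite Y], Nat.card Y < Nat.card G → C Y → ∀ S : Sylow p Y,
      Hyp p W₁ W₂ (S : Subgroup Y) → HasNPC p Y)
    (S : Sylow p G)
    (hRne : Cfsg.pCore p G ≠ ⊥)
    (hmax : ∀ Q : Subgroup G, IsPGroup p Q → Q ≠ ⊥ →
      ¬ HasNPC p ↥(Subgroup.normalizer (Q : Set G)) →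
        Cfsg.Agent.S2005.mu p Q ≤ Cfsg.Agent.S2005.mu p (Cfsg.pCore p G)) :
    HasNPC p (G ⧸ Cfsg.pCore p G) := by
  have hRn : (Cfsg.pCore p G).Normal := Cfsg.pCore_normal p G
  set R := Cfsg.pCore p G with hR
  have hπ : Function.Surjective (QuotientGroup.mk' R) := QuotientGroup.mk'_surjective R
  by_cases hdiv : p ∣ Nat.card (G ⧸ R)
  swap
  · exact hasNPC_of_coprime (((Fact.out : p.Prime).coprime_iff_not_dvd).mpr hdiv).symm
  have hcard : Nat.card (G ⧸ R) < Nat.card G := by
    have h1 := Cfsg.Agent.Lib.Helper1_Transport.card_quotient_mul_card R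
    have h2 : 1 < Nat.card R := by
      rcases Nat.lt_or_ge 1 (Nat.card R) with h | h
      · exact h
      · exfalso
        apply hRne
        apply Subgroup.card_eq_one.mp
        have : 0 < Nat.card R := Nat.card_pos
        omega
    have h3 : 0 < Nat.card (G ⧸ R) := Nat.card_pos
    nlinarith
  let Sbar : Sylow p (G ⧸ R) := S.mapSurjective hπ
  have hSbar : (Sbar : Subgroup (G ⧸ R)) = (S : Subgroup G).map (QuotientGroup.mk' R) := rfl
  apply IH (G ⧸ R) hcard (hCquot G R hCG) Sbar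
  rw [hSbar]
  exact ⟨good_quotient hW₁ S hdiv hmax,
    hasNPC_centralizer_of_normalizer _ (good_quotient hW₂ S hdiv hmax)⟩

/-- Step: a minimal counterexample has no nontrivial normal `p'`-subgroup. -/
theorem normal_pprime_eq_bot (hW₁ : Cfsg.IsCharPFunctor.{u} p W₁)
    (hW₂ : Cfsg.IsCharPFunctor.{u} p W₂)
    (hCquot : ∀ (X : Type u) [Group X] (N : Subgroup X) [N.Normal], C X → C (X ⧸ N))
    {G : Type u} [Group G] [Finite G] (hCG : C G)
    (IH : ∀ (Y : Type u) [Group Y] [Finite Y], Nat.card Y < Nat.card G → C Y → ∀ S : Sylow p Y,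
      Hyp p W₁ W₂ (S : Subgroup Y) → HasNPC p Y)
    (S : Sylow p G) (hS : Hyp p W₁ W₂ (S : Subgroup G))
    (hnot : ¬ HasNPC p G) (L : Subgroup G) [L.Normal] (hL : (Nat.card L).Coprime p) :
    L = ⊥ := by
  by_contra hLne
  apply hnot
  apply hasNPC_of_quotient L hL
  have hπ : Function.Surjective (QuotientGroup.mk' L) := QuotientGroup.mk'_surjective L
  have hcard : Nat.card (G ⧸ L) < Nat.card G := by
    have h1 := Cfsg.Agent.Lib.Helper1_Transport.card_quotient_mul_card L
    have h2 : 1 < Nat.card L := by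
      rcases Nat.lt_or_ge 1 (Nat.card L) with h | h
      · exact h
      · exfalso
        apply hLne
        apply Subgroup.card_eq_one.mp
        have : 0 < Nat.card L := Nat.card_pos
        omega
    have h3 : 0 < Nat.card (G ⧸ L) := Nat.card_pos
    nlinarith
  let Sbar : Sylow p (G ⧸ L) := S.mapSurjective hπ
  have hSbar : (Sbar : Subgroup (G ⧸ L)) = (S : Subgroup G).map (QuotientGroup.mk' L) := rfl
  apply IH (G ⧸ L) hcard (hCquot G L hCG) Sbar
  have hdisj : (S : Subgroup G) ⊓ L = ⊥ := by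
    obtain ⟨k, hk⟩ := S.2.exists_card_eq
    have hc : (Nat.card (S : Subgroup G)).Coprime (Nat.card L) := by
      rw [hk]
      exact Nat.Coprime.pow_left k hL.symm
    exact (Subgroup.disjoint_of_coprime_natCard hc).eq_bot
  have hinj : ∀ x ∈ (S : Subgroup G), QuotientGroup.mk' L x = 1 → x = 1 := by
    intro x hx hx1
    have hxL : x ∈ L := (QuotientGroup.eq_one_iff x).mp hx1
    have : x ∈ (S : Subgroup G) ⊓ L := ⟨hx, hxL⟩
    rw [hdisj] at this
    exact Subgroup.mem_bot.mp this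
  have hfun₁ : Cfsg.inducedFunctor W₁ (Sbar : Subgroup (G ⧸ L)) =
      (Cfsg.inducedFunctor W₁ (S : Subgroup G)).map (QuotientGroup.mk' L) := by
    rw [hSbar]
    exact inducedFunctor_map hW₁ _ _ S.2 hinj
  have hfun₂ : Cfsg.inducedFunctor W₂ (Sbar : Subgroup (G ⧸ L)) =
      (Cfsg.inducedFunctor W₂ (S : Subgroup G)).map (QuotientGroup.mk' L) := by
    rw [hSbar]
    exact inducedFunctor_map hW₂ _ _ S.2 hinj
  constructor
  · rw [hfun₁]
    have hWp : IsPGroup p (Cfsg.inducedFunctor W₁ (S : Subgroup G)) :=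
      S.2.to_le (inducedFunctor_le W₁ _)
    have hmapN := map_normalizer_eq_of_coprime L hL _ hWp
    exact hasNPC_of_eq hmapN (hasNPC_map _ _ hS.1)
  · rw [hfun₂]
    have hWp : IsPGroup p (Cfsg.inducedFunctor W₂ (S : Subgroup G)) :=
      S.2.to_le (inducedFunctor_le W₂ _)
    have hmapC := map_centralizer_eq_of_coprime L hL _ hWp
    exact hasNPC_of_eq hmapC (hasNPC_map _ _ hS.2)

/-- Step: the Sylow subgroup is a maximal subgroup. -/
theorem sylow_isCoatom (hW₁ : Cfsg.IsCharPFunctor.{u} p W₁) (hW₂ : Cfsg.IsCharPFunctor.{u} p W₂)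
    (hCsub : ∀ (X : Type u) [Group X] (M : Subgroup X), C X → C M)
    {G : Type u} [Group G] [Finite G] (hCG : C G)
    (IH : ∀ (Y : Type u) [Group Y] [Finite Y], Nat.card Y < Nat.card G → C Y → ∀ S : Sylow p Y,
      Hyp p W₁ W₂ (S : Subgroup Y) → HasNPC p Y)
    (S : Sylow p G) (hS : Hyp p W₁ W₂ (S : Subgroup G))
    (hnot : ¬ HasNPC p G)
    (hcen : Subgroup.centralizer ((Cfsg.pCore p G : Subgroup G) : Set G) ≤ Cfsg.pCore p G) :
    IsCoatom (S : Subgroup G) := by
  set R := Cfsg.pCore p G with hR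
  have hRp : IsPGroup p R := Cfsg.Agent.Lib.Helper76_PSolvable.pCore_isPGroup p
  have hRS : R ≤ (S : Subgroup G) := hRp.le_sylow_of_normal S
  have hStop : (S : Subgroup G) ≠ ⊤ := by
    intro h
    apply hnot
    apply hasNPC_of_isPGroup
    have h1 : IsPGroup p (⊤ : Subgroup G) := h ▸ S.2
    exact h1.of_equiv Subgroup.topEquiv
  obtain ⟨M, hM, hMmin⟩ := Set.exists_min_image {M : Subgroup G | (S : Subgroup G) < M}
    (fun M => Nat.card M) (Set.toFinite _) ⟨⊤, lt_top_iff_ne_top.mpr hStop⟩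
  have hSM : (S : Subgroup G) ≤ M := (show (S : Subgroup G) < M from hM).le
  have hMtop : M = ⊤ := by
    by_contra hMne
    have hcardM : Nat.card M < Nat.card G := by
      rw [← Subgroup.card_top (G := G)]
      exact card_lt_of_lt (lt_top_iff_ne_top.mpr hMne)
    let SM : Sylow p M := S.subtype hSM
    have hSMmap : (SM : Subgroup M).map M.subtype = (S : Subgroup G) := by
      rw [Sylow.coe_subtype, Subgroup.subgroupOf_map_subtype, inf_eq_left.mpr hSM]
    have hM_npc : HasNPC p M := by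
      apply IH M hcardM (hCsub G M hCG) SM
      apply hyp_of_map hW₁ hW₂ M (SM : Subgroup M) SM.2
      rw [hSMmap]
      exact hS
    obtain ⟨KM, hKMn, hKMc, n, hKMi⟩ := hM_npc
    have hdisj : KM.map M.subtype ⊓ R = ⊥ := by
      obtain ⟨k, hk⟩ := hRp.exists_card_eq
      have hc : (Nat.card (KM.map M.subtype : Subgroup G)).Coprime (Nat.card R) := by
        rw [hk, Subgroup.card_map_of_injective M.subtype_injective]
        exact Nat.Coprime.pow_right k hKMc
      exact (Subgroup.disjoint_of_coprime_natCard hc).eq_bot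
    have hKMcen : KM.map M.subtype ≤ Subgroup.centralizer (R : Set G) := by
      rintro _ ⟨k, hk, rfl⟩
      rw [Subgroup.mem_centralizer_iff]
      intro r hr
      have hrM : r ∈ M := hSM (hRS hr)
      have h1 : (⟨r, hrM⟩ : M) * k⁻¹ * (⟨r, hrM⟩ : M)⁻¹ ∈ KM :=
        hKMn.conj_mem _ (KM.inv_mem hk) _
      have h2 : k * ((⟨r, hrM⟩ : M) * k⁻¹ * (⟨r, hrM⟩ : M)⁻¹) ∈ KM := KM.mul_mem hk h1
      have h3 : (k : G) * (r * (k : G)⁻¹ * r⁻¹) ∈ KM.map M.subtype :=
        ⟨_, h2, by simp⟩
      have h4 : (k : G) * (r * (k : G)⁻¹ * r⁻¹) ∈ R := by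
        have h5 : (k : G) * r * (k : G)⁻¹ ∈ R := (Cfsg.pCore_normal p G).conj_mem r hr _
        have h6 := R.mul_mem h5 (R.inv_mem hr)
        have e : (k : G) * r * (k : G)⁻¹ * r⁻¹ = (k : G) * (r * (k : G)⁻¹ * r⁻¹) := by group
        rwa [e] at h6
      have h7 : (k : G) * (r * (k : G)⁻¹ * r⁻¹) ∈ KM.map M.subtype ⊓ R := ⟨h3, h4⟩
      rw [hdisj, Subgroup.mem_bot] at h7
      show r * M.subtype k = M.subtype k * r
      have e : r * (k : G) = ((k : G) * (r * (k : G)⁻¹ * r⁻¹))⁻¹ * ((k : G) * r) := by group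
      rw [Subgroup.coe_subtype, e, h7]
      group
    have hKMbot : KM = ⊥ := by
      have h1 : KM.map M.subtype ≤ KM.map M.subtype ⊓ R := le_inf le_rfl (hKMcen.trans hcen)
      rw [hdisj] at h1
      exact (Subgroup.map_eq_bot_iff_of_injective _ M.subtype_injective).mp (le_bot_iff.mp h1)
    have hMp : IsPGroup p M := by
      rw [hKMbot, Subgroup.index_bot] at hKMi
      exact IsPGroup.of_card hKMi
    have hSeq : (S : Subgroup G) = M := (S.is_maximal' hMp hSM).symm
    exact (show (S : Subgroup G) < M from hM).ne hSeq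
  refine ⟨hStop, ?_⟩
  intro b hb
  have h1 := hMmin b hb
  rw [hMtop] at h1
  simp only [Subgroup.card_top] at h1
  exact Subgroup.eq_top_of_le_card b h1

end Steps

/-- The main induction: reduction to the terminal configuration. -/
theorem main (hW₁ : Cfsg.IsCharPFunctor.{u} p W₁) (hW₂ : Cfsg.IsCharPFunctor.{u} p W₂)
    (C : ∀ (X : Type u) [Group X], Prop)
    (hCsub : ∀ (X : Type u) [Group X] (M : Subgroup X), C X → C M)
    (hCquot : ∀ (X : Type u) [Group X] (N : Subgroup X) [N.Normal], C X → C (X ⧸ N))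
    (hterm : Terminal p W₁ W₂ C) :
    ∀ n : ℕ, ∀ (G : Type u) [Group G] [Finite G], Nat.card G = n → C G → ∀ S : Sylow p G,
      Hyp p W₁ W₂ (S : Subgroup G) → HasNPC p G := by
  intro n
  induction n using Nat.strong_induction_on with
  | _ n ih =>
  intro G _ _ hcard hCG S hS
  by_contra hnot
  have IH : ∀ (Y : Type u) [Group Y] [Finite Y], Nat.card Y < Nat.card G → C Y →
      ∀ S : Sylow p Y, Hyp p W₁ W₂ (S : Subgroup Y) → HasNPC p Y := by
    intro Y _ _ hY hCY SY hSY
    exact ih (Nat.card Y) (hcard ▸ hY) Y rfl hCY SY hSY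
  have hall := hyp_all hW₁ hW₂ S hS
  have hbad : ∃ Q : Subgroup G, IsPGroup p Q ∧ Q ≠ ⊥ ∧
      ¬ HasNPC p ↥(Subgroup.normalizer (Q : Set G)) := by
    by_contra hcon
    push Not at hcon
    apply hnot
    rw [← Cfsg.Agent.S0072.hasNPC_iff, Cfsg.Agent.S0072.result]
    intro Q hQ hQne
    rw [Cfsg.Agent.S0072.hasNPC_iff]
    exact hcon Q hQ hQne
  obtain ⟨H, hH, hHmax⟩ := Set.exists_max_image
    {Q : Subgroup G | IsPGroup p Q ∧ Q ≠ ⊥ ∧ ¬ HasNPC p ↥(Subgroup.normalizer (Q : Set G))}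
    (fun Q => Cfsg.Agent.S2005.mu p Q) (Set.toFinite _) hbad
  obtain ⟨hHp, hHne, hHbad⟩ := hH
  have hmax : ∀ Q : Subgroup G, IsPGroup p Q → Q ≠ ⊥ →
      ¬ HasNPC p ↥(Subgroup.normalizer (Q : Set G)) →
        Cfsg.Agent.S2005.mu p Q ≤ Cfsg.Agent.S2005.mu p H :=
    fun Q h1 h2 h3 => hHmax Q ⟨h1, h2, h3⟩
  have hNtop := normalizer_eq_top hW₁ hW₂ hCsub hCG IH hall H hHp hHne hHbad hmax
  have hHn : H.Normal := Subgroup.normalizer_eq_top_iff.mp hNtop
  set R := Cfsg.pCore p G with hR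
  have hRp : IsPGroup p R := Cfsg.Agent.Lib.Helper76_PSolvable.pCore_isPGroup p
  have hHR : H ≤ R := Cfsg.Agent.Lib.Helper76_PSolvable.le_pCore p H hHp
  have hRne : R ≠ ⊥ := by
    intro h
    rw [h] at hHR
    exact hHne (le_bot_iff.mp hHR)
  have hNR : Subgroup.normalizer (R : Set G) = ⊤ :=
    Subgroup.normalizer_eq_top_iff.mpr (Cfsg.pCore_normal p G)
  have hmaxR : ∀ Q : Subgroup G, IsPGroup p Q → Q ≠ ⊥ →
      ¬ HasNPC p ↥(Subgroup.normalizer (Q : Set G)) →
        Cfsg.Agent.S2005.mu p Q ≤ Cfsg.Agent.S2005.mu p R := by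
    intro Q h1 h2 h3
    have h4 := hmax Q h1 h2 h3
    have h5 : Cfsg.Agent.S2005.mu p H ≤ Cfsg.Agent.S2005.mu p R := by
      unfold Cfsg.Agent.S2005.mu
      rw [hNtop, hNR]
      have := Subgroup.card_le_of_le hHR
      omega
    exact h4.trans h5
  have hq := quotient_hasNPC hW₁ hW₂ hCquot hCG IH S hRne hmaxR
  have hL : ∀ L : Subgroup G, L.Normal → (Nat.card L).Coprime p → L = ⊥ :=
    fun L hLn hLc => @normal_pprime_eq_bot p _ W₁ W₂ C hW₁ hW₂ hCquot G _ _ hCG IH S hS hnot L hLn hLc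
  have hcen := Cfsg.Agent.S2005.centralizer_pCore_le' hq hL
  have hco := sylow_isCoatom hW₁ hW₂ hCsub hCG IH S hS hnot hcen
  exact hnot (hterm G hCG S hco hcen hq hL hS)

end Cfsg.Agent.Lib.Helper72_NPCReduction
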