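import Mathlib
import Cfsg.Agent.Lib.Helper72_WCFinal
import Cfsg.Agent.Lib.Helper72_EngelEnd

/-!
Helper library (helper72): the final configuration of Glauberman's weak closure theorem for `p = 2`
as an absolute statement, and some general tools (pairing of products, invariance of orbit
products).
-/

set_option autoImplicit false

namespace Cfsg.Agent.Lib.Helper72_OffCfg

open Cfsg.Agent.Lib.Helper33_Conj Cfsg.Agent.Lib.Helper33_Alperin Cfsg.Agent.Lib.Helper72_Orbit
open Cfsg.Agent.Lib.Helper72_Trace Cfsg.Agent.Lib.Helper72_EngelEnd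
open Cfsg.Agent.Lib.Helper47_SubAPI Cfsg.Agent.Lib.Helper72_WCFinal
open scoped IsMulCommutative

section Tools

/-- **Pairing lemma**: if a finset `s` of a commutative group is stable under multiplication by an
involution `e₁` and all squares lie in `Y`, then `(∏ s) * e₁ ^ (|s| / 2) ∈ Y`. -/
theorem pair_prod {E : Type*} [CommGroup E] [DecidableEq E] (Y : Subgroup E) (e₁ : E)
    (he₁ : e₁ * e₁ = 1) (hne : e₁ ≠ 1) (hsq : ∀ u : E, u * u ∈ Y) :
    ∀ (n : ℕ) (s : Finset E), s.card = n → (∀ u ∈ s, e₁ * u ∈ s) →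
      (∏ u ∈ s, u) * e₁ ^ (s.card / 2) ∈ Y := by
  intro n
  induction n using Nat.strong_induction_on with
  | _ n ih =>
  intro s hn hs
  rcases Finset.eq_empty_or_nonempty s with rfl | ⟨u, hu⟩
  · simp
  have hu' : e₁ * u ∈ s := hs u hu
  have hne' : e₁ * u ≠ u := by
    intro h
    apply hne
    calc e₁ = e₁ * u * u⁻¹ := by group
      _ = u * u⁻¹ := by rw [h]
      _ = 1 := mul_inv_cancel u
  set s' := (s.erase u).erase (e₁ * u) with hs'
  have hmem' : e₁ * u ∈ s.erase u := Finset.mem_erase.mpr ⟨hne', hu'⟩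
  have hcard1 : (s.erase u).card = s.card - 1 := Finset.card_erase_of_mem hu
  have hcard2 : s'.card = (s.erase u).card - 1 := Finset.card_erase_of_mem hmem'
  have hpos : 2 ≤ s.card := by
    have h1 : 0 < (s.erase u).card := Finset.card_pos.mpr ⟨_, hmem'⟩
    omega
  have hcard : s'.card = s.card - 2 := by omega
  have hs'inv : ∀ v ∈ s', e₁ * v ∈ s' := by
    intro v hv
    rw [hs', Finset.mem_erase, Finset.mem_erase] at hv ⊢
    obtain ⟨h1, h2, h3⟩ := hv
    refine ⟨?_, ?_, hs v h3⟩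
    · intro h
      apply h2
      exact mul_left_cancel h
    · intro h
      apply h1
      calc v = e₁ * (e₁ * v) := by rw [← mul_assoc, he₁, one_mul]
        _ = e₁ * u := by rw [h]
  have key := ih s'.card (by omega) s' rfl hs'inv
  have hprod : ∏ v ∈ s, v = u * ((e₁ * u) * ∏ v ∈ s', v) := by
    rw [← Finset.mul_prod_erase s (fun v => v) hu, ← Finset.mul_prod_erase (s.erase u) (fun v => v) hmem']
  have hexp : s.card / 2 = s'.card / 2 + 1 := by
    rw [hcard]
    omega
  rw [hprod, hexp, pow_succ]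
  have e : u * ((e₁ * u) * ∏ v ∈ s', v) * (e₁ ^ (s'.card / 2) * e₁) =
      (u * u) * ((∏ v ∈ s', v) * e₁ ^ (s'.card / 2)) * (e₁ * e₁) := by
    simp only [mul_comm, mul_left_comm, mul_assoc]
  rw [e, he₁, mul_one]
  exact Y.mul_mem (hsq u) key

end Tools

variable {Γ : Type*} [Group Γ]

/-- the final configuration (absolute form, `p = 2`) -/
structure Cfg (T M X : Subgroup Γ) (x : Γ) : Prop where
  hT : IsPGroup 2 T
  hidx : ¬ 2 ∣ T.index
  hTM : T ≤ M
  hM : ∀ k : Γ, k ∈ M ↔ k * x * k⁻¹ = x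
  hNx : Subgroup.normalizer ((Subgroup.zpowers x : Subgroup Γ) : Set Γ) ≤ M
  hmax : ∀ K : Subgroup Γ, T ≤ K → K ≠ ⊤ → K ≤ M
  hne : M ≠ ⊤
  hXn : X.Normal
  hXeq : X = Subgroup.normalClosure {x}
  hXc : ∀ a ∈ X, ∀ b ∈ X, a * b = b * a
  hXp : IsPGroup 2 X
  hPC : Cfsg.pCore 2 Γ ≤ Subgroup.centralizer (X : Set Γ)

namespace Cfg

variable {T M X : Subgroup Γ} {x : Γ} (h : Cfg T M X x)
include h

theorem hxX : x ∈ X := by
  rw [h.hXeq]
  exact Subgroup.subset_normalClosure (Set.mem_singleton x)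

theorem C_normal : (Subgroup.centralizer (X : Set Γ)).Normal := by
  have := h.hXn
  infer_instance

theorem C_le_M : Subgroup.centralizer (X : Set Γ) ≤ M := by
  intro k hk
  rw [h.hM]
  have := Subgroup.mem_centralizer_iff.mp hk x h.hxX
  calc k * x * k⁻¹ = x * k * k⁻¹ := by rw [this]
    _ = x := by group

theorem M_le_normalizer : M ≤ Subgroup.normalizer ((Subgroup.zpowers x : Subgroup Γ) : Set Γ) := by
  intro m hm
  rw [mem_normalizer_iff_cj, cj_zpowers, (h.hM m).mp hm]

/-- a normal subgroup contained in `M` centralizes `X` -/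
theorem core_le {D : Subgroup Γ} (hDn : D.Normal) (hDM : D ≤ M) :
    D ≤ Subgroup.centralizer (X : Set Γ) := by
  intro d hd
  have hle : X ≤ Subgroup.centralizer ({d} : Set Γ) := by
    rw [h.hXeq]
    unfold Subgroup.normalClosure
    rw [Subgroup.closure_le]
    intro w hw
    rw [Group.mem_conjugatesOfSet_iff] at hw
    obtain ⟨a, ha, hconj⟩ := hw
    rw [Set.mem_singleton_iff] at ha
    subst ha
    rw [isConj_iff] at hconj
    obtain ⟨g, rfl⟩ := hconj
    rw [SetLike.mem_coe, Subgroup.mem_centralizer_singleton_iff]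
    have h1 : g⁻¹ * d * g ∈ D := by
      have := hDn.conj_mem d hd g⁻¹
      simpa using this
    have h2 := (h.hM _).mp (hDM h1)
    -- `(g⁻¹ d g) x (g⁻¹ d g)⁻¹ = x`
    calc g * a * g⁻¹ * d = g * ((g⁻¹ * d * g) * a * (g⁻¹ * d * g)⁻¹) * (g⁻¹ * d * g) * g⁻¹ := by
          rw [h2]; group
      _ = d * (g * a * g⁻¹) := by group
  rw [Subgroup.mem_centralizer_iff]
  intro v hv
  exact Subgroup.mem_centralizer_singleton_iff.mp (hle hv)

variable [Finite Γ]

theorem hidx' : ¬ 2 ∣ T.relIndex ⊤ := by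
  rw [Subgroup.relIndex_top_right]; exact h.hidx

theorem hPT : Cfsg.pCore 2 Γ ≤ T := by
  have : Fact (Nat.Prime 2) := ⟨Nat.prime_two⟩
  exact Cfsg.Agent.Lib.Helper47_PLocal.pCore_le_sylow (h.hT.toSylow h.hidx)

/-- Frattini step -/
theorem hTC : T ⊓ Subgroup.centralizer (X : Set Γ) ≤ Cfsg.pCore 2 Γ := by
  have : Fact (Nat.Prime 2) := ⟨Nat.prime_two⟩
  have hCn := h.C_normal
  have h1 : T ⊓ Subgroup.centralizer (X : Set Γ) ≤ Cfsg.pCoreOf 2 (⊤ : Subgroup Γ) := by
    apply inf_le_pCoreOf (A := Subgroup.zpowers x) le_top h.hT h.hidx'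
      (h.hTM.trans h.M_le_normalizer)
    · intro K hTK _ hKne
      exact (h.hmax K hTK hKne).trans h.M_le_normalizer
    · intro htop
      apply h.hne
      rw [eq_top_iff]
      exact htop.trans h.hNx
    · exact le_top
    · rw [Subgroup.normalizer_eq_top_iff.mpr hCn]
    · exact h.C_le_M.trans h.M_le_normalizer
  refine h1.trans ?_
  apply Cfsg.Agent.Lib.Helper47_PLocal.le_pCore
  · apply Subgroup.normalizer_eq_top_iff.mp
    rw [eq_top_iff]
    exact le_normalizer_pCoreOf (p := 2) (⊤ : Subgroup Γ)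
  · exact isPGroup_pCoreOf (p := 2) (⊤ : Subgroup Γ)

end Cfg

end Cfsg.Agent.Lib.Helper72_OffCfg
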