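import Mathlib
import Cfsg.Agent.Lib.Helper72_OffCfg
import Cfsg.Agent.Lib.Helper51_Offender

/-!
Helper library (helper72): quadratic action of a `2`-subgroup `Q` on a normal abelian `2`-subgroup
`X`: the orbit of `w ∈ X` is a coset of the image of the homomorphism `a ↦ [a, w]`; orbit products
are squares when the orbit has at least four points.
-/

set_option autoImplicit false

namespace Cfsg.Agent.Lib.Helper72_OffFam

open Cfsg.Agent.Lib.Helper33_Conj Cfsg.Agent.Lib.Helper33_Alperin Cfsg.Agent.Lib.Helper72_Orbit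
open Cfsg.Agent.Lib.Helper72_Trace Cfsg.Agent.Lib.Helper72_EngelEnd
open Cfsg.Agent.Lib.Helper72_OffCfg Cfsg.Agent.Lib.Helper51_Offender
open scoped IsMulCommutative commutatorElement

variable {Γ : Type*} [Group Γ]

/-- `Q` acts quadratically on `X` -/
def Quad (X Q : Subgroup Γ) : Prop := ∀ v ∈ X, ∀ a ∈ Q, ∀ b ∈ Q, ⁅⁅v, a⁆, b⁆ = 1

theorem Quad.mono {X Q Q' : Subgroup Γ} (h : Quad X Q) (hle : Q' ≤ Q) : Quad X Q' :=
  fun v hv a ha b hb => h v hv a (hle ha) b (hle hb)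

/-- the key identity: `[ab, w] = [a, w] [b, w]` -/
theorem comm_mul_of_quad {X Q : Subgroup Γ} (hXn : X.Normal)
    (hXc : ∀ a ∈ X, ∀ b ∈ X, a * b = b * a) (hq : Quad X Q) {w : Γ} (hw : w ∈ X)
    {a b : Γ} (ha : a ∈ Q) (hb : b ∈ Q) :
    (a * b) * w * (a * b)⁻¹ * w⁻¹ = (a * w * a⁻¹ * w⁻¹) * (b * w * b⁻¹ * w⁻¹) := by
  have hbw : b * w * b⁻¹ ∈ X := hXn.conj_mem w hw b
  have heb : b * w * b⁻¹ * w⁻¹ = ⁅w⁻¹, b⁆ := by
    rw [commutatorElement_def, inv_inv]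
    have := hXc (b * w * b⁻¹) hbw w⁻¹ (X.inv_mem hw)
    rw [this]; group
  have hcomm : Commute (b * w * b⁻¹ * w⁻¹) a := by
    rw [heb]
    exact commutatorElement_eq_one_iff_commute.mp (hq w⁻¹ (X.inv_mem hw) b hb a ha)
  have hebX : b * w * b⁻¹ * w⁻¹ ∈ X := X.mul_mem hbw (X.inv_mem hw)
  have heaX : a * w * a⁻¹ * w⁻¹ ∈ X := X.mul_mem (hXn.conj_mem w hw a) (X.inv_mem hw)
  have e1 : (a * b) * w * (a * b)⁻¹ * w⁻¹ =
      (a * (b * w * b⁻¹ * w⁻¹) * a⁻¹) * (a * w * a⁻¹ * w⁻¹) := by group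
  have e2 : a * (b * w * b⁻¹ * w⁻¹) * a⁻¹ = b * w * b⁻¹ * w⁻¹ := by
    rw [← hcomm.eq]; group
  rw [e1, e2]
  exact hXc _ hebX _ heaX

/-- the homomorphism `a ↦ a w a⁻¹ w⁻¹` -/
def psi {X Q : Subgroup Γ} (hXn : X.Normal) (hXc : ∀ a ∈ X, ∀ b ∈ X, a * b = b * a)
    (hq : Quad X Q) (w : ↥X) : ↥Q →* ↥X :=
  MonoidHom.mk' (fun a => ⟨(a : Γ) * w * (a : Γ)⁻¹ * (w : Γ)⁻¹,
      X.mul_mem (hXn.conj_mem w w.2 a) (X.inv_mem w.2)⟩)
    (fun a b => Subtype.ext (comm_mul_of_quad hXn hXc hq w.2 a.2 b.2))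

theorem coe_psi {X Q : Subgroup Γ} (hXn : X.Normal) (hXc : ∀ a ∈ X, ∀ b ∈ X, a * b = b * a)
    (hq : Quad X Q) (w : ↥X) (a : ↥Q) :
    ((psi hXn hXc hq w a : ↥X) : Γ) = (a : Γ) * w * (a : Γ)⁻¹ * (w : Γ)⁻¹ := rfl

variable [Finite Γ]

theorem conjPerm_eq_psi_mul {X Q : Subgroup Γ} [hXn : X.Normal]
    (hXc : ∀ a ∈ X, ∀ b ∈ X, a * b = b * a) (hq : Quad X Q) (w : ↥X) (a : ↥Q) :
    conjPerm X (a : Γ) w = psi hXn hXc hq w a * w := by
  apply Subtype.ext
  rw [coe_conjPerm_apply, Subgroup.coe_mul, coe_psi]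
  group

open scoped Classical in
/-- **Orbit products are squares** when the orbit has more than two points. -/
theorem orbit_prod_mem_sq {X Q : Subgroup Γ} [hXn : X.Normal] [IsMulCommutative ↥X]
    (hXc : ∀ a ∈ X, ∀ b ∈ X, a * b = b * a) (hQp : IsPGroup 2 Q) (hq : Quad X Q) (w : ↥X)
    (hmoved : ∃ a ∈ Q, conjPerm X a w ≠ w)
    (hidx2 : (psi hXn hXc hq w).ker.index ≠ 2) :
    ∏ u ∈ orb (conjPerm X) Q w, u ∈ (powMonoidHom 2 : ↥X →* ↥X).range := by
  have : Fact (Nat.Prime 2) := ⟨Nat.prime_two⟩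
  set ψ := psi hXn hXc hq w with hψ
  set s := orb (conjPerm X) Q w with hs
  set Y' : Subgroup ↥X := (powMonoidHom 2 : ↥X →* ↥X).range with hY'
  have hs_mem : ∀ u : ↥X, u ∈ s ↔ ∃ a : ↥Q, ψ a * w = u := by
    intro u
    rw [hs, mem_orb]
    constructor
    · rintro ⟨k, hk, rfl⟩
      exact ⟨⟨k, hk⟩, (conjPerm_eq_psi_mul hXc hq w ⟨k, hk⟩).symm⟩
    · rintro ⟨a, rfl⟩
      exact ⟨a, a.2, conjPerm_eq_psi_mul hXc hq w a⟩
  -- the size of the orbit
  have hfin : (ψ.range : Set ↥X).Finite := Set.toFinite _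
  have hs_eq : s = hfin.toFinset.image (fun e => e * w) := by
    ext u
    rw [hs_mem, Finset.mem_image]
    constructor
    · rintro ⟨a, rfl⟩
      exact ⟨ψ a, hfin.mem_toFinset.mpr ⟨a, rfl⟩, rfl⟩
    · rintro ⟨e, he, rfl⟩
      obtain ⟨a, rfl⟩ := hfin.mem_toFinset.mp he
      exact ⟨a, rfl⟩
  have hcard : s.card = ψ.ker.index := by
    rw [hs_eq, Finset.card_image_of_injective _ (mul_left_injective w),
      ← Set.ncard_eq_toFinset_card _ hfin, ← Nat.card_coe_set_eq, Subgroup.index_ker]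
    rfl
  obtain ⟨e, he⟩ := hQp.index ψ.ker
  have he0 : e ≠ 0 := by
    intro h0
    rw [h0, pow_zero, Subgroup.index_eq_one] at he
    obtain ⟨a, ha, hne⟩ := hmoved
    apply hne
    have h1 : (⟨a, ha⟩ : ↥Q) ∈ ψ.ker := by rw [he]; exact Subgroup.mem_top _
    rw [conjPerm_eq_psi_mul hXc hq w ⟨a, ha⟩, ← hψ, MonoidHom.mem_ker.mp h1, one_mul]
  have he1 : e ≠ 1 := by
    intro h1
    rw [h1, pow_one] at he
    exact hidx2 he
  obtain ⟨e', rfl⟩ : ∃ e', e = e' + 2 := ⟨e - 2, by omega⟩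
  -- an involution in the image
  have h2dvd : 2 ∣ Nat.card ψ.range := by
    rw [← Subgroup.index_ker, he]
    exact dvd_pow_self 2 (by omega)
  obtain ⟨e₁', he₁'⟩ := exists_prime_orderOf_dvd_card' 2 h2dvd
  set e₁ : ↥X := (e₁' : ↥X) with he₁
  have he₁sq : e₁ * e₁ = 1 := by
    have h1 : e₁' ^ 2 = 1 := by rw [← he₁']; exact pow_orderOf_eq_one e₁'
    have h2 := congrArg (fun z : ↥ψ.range => (z : ↥X)) h1
    simpa [pow_two] using h2
  have he₁ne : e₁ ≠ 1 := by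
    intro h1
    have : e₁' = 1 := Subtype.ext h1
    rw [this, orderOf_one] at he₁'
    omega
  have hclosed : ∀ u ∈ s, e₁ * u ∈ s := by
    intro u hu
    obtain ⟨a, rfl⟩ := (hs_mem u).mp hu
    obtain ⟨a₁, ha₁⟩ := e₁'.2
    rw [hs_mem]
    refine ⟨a₁ * a, ?_⟩
    rw [map_mul, ha₁, mul_assoc]
  have hsq : ∀ u : ↥X, u * u ∈ Y' := by
    intro u
    exact ⟨u, by simp [pow_two]⟩
  have key := pair_prod Y' e₁ he₁sq he₁ne hsq s.card s rfl hclosed
  have hpow : e₁ ^ (s.card / 2) = 1 := by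
    rw [hcard, he]
    have : 2 ^ (e' + 2) / 2 = 2 * 2 ^ e' := by
      rw [pow_succ, pow_succ]
      omega
    rw [this, pow_mul, pow_two, he₁sq, one_pow]
  rwa [hpow, mul_one] at key

/-! ### The family of offenders -/

/-- quadratic offenders on `X` inside `T` -/
def Off (X T Q : Subgroup Γ) : Prop :=
  Q ≤ T ∧ Quad X Q ∧ ¬ Q ≤ Subgroup.centralizer (X : Set Γ) ∧
    Nat.card X * Nat.card ↥(Q ⊓ Subgroup.centralizer (X : Set Γ)) ≤
      Nat.card Q * Nat.card (CV X Q)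

/-- `|Q : C_Q(X)|` -/
noncomputable def ix (X Q : Subgroup Γ) : ℕ :=
  (Q ⊓ Subgroup.centralizer (X : Set Γ)).relIndex Q

theorem card_mul_ix (X Q : Subgroup Γ) :
    Nat.card ↥(Q ⊓ Subgroup.centralizer (X : Set Γ)) * ix X Q = Nat.card Q :=
  card_mul_relIndex inf_le_left

theorem ix_pos (X Q : Subgroup Γ) : 0 < ix X Q := by
  have h := card_mul_ix X Q
  have hpos : 0 < Nat.card Q := Nat.card_pos
  rcases Nat.eq_zero_or_pos (ix X Q) with h0 | h0
  · rw [h0, mul_zero] at h; omega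
  · exact h0

theorem quad_cj {X Q : Subgroup Γ} [hXn : X.Normal] (hq : Quad X Q) (g : Γ) :
    Quad X (cj g Q) := by
  intro v hv a ha b hb
  rw [mem_cj] at ha hb
  have hv₀ : g⁻¹ * v * g ∈ X := by
    have := hXn.conj_mem v hv g⁻¹
    simpa using this
  have h1 := hq _ hv₀ _ ha _ hb
  have e : ⁅⁅v, a⁆, b⁆ = g * ⁅⁅g⁻¹ * v * g, g⁻¹ * a * g⁆, g⁻¹ * b * g⁆ * g⁻¹ := by
    simp only [commutatorElement_def]; group
  rw [e, h1]; group

theorem cj_centralizer_of_normal {X : Subgroup Γ} [hXn : X.Normal] (g : Γ) :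
    cj g (Subgroup.centralizer (X : Set Γ)) = Subgroup.centralizer (X : Set Γ) := by
  rw [cj_centralizer, cj_eq_of_normal g X]

theorem card_inf_cj {X Q : Subgroup Γ} [hXn : X.Normal] (g : Γ) :
    Nat.card ↥(cj g Q ⊓ Subgroup.centralizer (X : Set Γ)) =
      Nat.card ↥(Q ⊓ Subgroup.centralizer (X : Set Γ)) := by
  have : cj g Q ⊓ Subgroup.centralizer (X : Set Γ) =
      cj g (Q ⊓ Subgroup.centralizer (X : Set Γ)) := by
    rw [cj_inf, cj_centralizer_of_normal]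
  rw [this, card_cj]

theorem card_CV_cj {X Q : Subgroup Γ} [hXn : X.Normal] (g : Γ) :
    Nat.card (CV X (cj g Q)) = Nat.card (CV X Q) := by
  have : CV X (cj g Q) = cj g (CV X Q) := by
    unfold CV
    rw [cj_inf, cj_centralizer, cj_eq_of_normal g X]
  rw [this, card_cj]

theorem off_cj {X T Q : Subgroup Γ} [hXn : X.Normal] (h : Off X T Q) (g : Γ)
    (hg : cj g Q ≤ T) : Off X T (cj g Q) := by
  obtain ⟨-, h2, h3, h4⟩ := h
  refine ⟨hg, quad_cj h2 g, ?_, ?_⟩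
  · intro hle
    apply h3
    rw [cj_le_iff, cj_centralizer_of_normal] at hle
    exact hle
  · rw [card_inf_cj, card_CV_cj, card_cj]
    exact h4

theorem ix_cj {X Q : Subgroup Γ} [hXn : X.Normal] (g : Γ) : ix X (cj g Q) = ix X Q := by
  have h1 := card_mul_ix X (cj g Q)
  have h2 := card_mul_ix X Q
  rw [card_inf_cj, card_cj, ← h2] at h1
  have hpos : 0 < Nat.card ↥(Q ⊓ Subgroup.centralizer (X : Set Γ)) := Nat.card_pos
  exact Nat.eq_of_mul_eq_mul_left hpos h1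

/-- a point stabilizer of index two in an offender `Q` with `|Q : C_Q(X)| ≠ 2` is an offender of
smaller index. -/
theorem exists_smaller {X T Q : Subgroup Γ} [hXn : X.Normal]
    (hXc : ∀ a ∈ X, ∀ b ∈ X, a * b = b * a) (hoff : Off X T Q) (w : ↥X)
    (hidx2 : (psi hXn hXc hoff.2.1 w).ker.index = 2) (hix : ix X Q ≠ 2) :
    ∃ B : Subgroup Γ, Off X T B ∧ ix X B < ix X Q := by
  obtain ⟨hQT, hq, hQC, hQoff⟩ := hoff
  set C := Subgroup.centralizer (X : Set Γ) with hC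
  set ψ := psi hXn hXc hq w with hψ
  set B : Subgroup Γ := ψ.ker.map Q.subtype with hB
  have hmemB : ∀ b : Γ, b ∈ B ↔ b ∈ Q ∧ b * w * b⁻¹ = w := by
    intro b
    constructor
    · rintro ⟨b', hb', rfl⟩
      refine ⟨b'.2, ?_⟩
      have h1 : ((ψ b' : ↥X) : Γ) = 1 := by rw [MonoidHom.mem_ker.mp hb']; rfl
      rw [hψ, coe_psi] at h1
      calc (b' : Γ) * w * (b' : Γ)⁻¹ = ((b' : Γ) * w * (b' : Γ)⁻¹ * (w : Γ)⁻¹) * w := by group
        _ = w := by rw [h1, one_mul]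
    · rintro ⟨hb, hbw⟩
      refine ⟨⟨b, hb⟩, ?_, rfl⟩
      rw [SetLike.mem_coe, MonoidHom.mem_ker]
      apply Subtype.ext
      rw [hψ, coe_psi]
      show b * w * b⁻¹ * (w : Γ)⁻¹ = 1
      rw [hbw, mul_inv_cancel]
  have hBQ : B ≤ Q := Subgroup.map_subtype_le _
  have hCB : Q ⊓ C ≤ B := by
    intro a ha
    rw [hmemB]
    refine ⟨ha.1, ?_⟩
    have := Subgroup.mem_centralizer_iff.mp ha.2 w w.2
    calc a * w * a⁻¹ = (w * a) * a⁻¹ := by rw [this]
      _ = w := by group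
  have hBC : B ⊓ C = Q ⊓ C := le_antisymm (inf_le_inf_right C hBQ) (le_inf hCB inf_le_right)
  have hcardB : Nat.card B * 2 = Nat.card Q := by
    rw [hB, Subgroup.card_map_of_injective Q.subtype_injective, ← hidx2]
    exact Subgroup.card_mul_index ψ.ker
  have hixQ := card_mul_ix X Q
  have hixB := card_mul_ix X B
  rw [← hC] at hixQ hixB
  rw [hBC] at hixB
  have hpos : 0 < Nat.card ↥(Q ⊓ C) := Nat.card_pos
  have hix2 : ix X Q = 2 * ix X B := by
    have : Nat.card ↥(Q ⊓ C) * ix X Q = Nat.card ↥(Q ⊓ C) * (2 * ix X B) := by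
      rw [hixQ, ← hcardB, ← hixB]; ring
    exact Nat.eq_of_mul_eq_mul_left hpos this
  have hBnC : ¬ B ≤ C := by
    intro hle
    have h1 : B = Q ⊓ C := le_antisymm (le_inf hBQ hle) hCB
    apply hix
    have : Nat.card ↥(Q ⊓ C) * ix X Q = Nat.card ↥(Q ⊓ C) * 2 := by
      rw [hixQ, ← hcardB, h1]
    exact Nat.eq_of_mul_eq_mul_left hpos this
  -- the centralizers
  have hwB : (w : Γ) ∈ CV X B := by
    rw [mem_CV]
    refine ⟨w.2, ?_⟩
    intro b hb
    have := ((hmemB b).mp hb).2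
    calc b * w = (b * w * b⁻¹) * b := by group
      _ = w * b := by rw [this]
  have hwQ : (w : Γ) ∉ CV X Q := by
    intro hmem
    have hker : ψ.ker = ⊤ := by
      rw [eq_top_iff]
      intro a _
      rw [MonoidHom.mem_ker]
      apply Subtype.ext
      rw [hψ, coe_psi]
      have := (mem_CV.mp hmem).2 a a.2
      show (a : Γ) * w * (a : Γ)⁻¹ * (w : Γ)⁻¹ = 1
      rw [this]; group
    rw [hker, Subgroup.index_top] at hidx2
    omega
  have hlt : CV X Q < CV X B := by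
    refine lt_of_le_of_ne (CV_anti X hBQ) ?_
    intro heq
    apply hwQ
    rw [heq]; exact hwB
  have h2CV : 2 * Nat.card (CV X Q) ≤ Nat.card (CV X B) := by
    obtain ⟨k, hk⟩ := Subgroup.card_dvd_of_le hlt.le
    have h1 := card_lt_of_lt hlt
    rw [hk] at h1 ⊢
    have hposQ : 0 < Nat.card (CV X Q) := Nat.card_pos
    have hk2 : 2 ≤ k := by
      by_contra hk
      push Not at hk
      interval_cases k
      · omega
      · omega
    calc 2 * Nat.card (CV X Q) = Nat.card (CV X Q) * 2 := by ring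
      _ ≤ Nat.card (CV X Q) * k := Nat.mul_le_mul_left _ hk2
  refine ⟨B, ⟨hBQ.trans hQT, hq.mono hBQ, hBnC, ?_⟩, ?_⟩
  · rw [← hC, hBC]
    calc Nat.card X * Nat.card ↥(Q ⊓ C) ≤ Nat.card Q * Nat.card (CV X Q) := hQoff
      _ = Nat.card B * (2 * Nat.card (CV X Q)) := by rw [← hcardB]; ring
      _ ≤ Nat.card B * Nat.card (CV X B) := Nat.mul_le_mul_left _ h2CV
  · have := ix_pos X B
    omega

end Cfsg.Agent.Lib.Helper72_OffFam
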