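import Mathlib
import Cfsg.Agent.S3195
import Cfsg.Agent.S4309
import Cfsg.Agent.Lib.Helper72_TwoCase
import Cfsg.Agent.Lib.Helper72_OffCfg

/-!
Helper library (helper72): in the final configuration for `p = 2`, an element `q ∈ T` acting as an
involution on `X` yields (Baer–Suzuki in `Γ / C_Γ(X)` and a Sylow argument) an element `c` of odd
prime power order not centralizing `X`, a product of a conjugate of `q` and `q⁻¹` raised to a power,
and an element `n` inverting `c`.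
-/

set_option autoImplicit false

namespace Cfsg.Agent.Lib.Helper72_OffTwoA

open Cfsg.Agent.Lib.Helper33_Conj Cfsg.Agent.Lib.Helper33_Alperin
open Cfsg.Agent.Lib.Helper72_Trace Cfsg.Agent.Lib.Helper72_EngelEnd
open Cfsg.Agent.Lib.Helper72_OffCfg Cfsg.Agent.Lib.Helper72_TwoCase
open scoped Pointwise

variable {Γ : Type*} [Group Γ] [Finite Γ]

/-- **Step 1**: Baer–Suzuki in `Γ / C_Γ(X)`. -/
theorem exists_inverted {T M X : Subgroup Γ} {x : Γ} (h : Cfg T M X x) (q : Γ)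
    (hqC : q ∉ Subgroup.centralizer (X : Set Γ)) (hq2 : q * q ∈ Subgroup.centralizer (X : Set Γ)) :
    ∃ (u₀ : Γ) (r : ℕ), r.Prime ∧ r ≠ 2 ∧
      u₀⁻¹ * q * u₀ * q⁻¹ ∉ Subgroup.centralizer (X : Set Γ) ∧
      (u₀⁻¹ * q * u₀ * q⁻¹) ^ r ∈ Subgroup.centralizer (X : Set Γ) := by
  have : Fact (Nat.Prime 2) := ⟨Nat.prime_two⟩
  have hCn := h.C_normal
  set C := Subgroup.centralizer (X : Set Γ) with hC
  set π : Γ →* Γ ⧸ C := QuotientGroup.mk' C with hπ
  have hπs : Function.Surjective π := QuotientGroup.mk'_surjective C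
  have hπ1 : ∀ g : Γ, π g = 1 ↔ g ∈ C := fun g => QuotientGroup.eq_one_iff g
  set t : Γ ⧸ C := π q with ht
  have htt : t * t = 1 := by
    rw [ht, ← map_mul, hπ1]; exact hq2
  have htinv : t⁻¹ = t := inv_eq_of_mul_eq_one_left htt
  have hnot : t ∉ Cfsg.pCore 2 (Γ ⧸ C) := by
    intro hmem
    set D : Subgroup Γ := (Cfsg.pCore 2 (Γ ⧸ C)).comap π with hD
    have hDn : D.Normal := Subgroup.Normal.comap inferInstance π
    have hDM : D ≤ M := by
      intro d hd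
      have h1 : π d ∈ Cfsg.pCore 2 (Γ ⧸ C) := hd
      have h2 := Cfsg.Agent.Lib.Helper47_PLocal.pCore_le_sylow
        ((h.hT.toSylow h.hidx).mapSurjective hπs) h1
      rw [Sylow.coe_mapSurjective] at h2
      obtain ⟨t₁, ht₁, ht₁d⟩ := h2
      have h3 : t₁⁻¹ * d ∈ C := by
        rw [← hπ1, map_mul, map_inv]
        have : π t₁ = π d := ht₁d
        rw [this, inv_mul_cancel]
      have h4 : d = t₁ * (t₁⁻¹ * d) := by group
      rw [h4]
      exact M.mul_mem (h.hTM ht₁) (h.C_le_M h3)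
    exact hqC (h.core_le hDn hDM hmem)
  obtain ⟨u, k, hk, huk, hu1, hinv⟩ := Cfsg.Agent.S3195.exists_inverted_odd htt hnot
  -- an element of odd prime order
  have hord1 : orderOf u ≠ 1 := fun h1 => hu1 (orderOf_eq_one_iff.mp h1)
  have hord0 : orderOf u ≠ 0 := (orderOf_pos u).ne'
  set r := (orderOf u).minFac with hr
  have hrp : r.Prime := Nat.minFac_prime hord1
  have hrd : r ∣ orderOf u := Nat.minFac_dvd _
  have hrk : r ∣ k := hrd.trans (orderOf_dvd_of_pow_eq_one huk)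
  have hr2 : r ≠ 2 := by
    intro h2
    rw [h2] at hrk
    exact (Nat.not_even_iff_odd.mpr hk) (even_iff_two_dvd.mpr hrk)
  set u₁ := u ^ (orderOf u / r) with hu₁
  have hu₁ord : orderOf u₁ = r := orderOf_pow_orderOf_div hord0 hrd
  have hu₁r : u₁ ^ r = 1 := by rw [← hu₁ord]; exact pow_orderOf_eq_one u₁
  have hinv₁ : t * u₁ * t = u₁⁻¹ := by
    have h1 : t * u * t⁻¹ = u⁻¹ := by rw [htinv]; exact hinv
    have h2 : t * u₁ * t⁻¹ = u₁⁻¹ := by
      rw [hu₁, ← conj_pow, h1, inv_pow]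
    rw [htinv] at h2
    exact h2
  obtain ⟨u₀, hu₀⟩ := hπs u₁
  have hπc : π (u₀⁻¹ * q * u₀ * q⁻¹) = u₁⁻¹ * u₁⁻¹ := by
    rw [map_mul, map_mul, map_mul, map_inv, map_inv, hu₀, ← ht, htinv]
    rw [mul_assoc, mul_assoc, ← mul_assoc t, hinv₁]
  refine ⟨u₀, r, hrp, hr2, ?_, ?_⟩
  · rw [← hπ1, hπc]
    intro h1
    -- `u₁ ^ 2 = 1` and `u₁ ^ r = 1` give `u₁ = 1`
    have h2 : u₁ ^ 2 = 1 := by
      have : (u₁ ^ 2)⁻¹ = 1 := by rw [pow_two, mul_inv_rev]; exact h1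
      exact inv_eq_one.mp this
    have h3 : orderOf u₁ ∣ 2 := orderOf_dvd_of_pow_eq_one h2
    rw [hu₁ord] at h3
    rcases (Nat.dvd_prime Nat.prime_two).mp h3 with h4 | h4
    · exact hrp.one_lt.ne' h4
    · exact hr2 h4
  · rw [← hπ1, map_pow, hπc, ← pow_two, ← pow_mul, mul_comm, pow_mul, inv_pow, hu₁r, inv_one,
      one_pow]

/-- powers of elements inverse to each other modulo a normal subgroup -/
theorem pow_mul_pow_mem {N : Subgroup Γ} (hN : N.Normal) {y z : Γ} (hyz : y * z ∈ N) (a : ℕ) :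
    y ^ a * z ^ a ∈ N := by
  induction a with
  | zero => simp
  | succ a ih =>
    have e : y ^ (a + 1) * z ^ (a + 1) = y * (y ^ a * z ^ a) * y⁻¹ * (y * z) := by
      rw [pow_succ' y, pow_succ z]; group
    rw [e]
    exact N.mul_mem (hN.conj_mem _ ih y) hyz

/-- **Steps 2–4**: an element `c` of odd prime power order outside `C_Γ(X)`, a power of
`u₀⁻¹ q u₀ q⁻¹`, and an element `n` inverting it. -/
theorem exists_c_n {T M X : Subgroup Γ} {x : Γ} (h : Cfg T M X x) (q : Γ) (hqT : q ∈ T)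
    (hqC : q ∉ Subgroup.centralizer (X : Set Γ)) (hq2 : q * q ∈ Subgroup.centralizer (X : Set Γ)) :
    ∃ (u₀ c n : Γ) (r j a : ℕ), r.Prime ∧ r ≠ 2 ∧ c = (u₀⁻¹ * q * u₀ * q⁻¹) ^ a ∧
      c ^ (r ^ j) = 1 ∧ c ∉ Subgroup.centralizer (X : Set Γ) ∧ n * c * n⁻¹ = c⁻¹ := by
  have : Fact (Nat.Prime 2) := ⟨Nat.prime_two⟩
  obtain ⟨u₀, r, hrp, hr2, hc₁C, hc₁r⟩ := exists_inverted h q hqC hq2
  have : Fact r.Prime := ⟨hrp⟩
  set C := Subgroup.centralizer (X : Set Γ) with hC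
  set c₁ := u₀⁻¹ * q * u₀ * q⁻¹ with hc₁
  obtain ⟨j, m', hm', hN₁⟩ :=
    Nat.exists_eq_pow_mul_and_not_dvd (orderOf_pos c₁).ne' r hrp.ne_one
  set c := c₁ ^ m' with hc
  have hcr : c ^ (r ^ j) = 1 := by
    rw [hc, ← pow_mul, mul_comm, ← hN₁, pow_orderOf_eq_one]
  have hcC : c ∉ C := by
    intro hcmem
    apply hc₁C
    have hcop : m'.Coprime r := ((Nat.Prime.coprime_iff_not_dvd hrp).mpr hm').symm
    exact mem_of_pow_mem_of_coprime C c₁ hcop hcmem hc₁r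
  -- inversion modulo `P = O₂(Γ)`
  set P := Cfsg.pCore 2 Γ with hP
  have hPn : P.Normal := Cfsg.pCore_normal 2 Γ
  have hPp : IsPGroup 2 P := h.hT.to_le h.hPT
  have hsP : q * q ∈ P := h.hTC ⟨T.mul_mem hqT hqT, hq2⟩
  have hmodP₁ : q * c₁ * q⁻¹ * c₁ ∈ P := by
    have e : q * c₁ * q⁻¹ * c₁ =
        (q * u₀⁻¹) * (q * (u₀ * (q * q)⁻¹ * u₀⁻¹) * q⁻¹ * (q * q)) * (q * u₀⁻¹)⁻¹ := by
      rw [hc₁]; group
    rw [e]
    apply hPn.conj_mem
    apply P.mul_mem _ hsP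
    apply hPn.conj_mem
    apply hPn.conj_mem
    exact P.inv_mem hsP
  have hmodP : q * c * q⁻¹ * c ∈ P := by
    have := pow_mul_pow_mem hPn hmodP₁ m'
    rwa [conj_pow] at this
  -- the Sylow argument
  have hcp : IsPGroup r (Subgroup.zpowers c) := by
    rintro ⟨z, hz⟩
    obtain ⟨i, rfl⟩ := Subgroup.mem_zpowers_iff.mp hz
    refine ⟨j, Subtype.ext ?_⟩
    show (c ^ i) ^ (r ^ j) = 1
    rw [← zpow_natCast, ← zpow_mul, mul_comm, zpow_mul, zpow_natCast, hcr, one_zpow]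
  set Y₀ : Subgroup Γ := P ⊔ Subgroup.zpowers c with hY₀
  have hidx : ¬ r ∣ (Subgroup.zpowers c).relIndex Y₀ := by
    intro hdvd
    have h1 : (Subgroup.zpowers c).relIndex (Subgroup.zpowers c ⊔ P) =
        (Subgroup.zpowers c).relIndex P := Cfsg.Agent.S4309.relIndex_sup_eq _ P
    rw [hY₀, sup_comm, h1] at hdvd
    have h2 : (Subgroup.zpowers c).relIndex P ∣ Nat.card P := Subgroup.index_dvd_card _
    obtain ⟨e, he⟩ := IsPGroup.exists_card_eq hPp
    rw [he] at h2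
    have h3 : r ∣ 2 := hrp.dvd_of_dvd_pow (hdvd.trans h2)
    exact hr2 ((Nat.prime_dvd_prime_iff_eq hrp Nat.prime_two).mp h3)
  have hqc : cj q (Subgroup.zpowers c) ≤ Y₀ := by
    rw [cj_zpowers, Subgroup.zpowers_le]
    have e : q * c * q⁻¹ = (q * c * q⁻¹ * c) * c⁻¹ := by group
    rw [e]
    exact Y₀.mul_mem (Subgroup.mem_sup_left hmodP)
      (Subgroup.mem_sup_right (Subgroup.inv_mem _ (Subgroup.mem_zpowers c)))
  obtain ⟨m, hm, hmle⟩ := exists_cj_le_of_relIndex (p := r) (le_sup_right : Subgroup.zpowers c ≤ Y₀)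
    hcp hidx hqc (isPGroup_cj hcp)
  have hm' : m ∈ (P : Set Γ) * (Subgroup.zpowers c : Set Γ) := by
    rw [← Subgroup.normal_mul]; exact hm
  obtain ⟨s, hs, t', ht', rfl⟩ := Set.mem_mul.mp hm'
  have hs : s ∈ P := hs
  have ht' : t' ∈ Subgroup.zpowers c := ht'
  set n := t'⁻¹ * (s * t') * q with hn
  have hnZ : cj n (Subgroup.zpowers c) ≤ Subgroup.zpowers c := by
    have e : n = t'⁻¹ * ((s * t') * q) := by rw [hn]; group
    rw [e, cj_mul, cj_mul]
    have h1 := cj_mono (g := t'⁻¹) hmle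
    rwa [cj_of_mem (Subgroup.inv_mem _ ht')] at h1
  have hinZ : n * c * n⁻¹ * c ∈ Subgroup.zpowers c :=
    Subgroup.mul_mem _ (hnZ (conj_mem_cj (Subgroup.mem_zpowers c))) (Subgroup.mem_zpowers c)
  have hinP : n * c * n⁻¹ * c ∈ P := by
    have hs' : t'⁻¹ * s * t' ∈ P := by
      have := hPn.conj_mem s hs t'⁻¹
      simpa using this
    have e : n * c * n⁻¹ * c =
        (t'⁻¹ * s * t') * (q * c * q⁻¹ * c) * (c⁻¹ * (t'⁻¹ * s * t')⁻¹ * c⁻¹⁻¹) := by
      rw [hn]; group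
    rw [e]
    exact P.mul_mem (P.mul_mem hs' hmodP) (hPn.conj_mem _ (P.inv_mem hs') c⁻¹)
  have hdisj : Disjoint P (Subgroup.zpowers c) :=
    IsPGroup.disjoint_of_ne 2 r (fun h2 => hr2 h2.symm) P (Subgroup.zpowers c) hPp hcp
  have h1 : n * c * n⁻¹ * c = 1 := by
    have := Subgroup.disjoint_def.mp hdisj hinP hinZ
    exact this
  exact ⟨u₀, c, n, r, j, m', hrp, hr2, rfl, hcr, hcC, eq_inv_of_mul_eq_one_left h1⟩

end Cfsg.Agent.Lib.Helper72_OffTwoA
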