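import Mathlib
import Cfsg.Agent.Lib.Helper72_OffTwoA
import Cfsg.Agent.Lib.Helper72_S4Section
import Cfsg.Agent.Lib.Helper51_Offender

/-!
Helper library (helper72): in the final configuration for `p = 2`, an element of `T` acting on `X`
as an involution with centralizer of index two ("transvection") forces a section isomorphic to the
symmetric group of degree four.
-/

set_option autoImplicit false

namespace Cfsg.Agent.Lib.Helper72_OffTwoB

open Cfsg.Agent.Lib.Helper33_Conj Cfsg.Agent.Lib.Helper33_Alperin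
open Cfsg.Agent.Lib.Helper72_Trace Cfsg.Agent.Lib.Helper72_EngelEnd
open Cfsg.Agent.Lib.Helper72_OffCfg Cfsg.Agent.Lib.Helper72_TwoCase
open Cfsg.Agent.Lib.Helper72_OffTwoA Cfsg.Agent.Lib.Helper51_Offender
open scoped IsMulCommutative

variable {Γ : Type*} [Group Γ] [Finite Γ]

theorem cj_CV (g : Γ) (X Z : Subgroup Γ) : cj g (CV X Z) = CV (cj g X) (cj g Z) := by
  unfold CV
  rw [cj_inf, cj_centralizer]

/-- `v` commutes with every element of `zpowers c` iff it commutes with `c` -/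
theorem mem_CV_zpowers {X : Subgroup Γ} {c v : Γ} :
    v ∈ CV X (Subgroup.zpowers c) ↔ v ∈ X ∧ c * v = v * c := by
  rw [mem_CV]
  constructor
  · rintro ⟨h1, h2⟩
    exact ⟨h1, h2 c (Subgroup.mem_zpowers c)⟩
  · rintro ⟨h1, h2⟩
    refine ⟨h1, ?_⟩
    intro b hb
    obtain ⟨i, rfl⟩ := Subgroup.mem_zpowers_iff.mp hb
    have : Commute c v := h2
    exact (this.zpow_left i).eq

theorem involves_S4_of_involution {T M X : Subgroup Γ} {x : Γ} (h : Cfg T M X x) (q : Γ)
    (hqT : q ∈ T) (hqC : q ∉ Subgroup.centralizer (X : Set Γ))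
    (hq2 : q * q ∈ Subgroup.centralizer (X : Set Γ))
    (hqX : Nat.card X ≤ 2 * Nat.card (CV X (Subgroup.zpowers q))) :
    Cfsg.Involves (Equiv.Perm (Fin 4)) Γ := by
  have : Fact (Nat.Prime 2) := ⟨Nat.prime_two⟩
  obtain ⟨u₀, c, n, r, j, a, hrp, hr2, hca, hcr, hcC, hinv⟩ := exists_c_n h q hqT hqC hq2
  have : Fact r.Prime := ⟨hrp⟩
  have hXn := h.hXn
  have hXc := h.hXc
  have hXcomm : IsMulCommutative ↥X := ⟨⟨fun a b => Subtype.ext (hXc a a.2 b b.2)⟩⟩
  -- the commutator map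
  set ν : ↥X →* ↥X := (MulAut.conjNormal c : MulAut ↥X).toMonoidHom / MonoidHom.id ↥X with hν
  have hνval : ∀ v : ↥X, ((ν v : ↥X) : Γ) = c * v * c⁻¹ * (v : Γ)⁻¹ := by
    intro v
    rw [hν, MonoidHom.div_apply, div_eq_mul_inv, Subgroup.coe_mul, Subgroup.coe_inv]
    rfl
  set W : Subgroup Γ := ν.range.map X.subtype with hW
  have hmemW : ∀ w : Γ, w ∈ W ↔ ∃ v ∈ X, w = c * v * c⁻¹ * v⁻¹ := by
    intro w
    constructor
    · rintro ⟨w', ⟨v, rfl⟩, rfl⟩
      exact ⟨v, v.2, hνval v⟩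
    · rintro ⟨v, hv, rfl⟩
      exact ⟨ν ⟨v, hv⟩, ⟨⟨v, hv⟩, rfl⟩, hνval ⟨v, hv⟩⟩
  have hWX : W ≤ X := by
    rintro _ ⟨w', -, rfl⟩
    exact w'.2
  -- the centralizer of `c` in `X`
  set K₀ : Subgroup Γ := CV X (Subgroup.zpowers c) with hK₀
  have hker : ν.ker.map X.subtype = K₀ := by
    ext v
    rw [hK₀, mem_CV_zpowers]
    constructor
    · rintro ⟨v', hv', rfl⟩
      refine ⟨v'.2, ?_⟩
      have h1 : ((ν v' : ↥X) : Γ) = 1 := by rw [MonoidHom.mem_ker.mp hv']; rfl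
      rw [hνval] at h1
      calc c * (v' : Γ) = (c * v' * c⁻¹ * (v' : Γ)⁻¹) * v' * c := by group
        _ = v' * c := by rw [h1, one_mul]
    · rintro ⟨hv, hcv⟩
      refine ⟨⟨v, hv⟩, ?_, rfl⟩
      rw [SetLike.mem_coe, MonoidHom.mem_ker]
      apply Subtype.ext
      rw [hνval]
      show c * v * c⁻¹ * v⁻¹ = 1
      rw [hcv]; group
  have hcardK : Nat.card ν.ker = Nat.card K₀ := by
    rw [← hker, Subgroup.card_map_of_injective X.subtype_injective]
  have hcardW : Nat.card W = Nat.card ν.range := by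
    rw [hW, Subgroup.card_map_of_injective X.subtype_injective]
  have hcardX : Nat.card X = Nat.card K₀ * Nat.card W := by
    rw [← hcardK, hcardW, ← Subgroup.index_ker, Subgroup.card_mul_index]
  -- `|X| ≤ 4 |C_X(c)|`
  have hbound : Nat.card X ≤ 4 * Nat.card K₀ := by
    set F₁ := CV X (Subgroup.zpowers q) with hF₁
    set F₂ := CV X (Subgroup.zpowers (u₀⁻¹ * q * u₀)) with hF₂
    have hF₂eq : F₂ = cj u₀⁻¹ F₁ := by
      rw [hF₁, cj_CV, cj_eq_of_normal u₀⁻¹ X, cj_zpowers, inv_inv]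
    have hcardF : Nat.card F₂ = Nat.card F₁ := by rw [hF₂eq, card_cj]
    have hle : F₁ ⊓ F₂ ≤ K₀ := by
      intro v hv
      rw [hK₀, mem_CV_zpowers]
      have h1 := mem_CV_zpowers.mp hv.1
      have h2 := mem_CV_zpowers.mp hv.2
      refine ⟨h1.1, ?_⟩
      have hq' : Commute (u₀⁻¹ * q * u₀) v := h2.2
      have hq : Commute q v := h1.2
      have hc₁ : Commute (u₀⁻¹ * q * u₀ * q⁻¹) v := hq'.mul_left hq.inv_left
      rw [hca]
      exact (hc₁.pow_left a).eq
    have h3 := card_mul_card_le F₁ F₂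
    have h4 : Nat.card ↥(F₁ ⊔ F₂) ≤ Nat.card X :=
      Subgroup.card_le_of_le (sup_le (CV_le _ _) (CV_le _ _))
    have h5 : Nat.card ↥(F₁ ⊓ F₂) ≤ Nat.card K₀ := Subgroup.card_le_of_le hle
    rw [hcardF] at h3
    have hXpos : 0 < Nat.card X := Nat.card_pos
    have h6 : Nat.card F₁ * Nat.card F₁ ≤ Nat.card X * Nat.card K₀ :=
      h3.trans (Nat.mul_le_mul h4 h5)
    have h7 : Nat.card X * Nat.card X ≤ Nat.card X * (4 * Nat.card K₀) := by
      calc Nat.card X * Nat.card X ≤ (2 * Nat.card F₁) * (2 * Nat.card F₁) :=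
            Nat.mul_le_mul hqX hqX
        _ = 4 * (Nat.card F₁ * Nat.card F₁) := by ring
        _ ≤ 4 * (Nat.card X * Nat.card K₀) := Nat.mul_le_mul_left 4 h6
        _ = Nat.card X * (4 * Nat.card K₀) := by ring
    exact Nat.le_of_mul_le_mul_left h7 hXpos
  have hW4le : Nat.card W ≤ 4 := by
    have hKpos : 0 < Nat.card K₀ := Nat.card_pos
    rw [hcardX] at hbound
    have : Nat.card K₀ * Nat.card W ≤ Nat.card K₀ * 4 := by rw [mul_comm _ 4]; exact hbound
    exact Nat.le_of_mul_le_mul_left this hKpos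
  -- `W ∩ C_X(c) = 1`
  have hXp := h.hXp
  have hdisjK : ∀ w ∈ W, c * w = w * c → w = 1 := by
    intro w hw hcw
    obtain ⟨v, hv, rfl⟩ := (hmemW w).mp hw
    set w := c * v * c⁻¹ * v⁻¹ with hwdef
    have hwX : w ∈ X := hWX hw
    have h1 : c * v * c⁻¹ = v * w := by
      have : c * v * c⁻¹ = w * v := by rw [hwdef]; group
      rw [this]
      exact hXc w hwX v hv
    have h2 : c * w * c⁻¹ = w := by rw [hcw]; group
    have h3 := conj_pow_eq h1 h2 (r ^ j)
    rw [hcr] at h3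
    have h4 : w ^ (r ^ j) = 1 := by
      have : v * 1 = v * w ^ (r ^ j) := by rw [mul_one]; simpa using h3
      exact (mul_left_cancel this).symm
    obtain ⟨e, he⟩ := hXp ⟨w, hwX⟩
    have h5 : w ^ (2 ^ e) = 1 := by
      have := congrArg Subtype.val he
      simpa using this
    have hcop : (r ^ j).Coprime (2 ^ e) := by
      apply Nat.Coprime.pow
      rw [Nat.coprime_primes hrp Nat.prime_two]
      exact hr2
    have h6 := mem_of_pow_mem_of_coprime (⊥ : Subgroup Γ) w hcop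
      (by rw [h4]; exact Subgroup.one_mem _) (by rw [h5]; exact Subgroup.one_mem _)
    exact Subgroup.mem_bot.mp h6
  -- `W ≠ 1`
  have hWne : ∃ w ∈ W, w ≠ 1 := by
    by_contra hcon
    push Not at hcon
    apply hcC
    rw [Subgroup.mem_centralizer_iff]
    intro v hv
    have h1 := hcon _ ((hmemW _).mpr ⟨v, hv, rfl⟩)
    calc v * c = (c * v * c⁻¹ * v⁻¹)⁻¹ * c * v := by group
      _ = c * v := by rw [h1]; group
  obtain ⟨w₀, hw₀W, hw₀1⟩ := hWne
  -- `c` and `n` normalize `W`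
  have hcW : c ∈ Subgroup.normalizer (W : Set Γ) := by
    apply mem_normalizer_of_cj_le'
    intro w hw
    rw [mem_cj] at hw
    obtain ⟨v, hv, hvw⟩ := (hmemW _).mp hw
    rw [hmemW]
    refine ⟨c * v * c⁻¹, hXn.conj_mem v hv c, ?_⟩
    have : w = c * (c⁻¹ * w * c) * c⁻¹ := by group
    rw [this, hvw]; group
  have hnW : n ∈ Subgroup.normalizer (W : Set Γ) := by
    apply mem_normalizer_of_cj_le'
    intro w hw
    rw [mem_cj] at hw
    obtain ⟨v, hv, hvw⟩ := (hmemW _).mp hw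
    rw [hmemW]
    set v' := n * v * n⁻¹ with hv'
    have hv'X : v' ∈ X := hXn.conj_mem v hv n
    have hv''X : c⁻¹ * v'⁻¹ * c ∈ X := by
      have := hXn.conj_mem _ (X.inv_mem hv'X) c⁻¹
      simpa using this
    refine ⟨c⁻¹ * v'⁻¹ * c, hv''X, ?_⟩
    have e1 : w = (n * c * n⁻¹) * v' * (n * c * n⁻¹)⁻¹ * v'⁻¹ := by
      have : w = n * (n⁻¹ * w * n) * n⁻¹ := by group
      rw [this, hvw, hv']; group
    rw [e1, hinv]
    have e2 : c * (c⁻¹ * v'⁻¹ * c) * c⁻¹ * (c⁻¹ * v'⁻¹ * c)⁻¹ = v'⁻¹ * (c⁻¹ * v' * c) := by group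
    rw [e2]
    have hcX : c⁻¹ * v' * c ∈ X := by
      have := hXn.conj_mem _ hv'X c⁻¹
      simpa using this
    have := hXc (c⁻¹ * v' * c) hcX v'⁻¹ (X.inv_mem hv'X)
    rw [← this]; group
  -- `|W| = 4`
  have hW4 : Nat.card W = 4 := by
    obtain ⟨e, he⟩ := IsPGroup.exists_card_eq (hXp.to_le hWX)
    have he2 : e ≤ 2 := by
      by_contra hgt
      push Not at hgt
      have : 2 ^ 3 ≤ 2 ^ e := Nat.pow_le_pow_right (by norm_num) hgt
      omega
    have he0 : e ≠ 0 := by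
      intro h0
      rw [h0, pow_zero] at he
      have := (Subgroup.card_eq_one.mp he)
      rw [this, Subgroup.mem_bot] at hw₀W
      exact hw₀1 hw₀W
    have he1 : e ≠ 1 := by
      intro h1
      rw [h1, pow_one] at he
      obtain ⟨y, -, hyuniq⟩ := (Nat.card_eq_two_iff' (1 : W)).mp he
      have h2 : (⟨w₀, hw₀W⟩ : W) = y := hyuniq _ (fun hh => hw₀1 (congrArg Subtype.val hh))
      have hcw₀ : c * w₀ * c⁻¹ ∈ W := by
        have := (mem_normalizer_iff_cj.mp hcW)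
        rw [← this]
        exact conj_mem_cj hw₀W
      have h3 : (⟨c * w₀ * c⁻¹, hcw₀⟩ : W) = y := hyuniq _ (fun hh => by
        have h4 : c * w₀ * c⁻¹ = 1 := congrArg Subtype.val hh
        apply hw₀1
        calc w₀ = c⁻¹ * (c * w₀ * c⁻¹) * c := by group
          _ = 1 := by rw [h4]; group)
      have h5 : c * w₀ * c⁻¹ = w₀ := by
        have := h3.trans h2.symm
        exact congrArg Subtype.val this
      apply hw₀1
      apply hdisjK w₀ hw₀W
      calc c * w₀ = (c * w₀ * c⁻¹) * c := by group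
        _ = w₀ * c := by rw [h5]
    have : e = 2 := by omega
    rw [he, this]
    norm_num
  -- the complement
  set D : Subgroup Γ := Subgroup.normalizer (W : Set Γ) ⊓
    Subgroup.normalizer ((Subgroup.zpowers c : Subgroup Γ) : Set Γ) with hD
  have hcp : IsPGroup r (Subgroup.zpowers c) := by
    rintro ⟨z, hz⟩
    obtain ⟨i, rfl⟩ := Subgroup.mem_zpowers_iff.mp hz
    refine ⟨j, Subtype.ext ?_⟩
    show (c ^ i) ^ (r ^ j) = 1
    rw [← zpow_natCast, ← zpow_mul, mul_comm, zpow_mul, zpow_natCast, hcr, one_zpow]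
  have hdisjWc : Disjoint W (Subgroup.zpowers c) :=
    IsPGroup.disjoint_of_ne 2 r (fun h2 => hr2 h2.symm) W (Subgroup.zpowers c)
      (hXp.to_le hWX) hcp
  have hdisj : W ⊓ D = ⊥ := by
    rw [eq_bot_iff]
    intro w hw
    rw [Subgroup.mem_bot]
    have hwW : w ∈ W := hw.1
    have hwN : w ∈ Subgroup.normalizer ((Subgroup.zpowers c : Subgroup Γ) : Set Γ) := hw.2.2
    apply hdisjK w hwW
    -- `w c w⁻¹ c⁻¹ ∈ W ∩ ⟨c⟩ = 1`
    have h1 : w * c * w⁻¹ * c⁻¹ ∈ Subgroup.zpowers c := by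
      have := (Subgroup.mem_normalizer_iff.mp hwN c).mp (Subgroup.mem_zpowers c)
      exact Subgroup.mul_mem _ this (Subgroup.inv_mem _ (Subgroup.mem_zpowers c))
    have h2 : w * c * w⁻¹ * c⁻¹ ∈ W := by
      have e : w * c * w⁻¹ * c⁻¹ = w * (c * w⁻¹ * c⁻¹) := by group
      rw [e]
      apply W.mul_mem hwW
      have := (mem_normalizer_iff_cj.mp hcW)
      rw [← this]
      exact conj_mem_cj (W.inv_mem hwW)
    have h3 : w * c * w⁻¹ * c⁻¹ = 1 := Subgroup.disjoint_def.mp hdisjWc h2 h1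
    calc c * w = (w * c * w⁻¹ * c⁻¹)⁻¹ * w * c := by group
      _ = w * c := by rw [h3]; group
  have hcD : c ∈ D := by
    refine Subgroup.mem_inf.mpr ⟨hcW, ?_⟩
    exact Subgroup.le_normalizer (Subgroup.mem_zpowers c)
  have hnD : n ∈ D := by
    refine Subgroup.mem_inf.mpr ⟨hnW, ?_⟩
    rw [mem_normalizer_iff_cj]
    apply eq_of_cj_le'
    rw [cj_zpowers, hinv, Subgroup.zpowers_le]
    exact Subgroup.inv_mem _ (Subgroup.mem_zpowers c)
  have hodd : Odd (orderOf c) := by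
    have h1 : orderOf c ∣ r ^ j := orderOf_dvd_of_pow_eq_one hcr
    have hrodd : Odd r := hrp.odd_of_ne_two hr2
    exact Odd.of_dvd_nat (hrodd.pow) h1
  exact Cfsg.Agent.Lib.Helper72_S4Section.involves_S4 W D inf_le_left hdisj hW4 c n hcD hnD hodd
    ⟨w₀, hw₀W, fun hcw => hw₀1 (hdisjK w₀ hw₀W hcw)⟩ hinv

end Cfsg.Agent.Lib.Helper72_OffTwoB
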