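import Mathlib
import Cfsg.Agent.Lib.Helper72_OffFam
import Cfsg.Agent.Lib.Helper72_OffTwoB

/-!
Helper library (helper72): the endgame of Glauberman's weak closure theorem for `p = 2` in groups
not involving the symmetric group of degree four: the final configuration admits no quadratic
offender on `X`.
-/

set_option autoImplicit false

namespace Cfsg.Agent.Lib.Helper72_OffEnd

open Cfsg.Agent.Lib.Helper33_Conj Cfsg.Agent.Lib.Helper33_Alperin Cfsg.Agent.Lib.Helper72_Orbit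
open Cfsg.Agent.Lib.Helper72_Trace Cfsg.Agent.Lib.Helper72_EngelEnd
open Cfsg.Agent.Lib.Helper72_OffCfg Cfsg.Agent.Lib.Helper51_Offender
open Cfsg.Agent.Lib.Helper72_OffFam Cfsg.Agent.Lib.Helper72_OffTwoB
open scoped IsMulCommutative

variable {Γ : Type*} [Group Γ] [Finite Γ]

open scoped Classical in
theorem offender_false {T M X : Subgroup Γ} {x : Γ} (h : Cfg T M X x)
    (hS4 : ¬ Cfsg.Involves (Equiv.Perm (Fin 4)) Γ)
    (Q₀ : Subgroup Γ) (hQ₀ : Off X T Q₀) : False := by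
  have : Fact (Nat.Prime 2) := ⟨Nat.prime_two⟩
  have hXn := h.hXn
  have hXc := h.hXc
  have hXcomm : IsMulCommutative ↥X := ⟨⟨fun a b => Subtype.ext (hXc a a.2 b b.2)⟩⟩
  set C := Subgroup.centralizer (X : Set Γ) with hC
  let 𝒪 : Set (Subgroup Γ) := {Q | Off X T Q}
  obtain ⟨Q₁, hQ₁, hmin⟩ := Set.Finite.exists_minimalFor (ix X) 𝒪 (Set.toFinite 𝒪) ⟨Q₀, hQ₀⟩
  have hQ₁' : Off X T Q₁ := hQ₁
  obtain ⟨hQT, hq, hQC, hQoff⟩ := hQ₁'
  by_cases h2 : ix X Q₁ = 2
  · -- the transvection case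
    obtain ⟨q, hqQ, hqC⟩ := SetLike.not_le_iff_exists.mp hQC
    have hq2 : q * q ∈ Q₁ ⊓ C := by
      have hidx : ((Q₁ ⊓ C).subgroupOf Q₁).index = 2 := h2
      have := Subgroup.mul_self_mem_of_index_two hidx (⟨q, hqQ⟩ : ↥Q₁)
      rw [Subgroup.mem_subgroupOf] at this
      exact this
    have hqX : Nat.card X ≤ 2 * Nat.card (CV X (Subgroup.zpowers q)) := by
      have h3 := card_mul_ix X Q₁
      rw [h2, ← hC] at h3
      have h4 : Nat.card (CV X Q₁) ≤ Nat.card (CV X (Subgroup.zpowers q)) :=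
        Subgroup.card_le_of_le (CV_anti X (by rw [Subgroup.zpowers_le]; exact hqQ))
      have hpos : 0 < Nat.card ↥(Q₁ ⊓ C) := Nat.card_pos
      have h5 : Nat.card ↥(Q₁ ⊓ C) * Nat.card X ≤
          Nat.card ↥(Q₁ ⊓ C) * (2 * Nat.card (CV X (Subgroup.zpowers q))) := by
        calc Nat.card ↥(Q₁ ⊓ C) * Nat.card X = Nat.card X * Nat.card ↥(Q₁ ⊓ C) := by ring
          _ ≤ Nat.card Q₁ * Nat.card (CV X Q₁) := hQoff
          _ ≤ Nat.card Q₁ * Nat.card (CV X (Subgroup.zpowers q)) := Nat.mul_le_mul_left _ h4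
          _ = Nat.card ↥(Q₁ ⊓ C) * (2 * Nat.card (CV X (Subgroup.zpowers q))) := by
            rw [← h3]; ring
      exact Nat.le_of_mul_le_mul_left h5 hpos
    exact hS4 (involves_S4_of_involution h q (hQT hqQ) hqC hq2.2 hqX)
  · -- the trace argument
    set ρ : Γ →* Equiv.Perm ↥X := conjPerm X with hρ
    set y' : ↥X := ⟨x, h.hxX⟩ with hy'
    have hρfix : ∀ (k : Γ) (w : ↥X), ρ k w = w ↔ k * (w : Γ) * k⁻¹ = w := by
      intro k w
      rw [← coe_conjPerm_apply X k w]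
      exact Subtype.ext_iff
    have hM' : ∀ k : Γ, k ∈ M ↔ ρ k y' = y' := by
      intro k
      rw [h.hM k, hρfix]
    have hidxM : ¬ 2 ∣ T.relIndex M := by
      intro hdvd
      apply h.hidx
      rw [← Subgroup.relIndex_mul_index h.hTM]
      exact Dvd.dvd.mul_right hdvd _
    let 𝒟 : Set (Subgroup Γ) := {Q | Off X T Q ∧ ix X Q = ix X Q₁}
    have h𝒟T : ∀ Q ∈ 𝒟, Q ≤ T := fun Q hQ => hQ.1.1
    have h𝒟c : ∀ Q ∈ 𝒟, ∀ g : Γ, cj g Q ≤ T → cj g Q ∈ 𝒟 := fun Q hQ g hg =>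
      ⟨off_cj hQ.1 g hg, by rw [ix_cj]; exact hQ.2⟩
    set R : Subgroup Γ := sSup 𝒟 with hR
    have hRT : R ≤ T := sSup_le h𝒟T
    have hQ₁R : Q₁ ≤ R := le_sSup ⟨hQ₁, rfl⟩
    have hcjR : ∀ k : Γ, cj k R ≤ T → cj k R = R := by
      intro k hk
      apply eq_of_cj_le'
      apply cj_le_of_forall
      intro Q hQ
      have h1 : cj k Q ≤ T := (cj_mono (le_sSup hQ)).trans hk
      exact le_sSup (h𝒟c Q hQ k h1)
    have hNR : Subgroup.normalizer (R : Set Γ) ≤ M := by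
      apply h.hmax
      · intro t ht
        rw [mem_normalizer_iff_cj]
        apply hcjR
        have h1 : cj t R ≤ cj t T := cj_mono hRT
        rwa [cj_of_mem ht] at h1
      · intro htop
        apply hQC
        have hRn : R.Normal := Subgroup.normalizer_eq_top_iff.mp htop
        have h1 : R ≤ Cfsg.pCore 2 Γ :=
          Cfsg.Agent.Lib.Helper47_PLocal.le_pCore hRn (h.hT.to_le hRT)
        exact hQ₁R.trans (h1.trans h.hPC)
    set Y' : Subgroup ↥X := (powMonoidHom 2 : ↥X →* ↥X).range with hY'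
    have hD4 : ∀ Q ∈ 𝒟, ∀ w ∈ orb ρ ⊤ y', (∃ q ∈ Q, ρ q w ≠ w) →
        ∏ u ∈ orb ρ Q w, (fun u : ↥X => u) u ∈ Y' := by
      intro Q hQ w _ hmoved
      apply orbit_prod_mem_sq hXc (h.hT.to_le hQ.1.1) hQ.1.2.1 w hmoved
      intro hidx2
      obtain ⟨B, hB, hlt⟩ := exists_smaller hXc hQ.1 w hidx2 (by rw [hQ.2]; exact h2)
      have h3 := hmin (show B ∈ 𝒪 from hB) (by rw [← hQ.2]; exact hlt.le)
      rw [hQ.2] at hlt
      omega
    have key := trace_mem ρ y' M T hM' h.hTM h.hT hidxM 𝒟 h𝒟T h𝒟c hNR Y'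
      (fun u : ↥X => u) hD4
    set τ : ↥X := ∏ w ∈ orb ρ ⊤ y', w with hτ
    have hτfix : ∀ k : Γ, (MulAut.conjNormal k : MulAut ↥X) τ = τ := by
      intro k
      rw [hτ, map_prod]
      apply Finset.prod_bij (fun w _ => ρ k w)
      · intro w hw
        obtain ⟨k', -, rfl⟩ := mem_orb.mp hw
        refine mem_orb.mpr ⟨k * k', Subgroup.mem_top _, ?_⟩
        rw [map_mul, Equiv.Perm.mul_apply]
      · intro a _ b _ hab
        exact (ρ k).injective hab
      · intro b hb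
        obtain ⟨k', -, rfl⟩ := mem_orb.mp hb
        refine ⟨ρ (k⁻¹ * k') y', mem_orb.mpr ⟨k⁻¹ * k', Subgroup.mem_top _, rfl⟩, ?_⟩
        rw [← Equiv.Perm.mul_apply, ← map_mul, mul_inv_cancel_left]
      · intro w _
        rfl
    -- `X = ⟨τ⟩ X²`
    set Z₁ : Subgroup ↥X := Subgroup.zpowers τ ⊔ Y' with hZ₁
    have hZ₁inv : ∀ (k : Γ) (z : ↥X), z ∈ Z₁ → (MulAut.conjNormal k : MulAut ↥X) z ∈ Z₁ := by
      intro k z hz
      rw [hZ₁, Subgroup.mem_sup] at hz ⊢
      obtain ⟨a, ha, b, hb, rfl⟩ := hz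
      obtain ⟨i, rfl⟩ := Subgroup.mem_zpowers_iff.mp ha
      obtain ⟨t, rfl⟩ := hb
      refine ⟨τ ^ i, Subgroup.zpow_mem _ (Subgroup.mem_zpowers τ) i,
        (powMonoidHom 2) ((MulAut.conjNormal k : MulAut ↥X) t), ⟨_, rfl⟩, ?_⟩
      rw [map_mul, map_zpow, hτfix]
      simp [powMonoidHom_apply, map_pow]
    set N : Subgroup Γ := Z₁.map X.subtype with hN
    have hNn : N.Normal := by
      constructor
      rintro _ ⟨z, hz, rfl⟩ g
      refine ⟨(MulAut.conjNormal g : MulAut ↥X) z, hZ₁inv g z hz, ?_⟩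
      exact MulAut.conjNormal_apply g z
    have hyZ₁ : y' ∈ Z₁ := by
      obtain ⟨v, hv⟩ := key
      rw [hZ₁, Subgroup.mem_sup]
      refine ⟨τ, Subgroup.mem_zpowers τ, (powMonoidHom 2) v⁻¹, ⟨_, rfl⟩, ?_⟩
      have hv' : v ^ 2 = τ / y' := hv
      rw [powMonoidHom_apply, inv_pow, hv']
      rw [inv_div, mul_div_cancel]
    have hXN : X ≤ N := by
      rw [h.hXeq]
      apply Subgroup.normalClosure_le_normal
      intro z hz
      rw [Set.mem_singleton_iff] at hz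
      rw [hz]
      exact ⟨y', hyZ₁, rfl⟩
    have hall : ∀ u : ↥X, u ∈ Z₁ := by
      intro u
      obtain ⟨z, hz, hzu⟩ := hXN u.2
      have : z = u := Subtype.ext hzu
      rwa [this] at hz
    have hiter : ∀ k : ℕ, ∀ u : ↥X, ∃ i : ℤ, ∃ u' : ↥X, u = τ ^ i * u' ^ (2 ^ k) := by
      intro k
      induction k with
      | zero =>
        intro u
        exact ⟨0, u, by simp⟩
      | succ k ih =>
        intro u
        obtain ⟨i, u', rfl⟩ := ih u
        have hu' := hall u'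
        rw [hZ₁, Subgroup.mem_sup] at hu'
        obtain ⟨a, ha, b, hb, rfl⟩ := hu'
        obtain ⟨i', rfl⟩ := Subgroup.mem_zpowers_iff.mp ha
        obtain ⟨t, rfl⟩ := hb
        refine ⟨i + i' * (2 ^ k : ℕ), t, ?_⟩
        rw [powMonoidHom_apply, mul_pow, zpow_add, zpow_mul, zpow_natCast, ← pow_mul, pow_succ,
          mul_assoc, mul_comm 2 (2 ^ k)]
    obtain ⟨e, he⟩ := IsPGroup.exists_card_eq h.hXp
    obtain ⟨i, u', hi⟩ := hiter e y'
    have hu'1 : u' ^ (2 ^ e) = 1 := by rw [← he]; exact pow_card_eq_one'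
    rw [hu'1, mul_one] at hi
    -- `x` is central
    apply h.hne
    rw [eq_top_iff]
    intro k _
    rw [h.hM]
    have h1 : (MulAut.conjNormal k : MulAut ↥X) y' = y' := by
      rw [hi, map_zpow, hτfix]
    have h2 := congrArg (fun z : ↥X => (z : Γ)) h1
    simp only [MulAut.conjNormal_apply] at h2
    exact h2

end Cfsg.Agent.Lib.Helper72_OffEnd
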