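import Mathlib
import Cfsg.Prelude.Def_GeometricClasses
import Cfsg.Agent.Lib.Helper13_OrthC8Defs

/-!
# S5981, package DP (helper72): a transvection is not a similarity of a nondegenerate symmetric form
-/

set_option autoImplicit false

namespace Cfsg.Agent.Lib.Helper72_OrthC8_DP

open Matrix Polynomial Cfsg.Agent.Lib.Helper13_OrthC8Defs

theorem conj_entry {F : Type*} [Field F] {n : ℕ} (i0 i1 : Fin n)
    (A : Matrix (Fin n) (Fin n) F) (a b : Fin n) :
    ((Matrix.transvection i0 i1 (1 : F))ᵀ * A * Matrix.transvection i0 i1 (1 : F)) a b =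
      A a b + (if a = i1 then A i0 b else 0) + (if b = i1 then A a i0 else 0) +
        (if a = i1 ∧ b = i1 then A i0 i0 else 0) := by
  have hT : (Matrix.transvection i0 i1 (1 : F))ᵀ = 1 + Matrix.single i1 i0 (1 : F) := by
    simp [Matrix.transvection, Matrix.transpose_add]
  rw [hT]
  simp only [Matrix.transvection, Matrix.add_mul, Matrix.mul_add, Matrix.one_mul, Matrix.mul_one,
    Matrix.add_apply]
  by_cases ha : a = i1 <;> by_cases hb : b = i1
  · subst ha; subst hb
    simp
    ring
  · subst ha
    simp [hb]
  · subst hb
    simp [ha]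
  · simp [ha, hb]

theorem DP {F : Type*} [Field F] (p : ℕ) [Fact p.Prime] [CharP F p] (hp2 : p ≠ 2) {n : ℕ} (hn : 2 ≤ n) :
    ∃ x : Matrix (Fin n) (Fin n) F, x.det = 1 ∧ x ^ p = 1 ∧ (∀ z : F, x ≠ z • 1) ∧
      ∀ A : Matrix (Fin n) (Fin n) F, Aᵀ = A → A.det ≠ 0 → ¬ SimM A x := by
  set i0 : Fin n := ⟨0, by omega⟩ with hi0
  set i1 : Fin n := ⟨1, by omega⟩ with hi1
  have h01 : i0 ≠ i1 := by
    intro h
    have := congrArg Fin.val h
    simp [hi0, hi1] at this
  have h2F : (2 : F) ≠ 0 := by
    intro h
    have h3 : ((2 : ℕ) : F) = 0 := by exact_mod_cast h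
    rw [CharP.cast_eq_zero_iff F p] at h3
    have hp := (Fact.out : p.Prime)
    rcases (Nat.dvd_prime Nat.prime_two).mp h3 with h4 | h4
    · exact hp.one_lt.ne' h4
    · exact hp2 h4
  refine ⟨Matrix.transvection i0 i1 (1 : F), Matrix.det_transvection_of_ne i0 i1 h01 1, ?_, ?_, ?_⟩
  · have hpow : ∀ k : ℕ, Matrix.transvection i0 i1 (1 : F) ^ k = Matrix.transvection i0 i1 (k : F) := by
      intro k
      induction k with
      | zero => simp
      | succ k ih =>
        rw [pow_succ, ih, Matrix.transvection_mul_transvection_same i0 i1 h01]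
        push_cast
        rfl
    rw [hpow p, CharP.cast_eq_zero F p, Matrix.transvection_zero]
  · intro z hz
    have := congrFun (congrFun hz i0) i1
    simp [Matrix.transvection, h01] at this
  · intro A hA hAd hS
    obtain ⟨c, hc0, hc⟩ := hS
    apply hAd
    have hent : ∀ a b : Fin n, A a b + (if a = i1 then A i0 b else 0) +
        (if b = i1 then A a i0 else 0) + (if a = i1 ∧ b = i1 then A i0 i0 else 0) = c * A a b := by
      intro a b
      rw [← conj_entry i0 i1 A a b, hc]
      simp
    have hsym : ∀ a b : Fin n, A a b = A b a := by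
      intro a b
      have := congrFun (congrFun hA b) a
      simpa using this
    apply Matrix.det_eq_zero_of_column_eq_zero i0
    by_cases hc1 : c = 1
    · subst hc1
      have hne : ∀ a : Fin n, a ≠ i1 → A a i0 = 0 := by
        intro a ha
        have := hent a i1
        simp only [ha, if_true, false_and, if_false, one_mul, add_zero] at this
        linear_combination this
      intro a
      by_cases ha : a = i1
      · subst ha
        have := hent i1 i1
        simp only [if_true, and_self, one_mul, hne i0 h01, add_zero] at this
        rw [hsym i0 i1] at this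
        have h3 : (2 : F) * A i1 i0 = 0 := by linear_combination this
        rcases mul_eq_zero.mp h3 with h4 | h4
        · exact absurd h4 h2F
        · exact h4
      · exact hne a ha
    · have hc1' : c - 1 ≠ 0 := sub_ne_zero.mpr hc1
      have hne : ∀ a : Fin n, a ≠ i1 → A a i0 = 0 := by
        intro a ha
        have := hent a i0
        simp only [ha, h01, false_and, if_false, add_zero] at this
        have h3 : (c - 1) * A a i0 = 0 := by linear_combination -this
        rcases mul_eq_zero.mp h3 with h4 | h4
        · exact absurd h4 hc1'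
        · exact h4
      intro a
      by_cases ha : a = i1
      · subst ha
        have := hent i1 i0
        simp only [if_true, h01, and_false, if_false, add_zero, hne i0 h01] at this
        have h3 : (c - 1) * A i1 i0 = 0 := by linear_combination -this
        rcases mul_eq_zero.mp h3 with h4 | h4
        · exact absurd h4 hc1'
        · exact h4
      · exact hne a ha

end Cfsg.Agent.Lib.Helper72_OrthC8_DP
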