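import Mathlib
import Cfsg.Prelude.Def_GeometricClasses
import Cfsg.Agent.Lib.Helper13_OrthC8Defs
import Cfsg.Agent.Lib.Helper40_PGLInvol

/-!
# S5981, package RA (helper72): `x * x = c²` is conjugate into the similarity group of any
nondegenerate symmetric form (odd characteristic)
-/

set_option autoImplicit false

namespace Cfsg.Agent.Lib.Helper72_OrthC8_RA

open Matrix Polynomial Cfsg.Agent.Lib.Helper13_OrthC8Defs Cfsg.Agent.Lib.Helper40_PGLInvol

/-- A symmetric matrix over a field with `2 ≠ 0` is congruent to a diagonal matrix. -/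
theorem exists_diag {F : Type*} [Field F] (h2 : (2 : F) ≠ 0) {n : ℕ}
    (A : Matrix (Fin n) (Fin n) F) (hA : Aᵀ = A) :
    ∃ (P P' : Matrix (Fin n) (Fin n) F) (w : Fin n → F), P * P' = 1 ∧ P' * P = 1 ∧
      Pᵀ * A * P = Matrix.diagonal w := by
  have : Invertible (2 : F) := invertibleOfNonzero h2
  set B : LinearMap.BilinForm F (Fin n → F) := Matrix.toBilin' A with hB
  have hsymm : LinearMap.IsSymm B := by
    refine ⟨fun u v => ?_⟩
    simp only [hB, Matrix.toBilin'_apply', RingHom.id_apply]
    rw [Matrix.dotProduct_mulVec, ← hA, Matrix.vecMul_transpose, dotProduct_comm, hA]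
  obtain ⟨v, hv⟩ := LinearMap.BilinForm.exists_orthogonal_basis hsymm
  have hcard : Module.finrank F (Fin n → F) = n := by simp
  set v' : Module.Basis (Fin n) F (Fin n → F) := v.reindex (finCongr hcard) with hv'
  have hortho : ∀ i j : Fin n, i ≠ j → B (v' i) (v' j) = 0 := by
    intro i j hij
    simp only [hv', Module.Basis.reindex_apply]
    apply hv
    intro h
    exact hij ((finCongr hcard).symm.injective h)
  set b0 : Module.Basis (Fin n) F (Fin n → F) := Pi.basisFun F (Fin n) with hb0
  refine ⟨b0.toMatrix v', v'.toMatrix b0, fun i => B (v' i) (v' i), ?_, ?_, ?_⟩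
  · exact Module.Basis.toMatrix_mul_toMatrix_flip b0 v'
  · exact Module.Basis.toMatrix_mul_toMatrix_flip v' b0
  · have h1 := LinearMap.BilinForm.toMatrix_mul_basis_toMatrix b0 v' B
    rw [hb0, LinearMap.BilinForm.toMatrix_basisFun, hB, LinearMap.BilinForm.toMatrix'_toBilin'] at h1
    rw [hb0, h1]
    ext i j
    rw [LinearMap.BilinForm.toMatrix_apply]
    by_cases hij : i = j
    · subst hij
      simp [hB]
    · rw [Matrix.diagonal_apply_ne _ hij]
      exact hortho i j hij

theorem eigDim_le {F : Type*} [Field F] {n : ℕ} (A : Matrix (Fin n) (Fin n) F) (l : F) :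
    eigDim A l ≤ n := by
  unfold eigDim
  omega

theorem eigDim_diagonal {F : Type*} [Field F] [DecidableEq F] {n : ℕ} (d : Fin n → F) (l : F) :
    eigDim (Matrix.diagonal d) l = n - Fintype.card {i : Fin n // d i - l ≠ 0} := by
  unfold eigDim
  have h1 : Matrix.diagonal d - l • (1 : Matrix (Fin n) (Fin n) F) =
      Matrix.diagonal (fun i => d i - l) := by
    ext i j
    by_cases hij : i = j
    · subst hij
      simp
    · simp [Matrix.diagonal_apply_ne _ hij, Matrix.one_apply_ne hij]
  rw [h1, Matrix.rank_diagonal]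

theorem RA {F : Type*} [Field F] [Fintype F] (h2 : (2 : F) ≠ 0) {n : ℕ}
    (A : Matrix (Fin n) (Fin n) F) (hA : Aᵀ = A) (hAd : A.det ≠ 0)
    (x : Matrix (Fin n) (Fin n) F) (c : F) (hc : c ≠ 0) (hx : x * x = (c * c) • 1) :
    ∃ x' : Matrix (Fin n) (Fin n) F, x'.charpoly = x.charpoly ∧ x' * x' = (c * c) • 1 ∧ SimM A x' := by
  classical
  have _ := hAd
  obtain ⟨P, P', w, hPP', hP'P, hdiag⟩ := exists_diag h2 A hA
  set a : ℕ := eigDim x c with ha
  have han : a ≤ n := eigDim_le x c
  have hadd := eigDim_add x c hc h2 hx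
  set d : Fin n → F := fun i => if i.val < a then c else -c with hd
  have hdd : Matrix.diagonal d * Matrix.diagonal d = (c * c) • (1 : Matrix (Fin n) (Fin n) F) := by
    rw [Matrix.diagonal_mul_diagonal]
    ext i j
    by_cases hij : i = j
    · subst hij
      simp only [hd, Matrix.diagonal_apply_eq, Matrix.smul_apply, Matrix.one_apply_eq, smul_eq_mul,
        mul_one]
      split_ifs <;> ring
    · simp [Matrix.diagonal_apply_ne _ hij, Matrix.one_apply_ne hij]
  have h2c : (2 : F) * c ≠ 0 := mul_ne_zero h2 hc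
  have hcard1 : Fintype.card {i : Fin n // d i - c ≠ 0} = n - a := by
    have h3 : ∀ i : Fin n, d i - c ≠ 0 ↔ ¬ (i.val < a) := by
      intro i
      simp only [hd]
      by_cases hi : i.val < a
      · simp [hi]
      · simp only [hi, if_false, not_false_eq_true, iff_true]
        intro h4
        apply h2c
        linear_combination -h4
    rw [Fintype.card_congr (Equiv.subtypeEquivRight h3), Fintype.card_subtype_compl,
      Fintype.card_fin, Fintype.card_subtype, Fin.card_filter_val_lt, min_eq_right han]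
  have hcard2 : Fintype.card {i : Fin n // d i - (-c) ≠ 0} = a := by
    have h3 : ∀ i : Fin n, d i - (-c) ≠ 0 ↔ (i.val < a) := by
      intro i
      simp only [hd]
      by_cases hi : i.val < a
      · simp only [hi, if_true, iff_true]
        intro h4
        apply h2c
        linear_combination h4
      · simp [hi]
    rw [Fintype.card_congr (Equiv.subtypeEquivRight h3), Fintype.card_subtype,
      Fin.card_filter_val_lt, min_eq_right han]
  set x' : Matrix (Fin n) (Fin n) F := P * Matrix.diagonal d * P' with hx'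
  have hx'sq : x' * x' = (c * c) • (1 : Matrix (Fin n) (Fin n) F) := by
    have : x' * x' = P * (Matrix.diagonal d * (P' * P) * Matrix.diagonal d) * P' := by
      simp only [hx', Matrix.mul_assoc]
    rw [this, hP'P, Matrix.mul_one, hdd, Matrix.mul_smul, Matrix.smul_mul, Matrix.mul_one, hPP']
  have he1 : eigDim x c = eigDim x' c := by
    rw [hx', eigDim_conj _ _ _ hPP', eigDim_diagonal, hcard1]
    omega
  have he2 : eigDim x (-c) = eigDim x' (-c) := by
    rw [hx', eigDim_conj _ _ _ hPP', eigDim_diagonal, hcard2]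
    omega
  refine ⟨x', ?_, hx'sq, ?_⟩
  · obtain ⟨P₀, hP₀⟩ := exists_GL_conj_of_eigDim x x' c hc h2 hx hx'sq he1 he2
    have h3 : x' = (P₀ : Matrix (Fin n) (Fin n) F) * x * ((P₀ : Matrix (Fin n) (Fin n) F))⁻¹ := by
      rw [hP₀, Matrix.mul_assoc]
      have : (P₀ : Matrix (Fin n) (Fin n) F) * ((P₀ : Matrix (Fin n) (Fin n) F))⁻¹ = 1 := by
        rw [← Matrix.coe_units_inv]
        exact_mod_cast P₀.mul_inv
      rw [this, Matrix.mul_one]
    rw [h3]
    exact Matrix.charpoly_units_conj P₀ x
  · rw [hx', simM_conj A (Matrix.diagonal d) P' P hP'P hPP', hdiag]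
    refine ⟨c * c, mul_ne_zero hc hc, ?_⟩
    rw [Matrix.diagonal_transpose, Matrix.diagonal_mul_diagonal, Matrix.diagonal_mul_diagonal]
    ext i j
    by_cases hij : i = j
    · subst hij
      simp only [hd, Matrix.diagonal_apply_eq, Matrix.smul_apply, smul_eq_mul]
      split_ifs <;> ring
    · simp [Matrix.diagonal_apply_ne _ hij]

end Cfsg.Agent.Lib.Helper72_OrthC8_RA
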