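import Mathlib
import Cfsg.Prelude.Def_GeometricClasses
import Cfsg.Agent.Lib.Helper13_OrthC8Defs
import Cfsg.Agent.Lib.Helper40_PGLInvol
import Cfsg.Agent.Lib.Helper14_Congruence

/-!
# S5981, package RB (helper72): `x * x = z`, `z` a non-square, is conjugate into the similarity
group of any nondegenerate symmetric form (finite field of odd order)
-/

set_option autoImplicit false

namespace Cfsg.Agent.Lib.Helper72_OrthC8_RB

open Matrix Polynomial Cfsg.Agent.Lib.Helper13_OrthC8Defs Cfsg.Agent.Lib.Helper40_PGLInvol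

section blocks

variable {F : Type*} [Field F]

/-- the `2 × 2` model of the semilinear-type element -/
def X0 (z : F) : Matrix (Fin 2) (Fin 2) F := !![0, z; 1, 0]

/-- the `2 × 2` Gram block -/
def M0 (z g h : F) : Matrix (Fin 2) (Fin 2) F := !![g, h * z; h * z, z * g]

theorem X0_sq (z : F) : X0 z * X0 z = z • (1 : Matrix (Fin 2) (Fin 2) F) := by
  ext i j
  fin_cases i <;> fin_cases j <;> simp [X0, Matrix.mul_apply, Fin.sum_univ_two]

theorem M0_transpose (z g h : F) : (M0 z g h)ᵀ = M0 z g h := by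
  ext i j
  fin_cases i <;> fin_cases j <;> simp [M0]

theorem X0_M0 (z g h : F) : (X0 z)ᵀ * M0 z g h * X0 z = z • M0 z g h := by
  ext i j
  fin_cases i <;> fin_cases j <;>
    simp [X0, M0, Matrix.mul_apply, Fin.sum_univ_two] <;> ring

theorem M0_det (z g h : F) : (M0 z g h).det = z * (g * g - z * (h * h)) := by
  rw [M0, Matrix.det_fin_two_of]
  ring

end blocks

/-- Norms from the quadratic extension `F(√z)` cover `F`. -/
theorem exists_norm {F : Type*} [Field F] [Fintype F] (h2 : (2 : F) ≠ 0) (z : F) (hz0 : z ≠ 0)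
    (N : F) : ∃ g h : F, g * g - z * (h * h) = N := by
  have hchar : ringChar F ≠ 2 := by
    intro h
    apply h2
    have := ringChar.charP F
    rw [h] at this
    have h3 := CharP.cast_eq_zero F 2
    exact_mod_cast h3
  have hodd := FiniteField.odd_card_of_char_ne_two hchar
  have hf : degree ((X : F[X]) ^ 2 - C N) = 2 := by
    rw [degree_X_pow_sub_C (by norm_num)]
    rfl
  have hg : degree (C (-z) * (X : F[X]) ^ 2) = 2 := by
    rw [degree_C_mul_X_pow 2 (neg_ne_zero.mpr hz0)]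
    rfl
  obtain ⟨a, b, hab⟩ := FiniteField.exists_root_sum_quadratic hf hg hodd
  refine ⟨a, b, ?_⟩
  simp only [eval_sub, eval_pow, eval_X, eval_C, eval_mul] at hab
  linear_combination hab

theorem RB {F : Type*} [Field F] [Fintype F] (h2 : (2 : F) ≠ 0) {n : ℕ}
    (A : Matrix (Fin n) (Fin n) F) (hA : Aᵀ = A) (hAd : A.det ≠ 0)
    (x : Matrix (Fin n) (Fin n) F) (z : F) (hz : ¬ IsSquare z) (hx : x * x = z • 1) :
    ∃ x' : Matrix (Fin n) (Fin n) F, x'.charpoly = x.charpoly ∧ x' * x' = z • 1 ∧ SimM A x' := by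
  classical
  have hz0 : z ≠ 0 := by
    intro h
    apply hz
    rw [h]
    exact ⟨0, by simp⟩
  obtain ⟨m, hnm, hcp⟩ := charpoly_of_sq_nonsquare x z hz hx
  subst hnm
  rcases Nat.eq_zero_or_pos m with hm | hm
  · subst hm
    refine ⟨x, rfl, hx, 1, one_ne_zero, ?_⟩
    ext i j
    exact absurd i.2 (by simp)
  -- the model
  set i0 : Fin m := ⟨0, hm⟩ with hi0
  obtain ⟨g0, h0, hgh⟩ := exists_norm h2 z hz0 (A.det / z ^ m)
  set g : Fin m → F := fun k => if k = i0 then g0 else 1 with hg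
  set h : Fin m → F := fun k => if k = i0 then h0 else 0 with hh
  set e : Fin 2 × Fin m ≃ Fin (2 * m) := finProdFinEquiv with he
  set Xb : Matrix (Fin 2 × Fin m) (Fin 2 × Fin m) F := Matrix.blockDiagonal fun _ => X0 z with hXb
  set Ab : Matrix (Fin 2 × Fin m) (Fin 2 × Fin m) F :=
    Matrix.blockDiagonal fun k => M0 z (g k) (h k) with hAb
  have hXb_sq : Xb * Xb = z • 1 := by
    rw [hXb, ← Matrix.blockDiagonal_mul]
    have : (fun _ : Fin m => X0 z * X0 z) = z • (1 : Fin m → Matrix (Fin 2) (Fin 2) F) := by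
      funext k
      rw [X0_sq]
      rfl
    rw [this, Matrix.blockDiagonal_smul, Matrix.blockDiagonal_one]
  have hAb_t : Abᵀ = Ab := by
    rw [hAb, Matrix.blockDiagonal_transpose]
    congr 1
    funext k
    exact M0_transpose _ _ _
  have hXAX : Xbᵀ * Ab * Xb = z • Ab := by
    rw [hXb, hAb, Matrix.blockDiagonal_transpose, ← Matrix.blockDiagonal_mul,
      ← Matrix.blockDiagonal_mul, ← Matrix.blockDiagonal_smul]
    congr 1
    funext k
    exact X0_M0 _ _ _
  have hAb_det : Ab.det = A.det := by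
    rw [hAb, Matrix.det_blockDiagonal]
    have h3 : ∀ k : Fin m, (M0 z (g k) (h k)).det = z * (if k = i0 then A.det / z ^ m else 1) := by
      intro k
      rw [M0_det]
      simp only [hg, hh]
      by_cases hk : k = i0
      · simp only [hk, if_true]
        rw [hgh]
      · simp only [hk, if_false]
        ring
    rw [Finset.prod_congr rfl fun k _ => h3 k, Finset.prod_mul_distrib, Finset.prod_const,
      Finset.card_univ, Fintype.card_fin, Finset.prod_ite_eq' Finset.univ i0, if_pos (Finset.mem_univ _)]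
    field_simp
  -- reindex to `Fin (2 * m)`
  set X1 : Matrix (Fin (2 * m)) (Fin (2 * m)) F := Xb.submatrix e.symm e.symm with hX1
  set A1 : Matrix (Fin (2 * m)) (Fin (2 * m)) F := Ab.submatrix e.symm e.symm with hA1
  have hX1_sq : X1 * X1 = z • 1 := by
    rw [hX1, Matrix.submatrix_mul_equiv, hXb_sq]
    ext i j
    simp [Matrix.submatrix_apply, Matrix.smul_apply, Matrix.one_apply]
  have hA1_t : A1ᵀ = A1 := by
    rw [hA1, Matrix.transpose_submatrix, hAb_t]
  have hXAX1 : X1ᵀ * A1 * X1 = z • A1 := by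
    rw [hX1, hA1, Matrix.transpose_submatrix, Matrix.submatrix_mul_equiv, Matrix.submatrix_mul_equiv,
      hXAX]
    rfl
  have hA1_det : A1.det = A.det := by
    rw [hA1, Matrix.det_submatrix_equiv_self, hAb_det]
  -- congruence with `A`
  obtain ⟨k, hk⟩ := Cfsg.Agent.Lib.Helper14_Congruence.exists_congr_sym h2 hA hA1_t hAd
    (by rw [hA1_det]; exact hAd) (by rw [hA1_det]; exact ⟨A.det, rfl⟩)
  have hkk : (k : Matrix (Fin (2 * m)) (Fin (2 * m)) F) *
      ((k⁻¹ : GL (Fin (2 * m)) F) : Matrix (Fin (2 * m)) (Fin (2 * m)) F) = 1 := by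
    exact_mod_cast k.mul_inv
  have hkk' : ((k⁻¹ : GL (Fin (2 * m)) F) : Matrix (Fin (2 * m)) (Fin (2 * m)) F) *
      (k : Matrix (Fin (2 * m)) (Fin (2 * m)) F) = 1 := by
    exact_mod_cast k.inv_mul
  set x' : Matrix (Fin (2 * m)) (Fin (2 * m)) F :=
    (k : Matrix (Fin (2 * m)) (Fin (2 * m)) F) * X1 *
      ((k⁻¹ : GL (Fin (2 * m)) F) : Matrix (Fin (2 * m)) (Fin (2 * m)) F) with hx'
  have hx'sq : x' * x' = z • 1 := by
    have : x' * x' = (k : Matrix (Fin (2 * m)) (Fin (2 * m)) F) *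
        (X1 * (((k⁻¹ : GL (Fin (2 * m)) F) : Matrix (Fin (2 * m)) (Fin (2 * m)) F) *
          (k : Matrix (Fin (2 * m)) (Fin (2 * m)) F)) * X1) *
        ((k⁻¹ : GL (Fin (2 * m)) F) : Matrix (Fin (2 * m)) (Fin (2 * m)) F) := by
      simp only [hx', Matrix.mul_assoc]
    rw [this, hkk', Matrix.mul_one, hX1_sq, Matrix.mul_smul, Matrix.smul_mul, Matrix.mul_one, hkk]
  refine ⟨x', ?_, hx'sq, ?_⟩
  · obtain ⟨m', hm', hcp'⟩ := charpoly_of_sq_nonsquare x' z hz hx'sq
    have : m' = m := by omega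
    rw [hcp, hcp', this]
  · rw [hx', simM_conj A X1 _ _ hkk' hkk, hk]
    exact ⟨z, hz0, hXAX1⟩

end Cfsg.Agent.Lib.Helper72_OrthC8_RB
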