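/-
helper72: canonical lifts of `p`-elements along a central extension whose kernel has no `p`-torsion.

Let `ψ : P → Γ` be surjective with central kernel, `Γ` finite and perfect, and suppose the kernel has no element of
order `p`.  Then there is a map `s : Γ → P` which on every `p`-subgroup `T` of `Γ` is a multiplicative section of
`ψ`.  (The derived subgroup of `P` is finite by Schur's theorem and still maps onto `Γ`; over `T` its `p`-elements
form a complement of the kernel by Schur-Zassenhaus, and `p`-element lifts are unique.)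
-/
import Mathlib

set_option autoImplicit false

namespace Cfsg.Agent.Lib.Helper72_PSection

open scoped commutatorElement

variable {E Γ : Type*} [Group E] [Group Γ]

/-- `e` has order a power of `p`. -/
def IsPEl (p : ℕ) (e : E) : Prop := ∃ k : ℕ, e ^ (p ^ k) = 1

theorem eq_one_of_pow_prime_pow {p : ℕ} {A : Subgroup E} (htor : ∀ a ∈ A, a ^ p = 1 → a = 1) :
    ∀ (k : ℕ) (a : E), a ∈ A → a ^ (p ^ k) = 1 → a = 1
  | 0, a, _, h => by simpa using h
  | k + 1, a, ha, h => by
    have h1 : (a ^ p) ^ (p ^ k) = 1 := by rw [← pow_mul, ← pow_succ']; exact h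
    have h2 := eq_one_of_pow_prime_pow htor k (a ^ p) (A.pow_mem ha p) h1
    exact htor a ha h2

/-- Lifts of order a power of `p` are unique. -/
theorem pEl_unique {p : ℕ} (ψ : E →* Γ) (hc : ψ.ker ≤ Subgroup.center E)
    (htor : ∀ a ∈ ψ.ker, a ^ p = 1 → a = 1) {e e' : E} (he : IsPEl p e) (he' : IsPEl p e')
    (h : ψ e = ψ e') : e = e' := by
  obtain ⟨k, hk⟩ := he
  obtain ⟨k', hk'⟩ := he'
  set a := e⁻¹ * e' with ha
  have hak : a ∈ ψ.ker := by rw [MonoidHom.mem_ker, ha, map_mul, map_inv, h, inv_mul_cancel]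
  have hcomm : Commute e a := Subgroup.mem_center_iff.mp (hc hak) e
  have he'eq : e' = e * a := by rw [ha]; group
  have h1 : e ^ (p ^ (k + k')) = 1 := by rw [pow_add, pow_mul, hk, one_pow]
  have h2 : e' ^ (p ^ (k + k')) = 1 := by rw [pow_add, mul_comm, pow_mul, hk', one_pow]
  rw [he'eq, hcomm.mul_pow, h1, one_mul] at h2
  have := eq_one_of_pow_prime_pow htor _ a hak h2
  rw [he'eq, this, mul_one]

/-- Over a `p`-subgroup, a finite central extension with kernel of order prime to `p` has a section by `p`-elements. -/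
theorem exists_pHom [Finite E] {p : ℕ} (hp : p.Prime) (ψ : E →* Γ) (hs : Function.Surjective ψ)
    (hcop : (Nat.card ψ.ker).Coprime p) (T : Subgroup Γ) (hT : IsPGroup p T) :
    ∃ σ : T →* E, (∀ x : T, ψ (σ x) = x) ∧ ∀ x : T, IsPEl p (σ x) := by
  classical
  have : Fact p.Prime := ⟨hp⟩
  set P : Subgroup E := T.comap ψ with hP
  set ψT : P →* T := ψ.subgroupComap T with hψT
  have hψTs : Function.Surjective ψT := ψ.subgroupComap_surjective_of_surjective T hs
  have hcoe : ∀ y : P, ((ψT y : T) : Γ) = ψ (y : E) := fun _ => rfl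
  have : Finite T := Finite.of_surjective _ hψTs
  set N : Subgroup P := ψT.ker with hN
  have hidx : N.index = Nat.card T := by
    rw [hN, Subgroup.index_ker, MonoidHom.range_eq_top.mpr hψTs, Subgroup.card_top]
  obtain ⟨n, hn⟩ := hT.exists_card_eq
  have hNcard : Nat.card N ∣ Nat.card ψ.ker := by
    let f : N →* ψ.ker :=
      { toFun := fun x => ⟨((x : P) : E), by
          have hx : ψT (x : P) = 1 := x.2
          rw [MonoidHom.mem_ker, ← hcoe, hx]
          rfl⟩
        map_one' := rfl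
        map_mul' := fun _ _ => rfl }
    have hinj : Function.Injective f := by
      intro x y hxy
      have := congrArg (fun t : ψ.ker => (t : E)) hxy
      exact Subtype.ext (Subtype.ext this)
    exact Subgroup.card_dvd_of_injective f hinj
  have hcop' : Nat.Coprime (Nat.card N) N.index := by
    rw [hidx, hn]
    exact Nat.Coprime.pow_right n (Nat.Coprime.coprime_dvd_left hNcard hcop)
  obtain ⟨H, hH⟩ := Subgroup.exists_right_complement'_of_coprime hcop'
  have hinj : Function.Injective (ψT.comp H.subtype) := by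
    rw [injective_iff_map_eq_one]
    intro x hx
    have hxN : (x : P) ∈ N := hx
    have : (x : P) ∈ N ⊓ H := ⟨hxN, x.2⟩
    rw [hH.disjoint.eq_bot, Subgroup.mem_bot] at this
    exact Subtype.ext this
  have hsurj : Function.Surjective (ψT.comp H.subtype) := by
    intro t
    obtain ⟨g, hg⟩ := hψTs t
    obtain ⟨⟨a, b⟩, hab⟩ := hH.2 g
    refine ⟨b, ?_⟩
    have ha : ψT (a : P) = 1 := a.2
    have hab' : (a : P) * (b : P) = g := hab
    rw [MonoidHom.comp_apply, Subgroup.coe_subtype, ← hg, ← hab', map_mul, ha, one_mul]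
  let e : H ≃* T := MulEquiv.ofBijective (ψT.comp H.subtype) ⟨hinj, hsurj⟩
  have hcardH : Nat.card H = p ^ n := by rw [Nat.card_congr e.toEquiv, hn]
  refine ⟨(P.subtype.comp H.subtype).comp e.symm.toMonoidHom, ?_, ?_⟩
  · intro x
    have h1 : ψT ((e.symm x : H) : P) = x := e.apply_symm_apply x
    show ψ (((e.symm x : H) : P) : E) = x
    rw [← hcoe, h1]
  · intro x
    refine ⟨n, ?_⟩
    have h1 : (e.symm x : H) ^ (p ^ n) = 1 := by rw [← hcardH]; exact pow_card_eq_one'
    have := congrArg (fun h : H => ((h : P) : E)) h1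
    simpa using this

/-- A finite central extension with kernel of order prime to `p` has a map which is a multiplicative section over
every `p`-subgroup. -/
theorem exists_pSection [Finite E] {p : ℕ} (hp : p.Prime) (ψ : E →* Γ) (hs : Function.Surjective ψ)
    (hc : ψ.ker ≤ Subgroup.center E) (hcop : (Nat.card ψ.ker).Coprime p) :
    ∃ s : Γ → E, ∀ T : Subgroup Γ, IsPGroup p T →
      (∀ x ∈ T, ψ (s x) = x) ∧ ∀ x ∈ T, ∀ y ∈ T, s (x * y) = s x * s y := by
  classical
  have htor : ∀ a ∈ ψ.ker, a ^ p = 1 → a = 1 := by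
    intro a ha hap
    have h1 : orderOf a ∣ p := orderOf_dvd_of_pow_eq_one hap
    have h2 : orderOf a ∣ Nat.card ψ.ker := by
      have := orderOf_dvd_natCard (⟨a, ha⟩ : ψ.ker)
      rwa [Subgroup.orderOf_mk] at this
    have h3 : orderOf a ∣ 1 := by
      rw [← Nat.Coprime.gcd_eq_one hcop]
      exact Nat.dvd_gcd h2 h1
    exact orderOf_eq_one_iff.mp (Nat.dvd_one.mp h3)
  refine ⟨fun x => if h : ∃ e, ψ e = x ∧ IsPEl p e then h.choose else 1, ?_⟩
  intro T hT
  obtain ⟨σ, hσ1, hσ2⟩ := exists_pHom hp ψ hs hcop T hT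
  have key : ∀ x (hx : x ∈ T),
      (if h : ∃ e, ψ e = x ∧ IsPEl p e then h.choose else 1) = σ ⟨x, hx⟩ := by
    intro x hx
    have hex : ∃ e, ψ e = x ∧ IsPEl p e := ⟨σ ⟨x, hx⟩, hσ1 ⟨x, hx⟩, hσ2 ⟨x, hx⟩⟩
    rw [dif_pos hex]
    have hch := hex.choose_spec
    exact pEl_unique ψ hc htor hch.2 (hσ2 ⟨x, hx⟩) (by rw [hch.1, hσ1 ⟨x, hx⟩])
  constructor
  · intro x hx
    show ψ (if h : ∃ e, ψ e = x ∧ IsPEl p e then h.choose else 1) = x
    rw [key x hx, hσ1 ⟨x, hx⟩]
  · intro x hx y hy
    show (if h : ∃ e, ψ e = x * y ∧ IsPEl p e then h.choose else 1) =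
      (if h : ∃ e, ψ e = x ∧ IsPEl p e then h.choose else 1) *
        (if h : ∃ e, ψ e = y ∧ IsPEl p e then h.choose else 1)
    rw [key x hx, key y hy, key (x * y) (T.mul_mem hx hy), ← map_mul]
    rfl

/-- Commutators in a central extension depend only on the images. -/
theorem commutatorElement_eq_of_map_eq (ψ : E →* Γ) (hc : ψ.ker ≤ Subgroup.center E) {a a' b b' : E}
    (ha : ψ a = ψ a') (hb : ψ b = ψ b') : ⁅a, b⁆ = ⁅a', b'⁆ := by
  have hz : a⁻¹ * a' ∈ Subgroup.center E := hc (by rw [MonoidHom.mem_ker, map_mul, map_inv, ha, inv_mul_cancel])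
  have hw : b⁻¹ * b' ∈ Subgroup.center E := hc (by rw [MonoidHom.mem_ker, map_mul, map_inv, hb, inv_mul_cancel])
  set z := a⁻¹ * a' with hzdef
  set w := b⁻¹ * b' with hwdef
  have ha' : a' = a * z := by rw [hzdef]; group
  have hb' : b' = b * w := by rw [hwdef]; group
  have hzc : ∀ g : E, g * z = z * g := Subgroup.mem_center_iff.mp hz
  have hwc : ∀ g : E, g * w = w * g := Subgroup.mem_center_iff.mp hw
  rw [commutatorElement_def, commutatorElement_def, ha', hb']
  have e1 : a * z * (b * w) * (a * z)⁻¹ * (b * w)⁻¹ = a * (z * b) * (w * z⁻¹) * a⁻¹ * w⁻¹ * b⁻¹ := by group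
  rw [e1, ← hzc b, ← hwc z⁻¹]
  have e2 : a * (b * z) * (z⁻¹ * w) * a⁻¹ * w⁻¹ * b⁻¹ = a * b * (w * a⁻¹) * w⁻¹ * b⁻¹ := by group
  rw [e2, ← hwc a⁻¹]
  group

/-- Schur: the derived subgroup of a central extension of a finite group is finite. -/
theorem finite_commutator_of_central [Finite Γ] (ψ : E →* Γ) (hc : ψ.ker ≤ Subgroup.center E) :
    Finite (commutator E) := by
  classical
  let f : Γ → E := fun g => if h : ∃ e, ψ e = g then h.choose else 1
  have hf : ∀ e : E, ψ (f (ψ e)) = ψ e := by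
    intro e
    have hex : ∃ e', ψ e' = ψ e := ⟨e, rfl⟩
    show ψ (if h : ∃ e', ψ e' = ψ e then h.choose else 1) = ψ e
    rw [dif_pos hex]
    exact hex.choose_spec
  have hsub : commutatorSet E ⊆ Set.range (fun x : Γ × Γ => ⁅f x.1, f x.2⁆) := by
    rintro c ⟨a, b, rfl⟩
    exact ⟨(ψ a, ψ b), commutatorElement_eq_of_map_eq ψ hc (hf a) (hf b)⟩
  have : Finite (commutatorSet E) := Set.Finite.subset (Set.finite_range _) hsub
  infer_instance

/-- The main statement: a central extension of a finite perfect group with no `p`-torsion in the kernel has a map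
that is a multiplicative section over every `p`-subgroup. -/
theorem exists_pSection_of_perfect [Finite Γ] {p : ℕ} (hp : p.Prime) (ψ : E →* Γ) (hs : Function.Surjective ψ)
    (hc : ψ.ker ≤ Subgroup.center E) (hperf : commutator Γ = ⊤) (htor : ∀ a ∈ ψ.ker, a ^ p = 1 → a = 1) :
    ∃ s : Γ → E, ∀ T : Subgroup Γ, IsPGroup p T →
      (∀ x ∈ T, ψ (s x) = x) ∧ ∀ x ∈ T, ∀ y ∈ T, s (x * y) = s x * s y := by
  classical
  have : Fact p.Prime := ⟨hp⟩
  have : Finite (commutator E) := finite_commutator_of_central ψ hc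
  set ψ₁ : commutator E →* Γ := ψ.comp (commutator E).subtype with hψ₁
  have hs₁ : Function.Surjective ψ₁ := by
    intro g
    have hg : g ∈ (commutator E).map ψ := by
      rw [commutator_def, Subgroup.map_commutator, Subgroup.map_top_of_surjective ψ hs, ← commutator_def, hperf]
      exact Subgroup.mem_top g
    obtain ⟨e, he, rfl⟩ := hg
    exact ⟨⟨e, he⟩, rfl⟩
  have hc₁ : ψ₁.ker ≤ Subgroup.center (commutator E) := by
    intro a ha
    have ha' : (a : E) ∈ Subgroup.center E := hc ha
    rw [Subgroup.mem_center_iff] at ha' ⊢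
    intro g
    exact Subtype.ext (ha' g)
  have hcop₁ : (Nat.card ψ₁.ker).Coprime p := by
    rw [Nat.coprime_comm, Nat.Prime.coprime_iff_not_dvd hp]
    intro hdvd
    obtain ⟨x, hx⟩ := exists_prime_orderOf_dvd_card' p hdvd
    have hxp : x ^ p = 1 := by rw [← hx]; exact pow_orderOf_eq_one x
    have hxE : ((x : commutator E) : E) ^ p = 1 := by
      have := congrArg (fun y : ψ₁.ker => ((y : commutator E) : E)) hxp
      simpa using this
    have hxker : ((x : commutator E) : E) ∈ ψ.ker := x.2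
    have h1 := htor _ hxker hxE
    have hx1 : x = 1 := Subtype.ext (Subtype.ext h1)
    rw [hx1, orderOf_one] at hx
    exact hp.one_lt.ne hx
  obtain ⟨s, hsT⟩ := exists_pSection hp ψ₁ hs₁ hc₁ hcop₁
  refine ⟨fun g => (s g : E), fun T hT => ?_⟩
  obtain ⟨h1, h2⟩ := hsT T hT
  refine ⟨fun x hx => h1 x hx, fun x hx y hy => ?_⟩
  show ((s (x * y) : commutator E) : E) = (s x : E) * (s y : E)
  rw [h2 x hx y hy]
  rfl

end Cfsg.Agent.Lib.Helper72_PSection
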