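import Mathlib
import Cfsg.Agent.Lib.Helper72_SLnUceDefs

set_option autoImplicit false

/-!
# S2086 package DISJ_ODD (helper72)

In a central extension of `SL ι K`, `K` of odd characteristic, lifts of root elements with four different
indices commute, provided this holds for root elements in one row and in one column.
-/

namespace Cfsg.Agent.Lib.Helper72_S2086_DISJ_ODD

open Matrix Cfsg.Agent.Lib.Helper81_UceA Cfsg.Agent.Lib.Helper66_StCalc Cfsg.Agent.Lib.Helper72_SLnUce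

variable {ι : Type*} [Fintype ι] [DecidableEq ι] {K : Type*} [Field K] {E : Type*} [Group E]
  {π : E →* Matrix.SpecialLinearGroup ι K}

/-- the central commutator of lifts of two disjoint root elements -/
noncomputable def cc (hc : CExt π) (i j k l : ι) (t u : K) : E :=
  cm hc.surj (TT ι K i j t) (TT ι K k l u)

theorem TT_comm {i j k l : ι} (hij : i ≠ j) (hkl : k ≠ l) (hil : i ≠ l) (hjk : j ≠ k) (t u : K) :
    TT ι K i j t * TT ι K k l u = TT ι K k l u * TT ι K i j t :=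
  (stRelAB_TT (ι := ι) (K := K)).comm i j k l t u hij hkl hil hjk

theorem TT_comm3 {i j l : ι} (hij : i ≠ j) (hjl : j ≠ l) (hil : i ≠ l) (t u : K) :
    TT ι K i j t * TT ι K j l u * (TT ι K i j t)⁻¹ * (TT ι K j l u)⁻¹ = TT ι K i l (t * u) :=
  (stRelAB_TT (ι := ι) (K := K)).comm3 i j l t u hij hjl hil

theorem TT_inv (i j : ι) (t : K) : (TT ι K i j t)⁻¹ = TT ι K i j (-t) :=
  (stRelAB_TT (ι := ι) (K := K)).x_inv i j t

theorem TT_add (i j : ι) (t u : K) : TT ι K i j t * TT ι K i j u = TT ι K i j (t + u) :=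
  (stRelAB_TT (ι := ι) (K := K)).add i j t u

theorem TT_zero (i j : ι) : TT ι K i j 0 = 1 :=
  (stRelAB_TT (ι := ι) (K := K)).x_zero i j

/-- `cc` is central -/
theorem cc_central (hc : CExt π) {i j k l : ι} (hij : i ≠ j) (hkl : k ≠ l) (hil : i ≠ l) (hjk : j ≠ k)
    (t u : K) (e : E) : cc hc i j k l t u * e = e * cc hc i j k l t u :=
  cm_comm_of_commute hc (TT_comm hij hkl hil hjk t u) e

/-- `cc` is additive in the first variable -/
theorem cc_add (hc : CExt π) {i j k l : ι} (hij : i ≠ j) (hkl : k ≠ l) (hil : i ≠ l) (hjk : j ≠ k)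
    (t t' u : K) : cc hc i j k l (t + t') u = cc hc i j k l t u * cc hc i j k l t' u := by
  obtain ⟨a, ha⟩ := hc.surj (TT ι K i j t)
  unfold cc
  rw [← TT_add, cm_mul_left hc _ _ _ ha]
  have h := cc_central hc hij hkl hil hjk t' u a
  unfold cc at h
  have h2 := cc_central hc hij hkl hil hjk t' u (cm hc.surj (TT ι K i j t) (TT ι K k l u))
  unfold cc at h2
  rw [← h, mul_inv_cancel_right, h2]

theorem cc_zero (hc : CExt π) {i j k l : ι} (hij : i ≠ j) (hkl : k ≠ l) (hil : i ≠ l) (hjk : j ≠ k)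
    (u : K) : cc hc i j k l 0 u = 1 := by
  have := cc_add hc hij hkl hil hjk 0 0 u
  rw [add_zero] at this
  exact mul_eq_left.mp this.symm

theorem cc_neg (hc : CExt π) {i j k l : ι} (hij : i ≠ j) (hkl : k ≠ l) (hil : i ≠ l) (hjk : j ≠ k)
    (t u : K) : cc hc i j k l (-t) u = (cc hc i j k l t u)⁻¹ := by
  rw [eq_inv_iff_mul_eq_one, ← cc_add hc hij hkl hil hjk, neg_add_cancel, cc_zero hc hij hkl hil hjk]

theorem cc_nsmul (hc : CExt π) {i j k l : ι} (hij : i ≠ j) (hkl : k ≠ l) (hil : i ≠ l) (hjk : j ≠ k)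
    (n : ℕ) (t u : K) : cc hc i j k l ((n : K) * t) u = (cc hc i j k l t u) ^ n := by
  induction n with
  | zero => rw [Nat.cast_zero, zero_mul, cc_zero hc hij hkl hil hjk, pow_zero]
  | succ n ih =>
    rw [Nat.cast_succ, add_mul, one_mul, cc_add hc hij hkl hil hjk, ih, pow_succ]

/-- first decomposition `x_ij(t) = [x_ik(t), x_kj(1)]` -/
theorem R1 (hc : CExt π) (hrow : RowComm π) {i j k l : ι} (hij : i ≠ j) (hik : i ≠ k) (hil : i ≠ l)
    (hjk : j ≠ k) (hjl : j ≠ l) (hkl : k ≠ l) (t u : K) :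
    cc hc i j k l t u = cc hc i l k j (t * u) 1 := by
  obtain ⟨a, ha⟩ := hc.surj (TT ι K i k t)
  obtain ⟨b, hb⟩ := hc.surj (TT ι K k j 1)
  obtain ⟨y, hy⟩ := hc.surj (TT ι K k l u)
  set x := a * b * a⁻¹ * b⁻¹ with hx
  have hπx : π x = TT ι K i j t := by
    rw [hx]
    simp only [map_mul, map_inv, ha, hb]
    rw [TT_comm3 hik (Ne.symm hjk) hij, mul_one]
  -- `z` lifts `x_il(-tu)`
  set z := y * a * y⁻¹ * a⁻¹ with hz
  have hπz : π z = TT ι K i l (-(t * u)) := by
    rw [hz]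
    simp only [map_mul, map_inv, ha, hy]
    have h := TT_comm3 hik hkl hil t u
    rw [← TT_inv, ← h]
    group
  have hyb : y * b = b * y := hrow k l j u 1 y b hkl (Ne.symm hjk) (Ne.symm hjl) hy hb
  have hzx : z * x = x * z :=
    hrow i l j (-(t * u)) t z x hil hij (Ne.symm hjl) hπz hπx
  -- the commutator of `z` and `b`
  have hzb : z * b * z⁻¹ * b⁻¹ = cc hc i l k j (-(t * u)) 1 := by
    unfold cc
    rw [cm_eq hc hπz hb]
  have hcen : ∀ e : E, cc hc i l k j (-(t * u)) 1 * e = e * cc hc i l k j (-(t * u)) 1 :=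
    cc_central hc hil (Ne.symm hjk) hij (Ne.symm hkl) _ _
  -- conjugating `x` by `y`
  have key : y * x * y⁻¹ * x⁻¹ = cc hc i l k j (-(t * u)) 1 := by
    have e1 : y * x * y⁻¹ = (z * a) * (y * b * y⁻¹) * (z * a)⁻¹ * (y * b * y⁻¹)⁻¹ := by
      rw [hx, hz]
      group
    have e2 : y * b * y⁻¹ = b := by rw [hyb, mul_inv_cancel_right]
    rw [e2] at e1
    have e3 : (z * a) * b * (z * a)⁻¹ * b⁻¹ = z * x * z⁻¹ * (z * b * z⁻¹ * b⁻¹) := by
      rw [hx]
      group
    rw [e1, e3, hzx, mul_inv_cancel_right, hzb, ← hcen x, mul_inv_cancel_right]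
  have h1 : (cc hc i j k l t u)⁻¹ = cc hc i l k j (-(t * u)) 1 := by
    unfold cc
    rw [cm_inv hc, cm_eq hc hy hπx]
    exact key
  rw [cc_neg hc hil (Ne.symm hjk) hij (Ne.symm hkl)] at h1
  exact inv_injective h1

/-- second decomposition `x_ij(t) = [x_il(t), x_lj(1)]` -/
theorem R2 (hc : CExt π) (hcol : ColComm π) {i j k l : ι} (hij : i ≠ j) (hik : i ≠ k) (hil : i ≠ l)
    (hjk : j ≠ k) (hjl : j ≠ l) (hkl : k ≠ l) (t u : K) :
    (cc hc i j k l t u)⁻¹ = cc hc i l k j t u := by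
  obtain ⟨a, ha⟩ := hc.surj (TT ι K i l t)
  obtain ⟨b, hb⟩ := hc.surj (TT ι K l j 1)
  obtain ⟨y, hy⟩ := hc.surj (TT ι K k l u)
  set x := a * b * a⁻¹ * b⁻¹ with hx
  have hπx : π x = TT ι K i j t := by
    rw [hx]
    simp only [map_mul, map_inv, ha, hb]
    rw [TT_comm3 hil (Ne.symm hjl) hij, mul_one]
  -- `z` lifts `x_kj(u)`
  set z := y * b * y⁻¹ * b⁻¹ with hz
  have hπz : π z = TT ι K k j u := by
    rw [hz]
    simp only [map_mul, map_inv, hb, hy]
    rw [TT_comm3 hkl (Ne.symm hjl) (Ne.symm hjk), mul_one]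
  have hya : y * a = a * y := hcol l k i u t y a hkl hil (Ne.symm hik) hy ha
  have hzx : z * x = x * z := hcol j k i u t z x (Ne.symm hjk) hij (Ne.symm hik) hπz hπx
  have haz : a * z * a⁻¹ * z⁻¹ = cc hc i l k j t u := by
    unfold cc
    rw [cm_eq hc ha hπz]
  have hcen : ∀ e : E, cc hc i l k j t u * e = e * cc hc i l k j t u :=
    cc_central hc hil (Ne.symm hjk) hij (Ne.symm hkl) _ _
  have key : y * x * y⁻¹ * x⁻¹ = cc hc i l k j t u := by
    have e1 : y * x * y⁻¹ = (y * a * y⁻¹) * (z * b) * (y * a * y⁻¹)⁻¹ * (z * b)⁻¹ := by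
      rw [hx, hz]
      group
    have e2 : y * a * y⁻¹ = a := by rw [hya, mul_inv_cancel_right]
    rw [e2] at e1
    have e3 : a * (z * b) * a⁻¹ * (z * b)⁻¹ = (a * z * a⁻¹ * z⁻¹) * (z * x * z⁻¹) := by
      rw [hx]
      group
    rw [e1, e3, hzx, mul_inv_cancel_right, haz, mul_inv_cancel_right]
  unfold cc
  rw [cm_inv hc, cm_eq hc hy hπx]
  exact key

/-- DISJ_ODD (L): disjoint root elements in odd characteristic, from the row and column cases. -/
theorem DISJ_ODD (hc : CExt π) (hrow : RowComm π) (hcol : ColComm π) {p : ℕ} [CharP K p] (hp : Odd p) :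
    DisjComm π := by
  intro i j k l t u a b hij hik hil hjk hjl hkl ha hb
  rw [commute_iff_cm hc ha hb]
  show cc hc i j k l t u = 1
  -- the second configuration
  have hij' : i ≠ l := hil
  have h1 : ∀ t u : K, cc hc i j k l t u = cc hc i l k j (t * u) 1 :=
    fun t u => R1 hc hrow hij hik hil hjk hjl hkl t u
  have h2 : ∀ t u : K, (cc hc i j k l t u)⁻¹ = cc hc i l k j t u :=
    fun t u => R2 hc hcol hij hik hil hjk hjl hkl t u
  -- `c'(t,1)` is an involution
  have h3 : ∀ s : K, cc hc i l k j s 1 * cc hc i l k j s 1 = 1 := by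
    intro s
    have e1 := h1 s 1
    rw [mul_one] at e1
    have e2 := h2 s 1
    rw [e1] at e2
    nth_rewrite 1 [← e2]
    exact inv_mul_cancel _
  have hsq : cc hc i j k l t u ^ 2 = 1 := by
    rw [h1, pow_two]
    exact h3 _
  have hpow : cc hc i j k l t u ^ p = 1 := by
    rw [← cc_nsmul hc hij hkl hil hjk, CharP.cast_eq_zero K p, zero_mul,
      cc_zero hc hij hkl hil hjk]
  obtain ⟨m, hm⟩ := hp
  have : cc hc i j k l t u ^ p = cc hc i j k l t u := by
    rw [hm, pow_succ, pow_mul, hsq, one_pow, one_mul]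
  rw [← this, hpow]

end Cfsg.Agent.Lib.Helper72_S2086_DISJ_ODD
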