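import Mathlib
import Cfsg.Agent.Lib.Helper72_SLnUceDefs
import Cfsg.Agent.Lib.Helper66_StMain
import Cfsg.Agent.Lib.Helper66_SL3PresD

set_option autoImplicit false

/-!
# S2086 package SECTION (helper72): from lifted root elements to a section
-/

namespace Cfsg.Agent.Lib.Helper72_S2086_SECTION

open Matrix Cfsg.Agent.Lib.Helper81_UceA Cfsg.Agent.Lib.Helper66_StCalc Cfsg.Agent.Lib.Helper72_SLnUce
  Cfsg.Agent.Lib.Helper66_SL3Pres

/-- SECTION (S): from the lifted root elements to a section. -/
theorem SECTION {K : Type*} [Field K] [Finite K] {ι : Type} [Fintype ι] [DecidableEq ι]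
    (h3 : 3 ≤ Fintype.card ι) {E : Type*} [Group E] (π : E →* Matrix.SpecialLinearGroup ι K)
    (y : ι → ι → K → E) (hy : StRelAB y) (hπ : ∀ i j t, π (y i j t) = TT ι K i j t) :
    ∃ s : Matrix.SpecialLinearGroup ι K →* E, π.comp s = MonoidHom.id _ := by
  have hst : StRel y := stRel_of_stRelAB h3 hy
  have hbij := piHom_bijective K ι (by omega)
  let e : StGrp ι K ≃* Matrix.SpecialLinearGroup ι K := MulEquiv.ofBijective (piHom ι K) hbij
  refine ⟨(stLift hst).comp e.symm.toMonoidHom, ?_⟩
  -- compare on the Steinberg group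
  have hcomp : (π.comp (stLift hst)) = piHom ι K := by
    apply PresentedGroup.ext
    rintro ⟨i, j, t⟩
    show π (stLift hst (sgen i j t)) = piHom ι K (sgen i j t)
    rw [stLift_sgen, hπ, piHom_sgen]
  ext1 g
  obtain ⟨z, rfl⟩ := hbij.2 g
  have h1 : e.symm (piHom ι K z) = z := by
    rw [MulEquiv.symm_apply_eq]
    rfl
  show π (stLift hst (e.symm (piHom ι K z))) = piHom ι K z
  rw [h1]
  exact DFunLike.congr_fun hcomp z

end Cfsg.Agent.Lib.Helper72_S2086_SECTION
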