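import Mathlib
import Cfsg.Agent.Lib.Helper72_SLnUceDefs

set_option autoImplicit false

/-!
# S2086 package TORROOT (helper72): a diagonal matrix centralising a root subgroup
-/

namespace Cfsg.Agent.Lib.Helper72_S2086_TORROOT

open Matrix Cfsg.Agent.Lib.Helper81_UceA Cfsg.Agent.Lib.Helper66_StCalc Cfsg.Agent.Lib.Helper72_SLnUce

variable {ι : Type*} [Fintype ι] [DecidableEq ι] {K : Type*} [Field K] {E : Type*} [Group E]
  {π : E →* Matrix.SpecialLinearGroup ι K}

/-- the diagonal entries `a` at `i`, `b` at `m`, one elsewhere -/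
def d2 (i m : ι) (a b : Kˣ) : ι → Kˣ := Function.update (Function.update (fun _ => 1) i a) m b

theorem d2_m (i m : ι) (a b : Kˣ) : d2 i m a b m = b := by
  unfold d2
  rw [Function.update_self]

theorem d2_i {i m : ι} (h : i ≠ m) (a b : Kˣ) : d2 i m a b i = a := by
  unfold d2
  rw [Function.update_of_ne h, Function.update_self]

theorem d2_other {i m x : ι} (hi : x ≠ i) (hm : x ≠ m) (a b : Kˣ) : d2 i m a b x = 1 := by
  unfold d2
  rw [Function.update_of_ne hm, Function.update_of_ne hi]

theorem prod_d2 {i m : ι} (h : i ≠ m) (a b : Kˣ) : ∏ x, d2 i m a b x = a * b := by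
  unfold d2
  rw [Finset.prod_update_of_mem (Finset.mem_univ m), Finset.prod_update_of_mem
    (Finset.mem_sdiff.mpr ⟨Finset.mem_univ i, by simpa using h⟩)]
  simp [mul_comm]

/-- TORROOT (M): a diagonal matrix centralising a root subgroup: lifts commute. -/
theorem TORROOT (hc : CExt π) {lam : Kˣ} (hlam : lam ≠ 1) {i j m : ι} (hij : i ≠ j) (hmi : m ≠ i)
    (hmj : m ≠ j) (d : ι → Kˣ) (hd : ∏ x, d x = 1) (hdij : d i = d j) (t : K) {e e' : E}
    (he : π e = dg d hd) (he' : π e' = TT ι K i j t) : e * e' = e' * e := by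
  rw [commute_iff_cm hc he he']
  -- the diagonal matrix commutes with the root subgroup
  have hcomm : ∀ s : K, dg d hd * TT ι K i j s = TT ι K i j s * dg d hd := by
    intro s
    have h := dg_conj_TT d hd i j s
    rw [hdij, ← Units.val_mul, mul_inv_cancel, Units.val_one, one_mul, mul_inv_eq_iff_eq_mul] at h
    exact h
  set φ : K → E := fun s => cm hc.surj (dg d hd) (TT ι K i j s) with hφ
  have hcen : ∀ (s : K) (x : E), φ s * x = x * φ s := fun s x =>
    cm_comm_of_commute hc (hcomm s) x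
  have hadd : ∀ s s' : K, φ (s + s') = φ s * φ s' := by
    intro s s'
    obtain ⟨c, hcl⟩ := hc.surj (TT ι K i j s)
    show cm hc.surj (dg d hd) (TT ι K i j (s + s')) = _
    rw [← (stRelAB_TT (ι := ι) (K := K)).add i j s s', cm_mul_right hc _ _ _ hcl]
    have := hcen s' c
    simp only [hφ] at this ⊢
    rw [← this, mul_inv_cancel_right]
  -- the second diagonal matrix
  have hd' : ∏ x, d2 i m lam lam⁻¹ x = 1 := by
    rw [prod_d2 (Ne.symm hmi), mul_inv_cancel]
  have hinv : ∀ s : K, φ ((lam : K) * s) = φ s := by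
    intro s
    obtain ⟨k, hk⟩ := hc.surj (dg (d2 i m lam lam⁻¹) hd')
    have h1 := conj_cm hc k (dg d hd) (TT ι K i j s)
    rw [hk] at h1
    have h2 : dg (d2 i m lam lam⁻¹) hd' * dg d hd * (dg (d2 i m lam lam⁻¹) hd')⁻¹ = dg d hd := by
      rw [dg_comm, mul_inv_cancel_right]
    have h3 : dg (d2 i m lam lam⁻¹) hd' * TT ι K i j s * (dg (d2 i m lam lam⁻¹) hd')⁻¹ =
        TT ι K i j ((lam : K) * s) := by
      rw [dg_conj_TT, d2_i (Ne.symm hmi), d2_other (Ne.symm hij) (Ne.symm hmj), inv_one,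
        Units.val_one, mul_one]
    rw [h2, h3] at h1
    have h4 := hcen s k
    simp only [hφ] at h4 ⊢
    rw [← h1, ← h4, mul_inv_cancel_right]
  have hl : (lam : K) ≠ 1 := by
    intro h
    apply hlam
    exact Units.ext (by rw [h, Units.val_one])
  exact eq_one_of_add_of_scale φ hadd hl hinv t

end Cfsg.Agent.Lib.Helper72_S2086_TORROOT
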