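import Mathlib
import Cfsg.Agent.Lib.Helper72_SLnUceDefs

/-!
# S2086 package ROW3 (architect helper72, proof helper91)

Torus argument: in a central extension of `SL ι K` the commutator of lifts of two commuting elementary
matrices is central, additive in each parameter and invariant under conjugation by lifts of diagonal
matrices.  With a unit `s`, `s ^ 3 ≠ 1`, lifts of two root elements of one row commute.

The general lemmas `cm_add`, `cm_scale`, `d3` (diagonal entries on three indices) are reused by the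
packages COL3 and DISJ_TORUS.
-/

set_option autoImplicit false
set_option linter.unusedSectionVars false

namespace Cfsg.Agent.Lib.Helper91_S2086_ROW3

open Matrix Cfsg.Agent.Lib.Helper81_UceA Cfsg.Agent.Lib.Helper66_StCalc Cfsg.Agent.Lib.Helper72_SLnUce

variable {ι : Type*} [Fintype ι] [DecidableEq ι] {K : Type*} [Field K] {E : Type*} [Group E]
  {π : E →* Matrix.SpecialLinearGroup ι K}

/-- commuting elementary matrices: the commutator of lifts is additive in the first parameter -/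
theorem cm_add (hc : CExt π) {i j k l : ι} (u : K)
    (hcomm : ∀ t : K, TT ι K i j t * TT ι K k l u = TT ι K k l u * TT ι K i j t) (t t' : K) :
    cm hc.surj (TT ι K i j (t + t')) (TT ι K k l u) =
      cm hc.surj (TT ι K i j t) (TT ι K k l u) * cm hc.surj (TT ι K i j t') (TT ι K k l u) := by
  obtain ⟨a, ha⟩ := hc.surj (TT ι K i j t)
  rw [← (stRelAB_TT (ι := ι) (K := K)).add i j t t', cm_mul_left hc _ _ _ ha]
  have h1 := cm_comm_of_commute hc (hcomm t') a
  have h2 := cm_comm_of_commute hc (hcomm t) (cm hc.surj (TT ι K i j t') (TT ι K k l u))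
  rw [← h1, mul_inv_cancel_right]
  exact h2.symm

/-- commuting elementary matrices: the commutator of lifts is invariant under the diagonal torus -/
theorem cm_scale (hc : CExt π) (d : ι → Kˣ) (hd : ∏ x, d x = 1) {i j k l : ι} (t u : K)
    (hcomm : TT ι K i j t * TT ι K k l u = TT ι K k l u * TT ι K i j t) :
    cm hc.surj (TT ι K i j ((d i : K) * ((d j : Kˣ)⁻¹ : Kˣ) * t))
        (TT ι K k l ((d k : K) * ((d l : Kˣ)⁻¹ : Kˣ) * u)) =
      cm hc.surj (TT ι K i j t) (TT ι K k l u) := by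
  obtain ⟨e, he⟩ := hc.surj (dg d hd)
  have h1 := conj_cm hc e (TT ι K i j t) (TT ι K k l u)
  rw [he, dg_conj_TT, dg_conj_TT] at h1
  rw [← h1, ← cm_comm_of_commute hc hcomm e, mul_inv_cancel_right]

/-- diagonal entries supported on three indices -/
def d3 (p1 p2 p3 : ι) (a1 a2 a3 : Kˣ) : ι → Kˣ :=
  Pi.mulSingle p1 a1 * Pi.mulSingle p2 a2 * Pi.mulSingle p3 a3

theorem prod_d3 (p1 p2 p3 : ι) (a1 a2 a3 : Kˣ) :
    ∏ x, d3 p1 p2 p3 a1 a2 a3 x = a1 * a2 * a3 := by
  unfold d3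
  simp only [Pi.mul_apply, Finset.prod_mul_distrib, Fintype.prod_pi_mulSingle']

theorem d3_fst {p1 p2 p3 : ι} (a1 a2 a3 : Kˣ) (h12 : p1 ≠ p2) (h13 : p1 ≠ p3) :
    d3 p1 p2 p3 a1 a2 a3 p1 = a1 := by
  unfold d3
  rw [Pi.mul_apply, Pi.mul_apply, Pi.mulSingle_eq_same, Pi.mulSingle_eq_of_ne h12,
    Pi.mulSingle_eq_of_ne h13, mul_one, mul_one]

theorem d3_snd {p1 p2 p3 : ι} (a1 a2 a3 : Kˣ) (h12 : p1 ≠ p2) (h23 : p2 ≠ p3) :
    d3 p1 p2 p3 a1 a2 a3 p2 = a2 := by
  unfold d3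
  rw [Pi.mul_apply, Pi.mul_apply, Pi.mulSingle_eq_same, Pi.mulSingle_eq_of_ne h12.symm,
    Pi.mulSingle_eq_of_ne h23, one_mul, mul_one]

theorem d3_trd {p1 p2 p3 : ι} (a1 a2 a3 : Kˣ) (h13 : p1 ≠ p3) (h23 : p2 ≠ p3) :
    d3 p1 p2 p3 a1 a2 a3 p3 = a3 := by
  unfold d3
  rw [Pi.mul_apply, Pi.mul_apply, Pi.mulSingle_eq_same, Pi.mulSingle_eq_of_ne h13.symm,
    Pi.mulSingle_eq_of_ne h23.symm, one_mul, one_mul]

theorem d3_other {p1 p2 p3 x : ι} (a1 a2 a3 : Kˣ) (h1 : x ≠ p1) (h2 : x ≠ p2) (h3 : x ≠ p3) :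
    d3 p1 p2 p3 a1 a2 a3 x = 1 := by
  unfold d3
  rw [Pi.mul_apply, Pi.mul_apply, Pi.mulSingle_eq_of_ne h1, Pi.mulSingle_eq_of_ne h2,
    Pi.mulSingle_eq_of_ne h3, mul_one, mul_one]

/-- the common pattern: a central additive commutator invariant under `t ↦ l t`, `l ≠ 1` -/
theorem comm_of_scale (hc : CExt π) {i j k l : ι} (u : K)
    (hcomm : ∀ t : K, TT ι K i j t * TT ι K k l u = TT ι K k l u * TT ι K i j t)
    (d : ι → Kˣ) (hd : ∏ x, d x = 1) (hkl : d k = d l) (hij : (d i : K) * ((d j : Kˣ)⁻¹ : Kˣ) ≠ 1)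
    (t : K) {a b : E} (ha : π a = TT ι K i j t) (hb : π b = TT ι K k l u) : a * b = b * a := by
  rw [commute_iff_cm hc ha hb]
  refine eq_one_of_add_of_scale (fun t => cm hc.surj (TT ι K i j t) (TT ι K k l u))
    (cm_add hc u hcomm) hij ?_ t
  intro t
  have h1 := cm_scale hc d hd t u (hcomm t)
  have h2 : (d k : K) * ((d l : Kˣ)⁻¹ : Kˣ) * u = u := by
    rw [hkl, Units.mul_inv, one_mul]
  rw [h2] at h1
  exact h1

/-- ROW3 (M): torus argument for two root elements in one row. -/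
theorem ROW3 (hc : CExt π) {s : Kˣ} (hs : s ^ 3 ≠ 1) : RowComm π := by
  intro i j m t u a b hij him hjm ha hb
  have hcomm : ∀ t : K, TT ι K i j t * TT ι K i m u = TT ι K i m u * TT ι K i j t := fun t =>
    (stRelAB_TT (ι := ι) (K := K)).comm i j i m t u hij him him hij.symm
  have hd : ∏ x, d3 i m j s s (s ^ 2)⁻¹ x = 1 := by
    rw [prod_d3]
    group
  refine comm_of_scale hc u hcomm (d3 i m j s s (s ^ 2)⁻¹) hd ?_ ?_ t ha hb
  · rw [d3_fst _ _ _ him hij, d3_snd _ _ _ him hjm.symm]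
  · rw [d3_fst _ _ _ him hij, d3_trd _ _ _ hij hjm.symm, inv_inv]
    intro h
    apply hs
    apply Units.ext
    rw [Units.val_one, ← h]
    push_cast
    ring

end Cfsg.Agent.Lib.Helper91_S2086_ROW3
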