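import Mathlib
import Cfsg.Agent.Lib.Helper72_SLnUceDefs
import Cfsg.Agent.Lib.Helper91_S2086_ROW3

/-!
# S2086 package COL3 (architect helper72, proof helper91)

Torus argument (mirror of ROW3): with a unit `s`, `s ^ 3 ≠ 1`, lifts of two root elements of one
column commute in every central extension of `SL ι K`.
-/

set_option autoImplicit false

namespace Cfsg.Agent.Lib.Helper91_S2086_COL3

open Matrix Cfsg.Agent.Lib.Helper81_UceA Cfsg.Agent.Lib.Helper66_StCalc Cfsg.Agent.Lib.Helper72_SLnUce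
  Cfsg.Agent.Lib.Helper91_S2086_ROW3

variable {ι : Type*} [Fintype ι] [DecidableEq ι] {K : Type*} [Field K] {E : Type*} [Group E]
  {π : E →* Matrix.SpecialLinearGroup ι K}

/-- COL3 (M): torus argument for two root elements in one column. -/
theorem COL3 (hc : CExt π) {s : Kˣ} (hs : s ^ 3 ≠ 1) : ColComm π := by
  intro i j m t u a b hji hmi hjm ha hb
  have hcomm : ∀ t : K, TT ι K j i t * TT ι K m i u = TT ι K m i u * TT ι K j i t := fun t =>
    (stRelAB_TT (ι := ι) (K := K)).comm j i m i t u hji hmi hji hmi.symm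
  have hd : ∏ x, d3 i m j s⁻¹ s⁻¹ (s ^ 2) x = 1 := by
    rw [prod_d3]
    group
  refine comm_of_scale hc u hcomm (d3 i m j s⁻¹ s⁻¹ (s ^ 2)) hd ?_ ?_ t ha hb
  · rw [d3_fst _ _ _ hmi.symm hji.symm, d3_snd _ _ _ hmi.symm hjm.symm]
  · rw [d3_fst _ _ _ hmi.symm hji.symm, d3_trd _ _ _ hji.symm hjm.symm, inv_inv]
    intro h
    apply hs
    apply Units.ext
    rw [Units.val_one, ← h]
    push_cast
    ring

end Cfsg.Agent.Lib.Helper91_S2086_COL3
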