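import Mathlib
import Cfsg.Agent.Lib.Helper72_SLnUceDefs
import Cfsg.Agent.Lib.Helper91_S2086_ROW3

/-!
# S2086 package DISJ_TORUS (architect helper72, proof helper91)

Torus argument: with a unit `s`, `s ^ 2 ≠ 1`, lifts of two root elements with four different indices
commute in every central extension of `SL ι K`.
-/

set_option autoImplicit false

namespace Cfsg.Agent.Lib.Helper91_S2086_DISJ_TORUS

open Matrix Cfsg.Agent.Lib.Helper81_UceA Cfsg.Agent.Lib.Helper66_StCalc Cfsg.Agent.Lib.Helper72_SLnUce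
  Cfsg.Agent.Lib.Helper91_S2086_ROW3

variable {ι : Type*} [Fintype ι] [DecidableEq ι] {K : Type*} [Field K] {E : Type*} [Group E]
  {π : E →* Matrix.SpecialLinearGroup ι K}

/-- DISJ_TORUS (M): torus argument for disjoint root elements. -/
theorem DISJ_TORUS (hc : CExt π) {s : Kˣ} (hs : s ^ 2 ≠ 1) : DisjComm π := by
  intro i j k l t u a b hij hik hil hjk hjl hkl ha hb
  have hcomm : ∀ t : K, TT ι K i j t * TT ι K k l u = TT ι K k l u * TT ι K i j t := fun t =>
    (stRelAB_TT (ι := ι) (K := K)).comm i j k l t u hij hkl hil hjk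
  have hd : ∏ x, d3 i j k s s⁻¹ 1 x = 1 := by
    rw [prod_d3]
    group
  refine comm_of_scale hc u hcomm (d3 i j k s s⁻¹ 1) hd ?_ ?_ t ha hb
  · rw [d3_trd _ _ _ hik hjk, d3_other _ _ _ hil.symm hjl.symm hkl.symm]
  · rw [d3_fst _ _ _ hij hik, d3_snd _ _ _ hij hjk, inv_inv]
    intro h
    apply hs
    apply Units.ext
    rw [Units.val_one, ← h]
    push_cast
    ring

end Cfsg.Agent.Lib.Helper91_S2086_DISJ_TORUS
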