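import Mathlib
import Cfsg.Agent.Lib.Helper60_S2086_UNITS
import Cfsg.Agent.Lib.Helper60_S2086_CUBES2
import Cfsg.Agent.Lib.Helper52_S2086_FREE4
import Cfsg.Agent.Lib.Helper52_S2086_LIFTCOMM
import Cfsg.Agent.Lib.Helper91_S2086_ROW3
import Cfsg.Agent.Lib.Helper91_S2086_COL3
import Cfsg.Agent.Lib.Helper91_S2086_DISJ_TORUS
import Cfsg.Agent.Lib.Helper72_S2086_DISJ_ODD
import Cfsg.Agent.Lib.Helper72_S2086_SECTION
import Cfsg.Agent.Lib.Helper72_S2086_TORROOT
import Cfsg.Agent.Lib.Helper43_S2086_FF_ADD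
import Cfsg.Agent.Lib.Helper43_S2086_BAL3
import Cfsg.Agent.Lib.Helper43_S2086_BALCUBES
import Cfsg.Agent.Lib.Helper46_S2086_HW
import Cfsg.Agent.Lib.Helper46_S2086_YREL

set_option autoImplicit false

/-!
# `SL_n(q)` is centrally closed (helper72, row S2086): assembly of the packages
-/

namespace Cfsg.Agent.Lib.Helper72_S2086_Split

open Matrix Cfsg.Agent.Lib.Helper81_UceA Cfsg.Agent.Lib.Helper66_StCalc Cfsg.Agent.Lib.Helper72_SLnUce
  Cfsg.Agent.Lib.Helper66_SL3Pres
open Cfsg.Agent.Lib.Helper60_S2086_UNITS (UNITS)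
open Cfsg.Agent.Lib.Helper60_S2086_CUBES2 (CUBES2)
open Cfsg.Agent.Lib.Helper52_S2086_FREE4 (FREE4)
open Cfsg.Agent.Lib.Helper52_S2086_LIFTCOMM (LIFTCOMM)
open Cfsg.Agent.Lib.Helper91_S2086_ROW3 (ROW3)
open Cfsg.Agent.Lib.Helper91_S2086_COL3 (COL3)
open Cfsg.Agent.Lib.Helper91_S2086_DISJ_TORUS (DISJ_TORUS)
open Cfsg.Agent.Lib.Helper72_S2086_DISJ_ODD (DISJ_ODD)
open Cfsg.Agent.Lib.Helper72_S2086_SECTION (SECTION)
open Cfsg.Agent.Lib.Helper72_S2086_TORROOT (TORROOT)
open Cfsg.Agent.Lib.Helper43_S2086_FF_ADD (FF_ADD)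
open Cfsg.Agent.Lib.Helper43_S2086_BAL3 (BAL3)
open Cfsg.Agent.Lib.Helper43_S2086_BALCUBES (BALCUBES)
open Cfsg.Agent.Lib.Helper46_S2086_HW (HW)
open Cfsg.Agent.Lib.Helper46_S2086_YREL (YREL)

variable {K : Type*} [Field K] [Fintype K]

/-- a finite field of characteristic two with more than two elements has at least four -/
theorem four_le_card_of_char_two (h2 : ringChar K = 2) (hq2 : Fintype.card K ≠ 2) :
    4 ≤ Fintype.card K := by
  obtain ⟨k, hp, hk⟩ := FiniteField.card K (ringChar K)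
  rw [h2] at hk
  have hk1 : (k : ℕ) ≠ 1 := by
    intro h
    rw [h, pow_one] at hk
    exact hq2 hk
  have hk2 : 2 ≤ (k : ℕ) := by
    have := k.pos
    omega
  calc 4 = 2 ^ 2 := by norm_num
    _ ≤ 2 ^ (k : ℕ) := Nat.pow_le_pow_right (by norm_num) hk2
    _ = Fintype.card K := hk.symm

/-- an index outside a set of at most three indices -/
theorem exists_ne3 {n : ℕ} (h4 : 4 ≤ n) (a b c : Fin n) : ∃ l : Fin n, l ≠ a ∧ l ≠ b ∧ l ≠ c := by
  by_contra hcon
  push Not at hcon
  have hsub : (Finset.univ : Finset (Fin n)) ⊆ {a, b, c} := by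
    intro x _
    by_cases h1 : x = a
    · simp [h1]
    · by_cases h2 : x = b
      · simp [h2]
      · have := hcon x h1 h2
        simp [this]
  have h1 := Finset.card_le_card hsub
  have h2 : ({a, b, c} : Finset (Fin n)).card ≤ 3 := Finset.card_le_three
  rw [Finset.card_univ, Fintype.card_fin] at h1
  omega

/-- an index outside a set of at most two indices -/
theorem exists_ne2 {n : ℕ} (h3 : 3 ≤ n) (a b : Fin n) : ∃ l : Fin n, l ≠ a ∧ l ≠ b := by
  by_contra hcon
  push Not at hcon
  have hsub : (Finset.univ : Finset (Fin n)) ⊆ {a, b} := by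
    intro x _
    by_cases h1 : x = a
    · simp [h1]
    · have := hcon x h1
      simp [this]
  have h1 := Finset.card_le_card hsub
  have h2 : ({a, b} : Finset (Fin n)).card ≤ 2 := Finset.card_le_two
  rw [Finset.card_univ, Fintype.card_fin] at h1
  omega

theorem eq_of_ne3_aux : ∀ i j k l : Fin 3, i ≠ j → k ≠ i → k ≠ j → l ≠ i → l ≠ j → k = l := by
  decide

/-- with three indices, two indices different from `i ≠ j` agree -/
theorem eq_of_ne3 {i j k l : Fin 3} (hij : i ≠ j) (hki : k ≠ i) (hkj : k ≠ j) (hli : l ≠ i)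
    (hlj : l ≠ j) : k = l := eq_of_ne3_aux i j k l hij hki hkj hli hlj

theorem false_of_four3_aux : ∀ i j k l : Fin 3, i ≠ j → i ≠ k → i ≠ l → j ≠ k → j ≠ l → k ≠ l →
    False := by
  intro i j k l h1 h2 h3 h4 h5 h6
  have := i.isLt
  have := j.isLt
  have := k.isLt
  have := l.isLt
  simp only [ne_eq, Fin.ext_iff] at h1 h2 h3 h4 h5 h6
  omega

/-- no four different indices among three -/
theorem false_of_four3 {i j k l : Fin 3} (hij : i ≠ j) (hik : i ≠ k) (hil : i ≠ l) (hjk : j ≠ k)
    (hjl : j ≠ l) (hkl : k ≠ l) : False := false_of_four3_aux i j k l hij hik hil hjk hjl hkl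

variable {E : Type*} [Group E]

/-- lifts of commuting elementary matrices commute -/
theorem liftComm {n : ℕ} (h3 : 3 ≤ n)
    (hexc : (n, Fintype.card K) ∉ ({(3, 2), (3, 4), (4, 2)} : Set (ℕ × ℕ)))
    (π : E →* Matrix.SpecialLinearGroup (Fin n) K) (hc : CExt π) : LiftComm π := by
  have hcard : Fintype.card (Fin n) = n := Fintype.card_fin n
  by_cases h4 : 4 ≤ n
  · obtain ⟨hrow, hcol, hdisj5⟩ := FREE4 hc (by omega)
    have hdisj : DisjComm π := by
      by_cases h5 : 5 ≤ n
      · exact hdisj5 (by omega)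
      · have hn4 : n = 4 := by omega
        have hq2 : Fintype.card K ≠ 2 := by
          intro h
          apply hexc
          rw [hn4, h]
          simp
        by_cases h2 : ringChar K = 2
        · obtain ⟨s, hs⟩ := (UNITS (K := K)).2.1 (four_le_card_of_char_two h2 hq2)
          exact DISJ_TORUS hc hs
        · have hcp : CharP K (ringChar K) := ringChar.charP K
          have hpp : (ringChar K).Prime := CharP.char_is_prime K (ringChar K)
          exact DISJ_ODD hc hrow hcol (p := ringChar K) (hpp.odd_of_ne_two h2)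
    exact LIFTCOMM hc (by omega) hrow hcol hdisj
  · have hn3 : n = 3 := by omega
    subst hn3
    have hq2 : Fintype.card K ≠ 2 := by
      intro h
      apply hexc
      rw [h]
      simp
    have hq4 : Fintype.card K ≠ 4 := by
      intro h
      apply hexc
      rw [h]
      simp
    obtain ⟨s, hs⟩ := (UNITS (K := K)).2.2 hq2 hq4
    refine LIFTCOMM hc (by omega) (ROW3 hc hs) (COL3 hc hs) ?_
    intro i j k l t u a b hij hik hil hjk hjl hkl _ _
    exact (false_of_four3 hij hik hil hjk hjl hkl).elim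

/-- `SL_n(q)`, `n ≥ 3`, is centrally closed, apart from `(n, q) = (3, 2), (3, 4), (4, 2)` -/
theorem SPLIT {n : ℕ} (h3 : 3 ≤ n)
    (hexc : (n, Fintype.card K) ∉ ({(3, 2), (3, 4), (4, 2)} : Set (ℕ × ℕ)))
    (π : E →* Matrix.SpecialLinearGroup (Fin n) K) (hc : CExt π) :
    ∃ s : Matrix.SpecialLinearGroup (Fin n) K →* E, π.comp s = MonoidHom.id _ := by
  have hcard : Fintype.card (Fin n) = n := Fintype.card_fin n
  have hL : LiftComm π := liftComm h3 hexc π hc
  have hmid : ∀ (i k l j : Fin n) (a b : K), i ≠ k → k ≠ j → i ≠ l → l ≠ j → i ≠ j →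
      ff hc.surj i k j a b = ff hc.surj i l j a b := by
    intro i k l j a b hik hkj hil hlj hij
    by_cases hkl : k = l
    · rw [hkl]
    · have := HW hc hL hik hil hij hkl hkj hlj a 1 b
      rwa [one_mul, mul_one] at this
  have hbal : ∀ (i k j : Fin n) (a b : K), i ≠ k → k ≠ j → i ≠ j →
      ff hc.surj i k j a b = ff hc.surj i k j (a * b) 1 := by
    intro i k j a b hik hkj hij
    by_cases h4 : 4 ≤ n
    · obtain ⟨l, hli, hlk, hlj⟩ := exists_ne3 h4 i k j
      have h1 := HW hc hL hik (Ne.symm hli) hij (Ne.symm hlk) hkj hlj a b 1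
      rw [mul_one] at h1
      rw [h1]
      exact hmid i l k j (a * b) 1 (Ne.symm hli) hlj hik hkj hij
    · have hn3 : n = 3 := by omega
      subst hn3
      have hq2 : Fintype.card K ≠ 2 := by
        intro h
        apply hexc
        rw [h]
        simp
      have hq4 : Fintype.card K ≠ 4 := by
        intro h
        apply hexc
        rw [h]
        simp
      have hq3 : 3 ≤ Fintype.card K := by
        have := Fintype.one_lt_card (α := K)
        omega
      obtain ⟨lam, hlam⟩ := (UNITS (K := K)).1 hq3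
      have htor : ∀ (i j : Fin 3) (d : Fin 3 → Kˣ) (hd : ∏ x, d x = 1) (t : K) (e e' : E), i ≠ j →
          d i = d j → π e = dg d hd → π e' = TT (Fin 3) K i j t → e * e' = e' * e := by
        intro i j d hd t e e' hij hdij he he'
        obtain ⟨m, hmi, hmj⟩ := exists_ne2 (n := 3) (by omega) i j
        exact TORROOT hc hlam hij hmi hmj d hd hdij t he he'
      have hcubes : ∀ x : K, x ∈ Cubes K := by
        intro x
        by_cases h2 : ringChar K = 2
        · refine CUBES2 h2 ?_ ?_ x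
          · rwa [Nat.card_eq_fintype_card]
          · rwa [Nat.card_eq_fintype_card]
        · exact cubes_top_of_odd h2 x
      exact BALCUBES hc (FF_ADD hc hL hik hkj hij)
        (fun s a b => BAL3 hc htor hik hkj hij s a b) hcubes a b
  obtain ⟨y, hy, hπy⟩ := YREL hc (by omega) hL hbal hmid
  exact SECTION (by omega) π y hy hπy

end Cfsg.Agent.Lib.Helper72_S2086_Split
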