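/-
S2399 (helper72): projective representations in the natural characteristic lift to the Steinberg cover, the case of
a finite field.  Canonical lifts of the root elements = the lifts of `p`-power order (Helper72_PSection); each
relation (R1), (R2) lives in a unipotent subgroup (root elements of the roots on which an additive function is
positive), over which the `p`-element lifts are multiplicative.
-/
import Mathlib
import Cfsg.Agent.Lib.Helper72_PSection
import Cfsg.Agent.Lib.Helper81_UceMain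

set_option autoImplicit false
set_option linter.unusedSectionVars false
set_option linter.unusedVariables false

namespace Cfsg.Agent.Lib.Helper72_S2399_Main

open Cfsg Cfsg.Lie Cfsg.Agent.Lib.Helper18_ChevFast Cfsg.Agent.Lib.Helper18_ChevEngine
  Cfsg.Agent.Lib.Helper18_ChevR1 Cfsg.Agent.Lib.Helper18_ChevN Cfsg.Agent.Lib.Helper18_ChevR4
  Cfsg.Agent.Lib.Helper18_ChevSimple Cfsg.Agent.Lib.Helper18_ChevSimple2 Cfsg.Agent.Lib.Helper18_ChevFacts
  Cfsg.Agent.Lib.Helper18_ChevWeyl Cfsg.Agent.Lib.Helper18_ChevDiag Cfsg.Agent.Lib.Helper18_ChevCar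
  Cfsg.Agent.Lib.Helper18_ChevTorus Cfsg.Agent.Lib.Helper18_ChevGL Cfsg.Agent.Lib.Helper18_ChevComm
  Cfsg.Agent.Lib.Helper18_ChevComm2 Cfsg.Agent.Lib.Helper18_MatTri Cfsg.Agent.Lib.Helper18_ChevTri
  Cfsg.Agent.Lib.Helper18_ChevBorel Cfsg.Agent.Lib.Helper18_ChevAdd Cfsg.Agent.Lib.Helper18_ChevUni
  Cfsg.Agent.Lib.Helper81_StUniq Cfsg.Agent.Lib.Helper81_StAbs Cfsg.Agent.Lib.Helper81_StMain
  Cfsg.Agent.Lib.Helper81_UceMain Cfsg.Agent.Lib.Helper72_PSection

variable {D : ChevalleyDatum} {Ns : List NData} {F : Type*} [Field F] {Γ : Type*} [Group Γ]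
variable {wl : List ℤ} {ws : List (List ℤ)} {sc : ℤ}
variable {E : Type*} [Group E]

/-! ### Maps that are multiplicative on a subgroup -/

theorem section_one {T : Subgroup Γ} {s : Γ → E} (hmul : ∀ x ∈ T, ∀ y ∈ T, s (x * y) = s x * s y) : s 1 = 1 := by
  have := hmul 1 T.one_mem 1 T.one_mem
  rw [mul_one] at this
  exact mul_eq_left.mp this.symm

theorem section_inv {T : Subgroup Γ} {s : Γ → E} (hmul : ∀ x ∈ T, ∀ y ∈ T, s (x * y) = s x * s y) {x : Γ}
    (hx : x ∈ T) : s x⁻¹ = (s x)⁻¹ := by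
  have := hmul x⁻¹ (T.inv_mem hx) x hx
  rw [inv_mul_cancel, section_one hmul] at this
  exact eq_inv_of_mul_eq_one_left this.symm

theorem section_wordP {T : Subgroup Γ} {s : Γ → E} (hmul : ∀ x ∈ T, ∀ y ∈ T, s (x * y) = s x * s y)
    (X : ℕ → F → Γ) : ∀ w : List (ℕ × F), (∀ p ∈ w, X p.1 p.2 ∈ T) →
      s (wordP X w) = wordP (fun r t => s (X r t)) w
  | [], _ => by rw [wordP_nil, wordP_nil, section_one hmul]
  | p :: w, h => by
    have hw : ∀ q ∈ w, X q.1 q.2 ∈ T := fun q hq => h q (List.mem_cons_of_mem _ hq)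
    rw [wordP_cons, wordP_cons, hmul _ (h p (by simp)) _ (wordP_mem X T w hw), section_wordP hmul X w hw]

theorem stGrp_map {Γ' : Type*} [Group Γ'] (f : Γ →* Γ') {X : ℕ → F → Γ} (hX : StGrp D X) :
    StGrp D (fun r t => f (X r t)) where
  add := fun r hr t u => by rw [← map_mul, hX.add r hr]
  comm := fun r s hr hs h1 h2 t u => by
    rw [← map_wordP, ← hX.comm r s hr hs h1 h2 t u]
    simp only [map_mul, map_inv]

/-- Relations (R1), (R2) pass to the images under a map that is multiplicative on each of the subgroups `SG`. -/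
theorem stGrp_section (c : DCert D Ns) (tc : TCert D) (ac : ACert D wl ws sc) {X : ℕ → F → Γ} (hX : StGrp D X)
    (s : Γ → E)
    (hpair : ∀ r s', r < D.nroots → s' < D.nroots → s' ≠ D.neg r →
      ∃ g : ℕ → ℤ, IsGrading D g ∧ 1 ≤ g r ∧ 1 ≤ g s')
    (hmul : ∀ g : ℕ → ℤ, IsGrading D g → ∀ x ∈ SG D X g, ∀ y ∈ SG D X g, s (x * y) = s x * s y) :
    StGrp D (fun r t => s (X r t)) where
  add := by
    intro r hr t u
    obtain ⟨g, hg, hgr, -⟩ := hpair r r hr hr (neg_ne_self c tc ac r hr).symm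
    show s (X r t) * s (X r u) = s (X r (t + u))
    rw [← hmul g hg _ (X_mem_SG X g hr hgr t) _ (X_mem_SG X g hr hgr u), hX.add r hr]
  comm := by
    intro r s' hr hs h1 h2 t u
    obtain ⟨g, hg, hgr, hgs⟩ := hpair r s' hr hs h2
    have hm := hmul g hg
    have hxr := X_mem_SG X g hr hgr t
    have hxs := X_mem_SG X g hs hgs u
    have hw : ∀ p ∈ D.commWord F r s' t u, X p.1 p.2 ∈ SG D X g := by
      intro p hp
      unfold ChevalleyDatum.commWord at hp
      rw [List.mem_map] at hp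
      obtain ⟨k, hk, rfl⟩ := hp
      obtain ⟨hk1, hi, hj, hgk⟩ := commTerms_grading c.rows ac.in_range hg r s' hr hs k hk
      apply X_mem_SG X g hk1
      rw [hgk]
      have h5 : (1 : ℤ) ≤ (k.2.2.1 : ℤ) := by exact_mod_cast hi
      have h6 : (1 : ℤ) ≤ (k.2.2.2 : ℤ) := by exact_mod_cast hj
      nlinarith
    show (s (X s' u))⁻¹ * (s (X r t))⁻¹ * s (X s' u) * s (X r t) = wordP (fun r t => s (X r t)) (D.commWord F r s' t u)
    rw [← section_wordP hm X _ hw, ← hX.comm r s' hr hs h1 h2 t u,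
      hm _ (Subgroup.mul_mem _ (Subgroup.mul_mem _ (Subgroup.inv_mem _ hxs) (Subgroup.inv_mem _ hxr)) hxs) _ hxr,
      hm _ (Subgroup.mul_mem _ (Subgroup.inv_mem _ hxs) (Subgroup.inv_mem _ hxr)) _ hxs,
      hm _ (Subgroup.inv_mem _ hxs) _ (Subgroup.inv_mem _ hxr), section_inv hm hxs, section_inv hm hxr]

/-! ### The subgroups `SG` are `p`-groups -/

theorem isPGroup_SG {p : ℕ} [hp : Fact p.Prime] [CharP F p] {X : ℕ → F → Γ} {π : Γ →* GL D.Idx F}
    (hinj : Function.Injective π)
    (hπ : ∀ r < D.nroots, ∀ t : F, ((π (X r t) : GL D.Idx F) : Matrix D.Idx D.Idx F) = D.x F r t)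
    {g : ℕ → ℤ} (hg : IsGrading D g) : IsPGroup p (SG D X g) := by
  have hle : SG D X g ≤ (triSubgroup (R := F) (grIdx D g) 1 (by norm_num)).comap π := by
    unfold SG
    rw [Subgroup.closure_le]
    rintro y ⟨s, hs, hgs, t, rfl⟩
    show π (X s t) ∈ triSubgroup (R := F) (grIdx D g) 1 (by norm_num)
    rw [mem_triSubgroup, hπ s hs t]
    exact x_sub_one_raises hg s hs 1 le_rfl hgs t
  intro y
  obtain ⟨B, hB⟩ := exists_bound (grIdx D g)
  have hmem : π y ∈ triSubgroup (R := F) (grIdx D g) 1 (by norm_num) := hle y.2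
  have hnil : (((π y : GL D.Idx F) : Matrix D.Idx D.Idx F) - 1) ^ B = 0 :=
    sub_one_pow_eq_zero hmem B (by intro i j; have := hB i j; simpa using this)
  refine ⟨B, ?_⟩
  have hBle : B ≤ p ^ B := (Nat.lt_pow_self hp.out.one_lt).le
  have hnil' : (((π y : GL D.Idx F) : Matrix D.Idx D.Idx F) - 1) ^ (p ^ B) = 0 := pow_eq_zero_of_le hBle hnil
  apply Subtype.ext
  apply hinj
  rw [Subgroup.coe_pow, map_pow, Subgroup.coe_one, map_one]
  rcases isEmpty_or_nonempty D.Idx with hE | hN
  · apply Units.ext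
    apply Subsingleton.elim
  · have : CharP (Matrix D.Idx D.Idx F) p := Matrix.charP p
    rw [sub_pow_char_pow_of_commute p B (Commute.one_right _), one_pow, sub_eq_zero] at hnil'
    apply Units.ext
    rw [Units.val_pow_eq_pow_val, hnil', Units.val_one]

/-! ### The certificate: two roots that are not opposite are positive for some additive function -/

/-- The weights `c₁ h_r + c₂ h_s`. -/
def pairW (D : ChevalleyDatum) (c1 c2 : ℤ) (r s : ℕ) : List ℤ :=
  (List.range D.rank).map fun i => c1 * cor D r i + c2 * cor D s i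

def pairOK (D : ChevalleyDatum) (r s : ℕ) : Bool :=
  [((1 : ℤ), (1 : ℤ)), (2, 3), (3, 2), (4, 7), (7, 4)].any fun c =>
    decide (1 ≤ grL D (pairW D c.1 c.2 r s) r) && decide (1 ≤ grL D (pairW D c.1 c.2 r s) s)

def pairCert (D : ChevalleyDatum) : Bool :=
  (List.range D.nroots).all fun r => (List.range D.nroots).all fun s => (s == D.neg r) || pairOK D r s

theorem exists_grading_of_pairCert (c : DCert D Ns) (tc : TCert D) (h : pairCert D = true) (r s' : ℕ)
    (hr : r < D.nroots) (hs : s' < D.nroots) (hne : s' ≠ D.neg r) :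
    ∃ g : ℕ → ℤ, IsGrading D g ∧ 1 ≤ g r ∧ 1 ≤ g s' := by
  unfold pairCert at h
  rw [List.all_eq_true] at h
  have h1 := h r (List.mem_range.mpr hr)
  rw [List.all_eq_true] at h1
  have h2 := h1 s' (List.mem_range.mpr hs)
  rw [Bool.or_eq_true, beq_iff_eq] at h2
  rcases h2 with h2 | h2
  · exact absurd h2 hne
  · unfold pairOK at h2
    rw [List.any_eq_true] at h2
    obtain ⟨cc, _, hcc⟩ := h2
    rw [Bool.and_eq_true, decide_eq_true_eq, decide_eq_true_eq, grL_eq, grL_eq] at hcc
    exact ⟨grRoot D (pairW D cc.1 cc.2 r s'), isGrading_w c tc _, hcc.1, hcc.2⟩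

set_option maxRecDepth 100000 in
theorem pairCert_B2 : pairCert chevB2 = true := by decide +kernel

set_option maxRecDepth 100000 in
theorem pairCert_G2 : pairCert chevG2 = true := by decide +kernel

set_option maxRecDepth 100000 in
theorem pairCert_D4 : pairCert chevD4 = true := by decide +kernel

set_option maxRecDepth 100000 in
theorem pairCert_F4 : pairCert chevF4 = true := by decide +kernel

/-! ### The lifts -/

/-- Over a finite field of characteristic `p`: root elements of a finite perfect group with (R1), (R2), embedded in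
the general linear group, lift to any central extension whose kernel has no `p`-torsion, with (R1), (R2). -/
theorem exists_stGrp_lift {p : ℕ} [hp : Fact p.Prime] [CharP F p] (hD : D ∈ [chevG2, chevB2, chevD4, chevF4, chevE6,
      chevE7, chevE8]) (hpc : pairCert D = true) [Finite Γ] (hperf : commutator Γ = ⊤) {X : ℕ → F → Γ}
    (hX : StGrp D X) {π : Γ →* GL D.Idx F} (hinj : Function.Injective π)
    (hπ : ∀ r < D.nroots, ∀ t : F, ((π (X r t) : GL D.Idx F) : Matrix D.Idx D.Idx F) = D.x F r t)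
    (ψ : E →* Γ) (hs : Function.Surjective ψ) (hc : ψ.ker ≤ Subgroup.center E)
    (htor : ∀ a ∈ ψ.ker, a ^ p = 1 → a = 1) :
    ∃ Z : ℕ → F → E, StGrp D Z ∧ ∀ r < D.nroots, ∀ t : F, ψ (Z r t) = X r t := by
  obtain ⟨Ns, w, d, Ts, hT, K, base, stepT, wl, ws, sc, c, tc, gc, pc, ac⟩ :=
    Cfsg.Agent.Lib.Helper18_ChevData5.exists_cert5 D hD
  obtain ⟨s, hsT⟩ := exists_pSection_of_perfect hp.out ψ hs hc hperf htor
  have hpair := exists_grading_of_pairCert c tc hpc
  refine ⟨fun r t => s (X r t), ?_, ?_⟩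
  · apply stGrp_section c tc ac hX s hpair
    intro g hg
    exact (hsT (SG D X g) (isPGroup_SG hinj hπ hg)).2
  · intro r hr t
    obtain ⟨g, hg, hgr, -⟩ := hpair r r hr hr (neg_ne_self c tc ac r hr).symm
    exact (hsT (SG D X g) (isPGroup_SG hinj hπ hg)).1 _ (X_mem_SG X g hr hgr t)

end Cfsg.Agent.Lib.Helper72_S2399_Main
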