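/-
S2399 (helper72): glue.  Uniqueness of lifts from a perfect group, the centre of `GL_n(L)` has no `p`-torsion in
characteristic `p`, the pullback of a central extension, and the existence of the lift over a finite field.
-/
import Mathlib
import Cfsg.Agent.Lib.Helper72_S2399_Main

set_option autoImplicit false
set_option linter.unusedSectionVars false
set_option linter.unusedVariables false

namespace Cfsg.Agent.Lib.Helper72_S2399_Glue

open scoped commutatorElement

open Cfsg Cfsg.Lie Cfsg.Agent.Lib.Helper18_ChevFacts Cfsg.Agent.Lib.Helper18_ChevTri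
  Cfsg.Agent.Lib.Helper18_ChevAdd Cfsg.Agent.Lib.Helper18_ChevUni
  Cfsg.Agent.Lib.Helper81_StAbs Cfsg.Agent.Lib.Helper81_StMain
  Cfsg.Agent.Lib.Helper81_UceMain Cfsg.Agent.Lib.Helper72_PSection Cfsg.Agent.Lib.Helper72_S2399_Main

/-- Lifts along central extensions from a perfect group are unique. -/
theorem lift_unique_of_perfect {Δ E G₁ : Type*} [Group Δ] [Group E] [Group G₁] (hperf : commutator Δ = ⊤)
    (π₁ : E →* G₁) (hc : π₁.ker ≤ Subgroup.center E) {τ₁ τ₂ : Δ →* E} (h : π₁.comp τ₁ = π₁.comp τ₂) :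
    τ₁ = τ₂ := by
  have hle : commutator Δ ≤ τ₁.eqLocus τ₂ := by
    rw [commutator_eq_closure, Subgroup.closure_le]
    rintro c ⟨x, y, rfl⟩
    show τ₁ ⁅x, y⁆ = τ₂ ⁅x, y⁆
    rw [map_commutatorElement, map_commutatorElement]
    exact commutatorElement_eq_of_map_eq π₁ hc (DFunLike.congr_fun h x) (DFunLike.congr_fun h y)
  rw [hperf] at hle
  exact MonoidHom.ext fun x => hle (Subgroup.mem_top x)

/-- A perfect group has perfect images. -/
theorem commutator_eq_top_of_surjective {G H : Type*} [Group G] [Group H] (f : G →* H)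
    (hf : Function.Surjective f) (h : commutator G = ⊤) : commutator H = ⊤ := by
  have := Subgroup.map_commutator (⊤ : Subgroup G) ⊤ f
  rw [Subgroup.map_top_of_surjective f hf, ← commutator_def, ← commutator_def, h,
    Subgroup.map_top_of_surjective f hf] at this
  exact this.symm

/-- In characteristic `p` a central element of `GL_n(L)` of order dividing `p` is trivial. -/
theorem center_GL_eq_one_of_pow {L : Type*} [Field L] {p : ℕ} [hp : Fact p.Prime] [CharP L p] {n : ℕ}
    (z : GL (Fin n) L) (hz : z ∈ Subgroup.center (GL (Fin n) L)) (hzp : z ^ p = 1) : z = 1 := by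
  rcases Nat.eq_zero_or_pos n with rfl | hn
  · apply Units.ext
    apply Subsingleton.elim
  · have : Nonempty (Fin n) := ⟨⟨0, hn⟩⟩
    obtain ⟨c, hc⟩ := Matrix.GeneralLinearGroup.mem_center_iff_val_mem_range_scalar.mp hz
    have h1 : (z : Matrix (Fin n) (Fin n) L) ^ p = 1 := by rw [← Units.val_pow_eq_pow_val, hzp, Units.val_one]
    rw [← hc, ← map_pow, ← map_one (Matrix.scalar (Fin n))] at h1
    have h2 : c ^ p = 1 := Matrix.scalar_inj.mp h1
    have h3 : (c - 1) ^ p = 0 := by rw [sub_pow_char, h2, one_pow, sub_self]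
    have h4 : c = 1 := sub_eq_zero.mp (pow_eq_zero_iff hp.out.ne_zero |>.mp h3)
    apply Units.ext
    rw [← hc, h4, map_one, Units.val_one]

section pullback

variable {Δ E G₁ : Type*} [Group Δ] [Group E] [Group G₁] (π₁ : E →* G₁) (σ : Δ →* G₁)

/-- The projection of the pullback. -/
def pbSnd : pullback π₁ σ →* Δ := (MonoidHom.snd E Δ).comp (pullback π₁ σ).subtype

theorem pbSnd_surjective (hπ : Function.Surjective π₁) : Function.Surjective (pbSnd π₁ σ) := by
  intro x
  obtain ⟨e, he⟩ := hπ (σ x)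
  exact ⟨⟨(e, x), he⟩, rfl⟩

theorem pbSnd_ker_le_center (hc : π₁.ker ≤ Subgroup.center E) :
    (pbSnd π₁ σ).ker ≤ Subgroup.center (pullback π₁ σ) := by
  rintro ⟨⟨e, x⟩, hp⟩ hker
  have hx : x = 1 := hker
  subst hx
  have he : e ∈ Subgroup.center E := by
    apply hc
    rw [MonoidHom.mem_ker]
    have : π₁ e = σ 1 := hp
    rw [this, map_one]
  rw [Subgroup.mem_center_iff] at he ⊢
  rintro ⟨⟨e', x'⟩, hp'⟩
  apply Subtype.ext
  show (e' * e, x' * 1) = (e * e', 1 * x')
  rw [he e', mul_one, one_mul]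

theorem pbSnd_ker_torsion {p : ℕ} (htor : ∀ z ∈ π₁.ker, z ^ p = 1 → z = 1) :
    ∀ a ∈ (pbSnd π₁ σ).ker, a ^ p = 1 → a = 1 := by
  rintro ⟨⟨e, x⟩, hp⟩ hker hap
  have hx : x = 1 := hker
  subst hx
  have he : e ∈ π₁.ker := by
    rw [MonoidHom.mem_ker]
    have : π₁ e = σ 1 := hp
    rw [this, map_one]
  have hep : e ^ p = 1 := by
    have := congrArg (fun a : pullback π₁ σ => (a : E × Δ).1) hap
    simpa using this
  have := htor e he hep
  subst this
  rfl

end pullback

/-- The homomorphism `θ` is onto the Chevalley group. -/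
theorem theta_surjective {K : Type*} [Field K] (D : ChevalleyDatum) (θ : D.SteinbergCover K →* ↥(D.group K))
    (hθ : ∀ (r : ℕ) (t : K), r < D.nroots →
      ((θ (D.scGen K r t) : GL D.Idx K) : Matrix D.Idx D.Idx K) = D.x K r t) : Function.Surjective θ := by
  have hle : D.group K ≤ θ.range.map (D.group K).subtype := by
    unfold ChevalleyDatum.group
    rw [Subgroup.closure_le]
    rintro g ⟨r, t, hg⟩
    refine ⟨θ (D.scGen K r.val t), ⟨_, rfl⟩, ?_⟩
    apply Units.ext
    rw [hg]
    show ((θ (D.scGen K r.val t) : GL D.Idx K) : Matrix D.Idx D.Idx K) = _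
    rw [hθ r.val t r.isLt]
    unfold ChevalleyDatum.x
    rw [dif_pos r.isLt]
  intro y
  obtain ⟨z, ⟨x, rfl⟩, hz⟩ := hle y.2
  exact ⟨x, Subtype.ext hz⟩

/-- Existence of the lift over a finite field. -/
theorem exists_lift_finite {K : Type*} [Field K] [Finite K] (D : ChevalleyDatum)
    (hD : D ∈ [chevG2, chevB2, chevD4, chevF4, chevE6, chevE7, chevE8]) (hpc : pairCert D = true)
    (hperf : commutator (D.SteinbergCover K) = ⊤)
    (θ : D.SteinbergCover K →* ↥(D.group K))
    (hθ : ∀ (r : ℕ) (t : K), r < D.nroots →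
      ((θ (D.scGen K r t) : GL D.Idx K) : Matrix D.Idx D.Idx K) = D.x K r t)
    {L : Type*} [Field L] (hL : ringChar L = ringChar K) {n : ℕ}
    (φ : ↥(D.group K) →* GL (Fin n) L ⧸ Subgroup.center (GL (Fin n) L)) :
    ∃ ψ : D.SteinbergCover K →* GL (Fin n) L,
      (QuotientGroup.mk' (Subgroup.center (GL (Fin n) L))).comp ψ = φ.comp θ := by
  classical
  obtain ⟨Ns, w, d, Ts, hT, K', base, stepT, wl, ws, sc, c, tc, gc, pc, ac⟩ :=
    Cfsg.Agent.Lib.Helper18_ChevData5.exists_cert5 D hD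
  -- the characteristic
  set p := ringChar K with hpdef
  have : CharP K p := ringChar.charP K
  have hpp : p.Prime := CharP.char_is_prime K p
  have : Fact p.Prime := ⟨hpp⟩
  have : CharP L p := ringChar.of_eq hL
  -- the group
  have hsurj := theta_surjective D θ hθ
  have hperfG : commutator ↥(D.group K) = ⊤ := commutator_eq_top_of_surjective θ hsurj hperf
  have : Finite (GL D.Idx K) := inferInstance
  have : Finite ↥(D.group K) := inferInstance
  -- the elements
  set X : ℕ → K → ↥(D.group K) := fun r t => θ (pGen D (D.steinbergRelsAB K) r t) with hXdef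
  have hX : StGrp D X := stGrp_map θ (stGrp_pGen (fun _ hg => hg))
  have hπ : ∀ r < D.nroots, ∀ t : K,
      (((D.group K).subtype (X r t) : GL D.Idx K) : Matrix D.Idx D.Idx K) = D.x K r t :=
    fun r hr t => hθ r t hr
  -- the pullback
  set π₁ := QuotientGroup.mk' (Subgroup.center (GL (Fin n) L)) with hπ₁
  have hπ₁s : Function.Surjective π₁ := QuotientGroup.mk'_surjective _
  have hπ₁c : π₁.ker ≤ Subgroup.center (GL (Fin n) L) := by rw [QuotientGroup.ker_mk']
  have htor : ∀ z ∈ π₁.ker, z ^ p = 1 → z = 1 := fun z hz hzp => center_GL_eq_one_of_pow z (hπ₁c hz) hzp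
  obtain ⟨Z, hZ, hZψ⟩ := exists_stGrp_lift (p := p) hD hpc hperfG hX (π := (D.group K).subtype)
    Subtype.val_injective hπ (pbSnd π₁ φ) (pbSnd_surjective π₁ φ hπ₁s) (pbSnd_ker_le_center π₁ φ hπ₁c)
    (pbSnd_ker_torsion π₁ φ htor)
  -- the homomorphism
  have hZ' : StGrp D (fun r t => ((MonoidHom.fst _ _).comp (pullback π₁ φ).subtype) (Z r t)) := stGrp_map _ hZ
  obtain ⟨ψ, hψ⟩ := exists_hom_of_stGrp c tc ac hZ'
  refine ⟨ψ, ?_⟩
  apply PresentedGroup.ext
  intro x
  rw [MonoidHom.comp_apply, MonoidHom.comp_apply, of_eq_pGen, hψ x.1 x.1.2 x.2]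
  have h1 : π₁ (Z x.1 x.2).1.1 = φ (Z x.1 x.2).1.2 := (Z x.1 x.2).2
  have h2 : (Z x.1 x.2).1.2 = X x.1 x.2 := hZψ x.1 x.1.2 x.2
  rw [h2] at h1
  exact h1

end Cfsg.Agent.Lib.Helper72_S2399_Glue
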