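import Mathlib
import Cfsg.Agent.Lib.Helper68_StOpDefs
import Cfsg.Agent.Lib.Helper68_StAbs
import Cfsg.Agent.Lib.Helper57_FrobNorm
import Cfsg.Agent.Lib.Helper61_IsometryTransfer
import Cfsg.Agent.Lib.Helper61_StOo_LOW
import Cfsg.Agent.Lib.Helper5_PSLCard
import Cfsg.Agent.S2566
import Cfsg.Agent.S2544

/-!
S2548 (Steinberg character of `PΩ⁺_{2m}(q)`), market StOp (architect helper27), package LOW22: the case `m = 2`, `q = 2`.
`O = O⁺₄(2) = S₃ wr C₂` (explicit model of S2566, helper61), `Ω = O'` lies in the kernel (of order 18) of a surjection of `O`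
onto a four-group, and projects onto the first factor `S₃ ≅ PSL₂(2)`; the kernel of the induced surjection `PΩ → S₃` has odd order,
so the Steinberg character of `PSL₂(2)` (S2544) inflates to the required character.  General lemmas:
`steinberg_of_surjective` (the Steinberg conclusion lifts along surjections with `p'`-kernel) and `commCenterQuotEquiv`
(an isomorphism `G ≃* H` induces `G'/Z(G') ≃* H'/Z(H')`).  helper72.
-/

set_option autoImplicit false
set_option linter.unusedSectionVars false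

namespace Cfsg.Agent.Lib.Helper72_StOp_LOW22

open Cfsg.Agent.Lib.Helper61_IsometryTransfer
open scoped commutatorElement

/-! ### General lemmas -/

/-- The Steinberg conclusion lifts along a surjection whose kernel has order prime to `p`. -/
theorem steinberg_of_surjective {K L : Type*} [Group K] [Group L] [Finite K] (p : ℕ) [Fact p.Prime]
    (π : K →* L) (hπ : Function.Surjective π) (hker : ¬ p ∣ Nat.card π.ker)
    (h : ∃ χ : L → ℂ, Cfsg.IsIrrCharacter L χ ∧ ∀ P : Sylow p L, χ 1 = Nat.card P ∧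
      ∀ x : L, x ∈ P → x ≠ 1 → χ x = 0) :
    ∃ χ : K → ℂ, Cfsg.IsIrrCharacter K χ ∧ ∀ P : Sylow p K, χ 1 = Nat.card P ∧
      ∀ x : K, x ∈ P → x ≠ 1 → χ x = 0 := by
  classical
  have hp : p.Prime := Fact.out
  have hL : Finite L := Finite.of_surjective π hπ
  obtain ⟨χ, hχ, hP⟩ := h
  refine ⟨fun x => χ (π x),
    Cfsg.Agent.Lib.Helper57_FrobNorm.isIrrCharacter_comp_surjective π hπ hχ, fun P => ?_⟩
  set P' : Sylow p L := P.mapSurjective hπ with hP'
  obtain ⟨h1, h2⟩ := hP P'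
  constructor
  · show χ (π 1) = _
    rw [map_one, h1]
    congr 1
    have e₁ := Sylow.card_eq_multiplicity P
    have e₂ := Sylow.card_eq_multiplicity P'
    have hcard : Nat.card K = Nat.card L * Nat.card π.ker := by
      rw [Subgroup.card_eq_card_quotient_mul_card_subgroup π.ker,
        Nat.card_congr (QuotientGroup.quotientKerEquivOfSurjective π hπ).toEquiv]
    have hL0 : Nat.card L ≠ 0 := Nat.card_pos.ne'
    have hk0 : Nat.card π.ker ≠ 0 := Nat.card_pos.ne'
    rw [hcard, Nat.factorization_mul hL0 hk0, Finsupp.add_apply,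
      Nat.factorization_eq_zero_of_not_dvd hker, add_zero] at e₁
    rw [e₁, e₂]
  · intro x hx hx1
    apply h2 (π x)
    · show π x ∈ (P.mapSurjective hπ : Subgroup L)
      rw [Sylow.coe_mapSurjective]
      exact Subgroup.mem_map_of_mem π hx
    · intro hπx
      apply hker
      have hxk : x ∈ π.ker := hπx
      obtain ⟨k, hk⟩ := (P.isPGroup' : IsPGroup p (P : Subgroup K)) ⟨x, hx⟩
      have hk' : x ^ (p ^ k) = 1 := congrArg Subtype.val hk
      have hdvd : orderOf x ∣ p ^ k := orderOf_dvd_of_pow_eq_one hk'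
      obtain ⟨j, hj, hjo⟩ := (Nat.dvd_prime_pow hp).mp hdvd
      have hj0 : j ≠ 0 := by
        rintro rfl
        rw [pow_zero, orderOf_eq_one_iff] at hjo
        exact hx1 hjo
      have h3 : orderOf x ∣ Nat.card π.ker := by
        have := orderOf_dvd_natCard (⟨x, hxk⟩ : π.ker)
        rwa [Subgroup.orderOf_mk] at this
      rw [hjo] at h3
      exact (dvd_pow_self p hj0).trans h3

theorem map_center_mulEquiv {A B : Type*} [Group A] [Group B] (e : A ≃* B) :
    (Subgroup.center A).map e.toMonoidHom = Subgroup.center B := by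
  ext y
  constructor
  · rintro ⟨x, hx, rfl⟩
    rw [Subgroup.mem_center_iff]
    intro b
    obtain ⟨a, rfl⟩ := e.surjective b
    show e a * e x = e x * e a
    rw [← map_mul, ← map_mul, Subgroup.mem_center_iff.mp hx a]
  · intro hy
    refine ⟨e.symm y, ?_, e.apply_symm_apply y⟩
    show e.symm y ∈ Subgroup.center A
    rw [Subgroup.mem_center_iff]
    intro a
    apply e.injective
    rw [map_mul, map_mul, e.apply_symm_apply]
    exact Subgroup.mem_center_iff.mp hy (e a)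

theorem mem_commutator_mulEquiv {G H : Type*} [Group G] [Group H] (E : G ≃* H) (g : G) :
    E g ∈ commutator H ↔ g ∈ commutator G := by
  have h : commutator H = (commutator G).map E.toMonoidHom := by
    rw [commutator_def, commutator_def, Subgroup.map_commutator,
      Subgroup.map_top_of_surjective E.toMonoidHom E.surjective]
  rw [h]
  exact Subgroup.mem_map_iff_mem E.injective

/-- A group isomorphism induces an isomorphism of the derived subgroups modulo their centres. -/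
noncomputable def commCenterQuotEquiv {G H : Type*} [Group G] [Group H] (E : G ≃* H) :
    (commutator G ⧸ Subgroup.center (commutator G)) ≃*
      (commutator H ⧸ Subgroup.center (commutator H)) :=
  QuotientGroup.congr _ _ (subEquiv E (commutator G) (commutator H) (mem_commutator_mulEquiv E))
    (map_center_mulEquiv _)

/-! ### The explicit model of `O⁺₄(2)` (S2566) -/

open Cfsg.Agent.S2566 (S3 O Ψ Ψmat ψA ψB g toMat toMat_injective toMat_mul toMat_Ψ toMat_ψA toMat_ψB
  toMat_g g_inv g_conj Ψ_injective Ψ_surjective card_O Amat Bmat gmat gmat_mul)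

/-- parameters of the elements of `O⁺₄(2)` -/
abbrev W := S3 × S3 × Fin 2

/-- the multiplication of `S₃ wr C₂` on the parameters -/
def wmul (x y : W) : W :=
  if x.2.2 = 0 then (x.1 * y.1, x.2.1 * y.2.1, y.2.2) else (x.1 * y.2.1, x.2.1 * y.1, y.2.2 + 1)

def f₁ (x : W) : ℤˣ := Equiv.Perm.sign x.1 * Equiv.Perm.sign x.2.1
def f₂ (x : W) : ℤˣ := if x.2.2 = 0 then 1 else -1

theorem f₁_mul (x y : W) : f₁ (wmul x y) = f₁ x * f₁ y := by
  unfold f₁ wmul
  split_ifs
  · simp only [map_mul]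
    exact mul_mul_mul_comm _ _ _ _
  · simp only [map_mul]
    rw [mul_mul_mul_comm, mul_comm (Equiv.Perm.sign y.2.1)]

theorem f₂_mul (x y : W) : f₂ (wmul x y) = f₂ x * f₂ y := by
  obtain ⟨σ, τ, ε⟩ := x
  obtain ⟨σ', τ', ε'⟩ := y
  fin_cases ε <;> fin_cases ε' <;> simp [f₂, wmul]

theorem f_surj : ∀ v : ℤˣ × ℤˣ, ∃ x : W, (f₁ x, f₂ x) = v := by decide +kernel

theorem g_mul_g : g * g = 1 := by
  have h := g_inv
  rw [inv_eq_iff_mul_eq_one] at h
  exact h

theorem g_mul_ψA (σ : S3) : g * ψA σ = ψB σ * g := by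
  apply toMat_injective
  rw [toMat_mul, toMat_mul, toMat_g, toMat_ψA, toMat_ψB, ← g_conj, Matrix.mul_assoc (gmat * Amat σ),
    gmat_mul, Matrix.mul_one]

theorem g_mul_ψB (σ : S3) : g * ψB σ = ψA σ * g := by
  apply toMat_injective
  rw [toMat_mul, toMat_mul, toMat_g, toMat_ψA, toMat_ψB, ← g_conj, ← Matrix.mul_assoc, ← Matrix.mul_assoc,
    gmat_mul, Matrix.one_mul]

/-- `g ^ ε` -/
def gpow (ε : Fin 2) : O := if ε = 0 then 1 else g

theorem Ψ_eq (x : W) : Ψ x = ψA x.1 * ψB x.2.1 * gpow x.2.2 := rfl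

theorem g_mul_gpow (ε : Fin 2) : g * gpow ε = gpow (ε + 1) := by
  fin_cases ε
  · simp [gpow]
  · simp [gpow, g_mul_g]

theorem Ψ_mul (x y : W) : Ψ x * Ψ y = Ψ (wmul x y) := by
  obtain ⟨σ, τ, ε⟩ := x
  obtain ⟨σ', τ', ε'⟩ := y
  have hc := Cfsg.Agent.S2566.comm
  by_cases h : ε = 0
  · subst h
    have hw : wmul (σ, τ, 0) (σ', τ', ε') = (σ * σ', τ * τ', ε') := by simp [wmul]
    rw [hw, Ψ_eq, Ψ_eq, Ψ_eq]
    show ψA σ * ψB τ * gpow 0 * (ψA σ' * ψB τ' * gpow ε') = ψA (σ * σ') * ψB (τ * τ') * gpow ε'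
    have h0 : gpow 0 = 1 := by simp [gpow]
    rw [h0, mul_one, map_mul, map_mul]
    calc ψA σ * ψB τ * (ψA σ' * ψB τ' * gpow ε')
        = ψA σ * (ψB τ * ψA σ') * ψB τ' * gpow ε' := by group
      _ = ψA σ * (ψA σ' * ψB τ) * ψB τ' * gpow ε' := by rw [hc σ' τ]
      _ = ψA σ * ψA σ' * (ψB τ * ψB τ') * gpow ε' := by group
  · have h1 : ε = 1 := by
      fin_cases ε
      · exact absurd rfl h
      · rfl
    subst h1
    have hw : wmul (σ, τ, 1) (σ', τ', ε') = (σ * τ', τ * σ', ε' + 1) := by simp [wmul]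
    rw [hw, Ψ_eq, Ψ_eq, Ψ_eq]
    show ψA σ * ψB τ * gpow 1 * (ψA σ' * ψB τ' * gpow ε') = ψA (σ * τ') * ψB (τ * σ') * gpow (ε' + 1)
    have h0 : gpow 1 = g := by simp [gpow]
    rw [h0, map_mul, map_mul, ← g_mul_gpow]
    calc ψA σ * ψB τ * g * (ψA σ' * ψB τ' * gpow ε')
        = ψA σ * ψB τ * (g * ψA σ') * ψB τ' * gpow ε' := by group
      _ = ψA σ * ψB τ * ψB σ' * (g * ψB τ') * gpow ε' := by rw [g_mul_ψA]; group
      _ = ψA σ * (ψB (τ * σ') * ψA τ') * g * gpow ε' := by rw [g_mul_ψB, map_mul]; group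
      _ = ψA σ * (ψA τ' * ψB (τ * σ')) * g * gpow ε' := by rw [hc τ' (τ * σ')]
      _ = ψA σ * ψA τ' * (ψB τ * ψB σ') * (g * gpow ε') := by rw [map_mul]; group

/-- the parametrization as an equivalence -/
noncomputable def Ψe : W ≃ O := Equiv.ofBijective Ψ ⟨Ψ_injective, Ψ_surjective⟩

theorem Ψe_apply (x : W) : Ψe x = Ψ x := rfl

theorem Ψe_symm_mul (a b : O) : Ψe.symm (a * b) = wmul (Ψe.symm a) (Ψe.symm b) := by
  apply Ψe.injective
  rw [Equiv.apply_symm_apply, Ψe_apply, ← Ψ_mul, ← Ψe_apply, ← Ψe_apply, Equiv.apply_symm_apply,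
    Equiv.apply_symm_apply]

/-- the surjection of `O⁺₄(2)` onto a four-group -/
noncomputable def Φ : O →* ℤˣ × ℤˣ :=
  MonoidHom.mk' (fun a => (f₁ (Ψe.symm a), f₂ (Ψe.symm a))) (fun a b => by
    rw [Ψe_symm_mul, f₁_mul, f₂_mul]
    rfl)

theorem Φ_apply (a : O) : Φ a = (f₁ (Ψe.symm a), f₂ (Ψe.symm a)) := rfl

theorem Φ_surjective : Function.Surjective Φ := by
  intro v
  obtain ⟨x, hx⟩ := f_surj v
  refine ⟨Ψe x, ?_⟩
  rw [Φ_apply, Equiv.symm_apply_apply, hx]

instance finite_O : Finite O := Nat.finite_of_card_ne_zero (by rw [card_O]; norm_num)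

theorem card_ker_Φ : Nat.card Φ.ker = 18 := by
  have h := Subgroup.card_eq_card_quotient_mul_card_subgroup Φ.ker
  rw [Nat.card_congr (QuotientGroup.quotientKerEquivOfSurjective Φ Φ_surjective).toEquiv, card_O,
    Nat.card_prod] at h
  have h2 : Nat.card ℤˣ = 2 := by
    rw [Nat.card_eq_fintype_card]
    exact Fintype.card_units_int
  rw [h2] at h
  omega

theorem comm_le_ker : commutator O ≤ Φ.ker := Abelianization.commutator_subset_ker Φ

theorem snd_zero_of_mem {a : O} (ha : a ∈ commutator O) : (Ψe.symm a).2.2 = 0 := by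
  have h := comm_le_ker ha
  rw [MonoidHom.mem_ker, Φ_apply] at h
  have h2 : f₂ (Ψe.symm a) = 1 := congrArg Prod.snd h
  unfold f₂ at h2
  by_contra hne
  rw [if_neg hne] at h2
  exact absurd h2 (by decide)

/-- the projection of `Ω⁺₄(2)` onto the first factor -/
noncomputable def πΩ : commutator O →* S3 :=
  MonoidHom.mk' (fun a => (Ψe.symm a.1).1) (fun a b => by
    show (Ψe.symm (a.1 * b.1)).1 = _
    rw [Ψe_symm_mul]
    unfold wmul
    rw [if_pos (snd_zero_of_mem a.2)])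

theorem πΩ_apply (a : commutator O) : πΩ a = (Ψe.symm a.1).1 := rfl

theorem comm_ψA_g (σ : S3) : ⁅ψA σ, g⁆ = Ψ (σ, σ⁻¹, 0) := by
  rw [commutatorElement_def, g_inv, ← map_inv, Ψ_eq]
  show ψA σ * g * ψA σ⁻¹ * g = ψA σ * ψB σ⁻¹ * gpow 0
  have h0 : gpow 0 = 1 := by simp [gpow]
  rw [h0, mul_one, mul_assoc (ψA σ), g_mul_ψA, mul_assoc, mul_assoc, g_mul_g, mul_one]

theorem πΩ_surjective : Function.Surjective πΩ := by
  intro σ
  have hmem : ⁅ψA σ, g⁆ ∈ commutator O := by
    rw [commutator_def]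
    exact Subgroup.commutator_mem_commutator (Subgroup.mem_top _) (Subgroup.mem_top _)
  refine ⟨⟨_, hmem⟩, ?_⟩
  rw [πΩ_apply]
  show (Ψe.symm ⁅ψA σ, g⁆).1 = σ
  rw [comm_ψA_g, ← Ψe_apply, Equiv.symm_apply_apply]

theorem s3_center_trivial : ∀ z : S3, (∀ w : S3, w * z = z * w) → z = 1 := by decide +kernel

theorem center_le_ker : Subgroup.center (commutator O) ≤ πΩ.ker := by
  intro z hz
  rw [MonoidHom.mem_ker]
  apply s3_center_trivial
  intro w
  obtain ⟨a, rfl⟩ := πΩ_surjective w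
  rw [← map_mul, ← map_mul, Subgroup.mem_center_iff.mp hz a]

/-- the induced surjection `PΩ⁺₄(2) → S₃` -/
noncomputable def πP : (commutator O ⧸ Subgroup.center (commutator O)) →* S3 :=
  QuotientGroup.lift (Subgroup.center (commutator O)) πΩ center_le_ker

theorem πP_surjective : Function.Surjective πP := by
  intro σ
  obtain ⟨a, ha⟩ := πΩ_surjective σ
  exact ⟨QuotientGroup.mk a, ha⟩

theorem not_two_dvd_card_ker : ¬ 2 ∣ Nat.card πP.ker := by
  have h1 : Nat.card (commutator O ⧸ Subgroup.center (commutator O)) = Nat.card S3 * Nat.card πP.ker := by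
    rw [Subgroup.card_eq_card_quotient_mul_card_subgroup πP.ker,
      Nat.card_congr (QuotientGroup.quotientKerEquivOfSurjective πP πP_surjective).toEquiv]
  have h2 : Nat.card (commutator O ⧸ Subgroup.center (commutator O)) ∣ Nat.card (commutator O) :=
    Subgroup.card_quotient_dvd_card _
  have h3 : Nat.card (commutator O) ∣ Nat.card Φ.ker := Subgroup.card_dvd_of_le comm_le_ker
  have h4 : Nat.card S3 = 6 := by
    rw [Nat.card_eq_fintype_card, Fintype.card_perm, Fintype.card_fin]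
    rfl
  rw [card_ker_Φ] at h3
  rw [h1, h4] at h2
  have h5 : 6 * Nat.card πP.ker ∣ 6 * 3 := h2.trans h3
  have h6 : Nat.card πP.ker ∣ 3 := Nat.dvd_of_mul_dvd_mul_left (by norm_num) h5
  intro h7
  have h8 : 2 ∣ 3 := h7.trans h6
  omega

/-- the Steinberg character of `S₃ ≅ PSL₂(2)` -/
theorem steinberg_S3 : ∃ χ : S3 → ℂ, Cfsg.IsIrrCharacter S3 χ ∧ ∀ P : Sylow 2 S3, χ 1 = Nat.card P ∧
    ∀ x : S3, x ∈ P → x ≠ 1 → χ x = 0 := by
  have hcF : Fintype.card (ZMod 2) = 2 := ZMod.card 2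
  obtain ⟨f, hf⟩ := Cfsg.Agent.Lib.Helper5_PSLCard.exists_injective_PSL2_perm (F := ZMod 2) hcF
  have hcard : Nat.card (Matrix.ProjectiveSpecialLinearGroup (Fin 2) (ZMod 2)) = (2 + 1).factorial := by
    have h1 := Cfsg.Agent.Lib.Helper5_PSLCard.card_PSL_mul (F := ZMod 2) 2 (by norm_num)
    rw [Cfsg.Agent.Lib.Helper5_PSLCard.card_SL_two, hcF] at h1
    norm_num at h1
    rw [Nat.card_eq_fintype_card, h1]
    rfl
  obtain ⟨e⟩ := Cfsg.Agent.Lib.Helper5_PSLCard.mulEquiv_perm_of_injective f hf hcard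
  have : Finite (Matrix.SpecialLinearGroup (Fin 2) (ZMod 2)) := Subtype.finite
  have : Finite (Matrix.ProjectiveSpecialLinearGroup (Fin 2) (ZMod 2)) := inferInstance
  exact Cfsg.Agent.Lib.Helper61_StOo_LOW.transport_steinberg_equiv e.symm 2
    (Cfsg.Agent.S2544.result (F := ZMod 2) 2 2 le_rfl)

/-- LOW22 over `ZMod 2` -/
theorem steinberg_zmod2 :
    ∃ χ : (commutator O ⧸ Subgroup.center (commutator O)) → ℂ,
      Cfsg.IsIrrCharacter (commutator O ⧸ Subgroup.center (commutator O)) χ ∧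
      ∀ P : Sylow 2 (commutator O ⧸ Subgroup.center (commutator O)), χ 1 = Nat.card P ∧
        ∀ x : (commutator O ⧸ Subgroup.center (commutator O)), x ∈ P → x ≠ 1 → χ x = 0 :=
  steinberg_of_surjective 2 πP πP_surjective not_two_dvd_card_ker steinberg_S3

/-! ### LOW22 -/

variable {F : Type*} [Field F] [Fintype F]

/-- LOW22 -/
theorem steinberg_low22 (p : ℕ) [Fact p.Prime] [CharP F p] (hF : Fintype.card F = 2) :
    ∃ χ : Cfsg.POmega F (Cfsg.quadFormPlus 2 F) → ℂ,
      Cfsg.IsIrrCharacter (Cfsg.POmega F (Cfsg.quadFormPlus 2 F)) χ ∧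
      ∀ P : Sylow p (Cfsg.POmega F (Cfsg.quadFormPlus 2 F)), χ 1 = Nat.card P ∧
        ∀ x : Cfsg.POmega F (Cfsg.quadFormPlus 2 F), x ∈ P → x ≠ 1 → χ x = 0 := by
  have hp : p.Prime := Fact.out
  have hp2 : p = 2 := by
    have h0 : ((2 : ℕ) : F) = 0 := by
      rw [← hF]
      exact Nat.cast_card_eq_zero F
    have hdvd : p ∣ 2 := (CharP.cast_eq_zero_iff F p 2).mp h0
    exact (Nat.prime_dvd_prime_iff_eq hp Nat.prime_two).mp hdvd
  subst hp2
  let e : F ≃+* ZMod 2 := (ZMod.ringEquivOfPrime F Nat.prime_two hF).symm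
  have hQ : ∀ v, e (Cfsg.quadFormPlus 2 F v) = Cfsg.quadFormPlus 2 (ZMod 2) (e ∘ v) :=
    fun v => quadFormPlus_map 2 e v
  exact Cfsg.Agent.Lib.Helper61_StOo_LOW.transport_steinberg_equiv
    (commCenterQuotEquiv (isometryGroupEquiv e (Cfsg.quadFormPlus 2 F) (Cfsg.quadFormPlus 2 (ZMod 2)) hQ)) 2
    steinberg_zmod2

end Cfsg.Agent.Lib.Helper72_StOp_LOW22
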