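import Mathlib
import Cfsg.Agent.Lib.Helper72_WCEngel
import Cfsg.Agent.Lib.Helper72_JAloc
import Cfsg.Agent.Lib.Helper72_OffEnd

/-!
Helper library (helper72): Glauberman's weak closure theorem for the abelian-version Thompson
subgroup, `p = 2`, in groups not involving the symmetric group of degree four (general form, for
every pair `T ≤ H`).
-/

set_option autoImplicit false
universe u

namespace Cfsg.Agent.Lib.Helper72_WCS4

open Cfsg Cfsg.Agent.Lib.Helper33_Conj Cfsg.Agent.Lib.Helper33_Alperin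
open Cfsg.Agent.Lib.Helper47_SubAPI Cfsg.Agent.Lib.Helper72_WCFinal
open Cfsg.Agent.Lib.Helper72_EngelEnd Cfsg.Agent.Lib.Helper72_JAFunctor
open Cfsg.Agent.Lib.Helper72_AbelianJ Cfsg.Agent.Lib.Helper34_NPC
open Cfsg.Agent.Lib.Helper72_OffCfg Cfsg.Agent.Lib.Helper72_OffFam Cfsg.Agent.Lib.Helper72_OffEnd

variable {G : Type u} [Group G] [Finite G]

/-- the final configuration for `p = 2`, `S₄`-free -/
theorem final_s4free (hS4 : ¬ Cfsg.Involves (Equiv.Perm (Fin 4)) G)
    (H T A : Subgroup G) (hTH : T ≤ H) (hT : IsPGroup 2 ↥T) (hidx : ¬ 2 ∣ T.relIndex H)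
    (hAZ : A ≤ T ⊓ Subgroup.centralizer (T : Set G))
    (hE : (∃ x : G, A = Subgroup.zpowers x) ∧
      ∀ h ∈ H ⊓ Subgroup.normalizer (A : Set G), ∀ a ∈ A, h * a * h⁻¹ = a)
    (hAP : A ≤ Cfsg.pCoreOf 2 H)
    (hAN : H ⊓ Subgroup.normalizer ((WJ T : Subgroup G) : Set G) ≤ Subgroup.normalizer (A : Set G))
    (hmax : ∀ K : Subgroup G, T ≤ K → K ≤ H → K ≠ H → K ≤ Subgroup.normalizer (A : Set G)) :
    H ≤ Subgroup.normalizer (A : Set G) := by
  have : Fact (Nat.Prime 2) := ⟨Nat.prime_two⟩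
  by_contra hHA
  have hnW : ¬ H ≤ Subgroup.normalizer ((WJ T : Subgroup G) : Set G) := fun h =>
    hHA (fun x hx => hAN ⟨hx, h hx⟩)
  obtain ⟨⟨x, rfl⟩, hE2⟩ := hE
  have hxA : x ∈ Subgroup.zpowers x := Subgroup.mem_zpowers x
  have hxT : x ∈ T := (hAZ hxA).1
  have hxH : x ∈ H := hTH hxT
  obtain ⟨P, hP⟩ : ∃ P : Subgroup G, P = Cfsg.pCoreOf 2 H := ⟨_, rfl⟩
  rw [← hP] at hAP
  have hPT : P ≤ T := hP ▸ pCoreOf_le_of_sylow hTH hT hidx
  have hPH : P ≤ H := hPT.trans hTH
  have hHP : H ≤ Subgroup.normalizer (P : Set G) := hP ▸ le_normalizer_pCoreOf (p := 2) H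
  obtain ⟨B, hB⟩ : ∃ B : Subgroup G, B = P ⊓ Subgroup.centralizer (P : Set G) := ⟨_, rfl⟩
  have hBH : B ≤ H := hB ▸ inf_le_left.trans hPH
  have hHB : H ≤ Subgroup.normalizer (B : Set G) :=
    hB ▸ le_normalizer_inf hHP (le_normalizer_centralizer hHP)
  have hBcomm : ∀ a ∈ B, ∀ b ∈ B, a * b = b * a := by
    intro a ha b hb
    rw [hB] at ha hb
    exact (Subgroup.mem_centralizer_iff.mp hb.2 a ha.1)
  have hBp : IsPGroup 2 B := (hT.to_le hPT).to_le (hB ▸ inf_le_left)
  have hxB : x ∈ B := by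
    rw [hB]
    exact Subgroup.mem_inf.mpr ⟨hAP hxA,
      Subgroup.centralizer_le (by exact_mod_cast hPT) (hAZ hxA).2⟩
  have hTA : T ≤ Subgroup.normalizer ((Subgroup.zpowers x : Subgroup G) : Set G) := by
    refine le_trans ?_ (Subgroup.centralizer_le_normalizer _)
    exact Subgroup.le_centralizer_iff.mp (hAZ.trans inf_le_right)
  -- pass to the group `↥H`
  set x' : H := ⟨x, hxH⟩ with hx'
  set T' : Subgroup H := T.subgroupOf H with hT'
  set M' : Subgroup H :=
    (Subgroup.normalizer ((Subgroup.zpowers x : Subgroup G) : Set G)).subgroupOf H with hM'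
  set B' : Subgroup H := B.subgroupOf H with hB'
  set X' : Subgroup H := Subgroup.normalClosure {x'} with hX'
  have hT'p : IsPGroup 2 T' := hT.comap_subtype
  have hB'n : B'.Normal := (Subgroup.normal_subgroupOf_iff_le_normalizer hBH).mpr hHB
  have hX'B' : X' ≤ B' := by
    apply Subgroup.normalClosure_le_normal
    intro z hz
    rw [Set.mem_singleton_iff] at hz
    rw [hz]
    exact Subgroup.mem_subgroupOf.mpr hxB
  have hPmem : ∀ y : H, y ∈ Cfsg.pCore 2 H → (y : G) ∈ P := by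
    intro y hy
    rw [hP]
    exact ⟨y, hy, rfl⟩
  have hmapT : T'.map H.subtype = T := Subgroup.map_subgroupOf_eq_of_le hTH
  have hmemM : ∀ k : H, k ∈ M' ↔ k * x' * k⁻¹ = x' := by
    intro k
    rw [hM', Subgroup.mem_subgroupOf]
    constructor
    · intro hk
      apply Subtype.ext
      exact hE2 (k : G) ⟨k.2, hk⟩ x hxA
    · intro hk
      have hk' : (k : G) * x * (k : G)⁻¹ = x := congrArg Subtype.val hk
      rw [mem_normalizer_iff_cj, cj_zpowers, hk']
  have hcfg : Cfg T' M' X' x' := by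
    refine ⟨hT'p, hidx, ?_, hmemM, ?_, ?_, ?_, Subgroup.normalClosure_normal, rfl, ?_, ?_, ?_⟩
    · intro t ht
      rw [hM', Subgroup.mem_subgroupOf]
      exact hTA (Subgroup.mem_subgroupOf.mp ht)
    · -- the normalizer of `⟨x'⟩`
      intro k hk
      rw [hM', Subgroup.mem_subgroupOf]
      apply mem_normalizer_of_cj_le
      rw [cj_zpowers, Subgroup.zpowers_le]
      have h1 : k * x' * k⁻¹ ∈ Subgroup.zpowers x' :=
        (Subgroup.mem_normalizer_iff.mp hk x').mp (Subgroup.mem_zpowers x')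
      obtain ⟨i, hi⟩ := Subgroup.mem_zpowers_iff.mp h1
      rw [Subgroup.mem_zpowers_iff]
      refine ⟨i, ?_⟩
      have := congrArg Subtype.val hi
      simpa using this
    · -- maximality
      intro K' hTK' hK'ne
      have h1 : T ≤ K'.map H.subtype := by
        intro t ht
        exact ⟨⟨t, hTH ht⟩, hTK' (Subgroup.mem_subgroupOf.mpr ht), rfl⟩
      have h2 : K'.map H.subtype ≤ H := Subgroup.map_subtype_le K'
      have h3 : K'.map H.subtype ≠ H := by
        intro heq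
        apply hK'ne
        rw [eq_top_iff]
        intro k _
        have : (k : G) ∈ K'.map H.subtype := by rw [heq]; exact k.2
        obtain ⟨k', hk', hkk'⟩ := this
        have : k' = k := Subtype.ext hkk'
        rwa [this] at hk'
      have h4 := hmax _ h1 h2 h3
      intro k hk
      rw [hM', Subgroup.mem_subgroupOf]
      exact h4 (Subgroup.mem_map_of_mem _ hk)
    · intro htop
      apply hHA
      intro k hk
      have : (⟨k, hk⟩ : H) ∈ M' := by rw [htop]; exact Subgroup.mem_top _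
      rw [hM', Subgroup.mem_subgroupOf] at this
      exact this
    · intro a ha b hb
      exact Subtype.ext (hBcomm a (Subgroup.mem_subgroupOf.mp (hX'B' ha)) b
        (Subgroup.mem_subgroupOf.mp (hX'B' hb)))
    · have hB'p : IsPGroup 2 B' := hBp.comap_subtype
      exact hB'p.to_le hX'B'
    · intro y hy
      rw [Subgroup.mem_centralizer_iff]
      intro v hv
      apply Subtype.ext
      have hvB : (v : G) ∈ B := Subgroup.mem_subgroupOf.mp (hX'B' hv)
      rw [hB] at hvB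
      exact (Subgroup.mem_centralizer_iff.mp hvB.2 (y : G) (hPmem y hy)).symm
  have hS4' : ¬ Cfsg.Involves (Equiv.Perm (Fin 4)) H := fun hi => hS4 (involves_of_subgroup H hi)
  -- `J(T')` is not normal
  have hJ : ¬ (Cfsg.thompsonSubgroupAOf T').Normal := by
    intro hn
    apply hnW
    have h1 := (normal_iff_le_normalizer_map H (Cfsg.thompsonSubgroupAOf T')).mp hn
    have h2 := inducedFunctor_map (isCharPFunctor_JA (p := 2)) H.subtype T' hT'p
      (fun x _ hx => by simpa using hx)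
    rw [hmapT, inducedFunctor_JA, inducedFunctor_JA] at h2
    rw [WJ_eq, h2]
    exact h1
  -- an offender
  have hPp : IsPGroup 2 (Cfsg.pCore 2 H) := hcfg.hT.to_le hcfg.hPT
  obtain ⟨A₁, hAmax, hA₁C⟩ := exists_maxAb_not_le T' (Cfsg.pCore 2 H) hPp
    (Subgroup.centralizer (X' : Set H)) hcfg.hTC hcfg.hPT hJ
  have hX'n : X'.Normal := Subgroup.normalClosure_normal
  have hX'comm : IsMulCommutative ↥X' :=
    ⟨⟨fun a b => Subtype.ext (hcfg.hXc a a.2 b b.2)⟩⟩
  have hX'T' : X' ≤ T' := by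
    intro v hv
    have hvB : (v : G) ∈ B := Subgroup.mem_subgroupOf.mp (hX'B' hv)
    rw [hB] at hvB
    exact Subgroup.mem_subgroupOf.mpr (hPT hvB.1)
  obtain ⟨Q, hQA, hQq, hQC, hQoff⟩ := quad_offender (p := 2) hX'comm hX'T' hT'p hAmax hA₁C
  exact offender_false hcfg hS4' Q ⟨hQA.trans hAmax.1, hQq, hQC, hQoff⟩

/-- **Glauberman's weak closure theorem for `J_A`, `p = 2`, `S₄`-free**, for every pair `T ≤ H`. -/
theorem s4free_weakly_closed (hS4 : ¬ Cfsg.Involves (Equiv.Perm (Fin 4)) G)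
    (H T : Subgroup G) (hTH : T ≤ H) (hT : IsPGroup 2 ↥T) (hidx : ¬ 2 ∣ T.relIndex H) :
    ∀ x ∈ T ⊓ Subgroup.centralizer ((H ⊓ Subgroup.normalizer ((WJ T : Subgroup G) : Set G) : Subgroup G) : Set G),
      ∀ h ∈ H, h * x * h⁻¹ ∈ T → h * x * h⁻¹ = x := by
  have : Fact (Nat.Prime 2) := ⟨Nat.prime_two⟩
  intro x hx h hh hhx
  have hW : Cfsg.IsConjugacyFunctor 2 (WJ (G := G)) := isConjugacyFunctor_WJ
  have hWZ : ∀ P : Subgroup G, IsPGroup 2 ↥P → P ⊓ Subgroup.centralizer (P : Set G) ≤ WJ P :=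
    fun P _ => center_le_WJ P
  have key := Cfsg.Agent.Lib.Helper72_WCRed.red (WJ (G := G)) hW hWZ
    (fun T => T ⊓ Subgroup.centralizer (T : Set G))
    (fun T _ => le_rfl)
    (fun T T' _ h1 h2 => le_inf h2 (inf_le_right.trans (Subgroup.centralizer_le (by exact_mod_cast h1))))
    (fun H A => (∃ x : G, A = Subgroup.zpowers x) ∧
      ∀ h ∈ H ⊓ Subgroup.normalizer (A : Set G), ∀ a ∈ A, h * a * h⁻¹ = a)
    (fun H H' A hH'H hE => ⟨hE.1, fun h hh a ha => hE.2 h ⟨hH'H hh.1, hh.2⟩ a ha⟩)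
    (fun H T A hTH hT hidx hAF hE hAP hAN hmax =>
      final_s4free hS4 H T A hTH hT hidx hAF hE hAP hAN hmax)
  have hNW : Subgroup.normalizer (T : Set G) ≤ Subgroup.normalizer ((WJ T : Subgroup G) : Set G) :=
    Cfsg.Agent.S1963.normalizer_le_normalizer_W WJ hW hT
  have hcomm : ∀ y ∈ H ⊓ Subgroup.normalizer ((WJ T : Subgroup G) : Set G), y * x = x * y :=
    fun y hy => Subgroup.mem_centralizer_iff.mp hx.2 y hy
  have hxZ : x ∈ T ⊓ Subgroup.centralizer (T : Set G) := by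
    refine Subgroup.mem_inf.mpr ⟨hx.1, ?_⟩
    rw [Subgroup.mem_centralizer_iff]
    intro t ht
    exact hcomm t ⟨hTH ht, hNW (Subgroup.le_normalizer ht)⟩
  have hAF : Subgroup.zpowers x ≤ T ⊓ Subgroup.centralizer (T : Set G) := by
    rw [Subgroup.zpowers_le]; exact hxZ
  have hE : ∀ h ∈ H ⊓ Subgroup.normalizer ((Subgroup.zpowers x : Subgroup G) : Set G),
      ∀ a ∈ Subgroup.zpowers x, h * a * h⁻¹ = a := by
    intro k hk a ha
    have h1 := conj_eq_of_mem_normalizer_zpowers WJ hW hTH hT hidx x hcomm k hk.1 hk.2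
    obtain ⟨i, rfl⟩ := Subgroup.mem_zpowers_iff.mp ha
    have h2 : k * x = x * k := by
      calc k * x = (k * x * k⁻¹) * k := by group
        _ = x * k := by rw [h1]
    have h3 : Commute k (x ^ i) := Commute.zpow_right h2 i
    calc k * x ^ i * k⁻¹ = (x ^ i * k) * k⁻¹ := by rw [h3.eq]
      _ = x ^ i := by group
  have hAN : H ⊓ Subgroup.normalizer ((WJ T : Subgroup G) : Set G) ≤
      Subgroup.normalizer ((Subgroup.zpowers x : Subgroup G) : Set G) := by
    intro y hy
    refine (Subgroup.centralizer_le_normalizer _) ?_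
    rw [Subgroup.mem_centralizer_iff]
    intro z hz
    obtain ⟨k, rfl⟩ := Subgroup.mem_zpowers_iff.mp hz
    have : Commute y x := hcomm y hy
    exact (Commute.zpow_right this k).eq.symm
  have h0 : cj h (Subgroup.zpowers x) ≤ T := by
    rw [cj_zpowers, Subgroup.zpowers_le]
    exact hhx
  have h1 := key H T (Subgroup.zpowers x) hTH hT hidx hAF ⟨⟨x, rfl⟩, hE⟩ hAN h hh h0
  exact hE h ⟨hh, mem_normalizer_iff_cj.mpr h1⟩ x (Subgroup.mem_zpowers x)

end Cfsg.Agent.Lib.Helper72_WCS4
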