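import Cfsg.Agent.Lib.Helper69_AppCDefs
import Cfsg.Agent.Lib.Helper73_ParabolicField

/-!
# B-G Appendix C, package PK-B: from the hypotheses of S1472 to a configuration `Cfg`

Pure coordinatisation and arithmetic: `a = (f|P)⁻¹`, characteristic `p`, `#U = m = (p^q-1)/(p-1)`,
`pure`, `split`, `big`, and `z^m = 1 ↔ z ∈ ψ(U)`.
-/

set_option autoImplicit false

namespace Cfsg.Agent.Lib.Helper73_AppC_PKB
open Cfsg.Agent.Lib.Helper69_AppCDefs

/-! ### Arithmetic -/

theorem card_eq_m {p q n : ℕ} (hp : 2 ≤ p) (h : n * (p - 1) = p ^ q - 1) :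
    n = (p ^ q - 1) / (p - 1) := by
  have h1 := Cfsg.Agent.Lib.Helper73_ParabolicField.card_mul (q := q) hp
  have h2 : 0 < p - 1 := by omega
  exact Nat.eq_of_mul_eq_mul_right h2 (h.trans h1.symm)

theorem pow_pred_le {p q n : ℕ} (hp : 2 ≤ p) (hq : 1 ≤ q) (h : n * (p - 1) = p ^ q - 1) :
    p ^ (q - 1) ≤ n := by
  have h2 : 0 < p - 1 := by omega
  apply Nat.le_of_mul_le_mul_right _ h2
  rw [h]
  obtain ⟨r, rfl⟩ : ∃ r, q = r + 1 := ⟨q - 1, by omega⟩
  simp only [Nat.add_sub_cancel]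
  have h3 : p ^ (r + 1) = p ^ r * p := pow_succ p r
  have h4 : 1 ≤ p ^ r := Nat.one_le_pow _ _ (by omega)
  obtain ⟨b, rfl⟩ : ∃ b, p = b + 1 := ⟨p - 1, by omega⟩
  simp only [Nat.add_sub_cancel]
  rw [h3]
  have : (b + 1) ^ r * (b + 1) = (b + 1) ^ r * b + (b + 1) ^ r := by ring
  omega

/-! ### The multiplier -/

section Psi

variable {G : Type*} [Group G] {F : Type*} [Field F] (U : Subgroup G) (ψ : G → F)

theorem psi_one (hne : ∀ u ∈ U, ψ u ≠ 0) (hmul : ∀ u ∈ U, ∀ v ∈ U, ψ (u * v) = ψ u * ψ v) : ψ 1 = 1 := by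
  have h := hmul 1 U.one_mem 1 U.one_mem
  rw [mul_one] at h
  have h0 := hne 1 U.one_mem
  have h1 : ψ 1 * 1 = ψ 1 * ψ 1 := by rw [mul_one]; exact h
  exact (mul_left_cancel₀ h0 h1).symm

theorem psi_pow (hne : ∀ u ∈ U, ψ u ≠ 0) (hmul : ∀ u ∈ U, ∀ v ∈ U, ψ (u * v) = ψ u * ψ v)
    {u : G} (hu : u ∈ U) (n : ℕ) : ψ (u ^ n) = ψ u ^ n := by
  induction n with
  | zero => simpa using psi_one U ψ hne hmul
  | succ n ih => rw [pow_succ, hmul _ (U.pow_mem hu n) _ hu, ih, pow_succ]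

/-- `z ^ #U = 1 ↔ z ∈ ψ(U)`. -/
theorem roots_iff [Finite G] (hne : ∀ u ∈ U, ψ u ≠ 0)
    (hmul : ∀ u ∈ U, ∀ v ∈ U, ψ (u * v) = ψ u * ψ v) (hinj : Set.InjOn ψ (U : Set G)) (z : F) :
    z ^ Nat.card U = 1 ↔ ∃ u ∈ U, z = ψ u := by
  classical
  have hm : 0 < Nat.card U := Nat.card_pos
  constructor
  · intro hz
    let R : Set F := {w | w ^ Nat.card U = 1}
    have hR : R = ↑(Polynomial.nthRoots (Nat.card U) (1 : F)).toFinset := by
      ext w
      simp only [R, Set.mem_ofPred_eq, Finset.mem_coe, Multiset.mem_toFinset,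
        Polynomial.mem_nthRoots hm]
    have hRfin : R.Finite := by rw [hR]; exact Finset.finite_toSet _
    have hRcard : R.ncard ≤ Nat.card U := by
      rw [hR, Set.ncard_coe_finset]
      exact (Multiset.toFinset_card_le _).trans (Polynomial.card_nthRoots _ _)
    have hsub : ψ '' (U : Set G) ⊆ R := by
      rintro _ ⟨u, hu, rfl⟩
      change ψ u ^ Nat.card U = 1
      rw [← psi_pow U ψ hne hmul hu, pow_card_of_mem hu, psi_one U ψ hne hmul]
    have hcard : (ψ '' (U : Set G)).ncard = Nat.card U := by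
      rw [hinj.ncard_image]
      exact (Nat.card_coe_set_eq _).symm
    have hEq : ψ '' (U : Set G) = R :=
      Set.eq_of_subset_of_ncard_le hsub (by rw [hcard]; exact hRcard) hRfin
    have hzR : z ∈ R := hz
    rw [← hEq] at hzR
    obtain ⟨u, hu, rfl⟩ := hzR
    exact ⟨u, hu, rfl⟩
  · rintro ⟨u, hu, rfl⟩
    rw [← psi_pow U ψ hne hmul hu, pow_card_of_mem hu, psi_one U ψ hne hmul]

/-- Purity of `ψ(U)`: no nontrivial element of `U` has `ψ` in the prime field. -/
theorem pure_aux [Finite G] (p : ℕ) [Fact p.Prime] [CharP F p] (hne : ∀ u ∈ U, ψ u ≠ 0)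
    (hmul : ∀ u ∈ U, ∀ v ∈ U, ψ (u * v) = ψ u * ψ v) (hinj : Set.InjOn ψ (U : Set G))
    (hcop : Nat.Coprime (Nat.card U) (p - 1)) {u : G} (hu : u ∈ U) (k : ℕ) (hk : ψ u = (k : F)) :
    u = 1 := by
  have hp1 : 1 ≤ p := (Fact.out : p.Prime).one_le
  have h1 : ψ u ^ Nat.card U = 1 := by
    rw [← psi_pow U ψ hne hmul hu, pow_card_of_mem hu, psi_one U ψ hne hmul]
  have h2 : ψ u ^ (p - 1) = 1 := by
    have h3 : (k : F) ^ p = (k : F) := by
      have := map_natCast (frobenius F p) k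
      rwa [frobenius_def] at this
    have h0 : (k : F) ≠ 0 := hk ▸ hne u hu
    rw [hk]
    have h4 : (k : F) ^ (p - 1) * (k : F) = 1 * (k : F) := by
      rw [← pow_succ, Nat.sub_add_cancel hp1, one_mul, h3]
    exact mul_right_cancel₀ h0 h4
  have h5 := pow_gcd_eq_one.mpr ⟨h1, h2⟩
  rw [Nat.Coprime.gcd_eq_one hcop, pow_one] at h5
  exact hinj hu U.one_mem (by rw [h5, psi_one U ψ hne hmul])

/-- Every nonzero element is (prime field) × `ψ(U)`. -/
theorem split_aux [Finite G] [Fintype F] (p q : ℕ) [Fact p.Prime] [CharP F p]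
    (hF : Fintype.card F = p ^ q) (hne : ∀ u ∈ U, ψ u ≠ 0)
    (hmul : ∀ u ∈ U, ∀ v ∈ U, ψ (u * v) = ψ u * ψ v) (hinj : Set.InjOn ψ (U : Set G))
    (hcard : Nat.card U * (p - 1) = p ^ q - 1)
    (hcop : Nat.Coprime (Nat.card U) (p - 1)) (z : F) (hz : z ≠ 0) :
    ∃ k : ℕ, ∃ u ∈ U, z = (k : F) * ψ u := by
  have hp1 : 1 ≤ p := (Fact.out : p.Prime).one_le
  set m := Nat.card U with hm
  let zu : Fˣ := Units.mk0 z hz
  have hN : zu ^ (m * (p - 1)) = 1 := by
    rw [hcard, ← hF]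
    apply Units.ext
    rw [Units.val_pow_eq_pow_val, Units.val_one]
    exact FiniteField.pow_card_sub_one_eq_one z hz
  have hbez : (1 : ℤ) = (m : ℤ) * Nat.gcdA m (p - 1) + ((p - 1 : ℕ) : ℤ) * Nat.gcdB m (p - 1) := by
    have := Nat.gcd_eq_gcd_ab m (p - 1)
    rw [Nat.Coprime.gcd_eq_one hcop] at this
    exact_mod_cast this
  set A := Nat.gcdA m (p - 1)
  set B := Nat.gcdB m (p - 1)
  let k' : Fˣ := (zu ^ m) ^ A
  let w : Fˣ := (zu ^ (p - 1)) ^ B
  have hzu : zu = k' * w := by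
    have : zu = zu ^ (1 : ℤ) := (zpow_one zu).symm
    rw [this, hbez, zpow_add, zpow_mul, zpow_mul, zpow_natCast, zpow_natCast]
  have hk' : k' ^ (p - 1) = 1 := by
    change ((zu ^ m) ^ A) ^ (p - 1) = 1
    rw [← zpow_natCast, ← zpow_mul, mul_comm, zpow_mul, zpow_natCast, ← pow_mul, hN, one_zpow]
  have hw : w ^ m = 1 := by
    change ((zu ^ (p - 1)) ^ B) ^ m = 1
    rw [← zpow_natCast, ← zpow_mul, mul_comm, zpow_mul, zpow_natCast, ← pow_mul, mul_comm, hN,
      one_zpow]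
  have hk'F : (k' : F) ^ p = (k' : F) := by
    have h1 : (k' : F) ^ (p - 1) = 1 := by
      rw [← Units.val_pow_eq_pow_val, hk', Units.val_one]
    calc (k' : F) ^ p = (k' : F) ^ (p - 1 + 1) := by rw [Nat.sub_add_cancel hp1]
      _ = (k' : F) ^ (p - 1) * (k' : F) := pow_succ _ _
      _ = (k' : F) := by rw [h1, one_mul]
  obtain ⟨k, hk⟩ := Cfsg.Agent.Lib.Helper73_ParabolicField.exists_natCast_of_pow_eq p (k' : F) hk'F
  have hwF : (w : F) ^ m = 1 := by
    rw [← Units.val_pow_eq_pow_val, hw, Units.val_one]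
  obtain ⟨u, hu, hwu⟩ := (roots_iff U ψ hne hmul hinj (w : F)).mp hwF
  refine ⟨k, u, hu, ?_⟩
  have : z = (zu : F) := rfl
  rw [this, hzu, Units.val_mul, hk, hwu]

end Psi

/-! ### The coordinate map -/

section Big

variable {G : Type*} [Group G] [Finite G] {F : Type*} [Field F] [Fintype F]

/-- A subgroup of `F` containing `ψ(U) z₀` is everything. -/
theorem big_aux (p q : ℕ) [Fact p.Prime] (hq : 1 ≤ q) (hF : Fintype.card F = p ^ q)
    (U : Subgroup G) (ψ : G → F) (hne : ∀ u ∈ U, ψ u ≠ 0) (hinj : Set.InjOn ψ (U : Set G))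
    (hcard : Nat.card U * (p - 1) = p ^ q - 1)
    (W : Subgroup (Multiplicative F)) (z0 : F) (hz0 : z0 ≠ 0)
    (hW : ∀ u ∈ U, Multiplicative.ofAdd (ψ u * z0) ∈ W) : W = ⊤ := by
  classical
  have hpp : p.Prime := Fact.out
  have hp : 2 ≤ p := hpp.two_le
  set m := Nat.card U with hm
  have hle : p ^ (q - 1) ≤ m := pow_pred_le hp hq hcard
  let g : G → Multiplicative F := fun u => Multiplicative.ofAdd (ψ u * z0)
  have hginj : Set.InjOn g (U : Set G) := by
    intro u hu v hv h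
    have h1 : ψ u * z0 = ψ v * z0 := Multiplicative.ofAdd.injective h
    exact hinj hu hv (mul_right_cancel₀ hz0 h1)
  have h1notin : (1 : Multiplicative F) ∉ g '' (U : Set G) := by
    rintro ⟨u, hu, h⟩
    have h1 : ψ u * z0 = 0 := Multiplicative.ofAdd.injective h
    rcases mul_eq_zero.mp h1 with h2 | h2
    · exact hne u hu h2
    · exact hz0 h2
  have hfin : (g '' (U : Set G)).Finite := Set.toFinite _
  have hS : (insert (1 : Multiplicative F) (g '' (U : Set G))).ncard = m + 1 := by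
    rw [Set.ncard_insert_of_notMem h1notin hfin, hginj.ncard_image]
    congr 1
  have hsub : insert (1 : Multiplicative F) (g '' (U : Set G)) ⊆ (W : Set (Multiplicative F)) := by
    intro x hx
    rcases hx with rfl | ⟨u, hu, rfl⟩
    · exact W.one_mem
    · exact hW u hu
  have hWcard : m + 1 ≤ Nat.card W := by
    rw [← hS]
    have := Set.ncard_le_ncard hsub (Set.toFinite _)
    rwa [← Nat.card_coe_set_eq] at this
  have hdvd : Nat.card W ∣ p ^ q := by
    have h1 := Subgroup.card_subgroup_dvd_card W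
    have h2 : Nat.card (Multiplicative F) = p ^ q := by
      rw [← hF, ← Nat.card_eq_fintype_card]
      exact Nat.card_congr Multiplicative.toAdd
    rwa [h2] at h1
  obtain ⟨i, hi, hWi⟩ := (Nat.dvd_prime_pow hpp).mp hdvd
  have hiq : i = q := by
    by_contra hne'
    have hi' : i ≤ q - 1 := by omega
    have : p ^ i ≤ p ^ (q - 1) := Nat.pow_le_pow_right (by omega) hi'
    omega
  rw [hiq] at hWi
  apply Subgroup.eq_top_of_card_eq
  rw [hWi, ← hF, ← Nat.card_eq_fintype_card]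
  exact (Nat.card_congr Multiplicative.toAdd).symm

end Big

/-! ### The package -/

theorem PKB {G : Type*} [Group G] [Finite G] (p q : ℕ) [Fact p.Prime] [Fact q.Prime] (hp2 : p ≠ 2)
    (hA : Nat.Coprime ((p ^ q - 1) / (p - 1)) (p - 1))
    (F : Type*) [Field F] [Fintype F] (hF : Fintype.card F = p ^ q) (P U Q : Subgroup G) (f ψ : G → F)
    (hf : Set.BijOn f (P : Set G) Set.univ) (hfadd : ∀ x ∈ P, ∀ z ∈ P, f (x * z) = f x + f z)
    (hUP : U ≤ Subgroup.normalizer (P : Set G)) (hψ : ∀ u ∈ U, ψ u ≠ 0 ∧ ∀ x ∈ P, f (u * x * u⁻¹) = ψ u * f x)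
    (hψmul : ∀ u ∈ U, ∀ v ∈ U, ψ (u * v) = ψ u * ψ v) (hψinj : Set.InjOn ψ (U : Set G)) (hUcard : Nat.card U * (p - 1) = p ^ q - 1)
    (hQ : IsMulCommutative Q) (hQp : (Nat.card Q).Coprime p) (hP0Q : ∀ x ∈ P, f x ^ p = f x → x ∈ Subgroup.normalizer (Q : Set G))
    (y : G) (hy : y ∈ Q) (hP0U : ∀ x ∈ P, f x ^ p = f x → y * x * y⁻¹ ∈ Subgroup.normalizer (U : Set G)) :
    ∃ c : Cfg G F p, c.U = U ∧ c.ψ = ψ ∧
      ∀ z : F, z ^ ((p ^ q - 1) / (p - 1)) = 1 ↔ ∃ u ∈ U, z = ψ u := by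
  classical
  have hpp : p.Prime := Fact.out
  have hqp : q.Prime := Fact.out
  have hp : 2 ≤ p := hpp.two_le
  have hq : 2 ≤ q := hqp.two_le
  have : CharP F p := charP_of_card_eq_prime_pow hF
  have hne : ∀ u ∈ U, ψ u ≠ 0 := fun u hu => (hψ u hu).1
  have hm : Nat.card U = (p ^ q - 1) / (p - 1) := card_eq_m hp hUcard
  have hcop : Nat.Coprime (Nat.card U) (p - 1) := by rw [hm]; exact hA
  -- the coordinate map
  have hsurj : ∀ z : F, ∃ x, x ∈ P ∧ f x = z := fun z => hf.surjOn (Set.mem_univ z)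
  let a : F → G := fun z => Classical.choose (hsurj z)
  have haP : ∀ z, a z ∈ P := fun z => (Classical.choose_spec (hsurj z)).1
  have hfa : ∀ z, f (a z) = z := fun z => (Classical.choose_spec (hsurj z)).2
  have hinjP : ∀ x ∈ P, ∀ z ∈ P, f x = f z → x = z := fun x hx z hz h => hf.injOn hx hz h
  have a_add : ∀ z w, a (z + w) = a z * a w := by
    intro z w
    apply hinjP _ (haP _) _ (P.mul_mem (haP z) (haP w))
    rw [hfa, hfadd _ (haP z) _ (haP w), hfa, hfa]
  have a_inj : Function.Injective a := by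
    intro z w h
    rw [← hfa z, ← hfa w, h]
  have hnormP : ∀ u ∈ U, ∀ x ∈ P, u * x * u⁻¹ ∈ P := by
    intro u hu x hx
    exact (Subgroup.mem_set_normalizer_iff.mp (hUP hu) x).mp hx
  have conj_a : ∀ u ∈ U, ∀ z, u * a z * u⁻¹ = a (ψ u * z) := by
    intro u hu z
    apply hinjP _ (hnormP u hu _ (haP z)) _ (haP _)
    rw [(hψ u hu).2 _ (haP z), hfa, hfa]
  have ha1 : f (a 1) ^ p = f (a 1) := by rw [hfa, one_pow]
  have hmle : p ^ (q - 1) ≤ Nat.card U := pow_pred_le hp (by omega) hUcard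
  have hU1 : 1 < Nat.card U := by
    have : p ^ 1 ≤ p ^ (q - 1) := Nat.pow_le_pow_right (by omega) (by omega)
    rw [pow_one] at this
    omega
  let aHom : Multiplicative F →* G :=
    { toFun := fun z => a (Multiplicative.toAdd z)
      map_one' := by
        change a 0 = 1
        have h := a_add 0 0
        rw [add_zero] at h
        exact (mul_eq_left.mp h.symm)
      map_mul' := fun z w => a_add _ _ }
  refine ⟨{ a := a, ψ := ψ, U := U, Q := Q, y := y, hp := hpp, hp2 := hp2,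
            char := CharP.cast_eq_zero F p, a_add := a_add, a_inj := a_inj, ψ_ne := hne,
            ψ_mul := hψmul, ψ_inj := fun u hu v hv h => hψinj hu hv h, conj_a := conj_a,
            U_ne := ?_, split := ?_, pure := ?_, big := ?_, Q_comm := ?_, Q_cop := hQp,
            y_mem := hy, s_conj := ?_, t_conj := ?_ }, rfl, rfl, ?_⟩
  · -- U_ne
    by_contra hcon
    push Not at hcon
    have : Nat.card U = 1 := by
      rw [Nat.card_eq_one_iff_unique]
      refine ⟨⟨fun x z => ?_⟩, ⟨1⟩⟩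
      apply Subtype.ext
      rw [hcon x.1 x.2, hcon z.1 z.2]
    omega
  · -- split
    intro z hz
    exact split_aux U ψ p q hF hne hψmul hψinj hUcard hcop z hz
  · -- pure
    intro u hu k hk
    exact pure_aux U ψ p hne hψmul hψinj hcop hu k hk
  · -- big
    intro V z0 hz0 hV z
    have hW := big_aux p q (by omega) hF U ψ hne hψinj hUcard (V.comap aHom) z0 hz0
      (fun u hu => by
        rw [Subgroup.mem_comap]
        exact hV u hu)
    have : Multiplicative.ofAdd z ∈ V.comap aHom := by rw [hW]; exact Subgroup.mem_top _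
    exact this
  · -- Q_comm
    intro x hx z hz
    have := hQ.is_comm.comm (⟨x, hx⟩ : Q) ⟨z, hz⟩
    exact congrArg Subtype.val this
  · -- s_conj
    intro x hx
    exact (Subgroup.mem_set_normalizer_iff.mp (hP0Q _ (haP 1) ha1) x).mp hx
  · -- t_conj
    intro u hu
    exact (Subgroup.mem_set_normalizer_iff.mp (hP0U _ (haP 1) ha1) u).mp hu
  · -- roots
    intro z
    rw [← hm]
    exact roots_iff U ψ hne hψmul hψinj z

end Cfsg.Agent.Lib.Helper73_AppC_PKB
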