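import Mathlib
import Cfsg.Prelude.Def_Solvable
import Cfsg.Agent.S0215
import Cfsg.Agent.Lib.Helper1_Cores

/-!
Automorphisms fixing a Sylow 2-subgroup pointwise (helper73).

Main tool: Glauberman Z* (S0215) applied in the semidirect product of `G` with the
cyclic group generated by an involutory automorphism.
-/

set_option autoImplicit false

namespace Cfsg.Agent.Lib.Helper73_AutSylow

open Subgroup

section LemmaZ

variable {G : Type*} [Group G] [Finite G]

/-- Abstract form: `Γ` contains `G` (via `ι`) and an involution `a` inducing `α` on `G`, and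
every element of `Γ` is `ι g * z` with `z` commuting with `a`. -/
theorem exists_comm_mem_sylow_aux {Γ : Type*} [Group Γ] [Finite Γ]
    (hcore : Cfsg.pPrimeCore 2 G = ⊥) (P : Sylow 2 G)
    (α : MulAut G) (hne : α ≠ 1) (hfix : ∀ x ∈ P, α x = x)
    (ι : G →* Γ) (hι : Function.Injective ι) (a : Γ) (haord : orderOf a = 2)
    (hconj : ∀ g : G, a * ι g * a⁻¹ = ι (α g))
    (hdec : ∀ γ : Γ, ∃ (g : G) (z : Γ), γ = ι g * z ∧ z * a * z⁻¹ = a) :
    ∃ g : G, g⁻¹ * α g ∈ P ∧ g⁻¹ * α g ≠ 1 := by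
  classical
  by_contra hcon
  push Not at hcon
  -- 2-subgroup containing ι P and a
  have hPg : IsPGroup 2 (P.1.map ι) := P.2.map ι
  have hag : IsPGroup 2 (Subgroup.zpowers a) := by
    apply IsPGroup.of_card (n := 1)
    rw [Nat.card_zpowers, haord]; rfl
  have hacent : ∀ y ∈ P.1.map ι, a * y * a⁻¹ = y := by
    rintro _ ⟨x, hx, rfl⟩
    rw [hconj, hfix x hx]
  have hnorm : Subgroup.zpowers a ≤ Subgroup.normalizer ((P.1.map ι : Subgroup Γ) : Set Γ) := by
    rw [Subgroup.zpowers_le]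
    rw [Subgroup.mem_normalizer_iff]
    intro y
    constructor
    · intro hy; rw [hacent y hy]; exact hy
    · intro hy
      have h1 := hacent _ hy
      have : a * y * a⁻¹ = y := by
        have h4 : a * (a * y * a⁻¹) = a * y := by
          have := congrArg (· * a) h1
          simpa [mul_assoc] using this
        exact mul_left_cancel h4
      rw [← this]; exact hy
  have hT0 : IsPGroup 2 (Subgroup.zpowers a ⊔ P.1.map ι : Subgroup Γ) :=
    IsPGroup.to_sup_of_normal_right' hag hPg hnorm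
  obtain ⟨T, hT⟩ := hT0.exists_le_sylow
  have haT : a ∈ T := hT (Subgroup.mem_sup_left (Subgroup.mem_zpowers a))
  have hPT : P.1.map ι ≤ T := le_trans le_sup_right hT
  -- T ∩ G = P
  have hcomap : (T : Subgroup Γ).comap ι = P := by
    apply P.3
    · exact T.2.comap_of_injective ι hι
    · intro x hx
      exact hPT (Subgroup.mem_map_of_mem ι hx)
  -- isolation hypothesis
  have hiso : ∀ γ : Γ, γ * a * γ⁻¹ ∈ T → γ * a * γ⁻¹ = a := by
    intro γ hγ
    obtain ⟨g, z, hγdec, hz⟩ := hdec γ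
    have h1 : γ * a * γ⁻¹ = ι g * a * (ι g)⁻¹ := by
      rw [hγdec]
      calc ι g * z * a * (ι g * z)⁻¹
          = ι g * (z * a * z⁻¹) * (ι g)⁻¹ := by simp only [mul_inv_rev, mul_assoc]
        _ = ι g * a * (ι g)⁻¹ := by rw [hz]
    have h2' : ι g * a * (ι g)⁻¹ = ι (g * α g⁻¹) * a := by
      have := hconj g⁻¹
      calc ι g * a * (ι g)⁻¹ = ι g * (a * ι g⁻¹ * a⁻¹) * a := by
            rw [map_inv]; simp only [mul_assoc, inv_mul_cancel, mul_one]
        _ = ι g * ι (α g⁻¹) * a := by rw [this]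
        _ = ι (g * α g⁻¹) * a := by rw [map_mul]
    have h3 : ι (g * α g⁻¹) ∈ T := by
      have : ι (g * α g⁻¹) = (γ * a * γ⁻¹) * a⁻¹ := by rw [h1, h2', mul_inv_cancel_right]
      rw [this]; exact T.mul_mem hγ (T.inv_mem haT)
    have h4 : g * α g⁻¹ ∈ (P : Subgroup G) := by
      rw [← hcomap]; exact h3
    have h5 := hcon g⁻¹ (by rw [inv_inv]; exact h4)
    have h6 : g * α g⁻¹ = 1 := by rw [inv_inv] at h5; exact h5
    rw [h1, h2', h6, map_one, one_mul]
  obtain ⟨N, hNn, hNodd, hN⟩ := Cfsg.Agent.S0215.result T a haord haT hiso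
  -- N ∩ G is trivial
  have hNG : N.comap ι = ⊥ := by
    have hn : (N.comap ι).Normal := hNn.comap ι
    have hc : (Nat.card (N.comap ι)).Coprime 2 := by
      have hd : Nat.card (N.comap ι) ∣ Nat.card N := Subgroup.card_comap_dvd_of_injective N ι hι
      have : Odd (Nat.card (N.comap ι)) := hNodd.of_dvd_nat hd
      exact Nat.Coprime.symm (Nat.coprime_two_left.mpr this)
    have := Cfsg.Agent.Lib.Helper1_Cores.le_pPrimeCore hn hc
    rw [hcore] at this
    exact le_bot_iff.mp this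
  apply hne
  ext g
  have h1 := hN (ι g)
  have h2' : a * ι g * a⁻¹ * (ι g)⁻¹ = ι (α g * g⁻¹) := by
    rw [hconj, map_mul, map_inv]
  rw [h2'] at h1
  have h3 : α g * g⁻¹ ∈ N.comap ι := h1
  rw [hNG, Subgroup.mem_bot] at h3
  simpa using mul_inv_eq_one.mp h3

/-- An involutory automorphism fixing a Sylow 2-subgroup `P` pointwise of a group with trivial
odd core moves some element `g` by a nontrivial element of `P`. -/
theorem exists_comm_mem_sylow (hcore : Cfsg.pPrimeCore 2 G = ⊥) (P : Sylow 2 G)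
    (α : MulAut G) (h2 : α ^ 2 = 1) (hne : α ≠ 1) (hfix : ∀ x ∈ P, α x = x) :
    ∃ g : G, g⁻¹ * α g ∈ P ∧ g⁻¹ * α g ≠ 1 := by
  classical
  have hαord : orderOf α = 2 := orderOf_eq_prime h2 hne
  have : Finite (G ⋊[(Subgroup.zpowers α).subtype] (Subgroup.zpowers α)) :=
    Finite.of_equiv _ (SemidirectProduct.equivProd (φ := (Subgroup.zpowers α).subtype)).symm
  refine exists_comm_mem_sylow_aux
    (Γ := G ⋊[(Subgroup.zpowers α).subtype] (Subgroup.zpowers α)) hcore P α hne hfix
    SemidirectProduct.inl SemidirectProduct.inl_injective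
    (SemidirectProduct.inr ⟨α, Subgroup.mem_zpowers α⟩) ?_ ?_ ?_
  · rw [orderOf_injective (SemidirectProduct.inr :
        (Subgroup.zpowers α) →* G ⋊[(Subgroup.zpowers α).subtype] (Subgroup.zpowers α))
        SemidirectProduct.inr_injective]
    rw [← orderOf_injective (Subgroup.zpowers α).subtype (Subgroup.zpowers α).subtype_injective]
    exact hαord
  · intro g
    have := SemidirectProduct.inl_aut (φ := (Subgroup.zpowers α).subtype)
      ⟨α, Subgroup.mem_zpowers α⟩ g
    rw [← map_inv]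
    exact this.symm
  · intro γ
    refine ⟨γ.left, SemidirectProduct.inr γ.right,
      (SemidirectProduct.inl_left_mul_inr_right γ).symm, ?_⟩
    rw [← map_inv, ← map_mul, ← map_mul]
    congr 1
    obtain ⟨h, hh⟩ := γ.right
    obtain ⟨k, rfl⟩ := Subgroup.mem_zpowers_iff.mp hh
    apply Subtype.ext
    simp only [Subgroup.coe_mul, Subgroup.coe_inv]
    rw [← zpow_add_one, add_comm, zpow_add, zpow_one, mul_inv_cancel_right]

end LemmaZ


section Power

variable {G : Type*} [Group G] [Finite G]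

/-- 2-elements centralizing a Sylow 2-subgroup lie in it. -/
theorem mem_sylow_of_pow_two {P : Sylow 2 G} {x : G}
    (hx : x ∈ Subgroup.centralizer ((P : Subgroup G) : Set G)) {v : ℕ} (hxv : x ^ 2 ^ v = 1) :
    x ∈ P := by
  have hz : IsPGroup 2 (Subgroup.zpowers x) := by
    obtain ⟨j, -, hj⟩ := (Nat.dvd_prime_pow Nat.prime_two).mp (orderOf_dvd_of_pow_eq_one hxv)
    apply IsPGroup.of_card (n := j); rw [Nat.card_zpowers, hj]
  have hn : Subgroup.zpowers x ≤ Subgroup.normalizer ((P : Subgroup G) : Set G) := by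
    rw [Subgroup.zpowers_le]; exact Subgroup.centralizer_le_normalizer _ hx
  have h := IsPGroup.to_sup_of_normal_right' hz P.2 hn
  have := P.3 h le_sup_right
  have hx' : x ∈ (Subgroup.zpowers x ⊔ (P : Subgroup G)) :=
    Subgroup.mem_sup_left (Subgroup.mem_zpowers x)
  rw [this] at hx'
  exact hx'

/-- An odd exponent `N` such that `c ↦ c ^ N` is multiplicative on `C_G(P)` with values in `P`. -/
theorem exists_pow (P : Sylow 2 G) (hab : IsMulCommutative (P : Subgroup G)) :
    ∃ N : ℕ, Odd N ∧ (∀ c ∈ Subgroup.centralizer ((P : Subgroup G) : Set G), c ^ N ∈ P) ∧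
      (∀ c ∈ Subgroup.centralizer ((P : Subgroup G) : Set G),
        ∀ d ∈ Subgroup.centralizer ((P : Subgroup G) : Set G), (c * d) ^ N = c ^ N * d ^ N) := by
  classical
  set C : Subgroup G := Subgroup.centralizer ((P : Subgroup G) : Set G) with hC
  have hPC : (P : Subgroup G) ≤ C := by
    intro x hx y hy
    haveI := hab
    exact setLike_mul_comm hy hx
  have hPZ : (P : Subgroup G).subgroupOf C ≤ Subgroup.center C := by
    intro x hx
    rw [Subgroup.mem_center_iff]
    intro y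
    apply Subtype.ext
    have := y.2 x.1 (Subgroup.mem_subgroupOf.mp hx)
    simpa using this.symm
  have hodd : Odd (Subgroup.center C).index := by
    have h1 : (Subgroup.center C).index ∣ ((P : Subgroup G).subgroupOf C).index :=
      Subgroup.index_dvd_of_le hPZ
    have h2 : ((P : Subgroup G).subgroupOf C).index ∣ (P : Subgroup G).index :=
      Dvd.intro _ (Subgroup.relIndex_mul_index hPC)
    have h3 : ¬ 2 ∣ (P : Subgroup G).index := P.not_dvd_index
    rw [← Nat.not_even_iff_odd, even_iff_two_dvd]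
    exact fun h => h3 (dvd_trans (dvd_trans h h1) h2)
  obtain ⟨v, k, hk, hvk⟩ :=
    Nat.exists_eq_two_pow_mul_odd (n := Nat.card (Subgroup.center C)) Nat.card_pos.ne'
  set τ : C →* Subgroup.center C := MonoidHom.transferCenterPow C with hτ
  have hg : ∀ c : C, ((((τ c) ^ k : Subgroup.center C) : C) : G)
      = (c : G) ^ ((Subgroup.center C).index * k) := by
    intro c
    simp only [hτ, Subgroup.coe_pow, MonoidHom.transferCenterPow_apply, pow_mul]
  refine ⟨(Subgroup.center C).index * k, hodd.mul hk, ?_, ?_⟩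
  · intro c hc
    have h1 := hg ⟨c, hc⟩
    simp only at h1
    rw [← h1]
    apply mem_sylow_of_pow_two (v := v) (SetLike.coe_mem _)
    have h2 : ((τ ⟨c, hc⟩) ^ k) ^ (2 ^ v) = 1 := by
      rw [← pow_mul, mul_comm, ← hvk, pow_card_eq_one']
    have := congrArg (fun z : Subgroup.center C => ((z : C) : G)) h2
    simpa using this
  · intro c hc d hd
    have h1 := hg ⟨c, hc⟩
    have h2 := hg ⟨d, hd⟩
    have h3 := hg (⟨c, hc⟩ * ⟨d, hd⟩)
    simp only at h1 h2
    have hcm : Commute (τ ⟨c, hc⟩) (τ ⟨d, hd⟩) := mul_comm' _ _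
    rw [map_mul, hcm.mul_pow] at h3
    simp only [Subgroup.coe_mul] at h3
    rw [← h1, ← h2, h3]

end Power


section Cocycle

variable {G : Type*} [Group G] [Finite G]

/-- From an arbitrary `g` moved by an element of `P` to an element of the normalizer. -/
theorem exists_normalizer_comm (P : Sylow 2 G) (hab : IsMulCommutative (P : Subgroup G))
    (α : MulAut G) (hfix : ∀ x ∈ P, α x = x) (g : G) (hg : g⁻¹ * α g ∈ P) :
    ∃ n ∈ Subgroup.normalizer ((P : Subgroup G) : Set G), n⁻¹ * α n = g⁻¹ * α g := by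
  classical
  haveI := hab
  let F : Subgroup G :=
    { carrier := {x | α x = x}
      mul_mem' := fun {a b} ha hb => by
        simp only [Set.mem_setOf_eq] at ha hb ⊢
        rw [map_mul, ha, hb]
      one_mem' := map_one α
      inv_mem' := fun {a} ha => by
        simp only [Set.mem_setOf_eq] at ha ⊢
        rw [map_inv, ha] }
  have h1 : (P : Subgroup G) ≤ F := fun x hx => hfix x hx
  have h2 : ↑(g • P) ≤ F := by
    rintro - ⟨x, hx, rfl⟩
    show α (g * x * g⁻¹) = g * x * g⁻¹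
    have hαg : α g = g * (g⁻¹ * α g) := by rw [mul_inv_cancel_left]
    have hsx : (g⁻¹ * α g) * x = x * (g⁻¹ * α g) := setLike_mul_comm hg hx
    rw [map_mul, map_mul, map_inv, hfix x hx]
    calc α g * x * (α g)⁻¹ = g * ((g⁻¹ * α g) * x) * (α g)⁻¹ := by
          simp only [mul_assoc, mul_inv_cancel_left]
      _ = g * (x * (g⁻¹ * α g)) * (α g)⁻¹ := by rw [hsx]
      _ = g * x * g⁻¹ := by simp only [mul_assoc, mul_inv_cancel, mul_one]
  obtain ⟨h, hh⟩ := MulAction.exists_smul_eq F ((g • P).subtype h2) (P.subtype h1)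
  simp_rw [Sylow.smul_subtype, Subgroup.smul_def, smul_smul] at hh
  refine ⟨h * g, Sylow.smul_eq_iff_mem_normalizer.mp (Sylow.subtype_injective hh), ?_⟩
  have hh' : α (h : G) = h := h.2
  rw [map_mul, hh']
  simp only [mul_inv_rev, mul_assoc, inv_mul_cancel_left]

/-- The "commutator to the power `N`" map. -/
def Phi (N : ℕ) (a : MulAut G) (n : G) : G := (n⁻¹ * a n) ^ N

theorem Phi_one (N : ℕ) (n : G) : Phi N (1 : MulAut G) n = 1 := by
  simp [Phi]

theorem d_mem (P : Sylow 2 G) (a : MulAut G) (ha : ∀ x ∈ P, a x = x) {n : G}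
    (hn : n ∈ Subgroup.normalizer ((P : Subgroup G) : Set G)) :
    n⁻¹ * a n ∈ Subgroup.centralizer ((P : Subgroup G) : Set G) := by
  rw [Subgroup.mem_centralizer_iff]
  intro t ht
  have ht' : n * t * n⁻¹ ∈ (P : Subgroup G) := (Subgroup.mem_normalizer_iff.mp hn t).mp ht
  have h1 := ha _ ht'
  rw [map_mul, map_mul, map_inv, ha t ht] at h1
  -- h1 : a n * t * (a n)⁻¹ = n * t * n⁻¹
  have h2 : a n * t = n * t * n⁻¹ * a n := by
    rw [← h1]; simp only [mul_assoc, inv_mul_cancel, mul_one]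
  calc t * (n⁻¹ * a n) = n⁻¹ * (n * t * n⁻¹ * a n) := by
        simp only [mul_assoc, inv_mul_cancel_left]
    _ = n⁻¹ * (a n * t) := by rw [h2]
    _ = n⁻¹ * a n * t := by rw [mul_assoc]

theorem aut_mem (P : Sylow 2 G) (a : MulAut G) (ha : ∀ x ∈ P, a x = x) {c : G}
    (hc : c ∈ Subgroup.centralizer ((P : Subgroup G) : Set G)) :
    a c ∈ Subgroup.centralizer ((P : Subgroup G) : Set G) := by
  rw [Subgroup.mem_centralizer_iff] at hc ⊢
  intro t ht
  have := hc t ht
  calc t * a c = a t * a c := by rw [ha t ht]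
    _ = a (t * c) := (map_mul a t c).symm
    _ = a (c * t) := by rw [this]
    _ = a c * t := by rw [map_mul, ha t ht]

theorem conj_mem_centralizer (P : Sylow 2 G) {m c : G}
    (hm : m ∈ Subgroup.normalizer ((P : Subgroup G) : Set G))
    (hc : c ∈ Subgroup.centralizer ((P : Subgroup G) : Set G)) :
    m⁻¹ * c * m ∈ Subgroup.centralizer ((P : Subgroup G) : Set G) := by
  rw [Subgroup.mem_centralizer_iff] at hc ⊢
  intro t ht
  have ht' : m * t * m⁻¹ ∈ (P : Subgroup G) := (Subgroup.mem_normalizer_iff.mp hm t).mp ht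
  have := hc _ ht'
  calc t * (m⁻¹ * c * m) = m⁻¹ * (m * t * m⁻¹ * c) * m := by
        simp only [mul_assoc, inv_mul_cancel_left]
    _ = m⁻¹ * (c * (m * t * m⁻¹)) * m := by rw [this]
    _ = m⁻¹ * c * m * t := by simp only [mul_assoc, inv_mul_cancel, mul_one]

variable (P : Sylow 2 G) (N : ℕ)
  (hmem : ∀ c ∈ Subgroup.centralizer ((P : Subgroup G) : Set G), c ^ N ∈ P)
  (hmul : ∀ c ∈ Subgroup.centralizer ((P : Subgroup G) : Set G),
        ∀ d ∈ Subgroup.centralizer ((P : Subgroup G) : Set G), (c * d) ^ N = c ^ N * d ^ N)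

include hmem in
theorem Phi_mem (a : MulAut G) (ha : ∀ x ∈ P, a x = x) {n : G}
    (hn : n ∈ Subgroup.normalizer ((P : Subgroup G) : Set G)) : Phi N a n ∈ P :=
  hmem _ (d_mem P a ha hn)

include hmem hmul in
theorem Phi_mul (a b : MulAut G) (ha : ∀ x ∈ P, a x = x) (hb : ∀ x ∈ P, b x = x) {n : G}
    (hn : n ∈ Subgroup.normalizer ((P : Subgroup G) : Set G)) :
    Phi N (a * b) n = Phi N a n * Phi N b n := by
  unfold Phi
  have h1 : n⁻¹ * (a * b) n = (n⁻¹ * a n) * a (n⁻¹ * b n) := by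
    rw [MulAut.mul_apply, map_mul, map_inv]
    simp only [mul_assoc, mul_inv_cancel_left]
  rw [h1, hmul _ (d_mem P a ha hn) _ (aut_mem P a ha (d_mem P b hb hn)), ← map_pow,
    ha _ (hmem _ (d_mem P b hb hn))]

include hmem hmul in
theorem Phi_cocycle (a : MulAut G) (ha : ∀ x ∈ P, a x = x) {n m : G}
    (hn : n ∈ Subgroup.normalizer ((P : Subgroup G) : Set G))
    (hm : m ∈ Subgroup.normalizer ((P : Subgroup G) : Set G)) :
    Phi N a (n * m) = m⁻¹ * Phi N a n * m * Phi N a m := by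
  unfold Phi
  have h1 : (n * m)⁻¹ * a (n * m) = (m⁻¹ * (n⁻¹ * a n) * m) * (m⁻¹ * a m) := by
    rw [map_mul]
    simp only [mul_inv_rev, mul_assoc, mul_inv_cancel_left]
  have h2 : (m⁻¹ * (n⁻¹ * a n) * m) ^ N = m⁻¹ * (n⁻¹ * a n) ^ N * m := by
    have := conj_pow (a := m⁻¹) (b := n⁻¹ * a n) (i := N)
    rwa [inv_inv] at this
  rw [h1, hmul _ (conj_mem_centralizer P hm (d_mem P a ha hn)) _ (d_mem P a ha hm), h2]

include hmem hmul in
theorem Phi_cent (a : MulAut G) (ha : ∀ x ∈ P, a x = x) {c : G}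
    (hc : c ∈ Subgroup.centralizer ((P : Subgroup G) : Set G)) : Phi N a c = 1 := by
  unfold Phi
  rw [hmul _ (Subgroup.inv_mem _ hc) _ (aut_mem P a ha hc), ← map_pow, ha _ (hmem _ hc), inv_pow,
    inv_mul_cancel]

include hmem hmul in
theorem Phi_mul_cent (a : MulAut G) (ha : ∀ x ∈ P, a x = x) {n c : G}
    (hn : n ∈ Subgroup.normalizer ((P : Subgroup G) : Set G))
    (hc : c ∈ Subgroup.centralizer ((P : Subgroup G) : Set G)) :
    Phi N a (n * c) = Phi N a n := by
  rw [Phi_cocycle P N hmem hmul a ha hn (Subgroup.centralizer_le_normalizer _ hc),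
    Phi_cent P N hmem hmul a ha hc, mul_one]
  have h1 : Phi N a n ∈ (P : Subgroup G) := Phi_mem P N hmem a ha hn
  have := (Subgroup.mem_centralizer_iff.mp hc) _ h1
  rw [mul_assoc, this, inv_mul_cancel_left]

theorem fix_pow (a : MulAut G) (ha : ∀ x ∈ P, a x = x) (k : ℕ) : ∀ x ∈ P, (a ^ k) x = x := by
  induction k with
  | zero => intro x _; simp
  | succ k ih =>
    intro x hx
    rw [pow_succ, MulAut.mul_apply, ha x hx, ih x hx]

include hmem hmul in
theorem Phi_pow (a : MulAut G) (ha : ∀ x ∈ P, a x = x) {n : G}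
    (hn : n ∈ Subgroup.normalizer ((P : Subgroup G) : Set G)) (k : ℕ) :
    Phi N (a ^ k) n = (Phi N a n) ^ k := by
  induction k with
  | zero => rw [pow_zero, pow_zero, Phi_one]
  | succ k ih =>
    rw [pow_succ, Phi_mul P N hmem hmul _ _ (fix_pow P a ha k) ha hn, ih, pow_succ]

include hmem hmul in
theorem Phi_conj {u : G} (hu : u ∈ P) (hab : IsMulCommutative (P : Subgroup G)) {m : G}
    (hm : m ∈ Subgroup.normalizer ((P : Subgroup G) : Set G)) :
    Phi N (MulAut.conj u) m = m⁻¹ * u ^ N * m * (u ^ N)⁻¹ := by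
  haveI := hab
  have hPC : (P : Subgroup G) ≤ Subgroup.centralizer ((P : Subgroup G) : Set G) := by
    intro x hx y hy
    exact setLike_mul_comm hy hx
  unfold Phi
  have h1 : m⁻¹ * MulAut.conj u m = (m⁻¹ * u * m) * u⁻¹ := by
    rw [MulAut.conj_apply]; simp only [mul_assoc]
  have hum : m⁻¹ * u * m ∈ (P : Subgroup G) := by
    have hm' : m⁻¹ ∈ Subgroup.normalizer ((P : Subgroup G) : Set G) := Subgroup.inv_mem _ hm
    have := (Subgroup.mem_normalizer_iff.mp hm' u).mp hu
    rwa [inv_inv] at this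
  have h2 : (m⁻¹ * u * m) ^ N = m⁻¹ * u ^ N * m := by
    have := conj_pow (a := m⁻¹) (b := u) (i := N)
    rwa [inv_inv] at this
  rw [h1, hmul _ (hPC hum) _ (hPC (Subgroup.inv_mem _ hu)), h2, inv_pow]

end Cocycle


section Averaging

/-- Abstract averaging step. -/
theorem avg_abstract {A : Type*} [CommGroup A] [Finite A] {Q : Type*} [Fintype Q]
    (hcop : (Nat.card A).Coprime (Fintype.card Q)) (F : Q → A) :
    ∃ z : ℤ, ∀ (σ : Q ≃ Q) (c : A →* A) (y : A), (∀ q, F (σ q) = c (F q) * y) →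
      y = (∏ q, F q) ^ z * (c ((∏ q, F q) ^ z))⁻¹ := by
  classical
  refine ⟨(Nat.card A).gcdB (Fintype.card Q), ?_⟩
  intro σ c y h
  have h1 : ∏ q, F q = c (∏ q, F q) * y ^ Fintype.card Q := by
    calc ∏ q, F q = ∏ q, F (σ q) := (Equiv.prod_comp σ F).symm
      _ = ∏ q, (c (F q) * y) := Finset.prod_congr rfl (fun q _ => h q)
      _ = (∏ q, c (F q)) * ∏ _q : Q, y := Finset.prod_mul_distrib
      _ = c (∏ q, F q) * y ^ Fintype.card Q := by
          rw [map_prod, Finset.prod_const, Finset.card_univ]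
  have h2 : y ^ Fintype.card Q = (∏ q, F q) * (c (∏ q, F q))⁻¹ := by
    rw [eq_mul_inv_iff_mul_eq, mul_comm]; exact h1.symm
  have h3 := (powCoprime hcop).left_inv y
  simp only [powCoprime] at h3
  have h4 : y = (y ^ Fintype.card Q) ^ (Nat.card A).gcdB (Fintype.card Q) := h3.symm
  rw [h4, h2, mul_zpow, inv_zpow, map_zpow]

variable {G : Type*} [Group G] [Finite G]

/-- Vanishing of `H¹(N(P)/C(P), P)` in concrete form. -/
theorem exists_coboundary (P : Sylow 2 G) (hab : IsMulCommutative (P : Subgroup G)) (f : G → G)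
    (hfP : ∀ n ∈ Subgroup.normalizer ((P : Subgroup G) : Set G), f n ∈ P)
    (hcoc : ∀ n ∈ Subgroup.normalizer ((P : Subgroup G) : Set G),
      ∀ m ∈ Subgroup.normalizer ((P : Subgroup G) : Set G), f (n * m) = m⁻¹ * f n * m * f m)
    (hinv : ∀ n ∈ Subgroup.normalizer ((P : Subgroup G) : Set G),
      ∀ c ∈ Subgroup.centralizer ((P : Subgroup G) : Set G), f (n * c) = f n) :
    ∃ s ∈ P, ∀ m ∈ Subgroup.normalizer ((P : Subgroup G) : Set G),
      f m = s * (m⁻¹ * s * m)⁻¹ := by
  classical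
  haveI := hab
  letI : CommGroup ↥(P : Subgroup G) :=
    { (inferInstance : Group ↥(P : Subgroup G)) with mul_comm := fun a b => mul_comm' a b }
  have hPC : (P : Subgroup G) ≤ Subgroup.centralizer ((P : Subgroup G) : Set G) := by
    intro x hx y hy
    exact setLike_mul_comm hy hx
  set Nz : Subgroup G := Subgroup.normalizer ((P : Subgroup G) : Set G) with hNz
  set Cz : Subgroup G := Subgroup.centralizer ((P : Subgroup G) : Set G) with hCz
  have hCN : Cz ≤ Nz := Subgroup.centralizer_le_normalizer _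
  let Cn : Subgroup Nz := Cz.subgroupOf Nz
  have : Cn.Normal := Subgroup.normal_subgroupOf_centralizer_normalizer _
  let _ : Fintype (Nz ⧸ Cn) := Fintype.ofFinite _
  -- the index is odd
  have hodd : (Nat.card ↥(P : Subgroup G)).Coprime (Fintype.card (Nz ⧸ Cn)) := by
    have h0 : Fintype.card (Nz ⧸ Cn) = Cz.relIndex Nz := by
      rw [← Nat.card_eq_fintype_card]; rfl
    rw [h0]
    have h1 : Cz.relIndex Nz ∣ (P : Subgroup G).index := by
      have e1 := Subgroup.relIndex_mul_relIndex (P : Subgroup G) Cz Nz hPC hCN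
      have e2 := Subgroup.relIndex_mul_index (le_trans hPC hCN)
      exact ⟨(P : Subgroup G).relIndex Cz * Nz.index, by rw [← e2, ← e1]; ring⟩
    obtain ⟨k, hk⟩ := IsPGroup.iff_card.mp P.2
    rw [hk]
    apply Nat.Coprime.pow_left
    rw [Nat.coprime_two_left]
    have h3 : ¬ 2 ∣ (P : Subgroup G).index := P.not_dvd_index
    rw [← Nat.not_even_iff_odd, even_iff_two_dvd]
    exact fun h => h3 (dvd_trans h h1)
  let F : (Nz ⧸ Cn) → ↥(P : Subgroup G) := fun q => ⟨f (q.out : Nz), hfP _ (q.out).2⟩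
  obtain ⟨z, hz⟩ := avg_abstract hodd F
  set t : ↥(P : Subgroup G) := (∏ q, F q) ^ z with ht
  refine ⟨(t : G), t.2, ?_⟩
  intro m hm
  -- conjugation by m as an endomorphism of P
  have hconjmem : ∀ x : ↥(P : Subgroup G), m⁻¹ * (x : G) * m ∈ (P : Subgroup G) := by
    intro x
    have hm' : m⁻¹ ∈ Nz := Subgroup.inv_mem _ hm
    have := (Subgroup.mem_normalizer_iff.mp hm' x).mp x.2
    rwa [inv_inv] at this
  let c : ↥(P : Subgroup G) →* ↥(P : Subgroup G) :=
    MonoidHom.mk' (fun x => ⟨m⁻¹ * (x : G) * m, hconjmem x⟩) (by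
      intro x y
      apply Subtype.ext
      simp only [Subgroup.coe_mul, mul_assoc, mul_inv_cancel_left])
  let m' : Nz := ⟨m, hm⟩
  have key := hz (Equiv.mulRight (m' : Nz ⧸ Cn)) c ⟨f m, hfP m hm⟩ (by
    intro q
    apply Subtype.ext
    show f ((q * (m' : Nz ⧸ Cn)).out : Nz) = m⁻¹ * f (q.out : Nz) * m * f m
    have h1 : ((q.out * m' : Nz) : Nz ⧸ Cn) = (((q * (m' : Nz ⧸ Cn)).out : Nz) : Nz ⧸ Cn) := by
      rw [QuotientGroup.mk_mul, QuotientGroup.out_eq', QuotientGroup.out_eq']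
    have h2 := QuotientGroup.eq.mp h1
    -- h2 : (q.out * m')⁻¹ * (q * m').out ∈ Cn
    have h3 : (((q.out * m' : Nz) : G))⁻¹ * (((q * (m' : Nz ⧸ Cn)).out : Nz) : G) ∈ Cz := by
      have := Subgroup.mem_subgroupOf.mp h2
      simpa using this
    have h4 : (((q * (m' : Nz ⧸ Cn)).out : Nz) : G)
        = ((q.out : Nz) : G) * m * ((((q.out * m' : Nz) : G))⁻¹
            * (((q * (m' : Nz ⧸ Cn)).out : Nz) : G)) := by
      simp only [Subgroup.coe_mul, m', mul_inv_cancel_left]
    rw [h4, hinv _ (Nz.mul_mem (q.out).2 hm) _ h3, hcoc _ (q.out).2 _ hm])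
  have key' := congrArg (fun x : ↥(P : Subgroup G) => (x : G)) key
  simp only [Subgroup.coe_mul, Subgroup.coe_inv] at key'
  rw [key']
  rfl

end Averaging


section Main

variable {G : Type*} [Group G] [Finite G]

/-- A 2-power-order automorphism fixing an abelian Sylow 2-subgroup pointwise, in a group with
trivial odd core, is inner (induced by an element of `P`). -/
theorem inner_of_fix_abelian_sylow (hcore : Cfsg.pPrimeCore 2 G = ⊥) (P : Sylow 2 G)
    (hab : IsMulCommutative (P : Subgroup G)) (α : MulAut G) (h2 : ∃ j : ℕ, orderOf α = 2 ^ j)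
    (hfix : ∀ x ∈ (P : Subgroup G), α x = x) :
    ∃ g ∈ (P : Subgroup G), ∀ x : G, α x = g * x * g⁻¹ := by
  classical
  obtain ⟨N, hNodd, hmem, hmul⟩ := exists_pow P hab
  -- elements of P have 2-power order, coprime to N
  have hPord : ∀ x ∈ (P : Subgroup G), ∃ k : ℕ, x ^ 2 ^ k = 1 := by
    intro x hx
    obtain ⟨k, hk⟩ := P.2 ⟨x, hx⟩
    exact ⟨k, by simpa using congrArg Subtype.val hk⟩
  have hcopN : ∀ x ∈ (P : Subgroup G), Nat.Coprime N (orderOf x) := by
    intro x hx
    obtain ⟨k, hk⟩ := hPord x hx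
    obtain ⟨j, -, hj⟩ := (Nat.dvd_prime_pow Nat.prime_two).mp (orderOf_dvd_of_pow_eq_one hk)
    rw [hj]
    apply Nat.Coprime.pow_right
    exact Nat.coprime_two_right.mpr hNodd
  have hpowN : ∀ x ∈ (P : Subgroup G), x ^ N = 1 → x = 1 := by
    intro x hx hxN
    have h1 : orderOf x ∣ N := orderOf_dvd_of_pow_eq_one hxN
    have h2 : orderOf x = 1 := Nat.eq_one_of_dvd_coprimes (hcopN x hx) h1 dvd_rfl
    exact orderOf_eq_one_iff.mp h2
  obtain ⟨s, hsP, hs⟩ := exists_coboundary P hab (Phi N α)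
    (fun n hn => Phi_mem P N hmem α hfix hn)
    (fun n hn m hm => Phi_cocycle P N hmem hmul α hfix hn hm)
    (fun n hn c hc => Phi_mul_cent P N hmem hmul α hfix hn hc)
  obtain ⟨e, he⟩ := exists_pow_eq_self_of_coprime (hcopN s hsP)
  set u : G := s ^ e with hu
  have huP : u ∈ (P : Subgroup G) := Subgroup.pow_mem _ hsP e
  have huN : u ^ N = s := by
    rw [hu, ← pow_mul, mul_comm, pow_mul]; exact he
  set β : MulAut G := α * MulAut.conj u with hβ
  have hfixc : ∀ x ∈ (P : Subgroup G), MulAut.conj u x = x := by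
    intro x hx
    haveI := hab
    rw [MulAut.conj_apply, setLike_mul_comm huP hx, mul_inv_cancel_right]
  have hfixβ : ∀ x ∈ (P : Subgroup G), β x = x := by
    intro x hx
    rw [hβ, MulAut.mul_apply, hfixc x hx, hfix x hx]
  have hΦβ : ∀ m ∈ Subgroup.normalizer ((P : Subgroup G) : Set G), Phi N β m = 1 := by
    intro m hm
    rw [hβ, Phi_mul P N hmem hmul α (MulAut.conj u) hfix hfixc hm, hs m hm,
      Phi_conj P N hmem hmul huP hab hm, huN]
    group
  -- β has 2-power order
  have hcomm : Commute α (MulAut.conj u) := by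
    ext x
    simp only [MulAut.mul_apply, MulAut.conj_apply, map_mul, map_inv, hfix u huP]
  obtain ⟨j, hj⟩ := h2
  obtain ⟨k, hk⟩ := hPord u huP
  have hβpow : β ^ (2 ^ (j + k)) = 1 := by
    rw [hβ, hcomm.mul_pow, pow_add, pow_mul, ← hj, pow_orderOf_eq_one, one_pow, one_mul,
      mul_comm (orderOf α) (2 ^ k), pow_mul, ← map_pow, hk, map_one, one_pow]
  obtain ⟨i, -, hi⟩ := (Nat.dvd_prime_pow Nat.prime_two).mp (orderOf_dvd_of_pow_eq_one hβpow)
  have hβ1 : β = 1 := by
    rcases Nat.eq_zero_or_pos i with h0 | hpos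
    · rw [h0, pow_zero] at hi
      exact orderOf_eq_one_iff.mp hi
    · exfalso
      obtain ⟨i', rfl⟩ : ∃ i', i = i' + 1 := ⟨i - 1, by omega⟩
      set β' : MulAut G := β ^ (2 ^ i') with hβ'
      have hβ'2 : β' ^ 2 = 1 := by
        rw [hβ', ← pow_mul, ← pow_succ, ← hi, pow_orderOf_eq_one]
      have hβ'ne : β' ≠ 1 := by
        intro h
        have h1 : orderOf β ∣ 2 ^ i' := orderOf_dvd_of_pow_eq_one h
        rw [hi] at h1
        have h2 := Nat.le_of_dvd (by positivity) h1
        have : 2 ^ i' < 2 ^ (i' + 1) := Nat.pow_lt_pow_right (by norm_num) (Nat.lt_succ_self _)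
        omega
      have hfixβ' : ∀ x ∈ (P : Subgroup G), β' x = x := fix_pow P β hfixβ _
      obtain ⟨g, hgP, hgne⟩ := exists_comm_mem_sylow hcore P β' hβ'2 hβ'ne hfixβ'
      obtain ⟨n, hn, hng⟩ := exists_normalizer_comm P hab β' hfixβ' g hgP
      have h1 : Phi N β' n = 1 := by
        rw [hβ', Phi_pow P N hmem hmul β hfixβ hn, hΦβ n hn, one_pow]
      have h2 : (g⁻¹ * β' g) ^ N = 1 := by
        rw [← hng]; exact h1
      exact hgne (hpowN _ hgP h2)
  refine ⟨u⁻¹, Subgroup.inv_mem _ huP, ?_⟩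
  intro x
  have h1 : α = (MulAut.conj u)⁻¹ := by
    rw [hβ] at hβ1
    exact mul_eq_one_iff_eq_inv.mp hβ1
  rw [h1, ← map_inv, MulAut.conj_apply]

end Main

end Cfsg.Agent.Lib.Helper73_AutSylow
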