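/-
s4613 market (architect helper68, statement S4613), package POO: `autU_pomega_odd`.
A `p'`-automorphism of `PΩ_{2m+1}(F)` (`m ≥ 3`, `|F|` odd, `char F = p`) fixing a Sylow `p`-subgroup elementwise is
trivial.  `autU_of_matgrp` (Helper68_AutUMat) with the root-subgroup data `ooRDat` (Helper68_StOo).  helper73.
-/
import Mathlib
import Cfsg.Agent.Lib.Helper68_AutUMat
import Cfsg.Agent.Lib.Helper68_StOo

set_option autoImplicit false
set_option linter.unusedSectionVars false
set_option linter.unusedVariables false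

namespace Cfsg.Agent.Lib.Helper73_AutU_POO

open Matrix Cfsg Cfsg.Agent.Lib.Helper68_MatGrp Cfsg.Agent.Lib.Helper68_StOoDefs
  Cfsg.Agent.Lib.Helper68_StOo Cfsg.Agent.Lib.Helper68_AutU

section prep

variable {m : ℕ} {F : Type*} [Field F]

/-! ### heights and swaps -/

theorem ht_swap (x y a : I m) : ht m (Equiv.swap x y a) =
    if ht m a = ht m x then ht m y else if ht m a = ht m y then ht m x else ht m a := by
  rw [Equiv.swap_apply_def]
  by_cases h1 : a = x
  · rw [if_pos h1, if_pos (by rw [h1])]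
  · rw [if_neg h1, if_neg (fun e => h1 (ht_injective m e))]
    by_cases h2 : a = y
    · rw [if_pos h2, if_pos (by rw [h2])]
    · rw [if_neg h2, if_neg (fun e => h2 (ht_injective m e))]

/-- the permutation of the `j`-th simple reflection -/
noncomputable def sg (m : ℕ) (j : Fin m) : Equiv.Perm (I m) :=
  if h : j.val + 1 < m then
    Equiv.swap (ie j) (ie ⟨j.val + 1, h⟩) * Equiv.swap (op (ie j)) (op (ie ⟨j.val + 1, h⟩))
  else Equiv.swap (ie j) (op (ie j))

theorem ht_swap_spec (x y a : I m) :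
    (ht m a = ht m x → ht m (Equiv.swap x y a) = ht m y) ∧
      (ht m a ≠ ht m x → ht m a = ht m y → ht m (Equiv.swap x y a) = ht m x) ∧
        (ht m a ≠ ht m x → ht m a ≠ ht m y → ht m (Equiv.swap x y a) = ht m a) := by
  rw [ht_swap]
  exact ⟨fun h => by rw [if_pos h], fun h h' => by rw [if_neg h, if_pos h'],
    fun h h' => by rw [if_neg h, if_neg h']⟩

theorem ht_sg_long (j : Fin m) (h : j.val + 1 < m) (a : I m) :
    ht m (sg m j a) =
      if ht m a = j.val then j.val + 1 else if ht m a = j.val + 1 then j.val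
      else if ht m a = 2 * m - j.val then 2 * m - (j.val + 1)
      else if ht m a = 2 * m - (j.val + 1) then 2 * m - j.val else ht m a := by
  have hla := ht_le a
  unfold sg
  rw [dif_pos h, Equiv.Perm.mul_apply]
  have s1 := ht_swap_spec (op (ie j)) (op (ie ⟨j.val + 1, h⟩)) a
  have s2 := ht_swap_spec (ie j) (ie ⟨j.val + 1, h⟩)
    (Equiv.swap (op (ie j)) (op (ie ⟨j.val + 1, h⟩)) a)
  simp only [op_ie, ht_ie, ht_jf] at s1 s2 ⊢
  split_ifs <;> omega

theorem ht_sg_short (j : Fin m) (h : ¬ j.val + 1 < m) (a : I m) :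
    ht m (sg m j a) =
      if ht m a = j.val then 2 * m - j.val else if ht m a = 2 * m - j.val then j.val else ht m a := by
  unfold sg
  rw [dif_neg h]
  have s1 := ht_swap_spec (ie j) (op (ie j)) a
  simp only [op_ie, ht_ie, ht_jf] at s1 ⊢
  split_ifs <;> omega

theorem isInv_long (j : Fin m) (h : j.val + 1 < m) (a b : I m) :
    IsInv (ht m) (sg m j) a b ↔
      (ht m a = j.val ∧ ht m b = j.val + 1) ∨
        (ht m a = 2 * m - (j.val + 1) ∧ ht m b = 2 * m - j.val) := by
  have hla := ht_le a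
  have hlb := ht_le b
  unfold IsInv
  rw [ht_sg_long j h a, ht_sg_long j h b]
  split_ifs <;> omega

theorem isInv_short (j : Fin m) (h : ¬ j.val + 1 < m) (a b : I m) :
    IsInv (ht m) (sg m j) a b ↔ (ht m a < ht m b ∧ m ≤ ht m a + 1 ∧ ht m b ≤ m + 1) := by
  have hla := ht_le a
  have hlb := ht_le b
  have hj := j.2
  unfold IsInv
  rw [ht_sg_short j h a, ht_sg_short j h b]
  split_ifs <;> omega

theorem invConvex_sg (j : Fin m) : InvConvex (ht m) (sg m j) := by
  intro a b hab c d hac hcd hdb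
  by_cases h : j.val + 1 < m
  · rw [isInv_long j h] at hab ⊢
    omega
  · rw [isInv_short j h] at hab ⊢
    omega

/-! ### entries of the root elements -/

theorem lxM_apply_self {a c : I m} (h : LxOK a c) (t : F) (d : I m) : lxM a c t d d = 1 := by
  unfold lxM
  have h1 : ¬ (a = d ∧ c = d) := fun e => h.2.2.1 (e.2.trans e.1.symm)
  have h2 : ¬ (op c = d ∧ op a = d) := fun e => h.2.2.1 (op_injective (e.1.trans e.2.symm))
  rw [Matrix.sub_apply, Matrix.add_apply, Matrix.one_apply_eq, Matrix.single_apply,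
    Matrix.single_apply, if_neg h1, if_neg h2]
  ring

theorem sxM_apply_self {a : I m} (ha : a ≠ z0) (t : F) (d : I m) : sxM a t d d = 1 := by
  unfold sxM
  have h1 : ¬ ((z0 : I m) = d ∧ op a = d) := fun e => ha (op_eq_z0_iff.mp (e.2.trans e.1.symm))
  have h2 : ¬ (a = d ∧ (z0 : I m) = d) := fun e => ha (e.1.trans e.2.symm)
  have h3 : ¬ (a = d ∧ op a = d) := fun e => ha (op_eq_self_iff.mp (e.2.trans e.1.symm))
  rw [Matrix.sub_apply, Matrix.sub_apply, Matrix.add_apply, Matrix.one_apply_eq,
    Matrix.single_apply, Matrix.single_apply, Matrix.single_apply, if_neg h1, if_neg h2, if_neg h3]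
  ring

/-- off-diagonal entries of a long root element -/
theorem lxM_apply_of_ne {a c : I m} (t : F) {d e : I m} (hde : d ≠ e)
    (h1 : ¬ (a = d ∧ c = e)) (h2 : ¬ (op c = d ∧ op a = e)) : lxM a c t d e = 0 := by
  unfold lxM
  rw [Matrix.sub_apply, Matrix.add_apply, Matrix.one_apply_ne hde, Matrix.single_apply,
    Matrix.single_apply, if_neg h1, if_neg h2]
  ring

/-- off-diagonal entries of a short root element -/
theorem sxM_apply_of_ne {a : I m} (t : F) {d e : I m} (hde : d ≠ e)
    (h1 : ¬ ((z0 : I m) = d ∧ op a = e)) (h2 : ¬ (a = d ∧ (z0 : I m) = e))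
    (h3 : ¬ (a = d ∧ op a = e)) : sxM a t d e = 0 := by
  unfold sxM
  rw [Matrix.sub_apply, Matrix.sub_apply, Matrix.add_apply, Matrix.one_apply_ne hde,
    Matrix.single_apply, Matrix.single_apply, Matrix.single_apply, if_neg h1, if_neg h2, if_neg h3]
  ring

section fin

variable [Fintype F] [NeZero (2 : F)]

theorem ss_isMono (j : Fin m) : IsMono (φ m F) (ss j) (sg m j) := by
  unfold sg
  split_ifs with h
  · rw [ss_of_lt j h]
    exact wl_isMono (lxOK_ie (succ_ne j h))
  · rw [ss_of_not_lt j h]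
    exact ws_isMono (ie_ne_z0 j)

theorem xs_mem_UU (j : Fin m) (t : F) : xs j t ∈ UU (φ m F) (ht m) (ht_injective m) := by
  refine ⟨xs_mem_Boo j t, fun a => ?_⟩
  by_cases h : j.val + 1 < m
  · rw [xs_of_lt j h, lx_val (lxOK_ie (succ_ne j h))]
    exact lxM_apply_self (lxOK_ie (succ_ne j h)) t a
  · rw [xs_of_not_lt j h, sx_val (ie_ne_z0 j)]
    exact sxM_apply_self (ie_ne_z0 j) t a

theorem sx_mem_UU (i : Fin m) (t : F) : sx (ie i) t ∈ UU (φ m F) (ht m) (ht_injective m) := by
  refine ⟨sx_mem_Boo i t, fun a => ?_⟩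
  rw [sx_val (ie_ne_z0 i)]
  exact sxM_apply_self (ie_ne_z0 i) t a

/-- the diagonal part of a triangular element of `Ω` lies in `Ω` -/
theorem hdiag_oo (b : GO m F) (hb : b ∈ UT (φ m F) (ht m)) :
    ∃ t ∈ Diag (φ m F), ∀ a, φ m F t a a = φ m F b a a := by
  have hbO : b.1 ∈ BO m F := hb
  obtain ⟨t₀, ht₀, hu⟩ := Cfsg.Agent.Lib.Helper54_StOo_CARDB.exists_diag hbO
  have hmem : t₀ ∈ Cfsg.Omega F (Cfsg.quadFormOdd m F) := by
    have e : t₀ = b.1 * (t₀⁻¹ * b.1)⁻¹ := by group
    rw [e]
    exact Subgroup.mul_mem _ b.2 (Subgroup.inv_mem _ (UO_le hu))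
  refine ⟨⟨t₀, hmem⟩, ht₀, fun a => ?_⟩
  have htU : t₀ ∈ BO m F := Diag_le_UT (φO m F) (ht m) ht₀
  have h1 := UT_mul_apply_self (φO m F) (ht m) (ht_injective m) ((BO m F).inv_mem htU) hbO a
  rw [hu.2 a] at h1
  have h2 := UT_mul_apply_self (φO m F) (ht m) (ht_injective m) ((BO m F).inv_mem htU) htU a
  rw [inv_mul_cancel, map_one, Matrix.one_apply_eq] at h2
  have hne : φO m F t₀⁻¹ a a ≠ 0 := left_ne_zero_of_mul_eq_one h2.symm
  exact mul_left_cancel₀ hne (h2.symm.trans h1)

/-- the root subgroups `X_j`, `j ≠ i`, vanish at the inversions of `s_i` -/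
theorem hX_oo (i j : Fin m) (hji : j ≠ i) (x : GO m F) (hx : x ∈ (Us j : Subgroup (GO m F)))
    (a b : I m) (hab : IsInv (ht m) (sg m i) a b) : φ m F x a b = 0 := by
  obtain ⟨t, rfl⟩ := hx
  have hne : a ≠ b := fun e => by rw [e] at hab; exact lt_irrefl _ hab.1
  have hi := i.2
  have hj := j.2
  have hij : j.val ≠ i.val := fun e => hji (Fin.ext e)
  by_cases h : j.val + 1 < m
  · rw [xs_of_lt j h, lx_val (lxOK_ie (succ_ne j h))]
    apply lxM_apply_of_ne t hne
    · rintro ⟨rfl, rfl⟩
      by_cases h' : i.val + 1 < m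
      · rw [isInv_long i h'] at hab
        simp only [ht_ie] at hab
        omega
      · rw [isInv_short i h'] at hab
        simp only [ht_ie] at hab
        omega
    · rintro ⟨rfl, rfl⟩
      by_cases h' : i.val + 1 < m
      · rw [isInv_long i h'] at hab
        simp only [op_ie, ht_jf] at hab
        omega
      · rw [isInv_short i h'] at hab
        simp only [op_ie, ht_jf] at hab
        omega
  · rw [xs_of_not_lt j h, sx_val (ie_ne_z0 j)]
    have h' : i.val + 1 < m := by omega
    rw [isInv_long i h'] at hab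
    apply sxM_apply_of_ne t hne
    · rintro ⟨rfl, rfl⟩
      simp only [op_ie, ht_jf, ht_z0] at hab
      omega
    · rintro ⟨rfl, rfl⟩
      simp only [ht_ie, ht_z0] at hab
      omega
    · rintro ⟨rfl, rfl⟩
      simp only [op_ie, ht_jf, ht_ie] at hab
      omega

/-- a diagonal element centralising the unitriangular subgroup has constant diagonal -/
theorem htorus_oo (t : GO m F) (ht' : t ∈ Diag (φ m F))
    (hc : ∀ u ∈ UU (φ m F) (ht m) (ht_injective m), t * u = u * t) (a b : I m) :
    φ m F t a a = φ m F t b b := by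
  have h2 : (2 : F) ≠ 0 := two_ne_zero
  have key : ∀ i : Fin m, φ m F t (ie i) (ie i) = φ m F t z0 z0 ∧
      φ m F t (jf i) (jf i) = φ m F t z0 z0 := by
    intro i
    have hu := sx_mem_UU (F := F) i 1
    have hcomm := hc _ hu
    have hv := sx_val (F := F) (ie_ne_z0 i) 1
    constructor
    · apply diag_eq_of_commute (φ m F) ht' hcomm (ie i) z0
      rw [hv]
      unfold sxM
      have e1 : ¬ ((z0 : I m) = ie i ∧ op (ie i) = z0) := fun e => ie_ne_z0 i e.1.symm
      have e3 : ¬ ((ie i : I m) = ie i ∧ op (ie i) = z0) := fun e => jf_ne_z0 i e.2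
      rw [Matrix.sub_apply, Matrix.sub_apply, Matrix.add_apply, Matrix.one_apply_ne (ie_ne_z0 i),
        Matrix.single_apply, Matrix.single_apply_same, Matrix.single_apply, if_neg e1, if_neg e3]
      intro e
      apply h2
      have : (2 : F) * 1 = 0 := by linear_combination -e
      rwa [mul_one] at this
    · symm
      apply diag_eq_of_commute (φ m F) ht' hcomm z0 (jf i)
      rw [hv]
      unfold sxM
      have e2 : ¬ ((ie i : I m) = z0 ∧ (z0 : I m) = jf i) := fun e => ie_ne_z0 i e.1
      have e3 : ¬ ((ie i : I m) = z0 ∧ op (ie i) = jf i) := fun e => ie_ne_z0 i e.1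
      rw [Matrix.sub_apply, Matrix.sub_apply, Matrix.add_apply,
        Matrix.one_apply_ne (fun e => jf_ne_z0 i e.symm), op_ie, Matrix.single_apply_same,
        Matrix.single_apply, Matrix.single_apply, if_neg e2, if_neg (by rw [op_ie] at e3; exact e3)]
      intro e
      apply one_ne_zero (α := F)
      linear_combination e
  have all : ∀ a : I m, φ m F t a a = φ m F t z0 z0 := by
    intro a
    rcases index_cases a with rfl | ⟨i, rfl⟩ | ⟨i, rfl⟩
    · rfl
    · exact (key i).1
    · exact (key i).2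
  rw [all a, all b]

end fin

end prep

/-- **POO**: a `p'`-automorphism of `PΩ_{2m+1}(F)` fixing a Sylow `p`-subgroup elementwise is trivial. -/
theorem autU_pomega_odd {F : Type} [Field F] [Fintype F] {p : ℕ} [Fact p.Prime] [CharP F p] (m : ℕ)
    (hm : 3 ≤ m) (hodd : Odd (Fintype.card F)) :
    AutUTrivial p (POmega F (quadFormOdd m F)) := by
  have h2 : (2 : F) ≠ 0 := by
    intro h2
    have hc : ringChar F = 2 :=
      CharP.ringChar_of_prime_eq_zero Nat.prime_two (by exact_mod_cast h2)
    have := FiniteField.even_card_of_char_two hc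
    rw [Nat.odd_iff] at hodd
    omega
  have : NeZero (2 : F) := ⟨h2⟩
  have hfin : Finite (GO m F) := Subtype.finite
  obtain ⟨g₀, hg₀⟩ := exists_rev (m := m) (F := F)
  have hm2 : 2 ≤ m := by omega
  refine autU_of_matgrp (φ m F) φ_injective (ht m) (ht_injective m) (ooRDat (F := F) hm2) rfl
    Boo_inf_Noo hdiag_oo (not_dvd_card_Too p) ?_ (sg m) ss_isMono invConvex_sg ?_ htorus_oo
    g₀ opE hg₀ ?_
  · rintro j _ ⟨t, rfl⟩
    exact xs_mem_UU j t
  · intro i j hji x hx a b hab
    exact hX_oo i j hji x hx a b hab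
  · intro a c hac
    show ht m (op c) < ht m (op a)
    rw [ht_op, ht_op]
    have := ht_le a
    have := ht_le c
    omega

end Cfsg.Agent.Lib.Helper73_AutU_POO
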