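import Mathlib
import Cfsg.Prelude.Def_Classical
import Cfsg.Agent.Lib.Helper34_DG_Defs
import Cfsg.Agent.Lib.Helper5_SUOrder
import Cfsg.Agent.S0283

/-!
# Helper73_DG_CARD (S3670 package DG-CARD, architect helper34)

`|SU_3(3)| = 6048` and `SU_3(3)` is perfect (on helper61's model `F9`).
-/

set_option autoImplicit false

namespace Cfsg.Agent.Lib.Helper73_DG_CARD

open Matrix Cfsg Cfsg.Agent.Lib.Helper61_F9 Cfsg.Agent.Lib.Helper61_SU33Spec
open Cfsg.Agent.Lib.Helper34_DG_Defs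

theorem card_F9_sq : Fintype.card F9 = 3 ^ 2 := by rw [F9.card]; norm_num

theorem card_G9 : Nat.card G9 = 6048 := by
  have h := Cfsg.Agent.Lib.Helper5_SUOrder.card_SU (F := F9) (q := 3) card_F9_sq 3 (by norm_num)
  have h2 : (3 + 1) * Nat.card G9 = (3 + 1) * 6048 := by
    rw [h]
    decide
  exact Nat.eq_of_mul_eq_mul_left (by norm_num) h2

theorem perfect_G9 : commutator G9 = ⊤ :=
  Cfsg.Agent.S0283.su_perfect (F := F9) (q := 3) card_F9_sq 3 le_rfl (by norm_num)

theorem card_and_perfect : Nat.card G9 = 6048 ∧ commutator G9 = ⊤ := ⟨card_G9, perfect_G9⟩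

end Cfsg.Agent.Lib.Helper73_DG_CARD
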