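import Mathlib
import Cfsg.Prelude.Def_Classical
import Cfsg.Agent.Lib.Helper34_DG_Defs

/-!
# Helper73_DG_CENT (S3670 package DG-CENT, architect helper34)

Three centralizer bounds in `SU_3(3)` by `Helper34_DG_Defs.card_centralizer_le`.
-/

set_option autoImplicit false
set_option maxRecDepth 100000

namespace Cfsg.Agent.Lib.Helper73_DG_CENT

open Matrix Cfsg Cfsg.Agent.Lib.Helper61_F9 Cfsg.Agent.Lib.Helper61_SU33Spec
open Cfsg.Agent.Lib.Helper34_DG_Defs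

/-- Krylov vector for `m7`. -/
def v7 : Fin 3 → F9 := ![1, 0, 0]

/-- inverse of the Krylov matrix of `m7` at `v7` -/
def Binv7 : M3 := !![F9.mk 1 0, F9.mk 1 0, F9.mk 0 0; F9.mk 0 0, F9.mk 0 0, F9.mk 0 2; F9.mk 0 0, F9.mk 2 2, F9.mk 0 0]

theorem hB7 : mul3 (kry m7 v7) Binv7 = 1 := by decide +kernel

theorem hn7 : Fintype.card (Good m7) ≤ 7 := by decide +kernel

theorem card_centralizer_g7 : Nat.card (Subgroup.centralizer ({g7} : Set G9)) ≤ 7 :=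
  card_centralizer_le m7 m7_facts.1 m7_facts.2.1 v7 Binv7 hB7 7 hn7

/-- Krylov vector for `m8`. -/
def v8 : Fin 3 → F9 := ![F9.mk 0 0, F9.mk 0 1, F9.mk 0 1]

/-- inverse of the Krylov matrix of `m8` at `v8` -/
def Binv8 : M3 := !![F9.mk 1 1, F9.mk 2 1, F9.mk 1 1; F9.mk 0 2, F9.mk 0 0, F9.mk 0 0; F9.mk 2 1, F9.mk 2 2, F9.mk 1 1]

theorem hB8 : mul3 (kry m8 v8) Binv8 = 1 := by decide +kernel

theorem hn8 : Fintype.card (Good m8) ≤ 8 := by decide +kernel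

theorem card_centralizer_g8 : Nat.card (Subgroup.centralizer ({g8} : Set G9)) ≤ 8 :=
  card_centralizer_le m8 m8_facts.1 m8_facts.2.1 v8 Binv8 hB8 8 hn8

/-- an element of order `3` (class 3B) -/
def u3 : M3 := !![F9.mk 0 0, F9.mk 0 1, F9.mk 0 0; F9.mk 0 0, F9.mk 0 0, F9.mk 2 0; F9.mk 0 1, F9.mk 0 0, F9.mk 0 0]

/-- inverse of the Krylov matrix of `u3` at `v7` -/
def Binv3 : M3 := !![F9.mk 1 0, F9.mk 0 0, F9.mk 0 0; F9.mk 0 0, F9.mk 0 0, F9.mk 0 2; F9.mk 0 0, F9.mk 0 1, F9.mk 0 0]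

theorem u3_facts : det3 u3 = 1 ∧ Cols u3 ∧ mul3 (sq3 u3) u3 = 1 ∧ u3 ≠ 1 := by
  decide +kernel

theorem hB3 : mul3 (kry u3 v7) Binv3 = 1 := by decide +kernel

theorem hn3 : Fintype.card (Good u3) ≤ 9 := by decide +kernel

theorem orderOf_u3 : orderOf u3 = 3 := by
  obtain ⟨_, _, h2, h3⟩ := u3_facts
  simp only [sq3_eq, mul3_eq] at h2
  rw [← pow_succ] at h2
  have : Fact (Nat.Prime 3) := ⟨by norm_num⟩
  exact orderOf_eq_prime h2 h3

theorem exists_three : ∃ x : G9, orderOf x = 3 ∧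
    Nat.card (Subgroup.centralizer ({x} : Set G9)) ≤ 9 :=
  ⟨mkSU u3 u3_facts.1 u3_facts.2.1, by rw [orderOf_mkSU, orderOf_u3],
    card_centralizer_le u3 u3_facts.1 u3_facts.2.1 v7 Binv3 hB3 9 hn3⟩

end Cfsg.Agent.Lib.Helper73_DG_CENT
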