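import Mathlib
import Cfsg.Agent.Lib.Helper34_DG_Aff

/-!
# Helper73_DG_HG (S3670 package DG-HG, architect helper34)

`H6048 = Aff (F_8 x Z/18)` is solvable of order `6048`, and its ring has `42` units.
-/

set_option autoImplicit false

namespace Cfsg.Agent.Lib.Helper73_DG_HG

open Cfsg.Agent.Lib.Helper34_DG_Aff

theorem aff_solvable (R : Type*) [CommRing R] : Group.IsSolvable (Aff R) := by
  have h1 : Group.IsSolvable (Multiplicative R) := inferInstance
  have h2 : Group.IsSolvable Rˣ := inferInstance
  exact Group.isSolvable_of_ker_le_range (SemidirectProduct.inl : Multiplicative R →* Aff R)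
    (SemidirectProduct.rightHom : Aff R →* Rˣ)
    (le_of_eq SemidirectProduct.range_inl_eq_ker_rightHom.symm)

theorem card_aff (R : Type*) [CommRing R] : Nat.card (Aff R) = Nat.card R * Nat.card Rˣ := by
  rw [Nat.card_congr (SemidirectProduct.equivProd (φ := unitsAct R)), Nat.card_prod]
  rfl

theorem card_R144 : Nat.card R144 = 144 := by
  rw [Nat.card_prod, GaloisField.card 2 3 (by norm_num), Nat.card_eq_fintype_card, ZMod.card]
  norm_num

theorem card_units_R144 : Nat.card R144ˣ = 42 := by
  rw [Nat.card_congr (MulEquiv.prodUnits (M := GaloisField 2 3) (N := ZMod 18)).toEquiv,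
    Nat.card_prod]
  have h1 : Nat.card (GaloisField 2 3)ˣ = 7 := by
    have := Nat.card_units (GaloisField 2 3)
    rw [this, GaloisField.card 2 3 (by norm_num)]
    norm_num
  have h2 : Nat.card (ZMod 18)ˣ = 6 := by
    rw [Nat.card_eq_fintype_card, ZMod.card_units_eq_totient]
    decide
  rw [h1, h2]

theorem H6048_facts : Group.IsSolvable H6048 ∧ Nat.card H6048 = 6048 ∧ Nat.card R144ˣ = 42 := by
  refine ⟨aff_solvable R144, ?_, card_units_R144⟩
  rw [card_aff, card_R144, card_units_R144]

end Cfsg.Agent.Lib.Helper73_DG_HG
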