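import Mathlib
import Cfsg.Agent.Lib.Helper24_CoprimeAction
import Cfsg.Agent.Lib.Helper24_CoprimeHall
import Cfsg.Agent.Lib.Helper84_RelSylow
import Cfsg.Agent.Lib.Helper79_BG142
import Cfsg.Agent.Lib.Helper70_BG106

set_option autoImplicit false
set_option linter.unusedVariables false

/-!
# Group-theoretic lemmas for Bender–Glauberman 13.8 (the asymmetry lemma) (helper79)

* `commutator_mem_centralizer_of_isCyclic`: two elements normalizing a cyclic subgroup have a commutator
  that centralizes it.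
* `le_centralizer_of_cyclic_sylows`: a Frobenius-like group `Q P` (with `C_Q(P) = 1`) acting coprimely on a
  group `K` with cyclic Sylow subgroups: `Q` centralizes `K`.
* `exists_mul_centralizing`: coprime lifting of fixed points along a factorisation `c = i * a`.
* `exists_conj_le_normalizer`: in a solvable group whose `r`- and `s`-subgroups are cyclic, `s < r`, a subgroup of
  order `s` is conjugate into the normalizer of a given subgroup of order `r`.
-/

namespace Cfsg.Agent.Lib.Helper79_BG138a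

open Subgroup Cfsg.Agent.Lib.Helper24_CoprimeAction Cfsg.Agent.Lib.Helper24_CoprimeHall
  Cfsg.Agent.Lib.Helper84_RelSylow
open scoped commutatorElement

universe u

variable {G : Type u} [Group G]

/-- two elements normalizing a cyclic subgroup: `x⁻¹ e⁻¹ x e` centralizes it -/
theorem commutator_mem_centralizer_aux {T : Subgroup G} (hT : IsCyclic ↥T) {x e : G}
    (hx : x ∈ normalizer (T : Set G)) (he : e ∈ normalizer (T : Set G)) :
    x⁻¹ * e⁻¹ * x * e ∈ centralizer (T : Set G) := by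
  obtain ⟨g, hg⟩ := hT.exists_generator
  have hgen : ∀ t ∈ T, ∃ k : ℤ, t = (g : G) ^ k := by
    intro t ht
    obtain ⟨k, hk⟩ := Subgroup.mem_zpowers_iff.mp (hg ⟨t, ht⟩)
    exact ⟨k, by rw [← Subgroup.coe_zpow, hk]⟩
  have hxg : x * (g : G) * x⁻¹ ∈ T := (mem_normalizer_iff.mp hx _).mp g.2
  have heg : e * (g : G) * e⁻¹ ∈ T := (mem_normalizer_iff.mp he _).mp g.2
  obtain ⟨a, ha⟩ := hgen _ hxg
  obtain ⟨b, hb⟩ := hgen _ heg
  -- conjugation of powers
  have cpow : ∀ (y : G) (k : ℤ), y * (g : G) ^ k * y⁻¹ = (y * (g : G) * y⁻¹) ^ k := by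
    intro y k
    have := map_zpow (MulAut.conj y).toMonoidHom (g : G) k
    simpa [MulAut.conj_apply] using this
  have h1 : x * e * (g : G) * e⁻¹ * x⁻¹ = (g : G) ^ (a * b) := by
    calc x * e * (g : G) * e⁻¹ * x⁻¹ = x * (e * (g : G) * e⁻¹) * x⁻¹ := by group
      _ = x * (g : G) ^ b * x⁻¹ := by rw [hb]
      _ = (x * (g : G) * x⁻¹) ^ b := cpow x b
      _ = ((g : G) ^ a) ^ b := by rw [ha]
      _ = (g : G) ^ (a * b) := by rw [zpow_mul]
  have h2 : e * x * (g : G) * x⁻¹ * e⁻¹ = (g : G) ^ (a * b) := by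
    calc e * x * (g : G) * x⁻¹ * e⁻¹ = e * (x * (g : G) * x⁻¹) * e⁻¹ := by group
      _ = e * (g : G) ^ a * e⁻¹ := by rw [ha]
      _ = (e * (g : G) * e⁻¹) ^ a := cpow e a
      _ = ((g : G) ^ b) ^ a := by rw [hb]
      _ = (g : G) ^ (a * b) := by rw [← zpow_mul, mul_comm]
  have h4 : x * e * (g : G) * e⁻¹ * x⁻¹ = e * x * (g : G) * x⁻¹ * e⁻¹ := by rw [h1, h2]
  have h3 : (x⁻¹ * e⁻¹ * x * e) * (g : G) = (g : G) * (x⁻¹ * e⁻¹ * x * e) := by
    calc (x⁻¹ * e⁻¹ * x * e) * (g : G)
        = x⁻¹ * e⁻¹ * (x * e * (g : G) * e⁻¹ * x⁻¹) * (x * e) := by group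
      _ = x⁻¹ * e⁻¹ * (e * x * (g : G) * x⁻¹ * e⁻¹) * (x * e) := by rw [h4]
      _ = (g : G) * (x⁻¹ * e⁻¹ * x * e) := by group
  rw [mem_centralizer_iff]
  intro t ht
  obtain ⟨k, rfl⟩ := hgen t ht
  exact ((Commute.zpow_left (show Commute (g : G) (x⁻¹ * e⁻¹ * x * e) from h3.symm) k).eq)

/-- two elements normalizing a cyclic subgroup: their commutator centralizes it -/
theorem commutator_mem_centralizer_of_isCyclic {T : Subgroup G} (hT : IsCyclic ↥T) {x e : G}
    (hx : x ∈ normalizer (T : Set G)) (he : e ∈ normalizer (T : Set G)) :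
    ⁅x, e⁆ ∈ centralizer (T : Set G) := by
  have h := commutator_mem_centralizer_aux hT (inv_mem hx) (inv_mem he)
  rw [inv_inv, inv_inv] at h
  rw [commutatorElement_def]
  exact h

variable [Finite G]

/-- a coprime fixed-point-free action: `Q = [Q, P]` -/
theorem le_commutator_of_fpf (P Q : Subgroup G) (hPQ : P ≤ normalizer (Q : Set G))
    (hcop : (Nat.card ↥P).Coprime (Nat.card ↥Q))
    (hsolv : Group.IsSolvable ↥P ∨ Group.IsSolvable ↥Q)
    (hfix : Q ⊓ centralizer (P : Set G) = ⊥) : Q ≤ ⁅Q, P⁆ := by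
  intro k hk
  obtain ⟨d, hd, c, hc, rfl⟩ := coprime_decomp P Q hPQ hcop hsolv hk
  rw [hfix, mem_bot] at hc
  rw [hc, mul_one]
  exact hd

/-- `Q` centralizes every cyclic subgroup normalized by `Q` and `P` when `C_Q(P) = 1` (coprime action) -/
theorem le_centralizer_of_isCyclic (P Q T : Subgroup G) (hPQ : P ≤ normalizer (Q : Set G))
    (hcop : (Nat.card ↥P).Coprime (Nat.card ↥Q))
    (hsolv : Group.IsSolvable ↥P ∨ Group.IsSolvable ↥Q)
    (hfix : Q ⊓ centralizer (P : Set G) = ⊥) (hT : IsCyclic ↥T)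
    (hQT : Q ≤ normalizer (T : Set G)) (hPT : P ≤ normalizer (T : Set G)) :
    Q ≤ centralizer (T : Set G) := by
  refine (le_commutator_of_fpf P Q hPQ hcop hsolv hfix).trans ?_
  rw [Subgroup.commutator_le]
  intro x hx e he
  exact commutator_mem_centralizer_of_isCyclic hT (hQT hx) (hPT he)

omit [Finite G] in
/-- a subgroup of `K` containing a Sylow `t`-subgroup of `K` for every prime `t` is `K` -/
theorem eq_of_forall_sylow_le {S K : Subgroup G} (hSK : S ≤ K)
    (h : ∀ t : ℕ, t.Prime → t ∣ Nat.card ↥K → ∃ T : Subgroup G, IsSylowIn t T K ∧ T ≤ S) : S = K := by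
  apply le_antisymm hSK
  rw [← relIndex_eq_one]
  by_contra hne
  obtain ⟨t, ht, htd⟩ := Nat.exists_prime_and_dvd hne
  have htK : t ∣ Nat.card ↥K := htd.trans (Subgroup.relIndex_dvd_card S K)
  obtain ⟨T, hT, hTS⟩ := h t ht htK
  apply hT.not_dvd
  rw [← Subgroup.relIndex_mul_relIndex T S K hTS hSK]
  exact htd.mul_left _

/-- **A Frobenius-like group acting on a group with cyclic Sylow subgroups.** `P` normalizes `Q`,
`C_Q(P) = 1`, `Q P` acts coprimely on the solvable group `K` all of whose Sylow subgroups are cyclic: then `Q`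
centralizes `K`. -/
theorem le_centralizer_of_cyclic_sylows (P Q K : Subgroup G) (hPQ : P ≤ normalizer (Q : Set G))
    (hcopPQ : (Nat.card ↥P).Coprime (Nat.card ↥Q))
    (hsolvPQ : Group.IsSolvable ↥P ∨ Group.IsSolvable ↥Q)
    (hfix : Q ⊓ centralizer (P : Set G) = ⊥)
    (hQK : Q ≤ normalizer (K : Set G)) (hPK : P ≤ normalizer (K : Set G))
    (hcop : (Nat.card ↥(Q ⊔ P)).Coprime (Nat.card ↥K))
    (hsolv : Group.IsSolvable ↥(Q ⊔ P) ∨ Group.IsSolvable ↥K)
    (hcyc : ∀ (t : ℕ) (T : Subgroup G), t.Prime → T ≤ K → IsPGroup t ↥T → IsCyclic ↥T) :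
    K ≤ centralizer (Q : Set G) := by
  have hAK : Q ⊔ P ≤ normalizer (K : Set G) := sup_le hQK hPK
  have key : K ⊓ centralizer (Q : Set G) = K := by
    apply eq_of_forall_sylow_le inf_le_left
    intro t ht htK
    have : Fact t.Prime := ⟨ht⟩
    obtain ⟨T, hT⟩ := exists_invariant_sylow (Q ⊔ P) K hAK hcop hsolv t
    have hTs : IsSylowIn t (sylowImage T) K := isSylowIn_of_sylow T
    refine ⟨sylowImage T, hTs, le_inf hTs.le ?_⟩
    have hTc : IsCyclic ↥(sylowImage T) := hcyc t _ ht hTs.le hTs.isPGroup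
    have h1 := le_centralizer_of_isCyclic P Q (sylowImage T) hPQ hcopPQ hsolvPQ hfix hTc
      (le_sup_left.trans hT) (le_sup_right.trans hT)
    intro x hx
    rw [mem_centralizer_iff]
    intro y hy
    exact ((mem_centralizer_iff.mp (h1 hy)) x hx).symm
  rw [← key]
  exact inf_le_right

/-- all prime divisors equal to `r`: an `r`-group (type version) -/
theorem isPGroup_of_forall_prime_dvd {W : Type*} [Group W] [Finite W] {r : ℕ} (hr : r.Prime)
    (K : Subgroup W) (h : ∀ p : ℕ, p.Prime → p ∣ Nat.card ↥K → p = r) : IsPGroup r ↥K := by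
  have : Fact r.Prime := ⟨hr⟩
  have h0 : Nat.card ↥K ≠ 0 := Nat.card_pos.ne'
  have : Nat.card ↥K = r ^ (Nat.card ↥K).primeFactorsList.length := by
    apply Nat.eq_prime_pow_of_unique_prime_dvd h0
    intro p hp hd
    exact h p hp hd
  exact IsPGroup.of_card this

/-- a group of order `r ^ a * s ^ b`, `s < r`, with cyclic Sylow subgroups: every subgroup of order `r` is normal -/
theorem normal_of_card_prime_of_cyclic_sylows {W : Type*} [Group W] [Finite W] {r s : ℕ}
    [hr : Fact r.Prime] [hs : Fact s.Prime] (hlt : s < r)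
    (hW : ∀ p : ℕ, p.Prime → p ∣ Nat.card W → p = r ∨ p = s)
    (hcs : ∀ P : Sylow s W, IsCyclic ↥(P : Subgroup W)) (hcr : ∀ P : Sylow r W, IsCyclic ↥(P : Subgroup W))
    (R : Subgroup W) (hR : Nat.card ↥R = r) : R.Normal := by
  have hrp : r.Prime := hr.out
  have hsp : s.Prime := hs.out
  -- a normal Sylow `r`-subgroup `K`
  obtain ⟨K, hKn, hKr, hKi⟩ : ∃ K : Subgroup W, K.Normal ∧ IsPGroup r ↥K ∧ ¬ r ∣ K.index := by
    by_cases hsW : s ∣ Nat.card W
    · have hmin : (Nat.card W).minFac = s := by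
        have h1 : (Nat.card W).minFac ≤ s := Nat.minFac_le_of_dvd hsp.two_le hsW
        have hne : Nat.card W ≠ 1 := by
          intro h
          rw [h] at hsW
          exact hsp.one_lt.ne' (Nat.dvd_one.mp hsW)
        rcases hW _ (Nat.minFac_prime hne) (Nat.minFac_dvd _) with h | h
        · omega
        · exact h
      obtain ⟨P⟩ : Nonempty (Sylow s W) := inferInstance
      have hP : IsCyclic ↥P := hcs P
      have hcompl := IsCyclic.isComplement' hmin hP
      have hcard := hcompl.card_mul_card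
      set K := (MonoidHom.transferSylow P (hP.normalizer_le_centralizer hmin)).ker with hK
      have hKidx : K.index = Nat.card ↥(P : Subgroup W) := by
        have h1 := K.card_mul_index
        have h2 : Nat.card ↥K * K.index = Nat.card ↥K * Nat.card ↥(P : Subgroup W) := by
          rw [h1, hcard]
        exact Nat.eq_of_mul_eq_mul_left Nat.card_pos h2
      have hPidx : (P : Subgroup W).index = Nat.card ↥K := by
        have h1 := (P : Subgroup W).card_mul_index
        have h2 : Nat.card ↥(P : Subgroup W) * (P : Subgroup W).index =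
            Nat.card ↥(P : Subgroup W) * Nat.card ↥K := by
          rw [h1, ← hcard, mul_comm]
        exact Nat.eq_of_mul_eq_mul_left Nat.card_pos h2
      refine ⟨K, MonoidHom.normal_ker _, ?_, ?_⟩
      · apply isPGroup_of_forall_prime_dvd hrp
        intro p hp hd
        rcases hW p hp (hd.trans (Subgroup.card_subgroup_dvd_card K)) with h | h
        · exact h
        · exfalso
          apply P.not_dvd_index
          rw [hPidx, ← h]
          exact hd
      · rw [hKidx]
        obtain ⟨n, hn⟩ := IsPGroup.iff_card.mp P.isPGroup'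
        rw [hn]
        intro hd
        have := (Nat.prime_dvd_prime_iff_eq hrp hsp).mp (hrp.dvd_of_dvd_pow hd)
        omega
    · refine ⟨⊤, inferInstance, ?_, ?_⟩
      · apply isPGroup_of_forall_prime_dvd hrp
        intro p hp hd
        rw [Subgroup.card_top] at hd
        rcases hW p hp hd with h | h
        · exact h
        · exact absurd (h ▸ hd) hsW
      · rw [Subgroup.index_top]
        exact hrp.one_lt.ne' ∘ Nat.dvd_one.mp
  -- `K` is a Sylow subgroup, hence cyclic
  obtain ⟨Q, hQ⟩ := hKr.exists_le_sylow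
  have hQK : (Q : Subgroup W) ≤ K := by
    apply Cfsg.Agent.Lib.Helper70_BG106.le_of_coprime_index
    obtain ⟨n, hn⟩ := IsPGroup.iff_card.mp Q.isPGroup'
    rw [hn]
    exact Nat.Coprime.pow_left _ ((Nat.Prime.coprime_iff_not_dvd hrp).mpr hKi)
  have hKQ : K = (Q : Subgroup W) := Q.is_maximal' hKr hQK
  have hKc : IsCyclic ↥K := by rw [hKQ]; exact hcr Q
  have hRK : R ≤ K := by
    apply Cfsg.Agent.Lib.Helper70_BG106.le_of_coprime_index
    rw [hR]
    exact (Nat.Prime.coprime_iff_not_dvd hrp).mpr hKi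
  constructor
  intro n hn g
  have h1 : R.map (MulAut.conj g).toMonoidHom ≤ K := by
    rintro _ ⟨x, hx, rfl⟩
    exact hKn.conj_mem x (hRK hx) g
  have h2 : Nat.card ↥(R.map (MulAut.conj g).toMonoidHom) = Nat.card ↥R :=
    Subgroup.card_map_of_injective (MulAut.conj g).injective
  have h3 := Cfsg.Agent.Lib.Helper79_BG142.eq_of_le_isCyclic_of_card_eq hKc h1 hRK h2
  have h4 : g * n * g⁻¹ ∈ R.map (MulAut.conj g).toMonoidHom := ⟨n, hn, rfl⟩
  rw [h3] at h4
  exact h4


/-- in a solvable subgroup `C` whose `r`- and `s`-subgroups are cyclic, `s < r`: a subgroup of order `s` is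
`C`-conjugate into the normalizer of any given subgroup of order `r` -/
theorem exists_conj_le_normalizer {C R₀ Rs : Subgroup G} (hsolv : Group.IsSolvable ↥C) {r s : ℕ}
    [hr : Fact r.Prime] [hs : Fact s.Prime] (hlt : s < r) (hR₀ : R₀ ≤ C) (hRs : Rs ≤ C)
    (hcr₀ : Nat.card ↥R₀ = r) (hcs₀ : Nat.card ↥Rs = s)
    (hcr : ∀ T : Subgroup G, T ≤ C → IsPGroup r ↥T → IsCyclic ↥T)
    (hcs : ∀ T : Subgroup G, T ≤ C → IsPGroup s ↥T → IsCyclic ↥T) :
    ∃ c ∈ C, Rs.map (MulAut.conj c).toMonoidHom ≤ normalizer (R₀ : Set G) := by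
  have hrp : r.Prime := hr.out
  have hsp : s.Prime := hs.out
  obtain ⟨W, hW, hR₀W⟩ := exists_piHall_ge hsolv hR₀ (π := ({r, s} : Set ℕ)) (by
    intro p hp hd
    rw [hcr₀] at hd
    left
    exact (Nat.prime_dvd_prime_iff_eq hp hrp).mp hd)
  obtain ⟨W', hW', hRsW'⟩ := exists_piHall_ge hsolv hRs (π := ({r, s} : Set ℕ)) (by
    intro p hp hd
    rw [hcs₀] at hd
    right
    exact (Nat.prime_dvd_prime_iff_eq hp hsp).mp hd)
  obtain ⟨c, hc, hcW⟩ := piHall_conj hsolv hW' hW
  refine ⟨c, hc, ?_⟩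
  have h1 : Rs.map (MulAut.conj c).toMonoidHom ≤ W := by
    rw [← hcW]
    exact Subgroup.map_mono hRsW'
  refine h1.trans ?_
  have hWC : W ≤ C := hW.1
  have hn : (R₀.subgroupOf W).Normal := by
    apply normal_of_card_prime_of_cyclic_sylows hlt
    · intro p hp hd
      have := hW.2.1 p hp hd
      rcases this with h | h
      · exact Or.inl h
      · exact Or.inr h
    · intro P
      have h2 : IsCyclic ↥((P : Subgroup ↥W).map W.subtype) :=
        hcs _ ((Subgroup.map_subtype_le _).trans hWC)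
          (P.isPGroup'.map W.subtype)
      exact isCyclic_of_injective ((P : Subgroup ↥W).equivMapOfInjective W.subtype
        W.subtype_injective).toMonoidHom (MulEquiv.injective _)
    · intro P
      have h2 : IsCyclic ↥((P : Subgroup ↥W).map W.subtype) :=
        hcr _ ((Subgroup.map_subtype_le _).trans hWC)
          (P.isPGroup'.map W.subtype)
      exact isCyclic_of_injective ((P : Subgroup ↥W).equivMapOfInjective W.subtype
        W.subtype_injective).toMonoidHom (MulEquiv.injective _)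
    · rw [card_subgroupOf_of_le hR₀W, hcr₀]
  exact (Subgroup.normal_subgroupOf_iff_le_normalizer hR₀W).mp hn

/-- coprime lifting of fixed points along a factorisation: if `c = i * a` centralizes `P` with `i ∈ I`, `a ∈ N`,
`P ≤ I`, `P` normalizes `N` and `|P|` is prime to `|N ∩ I|`, then `i`, `a` can be chosen centralizing `P` -/
theorem exists_mul_centralizing (P I N : Subgroup G) (hPI : P ≤ I) (hPN : P ≤ normalizer (N : Set G))
    (hcop : (Nat.card ↥P).Coprime (Nat.card ↥(N ⊓ I : Subgroup G)))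
    (hsolv : Group.IsSolvable ↥P ∨ Group.IsSolvable ↥(N ⊓ I : Subgroup G))
    {c i a : G} (hc : c ∈ centralizer (P : Set G)) (hi : i ∈ I) (ha : a ∈ N) (hcia : c = i * a) :
    ∃ i' ∈ I ⊓ centralizer (P : Set G), ∃ a' ∈ N ⊓ centralizer (P : Set G), c = i' * a' := by
  have hPD : P ≤ normalizer ((N ⊓ I : Subgroup G) : Set G) :=
    (le_inf hPN (hPI.trans le_normalizer)).trans Subgroup.inf_normalizer_le_normalizer_inf
  have hfix : ∀ e ∈ P, i⁻¹ * (e * i * e⁻¹) ∈ (N ⊓ I : Subgroup G) := by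
    intro e he
    refine Subgroup.mem_inf.mpr ⟨?_, ?_⟩
    · have hce : e * c = c * e := (mem_centralizer_iff.mp hc e he)
      have h1 : i⁻¹ * (e * i * e⁻¹) = a * (e * a⁻¹ * e⁻¹) := by
        have h2 : e * (i * a) = (i * a) * e := by rw [← hcia]; exact hce
        calc i⁻¹ * (e * i * e⁻¹) = i⁻¹ * (e * (i * a)) * a⁻¹ * e⁻¹ := by group
          _ = i⁻¹ * ((i * a) * e) * a⁻¹ * e⁻¹ := by rw [h2]
          _ = a * (e * a⁻¹ * e⁻¹) := by group
      rw [h1]
      exact N.mul_mem ha ((mem_normalizer_iff.mp (hPN he) _).mp (N.inv_mem ha))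
    · exact I.mul_mem (I.inv_mem hi) (I.mul_mem (I.mul_mem (hPI he) hi) (I.inv_mem (hPI he)))
  obtain ⟨d, hd, hdc⟩ := exists_fixed_in_coset P (N ⊓ I) hPD hcop hsolv i hfix
  have hdN : d ∈ N := (Subgroup.mem_inf.mp hd).1
  have hdI : d ∈ I := (Subgroup.mem_inf.mp hd).2
  have hidc : i * d ∈ centralizer (P : Set G) := by
    rw [mem_centralizer_iff]
    intro e he
    exact hdc e he
  refine ⟨i * d, Subgroup.mem_inf.mpr ⟨I.mul_mem hi hdI, hidc⟩, d⁻¹ * a,
    Subgroup.mem_inf.mpr ⟨N.mul_mem (N.inv_mem hdN) ha, ?_⟩, by rw [hcia]; group⟩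
  have e1 : d⁻¹ * a = (i * d)⁻¹ * c := by rw [hcia]; group
  rw [e1]
  exact Subgroup.mul_mem _ (Subgroup.inv_mem _ hidc) hc


end Cfsg.Agent.Lib.Helper79_BG138a
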