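import Mathlib
import Cfsg.Agent.Lib.Helper79_BG138a
import Cfsg.Agent.Lib.Helper49_BG1214
import Cfsg.Agent.Lib.Helper47_BG1214a
import Cfsg.Agent.Lib.Helper29_BG12a
import Cfsg.Agent.S1414
import Cfsg.Agent.S1408
import Cfsg.Agent.S1409
import Cfsg.Agent.S1423
import Cfsg.Agent.S1404

set_option autoImplicit false
set_option linter.unusedVariables false

/-!
# Bender–Glauberman 13.8: the one-sided analysis (helper79)

`M` maximal, `p ∈ τ₁(M)`, `P ≤ M` of order `p`, `Q` a Sylow `q`-subgroup of `M` normalized by `P` with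
`C_Q(P) = 1`, and `N_G(Q) ≤ M*` for a maximal subgroup `M* ≠ M`.  Then `M = N_M(Q) M_β`, `α(M) = β(M)`,
`M_α ≠ 1`, `C_{M_α}(P) ≠ 1`, `M_α ∩ M* = C_{M_α}(Q)` is centralized by `Q` and `P` acts on it without fixed points,
and `C_M(P) = C_{M ∩ M*}(P) C_{M_α}(P)`.
-/

namespace Cfsg.Agent.Lib.Helper79_BG138b

open Subgroup Cfsg Cfsg.Agent.Lib.Helper22_Radical Cfsg.Agent.Lib.Helper22_BGTrans
  Cfsg.Agent.Lib.Helper84_RelSylow Cfsg.Agent.Lib.Helper49_Sigma
  Cfsg.Agent.Lib.Helper24_CoprimeHall Cfsg.Agent.Lib.Helper24_CoprimeAction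
  Cfsg.Agent.Lib.Helper76_BG13a Cfsg.Agent.Lib.Helper76_BG13b Cfsg.Agent.Lib.Helper22_Uniq
  Cfsg.Agent.Lib.Helper79_BG138a Cfsg.Agent.Lib.Helper47_BG1214a
open scoped commutatorElement

universe u

variable {G : Type u} [Group G] [Finite G]

/-- a Sylow subgroup of `M ∩ M*` whose normalizer lies in `M*` is a Sylow subgroup of `M` -/
theorem isSylowIn_of_inf {q : ℕ} [hq : Fact q.Prime] {M Ms Q : Subgroup G}
    (hQ : IsSylowIn q Q (M ⊓ Ms)) (hNQ : normalizer (Q : Set G) ≤ Ms) : IsSylowIn q Q M := by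
  obtain ⟨Q₁, hQQ₁, hQ₁⟩ := exists_isSylowIn_ge (hQ.le.trans inf_le_left) hQ.isPGroup
  by_cases h : Q₁ ≤ Q
  · rwa [le_antisymm h hQQ₁] at hQ₁
  · exfalso
    apply normalizer_growth hq.out hQ₁.isPGroup hQQ₁ h
    have h1 : Q ≤ normalizer (Q : Set G) ⊓ Q₁ := le_inf le_normalizer hQQ₁
    have h2 : normalizer (Q : Set G) ⊓ Q₁ ≤ M ⊓ Ms :=
      le_inf (inf_le_right.trans hQ₁.le) (inf_le_left.trans hNQ)
    have h3 := hQ.eq_of_le h1 h2 (hQ₁.isPGroup.to_le inf_le_right)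
    exact h3.le

/-- the hypotheses of one side of the asymmetry lemma -/
structure Side (M Ms P Q : Subgroup G) (p q : ℕ) : Prop where
  hM : IsCoatom M
  hMs : IsCoatom Ms
  hnc : ∀ g : G, Ms ≠ cj g M
  hp : p ∈ tau1 M
  hP : Nat.card ↥P = p
  hPM : P ≤ M
  hPMs : P ≤ Ms
  hpq : p ≠ q
  hQ : IsSylowIn q Q M
  hQ1 : Q ≠ ⊥
  hPQ : P ≤ normalizer (Q : Set G)
  hfix : Q ⊓ centralizer (P : Set G) = ⊥
  hNQ : normalizer (Q : Set G) ≤ Ms

namespace Side

variable {M Ms P Q : Subgroup G} {p q : ℕ}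

theorem hne (S : Side M Ms P Q p q) : Ms ≠ M := by
  intro h
  apply S.hnc 1
  rw [cj_one', h]

theorem hQMs (S : Side M Ms P Q p q) : Q ≤ Ms := le_normalizer.trans S.hNQ

theorem hcopPQ [hp : Fact p.Prime] [hq : Fact q.Prime] (S : Side M Ms P Q p q) :
    (Nat.card ↥P).Coprime (Nat.card ↥Q) := by
  obtain ⟨n, hn⟩ := IsPGroup.iff_card.mp S.hQ.isPGroup
  rw [S.hP, hn]
  exact Nat.Coprime.pow_right _ ((Nat.coprime_primes hp.out hq.out).mpr S.hpq)

theorem hsolvP (hG : IsMinSimpleOddOrder G) (S : Side M Ms P Q p q) : Group.IsSolvable ↥P :=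
  isSolvable_of_le hG S.hM S.hPM

/-- `Q ≤ M'` -/
theorem le_commutator (hG : IsMinSimpleOddOrder G) [Fact p.Prime] [Fact q.Prime]
    (S : Side M Ms P Q p q) : Q ≤ ⁅M, M⁆ :=
  (le_commutator_of_fpf P Q S.hPQ S.hcopPQ (Or.inl (S.hsolvP hG)) S.hfix).trans
    (Subgroup.commutator_mono S.hQ.le S.hPM)

/-- `q ∉ α(M)` -/
theorem not_mem_alpha (hG : IsMinSimpleOddOrder G) [Fact p.Prime] [Fact q.Prime]
    (S : Side M Ms P Q p q) : q ∉ alpha M := by
  intro hqα
  have h3 : ¬ PRankLE q 2 ↥Q := fun h => hqα.2 (pRankLE_of_sylow S.hQ h)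
  have hU := Cfsg.Agent.Lib.Helper49_BG1214.inUniqueMaximal_of_not_pRankLE hG S.hM S.hQ.le h3
  obtain ⟨M₀, -, huniq⟩ := hU
  have e1 := huniq M ⟨S.hM, S.hQ.le⟩
  have e2 := huniq Ms ⟨S.hMs, S.hQMs⟩
  exact S.hne (e2.trans e1.symm)

end Side

/-- **Frattini argument modulo `M_β`**: a Sylow `q`-subgroup `Q` of `M` inside `M'`, `q ∉ β(M)`: `M = M_β N_M(Q)` -/
theorem frattini_beta (hG : IsMinSimpleOddOrder G) {M : Subgroup G} (hM : IsCoatom M) {q : ℕ}
    [hq : Fact q.Prime] {Q : Subgroup G} (hQ : IsSylowIn q Q M) (hQd : Q ≤ ⁅M, M⁆)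
    (hqβ : q ∉ beta M) : M ≤ piCoreOf (beta M) M ⊔ (M ⊓ normalizer (Q : Set G)) := by
  have hqq : q.Prime := hq.out
  obtain ⟨hB, -, ⟨H, hH, hHnil⟩, -, -⟩ := Cfsg.Agent.S1414.result hG M hM
  have hDM : ⁅M, M⁆ ≤ M := Subgroup.commutator_le.mpr fun a ha b hb =>
    M.mul_mem (M.mul_mem (M.mul_mem ha hb) (M.inv_mem ha)) (M.inv_mem hb)
  have hMD : M ≤ normalizer ((⁅M, M⁆ : Subgroup G) : Set G) := fun m hm =>
    mem_normalizer_commutator M M (le_normalizer hm) (le_normalizer hm)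
  have hsolvM : Group.IsSolvable ↥M := isSolvable_of_isCoatom hG hM
  have hsolvD : Group.IsSolvable ↥(⁅M, M⁆ : Subgroup G) := isSolvable_of_le hG hM hDM
  have hH' := (isPiHallOf_iff _ H ⁅M, M⁆).mp hH
  -- a nilpotent Hall subgroup `H₁` of `M'` containing `Q`
  obtain ⟨H₁, hH₁, hQH₁⟩ := exists_piHall_ge hsolvD hQd (π := {t | t.Prime ∧ t ∉ beta M}) (by
    intro t ht hd
    rw [prime_eq_of_dvd_card_pgroup hQ.isPGroup ht hd]
    exact ⟨hqq, hqβ⟩)
  obtain ⟨g, -, hgH⟩ := piHall_conj hsolvD hH' hH₁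
  have hH₁nil : Group.IsNilpotent ↥H₁ := by
    rw [← hgH]
    exact isNilpotent_cj hHnil g
  have hH₁M : H₁ ≤ M := hH₁.1.trans hDM
  have hQH : IsSylowIn q Q H₁ := hQ.mono hQH₁ hH₁M
  have hH₁N : H₁ ≤ normalizer (Q : Set G) := le_normalizer_of_isSylowIn_of_isNilpotent hQH hH₁nil
  -- a complement `E` of `M_β` in `M` containing `H₁`
  obtain ⟨E, hE, hH₁E⟩ := exists_compl_ge hsolvM hB hH₁M (by
    intro t ht hd
    exact (hH₁.2.1 t ht hd).2)
  have hEhall := piHall_of_isComplIn hB hE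
  -- `E ∩ M' = H₁`
  have hEM : E ≤ M := hE.1
  have hinf : E ⊓ ⁅M, M⁆ = H₁ := by
    symm
    apply Subgroup.eq_of_le_of_card_ge (le_inf hH₁E hH₁.1)
    apply Nat.le_of_dvd Nat.card_pos
    apply hH₁.card_dvd inf_le_right
    intro t ht hd
    have h1 : t ∣ Nat.card ↥E := hd.trans (Subgroup.card_dvd_of_le inf_le_left)
    exact ⟨ht, hEhall.2.1 t ht h1⟩
  have hEN : E ≤ normalizer (H₁ : Set G) := by
    rw [← hinf]
    exact (le_inf le_normalizer (hEM.trans hMD)).trans Subgroup.inf_normalizer_le_normalizer_inf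
  have hENQ : E ≤ normalizer (Q : Set G) := by
    intro e he
    obtain ⟨k, hk, hke⟩ := frattini_isSylowIn hQH (hEN he)
    have : e = k⁻¹ * (k * e) := by group
    rw [this]
    exact Subgroup.mul_mem _ (Subgroup.inv_mem _ (hH₁N hk)) hke
  intro m hm
  obtain ⟨e, he, b, hb, rfl⟩ := hE.2.2.2 m hm
  exact Subgroup.mul_mem _ (mem_sup_right (Subgroup.mem_inf.mpr ⟨hEM he, hENQ he⟩)) (mem_sup_left hb)

theorem betaCore_le_alphaCore (M : Subgroup G) : piCoreOf (beta M) M ≤ alphaCore M := by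
  apply Subgroup.map_mono
  apply Cfsg.Agent.Lib.Helper32_Cores.le_piCore inferInstance
  intro t ht hd
  exact (Cfsg.Agent.Lib.Helper32_Cores.card_piCore (beta M) t ht hd).1

namespace Side

variable {M Ms P Q : Subgroup G} {p q : ℕ}

/-- `M = M_β (M ∩ M*)` -/
theorem le_sup_beta (hG : IsMinSimpleOddOrder G) [Fact p.Prime] [Fact q.Prime]
    (S : Side M Ms P Q p q) : M ≤ piCoreOf (beta M) M ⊔ (Ms ⊓ M) := by
  have h := frattini_beta hG S.hM S.hQ (S.le_commutator hG) (fun h => S.not_mem_alpha hG h.1)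
  refine h.trans (sup_le_sup_left ?_ _)
  exact le_inf (inf_le_right.trans S.hNQ) inf_le_left

/-- `α(M) = β(M)` -/
theorem mem_beta_of_mem_alpha (hG : IsMinSimpleOddOrder G) [Fact p.Prime] [Fact q.Prime]
    (S : Side M Ms P Q p q) {t : ℕ} (ht : t ∈ alpha M) : t ∈ beta M := by
  by_contra htβ
  have htt : t.Prime := ht.1
  have : Fact t.Prime := ⟨htt⟩
  obtain ⟨D, hDle, hD⟩ := exists_piHall_le_of_le_sup hG S.hMs (beta M) (le_sup_beta hG S)
  have hDM : D ≤ M := hDle.trans inf_le_right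
  obtain ⟨T₀⟩ : Nonempty (Sylow t ↥D) := inferInstance
  have hT : IsSylowIn t ((T₀ : Subgroup ↥D).map D.subtype) D := isSylowIn_of_sylow T₀
  set T := (T₀ : Subgroup ↥D).map D.subtype with hTdef
  have hTM : IsSylowIn t T M := by
    refine ⟨hT.le.trans hDM, hT.isPGroup, ?_⟩
    rw [← Subgroup.relIndex_mul_relIndex T D M hT.le hDM]
    intro hd
    rcases (Nat.Prime.dvd_mul htt).mp hd with h | h
    · exact hT.not_dvd h
    · rw [relIndex_eq_div hDM] at h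
      exact hD.2.2 t htt ⟨htt, htβ⟩ h
  have h3 : ¬ PRankLE t 2 ↥T := fun h => ht.2 (pRankLE_of_sylow hTM h)
  have hU := Cfsg.Agent.Lib.Helper49_BG1214.inUniqueMaximal_of_not_pRankLE hG S.hM hTM.le h3
  obtain ⟨M₀, -, huniq⟩ := hU
  have e1 := huniq M ⟨S.hM, hTM.le⟩
  have e2 := huniq Ms ⟨S.hMs, hT.le.trans (hDle.trans inf_le_left)⟩
  exact S.hne (e2.trans e1.symm)

/-- `M = M_α (M ∩ M*)` -/
theorem le_sup_alpha (hG : IsMinSimpleOddOrder G) [Fact p.Prime] [Fact q.Prime]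
    (S : Side M Ms P Q p q) : M ≤ alphaCore M ⊔ (Ms ⊓ M) :=
  (le_sup_beta hG S).trans (sup_le_sup_right (betaCore_le_alphaCore M) _)

/-- `M_α ≠ 1` -/
theorem alphaCore_ne_bot (hG : IsMinSimpleOddOrder G) [Fact p.Prime] [Fact q.Prime]
    (S : Side M Ms P Q p q) : alphaCore M ≠ ⊥ := by
  intro h
  have h1 := le_sup_alpha hG S
  rw [h, bot_sup_eq] at h1
  have h2 : M ≤ Ms := h1.trans inf_le_left
  rcases eq_or_lt_of_le h2 with h3 | h3
  · exact S.hne h3.symm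
  · exact S.hMs.1 (S.hM.2 Ms h3)

/-- the two conclusions of `cent_alpha_reg` -/
theorem cent (hG : IsMinSimpleOddOrder G) [Fact p.Prime] [Fact q.Prime]
    (S : Side M Ms P Q p q) :
    alphaCore M ⊓ centralizer (P : Set G) ≠ ⊥ ∧
      alphaCore M ⊓ centralizer (Q : Set G) ⊓ centralizer (P : Set G) = ⊥ := by
  apply Cfsg.Agent.Lib.Helper49_BG1214.cent_alpha_reg hG S.hM S.hp S.hPM S.hP S.hQ.isPGroup S.hQ1
    S.hQ.le S.hPQ S.hfix (S.not_mem_alpha hG) (alphaCore_ne_bot hG S)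
  rintro ⟨h1, h2⟩
  exact S.hne (h2 Ms S.hMs S.hNQ)

end Side

/-- an ideal prime `t` outside `σ(H)`: the `t`-subgroups of the maximal subgroup `H` are cyclic -/
theorem isCyclic_of_ideal_of_not_mem_sigma (hG : IsMinSimpleOddOrder G) {H : Subgroup G} (hH : IsCoatom H)
    {t : ℕ} [ht : Fact t.Prime] (hid : IsIdealPrime t G) (htσ : t ∉ sigma H) {T : Subgroup G}
    (hTH : T ≤ H) (hT : IsPGroup t ↥T) : IsCyclic ↥T := by
  have htt : t.Prime := ht.out
  have hU := Cfsg.Agent.Lib.Helper49_SigmaDisjoint.uniqHyp hG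
  have hr2 : PRankLE t 2 ↥H := Cfsg.Agent.Lib.Helper23_SigmaHall.pRankLE_of_not_mem_sigma hG hU hH htt htσ
  have hr1 : PRankLE t 1 ↥H := by
    by_contra hr1
    exact (Cfsg.Agent.S1408.result hG H hH t htσ hr2 hr1).1 hid
  have ht2 : t ≠ 2 := by
    rintro rfl
    have hd : 2 ∣ Nat.card G := hid.1.two_le |> fun _ => by
      by_contra hnd
      -- `G` has `2`-rank at least three, so `2 ∣ |G|`
      apply hid.2.1
      intro A hAc hAe
      have hA1 : Nat.card ↥A = 1 := by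
        by_contra hne
        obtain ⟨r, hr, hrd⟩ := Nat.exists_prime_and_dvd hne
        haveI : Fact r.Prime := ⟨hr⟩
        obtain ⟨a, ha⟩ := exists_prime_orderOf_dvd_card' r hrd
        have h1 : (a : G) ^ 2 = 1 := hAe a a.2
        have h2 : orderOf (a : G) ∣ 2 := orderOf_dvd_of_pow_eq_one h1
        rw [Subgroup.orderOf_coe, ha] at h2
        have h3 : r = 2 := (Nat.prime_dvd_prime_iff_eq hr Nat.prime_two).mp h2
        apply hnd
        rw [← h3]
        exact hrd.trans (Subgroup.card_subgroup_dvd_card A)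
      rw [hA1]
      norm_num
    have hodd : Odd (Nat.card G) := hG.1
    rw [Nat.odd_iff] at hodd
    omega
  have hrT : PRankLE t 1 ↥T :=
    Cfsg.Agent.Lib.Helper2_PRank.pRankLE_of_injective' t 1 (Subgroup.inclusion hTH)
      (Subgroup.inclusion_injective hTH) hr1
  exact Cfsg.Agent.Lib.Helper29_BG12a.isCyclic_of_pRankLE_one ht2 hT hrT

namespace Side

variable {M Ms P Q : Subgroup G} {p q : ℕ}

/-- `M_α ∩ M*` is centralized by `Q` -/
theorem alphaCore_inf_le_centralizer (hG : IsMinSimpleOddOrder G) [hpF : Fact p.Prime] [hqF : Fact q.Prime]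
    (S : Side M Ms P Q p q) : alphaCore M ⊓ Ms ≤ centralizer (Q : Set G) := by
  have hpp : p.Prime := hpF.out
  have hqq : q.Prime := hqF.out
  have hhall := alpha_hall hG S.hM
  have hMαn : M ≤ normalizer ((alphaCore M : Subgroup G) : Set G) := le_normalizer_alphaCore M
  have hJn : M ⊓ Ms ≤ normalizer ((alphaCore M ⊓ Ms : Subgroup G) : Set G) :=
    (le_inf (inf_le_left.trans hMαn) (inf_le_right.trans le_normalizer)).trans
      Subgroup.inf_normalizer_le_normalizer_inf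
  have hQP : Q ⊓ P = ⊥ := by
    apply (Subgroup.disjoint_of_coprime_natCard ?_).eq_bot
    exact S.hcopPQ.symm
  have hcardΓ : Nat.card ↥(Q ⊔ P) = Nat.card ↥Q * Nat.card ↥P := card_sup_of_disjoint' P Q S.hPQ hQP
  have hpα : p ∉ alpha M := fun h =>
    h.2 (pRankLE_mono hpp (by norm_num) S.hp.2.2.2.2)
  have hqα := S.not_mem_alpha hG
  have hcop : (Nat.card ↥(Q ⊔ P)).Coprime (Nat.card ↥(alphaCore M ⊓ Ms : Subgroup G)) := by
    apply Nat.coprime_of_dvd
    intro k hk hkΓ hkK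
    have hkα : k ∈ alpha M := hhall.2.1 k hk (hkK.trans (Subgroup.card_dvd_of_le inf_le_left))
    rw [hcardΓ, S.hP] at hkΓ
    rcases (Nat.Prime.dvd_mul hk).mp hkΓ with h | h
    · have := primes_of_isPGroup hqq S.hQ.isPGroup k hk h
      rw [Set.mem_singleton_iff] at this
      exact hqα (this ▸ hkα)
    · have := (Nat.prime_dvd_prime_iff_eq hk hpp).mp h
      exact hpα (this ▸ hkα)
  have hsolvJ : Group.IsSolvable ↥(alphaCore M ⊓ Ms : Subgroup G) :=
    isSolvable_of_le hG S.hM (inf_le_left.trans hhall.1)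
  apply le_centralizer_of_cyclic_sylows P Q (alphaCore M ⊓ Ms) S.hPQ S.hcopPQ (Or.inl (S.hsolvP hG))
    S.hfix ((le_inf S.hQ.le S.hQMs).trans hJn) ((le_inf S.hPM S.hPMs).trans hJn) hcop (Or.inr hsolvJ)
  intro t T ht hTJ hT
  by_cases hT1 : T = ⊥
  · rw [hT1]
    exact isCyclic_of_subsingleton
  · have : Fact t.Prime := ⟨ht⟩
    have htd : t ∣ Nat.card ↥T := dvd_card_of_isPGroup hT hT1
    have htα : t ∈ alpha M :=
      hhall.2.1 t ht (htd.trans (Subgroup.card_dvd_of_le (hTJ.trans inf_le_left)))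
    have htβ := Side.mem_beta_of_mem_alpha hG S htα
    have htσ : t ∉ sigma Ms := fun h =>
      Cfsg.Agent.Lib.Helper49_SigmaDisjoint.alpha_inter_sigma hG S.hM S.hMs S.hnc htα h
    exact isCyclic_of_ideal_of_not_mem_sigma hG S.hMs htβ.2 htσ (hTJ.trans inf_le_right) hT

/-- `P` acts without fixed points on `M_α ∩ M*` -/
theorem alphaCore_inf_inf_centralizer (hG : IsMinSimpleOddOrder G) [Fact p.Prime] [Fact q.Prime]
    (S : Side M Ms P Q p q) : alphaCore M ⊓ Ms ⊓ centralizer (P : Set G) = ⊥ := by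
  rw [eq_bot_iff, ← (Side.cent hG S).2]
  exact le_inf (le_inf (inf_le_left.trans inf_le_left) (inf_le_left.trans (alphaCore_inf_le_centralizer hG S)))
    inf_le_right

end Side

namespace Side

variable {M Ms P Q : Subgroup G} {p q : ℕ}

/-- `C_M(P) = C_{M ∩ M*}(P) C_{M_α}(P)` -/
theorem centralizer_decomp (hG : IsMinSimpleOddOrder G) [hpF : Fact p.Prime] [Fact q.Prime]
    (S : Side M Ms P Q p q) {c : G} (hcM : c ∈ M) (hc : c ∈ centralizer (P : Set G)) :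
    ∃ i ∈ (Ms ⊓ M) ⊓ centralizer (P : Set G), ∃ a ∈ alphaCore M ⊓ centralizer (P : Set G),
      c = i * a := by
  have hpp : p.Prime := hpF.out
  have hhall := alpha_hall hG S.hM
  have hMαn : M ≤ normalizer ((alphaCore M : Subgroup G) : Set G) := le_normalizer_alphaCore M
  have h1 : c⁻¹ ∈ alphaCore M ⊔ (Ms ⊓ M) := Side.le_sup_alpha hG S (M.inv_mem hcM)
  obtain ⟨k, hk, i, hi, e⟩ := exists_mul_of_mem_sup (Ms ⊓ M) (alphaCore M)
    (inf_le_right.trans hMαn) h1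
  have e' : c = i⁻¹ * k⁻¹ := by
    rw [← inv_inv c, e]
    group
  have hpα : p ∉ alpha M := fun h =>
    h.2 (pRankLE_mono hpp (by norm_num) S.hp.2.2.2.2)
  have hcop : (Nat.card ↥P).Coprime (Nat.card ↥(alphaCore M ⊓ (Ms ⊓ M) : Subgroup G)) := by
    rw [S.hP]
    apply (Nat.Prime.coprime_iff_not_dvd hpp).mpr
    intro hd
    exact hpα (hhall.2.1 p hpp (hd.trans (Subgroup.card_dvd_of_le inf_le_left)))
  exact exists_mul_centralizing P (Ms ⊓ M) (alphaCore M) (le_inf S.hPMs S.hPM) (S.hPM.trans hMαn)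
    hcop (Or.inl (S.hsolvP hG)) hc (Subgroup.inv_mem _ hi) (Subgroup.inv_mem _ hk) e'

/-- subgroups of prime order of `C_{M_α}(P)`: their normalizer lies in `M`, and they are conjugate into
`M` only by elements of `M` -/
theorem prime_sub (hG : IsMinSimpleOddOrder G) [Fact p.Prime] [Fact q.Prime]
    (S : Side M Ms P Q p q) {R₀ : Subgroup G} {r : ℕ} [hrF : Fact r.Prime]
    (hR₀ : R₀ ≤ alphaCore M) (hr : Nat.card ↥R₀ = r) :
    r ∈ beta M ∧ normalizer (R₀ : Set G) ≤ M ∧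
      (∀ L : Subgroup G, IsCoatom L → centralizer (R₀ : Set G) ≤ L → L = M) ∧
      ∀ g : G, cj g R₀ ≤ M → g ∈ M := by
  have hrr : r.Prime := hrF.out
  have hU := Cfsg.Agent.Lib.Helper49_SigmaDisjoint.uniqHyp hG
  have hhall := alpha_hall hG S.hM
  have hrα : r ∈ alpha M := hhall.2.1 r hrr (hr ▸ Subgroup.card_dvd_of_le hR₀)
  have hrβ := Side.mem_beta_of_mem_alpha hG S hrα
  have hrσ : r ∈ sigma M := Cfsg.Agent.Lib.Helper49_Alpha.mem_sigma_of_mem_alpha hG hU S.hM hrα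
  have hR₀M : R₀ ≤ M := hR₀.trans hhall.1
  obtain ⟨S₀⟩ : Nonempty (Sylow r ↥(sigmaCore M)) := inferInstance
  obtain ⟨⟨hC, huniq⟩, -, -⟩ := Cfsg.Agent.S1423.result hG M S.hM r hrσ R₀ hR₀M hr S₀ (Or.inl hrβ)
  have hR1 : R₀ ≠ ⊥ := by
    rintro rfl
    rw [Subgroup.card_bot] at hr
    exact hrr.one_lt.ne hr
  have hRtop : R₀ ≠ ⊤ := ne_top_of_le_ne_top S.hM.1 hR₀M
  have hN : normalizer (R₀ : Set G) ≤ M := by
    have hNtop := normalizer_ne_top hG hR1 hRtop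
    obtain ⟨L, hL, hNL⟩ := (eq_top_or_exists_le_coatom _).resolve_left hNtop
    have := huniq L hL ((centralizer_le_normalizer _).trans hNL)
    rw [← this]
    exact hNL
  refine ⟨hrβ, hN, huniq, ?_⟩
  intro g hg
  have hRp : IsPGroup r ↥R₀ := IsPGroup.of_card (n := 1) (by rw [hr, pow_one])
  obtain ⟨m, hm, c, hc, rfl⟩ := (Cfsg.Agent.S1404.result hG M S.hM r hrσ R₀ hRp hR1 hR₀M).1 g hg
  exact M.mul_mem hm (hC hc)

end Side

end Cfsg.Agent.Lib.Helper79_BG138b
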