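import Mathlib
import Cfsg.Agent.Lib.Helper79_BG138b
import Cfsg.Agent.Lib.Helper70_Asym
import Cfsg.Agent.Lib.Helper48_SPE

set_option autoImplicit false
set_option linter.unusedVariables false

/-!
# Bender–Glauberman 13.8: the asymmetry lemma (helper79)

`M`, `M*` maximal and not conjugate, `p ∈ τ₁(M) ∩ τ₁(M*)`, `P ≤ M ∩ M*` of order `p`, `Q` and `Q*` Sylow
subgroups of `M ∩ M*` normalized by `P` with `C_Q(P) = 1 = C_{Q*}(P)`, `N_G(Q) ≤ M*` and `N_G(Q*) ≤ M`:
this is impossible.  The one-sided analysis is `Helper79_BG138b`; the final contradiction in `C_G(P)` is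
`Helper70_Asym.asym_core`.
-/

namespace Cfsg.Agent.Lib.Helper79_BG138

open Subgroup Cfsg Cfsg.Agent.Lib.Helper22_Radical Cfsg.Agent.Lib.Helper22_BGTrans
  Cfsg.Agent.Lib.Helper84_RelSylow Cfsg.Agent.Lib.Helper49_Sigma
  Cfsg.Agent.Lib.Helper24_CoprimeHall Cfsg.Agent.Lib.Helper24_CoprimeAction
  Cfsg.Agent.Lib.Helper76_BG13a Cfsg.Agent.Lib.Helper76_BG13b Cfsg.Agent.Lib.Helper22_Uniq
  Cfsg.Agent.Lib.Helper79_BG138a Cfsg.Agent.Lib.Helper47_BG1214a Cfsg.Agent.Lib.Helper79_BG138b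
open scoped commutatorElement

universe u

variable {G : Type u} [Group G] [Finite G]

omit [Finite G] in
/-- the maximality form of "Sylow subgroup of `K`" implies the index form -/
theorem isSylowIn_of_spe {p : ℕ} [Fact p.Prime] {P K : Subgroup G} [Finite ↥K]
    (h : Cfsg.Agent.Lib.Helper48_SPE.IsSylowIn p P K) : IsSylowIn p P K := by
  refine ⟨h.1, h.2.1, ?_⟩
  exact (Cfsg.Agent.Lib.Helper48_SPE.IsSylowIn.toSylow h).not_dvd_index

/-- a subgroup of prime order is commutative -/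
theorem le_centralizer_self_of_card_prime {P : Subgroup G} {p : ℕ} [hp : Fact p.Prime]
    (hP : Nat.card ↥P = p) : P ≤ centralizer (P : Set G) := by
  haveI : IsCyclic ↥P := isCyclic_of_prime_card hP
  letI : CommGroup ↥P := IsCyclic.commGroup
  intro x hx
  rw [Subgroup.mem_centralizer_iff]
  intro y hy
  have := mul_comm (⟨y, hy⟩ : ↥P) ⟨x, hx⟩
  exact congrArg Subtype.val this

/-- the hypotheses of 13.8 give the one-sided configuration -/
theorem mkSide {M Ms P Q : Subgroup G} {p q : ℕ} [hpF : Fact p.Prime] [hqF : Fact q.Prime]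
    (hM : IsCoatom M) (hMs : IsCoatom Ms) (hnc : ∀ g : G, Ms ≠ cj g M) (hp : p ∈ tau1 M)
    (hP : Nat.card ↥P = p) (hPM : P ≤ M) (hPMs : P ≤ Ms) (hQ : IsSylowIn q Q (M ⊓ Ms))
    (hPQ : P ≤ normalizer (Q : Set G)) (hfix : Q ⊓ centralizer (P : Set G) = ⊥)
    (hNQ : normalizer (Q : Set G) ≤ Ms) : Side M Ms P Q p q := by
  have hpp : p.Prime := hpF.out
  have hP1 : P ≠ ⊥ := by
    rintro rfl
    rw [Subgroup.card_bot] at hP
    exact hpp.one_lt.ne hP
  refine ⟨hM, hMs, hnc, hp, hP, hPM, hPMs, ?_, isSylowIn_of_inf hQ hNQ, ?_, hPQ, hfix, hNQ⟩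
  · rintro rfl
    have hPp : IsPGroup p ↥P := IsPGroup.of_card (n := 1) (by rw [hP, pow_one])
    have hsup : IsPGroup p ↥(Q ⊔ P : Subgroup G) := IsPGroup.to_sup_of_normal_left' hQ.isPGroup hPp hPQ
    have h1 : Q ⊔ P = Q := hQ.eq_of_le le_sup_left (sup_le hQ.le (le_inf hPM hPMs)) hsup
    have hPleQ : P ≤ Q := by
      rw [← h1]
      exact le_sup_right
    apply hP1
    rw [eq_bot_iff, ← hfix]
    exact le_inf hPleQ (le_centralizer_self_of_card_prime hP)
  · rintro rfl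
    apply hMs.1
    rw [eq_top_iff]
    refine le_trans ?_ hNQ
    intro x _
    rw [Subgroup.mem_normalizer_iff]
    intro y
    simp

/-- `α(M)`-elements of `M` lie in `M_α` -/
theorem mem_alphaCore_of_orderOf (hG : IsMinSimpleOddOrder G) {M : Subgroup G} (hM : IsCoatom M)
    {y : G} (hy : y ∈ M) (h : ∀ t : ℕ, t.Prime → t ∣ orderOf y → t ∈ alpha M) : y ∈ alphaCore M := by
  have hhall := alpha_hall hG hM
  have h1 : zpowers y ≤ alphaCore M :=
    le_of_normal_hall hhall (le_normalizer_alphaCore M) ((zpowers_le).mpr hy) (by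
      intro t ht hd
      rw [Nat.card_zpowers] at hd
      exact h t ht hd)
  exact h1 (mem_zpowers y)

namespace Side

variable {M Ms P Q : Subgroup G} {p q : ℕ}

theorem decomp' (hG : IsMinSimpleOddOrder G) [Fact p.Prime] [Fact q.Prime]
    (S : Side M Ms P Q p q) : ∀ c ∈ centralizer (P : Set G) ⊓ M,
      ∃ x ∈ alphaCore M ⊓ centralizer (P : Set G), ∃ w ∈ centralizer (P : Set G) ⊓ M ⊓ Ms,
        c = x * w := by
  intro c hc
  obtain ⟨i, hi, a, ha, e⟩ := S.centralizer_decomp hG (M.inv_mem hc.2) (Subgroup.inv_mem _ hc.1)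
  refine ⟨a⁻¹, Subgroup.inv_mem _ ha, i⁻¹, ?_, ?_⟩
  · have h := Subgroup.inv_mem _ hi
    exact ⟨⟨h.2, h.1.2⟩, h.1.1⟩
  · rw [← inv_inv c, e]
    group

theorem conj_mem (hG : IsMinSimpleOddOrder G) [Fact p.Prime] [Fact q.Prime]
    (S : Side M Ms P Q p q) (g : G) (T : Subgroup G)
    (hT : T ≤ alphaCore M ⊓ centralizer (P : Set G)) (hT1 : T ≠ ⊥)
    (hg : ∀ t ∈ T, g * t * g⁻¹ ∈ M) : g ∈ M := by
  have hcard : Nat.card ↥T ≠ 1 := fun h => hT1 (Subgroup.card_eq_one.mp h)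
  obtain ⟨r, hr, hrd⟩ := Nat.exists_prime_and_dvd hcard
  have : Fact r.Prime := ⟨hr⟩
  obtain ⟨t, ht⟩ := exists_prime_orderOf_dvd_card' r hrd
  have hR₀T : zpowers (t : G) ≤ T := (zpowers_le).mpr t.2
  have hcardR : Nat.card ↥(zpowers (t : G)) = r := by
    rw [Nat.card_zpowers, Subgroup.orderOf_coe, ht]
  apply (S.prime_sub hG (hR₀T.trans (hT.trans inf_le_left)) hcardR).2.2.2 g
  rintro _ ⟨x, hx, rfl⟩
  exact hg x (hR₀T hx)

end Side

/-- **Bender–Glauberman 13.8**, index form of the Sylow hypotheses -/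
theorem asymmetry' (hG : IsMinSimpleOddOrder G) {M Ms : Subgroup G} (hM : IsCoatom M)
    (hMs : IsCoatom Ms) (hnc : ∀ g : G, Ms ≠ M.map (MulAut.conj g).toMonoidHom)
    {p q qs : ℕ} [hpF : Fact p.Prime] [Fact q.Prime] [Fact qs.Prime]
    (hp : p ∈ tau1 M) (hps : p ∈ tau1 Ms) {P Q Qs : Subgroup G} (hP : Nat.card ↥P = p)
    (hPI : P ≤ M ⊓ Ms) (hQ : IsSylowIn q Q (M ⊓ Ms)) (hQs : IsSylowIn qs Qs (M ⊓ Ms))
    (hPQ : P ≤ normalizer (Q : Set G)) (hPQs : P ≤ normalizer (Qs : Set G))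
    (hfix : Q ⊓ centralizer (P : Set G) = ⊥) (hfixs : Qs ⊓ centralizer (P : Set G) = ⊥)
    (hNQ : normalizer (Q : Set G) ≤ Ms) (hNQs : normalizer (Qs : Set G) ≤ M) : False := by
  have hpp : p.Prime := hpF.out
  have hPM : P ≤ M := hPI.trans inf_le_left
  have hPMs : P ≤ Ms := hPI.trans inf_le_right
  have hncs : ∀ g : G, M ≠ cj g Ms := nonconj_symm hnc
  have S : Side M Ms P Q p q := mkSide hM hMs hnc hp hP hPM hPMs hQ hPQ hfix hNQ
  have hQs' : IsSylowIn qs Qs (Ms ⊓ M) := by rwa [inf_comm]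
  have Ss : Side Ms M P Qs p qs := mkSide hMs hM hncs hps hP hPMs hPM hQs' hPQs hfixs hNQs
  have hU := Cfsg.Agent.Lib.Helper49_SigmaDisjoint.uniqHyp hG
  have hhall := alpha_hall hG hM
  have hhalls := alpha_hall hG hMs
  -- `C_G(P)` is solvable
  have hP1 : P ≠ ⊥ := by
    rintro rfl
    rw [Subgroup.card_bot] at hP
    exact hpp.one_lt.ne hP
  have hPtop : P ≠ ⊤ := ne_top_of_le_ne_top hM.1 hPM
  have hCsolv : Group.IsSolvable ↥(centralizer (P : Set G)) := by
    have hNtop := normalizer_ne_top hG hP1 hPtop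
    obtain ⟨L, hL, hNL⟩ := (eq_top_or_exists_le_coatom _).resolve_left hNtop
    exact isSolvable_of_le hG hL ((centralizer_le_normalizer _).trans hNL)
  have hCn : centralizer (P : Set G) ≤ normalizer ((centralizer (P : Set G) : Subgroup G) : Set G) :=
    le_normalizer
  apply Cfsg.Agent.Lib.Helper70_Asym.asym_core (centralizer (P : Set G)) M Ms
    (alphaCore M ⊓ centralizer (P : Set G)) (alphaCore Ms ⊓ centralizer (P : Set G)) hCsolv
  · -- hXC
    exact le_inf inf_le_right (inf_le_left.trans hhall.1)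
  · -- hXn
    exact (le_inf (inf_le_right.trans (le_normalizer_alphaCore M)) (inf_le_left.trans hCn)).trans
      Subgroup.inf_normalizer_le_normalizer_inf
  · -- hXh
    intro y hy h
    refine Subgroup.mem_inf.mpr ⟨mem_alphaCore_of_orderOf hG hM hy.2 ?_, hy.1⟩
    intro t ht hd
    exact hhall.2.1 t ht ((h t ht hd).trans (Subgroup.card_dvd_of_le inf_le_left))
  · -- hYC
    exact le_inf inf_le_right (inf_le_left.trans hhalls.1)
  · -- hYn
    exact (le_inf (inf_le_right.trans (le_normalizer_alphaCore Ms)) (inf_le_left.trans hCn)).trans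
      Subgroup.inf_normalizer_le_normalizer_inf
  · -- hYh
    intro y hy h
    refine Subgroup.mem_inf.mpr ⟨mem_alphaCore_of_orderOf hG hMs hy.2 ?_, hy.1⟩
    intro t ht hd
    exact hhalls.2.1 t ht ((h t ht hd).trans (Subgroup.card_dvd_of_le inf_le_left))
  · exact (S.cent hG).1
  · exact (Ss.cent hG).1
  · -- coprime orders
    apply Nat.coprime_of_dvd
    intro k hk hkX hkY
    have hkα : k ∈ alpha M := hhall.2.1 k hk (hkX.trans (Subgroup.card_dvd_of_le inf_le_left))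
    have hkαs : k ∈ alpha Ms := hhalls.2.1 k hk (hkY.trans (Subgroup.card_dvd_of_le inf_le_left))
    exact Cfsg.Agent.Lib.Helper49_SigmaDisjoint.alpha_inter_sigma hG hM hMs hnc hkα
      (Cfsg.Agent.Lib.Helper49_Alpha.mem_sigma_of_mem_alpha hG hU hMs hkαs)
  · -- hXH
    rw [eq_bot_iff, ← S.alphaCore_inf_inf_centralizer hG]
    exact le_inf (le_inf (inf_le_left.trans inf_le_left) inf_le_right) (inf_le_left.trans inf_le_right)
  · -- hYM
    rw [eq_bot_iff, ← Ss.alphaCore_inf_inf_centralizer hG]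
    exact le_inf (le_inf (inf_le_left.trans inf_le_left) inf_le_right) (inf_le_left.trans inf_le_right)
  · exact Side.decomp' hG S
  · intro c hc
    obtain ⟨y, hy, w, hw, e⟩ := Side.decomp' hG Ss c hc
    exact ⟨y, hy, w, ⟨⟨hw.1.1, hw.2⟩, hw.1.2⟩, e⟩
  · intro g _ T hT hT1 h
    exact Side.conj_mem hG S g T hT hT1 h
  · intro g _ T hT hT1 h
    exact Side.conj_mem hG Ss g T hT hT1 h

/-- **Bender–Glauberman 13.8** (the asymmetry lemma), with the Sylow hypotheses in the maximality form of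
`Helper48_SPE` -/
theorem asymmetry (hG : IsMinSimpleOddOrder G) {M Ms : Subgroup G} (hM : IsCoatom M)
    (hMs : IsCoatom Ms) (hnc : ∀ g : G, Ms ≠ M.map (MulAut.conj g).toMonoidHom)
    {p q qs : ℕ} [Fact p.Prime] [Fact q.Prime] [Fact qs.Prime]
    (hp : p ∈ tau1 M) (hps : p ∈ tau1 Ms) {P Q Qs : Subgroup G} (hP : Nat.card ↥P = p)
    (hPI : P ≤ M ⊓ Ms) (hQ : Cfsg.Agent.Lib.Helper48_SPE.IsSylowIn q Q (M ⊓ Ms))
    (hQs : Cfsg.Agent.Lib.Helper48_SPE.IsSylowIn qs Qs (M ⊓ Ms))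
    (hPQ : P ≤ normalizer (Q : Set G)) (hPQs : P ≤ normalizer (Qs : Set G))
    (hfix : Q ⊓ centralizer (P : Set G) = ⊥) (hfixs : Qs ⊓ centralizer (P : Set G) = ⊥)
    (hNQ : normalizer (Q : Set G) ≤ Ms) (hNQs : normalizer (Qs : Set G) ≤ M) : False :=
  asymmetry' hG hM hMs hnc hp hps hP hPI (isSylowIn_of_spe hQ) (isSylowIn_of_spe hQs) hPQ hPQs
    hfix hfixs hNQ hNQs

end Cfsg.Agent.Lib.Helper79_BG138
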