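import Cfsg.Agent.Lib.Helper73_F2Glue
import Cfsg.Agent.Lib.Helper79_BG138

/-!
# `F2 G`, `Tau13Reg G`, `SigmaPart G` unconditionally (helper73)

With helper79's asymmetry lemma B-G 13.8 landed, the hypothesis `Asym G` of `Helper73_BG1310` and
`Helper73_F2Glue` is discharged: B-G 13.9 (second conjunct of the frozen row S1378), 13.10(b) and
13.11 (`F2 G`) hold for every minimal simple group of odd order.
-/

set_option autoImplicit false

namespace Cfsg.Agent.Lib.Helper73_F2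

open Subgroup Cfsg

universe u

variable {G : Type u} [Group G] [Finite G]

/-- B-G Lemma 13.8 in the shape `Helper73_BG1310.Asym` -/
theorem asym (hG : IsMinSimpleOddOrder G) : Cfsg.Agent.Lib.Helper73_BG1310.Asym G :=
  fun _ _ hM hMs hnc p q qs hp hq hqs hp1 hp1s _ _ _ hP hPI hQ hQs hPQ hPQs hf hfs hN hNs =>
    haveI : Fact p.Prime := ⟨hp⟩
    haveI : Fact q.Prime := ⟨hq⟩
    haveI : Fact qs.Prime := ⟨hqs⟩
    Cfsg.Agent.Lib.Helper79_BG138.asymmetry' hG hM hMs hnc hp1 hp1s hP hPI hQ hQs hPQ hPQs hf hfs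
      hN hNs

/-- **B-G 13.9**: maximal subgroups with a common prime in their `σ`-sets are conjugate
(the second conjunct of the frozen row S1378) -/
theorem sigmaPart (hG : IsMinSimpleOddOrder G) :
    ∀ M N : Subgroup G, IsCoatom M → IsCoatom N → (sigma M ∩ sigma N).Nonempty →
      ∃ g : G, N = M.map (MulAut.conj g).toMonoidHom :=
  Cfsg.Agent.Lib.Helper73_F2Glue.sigmaPart_of_asym hG (asym hG)

/-- **B-G 13.10(b)**, unconditional -/
theorem tau13_regular (hG : IsMinSimpleOddOrder G) {M E : Subgroup G} (hM : IsCoatom M)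
    (hE : IsComplIn E (sigmaCore M) M) {p r : ℕ} (hp : p ∈ tau1 M) {P R1 : Subgroup G}
    (hPE : P ≤ E) (hP : Nat.card P = p) (hr : r ∈ tau3 M) (hRE : R1 ≤ E) (hR : Nat.card R1 = r)
    (hnc : ¬ P ≤ centralizer (R1 : Set G)) : sigmaCore M ⊓ centralizer (R1 : Set G) = ⊥ :=
  Cfsg.Agent.Lib.Helper73_BG1310.tau13_regular hG (Cfsg.Agent.Lib.Helper73_F2Glue.h1428 hG)
    (asym hG) hM hE hp hPE hP hr hRE hR hnc

theorem tau13Reg (hG : IsMinSimpleOddOrder G) : Cfsg.Agent.Lib.Helper72_BG1311a.Tau13Reg G :=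
  Cfsg.Agent.Lib.Helper73_F2Glue.tau13Reg_of_asym hG (asym hG)

/-- **B-G 13.10/13.11 in helper23's packaging: `F2 G`**, unconditional -/
theorem f2 (hG : IsMinSimpleOddOrder G) : Cfsg.Agent.Lib.Helper23_BG13Hyp.F2 G :=
  Cfsg.Agent.Lib.Helper73_F2Glue.f2_of_asym hG (asym hG)

end Cfsg.Agent.Lib.Helper73_F2
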