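import Cfsg.Agent.Lib.Helper73_BG1310
import Cfsg.Agent.Lib.Helper52_BG139
import Cfsg.Agent.Lib.Helper49_BG139
import Cfsg.Agent.Lib.Helper31_BG1311b
import Cfsg.Agent.S1428

/-!
# Glue for `F2 G` (helper73)

`F2 G` (B-G 13.10/13.11 in helper23's packaging) from the asymmetry lemma B-G 13.8 alone, in any of the
three shapes of its statement that are in use (`Helper73_BG1310.Asym`, `Helper52_BG139.Asym`,
`Helper49_BG139.Asym`): S1428 is landed, 13.9 is `Helper52_BG139.sigma_part`, 13.10(b) is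
`Helper73_BG1310.tau13_regular`, 13.11 is `Helper31_BG1311b.f2_of_reg_part`.
-/

set_option autoImplicit false

namespace Cfsg.Agent.Lib.Helper73_F2Glue

open Subgroup Cfsg

universe u

variable {G : Type u} [Group G] [Finite G]

/-- the maximality form of "Sylow in `K`" implies the index form -/
theorem isSylowIn_of_spe {p : ℕ} [Fact p.Prime] {P K : Subgroup G}
    (h : Cfsg.Agent.Lib.Helper48_SPE.IsSylowIn p P K) :
    Cfsg.Agent.Lib.Helper84_RelSylow.IsSylowIn p P K := by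
  obtain ⟨T, hPT, hT⟩ := Cfsg.Agent.Lib.Helper84_RelSylow.exists_isSylowIn_ge (p := p) h.1 h.2.1
  have hTP : T = P := h.2.2 T hT.isPGroup hPT hT.le
  rw [← hTP]
  exact hT

omit [Finite G] in
/-- the index form of "Sylow in `K`" implies the maximality form -/
theorem isSylowIn_spe {p : ℕ} [Fact p.Prime] {P K : Subgroup G}
    (h : Cfsg.Agent.Lib.Helper84_RelSylow.IsSylowIn p P K) :
    Cfsg.Agent.Lib.Helper48_SPE.IsSylowIn p P K :=
  ⟨h.le, h.isPGroup, fun _ hR hPR hRK => h.eq_of_le hPR hRK hR⟩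

theorem h1428 (hG : IsMinSimpleOddOrder G) : Cfsg.Agent.Lib.Helper23_BG13Hyp.H1428 G :=
  fun M hM E hE p hp P hPE hP R hRE hR =>
    Cfsg.Agent.S1428.result hG M hM E hE p hp P hPE hP R hRE hR

/-! ### The three shapes of the asymmetry statement are equivalent -/

theorem asym52_of_asym (h : Cfsg.Agent.Lib.Helper73_BG1310.Asym G) :
    Cfsg.Agent.Lib.Helper52_BG139.Asym G :=
  fun M Ms hM hMs hnc p q qs hp hq hqs hp1 hp1s P Q Qs hP hPI hQ hQs =>
    h M Ms hM hMs hnc p q qs hp.out hq.out hqs.out hp1 hp1s P Q Qs hP hPI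
      (isSylowIn_of_spe hQ) (isSylowIn_of_spe hQs)

theorem asym_of_asym52 (h : Cfsg.Agent.Lib.Helper52_BG139.Asym G) :
    Cfsg.Agent.Lib.Helper73_BG1310.Asym G :=
  fun M Ms hM hMs hnc p q qs hp hq hqs hp1 hp1s P Q Qs hP hPI hQ hQs =>
    haveI : Fact p.Prime := ⟨hp⟩
    haveI : Fact q.Prime := ⟨hq⟩
    haveI : Fact qs.Prime := ⟨hqs⟩
    h M Ms hM hMs hnc p q qs hp1 hp1s P Q Qs hP hPI (isSylowIn_spe hQ) (isSylowIn_spe hQs)

theorem asym49_of_asym (h : Cfsg.Agent.Lib.Helper73_BG1310.Asym G) :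
    Cfsg.Agent.Lib.Helper49_BG139.Asym G :=
  fun M Ms hM hMs hnc p q qs hp hq hqs hp1 hp1s P Q Qs hP hPI hQ hQs =>
    haveI : Fact q.Prime := ⟨hq⟩
    haveI : Fact qs.Prime := ⟨hqs⟩
    h M Ms hM hMs hnc p q qs hp hq hqs hp1 hp1s P Q Qs hP hPI
      (isSylowIn_of_spe hQ) (isSylowIn_of_spe hQs)

theorem asym_of_asym49 (h : Cfsg.Agent.Lib.Helper49_BG139.Asym G) :
    Cfsg.Agent.Lib.Helper73_BG1310.Asym G :=
  fun M Ms hM hMs hnc p q qs hp hq hqs hp1 hp1s P Q Qs hP hPI hQ hQs =>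
    haveI : Fact q.Prime := ⟨hq⟩
    haveI : Fact qs.Prime := ⟨hqs⟩
    h M Ms hM hMs hnc p q qs hp hq hqs hp1 hp1s P Q Qs hP hPI (isSylowIn_spe hQ) (isSylowIn_spe hQs)

/-! ### `F2 G` from the asymmetry lemma -/

/-- B-G 13.9 (second conjunct of the frozen row S1378) from the asymmetry lemma -/
theorem sigmaPart_of_asym (hG : IsMinSimpleOddOrder G) (hA : Cfsg.Agent.Lib.Helper73_BG1310.Asym G) :
    ∀ M N : Subgroup G, IsCoatom M → IsCoatom N → (sigma M ∩ sigma N).Nonempty →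
      ∃ g : G, N = M.map (MulAut.conj g).toMonoidHom :=
  Cfsg.Agent.Lib.Helper52_BG139.sigma_part hG (h1428 hG) (asym52_of_asym hA)

/-- B-G 13.10(b), universally closed, from the asymmetry lemma -/
theorem tau13Reg_of_asym (hG : IsMinSimpleOddOrder G) (hA : Cfsg.Agent.Lib.Helper73_BG1310.Asym G) :
    Cfsg.Agent.Lib.Helper72_BG1311a.Tau13Reg G :=
  Cfsg.Agent.Lib.Helper73_BG1310.tau13_regular_closed hG (h1428 hG) hA

/-- **`F2 G` from the asymmetry lemma B-G 13.8** -/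
theorem f2_of_asym (hG : IsMinSimpleOddOrder G) (hA : Cfsg.Agent.Lib.Helper73_BG1310.Asym G) :
    Cfsg.Agent.Lib.Helper23_BG13Hyp.F2 G :=
  Cfsg.Agent.Lib.Helper31_BG1311b.f2_of_reg_part hG (h1428 hG) (tau13Reg_of_asym hG hA)
    (sigmaPart_of_asym hG hA)

theorem f2_of_asym52 (hG : IsMinSimpleOddOrder G) (hA : Cfsg.Agent.Lib.Helper52_BG139.Asym G) :
    Cfsg.Agent.Lib.Helper23_BG13Hyp.F2 G :=
  f2_of_asym hG (asym_of_asym52 hA)

theorem f2_of_asym49 (hG : IsMinSimpleOddOrder G) (hA : Cfsg.Agent.Lib.Helper49_BG139.Asym G) :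
    Cfsg.Agent.Lib.Helper23_BG13Hyp.F2 G :=
  f2_of_asym hG (asym_of_asym49 hA)

end Cfsg.Agent.Lib.Helper73_F2Glue
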