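import Mathlib
import Cfsg.Agent.Lib.Helper83_FrCDefs
import Cfsg.Agent.Lib.Helper8_FrC_PK13
import Cfsg.Agent.Lib.Helper10_FrC_PK19
import Cfsg.Agent.Lib.Helper2_FrC_PK11
import Cfsg.Agent.Lib.Helper73_FrC_Common

/-!
# S5655, k = 1, case (C) (architect helper83), package PK14 (helper73)

`q` odd: the fusion argument (2.6): the involutions `t2 = diag(-1,-1,1,…)` and
`g t4 g⁻¹`, `t4 = diag(-1,-1,-1,-1,1,…)`, are not conjugate (ranks 2 and 4), so the dihedral lemma
gives an involution `z ∈ M` commuting with both, `rank (z - 1) ≤ 6`; `z` and `m = g⁻¹ z g` are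
monomial by (2.2); the involutive rank lemma gives a frame vector `e i` with `m (e i) = ± e i`;
`f = g (e i)` is an eigenvector of `z` with all coordinates nonzero, and (2.5) and the determinant
give a contradiction.
-/

set_option autoImplicit false
set_option linter.unusedVariables false
set_option linter.unusedSectionVars false

namespace Cfsg.Agent.Lib.Helper73_FrC_PK14

open Module Cfsg.Agent.Lib.Helper94_Herm Cfsg.Agent.Lib.Helper13_PSUSimple
  Cfsg.Agent.Lib.Helper94_FrmDefs Cfsg.Agent.Lib.Helper83_FrCDefs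

open Cfsg.Agent.Lib.Helper73_FrC_Common
open Cfsg.Agent.Lib.Helper10_FrC_PK19 (sub_mem_of_frame ext_frame)
open Cfsg.Agent.Lib.Helper2_FrC_PK11 (coord_mono)

variable {F V ι : Type*} [Field F] [AddCommGroup V] [Module F V] [Fintype ι] [DecidableEq ι]
variable {σ : F →+* F} {B : V →ₗ[F] V →ₛₗ[σ] F} {e : ι → V}

/-- the sign vector of a finite set of indices -/
def sgn (F : Type*) [Field F] (T : Finset ι) : ι → F := fun r => if r ∈ T then -1 else 1

omit [Fintype ι] in
lemma sgn_mem {T : Finset ι} {r : ι} (h : r ∈ T) : sgn F T r = -1 := if_pos h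

omit [Fintype ι] in
lemma sgn_not_mem {T : Finset ι} {r : ι} (h : r ∉ T) : sgn F T r = 1 := if_neg h

omit [Fintype ι] in
lemma sgn_mul_self (T : Finset ι) (r : ι) : sgn F T r * sgn F T r = 1 := by
  unfold sgn
  split_ifs <;> simp

omit [Fintype ι] in
lemma sgn_norm (σ : F →+* F) (T : Finset ι) (r : ι) : sgn F T r * σ (sgn F T r) = 1 := by
  unfold sgn
  split_ifs <;> simp

lemma prod_sgn (T : Finset ι) : ∏ r, sgn F T r = (-1) ^ T.card := by
  unfold sgn
  rw [Finset.prod_ite_mem, Finset.univ_inter, Finset.prod_const]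

/-- the diagonal sign element of `H` of an even set of indices -/
lemma exists_sign_map (hmono : HasMono B e) (T : Finset ι) (hT : Even T.card) :
    ∃ s ∈ frH B e, ∀ i, s (e i) = sgn F T i • e i := by
  obtain ⟨s, hs, hse⟩ := hmono 1 (sgn F T) (sgn_norm σ T) (by
    rw [Equiv.Perm.sign_one, prod_sgn, hT.neg_one_pow]
    simp)
  exact ⟨s, hs, fun i => by rw [hse i]; rfl⟩

/-- a sign element is an involution -/
lemma sign_map_sq (hfr : OFrame B e) (T : Finset ι) (s : V ≃ₗ[F] V)
    (hs : ∀ i, s (e i) = sgn F T i • e i) : s * s = 1 := by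
  apply ext_frame hfr
  intro i
  rw [LinearEquiv.mul_apply, hs, map_smul, hs, smul_smul, sgn_mul_self, one_smul]
  rfl

/-- a sign element moves every vector inside the span of its frame vectors -/
lemma sign_map_sub_mem [DecidableEq V] (hfr : OFrame B e) (T : Finset ι) (s : V ≃ₗ[F] V)
    (hs : ∀ i, s (e i) = sgn F T i • e i) (x : V) :
    s x - x ∈ Submodule.span F ((T.image e : Finset V) : Set V) := by
  apply sub_mem_of_frame hfr
  intro i
  rw [hs i]
  by_cases hi : i ∈ T
  · have h1 : sgn F T i • e i - e i = (sgn F T i - 1) • e i := by rw [sub_smul, one_smul]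
    rw [h1]
    apply Submodule.smul_mem
    apply Submodule.subset_span
    rw [Finset.mem_coe, Finset.mem_image]
    exact ⟨i, hi, rfl⟩
  · rw [sgn_not_mem hi, one_smul, sub_self]
    exact Submodule.zero_mem _

/-- if `z - 1` has range in `U` and `z` is `-1` on all frame vectors outside a small set, then the
dimension of `U` is large -/
lemma rank_contra (hfr : OFrame B e) (h2 : (2 : F) ≠ 0) (z : V ≃ₗ[F] V) (U : Submodule F V)
    (hzU : ∀ x, z x - x ∈ U) (P : ι → Prop) [DecidablePred P]
    (hz : ∀ r, ¬ P r → z (e r) = -e r)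
    (hcard : finrank F U + Fintype.card {r // P r} < Fintype.card ι) : False := by
  haveI := fr_finiteDimensional hfr
  have hli : LinearIndependent F (fun r : {r // ¬ P r} => e r.1) :=
    (fr_linearIndependent hfr).comp Subtype.val Subtype.val_injective
  have h1 : finrank F (Submodule.span F (Set.range (fun r : {r // ¬ P r} => e r.1))) =
      Fintype.card {r // ¬ P r} := finrank_span_eq_card hli
  have h3 : Submodule.span F (Set.range (fun r : {r // ¬ P r} => e r.1)) ≤ U := by
    rw [Submodule.span_le]
    rintro _ ⟨r, rfl⟩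
    have h4 := hzU (e r.1)
    rw [hz r.1 r.2] at h4
    have h4' : (-2 : F) • e r.1 ∈ U := by
      have h7 : -e r.1 - e r.1 = (-2 : F) • e r.1 := by
        rw [neg_smul, two_smul]
        abel
      rwa [h7] at h4
    have h5 : e r.1 = (-(2 : F)⁻¹) • ((-2 : F) • e r.1) := by
      rw [smul_smul]
      have h8 : -(2 : F)⁻¹ * -2 = 1 := by field_simp
      rw [h8, one_smul]
    show e r.1 ∈ U
    rw [h5]
    exact U.smul_mem _ h4'
  have h6 := Submodule.finrank_mono h3
  rw [h1, Fintype.card_subtype_compl] at h6
  omega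

/-- PK14. paper (2.6); uses PK13. -/
theorem caseC_odd [Finite F] (hσ : Invol σ) (hB : IsHerm B) (hfr : OFrame B e)
    (hmono : HasMono B e) (hdet : HasDet F e) (hrinv : RankLemmaInvol F e) (h2 : (2 : F) ≠ 0)
    (h13 : 13 ≤ Fintype.card ι) (M : Subgroup (V ≃ₗ[F] V)) (hHM : frH B e ≤ M)
    (hMS : M ≤ SUg B) (h22 : P22 B e M) (h23 : P23 B e M) (h25 : P25 B e M) :
    M ≤ Mono B e := by
  classical
  intro g hgM
  by_contra hgnot
  have hfd : FiniteDimensional F V := fr_finiteDimensional hfr
  have hMU : M ≤ uG B := fun x hx => (mem_SUg.1 (hMS hx)).1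
  -- four distinct indices
  obtain ⟨f⟩ : Nonempty (Fin 4 ↪ ι) :=
    Function.Embedding.nonempty_of_card_le (by simp only [Fintype.card_fin]; omega)
  have hne : ∀ k k' : Fin 4, k ≠ k' → f k ≠ f k' := fun k k' h hh => h (f.injective hh)
  have h01 : f 0 ≠ f 1 := hne _ _ (by decide)
  set T2 : Finset ι := {f 0, f 1} with hT2
  set T4 : Finset ι := Finset.univ.map f with hT4
  have hT2c : T2.card = 2 := Finset.card_pair h01
  have hT4c : T4.card = 4 := by rw [hT4, Finset.card_map]; simp
  have hmemT4 : ∀ k, f k ∈ T4 := fun k => by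
    rw [hT4]; exact Finset.mem_map_of_mem f (Finset.mem_univ k)
  obtain ⟨t2, ht2H, ht2e⟩ := exists_sign_map hmono T2 (by rw [hT2c]; decide)
  obtain ⟨t4, ht4H, ht4e⟩ := exists_sign_map hmono T4 (by rw [hT4c]; decide)
  have ht2M : t2 ∈ M := hHM ht2H
  have ht4M : t4 ∈ M := hHM ht4H
  have hbM : g * t4 * g⁻¹ ∈ M := M.mul_mem (M.mul_mem hgM ht4M) (M.inv_mem hgM)
  have ht2sq : t2 * t2 = 1 := sign_map_sq hfr T2 t2 ht2e
  have ht4sq : t4 * t4 = 1 := sign_map_sq hfr T4 t4 ht4e
  have hbb : (g * t4 * g⁻¹) * (g * t4 * g⁻¹) = 1 := by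
    calc (g * t4 * g⁻¹) * (g * t4 * g⁻¹) = g * (t4 * t4) * g⁻¹ := by group
      _ = 1 := by rw [ht4sq]; group
  set U2 : Submodule F V := Submodule.span F ((T2.image e : Finset V) : Set V) with hU2
  set U4 : Submodule F V := Submodule.span F ((T4.image e : Finset V) : Set V) with hU4
  have ht2U : ∀ x, t2 x - x ∈ U2 := sign_map_sub_mem hfr T2 t2 ht2e
  have ht4U : ∀ x, t4 x - x ∈ U4 := sign_map_sub_mem hfr T4 t4 ht4e
  have hU2r : finrank F U2 ≤ 2 :=
    (finrank_span_finset_le_card _).trans (Finset.card_image_le.trans hT2c.le)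
  have hU4r : finrank F U4 ≤ 4 :=
    (finrank_span_finset_le_card _).trans (Finset.card_image_le.trans hT4c.le)
  -- finiteness
  have : Finite V := Module.finite_of_finite F
  have : Finite (V ≃ₗ[F] V) :=
    Finite.of_injective (fun k : V ≃ₗ[F] V => (k : V → V)) DFunLike.coe_injective
  have hfin : IsOfFinOrder (t2 * (g * t4 * g⁻¹)) := isOfFinOrder_of_finite _
  have h8 : -(2 : F)⁻¹ * -2 = 1 := by field_simp
  rcases Cfsg.Agent.Lib.Helper8_FrC_PK13.dihedral_lemma t2 (g * t4 * g⁻¹) ht2sq hbb hfin with
    ⟨k, hk⟩ | ⟨z, hzcl, hz1, hzz, hza, hzb⟩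
  · -- the ranks differ
    exfalso
    have e1 := Cfsg.Agent.Lib.Helper8_FrC_PK13.finrank_range_conj t2 k
    have e2 := Cfsg.Agent.Lib.Helper8_FrC_PK13.finrank_range_conj t4 g
    rw [← hk, e2] at e1
    have hle : finrank F (LinearMap.range ((t2 : V →ₗ[F] V) - LinearMap.id)) ≤ 2 := by
      refine le_trans (Submodule.finrank_mono ?_) hU2r
      rintro _ ⟨x, rfl⟩
      exact ht2U x
    have hli : LinearIndependent F (e ∘ f) := (fr_linearIndependent hfr).comp f f.injective
    have hge : 4 ≤ finrank F (LinearMap.range ((t4 : V →ₗ[F] V) - LinearMap.id)) := by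
      have h3 : finrank F (Submodule.span F (Set.range (e ∘ f))) = 4 :=
        (finrank_span_eq_card hli).trans (by simp)
      rw [← h3]
      apply Submodule.finrank_mono
      rw [Submodule.span_le]
      rintro _ ⟨k, rfl⟩
      refine ⟨(-(2 : F)⁻¹) • e (f k), ?_⟩
      have h4 : t4 (e (f k)) - e (f k) = (-2 : F) • e (f k) := by
        rw [ht4e, sgn_mem (hmemT4 k), neg_smul, neg_smul, one_smul, two_smul]
        abel
      rw [map_smul, LinearMap.sub_apply, LinearEquiv.coe_coe, LinearMap.id_apply, h4, smul_smul,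
        h8, one_smul]
      rfl
    omega
  · -- the involution `z`
    have hzM : z ∈ M := by
      refine (Subgroup.closure_le M).2 ?_ hzcl
      intro y hy
      rcases hy with rfl | rfl
      · exact ht2M
      · exact hbM
    set U : Submodule F V := U2 ⊔ U4.map (g : V →ₗ[F] V) with hU
    have haU' : ∀ x, t2 x - x ∈ U := fun x => Submodule.mem_sup_left (ht2U x)
    have hbU' : ∀ x, (g * t4 * g⁻¹) x - x ∈ U := by
      intro x
      apply Submodule.mem_sup_right
      refine ⟨t4 (g⁻¹ x) - g⁻¹ x, ht4U _, ?_⟩
      simp only [LinearEquiv.coe_coe, map_sub, LinearEquiv.mul_apply,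
        Cfsg.Agent.Lib.Helper94_Symp.apply_inv_apply']
    have hzU : ∀ x, z x - x ∈ U :=
      Cfsg.Agent.Lib.Helper8_FrC_PK13.closure_range t2 _ U haU' hbU' z hzcl
    have hU6 : finrank F U ≤ 6 := by
      calc finrank F U ≤ finrank F U2 + finrank F (U4.map (g : V →ₗ[F] V)) :=
            Submodule.finrank_add_le_finrank_add_finrank _ _
        _ ≤ 2 + 4 := Nat.add_le_add hU2r ((Submodule.finrank_map_le _ _).trans hU4r)
    -- the sign elements are not one
    have hsne : ∀ (T : Finset ι) (s : V ≃ₗ[F] V), (∀ i, s (e i) = sgn F T i • e i) →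
        ∀ i ∈ T, s ≠ 1 := by
      intro T s hs i hi h1
      have h3 := hs i
      rw [h1, sgn_mem hi, LinearEquiv.coe_one, id_eq] at h3
      have h4 : (2 : F) • e i = 0 := by
        rw [two_smul]
        nth_rewrite 2 [h3]
        rw [neg_smul, one_smul, add_neg_cancel]
      rcases smul_eq_zero.1 h4 with h5 | h5
      · exact h2 h5
      · exact fr_ne_zero hfr i h5
    have ht2ne : t2 ≠ 1 := hsne T2 t2 ht2e (f 0) (by rw [hT2]; simp)
    have ht4ne : t4 ≠ 1 := hsne T4 t4 ht4e (f 0) (hmemT4 0)
    -- `z` is monomial by (2.2)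
    have hzMono : z ∈ Mono B e := by
      refine h22 t2 ht2H (fun i => ⟨_, ht2e i⟩) ht2ne T2 (by rw [hT2c]; norm_num)
        (fun i hi => by rw [ht2e i, sgn_not_mem hi, one_smul]) z hzM ?_
      have h3 : z⁻¹ * t2 * z = t2 := by
        calc z⁻¹ * t2 * z = z⁻¹ * (t2 * z) := by group
          _ = z⁻¹ * (z * t2) := by rw [hza]
          _ = t2 := by group
      rw [h3]
      exact frH_le_Mono ht2H
    -- `m = g⁻¹ z g` is monomial by (2.2)
    set m := g⁻¹ * z * g with hm
    have hmM : m ∈ M := M.mul_mem (M.mul_mem (M.inv_mem hgM) hzM) hgM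
    have hmt : m * t4 = t4 * m := by
      calc m * t4 = g⁻¹ * (z * (g * t4 * g⁻¹)) * g := by rw [hm]; group
        _ = g⁻¹ * ((g * t4 * g⁻¹) * z) * g := by rw [hzb]
        _ = t4 * m := by rw [hm]; group
    have hmMono : m ∈ Mono B e := by
      refine h22 t4 ht4H (fun i => ⟨_, ht4e i⟩) ht4ne T4 (by rw [hT4c])
        (fun i hi => by rw [ht4e i, sgn_not_mem hi, one_smul]) m hmM ?_
      have h3 : m⁻¹ * t4 * m = t4 := by
        calc m⁻¹ * t4 * m = m⁻¹ * (t4 * m) := by group
          _ = m⁻¹ * (m * t4) := by rw [hmt]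
          _ = t4 := by group
      rw [h3]
      exact frH_le_Mono ht4H
    have hmm : m * m = 1 := by
      calc m * m = g⁻¹ * (z * z) * g := by rw [hm]; group
        _ = 1 := by rw [hzz]; group
    -- the range of `m - 1`
    set U' : Submodule F V := U.map ((g⁻¹ : V ≃ₗ[F] V) : V →ₗ[F] V) with hU'
    have hU'6 : finrank F U' ≤ 6 := (Submodule.finrank_map_le _ _).trans hU6
    have hmU' : ∀ x, m x - x ∈ U' := by
      intro x
      refine ⟨z (g x) - g x, hzU _, ?_⟩
      rw [LinearEquiv.coe_coe, map_sub, hm, LinearEquiv.mul_apply, LinearEquiv.mul_apply,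
        Cfsg.Agent.Lib.Helper94_Symp.inv_apply_apply']
    have hcnt := hrinv m ((mem_Mono_iff B e).mp hmMono).2 hmm U' hmU' 6 hU'6
    obtain ⟨i, c, hic⟩ : ∃ i, ∃ c : F, m (e i) = c • e i := by
      by_contra hno
      push Not at hno
      have h3 : {i | ∀ c : F, m (e i) ≠ c • e i} = Set.univ := Set.eq_univ_of_forall hno
      rw [h3, Set.ncard_univ, Nat.card_eq_fintype_card] at hcnt
      omega
    have hcc : c * c = 1 := by
      have h3 : (m * m) (e i) = (c * c) • e i := by
        rw [LinearEquiv.mul_apply, hic, map_smul, hic, smul_smul]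
      rw [hmm, LinearEquiv.coe_one, id_eq] at h3
      have h4 : ((c * c) - 1) • e i = 0 := by rw [sub_smul, ← h3, one_smul, sub_self]
      rcases smul_eq_zero.1 h4 with h5 | h5
      · exact sub_eq_zero.1 h5
      · exact absurd h5 (fr_ne_zero hfr i)
    have hc1 : c = 1 ∨ c = -1 := by
      have h3 : (c - 1) * (c + 1) = 0 := by linear_combination hcc
      rcases mul_eq_zero.1 h3 with h4 | h4
      · left; exact sub_eq_zero.1 h4
      · right; exact eq_neg_of_add_eq_zero_left h4
    have hσc : σ c = c := by rcases hc1 with rfl | rfl <;> simp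
    -- the eigenvector
    set fv : V := g (e i) with hfv
    have hgm : g * m = z * g := by rw [hm]; group
    have hzf : z fv = c • fv := by
      rw [hfv, ← LinearEquiv.mul_apply, ← hgm, LinearEquiv.mul_apply, hic, map_smul]
    have hf0 : ∀ r, B fv (e r) ≠ 0 := fun r => h23 g hgM hgnot i r
    -- `z` is monomial
    obtain ⟨hzuG, π, hπ⟩ := hzMono
    choose w hw0 hw using hπ
    have hkey : ∀ r, c * B fv (e (π r)) = w r * B fv (e r) := by
      intro r
      have h3 := coord_mono hfr z π w hw fv r
      rw [hzf, map_smul, LinearMap.smul_apply, smul_eq_mul] at h3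
      exact h3
    have hwn : ∀ r, w r * σ (w r) = 1 := by
      intro r
      have h3 := hzuG (e r) (e r)
      simp only [hw, map_smul, map_smulₛₗ, LinearMap.smul_apply, smul_eq_mul, hfr.unit,
        mul_one] at h3
      linear_combination h3
    have hcol : ∀ r, B fv (e (π r)) * σ (B fv (e (π r))) = B fv (e r) * σ (B fv (e r)) := by
      intro r
      have h3 := hkey r
      have h4 : B fv (e (π r)) = c * (w r * B fv (e r)) := by
        calc B fv (e (π r)) = (c * c) * B fv (e (π r)) := by rw [hcc, one_mul]
          _ = c * (c * B fv (e (π r))) := by ring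
          _ = c * (w r * B fv (e r)) := by rw [h3]
      rw [h4]
      simp only [map_mul, hσc]
      linear_combination (B fv (e r) * σ (B fv (e r)) * (c * c)) * hwn r +
        (B fv (e r) * σ (B fv (e r))) * hcc
    have hππ : ∀ r, π (π r) = r := by
      intro r
      by_contra hne'
      have h3 : (z * z) (e r) = (w r * w (π r)) • e (π (π r)) := by
        rw [LinearEquiv.mul_apply, hw, map_smul, hw, smul_smul]
      rw [hzz, LinearEquiv.coe_one, id_eq] at h3
      have h4 := congrArg (fun y => B y (e r)) h3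
      simp only [map_smul, LinearMap.smul_apply, smul_eq_mul, hfr.unit, hfr.orth _ _ hne',
        mul_zero] at h4
      exact one_ne_zero h4
    have hwfix : ∀ r, π r = r → w r = c := by
      intro r hr
      have h3 := hkey r
      rw [hr] at h3
      have h4 : (c - w r) * B fv (e r) = 0 := by linear_combination h3
      rcases mul_eq_zero.1 h4 with h5 | h5
      · exact (sub_eq_zero.1 h5).symm
      · exact absurd h5 (hf0 r)
    by_cases hfixall : ∀ r, π r = r
    · -- `z = c`
      rcases hc1 with rfl | rfl
      · apply hz1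
        apply ext_frame hfr
        intro r
        rw [hw r, hwfix r (hfixall r), hfixall r, one_smul]
        rfl
      · refine rank_contra hfr h2 z U hzU (fun _ => False)
          (fun r _ => by rw [hw r, hwfix r (hfixall r), hfixall r, neg_smul, one_smul]) ?_
        have h3 : Fintype.card {r : ι // False} = 0 := Fintype.card_eq_zero
        omega
    · push Not at hfixall
      obtain ⟨a, ha⟩ := hfixall
      set b := π a with hb
      have hba : π b = a := hππ a
      by_cases hother : ∃ r, r ≠ a ∧ r ≠ b ∧ π r ≠ r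
      · obtain ⟨r3, h3a, h3b, h3⟩ := hother
        have h4a : π r3 ≠ a := fun h => h3b (by rw [← hππ r3, h])
        have h4b : π r3 ≠ b := fun h => h3a (by rw [← hππ r3, h, hba])
        exact h25 g hgM hgnot i a b r3 (π r3) (Ne.symm ha) (Ne.symm h3a) (Ne.symm h4a)
          (Ne.symm h3b) (Ne.symm h4b) (Ne.symm h3) (hcol a).symm (hcol r3).symm
      · push Not at hother
        have hwc : ∀ r, r ≠ a → r ≠ b → w r = c := fun r h1 h2' => hwfix r (hother r h1 h2')
        rcases hc1 with rfl | rfl
        · -- the determinant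
          have hπswap : π = Equiv.swap a b := by
            ext r
            by_cases h1 : r = a
            · rw [h1, Equiv.swap_apply_left]
            by_cases h2' : r = b
            · rw [h2', Equiv.swap_apply_right, hba]
            rw [Equiv.swap_apply_of_ne_of_ne h1 h2', hother r h1 h2']
          have hdz := hdet z π w hw
          have hz1' : LinearEquiv.det z = 1 := (mem_SUg.mp (hMS hzM)).2
          have hprod : ∏ r, w r = w a * w b := by
            rw [← Finset.prod_subset (Finset.subset_univ ({a, b} : Finset ι)),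
              Finset.prod_pair (Ne.symm ha)]
            intro r _ hr
            simp only [Finset.mem_insert, Finset.mem_singleton, not_or] at hr
            exact hwc r hr.1 hr.2
          have hwab : w a * w b = 1 := by
            have h3 : (z * z) (e a) = (w a * w b) • e a := by
              rw [LinearEquiv.mul_apply, hw a, map_smul, ← hb, hw b, hba, smul_smul]
            rw [hzz, LinearEquiv.coe_one, id_eq] at h3
            have h4 : ((w a * w b) - 1) • e a = 0 := by rw [sub_smul, ← h3, one_smul, sub_self]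
            rcases smul_eq_zero.1 h4 with h5 | h5
            · exact sub_eq_zero.1 h5
            · exact absurd h5 (fr_ne_zero hfr a)
          rw [hz1', hπswap, Equiv.Perm.sign_swap (Ne.symm ha), hprod, hwab] at hdz
          simp only [Units.val_one, Units.val_neg, Int.cast_neg, Int.cast_one, mul_one] at hdz
          apply h2
          linear_combination hdz
        · refine rank_contra hfr h2 z U hzU (fun r => r = a ∨ r = b) (fun r hr => ?_) ?_
          · push Not at hr
            rw [hw r, hwc r hr.1 hr.2, hother r hr.1 hr.2, neg_smul, one_smul]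
          · have h3 : Fintype.card {r : ι // r = a ∨ r = b} ≤ 2 := by
              rw [Fintype.card_subtype]
              refine le_trans (Finset.card_le_card ?_) (Finset.card_le_two (a := a) (b := b))
              intro r hr
              simp only [Finset.mem_filter, Finset.mem_univ, true_and] at hr
              simpa using hr
            omega

end Cfsg.Agent.Lib.Helper73_FrC_PK14
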