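import Cfsg.Agent.Lib.Helper73_PermCount

set_option autoImplicit false
set_option maxRecDepth 1000000

namespace Cfsg.Agent.Lib.Helper73_G00

open Cfsg.Agent.Lib.Helper73_PermCount

/-! A permutation group of order 168 on 7 points, with enumeration certificate. -/

def g0 : Equiv.Perm (Fin 7) := mkPerm ![2, 5, 4, 0, 1, 6, 3] ![3, 4, 0, 6, 2, 1, 5] (by decide) (by decide)
def g1 : Equiv.Perm (Fin 7) := mkPerm ![5, 6, 0, 4, 2, 1, 3] ![2, 5, 4, 6, 3, 0, 1] (by decide) (by decide)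

def gens : List (Equiv.Perm (Fin 7)) := [g0, g1]

def S : List ℕ := [3423604898, 3257008325]

def T : Tr := (Tr.node (Tr.node (Tr.node (Tr.node (Tr.node (Tr.node (Tr.node (Tr.node Tr.leaf 36902018 8 0 3361899584 Tr.leaf) 37918818 6 1 2318402756 Tr.leaf) 38931650 7 0 3356563616 (Tr.node (Tr.node Tr.leaf 39948450 7 0 3360884768 Tr.leaf) 70424705 7 0 3227554884 Tr.leaf)) 71504993 4 1 2284880069 (Tr.node (Tr.node (Tr.node Tr.leaf 72454337 8 0 3222472868 Tr.leaf) 73534625 6 1 2282854405 Tr.leaf) 101913668 6 1 2354086019 (Tr.node Tr.leaf 102930468 8 1 2353005731 Tr.leaf))) 105972932 2 0 3423604898 (Tr.node (Tr.node (Tr.node (Tr.node Tr.leaf 106989732 4 1 2350026755 Tr.leaf) 135436355 4 1 2253390982 Tr.leaf) 136516643 7 0 3288499334 (Tr.node (Tr.node Tr.leaf 139495619 8 1 2248314918 Tr.leaf) 140575907 6 0 3293581350 Tr.leaf)) 168954950 7 0 3259045893 (Tr.node (Tr.node (Tr.node Tr.leaf 169971750 6 1 2151877793 Tr.leaf)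 170984582 4 1 2153911393 Tr.leaf) 172001382 2 0 3257008325 (Tr.node Tr.leaf 202477637 6 1 2186480768 Tr.leaf)))) 203557925 9 0 3389069441 (Tr.node (Tr.node (Tr.node (Tr.node (Tr.node Tr.leaf 204507269 6 0 3395420225 Tr.leaf) 205587557 8 0 3391099073 Tr.leaf) 1077088418 3 0 4402087968 (Tr.node (Tr.node Tr.leaf 1078103234 7 0 4397766816 Tr.leaf) 1079122018 5 1 5435917508 Tr.leaf)) 1080136834 5 0 4401071168 (Tr.node (Tr.node (Tr.node Tr.leaf 1144133792 5 0 4301329443 Tr.leaf) 1145148608 6 1 5506269218 Tr.leaf) 1146294368 7 0 4296181955 (Tr.node Tr.leaf 1147309184 4 1 5503981666 Tr.leaf))) 1174605893 8 1 5572168832 (Tr.node (Tr.node (Tr.node (Tr.node Tr.leaf 1176639493 3 0 4496364641 Tr.leaf) 1178665157 8 0 4498394273 Tr.leaf) 1180698757 9 1 5571154016 (Tr.node Tr.leaf 1208126534 5 0 4365260805 Tr.leaf)) 1210160134 7 0 4362273893 (Tr.node (Tr.node (Tr.node Tr.leaf 1211170982 8 0 4368370725 Tr.leaf) 1213204582 7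 0 4363223237 Tr.leaf) 1241651267 6 1 5370905734 (Tr.node Tr.leaf 1243811843 5 0 4328687718 Tr.leaf))))) 1245710531 8 0 4330717350 (Tr.node (Tr.node (Tr.node (Tr.node (Tr.node (Tr.node Tr.leaf 1247871107 7 0 4333767750 Tr.leaf) 1275171908 4 1 5404557443 Tr.leaf) 1277332484 6 1 5406464067 (Tr.node (Tr.node Tr.leaf 1278216356 7 0 4469129250 Tr.leaf) 1280376932 8 1 5402396867 Tr.leaf)) 2150797505 5 0 106989732 (Tr.node (Tr.node (Tr.node Tr.leaf 2151877793 5 1 4365260805 Tr.leaf) 2152831105 7 0 101913668 Tr.leaf) 2153911393 3 0 105972932 (Tr.node Tr.leaf 2184320192 7 0 140575907 Tr.leaf))) 2185336992 8 0 136516643 (Tr.node (Tr.node (Tr.node (Tr.node Tr.leaf 2186480768 5 0 135436355 Tr.leaf) 2187497568 9 0 139495619 Tr.leaf) 2248314918 7 0 204507269 (Tr.node Tr.leaf 2249331718 9 0 205587557 Tr.leaf)) 2252374182 9 1 4499605505 (Tr.node (Tr.node (Tr.node Tr.leaf 2253390982 3 1 4496364641 Tr.leaf) 2281901093 7 1 4397766816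 Tr.leaf) 2282854405 5 0 71504993 (Tr.node Tr.leaf 2284880069 3 1 4402087968 Tr.leaf)))) 2287993957 9 0 72454337 (Tr.node (Tr.node (Tr.node (Tr.node (Tr.node Tr.leaf 2315360292 9 0 36902018 Tr.leaf) 2316504068 7 0 37918818 Tr.leaf) 2318402756 5 1 4301329443 (Tr.node (Tr.node Tr.leaf 2321580132 7 1 4296181955 Tr.leaf) 2348946467 5 0 170984582 Tr.leaf)) 2350026755 3 0 172001382 (Tr.node (Tr.node (Tr.node Tr.leaf 2353005731 7 0 169971750 Tr.leaf) 2354086019 5 1 4328687718 Tr.leaf) 3222472868 7 1 6514839555 (Tr.node Tr.leaf 3223487684 7 1 6513759267 Tr.leaf))) 3226540068 8 0 6544168066 (Tr.node (Tr.node (Tr.node (Tr.node Tr.leaf 3227554884 6 0 6548489218 Tr.leaf) 3254978693 7 0 6579978305 Tr.leaf) 3257008325 1 1 6614517792 (Tr.node Tr.leaf 3259045893 6 0 6578771041 Tr.leaf)) 3261075525 7 1 6611340416 (Tr.node (Tr.node (Tr.node Tr.leaf 3288499334 6 0 6445633605 Tr.leaf) 3289514150 7 0 6446713893 Tr.leaf) 3292566534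 7 1 6579978305 (Tr.node Tr.leaf 3293581350 5 1 6576737441 Tr.leaf)))))) 3356563616 6 1 6548489218 (Tr.node (Tr.node (Tr.node (Tr.node (Tr.node (Tr.node (Tr.node Tr.leaf 3357578432 9 0 6509692067 Tr.leaf) 3360884768 6 0 6510772355 Tr.leaf) 3361899584 7 0 6514839555 (Tr.node (Tr.node Tr.leaf 3389069441 8 1 6444680293 Tr.leaf) 3391099073 7 0 6476105892 Tr.leaf)) 3393390593 6 1 6445633605 (Tr.node (Tr.node (Tr.node Tr.leaf 3395420225 5 0 6481316868 Tr.leaf) 3422590082 7 0 6613500992 Tr.leaf) 3423604898 1 0 6614517792 (Tr.node Tr.leaf 3426911234 9 0 6612357216 Tr.leaf))) 3427926050 7 0 6611340416 (Tr.node (Tr.node (Tr.node (Tr.node Tr.leaf 4296181955 6 1 3293581350 Tr.leaf) 4297262243 8 0 2248314918 Tr.leaf) 4300249155 7 1 3288499334 (Tr.node Tr.leaf 4301329443 4 0 2253390982 Tr.leaf)) 4328687718 4 0 2284880069 (Tr.node (Tr.node (Tr.node Tr.leaf 4330717350 7 1 3393390593 Tr.leaf) 4331738118 6 1 3395420225 Tr.leaf)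 4333767750 6 0 2282854405 (Tr.node Tr.leaf 4362273893 6 0 2150797505 Tr.leaf)))) 4363223237 6 0 2151877793 (Tr.node (Tr.node (Tr.node (Tr.node (Tr.node Tr.leaf 4365260805 4 0 2153911393 Tr.leaf) 4368370725 7 1 3356563616 Tr.leaf) 4396750016 8 0 2353005731 (Tr.node (Tr.node Tr.leaf 4397766816 6 0 2348946467 Tr.leaf) 4401071168 4 0 2350026755 Tr.leaf)) 4402087968 2 1 3423604898 (Tr.node (Tr.node (Tr.node Tr.leaf 4462778466 8 1 3223487684 Tr.leaf) 4463791298 9 0 2185336992 Tr.leaf) 4466082818 7 1 3227554884 (Tr.node Tr.leaf 4469129250 6 0 2186480768 Tr.leaf))) 4496364641 2 1 3257008325 (Tr.node (Tr.node (Tr.node (Tr.node Tr.leaf 4498394273 7 1 3259045893 Tr.leaf) 4499605505 8 1 3261075525 Tr.leaf) 4501635137 8 0 2316504068 (Tr.node Tr.leaf 5369890918 9 1 72454337 Tr.leaf)) 5370905734 5 1 71504993 (Tr.node (Tr.node (Tr.node Tr.leaf 5371924518 7 1 73534625 Tr.leaf) 5372939334 4 0 1176639493 Tr.leaf) 5402396867 7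 1 169971750 (Tr.node Tr.leaf 5404557443 3 1 172001382 Tr.leaf))))) 5406464067 5 1 170984582 (Tr.node (Tr.node (Tr.node (Tr.node (Tr.node (Tr.node Tr.leaf 5408624643 8 0 1213204582 Tr.leaf) 5435917508 4 0 1077088418 Tr.leaf) 5437063268 8 0 1078103234 (Tr.node (Tr.node Tr.leaf 5438969892 6 0 1080136834 Tr.leaf) 5442145284 5 1 135436355 Tr.leaf)) 5469442241 8 0 1278216356 (Tr.node (Tr.node (Tr.node Tr.leaf 5471475841 5 0 1275171908 Tr.leaf) 5473763393 7 0 1277332484 Tr.leaf) 5475796993 7 1 202477637 (Tr.node Tr.leaf 5502962882 6 0 1144133792 Tr.leaf))) 5503981666 3 1 105972932 (Tr.node (Tr.node (Tr.node (Tr.node Tr.leaf 5506269218 5 0 1147309184 Tr.leaf) 5509317634 7 1 101913668 Tr.leaf) 5571154016 8 1 38931650 (Tr.node Tr.leaf 5572168832 7 0 1241651267 Tr.leaf)) 5573314592 8 0 1247871107 (Tr.node (Tr.node (Tr.node Tr.leaf 5574329408 6 0 1243811843 Tr.leaf) 6443600005 8 0 5473763393 Tr.leaf) 6444680293 7 1 1145148608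 (Tr.node Tr.leaf 6445633605 5 1 1147309184 Tr.leaf)))) 6446713893 6 0 5471475841 (Tr.node (Tr.node (Tr.node (Tr.node (Tr.node Tr.leaf 6476105892 6 0 5506269218 Tr.leaf) 6478266468 7 0 5502962882 Tr.leaf) 6479156292 8 0 5509317634 (Tr.node (Tr.node Tr.leaf 6481316868 4 0 5503981666 Tr.leaf) 6509692067 8 0 5371924518 Tr.leaf)) 6510772355 5 0 5372939334 (Tr.node (Tr.node (Tr.node Tr.leaf 6513759267 6 0 5370905734 Tr.leaf) 6514839555 6 1 1208126534 Tr.leaf) 6543151266 7 1 1277332484 (Tr.node Tr.leaf 6544168066 7 0 5574329408 Tr.leaf))) 6547472418 8 0 5572168832 (Tr.node (Tr.node (Tr.node (Tr.node Tr.leaf 6548489218 5 1 1275171908 Tr.leaf) 6576737441 4 1 1176639493 Tr.leaf) 6578771041 5 0 5435917508 (Tr.node Tr.leaf 6579978305 6 0 5442145284 Tr.leaf)) 6582011905 9 0 5437063268 (Tr.node (Tr.node (Tr.node Tr.leaf 6611340416 6 0 5406464067 Tr.leaf) 6612357216 8 0 5402396867 Tr.leaf) 6613500992 6 1 1080136834 (Tr.node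 Tr.leaf 6614517792 0 0 6614517792 Tr.leaf)))))))

def os : List ℕ := [7, 3, 7, 4, 7, 4, 3, 7, 7, 4, 7, 3, 7, 3, 4, 7, 4, 2, 4, 2, 3, 3, 3, 3, 7, 4, 7, 3, 4, 2, 3, 3, 7, 7, 4, 3, 7, 3, 7, 4, 3, 4, 2, 3, 4, 7, 3, 7, 7, 3, 4, 7, 4, 2, 3, 3, 4, 7, 3, 7, 3, 4, 7, 7, 2, 3, 3, 4, 3, 7, 4, 7, 4, 7, 3, 7, 4, 7, 3, 7, 7, 7, 4, 3, 3, 3, 2, 4, 3, 4, 2, 3, 7, 7, 3, 4, 3, 7, 7, 4, 3, 4, 7, 7, 7, 3, 7, 4, 3, 3, 4, 2, 4, 3, 3, 2, 7, 7, 4, 3, 3, 3, 3, 3, 3, 7, 4, 7, 4, 7, 3, 7, 7, 7, 3, 4, 7, 7, 4, 3, 4, 4, 2, 2, 2, 4, 4, 2, 2, 3, 3, 4, 3, 4, 2, 3, 3, 4, 2, 3, 4, 3, 3, 2, 2, 2, 2, 1]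

theorem hd : 7 ≤ 32 := by norm_num

theorem hS : gens.map enc = S := by decide +kernel

theorem h0 : incr T.toL = true := by decide +kernel

theorem h1 : chkNodes 7 S T T.toL = true := by decide +kernel

theorem h2 : chkClosed 7 S T T.toL = true := by decide +kernel

theorem h5 : (T.find (idc 7)).isSome = true := by decide +kernel

theorem h3 : T.toL.map (fun m => ordc 7 m.1) = os := by decide +kernel

theorem h4 : ∀ o ∈ os, o ≠ 0 := by decide +kernel

theorem h84 : ∀ o ∈ os, o ∣ 84 := by decide +kernel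

/-- The group. -/
abbrev K : Type := ↥(grp gens)

theorem F_eq (n : ℕ) :
    Nat.card {g : K // g ^ n = 1} = (os.filter (fun o => n % o = 0)).length :=
  card_pow_eq_one hd gens S T os hS h0 h1 h2 h5 h3 h4 n

def xw : List (ℕ × Bool) := [(1, false), (0, true), (0, true), (1, false), (1, false)]
def yw : List (ℕ × Bool) := [(0, false), (0, false), (1, true)]
def zw : List (ℕ × Bool) := [(0, false), (0, false), (1, false), (0, true), (0, true), (1, false)]

theorem key : eqP (evalW gens xw)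
    (evalW gens zw * (evalW gens xw * (evalW gens yw * evalW gens xw * (evalW gens yw)⁻¹) *
      (evalW gens xw)⁻¹ * (evalW gens yw * evalW gens xw * (evalW gens yw)⁻¹)⁻¹) *
      (evalW gens zw)⁻¹) = true := by decide +kernel

theorem xne : eqP (evalW gens xw) 1 = false := by decide +kernel

theorem notSolvable : ¬ Group.IsSolvable K := by
  have hx : evalW gens xw ≠ 1 := by
    intro h
    have := xne
    rw [h] at this
    simp [eqP] at this
  refine not_isSolvable_of_key (G := K) ⟨evalW gens xw, evalW_mem _ _⟩ ⟨evalW gens yw, evalW_mem _ _⟩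
    ⟨evalW gens zw, evalW_mem _ _⟩ ?_ ?_
  · intro h
    exact hx (congrArg Subtype.val h)
  · apply Subtype.ext
    have := eqP_spec hd _ _ key
    simpa [commutatorElement_def] using this

end Cfsg.Agent.Lib.Helper73_G00
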