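import Cfsg.Agent.Lib.Helper73_PermCount

set_option autoImplicit false
set_option maxRecDepth 1000000

namespace Cfsg.Agent.Lib.Helper73_G01

open Cfsg.Agent.Lib.Helper73_PermCount

/-! A permutation group of order 2 on 2 points, with enumeration certificate. -/

def g0 : Equiv.Perm (Fin 2) := mkPerm ![1, 0] ![1, 0] (by decide) (by decide)

def gens : List (Equiv.Perm (Fin 2)) := [g0]

def S : List ℕ := [1]

def T : Tr := (Tr.node (Tr.node Tr.leaf 1 1 0 32 Tr.leaf) 32 0 0 32 Tr.leaf)

def os : List ℕ := [2, 1]

theorem hd : 2 ≤ 32 := by norm_num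

theorem hS : gens.map enc = S := by decide +kernel

theorem h0 : incr T.toL = true := by decide +kernel

theorem h1 : chkNodes 2 S T T.toL = true := by decide +kernel

theorem h2 : chkClosed 2 S T T.toL = true := by decide +kernel

theorem h5 : (T.find (idc 2)).isSome = true := by decide +kernel

theorem h3 : T.toL.map (fun m => ordc 2 m.1) = os := by decide +kernel

theorem h4 : ∀ o ∈ os, o ≠ 0 := by decide +kernel

theorem h84 : ∀ o ∈ os, o ∣ 84 := by decide +kernel

/-- The group. -/
abbrev K : Type := ↥(grp gens)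

theorem F_eq (n : ℕ) :
    Nat.card {g : K // g ^ n = 1} = (os.filter (fun o => n % o = 0)).length :=
  card_pow_eq_one hd gens S T os hS h0 h1 h2 h5 h3 h4 n


def B1 : List (Equiv.Perm (Fin 2)) := []

def wc0 : List (List (List (ℕ × Bool))) := [[[]]]
def wn1_0 : List (List (List (ℕ × Bool))) := [[]]
def wn2_0 : List (List (List (ℕ × Bool))) := [[]]
theorem hstep0 : stepChk gens B1 wc0 wn1_0 wn2_0 = true := by decide +kernel

theorem solv1 : Group.IsSolvable ↥(grp B1) := isSolvable_grp_nil

theorem solv0 : Group.IsSolvable ↥(grp gens) :=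
  isSolvable_step hd gens B1 wc0 wn1_0 wn2_0 hstep0 solv1

instance instSolvable : Group.IsSolvable K := solv0

end Cfsg.Agent.Lib.Helper73_G01
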