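import Cfsg.Agent.Lib.Helper73_PermCount

set_option autoImplicit false
set_option maxRecDepth 1000000

namespace Cfsg.Agent.Lib.Helper73_G06

open Cfsg.Agent.Lib.Helper73_PermCount

/-! A permutation group of order 12 on 4 points, with enumeration certificate. -/

def g0 : Equiv.Perm (Fin 4) := mkPerm ![3, 1, 0, 2] ![2, 1, 3, 0] (by decide) (by decide)
def g1 : Equiv.Perm (Fin 4) := mkPerm ![1, 3, 2, 0] ![3, 0, 2, 1] (by decide) (by decide)

def gens : List (Equiv.Perm (Fin 4)) := [g0, g1]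

def S : List ℕ := [65571, 2145]

def T : Tr := (Tr.node (Tr.node (Tr.node (Tr.node Tr.leaf 1091 3 0 66656 Tr.leaf) 2145 1 1 100384 (Tr.node Tr.leaf 3106 2 0 65571 Tr.leaf)) 32866 3 1 3106 (Tr.node (Tr.node Tr.leaf 34819 2 1 2145 Tr.leaf) 35904 4 0 32866 Tr.leaf)) 65571 1 0 100384 (Tr.node (Tr.node (Tr.node Tr.leaf 66656 2 1 65571 Tr.leaf) 68609 3 1 66656 Tr.leaf) 98369 2 0 2145 (Tr.node (Tr.node Tr.leaf 99330 4 1 32866 Tr.leaf) 100384 0 0 100384 Tr.leaf)))

def os : List ℕ := [2, 3, 3, 2, 3, 3, 3, 3, 2, 3, 3, 1]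

theorem hd : 4 ≤ 32 := by norm_num

theorem hS : gens.map enc = S := by decide +kernel

theorem h0 : incr T.toL = true := by decide +kernel

theorem h1 : chkNodes 4 S T T.toL = true := by decide +kernel

theorem h2 : chkClosed 4 S T T.toL = true := by decide +kernel

theorem h5 : (T.find (idc 4)).isSome = true := by decide +kernel

theorem h3 : T.toL.map (fun m => ordc 4 m.1) = os := by decide +kernel

theorem h4 : ∀ o ∈ os, o ≠ 0 := by decide +kernel

theorem h84 : ∀ o ∈ os, o ∣ 84 := by decide +kernel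

/-- The group. -/
abbrev K : Type := ↥(grp gens)

theorem F_eq (n : ℕ) :
    Nat.card {g : K // g ^ n = 1} = (os.filter (fun o => n % o = 0)).length :=
  card_pow_eq_one hd gens S T os hS h0 h1 h2 h5 h3 h4 n

def b1_0 : Equiv.Perm (Fin 4) := mkPerm ![3, 2, 1, 0] ![3, 2, 1, 0] (by decide) (by decide)
def b1_1 : Equiv.Perm (Fin 4) := mkPerm ![2, 3, 0, 1] ![2, 3, 0, 1] (by decide) (by decide)

def B1 : List (Equiv.Perm (Fin 4)) := [b1_0, b1_1]


def B2 : List (Equiv.Perm (Fin 4)) := []

def wc0 : List (List (List (ℕ × Bool))) := [[[], [(0, false), (1, false)]], [[(0, false), (1, false)], []]]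
def wn1_0 : List (List (List (ℕ × Bool))) := [[[(0, false), (1, false)], [(0, false)]], [[(0, false), (1, false)], [(0, false)]]]
def wn2_0 : List (List (List (ℕ × Bool))) := [[[(1, false)], [(0, false), (1, false)]], [[(1, false)], [(0, false), (1, false)]]]
theorem hstep0 : stepChk gens B1 wc0 wn1_0 wn2_0 = true := by decide +kernel

def wc1 : List (List (List (ℕ × Bool))) := [[[], []], [[], []]]
def wn1_1 : List (List (List (ℕ × Bool))) := [[], []]
def wn2_1 : List (List (List (ℕ × Bool))) := [[], []]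
theorem hstep1 : stepChk B1 B2 wc1 wn1_1 wn2_1 = true := by decide +kernel

theorem solv2 : Group.IsSolvable ↥(grp B2) := isSolvable_grp_nil

theorem solv1 : Group.IsSolvable ↥(grp B1) :=
  isSolvable_step hd B1 B2 wc1 wn1_1 wn2_1 hstep1 solv2

theorem solv0 : Group.IsSolvable ↥(grp gens) :=
  isSolvable_step hd gens B1 wc0 wn1_0 wn2_0 hstep0 solv1

instance instSolvable : Group.IsSolvable K := solv0

end Cfsg.Agent.Lib.Helper73_G06
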