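import Cfsg.Agent.Lib.Helper73_PermCount

set_option autoImplicit false
set_option maxRecDepth 1000000

namespace Cfsg.Agent.Lib.Helper73_G07

open Cfsg.Agent.Lib.Helper73_PermCount

/-! A permutation group of order 14 on 7 points, with enumeration certificate. -/

def g0 : Equiv.Perm (Fin 7) := mkPerm ![0, 6, 5, 4, 3, 2, 1] ![0, 6, 5, 4, 3, 2, 1] (by decide) (by decide)
def g1 : Equiv.Perm (Fin 7) := mkPerm ![4, 5, 6, 0, 1, 2, 3] ![3, 4, 5, 6, 0, 1, 2] (by decide) (by decide)

def gens : List (Equiv.Perm (Fin 7)) := [g0, g1]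

def S : List ℕ := [1144132800, 3289389220]

def T : Tr := (Tr.node (Tr.node (Tr.node (Tr.node Tr.leaf 35754150 3 0 206703681 Tr.leaf) 206703681 2 1 3289389220 (Tr.node Tr.leaf 1080201314 4 1 4397760709 Tr.leaf)) 1144132800 1 0 6614517792 (Tr.node (Tr.node Tr.leaf 2181239939 3 0 5570070628 Tr.leaf) 2252511233 3 1 5570070628 (Tr.node Tr.leaf 3289389220 1 1 6614517792 Tr.leaf))) 3360882722 4 0 4397760709 (Tr.node (Tr.node (Tr.node Tr.leaf 4397760709 3 1 206703681 Tr.leaf) 4469032003 2 0 3289389220 (Tr.node Tr.leaf 5506139142 4 0 2252511233 Tr.leaf)) 5570070628 2 1 1144132800 (Tr.node (Tr.node Tr.leaf 6443568261 4 1 2252511233 Tr.leaf) 6614517792 0 0 6614517792 Tr.leaf)))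

def os : List ℕ := [2, 7, 7, 2, 7, 2, 7, 2, 7, 2, 7, 2, 2, 1]

theorem hd : 7 ≤ 32 := by norm_num

theorem hS : gens.map enc = S := by decide +kernel

theorem h0 : incr T.toL = true := by decide +kernel

theorem h1 : chkNodes 7 S T T.toL = true := by decide +kernel

theorem h2 : chkClosed 7 S T T.toL = true := by decide +kernel

theorem h5 : (T.find (idc 7)).isSome = true := by decide +kernel

theorem h3 : T.toL.map (fun m => ordc 7 m.1) = os := by decide +kernel

theorem h4 : ∀ o ∈ os, o ≠ 0 := by decide +kernel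

theorem h84 : ∀ o ∈ os, o ∣ 84 := by decide +kernel

/-- The group. -/
abbrev K : Type := ↥(grp gens)

theorem F_eq (n : ℕ) :
    Nat.card {g : K // g ^ n = 1} = (os.filter (fun o => n % o = 0)).length :=
  card_pow_eq_one hd gens S T os hS h0 h1 h2 h5 h3 h4 n

def b1_0 : Equiv.Perm (Fin 7) := mkPerm ![2, 3, 4, 5, 6, 0, 1] ![5, 6, 0, 1, 2, 3, 4] (by decide) (by decide)

def B1 : List (Equiv.Perm (Fin 7)) := [b1_0]


def B2 : List (Equiv.Perm (Fin 7)) := []

def wc0 : List (List (List (ℕ × Bool))) := [[[], [(0, false), (0, false), (0, false)]], [[(0, true), (0, true), (0, true)], []]]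
def wn1_0 : List (List (List (ℕ × Bool))) := [[[(0, true)]], [[(0, false)]]]
def wn2_0 : List (List (List (ℕ × Bool))) := [[[(0, true)]], [[(0, false)]]]
theorem hstep0 : stepChk gens B1 wc0 wn1_0 wn2_0 = true := by decide +kernel

def wc1 : List (List (List (ℕ × Bool))) := [[[]]]
def wn1_1 : List (List (List (ℕ × Bool))) := [[]]
def wn2_1 : List (List (List (ℕ × Bool))) := [[]]
theorem hstep1 : stepChk B1 B2 wc1 wn1_1 wn2_1 = true := by decide +kernel

theorem solv2 : Group.IsSolvable ↥(grp B2) := isSolvable_grp_nil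

theorem solv1 : Group.IsSolvable ↥(grp B1) :=
  isSolvable_step hd B1 B2 wc1 wn1_1 wn2_1 hstep1 solv2

theorem solv0 : Group.IsSolvable ↥(grp gens) :=
  isSolvable_step hd gens B1 wc0 wn1_0 wn2_0 hstep0 solv1

instance instSolvable : Group.IsSolvable K := solv0

end Cfsg.Agent.Lib.Helper73_G07
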