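import Cfsg.Agent.Lib.Helper73_PermCount

set_option autoImplicit false
set_option maxRecDepth 1000000

namespace Cfsg.Agent.Lib.Helper73_G08

open Cfsg.Agent.Lib.Helper73_PermCount

/-! A permutation group of order 21 on 7 points, with enumeration certificate. -/

def g0 : Equiv.Perm (Fin 7) := mkPerm ![2, 3, 4, 5, 6, 0, 1] ![5, 6, 0, 1, 2, 3, 4] (by decide) (by decide)
def g1 : Equiv.Perm (Fin 7) := mkPerm ![3, 0, 4, 1, 5, 2, 6] ![1, 3, 5, 0, 2, 4, 6] (by decide) (by decide)

def gens : List (Equiv.Perm (Fin 7)) := [g0, g1]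

def S : List ℕ := [1080201314, 6514839555]

def T : Tr := (Tr.node (Tr.node (Tr.node (Tr.node (Tr.node Tr.leaf 107025444 2 1 1080201314 Tr.leaf) 170956930 3 1 1208064069 Tr.leaf) 206703681 4 0 5506139142 (Tr.node (Tr.node Tr.leaf 1080201314 1 0 6614517792 Tr.leaf) 1208064069 2 0 6514839555 Tr.leaf)) 1279328419 3 0 6578771041 (Tr.node (Tr.node (Tr.node Tr.leaf 2152826052 4 0 170956930 Tr.leaf) 2181239939 5 0 206703681 Tr.leaf) 2316435558 3 0 107025444 (Tr.node Tr.leaf 3261204485 3 1 107025444 Tr.leaf))) 3289389220 2 0 1080201314 (Tr.node (Tr.node (Tr.node (Tr.node Tr.leaf 3424814208 3 0 1208064069 Tr.leaf) 4298311841 4 0 2316435558 Tr.leaf) 4362243110 4 1 2316435558 (Tr.node (Tr.node Tr.leaf 4397760709 5 1 2152826052 Tr.leaf) 5406461122 4 0 3424814208 Tr.leaf)) 5470621760 4 0 3261204485 (Tr.node (Tr.node (Tr.node Tr.leaf 5506139142 3 0 3289389220 Tr.leaf) 6514839555 1 1 6614517792 Tr.leaf) 6578771041 2 1 6514839555 (Tr.node Tr.leaf 6614517792 0 0 6614517792 Tr.leaf))))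

def os : List ℕ := [3, 3, 7, 7, 3, 3, 3, 7, 3, 3, 7, 3, 3, 3, 7, 3, 3, 7, 3, 3, 1]

theorem hd : 7 ≤ 32 := by norm_num

theorem hS : gens.map enc = S := by decide +kernel

theorem h0 : incr T.toL = true := by decide +kernel

theorem h1 : chkNodes 7 S T T.toL = true := by decide +kernel

theorem h2 : chkClosed 7 S T T.toL = true := by decide +kernel

theorem h5 : (T.find (idc 7)).isSome = true := by decide +kernel

theorem h3 : T.toL.map (fun m => ordc 7 m.1) = os := by decide +kernel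

theorem h4 : ∀ o ∈ os, o ≠ 0 := by decide +kernel

theorem h84 : ∀ o ∈ os, o ∣ 84 := by decide +kernel

/-- The group. -/
abbrev K : Type := ↥(grp gens)

theorem F_eq (n : ℕ) :
    Nat.card {g : K // g ^ n = 1} = (os.filter (fun o => n % o = 0)).length :=
  card_pow_eq_one hd gens S T os hS h0 h1 h2 h5 h3 h4 n

def b1_0 : Equiv.Perm (Fin 7) := mkPerm ![2, 3, 4, 5, 6, 0, 1] ![5, 6, 0, 1, 2, 3, 4] (by decide) (by decide)

def B1 : List (Equiv.Perm (Fin 7)) := [b1_0]


def B2 : List (Equiv.Perm (Fin 7)) := []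

def wc0 : List (List (List (ℕ × Bool))) := [[[], [(0, true), (0, true), (0, true)]], [[(0, false), (0, false), (0, false)], []]]
def wn1_0 : List (List (List (ℕ × Bool))) := [[[(0, false)]], [[(0, true), (0, true), (0, true)]]]
def wn2_0 : List (List (List (ℕ × Bool))) := [[[(0, false)]], [[(0, false), (0, false)]]]
theorem hstep0 : stepChk gens B1 wc0 wn1_0 wn2_0 = true := by decide +kernel

def wc1 : List (List (List (ℕ × Bool))) := [[[]]]
def wn1_1 : List (List (List (ℕ × Bool))) := [[]]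
def wn2_1 : List (List (List (ℕ × Bool))) := [[]]
theorem hstep1 : stepChk B1 B2 wc1 wn1_1 wn2_1 = true := by decide +kernel

theorem solv2 : Group.IsSolvable ↥(grp B2) := isSolvable_grp_nil

theorem solv1 : Group.IsSolvable ↥(grp B1) :=
  isSolvable_step hd B1 B2 wc1 wn1_1 wn2_1 hstep1 solv2

theorem solv0 : Group.IsSolvable ↥(grp gens) :=
  isSolvable_step hd gens B1 wc0 wn1_0 wn2_0 hstep0 solv1

instance instSolvable : Group.IsSolvable K := solv0

end Cfsg.Agent.Lib.Helper73_G08
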