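import Cfsg.Agent.Lib.Helper73_PermCount

set_option autoImplicit false
set_option maxRecDepth 1000000

namespace Cfsg.Agent.Lib.Helper73_G10

open Cfsg.Agent.Lib.Helper73_PermCount

/-! A permutation group of order 28 on 11 points, with enumeration certificate. -/

def g0 : Equiv.Perm (Fin 11) := mkPerm ![3, 2, 1, 0, 6, 5, 4, 8, 9, 10, 7] ![3, 2, 1, 0, 6, 5, 4, 10, 7, 8, 9] (by decide) (by decide)
def g1 : Equiv.Perm (Fin 11) := mkPerm ![5, 6, 0, 1, 2, 3, 4, 9, 10, 7, 8] ![2, 3, 4, 5, 6, 0, 1, 9, 10, 7, 8] (by decide) (by decide)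

def gens : List (Equiv.Perm (Fin 11)) := [g0, g1]

def S : List ℕ := [8243318020375619, 9264798611046597]

def T : Tr := (Tr.node (Tr.node (Tr.node (Tr.node (Tr.node Tr.leaf 8243313587097766 3 1 10422616569583617 Tr.leaf) 8243314695476416 3 0 11584697209656451 (Tr.node Tr.leaf 8243315803854849 4 1 10422618786104387 Tr.leaf)) 8243316912226338 5 1 10422619887143012 (Tr.node (Tr.node Tr.leaf 8243318020375619 1 0 11584701642934304 Tr.leaf) 8243319121414244 5 0 11584700534555654 (Tr.node Tr.leaf 8243319994911877 4 0 11584699426177221 Tr.leaf))) 9264794419989569 3 1 11584697209656451 (Tr.node (Tr.node (Tr.node Tr.leaf 9264795293487202 5 0 8243315803854849 Tr.leaf) 9264796394525827 4 1 11584699426177221 (Tr.node Tr.leaf 9264797502675108 4 0 8243313587097766 Tr.leaf)) 9264798611046597 1 1 11584701642934304 (Tr.node (Tr.node Tr.leaf 9264799719425030 6 1 11584695235120193 Tr.leaf) 9264800827803680 2 0 8243318020375619 Tr.leaf))) 10422614352826534 5 1 8243315803854849 (Tr.node (Tr.node (Tr.node (Tr.node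 Tr.leaf 10422615461205184 5 0 9264796394525827 Tr.leaf) 10422616569583617 2 1 8243318020375619 (Tr.node Tr.leaf 10422617677955106 4 0 9264794419989569 Tr.leaf)) 10422618786104387 3 0 9264800827803680 (Tr.node (Tr.node Tr.leaf 10422619887143012 4 1 8243313587097766 Tr.leaf) 10422620760640645 2 0 9264798611046597 Tr.leaf)) 11584695235120193 5 1 9264796394525827 (Tr.node (Tr.node (Tr.node Tr.leaf 11584696108617826 3 0 10422616569583617 Tr.leaf) 11584697209656451 2 1 9264798611046597 (Tr.node Tr.leaf 11584698317805732 6 0 10422614352826534 Tr.leaf)) 11584699426177221 3 1 9264800827803680 (Tr.node (Tr.node Tr.leaf 11584700534555654 4 1 9264794419989569 Tr.leaf) 11584701642934304 0 0 11584701642934304 Tr.leaf))))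

def os : List ℕ := [4, 4, 4, 4, 4, 4, 4, 14, 14, 14, 14, 14, 14, 2, 4, 4, 4, 4, 4, 4, 4, 7, 7, 7, 7, 7, 7, 1]

theorem hd : 11 ≤ 32 := by norm_num

theorem hS : gens.map enc = S := by decide +kernel

theorem h0 : incr T.toL = true := by decide +kernel

theorem h1 : chkNodes 11 S T T.toL = true := by decide +kernel

theorem h2 : chkClosed 11 S T T.toL = true := by decide +kernel

theorem h5 : (T.find (idc 11)).isSome = true := by decide +kernel

theorem h3 : T.toL.map (fun m => ordc 11 m.1) = os := by decide +kernel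

theorem h4 : ∀ o ∈ os, o ≠ 0 := by decide +kernel

theorem h84 : ∀ o ∈ os, o ∣ 84 := by decide +kernel

/-- The group. -/
abbrev K : Type := ↥(grp gens)

theorem F_eq (n : ℕ) :
    Nat.card {g : K // g ^ n = 1} = (os.filter (fun o => n % o = 0)).length :=
  card_pow_eq_one hd gens S T os hS h0 h1 h2 h5 h3 h4 n

def b1_0 : Equiv.Perm (Fin 11) := mkPerm ![6, 0, 1, 2, 3, 4, 5, 7, 8, 9, 10] ![1, 2, 3, 4, 5, 6, 0, 7, 8, 9, 10] (by decide) (by decide)

def B1 : List (Equiv.Perm (Fin 11)) := [b1_0]


def B2 : List (Equiv.Perm (Fin 11)) := []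

def wc0 : List (List (List (ℕ × Bool))) := [[[], [(0, false), (0, false), (0, false)]], [[(0, true), (0, true), (0, true)], []]]
def wn1_0 : List (List (List (ℕ × Bool))) := [[[(0, true)]], [[(0, false)]]]
def wn2_0 : List (List (List (ℕ × Bool))) := [[[(0, true)]], [[(0, false)]]]
theorem hstep0 : stepChk gens B1 wc0 wn1_0 wn2_0 = true := by decide +kernel

def wc1 : List (List (List (ℕ × Bool))) := [[[]]]
def wn1_1 : List (List (List (ℕ × Bool))) := [[]]
def wn2_1 : List (List (List (ℕ × Bool))) := [[]]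
theorem hstep1 : stepChk B1 B2 wc1 wn1_1 wn2_1 = true := by decide +kernel

theorem solv2 : Group.IsSolvable ↥(grp B2) := isSolvable_grp_nil

theorem solv1 : Group.IsSolvable ↥(grp B1) :=
  isSolvable_step hd B1 B2 wc1 wn1_1 wn2_1 hstep1 solv2

theorem solv0 : Group.IsSolvable ↥(grp gens) :=
  isSolvable_step hd gens B1 wc0 wn1_0 wn2_0 hstep0 solv1

instance instSolvable : Group.IsSolvable K := solv0

end Cfsg.Agent.Lib.Helper73_G10
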