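import Cfsg.Agent.Lib.Helper73_PermCount

set_option autoImplicit false
set_option maxRecDepth 1000000

namespace Cfsg.Agent.Lib.Helper73_G11

open Cfsg.Agent.Lib.Helper73_PermCount

/-! A permutation group of order 56 on 11 points, with enumeration certificate. -/

def g0 : Equiv.Perm (Fin 11) := mkPerm ![1, 0, 2, 3, 10, 4, 5, 6, 7, 8, 9] ![1, 0, 2, 3, 5, 6, 7, 8, 9, 10, 4] (by decide) (by decide)
def g1 : Equiv.Perm (Fin 11) := mkPerm ![2, 3, 1, 0, 8, 7, 6, 5, 4, 10, 9] ![3, 2, 0, 1, 8, 7, 6, 5, 4, 10, 9] (by decide) (by decide)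

def gens : List (Equiv.Perm (Fin 11)) := [g0, g1]

def S : List ℕ := [10422482391631873, 10489519413396578]

def T : Tr := (Tr.node (Tr.node (Tr.node (Tr.node (Tr.node (Tr.node Tr.leaf 4686367978161219 8 0 5848587229495363 Tr.leaf) 4686367978161250 3 1 9260263367870496 (Tr.node Tr.leaf 4686367978192963 5 0 5848587229463619 Tr.leaf)) 4686367978192994 6 0 5848587229463650 (Tr.node (Tr.node Tr.leaf 4865621553646593 8 1 9334996736148578 Tr.leaf) 4865621553646624 5 1 9334996736148547 (Tr.node Tr.leaf 4865621553678337 3 1 9334996736180322 Tr.leaf))) 4865621553678368 6 0 5781550207698945 (Tr.node (Tr.node (Tr.node Tr.leaf 5781550207667201 4 1 8173017995674722 Tr.leaf) 5781550207667232 7 1 8173017995674691 (Tr.node Tr.leaf 5781550207698945 5 0 6936072884946976 Tr.leaf)) 5781550207698976 6 1 8173017995706435 (Tr.node (Tr.node Tr.leaf 5848587229463619 4 1 8098051625420801 Tr.leaf) 5848587229463650 5 0 7010806253256802 Tr.leaf))) 5848587229495363 7 0 7010806253225027 (Tr.node (Tr.node (Tr.node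 (Tr.node Tr.leaf 5848587229495394 6 0 7010806253225058 Tr.leaf) 6936072884915201 6 1 7010806253225058 (Tr.node Tr.leaf 6936072884915232 7 1 7010806253225027 Tr.leaf)) 6936072884946945 5 1 7010806253256802 (Tr.node (Tr.node Tr.leaf 6936072884946976 4 0 8098051625420801 Tr.leaf) 7010806253225027 6 0 8173017995706435 Tr.leaf)) 7010806253225058 5 1 6936072884946976 (Tr.node (Tr.node (Tr.node Tr.leaf 7010806253256771 7 0 8173017995674691 Tr.leaf) 7010806253256802 4 0 8173017995674722 (Tr.node Tr.leaf 8098051625389057 6 1 5848587229463650 Tr.leaf)) 8098051625389088 5 1 5848587229463619 (Tr.node (Tr.node Tr.leaf 8098051625420801 3 0 9260263367870496 Tr.leaf) 8098051625420832 8 1 5848587229495363 Tr.leaf)))) 8173017995674691 6 1 5781550207698945 (Tr.node (Tr.node (Tr.node (Tr.node (Tr.node Tr.leaf 8173017995674722 3 0 9334996736180322 Tr.leaf) 8173017995706435 5 0 9334996736148547 (Tr.node Tr.leaf 8173017995706466 8 0 9334996736148578 Tr.leaf)) 9260263367838721 4 1 4686367978161250 (Tr.node (Tr.node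 Tr.leaf 9260263367838752 9 1 4686367978161219 Tr.leaf) 9260263367870465 7 1 4686367978192994 Tr.leaf)) 9260263367870496 2 0 10422482391631873 (Tr.node (Tr.node (Tr.node Tr.leaf 9334996736148547 4 0 10489519413428291 Tr.leaf) 9334996736148578 7 1 4865621553678368 (Tr.node Tr.leaf 9334996736180291 9 0 10489519413396547 Tr.leaf)) 9334996736180322 2 0 10489519413396578 (Tr.node (Tr.node Tr.leaf 10422482391600129 8 1 11405448067417186 Tr.leaf) 10422482391600160 3 1 11405448067417155 Tr.leaf))) 10422482391631873 1 0 11584701642934304 (Tr.node (Tr.node (Tr.node (Tr.node Tr.leaf 10422482391631904 8 0 11584701642934273 Tr.leaf) 10489519413396547 8 1 11584701642934273 (Tr.node Tr.leaf 10489519413396578 1 1 11584701642934304 Tr.leaf)) 10489519413428291 3 0 11405448067417155 (Tr.node (Tr.node Tr.leaf 10489519413428322 8 0 11405448067417186 Tr.leaf) 11405448067417155 2 1 10422482391631873 Tr.leaf)) 11405448067417186 7 0 4686367978192994 (Tr.node (Tr.node (Tr.node Tr.leaf 11405448067448899 9 0 4686367978161219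 Tr.leaf) 11405448067448930 4 0 4686367978161250 (Tr.node Tr.leaf 11584701642902529 2 1 10489519413396578 Tr.leaf)) 11584701642902560 9 1 10489519413396547 (Tr.node (Tr.node Tr.leaf 11584701642934273 7 0 4865621553678368 Tr.leaf) 11584701642934304 0 0 11584701642934304 Tr.leaf)))))

def os : List ℕ := [2, 4, 4, 2, 14, 14, 14, 7, 14, 14, 14, 7, 2, 4, 4, 2, 14, 14, 14, 7, 2, 4, 4, 2, 14, 14, 14, 7, 2, 4, 4, 2, 14, 14, 14, 7, 2, 4, 4, 2, 14, 14, 14, 7, 2, 4, 4, 2, 2, 4, 4, 2, 2, 2, 2, 1]

theorem hd : 11 ≤ 32 := by norm_num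

theorem hS : gens.map enc = S := by decide +kernel

theorem h0 : incr T.toL = true := by decide +kernel

theorem h1 : chkNodes 11 S T T.toL = true := by decide +kernel

theorem h2 : chkClosed 11 S T T.toL = true := by decide +kernel

theorem h5 : (T.find (idc 11)).isSome = true := by decide +kernel

theorem h3 : T.toL.map (fun m => ordc 11 m.1) = os := by decide +kernel

theorem h4 : ∀ o ∈ os, o ≠ 0 := by decide +kernel

theorem h84 : ∀ o ∈ os, o ∣ 84 := by decide +kernel

/-- The group. -/
abbrev K : Type := ↥(grp gens)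

theorem F_eq (n : ℕ) :
    Nat.card {g : K // g ^ n = 1} = (os.filter (fun o => n % o = 0)).length :=
  card_pow_eq_one hd gens S T os hS h0 h1 h2 h5 h3 h4 n

def b1_0 : Equiv.Perm (Fin 11) := mkPerm ![1, 0, 3, 2, 6, 7, 8, 9, 10, 4, 5] ![1, 0, 3, 2, 9, 10, 4, 5, 6, 7, 8] (by decide) (by decide)

def B1 : List (Equiv.Perm (Fin 11)) := [b1_0]


def B2 : List (Equiv.Perm (Fin 11)) := []

def wc0 : List (List (List (ℕ × Bool))) := [[[], [(0, true)]], [[(0, false)], []]]
def wn1_0 : List (List (List (ℕ × Bool))) := [[[(0, false)]], [[(0, true)]]]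
def wn2_0 : List (List (List (ℕ × Bool))) := [[[(0, false)]], [[(0, true)]]]
theorem hstep0 : stepChk gens B1 wc0 wn1_0 wn2_0 = true := by decide +kernel

def wc1 : List (List (List (ℕ × Bool))) := [[[]]]
def wn1_1 : List (List (List (ℕ × Bool))) := [[]]
def wn2_1 : List (List (List (ℕ × Bool))) := [[]]
theorem hstep1 : stepChk B1 B2 wc1 wn1_1 wn2_1 = true := by decide +kernel

theorem solv2 : Group.IsSolvable ↥(grp B2) := isSolvable_grp_nil

theorem solv1 : Group.IsSolvable ↥(grp B1) :=
  isSolvable_step hd B1 B2 wc1 wn1_1 wn2_1 hstep1 solv2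

theorem solv0 : Group.IsSolvable ↥(grp gens) :=
  isSolvable_step hd gens B1 wc0 wn1_0 wn2_0 hstep0 solv1

instance instSolvable : Group.IsSolvable K := solv0

end Cfsg.Agent.Lib.Helper73_G11
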