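import Cfsg.Agent.Lib.Helper73_PermCount

set_option autoImplicit false
set_option maxRecDepth 1000000

namespace Cfsg.Agent.Lib.Helper73_G12

open Cfsg.Agent.Lib.Helper73_PermCount

/-! A permutation group of order 56 on 11 points, with enumeration certificate. -/

def g0 : Equiv.Perm (Fin 11) := mkPerm ![4, 5, 6, 0, 1, 2, 3, 10, 9, 7, 8] ![3, 4, 5, 6, 0, 1, 2, 9, 10, 8, 7] (by decide) (by decide)
def g1 : Equiv.Perm (Fin 11) := mkPerm ![2, 1, 0, 6, 5, 4, 3, 10, 9, 8, 7] ![2, 1, 0, 6, 5, 4, 3, 10, 9, 8, 7] (by decide) (by decide)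

def gens : List (Equiv.Perm (Fin 11)) := [g0, g1]

def S : List ℕ := [9263732350785700, 8173016887525410]

def T : Tr := (Tr.node (Tr.node (Tr.node (Tr.node (Tr.node (Tr.node Tr.leaf 8173013562396838 9 0 10493982854545442 Tr.leaf) 8173014670775488 5 1 11584696108617826 (Tr.node Tr.leaf 8173015779153921 13 0 10493985063733348 Tr.leaf)) 8173016887525410 1 1 11584701642934304 (Tr.node (Tr.node Tr.leaf 8173017995674691 13 1 11584700534555654 Tr.leaf) 8173019096713316 5 0 10493980637795520 (Tr.node Tr.leaf 8173019970210949 9 1 11584698317805732 Tr.leaf))) 8174078885235777 7 1 11583632129038337 (Tr.node (Tr.node (Tr.node Tr.leaf 8174079758733410 11 0 10492918739534021 Tr.leaf) 8174080859772035 3 1 11583629912281254 (Tr.node Tr.leaf 8174081967921316 15 0 10492920956291104 Tr.leaf)) 8174083076292805 3 0 10492914548476993 (Tr.node (Tr.node Tr.leaf 8174084184671238 11 1 11583634345559107 Tr.leaf) 8174085293049888 7 0 10492916523013251 Tr.leaf))) 9263729268100161 9 0 11584698317805732 (Tr.node (Tr.node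 (Tr.node (Tr.node Tr.leaf 9263730141597794 5 1 10493980637795520 Tr.leaf) 9263731242636419 13 0 11584700534555654 (Tr.node Tr.leaf 9263732350785700 1 0 11584701642934304 Tr.leaf)) 9263733459157189 13 1 10493985063733348 (Tr.node (Tr.node Tr.leaf 9263734567535622 5 0 11584696108617826 Tr.leaf) 9263735675914272 9 1 10493982854545442 Tr.leaf)) 9264794249040038 7 1 10492916523013251 (Tr.node (Tr.node (Tr.node Tr.leaf 9264795357418688 11 0 11583634345559107 Tr.leaf) 9264796465797121 3 1 10492914548476993 (Tr.node Tr.leaf 9264797574168610 15 1 10492920956291104 Tr.leaf)) 9264798682317891 3 0 11583629912281254 (Tr.node (Tr.node Tr.leaf 9264799783356516 11 1 10492918739534021 Tr.leaf) 9264800656854149 7 0 11583632129038337 Tr.leaf)))) 10492914548476993 2 0 9263732350785700 (Tr.node (Tr.node (Tr.node (Tr.node (Tr.node Tr.leaf 10492915421974626 12 1 9264795357418688 Tr.leaf) 10492916523013251 6 0 9263734567535622 (Tr.node Tr.leaf 10492917631162532 8 1 9264800656854149 Tr.leaf)) 10492918739534021 10 0 9263729268100161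 (Tr.node (Tr.node Tr.leaf 10492919847912454 4 1 9264798682317891 Tr.leaf) 10492920956291104 14 0 9263731242636419 Tr.leaf)) 10493979529416870 14 1 9263731242636419 (Tr.node (Tr.node (Tr.node Tr.leaf 10493980637795520 4 0 9264798682317891 Tr.leaf) 10493981746173953 10 1 9263729268100161 (Tr.node Tr.leaf 10493982854545442 8 0 9264800656854149 Tr.leaf)) 10493983962694723 6 1 9263734567535622 (Tr.node (Tr.node Tr.leaf 10493985063733348 12 0 9264795357418688 Tr.leaf) 10493985937230981 2 1 9263732350785700 Tr.leaf))) 11583629912281254 2 0 8173016887525410 (Tr.node (Tr.node (Tr.node (Tr.node Tr.leaf 11583631020659904 12 1 8174079758733410 Tr.leaf) 11583632129038337 6 0 8173019096713316 (Tr.node Tr.leaf 11583633237409826 8 1 8174085293049888 Tr.leaf)) 11583634345559107 10 0 8173013562396838 (Tr.node (Tr.node Tr.leaf 11583635446597732 4 1 8174083076292805 Tr.leaf) 11583636320095365 14 0 8173015779153921 Tr.leaf)) 11584695235120193 14 1 8173015779153921 (Tr.node (Tr.node (Tr.node Tr.leaf 11584696108617826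 4 0 8174083076292805 Tr.leaf) 11584697209656451 10 1 8173013562396838 (Tr.node Tr.leaf 11584698317805732 8 0 8174085293049888 Tr.leaf)) 11584699426177221 6 1 8173019096713316 (Tr.node (Tr.node Tr.leaf 11584700534555654 12 0 8174079758733410 Tr.leaf) 11584701642934304 0 0 11584701642934304 Tr.leaf)))))

def os : List ℕ := [2, 2, 2, 2, 2, 2, 2, 28, 28, 28, 28, 28, 28, 4, 28, 28, 28, 28, 28, 28, 4, 2, 2, 2, 2, 2, 2, 2, 14, 14, 14, 14, 14, 14, 2, 2, 2, 2, 2, 2, 2, 2, 2, 2, 2, 2, 2, 2, 2, 7, 7, 7, 7, 7, 7, 1]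

theorem hd : 11 ≤ 32 := by norm_num

theorem hS : gens.map enc = S := by decide +kernel

theorem h0 : incr T.toL = true := by decide +kernel

theorem h1 : chkNodes 11 S T T.toL = true := by decide +kernel

theorem h2 : chkClosed 11 S T T.toL = true := by decide +kernel

theorem h5 : (T.find (idc 11)).isSome = true := by decide +kernel

theorem h3 : T.toL.map (fun m => ordc 11 m.1) = os := by decide +kernel

theorem h4 : ∀ o ∈ os, o ≠ 0 := by decide +kernel

theorem h84 : ∀ o ∈ os, o ∣ 84 := by decide +kernel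

/-- The group. -/
abbrev K : Type := ↥(grp gens)

theorem F_eq (n : ℕ) :
    Nat.card {g : K // g ^ n = 1} = (os.filter (fun o => n % o = 0)).length :=
  card_pow_eq_one hd gens S T os hS h0 h1 h2 h5 h3 h4 n

def b1_0 : Equiv.Perm (Fin 11) := mkPerm ![1, 2, 3, 4, 5, 6, 0, 8, 7, 10, 9] ![6, 0, 1, 2, 3, 4, 5, 8, 7, 10, 9] (by decide) (by decide)

def B1 : List (Equiv.Perm (Fin 11)) := [b1_0]


def B2 : List (Equiv.Perm (Fin 11)) := []

def wc0 : List (List (List (ℕ × Bool))) := [[[], [(0, false)]], [[(0, true)], []]]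
def wn1_0 : List (List (List (ℕ × Bool))) := [[[(0, false)]], [[(0, true)]]]
def wn2_0 : List (List (List (ℕ × Bool))) := [[[(0, false)]], [[(0, true)]]]
theorem hstep0 : stepChk gens B1 wc0 wn1_0 wn2_0 = true := by decide +kernel

def wc1 : List (List (List (ℕ × Bool))) := [[[]]]
def wn1_1 : List (List (List (ℕ × Bool))) := [[]]
def wn2_1 : List (List (List (ℕ × Bool))) := [[]]
theorem hstep1 : stepChk B1 B2 wc1 wn1_1 wn2_1 = true := by decide +kernel

theorem solv2 : Group.IsSolvable ↥(grp B2) := isSolvable_grp_nil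

theorem solv1 : Group.IsSolvable ↥(grp B1) :=
  isSolvable_step hd B1 B2 wc1 wn1_1 wn2_1 hstep1 solv2

theorem solv0 : Group.IsSolvable ↥(grp gens) :=
  isSolvable_step hd gens B1 wc0 wn1_0 wn2_0 hstep0 solv1

instance instSolvable : Group.IsSolvable K := solv0

end Cfsg.Agent.Lib.Helper73_G12
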