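import Cfsg.Agent.Lib.Helper73_PermCount

set_option autoImplicit false
set_option maxRecDepth 1000000

namespace Cfsg.Agent.Lib.Helper73_G13

open Cfsg.Agent.Lib.Helper73_PermCount

/-! A permutation group of order 84 on 11 points, with enumeration certificate. -/

def g0 : Equiv.Perm (Fin 11) := mkPerm ![2, 3, 1, 0, 8, 4, 7, 10, 6, 9, 5] ![3, 2, 0, 1, 5, 10, 8, 6, 4, 9, 7] (by decide) (by decide)
def g1 : Equiv.Perm (Fin 11) := mkPerm ![2, 3, 1, 0, 6, 9, 5, 8, 4, 7, 10] ![3, 2, 0, 1, 8, 6, 4, 9, 7, 5, 10] (by decide) (by decide)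

def gens : List (Equiv.Perm (Fin 11)) := [g0, g1]

def S : List ℕ := [5953107208963170, 11509968274457698]

def T : Tr := (Tr.node (Tr.node (Tr.node (Tr.node (Tr.node (Tr.node (Tr.node Tr.leaf 4686367978161250 9 0 5990350110951456 Tr.leaf) 4686367978192963 3 0 5990350110919681 Tr.leaf) 4723851163337826 5 0 5915624023885856 (Tr.node (Tr.node Tr.leaf 4723851163369539 11 0 5915624023854081 Tr.leaf) 4761101346606081 10 1 9334996736148578 Tr.leaf)) 4761101346637856 4 1 9334996736180291 (Tr.node (Tr.node (Tr.node Tr.leaf 4790888185201762 13 1 9260263367870496 Tr.leaf) 4790888185233475 7 1 9260263367838721 Tr.leaf) 4828138368470017 2 0 5953107208963170 (Tr.node Tr.leaf 4828138368501792 8 0 5953107208994883 Tr.leaf))) 4865621553646593 6 0 5885829903811682 (Tr.node (Tr.node (Tr.node (Tr.node Tr.leaf 4865621553678368 12 0 5885829903843395 Tr.leaf) 5781550207667201 6 1 7048049155114082 Tr.leaf) 5781550207698976 12 1 7048049155145795 (Tr.node (Tr.node Tr.leaf 5848587229463650 9 0 11547218457757728 Tr.leaf)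 5848587229495363 3 0 11547218457725953 Tr.leaf)) 5885829903811682 5 1 7077835766335520 (Tr.node (Tr.node (Tr.node Tr.leaf 5885829903843395 11 1 7077835766303745 Tr.leaf) 5915624023854081 10 1 7010806253225058 Tr.leaf) 5915624023885856 4 1 7010806253256771 (Tr.node Tr.leaf 5953107208963170 1 0 11584701642934304 Tr.leaf)))) 5953107208994883 7 0 11584701642902529 (Tr.node (Tr.node (Tr.node (Tr.node (Tr.node Tr.leaf 5990350110919681 2 0 11509968274457698 Tr.leaf) 5990350110951456 8 0 11509968274489411 Tr.leaf) 6906278764940289 14 1 4790888185201762 (Tr.node (Tr.node Tr.leaf 6906278764972064 8 1 4790888185233475 Tr.leaf) 6936072884915201 6 0 9364790856123490 Tr.leaf)) 6936072884946976 12 0 9364790856155203 (Tr.node (Tr.node (Tr.node Tr.leaf 7010806253225058 9 1 4828138368501792 Tr.leaf) 7010806253256771 3 1 4828138368470017 Tr.leaf) 7048049155114082 5 1 4761101346637856 (Tr.node Tr.leaf 7048049155145795 11 1 4761101346606081 Tr.leaf))) 7077835766303745 10 0 9334996736148578 (Tr.node (Tr.node (Tr.node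 (Tr.node Tr.leaf 7077835766335520 4 0 9334996736180291 Tr.leaf) 7115085949437026 13 0 9260263367870496 Tr.leaf) 7115085949468739 7 0 9260263367838721 (Tr.node Tr.leaf 8031014603457634 13 1 10422482391631904 Tr.leaf)) 8031014603489347 7 1 10422482391600129 (Tr.node (Tr.node (Tr.node Tr.leaf 8068497788701697 14 0 7115085949437026 Tr.leaf) 8068497788733472 8 0 7115085949468739 Tr.leaf) 8098051625389057 6 0 7048049155114082 (Tr.node Tr.leaf 8098051625420832 12 0 7048049155145795 Tr.leaf))))) 8173017995674722 9 1 10385239717283872 (Tr.node (Tr.node (Tr.node (Tr.node (Tr.node (Tr.node Tr.leaf 8173017995706435 3 1 10385239717252097 Tr.leaf) 8202571832362082 5 0 7077835766335520 Tr.leaf) 8202571832393795 11 0 7077835766303745 (Tr.node (Tr.node Tr.leaf 8240055017606145 10 0 7010806253225058 Tr.leaf) 8240055017637920 4 0 7010806253256771 Tr.leaf)) 9155983671626753 10 1 8173017995674722 (Tr.node (Tr.node (Tr.node Tr.leaf 9155983671658528 4 1 8173017995706435 Tr.leaf) 9193233854760034 13 0 4865621553678368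 Tr.leaf) 9193233854791747 7 0 4865621553646593 (Tr.node Tr.leaf 9223020465949697 14 0 4790888185201762 Tr.leaf))) 9223020465981472 8 0 4790888185233475 (Tr.node (Tr.node (Tr.node (Tr.node Tr.leaf 9260263367838721 6 1 8202571832362082 Tr.leaf) 9260263367870496 12 1 8202571832393795 Tr.leaf) 9334996736148578 9 0 4828138368501792 (Tr.node Tr.leaf 9334996736180291 3 0 4828138368470017 Tr.leaf)) 9364790856123490 5 0 4761101346637856 (Tr.node (Tr.node (Tr.node Tr.leaf 9364790856155203 11 0 4761101346606081 Tr.leaf) 10280719510144098 5 1 5915624023885856 Tr.leaf) 10280719510175811 11 1 5915624023854081 (Tr.node Tr.leaf 10317962412100609 10 0 10489519413396578 Tr.leaf)))) 10317962412132384 4 0 10489519413428291 (Tr.node (Tr.node (Tr.node (Tr.node (Tr.node Tr.leaf 10355445597209698 13 0 10422482391631904 Tr.leaf) 10355445597241411 7 0 10422482391600129 Tr.leaf) 10385239717252097 2 1 5953107208963170 (Tr.node (Tr.node Tr.leaf 10385239717283872 8 1 5953107208994883 Tr.leaf) 10422482391600129 6 1 5885829903811682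 Tr.leaf)) 10422482391631904 12 1 5885829903843395 (Tr.node (Tr.node (Tr.node Tr.leaf 10489519413396578 9 0 10385239717283872 Tr.leaf) 10489519413428291 3 0 10385239717252097 Tr.leaf) 11405448067417186 9 1 11547218457757728 (Tr.node Tr.leaf 11405448067448899 3 1 11547218457725953 Tr.leaf))) 11442931252593762 5 0 8240055017637920 (Tr.node (Tr.node (Tr.node (Tr.node Tr.leaf 11442931252625475 11 0 8240055017606145 Tr.leaf) 11480181435862017 10 0 8173017995674722 Tr.leaf) 11480181435893792 4 0 8173017995706435 (Tr.node Tr.leaf 11509968274457698 1 1 11584701642934304 Tr.leaf)) 11509968274489411 7 1 11584701642902529 (Tr.node (Tr.node (Tr.node Tr.leaf 11547218457725953 2 1 11509968274457698 Tr.leaf) 11547218457757728 8 1 11509968274489411 Tr.leaf) 11584701642902529 6 0 8202571832362082 (Tr.node Tr.leaf 11584701642934304 0 0 11584701642934304 Tr.leaf))))))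

def os : List ℕ := [4, 4, 12, 12, 6, 3, 12, 12, 6, 3, 14, 7, 14, 7, 4, 4, 12, 12, 6, 3, 12, 12, 6, 3, 6, 3, 14, 7, 4, 4, 12, 12, 6, 3, 12, 12, 12, 12, 6, 3, 14, 7, 4, 4, 12, 12, 6, 3, 6, 3, 12, 12, 6, 3, 14, 7, 4, 4, 12, 12, 12, 12, 6, 3, 12, 12, 6, 3, 14, 7, 4, 4, 4, 4, 12, 12, 6, 3, 12, 12, 6, 3, 2, 1]

theorem hd : 11 ≤ 32 := by norm_num

theorem hS : gens.map enc = S := by decide +kernel

theorem h0 : incr T.toL = true := by decide +kernel

theorem h1 : chkNodes 11 S T T.toL = true := by decide +kernel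

theorem h2 : chkClosed 11 S T T.toL = true := by decide +kernel

theorem h5 : (T.find (idc 11)).isSome = true := by decide +kernel

theorem h3 : T.toL.map (fun m => ordc 11 m.1) = os := by decide +kernel

theorem h4 : ∀ o ∈ os, o ≠ 0 := by decide +kernel

theorem h84 : ∀ o ∈ os, o ∣ 84 := by decide +kernel

/-- The group. -/
abbrev K : Type := ↥(grp gens)

theorem F_eq (n : ℕ) :
    Nat.card {g : K // g ^ n = 1} = (os.filter (fun o => n % o = 0)).length :=
  card_pow_eq_one hd gens S T os hS h0 h1 h2 h5 h3 h4 n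

def b1_0 : Equiv.Perm (Fin 11) := mkPerm ![0, 1, 2, 3, 7, 8, 9, 10, 4, 5, 6] ![0, 1, 2, 3, 8, 9, 10, 4, 5, 6, 7] (by decide) (by decide)

def B1 : List (Equiv.Perm (Fin 11)) := [b1_0]


def B2 : List (Equiv.Perm (Fin 11)) := []

def wc0 : List (List (List (ℕ × Bool))) := [[[], [(0, false)]], [[(0, true)], []]]
def wn1_0 : List (List (List (ℕ × Bool))) := [[[(0, false), (0, false), (0, false)]], [[(0, false), (0, false), (0, false)]]]
def wn2_0 : List (List (List (ℕ × Bool))) := [[[(0, true), (0, true)]], [[(0, true), (0, true)]]]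
theorem hstep0 : stepChk gens B1 wc0 wn1_0 wn2_0 = true := by decide +kernel

def wc1 : List (List (List (ℕ × Bool))) := [[[]]]
def wn1_1 : List (List (List (ℕ × Bool))) := [[]]
def wn2_1 : List (List (List (ℕ × Bool))) := [[]]
theorem hstep1 : stepChk B1 B2 wc1 wn1_1 wn2_1 = true := by decide +kernel

theorem solv2 : Group.IsSolvable ↥(grp B2) := isSolvable_grp_nil

theorem solv1 : Group.IsSolvable ↥(grp B1) :=
  isSolvable_step hd B1 B2 wc1 wn1_1 wn2_1 hstep1 solv2

theorem solv0 : Group.IsSolvable ↥(grp gens) :=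
  isSolvable_step hd gens B1 wc0 wn1_0 wn2_0 hstep0 solv1

instance instSolvable : Group.IsSolvable K := solv0

end Cfsg.Agent.Lib.Helper73_G13
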