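import Cfsg.Agent.Lib.Helper73_PermCount

set_option autoImplicit false
set_option maxRecDepth 1000000

namespace Cfsg.Agent.Lib.Helper73_G14

open Cfsg.Agent.Lib.Helper73_PermCount

/-! A permutation group of order 168 on 8 points, with enumeration certificate. -/

def g0 : Equiv.Perm (Fin 8) := mkPerm ![4, 1, 6, 3, 7, 2, 5, 0] ![7, 1, 5, 3, 0, 6, 2, 4] (by decide) (by decide)
def g1 : Equiv.Perm (Fin 8) := mkPerm ![0, 7, 5, 2, 1, 6, 4, 3] ![0, 4, 3, 7, 6, 2, 5, 1] (by decide) (by decide)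

def gens : List (Equiv.Perm (Fin 8)) := [g0, g1]

def S : List ℕ := [5443262500, 107576628448]

def T : Tr := (Tr.node (Tr.node (Tr.node (Tr.node (Tr.node (Tr.node (Tr.node (Tr.node Tr.leaf 1144132807 7 1 4403169441 Tr.leaf) 1213406275 4 1 4498556007 Tr.leaf) 1282477189 8 0 241663380486 (Tr.node (Tr.node Tr.leaf 2249430150 6 0 245988726786 Tr.leaf) 2288092389 8 1 3428028450 Tr.leaf)) 2387744865 8 0 246027389025 (Tr.node (Tr.node (Tr.node Tr.leaf 3257079012 8 1 7653722150 Tr.leaf) 3428028450 7 1 7686101123 Tr.leaf) 3460335813 6 1 7556172962 (Tr.node Tr.leaf 4403169441 6 0 240623097025 Tr.leaf))) 4463893698 8 1 6513984675 (Tr.node (Tr.node (Tr.node (Tr.node Tr.leaf 4498556007 3 1 6613438689 Tr.leaf) 5406530662 5 0 246994341986 Tr.leaf) 5443262500 1 0 247132686368 (Tr.node (Tr.node Tr.leaf 5475700807 7 0 247063412900 Tr.leaf) 6513984675 7 0 242833556675 Tr.leaf)) 6613438689 2 1 5443262500 (Tr.node (Tr.node (Tr.node Tr.leaf 6678547524 6 1 5406530662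 Tr.leaf) 7556172962 5 1 1213406275 Tr.leaf) 7653722150 7 0 244816483362 (Tr.node Tr.leaf 7686101123 6 0 245019740163 Tr.leaf)))) 34462666982 7 0 41982034050 (Tr.node (Tr.node (Tr.node (Tr.node (Tr.node Tr.leaf 34531940450 8 1 137512391907 Tr.leaf) 34601011364 7 1 137477983302 Tr.leaf) 36510601413 7 1 140667558050 (Tr.node (Tr.node Tr.leaf 36713794788 6 0 39802080384 Tr.leaf) 36746499075 4 0 39862737123 Tr.leaf)) 37648273575 5 1 145055979585 (Tr.node (Tr.node (Tr.node Tr.leaf 37756141764 6 0 37786655808 Tr.leaf) 37786655808 5 1 145129276512 Tr.leaf) 38660053063 8 0 34601011364 (Tr.node Tr.leaf 38729159782 8 1 143983118565 Tr.leaf))) 38761733125 7 1 144121627650 (Tr.node (Tr.node (Tr.node (Tr.node Tr.leaf 39802080384 5 0 40972192775 Tr.leaf) 39862737123 3 1 139787867175 Tr.leaf) 39966605382 7 1 139627528293 (Tr.node Tr.leaf 40809695363 5 0 36746499075 Tr.leaf)) 40939560098 8 1 143016330307 (Tr.node (Tr.node (Tr.node Tr.leaf 40972192775 4 1 142878120961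 Tr.leaf) 41982034050 6 1 138749837507 Tr.leaf) 42012349632 9 0 38660053063 (Tr.node Tr.leaf 42077390949 7 1 138680667362 Tr.leaf))))) 68756348100 4 0 179351785536 (Tr.node (Tr.node (Tr.node (Tr.node (Tr.node (Tr.node Tr.leaf 68894789667 4 1 103147542663 Tr.leaf) 68925033639 7 1 103253417025 Tr.leaf) 69894020262 6 1 107609261125 (Tr.node (Tr.node Tr.leaf 69934946400 2 1 107576628448 Tr.leaf) 69967380615 8 1 107446763713 Tr.leaf)) 71941954693 7 1 110599767234 (Tr.node (Tr.node (Tr.node Tr.leaf 72080164039 6 0 175026439236 Tr.leaf) 72149505025 3 1 110764427268 Tr.leaf) 73020902625 6 0 172035869825 (Tr.node Tr.leaf 73185592326 6 0 172003296482 Tr.leaf))) 73250379939 7 0 171934189763 (Tr.node (Tr.node (Tr.node (Tr.node Tr.leaf 74193241312 7 1 105468039200 Tr.leaf) 74290790500 8 0 178309438560 Tr.leaf) 74323169473 8 0 178382798913 (Tr.node Tr.leaf 75200856291 6 1 108584435751 Tr.leaf)) 75296377893 8 1 108649290882 (Tr.node (Tr.node (Tr.node Tr.leaf 75399992448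 5 0 174083577863 Tr.leaf) 76240949350 8 1 104155191525 Tr.leaf) 76273522693 7 1 104293700610 (Tr.node Tr.leaf 76342629412 7 0 176196655136 Tr.leaf)))) 103147542663 3 0 110764427268 (Tr.node (Tr.node (Tr.node (Tr.node (Tr.node Tr.leaf 103220839590 7 0 110599767234 Tr.leaf) 103253417025 6 1 240590718052 Tr.leaf) 104155191525 7 1 244816483362 (Tr.node (Tr.node Tr.leaf 104293700610 6 1 245019740163 Tr.leaf) 104393083014 7 0 104293700610 Tr.leaf)) 105260488868 8 0 108488952000 (Tr.node (Tr.node (Tr.node Tr.leaf 105398698214 8 0 108649290882 Tr.leaf) 105468039200 6 0 108584435751 Tr.leaf) 107446763713 7 0 103253417025 (Tr.node Tr.leaf 107576628448 1 1 247132686368 Tr.leaf))) 107609261125 5 1 246994341986 (Tr.node (Tr.node (Tr.node (Tr.node Tr.leaf 108488952000 7 1 242801118368 Tr.leaf) 108584435751 5 1 242870288513 Tr.leaf) 108649290882 7 0 109596151813 (Tr.node Tr.leaf 109526981668 7 0 105468039200 Tr.leaf)) 109559419975 8 1 246027389025 (Tr.node (Tr.node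 (Tr.node Tr.leaf 109596151813 6 1 245988726786 Tr.leaf) 110599767234 6 0 107609261125 Tr.leaf) 110764427268 2 0 107576628448 (Tr.node Tr.leaf 110798835873 8 0 107446763713 Tr.leaf)))))) 137477983302 6 0 7556172962 (Tr.node (Tr.node (Tr.node (Tr.node (Tr.node (Tr.node (Tr.node Tr.leaf 137512391907 7 0 7686101123 Tr.leaf) 137677051941 8 0 7653722150 Tr.leaf) 138680667362 6 1 210520677411 (Tr.node (Tr.node Tr.leaf 138717399200 8 0 1144132807 Tr.leaf) 138749837507 5 0 1213406275 Tr.leaf)) 139627528293 6 0 5406530662 (Tr.node (Tr.node (Tr.node Tr.leaf 139692383424 5 1 209616766112 Tr.leaf) 139787867175 2 0 5443262500 Tr.leaf) 140667558050 6 1 213675807811 (Tr.node Tr.leaf 140700190727 8 1 213814152193 Tr.leaf))) 140830055462 8 0 3428028450 (Tr.node (Tr.node (Tr.node (Tr.node Tr.leaf 142808779975 7 0 6678547524 Tr.leaf) 142878120961 3 0 6613438689 Tr.leaf) 143016330307 7 1 208474738791 (Tr.node Tr.leaf 143883736161 7 1 211530320100 Tr.leaf)) 143983118565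 7 0 2249430150 (Tr.node (Tr.node (Tr.node Tr.leaf 144121627650 6 1 211563024387 Tr.leaf) 145023402150 8 1 207337259077 Tr.leaf) 145055979585 4 1 207467123812 (Tr.node Tr.leaf 145129276512 4 0 4498556007 Tr.leaf)))) 171934189763 6 0 213675807811 (Tr.node (Tr.node (Tr.node (Tr.node (Tr.node Tr.leaf 172003296482 5 1 68894789667 Tr.leaf) 172035869825 5 1 68756348100 Tr.leaf) 172876826727 4 0 207467123812 (Tr.node (Tr.node Tr.leaf 172980441282 8 0 207337259077 Tr.leaf) 173075962884 7 1 73185592326 Tr.leaf)) 173953649702 8 1 71941954693 (Tr.node (Tr.node (Tr.node Tr.leaf 173986028675 6 0 211563024387 Tr.leaf) 174083577863 4 1 72149505025 Tr.leaf) 175026439236 5 0 209616766112 (Tr.node Tr.leaf 175091226849 5 0 209547659393 Tr.leaf))) 175255916550 8 1 76273522693 (Tr.node (Tr.node (Tr.node (Tr.node Tr.leaf 176127314150 8 0 206199428226 Tr.leaf) 176196655136 6 1 75399992448 Tr.leaf) 176334864482 7 1 75200856291 (Tr.node Tr.leaf 178309438560 7 0 208474738791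 Tr.leaf)) 178341872775 9 0 208414082052 (Tr.node (Tr.node (Tr.node Tr.leaf 178382798913 7 0 208310213793 Tr.leaf) 179351785536 3 1 69934946400 Tr.leaf) 179382029508 7 1 69894020262 (Tr.node Tr.leaf 179520471075 6 0 210520677411 Tr.leaf))))) 206199428226 7 1 171934189763 (Tr.node (Tr.node (Tr.node (Tr.node (Tr.node (Tr.node Tr.leaf 206264469543 6 1 172035869825 Tr.leaf) 206294785125 6 1 172003296482 Tr.leaf) 207304626400 7 1 176196655136 (Tr.node (Tr.node Tr.leaf 207337259077 7 0 69894020262 Tr.leaf) 207467123812 3 0 69934946400 Tr.leaf)) 208310213793 6 1 175026439236 (Tr.node (Tr.node (Tr.node Tr.leaf 208414082052 8 0 74193241312 Tr.leaf) 208474738791 6 1 175091226849 Tr.leaf) 209515086050 7 1 179520471075 (Tr.node Tr.leaf 209547659393 4 0 72149505025 Tr.leaf))) 209616766112 4 1 179351785536 (Tr.node (Tr.node (Tr.node (Tr.node Tr.leaf 210490163367 5 0 68756348100 Tr.leaf) 210520677411 5 0 68894789667 Tr.leaf) 210628545600 8 0 68925033639 (Tr.node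 Tr.leaf 211530320100 6 0 75399992448 Tr.leaf)) 211563024387 5 1 174083577863 (Tr.node (Tr.node (Tr.node Tr.leaf 211766217762 7 1 173986028675 Tr.leaf) 213675807811 5 1 172876826727 Tr.leaf) 213744878725 7 0 73185592326 (Tr.node Tr.leaf 213814152193 7 0 73020902625 Tr.leaf)))) 240590718052 5 0 145129276512 (Tr.node (Tr.node (Tr.node (Tr.node (Tr.node Tr.leaf 240623097025 5 0 145055979585 Tr.leaf) 240720646213 9 0 145023402150 Tr.leaf) 241598271651 6 0 138749837507 (Tr.node (Tr.node Tr.leaf 241663380486 7 0 138680667362 Tr.leaf) 241762834500 9 1 38729159782 Tr.leaf)) 242801118368 6 1 37786655808 (Tr.node (Tr.node (Tr.node Tr.leaf 242833556675 6 1 37648273575 Tr.leaf) 242870288513 4 0 142878120961 Tr.leaf) 243778263168 9 0 140700190727 (Tr.node Tr.leaf 243812925477 7 1 41982034050 Tr.leaf))) 243873649734 7 0 140667558050 (Tr.node (Tr.node (Tr.node (Tr.node Tr.leaf 244816483362 6 1 40809695363 Tr.leaf) 244848790725 7 0 137477983302 Tr.leaf) 245019740163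 5 1 40972192775 (Tr.node Tr.leaf 245889074310 7 0 144121627650 Tr.leaf)) 245988726786 5 1 36746499075 (Tr.node (Tr.node (Tr.node Tr.leaf 246027389025 7 1 36713794788 Tr.leaf) 246994341986 4 1 39862737123 Tr.leaf) 247063412900 6 0 139692383424 (Tr.node Tr.leaf 247132686368 0 0 247132686368 Tr.leaf)))))))

def os : List ℕ := [2, 6, 6, 6, 7, 6, 6, 7, 3, 7, 3, 6, 7, 3, 6, 3, 3, 7, 6, 3, 7, 2, 3, 3, 6, 6, 7, 6, 7, 3, 7, 6, 6, 7, 6, 6, 3, 7, 3, 6, 3, 7, 6, 3, 7, 6, 7, 3, 2, 6, 6, 6, 7, 6, 3, 6, 7, 7, 3, 3, 6, 3, 7, 6, 6, 7, 6, 6, 7, 2, 3, 3, 6, 7, 6, 3, 7, 6, 3, 3, 7, 7, 3, 6, 6, 6, 7, 7, 3, 6, 6, 7, 3, 6, 7, 3, 6, 6, 2, 7, 3, 3, 7, 6, 3, 7, 6, 6, 3, 6, 7, 7, 6, 6, 6, 7, 6, 3, 3, 2, 3, 7, 3, 7, 6, 3, 7, 3, 6, 3, 7, 6, 3, 6, 7, 6, 3, 7, 6, 7, 3, 7, 6, 3, 6, 6, 2, 7, 3, 3, 7, 3, 3, 3, 3, 7, 3, 3, 7, 3, 7, 3, 3, 7, 3, 3, 3, 1]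

theorem hd : 8 ≤ 32 := by norm_num

theorem hS : gens.map enc = S := by decide +kernel

theorem h0 : incr T.toL = true := by decide +kernel

theorem h1 : chkNodes 8 S T T.toL = true := by decide +kernel

theorem h2 : chkClosed 8 S T T.toL = true := by decide +kernel

theorem h5 : (T.find (idc 8)).isSome = true := by decide +kernel

theorem h3 : T.toL.map (fun m => ordc 8 m.1) = os := by decide +kernel

theorem h4 : ∀ o ∈ os, o ≠ 0 := by decide +kernel

theorem h84 : ∀ o ∈ os, o ∣ 84 := by decide +kernel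

/-- The group. -/
abbrev K : Type := ↥(grp gens)

theorem F_eq (n : ℕ) :
    Nat.card {g : K // g ^ n = 1} = (os.filter (fun o => n % o = 0)).length :=
  card_pow_eq_one hd gens S T os hS h0 h1 h2 h5 h3 h4 n

def b1_0 : Equiv.Perm (Fin 8) := mkPerm ![3, 2, 1, 0, 7, 6, 5, 4] ![3, 2, 1, 0, 7, 6, 5, 4] (by decide) (by decide)
def b1_1 : Equiv.Perm (Fin 8) := mkPerm ![0, 5, 1, 4, 2, 7, 3, 6] ![0, 2, 4, 6, 3, 1, 7, 5] (by decide) (by decide)

def B1 : List (Equiv.Perm (Fin 8)) := [b1_0, b1_1]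

def b2_0 : Equiv.Perm (Fin 8) := mkPerm ![2, 3, 0, 1, 6, 7, 4, 5] ![2, 3, 0, 1, 6, 7, 4, 5] (by decide) (by decide)
def b2_1 : Equiv.Perm (Fin 8) := mkPerm ![7, 6, 5, 4, 3, 2, 1, 0] ![7, 6, 5, 4, 3, 2, 1, 0] (by decide) (by decide)
def b2_2 : Equiv.Perm (Fin 8) := mkPerm ![4, 5, 6, 7, 0, 1, 2, 3] ![4, 5, 6, 7, 0, 1, 2, 3] (by decide) (by decide)

def B2 : List (Equiv.Perm (Fin 8)) := [b2_0, b2_1, b2_2]


def B3 : List (Equiv.Perm (Fin 8)) := []

def wc0 : List (List (List (ℕ × Bool))) := [[[], [(0, false), (1, false), (1, false)]], [[(1, true), (1, true), (0, false)], []]]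
def wn1_0 : List (List (List (ℕ × Bool))) := [[[(0, false), (1, false), (0, false), (1, true)], [(0, false), (1, false), (0, false), (1, false), (0, false)]], [[(1, false), (1, false), (0, false), (1, true), (1, true)], [(1, false)]]]
def wn2_0 : List (List (List (ℕ × Bool))) := [[[(1, false), (0, false), (1, true)], [(1, true), (1, true), (1, true), (0, false)]], [[(0, false), (1, false), (0, false), (1, true)], [(1, false)]]]
theorem hstep0 : stepChk gens B1 wc0 wn1_0 wn2_0 = true := by decide +kernel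

def wc1 : List (List (List (ℕ × Bool))) := [[[], [(1, false)]], [[(1, false)], []]]
def wn1_1 : List (List (List (ℕ × Bool))) := [[[(0, false)], [(1, false)], [(2, false)]], [[(0, false), (1, false), (2, false)], [(0, false), (2, false)], [(0, false)]]]
def wn2_1 : List (List (List (ℕ × Bool))) := [[[(0, false)], [(1, false)], [(2, false)]], [[(2, false)], [(0, false), (1, false)], [(1, false), (2, false)]]]
theorem hstep1 : stepChk B1 B2 wc1 wn1_1 wn2_1 = true := by decide +kernel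

def wc2 : List (List (List (ℕ × Bool))) := [[[], [], []], [[], [], []], [[], [], []]]
def wn1_2 : List (List (List (ℕ × Bool))) := [[], [], []]
def wn2_2 : List (List (List (ℕ × Bool))) := [[], [], []]
theorem hstep2 : stepChk B2 B3 wc2 wn1_2 wn2_2 = true := by decide +kernel

theorem solv3 : Group.IsSolvable ↥(grp B3) := isSolvable_grp_nil

theorem solv2 : Group.IsSolvable ↥(grp B2) :=
  isSolvable_step hd B2 B3 wc2 wn1_2 wn2_2 hstep2 solv3

theorem solv1 : Group.IsSolvable ↥(grp B1) :=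
  isSolvable_step hd B1 B2 wc1 wn1_1 wn2_1 hstep1 solv2

theorem solv0 : Group.IsSolvable ↥(grp gens) :=
  isSolvable_step hd gens B1 wc0 wn1_0 wn2_0 hstep0 solv1

instance instSolvable : Group.IsSolvable K := solv0

end Cfsg.Agent.Lib.Helper73_G14
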