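import Mathlib
import Cfsg.Agent.Lib.Helper9_GrossDefs
import Cfsg.Agent.Lib.Helper64_Fpf4
import Cfsg.Agent.Lib.Helper64_ShultGrp

/-!
GROSS-GFROB (helper9's package market for row S3795): a cyclic group `⟨s⟩` of order dividing `n`,
fixed-point-free on the finite abelian group `V`, cannot act as a Frobenius complement on a
nontrivial group `A` of automorphisms of `V` of coprime order; and Lemma A.
-/

set_option autoImplicit false

namespace Cfsg.Agent.Lib.Helper73_Gross_GFROB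

open Cfsg.Agent.Lib.Helper64_Fpf4

section GFROB
variable {V : Type*} [CommGroup V] [Finite V]

omit [Finite V] in
/-- The norm relation: the product of the `s`-orbit of `v` is trivial. -/
theorem norm_eq_one (s : MulAut V) (n : ℕ) (hsn : s ^ n = 1) (hs : ∀ v, s v = v → v = 1) (v : V) :
    ∏ i ∈ Finset.range n, (s ^ i) v = 1 := by
  apply hs
  rw [map_prod]
  have h1 : ∀ i ∈ Finset.range n, s ((s ^ i) v) = (s ^ (i + 1)) v := by
    intro i _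
    rw [pow_succ', MulAut.mul_apply]
  rw [Finset.prod_congr rfl h1]
  have h2 := Finset.prod_range_succ_comm (fun i => (s ^ i) v) n
  have h3 := Finset.prod_range_succ' (fun i => (s ^ i) v) n
  rw [Finset.prod_range_succ, hsn] at h3
  simp only [pow_zero, MulAut.one_apply] at h3
  exact (mul_right_cancel h3).symm

omit [Finite V] in
/-- The norm relation solved for `v`. -/
theorem prod_Ico_eq_inv (s : MulAut V) (n : ℕ) (hn : 0 < n) (hsn : s ^ n = 1)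
    (hs : ∀ v, s v = v → v = 1) (v : V) :
    ∏ i ∈ Finset.Ico 1 n, (s ^ i) v = v⁻¹ := by
  have h1 := norm_eq_one s n hsn hs v
  rw [Finset.range_eq_Ico, Finset.prod_eq_prod_Ico_succ_bot hn] at h1
  simp only [pow_zero, MulAut.one_apply, zero_add] at h1
  exact eq_inv_of_mul_eq_one_right h1

theorem frobenius_trivial (s : MulAut V) (n : ℕ) (hn : 0 < n) (hsn : s ^ n = 1)
    (hs : ∀ v, s v = v → v = 1) (A : Subgroup (MulAut V)) (hinv : ∀ a ∈ A, s * a * s⁻¹ ∈ A)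
    (hfrob : ∀ j, 0 < j → j < n → ∀ a ∈ A, s ^ j * a * (s ^ j)⁻¹ = a → a = 1)
    (hcop : (Nat.card A).Coprime (Nat.card V)) : A = ⊥ := by
  classical
  have : Fintype A := Fintype.ofFinite A
  have hinvj : ∀ j : ℕ, ∀ a ∈ A, s ^ j * a * (s ^ j)⁻¹ ∈ A := by
    intro j
    induction j with
    | zero => intro a ha; simpa using ha
    | succ j ih =>
      intro a ha
      have := hinv _ (ih a ha)
      have h2 : s ^ (j + 1) * a * (s ^ (j + 1))⁻¹ = s * (s ^ j * a * (s ^ j)⁻¹) * s⁻¹ := by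
        rw [pow_succ']; group
      rw [h2]; exact this
  -- the key identity
  have key : ∀ v : V, ∏ a : A, (a : MulAut V) v = v ^ (Fintype.card A) := by
    intro v
    have hv := prod_Ico_eq_inv s n hn hsn hs v⁻¹
    rw [inv_inv] at hv
    have hL : ∏ a : A, (a : MulAut V) v =
        ∏ i ∈ Finset.Ico 1 n, ∏ a : A, (a : MulAut V) ((s ^ i) v⁻¹) := by
      rw [Finset.prod_comm]
      apply Finset.prod_congr rfl
      intro a _
      rw [← map_prod, hv]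
    have hM : ∀ i ∈ Finset.Ico 1 n, ∏ a : A, (a : MulAut V) ((s ^ i) v⁻¹) =
        ∏ x : A, (x : MulAut V) ((s ^ i) ((x : MulAut V)⁻¹ v⁻¹)) := by
      intro i hi
      rw [Finset.mem_Ico] at hi
      exact prod_twist A (s ^ i) (hinvj i) (hfrob i (by omega) hi.2) v⁻¹
    rw [hL, Finset.prod_congr rfl hM, Finset.prod_comm]
    have hx : ∀ x : A, ∏ i ∈ Finset.Ico 1 n, (x : MulAut V) ((s ^ i) ((x : MulAut V)⁻¹ v⁻¹)) = v := by
      intro x
      rw [← map_prod, prod_Ico_eq_inv s n hn hsn hs]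
      simp [map_inv]
    rw [Finset.prod_congr rfl (fun x _ => hx x)]
    simp
  -- conclude
  rw [Subgroup.eq_bot_iff_forall]
  intro a₀ ha₀
  ext v
  have h1 : a₀ (∏ a : A, (a : MulAut V) v) = ∏ a : A, (a : MulAut V) v := by
    rw [map_prod]
    have := Function.Bijective.prod_comp (Group.mulLeft_bijective (⟨a₀, ha₀⟩ : A))
      (fun a : A => (a : MulAut V) v)
    rw [← this]
    apply Finset.prod_congr rfl
    intro a _
    simp [MulAut.mul_apply]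
  rw [key, map_pow] at h1
  have h2 : (a₀ v * v⁻¹) ^ Fintype.card A = 1 := by
    rw [mul_pow, h1, inv_pow, mul_inv_cancel]
  have h3 : (a₀ v * v⁻¹) ^ Nat.card V = 1 := pow_card_eq_one'
  have h4 : a₀ v * v⁻¹ = 1 := by
    have hd1 : orderOf (a₀ v * v⁻¹) ∣ Nat.card A := by
      rw [Nat.card_eq_fintype_card]; exact orderOf_dvd_of_pow_eq_one h2
    have hd2 : orderOf (a₀ v * v⁻¹) ∣ Nat.card V := orderOf_dvd_of_pow_eq_one h3
    have := Nat.dvd_gcd hd1 hd2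
    rw [hcop, Nat.dvd_one, orderOf_eq_one_iff] at this
    exact this
  simpa using mul_inv_eq_one.mp h4

theorem lemmaA (τ : MulAut V) (N : ℕ) (hτ : τ ^ 2 ^ (N + 1) = 1) (hfix : ∀ v, τ v = v → v = 1)
    (B : Subgroup (MulAut V)) (hBab : ∀ a ∈ B, ∀ b ∈ B, Commute a b)
    (hτB : ∀ b ∈ B, τ * b * τ⁻¹ ∈ B) (hodd : Odd (Nat.card B))
    (hcop : (Nat.card B).Coprime (Nat.card V)) : ∀ b ∈ B, Commute (τ ^ 2 ^ N) b := by
  have hτ₀sq : τ ^ 2 ^ N * τ ^ 2 ^ N = 1 := by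
    rw [← pow_add, ← two_mul, ← pow_succ']; exact hτ
  have hτ₀inv : (τ ^ 2 ^ N)⁻¹ = τ ^ 2 ^ N := inv_eq_of_mul_eq_one_left hτ₀sq
  have hτBj : ∀ j : ℕ, ∀ b ∈ B, τ ^ j * b * (τ ^ j)⁻¹ ∈ B := by
    intro j
    induction j with
    | zero => intro a ha; simpa using ha
    | succ j ih =>
      intro a ha
      have := hτB _ (ih a ha)
      have h2 : τ ^ (j + 1) * a * (τ ^ (j + 1))⁻¹ = τ * (τ ^ j * a * (τ ^ j)⁻¹) * τ⁻¹ := by
        rw [pow_succ']; group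
      rw [h2]; exact this
  -- the inverted part
  let B₁ : Subgroup (MulAut V) :=
    { carrier := {b | b ∈ B ∧ τ ^ 2 ^ N * b * (τ ^ 2 ^ N)⁻¹ = b⁻¹}
      mul_mem' := by
        rintro a b ⟨ha, ha'⟩ ⟨hb, hb'⟩
        refine ⟨B.mul_mem ha hb, ?_⟩
        have e : τ ^ 2 ^ N * (a * b) * (τ ^ 2 ^ N)⁻¹ =
            (τ ^ 2 ^ N * a * (τ ^ 2 ^ N)⁻¹) * (τ ^ 2 ^ N * b * (τ ^ 2 ^ N)⁻¹) := by group
        rw [e, ha', hb', mul_inv_rev]
        exact (hBab _ (B.inv_mem ha) _ (B.inv_mem hb)).eq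
      one_mem' := ⟨B.one_mem, by simp⟩
      inv_mem' := by
        rintro a ⟨ha, ha'⟩
        refine ⟨B.inv_mem ha, ?_⟩
        have e : τ ^ 2 ^ N * a⁻¹ * (τ ^ 2 ^ N)⁻¹ = (τ ^ 2 ^ N * a * (τ ^ 2 ^ N)⁻¹)⁻¹ := by group
        rw [e, ha'] }
  have hB₁le : B₁ ≤ B := fun b hb => hb.1
  have hB₁ : B₁ = ⊥ := by
    apply frobenius_trivial τ (2 ^ (N + 1)) (by positivity) hτ hfix B₁
    · rintro a ⟨ha, ha'⟩
      refine ⟨hτB a ha, ?_⟩
      have hc : τ ^ 2 ^ N * τ = τ * τ ^ 2 ^ N := (Commute.pow_self τ _).eq.symm ▸ rfl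
      have e : τ ^ 2 ^ N * (τ * a * τ⁻¹) * (τ ^ 2 ^ N)⁻¹ =
          τ * (τ ^ 2 ^ N * a * (τ ^ 2 ^ N)⁻¹) * τ⁻¹ := by
        have hc' : (τ ^ 2 ^ N)⁻¹ * τ⁻¹ = τ⁻¹ * (τ ^ 2 ^ N)⁻¹ := by
          rw [← mul_inv_rev, ← mul_inv_rev, hc]
        calc τ ^ 2 ^ N * (τ * a * τ⁻¹) * (τ ^ 2 ^ N)⁻¹
            = (τ ^ 2 ^ N * τ) * a * (τ⁻¹ * (τ ^ 2 ^ N)⁻¹) := by group
          _ = (τ * τ ^ 2 ^ N) * a * ((τ ^ 2 ^ N)⁻¹ * τ⁻¹) := by rw [hc, hc']
          _ = τ * (τ ^ 2 ^ N * a * (τ ^ 2 ^ N)⁻¹) * τ⁻¹ := by group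
      rw [e, ha']
      group
    · rintro j hj0 hjn a ⟨ha, ha'⟩ hfixa
      have h1 : ((MulAut.conj τ) ^ j) a = a := by
        rw [← map_pow, MulAut.conj_apply]; exact hfixa
      have h2 : (MulAut.conj τ) ^ 2 ^ (N + 1) = 1 := by
        rw [← map_pow, hτ, map_one]
      have h3 := Cfsg.Agent.Lib.Helper64_ShultGrp.pow_fixed_of_pow_fixed 2 (MulAut.conj τ) N h2 j
        hj0 hjn a h1
      rw [← map_pow, MulAut.conj_apply, ha'] at h3
      -- `a⁻¹ = a`, odd order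
      have h4 : a ^ 2 = 1 := by
        rw [pow_two]
        nth_rewrite 1 [← h3]
        exact inv_mul_cancel a
      have h5 : orderOf a ∣ 2 := orderOf_dvd_of_pow_eq_one h4
      have h6 : orderOf a ∣ Nat.card B := by
        have := Subgroup.orderOf_dvd_natCard B ha
        exact this
      have h7 : orderOf a ∣ Nat.gcd 2 (Nat.card B) := Nat.dvd_gcd h5 h6
      have h8 : Nat.gcd 2 (Nat.card B) = 1 := Nat.coprime_two_left.mpr hodd
      rw [h8, Nat.dvd_one, orderOf_eq_one_iff] at h7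
      exact h7
    · exact Nat.Coprime.coprime_dvd_left (Subgroup.card_dvd_of_le hB₁le) hcop
  intro b hb
  have hc : b⁻¹ * (τ ^ 2 ^ N * b * (τ ^ 2 ^ N)⁻¹) ∈ B₁ := by
    refine ⟨B.mul_mem (B.inv_mem hb) (hτBj _ b hb), ?_⟩
    have e : τ ^ 2 ^ N * (b⁻¹ * (τ ^ 2 ^ N * b * (τ ^ 2 ^ N)⁻¹)) * (τ ^ 2 ^ N)⁻¹ =
        (τ ^ 2 ^ N * b * (τ ^ 2 ^ N)⁻¹)⁻¹ * ((τ ^ 2 ^ N * τ ^ 2 ^ N) * b * (τ ^ 2 ^ N * τ ^ 2 ^ N)⁻¹) := by
      group
    rw [e, hτ₀sq]
    group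
  rw [hB₁, Subgroup.mem_bot] at hc
  have h9 : τ ^ 2 ^ N * b * (τ ^ 2 ^ N)⁻¹ = b := by
    have := congrArg (fun z => b * z) hc
    simpa using this
  show τ ^ 2 ^ N * b = b * τ ^ 2 ^ N
  calc τ ^ 2 ^ N * b = τ ^ 2 ^ N * b * (τ ^ 2 ^ N)⁻¹ * τ ^ 2 ^ N := by group
    _ = b * τ ^ 2 ^ N := by rw [h9]

end GFROB

end Cfsg.Agent.Lib.Helper73_Gross_GFROB
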