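import Mathlib
import Cfsg.Agent.Lib.Helper9_GrossDefs

/-!
GROSS-GG5 (helper9's package market for row S3795): for a group `R₁` of odd order, of class at most
two over a central subgroup `F`, with an involutory automorphism `τ₀` centralising `F`, the
preimages `ET`, `C` of the inverted and the fixed part of `R₁ / F` commute and `R₁ = ET C`.
-/

set_option autoImplicit false

namespace Cfsg.Agent.Lib.Helper73_Gross_GG5

open scoped commutatorElement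

theorem exists_ET_C {G : Type*} [Group G] [Finite G] (τ₀ : G) (hτ₀ : τ₀ ^ 2 = 1)
    (R₁ F : Subgroup G) (hodd : Odd (Nat.card R₁)) (hτ₀R : ∀ a ∈ R₁, τ₀ * a * τ₀⁻¹ ∈ R₁)
    (hFR : F ≤ R₁) (hFc : ∀ f ∈ F, ∀ a ∈ R₁, Commute f a)
    (hcomm : ∀ a ∈ R₁, ∀ b ∈ R₁, ⁅a, b⁆ ∈ F) (hFτ₀ : ∀ f ∈ F, Commute τ₀ f) :
    ∃ ET C : Subgroup G,
      (∀ a, a ∈ ET ↔ a ∈ R₁ ∧ τ₀ * a * τ₀⁻¹ * a ∈ F) ∧
      (∀ a, a ∈ C ↔ a ∈ R₁ ∧ τ₀ * a * τ₀⁻¹ * a⁻¹ ∈ F) ∧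
      (∀ e ∈ ET, ∀ c ∈ C, Commute e c) ∧
      (∀ a ∈ R₁, ∃ e ∈ ET, ∃ c ∈ C, a = e * c) ∧
      (∀ A' : Subgroup G, F ≤ A' → A' ≤ R₁ → ∀ b ∈ R₁, τ₀ * b * τ₀⁻¹ * b ∈ A' →
        ∃ e ∈ ET, ∃ a ∈ A', b = e * a) := by
  obtain ⟨k, hk⟩ := hodd
  set θ : MulAut G := MulAut.conj τ₀ with hθ
  have hθa : ∀ a, θ a = τ₀ * a * τ₀⁻¹ := fun a => rfl
  have hττ : τ₀ * τ₀ = 1 := by rw [← pow_two]; exact hτ₀
  have hτinv : τ₀⁻¹ = τ₀ := inv_eq_of_mul_eq_one_left hττ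
  have hθθ : ∀ a, θ (θ a) = a := by
    intro a
    rw [hθa, hθa, hτinv]
    calc τ₀ * (τ₀ * a * τ₀) * τ₀ = (τ₀ * τ₀) * a * (τ₀ * τ₀) := by group
      _ = a := by rw [hττ]; group
  have hθF : ∀ f ∈ F, θ f = f := by
    intro f hf
    rw [hθa, (hFτ₀ f hf).eq, mul_inv_cancel_right]
  have hθR : ∀ a ∈ R₁, θ a ∈ R₁ := by
    intro a ha; rw [hθa]; exact hτ₀R a ha
  have hcen : ∀ f ∈ F, ∀ a ∈ R₁, a * f * a⁻¹ = f := by
    intro f hf a ha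
    rw [← (hFc f hf a ha).eq, mul_inv_cancel_right]
  have hpow : ∀ x ∈ R₁, x ^ (2 * k + 1) = 1 := by
    intro x hx
    have h1 := pow_card_eq_one' (G := R₁) (x := ⟨x, hx⟩)
    rw [hk] at h1
    have h2 := congrArg Subtype.val h1
    simpa using h2
  have hroot : ∀ x ∈ R₁, (x ^ 2) ^ (k + 1) = x := by
    intro x hx
    rw [← pow_mul]
    have e : 2 * (k + 1) = (2 * k + 1) + 1 := by ring
    rw [e, pow_succ, hpow x hx, one_mul]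
  -- the two subgroups
  let ET : Subgroup G :=
    { carrier := {a | a ∈ R₁ ∧ θ a * a ∈ F}
      mul_mem' := by
        rintro a b ⟨ha, ha'⟩ ⟨hb, hb'⟩
        refine ⟨R₁.mul_mem ha hb, ?_⟩
        have e1 : θ (a * b) * (a * b) =
            (θ a * a) * (a⁻¹ * (θ b * b) * a⁻¹⁻¹) * ⁅a⁻¹, b⁻¹⁆ := by
          rw [map_mul, commutatorElement_def]; group
        rw [e1, hcen _ hb' _ (R₁.inv_mem ha)]
        exact F.mul_mem (F.mul_mem ha' hb') (hcomm _ (R₁.inv_mem ha) _ (R₁.inv_mem hb))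
      one_mem' := ⟨R₁.one_mem, by simp⟩
      inv_mem' := by
        rintro a ⟨ha, ha'⟩
        refine ⟨R₁.inv_mem ha, ?_⟩
        have e1 : θ a⁻¹ * a⁻¹ = (a * (θ a * a) * a⁻¹)⁻¹ := by
          rw [map_inv]; group
        rw [e1, hcen _ ha' _ ha]
        exact F.inv_mem ha' }
  let C : Subgroup G :=
    { carrier := {a | a ∈ R₁ ∧ θ a * a⁻¹ ∈ F}
      mul_mem' := by
        rintro a b ⟨ha, ha'⟩ ⟨hb, hb'⟩
        refine ⟨R₁.mul_mem ha hb, ?_⟩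
        have e1 : θ (a * b) * (a * b)⁻¹ = (θ a * a⁻¹) * (a * (θ b * b⁻¹) * a⁻¹) := by
          rw [map_mul]; group
        rw [e1, hcen _ hb' _ ha]
        exact F.mul_mem ha' hb'
      one_mem' := ⟨R₁.one_mem, by simp⟩
      inv_mem' := by
        rintro a ⟨ha, ha'⟩
        refine ⟨R₁.inv_mem ha, ?_⟩
        have e1 : θ a⁻¹ * a⁻¹⁻¹ = (a⁻¹ * (θ a * a⁻¹) * a⁻¹⁻¹)⁻¹ := by
          rw [map_inv]; group
        rw [e1, hcen _ ha' _ (R₁.inv_mem ha)]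
        exact F.inv_mem ha' }
  have hETmem : ∀ a, a ∈ ET ↔ a ∈ R₁ ∧ θ a * a ∈ F := fun a => Iff.rfl
  have hCmem : ∀ a, a ∈ C ↔ a ∈ R₁ ∧ θ a * a⁻¹ ∈ F := fun a => Iff.rfl
  -- `ET` and `C` commute
  have hcommute : ∀ e ∈ ET, ∀ c ∈ C, Commute e c := by
    rintro e ⟨he, he'⟩ c ⟨hc, hc'⟩
    have hz : ⁅e, c⁆ ∈ F := hcomm e he c hc
    have hzinv : e⁻¹ * c * e * c⁻¹ = ⁅e, c⁆⁻¹ := by
      have e1 : e⁻¹ * c * e * c⁻¹ = e⁻¹ * ⁅e, c⁆⁻¹ * e⁻¹⁻¹ := by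
        rw [commutatorElement_def]; group
      rw [e1, hcen _ (F.inv_mem hz) _ (R₁.inv_mem he)]
    have h1 : θ ⁅e, c⁆ = ⁅e, c⁆⁻¹ := by
      have e1 : θ ⁅e, c⁆ = (θ e * e) *
          (e⁻¹ * (θ c * c⁻¹) * e⁻¹⁻¹) *
          ((e⁻¹ * c * e) * (θ e * e)⁻¹ * (e⁻¹ * c * e)⁻¹) *
          ((e⁻¹ * c * e * c⁻¹) * (θ c * c⁻¹)⁻¹ * (e⁻¹ * c * e * c⁻¹)⁻¹) *
          (e⁻¹ * c * e * c⁻¹) := by
        rw [commutatorElement_def, map_mul, map_mul, map_mul, map_inv, map_inv]; group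
      have m1 : e⁻¹ * c * e ∈ R₁ := R₁.mul_mem (R₁.mul_mem (R₁.inv_mem he) hc) he
      have m2 : e⁻¹ * c * e * c⁻¹ ∈ R₁ := R₁.mul_mem m1 (R₁.inv_mem hc)
      rw [e1, hcen _ hc' _ (R₁.inv_mem he), hcen _ (F.inv_mem he') _ m1,
        hcen _ (F.inv_mem hc') _ m2, hzinv]
      have e2 : θ e * e * (θ c * c⁻¹) * (θ e * e)⁻¹ * (θ c * c⁻¹)⁻¹ * ⁅e, c⁆⁻¹ =
          ((θ e * e) * (θ c * c⁻¹) * (θ e * e)⁻¹) * (θ c * c⁻¹)⁻¹ * ⁅e, c⁆⁻¹ := by group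
      rw [e2, hcen _ hc' _ (hFR he'), mul_inv_cancel, one_mul]
    rw [hθF _ hz] at h1
    have h2 : ⁅e, c⁆ ^ 2 = 1 := by
      rw [pow_two]
      nth_rewrite 1 [h1]
      exact inv_mul_cancel _
    have h3 : ⁅e, c⁆ = 1 := by
      rw [← hroot _ (hFR hz), h2, one_pow]
    exact (commutatorElement_eq_one_iff_commute.mp h3)
  refine ⟨ET, C, hETmem, hCmem, hcommute, ?_, ?_⟩
  · -- `R₁ = ET C`
    intro a ha
    have hu : a * (θ a)⁻¹ ∈ ET := by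
      refine ⟨R₁.mul_mem ha (R₁.inv_mem (hθR a ha)), ?_⟩
      rw [map_mul, map_inv, hθθ]
      have e1 : θ a * a⁻¹ * (a * (θ a)⁻¹) = 1 := by group
      rw [e1]; exact F.one_mem
    have hw : θ a * a ∈ C := by
      refine ⟨R₁.mul_mem (hθR a ha) ha, ?_⟩
      rw [map_mul, hθθ]
      have e1 : a * θ a * (θ a * a)⁻¹ = ⁅a, θ a⁆ := by
        rw [commutatorElement_def]; group
      rw [e1]; exact hcomm a ha _ (hθR a ha)
    have huw : a * (θ a)⁻¹ * (θ a * a) = a ^ 2 := by rw [pow_two]; group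
    have hc := hcommute _ hu _ hw
    refine ⟨(a * (θ a)⁻¹) ^ (k + 1), ET.pow_mem hu _, (θ a * a) ^ (k + 1), C.pow_mem hw _, ?_⟩
    rw [← hc.mul_pow, huw, hroot a ha]
  · -- the last clause
    intro A' hFA hAR b hb hbA
    have hbA' : θ b * b ∈ A' := hbA
    obtain ⟨e, he, c, hc, hbec⟩ : ∃ e ∈ ET, ∃ c ∈ C, b = e * c := by
      -- repeat the decomposition
      have hu : b * (θ b)⁻¹ ∈ ET := by
        refine ⟨R₁.mul_mem hb (R₁.inv_mem (hθR b hb)), ?_⟩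
        rw [map_mul, map_inv, hθθ]
        have e1 : θ b * b⁻¹ * (b * (θ b)⁻¹) = 1 := by group
        rw [e1]; exact F.one_mem
      have hw : θ b * b ∈ C := by
        refine ⟨R₁.mul_mem (hθR b hb) hb, ?_⟩
        rw [map_mul, hθθ]
        have e1 : b * θ b * (θ b * b)⁻¹ = ⁅b, θ b⁆ := by
          rw [commutatorElement_def]; group
        rw [e1]; exact hcomm b hb _ (hθR b hb)
      have huw : b * (θ b)⁻¹ * (θ b * b) = b ^ 2 := by rw [pow_two]; group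
      have hc := hcommute _ hu _ hw
      refine ⟨(b * (θ b)⁻¹) ^ (k + 1), ET.pow_mem hu _, (θ b * b) ^ (k + 1), C.pow_mem hw _, ?_⟩
      rw [← hc.mul_pow, huw, hroot b hb]
    refine ⟨e, he, c, ?_, hbec⟩
    have hec := hcommute e he c hc
    obtain ⟨heR, he'⟩ := he
    obtain ⟨hcR, hc'⟩ := hc
    have hce : e⁻¹ * c * e = c := by
      rw [mul_assoc, ← hec.eq, inv_mul_cancel_left]
    have e1 : θ b * b = (θ e * e) * (e⁻¹ * (θ c * c⁻¹) * e⁻¹⁻¹) * ((e⁻¹ * c * e) * c) := by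
      rw [hbec, map_mul]; group
    rw [e1, hcen _ hc' _ (R₁.inv_mem heR), hce] at hbA'
    have h1 : c * c ∈ A' := by
      have h2 := A'.mul_mem (A'.inv_mem (hFA (F.mul_mem he' hc'))) hbA'
      rwa [inv_mul_cancel_left] at h2
    rw [← hroot c hcR, pow_two]
    exact A'.pow_mem h1 _

end Cfsg.Agent.Lib.Helper73_Gross_GG5
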