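import Mathlib
import Cfsg.Agent.Lib.Helper17_H9Defs
import Cfsg.Agent.Lib.Helper5_H9_G333
import Cfsg.Agent.Lib.Helper91_H9_BASIC
import Cfsg.Agent.Lib.Helper25_H9_FUS
import Cfsg.Agent.Lib.Helper73_H9_CNT1

/-!
# S3805 package CNT1 (architect helper17): verbatim `count1`  (helper73)

`l333` is the `(3,3,3)`-lemma in the configuration `Hyp` (statement of package L333), derived from the landed
`G333` and `BASIC`.
-/

set_option autoImplicit false

namespace Cfsg.Agent.Lib.Helper73_H9_CNT1W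

open Cfsg Cfsg.Agent.Lib.Helper17_H9Defs

variable {G : Type*} [Group G] [Finite G] {T : Subgroup G} {x y i j : G}

/-- the `(3,3,3)`-lemma in the configuration `Hyp` -/
theorem l333 (h : Hyp G T x y i j) {u v : G} (hu : u ^ 3 = 1) (hv : v ^ 3 = 1)
    (huv : u * v ∈ T) (huv1 : u * v ≠ 1) :
    (u ∈ T ∧ v ∈ T) ∨ (IsConj u v ∧ IsConj (u * v) u⁻¹) := by
  have hT3 : ∀ t ∈ T, t ^ 3 = 1 := by
    intro t ht
    have hx3 : x ^ 3 = 1 := by rw [← h.ox]; exact pow_orderOf_eq_one x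
    have hy3 : y ^ 3 = 1 := by rw [← h.oy]; exact pow_orderOf_eq_one y
    have hc : Commute x y := h.comm
    rcases (h.mem t).1 ht with e | e | e | e | e | e | e | e | e <;> rw [e]
    · exact one_pow 3
    · exact hx3
    · rw [inv_pow, hx3, inv_one]
    · exact hy3
    · rw [inv_pow, hy3, inv_one]
    · rw [hc.mul_pow, hx3, hy3, one_mul]
    · rw [hc.inv_right.mul_pow, hx3, inv_pow, hy3, inv_one, one_mul]
    · rw [hc.inv_left.mul_pow, inv_pow, hx3, hy3, inv_one, one_mul]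
    · rw [hc.inv_inv.mul_pow, inv_pow, inv_pow, hx3, hy3, inv_one, one_mul]
  rcases Cfsg.Agent.Lib.Helper5_H9_G333.gen333 hu hv (hT3 _ huv) with ⟨c, hc1, hc3, hcu, hcv⟩ | h2
  · left
    have hcuv : c * (u * v) = (u * v) * c := by
      rw [← mul_assoc, hcu, mul_assoc, hcv, mul_assoc]
    have hcT : c ∈ T := Cfsg.Agent.Lib.Helper91_H9_BASIC.cent_three h huv huv1 hcuv hc3
    exact ⟨Cfsg.Agent.Lib.Helper91_H9_BASIC.cent_three h hcT hc1 hcu.symm hu,
      Cfsg.Agent.Lib.Helper91_H9_BASIC.cent_three h hcT hc1 hcv.symm hv⟩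
  · exact Or.inr h2

theorem count1 (h : Hyp G T x y i j) :
    Nat.card {p : G × G // IsConj x p.1 ∧ IsConj y p.2 ∧ p.1 * p.2 = x * y} = 1 ∧
    Nat.card {p : G × G // IsConj x p.1 ∧ IsConj (x * y) p.2 ∧ p.1 * p.2 = x * y} = 1 ∧
    Nat.card {p : G × G // IsConj y p.1 ∧ IsConj (x * y) p.2 ∧ p.1 * p.2 = x * y} = 1 :=
  Cfsg.Agent.Lib.Helper73_H9_CNT1.count1_aux h
    (fun hu hv huv huv1 => l333 h hu hv huv huv1)
    (fun ht => Cfsg.Agent.Lib.Helper25_H9_FUS.conj_x h ht)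
    (fun ht => Cfsg.Agent.Lib.Helper25_H9_FUS.conj_y h ht)
    (fun ht => Cfsg.Agent.Lib.Helper25_H9_FUS.conj_xy h ht)
    (Cfsg.Agent.Lib.Helper25_H9_FUS.not_conj h)

end Cfsg.Agent.Lib.Helper73_H9_CNT1W
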