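import Mathlib
import Cfsg.Prelude.Def_Characters
import Cfsg.Agent.Lib.Helper80_CharBasic
import Cfsg.Agent.Lib.Helper17_H9Defs
import Cfsg.Agent.Lib.Helper24_H9_CENT
import Cfsg.Agent.Lib.Helper24_H9_CNT0aux
import Cfsg.Agent.Lib.Helper25_H9_FUS
import Cfsg.Agent.Lib.Helper73_H9_CNT1W
import Cfsg.Agent.Lib.Helper73_H9_EQS

/-!
# S3805 package EQS (architect helper17): verbatim `eqs`  (helper73)
-/

set_option autoImplicit false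
open scoped ComplexConjugate

namespace Cfsg.Agent.Lib.Helper73_H9_EQSW

open Cfsg Cfsg.Agent.Lib.Helper80_CharBasic Cfsg.Agent.Lib.Helper17_H9Defs

variable {G : Type*} [Group G] [Finite G] {T : Subgroup G} {x y i j : G}

/-- the four vanishing counts (statement of package CNT0), from helper24's `count0_aux` -/
theorem count0' (h : Hyp G T x y i j) :
    Nat.card {p : G × G // IsConj x p.1 ∧ IsConj x p.2 ∧ p.1 * p.2 = y} = 0 ∧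
    Nat.card {p : G × G // IsConj x p.1 ∧ IsConj x p.2 ∧ p.1 * p.2 = x * y} = 0 ∧
    Nat.card {p : G × G // IsConj y p.1 ∧ IsConj y p.2 ∧ p.1 * p.2 = x} = 0 ∧
    Nat.card {p : G × G // IsConj y p.1 ∧ IsConj y p.2 ∧ p.1 * p.2 = x * y} = 0 :=
  Cfsg.Agent.Lib.Helper24_H9_CNT0aux.count0_aux h
    (fun hu hv huv huv1 => Cfsg.Agent.Lib.Helper73_H9_CNT1W.l333 h hu hv huv huv1)
    (fun ht => Cfsg.Agent.Lib.Helper25_H9_FUS.conj_x h ht)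
    (fun ht => Cfsg.Agent.Lib.Helper25_H9_FUS.conj_y h ht)
    (Cfsg.Agent.Lib.Helper25_H9_FUS.not_conj h)

theorem eqs (h : Hyp G T x y i j) {f : IrrCharacter G → ℕ} {α β δ : IrrCharacter G → ℤ}
    (hv : Vals G x y f α β δ) :
    ∑ᶠ χ : IrrCharacter G,
      ((δ χ : ℚ) + 3 * α χ) ^ 2 * ((δ χ : ℚ) + 3 * β χ) / (f χ : ℚ) = 0 ∧
    ∑ᶠ χ : IrrCharacter G, ((δ χ : ℚ) + 3 * α χ) ^ 2 * (δ χ : ℚ) / (f χ : ℚ) = 0 ∧
    ∑ᶠ χ : IrrCharacter G,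
      ((δ χ : ℚ) + 3 * β χ) ^ 2 * ((δ χ : ℚ) + 3 * α χ) / (f χ : ℚ) = 0 ∧
    ∑ᶠ χ : IrrCharacter G, ((δ χ : ℚ) + 3 * β χ) ^ 2 * (δ χ : ℚ) / (f χ : ℚ) = 0 ∧
    (Nat.card G : ℚ) * ∑ᶠ χ : IrrCharacter G,
      ((δ χ : ℚ) + 3 * α χ) * ((δ χ : ℚ) + 3 * β χ) * (δ χ : ℚ) / (f χ : ℚ) = 324 ∧
    (Nat.card G : ℚ) * ∑ᶠ χ : IrrCharacter G,
      ((δ χ : ℚ) + 3 * α χ) * (δ χ : ℚ) ^ 2 / (f χ : ℚ) = 162 ∧
    (Nat.card G : ℚ) * ∑ᶠ χ : IrrCharacter G,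
      ((δ χ : ℚ) + 3 * β χ) * (δ χ : ℚ) ^ 2 / (f χ : ℚ) = 162 :=
  Cfsg.Agent.Lib.Helper73_H9_EQS.eqs_aux hv (Cfsg.Agent.Lib.Helper24_H9_CENT.card_cent h)
    (count0' h) (Cfsg.Agent.Lib.Helper73_H9_CNT1W.count1 h)

end Cfsg.Agent.Lib.Helper73_H9_EQSW
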