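import Mathlib
import Cfsg.Agent.Lib.Helper73_MGDefs

set_option autoImplicit false
set_option linter.unusedVariables false

/-!
# S3620 package MG-STABPRIM (helper8 for helper73): elementary 2-transitivity of the setwise stabiliser on `Δ`
gives primitivity.
-/

namespace Cfsg.Agent.Lib.Helper8_MG_STABPRIM

open MulAction Equiv
open scoped Pointwise
open Cfsg.Agent.Lib.Helper73_MG

universe u v
variable {G : Type u} {Ω : Type v} [Group G] [MulAction G Ω]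

/-- MG-STABPRIM -/
theorem stab_preprimitive [Finite Ω] (Δ : Set Ω) (h2 : 2 ≤ Δ.ncard)
    (h : ∀ x ∈ Δ, ∀ y ∈ Δ, ∀ x' ∈ Δ, ∀ y' ∈ Δ, x ≠ y → x' ≠ y' →
      ∃ u : G, u • Δ = Δ ∧ u • x = x' ∧ u • y = y') :
    IsPreprimitive (stabilizer G Δ) Δ := by
  apply isPreprimitive_of_is_two_pretransitive
  rw [is_two_pretransitive_iff]
  rintro ⟨a, ha⟩ ⟨b, hb⟩ ⟨c, hc⟩ ⟨d, hd⟩ hab hcd
  obtain ⟨u, hu, hua, hub⟩ := h a ha b hb c hc d hd (fun e => hab (Subtype.ext e))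
    (fun e => hcd (Subtype.ext e))
  exact ⟨⟨u, mem_stabilizer_iff.mpr hu⟩, Subtype.ext hua, Subtype.ext hub⟩

end Cfsg.Agent.Lib.Helper8_MG_STABPRIM
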