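import Mathlib
import Cfsg.Agent.Lib.Helper73_MGDefs
import Cfsg.Agent.S3707
import Cfsg.Agent.Lib.Helper11_MG_SMALLaux
import Cfsg.Agent.Lib.Helper96_MG_FINISH2
import Cfsg.Agent.Lib.Helper11_MG_REDUCE
import Cfsg.Agent.Lib.Helper8_MG_FINISH3
import Cfsg.Agent.Lib.Helper58_MG_STAB2T
import Cfsg.Agent.Lib.Helper8_MG_STABPRIM
import Cfsg.Agent.Lib.Helper47_MG_COATOM
import Cfsg.Agent.Lib.Helper58_MG_SWAP
import Cfsg.Agent.Lib.Helper65_MG_ALT3

/-!
# Marggraf's theorem for primitive groups (S3620 market, assembly)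

`marggraf`: a primitive group on `n` points with a Jordan set `Γ`, `1 < |Γ|`, `2|Γ| < n`,
induces every even permutation.  Strong induction on `n`; the packages of the market
`mg_packages` (paper proof: pending/helper73/S3620_proof.md) supply the steps.
-/

set_option autoImplicit false

namespace Cfsg.Agent.Lib.Helper73_MG

open MulAction Equiv
open scoped Pointwise

universe u v

/-- preimage of a Jordan-type set for the stabiliser of `Δ` acting on `Δ`. -/
theorem js_stab {G : Type u} {Ω : Type v} [Group G] [MulAction G Ω] (Δ D : Set Ω)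
    (hD : ∀ p ∈ D, ∀ q ∈ D, ∃ g : G, g • Δ = Δ ∧ (∀ z ∈ Δ, z ∉ D → g • z = z) ∧ g • p = q) :
    JS (stabilizer G Δ) (Subtype.val ⁻¹' D : Set Δ) := by
  intro x hx y hy
  obtain ⟨g, hg1, hg2, hg3⟩ := hD x.1 hx y.1 hy
  refine ⟨⟨g, hg1⟩, ?_, ?_⟩
  · intro z hz
    apply Subtype.ext
    exact hg2 z.1 z.2 hz
  · apply Subtype.ext
    exact hg3

theorem marggraf (n : ℕ) : ∀ {G : Type u} {Ω : Type v} [Group G] [MulAction G Ω] [Fintype Ω]
    [DecidableEq Ω], Fintype.card Ω = n → IsPreprimitive G Ω → ∀ Γ : Set Ω, 1 < Γ.ncard →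
    2 * Γ.ncard < Fintype.card Ω → JS G Γ →
    ∀ σ : Perm Ω, Perm.sign σ = 1 → ∃ g : G, (toPerm g : Perm Ω) = σ := by
  induction n using Nat.strong_induction_on with
  | _ n IH =>
  intro G Ω _ _ _ _ hcard hprim Γ h1 h2 hΓ
  classical
  by_cases hm3 : Γ.ncard ≤ 3
  · exact Cfsg.Agent.Lib.Helper11_MG_SMALLaux.small_case_aux
      (fun g hg => Cfsg.Agent.Lib.Helper8_MG_FINISH3.alt_of_three_cycle hprim g hg)
      (fun g hg => Cfsg.Agent.Lib.Helper96_MG_FINISH2.all_of_swap hprim g hg) Γ h1 hm3 hΓ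
  push Not at hm3
  have hNat : Nat.card Ω = Fintype.card Ω := Nat.card_eq_fintype_card
  have h2t : IsMultiplyPretransitive G Ω 2 :=
    Cfsg.Agent.S3707.step1 hprim Γ h1 (by omega) hΓ
  have hc : Γᶜ.ncard = Nat.card Ω - Γ.ncard := Set.ncard_compl Γ
  by_cases hbig : 2 * Γ.ncard + 1 < Fintype.card Ω
  · -- reduction to a point stabiliser
    have hcpos : 0 < Γᶜ.ncard := by omega
    obtain ⟨a, ha⟩ := (Set.ncard_pos (Γᶜ).toFinite).mp hcpos
    have ha' : a ∉ Γ := ha
    have hprim' := Cfsg.Agent.S3707.step2 h2t Γ h1 (by omega) hΓ a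
    set Γ' : Set (SubMulAction.ofStabilizer G a) := Subtype.val ⁻¹' Γ with hΓ'
    have hΓ'card : Γ'.ncard = Γ.ncard := by
      rw [hΓ']
      apply Set.ncard_preimage_of_injective_subset_range Subtype.val_injective
      intro x hx
      refine ⟨⟨x, ?_⟩, rfl⟩
      rw [SubMulAction.mem_ofStabilizer_iff]
      intro h
      exact ha' (h ▸ hx)
    have hcard' := SubMulAction.nat_card_ofStabilizer_add_one_eq G a
    have hJ' : JS (stabilizer G a) Γ' := by
      intro x hx y hy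
      obtain ⟨g, hg1, hg2⟩ := hΓ x.1 hx y.1 hy
      have hga : g • a = a := hg1 a ha'
      refine ⟨⟨g, hga⟩, ?_, ?_⟩
      · intro z hz
        apply Subtype.ext
        exact hg1 z.1 hz
      · apply Subtype.ext
        exact hg2
    have hc1 : Fintype.card (SubMulAction.ofStabilizer G a) = n - 1 := by
      rw [← Nat.card_eq_fintype_card]; omega
    have hIH := IH (n - 1) (by omega) (G := stabilizer G a)
      (Ω := SubMulAction.ofStabilizer G a) hc1 hprim' Γ' (by omega) (by omega) hJ'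
    obtain ⟨g, hg⟩ := Cfsg.Agent.Lib.Helper11_MG_REDUCE.three_cycle_of_stabilizer a (by omega) hIH
    exact Cfsg.Agent.Lib.Helper8_MG_FINISH3.alt_of_three_cycle hprim g hg
  · -- base case n = 2m+1
    push Not at hbig
    have hn : Nat.card Ω = 2 * Γ.ncard + 1 := by omega
    have h3t : IsMultiplyPretransitive G Ω 3 :=
      Cfsg.Agent.S3707.step3 hprim Γ h1 (by omega) hΓ
    have hst := Cfsg.Agent.Lib.Helper58_MG_STAB2T.stab_two_trans Γ hn hΓ h3t
    have hΔcard : Γᶜ.ncard = Γ.ncard + 1 := by omega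
    have hprimΔ : IsPreprimitive (stabilizer G Γᶜ) (Γᶜ : Set Ω) :=
      Cfsg.Agent.Lib.Helper8_MG_STABPRIM.stab_preprimitive Γᶜ (by omega) hst
    have hcΔ : Fintype.card (Γᶜ : Set Ω) = Γ.ncard + 1 := by
      rw [← Nat.card_eq_fintype_card, Nat.card_coe_set_eq]; exact hΔcard
    -- a Jordan set of size ≥ 2 inside Δ for the stabiliser of Δ
    have hD2 : ∃ D : Set Ω, D ⊆ Γᶜ ∧ 2 ≤ D.ncard ∧ 2 * D.ncard ≤ Γ.ncard ∧
        ∀ p ∈ D, ∀ q ∈ D, ∃ g : G, g • Γᶜ = Γᶜ ∧ (∀ z ∈ Γᶜ, z ∉ D → g • z = z) ∧ g • p = q := by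
      obtain ⟨D, hDs, hDne, hDc, hDJ, hDt⟩ := Cfsg.Agent.Lib.Helper47_MG_COATOM.exists_coatom Γ h1 hn hΓ h2t
      by_cases hd : 2 ≤ D.ncard
      · exact ⟨D, hDs, hd, hDc, hDt⟩
      · push Not at hd
        have hd1 : D.ncard = 1 := by
          have := (Set.ncard_pos D.toFinite).mpr hDne
          omega
        obtain ⟨x₀, rfl⟩ := Set.ncard_eq_one.mp hd1
        have hx₀ : x₀ ∈ Γᶜ := hDs (Set.mem_singleton x₀)
        -- another point of Δ
        have : 1 < Γᶜ.ncard := by omega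
        obtain ⟨y₀, hy₀, hne⟩ := Set.exists_ne_of_one_lt_ncard this x₀
        obtain ⟨u, hu1, hu2, hu3, hu4⟩ :=
          Cfsg.Agent.Lib.Helper58_MG_SWAP.exists_swap Γ hn (by omega) hΓ h3t x₀ y₀ hx₀ hy₀ (Ne.symm hne) hDJ
        refine ⟨{x₀, y₀}, ?_, ?_, ?_, ?_⟩
        · intro z hz
          rcases hz with rfl | rfl
          · exact hx₀
          · exact hy₀
        · rw [Set.ncard_pair (Ne.symm hne)]
        · rw [Set.ncard_pair (Ne.symm hne)]; omega
        · intro p hp q hq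
          have hfix : ∀ z ∈ Γᶜ, z ∉ ({x₀, y₀} : Set Ω) → u • z = z := by
            intro z hz hz'
            apply hu2 z hz
            · intro h; exact hz' (by simp [h])
            · intro h; exact hz' (by simp [h])
          rcases hp with rfl | rfl <;> rcases hq with rfl | rfl
          · exact ⟨1, by simp, by simp, by simp⟩
          · exact ⟨u, hu1, hfix, hu3⟩
          · exact ⟨u, hu1, hfix, hu4⟩
          · exact ⟨1, by simp, by simp, by simp⟩
    obtain ⟨D, hDs, hD2, hDc, hDt⟩ := hD2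
    have hDcard : (Subtype.val ⁻¹' D : Set (Γᶜ : Set Ω)).ncard = D.ncard := by
      apply Set.ncard_preimage_of_injective_subset_range Subtype.val_injective
      intro x hx
      exact ⟨⟨x, hDs hx⟩, rfl⟩
    have hΔ : ∀ σ : Perm (Γᶜ : Set Ω), Perm.sign σ = 1 →
        ∃ u : stabilizer G Γᶜ, (toPerm u : Perm (Γᶜ : Set Ω)) = σ :=
      IH (Γ.ncard + 1) (by omega) (G := stabilizer G Γᶜ) (Ω := (Γᶜ : Set Ω)) hcΔ hprimΔ
        (Subtype.val ⁻¹' D) (by omega) (by omega) (js_stab Γᶜ D hDt)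
    obtain ⟨g, hg⟩ := Cfsg.Agent.Lib.Helper65_MG_ALT3.three_cycle_of_alt (G := G) Γᶜ (by omega) (by rw [compl_compl]; omega) hΔ
    exact Cfsg.Agent.Lib.Helper8_MG_FINISH3.alt_of_three_cycle hprim g hg

end Cfsg.Agent.Lib.Helper73_MG
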