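import Mathlib
import Cfsg.Agent.Lib.Helper73_MGDefs

set_option autoImplicit false

/-!
# Marggraf market, package QP-COUNT (helper80): a union of translates of a block has cardinality
`|B|` times the number of translates inside.
-/

namespace Cfsg.Agent.Lib.Helper80_MG_QPCOUNT

open MulAction Equiv Cfsg.Agent.Lib.Helper73_MG
open scoped Pointwise

universe u v
variable {G : Type u} {Ω : Type v} [Group G] [MulAction G Ω]

/-- QP-COUNT -/
theorem count_blocks [Finite Ω] [IsPretransitive G Ω] (B : Set Ω) (hB : IsBlock G B)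
    (hBne : B.Nonempty) (Γ : Set Ω) (hun : ∀ h : G, h • B ⊆ Γ ∨ h • B ⊆ Γᶜ) :
    Γ.ncard = B.ncard * {C : orbit G B | (C : Set Ω) ⊆ Γ}.ncard := by
  classical
  set S : Set (orbit G B) := {C : orbit G B | (C : Set Ω) ⊆ Γ} with hS
  -- the map from the disjoint union of the translates inside `Γ` to `Γ`
  let f : (Σ C : S, ↥((C : orbit G B) : Set Ω)) → Γ := fun p => ⟨p.2.1, p.1.2 p.2.2⟩
  have hmeet : ∀ C D : orbit G B, ∀ x : Ω, x ∈ (C : Set Ω) → x ∈ (D : Set Ω) → C = D := by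
    rintro ⟨C, g₁, rfl⟩ ⟨D, g₂, rfl⟩ x hx hy
    apply Subtype.ext
    exact isBlock_iff_smul_eq_smul_of_nonempty.mp hB ⟨x, hx, hy⟩
  have hfinj : Function.Injective f := by
    rintro ⟨C, x⟩ ⟨D, y⟩ hxy
    have hxy' : (x : Ω) = y := congrArg (fun t : Γ => (t : Ω)) hxy
    have hCD : (C : orbit G B) = D := hmeet C D x x.2 (hxy' ▸ y.2)
    have hCD' : C = D := Subtype.ext hCD
    subst hCD'
    have : x = y := Subtype.ext hxy'
    rw [this]
  have hfsurj : Function.Surjective f := by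
    rintro ⟨z, hz⟩
    obtain ⟨b, hb⟩ := hBne
    obtain ⟨g, hg⟩ := exists_smul_eq G b z
    have hzg : z ∈ g • B := hg ▸ Set.smul_mem_smul_set hb
    have hsub : g • B ⊆ Γ := by
      rcases hun g with h | h
      · exact h
      · exact absurd hz (h hzg)
    exact ⟨⟨⟨⟨g • B, g, rfl⟩, hsub⟩, ⟨z, hzg⟩⟩, rfl⟩
  have hcard : Nat.card (Σ C : S, ↥((C : orbit G B) : Set Ω)) = Nat.card Γ :=
    Nat.card_congr (Equiv.ofBijective f ⟨hfinj, hfsurj⟩)
  haveI : Fintype S := Fintype.ofFinite S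
  have hsig : Nat.card (Σ C : S, ↥((C : orbit G B) : Set Ω))
      = ∑ C : S, Nat.card ↥((C : orbit G B) : Set Ω) := Nat.card_sigma
  have heach : ∀ C : S, Nat.card ↥((C : orbit G B) : Set Ω) = B.ncard := by
    rintro ⟨⟨C, g, rfl⟩, hC⟩
    change Nat.card ↥(g • B) = B.ncard
    rw [Nat.card_coe_set_eq, Set.ncard_smul_set]
  rw [← Nat.card_coe_set_eq Γ, ← hcard, hsig, Finset.sum_congr rfl (fun C _ => heach C),
    Finset.sum_const, Finset.card_univ, smul_eq_mul, mul_comm, ← Nat.card_eq_fintype_card,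
    Nat.card_coe_set_eq]

end Cfsg.Agent.Lib.Helper80_MG_QPCOUNT
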