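import Mathlib
import Cfsg.Agent.Lib.Helper73_MGDefs

set_option autoImplicit false

/-!
# Marggraf market, package QP-UNION (helper80): every translate of a block lies inside a Jordan set
or inside its complement, and at least two translates lie inside.
-/

namespace Cfsg.Agent.Lib.Helper80_MG_QPUNION

open MulAction Equiv Cfsg.Agent.Lib.Helper73_MG
open scoped Pointwise

universe u v
variable {G : Type u} {Ω : Type v} [Group G] [MulAction G Ω]

/-- an element fixing the complement of `Γ` pointwise maps `Γ` into `Γ` -/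
theorem mem_of_fix {Γ : Set Ω} {j : G} (hj : ∀ z, z ∉ Γ → j • z = z) {x : Ω} (hx : x ∈ Γ) :
    j • x ∈ Γ := by
  by_contra h
  have h1 : j • (j • x) = j • x := hj _ h
  have h2 : j • x = x := smul_left_cancel j h1
  rw [h2] at h
  exact h hx

/-- translates of a block with a common point coincide -/
theorem translate_eq {B : Set Ω} (hB : IsBlock G B) {g₁ g₂ : G} {x : Ω} (h1 : x ∈ g₁ • B)
    (h2 : x ∈ g₂ • B) : g₁ • B = g₂ • B :=
  isBlock_iff_smul_eq_smul_of_nonempty.mp hB ⟨x, h1, h2⟩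

/-- no translate of the block contains the Jordan set -/
theorem not_subset (B : Set Ω) (hB : IsBlock G B)
    (hker : ∀ g : G, (∀ h : G, g • (h • B) = h • B) → g = 1)
    (Γ : Set Ω) (h1 : 1 < Γ.ncard) (hΓ : JS G Γ) (h : G) (hsub : Γ ⊆ h • B) : False := by
  have hfin : Γ.Finite := Set.finite_of_ncard_pos (by omega)
  obtain ⟨x, y, hx, hy, hxy⟩ := (Set.one_lt_ncard_iff hfin).mp h1
  obtain ⟨j, hj, hjxy⟩ := hΓ x hx y hy
  have hj1 : j = 1 := by
    apply hker
    intro h'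
    by_cases he : h' • B = h • B
    · rw [he]
      have hxm : j • x ∈ h • B := hsub (mem_of_fix hj hx)
      have hxm' : j • x ∈ j • (h • B) := Set.smul_mem_smul_set (hsub hx)
      rw [smul_smul] at hxm' ⊢
      exact translate_eq hB hxm' hxm
    · -- `h' • B` is disjoint from `h • B`, hence from `Γ`
      have hdis : Disjoint (h' • B) (h • B) := hB he
      ext z
      constructor
      · rintro ⟨w, hw, rfl⟩
        have hwΓ : w ∉ Γ := fun hwΓ => Set.disjoint_left.mp hdis hw (hsub hwΓ)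
        change j • w ∈ h' • B
        rw [hj w hwΓ]
        exact hw
      · intro hz
        have hzΓ : z ∉ Γ := fun hzΓ => Set.disjoint_left.mp hdis hz (hsub hzΓ)
        refine ⟨z, hz, ?_⟩
        exact hj z hzΓ
  apply hxy
  rw [← hjxy, hj1, one_smul]

/-- QP-UNION -/
theorem blocks_in_jordan [IsPretransitive G Ω] (B : Set Ω) (hB : IsBlock G B) (hBne : B.Nonempty)
    (hker : ∀ g : G, (∀ h : G, g • (h • B) = h • B) → g = 1)
    (Γ : Set Ω) (h1 : 1 < Γ.ncard) (hΓ : JS G Γ) :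
    (∀ h : G, h • B ⊆ Γ ∨ h • B ⊆ Γᶜ) ∧
      ∃ h₁ h₂ : G, h₁ • B ⊆ Γ ∧ h₂ • B ⊆ Γ ∧ h₁ • B ≠ h₂ • B := by
  have hK := not_subset B hB hker Γ h1 hΓ
  have part1 : ∀ h : G, h • B ⊆ Γ ∨ h • B ⊆ Γᶜ := by
    intro h
    by_contra hcon
    push Not at hcon
    obtain ⟨hc1, hc2⟩ := hcon
    obtain ⟨q, hqB, hqΓ⟩ := Set.not_subset.mp hc1
    obtain ⟨p, hpB, hpΓ⟩ := Set.not_subset.mp hc2
    have hpΓ' : p ∈ Γ := by
      by_contra hp
      exact hpΓ hp
    apply hK h
    intro y hy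
    obtain ⟨j, hj, hjp⟩ := hΓ p hpΓ' y hy
    have hq1 : q ∈ j • (h • B) := by
      have : j • q ∈ j • (h • B) := Set.smul_mem_smul_set hqB
      rwa [hj q hqΓ] at this
    have heq : j • (h • B) = h • B := by
      rw [smul_smul] at hq1 ⊢
      exact translate_eq hB hq1 hqB
    rw [← heq, ← hjp]
    exact Set.smul_mem_smul_set hpB
  refine ⟨part1, ?_⟩
  have hfin : Γ.Finite := Set.finite_of_ncard_pos (by omega)
  obtain ⟨x, y, hx, hy, hxy⟩ := (Set.one_lt_ncard_iff hfin).mp h1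
  -- every point lies in a translate
  have hcover : ∀ z : Ω, ∃ g : G, z ∈ g • B := by
    intro z
    obtain ⟨b, hb⟩ := hBne
    obtain ⟨g, hg⟩ := exists_smul_eq G b z
    exact ⟨g, hg ▸ Set.smul_mem_smul_set hb⟩
  have hin : ∀ (g : G) (z : Ω), z ∈ Γ → z ∈ g • B → g • B ⊆ Γ := by
    intro g z hz hzg
    rcases part1 g with h | h
    · exact h
    · exact absurd hz (h hzg)
  obtain ⟨h₁, hh₁⟩ := hcover x
  have hsub₁ : h₁ • B ⊆ Γ := hin h₁ x hx hh₁
  obtain ⟨w, hwΓ, hwB⟩ := Set.not_subset.mp (fun hs => hK h₁ hs)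
  obtain ⟨h₂, hh₂⟩ := hcover w
  refine ⟨h₁, h₂, hsub₁, hin h₂ w hwΓ hh₂, ?_⟩
  intro he
  exact hwB (he ▸ hh₂)

end Cfsg.Agent.Lib.Helper80_MG_QPUNION
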