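import Mathlib
import Cfsg.Agent.Lib.Helper73_MGDefs
import Cfsg.Agent.Lib.Helper73_MG_Main
import Cfsg.Agent.Lib.Helper49_MG_QPTRANS
import Cfsg.Agent.Lib.Helper52_MG_QPBLOCK
import Cfsg.Agent.Lib.Helper21_MG_QPKER
import Cfsg.Agent.Lib.Helper80_MG_QPUNION
import Cfsg.Agent.Lib.Helper80_MG_QPCOUNT
import Cfsg.Agent.Lib.Helper49_MG_QPJSB
import Cfsg.Agent.Lib.Helper43_MG_QPCONTRA

/-!
# Quasiprimitive + small Jordan set implies primitive (S3620 market, assembly)
-/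

set_option autoImplicit false

namespace Cfsg.Agent.Lib.Helper73_MG

open MulAction Equiv
open scoped Pointwise

universe u v

theorem qp_preprimitive {G : Type u} {Ω : Type v} [Group G] [Finite G] [MulAction G Ω]
    [Finite Ω]
    (hqp : ∀ N : Subgroup G, N.Normal → N ≠ ⊥ → IsPretransitive N Ω)
    (Γ : Set Ω) (h1 : 1 < Γ.ncard) (h2 : 2 * Γ.ncard < Nat.card Ω) (hΓ : JS G Γ) :
    IsPreprimitive G Ω := by
  classical
  have htr : IsPretransitive G Ω := Cfsg.Agent.Lib.Helper49_MG_QPTRANS.qp_pretransitive hqp Γ h1 hΓ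
  by_contra hnp
  obtain ⟨B, hB, h1B, hBu, hBprim⟩ := Cfsg.Agent.Lib.Helper52_MG_QPBLOCK.exists_max_block (G := G) (Ω := Ω) hnp
  have hBne : B.Nonempty := by
    rw [← Set.ncard_pos B.toFinite]; omega
  have hker := fun g hg => Cfsg.Agent.Lib.Helper21_MG_QPKER.kernel_trivial hqp B hBne hBu g hg
  obtain ⟨hun, h₁, h₂, hh₁, hh₂, h12⟩ := Cfsg.Agent.Lib.Helper80_MG_QPUNION.blocks_in_jordan B hB hBne hker Γ h1 hΓ
  have hcount := Cfsg.Agent.Lib.Helper80_MG_QPCOUNT.count_blocks B hB hBne Γ hun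
  have htot := hB.ncard_block_mul_ncard_orbit_eq hBne
  set S : Set (orbit G B) := {C : orbit G B | (C : Set Ω) ⊆ Γ} with hS
  have hJS : JS G S := Cfsg.Agent.Lib.Helper49_MG_QPJSB.js_blocks B hB hBne Γ hΓ hun
  let _ : Fintype (orbit G B) := Fintype.ofFinite _
  -- cardinalities
  have hk : Nat.card (orbit G B) = (orbit G B).ncard := Nat.card_coe_set_eq _
  have hs1 : 1 < S.ncard := by
    rw [Set.one_lt_ncard_iff S.toFinite]
    refine ⟨⟨h₁ • B, mem_orbit B h₁⟩, ⟨h₂ • B, mem_orbit B h₂⟩, hh₁, hh₂, ?_⟩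
    intro h
    exact h12 (congrArg Subtype.val h)
  have hBpos : 0 < B.ncard := by omega
  have hs2 : 2 * S.ncard < Nat.card (orbit G B) := by
    rw [hk]
    have : B.ncard * (2 * S.ncard) < B.ncard * (orbit G B).ncard := by
      rw [htot]; rw [hcount] at h2; linarith [h2]
    exact Nat.lt_of_mul_lt_mul_left this
  -- two blocks outside S
  have hSc : 1 < Sᶜ.ncard := by
    rw [Set.ncard_compl S]; omega
  obtain ⟨Ca, Cb, hCa, hCb, hCab⟩ := (Set.one_lt_ncard_iff Sᶜ.toFinite).mp hSc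
  obtain ⟨ha, hCa'⟩ := Ca.2
  obtain ⟨hb, hCb'⟩ := Cb.2
  simp only at hCa' hCb'
  have hha : ha • B ⊆ Γᶜ := by
    rcases hun ha with h | h
    · exfalso; apply hCa; show (Ca : Set Ω) ⊆ Γ; rw [← hCa']; exact h
    · exact h
  have hhb : hb • B ⊆ Γᶜ := by
    rcases hun hb with h | h
    · exfalso; apply hCb; show (Cb : Set Ω) ⊆ Γ; rw [← hCb']; exact h
    · exact h
  have hab : ha • B ≠ hb • B := by
    intro h
    apply hCab
    apply Subtype.ext
    rw [← hCa', ← hCb']; exact h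
  have halt := marggraf (Fintype.card (orbit G B)) (G := G) (Ω := orbit G B) rfl hBprim S hs1
    (by rw [← Nat.card_eq_fintype_card]; exact hs2) hJS
  exact Cfsg.Agent.Lib.Helper43_MG_QPCONTRA.contra B hB h1B hker Γ hΓ hun h₁ ha hb hh₁ hha hhb hab halt

end Cfsg.Agent.Lib.Helper73_MG
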