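import Mathlib
import Cfsg.Agent.Lib.Helper73_MGDefs

/-! # MG-UNION and MG-SMUL (S3620 market): unions and translates of Jordan sets -/

set_option autoImplicit false

namespace Cfsg.Agent.Lib.Helper73_MG_UNION

open MulAction Equiv
open scoped Pointwise
open Cfsg.Agent.Lib.Helper73_MG

universe u v
variable {G : Type u} {Ω : Type v} [Group G] [MulAction G Ω]

/-- MG-UNION -/
theorem js_union {S T : Set Ω} (hS : JS G S) (hT : JS G T) (h : (S ∩ T).Nonempty) :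
    JS G (S ∪ T) := by
  obtain ⟨c, hcS, hcT⟩ := h
  have key : ∀ x ∈ S ∪ T, ∃ g : G, (∀ z, z ∉ S ∪ T → g • z = z) ∧ g • x = c := by
    intro x hx
    rcases hx with hx | hx
    · obtain ⟨g, hg1, hg2⟩ := hS x hx c hcS
      exact ⟨g, fun z hz => hg1 z (fun h' => hz (Or.inl h')), hg2⟩
    · obtain ⟨g, hg1, hg2⟩ := hT x hx c hcT
      exact ⟨g, fun z hz => hg1 z (fun h' => hz (Or.inr h')), hg2⟩
  intro x hx y hy
  obtain ⟨g, hg1, hg2⟩ := key x hx
  obtain ⟨k, hk1, hk2⟩ := key y hy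
  refine ⟨k⁻¹ * g, ?_, ?_⟩
  · intro z hz
    rw [mul_smul, hg1 z hz, inv_smul_eq_iff, hk1 z hz]
  · rw [mul_smul, hg2, inv_smul_eq_iff, hk2]

/-- MG-SMUL -/
theorem js_smul {S : Set Ω} (hS : JS G S) (g : G) : JS G (g • S) := by
  rintro _ ⟨x, hx, rfl⟩ _ ⟨y, hy, rfl⟩
  obtain ⟨k, hk1, hk2⟩ := hS x hx y hy
  refine ⟨g * k * g⁻¹, ?_, ?_⟩
  · intro z hz
    have hz' : g⁻¹ • z ∉ S := by
      intro h'
      apply hz
      exact ⟨g⁻¹ • z, h', by simp⟩
    rw [mul_smul, mul_smul, hk1 _ hz', smul_inv_smul]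
  · simp only [mul_smul]
    rw [inv_smul_smul, hk2]

end Cfsg.Agent.Lib.Helper73_MG_UNION
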