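import Mathlib
import Cfsg.Agent.Lib.Helper72_MinIdxDefs
import Cfsg.Agent.Lib.Helper72_MI_R1BCore

set_option autoImplicit false

/-!
MI-O (helper72's package market for row S2140): Lemma O, pure finite group actions.  An abelian
`p`-group `A` acting on `Ω` without fixed points, every nonidentity element fixing exactly `r`
points, `|Ω| < 2 |A|`: then `|Ω| + 1 = (number of orbits) + |A|` and the stabilizers of two
different orbits generate `A`.
-/

namespace Cfsg.Agent.Lib.Helper73_MI_O

open MulAction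


/-- cardinality of a subgroup intersected with the stabilizer, as a filter count -/
theorem card_stab_inf {A Ω : Type*} [Group A] [Fintype A] [DecidableEq A] [Fintype Ω]
    [DecidableEq Ω] [MulAction A Ω]
    (D : Subgroup A) [DecidablePred (· ∈ D)] (ω : Ω) :
    Nat.card ↥(stabilizer A ω ⊓ D) =
      (Finset.univ.filter (fun a : A => a ∈ D ∧ a • ω = ω)).card := by
  classical
  rw [Nat.card_eq_fintype_card, Fintype.card_subtype]
  congr 1
  ext a
  simp only [Finset.mem_filter, Finset.mem_univ, true_and, Subgroup.mem_inf, mem_stabilizer_iff]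
  tauto

theorem card_fixedBy {A Ω : Type*} [Group A] [Fintype Ω]
    [DecidableEq Ω] [MulAction A Ω] (a : A) :
    Nat.card (fixedBy Ω a) = (Finset.univ.filter (fun ω : Ω => a • ω = ω)).card := by
  classical
  rw [Nat.card_eq_fintype_card, Fintype.card_subtype]
  congr 1

/-- pairs counting -/
theorem sum_card_stab_inf {A Ω : Type*} [Group A] [Fintype A] [DecidableEq A] [Fintype Ω]
    [DecidableEq Ω] [MulAction A Ω]
    (D : Subgroup A) [DecidablePred (· ∈ D)] :
    ∑ ω : Ω, Nat.card ↥(stabilizer A ω ⊓ D) =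
      ∑ a ∈ Finset.univ.filter (fun a : A => a ∈ D), Nat.card (fixedBy Ω a) := by
  simp_rw [card_stab_inf D, card_fixedBy]
  have h := Finset.sum_card_bipartiteAbove_eq_sum_card_bipartiteBelow
    (s := (Finset.univ : Finset Ω)) (t := (Finset.univ : Finset A))
    (fun (ω : Ω) (a : A) => a ∈ D ∧ a • ω = ω)
  simp only [Finset.bipartiteAbove, Finset.bipartiteBelow] at h
  rw [h, Finset.sum_filter]
  apply Finset.sum_congr rfl
  intro a _
  by_cases ha : a ∈ D
  · simp [ha]
  · simp [ha]



theorem sum_fixedBy {A Ω : Type*} [Group A] [Fintype A] [DecidableEq A] [Fintype Ω]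
    [MulAction A Ω] (D : Subgroup A) [DecidablePred (· ∈ D)] (r : ℕ)
    (hr : ∀ a : A, a ≠ 1 → Nat.card (fixedBy Ω a) = r) :
    ∑ a ∈ Finset.univ.filter (fun a : A => a ∈ D), Nat.card (fixedBy Ω a) + r =
      Nat.card Ω + Nat.card D * r := by
  classical
  have h1 : (1 : A) ∈ Finset.univ.filter (fun a : A => a ∈ D) := by
    simp [D.one_mem]
  rw [← Finset.add_sum_erase _ _ h1]
  have h2 : ∀ a ∈ (Finset.univ.filter (fun a : A => a ∈ D)).erase 1,
      Nat.card (fixedBy Ω a) = r := by
    intro a ha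
    exact hr a (Finset.ne_of_mem_erase ha)
  rw [Finset.sum_congr rfl h2, Finset.sum_const, Finset.card_erase_of_mem h1, smul_eq_mul]
  have h3 : Nat.card (fixedBy Ω (1 : A)) = Nat.card Ω := by
    have : fixedBy Ω (1 : A) = Set.univ := by
      ext x; simp
    rw [this, Nat.card_coe_set_eq, Set.ncard_univ]
  have h4 : (Finset.univ.filter (fun a : A => a ∈ D)).card = Nat.card D := by
    rw [Nat.card_eq_fintype_card, Fintype.card_subtype]
  rw [h3, h4]
  have h5 : 1 ≤ Nat.card D := Nat.one_le_iff_ne_zero.mpr (Nat.card_pos).ne'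
  obtain ⟨d, hd⟩ : ∃ d, Nat.card D = d + 1 := ⟨Nat.card D - 1, by omega⟩
  rw [hd]
  simp only [Nat.add_sub_cancel]
  ring

/-- in an abelian group the stabilizer is constant on orbits -/
theorem stab_eq_of_mem_orbit {A Ω : Type*} [Group A] [MulAction A Ω]
    (hcomm : ∀ a b : A, a * b = b * a) {ω x : Ω} (hx : x ∈ orbit A ω) :
    stabilizer A x = stabilizer A ω := by
  obtain ⟨g, rfl⟩ := hx
  ext a
  simp only [mem_stabilizer_iff]
  constructor
  · intro h
    have h1 : g⁻¹ • (a • g • ω) = g⁻¹ • g • ω := by rw [h]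
    rw [inv_smul_smul, ← mul_smul, ← mul_smul, hcomm g⁻¹ a, mul_assoc, inv_mul_cancel,
      mul_one] at h1
    exact h1
  · intro h
    rw [← mul_smul, hcomm a g, mul_smul, h]

/-- orbit sums -/
theorem sum_orbit {A Ω : Type*} [Group A] [Fintype A] [Fintype Ω] [DecidableEq Ω]
    [MulAction A Ω] (hcomm : ∀ a b : A, a * b = b * a) (ω : Ω)
    [DecidablePred (· ∈ orbit A ω)] :
    ∑ x ∈ Finset.univ.filter (fun x : Ω => x ∈ orbit A ω), Nat.card (stabilizer A x) =
      Nat.card A := by
  classical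
  have h1 : ∀ x ∈ Finset.univ.filter (fun x : Ω => x ∈ orbit A ω),
      Nat.card (stabilizer A x) = Nat.card (stabilizer A ω) := by
    intro x hx
    rw [Finset.mem_filter] at hx
    rw [stab_eq_of_mem_orbit hcomm hx.2]
  rw [Finset.sum_congr rfl h1, Finset.sum_const, smul_eq_mul]
  have h2 : (Finset.univ.filter (fun x : Ω => x ∈ orbit A ω)).card = Nat.card (orbit A ω) := by
    rw [Nat.card_eq_fintype_card, Fintype.card_subtype]
  rw [h2]
  have := card_orbit_mul_card_stabilizer_eq_card_group A ω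
  rw [Nat.card_eq_fintype_card, Nat.card_eq_fintype_card, Nat.card_eq_fintype_card]
  convert this



/-- a subgroup of index `p` in an abelian group meets any subgroup `H` in `H` or in a subgroup of
index `p` of `H` -/
theorem le_or_card_inf {A : Type*} [Group A] [Finite A]
    (hcomm : ∀ a b : A, a * b = b * a) (p : ℕ) [Fact p.Prime] (D H : Subgroup A)
    (hD : Nat.card D * p = Nat.card A) :
    H ≤ D ∨ Nat.card ↥(H ⊓ D) * p = Nat.card H := by
  have hp : p.Prime := Fact.out
  have hDn : D.Normal := ⟨fun n hn g => by rw [hcomm g n, mul_inv_cancel_right]; exact hn⟩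
  have hidx : D.index = p := by
    have h1 := D.card_mul_index
    rw [← hD] at h1
    exact Nat.eq_of_mul_eq_mul_left Nat.card_pos h1
  have hdvd : D.relIndex H ∣ p := hidx ▸ Subgroup.relIndex_dvd_index_of_normal D H
  have hmul : Nat.card ↥(H ⊓ D) * D.relIndex H = Nat.card H := by
    have h1 := Subgroup.relIndex_mul_relIndex ⊥ (H ⊓ D) H bot_le inf_le_left
    rw [Subgroup.relIndex_bot_left, Subgroup.relIndex_bot_left, Subgroup.inf_relIndex_left] at h1
    exact h1
  rcases (Nat.dvd_prime hp).mp hdvd with h1 | h1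
  · left
    exact Subgroup.relIndex_eq_one.mp h1
  · right
    rw [h1] at hmul
    exact hmul

/-- a proper subgroup of a finite `p`-group lies in a subgroup of index `p` -/
theorem exists_index_p {A : Type*} [Group A] [Finite A] (p : ℕ) [Fact p.Prime]
    (hA : IsPGroup p A) (H : Subgroup A) (hH : H ≠ ⊤) :
    ∃ D : Subgroup A, H ≤ D ∧ Nat.card D * p = Nat.card A := by
  have hp : p.Prime := Fact.out
  obtain ⟨N, hN⟩ := IsPGroup.iff_card.mp hA
  obtain ⟨n, hn⟩ := IsPGroup.iff_card.mp (hA.to_subgroup H)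
  have hlt : n < N := by
    by_contra hcon
    push Not at hcon
    apply hH
    apply Subgroup.eq_top_of_card_eq
    have h1 : Nat.card H ∣ Nat.card A := Subgroup.card_subgroup_dvd_card H
    have h2 : Nat.card A ≤ Nat.card H := by
      rw [hN, hn]; exact Nat.pow_le_pow_right hp.pos hcon
    exact le_antisymm (Nat.le_of_dvd Nat.card_pos h1) h2
  obtain ⟨N', rfl⟩ : ∃ N', N = N' + 1 := ⟨N - 1, by omega⟩
  obtain ⟨K, hK, hHK⟩ := Sylow.exists_subgroup_card_pow_prime_le p
    (show p ^ N' ∣ Nat.card A by rw [hN]; exact pow_dvd_pow p (by omega)) H hn (by omega)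
  exact ⟨K, hHK, by rw [hK, hN, pow_succ]⟩


/-- the key identity: for a subgroup `D` of index `p`, the stabilizers contained in `D` have total
order `|Ω| - r` -/
theorem key {A Ω : Type*} [Group A] [Fintype A] [DecidableEq A] [Fintype Ω] [DecidableEq Ω]
    [MulAction A Ω] (hcomm : ∀ a b : A, a * b = b * a) (p : ℕ) [Fact p.Prime] (r : ℕ)
    (hr : ∀ a : A, a ≠ 1 → Nat.card (fixedBy Ω a) = r) (D : Subgroup A)
    (hD : Nat.card D * p = Nat.card A) [DecidablePred (fun ω : Ω => stabilizer A ω ≤ D)] :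
    ∑ ω ∈ Finset.univ.filter (fun ω : Ω => stabilizer A ω ≤ D), Nat.card (stabilizer A ω) + r =
      Nat.card Ω := by
  classical
  have hp : p.Prime := Fact.out
  obtain ⟨p', rfl⟩ : ∃ p', p = p' + 1 := ⟨p - 1, by have := hp.pos; omega⟩
  have hp'0 : p' ≠ 0 := by
    intro h; rw [h] at hp; exact Nat.not_prime_one hp
  -- the two pair counts
  have e1 : ∑ ω : Ω, Nat.card (stabilizer A ω) + r = Nat.card Ω + Nat.card A * r := by
    have h1 := sum_card_stab_inf (Ω := Ω) (⊤ : Subgroup A)
    have h2 := sum_fixedBy (Ω := Ω) (⊤ : Subgroup A) r hr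
    rw [← h1, Subgroup.card_top] at h2
    simpa using h2
  have e2 : ∑ ω : Ω, Nat.card ↥(stabilizer A ω ⊓ D) + r = Nat.card Ω + Nat.card D * r := by
    have h1 := sum_card_stab_inf (Ω := Ω) D
    have h2 := sum_fixedBy (Ω := Ω) D r hr
    rw [← h1] at h2
    exact h2
  -- the comparison of the two
  have e3 : (p' + 1) * ∑ ω : Ω, Nat.card ↥(stabilizer A ω ⊓ D) =
      ∑ ω : Ω, Nat.card (stabilizer A ω) +
        p' * ∑ ω ∈ Finset.univ.filter (fun ω : Ω => stabilizer A ω ≤ D),
          Nat.card (stabilizer A ω) := by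
    rw [Finset.mul_sum, Finset.mul_sum, Finset.sum_filter, ← Finset.sum_add_distrib]
    apply Finset.sum_congr rfl
    intro ω _
    by_cases hle : stabilizer A ω ≤ D
    · rw [if_pos hle, inf_eq_left.mpr hle]
      ring
    · rw [if_neg hle]
      rcases le_or_card_inf hcomm (p' + 1) D (stabilizer A ω) hD with h | h
      · exact absurd h hle
      · rw [← h]; ring
  have hkey : p' * (∑ ω ∈ Finset.univ.filter (fun ω : Ω => stabilizer A ω ≤ D),
      Nat.card (stabilizer A ω) + r) = p' * Nat.card Ω := by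
    zify at e1 e2 e3 hD ⊢
    linear_combination ((p' : ℤ) + 1) * e2 - e3 - e1 + (r : ℤ) * hD
  exact Nat.eq_of_mul_eq_mul_left (Nat.pos_of_ne_zero hp'0) hkey

theorem lemmaO {A Ω : Type*} [Group A] [Finite A] [Finite Ω] [Nonempty Ω] [MulAction A Ω]
    (hcomm : ∀ a b : A, a * b = b * a) (p : ℕ) [Fact p.Prime] (hA : IsPGroup p A)
    (hfix : ∀ ω : Ω, MulAction.stabilizer A ω ≠ ⊤)
    (r : ℕ) (hr : ∀ a : A, a ≠ 1 → Nat.card (MulAction.fixedBy Ω a) = r)
    (hm : Nat.card Ω < 2 * Nat.card A) :
    Nat.card Ω + 1 = Nat.card (MulAction.orbitRel.Quotient A Ω) + Nat.card A ∧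
    ∀ ω ω' : Ω, MulAction.orbit A ω ≠ MulAction.orbit A ω' →
      MulAction.stabilizer A ω ⊔ MulAction.stabilizer A ω' = ⊤ := by
  classical
  have : Fintype A := Fintype.ofFinite A
  have : Fintype Ω := Fintype.ofFinite Ω
  have hQpos : 0 < Nat.card A := Nat.card_pos
  -- Burnside
  have hburn : Nat.card (MulAction.orbitRel.Quotient A Ω) * Nat.card A + r =
      Nat.card Ω + Nat.card A * r := by
    have h1 := MulAction.sum_card_fixedBy_eq_card_orbits_mul_card_group A Ω
    have h2 := sum_fixedBy (Ω := Ω) (⊤ : Subgroup A) r hr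
    rw [Subgroup.card_top] at h2
    have h3 : ∑ a ∈ Finset.univ.filter (fun a : A => a ∈ (⊤ : Subgroup A)),
        Nat.card (fixedBy Ω a) = ∑ a : A, Fintype.card (fixedBy Ω a) := by
      rw [Finset.filter_true_of_mem (fun a _ => Subgroup.mem_top a)]
      apply Finset.sum_congr rfl
      intro a _
      rw [Nat.card_eq_fintype_card]
    rw [h3, h1] at h2
    rw [Nat.card_eq_fintype_card (α := MulAction.orbitRel.Quotient A Ω),
      Nat.card_eq_fintype_card (α := A)] at *
    convert h2 using 2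
  -- the constant value
  have hX : ∀ D : Subgroup A, Nat.card D * p = Nat.card A →
      ∑ ω ∈ Finset.univ.filter (fun ω : Ω => stabilizer A ω ≤ D), Nat.card (stabilizer A ω) + r =
        Nat.card Ω := fun D hD => key hcomm p r hr D hD
  -- a first orbit
  obtain ⟨ω₀⟩ := ‹Nonempty Ω›
  obtain ⟨D₀, hD₀le, hD₀⟩ := exists_index_p p hA _ (hfix ω₀)
  have hXge : Nat.card A ≤
      ∑ ω ∈ Finset.univ.filter (fun ω : Ω => stabilizer A ω ≤ D₀), Nat.card (stabilizer A ω) := by
    rw [← sum_orbit hcomm ω₀]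
    apply Finset.sum_le_sum_of_subset
    intro x hx
    rw [Finset.mem_filter] at hx ⊢
    exact ⟨hx.1, (stab_eq_of_mem_orbit hcomm hx.2).le.trans hD₀le⟩
  have hXm := hX D₀ hD₀
  set X := ∑ ω ∈ Finset.univ.filter (fun ω : Ω => stabilizer A ω ≤ D₀),
    Nat.card (stabilizer A ω) with hXdef
  have haQ : Nat.card (MulAction.orbitRel.Quotient A Ω) * Nat.card A = X + Nat.card A * r := by
    omega
  have hdvd : Nat.card A ∣ X :=
    (Nat.dvd_add_left (dvd_mul_right (Nat.card A) r)).mp (haQ ▸ dvd_mul_left _ _)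
  have hXQ : X = Nat.card A := by
    obtain ⟨k, hk⟩ := hdvd
    have hk1 : k = 1 := by
      have h1 : Nat.card A * k < Nat.card A * 2 := by omega
      have h2 : Nat.card A * 1 ≤ Nat.card A * k := by omega
      have h3 := Nat.lt_of_mul_lt_mul_left h1
      have h4 := Nat.le_of_mul_le_mul_left h2 hQpos
      omega
    rw [hk, hk1, mul_one]
  refine ⟨?_, ?_⟩
  · have h1 : Nat.card (MulAction.orbitRel.Quotient A Ω) * Nat.card A =
        (1 + r) * Nat.card A := by
      rw [haQ, hXQ]; ring
    have h2 := Nat.eq_of_mul_eq_mul_right hQpos h1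
    omega
  · intro ω ω' hne
    by_contra hsup
    obtain ⟨D, hDle, hD⟩ := exists_index_p p hA _ hsup
    have h1 : stabilizer A ω ≤ D := le_sup_left.trans hDle
    have h2 : stabilizer A ω' ≤ D := le_sup_right.trans hDle
    have hdisj : Disjoint (Finset.univ.filter (fun x : Ω => x ∈ orbit A ω))
        (Finset.univ.filter (fun x : Ω => x ∈ orbit A ω')) := by
      rw [Finset.disjoint_left]
      intro x hx hx'
      rw [Finset.mem_filter] at hx hx'
      apply hne
      rw [← MulAction.orbit_eq_iff.mpr hx.2, ← MulAction.orbit_eq_iff.mpr hx'.2]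
    have h3 : 2 * Nat.card A ≤
        ∑ ω ∈ Finset.univ.filter (fun ω : Ω => stabilizer A ω ≤ D), Nat.card (stabilizer A ω) := by
      have h4 : 2 * Nat.card A =
          ∑ x ∈ Finset.univ.filter (fun x : Ω => x ∈ orbit A ω) ∪
            Finset.univ.filter (fun x : Ω => x ∈ orbit A ω'), Nat.card (stabilizer A x) := by
        rw [Finset.sum_union hdisj, sum_orbit hcomm ω, sum_orbit hcomm ω']; ring
      rw [h4]
      apply Finset.sum_le_sum_of_subset
      intro x hx
      rw [Finset.mem_union, Finset.mem_filter, Finset.mem_filter] at hx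
      rw [Finset.mem_filter]
      rcases hx with hx | hx
      · exact ⟨hx.1, (stab_eq_of_mem_orbit hcomm hx.2).le.trans h1⟩
      · exact ⟨hx.1, (stab_eq_of_mem_orbit hcomm hx.2).le.trans h2⟩
    have h5 := hX D hD
    omega

end Cfsg.Agent.Lib.Helper73_MI_O
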