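import Mathlib
import Cfsg.Agent.Lib.Helper29_ODDefs
import Cfsg.Agent.Lib.Helper94_OrthRefl
import Cfsg.Agent.Lib.Helper74_OD_BASIC

set_option autoImplicit false

/-!
OD-B5 (helper29's package market for row S5677): in case B with block dimension `k ≥ 5`, every
element of `M` maps every block into a block.
-/

namespace Cfsg.Agent.Lib.Helper73_OD_B5

open Module Cfsg.Agent.Lib.Helper94_Symp Cfsg.Agent.Lib.Helper94_OrthSmall
  Cfsg.Agent.Lib.Helper94_OrthSiegel Cfsg.Agent.Lib.Helper94_OrthSiegel2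
  Cfsg.Agent.Lib.Helper94_OrthPara Cfsg.Agent.Lib.Helper94_OrthVec
  Cfsg.Agent.Lib.Helper94_OrthNondeg Cfsg.Agent.Lib.Helper94_OrthRefl
  Cfsg.Agent.Lib.Helper29_ODDefs

variable {F V : Type*} [Field F] [AddCommGroup V] [Module F V] [Finite F] [FiniteDimensional F V]
  {Q : V → F} {B : LinearMap.BilinForm F V}

omit [Finite F] [FiniteDimensional F V] in
/-- The image of a nondegenerate subspace under an isometry is nondegenerate. -/
theorem map_nondeg (hQp : ∀ u v : V, Q (u + v) = Q u + Q v + B u v) {g : V ≃ₗ[F] V}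
    (hg : g ∈ oG Q) (A : Submodule F V) (hA : ∀ a ∈ A, a ≠ 0 → ∃ x ∈ A, B x a ≠ 0) :
    ∀ a ∈ A.map (g : V →ₗ[F] V), a ≠ 0 → ∃ x ∈ A.map (g : V →ₗ[F] V), B x a ≠ 0 := by
  rintro _ ⟨a, ha, rfl⟩ ha0
  have ha0' : a ≠ 0 := by
    intro h
    apply ha0
    rw [h]
    exact map_zero _
  obtain ⟨x, hx, hxa⟩ := hA a ha ha0'
  refine ⟨g x, ⟨x, hx, rfl⟩, ?_⟩
  have := oG_B Q B hQp hg x a
  simp only [LinearEquiv.coe_coe]
  rw [this]
  exact hxa

/-- A nondegenerate subspace of dimension at least three is spanned by its singular vectors. -/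
theorem le_of_sing (hQs : ∀ (c : F) (v : V), Q (c • v) = c * c * Q v)
    (hQp : ∀ u v : V, Q (u + v) = Q u + Q v + B u v) (A X : Submodule F V)
    (hA : ∀ a ∈ A, a ≠ 0 → ∃ x ∈ A, B x a ≠ 0) (h3 : 3 ≤ finrank F A)
    (hX : ∀ s ∈ A, s ≠ 0 → Q s = 0 → s ∈ X) : A ≤ X := by
  have hsymm := B_symm Q B hQp
  have hX' : ∀ s ∈ A, Q s = 0 → s ∈ X := by
    intro s hs hQ
    by_cases h0 : s = 0
    · rw [h0]; exact X.zero_mem
    · exact hX s hs h0 hQ
  intro a1 ha1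
  by_cases ha10 : a1 = 0
  · rw [ha10]
    exact X.zero_mem
  obtain ⟨s1, hs1A, hQs1, hs1a⟩ := exists_sing_not_orth Q B hQs hQp A hA h3 (hA a1 ha1 ha10)
  have ha1s : B a1 s1 ≠ 0 := by rw [hsymm]; exact hs1a
  have h1 := sing_adjust Q B hQs hQp hQs1 ha1s
  have h2 := hX' _ (A.add_mem ha1 (A.smul_mem _ hs1A)) h1
  have h3' := hX' s1 hs1A hQs1
  have h4 := X.sub_mem h2 (X.smul_mem (-(Q a1 / B a1 s1)) h3')
  rwa [add_sub_cancel_right] at h4

omit [Finite F] [FiniteDimensional F V] in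
/-- One direction of Claim 1: orthogonal singular vectors of an `M`-image of a block. -/
theorem perp_of_perp {t : ℕ} {D : Fin t → Submodule F V} {M : Subgroup (V ≃ₗ[F] V)}
    (hsa : StarA Q B D M) (hsb : StarB Q B D M) {g : V ≃ₗ[F] V} (hg : g ∈ M) (i : Fin t)
    {y w : V} (hy : y ∈ (D i).map (g : V →ₗ[F] V)) (hy0 : y ≠ 0) (hQy : Q y = 0)
    (hw : w ∈ (D i).map (g : V →ₗ[F] V)) (hyw : B y w = 0) {j : Fin t}
    (hj : Perp B D y j) : Perp B D w j := by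
  have h1 : InZ Q B M y w := (hsa g hg i y hy hy0 hQy w).mpr ⟨hw, hyw⟩
  exact hsb y ⟨hy0, hQy, g, hg, i, hy⟩ j hj w h1

/-- Claim 1: two nonzero singular vectors of an `M`-image of a block (of dimension at least five)
are orthogonal to the same blocks. -/
theorem claim1 {t k : ℕ} {D : Fin t → Submodule F V} {S M : Subgroup (V ≃ₗ[F] V)}
    (hC : Ctx Q B k D S M) (hk5 : 5 ≤ k) (hsa : StarA Q B D M) (hsb : StarB Q B D M)
    {g : V ≃ₗ[F] V} (hg : g ∈ M) (i : Fin t)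
    {y y' : V} (hy : y ∈ (D i).map (g : V →ₗ[F] V)) (hy0 : y ≠ 0) (hQy : Q y = 0)
    (hy' : y' ∈ (D i).map (g : V →ₗ[F] V)) (hy'0 : y' ≠ 0) (hQy' : Q y' = 0) (j : Fin t) :
    Perp B D y j ↔ Perp B D y' j := by
  have hsymm := B_symm Q B hC.hQp
  have hfr : finrank F ((D i).map (g : V →ₗ[F] V)) = k := by
    rw [LinearEquiv.finrank_map_eq g (D i)]; exact hC.hD.fr i
  obtain ⟨w, hw, hw0, hQw, hwy, hwy'⟩ := exists_sing_orth2 Q B hC.hQs hC.hQp
    ((D i).map (g : V →ₗ[F] V)) (by omega) y y'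
  have hyw : B y w = 0 := by rw [hsymm]; exact hwy
  have hy'w : B y' w = 0 := by rw [hsymm]; exact hwy'
  constructor
  · intro h
    exact perp_of_perp hsa hsb hg i hw hw0 hQw hy' hwy'
      (perp_of_perp hsa hsb hg i hy hy0 hQy hw hyw h)
  · intro h
    exact perp_of_perp hsa hsb hg i hw hw0 hQw hy hwy
      (perp_of_perp hsa hsb hg i hy' hy'0 hQy' hw hy'w h)

/-- OD-B5 (`k ≥ 5`). -/
theorem caseB5 {t k : ℕ} {D : Fin t → Submodule F V} {S M : Subgroup (V ≃ₗ[F] V)}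
    (hC : Ctx Q B k D S M) (hk5 : 5 ≤ k) (hsa : StarA Q B D M) (hsb : StarB Q B D M) :
    ∀ g ∈ M, ∀ i, ∃ j, (D i).map (g : V →ₗ[F] V) ≤ D j := by
  intro g hg i
  have hsymm := B_symm Q B hC.hQp
  have hQs := hC.hQs
  have hQp := hC.hQp
  have hD := hC.hD
  -- the image `U` and its properties
  have hfr : ∀ (h : V ≃ₗ[F] V) (a : Fin t), finrank F ((D a).map (h : V →ₗ[F] V)) = k := by
    intro h a
    rw [LinearEquiv.finrank_map_eq h (D a)]; exact hD.fr a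
  have hnd : ∀ (h : V ≃ₗ[F] V), h ∈ M → ∀ (a : Fin t),
      ∀ x ∈ (D a).map (h : V →ₗ[F] V), x ≠ 0 → ∃ z ∈ (D a).map (h : V →ₗ[F] V), B z x ≠ 0 :=
    fun h hh a => map_nondeg hQp (hC.hMO hh) (D a) (hD.nd a)
  set U := (D i).map (g : V →ₗ[F] V) with hU
  obtain ⟨y₀, hy₀U, hy₀0, hQy₀⟩ := exists_singular_in Q B hQs hQp U (by rw [hfr g i]; omega)
  obtain ⟨a, ha⟩ : ∃ a, ¬ Perp B D y₀ a := by
    by_contra hcon
    push Not at hcon
    exact hy₀0 (Cfsg.Agent.Lib.Helper74_OD_BASIC.eq_zero_of_perp hQp hC.hN hD hcon)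
  by_cases hall : ∀ j, j ≠ a → Perp B D y₀ j
  · refine ⟨a, ?_⟩
    apply le_of_sing hQs hQp U (D a) (hnd g hg i) (by rw [hfr g i]; omega)
    intro s hsU hs0 hQs'
    apply Cfsg.Agent.Lib.Helper74_OD_BASIC.mem_of_perp hQs hQp hC.hN hD
    intro j hja
    exact (claim1 hC hk5 hsa hsb hg i hy₀U hy₀0 hQy₀ hsU hs0 hQs' j).mp (hall j hja)
  · exfalso
    push Not at hall
    obtain ⟨b, hba, hb⟩ := hall
    -- a singular `w ∈ U` orthogonal to `y₀` and not a multiple of it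
    obtain ⟨y₁, hy₁U, hQy₁, hy₁y₀⟩ := exists_sing_not_orth Q B hQs hQp U (hnd g hg i)
      (by rw [hfr g i]; omega) (hnd g hg i y₀ hy₀U hy₀0)
    obtain ⟨w, hwU, hw0, hQw, hwy₀, hwy₁⟩ := exists_sing_orth2 Q B hQs hQp U
      (by rw [hfr g i]; omega) y₀ y₁
    have hy₀w : B y₀ w = 0 := by rw [hsymm]; exact hwy₀
    have hwne : ∀ c : F, w ≠ c • y₀ := by
      intro c hc
      have h1 : B w y₁ = c * B y₀ y₁ := by
        rw [hc, map_smul, LinearMap.smul_apply, smul_eq_mul]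
      rw [hwy₁, hsymm y₀ y₁] at h1
      have hc0 : c = 0 := by
        rcases mul_eq_zero.mp h1.symm with h | h
        · exact h
        · exact absurd h hy₁y₀
      apply hw0
      rw [hc, hc0, zero_smul]
    -- `h = sieg y₀ w ∈ M`
    have hinz : InZ Q B M y₀ w := (hsa g hg i y₀ hy₀U hy₀0 hQy₀ w).mpr ⟨hwU, hy₀w⟩
    have hhM : sieg Q B y₀ w ∈ M := by
      have := hinz.2 1
      rwa [one_smul] at this
    set h := sieg Q B y₀ w with hh
    have happ : ∀ x, h x = x + B x y₀ • w - B x w • y₀ - (Q w * B x y₀) • y₀ :=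
      fun x => sieg_apply Q B hQs hQp hQy₀ hy₀w x
    -- a singular `x ∈ D a` fixed by `h`
    obtain ⟨x, hxa, hx0, hQx, hxy₀, hxw⟩ := exists_sing_orth2 Q B hQs hQp (D a)
      (by rw [hD.fr a]; omega) y₀ w
    have hhx : h x = x := by
      rw [happ, hxy₀, hxw]
      simp
    have hxU' : x ∈ (D a).map (h : V →ₗ[F] V) := ⟨x, hxa, hhx⟩
    -- `h (D a) ≤ D a`
    have hle : (D a).map (h : V →ₗ[F] V) ≤ D a := by
      apply le_of_sing hQs hQp _ (D a) (hnd h hhM a) (by rw [hfr h a]; omega)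
      intro s hs hs0 hQs'
      apply Cfsg.Agent.Lib.Helper74_OD_BASIC.mem_of_perp hQs hQp hC.hN hD
      intro j hja
      apply (claim1 hC hk5 hsa hsb hhM a hxU' hx0 hQx hs hs0 hQs' j).mp
      intro d hd
      exact hD.orth a j (Ne.symm hja) x hxa d hd
    -- a vector of `D a` not orthogonal to `y₀`
    obtain ⟨x', hx'a, hx'⟩ : ∃ d ∈ D a, B y₀ d ≠ 0 := by
      by_contra hcon
      push Not at hcon
      exact ha hcon
    have hβ : B x' y₀ ≠ 0 := by rw [hsymm]; exact hx'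
    have hhx' : h x' ∈ D a := hle ⟨x', hx'a, rfl⟩
    -- `v = h x' - x'`
    have hv : h x' - x' = B x' y₀ • w + (-(B x' w)) • y₀ := by
      rw [happ, hQw]
      module
    have hvDa : B x' y₀ • w + (-(B x' w)) • y₀ ∈ D a := by
      rw [← hv]
      exact (D a).sub_mem hhx' hx'a
    have hvU : B x' y₀ • w + (-(B x' w)) • y₀ ∈ U :=
      U.add_mem (U.smul_mem _ hwU) (U.smul_mem _ hy₀U)
    have hvQ : Q (B x' y₀ • w + (-(B x' w)) • y₀) = 0 := by
      rw [Q_add_smul Q B hQs hQp, hQs, hQw, hQy₀, map_smul, LinearMap.smul_apply, hwy₀]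
      simp
    have hv0 : B x' y₀ • w + (-(B x' w)) • y₀ ≠ 0 := by
      intro h0
      apply hwne ((B x' y₀)⁻¹ * B x' w)
      have h1 : B x' y₀ • w = B x' w • y₀ := by
        have := eq_neg_of_add_eq_zero_left h0
        rw [this, neg_smul, neg_neg]
      rw [← smul_smul, ← h1, smul_smul, inv_mul_cancel₀ hβ, one_smul]
    apply hb
    apply (claim1 hC hk5 hsa hsb hg i hvU hv0 hvQ hy₀U hy₀0 hQy₀ b).mp
    intro d hd
    exact hD.orth a b (Ne.symm hba) _ hvDa d hd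

end Cfsg.Agent.Lib.Helper73_OD_B5
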