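/-
OND-IDX (helper73, for helper68's S5989/S5991 market): a prime `r ∤ 2q` dividing the number of
nondegenerate `m`-spaces isometric to `W₀` (`m` odd, `dim V = 2d`) divides `q^(2j) - 1` for some
`2d - m < 2j ≤ 2d`.  Assembly of IDX_A (orbit-stabiliser via Witt), IDX_B (helper89: embedding of
the isometry group of the orthogonal complement into the stabiliser) and IDX_C (arithmetic), with
helper82's order formulas `C3b_odd` / `C3b_even`.
-/
import Mathlib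
import Cfsg.Prelude.Def_GeometricClasses
import Cfsg.Agent.Lib.Helper40_OClasses
import Cfsg.Agent.Lib.Helper82_OrthExt_C3b
import Cfsg.Agent.Lib.Helper73_OND_IDX_A
import Cfsg.Agent.Lib.Helper73_OND_IDX_C
import Cfsg.Agent.Lib.Helper89_OND_IDX_B

set_option autoImplicit false

open Module Matrix
open Cfsg.Agent.Lib.Helper40_OClasses

namespace Cfsg.Agent.Lib.Helper73_OND_IDX

universe v

variable {F : Type v} [Field F] [Fintype F] {ι : Type} [Fintype ι] [DecidableEq ι]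

/-- IDX: a prime `r ∤ 2q` dividing the size of the family divides `q^(2j) - 1` for some
`2d - m < 2j ≤ 2d`. -/
theorem IDX (h2 : (2 : F) ≠ 0) (Q : QuadraticForm F (ι → F))
    (hQ : (QuadraticMap.polarBilin Q).Nondegenerate) (d m : ℕ) (hn : Fintype.card ι = 2 * d)
    (hmodd : Odd m) (hmd : m < 2 * d) (W₀ : Submodule F (ι → F))
    (hW₀ : finrank F W₀ = m ∧ Cfsg.Geo.IsNondegenerateOn (QuadraticMap.polar ⇑Q) W₀)
    {r : ℕ} (hr : r.Prime) (hr2 : r ≠ 2) (hrq : ¬ r ∣ Fintype.card F)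
    (hrΩ : r ∣ Nat.card {W : Submodule F (ι → F) // finrank F W = m ∧
      Cfsg.Geo.IsNondegenerateOn (QuadraticMap.polar ⇑Q) W ∧ Cfsg.Geo.AreIsometricFor ⇑Q W W₀}) :
    ∃ j : ℕ, 2 * d - m < 2 * j ∧ j ≤ d ∧ r ∣ Fintype.card F ^ (2 * j) - 1 := by
  obtain ⟨k, hk⟩ := hmodd
  -- `2d - m = 2b + 1`
  have hd1 : 1 ≤ d := by omega
  obtain ⟨b, hb⟩ : ∃ b : ℕ, 2 * d - m = 2 * b + 1 := ⟨d - k - 1, by omega⟩
  have hbd : b < d := by omega
  have hn' : finrank F W₀ + (2 * b + 1) = Fintype.card ι := by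
    rw [hW₀.1, hn]; omega
  obtain ⟨q₁, hq₁, K, hK⟩ :=
    Cfsg.Agent.Lib.Helper89_OND_IDX_B.IDX_B Q hQ W₀ hW₀.2 (2 * b + 1) hn'
  have hA := Cfsg.Agent.Lib.Helper73_OND_IDX_A.IDX_A Q hQ m W₀ hW₀
  have hodd := Cfsg.Agent.Lib.Helper82_OrthExt_C3b.C3b_odd h2 (rfl : Fintype.card F = _) b
    (κ := Fin (2 * b + 1)) (by rw [Fintype.card_fin]) q₁ hq₁
  have heven := Cfsg.Agent.Lib.Helper82_OrthExt_C3b.C3b_even h2 (rfl : Fintype.card F = _) d hd1
    hn Q hQ
  set N := Nat.card {W : Submodule F (ι → F) // finrank F W = m ∧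
      Cfsg.Geo.IsNondegenerateOn (QuadraticMap.polar ⇑Q) W ∧ Cfsg.Geo.AreIsometricFor ⇑Q W W₀}
    with hN
  rw [hK, hodd] at hA
  have hq : 2 ≤ Fintype.card F := Fintype.one_lt_card
  have key : N * K * (2 * Fintype.card F ^ (b ^ 2) *
        ∏ i ∈ Finset.range b, (Fintype.card F ^ (2 * (i + 1)) - 1)) =
      Nat.card ↥(Cfsg.isometryGroup F ⇑Q) := by
    rw [← hA]; ring
  obtain ⟨j, hj1, hj2, hj3⟩ := Cfsg.Agent.Lib.Helper73_OND_IDX_C.IDX_C (Fintype.card F) d b N hq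
    hd1 hbd hr hr2 hrq hrΩ K (by
      by_cases hh : Cfsg.Agent.Lib.Helper40_QuadIso.IsHyp Q
      · left; rw [key]; exact heven.1 hh
      · right; rw [key]; exact heven.2 hh)
  exact ⟨j, by omega, hj2, hj3⟩

end Cfsg.Agent.Lib.Helper73_OND_IDX
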