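import Mathlib
import Cfsg.Agent.Lib.Helper95_OPDefs
import Cfsg.Agent.Lib.Helper95_OPBasic
import Cfsg.Agent.Lib.Helper48_OODefs
import Cfsg.Agent.Lib.Helper87_OO2Defs
import Cfsg.Agent.Lib.Helper87_OO2Defs2
import Cfsg.Agent.Lib.Helper87_OO2Defs3
import Cfsg.Agent.Lib.Helper85_OO2_RankOne
import Cfsg.Agent.Lib.Helper85_OO2_REL1
import Cfsg.Agent.Lib.Helper85_OO2_ELT
import Cfsg.Agent.Lib.Helper42_OO2_EXT4
import Cfsg.Agent.Lib.Helper58_MIO_ZEL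
import Cfsg.Agent.Lib.Helper63_OP_HCOMM
import Cfsg.Agent.Lib.Helper73_OO2_STAB
import Cfsg.Agent.Lib.Helper73_OO2_J12F2aux
import Cfsg.Agent.Lib.Helper9_OO2_ZETA3

/-!
helper73 — core of package OO2-B2Z of helper87's wave 3 for S2344 (the base `n = 3`): the torus elements
`ζ_{w0}(t)`, `ζ_v(t)`, `h12(t²)`, `h23(t²)` act trivially on `F_2`, with the facts of the packages still in
progress (OO2-B1, `J_1 F_2 ≤ F_2`, `J_2 F_2 ≤ F_2`) as hypotheses.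

General tools: `zel_mul_xr`, `zel_mul_nw` (a zeta element of the second pair of a hyperbolic quadruple
against the root and Weyl elements), `zel_transfer` (if the zeta element of `(b,b')` is trivial on a
`J`-stable space of `x`-fixed vectors, so is every zeta element of `(a,a')`), `hh_sq_eq`
(`h_{ab}(t²) = ζ_a(t) ζ_b(t)⁻¹`).
-/

set_option autoImplicit false
set_option linter.unusedSectionVars false
set_option linter.unusedVariables false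

namespace Cfsg.Agent.Lib.Helper73_OO2_B2Zaux

open Module Cfsg.Agent.Lib.Helper94_OrthSmall Cfsg.Agent.Lib.Helper44_QuadClass
  Cfsg.Agent.Lib.Helper14_OmegaSimple Cfsg.Agent.Lib.Helper38_MIODefs
  Cfsg.Agent.Lib.Helper95_OPDefs Cfsg.Agent.Lib.Helper95_OPBasic Cfsg.Agent.Lib.Helper48_OODefs
  Cfsg.Agent.Lib.Helper87_OO2Defs Cfsg.Agent.Lib.Helper85_OO2_RankOne
  Cfsg.Agent.Lib.Helper85_OO2_ELT
  Cfsg.Agent.Lib.Helper73_OO2_STAB Cfsg.Agent.Lib.Helper73_OO2_J12F2aux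

section grp

variable {F V : Type*} [Field F] [AddCommGroup V] [Module F V] {Q : QuadraticForm F V}

/-- a zeta element of the pair `(u, u')`: `u ↦ t² u`, `u' ↦ t⁻² u'`, identity on the perp -/
structure IsZel (Q : QuadraticForm F V) (z : V ≃ₗ[F] V) (u u' : V) (t : F) : Prop where
  mem : z ∈ T Q
  on_u : z u = t ^ 2 • u
  on_u' : z u' = (t ^ 2)⁻¹ • u'
  on_perp : ∀ w ∈ perp Q u u', z w = w

variable {a a' b b' : V}

theorem IsZel.fix_of_polar {z : V ≃ₗ[F] V} {u u' : V} {t : F} (hz : IsZel Q z u u' t) {w : V}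
    (h1 : QuadraticMap.polar (⇑Q) w u = 0) (h2 : QuadraticMap.polar (⇑Q) w u' = 0) : z w = w :=
  hz.on_perp w ((mem_perp Q u u').mpr
    ⟨by rw [QuadraticMap.polar_comm]; exact h1, by rw [QuadraticMap.polar_comm]; exact h2⟩)

/-- `τ x_{ab}(s) = x_{ab}(t⁻² s) τ` for a zeta element `τ` of `(b, b')` -/
theorem zel_mul_xr (h : HQuad Q a a' b b') {τ : V ≃ₗ[F] V} {t : F} (hτ : IsZel Q τ b b' t)
    (s : F) : τ * xr Q a b' s = xr Q a b' ((t ^ 2)⁻¹ * s) * τ := by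
  have hτO : τ ∈ oG (⇑Q) := T_le_oG Q hτ.mem
  have hs : QuadraticMap.polar (⇑Q) a (s • b') = 0 := by
    rw [QuadraticMap.polar_smul_right, h.ab', smul_zero]
  have h1 := conj_E Q hτO h.pa.qa hs
  have hτa : τ a = a := hτ.fix_of_polar h.ab h.ab'
  rw [hτa, map_smul, hτ.on_u', smul_smul, mul_comm s] at h1
  unfold xr
  rw [← h1]
  group

/-- `τ n_{ab} = n_{ab} z` for zeta elements `τ` of `(b, b')` and `z` of `(a, a')` -/
theorem zel_mul_nw (h : HQuad Q a a' b b') {τ z : V ≃ₗ[F] V} {t : F} (hτ : IsZel Q τ b b' t)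
    (hz : IsZel Q z a a' t) : τ * nw Q a a' b b' 1 = nw Q a a' b b' 1 * z := by
  have hτa : τ a = a := hτ.fix_of_polar h.ab h.ab'
  have hτa' : τ a' = a' := hτ.fix_of_polar h.a'b h.a'b'
  have hzb : z b = b := hz.fix_of_polar (pol_ba h) (pol_ba' h)
  have hzb' : z b' = b' := hz.fix_of_polar (pol_b'a h) (pol_b'a' h)
  apply Cfsg.Agent.Lib.Helper42_OO2_EXT4.ext4 h
  · rw [LinearEquiv.mul_apply, LinearEquiv.mul_apply, nw_a h one_ne_zero, hz.on_u, map_smul,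
      map_smul, hτ.on_u, nw_a h one_ne_zero, smul_comm]
  · rw [LinearEquiv.mul_apply, LinearEquiv.mul_apply, nw_a' h one_ne_zero, hz.on_u', map_smul,
      map_smul, hτ.on_u', nw_a' h one_ne_zero, smul_comm]
  · rw [LinearEquiv.mul_apply, LinearEquiv.mul_apply, nw_b h one_ne_zero, hzb, map_neg, map_smul,
      hτa, nw_b h one_ne_zero]
  · rw [LinearEquiv.mul_apply, LinearEquiv.mul_apply, nw_b' h one_ne_zero, hzb', map_neg, map_smul,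
      hτa', nw_b' h one_ne_zero]
  · intro w h1 h2 h3 h4
    rw [LinearEquiv.mul_apply, LinearEquiv.mul_apply, nw_perp h 1 h1 h2 h3 h4,
      hτ.fix_of_polar h3 h4, hz.fix_of_polar h1 h2, nw_perp h 1 h1 h2 h3 h4]

/-- `h_{ab}(t²) = ζ_a(t) ζ_b(t)⁻¹` -/
theorem hh_sq_eq (h : HQuad Q a a' b b') {za zb : V ≃ₗ[F] V} {t : F} (ht : t ≠ 0)
    (hza : IsZel Q za a a' t) (hzb : IsZel Q zb b b' t) :
    hh Q a a' b b' (t ^ 2) = za * zb⁻¹ := by
  have ht2 : t ^ 2 ≠ 0 := pow_ne_zero 2 ht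
  have hzba : zb a = a := hzb.fix_of_polar h.ab h.ab'
  have hzba' : zb a' = a' := hzb.fix_of_polar h.a'b h.a'b'
  have hzab : za b = b := hza.fix_of_polar (pol_ba h) (pol_ba' h)
  have hzab' : za b' = b' := hza.fix_of_polar (pol_b'a h) (pol_b'a' h)
  have i1 : zb⁻¹ a = a := by
    have := inv_smul_of_smul (c := (1 : F)) one_ne_zero (by rw [hzba, one_smul] : zb a = (1 : F) • a)
    rwa [inv_one, one_smul] at this
  have i2 : zb⁻¹ a' = a' := by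
    have := inv_smul_of_smul (c := (1 : F)) one_ne_zero
      (by rw [hzba', one_smul] : zb a' = (1 : F) • a')
    rwa [inv_one, one_smul] at this
  have i3 : zb⁻¹ b = (t ^ 2)⁻¹ • b := inv_smul_of_smul ht2 hzb.on_u
  have i4 : zb⁻¹ b' = t ^ 2 • b' := by
    have := inv_smul_of_smul (inv_ne_zero ht2) hzb.on_u'
    rwa [inv_inv] at this
  apply Cfsg.Agent.Lib.Helper42_OO2_EXT4.ext4 h
  · rw [hh_a h ht2, LinearEquiv.mul_apply, i1, hza.on_u]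
  · rw [hh_a' h ht2, LinearEquiv.mul_apply, i2, hza.on_u']
  · rw [hh_b h ht2, LinearEquiv.mul_apply, i3, map_smul, hzab]
  · rw [hh_b' h ht2, LinearEquiv.mul_apply, i4, map_smul, hzab']
  · intro w h1 h2 h3 h4
    have i5 : zb⁻¹ w = w := by
      have := inv_smul_of_smul (c := (1 : F)) one_ne_zero
        (by rw [hzb.fix_of_polar h3 h4, one_smul] : zb w = (1 : F) • w)
      rwa [inv_one, one_smul] at this
    rw [hh_perp h _ h1 h2 h3 h4, LinearEquiv.mul_apply, i5, hza.fix_of_polar h1 h2]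

end grp

section partI

variable {F V : Type*} [Field F] [Fintype F] [AddCommGroup V] [Module F V] [FiniteDimensional F V]
  {X : Type*} [AddCommGroup X] [Module ℂ X] [FiniteDimensional ℂ X]

/-- if the zeta element `τ` of `(b, b')` is trivial on a `J`-stable, `z`-stable space `M` of
`x`-fixed vectors, then so is the zeta element `z` of `(a, a')` -/
theorem zel_transfer (Q : QuadraticForm F V) (ρ : Representation ℂ ↥(T Q) X) {a a' b b' : V}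
    (h : HQuad Q a a' b b') {τ z : V ≃ₗ[F] V} {t : F} (ht : t ≠ 0)
    (hτ : IsZel Q τ b b' t) (hz : IsZel Q z a a' t) (M : Submodule ℂ X)
    (h1 : ∀ m ∈ M, repE Q ρ τ m = m)
    (h2 : ∀ m ∈ M, Cfsg.Agent.Lib.Helper87_OO2Defs.Jop Q ρ a a' b b' m ∈ M)
    (h3 : ∀ m ∈ M, repE Q ρ z m ∈ M)
    (h4 : ∀ m ∈ M, ∀ s, repE Q ρ (xr Q a b' s) m = m) :
    ∀ m ∈ M, repE Q ρ z m = m := by
  intro m hm
  have hxT : ∀ s, xr Q a b' s ∈ T Q := fun s => xr_mem_T h.pa.qa h.pb.qa' h.ab' s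
  have hnT : nw Q a a' b b' 1 ∈ T Q := nw_mem_T h 1
  have hc : (t ^ 2)⁻¹ ≠ 0 := inv_ne_zero (pow_ne_zero 2 ht)
  have hJ : repE Q ρ τ * Cfsg.Agent.Lib.Helper87_OO2Defs.Jop Q ρ a a' b b' =
      Cfsg.Agent.Lib.Helper87_OO2Defs.Jop Q ρ a a' b b' * repE Q ρ z := by
    rw [Jop_eq']
    refine tau_J (x := fun s => repE Q ρ (xr Q a b' s)) (c := (t ^ 2)⁻¹) hc ?_ ?_
    · intro s
      show repE Q ρ τ * repE Q ρ (xr Q a b' s) = repE Q ρ (xr Q a b' ((t ^ 2)⁻¹ * s)) * repE Q ρ τ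
      rw [← repE_mul Q ρ hτ.mem (hxT s), zel_mul_xr h hτ s, repE_mul Q ρ (hxT _) hτ.mem]
    · rw [← repE_mul Q ρ hτ.mem hnT, zel_mul_nw h hτ hz, repE_mul Q ρ hnT hz.mem]
  have hJm : Cfsg.Agent.Lib.Helper87_OO2Defs.Jop Q ρ a a' b b' (repE Q ρ z m - m) = 0 := by
    have := congrArg (fun f => f m) hJ
    simp only [Module.End.mul_apply] at this
    rw [map_sub, ← this, h1 _ (h2 m hm), sub_self]
  have hmem : repE Q ρ z m - m ∈ M := M.sub_mem (h3 m hm) hm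
  have hfix : repE Q ρ z m - m ∈ fixX (fun s => repE Q ρ (xr Q a b' s)) := fun s => h4 _ hmem s
  have hq : (Fintype.card F : ℂ) ≠ 0 := Nat.cast_ne_zero.mpr Fintype.card_ne_zero
  rw [Jop_eq'] at hJm
  have := J_inj (Cfsg.Agent.Lib.Helper85_OO2_REL1.sl2Rel_repE ρ h) hq hfix hJm
  exact sub_eq_zero.mp this

/-- the zeta element of `(w1, w1')` is trivial on `F_2` (OO2-B1 as a hypothesis + OO2-ZETA3) -/
theorem zeta_w1_fix_of (Q : QuadraticForm F V) (hQ : (QuadraticMap.polarBilin Q).Nondegenerate)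
    (hdim : 5 ≤ finrank F V) {v v' w0 w0' w1 w1' x : V} (fr : Frame3 Q v v' w0 w0' w1 w1' x)
    (ρ : Representation ℂ ↥(T Q) X) (y : X)
    (hB1 : ∀ s : F, repE Q ρ (E Q w1 (s • x)) y = y ∧ repE Q ρ (E Q w1' (s • x)) y = y)
    (t : F) (ht : t ≠ 0) (z : V ≃ₗ[F] V) (hz : IsZel Q z w1 w1' t) :
    repE Q ρ z y = y :=
  Cfsg.Agent.Lib.Helper9_OO2_ZETA3.zeta3_fix Q hQ hdim fr.h12.pb fr.xw1 fr.xw1' fr.qx ρ y
    (fun s => (hB1 s).1) (fun s => (hB1 s).2) t ht z hz.mem hz.on_u hz.on_u' hz.on_perp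

theorem exists_isZel (Q : QuadraticForm F V) (hQ : (QuadraticMap.polarBilin Q).Nondegenerate)
    (hdim : 5 ≤ finrank F V) {u u' : V} (hp : HPair Q u u') (t : F) (ht : t ≠ 0) :
    ∃ z, IsZel Q z u u' t := by
  obtain ⟨z, hzT, h1, h2, h3⟩ := Cfsg.Agent.Lib.Helper58_MIO_ZEL.exists_zel Q hQ hdim
    (Cfsg.Agent.Lib.Helper63_OP_HCOMM.comm_oG_le_T Q hQ hdim) hp.qa hp.qa' hp.aa' t ht
  exact ⟨z, hzT, h1, h2, h3⟩

theorem zeta_w0_fix_of (Q : QuadraticForm F V) (hQ : (QuadraticMap.polarBilin Q).Nondegenerate)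
    (hdim : 5 ≤ finrank F V) {v v' w0 w0' w1 w1' x : V} (fr : Frame3 Q v v' w0 w0' w1 w1' x)
    (ρ : Representation ℂ ↥(T Q) X)
    (hB1 : ∀ m ∈ F2sp Q ρ v v' w0 w0', ∀ s : F,
      repE Q ρ (E Q w1 (s • x)) m = m ∧ repE Q ρ (E Q w1' (s • x)) m = m)
    (hJ2 : ∀ m ∈ F2sp Q ρ v v' w0 w0', Jop Q ρ w0 w0' w1 w1' m ∈ F2sp Q ρ v v' w0 w0')
    (y : X) (hy : y ∈ F2sp Q ρ v v' w0 w0')
    (t : F) (ht : t ≠ 0) (z : V ≃ₗ[F] V) (hz : IsZel Q z w0 w0' t) :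
    repE Q ρ z y = y := by
  have h01 := fr.h01
  have h02 := fr.h02
  have h12 := fr.h12
  obtain ⟨τ, hτ⟩ := exists_isZel Q hQ hdim h12.pb t ht
  have ht2 : t ^ 2 ≠ 0 := pow_ne_zero 2 ht
  refine zel_transfer Q ρ h12 ht hτ hz (F2sp Q ρ v v' w0 w0') ?_ hJ2 ?_ ?_ y hy
  · intro m hm
    exact zeta_w1_fix_of Q hQ hdim fr ρ m (hB1 m hm) t ht τ hτ
  · intro m hm
    have e1 : Eig z v := ⟨1, one_ne_zero, by
      rw [one_smul]; exact hz.fix_of_polar h01.ab h01.ab'⟩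
    have e2 : Eig z v' := ⟨1, one_ne_zero, by
      rw [one_smul]; exact hz.fix_of_polar h01.a'b h01.a'b'⟩
    exact F2sp_stable hQ hdim ρ hz.mem h01.pa.qa h01.pb.qa e1 e2 ⟨t ^ 2, ht2, hz.on_u⟩
      ⟨(t ^ 2)⁻¹, inv_ne_zero ht2, hz.on_u'⟩ hm
  · intro m hm s
    unfold xr
    refine hm.2 _ ?_
    refine (Cfsg.Agent.Lib.Helper29_OO2_M0.mem_W1 Q v v' w0 w0' _).mpr ⟨⟨?_, ?_⟩, ?_, ?_⟩
    · rw [QuadraticMap.polar_smul_right, h02.ab', smul_zero]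
    · rw [QuadraticMap.polar_smul_right, h02.a'b', smul_zero]
    · rw [QuadraticMap.polar_smul_right, h12.ab', smul_zero]
    · rw [QuadraticMap.polar_smul_right, h12.a'b', smul_zero]

theorem zeta_v_fix_of (Q : QuadraticForm F V) (hQ : (QuadraticMap.polarBilin Q).Nondegenerate)
    (hdim : 5 ≤ finrank F V) {v v' w0 w0' w1 w1' x : V} (fr : Frame3 Q v v' w0 w0' w1 w1' x)
    (ρ : Representation ℂ ↥(T Q) X)
    (hB1 : ∀ m ∈ F2sp Q ρ v v' w0 w0', ∀ s : F,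
      repE Q ρ (E Q w1 (s • x)) m = m ∧ repE Q ρ (E Q w1' (s • x)) m = m)
    (hJ1 : ∀ m ∈ F2sp Q ρ v v' w0 w0', Jop Q ρ v v' w0 w0' m ∈ F2sp Q ρ v v' w0 w0')
    (hJ2 : ∀ m ∈ F2sp Q ρ v v' w0 w0', Jop Q ρ w0 w0' w1 w1' m ∈ F2sp Q ρ v v' w0 w0')
    (y : X) (hy : y ∈ F2sp Q ρ v v' w0 w0')
    (t : F) (ht : t ≠ 0) (z : V ≃ₗ[F] V) (hz : IsZel Q z v v' t) :
    repE Q ρ z y = y := by
  have h01 := fr.h01
  obtain ⟨τ, hτ⟩ := exists_isZel Q hQ hdim h01.pb t ht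
  have ht2 : t ^ 2 ≠ 0 := pow_ne_zero 2 ht
  refine zel_transfer Q ρ h01 ht hτ hz (F2sp Q ρ v v' w0 w0') ?_ hJ1 ?_ ?_ y hy
  · intro m hm
    exact zeta_w0_fix_of Q hQ hdim fr ρ hB1 hJ2 m hm t ht τ hτ
  · intro m hm
    have e3 : Eig z w0 := ⟨1, one_ne_zero, by
      rw [one_smul]; exact hz.fix_of_polar (pol_ba h01) (pol_ba' h01)⟩
    have e4 : Eig z w0' := ⟨1, one_ne_zero, by
      rw [one_smul]; exact hz.fix_of_polar (pol_b'a h01) (pol_b'a' h01)⟩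
    exact F2sp_stable hQ hdim ρ hz.mem h01.pa.qa h01.pb.qa ⟨t ^ 2, ht2, hz.on_u⟩
      ⟨(t ^ 2)⁻¹, inv_ne_zero ht2, hz.on_u'⟩ e3 e4 hm
  · intro m hm s
    unfold xr
    refine hm.1 _ ?_
    refine (mem_perp Q v v').mpr ⟨?_, ?_⟩
    · rw [QuadraticMap.polar_smul_right, h01.ab', smul_zero]
    · rw [QuadraticMap.polar_smul_right, h01.a'b', smul_zero]

theorem h_sq_fix_of (Q : QuadraticForm F V) (hQ : (QuadraticMap.polarBilin Q).Nondegenerate)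
    (hdim : 5 ≤ finrank F V) {v v' w0 w0' w1 w1' x : V} (fr : Frame3 Q v v' w0 w0' w1 w1' x)
    (ρ : Representation ℂ ↥(T Q) X)
    (hB1 : ∀ m ∈ F2sp Q ρ v v' w0 w0', ∀ s : F,
      repE Q ρ (E Q w1 (s • x)) m = m ∧ repE Q ρ (E Q w1' (s • x)) m = m)
    (hJ1 : ∀ m ∈ F2sp Q ρ v v' w0 w0', Jop Q ρ v v' w0 w0' m ∈ F2sp Q ρ v v' w0 w0')
    (hJ2 : ∀ m ∈ F2sp Q ρ v v' w0 w0', Jop Q ρ w0 w0' w1 w1' m ∈ F2sp Q ρ v v' w0 w0')
    (y : X) (hy : y ∈ F2sp Q ρ v v' w0 w0') (t : F) (ht : t ≠ 0) :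
    repE Q ρ (hh Q v v' w0 w0' (t ^ 2)) y = y ∧ repE Q ρ (hh Q w0 w0' w1 w1' (t ^ 2)) y = y := by
  obtain ⟨zv, hzv⟩ := exists_isZel Q hQ hdim fr.h01.pa t ht
  obtain ⟨z0, hz0⟩ := exists_isZel Q hQ hdim fr.h01.pb t ht
  obtain ⟨z1, hz1⟩ := exists_isZel Q hQ hdim fr.h12.pb t ht
  have fv : repE Q ρ zv y = y := zeta_v_fix_of Q hQ hdim fr ρ hB1 hJ1 hJ2 y hy t ht zv hzv
  have f0 : repE Q ρ z0 y = y := zeta_w0_fix_of Q hQ hdim fr ρ hB1 hJ2 y hy t ht z0 hz0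
  have f1 : repE Q ρ z1 y = y := zeta_w1_fix_of Q hQ hdim fr ρ y (hB1 y hy) t ht z1 hz1
  refine ⟨?_, ?_⟩
  · rw [hh_sq_eq fr.h01 ht hzv hz0]
    exact repE_mul_fix ρ hzv.mem (Subgroup.inv_mem _ hz0.mem) fv (repE_inv_fix ρ hz0.mem f0)
  · rw [hh_sq_eq fr.h12 ht hz0 hz1]
    exact repE_mul_fix ρ hz0.mem (Subgroup.inv_mem _ hz1.mem) f0 (repE_inv_fix ρ hz1.mem f1)

end partI

end Cfsg.Agent.Lib.Helper73_OO2_B2Zaux
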