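import Mathlib
import Cfsg.Agent.Lib.Helper64_OOKDefs
import Cfsg.Agent.Lib.Helper42_OO2_EXT4

/-!
helper73 — package OO-K-EXT5 of helper64's kill section of S2344: two linear equivalences which
agree on a hyperbolic quadruple and on its common orthogonal complement are equal (a wrapper of
helper42's `ext4` through the translation `HypQuad → HQuad`).
-/

set_option autoImplicit false

namespace Cfsg.Agent.Lib.Helper73_OO_K_EXT5

open Module Cfsg.Agent.Lib.Helper94_OrthSmall Cfsg.Agent.Lib.Helper44_QuadClass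
  Cfsg.Agent.Lib.Helper14_OmegaSimple Cfsg.Agent.Lib.Helper38_MIODefs
  Cfsg.Agent.Lib.Helper95_OPDefs Cfsg.Agent.Lib.Helper95_OPBasic Cfsg.Agent.Lib.Helper48_OODefs
  Cfsg.Agent.Lib.Helper64_OOKDefs

variable {F V : Type*} [Field F] [AddCommGroup V] [Module F V]

/-- a hyperbolic quadruple in the sense of `Helper64_OOKDefs` is one in the sense of
`Helper87_OO2Defs` -/
theorem hQuad_of_hypQuad (Q : QuadraticForm F V) {v v' a a' : V} (h : HypQuad Q v v' a a') :
    Cfsg.Agent.Lib.Helper87_OO2Defs.HQuad Q v v' a a' :=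
  ⟨⟨h.qv, h.qv', h.vv'⟩, ⟨h.qa, h.qa', h.aa'⟩, h.va, h.va', h.v'a, h.v'a'⟩

theorem ext_quad (Q : QuadraticForm F V) {v v' a a' : V} (h : HypQuad Q v v' a a')
    (g g' : V ≃ₗ[F] V) (h1 : g v = g' v) (h2 : g v' = g' v') (h3 : g a = g' a) (h4 : g a' = g' a')
    (h5 : ∀ w : V, QuadraticMap.polar (⇑Q) w v = 0 → QuadraticMap.polar (⇑Q) w v' = 0 →
        QuadraticMap.polar (⇑Q) w a = 0 → QuadraticMap.polar (⇑Q) w a' = 0 → g w = g' w) :
    g = g' :=
  Cfsg.Agent.Lib.Helper42_OO2_EXT4.ext4 (hQuad_of_hypQuad Q h) g g' h1 h2 h3 h4 h5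

end Cfsg.Agent.Lib.Helper73_OO_K_EXT5
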