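import Mathlib
import Cfsg.Agent.Lib.Helper99_OrthTSDefs

/-!
# Packages ARITH_odd_plus / ARITH_odd_minus of helper99's orthogonal core (S5973 / S5987)

Pure arithmetic: `i = ord_r(q)` odd.
-/

set_option autoImplicit false

open Cfsg.Agent.Lib.Helper99_OrthTSDefs

namespace Cfsg.Agent.Lib.Helper73_OrthTS_ARITH_odd

/-- `i = ord_r(q)` odd: `r ∤ q^k + 1`. -/
theorem not_dvd_pow_add_one {q r i : ℕ} (hr : r.Prime) (hr2 : r ≠ 2)
    (hi : i = orderOf ((q : ℕ) : ZMod r)) (hio : Odd i) (k : ℕ) : ¬ r ∣ q ^ k + 1 := by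
  intro h
  have h1 : ((q ^ k + 1 : ℕ) : ZMod r) = 0 := (ZMod.natCast_eq_zero_iff _ _).mpr h
  push_cast at h1
  have h2 : ((q : ℕ) : ZMod r) ^ k = -1 := eq_neg_of_add_eq_zero_left h1
  have h3 : ((q : ℕ) : ZMod r) ^ (k * 2) = 1 := by
    rw [pow_mul, h2]; ring
  have h4 : i ∣ k * 2 := by rw [hi]; exact orderOf_dvd_iff_pow_eq_one.mpr h3
  have hcop : Nat.Coprime i 2 := Nat.Coprime.symm (Nat.coprime_two_left.mpr hio)
  have h5 : i ∣ k := hcop.dvd_of_dvd_mul_right h4
  have h6 : ((q : ℕ) : ZMod r) ^ k = 1 := by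
    rw [hi] at h5; exact orderOf_dvd_iff_pow_eq_one.mp h5
  have h7 : ((2 : ℕ) : ZMod r) = 0 := by
    have h8 : (1 : ZMod r) = -1 := h6.symm.trans h2
    have h9 : (2 : ZMod r) = 0 := by linear_combination h8
    exact_mod_cast h9
  have h9 : r ∣ 2 := (ZMod.natCast_eq_zero_iff _ _).mp h7
  exact hr2 ((Nat.prime_dvd_prime_iff_eq hr Nat.prime_two).mp h9)

/-- `r ∣ q^k - 1 ⇒ ord_r(q) ∣ k`. -/
theorem dvd_of_dvd_pow_sub_one {q r i : ℕ} (hq : q ≠ 0)
    (hi : i = orderOf ((q : ℕ) : ZMod r)) {k : ℕ} (h : r ∣ q ^ k - 1) : i ∣ k := by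
  have h0 : 1 ≤ q ^ k := Nat.one_le_pow _ _ (Nat.pos_of_ne_zero hq)
  have h1 : ((q ^ k - 1 : ℕ) : ZMod r) = 0 := (ZMod.natCast_eq_zero_iff _ _).mpr h
  rw [Nat.cast_sub h0] at h1
  push_cast at h1
  have h2 : ((q : ℕ) : ZMod r) ^ k = 1 := sub_eq_zero.mp h1
  rw [hi]; exact orderOf_dvd_iff_pow_eq_one.mpr h2

/-- if `i ∣ n`, `n = e - j` with `j < m`, `0 < n`: `i ≤ e` and `e % i < m`. -/
theorem mod_lt_of_dvd_sub {i e j m : ℕ} (hj : j < m) (hje : j < e) (h : i ∣ e - j) :
    i ≤ e ∧ e % i < m := by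
  have hpos : 0 < e - j := by omega
  have h1 : i ≤ e - j := Nat.le_of_dvd hpos h
  refine ⟨by omega, ?_⟩
  obtain ⟨t, ht⟩ := h
  have h2 : e = j + i * t := by omega
  rw [h2, Nat.add_mul_mod_self_left]
  exact lt_of_le_of_lt (Nat.mod_le j i) hj

/-- `e - i * A ≥ e % i` when `i * A ≤ e`. -/
theorem mod_le_sub {i e A : ℕ} (hi : 0 < i) (h : i * A ≤ e) : e % i + i * A ≤ e := by
  have h1 : A ≤ e / i := (Nat.le_div_iff_mul_le hi).mpr (by rw [mul_comm]; exact h)
  have h2 : i * A ≤ i * (e / i) := Nat.mul_le_mul_left i h1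
  have h3 := Nat.div_add_mod e i
  omega

/-- the core combinatorial equivalence: a bound `B A` on `e'` with `B A = e - i A - δ`. -/
theorem core_iff (i e m : ℕ) (hi : 0 < i) (hie : i ≤ e) (hem : e % i < m) (hme : m ≤ e) :
    (∀ A : ℕ, 1 ≤ A → i * A ≤ e →
      ∃ s' e' : ℕ, s' ≤ A ∧ e' + i * A ≤ e ∧ i * s' + e' = m) ↔
    (i ≤ m ∧ m % i ≤ e % i) := by
  constructor
  · intro h
    have hA1 : 1 ≤ e / i := Nat.div_pos hie hi
    have hA2 : i * (e / i) ≤ e := Nat.mul_div_le e i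
    obtain ⟨s', e', _, he', hsum⟩ := h (e / i) hA1 hA2
    have h3 := Nat.div_add_mod e i
    have he'lt : e' ≤ e % i := by omega
    have hlt : e' < i := lt_of_le_of_lt he'lt (Nat.mod_lt e hi)
    have huniq := (Nat.div_mod_unique (a := m) (d := s') (c := e') hi).mpr ⟨by omega, hlt⟩
    have hs'pos : 1 ≤ s' := by
      by_contra hcon
      have : s' = 0 := by omega
      rw [this, mul_zero, zero_add] at hsum
      omega
    refine ⟨?_, by rw [huniq.2]; exact he'lt⟩
    have : i * 1 ≤ i * s' := Nat.mul_le_mul_left i hs'pos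
    omega
  · rintro ⟨him, hmod⟩ A hA hAe
    have h3 := Nat.div_add_mod m i
    by_cases hcase : m / i ≤ A
    · refine ⟨m / i, m % i, hcase, ?_, h3⟩
      have := mod_le_sub hi hAe
      omega
    · push Not at hcase
      have h4 : i * (A + 1) ≤ i * (m / i) := Nat.mul_le_mul_left i hcase
      have h5 : i * (A + 1) = i * A + i := by ring
      refine ⟨A, m - i * A, le_refl A, ?_, ?_⟩
      · omega
      · omega

theorem two_mul_mod (d i : ℕ) : (2 * d) % (2 * i) = 2 * (d % i) := Nat.mul_mod_mul_left 2 d i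

theorem ARITH_odd_plus (q r d m i c : ℕ) (hr : r.Prime) (hr2 : r ≠ 2) (hd : 4 ≤ d) (hm : 1 ≤ m) (hmd : m < d)
    (hrq : ¬ r ∣ q) (hi : i = orderOf ((q : ℕ) : ZMod r)) (hio : Odd i) (hc : c = 2 * i)
    (hcount : ∃ j < m, r ∣ osing true q (d - j)) :
    (∀ A : ℕ, 1 ≤ A → i * A ≤ d → (true = false → i * A < d) →
      ∃ s' e' : ℕ, s' ≤ A ∧ e' ≤ owitt true (2 * d - 2 * i * A) ∧ i * s' + e' = m) ↔
    (i ≤ m ∧ 2 * (m % i) ≤ (2 * d) % c) := by
  have hq : q ≠ 0 := by rintro rfl; exact hrq (dvd_zero r)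
  have hipos : 0 < i := hio.pos
  -- from the count: a multiple of `i` among `d - m + 1, ..., d`
  obtain ⟨j, hj, hdvd⟩ := hcount
  rw [osing_true] at hdvd
  have hidvd : i ∣ d - j := by
    rcases (Nat.Prime.dvd_mul hr).mp hdvd with h | h
    · exact dvd_of_dvd_pow_sub_one hq hi h
    · exact absurd h (not_dvd_pow_add_one hr hr2 hi hio _)
  obtain ⟨hid, hdm⟩ := mod_lt_of_dvd_sub hj (by omega) hidvd
  rw [hc, two_mul_mod]
  have hcore := core_iff i d m hipos hid hdm (by omega)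
  have hW : ∀ A : ℕ, i * A ≤ d → owitt true (2 * d - 2 * i * A) = d - i * A := by
    intro A hA
    rw [owitt_true, mul_assoc, ← Nat.mul_sub, Nat.mul_div_cancel_left _ (by norm_num : 0 < 2)]
  constructor
  · intro h
    have h1 := hcore.mp (by
      intro A hA hAd
      obtain ⟨s', e', hs, he, hsum⟩ := h A hA hAd (by intro hcon; cases hcon)
      rw [hW A hAd] at he
      exact ⟨s', e', hs, by omega, hsum⟩)
    exact ⟨h1.1, by omega⟩
  · rintro ⟨h1, h2⟩ A hA hAd _
    obtain ⟨s', e', hs, he, hsum⟩ := hcore.mpr ⟨h1, by omega⟩ A hA hAd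
    refine ⟨s', e', hs, ?_, hsum⟩
    rw [hW A hAd]; omega

theorem ARITH_odd_minus (q r d m i c : ℕ) (hr : r.Prime) (hr2 : r ≠ 2) (hd : 4 ≤ d) (hm : 1 ≤ m) (hmd : m + 1 ≤ d)
    (hrq : ¬ r ∣ q) (hi : i = orderOf ((q : ℕ) : ZMod r)) (hio : Odd i) (hc : c = 2 * i)
    (hcount : ∃ j < m, r ∣ osing false q (d - j)) :
    (∀ A : ℕ, 1 ≤ A → i * A ≤ d → (false = false → i * A < d) →
      ∃ s' e' : ℕ, s' ≤ A ∧ e' ≤ owitt false (2 * d - 2 * i * A) ∧ i * s' + e' = m) ↔
    (i ≤ m ∧ ((2 * d) % c = 0 ∨ 2 * (m % i) < (2 * d) % c)) := by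
  have hq : q ≠ 0 := by rintro rfl; exact hrq (dvd_zero r)
  have hipos : 0 < i := hio.pos
  obtain ⟨j, hj, hdvd⟩ := hcount
  rw [osing_false] at hdvd
  have hidvd : i ∣ (d - 1) - j := by
    rcases (Nat.Prime.dvd_mul hr).mp hdvd with h | h
    · exact absurd h (not_dvd_pow_add_one hr hr2 hi hio _)
    · have := dvd_of_dvd_pow_sub_one hq hi h
      have e : d - j - 1 = d - 1 - j := by omega
      rwa [e] at this
  obtain ⟨hid, hdm⟩ := mod_lt_of_dvd_sub hj (by omega) hidvd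
  rw [hc, two_mul_mod]
  have hcore := core_iff i (d - 1) m hipos hid hdm (by omega)
  have hW : ∀ A : ℕ, i * A ≤ d → owitt false (2 * d - 2 * i * A) = d - i * A - 1 := by
    intro A hA
    rw [owitt_false, mul_assoc, ← Nat.mul_sub, Nat.mul_div_cancel_left _ (by norm_num : 0 < 2)]
  -- relation between `d % i` and `(d - 1) % i`
  have hmodrel : d % i = 0 ∨ d % i = (d - 1) % i + 1 := by
    have h1 := Nat.div_add_mod (d - 1) i
    have h2 := Nat.mod_lt (d - 1) hipos
    by_cases hlast : (d - 1) % i + 1 = i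
    · left
      have h3 : d = i * ((d - 1) / i + 1) := by
        have : i * ((d - 1) / i + 1) = i * ((d - 1) / i) + i := by ring
        omega
      rw [h3]; exact Nat.mul_mod_right _ _
    · right
      have h3 : d = (d - 1) % i + 1 + i * ((d - 1) / i) := by omega
      have h4 : (d - 1) % i + 1 < i := by omega
      conv_lhs => rw [h3]
      rw [Nat.add_mul_mod_self_left, Nat.mod_eq_of_lt h4]
  have hmodi : m % i < i := Nat.mod_lt m hipos
  have hdmodi : (d - 1) % i < i := Nat.mod_lt (d - 1) hipos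
  constructor
  · intro h
    have h1 := hcore.mp (by
      intro A hA hAd
      obtain ⟨s', e', hs, he, hsum⟩ := h A hA (by omega) (by intro _; omega)
      rw [hW A (by omega)] at he
      exact ⟨s', e', hs, by omega, hsum⟩)
    refine ⟨h1.1, ?_⟩
    rcases hmodrel with h0 | h0
    · left; omega
    · right; omega
  · rintro ⟨h1, h2⟩ A hA hAd hlt
    have hlt' : i * A < d := hlt rfl
    have hmodle : m % i ≤ (d - 1) % i := by
      rcases hmodrel with h0 | h0
      · -- `d % i = 0`: then `(d - 1) % i = i - 1`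
        have h3 := Nat.div_add_mod d i
        rw [h0, add_zero] at h3
        have h4 : 1 ≤ d / i :=
          Nat.div_pos (Nat.le_of_dvd (by omega) (Nat.dvd_of_mod_eq_zero h0)) hipos
        have h5 : d - 1 = (i - 1) + i * (d / i - 1) := by
          have : i * (d / i) = i * (d / i - 1) + i := by
            have : d / i = (d / i - 1) + 1 := by omega
            conv_lhs => rw [this]
            ring
          omega
        have h6 : (d - 1) % i = i - 1 := by
          rw [h5, Nat.add_mul_mod_self_left, Nat.mod_eq_of_lt (by omega)]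
        omega
      · rcases h2 with h2 | h2
        · omega
        · omega
    obtain ⟨s', e', hs, he, hsum⟩ := hcore.mpr ⟨h1, hmodle⟩ A hA (by omega)
    refine ⟨s', e', hs, ?_, hsum⟩
    rw [hW A (by omega)]; omega

end Cfsg.Agent.Lib.Helper73_OrthTS_ARITH_odd
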