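import Mathlib

/-!
# Counting elements of permutation groups given by generators, by kernel computation

A permutation of `Fin d` (`d ≤ 32`) is encoded as a natural number in base 32.
A subgroup `closure gens` is enumerated by an explicit search tree of codes together with a
certificate; the number of solutions of `x ^ n = 1` is then computed from the list of orders.
-/

set_option autoImplicit false

namespace Cfsg.Agent.Lib.Helper73_PermCount

open Equiv
open scoped commutatorElement

/-! ### Base 32 encoding -/

/-- Horner evaluation in base 32. -/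
def horner : List ℕ → ℕ
  | [] => 0
  | a :: l => a + 32 * horner l

/-- The `i`-th base-32 digit. -/
def dig (c i : ℕ) : ℕ := (c >>> (5 * i)) &&& 31

theorem dig_eq (c i : ℕ) : dig c i = c / 32 ^ i % 32 := by
  unfold dig
  rw [Nat.shiftRight_eq_div_pow, pow_mul]
  have : (31 : ℕ) = 2 ^ 5 - 1 := by norm_num
  rw [this, Nat.and_two_pow_sub_one_eq_mod]
  norm_num

theorem dig_horner (l : List ℕ) (hl : ∀ a ∈ l, a < 32) (i : ℕ) :
    dig (horner l) i = l.getD i 0 := by
  rw [dig_eq]
  induction l generalizing i with
  | nil => simp [horner]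
  | cons a l ih =>
    have ha : a < 32 := hl a (List.mem_cons_self)
    have hl' : ∀ b ∈ l, b < 32 := fun b hb => hl b (List.mem_cons_of_mem _ hb)
    cases i with
    | zero =>
      simp only [horner, pow_zero, Nat.div_one, List.getD_cons_zero]
      omega
    | succ i =>
      have := ih hl' i
      simp only [horner, List.getD_cons_succ] at this ⊢
      rw [← this, pow_succ, mul_comm (32 ^ i) 32, ← Nat.div_div_eq_div_mul]
      congr 2
      omega

theorem horner_append (l : List ℕ) (a : ℕ) :
    horner (l ++ [a]) = horner l + 32 ^ l.length * a := by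
  induction l with
  | nil => simp [horner]
  | cons b l ih =>
    simp only [List.cons_append, horner, ih, List.length_cons, pow_succ]
    ring

/-- Code of a permutation. -/
def enc {d : ℕ} (x : Perm (Fin d)) : ℕ := horner (List.ofFn fun i : Fin d => (x i : ℕ))

theorem dig_enc {d : ℕ} (hd : d ≤ 32) (x : Perm (Fin d)) (i : Fin d) :
    dig (enc x) i = (x i : ℕ) := by
  unfold enc
  rw [dig_horner]
  · simp [List.getD_eq_getElem?_getD]
  · intro a ha
    rw [List.mem_ofFn] at ha
    obtain ⟨j, rfl⟩ := ha
    exact lt_of_lt_of_le (x j).isLt hd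

theorem enc_injective {d : ℕ} (hd : d ≤ 32) : Function.Injective (enc (d := d)) := by
  intro x y h
  ext i
  rw [← dig_enc hd x i, ← dig_enc hd y i, h]

/-- Composition on codes, accumulator form. -/
def compAux (a b : ℕ) : ℕ → ℕ → ℕ
  | 0, acc => acc
  | i + 1, acc => compAux a b i (acc * 32 + dig a (dig b i))

/-- Composition on codes. -/
def comp (d a b : ℕ) : ℕ := compAux a b d 0

theorem compAux_eq (a b i acc : ℕ) :
    compAux a b i acc =
      acc * 32 ^ i + horner ((List.range i).map fun j => dig a (dig b j)) := by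
  induction i generalizing acc with
  | zero => simp [compAux, horner]
  | succ i ih =>
    rw [compAux, ih, List.range_succ, List.map_append, List.map_singleton, horner_append]
    simp only [List.length_map, List.length_range]
    ring

theorem comp_eq (d a b : ℕ) :
    comp d a b = horner ((List.range d).map fun j => dig a (dig b j)) := by
  rw [comp, compAux_eq]; simp

theorem enc_mul {d : ℕ} (hd : d ≤ 32) (x y : Perm (Fin d)) :
    enc (x * y) = comp d (enc x) (enc y) := by
  rw [comp_eq]
  conv_lhs => unfold enc
  congr 1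
  apply List.ext_getElem
  · simp
  · intro i h1 h2
    simp only [List.length_ofFn] at h1
    simp only [List.getElem_ofFn, Perm.coe_mul, Function.comp_apply, List.getElem_map,
      List.getElem_range]
    have e1 := dig_enc hd y ⟨i, h1⟩
    simp only at e1
    rw [e1, dig_enc hd x (y ⟨i, h1⟩)]

/-- Code of the identity. -/
def idc (d : ℕ) : ℕ := horner (List.range d)

theorem enc_one {d : ℕ} : enc (1 : Perm (Fin d)) = idc d := by
  unfold enc idc
  congr 1
  apply List.ext_getElem
  · simp
  · intro i h1 h2
    simp

/-! ### Orders via cycle lengths -/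

/-- Search for the period of the point `i`: `j` is the current image `x^k i`. -/
def perAux (c i : ℕ) : ℕ → ℕ → ℕ → ℕ
  | 0, _, _ => 0
  | fuel + 1, j, k => if Nat.beq j i then k else perAux c i fuel (dig c j) (k + 1)

/-- Period of the point `i` under the permutation with code `c` (0 on failure). -/
def per (c i : ℕ) : ℕ := perAux c i 40 (dig c i) 1

/-- lcm of the periods of the points below `i`. -/
def ordP (c : ℕ) : ℕ → ℕ → ℕ
  | 0, acc => acc
  | i + 1, acc => ordP c i (Nat.lcm acc (per c i))

/-- Order of the permutation with code `c`. -/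
def ordc (d c : ℕ) : ℕ := ordP c d 1

theorem iterate_val {d : ℕ} (hd : d ≤ 32) (x : Perm (Fin d)) (i : Fin d) (k : ℕ) :
    dig (enc x) (((x : Fin d → Fin d)^[k] i : Fin d) : ℕ) = (((x : Fin d → Fin d)^[k + 1] i : Fin d) : ℕ) := by
  rw [dig_enc hd, Function.iterate_succ_apply']

theorem perAux_spec {d : ℕ} (hd : d ≤ 32) (x : Perm (Fin d)) (i : Fin d) (fuel j k m : ℕ)
    (hj : j = (((x : Fin d → Fin d)^[k] i : Fin d) : ℕ)) (hk : 0 < k)
    (hlt : ∀ l, 0 < l → l < k → (x : Fin d → Fin d)^[l] i ≠ i)
    (hm : perAux (enc x) (i : ℕ) fuel j k = m) (hm0 : m ≠ 0) :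
    (x : Fin d → Fin d)^[m] i = i ∧ 0 < m ∧ ∀ l, 0 < l → l < m → (x : Fin d → Fin d)^[l] i ≠ i := by
  induction fuel generalizing j k with
  | zero => simp [perAux] at hm; exact absurd hm.symm hm0
  | succ fuel ih =>
    unfold perAux at hm
    by_cases h : Nat.beq j (i : ℕ) = true
    · rw [if_pos h] at hm
      subst hm
      refine ⟨?_, hk, hlt⟩
      apply Fin.ext
      rw [← hj]
      exact Nat.eq_of_beq_eq_true h
    · rw [if_neg h] at hm
      apply ih (dig (enc x) j) (k + 1) _ (Nat.succ_pos k) _ hm
      · rw [hj, iterate_val hd]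
      · intro l hl hlk
        by_cases hlk' : l < k
        · exact hlt l hl hlk'
        · have : l = k := by omega
          subst this
          intro hcon
          apply h
          rw [hj, hcon]
          exact Nat.beq_refl _

theorem per_spec {d : ℕ} (hd : d ≤ 32) (x : Perm (Fin d)) (i : Fin d)
    (h0 : per (enc x) (i : ℕ) ≠ 0) :
    Function.minimalPeriod (x : Fin d → Fin d) i = per (enc x) (i : ℕ) := by
  obtain ⟨h1, h2, h3⟩ := perAux_spec hd x i 40 (dig (enc x) (i : ℕ)) 1 (per (enc x) (i : ℕ))
    (by rw [dig_enc hd]; rfl) Nat.one_pos (fun l hl hl1 => by omega) rfl h0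
  have hper : Function.IsPeriodicPt (x : Fin d → Fin d) (per (enc x) (i : ℕ)) i := h1
  apply le_antisymm
  · exact hper.minimalPeriod_le h2
  · by_contra hlt
    push Not at hlt
    have hpos : 0 < Function.minimalPeriod (x : Fin d → Fin d) i := hper.minimalPeriod_pos h2
    exact h3 _ hpos hlt (Function.isPeriodicPt_minimalPeriod _ _)

theorem ordP_dvd (c n : ℕ) (i acc : ℕ) :
    ordP c i acc ∣ n ↔ acc ∣ n ∧ ∀ j, j < i → per c j ∣ n := by
  induction i generalizing acc with
  | zero => simp [ordP]
  | succ i ih =>
    rw [ordP, ih, Nat.lcm_dvd_iff]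
    constructor
    · rintro ⟨⟨h1, h2⟩, h3⟩
      refine ⟨h1, fun j hj => ?_⟩
      by_cases hji : j < i
      · exact h3 j hji
      · have : j = i := by omega
        subst this; exact h2
    · rintro ⟨h1, h2⟩
      exact ⟨⟨h1, h2 i (Nat.lt_succ_self i)⟩, fun j hj => h2 j (Nat.lt_succ_of_lt hj)⟩

theorem ordP_ne_zero (c : ℕ) (i acc : ℕ) (h : ordP c i acc ≠ 0) :
    acc ≠ 0 ∧ ∀ j, j < i → per c j ≠ 0 := by
  induction i generalizing acc with
  | zero => simpa [ordP] using h
  | succ i ih =>
    rw [ordP] at h
    obtain ⟨h1, h2⟩ := ih _ h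
    have h3 : acc ≠ 0 := fun h0 => h1 (by rw [h0, Nat.lcm_zero_left])
    have h4 : per c i ≠ 0 := fun h0 => h1 (by rw [h0, Nat.lcm_zero_right])
    refine ⟨h3, fun j hj => ?_⟩
    by_cases hji : j < i
    · exact h2 j hji
    · have : j = i := by omega
      subst this; exact h4

/-- The key property of `ordc`. -/
theorem pow_eq_one_iff_ordc_dvd {d : ℕ} (hd : d ≤ 32) (x : Perm (Fin d)) (h0 : ordc d (enc x) ≠ 0)
    (n : ℕ) : x ^ n = 1 ↔ ordc d (enc x) ∣ n := by
  obtain ⟨_, hne⟩ := ordP_ne_zero _ _ _ h0
  unfold ordc
  rw [ordP_dvd]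
  simp only [isUnit_iff_eq_one, IsUnit.dvd, true_and]
  constructor
  · intro hx j hj
    have := per_spec hd x ⟨j, hj⟩ (hne j hj)
    simp only at this
    rw [← this, ← Function.isPeriodicPt_iff_minimalPeriod_dvd]
    change (x : Fin d → Fin d)^[n] ⟨j, hj⟩ = ⟨j, hj⟩
    rw [Equiv.Perm.iterate_eq_pow, hx]; rfl
  · intro h
    ext i
    have := per_spec hd x i (hne i i.isLt)
    have h2 := h i i.isLt
    rw [← this, ← Function.isPeriodicPt_iff_minimalPeriod_dvd] at h2
    have h3 : (x : Fin d → Fin d)^[n] i = i := h2
    rw [Equiv.Perm.iterate_eq_pow] at h3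
    rw [h3]; rfl


/-! ### Search trees and certificates -/

/-- Search trees of records `(code, depth, generator index, parent code)`. -/
inductive Tr where
  | leaf : Tr
  | node (l : Tr) (c dp gi par : ℕ) (r : Tr) : Tr

/-- Lookup of a code; returns the recorded depth. -/
def Tr.find : Tr → ℕ → Option ℕ
  | .leaf, _ => none
  | .node l c dp _ _ r, x =>
    if Nat.blt x c then l.find x else if Nat.blt c x then r.find x else some dp

/-- In-order list of records. -/
def Tr.toL : Tr → List (ℕ × ℕ × ℕ × ℕ)
  | .leaf => []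
  | .node l c dp gi par r => l.toL ++ (c, dp, gi, par) :: r.toL

theorem Tr.find_sound (t : Tr) (x dp : ℕ) (h : t.find x = some dp) :
    ∃ gi par, (x, dp, gi, par) ∈ t.toL := by
  induction t with
  | leaf => simp [Tr.find] at h
  | node l c dp' gi par r ihl ihr =>
    unfold Tr.find at h
    by_cases h1 : Nat.blt x c = true
    · rw [if_pos h1] at h
      obtain ⟨gi', par', hm⟩ := ihl h
      exact ⟨gi', par', by simp [Tr.toL, hm]⟩
    · rw [if_neg h1] at h
      by_cases h2 : Nat.blt c x = true
      · rw [if_pos h2] at h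
        obtain ⟨gi', par', hm⟩ := ihr h
        exact ⟨gi', par', by simp [Tr.toL, hm]⟩
      · rw [if_neg h2] at h
        have e1 : ¬ x < c := fun hh => h1 (by simpa [Nat.blt_eq] using hh)
        have e2 : ¬ c < x := fun hh => h2 (by simpa [Nat.blt_eq] using hh)
        have hxc : x = c := by omega
        have hdp : dp' = dp := by simpa using h
        subst hxc; subst hdp
        exact ⟨gi, par, by simp [Tr.toL]⟩

/-- The codes are strictly increasing. -/
def incr : List (ℕ × ℕ × ℕ × ℕ) → Bool
  | [] => true
  | [_] => true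
  | a :: b :: rest => Nat.blt a.1 b.1 && incr (b :: rest)

theorem incr_spec (l : List (ℕ × ℕ × ℕ × ℕ)) (h : incr l = true) :
    (l.map (fun m => m.1)).Pairwise (· < ·) := by
  induction l with
  | nil => simp
  | cons a l ih =>
    cases l with
    | nil => simp
    | cons b rest =>
      simp only [incr, Bool.and_eq_true] at h
      have hab : a.1 < b.1 := by simpa [Nat.blt_eq] using h.1
      have ih' := ih h.2
      rw [List.map_cons, List.pairwise_cons]
      refine ⟨?_, ih'⟩
      intro c hc
      rw [List.map_cons, List.pairwise_cons] at ih'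
      rw [List.map_cons, List.mem_cons] at hc
      rcases hc with rfl | hc
      · exact hab
      · exact lt_trans hab (ih'.1 c hc)

/-- Record check: depth 0 means identity; depth `k+1` means `generator * parent` with the parent
recorded at depth `k`. -/
def nodeChk (d : ℕ) (S : List ℕ) (T : Tr) (m : ℕ × ℕ × ℕ × ℕ) : Bool :=
  match m.2.1 with
  | 0 => Nat.beq m.1 (idc d)
  | k + 1 =>
    (match T.find m.2.2.2 with
      | some dp' => Nat.beq dp' k
      | none => false) && Nat.beq m.1 (comp d (S.getD m.2.2.1 (idc d)) m.2.2.2)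

def chkNodes (d : ℕ) (S : List ℕ) (T : Tr) : List (ℕ × ℕ × ℕ × ℕ) → Bool
  | [] => true
  | m :: rest => nodeChk d S T m && chkNodes d S T rest

theorem chkNodes_spec (d : ℕ) (S : List ℕ) (T : Tr) (l : List (ℕ × ℕ × ℕ × ℕ))
    (h : chkNodes d S T l = true) : ∀ m ∈ l, nodeChk d S T m = true := by
  induction l with
  | nil => simp
  | cons a l ih =>
    simp only [chkNodes, Bool.and_eq_true] at h
    intro m hm
    rcases List.mem_cons.1 hm with rfl | hm
    · exact h.1
    · exact ih h.2 m hm

def closedChk (d : ℕ) (S : List ℕ) (T : Tr) (c : ℕ) : Bool :=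
  S.all fun s => (T.find (comp d s c)).isSome

def chkClosed (d : ℕ) (S : List ℕ) (T : Tr) : List (ℕ × ℕ × ℕ × ℕ) → Bool
  | [] => true
  | m :: rest => closedChk d S T m.1 && chkClosed d S T rest

theorem chkClosed_spec (d : ℕ) (S : List ℕ) (T : Tr) (l : List (ℕ × ℕ × ℕ × ℕ))
    (h : chkClosed d S T l = true) : ∀ m ∈ l, ∀ s ∈ S, (T.find (comp d s m.1)).isSome = true := by
  induction l with
  | nil => simp
  | cons a l ih =>
    simp only [chkClosed, Bool.and_eq_true] at h
    intro m hm s hs
    rcases List.mem_cons.1 hm with rfl | hm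
    · have := h.1
      unfold closedChk at this
      rw [List.all_eq_true] at this
      exact this s hs
    · exact ih h.2 m hm s hs

section main

variable {d : ℕ} (hd : d ≤ 32) (gens : List (Perm (Fin d))) (S : List ℕ) (T : Tr)

/-- The group generated by the list. -/
abbrev grp (gens : List (Perm (Fin d))) : Subgroup (Perm (Fin d)) :=
  Subgroup.closure {g | g ∈ gens}

theorem getD_mem (hS : gens.map enc = S) (gi : ℕ) :
    ∃ g ∈ grp gens, enc g = S.getD gi (idc d) := by
  by_cases h : gi < gens.length
  · refine ⟨gens[gi], Subgroup.subset_closure (List.getElem_mem h), ?_⟩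
    subst hS
    rw [List.getD_eq_getElem?_getD, List.getElem?_map, List.getElem?_eq_getElem h]
    rfl
  · refine ⟨1, Subgroup.one_mem _, ?_⟩
    subst hS
    rw [List.getD_eq_getElem?_getD, List.getElem?_eq_none (by simpa using h)]
    exact enc_one

include hd in
/-- Every recorded code is the code of an element of the group. -/
theorem node_mem (hS : gens.map enc = S) (h1 : chkNodes d S T T.toL = true) :
    ∀ dp c gi par, (c, dp, gi, par) ∈ T.toL → ∃ x ∈ grp gens, enc x = c := by
  have hall := chkNodes_spec d S T T.toL h1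
  intro dp
  induction dp with
  | zero =>
    intro c gi par hm
    have := hall _ hm
    simp only [nodeChk] at this
    exact ⟨1, Subgroup.one_mem _, by rw [enc_one]; exact (Nat.eq_of_beq_eq_true this).symm⟩
  | succ k ih =>
    intro c gi par hm
    have := hall _ hm
    simp only [nodeChk, Bool.and_eq_true] at this
    obtain ⟨h2, h3⟩ := this
    have hc : c = comp d (S.getD gi (idc d)) par := Nat.eq_of_beq_eq_true h3
    have hfind : T.find par = some k := by
      cases hf : T.find par with
      | none => rw [hf] at h2; simp at h2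
      | some dp' =>
        rw [hf] at h2
        have : dp' = k := Nat.eq_of_beq_eq_true h2
        rw [this]
    obtain ⟨gi', par', hm'⟩ := T.find_sound par k hfind
    obtain ⟨x', hx', hx'e⟩ := ih par gi' par' hm'
    obtain ⟨g, hg, hge⟩ := getD_mem gens S hS gi
    refine ⟨g * x', Subgroup.mul_mem _ hg hx', ?_⟩
    rw [enc_mul hd, hge, hx'e, hc]

include hd in
/-- Every element of the group has a recorded code. -/
theorem mem_node (hS : gens.map enc = S) (h2 : chkClosed d S T T.toL = true)
    (h5 : (T.find (idc d)).isSome = true) :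
    ∀ x ∈ grp gens, (T.find (enc x)).isSome = true := by
  have hall := chkClosed_spec d S T T.toL h2
  -- closed under left multiplication by a generator
  have hstep : ∀ g ∈ gens, ∀ y : Perm (Fin d), (T.find (enc y)).isSome = true →
      (T.find (enc (g * y))).isSome = true := by
    intro g hg y hy
    obtain ⟨dp, hdp⟩ := Option.isSome_iff_exists.1 hy
    obtain ⟨gi, par, hm⟩ := T.find_sound _ _ hdp
    have := hall _ hm (enc g) (by rw [← hS]; exact List.mem_map_of_mem hg)
    rw [enc_mul hd]
    exact this
  have hpow : ∀ g ∈ gens, ∀ k : ℕ, ∀ y : Perm (Fin d), (T.find (enc y)).isSome = true →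
      (T.find (enc (g ^ k * y))).isSome = true := by
    intro g hg k
    induction k with
    | zero => intro y hy; simpa using hy
    | succ k ih =>
      intro y hy
      rw [pow_succ', mul_assoc]
      exact hstep g hg _ (ih y hy)
  intro x hx
  induction hx using Subgroup.closure_induction_left with
  | one => rw [enc_one]; exact h5
  | mul_left g hg y _ ih => exact hstep g hg y ih
  | inv_mul_cancel g hg y _ ih =>
    obtain ⟨n, hn, hgn⟩ := (isOfFinOrder_of_finite g).exists_pow_eq_one
    have : g⁻¹ = g ^ (n - 1) := by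
      rw [inv_eq_iff_mul_eq_one, ← pow_succ', Nat.sub_add_cancel hn, hgn]
    rw [this]
    exact hpow g hg _ y ih

include hd in
/-- The main counting theorem. -/
theorem card_pow_eq_one (os : List ℕ) (hS : gens.map enc = S)
    (h0 : incr T.toL = true) (h1 : chkNodes d S T T.toL = true)
    (h2 : chkClosed d S T T.toL = true) (h5 : (T.find (idc d)).isSome = true)
    (h3 : T.toL.map (fun m => ordc d m.1) = os) (h4 : ∀ o ∈ os, o ≠ 0) (n : ℕ) :
    Nat.card {g : ↥(grp gens) // g ^ n = 1} = (os.filter (fun o => n % o = 0)).length := by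
  classical
  set C : List ℕ := T.toL.map (fun m => m.1) with hC
  have hnodup : C.Nodup := (incr_spec _ h0).imp (fun h => ne_of_lt h)
  have hmemC : ∀ c, c ∈ C ↔ ∃ x ∈ grp gens, enc x = c := by
    intro c
    constructor
    · intro hc
      rw [hC, List.mem_map] at hc
      obtain ⟨⟨c', dp, gi, par⟩, hm, rfl⟩ := hc
      exact node_mem hd gens S T hS h1 dp c' gi par hm
    · rintro ⟨x, hx, rfl⟩
      have := mem_node hd gens S T hS h2 h5 x hx
      obtain ⟨dp, hdp⟩ := Option.isSome_iff_exists.1 this
      obtain ⟨gi, par, hm⟩ := T.find_sound _ _ hdp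
      rw [hC, List.mem_map]
      exact ⟨_, hm, rfl⟩
  have hord : ∀ c ∈ C, ordc d c ≠ 0 := by
    intro c hc
    apply h4
    rw [← h3]
    rw [hC, List.mem_map] at hc
    obtain ⟨m, hm, rfl⟩ := hc
    exact List.mem_map_of_mem hm
  -- the bijection
  let P : ℕ → Prop := fun c => n % ordc d c = 0
  have e : {g : ↥(grp gens) // g ^ n = 1} ≃ {c : ℕ // c ∈ C.filter (fun c => decide (P c))} :=
    Equiv.ofBijective
      (fun g => ⟨enc (g.1 : Perm (Fin d)), by
        have hc : enc (g.1 : Perm (Fin d)) ∈ C := (hmemC _).2 ⟨g.1.1, g.1.2, rfl⟩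
        rw [List.mem_filter]
        refine ⟨hc, ?_⟩
        simp only [decide_eq_true_eq, P]
        have h := (pow_eq_one_iff_ordc_dvd hd (g.1 : Perm (Fin d)) (hord _ hc) n).1 (by
          have := congrArg Subtype.val g.2
          simpa using this)
        exact Nat.mod_eq_zero_of_dvd h⟩)
      (by
        constructor
        · intro g g' h
          have := congrArg Subtype.val h
          simp only at this
          exact Subtype.ext (Subtype.ext (enc_injective hd this))
        · rintro ⟨c, hc⟩
          rw [List.mem_filter] at hc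
          obtain ⟨hcC, hP⟩ := hc
          simp only [decide_eq_true_eq, P] at hP
          obtain ⟨x, hx, rfl⟩ := (hmemC c).1 hcC
          have hxn : x ^ n = 1 :=
            (pow_eq_one_iff_ordc_dvd hd x (hord _ hcC) n).2 (Nat.dvd_of_mod_eq_zero hP)
          exact ⟨⟨⟨x, hx⟩, Subtype.ext (by simpa using hxn)⟩, rfl⟩)
  rw [Nat.card_congr e]
  have hnd : (C.filter (fun c => decide (P c))).Nodup := hnodup.filter _
  rw [Nat.card_eq_fintype_card, Fintype.card_congr (Equiv.subtypeEquivRight (fun c => by
    rw [← List.mem_toFinset])), Fintype.card_coe, List.toFinset_card_of_nodup hnd]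
  rw [← h3, hC, List.filter_map, List.filter_map, List.length_map, List.length_map]
  rfl

end main

/-! ### Explicit permutations and words -/

/-- A permutation from a function and its inverse. -/
def mkPerm {d : ℕ} (f g : Fin d → Fin d) (h1 : ∀ i, g (f i) = i) (h2 : ∀ i, f (g i) = i) :
    Perm (Fin d) := ⟨f, g, h1, h2⟩

/-- Evaluate a word in the generators: a list of `(index, inverted?)`. -/
def evalW {d : ℕ} (S : List (Perm (Fin d))) (w : List (ℕ × Bool)) : Perm (Fin d) :=
  (w.map fun p => if p.2 then (S.getD p.1 1)⁻¹ else S.getD p.1 1).prod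

theorem getD_mem_grp {d : ℕ} (S : List (Perm (Fin d))) (i : ℕ) : S.getD i 1 ∈ grp S := by
  by_cases h : i < S.length
  · rw [List.getD_eq_getElem?_getD, List.getElem?_eq_getElem h]
    exact Subgroup.subset_closure (List.getElem_mem h)
  · rw [List.getD_eq_getElem?_getD, List.getElem?_eq_none (by simpa using h)]
    exact Subgroup.one_mem _

theorem evalW_mem {d : ℕ} (S : List (Perm (Fin d))) (w : List (ℕ × Bool)) :
    evalW S w ∈ grp S := by
  unfold evalW
  apply Subgroup.list_prod_mem
  intro x hx
  rw [List.mem_map] at hx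
  obtain ⟨p, _, rfl⟩ := hx
  split_ifs
  · exact Subgroup.inv_mem _ (getD_mem_grp S p.1)
  · exact getD_mem_grp S p.1

/-- Equality test for permutations through their codes. -/
def eqP {d : ℕ} (x y : Perm (Fin d)) : Bool := Nat.beq (enc x) (enc y)

theorem eqP_spec {d : ℕ} (hd : d ≤ 32) (x y : Perm (Fin d)) (h : eqP x y = true) : x = y :=
  enc_injective hd (Nat.eq_of_beq_eq_true h)

/-! ### Solvability certificates -/

section solv

variable {G : Type*} [Group G]

theorem isSolvable_of_commutator_le (H K : Subgroup G) (h : ⁅H, H⁆ ≤ K) [hK : Group.IsSolvable K] :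
    Group.IsSolvable H := by
  obtain ⟨n, hn⟩ := (Group.isSolvable_def K).1 hK
  have key : ∀ m, (derivedSeries H (m + 1)).map H.subtype ≤ (derivedSeries K m).map K.subtype := by
    intro m
    induction m with
    | zero =>
      simp only [derivedSeries_succ, derivedSeries_zero, Subgroup.map_commutator]
      have h1 : (⊤ : Subgroup H).map H.subtype = H := by
        rw [← MonoidHom.range_eq_map]; exact Subgroup.range_subtype H
      have h2 : (⊤ : Subgroup K).map K.subtype = K := by
        rw [← MonoidHom.range_eq_map]; exact Subgroup.range_subtype K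
      rw [h1, h2]; exact h
    | succ m ih =>
      rw [derivedSeries_succ, derivedSeries_succ (G := K), Subgroup.map_commutator,
        Subgroup.map_commutator]
      exact Subgroup.commutator_mono ih ih
  have := key n
  rw [hn, Subgroup.map_bot, le_bot_iff,
    Subgroup.map_eq_bot_iff_of_injective _ (Subgroup.subtype_injective H)] at this
  exact (Group.isSolvable_def H).2 ⟨n + 1, this⟩

end solv

section step

variable {d : ℕ}

/-- If the commutators of the generators of `A` lie in `grp B` and the generators of `A` (and their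
inverses) conjugate the generators of `B` into `grp B`, then `⁅grp A, grp A⁆ ≤ grp B`. -/
theorem commutator_le_of_gens (A B : List (Perm (Fin d)))
    (hc : ∀ a ∈ A, ∀ b ∈ A, ⁅a, b⁆ ∈ grp B)
    (hn : ∀ g ∈ A, ∀ s ∈ B, g * s * g⁻¹ ∈ grp B ∧ g⁻¹ * s * g ∈ grp B) :
    ⁅grp A, grp A⁆ ≤ grp B := by
  -- conjugation by a fixed element maps grp B into itself as soon as it does so on generators
  have hconj : ∀ g : Perm (Fin d), (∀ s ∈ B, g * s * g⁻¹ ∈ grp B) →
      ∀ s ∈ grp B, g * s * g⁻¹ ∈ grp B := by
    intro g hg s hs
    have : grp B ≤ (grp B).comap (MulAut.conj g).toMonoidHom := by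
      rw [grp, Subgroup.closure_le]
      intro t ht
      exact hg t ht
    exact this hs
  -- grp A normalizes grp B (both directions)
  have hnorm : ∀ g ∈ grp A, (∀ s ∈ grp B, g * s * g⁻¹ ∈ grp B) ∧
      (∀ s ∈ grp B, g⁻¹ * s * g ∈ grp B) := by
    intro g hg
    induction hg using Subgroup.closure_induction with
    | mem g hg =>
      refine ⟨hconj g (fun s hs => (hn g hg s hs).1), ?_⟩
      have := hconj g⁻¹ (fun s hs => by simpa using (hn g hg s hs).2)
      simpa using this
    | one => simp
    | mul x y _ _ ihx ihy =>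
      constructor
      · intro s hs
        have := ihx.1 _ (ihy.1 s hs)
        simpa [mul_assoc] using this
      · intro s hs
        have := ihy.2 _ (ihx.2 s hs)
        simpa [mul_assoc] using this
    | inv x _ ih =>
      exact ⟨by simpa using ih.2, by simpa using ih.1⟩
  rw [Subgroup.commutator_le]
  -- first: generator against arbitrary element
  have h1 : ∀ a ∈ A, ∀ y ∈ grp A, ⁅a, y⁆ ∈ grp B := by
    intro a ha y hy
    induction hy using Subgroup.closure_induction with
    | mem y hy => exact hc a ha y hy
    | one => simp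
    | mul y z hy hz ihy ihz =>
      have e : ⁅a, y * z⁆ = ⁅a, y⁆ * (y * ⁅a, z⁆ * y⁻¹) := by
        simp only [commutatorElement_def]; group
      rw [e]
      exact Subgroup.mul_mem _ ihy ((hnorm y hy).1 _ ihz)
    | inv y hy ihy =>
      have e : ⁅a, y⁻¹⁆ = y⁻¹ * ⁅a, y⁆⁻¹ * y := by
        simp only [commutatorElement_def]; group
      rw [e]
      exact (hnorm y hy).2 _ (Subgroup.inv_mem _ ihy)
  intro x hx y hy
  induction hx using Subgroup.closure_induction with
  | mem x hx => exact h1 x hx y hy
  | one => simp
  | mul x z hx hz ihx ihz =>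
    have e : ⁅x * z, y⁆ = (x * ⁅z, y⁆ * x⁻¹) * ⁅x, y⁆ := by
      simp only [commutatorElement_def]; group
    rw [e]
    exact Subgroup.mul_mem _ ((hnorm x hx).1 _ ihz) ihx
  | inv x hx ihx =>
    have e : ⁅x⁻¹, y⁆ = x⁻¹ * ⁅x, y⁆⁻¹ * x := by
      simp only [commutatorElement_def]; group
    rw [e]
    exact (hnorm x hx).2 _ (Subgroup.inv_mem _ ihx)

/-- Certificate check for one step of a derived-type series: the words `wc i j` express the
commutators of the generators, the words `wn1 i j`, `wn2 i j` the conjugates. -/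
def stepChk (A B : List (Perm (Fin d))) (wc wn1 wn2 : List (List (List (ℕ × Bool)))) : Bool :=
  ((List.range A.length).all fun i => (List.range A.length).all fun j =>
    eqP ⁅A.getD i 1, A.getD j 1⁆ (evalW B ((wc.getD i []).getD j []))) &&
  ((List.range A.length).all fun i => (List.range B.length).all fun j =>
    eqP (A.getD i 1 * B.getD j 1 * (A.getD i 1)⁻¹) (evalW B ((wn1.getD i []).getD j [])) &&
    eqP ((A.getD i 1)⁻¹ * B.getD j 1 * A.getD i 1) (evalW B ((wn2.getD i []).getD j [])))

theorem step_of_chk (hd : d ≤ 32) (A B : List (Perm (Fin d)))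
    (wc wn1 wn2 : List (List (List (ℕ × Bool)))) (h : stepChk A B wc wn1 wn2 = true) :
    ⁅grp A, grp A⁆ ≤ grp B := by
  unfold stepChk at h
  rw [Bool.and_eq_true, List.all_eq_true, List.all_eq_true] at h
  obtain ⟨h1, h2⟩ := h
  have getD_of_mem : ∀ (L : List (Perm (Fin d))) (a : Perm (Fin d)), a ∈ L →
      ∃ i, i < L.length ∧ L.getD i 1 = a := by
    intro L a ha
    obtain ⟨i, hi, rfl⟩ := List.getElem_of_mem ha
    exact ⟨i, hi, by rw [List.getD_eq_getElem?_getD, List.getElem?_eq_getElem hi]; rfl⟩
  apply commutator_le_of_gens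
  · intro a ha b hb
    obtain ⟨i, hi, rfl⟩ := getD_of_mem A a ha
    obtain ⟨j, hj, rfl⟩ := getD_of_mem A b hb
    have := h1 i (List.mem_range.2 hi)
    rw [List.all_eq_true] at this
    have := this j (List.mem_range.2 hj)
    rw [eqP_spec hd _ _ this]
    exact evalW_mem _ _
  · intro g hg s hs
    obtain ⟨i, hi, rfl⟩ := getD_of_mem A g hg
    obtain ⟨j, hj, rfl⟩ := getD_of_mem B s hs
    have := h2 i (List.mem_range.2 hi)
    rw [List.all_eq_true] at this
    have := this j (List.mem_range.2 hj)
    rw [Bool.and_eq_true] at this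
    rw [eqP_spec hd _ _ this.1, eqP_spec hd _ _ this.2]
    exact ⟨evalW_mem _ _, evalW_mem _ _⟩

theorem isSolvable_grp_nil : Group.IsSolvable (grp ([] : List (Perm (Fin d)))) := by
  have : grp ([] : List (Perm (Fin d))) = ⊥ := by
    rw [grp]; simp
  rw [this]
  infer_instance

theorem isSolvable_step (hd : d ≤ 32) (A B : List (Perm (Fin d)))
    (wc wn1 wn2 : List (List (List (ℕ × Bool)))) (h : stepChk A B wc wn1 wn2 = true)
    (hB : Group.IsSolvable (grp B)) : Group.IsSolvable (grp A) :=
  isSolvable_of_commutator_le (grp A) (grp B) (step_of_chk hd A B wc wn1 wn2 h)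

end step

/-! ### Non-solvability certificate -/

theorem not_isSolvable_of_key {G : Type*} [Group G] (x y z : G) (hx : x ≠ 1)
    (key : x = z * ⁅x, y * x * y⁻¹⁆ * z⁻¹) : ¬ Group.IsSolvable G := by
  refine not_isSolvable_of_mem_derivedSeries hx fun n => ?_
  induction n with
  | zero => exact Subgroup.mem_top x
  | succ n ih =>
    rw [key, (derivedSeries_normal _ _).mem_comm_iff, inv_mul_cancel_left]
    exact Subgroup.commutator_mem_commutator ih ((derivedSeries_normal _ _).conj_mem _ ih _)

end Cfsg.Agent.Lib.Helper73_PermCount
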