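import Mathlib

/-!
# Number of solutions of `x ^ n = 1` in products and powers; solvability of powers
-/

set_option autoImplicit false

namespace Cfsg.Agent.Lib.Helper73_Profile

/-- The number of solutions of `x ^ n = 1`. -/
noncomputable def F (K : Type*) [Group K] (n : ℕ) : ℕ := Nat.card {g : K // g ^ n = 1}

theorem F_prod (A B : Type*) [Group A] [Group B] (n : ℕ) :
    F (A × B) n = F A n * F B n := by
  unfold F
  rw [← Nat.card_prod]
  apply Nat.card_congr
  refine (Equiv.subtypeEquivRight (fun p => ?_)).trans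
    (Equiv.subtypeProdEquivProd (p := fun a : A => a ^ n = 1) (q := fun b : B => b ^ n = 1))
  rw [Prod.ext_iff]
  simp

theorem F_pi (A : Type*) [Group A] (k n : ℕ) :
    F (Fin k → A) n = F A n ^ k := by
  unfold F
  have e : {f : Fin k → A // f ^ n = 1} ≃ (Fin k → {a : A // a ^ n = 1}) :=
    (Equiv.subtypeEquivRight (fun f => by
      rw [funext_iff]
      simp)).trans (Equiv.subtypePiEquivPi (p := fun _ (a : A) => a ^ n = 1))
  rw [Nat.card_congr e, Nat.card_fun, Nat.card_fin]

/-- Counting function attached to a list of orders. -/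
def pf (os : List ℕ) (n : ℕ) : ℕ := (os.filter (fun o => n % o = 0)).length

theorem pf_gcd (os : List ℕ) (E : ℕ) (h : ∀ o ∈ os, o ∣ E) (n : ℕ) :
    pf os n = pf os (Nat.gcd n E) := by
  unfold pf
  congr 1
  apply List.filter_congr
  intro o ho
  have hoE := h o ho
  simp only [decide_eq_decide]
  rw [← Nat.dvd_iff_mod_eq_zero, ← Nat.dvd_iff_mod_eq_zero, Nat.dvd_gcd_iff]
  exact ⟨fun h1 => ⟨h1, hoE⟩, fun h1 => h1.1⟩

theorem isSolvable_pi (A : Type*) [Group A] [hA : Group.IsSolvable A] (ι : Type*) :
    Group.IsSolvable (ι → A) := by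
  obtain ⟨n, hn⟩ := (Group.isSolvable_def A).1 hA
  refine (Group.isSolvable_def _).2 ⟨n, ?_⟩
  rw [eq_bot_iff]
  intro x hx
  rw [Subgroup.mem_bot]
  funext i
  have h1 : (Pi.evalMonoidHom (fun _ : ι => A) i) x ∈
      (derivedSeries (ι → A) n).map (Pi.evalMonoidHom (fun _ : ι => A) i) :=
    Subgroup.mem_map_of_mem _ hx
  have h2 := map_derivedSeries_le_derivedSeries (Pi.evalMonoidHom (fun _ : ι => A) i) n h1
  rw [hn, Subgroup.mem_bot] at h2
  exact h2

theorem not_isSolvable_prod_pi (A B : Type*) [Group A] [Group B] (k : ℕ) (hk : 0 < k)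
    (hA : ¬ Group.IsSolvable A) : ¬ Group.IsSolvable ((Fin k → A) × B) := by
  intro h
  apply hA
  let f : A →* (Fin k → A) × B :=
    { toFun := fun a => (fun _ => a, 1)
      map_one' := rfl
      map_mul' := fun a b => by
        ext <;> simp }
  have hf : Function.Injective f := by
    intro a b hab
    have := congrArg (fun p => p.1 ⟨0, hk⟩) hab
    exact this
  exact Group.isSolvable_of_isSolvable_injective hf

end Cfsg.Agent.Lib.Helper73_Profile
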