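import Mathlib
import Cfsg.Agent.Lib.Helper10_S1906_L2a

set_option autoImplicit false

namespace Cfsg.Agent.Lib.Helper73_S1906_L2

open Matrix

variable {F : Type*} [Field F]

/-- the top-left 2×2 block -/
def blk (M : Matrix (Fin 3) (Fin 3) F) : Matrix (Fin 2) (Fin 2) F :=
  !![M 0 0, M 0 1; M 1 0, M 1 1]

/-- block diagonal of shape 2+1 -/
def IsBlock (M : Matrix (Fin 3) (Fin 3) F) : Prop :=
  M 2 0 = 0 ∧ M 2 1 = 0 ∧ M 0 2 = 0 ∧ M 1 2 = 0

theorem blk_mul (M N : Matrix (Fin 3) (Fin 3) F) (hM : IsBlock M) :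
    blk (M * N) = blk M * blk N := by
  obtain ⟨h20, h21, h02, h12⟩ := hM
  ext i j
  fin_cases i <;> fin_cases j <;>
    simp [blk, Matrix.mul_apply, Fin.sum_univ_three, Fin.sum_univ_two, h02, h12]

theorem corner_mul (M N : Matrix (Fin 3) (Fin 3) F) (hM : IsBlock M) :
    (M * N) 2 2 = M 2 2 * N 2 2 := by
  obtain ⟨h20, h21, h02, h12⟩ := hM
  simp [Matrix.mul_apply, Fin.sum_univ_three, h20, h21]

theorem blk_one : blk (1 : Matrix (Fin 3) (Fin 3) F) = 1 := by
  ext i j
  fin_cases i <;> fin_cases j <;> simp [blk]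

theorem eq_of_blk (M N : Matrix (Fin 3) (Fin 3) F) (hM : IsBlock M) (hN : IsBlock N)
    (h1 : blk M = blk N) (h2 : M 2 2 = N 2 2) : M = N := by
  obtain ⟨h20, h21, h02, h12⟩ := hM
  obtain ⟨k20, k21, k02, k12⟩ := hN
  have e00 := congrFun (congrFun h1 0) 0
  have e01 := congrFun (congrFun h1 0) 1
  have e10 := congrFun (congrFun h1 1) 0
  have e11 := congrFun (congrFun h1 1) 1
  simp [blk] at e00 e01 e10 e11
  ext i j
  fin_cases i <;> fin_cases j <;> simp_all


theorem two_ne_zero_of_odd_card {F : Type*} [Field F] [Fintype F] (hF : Odd (Fintype.card F)) :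
    (2 : F) ≠ 0 := by
  intro h2
  have hchar : ringChar F = 2 :=
    CharP.ringChar_of_prime_eq_zero Nat.prime_two (by exact_mod_cast h2)
  have := FiniteField.even_card_of_char_two hchar
  rcases hF with ⟨k, hk⟩
  omega

/-- **S1906-L2**, with the two L2a lemmas as hypotheses. -/
theorem lin_data_of_block_aux {X0 : Type*} [Group X0] [Finite X0]
    {F : Type*} [Field F] [Fintype F]
    (hcomm : ∀ (A M : Matrix (Fin 2) (Fin 2) F),
      (∀ a : F, A ≠ a • (1 : Matrix (Fin 2) (Fin 2) F)) → M * A = A * M →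
      ∃ a b : F, M = a • (1 : Matrix (Fin 2) (Fin 2) F) + b • A)
    (hinv : (2 : F) ≠ 0 → ∀ (A B : Matrix (Fin 2) (Fin 2) F),
      A * A = 1 → B * B = 1 → (A ≠ 1 ∧ A ≠ -1) → (B ≠ 1 ∧ B ≠ -1) → A * B = B * A →
      B = A ∨ B = -A)
    (hF : Odd (Fintype.card F))
    (g : X0 →* GL (Fin 3) F) (hg : Function.Injective g)
    (hblock : ∀ x : X0, (g x : Matrix (Fin 3) (Fin 3) F) 2 0 = 0 ∧
      (g x : Matrix (Fin 3) (Fin 3) F) 2 1 = 0 ∧ (g x : Matrix (Fin 3) (Fin 3) F) 0 2 = 0 ∧
      (g x : Matrix (Fin 3) (Fin 3) F) 1 2 = 0)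
    (E : Subgroup X0) (hEc : ∀ a ∈ E, ∀ b ∈ E, a * b = b * a) (hE2 : ∀ a ∈ E, a ^ 2 = 1)
    (hE8 : Nat.card E = 8) (hnc : ∃ a b : X0, a * b ≠ b * a) :
    ∃ (lam : X0 →* Fˣ) (c : X0), c ∈ Subgroup.center X0 ∧ c ^ 2 = 1 ∧ lam c = -1 ∧
      ∀ m z : X0, m ∈ Subgroup.center X0 → z ∈ Subgroup.center X0 → m ^ 2 = 1 → z ^ 2 = 1 →
        lam m = 1 → lam z = 1 → m ≠ 1 → z ≠ 1 → m = z := by
  classical
  have h2 : (2 : F) ≠ 0 := two_ne_zero_of_odd_card hF
  have hneg : (-1 : F) ≠ 1 := by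
    intro h
    apply h2
    have : (1 : F) + 1 = 0 := by nth_rewrite 1 [← h]; ring
    rw [← this]; norm_num
  set A : X0 → Matrix (Fin 2) (Fin 2) F := fun x => blk (g x : Matrix (Fin 3) (Fin 3) F) with hAdef
  set l : X0 → F := fun x => (g x : Matrix (Fin 3) (Fin 3) F) 2 2 with hldef
  have hA_mul : ∀ x y, A (x * y) = A x * A y := by
    intro x y
    show blk ((g (x * y) : GL (Fin 3) F) : Matrix (Fin 3) (Fin 3) F) = _
    rw [map_mul, Units.val_mul, blk_mul _ _ (hblock x)]
  have hl_mul : ∀ x y, l (x * y) = l x * l y := by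
    intro x y
    show ((g (x * y) : GL (Fin 3) F) : Matrix (Fin 3) (Fin 3) F) 2 2 = _
    rw [map_mul, Units.val_mul, corner_mul _ _ (hblock x)]
  have hA_one : A 1 = 1 := by
    show blk ((g 1 : GL (Fin 3) F) : Matrix (Fin 3) (Fin 3) F) = 1
    rw [map_one, Units.val_one, blk_one]
  have hl_one : l 1 = 1 := by
    show ((g 1 : GL (Fin 3) F) : Matrix (Fin 3) (Fin 3) F) 2 2 = 1
    rw [map_one, Units.val_one]
    simp
  have hinj : ∀ x y, A x = A y → l x = l y → x = y := fun x y h1 h2 =>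
    hg (Units.ext (eq_of_blk _ _ (hblock x) (hblock y) h1 h2))
  let lhom : X0 →* F := { toFun := l, map_one' := hl_one, map_mul' := hl_mul }
  let lam : X0 →* Fˣ := lhom.toHomUnits
  have hlam : ∀ x, ((lam x : Fˣ) : F) = l x := fun x => rfl
  -- involutions
  have hsq : ∀ e : X0, e ^ 2 = 1 → A e * A e = 1 := by
    intro e he
    rw [← hA_mul, ← pow_two, he, hA_one]
  have hlsq : ∀ e : X0, e ^ 2 = 1 → l e = 1 ∨ l e = -1 := by
    intro e he
    apply mul_self_eq_one_iff.mp
    rw [← hl_mul, ← pow_two, he, hl_one]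
  -- the blocks of `E` lie in a set of four matrices
  have hfour : ∃ T : Matrix (Fin 2) (Fin 2) F, ∀ e ∈ E,
      A e ∈ ({1, -1, T, -T} : Finset (Matrix (Fin 2) (Fin 2) F)) := by
    by_cases hex : ∃ e0 ∈ E, A e0 ≠ 1 ∧ A e0 ≠ -1
    · obtain ⟨e0, he0, hne⟩ := hex
      refine ⟨A e0, fun e he => ?_⟩
      simp only [Finset.mem_insert, Finset.mem_singleton]
      by_cases h1 : A e = 1
      · exact Or.inl h1
      by_cases h2' : A e = -1
      · exact Or.inr (Or.inl h2')
      have hc : A e0 * A e = A e * A e0 := by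
        rw [← hA_mul, ← hA_mul, hEc e0 he0 e he]
      rcases hinv h2 (A e0) (A e) (hsq e0 (hE2 e0 he0)) (hsq e (hE2 e he)) hne ⟨h1, h2'⟩ hc with h | h
      · exact Or.inr (Or.inr (Or.inl h))
      · exact Or.inr (Or.inr (Or.inr h))
    · push Not at hex
      refine ⟨1, fun e he => ?_⟩
      simp only [Finset.mem_insert, Finset.mem_singleton]
      by_cases h1 : A e = 1
      · exact Or.inl h1
      · exact Or.inr (Or.inl (hex e he h1))
  obtain ⟨T, hT⟩ := hfour
  -- pigeonhole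
  have : Fintype E := Fintype.ofFinite E
  have hcardE : (Finset.univ : Finset E).card = 8 := by
    rw [Finset.card_univ, ← Nat.card_eq_fintype_card, hE8]
  have hlt : ({1, -1, T, -T} : Finset (Matrix (Fin 2) (Fin 2) F)).card
      < (Finset.univ : Finset E).card := by
    rw [hcardE]
    exact lt_of_le_of_lt Finset.card_le_four (by norm_num)
  obtain ⟨e1, -, e2, -, hne, heq⟩ := Finset.exists_ne_map_eq_of_card_lt_of_maps_to hlt
    (f := fun e : E => A e.val) (fun e _ => hT e.val e.2)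
  -- the element `c`
  obtain ⟨c, hc⟩ : ∃ c : X0, c = e1.val * e2.val := ⟨_, rfl⟩
  have hcE : c ∈ E := by rw [hc]; exact E.mul_mem e1.2 e2.2
  have hAc : A c = 1 := by
    rw [hc, hA_mul, heq]
    exact hsq e2.val (hE2 _ e2.2)
  have hc1 : c ≠ 1 := by
    intro h
    apply hne
    apply Subtype.ext
    have h3 : e2.val * e2.val = 1 := by rw [← pow_two]; exact hE2 _ e2.2
    calc e1.val = e1.val * (e2.val * e2.val) := by rw [h3, mul_one]
      _ = c * e2.val := by rw [hc, mul_assoc]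
      _ = e2.val := by rw [h, one_mul]
  have hlc : l c = -1 := by
    rcases hlsq c (hE2 c hcE) with h | h
    · exact absurd (hinj c 1 (hAc.trans hA_one.symm) (h.trans hl_one.symm)) hc1
    · exact h
  refine ⟨lam, c, ?_, hE2 c hcE, ?_, ?_⟩
  · rw [Subgroup.mem_center_iff]
    intro x
    apply hinj
    · rw [hA_mul, hA_mul, hAc, mul_one, one_mul]
    · rw [hl_mul, hl_mul, mul_comm]
  · apply Units.ext
    rw [hlam, hlc]
    simp
  · -- uniqueness
    have key : ∀ m : X0, m ∈ Subgroup.center X0 → m ^ 2 = 1 → lam m = 1 → m ≠ 1 → A m = -1 := by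
      intro m hm hm2 hlm hm1
      have hl1 : l m = 1 := by
        have := congrArg Units.val hlm
        rw [hlam] at this
        simpa using this
      have hA1 : A m ≠ 1 := fun h => hm1 (hinj m 1 (h.trans hA_one.symm) (hl1.trans hl_one.symm))
      by_contra hA2
      have hsqm : A m * A m = 1 := hsq m hm2
      have hns : ∀ a : F, A m ≠ a • (1 : Matrix (Fin 2) (Fin 2) F) := by
        intro a ha
        have haa : a * a = 1 := by
          have h00 := congrFun (congrFun hsqm 0) 0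
          rw [ha] at h00
          simpa [Matrix.mul_apply, Fin.sum_univ_two] using h00
        rcases mul_self_eq_one_iff.mp haa with h | h
        · exact hA1 (by rw [ha, h, one_smul])
        · exact hA2 (by rw [ha, h, neg_smul, one_smul])
      have hcm : ∀ x, A x * A m = A m * A x := by
        intro x
        rw [← hA_mul, ← hA_mul, Subgroup.mem_center_iff.mp hm x]
      have hcommAll : ∀ x y, A x * A y = A y * A x := by
        intro x y
        obtain ⟨a, b, hab⟩ := hcomm (A m) (A x) hns (hcm x)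
        obtain ⟨a', b', hab'⟩ := hcomm (A m) (A y) hns (hcm y)
        rw [hab, hab']
        have : Commute (a • (1 : Matrix (Fin 2) (Fin 2) F) + b • A m)
            (a' • (1 : Matrix (Fin 2) (Fin 2) F) + b' • A m) := by
          refine Commute.add_left ?_ ?_ <;> refine Commute.add_right ?_ ?_
          · exact ((Commute.one_left (1 : Matrix (Fin 2) (Fin 2) F)).smul_left a).smul_right a'
          · exact ((Commute.one_left (A m)).smul_left a).smul_right b'
          · exact ((Commute.one_right (A m)).smul_left b).smul_right a'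
          · exact ((Commute.refl (A m)).smul_left b).smul_right b'
        exact this.eq
      obtain ⟨x, y, hxy⟩ := hnc
      exact hxy (hinj _ _ (by rw [hA_mul, hA_mul, hcommAll]) (by rw [hl_mul, hl_mul, mul_comm]))
    intro m z hm hz hm2 hz2 hlm hlz hm1 hz1
    apply hinj
    · rw [key m hm hm2 hlm hm1, key z hz hz2 hlz hz1]
    · have e1 : l m = 1 := by
        have := congrArg Units.val hlm
        rw [hlam] at this
        simpa using this
      have e2 : l z = 1 := by
        have := congrArg Units.val hlz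
        rw [hlam] at this
        simpa using this
      rw [e1, e2]


/-- **S1906-L2**. -/
theorem lin_data_of_block {X0 : Type*} [Group X0] [Finite X0]
    {F : Type*} [Field F] [Fintype F] (hF : Odd (Fintype.card F))
    (g : X0 →* GL (Fin 3) F) (hg : Function.Injective g)
    (hblock : ∀ x : X0, (g x : Matrix (Fin 3) (Fin 3) F) 2 0 = 0 ∧
      (g x : Matrix (Fin 3) (Fin 3) F) 2 1 = 0 ∧ (g x : Matrix (Fin 3) (Fin 3) F) 0 2 = 0 ∧
      (g x : Matrix (Fin 3) (Fin 3) F) 1 2 = 0)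
    (E : Subgroup X0) (hEc : ∀ a ∈ E, ∀ b ∈ E, a * b = b * a) (hE2 : ∀ a ∈ E, a ^ 2 = 1)
    (hE8 : Nat.card E = 8) (hnc : ∃ a b : X0, a * b ≠ b * a) :
    ∃ (lam : X0 →* Fˣ) (c : X0), c ∈ Subgroup.center X0 ∧ c ^ 2 = 1 ∧ lam c = -1 ∧
      ∀ m z : X0, m ∈ Subgroup.center X0 → z ∈ Subgroup.center X0 → m ^ 2 = 1 → z ^ 2 = 1 →
        lam m = 1 → lam z = 1 → m ≠ 1 → z ≠ 1 → m = z :=
  lin_data_of_block_aux (fun A M hA hM => Cfsg.Agent.Lib.Helper10_S1906_L2a.commutant A M hA hM)
    (fun h2 A B hA2 hB2 hA hB hAB =>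
      Cfsg.Agent.Lib.Helper10_S1906_L2a.invol_comm h2 A B hA2 hB2 hA hB hAB)
    hF g hg hblock E hEc hE2 hE8 hnc

end Cfsg.Agent.Lib.Helper73_S1906_L2
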