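import Mathlib
import Cfsg.Agent.Lib.Helper77_SLnDefs
import Cfsg.Prelude.Def_Characters
import Cfsg.Agent.Lib.Helper16_Orbit

/-!
# S2332 package TRANSPORT (architect helper77): `MinDeg` from the model index type `Unit ⊕ κ`  (helper73)
-/

set_option autoImplicit false
open Matrix Cfsg.Agent.Lib.Helper5_Transv Cfsg.Agent.Lib.Helper77_SLnDefs

namespace Cfsg.Agent.Lib.Helper73_S2332_TRANSPORT

variable {F : Type*} [Field F] [Fintype F] [DecidableEq F] {κ : Type} [Fintype κ] [DecidableEq κ]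
  {V : Type} [AddCommGroup V] [Module ℂ V] [FiniteDimensional ℂ V]

theorem minDeg_of_model (κ : Type) [Fintype κ] [DecidableEq κ] (n d : ℕ)
    (hn : Fintype.card κ + 1 = n)
    (h : ∀ (V : Type) [AddCommGroup V] [Module ℂ V] [FiniteDimensional ℂ V]
      (ρ : Representation ℂ (Matrix.SpecialLinearGroup (Unit ⊕ κ) F) V),
      ρ.IsIrreducible → 2 ≤ Module.finrank ℂ V → d ≤ Module.finrank ℂ V) :
    MinDeg F n d := by
  intro ι _ _ hι V _ _ _ ρ hirr h2
  have hc : Fintype.card ι = Fintype.card (Unit ⊕ κ) := by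
    rw [hι, ← hn, Fintype.card_sum, Fintype.card_unit, add_comm]
  let σ : ι ≃ Unit ⊕ κ := Fintype.equivOfCardEq hc
  let f : Matrix.SpecialLinearGroup (Unit ⊕ κ) F ≃* Matrix.SpecialLinearGroup ι F :=
    (slReindex σ).symm
  have hirr0 : ρ.IsIrreducible := hirr
  have hirr' : Representation.IsIrreducible (ρ.comp f.toMonoidHom) :=
    Cfsg.Agent.Lib.Helper16_Orbit.irreducible_comp ρ f.toMonoidHom f.surjective
  exact h V (ρ.comp f.toMonoidHom) hirr' h2

end Cfsg.Agent.Lib.Helper73_S2332_TRANSPORT
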