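import Mathlib
import Cfsg.Agent.Lib.Helper80_S4840Defs
import Cfsg.Agent.S0016
set_option autoImplicit false
namespace Cfsg.Agent.Lib.Helper73_S4840_PREB
open Cfsg.Agent.Lib.Helper80_S4840Defs
universe u

section core
variable {p : ℕ} [Fact p.Prime] {V : Type*} [AddCommGroup V] [Module (ZMod p) V]
  {R : Type*} [Group R] (σ : R →* (V ≃ₗ[ZMod p] V))

/-- the norm of a nonidentity element of order dividing `r` vanishes when nonidentity elements
fix no nonzero vector. -/
lemma norm_eq_zero (hfree : ∀ g : R, g ≠ 1 → ∀ v : V, σ g v = v → v = 0) (r : ℕ)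
    (g : R) (hg1 : g ≠ 1) (hgr : g ^ r = 1) (v : V) :
    ∑ j ∈ Finset.range r, σ (g ^ j) v = 0 := by
  apply hfree g hg1
  rw [map_sum]
  have h1 : ∀ j, σ g (σ (g ^ j) v) = σ (g ^ (j + 1)) v := by
    intro j
    rw [pow_succ', map_mul]
    rfl
  simp_rw [h1]
  have e1 := Finset.sum_range_succ' (fun j => σ (g ^ j) v) r
  have e2 := Finset.sum_range_succ (fun j => σ (g ^ j) v) r
  simp only [hgr, pow_zero] at e1 e2
  rw [e2] at e1
  exact (add_right_cancel e1).symm

lemma nsmul_eq_zero_of_pair (hfree : ∀ g : R, g ≠ 1 → ∀ v : V, σ g v = v → v = 0) (r : ℕ)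
    (hr : r.Prime) (a b : R) (hab : Commute a b) (har : a ^ r = 1) (hbr : b ^ r = 1)
    (hb1 : b ≠ 1) (hne : ∀ j : ℕ, a * b ^ j ≠ 1) (v : V) : r • v = 0 := by
  have hS : ∑ j ∈ Finset.range r, ∑ k ∈ Finset.range r, σ ((a * b ^ j) ^ k) v = 0 := by
    apply Finset.sum_eq_zero
    intro j _
    apply norm_eq_zero σ hfree r (a * b ^ j) (hne j)
    rw [(hab.pow_right j).mul_pow, har, ← pow_mul, mul_comm j r, pow_mul, hbr, one_pow, one_mul]
  rw [Finset.sum_comm] at hS
  have hordb : orderOf b = r := orderOf_eq_prime hbr hb1 (hp := ⟨hr⟩)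
  have hk : ∀ k ∈ Finset.range r, ∑ j ∈ Finset.range r, σ ((a * b ^ j) ^ k) v
      = if k = 0 then r • v else 0 := by
    intro k hk
    split_ifs with h0
    · subst h0
      simp
    · have hbk1 : b ^ k ≠ 1 := by
        intro h
        have := orderOf_dvd_of_pow_eq_one h
        rw [hordb] at this
        have := Nat.le_of_dvd (Nat.pos_of_ne_zero h0) this
        have := Finset.mem_range.mp hk
        omega
      have hbkr : (b ^ k) ^ r = 1 := by rw [← pow_mul, mul_comm, pow_mul, hbr, one_pow]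
      have := norm_eq_zero σ hfree r (b ^ k) hbk1 hbkr v
      have h2 : ∀ j, σ ((a * b ^ j) ^ k) v = σ (a ^ k) (σ ((b ^ k) ^ j) v) := by
        intro j
        rw [(hab.pow_right j).mul_pow, map_mul, ← pow_mul, ← pow_mul, mul_comm j k]
        rfl
      simp_rw [h2]
      rw [← map_sum, this, map_zero]
  rw [Finset.sum_congr rfl hk] at hS
  rw [Finset.sum_ite_eq' (Finset.range r) 0 (fun _ => r • v)] at hS
  simpa [hr.pos] using hS

end core

theorem preB {p : ℕ} [Fact p.Prime] {V : Type*} [AddCommGroup V] [Module (ZMod p) V] [Finite V]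
    [Nontrivial V] {Γ : Type*} [Group Γ] [Finite Γ] {ρ : Γ →* (V ≃ₗ[ZMod p] V)}
    (hS : GSetting p ρ) {r : ℕ} [Fact r.Prime] (hrp : r ≠ p) (R : Subgroup Γ)
    (hR : IsPGroup r R) :
    IsCyclic R ∨ (r = 2 ∧ ∃ n : ℕ, Nonempty (R ≃* QuaternionGroup (2 ^ n))) := by
  have hp : p.Prime := Fact.out
  have hr : r.Prime := Fact.out
  set σ : R →* (V ≃ₗ[ZMod p] V) := ρ.comp R.subtype with hσ
  -- no nonidentity element of R fixes a nonzero vector
  have hfree : ∀ g : R, g ≠ 1 → ∀ v : V, σ g v = v → v = 0 := by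
    intro g hg1 v hv
    by_contra hv0
    obtain ⟨k, hk⟩ := hS.stab (g : Γ) v hv0 hv
    obtain ⟨j, hj⟩ := (IsPGroup.iff_orderOf.mp hR) g
    rw [Subgroup.orderOf_coe] at hk
    rw [hk] at hj
    have hk0 : k = 0 := by
      by_contra hk0
      have h1 : p ∣ r ^ j := by rw [← hj]; exact dvd_pow_self p hk0
      have h2 : p ∣ r := hp.dvd_of_dvd_pow h1
      exact hrp ((Nat.prime_dvd_prime_iff_eq hp hr).mp h2).symm
    rw [hk0, pow_zero] at hk
    exact hg1 (orderOf_eq_one_iff.mp hk)
  -- r • v = 0 implies v = 0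
  have hrv : ∀ v : V, r • v = 0 → v = 0 := by
    intro v hv
    have h1 : ((r : ZMod p)) • v = 0 := by
      rw [Nat.cast_smul_eq_nsmul]; exact hv
    rcases smul_eq_zero.mp h1 with h | h
    · exfalso
      rw [ZMod.natCast_eq_zero_iff] at h
      exact hrp ((Nat.prime_dvd_prime_iff_eq hp hr).mp h).symm
    · exact h
  apply Cfsg.Agent.S0016.result r hR
  -- uniqueness of the subgroup of order r
  have key : ∀ (a : R), a ∈ Subgroup.center R → orderOf a = r →
      ∀ H : Subgroup R, Nat.card H = r → H = Subgroup.zpowers a := by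
    intro a hac hao H hH
    have hcardz : Nat.card (Subgroup.zpowers a) = r := by rw [Nat.card_zpowers, hao]
    by_cases haH : a ∈ H
    · symm
      apply Subgroup.eq_of_le_of_card_ge
      · rw [Subgroup.zpowers_le]; exact haH
      · rw [hcardz, hH]
    · exfalso
      have hHnt : H ≠ ⊥ := by
        intro h
        rw [h, Subgroup.card_bot] at hH
        exact hr.one_lt.ne hH
      obtain ⟨b', hb'⟩ := Subgroup.ne_bot_iff_exists_ne_one.mp hHnt
      obtain ⟨b, hbH, hb1⟩ : ∃ b : R, b ∈ H ∧ b ≠ 1 :=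
        ⟨(b' : R), b'.2, fun h => hb' (Subtype.ext h)⟩
      have hbr : b ^ r = 1 := by
        have := pow_card_eq_one' (G := H) (x := ⟨b, hbH⟩)
        rw [hH] at this
        exact congrArg Subtype.val this
      have hab : Commute a b := (Subgroup.mem_center_iff.mp hac b).symm
      have har : a ^ r = 1 := by rw [← hao]; exact pow_orderOf_eq_one a
      have hne : ∀ j : ℕ, a * b ^ j ≠ 1 := by
        intro j h
        apply haH
        have : a = (b ^ j)⁻¹ := eq_inv_of_mul_eq_one_left h
        rw [this]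
        exact H.inv_mem (H.pow_mem hbH j)
      obtain ⟨v, hv⟩ := exists_ne (0 : V)
      exact hv (hrv v (nsmul_eq_zero_of_pair σ hfree r hr a b hab har hbr hb1 hne v))
  intro H K hH hK
  -- a central element of order r
  have hRnt : Nontrivial R := by
    by_contra hnt
    rw [not_nontrivial_iff_subsingleton] at hnt
    have : Nat.card H ≤ 1 := by
      have := Finite.card_le_one_iff_subsingleton.mpr (inferInstance : Subsingleton H)
      exact this
    have := hr.one_lt
    omega
  have hcnt : Nontrivial (Subgroup.center R) := hR.center_nontrivial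
  have hcp : IsPGroup r (Subgroup.center R) := hR.to_subgroup _
  obtain ⟨n, hn⟩ := hcp.exists_card_eq
  have hn0 : n ≠ 0 := by
    rintro rfl
    rw [pow_zero] at hn
    have := Finite.one_lt_card_iff_nontrivial.mpr hcnt
    omega
  have hdvd : r ∣ Nat.card (Subgroup.center R) := by rw [hn]; exact dvd_pow_self r hn0
  obtain ⟨a, hao⟩ := exists_prime_orderOf_dvd_card' r hdvd
  have hao' : orderOf (a : R) = r := by rw [Subgroup.orderOf_coe]; exact hao
  rw [key (a : R) a.2 hao' H hH, key (a : R) a.2 hao' K hK]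

end Cfsg.Agent.Lib.Helper73_S4840_PREB
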