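import Mathlib
import Cfsg.Agent.Lib.Helper5_Transv
import Cfsg.Agent.Lib.Helper44_PSLnUT
import Cfsg.Agent.Lib.Helper44_PSLnTv

/-!
# Helper73_S5163_NB_A (S5163 package NB_A, architect helper88)

If `proj g` normalises `UTbar` then `g` normalises `UT` (the scalar has `p`-power order, hence is `1`).
-/

set_option autoImplicit false

namespace Cfsg.Agent.Lib.Helper73_S5163_NB_A

open Matrix Cfsg.Agent.Lib.Helper5_Transv Cfsg.Agent.Lib.Helper44_PSLnUT
  Cfsg.Agent.Lib.Helper44_PSLnTv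

variable {F : Type*} [Field F]

/-- elements of `UT` have `p`-power order -/
theorem exists_pow_eq_one [Fintype F] (p : ℕ) [Fact p.Prime] [CharP F p] (n : ℕ) :
    ∃ a : ℕ, ∀ u ∈ UT n F, u ^ (p ^ a) = 1 := by
  obtain ⟨f, -, hf⟩ := FiniteField.card F p
  refine ⟨(f : ℕ) * Fintype.card (Pos n), ?_⟩
  intro u hu
  have h1 : Nat.card (UT n F) = p ^ ((f : ℕ) * Fintype.card (Pos n)) := by
    rw [card_UT, hf, pow_mul]
  have : Finite (UT n F) := Nat.finite_of_card_ne_zero (by rw [h1]; exact pow_ne_zero _ (Fact.out : p.Prime).ne_zero)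
  have h2 : (⟨u, hu⟩ : UT n F) ^ Nat.card (UT n F) = 1 := pow_card_eq_one'
  rw [h1] at h2
  exact congrArg Subtype.val h2

/-- **NB-A**  If `proj g` normalises `UTbar` then `g` normalises `UT`. -/
theorem NB_A [Fintype F] (p : ℕ) [Fact p.Prime] [CharP F p] (n : ℕ)
    (g : SpecialLinearGroup (Fin n) F)
    (h : ∀ s ∈ UTbar n F, proj g * s * (proj g)⁻¹ ∈ UTbar n F) :
    ∀ u ∈ UT n F, g * u * g⁻¹ ∈ UT n F := by
  intro u hu
  obtain ⟨a, ha⟩ := exists_pow_eq_one (F := F) p n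
  have h1 : proj u ∈ UTbar n F := ⟨u, hu, rfl⟩
  obtain ⟨u', hu', hu'e⟩ := h _ h1
  have h2 : proj u' = proj (g * u * g⁻¹) := by
    rw [map_mul, map_mul, map_inv]
    exact hu'e
  obtain ⟨r, hr⟩ := exists_smul_of_proj_eq u' (g * u * g⁻¹) h2
  -- `r ^ (p ^ a) = 1`
  rcases isEmpty_or_nonempty (Fin n) with hn | ⟨⟨i⟩⟩
  · have : g * u * g⁻¹ = 1 := by
      apply Subtype.ext
      ext i j
      exact (hn.false i).elim
    rw [this]
    exact Subgroup.one_mem _
  · have h3 : (g * u * g⁻¹) ^ (p ^ a) = 1 := by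
      rw [conj_pow, ha u hu, mul_one, mul_inv_cancel]
    have h4 : ((g * u * g⁻¹) ^ (p ^ a)).1 = (r • u'.1) ^ (p ^ a) := by
      rw [Matrix.SpecialLinearGroup.coe_pow, hr]
    rw [h3, smul_pow, ← Matrix.SpecialLinearGroup.coe_pow, ha u' hu'] at h4
    have h5 : r ^ (p ^ a) = 1 := by
      have := congrFun (congrFun h4 i) i
      simp only [Matrix.SpecialLinearGroup.coe_one, Matrix.smul_apply, Matrix.one_apply_eq,
        smul_eq_mul, mul_one] at this
      exact this.symm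
    have h6 : (r - 1) ^ (p ^ a) = 0 := by
      rw [sub_pow_char_pow, h5, one_pow, sub_self]
    have h7 : r = 1 := sub_eq_zero.mp (pow_eq_zero_iff (pow_ne_zero _ (Fact.out : p.Prime).ne_zero) |>.mp h6)
    have h8 : g * u * g⁻¹ = u' := by
      apply Subtype.ext
      rw [hr, h7, one_smul]
    rw [h8]
    exact hu'

end Cfsg.Agent.Lib.Helper73_S5163_NB_A
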