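import Mathlib
import Cfsg.Agent.Lib.Helper5_Transv
import Cfsg.Agent.Lib.Helper44_PSLnUT

/-!
# Helper73_S5163_SC_C (S5163 package SC_C, architect helper88)

`UT n F` is generated by the transvections it contains (one row transvection per row).
-/

set_option autoImplicit false

namespace Cfsg.Agent.Lib.Helper73_S5163_SC_C

open Matrix Cfsg.Agent.Lib.Helper5_Transv Cfsg.Agent.Lib.Helper44_PSLnUT

variable {F : Type*} [Field F]

/-- the strictly upper part of row `k` -/
def rowUp {n : ℕ} (U : Matrix (Fin n) (Fin n) F) (k : Fin n) : Fin n → F :=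
  fun j => if k < j then U k j else 0

theorem rowUp_dot {n : ℕ} (U : Matrix (Fin n) (Fin n) F) (k : Fin n) :
    rowUp U k ⬝ᵥ (e k : Fin n → F) = 0 := by
  rw [dot_e]
  simp [rowUp]

/-- the row transvection is unitriangular -/
theorem rowTv_mem {n : ℕ} (U : Matrix (Fin n) (Fin n) F) (k : Fin n) (c : F) :
    tvS (e k) (rowUp U k) (rowUp_dot U k) c ∈ UT n F := by
  rw [mem_UT, tvS_coe]
  refine ⟨fun i j hji => ?_, fun i => ?_⟩
  · unfold tv
    rw [Matrix.add_apply, Matrix.one_apply_ne (ne_of_gt hji), zero_add, Matrix.smul_apply,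
      vecMulVec_apply]
    by_cases hik : i = k
    · subst hik
      have : rowUp U i j = 0 := by
        unfold rowUp
        rw [if_neg (not_lt.mpr hji.le)]
      rw [this, mul_zero, smul_zero]
    · have : (e k : Fin n → F) i = 0 := by simp [e, hik]
      rw [this, zero_mul, smul_zero]
  · unfold tv
    rw [Matrix.add_apply, Matrix.one_apply_eq, Matrix.smul_apply, vecMulVec_apply]
    by_cases hik : i = k
    · subst hik
      have : rowUp U i i = 0 := by
        unfold rowUp
        rw [if_neg (lt_irrefl _)]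
      rw [this, mul_zero, smul_zero, add_zero]
    · have : (e k : Fin n → F) i = 0 := by simp [e, hik]
      rw [this, zero_mul, smul_zero, add_zero]

/-- rows `≥ k` of `U` are those of the identity -/
def IdFrom {n : ℕ} (k : ℕ) (U : Matrix (Fin n) (Fin n) F) : Prop :=
  ∀ i : Fin n, k ≤ i.val → ∀ j, U i j = (1 : Matrix (Fin n) (Fin n) F) i j

theorem rowUp_vecMul {n : ℕ} (U : Matrix (Fin n) (Fin n) F) (k : Fin n)
    (hU : IdFrom (k.val + 1) U) : rowUp U k ᵥ* U = rowUp U k := by
  funext j
  simp only [Matrix.vecMul, dotProduct]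
  have h1 : ∀ l : Fin n, rowUp U k l * U l j = rowUp U k l * (1 : Matrix (Fin n) (Fin n) F) l j := by
    intro l
    by_cases hl : k < l
    · rw [hU l (by exact hl) j]
    · unfold rowUp
      rw [if_neg hl, zero_mul, zero_mul]
  rw [Finset.sum_congr rfl (fun l _ => h1 l)]
  have : ∑ l, rowUp U k l * (1 : Matrix (Fin n) (Fin n) F) l j = (rowUp U k ᵥ* (1 : Matrix (Fin n) (Fin n) F)) j := rfl
  rw [this, Matrix.vecMul_one]

theorem step {n : ℕ} (u : SpecialLinearGroup (Fin n) F) (hu : u ∈ UT n F) (k : Fin n)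
    (hU : IdFrom (k.val + 1) u.1) :
    IdFrom k.val (tvS (e k) (rowUp u.1 k) (rowUp_dot u.1 k) (-1) * u).1 := by
  intro i hki j
  show (tv (e k) (rowUp u.1 k) (-1) * u.1) i j = _
  unfold tv
  rw [add_mul, one_mul, Matrix.add_apply, smul_mul_assoc, vecMulVec_mul, rowUp_vecMul u.1 k hU,
    Matrix.smul_apply, vecMulVec_apply]
  by_cases hik : i = k
  · subst hik
    have he : (e i : Fin n → F) i = 1 := by simp [e]
    rw [he, one_mul, smul_eq_mul, neg_one_mul]
    rcases lt_trichotomy i j with h | h | h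
    · have : rowUp u.1 i j = u.1 i j := by unfold rowUp; rw [if_pos h]
      rw [this, add_neg_cancel, Matrix.one_apply_ne (ne_of_lt h)]
    · subst h
      have : rowUp u.1 i i = 0 := by unfold rowUp; rw [if_neg (lt_irrefl _)]
      rw [this, neg_zero, add_zero, Matrix.one_apply_eq]
      exact hu.2 i
    · have : rowUp u.1 i j = 0 := by unfold rowUp; rw [if_neg (not_lt.mpr h.le)]
      rw [this, neg_zero, add_zero, Matrix.one_apply_ne (ne_of_gt h)]
      exact hu.1 i j h
  · have he : (e k : Fin n → F) i = 0 := by simp [e, hik]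
    rw [he, zero_mul, smul_zero, add_zero]
    apply hU i
    have : k.val ≠ i.val := fun h => hik (Fin.ext h.symm)
    omega

/-- **SC-C**  `UT n F` is generated by the transvections it contains. -/
theorem SC_C (n : ℕ) :
    UT n F ≤ Subgroup.closure {g : SpecialLinearGroup (Fin n) F |
      g ∈ UT n F ∧ ∃ (v φ : Fin n → F) (h : φ ⬝ᵥ v = 0), g = tvS v φ h 1} := by
  have key : ∀ k : ℕ, k ≤ n → ∀ u : SpecialLinearGroup (Fin n) F, u ∈ UT n F → IdFrom k u.1 →
      u ∈ Subgroup.closure {g : SpecialLinearGroup (Fin n) F |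
        g ∈ UT n F ∧ ∃ (v φ : Fin n → F) (h : φ ⬝ᵥ v = 0), g = tvS v φ h 1} := by
    intro k
    induction k with
    | zero =>
      intro _ u _ hU
      have : u = 1 := by
        apply Subtype.ext
        ext i j
        exact hU i (Nat.zero_le _) j
      rw [this]
      exact Subgroup.one_mem _
    | succ k ih =>
      intro hk u hu hU
      let k' : Fin n := ⟨k, hk⟩
      have h1 := step u hu k' hU
      have hr : tvS (e k') (rowUp u.1 k') (rowUp_dot u.1 k') 1 ∈
          Subgroup.closure {g : SpecialLinearGroup (Fin n) F |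
            g ∈ UT n F ∧ ∃ (v φ : Fin n → F) (h : φ ⬝ᵥ v = 0), g = tvS v φ h 1} :=
        Subgroup.subset_closure ⟨rowTv_mem u.1 k' 1, _, _, _, rfl⟩
      have h2 := ih (by omega) _ ((UT n F).mul_mem (rowTv_mem u.1 k' (-1)) hu) h1
      have h3 : u = tvS (e k') (rowUp u.1 k') (rowUp_dot u.1 k') 1 *
          (tvS (e k') (rowUp u.1 k') (rowUp_dot u.1 k') (-1) * u) := by
        rw [← mul_assoc, tvS_add, add_neg_cancel, tvS_zero, one_mul]
      rw [h3]
      exact Subgroup.mul_mem _ hr h2
  intro u hu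
  exact key n le_rfl u hu (fun i hi => absurd i.2 (by omega))

end Cfsg.Agent.Lib.Helper73_S5163_SC_C
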