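import Mathlib
import Cfsg.Agent.Lib.Helper76_S5320Defs
import Cfsg.Agent.Lib.Helper76_S5320Bas

/-!
# S5320 package SLN3 (architect helper76): `N_{SL₂}(Q₈) = Q₈⟨ω⟩`  (helper73)
-/

set_option autoImplicit false

namespace Cfsg.Agent.Lib.Helper73_S5320_SLN3

open Matrix Cfsg.Agent.Lib.Helper42_SL2Class Cfsg.Agent.Lib.Helper76_S5320Defs
  Cfsg.Agent.Lib.Helper76_S5320Bas

section Generic

variable {G : Type*} [Group G]

/-- equality up to the central involution `z` -/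
def SgnEq (z c d : G) : Prop := c = d ∨ c = z * d

theorem SgnEq.refl (z c : G) : SgnEq z c c := Or.inl rfl

theorem SgnEq.symm {z c d : G} (hzz : z * z = 1) (h : SgnEq z c d) : SgnEq z d c := by
  rcases h with rfl | rfl
  · exact Or.inl rfl
  · right; rw [← mul_assoc, hzz, one_mul]

theorem SgnEq.trans {z c d e : G} (hzz : z * z = 1) (h : SgnEq z c d) (h' : SgnEq z d e) :
    SgnEq z c e := by
  rcases h with rfl | rfl <;> rcases h' with rfl | rfl
  · exact Or.inl rfl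
  · exact Or.inr rfl
  · exact Or.inr rfl
  · left; rw [← mul_assoc, hzz, one_mul]

theorem SgnEq.mul {z c d c' d' : G} (hz : ∀ g, z * g = g * z) (hzz : z * z = 1)
    (h : SgnEq z c d) (h' : SgnEq z c' d') : SgnEq z (c * c') (d * d') := by
  rcases h with rfl | rfl <;> rcases h' with rfl | rfl
  · exact Or.inl rfl
  · right; rw [← mul_assoc, ← hz, mul_assoc]
  · right; rw [mul_assoc]
  · left
    calc z * d * (z * d') = z * (d * z) * d' := by simp only [mul_assoc]
      _ = z * (z * d) * d' := by rw [hz d]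
      _ = (z * z) * d * d' := by simp only [mul_assoc]
      _ = d * d' := by rw [hzz, one_mul]

theorem SgnEq.conj {z c d : G} (hz : ∀ g, z * g = g * z) (hzz : z * z = 1) (g : G)
    (h : SgnEq z c d) : SgnEq z (g * c * g⁻¹) (g * d * g⁻¹) :=
  (SgnEq.mul hz hzz (SgnEq.mul hz hzz (SgnEq.refl z g) h) (SgnEq.refl z g⁻¹))

theorem SgnEq.commute {z c d x : G} (hz : ∀ g, z * g = g * z)
    (h : SgnEq z c x) (h' : SgnEq z d x) : c * d = d * c := by
  rcases h with h | h <;> rcases h' with h' | h' <;> rw [h, h']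
  · rw [← mul_assoc, ← hz, mul_assoc]
  · rw [mul_assoc, hz (x * x), mul_assoc, hz x]

end Generic

variable {F : Type*} [Field F]

theorem z_central (g : SL2 F) : negS 1 * g = g * negS 1 := by
  rw [← negS_eq, negS_eq']

variable [Fintype F]

theorem norm3 (a b : F) (h : a * a + b * b = -1) (h2 : (2 : F) ≠ 0) (Q : Sylow 2 (SL2 F))
    (hE : ∀ c : SL2 F, c ∈ Q ↔ E8 a b h c)
    (hpm : ∀ n : SL2 F, (n * X a b h * n⁻¹ = X a b h ∨ n * X a b h * n⁻¹ = negS (X a b h)) →
      (n * Y * n⁻¹ = Y ∨ n * Y * n⁻¹ = negS Y) → E8 a b h n)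
    (homX : om a b h h2 * X a b h * (om a b h h2)⁻¹ = X a b h * Y)
    (homY : om a b h h2 * Y * (om a b h h2)⁻¹ = X a b h)
    (n : SL2 F) (hn : ∀ c ∈ Q, n * c * n⁻¹ ∈ Q) : ∃ k : ℕ, (om a b h h2 ^ k)⁻¹ * n ∈ Q := by
  classical
  obtain ⟨z, hzdef⟩ : ∃ z : SL2 F, z = negS 1 := ⟨_, rfl⟩
  obtain ⟨x, hx⟩ : ∃ x : SL2 F, x = X a b h := ⟨_, rfl⟩
  obtain ⟨y, hy⟩ : ∃ y : SL2 F, y = Y := ⟨_, rfl⟩
  obtain ⟨w, hw⟩ : ∃ w : SL2 F, w = om a b h h2 := ⟨_, rfl⟩
  have hz : ∀ g, z * g = g * z := by rw [hzdef]; exact z_central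
  have hzz : z * z = 1 := by rw [hzdef]; exact negS_mul_negS
  have hz1 : z ≠ 1 := by rw [hzdef]; exact negS_one_ne_one h2
  have hxx : x * x = z := by rw [hx, hzdef]; exact X_mul_X a b h
  have hyy : y * y = z := by rw [hy, hzdef]; exact Y_mul_Y
  have hyx : y * x = z * (x * y) := by rw [hx, hy, hzdef, Y_mul_X, negS_eq]
  have hxy_ne : x * y ≠ y * x := by rw [hx, hy]; exact X_mul_Y_ne a b h h2
  have hE' : ∀ c, c ∈ Q ↔ (c = 1 ∨ c = z ∨ c = x ∨ c = z * x ∨ c = y ∨ c = z * y ∨ c = x * y ∨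
      c = z * (x * y)) := by
    intro c
    rw [hE c, hzdef, hx, hy]
    unfold E8
    rw [negS_eq (X a b h), negS_eq Y, negS_eq (X a b h * Y)]
  have hpm' : ∀ m, SgnEq z (m * x * m⁻¹) x → SgnEq z (m * y * m⁻¹) y → m ∈ Q := by
    intro m h1 h2'
    rw [hE]
    apply hpm
    · rcases h1 with h1 | h1
      · left; rw [← hx]; exact h1
      · right; rw [← hx, h1, hzdef, ← negS_eq]
    · rcases h2' with h1 | h1
      · left; rw [← hy]; exact h1
      · right; rw [← hy, h1, hzdef, ← negS_eq]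
  rw [← hx, ← hw] at homX
  rw [← hx, ← hy, ← hw] at homY
  rw [← hy] at homX
  rw [← hw]
  clear hE hpm
  -- basic memberships
  have hxQ : x ∈ Q := (hE' x).2 (by tauto)
  have hyQ : y ∈ Q := (hE' y).2 (by tauto)
  have hzQ : z ∈ Q := (hE' z).2 (by tauto)
  -- squares
  have hsq : ∀ c, c ∈ Q → c * c = z → SgnEq z c x ∨ SgnEq z c y ∨ SgnEq z c (x * y) := by
    intro c hc hcc
    rcases (hE' c).1 hc with rfl | rfl | rfl | rfl | rfl | rfl | rfl | rfl
    · exfalso; rw [one_mul] at hcc; exact hz1 hcc.symm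
    · exfalso; rw [hzz] at hcc; exact hz1 hcc.symm
    · exact Or.inl (Or.inl rfl)
    · exact Or.inl (Or.inr rfl)
    · exact Or.inr (Or.inl (Or.inl rfl))
    · exact Or.inr (Or.inl (Or.inr rfl))
    · exact Or.inr (Or.inr (Or.inl rfl))
    · exact Or.inr (Or.inr (Or.inr rfl))
  have hconj_z : ∀ g : SL2 F, g * z * g⁻¹ = z := by
    intro g; rw [← hz, mul_assoc, mul_inv_cancel, mul_one]
  have hconj_sq : ∀ g c : SL2 F, c * c = z → (g * c * g⁻¹) * (g * c * g⁻¹) = z := by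
    intro g c hc
    have e : (g * c * g⁻¹) * (g * c * g⁻¹) = g * (c * c) * g⁻¹ := by group
    rw [e, hc, hconj_z]
  -- the action of w
  have hwxy : w * (x * y) * w⁻¹ = y := by
    have e : w * (x * y) * w⁻¹ = (w * x * w⁻¹) * (w * y * w⁻¹) := by group
    rw [e, homX, homY, mul_assoc, hyx, ← mul_assoc, ← hz, mul_assoc, ← mul_assoc x, hxx, ← mul_assoc,
      hzz, one_mul]
  have hwN : w ∈ Subgroup.normalizer ((Q : Subgroup (SL2 F)) : Set (SL2 F)) := by
    apply Subgroup.mem_normalizer_fintype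
    have hmul : ∀ c d : SL2 F, w * c * w⁻¹ ∈ Q → w * d * w⁻¹ ∈ Q → w * (c * d) * w⁻¹ ∈ Q := by
      intro c d hc hd
      have e : w * (c * d) * w⁻¹ = (w * c * w⁻¹) * (w * d * w⁻¹) := by group
      rw [e]; exact mul_mem hc hd
    have hcz : w * z * w⁻¹ ∈ Q := by rw [hconj_z]; exact hzQ
    have hcx : w * x * w⁻¹ ∈ Q := by rw [homX]; exact mul_mem hxQ hyQ
    have hcy : w * y * w⁻¹ ∈ Q := by rw [homY]; exact hxQ
    intro c hc
    rcases (hE' c).1 hc with rfl | rfl | rfl | rfl | rfl | rfl | rfl | rfl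
    · simp
    · exact hcz
    · exact hcx
    · exact hmul _ _ hcz hcx
    · exact hcy
    · exact hmul _ _ hcz hcy
    · exact hmul _ _ hcx hcy
    · exact hmul _ _ hcz (hmul _ _ hcx hcy)
  have hnN : n ∈ Subgroup.normalizer ((Q : Subgroup (SL2 F)) : Set (SL2 F)) :=
    Subgroup.mem_normalizer_fintype hn
  -- the finishing step
  have hfin : ∀ m : SL2 F, m ∈ Subgroup.normalizer ((Q : Subgroup (SL2 F)) : Set (SL2 F)) →
      SgnEq z (m * x * m⁻¹) x → m ∈ Q := by
    intro m hmN hmx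
    have hmyQ : m * y * m⁻¹ ∈ Q := (Subgroup.mem_set_normalizer_iff.mp hmN y).mp hyQ
    rcases hsq _ hmyQ (hconj_sq m y hyy) with h1 | h1 | h1
    · exfalso
      have hc := SgnEq.commute hz hmx h1
      apply hxy_ne
      have e1 : m * (x * y) * m⁻¹ = (m * x * m⁻¹) * (m * y * m⁻¹) := by group
      have e2 : m * (y * x) * m⁻¹ = (m * y * m⁻¹) * (m * x * m⁻¹) := by group
      have : m * (x * y) * m⁻¹ = m * (y * x) * m⁻¹ := by rw [e1, e2]; exact hc
      exact mul_left_cancel (mul_right_cancel this)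
    · exact hpm' m hmx h1
    · have hm2 : m * m ∈ Q := by
        apply hpm'
        · have e : m * m * x * (m * m)⁻¹ = m * (m * x * m⁻¹) * m⁻¹ := by group
          rw [e]
          exact (SgnEq.conj hz hzz m hmx).trans hzz hmx
        · have e : m * m * y * (m * m)⁻¹ = m * (m * y * m⁻¹) * m⁻¹ := by group
          rw [e]
          have h3 : SgnEq z (m * (m * y * m⁻¹) * m⁻¹) (m * (x * y) * m⁻¹) := SgnEq.conj hz hzz m h1
          have e2 : m * (x * y) * m⁻¹ = (m * x * m⁻¹) * (m * y * m⁻¹) := by group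
          have h4 : SgnEq z ((m * x * m⁻¹) * (m * y * m⁻¹)) (x * (x * y)) := SgnEq.mul hz hzz hmx h1
          have h5 : SgnEq z (x * (x * y)) y := Or.inr (by rw [← mul_assoc, hxx])
          rw [e2] at h3
          exact (h3.trans hzz h4).trans hzz h5
      obtain ⟨k, hk⟩ := Q.isPGroup' ⟨m * m, hm2⟩
      have hk' : (m * m) ^ 2 ^ k = 1 := by
        have := congrArg Subtype.val hk
        simpa using this
      have hmpow : m ^ 2 ^ (k + 1) = 1 := by
        rw [pow_succ, pow_mul', ← hk', pow_two]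
      have hzp : IsPGroup 2 (Subgroup.zpowers m) := by
        rintro ⟨g, hg⟩
        obtain ⟨i, rfl⟩ := Subgroup.mem_zpowers_iff.mp hg
        refine ⟨k + 1, Subtype.ext ?_⟩
        show (m ^ i) ^ 2 ^ (k + 1) = 1
        rw [← zpow_natCast, ← _root_.zpow_mul, mul_comm, _root_.zpow_mul, zpow_natCast, hmpow, _root_.one_zpow]
      have hle : Subgroup.zpowers m ≤ Subgroup.normalizer ((Q : Subgroup (SL2 F)) : Set (SL2 F)) := by
        rw [Subgroup.zpowers_le]; exact hmN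
      have hsup := Q.is_maximal' (IsPGroup.to_sup_of_normal_left' Q.isPGroup' hzp hle) le_sup_left
      have : m ∈ (Q : Subgroup (SL2 F)) ⊔ Subgroup.zpowers m :=
        (le_sup_right : Subgroup.zpowers m ≤ _) (Subgroup.mem_zpowers m)
      rw [hsup] at this
      exact this
  -- main case distinction
  have hnx := hsq _ (hn x hxQ) (hconj_sq n x hxx)
  have hkey : ∀ (g d : SL2 F), g ∈ Subgroup.normalizer ((Q : Subgroup (SL2 F)) : Set (SL2 F)) →
      g * x * g⁻¹ = d → SgnEq z (n * x * n⁻¹) d → g⁻¹ * n ∈ Q := by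
    intro g d hg hgd hnd
    apply hfin
    · exact mul_mem (inv_mem hg) hnN
    · have e : g⁻¹ * n * x * (g⁻¹ * n)⁻¹ = g⁻¹ * (n * x * n⁻¹) * g⁻¹⁻¹ := by group
      have e2 : g⁻¹ * d * g⁻¹⁻¹ = x := by rw [← hgd]; group
      have h3 := SgnEq.conj hz hzz g⁻¹ hnd
      rw [e2] at h3
      rw [e]
      exact h3
  rcases hnx with h1 | h1 | h1
  · refine ⟨0, ?_⟩
    rw [pow_zero]
    exact hkey 1 x (one_mem _) (by group) h1
  · refine ⟨2, ?_⟩
    refine hkey (w ^ 2) y (pow_mem hwN 2) ?_ h1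
    have e : w ^ 2 * x * (w ^ 2)⁻¹ = w * (w * x * w⁻¹) * w⁻¹ := by rw [pow_two]; group
    rw [e, homX, hwxy]
  · refine ⟨1, ?_⟩
    rw [pow_one]
    exact hkey w (x * y) hwN homX h1

end Cfsg.Agent.Lib.Helper73_S5320_SLN3
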