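import Mathlib
import Cfsg.Agent.Lib.Helper76_S5320Defs
import Cfsg.Agent.Lib.Helper76_S5320Bas
import Cfsg.Agent.Lib.Helper5_SpOrder
import Cfsg.Agent.Lib.Helper5_PSLCard

/-!
# S5320 package SYL (architect helper76): `St Q` is a Sylow 2-subgroup of `Sp₄(q)`, `q` odd  (helper73)
-/

set_option autoImplicit false

namespace Cfsg.Agent.Lib.Helper73_S5320_SYL

open Matrix Cfsg.Agent.Lib.Helper42_SL2Class Cfsg.Agent.Lib.Helper76_S5320Defs
  Cfsg.Agent.Lib.Helper76_S5320Bas

variable {F : Type*} [Field F]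

/-- `|St Q| = 2 |Q|²` -/
theorem card_St (Q : Subgroup (SL2 F)) : Nat.card (St Q) = Nat.card Q ^ 2 * 2 := by
  have htau : (tau : Sp4 F) ∈ St Q := tau_mem_St Q
  let f : (↥Q × ↥Q) × Bool → ↥(St Q) := fun x =>
    ⟨blk ((x.1.1 : SL2 F), (x.1.2 : SL2 F)) * (if x.2 then tau else 1), by
      have h1 : blk ((x.1.1 : SL2 F), (x.1.2 : SL2 F)) ∈ St Q :=
        (blk_mem_St_iff Q _ _).2 ⟨x.1.1.2, x.1.2.2⟩
      split_ifs
      · exact (St Q).mul_mem h1 htau
      · rw [mul_one]; exact h1⟩
  have hbij : Function.Bijective f := by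
    constructor
    · rintro ⟨⟨c, d⟩, e⟩ ⟨⟨c', d'⟩, e'⟩ h
      have h' : blk ((c : SL2 F), (d : SL2 F)) * (if e then tau else 1) =
          blk ((c' : SL2 F), (d' : SL2 F)) * (if e' then tau else 1) := congrArg Subtype.val h
      cases e <;> cases e'
      · simp only [Bool.false_eq_true, if_false, mul_one] at h'
        have := blk_injective h'
        simp only [Prod.mk.injEq] at this
        rw [Prod.mk.injEq, Prod.mk.injEq]
        exact ⟨⟨Subtype.ext this.1, Subtype.ext this.2⟩, rfl⟩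
      · simp only [Bool.false_eq_true, if_false, mul_one, if_true] at h'
        exact absurd h' (blk_ne_blk_mul_tau _ _)
      · simp only [Bool.false_eq_true, if_false, mul_one, if_true] at h'
        exact absurd h'.symm (blk_ne_blk_mul_tau _ _)
      · simp only [if_true] at h'
        have := blk_injective (mul_right_cancel h')
        simp only [Prod.mk.injEq] at this
        rw [Prod.mk.injEq, Prod.mk.injEq]
        exact ⟨⟨Subtype.ext this.1, Subtype.ext this.2⟩, rfl⟩
    · rintro ⟨g, hg⟩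
      obtain ⟨c, hc, d, hd, h | h⟩ := (mem_St_iff Q g).mp hg
      · refine ⟨((⟨c, hc⟩, ⟨d, hd⟩), false), Subtype.ext ?_⟩
        show blk (c, d) * (if false = true then tau else 1) = g
        simp [h]
      · refine ⟨((⟨c, hc⟩, ⟨d, hd⟩), true), Subtype.ext ?_⟩
        show blk (c, d) * (if true = true then tau else 1) = g
        simp [h]
  rw [← Nat.card_eq_of_bijective f hbij, Nat.card_prod, Nat.card_prod, Nat.card_eq_fintype_card (α := Bool),
    Fintype.card_bool, sq]

/-- for odd `q`: `v₂(q² + 1) = 1` -/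
theorem factorization_sq_add_one {q : ℕ} (hodd : q % 2 = 1) : (q ^ 2 + 1).factorization 2 = 1 := by
  obtain ⟨k, hk⟩ : ∃ k, q = 2 * k + 1 := ⟨q / 2, by omega⟩
  have h1 : q ^ 2 + 1 = 2 * (2 * (k * k + k) + 1) := by rw [hk]; ring
  rw [h1, Nat.factorization_mul (by norm_num) (by omega), Finsupp.add_apply,
    Nat.Prime.factorization_self Nat.prime_two,
    Nat.factorization_eq_zero_of_not_dvd (by omega)]

variable [Fintype F]

theorem syl (hodd : Fintype.card F % 2 = 1) (Q : Sylow 2 (SL2 F)) :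
    ∃ P : Sylow 2 (Sp4 F), (P : Subgroup (Sp4 F)) = St (Q : Subgroup (SL2 F)) := by
  classical
  set q := Fintype.card F with hq
  have hq1 : 1 < q := Fintype.one_lt_card
  have hq3 : 3 ≤ q := by omega
  have hcQ : Nat.card (Q : Subgroup (SL2 F)) = 2 ^ (Nat.card (SL2 F)).factorization 2 :=
    Q.card_eq_multiplicity
  have hSL : Nat.card (SL2 F) = q * (q ^ 2 - 1) := Cfsg.Agent.Lib.Helper5_PSLCard.card_SL_two
  have hSp : Nat.card (Sp4 F) = q ^ 4 * ((q ^ 2 - 1) * (q ^ 4 - 1)) := by
    have := Cfsg.Agent.Lib.Helper5_SpOrder.card_sp (F := F) (q := q) rfl 2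
    rw [this, Finset.prod_range_succ, Finset.prod_range_one]
    norm_num
  have hq2 : 1 ≤ q ^ 2 := Nat.one_le_pow _ _ (by omega)
  have hq2' : 2 ≤ q ^ 2 := by nlinarith
  have hne1 : q ^ 2 - 1 ≠ 0 := by omega
  have h4 : q ^ 4 - 1 = (q ^ 2 - 1) * (q ^ 2 + 1) := by
    obtain ⟨r, hr⟩ : ∃ r, q ^ 2 = r + 1 := ⟨q ^ 2 - 1, by omega⟩
    have : q ^ 4 = (q ^ 2) ^ 2 := by ring
    rw [this, hr, Nat.add_sub_cancel]
    have : (r + 1) ^ 2 = r * (r + 1 + 1) + 1 := by ring
    rw [this, Nat.add_sub_cancel]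
  have hqodd : ¬ 2 ∣ q := by omega
  have hfq : q.factorization 2 = 0 := Nat.factorization_eq_zero_of_not_dvd hqodd
  have hfq4 : (q ^ 4).factorization 2 = 0 := by
    rw [Nat.factorization_pow, Finsupp.smul_apply, hfq, smul_zero]
  set v := (q ^ 2 - 1).factorization 2 with hv
  have hfSL : (Nat.card (SL2 F)).factorization 2 = v := by
    rw [hSL, Nat.factorization_mul (by omega) hne1, Finsupp.add_apply, hfq, zero_add]
  have hfSp : (Nat.card (Sp4 F)).factorization 2 = 2 * v + 1 := by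
    rw [hSp, h4, Nat.factorization_mul (by positivity) (by positivity), Finsupp.add_apply, hfq4, zero_add,
      Nat.factorization_mul hne1 (by positivity), Finsupp.add_apply,
      Nat.factorization_mul hne1 (by positivity), Finsupp.add_apply,
      factorization_sq_add_one hodd]
    ring
  have hcard : Nat.card (St (Q : Subgroup (SL2 F))) = 2 ^ (Nat.card (Sp4 F)).factorization 2 := by
    rw [card_St, hcQ, hfSL, hfSp]
    ring
  exact ⟨Sylow.ofCard (St (Q : Subgroup (SL2 F))) hcard, Sylow.coe_ofCard _ _⟩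

end Cfsg.Agent.Lib.Helper73_S5320_SYL
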