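import Mathlib
import Cfsg.Agent.Lib.Helper66_S96Rank
import Cfsg.Agent.Lib.Helper81_UceA

set_option autoImplicit false
set_option linter.unusedVariables false

/-!
helper73 — package D_L1_TORUS of helper66's market `s96_packages` (S2097, wave 3): (L1) for two
orthogonal roots with disjoint supports.  The commutator `κ(t)` of lifts of `XS a c t` and `XS d e u`
is central, additive in `t`, and invariant under `t ↦ s² t` (conjugate by a lift of the torus element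
`HD XS a c s`, which centralises `XS d e u`), hence trivial when `s² ≠ 1`.
-/

namespace Cfsg.Agent.Lib.Helper66_S96

open Cfsg.Agent.Lib.Helper5_SteinbergA Cfsg.Agent.Lib.Helper66_S92 Cfsg.Agent.Lib.Helper81_UceA

/-! ## D_L1_TORUS : (L1) for disjoint supports from a torus element, `s² ≠ 1` -/

theorem lift_comm_of_torus {K : Type*} [Field K] {ι : Type*} [DecidableEq ι]
    {E S : Type*} [Group E] [Group S] {π : E →* S} (hπ : CExt π)
    {XS : ι ⊕ ι → ι ⊕ ι → K → S} (h : DStAB XS) (C : WCalcD XS) (s : K) (hs : s ≠ 0)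
    (hs2 : s * s ≠ 1) (a c d e : ι ⊕ ι) (h1 : c ≠ a) (h2 : c ≠ ng a) (h3 : d ≠ a) (h4 : d ≠ ng a)
    (h5 : d ≠ c) (h6 : d ≠ ng c) (h7 : e ≠ a) (h8 : e ≠ ng a) (h9 : e ≠ c) (h10 : e ≠ ng c)
    (x y : E) (t u : K) (hx : π x = XS a c t) (hy : π y = XS d e u) : x * y = y * x := by
  classical
  choose f hf using fun t : K => hπ.surj (XS a c t)
  obtain ⟨n, hn⟩ := hπ.surj (HD XS a c s)
  have hcomm : ∀ t, XS a c t * XS d e u = XS d e u * XS a c t :=
    fun t => h.comm a c d e t u h4 h6 h8 h10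
  have hker : ∀ t, π (f t * y * (f t)⁻¹ * y⁻¹) = 1 := by
    intro t
    rw [map_mul, map_mul, map_mul, map_inv, map_inv, hf, hy, hcomm t]
    group
  have hcen : ∀ t (g : E), (f t * y * (f t)⁻¹ * y⁻¹) * g = g * (f t * y * (f t)⁻¹ * y⁻¹) :=
    fun t g => hπ.comm_of_ker (hker t) g
  have hadd : ∀ t t', (f (t + t') * y * (f (t + t'))⁻¹ * y⁻¹) =
      (f t * y * (f t)⁻¹ * y⁻¹) * (f t' * y * (f t')⁻¹ * y⁻¹) := by
    intro t t'
    have e1 : f (t + t') * y * (f (t + t'))⁻¹ * y⁻¹ = (f t * f t') * y * (f t * f t')⁻¹ * y⁻¹ := by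
      apply hπ.commutator_eq
      · rw [hf, map_mul, hf, hf, h.add]
      · rfl
    rw [e1]
    calc f t * f t' * y * (f t * f t')⁻¹ * y⁻¹
        = f t * (f t' * y * (f t')⁻¹ * y⁻¹) * (y * (f t)⁻¹ * y⁻¹) := by group
      _ = (f t' * y * (f t')⁻¹ * y⁻¹) * f t * (y * (f t)⁻¹ * y⁻¹) := by rw [hcen t' (f t)]
      _ = (f t' * y * (f t')⁻¹ * y⁻¹) * (f t * y * (f t)⁻¹ * y⁻¹) := by group
      _ = (f t * y * (f t)⁻¹ * y⁻¹) * (f t' * y * (f t')⁻¹ * y⁻¹) := hcen t' _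
  have hcha : chD a c s a = s := by
    unfold chD
    rw [if_pos (Or.inl rfl)]
  have hchc : chD a c s c = s := by
    unfold chD
    rw [if_pos (Or.inr rfl)]
  have hchd : chD a c s d = 1 := by
    unfold chD
    rw [if_neg (by rintro (h' | h') <;> [exact h3 h'; exact h5 h']),
      if_neg (by rintro (h' | h') <;> [exact h4 h'; exact h6 h'])]
  have hche : chD a c s e = 1 := by
    unfold chD
    rw [if_neg (by rintro (h' | h') <;> [exact h7 h'; exact h9 h']),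
      if_neg (by rintro (h' | h') <;> [exact h8 h'; exact h10 h'])]
  have hscale : ∀ t, (f (s * s * t) * y * (f (s * s * t))⁻¹ * y⁻¹) = (f t * y * (f t)⁻¹ * y⁻¹) := by
    intro t
    have e1 : n * (f t * y * (f t)⁻¹ * y⁻¹) * n⁻¹ = f t * y * (f t)⁻¹ * y⁻¹ := by
      rw [← hcen t n]
      group
    have e2 : n * (f t * y * (f t)⁻¹ * y⁻¹) * n⁻¹ =
        (n * f t * n⁻¹) * (n * y * n⁻¹) * (n * f t * n⁻¹)⁻¹ * (n * y * n⁻¹)⁻¹ := by group
    have e3 : (n * f t * n⁻¹) * (n * y * n⁻¹) * (n * f t * n⁻¹)⁻¹ * (n * y * n⁻¹)⁻¹ =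
        f (s * s * t) * y * (f (s * s * t))⁻¹ * y⁻¹ := by
      apply hπ.commutator_eq
      · rw [map_mul, map_mul, map_inv, hn, hf, hf, C.hd_conj a c h1 h2 s hs a c t, hcha, hchc]
      · rw [map_mul, map_mul, map_inv, hn, hy, C.hd_conj a c h1 h2 s hs d e u, hchd, hche,
          one_mul, one_mul]
    rw [← e3, ← e2, e1]
  have hone : f t * y * (f t)⁻¹ * y⁻¹ = 1 :=
    eq_one_of_add_of_scale (fun t => f t * y * (f t)⁻¹ * y⁻¹) hadd hs2 hscale t
  have hxy : x * y * x⁻¹ * y⁻¹ = f t * y * (f t)⁻¹ * y⁻¹ := by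
    apply hπ.commutator_eq
    · rw [hx, hf]
    · rfl
  rw [hone] at hxy
  calc x * y = (x * y * x⁻¹ * y⁻¹) * (y * x) := by group
    _ = y * x := by rw [hxy, one_mul]

end Cfsg.Agent.Lib.Helper66_S96
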