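import Mathlib
import Cfsg.Prelude.Def_LinearParabolics
import Cfsg.Agent.Lib.Helper99_StGLDefs

set_option autoImplicit false
open scoped MatrixGroups
open Polynomial

namespace Cfsg.Agent.Lib.Helper73_StGL_A2a
open Cfsg.Agent.Lib.Helper99_StGLDefs

variable {F : Type*} [Field F]

/-- comparison of block labels through the partial sums of the composition -/
theorem compLabel_lt_iff {n : ℕ} (μ : Fin n → ℕ) (l i : Fin n) :
    Cfsg.compLabel μ l < Cfsg.compLabel μ i ↔
      ∃ j : Fin n, l.val < (∑ k ∈ Finset.univ.filter (fun k : Fin n => k ≤ j), μ k) ∧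
        (∑ k ∈ Finset.univ.filter (fun k : Fin n => k ≤ j), μ k) ≤ i.val := by
  unfold Cfsg.compLabel
  constructor
  · intro hlt
    by_contra hcon
    push Not at hcon
    have hsub : (Finset.univ.filter fun j : Fin n =>
        (∑ k ∈ Finset.univ.filter (fun k : Fin n => k ≤ j), μ k) ≤ i.val) ⊆
        (Finset.univ.filter fun j : Fin n =>
          (∑ k ∈ Finset.univ.filter (fun k : Fin n => k ≤ j), μ k) ≤ l.val) := by
      intro j hj
      rw [Finset.mem_filter] at hj ⊢
      refine ⟨hj.1, ?_⟩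
      by_contra h
      push Not at h
      have := hcon j h
      omega
    have := Finset.card_le_card hsub
    omega
  · rintro ⟨j, hj1, hj2⟩
    apply Finset.card_lt_card
    rw [Finset.ssubset_iff_of_subset]
    · refine ⟨j, ?_, ?_⟩
      · rw [Finset.mem_filter]
        exact ⟨Finset.mem_univ _, hj2⟩
      · rw [Finset.mem_filter]
        intro h
        have := h.2
        omega
    · intro k hk
      rw [Finset.mem_filter] at hk ⊢
      refine ⟨hk.1, ?_⟩
      have := hk.2
      omega

/-- the last block end `≤ m`, plus one (`0` if there is none) -/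
def B (n : ℕ) (J : Finset ℕ) (m : ℕ) : ℕ :=
  ((Finset.range (m + 1)).filter (fun e => e ∈ J ∨ e + 1 = n)).sup (· + 1)

/-- `muJ` as a function on `ℕ` -/
def mu' (n : ℕ) (J : Finset ℕ) (k : ℕ) : ℕ :=
  if k ∈ J ∨ k + 1 = n then
    k + 1 - ((Finset.range k).filter (fun j => j ∈ J)).sup (fun j => j + 1)
  else 0

theorem muJ_eq (n : ℕ) (J : Finset ℕ) (i : Fin n) : muJ n J i = mu' n J i.val := rfl

theorem B_le (n : ℕ) (J : Finset ℕ) (m : ℕ) : B n J m ≤ m + 1 := by
  unfold B
  apply Finset.sup_le
  intro e he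
  rw [Finset.mem_filter, Finset.mem_range] at he
  omega

theorem prev_eq (n : ℕ) (J : Finset ℕ) (m : ℕ) (hm : m + 1 < n) :
    ((Finset.range (m + 1)).filter (fun j => j ∈ J)).sup (fun j => j + 1) = B n J m := by
  unfold B
  congr 1
  ext e
  simp only [Finset.mem_filter, Finset.mem_range]
  constructor
  · rintro ⟨h1, h2⟩
    exact ⟨h1, Or.inl h2⟩
  · rintro ⟨h1, h2 | h2⟩
    · exact ⟨h1, h2⟩
    · omega

theorem B_succ (n : ℕ) (J : Finset ℕ) (m : ℕ) :
    B n J (m + 1) = if (m + 1 ∈ J ∨ m + 1 + 1 = n) then max (m + 2) (B n J m) else B n J m := by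
  unfold B
  rw [Finset.range_add_one (n := m + 1), Finset.filter_insert]
  split_ifs with h
  · rw [Finset.sup_insert]
  · rfl

theorem sum_mu' (n : ℕ) (J : Finset ℕ) :
    ∀ m, m < n → ∑ k ∈ Finset.range (m + 1), mu' n J k = B n J m := by
  intro m
  induction m with
  | zero =>
    intro h0
    unfold mu' B
    by_cases h : (0 ∈ J ∨ 0 + 1 = n)
    · simp [h, Finset.filter_singleton]
    · simp [h, Finset.filter_singleton]
  | succ m ih =>
    intro hm
    rw [Finset.sum_range_succ, ih (by omega), B_succ]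
    unfold mu'
    split_ifs with h
    · rw [prev_eq n J m hm]
      have := B_le n J m
      omega
    · rfl

theorem psum_muJ (n : ℕ) (J : Finset ℕ) (j : Fin n) :
    ∑ k ∈ Finset.univ.filter (fun k : Fin n => k ≤ j), muJ n J k = B n J j.val := by
  rw [← sum_mu' n J j.val j.isLt, Finset.sum_filter]
  have h1 := Fin.sum_univ_eq_sum_range (fun k => if k ≤ j.val then mu' n J k else 0) n
  calc ∑ k : Fin n, (if k ≤ j then muJ n J k else 0)
      = ∑ k : Fin n, (fun k => if k ≤ j.val then mu' n J k else 0) k.val := by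
        apply Finset.sum_congr rfl
        intro k _
        simp only [Fin.le_def, muJ_eq]
    _ = ∑ k ∈ Finset.range n, if k ≤ j.val then mu' n J k else 0 := h1
    _ = ∑ k ∈ (Finset.range n).filter (· ≤ j.val), mu' n J k := (Finset.sum_filter _ _).symm
    _ = _ := by
        congr 1
        ext k
        simp only [Finset.mem_filter, Finset.mem_range]
        have := j.isLt
        omega

theorem exists_B_iff (n : ℕ) (J : Finset ℕ) (l i : ℕ) (hi : i < n) :
    (∃ j : Fin n, l < B n J j.val ∧ B n J j.val ≤ i) ↔ ∃ e ∈ J, l ≤ e ∧ e < i := by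
  constructor
  · rintro ⟨j, h1, h2⟩
    have hne : ((Finset.range (j.val + 1)).filter (fun e => e ∈ J ∨ e + 1 = n)).Nonempty := by
      by_contra hcon
      rw [Finset.not_nonempty_iff_eq_empty] at hcon
      unfold B at h1
      rw [hcon, Finset.sup_empty] at h1
      exact absurd h1 (Nat.not_lt_zero _)
    obtain ⟨e, he, hBe⟩ := Finset.exists_mem_eq_sup _ hne (· + 1)
    rw [Finset.mem_filter, Finset.mem_range] at he
    have hB : B n J j.val = e + 1 := hBe
    rcases he.2 with hJ' | hn
    · exact ⟨e, hJ', by omega, by omega⟩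
    · omega
  · rintro ⟨e, heJ, h1, h2⟩
    refine ⟨⟨e, by omega⟩, ?_⟩
    have hB : B n J e = e + 1 := by
      apply le_antisymm (B_le n J e)
      unfold B
      exact Finset.le_sup (f := (· + 1))
        (by rw [Finset.mem_filter, Finset.mem_range]; exact ⟨by omega, Or.inl heJ⟩)
    simp only
    rw [hB]
    omega

/-- comparison of the block labels of `muJ n J` -/
theorem compLabel_muJ_lt_iff (n : ℕ) (J : Finset ℕ) (l i : Fin n) :
    Cfsg.compLabel (muJ n J) l < Cfsg.compLabel (muJ n J) i ↔ ∃ e ∈ J, l.val ≤ e ∧ e < i.val := by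
  rw [compLabel_lt_iff, ← exists_B_iff n J l.val i.val i.isLt]
  simp only [psum_muJ]

/-- a block triangular matrix maps the standard flag into itself -/
theorem map_le (n : ℕ) (J : Finset ℕ) (h : GL (Fin n) F)
    (hh : h ∈ Cfsg.parabolicGL n F (muJ n J)) (j : ℕ) (hj : j ∈ J)
    (v : Fin n → F) (hv : v ∈ stdSub n F (j + 1)) : linOf h v ∈ stdSub n F (j + 1) := by
  intro i hi
  show (Matrix.toLin' (h : Matrix (Fin n) (Fin n) F) v) i = 0
  rw [Matrix.toLin'_apply, Matrix.mulVec, dotProduct]
  apply Finset.sum_eq_zero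
  intro l _
  by_cases hl : j + 1 ≤ l.val
  · rw [hv l hl, mul_zero]
  · have hlt : Cfsg.compLabel (muJ n J) l < Cfsg.compLabel (muJ n J) i := by
      rw [compLabel_muJ_lt_iff]
      exact ⟨j, hj, by omega, by omega⟩
    have : (h : Matrix (Fin n) (Fin n) F) i l = 0 := hh hlt
    rw [this, zero_mul]

theorem linOf_mul_inv (n : ℕ) (h : GL (Fin n) F) (w : Fin n → F) :
    linOf h (linOf h⁻¹ w) = w := by
  show Matrix.toLin' (h : Matrix (Fin n) (Fin n) F)
    (Matrix.toLin' ((h⁻¹ : GL (Fin n) F) : Matrix (Fin n) (Fin n) F) w) = w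
  rw [← LinearMap.comp_apply, ← Matrix.toLin'_mul, ← Units.val_mul, mul_inv_cancel, Units.val_one,
    Matrix.toLin'_one, LinearMap.id_apply]

/-- **PKG A2a**.  The parabolic of `muJ n J` is the stabilizer of the standard flag. -/
theorem A2a (n : ℕ) (J : Finset ℕ) (hJ : J ⊆ Finset.range (n - 1)) (h : GL (Fin n) F) :
    h ∈ Cfsg.parabolicGL n F (muJ n J) ↔
      ∀ j ∈ J, (stdSub n F (j + 1)).map (linOf h) = stdSub n F (j + 1) := by
  have _ := hJ
  constructor
  · intro hh j hj
    ext w
    rw [Submodule.mem_map]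
    constructor
    · rintro ⟨v, hv, rfl⟩
      exact map_le n J h hh j hj v hv
    · intro hw
      refine ⟨linOf h⁻¹ w, ?_, linOf_mul_inv n h w⟩
      exact map_le n J h⁻¹ (Subgroup.inv_mem _ hh) j hj w hw
  · intro hmap
    show (h : Matrix (Fin n) (Fin n) F).BlockTriangular (Cfsg.compLabel (muJ n J))
    intro i l hlt
    rw [compLabel_muJ_lt_iff] at hlt
    obtain ⟨e, heJ, h1, h2⟩ := hlt
    have hmem : (Pi.single l (1 : F) : Fin n → F) ∈ stdSub n F (e + 1) := by
      intro k hk
      rw [Pi.single_apply, if_neg]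
      intro hkl
      rw [hkl] at hk
      omega
    have h3 : linOf h (Pi.single l 1) ∈ stdSub n F (e + 1) := by
      rw [← hmap e heJ]
      exact Submodule.mem_map_of_mem hmem
    have h4 := h3 i (by omega)
    have h5 : linOf h (Pi.single l 1) i = (h : Matrix (Fin n) (Fin n) F) i l := by
      show (Matrix.toLin' (h : Matrix (Fin n) (Fin n) F) (Pi.single l 1)) i = _
      rw [Matrix.toLin'_apply, Matrix.mulVec_single_one]
      rfl
    rw [← h5]
    exact h4

end Cfsg.Agent.Lib.Helper73_StGL_A2a
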