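import Mathlib
import Cfsg.Prelude.Def_LinearParabolics
import Cfsg.Agent.Lib.Helper99_StGLDefs

set_option autoImplicit false
open scoped MatrixGroups
open Polynomial

namespace Cfsg.Agent.Lib.Helper73_StGL_A3
open Cfsg.Agent.Lib.Helper99_StGLDefs

variable {F : Type*} [Field F] {V : Type*} [AddCommGroup V] [Module F V]

/-- on a chain of subspaces of a finite dimensional space `finrank` is injective -/
theorem finrank_injOn_of_isChain [FiniteDimensional F V] (C : Finset (Submodule F V))
    (hC : IsChain (· ≤ ·) (C : Set (Submodule F V))) :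
    Set.InjOn (fun W : Submodule F V => Module.finrank F ↥W) (C : Set (Submodule F V)) := by
  intro W hW W' hW' hWW'
  by_contra hne
  rcases hC hW hW' hne with h | h
  · have := Submodule.finrank_lt_finrank_of_lt (lt_of_le_of_ne h hne)
    simp only at hWW'
    omega
  · have := Submodule.finrank_lt_finrank_of_lt (lt_of_le_of_ne h (Ne.symm hne))
    simp only at hWW'
    omega

/-- **PKG A3**. -/
theorem A3 [Fintype F] (n : ℕ) (T : Module.End F (Fin n → F)) :
    (∑ J ∈ (Finset.range (n - 1)).powerset, (-1 : ℤ) ^ J.card *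
      (Nat.card {C : Finset (Submodule F (Fin n → F)) //
        IsMidChain T ⊤ C ∧
          C.image (fun W : Submodule F (Fin n → F) => Module.finrank F ↥W) = J.image (· + 1)} : ℤ))
      = chi T ⊤ := by
  classical
  have : Fintype (Submodule F (Fin n → F)) := Fintype.ofFinite _
  rw [chi_eq]
  set S := (Finset.univ : Finset (Finset (Submodule F (Fin n → F)))).filter
    (fun C => IsMidChain T ⊤ C) with hS
  set fr : Submodule F (Fin n → F) → ℕ := fun W => Module.finrank F ↥W with hfr
  -- dimension bounds for members of a mid-chain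
  have hbd : ∀ C ∈ S, ∀ W ∈ C, 1 ≤ fr W ∧ fr W ≤ n - 1 := by
    intro C hC W hW
    show 1 ≤ Module.finrank F ↥W ∧ Module.finrank F ↥W ≤ n - 1
    rw [hS, Finset.mem_filter] at hC
    obtain ⟨-, hbot, htop⟩ := hC.2.1 W hW
    have h1 : 0 < Module.finrank F ↥W := by
      rw [Module.finrank_pos_iff_exists_ne_zero]
      obtain ⟨v, hv, hv0⟩ := Submodule.exists_mem_ne_zero_of_ne_bot (ne_of_gt hbot)
      exact ⟨⟨v, hv⟩, fun h => hv0 (by simpa using congrArg Subtype.val h)⟩
    have h2 : Module.finrank F ↥W < n := by
      have := Submodule.finrank_lt_finrank_of_lt htop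
      rw [finrank_top, Module.finrank_fintype_fun_eq_card, Fintype.card_fin] at this
      exact this
    exact ⟨h1, by omega⟩
  set f : Finset (Submodule F (Fin n → F)) → Finset ℕ := fun C => (C.image fr).image (· - 1) with hf
  have hmaps : ∀ C ∈ S, f C ∈ (Finset.range (n - 1)).powerset := by
    intro C hC
    rw [Finset.mem_powerset]
    intro j hj
    rw [hf, Finset.mem_image] at hj
    obtain ⟨d, hd, rfl⟩ := hj
    rw [Finset.mem_image] at hd
    obtain ⟨W, hW, rfl⟩ := hd
    have := hbd C hC W hW
    rw [Finset.mem_range]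
    omega
  rw [← Finset.sum_fiberwise_of_maps_to hmaps]
  refine Finset.sum_congr rfl (fun J hJ => ?_)
  rw [Finset.mem_powerset] at hJ
  -- the fibre
  have hiff : ∀ C ∈ S, (f C = J ↔ C.image fr = J.image (· + 1)) := by
    intro C hC
    constructor
    · intro h
      rw [← h, hf, Finset.image_image]
      conv_lhs => rw [← Finset.image_id (s := C.image fr)]
      apply Finset.image_congr
      intro d hd
      rw [Finset.mem_coe, Finset.mem_image] at hd
      obtain ⟨W, hW, rfl⟩ := hd
      have := hbd C hC W hW
      simp only [Function.comp_apply, id_eq]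
      omega
    · intro h
      rw [hf]
      simp only
      rw [h, Finset.image_image]
      ext j
      simp
  have hcard : ∀ C ∈ S, f C = J → C.card = J.card := by
    intro C hC h
    have h1 : (C.image fr).card = C.card := by
      apply Finset.card_image_of_injOn
      rw [hS, Finset.mem_filter] at hC
      exact finrank_injOn_of_isChain C hC.2.2
    have h2 : (C.image fr).card = J.card := by
      rw [(hiff C hC).mp h]
      exact Finset.card_image_of_injective _ (fun a b hab => by simpa using hab)
    omega
  have hsum : ∑ C ∈ S with f C = J, (-1 : ℤ) ^ C.card = (-1 : ℤ) ^ J.card * ((S.filter (fun C => f C = J)).card : ℤ) := by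
    rw [Finset.sum_congr rfl (fun C hC => by
      rw [Finset.mem_filter] at hC
      rw [hcard C hC.1 hC.2] : ∀ C ∈ S.filter (fun C => f C = J), (-1 : ℤ) ^ C.card = (-1 : ℤ) ^ J.card)]
    rw [Finset.sum_const, nsmul_eq_mul, mul_comm]
  rw [hsum]
  congr 2
  apply Nat.subtype_card
  intro C
  rw [Finset.mem_filter]
  constructor
  · rintro ⟨hC, h⟩
    refine ⟨?_, (hiff C hC).mp h⟩
    rw [hS, Finset.mem_filter] at hC
    exact hC.2
  · rintro ⟨hC, h⟩
    have hCS : C ∈ S := by
      rw [hS, Finset.mem_filter]
      exact ⟨Finset.mem_univ _, hC⟩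
    exact ⟨hCS, (hiff C hCS).mpr h⟩

end Cfsg.Agent.Lib.Helper73_StGL_A3
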