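import Mathlib
import Cfsg.Prelude.Def_Classical
import Cfsg.Agent.Lib.Helper83_SUChain
import Cfsg.Agent.Lib.Helper94_Herm
import Cfsg.Agent.Lib.Helper94_HermBridge
import Cfsg.Agent.Lib.Helper44_HermOrtho
import Cfsg.Agent.Lib.Helper5_GUOrder
import Cfsg.Agent.Lib.Helper5_SUCenter
import Cfsg.Agent.S0780

/-!
# S2282 package BR (helper88, for helper83): bridge from the abstract statement on the standard
hermitian space (with an arbitrary chain basis) to the matrix group `SU (2m+1) F q`.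
-/

set_option autoImplicit false
set_option linter.unusedSectionVars false
set_option linter.unusedVariables false
set_option linter.unusedSimpArgs false

namespace Cfsg.Agent.Lib.Helper88_SUBridge

open Module Matrix Cfsg.Agent.Lib.Helper94_Herm Cfsg.Agent.Lib.Helper94_HermBridge
  Cfsg.Agent.Lib.Helper83_SUChain Cfsg.Agent.Lib.Helper44_HermOrtho
  Cfsg.Agent.Lib.Helper5_GUOrder Cfsg.Agent.Lib.Helper5_SUCenter Cfsg.Agent.S0780

section antidiag

variable {K : Type*} [Field K]

/-- the antidiagonal matrix of size `N + 1` -/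
def antiJ (K : Type*) [Field K] (N : ℕ) : Matrix (Fin (N + 1)) (Fin (N + 1)) K :=
  Matrix.of fun i j => if i.val + j.val = N then 1 else 0

theorem antiJ_apply (N : ℕ) (i j : Fin (N + 1)) :
    antiJ K N i j = if i.val + j.val = N then 1 else 0 := rfl

theorem antiJ_transpose (N : ℕ) : (antiJ K N)ᵀ = antiJ K N := by
  ext i j
  rw [Matrix.transpose_apply, antiJ_apply, antiJ_apply, add_comm]

theorem antiJ_map (N : ℕ) (ρ : K →+* K) : (antiJ K N).map ρ = antiJ K N := by
  ext i j
  rw [Matrix.map_apply, antiJ_apply]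
  split_ifs <;> simp

theorem antiJ_mul_self (N : ℕ) : antiJ K N * antiJ K N = 1 := by
  ext i j
  rw [Matrix.mul_apply, Matrix.one_apply]
  have hi := i.2
  rw [Finset.sum_eq_single (⟨N - i.val, by omega⟩ : Fin (N + 1))]
  · rw [antiJ_apply, antiJ_apply, if_pos (by simp; omega)]
    by_cases hij : i = j
    · subst hij
      rw [if_pos rfl, if_pos (by simp; omega), one_mul]
    · rw [if_neg hij, if_neg, mul_zero]
      intro h
      apply hij
      apply Fin.ext
      simp at h
      omega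
  · intro k _ hk
    rw [antiJ_apply, if_neg, zero_mul]
    intro h
    apply hk
    apply Fin.ext
    simp
    omega
  · intro h
    exact absurd (Finset.mem_univ _) h

theorem antiJ_det_ne_zero (N : ℕ) : (antiJ K N).det ≠ 0 := by
  intro h
  have := congrArg Matrix.det (antiJ_mul_self (K := K) N)
  rw [Matrix.det_mul, h, zero_mul, Matrix.det_one] at this
  exact zero_ne_one this

end antidiag

section chain

variable {F : Type*} [Field F] [Fintype F]

theorem gramB_antiJ_single (N : ℕ) (ρ : F →+* F) (z : Fin (N + 1) → F) (j : Fin (N + 1)) :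
    gramB (antiJ F N) ρ z (Pi.single j 1) = z ⟨N - j.val, by omega⟩ := by
  have hj := j.2
  rw [gramB_apply']
  rw [Finset.sum_eq_single (⟨N - j.val, by omega⟩ : Fin (N + 1))]
  · rw [Finset.sum_eq_single j]
    · rw [antiJ_apply, if_pos (by simp; omega), Pi.single_eq_same, map_one, mul_one, mul_one]
    · intro k _ hk
      rw [Pi.single_eq_of_ne hk, map_zero, mul_zero]
    · intro h
      exact absurd (Finset.mem_univ _) h
  · intro i _ hi
    apply Finset.sum_eq_zero
    intro k _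
    by_cases hk : k = j
    · subst hk
      rw [antiJ_apply, if_neg, mul_zero, zero_mul]
      intro h
      apply hi
      apply Fin.ext
      simp
      omega
    · rw [Pi.single_eq_of_ne hk, map_zero, mul_zero]
  · intro h
    exact absurd (Finset.mem_univ _) h

/-- pulling back the form with Gram matrix `J` along `a` with `aᵀ J a^σ = 1` gives the
standard hermitian form -/
theorem gramB_mulVec_eq {n q : ℕ} (σ : F →+* F) (hσq : ∀ x, σ x = x ^ q)
    (J a : Matrix (Fin n) (Fin n) F) (ha : aᵀ * J * a.map σ = 1) (x y : Fin n → F) :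
    gramB J σ (a *ᵥ x) (a *ᵥ y) = Cfsg.hermForm n F q x y := by
  rw [gramB_apply]
  have h1 : (fun i => σ ((a *ᵥ y) i)) = (a.map σ) *ᵥ (fun i => σ (y i)) := by
    funext i
    simp only [Matrix.mulVec, dotProduct, map_sum, map_mul, Matrix.map_apply]
  rw [h1, Matrix.mulVec_mulVec, ← Matrix.vecMul_transpose, ← Matrix.dotProduct_mulVec,
    Matrix.mulVec_mulVec, ← Matrix.mul_assoc, ha, Matrix.one_mulVec]
  simp only [dotProduct, Cfsg.hermForm, hσq]

theorem exists_chain {q : ℕ} (σ : F →+* F) (hσq : ∀ x, σ x = x ^ q) (hσ : Invol σ) (m : ℕ) :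
    ∃ b : ℕ → (Fin (2 * m + 1) → F), Chain (hermB (2 * m + 1) σ hσq) m b := by
  obtain ⟨a, ha⟩ := exists_congr_one (antiJ F (2 * m)) σ hσ
    (by rw [antiJ_transpose, antiJ_map]) (antiJ_det_ne_zero _)
  have hdet : a.det ≠ 0 := by
    intro h
    have := congrArg Matrix.det ha
    rw [Matrix.det_mul, Matrix.det_mul, Matrix.det_transpose, h, zero_mul, zero_mul,
      Matrix.det_one] at this
    exact zero_ne_one this
  have hu : IsUnit a.det := isUnit_iff_ne_zero.mpr hdet
  have haQ : a * a⁻¹ = 1 := Matrix.mul_nonsing_inv a hu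
  have hQa : a⁻¹ * a = 1 := Matrix.nonsing_inv_mul a hu
  have hiso := gramB_mulVec_eq σ hσq (antiJ F (2 * m)) a ha
  -- the basis
  let b : ℕ → (Fin (2 * m + 1) → F) := fun i =>
    if h : i < 2 * m + 1 then a⁻¹ *ᵥ (Pi.single (⟨i, h⟩ : Fin (2 * m + 1)) 1) else 0
  have hb : ∀ (i : ℕ) (h : i < 2 * m + 1),
      b i = a⁻¹ *ᵥ (Pi.single (⟨i, h⟩ : Fin (2 * m + 1)) 1) := by
    intro i h
    simp only [b, dif_pos h]
  have hab : ∀ (i : ℕ) (h : i < 2 * m + 1),
      a *ᵥ b i = Pi.single (⟨i, h⟩ : Fin (2 * m + 1)) 1 := by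
    intro i h
    rw [hb i h, Matrix.mulVec_mulVec, haQ, Matrix.one_mulVec]
  refine ⟨b, ?_, ?_⟩
  · intro i j hi hj
    have hi' : i < 2 * m + 1 := by omega
    have hj' : j < 2 * m + 1 := by omega
    rw [hermB_apply, ← hiso, hab i hi', hab j hj', gramB_antiJ_single]
    rw [Pi.single_apply]
    by_cases hij : i + j = 2 * m
    · rw [if_pos hij, if_pos]
      apply Fin.ext
      simp
      omega
    · rw [if_neg hij, if_neg]
      intro h
      apply hij
      have := congrArg Fin.val h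
      simp at this
      omega
  · intro x
    -- expand `a x` in the standard basis
    have hx : a *ᵥ x = ∑ i : Fin (2 * m + 1), (a *ᵥ x) i • (Pi.single i 1 : Fin (2 * m + 1) → F) := by
      funext k
      rw [Finset.sum_apply]
      simp only [Pi.smul_apply, Pi.single_apply, smul_eq_mul, mul_ite, mul_one, mul_zero]
      rw [Finset.sum_ite_eq]
      simp
    have hcoef : ∀ i : Fin (2 * m + 1),
        (a *ᵥ x) i = hermB (2 * m + 1) σ hσq x (b (2 * m - i.val)) := by
      intro i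
      have hi := i.2
      have h' : 2 * m - i.val < 2 * m + 1 := by omega
      rw [hermB_apply, ← hiso, hab _ h', gramB_antiJ_single]
      congr 1
      apply Fin.ext
      simp
      omega
    have hx2 : x = a⁻¹ *ᵥ (a *ᵥ x) := by
      rw [Matrix.mulVec_mulVec, hQa, Matrix.one_mulVec]
    rw [Finset.sum_range (fun i => hermB (2 * m + 1) σ hσq x (b (2 * m - i)) • b i)]
    conv_lhs => rw [hx2, hx]
    rw [Matrix.mulVec_sum]
    refine Finset.sum_congr rfl (fun i _ => ?_)
    rw [Matrix.mulVec_smul, ← hb i.val i.2, hcoef i]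

end chain

section bridge

variable {F : Type*} [Field F] [Fintype F]

/-- every isometry of determinant one of the standard hermitian space comes from `SU` -/
theorem exists_toLE_eq {n q : ℕ} (σ : F →+* F) (hσq : ∀ x, σ x = x ^ q)
    (t : (Fin n → F) ≃ₗ[F] (Fin n → F)) (ht : t ∈ uG (hermB n σ hσq))
    (hdet : LinearEquiv.det t = 1) : ∃ A : ↥(Cfsg.SU n F q), toLE n q F A = t := by
  set M := LinearMap.toMatrix' (t : (Fin n → F) →ₗ[F] (Fin n → F)) with hM
  have hMv : ∀ v, M *ᵥ v = t v := fun v => by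
    rw [hM, LinearMap.toMatrix'_mulVec]
    rfl
  have hU : IsU n q M := by
    intro u v
    rw [hMv, hMv]
    exact ht u v
  have hd : M.det = 1 := by
    rw [hM, LinearMap.det_toMatrix']
    have := congrArg Units.val hdet
    rw [LinearEquiv.coe_det] at this
    exact this
  refine ⟨mkSU M hU hd, ?_⟩
  apply LinearEquiv.ext
  intro v
  rw [toLE_apply, mkSU_val, hMv]

theorem toLE_mem_uG {n q : ℕ} (σ : F →+* F) (hσq : ∀ x, σ x = x ^ q) (A : ↥(Cfsg.SU n F q)) :
    toLE n q F A ∈ uG (hermB n σ hσq) := by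
  intro x y
  rw [toLE_apply, toLE_apply, hermB_apply, hermB_apply]
  exact A.2 x y

theorem toLinAlgEquiv_sub_one {n q : ℕ} (A : ↥(Cfsg.SU n F q)) :
    Matrix.toLinAlgEquiv' (R := F) (n := Fin n)
        (((A : Matrix.SpecialLinearGroup (Fin n) F) : Matrix (Fin n) (Fin n) F) - 1) =
      ((toLE n q F A : (Fin n → F) ≃ₗ[F] (Fin n → F)) : (Fin n → F) →ₗ[F] (Fin n → F)) - 1 := by
  rw [map_sub, map_one]
  congr 1

/-- PACKAGE BR (bridge): from the abstract statement on the standard hermitian space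
(with an arbitrary chain basis) to the frozen statement for `n = 2m+1`. -/
theorem bridge (q : ℕ) (hF : Fintype.card F = q ^ 2) (m : ℕ) (hm : 2 ≤ m)
    (habs : ∀ (σ : F →+* F) (hσq : ∀ x, σ x = x ^ q), Invol σ →
      ∀ b : ℕ → (Fin (2 * m + 1) → F), Chain (hermB (2 * m + 1) σ hσq) m b →
      ∃ u g h : (Fin (2 * m + 1) → F) ≃ₗ[F] (Fin (2 * m + 1) → F),
        (u ∈ uG (hermB (2 * m + 1) σ hσq) ∧ g ∈ uG (hermB (2 * m + 1) σ hσq) ∧
          h ∈ uG (hermB (2 * m + 1) σ hσq)) ∧
        (LinearEquiv.det u = 1 ∧ LinearEquiv.det g = 1 ∧ LinearEquiv.det h = 1) ∧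
        (((u : (Fin (2 * m + 1) → F) →ₗ[F] (Fin (2 * m + 1) → F)) - 1) ^ (2 * m + 1) = 0 ∧
          ((u : (Fin (2 * m + 1) → F) →ₗ[F] (Fin (2 * m + 1) → F)) - 1) ^ (2 * m) ≠ 0) ∧
        ∀ t ∈ uG (hermB (2 * m + 1) σ hσq), LinearEquiv.det t = 1 →
          t ∈ Subgroup.closure ({u, g * u * g⁻¹, h * u * h⁻¹} :
            Set ((Fin (2 * m + 1) → F) ≃ₗ[F] (Fin (2 * m + 1) → F)))) :
    ∃ u g h : ↥(Cfsg.SU (2 * m + 1) F q),
      (IsNilpotent (((u : Matrix.SpecialLinearGroup (Fin (2 * m + 1)) F) :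
          Matrix (Fin (2 * m + 1)) (Fin (2 * m + 1)) F) - 1) ∧
        (((u : Matrix.SpecialLinearGroup (Fin (2 * m + 1)) F) :
          Matrix (Fin (2 * m + 1)) (Fin (2 * m + 1)) F) - 1) ^ (2 * m + 1 - 1) ≠ 0) ∧
      Subgroup.closure ({u, g * u * g⁻¹, h * u * h⁻¹} : Set ↥(Cfsg.SU (2 * m + 1) F q)) = ⊤ := by
  obtain ⟨σ, hσq, hσ⟩ := exists_frob hF
  obtain ⟨b, hb⟩ := exists_chain σ hσq hσ m
  obtain ⟨u, g, h, ⟨hu, hg, hh⟩, ⟨hdu, hdg, hdh⟩, ⟨hnil, hnz⟩, hgen⟩ := habs σ hσq hσ b hb
  obtain ⟨u', hu'⟩ := exists_toLE_eq σ hσq u hu hdu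
  obtain ⟨g', hg'⟩ := exists_toLE_eq σ hσq g hg hdg
  obtain ⟨h', hh'⟩ := exists_toLE_eq σ hσq h hh hdh
  refine ⟨u', g', h', ⟨?_, ?_⟩, ?_⟩
  · refine ⟨2 * m + 1, ?_⟩
    apply (Matrix.toLinAlgEquiv' (R := F) (n := Fin (2 * m + 1))).injective
    rw [map_pow, toLinAlgEquiv_sub_one, hu', hnil, map_zero]
  · intro h0
    apply hnz
    have := congrArg (Matrix.toLinAlgEquiv' (R := F) (n := Fin (2 * m + 1))) h0
    rw [map_pow, toLinAlgEquiv_sub_one, hu', map_zero, Nat.add_sub_cancel] at this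
    exact this
  · rw [eq_top_iff]
    intro A _
    have hA := hgen (toLE (2 * m + 1) q F A) (toLE_mem_uG σ hσq A) (toLE_det A)
    have himg : Subgroup.closure ({u, g * u * g⁻¹, h * u * h⁻¹} :
          Set ((Fin (2 * m + 1) → F) ≃ₗ[F] (Fin (2 * m + 1) → F))) =
        (Subgroup.closure ({u', g' * u' * g'⁻¹, h' * u' * h'⁻¹} :
          Set ↥(Cfsg.SU (2 * m + 1) F q))).map (toLE (2 * m + 1) q F) := by
      rw [MonoidHom.map_closure]
      congr 1
      simp only [Set.image_insert_eq, Set.image_singleton, map_mul, map_inv, hu', hg', hh']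
    rw [himg] at hA
    obtain ⟨A', hA', hAA'⟩ := hA
    rw [← toLE_injective hAA']
    exact hA'

end bridge

end Cfsg.Agent.Lib.Helper88_SUBridge
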