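import Mathlib
import Cfsg.Agent.Lib.Helper39_U4Defs
import Cfsg.Agent.Lib.Helper94_HermBridge
import Cfsg.Agent.Lib.Helper88_SUBridge
import Cfsg.Agent.S0780
import Cfsg.Agent.S0782

/-!
# S2150 package BR-P (architect helper39): the order of a point stabiliser in `SUg (hermB 4 σ hσq)`  (helper73)

Also the general transfer `card_stab_eq`: the stabiliser of a subspace in the prelude's `SU n F q` and in the
abstract `SUg (hermB n σ hσq)` have the same order.
-/

set_option autoImplicit false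

namespace Cfsg.Agent.Lib.Helper73_U4_BRP

open Module Cfsg.Agent.Lib.Helper94_Symp Cfsg.Agent.Lib.Helper94_Herm
  Cfsg.Agent.Lib.Helper94_HermBridge Cfsg.Agent.Lib.Helper39_U4Defs

variable {F : Type*} [Field F] [Fintype F] {q : ℕ}

/-- the subspace stabiliser in the prelude's `SU n F q` and in the abstract `SUg` have the same order -/
theorem card_stab_eq {n : ℕ} (σ : F →+* F) (hσq : ∀ x, σ x = x ^ q)
    (T : Submodule F (Fin n → F)) :
    Nat.card ↥((Cfsg.stabilizing (Cfsg.slToMat n F) (T : Set (Fin n → F))).subgroupOf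
      (Cfsg.SU n F q)) = Nat.card ↥(SUg (hermB n σ hσq) ⊓ stab T) := by
  have hmem : ∀ A : ↥(Cfsg.SU n F q),
      A ∈ (Cfsg.stabilizing (Cfsg.slToMat n F) (T : Set (Fin n → F))).subgroupOf (Cfsg.SU n F q) ↔
        Cfsg.Agent.S0780.toLE n q F A ∈ stab T := by
    intro A
    rw [Subgroup.mem_subgroupOf]
    constructor
    · intro h v
      rw [Cfsg.Agent.S0780.toLE_apply]
      exact h v
    · intro h v
      have := h v
      rw [Cfsg.Agent.S0780.toLE_apply] at this
      exact this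
  have hSU : ∀ A : ↥(Cfsg.SU n F q), Cfsg.Agent.S0780.toLE n q F A ∈ SUg (hermB n σ hσq) := by
    intro A
    exact ⟨Cfsg.Agent.Lib.Helper88_SUBridge.toLE_mem_uG σ hσq A,
      MonoidHom.mem_ker.mpr (Cfsg.Agent.S0780.toLE_det A)⟩
  refine Nat.card_congr (Equiv.ofBijective
    (fun A => ⟨Cfsg.Agent.S0780.toLE n q F A.1, ⟨hSU A.1, (hmem A.1).1 A.2⟩⟩) ⟨?_, ?_⟩)
  · intro A A' h
    apply Subtype.ext
    apply Cfsg.Agent.S0780.toLE_injective
    exact congrArg Subtype.val h
  · rintro ⟨g, hgS, hgT⟩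
    have hdet : LinearEquiv.det g = 1 := MonoidHom.mem_ker.mp hgS.2
    obtain ⟨A, hA⟩ := Cfsg.Agent.Lib.Helper88_SUBridge.exists_toLE_eq σ hσq g hgS.1 hdet
    refine ⟨⟨A, (hmem A).2 (by rw [hA]; exact hgT)⟩, ?_⟩
    apply Subtype.ext
    exact hA

/-- `2 ≤ q` from `|F| = q ^ 2` -/
theorem two_le_q (hF : Fintype.card F = q ^ 2) : 2 ≤ q := by
  have h1 : 1 < Fintype.card F := Fintype.one_lt_card
  rw [hF] at h1
  by_contra hlt
  push Not at hlt
  interval_cases q <;> simp at h1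

/-- BR-P: order of a point stabiliser (S0782 with `k = 1` through `Cfsg.Agent.S0780.toLE`). -/
theorem br_card_P (hF : Fintype.card F = q ^ 2) (σ : F →+* F) (hσq : ∀ x, σ x = x ^ q)
    (hσ : Invol σ) (u : Fin 4 → F) (hu0 : u ≠ 0) (hu : hermB 4 σ hσq u u = 0) :
    Nat.card ↥(Pg (hermB 4 σ hσq) u) = q ^ 6 * (q ^ 2 - 1) ^ 2 := by
  have hq2 := two_le_q hF
  set T : Submodule F (Fin 4 → F) := Submodule.span F {u} with hT
  have hTk : finrank F T = 1 := finrank_span_singleton hu0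
  have hTiso : ∀ a ∈ T, ∀ b ∈ T, Cfsg.hermForm 4 F q a b = 0 := by
    intro a ha b hb
    obtain ⟨α, rfl⟩ := Submodule.mem_span_singleton.mp ha
    obtain ⟨β, rfl⟩ := Submodule.mem_span_singleton.mp hb
    have e : hermB 4 σ hσq (α • u) (β • u) = 0 := by
      rw [map_smulₛₗ, map_smul, LinearMap.smul_apply, hu, smul_zero, smul_zero]
    exact e
  have key := Cfsg.Agent.S0782.result hF 4 1 (by norm_num) (by norm_num) T hTk hTiso
  rw [card_stab_eq σ hσq T] at key
  have hPg : Pg (hermB 4 σ hσq) u = SUg (hermB 4 σ hσq) ⊓ stab T := rfl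
  rw [hPg]
  set N := Nat.card ↥(SUg (hermB 4 σ hσq) ⊓ stab T) with hN
  have hq1 : 0 < q + 1 := by omega
  apply Nat.eq_of_mul_eq_mul_left hq1
  rw [key]
  simp only [Finset.univ_unique, Fin.default_eq_zero, Fin.val_zero, Finset.prod_singleton,
    pow_zero, pow_one]
  norm_num [Finset.prod_range_succ]
  ring

end Cfsg.Agent.Lib.Helper73_U4_BRP
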