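import Mathlib
import Cfsg.Agent.Lib.Helper39_U4Defs
import Cfsg.Agent.Lib.Helper94_HermBridge
import Cfsg.Agent.Lib.Helper94_HermOrth
import Cfsg.Agent.Lib.Helper5_SUOrder
import Cfsg.Agent.Lib.Helper73_U4_BRP

/-!
# S2150 package BR-IDX (architect helper39): stabilisers of nonzero totally isotropic subspaces of the standard
4-dimensional hermitian space have index at least `(q+1)(q^3+1)` in `SUg`  (helper73)
-/

set_option autoImplicit false

namespace Cfsg.Agent.Lib.Helper73_U4_BRIDX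

open Module Cfsg.Agent.Lib.Helper94_Symp Cfsg.Agent.Lib.Helper94_Herm
  Cfsg.Agent.Lib.Helper94_HermBridge Cfsg.Agent.Lib.Helper94_HermOrth
  Cfsg.Agent.Lib.Helper39_U4Defs Cfsg.Agent.Lib.Helper73_U4_BRP

variable {F : Type*} [Field F] [Fintype F] {q : ℕ}

/-- the order of the abstract `SUg` of the standard hermitian space -/
theorem card_SUg {n : ℕ} (σ : F →+* F) (hσq : ∀ x, σ x = x ^ q) :
    Nat.card ↥(SUg (hermB n σ hσq)) = Nat.card ↥(Cfsg.SU n F q) := by
  have h := card_stab_eq (n := n) σ hσq (⊤ : Submodule F (Fin n → F))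
  have e1 : SUg (hermB n σ hσq) ⊓ stab (⊤ : Submodule F (Fin n → F)) = SUg (hermB n σ hσq) := by
    apply inf_eq_left.mpr
    intro g _ v
    exact ⟨fun _ => trivial, fun _ => trivial⟩
  have e2 : (Cfsg.stabilizing (Cfsg.slToMat n F)
      (((⊤ : Submodule F (Fin n → F)) : Set (Fin n → F)))).subgroupOf (Cfsg.SU n F q) = ⊤ := by
    rw [eq_top_iff]
    intro A _
    rw [Subgroup.mem_subgroupOf]
    intro v
    exact ⟨fun _ => trivial, fun _ => trivial⟩
  rw [e1, e2] at h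
  rw [← h]
  exact Nat.card_congr Subgroup.topEquiv.toEquiv

/-- BR-IDX: stabilisers of nonzero t.i. subspaces have index `≥ N`
(S0782 with `k = 1, 2` + `Helper5_SUOrder.card_SU`). -/
theorem br_idx (hF : Fintype.card F = q ^ 2) (σ : F →+* F) (hσq : ∀ x, σ x = x ^ q)
    (hσ : Invol σ) (T : Submodule F (Fin 4 → F)) (hT0 : T ≠ ⊥)
    (hT : ∀ x ∈ T, ∀ y ∈ T, hermB 4 σ hσq x y = 0) :
    (q + 1) * (q ^ 3 + 1) * Nat.card ↥(SUg (hermB 4 σ hσq) ⊓ stab T) ≤
      Nat.card ↥(SUg (hermB 4 σ hσq)) := by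
  have hq2 := two_le_q hF
  have hB : IsHerm (hermB 4 σ hσq) := hermB_isHerm σ hσq hσ
  have hN : NondegOn (hermB 4 σ hσq) ⊤ := hermB_nondeg σ hσq
  -- the dimension of `T` is 1 or 2
  have hle : T ≤ orthS (hermB 4 σ hσq) T := fun y hy x hx => hT x hx y hy
  have hdim := finrank_orthS hB hN T
  have hle' : finrank F T ≤ finrank F (orthS (hermB 4 σ hσq) T) := Submodule.finrank_mono hle
  have h4 : finrank F (Fin 4 → F) = 4 := by simp
  rw [h4] at hdim
  have hpos : 0 < finrank F T := by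
    rw [Module.finrank_pos_iff]
    exact Submodule.nontrivial_iff_ne_bot.mpr hT0
  have hTiso : ∀ a ∈ T, ∀ b ∈ T, Cfsg.hermForm 4 F q a b = 0 := fun a ha b hb => hT a ha b hb
  have hSU := Cfsg.Agent.Lib.Helper5_SUOrder.card_SU hF 4 (by norm_num)
  rw [← card_SUg σ hσq] at hSU
  set N := Nat.card ↥(SUg (hermB 4 σ hσq)) with hNdef
  set s := Nat.card ↥(SUg (hermB 4 σ hσq) ⊓ stab T) with hsdef
  have hq1 : 0 < q + 1 := by omega
  apply Nat.le_of_mul_le_mul_left _ hq1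
  rw [hSU]
  have hk : finrank F T = 1 ∨ finrank F T = 2 := by omega
  have hq2' : 1 ≤ q ^ 2 := Nat.one_le_pow _ _ (by omega)
  have hq4' : 1 ≤ q ^ 4 := Nat.one_le_pow _ _ (by omega)
  have hq42 : q ^ 2 ≤ q ^ 4 := Nat.pow_le_pow_right (by omega) (by norm_num)
  have hqq : q + 1 ≤ q ^ 2 + 1 := by nlinarith
  rcases hk with hk | hk
  · have key := Cfsg.Agent.S0782.result hF 4 1 (by norm_num) (by norm_num) T hk hTiso
    rw [card_stab_eq σ hσq T] at key
    have e : (q + 1) * ((q + 1) * (q ^ 3 + 1) * s) = (q + 1) * (q ^ 3 + 1) * ((q + 1) * s) := by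
      ring
    rw [e, key]
    simp only [Finset.univ_unique, Fin.default_eq_zero, Fin.val_zero, Finset.prod_singleton,
      pow_zero, pow_one]
    norm_num [Finset.prod_range_succ]
    have e4 : q ^ 4 - 1 = (q ^ 2 - 1) * (q ^ 2 + 1) := by
      zify [hq2', hq4']
      ring
    rw [e4]
    have : (q + 1) * (q ^ 3 + 1) * (q ^ 5 * (q ^ 2 - 1) * (q * ((q + 1) * (q ^ 2 - 1)))) =
        (q ^ 6 * ((q + 1) * (q ^ 2 - 1) * (q ^ 3 + 1) * (q ^ 2 - 1))) * (q + 1) := by ring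
    rw [this]
    have : q ^ 6 * ((q + 1) * (q ^ 2 - 1) * (q ^ 3 + 1) * ((q ^ 2 - 1) * (q ^ 2 + 1))) =
        (q ^ 6 * ((q + 1) * (q ^ 2 - 1) * (q ^ 3 + 1) * (q ^ 2 - 1))) * (q ^ 2 + 1) := by ring
    rw [this]
    exact Nat.mul_le_mul_left _ hqq
  · have key := Cfsg.Agent.S0782.result hF 4 2 (by norm_num) (by norm_num) T hk hTiso
    rw [card_stab_eq σ hσq T] at key
    have e : (q + 1) * ((q + 1) * (q ^ 3 + 1) * s) = (q + 1) * (q ^ 3 + 1) * ((q + 1) * s) := by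
      ring
    rw [e, key]
    apply le_of_eq
    simp only [Fin.prod_univ_two, Fin.val_zero, Fin.val_one, pow_zero, pow_one]
    norm_num [Finset.prod_range_succ]
    have e4 : (q ^ 2) ^ 2 - q ^ 2 = q ^ 2 * (q ^ 2 - 1) := by
      rw [Nat.mul_sub, mul_one, ← pow_two]
    have e5 : (q ^ 2) ^ 2 - 1 = q ^ 4 - 1 := by rw [← pow_mul]
    rw [e4, e5]
    ring

end Cfsg.Agent.Lib.Helper73_U4_BRIDX
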