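import Mathlib
import Cfsg.Agent.Lib.Helper94_UDDefs
import Cfsg.Agent.Lib.Helper44_HermOrtho

/-!
# S5655, market "UD" (architect helper94): package UD-SWAPEL

The elementary swap `v ↦ v - B v (x - y) • (x - y)` of two orthogonal vectors of norm one:
an isometry of determinant `-1`.
-/

set_option autoImplicit false
set_option linter.unusedSectionVars false
set_option linter.unusedVariables false

namespace Cfsg.Agent.Lib.Helper73_UD_SWAPEL

open Module Cfsg.Agent.Lib.Helper94_Symp Cfsg.Agent.Lib.Helper94_Herm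
  Cfsg.Agent.Lib.Helper13_PSUSimple Cfsg.Agent.Lib.Helper27_UQDefs
  Cfsg.Agent.Lib.Helper94_FrmDefs Cfsg.Agent.Lib.Helper94_UDDefs

section gen

variable {F V : Type*} [Field F] [AddCommGroup V] [Module F V]
variable {σ : F →+* F} (B : V →ₗ[F] V →ₛₗ[σ] F)

/-- the linear map `v ↦ v - B v d • d` -/
noncomputable def swLin (d : V) : V →ₗ[F] V :=
  LinearMap.transvection (-(B.flip d)) d

lemma swLin_apply (d v : V) : swLin B d v = v - B v d • d := by
  simp [swLin, LinearMap.transvection.apply, sub_eq_add_neg]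

lemma swLin_comp {d : V} (hd : B d d = 2) : (swLin B d).comp (swLin B d) = LinearMap.id := by
  ext v
  rw [LinearMap.comp_apply, swLin_apply, swLin_apply]
  simp only [map_sub, map_smul, LinearMap.sub_apply, LinearMap.smul_apply, smul_eq_mul, hd,
    LinearMap.id_apply]
  rw [sub_smul, mul_smul]
  have : (2 : F) • d = d + d := two_smul F d
  rw [this, smul_add]
  abel

/-- the involution `v ↦ v - B v d • d` for `B d d = 2` -/
noncomputable def sw {d : V} (hd : B d d = 2) : V ≃ₗ[F] V :=
  LinearEquiv.ofLinear (swLin B d) (swLin B d) (swLin_comp B hd) (swLin_comp B hd)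

lemma sw_apply {d : V} (hd : B d d = 2) (v : V) : sw B hd v = v - B v d • d := by
  simp [sw, swLin_apply]

variable {B}

lemma sw_mem_uG (hB : IsHerm B) {d : V} (hd : B d d = 2) : sw B hd ∈ uG B := by
  intro v w
  rw [sw_apply, sw_apply]
  simp only [map_sub, map_smul, map_smulₛₗ, LinearMap.sub_apply, LinearMap.smul_apply,
    smul_eq_mul, hd]
  rw [hB w d]
  ring

lemma det_sw [FiniteDimensional F V] {d : V} (hd : B d d = 2) :
    LinearEquiv.det (sw B hd) = -1 := by
  apply Units.ext
  rw [LinearEquiv.coe_det]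
  have : ((sw B hd : V ≃ₗ[F] V) : V →ₗ[F] V) = swLin B d := by
    ext v
    simp [sw]
  rw [this, swLin, LinearMap.transvection.det]
  simp only [LinearMap.neg_apply, LinearMap.flip_apply, hd, Units.val_neg, Units.val_one]
  ring

end gen

variable {F V : Type*} [Field F] [AddCommGroup V] [Module F V] [Finite F] [FiniteDimensional F V]
variable {σ : F →+* F} {B : V →ₗ[F] V →ₛₗ[σ] F}
variable {t k : ℕ} {D : Fin t → Submodule F V} {S M : Subgroup (V ≃ₗ[F] V)}

/-- UD-SWAPEL. -/
theorem SWAPEL (hσ : Invol σ) (hB : IsHerm B) {x y : V} (hx : B x x = 1) (hy : B y y = 1)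
    (hxy : B x y = 0) :
    ∃ s : V ≃ₗ[F] V, s ∈ uG B ∧ LinearEquiv.det s = -1 ∧ s x = y ∧ s y = x ∧
      ∀ v, s v = v - B v (x - y) • (x - y) := by
  have hyx : B y x = 0 := herm_eq_zero hB hxy
  have hd : B (x - y) (x - y) = 2 := by
    simp only [map_sub, LinearMap.sub_apply, hx, hy, hxy, hyx]
    ring
  refine ⟨sw B hd, sw_mem_uG hB hd, det_sw hd, ?_, ?_, fun v => sw_apply B hd v⟩
  · rw [sw_apply, map_sub, hx, hxy, sub_zero, one_smul]
    abel
  · rw [sw_apply, map_sub, hyx, hy, zero_sub, neg_one_smul]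
    abel

end Cfsg.Agent.Lib.Helper73_UD_SWAPEL
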