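import Mathlib

/-!
# S0984 package EIG4 (architect helper62)

If `w y w⁻¹ = y²`, `y⁵ = 1`, `w⁴ = 1` and `ρ y` has a primitive fifth root of unity as an eigenvalue, then
every fourth root of unity is an eigenvalue of `ρ w`.
-/

set_option autoImplicit false

namespace Cfsg.Agent.Lib.Helper89_A7_EIG4

theorem eig4 {G V : Type*} [Group G] [AddCommGroup V] [Module ℂ V]
    (ρ : Representation ℂ G V) (y w : G) (hy : y ^ 5 = 1) (hw4 : w ^ 4 = 1)
    (hw : w * y * w⁻¹ = y ^ 2) (ζ : ℂ) (hζ : IsPrimitiveRoot ζ 5)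
    (hne : Module.End.eigenspace (ρ y) ζ ≠ ⊥) (c : ℂ) (hc : c ^ 4 = 1) :
    Module.End.eigenspace (ρ w) c ≠ ⊥ := by
  obtain ⟨v, hv, hv0⟩ := Submodule.exists_mem_ne_zero_of_ne_bot hne
  rw [Module.End.mem_eigenspace_iff] at hv
  -- the group relation `y w = w y³`
  have hrel : y * w = w * (y * y * y) := by
    have h1 : w * y ^ 3 * w⁻¹ = y := by
      rw [← conj_pow, hw, ← pow_mul]
      calc y ^ (2 * 3) = y ^ 5 * y := by rw [← pow_succ]
        _ = y := by rw [hy, one_mul]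
    calc y * w = (w * y ^ 3 * w⁻¹) * w := by rw [h1]
      _ = w * y ^ 3 := by rw [inv_mul_cancel_right]
      _ = w * (y * y * y) := by rw [pow_succ, pow_two]
  have step : ∀ (μ : ℂ) (x : V), ρ y x = μ • x → ρ y (ρ w x) = (μ ^ 3) • ρ w x := by
    intro μ x hx
    have h := congrArg (fun g => ρ g x) hrel
    simp only [map_mul, Module.End.mul_apply] at h
    rw [h]
    simp only [hx, map_smul, smul_smul]
    congr 1
    ring
  have w4 : ∀ x : V, ρ w (ρ w (ρ w (ρ w x))) = x := by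
    intro x
    have h : w * w * w * w = 1 := by rw [← hw4, pow_succ, pow_succ, pow_two]
    have h' := congrArg (fun g => ρ g x) h
    simp only [map_mul, map_one, Module.End.mul_apply, Module.End.one_apply] at h'
    exact h'
  obtain ⟨v1, hv1⟩ : ∃ v1 : V, v1 = ρ w v := ⟨_, rfl⟩
  obtain ⟨v2, hv2⟩ : ∃ v2 : V, v2 = ρ w v1 := ⟨_, rfl⟩
  obtain ⟨v3, hv3⟩ : ∃ v3 : V, v3 = ρ w v2 := ⟨_, rfl⟩
  have hv4 : ρ w v3 = v := by rw [hv3, hv2, hv1]; exact w4 v
  have z5 : ζ ^ 5 = 1 := hζ.pow_eq_one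
  have e1 : ρ y v1 = (ζ ^ 3) • v1 := by rw [hv1]; exact step ζ v hv
  have e2 : ρ y v2 = (ζ ^ 4) • v2 := by
    rw [hv2, step (ζ ^ 3) v1 e1]
    congr 1
    calc (ζ ^ 3) ^ 3 = ζ ^ 5 * ζ ^ 4 := by ring
      _ = ζ ^ 4 := by rw [z5, one_mul]
  have e3 : ρ y v3 = (ζ ^ 2) • v3 := by
    rw [hv3, step (ζ ^ 4) v2 e2]
    congr 1
    calc (ζ ^ 4) ^ 3 = (ζ ^ 5) ^ 2 * ζ ^ 2 := by ring
      _ = ζ ^ 2 := by rw [z5, one_pow, one_mul]
  have hv10 : v1 ≠ 0 := by
    intro h
    apply hv0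
    rw [← w4 v, ← hv1, h, map_zero, map_zero, map_zero]
  have hv20 : v2 ≠ 0 := by
    intro h
    apply hv0
    rw [← w4 v, ← hv1, ← hv2, h, map_zero, map_zero]
  have hv30 : v3 ≠ 0 := by
    intro h
    apply hv0
    rw [← w4 v, ← hv1, ← hv2, ← hv3, h, map_zero]
  -- linear independence
  have hμ : Function.Injective (fun i : Fin 4 => ζ ^ (![1, 3, 4, 2] i : ℕ)) := by
    intro i j hij
    have hlt : ∀ k : Fin 4, (![1, 3, 4, 2] k : ℕ) < 5 := by decide
    have := hζ.pow_inj (hlt i) (hlt j) hij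
    have key : ∀ i j : Fin 4, (![1, 3, 4, 2] i : ℕ) = ![1, 3, 4, 2] j → i = j := by decide
    exact key i j this
  have hLI : LinearIndependent ℂ ![v, v1, v2, v3] := by
    apply Module.End.eigenvectors_linearIndependent' (ρ y) _ hμ
    intro i
    fin_cases i
    · exact ⟨Module.End.mem_eigenspace_iff.mpr (by simpa using hv), hv0⟩
    · exact ⟨Module.End.mem_eigenspace_iff.mpr (by simpa using e1), hv10⟩
    · exact ⟨Module.End.mem_eigenspace_iff.mpr (by simpa using e2), hv20⟩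
    · exact ⟨Module.End.mem_eigenspace_iff.mpr (by simpa using e3), hv30⟩
  obtain ⟨u, hu⟩ : ∃ u : V, u = v + c ^ 3 • v1 + c ^ 2 • v2 + c • v3 := ⟨_, rfl⟩
  have hwu : ρ w u = c • u := by
    rw [hu]
    simp only [map_add, map_smul, smul_add, smul_smul]
    rw [← hv1, ← hv2, ← hv3, hv4]
    have : c * c ^ 3 = 1 := by rw [← hc]; ring
    rw [this, one_smul]
    have e : c * c ^ 2 = c ^ 3 := by ring
    have e' : c * c = c ^ 2 := by ring
    rw [e, e']
    abel
  have hu0 : u ≠ 0 := by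
    intro h
    have hsum : ∑ i : Fin 4, (![1, c ^ 3, c ^ 2, c] i : ℂ) • (![v, v1, v2, v3] i : V) = 0 := by
      rw [Fin.sum_univ_four]
      simp only [Matrix.cons_val_zero, Matrix.cons_val_one, Matrix.cons_val_two,
        Matrix.cons_val_three, Matrix.head_cons, Matrix.tail_cons, one_smul]
      rw [← h, hu]
    have := Fintype.linearIndependent_iff.mp hLI _ hsum 0
    simp at this
  exact (Submodule.ne_bot_iff _).mpr ⟨u, Module.End.mem_eigenspace_iff.mpr hwu, hu0⟩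

end Cfsg.Agent.Lib.Helper89_A7_EIG4
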