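import Mathlib
import Cfsg.Prelude.Def_Characters
import Cfsg.Prelude.Def_Blocks
import Cfsg.Agent.Lib.Helper62_A7Defs
import Cfsg.Agent.Lib.Helper80_CharBasic
import Cfsg.Agent.Lib.Helper17_Sylow
import Cfsg.Agent.Lib.Helper77_BlockBasics
import Cfsg.Agent.Lib.Helper10_N19_MULT
import Cfsg.Agent.Lib.Helper84_A7_FIXDIM
import Cfsg.Agent.Lib.Helper84_A7_TSUM
import Cfsg.Agent.Lib.Helper89_A7_EIG4

/-!
# A7 market (S0984, architect helper62): package VAL4 (author helper74)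

`χ` irreducible of degree 6 of a simple group of order 2520, `y` of order 5, `w` of order 4 with
`w y w⁻¹ = y²`, `χ(y) = 1`; one class of involutions, one class of elements of order 4; a Sylow
2-subgroup `T` with an element `c` of order 4 such that the elements outside `⟨c⟩` square to 1.
Then `χ = 2` on involutions and `χ = 0` on elements of order 4.
-/

set_option autoImplicit false
open Cfsg Cfsg.Agent.Lib.Helper80_CharBasic Cfsg.Agent.Lib.Helper62_A7Defs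

namespace Cfsg.Agent.Lib.Helper74_A7_VAL4

/-- The arithmetic core: the four multiplicity equations for `ρ(w)` and the fixed-space
equation for `T` force `ξ = 0`, `τ = 2`. -/
theorem arith_core (ξ τ : ℂ) (m1 mm mi d : ℕ)
    (h1 : 1 ≤ m1) (hm : 1 ≤ mm) (hi : 1 ≤ mi)
    (e1 : 6 + 2 * ξ + τ = 4 * (m1 : ℂ))
    (em : 6 - 2 * ξ + τ = 4 * (mm : ℂ))
    (ei : 6 - τ = 4 * (mi : ℂ))
    (eT : 6 + 2 * ξ + 5 * τ = 8 * (d : ℂ)) : ξ = 0 ∧ τ = 2 := by
  have hτ : τ = 6 - 4 * (mi : ℂ) := by linear_combination (-1 : ℂ) * ei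
  have hξ : ξ = 2 * (m1 : ℂ) + 2 * (mi : ℂ) - 6 := by
    linear_combination (1 / 2 : ℂ) * e1 + (1 / 2 : ℂ) * ei
  have a1 : ((m1 : ℤ) : ℂ) + (mm : ℤ) + 2 * (mi : ℤ) = ((6 : ℤ) : ℂ) := by
    push_cast
    linear_combination (-1 / 4 : ℂ) * e1 + (-1 / 4 : ℂ) * em + (-1 / 2 : ℂ) * ei
  have a2 : ((6 : ℤ) : ℂ) + (m1 : ℤ) - 4 * (mi : ℤ) = 2 * ((d : ℤ) : ℂ) := by
    push_cast
    linear_combination (1 / 4 : ℂ) * eT - (1 / 4 : ℂ) * e1 + (1 : ℂ) * ei
  have a1' : (m1 : ℤ) + (mm : ℤ) + 2 * (mi : ℤ) = 6 := by exact_mod_cast a1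
  have a2' : (6 : ℤ) + (m1 : ℤ) - 4 * (mi : ℤ) = 2 * (d : ℤ) := by exact_mod_cast a2
  have hmi1 : mi = 1 := by omega
  have hm12 : m1 = 2 := by omega
  subst hmi1 hm12
  constructor
  · rw [hξ]; push_cast; ring
  · rw [hτ]; push_cast; ring

/-- The powers `y^2, y^3, y^4` are conjugates of `y`. -/
theorem char_pow_eq {G : Type*} [Group G] (χ : Cfsg.IrrCharacter G) (y w : G)
    (hy : y ^ 5 = 1) (hw : w * y * w⁻¹ = y ^ 2) :
    (χ : G → ℂ) (y ^ 2) = (χ : G → ℂ) y ∧ (χ : G → ℂ) (y ^ 3) = (χ : G → ℂ) y ∧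
      (χ : G → ℂ) (y ^ 4) = (χ : G → ℂ) y := by
  have hconj : ∀ k : ℕ, w * y ^ k * w⁻¹ = (y ^ 2) ^ k := by
    intro k
    rw [← hw, conj_pow]
  have h2 : (χ : G → ℂ) (y ^ 2) = (χ : G → ℂ) y := by
    rw [← hw, irr_conj]
  have h4 : (χ : G → ℂ) (y ^ 4) = (χ : G → ℂ) y := by
    have : y ^ 4 = w * y ^ 2 * w⁻¹ := by
      rw [hconj 2, ← pow_mul]
    rw [this, irr_conj, h2]
  have h3 : (χ : G → ℂ) (y ^ 3) = (χ : G → ℂ) y := by
    have : y ^ 3 = w * y ^ 4 * w⁻¹ := by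
      rw [hconj 4, ← pow_mul]
      have : y ^ (2 * 4) = y ^ 5 * y ^ 3 := by rw [← pow_add]
      rw [this, hy, one_mul]
    rw [this, irr_conj, h4]
  exact ⟨h2, h3, h4⟩

theorem val4 {G : Type*} [Group G] [Finite G] [IsSimpleGroup G] [Fact (Nat.Prime 2)]
    (hG : Nat.card G = 2520) (χ : Cfsg.IrrCharacter G) (hχ : Cfsg.charDegree (χ : G → ℂ) = 6)
    (y w : G) (hy : orderOf y = 5) (hw4 : orderOf w = 4) (hw : w * y * w⁻¹ = y ^ 2)
    (hy1 : (χ : G → ℂ) y = 1)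
    (h2 : ∀ s t : G, orderOf s = 2 → orderOf t = 2 → IsConj s t)
    (h4 : ∀ v v' : G, orderOf v = 4 → orderOf v' = 4 → IsConj v v')
    (T : Sylow 2 G) (c : G) (hc : c ∈ (T : Subgroup G)) (hc4 : orderOf c = 4)
    (hout : ∀ x ∈ (T : Subgroup G), x ∉ Subgroup.zpowers c → x * x = 1) :
    (∀ t : G, orderOf t = 2 → (χ : G → ℂ) t = 2) ∧
    (∀ v : G, orderOf v = 4 → (χ : G → ℂ) v = 0) := by
  classical
  have : Fintype G := Fintype.ofFinite G
  obtain ⟨n, ρ, hirr, hρ⟩ := χ.2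
  have hy5 : y ^ 5 = 1 := by rw [← hy]; exact pow_orderOf_eq_one y
  have hw41 : w ^ 4 = 1 := by rw [← hw4]; exact pow_orderOf_eq_one w
  have hχ1 : (χ : G → ℂ) 1 = 6 := by
    rw [Cfsg.Agent.Lib.Helper77_BlockBasics.apply_one_eq_charDegree, hχ]; norm_num
  obtain ⟨hp2, hp3, hp4⟩ := char_pow_eq χ y w hy5 hw
  -- a primitive fifth root of unity
  obtain ⟨ζ, hζ⟩ : ∃ ζ : ℂ, IsPrimitiveRoot ζ 5 :=
    ⟨_, Complex.isPrimitiveRoot_exp 5 (by norm_num)⟩
  have hζinv : IsPrimitiveRoot ζ⁻¹ 5 := hζ.inv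
  -- `ζ` is an eigenvalue of `ρ y`
  have hne : Module.End.eigenspace (ρ y) ζ ≠ ⊥ := by
    intro hbot
    have h := Cfsg.Agent.Lib.Helper10_N19_MULT.sum_twist_char_pow ρ y (N := 5) hy5 ζ⁻¹
      hζinv.pow_eq_one (by norm_num)
    rw [inv_inv, hbot] at h
    have hgs := hζinv.geom_sum_eq_zero (by norm_num : 1 < 5)
    simp only [Finset.sum_range_succ, Finset.sum_range_zero, hρ, finrank_bot, pow_zero,
      pow_one] at h hgs
    rw [hχ1, hp2, hp3, hp4, hy1] at h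
    have : (5 : ℂ) = 0 := by
      have h' : (6 : ℂ) + ζ⁻¹ + ζ⁻¹ ^ 2 + ζ⁻¹ ^ 3 + ζ⁻¹ ^ 4 = 0 := by
        simpa using h
      linear_combination h' - hgs
    norm_num at this
  -- multiplicities of the fourth roots of unity in `ρ w`
  have hI4 : Complex.I ^ 4 = 1 := Complex.I_pow_four
  have hmI4 : (-Complex.I) ^ 4 = 1 := by rw [neg_pow, Complex.I_pow_four]; norm_num
  have hm14 : (-1 : ℂ) ^ 4 = 1 := by norm_num
  have h114 : (1 : ℂ) ^ 4 = 1 := by norm_num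
  have hpos : ∀ a : ℂ, a ^ 4 = 1 →
      1 ≤ Module.finrank ℂ (Module.End.eigenspace (ρ w) a) := by
    intro a ha
    have := Cfsg.Agent.Lib.Helper89_A7_EIG4.eig4 ρ y w hy5 hw41 hw ζ hζ hne a ha
    rw [Nat.one_le_iff_ne_zero]
    intro h0
    exact this (Submodule.finrank_eq_zero.mp h0)
  -- values on powers of `w`
  set ξ : ℂ := (χ : G → ℂ) w with hξdef
  set τ : ℂ := (χ : G → ℂ) (w ^ 2) with hτdef
  have ho2 : orderOf (w ^ 2) = 2 := by
    rw [orderOf_pow' w (by norm_num : (2 : ℕ) ≠ 0), hw4]; rfl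
  have ho3 : orderOf (w ^ 3) = 4 := by
    rw [orderOf_pow' w (by norm_num : (3 : ℕ) ≠ 0), hw4]; rfl
  have hw3 : (χ : G → ℂ) (w ^ 3) = ξ := irr_isConj χ (h4 _ _ ho3 hw4)
  have hsum : ∀ a : ℂ, a ^ 4 = 1 →
      6 + a * ξ + a ^ 2 * τ + a ^ 3 * ξ =
        4 * (Module.finrank ℂ (Module.End.eigenspace (ρ w) a⁻¹) : ℂ) := by
    intro a ha
    have h := Cfsg.Agent.Lib.Helper10_N19_MULT.sum_twist_char_pow ρ w (N := 4) hw41 a ha
      (by norm_num)
    simp only [Finset.sum_range_succ, Finset.sum_range_zero, hρ, pow_zero, pow_one] at h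
    rw [hχ1, hw3] at h
    have h' : ((4 : ℕ) : ℂ) = 4 := by norm_num
    rw [h'] at h
    rw [← h]
    ring
  have e1 := hsum 1 h114
  have em := hsum (-1) hm14
  have ei := hsum Complex.I hI4
  rw [inv_one] at e1
  rw [inv_neg, inv_one] at em
  rw [Complex.inv_I] at ei
  -- the Sylow 2-subgroup
  have hT8 : Nat.card (T : Subgroup G) = 8 := by
    rw [Sylow.card_eq_multiplicity, hG]
    have : (2520 : ℕ).factorization 2 = 3 := by
      have h : (2520 : ℕ) = 2 ^ 3 * 315 := by norm_num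
      rw [h, Nat.factorization_mul (by norm_num) (by norm_num), Nat.factorization_pow]
      simp [Nat.Prime.factorization_self Nat.prime_two,
        Nat.factorization_eq_zero_of_not_dvd (by norm_num : ¬ 2 ∣ 315)]
    rw [this]; norm_num
  have hτall : ∀ t : G, orderOf t = 2 → (χ : G → ℂ) t = τ :=
    fun t ht => irr_isConj χ (h2 _ _ ht ho2)
  have hξall : ∀ v : G, orderOf v = 4 → (χ : G → ℂ) v = ξ :=
    fun v hv => irr_isConj χ (h4 _ _ hv hw4)
  have hts := Cfsg.Agent.Lib.Helper84_A7_TSUM.tsum (T : Subgroup G) hT8 c hc hc4 hout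
    (χ : G → ℂ) τ ξ hτall hξall
  have hfd := Cfsg.Agent.Lib.Helper84_A7_FIXDIM.sum_character_subgroup ρ (T : Subgroup G)
  rw [hρ, hts, hT8, hχ1] at hfd
  have eT : 6 + 2 * ξ + 5 * τ =
      8 * (Module.finrank ℂ (fixedSub ρ (T : Subgroup G)) : ℂ) := by
    rw [hfd]; norm_num
  have key := arith_core ξ τ _ _ _ _ (hpos 1 h114) (hpos (-1) hm14) (hpos (-Complex.I) hmI4)
    (by linear_combination e1) (by linear_combination em)
    (by
      have hI2 : Complex.I ^ 2 = -1 := Complex.I_sq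
      have hI3 : Complex.I ^ 3 = -Complex.I := by
        rw [pow_succ, hI2]; ring
      rw [hI2, hI3] at ei
      linear_combination ei) eT
  obtain ⟨hξ0, hτ2⟩ := key
  exact ⟨fun t ht => by rw [hτall t ht, hτ2], fun v hv => by rw [hξall v hv, hξ0]⟩

end Cfsg.Agent.Lib.Helper74_A7_VAL4
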