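import Mathlib
import Cfsg.Agent.S0914
import Cfsg.Agent.Lib.Helper77_BlockBasics
import Cfsg.Agent.Lib.Helper77_QuotDefect2
import Cfsg.Agent.Lib.Helper78_LocalRing

/-!
# Small facts used for blocks over a normal `p'`-subgroup (helper78)

* `blockOf_eq_singleton`, `isPBlock_singleton`: in a `p'`-group every block is a singleton.
* `not_dvd_index_of_sup`: `K ⊴ X` a `p'`-group and `p ∤ |X : PK|` give `p ∤ |X : P|`.
* `isDefectGroup_sylow`: if some defect group has index prime to `p`, every Sylow `p`-subgroup is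
  a defect group.
-/

set_option autoImplicit false

namespace Cfsg.Agent.Lib.Helper78_FongBasic

open Cfsg Cfsg.Agent.Lib.Helper78_LocalRing

universe u

variable {p : ℕ} [Fact p.Prime] {M : Ideal AlgInt}

theorem blockOf_eq_singleton {K : Type*} [Group K] [Finite K] (hM : IsPModular p M)
    (hK : ¬ p ∣ Nat.card K) (θ : IrrCharacter K) : blockOf M (θ : K → ℂ) = {θ} := by
  rw [← Cfsg.Agent.S0914.result p M hM θ]
  intro hd
  apply hK
  have h1 := Cfsg.Agent.Lib.Helper77_BlockBasics.charDegree_dvd_card θ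
  exact dvd_trans hd (Nat.div_dvd_of_dvd h1)

theorem isPBlock_singleton {K : Type*} [Group K] [Finite K] (hM : IsPModular p M)
    (hK : ¬ p ∣ Nat.card K) (θ : IrrCharacter K) : IsPBlock M ({θ} : Set (IrrCharacter K)) :=
  ⟨θ, (blockOf_eq_singleton hM hK θ).symm⟩

theorem not_dvd_index_of_sup {X : Type*} [Group X] [Finite X] (P K : Subgroup X) [K.Normal]
    (hK : ¬ p ∣ Nat.card K) (h : ¬ p ∣ (P ⊔ K).index) : ¬ p ∣ P.index := by
  have hp : p.Prime := Fact.out
  have h1 : Nat.card K * K.relIndex (P ⊔ K) = Nat.card ↥(P ⊔ K) := by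
    have := Subgroup.relIndex_mul_relIndex (H := (⊥ : Subgroup X)) (K := K) (L := P ⊔ K) bot_le
      le_sup_right
    rwa [Subgroup.relIndex_bot_left, Subgroup.relIndex_bot_left] at this
  have h2 : K.relIndex (P ⊔ K) ∣ Nat.card P := by
    rw [Subgroup.relIndex_sup_right]
    exact Subgroup.relIndex_dvd_card K P
  have h3 : Nat.card ↥(P ⊔ K) ∣ Nat.card K * Nat.card P := by
    rw [← h1]
    exact Nat.mul_dvd_mul_left _ h2
  have h4 : Nat.card P * P.index = Nat.card ↥(P ⊔ K) * (P ⊔ K).index := by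
    rw [Subgroup.card_mul_index, Subgroup.card_mul_index]
  have h5 : Nat.card P * P.index ∣ Nat.card P * (Nat.card K * (P ⊔ K).index) := by
    rw [h4]
    obtain ⟨c, hc⟩ := h3
    refine ⟨c, ?_⟩
    calc Nat.card P * (Nat.card K * (P ⊔ K).index)
        = (Nat.card K * Nat.card P) * (P ⊔ K).index := by ring
      _ = Nat.card ↥(P ⊔ K) * (P ⊔ K).index * c := by rw [hc]; ring
  have h6 : P.index ∣ Nat.card K * (P ⊔ K).index :=
    Nat.dvd_of_mul_dvd_mul_left Nat.card_pos h5
  intro hd
  rcases (Nat.Prime.dvd_mul hp).mp (dvd_trans hd h6) with h7 | h7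
  · exact hK h7
  · exact h h7

/-- If a defect group of `B` has index prime to `p`, every Sylow `p`-subgroup is a defect group
of `B`. -/
theorem isDefectGroup_sylow {X : Type*} [Group X] [Finite X] (hM : IsPModular p M)
    {B : Set (IrrCharacter X)} (hB : IsPBlock M B) {P : Subgroup X}
    (hP : IsDefectGroup p M B P) (hidx : ¬ p ∣ P.index) (S : Sylow p X) :
    IsDefectGroup p M B (S : Subgroup X) := by
  have hPp : IsPGroup p P :=
    (Cfsg.Agent.Lib.Helper77_CentralDefect.card_of_isDefectGroup hM hB hP).1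
  set S' : Sylow p X := hPp.toSylow hidx with hS'
  obtain ⟨g, hg⟩ := MulAction.exists_smul_eq X S' S
  have h1 := Cfsg.Agent.Lib.Helper77_QuotDefect2.isDefectGroup_map_conj hM hB hP g
  have h2 : (S : Subgroup X) = P.map (MulAut.conj g).toMonoidHom := by
    rw [← hg, Sylow.coe_subgroup_smul, hS', IsPGroup.toSylow_coe]
    rfl
  rw [h2]
  exact h1

end Cfsg.Agent.Lib.Helper78_FongBasic
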