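import Mathlib
import Cfsg.Prelude.Def_Blocks
import Cfsg.Agent.Lib.Helper4_CayleySign
import Cfsg.Agent.Lib.Helper74_LinAct
import Cfsg.Agent.Lib.Helper74_PQuot
import Cfsg.Agent.Lib.Helper74_AutExt
import Cfsg.Agent.Lib.Helper75_AbelianInertia
import Cfsg.Agent.Lib.Helper78_FongBasic
import Cfsg.Agent.Lib.Helper78_LocalRing
import Cfsg.Agent.Lib.Helper79_RobinsonTerm
import Cfsg.Agent.S0964
import Cfsg.Agent.Lib.Helper77_StableCover

/-!
# Blocks of defect one for the prime `2`

`|G| = 2m`, `m` odd.  Then `G` has a normal `2`-complement `H`, the blocks of positive defect are the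
pairs `{χ, λχ}` with `χ` of odd degree and `λ` the sign character of `G/H`; the two members agree on
the elements of odd order.  This is the case `p = 2` of the frozen S4507.
-/

set_option autoImplicit false
set_option linter.unusedSectionVars false
set_option linter.unusedVariables false

namespace Cfsg.Agent.Lib.Helper74_Def1Two

open Cfsg
open scoped ComplexConjugate

section group

variable {G : Type*} [Group G] [Finite G]

theorem exists_normal_index_two (hdiv : 2 ∣ Nat.card G) (hsq : ¬ 2 ^ 2 ∣ Nat.card G) :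
    ∃ H : Subgroup G, H.Normal ∧ H.index = 2 ∧ Odd (Nat.card H) := by
  classical
  have := Fintype.ofFinite G
  have : Fact (Nat.Prime 2) := ⟨Nat.prime_two⟩
  obtain ⟨t, ht⟩ := exists_prime_orderOf_dvd_card' 2 hdiv
  obtain ⟨m, hm⟩ := hdiv
  have hmodd : Odd m := by
    rw [← Nat.not_even_iff_odd]
    rintro ⟨k, hk⟩
    apply hsq
    rw [hm, hk]
    exact ⟨k, by ring⟩
  have hodd : Odd (Fintype.card G / orderOf t) := by
    rw [ht, ← Nat.card_eq_fintype_card, hm, Nat.mul_div_cancel_left _ (by norm_num)]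
    exact hmodd
  obtain ⟨H, hH⟩ := Cfsg.Agent.Lib.Helper4_CayleySign.exists_index_two t
    (by rw [ht]; exact even_two) hodd
  refine ⟨H, Subgroup.normal_of_index_eq_two hH, hH, ?_⟩
  have h1 := H.card_mul_index
  rw [hH, hm] at h1
  have h2 : Nat.card H = m := by omega
  rw [h2]
  exact hmodd

/-- elements of odd order lie in a subgroup of index two -/
theorem mem_of_odd_order (H : Subgroup G) (hH : H.index = 2) {g : G} (hg : ¬ 2 ∣ orderOf g) :
    g ∈ H := by
  by_contra hgH
  have h2 : g ^ 2 ∈ H := by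
    rw [pow_two]
    exact (Subgroup.mul_mem_iff_of_index_two hH).mpr (iff_of_false hgH hgH)
  have hodd : Odd (orderOf g) := by
    rw [← Nat.not_even_iff_odd, even_iff_two_dvd]
    exact hg
  obtain ⟨j, hj⟩ := hodd
  have h3 : g ^ (2 * (j + 1)) = g := by
    have : 2 * (j + 1) = orderOf g + 1 := by omega
    rw [this, pow_succ, pow_orderOf_eq_one, one_mul]
  apply hgH
  rw [← h3, pow_mul]
  exact H.pow_mem h2 (j + 1)

end group

section chars

variable {G : Type*} [Group G] [Finite G]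

open Classical in
/-- the sign character of a subgroup of index two -/
noncomputable def sgnHom (H : Subgroup G) (hH : H.index = 2) : G →* ℂˣ :=
  MonoidHom.mk' (fun g => if g ∈ H then 1 else -1) (by
    intro a b
    have := Subgroup.mul_mem_iff_of_index_two hH (a := a) (b := b)
    by_cases ha : a ∈ H <;> by_cases hb : b ∈ H <;> simp [ha, hb, this])

theorem sgnHom_of_mem (H : Subgroup G) (hH : H.index = 2) {g : G} (hg : g ∈ H) :
    sgnHom H hH g = 1 := by
  classical
  show (if g ∈ H then (1 : ℂˣ) else -1) = 1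
  rw [if_pos hg]

theorem sgnHom_of_notMem (H : Subgroup G) (hH : H.index = 2) {g : G} (hg : g ∉ H) :
    sgnHom H hH g = -1 := by
  classical
  show (if g ∈ H then (1 : ℂˣ) else -1) = -1
  rw [if_neg hg]

/-- the other extension of `χ|_H` -/
noncomputable def other (H : Subgroup G) (hH : H.index = 2) (χ : IrrCharacter G) :
    IrrCharacter G :=
  Cfsg.Agent.Lib.Helper74_LinAct.twist (sgnHom H hH) χ

theorem other_of_mem (H : Subgroup G) (hH : H.index = 2) (χ : IrrCharacter G) {g : G}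
    (hg : g ∈ H) : (other H hH χ : G → ℂ) g = (χ : G → ℂ) g := by
  show ((sgnHom H hH g : ℂˣ) : ℂ) * (χ : G → ℂ) g = _
  rw [sgnHom_of_mem H hH hg, Units.val_one, one_mul]

theorem other_of_notMem (H : Subgroup G) (hH : H.index = 2) (χ : IrrCharacter G) {g : G}
    (hg : g ∉ H) : (other H hH χ : G → ℂ) g = -(χ : G → ℂ) g := by
  show ((sgnHom H hH g : ℂˣ) : ℂ) * (χ : G → ℂ) g = _
  rw [sgnHom_of_notMem H hH hg, Units.val_neg, Units.val_one, neg_one_mul]

theorem other_other (H : Subgroup G) (hH : H.index = 2) (χ : IrrCharacter G) :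
    other H hH (other H hH χ) = χ := by
  apply Subtype.ext
  funext g
  by_cases hg : g ∈ H
  · rw [other_of_mem H hH _ hg, other_of_mem H hH _ hg]
  · rw [other_of_notMem H hH _ hg, other_of_notMem H hH _ hg, neg_neg]

theorem other_one (H : Subgroup G) (hH : H.index = 2) (χ : IrrCharacter G) :
    (other H hH χ : G → ℂ) 1 = (χ : G → ℂ) 1 := other_of_mem H hH χ H.one_mem

/-- if `χ|_H` is irreducible, the two extensions are distinct -/
theorem other_ne (H : Subgroup G) (hH : H.index = 2) (χ : IrrCharacter G)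
    (hirr : IsIrrCharacter H (fun n : H => (χ : G → ℂ) n)) : other H hH χ ≠ χ := by
  classical
  have := Fintype.ofFinite G
  intro h
  have hvan : ∀ g : G, g ∉ H → (χ : G → ℂ) g = 0 := by
    intro g hg
    have h1 := congrFun (congrArg Subtype.val h) g
    rw [other_of_notMem H hH χ hg] at h1
    linear_combination (-1 / 2 : ℂ) * h1
  have h1 := Cfsg.Agent.Lib.Helper3_CharOrtho.classInner_self_of_isIrrCharacter χ.2
  have h2 := Cfsg.Agent.Lib.Helper3_CharOrtho.classInner_self_of_isIrrCharacter hirr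
  unfold classInner at h1 h2
  have h3 : ∑ g : G, (χ : G → ℂ) g * conj ((χ : G → ℂ) g) =
      ∑ n : H, (χ : G → ℂ) n * conj ((χ : G → ℂ) n) := by
    rw [← Finset.sum_subtype (Finset.univ.filter (fun g : G => g ∈ H))
      (fun x => by simp) (fun g => (χ : G → ℂ) g * conj ((χ : G → ℂ) g))]
    rw [Finset.sum_filter]
    refine Finset.sum_congr rfl (fun g _ => ?_)
    split_ifs with hg
    · rfl
    · rw [hvan g hg, zero_mul]
  rw [h3] at h1
  have hcard : (Nat.card G : ℂ) = 2 * (Nat.card H : ℂ) := by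
    have := H.card_mul_index
    rw [hH] at this
    rw [← this]
    push_cast
    ring
  have hH0 : (Nat.card H : ℂ) ≠ 0 := by
    rw [Nat.cast_ne_zero]; exact Nat.card_pos.ne'
  rw [hcard] at h1
  have h4 : ∑ n : H, (χ : G → ℂ) n * conj ((χ : G → ℂ) n) = (Nat.card H : ℂ) := by
    field_simp at h2
    exact h2
  rw [h4] at h1
  field_simp at h1
  norm_num at h1

end chars

section blocks

open Cfsg.Agent.Lib.Helper78_LocalRing Cfsg.Agent.Lib.Helper75_LinChar

variable {G : Type*} [Group G] [Finite G] {M : Ideal AlgInt}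

/-- `χ` and its twist by the sign character lie in the same `2`-block -/
theorem sameBlock_other (hM : IsPModular 2 M) (H : Subgroup G) (hH : H.index = 2)
    (χ : IrrCharacter G) : SameBlock M (χ : G → ℂ) (other H hH χ : G → ℂ) := by
  have hMp := isPrime_of_isPModular hM
  have := Fintype.ofFinite G
  intro g
  have h1 : centralChar (other H hH χ : G → ℂ) g =
      ((sgnHom H hH g : ℂˣ) : ℂ) * centralChar (χ : G → ℂ) g := by
    unfold centralChar
    rw [other_one]
    show _ * (((sgnHom H hH g : ℂˣ) : ℂ) * (χ : G → ℂ) g) / _ = _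
    ring
  rw [h1]
  by_cases hg : g ∈ H
  · rw [sgnHom_of_mem H hH hg, Units.val_one, one_mul, sub_self]
    exact memLocalIdeal_zero hMp
  · rw [sgnHom_of_notMem H hH hg, Units.val_neg, Units.val_one]
    have hcoe : (((2 : ℕ) : AlgInt) : ℂ) = 2 := by push_cast; rfl
    have h2 : centralChar (χ : G → ℂ) g - -1 * centralChar (χ : G → ℂ) g =
        (((2 : ℕ) : AlgInt) : ℂ) * centralChar (χ : G → ℂ) g := by
      rw [hcoe]; ring
    rw [h2]
    exact memLocalIdeal_mul_right hMp (memLocalIdeal_of_mem hMp hM.2.2)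
      (Cfsg.Agent.Lib.Helper79_RobinsonTerm.memLocalRing_centralChar hMp χ g)

/-- a linear character trivial on a subgroup of index two is trivial or the sign character -/
theorem lin_cases (H : Subgroup G) (hH : H.index = 2) {β : G → ℂ} (hβ : IsLin G β)
    (hβH : ∀ h : H, β h = 1) :
    (∀ g : G, β g = 1) ∨ (∀ g : G, g ∉ H → β g = -1) := by
  by_cases hall : ∀ g : G, g ∉ H → β g = -1
  · exact Or.inr hall
  left
  push Not at hall
  obtain ⟨g₀, hg₀, hβg₀⟩ := hall
  have hsq : ∀ g : G, g ∉ H → β g * β g = 1 := by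
    intro g hg
    rw [← hβ.map_mul]
    exact hβH ⟨g * g, (Subgroup.mul_mem_iff_of_index_two hH).mpr (iff_of_false hg hg)⟩
  have h1 : β g₀ = 1 := by
    have h2 := hsq g₀ hg₀
    have h3 : (β g₀ - 1) * (β g₀ + 1) = 0 := by linear_combination h2
    rcases mul_eq_zero.mp h3 with h | h
    · exact sub_eq_zero.mp h
    · exact absurd (eq_neg_of_add_eq_zero_left h) hβg₀
  intro g
  by_cases hg : g ∈ H
  · exact hβH ⟨g, hg⟩
  · have hmem : g₀⁻¹ * g ∈ H := by
      apply (Subgroup.mul_mem_iff_of_index_two hH).mpr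
      exact iff_of_false (fun h => hg₀ (by simpa using H.inv_mem h)) hg
    have : g = g₀ * (g₀⁻¹ * g) := by group
    rw [this, hβ.map_mul, h1, one_mul]
    exact hβH ⟨_, hmem⟩

/-- restriction of an odd-degree irreducible character to a normal subgroup of index two -/
theorem irr_res (H : Subgroup G) [hHn : H.Normal] (hH : H.index = 2) (χ : IrrCharacter G)
    (hχ : Odd (charDegree (χ : G → ℂ))) : IsIrrCharacter H (fun n : H => (χ : G → ℂ) n) := by
  have : Fact (Nat.Prime 2) := ⟨Nat.prime_two⟩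
  have hq : IsPGroup 2 (G ⧸ H) := by
    apply IsPGroup.of_card (n := 1)
    rw [← Subgroup.index_eq_card, hH, pow_one]
  refine Cfsg.Agent.Lib.Helper74_PQuot.irr_restrict (p := 2) H hq χ (charDegree (χ : G → ℂ))
    (Cfsg.Agent.Lib.Helper77_BlockBasics.apply_one_eq_charDegree χ) ?_
  rw [← even_iff_two_dvd, Nat.not_even_iff_odd]
  exact hχ

/-- **The block of an odd-degree character** is the pair of extensions of its restriction. -/
theorem mem_pair_of_sameBlock (hM : IsPModular 2 M) (H : Subgroup G) [hHn : H.Normal]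
    (hH : H.index = 2) (hHodd : Odd (Nat.card H)) (χ : IrrCharacter G)
    (hχ : Odd (charDegree (χ : G → ℂ))) (ψ : IrrCharacter G)
    (hψ : SameBlock M (χ : G → ℂ) (ψ : G → ℂ)) : ψ = χ ∨ ψ = other H hH χ := by
  classical
  have : Fact (Nat.Prime 2) := ⟨Nat.prime_two⟩
  have hMp := isPrime_of_isPModular hM
  have := Fintype.ofFinite G
  have : Fintype H := Fintype.ofFinite H
  have hirr := irr_res H hH χ hχ
  have hH2 : ¬ 2 ∣ Nat.card H := by
    rw [← even_iff_two_dvd, Nat.not_even_iff_odd]; exact hHodd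
  have hcf := Cfsg.Agent.Lib.Helper78_CentralChar.isIrrCharacter_isClassFunction χ.2
  -- the block of `H`
  have hb := Cfsg.Agent.Lib.Helper78_FongBasic.isPBlock_singleton (p := 2) hM hH2
    (⟨fun n : H => (χ : G → ℂ) n, hirr⟩ : IrrCharacter H)
  have hcon : classInner (fun n : H => (χ : G → ℂ) n)
      ((⟨fun n : H => (χ : G → ℂ) n, hirr⟩ : IrrCharacter H) : H → ℂ) ≠ 0 := by
    show classInner (fun n : H => (χ : G → ℂ) n) (fun n : H => (χ : G → ℂ) n) ≠ 0
    rw [Cfsg.Agent.Lib.Helper3_CharOrtho.classInner_self_of_isIrrCharacter hirr]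
    exact one_ne_zero
  obtain ⟨ψ', hψ'⟩ := Cfsg.Agent.Lib.Helper77_StableCover.exists_under H ψ
  obtain ⟨g, θ'', hθ'', hconj⟩ := Cfsg.Agent.S0964.result 2 M hM H (blockOf M (χ : G → ℂ))
    (isPBlock_blockOf χ) _ hb χ (mem_blockOf_self hMp χ) _ (Set.mem_singleton _) hcon ψ hψ ψ' hψ'
  rw [Set.mem_singleton_iff] at hθ''
  have hψ'eq : (ψ' : H → ℂ) = fun n : H => (χ : G → ℂ) n := by
    funext n
    rw [hconj n, hθ'']
    exact hcf (n : G) g
  -- Frobenius reciprocity
  have hind : classInner (Cfsg.indFun H (fun n : H => (χ : G → ℂ) n)) (ψ : G → ℂ) ≠ 0 := by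
    rw [Cfsg.Agent.Lib.Helper75_Induced.frobenius_reciprocity H _ _
      (Cfsg.Agent.Lib.Helper78_CentralChar.isIrrCharacter_isClassFunction ψ.2),
      ← Cfsg.Agent.Lib.Helper3_CharOrtho.classInner_conj_symm]
    rw [hψ'eq] at hψ'
    intro h
    apply hψ'
    have := congrArg conj h
    rwa [Complex.conj_conj, map_zero] at this
  have hab : ∀ x y : G, x * y * x⁻¹ * y⁻¹ ∈ H := by
    intro x y
    have h1 : x * y * x⁻¹ * y⁻¹ = (x * y) * (y * x)⁻¹ := by group
    rw [h1]
    apply (Subgroup.mul_mem_iff_of_index_two hH).mpr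
    rw [Subgroup.inv_mem_iff]
    constructor
    · intro h
      exact (Subgroup.mul_mem_iff_of_index_two hH).mpr
        (((Subgroup.mul_mem_iff_of_index_two hH).mp h).symm)
    · intro h
      exact (Subgroup.mul_mem_iff_of_index_two hH).mpr
        (((Subgroup.mul_mem_iff_of_index_two hH).mp h).symm)
  have hinv : ∀ g : G, Cfsg.Agent.Lib.Helper75_Clifford.conjFun H hHn
      (fun n : H => (χ : G → ℂ) n) g = fun n : H => (χ : G → ℂ) n := by
    intro g
    funext n
    rw [Cfsg.Agent.Lib.Helper75_Clifford.conjFun_apply]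
    exact hcf (n : G) g
  obtain ⟨β, hβ, hβH, hψβ⟩ := Cfsg.Agent.Lib.Helper75_AbelianInertia.exists_lin_twist H hHn hab
    hirr hinv χ.2 hcon ψ.2 hind
  rcases lin_cases H hH hβ hβH with h1 | h1
  · left
    apply Subtype.ext
    rw [hψβ]
    funext g
    rw [Pi.mul_apply, h1 g, one_mul]
  · right
    apply Subtype.ext
    rw [hψβ]
    funext g
    rw [Pi.mul_apply]
    by_cases hg : g ∈ H
    · rw [hβH ⟨g, hg⟩, one_mul, other_of_mem H hH χ hg]
    · rw [h1 g hg, other_of_notMem H hH χ hg, neg_one_mul]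

end blocks

section final

open Cfsg.Agent.Lib.Helper78_LocalRing

variable {G : Type*} [Group G] [Finite G] {M : Ideal AlgInt}

/-- for `|G| = 2m`, `m` odd, `2`-conjugacy of characters is trivial -/
theorem conj_trivial (hdiv : 2 ∣ Nat.card G) (hsq : ¬ 2 ^ 2 ∣ Nat.card G)
    (χ ψ : IrrCharacter G)
    (h : ∃ σ : ℂ ≃+* ℂ, σ (Complex.exp (2 * Real.pi * Complex.I /
        ((Nat.card G / 2 ^ (Nat.card G).factorization 2 : ℕ) : ℂ))) =
      Complex.exp (2 * Real.pi * Complex.I /
        ((Nat.card G / 2 ^ (Nat.card G).factorization 2 : ℕ) : ℂ)) ∧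
      (ψ : G → ℂ) = fun g => σ ((χ : G → ℂ) g)) : ψ = χ := by
  have hn0 : Nat.card G ≠ 0 := Nat.card_pos.ne'
  have hχc : IsCharacter G (χ : G → ℂ) := by
    obtain ⟨n, ρ, -, h⟩ := χ.2
    exact ⟨n, ρ, h⟩
  obtain ⟨k, hk, hkd, hψ⟩ := (Cfsg.Agent.Lib.Helper74_AutExt.conj_iff_pow _
    (Nat.ordCompl_dvd _ _) _ _ hχc).mp h
  have hf : (Nat.card G).factorization 2 = 1 := by
    have h1 : 1 ≤ (Nat.card G).factorization 2 :=
      (Nat.Prime.pow_dvd_iff_le_factorization Nat.prime_two hn0).mp (by simpa using hdiv)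
    have h2 : ¬ 2 ≤ (Nat.card G).factorization 2 := fun h =>
      hsq ((Nat.Prime.pow_dvd_iff_le_factorization Nat.prime_two hn0).mpr h)
    omega
  have hmul : 2 * (Nat.card G / 2 ^ (Nat.card G).factorization 2) = Nat.card G := by
    have := Nat.ordProj_mul_ordCompl_eq_self (Nat.card G) 2
    rw [hf, pow_one] at this ⊢
    exact this
  have hcop : Nat.Coprime 2 (Nat.card G / 2 ^ (Nat.card G).factorization 2) :=
    Nat.coprime_ordCompl Nat.prime_two hn0
  have hk2 : k ≡ 1 [MOD 2] := by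
    have h1 : Nat.Coprime k 2 := Nat.Coprime.coprime_dvd_right hdiv hk
    have h2 : ¬ 2 ∣ k := fun h => by
      have := Nat.dvd_gcd h (dvd_refl 2)
      rw [h1.gcd_eq_one] at this
      omega
    unfold Nat.ModEq
    omega
  have hkG : k ≡ 1 [MOD Nat.card G] := by
    rw [← hmul]
    exact (Nat.modEq_and_modEq_iff_modEq_mul hcop).mp ⟨hk2, hkd⟩
  apply Subtype.ext
  funext g
  rw [hψ g]
  have : g ^ k = g ^ 1 := by
    rw [pow_eq_pow_iff_modEq]
    exact hkG.of_dvd (orderOf_dvd_natCard g)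
  rw [this, pow_one]

/-- **Blocks of defect one for `p = 2`**: the conclusion of the frozen S4507. -/
theorem def1_two (p : ℕ) (hp2 : p = 2) (M : Ideal Cfsg.AlgInt) (hM : Cfsg.IsPModular p M)
    (hdiv : p ∣ Nat.card G) (hsq : ¬ p ^ 2 ∣ Nat.card G) (B : Set (Cfsg.IrrCharacter G))
    (hB : Cfsg.IsPBlock M B) (hd : 0 < Cfsg.blockDefect p B) :
    ∃ Y : Set (Cfsg.IrrCharacter G), Y ⊆ B ∧ Y.Nonempty ∧ (∀ θ ∈ Y, ∀ ψ : Cfsg.IrrCharacter G, (∃ σ : ℂ ≃+* ℂ, σ (Complex.exp (2 * Real.pi * Complex.I / ((Nat.card G / p ^ (Nat.card G).factorization p) : ℕ))) = Complex.exp (2 * Real.pi * Complex.I / ((Nat.card G / p ^ (Nat.card G).factorization p) : ℕ)) ∧ (ψ : G → ℂ) = fun g => σ ((θ : G → ℂ) g)) ↔ ψ ∈ Y) ∧ (∀ χ ∈ B, χ ∉ Y → ∀ ψ : Cfsg.IrrCharacter G, (∃ σ : ℂ ≃+* ℂ, σ (Complex.exp (2 * Real.pi * Complex.I / ((Nat.card G / p ^ (Nat.card G).factorization p) : ℕ))) = Complex.exp (2 * Real.pi * Complex.I / ((Nat.card G / p ^ (Nat.card G).factorization p) : ℕ)) ∧ (ψ : G → ℂ)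 = fun g => σ ((χ : G → ℂ) g)) → ψ = χ) ∧ Nat.card Y ∣ p - 1 ∧ Nat.card B = Nat.card Y + (p - 1) / Nat.card Y ∧ ∃ δ : Cfsg.IrrCharacter G → ℤ, (∀ χ ∈ B, δ χ = 1 ∨ δ χ = -1) ∧ ∀ x : G, ¬ p ∣ orderOf x → ∀ θ ∈ Y, (∑ᶠ χ ∈ B \ Y, (δ χ : ℂ) * (χ : G → ℂ) x) + (δ θ : ℂ) * (θ : G → ℂ) x = 0 := by
  classical
  subst hp2
  have hMp := isPrime_of_isPModular hM
  have hn0 : Nat.card G ≠ 0 := Nat.card_pos.ne'
  obtain ⟨H, hHn, hH, hHodd⟩ := exists_normal_index_two hdiv hsq
  have hf : (Nat.card G).factorization 2 = 1 := by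
    have h1 : 1 ≤ (Nat.card G).factorization 2 :=
      (Nat.Prime.pow_dvd_iff_le_factorization Nat.prime_two hn0).mp (by simpa using hdiv)
    have h2 : ¬ 2 ≤ (Nat.card G).factorization 2 := fun h =>
      hsq ((Nat.Prime.pow_dvd_iff_le_factorization Nat.prime_two hn0).mpr h)
    omega
  -- a character of odd degree
  obtain ⟨χ₁, hχ₁B, -, hdef⟩ :=
    Cfsg.Agent.Lib.Helper77_BlockBasics.exists_height_zero 2 B (isPBlock_nonempty hMp hB)
  have hχ₁odd : Odd (charDegree (χ₁ : G → ℂ)) := by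
    rw [hdef, hf] at hd
    have h0 : (charDegree (χ₁ : G → ℂ)).factorization 2 = 0 := by omega
    rcases (Nat.factorization_eq_zero_iff _ _).mp h0 with h | h | h
    · exact absurd Nat.prime_two h
    · rw [← Nat.not_even_iff_odd, even_iff_two_dvd]; exact h
    · exact absurd h (Cfsg.Agent.Lib.Helper77_BlockBasics.charDegree_pos χ₁).ne'
  set χ₂ := other H hH χ₁ with hχ₂
  have hne : χ₂ ≠ χ₁ := other_ne H hH χ₁ (irr_res H hH χ₁ hχ₁odd)
  have hBeq : B = {χ₁, χ₂} := by
    rw [isPBlock_eq_blockOf hMp hB hχ₁B]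
    ext ψ
    rw [mem_blockOf_iff, Set.mem_insert_iff, Set.mem_singleton_iff]
    constructor
    · exact mem_pair_of_sameBlock hM H hH hHodd χ₁ hχ₁odd ψ
    · rintro (rfl | rfl)
      · exact sameBlock_refl hMp _
      · exact sameBlock_other hM H hH χ₁
  have hdiff : B \ {χ₂} = {χ₁} := by
    rw [hBeq]
    ext ψ
    simp only [Set.mem_diff, Set.mem_insert_iff, Set.mem_singleton_iff]
    constructor
    · rintro ⟨h1 | h1, h2⟩
      · exact h1
      · exact absurd h1 h2
    · intro h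
      exact ⟨Or.inl h, fun h' => hne (h' ▸ h.symm ▸ rfl)⟩
  have hcardB : Nat.card B = 2 := by
    rw [hBeq, Nat.card_coe_set_eq, Set.ncard_pair hne.symm]
  have hcardY : Nat.card ({χ₂} : Set (IrrCharacter G)) = 1 := by
    rw [Nat.card_coe_set_eq, Set.ncard_singleton]
  refine ⟨{χ₂}, ?_, Set.singleton_nonempty _, ?_, ?_, ?_, ?_, ?_⟩
  · rw [hBeq]
    intro ψ hψ
    rw [Set.mem_singleton_iff] at hψ
    rw [hψ]
    exact Set.mem_insert_of_mem _ rfl
  · intro θ hθ ψ
    rw [Set.mem_singleton_iff] at hθ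
    subst hθ
    constructor
    · intro h
      rw [Set.mem_singleton_iff]
      exact conj_trivial hdiv hsq _ ψ h
    · intro h
      rw [Set.mem_singleton_iff] at h
      subst h
      exact ⟨RingEquiv.refl ℂ, rfl, rfl⟩
  · intro χ _ _ ψ h
    exact conj_trivial hdiv hsq χ ψ h
  · rw [hcardY]
  · rw [hcardB, hcardY]
  · refine ⟨fun χ => if χ = χ₂ then -1 else 1, ?_, ?_⟩
    · intro χ _
      by_cases h : χ = χ₂
      · right; simp [h]
      · left; simp [h]
    · intro x hx θ hθ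
      rw [Set.mem_singleton_iff] at hθ
      subst hθ
      rw [hdiff, finsum_mem_singleton]
      simp only [if_neg hne.symm, if_true]
      have hxH : x ∈ H := mem_of_odd_order H hH hx
      rw [hχ₂, other_of_mem H hH χ₁ hxH]
      push_cast
      ring

end final

end Cfsg.Agent.Lib.Helper74_Def1Two
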