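import Mathlib
import Cfsg.Prelude.Def_Characters
import Cfsg.Agent.Lib.Helper74_DegPChar
import Cfsg.Agent.Lib.Helper32_PGroup
import Cfsg.Agent.Lib.Helper3_Ito
import Cfsg.Agent.Lib.Helper57_FrobNorm

/-!
# Nilpotent groups with character degrees `1` and `p` (helper74)

Isaacs 12.11, nilpotent part: a nonabelian finite nilpotent group all of whose irreducible
characters have degree `1` or `p` has an abelian (normal) subgroup of index `p` or its centre has
index `p ^ 3`.
-/

set_option autoImplicit false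

namespace Cfsg.Agent.Lib.Helper74_DegPGroup

open Cfsg
open Cfsg.Agent.Lib.Helper74_DegPChar

universe u

variable {G : Type u} [Group G]

/-- Itô's theorem for characters -/
theorem ito_char [Finite G] (χ : Cfsg.IrrCharacter G) (d : ℕ)
    (hd : (χ : G → ℂ) 1 = d) (A : Subgroup G) [A.Normal]
    (hab : ∀ a ∈ A, ∀ b ∈ A, a * b = b * a) : d ∣ A.index := by
  obtain ⟨n, ρ, hirr, hρ⟩ := χ.2
  have := hirr
  have h1 := Helper3_Ito.ito ρ A hab
  have h2 : Module.finrank ℂ (Fin n → ℂ) = n := by simp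
  have h3 : (χ : G → ℂ) 1 = n := by
    rw [← hρ, Representation.char_one]
    simp
  have h4 : d = n := by
    rw [h3] at hd
    exact_mod_cast hd.symm
  rw [h4]
  rw [h2] at h1
  exact h1

/-- a subgroup of prime index in a finite nilpotent group is normal -/
theorem normal_of_index_prime [Finite G] [hn : Group.IsNilpotent G] (A : Subgroup G) {p : ℕ}
    (hp : p.Prime) (hA : A.index = p) : A.Normal := by
  have hco : IsCoatom A := by
    refine ⟨?_, ?_⟩
    · intro h
      rw [h, Subgroup.index_top] at hA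
      exact hp.one_lt.ne hA
    · intro B hB
      have h1 := Subgroup.relIndex_mul_index hB.le
      rw [hA] at h1
      have h2 : B.index ∣ p := Dvd.intro_left _ h1
      rcases (Nat.dvd_prime hp).mp h2 with h3 | h3
      · exact Subgroup.index_eq_one.mp h3
      · exfalso
        rw [h3] at h1
        have h4 : A.relIndex B = 1 := by
          have : A.relIndex B * p = 1 * p := by rw [h1, one_mul]
          exact Nat.eq_of_mul_eq_mul_right hp.pos this
        exact hB.not_ge (Subgroup.relIndex_eq_one.mp h4)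
  exact ((Group.isNilpotent_of_finite_tfae (G := G)).out 0 2 rfl rfl |>.mp hn) A hco

/-- a nonidentity element of a cyclic group of prime order generates it -/
theorem mem_of_mem_zpowers_prime {k c : G} (hq : (orderOf k).Prime) (hc : c ∈ Subgroup.zpowers k)
    (hc1 : c ≠ 1) (H : Subgroup G) (hcH : c ∈ H) : k ∈ H := by
  have : Fact (orderOf k).Prime := ⟨hq⟩
  have hcard : Nat.card (Subgroup.zpowers k) = orderOf k := Nat.card_zpowers k
  have hc' : (⟨c, hc⟩ : Subgroup.zpowers k) ≠ 1 := fun h => hc1 (congrArg Subtype.val h)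
  have htop := zpowers_eq_top_of_prime_card hcard hc'
  have hk : (⟨k, Subgroup.mem_zpowers k⟩ : Subgroup.zpowers k) ∈
      Subgroup.zpowers (⟨c, hc⟩ : Subgroup.zpowers k) := by
    rw [htop]
    exact Subgroup.mem_top _
  obtain ⟨j, hj⟩ := Subgroup.mem_zpowers_iff.mp hk
  have hj' : c ^ j = k := by
    have := congrArg Subtype.val hj
    simpa using this
  rw [← hj']
  exact H.zpow_mem hcH j

/-- characters nontrivial on a central subgroup inside `G'` are nonlinear -/
theorem degree_eq_of_ne [Fintype G] (p : ℕ)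
    (hcd : ∀ χ : IrrCharacter G, (χ : G → ℂ) 1 = 1 ∨ (χ : G → ℂ) 1 = p)
    {k : G} (hkc : k ∈ commutator G) (χ : IrrCharacter G)
    (hχ : (χ : G → ℂ) k ≠ (χ : G → ℂ) 1) : (χ : G → ℂ) 1 = p := by
  rcases hcd χ with h | h
  · exfalso
    apply hχ
    rw [Cfsg.Agent.Lib.Helper74_TwoDegA.irr_eq_one_of_mem_commutator χ h hkc, h]
  · exact h

/-- if some noncentral element is central modulo a central subgroup of prime order inside `G'`,
there is an abelian normal subgroup of index `p` -/
theorem exists_abelian_of_central_mod [Fintype G] [Group.IsNilpotent G] (p : ℕ) (hp : p.Prime)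
    (hcd : ∀ χ : IrrCharacter G, (χ : G → ℂ) 1 = 1 ∨ (χ : G → ℂ) 1 = p)
    (k : G) (hk : k ∈ Subgroup.center G) (hk1 : k ≠ 1) (hkq : (orderOf k).Prime)
    (hkc : k ∈ commutator G)
    (z : G) (hz : z ∉ Subgroup.center G)
    (hzK : ∀ g : G, z⁻¹ * g⁻¹ * z * g ∈ Subgroup.zpowers k) :
    ∃ A : Subgroup G, A.Normal ∧ (∀ a ∈ A, ∀ b ∈ A, a * b = b * a) ∧ A.index = p := by
  classical
  have hKc : Subgroup.zpowers k ≤ Subgroup.center G := Subgroup.zpowers_le.mpr hk
  -- the commutator map
  set φ : G →* Subgroup.zpowers k := MonoidHom.mk' (fun g => ⟨z⁻¹ * g⁻¹ * z * g, hzK g⟩) (by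
    intro g h
    apply Subtype.ext
    show z⁻¹ * (g * h)⁻¹ * z * (g * h) = (z⁻¹ * g⁻¹ * z * g) * (z⁻¹ * h⁻¹ * z * h)
    have hc : ∀ y : G, y * (z⁻¹ * g⁻¹ * z * g) = (z⁻¹ * g⁻¹ * z * g) * y :=
      Subgroup.mem_center_iff.mp (hKc (hzK g))
    calc z⁻¹ * (g * h)⁻¹ * z * (g * h) = z⁻¹ * h⁻¹ * z * ((z⁻¹ * g⁻¹ * z * g) * h) := by group
      _ = z⁻¹ * h⁻¹ * z * (h * (z⁻¹ * g⁻¹ * z * g)) := by rw [hc h]
      _ = (z⁻¹ * h⁻¹ * z * h) * (z⁻¹ * g⁻¹ * z * g) := by group
      _ = (z⁻¹ * g⁻¹ * z * g) * (z⁻¹ * h⁻¹ * z * h) := by rw [hc]) with hφ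
  have hφapp : ∀ g : G, ((φ g : Subgroup.zpowers k) : G) = z⁻¹ * g⁻¹ * z * g := fun g => rfl
  set M : Subgroup G := φ.ker with hM
  have hMn : M.Normal := inferInstance
  have hmemM : ∀ g : G, g ∈ M ↔ z * g = g * z := by
    intro g
    rw [hM, MonoidHom.mem_ker]
    constructor
    · intro h
      have h1 : z⁻¹ * g⁻¹ * z * g = 1 := by rw [← hφapp g, h]; rfl
      calc z * g = g * z * (z⁻¹ * g⁻¹ * z * g) := by group
        _ = g * z := by rw [h1, mul_one]
    · intro h
      apply Subtype.ext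
      rw [hφapp]
      show z⁻¹ * g⁻¹ * z * g = 1
      calc z⁻¹ * g⁻¹ * z * g = z⁻¹ * g⁻¹ * (z * g) := by group
        _ = 1 := by rw [h]; group
  -- index
  have hidx : M.index = orderOf k := by
    rw [hM, Subgroup.index_ker]
    have h1 : Nat.card φ.range ∣ Nat.card (Subgroup.zpowers k) :=
      Subgroup.card_subgroup_dvd_card _
    rw [Nat.card_zpowers] at h1
    rcases (Nat.dvd_prime hkq).mp h1 with h2 | h2
    · exfalso
      apply hz
      rw [Subgroup.mem_center_iff]
      intro g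
      have h3 : φ.range = ⊥ := Subgroup.card_eq_one.mp h2
      have h4 : φ g ∈ φ.range := ⟨g, rfl⟩
      rw [h3, Subgroup.mem_bot] at h4
      have h5 : g ∈ M := by rw [hM, MonoidHom.mem_ker]; exact h4
      exact ((hmemM g).mp h5).symm
    · exact h2
  -- a character of degree `p`
  obtain ⟨χ₀, hχ₀k, -⟩ := exists_irr_sep hk hk1 hk1
  have hχ₀p := degree_eq_of_ne p hcd hkc χ₀ hχ₀k
  -- `M` is abelian
  have hMab : ∀ a ∈ M, ∀ b ∈ M, a * b = b * a := by
    intro a ha b hb
    by_contra hne
    have hc1 : a * b * a⁻¹ * b⁻¹ ≠ 1 := by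
      intro h
      apply hne
      calc a * b = (a * b * a⁻¹ * b⁻¹) * (b * a) := by group
        _ = b * a := by rw [h, one_mul]
    obtain ⟨χ, hχk, hχc⟩ := exists_irr_sep hk hk1 hc1
    have hχp := degree_eq_of_ne p hcd hkc χ hχk
    -- `χ z = 0`
    have hχz : (χ : G → ℂ) z = 0 := by
      have hz' : ∃ g : G, g * z ≠ z * g := by
        by_contra h
        push Not at h
        exact hz (Subgroup.mem_center_iff.mpr h)
      obtain ⟨g, hg⟩ := hz'
      have hcK := hzK g
      have hcne : z⁻¹ * g⁻¹ * z * g ≠ 1 := by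
        intro h
        apply hg
        calc g * z = z * g * (z⁻¹ * g⁻¹ * z * g)⁻¹ := by group
          _ = z * g := by rw [h, inv_one, mul_one]
      have hcc := hKc hcK
      refine vanish_of_conj χ (g := g) hcc ?_ ?_
      · rw [← Subgroup.mem_center_iff.mp hcc z]
        group
      · intro h
        apply hχk
        exact mem_of_mem_zpowers_prime hkq hcK hcne (Cfsg.Agent.S4835.irrKer χ) h
    rcases res_irr_or_comm M χ p hp hχp with h | h
    · -- irreducible restriction: `z` is central in `M`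
      have hzM : z ∈ M := (hmemM z).mpr rfl
      have hzc : (⟨z, hzM⟩ : M) ∈ Subgroup.center M := by
        rw [Subgroup.mem_center_iff]
        intro m
        apply Subtype.ext
        exact ((hmemM m).mp m.2).symm
      have h1 := central_norm (⟨_, h⟩ : IrrCharacter M) hzc
      change ‖(χ : G → ℂ) z‖ = ‖(χ : G → ℂ) 1‖ at h1
      rw [hχz, hχp] at h1
      simp at h1
      exact hp.ne_zero (by exact_mod_cast h1.symm)
    · exact hχc (h ⟨a, ha⟩ ⟨b, hb⟩)
  refine ⟨M, hMn, hMab, ?_⟩
  have h1 := ito_char χ₀ p hχ₀p M hMab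
  rw [hidx] at h1 ⊢
  exact ((Nat.prime_dvd_prime_iff_eq hp hkq).mp h1).symm

/-- a nonabelian subgroup `A` of index `p`, abelian modulo the central subgroup `⟨k⟩` of prime
order, when the centre modulo `⟨k⟩` is the image of the centre: then `[G : Z(G)] = p ^ 3` -/
theorem index_center_of_index_p [Fintype G] [Group.IsNilpotent G] (p : ℕ) (hp : p.Prime)
    (hcd : ∀ χ : IrrCharacter G, (χ : G → ℂ) 1 = 1 ∨ (χ : G → ℂ) 1 = p)
    (k : G) (hk : k ∈ Subgroup.center G) (hk1 : k ≠ 1) (hkq : (orderOf k).Prime)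
    (hkc : k ∈ commutator G)
    (hZ2 : ∀ z : G, (∀ g : G, z⁻¹ * g⁻¹ * z * g ∈ Subgroup.zpowers k) → z ∈ Subgroup.center G)
    (A : Subgroup G) (hAidx : A.index = p)
    (hAK : ∀ x ∈ A, ∀ y ∈ A, x * y * x⁻¹ * y⁻¹ ∈ Subgroup.zpowers k)
    (hAnab : ∃ a ∈ A, ∃ b ∈ A, a * b ≠ b * a) : (Subgroup.center G).index = p ^ 3 := by
  classical
  have hKc : Subgroup.zpowers k ≤ Subgroup.center G := Subgroup.zpowers_le.mpr hk
  have hAn : A.Normal := normal_of_index_prime A hp hAidx
  have : Fintype A := Fintype.ofFinite A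
  obtain ⟨a₀, ha₀, b₀, hb₀, hab₀⟩ := hAnab
  have hc₀K := hAK a₀ ha₀ b₀ hb₀
  have hc₀1 : a₀ * b₀ * a₀⁻¹ * b₀⁻¹ ≠ 1 := by
    intro h
    apply hab₀
    calc a₀ * b₀ = (a₀ * b₀ * a₀⁻¹ * b₀⁻¹) * (b₀ * a₀) := by group
      _ = b₀ * a₀ := by rw [h, one_mul]
  -- the centre lies in `A`
  have hZA : Subgroup.center G ≤ A := by
    intro z hz
    by_contra hzA
    have hsup : A ⊔ Subgroup.zpowers z = ⊤ := by
      rw [← Subgroup.index_eq_one]
      have h1 : (A ⊔ Subgroup.zpowers z).index ∣ p := by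
        rw [← hAidx]
        exact Subgroup.index_dvd_of_le le_sup_left
      rcases (Nat.dvd_prime hp).mp h1 with h2 | h2
      · exact h2
      · exfalso
        have h3 := Subgroup.relIndex_mul_index (le_sup_left : A ≤ A ⊔ Subgroup.zpowers z)
        rw [h2, hAidx] at h3
        have h4 : A.relIndex (A ⊔ Subgroup.zpowers z) = 1 := by
          have : A.relIndex (A ⊔ Subgroup.zpowers z) * p = 1 * p := by rw [h3, one_mul]
          exact Nat.eq_of_mul_eq_mul_right hp.pos this
        have h5 := Subgroup.relIndex_eq_one.mp h4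
        exact hzA (h5 (le_sup_right (a := A) (Subgroup.mem_zpowers z)))
    have hdecomp : ∀ g : G, ∃ a ∈ A, ∃ w ∈ Subgroup.center G, a * w = g := by
      intro g
      have hg : g ∈ A ⊔ Subgroup.zpowers z := by rw [hsup]; exact Subgroup.mem_top g
      obtain ⟨a, ha, w, hw, rfl⟩ := Subgroup.mem_sup_of_normal_left.mp hg
      exact ⟨a, ha, w, (Subgroup.zpowers_le.mpr hz) hw, rfl⟩
    have hall : ∀ x g : G, x⁻¹ * g⁻¹ * x * g ∈ Subgroup.zpowers k := by
      intro x g
      obtain ⟨a, ha, w, hw, rfl⟩ := hdecomp x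
      obtain ⟨b, hb, v, hv, rfl⟩ := hdecomp g
      have hwc := Subgroup.mem_center_iff.mp hw
      have hvc := Subgroup.mem_center_iff.mp hv
      have h1 := hAK a⁻¹ (A.inv_mem ha) b⁻¹ (A.inv_mem hb)
      have h2 : (a * w)⁻¹ * (b * v)⁻¹ * (a * w) * (b * v) = a⁻¹ * b⁻¹ * a⁻¹⁻¹ * b⁻¹⁻¹ := by
        rw [inv_inv, inv_inv, mul_inv_rev, mul_inv_rev]
        have e1 : w⁻¹ * a⁻¹ * (v⁻¹ * b⁻¹) * (a * w) * (b * v) =
            a⁻¹ * b⁻¹ * a * b * (w⁻¹ * w) * (v⁻¹ * v) := by
          have hwi := Subgroup.mem_center_iff.mp (Subgroup.inv_mem _ hw)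
          have hvi := Subgroup.mem_center_iff.mp (Subgroup.inv_mem _ hv)
          calc w⁻¹ * a⁻¹ * (v⁻¹ * b⁻¹) * (a * w) * (b * v)
              = (w⁻¹ * a⁻¹) * (v⁻¹ * b⁻¹) * a * (w * b) * v := by group
            _ = (a⁻¹ * w⁻¹) * (b⁻¹ * v⁻¹) * a * (b * w) * v := by
                rw [← hwi a⁻¹, ← hvi b⁻¹, hwc b]
            _ = a⁻¹ * (w⁻¹ * b⁻¹) * (v⁻¹ * a) * b * w * v := by group
            _ = a⁻¹ * (b⁻¹ * w⁻¹) * (a * v⁻¹) * b * w * v := by rw [← hwi b⁻¹, hvi a]
            _ = a⁻¹ * b⁻¹ * (w⁻¹ * a) * (v⁻¹ * b) * w * v := by group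
            _ = a⁻¹ * b⁻¹ * (a * w⁻¹) * (b * v⁻¹) * w * v := by rw [hwi a, hvi b]
            _ = a⁻¹ * b⁻¹ * a * (w⁻¹ * b) * (v⁻¹ * w) * v := by group
            _ = a⁻¹ * b⁻¹ * a * (b * w⁻¹) * (w * v⁻¹) * v := by rw [hwi b, hvi w]
            _ = a⁻¹ * b⁻¹ * a * b * (w⁻¹ * w) * (v⁻¹ * v) := by group
        rw [e1]
        group
      rw [h2]
      exact h1
    have hGab : ∀ x : G, x ∈ Subgroup.center G := fun x => hZ2 x (hall x)
    apply hab₀
    exact Subgroup.mem_center_iff.mp (hGab b₀) a₀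
  -- characters nontrivial on `k` restrict irreducibly to `A`
  have hres : ∀ χ : IrrCharacter G, (χ : G → ℂ) k ≠ (χ : G → ℂ) 1 →
      IsIrrCharacter A (fun m : A => (χ : G → ℂ) m) := by
    intro χ hχk
    have hχp := degree_eq_of_ne p hcd hkc χ hχk
    rcases res_irr_or_comm A χ p hp hχp with h | h
    · exact h
    · exfalso
      apply hχk
      have h1 := h ⟨a₀, ha₀⟩ ⟨b₀, hb₀⟩
      exact mem_of_mem_zpowers_prime hkq hc₀K hc₀1 (Cfsg.Agent.S4835.irrKer χ) h1
  -- `|A| = |Z(A)| p²`
  obtain ⟨χ₀, hχ₀k, -⟩ := exists_irr_sep hk hk1 hk1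
  have hχ₀p := degree_eq_of_ne p hcd hkc χ₀ hχ₀k
  have hcardA : Nat.card (Subgroup.center A) * p ^ 2 = Nat.card A := by
    refine card_mul_sq_eq (⟨_, hres χ₀ hχ₀k⟩ : IrrCharacter A) (Subgroup.center A) le_rfl p hχ₀p ?_
    intro y hy
    show (χ₀ : G → ℂ) (y : G) = 0
    have hy' : ∃ a : A, a * y ≠ y * a := by
      by_contra h
      push Not at h
      exact hy (Subgroup.mem_center_iff.mpr h)
    obtain ⟨a, ha⟩ := hy'
    have hcK := hAK (y : G)⁻¹ (A.inv_mem y.2) (a : G)⁻¹ (A.inv_mem a.2)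
    rw [inv_inv, inv_inv] at hcK
    have hcne : (y : G)⁻¹ * (a : G)⁻¹ * y * a ≠ 1 := by
      intro h
      apply ha
      apply Subtype.ext
      show (a : G) * y = y * a
      calc (a : G) * y = y * a * ((y : G)⁻¹ * (a : G)⁻¹ * y * a)⁻¹ := by group
        _ = y * a := by rw [h, inv_one, mul_one]
    have hcc := hKc hcK
    refine vanish_of_conj χ₀ (g := (a : G)) hcc ?_ ?_
    · rw [← Subgroup.mem_center_iff.mp hcc (y : G)]
      group
    · intro h
      apply hχ₀k
      exact mem_of_mem_zpowers_prime hkq hcK hcne (Cfsg.Agent.S4835.irrKer χ₀) h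
  -- `Z(A) = Z(G)`
  have hZeq : (Subgroup.center A).map A.subtype = Subgroup.center G := by
    apply le_antisymm
    · rintro _ ⟨y, hy, rfl⟩
      rw [Subgroup.mem_center_iff]
      intro g
      by_contra hne
      have hyc := Subgroup.mem_center_iff.mp hy
      set y' : A := ⟨g⁻¹ * (y : G) * g, by
        have := hAn.conj_mem y y.2 g⁻¹
        rwa [inv_inv] at this⟩ with hy'
      have hy'c : y' ∈ Subgroup.center A := by
        rw [Subgroup.mem_center_iff]
        intro m
        apply Subtype.ext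
        show (m : G) * (g⁻¹ * (y : G) * g) = (g⁻¹ * (y : G) * g) * m
        have h1 := congrArg Subtype.val
          (hyc ⟨g * (m : G) * g⁻¹, hAn.conj_mem m m.2 g⟩)
        simp only [Subgroup.coe_mul] at h1
        calc (m : G) * (g⁻¹ * (y : G) * g) = g⁻¹ * ((g * (m : G) * g⁻¹) * y) * g := by group
          _ = g⁻¹ * ((y : G) * (g * (m : G) * g⁻¹)) * g := by rw [h1]
          _ = (g⁻¹ * (y : G) * g) * m := by group
      set c : A := y⁻¹ * y' with hc
      have hcc : c ∈ Subgroup.center A := Subgroup.mul_mem _ (Subgroup.inv_mem _ hy) hy'c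
      have hc1 : (c : G) ≠ 1 := by
        intro h
        apply hne
        have h2 : (y : G)⁻¹ * (g⁻¹ * (y : G) * g) = 1 := h
        calc g * (y : G) = (y : G) * g * ((y : G)⁻¹ * (g⁻¹ * (y : G) * g))⁻¹ := by group
          _ = (y : G) * g := by rw [h2, inv_one, mul_one]
      obtain ⟨χ, hχk, hχc⟩ := exists_irr_sep hk hk1 hc1
      have hχp := degree_eq_of_ne p hcd hkc χ hχk
      set θ : IrrCharacter A := ⟨_, hres χ hχk⟩ with hθ
      have h1 := central_mul θ hcc y
      have h2 : c * y = y' := by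
        rw [hc, mul_assoc, hyc y', ← mul_assoc, inv_mul_cancel, one_mul]
      rw [h2] at h1
      have h3 : (θ : A → ℂ) y' = (θ : A → ℂ) y := by
        show (χ : G → ℂ) (g⁻¹ * (y : G) * g) = (χ : G → ℂ) y
        have := Cfsg.Agent.Lib.Helper80_CharBasic.irr_conj χ (y : G) g⁻¹
        rwa [inv_inv] at this
      rw [h3] at h1
      have h4 : (θ : A → ℂ) y ≠ 0 := by
        intro h0
        have h5 := central_norm θ hy
        rw [h0] at h5
        have h6 : (θ : A → ℂ) 1 = p := hχp
        rw [h6] at h5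
        simp at h5
        exact hp.ne_zero (by exact_mod_cast h5.symm)
      have h5 : (θ : A → ℂ) c = (θ : A → ℂ) 1 := by
        apply mul_right_cancel₀ h4
        rw [← h1, mul_comm]
      exact hχc h5
    · intro z hz
      refine ⟨⟨z, hZA hz⟩, ?_, rfl⟩
      show (⟨z, hZA hz⟩ : A) ∈ Subgroup.center A
      rw [Subgroup.mem_center_iff]
      intro m
      apply Subtype.ext
      exact Subgroup.mem_center_iff.mp hz m
  have hcardZ : Nat.card (Subgroup.center G) = Nat.card (Subgroup.center A) := by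
    rw [← hZeq]
    exact Subgroup.card_map_of_injective A.subtype_injective
  have h1 := Subgroup.card_mul_index (Subgroup.center G)
  have h2 := Subgroup.card_mul_index A
  rw [hAidx, ← hcardA, ← hcardZ] at h2
  have h3 : Nat.card (Subgroup.center G) * (Subgroup.center G).index =
      Nat.card (Subgroup.center G) * p ^ 3 := by
    rw [h1, ← h2]
    ring
  exact Nat.eq_of_mul_eq_mul_left Nat.card_pos h3

/-- **Isaacs 12.11, nilpotent part** -/
theorem main : ∀ (n : ℕ) (G : Type u) [Group G] [Finite G] [Group.IsNilpotent G],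
    Nat.card G = n → ∀ p : ℕ, p.Prime →
    (∀ χ : IrrCharacter G, (χ : G → ℂ) 1 = 1 ∨ (χ : G → ℂ) 1 = p) →
    (∃ a b : G, a * b ≠ b * a) →
    (∃ A : Subgroup G, A.Normal ∧ (∀ a ∈ A, ∀ b ∈ A, a * b = b * a) ∧ A.index = p) ∨
      (Subgroup.center G).index = p ^ 3 := by
  intro n
  induction n using Nat.strong_induction_on with
  | _ n ih =>
    intro G _ _ _ hn p hp hcd hnab
    classical
    have : Fintype G := Fintype.ofFinite G
    -- a central subgroup of prime order inside `G'`
    have hG' : commutator G ≠ ⊥ := by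
      intro h
      obtain ⟨a, b, hab⟩ := hnab
      apply hab
      have h1 : a * b * a⁻¹ * b⁻¹ ∈ commutator G := by
        rw [commutator_def, ← commutatorElement_def]
        exact Subgroup.commutator_mem_commutator (Subgroup.mem_top a) (Subgroup.mem_top b)
      rw [h, Subgroup.mem_bot] at h1
      calc a * b = (a * b * a⁻¹ * b⁻¹) * (b * a) := by group
        _ = b * a := by rw [h1, one_mul]
    have hG'n : (commutator G).Normal := by
      rw [commutator_def]
      infer_instance
    obtain ⟨x, hxc, hx1, hxZ⟩ := Cfsg.Agent.S0015.exists_ne_one_mem_center (commutator G) hG'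
    have hox : orderOf x ≠ 1 := fun h => hx1 (orderOf_eq_one_iff.mp h)
    obtain ⟨q, hq, hqx⟩ := Nat.exists_prime_and_dvd hox
    set k : G := x ^ (orderOf x / q) with hk
    have hkq' : orderOf k = q := orderOf_pow_orderOf_div (orderOf_pos x).ne' hqx
    have hkq : (orderOf k).Prime := by rw [hkq']; exact hq
    have hk1 : k ≠ 1 := by
      intro h
      rw [h, orderOf_one] at hkq
      exact Nat.not_prime_one hkq
    have hkZ : k ∈ Subgroup.center G := Subgroup.pow_mem _ hxZ _
    have hkc : k ∈ commutator G := Subgroup.pow_mem _ hxc _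
    have hKc : Subgroup.zpowers k ≤ Subgroup.center G := Subgroup.zpowers_le.mpr hkZ
    by_cases hZ2 : ∀ z : G, (∀ g : G, z⁻¹ * g⁻¹ * z * g ∈ Subgroup.zpowers k) →
        z ∈ Subgroup.center G
    swap
    · push Not at hZ2
      obtain ⟨z, hzK, hz⟩ := hZ2
      left
      exact exists_abelian_of_central_mod p hp hcd k hkZ hk1 hkq hkc z hz hzK
    -- the quotient
    have hKn : (Subgroup.zpowers k).Normal := Cfsg.Agent.Lib.Helper32_PGroup.normal_of_le_center _ hKc
    have hmk : ∀ g : G, (QuotientGroup.mk g : G ⧸ Subgroup.zpowers k) = 1 ↔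
        g ∈ Subgroup.zpowers k := fun g => QuotientGroup.eq_one_iff g
    have hQnab : ∃ a b : G ⧸ Subgroup.zpowers k, a * b ≠ b * a := by
      by_contra h
      push Not at h
      have hall : ∀ z : G, z ∈ Subgroup.center G := by
        intro z
        apply hZ2 z
        intro g
        rw [← hmk]
        simp only [QuotientGroup.mk_mul, QuotientGroup.mk_inv]
        rw [h (QuotientGroup.mk z)⁻¹ (QuotientGroup.mk g)⁻¹, mul_assoc, mul_assoc,
          inv_mul_cancel_left, inv_mul_cancel]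
      obtain ⟨a, b, hab⟩ := hnab
      exact hab (Subgroup.mem_center_iff.mp (hall b) a)
    have hcardlt : Nat.card (G ⧸ Subgroup.zpowers k) < n := by
      rw [← hn, Subgroup.card_eq_card_quotient_mul_card_subgroup (Subgroup.zpowers k)]
      have h1 : 1 < Nat.card (Subgroup.zpowers k) := by
        rw [Nat.card_zpowers]
        exact hkq.one_lt
      have h2 : 0 < Nat.card (G ⧸ Subgroup.zpowers k) := Nat.card_pos
      nlinarith
    have hcdQ : ∀ χ : IrrCharacter (G ⧸ Subgroup.zpowers k),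
        (χ : G ⧸ Subgroup.zpowers k → ℂ) 1 = 1 ∨ (χ : G ⧸ Subgroup.zpowers k → ℂ) 1 = p := by
      intro χ
      exact hcd ⟨_, Cfsg.Agent.Lib.Helper57_FrobNorm.isIrrCharacter_comp_surjective
        (QuotientGroup.mk' (Subgroup.zpowers k)) (QuotientGroup.mk'_surjective _) χ.2⟩
    have hsurj : Function.Surjective (QuotientGroup.mk' (Subgroup.zpowers k)) :=
      QuotientGroup.mk'_surjective _
    rcases ih _ hcardlt (G ⧸ Subgroup.zpowers k) rfl p hp hcdQ hQnab with
      ⟨Abar, -, hAbab, hAbidx⟩ | hQidx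
    · -- an abelian subgroup of index `p` in the quotient
      set A : Subgroup G := Abar.comap (QuotientGroup.mk' (Subgroup.zpowers k)) with hA
      have hAidx : A.index = p := by
        rw [hA, Subgroup.index_comap_of_surjective _ hsurj]
        exact hAbidx
      have hAK : ∀ x ∈ A, ∀ y ∈ A, x * y * x⁻¹ * y⁻¹ ∈ Subgroup.zpowers k := by
        intro x hx y hy
        rw [← hmk]
        simp only [QuotientGroup.mk_mul, QuotientGroup.mk_inv]
        have h1 := hAbab _ (Subgroup.mem_comap.mp hx) _ (Subgroup.mem_comap.mp hy)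
        simp only [QuotientGroup.mk'_apply] at h1
        rw [h1, mul_assoc, mul_assoc, mul_inv_cancel_left, mul_inv_cancel]
      by_cases hAab : ∀ a ∈ A, ∀ b ∈ A, a * b = b * a
      · left
        exact ⟨A, normal_of_index_prime A hp hAidx, hAab, hAidx⟩
      · right
        push Not at hAab
        exact index_center_of_index_p p hp hcd k hkZ hk1 hkq hkc hZ2 A hAidx hAK hAab
    · -- the centre of the quotient has index `p ^ 3`
      right
      have h1 : (Subgroup.center (G ⧸ Subgroup.zpowers k)).comap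
          (QuotientGroup.mk' (Subgroup.zpowers k)) = Subgroup.center G := by
        apply le_antisymm
        · intro z hz
          apply hZ2 z
          intro g
          rw [Subgroup.mem_comap, Subgroup.mem_center_iff] at hz
          rw [← hmk]
          simp only [QuotientGroup.mk_mul, QuotientGroup.mk_inv]
          have h2 := hz (QuotientGroup.mk g)⁻¹
          simp only [QuotientGroup.mk'_apply] at h2
          rw [mul_assoc (QuotientGroup.mk z)⁻¹, h2, inv_mul_cancel_left, inv_mul_cancel]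
        · intro z hz
          rw [Subgroup.mem_comap, Subgroup.mem_center_iff]
          intro g
          obtain ⟨g, rfl⟩ := hsurj g
          rw [← map_mul, ← map_mul, Subgroup.mem_center_iff.mp hz g]
      rw [← h1, Subgroup.index_comap_of_surjective _ hsurj]
      exact hQidx

end Cfsg.Agent.Lib.Helper74_DegPGroup
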