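import Cfsg.Agent.Lib.Helper4_E8Defs

set_option autoImplicit false

/-!
Package CONNJ of the S5751 market (architect helper4): in each level `j = 2, …, 6` of the grading of the roots of `E₈`
by the coefficient on `p₄`, every positive root is joined to a root `b` with `A_{p₄,b} = 1` by translations by roots of
level `0`.  Verified by explicit certificates (lists of steps `(r, β, s)`, `s = β + r`).
-/

namespace Cfsg.Agent.Lib.Helper74_E8C_CONNJ

open Cfsg Cfsg.Lie Cfsg.Agent.Lib.Helper18_MatTri Cfsg.Agent.Lib.Helper18_ChevTri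
  Cfsg.Agent.Lib.Helper4_E8Defs

/-- check of one step `(r, β, s)` of a certificate against the list of the roots already known -/
def stepOK (j : ℕ) (known : List ℕ) (st : ℕ × ℕ × ℕ) : Bool :=
  decide (st.2.1 < 240) && decide (lv st.2.1 = 0) && decide (D8.IsPosRoot st.1) &&
    decide (lv st.1 = (j : ℤ)) && decide (D8.chainRoot st.2.1 st.1 1 = some st.2.2) &&
    decide (st.2.2 ∈ known)

/-- run a certificate -/
def runCert (j : ℕ) : List ℕ → List (ℕ × ℕ × ℕ) → Option (List ℕ)
  | known, [] => some known
  | known, st :: rest => if stepOK j known st then runCert j (st.1 :: known) rest else none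

/-- the positive roots of level `j` -/
def levelRoots (j : ℕ) : List ℕ := D8.posRoots.filter fun r => decide (lv r = (j : ℤ))

/-- the positive roots `b` of level `j` with `A_{p₄,b} = 1` -/
def baseRoots (j : ℕ) : List ℕ := (levelRoots j).filter fun b => decide (D8.cartan 3 b = 1)

/-- the certificate proves the connectivity of the level `j` -/
def certOK (j : ℕ) (steps : List (ℕ × ℕ × ℕ)) : Bool :=
  match runCert j (baseRoots j) steps with
  | some known => (levelRoots j).all fun r => decide (r ∈ known)
  | none => false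

theorem nroots_eq : D8.nroots = 240 := by decide +kernel

theorem inRootSub_of_lv {β : ℕ} (h1 : β < 240) (h2 : lv β = 0) : D8.InRootSub J3 β := by
  unfold ChevalleyDatum.InRootSub
  refine ⟨?_, ?_⟩
  · rw [nroots_eq]
    exact h1
  intro i _ hiJ
  have hi3 : i = 3 := by
    by_contra hne
    exact hiJ hne
  subst hi3
  unfold lv at h2
  exact h2

theorem runCert_sound (j : ℕ) (Z : ℕ → Prop)
    (hstep : ∀ β r s, D8.InRootSub J3 β → D8.IsPosRoot r → lv r = j →
      D8.chainRoot β r 1 = some s → Z s → Z r) :
    ∀ (steps : List (ℕ × ℕ × ℕ)) (known final : List ℕ), (∀ x ∈ known, Z x) →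
      runCert j known steps = some final → ∀ x ∈ final, Z x := by
  intro steps
  induction steps with
  | nil =>
    intro known final hk hrun
    simp only [runCert, Option.some.injEq] at hrun
    subst hrun
    exact hk
  | cons st rest ih =>
    intro known final hk hrun
    simp only [runCert] at hrun
    split_ifs at hrun with hok
    refine ih (st.1 :: known) final ?_ hrun
    simp only [stepOK, Bool.and_eq_true, decide_eq_true_eq] at hok
    obtain ⟨⟨⟨⟨⟨h1, h2⟩, h3⟩, h4⟩, h5⟩, h6⟩ := hok
    intro x hx
    rcases List.mem_cons.mp hx with rfl | hx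
    · exact hstep st.2.1 st.1 st.2.2 (inRootSub_of_lv h1 h2) h3 h4 h5 (hk _ h6)
    · exact hk x hx

theorem conn_of_cert (j : ℕ) (steps : List (ℕ × ℕ × ℕ)) (hcert : certOK j steps = true)
    (Z : ℕ → Prop)
    (hstep : ∀ β r s, D8.InRootSub J3 β → D8.IsPosRoot r → lv r = j →
      D8.chainRoot β r 1 = some s → Z s → Z r)
    (hbase : ∀ b, D8.IsPosRoot b → lv b = j → D8.cartan 3 b = 1 → Z b) :
    ∀ r, D8.IsPosRoot r → lv r = j → Z r := by
  intro r hr hlr
  have hmemL : ∀ x, x ∈ levelRoots j ↔ D8.IsPosRoot x ∧ lv x = j := by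
    intro x
    unfold levelRoots ChevalleyDatum.posRoots
    simp only [List.mem_filter, List.mem_range, decide_eq_true_eq]
    constructor
    · rintro ⟨⟨-, h1⟩, h2⟩
      exact ⟨h1, h2⟩
    · rintro ⟨h1, h2⟩
      exact ⟨⟨h1.1, h1⟩, h2⟩
  have hbase' : ∀ x ∈ baseRoots j, Z x := by
    intro x hx
    unfold baseRoots at hx
    simp only [List.mem_filter, decide_eq_true_eq] at hx
    obtain ⟨h1, h2⟩ := hx
    obtain ⟨h3, h4⟩ := (hmemL x).mp h1
    exact hbase x h3 h4 h2
  unfold certOK at hcert
  split at hcert
  · rename_i known hrun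
    have hall := runCert_sound j Z hstep steps (baseRoots j) known hbase' hrun
    rw [List.all_eq_true] at hcert
    have := hcert r ((hmemL r).mpr ⟨hr, hlr⟩)
    simp only [decide_eq_true_eq] at this
    exact hall r this
  · exact absurd hcert (by simp)

/-- the certificates -/
def cert2 : List (ℕ × ℕ × ℕ) :=
  [(156, 112, 152), (157, 111, 152), (158, 110, 152), (159, 111, 153), (160, 110, 153),
    (161, 110, 154), (178, 77, 156), (179, 77, 157), (180, 77, 158), (181, 77, 159), (182, 77, 160),
    (183, 77, 161), (184, 76, 152), (185, 76, 153), (186, 76, 154), (187, 76, 155), (188, 76, 156),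
    (189, 76, 157), (190, 76, 158), (191, 76, 159), (192, 76, 160), (193, 76, 161)]

def cert3 : List (ℕ × ℕ × ℕ) :=
  [(200, 111, 194), (201, 110, 194), (202, 110, 195), (203, 110, 197), (204, 98, 194),
    (205, 98, 195), (206, 98, 196), (207, 98, 197), (208, 98, 198), (209, 98, 199), (210, 98, 200),
    (211, 98, 201), (212, 98, 202), (213, 98, 203)]

def cert4 : List (ℕ × ℕ × ℕ) :=
  [(218, 110, 214), (219, 104, 214), (220, 104, 215), (221, 104, 216), (222, 104, 217),
    (223, 104, 218), (226, 76, 214), (227, 76, 215), (228, 76, 216), (229, 76, 217), (230, 76, 218)]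

def cert5 : List (ℕ × ℕ × ℕ) :=
  [(225, 98, 224), (232, 76, 224), (233, 77, 225), (234, 76, 225)]

def cert6 : List (ℕ × ℕ × ℕ) :=
  [(236, 113, 235), (237, 112, 235), (238, 111, 235), (239, 110, 235)]

theorem cert2_ok : certOK 2 cert2 = true := by decide +kernel
theorem cert3_ok : certOK 3 cert3 = true := by decide +kernel
theorem cert4_ok : certOK 4 cert4 = true := by decide +kernel
theorem cert5_ok : certOK 5 cert5 = true := by decide +kernel
theorem cert6_ok : certOK 6 cert6 = true := by decide +kernel

/-- CONNJ.  Connectivity of the levels 2, …, 6. -/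
theorem conn_ge_two (j : ℕ) (hj : 2 ≤ j) (hj6 : j ≤ 6) (Z : ℕ → Prop)
    (hstep : ∀ β r s, D8.InRootSub J3 β → D8.IsPosRoot r → lv r = j → D8.chainRoot β r 1 = some s → Z s → Z r)
    (hbase : ∀ b, D8.IsPosRoot b → lv b = j → D8.cartan 3 b = 1 → Z b) :
    ∀ r, D8.IsPosRoot r → lv r = j → Z r := by
  interval_cases j
  · exact conn_of_cert 2 cert2 cert2_ok Z hstep hbase
  · exact conn_of_cert 3 cert3 cert3_ok Z hstep hbase
  · exact conn_of_cert 4 cert4 cert4_ok Z hstep hbase
  · exact conn_of_cert 5 cert5 cert5_ok Z hstep hbase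
  · exact conn_of_cert 6 cert6 cert6_ok Z hstep hbase

end Cfsg.Agent.Lib.Helper74_E8C_CONNJ
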