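import Cfsg.Agent.Lib.Helper74_FS

/-!
# Frobenius–Schur indicator, part 2 (helper74): trichotomy `ν ∈ {0, 1, -1}`

Everything lives in `Cfsg.Agent.Lib.Helper74_FS`.
-/

set_option autoImplicit false

namespace Cfsg.Agent.Lib.Helper74_FS

open scoped ComplexConjugate Matrix ComplexOrder

variable {G : Type*} [Group G]

section General

variable [Fintype G] {n : ℕ} (ρ : Representation ℂ G (Fin n → ℂ))

/-- Version of the one-dimensionality statement that only needs `[χ, χ̄] = 1`. -/
theorem finrank_invariants_formRep_of_sum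
    (hsum : (Nat.card G : ℂ)⁻¹ * ∑ g : G, ρ.character g * ρ.character g = 1) :
    Module.finrank ℂ (formRep ρ).invariants = 1 := by
  have h := finrank_invariants_formRep ρ
  rw [hsum] at h
  exact_mod_cast h

/-- Version of `transpose_eq_fsInd_smul` that only needs `[χ, χ̄] = 1`. -/
theorem transpose_eq_fsInd_smul_of_sum
    (hsum : (Nat.card G : ℂ)⁻¹ * ∑ g : G, ρ.character g * ρ.character g = 1)
    (M : Matrix (Fin n) (Fin n) ℂ) (hM : M ∈ (formRep ρ).invariants) :
    Mᵀ = fsInd ρ.character • M := by
  have hfr := finrank_invariants_formRep_of_sum ρ hsum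
  obtain ⟨⟨M₀, hM₀I⟩, hM₀ne, hspan⟩ := finrank_eq_one_iff'.mp hfr
  obtain ⟨c, hc⟩ := hspan ⟨M₀ᵀ, transpose_mem_invariants ρ M₀ hM₀I⟩
  have hc' : M₀ᵀ = c • M₀ := by
    have := congrArg Subtype.val hc
    simpa using this.symm
  have hall : ∀ w ∈ (formRep ρ).invariants, wᵀ = c • w := by
    intro w hw
    obtain ⟨a, ha⟩ := hspan ⟨w, hw⟩
    have ha' : w = a • M₀ := by
      have := congrArg Subtype.val ha
      simpa using this.symm
    rw [ha', Matrix.transpose_smul, hc', smul_comm]
  have : Invertible (Fintype.card G : ℂ) :=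
    invertibleOfNonzero (Nat.cast_ne_zero.mpr Fintype.card_ne_zero)
  have hproj := (formRep ρ).isProj_averageMap
  have hcomp : (transposeLin (Fin n)).comp (formRep ρ).averageMap = c • (formRep ρ).averageMap := by
    ext1 w
    simp only [LinearMap.coe_comp, Function.comp_apply, transposeLin_apply, LinearMap.smul_apply]
    exact hall _ (hproj.map_mem w)
  have htr := trace_transpose_average ρ
  rw [← averageMap_formRep_eq, hcomp, map_smul, hproj.trace, hfr] at htr
  have hcν : c = fsInd ρ.character := by simpa using htr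
  rw [← hcν]
  exact hall M hM

/-- If there are no invariant forms, the indicator vanishes. -/
theorem fsInd_eq_zero_of_invariants_eq_bot (h : (formRep ρ).invariants = ⊥) :
    fsInd ρ.character = 0 := by
  have : Invertible (Fintype.card G : ℂ) :=
    invertibleOfNonzero (Nat.cast_ne_zero.mpr Fintype.card_ne_zero)
  have hproj := (formRep ρ).isProj_averageMap
  have hzero : (formRep ρ).averageMap = 0 := by
    ext1 w
    have := hproj.map_mem w
    rw [h, Submodule.mem_bot] at this
    simpa using this
  have htr := trace_transpose_average ρ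
  rw [← averageMap_formRep_eq, hzero] at htr
  simpa using htr.symm

omit [Fintype G] in
/-- invariance rewritten: `M X(g) = X(g⁻¹)ᵀ M`. -/
theorem invariant_mul_mat (M : Matrix (Fin n) (Fin n) ℂ) (hM : M ∈ (formRep ρ).invariants)
    (g : G) : M * mat ρ g = (mat ρ g⁻¹)ᵀ * M := by
  rw [mem_invariants_formRep] at hM
  have h := hM g
  calc M * mat ρ g = ((mat ρ g⁻¹)ᵀ * (mat ρ g)ᵀ) * M * mat ρ g := by
        rw [← Matrix.transpose_mul, mat_mul_inv, Matrix.transpose_one, Matrix.one_mul]
    _ = (mat ρ g⁻¹)ᵀ * ((mat ρ g)ᵀ * M * mat ρ g) := by simp only [Matrix.mul_assoc]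
    _ = _ := by rw [h]

/-- The kernel of an invariant form is a subrepresentation. -/
def kerForm (M : Matrix (Fin n) (Fin n) ℂ) (hM : M ∈ (formRep ρ).invariants) :
    Subrepresentation ρ where
  toSubmodule := LinearMap.ker (Matrix.toLin' M)
  apply_mem_toSubmodule g v hv := by
    rw [LinearMap.mem_ker, Matrix.toLin'_apply] at hv ⊢
    have h1 : ρ g v = (mat ρ g) *ᵥ v := by
      unfold mat
      rw [← Matrix.toLin'_apply, Matrix.toLin'_toMatrix']
    rw [h1, Matrix.mulVec_mulVec, invariant_mul_mat ρ M hM g, ← Matrix.mulVec_mulVec, hv,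
      Matrix.mulVec_zero]

omit [Fintype G] in
/-- A nonzero invariant form of an irreducible representation is invertible. -/
theorem isUnit_of_invariant [ρ.IsIrreducible] (M : Matrix (Fin n) (Fin n) ℂ)
    (hM : M ∈ (formRep ρ).invariants) (hM0 : M ≠ 0) : IsUnit M := by
  rcases eq_bot_or_eq_top (kerForm ρ M hM) with h | h
  · rw [← Matrix.mulVec_injective_iff_isUnit]
    have hker : LinearMap.ker (Matrix.toLin' M) = ⊥ := by
      have := congrArg Subrepresentation.toSubmodule h
      exact this
    have hinj := LinearMap.ker_eq_bot.mp hker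
    intro v w hvw
    apply hinj
    simpa [Matrix.toLin'_apply] using hvw
  · exfalso
    apply hM0
    have hker : LinearMap.ker (Matrix.toLin' M) = ⊤ := by
      have := congrArg Subrepresentation.toSubmodule h
      exact this
    have h0 : Matrix.toLin' M = 0 := LinearMap.ker_eq_top.mp hker
    have := congrArg LinearMap.toMatrix' h0
    simpa using this

/-- If an irreducible representation has a nonzero invariant form then its character is real. -/
theorem real_of_invariant [ρ.IsIrreducible] (M : Matrix (Fin n) (Fin n) ℂ)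
    (hM : M ∈ (formRep ρ).invariants) (hM0 : M ≠ 0) (g : G) : (ρ.character g).im = 0 := by
  have hu := isUnit_of_invariant ρ M hM hM0
  have hdet : IsUnit M.det := (Matrix.isUnit_iff_isUnit_det M).mp hu
  have h1 := invariant_mul_mat ρ M hM g
  -- `X(g⁻¹)ᵀ = M X(g) M⁻¹`
  have h2 : (mat ρ g⁻¹)ᵀ = M * mat ρ g * M⁻¹ := by
    rw [h1, Matrix.mul_assoc, Matrix.mul_nonsing_inv _ hdet, Matrix.mul_one]
  have h3 : ρ.character g⁻¹ = ρ.character g := by
    rw [character_eq_trace, character_eq_trace, ← Matrix.trace_transpose, h2,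
      Matrix.trace_mul_cycle, Matrix.nonsing_inv_mul _ hdet, Matrix.one_mul]
  rw [character_inv] at h3
  exact Complex.conj_eq_iff_im.mp h3

/-- **Frobenius–Schur trichotomy** for an irreducible matrix representation. -/
theorem fsInd_trichotomy [ρ.IsIrreducible] :
    (fsInd ρ.character = 0 ∧ (formRep ρ).invariants = ⊥) ∨
      ((∀ g : G, (ρ.character g).im = 0) ∧
        (fsInd ρ.character = 1 ∨ fsInd ρ.character = -1)) := by
  by_cases hI : (formRep ρ).invariants = ⊥
  · exact Or.inl ⟨fsInd_eq_zero_of_invariants_eq_bot ρ hI, hI⟩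
  · right
    obtain ⟨M, hM, hM0⟩ := (Submodule.ne_bot_iff _).mp hI
    have hreal : ∀ g : G, (ρ.character g).im = 0 := real_of_invariant ρ M hM hM0
    refine ⟨hreal, ?_⟩
    have h1 := transpose_eq_fsInd_smul ρ hreal M hM
    have h2 := transpose_eq_fsInd_smul ρ hreal Mᵀ (transpose_mem_invariants ρ M hM)
    rw [Matrix.transpose_transpose, h1, smul_smul] at h2
    have h3 : (fsInd ρ.character * fsInd ρ.character - 1) • M = 0 := by
      rw [sub_smul, one_smul, ← h2, sub_self]
    rcases smul_eq_zero.mp h3 with h | h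
    · have : (fsInd ρ.character - 1) * (fsInd ρ.character + 1) = 0 := by ring_nf; ring_nf at h; exact h
      rcases mul_eq_zero.mp this with h' | h'
      · left; exact sub_eq_zero.mp h'
      · right; exact eq_neg_of_add_eq_zero_left h'
    · exact absurd h hM0

end General

end Cfsg.Agent.Lib.Helper74_FS
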