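import Cfsg.Agent.Lib.Helper74_FS3

/-!
# Frobenius–Schur indicator, part 4 (helper74): real representations

`ν(χ) = 1` iff `χ` is afforded by a real representation (semilinear structure map `v ↦ A v̄`,
Schur, positivity, Hilbert 90 for `GL_n(ℂ)/ℝ`).

Everything lives in `Cfsg.Agent.Lib.Helper74_FS`.
-/

set_option autoImplicit false

namespace Cfsg.Agent.Lib.Helper74_FS

open scoped ComplexConjugate Matrix ComplexOrder

variable {G : Type*} [Group G]

section Cj

variable {n : ℕ}

/-- entrywise complex conjugate of a matrix -/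
noncomputable def cj (M : Matrix (Fin n) (Fin n) ℂ) : Matrix (Fin n) (Fin n) ℂ :=
  M.map (starRingEnd ℂ)

theorem cj_apply (M : Matrix (Fin n) (Fin n) ℂ) (i j : Fin n) : cj M i j = conj (M i j) := rfl

theorem cj_mul (M N : Matrix (Fin n) (Fin n) ℂ) : cj (M * N) = cj M * cj N := by
  unfold cj
  exact Matrix.map_mul

theorem cj_cj (M : Matrix (Fin n) (Fin n) ℂ) : cj (cj M) = M := by
  ext i j
  simp [cj_apply]

theorem cj_one : cj (1 : Matrix (Fin n) (Fin n) ℂ) = 1 := by
  unfold cj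
  exact Matrix.map_one _ (map_zero _) (map_one _)

theorem cj_smul (c : ℂ) (M : Matrix (Fin n) (Fin n) ℂ) : cj (c • M) = conj c • cj M := by
  ext i j
  simp [cj_apply]

theorem cj_add (M N : Matrix (Fin n) (Fin n) ℂ) : cj (M + N) = cj M + cj N := by
  ext i j
  simp [cj_apply]

theorem cj_transpose (M : Matrix (Fin n) (Fin n) ℂ) : cj Mᵀ = Mᴴ := by
  ext i j
  simp [cj_apply, Matrix.conjTranspose_apply]

theorem cj_injective : Function.Injective (cj : Matrix (Fin n) (Fin n) ℂ → _) := by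
  intro M N h
  rw [← cj_cj M, ← cj_cj N, h]

theorem cj_mulVec (M : Matrix (Fin n) (Fin n) ℂ) (v : Fin n → ℂ) :
    star (M *ᵥ v) = cj M *ᵥ star v := by
  ext i
  simp [Matrix.mulVec, dotProduct, cj_apply]

theorem det_cj (M : Matrix (Fin n) (Fin n) ℂ) : (cj M).det = conj M.det := by
  unfold cj
  rw [← RingHom.mapMatrix_apply, ← RingHom.map_det]

/-- **Hilbert 90** for `GL_n(ℂ)` over `ℝ`. -/
theorem hilbert90 (A : Matrix (Fin n) (Fin n) ℂ) (hA : A * cj A = 1) :
    ∃ P : Matrix (Fin n) (Fin n) ℂ, IsUnit P.det ∧ A * cj P = P := by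
  classical
  let f : ℕ → ℂ := fun k => -(((1 : ℂ) + Complex.I * k) / (1 - Complex.I * k))
  have hden : ∀ k : ℕ, (1 : ℂ) - Complex.I * k ≠ 0 := by
    intro k h
    have := congrArg Complex.re h
    simp at this
  have hf : Function.Injective f := by
    intro a b hab
    simp only [f, neg_inj] at hab
    rw [div_eq_div_iff (hden a) (hden b)] at hab
    have h2 : (2 * Complex.I) * ((a : ℂ) - b) = 0 := by linear_combination hab
    have h3 : (a : ℂ) - b = 0 := by
      rcases mul_eq_zero.mp h2 with h | h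
      · exfalso
        have := congrArg Complex.im h
        simp at this
      · exact h
    exact_mod_cast sub_eq_zero.mp h3
  obtain ⟨z, ⟨k, rfl⟩, hk⟩ :=
    (Set.infinite_range_of_injective hf).exists_notMem_finset A.charpoly.roots.toFinset
  set θ : ℂ := 1 + Complex.I * k with hθ
  have hcθ : conj θ = 1 - Complex.I * k := by
    rw [hθ]; simp [sub_eq_add_neg]
  have hcθ0 : conj θ ≠ 0 := by rw [hcθ]; exact hden k
  refine ⟨θ • 1 + conj θ • A, ?_, ?_⟩
  · -- determinant
    have hroot : Polynomial.eval (f k) A.charpoly ≠ 0 := by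
      intro h
      apply hk
      rw [Multiset.mem_toFinset, Polynomial.mem_roots (Matrix.charpoly_monic A).ne_zero]
      exact h
    rw [Matrix.eval_charpoly] at hroot
    have hP : θ • (1 : Matrix (Fin n) (Fin n) ℂ) + conj θ • A =
        (-conj θ) • (Matrix.scalar (Fin n) (f k) - A) := by
      have hfk : (-conj θ) * f k = θ := by
        simp only [f]
        rw [hcθ]
        field_simp [hden k]
        rw [hθ]
      ext i j
      by_cases hij : i = j
      · subst hij
        simp only [Matrix.add_apply, Matrix.smul_apply, Matrix.one_apply_eq, smul_eq_mul,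
          Matrix.sub_apply, Matrix.scalar_apply, Matrix.diagonal_apply_eq]
        rw [mul_sub, hfk]; ring
      · simp only [Matrix.add_apply, Matrix.smul_apply, Matrix.one_apply_ne hij, smul_eq_mul,
          Matrix.sub_apply, Matrix.scalar_apply, Matrix.diagonal_apply_ne _ hij]
        ring
    rw [hP, Matrix.det_smul]
    exact isUnit_iff_ne_zero.mpr (mul_ne_zero (pow_ne_zero _ (neg_ne_zero.mpr hcθ0)) hroot)
  · rw [cj_add, cj_smul, cj_smul, cj_one, Complex.conj_conj, Matrix.mul_add, Matrix.mul_smul,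
      Matrix.mul_smul, Matrix.mul_one, hA, add_comm]

end Cj

section Schur

variable {n : ℕ} (ρ : Representation ℂ G (Fin n → ℂ))

theorem rho_eq_toLin' (g : G) : ρ g = Matrix.toLin' (mat ρ g) := by
  unfold mat
  rw [Matrix.toLin'_toMatrix']

/-- Schur's lemma for matrices commuting with an irreducible matrix representation. -/
theorem schur_matrix [ρ.IsIrreducible] (B : Matrix (Fin n) (Fin n) ℂ)
    (hB : ∀ g : G, B * mat ρ g = mat ρ g * B) : ∃ c : ℂ, B = c • (1 : Matrix (Fin n) (Fin n) ℂ) := by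
  let f : Representation.IntertwiningMap ρ ρ :=
    ⟨Matrix.toLin' B, fun g => by
      rw [rho_eq_toLin', ← Matrix.toLin'_mul, ← Matrix.toLin'_mul, hB g]⟩
  obtain ⟨c, hc⟩ :=
    (Representation.IsIrreducible.algebraMap_intertwiningMap_bijective_of_isAlgClosed
      (ρ := ρ)).surjective f
  refine ⟨c, ?_⟩
  have h1 : (algebraMap ℂ (Representation.IntertwiningMap ρ ρ) c).toLinearMap = f.toLinearMap := by
    rw [hc]
  have h2 : (c • (1 : Representation.IntertwiningMap ρ ρ)).toLinearMap = Matrix.toLin' B := h1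
  have h3 : Matrix.toLin' B = c • (LinearMap.id : (Fin n → ℂ) →ₗ[ℂ] (Fin n → ℂ)) := by
    rw [← h2]
    rfl
  have h4 := congrArg LinearMap.toMatrix' h3
  simpa using h4

end Schur

section RealStructure

variable [Fintype G] {n : ℕ} (ρ : Representation ℂ G (Fin n → ℂ))

theorem hermForm_det_isUnit : IsUnit (hermForm ρ).det := by
  have := (hermForm_posDef ρ).det_pos
  exact isUnit_iff_ne_zero.mpr (fun h => by rw [h] at this; exact lt_irrefl _ this)

/-- `X(g⁻¹)ᴴ H = H X(g)`. -/
theorem hermForm_comm (g : G) : (mat ρ g⁻¹)ᴴ * hermForm ρ = hermForm ρ * mat ρ g := by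
  have h := hermForm_invariant ρ g⁻¹
  calc (mat ρ g⁻¹)ᴴ * hermForm ρ
      = (mat ρ g⁻¹)ᴴ * hermForm ρ * (mat ρ g⁻¹ * mat ρ g) := by
        rw [mat_inv_mul, Matrix.mul_one]
    _ = ((mat ρ g⁻¹)ᴴ * hermForm ρ * mat ρ g⁻¹) * mat ρ g := by simp only [Matrix.mul_assoc]
    _ = _ := by rw [h]

/-- The matrix `A = H⁻¹ conj(M)` of the semilinear structure map `v ↦ A v̄`. -/
noncomputable def strMat (M : Matrix (Fin n) (Fin n) ℂ) : Matrix (Fin n) (Fin n) ℂ :=
  (hermForm ρ)⁻¹ * cj M

theorem hermForm_mul_strMat (M : Matrix (Fin n) (Fin n) ℂ) :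
    hermForm ρ * strMat ρ M = cj M := by
  unfold strMat
  rw [← Matrix.mul_assoc, Matrix.mul_nonsing_inv _ (hermForm_det_isUnit ρ), Matrix.one_mul]

theorem hermForm_cancel (Z W : Matrix (Fin n) (Fin n) ℂ)
    (h : hermForm ρ * Z = hermForm ρ * W) : Z = W := by
  have := congrArg (fun T => (hermForm ρ)⁻¹ * T) h
  simpa [← Matrix.mul_assoc, Matrix.nonsing_inv_mul _ (hermForm_det_isUnit ρ)] using this

theorem strMat_comm (M : Matrix (Fin n) (Fin n) ℂ) (hM : M ∈ (formRep ρ).invariants) (g : G) :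
    strMat ρ M * cj (mat ρ g) = mat ρ g * strMat ρ M := by
  apply hermForm_cancel ρ
  rw [← Matrix.mul_assoc, hermForm_mul_strMat, ← cj_mul, invariant_mul_mat ρ M hM g, cj_mul,
    cj_transpose, ← Matrix.mul_assoc, ← hermForm_comm, Matrix.mul_assoc, hermForm_mul_strMat]

theorem cj_strMat_comm (M : Matrix (Fin n) (Fin n) ℂ) (hM : M ∈ (formRep ρ).invariants) (g : G) :
    cj (strMat ρ M) * mat ρ g = cj (mat ρ g) * cj (strMat ρ M) := by
  have h := congrArg cj (strMat_comm ρ M hM g)
  rwa [cj_mul, cj_cj, cj_mul] at h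

theorem strMat_sq_comm (M : Matrix (Fin n) (Fin n) ℂ) (hM : M ∈ (formRep ρ).invariants) (g : G) :
    (strMat ρ M * cj (strMat ρ M)) * mat ρ g = mat ρ g * (strMat ρ M * cj (strMat ρ M)) := by
  rw [Matrix.mul_assoc, cj_strMat_comm ρ M hM g, ← Matrix.mul_assoc, strMat_comm ρ M hM g,
    Matrix.mul_assoc]

theorem strMat_det_isUnit (M : Matrix (Fin n) (Fin n) ℂ) (hM : IsUnit M.det) :
    IsUnit (strMat ρ M).det := by
  unfold strMat
  rw [Matrix.det_mul, Matrix.det_nonsing_inv, det_cj]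
  apply IsUnit.mul
  · exact (hermForm_det_isUnit ρ).ringInverse
  · exact isUnit_iff_ne_zero.mpr (by
      simpa using hM.ne_zero)

/-- symmetric bilinear pairing is symmetric -/
theorem dot_mulVec_symm (N : Matrix (Fin n) (Fin n) ℂ) (hN : Nᵀ = N) (x y : Fin n → ℂ) :
    x ⬝ᵥ (N *ᵥ y) = y ⬝ᵥ (N *ᵥ x) := by
  rw [Matrix.dotProduct_mulVec, ← Matrix.mulVec_transpose, hN, dotProduct_comm]

/-- The scalar `c` with `A conj(A) = c` is a positive real. -/
theorem strMat_scalar_pos (M : Matrix (Fin n) (Fin n) ℂ) (hMs : Mᵀ = M) (hMu : IsUnit M.det)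
    (c : ℂ) (hc : strMat ρ M * cj (strMat ρ M) = c • 1) (hn : 0 < n) : 0 < c := by
  set H := hermForm ρ with hH
  set A := strMat ρ M with hA
  set N := cj M with hN
  have hNs : Nᵀ = N := by
    rw [hN]
    ext i j
    simp only [Matrix.transpose_apply, cj_apply]
    rw [← Matrix.transpose_apply M, hMs]
  have hHA : H * A = N := hermForm_mul_strMat ρ M
  -- a nonzero vector
  let v : Fin n → ℂ := Pi.single ⟨0, hn⟩ 1
  have hv : v ≠ 0 := by
    intro h
    have := congrFun h ⟨0, hn⟩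
    simp [v] at this
  set u : Fin n → ℂ := A *ᵥ star v with hu
  have hu0 : u ≠ 0 := by
    intro h
    have hdet : A.det ≠ 0 := (strMat_det_isUnit ρ M hMu).ne_zero
    have := Matrix.eq_zero_of_mulVec_eq_zero hdet h
    apply hv
    have h2 := congrArg star this
    simpa using h2
  have hpd := hermForm_posDef ρ
  have hqv : 0 < star v ⬝ᵥ (H *ᵥ v) := hpd.dotProduct_mulVec_pos hv
  have hqu : 0 < star u ⬝ᵥ (H *ᵥ u) := hpd.dotProduct_mulVec_pos hu0
  have key : star u ⬝ᵥ (H *ᵥ u) = c * (star v ⬝ᵥ (H *ᵥ v)) := by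
    have h1 : H *ᵥ u = N *ᵥ star v := by
      rw [hu, Matrix.mulVec_mulVec, hHA]
    have h2 : N *ᵥ star u = c • (H *ᵥ v) := by
      rw [hu, cj_mulVec, star_star, Matrix.mulVec_mulVec, ← hHA, Matrix.mul_assoc, hc,
        Matrix.mul_smul, Matrix.mul_one, Matrix.smul_mulVec]
    rw [h1, dot_mulVec_symm N hNs, h2, dotProduct_smul, smul_eq_mul]
  rw [key] at hqu
  -- extract positivity
  rw [Complex.pos_iff] at hqv hqu ⊢
  obtain ⟨hre, him⟩ := hqv
  obtain ⟨hre2, him2⟩ := hqu
  rw [Complex.mul_re, ← him, mul_zero, sub_zero] at hre2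
  rw [Complex.mul_im, ← him, mul_zero, zero_add] at him2
  constructor
  · exact (pos_iff_pos_of_mul_pos hre2).mpr hre
  · rcases mul_eq_zero.mp him2.symm with h | h
    · exact h.symm
    · exact absurd h hre.ne'

/-- Existence of a normalized semilinear structure: `A' conj(A') = 1`, `A' conj(X) = X A'`. -/
theorem exists_real_structure [ρ.IsIrreducible] (M : Matrix (Fin n) (Fin n) ℂ)
    (hM : M ∈ (formRep ρ).invariants) (hMs : Mᵀ = M) (hM0 : M ≠ 0) :
    ∃ A' : Matrix (Fin n) (Fin n) ℂ, A' * cj A' = 1 ∧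
      ∀ g : G, A' * cj (mat ρ g) = mat ρ g * A' := by
  have hn : 0 < n := by
    rcases Nat.eq_zero_or_pos n with h | h
    · exfalso
      subst h
      apply hM0
      ext i
      exact i.elim0
    · exact h
  have hMu : IsUnit M.det := (Matrix.isUnit_iff_isUnit_det M).mp (isUnit_of_invariant ρ M hM hM0)
  obtain ⟨c, hc⟩ := schur_matrix ρ _ (strMat_sq_comm ρ M hM)
  have hcpos := strMat_scalar_pos ρ M hMs hMu c hc hn
  rw [Complex.pos_iff] at hcpos
  obtain ⟨hre, him⟩ := hcpos
  set r : ℝ := c.re with hr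
  have hcr : c = (r : ℂ) := by
    apply Complex.ext
    · simp [hr]
    · simp [← him]
  set μ : ℝ := (Real.sqrt r)⁻¹ with hμ
  have hμr : μ * μ * r = 1 := by
    have hs : Real.sqrt r * Real.sqrt r = r := Real.mul_self_sqrt hre.le
    have hs0 : Real.sqrt r ≠ 0 := (Real.sqrt_pos.mpr hre).ne'
    rw [hμ]
    field_simp
    nlinarith [hs]
  refine ⟨(μ : ℂ) • strMat ρ M, ?_, ?_⟩
  · rw [cj_smul, Complex.conj_ofReal, Matrix.smul_mul, Matrix.mul_smul, hc, smul_smul, smul_smul,
      hcr]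
    have : (μ : ℂ) * (μ : ℂ) * (r : ℂ) = 1 := by
      exact_mod_cast hμr
    rw [this, one_smul]
  · intro g
    rw [Matrix.smul_mul, Matrix.mul_smul, strMat_comm ρ M hM g]

omit [Fintype G] in
/-- From a normalized semilinear structure to a real representation with the same character. -/
theorem exists_real_rep_of_structure (A' : Matrix (Fin n) (Fin n) ℂ) (h1 : A' * cj A' = 1)
    (h2 : ∀ g : G, A' * cj (mat ρ g) = mat ρ g * A') :
    ∃ σ : Representation ℝ G (Fin n → ℝ),
      ∀ g : G, ((LinearMap.trace ℝ (Fin n → ℝ) (σ g) : ℝ) : ℂ) = ρ.character g := by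
  obtain ⟨P, hPu, hP⟩ := hilbert90 A' h1
  have hPP : P * P⁻¹ = 1 := Matrix.mul_nonsing_inv _ hPu
  have hPP' : P⁻¹ * P = 1 := Matrix.nonsing_inv_mul _ hPu
  have hcancel : ∀ Z W : Matrix (Fin n) (Fin n) ℂ, P * Z = P * W → Z = W := by
    intro Z W h
    have := congrArg (fun T => P⁻¹ * T) h
    simpa [← Matrix.mul_assoc, hPP'] using this
  obtain ⟨Y, hYdef⟩ : ∃ Y : G → Matrix (Fin n) (Fin n) ℂ, Y = fun g => P⁻¹ * mat ρ g * P :=
    ⟨_, rfl⟩
  have hPY : ∀ g, P * Y g = mat ρ g * P := by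
    intro g
    simp only [hYdef]
    rw [← Matrix.mul_assoc, ← Matrix.mul_assoc, hPP, Matrix.one_mul]
  have hYcj : ∀ g, cj (Y g) = Y g := by
    intro g
    apply hcancel
    calc P * cj (Y g) = A' * cj P * cj (Y g) := by rw [hP]
      _ = A' * cj (P * Y g) := by rw [cj_mul, Matrix.mul_assoc]
      _ = A' * cj (mat ρ g) * cj P := by rw [hPY, cj_mul, Matrix.mul_assoc]
      _ = mat ρ g * (A' * cj P) := by rw [h2, Matrix.mul_assoc]
      _ = P * Y g := by rw [hP, hPY]
  have hYmul : ∀ g h, Y (g * h) = Y g * Y h := by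
    intro g h
    simp only [hYdef]
    rw [mat_mul]
    calc P⁻¹ * (mat ρ g * mat ρ h) * P = P⁻¹ * mat ρ g * 1 * mat ρ h * P := by
          simp only [Matrix.mul_one, Matrix.mul_assoc]
      _ = P⁻¹ * mat ρ g * (P * P⁻¹) * mat ρ h * P := by rw [hPP]
      _ = _ := by simp only [Matrix.mul_assoc]
  have hYone : Y 1 = 1 := by
    simp only [hYdef]
    rw [mat_one, Matrix.mul_one, hPP']
  obtain ⟨Z, hZdef⟩ : ∃ Z : G → Matrix (Fin n) (Fin n) ℝ, Z = fun g => (Y g).map Complex.re :=
    ⟨_, rfl⟩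
  have hZY : ∀ g, (Z g).map Complex.ofRealHom = Y g := by
    intro g
    ext i j
    simp only [hZdef, Matrix.map_apply, Complex.ofRealHom_eq_coe]
    have := congrFun (congrFun (hYcj g) i) j
    rw [cj_apply] at this
    exact Complex.conj_eq_iff_re.mp this
  have hinj : Function.Injective
      (fun M : Matrix (Fin n) (Fin n) ℝ => M.map Complex.ofRealHom) :=
    Matrix.map_injective Complex.ofReal_injective
  have hZmul : ∀ g h, Z (g * h) = Z g * Z h := by
    intro g h
    apply hinj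
    show (Z (g * h)).map Complex.ofRealHom = (Z g * Z h).map Complex.ofRealHom
    rw [Matrix.map_mul, hZY, hZY, hZY, hYmul]
  have hZone : Z 1 = 1 := by
    apply hinj
    show (Z 1).map Complex.ofRealHom = (1 : Matrix (Fin n) (Fin n) ℝ).map Complex.ofRealHom
    rw [hZY, hYone, Matrix.map_one _ (map_zero _) (map_one _)]
  let σ : Representation ℝ G (Fin n → ℝ) :=
    { toFun := fun g => Matrix.toLin' (Z g)
      map_one' := by rw [hZone, Matrix.toLin'_one]; rfl
      map_mul' := fun g h => by rw [hZmul, Matrix.toLin'_mul]; rfl }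
  refine ⟨σ, fun g => ?_⟩
  show ((LinearMap.trace ℝ (Fin n → ℝ) (Matrix.toLin' (Z g)) : ℝ) : ℂ) = _
  rw [Matrix.trace_toLin'_eq, character_eq_trace]
  have ht : ((Z g).trace : ℂ) = ((Z g).map Complex.ofRealHom).trace := by
    simp [Matrix.trace]
  rw [ht, hZY]
  simp only [hYdef]
  rw [Matrix.trace_mul_cycle, hPP, Matrix.one_mul]

end RealStructure

section RealRep

open Cfsg

variable [Fintype G]

/-- **Frobenius–Schur, (⇒)**: an irreducible character with indicator `1` is afforded by a real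
representation. -/
theorem exists_real_rep_of_fsInd_eq_one {χ : G → ℂ} (hχ : IsIrrCharacter G χ)
    (h : fsInd χ = 1) :
    ∃ (n : ℕ) (σ : Representation ℝ G (Fin n → ℝ)),
      ∀ g : G, ((LinearMap.trace ℝ (Fin n → ℝ) (σ g) : ℝ) : ℂ) = χ g := by
  obtain ⟨n, ρ, hirr, rfl⟩ := hχ
  have := hirr
  have hI : (formRep ρ).invariants ≠ ⊥ := by
    intro hI
    have := fsInd_eq_zero_of_invariants_eq_bot ρ hI
    rw [h] at this
    exact one_ne_zero this
  obtain ⟨M, hM, hM0⟩ := (Submodule.ne_bot_iff _).mp hI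
  have hreal : ∀ g : G, (ρ.character g).im = 0 := real_of_invariant ρ M hM hM0
  have hMs : Mᵀ = M := by
    rw [transpose_eq_fsInd_smul ρ hreal M hM, h, one_smul]
  obtain ⟨A', h1, h2⟩ := exists_real_structure ρ M hM hMs hM0
  obtain ⟨σ, hσ⟩ := exists_real_rep_of_structure ρ A' h1 h2
  exact ⟨n, σ, hσ⟩

/-- **Frobenius–Schur, (⇐)**: an irreducible character afforded by a real representation has
indicator `1`. -/
theorem fsInd_eq_one_of_real_rep {χ : G → ℂ} (hχ : IsIrrCharacter G χ) {n : ℕ}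
    (σ : Representation ℝ G (Fin n → ℝ))
    (hσ : ∀ g : G, ((LinearMap.trace ℝ (Fin n → ℝ) (σ g) : ℝ) : ℂ) = χ g) :
    fsInd χ = 1 := by
  classical
  -- real matrices
  obtain ⟨Y, hYdef⟩ : ∃ Y : G → Matrix (Fin n) (Fin n) ℝ, Y = fun g => LinearMap.toMatrix' (σ g) :=
    ⟨_, rfl⟩
  have hYmul : ∀ g h, Y (g * h) = Y g * Y h := by
    intro g h; simp [hYdef, LinearMap.toMatrix'_mul]
  have hYone : Y 1 = 1 := by simp [hYdef]
  have hYtr : ∀ g, (((Y g).trace : ℝ) : ℂ) = χ g := by
    intro g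
    rw [← hσ g, hYdef]
    congr 1
    rw [LinearMap.trace_eq_matrix_trace ℝ (Pi.basisFun ℝ (Fin n)), LinearMap.toMatrix_eq_toMatrix']
  -- complexification
  let ρ' : Representation ℂ G (Fin n → ℂ) :=
    { toFun := fun g => Matrix.toLin' ((Y g).map Complex.ofRealHom)
      map_one' := by
        rw [hYone, Matrix.map_one _ (map_zero _) (map_one _), Matrix.toLin'_one]; rfl
      map_mul' := fun g h => by rw [hYmul, Matrix.map_mul, Matrix.toLin'_mul]; rfl }
  have hmat : ∀ g, mat ρ' g = (Y g).map Complex.ofRealHom := by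
    intro g
    show LinearMap.toMatrix' (Matrix.toLin' ((Y g).map Complex.ofRealHom)) = _
    rw [LinearMap.toMatrix'_toLin']
  have hchar : ρ'.character = χ := by
    funext g
    rw [character_eq_trace, hmat, ← hYtr g]
    simp [Matrix.trace]
  have hχreal : ∀ g, conj (χ g) = χ g := by
    intro g
    rw [← hYtr g, Complex.conj_ofReal]
  -- `[χ, χ̄] = 1`
  have hsum : (Nat.card G : ℂ)⁻¹ * ∑ g : G, ρ'.character g * ρ'.character g = 1 := by
    rw [hchar]
    have h1 := Helper80_CharBasic.irr_norm (⟨χ, hχ⟩ : IrrCharacter G)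
    have h2 : ∑ g : G, χ g * χ g = (Nat.card G : ℂ) := by
      rw [← h1]
      refine Finset.sum_congr rfl fun g _ => ?_
      have := Helper80_CharBasic.irr_inv (⟨χ, hχ⟩ : IrrCharacter G) g
      simp only at this
      show χ g * χ g = χ g * χ g⁻¹
      rw [this, hχreal]
    rw [h2]
    exact inv_mul_cancel₀ card_ne_zero
  -- the invariant symmetric form
  obtain ⟨S, hSdef⟩ : ∃ S : Matrix (Fin n) (Fin n) ℝ, S = ∑ g : G, (Y g)ᵀ * Y g := ⟨_, rfl⟩
  have hSinv : ∀ g, (Y g)ᵀ * S * Y g = S := by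
    intro g
    rw [hSdef, Finset.mul_sum, Finset.sum_mul]
    refine Fintype.sum_equiv (Equiv.mulRight g) _ _ ?_
    intro h
    simp only [Equiv.coe_mulRight, hYmul, Matrix.transpose_mul, Matrix.mul_assoc]
  have hSsymm : Sᵀ = S := by
    rw [hSdef, Matrix.transpose_sum]
    refine Finset.sum_congr rfl fun g _ => ?_
    rw [Matrix.transpose_mul, Matrix.transpose_transpose]
  -- degree is positive
  have hn : 0 < n := by
    obtain ⟨d, hd, hd1⟩ := Helper80_CharBasic.irr_apply_one (⟨χ, hχ⟩ : IrrCharacter G)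
    simp only at hd1
    rw [← hchar, Representation.char_one] at hd1
    simp at hd1
    omega
  have hS0 : S ≠ 0 := by
    intro h0
    have h00 := congrFun (congrFun h0 ⟨0, hn⟩) ⟨0, hn⟩
    rw [hSdef] at h00
    simp only [Matrix.sum_apply, Matrix.mul_apply, Matrix.transpose_apply, Matrix.zero_apply]
      at h00
    have hnonneg : ∀ g ∈ (Finset.univ : Finset G),
        0 ≤ ∑ k, Y g k ⟨0, hn⟩ * Y g k ⟨0, hn⟩ :=
      fun g _ => Finset.sum_nonneg fun k _ => mul_self_nonneg _
    have h1 := (Finset.sum_eq_zero_iff_of_nonneg hnonneg).mp h00 1 (Finset.mem_univ _)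
    have h2 := (Finset.sum_eq_zero_iff_of_nonneg
      (fun k _ => mul_self_nonneg (Y 1 k ⟨0, hn⟩))).mp h1 ⟨0, hn⟩ (Finset.mem_univ _)
    rw [hYone] at h2
    simp at h2
  set Sc : Matrix (Fin n) (Fin n) ℂ := S.map Complex.ofRealHom with hSc
  have hScmem : Sc ∈ (formRep ρ').invariants := by
    rw [mem_invariants_formRep]
    intro g
    rw [hmat, hSc, ← Matrix.transpose_map, ← Matrix.map_mul, ← Matrix.map_mul, hSinv]
  have hScsymm : Scᵀ = Sc := by
    rw [hSc, ← Matrix.transpose_map, hSsymm]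
  have hSc0 : Sc ≠ 0 := by
    intro h0
    apply hS0
    apply Matrix.map_injective Complex.ofReal_injective
    show S.map Complex.ofRealHom = (0 : Matrix (Fin n) (Fin n) ℝ).map Complex.ofRealHom
    rw [← hSc, h0]
    simp
  have hkey := transpose_eq_fsInd_smul_of_sum ρ' hsum Sc hScmem
  rw [hScsymm, hchar] at hkey
  have h3 : (1 - fsInd χ) • Sc = 0 := by
    rw [sub_smul, one_smul, ← hkey, sub_self]
  rcases smul_eq_zero.mp h3 with h | h
  · exact (sub_eq_zero.mp h).symm
  · exact absurd h hSc0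

end RealRep

end Cfsg.Agent.Lib.Helper74_FS
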