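import Mathlib
import Cfsg.Agent.Lib.Helper66_ClassSize

/-!
# Group-theoretic core of Blichfeldt's abelian Hall subgroup theorem (helper74)

`HasAH G m`: `G` has an abelian subgroup whose order involves only primes `> m + 1` and whose
index involves only primes `≤ m + 1`.

`Setup G m p q` packages the situation of a minimal counterexample: all proper subgroups have
`HasAH`, subgroups of prime power order for primes `> m + 1` are abelian and centralize every
abelian subgroup they normalize, and no Sylow `p`-subgroup commutes elementwise with a Sylow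
`q`-subgroup.  The main result `Setup.no_commute` says that then no element of order `p`
commutes with an element of order `q`.
-/

set_option autoImplicit false
set_option linter.unusedSectionVars false
set_option linter.unusedVariables false

namespace Cfsg.Agent.Lib.Helper74_HallGroup

open Subgroup

universe u

/-- an abelian Hall subgroup for the set of primes `> m + 1` -/
def HasAH (G : Type u) [Group G] (m : ℕ) : Prop :=
  ∃ A : Subgroup G, (∀ x ∈ A, ∀ y ∈ A, x * y = y * x) ∧
    (∀ q : ℕ, q.Prime → q ∣ Nat.card A → m + 1 < q) ∧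
    ∀ q : ℕ, q.Prime → q ∣ A.index → q ≤ m + 1

variable {G : Type u} [Group G]

/-- lifting `HasAH` from a subgroup of suitable index -/
theorem hasAH_of_subgroup (m : ℕ) (H : Subgroup G) (hH : HasAH H m)
    (hidx : ∀ q : ℕ, q.Prime → q ∣ H.index → q ≤ m + 1) : HasAH G m := by
  obtain ⟨A, hA, hc, hi⟩ := hH
  refine ⟨A.map H.subtype, ?_, ?_, ?_⟩
  · rintro x ⟨a, ha, rfl⟩ y ⟨b, hb, rfl⟩
    exact congrArg Subtype.val (hA a ha b hb)
  · intro q hq hd
    rw [Subgroup.card_map_of_injective H.subtype_injective] at hd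
    exact hc q hq hd
  · intro q hq hd
    rw [Subgroup.index_map_subtype] at hd
    rcases (Nat.Prime.dvd_mul hq).mp hd with h | h
    · exact hi q hq h
    · exact hidx q hq h

/-- an abelian subgroup of index prime to `p` and `q` contains commuting Sylow subgroups -/
theorem exists_commuting_sylows [Finite G] (p q : ℕ) [Fact p.Prime] [Fact q.Prime]
    (B : Subgroup G) (hB : ∀ x ∈ B, ∀ y ∈ B, x * y = y * x) (hp : ¬ p ∣ B.index)
    (hq : ¬ q ∣ B.index) :
    ∃ (P : Sylow p G) (Q : Sylow q G), ∀ x ∈ P, ∀ y ∈ Q, x * y = y * x := by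
  obtain ⟨P, hP⟩ := Cfsg.Agent.Lib.Helper66_ClassSize.exists_sylow_le p B hp
  obtain ⟨Q, hQ⟩ := Cfsg.Agent.Lib.Helper66_ClassSize.exists_sylow_le q B hq
  exact ⟨P, Q, fun x hx y hy => hB x (hP hx) y (hQ hy)⟩

/-- `HasAH` for a subgroup of index prime to `p`, `q` gives commuting Sylow subgroups -/
theorem exists_commuting_sylows_of_hasAH [Finite G] (m p q : ℕ) [hp : Fact p.Prime]
    [hq : Fact q.Prime] (hpm : m + 1 < p) (hqm : m + 1 < q) (H : Subgroup G) (hH : HasAH H m)
    (hpH : ¬ p ∣ H.index) (hqH : ¬ q ∣ H.index) :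
    ∃ (P : Sylow p G) (Q : Sylow q G), ∀ x ∈ P, ∀ y ∈ Q, x * y = y * x := by
  obtain ⟨A, hA, hc, hi⟩ := hH
  apply exists_commuting_sylows p q (A.map H.subtype)
  · rintro x ⟨a, ha, rfl⟩ y ⟨b, hb, rfl⟩
    exact congrArg Subtype.val (hA a ha b hb)
  · rw [Subgroup.index_map_subtype]
    intro hd
    rcases (Nat.Prime.dvd_mul hp.out).mp hd with h | h
    · have := hi p hp.out h
      omega
    · exact hpH h
  · rw [Subgroup.index_map_subtype]
    intro hd
    rcases (Nat.Prime.dvd_mul hq.out).mp hd with h | h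
    · have := hi q hq.out h
      omega
    · exact hqH h

/-- if `H K = G` with `K` normal then `|G : H|` divides `|K|` -/
theorem index_dvd_card_of_sup_eq_top [Finite G] (H K : Subgroup G) [K.Normal] (h : H ⊔ K = ⊤) :
    H.index ∣ Nat.card K := by
  have h1 : K.relIndex (H ⊔ K) = K.relIndex H := Subgroup.relIndex_sup_right H K
  rw [h, Subgroup.relIndex_top_right] at h1
  have h2 : Nat.card (K.subgroupOf H) * K.relIndex H = Nat.card H :=
    Subgroup.card_mul_index (K.subgroupOf H)
  have h3 : Nat.card K * K.index = Nat.card G := Subgroup.card_mul_index K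
  have h4 : Nat.card H * H.index = Nat.card G := Subgroup.card_mul_index H
  have h5 : K.index ≠ 0 := Subgroup.index_ne_zero_of_finite
  refine ⟨Nat.card (K.subgroupOf H), ?_⟩
  have h6 : Nat.card K * K.index = (H.index * Nat.card (K.subgroupOf H)) * K.index := by
    rw [h3, ← h4, ← h2, h1]
    ring
  exact Nat.eq_of_mul_eq_mul_right (Nat.pos_of_ne_zero h5) h6

/-- elements of `p`-power order generate `p`-groups -/
theorem isPGroup_zpowers {p : ℕ} {y : G} (hy : ∃ k : ℕ, y ^ (p ^ k) = 1) :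
    IsPGroup p (Subgroup.zpowers y) := by
  obtain ⟨k, hk⟩ := hy
  intro g
  refine ⟨k, ?_⟩
  obtain ⟨g, hg⟩ := g
  rw [Subgroup.mem_zpowers_iff] at hg
  obtain ⟨i, rfl⟩ := hg
  apply Subtype.ext
  show (y ^ i) ^ (p ^ k) = 1
  rw [← zpow_natCast, ← zpow_mul, mul_comm, zpow_mul, zpow_natCast, hk, one_zpow]

/-- the situation of a minimal counterexample -/
structure Setup (G : Type u) [Group G] (m p q : ℕ) : Prop where
  hp : p.Prime
  hq : q.Prime
  hpq : p ≠ q
  hpm : m + 1 < p
  hqm : m + 1 < q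
  hab : ∀ r : ℕ, r.Prime → m + 1 < r → ∀ R : Subgroup G, IsPGroup r R →
    ∀ x ∈ R, ∀ y ∈ R, x * y = y * x
  hnc : ∀ r : ℕ, r.Prime → m + 1 < r → ∀ R A : Subgroup G, IsPGroup r R →
    (∀ x ∈ A, ∀ y ∈ A, x * y = y * x) → R ≤ Subgroup.normalizer (A : Set G) →
    R ≤ Subgroup.centralizer (A : Set G)
  hsub : ∀ H : Subgroup G, H ≠ ⊤ → HasAH H m
  nc : ∀ (P : Sylow p G) (Q : Sylow q G), ¬ ∀ x ∈ P, ∀ y ∈ Q, x * y = y * x

namespace Setup

variable {m p q : ℕ}

theorem symm (h : Setup G m p q) : Setup G m q p where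
  hp := h.hq
  hq := h.hp
  hpq := h.hpq.symm
  hpm := h.hqm
  hqm := h.hpm
  hab := h.hab
  hnc := h.hnc
  hsub := h.hsub
  nc := fun Q P hc => h.nc P Q (fun x hx y hy => (hc y hy x hx).symm)

variable [Finite G]

/-- a subgroup of index prime to `p` and `q` is the whole group -/
theorem eq_top (h : Setup G m p q) (H : Subgroup G) (hpH : ¬ p ∣ H.index)
    (hqH : ¬ q ∣ H.index) : H = ⊤ := by
  by_contra hne
  haveI : Fact p.Prime := ⟨h.hp⟩
  haveI : Fact q.Prime := ⟨h.hq⟩
  obtain ⟨P, Q, hPQ⟩ := exists_commuting_sylows_of_hasAH m p q h.hpm h.hqm H (h.hsub H hne)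
    hpH hqH
  exact h.nc P Q hPQ

/-- a `q`-element commuting with a Sylow `p`-subgroup is central -/
theorem central_of_commutes (h : Setup G m p q) (P : Sylow p G) (y : G)
    (hy : ∃ k : ℕ, y ^ (q ^ k) = 1) (hPy : ∀ x ∈ P, x * y = y * x) :
    y ∈ Subgroup.center G := by
  haveI : Fact p.Prime := ⟨h.hp⟩
  haveI : Fact q.Prime := ⟨h.hq⟩
  set H : Subgroup G := Subgroup.centralizer ({y} : Set G) with hH
  have hPH : (P : Subgroup G) ≤ H := by
    intro x hx
    rw [hH, Subgroup.mem_centralizer_singleton_iff]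
    exact hPy x hx
  have hpH : ¬ p ∣ H.index := fun hd => P.not_dvd_index (hd.trans (Subgroup.index_dvd_of_le hPH))
  obtain ⟨Q, hQ⟩ := (isPGroup_zpowers hy).exists_le_sylow
  have hyQ : y ∈ (Q : Subgroup G) := hQ (Subgroup.mem_zpowers y)
  have hQH : (Q : Subgroup G) ≤ H := by
    intro z hz
    rw [hH, Subgroup.mem_centralizer_singleton_iff]
    exact h.hab q h.hq h.hqm Q Q.2 z hz y hyQ
  have hqH : ¬ q ∣ H.index := fun hd => Q.not_dvd_index (hd.trans (Subgroup.index_dvd_of_le hQH))
  have htop := h.eq_top H hpH hqH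
  rw [Subgroup.mem_center_iff]
  intro g
  have hg : g ∈ H := by rw [htop]; exact Subgroup.mem_top g
  rw [hH, Subgroup.mem_centralizer_singleton_iff] at hg
  exact hg

/-- of two commuting elements of `p`-power and `q`-power order, one is central -/
theorem central_of_commute (h : Setup G m p q) (x y : G) (hxy : x * y = y * x)
    (hx : ∃ k : ℕ, x ^ (p ^ k) = 1) (hy : ∃ k : ℕ, y ^ (q ^ k) = 1)
    (hxc : x ∉ Subgroup.center G) : y ∈ Subgroup.center G := by
  haveI : Fact p.Prime := ⟨h.hp⟩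
  haveI : Fact q.Prime := ⟨h.hq⟩
  set H : Subgroup G := Subgroup.centralizer ({x} : Set G) with hH
  have hne : H ≠ ⊤ := by
    intro htop
    apply hxc
    rw [Subgroup.mem_center_iff]
    intro g
    have hg : g ∈ H := by rw [htop]; exact Subgroup.mem_top g
    rw [hH, Subgroup.mem_centralizer_singleton_iff] at hg
    exact hg
  obtain ⟨Px, hPx⟩ := (isPGroup_zpowers hx).exists_le_sylow
  have hxP : x ∈ (Px : Subgroup G) := hPx (Subgroup.mem_zpowers x)
  have hPH : (Px : Subgroup G) ≤ H := by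
    intro z hz
    rw [hH, Subgroup.mem_centralizer_singleton_iff]
    exact h.hab p h.hp h.hpm Px Px.2 z hz x hxP
  have hpH : ¬ p ∣ H.index :=
    fun hd => Px.not_dvd_index (hd.trans (Subgroup.index_dvd_of_le hPH))
  obtain ⟨A, hA, hc, hi⟩ := h.hsub H hne
  -- a Sylow `p`-subgroup of `G` inside the image of `A`
  have hpB : ¬ p ∣ (A.map H.subtype).index := by
    rw [Subgroup.index_map_subtype]
    intro hd
    rcases (Nat.Prime.dvd_mul h.hp).mp hd with h1 | h1
    · have := hi p h.hp h1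
      have := h.hpm
      omega
    · exact hpH h1
  obtain ⟨P₃, hP₃⟩ := Cfsg.Agent.Lib.Helper66_ClassSize.exists_sylow_le p (A.map H.subtype) hpB
  -- a Sylow `q`-subgroup of `H` inside `A`
  have hqA : ¬ q ∣ A.index := by
    intro hd
    have := hi q h.hq hd
    have := h.hqm
    omega
  obtain ⟨Q₃, hQ₃⟩ := Cfsg.Agent.Lib.Helper66_ClassSize.exists_sylow_le q A hqA
  have hyH : y ∈ H := by
    rw [hH, Subgroup.mem_centralizer_singleton_iff]
    exact hxy.symm
  have hy' : ∃ k : ℕ, (⟨y, hyH⟩ : H) ^ (q ^ k) = 1 := by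
    obtain ⟨k, hk⟩ := hy
    exact ⟨k, Subtype.ext hk⟩
  obtain ⟨Qy, hQy⟩ := (isPGroup_zpowers hy').exists_le_sylow
  obtain ⟨c, hc'⟩ := MulAction.exists_smul_eq H Qy Q₃
  have hmem : c * ⟨y, hyH⟩ * c⁻¹ ∈ (Q₃ : Subgroup H) := by
    rw [← hc', Sylow.coe_subgroup_smul]
    have := Subgroup.smul_mem_pointwise_smul (⟨y, hyH⟩ : H) (MulAut.conj c) (Qy : Subgroup H)
      (hQy (Subgroup.mem_zpowers _))
    rwa [MulAut.smul_def, MulAut.conj_apply] at this
  have hmemA : c * ⟨y, hyH⟩ * c⁻¹ ∈ A := hQ₃ hmem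
  set y₂ : G := (c : G) * y * (c : G)⁻¹ with hy₂
  have hy₂B : y₂ ∈ A.map H.subtype := ⟨c * ⟨y, hyH⟩ * c⁻¹, hmemA, rfl⟩
  have hBab : ∀ u ∈ A.map H.subtype, ∀ v ∈ A.map H.subtype, u * v = v * u := by
    rintro u ⟨a, ha, rfl⟩ v ⟨b, hb, rfl⟩
    exact congrArg Subtype.val (hA a ha b hb)
  have hy₂q : ∃ k : ℕ, y₂ ^ (q ^ k) = 1 := by
    obtain ⟨k, hk⟩ := hy
    refine ⟨k, ?_⟩
    rw [hy₂, conj_pow, hk, mul_one, mul_inv_cancel]
  have hcen : y₂ ∈ Subgroup.center G :=
    h.central_of_commutes P₃ y₂ hy₂q (fun u hu => hBab u (hP₃ hu) y₂ hy₂B)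
  have hyy : y = y₂ := by
    rw [Subgroup.mem_center_iff] at hcen
    have h1 := hcen (c : G)
    calc y = (c : G)⁻¹ * ((c : G) * y * (c : G)⁻¹) * (c : G) := by group
      _ = (c : G)⁻¹ * ((c : G) * y₂) := by rw [← hy₂, mul_assoc, h1]
      _ = y₂ := by group
  rw [hyy]
  exact hcen

/-- there is no central element of order `p` -/
theorem no_central (h : Setup G m p q) (z : G) (hz : z ∈ Subgroup.center G)
    (hzp : orderOf z = p) : False := by
  haveI : Fact p.Prime := ⟨h.hp⟩
  haveI : Fact q.Prime := ⟨h.hq⟩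
  obtain ⟨P⟩ : Nonempty (Sylow p G) := inferInstance
  have hPab : ∀ x ∈ (P : Subgroup G), ∀ y ∈ (P : Subgroup G), x * y = y * x :=
    h.hab p h.hp h.hpm P P.2
  have hinj : Function.Injective
      (Abelianization.of : (P : Subgroup G) →* Abelianization (P : Subgroup G)) := by
    rw [injective_iff_map_eq_one]
    intro a ha
    have hmem : a ∈ (Abelianization.of : (P : Subgroup G) →* _).ker := ha
    rw [Abelianization.ker_of] at hmem
    have hbot : commutator (P : Subgroup G) = ⊥ := by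
      rw [commutator_def, Subgroup.commutator_eq_bot_iff_le_centralizer]
      intro u _
      rw [Subgroup.mem_centralizer_iff]
      intro v _
      exact Subtype.ext (hPab v v.2 u u.2)
    rw [hbot] at hmem
    exact Subgroup.mem_bot.mp hmem
  set V : G →* Abelianization (P : Subgroup G) := MonoidHom.transfer Abelianization.of with hV
  have hVne : ∀ w : G, w ∈ Subgroup.center G → orderOf w = p → V w ≠ 1 := by
    intro w hw hwp hVw
    have key : ∀ (k : ℕ) (g₀ : G), g₀⁻¹ * w ^ k * g₀ ∈ (P : Subgroup G) →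
        g₀⁻¹ * w ^ k * g₀ = w ^ k := by
      intro k g₀ _
      have hwk : w ^ k ∈ Subgroup.center G := Subgroup.pow_mem _ hw k
      rw [Subgroup.mem_center_iff] at hwk
      rw [mul_assoc, ← hwk g₀, inv_mul_cancel_left]
    have h1 := MonoidHom.transfer_eq_pow (Abelianization.of :
      (P : Subgroup G) →* Abelianization (P : Subgroup G)) w key
    rw [← hV, hVw] at h1
    have h2 := hinj (h1.symm.trans (map_one _).symm)
    have h3 : w ^ (P : Subgroup G).index = 1 := congrArg Subtype.val h2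
    have h4 : p ∣ (P : Subgroup G).index := by
      have h5 := orderOf_dvd_of_pow_eq_one h3
      rwa [hwp] at h5
    exact P.not_dvd_index h4
  set G₁ : Subgroup G := V.ker with hG₁
  have hG₁n : G₁.Normal := MonoidHom.normal_ker V
  have hzG₁ : z ∉ G₁ := fun hmem => hVne z hz hzp (MonoidHom.mem_ker.mp hmem)
  have hne : G₁ ≠ ⊤ := fun htop => hzG₁ (by rw [htop]; exact Subgroup.mem_top z)
  -- the index of `G₁` is a power of `p`
  have hidx : ∃ a : ℕ, G₁.index ∣ p ^ a := by
    obtain ⟨a, ha⟩ := (IsPGroup.iff_card.mp P.2)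
    refine ⟨a, ?_⟩
    rw [hG₁, Subgroup.index_ker, ← ha]
    exact (Subgroup.card_subgroup_dvd_card _).trans (Subgroup.card_quotient_dvd_card _)
  have hqG₁ : ¬ q ∣ G₁.index := by
    intro hd
    obtain ⟨a, ha⟩ := hidx
    have := (Nat.prime_dvd_prime_iff_eq h.hq h.hp).mp (h.hq.dvd_of_dvd_pow (hd.trans ha))
    exact h.hpq this.symm
  obtain ⟨A, hA, hc, hi⟩ := h.hsub G₁ hne
  have hBab : ∀ u ∈ A.map G₁.subtype, ∀ v ∈ A.map G₁.subtype, u * v = v * u := by
    rintro u ⟨a, ha, rfl⟩ v ⟨b, hb, rfl⟩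
    exact congrArg Subtype.val (hA a ha b hb)
  have hqB : ¬ q ∣ (A.map G₁.subtype).index := by
    rw [Subgroup.index_map_subtype]
    intro hd
    rcases (Nat.Prime.dvd_mul h.hq).mp hd with h1 | h1
    · have := hi q h.hq h1
      have := h.hqm
      omega
    · exact hqG₁ h1
  obtain ⟨Q₄, hQ₄⟩ := Cfsg.Agent.Lib.Helper66_ClassSize.exists_sylow_le q (A.map G₁.subtype) hqB
  -- `G₁` has order prime to `p`
  have hpG₁ : ¬ p ∣ Nat.card G₁ := by
    intro hd
    rw [← Subgroup.card_mul_index A] at hd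
    rcases (Nat.Prime.dvd_mul h.hp).mp hd with h1 | h1
    · obtain ⟨a, ha⟩ := exists_prime_orderOf_dvd_card' p h1
      set x : G := ((a : G₁) : G) with hx
      have hxo : orderOf x = p := by
        rw [hx, Subgroup.orderOf_coe, Subgroup.orderOf_coe, ha]
      have hxB : x ∈ A.map G₁.subtype := ⟨(a : G₁), a.2, rfl⟩
      have hxcen : x ∈ Subgroup.center G := by
        apply h.symm.central_of_commutes Q₄ x ⟨1, by rw [pow_one, ← hxo, pow_orderOf_eq_one]⟩
        intro y hy
        exact hBab y (hQ₄ hy) x hxB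
      apply hVne x hxcen hxo
      have : x ∈ G₁ := (a : G₁).2
      exact MonoidHom.mem_ker.mp this
    · have := hi p h.hp h1
      have := h.hpm
      omega
  -- Frattini argument
  have hQG₁ : (Q₄ : Subgroup G) ≤ G₁ := hQ₄.trans (Subgroup.map_subtype_le A)
  have hfr := Sylow.normalizer_sup_eq_top' Q₄ hQG₁
  have hdvd := index_dvd_card_of_sup_eq_top (Subgroup.normalizer ((Q₄ : Subgroup G) : Set G)) G₁ hfr
  have hpN : ¬ p ∣ (Subgroup.normalizer ((Q₄ : Subgroup G) : Set G)).index :=
    fun hd => hpG₁ (hd.trans hdvd)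
  obtain ⟨P₅, hP₅⟩ := Cfsg.Agent.Lib.Helper66_ClassSize.exists_sylow_le p _ hpN
  have hcent := h.hnc p h.hp h.hpm P₅ Q₄ P₅.2 (h.hab q h.hq h.hqm Q₄ Q₄.2) hP₅
  apply h.nc P₅ Q₄
  intro x hx y hy
  have := hcent hx
  rw [Subgroup.mem_centralizer_iff] at this
  exact (this y hy).symm

/-- **Main group-theoretic statement**: no element of order `p` commutes with an element of order
`q`. -/
theorem no_commute (h : Setup G m p q) (x y : G) (hxy : x * y = y * x) (hx : orderOf x = p)
    (hy : orderOf y = q) : False := by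
  have hxc : x ∉ Subgroup.center G := fun hc => h.no_central x hc hx
  have hyc : y ∈ Subgroup.center G :=
    h.central_of_commute x y hxy ⟨1, by rw [pow_one, ← hx, pow_orderOf_eq_one]⟩
      ⟨1, by rw [pow_one, ← hy, pow_orderOf_eq_one]⟩ hxc
  exact h.symm.no_central y hyc hy

end Setup

/-- if all Sylow subgroups for the primes `> m + 1` are central then `HasAH` holds -/
theorem hasAH_of_central [Finite G] (m : ℕ)
    (hall : ∀ p : ℕ, p.Prime → m + 1 < p → ∀ P : Sylow p G, (P : Subgroup G) ≤ Subgroup.center G) :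
    HasAH G m := by
  let A : Subgroup G :=
    { carrier := {z | z ∈ Subgroup.center G ∧ ∀ r : ℕ, r.Prime → r ∣ orderOf z → m + 1 < r}
      one_mem' := by
        refine ⟨Subgroup.one_mem _, ?_⟩
        intro r hr hd
        rw [orderOf_one] at hd
        exact absurd (Nat.dvd_one.mp hd) hr.one_lt.ne'
      mul_mem' := by
        rintro z w ⟨hz, hz'⟩ ⟨hw, hw'⟩
        refine ⟨Subgroup.mul_mem _ hz hw, ?_⟩
        intro r hr hd
        have hcomm : Commute z w := by
          rw [Subgroup.mem_center_iff] at hw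
          exact (hw z)
        have h1 := hd.trans hcomm.orderOf_mul_dvd_lcm
        have h2 := h1.trans (Nat.lcm_dvd_mul _ _)
        rcases (Nat.Prime.dvd_mul hr).mp h2 with h3 | h3
        · exact hz' r hr h3
        · exact hw' r hr h3
      inv_mem' := by
        rintro z ⟨hz, hz'⟩
        refine ⟨Subgroup.inv_mem _ hz, ?_⟩
        intro r hr hd
        rw [orderOf_inv] at hd
        exact hz' r hr hd }
  have hAmem : ∀ z : G, z ∈ A ↔ z ∈ Subgroup.center G ∧
      ∀ r : ℕ, r.Prime → r ∣ orderOf z → m + 1 < r := fun z => Iff.rfl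
  refine ⟨A, ?_, ?_, ?_⟩
  · intro x hx y hy
    have := ((hAmem y).mp hy).1
    rw [Subgroup.mem_center_iff] at this
    exact this x
  · intro r hr hd
    haveI : Fact r.Prime := ⟨hr⟩
    obtain ⟨a, ha⟩ := exists_prime_orderOf_dvd_card' r hd
    have h1 : orderOf (a : G) = r := by rw [Subgroup.orderOf_coe, ha]
    exact ((hAmem (a : G)).mp a.2).2 r hr (by rw [h1])
  · intro r hr hd
    by_contra hlt
    push Not at hlt
    haveI : Fact r.Prime := ⟨hr⟩
    obtain ⟨R⟩ : Nonempty (Sylow r G) := inferInstance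
    have hRA : (R : Subgroup G) ≤ A := by
      intro z hz
      rw [hAmem]
      refine ⟨hall r hr hlt R hz, ?_⟩
      intro r' hr' hd'
      obtain ⟨k, hk⟩ := (IsPGroup.iff_orderOf.mp R.2) ⟨z, hz⟩
      rw [Subgroup.orderOf_mk] at hk
      rw [hk] at hd'
      have := (Nat.prime_dvd_prime_iff_eq hr' hr).mp (hr'.dvd_of_dvd_pow hd')
      rw [this]
      exact hlt
    exact R.not_dvd_index (hd.trans (Subgroup.index_dvd_of_le hRA))

/-- a minimal counterexample gives a `Setup` -/
theorem exists_setup [Finite G] (m : ℕ)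
    (hab : ∀ r : ℕ, r.Prime → m + 1 < r → ∀ R : Subgroup G, IsPGroup r R →
      ∀ x ∈ R, ∀ y ∈ R, x * y = y * x)
    (hnc : ∀ r : ℕ, r.Prime → m + 1 < r → ∀ R A : Subgroup G, IsPGroup r R →
      (∀ x ∈ A, ∀ y ∈ A, x * y = y * x) → R ≤ Subgroup.normalizer (A : Set G) →
      R ≤ Subgroup.centralizer (A : Set G))
    (hsub : ∀ H : Subgroup G, H ≠ ⊤ → HasAH H m) (hno : ¬ HasAH G m) :
    ∃ p q : ℕ, Setup G m p q := by
  -- every proper subgroup has index divisible by a large prime
  have hD1 : ∀ H : Subgroup G, H ≠ ⊤ → ∃ r : ℕ, r.Prime ∧ m + 1 < r ∧ r ∣ H.index := by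
    intro H hH
    by_contra hcon
    push Not at hcon
    apply hno
    apply hasAH_of_subgroup m H (hsub H hH)
    intro r hr hd
    by_contra hlt
    push Not at hlt
    exact hcon r hr hlt hd
  -- some Sylow subgroup is not central
  have hD5 : ∃ p : ℕ, p.Prime ∧ m + 1 < p ∧ ∃ P : Sylow p G,
      ¬ (P : Subgroup G) ≤ Subgroup.center G := by
    by_contra hcon
    push Not at hcon
    exact hno (hasAH_of_central m hcon)
  obtain ⟨p, hp, hpm, P, hP⟩ := hD5
  haveI : Fact p.Prime := ⟨hp⟩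
  set C : Subgroup G := Subgroup.centralizer ((P : Subgroup G) : Set G) with hC
  have hCne : C ≠ ⊤ := by
    intro htop
    apply hP
    intro x hx
    rw [Subgroup.mem_center_iff]
    intro g
    have hg : g ∈ C := by rw [htop]; exact Subgroup.mem_top g
    rw [hC, Subgroup.mem_centralizer_iff] at hg
    exact (hg x hx).symm
  obtain ⟨r, hr, hrm, hrd⟩ := hD1 C hCne
  haveI : Fact r.Prime := ⟨hr⟩
  have hPC : (P : Subgroup G) ≤ C := by
    intro x hx
    rw [hC, Subgroup.mem_centralizer_iff]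
    intro y hy
    exact hab p hp hpm P P.2 y hy x hx
  have hpr : p ≠ r := by
    intro heq
    subst heq
    exact P.not_dvd_index (hrd.trans (Subgroup.index_dvd_of_le hPC))
  refine ⟨p, r, hp, hr, hpr, hpm, hrm, hab, hnc, hsub, ?_⟩
  intro P' R hcomm
  obtain ⟨g, hg⟩ := MulAction.exists_smul_eq G P' P
  have hRC : ((g • R : Sylow r G) : Subgroup G) ≤ C := by
    intro y hy
    rw [Sylow.coe_subgroup_smul, Subgroup.mem_smul_pointwise_iff_exists] at hy
    obtain ⟨y', hy', rfl⟩ := hy
    rw [hC, Subgroup.mem_centralizer_iff]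
    intro x hx
    have hx2 : x ∈ ((g • P' : Sylow p G) : Subgroup G) := by rw [hg]; exact hx
    rw [Sylow.coe_subgroup_smul, Subgroup.mem_smul_pointwise_iff_exists] at hx2
    obtain ⟨x', hx', rfl⟩ := hx2
    rw [MulAut.smul_def, MulAut.smul_def, MulAut.conj_apply, MulAut.conj_apply]
    have := hcomm x' hx' y' hy'
    calc g * x' * g⁻¹ * (g * y' * g⁻¹) = g * (x' * y') * g⁻¹ := by group
      _ = g * (y' * x') * g⁻¹ := by rw [this]
      _ = g * y' * g⁻¹ * (g * x' * g⁻¹) := by group
  exact (g • R : Sylow r G).not_dvd_index (hrd.trans (Subgroup.index_dvd_of_le hRC))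

/-- passing from a quotient with `HasAH` to the group -/
theorem quot_step [Finite G] (m : ℕ) (K : Subgroup G) [K.Normal] (hq : HasAH (G ⧸ K) m)
    (hsub : ∀ H : Subgroup G, H ≠ ⊤ → HasAH H m) :
    HasAH G m ∨ ((∀ a b : G ⧸ K, a * b = b * a) ∧
      ∀ r : ℕ, r.Prime → r ∣ Nat.card (G ⧸ K) → m + 1 < r) := by
  obtain ⟨A, hA, hc, hi⟩ := hq
  set H : Subgroup G := A.comap (QuotientGroup.mk' K) with hH
  have hidx : H.index = A.index :=
    Subgroup.index_comap_of_surjective A (QuotientGroup.mk'_surjective K)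
  by_cases hHtop : H = ⊤
  · right
    have hAtop : A = ⊤ := by
      apply Subgroup.comap_injective (QuotientGroup.mk'_surjective K)
      rw [Subgroup.comap_top]
      exact hHtop
    constructor
    · intro a b
      exact hA a (by rw [hAtop]; exact Subgroup.mem_top a) b (by rw [hAtop]; exact Subgroup.mem_top b)
    · intro r hr hd
      apply hc r hr
      rw [hAtop, Subgroup.card_top]
      exact hd
  · left
    apply hasAH_of_subgroup m H (hsub H hHtop)
    intro r hr hd
    rw [hidx] at hd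
    exact hi r hr hd

end Cfsg.Agent.Lib.Helper74_HallGroup
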