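import Mathlib
import Cfsg.Agent.Lib.Helper74_HallChar
import Cfsg.Agent.Lib.Helper74_HallGroup

/-!
# Blichfeldt's theorem: abelian Hall subgroups of linear groups for large primes (helper74)

A finite group with a faithful character of degree `n` has, for every `m ≥ n`, an abelian Hall
subgroup for the set of primes `> m + 1`.
-/

set_option autoImplicit false
set_option linter.unusedSectionVars false
set_option linter.unusedVariables false

namespace Cfsg.Agent.Lib.Helper74_HallMain

open Cfsg Cfsg.Agent.Lib.Helper74_HallChar Cfsg.Agent.Lib.Helper74_HallGroup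

universe u

/-- **Blichfeldt.** -/
theorem main : ∀ (N : ℕ) {G : Type u} [Group G] [Finite G] (χ : G → ℂ) (n m : ℕ),
    Nat.card G + n = N → IsCharacter G χ → (∀ g : G, χ g = χ 1 → g = 1) → χ 1 = n → n ≤ m →
    HasAH G m := by
  intro N
  induction N using Nat.strong_induction_on with
  | _ N ih =>
  intro G _ _ χ n m hN hχ hfaith hn hnm
  have hsub : ∀ H : Subgroup G, H ≠ ⊤ → HasAH H m := by
    intro H hH
    have hlt : Nat.card H < Nat.card G :=
      lt_of_le_of_ne (Subgroup.card_le_card_group H)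
        (fun h0 => hH ((Subgroup.card_eq_iff_eq_top H).mp h0))
    exact ih (Nat.card H + n) (by omega) (fun k : H => χ k) n m rfl
      (Cfsg.Agent.Lib.Helper75_CharArith.isCharacter_restrict H hχ)
      (fun k hk => Subtype.ext (hfaith k hk)) hn hnm
  by_contra hno
  have hab : ∀ r : ℕ, r.Prime → m + 1 < r → ∀ R : Subgroup G, IsPGroup r R →
      ∀ x ∈ R, ∀ y ∈ R, x * y = y * x := by
    intro r hr hrm R hR x hx y hy
    haveI : Fact r.Prime := ⟨hr⟩
    have := comm_of_pgroup r hR (fun k : R => χ k)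
      (Cfsg.Agent.Lib.Helper75_CharArith.isCharacter_restrict R hχ)
      (fun k hk => Subtype.ext (hfaith k hk)) n hn (by omega) ⟨x, hx⟩ ⟨y, hy⟩
    exact congrArg Subtype.val this
  have hnc : ∀ r : ℕ, r.Prime → m + 1 < r → ∀ R A : Subgroup G, IsPGroup r R →
      (∀ x ∈ A, ∀ y ∈ A, x * y = y * x) → R ≤ Subgroup.normalizer (A : Set G) →
      R ≤ Subgroup.centralizer (A : Set G) := by
    intro r hr hrm R A hR hA hRA
    haveI : Fact r.Prime := ⟨hr⟩
    exact le_centralizer_of_le_normalizer χ hχ hfaith n hn r (by omega) R A hR hA hRA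
  by_cases hirr : IsIrrCharacter G χ
  · obtain ⟨p, q, hS⟩ := exists_setup m hab hnc hsub hno
    haveI : Fact p.Prime := ⟨hS.hp⟩
    haveI : Fact q.Prime := ⟨hS.hq⟩
    have htriv : ∀ (r : ℕ) [Fact r.Prime] (R : Sylow r G), ¬ r ∣ Nat.card G →
        ∀ x ∈ (R : Subgroup G), x = 1 := by
      intro r _ R hr x hx
      have hcard : Nat.card (R : Subgroup G) = 1 := by
        rw [Sylow.card_eq_multiplicity, Nat.factorization_eq_zero_of_not_dvd hr, pow_zero]
      have := (Subgroup.card_eq_one.mp hcard)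
      rw [this] at hx
      exact Subgroup.mem_bot.mp hx
    have hpG : p ∣ Nat.card G := by
      by_contra hpn
      obtain ⟨P⟩ : Nonempty (Sylow p G) := inferInstance
      obtain ⟨Q⟩ : Nonempty (Sylow q G) := inferInstance
      apply hS.nc P Q
      intro x hx y hy
      rw [htriv p P hpn x hx, one_mul, mul_one]
    have hqG : q ∣ Nat.card G := by
      by_contra hqn
      obtain ⟨P⟩ : Nonempty (Sylow p G) := inferInstance
      obtain ⟨Q⟩ : Nonempty (Sylow q G) := inferInstance
      apply hS.nc P Q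
      intro x hx y hy
      rw [htriv q Q hqn y hy, one_mul, mul_one]
    obtain ⟨x, y, hxy, hx, hy⟩ := exists_commute_of_irr χ hirr hfaith n hn p q
      (by have := hS.hpm; omega) (by have := hS.hqm; omega) hpG hqG
    exact hS.no_commute x y hxy hx hy
  · by_cases hn0 : n = 0
    · apply hno
      have hzero : χ = 0 :=
        Cfsg.Agent.Lib.Helper39_CharTools.eq_zero_of_isCharacter_of_one_eq_zero hχ
          (by rw [hn, hn0, Nat.cast_zero])
      have htriv : ∀ g : G, g = 1 := fun g => hfaith g (by rw [hzero]; rfl)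
      have hcard : Nat.card G = 1 := by
        rw [Nat.card_eq_one_iff_unique]
        exact ⟨⟨fun a b => by rw [htriv a, htriv b]⟩, ⟨1⟩⟩
      refine ⟨⊤, fun x _ y _ => by rw [htriv x, htriv y], ?_, ?_⟩
      · intro r hr hd
        rw [Subgroup.card_top, hcard] at hd
        exact absurd (Nat.dvd_one.mp hd) hr.one_lt.ne'
      · intro r hr hd
        rw [Subgroup.index_top] at hd
        exact absurd (Nat.dvd_one.mp hd) hr.one_lt.ne'
    · obtain ⟨χ₁, χ₂, n₁, n₂, hχ₁, hχ₂, hsum, h1, h2, hn₁, hn₂, hadd⟩ :=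
        exists_split hχ hirr n hn hn0
      obtain ⟨K₁, hK₁n, ψ₁, hψ₁, hψ₁mk, hK₁mem, hψ₁f⟩ := exists_quot_faithful hχ₁
      obtain ⟨K₂, hK₂n, ψ₂, hψ₂, hψ₂mk, hK₂mem, hψ₂f⟩ := exists_quot_faithful hχ₂
      haveI := hK₁n
      haveI := hK₂n
      have hle₁ : Nat.card (G ⧸ K₁) ≤ Nat.card G :=
        Nat.le_of_dvd Nat.card_pos (Subgroup.card_quotient_dvd_card K₁)
      have hle₂ : Nat.card (G ⧸ K₂) ≤ Nat.card G :=
        Nat.le_of_dvd Nat.card_pos (Subgroup.card_quotient_dvd_card K₂)
      have hAH₁ : HasAH (G ⧸ K₁) m :=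
        ih (Nat.card (G ⧸ K₁) + n₁) (by omega) ψ₁ n₁ m rfl hψ₁ hψ₁f
          (by rw [← QuotientGroup.mk_one, hψ₁mk, h1]) (by omega)
      have hAH₂ : HasAH (G ⧸ K₂) m :=
        ih (Nat.card (G ⧸ K₂) + n₂) (by omega) ψ₂ n₂ m rfl hψ₂ hψ₂f
          (by rw [← QuotientGroup.mk_one, hψ₂mk, h2]) (by omega)
      rcases quot_step m K₁ hAH₁ hsub with h | ⟨hab₁, hpr₁⟩
      · exact hno h
      rcases quot_step m K₂ hAH₂ hsub with h | ⟨hab₂, hpr₂⟩
      · exact hno h
      apply hno
      have hker : ∀ g : G, g ∈ K₁ → g ∈ K₂ → g = 1 := by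
        intro g hg₁ hg₂
        apply hfaith
        rw [hsum]
        simp only [Pi.add_apply]
        rw [(hK₁mem g).mp hg₁, (hK₂mem g).mp hg₂]
      have hcomm : ∀ a b : G, a * b = b * a := by
        intro a b
        have hc₁ : a * b * a⁻¹ * b⁻¹ ∈ K₁ := by
          rw [← QuotientGroup.eq_one_iff]
          have := hab₁ (QuotientGroup.mk a) (QuotientGroup.mk b)
          simp only [QuotientGroup.mk_mul, QuotientGroup.mk_inv]
          rw [this]
          group
        have hc₂ : a * b * a⁻¹ * b⁻¹ ∈ K₂ := by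
          rw [← QuotientGroup.eq_one_iff]
          have := hab₂ (QuotientGroup.mk a) (QuotientGroup.mk b)
          simp only [QuotientGroup.mk_mul, QuotientGroup.mk_inv]
          rw [this]
          group
        have h3 := hker _ hc₁ hc₂
        calc a * b = (a * b * a⁻¹ * b⁻¹) * (b * a) := by group
          _ = b * a := by rw [h3, one_mul]
      refine ⟨⊤, fun x _ y _ => hcomm x y, ?_, ?_⟩
      · intro r hr hd
        rw [Subgroup.card_top] at hd
        haveI : Fact r.Prime := ⟨hr⟩
        obtain ⟨g, hg⟩ := exists_prime_orderOf_dvd_card' r hd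
        have hg1 : g ≠ 1 := by
          intro h0
          rw [h0, orderOf_one] at hg
          exact hr.one_lt.ne hg
        have key : ∀ (K : Subgroup G) [K.Normal], g ∉ K → r ∣ Nat.card (G ⧸ K) := by
          intro K _ hgK
          have h4 : orderOf (QuotientGroup.mk g : G ⧸ K) ∣ r := by
            apply orderOf_dvd_of_pow_eq_one
            rw [← QuotientGroup.mk_pow, ← hg, pow_orderOf_eq_one, QuotientGroup.mk_one]
          rcases (Nat.dvd_prime hr).mp h4 with h5 | h5
          · exfalso
            apply hgK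
            rw [orderOf_eq_one_iff] at h5
            exact (QuotientGroup.eq_one_iff g).mp h5
          · rw [← h5]
            exact orderOf_dvd_natCard _
        by_cases hgK₁ : g ∈ K₁
        · have hgK₂ : g ∉ K₂ := fun h0 => hg1 (hker g hgK₁ h0)
          exact hpr₂ r hr (key K₂ hgK₂)
        · exact hpr₁ r hr (key K₁ hgK₁)
      · intro r hr hd
        rw [Subgroup.index_top] at hd
        exact absurd (Nat.dvd_one.mp hd) hr.one_lt.ne'

end Cfsg.Agent.Lib.Helper74_HallMain
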