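import Mathlib
import Cfsg.Agent.Lib.Helper74_HallChar
import Cfsg.Agent.Lib.Helper3_NilpMono
import Cfsg.Agent.Lib.Helper75_Induced

/-!
# Abelian subgroups of small index in `p`-groups with a faithful character (helper74)

A `p`-group with a faithful character of degree `n` has an abelian (normal) subgroup of index
dividing `n!`: every irreducible constituent is monomial, and the intersection of the normal cores
of the inducing subgroups works.
-/

set_option autoImplicit false
set_option linter.unusedSectionVars false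
set_option linter.unusedVariables false

namespace Cfsg.Agent.Lib.Helper74_JordanPG

open Cfsg Cfsg.Agent.Lib.Helper74_HallChar Cfsg.Agent.Lib.Helper75_Induced
open scoped ComplexConjugate Classical

universe u

/-- a power of `p` which is at most another power of `p` divides it -/
theorem dvd_of_le_of_pow {p a b : ℕ} (hp : 1 < p) (ha : ∃ k : ℕ, a = p ^ k)
    (hb : ∃ j : ℕ, b = p ^ j) (hle : a ≤ b) : a ∣ b := by
  obtain ⟨k, rfl⟩ := ha
  obtain ⟨j, rfl⟩ := hb
  exact pow_dvd_pow p ((Nat.pow_le_pow_iff_right hp).mp hle)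

/-- a finite product of powers of `p` is a power of `p` -/
theorem prod_pow {ι : Type*} (s : Finset ι) (p : ℕ) (f : ι → ℕ)
    (h : ∀ i ∈ s, ∃ k : ℕ, f i = p ^ k) : ∃ k : ℕ, ∏ i ∈ s, f i = p ^ k := by
  induction s using Finset.induction_on with
  | empty => exact ⟨0, by simp⟩
  | insert a s ha ih =>
    obtain ⟨k, hk⟩ := ih (fun i hi => h i (Finset.mem_insert_of_mem hi))
    obtain ⟨j, hj⟩ := h a (Finset.mem_insert_self a s)
    refine ⟨j + k, ?_⟩
    rw [Finset.prod_insert ha, hk, hj, pow_add]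

variable {P : Type u} [Group P]

/-- the index of the normal core divides the factorial of the index -/
theorem index_normalCore_dvd [Finite P] (H : Subgroup P) :
    H.normalCore.index ∣ (H.index).factorial := by
  have : Fintype (P ⧸ H) := Fintype.ofFinite _
  rw [Subgroup.normalCore_eq_ker, Subgroup.index_ker]
  have h1 : Nat.card (Equiv.Perm (P ⧸ H)) = (H.index).factorial := by
    rw [Nat.card_eq_fintype_card, Fintype.card_perm, Subgroup.index_eq_card,
      Nat.card_eq_fintype_card]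
  rw [← h1]
  exact Subgroup.card_subgroup_dvd_card _

/-- **Abelian subgroups of `p`-groups.** -/
theorem exists_abelian_of_pgroup [Finite P] (p : ℕ) [hp : Fact p.Prime] (hP : IsPGroup p P)
    (χ : P → ℂ) (hχ : IsCharacter P χ) (hfaith : ∀ g : P, χ g = χ 1 → g = 1) (n : ℕ)
    (hn : χ 1 = n) :
    ∃ B : Subgroup P, (∀ x ∈ B, ∀ y ∈ B, x * y = y * x) ∧ B.index ∣ n.factorial := by
  have : Fintype P := Fintype.ofFinite P
  have : Group.IsNilpotent P := hP.isNilpotent
  obtain ⟨m, y, hm, hsum, hypos, hy, hxy⟩ := exists_decomp hχ n hn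
  choose H lam hΨ using fun Ψ : IrrCharacter P =>
    Cfsg.Agent.Lib.Helper3_NilpMono.monomial_of_nilpotent (Ψ : P → ℂ) Ψ.2
  set S : Finset (IrrCharacter P) := Finset.univ.filter (fun Ψ => m Ψ ≠ 0) with hS
  set N : Subgroup P := ⨅ Ψ : S, (H (Ψ : IrrCharacter P)).normalCore with hN
  have hNn : N.Normal := Subgroup.normal_iInf_normal (fun Ψ => Subgroup.normalCore_normal _)
  have hNle : ∀ Ψ : IrrCharacter P, Ψ ∈ S → N ≤ H Ψ := by
    intro Ψ hΨS
    exact (iInf_le (fun Ψ : S => (H (Ψ : IrrCharacter P)).normalCore) ⟨Ψ, hΨS⟩).trans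
      (Subgroup.normalCore_le _)
  have hidxy : ∀ Ψ : IrrCharacter P, (H Ψ).index = y Ψ := by
    intro Ψ
    have h1 := congrFun (hΨ Ψ) 1
    rw [indFun_one, hy, map_one, Units.val_one, mul_one] at h1
    have h2 : (Nat.card (H Ψ) : ℂ) ≠ 0 := by
      rw [Nat.cast_ne_zero]; exact Nat.card_pos.ne'
    have h3 : ((Nat.card (H Ψ) * y Ψ : ℕ) : ℂ) = ((Nat.card (H Ψ) * (H Ψ).index : ℕ) : ℂ) := by
      rw [Subgroup.card_mul_index]
      push_cast
      rw [h1]
      field_simp
    have h4 : Nat.card (H Ψ) * y Ψ = Nat.card (H Ψ) * (H Ψ).index := by exact_mod_cast h3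
    exact (Nat.eq_of_mul_eq_mul_left Nat.card_pos h4).symm
  refine ⟨N, ?_, ?_⟩
  · -- abelian
    intro x hx z hz
    have hc : x * z * x⁻¹ * z⁻¹ = 1 := by
      apply hfaith
      rw [hsum]
      simp only [Finset.sum_apply, Pi.smul_apply, smul_eq_mul]
      apply Finset.sum_congr rfl
      intro Ψ _
      by_cases hmΨ : m Ψ = 0
      · rw [hmΨ, Nat.cast_zero, zero_mul, zero_mul]
      · have hΨS : Ψ ∈ S := by
          rw [hS, Finset.mem_filter]
          exact ⟨Finset.mem_univ _, hmΨ⟩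
        congr 1
        rw [hΨ Ψ, indFun_apply, indFun_apply]
        congr 1
        apply Finset.sum_congr rfl
        intro t _
        have hu : t⁻¹ * x * t ∈ H Ψ := by
          apply hNle Ψ hΨS
          have := hNn.conj_mem x hx t⁻¹
          rwa [inv_inv] at this
        have hv : t⁻¹ * z * t ∈ H Ψ := by
          apply hNle Ψ hΨS
          have := hNn.conj_mem z hz t⁻¹
          rwa [inv_inv] at this
        have h1 : t⁻¹ * (x * z * x⁻¹ * z⁻¹) * t =
            (((⟨t⁻¹ * x * t, hu⟩ : H Ψ) * ⟨t⁻¹ * z * t, hv⟩ * (⟨t⁻¹ * x * t, hu⟩ : H Ψ)⁻¹ *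
              (⟨t⁻¹ * z * t, hv⟩ : H Ψ)⁻¹ : H Ψ) : P) := by
          simp only [Subgroup.coe_mul, Subgroup.coe_inv]
          group
        have h2 : t⁻¹ * 1 * t = ((1 : H Ψ) : P) := by simp
        rw [h1, h2, extendByZero_coe, extendByZero_coe]
        simp only [map_mul, map_inv, map_one]
        congr 1
        rw [mul_comm (lam Ψ ⟨t⁻¹ * x * t, hu⟩) (lam Ψ ⟨t⁻¹ * z * t, hv⟩), mul_assoc,
          mul_assoc, mul_inv_cancel_left, mul_inv_cancel]
    calc x * z = (x * z * x⁻¹ * z⁻¹) * (z * x) := by group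
      _ = z * x := by rw [hc, one_mul]
  · -- index
    have hpow : ∃ k : ℕ, N.index = p ^ k := hP.index N
    have hle : N.index ≤ ∏ Ψ : S, ((H (Ψ : IrrCharacter P)).normalCore).index :=
      Subgroup.index_iInf_le _
    rw [Finset.prod_coe_sort S (fun Ψ => ((H Ψ).normalCore).index)] at hle
    have hprodpow : ∃ k : ℕ, ∏ Ψ ∈ S, ((H Ψ).normalCore).index = p ^ k :=
      prod_pow S p _ (fun Ψ _ => hP.index _)
    have h1 := dvd_of_le_of_pow hp.out.one_lt hpow hprodpow hle
    have h2 : ∏ Ψ ∈ S, ((H Ψ).normalCore).index ∣ ∏ Ψ ∈ S, (y Ψ).factorial := by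
      apply Finset.prod_dvd_prod_of_dvd
      intro Ψ _
      rw [← hidxy Ψ]
      exact index_normalCore_dvd (H Ψ)
    have h3 : ∏ Ψ ∈ S, (y Ψ).factorial ∣ (∑ Ψ ∈ S, y Ψ).factorial :=
      Nat.prod_factorial_dvd_factorial_sum S y
    have h4 : ∑ Ψ ∈ S, y Ψ ≤ n := by
      rw [← hxy]
      calc ∑ Ψ ∈ S, y Ψ ≤ ∑ Ψ ∈ S, m Ψ * y Ψ := by
            apply Finset.sum_le_sum
            intro Ψ hΨS
            rw [hS, Finset.mem_filter] at hΨS
            exact Nat.le_mul_of_pos_left _ (Nat.pos_of_ne_zero hΨS.2)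
        _ ≤ ∑ Ψ : IrrCharacter P, m Ψ * y Ψ :=
            Finset.sum_le_sum_of_subset (Finset.subset_univ S)
    exact h1.trans (h2.trans (h3.trans (Nat.factorial_dvd_factorial h4)))

end Cfsg.Agent.Lib.Helper74_JordanPG
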