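import Mathlib
import Cfsg.Agent.Lib.Helper74_HallMain
import Cfsg.Agent.Lib.Helper74_JordanPG
import Cfsg.Agent.Lib.Helper74_JordanUnitary

/-!
# The explicit Jordan bound (helper74)

A finite group with a faithful character of degree `n` has an abelian normal subgroup of index at
most `n! · 12^(n (π(n+1) + 1))` (Isaacs 14.12): combine the analytic theorem (`S4470`), Blichfeldt's
abelian Hall subgroup (`S4465`) and abelian subgroups of small index in the Sylow subgroups for the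
small primes.
-/

set_option autoImplicit false
set_option linter.unusedSectionVars false
set_option linter.unusedVariables false

namespace Cfsg.Agent.Lib.Helper74_JordanFinal

open Cfsg Cfsg.Agent.Lib.Helper74_HallGroup

universe u

/-- the arithmetic heart of the index estimate -/
theorem arith (N a n : ℕ) (hN : N ≠ 0) (ha : a ≠ 0) (h₀ idx₀ i₀ d₀ : ℕ) (hNh : N = h₀ * idx₀)
    (hh₀ : ∀ q : ℕ, q.Prime → q ∣ h₀ → n + 1 < q)
    (hidx₀ : ∀ q : ℕ, q.Prime → q ∣ idx₀ → q ≤ n + 1)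
    (hh₀' : h₀ = d₀ * i₀) (hi₀ : i₀ ≤ 12 ^ n) (hd₀ : d₀ ∣ a) (c i d : ℕ → ℕ)
    (hdata : ∀ p : ℕ, p.Prime → p ≤ n + 1 →
      p ^ (N.factorization p) = c p * i p * d p ∧ c p ∣ n.factorial ∧ (∃ k : ℕ, c p = p ^ k) ∧
      i p ≤ 12 ^ n ∧ d p ∣ a ∧ ∃ k : ℕ, d p = p ^ k) :
    N ≤ n.factorial * 12 ^ (n * (Nat.primeCounting (n + 1) + 1)) * a := by
  set T : Finset ℕ := (Finset.range (n + 2)).filter Nat.Prime with hT
  have hTcard : T.card = Nat.primeCounting (n + 1) := by
    rw [hT, Nat.primeCounting, Nat.primeCounting', Nat.count_eq_card_filter_range]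
  have hTmem : ∀ p : ℕ, p ∈ T ↔ p.Prime ∧ p ≤ n + 1 := by
    intro p
    rw [hT, Finset.mem_filter, Finset.mem_range]
    constructor
    · rintro ⟨h1, h2⟩; exact ⟨h2, by omega⟩
    · rintro ⟨h1, h2⟩; exact ⟨by omega, h1⟩
  have hh₀0 : h₀ ≠ 0 := by
    intro h; rw [h, zero_mul] at hNh; exact hN hNh
  have hidx0 : idx₀ ≠ 0 := by
    intro h; rw [h, mul_zero] at hNh; exact hN hNh
  -- the index of the Hall subgroup is the product of the Sylow orders for the small primes
  have hidx : idx₀ = ∏ p ∈ T, p ^ (N.factorization p) := by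
    have h1 := Nat.factorization_prod_pow_eq_self hidx0
    have hsup : idx₀.factorization.support ⊆ T := by
      intro q hq
      rw [Nat.support_factorization, Nat.mem_primeFactors] at hq
      exact (hTmem q).mpr ⟨hq.1, hidx₀ q hq.1 hq.2.1⟩
    rw [Finsupp.prod_of_support_subset _ hsup _ (fun _ _ => pow_zero _)] at h1
    rw [← h1]
    apply Finset.prod_congr rfl
    intro p hp
    obtain ⟨hpp, hple⟩ := (hTmem p).mp hp
    congr 1
    rw [hNh, Nat.factorization_mul hh₀0 hidx0, Finsupp.add_apply]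
    have : h₀.factorization p = 0 := by
      apply Nat.factorization_eq_zero_of_not_dvd
      intro hd
      have := hh₀ p hpp hd
      omega
    rw [this, zero_add]
  have hprod : ∏ p ∈ T, p ^ (N.factorization p) = (∏ p ∈ T, c p) * (∏ p ∈ T, i p) * ∏ p ∈ T, d p := by
    rw [← Finset.prod_mul_distrib, ← Finset.prod_mul_distrib]
    apply Finset.prod_congr rfl
    intro p hp
    obtain ⟨hpp, hple⟩ := (hTmem p).mp hp
    exact (hdata p hpp hple).1
  -- the three factors
  have hcdvd : ∏ p ∈ T, c p ∣ n.factorial := by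
    apply Finset.prod_dvd_of_isRelPrime
    · intro p hp p' hp' hne
      obtain ⟨hpp, hple⟩ := (hTmem p).mp hp
      obtain ⟨hpp', hple'⟩ := (hTmem p').mp hp'
      obtain ⟨k, hk⟩ := (hdata p hpp hple).2.2.1
      obtain ⟨k', hk'⟩ := (hdata p' hpp' hple').2.2.1
      show IsRelPrime (c p) (c p')
      rw [← Nat.coprime_iff_isRelPrime, hk, hk']
      exact Nat.Coprime.pow k k' ((Nat.coprime_primes hpp hpp').mpr hne)
    · intro p hp
      obtain ⟨hpp, hple⟩ := (hTmem p).mp hp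
      exact (hdata p hpp hple).2.1
  have hddvd : ∏ p ∈ T, d p ∣ a := by
    apply Finset.prod_dvd_of_isRelPrime
    · intro p hp p' hp' hne
      obtain ⟨hpp, hple⟩ := (hTmem p).mp hp
      obtain ⟨hpp', hple'⟩ := (hTmem p').mp hp'
      obtain ⟨k, hk⟩ := (hdata p hpp hple).2.2.2.2.2
      obtain ⟨k', hk'⟩ := (hdata p' hpp' hple').2.2.2.2.2
      show IsRelPrime (d p) (d p')
      rw [← Nat.coprime_iff_isRelPrime, hk, hk']
      exact Nat.Coprime.pow k k' ((Nat.coprime_primes hpp hpp').mpr hne)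
    · intro p hp
      obtain ⟨hpp, hple⟩ := (hTmem p).mp hp
      exact (hdata p hpp hple).2.2.2.2.1
  have hd₀h₀ : d₀ ∣ h₀ := ⟨i₀, hh₀'⟩
  have hcop : Nat.Coprime d₀ (∏ p ∈ T, d p) := by
    apply Nat.Coprime.prod_right
    intro p hp
    obtain ⟨hpp, hple⟩ := (hTmem p).mp hp
    obtain ⟨k, hk⟩ := (hdata p hpp hple).2.2.2.2.2
    rw [hk]
    apply Nat.Coprime.pow_right
    rw [Nat.coprime_comm, Nat.Prime.coprime_iff_not_dvd hpp]
    intro hd
    have := hh₀ p hpp (hd.trans hd₀h₀)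
    omega
  have hDdvd : d₀ * ∏ p ∈ T, d p ∣ a := hcop.mul_dvd_of_dvd_of_dvd hd₀ hddvd
  have hile : ∏ p ∈ T, i p ≤ (12 ^ n) ^ T.card := by
    apply Finset.prod_le_pow_card
    intro p hp
    obtain ⟨hpp, hple⟩ := (hTmem p).mp hp
    exact (hdata p hpp hple).2.2.2.1
  have hcle : ∏ p ∈ T, c p ≤ n.factorial := Nat.le_of_dvd (Nat.factorial_pos n) hcdvd
  have hDle : d₀ * ∏ p ∈ T, d p ≤ a := Nat.le_of_dvd (Nat.pos_of_ne_zero ha) hDdvd
  have hpow : 12 ^ (n * (Nat.primeCounting (n + 1) + 1)) = (12 ^ n) ^ T.card * 12 ^ n := by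
    rw [hTcard, ← pow_mul, ← pow_add]
    congr 1
  calc N = h₀ * idx₀ := hNh
    _ = (d₀ * i₀) * ((∏ p ∈ T, c p) * (∏ p ∈ T, i p) * ∏ p ∈ T, d p) := by
        rw [hidx, hprod, hh₀']
    _ = (∏ p ∈ T, c p) * ((∏ p ∈ T, i p) * i₀) * (d₀ * ∏ p ∈ T, d p) := by ring
    _ ≤ n.factorial * ((12 ^ n) ^ T.card * 12 ^ n) * a := by
        apply Nat.mul_le_mul (Nat.mul_le_mul hcle (Nat.mul_le_mul hile hi₀)) hDle
    _ = n.factorial * 12 ^ (n * (Nat.primeCounting (n + 1) + 1)) * a := by rw [hpow]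

/-- **Jordan's theorem with the explicit bound of Isaacs 14.12.** -/
theorem jordan_bound {G : Type u} [Group G] [Finite G] (χ : G → ℂ) (hχ : IsCharacter G χ)
    (hfaith : ∀ g : G, χ g = χ 1 → g = 1) (n : ℕ) (hn : χ 1 = n) :
    ∃ A : Subgroup G, A.Normal ∧ (∀ x ∈ A, ∀ y ∈ A, x * y = y * x) ∧
      A.index ≤ n.factorial * 12 ^ (n * (Nat.primeCounting (n + 1) + 1)) := by
  obtain ⟨A, hAn, hAab, hAbound⟩ :=
    Cfsg.Agent.Lib.Helper74_JordanUnitary.exists_abelian_normal_of_character χ hχ hfaith n hn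
  obtain ⟨H₀, hH₀ab, hc₀, hi₀⟩ :=
    Cfsg.Agent.Lib.Helper74_HallMain.main _ χ n n rfl hχ hfaith hn le_rfl
  refine ⟨A, hAn, hAab, ?_⟩
  have hsub : ∀ H : Subgroup G, Nat.card (A.subgroupOf H) ∣ Nat.card A ∧
      Nat.card (A.subgroupOf H) * (A.subgroupOf H).index = Nat.card H := by
    intro H
    refine ⟨?_, Subgroup.card_mul_index _⟩
    rw [← Subgroup.card_map_of_injective H.subtype_injective, Subgroup.subgroupOf_map_subtype]
    exact Subgroup.card_dvd_of_le inf_le_left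
  have hdata : ∀ p : ℕ, ∃ c i d : ℕ, p.Prime →
      (p ^ ((Nat.card G).factorization p) = c * i * d ∧ c ∣ n.factorial ∧
        (∃ k : ℕ, c = p ^ k) ∧ i ≤ 12 ^ n ∧ d ∣ Nat.card A ∧ ∃ k : ℕ, d = p ^ k) := by
    intro p
    by_cases hp : p.Prime
    · haveI : Fact p.Prime := ⟨hp⟩
      obtain ⟨P⟩ : Nonempty (Sylow p G) := inferInstance
      obtain ⟨B', hB'ab, hB'idx⟩ :=
        Cfsg.Agent.Lib.Helper74_JordanPG.exists_abelian_of_pgroup p P.2
          (fun k : (P : Subgroup G) => χ k)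
          (Cfsg.Agent.Lib.Helper75_CharArith.isCharacter_restrict (P : Subgroup G) hχ)
          (fun k hk => Subtype.ext (hfaith k hk)) n hn
      set B : Subgroup G := B'.map (P : Subgroup G).subtype with hB
      have hBab : ∀ x ∈ B, ∀ y ∈ B, x * y = y * x := by
        rintro x ⟨u, hu, rfl⟩ y ⟨v, hv, rfl⟩
        exact congrArg Subtype.val (hB'ab u hu v hv)
      have hBcard : Nat.card B = Nat.card B' :=
        Subgroup.card_map_of_injective (P : Subgroup G).subtype_injective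
      have hPcard : Nat.card (P : Subgroup G) = p ^ ((Nat.card G).factorization p) :=
        Sylow.card_eq_multiplicity P
      refine ⟨B'.index, (A.subgroupOf B).index, Nat.card (A.subgroupOf B), fun _ =>
        ⟨?_, hB'idx, IsPGroup.index P.2 B', hAbound B hBab, (hsub B).1, ?_⟩⟩
      · rw [← hPcard, ← Subgroup.card_mul_index B', ← hBcard, ← (hsub B).2]
        ring
      · have h1 : Nat.card (A.subgroupOf B) ∣ Nat.card B := ⟨_, (hsub B).2.symm⟩
        have h2 : Nat.card B ∣ Nat.card (P : Subgroup G) := by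
          rw [hBcard]
          exact Subgroup.card_subgroup_dvd_card B'
        rw [hPcard] at h2
        obtain ⟨k, _, hk⟩ := (Nat.dvd_prime_pow hp).mp (h1.trans h2)
        exact ⟨k, hk⟩
    · exact ⟨0, 0, 0, fun h => absurd h hp⟩
  choose c i d hcid using hdata
  have hmain := arith (Nat.card G) (Nat.card A) n Nat.card_pos.ne' Nat.card_pos.ne'
    (Nat.card H₀) H₀.index ((A.subgroupOf H₀).index) (Nat.card (A.subgroupOf H₀))
    (Subgroup.card_mul_index H₀).symm hc₀ hi₀ ((hsub H₀).2.symm) (hAbound H₀ hH₀ab)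
    (hsub H₀).1 c i d (fun p hp _ => hcid p hp)
  have hA := Subgroup.card_mul_index A
  rw [← hA, mul_comm (Nat.card A) A.index] at hmain
  exact Nat.le_of_mul_le_mul_right hmain Nat.card_pos

end Cfsg.Agent.Lib.Helper74_JordanFinal
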