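import Mathlib
import Cfsg.Prelude.Def_Blocks
import Cfsg.Agent.Lib.Helper74_CharTools
import Cfsg.Agent.Lib.Helper78_McKayA
import Cfsg.Agent.Lib.Helper78_LocalRing
import Cfsg.Agent.Lib.Helper16_BrauerSetup
import Cfsg.Agent.Lib.Helper23_ZStarB
import Cfsg.Agent.S4441

/-!
# Simple groups of order 7920: the Sylow 11-normalizer, by characters (helper74)

For a simple group `G` of order `7920 = 2^4 3^2 5 11` and `P` a Sylow `11`-subgroup we show
`C_G(P) = P` and `|N_G(P)| = 55`.  Let `e = |N_G(P) : C_G(P)|`, a divisor of `10`, `e ≠ 1` by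
Burnside's transfer theorem.  By Brauer's theorem on the principal block (S4441) and arithmetic with
the degrees (divisors `d` of `7920` with `d^2 ≤ 7920`), there is `χ` in the principal block of degree
`10` with `χ(x y) = -1` for `1 ≠ x ∈ P` and `y ∈ C_G(P)` of order prime to `11`.  Such a `χ` has no
`P`-fixed vector, so `∑_{x ∈ P} χ(x y) = 0` and `χ(y) = 10 = χ(1)`: `y = 1` as `G` is simple.
-/

set_option autoImplicit false
set_option linter.unusedSectionVars false

namespace Cfsg.Agent.Lib.Helper74_M11Local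

open Cfsg Cfsg.Agent.Lib.Helper80_CharBasic Cfsg.Agent.Lib.Helper74_CharTools
open scoped ComplexConjugate

section general

variable {G : Type*} [Group G] [Finite G] {p : ℕ} [hp : Fact p.Prime] (P : Sylow p G)

/-- Burnside's transfer theorem in a simple group. -/
theorem not_normalizer_le_centralizer [IsSimpleGroup G] (h1 : Nat.card P ≠ 1)
    (h2 : Nat.card P ≠ Nat.card G) :
    ¬ Subgroup.normalizer ((P : Subgroup G) : Set G) ≤
      Subgroup.centralizer ((P : Subgroup G) : Set G) := by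
  intro hP
  have hc := MonoidHom.ker_transferSylow_isComplement' P hP
  have hcard := hc.card_mul_card
  rcases IsSimpleGroup.eq_bot_or_eq_top_of_normal (MonoidHom.transferSylow P hP).ker
    (MonoidHom.normal_ker _) with h | h
  · rw [h, Subgroup.card_bot, one_mul] at hcard
    exact h2 hcard
  · rw [h, Subgroup.card_top] at hcard
    apply h1
    have hpos : 0 < Nat.card G := Nat.card_pos
    have : Nat.card G * Nat.card (P : Subgroup G) = Nat.card G * 1 := by rw [hcard, mul_one]
    exact Nat.eq_of_mul_eq_mul_left hpos this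

/-- `|N_G(P) : C_G(P)|` divides `p - 1` for `|P| = p`. -/
theorem relIndex_dvd (hP : Nat.card P = p) :
    (Subgroup.centralizer ((P : Subgroup G) : Set G)).relIndex
      (Subgroup.normalizer ((P : Subgroup G) : Set G)) ∣ p - 1 := by
  have hc : IsCyclic ↥(P : Subgroup G) := isCyclic_of_prime_card hP
  have h1 : Nat.card (MulAut ↥(P : Subgroup G)) = p - 1 := by
    rw [hc.card_mulAut, hP, Nat.totient_prime hp.out]
  have h2 : (Subgroup.centralizer ((P : Subgroup G) : Set G)).relIndex
      (Subgroup.normalizer ((P : Subgroup G) : Set G)) =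
      Nat.card ((P : Subgroup G).normalizerMonoidHom).range := by
    rw [← Subgroup.index_ker, Subgroup.normalizerMonoidHom_ker]
    rfl
  rw [h2, ← h1]
  exact Subgroup.card_subgroup_dvd_card _

/-- `|N_G(P)| = |C_G(P)| |N_G(P) : C_G(P)|`. -/
theorem card_normalizer_eq :
    Nat.card ↥(Subgroup.normalizer ((P : Subgroup G) : Set G)) =
      Nat.card ↥(Subgroup.centralizer ((P : Subgroup G) : Set G)) *
        (Subgroup.centralizer ((P : Subgroup G) : Set G)).relIndex
          (Subgroup.normalizer ((P : Subgroup G) : Set G)) := by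
  have hle : Subgroup.centralizer ((P : Subgroup G) : Set G) ≤
      Subgroup.normalizer ((P : Subgroup G) : Set G) := Subgroup.centralizer_le_normalizer _
  have h1 := Subgroup.card_mul_index ((Subgroup.centralizer ((P : Subgroup G) : Set G)).subgroupOf
    (Subgroup.normalizer ((P : Subgroup G) : Set G)))
  rw [Nat.card_congr (Subgroup.subgroupOfEquivOfLe hle).toEquiv] at h1
  exact h1.symm

/-- `|G| = |N_G(P)| n_p` with `n_p ≡ 1 (mod p)`. -/
theorem exists_sylow_count :
    ∃ n : ℕ, n % p = 1 ∧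
      Nat.card ↥(Subgroup.normalizer ((P : Subgroup G) : Set G)) * n = Nat.card G := by
  refine ⟨Nat.card (Sylow p G), ?_, ?_⟩
  · have h := card_sylow_modEq_one p G
    unfold Nat.ModEq at h
    rw [h, Nat.mod_eq_of_lt hp.out.one_lt]
  · rw [P.card_eq_index_normalizer]
    exact Subgroup.card_mul_index _

end general

section numeric

theorem le88 (d : ℕ) (hsq : d ^ 2 ≤ 7920) : d ≤ 88 := by
  by_contra h
  push Not at h
  have : 89 ^ 2 ≤ d ^ 2 := Nat.pow_le_pow_left h 2
  omega

theorem deg_of_mod11 (d : ℕ) (hdvd : d ∣ 7920) (hsq : d ^ 2 ≤ 7920) (ε : ℤ)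
    (hε : ε = 1 ∨ ε = -1) (hmod : (d : ℤ) ≡ ε [ZMOD 11]) :
    (ε = 1 ∧ (d = 1 ∨ d = 12 ∨ d = 45)) ∨ (ε = -1 ∧ d = 10) := by
  have h88 := le88 d hsq
  have hpos : 0 < d := Nat.pos_of_dvd_of_pos hdvd (by norm_num)
  unfold Int.ModEq at hmod
  rcases hε with rfl | rfl
  · left
    refine ⟨rfl, ?_⟩
    interval_cases d <;> omega
  · right
    refine ⟨rfl, ?_⟩
    interval_cases d <;> omega

theorem numeric_step1 (e T d : ℕ) (he : e = 2 ∨ e = 5 ∨ e = 10) (h3 : 3 ∣ T)
    (hT : 12 * (e - 1) ≤ T) (hd : d = 1 + T) (hdvd : d ∣ 7920) (hsq : d ^ 2 ≤ 7920)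
    (hmod : (d : ℤ) ≡ e [ZMOD 11]) : False := by
  have h88 := le88 d hsq
  unfold Int.ModEq at hmod
  rcases he with rfl | rfl | rfl
  · have h13 : 13 ≤ d := by omega
    interval_cases d <;> omega
  · have h49 : 49 ≤ d := by omega
    interval_cases d <;> omega
  · omega

end numeric

section step1

variable {G : Type*} [Group G] [Fintype G] [IsSimpleGroup G]

theorem card_sylow11 (hG : Nat.card G = 7920) (P : Sylow 11 G) : Nat.card P = 11 :=
  haveI : Fact (Nat.Prime 11) := ⟨by norm_num⟩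
  Cfsg.Agent.Lib.Helper78_McKayA.card_sylow_eq (by rw [hG]; norm_num) (by rw [hG]; norm_num) P

theorem card_sylow5 (hG : Nat.card G = 7920) (Q : Sylow 5 G) : Nat.card Q = 5 :=
  haveI : Fact (Nat.Prime 5) := ⟨by norm_num⟩
  Cfsg.Agent.Lib.Helper78_McKayA.card_sylow_eq (by rw [hG]; norm_num) (by rw [hG]; norm_num) Q

/-- A simple group of order 7920 is not abelian. -/
theorem not_comm (hG : Nat.card G = 7920) : ¬ ∀ a b : G, a * b = b * a := by
  intro hc
  haveI : Fact (Nat.Prime 11) := ⟨by norm_num⟩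
  obtain ⟨P⟩ : Nonempty (Sylow 11 G) := inferInstance
  have hP : Nat.card (P : Subgroup G) = 11 := card_sylow11 hG P
  have hn : (P : Subgroup G).Normal :=
    ⟨fun n hn g => by rw [hc g n, mul_inv_cancel_right]; exact hn⟩
  rcases IsSimpleGroup.eq_bot_or_eq_top_of_normal _ hn with h | h
  · rw [h, Subgroup.card_bot] at hP; omega
  · rw [h, Subgroup.card_top, hG] at hP; omega

theorem charDegree_oneIrr : charDegree ((oneIrr G : IrrCharacter G) : G → ℂ) = 1 := by
  apply Cfsg.Agent.Lib.Helper79_CharVals.charDegree_of_eq_natCast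
  show (1 : ℂ) = ((1 : ℕ) : ℂ)
  simp

theorem charDegree_dvd (hG : Nat.card G = 7920) (χ : IrrCharacter G) :
    charDegree (χ : G → ℂ) ∣ 7920 := by
  rw [← hG]; exact Cfsg.Agent.Lib.Helper77_BlockBasics.charDegree_dvd_card χ

theorem charDegree_sq (hG : Nat.card G = 7920) (χ : IrrCharacter G) :
    charDegree (χ : G → ℂ) ^ 2 ≤ 7920 := by
  rw [← hG]; exact charDegree_sq_le χ

open scoped Classical in
/-- The principal `11`-block contains a character of degree `10` which is `-1` on the
`11`-singular elements of `C_G(P)`. -/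
theorem exists_deg10 (hG : Nat.card G = 7920) (P : Sylow 11 G) :
    ∃ χ : IrrCharacter G, charDegree (χ : G → ℂ) = 10 ∧
      ∀ x : G, x ∈ (P : Subgroup G) → x ≠ 1 → ∀ y : G,
        y ∈ Subgroup.centralizer ((P : Subgroup G) : Set G) → ¬ 11 ∣ orderOf y →
          (χ : G → ℂ) (x * y) = -1 := by
  haveI : Fact (Nat.Prime 11) := ⟨by norm_num⟩
  have hP := card_sylow11 hG P
  have hna := not_comm hG
  set e := (Subgroup.centralizer ((P : Subgroup G) : Set G)).relIndex
    (Subgroup.normalizer ((P : Subgroup G) : Set G)) with he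
  have he10 : e ∣ 10 := relIndex_dvd P hP
  have he1 : e ≠ 1 := by
    intro h
    exact not_normalizer_le_centralizer P (by rw [hP]; norm_num) (by rw [hP, hG]; norm_num)
      (Subgroup.relIndex_eq_one.mp h)
  have hecases : e = 2 ∨ e = 5 ∨ e = 10 := by
    have hle : e ≤ 10 := Nat.le_of_dvd (by norm_num) he10
    have hpos : 0 < e := Nat.pos_of_dvd_of_pos he10 (by norm_num)
    interval_cases e <;> omega
  obtain ⟨M, hM⟩ := Cfsg.Agent.Lib.Helper23_ZStarB.exists_pModular 11 (by norm_num)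
  obtain ⟨X, Y, hB, hdisj, hXc, hYc, εX, ε, hX, hε, hYdeg, -, hYrel⟩ :=
    Cfsg.Agent.S4441.result 11 M hM (by norm_num) P hP e rfl
  have hfinX : X.Finite := Set.toFinite X
  -- it suffices to find a member of `X` of degree `10`
  suffices hex : ∃ χ ∈ X, charDegree (χ : G → ℂ) = 10 by
    obtain ⟨χ, hχ, hd⟩ := hex
    obtain ⟨h1, h2, h3⟩ := hX χ hχ
    refine ⟨χ, hd, fun x hx hx1 y hy hyreg => ?_⟩
    rw [h3 x hx hx1 y hy hyreg]
    rcases h1 with h1 | h1
    · exfalso
      rw [hd, h1] at h2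
      unfold Int.ModEq at h2
      omega
    · rw [h1]; simp
  by_contra hno
  push Not at hno
  have hXdeg : ∀ χ ∈ X, εX χ = 1 ∧ (charDegree (χ : G → ℂ) = 1 ∨
      charDegree (χ : G → ℂ) = 12 ∨ charDegree (χ : G → ℂ) = 45) := by
    intro χ hχ
    obtain ⟨h1, h2, -⟩ := hX χ hχ
    rcases deg_of_mod11 _ (charDegree_dvd hG χ) (charDegree_sq hG χ) (εX χ) h1 h2 with h | h
    · exact h
    · exact absurd h.2 (hno χ hχ)
  set Xf : Finset (IrrCharacter G) := hfinX.toFinset with hXf
  have hmemXf : ∀ χ, χ ∈ Xf ↔ χ ∈ X := fun χ => Set.Finite.mem_toFinset hfinX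
  have hcardXf : Xf.card = e := by
    rw [← hXc, Nat.card_coe_set_eq, Set.ncard_eq_toFinset_card X hfinX]
  set S : ℕ := ∑ χ ∈ Xf, charDegree (χ : G → ℂ) with hS
  have hSe : e ≤ S := by
    have := Finset.card_nsmul_le_sum Xf (fun χ : IrrCharacter G => charDegree (χ : G → ℂ)) 1
      (fun χ _ => Cfsg.Agent.Lib.Helper77_BlockBasics.charDegree_pos χ)
    rw [hcardXf, smul_eq_mul, mul_one] at this
    exact this
  have h1reg : ¬ 11 ∣ orderOf (1 : G) := by rw [orderOf_one]; norm_num
  -- the relation at `1`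
  have hrel : ∀ θ ∈ Y, ε * ((charDegree (θ : G → ℂ) : ℕ) : ℤ) = (S : ℤ) := by
    intro θ hθ
    have h := hYrel θ hθ 1 h1reg
    rw [finsum_mem_eq_finite_toFinset_sum _ hfinX] at h
    have h2 : ∑ χ ∈ hfinX.toFinset, (εX χ : ℂ) * (χ : G → ℂ) 1 = ((S : ℕ) : ℂ) := by
      rw [hS]
      push_cast
      refine Finset.sum_congr rfl fun χ hχ => ?_
      rw [(hXdeg χ ((hmemXf χ).mp hχ)).1,
        Cfsg.Agent.Lib.Helper77_BlockBasics.apply_one_eq_charDegree χ]
      simp
    rw [h2, Cfsg.Agent.Lib.Helper77_BlockBasics.apply_one_eq_charDegree θ] at h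
    exact_mod_cast h
  have he2 : 2 ≤ e := by omega
  have hε1 : ∀ θ ∈ Y, ε = 1 ∧ charDegree (θ : G → ℂ) = S := by
    intro θ hθ
    have h := hrel θ hθ
    rcases hε with h1 | h1
    · refine ⟨h1, ?_⟩
      rw [h1, one_mul] at h
      exact_mod_cast h
    · exfalso
      rw [h1] at h
      have : (0 : ℤ) ≤ ((charDegree (θ : G → ℂ) : ℕ) : ℤ) := Int.natCast_nonneg _
      have h3 : (2 : ℤ) ≤ (S : ℤ) := by exact_mod_cast he2.trans hSe
      omega
  -- the principal character lies in `X`
  have hone : oneIrr G ∈ X := by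
    have h1 : oneIrr G ∈ principalBlock M G :=
      Cfsg.Agent.Lib.Helper78_LocalRing.mem_blockOf_self
        (Cfsg.Agent.Lib.Helper78_LocalRing.isPrime_of_isPModular hM) (oneIrr G)
    rw [hB] at h1
    rcases h1 with h1 | h1
    · exact h1
    · exfalso
      have h2 := (hε1 _ h1).2
      rw [charDegree_oneIrr] at h2
      omega
  have honef : oneIrr G ∈ Xf := (hmemXf _).mpr hone
  set T : ℕ := ∑ χ ∈ Xf.erase (oneIrr G), charDegree (χ : G → ℂ) with hT
  have hST : S = 1 + T := by
    rw [hS, hT, ← Finset.add_sum_erase Xf _ honef, charDegree_oneIrr]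
  have hTdeg : ∀ χ ∈ Xf.erase (oneIrr G),
      charDegree (χ : G → ℂ) = 12 ∨ charDegree (χ : G → ℂ) = 45 := by
    intro χ hχ
    rw [Finset.mem_erase] at hχ
    rcases (hXdeg χ ((hmemXf χ).mp hχ.2)).2 with h | h
    · exact absurd (eq_oneIrr_of_degree_one hna χ h) hχ.1
    · exact h
  have h3T : 3 ∣ T := by
    rw [hT]
    refine Finset.dvd_sum fun χ hχ => ?_
    rcases hTdeg χ hχ with h | h <;> rw [h] <;> norm_num
  have h12T : 12 * (e - 1) ≤ T := by
    have := Finset.card_nsmul_le_sum (Xf.erase (oneIrr G))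
      (fun χ : IrrCharacter G => charDegree (χ : G → ℂ)) 12
      (fun χ hχ => by rcases hTdeg χ hχ with h | h <;> rw [h] <;> norm_num)
    rw [Finset.card_erase_of_mem honef, hcardXf, smul_eq_mul, mul_comm] at this
    exact this
  -- `Y` is not empty
  have hYne : Y.Nonempty := by
    have hpos : 0 < Nat.card Y := by
      rw [hYc]
      rcases hecases with h | h | h <;> rw [h] <;> norm_num
    obtain ⟨θ⟩ := (Nat.card_pos_iff.mp hpos).1
    exact ⟨θ.1, θ.2⟩
  obtain ⟨θ, hθ⟩ := hYne
  obtain ⟨hε1', hdθ⟩ := hε1 θ hθ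
  have hmod := hYdeg θ hθ
  rw [hε1', one_mul] at hmod
  exact numeric_step1 e T (charDegree (θ : G → ℂ)) hecases h3T h12T (by rw [hdθ, hST])
    (charDegree_dvd hG θ) (charDegree_sq hG θ) hmod

open scoped Classical in
/-- `|C_G(P)| = 11` for a Sylow `11`-subgroup `P`. -/
theorem card_centralizer_sylow11 (hG : Nat.card G = 7920) (P : Sylow 11 G) :
    Nat.card ↥(Subgroup.centralizer ((P : Subgroup G) : Set G)) = 11 := by
  haveI : Fact (Nat.Prime 11) := ⟨by norm_num⟩
  have hP := card_sylow11 hG P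
  have hna := not_comm hG
  obtain ⟨χ, hd, hval⟩ := exists_deg10 hG P
  set C := Subgroup.centralizer ((P : Subgroup G) : Set G) with hC
  have hPC : (P : Subgroup G) ≤ C := Cfsg.Agent.Lib.Helper16_BrauerSetup.le_centralizer P hP
  by_contra hne
  -- a prime `r ≠ 11` dividing `|C|`
  have h11 : 11 ∣ Nat.card C := by
    have := Subgroup.card_dvd_of_le hPC
    rwa [show Nat.card ↥(P : Subgroup G) = 11 from hP] at this
  have hCG : Nat.card C ∣ 7920 := by
    rw [← hG]; exact Subgroup.card_subgroup_dvd_card C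
  obtain ⟨m, hm⟩ := h11
  have hm1 : m ≠ 1 := by
    intro h
    apply hne
    rw [hm, h]
  have hm11 : ¬ 11 ∣ m := by
    intro h
    obtain ⟨k, hk⟩ := h
    rw [hm, hk] at hCG
    have : (121 : ℕ) ∣ 7920 := Dvd.dvd.trans ⟨k, by ring⟩ hCG
    omega
  obtain ⟨r, hr, hrm⟩ := Nat.exists_prime_and_dvd hm1
  have hr11 : r ≠ 11 := by
    rintro rfl
    exact hm11 hrm
  haveI : Fact r.Prime := ⟨hr⟩
  have hrC : r ∣ Nat.card C := by
    rw [hm]; exact Dvd.dvd.mul_left hrm 11
  obtain ⟨y', hy'⟩ := exists_prime_orderOf_dvd_card' r hrC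
  set y : G := (y' : G) with hy
  have hyo : orderOf y = r := by rw [hy, Subgroup.orderOf_coe]; exact hy'
  have hyC : y ∈ C := y'.2
  have hyreg : ¬ 11 ∣ orderOf y := by
    rw [hyo]
    intro h
    exact hr11 ((Nat.prime_dvd_prime_iff_eq (by norm_num) hr).mp h).symm
  have hy1 : y ≠ 1 := by
    intro h
    rw [h, orderOf_one] at hyo
    exact hr.one_lt.ne' hyo.symm
  -- values on `P`
  let _ : Fintype ↥(P : Subgroup G) := Fintype.ofFinite _
  have h1reg : ¬ 11 ∣ orderOf (1 : G) := by rw [orderOf_one]; norm_num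
  have hcardP : (Finset.univ : Finset ↥(P : Subgroup G)).card = 11 := by
    rw [Finset.card_univ, ← Nat.card_eq_fintype_card]; exact hP
  have hχ1 : (χ : G → ℂ) 1 = 10 := by
    rw [Cfsg.Agent.Lib.Helper77_BlockBasics.apply_one_eq_charDegree χ, hd]; norm_num
  have hsum : ∀ w : G, w ∈ C → ¬ 11 ∣ orderOf w →
      ∑ z : ↥(P : Subgroup G), (χ : G → ℂ) ((z : G) * w) = (χ : G → ℂ) w - 10 := by
    intro w hw hwreg
    rw [← Finset.add_sum_erase Finset.univ _ (Finset.mem_univ (1 : ↥(P : Subgroup G)))]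
    have h2 : ∀ z ∈ (Finset.univ : Finset ↥(P : Subgroup G)).erase 1,
        (χ : G → ℂ) ((z : G) * w) = -1 := by
      intro z hz
      rw [Finset.mem_erase] at hz
      refine hval (z : G) z.2 ?_ w hw hwreg
      intro h
      exact hz.1 (Subtype.ext h)
    rw [Finset.sum_congr rfl h2, Finset.sum_const, Finset.card_erase_of_mem (Finset.mem_univ _),
      hcardP]
    simp only [OneMemClass.coe_one, one_mul]
    norm_num
    ring
  have h0 : ∑ z : ↥(P : Subgroup G), (χ : G → ℂ) z = 0 := by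
    have := hsum 1 (Subgroup.one_mem _) h1reg
    simp only [mul_one] at this
    rw [this, hχ1]
    norm_num
  have h3 := sum_shift_eq_zero
    (Cfsg.Agent.Lib.Helper3_CharBridge.isCharacter_of_isIrrCharacter χ.2) (P : Subgroup G) h0 y
  rw [hsum y hyC hyreg] at h3
  have h4 : (χ : G → ℂ) y = (χ : G → ℂ) 1 := by
    rw [hχ1]
    linear_combination h3
  have hχne : χ ≠ oneIrr G := by
    intro h
    rw [h, charDegree_oneIrr] at hd
    omega
  exact hy1 (eq_one_of_apply_eq χ hχne y h4)

/-- **The Sylow `11`-normalizer of a simple group of order `7920`**: `C_G(P) = P` and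
`|N_G(P)| = 55`. -/
theorem sylow11_local (hG : Nat.card G = 7920) (P : Sylow 11 G) :
    Subgroup.centralizer ((P : Subgroup G) : Set G) = (P : Subgroup G) ∧
      Nat.card ↥(Subgroup.normalizer ((P : Subgroup G) : Set G)) = 55 := by
  haveI : Fact (Nat.Prime 11) := ⟨by norm_num⟩
  have hP := card_sylow11 hG P
  have hC := card_centralizer_sylow11 hG P
  have hPC : (P : Subgroup G) ≤ Subgroup.centralizer ((P : Subgroup G) : Set G) :=
    Cfsg.Agent.Lib.Helper16_BrauerSetup.le_centralizer P hP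
  refine ⟨(Subgroup.eq_of_le_of_card_ge hPC (by rw [hC]; exact hP.ge)).symm, ?_⟩
  set e := (Subgroup.centralizer ((P : Subgroup G) : Set G)).relIndex
    (Subgroup.normalizer ((P : Subgroup G) : Set G)) with he
  have he10 : e ∣ 10 := relIndex_dvd P hP
  have he1 : e ≠ 1 := by
    intro h
    exact not_normalizer_le_centralizer P (by rw [hP]; norm_num) (by rw [hP, hG]; norm_num)
      (Subgroup.relIndex_eq_one.mp h)
  have hN := card_normalizer_eq P
  rw [hC, ← he] at hN
  obtain ⟨n, hn1, hn2⟩ := exists_sylow_count P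
  rw [hN, hG] at hn2
  have hle : e ≤ 10 := Nat.le_of_dvd (by norm_num) he10
  have hpos : 0 < e := Nat.pos_of_dvd_of_pos he10 (by norm_num)
  rw [hN]
  interval_cases e <;> omega

end step1

end Cfsg.Agent.Lib.Helper74_M11Local
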