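import Mathlib
import Cfsg.Prelude.Def_Sporadic
import Cfsg.Agent.Lib.Helper53_M11_Main
import Cfsg.Agent.Lib.Helper74_M11UDefs

/-!
# The local facts of a simple group of order 7920, bundled (helper74)

Glue: the landed M11 cluster (helper53 and others) gives `Loc G` for every simple group of order `7920`.
-/

set_option autoImplicit false

namespace Cfsg.Agent.Lib.Helper74_M11ULoc

open Cfsg Cfsg.Agent.Lib.Helper74_M11UDefs

variable {G : Type*} [Group G] [Finite G]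

theorem loc_of_simple [IsSimpleGroup G] (hG : Nat.card G = 7920) : Loc G := by
  have h := Cfsg.Agent.Lib.Helper53_M11_Main.facts hG
  obtain ⟨R, hR⟩ := Cfsg.Agent.Lib.Helper65_M11_CL.CL h
  have h3 := Cfsg.Agent.Lib.Helper80_M11_T1.T1 h R hR
  have hN3 := Cfsg.Agent.Lib.Helper52_M11_T2.T2 h h3
  have h3a := Cfsg.Agent.Lib.Helper17_M11_T3a.T3a h R hR h3 hN3
    (Cfsg.Agent.Lib.Helper63_M11_INV8.INV8 hG) (Cfsg.Agent.Lib.Helper52_M11_N5S.N5S h)
  have h3b := Cfsg.Agent.Lib.Helper21_M11_T3b.T3b h h3 hN3 h3a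
  exact ⟨hG, hN3, h3.2.1, h3.2.2, h3b, h3a⟩

theorem loc_of_isM11 (hG : Cfsg.IsM11 G) : Loc G := by
  haveI := hG.1
  exact loc_of_simple hG.2

end Cfsg.Agent.Lib.Helper74_M11ULoc
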