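import Mathlib
import Cfsg.Agent.Lib.Helper74_M11UDefs

/-!
# S0420 package A7: the neighbourhood of a Sylow 3-subgroup seen from a triangle (helper74)
-/

set_option autoImplicit false
set_option linter.unusedSectionVars false

namespace Cfsg.Agent.Lib.Helper74_M11U_A7

open Cfsg.Agent.Lib.Helper74_M11UDefs

universe u

variable {G : Type u} [Group G] [Finite G]

/-- elements of `P` fix `P` -/
theorem smul_self_of_mem {P : Sylow 3 G} {y : G} (hy : y ∈ (P : Subgroup G)) : y • P = P :=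
  mem_NN_iff.mp (Subgroup.le_normalizer hy)

/-- an element of `P` commuting with an involution inverting `P` is trivial -/
theorem eq_one_of_commute (hp : LocP G) {P : Sylow 3 G} {z u : G}
    (hz : Inverts z (P : Subgroup G)) (hu : u ∈ (P : Subgroup G)) (hc : u * z = z * u) : u = 1 := by
  have h1 : z * u * z⁻¹ = u⁻¹ := hz.2 u hu
  have h2 : z * u * z⁻¹ = u := by rw [← hc]; group
  have h3 : u⁻¹ = u := h1.symm.trans h2
  have h4 : u ^ 3 = 1 := hp.exp3 P u hu
  have h5 : u * u = 1 := by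
    calc u * u = u⁻¹ * u := by rw [h3]
      _ = 1 := by group
  calc u = u ^ 3 * (u * u)⁻¹ := by group
    _ = 1 := by rw [h4, h5]; group

/-- the three Sylow 3-subgroups inverted by `z` -/
theorem all_three (ha : TriA G) {P Q T : Sylow 3 G} {z : G} (hPQ : P ≠ Q) (hPT : P ≠ T)
    (hQT : Q ≠ T) (hzP : Inverts z (P : Subgroup G)) (hzQ : Inverts z (Q : Subgroup G))
    (hzT : Inverts z (T : Subgroup G)) (X : Sylow 3 G) (hX : Inverts z (X : Subgroup G)) :
    X = P ∨ X = Q ∨ X = T := by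
  obtain ⟨Q', T', h1, h2, h3, -, -, hall⟩ := ha.three P z hzP
  have hQ := hall Q hzQ
  have hT := hall T hzT
  have hXX := hall X hX
  rcases hXX with rfl | rfl | rfl
  · exact Or.inl rfl
  · rcases hQ with hQ | hQ | hQ
    · exact absurd hQ.symm hPQ
    · exact Or.inr (Or.inl hQ.symm)
    · rcases hT with hT | hT | hT
      · exact absurd hT.symm hPT
      · exact Or.inr (Or.inr hT.symm)
      · exact absurd (hQ.trans hT.symm) hQT
  · rcases hQ with hQ | hQ | hQ
    · exact absurd hQ.symm hPQ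
    · rcases hT with hT | hT | hT
      · exact absurd hT.symm hPT
      · exact absurd (hQ.trans hT.symm) hQT
      · exact Or.inr (Or.inr hT.symm)
    · exact Or.inr (Or.inl hQ.symm)

theorem free (hp : LocP G) (P Q : Sylow 3 G) (hne : P ≠ Q) (y : G) (hy : y ∈ (P : Subgroup G))
    (hyQ : y • Q = Q) : y = 1 :=
  hp.ti P Q hne y hy (hp.mem_of_norm Q y (hp.exp3 P y hy) (mem_NN_iff.mpr hyQ))

theorem disj (hp : LocP G) (hi : InvP G) (P Q T : Sylow 3 G) (hT : Tri P Q T) (y : G)
    (hy : y ∈ (P : Subgroup G)) (y' : G) (hy' : y' ∈ (P : Subgroup G)) : y • Q ≠ y' • T := by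
  obtain ⟨hPQ, hPT, hQT, z, hzP, hzQ, hzT⟩ := hT
  intro heq
  set u := y'⁻¹ * y with hu
  have huP : u ∈ (P : Subgroup G) := mul_mem (inv_mem hy') hy
  have huQ : u • Q = T := by
    rw [hu, mul_smul, heq, inv_smul_smul]
  have h1 : Inverts (u * z * u⁻¹) (P : Subgroup G) := by
    have := hzP.conj u
    rwa [smul_self_of_mem huP] at this
  have h2 : Inverts (u * z * u⁻¹) (T : Subgroup G) := by
    have := hzQ.conj u
    rwa [huQ] at this
  have h3 : u * z * u⁻¹ = z := hi.uniq P T _ _ hPT h1 h2 hzP hzT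
  have h4 : u * z = z * u := by
    calc u * z = u * z * u⁻¹ * u := by group
      _ = z * u := by rw [h3]
  have h5 : u = 1 := eq_one_of_commute hp hzP huP h4
  rw [h5, one_smul] at huQ
  exact hQT huQ

theorem nbr (hi : InvP G) (ha : TriA G) (P Q T : Sylow 3 G) (hT : Tri P Q T) (X : Sylow 3 G) :
    Adj3 P X ↔ (∃ y ∈ (P : Subgroup G), X = y • Q) ∨ (∃ y ∈ (P : Subgroup G), X = y • T) := by
  constructor
  · rintro ⟨hne, w, hwP, hwX⟩
    obtain ⟨hPQ, hPT, hQT, z, hzP, hzQ, hzT⟩ := hT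
    obtain ⟨y, hy, rfl⟩ := hi.conj P z w hzP hwP
    have h1 : Inverts z ((y⁻¹ • X : Sylow 3 G) : Subgroup G) := by
      apply Inverts.of_conj (g := y)
      rwa [smul_inv_smul]
    rcases all_three ha hPQ hPT hQT hzP hzQ hzT _ h1 with h2 | h2 | h2
    · exfalso
      apply hne
      have : X = y • P := by rw [← h2, smul_inv_smul]
      rw [this, smul_self_of_mem hy]
    · left
      exact ⟨y, hy, by rw [← h2, smul_inv_smul]⟩
    · right
      exact ⟨y, hy, by rw [← h2, smul_inv_smul]⟩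
  · rintro (⟨y, hy, rfl⟩ | ⟨y, hy, rfl⟩)
    · have := (adj3_smul_iff y P Q).mpr hT.adj12
      rwa [smul_self_of_mem hy] at this
    · have := (adj3_smul_iff y P T).mpr hT.adj13
      rwa [smul_self_of_mem hy] at this

/-- the edge stabiliser is transitive on the nonidentity elements of `P` -/
theorem exists_conj (hp : LocP G) (hb : TriB G) (hc : TriC G) (P Q : Sylow 3 G) (hPQ : Adj3 P Q)
    (y : G) (hy : y ∈ (P : Subgroup G)) (hy1 : y ≠ 1) (y' : G) (hy' : y' ∈ (P : Subgroup G))
    (hy'1 : y' ≠ 1) : ∃ k ∈ NN P ⊓ NN Q, k * y * k⁻¹ = y' := by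
  classical
  set K : Subgroup G := NN P ⊓ NN Q with hK
  have hK8 : Nat.card ↥K = 8 := hb.cardK P Q hPQ
  -- the target: nonidentity elements of `P`
  let S : Type u := {x : (P : Subgroup G) // x ≠ 1}
  have hS : Nat.card S = 8 := by
    have h1 : Nat.card S = Nat.card ↥(P : Subgroup G) - 1 := by
      haveI : Fintype ↥(P : Subgroup G) := Fintype.ofFinite _
      rw [Nat.card_eq_fintype_card, Nat.card_eq_fintype_card]
      have := Fintype.card_subtype_compl (fun x : (P : Subgroup G) => x = 1)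
      rw [Fintype.card_subtype_eq] at this
      exact this
    rw [h1, hp.cardP P]
  let f : ↥K → S := fun k =>
    ⟨⟨(k : G) * y * (k : G)⁻¹,
      ((Subgroup.mem_normalizer_iff.mp (show (k : G) ∈ NN P from k.2.1)) y).mp hy⟩, by
      intro h
      apply hy1
      have h' : (k : G) * y * (k : G)⁻¹ = 1 := congrArg Subtype.val h
      calc y = (k : G)⁻¹ * ((k : G) * y * (k : G)⁻¹) * (k : G) := by group
        _ = 1 := by rw [h']; group⟩
  have hf : Function.Injective f := by
    intro k k' hkk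
    have h1 : (k : G) * y * (k : G)⁻¹ = (k' : G) * y * (k' : G)⁻¹ :=
      congrArg (fun s : S => ((s : (P : Subgroup G)) : G)) hkk
    have h2 : ((k' : G)⁻¹ * (k : G)) * y = y * ((k' : G)⁻¹ * (k : G)) := by
      calc ((k' : G)⁻¹ * (k : G)) * y = (k' : G)⁻¹ * ((k : G) * y * (k : G)⁻¹) * (k : G) := by group
        _ = (k' : G)⁻¹ * ((k' : G) * y * (k' : G)⁻¹) * (k : G) := by rw [h1]
        _ = y * ((k' : G)⁻¹ * (k : G)) := by group
    have h3 : (k' : G)⁻¹ * (k : G) = 1 :=
      hc.freeK P Q hPQ _ (K.mul_mem (K.inv_mem k'.2) k.2) y hy hy1 h2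
    apply Subtype.ext
    calc (k : G) = (k' : G) * ((k' : G)⁻¹ * (k : G)) := by group
      _ = (k' : G) := by rw [h3, mul_one]
  have : Finite S := Subtype.finite
  have hbij : Function.Bijective f := by
    rw [Nat.bijective_iff_injective_and_card]
    exact ⟨hf, by rw [hK8, hS]⟩
  obtain ⟨k, hk⟩ := hbij.2 ⟨⟨y', hy'⟩, fun h => hy'1 (congrArg Subtype.val h)⟩
  exact ⟨k, k.2, congrArg (fun s : S => ((s : (P : Subgroup G)) : G)) hk⟩

theorem orb (hp : LocP G) (hi : InvP G) (ha : TriA G) (hb : TriB G) (hc : TriC G)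
    (P Q T : Sylow 3 G) (hT : Tri P Q T) (y : G) (hy : y ∈ (P : Subgroup G)) (hy1 : y ≠ 1)
    (y' : G) (hy' : y' ∈ (P : Subgroup G)) (hy'1 : y' ≠ 1) :
    (Adj3 Q (y • Q) ↔ Adj3 Q (y' • Q)) ∧ (Adj3 Q (y • T) ↔ Adj3 Q (y' • T)) := by
  obtain ⟨k, hk, hky⟩ := exists_conj hp hb hc P Q hT.adj12 y hy hy1 y' hy' hy'1
  obtain ⟨hPQ, hPT, hQT, z, hzP, hzQ, hzT⟩ := hT
  have hkP : k • P = P := mem_NN_iff.mp hk.1
  have hkQ : k • Q = Q := mem_NN_iff.mp hk.2
  -- `k` centralises `z`
  have hkz : k * z * k⁻¹ = z := by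
    have h1 : Inverts (k * z * k⁻¹) (P : Subgroup G) := by
      have := hzP.conj k
      rwa [hkP] at this
    have h2 : Inverts (k * z * k⁻¹) (Q : Subgroup G) := by
      have := hzQ.conj k
      rwa [hkQ] at this
    exact hi.uniq P Q _ _ hPQ h1 h2 hzP hzQ
  -- `k` fixes `T`
  have hkT : k • T = T := by
    have h1 : Inverts z ((k • T : Sylow 3 G) : Subgroup G) := by
      have := hzT.conj k
      rwa [hkz] at this
    rcases all_three ha hPQ hPT hQT hzP hzQ hzT _ h1 with h2 | h2 | h2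
    · exfalso
      apply hPT
      have : k • T = k • P := by rw [h2, hkP]
      exact (smul_left_cancel k this).symm
    · exfalso
      apply hQT
      have : k • T = k • Q := by rw [h2, hkQ]
      exact (smul_left_cancel k this).symm
    · exact h2
  have key : ∀ X : Sylow 3 G, k • X = X → k • (y • X) = y' • X := by
    intro X hX
    have : k * y = y' * k := by rw [← hky]; group
    rw [← mul_smul, this, mul_smul, hX]
  constructor
  · rw [← adj3_smul_iff k Q (y • Q), hkQ, key Q hkQ]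
  · rw [← adj3_smul_iff k Q (y • T), hkQ, key T hkT]

theorem A7 (_h : Loc G) (hp : LocP G) (hi : InvP G) (ha : TriA G) (hb : TriB G) (hc : TriC G) :
    Link G :=
  ⟨nbr hi ha, disj hp hi, free hp, orb hp hi ha hb hc⟩

end Cfsg.Agent.Lib.Helper74_M11U_A7
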