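import Cfsg.Agent.Lib.Helper6_MXDefs

/-!
Auxiliary arithmetic for the packages MX-B3 and MX-C1 of the S4017 market (architect helper6).
-/

set_option autoImplicit false

namespace Cfsg.Agent.Lib.Helper74_MX_Aux

open Cfsg.Agent.Lib.Helper6_MXDefs

variable {G : Type*} [Group G] [Finite G]

/-- a number all of whose prime divisors are `2` or `p` is `2 ^ _ * p ^ _` -/
theorem twoP_eq {p : ℕ} (hp : p.Prime) (hp2 : p ≠ 2) {n : ℕ} (hn : n ≠ 0) (h : TwoP p n) :
    n = 2 ^ n.factorization 2 * p ^ n.factorization p := by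
  conv_lhs => rw [← Nat.prod_factorization_pow_eq_self hn]
  have hsupp : n.factorization.support ⊆ {2, p} := by
    intro r hr
    have hr' := Nat.support_factorization n ▸ hr
    have hrp : r.Prime := Nat.prime_of_mem_primeFactors hr'
    have hrd : r ∣ n := Nat.dvd_of_mem_primeFactors hr'
    rcases h r hrp hrd with rfl | rfl <;> simp
  rw [Finsupp.prod_of_support_subset _ hsupp _ (by intro i _; exact pow_zero i)]
  rw [Finset.prod_pair (Ne.symm hp2)]

/-- the 2-part of the order of a subgroup between `Q` and `G` -/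
theorem fact_two_eq {p a : ℕ} {Q : Subgroup G} {x : G} (h : Ctx0 G p a Q x) (H : Subgroup G)
    (hQH : Q ≤ H) : (Nat.card H).factorization 2 = a := by
  have hH0 : Nat.card H ≠ 0 := Nat.card_pos.ne'
  have hG0 : Nat.card G ≠ 0 := Nat.card_pos.ne'
  have h1 : Nat.card Q ∣ Nat.card H := Subgroup.card_dvd_of_le hQH
  have h2 : Nat.card H ∣ Nat.card G := Subgroup.card_subgroup_dvd_card H
  rw [h.cardQ] at h1
  apply le_antisymm
  · rw [← h.sylQ]
    exact (Nat.factorization_le_iff_dvd hH0 hG0).mpr h2 2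
  · exact (Nat.Prime.pow_dvd_iff_le_factorization Nat.prime_two hH0).mp h1

theorem two_dvd_card {p a : ℕ} {Q : Subgroup G} {x : G} (h : Ctx0 G p a Q x) (H : Subgroup G)
    (hQH : Q ≤ H) : 2 ∣ Nat.card H := by
  have h1 : Nat.card Q ∣ Nat.card H := Subgroup.card_dvd_of_le hQH
  rw [h.cardQ] at h1
  exact dvd_trans (dvd_pow_self 2 (by have := h.ha; omega)) h1

/-- the order of a proper subgroup containing `Q` -/
theorem card_eq {p a : ℕ} {Q : Subgroup G} {x : G} (h : Ctx G p a Q x) (H : Subgroup G)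
    (hH : H ≠ ⊤) (hQH : Q ≤ H) :
    Nat.card H = 2 ^ a * p ^ (Nat.card H).factorization p := by
  have hH0 : Nat.card H ≠ 0 := Nat.card_pos.ne'
  have h2 := two_dvd_card h.toCtx0 H hQH
  have hT := h.even H hH h2
  have := twoP_eq h.hp h.hp2 hH0 hT
  rw [fact_two_eq h.toCtx0 H hQH] at this
  exact this

end Cfsg.Agent.Lib.Helper74_MX_Aux
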