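import Cfsg.Agent.Lib.Helper74_MX_Aux

/-!
Package MX-B3 of the S4017 market (architect helper6), core form: the statement of MX-B2
(`lemT_abstract`) for the subgroup `H` is taken as a hypothesis.
-/

set_option autoImplicit false
set_option linter.unusedSectionVars false

namespace Cfsg.Agent.Lib.Helper74_MX_B3core

open Cfsg.Agent.Lib.Helper6_MXDefs Cfsg.Agent.Lib.Helper74_MX_Aux

variable {G : Type*} [Group G] [Finite G] {p a : ℕ} {Q : Subgroup G} {x : G}

theorem lemT_core
    (hT : ∀ (H : Subgroup G) [Fact p.Prime], p ≠ 2 →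
      ∀ (Q' : Subgroup H) (P : Sylow p H) (x' : H),
      Nat.card H = Nat.card Q' * Nat.card P → IsPGroup 2 Q' →
      (∀ g ∈ P, ∀ h ∈ P, g * h = h * g) → x' ∈ P →
      x' ∈ Subgroup.normalizer (Q' : Set H) → (∀ v ∈ Q', x' * v * x'⁻¹ = v → v = 1) →
      Q'.Normal)
    (h : Ctx G p a Q x) : PLemT Q x := by
  intro H hHtop hQH hxH
  have hp : Fact p.Prime := ⟨h.hp⟩
  set Q' : Subgroup H := Q.subgroupOf H with hQ'
  set x' : H := ⟨x, hxH⟩ with hx'
  -- a Sylow `p`-subgroup of `H` containing `x'`
  have hzp : IsPGroup p (Subgroup.zpowers x') := by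
    obtain ⟨k, hk⟩ := h.xp
    rw [IsPGroup.iff_orderOf]
    rintro ⟨g, hg⟩
    have hx'k : x' ^ p ^ k = 1 := by
      apply Subtype.ext
      simpa using hk
    have h1 : orderOf x' ∣ p ^ k := orderOf_dvd_of_pow_eq_one hx'k
    have h2 : orderOf g ∣ orderOf x' := by
      obtain ⟨n, rfl⟩ := Subgroup.mem_zpowers_iff.mp hg
      exact orderOf_dvd_of_pow_eq_one (by
        rw [← zpow_natCast, ← zpow_mul, mul_comm, zpow_mul, zpow_natCast, pow_orderOf_eq_one,
          one_zpow])
    have h3 : orderOf (⟨g, hg⟩ : Subgroup.zpowers x') = orderOf g := Subgroup.orderOf_mk g hg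
    rw [h3]
    exact (Nat.dvd_prime_pow h.hp).mp (dvd_trans h2 h1) |>.imp fun _ h => h.2
  obtain ⟨P, hP⟩ := hzp.exists_le_sylow
  have hcardQ' : Nat.card Q' = 2 ^ a := by
    rw [hQ', Nat.card_congr (Subgroup.subgroupOfEquivOfLe hQH).toEquiv, h.cardQ]
  have hcardH := card_eq h H hHtop hQH
  have hcardP : Nat.card P = p ^ (Nat.card H).factorization p := P.card_eq_multiplicity
  have hnorm : Q'.Normal := by
    apply hT H h.hp2 Q' P x'
    · rw [hcardQ', hcardP]
      exact hcardH
    · exact IsPGroup.of_card hcardQ'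
    · intro g hg k hk
      have hPG : IsPGroup p ((P : Subgroup H).map H.subtype) := P.isPGroup'.map H.subtype
      have := h.abel _ hPG (g : G) (Subgroup.mem_map_of_mem H.subtype hg) (k : G)
        (Subgroup.mem_map_of_mem H.subtype hk)
      exact Subtype.ext this
    · exact hP (Subgroup.mem_zpowers x')
    · rw [Subgroup.mem_normalizer_iff]
      intro v
      have hxN := h.xN
      rw [Subgroup.mem_normalizer_iff] at hxN
      rw [hQ', Subgroup.mem_subgroupOf, Subgroup.mem_subgroupOf]
      exact hxN (v : G)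
    · intro v hv hfix
      have hv' : (v : G) ∈ Q := Subgroup.mem_subgroupOf.mp hv
      have := h.xfree (v : G) hv' (by
        have := congrArg Subtype.val hfix
        simpa using this)
      exact Subtype.ext this
  exact (Subgroup.normal_subgroupOf_iff_le_normalizer hQH).mp hnorm

end Cfsg.Agent.Lib.Helper74_MX_B3core
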