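import Cfsg.Agent.Lib.Helper74_MX_Aux

/-!
Package MX-C1 of the S4017 market (architect helper6), core form: the statement of MX-B1
(`burnside_sub`, for the prime `2`) is taken as a hypothesis.
-/

set_option autoImplicit false
set_option linter.unusedSectionVars false

namespace Cfsg.Agent.Lib.Helper74_MX_C1core

open Cfsg.Agent.Lib.Helper6_MXDefs Cfsg.Agent.Lib.Helper74_MX_Aux

variable {G : Type*} [Group G] [Finite G] {p a : ℕ} {Q : Subgroup G} {x : G}

theorem isPEl_coprime_two {p : ℕ} (hp : p.Prime) (hp2 : p ≠ 2) {g : G} (hg : IsPEl p g) :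
    (orderOf g).Coprime 2 := by
  obtain ⟨k, hk⟩ := hg
  have h1 : orderOf g ∣ p ^ k := orderOf_dvd_of_pow_eq_one hk
  have h2 : (p ^ k).Coprime 2 := by
    apply Nat.Coprime.pow_left
    exact (Nat.coprime_primes hp Nat.prime_two).mpr hp2
  exact Nat.Coprime.coprime_dvd_left h1 h2

theorem ot_core
    (hB : ∀ (H S : Subgroup G), S ≤ H → Nat.card S = 2 ^ (Nat.card H).factorization 2 →
      (∀ g ∈ H, g ∈ Subgroup.normalizer (S : Set G) → ∀ s ∈ S, g * s = s * g) →
      ∃ K : Subgroup G, K ≤ H ∧ (∀ g ∈ H, ∀ k ∈ K, g * k * g⁻¹ ∈ K) ∧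
        Nat.card K * Nat.card S = Nat.card H ∧
        (∀ g ∈ H, (orderOf g).Coprime 2 → g ∈ K) ∧
        (∀ g ∈ H, ∃ k ∈ K, ∃ s ∈ S, g = k * s))
    (h : Ctx G p a Q x) (hE : PElem Q) (hS : PStab Q)
    (hctr : ∀ g : G, g ≠ 1 → Subgroup.centralizer ({g} : Set G) ≠ ⊤) : POt p Q := by
  intro t ht ht1
  set H : Subgroup G := Subgroup.centralizer ({t} : Set G) with hH
  have hmemH : ∀ g : G, g ∈ H ↔ g * t = t * g := by
    intro g
    rw [hH, Subgroup.mem_centralizer_iff]
    constructor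
    · intro hg
      exact (hg t rfl).symm
    · intro hg s hs
      rw [Set.mem_singleton_iff] at hs
      subst hs
      exact hg.symm
  have hQH : Q ≤ H := by
    intro v hv
    rw [hmemH]
    exact hE.2 v hv t ht
  have hHtop : H ≠ ⊤ := hctr t ht1
  have hf2 : (Nat.card H).factorization 2 = a := fact_two_eq h.toCtx0 H hQH
  have hcardH := card_eq h H hHtop hQH
  obtain ⟨K, hKH, -, hKcard, hKcop, hKdec⟩ := hB H Q hQH (by rw [hf2, h.cardQ]) (by
    intro g hgH hgN s hs
    have hgt : g * t * g⁻¹ = t := by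
      rw [(hmemH g).mp hgH, mul_inv_cancel_right]
    exact hS g hgN t ht ht1 hgt s hs)
  -- `K` is a `p`-group
  have hKp : IsPGroup p K := by
    have hp : Fact p.Prime := ⟨h.hp⟩
    apply IsPGroup.of_card (n := (Nat.card H).factorization p)
    rw [h.cardQ, hcardH, mul_comm] at hKcard
    exact Nat.eq_of_mul_eq_mul_left (by positivity) hKcard
  have hOpK : Op p t ≤ K := by
    unfold Op
    rw [Subgroup.closure_le]
    rintro g ⟨hg1, hg2⟩
    exact hKcop g ((hmemH g).mpr hg1) (isPEl_coprime_two h.hp h.hp2 hg2)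
  have hKOp : K ≤ Op p t := by
    intro k hk
    apply Subgroup.subset_closure
    refine ⟨(hmemH k).mp (hKH hk), ?_⟩
    obtain ⟨n, hn⟩ := hKp ⟨k, hk⟩
    refine ⟨n, ?_⟩
    have := congrArg Subtype.val hn
    simpa using this
  refine ⟨hKp.to_le hOpK, ?_⟩
  intro g hg
  obtain ⟨k, hk, s, hs, rfl⟩ := hKdec g ((hmemH g).mpr hg)
  exact ⟨k, hKOp hk, s, hs, rfl⟩

end Cfsg.Agent.Lib.Helper74_MX_C1core
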