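import Mathlib
import Cfsg.Agent.Lib.Helper94_OD3Defs

set_option autoImplicit false
set_option linter.unusedSectionVars false
set_option linter.unusedVariables false

/-!
# OD3 market (architect helper94), package OD3-C0, hypothesis-parametrised form

`C0_of`: the statement of `C0` with the verbatim statements of the packages VALUE and TRANS as
hypotheses (twin of `Helper24_Q2_C0aux.C0_aux`).
-/

namespace Cfsg.Agent.Lib.Helper74_OD3_C0aux

open Module Cfsg.Agent.Lib.Helper94_Symp Cfsg.Agent.Lib.Helper94_OrthSmall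
  Cfsg.Agent.Lib.Helper94_OrthSiegel Cfsg.Agent.Lib.Helper94_OrthNondeg
  Cfsg.Agent.Lib.Helper29_ODDefs Cfsg.Agent.Lib.Helper94_Q2Defs Cfsg.Agent.Lib.Helper94_OD3Defs

variable {F V : Type*} [Field F] [AddCommGroup V] [Module F V] [Finite F] [FiniteDimensional F V]
  {Q : V → F} {B : LinearMap.BilinForm F V} {t k : ℕ} {D : Fin t → Submodule F V}
  {S M L : Subgroup (V ≃ₗ[F] V)}

/-- `C0` from the statements of VALUE (for the blocks) and TRANS. -/
theorem C0_of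
    (hVALUE : ∀ (A : Submodule F V), (∀ a ∈ A, a ≠ 0 → ∃ x ∈ A, B x a ≠ 0) → 2 ≤ finrank F A →
      ∀ c : F, ∃ x ∈ A, Q x = c)
    (hTRANS : ∀ {x y : V}, IsBlN Q D x → IsBlN Q D y → Q x = Q y →
      ∃ h ∈ S ⊓ ⁅oG Q, oG Q⁆, h x = y)
    (hC : Ctx3 Q B k D S M) (s : Set F) (hs : ∃ c ∈ s, c ≠ 0)
    (hCs : ∀ x, IsBlN Q D x → Q x ∈ s → CStarA S M x) :
    ∀ g ∈ M, ∀ i j, (D i).map (g : V →ₗ[F] V) = D j → g ∈ S := by
  intro g hg i j hij
  obtain ⟨c, hcs, hc0⟩ := hs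
  have h2k : 2 ≤ finrank F (D i) := by
    rw [hC.hD.fr i]
    exact le_trans (by norm_num) hC.hk
  obtain ⟨x, hxD, hxQ⟩ := hVALUE (D i) (hC.hD.nd i) h2k c
  have hxB : IsBlN Q D x := ⟨by rw [hxQ]; exact hc0, i, hxD⟩
  have hgO : g ∈ oG Q := (Subgroup.commutator_le_self _) (hC.hMO hg)
  have hgxQ : Q (g x) = Q x := hgO x
  have hgxD : g x ∈ D j := by
    rw [← hij]
    exact Submodule.mem_map_of_mem hxD
  have hgxB : IsBlN Q D (g x) := ⟨by rw [hgxQ]; exact hxB.1, j, hgxD⟩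
  obtain ⟨h₁, hh₁, hh₁x⟩ := hTRANS hgxB hxB hgxQ
  have hmem : h₁ * g ∈ M := Subgroup.mul_mem _ (hC.hmin.le hh₁) hg
  have hfix : (h₁ * g) x = (1 : F) • x := by
    rw [LinearEquiv.mul_apply, hh₁x, one_smul]
  have hS1 : h₁ * g ∈ S := hCs x hxB (by rw [hxQ]; exact hcs) (h₁ * g) hmem ⟨1, hfix⟩
  have : g = h₁⁻¹ * (h₁ * g) := by group
  rw [this]
  exact Subgroup.mul_mem _ (Subgroup.inv_mem _ hh₁.1) hS1

end Cfsg.Agent.Lib.Helper74_OD3_C0aux
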