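import Mathlib
import Cfsg.Agent.Lib.Helper56_RuDefs
import Cfsg.Agent.Lib.Helper56_RuBasic
import Cfsg.Agent.Lib.Helper72_Idx4

/-!
# ru_packages D8 (helper74): `T / W ≅ D_8` for a Rudvalis-type 2-group `T`, `W = C_T(Z_3(T))`.

`quot_D8_of` takes the NHAT statements (`Nc_index`, `Nc_sq`, `Nc_fix`, `Nc_choice`) as hypotheses.
-/

set_option autoImplicit false

open scoped commutatorElement
open Cfsg.Agent.Lib.Helper56_RuDefs Cfsg.Agent.Lib.Helper56_RuBasic

namespace Cfsg.Agent.Lib.Helper74_RU_D8aux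

variable {T : Type*} [Group T]

/-- in a subgroup of order two, two nontrivial elements coincide. -/
theorem h74_eq_of_card_two {H : Subgroup T} (hc : Nat.card ↥H = 2) {a b : T} (ha : a ∈ H) (hb : b ∈ H)
    (ha1 : a ≠ 1) (hb1 : b ≠ 1) : a = b := by
  obtain ⟨x, y, hxy, hu⟩ := Nat.card_eq_two_iff.1 hc
  have h1 : ∀ c : ↥H, c = x ∨ c = y := fun c => by
    have : c ∈ ({x, y} : Set ↥H) := by rw [hu]; trivial
    simpa using this
  have ha' : (⟨a, ha⟩ : ↥H) ≠ 1 := fun hh => ha1 (by simpa using congrArg Subtype.val hh)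
  have hb' : (⟨b, hb⟩ : ↥H) ≠ 1 := fun hh => hb1 (by simpa using congrArg Subtype.val hh)
  have key : (⟨a, ha⟩ : ↥H) = ⟨b, hb⟩ := by
    rcases h1 1 with h0 | h0 <;> rcases h1 ⟨a, ha⟩ with h2 | h2 <;> rcases h1 ⟨b, hb⟩ with h3 | h3
    · exact absurd (h2.trans h0.symm) ha'
    · exact absurd (h2.trans h0.symm) ha'
    · exact absurd (h3.trans h0.symm) hb'
    · exact h2.trans h3.symm
    · exact h2.trans h3.symm
    · exact absurd (h3.trans h0.symm) hb'
    · exact absurd (h2.trans h0.symm) ha'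
    · exact absurd (h2.trans h0.symm) ha'
  simpa using congrArg Subtype.val key

/-- D8, with the NHAT statements as hypotheses. -/
theorem quot_D8_of (h : Str T)
    (hNidx : (Nc T).index = 2)
    (hNsq : ∀ k ∈ Nc T, k ^ 2 ∈ Wc T)
    (hNfix : ∀ k ∈ Nc T, k ∉ Wc T → ∀ z ∈ Subgroup.upperCentralSeries T 3,
      k * z = z * k → z ∈ Subgroup.upperCentralSeries T 2)
    (hNch : ∃ n' ∈ Nc T, ∃ n ∈ Nc T, n' ∉ Wc T ∧ n ∉ Wc T ⊔ Subgroup.zpowers n') :
    Nonempty (T ⧸ Wc T ≃* DihedralGroup 4) := by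
  have := h.fin
  have h12 : Subgroup.upperCentralSeries T 1 ≤ Subgroup.upperCentralSeries T 2 :=
    Subgroup.upperCentralSeries_mono T (by norm_num)
  have h23 : Subgroup.upperCentralSeries T 2 ≤ Subgroup.upperCentralSeries T 3 :=
    Subgroup.upperCentralSeries_mono T (by norm_num)
  have hc1 : Nat.card ↥(Subgroup.upperCentralSeries T 1) = 2 := by
    simpa using h.cardZ 1 (by norm_num)
  have hc2 : Nat.card ↥(Subgroup.upperCentralSeries T 2) = 4 := by
    simpa using h.cardZ 2 (by norm_num)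
  have hc3 : Nat.card ↥(Subgroup.upperCentralSeries T 3) = 8 := by
    simpa using h.cardZ 3 (by norm_num)
  -- `z3 ∈ Z_3 \ Z_2`
  obtain ⟨z3, hz3, hz3'⟩ : ∃ z3 ∈ Subgroup.upperCentralSeries T 3,
      z3 ∉ Subgroup.upperCentralSeries T 2 := by
    by_contra hcon
    push Not at hcon
    have hle : Subgroup.upperCentralSeries T 3 ≤ Subgroup.upperCentralSeries T 2 := hcon
    have := Subgroup.card_le_of_le hle
    rw [hc2, hc3] at this
    norm_num at this
  obtain ⟨n', hn', n, hn, hn'W, hnS⟩ := hNch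
  have hcomm2 : ∀ t : T, ⁅t, z3⁆ ∈ Subgroup.upperCentralSeries T 2 := fun t => by
    have h1 := comm_ucs 2 z3 hz3 t
    rw [← commutatorElement_inv]
    exact Subgroup.inv_mem _ h1
  have hne : ∀ k ∈ Nc T, k ∉ Wc T → ⁅k, z3⁆ ≠ 1 := by
    intro k hk hkW h1
    exact hz3' (hNfix k hk hkW z3 hz3 (commutatorElement_eq_one_iff_mul_comm.1 h1))
  have hnW : n ∉ Wc T := fun hc => hnS (Subgroup.mem_sup_left hc)
  have hnn : n'⁻¹ * n ∉ Wc T := by
    intro hc
    apply hnS
    have : n = n' * (n'⁻¹ * n) := by group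
    rw [this]
    exact Subgroup.mul_mem _ (Subgroup.mem_sup_right (Subgroup.mem_zpowers n'))
      (Subgroup.mem_sup_left hc)
  -- an element `hh ∈ N` with `⁅hh, z3⁆ ∉ Z_1`
  obtain ⟨hh, hhN, hhZ⟩ : ∃ hh ∈ Nc T, ⁅hh, z3⁆ ∉ Subgroup.upperCentralSeries T 1 := by
    by_contra hcon
    push Not at hcon
    have hab : ⁅n', z3⁆ = ⁅n, z3⁆ :=
      h74_eq_of_card_two hc1 (hcon n' hn') (hcon n hn) (hne n' hn' hn'W) (hne n hn hnW)
    have h1 : n' * z3 * n'⁻¹ = n * z3 * n⁻¹ := by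
      have := congrArg (· * z3) hab
      simpa [commutatorElement_def] using this
    have h2 : (n'⁻¹ * n) * z3 = z3 * (n'⁻¹ * n) := by
      calc n'⁻¹ * n * z3 = n'⁻¹ * (n * z3 * n⁻¹) * n := by group
        _ = n'⁻¹ * (n' * z3 * n'⁻¹) * n := by rw [h1]
        _ = z3 * (n'⁻¹ * n) := by group
    exact hz3' (hNfix _ (Subgroup.mul_mem _ (Subgroup.inv_mem _ hn') hn) hnn z3 hz3 h2)
  set z2 : T := ⁅hh, z3⁆ with hz2def
  have hz2 : z2 ∈ Subgroup.upperCentralSeries T 2 := hcomm2 hh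
  -- `g ∉ N`
  obtain ⟨g, hg⟩ : ∃ g : T, g ∉ Nc T := by
    by_contra hcon
    push Not at hcon
    have : Nc T = ⊤ := (Subgroup.eq_top_iff' _).2 hcon
    rw [this, Subgroup.index_top] at hNidx
    norm_num at hNidx
  obtain ⟨y, hy, hyg⟩ : ∃ y ∈ Subgroup.upperCentralSeries T 2, y * g ≠ g * y := by
    by_contra hcon
    push Not at hcon
    exact hg (Subgroup.mem_centralizer_iff.2 hcon)
  have hcen : ∀ z ∈ Subgroup.upperCentralSeries T 1, ∀ t : T, t * z = z * t := by
    intro z hz t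
    rw [Subgroup.upperCentralSeries_one] at hz
    exact Subgroup.mem_center_iff.1 hz t
  -- `g` does not commute with `z2`
  have hgz2 : g * z2 ≠ z2 * g := by
    intro hcomm
    have hy1 : y ∉ Subgroup.upperCentralSeries T 1 := fun hc => hyg (hcen y hc g).symm
    have hidx : ((Subgroup.upperCentralSeries T 1).subgroupOf
        (Subgroup.upperCentralSeries T 2)).index = 2 := by
      have h1 := card_mul_relIndex h12
      rw [hc1, hc2] at h1
      have : (Subgroup.upperCentralSeries T 1).relIndex (Subgroup.upperCentralSeries T 2) = 2 := by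
        omega
      exact this
    have h3 := Subgroup.mul_mem_iff_of_index_two hidx
      (a := (⟨y, hy⟩ : ↥(Subgroup.upperCentralSeries T 2))) (b := ⟨z2, hz2⟩)
    have h4 : y * z2 ∈ Subgroup.upperCentralSeries T 1 := by
      have : ((⟨y, hy⟩ : ↥(Subgroup.upperCentralSeries T 2)) * ⟨z2, hz2⟩) ∈
          (Subgroup.upperCentralSeries T 1).subgroupOf (Subgroup.upperCentralSeries T 2) := by
        rw [h3]
        simp only [Subgroup.mem_subgroupOf]
        exact ⟨fun hc => absurd hc hy1, fun hc => absurd hc hhZ⟩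
      simpa [Subgroup.mem_subgroupOf] using this
    have h5 : g * (y * z2) = (y * z2) * g := hcen _ h4 g
    apply hyg
    have h6 : g * z2⁻¹ = z2⁻¹ * g := by
      calc g * z2⁻¹ = z2⁻¹ * (z2 * g) * z2⁻¹ := by group
        _ = z2⁻¹ * (g * z2) * z2⁻¹ := by rw [hcomm]
        _ = z2⁻¹ * g := by group
    calc y * g = (y * z2) * (z2⁻¹ * g) := by group
      _ = (y * z2) * (g * z2⁻¹) := by rw [h6]
      _ = ((y * z2) * g) * z2⁻¹ := by group
      _ = (g * (y * z2)) * z2⁻¹ := by rw [h5]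
      _ = g * y := by group
  -- the noncentral involution
  have hcard : Nat.card (T ⧸ Wc T) = 8 := by
    rw [← Subgroup.index_eq_card, h.idxW]
  refine Helper72_Idx4.nonempty_mulEquiv_dihedral_of_card_eight hcard
    (x := (QuotientGroup.mk hh : T ⧸ Wc T)) ?_ ?_
  · rw [← QuotientGroup.mk_mul, QuotientGroup.eq_one_iff, ← pow_two]
    exact hNsq hh hhN
  · intro hcenter
    have h1 := Subgroup.mem_center_iff.1 hcenter (QuotientGroup.mk g)
    rw [← QuotientGroup.mk_mul, ← QuotientGroup.mk_mul, QuotientGroup.eq] at h1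
    -- `u = (g * hh)⁻¹ * (hh * g) ∈ W` commutes with `z3`
    have h2 := commute_Z3 _ h1 z3 hz3
    set c : T := ⁅g, z3⁆ with hcdef
    have hc2' : c ∈ Subgroup.upperCentralSeries T 2 := hcomm2 g
    have e1 : g * z3 * g⁻¹ = c * z3 := by
      simp [hcdef, commutatorElement_def]
    have e2 : hh * z3 * hh⁻¹ = z2 * z3 := by
      simp [hz2def, commutatorElement_def]
    have e3 : hh * c * hh⁻¹ = c := by
      have := Subgroup.mem_centralizer_iff.1 hhN c hc2'
      calc hh * c * hh⁻¹ = (hh * c) * hh⁻¹ := by group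
        _ = (c * hh) * hh⁻¹ := by rw [this]
        _ = c := by group
    have e4 : c * z2 = z2 * c :=
      commute_Z3 c (Z3_le_W h (h23 hc2')) z2 (h23 hz2)
    have e5 : (hh * g) * z3 * (hh * g)⁻¹ = (g * hh) * z3 * (g * hh)⁻¹ := by
      calc (hh * g) * z3 * (hh * g)⁻¹
          = (g * hh) * (((g * hh)⁻¹ * (hh * g)) * z3) * (hh * g)⁻¹ := by group
        _ = (g * hh) * (z3 * ((g * hh)⁻¹ * (hh * g))) * (hh * g)⁻¹ := by rw [h2]
        _ = (g * hh) * z3 * (g * hh)⁻¹ := by group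
    have e6 : (hh * g) * z3 * (hh * g)⁻¹ = c * (z2 * z3) := by
      calc (hh * g) * z3 * (hh * g)⁻¹ = hh * (g * z3 * g⁻¹) * hh⁻¹ := by group
        _ = hh * (c * z3) * hh⁻¹ := by rw [e1]
        _ = (hh * c * hh⁻¹) * (hh * z3 * hh⁻¹) := by group
        _ = c * (z2 * z3) := by rw [e3, e2]
    have e7 : (g * hh) * z3 * (g * hh)⁻¹ = (g * z2 * g⁻¹) * (c * z3) := by
      calc (g * hh) * z3 * (g * hh)⁻¹ = g * (hh * z3 * hh⁻¹) * g⁻¹ := by group
        _ = g * (z2 * z3) * g⁻¹ := by rw [e2]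
        _ = (g * z2 * g⁻¹) * (g * z3 * g⁻¹) := by group
        _ = (g * z2 * g⁻¹) * (c * z3) := by rw [e1]
    have e8 : g * z2 * g⁻¹ = z2 := by
      have h3 : c * (z2 * z3) = (g * z2 * g⁻¹) * (c * z3) := by rw [← e6, ← e7, e5]
      have h4 : (z2 * c) * z3 = ((g * z2 * g⁻¹) * c) * z3 := by
        calc (z2 * c) * z3 = c * (z2 * z3) := by rw [← e4, mul_assoc]
          _ = (g * z2 * g⁻¹) * (c * z3) := h3
          _ = ((g * z2 * g⁻¹) * c) * z3 := (mul_assoc _ _ _).symm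
      have h5 := mul_right_cancel (mul_right_cancel h4)
      exact h5.symm
    apply hgz2
    calc g * z2 = (g * z2 * g⁻¹) * g := by group
      _ = z2 * g := by rw [e8]

end Cfsg.Agent.Lib.Helper74_RU_D8aux
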