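import Mathlib
import Cfsg.Agent.Lib.Helper56_RuDefs
import Cfsg.Agent.Lib.Helper56_RuBasic
import Cfsg.Agent.Lib.Helper86_RU_COMM
import Cfsg.Agent.Lib.Helper42_RU_EXPaux
import Cfsg.Agent.Lib.Helper8_RU_NHATa
import Cfsg.Agent.Lib.Helper74_RU_D8aux

/-!
# ru_packages D8 (helper74): verbatim `quot_D8` (`T / W ≅ D_8`).
-/

set_option autoImplicit false

open scoped commutatorElement
open Cfsg.Agent.Lib.Helper56_RuDefs Cfsg.Agent.Lib.Helper56_RuBasic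

namespace Cfsg.Agent.Lib.Helper74_RU_D8

variable {T : Type*} [Group T]

/-- D8. -/
theorem quot_D8 (h : Str T) : Nonempty (T ⧸ Wc T ≃* DihedralGroup 4) := by
  have hexp : ∀ z ∈ Subgroup.upperCentralSeries T 3, z ^ 2 = 1 :=
    Cfsg.Agent.Lib.Helper42_RU_EXPaux.exp_Z3_of h (Cfsg.Agent.Lib.Helper86_RU_COMM.comm_eq h)
  have hsq : ∀ k ∈ Nc T, k ^ 2 ∈ Wc T := Cfsg.Agent.Lib.Helper8_RU_NHATa.Nc_sq_aux hexp
  exact Cfsg.Agent.Lib.Helper74_RU_D8aux.quot_D8_of h (Cfsg.Agent.Lib.Helper8_RU_NHATa.Nc_index h) hsq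
    (Cfsg.Agent.Lib.Helper8_RU_NHATa.Nc_fix h) (Cfsg.Agent.Lib.Helper8_RU_NHATa.Nc_choice_aux h hsq)

end Cfsg.Agent.Lib.Helper74_RU_D8
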