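import Mathlib
import Cfsg.Prelude.Def_Transfer
import Cfsg.Agent.Lib.Helper56_RuDefs
import Cfsg.Agent.Lib.Helper56_RuBasic

/-!
# ru_packages WCL (helper74): `W = C_T(Z_3(T))` is weakly closed in `T` with respect to `G`
(transport of the abstract core `wcl_core` to `IsWeaklyClosed`).

`weakly_closed_of` takes the statement of WCLCORE as a hypothesis.
-/

set_option autoImplicit false

open scoped commutatorElement
open Cfsg.Agent.Lib.Helper56_RuDefs Cfsg.Agent.Lib.Helper56_RuBasic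

namespace Cfsg.Agent.Lib.Helper74_RU_WCLaux

/-- cardinality of the comap under the subtype of a subgroup contained in `P`. -/
theorem h74_card_comap_subtype {G : Type*} [Group G] (P H : Subgroup G) (hH : H ≤ P) :
    Nat.card ↥(H.comap P.subtype) = Nat.card ↥H := by
  exact Nat.card_congr (Subgroup.subgroupOfEquivOfLe hH).toEquiv

/-- cardinality of the image under conjugation. -/
theorem h74_card_map_conj {G : Type*} [Group G] (H : Subgroup G) (g : G) :
    Nat.card ↥(H.map (MulAut.conj g).toMonoidHom) = Nat.card ↥H := by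
  exact (Nat.card_congr (Subgroup.equivMapOfInjective H (MulAut.conj g).toMonoidHom
    (MulAut.conj g).injective).toEquiv).symm

/-- WCL, with the statement of WCLCORE as a hypothesis. -/
theorem weakly_closed_of {G : Type*} [Group G] [Finite G] (P : Sylow 2 G) (h : Str ↥(P : Subgroup G))
    (hcore : ∀ (W1 Z' : Subgroup ↥(P : Subgroup G)), Z' ≤ W1 → Nat.card ↥Z' = 8 →
      Nat.card ↥W1 = 2 ^ 11 → (∀ u ∈ W1, u ^ 2 ∈ Z') → (∀ u ∈ W1, ∀ v ∈ W1, ⁅u, v⁆ ∈ Z') →
      (∀ u ∈ W1, ∀ z ∈ Z', u * z = z * u) → W1 = Wc ↥(P : Subgroup G)) :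
    Cfsg.IsWeaklyClosed ((Wc ↥(P : Subgroup G)).map (P : Subgroup G).subtype) (P : Subgroup G) := by
  refine ⟨Subgroup.map_subtype_le _, fun g hg => ?_⟩
  set PP : Subgroup G := (P : Subgroup G) with hPP
  set W : Subgroup ↥PP := Wc ↥PP with hW
  set Z3 : Subgroup ↥PP := Subgroup.upperCentralSeries ↥PP 3 with hZ3
  set Wg : Subgroup G := (W.map PP.subtype).map (MulAut.conj g).toMonoidHom with hWg
  set Zg : Subgroup G := (Z3.map PP.subtype).map (MulAut.conj g).toMonoidHom with hZg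
  have hZW : Z3 ≤ W := Z3_le_W h
  have hZgWg : Zg ≤ Wg := Subgroup.map_mono (Subgroup.map_mono hZW)
  have hZgP : Zg ≤ PP := hZgWg.trans hg
  -- membership descriptions
  have hmemW : ∀ u : G, u ∈ Wg ↔ ∃ w : ↥PP, w ∈ W ∧ g * (w : G) * g⁻¹ = u := by
    intro u
    constructor
    · intro hu
      obtain ⟨v, hv, rfl⟩ := Subgroup.mem_map.1 hu
      obtain ⟨w, hw, rfl⟩ := Subgroup.mem_map.1 hv
      exact ⟨w, hw, rfl⟩
    · rintro ⟨w, hw, rfl⟩
      exact Subgroup.mem_map.2 ⟨_, Subgroup.mem_map.2 ⟨w, hw, rfl⟩, rfl⟩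
  have hmemZ : ∀ u : G, u ∈ Zg ↔ ∃ w : ↥PP, w ∈ Z3 ∧ g * (w : G) * g⁻¹ = u := by
    intro u
    constructor
    · intro hu
      obtain ⟨v, hv, rfl⟩ := Subgroup.mem_map.1 hu
      obtain ⟨w, hw, rfl⟩ := Subgroup.mem_map.1 hv
      exact ⟨w, hw, rfl⟩
    · rintro ⟨w, hw, rfl⟩
      exact Subgroup.mem_map.2 ⟨_, Subgroup.mem_map.2 ⟨w, hw, rfl⟩, rfl⟩
  have hkey : Wg.comap PP.subtype = W := by
    apply hcore (Wg.comap PP.subtype) (Zg.comap PP.subtype)
    · exact Subgroup.comap_mono hZgWg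
    · rw [h74_card_comap_subtype PP Zg hZgP, hZg, h74_card_map_conj,
        ← Nat.card_congr (Subgroup.equivMapOfInjective Z3 PP.subtype
          PP.subtype_injective).toEquiv]
      simpa using h.cardZ 3 (by norm_num)
    · rw [h74_card_comap_subtype PP Wg hg, hWg, h74_card_map_conj,
        ← Nat.card_congr (Subgroup.equivMapOfInjective W PP.subtype
          PP.subtype_injective).toEquiv]
      exact card_W h
    · intro u hu
      rw [Subgroup.mem_comap] at hu ⊢
      obtain ⟨w, hw, hwu⟩ := (hmemW _).1 hu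
      refine (hmemZ _).2 ⟨w ^ 2, sq_mem h w hw, ?_⟩
      simp only [Subgroup.subtype_apply, Subgroup.coe_pow] at hwu ⊢
      rw [← hwu]
      simp only [pow_two]; group
    · intro u hu v hv
      rw [Subgroup.mem_comap] at hu hv ⊢
      obtain ⟨w, hw, hwu⟩ := (hmemW _).1 hu
      obtain ⟨w', hw', hwv⟩ := (hmemW _).1 hv
      refine (hmemZ _).2 ⟨⁅w, w'⁆, comm_mem h w hw w' hw', ?_⟩
      simp only [Subgroup.subtype_apply] at hwu hwv ⊢
      have : ((⁅u, v⁆ : ↥PP) : G) = ⁅(u : G), (v : G)⁆ := by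
        simp [commutatorElement_def]
      rw [this, ← hwu, ← hwv]
      simp only [commutatorElement_def, Subgroup.coe_mul, Subgroup.coe_inv]; group
    · intro u hu z hz
      rw [Subgroup.mem_comap] at hu hz
      obtain ⟨w, hw, hwu⟩ := (hmemW _).1 hu
      obtain ⟨z', hz', hzz⟩ := (hmemZ _).1 hz
      have hc : w * z' = z' * w := commute_Z3 w hw z' hz'
      have hc' : (w : G) * (z' : G) = (z' : G) * (w : G) := by
        have := congrArg (fun x : ↥PP => (x : G)) hc
        simpa using this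
      apply Subtype.ext
      simp only [Subgroup.subtype_apply] at hwu hzz
      rw [Subgroup.coe_mul, Subgroup.coe_mul, ← hwu, ← hzz]
      calc g * ↑w * g⁻¹ * (g * ↑z' * g⁻¹) = g * (↑w * ↑z') * g⁻¹ := by group
        _ = g * (↑z' * ↑w) * g⁻¹ := by rw [hc']
        _ = g * ↑z' * g⁻¹ * (g * ↑w * g⁻¹) := by group
  -- conclude
  have h1 : (Wg.comap PP.subtype).map PP.subtype = Wg := by
    rw [Subgroup.map_comap_eq, Subgroup.range_subtype]
    exact inf_eq_right.2 hg
  rw [← h1, hkey]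

end Cfsg.Agent.Lib.Helper74_RU_WCLaux
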