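import Mathlib
import Cfsg.Prelude.Def_Transfer
import Cfsg.Agent.Lib.Helper56_RuDefs
import Cfsg.Agent.Lib.Helper56_RuBasic
import Cfsg.Agent.Lib.Helper60_RU_WCLCORE
import Cfsg.Agent.Lib.Helper74_RU_WCLaux

/-!
# ru_packages WCL (helper74): verbatim `weakly_closed`.
-/

set_option autoImplicit false

open scoped commutatorElement
open Cfsg.Agent.Lib.Helper56_RuDefs Cfsg.Agent.Lib.Helper56_RuBasic

namespace Cfsg.Agent.Lib.Helper74_RU_WCL

/-- WCL. -/
theorem weakly_closed {G : Type*} [Group G] [Finite G] (P : Sylow 2 G) (h : Str ↥(P : Subgroup G)) :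
    Cfsg.IsWeaklyClosed ((Wc ↥(P : Subgroup G)).map (P : Subgroup G).subtype) (P : Subgroup G) :=
  Cfsg.Agent.Lib.Helper74_RU_WCLaux.weakly_closed_of P h
    (fun W1 Z' hZW hcZ hcW hsq hab hcen =>
      Cfsg.Agent.Lib.Helper60_RU_WCLCORE.wcl_core h W1 Z' hZW hcZ hcW hsq hab hcen)

end Cfsg.Agent.Lib.Helper74_RU_WCL
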