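import Mathlib
import Cfsg.Prelude.Def_Characters
import Cfsg.Agent.Lib.Helper75_Clifford
import Cfsg.Agent.Lib.Helper75_CharProd
import Cfsg.Agent.Lib.Helper80_CharBasic
import Cfsg.Agent.Lib.Helper80_CharComplete
import Cfsg.Agent.Lib.Helper74_TwoDegS
import Cfsg.Agent.Lib.Helper74_LinAct
import Cfsg.Agent.Lib.Helper39_CharTools

/-!
# Characters with values of modulus one on a normal subgroup (helper74)

Let `χ` be a faithful non-linear irreducible character of `G` and `N ≠ 1` a normal subgroup on whose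
non-identity elements `χ` has modulus one.  Then `N` is abelian, `χ 1 = |N| - 1`, the restriction
of `χ` to `N` is the sum of all non-principal linear characters of `N`, and these are permuted
transitively by `G`.
-/

set_option autoImplicit false
set_option linter.unusedSectionVars false

namespace Cfsg.Agent.Lib.Helper74_RootA

open scoped ComplexConjugate Classical
open Cfsg
open Cfsg.Agent.Lib.Helper3_CharBridge Cfsg.Agent.Lib.Helper3_CharOrtho
  Cfsg.Agent.Lib.Helper3_CharComplete Cfsg.Agent.Lib.Helper3_CharColumn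
open Cfsg.Agent.Lib.Helper75_Induced Cfsg.Agent.Lib.Helper75_CharArith
  Cfsg.Agent.Lib.Helper75_IndChar Cfsg.Agent.Lib.Helper75_Clifford

universe u

variable {G : Type u} [Group G]

/-- the conjugates of an irreducible character of a normal subgroup, as a finset -/
noncomputable def conjSet [Fintype G] (N : Subgroup G) (hN : N.Normal) (θ : N → ℂ) :
    Finset (IrrCharacter N) :=
  Finset.univ.filter (fun ψ : IrrCharacter N => ∃ g : G, (ψ : N → ℂ) = conjFun N hN θ g)

theorem mem_conjSet [Fintype G] (N : Subgroup G) (hN : N.Normal) (θ : N → ℂ)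
    (ψ : IrrCharacter N) :
    ψ ∈ conjSet N hN θ ↔ ∃ g : G, (ψ : N → ℂ) = conjFun N hN θ g := by
  simp [conjSet]

/-- Clifford's theorem with a finite sum. -/
theorem clifford_finset [Fintype G] (N : Subgroup G) (hN : N.Normal) [Fintype N]
    {χ : G → ℂ} (hχ : IsIrrCharacter G χ) {θ : N → ℂ} (hθ : IsIrrCharacter N θ)
    (h1 : classInner (res N χ) θ ≠ 0) :
    res N χ = classInner (res N χ) θ • ∑ ψ ∈ conjSet N hN θ, (ψ : N → ℂ) := by
  have hχc : IsClassFunction G χ := isClassFunction_of_isIrrCharacter hχ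
  rw [Finset.smul_sum]
  conv_lhs => rw [classFunction_eq_sum (res N χ) (isClassFunction_res N hχc)]
  rw [conjSet, Finset.sum_filter]
  apply Finset.sum_congr rfl
  intro ψ _
  by_cases hψ : ∃ g : G, (ψ : N → ℂ) = conjFun N hN θ g
  · rw [if_pos hψ]
    obtain ⟨g, hg⟩ := hψ
    rw [hg, classInner_res_conjFun N hN hχc]
  · rw [if_neg hψ]
    have : classInner (res N χ) (ψ : N → ℂ) = 0 := by
      by_contra h2
      exact hψ (exists_conj_of_constituent N hN hχ hθ ψ.2 h1 h2)
    rw [this, zero_smul]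

/-- a character with nonzero degree has an irreducible constituent -/
theorem exists_constituent [Fintype G] {φ : G → ℂ} (hφ : IsCharacter G φ) (h1 : φ 1 ≠ 0) :
    ∃ θ : IrrCharacter G, classInner φ (θ : G → ℂ) ≠ 0 := by
  by_contra hne
  push Not at hne
  apply h1
  have h2 := classFunction_eq_sum φ (isClassFunction_of_isCharacter hφ)
  rw [h2]
  simp [hne]

theorem arithA (m n e t d : ℕ) (hm : 2 ≤ m) (hn1 : n ≠ 1) (he : 0 < e) (ht : 0 < t)
    (hn : n = e * t * d) (hdm : d ∣ m) (hnorm : n ^ 2 + (m - 1) = m * (e ^ 2 * t)) :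
    d = 1 ∧ e = 1 ∧ t = m - 1 ∧ n = m - 1 := by
  have hd1 : d = 1 := by
    have h1 : d ∣ n := ⟨e * t, by rw [hn]; ring⟩
    have h2 : d ∣ n ^ 2 + m := Dvd.dvd.add (Dvd.dvd.pow h1 (by norm_num)) hdm
    have h3 : n ^ 2 + m = m * (e ^ 2 * t) + 1 := by omega
    rw [h3] at h2
    have h4 : d ∣ m * (e ^ 2 * t) := Dvd.dvd.mul_right hdm _
    exact Nat.dvd_one.mp ((Nat.dvd_add_right h4).mp h2)
  subst hd1
  rw [mul_one] at hn
  subst hn
  obtain ⟨k, rfl⟩ : ∃ k, m = k + 2 := ⟨m - 2, by omega⟩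
  have h1 : (e * t) ^ 2 + (k + 1) = (k + 2) * (e ^ 2 * t) := by
    have : k + 2 - 1 = k + 1 := by omega
    rw [this] at hnorm
    exact hnorm
  have htlt : t < k + 2 := by
    by_contra hge
    push Not at hge
    have : (k + 2) * (e ^ 2 * t) ≤ (e * t) ^ 2 := by
      have : (e * t) ^ 2 = t * (e ^ 2 * t) := by ring
      rw [this]
      exact Nat.mul_le_mul_right _ hge
    omega
  obtain ⟨u, hu⟩ : ∃ u, k + 2 = t + (u + 1) := ⟨k + 2 - t - 1, by omega⟩
  have h2 : e ^ 2 * t * (u + 1) = t + u := by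
    have h3 : (e * t) ^ 2 + (k + 1) = (t + (u + 1)) * (e ^ 2 * t) := by rw [← hu]; exact h1
    have h4 : (t + (u + 1)) * (e ^ 2 * t) = (e * t) ^ 2 + e ^ 2 * t * (u + 1) := by ring
    rw [h4] at h3
    omega
  obtain ⟨s, rfl⟩ : ∃ s, t = s + 1 := ⟨t - 1, by omega⟩
  have he1 : e = 1 := by
    by_contra hne
    have he2 : 2 ≤ e := by omega
    have : 4 ≤ e ^ 2 := by nlinarith
    have h5 : 4 * ((s + 1) * (u + 1)) ≤ e ^ 2 * (s + 1) * (u + 1) := by
      rw [mul_assoc]
      exact Nat.mul_le_mul_right _ this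
    nlinarith
  subst he1
  have h6 : s * u = 0 := by
    have : (s + 1) * (u + 1) = s + 1 + u := by simpa using h2
    nlinarith
  rcases Nat.mul_eq_zero.mp h6 with hs | hu0
  · subst hs
    exact absurd (by simp) hn1
  · subst hu0
    refine ⟨rfl, rfl, by omega, by simp; omega⟩

/-- multiplicities of the irreducible characters of `N` in the restriction -/
theorem classInner_res_eq [Fintype G] (N : Subgroup G) (hN : N.Normal) [Fintype N]
    {χ : G → ℂ} (hχ : IsIrrCharacter G χ) {θ : N → ℂ} (hθ : IsIrrCharacter N θ)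
    (h1 : classInner (res N χ) θ ≠ 0) (ψ : IrrCharacter N) :
    classInner (res N χ) (ψ : N → ℂ) =
      if ψ ∈ conjSet N hN θ then classInner (res N χ) θ else 0 := by
  have hχc : IsClassFunction G χ := isClassFunction_of_isIrrCharacter hχ
  by_cases hψ : ψ ∈ conjSet N hN θ
  · rw [if_pos hψ]
    obtain ⟨g, hg⟩ := (mem_conjSet N hN θ ψ).mp hψ
    rw [hg, classInner_res_conjFun N hN hχc]
  · rw [if_neg hψ]
    by_contra h2
    exact hψ ((mem_conjSet N hN θ ψ).mpr (exists_conj_of_constituent N hN hχ hθ ψ.2 h1 h2))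

theorem sum_norm_res [Fintype G] (N : Subgroup G) [Fintype N] {χ : G → ℂ} (n : ℕ)
    (hn : χ 1 = n) (hnorm : ∀ x : N, x ≠ 1 → χ x * conj (χ x) = 1) :
    ∑ x : N, χ x * conj (χ x) = ((n ^ 2 + (Nat.card N - 1) : ℕ) : ℂ) := by
  rw [← Finset.add_sum_erase Finset.univ _ (Finset.mem_univ (1 : N))]
  have h1 : ∑ x ∈ Finset.univ.erase (1 : N), χ x * conj (χ x) =
      ∑ x ∈ Finset.univ.erase (1 : N), (1 : ℂ) := by
    apply Finset.sum_congr rfl
    intro x hx
    exact hnorm x (Finset.ne_of_mem_erase hx)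
  rw [h1, Finset.sum_const, Finset.card_erase_of_mem (Finset.mem_univ _), Finset.card_univ,
    Nat.card_eq_fintype_card]
  simp only [Subgroup.coe_one, hn, Complex.conj_natCast, nsmul_eq_mul, mul_one]
  push_cast
  ring

/-- **Main structure lemma.** -/
theorem main [Fintype G] (N : Subgroup G) (hN : N.Normal) [Fintype N] (hN1 : N ≠ ⊥)
    {χ : G → ℂ} (hχ : IsIrrCharacter G χ) (hfaith : ∀ g : G, χ g = χ 1 → g = 1)
    (hnl : χ 1 ≠ 1) (hnorm : ∀ x : N, x ≠ 1 → χ x * conj (χ x) = 1) :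
    ∃ θ : IrrCharacter N, (θ : N → ℂ) 1 = 1 ∧
      res N χ = ∑ ψ ∈ conjSet N hN θ, (ψ : N → ℂ) ∧
      (conjSet N hN θ).card + 1 = Nat.card N ∧ χ 1 = ((conjSet N hN θ).card : ℂ) ∧
      (∀ ψ : IrrCharacter N, classInner (res N χ) (ψ : N → ℂ) =
        if ψ ∈ conjSet N hN θ then 1 else 0) ∧
      ∀ ψ ∈ conjSet N hN θ, (ψ : N → ℂ) 1 = 1 := by
  have hχc : IsCharacter G χ := isCharacter_of_isIrrCharacter hχ
  have hres : IsCharacter N (res N χ) := isCharacter_res N hχc
  obtain ⟨n, hnpos, hn⟩ := irr_one_eq_natCast hχ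
  have hn1 : n ≠ 1 := by
    rintro rfl
    exact hnl (by rw [hn]; simp)
  have hres1 : res N χ 1 = n := by rw [res_apply]; exact hn
  obtain ⟨θ, hθ⟩ := exists_constituent hres (by rw [hres1]; exact_mod_cast hnpos.ne')
  obtain ⟨e, he⟩ := classInner_isCharacter_nat hres (isCharacter_of_isIrrCharacter θ.2)
  have he0 : 0 < e := by
    rcases Nat.eq_zero_or_pos e with h | h
    · rw [h, Nat.cast_zero] at he
      exact absurd he hθ
    · exact h
  obtain ⟨d, hdpos, hd⟩ := Cfsg.Agent.Lib.Helper80_CharBasic.irr_apply_one θ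
  set S := conjSet N hN (θ : N → ℂ) with hS
  have hmult := classInner_res_eq N hN hχ θ.2 hθ
  have hcl := clifford_finset N hN hχ θ.2 hθ
  have hSd : ∀ ψ ∈ S, (ψ : N → ℂ) 1 = d := by
    intro ψ hψ
    obtain ⟨g, hg⟩ := (mem_conjSet N hN _ ψ).mp hψ
    rw [hg, conjFun_apply, ← hd]
    exact congrArg _ (Subtype.ext (by simp))
  have hθS : θ ∈ S := (mem_conjSet N hN _ θ).mpr ⟨1, by rw [conjFun_one]⟩
  have htpos : 0 < S.card := Finset.card_pos.mpr ⟨θ, hθS⟩
  -- degree
  have hdeg : n = e * S.card * d := by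
    have h1 := congrFun hcl 1
    rw [hres1, he] at h1
    simp only [Pi.smul_apply, Finset.sum_apply, smul_eq_mul] at h1
    rw [Finset.sum_congr rfl hSd, Finset.sum_const, nsmul_eq_mul] at h1
    have h2 : (n : ℂ) = ((e * S.card * d : ℕ) : ℂ) := by
      push_cast
      rw [h1]
      ring
    exact_mod_cast h2
  -- norm
  have hnm : n ^ 2 + (Nat.card N - 1) = Nat.card N * (e ^ 2 * S.card) := by
    have h1 := classInner_self_eq_sum (isClassFunction_of_isCharacter hres)
    have h2 : ∑ ψ : IrrCharacter N, classInner (res N χ) (ψ : N → ℂ) *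
        conj (classInner (res N χ) (ψ : N → ℂ)) = ((e ^ 2 * S.card : ℕ) : ℂ) := by
      have h3 : ∀ ψ : IrrCharacter N, classInner (res N χ) (ψ : N → ℂ) *
          conj (classInner (res N χ) (ψ : N → ℂ)) = if ψ ∈ S then ((e ^ 2 : ℕ) : ℂ) else 0 := by
        intro ψ
        rw [hmult ψ]
        split_ifs
        · rw [he, Complex.conj_natCast]
          push_cast
          ring
        · simp
      rw [Finset.sum_congr rfl (fun ψ _ => h3 ψ), Finset.sum_ite_mem, Finset.univ_inter,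
        Finset.sum_const, nsmul_eq_mul]
      push_cast
      ring
    rw [h2] at h1
    unfold classInner at h1
    have h4 : ∑ g : N, res N χ g * conj (res N χ g) = ∑ x : N, χ x * conj (χ x) := rfl
    rw [h4, sum_norm_res N n hn hnorm] at h1
    have hN0 : (Nat.card N : ℂ) ≠ 0 := by
      rw [Nat.cast_ne_zero]; exact Nat.card_pos.ne'
    rw [inv_mul_eq_iff_eq_mul₀ hN0] at h1
    exact_mod_cast h1
  have hdN : d ∣ Nat.card N := Cfsg.Agent.Lib.Helper74_TwoDegS.degree_dvd_card θ d hd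
  have hN2 : 2 ≤ Nat.card N := by
    have h1 : Nat.card N ≠ 1 := by
      intro h
      exact hN1 ((Subgroup.card_eq_one).mp h)
    have h2 : 0 < Nat.card N := Nat.card_pos
    omega
  obtain ⟨hd1, he1, ht, hnN⟩ := arithA _ n e S.card d hN2 hn1 he0 htpos hdeg hdN hnm
  have hc1 : S.card + 1 = Nat.card N := by omega
  have hc2 : χ 1 = (S.card : ℂ) := by rw [hn, hnN, ht]
  refine ⟨θ, by rw [hd, hd1]; simp, ?_, hc1, hc2, ?_, ?_⟩
  · rw [hcl, he, he1]
    simp
  · intro ψ
    rw [hmult ψ, he, he1]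
    simp
  · intro ψ hψ
    rw [hSd ψ hψ, hd1]
    simp

/-- the outcome of the analysis, in a convenient form -/
structure Data [Fintype G] (N : Subgroup G) (hN : N.Normal) [Fintype N] (χ : G → ℂ) : Prop where
  comm : ∀ a b : N, a * b = b * a
  deg : χ 1 + 1 = (Nat.card N : ℂ)
  lin : ∀ ψ : IrrCharacter N, (ψ : N → ℂ) 1 = 1
  mult : ∀ ψ : IrrCharacter N, classInner (res N χ) (ψ : N → ℂ) =
    if ψ = Cfsg.Agent.Lib.Helper80_CharBasic.oneIrr N then 0 else 1
  trans : ∀ ψ φ : IrrCharacter N, ψ ≠ Cfsg.Agent.Lib.Helper80_CharBasic.oneIrr N →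
    φ ≠ Cfsg.Agent.Lib.Helper80_CharBasic.oneIrr N →
    ∃ g : G, (φ : N → ℂ) = conjFun N hN (ψ : N → ℂ) g
  cardIrr : Fintype.card (IrrCharacter N) = Nat.card N

theorem card_conjClasses_of_comm {A : Type*} [Group A] [Finite A] (h : ∀ a b : A, a * b = b * a) :
    Nat.card (ConjClasses A) = Nat.card A := by
  have hbij : Function.Bijective (ConjClasses.mk : A → ConjClasses A) := by
    refine ⟨?_, ConjClasses.mk_surjective⟩
    intro a b hab
    rw [ConjClasses.mk_eq_mk_iff_isConj, isConj_iff] at hab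
    obtain ⟨c, hc⟩ := hab
    rw [← hc, h c a, mul_inv_cancel_right]
  exact (Nat.card_congr (Equiv.ofBijective _ hbij)).symm

theorem data [Fintype G] (N : Subgroup G) (hN : N.Normal) [Fintype N] (hN1 : N ≠ ⊥)
    {χ : G → ℂ} (hχ : IsIrrCharacter G χ) (hfaith : ∀ g : G, χ g = χ 1 → g = 1)
    (hnl : χ 1 ≠ 1) (hnorm : ∀ x : N, x ≠ 1 → χ x * conj (χ x) = 1) : Data N hN χ := by
  obtain ⟨θ, hθ1, hres, hcard, hdeg, hmult, hlin⟩ := main N hN hN1 hχ hfaith hnl hnorm
  set S := conjSet N hN (θ : N → ℂ) with hS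
  set one := Cfsg.Agent.Lib.Helper80_CharBasic.oneIrr N with hone
  -- commutativity
  have hcomm : ∀ a b : N, a * b = b * a := by
    intro a b
    have h1 : ∀ ψ ∈ S, (ψ : N → ℂ) (a * b * a⁻¹ * b⁻¹) = 1 := by
      intro ψ hψ
      obtain ⟨f, rfl⟩ := Cfsg.Agent.Lib.Helper74_LinAct.exists_lin_of_one (hlin ψ hψ)
      rw [Cfsg.Agent.Lib.Helper74_LinAct.lin_apply]
      have : f (a * b * a⁻¹ * b⁻¹) = 1 := by
        rw [map_mul, map_mul, map_mul, map_inv, map_inv]
        rw [mul_comm (f a) (f b), mul_assoc (f b), mul_inv_cancel, mul_one, mul_inv_cancel]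
      rw [this, Units.val_one]
    have h2 : res N χ (a * b * a⁻¹ * b⁻¹) = χ 1 := by
      rw [hres, Finset.sum_apply, Finset.sum_congr rfl h1, Finset.sum_const, nsmul_eq_mul,
        mul_one, hdeg]
    rw [res_apply] at h2
    have h3 := hfaith _ h2
    have h4 : a * b * a⁻¹ * b⁻¹ = 1 := Subtype.ext h3
    calc a * b = (a * b * a⁻¹ * b⁻¹) * (b * a) := by group
      _ = b * a := by rw [h4, one_mul]
  -- number of irreducible characters
  have hcardIrr : Fintype.card (IrrCharacter N) = Nat.card N := by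
    rw [← Nat.card_eq_fintype_card, Cfsg.Agent.Lib.Helper80_CharComplete.card_irr_eq_card_conjClasses,
      card_conjClasses_of_comm hcomm]
  -- the principal character is not in `S`
  have hone1 : one ∉ S := by
    intro hmem
    obtain ⟨g, hg⟩ := (mem_conjSet N hN _ one).mp hmem
    have hθone : (θ : N → ℂ) = fun _ => 1 := by
      have h1 := congrArg (fun f => conjFun N hN f g⁻¹) hg
      simp only [conjFun_conjFun, mul_inv_cancel, conjFun_one] at h1
      rw [← h1]
      funext n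
      rw [conjFun_apply]
      rfl
    have hS1 : S = {one} := by
      ext ψ
      rw [Finset.mem_singleton, hS, mem_conjSet]
      constructor
      · rintro ⟨k, hk⟩
        apply Subtype.ext
        rw [hk, hθone]
        funext n
        rw [conjFun_apply]
        rfl
      · rintro rfl
        exact ⟨g, hg⟩
    rw [hS1, Finset.card_singleton] at hdeg
    exact hnl (by rw [hdeg]; simp)
  have hSeq : S = Finset.univ.erase one := by
    apply Finset.eq_of_subset_of_card_le
    · intro ψ hψ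
      rw [Finset.mem_erase]
      exact ⟨fun h => hone1 (h ▸ hψ), Finset.mem_univ _⟩
    · rw [Finset.card_erase_of_mem (Finset.mem_univ _), Finset.card_univ, hcardIrr]
      omega
  have hmemS : ∀ ψ : IrrCharacter N, ψ ∈ S ↔ ψ ≠ one := by
    intro ψ
    rw [hSeq, Finset.mem_erase]
    simp
  refine ⟨hcomm, ?_, ?_, ?_, ?_, hcardIrr⟩
  · rw [hdeg, ← hcard]
    push_cast
    ring
  · intro ψ
    by_cases h : ψ = one
    · rw [h]
      rfl
    · exact hlin ψ ((hmemS ψ).mpr h)
  · intro ψ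
    rw [hmult ψ]
    by_cases h : ψ = one
    · rw [if_pos h, if_neg]
      rw [hmemS]
      exact not_not.mpr h
    · rw [if_neg h, if_pos ((hmemS ψ).mpr h)]
  · intro ψ φ hψ hφ
    obtain ⟨g₁, hg₁⟩ := (mem_conjSet N hN _ ψ).mp ((hmemS ψ).mpr hψ)
    obtain ⟨g₂, hg₂⟩ := (mem_conjSet N hN _ φ).mp ((hmemS φ).mpr hφ)
    refine ⟨g₁⁻¹ * g₂, ?_⟩
    rw [hg₁, conjFun_conjFun, mul_inv_cancel_left, hg₂]

end Cfsg.Agent.Lib.Helper74_RootA
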