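import Mathlib
import Cfsg.Prelude.Def_Characters
import Cfsg.Agent.Lib.Helper74_RootA
import Cfsg.Agent.Lib.Helper74_DegPChar
import Cfsg.Agent.Lib.Helper80_GalProdC
import Cfsg.Agent.Lib.Helper16_BlockOrth
import Cfsg.Agent.Lib.Helper16_InducedFusion

/-!
# Characters with values of modulus one on a normal subgroup, II (helper74)

The centralizer of the normal subgroup `N` of `Helper74_RootA`.
-/

set_option autoImplicit false
set_option linter.unusedSectionVars false

namespace Cfsg.Agent.Lib.Helper74_RootB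

open scoped ComplexConjugate Classical
open Cfsg
open Cfsg.Agent.Lib.Helper3_CharBridge Cfsg.Agent.Lib.Helper3_CharOrtho
  Cfsg.Agent.Lib.Helper3_CharComplete Cfsg.Agent.Lib.Helper3_CharColumn
open Cfsg.Agent.Lib.Helper75_Induced Cfsg.Agent.Lib.Helper75_CharArith
  Cfsg.Agent.Lib.Helper75_IndChar Cfsg.Agent.Lib.Helper75_Clifford
open Cfsg.Agent.Lib.Helper74_LinAct Cfsg.Agent.Lib.Helper74_RootA

universe u

/-- irreducible characters of abelian groups are linear -/
theorem lin_of_comm {A : Type u} [Group A] [Fintype A] (h : ∀ a b : A, a * b = b * a)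
    (ψ : IrrCharacter A) : (ψ : A → ℂ) 1 = 1 := by
  have hcard : Fintype.card (IrrCharacter A) = Nat.card A := by
    rw [← Nat.card_eq_fintype_card,
      Cfsg.Agent.Lib.Helper80_CharComplete.card_irr_eq_card_conjClasses,
      card_conjClasses_of_comm h]
  choose d hdpos hd using fun ψ : IrrCharacter A => Cfsg.Agent.Lib.Helper80_CharBasic.irr_apply_one ψ
  have hsum : ∑ ψ : IrrCharacter A, d ψ ^ 2 = Nat.card A := by
    have h1 := sum_sq_irr_one (G := A)
    have h2 : ∑ χ : IrrCharacter A, (χ : A → ℂ) 1 ^ 2 = ((∑ ψ : IrrCharacter A, d ψ ^ 2 : ℕ) : ℂ) := by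
      push_cast
      apply Finset.sum_congr rfl
      intro χ _
      rw [hd χ]
    rw [h2] at h1
    exact_mod_cast h1
  have hle : ∀ ψ ∈ (Finset.univ : Finset (IrrCharacter A)), 1 ≤ d ψ ^ 2 := by
    intro ψ _
    exact Nat.one_le_pow _ _ (hdpos ψ)
  have heq : ∑ ψ : IrrCharacter A, (1 : ℕ) = ∑ ψ : IrrCharacter A, d ψ ^ 2 := by
    rw [hsum, Finset.sum_const, Finset.card_univ, hcard]
    simp
  have h3 := (Finset.sum_eq_sum_iff_of_le hle).mp heq ψ (Finset.mem_univ _)
  have h4 : d ψ = 1 := by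
    have : d ψ ^ 2 = 1 := h3.symm
    rcases pow_eq_one_iff.mp this with h | h
    · exact h
    · omega
  rw [hd ψ, h4]
  simp

variable {G : Type u} [Group G]

/-- **Coset norm.** If `N ≤ B` with `B` abelian and the restriction of the character `χ` to `N`
is multiplicity free, then `∑_{x ∈ N} |χ (x c)|² = |N| χ(1)` for every `c ∈ B`. -/
theorem sum_coset_norm [Fintype G] (N B : Subgroup G) [Fintype N] [Fintype B]
    (hNB : N ≤ B) (hB : ∀ a b : B, a * b = b * a) {χ : G → ℂ} (hχ : IsCharacter G χ)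
    (hmf : ∀ ψ : IrrCharacter N, ∃ k : ℕ, k ≤ 1 ∧ classInner (res N χ) (ψ : N → ℂ) = k)
    (c : G) (hc : c ∈ B) :
    ∑ x : N, χ (x * c) * conj (χ (x * c)) = (Nat.card N : ℂ) * χ 1 := by
  set φ : B → ℂ := res B χ with hφdef
  have hφ : IsCharacter B φ := isCharacter_res B hχ
  obtain ⟨m, hm, hsum⟩ := exists_multiplicities hφ
  have hlin : ∀ β : IrrCharacter B, ∃ f : B →* ℂˣ, β = lin f :=
    fun β => exists_lin_of_one (lin_of_comm hB β)
  choose f hf using hlin
  let R : IrrCharacter B → IrrCharacter N :=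
    fun β => lin ((f β).comp (Subgroup.inclusion hNB))
  let cB : B := ⟨c, hc⟩
  let u : IrrCharacter B → ℂ := fun β => ((f β cB : ℂˣ) : ℂ)
  have hu : ∀ β, u β * conj (u β) = 1 := fun β => mul_conj_hom (f β) cB
  have hβ : ∀ (β : IrrCharacter B) (b : B), (β : B → ℂ) b = ((f β b : ℂˣ) : ℂ) := by
    intro β b
    conv_lhs => rw [hf β]
    rfl
  have hR : ∀ (β : IrrCharacter B) (x : N), (R β : N → ℂ) x =
      ((f β (Subgroup.inclusion hNB x) : ℂˣ) : ℂ) := fun β x => rfl
  -- values on the coset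
  have hval : ∀ x : N, χ (x * c) =
      ∑ β : IrrCharacter B, (m β : ℂ) * ((R β : N → ℂ) x * u β) := by
    intro x
    have h1 : χ (x * c) = φ (Subgroup.inclusion hNB x * cB) := rfl
    rw [h1, hsum, Finset.sum_apply]
    apply Finset.sum_congr rfl
    intro β _
    rw [Pi.smul_apply, smul_eq_mul, hβ, map_mul, Units.val_mul, hR]
  -- restriction to `N`
  have hresN : res N χ = ∑ β : IrrCharacter B, (m β : ℂ) • (R β : N → ℂ) := by
    funext x
    have h1 : res N χ x = φ (Subgroup.inclusion hNB x) := rfl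
    rw [h1, hsum, Finset.sum_apply, Finset.sum_apply]
    apply Finset.sum_congr rfl
    intro β _
    rw [Pi.smul_apply, Pi.smul_apply, hβ, hR]
  have hfiber : ∀ ψ : IrrCharacter N,
      ∑ β : IrrCharacter B, (if R β = ψ then m β else 0) ≤ 1 := by
    intro ψ
    obtain ⟨k, hk1, hk⟩ := hmf ψ
    rw [hresN, classInner_sum_left] at hk
    have h2 : ∀ β : IrrCharacter B, classInner ((m β : ℂ) • (R β : N → ℂ)) (ψ : N → ℂ) =
        (((if R β = ψ then m β else 0 : ℕ)) : ℂ) := by
      intro β
      rw [classInner_smul_left, classInner_irr (R β).2 ψ.2]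
      by_cases h : R β = ψ
      · rw [if_pos h, if_pos (congrArg Subtype.val h), mul_one]
      · rw [if_neg h, if_neg (fun h' => h (Subtype.ext h'))]
        simp
    rw [Finset.sum_congr rfl (fun β _ => h2 β), ← Nat.cast_sum] at hk
    have : ∑ β : IrrCharacter B, (if R β = ψ then m β else 0) = k := by exact_mod_cast hk
    omega
  have hkey : ∀ β β' : IrrCharacter B, R β = R β' →
      m β * m β' = if β = β' then m β else 0 := by
    intro β β' hRR
    have h1 := hfiber (R β)
    by_cases hne : β = β'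
    · subst hne
      rw [if_pos rfl]
      have h2 : (if R β = R β then m β else 0) ≤
          ∑ β'' : IrrCharacter B, (if R β'' = R β then m β'' else 0) :=
        Finset.single_le_sum (f := fun β'' => if R β'' = R β then m β'' else 0)
          (fun _ _ => Nat.zero_le _) (Finset.mem_univ β)
      rw [if_pos rfl] at h2
      have h3 : m β ≤ 1 := le_trans h2 h1
      interval_cases (m β) <;> simp
    · rw [if_neg hne]
      have h2 : ∑ β'' ∈ ({β, β'} : Finset (IrrCharacter B)),
          (if R β'' = R β then m β'' else 0) ≤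
          ∑ β'' : IrrCharacter B, (if R β'' = R β then m β'' else 0) :=
        Finset.sum_le_sum_of_subset (Finset.subset_univ _)
      rw [Finset.sum_pair hne, if_pos rfl, if_pos hRR.symm] at h2
      have h3 : m β + m β' ≤ 1 := le_trans h2 h1
      have h4 : m β = 0 ∨ m β' = 0 := by omega
      rcases h4 with h | h <;> rw [h] <;> simp
  -- orthogonality on `N`
  have horth : ∀ β β' : IrrCharacter B,
      ∑ x : N, (R β : N → ℂ) x * conj ((R β' : N → ℂ) x) =
        (Nat.card N : ℂ) * (if R β = R β' then 1 else 0) := by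
    intro β β'
    have h1 := classInner_irr (R β).2 (R β').2
    unfold classInner at h1
    have hN0 : (Nat.card N : ℂ) ≠ 0 := by
      rw [Nat.cast_ne_zero]; exact Nat.card_pos.ne'
    rw [inv_mul_eq_iff_eq_mul₀ hN0] at h1
    rw [h1]
    congr 1
    by_cases h : R β = R β'
    · rw [if_pos h, if_pos (congrArg Subtype.val h)]
    · rw [if_neg h, if_neg (fun h' => h (Subtype.ext h'))]
  -- the double sum
  have hdeg : χ 1 = ∑ β : IrrCharacter B, (m β : ℂ) := by
    have h1 : χ 1 = φ 1 := rfl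
    rw [h1, hsum, Finset.sum_apply]
    apply Finset.sum_congr rfl
    intro β _
    rw [Pi.smul_apply, smul_eq_mul, lin_of_comm hB β, mul_one]
  calc ∑ x : N, χ (x * c) * conj (χ (x * c))
      = ∑ x : N, ∑ β : IrrCharacter B, ∑ β' : IrrCharacter B,
          ((m β : ℂ) * u β * ((m β' : ℂ) * conj (u β'))) *
            ((R β : N → ℂ) x * conj ((R β' : N → ℂ) x)) := by
        apply Finset.sum_congr rfl
        intro x _
        rw [hval x, map_sum, Finset.sum_mul_sum]
        apply Finset.sum_congr rfl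
        intro β _
        apply Finset.sum_congr rfl
        intro β' _
        rw [map_mul, map_mul, Complex.conj_natCast]
        ring
    _ = ∑ β : IrrCharacter B, ∑ β' : IrrCharacter B,
          ((m β : ℂ) * u β * ((m β' : ℂ) * conj (u β'))) *
            ((Nat.card N : ℂ) * (if R β = R β' then 1 else 0)) := by
        rw [Finset.sum_comm]
        apply Finset.sum_congr rfl
        intro β _
        rw [Finset.sum_comm]
        apply Finset.sum_congr rfl
        intro β' _
        rw [← Finset.mul_sum, horth]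
    _ = ∑ β : IrrCharacter B, ∑ β' : IrrCharacter B,
          (if β = β' then (Nat.card N : ℂ) * (m β : ℂ) else 0) := by
        apply Finset.sum_congr rfl
        intro β _
        apply Finset.sum_congr rfl
        intro β' _
        by_cases hRR : R β = R β'
        · rw [if_pos hRR, mul_one]
          have h1 : (m β : ℂ) * u β * ((m β' : ℂ) * conj (u β')) =
              ((m β * m β' : ℕ) : ℂ) * (u β * conj (u β')) := by
            push_cast
            ring
          rw [h1, hkey β β' hRR]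
          by_cases hbb : β = β'
          · subst hbb
            rw [if_pos rfl, if_pos rfl, hu]
            ring
          · rw [if_neg hbb, if_neg hbb]
            simp
        · rw [if_neg hRR, mul_zero, mul_zero]
          rw [if_neg]
          rintro rfl
          exact hRR rfl
    _ = (Nat.card N : ℂ) * χ 1 := by
        rw [hdeg, Finset.mul_sum]
        apply Finset.sum_congr rfl
        intro β _
        rw [Finset.sum_ite_eq]
        simp

/-- the abelian subgroup generated by an abelian subgroup and a centralizing element -/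
theorem exists_abelian_over (N : Subgroup G) (hNc : ∀ a b : N, a * b = b * a) {c : G}
    (hc : c ∈ Subgroup.centralizer (N : Set G)) :
    ∃ B : Subgroup G, N ≤ B ∧ c ∈ B ∧ ∀ a b : B, a * b = b * a := by
  have hcomm : ∀ x ∈ ((N : Set G) ∪ {c}), ∀ y ∈ ((N : Set G) ∪ {c}), x * y = y * x := by
    intro x hx y hy
    rcases hx with hx | hx <;> rcases hy with hy | hy
    · exact congrArg Subtype.val (hNc ⟨x, hx⟩ ⟨y, hy⟩)
    · rw [Set.mem_singleton_iff.mp hy]
      exact (Subgroup.mem_centralizer_iff.mp hc x hx)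
    · rw [Set.mem_singleton_iff.mp hx]
      exact (Subgroup.mem_centralizer_iff.mp hc y hy).symm
    · rw [Set.mem_singleton_iff.mp hx, Set.mem_singleton_iff.mp hy]
  refine ⟨Subgroup.closure ((N : Set G) ∪ {c}), ?_, ?_, ?_⟩
  · intro x hx
    exact Subgroup.subset_closure (Or.inl hx)
  · exact Subgroup.subset_closure (Or.inr rfl)
  · intro a b
    exact (Subgroup.closureCommGroupOfComm hcomm).mul_comm a b

theorem mf_of_data [Fintype G] (N : Subgroup G) (hN : N.Normal) [Fintype N] {χ : G → ℂ}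
    (hD : Data N hN χ) (ψ : IrrCharacter N) :
    ∃ k : ℕ, k ≤ 1 ∧ classInner (res N χ) (ψ : N → ℂ) = k := by
  rw [hD.mult ψ]
  split_ifs
  · exact ⟨0, by omega, by simp⟩
  · exact ⟨1, le_refl _, by simp⟩

/-- the sum over a coset of `N` inside its centralizer -/
theorem sum_coset [Fintype G] (N : Subgroup G) (hN : N.Normal) [Fintype N] {χ : G → ℂ}
    (hχ : IsIrrCharacter G χ) (hD : Data N hN χ) {c : G}
    (hc : c ∈ Subgroup.centralizer (N : Set G)) :
    ∑ x : N, χ (x * c) * conj (χ (x * c)) = (Nat.card N : ℂ) * χ 1 := by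
  obtain ⟨B, hNB, hcB, hB⟩ := exists_abelian_over N hD.comm hc
  have : Fintype B := Fintype.ofFinite B
  exact sum_coset_norm N B hNB hB (isCharacter_of_isIrrCharacter hχ) (mf_of_data N hN hD) c hcB

theorem split_sum [Fintype G] (N : Subgroup G) [Fintype N] {χ : G → ℂ} (c : G)
    (h : ∀ x : N, x ≠ 1 → χ (x * c) * conj (χ (x * c)) = 1) :
    ∑ x : N, χ (x * c) * conj (χ (x * c)) = χ c * conj (χ c) + ((Nat.card N : ℂ) - 1) := by
  rw [← Finset.add_sum_erase Finset.univ _ (Finset.mem_univ (1 : N))]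
  have h1 : ∑ x ∈ Finset.univ.erase (1 : N), χ (x * c) * conj (χ (x * c)) =
      ∑ x ∈ Finset.univ.erase (1 : N), (1 : ℂ) := by
    apply Finset.sum_congr rfl
    intro x hx
    exact h x (Finset.ne_of_mem_erase hx)
  rw [h1, Finset.sum_const, Finset.card_erase_of_mem (Finset.mem_univ _), Finset.card_univ,
    Nat.card_eq_fintype_card]
  simp only [Subgroup.coe_one, one_mul, nsmul_eq_mul, mul_one]
  have : 1 ≤ Fintype.card N := Fintype.card_pos
  rw [Nat.cast_sub this]
  simp

theorem dvd_orderOf_of_pgroup {p : ℕ} [hp : Fact p.Prime] {x : G} (hx : x ≠ 1) {k : ℕ}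
    (hk : x ^ p ^ k = 1) : p ∣ orderOf x := by
  obtain ⟨i, -, hi⟩ := (Nat.dvd_prime_pow hp.out).mp (orderOf_dvd_of_pow_eq_one hk)
  rcases Nat.eq_zero_or_pos i with h0 | h0
  · rw [h0, pow_zero] at hi
    exact absurd (orderOf_eq_one_iff.mp hi) hx
  · rw [hi]
    exact dvd_pow_self p h0.ne'

/-- `p'`-elements of the centralizer are central -/
theorem mem_center_of_coprime [Fintype G] (N : Subgroup G) (hN : N.Normal) [Fintype N]
    {χ : G → ℂ} (hχ : IsIrrCharacter G χ) (hfaith : ∀ g : G, χ g = χ 1 → g = 1)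
    (hD : Data N hN χ) (p : ℕ) [hp : Fact p.Prime] (hNp : IsPGroup p N)
    (hroot : ∀ g : G, p ∣ orderOf g → χ g * conj (χ g) = 1) {c : G}
    (hc : c ∈ Subgroup.centralizer (N : Set G)) (hcp : ¬ p ∣ orderOf c) :
    c ∈ Subgroup.center G := by
  have h1 := sum_coset N hN hχ hD hc
  have h2 : ∀ x : N, x ≠ 1 → χ (x * c) * conj (χ (x * c)) = 1 := by
    intro x hx
    apply hroot
    have hcomm : Commute (x : G) c := Subgroup.mem_centralizer_iff.mp hc x x.2
    obtain ⟨k, hk⟩ := hNp x
    have hk' : (x : G) ^ p ^ k = 1 := by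
      have := congrArg Subtype.val hk
      simpa using this
    have hx' : (x : G) ≠ 1 := fun h => hx (Subtype.ext h)
    have hpx : p ∣ orderOf (x : G) := dvd_orderOf_of_pgroup hx' hk'
    have hcop : Nat.Coprime (orderOf (x : G)) (orderOf c) := by
      obtain ⟨i, -, hi⟩ := (Nat.dvd_prime_pow hp.out).mp (orderOf_dvd_of_pow_eq_one hk')
      rw [hi]
      apply Nat.Coprime.pow_left
      exact (Nat.Prime.coprime_iff_not_dvd hp.out).mpr hcp
    rw [hcomm.orderOf_mul_eq_mul_orderOf_of_coprime hcop]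
    exact Dvd.dvd.mul_right hpx _
  rw [split_sum N c h2] at h1
  have h3 : χ c * conj (χ c) = χ 1 * χ 1 := by
    have h4 := hD.deg
    have h5 : χ c * conj (χ c) = (Nat.card N : ℂ) * χ 1 - ((Nat.card N : ℂ) - 1) := by
      rw [← h1]; ring
    rw [h5, ← h4]
    ring
  -- norm
  obtain ⟨n, ρ, hirr, hρ⟩ := hχ
  have := hirr
  have h6 : ‖ρ.character c‖ = (Module.finrank ℂ (Fin n → ℂ) : ℝ) := by
    rw [hρ]
    have h7 : χ 1 = (n : ℂ) := by
      rw [← hρ, Representation.char_one]
      simp
    rw [h7] at h3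
    have h8 : ‖χ c‖ ^ 2 = (n : ℝ) ^ 2 := by
      have h9 : ((‖χ c‖ ^ 2 : ℝ) : ℂ) = (((n : ℝ) ^ 2 : ℝ) : ℂ) := by
        rw [← Complex.normSq_eq_norm_sq, ← Complex.mul_conj, h3]
        push_cast
        ring
      exact_mod_cast h9
    have h10 : ‖χ c‖ = (n : ℝ) := by
      have hn0 : (0 : ℝ) ≤ n := Nat.cast_nonneg n
      have hc0 : (0 : ℝ) ≤ ‖χ c‖ := norm_nonneg _
      nlinarith
    rw [h10]
    simp
  obtain ⟨ω, hω⟩ := (Cfsg.Agent.Lib.Helper3_CharEigen.norm_char_eq_iff ρ c).mp h6
  exact Cfsg.Agent.Lib.Helper80_GalProdC.mem_center_of_scalar ρ (by rw [hρ]; exact hfaith) hω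

/-- `p`-elements of the centralizer lie in `N` -/
theorem mem_of_pelement [Fintype G] (N : Subgroup G) (hN : N.Normal) [Fintype N]
    {χ : G → ℂ} (hχ : IsIrrCharacter G χ) (hnl : χ 1 ≠ 1)
    (hD : Data N hN χ) (p : ℕ) [hp : Fact p.Prime] (hNp : IsPGroup p N)
    (hroot : ∀ g : G, p ∣ orderOf g → χ g * conj (χ g) = 1) {c : G}
    (hc : c ∈ Subgroup.centralizer (N : Set G)) {j : ℕ} (hcp : orderOf c = p ^ j) :
    c ∈ N := by
  by_contra hcN
  have h1 := sum_coset N hN hχ hD hc
  have h2 : ∀ x : N, χ (x * c) * conj (χ (x * c)) = 1 := by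
    intro x
    apply hroot
    have hcomm : Commute (x : G) c := Subgroup.mem_centralizer_iff.mp hc x x.2
    obtain ⟨k, hk⟩ := hNp x
    have hk' : (x : G) ^ p ^ k = 1 := by
      have := congrArg Subtype.val hk
      simpa using this
    have hne : (x : G) * c ≠ 1 := by
      intro h
      apply hcN
      have : c = (x : G)⁻¹ := by
        rw [eq_inv_iff_mul_eq_one, ← hcomm.eq]; exact h
      rw [this]
      exact N.inv_mem x.2
    have hpow : ((x : G) * c) ^ p ^ (k + j) = 1 := by
      rw [hcomm.mul_pow, pow_add, pow_mul, hk', one_pow, one_mul, mul_comm, pow_mul, ← hcp,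
        pow_orderOf_eq_one, one_pow]
    exact dvd_orderOf_of_pgroup hne hpow
  rw [Finset.sum_congr rfl (fun x _ => h2 x), Finset.sum_const, Finset.card_univ,
    nsmul_eq_mul, mul_one, ← Nat.card_eq_fintype_card] at h1
  have hN0 : (Nat.card N : ℂ) ≠ 0 := by
    rw [Nat.cast_ne_zero]; exact Nat.card_pos.ne'
  apply hnl
  have h3 : (Nat.card N : ℂ) * 1 = (Nat.card N : ℂ) * χ 1 := by rw [mul_one]; exact h1
  exact (mul_left_cancel₀ hN0 h3).symm

/-- **The centralizer of `N`.** -/
theorem centralizer_eq [Fintype G] (N : Subgroup G) (hN : N.Normal) [Fintype N]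
    {χ : G → ℂ} (hχ : IsIrrCharacter G χ) (hfaith : ∀ g : G, χ g = χ 1 → g = 1)
    (hnl : χ 1 ≠ 1) (hD : Data N hN χ) (p : ℕ) [hp : Fact p.Prime] (hNp : IsPGroup p N)
    (hroot : ∀ g : G, p ∣ orderOf g → χ g * conj (χ g) = 1) :
    Subgroup.centralizer (N : Set G) = N ⊔ Subgroup.center G ∧ N ⊓ Subgroup.center G = ⊥ := by
  constructor
  · apply le_antisymm
    · intro c hc
      obtain ⟨u, hu⟩ := Cfsg.Agent.Lib.Helper16_BlockOrth.exists_isPPart hp.out c
      obtain ⟨u', hu', y', hy1, hy2, ⟨k, hk⟩, hy4⟩ :=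
        Cfsg.Agent.Lib.Helper16_InducedFusion.isPPart_subgroup hp.out
          (⟨c, hc⟩ : Subgroup.centralizer (N : Set G)) u hu
      have hc_eq : c = (u' : G) * (y' : G) := by
        have := congrArg Subtype.val hy1
        simpa using this.symm
      rw [hc_eq]
      apply Subgroup.mul_mem_sup
      · exact mem_of_pelement N hN hχ hnl hD p hNp hroot u'.2
          (by rw [Subgroup.orderOf_coe]; exact hk)
      · exact mem_center_of_coprime N hN hχ hfaith hD p hNp hroot y'.2
          (by rw [Subgroup.orderOf_coe]; exact hy4)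
    · apply sup_le
      · intro x hx
        rw [Subgroup.mem_centralizer_iff]
        intro y hy
        exact congrArg Subtype.val (hD.comm ⟨y, hy⟩ ⟨x, hx⟩)
      · exact Subgroup.center_le_centralizer _
  · rw [eq_bot_iff]
    intro x ⟨hxN, hxZ⟩
    rw [Subgroup.mem_bot]
    by_contra hx1
    obtain ⟨k, hk⟩ := hNp ⟨x, hxN⟩
    have hk' : x ^ p ^ k = 1 := by
      have := congrArg Subtype.val hk
      simpa using this
    have h1 := hroot x (dvd_orderOf_of_pgroup hx1 hk')
    have h2 := Cfsg.Agent.Lib.Helper74_DegPChar.central_norm ⟨χ, hχ⟩ hxZ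
    obtain ⟨n, hnpos, hn⟩ := irr_one_eq_natCast hχ
    have h3 : ‖χ x‖ = 1 := by
      have h4 : ((‖χ x‖ ^ 2 : ℝ) : ℂ) = ((1 : ℝ) : ℂ) := by
        rw [← Complex.normSq_eq_norm_sq, ← Complex.mul_conj, h1]
        simp
      have h5 : ‖χ x‖ ^ 2 = 1 := by exact_mod_cast h4
      have hc0 : (0 : ℝ) ≤ ‖χ x‖ := norm_nonneg _
      nlinarith
    change ‖χ x‖ = ‖χ 1‖ at h2
    rw [h3, hn] at h2
    apply hnl
    rw [hn]
    have h6 : (n : ℝ) = 1 := by
      have : ‖(n : ℂ)‖ = (n : ℝ) := by simp
      rw [this] at h2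
      exact h2.symm
    have : n = 1 := by exact_mod_cast h6
    rw [this]
    simp

end Cfsg.Agent.Lib.Helper74_RootB
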