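import Mathlib
import Cfsg.Prelude.Def_Characters
import Cfsg.Agent.Lib.Helper74_RootB
import Cfsg.Agent.Lib.Helper3_Ito

/-!
# Characters with values of modulus one on a normal subgroup, III (helper74)

A group `Q` with an elementary abelian normal `2`-subgroup `N` of index two, and a character `φ` of
`Q` whose restriction to `N` is the sum of the non-principal characters of `N` and whose norm is
`|N| / 2`: then `|N| < 8`.
-/

set_option autoImplicit false
set_option linter.unusedSectionVars false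

namespace Cfsg.Agent.Lib.Helper74_RootC

open scoped ComplexConjugate Classical
open Cfsg
open Cfsg.Agent.Lib.Helper3_CharBridge Cfsg.Agent.Lib.Helper3_CharOrtho
  Cfsg.Agent.Lib.Helper3_CharComplete Cfsg.Agent.Lib.Helper3_CharColumn
open Cfsg.Agent.Lib.Helper75_Induced Cfsg.Agent.Lib.Helper75_CharArith
  Cfsg.Agent.Lib.Helper75_IndChar Cfsg.Agent.Lib.Helper75_Clifford
open Cfsg.Agent.Lib.Helper74_LinAct Cfsg.Agent.Lib.Helper74_RootA Cfsg.Agent.Lib.Helper74_RootB
open Cfsg.Agent.Lib.Helper80_CharBasic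

universe u

theorem card_irr_of_comm {A : Type u} [Group A] [Fintype A] (h : ∀ a b : A, a * b = b * a) :
    Fintype.card (IrrCharacter A) = Nat.card A := by
  rw [← Nat.card_eq_fintype_card,
    Cfsg.Agent.Lib.Helper80_CharComplete.card_irr_eq_card_conjClasses,
    card_conjClasses_of_comm h]

variable {Q : Type u} [Group Q] [Fintype Q]

/-- degrees of irreducible characters of a group with an abelian normal subgroup of index two -/
theorem degree_le_two (N : Subgroup Q) (hN : N.Normal) (hidx : N.index = 2)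
    (hcomm : ∀ a b : N, a * b = b * a) (χ : IrrCharacter Q) (d : ℕ)
    (hd : (χ : Q → ℂ) 1 = d) : d ≤ 2 := by
  obtain ⟨n, ρ, hirr, hρ⟩ := χ.2
  have := hirr
  have h1 := Cfsg.Agent.Lib.Helper3_Ito.ito ρ N
    (fun a ha b hb => congrArg Subtype.val (hcomm ⟨a, ha⟩ ⟨b, hb⟩))
  rw [hidx] at h1
  have h2 : Module.finrank ℂ (Fin n → ℂ) = n := by simp
  have h3 : (χ : Q → ℂ) 1 = n := by
    rw [← hρ, Representation.char_one]
    simp
  have h4 : d = n := by
    rw [h3] at hd
    exact_mod_cast hd.symm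
  rw [h2] at h1
  rw [h4]
  exact Nat.le_of_dvd (by norm_num) h1

/-- **Uniqueness of the invariant character.** -/
theorem invariant_unique (N : Subgroup Q) (hN : N.Normal) [Fintype N] (hidx : N.index = 2)
    (hcomm : ∀ a b : N, a * b = b * a)
    {φ : Q → ℂ} (hφ : IsCharacter Q φ)
    (hmult : ∀ ψ : IrrCharacter N, classInner (res N φ) (ψ : N → ℂ) =
      if ψ = oneIrr N then 0 else 1)
    (hdeg : φ 1 + 1 = (Nat.card N : ℂ))
    (hnorm : classInner φ φ * 2 = (Nat.card N : ℂ))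
    (ψ ψ' : IrrCharacter N) (h1 : ψ ≠ oneIrr N) (h1' : ψ' ≠ oneIrr N)
    (hinv : ∀ g : Q, Cfsg.Agent.Lib.Helper75_Clifford.conjFun N hN (ψ : N → ℂ) g = ψ)
    (hinv' : ∀ g : Q, Cfsg.Agent.Lib.Helper75_Clifford.conjFun N hN (ψ' : N → ℂ) g = ψ') : ψ = ψ' := by
  obtain ⟨a, ha, hsum⟩ := exists_multiplicities hφ
  choose dd hddpos hdd using fun χ : IrrCharacter Q => irr_apply_one χ
  have hdd2 : ∀ χ : IrrCharacter Q, dd χ ≤ 2 :=
    fun χ => degree_le_two N hN hidx hcomm χ (dd χ) (hdd χ)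
  -- multiplicities of restrictions
  have hr : ∀ (χ : IrrCharacter Q) (θ : IrrCharacter N),
      ∃ k : ℕ, classInner (res N (χ : Q → ℂ)) (θ : N → ℂ) = k := fun χ θ =>
    classInner_isCharacter_nat (isCharacter_res N (isCharacter_of_isIrrCharacter χ.2))
      (isCharacter_of_isIrrCharacter θ.2)
  choose r hr using hr
  have hresφ : ∀ θ : IrrCharacter N,
      classInner (res N φ) (θ : N → ℂ) = ((∑ χ : IrrCharacter Q, a χ * r χ θ : ℕ) : ℂ) := by
    intro θ
    conv_lhs => rw [hsum]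
    rw [res_sum, classInner_sum_left]
    push_cast
    apply Finset.sum_congr rfl
    intro χ _
    rw [res_smul, classInner_smul_left, hr]
  have hsum_le : ∀ θ : IrrCharacter N, ∑ χ : IrrCharacter Q, a χ * r χ θ ≤ 1 := by
    intro θ
    have h2 := hresφ θ
    rw [hmult θ] at h2
    split_ifs at h2
    · have : ∑ χ : IrrCharacter Q, a χ * r χ θ = 0 := by exact_mod_cast h2.symm
      omega
    · have : ∑ χ : IrrCharacter Q, a χ * r χ θ = 1 := by exact_mod_cast h2.symm
      omega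
  have hterm_le : ∀ (χ : IrrCharacter Q) (θ : IrrCharacter N), a χ * r χ θ ≤ 1 := by
    intro χ θ
    refine le_trans ?_ (hsum_le θ)
    exact Finset.single_le_sum (f := fun χ => a χ * r χ θ) (fun _ _ => Nat.zero_le _)
      (Finset.mem_univ χ)
  -- multiplicities are at most one
  have ha1 : ∀ χ : IrrCharacter Q, a χ ≤ 1 := by
    intro χ
    have hc : IsCharacter N (res N (χ : Q → ℂ)) :=
      isCharacter_res N (isCharacter_of_isIrrCharacter χ.2)
    have hne : res N (χ : Q → ℂ) 1 ≠ 0 := by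
      rw [res_apply]
      have : ((1 : N) : Q) = 1 := rfl
      rw [this, hdd χ]
      exact_mod_cast (hddpos χ).ne'
    obtain ⟨θ, hθ⟩ := exists_constituent hc hne
    have hrpos : 0 < r χ θ := by
      rcases Nat.eq_zero_or_pos (r χ θ) with h | h
      · rw [hr, h, Nat.cast_zero] at hθ
        exact absurd rfl hθ
      · exact h
    have := hterm_le χ θ
    nlinarith
  -- Parseval
  have hpars : (∑ χ : IrrCharacter Q, a χ) * 2 = Nat.card N := by
    have h2 := classInner_self_eq_sum (isClassFunction_of_isCharacter hφ)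
    have h3 : ∑ χ : IrrCharacter Q, classInner φ (χ : Q → ℂ) * conj (classInner φ (χ : Q → ℂ)) =
        ((∑ χ : IrrCharacter Q, a χ : ℕ) : ℂ) := by
      push_cast
      apply Finset.sum_congr rfl
      intro χ _
      rw [ha, Complex.conj_natCast]
      have := ha1 χ
      interval_cases (a χ) <;> simp
    rw [h3] at h2
    rw [h2] at hnorm
    exact_mod_cast hnorm
  -- degree
  have hdegsum : (∑ χ : IrrCharacter Q, a χ * dd χ) + 1 = Nat.card N := by
    have h2 : φ 1 = ((∑ χ : IrrCharacter Q, a χ * dd χ : ℕ) : ℂ) := by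
      conv_lhs => rw [hsum]
      rw [Finset.sum_apply]
      push_cast
      apply Finset.sum_congr rfl
      intro χ _
      rw [Pi.smul_apply, smul_eq_mul, hdd]
    rw [h2] at hdeg
    exact_mod_cast hdeg
  -- weights
  have hw : ∑ χ : IrrCharacter Q, a χ * (2 - dd χ) = 1 := by
    have h2 : ∀ χ : IrrCharacter Q, a χ * (2 - dd χ) + a χ * dd χ = a χ * 2 := by
      intro χ
      have := hdd2 χ
      rw [← mul_add]
      congr 1
      omega
    have h3 : ∑ χ : IrrCharacter Q, a χ * (2 - dd χ) + ∑ χ : IrrCharacter Q, a χ * dd χ =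
        (∑ χ : IrrCharacter Q, a χ) * 2 := by
      rw [← Finset.sum_add_distrib, Finset.sum_mul]
      exact Finset.sum_congr rfl (fun χ _ => h2 χ)
    omega
  -- an invariant character lies under a constituent of weight one
  have hkey : ∀ θ : IrrCharacter N, θ ≠ oneIrr N → (∀ g : Q, Cfsg.Agent.Lib.Helper75_Clifford.conjFun N hN (θ : N → ℂ) g = θ) →
      ∃ χ : IrrCharacter Q, a χ * (2 - dd χ) = 1 ∧ res N (χ : Q → ℂ) = θ := by
    intro θ hθ1 hθinv
    have h2 := hresφ θ
    rw [hmult θ, if_neg hθ1] at h2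
    have h3 : ∑ χ : IrrCharacter Q, a χ * r χ θ = 1 := by exact_mod_cast h2.symm
    have h4 : ∃ χ ∈ (Finset.univ : Finset (IrrCharacter Q)), a χ * r χ θ ≠ 0 := by
      by_contra hne
      push Not at hne
      rw [Finset.sum_eq_zero hne] at h3
      omega
    obtain ⟨χ, -, hχ⟩ := h4
    have hapos : 0 < a χ := Nat.pos_of_ne_zero (fun h => hχ (by rw [h, zero_mul]))
    have hrpos : 0 < r χ θ := Nat.pos_of_ne_zero (fun h => hχ (by rw [h, mul_zero]))
    have hle := hterm_le χ θ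
    have ha_eq : a χ = 1 := by nlinarith
    have hr_eq : r χ θ = 1 := by nlinarith
    have hres := Cfsg.Agent.Lib.Helper75_CharProd.res_eq_smul_of_invariant N hN χ.2 θ.2 hθinv
      (by rw [hr, hr_eq]; simp)
    rw [hr, hr_eq, Nat.cast_one, one_smul] at hres
    refine ⟨χ, ?_, hres⟩
    have h5 : dd χ = 1 := by
      have h6 := congrFun hres 1
      rw [res_apply] at h6
      have : ((1 : N) : Q) = 1 := rfl
      rw [this, hdd χ, lin_of_comm hcomm θ] at h6
      exact_mod_cast h6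
    rw [ha_eq, h5]
  obtain ⟨χ, hχw, hχres⟩ := hkey ψ h1 hinv
  obtain ⟨χ', hχw', hχres'⟩ := hkey ψ' h1' hinv'
  have hχχ' : χ = χ' := by
    by_contra hne
    have h2 : ∑ χ'' ∈ ({χ, χ'} : Finset (IrrCharacter Q)), a χ'' * (2 - dd χ'') ≤
        ∑ χ'' : IrrCharacter Q, a χ'' * (2 - dd χ'') :=
      Finset.sum_le_sum_of_subset (Finset.subset_univ _)
    rw [Finset.sum_pair hne, hχw, hχw', hw] at h2
    omega
  apply Subtype.ext
  rw [← hχres, ← hχres', hχχ']

/-- inflation of an irreducible character of an abelian quotient -/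
theorem exists_inflate {A : Type u} [Group A] [Fintype A] (hA : ∀ a b : A, a * b = b * a)
    {N : Type u} [Group N] (π : N →* A) (hπ : Function.Surjective π) (β : IrrCharacter A) :
    ∃ ψ : IrrCharacter N, ∀ n : N, (ψ : N → ℂ) n = (β : A → ℂ) (π n) := by
  obtain ⟨f, rfl⟩ := exists_lin_of_one (lin_of_comm hA β)
  exact ⟨lin (f.comp π), fun n => rfl⟩

/-- **Existence of two invariant characters.** -/
theorem exists_two_invariant (N : Subgroup Q) (hN : N.Normal) [Fintype N] (hidx : N.index = 2)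
    (hcomm : ∀ a b : N, a * b = b * a) (hexp : ∀ a : N, a * a = 1) (h8 : 8 ≤ Nat.card N) :
    ∃ ψ ψ' : IrrCharacter N, ψ ≠ ψ' ∧ ψ ≠ oneIrr N ∧ ψ' ≠ oneIrr N ∧
      (∀ g : Q, Cfsg.Agent.Lib.Helper75_Clifford.conjFun N hN (ψ : N → ℂ) g = ψ) ∧
      (∀ g : Q, Cfsg.Agent.Lib.Helper75_Clifford.conjFun N hN (ψ' : N → ℂ) g = ψ') := by
  -- an element outside `N`
  have hNtop : N ≠ ⊤ := by
    intro h
    rw [h, Subgroup.index_top] at hidx
    omega
  obtain ⟨y, hy⟩ : ∃ y : Q, y ∉ N := by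
    by_contra hne
    push Not at hne
    exact hNtop (eq_top_iff.mpr (fun g _ => hne g))
  -- conjugation by `y`
  let σ : N → N := fun x => ⟨y * x * y⁻¹, hN.conj_mem x x.2 y⟩
  have hσmul : ∀ a b : N, σ (a * b) = σ a * σ b := by
    intro a b
    apply Subtype.ext
    show y * (a * b : Q) * y⁻¹ = (y * a * y⁻¹) * (y * b * y⁻¹)
    group
  have hσσ : ∀ a : N, σ (σ a) = a := by
    intro a
    have hy2 : y ^ 2 ∈ N := Subgroup.sq_mem_of_index_two hidx y
    have h1 : σ (σ a) = ⟨y ^ 2, hy2⟩ * a * ⟨y ^ 2, hy2⟩⁻¹ := by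
      apply Subtype.ext
      show y * (y * a * y⁻¹) * y⁻¹ = y ^ 2 * a * (y ^ 2)⁻¹
      rw [pow_two]
      group
    rw [h1, hcomm _ a, mul_assoc, mul_inv_cancel, mul_one]
  -- the commutator map
  let κ : N →* N := MonoidHom.mk' (fun x => σ x * x⁻¹) (by
    intro a b
    show σ (a * b) * (a * b)⁻¹ = σ a * a⁻¹ * (σ b * b⁻¹)
    rw [hσmul, mul_inv_rev, mul_assoc (σ a), mul_assoc (σ a)]
    congr 1
    rw [hcomm a⁻¹, ← mul_assoc])
  have hκ : ∀ x : N, κ x = σ x * x⁻¹ := fun x => rfl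
  have hinvself : ∀ a : N, a⁻¹ = a := by
    intro a
    exact inv_eq_of_mul_eq_one_left (hexp a)
  have hRD : κ.range ≤ κ.ker := by
    rintro _ ⟨x, rfl⟩
    rw [MonoidHom.mem_ker, hκ, hκ, hσmul, hinvself (σ x * x⁻¹), hinvself x]
    -- σ (σ x) * σ x * (σ x * x) = 1
    rw [hσσ, hcomm x (σ x), mul_assoc, ← mul_assoc x, hcomm x (σ x), mul_assoc (σ x),
      hexp, mul_one, hexp]
  have hcard : Nat.card κ.ker * Nat.card κ.range = Nat.card N := by
    rw [← Subgroup.index_ker, Subgroup.card_mul_index]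
  have hle : Nat.card κ.range ≤ Nat.card κ.ker := Subgroup.card_le_of_le hRD
  have hD3 : 3 ≤ Nat.card κ.ker := by
    by_contra hlt
    push Not at hlt
    have : Nat.card κ.ker * Nat.card κ.range ≤ 2 * 2 := by
      apply Nat.mul_le_mul <;> omega
    omega
  have hRn : κ.range.Normal := ⟨fun n hn g => by
    rw [hcomm g n, mul_assoc, mul_inv_cancel, mul_one]; exact hn⟩
  have hidxR : κ.range.index = Nat.card κ.ker := by
    have h1 := Subgroup.card_mul_index κ.range
    have hpos : 0 < Nat.card κ.range := Nat.card_pos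
    rw [← hcard, mul_comm] at h1
    exact Nat.eq_of_mul_eq_mul_right hpos (by rw [mul_comm]; rw [mul_comm] at h1; exact h1)
  -- the quotient
  let A := N ⧸ κ.range
  have hAfin : Fintype A := Fintype.ofFinite A
  have hAcomm : ∀ a b : A, a * b = b * a := by
    intro a b
    obtain ⟨a, rfl⟩ := QuotientGroup.mk_surjective a
    obtain ⟨b, rfl⟩ := QuotientGroup.mk_surjective b
    rw [← QuotientGroup.mk_mul, ← QuotientGroup.mk_mul, hcomm]
  have hAcard : 3 ≤ Fintype.card (IrrCharacter A) := by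
    rw [card_irr_of_comm hAcomm]
    have : Nat.card A = κ.range.index := (Subgroup.index_eq_card _).symm
    rw [this, hidxR]
    exact hD3
  obtain ⟨β₁, β₂, β₃, h12, h13, h23⟩ := Fintype.two_lt_card_iff.mp hAcard
  -- two non-principal ones
  obtain ⟨β, β', hββ', hβ1, hβ'1⟩ : ∃ β β' : IrrCharacter A, β ≠ β' ∧ β ≠ oneIrr A ∧
      β' ≠ oneIrr A := by
    by_cases c1 : β₁ = oneIrr A
    · exact ⟨β₂, β₃, h23, fun h => h12 (c1.trans h.symm), fun h => h13 (c1.trans h.symm)⟩
    · by_cases c2 : β₂ = oneIrr A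
      · exact ⟨β₁, β₃, h13, c1, fun h => h23 (c2.trans h.symm)⟩
      · exact ⟨β₁, β₂, h12, c1, c2⟩
  let π : N →* A := QuotientGroup.mk' κ.range
  have hπ : Function.Surjective π := QuotientGroup.mk'_surjective _
  obtain ⟨ψ, hψ⟩ := exists_inflate hAcomm π hπ β
  obtain ⟨ψ', hψ'⟩ := exists_inflate hAcomm π hπ β'
  -- invariance
  have hπσ : ∀ n : N, π (σ n) = π n := by
    intro n
    have h1 : σ n = κ n * n := by rw [hκ, inv_mul_cancel_right]
    rw [h1, map_mul]
    have h2 : π (κ n) = 1 := by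
      show (QuotientGroup.mk' κ.range) (κ n) = 1
      rw [← MonoidHom.mem_ker, QuotientGroup.ker_mk']
      exact ⟨n, rfl⟩
    rw [h2, one_mul]
  have hπconj : ∀ (g : Q) (n : N), π ⟨g * n * g⁻¹, hN.conj_mem n n.2 g⟩ = π n := by
    intro g n
    by_cases hg : g ∈ N
    · have : (⟨g * n * g⁻¹, hN.conj_mem n n.2 g⟩ : N) = n := by
        have h1 : (⟨g * n * g⁻¹, hN.conj_mem n n.2 g⟩ : N) = ⟨g, hg⟩ * n * ⟨g, hg⟩⁻¹ := rfl
        rw [h1, hcomm _ n, mul_assoc, mul_inv_cancel, mul_one]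
      rw [this]
    · have hx : y⁻¹ * g ∈ N := by
        rw [Subgroup.mul_mem_iff_of_index_two hidx]
        constructor
        · intro h
          exact absurd (by simpa using N.inv_mem h) hy
        · intro h
          exact absurd h hg
      have h1 : (⟨g * n * g⁻¹, hN.conj_mem n n.2 g⟩ : N) =
          σ (⟨y⁻¹ * g, hx⟩ * n * ⟨y⁻¹ * g, hx⟩⁻¹) := by
        apply Subtype.ext
        show g * n * g⁻¹ = y * ((y⁻¹ * g) * n * (y⁻¹ * g)⁻¹) * y⁻¹
        group
      rw [h1, hπσ, hcomm _ n, mul_assoc, mul_inv_cancel, mul_one]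
  have hinv : ∀ (θ : IrrCharacter N) (γ : IrrCharacter A),
      (∀ n : N, (θ : N → ℂ) n = (γ : A → ℂ) (π n)) →
      ∀ g : Q, Cfsg.Agent.Lib.Helper75_Clifford.conjFun N hN (θ : N → ℂ) g = θ := by
    intro θ γ hθ g
    funext n
    rw [Cfsg.Agent.Lib.Helper75_Clifford.conjFun_apply, hθ, hθ, hπconj]
  have hne_of : ∀ (θ θ' : IrrCharacter N) (γ γ' : IrrCharacter A),
      (∀ n : N, (θ : N → ℂ) n = (γ : A → ℂ) (π n)) →
      (∀ n : N, (θ' : N → ℂ) n = (γ' : A → ℂ) (π n)) → γ ≠ γ' → θ ≠ θ' := by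
    intro θ θ' γ γ' hθ hθ' hγ heq
    apply hγ
    apply Subtype.ext
    funext a
    obtain ⟨n, rfl⟩ := hπ a
    rw [← hθ, ← hθ', heq]
  have hone : ∀ n : N, ((oneIrr N : IrrCharacter N) : N → ℂ) n =
      ((oneIrr A : IrrCharacter A) : A → ℂ) (π n) := fun n => rfl
  exact ⟨ψ, ψ', hne_of ψ ψ' β β' hψ hψ' hββ', hne_of ψ _ β _ hψ hone hβ1,
    hne_of ψ' _ β' _ hψ' hone hβ'1, hinv ψ β hψ, hinv ψ' β' hψ'⟩

/-- **Main lemma of this file.** -/
theorem card_lt_eight (N : Subgroup Q) (hN : N.Normal) [Fintype N] (hidx : N.index = 2)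
    (hcomm : ∀ a b : N, a * b = b * a) (hexp : ∀ a : N, a * a = 1)
    {φ : Q → ℂ} (hφ : IsCharacter Q φ)
    (hmult : ∀ ψ : IrrCharacter N, classInner (res N φ) (ψ : N → ℂ) =
      if ψ = oneIrr N then 0 else 1)
    (hdeg : φ 1 + 1 = (Nat.card N : ℂ))
    (hnorm : classInner φ φ * 2 = (Nat.card N : ℂ)) : Nat.card N < 8 := by
  by_contra h8
  push Not at h8
  obtain ⟨ψ, ψ', hne, h1, h1', hinv, hinv'⟩ := exists_two_invariant N hN hidx hcomm hexp h8
  exact hne (invariant_unique N hN hidx hcomm hφ hmult hdeg hnorm ψ ψ' h1 h1' hinv hinv')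

end Cfsg.Agent.Lib.Helper74_RootC
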