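import Mathlib
import Cfsg.Agent.Lib.Helper25_CyclicDual
import Cfsg.Agent.Lib.Helper50_DkGroups

/-!
# Recognition of `S₄ × Z` (helper74)

A finite group `G` whose largest normal `2`-subgroup `P` is a four-group which is not a Sylow
subgroup and satisfies `C_G(P) = P × Z(G)` is the direct product of a symmetric group of degree
four and its centre, which has odd order.
-/

set_option autoImplicit false
set_option linter.unusedSectionVars false

namespace Cfsg.Agent.Lib.Helper74_RootD

open scoped Classical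

universe u

variable {G : Type u} [Group G]

/-- the hypotheses -/
structure Setup (P : Subgroup G) : Prop where
  normal : P.Normal
  card : Nat.card P = 4
  exp : ∀ x ∈ P, x * x = 1
  comm : ∀ a ∈ P, ∀ b ∈ P, a * b = b * a
  core : ∀ K : Subgroup G, K.Normal → IsPGroup 2 K → K ≤ P
  cent : Subgroup.centralizer (P : Set G) = P ⊔ Subgroup.center G
  inf : P ⊓ Subgroup.center G = ⊥
  eight : 8 ∣ Nat.card G

variable {P : Subgroup G}

/-- the centre has odd order -/
theorem odd_center [Finite G] (h : Setup P) : Odd (Nat.card (Subgroup.center G)) := by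
  rw [← Nat.not_even_iff_odd]
  intro hev
  have : Fact (Nat.Prime 2) := ⟨Nat.prime_two⟩
  obtain ⟨z, hz⟩ := exists_prime_orderOf_dvd_card' (G := Subgroup.center G) 2 hev.two_dvd
  have hz1 : z ≠ 1 := by
    intro h1
    rw [h1, orderOf_one] at hz
    omega
  have hzn : (Subgroup.zpowers (z : G)).Normal :=
    ⟨fun n hn g => by
      obtain ⟨k, rfl⟩ := Subgroup.mem_zpowers_iff.mp hn
      have hc : (z : G) ^ k ∈ Subgroup.center G := (Subgroup.center G).zpow_mem z.2 k
      rw [Subgroup.mem_center_iff] at hc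
      rw [hc g, mul_inv_cancel_right]
      exact Subgroup.zpow_mem_zpowers _ _⟩
  have hzp : IsPGroup 2 (Subgroup.zpowers (z : G)) := by
    apply IsPGroup.of_card (n := 1)
    rw [Nat.card_zpowers, Subgroup.orderOf_coe, hz, pow_one]
  have hzP : (z : G) ∈ P := h.core _ hzn hzp (Subgroup.mem_zpowers _)
  have : (z : G) ∈ P ⊓ Subgroup.center G := ⟨hzP, z.2⟩
  rw [h.inf, Subgroup.mem_bot] at this
  exact hz1 (Subtype.ext this)

theorem card_centralizer [Finite G] (h : Setup P) :
    Nat.card (Subgroup.centralizer (P : Set G)) = 4 * Nat.card (Subgroup.center G) := by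
  rw [h.cent, Cfsg.Agent.Lib.Helper25_CyclicDual.card_sup_of_commute P (Subgroup.center G) h.inf
    (fun a _ b hb => Subgroup.mem_center_iff.mp hb a), h.card]

/-- the nonidentity elements of `P` -/
abbrev X (P : Subgroup G) : Type u := {x : P // x ≠ 1}

/-- the conjugation action on the nonidentity elements of `P` -/
noncomputable def act (h : Setup P) : G →* Equiv.Perm (X P) where
  toFun g :=
    { toFun := fun x => ⟨⟨g * x.1 * g⁻¹, h.normal.conj_mem _ x.1.2 g⟩, by
        intro h1
        apply x.2
        have h2 : g * (x.1 : G) * g⁻¹ = 1 := congrArg Subtype.val h1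
        apply Subtype.ext
        have : (x.1 : G) = g⁻¹ * (g * (x.1 : G) * g⁻¹) * g := by group
        rw [this, h2]
        simp⟩
      invFun := fun x => ⟨⟨g⁻¹ * x.1 * g, by
          have := h.normal.conj_mem _ x.1.2 g⁻¹
          rwa [inv_inv] at this⟩, by
        intro h1
        apply x.2
        have h2 : g⁻¹ * (x.1 : G) * g = 1 := congrArg Subtype.val h1
        apply Subtype.ext
        have : (x.1 : G) = g * (g⁻¹ * (x.1 : G) * g) * g⁻¹ := by group
        rw [this, h2]
        simp⟩
      left_inv := fun x => by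
        apply Subtype.ext
        apply Subtype.ext
        show g⁻¹ * (g * (x.1 : G) * g⁻¹) * g = x.1
        group
      right_inv := fun x => by
        apply Subtype.ext
        apply Subtype.ext
        show g * (g⁻¹ * (x.1 : G) * g) * g⁻¹ = x.1
        group }
  map_one' := by
    ext x
    show (1 : G) * (x.1 : G) * (1 : G)⁻¹ = x.1
    group
  map_mul' a b := by
    ext x
    show (a * b) * (x.1 : G) * (a * b)⁻¹ = a * (b * (x.1 : G) * b⁻¹) * a⁻¹
    group

theorem act_apply (h : Setup P) (g : G) (x : X P) :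
    (((act h g) x).1 : G) = g * (x.1 : G) * g⁻¹ := rfl

theorem ker_act (h : Setup P) : (act h).ker = Subgroup.centralizer (P : Set G) := by
  ext g
  rw [MonoidHom.mem_ker, Subgroup.mem_centralizer_iff]
  constructor
  · intro hg x hx
    by_cases hx1 : x = 1
    · rw [hx1]; simp
    · have h1 := congrArg (fun σ : Equiv.Perm (X P) => ((σ ⟨⟨x, hx⟩, fun h' => hx1
        (congrArg Subtype.val h')⟩).1 : G)) hg
      simp only [act_apply, Equiv.Perm.coe_one, id_eq] at h1
      calc x * g = (g * x * g⁻¹) * g := by rw [h1]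
        _ = g * x := by group
  · intro hg
    ext x
    show g * (x.1 : G) * g⁻¹ = x.1
    rw [← hg x.1 x.1.2]
    group

theorem card_X [Finite G] (h : Setup P) : Nat.card (X P) = 3 := by
  have : Fintype P := Fintype.ofFinite P
  rw [Nat.card_eq_fintype_card, Fintype.card_subtype_compl, Fintype.card_subtype_eq,
    ← Nat.card_eq_fintype_card, h.card]

theorem card_perm_X [Finite G] (h : Setup P) : Nat.card (Equiv.Perm (X P)) = 6 := by
  rw [Nat.card_perm, card_X h]
  rfl

theorem index_centralizer_dvd [Finite G] (h : Setup P) :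
    (Subgroup.centralizer (P : Set G)).index ∣ 6 := by
  rw [← ker_act h, Subgroup.index_ker, ← card_perm_X h]
  exact Subgroup.card_subgroup_dvd_card _

theorem isPGroup_P (h : Setup P) : IsPGroup 2 P := by
  apply IsPGroup.of_card (n := 2)
  rw [h.card]
  norm_num

theorem le_sylow (h : Setup P) (Q : Sylow 2 G) : P ≤ Q := by
  have : Fact (Nat.Prime 2) := ⟨Nat.prime_two⟩
  have := h.normal
  have h1 : IsPGroup 2 (P ⊔ (Q : Subgroup G) : Subgroup G) :=
    IsPGroup.to_sup_of_normal_left (isPGroup_P h) Q.2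
  have h2 := Q.is_maximal' h1 le_sup_right
  calc P ≤ P ⊔ (Q : Subgroup G) := le_sup_left
    _ = Q := h2

theorem eight_dvd_sylow [Finite G] (h : Setup P) (Q : Sylow 2 G) :
    8 ∣ Nat.card (Q : Subgroup G) := by
  have : Fact (Nat.Prime 2) := ⟨Nat.prime_two⟩
  have h1 : 2 ^ 3 ∣ Nat.card G := by
    have := h.eight
    norm_num
    exact this
  have := Q.pow_dvd_card_of_pow_dvd_card h1
  norm_num at this
  exact this

theorem sylow_not_le [Finite G] (h : Setup P) (Q : Sylow 2 G) :
    ¬ (Q : Subgroup G) ≤ Subgroup.centralizer (P : Set G) := by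
  intro hle
  have h1 := Subgroup.card_dvd_of_le hle
  rw [card_centralizer h] at h1
  have h2 := dvd_trans (eight_dvd_sylow h Q) h1
  obtain ⟨k, hk⟩ := odd_center h
  rw [hk] at h2
  omega

theorem index_centralizer [Finite G] (h : Setup P) :
    (Subgroup.centralizer (P : Set G)).index = 6 := by
  have : Fact (Nat.Prime 2) := ⟨Nat.prime_two⟩
  set C := Subgroup.centralizer (P : Set G) with hC
  have hdvd := index_centralizer_dvd h
  have hcard := Subgroup.index_mul_card C
  rw [card_centralizer h] at hcard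
  obtain ⟨k, hk⟩ := odd_center h
  have h8 := h.eight
  have hle : C.index ≤ 6 := Nat.le_of_dvd (by norm_num) hdvd
  have h2 : 2 ∣ C.index := by
    rw [← hcard, hk] at h8
    have h3 : C.index * (4 * (2 * k + 1)) = 4 * (C.index * (2 * k + 1)) := by ring
    rw [h3] at h8
    have h4 : 2 ∣ C.index * (2 * k + 1) := by omega
    rcases (Nat.Prime.dvd_mul Nat.prime_two).mp h4 with h5 | h5
    · exact h5
    · omega
  have hcases : C.index = 2 ∨ C.index = 6 := by
    have hpos : 0 < C.index := Nat.pos_of_ne_zero (Subgroup.index_ne_zero_of_finite)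
    interval_cases hi : C.index <;> omega
  rcases hcases with h2i | h6
  · exfalso
    obtain ⟨Q⟩ : Nonempty (Sylow 2 G) := inferInstance
    have hPQ := le_sylow h Q
    -- `Q ⊔ C = ⊤`
    have htop : (Q : Subgroup G) ⊔ C = ⊤ := by
      have h3 : ((Q : Subgroup G) ⊔ C).index ∣ C.index := Subgroup.index_dvd_of_le le_sup_right
      rw [h2i] at h3
      rcases (Nat.dvd_prime Nat.prime_two).mp h3 with h4 | h4
      · exact Subgroup.index_eq_one.mp h4
      · exfalso
        have h5 : (Q : Subgroup G) ⊔ C = C := by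
          symm
          apply Subgroup.eq_of_le_of_card_ge le_sup_right
          have h6 := Subgroup.index_mul_card ((Q : Subgroup G) ⊔ C)
          have h7 := Subgroup.index_mul_card C
          rw [h4] at h6
          rw [h2i] at h7
          omega
        apply sylow_not_le h Q
        have h8 : (Q : Subgroup G) ≤ (Q : Subgroup G) ⊔ C := le_sup_left
        rw [h5] at h8
        exact h8
    -- `Q` is normal
    have hQn : (Q : Subgroup G).Normal := by
      rw [← Subgroup.normalizer_eq_top_iff, eq_top_iff, ← htop]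
      apply sup_le
      · exact Subgroup.le_normalizer
      · rw [hC, h.cent]
        apply sup_le
        · exact le_trans hPQ Subgroup.le_normalizer
        · intro z hz
          rw [Subgroup.mem_normalizer_iff]
          intro g
          rw [Subgroup.mem_center_iff] at hz
          rw [← hz g, mul_inv_cancel_right]
    have hQP := h.core _ hQn Q.2
    have h3 := Subgroup.card_dvd_of_le hQP
    rw [h.card] at h3
    have := dvd_trans (eight_dvd_sylow h Q) h3
    omega
  · exact h6

theorem card_eq [Finite G] (h : Setup P) :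
    Nat.card G = 24 * Nat.card (Subgroup.center G) := by
  have hcard := Subgroup.index_mul_card (Subgroup.centralizer (P : Set G))
  rw [card_centralizer h, index_centralizer h] at hcard
  omega

theorem perm_three : ∀ a b : Equiv.Perm (Fin 3), a ^ 2 = 1 → a ≠ 1 → b ^ 3 = 1 →
    a * b * a⁻¹ * b = 1 := by decide

theorem perm_X_rel [Finite G] (h : Setup P) (a b : Equiv.Perm (X P)) (ha : a ^ 2 = 1)
    (ha1 : a ≠ 1) (hb : b ^ 3 = 1) : a * b * a⁻¹ * b = 1 := by
  have : Fintype (X P) := Fintype.ofFinite _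
  have hc : Fintype.card (X P) = 3 := by
    rw [← Nat.card_eq_fintype_card]; exact card_X h
  let e : X P ≃ Fin 3 := Fintype.equivFinOfCardEq hc
  let φ := e.permCongrHom
  have h1 := perm_three (φ a) (φ b) (by rw [← map_pow, ha, map_one])
    (fun h' => ha1 (φ.injective (by rw [h', map_one]))) (by rw [← map_pow, hb, map_one])
  apply φ.injective
  rw [map_mul, map_mul, map_mul, map_inv, map_one]
  exact h1

/-- the image of a `q`-element under the action has order dividing `q` (`q = 2, 3`) -/
theorem act_pow [Finite G] (h : Setup P) (q : ℕ) (hq : q = 2 ∨ q = 3) {g : G} {k : ℕ}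
    (hg : g ^ q ^ k = 1) : (act h g) ^ q = 1 := by
  have h1 : orderOf (act h g) ∣ 6 := by
    rw [← card_perm_X h]
    exact orderOf_dvd_natCard _
  have h2 : orderOf (act h g) ∣ q ^ k := by
    apply orderOf_dvd_of_pow_eq_one
    rw [← map_pow, hg, map_one]
  rw [← orderOf_dvd_iff_pow_eq_one]
  rcases hq with rfl | rfl
  · have hcop : Nat.Coprime (orderOf (act h g)) 3 :=
      Nat.Coprime.coprime_dvd_left h2 (by
        apply Nat.Coprime.pow_left
        norm_num)
    exact hcop.dvd_of_dvd_mul_left (by norm_num; exact h1)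
  · have hcop : Nat.Coprime (orderOf (act h g)) 2 :=
      Nat.Coprime.coprime_dvd_left h2 (by
        apply Nat.Coprime.pow_left
        norm_num)
    exact hcop.dvd_of_dvd_mul_right (by norm_num; exact h1)

theorem mem_centralizer_iff_act (h : Setup P) (g : G) :
    g ∈ Subgroup.centralizer (P : Set G) ↔ act h g = 1 := by
  rw [← ker_act h, MonoidHom.mem_ker]

/-- a `2`-element outside the centralizer -/
theorem exists_two_element [Finite G] (h : Setup P) :
    ∃ (y : G) (k : ℕ), y ^ 2 ^ k = 1 ∧ y ∉ Subgroup.centralizer (P : Set G) := by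
  have : Fact (Nat.Prime 2) := ⟨Nat.prime_two⟩
  obtain ⟨Q⟩ : Nonempty (Sylow 2 G) := inferInstance
  have h1 := sylow_not_le h Q
  rw [SetLike.not_le_iff_exists] at h1
  obtain ⟨y, hyQ, hyC⟩ := h1
  obtain ⟨k, hk⟩ := Q.2 ⟨y, hyQ⟩
  refine ⟨y, k, ?_, hyC⟩
  have := congrArg Subtype.val hk
  simpa using this

/-- a `3`-element outside the centralizer -/
theorem exists_three_element [Finite G] (h : Setup P) :
    ∃ (t : G) (k : ℕ), t ^ 3 ^ k = 1 ∧ t ∉ Subgroup.centralizer (P : Set G) := by
  have : Fact (Nat.Prime 3) := ⟨Nat.prime_three⟩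
  obtain ⟨S⟩ : Nonempty (Sylow 3 G) := inferInstance
  have h1 : ¬ (S : Subgroup G) ≤ Subgroup.centralizer (P : Set G) := by
    intro hle
    have h2 := Subgroup.index_dvd_of_le hle
    rw [index_centralizer h] at h2
    exact S.not_dvd_index (dvd_trans (by norm_num) h2)
  rw [SetLike.not_le_iff_exists] at h1
  obtain ⟨t, htS, htC⟩ := h1
  obtain ⟨k, hk⟩ := S.2 ⟨t, htS⟩
  refine ⟨t, k, ?_, htC⟩
  have := congrArg Subtype.val hk
  simpa using this

/-- the key relation -/
theorem rel_mem [Finite G] (h : Setup P) {y t : G} {k l : ℕ} (hy : y ^ 2 ^ k = 1)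
    (hyC : y ∉ Subgroup.centralizer (P : Set G)) (ht : t ^ 3 ^ l = 1) :
    y * t * y⁻¹ * t ∈ Subgroup.centralizer (P : Set G) := by
  rw [mem_centralizer_iff_act, map_mul, map_mul, map_mul, map_inv]
  apply perm_X_rel h
  · exact act_pow h 2 (Or.inl rfl) hy
  · intro h1
    exact hyC ((mem_centralizer_iff_act h y).mpr h1)
  · exact act_pow h 3 (Or.inr rfl) ht

theorem exists_mul_of_mem_centralizer (h : Setup P) {c : G}
    (hc : c ∈ Subgroup.centralizer (P : Set G)) :
    ∃ x ∈ P, ∃ z ∈ Subgroup.center G, x * z = c := by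
  rw [h.cent] at hc
  have h1 : c ∈ ((P ⊔ Subgroup.center G : Subgroup G) : Set G) := hc
  rw [Subgroup.mul_normal] at h1
  obtain ⟨x, hx, z, hz, hxz⟩ := Set.mem_mul.mp h1
  exact ⟨x, hx, z, hz, hxz⟩

theorem eq_one_of_odd_pow (h : Setup P) {x : G} (hx : x ∈ P) {m : ℕ} (hm : Odd m)
    (hxm : x ^ m = 1) : x = 1 := by
  obtain ⟨j, rfl⟩ := hm
  have h2 : x ^ 2 = 1 := by rw [pow_two]; exact h.exp x hx
  rw [pow_succ, pow_mul, h2, one_pow, one_mul] at hxm
  exact hxm

/-- the cube of a `3`-element is central -/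
theorem cube_mem_center [Finite G] (h : Setup P) {t : G} {l : ℕ} (ht : t ^ 3 ^ l = 1) :
    t ^ 3 ∈ Subgroup.center G := by
  have h1 : t ^ 3 ∈ Subgroup.centralizer (P : Set G) := by
    rw [mem_centralizer_iff_act, map_pow]
    exact act_pow h 3 (Or.inr rfl) ht
  obtain ⟨x, hx, z, hz, hxz⟩ := exists_mul_of_mem_centralizer h h1
  have hx1 : x = 1 := by
    obtain ⟨k, hk⟩ := odd_center h
    apply eq_one_of_odd_pow h hx (m := 3 ^ l * Nat.card (Subgroup.center G))
    · exact Odd.mul (Odd.pow (by decide)) ⟨k, hk⟩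
    · have hxe : x = t ^ 3 * z⁻¹ := by rw [← hxz]; group
      have hcomm : Commute (t ^ 3) z⁻¹ := by
        have := Subgroup.mem_center_iff.mp ((Subgroup.center G).inv_mem hz) (t ^ 3)
        exact this
      rw [hxe, hcomm.mul_pow]
      have h2 : (t ^ 3) ^ (3 ^ l * Nat.card (Subgroup.center G)) = 1 := by
        rw [← pow_mul, mul_comm 3, mul_assoc, pow_mul, ht, one_pow]
      have h3 : (z⁻¹) ^ (3 ^ l * Nat.card (Subgroup.center G)) = 1 := by
        rw [mul_comm, pow_mul]
        have h4 : (⟨z⁻¹, (Subgroup.center G).inv_mem hz⟩ : Subgroup.center G) ^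
            Nat.card (Subgroup.center G) = 1 := pow_card_eq_one'
        have h5 := congrArg Subtype.val h4
        simp only [Subgroup.coe_pow, Subgroup.coe_one] at h5
        rw [h5, one_pow]
      rw [h2, h3, one_mul]
  rw [← hxz, hx1, one_mul]
  exact hz

/-- the abelian subgroup `⟨t⟩ Z(G)` -/
def AA (t : G) : Subgroup G := Subgroup.zpowers t ⊔ Subgroup.center G

theorem t_mem_AA (t : G) : t ∈ AA t :=
  (le_sup_left : Subgroup.zpowers t ≤ AA t) (Subgroup.mem_zpowers t)

theorem center_le_AA (t : G) : Subgroup.center G ≤ AA t := le_sup_right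

theorem AA_comm (t : G) : ∀ a ∈ AA t, ∀ b ∈ AA t, a * b = b * a := by
  have h1 : AA t ≤ Subgroup.centralizer ({t} : Set G) := by
    apply sup_le
    · rw [Subgroup.zpowers_le]
      rw [Subgroup.mem_centralizer_iff]
      intro x hx
      rw [Set.mem_singleton_iff.mp hx]
    · exact Subgroup.center_le_centralizer _
  have h2 : AA t ≤ Subgroup.centralizer ((AA t : Subgroup G) : Set G) := by
    apply sup_le
    · rw [Subgroup.zpowers_le, Subgroup.mem_centralizer_iff]
      intro a ha
      have := Subgroup.mem_centralizer_iff.mp (h1 ha) t rfl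
      exact this.symm
    · exact Subgroup.center_le_centralizer _
  intro a ha b hb
  exact (Subgroup.mem_centralizer_iff.mp (h2 hb) a ha)

theorem AA_cube {t : G} (ht : t ^ 3 ∈ Subgroup.center G) :
    ∀ a ∈ AA t, a ^ 3 ∈ Subgroup.center G := by
  intro a ha
  have h1 : a ∈ ((Subgroup.zpowers t ⊔ Subgroup.center G : Subgroup G) : Set G) := ha
  rw [Subgroup.mul_normal] at h1
  obtain ⟨x, hx, z, hz, rfl⟩ := Set.mem_mul.mp h1
  obtain ⟨i, rfl⟩ := Subgroup.mem_zpowers_iff.mp hx
  have hcomm : Commute (t ^ i) z := Subgroup.mem_center_iff.mp hz (t ^ i)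
  rw [hcomm.mul_pow]
  apply Subgroup.mul_mem
  · have : (t ^ i) ^ 3 = (t ^ 3) ^ i := by
      rw [← zpow_natCast, ← zpow_mul, mul_comm, zpow_mul, zpow_natCast]
    rw [this]
    exact Subgroup.zpow_mem _ ht i
  · exact Subgroup.pow_mem _ hz 3

theorem AA_odd [Finite G] (h : Setup P) {t : G} (ht : t ^ 3 ∈ Subgroup.center G) :
    Odd (Nat.card (AA t)) := by
  rw [← Nat.not_even_iff_odd]
  intro hev
  have : Fact (Nat.Prime 2) := ⟨Nat.prime_two⟩
  obtain ⟨a, ha⟩ := exists_prime_orderOf_dvd_card' (G := AA t) 2 hev.two_dvd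
  have ha2 : (a : G) ^ 2 = 1 := by
    have := pow_orderOf_eq_one a
    rw [ha] at this
    have := congrArg Subtype.val this
    simpa using this
  have ha3 : (a : G) ^ 3 ∈ Subgroup.center G := AA_cube ht a a.2
  have haZ : (a : G) ∈ Subgroup.center G := by
    have : (a : G) ^ 3 = a := by rw [pow_succ, ha2, one_mul]
    rw [this] at ha3
    exact ha3
  have hord : orderOf (⟨a, haZ⟩ : Subgroup.center G) = 2 := by
    rw [← Subgroup.orderOf_coe]
    show orderOf (a : G) = 2
    rw [Subgroup.orderOf_coe, ha]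
  have hdvd : 2 ∣ Nat.card (Subgroup.center G) := by
    rw [← hord]
    exact orderOf_dvd_natCard _
  obtain ⟨k, hk⟩ := odd_center h
  omega

theorem index_center [Finite G] (h : Setup P) : (Subgroup.center G).index = 24 := by
  have h1 := Subgroup.index_mul_card (Subgroup.center G)
  rw [card_eq h] at h1
  have hpos : 0 < Nat.card (Subgroup.center G) := Nat.card_pos
  exact Nat.eq_of_mul_eq_mul_right hpos h1

theorem AA_index [Finite G] (h : Setup P) {t : G} (ht : t ^ 3 ∈ Subgroup.center G)
    (htC : t ∉ Subgroup.centralizer (P : Set G)) : (AA t).index = 8 := by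
  have h1 := Subgroup.relIndex_mul_index (center_le_AA t)
  rw [index_center h] at h1
  have h2 : (Subgroup.center G).relIndex (AA t) ∣ Nat.card (AA t) :=
    Subgroup.relIndex_dvd_card _ _
  have hodd : Odd ((Subgroup.center G).relIndex (AA t)) := by
    obtain ⟨k, hk⟩ := AA_odd h ht
    rw [hk] at h2
    rw [← Nat.not_even_iff_odd]
    intro hev
    have := dvd_trans hev.two_dvd h2
    omega
  have hne1 : (Subgroup.center G).relIndex (AA t) ≠ 1 := by
    intro h3
    rw [Subgroup.relIndex_eq_one] at h3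
    apply htC
    exact Subgroup.center_le_centralizer _ (h3 (t_mem_AA t))
  have hdvd : (Subgroup.center G).relIndex (AA t) ∣ 24 := ⟨_, h1.symm⟩
  have hle : (Subgroup.center G).relIndex (AA t) ≤ 24 := Nat.le_of_dvd (by norm_num) hdvd
  obtain ⟨k, hk⟩ := hodd
  have h3 : (Subgroup.center G).relIndex (AA t) = 3 := by
    interval_cases hr : (Subgroup.center G).relIndex (AA t) <;> omega
  rw [h3] at h1
  omega

/-- the commutative group structure on `AA t` -/
noncomputable def commAA (t : G) : CommGroup (AA t) :=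
  { (inferInstance : Group (AA t)) with
    mul_comm := fun a b => Subtype.ext (AA_comm t a a.2 b b.2) }

/-- the transfer into `AA t` -/
noncomputable def VV [Finite G] (t : G) : G →* (AA t) :=
  @MonoidHom.transfer G _ (AA t) (AA t) (commAA t) (MonoidHom.id (AA t)) _

theorem VV_comm [Finite G] (t : G) (a b : G) : VV t a * VV t b = VV t b * VV t a :=
  Subtype.ext (AA_comm t _ (VV t a).2 _ (VV t b).2)

theorem VV_conj [Finite G] (t : G) (a b : G) : VV t (a * b * a⁻¹) = VV t b := by
  rw [map_mul, map_mul, VV_comm t a b, mul_assoc, ← map_mul, mul_inv_cancel, map_one, mul_one]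

theorem VV_center [Finite G] (t : G) {z : G} (hz : z ∈ Subgroup.center G) :
    ((VV t z : AA t) : G) = z ^ (AA t).index := by
  have key : ∀ (k : ℕ) (g₀ : G), g₀⁻¹ * z ^ k * g₀ ∈ AA t → g₀⁻¹ * z ^ k * g₀ = z ^ k := by
    intro k g₀ _
    have hzk : z ^ k ∈ Subgroup.center G := Subgroup.pow_mem _ hz k
    rw [Subgroup.mem_center_iff] at hzk
    rw [mul_assoc, ← hzk g₀, inv_mul_cancel_left]
  have h1 := @MonoidHom.transfer_eq_pow G _ (AA t) (AA t) (commAA t) (MonoidHom.id (AA t)) _ z key
  have h2 : VV t z = @MonoidHom.transfer G _ (AA t) (AA t) (commAA t) (MonoidHom.id (AA t)) _ z :=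
    rfl
  rw [h2, h1]
  rfl

theorem VV_two [Finite G] (h : Setup P) {t : G} (ht : t ^ 3 ∈ Subgroup.center G) {g : G} {k : ℕ}
    (hg : g ^ 2 ^ k = 1) : VV t g = 1 := by
  have h1 : (VV t g) ^ 2 ^ k = 1 := by rw [← map_pow, hg, map_one]
  have h2 : (VV t g) ^ Nat.card (AA t) = 1 := pow_card_eq_one'
  have h3 := pow_gcd_eq_one.mpr ⟨h1, h2⟩
  have hcop : Nat.Coprime (2 ^ k) (Nat.card (AA t)) := by
    apply Nat.Coprime.pow_left
    rw [Nat.coprime_two_left]
    exact AA_odd h ht
  rw [hcop, pow_one] at h3
  exact h3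

/-- the transfer of `t` is central -/
theorem VV_t_mem [Finite G] (h : Setup P) {t : G} {l : ℕ} (ht : t ^ 3 ^ l = 1) :
    ((VV t t : AA t) : G) ∈ Subgroup.center G := by
  have ht3 := cube_mem_center h ht
  obtain ⟨y, k, hy, hyC⟩ := exists_two_element h
  have hrel := rel_mem h hy hyC ht
  obtain ⟨x, hx, z, hz, hxz⟩ := exists_mul_of_mem_centralizer h hrel
  -- transfer of the relation
  have h1 : VV t (y * t * y⁻¹ * t) = VV t t * VV t t := by
    rw [map_mul, VV_conj]
  have hx2 : VV t x = 1 := by
    apply VV_two h ht3 (k := 1)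
    rw [pow_one, pow_two]
    exact h.exp x hx
  have h2 : VV t (y * t * y⁻¹ * t) = VV t z := by
    rw [← hxz, map_mul, hx2, one_mul]
  have h3 : ((VV t t : AA t) : G) * ((VV t t : AA t) : G) ∈ Subgroup.center G := by
    have h4 := congrArg (fun a : AA t => (a : G)) (h1.symm.trans h2)
    simp only [Subgroup.coe_mul] at h4
    rw [h4, VV_center t hz]
    exact Subgroup.pow_mem _ hz _
  have h5 := AA_cube ht3 _ (VV t t).2
  have h6 : ((VV t t : AA t) : G) = ((VV t t : AA t) : G) ^ 3 *
      (((VV t t : AA t) : G) * ((VV t t : AA t) : G))⁻¹ := by group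
  rw [h6]
  exact Subgroup.mul_mem _ h5 (Subgroup.inv_mem _ h3)

/-- the subgroup of elements with central transfer -/
noncomputable def MM [Finite G] (t : G) : Subgroup G :=
  ((Subgroup.center G).subgroupOf (AA t)).comap (VV t)

theorem mem_MM [Finite G] (t g : G) : g ∈ MM t ↔ ((VV t g : AA t) : G) ∈ Subgroup.center G := by
  rw [MM, Subgroup.mem_comap, Subgroup.mem_subgroupOf]

theorem MM_eq_top [Finite G] (h : Setup P) {t : G} {l : ℕ} (ht : t ^ 3 ^ l = 1)
    (htC : t ∉ Subgroup.centralizer (P : Set G)) : MM t = ⊤ := by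
  have : Fact (Nat.Prime 2) := ⟨Nat.prime_two⟩
  have ht3 := cube_mem_center h ht
  obtain ⟨Q⟩ : Nonempty (Sylow 2 G) := inferInstance
  have hQ : (Q : Subgroup G) ≤ MM t := by
    intro g hg
    obtain ⟨k, hk⟩ := Q.2 ⟨g, hg⟩
    have hk' : g ^ 2 ^ k = 1 := by
      have := congrArg Subtype.val hk
      simpa using this
    rw [mem_MM, VV_two h ht3 hk']
    exact Subgroup.one_mem _
  have hA : AA t ≤ MM t := by
    apply sup_le
    · rw [Subgroup.zpowers_le, mem_MM]
      exact VV_t_mem h ht
    · intro z hz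
      rw [mem_MM, VV_center t hz]
      exact Subgroup.pow_mem _ hz _
  have h1 : 8 ∣ Nat.card (MM t) := dvd_trans (eight_dvd_sylow h Q) (Subgroup.card_dvd_of_le hQ)
  have h2 : Nat.card (AA t) ∣ Nat.card (MM t) := Subgroup.card_dvd_of_le hA
  have hcop : Nat.Coprime 8 (Nat.card (AA t)) := by
    have : (8 : ℕ) = 2 ^ 3 := by norm_num
    rw [this]
    apply Nat.Coprime.pow_left
    rw [Nat.coprime_two_left]
    exact AA_odd h ht3
  have h3 : 8 * Nat.card (AA t) ∣ Nat.card (MM t) := hcop.mul_dvd_of_dvd_of_dvd h1 h2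
  have h4 : 8 * Nat.card (AA t) = Nat.card G := by
    rw [← AA_index h ht3 htC]
    exact Subgroup.index_mul_card _
  rw [h4] at h3
  apply Subgroup.eq_top_of_le_card
  exact Nat.le_of_dvd Nat.card_pos h3

theorem pow_eight_injective [Finite G] (h : Setup P) {z : G} (hz : z ∈ Subgroup.center G)
    (h8 : z ^ 8 = 1) : z = 1 := by
  have h1 : (⟨z, hz⟩ : Subgroup.center G) ^ Nat.card (Subgroup.center G) = 1 := pow_card_eq_one'
  have h2 : z ^ Nat.card (Subgroup.center G) = 1 := by
    have h5 := congrArg Subtype.val h1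
    simp only [Subgroup.coe_pow, Subgroup.coe_one] at h5
    exact h5
  have h3 := pow_gcd_eq_one.mpr ⟨h8, h2⟩
  have hcop : Nat.Coprime 8 (Nat.card (Subgroup.center G)) := by
    have : (8 : ℕ) = 2 ^ 3 := by norm_num
    rw [this]
    apply Nat.Coprime.pow_left
    rw [Nat.coprime_two_left]
    exact odd_center h
  rw [hcop, pow_one] at h3
  exact h3

theorem exists_pow_eight [Finite G] (h : Setup P) {w : G} (hw : w ∈ Subgroup.center G) :
    ∃ z ∈ Subgroup.center G, z ^ 8 = w := by
  have hcop : Nat.Coprime 8 (Nat.card (Subgroup.center G)) := by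
    have : (8 : ℕ) = 2 ^ 3 := by norm_num
    rw [this]
    apply Nat.Coprime.pow_left
    rw [Nat.coprime_two_left]
    exact odd_center h
  have hbij := (powCoprime (G := Subgroup.center G) hcop.symm).surjective ⟨w, hw⟩
  obtain ⟨z, hz⟩ := hbij
  refine ⟨z, z.2, ?_⟩
  have := congrArg Subtype.val hz
  simpa using this

/-- **Main theorem of this file.** -/
theorem main [Finite G] (h : Setup P) :
    Odd (Nat.card (Subgroup.center G)) ∧
    ∃ H : Subgroup G, Nonempty (H ≃* Equiv.Perm (Fin 4)) ∧ H ⊓ Subgroup.center G = ⊥ ∧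
      H ⊔ Subgroup.center G = ⊤ := by
  refine ⟨odd_center h, ?_⟩
  obtain ⟨t, l, ht, htC⟩ := exists_three_element h
  have ht3 := cube_mem_center h ht
  have hidx := AA_index h ht3 htC
  have hM := MM_eq_top h ht htC
  have hVZ : ∀ g : G, ((VV t g : AA t) : G) ∈ Subgroup.center G := by
    intro g
    rw [← mem_MM, hM]
    exact Subgroup.mem_top g
  set H : Subgroup G := (VV t).ker with hH
  have hinf : H ⊓ Subgroup.center G = ⊥ := by
    rw [eq_bot_iff]
    intro z ⟨hzH, hzZ⟩
    rw [Subgroup.mem_bot]
    have hzH' : z ∈ (VV t).ker := hzH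
    rw [MonoidHom.mem_ker] at hzH'
    have h1 := VV_center t hzZ
    rw [hzH', hidx] at h1
    exact pow_eight_injective h hzZ h1.symm
  have hsup : H ⊔ Subgroup.center G = ⊤ := by
    rw [eq_top_iff]
    intro g _
    obtain ⟨z, hz, hzw⟩ := exists_pow_eight h (hVZ g)
    have h1 : g * z⁻¹ ∈ H := by
      rw [hH, MonoidHom.mem_ker, map_mul, map_inv]
      apply Subtype.ext
      rw [Subgroup.coe_mul, Subgroup.coe_inv, VV_center t hz, hidx, hzw]
      simp
    have h2 : g = (g * z⁻¹) * z := by group
    rw [h2]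
    exact Subgroup.mul_mem_sup h1 hz
  have hcardH : Nat.card H = 24 := by
    have h1 := Cfsg.Agent.Lib.Helper25_CyclicDual.card_sup_of_commute H (Subgroup.center G) hinf
      (fun a _ b hb => Subgroup.mem_center_iff.mp hb a)
    rw [hsup, Subgroup.card_top, card_eq h] at h1
    have hpos : 0 < Nat.card (Subgroup.center G) := Nat.card_pos
    exact (Nat.eq_of_mul_eq_mul_right hpos h1).symm
  have hPH : P ≤ H := by
    intro x hx
    rw [hH, MonoidHom.mem_ker]
    apply VV_two h ht3 (k := 1)
    rw [pow_one, pow_two]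
    exact h.exp x hx
  refine ⟨H, ?_, hinf, hsup⟩
  apply Cfsg.Agent.Lib.Helper50_DkGroups.equiv_S4 _ hcardH
  -- no cyclic normal subgroup
  intro N hNn hNc
  rw [eq_bot_iff]
  intro n hn
  rw [Subgroup.mem_bot]
  -- conjugates of elements of `N` by elements of `G` stay in `N`
  have hconj : ∀ (g : G) (m : H), m ∈ N → ∃ m' : H, m' ∈ N ∧ (m' : G) = g * m * g⁻¹ := by
    intro g m hm
    have hg : g ∈ H ⊔ Subgroup.center G := by rw [hsup]; exact Subgroup.mem_top g
    have hg' : g ∈ ((H ⊔ Subgroup.center G : Subgroup G) : Set G) := hg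
    rw [Subgroup.mul_normal] at hg'
    obtain ⟨a, ha, z, hz, rfl⟩ := Set.mem_mul.mp hg'
    refine ⟨⟨a, ha⟩ * m * ⟨a, ha⟩⁻¹, hNn.conj_mem m hm ⟨a, ha⟩, ?_⟩
    have hzc := Subgroup.mem_center_iff.mp hz
    show a * (m : G) * a⁻¹ = a * z * m * (a * z)⁻¹
    rw [mul_inv_rev, mul_assoc a z, ← hzc (m : G)]
    group
  -- elements of `N ∩ P` are central
  have hNP : ∀ m : H, m ∈ N → (m : G) ∈ P → m = 1 := by
    intro m hm hmP
    by_contra hm1
    have hmc : (m : G) ∈ Subgroup.center G := by
      rw [Subgroup.mem_center_iff]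
      intro g
      obtain ⟨m', hm'N, hm'⟩ := hconj g m hm
      have hm'P : (m' : G) ∈ P := by rw [hm']; exact h.normal.conj_mem _ hmP g
      have hm'1 : m' ≠ 1 := by
        intro h1
        apply hm1
        rw [h1] at hm'
        have h2 : (m : G) = g⁻¹ * (g * (m : G) * g⁻¹) * g := by group
        rw [← hm'] at h2
        apply Subtype.ext
        rw [h2]
        simp
      -- both are involutions in the cyclic group `N`
      have hsq : ∀ a : H, (a : G) ∈ P → a ^ 2 = 1 := by
        intro a ha
        apply Subtype.ext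
        rw [Subgroup.coe_pow, pow_two]
        exact h.exp _ ha
      have heq : m' = m := by
        have := hNc
        have : Fintype N := Fintype.ofFinite N
        have hle := IsCyclic.card_pow_eq_one_le (α := N) (n := 2) (by norm_num)
        by_contra hne
        have hsub : ({1, ⟨m, hm⟩, ⟨m', hm'N⟩} : Finset N) ⊆
            Finset.univ.filter (fun a : N => a ^ 2 = 1) := by
          intro a ha
          simp only [Finset.mem_insert, Finset.mem_singleton] at ha
          rw [Finset.mem_filter]
          refine ⟨Finset.mem_univ _, ?_⟩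
          rcases ha with rfl | rfl | rfl
          · simp
          · apply Subtype.ext
            exact hsq m hmP
          · apply Subtype.ext
            exact hsq m' hm'P
        have hcard3 : ({1, ⟨m, hm⟩, ⟨m', hm'N⟩} : Finset N).card = 3 := by
          rw [Finset.card_insert_of_notMem, Finset.card_insert_of_notMem,
            Finset.card_singleton]
          · rw [Finset.mem_singleton]
            intro h1
            exact hne (congrArg Subtype.val h1).symm
          · simp only [Finset.mem_insert, Finset.mem_singleton]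
            rintro (h1 | h1)
            · exact hm1 (congrArg Subtype.val h1).symm
            · exact hm'1 (congrArg Subtype.val h1).symm
        have := Finset.card_le_card hsub
        omega
      rw [heq] at hm'
      calc g * (m : G) = (g * (m : G) * g⁻¹) * g := by group
        _ = (m : G) * g := by rw [← hm']
    have : (m : G) ∈ P ⊓ Subgroup.center G := ⟨hmP, hmc⟩
    rw [h.inf, Subgroup.mem_bot] at this
    exact hm1 (Subtype.ext this)
  -- `N` centralizes `P`
  have hnC : (n : G) ∈ Subgroup.centralizer (P : Set G) := by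
    rw [Subgroup.mem_centralizer_iff]
    intro x hx
    -- the commutator lies in `N ∩ P`
    obtain ⟨m', hm'N, hm'⟩ := hconj x n⁻¹ (N.inv_mem hn)
    have hc : n * m' ∈ N := N.mul_mem hn hm'N
    have hcP : ((n * m' : H) : G) ∈ P := by
      rw [Subgroup.coe_mul, hm', Subgroup.coe_inv]
      have h1 : (n : G) * (x * (n : G)⁻¹ * x⁻¹) = ((n : G) * x * (n : G)⁻¹) * x⁻¹ := by group
      rw [h1]
      exact P.mul_mem (h.normal.conj_mem _ hx _) (P.inv_mem hx)
    have h1 := hNP _ hc hcP
    have h2 := congrArg Subtype.val h1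
    rw [Subgroup.coe_mul, hm', Subgroup.coe_inv, Subgroup.coe_one] at h2
    have h3 : x * (n : G) = ((n : G) * (x * (n : G)⁻¹ * x⁻¹)) * x * (n : G) := by
      rw [h2, one_mul]
    rw [h3]
    group
  obtain ⟨x, hx, z, hz, hxz⟩ := exists_mul_of_mem_centralizer h hnC
  have hz1 : z = 1 := by
    have hzH : z ∈ H := by
      have : z = x⁻¹ * (n : G) := by rw [← hxz]; group
      rw [this]
      exact H.mul_mem (H.inv_mem (hPH hx)) n.2
    have : z ∈ H ⊓ Subgroup.center G := ⟨hzH, hz⟩
    rw [hinf, Subgroup.mem_bot] at this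
    exact this
  rw [hz1, mul_one] at hxz
  exact hNP n hn (hxz ▸ hx)

end Cfsg.Agent.Lib.Helper74_RootD
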