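import Mathlib
import Cfsg.Prelude.Def_Characters
import Cfsg.Agent.Lib.Helper74_RootC
import Cfsg.Agent.Lib.Helper74_RootD
import Cfsg.Agent.Lib.Helper1_Cores

/-!
# Characters with values of modulus one on a normal subgroup, IV (helper74)

Exponent of the normal subgroup, and the Sylow subgroup.
-/

set_option autoImplicit false
set_option linter.unusedSectionVars false

namespace Cfsg.Agent.Lib.Helper74_RootE

open scoped ComplexConjugate Classical
open Cfsg
open Cfsg.Agent.Lib.Helper3_CharBridge Cfsg.Agent.Lib.Helper3_CharOrtho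
  Cfsg.Agent.Lib.Helper3_CharComplete Cfsg.Agent.Lib.Helper3_CharColumn
open Cfsg.Agent.Lib.Helper75_Induced Cfsg.Agent.Lib.Helper75_CharArith
  Cfsg.Agent.Lib.Helper75_IndChar Cfsg.Agent.Lib.Helper75_Clifford
open Cfsg.Agent.Lib.Helper74_LinAct Cfsg.Agent.Lib.Helper74_RootA Cfsg.Agent.Lib.Helper74_RootB
  Cfsg.Agent.Lib.Helper74_RootC
open Cfsg.Agent.Lib.Helper80_CharBasic

universe u

variable {G : Type u} [Group G]

theorem lin_one_eq (A : Type u) [Group A] : lin (1 : A →* ℂˣ) = oneIrr A := by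
  apply Subtype.ext
  funext a
  simp [oneIrr]

/-- the exponent of `N` is `p` -/
theorem exp_eq [Fintype G] (N : Subgroup G) (hN : N.Normal) [Fintype N] (hN1 : N ≠ ⊥)
    {χ : G → ℂ} (hχ : IsIrrCharacter G χ) (hfaith : ∀ g : G, χ g = χ 1 → g = 1)
    (hD : Data N hN χ) (p : ℕ) [hp : Fact p.Prime] (hNp : IsPGroup p N) :
    ∀ a : N, a ^ p = 1 := by
  -- the dual group
  have hfin : Finite (N →* ℂˣ) := Finite.of_injective _ (lin_injective (G := N))
  have hsurj : Function.Surjective (lin (G := N)) := fun ψ => by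
    obtain ⟨f, hf⟩ := exists_lin_of_one (hD.lin ψ)
    exact ⟨f, hf.symm⟩
  have hcard : Nat.card (N →* ℂˣ) = Nat.card N := by
    rw [Nat.card_congr (Equiv.ofBijective _ ⟨lin_injective (G := N), hsurj⟩),
      Nat.card_eq_fintype_card, hD.cardIrr]
  have hpN : p ∣ Nat.card N := by
    obtain ⟨k, hk⟩ := IsPGroup.iff_card.mp hNp
    rcases Nat.eq_zero_or_pos k with h0 | h0
    · rw [h0, pow_zero] at hk
      exact absurd (Subgroup.card_eq_one.mp hk) hN1
    · rw [hk]
      exact dvd_pow_self p h0.ne'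
  obtain ⟨lam, hlam⟩ := exists_prime_orderOf_dvd_card' (G := N →* ℂˣ) p (by rw [hcard]; exact hpN)
  have hlam1 : lam ≠ 1 := by
    intro h1
    rw [h1, orderOf_one] at hlam
    exact hp.out.one_lt.ne hlam
  have hlamp : lam ^ p = 1 := by rw [← hlam]; exact pow_orderOf_eq_one lam
  have hψ0 : lin lam ≠ oneIrr N := by
    rw [← lin_one_eq]
    exact fun h => hlam1 (lin_injective h)
  -- every irreducible character has `p`-th power one
  have hpow : ∀ (ψ : IrrCharacter N) (a : N), (ψ : N → ℂ) (a ^ p) = 1 := by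
    intro ψ a
    by_cases hψ : ψ = oneIrr N
    · rw [hψ]; rfl
    · obtain ⟨g, hg⟩ := hD.trans (lin lam) ψ hψ0 hψ
      rw [hg, conjFun_apply, lin_apply]
      have h1 : (⟨g * ((a ^ p : N) : G) * g⁻¹, hN.conj_mem _ (a ^ p).2 g⟩ : N) =
          (⟨g * (a : G) * g⁻¹, hN.conj_mem _ a.2 g⟩ : N) ^ p := by
        apply Subtype.ext
        show g * ((a ^ p : N) : G) * g⁻¹ =
          (((⟨g * (a : G) * g⁻¹, hN.conj_mem _ a.2 g⟩ : N) ^ p : N) : G)
        rw [Subgroup.coe_pow, Subgroup.coe_pow]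
        exact conj_pow.symm
      rw [h1, map_pow, ← MonoidHom.pow_apply, hlamp]
      simp
  intro a
  have h1 := classFunction_eq_sum (res N χ) (isClassFunction_res N (isClassFunction_of_isIrrCharacter hχ))
  have h2 : res N χ (a ^ p) = res N χ 1 := by
    rw [h1, Finset.sum_apply, Finset.sum_apply]
    apply Finset.sum_congr rfl
    intro ψ _
    rw [Pi.smul_apply, Pi.smul_apply, hpow ψ a, hD.lin ψ]
  rw [res_apply, res_apply] at h2
  have h3 := hfaith _ h2
  exact Subtype.ext h3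

theorem sylow_arith (p a c m n : ℕ) (hp : p.Prime) (hc : 0 < c) (hn : n + 1 = p ^ a)
    (hn2 : 2 ≤ n) (hm : m * p ^ (a + c) + 1 = n ^ 2 + p ^ (a + c)) :
    p = 2 ∧ c = 1 ∧ m * 2 = p ^ a := by
  have ha : 0 < a := by
    rcases Nat.eq_zero_or_pos a with h0 | h0
    · rw [h0, pow_zero] at hn
      omega
    · exact h0
  have hpa : 0 < p ^ a := pow_pos hp.pos a
  -- `n² + 2 pᵃ = p²ᵃ + 1`
  have h1 : n ^ 2 + 2 * p ^ a = p ^ a * p ^ a + 1 := by
    rw [← hn]; ring
  have h2 : p ^ a * (m * p ^ c + 2) = p ^ a * (p ^ a + p ^ c) := by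
    have h3 : p ^ (a + c) = p ^ a * p ^ c := pow_add p a c
    rw [h3] at hm
    nlinarith
  have h3 : m * p ^ c + 2 = p ^ a + p ^ c := Nat.eq_of_mul_eq_mul_left hpa h2
  have hpc : p ∣ p ^ c := dvd_pow_self p hc.ne'
  have hpa' : p ∣ p ^ a := dvd_pow_self p ha.ne'
  have hp2 : p ∣ 2 := by
    have h4 : p ∣ m * p ^ c + 2 := by
      rw [h3]; exact Dvd.dvd.add hpa' hpc
    exact (Nat.dvd_add_right (Dvd.dvd.mul_left hpc m)).mp h4
  have hp_eq : p = 2 := (Nat.prime_dvd_prime_iff_eq hp Nat.prime_two).mp hp2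
  subst hp_eq
  have ha2 : 2 ≤ a := by
    by_contra hlt
    have : a = 1 := by omega
    rw [this] at hn
    omega
  have hc1 : c = 1 := by
    by_contra hne
    have hc2 : 2 ≤ c := by omega
    obtain ⟨c', rfl⟩ : ∃ c', c = c' + 2 := ⟨c - 2, by omega⟩
    obtain ⟨a', rfl⟩ : ∃ a', a = a' + 2 := ⟨a - 2, by omega⟩
    have e1 : 2 ^ (c' + 2) = 4 * 2 ^ c' := by ring
    have e2 : 2 ^ (a' + 2) = 4 * 2 ^ a' := by ring
    rw [e1, e2] at h3
    have e3 : m * (4 * 2 ^ c') = 4 * (m * 2 ^ c') := by ring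
    rw [e3] at h3
    omega
  subst hc1
  refine ⟨rfl, rfl, ?_⟩
  omega

/-- **The Sylow subgroup.** If `N` is not a Sylow `p`-subgroup then `p = 2`, `|N| = 4` and the
Sylow `2`-subgroups have order `8`. -/
theorem sylow_case [Fintype G] (N : Subgroup G) (hN : N.Normal) [Fintype N] (hN1 : N ≠ ⊥)
    {χ : G → ℂ} (hχ : IsIrrCharacter G χ) (hfaith : ∀ g : G, χ g = χ 1 → g = 1)
    (hnl : χ 1 ≠ 1) (hD : Data N hN χ) (p : ℕ) [hp : Fact p.Prime] (hNp : IsPGroup p N)
    (hroot : ∀ g : G, p ∣ orderOf g → χ g * conj (χ g) = 1) (Q : Sylow p G)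
    (hNQ : N ≤ Q) (hne : N ≠ Q) :
    p = 2 ∧ Nat.card N = 4 ∧ Nat.card (Q : Subgroup G) = 8 := by
  have hQfin : Fintype (Q : Subgroup G) := Fintype.ofFinite _
  obtain ⟨n, hnpos, hn⟩ := irr_one_eq_natCast hχ
  have hn1 : n ≠ 1 := by
    rintro rfl
    exact hnl (by rw [hn]; simp)
  have hnN : n + 1 = Nat.card N := by
    have := hD.deg
    rw [hn] at this
    exact_mod_cast this
  -- values on `Q`
  have hnormQ : ∀ y : (Q : Subgroup G), y ≠ 1 → χ y * conj (χ y) = 1 := by
    intro y hy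
    apply hroot
    obtain ⟨k, hk⟩ := Q.2 y
    have hk' : (y : G) ^ p ^ k = 1 := by
      have := congrArg Subtype.val hk
      simpa using this
    exact dvd_orderOf_of_pgroup (fun h => hy (Subtype.ext h)) hk'
  have hsumQ := sum_norm_res (Q : Subgroup G) n hn hnormQ
  set φ : ↥(Q : Subgroup G) → ℂ := res (Q : Subgroup G) χ with hφdef
  have hφ : IsCharacter (Q : Subgroup G) φ := isCharacter_res _ (isCharacter_of_isIrrCharacter hχ)
  obtain ⟨m, hm⟩ := classInner_isCharacter_nat hφ hφ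
  have hmQ : n ^ 2 + (Nat.card (Q : Subgroup G) - 1) = Nat.card (Q : Subgroup G) * m := by
    have h1 := hm
    unfold classInner at h1
    have h4 : ∑ g : (Q : Subgroup G), φ g * conj (φ g) =
        ∑ x : (Q : Subgroup G), χ x * conj (χ x) := rfl
    rw [h4, hsumQ] at h1
    have hQ0 : (Nat.card (Q : Subgroup G) : ℂ) ≠ 0 := by
      rw [Nat.cast_ne_zero]; exact Nat.card_pos.ne'
    rw [inv_mul_eq_iff_eq_mul₀ hQ0] at h1
    exact_mod_cast h1
  -- orders
  obtain ⟨a, ha⟩ := IsPGroup.iff_card.mp hNp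
  obtain ⟨b, hb⟩ := IsPGroup.iff_card.mp Q.2
  have hlt : Nat.card N < Nat.card (Q : Subgroup G) := by
    have hle : Nat.card N ≤ Nat.card (Q : Subgroup G) := Subgroup.card_le_of_le hNQ
    rcases Nat.lt_or_ge (Nat.card N) (Nat.card (Q : Subgroup G)) with h | h
    · exact h
    · exact absurd (Subgroup.eq_of_le_of_card_ge hNQ h) hne
  have hab : a < b := by
    rw [ha, hb] at hlt
    exact (Nat.pow_lt_pow_iff_right hp.out.one_lt).mp hlt
  obtain ⟨c, hc⟩ : ∃ c, b = a + c := ⟨b - a, by omega⟩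
  have hcpos : 0 < c := by omega
  have hQpos : 0 < Nat.card (Q : Subgroup G) := Nat.card_pos
  have harith := sylow_arith p a c m n hp.out hcpos (by rw [hnN, ha]) (by omega) (by
    rw [← hc, ← hb, mul_comm]
    omega)
  obtain ⟨hp2, hc1, hm2⟩ := harith
  subst hp2
  subst hc1
  -- transport to the subgroup of `Q`
  set N' : Subgroup (Q : Subgroup G) := N.subgroupOf (Q : Subgroup G) with hN'def
  have hN'n : N'.Normal := inferInstance
  have hN'fin : Fintype N' := Fintype.ofFinite _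
  let e : N' ≃* N := Subgroup.subgroupOfEquivOfLe hNQ
  have hcardN' : Nat.card N' = Nat.card N := Nat.card_congr e.toEquiv
  have hidx : N'.index = 2 := by
    have h1 := Subgroup.index_mul_card N'
    rw [hcardN', ha, hb, hc, pow_succ] at h1
    have hpos : 0 < 2 ^ a := pow_pos (by norm_num) a
    have h2 : N'.index * 2 ^ a = 2 * 2 ^ a := by rw [h1]; ring
    exact Nat.eq_of_mul_eq_mul_right hpos h2
  have hcomm' : ∀ x y : N', x * y = y * x := by
    intro x y
    apply e.injective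
    rw [map_mul, map_mul, hD.comm]
  have hexp := exp_eq N hN hN1 hχ hfaith hD 2 hNp
  have hexp' : ∀ x : N', x * x = 1 := by
    intro x
    apply e.injective
    rw [map_mul, map_one, ← pow_two]
    exact hexp (e x)
  have hmult' : ∀ ψ : IrrCharacter N', classInner (res N' φ) (ψ : N' → ℂ) =
      if ψ = oneIrr N' then 0 else 1 := by
    intro ψ
    let ψ₀ : IrrCharacter N := ⟨fun x => (ψ : N' → ℂ) (e.symm x),
      isIrrCharacter_comp_equiv e.symm ψ.2⟩
    have h1 := classInner_comp_equiv e (res N χ) (ψ₀ : N → ℂ)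
    have h2 : (fun k : N' => res N χ (e k)) = res N' φ := rfl
    have h3 : (fun k : N' => (ψ₀ : N → ℂ) (e k)) = (ψ : N' → ℂ) := by
      funext k
      show (ψ : N' → ℂ) (e.symm (e k)) = (ψ : N' → ℂ) k
      rw [MulEquiv.symm_apply_apply]
    rw [h2, h3] at h1
    rw [h1, hD.mult ψ₀]
    have h4 : ψ₀ = oneIrr N ↔ ψ = oneIrr N' := by
      constructor
      · intro h
        apply Subtype.ext
        funext k
        have := congrFun (congrArg Subtype.val h) (e k)
        rw [← h3]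
        exact this
      · intro h
        apply Subtype.ext
        funext x
        show (ψ : N' → ℂ) (e.symm x) = 1
        rw [h]
        rfl
    by_cases h5 : ψ = oneIrr N'
    · rw [if_pos h5, if_pos (h4.mpr h5)]
    · rw [if_neg h5, if_neg (fun h => h5 (h4.mp h))]
  have hdeg' : φ 1 + 1 = (Nat.card N' : ℂ) := by
    have h1 : φ 1 = χ 1 := rfl
    rw [h1, hcardN', hD.deg]
  have hnorm' : classInner φ φ * 2 = (Nat.card N' : ℂ) := by
    rw [hm, hcardN', ha]
    exact_mod_cast hm2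
  have hlt8 := card_lt_eight N' hN'n hidx hcomm' hexp' hφ hmult' hdeg' hnorm'
  rw [hcardN', ha] at hlt8
  have ha2 : a = 2 := by
    have h3 : 3 ≤ 2 ^ a := by rw [← ha, ← hnN]; omega
    have h4 : a < 3 := by
      by_contra hge
      push Not at hge
      have : 2 ^ 3 ≤ 2 ^ a := Nat.pow_le_pow_right (by norm_num) hge
      omega
    interval_cases a <;> simp_all
  subst ha2
  refine ⟨rfl, by rw [ha]; norm_num, by rw [hb, hc]; norm_num⟩

end Cfsg.Agent.Lib.Helper74_RootE
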