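import Mathlib
import Cfsg.Prelude.Def_Characters
import Cfsg.Prelude.Def_Blocks
import Cfsg.Prelude.Def_Local
import Cfsg.Prelude.Def_Solvable
import Cfsg.Agent.Lib.Helper75_Clifford
import Cfsg.Agent.Lib.Helper75_CharArith
import Cfsg.Agent.Lib.Helper54_S4472_SETUPaux
import Cfsg.Agent.Lib.Helper54_S4472_KER
import Cfsg.Agent.Lib.Helper61_S4472_TGRP
import Cfsg.Agent.Lib.Helper61_S4472_CRT
import Cfsg.Agent.Lib.Helper74_S4472_Aux
import Cfsg.Agent.Lib.Helper74_S4472_Key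
import Cfsg.Agent.Lib.Helper76_SchurBound
import Cfsg.Agent.Lib.Helper74_HallChar

/-!
# S4472 (architect helper74): the assembly

`G` finite `p`-solvable with a faithful character of degree `n`; then
`v_p [G : O_p(G)] ≤ ∑_{i ≤ n} n / ((p - 1) p ^ i)`.
See `pending/helper74/S4472_packages.lean.txt` for the paper proof.
-/

set_option autoImplicit false
open Cfsg Cfsg.Agent.Lib.Helper75_Clifford

universe u

namespace Cfsg.Agent.Lib.Helper74_S4472_Final


open Cfsg.Agent.Lib.Helper76_SchurBound in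
/-- Schur's bound for a power-invariant character of a `p`-group whose kernel lies in `K`
(own copy of the package PBOUND). -/
theorem pbound {P : Type u} [Group P] [Finite P] (p : ℕ) (hp : p.Prime) (hP : IsPGroup p P)
    (ψ : P → ℂ) (hψ : Cfsg.IsCharacter P ψ) (n : ℕ) (hn : ψ 1 = n)
    (hpow : ∀ x : P, ∀ m : ℕ, m.Coprime p → ψ (x ^ m) = ψ x)
    (K : Subgroup P) (hK : ∀ x : P, ψ x = ψ 1 → x ∈ K) :
    K.index.factorization p ≤ ∑ i ∈ Finset.range (n + 1), n / ((p - 1) * p ^ i) := by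
  classical
  have : Fact p.Prime := ⟨hp⟩
  obtain ⟨K₀, hK₀n, ψb, hψb, hmk, hmem, hfaith⟩ :=
    Cfsg.Agent.Lib.Helper74_HallChar.exists_quot_faithful hψ
  have hK₀K : K₀ ≤ K := fun x hx => hK x ((hmem x).mp hx)
  obtain ⟨n', ρ, hρ⟩ := hψb
  have hfin : Module.finrank ℂ (Fin n' → ℂ) = n' := Module.finrank_fin_fun ℂ
  have h1 : ρ.character 1 = n' := by rw [Representation.char_one, hfin]
  have hn' : n' = n := by
    have h2 : ψb 1 = n := by
      have := hmk 1
      rw [QuotientGroup.mk_one] at this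
      rw [this, hn]
    rw [← hρ, h1] at h2
    exact_mod_cast h2
  subst hn'
  have hPq : IsPGroup p (P ⧸ K₀) := hP.to_quotient K₀
  obtain ⟨a', ha'⟩ := IsPGroup.iff_card.mp hPq
  have hcardtop : Nat.card (⊤ : Subgroup (P ⧸ K₀)) = p ^ a' := by
    rw [Subgroup.card_top, ha']
  have hb := schur_bound p hp ρ (⊤ : Subgroup (P ⧸ K₀)) a' hcardtop
    (fun x _ hx => hfaith x (by rw [← hρ, hx, h1]))
    (fun x _ m hm => by
      induction x using QuotientGroup.induction_on with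
      | H g =>
        rw [hρ, ← QuotientGroup.mk_pow, hmk, hmk]
        exact hpow g m hm)
  -- the index of `K`
  have hidx : K.index ∣ p ^ a' := by
    have h3 : K.index ∣ K₀.index := Subgroup.index_dvd_of_le hK₀K
    have h4 : K₀.index = p ^ a' := by rw [Subgroup.index_eq_card, ha']
    rw [h4] at h3
    exact h3
  obtain ⟨b, hb', hKb⟩ := (Nat.dvd_prime_pow hp).mp hidx
  rw [hKb, Nat.Prime.factorization_pow hp]
  simp only [Finsupp.single_eq_same]
  refine (hb'.trans hb).trans (le_of_eq ?_)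
  have hlog : Nat.log p (n' / (p - 1)) < n' + 1 :=
    Nat.lt_succ_of_le ((Nat.log_le_self _ _).trans (Nat.div_le_self _ _))
  rw [Nat.factorization_factorial hp hlog, Finset.range_eq_Ico,
    Finset.sum_eq_sum_Ico_succ_bot (Nat.succ_pos n')]
  congr 1
  · simp
  · refine Finset.sum_congr rfl (fun i _ => ?_)
    rw [Nat.div_div_eq_div_mul]

theorem final_of_pbound {G : Type u} [Group G] [Finite G] (χ : G → ℂ) (hχ : Cfsg.IsCharacter G χ)
    (hfaith : ∀ g : G, χ g = χ 1 → g = 1) (n : ℕ) (hn : Cfsg.charDegree χ = n) (p : ℕ)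
    (hp : p.Prime) (hsolv : Cfsg.IsPSolvable p G)
    (pbound : ∀ {P : Type u} [Group P] [Finite P] (p : ℕ) (_ : p.Prime) (_ : IsPGroup p P)
      (ψ : P → ℂ) (_ : Cfsg.IsCharacter P ψ) (n : ℕ) (_ : ψ 1 = n)
      (_ : ∀ x : P, ∀ m : ℕ, m.Coprime p → ψ (x ^ m) = ψ x)
      (K : Subgroup P) (_ : ∀ x : P, ψ x = ψ 1 → x ∈ K),
      K.index.factorization p ≤ ∑ i ∈ Finset.range (n + 1), n / ((p - 1) * p ^ i)) :
    ((Cfsg.pCore p G).index).factorization p ≤
      ∑ i ∈ Finset.range (n + 1), n / ((p - 1) * p ^ i) := by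
  classical
  have : Fact p.Prime := ⟨hp⟩
  have hχcl : Cfsg.IsClassFunction G χ :=
    Cfsg.Agent.Lib.Helper3_CharBridge.isClassFunction_of_isCharacter hχ
  -- degree
  have hχ1 : χ 1 = n := by
    obtain ⟨n', ρ, rfl⟩ := hχ
    have hfin : Module.finrank ℂ (Fin n' → ℂ) = n' := Module.finrank_fin_fun ℂ
    have h1 : ρ.character 1 = n' := by rw [Representation.char_one, hfin]
    have hn' : n' = n := by
      rw [← hn]; unfold Cfsg.charDegree; rw [h1]; simp
    rw [h1, hn']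
  obtain ⟨Q, P, hQ, hP, hPQ, hcent, hidx⟩ := Cfsg.Agent.Lib.Helper54_S4472_SETUPaux.setup_aux p hsolv
    (fun K R Q _ _ hRK hQK hs hc hQ g =>
      Cfsg.Agent.Lib.Helper74_S4472_Aux.hall_frattini K R Q hRK hQK hs hc hQ g)
  set T : Subgroup G := Q ⊔ P with hT
  have hQn : (Q.subgroupOf T).Normal := Cfsg.Agent.Lib.Helper61_S4472_TGRP.tgrp_normal Q P hPQ
  obtain ⟨hsolvT, hcopT, e, hcardT⟩ := Cfsg.Agent.Lib.Helper61_S4472_TGRP.tgrp p Q P hQ hP
  have hQT : Q ≤ T := le_sup_left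
  have hPT : P ≤ T := le_sup_right
  have hcardQ' : Nat.card (Q.subgroupOf T) = Nat.card Q :=
    Nat.card_congr (Subgroup.subgroupOfEquivOfLe hQT).toEquiv
  -- the character of `Q.subgroupOf T`
  let ι : (Q.subgroupOf T) →* G := T.subtype.comp (Q.subgroupOf T).subtype
  set ξ : (Q.subgroupOf T) → ℂ := fun q => χ ((q : T) : G) with hξ
  have hξc : Cfsg.IsCharacter (Q.subgroupOf T) ξ :=
    Cfsg.Agent.Lib.Helper75_CharArith.isCharacter_comp ι hχ
  have hξinv : ∀ t : T, Cfsg.Agent.Lib.Helper75_Clifford.conjFun (Q.subgroupOf T) hQn ξ t = ξ := by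
    intro t
    funext q
    rw [Cfsg.Agent.Lib.Helper75_Clifford.conjFun_apply]
    show χ (((t : T) * (q : T) * (t : T)⁻¹ : T) : G) = χ ((q : T) : G)
    push_cast
    exact hχcl _ _
  obtain ⟨ψ, hψc, hψres, hψpow⟩ := Cfsg.Agent.Lib.Helper74_S4472_Key.key (Q.subgroupOf T) hsolvT hcopT ξ hξc hξinv
  -- restrict to `P`
  let j : P →* T := Subgroup.inclusion hPT
  set ψ₁ : P → ℂ := fun x => ψ (j x) with hψ₁
  have hψ₁c : Cfsg.IsCharacter P ψ₁ := Cfsg.Agent.Lib.Helper75_CharArith.isCharacter_comp j hψc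
  have hψ1 : ψ 1 = n := by
    have := hψres 1
    rw [Subgroup.coe_one] at this
    rw [this, hξ]
    show χ (((1 : Q.subgroupOf T) : T) : G) = n
    rw [Subgroup.coe_one, Subgroup.coe_one, hχ1]
  have hψ₁1 : ψ₁ 1 = n := by
    show ψ (j 1) = n
    rw [map_one, hψ1]
  -- power invariance on `P`
  have hpowP : ∀ x : P, ∀ m : ℕ, m.Coprime p → ψ₁ (x ^ m) = ψ₁ x := by
    intro x m hm
    obtain ⟨e', he'⟩ := (IsPGroup.iff_card.mp hP)
    obtain ⟨k, hk1, hk2, hk3⟩ := Cfsg.Agent.Lib.Helper61_S4472_CRT.crt p hp (Nat.card Q) (max e e') m hQ hm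
    have hxk : x ^ k = x ^ m := by
      have hord : orderOf x ∣ p ^ (max e e') := by
        have h1 : orderOf x ∣ Nat.card P := orderOf_dvd_natCard x
        rw [he'] at h1
        exact h1.trans (pow_dvd_pow p (le_max_right e e'))
      exact pow_eq_pow_iff_modEq.mpr (hk1.of_dvd hord)
    have hkT : k.Coprime (Nat.card T) := by
      rw [hcardT]
      have : Nat.card Q * p ^ e ∣ Nat.card Q * p ^ (max e e') :=
        Nat.mul_dvd_mul_left _ (pow_dvd_pow p (le_max_left e e'))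
      exact Nat.Coprime.coprime_dvd_right this hk3
    show ψ (j (x ^ m)) = ψ (j x)
    rw [← hxk, map_pow, hψpow k hkT (by rw [hcardQ']; exact hk2)]
  -- the kernel lies in `O_p(G)`
  have hfaithQ : ∀ q : Q.subgroupOf T, ψ q = ψ 1 → q = 1 := by
    intro q hq
    rw [hψres q, hψ1, ← hχ1] at hq
    have := hfaith _ hq
    apply Subtype.ext
    apply Subtype.ext
    rw [this]; rfl
  have hK : ∀ x : P, ψ₁ x = ψ₁ 1 → x ∈ (Cfsg.pCore p G).subgroupOf P := by
    intro x hx
    rw [Subgroup.mem_subgroupOf]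
    apply hcent _ x.2
    intro y hy
    have hx' : ψ (j x) = ψ 1 := by
      have : ψ₁ 1 = ψ 1 := by show ψ (j 1) = ψ 1; rw [map_one]
      rw [← this]; exact hx
    have := Cfsg.Agent.Lib.Helper54_S4472_KER.ker_centralizes (Q.subgroupOf T) ψ hψc hfaithQ (j x) hx'
      ⟨⟨y, hQT hy⟩, Subgroup.mem_subgroupOf.mpr hy⟩
    have h2 := congrArg (Subtype.val : T → G) this
    simpa [j] using h2
  have hb := pbound p hp hP ψ₁ hψ₁c n hψ₁1 hpowP ((Cfsg.pCore p G).subgroupOf P) hK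
  have hidx' : ((Cfsg.pCore p G).subgroupOf P).index =
      p ^ ((Cfsg.pCore p G).index.factorization p) := hidx
  rw [hidx', Nat.Prime.factorization_pow hp] at hb
  simpa using hb

/-- **S4472**: the `p`-part of `[G : O_p(G)]` for a `p`-solvable linear group of degree `n`. -/
theorem final {G : Type u} [Group G] [Finite G] (χ : G → ℂ) (hχ : Cfsg.IsCharacter G χ)
    (hfaith : ∀ g : G, χ g = χ 1 → g = 1) (n : ℕ) (hn : Cfsg.charDegree χ = n) (p : ℕ)
    (hp : p.Prime) (hsolv : Cfsg.IsPSolvable p G) :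
    ((Cfsg.pCore p G).index).factorization p ≤
      ∑ i ∈ Finset.range (n + 1), n / ((p - 1) * p ^ i) :=
  final_of_pbound χ hχ hfaith n hn p hp hsolv
    (fun p hp hP ψ hψ n hn hpow K hK => pbound p hp hP ψ hψ n hn hpow K hK)

end Cfsg.Agent.Lib.Helper74_S4472_Final
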