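import Mathlib
import Cfsg.Prelude.Def_Characters
import Cfsg.Agent.Lib.Helper75_Clifford
import Cfsg.Agent.Lib.Helper75_CanonExt
import Cfsg.Agent.Lib.Helper75_IndChar
import Cfsg.Agent.Lib.Helper75_AbelianInertia2
import Cfsg.Agent.Lib.Helper17_MultFree

/-!
# S4472 market (architect helper74): package STEP

`N ⊴ T` a normal Hall subgroup with solvable quotient, `θ ∈ Irr N`.  Then the character `φ` of `T`
induced from the canonical extension of `θ` to its inertia group is irreducible, invariant under
the power maps `x ↦ x ^ k` (`k` coprime to `|T|`, `k ≡ 1 mod |N|`), and `[φ|_N, θ] = 1`.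
The invariance of induced functions under power maps enters as the hypothesis `hind`
(package INDPOW).
-/

set_option autoImplicit false
open Cfsg Cfsg.Agent.Lib.Helper75_Clifford
open scoped ComplexConjugate

universe u

namespace Cfsg.Agent.Lib.Helper74_S4472_STEP

open Cfsg.Agent.Lib.Helper3_CharBridge Cfsg.Agent.Lib.Helper3_CharOrtho
  Cfsg.Agent.Lib.Helper75_Induced Cfsg.Agent.Lib.Helper75_CharArith
  Cfsg.Agent.Lib.Helper75_IndChar

/-- A subgroup `S` of `T` has solvable image in a solvable quotient `T ⧸ N`. -/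
theorem isSolvable_quotient_subgroupOf {T : Type*} [Group T] (N S : Subgroup T) [hN : N.Normal]
    (hsolv : Group.IsSolvable (T ⧸ N)) : Group.IsSolvable (S ⧸ N.subgroupOf S) := by
  let f : S →* T ⧸ N := (QuotientGroup.mk' N).comp S.subtype
  have hker : N.subgroupOf S ≤ f.ker := by
    intro x hx
    rw [MonoidHom.mem_ker]
    show ((x : T) : T ⧸ N) = 1
    rw [QuotientGroup.eq_one_iff]
    exact Subgroup.mem_subgroupOf.mp hx
  let F : S ⧸ N.subgroupOf S →* T ⧸ N := QuotientGroup.lift (N.subgroupOf S) f hker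
  have hinj : Function.Injective F := by
    rw [injective_iff_map_eq_one]
    intro a ha
    induction a using QuotientGroup.induction_on with
    | H x =>
      have h1 : ((x : T) : T ⧸ N) = 1 := ha
      rw [QuotientGroup.eq_one_iff] at h1
      rw [QuotientGroup.eq_one_iff]
      exact Subgroup.mem_subgroupOf.mpr h1
  have := hsolv
  exact Group.isSolvable_of_isSolvable_injective hinj

/-- The version of STEP with the power-map invariance of induced functions as a hypothesis. -/
theorem step_of_ind {T : Type u} [Group T] [Fintype T] (N : Subgroup T) [hN : N.Normal]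
    [Fintype N]
    (hind : ∀ (S : Subgroup T) (f : S → ℂ) (k : ℕ), k.Coprime (Nat.card T) →
      (∀ s : S, f (s ^ k) = f s) → ∀ x : T, Cfsg.indFun S f (x ^ k) = Cfsg.indFun S f x)
    (hsolv : Group.IsSolvable (T ⧸ N)) (hcop : (Nat.card N).Coprime N.index)
    (θ : N → ℂ) (hθ : Cfsg.IsIrrCharacter N θ) :
    ∃ φ : T → ℂ, Cfsg.IsIrrCharacter T φ ∧
      (∀ k : ℕ, k.Coprime (Nat.card T) → k ≡ 1 [MOD Nat.card N] → ∀ x : T, φ (x ^ k) = φ x) ∧
      Cfsg.classInner (res N φ) θ = 1 := by
  classical
  set S : Subgroup T := Cfsg.Agent.Lib.Helper17_MultFree.inertia N hN θ with hSdef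
  have hS : ∀ g : T, g ∈ S ↔ conjFun N hN θ g = θ := fun g => Iff.rfl
  have hNS : N ≤ S := Cfsg.Agent.Lib.Helper75_AbelianInertia2.le_inertia N S hN
    (isClassFunction_of_isIrrCharacter hθ) hS
  have : Fintype S := Fintype.ofFinite S
  have : Fintype (N.subgroupOf S) := Fintype.ofFinite _
  have hN' : (N.subgroupOf S).Normal := inferInstance
  set θ' := resSubgroupOf N S θ with hθ'def
  have hθ' : Cfsg.IsIrrCharacter (N.subgroupOf S) θ' := isIrrCharacter_resSubgroupOf N S hNS hθ
  have hinv' : ∀ t : S, conjFun (N.subgroupOf S) hN' θ' t = θ' :=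
    conjFun_resSubgroupOf N S hN hN' θ hS
  have hsolvS : Group.IsSolvable (S ⧸ N.subgroupOf S) := isSolvable_quotient_subgroupOf N S hsolv
  have hcard : Nat.card (N.subgroupOf S) = Nat.card N :=
    Nat.card_congr (Subgroup.subgroupOfEquivOfLe hNS).toEquiv
  have hidx : (N.subgroupOf S).index ∣ N.index := Subgroup.relIndex_dvd_index_of_normal N S
  have hcopS : (Nat.card (N.subgroupOf S)).Coprime (N.subgroupOf S).index := by
    rw [hcard]
    exact Nat.Coprime.coprime_dvd_right hidx hcop
  obtain ⟨θh, hθh, hres, hdet⟩ :=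
    Cfsg.Agent.Lib.Helper75_CanonExt.exists_canonical_extension (N.subgroupOf S) hsolvS hcopS θ' hθ'
      (fun g n => by
        have := congrFun (hinv' g) n
        rw [conjFun_apply] at this
        exact this)
  have hresfun : (fun n : N.subgroupOf S => θh n) = θ' := funext hres
  have hθhc : Cfsg.IsCharacter S θh := isCharacter_of_isIrrCharacter hθh
  have hθhcl : Cfsg.IsClassFunction S θh := isClassFunction_of_isIrrCharacter hθh
  -- power invariance of the canonical extension
  have hdord : (Cfsg.detOrder θh).Coprime (N.subgroupOf S).index := by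
    unfold Cfsg.detOrder
    exact Nat.Coprime.coprime_dvd_left (orderOf_dvd_of_pow_eq_one hdet) hcopS
  have hpowS : ∀ k : ℕ, k.Coprime (Nat.card T) → k ≡ 1 [MOD Nat.card N] →
      ∀ s : S, θh (s ^ k) = θh s := by
    intro k hk hk1 s
    have hkS : k.Coprime (Nat.card S) :=
      Nat.Coprime.coprime_dvd_right (Subgroup.card_subgroup_dvd_card S) hk
    exact Cfsg.Agent.Lib.Helper75_CanonExt.canonical_powMap (N.subgroupOf S) hcopS hθh
      (by rw [hresfun]; exact hθ') hdord k hkS (by rw [hcard]; exact hk1) s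
  -- the induced character
  set φ : T → ℂ := Cfsg.indFun S θh with hφdef
  have hφc : Cfsg.IsCharacter T φ := isCharacter_indFun S hθhc
  -- multiplicity of `θh` in the character induced from `θ'`
  have hm1 : Cfsg.classInner (Cfsg.indFun (N.subgroupOf S) θ') θh = 1 := by
    rw [frobenius_reciprocity (N.subgroupOf S) θ' θh hθhcl, hresfun,
      classInner_self_of_isIrrCharacter hθ']
  have core := corr_core N S hN hNS hθ hS ⟨θh, hθh⟩ (by rw [hm1]; exact one_ne_zero)
  have hφirr : Cfsg.IsIrrCharacter T φ := isIrrCharacter_of_classInner_self hφc core.1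
  refine ⟨φ, hφirr, ?_, ?_⟩
  · intro k hk hk1 x
    exact hind S θh k hk (hpowS k hk hk1) x
  · -- `[Ind_N^T θ, φ] = 1`
    obtain ⟨m, hm, hΦ⟩ := exists_mult_decomp N S hNS hθ
    have hφcl : Cfsg.IsClassFunction T φ := isClassFunction_of_isIrrCharacter hφirr
    have h3 : Cfsg.classInner (Cfsg.indFun N θ) φ =
        ∑ ξ : Cfsg.IrrCharacter S, (m ξ : ℂ) * Cfsg.classInner (Cfsg.indFun S (ξ : S → ℂ)) φ := by
      rw [hΦ, classInner_sum_left]
      apply Finset.sum_congr rfl
      intro ξ _
      rw [classInner_smul_left]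
    have hmθh : (m ⟨θh, hθh⟩ : ℂ) = 1 := by rw [← hm ⟨θh, hθh⟩]; exact hm1
    have h4 : Cfsg.classInner (Cfsg.indFun N θ) φ = 1 := by
      rw [h3, Finset.sum_eq_single (⟨θh, hθh⟩ : Cfsg.IrrCharacter S)]
      · rw [hmθh, one_mul]
        exact core.1
      · intro ξ' _ hne
        by_cases h0 : m ξ' = 0
        · rw [h0, Nat.cast_zero, zero_mul]
        · have hξ'' : Cfsg.classInner (Cfsg.indFun (N.subgroupOf S) (resSubgroupOf N S θ)) ξ' ≠ 0 := by
            rw [hm ξ']
            exact_mod_cast h0
          have := core.2 ξ' hne hξ''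
          rw [← classInner_conj_symm, this, map_zero, mul_zero]
      · intro h; exact absurd (Finset.mem_univ _) h
    have h5 := frobenius_reciprocity N θ φ hφcl
    rw [h4] at h5
    have h6 : Cfsg.classInner (res N φ) θ = conj (Cfsg.classInner θ (res N φ)) :=
      (classInner_conj_symm _ _).symm
    rw [h6]
    have h7 : Cfsg.classInner θ (res N φ) = 1 := h5.symm
    rw [h7, map_one]

/-- In a finite group, `z ^ k ∈ S` with `k` coprime to the group order forces `z ∈ S`. -/
theorem mem_of_pow_mem {T : Type*} [Group T] [Finite T] (S : Subgroup T) (k : ℕ)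
    (hk : k.Coprime (Nat.card T)) (z : T) (hz : z ^ k ∈ S) : z ∈ S := by
  have hko : k.Coprime (orderOf z) :=
    Nat.Coprime.coprime_dvd_right (orderOf_dvd_natCard z) hk
  obtain ⟨l, hl⟩ := exists_pow_eq_self_of_coprime hko
  rw [← hl]
  exact S.pow_mem hz l

/-- Induced functions inherit invariance under power maps (own copy of package INDPOW). -/
theorem indFun_pow' {T : Type*} [Group T] [Fintype T] (S : Subgroup T) (f : S → ℂ) (k : ℕ)
    (hk : k.Coprime (Nat.card T)) (hf : ∀ s : S, f (s ^ k) = f s) (x : T) :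
    Cfsg.indFun S f (x ^ k) = Cfsg.indFun S f x := by
  rw [indFun_apply, indFun_apply]
  congr 1
  apply Finset.sum_congr rfl
  intro y _
  have hconj : y⁻¹ * x ^ k * y = (y⁻¹ * x * y) ^ k := by
    have := conj_pow (a := y⁻¹) (i := k) (b := x)
    rw [inv_inv] at this
    exact this.symm
  rw [hconj]
  by_cases hz : y⁻¹ * x * y ∈ S
  · rw [extendByZero_of_mem S f hz, extendByZero_of_mem S f (S.pow_mem hz k)]
    exact hf ⟨_, hz⟩
  · rw [extendByZero_of_not_mem S f hz, extendByZero_of_not_mem S f]
    intro h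
    exact hz (mem_of_pow_mem S k hk _ h)

/-- **STEP.** -/
theorem step {T : Type u} [Group T] [Fintype T] (N : Subgroup T) [hN : N.Normal] [Fintype N]
    (hsolv : Group.IsSolvable (T ⧸ N)) (hcop : (Nat.card N).Coprime N.index)
    (θ : N → ℂ) (hθ : Cfsg.IsIrrCharacter N θ) :
    ∃ φ : T → ℂ, Cfsg.IsIrrCharacter T φ ∧
      (∀ k : ℕ, k.Coprime (Nat.card T) → k ≡ 1 [MOD Nat.card N] → ∀ x : T, φ (x ^ k) = φ x) ∧
      Cfsg.classInner (res N φ) θ = 1 :=
  step_of_ind N (fun S f k hk hf x => indFun_pow' S f k hk hf x) hsolv hcop θ hθ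

end Cfsg.Agent.Lib.Helper74_S4472_STEP
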