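import Mathlib
import Cfsg.Prelude.Def_Characters
import Cfsg.Agent.Lib.Helper75_Clifford
import Cfsg.Agent.Lib.Helper74_S4472_STEP
import Cfsg.Agent.Lib.Helper42_S4472_SUB
import Cfsg.Agent.Lib.Helper80_CharBasic

/-!
# S4472 market (architect helper74): own copy of the package KEY

`N ⊴ T` a normal Hall subgroup with solvable quotient, `ξ` a `T`-invariant character of `N`.  Then
`ξ` extends to a character `ψ` of `T` invariant under the power maps `x ↦ x ^ k` for `k` coprime to
`|T|`, `k ≡ 1 mod |N|`.  Strong induction on the degree from STEP and SUB.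
-/

set_option autoImplicit false
open Cfsg Cfsg.Agent.Lib.Helper75_Clifford

universe u

namespace Cfsg.Agent.Lib.Helper74_S4472_Key

open Cfsg.Agent.Lib.Helper3_CharBridge Cfsg.Agent.Lib.Helper3_CharOrtho
  Cfsg.Agent.Lib.Helper75_CharArith

/-- the degree of a character is a natural number -/
theorem char_one_nat {X : Type*} [Group X] {ξ : X → ℂ} (hξ : Cfsg.IsCharacter X ξ) :
    ∃ d : ℕ, ξ 1 = d := by
  obtain ⟨n, ρ, rfl⟩ := hξ
  exact ⟨n, by rw [Representation.char_one, Module.finrank_fin_fun]⟩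

theorem key {T : Type u} [Group T] [Finite T] (N : Subgroup T) [hN : N.Normal]
    (hsolv : Group.IsSolvable (T ⧸ N)) (hcop : (Nat.card N).Coprime N.index)
    (ξ : N → ℂ) (hξ : Cfsg.IsCharacter N ξ)
    (hinv : ∀ t : T, Cfsg.Agent.Lib.Helper75_Clifford.conjFun N hN ξ t = ξ) :
    ∃ ψ : T → ℂ, Cfsg.IsCharacter T ψ ∧ (∀ n : N, ψ n = ξ n) ∧
      ∀ k : ℕ, k.Coprime (Nat.card T) → k ≡ 1 [MOD Nat.card N] → ∀ x : T, ψ (x ^ k) = ψ x := by
  classical
  have : Fintype T := Fintype.ofFinite T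
  have : Fintype N := Fintype.ofFinite N
  suffices H : ∀ d : ℕ, ∀ ξ : N → ℂ, Cfsg.IsCharacter N ξ →
      (∀ t : T, Cfsg.Agent.Lib.Helper75_Clifford.conjFun N hN ξ t = ξ) → ξ 1 = d →
      ∃ ψ : T → ℂ, Cfsg.IsCharacter T ψ ∧ (∀ n : N, ψ n = ξ n) ∧
        ∀ k : ℕ, k.Coprime (Nat.card T) → k ≡ 1 [MOD Nat.card N] →
          ∀ x : T, ψ (x ^ k) = ψ x by
    obtain ⟨d, hd⟩ := char_one_nat hξ
    exact H d ξ hξ hinv hd
  intro d
  induction d using Nat.strong_induction_on with
  | _ d ih =>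
    intro ξ hξ hinv hd
    obtain ⟨m, hm, hsum⟩ := exists_multiplicities hξ
    by_cases hall : ∀ η : Cfsg.IrrCharacter N, m η = 0
    · -- `ξ = 0`
      have hξ0 : ξ = 0 := by
        rw [hsum]
        apply Finset.sum_eq_zero
        intro η _
        rw [hall η, Nat.cast_zero, zero_smul]
      refine ⟨0, isCharacter_zero, ?_, ?_⟩
      · intro n; rw [hξ0]; rfl
      · intro k _ _ x; rfl
    · push Not at hall
      obtain ⟨θ, hθm⟩ := hall
      have hθξ : Cfsg.classInner ξ (θ : N → ℂ) ≠ 0 := by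
        rw [hm θ]; exact_mod_cast hθm
      obtain ⟨φ, hφirr, hφpow, hφ1⟩ :=
        Cfsg.Agent.Lib.Helper74_S4472_STEP.step N hsolv hcop (θ : N → ℂ) θ.2
      have hφc : Cfsg.IsCharacter T φ := isCharacter_of_isIrrCharacter hφirr
      have hφcl : Cfsg.IsClassFunction T φ := isClassFunction_of_isIrrCharacter hφirr
      have hsub : Cfsg.IsCharacter N (ξ - res N φ) :=
        Cfsg.Agent.Lib.Helper42_S4472_SUB.sub_isCharacter N hN hξ hinv θ.2 hθξ hφirr hφ1
      have hinv' : ∀ t : T,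
          Cfsg.Agent.Lib.Helper75_Clifford.conjFun N hN (ξ - res N φ) t = ξ - res N φ := by
        intro t
        have h1 : Cfsg.Agent.Lib.Helper75_Clifford.conjFun N hN (ξ - res N φ) t =
            Cfsg.Agent.Lib.Helper75_Clifford.conjFun N hN ξ t -
              Cfsg.Agent.Lib.Helper75_Clifford.conjFun N hN (res N φ) t := rfl
        rw [h1, hinv t]
        congr 1
        exact conjFun_restrict N hN hφcl t
      obtain ⟨e, he0, he⟩ := Cfsg.Agent.Lib.Helper80_CharBasic.irr_apply_one ⟨φ, hφirr⟩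
      have hφ1' : φ 1 = e := he
      have hdeg : (ξ - res N φ) 1 = ((d - e : ℕ) : ℂ) ∧ e ≤ d := by
        obtain ⟨d', hd'⟩ := char_one_nat hsub
        have h2 : (ξ - res N φ) 1 = (d : ℂ) - e := by
          show ξ 1 - φ ((1 : N) : T) = _
          rw [hd, Subgroup.coe_one, hφ1']
        have h3 : (d' : ℂ) + e = d := by rw [← hd', h2]; ring
        have h4 : d' + e = d := by exact_mod_cast h3
        refine ⟨?_, by omega⟩
        rw [hd']
        congr 1
        omega
      obtain ⟨ψ', hψ'c, hψ'res, hψ'pow⟩ :=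
        ih (d - e) (by omega) (ξ - res N φ) hsub hinv' hdeg.1
      refine ⟨ψ' + φ, isCharacter_add hψ'c hφc, ?_, ?_⟩
      · intro n
        show ψ' n + φ n = ξ n
        rw [hψ'res n]
        show ξ n - φ n + φ n = ξ n
        ring
      · intro k hk hk1 x
        show ψ' (x ^ k) + φ (x ^ k) = ψ' x + φ x
        rw [hψ'pow k hk hk1 x, hφpow k hk hk1 x]

end Cfsg.Agent.Lib.Helper74_S4472_Key
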