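import Mathlib
import Cfsg.Agent.Lib.Helper74_S94_RANKS
import Cfsg.Agent.Lib.Helper20_S94_ACTW

set_option autoImplicit false
set_option linter.unusedVariables false
set_option linter.unusedSectionVars false

/-!
Package B_BASE1 of the market `s94_packages` (helper74, parallel seat; the verbatim `ker_cases_one` is in
`Helper20_S94_BASE1`, here it is `h74_ker_cases_one` to avoid a name clash): the presentation theorem for one index
(the group is the image of `SL₂(L)`, acting on `K² × L`).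
-/

namespace Cfsg.Agent.Lib.Helper74_S94

open Cfsg.Agent.Lib.Helper5_SteinbergA Cfsg.Agent.Lib.Helper5_SLPresA Cfsg.Agent.Lib.Helper66_StCalc
  Cfsg.Agent.Lib.Helper66_S92 Cfsg.Agent.Lib.Helper66_S96

section matrices

variable {L : Type*} [Field L]

theorem h74_b1_ext (A B : Matrix.SpecialLinearGroup (Fin 2) L) (h00 : A 0 0 = B 0 0)
    (h01 : A 0 1 = B 0 1) (h10 : A 1 0 = B 1 0) (h11 : A 1 1 = B 1 1) : A = B := by
  ext i j
  fin_cases i <;> fin_cases j <;> assumption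

theorem h74_b1_det (A : Matrix.SpecialLinearGroup (Fin 2) L) :
    A 0 0 * A 1 1 - A 0 1 * A 1 0 = 1 := by
  have := A.2
  rwa [Matrix.det_fin_two] at this

/-- upper triangular matrices -/
theorem h74_b1_upper (A : Matrix.SpecialLinearGroup (Fin 2) L) (hr : A 1 0 = 0) :
    ∃ (s : L) (hs : s ≠ 0) (t : L), A = mx (true, t) * Dm s hs := by
  have hdet := h74_b1_det A
  rw [hr, mul_zero, sub_zero] at hdet
  have hs : A 0 0 ≠ 0 := left_ne_zero_of_mul_eq_one hdet
  have h11 : A 1 1 = (A 0 0)⁻¹ := eq_inv_of_mul_eq_one_right hdet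
  refine ⟨A 0 0, hs, A 0 1 * A 0 0, ?_⟩
  apply h74_b1_ext
  · simp [Matrix.SpecialLinearGroup.coe_mul, mx_true, Dm_coe, Matrix.mul_apply, Fin.sum_univ_two]
  · simp [Matrix.SpecialLinearGroup.coe_mul, mx_true, Dm_coe, Matrix.mul_apply, Fin.sum_univ_two, hs]
  · simp [Matrix.SpecialLinearGroup.coe_mul, mx_true, Dm_coe, Matrix.mul_apply, Fin.sum_univ_two, hr]
  · simp [Matrix.SpecialLinearGroup.coe_mul, mx_true, Dm_coe, Matrix.mul_apply, Fin.sum_univ_two, h11]

/-- the big cell -/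
theorem h74_b1_big (A : Matrix.SpecialLinearGroup (Fin 2) L) (hr : A 1 0 ≠ 0) :
    ∃ (s : L) (hs : s ≠ 0) (t1 t2 : L), A = mx (true, t1) * Wm s hs * mx (true, t2) := by
  have hdet := h74_b1_det A
  have hs : -(A 1 0)⁻¹ ≠ 0 := neg_ne_zero.mpr (inv_ne_zero hr)
  refine ⟨-(A 1 0)⁻¹, hs, A 0 0 * (A 1 0)⁻¹, A 1 1 * (A 1 0)⁻¹, ?_⟩
  apply h74_b1_ext
  · simp [Matrix.SpecialLinearGroup.coe_mul, mx_true, Wm_coe, Matrix.mul_apply, Fin.sum_univ_two, hr]
  · simp only [Matrix.SpecialLinearGroup.coe_mul, mx_true, Wm_coe, Matrix.mul_apply,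
      Fin.sum_univ_two]
    simp
    field_simp
    linear_combination (-1 : L) * hdet
  · simp [Matrix.SpecialLinearGroup.coe_mul, mx_true, Wm_coe, Matrix.mul_apply, Fin.sum_univ_two, hr]
  · simp only [Matrix.SpecialLinearGroup.coe_mul, mx_true, Wm_coe, Matrix.mul_apply,
      Fin.sum_univ_two]
    simp
    field_simp

end matrices

section field

variable {ι : Type*} [DecidableEq ι] {K : Type*} [Field K] {L : Type*} [Field L] [Algebra K L]
  {G : Type*} [Group G] {Q0 : QuadraticForm K L} {σ : L → L}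
  {X : ι ⊕ ι → ι ⊕ ι → K → G} {XS : ι ⊕ ι → L → G}

/-- the polar form of the norm form -/
theorem h74_b1_polar (hN : IsNrm Q0 σ) (u v : L) :
    algebraMap K L (QuadraticMap.polar Q0 u v) = u * σ v + v * σ u := by
  unfold QuadraticMap.polar
  rw [map_sub, map_sub, hN.nrm, hN.nrm, hN.nrm, hN.map_add]
  ring

theorem h74_b1_Q_one (hN : IsNrm Q0 σ) : Q0 1 = 1 := by
  apply (algebraMap K L).injective
  rw [hN.nrm, hN.map_one, mul_one, map_one]

theorem h74_b1_Q_neg_one (hN : IsNrm Q0 σ) : Q0 (-1) = 1 := by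
  rw [QuadraticMap.map_neg, h74_b1_Q_one hN]

/-- the coordinates of the action of the short Weyl element -/
theorem h74_b1_W (ρ : G →* Module.End K ((ι ⊕ ι → K) × L)) (hρ : IsActB Q0 X XS ρ) (a : ι ⊕ ι)
    (w : L) (hw : Q0 w ≠ 0) (x : (ι ⊕ ι → K) × L) :
    (ρ (WSg Q0 XS a w) x).1 a = -(Q0 w * x.1 (ng a)) ∧
    (ρ (WSg Q0 XS a w) x).1 (ng a) = -((Q0 w)⁻¹ * x.1 a) ∧
    (ρ (WSg Q0 XS a w) x).2 = x.2 - ((Q0 w)⁻¹ * QuadraticMap.polar Q0 x.2 w) • w := by
  rw [act_WSg ρ hρ a w hw x]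
  refine ⟨?_, ?_, rfl⟩
  · show Function.update (Function.update x.1 a (-(Q0 w * x.1 (ng a)))) (ng a)
      (-((Q0 w)⁻¹ * x.1 a)) a = _
    rw [Function.update_of_ne (ne_ng a), Function.update_self]
  · show Function.update (Function.update x.1 a (-(Q0 w * x.1 (ng a)))) (ng a)
      (-((Q0 w)⁻¹ * x.1 a)) (ng a) = _
    rw [Function.update_self]

/-- the torus element as a product of two Weyl elements in generic form -/
theorem h74_b1_HS (h : BSt Q0 σ X XS) (hN : IsNrm Q0 σ) (a : ι ⊕ ι) (s : L) (hs : s ≠ 0) :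
    HS σ XS a s = WSg Q0 XS a s * WSg Q0 XS a (-1) := by
  have e1 : (WS σ XS a 1)⁻¹ = WS σ XS a (-1) := (h.rank1S a).W_inv true 1
  unfold HS
  rw [e1, WS_eq_WSg hN a s hs, WS_eq_WSg hN a (-1) (neg_ne_zero.mpr one_ne_zero)]

/-- the coordinates of the action of the torus element -/
theorem h74_b1_H (h : BSt Q0 σ X XS) (hN : IsNrm Q0 σ)
    (ρ : G →* Module.End K ((ι ⊕ ι → K) × L)) (hρ : IsActB Q0 X XS ρ) (a : ι ⊕ ι)
    (s : L) (hs : s ≠ 0) (x : (ι ⊕ ι → K) × L) :
    (ρ (HS σ XS a s) x).1 (ng a) = (Q0 s)⁻¹ * x.1 (ng a) ∧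
    (ρ (HS σ XS a s) x).2 =
      (x.2 - (QuadraticMap.polar Q0 x.2 (-1)) • (-1 : L)) -
        ((Q0 s)⁻¹ * QuadraticMap.polar Q0 (x.2 - (QuadraticMap.polar Q0 x.2 (-1)) • (-1 : L)) s) • s := by
  have hq1 : Q0 (-1 : L) ≠ 0 := by rw [h74_b1_Q_neg_one hN]; exact one_ne_zero
  have hqs : Q0 s ≠ 0 := hN.nrm_ne_zero hs
  obtain ⟨y1, y2, y3⟩ := h74_b1_W ρ hρ a (-1) hq1 x
  obtain ⟨z1, z2, z3⟩ := h74_b1_W ρ hρ a s hqs (ρ (WSg Q0 XS a (-1)) x)
  rw [h74_b1_HS h hN a s hs, map_mul, Module.End.mul_apply]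
  rw [h74_b1_Q_neg_one hN] at y1 y3
  rw [inv_one, one_mul] at y3
  rw [one_mul] at y1
  refine ⟨?_, ?_⟩
  · rw [z2, y1]
    ring
  · rw [z3, y3]

theorem h74_ker_cases_one [Fintype ι] [Finite L] (h : BSt Q0 σ X XS) (hN : IsNrm Q0 σ)
    (hgen : Subgroup.closure ({g | ∃ a c t, g = X a c t} ∪ {g | ∃ a v, g = XS a v}) = ⊤)
    (ρ : G →* Module.End K ((ι ⊕ ι → K) × L)) (hρ : IsActB Q0 X XS ρ)
    (h1 : Fintype.card ι = 1) (g : G) (hg : ρ g = 1) : g = 1 ∨ ∃ a, g = zS σ XS a := by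
  obtain ⟨i0, hi0⟩ := Fintype.card_eq_one_iff.mp h1
  have hall : ∀ a : ι ⊕ ι, a = Sum.inl i0 ∨ a = Sum.inr i0 := by
    rintro (i | i)
    · left; rw [hi0 i]
    · right; rw [hi0 i]
  set a : ι ⊕ ι := Sum.inl i0 with ha
  have hna : ng a = Sum.inr i0 := rfl
  have hne : ng a ≠ a := ng_ne a
  obtain ⟨Φ, e1, e2, e3, e4⟩ := exists_phiS h a
  -- `Φ` is surjective
  have hsurj : g ∈ Φ.range := by
    have hle : Subgroup.closure ({g | ∃ a c t, g = X a c t} ∪ {g | ∃ a v, g = XS a v}) ≤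
        Φ.range := by
      rw [Subgroup.closure_le]
      rintro _ (⟨b, c, t, rfl⟩ | ⟨b, v, rfl⟩)
      · have : X b c t = 1 := by
          rcases hall b with rfl | rfl <;> rcases hall c with rfl | rfl
          · exact h.long.diag _ t
          · exact h.long.opp (Sum.inl i0) t
          · exact h.long.opp (Sum.inr i0) t
          · exact h.long.diag _ t
        rw [this]
        exact one_mem _
      · rcases hall b with rfl | rfl
        · exact ⟨mx (true, v), e1 v⟩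
        · refine ⟨mx (false, -σ v), ?_⟩
          rw [e2, hN.map_neg, neg_neg, hN.invol]
          rfl
    apply hle
    rw [hgen]
    exact Subgroup.mem_top g
  obtain ⟨A, rfl⟩ := hsurj
  have key : ∀ x, ρ (Φ A) x = x := by
    intro x
    rw [hg, Module.End.one_apply]
  by_cases hr : A 1 0 = 0
  · -- upper triangular
    obtain ⟨s, hs, t, rfl⟩ := h74_b1_upper A hr
    rw [map_mul, e1, e4] at key ⊢
    have hqs : Q0 s ≠ 0 := hN.nrm_ne_zero hs
    -- evaluate at `b_{ng a}`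
    have k1 := key (bB (ng a))
    rw [map_mul, Module.End.mul_apply, hρ.short] at k1
    obtain ⟨z1, z2⟩ := h74_b1_H h hN ρ hρ a s hs (bB (ng a))
    have hb2 : (bB (K := K) (V0 := L) (ng a)).2 = 0 := rfl
    have hb1 : (bB (K := K) (V0 := L) (ng a)).1 (ng a) = 1 := by
      show (Pi.single (ng a) (1 : K) : ι ⊕ ι → K) (ng a) = 1
      rw [Pi.single_eq_same]
    rw [hb2, QuadraticMap.polar_zero_left, zero_smul, sub_zero, QuadraticMap.polar_zero_left,
      mul_zero, zero_smul, sub_zero] at z2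
    rw [hb1, mul_one] at z1
    have k1a := congrArg (fun y : (ι ⊕ ι → K) × L => y.1 (ng a)) k1
    have k1b := congrArg (fun y : (ι ⊕ ι → K) × L => y.2) k1
    simp only [xactS, Pi.add_apply, Pi.single_eq_of_ne hne, add_zero, z1, z2, hb1, hb2] at k1a k1b
    have hQ1 : Q0 s = 1 := by
      have := inv_eq_one.mp k1a
      exact this
    have ht : t = 0 := by
      rw [zero_sub, neg_eq_zero, hQ1, inv_one, one_smul] at k1b
      exact k1b
    subst ht
    rw [h.toBStAB.XS_zero, one_mul] at key ⊢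
    -- evaluate at `(0, 1)`
    have k2 := congrArg (fun y : (ι ⊕ ι → K) × L => y.2) (key ((0 : ι ⊕ ι → K), (1 : L)))
    obtain ⟨-, w2⟩ := h74_b1_H h hN ρ hρ a s hs ((0 : ι ⊕ ι → K), (1 : L))
    simp only [w2, hQ1, inv_one, one_mul] at k2
    have hsq : s * s = 1 := by
      have hp1 : (QuadraticMap.polar Q0 (1 : L) (-1)) • (-1 : L) = 2 := by
        rw [Algebra.smul_def, h74_b1_polar hN, hN.map_neg, hN.map_one]
        ring
      have e5 : (1 : L) - (QuadraticMap.polar Q0 (1 : L) (-1)) • (-1 : L) = -1 := by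
        rw [hp1]; ring
      rw [e5, Algebra.smul_def, h74_b1_polar hN, hN.map_neg, hN.map_one] at k2
      have hn := hN.nrm s
      rw [hQ1, map_one] at hn
      linear_combination k2 + hn
    rcases mul_self_eq_one_iff.mp hsq with rfl | rfl
    · left
      exact HS_one h a
    · right
      exact ⟨a, rfl⟩
  · -- the big cell: impossible
    exfalso
    obtain ⟨s, hs, t1, t2, rfl⟩ := h74_b1_big A hr
    have hA : Φ (mx (true, t1) * Wm s hs * mx (true, t2)) =
        XS a t1 * WSg Q0 XS a s * XS a t2 := by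
      rw [map_mul, map_mul, e1, e1, e3, WS_eq_WSg hN a s hs]
    rw [hA] at key
    have hqs : Q0 s ≠ 0 := hN.nrm_ne_zero hs
    have k1 := congrArg (fun y : (ι ⊕ ι → K) × L => y.1 (ng a)) (key (bB a))
    rw [map_mul, map_mul, Module.End.mul_apply, Module.End.mul_apply] at k1
    obtain ⟨-, z2, -⟩ := h74_b1_W ρ hρ a s hqs (ρ (XS a t2) (bB a))
    have hu : (ρ (XS a t2) (bB a)).1 a = 1 := by
      rw [hρ.short]
      show (Pi.single a (1 : K) + Pi.single a (QuadraticMap.polar Q0 (0 : L) t2 -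
        Q0 t2 * (Pi.single a (1 : K) : ι ⊕ ι → K) (ng a)) : ι ⊕ ι → K) a = 1
      rw [Pi.add_apply, Pi.single_eq_same, Pi.single_eq_same, Pi.single_eq_of_ne hne,
        QuadraticMap.polar_zero_left, mul_zero, sub_zero, add_zero]
    rw [hu, mul_one] at z2
    have hb : (bB (K := K) (V0 := L) a).1 (ng a) = 0 := by
      show (Pi.single a (1 : K) : ι ⊕ ι → K) (ng a) = 0
      rw [Pi.single_eq_of_ne hne]
    simp only [hb] at k1
    rw [hρ.short] at k1
    simp only [xactS, Pi.add_apply, Pi.single_eq_of_ne hne, add_zero, z2] at k1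
    exact inv_ne_zero hqs (neg_eq_zero.mp k1)

end field

end Cfsg.Agent.Lib.Helper74_S94
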