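import Mathlib
import Cfsg.Prelude.Def_Blocks
import Cfsg.Agent.Lib.Helper16_GenMain
import Cfsg.Agent.Lib.Helper16_GenFinal
import Cfsg.Agent.Lib.Helper57_CTGen
import Cfsg.Agent.Lib.Helper74_H1V
import Cfsg.Agent.Lib.Helper80_CharComplete
import Cfsg.Agent.Lib.Helper80_CharBasic
import Cfsg.Agent.Lib.Helper77_BlockBasics

/-!
# Self-centralizing Sylow subgroups of prime order (helper74)

`P` a Sylow `p`-subgroup of order `p` with `C_G(P) = P` and `|N_G(P)| = p f`.  Then (Brauer) the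
irreducible characters of degree prime to `p` are `X ⊔ Y` with `|X| = f`, `f |Y| = p - 1`,
`χ(h) = ε_χ = ± 1` on `P \ {1}` and `χ(1) ≡ ε_χ (mod p)` for `χ ∈ X`, `ψ(1) ≡ ε f (mod p)` for
`ψ ∈ Y`, and `ε ψ(g) = ∑_{χ ∈ X} ε_χ χ(g)` for `ψ ∈ Y` on the `p`-regular elements `g`.
This is `Helper16_GenMain.gen_structure` for the trivial `p`-complement `V = 1`.
-/

set_option autoImplicit false
set_option linter.unusedSectionVars false

namespace Cfsg.Agent.Lib.Helper74_SelfCentSylow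

open Cfsg Cfsg.Agent.Lib.Helper16_BrauerSetup Cfsg.Agent.Lib.Helper16_GenSetup
  Cfsg.Agent.Lib.Helper16_GenK Cfsg.Agent.Lib.Helper16_GenMain Cfsg.Agent.Lib.Helper16_GenFinal
open scoped ComplexConjugate

variable {G : Type*} [Group G] [Fintype G] {p : ℕ} [hp : Fact p.Prime] {P : Sylow p G}

/-- If `C_G(P) = P` then the trivial subgroup is the `p`-complement of `C_G(P)`. -/
theorem isPCompl_bot (hP : Nat.card P = p)
    (hC : Subgroup.centralizer ((P : Subgroup G) : Set G) = (P : Subgroup G)) :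
    IsPCompl P (⊥ : Subgroup G) where
  le := bot_le
  coprime := by rw [Subgroup.card_bot]; exact Nat.coprime_one_left p
  prod := fun c hc => ⟨c, hC ▸ hc, 1, Subgroup.one_mem _, (mul_one c).symm⟩
  reg := fun v hv hpv => by
    rw [hC] at hv
    have h1 : orderOf v ∣ p := by
      have h2 := orderOf_dvd_natCard (⟨v, hv⟩ : ↥(P : Subgroup G))
      rw [show Nat.card ↥(P : Subgroup G) = p from hP] at h2
      rwa [Subgroup.orderOf_mk] at h2
    rcases (Nat.dvd_prime hp.out).mp h1 with h | h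
    · rw [Subgroup.mem_bot]; exact orderOf_eq_one_iff.mp h
    · exact absurd (h ▸ dvd_refl _) hpv
  norm := fun n _ v hv => by
    rw [Subgroup.mem_bot] at hv ⊢
    rw [hv]; group

section sfunbot

variable [Fintype ↥(⊥ : Subgroup G)]

/-- For `V = 1` the `θ`-component is the character itself. -/
theorem sfun_bot (χ : IrrCharacter G) (h : ↥(P : Subgroup G)) :
    sfun P (⊥ : Subgroup G) (Cfsg.Agent.Lib.Helper80_CharBasic.oneIrr ↥(⊥ : Subgroup G)) χ h =
      (χ : G → ℂ) (h : G) := by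
  unfold sfun
  rw [Subgroup.card_bot, Fintype.sum_subsingleton _ (1 : ↥(⊥ : Subgroup G))]
  show ((1 : ℕ) : ℂ)⁻¹ * ((χ : G → ℂ) ((h : G) * ((1 : ↥(⊥ : Subgroup G)) : G)) * conj (1 : ℂ)) = _
  simp

end sfunbot

/-- `N_G(P)` fixes the trivial character of the trivial subgroup. -/
theorem stab_bot [Fintype ↥(⊥ : Subgroup G)] (hV : IsPCompl P (⊥ : Subgroup G)) :
    stab hV (Cfsg.Agent.Lib.Helper80_CharBasic.oneIrr ↥(⊥ : Subgroup G)) =
      Subgroup.normalizer ((P : Subgroup G) : Set G) := by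
  ext n
  rw [mem_stab_iff]
  constructor
  · exact fun h => h.1
  · exact fun h => ⟨h, fun _ _ _ => rfl⟩

/-- The index of `C_G(P) = P` in `N_G(P)`. -/
theorem relIndex_eq (hP : Nat.card P = p)
    (hC : Subgroup.centralizer ((P : Subgroup G) : Set G) = (P : Subgroup G)) (f : ℕ)
    (hN : Nat.card ↥(Subgroup.normalizer ((P : Subgroup G) : Set G)) = p * f) :
    (Subgroup.centralizer ((P : Subgroup G) : Set G)).relIndex
      (Subgroup.normalizer ((P : Subgroup G) : Set G)) = f := by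
  have hle : Subgroup.centralizer ((P : Subgroup G) : Set G) ≤
      Subgroup.normalizer ((P : Subgroup G) : Set G) := Subgroup.centralizer_le_normalizer _
  have h1 := Subgroup.card_mul_index ((Subgroup.centralizer ((P : Subgroup G) : Set G)).subgroupOf
    (Subgroup.normalizer ((P : Subgroup G) : Set G)))
  have hcard : Nat.card ↥(Subgroup.centralizer ((P : Subgroup G) : Set G)) = p := by
    rw [hC]; exact hP
  rw [Nat.card_congr (Subgroup.subgroupOfEquivOfLe hle).toEquiv, hN, hcard] at h1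
  exact Nat.eq_of_mul_eq_mul_left hp.out.pos h1

open scoped Classical in
/-- **Brauer's theorem for a self-centralizing Sylow subgroup of prime order.** -/
theorem sc_structure (hP : Nat.card P = p)
    (hC : Subgroup.centralizer ((P : Subgroup G) : Set G) = (P : Subgroup G)) (f : ℕ)
    (hN : Nat.card ↥(Subgroup.normalizer ((P : Subgroup G) : Set G)) = p * f) :
    ∃ (X Y : Finset (IrrCharacter G)) (εX : IrrCharacter G → ℤ) (ε : ℤ),
      (∀ χ : IrrCharacter G, ¬ p ∣ charDegree (χ : G → ℂ) → χ ∈ X ∨ χ ∈ Y) ∧ Disjoint X Y ∧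
      X.card = f ∧ f * Y.card = p - 1 ∧
      (∀ χ ∈ X, (εX χ = 1 ∨ εX χ = -1) ∧
        ((charDegree (χ : G → ℂ) : ℕ) : ℤ) ≡ εX χ [ZMOD p] ∧
        ∀ h ∈ (P : Subgroup G), h ≠ 1 → (χ : G → ℂ) h = (εX χ : ℂ)) ∧
      (ε = 1 ∨ ε = -1) ∧
      (∀ ψ ∈ Y, ((charDegree (ψ : G → ℂ) : ℕ) : ℤ) ≡ ε * f [ZMOD p]) ∧
      (∀ ψ ∈ Y, ∀ g : G, ¬ p ∣ orderOf g →
        (ε : ℂ) * (ψ : G → ℂ) g = ∑ χ ∈ X, (εX χ : ℂ) * (χ : G → ℂ) g) := by
  have hV := isPCompl_bot hP hC
  let _ : Fintype ↥(P : Subgroup G) := Fintype.ofFinite _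
  let _ : Fintype ↥(⊥ : Subgroup G) := Fintype.ofFinite _
  have hfin : Finite (↥(P : Subgroup G) →* ℂˣ) :=
    Cfsg.Agent.Lib.Helper25_AbDual.finite_hom (comm_of_card P hP)
  let _ : Fintype (↥(P : Subgroup G) →* ℂˣ) := Fintype.ofFinite _
  let _ : Fintype (IrrCharacter G) := Fintype.ofFinite _
  set θ : IrrCharacter ↥(⊥ : Subgroup G) :=
    Cfsg.Agent.Lib.Helper80_CharBasic.oneIrr ↥(⊥ : Subgroup G) with hθ
  have he : (Subgroup.centralizer ((P : Subgroup G) : Set G)).relIndex (stab hV θ) = f := by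
    rw [hθ, stab_bot hV]
    exact relIndex_eq hP hC f hN
  obtain ⟨X, Y, εX, ε, hBXY, hdisj, hXc, hYc, hXp, hε, hYp, hYu, hYs⟩ :=
    gen_structure hP hV θ f he (Cfsg.Agent.Lib.Helper57_CTGen.ct_gen p P hP)
      (Cfsg.Agent.Lib.Helper74_H1V.h1V hP hV θ)
  have hfpos : 0 < f := by
    rcases Nat.eq_zero_or_pos f with h | h
    · rw [h, zero_mul] at hYc
      have := hp.out.two_le
      omega
    · exact h
  -- the `θ`-component at `1` is the degree
  have hs1 : ∀ χ : IrrCharacter G, s1 hV θ χ = ((charDegree (χ : G → ℂ) : ℕ) : ℤ) := by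
    intro χ
    have h1 := s1_cast hP hV θ χ
    rw [hθ, sfun_bot χ 1] at h1
    have h2 : (((1 : ↥(P : Subgroup G)) : G)) = 1 := rfl
    rw [h2, Cfsg.Agent.Lib.Helper77_BlockBasics.apply_one_eq_charDegree χ] at h1
    exact_mod_cast h1
  -- characters outside `X ∪ Y` vanish on `P \ {1}`
  have hvan : ∀ χ : IrrCharacter G, χ ∉ X → χ ∉ Y → ∀ h : ↥(P : Subgroup G), h ≠ 1 →
      sfun P (⊥ : Subgroup G) θ χ h = 0 := by
    intro χ hX hY h hh
    by_contra hne
    have : χ ∈ BGen P (⊥ : Subgroup G) θ := (mem_BGen P _ θ χ).mpr ⟨h, hh, hne⟩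
    rcases (hBXY χ).mp this with h1 | h1
    · exact hX h1
    · exact hY h1
  refine ⟨X, Y, εX, ε, ?_, hdisj, hXc, hYc, ?_, hε, ?_, ?_⟩
  · intro χ hχ
    by_contra hcon
    push Not at hcon
    have h1 := s1_zero hP hV θ χ (hvan χ hcon.1 hcon.2)
    rw [hs1 χ] at h1
    apply hχ
    have h2 := (Int.modEq_zero_iff_dvd).mp h1
    exact_mod_cast h2
  · intro χ hχ
    obtain ⟨h1, h2⟩ := hXp χ hχ
    refine ⟨h1, ?_, ?_⟩
    · have := s1_X hP hV θ χ (εX χ) h2
      rwa [hs1 χ] at this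
    · intro h hh hh1
      have h3 := sfun_X hP hV θ χ (εX χ) h2 ⟨h, hh⟩ (by
        intro hcon
        apply hh1
        exact congrArg Subtype.val hcon)
      rw [hθ, sfun_bot χ ⟨h, hh⟩] at h3
      exact h3
  · intro ψ hψ
    have := s1_Y hV θ ψ ε f (hYp ψ hψ) (hYs ψ hψ)
    rwa [hs1 ψ] at this
  · intro ψ hψ g hg
    have horth : ∀ h : ↥(P : Subgroup G), h ≠ 1 →
        ∑ χ ∈ X ∪ Y, sfun P (⊥ : Subgroup G) θ χ h * conj ((χ : G → ℂ) g) = 0 := by
      intro h hh
      have hnc : ¬ IsConj (h : G) g := by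
        intro hc
        obtain ⟨c, hc⟩ := hc
        apply hg
        rw [← hc.orderOf_eq]
        have h1 : orderOf (h : G) ∣ p := by
          have h2 := orderOf_dvd_natCard h
          rw [show Nat.card ↥(P : Subgroup G) = p from hP] at h2
          rwa [Subgroup.orderOf_coe]
        rcases (Nat.dvd_prime hp.out).mp h1 with h3 | h3
        · exfalso
          apply hh
          apply Subtype.ext
          exact orderOf_eq_one_iff.mp h3
        · rw [h3]
      have h1 := Cfsg.Agent.Lib.Helper80_CharComplete.second_orthogonality_sum (h : G) g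
      rw [if_neg hnc] at h1
      rw [← h1]
      rw [← Finset.sum_subset (Finset.subset_univ (X ∪ Y))]
      · refine Finset.sum_congr rfl fun χ _ => ?_
        rw [hθ, sfun_bot χ h]
      · intro χ _ hχ
        rw [Finset.mem_union, not_or] at hχ
        have h2 := hvan χ hχ.1 hχ.2 h hh
        rw [hθ, sfun_bot χ h] at h2
        rw [h2, zero_mul]
    have h1 := exceptional_reg hP hV θ f hfpos X Y εX ε hdisj hXp hYp hYu hYs horth ψ hψ
    have h2 := congrArg (starRingEnd ℂ) h1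
    rw [map_mul, map_sum, Complex.conj_conj, map_intCast] at h2
    rw [h2]
    refine Finset.sum_congr rfl fun χ _ => ?_
    rw [map_mul, Complex.conj_conj, map_intCast]

end Cfsg.Agent.Lib.Helper74_SelfCentSylow
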