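import Mathlib
import Cfsg.Agent.Lib.Helper75_BRDefs
import Cfsg.Agent.Lib.Helper78_CentralNilp
import Cfsg.Agent.Lib.Helper78_CharFacts

/-!
# brandt market (architect helper75), package A8-LOC (helper77): `corner_local_finrank_le_two`.

A local algebra `A = e₀ R e₀` (residue field `F`, nilpotent radical `J`) with `dim A/[A,A] ≤ 2`
has `dim J/J² ≤ 1`, hence is generated by one element, hence is commutative of dimension `≤ 2`.
-/

set_option autoImplicit false

namespace Cfsg.Agent.Lib.Helper77_BR_A8LOC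

open Cfsg Cfsg.Agent.Lib.Helper78_LocalRing Cfsg.Agent.Lib.Helper78_GroupRing
  Cfsg.Agent.Lib.Helper79_Residue Cfsg.Agent.Lib.Helper75_BRDefs

universe u v w

section A

variable {F : Type v} [Field F] {R : Type w} [Ring R] [Algebra F R]

/-- the elements of the span of a set of pairwise commuting elements commute -/
theorem commute_of_mem_span {S : Set R} (hS : ∀ a ∈ S, ∀ b ∈ S, a * b = b * a)
    {p q : R} (hp : p ∈ Submodule.span F S) (hq : q ∈ Submodule.span F S) : p * q = q * p := by
  have h1 : ∀ a ∈ S, ∀ q ∈ Submodule.span F S, a * q = q * a := by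
    intro a ha q hq
    induction hq using Submodule.span_induction with
    | mem b hb => exact hS a ha b hb
    | zero => simp
    | add x y _ _ hx hy => rw [mul_add, add_mul, hx, hy]
    | smul c x _ hx => rw [mul_smul_comm, smul_mul_assoc, hx]
  induction hp using Submodule.span_induction with
  | mem a ha => exact h1 a ha q hq
  | zero => simp
  | add x y _ _ hx hy => rw [add_mul, mul_add, hx, hy]
  | smul c x _ hx => rw [smul_mul_assoc, mul_smul_comm, hx]

/-- a subspace of codimension at most one is complemented by a line -/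
theorem exists_span_sup_of_finrank_le [FiniteDimensional F R] {J J2 : Submodule F R}
    (h2 : J2 ≤ J) (hdim : Module.finrank F J ≤ Module.finrank F J2 + 1) :
    ∃ x ∈ J, J ≤ Submodule.span F {x} ⊔ J2 := by
  by_cases hx : ∃ x ∈ J, x ∉ J2
  · obtain ⟨x, hxJ, hxJ2⟩ := hx
    refine ⟨x, hxJ, ?_⟩
    have hle : Submodule.span F {x} ⊔ J2 ≤ J :=
      sup_le ((Submodule.span_singleton_le_iff_mem x J).mpr hxJ) h2
    have hx0 : x ≠ 0 := fun h0 => hxJ2 (h0 ▸ J2.zero_mem)
    have hinf : Submodule.span F {x} ⊓ J2 = ⊥ := by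
      rw [Submodule.eq_bot_iff]
      rintro y ⟨hy1, hy2⟩
      obtain ⟨c, rfl⟩ := Submodule.mem_span_singleton.mp hy1
      by_contra hne
      have hc : c ≠ 0 := fun h0 => hne (by rw [h0, zero_smul])
      apply hxJ2
      have := J2.smul_mem c⁻¹ hy2
      rwa [smul_smul, inv_mul_cancel₀ hc, one_smul] at this
    have hfr := Submodule.finrank_sup_add_finrank_inf_eq (Submodule.span F {x}) J2
    rw [hinf, finrank_bot, add_zero, finrank_span_singleton hx0] at hfr
    have : Module.finrank F J ≤ Module.finrank F ↥(Submodule.span F {x} ⊔ J2) := by omega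
    exact (Submodule.eq_of_le_of_finrank_le hle this).ge
  · push Not at hx
    exact ⟨0, J.zero_mem, fun y hy => Submodule.mem_sup_right (hx y hy)⟩

/-- powers of a multiplicatively closed subspace decrease -/
theorem pow_succ_le {J : Submodule F R} (hJJ : J * J ≤ J) : ∀ k : ℕ, 1 ≤ k → J ^ (k + 1) ≤ J ^ k := by
  intro k hk
  induction k with
  | zero => omega
  | succ m ih =>
    rcases Nat.eq_zero_or_pos m with rfl | hm
    · simpa [pow_succ] using hJJ
    · have := ih hm
      calc J ^ (m + 1 + 1) = J ^ (m + 1) * J := pow_succ _ _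
        _ ≤ J ^ m * J := mul_le_mul' this le_rfl
        _ = J ^ (m + 1) := (pow_succ _ _).symm

/-- `J = F x + J²` gives `J^k ≤ F x^k + J^(k+1)` -/
theorem pow_le_span_sup {J : Submodule F R} (hJJ : J * J ≤ J) {x : R} (hxJ : x ∈ J)
    (hx : J ≤ Submodule.span F {x} ⊔ J * J) :
    ∀ k : ℕ, 1 ≤ k → J ^ k ≤ Submodule.span F {x ^ k} ⊔ J ^ (k + 1) := by
  intro k hk
  induction k with
  | zero => omega
  | succ m ih =>
    rcases Nat.eq_zero_or_pos m with rfl | hm
    · simpa [pow_succ] using hx
    · have h1 := ih hm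
      have hxm : Submodule.span F {x ^ m} ≤ J ^ m :=
        (Submodule.span_singleton_le_iff_mem _ _).mpr (Submodule.pow_mem_pow J hxJ m)
      have hxs : Submodule.span F {x} ≤ J :=
        (Submodule.span_singleton_le_iff_mem _ _).mpr hxJ
      have hJ2 : J * J = J ^ 2 := (pow_two J).symm
      calc J ^ (m + 1) = J ^ m * J := pow_succ _ _
        _ ≤ (Submodule.span F {x ^ m} ⊔ J ^ (m + 1)) * (Submodule.span F {x} ⊔ J * J) :=
            mul_le_mul' h1 hx
        _ = Submodule.span F {x ^ m} * Submodule.span F {x} ⊔ Submodule.span F {x ^ m} * (J * J) ⊔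
              (J ^ (m + 1) * Submodule.span F {x} ⊔ J ^ (m + 1) * (J * J)) := by
            rw [Submodule.sup_mul, Submodule.mul_sup, Submodule.mul_sup]
        _ ≤ Submodule.span F {x ^ (m + 1)} ⊔ J ^ (m + 1 + 1) := by
            refine sup_le (sup_le ?_ ?_) (sup_le ?_ ?_)
            · rw [Submodule.span_mul_span, Set.singleton_mul_singleton, ← pow_succ]
              exact le_sup_left
            · refine le_trans ?_ le_sup_right
              calc Submodule.span F {x ^ m} * (J * J) ≤ J ^ m * (J * J) := mul_le_mul' hxm le_rfl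
                _ = J ^ (m + 1 + 1) := by rw [← mul_assoc, ← pow_succ, ← pow_succ]
            · refine le_trans ?_ le_sup_right
              calc J ^ (m + 1) * Submodule.span F {x} ≤ J ^ (m + 1) * J := mul_le_mul' le_rfl hxs
                _ = J ^ (m + 1 + 1) := (pow_succ _ _).symm
            · refine le_trans ?_ le_sup_right
              calc J ^ (m + 1) * (J * J) = J ^ (m + 1 + 1 + 1) := by
                    rw [← mul_assoc, ← pow_succ, ← pow_succ]
                _ ≤ J ^ (m + 1 + 1) := pow_succ_le hJJ _ (by omega)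

/-- **A8 (LOC)**. A local algebra `A = e₀ R e₀` (residue field `F`, nilpotent radical) with
`dim A/[A,A] ≤ 2` is generated by one element, hence commutative of dimension `≤ 2`. -/
theorem corner_local_finrank_le_two [FiniteDimensional F R] {n : ℕ} (hn : 0 < n)
    (π : R →ₐ[F] Matrix (Fin n) (Fin n) F)
    (N : ℕ) (hN : ∀ L : List R, L.length = N → (∀ x ∈ L, π x = 0) → L.prod = 0)
    (e₀ : R) (he₀ : IsIdempotentElem e₀) (hπe : π e₀ = Matrix.single ⟨0, hn⟩ ⟨0, hn⟩ 1)
    (h : Module.finrank F (cornerSub F e₀) ≤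
      Module.finrank F (commSpanIn F (cornerSub F e₀)) + 2) :
    Module.finrank F (cornerSub F e₀) ≤ 2 := by
  classical
  have he₀A : e₀ ∈ cornerSub F e₀ := ⟨he₀, he₀⟩
  set J : Submodule F R := cornerSub F e₀ ⊓ LinearMap.ker π.toLinearMap with hJ
  have hJA : J ≤ cornerSub F e₀ := inf_le_left
  have hJker : ∀ y ∈ J, π y = 0 := fun y hy => hy.2
  have hJJ : J * J ≤ J := by
    rw [Submodule.mul_le]
    intro a ha b hb
    refine ⟨⟨?_, ?_⟩, ?_⟩
    · rw [← mul_assoc, ha.1.1]
    · rw [mul_assoc, hb.1.2]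
    · show π (a * b) = 0
      rw [map_mul, hJker a ha, zero_mul]
  -- products of `N + 1` elements of `ker π` vanish
  have hN' : ∀ L : List R, L.length = N + 1 → (∀ x ∈ L, π x = 0) → L.prod = 0 := by
    intro L hL hx
    cases L with
    | nil => simp at hL
    | cons a L' =>
      have h1 : L'.length = N := by simpa using hL
      have h2 : L'.prod = 0 := hN L' h1 (fun x hx' => hx x (List.mem_cons_of_mem _ hx'))
      rw [List.prod_cons, h2, mul_zero]
  have hJN : J ^ (N + 1) = ⊥ := by
    rw [Submodule.pow_eq_span_pow_set, Submodule.span_eq_bot]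
    intro z hz
    obtain ⟨f, rfl⟩ := Set.mem_pow.mp hz
    apply hN'
    · rw [List.length_ofFn]
    · intro y hy
      obtain ⟨i, rfl⟩ := List.mem_ofFn.mp hy
      exact hJker _ (f i).2
  -- decomposition `A = F e₀ + J`
  have hdec : ∀ a ∈ cornerSub F e₀, ∃ c : F, a - c • e₀ ∈ J := by
    intro a ha
    refine ⟨π a ⟨0, hn⟩ ⟨0, hn⟩, Submodule.sub_mem _ ha (Submodule.smul_mem _ _ he₀A), ?_⟩
    show π (a - π a ⟨0, hn⟩ ⟨0, hn⟩ • e₀) = 0
    have h1 : a = e₀ * a * e₀ := by rw [ha.1, ha.2]
    have h2 : π a = Matrix.single ⟨0, hn⟩ ⟨0, hn⟩ (π a ⟨0, hn⟩ ⟨0, hn⟩) := by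
      conv_lhs => rw [h1, map_mul, map_mul, hπe, Matrix.single_mul_mul_single, one_mul, mul_one]
    rw [map_sub, map_smul, hπe, Matrix.smul_single, smul_eq_mul, mul_one, ← h2, sub_self]
  -- `[A, A] ≤ J²`
  have hcomm : commSpanIn F (cornerSub F e₀) ≤ J * J := by
    unfold commSpanIn
    rw [Submodule.span_le]
    rintro z ⟨a, ha, b, hb, rfl⟩
    obtain ⟨c, hc⟩ := hdec a ha
    obtain ⟨c', hc'⟩ := hdec b hb
    set x := a - c • e₀ with hx
    set y := b - c' • e₀ with hy
    have hax : a = c • e₀ + x := by rw [hx]; abel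
    have hby : b = c' • e₀ + y := by rw [hy]; abel
    have hx1 : e₀ * x = x := (hJA hc).1
    have hx2 : x * e₀ = x := (hJA hc).2
    have hy1 : e₀ * y = y := (hJA hc').1
    have hy2 : y * e₀ = y := (hJA hc').2
    have key : a * b - b * a = x * y - y * x := by
      rw [hax, hby]
      simp only [add_mul, mul_add, smul_mul_assoc, mul_smul_comm, hx1, hx2, hy1, hy2, he₀.eq,
        smul_smul]
      rw [smul_add, smul_add, smul_smul, smul_smul, mul_comm c' c]
      abel
    rw [SetLike.mem_coe, key]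
    exact Submodule.sub_mem _ (Submodule.mul_mem_mul hc hc') (Submodule.mul_mem_mul hc' hc)
  -- dimensions
  have he₀0 : e₀ ≠ 0 := by
    intro h0
    have h1 : π e₀ ⟨0, hn⟩ ⟨0, hn⟩ = 1 := by rw [hπe, Matrix.single_apply_same]
    rw [h0, map_zero] at h1
    simp at h1
  have hinf : Submodule.span F {e₀} ⊓ J = ⊥ := by
    rw [Submodule.eq_bot_iff]
    rintro y ⟨hy1, hy2⟩
    obtain ⟨c, rfl⟩ := Submodule.mem_span_singleton.mp hy1
    have h1 : π (c • e₀) = 0 := hJker _ hy2
    rw [map_smul, hπe, Matrix.smul_single, smul_eq_mul, mul_one] at h1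
    have h2 : (Matrix.single ⟨0, hn⟩ ⟨0, hn⟩ c : Matrix (Fin n) (Fin n) F) ⟨0, hn⟩ ⟨0, hn⟩ = 0 := by
      rw [h1]; rfl
    rw [Matrix.single_apply_same] at h2
    rw [h2, zero_smul]
  have hdimA : 1 + Module.finrank F J ≤ Module.finrank F (cornerSub F e₀) := by
    have hfr := Submodule.finrank_sup_add_finrank_inf_eq (Submodule.span F {e₀}) J
    rw [hinf, finrank_bot, add_zero, finrank_span_singleton he₀0] at hfr
    have hle : Submodule.span F {e₀} ⊔ J ≤ cornerSub F e₀ :=
      sup_le ((Submodule.span_singleton_le_iff_mem _ _).mpr he₀A) hJA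
    have := Submodule.finrank_mono hle
    omega
  have hdimK : Module.finrank F (commSpanIn F (cornerSub F e₀)) ≤ Module.finrank F ↥(J * J) :=
    Submodule.finrank_mono hcomm
  have hdimJ : Module.finrank F J ≤ Module.finrank F ↥(J * J) + 1 := by omega
  obtain ⟨x, hxJ, hx⟩ := exists_span_sup_of_finrank_le hJJ hdimJ
  -- `J` is spanned by the powers of `x`
  set Q : Submodule F R := Submodule.span F (Set.range fun i : ℕ => x ^ (i + 1)) with hQ
  have hxQ : ∀ k : ℕ, 1 ≤ k → Submodule.span F {x ^ k} ≤ Q := by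
    intro k hk
    rw [Submodule.span_singleton_le_iff_mem]
    apply Submodule.subset_span
    exact ⟨k - 1, by show x ^ (k - 1 + 1) = x ^ k; rw [Nat.sub_add_cancel hk]⟩
  have hJQ : ∀ k : ℕ, 1 ≤ k → J ≤ Q ⊔ J ^ k := by
    intro k hk
    induction k with
    | zero => omega
    | succ m ih =>
      rcases Nat.eq_zero_or_pos m with rfl | hm
      · simp
      · calc J ≤ Q ⊔ J ^ m := ih hm
          _ ≤ Q ⊔ (Submodule.span F {x ^ m} ⊔ J ^ (m + 1)) :=
              sup_le_sup_left (pow_le_span_sup hJJ hxJ hx m hm) _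
          _ ≤ Q ⊔ J ^ (m + 1) := by
              refine sup_le le_sup_left (sup_le ?_ le_sup_right)
              exact le_trans (hxQ m hm) le_sup_left
  have hJQ' : J ≤ Q := by
    have := hJQ (N + 1) (by omega)
    rwa [hJN, sup_bot_eq] at this
  -- `A` is spanned by pairwise commuting elements
  set S : Set R := insert e₀ (Set.range fun i : ℕ => x ^ (i + 1)) with hS
  have hxA : ∀ i : ℕ, e₀ * x ^ (i + 1) = x ^ (i + 1) ∧ x ^ (i + 1) * e₀ = x ^ (i + 1) := by
    intro i
    constructor
    · rw [pow_succ', ← mul_assoc, (hJA hxJ).1]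
    · rw [pow_succ, mul_assoc, (hJA hxJ).2]
  have hScomm : ∀ a ∈ S, ∀ b ∈ S, a * b = b * a := by
    rintro a (rfl | ⟨i, rfl⟩) b (rfl | ⟨j, rfl⟩)
    · rfl
    · rw [(hxA j).1, (hxA j).2]
    · rw [(hxA i).1, (hxA i).2]
    · exact (pow_mul_comm x (i + 1) (j + 1))
  have hAS : cornerSub F e₀ ≤ Submodule.span F S := by
    intro a ha
    obtain ⟨c, hc⟩ := hdec a ha
    have h1 : a = c • e₀ + (a - c • e₀) := by abel
    rw [h1]
    refine Submodule.add_mem _ (Submodule.smul_mem _ _ (Submodule.subset_span (Set.mem_insert _ _))) ?_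
    exact Submodule.span_mono (Set.subset_insert _ _) (hJQ' hc)
  have hK : commSpanIn F (cornerSub F e₀) = ⊥ := by
    unfold commSpanIn
    rw [Submodule.span_eq_bot]
    rintro z ⟨a, ha, b, hb, rfl⟩
    rw [commute_of_mem_span (F := F) hScomm (hAS ha) (hAS hb), sub_self]
  rw [hK, finrank_bot] at h
  omega

end A

end Cfsg.Agent.Lib.Helper77_BR_A8LOC
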