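import Mathlib
import Cfsg.Agent.Lib.Helper75_BRDefs
import Cfsg.Agent.Lib.Helper78_CentralNilp
import Cfsg.Agent.Lib.Helper78_CharFacts
import Cfsg.Agent.Lib.Helper75_BR_RED
import Cfsg.Agent.Lib.Helper75_BR_IDEM
import Cfsg.Agent.Lib.Helper77_BlockBasics

/-!
# brandt market (architect helper75), package B3-DIM (helper77): core of `finrank_blockSub`,
with the statement of RK (`linearIndependent_of_redG`, on `Fin r`) as a hypothesis.

`dim_F FG·ē_B = dim_ℂ ℂG·E_B = trace (· E_B) = |G| · E_B(1) = ∑_{χ ∈ B} χ(1)²`.
-/

set_option autoImplicit false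

namespace Cfsg.Agent.Lib.Helper77_BR_B3DIMaux

open Cfsg Cfsg.Agent.Lib.Helper78_LocalRing Cfsg.Agent.Lib.Helper78_GroupRing
  Cfsg.Agent.Lib.Helper79_Residue Cfsg.Agent.Lib.Helper75_BRDefs
  Cfsg.Agent.Lib.Helper75_BR_RED Cfsg.Agent.Lib.Helper75_BR_IDEM

universe u v w

section Generic

variable {k : Type v} [Field k] {A : Type w} [Ring A] [Algebra k A]

/-- the Peirce decomposition `A = A e ⊕ A (1 - e)`, on dimensions -/
theorem finrank_range_mulRight_add [FiniteDimensional k A] {e : A} (he : IsIdempotentElem e) :
    Module.finrank k (LinearMap.range (LinearMap.mulRight k e)) +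
      Module.finrank k (LinearMap.range (LinearMap.mulRight k (1 - e))) = Module.finrank k A := by
  have hker : LinearMap.ker (LinearMap.mulRight k e) =
      LinearMap.range (LinearMap.mulRight k (1 - e)) := by
    ext x
    rw [LinearMap.mem_ker, LinearMap.mem_range, LinearMap.mulRight_apply]
    constructor
    · intro h
      exact ⟨x, by rw [LinearMap.mulRight_apply, mul_sub, mul_one, h, sub_zero]⟩
    · rintro ⟨y, rfl⟩
      rw [LinearMap.mulRight_apply, mul_assoc, sub_mul, one_mul, he.eq, sub_self, mul_zero]
  rw [← hker]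
  exact LinearMap.finrank_range_add_finrank_ker _

theorem isProj_mulRight {e : A} (he : IsIdempotentElem e) :
    LinearMap.IsProj (LinearMap.range (LinearMap.mulRight k e)) (LinearMap.mulRight k e) := by
  refine ⟨fun x => LinearMap.mem_range_self _ x, ?_⟩
  rintro x ⟨y, rfl⟩
  rw [LinearMap.mulRight_apply, LinearMap.mulRight_apply, mul_assoc, he.eq]

end Generic

section Grp

variable {G : Type u} [Group G] [Fintype G]

theorem finrank_monoidAlgebra (k : Type v) [Field k] :
    Module.finrank k (MonoidAlgebra k G) = Fintype.card G := by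
  rw [Module.finrank_eq_card_basis (MonoidAlgebra.basis G k)]

/-- the trace of right multiplication by `E` on the group algebra -/
theorem trace_mulRight (E : MonoidAlgebra ℂ G) :
    LinearMap.trace ℂ (MonoidAlgebra ℂ G) (LinearMap.mulRight ℂ E) =
      (Fintype.card G : ℂ) * E.coeff 1 := by
  classical
  rw [LinearMap.trace_eq_matrix_trace ℂ (MonoidAlgebra.basis G ℂ), Matrix.trace]
  have h : ∀ g : G, Matrix.diag (LinearMap.toMatrix (MonoidAlgebra.basis G ℂ)
      (MonoidAlgebra.basis G ℂ) (LinearMap.mulRight ℂ E)) g = E.coeff 1 := by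
    intro g
    rw [Matrix.diag_apply, LinearMap.toMatrix_apply, LinearMap.mulRight_apply]
    have h1 : (MonoidAlgebra.basis G ℂ) g = MonoidAlgebra.single g 1 := by
      simp [MonoidAlgebra.basis]
    rw [h1]
    have h2 : ∀ x : MonoidAlgebra ℂ G, (MonoidAlgebra.basis G ℂ).repr x g = x.coeff g := by
      intro x
      simp [MonoidAlgebra.basis]
    rw [h2, MonoidAlgebra.coeff_single_mul_apply, one_mul, inv_mul_cancel]
  rw [Finset.sum_congr rfl (fun g _ => h g), Finset.sum_const, Finset.card_univ, nsmul_eq_mul]

theorem finrank_range_mulRight_eq {E : MonoidAlgebra ℂ G} (hE : IsIdempotentElem E) :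
    (Module.finrank ℂ (LinearMap.range (LinearMap.mulRight ℂ E)) : ℂ) =
      (Fintype.card G : ℂ) * E.coeff 1 := by
  rw [← trace_mulRight, (isProj_mulRight (k := ℂ) hE).trace]

variable {M : Ideal AlgInt} [hmax : M.IsMaximal]

/-- lifting a basis of `FG·ē` to an independent family of `ℂG·E` -/
theorem finrank_range_le_of_RK
    (hRK : ∀ (r : ℕ) (a : Fin r → MonoidAlgebra ℂ G), (∀ i, a i ∈ Isub G hmax.isPrime) →
      LinearIndependent (ResField M) (fun i => redG M (a i)) → LinearIndependent ℂ a)
    {E : MonoidAlgebra ℂ G} (hE : E ∈ Isub G hmax.isPrime)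
    (he : IsIdempotentElem (redG M E)) :
    Module.finrank (ResField M) (LinearMap.range (LinearMap.mulRight (ResField M) (redG M E))) ≤
      Module.finrank ℂ (LinearMap.range (LinearMap.mulRight ℂ E)) := by
  classical
  set S := LinearMap.range (LinearMap.mulRight (ResField M) (redG M E)) with hS
  set r := Module.finrank (ResField M) S with hr
  have b : Module.Basis (Fin r) (ResField M) S := Module.finBasis (ResField M) S
  let x : Fin r → MonoidAlgebra (ResField M) G := fun i => (b i : MonoidAlgebra (ResField M) G)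
  have hxli : LinearIndependent (ResField M) x := by
    have := b.linearIndependent.map' S.subtype (Submodule.ker_subtype S)
    exact this
  have hxe : ∀ i, x i * redG M E = x i := by
    intro i
    obtain ⟨y, hy⟩ := (b i).2
    show (b i : MonoidAlgebra (ResField M) G) * redG M E = (b i : MonoidAlgebra (ResField M) G)
    rw [← hy, LinearMap.mulRight_apply, mul_assoc, he.eq]
  let a : Fin r → MonoidAlgebra ℂ G := fun i => liftG (x i) * E
  have haI : ∀ i, a i ∈ Isub G hmax.isPrime := fun i =>
    (Isub G hmax.isPrime).mul_mem (liftG_mem (x i)) hE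
  have hred : (fun i => redG M (a i)) = x := by
    funext i
    show redG M (liftG (x i) * E) = x i
    rw [redG_mul (liftG_mem (x i)) hE, redG_liftG, hxe]
  have hali : LinearIndependent ℂ a := hRK r a haI (by rw [hred]; exact hxli)
  have hle : Submodule.span ℂ (Set.range a) ≤ LinearMap.range (LinearMap.mulRight ℂ E) := by
    rw [Submodule.span_le]
    rintro _ ⟨i, rfl⟩
    exact ⟨liftG (x i), rfl⟩
  have h1 := Submodule.finrank_mono hle
  rw [finrank_span_eq_card hali, Fintype.card_fin] at h1
  exact h1

/-- **B3 (DIM)**, with the statement of RK on `Fin r` as a hypothesis -/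
theorem finrank_blockSub_of
    (hRK : ∀ (r : ℕ) (a : Fin r → MonoidAlgebra ℂ G), (∀ i, a i ∈ Isub G hmax.isPrime) →
      LinearIndependent (ResField M) (fun i => redG M (a i)) → LinearIndependent ℂ a)
    {B : Set (IrrCharacter G)} (hB : IsPBlock M B) :
    Module.finrank (ResField M) (blockSub M B) = ∑ᶠ χ ∈ B, charDegree (χ : G → ℂ) ^ 2 := by
  classical
  have hEI : EB B ∈ Isub G hmax.isPrime := EB_mem_Isub hB
  have hEid : IsIdempotentElem (EB B) := EB_idem B
  have heid : IsIdempotentElem (eB M B) := eB_idem hB
  have hE'I : 1 - EB B ∈ Isub G hmax.isPrime :=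
    (Isub G hmax.isPrime).sub_mem (Isub G hmax.isPrime).one_mem hEI
  have hred' : redG M (1 - EB B) = 1 - eB M B := by
    rw [redG_sub (Isub G hmax.isPrime).one_mem hEI, redG_one]
    rfl
  -- the four dimensions
  have h1 := finrank_range_mulRight_add (k := ResField M) heid
  have h2 := finrank_range_mulRight_add (k := ℂ) hEid
  rw [finrank_monoidAlgebra] at h1 h2
  have h3 : Module.finrank (ResField M)
      (LinearMap.range (LinearMap.mulRight (ResField M) (eB M B))) ≤
      Module.finrank ℂ (LinearMap.range (LinearMap.mulRight ℂ (EB B))) :=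
    finrank_range_le_of_RK hRK hEI heid
  have h4 : Module.finrank (ResField M)
      (LinearMap.range (LinearMap.mulRight (ResField M) (1 - eB M B))) ≤
      Module.finrank ℂ (LinearMap.range (LinearMap.mulRight ℂ (1 - EB B))) := by
    have := finrank_range_le_of_RK hRK hE'I (by rw [hred']; exact heid.one_sub)
    rwa [hred'] at this
  have h5 : Module.finrank (ResField M) (blockSub M B) =
      Module.finrank ℂ (LinearMap.range (LinearMap.mulRight ℂ (EB B))) := by
    show Module.finrank (ResField M)
      (LinearMap.range (LinearMap.mulRight (ResField M) (eB M B))) = _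
    omega
  -- the complex dimension
  have hfin : Finite (IrrCharacter G) := Cfsg.Agent.Lib.Helper81_CharOrth.finite_irrCharacter
  have h6 := finrank_range_mulRight_eq hEid
  have h7 : (EB B).coeff 1 = blockCoeff B 1 := by
    have := congrFun (fn_ofFn (blockCoeff B)) (1 : G)
    exact this
  have hG0 : (Fintype.card G : ℂ) ≠ 0 := by
    exact_mod_cast Fintype.card_ne_zero
  rw [h5]
  apply Nat.cast_injective (R := ℂ)
  rw [h6, h7, blockCoeff, Nat.card_eq_fintype_card, ← mul_assoc, mul_inv_cancel₀ hG0, one_mul,
    finsum_mem_eq_finite_toFinset_sum _ (Set.toFinite B),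
    finsum_mem_eq_finite_toFinset_sum _ (Set.toFinite B), Nat.cast_sum]
  refine Finset.sum_congr rfl fun χ _ => ?_
  rw [Cfsg.Agent.Lib.Helper77_BlockBasics.apply_one_eq_charDegree χ, Complex.conj_natCast,
    Nat.cast_pow, sq]

end Grp

end Cfsg.Agent.Lib.Helper77_BR_B3DIMaux
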