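import Mathlib
import Cfsg.Agent.Lib.Helper75_BRDefs
import Cfsg.Agent.Lib.Helper78_CentralNilp
import Cfsg.Agent.Lib.Helper78_CharFacts

set_option autoImplicit false
set_option linter.unusedVariables false

/-!
# Brandt market (architect helper75), package A7b (MOR2) (helper78)
`R = e₀ R e₀ + [R, R]` for a full set of matrix units `e, u, v`.
-/

namespace Cfsg.Agent.Lib.Helper78_BR_A7bMOR2

open Cfsg Cfsg.Agent.Lib.Helper78_LocalRing Cfsg.Agent.Lib.Helper78_GroupRing
  Cfsg.Agent.Lib.Helper79_Residue Cfsg.Agent.Lib.Helper75_BRDefs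

universe u v w

variable {F : Type v} [Field F] {R : Type w} [Ring R] [Algebra F R]

/-- a commutator lies in the commutator space -/
theorem h78_comm_mem (a b : R) : a * b - b * a ∈ commSpan F R :=
  Submodule.subset_span ⟨a, b, rfl⟩

/-- `R = [R,R] + e₀ R e₀` -/
theorem h78_sup_eq_top {n : ℕ} (hn : 0 < n)
    (e u v : Fin n → R) (he : CompleteOrthogonalIdempotents e)
    (h1 : ∀ i, e i * u i = u i) (h2 : ∀ i, u i * e ⟨0, hn⟩ = u i)
    (h3 : ∀ i, e ⟨0, hn⟩ * v i = v i) (h4 : ∀ i, v i * e i = v i)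
    (h5 : ∀ i, v i * u i = e ⟨0, hn⟩) (h6 : ∀ i, u i * v i = e i) :
    commSpan F R ⊔ cornerSub F (e ⟨0, hn⟩) = ⊤ := by
  rw [eq_top_iff]
  intro r _
  have hr : r = ∑ i, ∑ j, e i * r * e j := by
    have h : ∑ i, ∑ j, e i * r * e j = (∑ i, e i) * r * (∑ j, e j) := by
      rw [Finset.sum_mul, Finset.sum_mul]
      refine Finset.sum_congr rfl fun i _ => ?_
      rw [Finset.mul_sum]
    rw [h, he.complete, one_mul, mul_one]
  rw [hr]
  refine Submodule.sum_mem _ fun i _ => Submodule.sum_mem _ fun j _ => ?_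
  by_cases hij : i = j
  · subst hij
    -- diagonal term
    have hc : e i * r * e i = (u i * (v i * r * e i) - (v i * r * e i) * u i) + v i * r * u i := by
      have ha : u i * (v i * r * e i) = e i * r * e i := by
        rw [← mul_assoc, ← mul_assoc, h6 i]
      have hb : (v i * r * e i) * u i = v i * r * u i := by
        rw [mul_assoc (v i * r), h1 i]
      rw [ha, hb]
      abel
    rw [hc]
    refine Submodule.add_mem _ (Submodule.mem_sup_left (h78_comm_mem _ _))
      (Submodule.mem_sup_right ?_)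
    refine ⟨?_, ?_⟩
    · rw [← mul_assoc, ← mul_assoc, h3 i]
    · rw [mul_assoc, h2 i]
  · -- off-diagonal term
    have hji : e j * e i = 0 := he.ortho (fun h => hij h.symm)
    have hc : e i * r * e j = e i * (e i * r * e j) - (e i * r * e j) * e i := by
      have ha : e i * (e i * r * e j) = e i * r * e j := by
        rw [← mul_assoc, ← mul_assoc, (he.idem i).eq]
      have hb : (e i * r * e j) * e i = 0 := by
        rw [mul_assoc, hji, mul_zero]
      rw [ha, hb, sub_zero]
    rw [hc]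
    exact Submodule.mem_sup_left (h78_comm_mem _ _)

/-- **A7b (MOR2)**. `R = e₀ R e₀ + [R,R]`. -/
theorem codim_le_corner [FiniteDimensional F R] {n : ℕ} (hn : 0 < n)
    (e u v : Fin n → R) (he : CompleteOrthogonalIdempotents e)
    (h1 : ∀ i, e i * u i = u i) (h2 : ∀ i, u i * e ⟨0, hn⟩ = u i)
    (h3 : ∀ i, e ⟨0, hn⟩ * v i = v i) (h4 : ∀ i, v i * e i = v i)
    (h5 : ∀ i, v i * u i = e ⟨0, hn⟩) (h6 : ∀ i, u i * v i = e i) :
    Module.finrank F R ≤
      Module.finrank F (commSpan F R) + Module.finrank F (cornerSub F (e ⟨0, hn⟩)) := by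
  have htop := h78_sup_eq_top (F := F) hn e u v he h1 h2 h3 h4 h5 h6
  have h := Submodule.finrank_add_le_finrank_add_finrank (commSpan F R) (cornerSub F (e ⟨0, hn⟩))
  rw [htop, finrank_top] at h
  exact h

end Cfsg.Agent.Lib.Helper78_BR_A7bMOR2
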