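import Mathlib
import Cfsg.Agent.Lib.Helper75_BRDefs
import Cfsg.Agent.Lib.Helper78_CentralNilp
import Cfsg.Agent.Lib.Helper78_CharFacts

set_option autoImplicit false

/-!
# Brandt market (architect helper75), package C2 (NT) (helper78)
Elementary number theory: `f₁² + f₂² ∣ p^a gcd(f₁,f₂)²`.
-/

namespace Cfsg.Agent.Lib.Helper78_BR_C2NT

open Cfsg Cfsg.Agent.Lib.Helper78_LocalRing Cfsg.Agent.Lib.Helper78_GroupRing
  Cfsg.Agent.Lib.Helper79_Residue Cfsg.Agent.Lib.Helper75_BRDefs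

universe u v w

/-- common reduction: `f₁ = g e₁`, `f₂ = g e₂`, `e₁, e₂` coprime, `e₁² + e₂² = p^c` -/
theorem h78_reduce (p : ℕ) (hp : p.Prime) (a f₁ f₂ : ℕ) (h1 : 0 < f₁) (h2 : 0 < f₂)
    (hd : (f₁ ^ 2 + f₂ ^ 2) ∣ p ^ a * (Nat.gcd f₁ f₂) ^ 2) :
    ∃ g e₁ e₂ c : ℕ, 0 < g ∧ 0 < e₁ ∧ 0 < e₂ ∧ f₁ = g * e₁ ∧ f₂ = g * e₂ ∧ Nat.Coprime e₁ e₂ ∧
      e₁ ^ 2 + e₂ ^ 2 = p ^ c := by
  have hg : 0 < Nat.gcd f₁ f₂ := Nat.gcd_pos_of_pos_left _ h1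
  obtain ⟨g, e₁, e₂, hg', hcop, hf1, hf2⟩ := Nat.exists_coprime' hg
  have hgg : g = Nat.gcd f₁ f₂ := by
    have : Nat.gcd f₁ f₂ = g := by
      rw [hf1, hf2, Nat.gcd_mul_right, hcop.gcd_eq_one, one_mul]
    exact this.symm
  have he1 : 0 < e₁ := by
    rcases Nat.eq_zero_or_pos e₁ with h | h
    · rw [h, zero_mul] at hf1; omega
    · exact h
  have he2 : 0 < e₂ := by
    rcases Nat.eq_zero_or_pos e₂ with h | h
    · rw [h, zero_mul] at hf2; omega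
    · exact h
  have hsum : f₁ ^ 2 + f₂ ^ 2 = (e₁ ^ 2 + e₂ ^ 2) * g ^ 2 := by
    rw [hf1, hf2]; ring
  rw [← hgg, hsum] at hd
  have hd' : (e₁ ^ 2 + e₂ ^ 2) ∣ p ^ a :=
    Nat.dvd_of_mul_dvd_mul_right (by positivity) hd
  obtain ⟨c, _, hc⟩ := (Nat.dvd_prime_pow hp).mp hd'
  exact ⟨g, e₁, e₂, c, hg', he1, he2, by rw [hf1, mul_comm], by rw [hf2, mul_comm], hcop, hc⟩

/-- **C2 (NT)**. -/
theorem nt_odd (p : ℕ) (hp : p.Prime) (hodd : p ≠ 2) (a f₁ f₂ n : ℕ) (h1 : 0 < f₁) (h2 : 0 < f₂)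
    (hd : (f₁ ^ 2 + f₂ ^ 2) ∣ p ^ a * (Nat.gcd f₁ f₂) ^ 2) (hn : f₁ ^ 2 + f₂ ^ 2 = 2 * n * n) :
    False := by
  obtain ⟨g, e₁, e₂, c, hg, he1, he2, hf1, hf2, hcop, hc⟩ := h78_reduce p hp a f₁ f₂ h1 h2 hd
  have hn0 : n ≠ 0 := by
    rintro rfl
    have : 0 < f₁ ^ 2 := by positivity
    omega
  have key : g ^ 2 * p ^ c = 2 * n * n := by
    rw [← hn, ← hc, hf1, hf2]; ring
  have hL : (g ^ 2 * p ^ c).factorization 2 = 2 * g.factorization 2 := by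
    rw [Nat.factorization_mul (by positivity) (pow_ne_zero _ hp.ne_zero), Nat.factorization_pow,
      Nat.factorization_pow, hp.factorization]
    simp [hodd]
  have hR : (2 * n * n).factorization 2 = 1 + 2 * n.factorization 2 := by
    rw [Nat.factorization_mul (by positivity) hn0, Nat.factorization_mul (by norm_num) hn0,
      Nat.prime_two.factorization]
    simp
    ring
  rw [key, hR] at hL
  omega

theorem nt_two (a f₁ f₂ : ℕ) (h1 : 0 < f₁) (h2 : 0 < f₂) (hne : f₁ ≠ f₂)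
    (hd : (f₁ ^ 2 + f₂ ^ 2) ∣ 2 ^ a * (Nat.gcd f₁ f₂) ^ 2) : False := by
  obtain ⟨g, e₁, e₂, c, hg, he1, he2, hf1, hf2, hcop, hc⟩ :=
    h78_reduce 2 Nat.prime_two a f₁ f₂ h1 h2 hd
  -- `c ≤ 1`
  have hc1 : c ≤ 1 := by
    by_contra hcon
    push Not at hcon
    have h4 : 4 ∣ e₁ ^ 2 + e₂ ^ 2 := by
      rw [hc]
      exact (show (4 : ℕ) = 2 ^ 2 by norm_num) ▸ pow_dvd_pow 2 hcon
    -- both even
    have hm1 : e₁ % 2 = 0 := by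
      have := Nat.mod_lt e₁ (by norm_num : 0 < 4)
      have hh : (e₁ ^ 2 + e₂ ^ 2) % 4 = 0 := Nat.mod_eq_zero_of_dvd h4
      have := Nat.mod_lt e₂ (by norm_num : 0 < 4)
      rw [Nat.add_mod, Nat.pow_mod, Nat.pow_mod e₂] at hh
      have h3 : e₁ % 4 = 0 ∨ e₁ % 4 = 1 ∨ e₁ % 4 = 2 ∨ e₁ % 4 = 3 := by omega
      have h3' : e₂ % 4 = 0 ∨ e₂ % 4 = 1 ∨ e₂ % 4 = 2 ∨ e₂ % 4 = 3 := by omega
      rcases h3 with h | h | h | h <;> rcases h3' with h' | h' | h' | h' <;>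
        rw [h, h'] at hh <;> simp at hh <;> omega
    have hm2 : e₂ % 2 = 0 := by
      have hh : (e₁ ^ 2 + e₂ ^ 2) % 4 = 0 := Nat.mod_eq_zero_of_dvd h4
      rw [Nat.add_mod, Nat.pow_mod, Nat.pow_mod e₂] at hh
      have h3 : e₁ % 4 = 0 ∨ e₁ % 4 = 1 ∨ e₁ % 4 = 2 ∨ e₁ % 4 = 3 := by omega
      have h3' : e₂ % 4 = 0 ∨ e₂ % 4 = 1 ∨ e₂ % 4 = 2 ∨ e₂ % 4 = 3 := by omega
      rcases h3 with h | h | h | h <;> rcases h3' with h' | h' | h' | h' <;>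
        rw [h, h'] at hh <;> simp at hh <;> omega
    have hd1 : 2 ∣ e₁ := Nat.dvd_of_mod_eq_zero hm1
    have hd2 : 2 ∣ e₂ := Nat.dvd_of_mod_eq_zero hm2
    have := Nat.Coprime.eq_one_of_dvd (Nat.Coprime.coprime_dvd_left hd1 hcop) hd2
    omega
  have hle : e₁ ^ 2 + e₂ ^ 2 ≤ 2 := by
    rw [hc]
    calc 2 ^ c ≤ 2 ^ 1 := Nat.pow_le_pow_right (by norm_num) hc1
      _ = 2 := by norm_num
  have he1' : e₁ = 1 := by
    by_contra h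
    have : 2 ≤ e₁ := by omega
    have : 4 ≤ e₁ ^ 2 := by nlinarith
    have : 0 < e₂ ^ 2 := by positivity
    omega
  have he2' : e₂ = 1 := by
    by_contra h
    have : 2 ≤ e₂ := by omega
    have : 4 ≤ e₂ ^ 2 := by nlinarith
    have : 0 < e₁ ^ 2 := by positivity
    omega
  apply hne
  rw [hf1, hf2, he1', he2']

end Cfsg.Agent.Lib.Helper78_BR_C2NT
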