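import Mathlib
import Cfsg.Agent.Lib.Helper75_BRDefs
import Cfsg.Agent.Lib.Helper78_CentralNilp
import Cfsg.Agent.Lib.Helper78_CharFacts
import Cfsg.Agent.S4491

/-!
# brandt_packages C4 (ONE) (helper88): a block with a single character has defect zero
-/

set_option autoImplicit false

namespace Cfsg.Agent.Lib.Helper88_BR_C4ONE

open Cfsg Cfsg.Agent.Lib.Helper78_LocalRing Cfsg.Agent.Lib.Helper78_GroupRing
  Cfsg.Agent.Lib.Helper79_Residue Cfsg.Agent.Lib.Helper75_BRDefs

universe u v w

section C

variable {G : Type u} [Group G] [Finite G]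

/-- **C4 (ONE)**. A block with a single character has defect zero. -/
theorem defect_of_card_one (p : ℕ) [Fact p.Prime] (M : Ideal AlgInt) (hM : IsPModular p M)
    (B : Set (IrrCharacter G)) (hB : IsPBlock M B) (h1 : Nat.card B = 1) :
    blockDefect p B = 0 := by
  rw [Nat.card_coe_set_eq, Set.ncard_eq_one] at h1
  obtain ⟨χ, rfl⟩ := h1
  have h := Cfsg.Agent.S4491.result p M hM {χ} hB
  have hsum : (∑ᶠ ψ ∈ ({χ} : Set (IrrCharacter G)), charDegree (ψ : G → ℂ) ^ 2) =
      charDegree (χ : G → ℂ) ^ 2 := finsum_mem_singleton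
  rw [hsum, Nat.factorization_pow] at h
  have hd : blockDefect p ({χ} : Set (IrrCharacter G)) =
      (Nat.card G).factorization p - (charDegree (χ : G → ℂ)).factorization p := by
    unfold blockDefect
    rw [Set.image_singleton, csInf_singleton]
  rw [hd] at h ⊢
  simp only [Finsupp.smul_apply, smul_eq_mul] at h
  omega

end C

end Cfsg.Agent.Lib.Helper88_BR_C4ONE
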