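import Mathlib
import Cfsg.Agent.Lib.Helper75_BRDefs
import Cfsg.Agent.Lib.Helper78_CentralNilp
import Cfsg.Agent.Lib.Helper78_CharFacts
import Cfsg.Agent.Lib.Helper77_DefectOrder

/-!
# brandt_packages C5 (DORD) (helper88): the order of a defect group
-/

set_option autoImplicit false

namespace Cfsg.Agent.Lib.Helper88_BR_C5DORD

open Cfsg Cfsg.Agent.Lib.Helper78_LocalRing Cfsg.Agent.Lib.Helper78_GroupRing
  Cfsg.Agent.Lib.Helper79_Residue Cfsg.Agent.Lib.Helper75_BRDefs

universe u v w

section C

variable {G : Type u} [Group G] [Finite G]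

/-- **C5 (DORD)**. The order of a defect group. -/
theorem card_defectGroup_eq (p : ℕ) [Fact p.Prime] (M : Ideal AlgInt) (hM : IsPModular p M)
    (B : Set (IrrCharacter G)) (hB : IsPBlock M B) (D : Subgroup G)
    (hD : IsDefectGroup p M B D) : Nat.card D = p ^ blockDefect p B := by
  obtain ⟨g, hg, P, rfl⟩ := hD
  rw [Subgroup.card_map_of_injective (Subgroup.subtype_injective _)]
  rw [← Cfsg.Agent.Lib.Helper77_DefectOrder.card_defectGroup hM hB hg]
  exact P.card_eq_multiplicity

end C

end Cfsg.Agent.Lib.Helper88_BR_C5DORD
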