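import Mathlib
import Cfsg.Agent.Lib.Helper75_BRDefs

/-!
# Brandt (S4607), package B7 (GLUE), market `brandt_packages` (architect helper75) — helper90

The corner ring `e_B · FG · e_B` of the (central, idempotent) block idempotent satisfies the
hypotheses of Part A: it carries a symmetrizing form (coefficient of `1`), it has the dimension of
the block part, its centre has the dimension of the central block part, and it is connected as
soon as `e_B` is primitive in the centre.
-/

set_option autoImplicit false

namespace Cfsg.Agent.Lib.Helper90_BR_B7GLUE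

open Cfsg Cfsg.Agent.Lib.Helper78_LocalRing Cfsg.Agent.Lib.Helper78_GroupRing
  Cfsg.Agent.Lib.Helper79_Residue Cfsg.Agent.Lib.Helper75_BRDefs

universe u v w

/-! ### the coefficient of `1` in a group algebra -/

section General

variable {k : Type v} [Field k] {G : Type u} [Group G] [Fintype G]

/-- coefficient of `1` in a product -/
theorem coeff_one_mul_eq (x y : MonoidAlgebra k G) :
    (x * y).coeff 1 = ∑ h : G, x.coeff h * y.coeff h⁻¹ := by
  rw [MonoidAlgebra.coeff_mul_apply_left, Finsupp.sum_fintype]
  · simp
  · intro i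
    simp

theorem coeff_one_mul_comm (x y : MonoidAlgebra k G) : (x * y).coeff 1 = (y * x).coeff 1 := by
  rw [coeff_one_mul_eq, coeff_one_mul_eq, ← Equiv.sum_comp (Equiv.inv G)]
  refine Finset.sum_congr rfl fun h _ => ?_
  simp [mul_comm]

omit [Fintype G] in
/-- the coefficient of `1`, as a linear form -/
noncomputable def coeffOne : MonoidAlgebra k G →ₗ[k] k where
  toFun x := x.coeff 1
  map_add' x y := by simp
  map_smul' c x := by simp

omit [Fintype G] in
theorem coeffOne_apply (x : MonoidAlgebra k G) : coeffOne x = x.coeff 1 := rfl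

end General

/-! ### the corner of a central idempotent -/

section Corner

variable {R : Type w} [Ring R] {e : R}

/-- for a central idempotent `e`, an element of the corner which is central in the corner is
central in `R` -/
theorem central_of_corner_central (he : IsIdempotentElem e) (hc : ∀ x, e * x = x * e)
    (z : he.Corner) (hz : ∀ y : he.Corner, z * y = y * z) (y : R) : z.1 * y = y * z.1 := by
  have hz1 : e * z.1 = z.1 := ((Subsemigroup.mem_corner_iff he).mp z.2).1
  have hz2 : z.1 * e = z.1 := ((Subsemigroup.mem_corner_iff he).mp z.2).2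
  have h1 : z.1 * (e * y * e) = (e * y * e) * z.1 :=
    congrArg Subtype.val (hz ⟨e * y * e, y, rfl⟩)
  have h2 : e * y * e = e * y := by rw [mul_assoc, ← hc y, ← mul_assoc, he.eq]
  rw [h2] at h1
  calc z.1 * y = z.1 * e * y := by rw [hz2]
    _ = z.1 * (e * y) := by rw [mul_assoc]
    _ = e * y * z.1 := h1
    _ = y * e * z.1 := by rw [hc y]
    _ = y * z.1 := by rw [mul_assoc, hz1]

end Corner

/-! ### Part B, package B7 -/

section B

variable {G : Type u} [Group G] [Fintype G] {M : Ideal AlgInt} [hmax : M.IsMaximal]

theorem cornerSub_eq_blockSub {B : Set (IrrCharacter G)} (he : IsIdempotentElem (eB M B))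
    (hc : ∀ x, eB M B * x = x * eB M B) :
    cornerSub (ResField M) (eB M B) = blockSub M B := by
  ext x
  rw [mem_cornerSub]
  unfold blockSub
  rw [LinearMap.mem_range]
  constructor
  · rintro ⟨_, h2⟩
    exact ⟨x, by rw [LinearMap.mulRight_apply, h2]⟩
  · rintro ⟨y, rfl⟩
    rw [LinearMap.mulRight_apply]
    constructor
    · rw [hc, mul_assoc, he.eq]
    · rw [mul_assoc, he.eq]

theorem map_center_eq {B : Set (IrrCharacter G)} (he : IsIdempotentElem (eB M B))
    (hc : ∀ x, eB M B * x = x * eB M B) :
    (Subalgebra.toSubmodule (Subalgebra.center (ResField M) he.Corner)).map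
      (cornerVal (F := ResField M) he) = blockCenterSub M B := by
  ext x
  constructor
  · rintro ⟨z, hz, rfl⟩
    have hz0 : z ∈ Subalgebra.center (ResField M) he.Corner := hz
    have hz' : ∀ y : he.Corner, z * y = y * z := fun y =>
      (((Subalgebra.mem_center_iff (R := ResField M) (A := he.Corner)).mp hz0) y).symm
    exact ⟨fun y => central_of_corner_central he hc z hz' y,
      ((Subsemigroup.mem_corner_iff he).mp z.2).2⟩
  · rintro ⟨h1, h2⟩
    have hx : x ∈ Subsemigroup.corner (eB M B) :=
      (Subsemigroup.mem_corner_iff he).mpr ⟨by rw [hc, h2], h2⟩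
    let z : he.Corner := ⟨x, hx⟩
    have hzmem : z ∈ Subalgebra.center (ResField M) he.Corner := by
      rw [Subalgebra.mem_center_iff]
      intro y
      exact Subtype.ext (h1 y.1).symm
    exact ⟨z, hzmem, rfl⟩

/-- The symmetrizing form (coefficient of `1`) on the block algebra. -/
theorem exists_blockSymForm {B : Set (IrrCharacter G)} (he : IsIdempotentElem (eB M B))
    (hc : ∀ x, eB M B * x = x * eB M B) : Nonempty (SymForm (ResField M) he.Corner) := by
  classical
  refine ⟨{ lam := coeffOne ∘ₗ cornerVal (F := ResField M) he, symm := ?_, nondeg := ?_ }⟩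
  · intro a b
    simp only [LinearMap.comp_apply, cornerVal_apply, coe_mul, coeffOne_apply]
    exact coeff_one_mul_comm a.1 b.1
  · intro a ha
    apply Subtype.ext
    rw [coe_zero]
    ext g
    have ha2 : a.1 * eB M B = a.1 := ((Subsemigroup.mem_corner_iff he).mp a.2).2
    let y : he.Corner := ⟨eB M B * MonoidAlgebra.single g⁻¹ 1 * eB M B, _, rfl⟩
    have hy1 : y.1 = eB M B * MonoidAlgebra.single g⁻¹ 1 * eB M B := rfl
    have hy := ha y
    rw [LinearMap.comp_apply, cornerVal_apply, coe_mul he a y, coeffOne_apply, hy1] at hy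
    have h3 : a.1 * (eB M B * MonoidAlgebra.single g⁻¹ 1 * eB M B) =
        a.1 * MonoidAlgebra.single g⁻¹ 1 := by
      rw [hc (MonoidAlgebra.single g⁻¹ 1), mul_assoc, he.eq, ← hc (MonoidAlgebra.single g⁻¹ 1),
        ← mul_assoc, ha2]
    rw [h3, MonoidAlgebra.coeff_mul_single_apply, inv_inv, one_mul, mul_one] at hy
    rw [hy]
    simp

theorem finrank_corner_eq {B : Set (IrrCharacter G)} (he : IsIdempotentElem (eB M B))
    (hc : ∀ x, eB M B * x = x * eB M B) :
    Module.finrank (ResField M) he.Corner = Module.finrank (ResField M) (blockSub M B) := by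
  rw [← cornerSub_eq_blockSub he hc, ← range_cornerVal he]
  exact (LinearMap.finrank_range_of_inj (cornerVal_injective he)).symm

theorem finrank_center_corner {B : Set (IrrCharacter G)} (he : IsIdempotentElem (eB M B))
    (hc : ∀ x, eB M B * x = x * eB M B) :
    Module.finrank (ResField M) (Subalgebra.center (ResField M) he.Corner) =
      Module.finrank (ResField M) (blockCenterSub M B) := by
  rw [← map_center_eq he hc, ← Subalgebra.finrank_toSubmodule]
  exact LinearEquiv.finrank_eq (Submodule.equivMapOfInjective (cornerVal (F := ResField M) he)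
    (cornerVal_injective he)
    (Subalgebra.toSubmodule (Subalgebra.center (ResField M) he.Corner)))

theorem corner_conn {B : Set (IrrCharacter G)} (he : IsIdempotentElem (eB M B))
    (hc : ∀ x, eB M B * x = x * eB M B)
    (hprim : ∀ z : MonoidAlgebra (ResField M) G, (∀ y, z * y = y * z) → z * z = z →
      z * eB M B = z → z = 0 ∨ z = eB M B) :
    ∀ z : he.Corner, (∀ y, z * y = y * z) → z * z = z → z = 0 ∨ z = 1 := by
  intro z hzc hzz
  have h1 : ∀ y, z.1 * y = y * z.1 := central_of_corner_central he hc z hzc
  have h2 : z.1 * z.1 = z.1 := congrArg Subtype.val hzz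
  have h3 : z.1 * eB M B = z.1 := ((Subsemigroup.mem_corner_iff he).mp z.2).2
  rcases hprim z.1 h1 h2 h3 with h | h
  · left
    exact Subtype.ext h
  · right
    exact Subtype.ext h

end B

end Cfsg.Agent.Lib.Helper90_BR_B7GLUE
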