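import Mathlib
import Cfsg.Agent.Lib.Helper75_BRDefs
import Cfsg.Agent.Lib.Helper77_BlockBasics
import Cfsg.Agent.S4494
import Cfsg.Agent.Lib.Helper27_BR_A4bONE
import Cfsg.Agent.Lib.Helper3_BR_B0ACL
import Cfsg.Agent.Lib.Helper3_BR_RKLIFTIND
import Cfsg.Agent.Lib.Helper42_BR_C1ARITH
import Cfsg.Agent.Lib.Helper43_BR_B5PRIM
import Cfsg.Agent.Lib.Helper45_BR_A5MU
import Cfsg.Agent.Lib.Helper53_BR_A1SYM
import Cfsg.Agent.Lib.Helper58_BR_A3_SURJ
import Cfsg.Agent.Lib.Helper58_BR_A4a_WED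
import Cfsg.Agent.Lib.Helper60_BR_C3EQDEG
import Cfsg.Agent.Lib.Helper6_BR_A6
import Cfsg.Agent.Lib.Helper6_BR_A7a
import Cfsg.Agent.Lib.Helper75_BR_IDEM
import Cfsg.Agent.Lib.Helper77_BR_A8LOC
import Cfsg.Agent.Lib.Helper77_BR_B3DIMaux
import Cfsg.Agent.Lib.Helper78_BR_A7bMOR2
import Cfsg.Agent.Lib.Helper78_BR_C2NT
import Cfsg.Agent.Lib.Helper83_BR_A2PI
import Cfsg.Agent.Lib.Helper88_BR_C4ONE
import Cfsg.Agent.Lib.Helper88_BR_C5DORD
import Cfsg.Agent.Lib.Helper90_BR_B7GLUE
import Cfsg.Agent.Lib.Helper99_BR_B4CEN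

/-!
# S4607 (Brandt): a block has exactly two irreducible characters iff its defect group has order 2
(helper75; assembly of the `brandt_packages` market)

* `dim_eq_two_mul_sq`: a symmetric, connected finite-dimensional algebra over an algebraically
  closed field whose centre has dimension `2` has dimension `2 n²` (Külshammer's argument).
* `two_iff_two`: the row.
-/

set_option autoImplicit false

namespace Cfsg.Agent.Lib.Helper75_BRMain

open Cfsg Cfsg.Agent.Lib.Helper78_LocalRing Cfsg.Agent.Lib.Helper78_GroupRing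
  Cfsg.Agent.Lib.Helper79_Residue Cfsg.Agent.Lib.Helper75_BRDefs

universe u v w

section A

variable {F : Type v} [Field F] {R : Type w} [Ring R] [Algebra F R]

/-- A symmetric, connected algebra over an algebraically closed field whose centre has
dimension `2` has dimension `2 n²`. -/
theorem dim_eq_two_mul_sq [IsAlgClosed F] [FiniteDimensional F R] (φ : SymForm F R)
    (hZ : Module.finrank F (Subalgebra.center F R) = 2)
    (hconn : ∀ z : R, (∀ y, z * y = y * z) → z * z = z → z = 0 ∨ z = 1) :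
    ∃ n : ℕ, Module.finrank F R = 2 * n * n := by
  obtain ⟨l, d, hd, π, hπ, N, hN⟩ := Cfsg.Agent.Lib.Helper58_BR_A4a_WED.exists_pi_matrix (F := F) (R := R)
  obtain ⟨n, hn, π', hπ', hker⟩ := Cfsg.Agent.Lib.Helper27_BR_A4bONE.pi_matrix_single φ hZ hconn l d hd π hπ N hN
  have hN' : ∀ L : List R, L.length = N → (∀ x ∈ L, π' x = 0) → L.prod = 0 :=
    fun L hL hx => hN L hL (fun x hxL => (hker x).mp (hx x hxL))
  have hnil : ∀ x, π' x = 0 → IsNilpotent x := by
    intro x hx
    refine ⟨N, ?_⟩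
    have := hN' (List.replicate N x) (List.length_replicate ..) (by
      intro y hy
      rw [List.eq_of_mem_replicate hy]
      exact hx)
    rwa [List.prod_replicate] at this
  obtain ⟨e, u, v, he, hπe, h1, h2, h3, h4, h5, h6⟩ := Cfsg.Agent.Lib.Helper45_BR_A5MU.exists_matrix_units hn π' hπ' hnil
  have hA := Cfsg.Agent.Lib.Helper53_BR_A1SYM.finrank_center_add_commSpan φ
  have hP := Cfsg.Agent.Lib.Helper6_BR_A6.finrank_eq_sq_mul_corner (F := F) hn e u v he h1 h2 h3 h4 h5 h6
  have hM1 := Cfsg.Agent.Lib.Helper6_BR_A7a.corner_codim_le (F := F) hn e u v he h1 h2 h3 h4 h5 h6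
  have hM2 := Cfsg.Agent.Lib.Helper78_BR_A7bMOR2.codim_le_corner (F := F) hn e u v he h1 h2 h3 h4 h5 h6
  have hle : Module.finrank F (cornerSub F (e ⟨0, hn⟩)) ≤ 2 := by
    apply Cfsg.Agent.Lib.Helper77_BR_A8LOC.corner_local_finrank_le_two hn π' N hN' (e ⟨0, hn⟩) (he.idem _) (hπe _)
    omega
  have hge : 2 ≤ Module.finrank F (cornerSub F (e ⟨0, hn⟩)) := by omega
  refine ⟨n, ?_⟩
  rw [hP, le_antisymm hle hge]
  ring

end A

section Main

open Classical in
/-- **Brandt's theorem** (row S4607). -/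
theorem two_iff_two {G : Type u} [Group G] [Finite G] (p : ℕ) [Fact p.Prime]
    (M : Ideal Cfsg.AlgInt) (hM : Cfsg.IsPModular p M) (B : Set (Cfsg.IrrCharacter G))
    (hB : Cfsg.IsPBlock M B) (D : Subgroup G) (hD : Cfsg.IsDefectGroup p M B D) :
    Nat.card B = 2 ↔ Nat.card D = 2 := by
  have hp : p.Prime := Fact.out
  have hmax : M.IsMaximal := hM.2.1
  have hMp : M.IsPrime := hmax.isPrime
  have hcardD := Cfsg.Agent.Lib.Helper88_BR_C5DORD.card_defectGroup_eq p M hM B hB D hD
  have hBF := Cfsg.Agent.S4494.result p M hM B hB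
  have hfinB : Finite (IrrCharacter G) := by
    have := Fintype.ofFinite G
    exact (Cfsg.Agent.Lib.Helper78_CharFacts.charFacts (G := G)).finite
  constructor
  · intro h2
    obtain ⟨χ₁, χ₂, h12, hBeq⟩ : ∃ χ₁ χ₂ : IrrCharacter G, χ₁ ≠ χ₂ ∧ B = {χ₁, χ₂} := by
      have : B.ncard = 2 := by rw [← Nat.card_coe_set_eq]; exact h2
      obtain ⟨x, y, hxy, rfl⟩ := Set.ncard_eq_two.mp this
      exact ⟨x, y, hxy, rfl⟩
    set f₁ := charDegree (χ₁ : G → ℂ) with hf₁
    set f₂ := charDegree (χ₂ : G → ℂ) with hf₂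
    by_cases hf : f₁ = f₂
    · -- equal degrees: the defect is `v_p(2)`
      have hd := Cfsg.Agent.Lib.Helper60_BR_C3EQDEG.defect_of_equal_degrees p M hM B hB χ₁ χ₂ h12 hBeq hf
      by_cases hp2 : p = 2
      · subst hp2
        rw [hcardD, hd]
        simp [Nat.Prime.factorization_self Nat.prime_two]
      · exfalso
        have h0 : blockDefect p B = 0 := by
          rw [hd]
          exact Nat.factorization_eq_zero_of_not_dvd (fun hdvd =>
            hp2 ((Nat.prime_dvd_prime_iff_eq hp Nat.prime_two).mp hdvd))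
        rw [h0, h2] at hBF
        norm_num at hBF
    · exfalso
      have hdvd := Cfsg.Agent.Lib.Helper42_BR_C1ARITH.two_chars_dvd p M hM B hB χ₁ χ₂ h12 hBeq
      have hpos₁ : 0 < f₁ := Cfsg.Agent.Lib.Helper77_BlockBasics.charDegree_pos χ₁
      have hpos₂ : 0 < f₂ := Cfsg.Agent.Lib.Helper77_BlockBasics.charDegree_pos χ₂
      by_cases hp2 : p = 2
      · subst hp2
        exact Cfsg.Agent.Lib.Helper78_BR_C2NT.nt_two _ f₁ f₂ hpos₁ hpos₂ hf hdvd
      · -- the algebra: `f₁² + f₂² = 2 n²`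
        have := Fintype.ofFinite G
        have hidem := Cfsg.Agent.Lib.Helper75_BR_IDEM.eB_idem (M := M) hB
        have hcen := Cfsg.Agent.Lib.Helper75_BR_IDEM.eB_central (M := M) hB
        have hfd : FiniteDimensional (ResField M) hidem.Corner := corner_finiteDimensional hidem
        have hacl : IsAlgClosed (ResField M) := Cfsg.Agent.Lib.Helper3_BR_B0ACL.resField_isAlgClosed
        obtain ⟨φ⟩ := Cfsg.Agent.Lib.Helper90_BR_B7GLUE.exists_blockSymForm (M := M) hidem hcen
        have hZ : Module.finrank (ResField M)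
            (Subalgebra.center (ResField M) hidem.Corner) = 2 := by
          rw [Cfsg.Agent.Lib.Helper90_BR_B7GLUE.finrank_center_corner hidem hcen, Cfsg.Agent.Lib.Helper99_BR_B4CEN.finrank_blockCenterSub hB, h2]
        have hconn := Cfsg.Agent.Lib.Helper90_BR_B7GLUE.corner_conn hidem hcen (Cfsg.Agent.Lib.Helper43_BR_B5PRIM.eB_primitive hB)
        obtain ⟨n, hn⟩ := dim_eq_two_mul_sq φ hZ hconn
        rw [Cfsg.Agent.Lib.Helper90_BR_B7GLUE.finrank_corner_eq hidem hcen, (Cfsg.Agent.Lib.Helper77_BR_B3DIMaux.finrank_blockSub_of (M := M) (fun r a ha h => Cfsg.Agent.Lib.Helper3_BR_RKLIFTIND.linearIndependent_of_redG a ha h)) hB] at hn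
        have hsum : ∑ᶠ χ ∈ B, charDegree (χ : G → ℂ) ^ 2 = f₁ ^ 2 + f₂ ^ 2 := by
          rw [hBeq]
          exact finsum_mem_pair h12
        rw [hsum] at hn
        exact Cfsg.Agent.Lib.Helper78_BR_C2NT.nt_odd p hp hp2 _ f₁ f₂ n hpos₁ hpos₂ hdvd hn
  · intro hD2
    rw [hcardD] at hD2
    -- `p ^ d = 2`, so `p = 2` and `d = 1`
    have hpd : p = 2 ∧ blockDefect p B = 1 := by
      have h1 : blockDefect p B ≠ 0 := by
        intro h0
        rw [h0, pow_zero] at hD2
        omega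
      have hdvd : p ∣ 2 := by
        rw [← hD2]
        exact dvd_pow_self p h1
      have hp2 : p = 2 := (Nat.prime_dvd_prime_iff_eq hp Nat.prime_two).mp hdvd
      refine ⟨hp2, ?_⟩
      subst hp2
      have : (2 : ℕ) ^ blockDefect 2 B = 2 ^ 1 := by rw [hD2]; norm_num
      exact Nat.pow_right_injective (le_refl 2) this
    obtain ⟨hp2, hd1⟩ := hpd
    subst hp2
    rw [hd1] at hBF
    have hle : Nat.card B ≤ 2 := by omega
    have hne : B.Nonempty := isPBlock_nonempty hMp hB
    have hpos : 0 < Nat.card B := by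
      have : Nonempty B := hne.to_subtype
      exact Nat.card_pos
    have hne1 : Nat.card B ≠ 1 := by
      intro h1
      have := Cfsg.Agent.Lib.Helper88_BR_C4ONE.defect_of_card_one 2 M hM B hB h1
      omega
    omega

end Main

end Cfsg.Agent.Lib.Helper75_BRMain
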