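import Mathlib
import Cfsg.Agent.Lib.Helper75_BRDefs
import Cfsg.Agent.Lib.Helper75_BR_IDEM
import Cfsg.Agent.Lib.Helper78_CharFacts
import Cfsg.Agent.Lib.Helper80_CharComplete

/-!
# S4607 market, pieces for package B4 (CEN) (helper75)

* `centralSub k G`: the centre of the group algebra `k[G]` as a subspace, and
  `finrank_centralSub`: its dimension is the number of conjugacy classes (any field `k`).
* `finrank_centralIdem_le`: over `ℂ`, the central elements `a` with `a * A = a` have dimension at
  most the number of irreducible characters not killed by `A`.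
-/

set_option autoImplicit false

namespace Cfsg.Agent.Lib.Helper75_BR_B4Z

open Cfsg Cfsg.Agent.Lib.Helper78_LocalRing Cfsg.Agent.Lib.Helper78_GroupRing
  Cfsg.Agent.Lib.Helper75_BRDefs Cfsg.Agent.Lib.Helper78_Osima Cfsg.Agent.Lib.Helper78_CharFacts

universe u v

section P1

variable (k : Type v) [Field k] (G : Type u) [Group G] [Fintype G]

/-- The centre of the group algebra as a subspace. -/
def centralSub : Submodule k (MonoidAlgebra k G) where
  carrier := {x | ∀ y, x * y = y * x}
  add_mem' := by
    intro x y hx hy z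
    rw [add_mul, mul_add, hx z, hy z]
  zero_mem' := fun z => by rw [zero_mul, mul_zero]
  smul_mem' := by
    intro c x hx z
    rw [smul_mul_assoc, mul_smul_comm, hx z]

variable {k G}

theorem mem_centralSub {x : MonoidAlgebra k G} : x ∈ centralSub k G ↔ ∀ y, x * y = y * x :=
  Iff.rfl

theorem coeff_conj_of_mem_centralSub {x : MonoidAlgebra k G} (hx : x ∈ centralSub k G)
    (g h : G) : x.coeff (h * g * h⁻¹) = x.coeff g := by
  have h1 := hx (MonoidAlgebra.single h 1)
  have h2 : (x * MonoidAlgebra.single h 1).coeff (h * g) = x.coeff (h * g * h⁻¹) := by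
    rw [MonoidAlgebra.coeff_mul_single_apply, mul_one]
  have h3 : (MonoidAlgebra.single h 1 * x).coeff (h * g) = x.coeff g := by
    rw [MonoidAlgebra.coeff_single_mul_apply, one_mul, inv_mul_cancel_left]
  rw [← h2, h1, h3]

theorem mem_centralSub_of_coeff_conj {x : MonoidAlgebra k G}
    (hx : ∀ g h : G, x.coeff (h * g * h⁻¹) = x.coeff g) : x ∈ centralSub k G := by
  intro y
  induction y using MonoidAlgebra.induction_on with
  | of h =>
    ext g
    show (x * MonoidAlgebra.single h 1).coeff g = (MonoidAlgebra.single h 1 * x).coeff g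
    rw [MonoidAlgebra.coeff_mul_single_apply, MonoidAlgebra.coeff_single_mul_apply, mul_one,
      one_mul]
    have := hx (h⁻¹ * g) h
    rw [← this]
    congr 1
    group
  | add a b ha hb => rw [mul_add, add_mul, ha, hb]
  | smul c a ha => rw [mul_smul_comm, smul_mul_assoc, ha]

variable (k G)

/-- Class functions `ConjClasses G → k` as elements of the group algebra. -/
noncomputable def classMap : (ConjClasses G → k) →ₗ[k] MonoidAlgebra k G where
  toFun f := MonoidAlgebra.ofCoeff (Finsupp.equivFunOnFinite.symm (fun g => f (ConjClasses.mk g)))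
  map_add' f f' := by
    ext g
    simp
  map_smul' c f := by
    ext g
    simp

theorem classMap_coeff (f : ConjClasses G → k) (g : G) :
    (classMap k G f).coeff g = f (ConjClasses.mk g) := by
  simp [classMap]

theorem classMap_injective : Function.Injective (classMap k G) := by
  intro f f' h
  funext c
  obtain ⟨g, rfl⟩ := ConjClasses.mk_surjective c
  have h1 := classMap_coeff k G f g
  have h2 := classMap_coeff k G f' g
  rw [← h1, ← h2, h]

theorem range_classMap : LinearMap.range (classMap k G) = centralSub k G := by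
  ext x
  constructor
  · rintro ⟨f, rfl⟩
    apply mem_centralSub_of_coeff_conj
    intro g h
    rw [classMap_coeff, classMap_coeff]
    congr 1
    exact ConjClasses.mk_eq_mk_iff_isConj.mpr (isConj_iff.mpr ⟨h⁻¹, by group⟩)
  · intro hx
    refine ⟨fun c => x.coeff (Quotient.out c), ?_⟩
    ext g
    rw [classMap_coeff]
    have h1 : ConjClasses.mk (Quotient.out (ConjClasses.mk g)) = ConjClasses.mk g :=
      Quotient.out_eq _
    obtain ⟨c, hc⟩ := isConj_iff.mp (ConjClasses.mk_eq_mk_iff_isConj.mp h1)
    have h2 := coeff_conj_of_mem_centralSub hx (Quotient.out (ConjClasses.mk g)) c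
    rw [hc] at h2
    exact h2.symm

theorem finrank_centralSub :
    Module.finrank k (centralSub k G) = Nat.card (ConjClasses G) := by
  classical
  rw [← range_classMap, LinearMap.finrank_range_of_inj (classMap_injective k G),
    Module.finrank_pi, Nat.card_eq_fintype_card]

end P1

section P2

variable {G : Type u} [Group G] [Fintype G]

theorem Om_add (χ : G → ℂ) (a b : MonoidAlgebra ℂ G) : Om χ (a + b) = Om χ a + Om χ b := by
  unfold Om omega
  rw [fn_add]
  simp only [Pi.add_apply, add_mul, Finset.sum_add_distrib, add_div]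

theorem isCentral_add {a b : MonoidAlgebra ℂ G} (ha : IsCentral a) (hb : IsCentral b) :
    IsCentral (a + b) := by
  unfold IsCentral
  rw [fn_add]
  intro g h
  simp only [Pi.add_apply]
  rw [ha g h, hb g h]

theorem isCentral_zero : IsCentral (0 : MonoidAlgebra ℂ G) := by
  unfold IsCentral
  rw [fn_zero]
  intro g h
  rfl

/-- The central elements `a` of `ℂG` with `a * A = a`. -/
def centralIdemSub (A : MonoidAlgebra ℂ G) : Submodule ℂ (MonoidAlgebra ℂ G) where
  carrier := {a | IsCentral a ∧ a * A = a}
  add_mem' := by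
    rintro x y ⟨hx1, hx2⟩ ⟨hy1, hy2⟩
    exact ⟨isCentral_add hx1 hy1, by rw [add_mul, hx2, hy2]⟩
  zero_mem' := ⟨isCentral_zero, zero_mul _⟩
  smul_mem' := by
    rintro c x ⟨hx1, hx2⟩
    exact ⟨isCentral_smul c hx1, by rw [smul_mul_assoc, hx2]⟩

theorem mem_centralIdemSub {A a : MonoidAlgebra ℂ G} :
    a ∈ centralIdemSub A ↔ IsCentral a ∧ a * A = a := Iff.rfl

/-- The tuple of central characters restricted to `S`, on `centralIdemSub A`. -/
noncomputable def omTuple (A : MonoidAlgebra ℂ G) (S : Set (IrrCharacter G)) :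
    centralIdemSub A →ₗ[ℂ] (S → ℂ) where
  toFun a := fun χ => Om ((χ : IrrCharacter G) : G → ℂ) (a : MonoidAlgebra ℂ G)
  map_add' a b := by
    funext χ
    simp only [Submodule.coe_add, Pi.add_apply]
    exact Om_add _ _ _
  map_smul' c a := by
    funext χ
    simp only [Submodule.coe_smul, Pi.smul_apply, RingHom.id_apply, smul_eq_mul]
    exact Om_smul _ _ _

theorem omTuple_injective {A : MonoidAlgebra ℂ G} (hAc : IsCentral A)
    {S : Set (IrrCharacter G)}
    (hA : ∀ χ : IrrCharacter G, χ ∉ S → Om (χ : G → ℂ) A = 0) :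
    Function.Injective (omTuple A S) := by
  rw [← LinearMap.ker_eq_bot, LinearMap.ker_eq_bot']
  rintro ⟨a, hac, haA⟩ h0
  apply Subtype.ext
  show a = 0
  apply fn_injective
  rw [fn_zero]
  apply eq_zero_of_omega_eq_zero charFacts hac
  intro χ
  show Om (χ : G → ℂ) a = 0
  by_cases hχ : χ ∈ S
  · exact congrFun h0 ⟨χ, hχ⟩
  · rw [← haA, Om_mul χ.2 a hAc, hA χ hχ, mul_zero]

/-- **P2**: if `A` is central and `Om χ A = 0` for all `χ ∉ S`, then the central elements `a` with
`a * A = a` form a space of dimension at most `|S|`. -/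
theorem finrank_centralIdemSub_le {A : MonoidAlgebra ℂ G} (hAc : IsCentral A)
    {S : Set (IrrCharacter G)}
    (hA : ∀ χ : IrrCharacter G, χ ∉ S → Om (χ : G → ℂ) A = 0) :
    Module.finrank ℂ (centralIdemSub A) ≤ Nat.card S := by
  classical
  have hfin : Finite (IrrCharacter G) := by
    by_contra hinf
    rw [not_finite_iff_infinite] at hinf
    have h1 := Cfsg.Agent.Lib.Helper80_CharComplete.card_irr_eq_card_conjClasses (G := G)
    rw [Nat.card_eq_zero_of_infinite] at h1
    have h2 : 0 < Nat.card (ConjClasses G) := Nat.card_pos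
    omega
  have : Fintype S := Fintype.ofFinite S
  have h := LinearMap.finrank_le_finrank_of_injective (omTuple_injective hAc hA)
  rw [Module.finrank_pi, ← Nat.card_eq_fintype_card] at h
  exact h

theorem finrank_centralIdemSub_EB_le (B : Set (IrrCharacter G)) :
    Module.finrank ℂ (centralIdemSub (EB B)) ≤ Nat.card B := by
  classical
  apply finrank_centralIdemSub_le (Cfsg.Agent.Lib.Helper75_BR_IDEM.EB_isCentral B)
  intro χ hχ
  rw [Cfsg.Agent.Lib.Helper75_BR_IDEM.Om_EB, if_neg hχ]

theorem finrank_centralIdemSub_one_sub_EB_le (B : Set (IrrCharacter G)) :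
    Module.finrank ℂ (centralIdemSub (1 - EB B)) ≤ Nat.card (Bᶜ : Set (IrrCharacter G)) := by
  classical
  apply finrank_centralIdemSub_le
    (isCentral_sub isCentral_one (Cfsg.Agent.Lib.Helper75_BR_IDEM.EB_isCentral B))
  intro χ hχ
  have hχB : χ ∈ B := by
    by_contra h
    exact hχ h
  rw [Om_sub, Om_one χ.2, Cfsg.Agent.Lib.Helper75_BR_IDEM.Om_EB, if_pos hχB, sub_self]

end P2

end Cfsg.Agent.Lib.Helper75_BR_B4Z
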