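import Mathlib

/-!
# Splitting off the `e`-part of a central subgroup (helper75)

If `Z` is a central subgroup of the finite group `G₀` and `e` is coprime to `[G₀ : Z]`, then
`G₀ = K × Z'` where `Z' ≤ Z` has order involving only primes dividing `e` and `K` is the set of
solutions of `g ^ k = 1` for some `k` coprime to `e`.
-/

set_option autoImplicit false

namespace Cfsg.Agent.Lib.Helper75_CentralSplit

/-- Splitting a natural number into a part built from primes of `e` and a part coprime to `e`. -/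
theorem exists_coprime_part (a e : ℕ) (ha : 0 < a) :
    ∃ g b : ℕ, a = g * b ∧ b.Coprime e ∧ ∀ p : ℕ, p.Prime → p ∣ g → p ∣ e := by
  refine ⟨Nat.gcd a (e ^ a), a / Nat.gcd a (e ^ a),
    (Nat.mul_div_cancel' (Nat.gcd_dvd_left _ _)).symm, ?_, ?_⟩
  · apply Nat.coprime_of_dvd
    intro p hp hpb hpe
    set g := Nat.gcd a (e ^ a) with hg
    have hab : a = g * (a / g) := (Nat.mul_div_cancel' (Nat.gcd_dvd_left _ _)).symm
    have hv : p ^ a.factorization p ∣ a := Nat.ordProj_dvd a p
    have hva : a.factorization p < a := Nat.factorization_lt p ha.ne'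
    have hve : p ^ a.factorization p ∣ e ^ a :=
      dvd_trans (pow_dvd_pow p hva.le) (pow_dvd_pow_of_dvd hpe a)
    have hvg : p ^ a.factorization p ∣ g := Nat.dvd_gcd hv hve
    have h1 : p ^ (a.factorization p + 1) ∣ a := by
      rw [pow_succ]
      conv_rhs => rw [hab]
      exact mul_dvd_mul hvg hpb
    exact Nat.pow_succ_factorization_not_dvd ha.ne' hp h1
  · intro p hp hpg
    exact hp.dvd_of_dvd_pow (dvd_trans hpg (Nat.gcd_dvd_right _ _))

variable {G₀ : Type*} [Group G₀] [Finite G₀]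

/-- The splitting. -/
theorem central_split (Z : Subgroup G₀) (hZ : ∀ z ∈ Z, ∀ g : G₀, z * g = g * z) (e : ℕ)
    (hcop : e.Coprime Z.index) :
    ∃ (K Z' : Subgroup G₀) (k : ℕ), Z' ≤ Z ∧ k.Coprime e ∧ (∀ g : G₀, g ∈ K ↔ g ^ k = 1) ∧
      (∀ p : ℕ, p.Prime → p ∣ Nat.card Z' → p ∣ e) ∧ K ⊔ Z' = ⊤ ∧ K ⊓ Z' = ⊥ := by
  classical
  obtain ⟨g₀, b, hab, hbe, hg₀⟩ := exists_coprime_part (Nat.card Z) e Nat.card_pos
  -- the power map on `Z`
  let pw : Z →* Z := MonoidHom.mk' (fun z => z ^ g₀) (by
    intro x y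
    have hc : Commute x y := by
      apply Subtype.ext
      exact hZ x x.2 y
    exact hc.mul_pow g₀)
  set Z'₀ : Subgroup Z := pw.ker with hZ'₀
  set M : Subgroup G₀ := Z'₀.map Z.subtype with hM
  have hMZ : M ≤ Z := Subgroup.map_subtype_le _
  have hMcard : Nat.card M = Nat.card Z'₀ :=
    Subgroup.card_map_of_injective Z.subtype_injective
  -- primes of `|Z'₀|` divide `e`
  have hprimeM : ∀ p : ℕ, p.Prime → p ∣ Nat.card Z'₀ → p ∣ e := by
    intro p hp hpd
    have : Fact p.Prime := ⟨hp⟩
    obtain ⟨z, hz⟩ := exists_prime_orderOf_dvd_card' p hpd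
    apply hg₀ p hp
    rw [← hz]
    apply orderOf_dvd_of_pow_eq_one
    have h1 : pw (z : Z) = 1 := z.2
    apply Subtype.ext
    have : ((z : Z) ^ g₀) = 1 := h1
    rw [Subgroup.coe_pow, this, Subgroup.coe_one]
  -- primes of `|range pw|` divide `b`
  have hprimeR : ∀ p : ℕ, p.Prime → p ∣ Nat.card pw.range → p ∣ b := by
    intro p hp hpd
    have : Fact p.Prime := ⟨hp⟩
    obtain ⟨w, hw⟩ := exists_prime_orderOf_dvd_card' p hpd
    rw [← hw]
    apply orderOf_dvd_of_pow_eq_one
    obtain ⟨z, hz⟩ := w.2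
    apply Subtype.ext
    rw [Subgroup.coe_pow, ← hz, Subgroup.coe_one]
    show (z ^ g₀) ^ b = 1
    rw [← pow_mul, ← hab]
    exact pow_card_eq_one'
  have hindexM : M.index = Nat.card pw.range * Z.index := by
    rw [← Subgroup.relIndex_mul_index hMZ, Subgroup.relIndex, hM]
    have : (Subgroup.map Z.subtype Z'₀).subgroupOf Z = Z'₀ :=
      Subgroup.comap_map_eq_self_of_injective Z.subtype_injective Z'₀
    rw [this, hZ'₀, Subgroup.index_ker]
  have hcopM : (Nat.card M).Coprime M.index := by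
    apply Nat.coprime_of_dvd
    intro p hp hp1 hp2
    rw [hMcard] at hp1
    have hpe := hprimeM p hp hp1
    rw [hindexM] at hp2
    rcases (Nat.Prime.dvd_mul hp).mp hp2 with h | h
    · have := hprimeR p hp h
      have h1 := Nat.dvd_gcd this hpe
      rw [Nat.Coprime.gcd_eq_one hbe] at h1
      exact hp.one_lt.ne' (Nat.dvd_one.mp h1)
    · have h1 := Nat.dvd_gcd hpe h
      rw [Nat.Coprime.gcd_eq_one hcop] at h1
      exact hp.one_lt.ne' (Nat.dvd_one.mp h1)
  have hMn : M.Normal := by
    refine ⟨fun m hm g => ?_⟩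
    have : g * m * g⁻¹ = m := by
      rw [← hZ m (hMZ hm) g, mul_inv_cancel_right]
    rw [this]; exact hm
  obtain ⟨K, hK⟩ := Subgroup.exists_right_complement'_of_coprime hcopM
  have hKcard : Nat.card K = M.index := by
    have h1 := hK.card_mul_card
    have h2 := Subgroup.card_mul_index M
    have hpos : 0 < Nat.card M := Nat.card_pos
    exact Nat.eq_of_mul_eq_mul_left hpos (by rw [h1, h2])
  have hkcop : (Nat.card K).Coprime e := by
    rw [hKcard, hindexM]
    apply Nat.Coprime.mul_left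
    · apply Nat.coprime_of_dvd
      intro p hp hp1 hp2
      have h1 := Nat.dvd_gcd (hprimeR p hp hp1) hp2
      rw [Nat.Coprime.gcd_eq_one hbe] at h1
      exact hp.one_lt.ne' (Nat.dvd_one.mp h1)
    · exact hcop.symm
  refine ⟨K, M, Nat.card K, hMZ, hkcop, ?_, ?_, ?_, ?_⟩
  · intro g
    constructor
    · intro hg
      have h := congrArg Subtype.val (pow_card_eq_one' (G := K) (x := ⟨g, hg⟩))
      rw [Subgroup.coe_pow, Subgroup.coe_one] at h
      exact h
    · intro hg
      -- `g = m * k₁`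
      have hmem : g ∈ M ⊔ K := by rw [hK.sup_eq_top]; exact Subgroup.mem_top g
      rw [Subgroup.mem_sup_of_normal_left] at hmem
      obtain ⟨m, hm, k₁, hk₁, rfl⟩ := hmem
      have hc : Commute m k₁ := hZ m (hMZ hm) k₁
      rw [hc.mul_pow] at hg
      have hk₁' : k₁ ^ Nat.card K = 1 := by
        have h := congrArg Subtype.val (pow_card_eq_one' (G := K) (x := ⟨k₁, hk₁⟩))
        rw [Subgroup.coe_pow, Subgroup.coe_one] at h
        exact h
      rw [hk₁', mul_one] at hg
      have hm' : m ^ Nat.card M = 1 := by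
        have h := congrArg Subtype.val (pow_card_eq_one' (G := M) (x := ⟨m, hm⟩))
        rw [Subgroup.coe_pow, Subgroup.coe_one] at h
        exact h
      have hcop' : (Nat.card K).Coprime (Nat.card M) := by
        rw [hKcard]; exact hcopM.symm
      have hm1 : m = 1 := by
        have h1 : orderOf m ∣ Nat.card K := orderOf_dvd_of_pow_eq_one hg
        have h2 : orderOf m ∣ Nat.card M := orderOf_dvd_of_pow_eq_one hm'
        have h3 := Nat.dvd_gcd h1 h2
        rw [Nat.Coprime.gcd_eq_one hcop'] at h3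
        exact orderOf_eq_one_iff.mp (Nat.dvd_one.mp h3)
      rw [hm1, one_mul]
      exact hk₁
  · intro p hp hpd
    rw [hMcard] at hpd
    exact hprimeM p hp hpd
  · rw [sup_comm]; exact hK.sup_eq_top
  · rw [inf_comm]; exact hK.disjoint.eq_bot

end Cfsg.Agent.Lib.Helper75_CentralSplit
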