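import Cfsg.Agent.Lib.Helper16_Char
import Cfsg.Agent.Lib.Helper3_CharBridge

/-!
# Auxiliary lemmas for the Glauberman correspondence (helper75)

* `exists_central_scalar`: a central element acts on an irreducible character by a root of unity.
* `exists_unique_of_sum_sq_eq_one`: integers with `∑ mᵢ² = 1`.
-/

set_option autoImplicit false

namespace Cfsg.Agent.Lib.Helper75_GlaubAux

theorem exists_central_scalar {D : Type*} [Group D] {ξ : D → ℂ}
    (hξ : Cfsg.IsIrrCharacter D ξ) (z : D) (hz : ∀ d : D, d * z = z * d) (n : ℕ)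
    (hzn : z ^ n = 1) :
    ∃ μ : ℂ, μ ^ n = 1 ∧ ∀ (d : D) (j : ℕ), ξ (d * z ^ j) = μ ^ j * ξ d := by
  obtain ⟨k, ρ, hirr, rfl⟩ := hξ
  have := hirr
  have hT : ∀ g : D, ρ z ∘ₗ ρ g = ρ g ∘ₗ ρ z := by
    intro g
    show ρ z * ρ g = ρ g * ρ z
    rw [← map_mul, ← map_mul, hz g]
  obtain ⟨μ, hμ⟩ := Cfsg.Agent.Lib.Helper16_Char.schur_scalar ρ (ρ z) hT
  have hpow : ∀ j : ℕ, ρ (z ^ j) = μ ^ j • (1 : Module.End ℂ (Fin k → ℂ)) := by
    intro j
    rw [map_pow, hμ, smul_pow, one_pow]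
  have hpos : 0 < Module.finrank ℂ (Fin k → ℂ) :=
    Cfsg.Agent.Lib.Helper16_Char.finrank_pos_of_irreducible ρ
  have hnt : Nontrivial (Fin k → ℂ) := Module.finrank_pos_iff.mp hpos
  refine ⟨μ, ?_, ?_⟩
  · have h1 := hpow n
    rw [hzn, map_one] at h1
    obtain ⟨v, hv⟩ := exists_ne (0 : Fin k → ℂ)
    have h2 : v = μ ^ n • v := by
      have := congrArg (fun T : Module.End ℂ (Fin k → ℂ) => T v) h1
      simpa using this
    have h3 : (1 - μ ^ n) • v = 0 := by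
      rw [sub_smul, one_smul, ← h2, sub_self]
    rcases smul_eq_zero.mp h3 with h4 | h4
    · exact (sub_eq_zero.mp h4).symm
    · exact absurd h4 hv
  · intro d j
    show LinearMap.trace ℂ _ (ρ (d * z ^ j)) = μ ^ j * LinearMap.trace ℂ _ (ρ d)
    rw [map_mul, hpow j, mul_smul_comm, mul_one, map_smul, smul_eq_mul]

theorem exists_unique_of_sum_sq_eq_one {ι : Type*} [Fintype ι] [DecidableEq ι] (m : ι → ℤ)
    (h : ∑ i, m i ^ 2 = 1) : ∃ i, (m i = 1 ∨ m i = -1) ∧ ∀ j, j ≠ i → m j = 0 := by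
  have hex : ∃ i, m i ≠ 0 := by
    by_contra hcon
    push Not at hcon
    simp [hcon] at h
  obtain ⟨i, hi⟩ := hex
  have h1 : m i ^ 2 + ∑ j ∈ Finset.univ.erase i, m j ^ 2 = 1 := by
    rw [Finset.add_sum_erase _ (fun j => m j ^ 2) (Finset.mem_univ i)]; exact h
  have h2 : 0 ≤ ∑ j ∈ Finset.univ.erase i, m j ^ 2 :=
    Finset.sum_nonneg (fun j _ => sq_nonneg (m j))
  have h3 : 1 ≤ m i ^ 2 := by
    have : 0 < m i ^ 2 := by positivity
    omega
  have h4 : m i ^ 2 = 1 := by omega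
  have h5 : ∑ j ∈ Finset.univ.erase i, m j ^ 2 = 0 := by omega
  refine ⟨i, ?_, ?_⟩
  · have : (m i - 1) * (m i + 1) = 0 := by ring_nf; omega
    rcases mul_eq_zero.mp this with h6 | h6
    · left; omega
    · right; omega
  · intro j hj
    have h6 := (Finset.sum_eq_zero_iff_of_nonneg (fun j _ => sq_nonneg (m j))).mp h5 j
      (Finset.mem_erase.mpr ⟨hj, Finset.mem_univ j⟩)
    exact pow_eq_zero_iff (two_ne_zero) |>.mp h6

end Cfsg.Agent.Lib.Helper75_GlaubAux
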