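import Mathlib

/-!
# Minimal supplements of a normal subgroup (helper75)

For a normal subgroup `G` of a finite group `Γ`, a subgroup `S` minimal subject to `G S = Γ`
satisfies: every prime divisor of `|S|` divides `[Γ : G]`, and `S ∩ G ≤ Φ(S)`; in particular `S`
is solvable if `Γ / G` is.
-/

set_option autoImplicit false
set_option linter.unusedSectionVars false

namespace Cfsg.Agent.Lib.Helper75_MinSupp

variable {Γ : Type*} [Group Γ] [Finite Γ] (G : Subgroup Γ) [hG : G.Normal]

/-- `S` is a minimal supplement of `G`. -/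
def IsMinSupp (S : Subgroup Γ) : Prop :=
  G ⊔ S = ⊤ ∧ ∀ T : Subgroup Γ, T ≤ S → G ⊔ T = ⊤ → T = S

theorem exists_minSupp_le : ∀ (k : ℕ) (S : Subgroup Γ), Nat.card S = k → G ⊔ S = ⊤ →
    ∃ S' : Subgroup Γ, S' ≤ S ∧ IsMinSupp G S' := by
  intro k
  induction k using Nat.strong_induction_on with
  | _ k ih =>
    intro S hk hS
    by_cases hmin : ∀ T : Subgroup Γ, T ≤ S → G ⊔ T = ⊤ → T = S
    · exact ⟨S, le_refl S, hS, hmin⟩
    · push Not at hmin
      obtain ⟨T, hTS, hT, hne⟩ := hmin
      have hlt : Nat.card T < k := by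
        rw [← hk]
        by_contra hge
        push Not at hge
        exact hne (Subgroup.eq_of_le_of_card_ge hTS hge)
      obtain ⟨S', hS'T, hS'⟩ := ih _ hlt T rfl hT
      exact ⟨S', hS'T.trans hTS, hS'⟩

theorem exists_minSupp : ∃ S : Subgroup Γ, IsMinSupp G S := by
  obtain ⟨S, -, hS⟩ := exists_minSupp_le G _ ⊤ rfl (by simp)
  exact ⟨S, hS⟩

variable {G}

/-- A subgroup `M` of a minimal supplement `S` (as a subgroup of the type `S`) with
`M (S ∩ G) = S` is all of `S`. -/
theorem eq_top_of_sup_eq_top {S : Subgroup Γ} (hS : IsMinSupp G S) (M : Subgroup S)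
    (hM : M ⊔ G.subgroupOf S = ⊤) : M = ⊤ := by
  have h1 : G ⊔ M.map S.subtype = ⊤ := by
    rw [eq_top_iff, ← hS.1]
    apply sup_le le_sup_left
    intro s hs
    have hmem : (⟨s, hs⟩ : S) ∈ M ⊔ G.subgroupOf S := by rw [hM]; exact Subgroup.mem_top _
    rw [sup_comm, Subgroup.mem_sup_of_normal_left] at hmem
    obtain ⟨d, hd, m, hm, hdm⟩ := hmem
    have : s = (d : Γ) * (m : Γ) := by
      have := congrArg Subtype.val hdm
      simpa using this.symm
    rw [this]
    apply Subgroup.mul_mem_sup (Subgroup.mem_subgroupOf.mp hd)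
    exact Subgroup.mem_map_of_mem _ hm
  have h2 := hS.2 (M.map S.subtype) (Subgroup.map_subtype_le M) h1
  rw [eq_top_iff]
  intro s _
  have : (s : Γ) ∈ M.map S.subtype := by rw [h2]; exact s.2
  obtain ⟨m, hm, hms⟩ := Subgroup.mem_map.mp this
  have : m = s := Subtype.ext hms
  rwa [← this]

/-- The order of a minimal supplement. -/
theorem card_eq {S : Subgroup Γ} (hS : IsMinSupp G S) :
    Nat.card S = Nat.card (G.subgroupOf S) * G.index := by
  have h1 : G.relIndex S = G.index := by
    rw [← Subgroup.relIndex_sup_right (K := G) (H := S), sup_comm, hS.1, Subgroup.relIndex_top_right]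
  rw [← h1, Subgroup.relIndex, Subgroup.card_mul_index]

/-- `S ∩ G` lies in the Frattini subgroup of a minimal supplement `S`. -/
theorem subgroupOf_le_frattini {S : Subgroup Γ} (hS : IsMinSupp G S) :
    G.subgroupOf S ≤ frattini S := by
  rw [frattini, Order.radical]
  apply le_iInf
  intro M
  apply le_iInf
  intro hM
  by_contra hle
  have hlt : M < M ⊔ G.subgroupOf S := by
    apply lt_of_le_of_ne le_sup_left
    intro h
    apply hle
    rw [h]
    exact le_sup_right
  have htop : M ⊔ G.subgroupOf S = ⊤ := hM.2 _ hlt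
  exact hM.1 (eq_top_of_sup_eq_top hS M htop)

/-- A minimal supplement of `G` is solvable if `Γ ⧸ G` is. -/
theorem isSolvable_of_quotient {S : Subgroup Γ} (hS : IsMinSupp G S)
    (hsolv : Group.IsSolvable (Γ ⧸ G)) : Group.IsSolvable S := by
  have hD : Group.IsSolvable (G.subgroupOf S) := by
    have h1 : Group.IsNilpotent (frattini S) := frattini_nilpotent
    have h2 : Group.IsSolvable (frattini S) := inferInstance
    exact Group.isSolvable_of_isSolvable_injective
      (Subgroup.inclusion_injective (subgroupOf_le_frattini hS))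
  let f : S →* Γ ⧸ G := (QuotientGroup.mk' G).comp S.subtype
  have hker : f.ker = G.subgroupOf S := by
    ext s
    rw [MonoidHom.mem_ker, Subgroup.mem_subgroupOf]
    simp only [f, MonoidHom.comp_apply, Subgroup.coe_subtype, QuotientGroup.mk'_apply]
    exact QuotientGroup.eq_one_iff _
  exact Group.isSolvable_of_ker_le_range (G.subgroupOf S).subtype f (by
    rw [hker, Subgroup.range_subtype])

/-- Every prime divisor of the order of a minimal supplement divides the index of `G`. -/
theorem prime_dvd_index {S : Subgroup Γ} (hS : IsMinSupp G S) {p : ℕ} (hp : p.Prime)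
    (hpS : p ∣ Nat.card S) : p ∣ G.index := by
  by_contra hpi
  have : Fact p.Prime := ⟨hp⟩
  set D : Subgroup S := G.subgroupOf S with hD
  have hDn : D.Normal := hG.subgroupOf S
  have hcard := card_eq hS
  -- a Sylow `p`-subgroup of `D`
  obtain ⟨P⟩ : Nonempty (Sylow p D) := inferInstance
  -- Frattini
  have hfr := Sylow.normalizer_sup_eq_top P
  have hnorm : Subgroup.normalizer (((P : Subgroup D).map D.subtype : Subgroup S) : Set S) = ⊤ :=
    eq_top_of_sup_eq_top hS _ hfr
  set Q : Subgroup S := (P : Subgroup D).map D.subtype with hQ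
  have hQn : Q.Normal := Subgroup.normalizer_eq_top_iff.mp hnorm
  have hQcard : Nat.card Q = p ^ (Nat.card D).factorization p := by
    rw [hQ, Subgroup.card_map_of_injective D.subtype_injective]
    exact P.card_eq_multiplicity
  have hQD : Q ≤ D := Subgroup.map_subtype_le _
  -- `Q` is a normal Hall subgroup of `S`
  have hQidx : Nat.card Q * Q.index = Nat.card D * G.index := by
    rw [Subgroup.card_mul_index, hcard]
  have hcop : (Nat.card Q).Coprime Q.index := by
    rw [hQcard]
    apply Nat.Coprime.pow_left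
    rw [Nat.Prime.coprime_iff_not_dvd hp]
    intro hdvd
    have hD0 : Nat.card D ≠ 0 := Nat.card_pos.ne'
    have h1 : Q.index = (Nat.card D / p ^ (Nat.card D).factorization p) * G.index := by
      have hdvd' := Nat.ordProj_dvd (Nat.card D) p
      have hpos : 0 < p ^ (Nat.card D).factorization p := pow_pos hp.pos _
      apply Nat.eq_of_mul_eq_mul_left hpos
      rw [← hQcard, hQidx, hQcard, ← mul_assoc, Nat.mul_div_cancel' hdvd']
    rw [h1] at hdvd
    rcases (Nat.Prime.dvd_mul hp).mp hdvd with h | h
    · exact Nat.not_dvd_ordCompl hp hD0 h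
    · exact hpi h
  obtain ⟨K, hK⟩ := Subgroup.exists_right_complement'_of_coprime hcop
  have hKtop : K = ⊤ := by
    apply eq_top_of_sup_eq_top hS
    rw [eq_top_iff, ← hK.sup_eq_top, sup_comm]
    exact sup_le_sup_left hQD K
  have hQ1 : Nat.card Q = 1 := by
    have := hK.card_mul_card
    rw [hKtop, Subgroup.card_top] at this
    have hpos : 0 < Nat.card S := Nat.card_pos
    exact Nat.eq_of_mul_eq_mul_right hpos (by rw [this, one_mul])
  -- so `p ∤ |D|`, hence `p ∤ |S|`
  rw [hQcard] at hQ1
  have hfac : (Nat.card D).factorization p = 0 := by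
    by_contra h
    have : 1 < p ^ (Nat.card D).factorization p := Nat.one_lt_pow h hp.one_lt
    omega
  have hpD : ¬ p ∣ Nat.card D := by
    intro h
    have hD0 : Nat.card D ≠ 0 := Nat.card_pos.ne'
    have := (hp.dvd_iff_one_le_factorization hD0).mp h
    omega
  rw [hcard] at hpS
  rcases (Nat.Prime.dvd_mul hp).mp hpS with h | h
  · exact hpD h
  · exact hpi h

end Cfsg.Agent.Lib.Helper75_MinSupp
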