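import Cfsg.Agent.Lib.Helper75_CharArith
import Cfsg.Agent.Lib.Helper75_CharProd

/-!
# Coefficient functions on a commuting product (helper75)

If `C, S ≤ Γ` commute elementwise, `S` is commutative, `Θ` is a character of `Γ` and `β` a
character of `C`, then `x ↦ [c ↦ Θ(c x), β]_C` is a character of `S`
(`isCharacter_coeff`): its multiplicities are those of `β × λ` in the restriction of `Θ` to
`C × S`.
-/

set_option autoImplicit false
set_option linter.unusedSectionVars false
open scoped ComplexConjugate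

namespace Cfsg.Agent.Lib.Helper75_ProdCoeff

open Cfsg.Agent.Lib.Helper3_CharBridge Cfsg.Agent.Lib.Helper3_CharOrtho
  Cfsg.Agent.Lib.Helper3_CharComplete
  Cfsg.Agent.Lib.Helper75_CharArith Cfsg.Agent.Lib.Helper75_CharProd

universe u

variable {Γ : Type u} [Group Γ] (C S : Subgroup Γ) [Fintype C] [Fintype S]

/-- The multiplication map `C × S → Γ` for elementwise commuting subgroups. -/
def mulHom (hCS : ∀ c ∈ C, ∀ x ∈ S, c * x = x * c) : C × S →* Γ :=
  MonoidHom.mk' (fun p => (p.1 : Γ) * (p.2 : Γ)) (by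
    intro p q
    show ((p.1 * q.1 : C) : Γ) * ((p.2 * q.2 : S) : Γ) = (p.1 : Γ) * (p.2 : Γ) * ((q.1 : Γ) * (q.2 : Γ))
    push_cast
    have h := hCS q.1 q.1.2 p.2 p.2.2
    calc (p.1 : Γ) * (q.1 : Γ) * ((p.2 : Γ) * (q.2 : Γ))
        = (p.1 : Γ) * ((q.1 : Γ) * (p.2 : Γ)) * (q.2 : Γ) := by group
      _ = (p.1 : Γ) * ((p.2 : Γ) * (q.1 : Γ)) * (q.2 : Γ) := by rw [h]
      _ = (p.1 : Γ) * (p.2 : Γ) * ((q.1 : Γ) * (q.2 : Γ)) := by group)

theorem mulHom_apply (hCS : ∀ c ∈ C, ∀ x ∈ S, c * x = x * c) (p : C × S) :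
    mulHom C S hCS p = (p.1 : Γ) * (p.2 : Γ) := rfl

/-- The coefficient function is a character of `S`. -/
theorem isCharacter_coeff (hCS : ∀ c ∈ C, ∀ x ∈ S, c * x = x * c)
    (hScomm : ∀ a b : S, a * b = b * a) {Θ : Γ → ℂ} (hΘ : Cfsg.IsCharacter Γ Θ) {β : C → ℂ}
    (hβ : Cfsg.IsCharacter C β) :
    Cfsg.IsCharacter S (fun x : S => Cfsg.classInner (fun c : C => Θ ((c : Γ) * (x : Γ))) β) := by
  classical
  apply isCharacter_of_classInner_nat
  · intro x u
    have : u * x * u⁻¹ = x := by rw [hScomm u x, mul_inv_cancel_right]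
    show Cfsg.classInner (fun c : C => Θ ((c : Γ) * ((u * x * u⁻¹ : S) : Γ))) β = _
    rw [this]
  · intro lam
    have hΘ' : Cfsg.IsCharacter (C × S) (fun p => Θ (mulHom C S hCS p)) :=
      isCharacter_comp (mulHom C S hCS) hΘ
    have hΞ : Cfsg.IsCharacter (C × S) ((fun p : C × S => β p.1) * fun p : C × S =>
        (lam : S → ℂ) p.2) :=
      isCharacter_mul (isCharacter_comp (MonoidHom.fst C S) hβ)
        (isCharacter_comp (MonoidHom.snd C S) (isCharacter_of_isIrrCharacter lam.2))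
    obtain ⟨n, hn⟩ := classInner_isCharacter_nat hΘ' hΞ
    refine ⟨n, ?_⟩
    rw [← hn]
    unfold Cfsg.classInner
    rw [Nat.card_prod, Fintype.sum_prod_type, Finset.sum_comm]
    push_cast
    simp only [Finset.mul_sum, Finset.sum_mul]
    apply Finset.sum_congr rfl
    intro x _
    apply Finset.sum_congr rfl
    intro c _
    simp only [Pi.mul_apply, mulHom_apply, map_mul]
    ring

end Cfsg.Agent.Lib.Helper75_ProdCoeff
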