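import Cfsg.Agent.Lib.Helper75_GlaubOver
import Cfsg.Agent.Lib.Helper75_MinSupp
import Cfsg.Agent.Lib.Helper75_CentralSplit
import Cfsg.Agent.Lib.Helper75_ProdCoeff
import Cfsg.Agent.Lib.Helper57_FrobNorm
import Cfsg.Agent.Lib.Helper75_GlaubAux

/-!
# Invariant characters over a central subgroup (helper75)

* `central_value`: an irreducible character `β` of `D` lying over the linear character `η` of a
  central subgroup `E` satisfies `β (e d) = η(e) β(d)`.
* `invariant_of_supplement`: `S`-invariance implies `Γ`-invariance when `G S = Γ`.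
* `exists_invariant_central`: if `N ≤ Z(Γ)`, `N ≤ G ⊴ Γ`, `([Γ:G],[G:N]) = 1` and `Γ/G` is solvable,
  every irreducible character of `N` lies under a `Γ`-invariant irreducible character of `G`.
-/

set_option autoImplicit false
set_option linter.unusedSectionVars false
open scoped ComplexConjugate

namespace Cfsg.Agent.Lib.Helper75_CentralInv

open Cfsg Cfsg.Agent.Lib.Helper3_CharBridge Cfsg.Agent.Lib.Helper3_CharOrtho
  Cfsg.Agent.Lib.Helper3_CharComplete Cfsg.Agent.Lib.Helper75_CharArith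
  Cfsg.Agent.Lib.Helper75_LinChar Cfsg.Agent.Lib.Helper75_GlaubCount
  Cfsg.Agent.Lib.Helper75_GlaubOver Cfsg.Agent.Lib.Helper75_MinSupp
  Cfsg.Agent.Lib.Helper75_CentralSplit Cfsg.Agent.Lib.Helper75_ProdCoeff

universe u

variable {Γ : Type u} [Group Γ]

/-- An `S`-invariant class function on the normal subgroup `G` is `Γ`-invariant when `G S = Γ`. -/
theorem invariant_of_supplement (G S : Subgroup Γ) [hG : G.Normal]
    (htop : G ⊔ S = ⊤) {χ : G → ℂ} (hcl : Cfsg.IsClassFunction G χ)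
    (hinv : ∀ s ∈ S, ∀ g g' : G, (g' : Γ) = s * g * s⁻¹ → χ g' = χ g) (x : Γ) (g : G) :
    χ ⟨x * g * x⁻¹, hG.conj_mem g g.2 x⟩ = χ g := by
  have hx : x ∈ G ⊔ S := by rw [htop]; exact Subgroup.mem_top x
  rw [Subgroup.mem_sup_of_normal_left] at hx
  obtain ⟨a, ha, s, hs, rfl⟩ := hx
  have h1 := hinv s hs g ⟨s * g * s⁻¹, hG.conj_mem g g.2 s⟩ rfl
  have h2 := hcl ⟨s * g * s⁻¹, hG.conj_mem g g.2 s⟩ ⟨a, ha⟩
  rw [← h1, ← h2]
  congr 1
  apply Subtype.ext
  push_cast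
  group

/-- Central characters: `β (e d) = η(e) β(d)` for `β` over the linear character `η` of the central
subgroup `E`. -/
theorem central_value [Finite Γ] (D E : Subgroup Γ) [Fintype D] [Fintype E] (hED : E ≤ D)
    (hcent : ∀ e ∈ E, ∀ d ∈ D, e * d = d * e) (β : IrrCharacter D) (η : IrrCharacter E)
    (hη : IsLin E (η : E → ℂ))
    (h : classInner (fun e : E => (β : D → ℂ) ⟨e, hED e.2⟩) (η : E → ℂ) ≠ 0) (e : E) (d : D) :
    (β : D → ℂ) ⟨(e : Γ) * d, D.mul_mem (hED e.2) d.2⟩ = (η : E → ℂ) e * (β : D → ℂ) d := by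
  classical
  have hDE : ∀ d ∈ D, ∀ e ∈ E, d * e * d⁻¹ ∈ E := by
    intro d hd e he
    rw [← hcent e he d hd, mul_inv_cancel_right]; exact he
  set f : E → ℂ := fun e : E => (β : D → ℂ) ⟨e, hED e.2⟩ with hf
  have hfcl : IsClassFunction E f := by
    intro x y
    show (β : D → ℂ) ⟨((y * x * y⁻¹ : E) : Γ), _⟩ = (β : D → ℂ) ⟨(x : Γ), _⟩
    have := isClassFunction_of_isIrrCharacter β.2 ⟨(x : Γ), hED x.2⟩ ⟨(y : Γ), hED y.2⟩
    rw [← this]
    refine congrArg _ (Subtype.ext ?_)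
    push_cast
    rfl
  -- all constituents of `β_E` equal `η`
  have hother : ∀ η' : IrrCharacter E, η' ≠ η → classInner f (η' : E → ℂ) = 0 := by
    intro η' hne
    by_contra h'
    obtain ⟨d, hd, hconj⟩ := exists_conj_of_constituent_amb D E hED hDE β η η' h' h
    apply hne
    apply Subtype.ext
    funext x
    have h1 := hconj x
    have : (⟨d * (x : Γ) * d⁻¹, hDE d hd x x.2⟩ : E) = x := by
      apply Subtype.ext
      show d * (x : Γ) * d⁻¹ = x
      rw [← hcent x x.2 d hd, mul_inv_cancel_right]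
    rw [this] at h1
    exact h1.symm
  have hexp : f = classInner f (η : E → ℂ) • (η : E → ℂ) := by
    have h1 := classFunction_eq_sum f hfcl
    rw [Finset.sum_eq_single η] at h1
    · exact h1
    · intro η' _ hne
      rw [hother η' hne, zero_smul]
    · intro h; exact absurd (Finset.mem_univ _) h
  set m := classInner f (η : E → ℂ) with hm
  have hval : ∀ x : E, (β : D → ℂ) ⟨x, hED x.2⟩ = m * (η : E → ℂ) x := by
    intro x
    have := congrFun hexp x
    simpa using this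
  have hβ1 : (β : D → ℂ) 1 = m := by
    have := hval 1
    rw [hη.2, mul_one] at this
    rw [← this]
    rfl
  -- central scalar
  have hz : ∀ d' : D, d' * (⟨e, hED e.2⟩ : D) = ⟨e, hED e.2⟩ * d' := by
    intro d'
    apply Subtype.ext
    exact (hcent e e.2 d' d'.2).symm
  obtain ⟨μ, -, hμ⟩ := Cfsg.Agent.Lib.Helper75_GlaubAux.exists_central_scalar β.2
    (⟨e, hED e.2⟩ : D) hz (Nat.card D) pow_card_eq_one'
  have h1 := hμ 1 1
  rw [pow_one, pow_one, one_mul, hβ1] at h1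
  have h2 : μ = (η : E → ℂ) e := by
    have h3 := hval e
    rw [h3] at h1
    exact (mul_left_cancel₀ h (by rw [h1, mul_comm])).symm
  have h4 := hμ d 1
  rw [pow_one, pow_one, h2] at h4
  rw [← h4]
  refine congrArg _ (Subtype.ext ?_)
  show (e : Γ) * d = d * e
  exact hcent e e.2 d d.2

section Main

variable [Fintype Γ]

/-- **The central case.**  If `N ≤ Z(Γ)`, `N ≤ G ⊴ Γ`, `([Γ:G], [G:N]) = 1` and `Γ/G` is solvable,
then every irreducible character of `N` lies under a `Γ`-invariant irreducible character of `G`. -/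
theorem exists_invariant_central (H : PCorr Γ) (G N : Subgroup Γ) [hG : G.Normal] [Fintype G]
    [Fintype N] (hNG : N ≤ G) (hNZ : ∀ z ∈ N, ∀ x : Γ, z * x = x * z)
    (hcop : (G.index).Coprime (N.relIndex G)) (hsolv : Group.IsSolvable (Γ ⧸ G))
    (lam : IrrCharacter N) :
    ∃ β : IrrCharacter G,
      classInner (fun n : N => (β : G → ℂ) ⟨n, hNG n.2⟩) (lam : N → ℂ) ≠ 0 ∧
      ∀ (x : Γ) (g : G), (β : G → ℂ) ⟨x * g * x⁻¹, hG.conj_mem g g.2 x⟩ = (β : G → ℂ) g := by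
  classical
  obtain ⟨S, hS⟩ := exists_minSupp G
  have hSsolv := isSolvable_of_quotient hS hsolv
  have hNcomm : ∀ a b : N, a * b = b * a := fun a b => Subtype.ext (hNZ a a.2 b)
  have hlam : IsLin N (lam : N → ℂ) :=
    Cfsg.Agent.Lib.Helper75_CanonExt.isLin_of_comm hNcomm lam.2
  -- splitting of `G`
  obtain ⟨K₀, Z'₀, k, hZ'Z, hkcop, hKmem, hZ'prime, hsup, hinf⟩ :=
    central_split (N.subgroupOf G)
      (fun z hz g => Subtype.ext (hNZ z (Subgroup.mem_subgroupOf.mp hz) g)) G.index hcop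
  obtain ⟨K, hKdef⟩ : ∃ K : Subgroup Γ, K = K₀.map G.subtype := ⟨_, rfl⟩
  obtain ⟨N', hN'def⟩ : ∃ N' : Subgroup Γ, N' = Z'₀.map G.subtype := ⟨_, rfl⟩
  have hKG : K ≤ G := by rw [hKdef]; exact Subgroup.map_subtype_le _
  have hN'N : N' ≤ N := by
    rw [hN'def]
    rintro _ ⟨z, hz, rfl⟩
    exact Subgroup.mem_subgroupOf.mp (hZ'Z hz)
  have hmemK : ∀ y : Γ, y ∈ K ↔ y ∈ G ∧ y ^ k = 1 := by
    intro y
    rw [hKdef]
    constructor
    · rintro ⟨g, hg, rfl⟩
      refine ⟨g.2, ?_⟩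
      have := (hKmem g).mp hg
      have := congrArg Subtype.val this
      rwa [Subgroup.coe_pow, Subgroup.coe_one] at this
    · rintro ⟨hyG, hyk⟩
      refine ⟨⟨y, hyG⟩, (hKmem _).mpr ?_, rfl⟩
      apply Subtype.ext
      rw [Subgroup.coe_pow, Subgroup.coe_one]
      exact hyk
  have hKnorm : ∀ x : Γ, ∀ y ∈ K, x * y * x⁻¹ ∈ K := by
    intro x y hy
    obtain ⟨hyG, hyk⟩ := (hmemK y).mp hy
    refine (hmemK _).mpr ⟨hG.conj_mem y hyG x, ?_⟩
    rw [conj_pow, hyk]; group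
  have hcentN' : ∀ z ∈ N', ∀ x : Γ, z * x = x * z := fun z hz x => hNZ z (hN'N hz) x
  have hcopKS : (Nat.card K).Coprime (Nat.card S) := by
    apply Nat.coprime_of_dvd
    intro p hp hpK hpS
    have : Fact p.Prime := ⟨hp⟩
    obtain ⟨y, hy⟩ := exists_prime_orderOf_dvd_card' p hpK
    have hyk : (y : Γ) ^ k = 1 := ((hmemK y).mp y.2).2
    have h1 : p ∣ k := by
      rw [← hy, ← Subgroup.orderOf_coe]
      exact orderOf_dvd_of_pow_eq_one hyk
    have h2 : p ∣ G.index := prime_dvd_index hS hp hpS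
    have h3 := Nat.dvd_gcd h1 h2
    rw [Nat.Coprime.gcd_eq_one hkcop] at h3
    exact hp.one_lt.ne' (Nat.dvd_one.mp h3)
  -- the character of `N ⊓ K`
  have := Fintype.ofFinite ↥(N ⊓ K)
  have := Fintype.ofFinite ↥K
  have := Fintype.ofFinite ↥N'
  have hϑlin : IsLin ↥(N ⊓ K) (fun z : ↥(N ⊓ K) => (lam : N → ℂ) ⟨z, z.2.1⟩) :=
    ⟨isCharacter_comp (Subgroup.inclusion (inf_le_left : N ⊓ K ≤ N)) hlam.1, hlam.2⟩
  let ϑ : IrrCharacter ↥(N ⊓ K) := ⟨_, hϑlin.irr⟩
  have hcentNK : ∀ z ∈ N ⊓ K, ∀ x : Γ, x * z * x⁻¹ = z := by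
    intro z hz x
    rw [← hNZ z hz.1 x, mul_inv_cancel_right]
  obtain ⟨ψ, hψover, hψinv⟩ := exists_inv_over_main H K S (N ⊓ K)
    (fun s _ g hg => hKnorm s g hg) inf_le_right
    (fun g _ n hn => by rw [hcentNK n hn g]; exact hn)
    (fun s _ n hn => by rw [hcentNK n hn s]; exact hn) hcopKS hSsolv ϑ
    (fun s _ g g' hg' => by
      have : g' = g := by
        apply Subtype.ext
        rw [hg', hcentNK g g.2 s]
      rw [this])
  -- the product decomposition `G = K × N'`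
  have hcomm : ∀ c ∈ K, ∀ x ∈ N', c * x = x * c := fun c _ x hx => (hcentN' x hx c).symm
  let φ : K × N' →* G := (mulHom K N' hcomm).codRestrict G
    (fun p => G.mul_mem (hKG p.1.2) (hNG (hN'N p.2.2)))
  have hφval : ∀ p : K × N', ((φ p : G) : Γ) = (p.1 : Γ) * (p.2 : Γ) := fun p => rfl
  have hKN' : ∀ y : Γ, y ∈ K → y ∈ N' → y = 1 := by
    intro y hyK hyN'
    rw [hKdef] at hyK
    rw [hN'def] at hyN'
    obtain ⟨a, ha, rfl⟩ := hyK
    obtain ⟨b, hb, hab⟩ := hyN'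
    have hab' : b = a := Subtype.ext hab
    have : a ∈ K₀ ⊓ Z'₀ := ⟨ha, hab' ▸ hb⟩
    rw [hinf, Subgroup.mem_bot] at this
    rw [this]; rfl
  have hφinj : Function.Injective φ := by
    rw [injective_iff_map_eq_one]
    intro p hp
    have h1 : (p.1 : Γ) * (p.2 : Γ) = 1 := by
      have := congrArg Subtype.val hp
      rwa [hφval] at this
    have h2 : (p.1 : Γ) = (p.2 : Γ)⁻¹ := eq_inv_of_mul_eq_one_left h1
    have h3 : (p.1 : Γ) = 1 := hKN' _ p.1.2 (by rw [h2]; exact N'.inv_mem p.2.2)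
    have h4 : (p.2 : Γ) = 1 := by rw [h3, one_mul] at h1; exact h1
    exact Prod.ext (Subtype.ext h3) (Subtype.ext h4)
  have hZ'n : Z'₀.Normal := by
    refine ⟨fun z hz g => ?_⟩
    have : g * z * g⁻¹ = z := by
      apply Subtype.ext
      push_cast
      rw [← hNZ z (Subgroup.mem_subgroupOf.mp (hZ'Z hz)) g, mul_inv_cancel_right]
    rw [this]; exact hz
  have hφsurj : Function.Surjective φ := by
    intro g
    have hg : g ∈ K₀ ⊔ Z'₀ := by rw [hsup]; exact Subgroup.mem_top g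
    rw [Subgroup.mem_sup_of_normal_right] at hg
    obtain ⟨a, ha, b, hb, hab⟩ := hg
    refine ⟨(⟨(a : Γ), by rw [hKdef]; exact ⟨a, ha, rfl⟩⟩,
      ⟨(b : Γ), by rw [hN'def]; exact ⟨b, hb, rfl⟩⟩), ?_⟩
    apply Subtype.ext
    rw [hφval, ← hab]
    rfl
  let e : K × N' ≃* G := MulEquiv.ofBijective φ ⟨hφinj, hφsurj⟩
  -- the character of `K × N'`
  have hlam' : IsLin ↥N' (fun z : ↥N' => (lam : N → ℂ) ⟨z, hN'N z.2⟩) :=
    ⟨isCharacter_comp (Subgroup.inclusion hN'N) hlam.1, hlam.2⟩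
  have hlin2 : IsLin (K × N') (fun p : K × N' => (lam : N → ℂ) ⟨p.2, hN'N p.2.2⟩) :=
    ⟨isCharacter_comp (MonoidHom.snd K N') hlam'.1, hlam'.2⟩
  have hirr1 : IsIrrCharacter (K × N') (fun p : K × N' => (ψ : K → ℂ) p.1) :=
    Cfsg.Agent.Lib.Helper57_FrobNorm.isIrrCharacter_comp_surjective (MonoidHom.fst K N')
      (fun a => ⟨(a, 1), rfl⟩) ψ.2
  have hΞ := hlin2.mul_irr hirr1
  let β : IrrCharacter G :=
    ⟨_, Cfsg.Agent.Lib.Helper74_GoingUp.isIrr_comp_equiv e.symm hΞ⟩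
  have hβval : ∀ p : K × N', (β : G → ℂ) (e p) =
      (lam : N → ℂ) ⟨p.2, hN'N p.2.2⟩ * (ψ : K → ℂ) p.1 := by
    intro p
    show ((fun p : K × N' => (lam : N → ℂ) ⟨p.2, hN'N p.2.2⟩) *
      fun p : K × N' => (ψ : K → ℂ) p.1) (e.symm (e p)) = _
    rw [MulEquiv.symm_apply_apply]
    rfl
  refine ⟨β, ?_, ?_⟩
  · -- over `lam`
    have hres : (fun n : N => (β : G → ℂ) ⟨n, hNG n.2⟩) =
        (ψ : K → ℂ) 1 • (lam : N → ℂ) := by
      funext n
      obtain ⟨p, hp⟩ := e.surjective ⟨n, hNG n.2⟩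
      have hpn : (p.1 : Γ) * (p.2 : Γ) = n := by
        have := congrArg Subtype.val hp
        exact this
      have haN : (p.1 : Γ) ∈ N := by
        have : (p.1 : Γ) = n * (p.2 : Γ)⁻¹ := by rw [← hpn]; group
        rw [this]
        exact N.mul_mem n.2 (N.inv_mem (hN'N p.2.2))
      have h1 := central_value K (N ⊓ K) inf_le_right
        (fun z hz d _ => hNZ z hz.1 d) ψ ϑ hϑlin hψover ⟨p.1, haN, p.1.2⟩ 1
      have h2 : (ψ : K → ℂ) p.1 = (lam : N → ℂ) ⟨p.1, haN⟩ * (ψ : K → ℂ) 1 := by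
        rw [← h1]
        refine congrArg _ (Subtype.ext ?_)
        show (p.1 : Γ) = (p.1 : Γ) * ((1 : K) : Γ)
        rw [Subgroup.coe_one, mul_one]
      rw [← hp, hβval p, h2]
      have h3 : n = ⟨p.1, haN⟩ * ⟨p.2, hN'N p.2.2⟩ := Subtype.ext hpn.symm
      rw [Pi.smul_apply, smul_eq_mul, h3, hlam.map_mul]
      ring
    rw [hres, classInner_smul_left, classInner_self_of_isIrrCharacter lam.2, mul_one]
    exact Cfsg.Agent.Lib.Helper75_Clifford.irr_one_ne_zero ψ.2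
  · -- invariance
    apply invariant_of_supplement G S hS.1 (isClassFunction_of_isIrrCharacter β.2)
    intro s hs g g' hg'
    obtain ⟨p, rfl⟩ := e.surjective g
    have hconjK : s * (p.1 : Γ) * s⁻¹ ∈ K := hKnorm s _ p.1.2
    have hg'' : g' = e (⟨s * (p.1 : Γ) * s⁻¹, hconjK⟩, p.2) := by
      apply Subtype.ext
      rw [hg']
      show s * ((p.1 : Γ) * (p.2 : Γ)) * s⁻¹ = s * (p.1 : Γ) * s⁻¹ * (p.2 : Γ)
      have := hcentN' p.2 p.2.2 s⁻¹
      calc s * ((p.1 : Γ) * (p.2 : Γ)) * s⁻¹ = s * (p.1 : Γ) * ((p.2 : Γ) * s⁻¹) := by group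
        _ = s * (p.1 : Γ) * (s⁻¹ * (p.2 : Γ)) := by rw [this]
        _ = s * (p.1 : Γ) * s⁻¹ * (p.2 : Γ) := by group
    rw [hg'', hβval, hβval]
    congr 1
    exact hψinv s hs p.1 ⟨s * (p.1 : Γ) * s⁻¹, hconjK⟩ rfl

end Main

end Cfsg.Agent.Lib.Helper75_CentralInv
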