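import Mathlib
import Cfsg.Prelude.Def_Characters
import Cfsg.Agent.Lib.Helper75_SolvStep
import Cfsg.Agent.Lib.Helper75_CosetConj
import Cfsg.Agent.Lib.Helper74_Glauberman
import Cfsg.Agent.Lib.Helper74_GoingUp
import Cfsg.Agent.Lib.Helper3_CharColumn
import Cfsg.Agent.Lib.Helper3_CharOrtho
import Cfsg.Agent.Lib.Helper24_CoprimeAction

/-!
# Counting invariant characters under a coprime solvable action (helper75)

From the Glauberman correspondence for `p`-groups (taken as a hypothesis `PCorr Γ`, which is the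
statement of S4444 for the fixed ambient group `Γ`) we deduce, for a solvable group `S` acting
coprimely on `G`, that the number of `S`-invariant irreducible characters of `G` equals the
number of conjugacy classes of `C_G(S)`, and the number of `S`-invariant classes of `G`.
-/

set_option autoImplicit false

namespace Cfsg.Agent.Lib.Helper75_GlaubCount

open Cfsg Cfsg.Agent.Lib
open scoped ComplexConjugate

variable {Γ : Type*} [Group Γ] [Fintype Γ]

/-- `χ` is invariant under conjugation by the elements of `S`. -/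
def SInv (G S : Subgroup Γ) (χ : G → ℂ) : Prop :=
  ∀ s ∈ S, ∀ g g' : G, (g' : Γ) = s * g * s⁻¹ → χ g' = χ g

/-- The statement of S4444 (Glauberman correspondence for `p`-groups) for a fixed ambient
group. -/
def PCorr (Γ : Type*) [Group Γ] [Fintype Γ] : Prop :=
  ∀ (G S : Subgroup Γ) [Fintype G] (_hnorm : ∀ s ∈ S, ∀ g ∈ G, s * g * s⁻¹ ∈ G) (_hcop : (Nat.card G).Coprime (Nat.card S)) (p : ℕ) (_hp : p.Prime) (_hS : IsPGroup p S) (C : Subgroup Γ) [Fintype C] (_hC : C = G ⊓ Subgroup.centralizer (S : Set Γ)) (hCG : C ≤ G), (∀ χ : Cfsg.IrrCharacter G, (∀ s ∈ S, ∀ g g' : G, (g' : Γ) = s * g * s⁻¹ → (χ : G → ℂ) g' = (χ : G → ℂ) g) → ∃! β : Cfsg.IrrCharacter C, ∃ m : ℕ, Cfsg.classInner (fun c : C => (χ : G → ℂ) ⟨c, hCG c.2⟩) (β : C → ℂ) = (m : ℂ) ∧ ¬ p ∣ m) ∧ (∀ χ : Cfsg.IrrCharacter G, (∀ s ∈ S, ∀ g g' : G, (g' : Γ) = s * g * s⁻¹ → (χ : G → ℂ) g' = (χ : G → ℂ) g) → ∀ β : Cfsg.IrrCharacter C, ∀ m : ℕ, Cfsg.classInner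 (fun c : C => (χ : G → ℂ) ⟨c, hCG c.2⟩) (β : C → ℂ) = (m : ℂ) → ¬ p ∣ m → ((m : ℤ) ≡ 1 [ZMOD p] ∨ (m : ℤ) ≡ -1 [ZMOD p])) ∧ (∀ χ χ' : Cfsg.IrrCharacter G, (∀ s ∈ S, ∀ g g' : G, (g' : Γ) = s * g * s⁻¹ → (χ : G → ℂ) g' = (χ : G → ℂ) g) → (∀ s ∈ S, ∀ g g' : G, (g' : Γ) = s * g * s⁻¹ → (χ' : G → ℂ) g' = (χ' : G → ℂ) g) → ∀ β : Cfsg.IrrCharacter C, ∀ m m' : ℕ, Cfsg.classInner (fun c : C => (χ : G → ℂ) ⟨c, hCG c.2⟩) (β : C → ℂ) = (m : ℂ) → ¬ p ∣ m → Cfsg.classInner (fun c : C => (χ' : G → ℂ) ⟨c, hCG c.2⟩) (β : C → ℂ) = (m' : ℂ) → ¬ p ∣ m' → χ = χ') ∧ (∀ β : Cfsg.IrrCharacter C, ∃ χ : Cfsg.IrrCharacter G, (∀ s ∈ S, ∀ g g' : G, (g' : Γ) = s * g * s⁻¹ → (χ : G → ℂ) g' = (χ : G → ℂ) g) ∧ ∃ m : ℕ, Cfsg.classInner (fun c : C => (χ : G → ℂ) ⟨c, hCG c.2⟩) (β : C → ℂ) = (m : ℂ) ∧ ¬ p ∣ m)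

/-- The defining relation of the `p`-group correspondence. -/
def Rel (p : ℕ) (G D : Subgroup Γ) [Fintype D] (hDG : D ≤ G) (χ : G → ℂ) (β : D → ℂ) : Prop :=
  ∃ m : ℕ, Cfsg.classInner (fun c : D => χ ⟨c, hDG c.2⟩) β = (m : ℂ) ∧ ¬ p ∣ m

/-- Conjugating an irreducible character of `G` by an element normalizing `G`. -/
noncomputable def conjIrr (G : Subgroup Γ) (x : Γ) (hx : x ∈ Subgroup.normalizer (G : Set Γ))
    (χ : IrrCharacter G) : IrrCharacter G :=
  ⟨fun g => (χ : G → ℂ) (Helper24_CoprimeAction.conjAut G x hx g),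
    Helper74_GoingUp.isIrr_comp_equiv (Helper24_CoprimeAction.conjAut G x hx) χ.2⟩

theorem conjIrr_apply (G : Subgroup Γ) (x : Γ) (hx : x ∈ Subgroup.normalizer (G : Set Γ))
    (χ : IrrCharacter G) (g : G) :
    (conjIrr G x hx χ : G → ℂ) g = (χ : G → ℂ) ⟨x * g * x⁻¹,
      (Subgroup.mem_normalizer_iff.mp hx g).mp g.2⟩ := rfl

/-- invariance in terms of `conjIrr` -/
theorem sInv_iff (G S : Subgroup Γ) (hS : S ≤ Subgroup.normalizer (G : Set Γ))
    (χ : IrrCharacter G) :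
    SInv G S (χ : G → ℂ) ↔ ∀ s (hs : s ∈ S), conjIrr G s (hS hs) χ = χ := by
  constructor
  · intro h s hs
    apply Subtype.ext
    funext g
    rw [conjIrr_apply]
    exact h s hs g _ rfl
  · intro h s hs g g' hg'
    have h1 := congrArg (fun ψ : IrrCharacter G => (ψ : G → ℂ) g) (h s hs)
    simp only [conjIrr_apply] at h1
    have hg'' : g' = ⟨s * g * s⁻¹, (Subgroup.mem_normalizer_iff.mp (hS hs) g).mp g.2⟩ :=
      Subtype.ext hg'
    rw [hg'']
    exact h1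

/-- The relation is compatible with simultaneous conjugation. -/
theorem rel_conj (p : ℕ) (G D : Subgroup Γ) [Fintype D] (hDG : D ≤ G) (x : Γ)
    (hxG : x ∈ Subgroup.normalizer (G : Set Γ)) (hxD : x ∈ Subgroup.normalizer (D : Set Γ))
    (χ : IrrCharacter G) (β : IrrCharacter D) (h : Rel p G D hDG (χ : G → ℂ) (β : D → ℂ)) :
    Rel p G D hDG (conjIrr G x hxG χ : G → ℂ) (conjIrr D x hxD β : D → ℂ) := by
  obtain ⟨m, hm, hpm⟩ := h
  refine ⟨m, ?_, hpm⟩
  rw [← hm]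
  exact Helper74_GoingUp.classInner_comp_equiv (Helper24_CoprimeAction.conjAut D x hxD)
    (fun c : D => (χ : G → ℂ) ⟨c, hDG c.2⟩) (β : D → ℂ)

end Cfsg.Agent.Lib.Helper75_GlaubCount

namespace Cfsg.Agent.Lib.Helper75_GlaubCount

open Cfsg Cfsg.Agent.Lib

variable {Γ : Type*} [Group Γ] [Fintype Γ]

/-- **One step of the induction.** With `B = A P` normal in `S`, `A` centralizing `G`, `P` a
`p`-group (`p ∤ |G|`) and `D = C_G(P)`, the `S`-invariant irreducible characters of `G` and of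
`D` are equinumerous. -/
theorem card_step (H : PCorr Γ) (G S A B P : Subgroup Γ) (p : ℕ) (hp : p.Prime)
    (hBS : B ≤ S) (hPB : P ≤ B)
    (hnorm : ∀ s ∈ S, ∀ g ∈ G, s * g * s⁻¹ ∈ G)
    (hBn : ∀ s ∈ S, ∀ b ∈ B, s * b * s⁻¹ ∈ B)
    (hAG : ∀ a ∈ A, ∀ g ∈ G, a * g = g * a)
    (hPp : IsPGroup p P) (hdec : ∀ b ∈ B, ∃ a ∈ A, ∃ x ∈ P, b = a * x)
    (hpG : ¬ p ∣ Nat.card G)
    (D : Subgroup Γ) (hD : D = G ⊓ Subgroup.centralizer (P : Set Γ)) :
    Nat.card {χ : IrrCharacter G // SInv G S (χ : G → ℂ)} =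
      Nat.card {β : IrrCharacter D // SInv D S (β : D → ℂ)} := by
  classical
  have hDG : D ≤ G := by rw [hD]; exact inf_le_left
  have hPS : P ≤ S := hPB.trans hBS
  have hDP : ∀ d ∈ D, ∀ x ∈ P, x * d = d * x := by
    intro d hd x hx
    rw [hD] at hd
    exact Subgroup.mem_centralizer_iff.mp hd.2 x hx
  have hDB : ∀ d ∈ D, ∀ b ∈ B, b * d = d * b := by
    intro d hd b hb
    obtain ⟨a, ha, x, hx, rfl⟩ := hdec b hb
    rw [mul_assoc, hDP d hd x hx, ← mul_assoc, hAG a ha d (hDG hd), mul_assoc]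
  have hSD : ∀ s ∈ S, ∀ d ∈ D, s * d * s⁻¹ ∈ D := by
    intro s hs d hd
    rw [hD]
    refine ⟨hnorm s hs d (hDG hd), Subgroup.mem_centralizer_iff.mpr ?_⟩
    intro x hx
    have hb : s⁻¹ * x * s ∈ B := by
      have := hBn s⁻¹ (S.inv_mem hs) x (hPB hx)
      rwa [inv_inv] at this
    have h1 := hDB d hd _ hb
    -- x * (s d s⁻¹) = s (s⁻¹ x s) d s⁻¹
    calc x * (s * d * s⁻¹) = s * ((s⁻¹ * x * s) * d) * s⁻¹ := by group
      _ = s * (d * (s⁻¹ * x * s)) * s⁻¹ := by rw [h1]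
      _ = s * d * s⁻¹ * x := by group
  have hSnG : S ≤ Subgroup.normalizer (G : Set Γ) :=
    Helper75_CosetConj.le_normalizer_of_hnorm G S hnorm
  have hSnD : S ≤ Subgroup.normalizer (D : Set Γ) :=
    Helper75_CosetConj.le_normalizer_of_hnorm D S hSD
  have instG : Fintype G := Fintype.ofFinite G
  have instD : Fintype D := Fintype.ofFinite D
  have hpF : Fact p.Prime := ⟨hp⟩
  have hnormP : ∀ x ∈ P, ∀ g ∈ G, x * g * x⁻¹ ∈ G := fun x hx => hnorm x (hPS hx)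
  have hcopP : (Nat.card G).Coprime (Nat.card P) := by
    obtain ⟨j, hj⟩ := IsPGroup.iff_card.mp hPp
    rw [hj]
    exact Nat.Coprime.pow_right j ((Nat.Prime.coprime_iff_not_dvd hp).mpr hpG).symm
  obtain ⟨h1, -, h3, h4⟩ := H G P hnormP hcopP p hp hPp D hD hDG
  -- `P`-invariant implies `B`-invariant
  have hBinv : ∀ χ : G → ℂ, SInv G P χ → SInv G B χ := by
    intro χ hχ b hb g g' hg'
    obtain ⟨a, ha, x, hx, rfl⟩ := hdec b hb
    apply hχ x hx g g'
    rw [hg']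
    have hxg : x * g * x⁻¹ ∈ G := hnormP x hx g g.2
    have := hAG a ha _ hxg
    calc a * x * ↑g * (a * x)⁻¹ = (a * (x * g * x⁻¹)) * a⁻¹ := by group
      _ = x * g * x⁻¹ := by rw [this]; group
  -- conjugation by `S` preserves `P`-invariance
  have hconjP : ∀ (χ : IrrCharacter G) s (hs : s ∈ S), SInv G P (χ : G → ℂ) →
      SInv G P (conjIrr G s (hSnG hs) χ : G → ℂ) := by
    intro χ s hs hχ x hx g g' hg'
    rw [conjIrr_apply, conjIrr_apply]
    have hb : s * x * s⁻¹ ∈ B := hBn s hs x (hPB hx)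
    apply hBinv _ hχ _ hb
    show s * (g' : Γ) * s⁻¹ = s * x * s⁻¹ * (s * g * s⁻¹) * (s * x * s⁻¹)⁻¹
    rw [hg']; group
  -- forward map
  have hfwd : ∀ χ : {χ : IrrCharacter G // SInv G S (χ : G → ℂ)},
      ∃ β : {β : IrrCharacter D // SInv D S (β : D → ℂ)},
        Rel p G D hDG (χ.1 : G → ℂ) (β.1 : D → ℂ) := by
    rintro ⟨χ, hχ⟩
    have hχP : SInv G P (χ : G → ℂ) := fun x hx => hχ x (hPS hx)
    obtain ⟨β, hβ, huniq⟩ := h1 χ hχP
    refine ⟨⟨β, ?_⟩, hβ⟩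
    rw [sInv_iff D S hSnD]
    intro s hs
    apply huniq
    have h5 := rel_conj p G D hDG s (hSnG hs) (hSnD hs) χ β hβ
    rwa [(sInv_iff G S hSnG χ).mp hχ s hs] at h5
  have hbwd : ∀ β : {β : IrrCharacter D // SInv D S (β : D → ℂ)},
      ∃ χ : {χ : IrrCharacter G // SInv G S (χ : G → ℂ)},
        Rel p G D hDG (χ.1 : G → ℂ) (β.1 : D → ℂ) := by
    rintro ⟨β, hβ⟩
    obtain ⟨χ, hχP, hrel⟩ := h4 β
    refine ⟨⟨χ, ?_⟩, hrel⟩
    rw [sInv_iff G S hSnG]
    intro s hs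
    have h5 := rel_conj p G D hDG s (hSnG hs) (hSnD hs) χ β hrel
    rw [(sInv_iff D S hSnD β).mp hβ s hs] at h5
    obtain ⟨m, hm, hpm⟩ := h5
    obtain ⟨m', hm', hpm'⟩ := hrel
    exact h3 _ χ (hconjP χ s hs hχP) hχP β m m' hm hpm hm' hpm'
  choose f hf using hfwd
  choose g hg using hbwd
  have hfinj : Function.Injective f := by
    intro χ₁ χ₂ h12
    have r1 := hf χ₁
    have r2 := hf χ₂
    rw [h12] at r1
    obtain ⟨m, hm, hpm⟩ := r1
    obtain ⟨m', hm', hpm'⟩ := r2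
    apply Subtype.ext
    exact h3 χ₁.1 χ₂.1 (fun x hx => χ₁.2 x (hPS hx)) (fun x hx => χ₂.2 x (hPS hx)) (f χ₂).1 m m'
      hm hpm hm' hpm'
  have hginj : Function.Injective g := by
    intro β₁ β₂ h12
    have r1 := hg β₁
    have r2 := hg β₂
    rw [h12] at r1
    obtain ⟨β, -, huniq⟩ := h1 (g β₂).1 (fun x hx => (g β₂).2 x (hPS hx))
    apply Subtype.ext
    rw [huniq β₁.1 r1, huniq β₂.1 r2]
  have hfinG : Finite {χ : IrrCharacter G // SInv G S (χ : G → ℂ)} := inferInstance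
  have hfinD : Finite {β : IrrCharacter D // SInv D S (β : D → ℂ)} := inferInstance
  exact le_antisymm (Nat.card_le_card_of_injective f hfinj) (Nat.card_le_card_of_injective g hginj)

end Cfsg.Agent.Lib.Helper75_GlaubCount

namespace Cfsg.Agent.Lib.Helper75_GlaubCount

open Cfsg Cfsg.Agent.Lib

variable {Γ : Type*} [Group Γ] [Fintype Γ]

/-- **Counting invariant characters.** Let the solvable group `S` normalize `G`, let `A` be a
normal subgroup of `S` centralizing `G`, with `|G|` coprime to `[S : A]`. Then the number of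
`S`-invariant irreducible characters of `G` is the class number of `C_G(S)`. -/
theorem card_inv_eq (H : PCorr Γ) : ∀ (n : ℕ) (G S A : Subgroup Γ), A ≤ S →
    (∀ s ∈ S, ∀ a ∈ A, s * a * s⁻¹ ∈ A) → (∀ s ∈ S, ∀ g ∈ G, s * g * s⁻¹ ∈ G) →
    (∀ a ∈ A, ∀ g ∈ G, a * g = g * a) → (Nat.card G).Coprime (A.relIndex S) →
    Group.IsSolvable S → A.relIndex S = n →
    Nat.card {χ : IrrCharacter G // SInv G S (χ : G → ℂ)} =
      Nat.card (ConjClasses ↥(G ⊓ Subgroup.centralizer (S : Set Γ))) := by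
  intro n
  induction n using Nat.strong_induction_on with
  | _ n ih =>
    intro G S A hAS hAn hnorm hAG hcop hsolv hn
    classical
    by_cases hne : A = S
    · -- base case: `S` centralizes `G`
      subst hne
      have hall : ∀ χ : IrrCharacter G, SInv G A (χ : G → ℂ) := by
        intro χ s hs g g' hg'
        have : g' = g := by
          apply Subtype.ext
          rw [hg', hAG s hs g g.2]; group
        rw [this]
      have hGC : G ⊓ Subgroup.centralizer (A : Set Γ) = G := by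
        apply inf_eq_left.mpr
        intro g hg
        rw [Subgroup.mem_centralizer_iff]
        intro a ha
        exact hAG a ha g hg
      rw [hGC]
      have instG : Fintype G := Fintype.ofFinite G
      rw [← Helper3_CharColumn.card_irr_eq_card_conjClasses]
      exact Nat.card_congr (Equiv.subtypeUnivEquiv hall)
    · obtain ⟨p, B, P, hp, hAB, hBS, hBn, hPB, hPp, hdec, hpd, hlt, hdvd⟩ :=
        Helper75_SolvStep.exists_step A S hAS hAn hne hsolv
      have hpG : ¬ p ∣ Nat.card G := by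
        intro hpG
        have := Nat.dvd_gcd hpG hpd
        rw [Nat.Coprime] at hcop
        rw [hcop] at this
        exact hp.one_lt.ne' (Nat.dvd_one.mp this)
      have hPS : P ≤ S := hPB.trans hBS
      set D : Subgroup Γ := G ⊓ Subgroup.centralizer (P : Set Γ) with hD
      have hDG : D ≤ G := inf_le_left
      have hstep := card_step H G S A B P p hp hBS hPB hnorm hBn hAG hPp hdec hpG D hD
      rw [hstep]
      -- `B` centralizes `D`
      have hDB : ∀ b ∈ B, ∀ d ∈ D, b * d = d * b := by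
        intro b hb d hd
        obtain ⟨a, ha, x, hx, rfl⟩ := hdec b hb
        have h1 : x * d = d * x := Subgroup.mem_centralizer_iff.mp hd.2 x hx
        rw [mul_assoc, h1, ← mul_assoc, hAG a ha d (hDG hd), mul_assoc]
      have hSD : ∀ s ∈ S, ∀ d ∈ D, s * d * s⁻¹ ∈ D := by
        intro s hs d hd
        refine ⟨hnorm s hs d (hDG hd), Subgroup.mem_centralizer_iff.mpr ?_⟩
        intro x hx
        have hb : s⁻¹ * x * s ∈ B := by
          have := hBn s⁻¹ (S.inv_mem hs) x (hPB hx)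
          rwa [inv_inv] at this
        have h1 := hDB _ hb d hd
        calc x * (s * d * s⁻¹) = s * ((s⁻¹ * x * s) * d) * s⁻¹ := by group
          _ = s * (d * (s⁻¹ * x * s)) * s⁻¹ := by rw [h1]
          _ = s * d * s⁻¹ * x := by group
      have hcop' : (Nat.card D).Coprime (B.relIndex S) :=
        Nat.Coprime.coprime_dvd_left (Subgroup.card_dvd_of_le hDG)
          (Nat.Coprime.coprime_dvd_right hdvd hcop)
      have hIH := ih (B.relIndex S) (hn ▸ hlt) D S B hBS hBn hSD hDB hcop' hsolv rfl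
      rw [hIH]
      have hDS : D ⊓ Subgroup.centralizer (S : Set Γ) = G ⊓ Subgroup.centralizer (S : Set Γ) := by
        rw [hD, inf_assoc]
        congr 1
        apply inf_eq_right.mpr
        exact Subgroup.centralizer_le hPS
      rw [hDS]

end Cfsg.Agent.Lib.Helper75_GlaubCount

namespace Cfsg.Agent.Lib.Helper75_GlaubCount

open Cfsg Cfsg.Agent.Lib

/-- A copy of `Γ` on which `Γ` acts by conjugation. -/
structure ConjW (Γ : Type*) where
  /-- the underlying element -/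
  val : Γ

instance conjWSMul {Γ : Type*} [Group Γ] : SMul Γ (ConjW Γ) where
  smul g x := ⟨g * x.val * g⁻¹⟩

theorem conjW_smul_def {Γ : Type*} [Group Γ] (g : Γ) (x : ConjW Γ) :
    g • x = ⟨g * x.val * g⁻¹⟩ := rfl

instance conjWAction {Γ : Type*} [Group Γ] : MulAction Γ (ConjW Γ) where
  one_smul x := by
    rw [conjW_smul_def]
    cases x
    simp
  mul_smul g h x := by
    rw [conjW_smul_def, conjW_smul_def, conjW_smul_def]
    congr 1
    simp [mul_assoc]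

theorem conjW_smul_val {Γ : Type*} [Group Γ] (g : Γ) (x : ConjW Γ) :
    (g • x).val = g * x.val * g⁻¹ := rfl

variable {Γ : Type*} [Group Γ] [Fintype Γ]

/-- Every `S`-invariant class of `G` meets `C_G(S)` (Glauberman's lemma). -/
theorem exists_conj_mem_centralizer (G S : Subgroup Γ)
    (hnorm : ∀ s ∈ S, ∀ g ∈ G, s * g * s⁻¹ ∈ G)
    (hcop : (Nat.card G).Coprime (Nat.card S)) (hsolv : Group.IsSolvable S)
    {g : Γ} (hg : g ∈ G) (hinv : ∀ s ∈ S, ∃ k ∈ G, s * g * s⁻¹ = k * g * k⁻¹) :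
    ∃ k ∈ G, k * g * k⁻¹ ∈ G ⊓ Subgroup.centralizer (S : Set Γ) := by
  classical
  let Y : Set (ConjW Γ) := {x | ∃ k ∈ G, x.val = k * g * k⁻¹}
  have hYne : Y.Nonempty := ⟨⟨g⟩, 1, G.one_mem, by simp⟩
  have hGY : ∀ h ∈ G, ∀ y ∈ Y, h • y ∈ Y := by
    rintro h hh y ⟨k, hk, hy⟩
    refine ⟨h * k, G.mul_mem hh hk, ?_⟩
    rw [conjW_smul_val, hy]; group
  have hSY : ∀ s ∈ S, ∀ y ∈ Y, s • y ∈ Y := by
    rintro s hs y ⟨k, hk, hy⟩
    obtain ⟨k', hk', hk'e⟩ := hinv s hs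
    refine ⟨s * k * s⁻¹ * k', G.mul_mem (hnorm s hs k hk) hk', ?_⟩
    rw [conjW_smul_val, hy]
    calc s * (k * g * k⁻¹) * s⁻¹ = (s * k * s⁻¹) * (s * g * s⁻¹) * (s * k * s⁻¹)⁻¹ := by group
      _ = (s * k * s⁻¹) * (k' * g * k'⁻¹) * (s * k * s⁻¹)⁻¹ := by rw [hk'e]
      _ = s * k * s⁻¹ * k' * g * (s * k * s⁻¹ * k')⁻¹ := by group
  have hNY : ∀ n ∈ (⊥ : Subgroup Γ), ∀ y ∈ Y, n • y = y := by
    intro n hn y _
    rw [Subgroup.mem_bot] at hn
    rw [hn, one_smul]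
  have htrans : ∀ y ∈ Y, ∀ y' ∈ Y, ∃ h ∈ G, h • y = y' := by
    rintro ⟨y⟩ ⟨k, hk, hy⟩ ⟨y'⟩ ⟨k', hk', hy'⟩
    refine ⟨k' * k⁻¹, G.mul_mem hk' (G.inv_mem hk), ?_⟩
    show ConjW.mk _ = ConjW.mk _
    congr 1
    simp only at hy hy'
    rw [hy, hy']; group
  have hcop' : ((⊥ : Subgroup Γ).relIndex G).Coprime (Nat.card S) := by
    rw [Subgroup.relIndex_bot_left]; exact hcop
  obtain ⟨y, ⟨k, hk, hy⟩, hfix⟩ := Helper74_Glauberman.glauberman_rel G S ⊥ hnorm hcop'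
    (Or.inl hsolv) Y hYne hGY hSY hNY htrans
  refine ⟨k, hk, ?_, Subgroup.mem_centralizer_iff.mpr ?_⟩
  · exact G.mul_mem (G.mul_mem hk hg) (G.inv_mem hk)
  · intro s hs
    have h1 := congrArg ConjW.val (hfix s hs)
    rw [conjW_smul_val, hy] at h1
    calc s * (k * g * k⁻¹) = (s * (k * g * k⁻¹) * s⁻¹) * s := by group
      _ = k * g * k⁻¹ * s := by rw [h1]

/-- The `S`-invariant conjugacy classes of `G` correspond bijectively to the classes of
`C_G(S)`. -/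
theorem card_inv_classes (G S : Subgroup Γ) (hnorm : ∀ s ∈ S, ∀ g ∈ G, s * g * s⁻¹ ∈ G)
    (hcop : (Nat.card G).Coprime (Nat.card S)) (hsolv : Group.IsSolvable S) :
    Nat.card {K : ConjClasses G // ∀ s ∈ S, ∀ g g' : G, (g' : Γ) = s * g * s⁻¹ →
      ConjClasses.mk g = K → ConjClasses.mk g' = K} =
      Nat.card (ConjClasses ↥(G ⊓ Subgroup.centralizer (S : Set Γ))) := by
  classical
  set C : Subgroup Γ := G ⊓ Subgroup.centralizer (S : Set Γ) with hC
  have hCG : C ≤ G := inf_le_left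
  let ι : C →* G := Subgroup.inclusion hCG
  have hfixed : ∀ K : ConjClasses C, ∀ s ∈ S, ∀ g g' : G, (g' : Γ) = s * g * s⁻¹ →
      ConjClasses.mk g = ConjClasses.map ι K → ConjClasses.mk g' = ConjClasses.map ι K := by
    intro K s hs g g' hg' hgK
    obtain ⟨c, rfl⟩ := ConjClasses.mk_surjective K
    rw [Helper75_CosetConj.conjClasses_map_mk, ConjClasses.mk_eq_mk_iff_isConj, isConj_iff]
      at hgK ⊢
    obtain ⟨k, hk⟩ := hgK
    have hk' : (k : Γ) * g * (k : Γ)⁻¹ = (c : Γ) := congrArg Subtype.val hk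
    have hcs : s * (c : Γ) = (c : Γ) * s := Subgroup.mem_centralizer_iff.mp c.2.2 s hs
    refine ⟨⟨s * k * s⁻¹, hnorm s hs k k.2⟩, ?_⟩
    apply Subtype.ext
    show s * (k : Γ) * s⁻¹ * (g' : Γ) * (s * (k : Γ) * s⁻¹)⁻¹ = (c : Γ)
    rw [hg']
    calc s * (k : Γ) * s⁻¹ * (s * ↑g * s⁻¹) * (s * (k : Γ) * s⁻¹)⁻¹
        = s * ((k : Γ) * g * (k : Γ)⁻¹) * s⁻¹ := by group
      _ = s * (c : Γ) * s⁻¹ := by rw [hk']
      _ = (c : Γ) := by rw [hcs]; group
  let f : ConjClasses C → {K : ConjClasses G // ∀ s ∈ S, ∀ g g' : G, (g' : Γ) = s * g * s⁻¹ →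
      ConjClasses.mk g = K → ConjClasses.mk g' = K} :=
    fun K => ⟨ConjClasses.map ι K, hfixed K⟩
  have hinj : Function.Injective f := by
    intro K₁ K₂ h
    have h' : ConjClasses.map ι K₁ = ConjClasses.map ι K₂ := congrArg Subtype.val h
    obtain ⟨c₁, rfl⟩ := ConjClasses.mk_surjective K₁
    obtain ⟨c₂, rfl⟩ := ConjClasses.mk_surjective K₂
    rw [Helper75_CosetConj.conjClasses_map_mk, Helper75_CosetConj.conjClasses_map_mk,
      ConjClasses.mk_eq_mk_iff_isConj, isConj_iff] at h'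
    obtain ⟨x, hx⟩ := h'
    have hx' : (x : Γ) * (c₁ : Γ) * (x : Γ)⁻¹ = (c₂ : Γ) := congrArg Subtype.val hx
    obtain ⟨k, hk, hkc⟩ := Helper75_CosetConj.conj_in_centralizer G S hnorm hcop hsolv
      c₁.2 c₂.2 x.2 hx'
    rw [ConjClasses.mk_eq_mk_iff_isConj, isConj_iff]
    exact ⟨⟨k, hk⟩, Subtype.ext hkc⟩
  have hsurj : Function.Surjective f := by
    rintro ⟨K, hK⟩
    obtain ⟨g, rfl⟩ := ConjClasses.mk_surjective K
    have hinv : ∀ s ∈ S, ∃ k ∈ G, s * (g : Γ) * s⁻¹ = k * (g : Γ) * k⁻¹ := by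
      intro s hs
      have h1 := hK s hs g ⟨s * g * s⁻¹, hnorm s hs g g.2⟩ rfl rfl
      rw [ConjClasses.mk_eq_mk_iff_isConj, isConj_iff] at h1
      obtain ⟨x, hx⟩ := h1
      have hx' : (x : Γ) * (s * (g : Γ) * s⁻¹) * (x : Γ)⁻¹ = (g : Γ) := congrArg Subtype.val hx
      refine ⟨(x : Γ)⁻¹, G.inv_mem x.2, ?_⟩
      calc s * (g : Γ) * s⁻¹ = (x : Γ)⁻¹ * ((x : Γ) * (s * (g : Γ) * s⁻¹) * (x : Γ)⁻¹) * (x : Γ) := by
            group
        _ = (x : Γ)⁻¹ * (g : Γ) * (x : Γ) := by rw [hx']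
        _ = (x : Γ)⁻¹ * (g : Γ) * ((x : Γ)⁻¹)⁻¹ := by group
    obtain ⟨k, hk, hkC⟩ := exists_conj_mem_centralizer G S hnorm hcop hsolv g.2 hinv
    refine ⟨ConjClasses.mk ⟨k * (g : Γ) * k⁻¹, hkC⟩, ?_⟩
    apply Subtype.ext
    show ConjClasses.map ι (ConjClasses.mk _) = ConjClasses.mk g
    rw [Helper75_CosetConj.conjClasses_map_mk, ConjClasses.mk_eq_mk_iff_isConj, isConj_iff]
    refine ⟨⟨k⁻¹, G.inv_mem hk⟩, ?_⟩
    apply Subtype.ext
    show k⁻¹ * (k * (g : Γ) * k⁻¹) * k⁻¹⁻¹ = (g : Γ)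
    group
  exact (Nat.card_congr (Equiv.ofBijective f ⟨hinj, hsurj⟩)).symm

/-- **Main count.** For a solvable group `S` acting coprimely on `G`, the number of `S`-invariant
irreducible characters equals the number of `S`-invariant classes. -/
theorem count_main (H : PCorr Γ) (G S : Subgroup Γ) (hnorm : ∀ s ∈ S, ∀ g ∈ G, s * g * s⁻¹ ∈ G)
    (hcop : (Nat.card G).Coprime (Nat.card S)) (hsolv : Group.IsSolvable S) :
    Nat.card {χ : IrrCharacter G // SInv G S (χ : G → ℂ)} =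
      Nat.card {K : ConjClasses G // ∀ s ∈ S, ∀ g g' : G, (g' : Γ) = s * g * s⁻¹ →
        ConjClasses.mk g = K → ConjClasses.mk g' = K} := by
  rw [card_inv_classes G S hnorm hcop hsolv]
  have hcop' : (Nat.card G).Coprime ((⊥ : Subgroup Γ).relIndex S) := by
    rw [Subgroup.relIndex_bot_left]; exact hcop
  refine card_inv_eq H _ G S ⊥ bot_le ?_ hnorm ?_ hcop' hsolv rfl
  · intro s _ a ha
    rw [Subgroup.mem_bot] at ha ⊢
    rw [ha]; group
  · intro a ha g _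
    rw [Subgroup.mem_bot] at ha
    rw [ha, one_mul, mul_one]

/-- The invariant characters of `G` are counted by the classes of `C_G(S)`. -/
theorem count_centralizer (H : PCorr Γ) (G S : Subgroup Γ)
    (hnorm : ∀ s ∈ S, ∀ g ∈ G, s * g * s⁻¹ ∈ G)
    (hcop : (Nat.card G).Coprime (Nat.card S)) (hsolv : Group.IsSolvable S) :
    Nat.card {χ : IrrCharacter G // SInv G S (χ : G → ℂ)} =
      Nat.card (ConjClasses ↥(G ⊓ Subgroup.centralizer (S : Set Γ))) := by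
  rw [count_main H G S hnorm hcop hsolv, card_inv_classes G S hnorm hcop hsolv]

end Cfsg.Agent.Lib.Helper75_GlaubCount
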