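import Mathlib
import Cfsg.Prelude.Def_Characters
import Cfsg.Prelude.Def_Blocks
import Cfsg.Agent.Lib.Helper75_CoprimeDeg
import Cfsg.Agent.Lib.Helper75_GlaubCount

/-!
# Characters of degree coprime to a complement: `G = K H` versus `N_G(H)` (helper75)

From the Glauberman correspondence for `p`-groups (hypothesis `PCorr G`) we deduce Isaacs'
counting theorem: if `G = K H` with `K` normal, `H` solvable and `(|K|, |H|) = 1`, then `G` and
`N_G(H)` have equally many irreducible characters of degree coprime to `|H|`.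
-/

set_option autoImplicit false

universe u

namespace Cfsg.Agent.Lib.Helper75_CoprimeComplement

open Cfsg Cfsg.Agent.Lib

/-- A complement from `K ⊔ H = ⊤` and coprimality. -/
theorem isComplement'_of_sup_eq_top {G : Type u} [Group G] (K H : Subgroup G) [K.Normal]
    (hKH : K ⊔ H = ⊤) (hcop : (Nat.card K).Coprime (Nat.card H)) : H.IsComplement' K := by
  apply Subgroup.isComplement'_of_disjoint_and_mul_eq_univ
  · exact (Subgroup.disjoint_of_coprime_natCard hcop).symm
  · rw [← Subgroup.mul_normal, sup_comm, hKH, Subgroup.coe_top]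

/-- Class numbers of isomorphic groups agree. -/
theorem card_conjClasses_congr {A B : Type*} [Group A] [Group B] (e : A ≃* B) :
    Nat.card (ConjClasses A) = Nat.card (ConjClasses B) := by
  refine Nat.card_congr ⟨ConjClasses.map e.toMonoidHom, ConjClasses.map e.symm.toMonoidHom, ?_, ?_⟩
  · intro x
    obtain ⟨a, rfl⟩ := ConjClasses.mk_surjective x
    rw [Helper75_CosetConj.conjClasses_map_mk, Helper75_CosetConj.conjClasses_map_mk]
    simp
  · intro x
    obtain ⟨a, rfl⟩ := ConjClasses.mk_surjective x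
    rw [Helper75_CosetConj.conjClasses_map_mk, Helper75_CosetConj.conjClasses_map_mk]
    simp

/-- An element of the normal subgroup `K` normalizing `H` centralizes `H` when `K ∩ H = 1`. -/
theorem mem_centralizer_of_mem_normalizer {G : Type u} [Group G] (K H : Subgroup G)
    [hK : K.Normal] (hdisj : Disjoint K H) {y : G} (hyK : y ∈ K)
    (hyN : y ∈ Subgroup.normalizer (H : Set G)) : y ∈ Subgroup.centralizer (H : Set G) := by
  rw [Subgroup.mem_centralizer_iff]
  intro h hh
  have h1 : y * h * y⁻¹ ∈ H := (Subgroup.mem_normalizer_iff.mp hyN h).mp hh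
  have h2 : y * h * y⁻¹ * h⁻¹ ∈ H := H.mul_mem h1 (H.inv_mem hh)
  have h3 : y * h * y⁻¹ * h⁻¹ ∈ K := by
    have : y * h * y⁻¹ * h⁻¹ = y * (h * y⁻¹ * h⁻¹) := by group
    rw [this]
    exact K.mul_mem hyK (hK.conj_mem _ (K.inv_mem hyK) h)
  have h4 : y * h * y⁻¹ * h⁻¹ = 1 := by
    have := Subgroup.disjoint_def.mp hdisj h3 h2
    exact this
  calc h * y = (y * h * y⁻¹ * h⁻¹)⁻¹ * (y * h) := by group
    _ = y * h := by rw [h4]; group


open Helper75_GlaubCount Helper75_LinChar in
/-- **Isaacs' count.** If `G = K H` with `K` normal, `H` solvable and `(|K|, |H|) = 1`, then `G`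
and `N_G(H)` have equally many irreducible characters of degree coprime to `|H|`
(given the `p`-group Glauberman correspondence `PCorr G`). -/
theorem card_coprime_complement {G : Type u} [Group G] [hfin : Fintype G] (HP : PCorr G)
    (K H : Subgroup G) [hK : K.Normal] (hKH : K ⊔ H = ⊤)
    (hcop : (Nat.card K).Coprime (Nat.card H)) (hsolv : Group.IsSolvable H) :
    Nat.card {χ : IrrCharacter G // (charDegree (χ : G → ℂ)).Coprime (Nat.card H)} =
      Nat.card {η : IrrCharacter (Subgroup.normalizer (H : Set G)) //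
        (charDegree (η : Subgroup.normalizer (H : Set G) → ℂ)).Coprime (Nat.card H)} := by
  classical
  have hc := isComplement'_of_sup_eq_top K H hKH hcop
  have hidx : K.index = Nat.card H := hc.index_eq_card
  have hdisj : Disjoint K H := Subgroup.disjoint_of_coprime_natCard hcop
  have hmulall : ∀ g : G, ∃ h ∈ H, ∃ k ∈ K, h * k = g := by
    intro g
    have hg : g ∈ ((H ⊔ K : Subgroup G) : Set G) := by
      rw [sup_comm, hKH]; trivial
    rw [Subgroup.mul_normal] at hg
    obtain ⟨h, hh, k, hk, hhk⟩ := hg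
    exact ⟨h, hh, k, hk, hhk⟩
  -- the `G` side
  have hsolvQ : Group.IsSolvable (G ⧸ K) :=
    Group.isSolvable_of_isSolvable_injective (f := hc.QuotientMulEquiv.toMonoidHom)
      hc.QuotientMulEquiv.injective
  have hG := Helper75_CoprimeDeg.card_coprime_degree K hsolvQ (by rw [hidx]; exact hcop)
  rw [hidx] at hG
  rw [hG, Helper75_CoprimeDeg.card_linK K H hc]
  have hnorm : ∀ s ∈ H, ∀ g ∈ K, s * g * s⁻¹ ∈ K := fun s _ g hg => hK.conj_mem g hg s
  have hinvG : Nat.card {ϑ : IrrCharacter K // ∀ (g : G) (n : K),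
      (ϑ : K → ℂ) ⟨g * n * g⁻¹, hK.conj_mem n n.2 g⟩ = (ϑ : K → ℂ) n} =
      Nat.card {ϑ : IrrCharacter K // SInv K H (ϑ : K → ℂ)} := by
    apply Nat.card_congr
    apply Equiv.subtypeEquivRight
    intro ϑ
    have hcl : IsClassFunction K (ϑ : K → ℂ) :=
      Helper3_CharBridge.isClassFunction_of_isIrrCharacter ϑ.2
    constructor
    · intro h s hs g g' hg'
      have hg'' : g' = ⟨s * g * s⁻¹, hK.conj_mem g g.2 s⟩ := Subtype.ext hg'
      rw [hg'']; exact h s g
    · intro h g n
      obtain ⟨s, hs, k, hk, rfl⟩ := hmulall g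
      have h1 := h s hs ⟨k * n * k⁻¹, hK.conj_mem n n.2 k⟩
        ⟨s * k * n * (s * k)⁻¹, hK.conj_mem n n.2 (s * k)⟩ (by
          show s * k * ↑n * (s * k)⁻¹ = s * (k * ↑n * k⁻¹) * s⁻¹
          group)
      rw [h1]
      exact hcl n ⟨k, hk⟩
  rw [hinvG, count_centralizer HP K H hnorm hcop hsolv]
  -- the `N` side
  set N : Subgroup G := Subgroup.normalizer (H : Set G) with hN
  have hHN : H ≤ N := Subgroup.le_normalizer
  set K' : Subgroup N := K.subgroupOf N with hK'
  set H' : Subgroup N := H.subgroupOf N with hH'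
  have hK'n : K'.Normal := Subgroup.normal_subgroupOf
  have hmulall' : ∀ n : N, ∃ h ∈ H', ∃ k ∈ K', h * k = n := by
    intro n
    obtain ⟨h, hh, k, hk, hhk⟩ := hmulall (n : G)
    have hkN : k ∈ N := by
      have : k = h⁻¹ * (n : G) := by rw [← hhk]; group
      rw [this]
      exact N.mul_mem (N.inv_mem (hHN hh)) n.2
    exact ⟨⟨h, hHN hh⟩, Subgroup.mem_subgroupOf.mpr hh, ⟨k, hkN⟩, Subgroup.mem_subgroupOf.mpr hk,
      Subtype.ext hhk⟩
  have hc' : H'.IsComplement' K' := by
    apply Subgroup.isComplement'_of_disjoint_and_mul_eq_univ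
    · rw [Subgroup.disjoint_def]
      intro x hxH hxK
      have := Subgroup.disjoint_def.mp hdisj (Subgroup.mem_subgroupOf.mp hxK)
        (Subgroup.mem_subgroupOf.mp hxH)
      exact Subtype.ext this
    · rw [Set.eq_univ_iff_forall]
      intro n
      obtain ⟨h, hh, k, hk, hhk⟩ := hmulall' n
      exact ⟨h, hh, k, hk, hhk⟩
  let eH : H' ≃* H := Subgroup.subgroupOfEquivOfLe hHN
  have hcardH' : Nat.card H' = Nat.card H := Nat.card_congr eH.toEquiv
  have hidx' : K'.index = Nat.card H := by rw [hc'.index_eq_card, hcardH']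
  have hK'dvd : Nat.card K' ∣ Nat.card K := by
    let f : K' →* K :=
      { toFun := fun y => ⟨((y : N) : G), Subgroup.mem_subgroupOf.mp y.2⟩
        map_one' := rfl
        map_mul' := fun _ _ => rfl }
    apply Subgroup.card_dvd_of_injective f
    intro a b hab
    have h1 : ((f a : K) : G) = ((f b : K) : G) := congrArg Subtype.val hab
    exact Subtype.ext (Subtype.ext h1)
  have hcop' : (Nat.card K').Coprime K'.index := by
    rw [hidx']
    exact Nat.Coprime.coprime_dvd_left hK'dvd hcop
  have hsolvH' : Group.IsSolvable H' :=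
    Group.isSolvable_of_isSolvable_injective (f := eH.toMonoidHom) eH.injective
  have hsolvQ' : Group.IsSolvable (N ⧸ K') :=
    Group.isSolvable_of_isSolvable_injective (f := hc'.QuotientMulEquiv.toMonoidHom)
      hc'.QuotientMulEquiv.injective
  have hNc := Helper75_CoprimeDeg.card_coprime_degree K' hsolvQ' hcop'
  rw [hidx'] at hNc
  rw [hNc, Helper75_CoprimeDeg.card_linK K' H' hc']
  have hhom : Nat.card (H' →* ℂˣ) = Nat.card (H →* ℂˣ) := by
    refine Nat.card_congr ⟨fun f => f.comp eH.symm.toMonoidHom, fun f => f.comp eH.toMonoidHom,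
      ?_, ?_⟩
    · intro f; ext x; simp
    · intro f; ext x; simp
  rw [hhom]
  congr 1
  -- all irreducible characters of `K'` are `N`-invariant
  have hall : ∀ ϑ : IrrCharacter K', ∀ (n : N) (x : K'),
      (ϑ : K' → ℂ) ⟨n * x * n⁻¹, hK'n.conj_mem x x.2 n⟩ = (ϑ : K' → ℂ) x := by
    intro ϑ n x
    have hcl : IsClassFunction K' (ϑ : K' → ℂ) :=
      Helper3_CharBridge.isClassFunction_of_isIrrCharacter ϑ.2
    obtain ⟨h, hh, k, hk, rfl⟩ := hmulall' n
    have hy : ((⟨k, hk⟩ * x * ⟨k, hk⟩⁻¹ : K') : N) = k * x * k⁻¹ := rfl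
    have hyK : (((k * x * k⁻¹ : N)) : G) ∈ K := by
      have := (⟨k, hk⟩ * x * ⟨k, hk⟩⁻¹ : K').2
      exact Subgroup.mem_subgroupOf.mp this
    have hcent := mem_centralizer_of_mem_normalizer K H hdisj hyK (k * x * k⁻¹ : N).2
    have hcomm : (h : G) * ((k * x * k⁻¹ : N) : G) = ((k * x * k⁻¹ : N) : G) * (h : G) :=
      Subgroup.mem_centralizer_iff.mp hcent (h : G) (Subgroup.mem_subgroupOf.mp hh)
    have heq : (⟨h * k * x * (h * k)⁻¹, hK'n.conj_mem x x.2 (h * k)⟩ : K') =
        ⟨k, hk⟩ * x * ⟨k, hk⟩⁻¹ := by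
      apply Subtype.ext
      apply Subtype.ext
      show ((h * k * (x : N) * (h * k)⁻¹ : N) : G) = ((k * x * k⁻¹ : N) : G)
      have h1 : ((h * k * (x : N) * (h * k)⁻¹ : N) : G) =
          (h : G) * ((k * x * k⁻¹ : N) : G) * (h : G)⁻¹ := by
        simp only [Subgroup.coe_mul, Subgroup.coe_inv]; group
      rw [h1, hcomm]; group
    rw [heq]
    exact hcl x ⟨k, hk⟩
  have instK' : Fintype K' := Fintype.ofFinite K'
  rw [Nat.card_congr (Equiv.subtypeUnivEquiv hall),
    Helper3_CharColumn.card_irr_eq_card_conjClasses]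
  symm
  apply card_conjClasses_congr
  exact
    { toFun := fun y => ⟨((y : N) : G), Subgroup.mem_subgroupOf.mp y.2,
        mem_centralizer_of_mem_normalizer K H hdisj (Subgroup.mem_subgroupOf.mp y.2) (y : N).2⟩
      invFun := fun z => ⟨⟨(z : G), Subgroup.centralizer_le_normalizer _ z.2.2⟩,
        Subgroup.mem_subgroupOf.mpr z.2.1⟩
      left_inv := fun y => rfl
      right_inv := fun z => rfl
      map_mul' := fun _ _ => rfl }

end Cfsg.Agent.Lib.Helper75_CoprimeComplement
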