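import Mathlib

/-!
# A Galois-free rationality lemma for cyclotomic integers (helper75)

`exists_int_of_forall_coprime`: if `P ∈ ℤ[X]`, `ω` a primitive `n`-th root of unity in `ℂ`, and
`P(ω^j) = z` for every `j` coprime to `n`, then `z` is a rational integer.
-/

set_option autoImplicit false

namespace Cfsg.Agent.Lib.Helper75_Cyclotomic

open Polynomial

theorem exists_int_of_forall_coprime {n : ℕ} (hn : 0 < n) {ω : ℂ} (hω : IsPrimitiveRoot ω n)
    (P : Polynomial ℤ) (z : ℂ)
    (h : ∀ j : ℕ, j.Coprime n → Polynomial.aeval (ω ^ j) P = z) : ∃ m : ℤ, z = m := by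
  have : NeZero n := ⟨hn.ne'⟩
  set Φ := cyclotomic n ℤ with hΦ
  have hmon : Φ.Monic := cyclotomic.monic n ℤ
  have hdeg : Φ.natDegree = Nat.totient n := natDegree_cyclotomic n ℤ
  have hne1 : Φ ≠ 1 := by
    intro h1
    have : Φ.natDegree = 0 := by rw [h1]; simp
    rw [hdeg] at this
    exact (Nat.totient_pos.mpr hn).ne' this
  set R := P %ₘ Φ with hR
  have hRdeg : R.natDegree < Nat.totient n := by
    rw [← hdeg]; exact natDegree_modByMonic_lt P hmon hne1
  have hae : ∀ (μ : ℂ) (T : Polynomial ℤ), aeval μ T = eval₂ (Int.castRingHom ℂ) μ T := by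
    intro μ T
    rw [aeval_def, algebraMap_int_eq]
  have hPR : ∀ μ : ℂ, IsPrimitiveRoot μ n → aeval μ P = aeval μ R := by
    intro μ hμ
    have h1 : aeval μ Φ = 0 := by
      have h2 := hμ.isRoot_cyclotomic hn
      rw [IsRoot.def, ← map_cyclotomic_int n ℂ, eval_map] at h2
      rw [hae]
      exact h2
    have h3 := congrArg (aeval μ) (modByMonic_add_div P Φ)
    rw [map_add, map_mul, h1, zero_mul, add_zero] at h3
    exact h3.symm
  have hroots : ∀ μ ∈ primitiveRoots n ℂ, aeval μ R = z := by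
    intro μ hμ
    rw [mem_primitiveRoots hn] at hμ
    obtain ⟨i, -, hi, rfl⟩ := (hω.isPrimitiveRoot_iff).mp hμ
    rw [← hPR _ (hω.pow_of_coprime i hi)]
    exact h i hi
  set Q : Polynomial ℂ := R.map (Int.castRingHom ℂ) - C z with hQ
  have hQ0 : Q = 0 := by
    apply eq_zero_of_natDegree_lt_card_of_eval_eq_zero' Q (primitiveRoots n ℂ)
    · intro μ hμ
      rw [hQ, eval_sub, eval_C, eval_map, ← hae, hroots μ hμ, sub_self]
    · rw [Complex.card_primitiveRoots]
      calc Q.natDegree ≤ max (R.map (Int.castRingHom ℂ)).natDegree (C z).natDegree :=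
            natDegree_sub_le _ _
        _ ≤ R.natDegree := by
            rw [natDegree_C, max_eq_left (Nat.zero_le _)]
            exact natDegree_map_le
        _ < Nat.totient n := hRdeg
  refine ⟨R.coeff 0, ?_⟩
  have h1 : R.map (Int.castRingHom ℂ) = C z := sub_eq_zero.mp hQ0
  have h2 := congrArg (fun p : Polynomial ℂ => p.coeff 0) h1
  simp only [coeff_map, coeff_C_zero] at h2
  rw [← h2]
  simp

end Cfsg.Agent.Lib.Helper75_Cyclotomic
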