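import Cfsg.Agent.Lib.Helper75_CanonExt
import Cfsg.Agent.Lib.Helper75_CosetNorm
import Cfsg.Agent.Lib.Helper75_CosetConj
import Cfsg.Agent.Lib.Helper75_Cyclotomic
import Cfsg.Agent.Lib.Helper75_GlaubAux
import Cfsg.Agent.S0173

/-!
# The Glauberman correspondence for a cyclic operator group (helper75)

`Γ = G S`, `G ⊴ Γ`, `S = ⟨s⟩` cyclic, `(|G|, |S|) = 1`, `C = C_G(S)`.  For `ψ ∈ Irr Γ` with
irreducible restriction to `G` and determinantal order coprime to `|S|` (the canonical extension of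
the `S`-invariant `χ = ψ|_G`):
* `exists_beta`: `ψ (c s) = ε β(c)` on `C` for an irreducible character `β` of `C` and a sign `ε`,
  and `β` is a constituent of `χ|_C`;
* `apply_mul_pow_generator`: `ψ (c s^j) = ψ (c s)` for `j` coprime to `|S|`;
* `restrict_eq_of_beta_eq`: `χ ↦ β` is injective;
* `exists_of_beta`: `χ ↦ β` is surjective.
(Isaacs, Character theory of finite groups, Theorem 13.6.)
-/

set_option autoImplicit false
set_option linter.unusedSectionVars false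
open scoped ComplexConjugate

namespace Cfsg.Agent.Lib.Helper75_GlaubCyclic

open Cfsg.Agent.Lib.Helper3_CharBridge Cfsg.Agent.Lib.Helper3_CharOrtho
  Cfsg.Agent.Lib.Helper3_CharComplete
  Cfsg.Agent.Lib.Helper75_CharArith Cfsg.Agent.Lib.Helper75_LinChar
  Cfsg.Agent.Lib.Helper75_CanonExt Cfsg.Agent.Lib.Helper75_CosetNorm
  Cfsg.Agent.Lib.Helper75_CosetConj Cfsg.Agent.Lib.Helper75_Cyclotomic
  Cfsg.Agent.Lib.Helper75_GlaubAux

universe u

variable {Γ : Type u} [Group Γ] [Finite Γ] (G S : Subgroup Γ)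

section Structure

theorem hnorm_of_normal [hG : G.Normal] : ∀ t ∈ S, ∀ g ∈ G, t * g * t⁻¹ ∈ G :=
  fun t _ g hg => hG.conj_mem g hg t

/-- `Γ ⧸ G` is commutative when `Γ = G S` with `S` cyclic. -/
theorem quotient_comm [hG : G.Normal] (htop : G ⊔ S = ⊤) {s : Γ} (hs : Subgroup.zpowers s = S) :
    ∀ a b : Γ ⧸ G, a * b = b * a := by
  have hmk : ∀ q : Γ ⧸ G, ∃ i : ℤ, q = ((s ^ i : Γ) : Γ ⧸ G) := by
    intro q
    obtain ⟨x, rfl⟩ := QuotientGroup.mk_surjective q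
    have hx : x ∈ G ⊔ S := by rw [htop]; trivial
    obtain ⟨g, hg, t, ht, rfl⟩ := Cfsg.Agent.Lib.Helper24_CoprimeAction.exists_mul_of_mem_sup S G
      (le_normalizer_of_hnorm G S (hnorm_of_normal G S)) hx
    rw [← hs] at ht
    obtain ⟨i, rfl⟩ := Subgroup.mem_zpowers_iff.mp ht
    refine ⟨i, ?_⟩
    rw [QuotientGroup.mk_mul, (QuotientGroup.eq_one_iff g).mpr hg, one_mul]
  intro a b
  obtain ⟨i, rfl⟩ := hmk a
  obtain ⟨j, rfl⟩ := hmk b
  rw [← QuotientGroup.mk_mul, ← QuotientGroup.mk_mul, ← zpow_add, ← zpow_add, add_comm]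

theorem index_eq_card [hG : G.Normal] (hcop : (Nat.card G).Coprime (Nat.card S))
    (htop : G ⊔ S = ⊤) : G.index = Nat.card S := by
  have hdisj : G ⊓ S = ⊥ := (Subgroup.disjoint_of_coprime_natCard hcop).eq_bot
  rw [← Subgroup.relIndex_top_right, ← htop, Subgroup.relIndex_sup_left,
    ← Subgroup.inf_relIndex_right, hdisj, Subgroup.relIndex_bot_left]

end Structure

section Values

variable [hG : G.Normal] (hcop : (Nat.card G).Coprime (Nat.card S)) (htop : G ⊔ S = ⊤)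
  {s : Γ} (hs : Subgroup.zpowers s = S)
  {ψ : Γ → ℂ} (hψ : Cfsg.IsIrrCharacter Γ ψ) (hψG : Cfsg.IsIrrCharacter G (fun g : G => ψ g))
  (hdet : (Cfsg.detOrder ψ).Coprime (Nat.card S))

include hcop htop hs hψ hψG hdet in
/-- The canonical extension has the same value at `c s^j` for all `j` coprime to `|S|`. -/
theorem apply_mul_pow_generator {c : Γ} (hc : c ∈ G ⊓ Subgroup.centralizer (S : Set Γ)) (j : ℕ)
    (hj : j.Coprime (Nat.card S)) : ψ (c * s ^ j) = ψ (c * s) := by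
  have hsS : s ∈ S := hs ▸ Subgroup.mem_zpowers s
  obtain ⟨k, hk1, hkj⟩ := Nat.chineseRemainder hcop 1 j
  have hidx := index_eq_card G S hcop htop
  have hkcop : k.Coprime (Nat.card Γ) := by
    rw [← Subgroup.card_mul_index G, hidx]
    apply Nat.Coprime.mul_right
    · rw [Nat.Coprime, hk1.gcd_eq]; simp
    · rw [Nat.Coprime, hkj.gcd_eq]; exact hj
  have hcomm : Commute c s := ((Subgroup.mem_centralizer_iff.mp hc.2) s hsS).symm
  have h1 := canonical_powMap G (by rw [hidx]; exact hcop) hψ hψG (by rw [hidx]; exact hdet)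
    k hkcop hk1 (c * s)
  rw [hcomm.mul_pow, pow_eq_self_of_modEq (pow_card_of_mem G hc.1) hk1,
    pow_eq_of_modEq (pow_card_of_mem S hsS) hkj] at h1
  exact h1

include hcop htop hs hψ hψG hdet in
/-- The canonical extension has the same value at `c s'` for all generators `s'` of `S`. -/
theorem apply_mul_generator {c : Γ} (hc : c ∈ G ⊓ Subgroup.centralizer (S : Set Γ)) {s' : Γ}
    (hs' : Subgroup.zpowers s' = S) : ψ (c * s') = ψ (c * s) := by
  have h1 : s' ∈ Subgroup.zpowers s := by rw [hs, ← hs']; exact Subgroup.mem_zpowers s'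
  rw [← mem_powers_iff_mem_zpowers] at h1
  obtain ⟨j, rfl⟩ := (Submonoid.mem_powers_iff _ _).mp h1
  apply apply_mul_pow_generator G S hcop htop hs hψ hψG hdet hc j
  have h2 : orderOf (s ^ j) = orderOf s := by
    rw [← Nat.card_zpowers, ← Nat.card_zpowers, hs', hs]
  have hpos : 0 < orderOf s := orderOf_pos s
  rw [orderOf_pow s] at h2
  have h3 : Nat.gcd (orderOf s) j = 1 := by
    rcases Nat.div_eq_self.mp h2 with h | h
    · omega
    · exact h
  rw [← hs, Nat.card_zpowers, Nat.Coprime, Nat.gcd_comm]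
  exact h3

include hcop htop hs hψ hψG in
/-- `∑_{c ∈ C} |ψ(c s)|² = |C|`. -/
theorem sum_C_norm [Fintype G] (C : Subgroup Γ)
    (hC : C = G ⊓ Subgroup.centralizer (S : Set Γ)) [Fintype C] :
    ∑ c : C, ψ ((c : Γ) * s) * conj (ψ ((c : Γ) * s)) = (Nat.card C : ℂ) := by
  have := Fintype.ofFinite Γ
  have h1 := sum_coset_norm G (quotient_comm G S htop hs) hψ hψG s
  have hcl : Cfsg.IsClassFunction Γ ψ := isClassFunction_of_isIrrCharacter hψ
  have h2 := sum_coset_eq G S (hnorm_of_normal G S) hcop hs C hC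
    (fun x => ψ x * conj (ψ x)) (fun k _ x => by simp only [hcl x k])
  rw [h1] at h2
  have hG0 : (Nat.card G : ℂ) ≠ 0 := by
    rw [Nat.cast_ne_zero]; exact Nat.card_pos.ne'
  apply mul_left_cancel₀ hG0
  rw [← h2, mul_comm]

include hcop htop hs in
/-- `∑_{c ∈ C} ψ₁(c s) conj ψ₂(c s) = 0` for irreducible `ψ₁`, `ψ₂` with different restrictions
to `G`. -/
theorem sum_C_orth [Fintype G] (C : Subgroup Γ)
    (hC : C = G ⊓ Subgroup.centralizer (S : Set Γ)) [Fintype C] {ψ₁ ψ₂ : Γ → ℂ}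
    (h₁ : Cfsg.IsIrrCharacter Γ ψ₁) (h₂ : Cfsg.IsIrrCharacter Γ ψ₂)
    (hne : (fun g : G => ψ₁ g) ≠ fun g : G => ψ₂ g) :
    ∑ c : C, ψ₁ ((c : Γ) * s) * conj (ψ₂ ((c : Γ) * s)) = 0 := by
  have := Fintype.ofFinite Γ
  have h1 := sum_coset_orth G (quotient_comm G S htop hs) h₁ h₂ hne s
  have hcl₁ : Cfsg.IsClassFunction Γ ψ₁ := isClassFunction_of_isIrrCharacter h₁
  have hcl₂ : Cfsg.IsClassFunction Γ ψ₂ := isClassFunction_of_isIrrCharacter h₂
  have h2 := sum_coset_eq G S (hnorm_of_normal G S) hcop hs C hC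
    (fun x => ψ₁ x * conj (ψ₂ x)) (fun k _ x => by simp only [hcl₁ x k, hcl₂ x k])
  rw [h1, mul_zero] at h2
  have hG0 : (Nat.card G : ℂ) ≠ 0 := by
    rw [Nat.cast_ne_zero]; exact Nat.card_pos.ne'
  exact (mul_eq_zero.mp h2.symm).resolve_left hG0

include hs hψ in
/-- The inner products `[c ↦ ψ(c s^j), β]` as nonnegative integer combinations of `j`-th powers of
`|S|`-th roots of unity. -/
theorem exists_decomp (C : Subgroup Γ)
    (hC : C = G ⊓ Subgroup.centralizer (S : Set Γ)) [Fintype C] {β : C → ℂ}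
    (hβ : Cfsg.IsIrrCharacter C β) :
    ∃ (ι : Type u) (_ : Fintype ι) (a : ι → ℕ) (μ : ι → ℂ), (∀ i, μ i ^ Nat.card S = 1) ∧
      ∀ j : ℕ, Cfsg.classInner (fun c : C => ψ ((c : Γ) * s ^ j)) β =
        ∑ i, (a i : ℂ) * μ i ^ j := by
  classical
  have hsS : s ∈ S := hs ▸ Subgroup.mem_zpowers s
  set D : Subgroup Γ := Subgroup.centralizer ({s} : Set Γ) with hD
  have hsD : s ∈ D := Subgroup.mem_centralizer_singleton_iff.mpr rfl
  have hCD : ∀ c : C, (c : Γ) ∈ D := by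
    intro c
    have hc : (c : Γ) ∈ G ⊓ Subgroup.centralizer (S : Set Γ) := by rw [← hC]; exact c.2
    exact Subgroup.mem_centralizer_singleton_iff.mpr
      ((Subgroup.mem_centralizer_iff.mp hc.2) s hsS).symm
  have hCD' : C ≤ D := fun c hc => hCD ⟨c, hc⟩
  have hz : ∀ d : D, d * (⟨s, hsD⟩ : D) = ⟨s, hsD⟩ * d := by
    intro d
    apply Subtype.ext
    exact Subgroup.mem_centralizer_singleton_iff.mp d.2
  have hzn : (⟨s, hsD⟩ : D) ^ Nat.card S = 1 := by
    apply Subtype.ext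
    rw [Subgroup.coe_pow, Subgroup.coe_one]
    exact pow_card_of_mem S hsS
  have := Fintype.ofFinite D
  have hψD : Cfsg.IsCharacter D (fun d : D => ψ d) :=
    Cfsg.Agent.Lib.Helper75_Clifford.isCharacter_res D (isCharacter_of_isIrrCharacter hψ)
  obtain ⟨m, -, hm⟩ := exists_multiplicities hψD
  choose μ hμn hμ using fun ξ : Cfsg.IrrCharacter D =>
    exists_central_scalar ξ.2 (⟨s, hsD⟩ : D) hz (Nat.card S) hzn
  have hres : ∀ ξ : Cfsg.IrrCharacter D,
      Cfsg.IsCharacter C (fun c : C => (ξ : D → ℂ) (Subgroup.inclusion hCD' c)) := fun ξ =>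
    isCharacter_comp (Subgroup.inclusion hCD') (isCharacter_of_isIrrCharacter ξ.2)
  choose e he using fun ξ : Cfsg.IrrCharacter D =>
    classInner_isCharacter_nat (hres ξ) (isCharacter_of_isIrrCharacter hβ)
  refine ⟨Cfsg.IrrCharacter D, inferInstance, fun ξ => m ξ * e ξ, μ, hμn, ?_⟩
  intro j
  have key : (fun c : C => ψ ((c : Γ) * s ^ j)) =
      ∑ ξ : Cfsg.IrrCharacter D, ((m ξ : ℂ) * μ ξ ^ j) •
        (fun c : C => (ξ : D → ℂ) (Subgroup.inclusion hCD' c)) := by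
    funext c
    have h1 : ψ ((c : Γ) * s ^ j) =
        (fun d : D => ψ d) (Subgroup.inclusion hCD' c * (⟨s, hsD⟩ : D) ^ j) := rfl
    rw [h1, hm]
    simp only [Finset.sum_apply, Pi.smul_apply, smul_eq_mul, hμ]
    apply Finset.sum_congr rfl
    intro ξ _
    ring
  rw [key, classInner_sum_left]
  apply Finset.sum_congr rfl
  intro ξ _
  rw [classInner_smul_left, he ξ]
  push_cast
  ring

include hcop htop hs hψ hψG hdet in
/-- Integrality of the coefficients of `c ↦ ψ(c s)`. -/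
theorem exists_int_coeff (C : Subgroup Γ)
    (hC : C = G ⊓ Subgroup.centralizer (S : Set Γ)) [Fintype C] {β : C → ℂ}
    (hβ : Cfsg.IsIrrCharacter C β) :
    ∃ z : ℤ, Cfsg.classInner (fun c : C => ψ ((c : Γ) * s)) β = z ∧
      (z ≠ 0 → Cfsg.classInner (fun c : C => ψ (c : Γ)) β ≠ 0) := by
  classical
  obtain ⟨ι, hι, a, μ, hμ, hdec⟩ := exists_decomp G S hs hψ C hC hβ
  have hn : 0 < Nat.card S := Nat.card_pos
  have hω : IsPrimitiveRoot (Complex.exp (2 * Real.pi * Complex.I / (Nat.card S : ℂ)))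
      (Nat.card S) := Complex.isPrimitiveRoot_exp _ hn.ne'
  set ω := Complex.exp (2 * Real.pi * Complex.I / (Nat.card S : ℂ)) with hωdef
  have ht : ∀ i : ι, ∃ t : ℕ, ω ^ t = μ i := fun i => by
    have : NeZero (Nat.card S) := ⟨hn.ne'⟩
    obtain ⟨t, -, ht⟩ := hω.eq_pow_of_pow_eq_one (hμ i)
    exact ⟨t, ht⟩
  choose t ht using ht
  set P : Polynomial ℤ := ∑ i, Polynomial.C (a i : ℤ) * Polynomial.X ^ t i with hP
  have hPeval : ∀ j : ℕ, Polynomial.aeval (ω ^ j) P = ∑ i, (a i : ℂ) * μ i ^ j := by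
    intro j
    rw [hP, map_sum]
    apply Finset.sum_congr rfl
    intro i _
    rw [map_mul, Polynomial.aeval_C, map_pow, Polynomial.aeval_X, ← ht i, ← pow_mul, ← pow_mul,
      mul_comm j]
    simp
  have hc : ∀ c : C, (c : Γ) ∈ G ⊓ Subgroup.centralizer (S : Set Γ) := fun c => by
    rw [← hC]; exact c.2
  have hall : ∀ j : ℕ, j.Coprime (Nat.card S) → Polynomial.aeval (ω ^ j) P =
      Cfsg.classInner (fun c : C => ψ ((c : Γ) * s)) β := by
    intro j hj
    rw [hPeval, ← hdec j]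
    congr 1
    funext c
    exact apply_mul_pow_generator G S hcop htop hs hψ hψG hdet (hc c) j hj
  obtain ⟨z, hz⟩ := exists_int_of_forall_coprime hn hω P _ hall
  refine ⟨z, hz, ?_⟩
  intro hz0
  -- some coefficient is non-zero
  have h1 : Cfsg.classInner (fun c : C => ψ ((c : Γ) * s)) β = ∑ i, (a i : ℂ) * μ i ^ 1 := by
    have := hdec 1
    simpa using this
  have h0 : Cfsg.classInner (fun c : C => ψ (c : Γ)) β = ∑ i, (a i : ℂ) := by
    have := hdec 0
    simpa using this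
  rw [h0]
  have hex : ∃ i, a i ≠ 0 := by
    by_contra hcon
    push Not at hcon
    apply hz0
    have : (z : ℂ) = 0 := by
      rw [← hz, h1]
      apply Finset.sum_eq_zero
      intro i _
      rw [hcon i]; simp
    exact_mod_cast this
  obtain ⟨i, hi⟩ := hex
  have h2 : (∑ i, a i) ≠ 0 := by
    intro h
    exact hi ((Finset.sum_eq_zero_iff.mp h) i (Finset.mem_univ i))
  exact_mod_cast h2

include hcop htop hs hψ hψG hdet in
/-- **Glauberman correspondence, cyclic case (values).** `ψ(c s) = ε β(c)` for a unique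
`β ∈ Irr C` and sign `ε`, and `β` is a constituent of `ψ|_C`. -/
theorem exists_beta [Fintype G] (C : Subgroup Γ)
    (hC : C = G ⊓ Subgroup.centralizer (S : Set Γ)) [Fintype C] :
    ∃ (β : Cfsg.IrrCharacter C) (ε : ℤ), (ε = 1 ∨ ε = -1) ∧
      (∀ c : C, ψ ((c : Γ) * s) = (ε : ℂ) * (β : C → ℂ) c) ∧
      Cfsg.classInner (fun c : C => ψ (c : Γ)) (β : C → ℂ) ≠ 0 := by
  classical
  have hsS : s ∈ S := hs ▸ Subgroup.mem_zpowers s
  have hcl : Cfsg.IsClassFunction Γ ψ := isClassFunction_of_isIrrCharacter hψ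
  set bt : C → ℂ := fun c : C => ψ ((c : Γ) * s) with hbt
  have hc : ∀ c : C, (c : Γ) ∈ G ⊓ Subgroup.centralizer (S : Set Γ) := fun c => by
    rw [← hC]; exact c.2
  have hbtcl : Cfsg.IsClassFunction C bt := by
    intro c u
    show ψ (((u * c * u⁻¹ : C) : Γ) * s) = ψ ((c : Γ) * s)
    have hus : (u : Γ) * s = s * (u : Γ) :=
      ((Subgroup.mem_centralizer_iff.mp (hc u).2) s hsS).symm
    have h1 : ((u * c * u⁻¹ : C) : Γ) * s = (u : Γ) * ((c : Γ) * s) * (u : Γ)⁻¹ := by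
      have h2 : s * (u : Γ)⁻¹ = (u : Γ)⁻¹ * s := by
        calc s * (u : Γ)⁻¹ = (u : Γ)⁻¹ * ((u : Γ) * s) * (u : Γ)⁻¹ := by group
          _ = (u : Γ)⁻¹ * (s * (u : Γ)) * (u : Γ)⁻¹ := by rw [hus]
          _ = (u : Γ)⁻¹ * s := by group
      push_cast
      calc (u : Γ) * (c : Γ) * (u : Γ)⁻¹ * s = (u : Γ) * (c : Γ) * ((u : Γ)⁻¹ * s) := by group
        _ = (u : Γ) * (c : Γ) * (s * (u : Γ)⁻¹) := by rw [h2]
        _ = (u : Γ) * ((c : Γ) * s) * (u : Γ)⁻¹ := by group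
    rw [h1, hcl]
  choose z hz hz0 using fun β : Cfsg.IrrCharacter C =>
    exists_int_coeff G S hcop htop hs hψ hψG hdet C hC β.2
  have hexp : bt = ∑ β : Cfsg.IrrCharacter C, (z β : ℂ) • (β : C → ℂ) := by
    conv_lhs => rw [classFunction_eq_sum bt hbtcl]
    apply Finset.sum_congr rfl
    intro β _
    rw [hz β]
  have hnorm1 : Cfsg.classInner bt bt = 1 := by
    unfold Cfsg.classInner
    rw [sum_C_norm G S hcop htop hs hψ hψG C hC]
    have hC0 : (Nat.card C : ℂ) ≠ 0 := by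
      rw [Nat.cast_ne_zero]; exact Nat.card_pos.ne'
    exact inv_mul_cancel₀ hC0
  have hsq : ∑ β : Cfsg.IrrCharacter C, z β ^ 2 = 1 := by
    have h1 : Cfsg.classInner bt bt = ∑ β : Cfsg.IrrCharacter C, ((z β : ℂ)) ^ 2 := by
      conv_lhs => rw [hexp]
      rw [classInner_sum_left]
      apply Finset.sum_congr rfl
      intro β _
      rw [classInner_smul_left, ← hexp, ← classInner_conj_symm, hz β]
      simp [sq]
    rw [hnorm1] at h1
    exact_mod_cast h1.symm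
  obtain ⟨β₀, hβ₀, hrest⟩ := exists_unique_of_sum_sq_eq_one z hsq
  refine ⟨β₀, z β₀, hβ₀, ?_, ?_⟩
  · intro c
    have := congrFun hexp c
    rw [Finset.sum_apply, Finset.sum_eq_single β₀] at this
    · exact this
    · intro β _ hβ
      rw [hrest β hβ]; simp
    · intro h; exact absurd (Finset.mem_univ _) h
  · apply hz0
    rcases hβ₀ with h | h <;> rw [h] <;> norm_num

end Values

section Injective

variable [hG : G.Normal] (hcop : (Nat.card G).Coprime (Nat.card S)) (htop : G ⊔ S = ⊤)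
  {s : Γ} (hs : Subgroup.zpowers s = S)

include hcop htop hs in
/-- **Glauberman correspondence, cyclic case (injectivity).** -/
theorem restrict_eq_of_beta_eq [Fintype G] (C : Subgroup Γ)
    (hC : C = G ⊓ Subgroup.centralizer (S : Set Γ)) [Fintype C] {ψ₁ ψ₂ : Γ → ℂ}
    (h₁ : Cfsg.IsIrrCharacter Γ ψ₁) (h₂ : Cfsg.IsIrrCharacter Γ ψ₂)
    {β : C → ℂ} (hβ : Cfsg.IsIrrCharacter C β) {ε₁ ε₂ : ℤ} (hε₁ : ε₁ = 1 ∨ ε₁ = -1)
    (hε₂ : ε₂ = 1 ∨ ε₂ = -1)
    (hv₁ : ∀ c : C, ψ₁ ((c : Γ) * s) = (ε₁ : ℂ) * β c)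
    (hv₂ : ∀ c : C, ψ₂ ((c : Γ) * s) = (ε₂ : ℂ) * β c) :
    (fun g : G => ψ₁ g) = fun g : G => ψ₂ g := by
  by_contra hne
  have h1 := sum_C_orth G S hcop htop hs C hC h₁ h₂ hne
  have h2 : ∑ c : C, ψ₁ ((c : Γ) * s) * conj (ψ₂ ((c : Γ) * s)) =
      ((ε₁ : ℂ) * (ε₂ : ℂ)) * ∑ c : C, β c * conj (β c) := by
    rw [Finset.mul_sum]
    apply Finset.sum_congr rfl
    intro c _
    rw [hv₁, hv₂, map_mul, map_intCast]
    ring
  have h3 : ∑ c : C, β c * conj (β c) = (Nat.card C : ℂ) := by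
    have := classInner_self_of_isIrrCharacter hβ
    unfold Cfsg.classInner at this
    have hC0 : (Nat.card C : ℂ) ≠ 0 := by
      rw [Nat.cast_ne_zero]; exact Nat.card_pos.ne'
    field_simp at this
    exact this
  rw [h2, h3] at h1
  have hC0 : (Nat.card C : ℂ) ≠ 0 := by
    rw [Nat.cast_ne_zero]; exact Nat.card_pos.ne'
  have hε : ((ε₁ : ℂ) * (ε₂ : ℂ)) ≠ 0 := by
    rcases hε₁ with h | h <;> rcases hε₂ with h' | h' <;> rw [h, h'] <;> norm_num
  exact (mul_ne_zero hε hC0) h1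

include htop hs in
/-- A class function of `G` fixed by the generator `s` is `Γ`-invariant. -/
theorem invariant_of_generator {χ : G → ℂ} (hcl : Cfsg.IsClassFunction G χ)
    (hinv : ∀ n : G, χ ⟨s * n * s⁻¹, hG.conj_mem (n : Γ) n.2 s⟩ = χ n) (x : Γ) (n : G) :
    χ ⟨x * n * x⁻¹, hG.conj_mem (n : Γ) n.2 x⟩ = χ n := by
  have hs1 : Cfsg.Agent.Lib.Helper75_Clifford.conjFun G hG χ s = χ := funext hinv
  have hpow : ∀ j : ℕ, Cfsg.Agent.Lib.Helper75_Clifford.conjFun G hG χ (s ^ j) = χ := by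
    intro j
    induction j with
    | zero => rw [pow_zero, Cfsg.Agent.Lib.Helper75_Clifford.conjFun_one]
    | succ j ih =>
      rw [pow_succ, ← Cfsg.Agent.Lib.Helper75_Clifford.conjFun_conjFun, ih, hs1]
  have hx : x ∈ G ⊔ S := by rw [htop]; trivial
  obtain ⟨g, hg, t, ht, rfl⟩ := Cfsg.Agent.Lib.Helper24_CoprimeAction.exists_mul_of_mem_sup S G
    (le_normalizer_of_hnorm G S (hnorm_of_normal G S)) hx
  have h1 : t ∈ Subgroup.zpowers s := by rw [hs]; exact ht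
  rw [← mem_powers_iff_mem_zpowers] at h1
  obtain ⟨j, rfl⟩ := (Submonoid.mem_powers_iff _ _).mp h1
  have h2 : Cfsg.Agent.Lib.Helper75_Clifford.conjFun G hG χ (g * s ^ j) = χ := by
    rw [← Cfsg.Agent.Lib.Helper75_Clifford.conjFun_conjFun,
      Cfsg.Agent.Lib.Helper75_Clifford.conjFun_of_mem G hG hcl ⟨g, hg⟩, hpow]
  exact congrFun h2 n

include hcop htop hs in
/-- **Glauberman correspondence, cyclic case (surjectivity).** -/
theorem exists_of_beta [Fintype G] (C : Subgroup Γ)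
    (hC : C = G ⊓ Subgroup.centralizer (S : Set Γ)) [Fintype C] (β : Cfsg.IrrCharacter C) :
    ∃ (χ : Cfsg.IrrCharacter G) (ψ : Cfsg.IrrCharacter Γ) (ε : ℤ),
      (∀ (x : Γ) (n : G), (χ : G → ℂ) ⟨x * n * x⁻¹, hG.conj_mem (n : Γ) n.2 x⟩ = (χ : G → ℂ) n) ∧
      (∀ g : G, (ψ : Γ → ℂ) g = (χ : G → ℂ) g) ∧
      (Cfsg.detOrder (ψ : Γ → ℂ)).Coprime (Nat.card S) ∧ (ε = 1 ∨ ε = -1) ∧
      ∀ c : C, (ψ : Γ → ℂ) ((c : Γ) * s) = (ε : ℂ) * (β : C → ℂ) c := by
  classical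
  have hidx := index_eq_card G S hcop htop
  have hcop' : (Nat.card G).Coprime G.index := by rw [hidx]; exact hcop
  have hsolv : Group.IsSolvable (Γ ⧸ G) := Group.isSolvable_of_comm (quotient_comm G S htop hs)
  set α : G ≃* G := MulAut.conjNormal s with hα
  have hαv : ∀ g : G, ((α g : G) : Γ) = s * g * s⁻¹ := fun g => MulAut.conjNormal_apply s g
  -- the invariant characters
  have hinvX : ∀ χ : {χ : Cfsg.IrrCharacter G // (χ : G → ℂ) ∘ α = (χ : G → ℂ)},
      ∀ (x : Γ) (n : G), (χ.1 : G → ℂ) ⟨x * n * x⁻¹, hG.conj_mem (n : Γ) n.2 x⟩ =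
        (χ.1 : G → ℂ) n := by
    intro χ
    apply invariant_of_generator G S htop hs (isClassFunction_of_isIrrCharacter χ.1.2)
    intro n
    have := congrFun χ.2 n
    rw [Function.comp_apply] at this
    rw [← this]
    congr 1
  have hext : ∀ χ : {χ : Cfsg.IrrCharacter G // (χ : G → ℂ) ∘ α = (χ : G → ℂ)},
      ∃ ψ : Γ → ℂ, Cfsg.IsIrrCharacter Γ ψ ∧ (∀ n : G, ψ n = (χ.1 : G → ℂ) n) ∧
        (Cfsg.detOrder ψ).Coprime (Nat.card S) := by
    intro χ
    obtain ⟨ψ, hψ, hres, hd⟩ := exists_canonical_extension G hsolv hcop' (χ.1 : G → ℂ) χ.1.2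
      (hinvX χ)
    refine ⟨ψ, hψ, hres, ?_⟩
    unfold Cfsg.detOrder
    exact Nat.Coprime.coprime_dvd_left (orderOf_dvd_of_pow_eq_one hd) hcop
  choose ψ hψ hres hd using hext
  have hψG : ∀ χ, Cfsg.IsIrrCharacter G (fun g : G => ψ χ g) := by
    intro χ
    have : (fun g : G => ψ χ g) = (χ.1 : G → ℂ) := funext (hres χ)
    rw [this]; exact χ.1.2
  choose Φ ε hε hv _ using fun χ =>
    exists_beta G S hcop htop hs (hψ χ) (hψG χ) (hd χ) C hC
  have hinj : Function.Injective Φ := by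
    intro χ₁ χ₂ h
    have h1 := restrict_eq_of_beta_eq G S hcop htop hs C hC (hψ χ₁) (hψ χ₂) (Φ χ₁).2 (hε χ₁)
      (hε χ₂) (hv χ₁) (by rw [h]; exact hv χ₂)
    apply Subtype.ext
    apply Subtype.ext
    funext g
    rw [← hres χ₁ g, ← hres χ₂ g]
    exact congrFun h1 g
  have hcard : Nat.card (Cfsg.IrrCharacter C) ≤
      Nat.card {χ : Cfsg.IrrCharacter G // (χ : G → ℂ) ∘ α = (χ : G → ℂ)} := by
    rw [← Cfsg.Agent.S0173.result α,
      card_fixed_classes G S (hnorm_of_normal G S) hcop hs α hαv C hC,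
      Cfsg.Agent.Lib.Helper3_CharColumn.card_irr_eq_card_conjClasses]
  obtain ⟨χ, hχ⟩ := (hinj.bijective_of_nat_card_le hcard).2 β
  refine ⟨χ.1, ⟨ψ χ, hψ χ⟩, ε χ, hinvX χ, hres χ, hd χ, hε χ, ?_⟩
  intro c
  rw [← hχ]
  exact hv χ c

end Injective

end Cfsg.Agent.Lib.Helper75_GlaubCyclic
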