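import Cfsg.Agent.Lib.Helper75_GlaubCyclic
import Cfsg.Agent.Lib.Helper75_MultArith
import Cfsg.Agent.Lib.Helper75_CommChar
import Cfsg.Agent.Lib.Helper75_ProdCoeff

/-!
# The canonical extension when all non-identity elements of `S` have the same centralizer
(helper75)

`Γ = G S`, `G ⊴ Γ`, `S = ⟨s⟩` cyclic, `(|G|, |S|) = 1`, `C = C_G(S)`.  We extend the analysis of
`Helper75_GlaubCyclic` from the generators of `S` to arbitrary elements `x ∈ S`:
* `apply_mul_pow_of_mem`: `ψ (c t^j) = ψ (c t)` for `t ∈ S`, `j` coprime to `|S|`;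
* `exists_int_coeff_pow`: `[c ↦ ψ (c s^j), β] ∈ ℤ`;
* `sum_C_norm_of_mem`: `∑_{c ∈ C} |ψ (c x)|² = |C|` when `C_G(x) = C`;
* `fpf_main`: if `C_G(x) = C` for all `1 ≠ x ∈ S` and `ψ (c s) = ε₀ β(c)` then
  `ψ (c x) = ε β(c) μ(x)` for `x ≠ 1` with `μ` linear, `μ² = 1`, and
  `ψ|_C = |S| ϑ + ε β`.
-/

set_option autoImplicit false
set_option linter.unusedSectionVars false
open scoped ComplexConjugate

namespace Cfsg.Agent.Lib.Helper75_GlaubFpf

open Cfsg.Agent.Lib.Helper3_CharBridge Cfsg.Agent.Lib.Helper3_CharOrtho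
  Cfsg.Agent.Lib.Helper3_CharComplete
  Cfsg.Agent.Lib.Helper75_CharArith Cfsg.Agent.Lib.Helper75_LinChar
  Cfsg.Agent.Lib.Helper75_CanonExt Cfsg.Agent.Lib.Helper75_CosetNorm
  Cfsg.Agent.Lib.Helper75_CosetConj Cfsg.Agent.Lib.Helper75_Cyclotomic
  Cfsg.Agent.Lib.Helper75_GlaubAux Cfsg.Agent.Lib.Helper75_GlaubCyclic
  Cfsg.Agent.Lib.Helper75_CommChar Cfsg.Agent.Lib.Helper75_ProdCoeff

universe u

variable {Γ : Type u} [Group Γ] [Finite Γ] (G S : Subgroup Γ)

section Values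

variable [hG : G.Normal] (hcop : (Nat.card G).Coprime (Nat.card S)) (htop : G ⊔ S = ⊤)
  {s : Γ} (hs : Subgroup.zpowers s = S)
  {ψ : Γ → ℂ} (hψ : Cfsg.IsIrrCharacter Γ ψ) (hψG : Cfsg.IsIrrCharacter G (fun g : G => ψ g))
  (hdet : (Cfsg.detOrder ψ).Coprime (Nat.card S))

include hcop htop hψ hψG hdet in
/-- The canonical extension has the same value at `c t^j` and `c t` for `t ∈ S` and `j` coprime to
`|S|`. -/
theorem apply_mul_pow_of_mem {c : Γ} (hc : c ∈ G ⊓ Subgroup.centralizer (S : Set Γ)) {t : Γ}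
    (ht : t ∈ S) (j : ℕ) (hj : j.Coprime (Nat.card S)) : ψ (c * t ^ j) = ψ (c * t) := by
  obtain ⟨k, hk1, hkj⟩ := Nat.chineseRemainder hcop 1 j
  have hidx := index_eq_card G S hcop htop
  have hkcop : k.Coprime (Nat.card Γ) := by
    rw [← Subgroup.card_mul_index G, hidx]
    apply Nat.Coprime.mul_right
    · rw [Nat.Coprime, hk1.gcd_eq]; simp
    · rw [Nat.Coprime, hkj.gcd_eq]; exact hj
  have hcomm : Commute c t := ((Subgroup.mem_centralizer_iff.mp hc.2) t ht).symm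
  have h1 := canonical_powMap G (by rw [hidx]; exact hcop) hψ hψG (by rw [hidx]; exact hdet)
    k hkcop hk1 (c * t)
  rw [hcomm.mul_pow, pow_eq_self_of_modEq (pow_card_of_mem G hc.1) hk1,
    pow_eq_of_modEq (pow_card_of_mem S ht) hkj] at h1
  exact h1

include hcop htop hs hψ hψG hdet in
/-- Integrality of the coefficients of `c ↦ ψ(c s^j₀)`. -/
theorem exists_int_coeff_pow (C : Subgroup Γ)
    (hC : C = G ⊓ Subgroup.centralizer (S : Set Γ)) [Fintype C] {β : C → ℂ}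
    (hβ : Cfsg.IsIrrCharacter C β) (j₀ : ℕ) :
    ∃ z : ℤ, Cfsg.classInner (fun c : C => ψ ((c : Γ) * s ^ j₀)) β = z := by
  classical
  have hsS : s ∈ S := hs ▸ Subgroup.mem_zpowers s
  obtain ⟨ι, hι, a, μ, hμ, hdec⟩ := exists_decomp G S hs hψ C hC hβ
  have hn : 0 < Nat.card S := Nat.card_pos
  have hω : IsPrimitiveRoot (Complex.exp (2 * Real.pi * Complex.I / (Nat.card S : ℂ)))
      (Nat.card S) := Complex.isPrimitiveRoot_exp _ hn.ne'
  set ω := Complex.exp (2 * Real.pi * Complex.I / (Nat.card S : ℂ)) with hωdef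
  have ht : ∀ i : ι, ∃ t : ℕ, ω ^ t = μ i := fun i => by
    have : NeZero (Nat.card S) := ⟨hn.ne'⟩
    obtain ⟨t, -, ht⟩ := hω.eq_pow_of_pow_eq_one (hμ i)
    exact ⟨t, ht⟩
  choose t ht using ht
  set P : Polynomial ℤ := ∑ i, Polynomial.C (a i : ℤ) * Polynomial.X ^ (t i * j₀) with hP
  have hPeval : ∀ j : ℕ, Polynomial.aeval (ω ^ j) P = ∑ i, (a i : ℂ) * μ i ^ (j₀ * j) := by
    intro j
    rw [hP, map_sum]
    apply Finset.sum_congr rfl
    intro i _
    rw [map_mul, Polynomial.aeval_C, map_pow, Polynomial.aeval_X, ← ht i, ← pow_mul, ← pow_mul]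
    have : j * (t i * j₀) = t i * (j₀ * j) := by ring
    rw [this]
    simp
  have hc : ∀ c : C, (c : Γ) ∈ G ⊓ Subgroup.centralizer (S : Set Γ) := fun c => by
    rw [← hC]; exact c.2
  have hall : ∀ j : ℕ, j.Coprime (Nat.card S) → Polynomial.aeval (ω ^ j) P =
      Cfsg.classInner (fun c : C => ψ ((c : Γ) * s ^ j₀)) β := by
    intro j hj
    rw [hPeval, ← hdec (j₀ * j)]
    congr 1
    funext c
    rw [pow_mul]
    exact apply_mul_pow_of_mem G S hcop htop hψ hψG hdet (hc c) (S.pow_mem hsS j₀) j hj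
  exact exists_int_of_forall_coprime hn hω P _ hall

include hcop htop hψ hψG in
/-- `∑_{c ∈ C} |ψ(c x)|² = |C|` for `x ∈ S` with `C_G(x) = C`. -/
theorem sum_C_norm_of_mem [Fintype G] (C : Subgroup Γ) [Fintype C] {s : Γ}
    (hs : Subgroup.zpowers s = S) {x : Γ} (hx : x ∈ S)
    (hfpf : G ⊓ Subgroup.centralizer ({x} : Set Γ) = C) :
    ∑ c : C, ψ ((c : Γ) * x) * conj (ψ ((c : Γ) * x)) = (Nat.card C : ℂ) := by
  have := Fintype.ofFinite Γ
  have h1 := sum_coset_norm G (quotient_comm G S htop hs) hψ hψG x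
  have hcl : Cfsg.IsClassFunction Γ ψ := isClassFunction_of_isIrrCharacter hψ
  have hTS : Subgroup.zpowers x ≤ S := Subgroup.zpowers_le.mpr hx
  have hnormT : ∀ t ∈ Subgroup.zpowers x, ∀ g ∈ G, t * g * t⁻¹ ∈ G :=
    fun t _ g hg => hG.conj_mem g hg t
  have hcopT : (Nat.card G).Coprime (Nat.card (Subgroup.zpowers x)) :=
    Nat.Coprime.coprime_dvd_right (Subgroup.card_dvd_of_le hTS) hcop
  have hC' : C = G ⊓ Subgroup.centralizer ((Subgroup.zpowers x : Subgroup Γ) : Set Γ) := by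
    rw [← hfpf]
    congr 1
    ext y
    constructor
    · intro hy
      apply mem_centralizer_of_commute (Subgroup.zpowers x) rfl
      exact (Subgroup.mem_centralizer_iff.mp hy x (Set.mem_singleton x)).symm
    · intro hy
      rw [Subgroup.mem_centralizer_iff]
      intro z hz
      rw [Set.mem_singleton_iff] at hz
      rw [hz]
      exact Subgroup.mem_centralizer_iff.mp hy x (Subgroup.mem_zpowers x)
  have h2 := sum_coset_eq G (Subgroup.zpowers x) hnormT hcopT rfl C hC'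
    (fun y => ψ y * conj (ψ y)) (fun k _ y => by simp only [hcl y k])
  rw [h1] at h2
  have hG0 : (Nat.card G : ℂ) ≠ 0 := by
    rw [Nat.cast_ne_zero]; exact Nat.card_pos.ne'
  apply mul_left_cancel₀ hG0
  rw [← h2, mul_comm]

include hcop htop hs hψ hψG hdet in
/-- **The fixed-point-free case.**  If all non-identity elements of the cyclic group `S` have the
same centralizer `C` in `G`, then the canonical extension satisfies `ψ (c x) = ε β(c) μ(x)` for
`x ≠ 1`, and `ψ|_C = |S| ϑ + ε β`. -/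
theorem fpf_main [Fintype G] (C : Subgroup Γ)
    (hC : C = G ⊓ Subgroup.centralizer (S : Set Γ)) [Fintype C] [Fintype S]
    (hfpf : ∀ x ∈ S, x ≠ 1 → G ⊓ Subgroup.centralizer ({x} : Set Γ) = C)
    (β : Cfsg.IrrCharacter C) (ε₀ : ℤ) (hε₀ : ε₀ = 1 ∨ ε₀ = -1)
    (hβ : ∀ c : C, ψ ((c : Γ) * s) = (ε₀ : ℂ) * (β : C → ℂ) c) (hs1 : s ≠ 1) :
    ∃ (ε : ℤ) (μ : Cfsg.IrrCharacter S) (a : Cfsg.IrrCharacter C → ℕ), (ε = 1 ∨ ε = -1) ∧
      (∀ x : S, (μ : S → ℂ) x * (μ : S → ℂ) x = 1) ∧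
      (∀ c : C, ∀ x : S, x ≠ 1 →
        ψ ((c : Γ) * (x : Γ)) = (ε : ℂ) * (β : C → ℂ) c * (μ : S → ℂ) x) ∧
      (∀ c : C, ψ (c : Γ) = (Nat.card S : ℂ) *
        (∑ β' : Cfsg.IrrCharacter C, (a β' : ℂ) * (β' : C → ℂ) c) + (ε : ℂ) * (β : C → ℂ) c) := by
  classical
  have hsS : s ∈ S := hs ▸ Subgroup.mem_zpowers s
  have hcl : Cfsg.IsClassFunction Γ ψ := isClassFunction_of_isIrrCharacter hψ
  have hCS : ∀ c ∈ C, ∀ x ∈ S, c * x = x * c := by
    intro c hcC x hx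
    have : c ∈ G ⊓ Subgroup.centralizer (S : Set Γ) := by rw [← hC]; exact hcC
    exact ((Subgroup.mem_centralizer_iff.mp this.2) x hx).symm
  have hScomm : ∀ a b : S, a * b = b * a := by
    intro a b
    obtain ⟨i, hi⟩ := Subgroup.mem_zpowers_iff.mp (hs ▸ a.2 : (a : Γ) ∈ Subgroup.zpowers s)
    obtain ⟨j, hj⟩ := Subgroup.mem_zpowers_iff.mp (hs ▸ b.2 : (b : Γ) ∈ Subgroup.zpowers s)
    apply Subtype.ext
    push_cast
    rw [← hi, ← hj, ← zpow_add, ← zpow_add, add_comm]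
  have hC0 : (Nat.card C : ℂ) ≠ 0 := by
    rw [Nat.cast_ne_zero]; exact Nat.card_pos.ne'
  -- the coefficient characters
  set Ψ : Cfsg.IrrCharacter C → S → ℂ := fun β' x =>
    Cfsg.classInner (fun c : C => ψ ((c : Γ) * (x : Γ))) (β' : C → ℂ) with hΨ
  have hΨchar : ∀ β' : Cfsg.IrrCharacter C, Cfsg.IsCharacter S (Ψ β') := fun β' =>
    isCharacter_coeff C S hCS hScomm (isCharacter_of_isIrrCharacter hψ)
      (isCharacter_of_isIrrCharacter β'.2)
  have hfcl : ∀ x : S, Cfsg.IsClassFunction C (fun c : C => ψ ((c : Γ) * (x : Γ))) := by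
    intro x c u
    show ψ (((u * c * u⁻¹ : C) : Γ) * (x : Γ)) = ψ ((c : Γ) * (x : Γ))
    have hux : (u : Γ) * (x : Γ) = (x : Γ) * (u : Γ) := hCS u u.2 x x.2
    have h1 : ((u * c * u⁻¹ : C) : Γ) * (x : Γ) = (u : Γ) * ((c : Γ) * (x : Γ)) * (u : Γ)⁻¹ := by
      have h2 : (x : Γ) * (u : Γ)⁻¹ = (u : Γ)⁻¹ * (x : Γ) := by
        calc (x : Γ) * (u : Γ)⁻¹ = (u : Γ)⁻¹ * ((u : Γ) * (x : Γ)) * (u : Γ)⁻¹ := by group
          _ = (u : Γ)⁻¹ * ((x : Γ) * (u : Γ)) * (u : Γ)⁻¹ := by rw [hux]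
          _ = (u : Γ)⁻¹ * (x : Γ) := by group
      push_cast
      calc (u : Γ) * (c : Γ) * (u : Γ)⁻¹ * (x : Γ)
          = (u : Γ) * (c : Γ) * ((u : Γ)⁻¹ * (x : Γ)) := by group
        _ = (u : Γ) * (c : Γ) * ((x : Γ) * (u : Γ)⁻¹) := by rw [h2]
        _ = (u : Γ) * ((c : Γ) * (x : Γ)) * (u : Γ)⁻¹ := by group
    rw [h1, hcl]
  have hexp : ∀ (x : S) (c : C), ψ ((c : Γ) * (x : Γ)) =
      ∑ β' : Cfsg.IrrCharacter C, Ψ β' x * (β' : C → ℂ) c := by
    intro x c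
    have := congrFun (classFunction_eq_sum _ (hfcl x)) c
    rw [Finset.sum_apply] at this
    simpa using this
  -- integrality
  have hpow : ∀ x : S, ∃ j : ℕ, (x : Γ) = s ^ j := by
    intro x
    have hx : (x : Γ) ∈ Subgroup.zpowers s := hs ▸ x.2
    obtain ⟨j, hj⟩ : (x : Γ) ∈ Submonoid.powers s := mem_powers_iff_mem_zpowers.mpr hx
    exact ⟨j, hj.symm⟩
  have hint : ∀ (β' : Cfsg.IrrCharacter C) (x : S), ∃ z : ℤ, Ψ β' x = z := by
    intro β' x
    obtain ⟨j, hj⟩ := hpow x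
    obtain ⟨z, hz⟩ := exists_int_coeff_pow G S hcop htop hs hψ hψG hdet C hC β'.2 j
    refine ⟨z, ?_⟩
    show Cfsg.classInner (fun c : C => ψ ((c : Γ) * (x : Γ))) _ = z
    rw [hj]; exact hz
  choose z hz using hint
  -- norms
  have hsq : ∀ x : S, x ≠ 1 → ∑ β' : Cfsg.IrrCharacter C, z β' x ^ 2 = 1 := by
    intro x hx
    have hx' : (x : Γ) ≠ 1 := fun h => hx (Subtype.ext h)
    have hnorm1 : Cfsg.classInner (fun c : C => ψ ((c : Γ) * (x : Γ)))
        (fun c : C => ψ ((c : Γ) * (x : Γ))) = 1 := by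
      unfold Cfsg.classInner
      rw [sum_C_norm_of_mem G S hcop htop hψ hψG C hs x.2 (hfpf x x.2 hx')]
      exact inv_mul_cancel₀ hC0
    have h1 := classInner_self_eq_sum (hfcl x)
    rw [hnorm1] at h1
    have h2 : (1 : ℂ) = ((∑ β' : Cfsg.IrrCharacter C, z β' x ^ 2 : ℤ) : ℂ) := by
      rw [h1]
      push_cast
      apply Finset.sum_congr rfl
      intro β' _
      have : Cfsg.classInner (fun c : C => ψ ((c : Γ) * (x : Γ))) (β' : C → ℂ) = z β' x :=
        hz β' x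
      rw [this, map_intCast]
      ring
    exact_mod_cast h2.symm
  have hz1 : ∀ (β' : Cfsg.IrrCharacter C) (x : S), x ≠ 1 →
      z β' x = 0 ∨ z β' x = 1 ∨ z β' x = -1 := by
    intro β' x hx
    obtain ⟨i, hi, hrest⟩ := exists_unique_of_sum_sq_eq_one (fun β' => z β' x) (hsq x hx)
    by_cases h : β' = i
    · rw [h]; exact Or.inr hi
    · exact Or.inl (hrest β' h)
  -- the value at the generator
  have hzβs : z β ⟨s, hsS⟩ = ε₀ := by
    have h1 : Ψ β ⟨s, hsS⟩ = ε₀ := by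
      show Cfsg.classInner (fun c : C => ψ ((c : Γ) * s)) (β : C → ℂ) = ε₀
      have : (fun c : C => ψ ((c : Γ) * s)) = (ε₀ : ℂ) • (β : C → ℂ) := by
        funext c; rw [hβ c]; rfl
      rw [this, classInner_smul_left, classInner_self_of_isIrrCharacter β.2, mul_one]
    have := (hz β ⟨s, hsS⟩).symm.trans h1
    exact_mod_cast this
  have hs1' : (⟨s, hsS⟩ : S) ≠ 1 := fun h => hs1 (congrArg Subtype.val h)
  have hε₀0 : z β ⟨s, hsS⟩ ≠ 0 := by
    rw [hzβs]; rcases hε₀ with h | h <;> rw [h] <;> norm_num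
  obtain ⟨ε, a₀, μ, hε, hdeg, hval⟩ := char_structure hScomm (hΨchar β) (z β)
    (fun x _ => hz β x) (hz1 β) hs1' hε₀0
  have hε0 : (ε : ℂ) ≠ 0 := by
    rcases hε with h | h <;> rw [h] <;> norm_num
  have hεε : (ε : ℂ) * (ε : ℂ) = 1 := by
    rcases hε with h | h <;> rw [h] <;> norm_num
  have hμlin : IsLin S (μ : S → ℂ) := isLin_of_comm hScomm μ.2
  -- `z β x ≠ 0` for `x ≠ 1`
  have hzβ : ∀ x : S, x ≠ 1 → z β x ≠ 0 := by
    intro x hx h0
    have h1 := hval x hx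
    rw [hz β x, h0] at h1
    have : (ε : ℂ) * (μ : S → ℂ) x ≠ 0 := mul_ne_zero hε0 (hμlin.ne_zero x)
    apply this
    rw [← h1]; simp
  have hzother : ∀ β' : Cfsg.IrrCharacter C, β' ≠ β → ∀ x : S, x ≠ 1 → Ψ β' x = 0 := by
    intro β' hβ' x hx
    obtain ⟨i, hi, hrest⟩ := exists_unique_of_sum_sq_eq_one (fun β' => z β' x) (hsq x hx)
    have hiβ : β = i := by
      by_contra h
      exact hzβ x hx (hrest β h)
    rw [hz β' x, hrest β' (hiβ ▸ hβ')]
    simp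
  -- the degrees
  have hdegs : ∀ β' : Cfsg.IrrCharacter C, ∃ a' : ℕ,
      Ψ β' 1 = (Nat.card S : ℂ) * a' + if β' = β then (ε : ℂ) else 0 := by
    intro β'
    by_cases h : β' = β
    · rw [if_pos h, h]
      exact ⟨a₀, hdeg⟩
    · rw [if_neg h]
      obtain ⟨a', ha'⟩ := char_vanish (hΨchar β') (hzother β' h)
      exact ⟨a', by rw [ha', add_zero]⟩
  choose a ha using hdegs
  refine ⟨ε, μ, a, hε, ?_, ?_, ?_⟩
  · intro x
    by_cases hx : x = 1
    · rw [hx, hμlin.2, mul_one]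
    · have h1 := hval x hx
      rw [hz β x] at h1
      have h2 : ((z β x : ℤ) : ℂ) * (z β x : ℂ) = 1 := by
        rcases hz1 β x hx with h | h | h
        · exact absurd h (hzβ x hx)
        · rw [h]; norm_num
        · rw [h]; norm_num
      rw [h1] at h2
      calc (μ : S → ℂ) x * (μ : S → ℂ) x
          = ((ε : ℂ) * (ε : ℂ)) * ((μ : S → ℂ) x * (μ : S → ℂ) x) := by rw [hεε, one_mul]
        _ = (ε : ℂ) * (μ : S → ℂ) x * ((ε : ℂ) * (μ : S → ℂ) x) := by ring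
        _ = 1 := h2
  · intro c x hx
    rw [hexp x c, Finset.sum_eq_single β]
    · rw [hval x hx]; ring
    · intro β' _ hβ'
      rw [hzother β' hβ' x hx, zero_mul]
    · intro h; exact absurd (Finset.mem_univ _) h
  · intro c
    have h1 := hexp 1 c
    rw [Subgroup.coe_one, mul_one] at h1
    rw [h1, Finset.mul_sum]
    have : ∀ β' : Cfsg.IrrCharacter C, Ψ β' 1 * (β' : C → ℂ) c =
        (Nat.card S : ℂ) * ((a β' : ℂ) * (β' : C → ℂ) c) +
          if β' = β then (ε : ℂ) * (β : C → ℂ) c else 0 := by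
      intro β'
      rw [ha β']
      split_ifs with h
      · rw [h]; ring
      · ring
    rw [Finset.sum_congr rfl (fun β' _ => this β'), Finset.sum_add_distrib,
      Finset.sum_ite_eq' Finset.univ β, if_pos (Finset.mem_univ _)]

end Values

end Cfsg.Agent.Lib.Helper75_GlaubFpf
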