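import Mathlib
import Cfsg.Prelude.Def_Characters
import Cfsg.Agent.Lib.Helper75_GlaubCount
import Cfsg.Agent.Lib.Helper75_Clifford
import Cfsg.Agent.Lib.Helper75_CharArith
import Cfsg.Agent.Lib.Helper75_CanonExt
import Cfsg.Agent.Lib.Helper74_PQuot
import Cfsg.Agent.Lib.Helper3_CharComplete
import Cfsg.Agent.S4447

/-!
# The Glauberman correspondence and "lying over" (helper75)

For a `p`-group `P` acting coprimely on `G ⊵ N` (everything inside an ambient finite group), with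
`D = C_G(P)`, `E = C_N(P)`: if `χ ↔ β` and `ϑ ↔ η` under the `p`-group correspondence (hypothesis
`PCorr Γ`, i.e. the statement of S4444), then `χ` lies over `ϑ` iff `β` lies over `η`
(Isaacs 13.29 for `p`-groups).  From this we get, by the bottom-up induction of
`Helper75_GlaubCount`, that for a solvable group `S` acting coprimely on `G`, every `S`-invariant
irreducible character of an `S`-invariant normal subgroup `N` lies under an `S`-invariant
irreducible character of `G` (Isaacs 13.31).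
-/

set_option autoImplicit false

namespace Cfsg.Agent.Lib.Helper75_GlaubOver

open Cfsg Cfsg.Agent.Lib Cfsg.Agent.Lib.Helper75_GlaubCount
open scoped ComplexConjugate

variable {Γ : Type*} [Group Γ]

/-- Restriction in stages: `[χ_N, θ] = ∑_ψ [χ_M, ψ] [ψ_N, θ]`. -/
theorem classInner_res_res (G M N : Subgroup Γ) [Fintype M] [Fintype N] (hNM : N ≤ M)
    (hMG : M ≤ G) {χ : G → ℂ} (hχ : IsCharacter G χ) (θ : IrrCharacter N) :
    ∃ a b : IrrCharacter M → ℕ,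
      (∀ ψ : IrrCharacter M, classInner (fun m : M => χ ⟨m, hMG m.2⟩) (ψ : M → ℂ) = a ψ) ∧
      (∀ ψ : IrrCharacter M, classInner (fun n : N => (ψ : M → ℂ) ⟨n, hNM n.2⟩) (θ : N → ℂ) = b ψ) ∧
      classInner (fun n : N => χ ⟨n, hMG (hNM n.2)⟩) (θ : N → ℂ) =
        ((∑ ψ : IrrCharacter M, a ψ * b ψ : ℕ) : ℂ) := by
  classical
  have hA : IsCharacter M (fun m : M => χ ⟨m, hMG m.2⟩) :=
    Helper75_CharArith.isCharacter_comp (Subgroup.inclusion hMG) hχ
  obtain ⟨a, ha, hAsum⟩ := Helper75_CharArith.exists_multiplicities hA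
  have hb : ∀ ψ : IrrCharacter M, ∃ n : ℕ,
      classInner (fun n : N => (ψ : M → ℂ) ⟨n, hNM n.2⟩) (θ : N → ℂ) = n := fun ψ =>
    Helper75_CharArith.classInner_isCharacter_nat
      (Helper75_CharArith.isCharacter_comp (Subgroup.inclusion hNM)
        (Helper3_CharBridge.isCharacter_of_isIrrCharacter ψ.2))
      (Helper3_CharBridge.isCharacter_of_isIrrCharacter θ.2)
  choose b hb using hb
  refine ⟨a, b, ha, hb, ?_⟩
  have hres : (fun n : N => χ ⟨n, hMG (hNM n.2)⟩) =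
      ∑ ψ : IrrCharacter M, (a ψ : ℂ) • (fun n : N => (ψ : M → ℂ) ⟨n, hNM n.2⟩) := by
    funext n
    have := congrFun hAsum ⟨n, hNM n.2⟩
    simp only [Finset.sum_apply, Pi.smul_apply] at this ⊢
    exact this
  rw [hres, Helper3_CharOrtho.classInner_sum_left]
  push_cast
  apply Finset.sum_congr rfl
  intro ψ _
  rw [Helper3_CharOrtho.classInner_smul_left, hb ψ]


/-- **Clifford**: the multiplicity of a constituent of `χ_N` divides `χ(1)`. -/
theorem mult_dvd_degree {G : Type*} [Group G] [Fintype G] (N : Subgroup G) [hN : N.Normal]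
    [Fintype N] {χ : G → ℂ} (hχ : IsIrrCharacter G χ) {θ : N → ℂ} (hθ : IsIrrCharacter N θ)
    (e a b : ℕ) (he : classInner (Helper75_Clifford.res N χ) θ = e) (he0 : e ≠ 0)
    (ha : χ 1 = a) (hb : θ 1 = b) : e ∣ a := by
  classical
  have h1 : classInner (Helper75_Clifford.res N χ) θ ≠ 0 := by
    rw [he]; exact_mod_cast he0
  have hcl := Helper75_Clifford.clifford N hN hχ hθ h1
  set A : Set (N → ℂ) := {ψ : N → ℂ | ∃ g : G, ψ = Helper75_Clifford.conjFun N hN θ g} with hA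
  have hAfin : A.Finite := by
    refine Set.Finite.subset (Set.finite_range (Subtype.val : IrrCharacter N → (N → ℂ))) ?_
    rintro ψ ⟨g, rfl⟩
    exact ⟨⟨_, Helper75_Clifford.isIrrCharacter_conjFun N hN hθ g⟩, rfl⟩
  have h2 := congrFun hcl 1
  rw [he, finsum_mem_eq_finite_toFinset_sum _ hAfin] at h2
  simp only [Pi.smul_apply, Finset.sum_apply, smul_eq_mul] at h2
  have h3 : ∀ ψ ∈ hAfin.toFinset, ψ 1 = (b : ℂ) := by
    intro ψ hψ
    obtain ⟨g, rfl⟩ := (Set.Finite.mem_toFinset hAfin).1 hψ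
    rw [Helper75_Clifford.conjFun_apply, ← hb]
    congr 1
    apply Subtype.ext
    simp
  rw [Finset.sum_congr rfl h3, Finset.sum_const, nsmul_eq_mul] at h2
  have h4 : (a : ℂ) = ((e * (hAfin.toFinset.card * b) : ℕ) : ℂ) := by
    push_cast
    rw [← ha, ← h2]
    rfl
  have h5 : a = e * (hAfin.toFinset.card * b) := by exact_mod_cast h4
  exact ⟨_, h5⟩

/-- Ambient form of `mult_dvd_degree`. -/
theorem mult_dvd_degree_amb (G N : Subgroup Γ) [Fintype G] [Fintype N] (hNG : N ≤ G)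
    (hGN : ∀ g ∈ G, ∀ n ∈ N, g * n * g⁻¹ ∈ N) (χ : IrrCharacter G) (θ : IrrCharacter N)
    (e a : ℕ) (he : classInner (fun n : N => (χ : G → ℂ) ⟨n, hNG n.2⟩) (θ : N → ℂ) = e)
    (he0 : e ≠ 0) (ha : (χ : G → ℂ) 1 = a) : e ∣ a := by
  classical
  have hKn : (N.subgroupOf G).Normal := by
    refine ⟨fun k hk g => ?_⟩
    rw [Subgroup.mem_subgroupOf] at hk ⊢
    exact hGN g g.2 k hk
  have := Fintype.ofFinite (N.subgroupOf G)
  let ε : N.subgroupOf G ≃* N := Subgroup.subgroupOfEquivOfLe hNG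
  obtain ⟨b, -, hb⟩ := Helper3_CharColumn.irr_one_eq_natCast θ.2
  have hθ' : IsIrrCharacter (N.subgroupOf G) (fun k => (θ : N → ℂ) (ε k)) :=
    Helper74_GoingUp.isIrr_comp_equiv ε θ.2
  have h3 := Helper74_GoingUp.classInner_comp_equiv ε
    (fun n : N => (χ : G → ℂ) ⟨n, hNG n.2⟩) (θ : N → ℂ)
  refine mult_dvd_degree (N.subgroupOf G) χ.2 hθ' e a b ?_ he0 ha ?_
  · rw [← he, ← h3]
    rfl
  · show (θ : N → ℂ) (ε 1) = b
    rw [map_one, hb]


section Action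

variable [Fintype Γ]

/-- The left action of `P ≤ N_Γ(N)` on the irreducible characters of `N`:
`(x • ϑ)(n) = ϑ(x⁻¹ n x)`. -/
@[reducible] noncomputable def irrAction (N P : Subgroup Γ)
    (hPN : P ≤ Subgroup.normalizer (N : Set Γ)) : MulAction P (IrrCharacter N) where
  smul x ϑ := conjIrr N ((x : Γ)⁻¹) (hPN (P.inv_mem x.2)) ϑ
  one_smul ϑ := by
    apply Subtype.ext
    funext n
    show (conjIrr N (((1 : P) : Γ)⁻¹) _ ϑ : N → ℂ) n = (ϑ : N → ℂ) n
    rw [conjIrr_apply]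
    refine congrArg _ (Subtype.ext ?_)
    simp
  mul_smul x y ϑ := by
    apply Subtype.ext
    funext n
    show (conjIrr N (((x * y : P) : Γ)⁻¹) _ ϑ : N → ℂ) n =
      (conjIrr N ((x : Γ)⁻¹) _ (conjIrr N ((y : Γ)⁻¹) _ ϑ) : N → ℂ) n
    rw [conjIrr_apply, conjIrr_apply, conjIrr_apply]
    refine congrArg _ (Subtype.ext ?_)
    simp [mul_assoc]

theorem irrAction_apply (N P : Subgroup Γ) (hPN : P ≤ Subgroup.normalizer (N : Set Γ))
    (x : P) (ϑ : IrrCharacter N) (n : N) :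
    ((irrAction N P hPN).smul x ϑ : N → ℂ) n =
      (ϑ : N → ℂ) ⟨(x : Γ)⁻¹ * n * (x : Γ), by
        have := (Subgroup.mem_normalizer_iff.mp (hPN (P.inv_mem x.2)) n).mp n.2
        rwa [inv_inv] at this⟩ := by
  show (conjIrr N ((x : Γ)⁻¹) _ ϑ : N → ℂ) n = _
  rw [conjIrr_apply]
  refine congrArg _ (Subtype.ext ?_)
  simp

end Action


section Over

variable [Fintype Γ]

/-- **Isaacs 13.29 (⇒) for `p`-groups.** If `χ ↔ β` and `ϑ ↔ η` under the `p`-group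
correspondence and `χ` lies over `ϑ`, then `β` lies over `η`. -/
theorem over_fwd (H : PCorr Γ) (G N P : Subgroup Γ) (p : ℕ) (hp : p.Prime) (hPp : IsPGroup p P)
    (hNG : N ≤ G) (hGN : ∀ g ∈ G, ∀ n ∈ N, g * n * g⁻¹ ∈ N)
    (hPG : ∀ x ∈ P, ∀ g ∈ G, x * g * x⁻¹ ∈ G) (hPN : ∀ x ∈ P, ∀ n ∈ N, x * n * x⁻¹ ∈ N)
    (hpG : ¬ p ∣ Nat.card G)
    (D E : Subgroup Γ) (hD : D = G ⊓ Subgroup.centralizer (P : Set Γ))
    (hE : E = N ⊓ Subgroup.centralizer (P : Set Γ))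
    [Fintype G] [Fintype N] [Fintype D] [Fintype E]
    (hDG : D ≤ G) (hEN : E ≤ N) (hED : E ≤ D)
    (χ : IrrCharacter G) (hχ : SInv G P (χ : G → ℂ)) (ϑ : IrrCharacter N)
    (hϑ : SInv N P (ϑ : N → ℂ)) (β : IrrCharacter D) (η : IrrCharacter E)
    (hχβ : Rel p G D hDG (χ : G → ℂ) (β : D → ℂ)) (hϑη : Rel p N E hEN (ϑ : N → ℂ) (η : E → ℂ))
    (hover : classInner (fun n : N => (χ : G → ℂ) ⟨n, hNG n.2⟩) (ϑ : N → ℂ) ≠ 0) :
    classInner (fun e : E => (β : D → ℂ) ⟨e, hED e.2⟩) (η : E → ℂ) ≠ 0 := by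
  classical
  have hpF : Fact p.Prime := ⟨hp⟩
  have hχc : IsCharacter G (χ : G → ℂ) := Helper3_CharBridge.isCharacter_of_isIrrCharacter χ.2
  obtain ⟨m, r, hm, hr, hsum1⟩ := classInner_res_res G N E hEN hNG hχc η
  obtain ⟨a, b, ha, hb, hsum2⟩ := classInner_res_res G D E hED hDG hχc η
  have heq : ∑ ψ : IrrCharacter N, m ψ * r ψ = ∑ ψ : IrrCharacter D, a ψ * b ψ := by
    have h1 : ((∑ ψ : IrrCharacter N, m ψ * r ψ : ℕ) : ℂ) =
        ((∑ ψ : IrrCharacter D, a ψ * b ψ : ℕ) : ℂ) := hsum1.symm.trans hsum2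
    exact_mod_cast h1
  -- coprimality
  have hcopG : (Nat.card G).Coprime (Nat.card P) := by
    obtain ⟨j, hj⟩ := IsPGroup.iff_card.mp hPp
    rw [hj]
    exact Nat.Coprime.pow_right j ((Nat.Prime.coprime_iff_not_dvd hp).mpr hpG).symm
  have hpN : ¬ p ∣ Nat.card N := fun h => hpG (h.trans (Subgroup.card_dvd_of_le hNG))
  have hcopN : (Nat.card N).Coprime (Nat.card P) := by
    obtain ⟨j, hj⟩ := IsPGroup.iff_card.mp hPp
    rw [hj]
    exact Nat.Coprime.pow_right j ((Nat.Prime.coprime_iff_not_dvd hp).mpr hpN).symm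
  obtain ⟨h1G, -, -, -⟩ := H G P hPG hcopG p hp hPp D hD hDG
  obtain ⟨-, -, h3N, -⟩ := H N P hPN hcopN p hp hPp E hE hEN
  -- the right hand side modulo `p`
  have hRHS : ∑ ψ : IrrCharacter D, a ψ * b ψ ≡ a β * b β [MOD p] := by
    rw [← Finset.add_sum_erase Finset.univ _ (Finset.mem_univ β)]
    have hdvd : p ∣ ∑ ψ ∈ Finset.univ.erase β, a ψ * b ψ := by
      apply Finset.dvd_sum
      intro ψ hψ
      have hne : ψ ≠ β := (Finset.mem_erase.mp hψ).1
      apply dvd_mul_of_dvd_left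
      by_contra hnd
      apply hne
      obtain ⟨β₀, -, huniq⟩ := h1G χ hχ
      rw [huniq ψ ⟨a ψ, ha ψ, hnd⟩, huniq β hχβ]
    have : (∑ ψ ∈ Finset.univ.erase β, a ψ * b ψ) ≡ 0 [MOD p] :=
      (Nat.modEq_zero_iff_dvd).mpr hdvd
    calc a β * b β + ∑ ψ ∈ Finset.univ.erase β, a ψ * b ψ ≡ a β * b β + 0 [MOD p] :=
          Nat.ModEq.add_left _ this
      _ = a β * b β := by rw [add_zero]
  -- the left hand side modulo `p`
  have hPnN : P ≤ Subgroup.normalizer (N : Set Γ) :=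
    Helper75_CosetConj.le_normalizer_of_hnorm N P hPN
  let act : MulAction P (IrrCharacter N) := irrAction N P hPnN
  have hsmul : ∀ (x : P) (ψ : IrrCharacter N) (n : N), ((x • ψ : IrrCharacter N) : N → ℂ) n =
      (ψ : N → ℂ) ⟨(x : Γ)⁻¹ * n * (x : Γ), by
        have := (Subgroup.mem_normalizer_iff.mp (hPnN (P.inv_mem x.2)) n).mp n.2
        rwa [inv_inv] at this⟩ := fun x ψ n => irrAction_apply N P hPnN x ψ n
  have hEc : ∀ e : E, ∀ x ∈ P, x * (e : Γ) = (e : Γ) * x := by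
    intro e x hx
    have he : (e : Γ) ∈ N ⊓ Subgroup.centralizer (P : Set Γ) := hE ▸ e.2
    exact Subgroup.mem_centralizer_iff.mp he.2 x hx
  have hf : ∀ (x : P) (ψ : IrrCharacter N), m (x • ψ) * r (x • ψ) = m ψ * r ψ := by
    intro x ψ
    have hm' : m (x • ψ) = m ψ := by
      have h2 : ((m (x • ψ) : ℕ) : ℂ) = (m ψ : ℂ) := by
        rw [← hm, ← hm]
        let c := Helper24_CoprimeAction.conjAut N ((x : Γ)⁻¹) (hPnN (P.inv_mem x.2))
        have h3 := Helper74_GoingUp.classInner_comp_equiv c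
          (fun n : N => (χ : G → ℂ) ⟨n, hNG n.2⟩) (ψ : N → ℂ)
        rw [← h3]
        congr 1
        funext n
        have := hχ ((x : Γ)⁻¹) (P.inv_mem x.2) ⟨n, hNG n.2⟩ ⟨(c n : N), hNG (c n).2⟩ rfl
        exact this.symm
      exact_mod_cast h2
    have hr' : r (x • ψ) = r ψ := by
      have h2 : ((r (x • ψ) : ℕ) : ℂ) = (r ψ : ℂ) := by
        rw [← hr, ← hr]
        congr 1
        funext e
        rw [hsmul]
        refine congrArg _ (Subtype.ext ?_)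
        show (x : Γ)⁻¹ * (e : Γ) * (x : Γ) = (e : Γ)
        rw [mul_assoc, ← hEc e x x.2, ← mul_assoc, inv_mul_cancel, one_mul]
      exact_mod_cast h2
    rw [hm', hr']
  have hLHS1 := Helper74_PQuot.sum_stable_modEq (A := P) (X := IrrCharacter N) hPp Finset.univ
    (fun _ _ _ => Finset.mem_univ _) (fun ψ => m ψ * r ψ) hf
  -- fixed points are the `P`-invariant characters
  have hfixinv : ∀ ψ : IrrCharacter N, (∀ x : P, x • ψ = ψ) → SInv N P (ψ : N → ℂ) := by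
    intro ψ hfix s hs n n' hn'
    have h2 := congrArg (fun φ : IrrCharacter N => (φ : N → ℂ) n) (hfix ⟨s⁻¹, P.inv_mem hs⟩)
    simp only [hsmul] at h2
    rw [← h2]
    refine congrArg _ (Subtype.ext ?_)
    show (n' : Γ) = (s⁻¹)⁻¹ * n * s⁻¹
    rw [hn', inv_inv]
  have hinvfix : ∀ x : P, x • ϑ = ϑ := by
    intro x
    apply Subtype.ext
    funext n
    rw [hsmul]
    exact hϑ ((x : Γ)⁻¹) (P.inv_mem x.2) n _ (by simp)
  have hLHS2 : ∑ ψ ∈ Finset.univ.filter (fun ψ : IrrCharacter N => ∀ x : P, x • ψ = ψ),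
      m ψ * r ψ ≡ m ϑ * r ϑ [MOD p] := by
    have hmem : ϑ ∈ Finset.univ.filter (fun ψ : IrrCharacter N => ∀ x : P, x • ψ = ψ) := by
      rw [Finset.mem_filter]; exact ⟨Finset.mem_univ _, hinvfix⟩
    rw [← Finset.add_sum_erase _ _ hmem]
    have hdvd : p ∣ ∑ ψ ∈ (Finset.univ.filter
        (fun ψ : IrrCharacter N => ∀ x : P, x • ψ = ψ)).erase ϑ, m ψ * r ψ := by
      apply Finset.dvd_sum
      intro ψ hψ
      have hne : ψ ≠ ϑ := (Finset.mem_erase.mp hψ).1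
      have hfix := (Finset.mem_filter.mp (Finset.mem_erase.mp hψ).2).2
      apply dvd_mul_of_dvd_right
      by_contra hnd
      apply hne
      obtain ⟨m', hm', hpm'⟩ := hϑη
      exact h3N ψ ϑ (hfixinv ψ hfix) hϑ η (r ψ) m' (hr ψ) hnd hm' hpm'
    have : (∑ ψ ∈ (Finset.univ.filter
        (fun ψ : IrrCharacter N => ∀ x : P, x • ψ = ψ)).erase ϑ, m ψ * r ψ) ≡ 0 [MOD p] :=
      (Nat.modEq_zero_iff_dvd).mpr hdvd
    calc m ϑ * r ϑ + ∑ ψ ∈ (Finset.univ.filter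
          (fun ψ : IrrCharacter N => ∀ x : P, x • ψ = ψ)).erase ϑ, m ψ * r ψ
          ≡ m ϑ * r ϑ + 0 [MOD p] := Nat.ModEq.add_left _ this
      _ = m ϑ * r ϑ := by rw [add_zero]
  have hcong : m ϑ * r ϑ ≡ a β * b β [MOD p] := by
    have h5 := (hLHS1.symm.trans (heq ▸ hRHS))
    exact hLHS2.symm.trans h5
  -- `p` does not divide the left hand side
  have hmϑ0 : m ϑ ≠ 0 := by
    intro h0
    apply hover
    rw [hm ϑ, h0, Nat.cast_zero]
  obtain ⟨d, hd, -, hddvd⟩ := Helper75_CanonExt.exists_degree χ.2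
  have hmdvd : m ϑ ∣ d := mult_dvd_degree_amb G N hNG hGN χ ϑ (m ϑ) d (hm ϑ) hmϑ0 hd
  have hpm : ¬ p ∣ m ϑ := fun h => hpG ((h.trans hmdvd).trans hddvd)
  have hpr : ¬ p ∣ r ϑ := by
    obtain ⟨m', hm', hpm'⟩ := hϑη
    have : (r ϑ : ℂ) = (m' : ℂ) := by rw [← hr ϑ, hm']
    have : r ϑ = m' := by exact_mod_cast this
    rw [this]; exact hpm'
  have hpl : ¬ p ∣ m ϑ * r ϑ := fun h => (hp.dvd_mul.mp h).elim hpm hpr
  have hpr' : ¬ p ∣ a β * b β := by
    intro h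
    apply hpl
    exact (Nat.modEq_zero_iff_dvd).mp (hcong.trans ((Nat.modEq_zero_iff_dvd).mpr h))
  have hb0 : b β ≠ 0 := by
    intro h0
    apply hpr'
    rw [h0, mul_zero]; exact dvd_zero p
  rw [hb β]
  exact_mod_cast hb0

end Over


/-- Ambient form of Clifford's conjugacy: two constituents of `β_E` (`E ⊴ D`) are
`D`-conjugate. -/
theorem exists_conj_of_constituent_amb (D E : Subgroup Γ) [Fintype D] [Fintype E] (hED : E ≤ D)
    (hDE : ∀ d ∈ D, ∀ e ∈ E, d * e * d⁻¹ ∈ E) (β : IrrCharacter D) (η η' : IrrCharacter E)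
    (h1 : classInner (fun e : E => (β : D → ℂ) ⟨e, hED e.2⟩) (η' : E → ℂ) ≠ 0)
    (h2 : classInner (fun e : E => (β : D → ℂ) ⟨e, hED e.2⟩) (η : E → ℂ) ≠ 0) :
    ∃ d, ∃ hd : d ∈ D, ∀ e : E, (η : E → ℂ) e = (η' : E → ℂ) ⟨d * e * d⁻¹, hDE d hd e e.2⟩ := by
  classical
  have hKn : (E.subgroupOf D).Normal := by
    refine ⟨fun k hk g => ?_⟩
    rw [Subgroup.mem_subgroupOf] at hk ⊢
    exact hDE g g.2 k hk
  have := Fintype.ofFinite (E.subgroupOf D)
  let ε : E.subgroupOf D ≃* E := Subgroup.subgroupOfEquivOfLe hED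
  have hη₁ : IsIrrCharacter (E.subgroupOf D) (fun k => (η : E → ℂ) (ε k)) :=
    Helper74_GoingUp.isIrr_comp_equiv ε η.2
  have hη'₁ : IsIrrCharacter (E.subgroupOf D) (fun k => (η' : E → ℂ) (ε k)) :=
    Helper74_GoingUp.isIrr_comp_equiv ε η'.2
  have e1 := Helper74_GoingUp.classInner_comp_equiv ε
    (fun e : E => (β : D → ℂ) ⟨e, hED e.2⟩) (η' : E → ℂ)
  have e2 := Helper74_GoingUp.classInner_comp_equiv ε
    (fun e : E => (β : D → ℂ) ⟨e, hED e.2⟩) (η : E → ℂ)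
  obtain ⟨g, hg⟩ := Helper75_Clifford.exists_conj_of_constituent (E.subgroupOf D) hKn β.2
    hη'₁ hη₁ (by rw [← e1] at h1; exact h1) (by rw [← e2] at h2; exact h2)
  refine ⟨(g : Γ), g.2, fun e => ?_⟩
  have h3 := congrFun hg (ε.symm e)
  rw [Helper75_Clifford.conjFun_apply] at h3
  simp only [MulEquiv.apply_symm_apply] at h3
  rw [h3]
  refine congrArg _ (Subtype.ext ?_)
  rfl


section OverBack

variable [Fintype Γ]

/-- **Isaacs 13.29 (⇐) for `p`-groups.** If `χ ↔ β` and `ϑ ↔ η` under the `p`-group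
correspondence and `β` lies over `η`, then `χ` lies over `ϑ`. -/
theorem over_bwd (H : PCorr Γ) (G N P : Subgroup Γ) (p : ℕ) (hp : p.Prime) (hPp : IsPGroup p P)
    (hNG : N ≤ G) (hGN : ∀ g ∈ G, ∀ n ∈ N, g * n * g⁻¹ ∈ N)
    (hPG : ∀ x ∈ P, ∀ g ∈ G, x * g * x⁻¹ ∈ G) (hPN : ∀ x ∈ P, ∀ n ∈ N, x * n * x⁻¹ ∈ N)
    (hpG : ¬ p ∣ Nat.card G)
    (D E : Subgroup Γ) (hD : D = G ⊓ Subgroup.centralizer (P : Set Γ))
    (hE : E = N ⊓ Subgroup.centralizer (P : Set Γ))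
    [Fintype G] [Fintype N] [Fintype D] [Fintype E]
    (hDG : D ≤ G) (hEN : E ≤ N) (hED : E ≤ D)
    (χ : IrrCharacter G) (hχ : SInv G P (χ : G → ℂ)) (ϑ : IrrCharacter N)
    (hϑ : SInv N P (ϑ : N → ℂ)) (β : IrrCharacter D) (η : IrrCharacter E)
    (hχβ : Rel p G D hDG (χ : G → ℂ) (β : D → ℂ)) (hϑη : Rel p N E hEN (ϑ : N → ℂ) (η : E → ℂ))
    (hover : classInner (fun e : E => (β : D → ℂ) ⟨e, hED e.2⟩) (η : E → ℂ) ≠ 0) :
    classInner (fun n : N => (χ : G → ℂ) ⟨n, hNG n.2⟩) (ϑ : N → ℂ) ≠ 0 := by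
  classical
  have hpF : Fact p.Prime := ⟨hp⟩
  have hNn : (N.subgroupOf G).Normal := by
    refine ⟨fun k hk g => ?_⟩
    rw [Subgroup.mem_subgroupOf] at hk ⊢
    exact hGN g g.2 k hk
  obtain ⟨j, hj⟩ := IsPGroup.iff_card.mp hPp
  have hcopr : (N.relIndex G).Coprime (Nat.card P) := by
    rw [hj]
    apply Nat.Coprime.pow_right
    apply Nat.Coprime.symm
    rw [Nat.Prime.coprime_iff_not_dvd hp]
    intro h
    exact hpG (h.trans (Subgroup.relIndex_dvd_card N G))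
  have hnilP : Group.IsNilpotent P := hPp.isNilpotent
  have hsolvP : Group.IsSolvable P := inferInstance
  obtain ⟨ϑ', hov', hinv'⟩ := Cfsg.Agent.S4447.result G P N hPG hNG hPN hcopr (Or.inl hsolvP) χ hχ
  have hpN : ¬ p ∣ Nat.card N := fun h => hpG (h.trans (Subgroup.card_dvd_of_le hNG))
  have hcopN : (Nat.card N).Coprime (Nat.card P) := by
    rw [hj]
    exact Nat.Coprime.pow_right j ((Nat.Prime.coprime_iff_not_dvd hp).mpr hpN).symm
  obtain ⟨h1N, -, h3N, -⟩ := H N P hPN hcopN p hp hPp E hE hEN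
  obtain ⟨η', hη'rel, -⟩ := h1N ϑ' hinv'
  have h5 := over_fwd H G N P p hp hPp hNG hGN hPG hPN hpG D E hD hE hDG hEN hED χ hχ ϑ' hinv'
    β η' hχβ hη'rel hov'
  -- `D` normalizes `E`
  have hDc : ∀ d ∈ D, ∀ x ∈ P, x * d = d * x := by
    intro d hd x hx
    have : d ∈ G ⊓ Subgroup.centralizer (P : Set Γ) := hD ▸ hd
    exact Subgroup.mem_centralizer_iff.mp this.2 x hx
  have hEc : ∀ e ∈ E, ∀ x ∈ P, x * e = e * x := by
    intro e he x hx
    have : e ∈ N ⊓ Subgroup.centralizer (P : Set Γ) := hE ▸ he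
    exact Subgroup.mem_centralizer_iff.mp this.2 x hx
  have hDE : ∀ d ∈ D, ∀ e ∈ E, d * e * d⁻¹ ∈ E := by
    intro d hd e he
    rw [hE]
    refine ⟨hGN d (hDG hd) e (hEN he), Subgroup.mem_centralizer_iff.mpr ?_⟩
    intro x hx
    have h1 := hDc d hd x hx
    have h2 := hEc e he x hx
    have h3 : x * d⁻¹ = d⁻¹ * x := by
      calc x * d⁻¹ = d⁻¹ * (d * x) * d⁻¹ := by group
        _ = d⁻¹ * (x * d) * d⁻¹ := by rw [h1]
        _ = d⁻¹ * x := by group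
    calc x * (d * e * d⁻¹) = (x * d) * e * d⁻¹ := by group
      _ = d * (x * e) * d⁻¹ := by rw [h1]; group
      _ = d * e * (x * d⁻¹) := by rw [h2]; group
      _ = d * e * d⁻¹ * x := by rw [h3]; group
  obtain ⟨d, hd, hconj⟩ := exists_conj_of_constituent_amb D E hED hDE β η η' h5 hover
  have hdG : d ∈ G := hDG hd
  have hdN : d ∈ Subgroup.normalizer (N : Set Γ) :=
    Helper75_CosetConj.le_normalizer_of_hnorm N G hGN hdG
  have hdE : d ∈ Subgroup.normalizer (E : Set Γ) :=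
    Helper75_CosetConj.le_normalizer_of_hnorm E D hDE hd
  have hrel := rel_conj p N E hEN d hdN hdE ϑ' η' hη'rel
  have hηeq : conjIrr E d hdE η' = η := by
    apply Subtype.ext
    funext e
    rw [conjIrr_apply]
    exact (hconj e).symm
  rw [hηeq] at hrel
  have hinv'' : SInv N P (conjIrr N d hdN ϑ' : N → ℂ) := by
    intro x hx n n' hn'
    rw [conjIrr_apply, conjIrr_apply]
    apply hinv' x hx
    show d * (n' : Γ) * d⁻¹ = x * (d * n * d⁻¹) * x⁻¹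
    rw [hn']
    have h1 := hDc d hd x hx
    have h3 : x⁻¹ * d⁻¹ = d⁻¹ * x⁻¹ := by
      calc x⁻¹ * d⁻¹ = (d * x)⁻¹ := by group
        _ = (x * d)⁻¹ := by rw [h1]
        _ = d⁻¹ * x⁻¹ := by group
    calc d * (x * ↑n * x⁻¹) * d⁻¹ = (d * x) * n * (x⁻¹ * d⁻¹) := by group
      _ = (x * d) * n * (d⁻¹ * x⁻¹) := by rw [h1, h3]
      _ = x * (d * ↑n * d⁻¹) * x⁻¹ := by group
  obtain ⟨m₁, hm₁, hpm₁⟩ := hrel
  obtain ⟨m₂, hm₂, hpm₂⟩ := hϑη
  have hϑeq : conjIrr N d hdN ϑ' = ϑ :=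
    h3N _ ϑ hinv'' hϑ η m₁ m₂ hm₁ hpm₁ hm₂ hpm₂
  rw [← hϑeq]
  have hχcl : IsClassFunction G (χ : G → ℂ) :=
    Helper3_CharBridge.isClassFunction_of_isIrrCharacter χ.2
  have h6 := Helper74_GoingUp.classInner_comp_equiv (Helper24_CoprimeAction.conjAut N d hdN)
    (fun n : N => (χ : G → ℂ) ⟨n, hNG n.2⟩) (ϑ' : N → ℂ)
  have h7 : (fun k : N => (fun n : N => (χ : G → ℂ) ⟨n, hNG n.2⟩)
      (Helper24_CoprimeAction.conjAut N d hdN k)) = fun n : N => (χ : G → ℂ) ⟨n, hNG n.2⟩ := by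
    funext k
    exact hχcl ⟨k, hNG k.2⟩ ⟨d, hdG⟩
  rw [h7] at h6
  have h8 : (conjIrr N d hdN ϑ' : N → ℂ) =
      fun k : N => (ϑ' : N → ℂ) (Helper24_CoprimeAction.conjAut N d hdN k) := rfl
  rw [h8, h6]
  exact hov'

end OverBack


section Corr

variable [Fintype Γ]

omit [Fintype Γ] in
/-- `S` normalizes `D = C_G(P)` in the setting of `card_step`. -/
theorem normalizes_centralizer (G S A B P : Subgroup Γ) (hPB : P ≤ B)
    (hnorm : ∀ s ∈ S, ∀ g ∈ G, s * g * s⁻¹ ∈ G)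
    (hBn : ∀ s ∈ S, ∀ b ∈ B, s * b * s⁻¹ ∈ B)
    (hAG : ∀ a ∈ A, ∀ g ∈ G, a * g = g * a)
    (hdec : ∀ b ∈ B, ∃ a ∈ A, ∃ x ∈ P, b = a * x)
    (D : Subgroup Γ) (hD : D = G ⊓ Subgroup.centralizer (P : Set Γ)) :
    (∀ d ∈ D, ∀ b ∈ B, b * d = d * b) ∧ ∀ s ∈ S, ∀ d ∈ D, s * d * s⁻¹ ∈ D := by
  have hDG : D ≤ G := by rw [hD]; exact inf_le_left
  have hDP : ∀ d ∈ D, ∀ x ∈ P, x * d = d * x := by
    intro d hd x hx
    rw [hD] at hd
    exact Subgroup.mem_centralizer_iff.mp hd.2 x hx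
  have hDB : ∀ d ∈ D, ∀ b ∈ B, b * d = d * b := by
    intro d hd b hb
    obtain ⟨a, ha, x, hx, rfl⟩ := hdec b hb
    rw [mul_assoc, hDP d hd x hx, ← mul_assoc, hAG a ha d (hDG hd), mul_assoc]
  refine ⟨hDB, ?_⟩
  intro s hs d hd
  rw [hD]
  refine ⟨hnorm s hs d (hDG hd), Subgroup.mem_centralizer_iff.mpr ?_⟩
  intro x hx
  have hb : s⁻¹ * x * s ∈ B := by
    have := hBn s⁻¹ (S.inv_mem hs) x (hPB hx)
    rwa [inv_inv] at this
  have h1 := hDB d hd _ hb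
  calc x * (s * d * s⁻¹) = s * ((s⁻¹ * x * s) * d) * s⁻¹ := by group
    _ = s * (d * (s⁻¹ * x * s)) * s⁻¹ := by rw [h1]
    _ = s * d * s⁻¹ * x := by group

/-- Forward direction of the equivariant correspondence: an `S`-invariant `χ ∈ Irr(G)` has an
`S`-invariant correspondent in `Irr(C_G(P))`. -/
theorem exists_corr_fwd (H : PCorr Γ) (G S A B P : Subgroup Γ) (p : ℕ) (hp : p.Prime)
    (hBS : B ≤ S) (hPB : P ≤ B)
    (hnorm : ∀ s ∈ S, ∀ g ∈ G, s * g * s⁻¹ ∈ G)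
    (hBn : ∀ s ∈ S, ∀ b ∈ B, s * b * s⁻¹ ∈ B)
    (hAG : ∀ a ∈ A, ∀ g ∈ G, a * g = g * a)
    (hPp : IsPGroup p P) (hdec : ∀ b ∈ B, ∃ a ∈ A, ∃ x ∈ P, b = a * x)
    (hpG : ¬ p ∣ Nat.card G)
    (D : Subgroup Γ) (hD : D = G ⊓ Subgroup.centralizer (P : Set Γ)) [Fintype D] (hDG : D ≤ G)
    (χ : IrrCharacter G) (hχ : SInv G S (χ : G → ℂ)) :
    ∃ β : IrrCharacter D, SInv D S (β : D → ℂ) ∧ Rel p G D hDG (χ : G → ℂ) (β : D → ℂ) := by
  classical
  have hPS : P ≤ S := hPB.trans hBS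
  obtain ⟨-, hSD⟩ := normalizes_centralizer G S A B P hPB hnorm hBn hAG hdec D hD
  have hSnG : S ≤ Subgroup.normalizer (G : Set Γ) :=
    Helper75_CosetConj.le_normalizer_of_hnorm G S hnorm
  have hSnD : S ≤ Subgroup.normalizer (D : Set Γ) :=
    Helper75_CosetConj.le_normalizer_of_hnorm D S hSD
  have instG : Fintype G := Fintype.ofFinite G
  have hpF : Fact p.Prime := ⟨hp⟩
  have hnormP : ∀ x ∈ P, ∀ g ∈ G, x * g * x⁻¹ ∈ G := fun x hx => hnorm x (hPS hx)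
  have hcopP : (Nat.card G).Coprime (Nat.card P) := by
    obtain ⟨j, hj⟩ := IsPGroup.iff_card.mp hPp
    rw [hj]
    exact Nat.Coprime.pow_right j ((Nat.Prime.coprime_iff_not_dvd hp).mpr hpG).symm
  obtain ⟨h1, -, -, -⟩ := H G P hnormP hcopP p hp hPp D hD hDG
  have hχP : SInv G P (χ : G → ℂ) := fun x hx => hχ x (hPS hx)
  obtain ⟨β, hβ, huniq⟩ := h1 χ hχP
  refine ⟨β, ?_, hβ⟩
  rw [sInv_iff D S hSnD]
  intro s hs
  apply huniq
  have h5 := rel_conj p G D hDG s (hSnG hs) (hSnD hs) χ β hβ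
  rwa [(sInv_iff G S hSnG χ).mp hχ s hs] at h5

/-- Backward direction of the equivariant correspondence. -/
theorem exists_corr_bwd (H : PCorr Γ) (G S A B P : Subgroup Γ) (p : ℕ) (hp : p.Prime)
    (hBS : B ≤ S) (hPB : P ≤ B)
    (hnorm : ∀ s ∈ S, ∀ g ∈ G, s * g * s⁻¹ ∈ G)
    (hBn : ∀ s ∈ S, ∀ b ∈ B, s * b * s⁻¹ ∈ B)
    (hAG : ∀ a ∈ A, ∀ g ∈ G, a * g = g * a)
    (hPp : IsPGroup p P) (hdec : ∀ b ∈ B, ∃ a ∈ A, ∃ x ∈ P, b = a * x)
    (hpG : ¬ p ∣ Nat.card G)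
    (D : Subgroup Γ) (hD : D = G ⊓ Subgroup.centralizer (P : Set Γ)) [Fintype D] (hDG : D ≤ G)
    (β : IrrCharacter D) (hβ : SInv D S (β : D → ℂ)) :
    ∃ χ : IrrCharacter G, SInv G S (χ : G → ℂ) ∧ Rel p G D hDG (χ : G → ℂ) (β : D → ℂ) := by
  classical
  have hPS : P ≤ S := hPB.trans hBS
  obtain ⟨-, hSD⟩ := normalizes_centralizer G S A B P hPB hnorm hBn hAG hdec D hD
  have hSnG : S ≤ Subgroup.normalizer (G : Set Γ) :=
    Helper75_CosetConj.le_normalizer_of_hnorm G S hnorm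
  have hSnD : S ≤ Subgroup.normalizer (D : Set Γ) :=
    Helper75_CosetConj.le_normalizer_of_hnorm D S hSD
  have instG : Fintype G := Fintype.ofFinite G
  have hpF : Fact p.Prime := ⟨hp⟩
  have hnormP : ∀ x ∈ P, ∀ g ∈ G, x * g * x⁻¹ ∈ G := fun x hx => hnorm x (hPS hx)
  have hcopP : (Nat.card G).Coprime (Nat.card P) := by
    obtain ⟨j, hj⟩ := IsPGroup.iff_card.mp hPp
    rw [hj]
    exact Nat.Coprime.pow_right j ((Nat.Prime.coprime_iff_not_dvd hp).mpr hpG).symm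
  obtain ⟨-, -, h3, h4⟩ := H G P hnormP hcopP p hp hPp D hD hDG
  have hBinv : ∀ χ : G → ℂ, SInv G P χ → SInv G B χ := by
    intro χ hχ b hb g g' hg'
    obtain ⟨a, ha, x, hx, rfl⟩ := hdec b hb
    apply hχ x hx g g'
    rw [hg']
    have hxg : x * g * x⁻¹ ∈ G := hnormP x hx g g.2
    have := hAG a ha _ hxg
    calc a * x * ↑g * (a * x)⁻¹ = (a * (x * g * x⁻¹)) * a⁻¹ := by group
      _ = x * g * x⁻¹ := by rw [this]; group
  have hconjP : ∀ (χ : IrrCharacter G) s (hs : s ∈ S), SInv G P (χ : G → ℂ) →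
      SInv G P (conjIrr G s (hSnG hs) χ : G → ℂ) := by
    intro χ s hs hχ x hx g g' hg'
    rw [conjIrr_apply, conjIrr_apply]
    have hb : s * x * s⁻¹ ∈ B := hBn s hs x (hPB hx)
    apply hBinv _ hχ _ hb
    show s * (g' : Γ) * s⁻¹ = s * x * s⁻¹ * (s * g * s⁻¹) * (s * x * s⁻¹)⁻¹
    rw [hg']; group
  obtain ⟨χ, hχP, hrel⟩ := h4 β
  refine ⟨χ, ?_, hrel⟩
  rw [sInv_iff G S hSnG]
  intro s hs
  have h5 := rel_conj p G D hDG s (hSnG hs) (hSnD hs) χ β hrel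
  rw [(sInv_iff D S hSnD β).mp hβ s hs] at h5
  obtain ⟨m, hm, hpm⟩ := h5
  obtain ⟨m', hm', hpm'⟩ := hrel
  exact h3 _ χ (hconjP χ s hs hχP) hχP β m m' hm hpm hm' hpm'

end Corr


section Main

variable [Fintype Γ]

/-- Ambient form of `exists_over`. -/
theorem exists_over_amb (G N : Subgroup Γ) [Fintype N] (hNG : N ≤ G) (ϑ : IrrCharacter N) :
    ∃ χ : IrrCharacter G,
      classInner (fun n : N => (χ : G → ℂ) ⟨n, hNG n.2⟩) (ϑ : N → ℂ) ≠ 0 := by
  classical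
  have instG : Fintype G := Fintype.ofFinite G
  have := Fintype.ofFinite (N.subgroupOf G)
  let ε : N.subgroupOf G ≃* N := Subgroup.subgroupOfEquivOfLe hNG
  let φ' : IrrCharacter (N.subgroupOf G) :=
    ⟨fun k => (ϑ : N → ℂ) (ε k), Helper74_GoingUp.isIrr_comp_equiv ε ϑ.2⟩
  obtain ⟨χ, hχ⟩ := Helper74_GoingUp.exists_over (N.subgroupOf G) φ'
  refine ⟨χ, ?_⟩
  have h3 := Helper74_GoingUp.classInner_comp_equiv ε
    (fun n : N => (χ : G → ℂ) ⟨n, hNG n.2⟩) (ϑ : N → ℂ)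
  rw [← h3]
  exact hχ

/-- **Isaacs 13.31 (generalized).** Let the solvable group `S` normalize `G` and its normal
subgroup `N`; let `A` be a normal subgroup of `S` centralizing `G`, with `|G|` coprime to
`[S : A]`. Then every `S`-invariant irreducible character of `N` lies under an `S`-invariant
irreducible character of `G`. -/
theorem exists_inv_over (H : PCorr Γ) : ∀ (k : ℕ) (G N S A : Subgroup Γ) [Fintype N]
    (hNG : N ≤ G), A ≤ S → (∀ s ∈ S, ∀ a ∈ A, s * a * s⁻¹ ∈ A) →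
    (∀ s ∈ S, ∀ g ∈ G, s * g * s⁻¹ ∈ G) → (∀ g ∈ G, ∀ n ∈ N, g * n * g⁻¹ ∈ N) →
    (∀ s ∈ S, ∀ n ∈ N, s * n * s⁻¹ ∈ N) → (∀ a ∈ A, ∀ g ∈ G, a * g = g * a) →
    (Nat.card G).Coprime (A.relIndex S) → Group.IsSolvable S → A.relIndex S = k →
    ∀ ϑ : IrrCharacter N, SInv N S (ϑ : N → ℂ) →
    ∃ χ : IrrCharacter G,
      classInner (fun n : N => (χ : G → ℂ) ⟨n, hNG n.2⟩) (ϑ : N → ℂ) ≠ 0 ∧
        SInv G S (χ : G → ℂ) := by
  intro k
  induction k using Nat.strong_induction_on with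
  | _ k ih =>
    intro G N S A instN hNG hAS hAn hnorm hGN hSN hAG hcop hsolv hk ϑ hϑ
    classical
    by_cases hne : A = S
    · subst hne
      obtain ⟨χ, hχ⟩ := exists_over_amb G N hNG ϑ
      refine ⟨χ, hχ, ?_⟩
      intro s hs g g' hg'
      have : g' = g := by
        apply Subtype.ext
        rw [hg', hAG s hs g g.2]; group
      rw [this]
    · obtain ⟨p, B, P, hp, hAB, hBS, hBn, hPB, hPp, hdec, hpd, hlt, hdvd⟩ :=
        Helper75_SolvStep.exists_step A S hAS hAn hne hsolv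
      have hpG : ¬ p ∣ Nat.card G := by
        intro hpG
        have := Nat.dvd_gcd hpG hpd
        rw [Nat.Coprime] at hcop
        rw [hcop] at this
        exact hp.one_lt.ne' (Nat.dvd_one.mp this)
      have hpN : ¬ p ∣ Nat.card N := fun h => hpG (h.trans (Subgroup.card_dvd_of_le hNG))
      have hPS : P ≤ S := hPB.trans hBS
      have hAN : ∀ a ∈ A, ∀ n ∈ N, a * n = n * a := fun a ha n hn => hAG a ha n (hNG hn)
      obtain ⟨D, hD⟩ : ∃ D : Subgroup Γ, D = G ⊓ Subgroup.centralizer (P : Set Γ) := ⟨_, rfl⟩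
      obtain ⟨E, hE⟩ : ∃ E : Subgroup Γ, E = N ⊓ Subgroup.centralizer (P : Set Γ) := ⟨_, rfl⟩
      have hDG : D ≤ G := by rw [hD]; exact inf_le_left
      have hEN : E ≤ N := by rw [hE]; exact inf_le_left
      have hED : E ≤ D := by
        rw [hE, hD]; exact inf_le_inf_right _ hNG
      have instG : Fintype G := Fintype.ofFinite G
      have instD : Fintype D := Fintype.ofFinite D
      have instE : Fintype E := Fintype.ofFinite E
      obtain ⟨hDB, hSD⟩ := normalizes_centralizer G S A B P hPB hnorm hBn hAG hdec D hD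
      obtain ⟨-, hSE⟩ := normalizes_centralizer N S A B P hPB hSN hBn hAN hdec E hE
      -- `D` normalizes `E`
      have hDE : ∀ d ∈ D, ∀ e ∈ E, d * e * d⁻¹ ∈ E := by
        intro d hd e he
        have hdc : d ∈ G ⊓ Subgroup.centralizer (P : Set Γ) := hD ▸ hd
        have hec : e ∈ N ⊓ Subgroup.centralizer (P : Set Γ) := hE ▸ he
        rw [hE]
        exact ⟨hGN d hdc.1 e hec.1,
          (Subgroup.centralizer (P : Set Γ)).mul_mem
            ((Subgroup.centralizer (P : Set Γ)).mul_mem hdc.2 hec.2)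
            ((Subgroup.centralizer (P : Set Γ)).inv_mem hdc.2)⟩
      -- the correspondent of `ϑ`
      obtain ⟨η, hηinv, hϑη⟩ := exists_corr_fwd H N S A B P p hp hBS hPB hSN hBn hAN hPp hdec
        hpN E hE hEN ϑ hϑ
      -- induction
      have hcop' : (Nat.card D).Coprime (B.relIndex S) :=
        Nat.Coprime.coprime_dvd_left (Subgroup.card_dvd_of_le hDG)
          (Nat.Coprime.coprime_dvd_right hdvd hcop)
      obtain ⟨β, hβover, hβinv⟩ := ih (B.relIndex S) (hk ▸ hlt) D E S B hED hBS hBn hSD hDE hSE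
        (fun b hb d hd => hDB d hd b hb) hcop' hsolv rfl η hηinv
      -- going back
      obtain ⟨χ, hχinv, hχβ⟩ := exists_corr_bwd H G S A B P p hp hBS hPB hnorm hBn hAG hPp hdec
        hpG D hD hDG β hβinv
      refine ⟨χ, ?_, hχinv⟩
      exact over_bwd H G N P p hp hPp hNG hGN (fun x hx => hnorm x (hPS hx))
        (fun x hx => hSN x (hPS hx)) hpG D E hD hE hDG hEN hED χ
        (fun x hx => hχinv x (hPS hx)) ϑ (fun x hx => hϑ x (hPS hx)) β η hχβ hϑη hβover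

/-- **Isaacs 13.31.** For a solvable group `S` acting coprimely on `G`, every `S`-invariant
irreducible character of an `S`-invariant normal subgroup `N` lies under an `S`-invariant
irreducible character of `G`. -/
theorem exists_inv_over_main (H : PCorr Γ) (G S N : Subgroup Γ) [Fintype N]
    (hnorm : ∀ s ∈ S, ∀ g ∈ G, s * g * s⁻¹ ∈ G) (hNG : N ≤ G)
    (hGN : ∀ g ∈ G, ∀ n ∈ N, g * n * g⁻¹ ∈ N) (hSN : ∀ s ∈ S, ∀ n ∈ N, s * n * s⁻¹ ∈ N)
    (hcop : (Nat.card G).Coprime (Nat.card S)) (hsolv : Group.IsSolvable S)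
    (ϑ : IrrCharacter N) (hϑ : SInv N S (ϑ : N → ℂ)) :
    ∃ χ : IrrCharacter G,
      classInner (fun n : N => (χ : G → ℂ) ⟨n, hNG n.2⟩) (ϑ : N → ℂ) ≠ 0 ∧
        SInv G S (χ : G → ℂ) := by
  have hcop' : (Nat.card G).Coprime ((⊥ : Subgroup Γ).relIndex S) := by
    rw [Subgroup.relIndex_bot_left]; exact hcop
  refine exists_inv_over H _ G N S ⊥ hNG bot_le ?_ hnorm hGN hSN ?_ hcop' hsolv rfl ϑ hϑ
  · intro s _ a ha
    rw [Subgroup.mem_bot] at ha ⊢
    rw [ha]; group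
  · intro a ha g _
    rw [Subgroup.mem_bot] at ha
    rw [ha, one_mul, mul_one]

end Main

end Cfsg.Agent.Lib.Helper75_GlaubOver
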