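import Cfsg.Agent.Lib.Helper16_Char
import Cfsg.Agent.Lib.Helper3_CharBridge
import Cfsg.Agent.Lib.Helper3_CharOrtho
import Cfsg.Agent.Lib.Helper57_FrobNorm

/-!
# The group of intertwiners of an invariant irreducible representation (helper75)

Let `N ⊴ Γ` and let `ρ` be an irreducible representation of `N` on `ℂⁿ` whose character is
`Γ`-invariant.  The group `hat N ρ m` consists of the pairs `(g, A)`, `g ∈ Γ`, `A ∈ GL_n(ℂ)`, with
`A ρ(x) A⁻¹ = ρ(g x g⁻¹)` for all `x ∈ N` and `det(A)^m = 1`.  It is a finite central extension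
of `Γ` (`proj`), the second projection `rep` is a representation of it extending `ρ` along the
section `iota : N → hat` (so the invariant character of `N` extends to `hat`), and the kernel of
`proj` consists of scalars (`zeta`).  This replaces the theory of projective representations /
character triple isomorphisms.
-/

set_option autoImplicit false
set_option linter.unusedSectionVars false

namespace Cfsg.Agent.Lib.Helper75_Hat

universe u

variable {Γ : Type u} [Group Γ] (N : Subgroup Γ) [hN : N.Normal] {n : ℕ}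
  (ρ : Representation ℂ N (Fin n → ℂ)) (m : ℕ)

/-- Conjugation by `g` on the normal subgroup `N`. -/
def cj (g : Γ) : N →* N := (MulAut.conjNormal g : MulAut N).toMonoidHom

theorem cj_apply (g : Γ) (x : N) : ((cj N g x : N) : Γ) = g * x * g⁻¹ :=
  MulAut.conjNormal_apply g x

theorem cj_mul (g h : Γ) (x : N) : cj N (g * h) x = cj N g (cj N h x) := by
  apply Subtype.ext
  rw [cj_apply, cj_apply, cj_apply]
  group

theorem cj_one (x : N) : cj N 1 x = x := by
  apply Subtype.ext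
  rw [cj_apply]
  group

theorem cj_surjective (g : Γ) : Function.Surjective (cj N g) :=
  (MulAut.conjNormal g : MulAut N).surjective

/-- The group of pairs `(g, A)` with `A` intertwining `ρ` and its `g`-conjugate, `det A ^ m = 1`. -/
def hat : Subgroup (Γ × (Module.End ℂ (Fin n → ℂ))ˣ) where
  carrier := {a | (∀ x : N, (a.2 : Module.End ℂ (Fin n → ℂ)) * ρ x = ρ (cj N a.1 x) * a.2) ∧
      LinearMap.det (a.2 : Module.End ℂ (Fin n → ℂ)) ^ m = 1}
  mul_mem' := by
    rintro a b ⟨ha, ha'⟩ ⟨hb, hb'⟩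
    refine ⟨fun x => ?_, ?_⟩
    · show ((a.2 * b.2 : (Module.End ℂ (Fin n → ℂ))ˣ) : Module.End ℂ (Fin n → ℂ)) * ρ x =
        ρ (cj N (a.1 * b.1) x) * ((a.2 * b.2 : (Module.End ℂ (Fin n → ℂ))ˣ) :
          Module.End ℂ (Fin n → ℂ))
      rw [Units.val_mul, mul_assoc, hb x, ← mul_assoc, ha (cj N b.1 x), mul_assoc, cj_mul]
    · show LinearMap.det ((a.2 * b.2 : (Module.End ℂ (Fin n → ℂ))ˣ) :
        Module.End ℂ (Fin n → ℂ)) ^ m = 1
      rw [Units.val_mul, map_mul, mul_pow, ha', hb', one_mul]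
  one_mem' := by
    refine ⟨fun x => ?_, ?_⟩
    · show ((1 : (Module.End ℂ (Fin n → ℂ))ˣ) : Module.End ℂ (Fin n → ℂ)) * ρ x =
        ρ (cj N 1 x) * ((1 : (Module.End ℂ (Fin n → ℂ))ˣ) : Module.End ℂ (Fin n → ℂ))
      rw [cj_one, Units.val_one, one_mul, mul_one]
    · show LinearMap.det ((1 : (Module.End ℂ (Fin n → ℂ))ˣ) : Module.End ℂ (Fin n → ℂ)) ^ m = 1
      rw [Units.val_one, map_one, one_pow]
  inv_mem' := by
    rintro a ⟨ha, ha'⟩
    refine ⟨fun x => ?_, ?_⟩
    · show ((a.2⁻¹ : (Module.End ℂ (Fin n → ℂ))ˣ) : Module.End ℂ (Fin n → ℂ)) * ρ x =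
        ρ (cj N a.1⁻¹ x) * ((a.2⁻¹ : (Module.End ℂ (Fin n → ℂ))ˣ) : Module.End ℂ (Fin n → ℂ))
      have h := ha (cj N a.1⁻¹ x)
      rw [← cj_mul, mul_inv_cancel, cj_one] at h
      calc ((a.2⁻¹ : (Module.End ℂ (Fin n → ℂ))ˣ) : Module.End ℂ (Fin n → ℂ)) * ρ x
          = ((a.2⁻¹ : (Module.End ℂ (Fin n → ℂ))ˣ) : Module.End ℂ (Fin n → ℂ)) *
              (ρ x * (a.2 : Module.End ℂ (Fin n → ℂ))) *
              ((a.2⁻¹ : (Module.End ℂ (Fin n → ℂ))ˣ) : Module.End ℂ (Fin n → ℂ)) := by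
            rw [mul_assoc, mul_assoc, Units.mul_inv, mul_one]
        _ = ((a.2⁻¹ : (Module.End ℂ (Fin n → ℂ))ˣ) : Module.End ℂ (Fin n → ℂ)) *
              ((a.2 : Module.End ℂ (Fin n → ℂ)) * ρ (cj N a.1⁻¹ x)) *
              ((a.2⁻¹ : (Module.End ℂ (Fin n → ℂ))ˣ) : Module.End ℂ (Fin n → ℂ)) := by rw [h]
        _ = ρ (cj N a.1⁻¹ x) *
              ((a.2⁻¹ : (Module.End ℂ (Fin n → ℂ))ˣ) : Module.End ℂ (Fin n → ℂ)) := by
            rw [← mul_assoc, Units.inv_mul, one_mul]
    · show LinearMap.det ((a.2⁻¹ : (Module.End ℂ (Fin n → ℂ))ˣ) :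
        Module.End ℂ (Fin n → ℂ)) ^ m = 1
      have h1 : LinearMap.det ((a.2⁻¹ : (Module.End ℂ (Fin n → ℂ))ˣ) :
          Module.End ℂ (Fin n → ℂ)) * LinearMap.det (a.2 : Module.End ℂ (Fin n → ℂ)) = 1 := by
        rw [← map_mul, Units.inv_mul, map_one]
      have h2 := congrArg (· ^ m) h1
      simp only [mul_pow, one_pow] at h2
      rw [ha', mul_one] at h2
      exact h2

theorem mem_hat (a : Γ × (Module.End ℂ (Fin n → ℂ))ˣ) :
    a ∈ hat N ρ m ↔ (∀ x : N, (a.2 : Module.End ℂ (Fin n → ℂ)) * ρ x = ρ (cj N a.1 x) * a.2) ∧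
      LinearMap.det (a.2 : Module.End ℂ (Fin n → ℂ)) ^ m = 1 := Iff.rfl

/-- The projection onto `Γ`. -/
def proj : hat N ρ m →* Γ := (MonoidHom.fst Γ _).comp (hat N ρ m).subtype

theorem proj_apply (a : hat N ρ m) : proj N ρ m a = (a : Γ × (Module.End ℂ (Fin n → ℂ))ˣ).1 := rfl

/-- The tautological representation of `hat` on `ℂⁿ`. -/
def rep : Representation ℂ (hat N ρ m) (Fin n → ℂ) :=
  (Units.coeHom (Module.End ℂ (Fin n → ℂ))).comp ((MonoidHom.snd Γ _).comp (hat N ρ m).subtype)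

theorem rep_apply (a : hat N ρ m) :
    rep N ρ m a = ((a : Γ × (Module.End ℂ (Fin n → ℂ))ˣ).2 : Module.End ℂ (Fin n → ℂ)) := rfl

/-- The section over `N`. -/
def iota (hm : ∀ x : N, x ^ m = 1) : N →* hat N ρ m where
  toFun x := ⟨((x : Γ), MonoidHom.toHomUnits ρ x), by
    refine ⟨fun y => ?_, ?_⟩
    · show ρ x * ρ y = ρ (cj N (x : Γ) y) * ρ x
      rw [← map_mul, ← map_mul]
      congr 1
      apply Subtype.ext
      rw [Subgroup.coe_mul, Subgroup.coe_mul, cj_apply]
      group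
    · show LinearMap.det (ρ x) ^ m = 1
      rw [← map_pow, ← map_pow, hm x, map_one, map_one]⟩
  map_one' := by
    apply Subtype.ext
    apply Prod.ext
    · rfl
    · show MonoidHom.toHomUnits ρ 1 = 1
      rw [map_one]
  map_mul' x y := by
    apply Subtype.ext
    apply Prod.ext
    · rfl
    · show MonoidHom.toHomUnits ρ (x * y) = MonoidHom.toHomUnits ρ x * MonoidHom.toHomUnits ρ y
      rw [map_mul]

theorem proj_iota (hm : ∀ x : N, x ^ m = 1) (x : N) : proj N ρ m (iota N ρ m hm x) = x := rfl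

theorem rep_iota (hm : ∀ x : N, x ^ m = 1) (x : N) : rep N ρ m (iota N ρ m hm x) = ρ x := rfl

/-- Conjugation in `hat` is compatible with `iota`. -/
theorem conj_iota (hm : ∀ x : N, x ^ m = 1) (a : hat N ρ m) (x : N) :
    a * iota N ρ m hm x * a⁻¹ = iota N ρ m hm (cj N (proj N ρ m a) x) := by
  apply Subtype.ext
  apply Prod.ext
  · show (a : Γ × (Module.End ℂ (Fin n → ℂ))ˣ).1 * (x : Γ) *
      (a : Γ × (Module.End ℂ (Fin n → ℂ))ˣ).1⁻¹ = _
    rw [← cj_apply]
    rfl
  · apply Units.ext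
    show ((a : Γ × (Module.End ℂ (Fin n → ℂ))ˣ).2 : Module.End ℂ (Fin n → ℂ)) * ρ x *
      (((a : Γ × (Module.End ℂ (Fin n → ℂ))ˣ).2⁻¹ : (Module.End ℂ (Fin n → ℂ))ˣ) :
        Module.End ℂ (Fin n → ℂ)) = ρ (cj N (proj N ρ m a) x)
    rw [a.2.1 x, mul_assoc, Units.mul_inv, mul_one]
    rfl

/-- The representation `rep`, restricted along any homomorphism whose range contains the image of
`iota`, is irreducible when `ρ` is. -/
theorem rep_comp_irreducible (hm : ∀ x : N, x ^ m = 1) [hρ : ρ.IsIrreducible] {Y : Type*}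
    [Group Y] (f : Y →* hat N ρ m) (hf : ∀ x : N, ∃ y : Y, f y = iota N ρ m hm x) :
    Representation.IsIrreducible (MonoidHom.comp (rep N ρ m) f : Representation ℂ Y (Fin n → ℂ)) := by
  have hnt : Nontrivial (Subrepresentation (MonoidHom.comp (rep N ρ m) f : Representation ℂ Y (Fin n → ℂ))) := by
    have h1 : Nontrivial (Subrepresentation ρ) := IsSimpleOrder.toNontrivial
    obtain ⟨U, W, hUW⟩ := h1
    by_contra hcon
    rw [not_nontrivial_iff_subsingleton] at hcon
    apply hUW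
    have h3 : (⊤ : Submodule ℂ (Fin n → ℂ)) = ⊥ := by
      have := Subsingleton.elim (⊤ : Subrepresentation (MonoidHom.comp (rep N ρ m) f : Representation ℂ Y (Fin n → ℂ))) ⊥
      exact congrArg Subrepresentation.toSubmodule this
    have hsub : ∀ A : Submodule ℂ (Fin n → ℂ), A = ⊥ := by
      intro A
      rw [eq_bot_iff, ← h3]; exact le_top
    apply Subrepresentation.toSubmodule_injective
    rw [hsub U.toSubmodule, hsub W.toSubmodule]
  refine { toNontrivial := hnt, eq_bot_or_eq_top := ?_ }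
  intro U
  -- `U` is `ρ`-invariant
  let U' : Subrepresentation ρ := ⟨U.toSubmodule, fun x v hv => by
    obtain ⟨y, hy⟩ := hf x
    have := U.apply_mem_toSubmodule y hv
    rw [MonoidHom.comp_apply, hy, rep_iota] at this
    exact this⟩
  rcases hρ.eq_bot_or_eq_top U' with h | h
  · left
    apply Subrepresentation.toSubmodule_injective
    have h2 : U'.toSubmodule = (⊥ : Subrepresentation ρ).toSubmodule :=
      congrArg Subrepresentation.toSubmodule h
    exact h2
  · right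
    apply Subrepresentation.toSubmodule_injective
    have h2 : U'.toSubmodule = (⊤ : Subrepresentation ρ).toSubmodule :=
      congrArg Subrepresentation.toSubmodule h
    exact h2

/-- A unit of `End` from a nonzero scalar and a unit. -/
noncomputable def smulUnit (c : ℂ) (hc : c ≠ 0) (A : (Module.End ℂ (Fin n → ℂ))ˣ) :
    (Module.End ℂ (Fin n → ℂ))ˣ where
  val := c • (A : Module.End ℂ (Fin n → ℂ))
  inv := c⁻¹ • ((A⁻¹ : (Module.End ℂ (Fin n → ℂ))ˣ) : Module.End ℂ (Fin n → ℂ))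
  val_inv := by
    rw [smul_mul_smul_comm, mul_inv_cancel₀ hc, Units.mul_inv, one_smul]
  inv_val := by
    rw [smul_mul_smul_comm, inv_mul_cancel₀ hc, Units.inv_mul, one_smul]

/-- `proj` is surjective. -/
theorem proj_surjective [Fintype N] [hρ : ρ.IsIrreducible]
    (hinv : ∀ (g : Γ) (x : N), ρ.character (cj N g x) = ρ.character x) (hm : 0 < m) :
    Function.Surjective (proj N ρ m) := by
  intro g
  -- the conjugate representation
  let ρg : Representation ℂ N (Fin n → ℂ) := ρ.comp (cj N g)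
  have hρg : ρg.IsIrreducible :=
    (Cfsg.Agent.Lib.Helper57_FrobNorm.subrepEquivComp ρ (cj N g)
      (cj_surjective N g)).isSimpleOrder_iff.mpr hρ
  have hchar : ρg.character = ρ.character := funext (hinv g)
  obtain ⟨φ⟩ := Cfsg.Agent.Lib.Helper3_CharOrtho.nonempty_equiv_of_char_eq ρg ρ hchar
  let A : (Module.End ℂ (Fin n → ℂ))ˣ :=
    LinearMap.GeneralLinearGroup.ofLinearEquiv φ.toLinearEquiv
  have hA : ∀ x : N, (A : Module.End ℂ (Fin n → ℂ)) * ρ x = ρ (cj N g x) * A := by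
    intro x
    exact φ.isIntertwining' x
  have hn : 0 < n := by
    have := Cfsg.Agent.Lib.Helper16_Char.finrank_pos_of_irreducible ρ
    rwa [Module.finrank_fin_fun] at this
  have hdet : LinearMap.det (A : Module.End ℂ (Fin n → ℂ)) ≠ 0 := by
    have h1 : LinearMap.det (A : Module.End ℂ (Fin n → ℂ)) *
        LinearMap.det ((A⁻¹ : (Module.End ℂ (Fin n → ℂ))ˣ) : Module.End ℂ (Fin n → ℂ)) = 1 := by
      rw [← map_mul, Units.mul_inv, map_one]
    exact left_ne_zero_of_mul_eq_one h1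
  set w := LinearMap.det (A : Module.End ℂ (Fin n → ℂ)) ^ m with hw
  have hw0 : w ≠ 0 := pow_ne_zero _ hdet
  obtain ⟨c, hc⟩ := IsAlgClosed.exists_pow_nat_eq w⁻¹ (Nat.mul_pos hn hm)
  have hc0 : c ≠ 0 := by
    intro h
    rw [h, zero_pow (Nat.mul_pos hn hm).ne'] at hc
    exact inv_ne_zero hw0 hc.symm
  refine ⟨⟨(g, smulUnit c hc0 A), ?_, ?_⟩, rfl⟩
  · intro x
    show c • (A : Module.End ℂ (Fin n → ℂ)) * ρ x = ρ (cj N g x) * (c • (A : Module.End ℂ (Fin n → ℂ)))
    rw [smul_mul_assoc, hA x, mul_smul_comm]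
  · show LinearMap.det (c • (A : Module.End ℂ (Fin n → ℂ))) ^ m = 1
    rw [LinearMap.det_smul, Module.finrank_fin_fun, mul_pow, ← pow_mul, hc, ← hw,
      inv_mul_cancel₀ hw0]

/-- Elements of the kernel of `proj` are scalars. -/
theorem exists_scalar [hρ : ρ.IsIrreducible] (a : hat N ρ m) (ha : proj N ρ m a = 1) :
    ∃ c : ℂ, ((a : Γ × (Module.End ℂ (Fin n → ℂ))ˣ).2 : Module.End ℂ (Fin n → ℂ)) =
      c • (1 : Module.End ℂ (Fin n → ℂ)) := by
  apply Cfsg.Agent.Lib.Helper16_Char.schur_scalar ρ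
  intro x
  have h := a.2.1 x
  have h1 : (a : Γ × (Module.End ℂ (Fin n → ℂ))ˣ).1 = 1 := ha
  rw [h1, cj_one] at h
  exact h

/-- The scalar by which an element acts (meaningful on the kernel of `proj`). -/
noncomputable def zeta (a : hat N ρ m) : ℂ :=
  LinearMap.trace ℂ (Fin n → ℂ) (rep N ρ m a) / n

theorem rep_eq_zeta [hρ : ρ.IsIrreducible] (a : hat N ρ m) (ha : proj N ρ m a = 1) :
    rep N ρ m a = zeta N ρ m a • (1 : Module.End ℂ (Fin n → ℂ)) := by
  obtain ⟨c, hc⟩ := exists_scalar N ρ m a ha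
  have hn : (n : ℂ) ≠ 0 := by
    have := Cfsg.Agent.Lib.Helper16_Char.finrank_pos_of_irreducible ρ
    rw [Module.finrank_fin_fun] at this
    exact_mod_cast this.ne'
  have hz : zeta N ρ m a = c := by
    unfold zeta
    rw [rep_apply, hc, map_smul, LinearMap.trace_one, Module.finrank_fin_fun, smul_eq_mul]
    field_simp
  rw [hz, rep_apply, hc]

theorem zeta_ne_zero [hρ : ρ.IsIrreducible] (a : hat N ρ m) (ha : proj N ρ m a = 1) :
    zeta N ρ m a ≠ 0 := by
  intro h0
  have h := rep_eq_zeta N ρ m a ha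
  rw [h0, zero_smul] at h
  have h1 : rep N ρ m a * rep N ρ m a⁻¹ = 1 := by rw [← map_mul, mul_inv_cancel, map_one]
  rw [h, zero_mul] at h1
  have hpos := Cfsg.Agent.Lib.Helper16_Char.finrank_pos_of_irreducible ρ
  have hnt : Nontrivial (Fin n → ℂ) := Module.finrank_pos_iff.mp hpos
  obtain ⟨v, hv⟩ := exists_ne (0 : Fin n → ℂ)
  have := congrArg (fun T : Module.End ℂ (Fin n → ℂ) => T v) h1
  simp at this
  exact hv this.symm

theorem zeta_mul [hρ : ρ.IsIrreducible] (a b : hat N ρ m) (ha : proj N ρ m a = 1) :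
    rep N ρ m (a * b) = zeta N ρ m a • rep N ρ m b := by
  rw [map_mul, rep_eq_zeta N ρ m a ha, smul_mul_assoc, one_mul]

theorem zeta_mul_zeta [hρ : ρ.IsIrreducible] (a b : hat N ρ m) (ha : proj N ρ m a = 1)
    (hb : proj N ρ m b = 1) : zeta N ρ m (a * b) = zeta N ρ m a * zeta N ρ m b := by
  have hn : (n : ℂ) ≠ 0 := by
    have := Cfsg.Agent.Lib.Helper16_Char.finrank_pos_of_irreducible ρ
    rw [Module.finrank_fin_fun] at this
    exact_mod_cast this.ne'
  unfold zeta
  rw [zeta_mul N ρ m a b ha, map_smul, smul_eq_mul, rep_eq_zeta N ρ m b hb, map_smul,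
    LinearMap.trace_one, Module.finrank_fin_fun, smul_eq_mul]
  unfold zeta
  field_simp

theorem zeta_one [hρ : ρ.IsIrreducible] : zeta N ρ m 1 = 1 := by
  have hn : (n : ℂ) ≠ 0 := by
    have := Cfsg.Agent.Lib.Helper16_Char.finrank_pos_of_irreducible ρ
    rw [Module.finrank_fin_fun] at this
    exact_mod_cast this.ne'
  unfold zeta
  rw [map_one, LinearMap.trace_one, Module.finrank_fin_fun]
  field_simp

/-- The kernel of `proj` is central. -/
theorem ker_central [hρ : ρ.IsIrreducible] (a b : hat N ρ m) (ha : proj N ρ m a = 1) :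
    a * b = b * a := by
  apply Subtype.ext
  apply Prod.ext
  · show (a : Γ × (Module.End ℂ (Fin n → ℂ))ˣ).1 * (b : Γ × (Module.End ℂ (Fin n → ℂ))ˣ).1 =
      (b : Γ × (Module.End ℂ (Fin n → ℂ))ˣ).1 * (a : Γ × (Module.End ℂ (Fin n → ℂ))ˣ).1
    have h1 : (a : Γ × (Module.End ℂ (Fin n → ℂ))ˣ).1 = 1 := ha
    rw [h1, one_mul, mul_one]
  · apply Units.ext
    show rep N ρ m (a * b) = rep N ρ m (b * a)
    rw [map_mul, map_mul, rep_eq_zeta N ρ m a ha, smul_mul_assoc, one_mul, mul_smul_comm, mul_one]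

/-- An element of the kernel of `proj` with `zeta = 1` is trivial. -/
theorem eq_one_of_zeta [hρ : ρ.IsIrreducible] (a : hat N ρ m) (ha : proj N ρ m a = 1)
    (hz : zeta N ρ m a = 1) : a = 1 := by
  apply Subtype.ext
  apply Prod.ext
  · exact ha
  · apply Units.ext
    show rep N ρ m a = 1
    rw [rep_eq_zeta N ρ m a ha, hz, one_smul]

/-- `zeta` of a kernel element is an `(n m)`-th root of unity. -/
theorem zeta_pow [hρ : ρ.IsIrreducible] (a : hat N ρ m) (ha : proj N ρ m a = 1) :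
    zeta N ρ m a ^ (n * m) = 1 := by
  have h := a.2.2
  have h1 : ((a : Γ × (Module.End ℂ (Fin n → ℂ))ˣ).2 : Module.End ℂ (Fin n → ℂ)) =
      zeta N ρ m a • (1 : Module.End ℂ (Fin n → ℂ)) := rep_eq_zeta N ρ m a ha
  rw [h1, LinearMap.det_smul, Module.finrank_fin_fun, map_one, mul_one, ← pow_mul] at h
  exact h

/-- The group `hat` is finite. -/
theorem finite_hat [Finite Γ] [hρ : ρ.IsIrreducible] (hm : 0 < m) : Finite (hat N ρ m) := by
  rw [MonoidHom.finite_iff_finite_ker_range (proj N ρ m)]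
  refine ⟨?_, inferInstance⟩
  have hn : 0 < n := by
    have := Cfsg.Agent.Lib.Helper16_Char.finrank_pos_of_irreducible ρ
    rwa [Module.finrank_fin_fun] at this
  have : NeZero (n * m) := ⟨(Nat.mul_pos hn hm).ne'⟩
  let f : (proj N ρ m).ker → rootsOfUnity (n * m) ℂ := fun z =>
    ⟨Units.mk0 (zeta N ρ m z) (zeta_ne_zero N ρ m z z.2), by
      rw [mem_rootsOfUnity]
      apply Units.ext
      rw [Units.val_pow_eq_pow_val, Units.val_mk0, Units.val_one]
      exact zeta_pow N ρ m z z.2⟩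
  apply Finite.of_injective f
  intro z z' hzz'
  have h1 : zeta N ρ m z = zeta N ρ m z' := by
    have := congrArg (fun u : rootsOfUnity (n * m) ℂ => ((u : ℂˣ) : ℂ)) hzz'
    exact this
  apply Subtype.ext
  have hz'inv : proj N ρ m (z'⁻¹ : hat N ρ m) = 1 := by rw [map_inv, z'.2, inv_one]
  have h2 : (z : hat N ρ m) * (z' : hat N ρ m)⁻¹ = 1 := by
    apply eq_one_of_zeta N ρ m
    · rw [map_mul, z.2, hz'inv, one_mul]
    · have h3 := zeta_mul_zeta N ρ m (z' : hat N ρ m) (z'⁻¹ : hat N ρ m) z'.2 hz'inv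
      rw [mul_inv_cancel, zeta_one] at h3
      rw [zeta_mul_zeta N ρ m _ _ z.2 hz'inv, h1, ← h3]
  exact mul_inv_eq_one.mp h2

/-- The character of `rep` on products with kernel elements. -/
theorem character_mul [hρ : ρ.IsIrreducible] (a b : hat N ρ m) (ha : proj N ρ m a = 1) :
    (rep N ρ m).character (a * b) = zeta N ρ m a * (rep N ρ m).character b := by
  show LinearMap.trace ℂ _ (rep N ρ m (a * b)) = _ * LinearMap.trace ℂ _ (rep N ρ m b)
  rw [zeta_mul N ρ m a b ha, map_smul, smul_eq_mul]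

theorem character_iota (hm : ∀ x : N, x ^ m = 1) (x : N) :
    (rep N ρ m).character (iota N ρ m hm x) = ρ.character x := rfl

end Cfsg.Agent.Lib.Helper75_Hat
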