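import Mathlib
import Cfsg.Agent.S3224
import Cfsg.Agent.S0107
import Cfsg.Agent.S1213
import Cfsg.Agent.S0220
import Cfsg.Agent.Lib.Helper34_Sylow

/-!
# M11 package INV8 (helper75): in a simple group of order 7920 every involution centralizer has
order divisible by 8
-/

set_option autoImplicit false

namespace Cfsg.Agent.Lib.Helper75_M11_INV8

open Cfsg

variable {G : Type*} [Group G] [Finite G]

theorem no_index_two [IsSimpleGroup G] (hG : Nat.card G = 7920) (H : Subgroup G) :
    H.index ≠ 2 := by
  intro h2
  have hn : H.Normal := Subgroup.normal_of_index_eq_two h2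
  rcases hn.eq_bot_or_eq_top with h | h
  · rw [h, Subgroup.index_bot, hG] at h2; omega
  · rw [h, Subgroup.index_top] at h2; omega

theorem pResidual_eq_top [IsSimpleGroup G] (hG : Nat.card G = 7920) :
    Cfsg.pResidual 2 G = ⊤ := by
  have hn := Cfsg.Agent.Lib.Helper34_Sylow.pResidual_normal 2 G
  rcases hn.eq_bot_or_eq_top with h | h
  · exfalso
    have : Fact (Nat.Prime 3) := ⟨by norm_num⟩
    obtain ⟨g, hg⟩ := exists_prime_orderOf_dvd_card' (G := G) 3 (by rw [hG]; norm_num)
    have hmem : g ∈ Cfsg.pResidual 2 G := by
      unfold Cfsg.pResidual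
      apply Subgroup.subset_closure
      show Nat.Coprime (orderOf g) 2
      rw [hg]; norm_num
    rw [h, Subgroup.mem_bot] at hmem
    rw [hmem, orderOf_one] at hg
    omega
  · exact h

theorem card_sylow2 (hG : Nat.card G = 7920) (S : Sylow 2 G) : Nat.card S = 16 := by
  rw [S.card_eq_multiplicity, hG]
  have : (7920 : ℕ) = 2 ^ 4 * 495 := by norm_num
  rw [this, Nat.factorization_mul (by norm_num) (by norm_num)]
  simp only [Finsupp.coe_add, Pi.add_apply]
  have h1 : (2 ^ 4 : ℕ).factorization 2 = 4 := by
    rw [Nat.factorization_pow]; simp [Nat.Prime.factorization_self Nat.prime_two]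
  have h2 : (495 : ℕ).factorization 2 = 0 := by
    apply Nat.factorization_eq_zero_of_not_dvd; norm_num
  rw [h1, h2]
  norm_num

/-- A central involution of a finite group lies in every Sylow 2-subgroup. -/
theorem central_mem_sylow {C : Type*} [Group C] [Finite C] (z : C) (hz : orderOf z = 2)
    (hcen : ∀ c : C, c * z = z * c) (T : Sylow 2 C) : z ∈ T := by
  have hn : (Subgroup.zpowers z).Normal := by
    constructor
    intro n hn g
    obtain ⟨k, rfl⟩ := Subgroup.mem_zpowers_iff.mp hn
    have hc : Commute g (z ^ k) := (show Commute g z from hcen g).zpow_right k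
    have : g * z ^ k * g⁻¹ = z ^ k := by
      rw [hc.eq, mul_inv_cancel_right]
    rw [this]
    exact Subgroup.zpow_mem_zpowers z k
  have hp : IsPGroup 2 (Subgroup.zpowers z) := by
    apply IsPGroup.of_card (n := 1)
    rw [Nat.card_zpowers, hz, pow_one]
  exact (hp.le_sylow_of_normal T) (Subgroup.mem_zpowers z)

theorem INV8 [IsSimpleGroup G] (hG : Nat.card G = 7920) (t : G) (ht : orderOf t = 2) :
    8 ∣ Nat.card (Subgroup.centralizer ({t} : Set G)) := by
  classical
  have : Fact (Nat.Prime 2) := ⟨Nat.prime_two⟩
  set C : Subgroup G := Subgroup.centralizer ({t} : Set G) with hC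
  obtain ⟨T⟩ := (inferInstance : Nonempty (Sylow 2 C))
  have hTcard : Nat.card T = 2 ^ (Nat.card C).factorization 2 := T.card_eq_multiplicity
  set a := (Nat.card C).factorization 2 with ha
  have hCpos : Nat.card C ≠ 0 := Nat.card_pos.ne'
  by_contra h8
  have ha2 : a ≤ 2 := by
    by_contra hcon
    push Not at hcon
    apply h8
    have h1 : 2 ^ 3 ∣ 2 ^ a := pow_dvd_pow 2 hcon
    have h2 : 2 ^ a ∣ Nat.card C := Nat.ordProj_dvd _ _
    simpa using h1.trans h2
  have hno := no_index_two (G := G) hG
  rcases (by omega : a ≤ 1 ∨ a = 2) with h1 | h2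
  · -- `T` is cyclic
    have hcyc : IsCyclic (T : Subgroup C) := by
      rcases (by omega : a = 0 ∨ a = 1) with h0 | h1'
      · rw [h0, pow_zero] at hTcard
        have : Subsingleton (T : Subgroup C) := (Nat.card_eq_one_iff_unique.mp hTcard).1
        exact isCyclic_of_subsingleton
      · rw [h1', pow_one] at hTcard
        exact isCyclic_of_prime_card hTcard
    obtain ⟨H, hH⟩ := Cfsg.Agent.S0220.result t ht T hcyc
    exact hno H hH
  · -- `|T| = 4`
    rw [h2] at hTcard
    have htC : t ∈ C := by
      rw [hC, Subgroup.mem_centralizer_singleton_iff]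
    set t' : C := ⟨t, htC⟩ with ht'
    have ht'o : orderOf t' = 2 := (Subgroup.orderOf_coe t').symm.trans ht
    have hcen : ∀ c : C, c * t' = t' * c := by
      intro c
      apply Subtype.ext
      have := Subgroup.mem_centralizer_singleton_iff.mp c.2
      simpa using this
    have ht'T : t' ∈ T := central_mem_sylow t' ht'o hcen T
    -- the image of `T` in `G`
    set T' : Subgroup G := (T : Subgroup C).map C.subtype with hT'
    have hT'card : Nat.card T' = 4 := by
      rw [hT', Subgroup.card_map_of_injective C.subtype_injective]
      simpa using hTcard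
    have hT'p : IsPGroup 2 T' := IsPGroup.of_card (n := 2) (by rw [hT'card]; norm_num)
    obtain ⟨S, hS⟩ := hT'p.exists_le_sylow
    have hScard : Nat.card S = 16 := card_sylow2 hG S
    have htT' : t ∈ T' := by
      rw [hT', Subgroup.mem_map]
      exact ⟨t', ht'T, rfl⟩
    have htS : t ∈ (S : Subgroup G) := hS htT'
    -- `S ⊓ C = T'`
    have hSC : (S : Subgroup G) ⊓ C = T' := by
      apply le_antisymm
      · -- `(S ⊓ C).subgroupOf C` is a 2-group containing `T`
        have hp : IsPGroup 2 (((S : Subgroup G) ⊓ C).subgroupOf C) := by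
          have h1 : IsPGroup 2 ((S : Subgroup G) ⊓ C : Subgroup G) :=
            S.isPGroup'.to_le inf_le_left
          exact h1.comap_of_injective C.subtype C.subtype_injective
        have hle : (T : Subgroup C) ≤ ((S : Subgroup G) ⊓ C).subgroupOf C := by
          intro x hx
          rw [Subgroup.mem_subgroupOf, Subgroup.mem_inf]
          refine ⟨hS ?_, x.2⟩
          rw [hT', Subgroup.mem_map]
          exact ⟨x, hx, rfl⟩
        have heq := T.is_maximal' hp hle
        intro x hx
        have hxC : x ∈ C := (Subgroup.mem_inf.mp hx).2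
        have : (⟨x, hxC⟩ : C) ∈ ((S : Subgroup G) ⊓ C).subgroupOf C := by
          rw [Subgroup.mem_subgroupOf]; exact hx
        rw [heq] at this
        rw [hT', Subgroup.mem_map]
        exact ⟨⟨x, hxC⟩, this, rfl⟩
      · intro x hx
        refine Subgroup.mem_inf.mpr ⟨hS hx, ?_⟩
        rw [hT', Subgroup.mem_map] at hx
        obtain ⟨y, -, rfl⟩ := hx
        exact y.2
    -- the centralizer of `t` in `S`
    set x : (S : Subgroup G) := ⟨t, htS⟩ with hx
    have hxo : orderOf x = 2 := (Subgroup.orderOf_coe x).symm.trans ht
    have hcentS : Nat.card (Subgroup.centralizer ({x} : Set (S : Subgroup G))) = 4 := by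
      rw [← hT'card, ← hSC]
      have hmap : (Subgroup.centralizer ({x} : Set (S : Subgroup G))).map (S : Subgroup G).subtype =
          (S : Subgroup G) ⊓ C := by
        ext g
        rw [Subgroup.mem_map, Subgroup.mem_inf]
        constructor
        · rintro ⟨y, hy, rfl⟩
          refine ⟨y.2, ?_⟩
          rw [hC, Subgroup.mem_centralizer_singleton_iff]
          rw [Subgroup.mem_centralizer_singleton_iff] at hy
          have := congrArg Subtype.val hy
          simpa using this
        · rintro ⟨hgS, hgC⟩
          refine ⟨⟨g, hgS⟩, ?_, rfl⟩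
          rw [Subgroup.mem_centralizer_singleton_iff]
          apply Subtype.ext
          rw [hC, Subgroup.mem_centralizer_singleton_iff] at hgC
          simpa using hgC
      rw [← hmap, Subgroup.card_map_of_injective (S : Subgroup G).subtype_injective]
    have hSp : IsPGroup 2 (S : Subgroup G) := S.isPGroup'
    rcases Cfsg.Agent.S3224.result hSp x hxo hcentS with ⟨n, ⟨e⟩⟩ | hqd | h4
    · -- dihedral
      have hn : n = 2 ^ 3 := by
        have := Nat.card_congr e.toEquiv
        rw [DihedralGroup.nat_card] at this
        have h16 : Nat.card (S : Subgroup G) = 16 := hScard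
        omega
      subst hn
      -- a central involution of `S`
      have hnt : Nontrivial (S : Subgroup G) := by
        rw [← Finite.one_lt_card_iff_nontrivial]
        have h16 : Nat.card (S : Subgroup G) = 16 := hScard
        omega
      have hcnt := hSp.center_nontrivial
      have h2c : 2 ∣ Nat.card (Subgroup.center (S : Subgroup G)) := by
        obtain ⟨k, hk⟩ := (hSp.to_subgroup (Subgroup.center (S : Subgroup G))).exists_card_eq
        rw [hk]
        have hk0 : k ≠ 0 := by
          rintro rfl
          rw [pow_zero] at hk
          have := Finite.one_lt_card_iff_nontrivial.mpr hcnt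
          omega
        exact dvd_pow_self 2 hk0
      obtain ⟨z, hz⟩ := exists_prime_orderOf_dvd_card' (G := Subgroup.center (S : Subgroup G)) 2 h2c
      have hzo : orderOf ((z : (S : Subgroup G)) : G) = 2 := by
        rw [Subgroup.orderOf_coe, Subgroup.orderOf_coe, hz]
      obtain ⟨g, hg⟩ := Cfsg.Agent.S0107.result S 3 (by norm_num) ⟨e⟩ (pResidual_eq_top hG) t
        ((z : (S : Subgroup G)) : G) ht hzo
      -- `S ≤ C(z)`
      have hSz : (S : Subgroup G) ≤ Subgroup.centralizer ({((z : (S : Subgroup G)) : G)} : Set G) := by
        intro s hs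
        rw [Subgroup.mem_centralizer_singleton_iff]
        have hzc := z.2
        rw [Subgroup.mem_center_iff] at hzc
        have := hzc ⟨s, hs⟩
        have := congrArg Subtype.val this
        simpa using this
      have h16 : 16 ∣ Nat.card (Subgroup.centralizer ({((z : (S : Subgroup G)) : G)} : Set G)) := by
        have := Subgroup.card_dvd_of_le hSz
        have h16' : Nat.card (S : Subgroup G) = 16 := hScard
        rwa [h16'] at this
      -- conjugate centralizers have the same order
      have hcardeq : Nat.card (Subgroup.centralizer ({((z : (S : Subgroup G)) : G)} : Set G)) =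
          Nat.card C := by
        have hmap : C.map (MulAut.conj g).toMonoidHom =
            Subgroup.centralizer ({((z : (S : Subgroup G)) : G)} : Set G) := by
          ext y
          rw [Subgroup.mem_map, Subgroup.mem_centralizer_singleton_iff]
          constructor
          · rintro ⟨c, hc, rfl⟩
            rw [hC, Subgroup.mem_centralizer_singleton_iff] at hc
            simp only [MulEquiv.coe_toMonoidHom, MulAut.conj_apply]
            rw [← hg]
            calc g * c * g⁻¹ * (g * t * g⁻¹) = g * (c * t) * g⁻¹ := by group
              _ = g * (t * c) * g⁻¹ := by rw [hc]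
              _ = g * t * g⁻¹ * (g * c * g⁻¹) := by group
          · intro hy
            refine ⟨g⁻¹ * y * g, ?_, ?_⟩
            · rw [hC, Subgroup.mem_centralizer_singleton_iff]
              rw [← hg] at hy
              calc g⁻¹ * y * g * t = g⁻¹ * (y * (g * t * g⁻¹)) * g := by group
                _ = g⁻¹ * ((g * t * g⁻¹) * y) * g := by rw [hy]
                _ = t * (g⁻¹ * y * g) := by group
            · simp only [MulEquiv.coe_toMonoidHom, MulAut.conj_apply]
              group
        rw [← hmap, Subgroup.card_map_of_injective (MulAut.conj g).injective]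
      rw [hcardeq] at h16
      exact h8 (Dvd.dvd.trans (by norm_num) h16)
    · -- quasidihedral
      obtain ⟨R, hR, -⟩ := Cfsg.Agent.S1213.result S (Or.inl hqd) hno t ht
      have h16 : Nat.card (R : Subgroup C) = 16 := by rw [hR]; exact hScard
      have := Subgroup.card_subgroup_dvd_card (R : Subgroup C)
      rw [h16] at this
      exact h8 (Dvd.dvd.trans (by norm_num) this)
    · have h16 : Nat.card (S : Subgroup G) = 16 := hScard
      omega

end Cfsg.Agent.Lib.Helper75_M11_INV8
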