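import Mathlib
import Cfsg.Agent.Lib.Helper75_M11_INV8
import Cfsg.Agent.Lib.Helper17_Sylow

/-!
# M11 package L5_120 (helper75): an involution centralizer of order 120 is impossible

Route (shorter than the sketch in the package file): `T ∈ Syl₂(H)`, `H = C(t)`, is abelian (a Sylow
2-subgroup `S ⊇ T` of `G` gives `s ∈ S ∖ T` with `t ≠ s t s⁻¹ ∈ Z(T)`); Burnside's transfer theorem in
`H` gives an element of `N_H(T)` acting non-trivially on `T`, whence an element `y` of order 3 with
`C_T(y) = ⟨t⟩` (elements of order 5 have centralizers of order 10).  The `N_G(T)`-orbit `O` of `t` lies in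
`T ∖ 1`, `y` fixes exactly one point of it, so `|O| ∈ {4, 7}`, while `|O| · |Stab| = |N_G(T)|` divides `7920`
and `8 ∣ |Stab|`: contradiction.
-/

set_option autoImplicit false

namespace Cfsg.Agent.Lib.Helper75_M11_L5_120

open Cfsg

section general

variable {G : Type*} [Group G]

/-- Fixed-point congruence for a `p`-element of the normalizer. -/
theorem card_modEq_card_fixed (T : Subgroup G) [Finite T] (p : ℕ) [Fact p.Prime] (k : ℕ)
    (n : G) (hn : n ∈ Subgroup.normalizer (T : Set G)) (hord : orderOf n = p ^ k) :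
    Nat.card T ≡ Nat.card ↥(T ⊓ Subgroup.centralizer ({n} : Set G)) [MOD p] := by
  set n' : ↥(Subgroup.normalizer (T : Set G)) := ⟨n, hn⟩ with hn'
  have hY : IsPGroup p (Subgroup.zpowers n') := by
    apply IsPGroup.of_card (n := k)
    rw [Nat.card_zpowers, ← hord]
    exact (Subgroup.orderOf_coe n').symm
  have h1 := hY.card_modEq_card_fixedPoints (↥T)
  have h2 : Nat.card (MulAction.fixedPoints (Subgroup.zpowers n') ↥T) =
      Nat.card ↥(T ⊓ Subgroup.centralizer ({n} : Set G)) := by
    apply Nat.card_congr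
    refine
      { toFun := fun u => ⟨(u.1 : G), Subgroup.mem_inf.mpr ⟨u.1.2, ?_⟩⟩
        invFun := fun v => ⟨⟨(v : G), (Subgroup.mem_inf.mp v.2).1⟩, ?_⟩
        left_inv := fun u => Subtype.ext (Subtype.ext rfl)
        right_inv := fun v => Subtype.ext rfl }
    · rw [Subgroup.mem_centralizer_singleton_iff]
      have := u.2 ⟨n', Subgroup.mem_zpowers n'⟩
      have h3 : (n : G) * (u.1 : G) * (n : G)⁻¹ = (u.1 : G) := congrArg Subtype.val this
      calc (u.1 : G) * n = ((n : G) * (u.1 : G) * (n : G)⁻¹) * n := by rw [h3]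
        _ = n * (u.1 : G) := by group
    · intro z
      obtain ⟨z, hz⟩ := z
      obtain ⟨j, rfl⟩ := Subgroup.mem_zpowers_iff.mp hz
      have hc : (v : G) * n = n * (v : G) :=
        Subgroup.mem_centralizer_singleton_iff.mp (Subgroup.mem_inf.mp v.2).2
      apply Subtype.ext
      show ((n' ^ j : ↥(Subgroup.normalizer (T : Set G))) : G) * (v : G) *
        ((n' ^ j : ↥(Subgroup.normalizer (T : Set G))) : G)⁻¹ = (v : G)
      have hcomm : Commute (n : G) (v : G) := hc.symm
      have : ((n' ^ j : ↥(Subgroup.normalizer (T : Set G))) : G) = n ^ j := by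
        simp [hn']
      rw [this, (hcomm.zpow_left j).eq, mul_inv_cancel_right]
  rw [← h2]
  exact h1

end general


section burnside

variable {H : Type*} [Group H] [Finite H]

theorem card_sylow2_of_120 (hH : Nat.card H = 120) (T : Sylow 2 H) : Nat.card T = 8 := by
  rw [T.card_eq_multiplicity, hH]
  have : (120 : ℕ) = 2 ^ 3 * 15 := by norm_num
  rw [this, Nat.factorization_mul (by norm_num) (by norm_num)]
  simp only [Finsupp.coe_add, Pi.add_apply]
  have h1 : (2 ^ 3 : ℕ).factorization 2 = 3 := by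
    rw [Nat.factorization_pow]; simp [Nat.Prime.factorization_self Nat.prime_two]
  have h2 : (15 : ℕ).factorization 2 = 0 := by
    apply Nat.factorization_eq_zero_of_not_dvd; norm_num
  rw [h1, h2]
  norm_num

/-- Burnside's transfer theorem excludes `N_H(T) ≤ C_H(T)` when `|H| = 120` and `H` has a non-normal
subgroup of order 5. -/
theorem not_normalizer_le_centralizer (hH : Nat.card H = 120) (T : Sylow 2 H)
    (A : Subgroup H) (hA : Nat.card A = 5)
    (hne : ∃ h : H, A.map (MulAut.conj h).toMonoidHom ≠ A) :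
    ¬ (Subgroup.normalizer ((T : Subgroup H) : Set H) ≤
      Subgroup.centralizer ((T : Subgroup H) : Set H)) := by
  intro hP
  have hc := MonoidHom.ker_transferSylow_isComplement' T hP
  set K : Subgroup H := (MonoidHom.transferSylow T hP).ker with hK
  have hKn : K.Normal := MonoidHom.normal_ker _
  have hTcard : Nat.card (T : Subgroup H) = 8 := card_sylow2_of_120 hH T
  have hKcard : Nat.card K = 15 := by
    have := hc.card_mul_card
    rw [hTcard, hH] at this
    omega
  have hKidx : K.index = 8 := by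
    have := K.card_mul_index
    rw [hKcard, hH] at this
    omega
  have h5K : ∀ x : H, x ^ 5 = 1 → x ∈ K := by
    intro x hx
    have h1 : x ^ K.index ∈ K := Subgroup.pow_index_mem K x
    rw [hKidx] at h1
    have h2 : (x ^ 8) ^ 2 = x := by
      rw [← pow_mul]
      calc x ^ (8 * 2) = (x ^ 5) ^ 3 * x := by rw [← pow_mul, ← pow_succ]
        _ = x := by rw [hx, one_pow, one_mul]
    rw [← h2]
    exact K.pow_mem h1 2
  have hAK : A ≤ K := by
    intro x hx
    apply h5K
    have := pow_card_eq_one' (G := A) (x := ⟨x, hx⟩)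
    rw [hA] at this
    have h3 := congrArg Subtype.val this
    simpa using h3
  obtain ⟨h, hh⟩ := hne
  set A₂ : Subgroup H := A.map (MulAut.conj h).toMonoidHom with hA₂
  have hA₂K : A₂ ≤ K := by
    intro x hx
    rw [hA₂, Subgroup.mem_map] at hx
    obtain ⟨a, ha, rfl⟩ := hx
    simp only [MulEquiv.coe_toMonoidHom, MulAut.conj_apply]
    exact hKn.conj_mem a (hAK ha) h
  have hA₂card : Nat.card A₂ = 5 := by
    rw [hA₂, Subgroup.card_map_of_injective (MulAut.conj h).injective, hA]
  have hinf : A ⊓ A₂ = ⊥ := by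
    have hdvd : Nat.card (A ⊓ A₂ : Subgroup H) ∣ 5 := by
      rw [← hA]; exact Subgroup.card_dvd_of_le inf_le_left
    rcases (Nat.dvd_prime (by norm_num : Nat.Prime 5)).mp hdvd with h1 | h5
    · exact Subgroup.card_eq_one.mp h1
    · exfalso
      have hle : A ≤ A ⊓ A₂ := by
        have : A ⊓ A₂ = A :=
          Subgroup.eq_of_le_of_card_ge inf_le_left (by rw [h5, hA])
        rw [this]
      have hle2 : A ≤ A₂ := hle.trans inf_le_right
      exact hh (Subgroup.eq_of_le_of_card_ge hle2 (by rw [hA₂card, hA])).symm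
  have hinj : Function.Injective (fun ab : A × A₂ => (⟨(ab.1 : H) * (ab.2 : H),
      K.mul_mem (hAK ab.1.2) (hA₂K ab.2.2)⟩ : K)) := by
    rintro ⟨a, b⟩ ⟨a', b'⟩ hab
    have h1 : (a : H) * b = a' * b' := congrArg Subtype.val hab
    have h2 : (a' : H)⁻¹ * a = b' * (b : H)⁻¹ := by
      calc (a' : H)⁻¹ * a = (a' : H)⁻¹ * ((a : H) * b) * (b : H)⁻¹ := by group
        _ = (a' : H)⁻¹ * ((a' : H) * b') * (b : H)⁻¹ := by rw [h1]
        _ = b' * (b : H)⁻¹ := by group
    have h3 : (a' : H)⁻¹ * a ∈ A ⊓ A₂ := by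
      refine Subgroup.mem_inf.mpr ⟨A.mul_mem (A.inv_mem a'.2) a.2, ?_⟩
      rw [h2]
      exact A₂.mul_mem b'.2 (A₂.inv_mem b.2)
    rw [hinf, Subgroup.mem_bot] at h3
    have h4 : (a : H) = a' := by
      have := inv_mul_eq_one.mp h3
      exact this.symm
    have h5 : (b : H) = b' := by
      rw [h4] at h1
      exact mul_left_cancel h1
    exact Prod.ext (Subtype.ext h4) (Subtype.ext h5)
  have := Nat.card_le_card_of_injective _ hinj
  rw [Nat.card_prod, hA, hA₂card, hKcard] at this
  omega

end burnside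


section small

/-- A group of order 8 with two distinct non-identity central elements is abelian. -/
theorem comm_of_card_eight {T : Type*} [Group T] [Finite T] (hT : Nat.card T = 8)
    (a b : T) (ha : a ∈ Subgroup.center T) (hb : b ∈ Subgroup.center T) (ha1 : a ≠ 1)
    (hb1 : b ≠ 1) (hab : a ≠ b) (x y : T) : x * y = y * x := by
  have h3 : 3 ≤ Nat.card (Subgroup.center T) := by
    let f : Fin 3 → Subgroup.center T := ![1, ⟨a, ha⟩, ⟨b, hb⟩]
    have hf : Function.Injective f := by
      intro i j hij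
      fin_cases i <;> fin_cases j <;> simp [f, Subtype.ext_iff] at hij ⊢
      · exact absurd hij.symm ha1
      · exact absurd hij.symm hb1
      · exact absurd hij ha1
      · exact absurd hij hab
      · exact absurd hij hb1
      · exact absurd hij.symm hab
    have := Nat.card_le_card_of_injective f hf
    simpa using this
  have hmul := (Subgroup.center T).card_mul_index
  rw [hT] at hmul
  have hidx : (Subgroup.center T).index = 1 ∨ (Subgroup.center T).index = 2 := by
    have hpos : 0 < (Subgroup.center T).index := by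
      rcases Nat.eq_zero_or_pos (Subgroup.center T).index with h0 | h0
      · rw [h0] at hmul; omega
      · exact h0
    have : (Subgroup.center T).index ≤ 2 := by
      by_contra hcon
      push Not at hcon
      have : 3 * 3 ≤ Nat.card (Subgroup.center T) * (Subgroup.center T).index :=
        Nat.mul_le_mul h3 hcon
      omega
    omega
  have hcyc : IsCyclic (T ⧸ Subgroup.center T) := by
    have hc : Nat.card (T ⧸ Subgroup.center T) = (Subgroup.center T).index := rfl
    rcases hidx with h1 | h2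
    · rw [h1] at hc
      have : Subsingleton (T ⧸ Subgroup.center T) := (Nat.card_eq_one_iff_unique.mp hc).1
      exact isCyclic_of_subsingleton
    · rw [h2] at hc
      have : Fact (Nat.Prime 2) := ⟨Nat.prime_two⟩
      exact isCyclic_of_prime_card hc
  exact commutative_of_cyclic_center_quotient (QuotientGroup.mk' (Subgroup.center T))
    (by rw [QuotientGroup.ker_mk']) x y

end small


section main

variable {G : Type*} [Group G] [Finite G]

theorem card_sylow5 (hG : Nat.card G = 7920) : (Nat.card G).factorization 5 = 1 := by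
  rw [hG]
  have : (7920 : ℕ) = 5 ^ 1 * 1584 := by norm_num
  rw [this, Nat.factorization_mul (by norm_num) (by norm_num)]
  simp only [Finsupp.coe_add, Pi.add_apply]
  have h1 : (5 ^ 1 : ℕ).factorization 5 = 1 := by
    rw [Nat.factorization_pow]
    simp [Nat.Prime.factorization_self (by norm_num : Nat.Prime 5)]
  have h2 : (1584 : ℕ).factorization 5 = 0 := by
    apply Nat.factorization_eq_zero_of_not_dvd; norm_num
  rw [h1, h2]

/-- No element of order 5 normalizes a subgroup of order 8. -/
theorem no_order_five (hG : Nat.card G = 7920)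
    (h5 : ∀ P : Sylow 5 G, Nat.card (Subgroup.normalizer ((P : Subgroup G) : Set G)) = 20 ∧
      Nat.card (Subgroup.centralizer ((P : Subgroup G) : Set G)) = 10)
    (T : Subgroup G) (hT : Nat.card T = 8) (x : G) (hx : orderOf x = 5)
    (hxN : x ∈ Subgroup.normalizer (T : Set G)) : False := by
  have : Fact (Nat.Prime 5) := ⟨by norm_num⟩
  have hcard : Nat.card (Subgroup.zpowers x) = 5 ^ (Nat.card G).factorization 5 := by
    rw [card_sylow5 hG, Nat.card_zpowers, hx, pow_one]
  set Px : Sylow 5 G := Sylow.ofCard (Subgroup.zpowers x) hcard with hPx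
  have hPx' : (Px : Subgroup G) = Subgroup.zpowers x := rfl
  have h10 := (h5 Px).2
  rw [hPx'] at h10
  have hfp := card_modEq_card_fixed T 5 1 x hxN (by rw [hx, pow_one])
  set D : Subgroup G := T ⊓ Subgroup.centralizer ({x} : Set G) with hD
  have hD8 : Nat.card D ∣ 8 := by
    rw [← hT]; exact Subgroup.card_dvd_of_le inf_le_left
  have hD10 : Nat.card D ∣ 10 := by
    rw [← h10]
    apply Subgroup.card_dvd_of_le
    intro d hd
    have hdx : d * x = x * d :=
      Subgroup.mem_centralizer_singleton_iff.mp (Subgroup.mem_inf.mp hd).2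
    rw [Subgroup.mem_centralizer_iff]
    intro z hz
    obtain ⟨j, rfl⟩ := Subgroup.mem_zpowers_iff.mp hz
    have hc : Commute x d := hdx.symm
    exact (hc.zpow_left j).eq
  have hD2 : Nat.card D ∣ 2 := by
    have := Nat.dvd_gcd hD8 hD10
    simpa using this
  have hDle : Nat.card D ≤ 2 := Nat.le_of_dvd (by norm_num) hD2
  have hDpos : 0 < Nat.card D := Nat.card_pos
  rw [hT] at hfp
  unfold Nat.ModEq at hfp
  interval_cases h : Nat.card D <;> omega


/-- An element of order 3 normalizing, but not centralizing, a subgroup `T` of order 8 and commuting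
with an involution `t ∈ T` has no fixed point on `T` besides `1` and `t`. -/
theorem fixed_of_order_three (T : Subgroup G) (hT : Nat.card T = 8) (t : G)
    (ht : orderOf t = 2) (htT : t ∈ T) (y : G) (hy : orderOf y = 3)
    (hyN : y ∈ Subgroup.normalizer (T : Set G)) (hyt : y * t = t * y)
    (hyC : y ∉ Subgroup.centralizer (T : Set G)) :
    ∀ u ∈ T, y * u * y⁻¹ = u → u = 1 ∨ u = t := by
  have : Fact (Nat.Prime 3) := ⟨by norm_num⟩
  have hfp := card_modEq_card_fixed T 3 1 y hyN (by rw [hy, pow_one])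
  set D : Subgroup G := T ⊓ Subgroup.centralizer ({y} : Set G) with hD
  have hD8 : Nat.card D ∣ 8 := by
    rw [← hT]; exact Subgroup.card_dvd_of_le inf_le_left
  have hDne : Nat.card D ≠ 8 := by
    intro h8
    have hDT : D = T := Subgroup.eq_of_le_of_card_ge inf_le_left (by rw [h8, hT])
    apply hyC
    rw [Subgroup.mem_centralizer_iff]
    intro u hu
    have : u ∈ D := by rw [hDT]; exact hu
    exact Subgroup.mem_centralizer_singleton_iff.mp (Subgroup.mem_inf.mp this).2
  have hD2 : Nat.card D = 2 := by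
    have hle : Nat.card D ≤ 8 := Nat.le_of_dvd (by norm_num) hD8
    have hpos : 0 < Nat.card D := Nat.card_pos
    rw [hT] at hfp
    unfold Nat.ModEq at hfp
    interval_cases h : Nat.card D <;> omega
  have htD : t ∈ D := by
    refine Subgroup.mem_inf.mpr ⟨htT, ?_⟩
    rw [Subgroup.mem_centralizer_singleton_iff]
    exact hyt.symm
  have hzD : Subgroup.zpowers t = D := by
    apply Subgroup.eq_of_le_of_card_ge (Subgroup.zpowers_le.mpr htD)
    rw [Nat.card_zpowers, ht, hD2]
  intro u hu hfix
  have huD : u ∈ D := by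
    refine Subgroup.mem_inf.mpr ⟨hu, ?_⟩
    rw [Subgroup.mem_centralizer_singleton_iff]
    calc u * y = (y * u * y⁻¹) * y := by rw [hfix]
      _ = y * u := by group
  rw [← hzD] at huD
  obtain ⟨j, rfl⟩ := Subgroup.mem_zpowers_iff.mp huD
  have h2 : t ^ (2 : ℤ) = 1 := by
    have := pow_orderOf_eq_one t
    rw [ht] at this
    exact_mod_cast this
  rcases Int.emod_two_eq_zero_or_one j with h0 | h1
  · left
    have : j = 2 * (j / 2) := by omega
    rw [this, zpow_mul, h2, one_zpow]
  · right
    have : j = 2 * (j / 2) + 1 := by omega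
    rw [this, zpow_add, zpow_mul, h2, one_zpow, one_mul, zpow_one]


/-- The final counting argument on the `N_G(T)`-orbit of `t`. -/
theorem orbit_contra (hG : Nat.card G = 7920) (T : Subgroup G) (hT : Nat.card T = 8) (t : G)
    (ht1 : t ≠ 1) (htT : t ∈ T) (hTt : ∀ u ∈ T, u * t = t * u)
    (s : G) (hsN : s ∈ Subgroup.normalizer (T : Set G)) (hst : s * t * s⁻¹ ≠ t)
    (y : G) (hy : orderOf y = 3) (hyN : y ∈ Subgroup.normalizer (T : Set G))
    (hyt : y * t = t * y)
    (hfix : ∀ u ∈ T, y * u * y⁻¹ = u → u = 1 ∨ u = t) : False := by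
  classical
  have : Fact (Nat.Prime 3) := ⟨by norm_num⟩
  have hTfin : Finite T := Nat.finite_of_card_ne_zero (by rw [hT]; norm_num)
  set N : Subgroup G := Subgroup.normalizer (T : Set G) with hN
  set tT : ↥T := ⟨t, htT⟩ with htT'
  have hsmul : ∀ (n : ↥N) (u : ↥T), ((n • u : ↥T) : G) = (n : G) * u * (n : G)⁻¹ :=
    fun n u => rfl
  -- orbit-stabilizer
  have hos : Nat.card (MulAction.orbit ↥N tT) * Nat.card (MulAction.stabilizer ↥N tT) =
      Nat.card N := by
    rw [← Nat.card_prod]
    exact Nat.card_congr (MulAction.orbitProdStabilizerEquivGroup ↥N tT)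
  have hNdvd : Nat.card N ∣ 7920 := by
    rw [← hG]; exact Subgroup.card_subgroup_dvd_card N
  -- `T` fixes `t`
  have hstab8 : 8 ∣ Nat.card (MulAction.stabilizer ↥N tT) := by
    have hle : T.subgroupOf N ≤ MulAction.stabilizer ↥N tT := by
      intro n hn
      rw [Subgroup.mem_subgroupOf] at hn
      rw [MulAction.mem_stabilizer_iff]
      apply Subtype.ext
      rw [hsmul]
      show (n : G) * t * (n : G)⁻¹ = t
      rw [hTt _ hn, mul_inv_cancel_right]
    have hc : Nat.card (T.subgroupOf N) = 8 := by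
      rw [Nat.card_congr (Subgroup.subgroupOfEquivOfLe Subgroup.le_normalizer).toEquiv, hT]
    rw [← hc]
    exact Subgroup.card_dvd_of_le hle
  -- the orbit avoids `1`
  have hone : (1 : ↥T) ∉ MulAction.orbit ↥N tT := by
    rintro ⟨n, hn⟩
    have h1 : (n : G) * t * (n : G)⁻¹ = 1 := by
      have h2 : ((n • tT : ↥T) : G) = ((1 : ↥T) : G) := congrArg Subtype.val hn
      rw [hsmul] at h2
      exact h2
    apply ht1
    have : t = (n : G)⁻¹ * ((n : G) * t * (n : G)⁻¹) * (n : G) := by group
    rw [this, h1]; group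
  have hle7 : Nat.card (MulAction.orbit ↥N tT) ≤ 7 := by
    have h1 := Set.ncard_add_ncard_compl (MulAction.orbit ↥N tT)
    rw [hT] at h1
    have h2 : 0 < (MulAction.orbit ↥N tT)ᶜ.ncard := by
      rw [Set.ncard_pos]
      exact ⟨1, hone⟩
    rw [Nat.card_coe_set_eq]
    omega
  -- the orbit has at least two elements
  have hge2 : 2 ≤ Nat.card (MulAction.orbit ↥N tT) := by
    rw [Nat.card_coe_set_eq]
    have h1 : tT ∈ MulAction.orbit ↥N tT := MulAction.mem_orbit_self tT
    have h2 : ((⟨s, hsN⟩ : ↥N) • tT) ∈ MulAction.orbit ↥N tT := MulAction.mem_orbit tT _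
    have hne : tT ≠ ((⟨s, hsN⟩ : ↥N) • tT) := by
      intro h
      apply hst
      have := congrArg Subtype.val h
      simpa [hsmul] using this.symm
    have := (Set.one_lt_ncard (Set.toFinite _)).mpr ⟨_, h1, _, h2, hne⟩
    omega
  -- fixed points of `y`
  set yN : ↥N := ⟨y, hyN⟩ with hyN'
  have hY : IsPGroup 3 (Subgroup.zpowers yN) := by
    apply IsPGroup.of_card (n := 1)
    rw [Nat.card_zpowers, pow_one, ← hy]
    exact (Subgroup.orderOf_coe yN).symm
  have hmod := hY.card_modEq_card_fixedPoints (↥(MulAction.orbit ↥N tT))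
  have hfp1 : Nat.card (MulAction.fixedPoints (Subgroup.zpowers yN)
      ↥(MulAction.orbit ↥N tT)) = 1 := by
    rw [Nat.card_eq_one_iff_exists]
    have hfixed : (⟨tT, MulAction.mem_orbit_self tT⟩ : ↥(MulAction.orbit ↥N tT)) ∈
        MulAction.fixedPoints (Subgroup.zpowers yN) ↥(MulAction.orbit ↥N tT) := by
      rintro ⟨z, hz⟩
      obtain ⟨j, rfl⟩ := Subgroup.mem_zpowers_iff.mp hz
      apply Subtype.ext
      apply Subtype.ext
      show ((yN ^ j : ↥N) : G) * t * ((yN ^ j : ↥N) : G)⁻¹ = t
      have h1 : ((yN ^ j : ↥N) : G) = y ^ j := by simp [hyN']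
      have hc : Commute y t := hyt
      rw [h1, (hc.zpow_left j).eq, mul_inv_cancel_right]
    refine ⟨⟨_, hfixed⟩, ?_⟩
    rintro ⟨⟨u, hu⟩, hufix⟩
    apply Subtype.ext
    apply Subtype.ext
    show u = tT
    have h1 := hufix ⟨yN, Subgroup.mem_zpowers yN⟩
    have h2 : y * (u : G) * y⁻¹ = (u : G) := by
      have := congrArg (fun w : ↥(MulAction.orbit ↥N tT) => ((w : ↥T) : G)) h1
      exact this
    rcases hfix u u.2 h2 with h3 | h3
    · exfalso
      apply hone
      have : u = 1 := Subtype.ext h3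
      rw [← this]; exact hu
    · exact Subtype.ext h3
  rw [hfp1] at hmod
  -- arithmetic
  obtain ⟨k, hk⟩ := hstab8
  set o := Nat.card (MulAction.orbit ↥N tT) with ho
  unfold Nat.ModEq at hmod
  rw [hk] at hos
  have hdvd : o * 8 ∣ 7920 := by
    refine Dvd.dvd.trans ?_ hNdvd
    rw [← hos]
    exact ⟨k, by ring⟩
  have ho47 : o = 4 ∨ o = 7 := by
    interval_cases o <;> omega
  rcases ho47 with h4 | h7
  · rw [h4] at hdvd; norm_num at hdvd
  · rw [h7] at hdvd; norm_num at hdvd


open Cfsg.Agent.Lib.Helper75_M11_INV8 in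
/-- **M11-L5_120**. -/
theorem L5_120 [IsSimpleGroup G] (hG : Nat.card G = 7920)
    (h5 : ∀ P : Sylow 5 G, Nat.card (Subgroup.normalizer ((P : Subgroup G) : Set G)) = 20 ∧
      Nat.card (Subgroup.centralizer ((P : Subgroup G) : Set G)) = 10)
    (P : Sylow 5 G) (t : G) (ht : orderOf t = 2)
    (htP : t ∈ Subgroup.centralizer ((P : Subgroup G) : Set G))
    (hNt : Subgroup.normalizer ((P : Subgroup G) : Set G) ≤ Subgroup.centralizer ({t} : Set G)) :
    Nat.card (Subgroup.centralizer ({t} : Set G)) ≠ 120 := by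
  classical
  intro h120
  have hp2 : Fact (Nat.Prime 2) := ⟨Nat.prime_two⟩
  have hp5 : Fact (Nat.Prime 5) := ⟨by norm_num⟩
  set H : Subgroup G := Subgroup.centralizer ({t} : Set G) with hH
  -- the Sylow 2-subgroup of `H`
  obtain ⟨T₀⟩ := (inferInstance : Nonempty (Sylow 2 H))
  have hT₀card : Nat.card (T₀ : Subgroup H) = 8 := card_sylow2_of_120 h120 T₀
  have htH : t ∈ H := Subgroup.mem_centralizer_singleton_iff.mpr rfl
  set t' : H := ⟨t, htH⟩ with ht'
  have ht'o : orderOf t' = 2 := (Subgroup.orderOf_coe t').symm.trans ht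
  have hcen : ∀ c : H, c * t' = t' * c := by
    intro c
    apply Subtype.ext
    have := Subgroup.mem_centralizer_singleton_iff.mp c.2
    simpa using this
  have ht'T : t' ∈ T₀ := central_mem_sylow t' ht'o hcen T₀
  set T : Subgroup G := (T₀ : Subgroup H).map H.subtype with hT
  have hTcard : Nat.card T = 8 := by
    rw [hT, Subgroup.card_map_of_injective H.subtype_injective]
    exact hT₀card
  have hTH : T ≤ H := by
    intro x hx
    rw [hT, Subgroup.mem_map] at hx
    obtain ⟨y, -, rfl⟩ := hx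
    exact y.2
  have htT : t ∈ T := by
    rw [hT, Subgroup.mem_map]
    exact ⟨t', ht'T, rfl⟩
  have hT₀eq : T.subgroupOf H = (T₀ : Subgroup H) := by
    rw [hT]
    exact Subgroup.comap_map_eq_self_of_injective H.subtype_injective _
  have ht1 : t ≠ 1 := by
    intro h
    rw [h, orderOf_one] at ht
    omega
  -- a Sylow 2-subgroup of `G` containing `T`
  have hTp : IsPGroup 2 T := IsPGroup.of_card (n := 3) (by rw [hTcard]; norm_num)
  obtain ⟨S, hS⟩ := hTp.exists_le_sylow
  have hScard : Nat.card (S : Subgroup G) = 16 := card_sylow2 hG S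
  have hSH : (S : Subgroup G) ⊓ H = T := by
    apply le_antisymm
    · have hp : IsPGroup 2 (((S : Subgroup G) ⊓ H).subgroupOf H) := by
        have h1 : IsPGroup 2 ((S : Subgroup G) ⊓ H : Subgroup G) :=
          S.isPGroup'.to_le inf_le_left
        exact h1.comap_of_injective H.subtype H.subtype_injective
      have hle : (T₀ : Subgroup H) ≤ ((S : Subgroup G) ⊓ H).subgroupOf H := by
        intro x hx
        rw [Subgroup.mem_subgroupOf, Subgroup.mem_inf]
        refine ⟨hS ?_, x.2⟩
        rw [hT, Subgroup.mem_map]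
        exact ⟨x, hx, rfl⟩
      have heq := T₀.is_maximal' hp hle
      intro x hx
      have hxH : x ∈ H := (Subgroup.mem_inf.mp hx).2
      have : (⟨x, hxH⟩ : H) ∈ ((S : Subgroup G) ⊓ H).subgroupOf H := by
        rw [Subgroup.mem_subgroupOf]; exact hx
      rw [heq] at this
      rw [hT, Subgroup.mem_map]
      exact ⟨⟨x, hxH⟩, this, rfl⟩
    · exact le_inf hS hTH
  -- an element `s ∈ S ∖ T`
  obtain ⟨s, hsS, hsT⟩ : ∃ s ∈ (S : Subgroup G), s ∉ T := by
    by_contra hcon
    push Not at hcon
    have hle : (S : Subgroup G) ≤ T := hcon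
    have := Subgroup.card_le_of_le hle
    rw [hScard, hTcard] at this
    omega
  have hsH : s ∉ H := by
    intro h
    apply hsT
    rw [← hSH]
    exact Subgroup.mem_inf.mpr ⟨hsS, h⟩
  have hrel : T.relIndex (S : Subgroup G) = 2 := by
    have := Cfsg.Agent.Lib.Helper17_Sylow.card_mul_relIndex_of_le hS
    rw [hTcard, hScard] at this
    omega
  have hnorm : (T.subgroupOf (S : Subgroup G)).Normal := Subgroup.normal_of_index_eq_two hrel
  have hSN : (S : Subgroup G) ≤ Subgroup.normalizer (T : Set G) :=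
    (Subgroup.normal_subgroupOf_iff_le_normalizer hS).mp hnorm
  have hsN : s ∈ Subgroup.normalizer (T : Set G) := hSN hsS
  have hst : s * t * s⁻¹ ≠ t := by
    intro h
    apply hsH
    rw [hH, Subgroup.mem_centralizer_singleton_iff]
    calc s * t = (s * t * s⁻¹) * s := by group
      _ = t * s := by rw [h]
  have hTt : ∀ u ∈ T, u * t = t * u :=
    fun u hu => Subgroup.mem_centralizer_singleton_iff.mp (hTH hu)
  -- `T` is abelian
  have hts : s * t * s⁻¹ ∈ T := (Subgroup.mem_normalizer_iff.mp hsN t).mp htT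
  have hTcomm : ∀ a ∈ T, ∀ b ∈ T, a * b = b * a := by
    intro a ha b hb
    have hc1 : (⟨t, htT⟩ : T) ∈ Subgroup.center T := by
      rw [Subgroup.mem_center_iff]
      intro g
      exact Subtype.ext (hTt g g.2)
    have hc2 : (⟨s * t * s⁻¹, hts⟩ : T) ∈ Subgroup.center T := by
      rw [Subgroup.mem_center_iff]
      intro g
      apply Subtype.ext
      have hg' : s⁻¹ * (g : G) * s ∈ T := by
        have := (Subgroup.mem_normalizer_iff.mp
          ((Subgroup.normalizer (T : Set G)).inv_mem hsN) (g : G)).mp g.2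
        simpa using this
      show (g : G) * (s * t * s⁻¹) = (s * t * s⁻¹) * (g : G)
      calc (g : G) * (s * t * s⁻¹) = s * ((s⁻¹ * (g : G) * s) * t) * s⁻¹ := by group
        _ = s * (t * (s⁻¹ * (g : G) * s)) * s⁻¹ := by rw [hTt _ hg']
        _ = (s * t * s⁻¹) * (g : G) := by group
    have hn1 : (⟨t, htT⟩ : T) ≠ 1 := fun h => ht1 (congrArg Subtype.val h)
    have hn2 : (⟨s * t * s⁻¹, hts⟩ : T) ≠ 1 := by
      intro h
      have h1 : s * t * s⁻¹ = 1 := congrArg Subtype.val h
      apply ht1
      have : t = s⁻¹ * (s * t * s⁻¹) * s := by group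
      rw [this, h1]; group
    have hn3 : (⟨t, htT⟩ : T) ≠ ⟨s * t * s⁻¹, hts⟩ := by
      intro h
      exact hst (congrArg Subtype.val h).symm
    have := comm_of_card_eight hTcard _ _ hc1 hc2 hn1 hn2 hn3 ⟨a, ha⟩ ⟨b, hb⟩
    exact congrArg Subtype.val this
  -- Burnside
  have hPH : (P : Subgroup G) ≤ H := Subgroup.le_normalizer.trans hNt
  set A₀ : Subgroup H := (P : Subgroup G).subgroupOf H with hA₀def
  have hPcard : Nat.card (P : Subgroup G) = 5 := by
    rw [P.card_eq_multiplicity, card_sylow5 hG, pow_one]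
  have hA₀ : Nat.card A₀ = 5 := by
    rw [Nat.card_congr (Subgroup.subgroupOfEquivOfLe hPH).toEquiv, hPcard]
  have hne : ∃ h : H, A₀.map (MulAut.conj h).toMonoidHom ≠ A₀ := by
    by_contra hcon
    push Not at hcon
    have htop : Subgroup.normalizer (A₀ : Set H) = ⊤ := by
      rw [eq_top_iff]
      intro h _
      rw [Subgroup.mem_normalizer_iff_map_conj_eq]
      exact hcon h
    rw [hA₀def, ← Subgroup.subgroupOf_normalizer_eq hPH, Subgroup.subgroupOf_eq_top] at htop
    have := Subgroup.card_le_of_le htop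
    rw [h120, (h5 P).1] at this
    omega
  have hburn := not_normalizer_le_centralizer h120 T₀ A₀ hA₀ hne
  obtain ⟨g, hgN, hgC⟩ := SetLike.not_le_iff_exists.mp hburn
  have hgN' : (g : G) ∈ Subgroup.normalizer (T : Set G) := by
    have : g ∈ (Subgroup.normalizer (T : Set G)).subgroupOf H := by
      rw [Subgroup.subgroupOf_normalizer_eq hTH, hT₀eq]
      exact hgN
    exact Subgroup.mem_subgroupOf.mp this
  have hgC' : (g : G) ∉ Subgroup.centralizer (T : Set G) := by
    intro hc
    apply hgC
    rw [Subgroup.mem_centralizer_iff]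
    intro u hu
    have huT : (u : G) ∈ T := Subgroup.mem_map.mpr ⟨u, hu, rfl⟩
    have := (Subgroup.mem_centralizer_iff.mp hc) (u : G) huT
    exact Subtype.ext this
  -- the odd part of `g`
  have hg120H : g ^ 120 = 1 := by
    have := pow_card_eq_one' (G := H) (x := g)
    rwa [h120] at this
  have hg120 : (g : G) ^ 120 = 1 := by
    have := congrArg Subtype.val hg120H
    simpa using this
  have hzT : (g : G) ^ 15 ∈ T := by
    set z₀ : H := g ^ 15 with hz₀
    have hz8 : z₀ ^ (2 ^ 3) = 1 := by
      rw [hz₀, ← pow_mul]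
      exact hg120H
    have hzp : IsPGroup 2 (Subgroup.zpowers z₀) := by
      obtain ⟨k, -, hk⟩ := (Nat.dvd_prime_pow Nat.prime_two).mp (orderOf_dvd_of_pow_eq_one hz8)
      exact IsPGroup.of_card (n := k) (by rw [Nat.card_zpowers, hk])
    have hzN : Subgroup.zpowers z₀ ≤ Subgroup.normalizer ((T₀ : Subgroup H) : Set H) := by
      rw [Subgroup.zpowers_le]
      exact Subgroup.pow_mem _ hgN 15
    have hsup := IsPGroup.to_sup_of_normal_left' T₀.isPGroup' hzp hzN
    have hmax := T₀.is_maximal' hsup le_sup_left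
    have hzmem : z₀ ∈ (T₀ : Subgroup H) := by
      rw [← hmax]
      exact Subgroup.mem_sup_right (Subgroup.mem_zpowers z₀)
    rw [hT, Subgroup.mem_map]
    exact ⟨z₀, hzmem, by simp [hz₀]⟩
  have hzC : (g : G) ^ 15 ∈ Subgroup.centralizer (T : Set G) := by
    rw [Subgroup.mem_centralizer_iff]
    intro u hu
    exact hTcomm u hu _ hzT
  obtain ⟨u₁, hu₁⟩ : ∃ u : G, u = (g : G) ^ 16 := ⟨_, rfl⟩
  have hg_eq : (g : G) = ((g : G) ^ 15)⁻¹ * u₁ := by
    rw [hu₁, pow_succ (g : G) 15, inv_mul_cancel_left]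
  have hu₁N : u₁ ∈ Subgroup.normalizer (T : Set G) := by
    rw [hu₁]; exact Subgroup.pow_mem _ hgN' 16
  have hu₁C : u₁ ∉ Subgroup.centralizer (T : Set G) := by
    intro hc
    apply hgC'
    rw [hg_eq]
    exact Subgroup.mul_mem _ (Subgroup.inv_mem _ hzC) hc
  have hu₁H : u₁ ∈ H := by
    rw [hu₁]; exact Subgroup.pow_mem _ g.2 16
  have hu15 : u₁ ^ 15 = 1 := by
    rw [hu₁, ← pow_mul]
    calc (g : G) ^ (16 * 15) = ((g : G) ^ 120) ^ 2 := by rw [← pow_mul]
      _ = 1 := by rw [hg120, one_pow]
  obtain ⟨x, hx⟩ : ∃ x : G, x = u₁ ^ 6 := ⟨_, rfl⟩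
  obtain ⟨y, hy⟩ : ∃ y : G, y = u₁ ^ 10 := ⟨_, rfl⟩
  have hx5 : x ^ 5 = 1 := by
    rw [hx, ← pow_mul]
    calc u₁ ^ (6 * 5) = (u₁ ^ 15) ^ 2 := by rw [← pow_mul]
      _ = 1 := by rw [hu15, one_pow]
  have hy3 : y ^ 3 = 1 := by
    rw [hy, ← pow_mul]
    calc u₁ ^ (10 * 3) = (u₁ ^ 15) ^ 2 := by rw [← pow_mul]
      _ = 1 := by rw [hu15, one_pow]
  have hxy : x * y = u₁ := by
    rw [hx, hy, ← pow_add]
    calc u₁ ^ (6 + 10) = u₁ ^ 15 * u₁ := by rw [← pow_succ]
      _ = u₁ := by rw [hu15, one_mul]
  have hx1 : x = 1 := by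
    by_contra hxne
    have hxo : orderOf x = 5 := orderOf_eq_prime hx5 hxne
    exact no_order_five hG h5 T hTcard x hxo (by rw [hx]; exact Subgroup.pow_mem _ hu₁N 6)
  have hyu : y = u₁ := by rw [← hxy, hx1, one_mul]
  have hy1 : y ≠ 1 := by
    intro h
    apply hu₁C
    rw [← hyu, h]
    exact Subgroup.one_mem _
  have hp3 : Fact (Nat.Prime 3) := ⟨by norm_num⟩
  have hyo : orderOf y = 3 := orderOf_eq_prime hy3 hy1
  have hyN : y ∈ Subgroup.normalizer (T : Set G) := by rw [hyu]; exact hu₁N
  have hyC : y ∉ Subgroup.centralizer (T : Set G) := by rw [hyu]; exact hu₁C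
  have hyt : y * t = t * y := by
    have : y ∈ H := by rw [hyu]; exact hu₁H
    exact Subgroup.mem_centralizer_singleton_iff.mp this
  have hfix := fixed_of_order_three T hTcard t ht htT y hyo hyN hyt hyC
  exact orbit_contra hG T hTcard t ht1 htT hTt s hsN hst y hyo hyN hyt hfix

end main

end Cfsg.Agent.Lib.Helper75_M11_L5_120
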