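import Mathlib
import Cfsg.Agent.Lib.Helper75_MI3Defs

set_option autoImplicit false

/-!
Small tools for S2144 (helper75): arithmetic of the field with three elements in an `OddSetting`, and all
the numerics in terms of `P = 3^k`.
-/

namespace Cfsg.Agent.Lib.Helper75_MI3Tools

open Module Cfsg.Agent.Lib.Helper14_OmegaSimple Cfsg.Agent.Lib.Helper22_MI2Defs
  Cfsg.Agent.Lib.Helper75_MI3Defs

variable {F V : Type*} [Field F] [AddCommGroup V] [Module F V]

/-- In an odd setting `3 = 0` in `F`. -/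
theorem three_eq_zero {Q : QuadraticForm F V} {k : ℕ} (hS : OddSetting Q k) : (3 : F) = 0 := by
  rcases hS.f3 2 with h | h | h
  · exact absurd h hS.two_ne
  · exfalso
    have : (1 : F) = 0 := by linear_combination h
    exact one_ne_zero this
  · linear_combination h

/-- In an odd setting `-1 ≠ 1` in `F`. -/
theorem neg_one_ne_one {Q : QuadraticForm F V} {k : ℕ} (hS : OddSetting Q k) : (-1 : F) ≠ 1 := by
  intro h
  apply hS.two_ne
  linear_combination -h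

/-- Every nonzero scalar of an odd setting squares to one. -/
theorem sq_eq_one {Q : QuadraticForm F V} {k : ℕ} (hS : OddSetting Q k) {c : F} (hc : c ≠ 0) :
    c * c = 1 := by
  rcases hS.f3 c with h | h | h
  · exact absurd h hc
  · rw [h]; ring
  · rw [h]; ring

/-- `2 * Nmin3 k = 3^k * (3^k - 1)`. -/
theorem two_mul_Nmin3 (k : ℕ) : 2 * Nmin3 k = 3 ^ k * (3 ^ k - 1) := by
  unfold Nmin3
  have hodd : Odd (3 ^ k) := Odd.pow (by decide)
  have heven : Even (3 ^ k * (3 ^ k - 1)) := by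
    obtain ⟨j, hj⟩ := hodd
    rw [hj]
    have : 2 * j + 1 - 1 = 2 * j := by omega
    rw [this]
    exact ⟨(2 * j + 1) * j, by ring⟩
  exact Nat.two_mul_div_two_of_even heven

/-- All the numerics of S2144 in terms of `P = 3^k`. -/
theorem nums3 (k : ℕ) : ∃ P : ℕ, 1 ≤ P ∧ 3 ^ k = P ∧ 3 ^ (2 * k) = P * P ∧
    3 ^ (2 * k + 1) = 3 * (P * P) ∧ 2 * Nmin3 k + P = P * P ∧
    2 * Nmin3 (k + 1) + 3 * P = 9 * (P * P) ∧ (2 ≤ k → 9 ≤ P) ∧ (3 ≤ k → 27 ≤ P) := by
  refine ⟨3 ^ k, Nat.one_le_pow _ _ (by norm_num), rfl, ?_, ?_, ?_, ?_, ?_, ?_⟩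
  · rw [two_mul, pow_add]
  · rw [pow_succ, two_mul, pow_add]; ring
  · rw [two_mul_Nmin3]
    have h1 : 1 ≤ 3 ^ k := Nat.one_le_pow _ _ (by norm_num)
    obtain ⟨j, hj⟩ : ∃ j, 3 ^ k = j + 1 := ⟨3 ^ k - 1, by omega⟩
    rw [hj]
    have : j + 1 - 1 = j := by omega
    rw [this]; ring
  · rw [two_mul_Nmin3, pow_succ]
    have h1 : 1 ≤ 3 ^ k := Nat.one_le_pow _ _ (by norm_num)
    obtain ⟨j, hj⟩ : ∃ j, 3 ^ k = j + 1 := ⟨3 ^ k - 1, by omega⟩
    rw [hj]
    have : (j + 1) * 3 - 1 = 3 * j + 2 := by omega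
    rw [this]; ring
  · intro hk
    calc 9 = 3 ^ 2 := by norm_num
      _ ≤ 3 ^ k := Nat.pow_le_pow_right (by norm_num) hk
  · intro hk
    calc 27 = 3 ^ 3 := by norm_num
      _ ≤ 3 ^ k := Nat.pow_le_pow_right (by norm_num) hk

end Cfsg.Agent.Lib.Helper75_MI3Tools
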