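import Cfsg.Agent.Lib.Helper75_RelGlaubGal
import Cfsg.Agent.Lib.Helper75_CanonExt
import Cfsg.Agent.Lib.Helper80_StabCover
import Cfsg.Agent.S0867

/-!
# The relative Glauberman correspondence, stage II: over an invariant character (helper75)

`θ ∈ Irr Q` is invariant in `K` and under the operator group `S`.  Then the irreducible
characters of `K` over `θ` that are `S`-invariant correspond to the irreducible characters of
`C` over `θ`, through the canonical extension of `θ`, Gallagher's correspondence and the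
`p`-group Glauberman correspondence of `K ⧸ Q`.
-/

set_option autoImplicit false
set_option linter.unusedSectionVars false
open scoped ComplexConjugate

namespace Cfsg.Agent.Lib.Helper75_RelGlaubInv

open Cfsg.Agent.Lib.Helper3_CharBridge Cfsg.Agent.Lib.Helper3_CharOrtho
  Cfsg.Agent.Lib.Helper75_CharArith Cfsg.Agent.Lib.Helper3_GlaubGood
  Cfsg.Agent.Lib.Helper3_GlaubInd Cfsg.Agent.Lib.Helper75_Clifford
  Cfsg.Agent.Lib.Helper75_RelGlaubBasic Cfsg.Agent.Lib.Helper75_RelGlaubQuot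
  Cfsg.Agent.Lib.Helper75_RelGlaubGal Cfsg.Agent.Lib.Helper75_LinChar
  Cfsg.Agent.Lib.Helper75_DetChar Cfsg.Agent.Lib.Helper3_BrauerPermAut

universe u

section prelim

variable {G H : Type*} [Group G] [Group H] [Finite G] [Finite H]

theorem detChar_comp_equiv (e : G ≃* H) {χ : H → ℂ} (hχ : Cfsg.IsCharacter H χ) :
    Cfsg.detChar (fun g => χ (e g)) = fun g => Cfsg.detChar χ (e g) := by
  obtain ⟨n, ρ, rfl⟩ := hχ
  set τ : Representation ℂ G (Fin n → ℂ) := MonoidHom.comp ρ e.toMonoidHom with hτ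
  have h1 : (fun g => ρ.character (e g)) = τ.character := rfl
  rw [h1, detChar_of_rep, detChar_of_rep]
  rfl

theorem detOrder_comp_equiv (e : G ≃* H) {χ : H → ℂ} (hχ : Cfsg.IsCharacter H χ) :
    Cfsg.detOrder (fun g => χ (e g)) = Cfsg.detOrder χ := by
  unfold Cfsg.detOrder
  rw [detChar_comp_equiv e hχ]
  rw [orderOf_eq_orderOf_iff]
  intro n
  constructor
  · intro h
    funext x
    have h1 := congrFun h (e.symm x)
    simp only [Pi.pow_apply, Pi.one_apply, MulEquiv.apply_symm_apply] at h1 ⊢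
    exact h1
  · intro h
    funext g
    have h1 := congrFun h (e g)
    simp only [Pi.pow_apply, Pi.one_apply] at h1 ⊢
    exact h1

theorem detOrder_dvd_card {χ : G → ℂ} (hχ : Cfsg.IsCharacter G χ) :
    Cfsg.detOrder χ ∣ Nat.card G := by
  unfold Cfsg.detOrder
  apply orderOf_dvd_of_pow_eq_one
  funext g
  rw [Pi.pow_apply, Pi.one_apply]
  exact IsLin.pow_card_eq_one (isCharacter_detChar hχ) g

/-- A character with an irreducible restriction is irreducible. -/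
theorem isIrr_of_comp_irr {N : Type*} [Group N] [Finite N] (f : N →* G) {ψ : G → ℂ}
    (hψ : Cfsg.IsCharacter G ψ) (hres : Cfsg.IsIrrCharacter N (fun n => ψ (f n))) :
    Cfsg.IsIrrCharacter G ψ := by
  have : Fintype N := Fintype.ofFinite N
  obtain ⟨n, ρ, rfl⟩ := hψ
  obtain ⟨m, σ, hσirr, hσ⟩ := hres
  have hσ' : σ.IsIrreducible := hσirr
  set τ : Representation ℂ N (Fin n → ℂ) := MonoidHom.comp ρ f with hτ
  have h1 : σ.character = τ.character := hσ
  obtain ⟨e⟩ := Cfsg.Agent.Lib.Helper3_RepDecomp.nonempty_equiv_of_char_eq σ τ h1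
  have h2 : τ.IsIrreducible := isIrreducible_of_equiv e
  have h3 : ρ.IsIrreducible :=
    Cfsg.Agent.Lib.Helper80_StabCover.isIrreducible_of_comp f ρ τ (fun _ => rfl)
  exact ⟨n, ρ, h3, rfl⟩

end prelim

section stage2

variable {K C S : Type u} [Group K] [Group C] [Group S] [Fintype K] [Fintype C]

/-- Invariance of a function on `C`, expressed through `ι`. -/
def SInvι (φ : S →* MulAut K) (ι : C →* K) (ξ : C → ℂ) : Prop :=
  ∀ (s : S) (c c' : C), ι c' = φ s (ι c) → ξ c' = ξ c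

/-- The character of `Q.comap ι` corresponding to `θ`. -/
def thetaC (ι : C →* K) (Q : Subgroup K) (θ : Q → ℂ) : Q.comap ι → ℂ :=
  fun q => θ ⟨ι q, q.2⟩

theorem isIrr_thetaC (ι : C →* K) (hι : Function.Injective ι) (Q : Subgroup K)
    (hQle : ∀ q ∈ Q, q ∈ ι.range) {θ : Q → ℂ} (hθ : Cfsg.IsIrrCharacter Q θ) :
    Cfsg.IsIrrCharacter (Q.comap ι) (thetaC ι Q θ) := by
  have hbij : Function.Bijective (ι.subgroupComap Q) := by
    constructor
    · intro a b h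
      apply Subtype.ext
      apply hι
      exact congrArg Subtype.val h
    · intro q
      obtain ⟨c, hc⟩ := hQle q q.2
      refine ⟨⟨c, ?_⟩, ?_⟩
      · show ι c ∈ Q
        rw [hc]; exact q.2
      · apply Subtype.ext
        exact hc
  exact Cfsg.Agent.Lib.Helper74_GoingUp.isIrr_comp_equiv (MulEquiv.ofBijective _ hbij) hθ

/-- The Gallagher character attached to `δ` by the package `h`. -/
noncomputable def galChar {X : Type*} [Group X] [Fintype X] {N : Subgroup X} [N.Normal] [Fintype N]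
    [Fintype (X ⧸ N)] {ϑ : N → ℂ} {ψ : X → ℂ} (h : GalPkg N ϑ ψ)
    (δ : Cfsg.IrrCharacter (X ⧸ N)) : Cfsg.IrrCharacter X :=
  ⟨(inflN N δ : X → ℂ) * ψ, h.irr δ⟩

theorem galChar_injective {X : Type*} [Group X] [Fintype X] {N : Subgroup X} [N.Normal]
    [Fintype N] [Fintype (X ⧸ N)] {ϑ : N → ℂ} {ψ : X → ℂ} (h : GalPkg N ϑ ψ) :
    Function.Injective (galChar h) := fun δ δ' h0 => h.inj δ δ' (congrArg Subtype.val h0)

/-- Transfer of goodness through Gallagher's correspondence. -/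
theorem good_gal_iff {X : Type*} [Group X] [Fintype X] {N : Subgroup X} [N.Normal] [Fintype N]
    [Fintype (X ⧸ N)] {ϑ : N → ℂ} {ψ : X → ℂ} (h : GalPkg N ϑ ψ) (p : ℕ)
    {Φ : X ⧸ N → ℂ} (hΦ : Cfsg.IsCharacter (X ⧸ N) Φ) (δ : Cfsg.IrrCharacter (X ⧸ N)) :
    Good p Φ δ ↔ Good p ((fun x : X => Φ (QuotientGroup.mk' N x)) * ψ) (galChar h δ) := by
  constructor
  · intro hg
    refine ⟨?_, ?_⟩
    · obtain ⟨m, ε, hε, hm⟩ := hg.1
      refine ⟨m, ε, hε, ?_⟩
      rw [← hm]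
      exact h.classInner_eq hΦ δ
    · intro γ hγ
      by_cases hex : ∃ δ', γ = galChar h δ'
      · obtain ⟨δ', rfl⟩ := hex
        have hne : δ' ≠ δ := fun h0 => hγ (by rw [h0])
        obtain ⟨m', hm'⟩ := hg.2 δ' hne
        refine ⟨m', ?_⟩
        rw [← hm']
        exact h.classInner_eq hΦ δ'
      · refine ⟨0, ?_⟩
        rw [h.classInner_orth hΦ γ.2 (fun δ' h0 => hex ⟨δ', Subtype.ext h0⟩)]
        simp
  · intro hg
    refine ⟨?_, ?_⟩
    · obtain ⟨m, ε, hε, hm⟩ := hg.1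
      refine ⟨m, ε, hε, ?_⟩
      rw [← hm]
      exact (h.classInner_eq hΦ δ).symm
    · intro δ' hδ'
      have hne : galChar h δ' ≠ galChar h δ := fun h0 => hδ' (galChar_injective h h0)
      obtain ⟨m', hm'⟩ := hg.2 _ hne
      refine ⟨m', ?_⟩
      rw [← hm']
      exact (h.classInner_eq hΦ δ').symm

/-- A good constituent of `(Φ ∘ mk) * ψ` is in the image of Gallagher's map. -/
theorem exists_gal_of_good {X : Type*} [Group X] [Fintype X] {N : Subgroup X} [N.Normal]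
    [Fintype N] [Fintype (X ⧸ N)] {ϑ : N → ℂ} {ψ : X → ℂ} (h : GalPkg N ϑ ψ) {p : ℕ}
    (hp : 2 ≤ p) {Φ : X ⧸ N → ℂ} (hΦ : Cfsg.IsCharacter (X ⧸ N) Φ) (γ : Cfsg.IrrCharacter X)
    (hg : Good p ((fun x : X => Φ (QuotientGroup.mk' N x)) * ψ) γ) :
    ∃ δ, γ = galChar h δ := by
  by_contra hex
  have h0 := h.classInner_orth hΦ γ.2 (fun δ' h0 => hex ⟨δ', Subtype.ext h0⟩)
  obtain ⟨m, ε, hε, hm⟩ := hg.1
  rw [h0] at hm
  have h1 : (0 : ℤ) = (p : ℤ) * m + ε := by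
    have : ((0 : ℤ) : ℂ) = (((p : ℤ) * m + ε : ℤ) : ℂ) := by rw [← hm]; simp
    exact Int.cast_injective this
  exact not_dvd_of_pm_one hp hε (m' := 0) (m := m) (by rw [mul_zero]; exact h1)

end stage2

section stage2main

variable {K C S : Type u} [Group K] [Group C] [Group S] [Fintype K] [Fintype C]

/-- **Stage II**: the correspondence over a character `θ` of `Q` which is invariant in `K` and
under `S`. -/
theorem inv_corr {p : ℕ} [hp : Fact p.Prime] (φ : S →* MulAut K) (ι : C →* K)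
    (hι : Function.Injective ι) (Q : Subgroup K) [hQ : Q.Normal] [hQC : (Q.comap ι).Normal]
    [Fintype Q] [Fintype (Q.comap ι)]
    (hQφ : ∀ s, ∀ q ∈ Q, φ s q ∈ Q)
    (hrange : ∀ k : K, k ∈ ι.range ↔ ∀ s : S, φ s k * k⁻¹ ∈ Q)
    {n : ℕ} (hS : Nat.card S = p ^ n) (hidx : ¬ p ∣ Q.index)
    {a : ℕ} (hQp : Nat.card Q = p ^ a)
    {θ : Q → ℂ} (hθ : Cfsg.IsIrrCharacter Q θ)
    (hθK : ∀ (k : K) (q : Q), θ ⟨k * q * k⁻¹, hQ.conj_mem (q : K) q.2 k⟩ = θ q)
    (hθS : ∀ (s : S) (q : Q), θ ⟨φ s q, hQφ s q q.2⟩ = θ q) :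
    (∀ χ : Cfsg.IrrCharacter K, SInv φ (χ : K → ℂ) → Over Q θ (χ : K → ℂ) →
      ∃ ξ : Cfsg.IrrCharacter C, Over (Q.comap ι) (thetaC ι Q θ) (ξ : C → ℂ) ∧
        Good p (fun c => (χ : K → ℂ) (ι c)) ξ) ∧
    (∀ ξ : Cfsg.IrrCharacter C, Over (Q.comap ι) (thetaC ι Q θ) (ξ : C → ℂ) →
      SInvι φ ι (ξ : C → ℂ)) ∧
    (∀ χ χ' : Cfsg.IrrCharacter K, SInv φ (χ : K → ℂ) → SInv φ (χ' : K → ℂ) →
      Over Q θ (χ : K → ℂ) → Over Q θ (χ' : K → ℂ) →
      ∀ ξ : Cfsg.IrrCharacter C, Good p (fun c => (χ : K → ℂ) (ι c)) ξ →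
        Good p (fun c => (χ' : K → ℂ) (ι c)) ξ → χ = χ') ∧
    (∀ ξ : Cfsg.IrrCharacter C, Over (Q.comap ι) (thetaC ι Q θ) (ξ : C → ℂ) →
      ∃ χ : Cfsg.IrrCharacter K, SInv φ (χ : K → ℂ) ∧ Over Q θ (χ : K → ℂ) ∧
        Good p (fun c => (χ : K → ℂ) (ι c)) ξ) := by
  classical
  have hp2 : 2 ≤ p := hp.out.two_le
  have : Fintype (K ⧸ Q) := Fintype.ofFinite _
  have : Fintype (C ⧸ Q.comap ι) := Fintype.ofFinite _
  have ABC := quot_abc φ ι Q hQφ hrange hS hidx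
  have hQle : ∀ q ∈ Q, q ∈ ι.range := by
    intro q hq
    rw [hrange]
    intro s
    exact Q.mul_mem (hQφ s q hq) (Q.inv_mem hq)
  -- the canonical extension
  obtain ⟨d, hd, _, hddvd⟩ := Cfsg.Agent.Lib.Helper75_CanonExt.exists_degree hθ
  have hcopp : Nat.Coprime Q.index (p ^ a) :=
    Nat.Coprime.pow_right a ((Nat.Prime.coprime_iff_not_dvd hp.out).mpr hidx).symm
  have hcopθ : Nat.Coprime Q.index (Cfsg.detOrder θ) := by
    apply Nat.Coprime.coprime_dvd_right _ hcopp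
    rw [← hQp]
    exact detOrder_dvd_card (isCharacter_of_isIrrCharacter hθ)
  have hcop : Nat.Coprime Q.index (Cfsg.detOrder θ * d) := by
    apply Nat.Coprime.mul_right hcopθ
    apply Nat.Coprime.coprime_dvd_right _ hcopp
    rw [← hQp]
    exact hddvd
  obtain ⟨θh, ⟨hθhirr, hθhext, hθhdet⟩, hθhuniq⟩ :=
    Cfsg.Agent.S0867.result Q θ hθ hθK d hd hcop
  have hθhS : SInv φ θh := by
    intro s k
    have h1 := hθhuniq (fun k => θh (φ s k))
      (Cfsg.Agent.Lib.Helper74_GoingUp.isIrr_comp_equiv (φ s) hθhirr)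
      (fun q => by
        show θh (φ s q) = θ q
        rw [hθhext ⟨φ s q, hQφ s q q.2⟩]
        exact hθS s q)
      (by
        rw [detOrder_comp_equiv (φ s) (isCharacter_of_isIrrCharacter hθhirr), hθhdet]
        exact hcopθ)
    exact congrFun h1 k
  -- Gallagher packages
  have galK : GalPkg Q θ θh := galPkg_of_ext Q hθ hθK hθhirr hθhext
  have hθCirr := isIrr_thetaC ι hι Q hQle hθ
  have hθCinv : ∀ (c : C) (q : Q.comap ι),
      thetaC ι Q θ ⟨c * q * c⁻¹, hQC.conj_mem (q : C) q.2 c⟩ = thetaC ι Q θ q := by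
    intro c q
    unfold thetaC
    rw [← hθK (ι c) ⟨ι q, q.2⟩]
    congr 1
    apply Subtype.ext
    simp
  have hθhCchar : Cfsg.IsCharacter C (fun c => θh (ι c)) :=
    isCharacter_comp ι (isCharacter_of_isIrrCharacter hθhirr)
  have hθhCext : ∀ q : Q.comap ι, (fun c => θh (ι c)) (q : C) = thetaC ι Q θ q :=
    fun q => hθhext ⟨ι q, q.2⟩
  have hθhCirr : Cfsg.IsIrrCharacter C (fun c => θh (ι c)) := by
    apply isIrr_of_comp_irr (Q.comap ι).subtype hθhCchar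
    have : (fun q : Q.comap ι => (fun c => θh (ι c)) ((Q.comap ι).subtype q)) = thetaC ι Q θ :=
      funext hθhCext
    rw [this]
    exact hθCirr
  have galC : GalPkg (Q.comap ι) (thetaC ι Q θ) (fun c => θh (ι c)) :=
    galPkg_of_ext (Q.comap ι) hθCirr hθCinv hθhCirr hθhCext
  -- the key relation
  have hchar : ∀ βb : Cfsg.IrrCharacter (K ⧸ Q),
      Cfsg.IsCharacter (C ⧸ Q.comap ι) (fun x => (βb : K ⧸ Q → ℂ) (quotMap ι Q x)) := fun βb =>
    isCharacter_comp (quotMap ι Q) (isCharacter_of_isIrrCharacter βb.2)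
  have hkey : ∀ βb : Cfsg.IrrCharacter (K ⧸ Q),
      (fun c => (galChar galK βb : K → ℂ) (ι c)) =
        (fun c : C => (fun x => (βb : K ⧸ Q → ℂ) (quotMap ι Q x))
          (QuotientGroup.mk' (Q.comap ι) c)) * (fun c => θh (ι c)) := by
    intro βb
    funext c
    rfl
  have hgood : ∀ (βb : Cfsg.IrrCharacter (K ⧸ Q)) (γb : Cfsg.IrrCharacter (C ⧸ Q.comap ι)),
      Good p (fun x => (βb : K ⧸ Q → ℂ) (quotMap ι Q x)) γb ↔
        Good p (fun c => (galChar galK βb : K → ℂ) (ι c)) (galChar galC γb) := by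
    intro βb γb
    rw [hkey βb]
    exact good_gal_iff galC p (hchar βb) γb
  -- invariance transfers
  have hInv : ∀ βb : Cfsg.IrrCharacter (K ⧸ Q), SInv φ (galChar galK βb : K → ℂ) →
      InvSet (Set.range (quotHom φ Q hQφ)) (βb : K ⧸ Q → ℂ) := by
    rintro βb h a ⟨s, rfl⟩
    have h1 : galChar galK (compAut (quotHom φ Q hQφ s) βb) = galChar galK βb := by
      apply Subtype.ext
      funext k
      have h2 := h s k
      show (βb : K ⧸ Q → ℂ) (quotHom φ Q hQφ s (k : K ⧸ Q)) * θh k = _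
      rw [← h2]
      show _ = (βb : K ⧸ Q → ℂ) ((φ s k : K) : K ⧸ Q) * θh (φ s k)
      rw [hθhS s k]
      rfl
    have h3 := galChar_injective galK h1
    intro x
    exact congrFun (congrArg Subtype.val h3) x
  have hInv' : ∀ βb : Cfsg.IrrCharacter (K ⧸ Q),
      InvSet (Set.range (quotHom φ Q hQφ)) (βb : K ⧸ Q → ℂ) →
      SInv φ (galChar galK βb : K → ℂ) := by
    intro βb h s k
    show (βb : K ⧸ Q → ℂ) ((φ s k : K) : K ⧸ Q) * θh (φ s k) = (βb : K ⧸ Q → ℂ) (k : K ⧸ Q) * θh k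
    rw [hθhS s k]
    congr 1
    exact h _ ⟨s, rfl⟩ (k : K ⧸ Q)
  have hKsurj : ∀ χ : Cfsg.IrrCharacter K, Over Q θ (χ : K → ℂ) → ∃ βb, χ = galChar galK βb := by
    intro χ hχ
    obtain ⟨βb, hβb⟩ := galK.surj χ χ.2 hχ
    exact ⟨βb, Subtype.ext hβb⟩
  have hCsurj : ∀ ξ : Cfsg.IrrCharacter C, Over (Q.comap ι) (thetaC ι Q θ) (ξ : C → ℂ) →
      ∃ γb, ξ = galChar galC γb := by
    intro ξ hξ
    obtain ⟨γb, hγb⟩ := galC.surj ξ ξ.2 hξ
    exact ⟨γb, Subtype.ext hγb⟩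
  refine ⟨?_, ?_, ?_, ?_⟩
  · intro χ hχinv hχover
    obtain ⟨βb, rfl⟩ := hKsurj χ hχover
    obtain ⟨γb, hγb⟩ := ABC.exists_good βb (hInv βb hχinv)
    exact ⟨galChar galC γb, galC.isOver γb, (hgood βb γb).mp hγb⟩
  · intro ξ hξ
    obtain ⟨γb, rfl⟩ := hCsurj ξ hξ
    intro s c c' hcc'
    show (γb : C ⧸ Q.comap ι → ℂ) (c' : C ⧸ Q.comap ι) * θh (ι c') =
      (γb : C ⧸ Q.comap ι → ℂ) (c : C ⧸ Q.comap ι) * θh (ι c)
    have hmk : ((c' : C) : C ⧸ Q.comap ι) = ((c : C) : C ⧸ Q.comap ι) := by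
      apply mk_eq_of_mul_inv_mem (Q.comap ι)
      show ι (c' * c⁻¹) ∈ Q
      rw [map_mul, map_inv, hcc']
      exact (hrange (ι c)).mp ⟨c, rfl⟩ s
    rw [hcc', hθhS s (ι c), hmk]
  · intro χ χ' hχinv hχ'inv hχover hχ'over ξ hg hg'
    obtain ⟨βb, rfl⟩ := hKsurj χ hχover
    obtain ⟨βb', rfl⟩ := hKsurj χ' hχ'over
    rw [hkey βb] at hg
    obtain ⟨γb, rfl⟩ := exists_gal_of_good galC hp2 (hchar βb) ξ hg
    rw [← hkey βb] at hg
    have h1 := (hgood βb γb).mpr hg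
    have h2 := (hgood βb' γb).mpr hg'
    rw [ABC.inj βb βb' (hInv βb hχinv) (hInv βb' hχ'inv) γb h1 h2]
  · intro ξ hξ
    obtain ⟨γb, rfl⟩ := hCsurj ξ hξ
    obtain ⟨βb, hβbinv, hβbg⟩ := ABC.surj γb
    exact ⟨galChar galK βb, hInv' βb hβbinv, galK.isOver βb, (hgood βb γb).mp hβbg⟩

end stage2main

end Cfsg.Agent.Lib.Helper75_RelGlaubInv
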